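import Mathlib
import Cfsg.Prelude.Def_Characters
import Cfsg.Agent.Lib.Helper3_FrobRamLocal
import Cfsg.Agent.Lib.Helper3_FrobRamCoset
import Cfsg.Agent.Lib.Helper75_ExtendCyclic
import Cfsg.Agent.Lib.Helper75_CharProd

/-!
# Fully ramified sections under a cyclic Frobenius action (helper3)

`N ≤ G ⊴ Γ`, `Γ/G` cyclic, `Γ/N` Frobenius with kernel `G/N`, `θ ∈ Irr N` invariant in `Γ`
and fully ramified in `G` (`θ^G = e χ`).  Then `[Γ:G]` divides `e - 1` or `e + 1`.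
-/

set_option autoImplicit false
set_option linter.unusedSectionVars false
open scoped ComplexConjugate

namespace Cfsg.Agent.Lib.Helper3_FrobRamGlobal

open Cfsg Cfsg.Agent.Lib.Helper3_CharBridge Cfsg.Agent.Lib.Helper3_CharOrtho
  Cfsg.Agent.Lib.Helper75_CharArith Cfsg.Agent.Lib.Helper75_Induced
  Cfsg.Agent.Lib.Helper75_Clifford Cfsg.Agent.Lib.Helper75_CharProd
  Cfsg.Agent.Lib.Helper75_CosetNorm Cfsg.Agent.Lib.Helper75_ExtendCyclic

variable {Γ : Type*} [Group Γ] [Fintype Γ]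

section Ram

variable (G N : Subgroup Γ) [hG : G.Normal] [hN : N.Normal] [Fintype G] [Fintype N] (hNG : N ≤ G)
  (θ : IrrCharacter N)
  (hinv : ∀ (x : Γ) (n : N), (θ : N → ℂ) ⟨x * n * x⁻¹, hN.conj_mem n n.2 x⟩ = (θ : N → ℂ) n)
  (χ : IrrCharacter G) (e : ℕ)
  (hram : indFun (N.subgroupOf G) (fun n : N.subgroupOf G => (θ : N → ℂ) ⟨(n : G), n.2⟩) =
    fun g => (e : ℂ) * (χ : G → ℂ) g)

include hram in
theorem e_ne_zero : e ≠ 0 := by
  intro he
  have h1 := congrFun hram 1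
  rw [indFun_one, he, Nat.cast_zero, zero_mul] at h1
  have h2 : (θ : N → ℂ) 1 ≠ 0 := irr_one_ne_zero θ.2
  have h3 : (Nat.card (N.subgroupOf G) : ℂ) ≠ 0 := by
    rw [Nat.cast_ne_zero]; exact Nat.card_pos.ne'
  have h4 : (Nat.card G : ℂ) ≠ 0 := by
    rw [Nat.cast_ne_zero]; exact Nat.card_pos.ne'
  have h5 : (θ : N → ℂ) ⟨((1 : N.subgroupOf G) : G), (1 : N.subgroupOf G).2⟩ = (θ : N → ℂ) 1 := rfl
  rw [h5] at h1
  exact mul_ne_zero (mul_ne_zero (inv_ne_zero h3) h4) h2 h1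

include hNG hinv hram in
theorem res_eq (n : N) : (χ : G → ℂ) ⟨n, hNG n.2⟩ = (e : ℂ) * (θ : N → ℂ) n := by
  classical
  have hN' : (N.subgroupOf G).Normal := hN.subgroupOf G
  have : Fintype (N.subgroupOf G) := Fintype.ofFinite _
  set θ' : N.subgroupOf G → ℂ := fun n => (θ : N → ℂ) ⟨(n : G), n.2⟩ with hθ'
  have hθ'eq : θ' = resSubgroupOf N G θ := rfl
  have hθ'irr : IsIrrCharacter (N.subgroupOf G) θ' := by
    rw [hθ'eq]; exact isIrrCharacter_resSubgroupOf N G hNG θ.2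
  have hθ'inv : ∀ g : G, conjFun (N.subgroupOf G) hN' θ' g = θ' := by
    apply conjFun_eq_of_forall
    intro g k
    exact hinv (g : Γ) ⟨((k : G) : Γ), k.2⟩
  have hχc : IsClassFunction G (χ : G → ℂ) := isClassFunction_of_isIrrCharacter χ.2
  have h1 := frobenius_reciprocity (N.subgroupOf G) θ' (χ : G → ℂ) hχc
  rw [hram] at h1
  have h2 : (fun g => (e : ℂ) * (χ : G → ℂ) g) = (e : ℂ) • (χ : G → ℂ) := rfl
  rw [h2, classInner_smul_left, classInner_self_of_isIrrCharacter χ.2, mul_one] at h1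
  have h3 : classInner (res (N.subgroupOf G) (χ : G → ℂ)) θ' = (e : ℂ) := by
    rw [← classInner_conj_symm]
    show conj (classInner θ' (fun h : N.subgroupOf G => (χ : G → ℂ) h)) = _
    rw [← h1, Complex.conj_natCast]
  have he : (e : ℂ) ≠ 0 := by
    rw [Nat.cast_ne_zero]; exact e_ne_zero G N θ χ e hram
  have h4 := res_eq_smul_of_invariant (N.subgroupOf G) hN' χ.2 hθ'irr hθ'inv (by rw [h3]; exact he)
  rw [h3] at h4
  have h5 := congrFun h4 ⟨⟨n, hNG n.2⟩, n.2⟩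
  exact h5

include hNG hinv hram in
theorem chi_invariant (x : Γ) (g : G) :
    (χ : G → ℂ) ⟨x * g * x⁻¹, hG.conj_mem g g.2 x⟩ = (χ : G → ℂ) g := by
  classical
  have he : (e : ℂ) ≠ 0 := by
    rw [Nat.cast_ne_zero]; exact e_ne_zero G N θ χ e hram
  set θ' : N.subgroupOf G → ℂ := fun n => (θ : N → ℂ) ⟨(n : G), n.2⟩ with hθ'
  let cx : G ≃* G := MulAut.conjNormal x
  have hcx : ∀ z : G, ((cx z : G) : Γ) = x * z * x⁻¹ := fun z => by
    simp [cx]
  have hez : ∀ z : G, extendByZero (N.subgroupOf G) θ' (cx z) =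
      extendByZero (N.subgroupOf G) θ' z := by
    intro z
    by_cases hz : z ∈ N.subgroupOf G
    · have hz' : cx z ∈ N.subgroupOf G := by
        rw [Subgroup.mem_subgroupOf, hcx]
        exact hN.conj_mem _ (Subgroup.mem_subgroupOf.mp hz) x
      rw [extendByZero_of_mem _ _ hz, extendByZero_of_mem _ _ hz']
      have := hinv x ⟨(z : Γ), Subgroup.mem_subgroupOf.mp hz⟩
      show (θ : N → ℂ) ⟨((cx z : G) : Γ), _⟩ = (θ : N → ℂ) ⟨(z : Γ), _⟩
      rw [← this]
      congr 1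
    · have hz' : cx z ∉ N.subgroupOf G := by
        intro h
        apply hz
        rw [Subgroup.mem_subgroupOf, hcx] at h
        rw [Subgroup.mem_subgroupOf]
        have := hN.conj_mem _ h x⁻¹
        simpa [mul_assoc] using this
      rw [extendByZero_of_not_mem _ _ hz, extendByZero_of_not_mem _ _ hz']
  have h1 : indFun (N.subgroupOf G) θ' (cx g) = indFun (N.subgroupOf G) θ' g := by
    rw [indFun_apply, indFun_apply]
    congr 1
    symm
    apply Fintype.sum_equiv cx.toEquiv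
    intro t
    simp only [MulEquiv.toEquiv_eq_coe, EquivLike.coe_coe]
    rw [← hez (t⁻¹ * g * t), map_mul, map_mul, map_inv]
  rw [hram] at h1
  have h2 : (cx g : G) = ⟨x * g * x⁻¹, hG.conj_mem g g.2 x⟩ := Subtype.ext (hcx g)
  rw [h2] at h1
  exact mul_left_cancel₀ he h1

end Ram

section StepU

open Cfsg.Agent.Lib.Helper3_FrobRamCoset Cfsg.Agent.Lib.Helper3_FrobRamLocal

variable (G N U : Subgroup Γ) [hG : G.Normal] [hN : N.Normal] [Fintype G] [Fintype N] [Fintype U]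

theorem comm_of_isCyclic {Q : Type*} [Group Q] (h : IsCyclic Q) (a b : Q) : a * b = b * a := by
  obtain ⟨q, hq⟩ := h.exists_generator
  obtain ⟨i, rfl⟩ := Subgroup.mem_zpowers_iff.mp (hq a)
  obtain ⟨j, rfl⟩ := Subgroup.mem_zpowers_iff.mp (hq b)
  rw [← zpow_add, ← zpow_add, add_comm]

/-- `∑_{n ∈ N} |χh(n x)|² = |N|` for `x ∉ G`. -/
theorem sum_coset_N (hNG : N ≤ G) (hcommΓ : ∀ a b : Γ ⧸ G, a * b = b * a)
    (hfrob : ∀ x : Γ, x ∉ G → ∀ g : Γ, g ∈ G → x * g * x⁻¹ * g⁻¹ ∈ N → g ∈ N)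
    {χh : Γ → ℂ} (hχh : IsIrrCharacter Γ χh) (hχhG : IsIrrCharacter G (fun g : G => χh g))
    (x : Γ) (hx : x ∉ G) :
    ∑ n : N, χh ((n : Γ) * x) * conj (χh ((n : Γ) * x)) = (Nat.card N : ℂ) := by
  let F : Γ → ℂ := fun z => χh z * conj (χh z)
  have hχc := isClassFunction_of_isIrrCharacter hχh
  have hF : IsClassFunction Γ F := fun g h => by
    show χh _ * conj (χh _) = χh _ * conj (χh _)
    rw [hχc g h]
  have h1 : ∑ g : G, F ((g : Γ) * x) = (Nat.card G : ℂ) := sum_coset_norm G hcommΓ hχh hχhG x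
  have hx' : ∀ g : Γ, g ∈ G → x⁻¹ * g * x * g⁻¹ ∈ N → g ∈ N := by
    intro g hg h
    have hx1 : x⁻¹ ∉ G := fun h' => hx (by simpa using G.inv_mem h')
    have := hfrob x⁻¹ hx1 g hg
    rw [inv_inv] at this
    exact this h
  have h2 := frob_coset_sum G N hNG x hx' F hF
  have hswap : ∀ z : Γ, F (x * z) = F (z * x) := by
    intro z
    have := hF (z * x) x
    rw [← this]
    congr 1
    group
  simp_rw [hswap] at h2
  rw [h1] at h2
  have hG0 : (Nat.card G : ℂ) ≠ 0 := by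
    rw [Nat.cast_ne_zero]; exact Nat.card_pos.ne'
  have h3 : (Nat.card G : ℂ) * ∑ n : N, F ((n : Γ) * x) = (Nat.card G : ℂ) * (Nat.card N : ℂ) := by
    rw [← h2]; ring
  exact mul_left_cancel₀ hG0 h3

theorem sum_U (hNU : N ≤ U) (hUG : ∀ u ∈ U, u ∈ G → u ∈ N) (f : Γ → ℂ)
    (hf : ∀ x : Γ, x ∉ G → ∑ n : N, f ((n : Γ) * x) = (Nat.card N : ℂ)) :
    ∑ u : U, f u = ∑ n : N, f n + (Nat.card U : ℂ) - (Nat.card N : ℂ) := by
  classical
  let K : Subgroup U := N.subgroupOf U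
  have : Fintype K := Fintype.ofFinite K
  have hcardK : Nat.card K = Nat.card N :=
    Nat.card_congr (Subgroup.subgroupOfEquivOfLe hNU).toEquiv
  have hN0 : (Nat.card N : ℂ) ≠ 0 := by
    rw [Nat.cast_ne_zero]; exact Nat.card_pos.ne'
  -- translation invariance
  have h1 : ∑ n : N, ∑ u : U, f ((n : Γ) * u) = (Nat.card N : ℂ) * ∑ u : U, f u := by
    have : ∀ n : N, ∑ u : U, f ((n : Γ) * u) = ∑ u : U, f u := by
      intro n
      apply Fintype.sum_equiv (Equiv.mulLeft (⟨(n : Γ), hNU n.2⟩ : U))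
      intro u
      simp
    simp_rw [this]
    rw [Finset.sum_const, Finset.card_univ, nsmul_eq_mul, ← Nat.card_eq_fintype_card]
  -- inner sums
  have h2 : ∀ u : U, ∑ n : N, f ((n : Γ) * u) =
      (Nat.card N : ℂ) + extendByZero K (fun _ => ∑ n : N, f n - (Nat.card N : ℂ)) u := by
    intro u
    by_cases hu : (u : Γ) ∈ N
    · rw [extendByZero_of_mem K _ (Subgroup.mem_subgroupOf.mpr hu)]
      have : ∑ n : N, f ((n : Γ) * u) = ∑ n : N, f n := by
        apply Fintype.sum_equiv (Equiv.mulRight (⟨(u : Γ), hu⟩ : N))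
        intro n
        simp
      rw [this]
      ring
    · rw [extendByZero_of_not_mem K _ (fun h => hu (Subgroup.mem_subgroupOf.mp h)), add_zero]
      exact hf u (fun h => hu (hUG u u.2 h))
  rw [Finset.sum_comm] at h1
  simp_rw [h2] at h1
  rw [Finset.sum_add_distrib, sum_extendByZero, Finset.sum_const, Finset.sum_const,
    Finset.card_univ, Finset.card_univ, nsmul_eq_mul, nsmul_eq_mul, ← Nat.card_eq_fintype_card,
    ← Nat.card_eq_fintype_card, hcardK] at h1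
  apply mul_left_cancel₀ hN0
  rw [← h1]
  ring

theorem step_U (hNG : N ≤ G) (hNU : N ≤ U) (hUG : ∀ u ∈ U, u ∈ G → u ∈ N)
    (hidx : (N.subgroupOf U).index = G.index) (h2 : 2 ≤ G.index)
    (hcycU : IsCyclic (U ⧸ N.subgroupOf U))
    (hcommΓ : ∀ a b : Γ ⧸ G, a * b = b * a)
    (hfrob : ∀ x : Γ, x ∉ G → ∀ g : Γ, g ∈ G → x * g * x⁻¹ * g⁻¹ ∈ N → g ∈ N)
    (θ : IrrCharacter N)
    (hinv : ∀ (x : Γ) (n : N), (θ : N → ℂ) ⟨x * n * x⁻¹, hN.conj_mem n n.2 x⟩ = (θ : N → ℂ) n)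
    {χh : Γ → ℂ} (hχh : IsIrrCharacter Γ χh) (hχhG : IsIrrCharacter G (fun g : G => χh g))
    (e : ℕ) (hres : ∀ n : N, χh n = (e : ℂ) * (θ : N → ℂ) n) :
    (G.index : ℤ) ∣ (e : ℤ) - 1 ∨ (G.index : ℤ) ∣ (e : ℤ) + 1 := by
  classical
  have hK : (N.subgroupOf U).Normal := hN.subgroupOf U
  have : Fintype (N.subgroupOf U) := Fintype.ofFinite _
  have hcardK : Nat.card (N.subgroupOf U) = Nat.card N :=
    Nat.card_congr (Subgroup.subgroupOfEquivOfLe hNU).toEquiv
  have hθK : IsIrrCharacter (N.subgroupOf U) (resSubgroupOf N U θ) :=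
    isIrrCharacter_resSubgroupOf N U hNU θ.2
  have hinvK : ∀ (u : U) (k : N.subgroupOf U),
      resSubgroupOf N U θ ⟨u * k * u⁻¹, hK.conj_mem (k : U) k.2 u⟩ = resSubgroupOf N U θ k :=
    fun u k => hinv (u : Γ) ⟨((k : U) : Γ), k.2⟩
  obtain ⟨θh, hθh, hθhK⟩ := exists_irr_extension_of_cyclic (N.subgroupOf U) hK hcycU
    (resSubgroupOf N U θ) hθK hinvK
  have hθK' : IsIrrCharacter (N.subgroupOf U) (fun k : N.subgroupOf U => θh k) := by
    rw [show (fun k : N.subgroupOf U => θh k) = resSubgroupOf N U θ from funext hθhK]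
    exact hθK
  let Ψ : U → ℂ := fun u => χh u
  have hΨ : IsCharacter U Ψ := isCharacter_restrict U (isCharacter_of_isIrrCharacter hχh)
  have hres' : ∀ k : N.subgroupOf U, Ψ k = (e : ℂ) * θh k := by
    intro k
    rw [hθhK k]
    exact hres ⟨((k : U) : Γ), k.2⟩
  have hcommK : ∀ a b : U ⧸ N.subgroupOf U, a * b = b * a := comm_of_isCyclic hcycU
  have hNnorm : ∑ n : N, (θ : N → ℂ) n * conj ((θ : N → ℂ) n) = (Nat.card N : ℂ) := by
    have h1 := classInner_self_of_isIrrCharacter θ.2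
    unfold classInner at h1
    have hne : (Nat.card N : ℂ) ≠ 0 := by
      rw [Nat.cast_ne_zero]; exact Nat.card_pos.ne'
    field_simp at h1
    exact h1
  have hsumU := sum_U G N U hNU hUG (fun z => χh z * conj (χh z))
    (fun x hx => sum_coset_N G N hNG hcommΓ hfrob hχh hχhG x hx)
  have hsumN : ∑ n : N, χh n * conj (χh n) = (e : ℂ) ^ 2 * (Nat.card N : ℂ) := by
    have : ∀ n : N, χh n * conj (χh n) =
        (e : ℂ) ^ 2 * ((θ : N → ℂ) n * conj ((θ : N → ℂ) n)) := by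
      intro n
      rw [hres n, map_mul, Complex.conj_natCast]
      ring
    simp_rw [this]
    rw [← Finset.mul_sum, hNnorm]
  have hcardU : (Nat.card U : ℂ) = ((N.subgroupOf U).index : ℂ) * (Nat.card N : ℂ) := by
    rw [← hcardK, ← Nat.cast_mul, mul_comm, Subgroup.card_mul_index]
  have hnorm : ((N.subgroupOf U).index : ℂ) * classInner Ψ Ψ =
      (e : ℂ) ^ 2 + ((N.subgroupOf U).index : ℂ) - 1 := by
    unfold classInner
    show ((N.subgroupOf U).index : ℂ) * ((Nat.card U : ℂ)⁻¹ * ∑ u : U, χh u * conj (χh u)) = _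
    rw [hsumU, hsumN, hcardU]
    have hne1 : ((N.subgroupOf U).index : ℂ) ≠ 0 := by
      rw [Nat.cast_ne_zero, hidx]; omega
    have hne2 : (Nat.card N : ℂ) ≠ 0 := by
      rw [Nat.cast_ne_zero]; exact Nat.card_pos.ne'
    field_simp
  have := local_lemma (N.subgroupOf U) hcommK ⟨θh, hθh⟩ hθK' Ψ hΨ e hres' hnorm (by rw [hidx]; exact h2)
  rw [hidx] at this
  exact this

end StepU

section Main

theorem main (G N : Subgroup Γ) [hG : G.Normal] [hN : N.Normal] [Fintype G] [Fintype N]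
    (hNG : N ≤ G) (hGlt : G ≠ ⊤) (hcyc : IsCyclic (Γ ⧸ G))
    (hfrob : ∀ x : Γ, x ∉ G → ∀ g : Γ, g ∈ G → x * g * x⁻¹ * g⁻¹ ∈ N → g ∈ N)
    (θ : IrrCharacter N)
    (hinv : ∀ (x : Γ) (n : N), (θ : N → ℂ) ⟨x * n * x⁻¹, hN.conj_mem n n.2 x⟩ = (θ : N → ℂ) n)
    (χ : IrrCharacter G) (e : ℕ)
    (hram : indFun (N.subgroupOf G) (fun n : N.subgroupOf G => (θ : N → ℂ) ⟨(n : G), n.2⟩) =
      fun g => (e : ℂ) * (χ : G → ℂ) g) :
    (G.index : ℤ) ∣ (e : ℤ) - 1 ∨ (G.index : ℤ) ∣ (e : ℤ) + 1 := by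
  classical
  have hχinv := chi_invariant G N hNG θ hinv χ e hram
  obtain ⟨χh, hχh, hχhG⟩ := exists_irr_extension_of_cyclic G hG hcyc (χ : G → ℂ) χ.2 hχinv
  have hχhG' : IsIrrCharacter G (fun g : G => χh g) := by
    rw [show (fun g : G => χh g) = (χ : G → ℂ) from funext hχhG]
    exact χ.2
  have hres : ∀ n : N, χh n = (e : ℂ) * (θ : N → ℂ) n := by
    intro n
    rw [← res_eq G N hNG θ hinv χ e hram n]
    exact hχhG ⟨n, hNG n.2⟩
  obtain ⟨q, hq⟩ := hcyc.exists_generator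
  obtain ⟨y, rfl⟩ := QuotientGroup.mk_surjective q
  have hord : orderOf (y : Γ ⧸ G) = G.index := by
    rw [orderOf_eq_card_of_forall_mem_zpowers hq, Subgroup.index_eq_card]
  have h2 : 2 ≤ G.index := by
    have h0 : G.index ≠ 0 := Subgroup.index_ne_zero_of_finite
    have h1 : G.index ≠ 1 := fun h => hGlt (Subgroup.index_eq_one.mp h)
    omega
  have hyG : y ∉ G := by
    intro hy
    have : (y : Γ ⧸ G) = 1 := (QuotientGroup.eq_one_iff y).mpr hy
    rw [this, orderOf_one] at hord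
    omega
  have hym : y ^ G.index ∈ N := by
    have h1 : y ^ G.index ∈ G := by
      rw [← QuotientGroup.eq_one_iff, QuotientGroup.mk_pow, ← hord, pow_orderOf_eq_one]
    apply hfrob y hyG _ h1
    have : y * y ^ G.index * y⁻¹ * (y ^ G.index)⁻¹ = 1 := by
      group
    rw [this]
    exact N.one_mem
  let U : Subgroup Γ := Subgroup.zpowers y ⊔ N
  have hNU : N ≤ U := le_sup_right
  have hyU : y ∈ U := (le_sup_left : Subgroup.zpowers y ≤ U) (Subgroup.mem_zpowers y)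
  have hUG : ∀ u ∈ U, u ∈ G → u ∈ N := by
    intro u hu huG
    rw [← SetLike.mem_coe, Subgroup.mul_normal] at hu
    obtain ⟨z, hz, n, hn, rfl⟩ := Set.mem_mul.mp hu
    obtain ⟨j, rfl⟩ := Subgroup.mem_zpowers_iff.mp hz
    have h1 : y ^ j ∈ G := by
      have := G.mul_mem huG (G.inv_mem (hNG hn))
      simpa using this
    have h2' : ((y : Γ ⧸ G)) ^ j = 1 := by
      rw [← QuotientGroup.mk_zpow]
      exact (QuotientGroup.eq_one_iff _).mpr h1
    have h3 : (G.index : ℤ) ∣ j := by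
      rw [← hord]
      exact orderOf_dvd_iff_zpow_eq_one.mpr h2'
    obtain ⟨t, rfl⟩ := h3
    have h4 : y ^ ((G.index : ℤ) * t) ∈ N := by
      rw [zpow_mul, zpow_natCast]
      exact N.zpow_mem hym t
    exact N.mul_mem h4 hn
  have : Fintype U := Fintype.ofFinite U
  let f : U →* Γ ⧸ G := (QuotientGroup.mk' G).comp U.subtype
  have hfsurj : Function.Surjective f := by
    intro q
    obtain ⟨j, rfl⟩ := Subgroup.mem_zpowers_iff.mp (hq q)
    refine ⟨(⟨y, hyU⟩ : U) ^ j, ?_⟩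
    rw [map_zpow]
    rfl
  have hker : f.ker = N.subgroupOf U := by
    ext u
    rw [MonoidHom.mem_ker, Subgroup.mem_subgroupOf]
    show ((u : Γ) : Γ ⧸ G) = 1 ↔ _
    rw [QuotientGroup.eq_one_iff]
    exact ⟨hUG u u.2, fun h => hNG h⟩
  have hidx : (N.subgroupOf U).index = G.index := by
    rw [← hker, Subgroup.index_ker, MonoidHom.range_eq_top.mpr hfsurj, Subgroup.card_top,
      Subgroup.index_eq_card]
  have hcycU : IsCyclic (U ⧸ N.subgroupOf U) := by
    have e1 := QuotientGroup.quotientKerEquivOfSurjective f hfsurj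
    have e2 : U ⧸ N.subgroupOf U ≃* U ⧸ f.ker := QuotientGroup.quotientMulEquivOfEq hker.symm
    exact isCyclic_of_surjective (e2.trans e1).symm (e2.trans e1).symm.surjective
  exact step_U G N U hNG hNU hUG hidx h2 hcycU (comm_of_isCyclic hcyc) hfrob θ hinv hχh hχhG'
    e hres

end Main

end Cfsg.Agent.Lib.Helper3_FrobRamGlobal
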