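import Mathlib
import Cfsg.Prelude.Def_Characters
import Cfsg.Agent.Lib.Helper57_LatDefs
import Cfsg.Agent.Lib.Helper57_GenLin
import Cfsg.Agent.Lib.Helper17_LatChar
import Cfsg.Agent.Lib.Helper17_LatticeLocal
import Cfsg.Agent.Lib.Helper3_CharOrtho
import Cfsg.Agent.Lib.Helper3_RepDecomp
import Cfsg.Agent.Lib.Helper3_CharBridge

/-!
# Package GA5 of the general defect-one project (helper3): Schur index one for `p'`-groups

A `ℚ_p`-irreducible `ℤ_p`-lattice of a finite group of order prime to `p` has a multiplicity-free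
complex character.

Steps: (I) `M / pM` has no proper nonzero stable subgroup; (II) the commutant `Δ = End_A(M)` is
commutative (`Δ / pΔ` is a finite domain, hence a field by Wedderburn's little theorem; its unit
group is cyclic; Nakayama); (III) by averaging, the commutant of the complexified representation
is spanned by the image of `Δ`, hence commutative; (IV) a complex representation with commutative
commutant is multiplicity free (Maschke + Schur).
-/

set_option autoImplicit false
set_option linter.unusedSectionVars false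

namespace Cfsg.Agent.Lib.Helper3_GenA5

open Cfsg Cfsg.Agent.Lib.Helper57_LatDefs Cfsg.Agent.Lib.Helper57_GenLin
  Cfsg.Agent.Lib.Helper17_LatChar

universe u

/-! ## (IV) commutative commutant implies multiplicity free -/

section commutant

open Representation Cfsg.Agent.Lib.Helper3_RepDecomp Cfsg.Agent.Lib.Helper3_CharOrtho
  Cfsg.Agent.Lib.Helper3_CharBridge

variable {G : Type*} [Group G] [Fintype G] {U : Type*} [AddCommGroup U] [Module ℂ U]
  [FiniteDimensional ℂ U] {V : Type*} [AddCommGroup V] [Module ℂ V] [FiniteDimensional ℂ V]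

theorem proj_comm (R : Representation ℂ G U) (W₁ W₂ : Submodule ℂ U) (hW₁ : IsInv R W₁)
    (hW₂ : IsInv R W₂) (hc : IsCompl W₁ W₂) (g : G) (x : U) :
    ((W₁.projectionOnto W₂ hc (R g x) : W₁) : U) =
      R g ((W₁.projectionOnto W₂ hc x : W₁) : U) := by
  have hx : x ∈ W₁ ⊔ W₂ := by rw [hc.sup_eq_top]; trivial
  obtain ⟨w₁, hw₁, w₂, hw₂, rfl⟩ := Submodule.mem_sup.mp hx
  rw [map_add, map_add, map_add]
  have e1 := Submodule.projectionOnto_apply_left hc ⟨w₁, hw₁⟩
  have e2 := Submodule.projectionOnto_apply_right hc ⟨w₂, hw₂⟩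
  have e3 := Submodule.projectionOnto_apply_left hc ⟨R g w₁, hW₁ g w₁ hw₁⟩
  have e4 := Submodule.projectionOnto_apply_right hc ⟨R g w₂, hW₂ g w₂ hw₂⟩
  simp only at e1 e2 e3 e4
  rw [e1, e2, e3, e4]
  simp

theorem classInner_le_one_of_comm (R : Representation ℂ G U)
    (hcomm : ∀ X Y : Module.End ℂ U, (∀ g, Commute X (R g)) → (∀ g, Commute Y (R g)) →
      Commute X Y)
    (τ : Representation ℂ G V) [τ.IsIrreducible] :
    Cfsg.classInner R.character τ.character = 0 ∨
      Cfsg.classInner R.character τ.character = 1 := by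
  by_cases hsub : ∀ φ : IntertwiningMap τ R, φ = 0
  · left
    have : Subsingleton (IntertwiningMap τ R) := ⟨fun a b => by rw [hsub a, hsub b]⟩
    rw [classInner_char_eq_finrank τ R, Module.finrank_zero_of_subsingleton]
    simp
  · right
    push Not at hsub
    obtain ⟨φ, hφ⟩ := hsub
    have hinj : Function.Injective φ :=
      (IsIrreducible.injective_or_eq_zero φ).resolve_right hφ
    have hW₁ : IsInv R (LinearMap.range φ.toLinearMap) := isInv_range φ
    obtain ⟨W₂, hW₂, hc⟩ := exists_isInv_isCompl R (LinearMap.range φ.toLinearMap) hW₁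
    have hchar := char_eq_add_of_isCompl R (LinearMap.range φ.toLinearMap) W₂ hW₁ hW₂ hc
    have h1 : (subRep R (LinearMap.range φ.toLinearMap) hW₁).character = τ.character :=
      (char_iso (equivRange φ hinj)).symm
    rw [hchar, h1, classInner_add_left, classInner_char_irreducible τ τ,
      if_pos ⟨Representation.Equiv.refl τ⟩, classInner_char_eq_finrank τ (subRep R W₂ hW₂)]
    have hzero : ∀ θ : IntertwiningMap τ (subRep R W₂ hW₂), θ = 0 := by
      intro θ
      set e : V ≃ₗ[ℂ] LinearMap.range φ.toLinearMap :=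
        LinearEquiv.ofInjective φ.toLinearMap hinj with he
      set pr : U →ₗ[ℂ] LinearMap.range φ.toLinearMap :=
        (LinearMap.range φ.toLinearMap).projectionOnto W₂ hc with hpr
      set S : Module.End ℂ U :=
        W₂.subtype ∘ₗ θ.toLinearMap ∘ₗ (e.symm : _ →ₗ[ℂ] V) ∘ₗ pr with hS
      set P : Module.End ℂ U := (LinearMap.range φ.toLinearMap).subtype ∘ₗ pr with hP
      have hesymm : ∀ (g : G) (w : LinearMap.range φ.toLinearMap),
          e.symm (subRep R _ hW₁ g w) = τ g (e.symm w) := by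
        intro g w
        apply e.injective
        rw [LinearEquiv.apply_symm_apply]
        apply Subtype.ext
        rw [subRep_apply, he, LinearEquiv.ofInjective_apply]
        have := IntertwiningMap.isIntertwining _ _ φ g (e.symm w)
        rw [IntertwiningMap.toLinearMap_apply, this]
        congr 1
        have h2 := congrArg Subtype.val (e.apply_symm_apply w)
        rw [he, LinearEquiv.ofInjective_apply] at h2
        exact h2.symm
      have hprg : ∀ (g : G) (x : U), pr (R g x) = subRep R _ hW₁ g (pr x) := by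
        intro g x
        apply Subtype.ext
        rw [subRep_apply]
        exact proj_comm R _ W₂ hW₁ hW₂ hc g x
      have hSc : ∀ g, Commute S (R g) := by
        intro g
        apply LinearMap.ext
        intro x
        simp only [Module.End.mul_apply, hS, LinearMap.comp_apply, Submodule.subtype_apply,
          LinearEquiv.coe_coe]
        rw [hprg, hesymm, IntertwiningMap.toLinearMap_apply,
          IntertwiningMap.isIntertwining _ _ θ g, subRep_apply]
        rfl
      have hPc : ∀ g, Commute P (R g) := by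
        intro g
        apply LinearMap.ext
        intro x
        simp only [Module.End.mul_apply, hP, LinearMap.comp_apply, Submodule.subtype_apply]
        rw [hprg, subRep_apply]
      have hSP := hcomm S P hSc hPc
      apply IntertwiningMap.ext
      apply LinearMap.ext
      intro v
      apply Subtype.ext
      have h3 := LinearMap.congr_fun hSP.eq (φ v)
      simp only [Module.End.mul_apply] at h3
      have hφv : φ v ∈ LinearMap.range φ.toLinearMap := ⟨v, rfl⟩
      have hpr1 : pr (φ v) = ⟨φ v, hφv⟩ :=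
        Submodule.projectionOnto_apply_left hc ⟨φ v, hφv⟩
      have hPv : P (φ v) = φ v := by
        rw [hP, LinearMap.comp_apply, hpr1]; rfl
      have hev : e.symm ⟨φ v, hφv⟩ = v := by
        apply e.injective
        rw [LinearEquiv.apply_symm_apply]
        apply Subtype.ext
        rw [he, LinearEquiv.ofInjective_apply]
        rfl
      have hSv : S (φ v) = ((θ v : W₂) : U) := by
        rw [hS]
        simp only [LinearMap.comp_apply, Submodule.subtype_apply, LinearEquiv.coe_coe]
        rw [hpr1, hev]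
        rfl
      have hPS : P ((θ v : W₂) : U) = 0 := by
        rw [hP, LinearMap.comp_apply]
        have := Submodule.projectionOnto_apply_right hc (θ v)
        rw [hpr, this]
        simp
      rw [hPv, hSv, hPS] at h3
      simpa using h3
    have : Subsingleton (IntertwiningMap τ (subRep R W₂ hW₂)) :=
      ⟨fun a b => by rw [hzero a, hzero b]⟩
    rw [Module.finrank_zero_of_subsingleton]
    simp

end commutant

/-! ## (I) `M / pM` is simple -/

section lattice

open Cfsg.Agent.Lib.Helper17_LatticeLocal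

variable {p : ℕ} [hp : Fact p.Prime] {A : Type*} [Group A] [Fintype A]
  {M : Type*} [AddCommGroup M] [Module ℤ_[p] M] [Module.Free ℤ_[p] M] [Module.Finite ℤ_[p] M]
  (σ : Representation ℤ_[p] A M)

theorem comm_of_commute {π : Module.End ℤ_[p] M} (h : ∀ a, Commute π (σ a)) :
    Comm σ π := fun a => (h a).eq

theorem commute_of_comm {π : Module.End ℤ_[p] M} (h : Comm σ π) (a : A) :
    Commute π (σ a) := h a

theorem stable_mod_p (hA : (Nat.card A).Coprime p) (hirr : Helper57_LatDefs.IsQIrred σ)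
    (W : Submodule ℤ_[p] M) (hWst : ∀ a, ∀ w ∈ W, σ a w ∈ W)
    (hpW : ∀ m, (p : ℤ_[p]) • m ∈ W) :
    (∀ w ∈ W, ∃ m, w = (p : ℤ_[p]) • m) ∨ ∀ m, m ∈ W := by
  have hpure : IsPure (⊤ : Submodule ℤ_[p] M) := fun l _ => trivial
  obtain ⟨π, hπc, hπW, hπ1⟩ := exists_equivariant_flag_proj σ hA ⊤ W hpure le_top
    (fun f _ => hpW f) (fun a f _ => trivial) hWst
  rcases unit_or_nilpotent_mod_p σ hirr π (comm_of_commute σ hπc) with
    ⟨π', f, -, -, h⟩ | ⟨k, f, -, h⟩
  · right
    intro m
    have h1 := LinearMap.congr_fun h m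
    simp only [Module.End.mul_apply, LinearMap.add_apply, Module.End.one_apply,
      LinearMap.smul_apply] at h1
    have h2 : m = π (π' m) - (p : ℤ_[p]) • f m := by rw [h1]; abel
    rw [h2]
    exact W.sub_mem (hπW _) (hpW _)
  · left
    intro w hw
    have key : ∀ k : ℕ, ∃ m, (π ^ k) w - w = (p : ℤ_[p]) • m := by
      intro k
      induction k with
      | zero => exact ⟨0, by simp⟩
      | succ k ih =>
        obtain ⟨m, hm⟩ := ih
        obtain ⟨f', -, hf'⟩ := hπ1 w hw
        refine ⟨π m + f', ?_⟩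
        have h3 : (π ^ k) w = w + (p : ℤ_[p]) • m := by rw [← hm]; abel
        rw [pow_succ', Module.End.mul_apply, h3, map_add, map_smul, smul_add, ← hf']
        abel
    obtain ⟨m, hm⟩ := key k
    refine ⟨f w - m, ?_⟩
    rw [h, LinearMap.smul_apply] at hm
    rw [smul_sub, ← hm]
    abel

/-! ## (II) the commutant is commutative -/

/-- the commutant of the lattice -/
noncomputable def Cen : Subalgebra ℤ_[p] (Module.End ℤ_[p] M) :=
  Subalgebra.centralizer ℤ_[p] (Set.range σ)

theorem mem_Cen {T : Module.End ℤ_[p] M} : T ∈ Cen σ ↔ ∀ a, Commute T (σ a) := by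
  unfold Cen
  rw [Subalgebra.mem_centralizer_iff]
  constructor
  · intro h a
    exact (h (σ a) ⟨a, rfl⟩).symm
  · rintro h _ ⟨a, rfl⟩
    exact (h a).eq.symm

theorem mem_Cen_of_smul {T : Module.End ℤ_[p] M} (h : (p : ℤ_[p]) • T ∈ Cen σ) : T ∈ Cen σ := by
  rw [mem_Cen] at h ⊢
  exact commute_of_comm σ (comm_of_smul σ (comm_of_commute σ h))

/-- reduction modulo `p` of an endomorphism, as a matrix over `ZMod p` -/
noncomputable def red : Module.End ℤ_[p] M →+*
    Matrix (Fin (Module.finrank ℤ_[p] M)) (Fin (Module.finrank ℤ_[p] M)) (ZMod p) :=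
  (RingHom.mapMatrix (PadicInt.toZMod (p := p))).comp
    ((LinearMap.toMatrixAlgEquiv (Module.finBasis ℤ_[p] M)).toAlgHom.toRingHom)

theorem red_apply (T : Module.End ℤ_[p] M) (i l : Fin (Module.finrank ℤ_[p] M)) :
    red T i l = PadicInt.toZMod (LinearMap.toMatrixAlgEquiv (Module.finBasis ℤ_[p] M) T i l) :=
  rfl

theorem red_eq_zero_iff (T : Module.End ℤ_[p] M) :
    red T = 0 ↔ ∃ T' : Module.End ℤ_[p] M, T = (p : ℤ_[p]) • T' := by
  constructor
  · intro h
    have hent : ∀ i l, ∃ y : ℤ_[p],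
        y * (p : ℤ_[p]) = LinearMap.toMatrixAlgEquiv (Module.finBasis ℤ_[p] M) T i l := by
      intro i l
      have h1 : red T i l = 0 := by rw [h]; rfl
      rw [red_apply, ← RingHom.mem_ker, PadicInt.ker_toZMod,
        PadicInt.maximalIdeal_eq_span_p] at h1
      exact Ideal.mem_span_singleton'.mp h1
    choose Y hY using hent
    refine ⟨(LinearMap.toMatrixAlgEquiv (Module.finBasis ℤ_[p] M)).symm (Matrix.of Y), ?_⟩
    apply (LinearMap.toMatrixAlgEquiv (Module.finBasis ℤ_[p] M)).injective
    rw [map_smul, AlgEquiv.apply_symm_apply]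
    ext i l
    rw [Matrix.smul_apply, Matrix.of_apply, smul_eq_mul, ← hY i l, mul_comm]
  · rintro ⟨T', rfl⟩
    ext i l
    rw [red_apply, map_smul, Matrix.smul_apply, smul_eq_mul, map_mul, map_natCast,
      ZMod.natCast_self, zero_mul]
    rfl

theorem red_eq_zero_of_forall (T : Module.End ℤ_[p] M)
    (h : ∀ m, ∃ z, T m = (p : ℤ_[p]) • z) : red T = 0 :=
  (red_eq_zero_iff T).mpr (exists_eq_smul_of_forall_mem T h)

/-- a commuting endomorphism which is nonzero modulo `p` is injective modulo `p` -/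
theorem inj_mod_p (hA : (Nat.card A).Coprime p) (hirr : Helper57_LatDefs.IsQIrred σ)
    {T : Module.End ℤ_[p] M} (hT : T ∈ Cen σ) (hT0 : red T ≠ 0) (m : M)
    (hm : ∃ z, T m = (p : ℤ_[p]) • z) : ∃ z, m = (p : ℤ_[p]) • z := by
  set pM : Submodule ℤ_[p] M :=
    LinearMap.range ((p : ℤ_[p]) • (LinearMap.id : M →ₗ[ℤ_[p]] M)) with hpM
  have hmem : ∀ x, x ∈ pM ↔ ∃ z, x = (p : ℤ_[p]) • z := by
    intro x
    rw [hpM, LinearMap.mem_range]
    constructor
    · rintro ⟨z, rfl⟩
      exact ⟨z, rfl⟩
    · rintro ⟨z, rfl⟩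
      exact ⟨z, rfl⟩
  have hTc := (mem_Cen σ).mp hT
  rcases stable_mod_p σ hA hirr (pM.comap T) (fun a w hw => by
      rw [Submodule.mem_comap] at hw ⊢
      obtain ⟨z, hz⟩ := (hmem _).mp hw
      have h1 : T (σ a w) = σ a (T w) := LinearMap.congr_fun (hTc a).eq w
      rw [h1, hz, map_smul]
      exact (hmem _).mpr ⟨_, rfl⟩)
    (fun m => by
      rw [Submodule.mem_comap, map_smul]
      exact (hmem _).mpr ⟨_, rfl⟩) with h | h
  · exact h m (by rw [Submodule.mem_comap]; exact (hmem _).mpr hm)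
  · exfalso
    apply hT0
    apply red_eq_zero_of_forall
    intro x
    exact (hmem _).mp (h x)

/-- reduction restricted to the commutant -/
noncomputable def redC : ↥(Cen σ) →+*
    Matrix (Fin (Module.finrank ℤ_[p] M)) (Fin (Module.finrank ℤ_[p] M)) (ZMod p) :=
  (red (p := p) (M := M)).comp (Cen σ).val.toRingHom

theorem redC_apply (T : ↥(Cen σ)) : redC σ T = red (T : Module.End ℤ_[p] M) := rfl

/-- the residue ring of the commutant -/
noncomputable def E2 : Subring
    (Matrix (Fin (Module.finrank ℤ_[p] M)) (Fin (Module.finrank ℤ_[p] M)) (ZMod p)) :=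
  (redC σ).range

theorem exists_of_red_eq_zero {T : Module.End ℤ_[p] M} (hT : T ∈ Cen σ) (h : red T = 0) :
    ∃ U ∈ Cen σ, T = (p : ℤ_[p]) • U := by
  obtain ⟨U, rfl⟩ := (red_eq_zero_iff T).mp h
  exact ⟨U, mem_Cen_of_smul σ hT, rfl⟩

theorem noZeroDivisors_E2 (hA : (Nat.card A).Coprime p) (hirr : Helper57_LatDefs.IsQIrred σ) :
    NoZeroDivisors (E2 σ) := by
  constructor
  intro x y hxy
  by_contra hne
  push Not at hne
  obtain ⟨hx, hy⟩ := hne
  obtain ⟨S, hS⟩ := x.2
  obtain ⟨T, hT⟩ := y.2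
  have h1 : red ((S : Module.End ℤ_[p] M) * (T : Module.End ℤ_[p] M)) = 0 := by
    rw [map_mul, ← redC_apply, ← redC_apply, hS, hT]
    have := congrArg Subtype.val hxy
    simpa using this
  obtain ⟨U, hU⟩ := (red_eq_zero_iff _).mp h1
  have hS0 : red (S : Module.End ℤ_[p] M) ≠ 0 := by
    intro h0
    apply hx
    apply Subtype.ext
    rw [← hS, redC_apply, h0]
    rfl
  apply hy
  apply Subtype.ext
  rw [← hT, redC_apply]
  show red (T : Module.End ℤ_[p] M) = 0
  apply red_eq_zero_of_forall
  intro m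
  apply inj_mod_p σ hA hirr S.2 hS0
  refine ⟨U m, ?_⟩
  have := LinearMap.congr_fun hU m
  simpa using this

theorem Cen_comm (hA : (Nat.card A).Coprime p) (hirr : Helper57_LatDefs.IsQIrred σ)
    (hM : 0 < Module.finrank ℤ_[p] M) (S T : Module.End ℤ_[p] M) (hS : S ∈ Cen σ)
    (hT : T ∈ Cen σ) : Commute S T := by
  classical
  have : NeZero p := ⟨hp.out.ne_zero⟩
  have : Nonempty (Fin (Module.finrank ℤ_[p] M)) := ⟨⟨0, hM⟩⟩
  have : NoZeroDivisors (E2 σ) := noZeroDivisors_E2 σ hA hirr
  have : IsDomain (E2 σ) := NoZeroDivisors.to_isDomain _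
  have hF := Finite.isDomain_to_isField (E2 σ)
  let _ : Field (E2 σ) := hF.toField
  obtain ⟨g, hg⟩ := IsCyclic.exists_generator (α := (E2 σ)ˣ)
  obtain ⟨gt, hgt⟩ : ∃ gt : ↥(Cen σ), redC σ gt = ((g : E2 σ) : Matrix _ _ (ZMod p)) :=
    (g : E2 σ).2
  -- every element of the commutant is a power of `gt` modulo `p`
  have key : ∀ T : Module.End ℤ_[p] M, T ∈ Cen σ → (∃ U ∈ Cen σ, T = (p : ℤ_[p]) • U) ∨
      ∃ (k : ℕ), ∃ U ∈ Cen σ, T = (gt : Module.End ℤ_[p] M) ^ k + (p : ℤ_[p]) • U := by
    intro T hT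
    by_cases hx : red T = 0
    · left
      exact exists_of_red_eq_zero σ hT hx
    · right
      have hxE : (⟨red T, ⟨⟨T, hT⟩, rfl⟩⟩ : E2 σ) ≠ 0 := by
        intro h0
        apply hx
        exact congrArg Subtype.val h0
      have hmem := hg (Units.mk0 _ hxE)
      rw [← mem_powers_iff_mem_zpowers] at hmem
      obtain ⟨k, hk⟩ := hmem
      have hk' : red ((gt : Module.End ℤ_[p] M) ^ k) = red T := by
        have h1 := congrArg (fun u : (E2 σ)ˣ => (u : E2 σ).1) hk
        simp only [Units.val_pow_eq_pow_val, Units.val_mk0] at h1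
        rw [map_pow, ← redC_apply, hgt]
        rw [← h1]
        exact (Subring.coe_pow (E2 σ) (g : E2 σ) k).symm
      have h2 : red (T - (gt : Module.End ℤ_[p] M) ^ k) = 0 := by
        rw [map_sub, hk', sub_self]
      obtain ⟨U, hU, hU'⟩ := exists_of_red_eq_zero σ
        ((Cen σ).sub_mem hT ((Cen σ).pow_mem gt.2 k)) h2
      exact ⟨k, U, hU, by rw [← hU']; abel⟩
  -- Nakayama
  have nak : ∀ N' : Submodule ℤ_[p] (Module.End ℤ_[p] M),
      (∀ k : ℕ, (gt : Module.End ℤ_[p] M) ^ k ∈ N') →
      ∀ T : Module.End ℤ_[p] M, T ∈ Cen σ → T ∈ N' := by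
    intro N' hN' T hT
    have hle : Subalgebra.toSubmodule (Cen σ) ≤ N' := by
      apply Cfsg.Agent.Lib.Helper3_DR.le_of_le_sup_smul
      intro T hT
      rw [Subalgebra.mem_toSubmodule] at hT
      rcases key T hT with ⟨U, hU, rfl⟩ | ⟨k, U, hU, rfl⟩
      · apply Submodule.mem_sup_right
        rw [Submodule.mem_smul_pointwise_iff_exists]
        exact ⟨U, (Subalgebra.mem_toSubmodule (Cen σ)).mpr hU, rfl⟩
      · apply Submodule.add_mem_sup (hN' k)
        rw [Submodule.mem_smul_pointwise_iff_exists]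
        exact ⟨U, (Subalgebra.mem_toSubmodule (Cen σ)).mpr hU, rfl⟩
    exact hle ((Subalgebra.mem_toSubmodule (Cen σ)).mpr hT)
  -- step 1: `gt` is central in the commutant
  have step1 : ∀ T : Module.End ℤ_[p] M, T ∈ Cen σ →
      Commute (gt : Module.End ℤ_[p] M) T := by
    intro T hT
    have := nak (LinearMap.ker (LinearMap.mulLeft ℤ_[p] (gt : Module.End ℤ_[p] M) -
      LinearMap.mulRight ℤ_[p] (gt : Module.End ℤ_[p] M))) (fun k => by
        rw [LinearMap.mem_ker, LinearMap.sub_apply, LinearMap.mulLeft_apply,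
          LinearMap.mulRight_apply, sub_eq_zero]
        exact (Commute.pow_right (Commute.refl _) k).eq) T hT
    rw [LinearMap.mem_ker, LinearMap.sub_apply, LinearMap.mulLeft_apply,
      LinearMap.mulRight_apply, sub_eq_zero] at this
    exact this
  -- step 2
  have := nak (LinearMap.ker (LinearMap.mulLeft ℤ_[p] S - LinearMap.mulRight ℤ_[p] S))
    (fun k => by
      rw [LinearMap.mem_ker, LinearMap.sub_apply, LinearMap.mulLeft_apply,
        LinearMap.mulRight_apply, sub_eq_zero]
      exact ((step1 S hS).symm.pow_right k).eq) T hT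
  rw [LinearMap.mem_ker, LinearMap.sub_apply, LinearMap.mulLeft_apply,
    LinearMap.mulRight_apply, sub_eq_zero] at this
  exact this

end lattice

/-! ## (III) the complex commutant is commutative -/

section complex

open Cfsg.Agent.Lib.Helper57_LatTr

variable {p : ℕ} [hp : Fact p.Prime] {A : Type u} [Group A] [Fintype A]
  {M : Type*} [AddCommGroup M] [Module ℤ_[p] M] [Module.Free ℤ_[p] M] [Module.Finite ℤ_[p] M]
  (σ : Representation ℤ_[p] A M) (j : ℚ_[p] →+* ℂ)

/-- the coefficient embedding -/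
noncomputable def JJ : ℤ_[p] →+* ℂ := j.comp PadicInt.Coe.ringHom

/-- complexification of endomorphisms, through the standard basis -/
noncomputable def Phi : Module.End ℤ_[p] M →+*
    Module.End ℂ (Fin (Module.finrank ℤ_[p] M) → ℂ) :=
  ((Matrix.toLinAlgEquiv' : Matrix (Fin (Module.finrank ℤ_[p] M))
      (Fin (Module.finrank ℤ_[p] M)) ℂ ≃ₐ[ℂ] _).toAlgHom.toRingHom).comp
    ((RingHom.mapMatrix (JJ j)).comp
      ((LinearMap.toMatrixAlgEquiv (Module.finBasis ℤ_[p] M)).toAlgHom.toRingHom))

theorem Phi_apply (T : Module.End ℤ_[p] M) :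
    Phi j T = Matrix.toLinAlgEquiv'
      ((LinearMap.toMatrixAlgEquiv (Module.finBasis ℤ_[p] M) T).map (JJ j)) := rfl

theorem baseChangeRep_eq (a : A) :
    baseChangeRep (Module.finBasis ℤ_[p] M) (JJ j) σ a = Phi j (σ a) := rfl

theorem Phi_smul (c : ℤ_[p]) (T : Module.End ℤ_[p] M) :
    Phi j (c • T) = (JJ j c) • Phi j T := by
  rw [Phi_apply, Phi_apply, map_smul, ← map_smul]
  ext i l
  simp [Matrix.map_apply, Matrix.smul_apply]

/-- matrix units -/
noncomputable def eU (i l : Fin (Module.finrank ℤ_[p] M)) : Module.End ℤ_[p] M :=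
  (LinearMap.toMatrixAlgEquiv (Module.finBasis ℤ_[p] M)).symm (Matrix.single i l 1)

theorem Phi_eU (i l : Fin (Module.finrank ℤ_[p] M)) :
    Phi j (eU (M := M) i l) = Matrix.toLinAlgEquiv' (Matrix.single i l (1 : ℂ)) := by
  rw [Phi_apply, eU, AlgEquiv.apply_symm_apply, Matrix.map_single, map_one]

theorem expand (X : Module.End ℂ (Fin (Module.finrank ℤ_[p] M) → ℂ)) :
    X = ∑ i, ∑ l, (LinearMap.toMatrixAlgEquiv' X i l) • Phi j (eU (M := M) i l) := by
  conv_lhs => rw [← Matrix.toLinAlgEquiv'_toMatrixAlgEquiv' X,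
    Matrix.matrix_eq_sum_single (LinearMap.toMatrixAlgEquiv' X)]
  rw [map_sum]
  refine Finset.sum_congr rfl (fun i _ => ?_)
  rw [map_sum]
  refine Finset.sum_congr rfl (fun l _ => ?_)
  rw [Phi_eU, ← map_smul, Matrix.smul_single, smul_eq_mul, mul_one]

theorem Phi_cj (a : A) (T : Module.End ℤ_[p] M) :
    Phi j (cj σ a T) = cj (baseChangeRep (Module.finBasis ℤ_[p] M) (JJ j) σ) a (Phi j T) := by
  unfold cj
  rw [map_mul, map_mul, baseChangeRep_eq, baseChangeRep_eq]

theorem JJ_inv_card {u : ℤ_[p]} (hu : u * (Fintype.card A : ℤ_[p]) = 1) :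
    JJ j u * (Fintype.card A : ℂ) = 1 := by
  have := congrArg (JJ j) hu
  rwa [map_mul, map_natCast, map_one] at this

theorem expand_comm {u : ℤ_[p]} (hu : u * (Fintype.card A : ℤ_[p]) = 1)
    (X : Module.End ℂ (Fin (Module.finrank ℤ_[p] M) → ℂ))
    (hX : ∀ a, Commute X (baseChangeRep (Module.finBasis ℤ_[p] M) (JJ j) σ a)) :
    X = ∑ i, ∑ l, (LinearMap.toMatrixAlgEquiv' X i l) •
      Phi j (avgC σ u (eU (M := M) i l)) := by
  have h1 : X = JJ j u • ∑ a : A,
      cj (baseChangeRep (Module.finBasis ℤ_[p] M) (JJ j) σ) a X := by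
    have h2 : ∀ a : A, cj (baseChangeRep (Module.finBasis ℤ_[p] M) (JJ j) σ) a X = X :=
      fun a => (cj_eq_self_iff _ a X).mpr (hX a)
    rw [Finset.sum_congr rfl (fun a _ => h2 a), Finset.sum_const, Finset.card_univ,
      ← Nat.cast_smul_eq_nsmul ℂ, smul_smul, JJ_inv_card j hu, one_smul]
  have hcj : ∀ a : A, cj (baseChangeRep (Module.finBasis ℤ_[p] M) (JJ j) σ) a X =
      ∑ i, ∑ l, (LinearMap.toMatrixAlgEquiv' X i l) • Phi j (cj σ a (eU (M := M) i l)) := by
    intro a
    conv_lhs => rw [expand j X]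
    rw [cj_sum]
    refine Finset.sum_congr rfl (fun i _ => ?_)
    rw [cj_sum]
    refine Finset.sum_congr rfl (fun l _ => ?_)
    rw [cj_smul, Phi_cj]
  have hav : ∀ i l, Phi j (avgC σ u (eU (M := M) i l)) =
      JJ j u • ∑ a : A, Phi j (cj σ a (eU (M := M) i l)) := by
    intro i l
    unfold avgC
    rw [Phi_smul, map_sum]
  conv_lhs => rw [h1]
  rw [Finset.sum_congr rfl (fun a _ => hcj a)]
  simp only [hav, Finset.smul_sum]
  rw [Finset.sum_comm]
  refine Finset.sum_congr rfl (fun i _ => ?_)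
  rw [Finset.sum_comm]
  refine Finset.sum_congr rfl (fun l _ => ?_)
  refine Finset.sum_congr rfl (fun a _ => ?_)
  rw [smul_comm]

theorem complex_comm (hA : (Nat.card A).Coprime p) (hirr : Helper57_LatDefs.IsQIrred σ)
    (hM : 0 < Module.finrank ℤ_[p] M)
    (X Y : Module.End ℂ (Fin (Module.finrank ℤ_[p] M) → ℂ))
    (hX : ∀ a, Commute X (baseChangeRep (Module.finBasis ℤ_[p] M) (JJ j) σ a))
    (hY : ∀ a, Commute Y (baseChangeRep (Module.finBasis ℤ_[p] M) (JJ j) σ a)) :
    Commute X Y := by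
  obtain ⟨u, hu⟩ := exists_inv_card (A := A) (p := p) hA
  have hmem : ∀ i l, avgC σ u (eU (M := M) i l) ∈ Cen σ :=
    fun i l => (mem_Cen σ).mpr (commute_avgC σ u _)
  have hXc : ∀ T ∈ Cen σ, Commute X (Phi j T) := by
    intro T hT
    rw [expand_comm σ j hu X hX]
    refine Commute.sum_left _ _ _ (fun i _ => Commute.sum_left _ _ _ (fun l _ => ?_))
    apply Commute.smul_left
    show Phi j _ * Phi j T = Phi j T * Phi j _
    rw [← map_mul, ← map_mul, (Cen_comm σ hA hirr hM _ _ (hmem i l) hT).eq]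
  rw [expand_comm σ j hu Y hY]
  refine Commute.sum_right _ _ _ (fun i _ => Commute.sum_right _ _ _ (fun l _ => ?_))
  apply Commute.smul_right
  exact hXc _ (hmem i l)

end complex

/-- **GA5**: Schur index one for groups of order prime to `p`. -/
theorem classInner_latChar_eq_zero_or_one {p : ℕ} [hp : Fact p.Prime] {A : Type u} [Group A]
    [Fintype A] (hA : (Nat.card A).Coprime p)
    {M : Type*} [AddCommGroup M] [Module ℤ_[p] M] [Module.Free ℤ_[p] M] [Module.Finite ℤ_[p] M]
    (σ : Representation ℤ_[p] A M) (hirr : IsQIrred σ) (j : ℚ_[p] →+* ℂ) (ψ : IrrCharacter A) :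
    classInner (latChar j σ) (ψ : A → ℂ) = 0 ∨ classInner (latChar j σ) (ψ : A → ℂ) = 1 := by
  have hchar : latChar j σ =
      (baseChangeRep (Module.finBasis ℤ_[p] M) (JJ j) σ).character := by
    funext g
    rw [baseChangeRep_character]
    rfl
  obtain ⟨k, τ, hτ, hτc⟩ := ψ.2
  rw [hchar, ← hτc]
  by_cases hM : 0 < Module.finrank ℤ_[p] M
  · exact classInner_le_one_of_comm _ (complex_comm σ j hA hirr hM) τ
  · left
    have h0 : Module.finrank ℤ_[p] M = 0 := by omega
    have hz : (baseChangeRep (Module.finBasis ℤ_[p] M) (JJ j) σ).character = 0 := by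
      funext g
      rw [baseChangeRep_character]
      have : Subsingleton M := by
        have := Module.finrank_zero_iff (R := ℤ_[p]) (M := M)
        exact this.mp h0
      have h1 : σ g = 0 := Subsingleton.elim _ _
      rw [h1, map_zero, map_zero]
      rfl
    rw [hz]
    exact Cfsg.Agent.Lib.Helper3_CharOrtho.classInner_zero_left _

end Cfsg.Agent.Lib.Helper3_GenA5
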