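import Cfsg.Agent.Lib.Helper3_GlaubInd

/-!
# The Glauberman correspondence for a `p`-group, ambient form

Inside a group `Γ`, a `p`-subgroup `S` normalises `G` with `|G|` coprime to `|S|`, and
`C = G ⊓ C_Γ(S)`.
-/

set_option autoImplicit false
set_option linter.unusedSectionVars false

namespace Cfsg.Agent.Lib.Helper3_GlaubAmbient

open Cfsg.Agent.Lib.Helper3_CharBridge Cfsg.Agent.Lib.Helper3_GlaubGood
  Cfsg.Agent.Lib.Helper3_GlaubInd Cfsg.Agent.Lib.Helper75_CharArith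

universe u

variable {Γ : Type u} [Group Γ]

/-- Conjugation action of `S` on `G`. -/
def conjHom (G S : Subgroup Γ) (hnorm : ∀ s ∈ S, ∀ g ∈ G, s * g * s⁻¹ ∈ G) : S →* MulAut G where
  toFun s :=
    { toFun := fun g => ⟨s * g * (s : Γ)⁻¹, hnorm s s.2 g g.2⟩
      invFun := fun g => ⟨(s : Γ)⁻¹ * g * s, by
        have := hnorm (s : Γ)⁻¹ (S.inv_mem s.2) g g.2
        rwa [inv_inv] at this⟩
      left_inv := fun g => by apply Subtype.ext; simp [mul_assoc]
      right_inv := fun g => by apply Subtype.ext; simp [mul_assoc]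
      map_mul' := fun x y => by apply Subtype.ext; simp [mul_assoc] }
  map_one' := by
    ext g
    simp
  map_mul' := fun s t => by
    ext g
    simp [mul_assoc]

@[simp] theorem conjHom_apply (G S : Subgroup Γ) (hnorm : ∀ s ∈ S, ∀ g ∈ G, s * g * s⁻¹ ∈ G)
    (s : S) (g : G) : ((conjHom G S hnorm s g : G) : Γ) = s * g * (s : Γ)⁻¹ := rfl

/-- Invariance in the ambient form. -/
def SInv (G S : Subgroup Γ) (χ : G → ℂ) : Prop :=
  ∀ s ∈ S, ∀ g g' : G, (g' : Γ) = s * g * s⁻¹ → χ g' = χ g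

theorem invSet_iff (G S : Subgroup Γ) (hnorm : ∀ s ∈ S, ∀ g ∈ G, s * g * s⁻¹ ∈ G) (χ : G → ℂ) :
    InvSet (Set.range (conjHom G S hnorm)) χ ↔ SInv G S χ := by
  constructor
  · intro h s hs g g' hg'
    have h1 := h _ ⟨⟨s, hs⟩, rfl⟩ g
    have h2 : g' = conjHom G S hnorm ⟨s, hs⟩ g := Subtype.ext hg'
    rw [h2]; exact h1
  · rintro h a ⟨s, rfl⟩ g
    exact h s s.2 g _ rfl

/-- **Glauberman correspondence**, ambient form, in terms of `Good`. -/
theorem glauberman_ambient [Finite Γ] (G S : Subgroup Γ) [Fintype G]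
    (hnorm : ∀ s ∈ S, ∀ g ∈ G, s * g * s⁻¹ ∈ G) (hcop : (Nat.card G).Coprime (Nat.card S))
    (p : ℕ) [hp : Fact p.Prime] (hS : IsPGroup p S) (C : Subgroup Γ) [Fintype C]
    (hC : C = G ⊓ Subgroup.centralizer (S : Set Γ)) (hCG : C ≤ G) :
    (∀ χ : Cfsg.IrrCharacter G, SInv G S (χ : G → ℂ) →
      ∃ β : Cfsg.IrrCharacter C, Good p (fun c : C => (χ : G → ℂ) ⟨c, hCG c.2⟩) β) ∧
    (∀ χ χ' : Cfsg.IrrCharacter G, SInv G S (χ : G → ℂ) → SInv G S (χ' : G → ℂ) →
      ∀ β : Cfsg.IrrCharacter C, Good p (fun c : C => (χ : G → ℂ) ⟨c, hCG c.2⟩) β →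
        Good p (fun c : C => (χ' : G → ℂ) ⟨c, hCG c.2⟩) β → χ = χ') ∧
    (∀ β : Cfsg.IrrCharacter C, ∃ χ : Cfsg.IrrCharacter G, SInv G S (χ : G → ℂ) ∧
      Good p (fun c : C => (χ : G → ℂ) ⟨c, hCG c.2⟩) β) := by
  obtain ⟨n, hn⟩ := IsPGroup.iff_card.mp hS
  have hpG : n ≠ 0 → ¬ p ∣ Nat.card G := by
    intro hn0 hdvd
    have h1 : p ∣ Nat.card S := by rw [hn]; exact dvd_pow_self p hn0
    have h2 := Nat.dvd_gcd hdvd h1
    rw [hcop] at h2
    exact hp.out.one_lt.ne' (Nat.dvd_one.mp h2)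
  have hfix : ∀ g : G, (∀ s : S, conjHom G S hnorm s g = g) ↔
      g ∈ (Subgroup.inclusion hCG).range := by
    intro g
    constructor
    · intro h
      have hgC : (g : Γ) ∈ C := by
        rw [hC, Subgroup.mem_inf]
        refine ⟨g.2, ?_⟩
        rw [Subgroup.mem_centralizer_iff]
        intro s hs
        have h1 := congrArg Subtype.val (h ⟨s, hs⟩)
        rw [conjHom_apply] at h1
        have h2 : s * (g : Γ) = (s * g * s⁻¹) * s := by group
        rw [h2, h1]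
      exact ⟨⟨g, hgC⟩, Subtype.ext rfl⟩
    · rintro ⟨c, rfl⟩ s
      apply Subtype.ext
      rw [conjHom_apply]
      have hc : (c : Γ) ∈ Subgroup.centralizer (S : Set Γ) := by
        have h3 : (c : Γ) ∈ G ⊓ Subgroup.centralizer (S : Set Γ) := hC ▸ c.2
        exact (Subgroup.mem_inf.mp h3).2
      rw [Subgroup.mem_centralizer_iff] at hc
      have h1 := hc s s.2
      show (s : Γ) * (c : Γ) * (s : Γ)⁻¹ = c
      rw [h1]; group
  have habc := glauberman_pgroup (p := p) n hpG hn (conjHom G S hnorm) (Subgroup.inclusion hCG)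
    (Subgroup.inclusion_injective hCG) hfix
  refine ⟨?_, ?_, ?_⟩
  · intro χ hχ
    exact habc.exists_good χ ((invSet_iff G S hnorm _).mpr hχ)
  · intro χ χ' hχ hχ' β hg hg'
    exact habc.inj χ χ' ((invSet_iff G S hnorm _).mpr hχ) ((invSet_iff G S hnorm _).mpr hχ') β
      hg hg'
  · intro β
    obtain ⟨χ, hχ, hg⟩ := habc.surj β
    exact ⟨χ, (invSet_iff G S hnorm _).mp hχ, hg⟩

end Cfsg.Agent.Lib.Helper3_GlaubAmbient
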