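import Mathlib

/-!
# A combinatorial lemma on integer matrices

Let `n : B → Λ → ℤ` with `|Λ| = p ≥ 2` and `∑_β (p ∑_λ n_{βλ}² - (∑_λ n_{βλ})²) = p - 1`.
Then exactly one row is non-constant, and it has the form `m + ε·[λ = λ₀]` with `ε = ±1`.
-/

set_option autoImplicit false

namespace Cfsg.Agent.Lib.Helper3_GlaubComb

variable {Λ : Type*} [Fintype Λ] [DecidableEq Λ]

/-- The defect of a row. -/
def defect (v : Λ → ℤ) : ℤ := (Fintype.card Λ : ℤ) * ∑ l, v l ^ 2 - (∑ l, v l) ^ 2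

theorem two_mul_defect (v : Λ → ℤ) : 2 * defect v = ∑ l, ∑ m, (v l - v m) ^ 2 := by
  unfold defect
  have h1 : ∀ l m : Λ, (v l - v m) ^ 2 = v l ^ 2 - 2 * (v l * v m) + v m ^ 2 := by
    intro l m; ring
  have e1 : ∑ l, ∑ _m : Λ, v l ^ 2 = (Fintype.card Λ : ℤ) * ∑ l, v l ^ 2 := by
    simp [Finset.sum_const, Finset.mul_sum]
  have e2 : ∑ _l : Λ, ∑ m, v m ^ 2 = (Fintype.card Λ : ℤ) * ∑ l, v l ^ 2 := by
    simp [Finset.sum_const]
  simp_rw [h1, Finset.sum_add_distrib, Finset.sum_sub_distrib]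
  rw [e1, e2]
  simp_rw [← Finset.mul_sum]
  rw [← Finset.sum_mul]
  ring

theorem defect_nonneg (v : Λ → ℤ) : 0 ≤ defect v := by
  have h := two_mul_defect v
  have h2 : 0 ≤ ∑ l, ∑ m, (v l - v m) ^ 2 :=
    Finset.sum_nonneg (fun l _ => Finset.sum_nonneg (fun m _ => sq_nonneg _))
  linarith

theorem defect_const (c : ℤ) : defect (fun _ : Λ => c) = 0 := by
  have h := two_mul_defect (fun _ : Λ => c)
  simp at h
  exact h

theorem one_le_sq {x : ℤ} (h : x ≠ 0) : 1 ≤ x ^ 2 := by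
  have := Int.one_le_abs h
  nlinarith [sq_abs x]

/-- Splitting off two distinct indices from a sum. -/
theorem sum_split_two (f : Λ → ℤ) {l₁ l₂ : Λ} (h : l₁ ≠ l₂) :
    ∑ l, f l = f l₁ + f l₂ + ∑ l ∈ (Finset.univ.erase l₁).erase l₂, f l := by
  rw [← Finset.add_sum_erase Finset.univ f (Finset.mem_univ l₁),
    ← Finset.add_sum_erase (Finset.univ.erase l₁) f
      (Finset.mem_erase.mpr ⟨h.symm, Finset.mem_univ l₂⟩)]
  ring

theorem card_rest {l₁ l₂ : Λ} (h : l₁ ≠ l₂) :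
    (((Finset.univ : Finset Λ).erase l₁).erase l₂).card = Fintype.card Λ - 2 := by
  rw [Finset.card_erase_of_mem (Finset.mem_erase.mpr ⟨h.symm, Finset.mem_univ l₂⟩),
    Finset.card_erase_of_mem (Finset.mem_univ l₁), Finset.card_univ]
  omega

/-- The exact expansion of the double sum around two indices. -/
theorem double_sum_expand (v : Λ → ℤ) {l₁ l₂ : Λ} (h : l₁ ≠ l₂) :
    ∑ l, ∑ m, (v l - v m) ^ 2 = 2 * (v l₁ - v l₂) ^ 2 +
      2 * ∑ m ∈ (Finset.univ.erase l₁).erase l₂, ((v l₁ - v m) ^ 2 + (v l₂ - v m) ^ 2) +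
      ∑ l ∈ (Finset.univ.erase l₁).erase l₂, ∑ m ∈ (Finset.univ.erase l₁).erase l₂,
        (v l - v m) ^ 2 := by
  rw [sum_split_two (fun l => ∑ m, (v l - v m) ^ 2) h]
  simp only [sum_split_two (fun m => (v _ - v m) ^ 2) h]
  rw [Finset.sum_add_distrib, Finset.sum_add_distrib, Finset.sum_add_distrib]
  have e1 : ∀ x ∈ (Finset.univ.erase l₁).erase l₂, (v x - v l₁) ^ 2 = (v l₁ - v x) ^ 2 :=
    fun x _ => by ring
  have e2 : ∀ x ∈ (Finset.univ.erase l₁).erase l₂, (v x - v l₂) ^ 2 = (v l₂ - v x) ^ 2 :=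
    fun x _ => by ring
  rw [Finset.sum_congr rfl e1, Finset.sum_congr rfl e2]
  ring

/-- **Single row**: a non-constant row has defect at least `p - 1`. -/
theorem defect_ge_of_ne (v : Λ → ℤ) {l₁ l₂ : Λ} (h : v l₁ ≠ v l₂) :
    (Fintype.card Λ : ℤ) - 1 ≤ defect v := by
  have hne : l₁ ≠ l₂ := fun e => h (by rw [e])
  have h2 := two_mul_defect v
  rw [double_sum_expand v hne] at h2
  have hδ : 1 ≤ (v l₁ - v l₂) ^ 2 := one_le_sq (sub_ne_zero.mpr h)
  have hg : ∀ m ∈ (Finset.univ.erase l₁).erase l₂, (1 : ℤ) ≤ (v l₁ - v m) ^ 2 + (v l₂ - v m) ^ 2 := by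
    intro m _
    by_cases hm : v m = v l₁
    · have : 1 ≤ (v l₂ - v m) ^ 2 := one_le_sq (by rw [hm]; exact sub_ne_zero.mpr h.symm)
      nlinarith [sq_nonneg (v l₁ - v m)]
    · have : 1 ≤ (v l₁ - v m) ^ 2 := one_le_sq (sub_ne_zero.mpr (Ne.symm hm))
      nlinarith [sq_nonneg (v l₂ - v m)]
  have hsum : ((Fintype.card Λ : ℤ) - 2) ≤
      ∑ m ∈ (Finset.univ.erase l₁).erase l₂, ((v l₁ - v m) ^ 2 + (v l₂ - v m) ^ 2) := by
    have h3 := Finset.card_nsmul_le_sum ((Finset.univ.erase l₁).erase l₂)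
      (fun m => (v l₁ - v m) ^ 2 + (v l₂ - v m) ^ 2) 1 hg
    rw [card_rest hne, nsmul_eq_mul, mul_one] at h3
    have h4 : 2 ≤ Fintype.card Λ := by
      have : ({l₁, l₂} : Finset Λ).card ≤ Fintype.card Λ := Finset.card_le_univ _
      rwa [Finset.card_pair hne] at this
    have h5 : ((Fintype.card Λ - 2 : ℕ) : ℤ) = (Fintype.card Λ : ℤ) - 2 := by omega
    rw [h5] at h3
    exact h3
  have hW : 0 ≤ ∑ l ∈ (Finset.univ.erase l₁).erase l₂, ∑ m ∈ (Finset.univ.erase l₁).erase l₂,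
      (v l - v m) ^ 2 :=
    Finset.sum_nonneg (fun l _ => Finset.sum_nonneg (fun m _ => sq_nonneg _))
  linarith

/-- **Single row, equality case**. -/
theorem shape_of_defect_eq (v : Λ → ℤ) (hd : defect v = (Fintype.card Λ : ℤ) - 1)
    (hp : 2 ≤ Fintype.card Λ) :
    ∃ (l₀ : Λ) (m ε : ℤ), (ε = 1 ∨ ε = -1) ∧ ∀ l, v l = m + if l = l₀ then ε else 0 := by
  -- `v` is not constant
  have hnc : ∃ l₁ l₂ : Λ, v l₁ ≠ v l₂ := by
    by_contra hc
    push Not at hc
    have : Nonempty Λ := Fintype.card_pos_iff.mp (by omega)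
    obtain ⟨l⟩ := this
    have h1 : v = fun _ => v l := funext (fun x => hc x l)
    rw [h1, defect_const] at hd
    have : (2 : ℤ) ≤ Fintype.card Λ := by exact_mod_cast hp
    linarith
  obtain ⟨l₁, l₂, h⟩ := hnc
  have hne : l₁ ≠ l₂ := fun e => h (by rw [e])
  have h2 := two_mul_defect v
  rw [double_sum_expand v hne, hd] at h2
  have hδ : 1 ≤ (v l₁ - v l₂) ^ 2 := one_le_sq (sub_ne_zero.mpr h)
  have hg : ∀ m ∈ (Finset.univ.erase l₁).erase l₂, (1 : ℤ) ≤ (v l₁ - v m) ^ 2 + (v l₂ - v m) ^ 2 := by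
    intro m _
    by_cases hm : v m = v l₁
    · have : 1 ≤ (v l₂ - v m) ^ 2 := one_le_sq (by rw [hm]; exact sub_ne_zero.mpr h.symm)
      nlinarith [sq_nonneg (v l₁ - v m)]
    · have : 1 ≤ (v l₁ - v m) ^ 2 := one_le_sq (sub_ne_zero.mpr (Ne.symm hm))
      nlinarith [sq_nonneg (v l₂ - v m)]
  have h3 := Finset.card_nsmul_le_sum ((Finset.univ.erase l₁).erase l₂)
      (fun m => (v l₁ - v m) ^ 2 + (v l₂ - v m) ^ 2) 1 hg
  rw [card_rest hne, nsmul_eq_mul, mul_one] at h3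
  have h5 : ((Fintype.card Λ - 2 : ℕ) : ℤ) = (Fintype.card Λ : ℤ) - 2 := by omega
  rw [h5] at h3
  have hWnn : ∀ l ∈ (Finset.univ.erase l₁).erase l₂, 0 ≤ ∑ m ∈ (Finset.univ.erase l₁).erase l₂,
      (v l - v m) ^ 2 := fun l _ => Finset.sum_nonneg (fun m _ => sq_nonneg _)
  have hW : 0 ≤ ∑ l ∈ (Finset.univ.erase l₁).erase l₂, ∑ m ∈ (Finset.univ.erase l₁).erase l₂,
      (v l - v m) ^ 2 := Finset.sum_nonneg hWnn
  -- equalities
  have hδ1 : (v l₁ - v l₂) ^ 2 = 1 := by linarith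
  have hW0 : ∑ l ∈ (Finset.univ.erase l₁).erase l₂, ∑ m ∈ (Finset.univ.erase l₁).erase l₂,
      (v l - v m) ^ 2 = 0 := by linarith
  have hgsum : ∑ m ∈ (Finset.univ.erase l₁).erase l₂, ((v l₁ - v m) ^ 2 + (v l₂ - v m) ^ 2) =
      ∑ _m ∈ (Finset.univ.erase l₁).erase l₂, (1 : ℤ) := by
    rw [Finset.sum_const, card_rest hne, nsmul_eq_mul, mul_one, h5]
    linarith
  have hg1 : ∀ m ∈ (Finset.univ.erase l₁).erase l₂, (v l₁ - v m) ^ 2 + (v l₂ - v m) ^ 2 = 1 := by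
    intro m hm
    exact ((Finset.sum_eq_sum_iff_of_le (fun i hi => hg i hi)).mp hgsum.symm m hm).symm
  have hrest : ∀ l ∈ (Finset.univ.erase l₁).erase l₂, ∀ m ∈ (Finset.univ.erase l₁).erase l₂,
      v l = v m := by
    intro l hl m hm
    have h6 := (Finset.sum_eq_zero_iff_of_nonneg hWnn).mp hW0 l hl
    have h7 := (Finset.sum_eq_zero_iff_of_nonneg (fun m _ => sq_nonneg (v l - v m))).mp h6 m hm
    have h8 : v l - v m = 0 := by
      rcases sq_eq_zero_iff.mp h7 with h9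
      exact h9
    linarith
  have hmem : ∀ l, l ≠ l₁ → l ≠ l₂ → l ∈ (Finset.univ.erase l₁).erase l₂ := fun l h1 h2 =>
    Finset.mem_erase.mpr ⟨h2, Finset.mem_erase.mpr ⟨h1, Finset.mem_univ l⟩⟩
  -- each remaining value is `v l₁` or `v l₂`
  have hval : ∀ m ∈ (Finset.univ.erase l₁).erase l₂, v m = v l₁ ∨ v m = v l₂ := by
    intro m hm
    have h6 := hg1 m hm
    by_cases hm1 : v m = v l₁
    · exact Or.inl hm1
    · right
      have h7 : 1 ≤ (v l₁ - v m) ^ 2 := one_le_sq (sub_ne_zero.mpr (Ne.symm hm1))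
      have h8 : (v l₂ - v m) ^ 2 = 0 := by nlinarith [sq_nonneg (v l₂ - v m)]
      have h9 : v l₂ - v m = 0 := sq_eq_zero_iff.mp h8
      linarith
  have hε : v l₂ - v l₁ = 1 ∨ v l₂ - v l₁ = -1 := by
    have h6 : (v l₂ - v l₁) ^ 2 = 1 := by rw [← hδ1]; ring
    have h7 : (v l₂ - v l₁ - 1) * (v l₂ - v l₁ + 1) = 0 := by linear_combination h6
    rcases mul_eq_zero.mp h7 with h8 | h8
    · left; linarith
    · right; linarith
  by_cases hex : ∃ m ∈ (Finset.univ.erase l₁).erase l₂, v m = v l₂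
  · -- all the rest equal `v l₂`; the exceptional index is `l₁`
    obtain ⟨m₀, hm₀, hm₀v⟩ := hex
    refine ⟨l₁, v l₂, v l₁ - v l₂, ?_, ?_⟩
    · rcases hε with h6 | h6
      · right; linarith
      · left; linarith
    · intro l
      by_cases h1 : l = l₁
      · rw [if_pos h1, h1]; ring
      · rw [if_neg h1, add_zero]
        by_cases h2 : l = l₂
        · rw [h2]
        · rw [hrest l (hmem l h1 h2) m₀ hm₀, hm₀v]
  · -- all the rest equal `v l₁`; the exceptional index is `l₂`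
    push Not at hex
    refine ⟨l₂, v l₁, v l₂ - v l₁, hε, ?_⟩
    intro l
    by_cases h2 : l = l₂
    · rw [if_pos h2, h2]; ring
    · rw [if_neg h2, add_zero]
      by_cases h1 : l = l₁
      · rw [h1]
      · rcases hval l (hmem l h1 h2) with h6 | h6
        · exact h6
        · exact absurd h6 (hex l (hmem l h1 h2))

/-- **The matrix lemma.** -/
theorem exists_unique_row {B : Type*} [Fintype B] [DecidableEq B] (n : B → Λ → ℤ)
    (hp : 2 ≤ Fintype.card Λ) (hsum : ∑ b, defect (n b) = (Fintype.card Λ : ℤ) - 1) :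
    ∃ (b₀ : B) (l₀ : Λ) (m ε : ℤ), (ε = 1 ∨ ε = -1) ∧
      (∀ l, n b₀ l = m + if l = l₀ then ε else 0) ∧
      ∀ b, b ≠ b₀ → ∃ m' : ℤ, ∀ l, n b l = m' := by
  classical
  have hp' : (2 : ℤ) ≤ Fintype.card Λ := by exact_mod_cast hp
  have : Nonempty Λ := Fintype.card_pos_iff.mp (by omega)
  obtain ⟨l⟩ := this
  -- some row is non-constant
  have hex : ∃ b₀ : B, ∃ l₁ l₂ : Λ, n b₀ l₁ ≠ n b₀ l₂ := by
    by_contra hc
    push Not at hc
    have h1 : ∀ b, defect (n b) = 0 := by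
      intro b
      have : n b = fun _ => n b l := funext (fun x => hc b x l)
      rw [this, defect_const]
    rw [Finset.sum_congr rfl (fun b _ => h1 b), Finset.sum_const_zero] at hsum
    linarith
  obtain ⟨b₀, l₁, l₂, hb₀⟩ := hex
  have hge := defect_ge_of_ne (n b₀) hb₀
  -- the other rows are constant
  have hconst : ∀ b, b ≠ b₀ → ∀ x y : Λ, n b x = n b y := by
    intro b hb x y
    by_contra hxy
    have h1 := defect_ge_of_ne (n b) hxy
    have h2 : defect (n b₀) + defect (n b) ≤ ∑ b, defect (n b) := by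
      have h3 : ∑ b ∈ ({b₀, b} : Finset B), defect (n b) ≤ ∑ b, defect (n b) :=
        Finset.sum_le_sum_of_subset_of_nonneg (Finset.subset_univ _)
          (fun i _ _ => defect_nonneg _)
      rwa [Finset.sum_pair (Ne.symm hb)] at h3
    linarith
  have hd0 : ∀ b, b ≠ b₀ → defect (n b) = 0 := by
    intro b hb
    have : n b = fun _ => n b l := funext (fun x => hconst b hb x l)
    rw [this, defect_const]
  have hdb₀ : defect (n b₀) = (Fintype.card Λ : ℤ) - 1 := by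
    rw [← hsum, Finset.sum_eq_single b₀ (fun b _ hb => hd0 b hb)
      (fun h => absurd (Finset.mem_univ _) h)]
  obtain ⟨l₀, m, ε, hε, hshape⟩ := shape_of_defect_eq (n b₀) hdb₀ hp
  exact ⟨b₀, l₀, m, ε, hε, hshape, fun b hb => ⟨n b l, fun x => hconst b hb x l⟩⟩

end Cfsg.Agent.Lib.Helper3_GlaubComb
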