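import Cfsg.Agent.Lib.Helper3_GlaubSemi
import Cfsg.Agent.Lib.Helper3_GlaubComb
import Cfsg.Agent.Lib.Helper3_TwistedClass
import Cfsg.Agent.Lib.Helper3_BrauerPermAut
import Cfsg.Agent.Lib.Helper75_CharProd
import Cfsg.Agent.Lib.Helper75_CharArith
import Cfsg.Agent.Lib.Helper3_Artin
import Cfsg.Agent.Lib.Helper3_GlaubGood

/-!
# The Glauberman correspondence for an automorphism of prime order

`G` a finite group, `a` an automorphism of prime order `p ∤ |G|`, `ι : C →* G` an injective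
homomorphism whose range is the fixed-point subgroup of `a`.  For every `a`-invariant
`χ ∈ Irr(G)` there is a unique `β ∈ Irr(C)` with `[χ ∘ ι, β] ≡ ±1 (mod p)`, all the other
multiplicities are divisible by `p`, and `χ ↦ β` is a bijection.
-/

set_option autoImplicit false
set_option linter.unusedSectionVars false

namespace Cfsg.Agent.Lib.Helper3_GlaubBase

open scoped ComplexConjugate
open Cfsg.Agent.Lib.Helper3_CharBridge Cfsg.Agent.Lib.Helper3_CharOrtho
  Cfsg.Agent.Lib.Helper3_CharComplete Cfsg.Agent.Lib.Helper3_CharColumn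
  Cfsg.Agent.Lib.Helper3_GlaubSemi Cfsg.Agent.Lib.Helper3_TwistedClass
  Cfsg.Agent.Lib.Helper3_GlaubComb Cfsg.Agent.Lib.Helper3_GlaubGood

universe u

variable {G C : Type u} [Group G] [Fintype G] [Group C] [Fintype C]

section basics

variable {p : ℕ} [hp : Fact p.Prime] {a : MulAut G} (ha : orderOf a = p)

include ha in
theorem card_AA : Nat.card (AA a) = p := by
  rw [Nat.card_zpowers, ha]

include ha in
theorem pow_p (b : AA a) : (b : MulAut G) ^ p = 1 := by
  have h : b ^ Nat.card (AA a) = 1 := pow_card_eq_one'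
  rw [card_AA ha] at h
  have := congrArg Subtype.val h
  simpa using this

include ha in
theorem fix_iff {b : AA a} (hb : b ≠ 1) (g : G) : (b : MulAut G) g = g ↔ a g = g := by
  constructor
  · intro h
    have htop : Subgroup.zpowers b = ⊤ := zpowers_eq_top_of_prime_card (card_AA ha) hb
    have hmem : (⟨a, Subgroup.mem_zpowers a⟩ : AA a) ∈ Subgroup.zpowers b := by
      rw [htop]; exact Subgroup.mem_top _
    obtain ⟨k, hk⟩ := Subgroup.mem_zpowers_iff.mp hmem
    have h2 : ((b : MulAut G) ^ k) = a := by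
      have := congrArg Subtype.val hk
      simpa using this
    rw [← h2]
    exact zpow_apply_of_fixed _ h k
  · intro h
    obtain ⟨k, hk⟩ := Subgroup.mem_zpowers_iff.mp b.2
    rw [← hk]
    exact zpow_apply_of_fixed _ h k

end basics

/-- An invariant irreducible character together with an extension to `H`. -/
structure Ext (a : MulAut G) where
  /-- the character of `G` -/
  χ : Cfsg.IrrCharacter G
  /-- the extension -/
  χh : HH a → ℂ
  irr : Cfsg.IsIrrCharacter (HH a) χh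
  ext : ∀ g, χh (il a g) = (χ : G → ℂ) g

variable {a : MulAut G}

/-- The values of the extension on the coset of `b`. -/
def Ext.X (E : Ext a) (b : AA a) (g : G) : ℂ := E.χh (il a g * ir a b)

theorem Ext.X_one (E : Ext a) (g : G) : E.X 1 g = (E.χ : G → ℂ) g := by
  unfold Ext.X
  rw [map_one, mul_one, E.ext]

theorem Ext.X_twisted (E : Ext a) (b : AA a) (y g : G) :
    E.X b (y * g * ((b : MulAut G) y)⁻¹) = E.X b g := by
  unfold Ext.X
  rw [← il_conj]
  exact isClassFunction_of_isIrrCharacter E.irr _ _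

theorem Ext.inv (E : Ext a) (g : G) : (E.χ : G → ℂ) (a g) = (E.χ : G → ℂ) g := by
  rw [← E.ext, ← E.ext]
  have h1 : il a (a g) = ir a ⟨a, Subgroup.mem_zpowers a⟩ * il a g *
      (ir a ⟨a, Subgroup.mem_zpowers a⟩)⁻¹ := by
    rw [ir_mul_il]; group
  rw [h1]
  exact isClassFunction_of_isIrrCharacter E.irr _ _

/-- Existence of extension data. -/
theorem exists_ext (χ : Cfsg.IrrCharacter G) (hinv : ∀ g, (χ : G → ℂ) (a g) = (χ : G → ℂ) g) :
    ∃ E : Ext a, E.χ = χ := by
  obtain ⟨χh, h1, h2⟩ := exists_extension a χ hinv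
  exact ⟨⟨χ, χh, h1, h2⟩, rfl⟩

section withC

variable (ι : C →* G)

/-- The values on `C`. -/
def Ext.Y (E : Ext a) (b : AA a) (c : C) : ℂ := E.X b (ι c)

/-- The coefficient functions `f_β(b) = [Y_b, β]`. -/
noncomputable def Ext.f (E : Ext a) (β : Cfsg.IrrCharacter C) (b : AA a) : ℂ :=
  Cfsg.classInner (E.Y ι b) (β : C → ℂ)

theorem Ext.f_one (E : Ext a) (β : Cfsg.IrrCharacter C) :
    E.f ι β 1 = Cfsg.classInner (fun c => (E.χ : G → ℂ) (ι c)) (β : C → ℂ) := by
  unfold Ext.f Ext.Y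
  congr 1
  funext c
  exact E.X_one _

variable {p : ℕ} [hp : Fact p.Prime] (ha : orderOf a = p)
  (hfix : ∀ g : G, a g = g ↔ g ∈ ι.range)

include ha hfix in
theorem Ext.Y_class (E : Ext a) (b : AA a) : Cfsg.IsClassFunction C (E.Y ι b) := by
  intro c z
  unfold Ext.Y
  have hz : (b : MulAut G) (ι z) = ι z := by
    by_cases hb : b = 1
    · rw [hb]; rfl
    · exact (fix_iff ha hb _).mpr ((hfix _).mpr ⟨z, rfl⟩)
  have := E.X_twisted b (ι z) (ι c)
  rw [hz] at this
  rw [map_mul, map_mul, map_inv]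
  exact this

include ha hfix in
/-- The twisted class equation on the coset of `b ≠ 1`. -/
theorem Ext.sum_coset (hpG : ¬ p ∣ Nat.card G) (hι : Function.Injective ι) (E E' : Ext a)
    {b : AA a} (hb : b ≠ 1) :
    ∑ g : G, E.X b g * conj (E'.X b g) =
      (Nat.card G : ℂ) * Cfsg.classInner (E.Y ι b) (E'.Y ι b) := by
  have hcop : Nat.Coprime (Nat.card G) p :=
    (Nat.Coprime.symm ((Nat.Prime.coprime_iff_not_dvd hp.out).mpr hpG))
  have hfixb : ∀ g : G, (b : MulAut G) g = g ↔ g ∈ ι.range := fun g =>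
    (fix_iff ha hb g).trans (hfix g)
  have h := sum_twisted (M := ℂ) (b : MulAut G) (pow_p ha b) hcop ι hι hfixb
    (fun g => E.X b g * conj (E'.X b g))
    (fun y g => by simp only [E.X_twisted, E'.X_twisted])
  rw [nsmul_eq_mul, nsmul_eq_mul] at h
  unfold Cfsg.classInner
  have hC : (Fintype.card C : ℂ) ≠ 0 := by
    exact_mod_cast Fintype.card_ne_zero
  rw [Nat.card_eq_fintype_card, Nat.card_eq_fintype_card]
  have h2 : ∑ c : C, E.Y ι b c * conj (E'.Y ι b c) =
      ∑ c : C, E.X b (ι c) * conj (E'.X b (ι c)) := rfl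
  rw [h2]
  field_simp
  linear_combination h

include ha hfix in
/-- Parseval on `C` for the coset functions. -/
theorem Ext.classInner_Y (E E' : Ext a) (b : AA a) :
    Cfsg.classInner (E.Y ι b) (E'.Y ι b) =
      ∑ β : Cfsg.IrrCharacter C, E.f ι β b * conj (E'.f ι β b) := by
  rw [Cfsg.Agent.Lib.Helper75_CharArith.classInner_eq_sum_irr (E.Y_class ι ha hfix b)]
  apply Finset.sum_congr rfl
  intro β _
  unfold Ext.f
  rw [classInner_conj_symm]

/-- The homomorphism `C × ⟨a⟩ → H`. -/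
def prodHom (hfixa : ∀ c : C, a (ι c) = ι c) : C × AA a →* HH a where
  toFun x := il a (ι x.1) * ir a x.2
  map_one' := by simp
  map_mul' := by
    intro x y
    have h1 : ((x.2 : AA a) : MulAut G) (ι y.1) = ι y.1 := by
      obtain ⟨k, hk⟩ := Subgroup.mem_zpowers_iff.mp x.2.2
      rw [← hk]
      exact zpow_apply_of_fixed _ (hfixa y.1) k
    show il a (ι (x.1 * y.1)) * ir a (x.2 * y.2) =
      il a (ι x.1) * ir a x.2 * (il a (ι y.1) * ir a y.2)
    have h2 : ir a x.2 * il a (ι y.1) = il a (ι y.1) * ir a x.2 := by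
      rw [ir_mul_il, h1]
    calc il a (ι (x.1 * y.1)) * ir a (x.2 * y.2)
        = il a (ι x.1) * (il a (ι y.1) * ir a x.2) * ir a y.2 := by
          rw [map_mul, map_mul, map_mul]; group
      _ = il a (ι x.1) * ir a x.2 * (il a (ι y.1) * ir a y.2) := by
          rw [← h2]; group

include hfix in
/-- **Integrality**: the Fourier coefficients of `f_β` are natural numbers. -/
theorem Ext.exists_nat (E : Ext a) (β : Cfsg.IrrCharacter C) (lam : Cfsg.IrrCharacter (AA a)) :
    ∃ n : ℕ, Cfsg.classInner (E.f ι β) (lam : AA a → ℂ) = n := by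
  have hfixa : ∀ c : C, a (ι c) = ι c := fun c => (hfix _).mpr ⟨c, rfl⟩
  have h1 : Cfsg.IsCharacter (C × AA a) (fun x => E.χh (prodHom ι hfixa x)) :=
    Cfsg.Agent.Lib.Helper75_CharArith.isCharacter_comp (prodHom ι hfixa)
      (isCharacter_of_isIrrCharacter E.irr)
  have h2 : Cfsg.IsCharacter (C × AA a) (fun x => (β : C → ℂ) x.1 * (lam : AA a → ℂ) x.2) := by
    have h3 := Cfsg.Agent.Lib.Helper75_CharArith.isCharacter_comp (MonoidHom.fst C (AA a))
      (isCharacter_of_isIrrCharacter β.2)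
    have h4 := Cfsg.Agent.Lib.Helper75_CharArith.isCharacter_comp (MonoidHom.snd C (AA a))
      (isCharacter_of_isIrrCharacter lam.2)
    exact Cfsg.Agent.Lib.Helper75_CharProd.isCharacter_mul h3 h4
  obtain ⟨n, hn⟩ := Cfsg.Agent.Lib.Helper75_CharArith.classInner_isCharacter_nat h1 h2
  refine ⟨n, ?_⟩
  rw [← hn]
  have e1 : Cfsg.classInner (E.f ι β) (lam : AA a → ℂ) =
      (Nat.card (AA a) : ℂ)⁻¹ * ∑ b : AA a, ((Nat.card C : ℂ)⁻¹ *
        ∑ c : C, E.χh (il a (ι c) * ir a b) * conj ((β : C → ℂ) c)) *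
          conj ((lam : AA a → ℂ) b) := rfl
  have e2 : Cfsg.classInner (fun x => E.χh (prodHom ι hfixa x))
        (fun x => (β : C → ℂ) x.1 * (lam : AA a → ℂ) x.2) =
      ((Nat.card C : ℂ) * (Nat.card (AA a) : ℂ))⁻¹ * ∑ b : AA a, ∑ c : C,
        E.χh (il a (ι c) * ir a b) * (conj ((β : C → ℂ) c) * conj ((lam : AA a → ℂ) b)) := by
    unfold Cfsg.classInner
    rw [Nat.card_prod, Fintype.sum_prod_type, Finset.sum_comm]
    push_cast
    simp only [map_mul]
    rfl
  rw [e1, e2]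
  simp only [Finset.mul_sum, Finset.sum_mul]
  apply Finset.sum_congr rfl
  intro b _
  apply Finset.sum_congr rfl
  intro c _
  ring

open scoped Classical in
include ha hfix in
/-- **The pairing identity.** -/
theorem Ext.pairing (hpG : ¬ p ∣ Nat.card G) (hι : Function.Injective ι) (E E' : Ext a) :
    (if E.χh = E'.χh then (Nat.card (HH a) : ℂ) else 0) =
      (Nat.card G : ℂ) * (Cfsg.classInner (E.χ : G → ℂ) (E'.χ : G → ℂ) +
        ∑ b ∈ (Finset.univ : Finset (AA a)).erase 1, ∑ β : Cfsg.IrrCharacter C,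
          E.f ι β b * conj (E'.f ι β b)) := by
  classical
  have h1 := sum_cosets_irr a E.irr E'.irr
  have h2 : ∀ b : AA a, ∑ g : G, E.χh (il a g * ir a b) * conj (E'.χh (il a g * ir a b)) =
      ∑ g : G, E.X b g * conj (E'.X b g) := fun b => rfl
  simp_rw [h2] at h1
  rw [← h1, ← Finset.add_sum_erase Finset.univ _ (Finset.mem_univ (1 : AA a)), mul_add]
  congr 1
  · unfold Cfsg.classInner
    have hG : (Nat.card G : ℂ) ≠ 0 := card_ne_zero_complex
    simp_rw [E.X_one, E'.X_one]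
    field_simp
  · rw [Finset.mul_sum]
    apply Finset.sum_congr rfl
    intro b hb
    have hb1 : b ≠ 1 := (Finset.mem_erase.mp hb).1
    rw [E.sum_coset ι ha hfix hpG hι E' hb1, E.classInner_Y ι ha hfix E' b]

section fourier

include ha

theorem irrA_one (lam : Cfsg.IrrCharacter (AA a)) : (lam : AA a → ℂ) 1 = 1 :=
  Cfsg.Agent.Lib.Helper3_Artin.irr_one_eq_one_of_comm lam.2

theorem card_irrA : Fintype.card (Cfsg.IrrCharacter (AA a)) = p := by
  have h := sum_sq_irr_one (G := AA a)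
  simp_rw [irrA_one ha] at h
  rw [card_AA ha] at h
  simp only [one_pow, Finset.sum_const, Finset.card_univ, nsmul_eq_mul, mul_one] at h
  exact_mod_cast h

theorem sum_irrA_apply {b : AA a} (hb : b ≠ 1) :
    ∑ lam : Cfsg.IrrCharacter (AA a), (lam : AA a → ℂ) b = 0 := by
  classical
  have h := column_orthogonality (G := AA a) b 1
  rw [if_neg (fun hc => hb (isConj_one_left.mp hc))] at h
  simp_rw [irrA_one ha, map_one, mul_one] at h
  exact h

theorem isClassFunction_AA (φ : AA a → ℂ) : Cfsg.IsClassFunction (AA a) φ := by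
  intro g h
  rw [mul_comm' h g, mul_inv_cancel_right]

/-- Fourier expansion on `⟨a⟩`. -/
theorem fourier_expand (φ : AA a → ℂ) (n : Cfsg.IrrCharacter (AA a) → ℤ)
    (hn : ∀ lam : Cfsg.IrrCharacter (AA a), Cfsg.classInner φ (lam : AA a → ℂ) = (n lam : ℂ)) (b : AA a) :
    φ b = ∑ lam : Cfsg.IrrCharacter (AA a), (n lam : ℂ) * (lam : AA a → ℂ) b := by
  have h := congrFun (classFunction_eq_sum φ (isClassFunction_AA ha φ)) b
  rw [Finset.sum_apply] at h
  simp only [Pi.smul_apply, smul_eq_mul, hn] at h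
  exact h

/-- Parseval on `⟨a⟩`. -/
theorem fourier_parseval (φ : AA a → ℂ) (n : Cfsg.IrrCharacter (AA a) → ℤ)
    (hn : ∀ lam : Cfsg.IrrCharacter (AA a), Cfsg.classInner φ (lam : AA a → ℂ) = (n lam : ℂ)) :
    ∑ b : AA a, φ b * conj (φ b) =
      (p : ℂ) * ∑ lam : Cfsg.IrrCharacter (AA a), ((n lam : ℤ) : ℂ) ^ 2 := by
  have h := Cfsg.Agent.Lib.Helper75_CharArith.classInner_self_eq_sum (isClassFunction_AA ha φ)
  simp only [hn, map_intCast] at h
  unfold Cfsg.classInner at h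
  rw [card_AA ha] at h
  have hp0 : (p : ℂ) ≠ 0 := by exact_mod_cast hp.out.ne_zero
  have h2 : ∑ b : AA a, φ b * conj (φ b) =
      (p : ℂ) * ∑ lam : Cfsg.IrrCharacter (AA a), (n lam : ℂ) * (n lam : ℂ) := by
    rw [← h]; field_simp
  rw [h2]
  congr 1
  apply Finset.sum_congr rfl
  intro lam _
  ring

open scoped Classical in
/-- The sum over non-identity elements in terms of the defect. -/
theorem fourier_defect (φ : AA a → ℂ) (n : Cfsg.IrrCharacter (AA a) → ℤ)
    (hn : ∀ lam : Cfsg.IrrCharacter (AA a), Cfsg.classInner φ (lam : AA a → ℂ) = (n lam : ℂ)) :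
    ∑ b ∈ (Finset.univ : Finset (AA a)).erase 1, φ b * conj (φ b) = ((defect n : ℤ) : ℂ) := by
  classical
  have h1 := fourier_parseval ha φ n hn
  rw [← Finset.add_sum_erase Finset.univ _ (Finset.mem_univ (1 : AA a))] at h1
  have h2 : φ 1 = ∑ lam : Cfsg.IrrCharacter (AA a), (n lam : ℂ) := by
    rw [fourier_expand ha φ n hn 1]
    simp_rw [irrA_one ha, mul_one]
  have h3 : conj (φ 1) = φ 1 := by
    rw [h2, map_sum]
    simp
  unfold defect
  rw [card_irrA ha]
  push_cast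
  rw [← h2]
  rw [h3] at h1
  linear_combination h1

end fourier

open scoped Classical in
/-- The structural description of an extension on the non-trivial cosets. -/
def Spec (p : ℕ) (E : Ext a) (β₀ : Cfsg.IrrCharacter C) (ε : ℤ) (lam₀ : Cfsg.IrrCharacter (AA a)) :
    Prop :=
  (ε = 1 ∨ ε = -1) ∧
  (∀ b : AA a, b ≠ 1 → ∀ β : Cfsg.IrrCharacter C,
    E.f ι β b = if β = β₀ then (ε : ℂ) * (lam₀ : AA a → ℂ) b else 0) ∧
  Good p (fun c => (E.χ : G → ℂ) (ι c)) β₀

include ha hfix in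
/-- **Existence** of the good constituent, with the structure of the extension. -/
theorem exists_spec (hpG : ¬ p ∣ Nat.card G) (hι : Function.Injective ι) (E : Ext a) :
    ∃ (β₀ : Cfsg.IrrCharacter C) (ε : ℤ) (lam₀ : Cfsg.IrrCharacter (AA a)),
      Spec ι p E β₀ ε lam₀ := by
  classical
  have hp2 : 2 ≤ p := hp.out.two_le
  -- the Fourier coefficients
  have hex : ∀ (β : Cfsg.IrrCharacter C) (lam : Cfsg.IrrCharacter (AA a)),
      ∃ n : ℤ, Cfsg.classInner (E.f ι β) (lam : AA a → ℂ) = (n : ℂ) := by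
    intro β lam
    obtain ⟨n, hn⟩ := E.exists_nat ι hfix β lam
    exact ⟨n, by rw [hn]; simp⟩
  choose n hn using hex
  -- the norm identity
  have hpair := E.pairing ι ha hfix hpG hι E
  rw [if_pos rfl, classInner_self_of_isIrrCharacter E.χ.2, card_HH, ha, Finset.sum_comm] at hpair
  have hdef : ∀ β : Cfsg.IrrCharacter C,
      ∑ b ∈ (Finset.univ : Finset (AA a)).erase 1, E.f ι β b * conj (E.f ι β b) =
        ((defect (n β) : ℤ) : ℂ) := fun β => fourier_defect ha (E.f ι β) (n β) (hn β)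
  simp_rw [hdef] at hpair
  have hG : (Nat.card G : ℂ) ≠ 0 := card_ne_zero_complex
  have hsum : ∑ β : Cfsg.IrrCharacter C, defect (n β) =
      (Fintype.card (Cfsg.IrrCharacter (AA a)) : ℤ) - 1 := by
    rw [card_irrA ha]
    have h1 : ((∑ β : Cfsg.IrrCharacter C, defect (n β) : ℤ) : ℂ) = (p : ℂ) - 1 := by
      push_cast
      push_cast at hpair
      have h2 : (Nat.card G : ℂ) * ((p : ℂ) - 1 - ∑ β : Cfsg.IrrCharacter C,
          ((defect (n β) : ℤ) : ℂ)) = 0 := by linear_combination hpair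
      rcases mul_eq_zero.mp h2 with h3 | h3
      · exact absurd h3 hG
      · linear_combination -h3
    exact_mod_cast h1
  have hcard : 2 ≤ Fintype.card (Cfsg.IrrCharacter (AA a)) := by rw [card_irrA ha]; exact hp2
  obtain ⟨β₀, l₀, m, ε, hε, hshape, hothers⟩ := exists_unique_row n hcard hsum
  have hsum_lam : ∀ b : AA a, b ≠ 1 →
      ∑ lam : Cfsg.IrrCharacter (AA a), (lam : AA a → ℂ) b = 0 := fun b hb => sum_irrA_apply ha hb
  refine ⟨β₀, ε, l₀, hε, ?_, ?_, ?_⟩
  · intro b hb β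
    rw [fourier_expand ha (E.f ι β) (n β) (hn β) b]
    by_cases hβ : β = β₀
    · rw [if_pos hβ, hβ]
      simp_rw [hshape]
      push_cast
      simp_rw [add_mul, Finset.sum_add_distrib, ← Finset.mul_sum, hsum_lam b hb, mul_zero,
        zero_add, ite_mul, zero_mul]
      rw [Finset.sum_ite_eq' Finset.univ l₀, if_pos (Finset.mem_univ _)]
    · rw [if_neg hβ]
      obtain ⟨m', hm'⟩ := hothers β hβ
      simp_rw [hm', ← Finset.mul_sum, hsum_lam b hb, mul_zero]
  · refine ⟨m, ε, hε, ?_⟩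
    rw [← E.f_one ι β₀, fourier_expand ha (E.f ι β₀) (n β₀) (hn β₀) 1]
    simp_rw [irrA_one ha, mul_one, hshape]
    push_cast
    rw [Finset.sum_add_distrib, Finset.sum_const, Finset.card_univ, card_irrA ha,
      Finset.sum_ite_eq' Finset.univ l₀, if_pos (Finset.mem_univ _), nsmul_eq_mul]
  · intro β hβ
    obtain ⟨m', hm'⟩ := hothers β hβ
    refine ⟨m', ?_⟩
    rw [← E.f_one ι β, fourier_expand ha (E.f ι β) (n β) (hn β) 1]
    simp_rw [irrA_one ha, mul_one, hm']
    rw [Finset.sum_const, Finset.card_univ, card_irrA ha, nsmul_eq_mul]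
    push_cast
    ring

include ha hfix in
/-- **Injectivity**. -/
theorem spec_inj (hpG : ¬ p ∣ Nat.card G) (hι : Function.Injective ι) (E E' : Ext a)
    {β₀ : Cfsg.IrrCharacter C} {ε ε' : ℤ} {l₀ l₀' : Cfsg.IrrCharacter (AA a)}
    (h : Spec ι p E β₀ ε l₀) (h' : Spec ι p E' β₀ ε' l₀') : E.χ = E'.χ := by
  classical
  by_contra hne
  have hp2 : 2 ≤ p := hp.out.two_le
  have hχh : E.χh ≠ E'.χh := by
    intro heq
    apply hne
    apply Subtype.ext
    funext g
    rw [← E.ext, ← E'.ext, heq]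
  have hpair := E.pairing ι ha hfix hpG hι E'
  rw [if_neg hχh, classInner_of_isIrrCharacter_of_ne E.χ.2 E'.χ.2
    (fun hc => hne (Subtype.ext hc)), zero_add] at hpair
  have hG : (Nat.card G : ℂ) ≠ 0 := card_ne_zero_complex
  have h1 : ∑ b ∈ (Finset.univ : Finset (AA a)).erase 1, ∑ β : Cfsg.IrrCharacter C,
      E.f ι β b * conj (E'.f ι β b) = 0 := by
    rcases mul_eq_zero.mp hpair.symm with h3 | h3
    · exact absurd h3 hG
    · exact h3
  have h2 : ∀ b ∈ (Finset.univ : Finset (AA a)).erase 1, ∑ β : Cfsg.IrrCharacter C,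
      E.f ι β b * conj (E'.f ι β b) =
        ((ε : ℂ) * (ε' : ℂ)) * ((l₀ : AA a → ℂ) b * conj ((l₀' : AA a → ℂ) b)) := by
    intro b hb
    have hb1 : b ≠ 1 := (Finset.mem_erase.mp hb).1
    rw [Finset.sum_eq_single β₀]
    · rw [h.2.1 b hb1 β₀, h'.2.1 b hb1 β₀, if_pos rfl, if_pos rfl, map_mul, map_intCast]
      ring
    · intro β _ hβ
      rw [h.2.1 b hb1 β, if_neg hβ, zero_mul]
    · intro hc; exact absurd (Finset.mem_univ _) hc
  rw [Finset.sum_congr rfl h2, ← Finset.mul_sum] at h1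
  have h3 : ∑ b : AA a, (l₀ : AA a → ℂ) b * conj ((l₀' : AA a → ℂ) b) =
      (p : ℂ) * (if (l₀ : AA a → ℂ) = (l₀' : AA a → ℂ) then 1 else 0) := by
    have h4 := classInner_irr l₀.2 l₀'.2
    unfold Cfsg.classInner at h4
    rw [card_AA ha] at h4
    have hp0 : (p : ℂ) ≠ 0 := by exact_mod_cast hp.out.ne_zero
    rw [← h4]
    field_simp
  rw [← Finset.add_sum_erase Finset.univ _ (Finset.mem_univ (1 : AA a)), irrA_one ha,
    irrA_one ha, map_one, mul_one] at h3
  have hεε : ((ε : ℂ) * (ε' : ℂ)) ≠ 0 := by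
    rcases h.1 with rfl | rfl <;> rcases h'.1 with rfl | rfl <;> simp
  rcases mul_eq_zero.mp h1 with h5 | h5
  · exact hεε h5
  · rw [h5, add_zero] at h3
    by_cases hl : (l₀ : AA a → ℂ) = (l₀' : AA a → ℂ)
    · rw [if_pos hl, mul_one] at h3
      have : (1 : ℕ) = p := by exact_mod_cast h3
      omega
    · rw [if_neg hl, mul_zero] at h3
      exact one_ne_zero h3

include ha hfix in
/-- **The Glauberman correspondence for an automorphism of prime order.** -/
theorem base (hpG : ¬ p ∣ Nat.card G) (hι : Function.Injective ι) :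
    (∀ χ : Cfsg.IrrCharacter G, (∀ g, (χ : G → ℂ) (a g) = (χ : G → ℂ) g) →
      ∃ β : Cfsg.IrrCharacter C, Good p (fun c => (χ : G → ℂ) (ι c)) β) ∧
    (∀ χ χ' : Cfsg.IrrCharacter G, (∀ g, (χ : G → ℂ) (a g) = (χ : G → ℂ) g) →
      (∀ g, (χ' : G → ℂ) (a g) = (χ' : G → ℂ) g) → ∀ β : Cfsg.IrrCharacter C,
      Good p (fun c => (χ : G → ℂ) (ι c)) β → Good p (fun c => (χ' : G → ℂ) (ι c)) β → χ = χ') ∧
    (∀ β : Cfsg.IrrCharacter C, ∃ χ : Cfsg.IrrCharacter G,
      (∀ g, (χ : G → ℂ) (a g) = (χ : G → ℂ) g) ∧ Good p (fun c => (χ : G → ℂ) (ι c)) β) := by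
  classical
  have hp2 : 2 ≤ p := hp.out.two_le
  have hA : ∀ χ : Cfsg.IrrCharacter G, (∀ g, (χ : G → ℂ) (a g) = (χ : G → ℂ) g) →
      ∃ β : Cfsg.IrrCharacter C, Good p (fun c => (χ : G → ℂ) (ι c)) β := by
    intro χ hχ
    obtain ⟨E, rfl⟩ := exists_ext χ hχ
    obtain ⟨β₀, ε, l₀, hs⟩ := exists_spec ι ha hfix hpG hι E
    exact ⟨β₀, hs.2.2⟩
  have hB : ∀ χ χ' : Cfsg.IrrCharacter G, (∀ g, (χ : G → ℂ) (a g) = (χ : G → ℂ) g) →
      (∀ g, (χ' : G → ℂ) (a g) = (χ' : G → ℂ) g) → ∀ β : Cfsg.IrrCharacter C,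
      Good p (fun c => (χ : G → ℂ) (ι c)) β → Good p (fun c => (χ' : G → ℂ) (ι c)) β →
      χ = χ' := by
    intro χ χ' hχ hχ' β hg hg'
    obtain ⟨E, rfl⟩ := exists_ext χ hχ
    obtain ⟨E', rfl⟩ := exists_ext χ' hχ'
    obtain ⟨β₀, ε, l₀, hs⟩ := exists_spec ι ha hfix hpG hι E
    obtain ⟨β₀', ε', l₀', hs'⟩ := exists_spec ι ha hfix hpG hι E'
    have e1 : β₀ = β := Good.unique hp2 hs.2.2 hg
    have e2 : β₀' = β := Good.unique hp2 hs'.2.2 hg'
    subst e1
    subst e2
    exact spec_inj ι ha hfix hpG hι E E' hs hs'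
  refine ⟨hA, hB, ?_⟩
  -- surjectivity by counting
  let Inv := {χ : Cfsg.IrrCharacter G // ∀ g, (χ : G → ℂ) (a g) = (χ : G → ℂ) g}
  let π : Inv → Cfsg.IrrCharacter C := fun χ => Classical.choose (hA χ.1 χ.2)
  have hπ : ∀ χ : Inv, Good p (fun c => (χ.1 : G → ℂ) (ι c)) (π χ) := fun χ =>
    Classical.choose_spec (hA χ.1 χ.2)
  have hinj : Function.Injective π := by
    intro χ χ' hχχ
    apply Subtype.ext
    apply hB χ.1 χ'.1 χ.2 χ'.2 (π χ) (hπ χ)
    rw [hχχ]
    exact hπ χ'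
  have hcop : Nat.Coprime (Nat.card G) p :=
    (Nat.Coprime.symm ((Nat.Prime.coprime_iff_not_dvd hp.out).mpr hpG))
  have hap : a ^ p = 1 := by rw [← ha]; exact pow_orderOf_eq_one a
  have hcard : Nat.card (Cfsg.IrrCharacter C) ≤ Nat.card Inv := by
    rw [card_irr_eq_card_conjClasses,
      Cfsg.Agent.Lib.Helper3_BrauerPermAut.card_invariant_irr_eq_card_invariant_classes a]
    exact Cfsg.Agent.Lib.Helper3_BrauerPermAut.card_conjClasses_le_card_invariant a
      hp.out.pos hap hcop ι hι hfix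
  have hbij : Function.Bijective π := hinj.bijective_of_nat_card_le hcard
  intro β
  obtain ⟨χ, rfl⟩ := hbij.2 β
  exact ⟨χ.1, χ.2, hπ χ⟩

end withC

end Cfsg.Agent.Lib.Helper3_GlaubBase
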