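import Cfsg.Agent.Lib.Helper3_GlaubInd

/-!
# Glauberman's lemma for conjugacy classes under a coprime `p`-group action

For a `p`-group `S` acting on a finite `p'`-group `G` with fixed points `ι : C →* G`:
* two fixed points conjugate in `G` are conjugate in `C`;
* every `S`-invariant class of `G` contains a fixed point.
-/

set_option autoImplicit false
set_option linter.unusedSectionVars false

namespace Cfsg.Agent.Lib.Helper3_GlaubClass

open Cfsg.Agent.Lib.Helper3_GlaubSemi Cfsg.Agent.Lib.Helper3_TwistedClass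
  Cfsg.Agent.Lib.Helper3_BrauerPermAut Cfsg.Agent.Lib.Helper3_GlaubInd

universe u

section prime

variable {D C : Type u} [Group D] [Fintype D] [Group C] [Fintype C]

/-- **Prime order case**: an `a`-invariant class contains a fixed point. -/
theorem exists_fixed_in_class {p : ℕ} [hp : Fact p.Prime] {a : MulAut D} (ha : orderOf a = p)
    (hpD : ¬ p ∣ Nat.card D) (ι : C →* D) (hι : Function.Injective ι)
    (hfix : ∀ g : D, a g = g ↔ g ∈ ι.range) (d : D) (hd : IsConj (a d) d) :
    ∃ c : C, IsConj d (ι c) := by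
  classical
  have hcop : Nat.Coprime (Nat.card D) p :=
    (Nat.Coprime.symm ((Nat.Prime.coprime_iff_not_dvd hp.out).mpr hpD))
  obtain ⟨w', hw'⟩ := isConj_iff.mp hd
  -- `a d = w * d * w⁻¹` with `w = w'⁻¹`
  obtain ⟨w, hadw⟩ : ∃ w : D, a d = w * d * w⁻¹ := by
    refine ⟨w'⁻¹, ?_⟩
    have h0 : a d = w'⁻¹ * (w' * a d * w'⁻¹) * w'⁻¹⁻¹ := by group
    rw [hw'] at h0
    exact h0
  set a₀ : AA a := ⟨a, Subgroup.mem_zpowers a⟩ with ha₀
  set h₀ : HH a := (il a w)⁻¹ * ir a a₀ with hh₀
  -- `h₀` commutes with `il d`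
  have hcomm₀ : h₀ * il a d = il a d * h₀ := by
    have h1 : ir a a₀ * il a d = il a (a d) * ir a a₀ := ir_mul_il a a₀ d
    calc h₀ * il a d = (il a w)⁻¹ * (ir a a₀ * il a d) := by rw [hh₀]; group
      _ = (il a w)⁻¹ * (il a (a d) * ir a a₀) := by rw [h1]
      _ = (il a w)⁻¹ * il a (w * d * w⁻¹) * ir a a₀ := by rw [hadw]; group
      _ = il a d * h₀ := by rw [hh₀, map_mul, map_mul, map_inv]; group
  set m : ℕ := Nat.card D with hm
  set h₁ : HH a := h₀ ^ m with hh₁
  have hcomm₁ : h₁ * il a d = il a d * h₁ := by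
    have : Commute h₀ (il a d) := hcomm₀
    exact (this.pow_left m)
  -- the right component of `h₁`
  have hright₀ : h₀.right = a₀ := by
    rw [hh₀, SemidirectProduct.mul_right, SemidirectProduct.inv_right]
    simp
  have hright₁ : h₁.right = a₀ ^ m := by
    have : (SemidirectProduct.rightHom (h₀ ^ m) : AA a) = (SemidirectProduct.rightHom h₀) ^ m :=
      map_pow _ _ _
    rw [SemidirectProduct.rightHom_eq_right] at this
    rw [hh₁]
    show (h₀ ^ m).right = a₀ ^ m
    rw [this, hright₀]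
  -- `h₁ ^ p = 1`
  have hpow : h₁ ^ p = 1 := by
    have h2 : (h₀ ^ p).right = 1 := by
      have : (SemidirectProduct.rightHom (h₀ ^ p) : AA a) = (SemidirectProduct.rightHom h₀) ^ p :=
        map_pow _ _ _
      rw [SemidirectProduct.rightHom_eq_right] at this
      show (h₀ ^ p).right = 1
      rw [this, hright₀]
      have h3 : a₀ ^ Nat.card (AA a) = 1 := pow_card_eq_one'
      rwa [Cfsg.Agent.Lib.Helper3_GlaubBase.card_AA ha] at h3
    have h4 : h₀ ^ p = il a (h₀ ^ p).left := by
      have := (SemidirectProduct.inl_left_mul_inr_right (h₀ ^ p)).symm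
      rw [h2, map_one, mul_one] at this
      exact this
    rw [hh₁, ← pow_mul, mul_comm, pow_mul, h4, ← map_pow, hm, pow_card_eq_one', map_one]
  set b : AA a := a₀ ^ m with hb
  have hb1 : b ≠ 1 := by
    intro hb0
    have h5 : orderOf a₀ ∣ m := orderOf_dvd_of_pow_eq_one hb0
    have h6 : orderOf a₀ = p := by
      rw [← ha]
      exact Subgroup.orderOf_mk a (Subgroup.mem_zpowers a)
    rw [h6] at h5
    exact hpD h5
  have hfixb : ∀ g : D, (b : MulAut D) g = g ↔ g ∈ ι.range := fun g =>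
    (Cfsg.Agent.Lib.Helper3_GlaubBase.fix_iff ha hb1 g).trans (hfix g)
  -- decompose `h₁ = il k * ir b`
  have hdec : h₁ = il a h₁.left * ir a b := by
    have := (SemidirectProduct.inl_left_mul_inr_right h₁).symm
    rw [hright₁] at this
    exact this
  obtain ⟨y, c, hyc⟩ := exists_twisted_conj (b : MulAut D)
    (Cfsg.Agent.Lib.Helper3_GlaubBase.pow_p ha b) hcop ι hι hfixb h₁.left
  have hconj : h₁ = il a y * (il a (ι c) * ir a b) * (il a y)⁻¹ := by
    rw [il_conj, hyc]
    exact hdec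
  -- `ι c = 1`
  have hbc : (b : MulAut D) (ι c) = ι c := (hfixb _).mpr ⟨c, rfl⟩
  have hcommcb : Commute (il a (ι c)) (ir a b) := by
    show il a (ι c) * ir a b = ir a b * il a (ι c)
    rw [ir_mul_il, hbc]
  have hc1 : ι c = 1 := by
    have h7 : (il a (ι c) * ir a b) ^ p = 1 := by
      have h8 : il a (ι c) * ir a b = (il a y)⁻¹ * h₁ * il a y := by rw [hconj]; group
      rw [h8]
      have h9 : ((il a y)⁻¹ * h₁ * il a y) ^ p = (il a y)⁻¹ * h₁ ^ p * il a y := by
        have := conj_pow (a := (il a y)⁻¹) (b := h₁) (i := p)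
        simpa using this
      rw [h9, hpow]; group
    have h10 : b ^ p = 1 := by
      have h3 : b ^ Nat.card (AA a) = 1 := pow_card_eq_one'
      rwa [Cfsg.Agent.Lib.Helper3_GlaubBase.card_AA ha] at h3
    rw [hcommcb.mul_pow, ← map_pow (ir a) b p, h10, map_one, mul_one, ← map_pow (il a)] at h7
    have h11 : (ι c) ^ p = 1 := by
      have := SemidirectProduct.inl_injective (φ := (AA a).subtype) (h7.trans (map_one _).symm)
      exact this
    have h12 : (ι c) ^ Nat.card D = 1 := pow_card_eq_one'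
    have := pow_gcd_eq_one.mpr ⟨h12, h11⟩
    rwa [hcop, pow_one] at this
  rw [hc1, map_one, one_mul] at hconj
  -- `ir b` commutes with `il (y⁻¹ d y)`
  have hfinal : (b : MulAut D) (y⁻¹ * d * y) = y⁻¹ * d * y := by
    have h13 : ir a b * il a (y⁻¹ * d * y) = il a (y⁻¹ * d * y) * ir a b := by
      have h14 : ir a b = (il a y)⁻¹ * h₁ * il a y := by rw [hconj]; group
      have h15 : il a (y⁻¹ * d * y) = (il a y)⁻¹ * il a d * il a y := by
        rw [map_mul, map_mul, map_inv]
      rw [h14, h15]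
      calc (il a y)⁻¹ * h₁ * il a y * ((il a y)⁻¹ * il a d * il a y)
          = (il a y)⁻¹ * (h₁ * il a d) * il a y := by group
        _ = (il a y)⁻¹ * (il a d * h₁) * il a y := by rw [hcomm₁]
        _ = (il a y)⁻¹ * il a d * il a y * ((il a y)⁻¹ * h₁ * il a y) := by group
    rw [ir_mul_il] at h13
    have h16 := mul_right_cancel h13
    exact SemidirectProduct.inl_injective h16
  obtain ⟨c', hc'⟩ := (hfixb _).mp hfinal
  refine ⟨c', ?_⟩
  rw [isConj_iff]
  exact ⟨y⁻¹, by rw [hc']; group⟩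

end prime

section pgroup

/-- The two class statements. -/
structure ClassABC {G C : Type u} [Group G] [Group C] (𝒜 : Set (MulAut G)) (ι : C →* G) :
    Prop where
  conj_of_conj : ∀ c c' : C, IsConj (ι c) (ι c') → IsConj c c'
  exists_fixed : ∀ g : G, (∀ a ∈ 𝒜, IsConj (a g) g) → ∃ c : C, IsConj g (ι c)

theorem classABC_of_bijective {G C : Type u} [Group G] [Group C] (𝒜 : Set (MulAut G))
    (ι : C →* G) (hbij : Function.Bijective ι) : ClassABC 𝒜 ι := by
  refine ⟨?_, ?_⟩
  · intro c c' h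
    obtain ⟨x, hx⟩ := isConj_iff.mp h
    obtain ⟨w, rfl⟩ := hbij.2 x
    rw [isConj_iff]
    refine ⟨w, hbij.1 ?_⟩
    rw [map_mul, map_mul, map_inv]
    exact hx
  · intro g _
    obtain ⟨c, rfl⟩ := hbij.2 g
    exact ⟨c, IsConj.refl _⟩

theorem classABC_base {p : ℕ} [hp : Fact p.Prime] {D C : Type u} [Group D] [Fintype D] [Group C]
    [Fintype C] (hpD : ¬ p ∣ Nat.card D) (σ : MulAut D) (hσ : σ ^ p = 1) (ι : C →* D)
    (hι : Function.Injective ι) (hfix : ∀ d : D, σ d = d ↔ d ∈ ι.range) :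
    ClassABC ({σ} : Set (MulAut D)) ι := by
  by_cases h1 : σ = 1
  · apply classABC_of_bijective
    refine ⟨hι, fun d => ?_⟩
    exact (hfix d).mp (by rw [h1]; rfl)
  · have ha : orderOf σ = p := orderOf_eq_prime hσ h1
    have hcop : Nat.Coprime (Nat.card D) p :=
      (Nat.Coprime.symm ((Nat.Prime.coprime_iff_not_dvd hp.out).mpr hpD))
    refine ⟨?_, ?_⟩
    · intro c c' h
      obtain ⟨x, hx⟩ := isConj_iff.mp h
      obtain ⟨w, hw⟩ := exists_fixed_conj σ hp.out.pos hσ hcop ι hι hfix c c' x hx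
      exact isConj_iff.mpr ⟨w, hw⟩
    · intro d hd
      exact exists_fixed_in_class ha hpD ι hι hfix d (hd σ rfl)

/-- **Glauberman's lemma for classes**, `p`-group of operators (abstract form). -/
theorem class_pgroup {p : ℕ} [hp : Fact p.Prime] (n : ℕ) :
    ∀ {G : Type u} [Group G] [Fintype G] (_hpG : n ≠ 0 → ¬ p ∣ Nat.card G) {S : Type u} [Group S]
      (_hS : Nat.card S = p ^ n) (φ : S →* MulAut G) {C : Type u} [Group C] [Fintype C]
      (ι : C →* G) (_hι : Function.Injective ι)
      (_hfix : ∀ g : G, (∀ s : S, φ s g = g) ↔ g ∈ ι.range),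
      ClassABC (Set.range φ) ι := by
  induction n with
  | zero =>
    intro G _ _ hpG S _ hS φ C _ _ ι hι hfix
    rw [pow_zero, Nat.card_eq_one_iff_unique] at hS
    obtain ⟨hsub, _⟩ := hS
    have hall : ∀ s : S, φ s = 1 := fun s => by rw [Subsingleton.elim s 1, map_one]
    apply classABC_of_bijective
    exact ⟨hι, fun g => (hfix g).mp (fun s => by rw [hall s]; rfl)⟩
  | succ n ih =>
    intro G _ _ hpG' S _ hS φ C _ _ ι hι hfix
    classical
    have hpG : ¬ p ∣ Nat.card G := hpG' (Nat.succ_ne_zero n)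
    obtain ⟨T, s₀, hTn, hTcard, hs₀p, hdecomp⟩ := exists_normal_index_p hS
    set D : Subgroup G := fixedSub φ T with hD
    have : Fintype D := Fintype.ofFinite D
    have hfixT : ∀ g : G, (∀ t : T, (φ.comp T.subtype) t g = g) ↔ g ∈ D.subtype.range := by
      intro g
      rw [Subgroup.range_subtype, hD, mem_fixedSub]
      constructor
      · intro h t ht; exact h ⟨t, ht⟩
      · intro h t; exact h t t.2
    have ABC_T := ih (fun _ => hpG) hTcard (φ.comp T.subtype) D.subtype Subtype.val_injective hfixT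
    set σG : MulAut G := φ s₀ with hσG
    have hconj1 : ∀ t ∈ T, s₀⁻¹ * t * s₀ ∈ T := fun t ht => by
      have := hTn.conj_mem t ht s₀⁻¹
      rwa [inv_inv] at this
    have hconj2 : ∀ t ∈ T, s₀ * t * s₀⁻¹ ∈ T := fun t ht => hTn.conj_mem t ht s₀
    have hD1 : ∀ d ∈ D, σG d ∈ D := by
      intro d hd t ht
      have h1 : t * s₀ = s₀ * (s₀⁻¹ * t * s₀) := by group
      calc φ t (σG d) = φ (t * s₀) d := by rw [map_mul]; rfl
        _ = φ s₀ (φ (s₀⁻¹ * t * s₀) d) := by rw [h1, map_mul]; rfl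
        _ = σG d := by rw [hd _ (hconj1 t ht)]
    have hD2 : ∀ d ∈ D, σG⁻¹ d ∈ D := by
      intro d hd t ht
      have h1 : t * s₀⁻¹ = s₀⁻¹ * (s₀ * t * s₀⁻¹) := by group
      have h2 : σG⁻¹ = φ s₀⁻¹ := (map_inv φ s₀).symm
      rw [h2]
      calc φ t (φ s₀⁻¹ d) = φ (t * s₀⁻¹) d := by rw [map_mul]; rfl
        _ = φ s₀⁻¹ (φ (s₀ * t * s₀⁻¹) d) := by rw [h1, map_mul]; rfl
        _ = φ s₀⁻¹ d := by rw [hd _ (hconj2 t ht)]
    set σD : MulAut D := resAut σG D hD1 hD2 with hσD
    have hσDp : σD ^ p = 1 := by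
      ext d
      rw [resAut_pow_apply, hσG, ← map_pow]
      exact d.2 _ hs₀p
    have hmem : ∀ c : C, ι c ∈ D := fun c t _ => (hfix (ι c)).mpr ⟨c, rfl⟩ t
    set ιD : C →* D := ι.codRestrict D hmem with hιD
    have hιDinj : Function.Injective ιD := by
      intro c c' h
      exact hι (congrArg Subtype.val h)
    have hfixD : ∀ d : D, σD d = d ↔ d ∈ ιD.range := by
      intro d
      constructor
      · intro h
        have h1 : σG (d : G) = d := congrArg Subtype.val h
        have h2 : ∀ s : S, φ s (d : G) = d := by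
          intro s
          obtain ⟨t, ht, k, rfl⟩ := hdecomp s
          rw [map_mul, map_zpow, MulAut.mul_apply,
            Cfsg.Agent.Lib.Helper3_TwistedClass.zpow_apply_of_fixed _ h1 k]
          exact d.2 t ht
        obtain ⟨c, hc⟩ := (hfix _).mp h2
        exact ⟨c, Subtype.ext hc⟩
      · rintro ⟨c, rfl⟩
        apply Subtype.ext
        exact (hfix (ι c)).mpr ⟨c, rfl⟩ s₀
    have hpD : ¬ p ∣ Nat.card D := fun h => hpG (h.trans (Subgroup.card_subgroup_dvd_card D))
    have ABC_σ := classABC_base hpD σD hσDp ιD hιDinj hfixD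
    have hval : ∀ c : C, ((ιD c : D) : G) = ι c := fun c => rfl
    refine ⟨?_, ?_⟩
    · intro c c' h
      apply ABC_σ.conj_of_conj
      apply ABC_T.conj_of_conj
      exact h
    · intro g hg
      have hgT : ∀ a ∈ Set.range (φ.comp T.subtype), IsConj (a g) g := by
        rintro a ⟨t, rfl⟩
        exact hg _ ⟨(t : S), rfl⟩
      obtain ⟨d, hd⟩ := ABC_T.exists_fixed g hgT
      -- `σD d` is conjugate to `d` in `D`
      have h1 : IsConj (D.subtype (σD d)) (D.subtype d) := by
        show IsConj (σG (d : G)) (d : G)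
        have h2 : IsConj (σG g) (σG (d : G)) := by
          obtain ⟨x, hx⟩ := isConj_iff.mp hd
          rw [isConj_iff]
          refine ⟨σG x, ?_⟩
          have hx' : x * g * x⁻¹ = (d : G) := hx
          rw [← hx']
          simp
        exact (h2.symm.trans (hg σG ⟨s₀, rfl⟩)).trans hd
      have h3 : IsConj (σD d) d := ABC_T.conj_of_conj _ _ h1
      obtain ⟨c, hc⟩ := ABC_σ.exists_fixed d (fun a ha => by
        rw [Set.mem_singleton_iff.mp ha]; exact h3)
      refine ⟨c, hd.trans ?_⟩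
      obtain ⟨y, hy⟩ := isConj_iff.mp hc
      rw [isConj_iff]
      refine ⟨(y : G), ?_⟩
      have h4 := congrArg Subtype.val hy
      rw [← hval c]
      exact h4

end pgroup

end Cfsg.Agent.Lib.Helper3_GlaubClass
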