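import Mathlib

/-!
# Sums of invariant functions over the moved points of a permutation of `p`-power order

If `τ ^ p ^ k = 1` and `F` is `τ`-invariant and integer valued, then `p` divides the sum of `F`
over the points moved by `τ`; hence `∑ F ≡ ∑_{fixed} F (mod p)`.
-/

set_option autoImplicit false

namespace Cfsg.Agent.Lib.Helper3_OrbitSum

open Equiv

variable {X : Type*} [Fintype X] [DecidableEq X]

theorem card_support_dvd {p k : ℕ} [hp : Fact p.Prime] {τ : Perm X} (hτ : τ ^ p ^ k = 1) :
    p ∣ τ.support.card := by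
  have h := Equiv.Perm.card_compl_support_modEq hτ
  rw [Finset.card_compl] at h
  have h2 := (Nat.modEq_iff_dvd' (Nat.sub_le _ _)).mp h
  rwa [Nat.sub_sub_self (Finset.card_le_univ _)] at h2

theorem card_level_dvd {p k : ℕ} [hp : Fact p.Prime] {τ : Perm X} (hτ : τ ^ p ^ k = 1)
    {V : Type*} [DecidableEq V] (F : X → V) (hF : ∀ x, F (τ x) = F x) (v : V) :
    p ∣ (τ.support.filter (fun x => F x = v)).card := by
  have hv : ∀ x, (fun y => F y = v) (τ x) ↔ (fun y => F y = v) x := fun x => by
    show F (τ x) = v ↔ F x = v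
    rw [hF]
  have h1 : (Equiv.Perm.subtypePerm (p := fun y => F y = v) τ hv) ^ p ^ k = 1 := by
    rw [Equiv.Perm.subtypePerm_pow]
    ext x
    simp [hτ]
  have h2 := card_support_dvd h1
  have h3 : (τ.support.filter (fun x => F x = v)) =
      (Equiv.Perm.subtypePerm (p := fun y => F y = v) τ hv).support.image Subtype.val := by
    ext x
    simp only [Finset.mem_filter, Equiv.Perm.mem_support, Finset.mem_image, Subtype.exists,
      exists_and_right, exists_eq_right, Equiv.Perm.subtypePerm_apply, ne_eq, Subtype.mk.injEq]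
    constructor
    · rintro ⟨h4, h5⟩
      exact ⟨h5, h4⟩
    · rintro ⟨h5, h4⟩
      exact ⟨h4, h5⟩
  rw [h3, Finset.card_image_of_injective _ Subtype.val_injective]
  exact h2

/-- The sum of an invariant function over the moved points is divisible by `p`. -/
theorem dvd_sum_support {p k : ℕ} [hp : Fact p.Prime] {τ : Perm X} (hτ : τ ^ p ^ k = 1)
    (F : X → ℤ) (hF : ∀ x, F (τ x) = F x) : (p : ℤ) ∣ ∑ x ∈ τ.support, F x := by
  have h := Finset.sum_comp (s := τ.support) (f := fun v : ℤ => v) (g := F)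
  rw [h]
  apply Finset.dvd_sum
  intro v _
  rw [nsmul_eq_mul]
  apply Dvd.dvd.mul_right
  exact_mod_cast card_level_dvd hτ F hF v

/-- `∑ F = ∑_{fixed} F + p * (something)`. -/
theorem sum_eq_sum_fixed_add {p k : ℕ} [hp : Fact p.Prime] {τ : Perm X} (hτ : τ ^ p ^ k = 1)
    (F : X → ℤ) (hF : ∀ x, F (τ x) = F x) :
    ∃ r : ℤ, ∑ x, F x = ∑ x ∈ Finset.univ.filter (fun x => τ x = x), F x + (p : ℤ) * r := by
  obtain ⟨r, hr⟩ := dvd_sum_support hτ F hF
  refine ⟨r, ?_⟩
  rw [← hr, ← Finset.sum_filter_add_sum_filter_not Finset.univ (fun x => τ x = x)]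
  congr 1

end Cfsg.Agent.Lib.Helper3_OrbitSum
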