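import Cfsg.Agent.Lib.Helper3_GlaubBase
import Cfsg.Agent.Lib.Helper3_OrbitSum

/-!
# The Glauberman correspondence for a `p`-group of operators (abstract form)

A `p`-group `S` acts on a finite `p'`-group `G` through `φ : S →* MulAut G`; `ι : C →* G` is an
injective homomorphism onto the fixed points.  Then `χ ↦ (the good constituent of χ ∘ ι)` is a
bijection from the `S`-invariant irreducible characters of `G` onto `Irr(C)`.
-/

set_option autoImplicit false
set_option linter.unusedSectionVars false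

namespace Cfsg.Agent.Lib.Helper3_GlaubInd

open scoped ComplexConjugate
open Cfsg.Agent.Lib.Helper3_CharBridge Cfsg.Agent.Lib.Helper3_CharOrtho
  Cfsg.Agent.Lib.Helper3_CharComplete Cfsg.Agent.Lib.Helper3_GlaubGood
  Cfsg.Agent.Lib.Helper3_BrauerPermAut Cfsg.Agent.Lib.Helper75_CharArith

universe u

section general

variable {G : Type u} [Group G] [Fintype G]

/-- Invariance of a function under a set of automorphisms. -/
def InvSet (𝒜 : Set (MulAut G)) (χ : G → ℂ) : Prop := ∀ a ∈ 𝒜, ∀ g : G, χ (a g) = χ g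

/-- The automorphisms fixing a function form a subgroup. -/
def stabFun (χ : G → ℂ) : Subgroup (MulAut G) where
  carrier := {c | ∀ g, χ (c g) = χ g}
  mul_mem' := by
    intro c d hc hd g
    rw [MulAut.mul_apply, hc, hd]
  one_mem' := fun g => rfl
  inv_mem' := by
    intro c hc g
    have := hc (c⁻¹ g)
    rw [MulAut.apply_inv_self] at this
    exact this.symm

theorem mem_stabFun {χ : G → ℂ} {c : MulAut G} : c ∈ stabFun χ ↔ ∀ g, χ (c g) = χ g := Iff.rfl

/-- The three statements of the correspondence. -/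
structure ABC (p : ℕ) {C : Type u} [Group C] [Fintype C] (𝒜 : Set (MulAut G)) (ι : C →* G) :
    Prop where
  exists_good : ∀ χ : Cfsg.IrrCharacter G, InvSet 𝒜 (χ : G → ℂ) →
    ∃ β : Cfsg.IrrCharacter C, Good p (fun c => (χ : G → ℂ) (ι c)) β
  inj : ∀ χ χ' : Cfsg.IrrCharacter G, InvSet 𝒜 (χ : G → ℂ) → InvSet 𝒜 (χ' : G → ℂ) →
    ∀ β : Cfsg.IrrCharacter C, Good p (fun c => (χ : G → ℂ) (ι c)) β →
      Good p (fun c => (χ' : G → ℂ) (ι c)) β → χ = χ'
  surj : ∀ β : Cfsg.IrrCharacter C, ∃ χ : Cfsg.IrrCharacter G, InvSet 𝒜 (χ : G → ℂ) ∧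
    Good p (fun c => (χ : G → ℂ) (ι c)) β

theorem compAut_compAut_inv (σ : MulAut G) (γ : Cfsg.IrrCharacter G) :
    compAut σ (compAut σ⁻¹ γ) = γ := by
  apply Subtype.ext
  funext g
  simp

theorem compAut_inv_compAut (σ : MulAut G) (γ : Cfsg.IrrCharacter G) :
    compAut σ⁻¹ (compAut σ γ) = γ := by
  apply Subtype.ext
  funext g
  simp

/-- Transport of `Good` along an automorphism. -/
theorem good_comp_aut {p : ℕ} (σ : MulAut G) {φ : G → ℂ} {γ : Cfsg.IrrCharacter G}
    (h : Good p φ γ) : Good p (fun g => φ (σ g)) (compAut σ γ) := by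
  constructor
  · obtain ⟨m, ε, hε, hm⟩ := h.1
    refine ⟨m, ε, hε, ?_⟩
    rw [← hm]
    exact Cfsg.Agent.Lib.Helper74_GoingUp.classInner_comp_equiv σ φ (γ : G → ℂ)
  · intro β' hβ'
    have hne : compAut σ⁻¹ β' ≠ γ := by
      intro heq
      apply hβ'
      rw [← heq, compAut_compAut_inv]
    obtain ⟨m', hm'⟩ := h.2 _ hne
    refine ⟨m', ?_⟩
    rw [← hm']
    have h1 := Cfsg.Agent.Lib.Helper74_GoingUp.classInner_comp_equiv σ φ
      (compAut σ⁻¹ β' : G → ℂ)
    rw [← h1]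
    congr 1
    funext g
    simp

/-- The good constituent of an invariant character is invariant. -/
theorem good_invariant {p : ℕ} (hp : 2 ≤ p) (σ : MulAut G) {φ : G → ℂ} {γ : Cfsg.IrrCharacter G}
    (h : Good p φ γ) (hφ : ∀ g, φ (σ g) = φ g) : ∀ g, (γ : G → ℂ) (σ g) = (γ : G → ℂ) g := by
  have h1 := good_comp_aut σ h
  have h2 : (fun g => φ (σ g)) = φ := funext hφ
  rw [h2] at h1
  have h3 : compAut σ γ = γ := Good.unique hp h1 h
  intro g
  exact congrFun (congrArg Subtype.val h3) g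

/-- `compAut σ` as a permutation of `Irr(G)`. -/
noncomputable def compAutPerm (σ : MulAut G) : Equiv.Perm (Cfsg.IrrCharacter G) where
  toFun := compAut σ
  invFun := compAut σ⁻¹
  left_inv := compAut_inv_compAut σ
  right_inv := compAut_compAut_inv σ

theorem compAutPerm_pow (σ : MulAut G) (k : ℕ) (γ : Cfsg.IrrCharacter G) :
    ((compAutPerm σ) ^ k) γ = compAut (σ ^ k) γ := by
  induction k generalizing γ with
  | zero =>
    apply Subtype.ext
    funext g
    simp
  | succ k ih =>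
    rw [pow_succ, Equiv.Perm.mul_apply, ih]
    apply Subtype.ext
    funext g
    show (γ : G → ℂ) (σ ((σ ^ k) g)) = (γ : G → ℂ) ((σ ^ (k + 1)) g)
    rw [pow_succ', MulAut.mul_apply]

theorem compAutPerm_pow_eq_one (σ : MulAut G) {k : ℕ} (h : σ ^ k = 1) :
    (compAutPerm σ) ^ k = 1 := by
  ext γ : 1
  rw [compAutPerm_pow, h]
  apply Subtype.ext
  funext g
  simp

/-- An irreducible character is its own good constituent. -/
theorem good_self (p : ℕ) (β : Cfsg.IrrCharacter G) : Good p (β : G → ℂ) β := by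
  constructor
  · refine ⟨0, 1, Or.inl rfl, ?_⟩
    rw [classInner_self_of_isIrrCharacter β.2]
    simp
  · intro β' hβ'
    refine ⟨0, ?_⟩
    rw [classInner_of_isIrrCharacter_of_ne β.2 β'.2 (fun h => hβ' (Subtype.ext h.symm))]
    simp

/-- The correspondence when everything is fixed. -/
theorem abc_of_bijective {p : ℕ} (hp : 2 ≤ p) {C : Type u} [Group C] [Fintype C]
    (𝒜 : Set (MulAut G)) (ι : C →* G) (hbij : Function.Bijective ι)
    (hfixall : ∀ a ∈ 𝒜, ∀ g : G, a g = g) : ABC p 𝒜 ι := by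
  let e : C ≃* G := MulEquiv.ofBijective ι hbij
  have he : ∀ c, e c = ι c := fun c => rfl
  let pull : Cfsg.IrrCharacter G → Cfsg.IrrCharacter C := fun χ =>
    ⟨fun c => (χ : G → ℂ) (ι c), Cfsg.Agent.Lib.Helper74_GoingUp.isIrr_comp_equiv e χ.2⟩
  have hpull : ∀ χ : Cfsg.IrrCharacter G, Good p (fun c => (χ : G → ℂ) (ι c)) (pull χ) :=
    fun χ => good_self p (pull χ)
  refine ⟨fun χ _ => ⟨pull χ, hpull χ⟩, ?_, ?_⟩
  · intro χ χ' _ _ β hg hg'
    have h1 : pull χ = β := Good.unique hp (hpull χ) hg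
    have h2 : pull χ' = β := Good.unique hp (hpull χ') hg'
    apply Subtype.ext
    funext g
    obtain ⟨c, rfl⟩ := hbij.2 g
    exact congrFun (congrArg Subtype.val (h1.trans h2.symm)) c
  · intro β
    refine ⟨⟨fun g => (β : C → ℂ) (e.symm g),
      Cfsg.Agent.Lib.Helper74_GoingUp.isIrr_comp_equiv e.symm β.2⟩, ?_, ?_⟩
    · intro a ha g
      show (β : C → ℂ) (e.symm (a g)) = (β : C → ℂ) (e.symm g)
      rw [hfixall a ha g]
    · have h1 : (fun c => (β : C → ℂ) (e.symm (ι c))) = (β : C → ℂ) := by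
        funext c
        rw [← he, e.symm_apply_apply]
      show Good p (fun c => (β : C → ℂ) (e.symm (ι c))) β
      rw [h1]
      exact good_self p β

end general

section composition

variable {G D C : Type u} [Group G] [Fintype G] [Group D] [Fintype D] [Group C] [Fintype C]

/-- Transitivity of multiplicities. -/
theorem classInner_comp_comp (j : D →* G) (ι : C →* D) (χ : G → ℂ) (hχ : Cfsg.IsCharacter G χ)
    (β' : C → ℂ) :
    Cfsg.classInner (fun c => χ (j (ι c))) β' =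
      ∑ γ' : Cfsg.IrrCharacter D, Cfsg.classInner (fun d => χ (j d)) (γ' : D → ℂ) *
        Cfsg.classInner (fun c => (γ' : D → ℂ) (ι c)) β' := by
  have hcf : Cfsg.IsClassFunction D (fun d => χ (j d)) :=
    isClassFunction_of_isCharacter (isCharacter_comp j hχ)
  have h1 := classFunction_eq_sum _ hcf
  have h2 : (fun c => χ (j (ι c))) = ∑ γ' : Cfsg.IrrCharacter D,
      Cfsg.classInner (fun d => χ (j d)) (γ' : D → ℂ) • (fun c => (γ' : D → ℂ) (ι c)) := by
    funext c
    have := congrFun h1 (ι c)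
    rw [Finset.sum_apply] at this ⊢
    exact this
  rw [h2, classInner_sum_left]
  apply Finset.sum_congr rfl
  intro γ' _
  rw [classInner_smul_left]

/-- **Composition** of good constituents along `C → D → G`. -/
theorem good_comp {p : ℕ} [hp : Fact p.Prime] {k : ℕ} (j : D →* G) (ι : C →* D)
    (σG : MulAut G) (σD : MulAut D) (hcompat : ∀ d, j (σD d) = σG (j d))
    (hσι : ∀ c, σD (ι c) = ι c) (hσD : σD ^ p ^ k = 1)
    (χ : Cfsg.IrrCharacter G) (hχ : ∀ g, (χ : G → ℂ) (σG g) = (χ : G → ℂ) g)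
    (γ : Cfsg.IrrCharacter D) (hγ : Good p (fun d => (χ : G → ℂ) (j d)) γ)
    (β : Cfsg.IrrCharacter C) (hβ : Good p (fun c => (γ : D → ℂ) (ι c)) β) :
    Good p (fun c => (χ : G → ℂ) (j (ι c))) β := by
  classical
  have hp2 : 2 ≤ p := hp.out.two_le
  have hχc : Cfsg.IsCharacter G (χ : G → ℂ) := isCharacter_of_isIrrCharacter χ.2
  have hχj : Cfsg.IsCharacter D (fun d => (χ : G → ℂ) (j d)) := isCharacter_comp j hχc
  have hχjσ : ∀ d, (fun d => (χ : G → ℂ) (j d)) (σD d) = (fun d => (χ : G → ℂ) (j d)) d := by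
    intro d
    show (χ : G → ℂ) (j (σD d)) = (χ : G → ℂ) (j d)
    rw [hcompat, hχ]
  have hγinv : ∀ d, (γ : D → ℂ) (σD d) = (γ : D → ℂ) d := good_invariant hp2 σD hγ hχjσ
  -- integer multiplicities
  have hN1 : ∀ γ' : Cfsg.IrrCharacter D, ∃ n : ℤ,
      Cfsg.classInner (fun d => (χ : G → ℂ) (j d)) (γ' : D → ℂ) = (n : ℂ) := by
    intro γ'
    obtain ⟨n, hn⟩ := classInner_isCharacter_nat hχj (isCharacter_of_isIrrCharacter γ'.2)
    exact ⟨n, by rw [hn]; simp⟩
  choose N1 hN1 using hN1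
  have key : ∀ β' : Cfsg.IrrCharacter C, ∃ (N2γ r : ℤ),
      Cfsg.classInner (fun c => (γ : D → ℂ) (ι c)) (β' : C → ℂ) = (N2γ : ℂ) ∧
      Cfsg.classInner (fun c => (χ : G → ℂ) (j (ι c))) (β' : C → ℂ) =
        ((N1 γ * N2γ + (p : ℤ) * r : ℤ) : ℂ) := by
    intro β'
    have hN2 : ∀ γ' : Cfsg.IrrCharacter D, ∃ n : ℤ,
        Cfsg.classInner (fun c => (γ' : D → ℂ) (ι c)) (β' : C → ℂ) = (n : ℂ) := by
      intro γ'
      obtain ⟨n, hn⟩ := classInner_isCharacter_nat
        (isCharacter_comp ι (isCharacter_of_isIrrCharacter γ'.2))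
        (isCharacter_of_isIrrCharacter β'.2)
      exact ⟨n, by rw [hn]; simp⟩
    choose N2 hN2 using hN2
    have hsum := classInner_comp_comp j ι (χ : G → ℂ) hχc (β' : C → ℂ)
    simp_rw [hN1, hN2] at hsum
    -- invariance of `N1 * N2`
    have hF : ∀ γ' : Cfsg.IrrCharacter D,
        N1 (compAutPerm σD γ') * N2 (compAutPerm σD γ') = N1 γ' * N2 γ' := by
      intro γ'
      have e1 : N1 (compAutPerm σD γ') = N1 γ' := by
        apply Int.cast_injective (α := ℂ)
        rw [← hN1, ← hN1]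
        have h3 := Cfsg.Agent.Lib.Helper74_GoingUp.classInner_comp_equiv σD
          (fun d => (χ : G → ℂ) (j d)) (γ' : D → ℂ)
        rw [← h3]
        congr 1
        funext d
        exact (hχjσ d).symm
      have e2 : N2 (compAutPerm σD γ') = N2 γ' := by
        apply Int.cast_injective (α := ℂ)
        rw [← hN2, ← hN2]
        congr 1
        funext c
        show (γ' : D → ℂ) (σD (ι c)) = (γ' : D → ℂ) (ι c)
        rw [hσι]
      rw [e1, e2]
    obtain ⟨r, hr⟩ := Cfsg.Agent.Lib.Helper3_OrbitSum.sum_eq_sum_fixed_add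
      (compAutPerm_pow_eq_one σD hσD) (fun γ' => N1 γ' * N2 γ') hF
    -- the fixed part
    have hγfix : γ ∈ Finset.univ.filter (fun x => compAutPerm σD x = x) := by
      rw [Finset.mem_filter]
      refine ⟨Finset.mem_univ _, ?_⟩
      apply Subtype.ext
      funext d
      exact hγinv d
    have hdvd : (p : ℤ) ∣ ∑ x ∈ (Finset.univ.filter (fun x => compAutPerm σD x = x)).erase γ,
        N1 x * N2 x := by
      apply Finset.dvd_sum
      intro γ' hγ'
      have hne : γ' ≠ γ := (Finset.mem_erase.mp hγ').1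
      obtain ⟨m', hm'⟩ := hγ.2 γ' hne
      rw [hN1] at hm'
      have : N1 γ' = (p : ℤ) * m' := Int.cast_injective hm'
      rw [this, mul_assoc]
      exact dvd_mul_right _ _
    obtain ⟨r', hr'⟩ := hdvd
    rw [← Finset.add_sum_erase _ _ hγfix, hr'] at hr
    refine ⟨N2 γ, r' + r, hN2 γ, ?_⟩
    rw [hsum]
    have : (∑ x : Cfsg.IrrCharacter D, (N1 x : ℂ) * (N2 x : ℂ)) =
        ((∑ x : Cfsg.IrrCharacter D, N1 x * N2 x : ℤ) : ℂ) := by
      push_cast; rfl
    rw [this, hr]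
    congr 1
    ring
  obtain ⟨m, ε, hε, hm⟩ := hγ.1
  rw [hN1] at hm
  have hN1γ : N1 γ = (p : ℤ) * m + ε := Int.cast_injective hm
  constructor
  · obtain ⟨N2γ, r, h1, h2⟩ := key β
    obtain ⟨m₂, ε₂, hε₂, hm₂⟩ := hβ.1
    rw [h1] at hm₂
    have hN2γ : N2γ = (p : ℤ) * m₂ + ε₂ := Int.cast_injective hm₂
    refine ⟨(p : ℤ) * m * m₂ + m * ε₂ + ε * m₂ + r, ε * ε₂, ?_, ?_⟩
    · rcases hε with rfl | rfl <;> rcases hε₂ with rfl | rfl <;> simp
    · rw [h2, hN1γ, hN2γ]
      congr 1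
      ring
  · intro β' hβ'
    obtain ⟨N2γ, r, h1, h2⟩ := key β'
    obtain ⟨m₂, hm₂⟩ := hβ.2 β' hβ'
    rw [h1] at hm₂
    have hN2γ : N2γ = (p : ℤ) * m₂ := Int.cast_injective hm₂
    refine ⟨((p : ℤ) * m + ε) * m₂ + r, ?_⟩
    rw [h2, hN1γ, hN2γ]
    congr 1
    ring

end composition

section pgroup

/-- The correspondence for a single automorphism with `σ ^ p = 1` (possibly trivial). -/
theorem base' {p : ℕ} [hp : Fact p.Prime] {D C : Type u} [Group D] [Fintype D] [Group C] [Fintype C]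
    (hpD : ¬ p ∣ Nat.card D) (σ : MulAut D) (hσ : σ ^ p = 1) (ι : C →* D)
    (hι : Function.Injective ι) (hfix : ∀ d : D, σ d = d ↔ d ∈ ι.range) :
    ABC p ({σ} : Set (MulAut D)) ι := by
  have hp2 : 2 ≤ p := hp.out.two_le
  by_cases h1 : σ = 1
  · apply abc_of_bijective hp2 _ ι
    · refine ⟨hι, fun d => ?_⟩
      exact (hfix d).mp (by rw [h1]; rfl)
    · intro a ha g
      rw [Set.mem_singleton_iff.mp ha, h1]; rfl
  · have ha : orderOf σ = p := orderOf_eq_prime hσ h1
    obtain ⟨hA, hB, hC⟩ := Cfsg.Agent.Lib.Helper3_GlaubBase.base ι ha hfix hpD hι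
    have hinv : ∀ χ : D → ℂ, InvSet ({σ} : Set (MulAut D)) χ ↔ ∀ g, χ (σ g) = χ g := by
      intro χ
      constructor
      · intro h g; exact h σ rfl g
      · intro h a ha g; rw [Set.mem_singleton_iff.mp ha]; exact h g
    refine ⟨fun χ hχ => hA χ ((hinv _).mp hχ), fun χ χ' hχ hχ' => hB χ χ' ((hinv _).mp hχ)
      ((hinv _).mp hχ'), fun β => ?_⟩
    obtain ⟨χ, h2, h3⟩ := hC β
    exact ⟨χ, (hinv _).mpr h2, h3⟩

/-- A group of order `p ^ (n+1)` has a normal subgroup of order `p ^ n` with cyclic quotient. -/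
theorem exists_normal_index_p {S : Type u} [Group S] {p n : ℕ} [hp : Fact p.Prime]
    (hS : Nat.card S = p ^ (n + 1)) :
    ∃ (T : Subgroup S) (s₀ : S), T.Normal ∧ Nat.card T = p ^ n ∧ s₀ ^ p ∈ T ∧
      ∀ s : S, ∃ t ∈ T, ∃ k : ℤ, s = t * s₀ ^ k := by
  have hfin : Finite S := Nat.finite_of_card_ne_zero (by rw [hS]; exact pow_ne_zero _ hp.out.ne_zero)
  obtain ⟨T, hT⟩ := Sylow.exists_subgroup_card_pow_prime p (n := n)
    (show p ^ n ∣ Nat.card S by rw [hS]; exact pow_dvd_pow p (Nat.le_succ n))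
  have hidx : T.index = p := by
    have h1 := T.card_mul_index
    rw [hT, hS, pow_succ] at h1
    exact Nat.eq_of_mul_eq_mul_left (pow_pos hp.out.pos n) h1
  have hTn : T.Normal := by
    apply Subgroup.normal_of_index_eq_minFac_card
    rw [hidx, hS, Nat.Prime.pow_minFac hp.out (Nat.succ_ne_zero n)]
  have hq : Nat.card (S ⧸ T) = p := by rw [← Subgroup.index_eq_card, hidx]
  have hnt : Nontrivial (S ⧸ T) := by
    have : Finite (S ⧸ T) := inferInstance
    rw [← Finite.one_lt_card_iff_nontrivial, hq]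
    exact hp.out.one_lt
  obtain ⟨q, hq1⟩ := exists_ne (1 : S ⧸ T)
  obtain ⟨s₀, rfl⟩ := QuotientGroup.mk_surjective q
  have htop : Subgroup.zpowers (s₀ : S ⧸ T) = ⊤ := zpowers_eq_top_of_prime_card hq hq1
  refine ⟨T, s₀, hTn, hT, ?_, ?_⟩
  · rw [← QuotientGroup.eq_one_iff, QuotientGroup.mk_pow, ← hq]
    exact pow_card_eq_one'
  · intro s
    have hmem : (s : S ⧸ T) ∈ Subgroup.zpowers (s₀ : S ⧸ T) := by rw [htop]; exact Subgroup.mem_top _
    obtain ⟨k, hk⟩ := Subgroup.mem_zpowers_iff.mp hmem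
    refine ⟨s * (s₀ ^ k)⁻¹, ?_, k, by group⟩
    rw [← QuotientGroup.eq_one_iff, QuotientGroup.mk_mul, QuotientGroup.mk_inv,
      QuotientGroup.mk_zpow, hk, mul_inv_cancel]

/-- The subgroup of points fixed by `φ(T)`. -/
def fixedSub {G : Type u} [Group G] {S : Type u} [Group S] (φ : S →* MulAut G) (T : Subgroup S) :
    Subgroup G where
  carrier := {g | ∀ t ∈ T, φ t g = g}
  mul_mem' := by
    intro x y hx hy t ht
    rw [map_mul, hx t ht, hy t ht]
  one_mem' := fun t _ => map_one _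
  inv_mem' := by
    intro x hx t ht
    rw [map_inv, hx t ht]

theorem mem_fixedSub {G : Type u} [Group G] {S : Type u} [Group S] (φ : S →* MulAut G)
    (T : Subgroup S) (g : G) : g ∈ fixedSub φ T ↔ ∀ t ∈ T, φ t g = g := Iff.rfl

/-- **The Glauberman correspondence for a `p`-group of operators** (abstract form). -/
theorem glauberman_pgroup {p : ℕ} [hp : Fact p.Prime] (n : ℕ) :
    ∀ {G : Type u} [Group G] [Fintype G] (_hpG : n ≠ 0 → ¬ p ∣ Nat.card G) {S : Type u} [Group S]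
      (_hS : Nat.card S = p ^ n) (φ : S →* MulAut G) {C : Type u} [Group C] [Fintype C]
      (ι : C →* G) (_hι : Function.Injective ι)
      (_hfix : ∀ g : G, (∀ s : S, φ s g = g) ↔ g ∈ ι.range),
      ABC p (Set.range φ) ι := by
  have hp2 : 2 ≤ p := hp.out.two_le
  induction n with
  | zero =>
    intro G _ _ hpG S _ hS φ C _ _ ι hι hfix
    rw [pow_zero, Nat.card_eq_one_iff_unique] at hS
    obtain ⟨hsub, _⟩ := hS
    have hall : ∀ s : S, φ s = 1 := fun s => by rw [Subsingleton.elim s 1, map_one]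
    apply abc_of_bijective hp2 _ ι
    · refine ⟨hι, fun g => (hfix g).mp (fun s => by rw [hall s]; rfl)⟩
    · rintro a ⟨s, rfl⟩ g
      rw [hall s]; rfl
  | succ n ih =>
    intro G _ _ hpG' S _ hS φ C _ _ ι hι hfix
    classical
    have hpG : ¬ p ∣ Nat.card G := hpG' (Nat.succ_ne_zero n)
    obtain ⟨T, s₀, hTn, hTcard, hs₀p, hdecomp⟩ := exists_normal_index_p hS
    set D : Subgroup G := fixedSub φ T with hD
    have : Fintype D := Fintype.ofFinite D
    -- the induction hypothesis for `T`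
    have hfixT : ∀ g : G, (∀ t : T, (φ.comp T.subtype) t g = g) ↔ g ∈ D.subtype.range := by
      intro g
      rw [Subgroup.range_subtype, hD, mem_fixedSub]
      constructor
      · intro h t ht; exact h ⟨t, ht⟩
      · intro h t; exact h t t.2
    have ABC_T := ih (fun _ => hpG) hTcard (φ.comp T.subtype) D.subtype Subtype.val_injective hfixT
    have hInvT : ∀ χ : G → ℂ, InvSet (Set.range φ) χ → InvSet (Set.range (φ.comp T.subtype)) χ := by
      rintro χ h a ⟨t, rfl⟩ g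
      exact h _ ⟨(t : S), rfl⟩ g
    -- the automorphism induced by `s₀`
    set σG : MulAut G := φ s₀ with hσG
    have hconj1 : ∀ t ∈ T, s₀⁻¹ * t * s₀ ∈ T := fun t ht => by
      have := hTn.conj_mem t ht s₀⁻¹
      rwa [inv_inv] at this
    have hconj2 : ∀ t ∈ T, s₀ * t * s₀⁻¹ ∈ T := fun t ht => hTn.conj_mem t ht s₀
    have hD1 : ∀ d ∈ D, σG d ∈ D := by
      intro d hd t ht
      have h1 : t * s₀ = s₀ * (s₀⁻¹ * t * s₀) := by group
      calc φ t (σG d) = φ (t * s₀) d := by rw [map_mul]; rfl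
        _ = φ s₀ (φ (s₀⁻¹ * t * s₀) d) := by rw [h1, map_mul]; rfl
        _ = σG d := by rw [hd _ (hconj1 t ht)]
    have hD2 : ∀ d ∈ D, σG⁻¹ d ∈ D := by
      intro d hd t ht
      have h1 : t * s₀⁻¹ = s₀⁻¹ * (s₀ * t * s₀⁻¹) := by group
      have h2 : σG⁻¹ = φ s₀⁻¹ := (map_inv φ s₀).symm
      rw [h2]
      calc φ t (φ s₀⁻¹ d) = φ (t * s₀⁻¹) d := by rw [map_mul]; rfl
        _ = φ s₀⁻¹ (φ (s₀ * t * s₀⁻¹) d) := by rw [h1, map_mul]; rfl
        _ = φ s₀⁻¹ d := by rw [hd _ (hconj2 t ht)]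
    set σD : MulAut D := resAut σG D hD1 hD2 with hσD
    have hσDp : σD ^ p = 1 := by
      ext d
      rw [resAut_pow_apply, hσG, ← map_pow]
      exact d.2 _ hs₀p
    have hmem : ∀ c : C, ι c ∈ D := fun c t _ => (hfix (ι c)).mpr ⟨c, rfl⟩ t
    set ιD : C →* D := ι.codRestrict D hmem with hιD
    have hιDinj : Function.Injective ιD := by
      intro c c' h
      exact hι (congrArg Subtype.val h)
    have hfixD : ∀ d : D, σD d = d ↔ d ∈ ιD.range := by
      intro d
      constructor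
      · intro h
        have h1 : σG (d : G) = d := congrArg Subtype.val h
        have h2 : ∀ s : S, φ s (d : G) = d := by
          intro s
          obtain ⟨t, ht, k, rfl⟩ := hdecomp s
          rw [map_mul, map_zpow, MulAut.mul_apply,
            Cfsg.Agent.Lib.Helper3_TwistedClass.zpow_apply_of_fixed _ h1 k]
          exact d.2 t ht
        obtain ⟨c, hc⟩ := (hfix _).mp h2
        exact ⟨c, Subtype.ext hc⟩
      · rintro ⟨c, rfl⟩
        apply Subtype.ext
        exact (hfix (ι c)).mpr ⟨c, rfl⟩ s₀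
    have hpD : ¬ p ∣ Nat.card D := fun h => hpG (h.trans (Subgroup.card_subgroup_dvd_card D))
    have ABC_σ := base' hpD σD hσDp ιD hιDinj hfixD
    have hσDp1 : σD ^ p ^ 1 = 1 := by rw [pow_one]; exact hσDp
    have hInvσ : ∀ γ : D → ℂ, (∀ d, γ (σD d) = γ d) → InvSet ({σD} : Set (MulAut D)) γ := by
      intro γ h a ha d
      rw [Set.mem_singleton_iff.mp ha]; exact h d
    -- the composition step
    have step : ∀ χ : Cfsg.IrrCharacter G, (∀ g, (χ : G → ℂ) (σG g) = (χ : G → ℂ) g) →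
        ∀ γ : Cfsg.IrrCharacter D, Good p (fun d => (χ : G → ℂ) (D.subtype d)) γ →
        ∀ β : Cfsg.IrrCharacter C, Good p (fun c => (γ : D → ℂ) (ιD c)) β →
        Good p (fun c => (χ : G → ℂ) (ι c)) β := by
      intro χ hχσ γ hγ β hβ
      exact good_comp (k := 1) D.subtype ιD σG σD (fun d => rfl)
        (fun c => (hfixD _).mpr ⟨c, rfl⟩) hσDp1 χ hχσ γ hγ β hβ
    have hγinv : ∀ χ : Cfsg.IrrCharacter G, (∀ g, (χ : G → ℂ) (σG g) = (χ : G → ℂ) g) →
        ∀ γ : Cfsg.IrrCharacter D, Good p (fun d => (χ : G → ℂ) (D.subtype d)) γ →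
        ∀ d, (γ : D → ℂ) (σD d) = (γ : D → ℂ) d := by
      intro χ hχσ γ hγ
      exact good_invariant hp2 σD hγ (fun d => hχσ (d : G))
    have hσmem : σG ∈ Set.range φ := ⟨s₀, rfl⟩
    refine ⟨?_, ?_, ?_⟩
    · -- existence
      intro χ hχ
      have hχσ := hχ σG hσmem
      obtain ⟨γ, hγ⟩ := ABC_T.exists_good χ (hInvT _ hχ)
      obtain ⟨β, hβ⟩ := ABC_σ.exists_good γ (hInvσ _ (hγinv χ hχσ γ hγ))
      exact ⟨β, step χ hχσ γ hγ β hβ⟩
    · -- injectivity
      intro χ χ' hχ hχ' β hg hg'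
      have hχσ := hχ σG hσmem
      have hχσ' := hχ' σG hσmem
      obtain ⟨γ, hγ⟩ := ABC_T.exists_good χ (hInvT _ hχ)
      obtain ⟨β₁, hβ₁⟩ := ABC_σ.exists_good γ (hInvσ _ (hγinv χ hχσ γ hγ))
      obtain ⟨γ', hγ'⟩ := ABC_T.exists_good χ' (hInvT _ hχ')
      obtain ⟨β₁', hβ₁'⟩ := ABC_σ.exists_good γ' (hInvσ _ (hγinv χ' hχσ' γ' hγ'))
      have e1 : β₁ = β := Good.unique hp2 (step χ hχσ γ hγ β₁ hβ₁) hg
      have e2 : β₁' = β := Good.unique hp2 (step χ' hχσ' γ' hγ' β₁' hβ₁') hg'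
      rw [e1] at hβ₁
      rw [e2] at hβ₁'
      have e3 : γ = γ' := ABC_σ.inj γ γ' (hInvσ _ (hγinv χ hχσ γ hγ))
        (hInvσ _ (hγinv χ' hχσ' γ' hγ')) β hβ₁ hβ₁'
      rw [← e3] at hγ'
      exact ABC_T.inj χ χ' (hInvT _ hχ) (hInvT _ hχ') γ hγ hγ'
    · -- surjectivity
      intro β
      obtain ⟨γ, hγinv', hγβ⟩ := ABC_σ.surj β
      have hγσ : ∀ d, (γ : D → ℂ) (σD d) = (γ : D → ℂ) d := hγinv' σD rfl
      obtain ⟨χ, hχT, hχγ⟩ := ABC_T.surj γ
      -- `χ` is `σG`-invariant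
      have hχ'T : InvSet (Set.range (φ.comp T.subtype)) (compAut σG χ : G → ℂ) := by
        rintro a ⟨t, rfl⟩ g
        show (χ : G → ℂ) (σG ((φ.comp T.subtype) t g)) = (χ : G → ℂ) (σG g)
        have h1 : σG ((φ.comp T.subtype) t g) = φ (s₀ * t * s₀⁻¹) (σG g) := by
          show φ s₀ (φ (t : S) g) = φ (s₀ * t * s₀⁻¹) (φ s₀ g)
          rw [← MulAut.mul_apply, ← MulAut.mul_apply, ← map_mul, ← map_mul]
          congr 2
          group
        rw [h1]
        exact hχT _ ⟨⟨s₀ * t * s₀⁻¹, hconj2 t t.2⟩, rfl⟩ _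
      have hχ'γ : Good p (fun d => (compAut σG χ : G → ℂ) (D.subtype d)) γ := by
        have h1 := good_comp_aut σD hχγ
        have h2 : compAut σD γ = γ := by
          apply Subtype.ext
          funext d
          exact hγσ d
        rw [h2] at h1
        exact h1
      have hχeq : compAut σG χ = χ := ABC_T.inj _ _ hχ'T hχT γ hχ'γ hχγ
      have hχσ : ∀ g, (χ : G → ℂ) (σG g) = (χ : G → ℂ) g := fun g =>
        congrFun (congrArg Subtype.val hχeq) g
      have hχ : InvSet (Set.range φ) (χ : G → ℂ) := by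
        rintro a ⟨s, rfl⟩
        rw [← mem_stabFun]
        obtain ⟨t, ht, k, rfl⟩ := hdecomp s
        rw [map_mul, map_zpow]
        apply Subgroup.mul_mem
        · rw [mem_stabFun]
          exact hχT _ ⟨⟨t, ht⟩, rfl⟩
        · apply Subgroup.zpow_mem
          rw [mem_stabFun]
          exact hχσ
      exact ⟨χ, hχ, step χ hχσ γ hχγ β hγβ⟩

end pgroup

end Cfsg.Agent.Lib.Helper3_GlaubInd
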