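import Cfsg.Agent.Lib.Helper75_ExtendCyclic
import Cfsg.Agent.Lib.Helper74_GoingUp
import Cfsg.Agent.Lib.Helper3_CharColumn

/-!
# The semidirect product `G ⋊ ⟨a⟩` and extension of invariant characters

For an automorphism `a` of a finite group `G`, we form `H = G ⋊ ⟨a⟩`.  An `a`-invariant
irreducible character of `G` extends to an irreducible character of `H`; we record the
decomposition of sums over `H` along the cosets of `G`, and the first orthogonality relation
in this form.
-/

set_option autoImplicit false

namespace Cfsg.Agent.Lib.Helper3_GlaubSemi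

open scoped ComplexConjugate
open Cfsg.Agent.Lib.Helper3_CharBridge Cfsg.Agent.Lib.Helper3_CharOrtho
  Cfsg.Agent.Lib.Helper3_CharComplete

universe u

variable {G : Type u} [Group G]

/-- The cyclic group generated by `a`. -/
abbrev AA (a : MulAut G) : Subgroup (MulAut G) := Subgroup.zpowers a

/-- The semidirect product `G ⋊ ⟨a⟩`. -/
abbrev HH (a : MulAut G) : Type u := G ⋊[(AA a).subtype] (AA a)

/-- `inl` into `HH a`. -/
abbrev il (a : MulAut G) : G →* HH a := SemidirectProduct.inl

/-- `inr` into `HH a`. -/
abbrev ir (a : MulAut G) : AA a →* HH a := SemidirectProduct.inr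

theorem ir_mul_il (a : MulAut G) (b : AA a) (g : G) :
    ir a b * il a g = il a ((b : MulAut G) g) * ir a b := by
  have h := SemidirectProduct.inl_aut (φ := (AA a).subtype) b g
  have h2 : (il a ((b : MulAut G) g) : HH a) = ir a b * il a g * (ir a b)⁻¹ := by
    rw [← map_inv]; exact h
  rw [h2]; group

theorem il_conj (a : MulAut G) (y g : G) (b : AA a) :
    il a y * (il a g * ir a b) * (il a y)⁻¹ =
      il a (y * g * ((b : MulAut G) y)⁻¹) * ir a b := by
  have h1 : ir a b * (il a y)⁻¹ = (il a ((b : MulAut G) y))⁻¹ * ir a b := by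
    rw [← map_inv, ir_mul_il, map_inv, map_inv]
  calc il a y * (il a g * ir a b) * (il a y)⁻¹
      = il a y * il a g * (ir a b * (il a y)⁻¹) := by group
    _ = il a y * il a g * ((il a ((b : MulAut G) y))⁻¹ * ir a b) := by rw [h1]
    _ = il a (y * g * ((b : MulAut G) y)⁻¹) * ir a b := by
        rw [map_mul, map_mul, map_inv]; group

theorem conj_il (a : MulAut G) (h : HH a) (g : G) :
    h * il a g * h⁻¹ = il a (h.left * (h.right : MulAut G) g * h.left⁻¹) := by
  have hh : h = il a h.left * ir a h.right := (SemidirectProduct.inl_left_mul_inr_right h).symm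
  have h1 : ir a h.right * il a g * (ir a h.right)⁻¹ = il a ((h.right : MulAut G) g) := by
    rw [ir_mul_il]; group
  calc h * il a g * h⁻¹
      = il a h.left * (ir a h.right * il a g * (ir a h.right)⁻¹) * (il a h.left)⁻¹ := by
        conv_lhs => rw [hh]
        group
    _ = il a (h.left * (h.right : MulAut G) g * h.left⁻¹) := by
        rw [h1, map_mul, map_mul, map_inv]

variable [Fintype G]

instance finiteHH (a : MulAut G) : Finite (HH a) :=
  Finite.of_equiv _ SemidirectProduct.equivProd.symm

noncomputable instance fintypeHH (a : MulAut G) : Fintype (HH a) := Fintype.ofFinite _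

noncomputable instance fintypeAA (a : MulAut G) : Fintype (AA a) := Fintype.ofFinite _

omit [Fintype G] in
theorem card_HH (a : MulAut G) : Nat.card (HH a) = Nat.card G * orderOf a := by
  rw [SemidirectProduct.card, Nat.card_zpowers]

/-- Sums over `H` decompose along the cosets of `G`. -/
theorem sum_HH {M : Type*} [AddCommMonoid M] (a : MulAut G) (F : HH a → M) :
    ∑ h : HH a, F h = ∑ b : AA a, ∑ g : G, F (il a g * ir a b) := by
  rw [Finset.sum_comm, ← Fintype.sum_prod_type']
  apply Fintype.sum_equiv SemidirectProduct.equivProd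
  intro h
  show F h = F (il a h.left * ir a h.right)
  rw [SemidirectProduct.inl_left_mul_inr_right]

omit [Fintype G] in
/-- An irreducible character of `G` fixed by `a` is fixed by every element of `⟨a⟩`. -/
theorem inv_of_mem_zpowers (a : MulAut G) (χ : G → ℂ) (hinv : ∀ g, χ (a g) = χ g)
    (b : AA a) (g : G) : χ ((b : MulAut G) g) = χ g := by
  let St : Subgroup (MulAut G) :=
    { carrier := {c | ∀ g, χ (c g) = χ g}
      mul_mem' := by
        intro c d hc hd g
        rw [MulAut.mul_apply, hc, hd]
      one_mem' := fun g => rfl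
      inv_mem' := by
        intro c hc g
        have := hc (c⁻¹ g)
        rw [MulAut.apply_inv_self] at this
        exact this.symm }
  have h1 : AA a ≤ St := by
    rw [Subgroup.zpowers_le]
    exact hinv
  exact h1 b.2 g

/-- The normal subgroup `G` of `H`. -/
abbrev NN (a : MulAut G) : Subgroup (HH a) := (il a).range

omit [Fintype G] in
theorem NN_normal (a : MulAut G) : (NN a).Normal := by
  show ((SemidirectProduct.inl : G →* HH a).range).Normal
  rw [SemidirectProduct.range_inl_eq_ker_rightHom]
  exact MonoidHom.normal_ker _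

omit [Fintype G] in
theorem cyclic_quot (a : MulAut G) (hN : (NN a).Normal) : IsCyclic (HH a ⧸ NN a) := by
  have hker : NN a = (SemidirectProduct.rightHom : HH a →* AA a).ker :=
    SemidirectProduct.range_inl_eq_ker_rightHom
  have e1 : HH a ⧸ (SemidirectProduct.rightHom : HH a →* AA a).ker ≃* AA a :=
    QuotientGroup.quotientKerEquivOfSurjective _ SemidirectProduct.rightHom_surjective
  have e2 : HH a ⧸ NN a ≃* HH a ⧸ (SemidirectProduct.rightHom : HH a →* AA a).ker :=
    QuotientGroup.quotientMulEquivOfEq hker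
  exact isCyclic_of_surjective (e2.trans e1).symm (e2.trans e1).symm.surjective

/-- **Extension**: an `a`-invariant irreducible character of `G` extends to `H`. -/
theorem exists_extension (a : MulAut G) (χ : Cfsg.IrrCharacter G)
    (hinv : ∀ g, (χ : G → ℂ) (a g) = (χ : G → ℂ) g) :
    ∃ χh : HH a → ℂ, Cfsg.IsIrrCharacter (HH a) χh ∧ ∀ g : G, χh (il a g) = (χ : G → ℂ) g := by
  have hN := NN_normal a
  let e : G ≃* NN a := MonoidHom.ofInjective SemidirectProduct.inl_injective
  have he : ∀ g : G, ((e g : NN a) : HH a) = il a g := fun g => rfl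
  let ϑ : NN a → ℂ := fun n => (χ : G → ℂ) (e.symm n)
  have hϑ : Cfsg.IsIrrCharacter (NN a) ϑ :=
    Cfsg.Agent.Lib.Helper74_GoingUp.isIrr_comp_equiv e.symm χ.2
  have hcf := isClassFunction_of_isIrrCharacter χ.2
  have hinv' : ∀ (h : HH a) (n : NN a), ϑ ⟨h * n * h⁻¹, hN.conj_mem (n : HH a) n.2 h⟩ = ϑ n := by
    intro h n
    obtain ⟨g, rfl⟩ := e.surjective n
    have h1 : (⟨h * (e g : NN a) * h⁻¹, hN.conj_mem _ (e g).2 h⟩ : NN a) =
        e (h.left * (h.right : MulAut G) g * h.left⁻¹) := by
      apply Subtype.ext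
      show h * ((e g : NN a) : HH a) * h⁻¹ = ((e _ : NN a) : HH a)
      rw [he, he]
      exact conj_il a h g
    show (χ : G → ℂ) (e.symm _) = (χ : G → ℂ) (e.symm (e g))
    rw [h1, e.symm_apply_apply, e.symm_apply_apply, hcf, inv_of_mem_zpowers a _ hinv]
  obtain ⟨χh, hχh, hext⟩ :=
    Cfsg.Agent.Lib.Helper75_ExtendCyclic.exists_irr_extension_of_cyclic (NN a) hN (cyclic_quot a hN)
      ϑ hϑ hinv'
  refine ⟨χh, hχh, fun g => ?_⟩
  have := hext (e g)
  rw [he] at this
  rw [this]
  show (χ : G → ℂ) (e.symm (e g)) = _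
  rw [e.symm_apply_apply]

/-- First orthogonality on `H`, written along cosets. -/
theorem sum_cosets_irr (a : MulAut G) {χh χh' : HH a → ℂ} (h1 : Cfsg.IsIrrCharacter (HH a) χh)
    (h2 : Cfsg.IsIrrCharacter (HH a) χh') :
    ∑ b : AA a, ∑ g : G, χh (il a g * ir a b) * conj (χh' (il a g * ir a b)) =
      open scoped Classical in if χh = χh' then (Nat.card (HH a) : ℂ) else 0 := by
  classical
  have h3 := classInner_irr h1 h2
  unfold Cfsg.classInner at h3
  rw [sum_HH a (fun h => χh h * conj (χh' h))] at h3
  have hH : (Nat.card (HH a) : ℂ) ≠ 0 := card_ne_zero_complex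
  split_ifs with hc
  · rw [if_pos hc] at h3
    field_simp at h3
    exact h3
  · rw [if_neg hc] at h3
    rcases mul_eq_zero.mp h3 with h4 | h4
    · exact absurd (inv_eq_zero.mp h4) hH
    · exact h4

end Cfsg.Agent.Lib.Helper3_GlaubSemi
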