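import Cfsg.Agent.Lib.Helper49_KnDefs

/-!
# Small general lemmas for the S3687 market packages STEP5B / STEP5C (helper3)
-/

set_option autoImplicit false

namespace Cfsg.Agent.Lib.Helper3_Kn_Aux

open Cfsg Cfsg.Agent.Lib.Helper47_TW Cfsg.Agent.Lib.Helper49_KnDefs Cfsg.Agent.Lib.Helper47_Conj

universe u

variable {G : Type u} [Group G]

/-- membership in a conjugate -/
theorem mem_cj {g x : G} {H : Subgroup G} : x ∈ cj g H ↔ g⁻¹ * x * g ∈ H := by
  constructor
  · rintro ⟨y, hy, rfl⟩
    have : g⁻¹ * ((MulAut.conj g).toMonoidHom y) * g = y := by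
      simp [mul_assoc]
    rw [this]; exact hy
  · intro hx
    refine ⟨g⁻¹ * x * g, hx, ?_⟩
    simp [mul_assoc]

theorem conj_mem_cj {g y : G} {H : Subgroup G} (hy : y ∈ H) : g * y * g⁻¹ ∈ cj g H := by
  rw [mem_cj]
  have : g⁻¹ * (g * y * g⁻¹) * g = y := by group
  rw [this]; exact hy

theorem cj_eq_of_mem_normalizer {g : G} {H : Subgroup G}
    (hg : g ∈ Subgroup.normalizer (H : Set G)) : cj g H = H :=
  Subgroup.mem_normalizer_iff_map_conj_eq.mp hg

theorem card_cj [Finite G] (g : G) (H : Subgroup G) : Nat.card (cj g H) = Nat.card H :=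
  Subgroup.card_map_of_injective (MulAut.conj g).injective

/-- the normalizer of `K` normalizes the centralizer of `K` -/
theorem normalizer_le_normalizer_centralizer (K : Subgroup G) :
    Subgroup.normalizer (K : Set G) ≤
      Subgroup.normalizer ((Subgroup.centralizer (K : Set G) : Subgroup G) : Set G) := by
  have key : ∀ m ∈ Subgroup.normalizer (K : Set G), ∀ c ∈ Subgroup.centralizer (K : Set G),
      m * c * m⁻¹ ∈ Subgroup.centralizer (K : Set G) := by
    intro m hm c hc
    rw [Subgroup.mem_centralizer_iff] at hc ⊢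
    intro k hk
    have hk' : m⁻¹ * k * m ∈ K := by
      have := (Subgroup.mem_normalizer_iff.mp
        ((Subgroup.normalizer (K : Set G)).inv_mem hm) k).mp hk
      simpa using this
    have h1 := hc _ hk'
    calc k * (m * c * m⁻¹) = m * ((m⁻¹ * k * m) * c) * m⁻¹ := by group
      _ = m * (c * (m⁻¹ * k * m)) * m⁻¹ := by rw [h1]
      _ = m * c * m⁻¹ * k := by group
  intro m hm
  rw [Subgroup.mem_normalizer_iff]
  intro c
  constructor
  · exact key m hm c
  · intro hc
    have := key m⁻¹ ((Subgroup.normalizer (K : Set G)).inv_mem hm) _ hc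
    have h2 : m⁻¹ * (m * c * m⁻¹) * m⁻¹⁻¹ = c := by group
    rwa [h2] at this

/-- an `AS` pair of degree at least two has an element outside the point stabilizer -/
theorem exists_not_mem_of_AS [Finite G] {d : ℕ} {M T : Subgroup G} (h : AS d M T) (hd : 2 ≤ d) :
    ∃ m ∈ M, m ∉ T := by
  by_contra hcon
  push Not at hcon
  have hMT : M = T := le_antisymm hcon h.1
  have h2 := h.2.1
  rw [hMT] at h2
  have hpos : 0 < Nat.card T := Nat.card_pos
  nlinarith

/-- `M ⊓ N` normalizes `c1 M N ⊓ c1 N M` -/
theorem inf_le_normalizer_X (M N : Subgroup G) :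
    M ⊓ N ≤ Subgroup.normalizer ((c1 M N ⊓ c1 N M : Subgroup G) : Set G) := by
  intro t ht
  exact mem_normalizer_inf (le_normalizer_relCore M _ ht.1) (le_normalizer_relCore N _ ht.2)

/-- commutator subgroup of a subgroup with itself lies inside -/
theorem commutator_self_le (C : Subgroup G) : ⁅C, C⁆ ≤ C := by
  rw [Subgroup.commutator_le]
  intro a ha b hb
  rw [commutatorElement_def]
  exact C.mul_mem (C.mul_mem (C.mul_mem ha hb) (C.inv_mem ha)) (C.inv_mem hb)

/-- `c1 N M` written with the intersection in the other order -/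
theorem relCore_inf_comm (M N : Subgroup G) : relCore N (M ⊓ N) = c1 N M := by
  show relCore N (M ⊓ N) = relCore N (N ⊓ M)
  rw [inf_comm]

/-- an `altPart` is not inside the core (degree at least 3) -/
theorem altPart_not_le_core [Finite G] {d : ℕ} {M T : Subgroup G} (hd : 3 ≤ d)
    (hcard : 2 * Nat.card (altPart M T) = d.factorial * Nat.card (relCore M T)) :
    ¬ altPart M T ≤ relCore M T := by
  intro hle
  have h1 : Nat.card (altPart M T) ≤ Nat.card (relCore M T) := Subgroup.card_le_of_le hle
  have h2 : d ≤ d.factorial := Nat.self_le_factorial d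
  have hpos : 0 < Nat.card (relCore M T) := Nat.card_pos
  nlinarith

end Cfsg.Agent.Lib.Helper3_Kn_Aux
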