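import Cfsg.Agent.Lib.Helper3_Kn_Aux
import Cfsg.Agent.Lib.Helper99_Kn_ALTCOMM
import Cfsg.Agent.Lib.Helper82_Kn_ALTPART
import Cfsg.Agent.Lib.Helper41_Kn_ALTPOINT
import Cfsg.Agent.Lib.Helper10_Kn_ALTTRANS
import Cfsg.Agent.Lib.Helper49_Kn_BASIC
import Cfsg.Agent.Lib.Helper60_Kn_ALTcore

/-!
# S3687 market: the packages used by STEP5B / STEP5C, gathered from the landed files (helper3)

`as_pp` and `as_solv` are obtained here from helper60's cores `as_pp_of` / `as_solv_of` and the landed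
ALTCOMM / ALTPART, with the statements of the packages ALTPP / ALTSOLV.
-/

set_option autoImplicit false

namespace Cfsg.Agent.Lib.Helper3_Kn_Deps

open Cfsg Cfsg.Agent.Lib.Helper47_TW Cfsg.Agent.Lib.Helper49_KnDefs

universe u v

variable {G : Type u} [Group G] [Finite G]

theorem as_comm {d : ℕ} {M T U Z₁ Z₂ : Subgroup G} (h : AS d M T) (hd : 5 ≤ d)
    (hUM : U ≤ M) (hAU : altPart M T ≤ U ⊔ relCore M T)
    (h1 : Z₁ ≤ U) (h1n : U ≤ Subgroup.normalizer (Z₁ : Set G)) (h1K : ¬ Z₁ ≤ relCore M T)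
    (h2 : Z₂ ≤ U) (h2n : U ≤ Subgroup.normalizer (Z₂ : Set G)) (h2K : ¬ Z₂ ≤ relCore M T) :
    altPart M T ≤ ⁅Z₁, Z₂⁆ ⊔ relCore M T :=
  Cfsg.Agent.Lib.Helper99_Kn_ALTCOMM.as_comm h hd hUM hAU h1 h1n h1K h2 h2n h2K

theorem altPart_facts {d : ℕ} {M T : Subgroup G} (h : AS d M T) (hd : 5 ≤ d) :
    relCore M T ≤ altPart M T ∧ altPart M T ≤ M ∧
      M ≤ Subgroup.normalizer (altPart M T : Set G) ∧
      2 * Nat.card (altPart M T) = d.factorial * Nat.card (relCore M T) :=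
  Cfsg.Agent.Lib.Helper82_Kn_ALTPART.altPart_facts h hd

theorem as_trans {d : ℕ} {M T H : Subgroup G} (h : AS d M T) (hd : 5 ≤ d)
    (hAH : altPart M T ≤ H) :
    ∀ m ∈ M, ∃ x ∈ H, ∃ t ∈ T, m = x * t :=
  Cfsg.Agent.Lib.Helper10_Kn_ALTTRANS.as_trans h hd hAH

theorem as_point {d : ℕ} {M T : Subgroup G} (h : AS d M T) (hd : 5 ≤ d) {m : G}
    (hm : m ∈ M) (hmT : m ∉ T) :
    AS (d - 1) T (T ⊓ cj m T) ∧ relCore T (T ⊓ cj m T) = relCore M T :=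
  Cfsg.Agent.Lib.Helper41_Kn_ALTPOINT.as_point h hd hm hmT

theorem sym_not_le {d : ℕ} {M N : Subgroup G} {g : G} (h : Sym d M N g) :
    ¬ c1 M N ≤ c1 N M :=
  Cfsg.Agent.Lib.Helper49_Kn_BASIC.sym_not_le h

theorem as_pp {d : ℕ} {M T U : Subgroup G} (h : AS d M T) (hd : 5 ≤ d)
    (hUM : U ≤ M) (hAU : altPart M T ≤ U ⊔ relCore M T)
    {ι : Type v} [Finite ι] [Nonempty ι] (Z : ι → Subgroup G)
    (hZ : ∀ i, Z i ≤ U ∧ U ≤ Subgroup.normalizer (Z i : Set G) ∧ ¬ Z i ≤ relCore M T) :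
    altPart M T ≤ (⨅ i, Z i) ⊔ relCore M T := by
  obtain ⟨hf1, -, -, hf4⟩ := altPart_facts h hd
  exact Cfsg.Agent.Lib.Helper60_Kn_ALTcore.as_pp_of (U := U) hd
    (fun Z₁ Z₂ h1 h1n h1K h2 h2n h2K => as_comm h hd hUM hAU h1 h1n h1K h2 h2n h2K)
    ⟨hf1, hf4⟩ Z hZ

theorem as_solv {d : ℕ} {M T U Z : Subgroup G} (h : AS d M T) (hd : 5 ≤ d)
    (hUM : U ≤ M) (hAU : altPart M T ≤ U ⊔ relCore M T)
    (hZU : Z ≤ U) (hZn : U ≤ Subgroup.normalizer (Z : Set G)) (hsolv : Group.IsSolvable ↥Z) :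
    Z ≤ relCore M T := by
  obtain ⟨hf1, -, -, hf4⟩ := altPart_facts h hd
  exact Cfsg.Agent.Lib.Helper60_Kn_ALTcore.as_solv_of (U := U) hd
    (fun Z₁ Z₂ h1 h1n h1K h2 h2n h2K => as_comm h hd hUM hAU h1 h1n h1K h2 h2n h2K)
    ⟨hf1, hf4⟩ hZU hZn hsolv

end Cfsg.Agent.Lib.Helper3_Kn_Deps
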