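import Cfsg.Agent.Lib.Helper3_Kn_Aux
import Cfsg.Agent.Lib.Helper3_Kn_Deps

/-!
# S3687 market, package STEP5B (helper3)
-/

set_option autoImplicit false

namespace Cfsg.Agent.Lib.Helper3_Kn_STEP5B

open Cfsg Cfsg.Agent.Lib.Helper47_TW Cfsg.Agent.Lib.Helper49_KnDefs Cfsg.Agent.Lib.Helper47_Conj
  Cfsg.Agent.Lib.Helper3_Kn_Aux Cfsg.Agent.Lib.Helper3_Kn_Deps

universe u

variable {G : Type u} [Group G] [Finite G]

theorem step5b {d : ℕ} {M N : Subgroup G} {g : G} (h : Sym d M N g) (hc : c2 M N = ⊥)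
    (hX : ∀ m ∈ M, m ∉ M ⊓ N → cj m (c1 M N ⊓ c1 N M) ≠ c1 M N ⊓ c1 N M) :
    ∃ F : Subgroup G, F ≠ ⊥ ∧ F ≤ M ⊓ N ∧ F ≤ Subgroup.centralizer (c1 N M : Set G) := by
  have hd6 := h.hd
  have hd5 : 5 ≤ d := by omega
  have hd5' : 5 ≤ d - 1 := by omega
  have hKn : M ≤ Subgroup.normalizer ((c1 M N : Subgroup G) : Set G) := le_normalizer_relCore M _
  have hLn : N ≤ Subgroup.normalizer ((c1 N M : Subgroup G) : Set G) := le_normalizer_relCore N _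
  have hKT : c1 M N ≤ M ⊓ N := relCore_le_right _ _
  have hTM : M ⊓ N ≤ M := inf_le_left
  have hTN : M ⊓ N ≤ N := inf_le_right
  have hTX := inf_le_normalizer_X M N
  -- the point stabilizer configuration in `T`
  obtain ⟨n, hnN, hnT⟩ := exists_not_mem_of_AS h.asN (by omega)
  obtain ⟨hAS, hcore⟩ := as_point h.asN hd5 hnN hnT
  rw [relCore_inf_comm] at hcore
  obtain ⟨-, hBT, -, hBcard⟩ := altPart_facts hAS hd5'
  have hBnot := altPart_not_le_core (by omega : 3 ≤ d - 1) hBcard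
  rw [hcore] at hBnot
  -- `B ≤ K L`
  have hKL : ¬ c1 M N ≤ relCore (M ⊓ N) (M ⊓ N ⊓ cj n (M ⊓ N)) := by
    rw [hcore]; exact sym_not_le h
  have hBK : altPart (M ⊓ N) (M ⊓ N ⊓ cj n (M ⊓ N)) ≤
      c1 M N ⊔ relCore (M ⊓ N) (M ⊓ N ⊓ cj n (M ⊓ N)) := by
    have h1 := as_comm hAS hd5' le_rfl (hBT.trans le_sup_left) hKT (hTM.trans hKn) hKL
      hKT (hTM.trans hKn) hKL
    exact h1.trans (sup_le_sup_right (commutator_self_le _) _)
  -- the family of conjugates of `X`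
  obtain ⟨m₀, hm₀M, hm₀T⟩ := exists_not_mem_of_AS h.asM (by omega)
  have : Nonempty {m : ↥M // (m : G) ∉ M ⊓ N} := ⟨⟨⟨m₀, hm₀M⟩, hm₀T⟩⟩
  obtain ⟨Z, hZdef⟩ : ∃ Z : {m : ↥M // (m : G) ∉ M ⊓ N} → Subgroup G,
      Z = fun i => cj ((i.1 : ↥M) : G) (c1 M N ⊓ c1 N M) := ⟨_, rfl⟩
  have hZ : ∀ i : {m : ↥M // (m : G) ∉ M ⊓ N},
      Z i ≤ c1 M N ∧ c1 M N ≤ Subgroup.normalizer ((Z i : Subgroup G) : Set G) ∧
      ¬ Z i ≤ relCore (M ⊓ N) (M ⊓ N ⊓ cj n (M ⊓ N)) := by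
    rintro ⟨⟨m, hmM⟩, hmT⟩
    have hZi : Z ⟨⟨m, hmM⟩, hmT⟩ = cj m (c1 M N ⊓ c1 N M) := by rw [hZdef]
    rw [hZi]
    have hcjK : cj m (c1 M N) = c1 M N := cj_eq_of_mem_normalizer (hKn hmM)
    have h1 : cj m (c1 M N ⊓ c1 N M) ≤ c1 M N := by
      have := Subgroup.map_mono (f := (MulAut.conj m).toMonoidHom)
        (inf_le_left : c1 M N ⊓ c1 N M ≤ c1 M N)
      exact this.trans hcjK.le
    refine ⟨h1, ?_, ?_⟩
    · rw [normalizer_map_conj]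
      have := Subgroup.map_mono (f := (MulAut.conj m).toMonoidHom) (hKT.trans hTX)
      exact hcjK.ge.trans this
    · rw [hcore]
      intro hle
      apply hX m hmM hmT
      apply Subgroup.eq_of_le_of_card_ge (le_inf h1 hle)
      rw [card_cj]
  have hpp := as_pp hAS hd5' hKT hBK Z hZ
  rw [hcore] at hpp
  have hZap : ∀ (m : G) (hmM : m ∈ M) (hmT : m ∉ M ⊓ N),
      Z ⟨⟨m, hmM⟩, hmT⟩ = cj m (c1 M N ⊓ c1 N M) := by
    intro m hmM hmT; rw [hZdef]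
  refine ⟨⨅ i, Z i, ?_, ?_, ?_⟩
  · intro hbot
    rw [hbot, bot_sup_eq] at hpp
    exact hBnot hpp
  · exact (iInf_le _ ⟨⟨m₀, hm₀M⟩, hm₀T⟩).trans ((hZ ⟨⟨m₀, hm₀M⟩, hm₀T⟩).1.trans hKT)
  · -- notation
    obtain ⟨F, hFdef⟩ : ∃ F : Subgroup G, F = ⨅ i, Z i := ⟨_, rfl⟩
    rw [← hFdef]
    have hFmem : ∀ x, x ∈ F ↔ ∀ m ∈ M, m ∉ M ⊓ N → x ∈ cj m (c1 M N ⊓ c1 N M) := by
      intro x
      rw [hFdef, Subgroup.mem_iInf]
      constructor
      · intro hx m hmM hmT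
        rw [← hZap m hmM hmT]
        exact hx ⟨⟨m, hmM⟩, hmT⟩
      · rintro hx ⟨⟨m, hmM⟩, hmT⟩
        rw [hZap m hmM hmT]
        exact hx m hmM hmT
    have hFK : F ≤ c1 M N := by
      rw [hFdef]
      exact (iInf_le _ ⟨⟨m₀, hm₀M⟩, hm₀T⟩).trans (hZ ⟨⟨m₀, hm₀M⟩, hm₀T⟩).1
    have hFT : F ≤ M ⊓ N := hFK.trans hKT
    -- `F ⊓ L = ⊥`
    have hFL : F ⊓ c1 N M = ⊥ := by
      have h1 : F ⊓ c1 N M ≤ relCore M (c1 M N ⊓ c1 N M) := by
        intro x hx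
        rw [mem_relCore]
        have hxX : x ∈ c1 M N ⊓ c1 N M := ⟨hFK hx.1, hx.2⟩
        refine ⟨hTM (hFT hx.1), fun m hmM => ?_⟩
        by_cases hmT : m ∈ M ⊓ N
        · exact (Subgroup.mem_normalizer_iff.mp (hTX hmT) x).mp hxX
        · have hm' : m⁻¹ ∉ M ⊓ N := fun hh => hmT (by simpa using (M ⊓ N).inv_mem hh)
          have := (hFmem x).mp hx.1 m⁻¹ (M.inv_mem hmM) hm'
          rw [mem_cj] at this
          simpa using this
      have h2 : relCore M (c1 M N ⊓ c1 N M) = ⊥ := hc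
      rw [h2] at h1
      exact le_bot_iff.mp h1
    -- `T` normalizes `F`
    have hFn : M ⊓ N ≤ Subgroup.normalizer (F : Set G) := by
      apply Cfsg.Agent.Lib.Helper47_PClosed.le_normalizer_of_forall_map_conj_le
      intro t ht y hy
      have hy' : y ∈ cj t F := hy
      rw [mem_cj] at hy'
      rw [hFmem]
      intro m hmM hmT
      have hm' : t⁻¹ * m ∉ M ⊓ N := by
        intro hh
        apply hmT
        have := (M ⊓ N).mul_mem ht hh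
        simpa using this
      have := (hFmem _).mp hy' (t⁻¹ * m) (M.mul_mem (M.inv_mem (hTM ht)) hmM) hm'
      rw [mem_cj] at this ⊢
      have e : (t⁻¹ * m)⁻¹ * (t⁻¹ * y * t) * (t⁻¹ * m) = m⁻¹ * y * m := by group
      rwa [e] at this
    -- conclusion
    intro f hf
    rw [Subgroup.mem_centralizer_iff]
    intro l hl
    have hl' : l ∈ c1 N M := hl
    have h1 : f * l * f⁻¹ ∈ c1 N M :=
      (Subgroup.mem_normalizer_iff.mp (hLn (hTN (hFT hf))) l).mp hl'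
    have hlT : l ∈ M ⊓ N := by
      have : c1 N M ≤ N ⊓ M := relCore_le_right _ _
      have := this hl'
      exact ⟨this.2, this.1⟩
    have h2 : l * f⁻¹ * l⁻¹ ∈ F :=
      (Subgroup.mem_normalizer_iff.mp (hFn hlT) f⁻¹).mp (F.inv_mem hf)
    have h3 : f * l * f⁻¹ * l⁻¹ ∈ F ⊓ c1 N M := by
      constructor
      · have e : f * l * f⁻¹ * l⁻¹ = f * (l * f⁻¹ * l⁻¹) := by group
        rw [e]
        exact F.mul_mem hf h2
      · exact (c1 N M).mul_mem h1 ((c1 N M).inv_mem hl')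
    rw [hFL, Subgroup.mem_bot] at h3
    calc l * f = (f * l * f⁻¹ * l⁻¹)⁻¹ * (f * l) := by group
      _ = f * l := by rw [h3]; simp

end Cfsg.Agent.Lib.Helper3_Kn_STEP5B
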