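import Cfsg.Agent.Lib.Helper3_Kn_Aux
import Cfsg.Agent.Lib.Helper3_Kn_Deps

/-!
# S3687 market, package STEP5C (helper3)
-/

set_option autoImplicit false

namespace Cfsg.Agent.Lib.Helper3_Kn_STEP5C

open Cfsg Cfsg.Agent.Lib.Helper47_TW Cfsg.Agent.Lib.Helper49_KnDefs Cfsg.Agent.Lib.Helper47_Conj
  Cfsg.Agent.Lib.Helper3_Kn_Aux Cfsg.Agent.Lib.Helper3_Kn_Deps

universe u

variable {G : Type u} [Group G] [Finite G]

theorem step5c {d : ℕ} {M N : Subgroup G} {g : G} (h : Sym d M N g) (hc : c2 M N = ⊥)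
    {F : Subgroup G} (hF : F ≠ ⊥) (hFM : F ≤ M)
    (hFc : F ≤ Subgroup.centralizer (c1 M N : Set G)) :
    M ≤ Subgroup.normalizer ((c1 M N ⊓ c1 N M : Subgroup G) : Set G) := by
  have hd6 := h.hd
  have hd5 : 5 ≤ d := by omega
  have hd5' : 5 ≤ d - 1 := by omega
  have hKn : M ≤ Subgroup.normalizer ((c1 M N : Subgroup G) : Set G) := le_normalizer_relCore M _
  have hKT : c1 M N ≤ M ⊓ N := relCore_le_right _ _
  have hTM : M ⊓ N ≤ M := inf_le_left
  -- the centralizer `C`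
  obtain ⟨C, hCdef⟩ : ∃ C : Subgroup G, C = Subgroup.centralizer (c1 M N : Set G) ⊓ M := ⟨_, rfl⟩
  have hCM : C ≤ M := hCdef ▸ inf_le_right
  have hCc : C ≤ Subgroup.centralizer (c1 M N : Set G) := hCdef ▸ inf_le_left
  have hCn : M ≤ Subgroup.normalizer (C : Set G) := by
    intro m hm
    rw [hCdef]
    exact mem_normalizer_inf (normalizer_le_normalizer_centralizer _ (hKn hm))
      (Subgroup.le_normalizer hm)
  have hFC : F ≤ C := hCdef ▸ le_inf hFc hFM
  have hCne : C ≠ ⊥ := fun hC => hF (le_bot_iff.mp (hC ▸ hFC))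
  -- the point stabilizer configuration in `T`
  obtain ⟨n, hnN, hnT⟩ := exists_not_mem_of_AS h.asN (by omega)
  obtain ⟨hAS, hcore⟩ := as_point h.asN hd5 hnN hnT
  rw [relCore_inf_comm] at hcore
  obtain ⟨-, hBT, -, -⟩ := altPart_facts hAS hd5'
  -- `Z := C ⊓ K` is abelian and normal in `M`
  have hZn : M ≤ Subgroup.normalizer ((C ⊓ c1 M N : Subgroup G) : Set G) := fun m hm =>
    mem_normalizer_inf (hCn hm) (hKn hm)
  have hZsolv : Group.IsSolvable ↥(C ⊓ c1 M N) := by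
    apply Group.isSolvable_of_comm
    rintro ⟨a, ha⟩ ⟨b, hb⟩
    apply Subtype.ext
    have h1 := Subgroup.mem_centralizer_iff.mp (hCc ha.1) b hb.2
    exact h1.symm
  have hZL : C ⊓ c1 M N ≤ c1 N M := by
    rw [← hcore]
    exact as_solv hAS hd5' le_rfl (hBT.trans le_sup_left) (inf_le_right.trans hKT)
      (hTM.trans hZn) hZsolv
  have hZbot : C ⊓ c1 M N = ⊥ := by
    have h1 : C ⊓ c1 M N ≤ relCore M (c1 M N ⊓ c1 N M) :=
      le_relCore (inf_le_left.trans hCM) (le_inf inf_le_right hZL) hZn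
    have h2 : relCore M (c1 M N ⊓ c1 N M) = ⊥ := hc
    rw [h2] at h1
    exact le_bot_iff.mp h1
  have hCK : ¬ C ≤ relCore M (M ⊓ N) := by
    intro hle
    apply hCne
    have : C ≤ C ⊓ c1 M N := le_inf le_rfl hle
    rw [hZbot] at this
    exact le_bot_iff.mp this
  -- the alternating part lies in `C K`
  obtain ⟨-, hAM, -, -⟩ := altPart_facts h.asM hd5
  have hA : altPart M (M ⊓ N) ≤ C ⊔ c1 M N := by
    have h1 := as_comm h.asM hd5 le_rfl (hAM.trans le_sup_left) hCM hCn hCK hCM hCn hCK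
    exact h1.trans (sup_le_sup_right (commutator_self_le C) _)
  have htr := as_trans h.asM hd5 hA
  -- everything normalizes `X`
  have hTX := inf_le_normalizer_X M N
  have hCX : C ⊔ c1 M N ≤ Subgroup.normalizer ((c1 M N ⊓ c1 N M : Subgroup G) : Set G) := by
    apply sup_le
    · refine hCc.trans ((Subgroup.centralizer_le ?_).trans (Subgroup.centralizer_le_normalizer _))
      exact fun x hx => hx.1
    · exact hKT.trans hTX
  intro m hm
  obtain ⟨x, hx, t, ht, rfl⟩ := htr m hm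
  exact Subgroup.mul_mem _ (hCX hx) (hTX ht)

end Cfsg.Agent.Lib.Helper3_Kn_STEP5C
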