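import Mathlib
import Cfsg.Agent.Lib.Helper85_OO2_ELT
import Cfsg.Agent.Lib.Helper85_OO2_RankOne

set_option autoImplicit false
set_option linter.unusedSimpArgs false
set_option linter.unnecessarySeqFocus false
set_option linter.unusedTactic false
set_option linter.unreachableTactic false

/-!
S2344, package OO2-REL1 (helper85): the `SL₂` relations for helper87's elements `xr`, `nw`, `hh` attached to a
hyperbolic quadruple, as identities in `V ≃ₗ[F] V`, and the resulting `SL2Rel` for the operators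
`repE Q ρ (xr ..)`, `repE Q ρ (nw .. 1)`, `repE Q ρ (hh ..)` of a representation of `T Q`.
-/

namespace Cfsg.Agent.Lib.Helper85_OO2_REL1

open Module Cfsg.Agent.Lib.Helper14_OmegaSimple Cfsg.Agent.Lib.Helper87_OO2Defs
  Cfsg.Agent.Lib.Helper85_OO2_ELT Cfsg.Agent.Lib.Helper95_OPDefs Cfsg.Agent.Lib.Helper85_OO2_RankOne

variable {F V : Type*} [Field F] [AddCommGroup V] [Module F V] {Q : QuadraticForm F V}

section grp

variable {a a' b b' : V} (h : HQuad Q a a' b b')
include h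

theorem xr_zero : xr Q a b' 0 = 1 := by
  unfold xr
  rw [zero_smul]
  exact E_zero_right Q h.pa.qa

theorem xr_add (s t : F) : xr Q a b' (s + t) = xr Q a b' s * xr Q a b' t := by
  unfold xr
  have h1 : ∀ u : F, QuadraticMap.polar (⇑Q) a (u • b') = 0 := fun u => by
    rw [QuadraticMap.polar_smul_right, h.ab', smul_zero]
  rw [E_mul Q h.pa.qa (h1 s) (h1 t), add_smul]

omit h in
theorem hh_one : hh Q a a' b b' 1 = 1 := by
  unfold hh
  exact mul_inv_cancel _

theorem hh_mul {s t : F} (hs : s ≠ 0) (ht : t ≠ 0) :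
    hh Q a a' b b' (s * t) = hh Q a a' b b' s * hh Q a a' b b' t := by
  have hst : s * t ≠ 0 := mul_ne_zero hs ht
  refine ext_frame_equiv h ?_ ?_ ?_ ?_ ?_
  · simp only [LinearEquiv.mul_apply, map_smul, hh_a h hst, hh_a h hs, hh_a h ht, smul_smul, mul_comm]
  · simp only [LinearEquiv.mul_apply, map_smul, hh_a' h hst, hh_a' h hs, hh_a' h ht, smul_smul,
      mul_inv, mul_comm]
  · simp only [LinearEquiv.mul_apply, map_smul, hh_b h hst, hh_b h hs, hh_b h ht, smul_smul,
      mul_inv, mul_comm]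
  · simp only [LinearEquiv.mul_apply, map_smul, hh_b' h hst, hh_b' h hs, hh_b' h ht, smul_smul,
      mul_comm]
  · intro x h1 h2 h3 h4
    simp only [LinearEquiv.mul_apply, hh_perp h _ h1 h2 h3 h4]

theorem hh_xr {t : F} (ht : t ≠ 0) (s : F) :
    hh Q a a' b b' t * xr Q a b' s = xr Q a b' (t ^ 2 * s) * hh Q a a' b b' t := by
  refine ext_frame_equiv h ?_ ?_ ?_ ?_ ?_
  · simp only [LinearEquiv.mul_apply, map_smul, map_add, map_sub, xr_a h, hh_a h ht]
  · simp only [LinearEquiv.mul_apply, map_smul, map_add, map_sub, xr_a' h, hh_a' h ht, hh_b' h ht]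
    match_scalars <;> (try field_simp) <;> (try ring)
  · simp only [LinearEquiv.mul_apply, map_smul, map_add, map_sub, xr_b h, hh_b h ht, hh_a h ht]
    match_scalars <;> (try field_simp) <;> (try ring)
  · simp only [LinearEquiv.mul_apply, map_smul, map_add, map_sub, xr_b' h, hh_b' h ht]
  · intro x h1 h2 h3 h4
    simp only [LinearEquiv.mul_apply, hh_perp h _ h1 h2 h3 h4,
      xr_perp h.pa.qa h.pb.qa' h.ab' _ h1 h4]

theorem nw_hh {t : F} (ht : t ≠ 0) :
    nw Q a a' b b' 1 * hh Q a a' b b' t = hh Q a a' b b' t⁻¹ * nw Q a a' b b' 1 := by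
  have ht' : t⁻¹ ≠ 0 := inv_ne_zero ht
  refine ext_frame_equiv h ?_ ?_ ?_ ?_ ?_
  · simp only [LinearEquiv.mul_apply, map_smul, map_neg, hh_a h ht, hh_b h ht', nw_a h one_ne_zero,
      inv_one, one_smul, inv_inv]
  · simp only [LinearEquiv.mul_apply, map_smul, map_neg, hh_a' h ht, hh_b' h ht',
      nw_a' h one_ne_zero, one_smul]
  · simp only [LinearEquiv.mul_apply, map_smul, map_neg, hh_b h ht, hh_a h ht', nw_b h one_ne_zero,
      one_smul, smul_neg]
  · simp only [LinearEquiv.mul_apply, map_smul, map_neg, hh_b' h ht, hh_a' h ht',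
      nw_b' h one_ne_zero, inv_one, one_smul, smul_neg, inv_inv]
  · intro x h1 h2 h3 h4
    simp only [LinearEquiv.mul_apply, hh_perp h _ h1 h2 h3 h4, nw_perp h _ h1 h2 h3 h4]

theorem nw_nw : nw Q a a' b b' 1 * nw Q a a' b b' 1 = hh Q a a' b b' (-1) := by
  have hm : (-1 : F) ≠ 0 := by simp
  refine ext_frame_equiv h ?_ ?_ ?_ ?_ ?_
  · simp only [LinearEquiv.mul_apply, map_smul, map_neg, hh_a h hm, nw_a h one_ne_zero,
      nw_b h one_ne_zero, inv_one, one_smul, neg_smul]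
  · simp only [LinearEquiv.mul_apply, map_smul, map_neg, hh_a' h hm, nw_a' h one_ne_zero,
      nw_b' h one_ne_zero, inv_one, one_smul, neg_smul, inv_neg]
  · simp only [LinearEquiv.mul_apply, map_smul, map_neg, hh_b h hm, nw_a h one_ne_zero,
      nw_b h one_ne_zero, inv_one, one_smul, neg_smul, inv_neg]
  · simp only [LinearEquiv.mul_apply, map_smul, map_neg, hh_b' h hm, nw_a' h one_ne_zero,
      nw_b' h one_ne_zero, inv_one, one_smul, neg_smul]
  · intro x h1 h2 h3 h4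
    simp only [LinearEquiv.mul_apply, hh_perp h _ h1 h2 h3 h4, nw_perp h _ h1 h2 h3 h4]

theorem nw_xr_nw {s : F} (hs : s ≠ 0) :
    nw Q a a' b b' 1 * xr Q a b' s * nw Q a a' b b' 1 =
      xr Q a b' (-s⁻¹) * nw Q a a' b b' 1 * hh Q a a' b b' (-s) * xr Q a b' (-s⁻¹) := by
  have hm : -s ≠ 0 := neg_ne_zero.mpr hs
  refine ext_frame_equiv h ?_ ?_ ?_ ?_ ?_
  · simp only [LinearEquiv.mul_apply, map_smul, map_neg, map_add, map_sub, xr_a h, xr_b h,
      hh_a h hm, hh_b h hm, nw_a h one_ne_zero, nw_b h one_ne_zero, inv_one, one_smul]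
    match_scalars <;> (try field_simp) <;> (try ring)
  · simp only [LinearEquiv.mul_apply, map_smul, map_neg, map_add, map_sub, xr_a' h, xr_b' h,
      hh_a' h hm, hh_b' h hm, nw_a' h one_ne_zero, nw_b' h one_ne_zero, inv_one, one_smul]
    match_scalars <;> (try field_simp) <;> (try ring)
  · simp only [LinearEquiv.mul_apply, map_smul, map_neg, map_add, map_sub, xr_a h, xr_b h,
      hh_a h hm, hh_b h hm, nw_a h one_ne_zero, nw_b h one_ne_zero, inv_one, one_smul]
    match_scalars <;> (try field_simp) <;> (try ring)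
  · simp only [LinearEquiv.mul_apply, map_smul, map_neg, map_add, map_sub, xr_a' h, xr_b' h,
      hh_a' h hm, hh_b' h hm, nw_a' h one_ne_zero, nw_b' h one_ne_zero, inv_one, one_smul]
    match_scalars <;> (try field_simp) <;> (try ring)
  · intro x h1 h2 h3 h4
    simp only [LinearEquiv.mul_apply, hh_perp h _ h1 h2 h3 h4, nw_perp h _ h1 h2 h3 h4,
      xr_perp h.pa.qa h.pb.qa' h.ab' _ h1 h4]

end grp

section rep

variable {a a' b b' : V} {X : Type*} [AddCommGroup X] [Module ℂ X]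

/-- The `SL₂` relations for the operators of a representation of `T Q` attached to a hyperbolic
quadruple: `x s = ρ(x_{ab}(s))`, `n = ρ(n_{ab}(1))`, `h t = ρ(h_{ab}(t))`. -/
theorem sl2Rel_repE (ρ : Representation ℂ ↥(T Q) X) (h : HQuad Q a a' b b') :
    SL2Rel (fun s => repE Q ρ (xr Q a b' s)) (repE Q ρ (nw Q a a' b b' 1))
      (fun t => repE Q ρ (hh Q a a' b b' t)) := by
  have hx : ∀ s, xr Q a b' s ∈ T Q := fun s => xr_mem_T h.pa.qa h.pb.qa' h.ab' s
  have hn : nw Q a a' b b' 1 ∈ T Q := nw_mem_T h 1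
  have hh' : ∀ t, hh Q a a' b b' t ∈ T Q := fun t => hh_mem_T h t
  refine ⟨?_, ?_, ?_, ?_, ?_, ?_, ?_, ?_⟩
  · show repE Q ρ (xr Q a b' 0) = 1
    rw [xr_zero h, repE_one]
  · intro s t
    show repE Q ρ (xr Q a b' (s + t)) = repE Q ρ (xr Q a b' s) * repE Q ρ (xr Q a b' t)
    rw [xr_add h, repE_mul Q ρ (hx s) (hx t)]
  · show repE Q ρ (hh Q a a' b b' 1) = 1
    rw [hh_one, repE_one]
  · intro s t hs ht
    show repE Q ρ (hh Q a a' b b' (s * t)) = repE Q ρ (hh Q a a' b b' s) * repE Q ρ (hh Q a a' b b' t)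
    rw [hh_mul h hs ht, repE_mul Q ρ (hh' s) (hh' t)]
  · intro t s ht
    show repE Q ρ (hh Q a a' b b' t) * repE Q ρ (xr Q a b' s) =
      repE Q ρ (xr Q a b' (t ^ 2 * s)) * repE Q ρ (hh Q a a' b b' t)
    rw [← repE_mul Q ρ (hh' t) (hx s), ← repE_mul Q ρ (hx _) (hh' t), hh_xr h ht]
  · intro t ht
    show repE Q ρ (nw Q a a' b b' 1) * repE Q ρ (hh Q a a' b b' t) =
      repE Q ρ (hh Q a a' b b' t⁻¹) * repE Q ρ (nw Q a a' b b' 1)
    rw [← repE_mul Q ρ hn (hh' t), ← repE_mul Q ρ (hh' _) hn, nw_hh h ht]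
  · show repE Q ρ (nw Q a a' b b' 1) * repE Q ρ (nw Q a a' b b' 1) = repE Q ρ (hh Q a a' b b' (-1))
    rw [← repE_mul Q ρ hn hn, nw_nw h]
  · intro s hs
    show repE Q ρ (nw Q a a' b b' 1) * repE Q ρ (xr Q a b' s) * repE Q ρ (nw Q a a' b b' 1) =
      repE Q ρ (xr Q a b' (-s⁻¹)) * repE Q ρ (nw Q a a' b b' 1) * repE Q ρ (hh Q a a' b b' (-s)) *
        repE Q ρ (xr Q a b' (-s⁻¹))
    rw [← repE_mul Q ρ hn (hx s), ← repE_mul Q ρ (Subgroup.mul_mem _ hn (hx s)) hn,
      ← repE_mul Q ρ (hx _) hn, ← repE_mul Q ρ (Subgroup.mul_mem _ (hx _) hn) (hh' _),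
      ← repE_mul Q ρ (Subgroup.mul_mem _ (Subgroup.mul_mem _ (hx _) hn) (hh' _)) (hx _),
      nw_xr_nw h hs]

end rep

end Cfsg.Agent.Lib.Helper85_OO2_REL1
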