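import Mathlib
import Cfsg.Agent.Lib.Helper95_OPDefs
import Cfsg.Agent.Lib.Helper95_OPBasic
import Cfsg.Agent.Lib.Helper48_OODefs
import Cfsg.Agent.Lib.Helper87_OO2Defs
import Cfsg.Agent.Lib.Helper87_OO2Defs2
import Cfsg.Agent.Lib.Helper85_OO2_RankOne
import Cfsg.Agent.Lib.Helper85_OO2_LemK
import Cfsg.Agent.Lib.Helper85_OO2_ELT
import Cfsg.Agent.Lib.Helper85_OO2_REL1
import Cfsg.Agent.Lib.Helper12_OO2_HEIS
import Cfsg.Agent.Lib.Helper63_OP_HCOMM
import Cfsg.Agent.Lib.Helper89_OP_FIXGEO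
import Cfsg.Agent.Lib.Helper70_OP_COMMFIX

/-!
# S2344 package OO2-PSIB (cutter helper87): `K'` acts trivially on `Ψ_2`

`Psisp_fix_h12`: the torus elements `h_{v w0}(a)` act trivially on `Ψ_2 = F_2 ∩ [L'', F_2]`.

Route: `P = X^{U_Π}` is stable under `x1(s)` and `n1`; its `x1`-isotypic components of non-trivial
weight lie in the weight lines `X_{c w0}`, on which `L''` acts trivially; hence `[L'', P] = [L'', F_2]` is
`n1`-stable; it is fixed by `x1`; an abstract `SL₂` lemma (`h_fix_of_n_fix`) finishes.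
-/

set_option autoImplicit false
set_option linter.unusedSectionVars false
set_option linter.unusedVariables false
set_option linter.unusedSimpArgs false

namespace Cfsg.Agent.Lib.Helper3_OO2_PSIB

open Module Cfsg.Agent.Lib.Helper94_OrthSmall Cfsg.Agent.Lib.Helper44_QuadClass
  Cfsg.Agent.Lib.Helper14_OmegaSimple Cfsg.Agent.Lib.Helper38_MIODefs
  Cfsg.Agent.Lib.Helper95_OPDefs Cfsg.Agent.Lib.Helper95_OPBasic Cfsg.Agent.Lib.Helper48_OODefs
  Cfsg.Agent.Lib.Helper87_OO2Defs Cfsg.Agent.Lib.Helper85_OO2_RankOne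

/-! ## The abstract `SL₂` lemma -/

section abstract

variable {F : Type*} [Field F] [Fintype F] {M : Type*} [AddCommGroup M] [Module ℂ M]

/-- If `y` and `n y` are fixed by all `x s`, then `y` is fixed by `n` and by all `h t`. -/
theorem h_fix_of_n_fix {x : F → Module.End ℂ M} {n : Module.End ℂ M} {h : F → Module.End ℂ M}
    (R : SL2Rel x n h) {y : M} (hy : y ∈ fixX x) (hny : n y ∈ fixX x) (t : F) (ht : t ≠ 0) :
    h t y = y := by
  have hnn : ∀ w : M, n (n w) = h (-1) w := fun w => by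
    have := congrArg (fun f => f w) R.nn
    simpa only [Module.End.mul_apply] using this
  have hn4 : ∀ z : M, n (n (n (n z))) = z := by
    intro z
    have h1 := congrArg (fun f => f z) (h_neg_one_sq R)
    simp only [Module.End.mul_apply, Module.End.one_apply] at h1
    rw [hnn, hnn]
    exact h1
  have hninj : ∀ a b : M, n a = n b → a = b := by
    intro a b hab
    rw [← hn4 a, hab, hn4 b]
  have key : ∀ s : F, s ≠ 0 → h (-s) y = n y := by
    intro s hs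
    have h1 := congrArg (fun f => f y) (R.rel s hs)
    simp only [Module.End.mul_apply] at h1
    rw [hny s, hy (-s⁻¹)] at h1
    have h2 : x s⁻¹ (n (n y)) = n (h (-s) y) := by
      rw [h1, ← Module.End.mul_apply, ← R.x_add, add_neg_cancel, R.x_zero, Module.End.one_apply]
    have h3 : n (n y) ∈ fixX x := by
      rw [hnn]
      exact h_mem_fixX R (by simp) hy
    rw [h3 s⁻¹] at h2
    exact (hninj _ _ h2).symm
  have h1 : n y = y := by
    have := key (-1) (by simp)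
    rw [neg_neg, R.h_one, Module.End.one_apply] at this
    exact this.symm
  have := key (-t) (neg_ne_zero.mpr ht)
  rw [neg_neg, h1] at this
  exact this

end abstract

/-! ## Geometry -/

section geom

variable {F V : Type*} [Field F] [AddCommGroup V] [Module F V]
  {X : Type*} [AddCommGroup X] [Module ℂ X]

theorem repE_mul_apply (Q : QuadraticForm F V) (ρ : Representation ℂ ↥(T Q) X)
    {g k : V ≃ₗ[F] V} (hg : g ∈ T Q) (hk : k ∈ T Q) (x : X) :
    repE Q ρ (g * k) x = repE Q ρ g (repE Q ρ k x) := by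
  rw [repE_mul Q ρ hg hk, Module.End.mul_apply]

/-- Conjugating a fixing Siegel element. -/
theorem fix_conj (Q : QuadraticForm F V) (ρ : Representation ℂ ↥(T Q) X)
    {g : V ≃ₗ[F] V} (hg : g ∈ T Q) {u z : V} (hu : Q u = 0)
    (huz : QuadraticMap.polar (⇑Q) u z = 0) (hE : E Q u z ∈ T Q) (x : X)
    (hx : repE Q ρ (E Q (g⁻¹ u) (g⁻¹ z)) x = x) :
    repE Q ρ (E Q u z) (repE Q ρ g x) = repE Q ρ g x := by
  have hgi : g⁻¹ ∈ T Q := Subgroup.inv_mem _ hg
  have hc := conj_E Q (T_le_oG Q hgi) hu huz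
  rw [inv_inv] at hc
  have hE' : E Q (g⁻¹ u) (g⁻¹ z) ∈ T Q := by
    rw [← hc]
    exact Subgroup.mul_mem _ (Subgroup.mul_mem _ hgi hE) hg
  have h1 : E Q u z * g = g * E Q (g⁻¹ u) (g⁻¹ z) := by
    rw [← hc]
    group
  rw [← repE_mul_apply Q ρ hE hg, h1, repE_mul_apply Q ρ hg hE', hx]

/-- An element of `T Q` fixing `a` and `b` commutes with `E Q a b`. -/
theorem comm_of_fix (Q : QuadraticForm F V) (ρ : Representation ℂ ↥(T Q) X)
    {g : V ≃ₗ[F] V} (hg : g ∈ T Q) {a b : V} (ha : Q a = 0)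
    (hab : QuadraticMap.polar (⇑Q) a b = 0) (hE : E Q a b ∈ T Q) (hga : g a = a) (hgb : g b = b)
    (x : X) : repE Q ρ g (repE Q ρ (E Q a b) x) = repE Q ρ (E Q a b) (repE Q ρ g x) := by
  have hc := conj_E Q (T_le_oG Q hg) ha hab
  rw [hga, hgb, mul_inv_eq_iff_eq_mul] at hc
  rw [← repE_mul_apply Q ρ hg hE, hc, repE_mul_apply Q ρ hE hg]

theorem mem_W1 (Q : QuadraticForm F V) (v v' w0 w0' w : V) :
    w ∈ W1 Q v v' w0 w0' ↔ QuadraticMap.polar (⇑Q) v w = 0 ∧ QuadraticMap.polar (⇑Q) v' w = 0 ∧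
      QuadraticMap.polar (⇑Q) w0 w = 0 ∧ QuadraticMap.polar (⇑Q) w0' w = 0 := by
  unfold W1
  rw [Submodule.mem_inf, mem_perp, mem_perp]
  tauto

end geom

/-! ## The space `P = X^{U_Π}` -/

section psp

variable {F V : Type*} [Field F] [Fintype F] [AddCommGroup V] [Module F V] [FiniteDimensional F V]
  {X : Type*} [AddCommGroup X] [Module ℂ X]

/-- The frame facts used everywhere. -/
structure Ctx (Q : QuadraticForm F V) (v v' w0 w0' : V) : Prop where
  hQ : (QuadraticMap.polarBilin Q).Nondegenerate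
  hdim : 5 ≤ finrank F V
  h : HQuad Q v v' w0 w0'

variable {Q : QuadraticForm F V} {v v' w0 w0' : V}

theorem Ctx.E_mem (C : Ctx Q v v' w0 w0') {u z : V} (hu : Q u = 0)
    (huz : QuadraticMap.polar (⇑Q) u z = 0) : E Q u z ∈ T Q :=
  E_mem_T Q C.hQ C.hdim hu huz

theorem polar_v_of_mem_S (C : Ctx Q v v' w0 w0') {w : V}
    (hw : w ∈ W1 Q v v' w0 w0' ⊔ Submodule.span F {w0}) : QuadraticMap.polar (⇑Q) v w = 0 := by
  obtain ⟨w1, hw1, y, hy, rfl⟩ := Submodule.mem_sup.mp hw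
  obtain ⟨α, rfl⟩ := Submodule.mem_span_singleton.mp hy
  rw [QuadraticMap.polar_add_right, QuadraticMap.polar_smul_right, C.h.ab,
    ((mem_W1 Q v v' w0 w0' w1).mp hw1).1]
  simp

/-- `P` is stable under `n1`. -/
theorem Psp_n1 (C : Ctx Q v v' w0 w0') (ρ : Representation ℂ ↥(T Q) X) (x : X)
    (hx : x ∈ Psp Q ρ v v' w0 w0') :
    repE Q ρ (nw Q v v' w0 w0' 1) x ∈ Psp Q ρ v v' w0 w0' := by
  have h := C.h
  have hN : nw Q v v' w0 w0' 1 ∈ T Q := nw_mem_T h 1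
  obtain ⟨hx1, hx2⟩ := Submodule.mem_inf.mp hx
  rw [mem_fixE] at hx1 hx2
  have hw0v : QuadraticMap.polar (⇑Q) w0 v = 0 := Cfsg.Agent.Lib.Helper85_OO2_ELT.pol_ba h
  refine Submodule.mem_inf.mpr ⟨?_, ?_⟩
  · rw [mem_fixE]
    intro w hw
    have hvw := polar_v_of_mem_S C hw
    obtain ⟨w1, hw1, y, hy, rfl⟩ := Submodule.mem_sup.mp hw
    obtain ⟨α, rfl⟩ := Submodule.mem_span_singleton.mp hy
    obtain ⟨h1, h2, h3, h4⟩ := (mem_W1 Q v v' w0 w0' w1).mp hw1
    apply fix_conj Q ρ hN h.pa.qa hvw (C.E_mem h.pa.qa hvw)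
    have e1 : (nw Q v v' w0 w0' 1)⁻¹ v = -w0 := Cfsg.Agent.Lib.Helper85_OO2_ELT.nwinv_a h
    have e2 : (nw Q v v' w0 w0' 1)⁻¹ (w1 + α • w0) = w1 + α • v := by
      rw [map_add, map_smul, Cfsg.Agent.Lib.Helper85_OO2_ELT.nwinv_b h,
        Cfsg.Agent.Lib.Helper85_OO2_ELT.nwinv_perp h (by rw [QuadraticMap.polar_comm]; exact h1)
          (by rw [QuadraticMap.polar_comm]; exact h2) (by rw [QuadraticMap.polar_comm]; exact h3)
          (by rw [QuadraticMap.polar_comm]; exact h4)]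
    rw [e1, e2]
    -- `E (-w0) (w1 + α v) = E w0 (-w1) * E v (α w0)`
    have p1 : QuadraticMap.polar (⇑Q) w0 (w1 + α • v) = 0 := by
      rw [QuadraticMap.polar_add_right, QuadraticMap.polar_smul_right, h3, hw0v]; simp
    have p2 : QuadraticMap.polar (⇑Q) w0 (-w1) = 0 := by
      rw [QuadraticMap.polar_neg_right, h3, neg_zero]
    have p3 : QuadraticMap.polar (⇑Q) w0 ((-α) • v) = 0 := by
      rw [QuadraticMap.polar_smul_right, hw0v]; simp
    have p4 : QuadraticMap.polar (⇑Q) v (-w0) = 0 := by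
      rw [QuadraticMap.polar_neg_right, h.ab, neg_zero]
    have p5 : QuadraticMap.polar (⇑Q) v (α • w0) = 0 := by
      rw [QuadraticMap.polar_smul_right, h.ab]; simp
    have q1 : Q ((-α) • v) = 0 := by rw [QuadraticMap.map_smul, h.pa.qa]; simp
    have e3 : E Q (-w0) (w1 + α • v) = E Q w0 (-w1) * E Q v (α • w0) := by
      have a1 : E Q (-w0) (w1 + α • v) = E Q w0 ((-1 : F) • (w1 + α • v)) := by
        rw [← E_smul_left Q h.pb.qa p1 (-1)]
        simp
      have a2 : (-1 : F) • (w1 + α • v) = -w1 + (-α) • v := by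
        rw [smul_add, smul_smul]; simp
      have a3 : E Q w0 ((-α) • v) = E Q v (α • w0) := by
        rw [Cfsg.Agent.Lib.Helper12_OO2_HEIS.E_swap h.pb.qa q1 p3, E_smul_left Q h.pa.qa p4 (-α)]
        simp
      rw [a1, a2, ← E_mul Q h.pb.qa p2 p3, a3]
    rw [e3, repE_mul_apply Q ρ (C.E_mem h.pb.qa p2) (C.E_mem h.pa.qa p5),
      hx1 (α • w0) (Submodule.mem_sup_right (Submodule.smul_mem _ _ (Submodule.mem_span_singleton_self w0))),
      hx2 (-w1) (Submodule.neg_mem _ hw1)]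
  · rw [mem_fixE]
    intro w hw
    obtain ⟨h1, h2, h3, h4⟩ := (mem_W1 Q v v' w0 w0' w).mp hw
    apply fix_conj Q ρ hN h.pb.qa h3 (C.E_mem h.pb.qa h3)
    rw [Cfsg.Agent.Lib.Helper85_OO2_ELT.nwinv_b h,
      Cfsg.Agent.Lib.Helper85_OO2_ELT.nwinv_perp h (by rw [QuadraticMap.polar_comm]; exact h1)
        (by rw [QuadraticMap.polar_comm]; exact h2) (by rw [QuadraticMap.polar_comm]; exact h3)
        (by rw [QuadraticMap.polar_comm]; exact h4)]
    exact hx1 w (Submodule.mem_sup_left hw)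

/-- `P` is stable under `x1(s)`. -/
theorem Psp_x1 (C : Ctx Q v v' w0 w0') (ρ : Representation ℂ ↥(T Q) X) (s : F) (x : X)
    (hx : x ∈ Psp Q ρ v v' w0 w0') :
    repE Q ρ (xr Q v w0' s) x ∈ Psp Q ρ v v' w0 w0' := by
  have h := C.h
  have hg : xr Q v w0' s ∈ T Q := xr_mem_T h.pa.qa h.pb.qa' h.ab' s
  have hginv : (xr Q v w0' s)⁻¹ = xr Q v w0' (-s) := by
    rw [inv_eq_iff_mul_eq_one, ← Cfsg.Agent.Lib.Helper85_OO2_REL1.xr_add h, add_neg_cancel,
      Cfsg.Agent.Lib.Helper85_OO2_REL1.xr_zero h]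
  obtain ⟨hx1, hx2⟩ := Submodule.mem_inf.mp hx
  rw [mem_fixE] at hx1 hx2
  refine Submodule.mem_inf.mpr ⟨?_, ?_⟩
  · rw [mem_fixE]
    intro w hw
    have hvw := polar_v_of_mem_S C hw
    obtain ⟨w1, hw1, y, hy, rfl⟩ := Submodule.mem_sup.mp hw
    obtain ⟨α, rfl⟩ := Submodule.mem_span_singleton.mp hy
    obtain ⟨h1, h2, h3, h4⟩ := (mem_W1 Q v v' w0 w0' w1).mp hw1
    apply fix_conj Q ρ hg h.pa.qa hvw (C.E_mem h.pa.qa hvw)
    rw [hginv, Cfsg.Agent.Lib.Helper85_OO2_ELT.xr_a h, map_add, map_smul,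
      Cfsg.Agent.Lib.Helper85_OO2_ELT.xr_b h,
      Cfsg.Agent.Lib.Helper85_OO2_ELT.xr_perp h.pa.qa h.pb.qa' h.ab' (-s)
        (by rw [QuadraticMap.polar_comm]; exact h1) (by rw [QuadraticMap.polar_comm]; exact h4)]
    have e1 : w1 + α • (w0 - -s • v) = (w1 + α • w0) + (α * s) • v := by
      rw [smul_sub, smul_smul]
      simp only [mul_neg, neg_smul, sub_neg_eq_add]
      abel
    rw [e1, E_add_smul Q h.pa.qa hvw]
    exact hx1 _ hw
  · rw [mem_fixE]
    intro w hw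
    obtain ⟨h1, h2, h3, h4⟩ := (mem_W1 Q v v' w0 w0' w).mp hw
    apply fix_conj Q ρ hg h.pb.qa h3 (C.E_mem h.pb.qa h3)
    rw [hginv, Cfsg.Agent.Lib.Helper85_OO2_ELT.xr_b h,
      Cfsg.Agent.Lib.Helper85_OO2_ELT.xr_perp h.pa.qa h.pb.qa' h.ab' (-s)
        (by rw [QuadraticMap.polar_comm]; exact h1) (by rw [QuadraticMap.polar_comm]; exact h4)]
    have e1 : w0 - -s • v = w0 + s • v := by rw [neg_smul, sub_neg_eq_add]
    rw [e1, Cfsg.Agent.Lib.Helper12_OO2_HEIS.E_add_left h.pa.qa h.pb.qa h.ab h1 h3 s]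
    have p1 : QuadraticMap.polar (⇑Q) v (s • w) = 0 := by
      rw [QuadraticMap.polar_smul_right, h1]; simp
    have p2 : QuadraticMap.polar (⇑Q) v ((s * Q w) • w0) = 0 := by
      rw [QuadraticMap.polar_smul_right, h.ab]; simp
    rw [repE_mul_apply Q ρ (Subgroup.mul_mem _ (C.E_mem h.pb.qa h3) (C.E_mem h.pa.qa p1))
        (C.E_mem h.pa.qa p2),
      repE_mul_apply Q ρ (C.E_mem h.pb.qa h3) (C.E_mem h.pa.qa p1),
      hx1 _ (Submodule.mem_sup_right (Submodule.smul_mem _ _ (Submodule.mem_span_singleton_self w0))),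
      hx1 _ (Submodule.mem_sup_left (Submodule.smul_mem _ _ hw)), hx2 w hw]

/-- Decomposition of `w ∈ W` along `W = W_1 + F w0 + F w0'`. -/
theorem perp_decomp (C : Ctx Q v v' w0 w0') {w : V} (hw : w ∈ perp Q v v') :
    ∃ w1 ∈ W1 Q v v' w0 w0',
      w = (w1 + QuadraticMap.polar (⇑Q) w0' w • w0) + QuadraticMap.polar (⇑Q) w0 w • w0' := by
  have h := C.h
  obtain ⟨hv, hv'⟩ := (mem_perp Q v v').mp hw
  refine ⟨w - QuadraticMap.polar (⇑Q) w0' w • w0 - QuadraticMap.polar (⇑Q) w0 w • w0', ?_, by abel⟩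
  rw [mem_W1]
  refine ⟨?_, ?_, ?_, ?_⟩
  · simp only [QuadraticMap.polar_sub_right, QuadraticMap.polar_smul_right, hv, h.ab, h.ab',
      smul_eq_mul, mul_zero, sub_zero]
  · simp only [QuadraticMap.polar_sub_right, QuadraticMap.polar_smul_right, hv', h.a'b, h.a'b',
      smul_eq_mul, mul_zero, sub_zero]
  · simp only [QuadraticMap.polar_sub_right, QuadraticMap.polar_smul_right,
      Cfsg.Agent.Lib.Helper85_OO2_ELT.pol_bb h, h.pb.aa', smul_eq_mul, mul_zero, sub_zero, mul_one,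
      sub_self]
  · simp only [QuadraticMap.polar_sub_right, QuadraticMap.polar_smul_right,
      Cfsg.Agent.Lib.Helper85_OO2_ELT.pol_b'b h, Cfsg.Agent.Lib.Helper85_OO2_ELT.pol_b'b' h,
      smul_eq_mul, mul_zero, sub_zero, mul_one, sub_self]

/-- A vector of `P` on which `x1(s)` acts by `χ s` is an eigenvector of every `E(v,w)`, `w ∈ W`, with
eigenvalue `χ (B(w0,w))`. -/
theorem Psp_eig (C : Ctx Q v v' w0 w0') (ρ : Representation ℂ ↥(T Q) X) (χ : F → ℂ) (x : X)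
    (hx : x ∈ Psp Q ρ v v' w0 w0') (he : ∀ s : F, repE Q ρ (xr Q v w0' s) x = χ s • x)
    {w : V} (hw : w ∈ perp Q v v') :
    repE Q ρ (E Q v w) x = χ (QuadraticMap.polar (⇑Q) w0 w) • x := by
  have h := C.h
  obtain ⟨hx1, hx2⟩ := Submodule.mem_inf.mp hx
  rw [mem_fixE] at hx1
  obtain ⟨w1, hw1, hdec⟩ := perp_decomp C hw
  obtain ⟨h1, h2, h3, h4⟩ := (mem_W1 Q v v' w0 w0' w1).mp hw1
  have hS : w1 + QuadraticMap.polar (⇑Q) w0' w • w0 ∈
      W1 Q v v' w0 w0' ⊔ Submodule.span F {w0} :=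
    Submodule.add_mem _ (Submodule.mem_sup_left hw1)
      (Submodule.mem_sup_right (Submodule.smul_mem _ _ (Submodule.mem_span_singleton_self w0)))
  have p1 := polar_v_of_mem_S C hS
  have p2 : QuadraticMap.polar (⇑Q) v (QuadraticMap.polar (⇑Q) w0 w • w0') = 0 := by
    rw [QuadraticMap.polar_smul_right, h.ab']; simp
  have e1 : E Q v w = E Q v (w1 + QuadraticMap.polar (⇑Q) w0' w • w0) *
      xr Q v w0' (QuadraticMap.polar (⇑Q) w0 w) := by
    unfold xr
    rw [E_mul Q h.pa.qa p1 p2, ← hdec]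
  rw [e1, repE_mul_apply Q ρ (C.E_mem h.pa.qa p1) (xr_mem_T h.pa.qa h.pb.qa' h.ab' _), he,
    map_smul, hx1 _ hS]

/-- `P ∩ fix(x1) ≤ F_2`. -/
theorem Psp_fix_le_F2 (C : Ctx Q v v' w0 w0') (ρ : Representation ℂ ↥(T Q) X) (x : X)
    (hx : x ∈ Psp Q ρ v v' w0 w0') (he : ∀ s : F, repE Q ρ (xr Q v w0' s) x = x) :
    x ∈ F2sp Q ρ v v' w0 w0' := by
  refine Submodule.mem_inf.mpr ⟨?_, (Submodule.mem_inf.mp hx).2⟩
  rw [mem_fixE]
  intro w hw
  have := Psp_eig C ρ (fun _ => 1) x hx (fun s => by rw [he s, one_smul]) hw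
  rw [this, one_smul]

/-- `F_2 ≤ P`. -/
theorem F2_le_Psp (C : Ctx Q v v' w0 w0') (ρ : Representation ℂ ↥(T Q) X) :
    F2sp Q ρ v v' w0 w0' ≤ Psp Q ρ v v' w0 w0' := by
  intro x hx
  obtain ⟨hx1, hx2⟩ := Submodule.mem_inf.mp hx
  refine Submodule.mem_inf.mpr ⟨?_, hx2⟩
  rw [mem_fixE] at hx1 ⊢
  intro w hw
  apply hx1
  obtain ⟨w1, hw1, y, hy, rfl⟩ := Submodule.mem_sup.mp hw
  obtain ⟨α, rfl⟩ := Submodule.mem_span_singleton.mp hy
  exact Submodule.add_mem _ (Submodule.mem_inf.mp hw1).1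
    (Submodule.smul_mem _ _ (HQuad.mem_perp Q C.h).1)

/-- `F_2` is fixed by `x1(s)`. -/
theorem F2_fix_x1 (C : Ctx Q v v' w0 w0') (ρ : Representation ℂ ↥(T Q) X) (x : X)
    (hx : x ∈ F2sp Q ρ v v' w0 w0') (s : F) : repE Q ρ (xr Q v w0' s) x = x := by
  obtain ⟨hx1, -⟩ := Submodule.mem_inf.mp hx
  rw [mem_fixE] at hx1
  exact hx1 _ (Submodule.smul_mem _ _ (HQuad.mem_perp Q C.h).2)

end psp

/-! ## The weight lines `X_{c w0}` and the main theorem -/

section main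

variable {F V : Type*} [Field F] [Fintype F] [AddCommGroup V] [Module F V] [FiniteDimensional F V]
  {X : Type*} [AddCommGroup X] [Module ℂ X] [FiniteDimensional ℂ X]

/-- The long root elements of `L''` act trivially on the weight line `X_{c w0}`, `c ≠ 0`. -/
theorem line_fix (Q : QuadraticForm F V) (n : ℕ) (hn : 3 ≤ n) (hq : 4 ≤ Fintype.card F)
    (hP : IsOddT Q n) {v v' w0 w0' : V} (h : HQuad Q v v' w0 w0')
    (ρ : Representation ℂ ↥(T Q) X) (ψ : AddChar F ℂ)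
    (f : ℕ) (hW : WData Q ρ ψ v v' 1 f) (c : F) (hc : c ≠ 0) (z : X)
    (hz : ∀ w ∈ perp Q v v',
      repE Q ρ (E Q v w) z = ψ (c * QuadraticMap.polar (⇑Q) w0 w) • z)
    (a b : V) (ha : a ∈ W1 Q v v' w0 w0') (hb : b ∈ W1 Q v v' w0 w0') (hQa : Q a = 0)
    (hQb : Q b = 0) (hab : QuadraticMap.polar (⇑Q) a b = 0) :
    repE Q ρ (E Q a b) z = z := by
  have hQ := hP.nondeg
  have hdimV : finrank F V = 2 * n + 1 := hP.dim
  have hdim5 : 5 ≤ finrank F V := by omega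
  have hdim7 : 7 ≤ finrank F V := by omega
  have hcomm := Cfsg.Agent.Lib.Helper63_OP_HCOMM.comm_oG_le_T Q hQ hdim5
  have hu : c • w0 ∈ perp Q v v' := Submodule.smul_mem _ _ (HQuad.mem_perp Q h).1
  have hQu : Q (c • w0) = 0 := by rw [QuadraticMap.map_smul, h.pb.qa]; simp
  have hw00 : w0 ≠ 0 := by
    intro h0
    have := h.pb.aa'
    rw [h0] at this
    simp at this
  have hu0 : (⟨c • w0, hu⟩ : ↥(perp Q v v')) ≠ 0 := by
    intro h0
    have := congrArg Subtype.val h0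
    simp only [ZeroMemClass.coe_zero, smul_eq_zero] at this
    rcases this with h1 | h1
    · exact hc h1
    · exact hw00 h1
  have h1 : finrank ℂ (wsp Q ρ ψ v v' ⟨c • w0, hu⟩) = 1 := hW.he _ hu0 hQu
  have hzw : z ∈ wsp Q ρ ψ v v' ⟨c • w0, hu⟩ := by
    rw [mem_wsp]
    intro w
    rw [hz w w.2]
    show _ = ψ (QuadraticMap.polar (⇑Q) (c • w0) (w : V)) • z
    rw [QuadraticMap.polar_smul_left, smul_eq_mul]
  obtain ⟨a1, a2, a3, a4⟩ := (mem_W1 Q v v' w0 w0' a).mp ha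
  obtain ⟨b1, b2, b3, b4⟩ := (mem_W1 Q v v' w0 w0' b).mp hb
  obtain ⟨g₁, g₂, hg₁, hg₂, h1v, h1v', h1u, h2v, h2v', h2u, hE⟩ :=
    Cfsg.Agent.Lib.Helper89_OP_FIXGEO.exists_comm_fix Q hQ hdim7 hcomm hq h.pa.qa h.pa.qa' h.pa.aa'
      a b (c • w0) (Submodule.mem_inf.mp ha).1 (Submodule.mem_inf.mp hb).1 hu hQa hQb hab hQu
      (by rw [QuadraticMap.polar_smul_left, a3]; simp)
      (by rw [QuadraticMap.polar_smul_left, b3]; simp)
  rw [hE]
  exact Cfsg.Agent.Lib.Helper70_OP_COMMFIX.comm_fix Q hQ hdim5 h.pa.qa h.pa.qa' h.pa.aa' ρ ψ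
    ⟨c • w0, hu⟩ h1 g₁ g₂ hg₁ hg₂ h1v h1v' h1u h2v h2v' h2u z hzw

/-! ## OO2-PSIB (L): `K'` acts trivially on `Ψ_2` -/
theorem Psisp_fix_h12 (Q : QuadraticForm F V) (n : ℕ) (hn : 3 ≤ n) (hq : 4 ≤ Fintype.card F)
    (hP : IsOddT Q n) {v v' w0 w0' : V} (h : HQuad Q v v' w0 w0') [DecidableEq ↥(perp Q v v')]
    (ρ : Representation ℂ ↥(T Q) X) (ψ : AddChar F ℂ) (hψ : ψ ≠ 1)
    (hint : DirectSum.IsInternal (fun u : ↥(perp Q v v') => wsp Q ρ ψ v v' u))
    (f : ℕ) (hW : WData Q ρ ψ v v' 1 f) (a : F) (ha : a ≠ 0) (x : X)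
    (hx : x ∈ Psisp Q ρ v v' w0 w0') : repE Q ρ (hh Q v v' w0 w0' a) x = x := by
  have hQ := hP.nondeg
  have hdimV : finrank F V = 2 * n + 1 := hP.dim
  have hdim5 : 5 ≤ finrank F V := by omega
  have C : Ctx Q v v' w0 w0' := ⟨hQ, hdim5, h⟩
  have hψp : ψ.IsPrimitive := AddChar.IsPrimitive.of_ne_one hψ
  have hqC : (Fintype.card F : ℂ) ≠ 0 := Nat.cast_ne_zero.mpr Fintype.card_ne_zero
  have hN : nw Q v v' w0 w0' 1 ∈ T Q := nw_mem_T h 1
  have hxs : ∀ s, xr Q v w0' s ∈ T Q := fun s => xr_mem_T h.pa.qa h.pb.qa' h.ab' s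
  have R := Cfsg.Agent.Lib.Helper85_OO2_REL1.sl2Rel_repE ρ h
  -- the key inclusion `[L'', P] ≤ [L'', F_2]`
  have key : ∀ m ∈ Psp Q ρ v v' w0 w0', ∀ a ∈ W1 Q v v' w0 w0', ∀ b ∈ W1 Q v v' w0 w0',
      Q a = 0 → Q b = 0 → QuadraticMap.polar (⇑Q) a b = 0 →
      repE Q ρ (E Q a b) m - m ∈
        augL Q ρ (W1 Q v v' w0 w0') (F2sp Q ρ v v' w0 w0') := by
    intro m hm a ha b hb hQa hQb hab
    have hsum : ∑ c, eop ψ (fun s => repE Q ρ (xr Q v w0' s)) c m = m := by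
      have := congrArg (fun g => g m) (sum_eop (x := fun s => repE Q ρ (xr Q v w0' s)) hψp R.x_zero hqC)
      simpa [LinearMap.sum_apply] using this
    have hmemP : ∀ c, eop ψ (fun s => repE Q ρ (xr Q v w0' s)) c m ∈ Psp Q ρ v v' w0 w0' := by
      intro c
      rw [eop_apply]
      exact Submodule.smul_mem _ _ (Submodule.sum_mem _ fun s _ =>
        Submodule.smul_mem _ _ (Psp_x1 C ρ s m hm))
    have hfixc : ∀ c, c ≠ 0 → repE Q ρ (E Q a b)
        (eop ψ (fun s => repE Q ρ (xr Q v w0' s)) c m) =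
        eop ψ (fun s => repE Q ρ (xr Q v w0' s)) c m := by
      intro c hc
      apply line_fix Q n hn hq hP h ρ ψ f hW c hc _ _ a b ha hb hQa hQb hab
      intro w hw
      exact Psp_eig C ρ (fun s => ψ (c * s)) _ (hmemP c)
        (fun s => x_eop_apply (x := fun s => repE Q ρ (xr Q v w0' s)) ψ R.x_add c s m) hw
    have h0 : eop ψ (fun s => repE Q ρ (xr Q v w0' s)) 0 m ∈ F2sp Q ρ v v' w0 w0' :=
      Psp_fix_le_F2 C ρ _ (hmemP 0) (fun s => eop_zero_mem_fixX (x := fun s => repE Q ρ (xr Q v w0' s)) ψ R.x_add m s)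
    have hcalc : repE Q ρ (E Q a b) m - m =
        repE Q ρ (E Q a b) (eop ψ (fun s => repE Q ρ (xr Q v w0' s)) 0 m) -
          eop ψ (fun s => repE Q ρ (xr Q v w0' s)) 0 m := by
      calc repE Q ρ (E Q a b) m - m = (repE Q ρ (E Q a b) - 1) m := by simp
        _ = (repE Q ρ (E Q a b) - 1)
            (∑ c, eop ψ (fun s => repE Q ρ (xr Q v w0' s)) c m) := by rw [hsum]
        _ = ∑ c, (repE Q ρ (E Q a b) - 1)
            (eop ψ (fun s => repE Q ρ (xr Q v w0' s)) c m) := map_sum _ _ _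
        _ = (repE Q ρ (E Q a b) - 1) (eop ψ (fun s => repE Q ρ (xr Q v w0' s)) 0 m) := by
            apply Finset.sum_eq_single (0 : F)
            · intro c _ hc
              rw [LinearMap.sub_apply, hfixc c hc]
              simp
            · intro h'
              exact absurd (Finset.mem_univ _) h'
        _ = _ := by simp
    rw [hcalc]
    exact Submodule.subset_span ⟨a, ha, b, hb, hQa, hQb, hab, _, h0, rfl⟩
  -- `[L'', F_2]` is `n1`-stable
  have hn1 : ∀ y ∈ augL Q ρ (W1 Q v v' w0 w0') (F2sp Q ρ v v' w0 w0'),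
      repE Q ρ (nw Q v v' w0 w0' 1) y ∈
        augL Q ρ (W1 Q v v' w0 w0') (F2sp Q ρ v v' w0 w0') := by
    intro y hy
    unfold augL at hy
    induction hy using Submodule.span_induction with
    | mem y hy =>
      obtain ⟨a, ha, b, hb, hQa, hQb, hab, m, hm, rfl⟩ := hy
      obtain ⟨a1, a2, a3, a4⟩ := (mem_W1 Q v v' w0 w0' a).mp ha
      obtain ⟨b1, b2, b3, b4⟩ := (mem_W1 Q v v' w0 w0' b).mp hb
      have hna : nw Q v v' w0 w0' 1 a = a :=
        Cfsg.Agent.Lib.Helper85_OO2_ELT.nw_perp h 1 (by rw [QuadraticMap.polar_comm]; exact a1)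
          (by rw [QuadraticMap.polar_comm]; exact a2) (by rw [QuadraticMap.polar_comm]; exact a3)
          (by rw [QuadraticMap.polar_comm]; exact a4)
      have hnb : nw Q v v' w0 w0' 1 b = b :=
        Cfsg.Agent.Lib.Helper85_OO2_ELT.nw_perp h 1 (by rw [QuadraticMap.polar_comm]; exact b1)
          (by rw [QuadraticMap.polar_comm]; exact b2) (by rw [QuadraticMap.polar_comm]; exact b3)
          (by rw [QuadraticMap.polar_comm]; exact b4)
      rw [map_sub, comm_of_fix Q ρ hN hQa hab (C.E_mem hQa hab) hna hnb m]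
      exact key _ (Psp_n1 C ρ m (F2_le_Psp C ρ hm)) a ha b hb hQa hQb hab
    | zero => rw [map_zero]; exact Submodule.zero_mem _
    | add y z _ _ hy hz => rw [map_add]; exact Submodule.add_mem _ hy hz
    | smul c y _ hy => rw [map_smul]; exact Submodule.smul_mem _ _ hy
  -- `[L'', F_2]` is fixed by `x1`
  have hfx : ∀ y ∈ augL Q ρ (W1 Q v v' w0 w0') (F2sp Q ρ v v' w0 w0'), ∀ s : F,
      repE Q ρ (xr Q v w0' s) y = y := by
    intro y hy s
    unfold augL at hy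
    induction hy using Submodule.span_induction with
    | mem y hy =>
      obtain ⟨a, ha, b, hb, hQa, hQb, hab, m, hm, rfl⟩ := hy
      obtain ⟨a1, a2, a3, a4⟩ := (mem_W1 Q v v' w0 w0' a).mp ha
      obtain ⟨b1, b2, b3, b4⟩ := (mem_W1 Q v v' w0 w0' b).mp hb
      have hxa : xr Q v w0' s a = a :=
        Cfsg.Agent.Lib.Helper85_OO2_ELT.xr_perp h.pa.qa h.pb.qa' h.ab' s
          (by rw [QuadraticMap.polar_comm]; exact a1) (by rw [QuadraticMap.polar_comm]; exact a4)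
      have hxb : xr Q v w0' s b = b :=
        Cfsg.Agent.Lib.Helper85_OO2_ELT.xr_perp h.pa.qa h.pb.qa' h.ab' s
          (by rw [QuadraticMap.polar_comm]; exact b1) (by rw [QuadraticMap.polar_comm]; exact b4)
      rw [map_sub, comm_of_fix Q ρ (hxs s) hQa hab (C.E_mem hQa hab) hxa hxb m,
        F2_fix_x1 C ρ m hm s]
    | zero => rw [map_zero]
    | add y z _ _ hy hz => rw [map_add, hy, hz]
    | smul c y _ hy => rw [map_smul, hy]
  obtain ⟨hxF, hxA⟩ := Submodule.mem_inf.mp hx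
  exact h_fix_of_n_fix R (y := x) (fun s => F2_fix_x1 C ρ x hxF s)
    (fun s => hfx _ (hn1 x hxA) s) a ha

end main

end Cfsg.Agent.Lib.Helper3_OO2_PSIB
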