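import Mathlib
import Cfsg.Agent.Lib.Helper97_OX3Defs
import Cfsg.Agent.Lib.Helper94_OrthVec

set_option autoImplicit false
set_option linter.unusedSectionVars false
set_option linter.unusedVariables false

/-!
# OEXT3 package DUALB (architect helper97): trace-dual bases of `K` over `F`, with `∑ bᵢ b'ᵢ = 1`.
(helper3)
-/

namespace Cfsg.Agent.Lib.Helper3_OX3_DUALB

open Module Cfsg.Agent.Lib.Helper94_OrthSmall Cfsg.Agent.Lib.Helper94_OrthSiegel
  Cfsg.Agent.Lib.Helper98_ExtDefs Cfsg.Agent.Lib.Helper97_OX2Defs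
  Cfsg.Agent.Lib.Helper97_OX3Defs
open scoped commutatorElement

variable {F K V : Type*} [Field F] [Field K] [Algebra F K] [AddCommGroup V] [Module F V]
  [Module K V] [IsScalarTower F K V]
variable {τ : K →ₗ[F] F} {QK : V → K} {BK : LinearMap.BilinForm K V}
variable [Finite F] [Finite K] [Module.Finite F V] [Module.Finite K V]

/-- DUALB: trace-dual bases of `K` over `F`, with `∑ bᵢ b'ᵢ = 1` -/
theorem exists_dual_bases (C : Ctx3 τ QK BK) :
    ∃ b b' : Fin 3 → K, (∀ i j, τ (b i * b' j) = if i = j then 1 else 0) ∧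
      (∀ k : K, k = ∑ i, τ (k * b' i) • b i) ∧ (∀ k : K, k = ∑ i, τ (k * b i) • b' i) ∧
      ∑ i, b i * b' i = 1 := by
  classical
  have := C.finiteDimensional
  have : Algebra.IsSeparable F K := Algebra.IsAlgebraic.isSeparable_of_perfectField
  have hT := traceForm_nondegenerate F K
  obtain ⟨b, hb⟩ : ∃ b : Basis (Fin 3) F K, b = Module.finBasisOfFinrankEq F K C.hdim := ⟨_, rfl⟩
  obtain ⟨b', hb'⟩ : ∃ b' : Basis (Fin 3) F K, b' = (Algebra.traceForm F K).dualBasis hT b :=
    ⟨_, rfl⟩
  -- (1)
  have h1 : ∀ i j, τ (b i * b' j) = if i = j then 1 else 0 := by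
    intro i j
    have := LinearMap.BilinForm.apply_dualBasis_left hT b j i
    rw [Algebra.traceForm_apply, ← hb'] at this
    rw [C.hτ, mul_comm]
    exact this
  -- coordinates with respect to `b`
  have hrepr : ∀ (k : K) (i : Fin 3), τ (k * b' i) = b.repr k i := by
    intro k i
    conv_lhs => rw [← b.sum_repr k]
    rw [Finset.sum_mul, map_sum]
    have : ∀ j ∈ (Finset.univ : Finset (Fin 3)), τ ((b.repr k j • b j) * b' i) =
        if j = i then b.repr k j else 0 := by
      intro j _
      rw [smul_mul_assoc, map_smul, h1, smul_eq_mul]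
      split_ifs <;> simp
    rw [Finset.sum_congr rfl this, Finset.sum_ite_eq' Finset.univ i]
    simp
  -- coordinates with respect to `b'`
  have hrepr' : ∀ (k : K) (i : Fin 3), τ (k * b i) = b'.repr k i := by
    intro k i
    rw [hb', LinearMap.BilinForm.dualBasis_repr_apply, Algebra.traceForm_apply, C.hτ]
  refine ⟨b, b', h1, ?_, ?_, ?_⟩
  · intro k
    conv_lhs => rw [← b.sum_repr k]
    exact Finset.sum_congr rfl (fun i _ => by rw [hrepr])
  · intro k
    conv_lhs => rw [← b'.sum_repr k]
    exact Finset.sum_congr rfl (fun i _ => by rw [hrepr'])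
  · -- `∑ bᵢ b'ᵢ = 1`
    have hz : (∑ i, b i * b' i) - 1 = 0 := by
      apply C.eq_zero_of_tau_mul
      intro k'
      rw [mul_sub, mul_one, map_sub, Finset.mul_sum, map_sum]
      have h2 : ∀ i ∈ (Finset.univ : Finset (Fin 3)), τ (k' * (b i * b' i)) =
          Algebra.leftMulMatrix b k' i i := by
        intro i _
        rw [← mul_assoc, hrepr, Algebra.leftMulMatrix_eq_repr_mul]
      rw [Finset.sum_congr rfl h2, C.hτ k', Algebra.trace_eq_matrix_trace b k', Matrix.trace]
      simp [Matrix.diag]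
    exact sub_eq_zero.1 hz

end Cfsg.Agent.Lib.Helper3_OX3_DUALB
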