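import Mathlib
import Cfsg.Agent.Lib.Helper97_OX3Defs
import Cfsg.Agent.Lib.Helper94_OrthVec

set_option autoImplicit false
set_option linter.unusedSectionVars false
set_option linter.unusedVariables false

/-!
# OEXT3 package NMAP3 (architect helper97): the nilpotent part `N_κ = nmap F BK κ u w` of the
`K`-Siegel elements of a totally singular `K`-line.  (helper3; self-contained, no frame needed)
-/

namespace Cfsg.Agent.Lib.Helper3_OX3_NMAP3

open Module Cfsg.Agent.Lib.Helper94_OrthSmall Cfsg.Agent.Lib.Helper94_OrthSiegel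
  Cfsg.Agent.Lib.Helper98_ExtDefs Cfsg.Agent.Lib.Helper97_OX2Defs
  Cfsg.Agent.Lib.Helper97_OX3Defs
open scoped commutatorElement

variable {F K V : Type*} [Field F] [Field K] [Algebra F K] [AddCommGroup V] [Module F V]
  [Module K V] [IsScalarTower F K V]
variable {τ : K →ₗ[F] F} {QK : V → K} {BK : LinearMap.BilinForm K V}
variable [Finite F] [Finite K] [Module.Finite F V] [Module.Finite K V]

/-- the `K`-orthogonal of a totally singular pair is its span, and the pairing with the pair is
onto `K × K` -/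
theorem pair_perp (C : Ctx3 τ QK BK) {u w : V} (h : TSPair QK BK u w) :
    (∀ x : V, BK x u = 0 → BK x w = 0 → ∃ a b : K, x = a • u + b • w) ∧
    (∀ α β : K, ∃ x : V, BK x u = α ∧ BK x w = β) := by
  obtain ⟨hu, hw, huw, hind⟩ := h
  have huu : BK u u = 0 := by rw [C.BK_self, hu, mul_zero]
  have hww : BK w w = 0 := by rw [C.BK_self, hw, mul_zero]
  have hwu : BK w u = 0 := by rw [C.BK_symm, huw]
  obtain ⟨W, hW⟩ : ∃ W : Submodule K V, W = Submodule.span K {u, w} := ⟨_, rfl⟩
  -- `dim W = 2`
  have hli : LinearIndependent K ![u, w] := LinearIndependent.pair_iff.2 hind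
  have hW2 : finrank K W = 2 := by
    have := finrank_span_eq_card hli
    rw [Matrix.range_cons, Matrix.range_cons, Matrix.range_empty, Set.union_empty,
      Set.singleton_union] at this
    rw [hW, this]
    simp
  -- the pairing
  obtain ⟨φ, hφ⟩ : ∃ φ : V →ₗ[K] K × K, φ = (BK.flip u).prod (BK.flip w) := ⟨_, rfl⟩
  have hφx : ∀ x, φ x = (BK x u, BK x w) := by
    intro x
    rw [hφ]
    simp [LinearMap.prod_apply]
  -- `ker φ = W^⊥`
  have hker : LinearMap.ker φ = BK.orthogonal W := by
    ext x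
    rw [LinearMap.mem_ker, hφx, LinearMap.BilinForm.mem_orthogonal_iff, Prod.mk_eq_zero]
    constructor
    · rintro ⟨h1, h2⟩ n hn
      have hle : W ≤ LinearMap.ker (BK.flip x) := by
        rw [hW, Submodule.span_le]
        intro y hy
        rcases hy with rfl | hy
        · rw [SetLike.mem_coe, LinearMap.mem_ker, LinearMap.BilinForm.flip_apply, C.BK_symm]
          exact h1
        · rw [Set.mem_singleton_iff] at hy
          rw [hy, SetLike.mem_coe, LinearMap.mem_ker, LinearMap.BilinForm.flip_apply, C.BK_symm]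
          exact h2
      have := hle hn
      rwa [LinearMap.mem_ker, LinearMap.BilinForm.flip_apply] at this
    · intro hx
      have h1 := hx u (by rw [hW]; exact Submodule.subset_span (by simp))
      have h2 := hx w (by rw [hW]; exact Submodule.subset_span (by simp))
      rw [C.BK_symm] at h1 h2
      exact ⟨h1, h2⟩
  have hkdim : finrank K (LinearMap.ker φ) = 2 := by
    rw [hker, LinearMap.BilinForm.finrank_orthogonal C.hN, C.hm, hW2]
  -- `W ≤ ker φ`
  have hWle : W ≤ LinearMap.ker φ := by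
    rw [hW, Submodule.span_le]
    intro y hy
    rcases hy with rfl | hy
    · rw [SetLike.mem_coe, LinearMap.mem_ker, hφx, huu, huw]
      rfl
    · rw [Set.mem_singleton_iff] at hy
      rw [hy, SetLike.mem_coe, LinearMap.mem_ker, hφx, hwu, hww]
      rfl
  have hWeq : W = LinearMap.ker φ :=
    Submodule.eq_of_le_of_finrank_eq hWle (by rw [hW2, hkdim])
  constructor
  · intro x h1 h2
    have hx : x ∈ W := by
      rw [hWeq, LinearMap.mem_ker, hφx, h1, h2]
      rfl
    rw [hW, Submodule.mem_span_pair] at hx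
    obtain ⟨a, b, hab⟩ := hx
    exact ⟨a, b, hab.symm⟩
  · -- surjectivity
    have hr := LinearMap.finrank_range_add_finrank_ker φ
    rw [hkdim, C.hm] at hr
    have hr2 : finrank K (LinearMap.range φ) = finrank K (K × K) := by
      rw [Module.finrank_prod, Module.finrank_self]
      omega
    have htop : LinearMap.range φ = ⊤ := Submodule.eq_top_of_finrank_eq hr2
    intro α β
    have : (α, β) ∈ LinearMap.range φ := by rw [htop]; trivial
    obtain ⟨x, hx⟩ := this
    rw [hφx, Prod.mk.injEq] at hx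
    exact ⟨x, hx.1, hx.2⟩

/-- NMAP3: the nilpotent part `N_κ = nmap F BK κ u w` of the `K`-Siegel elements of the totally
singular `K`-line `L = K u + K w` -/
theorem nmap_props3 (C : Ctx3 τ QK BK) {u w : V} (h : TSPair QK BK u w) (κ : K) :
    (∀ x y, trB τ BK (nmap F BK κ u w x) y = -trB τ BK x (nmap F BK κ u w y)) ∧
    (∀ x, nmap F BK κ u w x ∈ kln F (K := K) u w) ∧
    (∀ x ∈ kln F (K := K) u w, nmap F BK κ u w x = 0) ∧
    (κ ≠ 0 → ∀ x, nmap F BK κ u w x = 0 → x ∈ kln F (K := K) u w) ∧
    (κ ≠ 0 → ∀ z ∈ kln F (K := K) u w, ∃ x, nmap F BK κ u w x = z) := by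
  obtain ⟨hperp, hsurj⟩ := pair_perp C h
  obtain ⟨hu, hw, huw, hind⟩ := h
  have huu : BK u u = 0 := by rw [C.BK_self, hu, mul_zero]
  have hww : BK w w = 0 := by rw [C.BK_self, hw, mul_zero]
  have hwu : BK w u = 0 := by rw [C.BK_symm, huw]
  refine ⟨?_, ?_, ?_, ?_, ?_⟩
  · intro x y
    rw [trB_apply, trB_apply, ← map_neg, nmap_apply, nmap_apply]
    congr 1
    simp only [map_smul, map_sub, LinearMap.smul_apply, LinearMap.sub_apply, smul_eq_mul]
    rw [C.BK_symm w y, C.BK_symm u y]
    ring
  · intro x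
    rw [nmap_apply, mem_kln]
    refine ⟨-(κ * BK x w), κ * BK x u, ?_⟩
    rw [smul_sub, smul_smul, smul_smul, neg_smul]
    abel
  · intro x hx
    rw [mem_kln] at hx
    obtain ⟨a, b, rfl⟩ := hx
    rw [nmap_apply]
    simp only [map_add, map_smul, LinearMap.add_apply, LinearMap.smul_apply, huu, hwu, huw, hww,
      smul_zero, add_zero, zero_smul, sub_zero]
  · intro hκ x hx
    rw [nmap_apply, smul_eq_zero] at hx
    rcases hx with hx | hx
    · exact absurd hx hκ
    have h1 := hind (-(BK x w)) (BK x u) (by rw [neg_smul, add_comm, ← sub_eq_add_neg]; exact hx)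
    rw [neg_eq_zero] at h1
    rw [mem_kln]
    exact hperp x h1.2 h1.1
  · intro hκ z hz
    rw [mem_kln] at hz
    obtain ⟨a, b, rfl⟩ := hz
    obtain ⟨x, hx1, hx2⟩ := hsurj (κ⁻¹ * b) (-(κ⁻¹ * a))
    refine ⟨x, ?_⟩
    rw [nmap_apply, hx1, hx2, smul_sub, smul_smul, smul_smul, ← mul_assoc, mul_neg, ← mul_assoc,
      mul_inv_cancel₀ hκ, one_mul, one_mul, neg_smul, sub_neg_eq_add, add_comm]

end Cfsg.Agent.Lib.Helper3_OX3_NMAP3
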