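import Mathlib
import Cfsg.Prelude.Def_Characters
import Cfsg.Agent.Lib.Helper3_P2Defs

/-!
# S4705, package HYPH (helper3): the hypotheses pass to a normal subgroup containing `P`.
-/

set_option autoImplicit false
set_option linter.unusedSectionVars false
set_option linter.unusedVariables false

namespace Cfsg.Agent.Lib.Helper3_P2_HYPH

open Cfsg Cfsg.Agent.Lib.Helper3_P2Defs

universe u

variable {G : Type u} [Group G] [Finite G] {p : ℕ} [hp : Fact p.Prime] {P : Sylow p G}
  {ζ : G → ℂ}

/-- **P2-HYPH**. -/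
theorem hyp_resid (h : Hyp G p P ζ) (H : Subgroup G) [H.Normal]
    (hPH : (P : Subgroup G) ≤ H)
    (hirr : IsIrrCharacter ↥H (fun y : ↥H => ζ (y : G))) :
    Hyp ↥H p (P.subtype hPH) (fun y : ↥H => ζ (y : G)) := by
  refine ⟨h.p5, ?_, ?_, hirr, ?_, ?_⟩
  · rw [Sylow.coe_subtype]
    rw [Nat.card_congr (Subgroup.subgroupOfEquivOfLe hPH).toEquiv]
    exact h.cardP
  · intro hn
    apply h.nn
    have hchar : ((P.subtype hPH : Sylow p ↥H) : Subgroup ↥H).Characteristic :=
      Sylow.characteristic_of_normal _ hn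
    have hmap : (((P.subtype hPH : Sylow p ↥H) : Subgroup ↥H).map H.subtype).Normal :=
      ConjAct.normal_of_characteristic_of_normal
    have e : ((P.subtype hPH : Sylow p ↥H) : Subgroup ↥H).map H.subtype = (P : Subgroup G) := by
      rw [Sylow.coe_subtype, Subgroup.map_subgroupOf_eq_of_le hPH]
    rwa [e] at hmap
  · intro y hy
    apply Subtype.ext
    exact h.faith (y : G) hy
  · have := h.deg
    unfold charDegree at this ⊢
    exact this

end Cfsg.Agent.Lib.Helper3_P2_HYPH
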