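import Mathlib
import Cfsg.Prelude.Def_Solvable
import Cfsg.Agent.S4700
import Cfsg.Agent.Lib.Helper1_Cores
import Cfsg.Agent.Lib.Helper5_PSLCard

/-!
# S4705, package IDENT (helper3): identification of `G / Z(G)` via the landed S4700.
-/

set_option autoImplicit false
set_option linter.unusedSectionVars false
set_option linter.unusedVariables false

namespace Cfsg.Agent.Lib.Helper3_P2_IDENT

open Cfsg

universe u

variable {G : Type u} [Group G] [Finite G] {p : ℕ} [hp : Fact p.Prime] {P : Sylow p G}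

/-- **P2-IDENT**. -/
theorem ident (hperf : commutator G = ⊤) (hP : Nat.card P = p) (hp5 : 5 < p)
    (hzp : (Nat.card (Subgroup.center G)).Coprime p)
    (hnp : 2 * Nat.card (Sylow p G) = (p - 1) * (p - 2))
    (hG : Nat.card G = Nat.card (Subgroup.center G) * (p * (p - 1) * (p - 2))) :
    ∃ (m : ℕ) (F : Type) (_ : Field F) (_ : Fintype F), Fintype.card F = 2 ^ m ∧ p = 2 ^ m + 1 ∧
      Nonempty (G ⧸ Subgroup.center G ≃* Matrix.SpecialLinearGroup (Fin 2) F) := by
  classical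
  obtain ⟨t, ht⟩ : ∃ t, p = 2 * t + 1 := hp.out.odd_of_ne_two (by omega)
  obtain ⟨s, hs⟩ : ∃ s, t = s + 1 := ⟨t - 1, by omega⟩
  have hps : p = 2 * s + 3 := by omega
  have hs2 : 2 ≤ s := by omega
  have e1 : p - 1 = 2 * s + 2 := by omega
  have e2 : p - 2 = 2 * s + 1 := by omega
  have hn : Nat.card (Sylow p G) = 1 + s * p := by
    have h1 : (p - 1) * (p - 2) = 2 * (1 + s * p) := by
      rw [e1, e2, hps]; ring
    omega
  set z := Nat.card (Subgroup.center G) with hz
  have hzpos : 0 < z := Nat.card_pos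
  have hZK : Subgroup.center G ≤ Cfsg.pPrimeCore p G :=
    Cfsg.Agent.Lib.Helper1_Cores.le_pPrimeCore inferInstance hzp
  obtain ⟨k, hk⟩ : z ∣ Nat.card (Cfsg.pPrimeCore p G) := Subgroup.card_dvd_of_le hZK
  have hGK : Nat.card G = Nat.card (G ⧸ Cfsg.pPrimeCore p G) * Nat.card (Cfsg.pPrimeCore p G) :=
    Subgroup.card_eq_card_quotient_mul_card_subgroup _
  have hG' : Nat.card G = z * ((2 * s + 3) * (2 * s + 2) * (2 * s + 1)) := by
    rw [hG, e1, e2, hps]
  rcases Cfsg.Agent.S4700.result hperf p P hP s hn with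
    ⟨F, hF1, hF2, hFc, -, ⟨e⟩⟩ | ⟨m, F, hF1, hF2, hFc, hpm, -, ⟨e⟩⟩ | ⟨h, u, hh, hu, heq⟩
  · -- `PSL(2,p)`
    exfalso
    let _ := hF1; let _ := hF2
    have hc1 : Nat.card (G ⧸ Cfsg.pPrimeCore p G) =
        Nat.card (Matrix.ProjectiveSpecialLinearGroup (Fin 2) F) := Nat.card_congr e.toEquiv
    have hc2 := Cfsg.Agent.Lib.Helper5_PSLCard.card_PSL_mul (F := F) 2 (by norm_num)
    rw [Cfsg.Agent.Lib.Helper5_PSLCard.card_SL_two, hFc] at hc2
    have hgcd : Nat.gcd (p - 1) 2 = 2 := by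
      rw [e1]
      have : 2 * s + 2 = 2 * (s + 1) := by ring
      rw [this]
      exact Nat.gcd_mul_right_left _ _
    rw [hgcd] at hc2
    have hsq : p ^ 2 - 1 = 4 * (s + 1) * (s + 2) := by
      have : p ^ 2 = 4 * (s + 1) * (s + 2) + 1 := by rw [hps]; ring
      omega
    rw [hsq, hps] at hc2
    rw [← hc1] at hc2
    -- `2 |G| = p (p^2 - 1) |K|`
    have h3 : 2 * (z * ((2 * s + 3) * (2 * s + 2) * (2 * s + 1))) =
        (2 * s + 3) * (4 * (s + 1) * (s + 2)) * (z * k) := by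
      rw [← hG', hGK, ← hc2, hk]; ring
    have h4 : (z * (2 * s + 3) * 4 * (s + 1)) * (2 * s + 1) =
        (z * (2 * s + 3) * 4 * (s + 1)) * ((s + 2) * k) := by
      calc (z * (2 * s + 3) * 4 * (s + 1)) * (2 * s + 1)
          = 2 * (z * ((2 * s + 3) * (2 * s + 2) * (2 * s + 1))) := by ring
        _ = (2 * s + 3) * (4 * (s + 1) * (s + 2)) * (z * k) := h3
        _ = _ := by ring
    have h5 : 2 * s + 1 = (s + 2) * k :=
      Nat.eq_of_mul_eq_mul_left (by positivity) h4
    rcases Nat.lt_or_ge k 2 with hk2 | hk2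
    · interval_cases k
      · omega
      · omega
    · have : (s + 2) * 2 ≤ (s + 2) * k := Nat.mul_le_mul_left _ hk2
      omega
  · -- `SL(2, 2^m)`
    let _ := hF1; let _ := hF2
    have hc1 : Nat.card (G ⧸ Cfsg.pPrimeCore p G) =
        Nat.card (Matrix.SpecialLinearGroup (Fin 2) F) := Nat.card_congr e.toEquiv
    rw [Cfsg.Agent.Lib.Helper5_PSLCard.card_SL_two, hFc] at hc1
    have hq : 2 ^ m = 2 * s + 2 := by omega
    have hsq : (2 * s + 2) ^ 2 - 1 = (2 * s + 3) * (2 * s + 1) := by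
      have : (2 * s + 2) ^ 2 = (2 * s + 3) * (2 * s + 1) + 1 := by ring
      omega
    rw [hq, hsq] at hc1
    have h3 : ((2 * s + 3) * (2 * s + 2) * (2 * s + 1)) * z =
        ((2 * s + 3) * (2 * s + 2) * (2 * s + 1)) * Nat.card (Cfsg.pPrimeCore p G) := by
      calc ((2 * s + 3) * (2 * s + 2) * (2 * s + 1)) * z
          = Nat.card G := by rw [hG']; ring
        _ = _ := by rw [hGK, hc1]; ring
    have h4 : z = Nat.card (Cfsg.pPrimeCore p G) :=
      Nat.eq_of_mul_eq_mul_left (by positivity) h3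
    have hKZ : Subgroup.center G = Cfsg.pPrimeCore p G :=
      Subgroup.eq_of_le_of_card_ge hZK (by rw [← h4])
    exact ⟨m, F, hF1, hF2, hFc, hpm, ⟨(QuotientGroup.quotientMulEquivOfEq hKZ).trans e⟩⟩
  · -- the arithmetic case
    exfalso
    have h1 : u * p ≤ h * u * p := by
      have : 1 * (u * p) ≤ h * (u * p) := Nat.mul_le_mul_right _ hh
      calc u * p = 1 * (u * p) := (one_mul _).symm
        _ ≤ h * (u * p) := this
        _ = h * u * p := by ring
    have h2 : s ≤ s * u := Nat.le_mul_of_pos_right _ hu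
    have h3 : u * p = 2 * (s * u) + 3 * u := by rw [hps]; ring
    have h4 : s * (u + 1) = s * u + s := by ring
    nlinarith

end Cfsg.Agent.Lib.Helper3_P2_IDENT
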