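import Mathlib
import Cfsg.Prelude.Def_Characters
import Cfsg.Prelude.Def_Blocks
import Cfsg.Agent.S1504
import Cfsg.Agent.Lib.Helper3_P2Defs
import Cfsg.Agent.Lib.Helper25_AbDual
import Cfsg.Agent.Lib.Helper16_BrauerSetup
import Cfsg.Agent.Lib.Helper16_BrauerMain
import Cfsg.Agent.Lib.Helper16_GenSetup
import Cfsg.Agent.Lib.Helper16_GenK
import Cfsg.Agent.Lib.Helper16_GenNorm
import Cfsg.Agent.Lib.Helper16_GenMain
import Cfsg.Agent.Lib.Helper16_GenFinal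
import Cfsg.Agent.Lib.Helper57_CTGen
import Cfsg.Agent.Lib.Helper74_H1V
import Cfsg.Agent.Lib.Helper75_CharArith
import Cfsg.Agent.Lib.Helper68_F5040_ALTSQ
import Cfsg.Agent.Lib.Helper77_BlockBasics

/-!
# S4705, package KEYID, part A: Fourier lemmas on `P` and the abstract multiplicity lemma (helper3)

`ζ(g²) = ζ(g)² - (p - 3) ζ(g ^ k₂)` on `p`-regular `g` (B1 of `pending/helper3/S4705_proof.md`).
-/

set_option autoImplicit false
set_option linter.unusedSectionVars false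
set_option linter.unusedVariables false

namespace Cfsg.Agent.Lib.Helper3_P2_KEYID_A

open Cfsg Cfsg.Agent.Lib.Helper3_P2Defs Cfsg.Agent.Lib.Helper16_BrauerSetup
  Cfsg.Agent.Lib.Helper16_GenSetup Cfsg.Agent.Lib.Helper16_GenK Cfsg.Agent.Lib.Helper16_GenNorm
  Cfsg.Agent.Lib.Helper16_GenMain Cfsg.Agent.Lib.Helper16_GenFinal
open scoped ComplexConjugate

universe u

variable {G : Type u} [Group G] [Fintype G] {p : ℕ} [hp : Fact p.Prime] {P : Sylow p G}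
  {V : Subgroup G}

section fourier

variable [Fintype ↥(P : Subgroup G)] [Fintype (↥(P : Subgroup G) →* ℂˣ)]

/-- Orthogonality of the linear characters of `P`. -/
theorem sum_mul_conj (hP : Nat.card P = p) (φ' φ : ↥(P : Subgroup G) →* ℂˣ) :
    ∑ h : ↥(P : Subgroup G), ((φ' h : ℂˣ) : ℂ) * conj ((φ h : ℂˣ) : ℂ) =
      if φ' = φ then (p : ℂ) else 0 := by
  have h1 : ∀ h : ↥(P : Subgroup G), ((φ' h : ℂˣ) : ℂ) * conj ((φ h : ℂˣ) : ℂ) =
      (((φ' * φ⁻¹) h : ℂˣ) : ℂ) := by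
    intro h
    rw [Cfsg.Agent.Lib.Helper25_AbDual.conj_hom, map_inv]
    simp
  simp_rw [h1]
  split_ifs with hφ
  · have h2 : ∀ h : ↥(P : Subgroup G), (((φ' * φ⁻¹) h : ℂˣ) : ℂ) = 1 := by
      intro h
      rw [hφ]
      simp
    simp_rw [h2]
    simp only [Finset.sum_const, Finset.card_univ, nsmul_eq_mul, mul_one]
    rw [← Nat.card_eq_fintype_card, show Nat.card ↥(P : Subgroup G) = p from hP]
  · apply Cfsg.Agent.S1504.sum_units_hom_eq_zero
    intro h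
    apply hφ
    ext x
    have h3 := DFunLike.congr_fun h x
    simp only [MonoidHom.mul_apply, MonoidHom.inv_apply, MonoidHom.one_apply] at h3
    rw [mul_inv_eq_one] at h3
    rw [h3]

/-- Fourier coefficients (relative to the trivial one) of `a₀ + a₁ μ₁ + a₂ μ₂`. -/
theorem fourier_diff (hP : Nat.card P = p) (f : ↥(P : Subgroup G) → ℂ) (a₀ a₁ : ℂ)
    (μ₁ μ₂ : ↥(P : Subgroup G) →* ℂˣ) (h1 : μ₁ ≠ 1) (h2 : μ₂ ≠ 1) (h12 : μ₁ ≠ μ₂)
    (hf : ∀ x : ↥(P : Subgroup G), x ≠ 1 →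
      f x = a₀ + a₁ * (((μ₁ x : ℂˣ) : ℂ) + ((μ₂ x : ℂˣ) : ℂ)))
    (φ : ↥(P : Subgroup G) →* ℂˣ) (hφ : φ ≠ 1) :
    (p : ℂ)⁻¹ * ∑ h : ↥(P : Subgroup G), f h * (conj ((φ h : ℂˣ) : ℂ) - 1) =
      (if (φ = μ₁ ∨ φ = μ₂) then a₁ else 0) - a₀ := by
  classical
  have hp0 : (p : ℂ) ≠ 0 := by exact_mod_cast hp.out.ne_zero
  have e1 : ∀ h : ↥(P : Subgroup G), f h * (conj ((φ h : ℂˣ) : ℂ) - 1) =
      (a₀ + a₁ * (((μ₁ h : ℂˣ) : ℂ) + ((μ₂ h : ℂˣ) : ℂ))) * (conj ((φ h : ℂˣ) : ℂ) - 1) := by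
    intro h
    by_cases hh : h = 1
    · rw [hh]; simp
    · rw [hf h hh]
  simp_rw [e1]
  have e2 : ∀ h : ↥(P : Subgroup G),
      (a₀ + a₁ * (((μ₁ h : ℂˣ) : ℂ) + ((μ₂ h : ℂˣ) : ℂ))) * (conj ((φ h : ℂˣ) : ℂ) - 1) =
      a₀ * ((((1 : ↥(P : Subgroup G) →* ℂˣ) h : ℂˣ) : ℂ) * conj ((φ h : ℂˣ) : ℂ)) - a₀
      + a₁ * (((μ₁ h : ℂˣ) : ℂ) * conj ((φ h : ℂˣ) : ℂ))
      + a₁ * (((μ₂ h : ℂˣ) : ℂ) * conj ((φ h : ℂˣ) : ℂ))
      - a₁ * ((μ₁ h : ℂˣ) : ℂ) - a₁ * ((μ₂ h : ℂˣ) : ℂ) := by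
    intro h
    simp only [MonoidHom.one_apply, Units.val_one]
    ring
  simp_rw [e2]
  rw [Finset.sum_sub_distrib, Finset.sum_sub_distrib, Finset.sum_add_distrib,
    Finset.sum_add_distrib, Finset.sum_sub_distrib]
  simp_rw [← Finset.mul_sum]
  rw [sum_mul_conj hP 1 φ, sum_mul_conj hP μ₁ φ, sum_mul_conj hP μ₂ φ,
    Cfsg.Agent.S1504.sum_units_hom_eq_zero μ₁ h1, Cfsg.Agent.S1504.sum_units_hom_eq_zero μ₂ h2]
  rw [if_neg (Ne.symm hφ)]
  simp only [Finset.sum_const, Finset.card_univ, nsmul_eq_mul, mul_zero, sub_zero, zero_sub]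
  rw [← Nat.card_eq_fintype_card, show Nat.card ↥(P : Subgroup G) = p from hP]
  by_cases c1 : φ = μ₁
  · have c2 : ¬ φ = μ₂ := fun h => h12 (c1.symm.trans h)
    have c1' : μ₁ = φ := c1.symm
    have c2' : ¬ μ₂ = φ := fun h => c2 h.symm
    rw [if_pos c1', if_neg c2', if_pos (Or.inl c1)]
    field_simp
    ring
  · by_cases c2 : φ = μ₂
    · have c1' : ¬ μ₁ = φ := fun h => c1 h.symm
      rw [if_neg c1', if_pos c2.symm, if_pos (Or.inr c2)]
      field_simp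
      ring
    · have c1' : ¬ μ₁ = φ := fun h => c1 h.symm
      have c2' : ¬ μ₂ = φ := fun h => c2 h.symm
      rw [if_neg c1', if_neg c2', if_neg (by tauto)]
      field_simp
      ring

end fourier


section mult

variable [Fintype ↥(P : Subgroup G)] [Fintype ↥V] [Fintype (↥(P : Subgroup G) →* ℂˣ)]

open scoped Classical in
/-- The abstract multiplicity lemma: a character `A = ∑ m χ` of degree `(p-2)(p-3)/2` whose
`ϑ`-component on `P \ {1}` is `1 + μ + μ⁻¹`, in a situation where the exceptional characters `Y` of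
`BGen P V ϑ` have degree `p - 2`, sign `-1` and `e = 2`, is a sum of `(p-3)/2` members of `Y`. -/
theorem alt_mult (hP : Nat.card P = p) (hp5 : 5 < p) (hV : IsPCompl P V) (ϑ : IrrCharacter ↥V)
    (X Y : Finset (IrrCharacter G)) (εX : IrrCharacter G → ℤ)
    (hBXY : ∀ χ, χ ∈ BGen P V ϑ ↔ χ ∈ X ∨ χ ∈ Y) (hdisj : Disjoint X Y)
    (hXp : ∀ χ ∈ X, ∀ φ : ↥(P : Subgroup G) →* ℂˣ, φ ≠ 1 → nng hV ϑ χ φ = - εX χ)
    (hYp : ∀ ψ ∈ Y, ∀ φ : ↥(P : Subgroup G) →* ℂˣ, φ ≠ 1 →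
      nng hV ϑ ψ φ = 0 ∨ nng hV ϑ ψ φ = -1)
    (hYs : ∀ ψ ∈ Y, (Finset.univ.filter
      (fun φ : ↥(P : Subgroup G) →* ℂˣ => nng hV ϑ ψ φ ≠ 0)).card = 2)
    (hYdeg : ∀ ψ ∈ Y, charDegree (ψ : G → ℂ) = p - 2)
    (m : IrrCharacter G → ℕ)
    (hdeg : 2 * ∑ χ : IrrCharacter G, m χ * charDegree (χ : G → ℂ) = (p - 2) * (p - 3))
    (μ : ↥(P : Subgroup G) →* ℂˣ) (hμ1 : μ ≠ 1) (hμ2 : μ ≠ μ⁻¹)
    (hc : ∀ φ : ↥(P : Subgroup G) →* ℂˣ, φ ≠ 1 →
      ∑ χ : IrrCharacter G, (m χ : ℤ) * nng hV ϑ χ φ = if (φ = μ ∨ φ = μ⁻¹) then 0 else -1) :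
    (∀ χ : IrrCharacter G, χ ∉ Y → m χ = 0) ∧ 2 * ∑ ψ ∈ Y, m ψ = p - 3 := by
  have hp2 := hp.out.two_le
  have hcardφ : Fintype.card (↥(P : Subgroup G) →* ℂˣ) = p := by
    rw [← Nat.card_eq_fintype_card, Cfsg.Agent.Lib.Helper25_AbDual.card_hom (comm_of_card P hP)]
    exact hP
  set D : ℤ := ∑ χ ∈ X, (m χ : ℤ) * εX χ with hD
  set Nn : (↥(P : Subgroup G) →* ℂˣ) → ℤ := fun φ =>
    ∑ ψ ∈ Y, (m ψ : ℤ) * (if nng hV ϑ ψ φ ≠ 0 then 1 else 0) with hNn
  -- the sum over all characters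
  have hsplit : ∀ φ : ↥(P : Subgroup G) →* ℂˣ, φ ≠ 1 →
      ∑ χ : IrrCharacter G, (m χ : ℤ) * nng hV ϑ χ φ = - D - Nn φ := by
    intro φ hφ
    have h1 : ∑ χ : IrrCharacter G, (m χ : ℤ) * nng hV ϑ χ φ =
        ∑ χ ∈ X ∪ Y, (m χ : ℤ) * nng hV ϑ χ φ := by
      symm
      apply Finset.sum_subset (Finset.subset_univ _)
      intro χ _ hχ
      have hχB : χ ∉ BGen P V ϑ := by
        intro hB
        apply hχ
        rcases (hBXY χ).mp hB with h | h
        · exact Finset.mem_union_left _ h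
        · exact Finset.mem_union_right _ h
      rw [nng_eq_zero hP hV ϑ hχB φ, mul_zero]
    rw [h1, Finset.sum_union hdisj]
    have h2 : ∑ χ ∈ X, (m χ : ℤ) * nng hV ϑ χ φ = - D := by
      rw [hD, ← Finset.sum_neg_distrib]
      refine Finset.sum_congr rfl fun χ hχ => ?_
      rw [hXp χ hχ φ hφ]
      ring
    have h3 : ∑ ψ ∈ Y, (m ψ : ℤ) * nng hV ϑ ψ φ = - Nn φ := by
      simp only [hNn]
      rw [← Finset.sum_neg_distrib]
      refine Finset.sum_congr rfl fun ψ hψ => ?_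
      rcases hYp ψ hψ φ hφ with h | h
      · rw [h]; simp
      · rw [h]; simp
    rw [h2, h3]
    ring
  have hNnn : ∀ φ, 0 ≤ Nn φ := by
    intro φ
    simp only [hNn]
    apply Finset.sum_nonneg
    intro ψ _
    split_ifs <;> simp
  -- `D ≤ 0`
  have hD0 : D ≤ 0 := by
    have h1 := hsplit μ hμ1
    rw [hc μ hμ1, if_pos (Or.inl rfl)] at h1
    have := hNnn μ
    linarith
  -- the sum over `φ ≠ 1`
  have hμinv1 : μ⁻¹ ≠ 1 := by
    intro h
    apply hμ1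
    ext x
    have h3 := DFunLike.congr_fun h x
    simp only [MonoidHom.inv_apply, MonoidHom.one_apply] at h3
    rw [inv_eq_one] at h3
    rw [h3]
    rfl
  have hsum1 : ∑ φ : ↥(P : Subgroup G) →* ℂˣ, (if φ = 1 then (0 : ℤ) else - D - Nn φ) =
      - ((p : ℤ) - 3) := by
    have h1 : ∀ φ : ↥(P : Subgroup G) →* ℂˣ, (if φ = 1 then (0 : ℤ) else - D - Nn φ) =
        (if φ = 1 then 1 else 0) + (if φ = μ then 1 else 0) + (if φ = μ⁻¹ then 1 else 0) - 1 := by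
      intro φ
      by_cases h0 : φ = 1
      · rw [if_pos h0, if_pos h0, if_neg (by rw [h0]; exact Ne.symm hμ1),
          if_neg (by rw [h0]; exact Ne.symm hμinv1)]
        ring
      · rw [if_neg h0, if_neg h0, ← hsplit φ h0, hc φ h0]
        by_cases h1 : φ = μ
        · rw [if_pos (Or.inl h1), if_pos h1, if_neg (by rw [h1]; exact hμ2)]
          ring
        · by_cases h2 : φ = μ⁻¹
          · rw [if_pos (Or.inr h2), if_neg h1, if_pos h2]
            ring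
          · rw [if_neg (by tauto), if_neg h1, if_neg h2]
            ring
    simp_rw [h1]
    rw [Finset.sum_sub_distrib, Finset.sum_add_distrib, Finset.sum_add_distrib,
      Finset.sum_ite_eq' Finset.univ (1 : ↥(P : Subgroup G) →* ℂˣ),
      Finset.sum_ite_eq' Finset.univ μ, Finset.sum_ite_eq' Finset.univ μ⁻¹]
    simp only [Finset.mem_univ, if_true, Finset.sum_const, Finset.card_univ, nsmul_eq_mul, mul_one]
    rw [hcardφ]
    ring
  have hsum2 : ∑ φ : ↥(P : Subgroup G) →* ℂˣ, (if φ = 1 then (0 : ℤ) else - D - Nn φ) =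
      - (((p : ℤ) - 1) * D) - 2 * ∑ ψ ∈ Y, (m ψ : ℤ) := by
    have h1 : ∀ φ : ↥(P : Subgroup G) →* ℂˣ, (if φ = 1 then (0 : ℤ) else - D - Nn φ) =
        (if φ = 1 then D else 0) - D - Nn φ := by
      intro φ
      by_cases h0 : φ = 1
      · rw [if_pos h0, if_pos h0, h0]
        have : Nn 1 = 0 := by
          simp only [hNn]
          apply Finset.sum_eq_zero
          intro ψ _
          rw [nng_one]
          simp
        rw [this]
        ring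
      · rw [if_neg h0, if_neg h0]
        ring
    simp_rw [h1]
    rw [Finset.sum_sub_distrib, Finset.sum_sub_distrib,
      Finset.sum_ite_eq' Finset.univ (1 : ↥(P : Subgroup G) →* ℂˣ)]
    simp only [Finset.mem_univ, if_true, Finset.sum_const, Finset.card_univ, nsmul_eq_mul]
    rw [hcardφ]
    have h2 : ∑ φ : ↥(P : Subgroup G) →* ℂˣ, Nn φ = 2 * ∑ ψ ∈ Y, (m ψ : ℤ) := by
      simp only [hNn]
      rw [Finset.sum_comm, Finset.mul_sum]
      refine Finset.sum_congr rfl fun ψ hψ => ?_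
      rw [← Finset.mul_sum, Finset.sum_ite, Finset.sum_const_zero, add_zero, Finset.sum_const,
        hYs ψ hψ]
      simp
      ring
    rw [h2]
    ring
  have hstar : ((p : ℤ) - 1) * D + 2 * ∑ ψ ∈ Y, (m ψ : ℤ) = (p : ℤ) - 3 := by
    have := hsum1.symm.trans hsum2
    linarith
  -- degrees
  have hdegY : ∑ χ : IrrCharacter G, m χ * charDegree (χ : G → ℂ) =
      (∑ ψ ∈ Y, m ψ) * (p - 2) +
        ∑ χ ∈ Finset.univ.filter (fun χ => χ ∉ Y), m χ * charDegree (χ : G → ℂ) := by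
    rw [← Finset.sum_filter_add_sum_filter_not Finset.univ (fun χ => χ ∈ Y)]
    congr 1
    rw [Finset.sum_mul]
    have : Finset.univ.filter (fun χ : IrrCharacter G => χ ∈ Y) = Y := by
      ext χ; simp
    rw [this]
    refine Finset.sum_congr rfl fun ψ hψ => ?_
    rw [hYdeg ψ hψ]
  set SY : ℕ := ∑ ψ ∈ Y, m ψ with hSY
  set R : ℕ := ∑ χ ∈ Finset.univ.filter (fun χ => χ ∉ Y), m χ * charDegree (χ : G → ℂ) with hR
  have hSYc : ((SY : ℕ) : ℤ) = ∑ ψ ∈ Y, (m ψ : ℤ) := by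
    rw [hSY]; push_cast; rfl
  rw [hdegY] at hdeg
  rw [← hSYc] at hstar
  -- arithmetic
  have hle : 2 * SY * (p - 2) ≤ (p - 2) * (p - 3) := by
    have : 2 * SY * (p - 2) + 2 * R = (p - 2) * (p - 3) := by rw [← hdeg]; ring
    omega
  have hle2 : 2 * SY ≤ p - 3 := by
    have hpos : 0 < p - 2 := by omega
    have : 2 * SY * (p - 2) ≤ (p - 3) * (p - 2) := by rw [mul_comm (p - 3)]; exact hle
    exact Nat.le_of_mul_le_mul_right this hpos
  have hle2' : (2 : ℤ) * SY ≤ (p : ℤ) - 3 := by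
    have : ((2 * SY : ℕ) : ℤ) ≤ ((p - 3 : ℕ) : ℤ) := by exact_mod_cast hle2
    rw [Nat.cast_sub (by omega)] at this
    push_cast at this
    exact this
  have hDge : 0 ≤ D := by
    by_contra hneg
    push Not at hneg
    have hp1 : (0 : ℤ) < (p : ℤ) - 1 := by
      have : (2 : ℤ) ≤ p := by exact_mod_cast hp2
      linarith
    nlinarith
  have hDz : D = 0 := le_antisymm hD0 hDge
  rw [hDz, mul_zero, zero_add] at hstar
  have h2SY : 2 * SY = p - 3 := by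
    have : ((2 * SY : ℕ) : ℤ) = ((p - 3 : ℕ) : ℤ) := by
      rw [Nat.cast_sub (by omega)]
      push_cast
      exact hstar
    exact_mod_cast this
  refine ⟨?_, h2SY⟩
  have hR0 : R = 0 := by
    have h1 : 2 * SY * (p - 2) + 2 * R = (p - 2) * (p - 3) := by rw [← hdeg]; ring
    rw [h2SY] at h1
    have : (p - 3) * (p - 2) = (p - 2) * (p - 3) := mul_comm _ _
    omega
  intro χ hχ
  have h1 := (Finset.sum_eq_zero_iff.mp hR0) χ (by simp [hχ])
  rcases Nat.mul_eq_zero.mp h1 with h | h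
  · exact h
  · exact absurd h (Cfsg.Agent.Lib.Helper77_BlockBasics.charDegree_pos χ).ne'

end mult

end Cfsg.Agent.Lib.Helper3_P2_KEYID_A
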