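import Mathlib

/-!
# S4705 package P2-KAPPA (helper42, for architect helper3)

CRT exponent: `κ ≡ j (mod p)`, `κ ≡ 1 (mod |G| / p)`, `κ` prime to `|G|`, when `|P| = p`
(so `p ∥ |G|`) and `p ∤ j`.
-/

set_option autoImplicit false
set_option linter.unusedSectionVars false
set_option linter.unusedVariables false

namespace Cfsg.Agent.Lib.Helper42_P2_KAPPA

universe u

variable {G : Type u} [Group G] [Fintype G] {p : ℕ} [hp : Fact p.Prime] {P : Sylow p G}
  {V : Subgroup G} {ζ : G → ℂ}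

/-- **P2-KAPPA** (S).  CRT for the coprime moduli `p` and `|G| / p` (`p ∥ |G|` as `|P| = p`). -/
theorem exists_kappa (hP : Nat.card P = p) (j : ℕ) (hj : ¬ p ∣ j) :
    ∃ κ : ℕ, κ.Coprime (Nat.card G) ∧ κ ≡ j [MOD p] ∧ κ ≡ 1 [MOD Nat.card G / p] := by
  have hpp : p.Prime := hp.out
  -- `p ∥ |G|`
  have hfac : (Nat.card G).factorization p = 1 := by
    have h1 := P.card_eq_multiplicity
    rw [hP] at h1
    have h2 : p ^ 1 = p ^ (Nat.card G).factorization p := by rw [pow_one]; exact h1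
    exact (Nat.pow_right_injective hpp.two_le h2).symm
  have hGpos : 0 < Nat.card G := Nat.card_pos
  have hpdvd : p ∣ Nat.card G := by
    have := Nat.ordProj_dvd (Nat.card G) p
    rw [hfac, pow_one] at this
    exact this
  obtain ⟨m, hm⟩ := hpdvd
  have hdiv : Nat.card G / p = m := by
    rw [hm]; exact Nat.mul_div_cancel_left m hpp.pos
  have hpm : ¬ p ∣ m := by
    intro hdm
    obtain ⟨m', hm'⟩ := hdm
    have hp2 : p ^ 2 ∣ Nat.card G := ⟨m', by rw [hm, hm']; ring⟩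
    have := (hpp.pow_dvd_iff_le_factorization hGpos.ne').mp hp2
    omega
  have hcop : p.Coprime m := (Nat.Prime.coprime_iff_not_dvd hpp).mpr hpm
  obtain ⟨κ, hκ1, hκ2⟩ := Nat.chineseRemainder hcop j 1
  refine ⟨κ, ?_, hκ1, by rw [hdiv]; exact hκ2⟩
  rw [hm]
  apply Nat.Coprime.mul_right
  · rw [Nat.coprime_comm, Nat.Prime.coprime_iff_not_dvd hpp]
    intro hd
    apply hj
    have h0 : κ ≡ 0 [MOD p] := (Nat.modEq_zero_iff_dvd).mpr hd
    exact (Nat.modEq_zero_iff_dvd).mp (hκ1.symm.trans h0)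
  · have hg := hκ2.gcd_eq
    unfold Nat.Coprime
    rw [hg]
    exact Nat.gcd_one_left m

end Cfsg.Agent.Lib.Helper42_P2_KAPPA
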