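import Mathlib
import Cfsg.Prelude.Def_Characters
import Cfsg.Prelude.Def_Blocks
import Cfsg.Agent.S1504
import Cfsg.Agent.Lib.Helper3_P2Defs
import Cfsg.Agent.Lib.Helper25_AbDual
import Cfsg.Agent.Lib.Helper16_BrauerSetup
import Cfsg.Agent.Lib.Helper16_BrauerMain
import Cfsg.Agent.Lib.Helper16_GenSetup
import Cfsg.Agent.Lib.Helper16_GenK
import Cfsg.Agent.Lib.Helper16_GenNorm
import Cfsg.Agent.Lib.Helper16_GenMain
import Cfsg.Agent.Lib.Helper16_GenFinal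
import Cfsg.Agent.Lib.Helper57_CTGen
import Cfsg.Agent.Lib.Helper74_H1V
import Cfsg.Agent.Lib.Helper75_CharArith
import Cfsg.Agent.Lib.Helper68_F5040_ALTSQ
import Cfsg.Agent.Lib.Helper77_BlockBasics
import Cfsg.Agent.Lib.Helper76_GalConj
import Cfsg.Agent.Lib.Helper80_CharBasic
import Cfsg.Agent.Lib.Helper16_BrauerFinal
import Cfsg.Agent.Lib.Helper16_GenConj
import Cfsg.Agent.Lib.Helper3_Brauer503R
import Cfsg.Agent.Lib.Helper3_P2_KEYID_A
import Cfsg.Agent.Lib.Helper3_CharBridge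
import Cfsg.Agent.Lib.Helper53_P2_PCOMPL
import Cfsg.Agent.Lib.Helper16_P2_SFUN
import Cfsg.Agent.Lib.Helper42_P2_KAPPA

/-!
# S4705, package KEYID: the Alt² identity (helper3)

`ζ(g²) = ζ(g)² - (p - 3) ζ(g ^ k₂)` on `p`-regular `g` (B1 of `pending/helper3/S4705_proof.md`).
-/

set_option autoImplicit false
set_option linter.unusedSectionVars false
set_option linter.unusedVariables false

namespace Cfsg.Agent.Lib.Helper3_P2_KEYID

open Cfsg Cfsg.Agent.Lib.Helper3_P2Defs Cfsg.Agent.Lib.Helper16_BrauerSetup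
  Cfsg.Agent.Lib.Helper16_GenSetup Cfsg.Agent.Lib.Helper16_GenK Cfsg.Agent.Lib.Helper16_GenNorm
  Cfsg.Agent.Lib.Helper16_GenMain Cfsg.Agent.Lib.Helper16_GenFinal
  Cfsg.Agent.Lib.Helper3_P2_KEYID_A
open scoped ComplexConjugate

universe u

variable {G : Type u} [Group G] [Fintype G] {p : ℕ} [hp : Fact p.Prime] {P : Sylow p G}
  {V : Subgroup G}

section family

variable [Fintype ↥(P : Subgroup G)] [Fintype ↥(Subgroup.center G)]
  [Fintype (↥(P : Subgroup G) →* ℂˣ)] {ζ : G → ℂ}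

/-- `|G| = p · (|G| / p)` and the `p'`-part. -/
theorem ordCompl_eq (hP : Nat.card P = p) :
    Nat.card G / p ^ (Nat.card G).factorization p = Nat.card G / p := by
  have h1 := P.card_eq_multiplicity
  rw [hP] at h1
  rw [← h1]

theorem lam_pow_p (hP : Nat.card P = p) (lam : ↥(P : Subgroup G) →* ℂˣ) : lam ^ p = 1 := by
  ext x
  rw [MonoidHom.pow_apply, ← map_pow]
  have : x ^ p = 1 := by
    have h1 : x ^ Nat.card ↥(P : Subgroup G) = 1 := pow_card_eq_one'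
    rwa [show Nat.card ↥(P : Subgroup G) = p from hP] at h1
  rw [this, map_one]
  rfl

theorem lam_pow_ne_one (hP : Nat.card P = p) (lam : ↥(P : Subgroup G) →* ℂˣ) (hlam : lam ≠ 1)
    (j : ℕ) (hj : ¬ p ∣ j) : lam ^ j ≠ 1 := by
  intro h
  apply hlam
  have hcop : Nat.Coprime j p := ((Nat.Prime.coprime_iff_not_dvd hp.out).mpr hj).symm
  have h1 : orderOf lam ∣ j := orderOf_dvd_of_pow_eq_one h
  have h2 : orderOf lam ∣ p := orderOf_dvd_of_pow_eq_one (lam_pow_p hP lam)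
  have h3 : orderOf lam ∣ Nat.gcd j p := Nat.dvd_gcd h1 h2
  rw [hcop] at h3
  exact orderOf_eq_one_iff.mp (Nat.dvd_one.mp h3)

theorem lam_pow_congr (hP : Nat.card P = p) (lam : ↥(P : Subgroup G) →* ℂˣ) {a b : ℕ}
    (hab : a ≡ b [MOD p]) : lam ^ a = lam ^ b := by
  have h2 : orderOf lam ∣ p := orderOf_dvd_of_pow_eq_one (lam_pow_p hP lam)
  exact (pow_eq_pow_iff_modEq (x := lam)).mpr (hab.of_dvd h2)


/-- The family of Galois conjugates of `ζ` over the square of the central character. -/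
theorem exists_family (h : Hyp G p P ζ) (hPC : IsPCompl P (Subgroup.center G))
    (lam : ↥(P : Subgroup G) →* ℂˣ)
    (hSF : ∀ k : ℕ, k.Coprime (Nat.card G) →
      ∃ (ϑ : IrrCharacter ↥(Subgroup.center G)) (χ : IrrCharacter G),
        (∀ g : G, (χ : G → ℂ) g = ζ (g ^ k)) ∧
        (∀ w : ↥(Subgroup.center G), (ϑ : ↥(Subgroup.center G) → ℂ) w * ζ 1 = ζ ((w : G) ^ k)) ∧
        ∀ x : ↥(P : Subgroup G), x ≠ 1 →
          sfun P (Subgroup.center G) ϑ χ x =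
            -((((lam ^ k) x : ℂˣ) : ℂ) + ((((lam ^ k) x)⁻¹ : ℂˣ) : ℂ)))
    (hKA : ∀ j : ℕ, ¬ p ∣ j →
      ∃ κ : ℕ, κ.Coprime (Nat.card G) ∧ κ ≡ j [MOD p] ∧ κ ≡ 1 [MOD Nat.card G / p])
    (k₂ : ℕ) (hk : k₂.Coprime (Nat.card G)) (hk1 : k₂ ≡ 1 [MOD p])
    (hkz : k₂ ≡ 2 [MOD Nat.card (Subgroup.center G)]) :
    ∃ ϑ₂ : IrrCharacter ↥(Subgroup.center G),
      (∀ w : ↥(Subgroup.center G),
        (ϑ₂ : ↥(Subgroup.center G) → ℂ) w * ζ 1 = ζ ((w : G) * (w : G))) ∧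
      ∀ j : ℕ, ¬ p ∣ j → ∃ χ : IrrCharacter G, charDegree (χ : G → ℂ) = p - 2 ∧
        (∀ g : G, ¬ p ∣ orderOf g → (χ : G → ℂ) g = ζ (g ^ k₂)) ∧
        ∀ x : ↥(P : Subgroup G), x ≠ 1 →
          sfun P (Subgroup.center G) ϑ₂ χ x =
            -((((lam ^ j) x : ℂˣ) : ℂ) + ((((lam ^ j) x)⁻¹ : ℂˣ) : ℂ)) := by
  have hζ1 : ζ 1 ≠ 0 := Cfsg.Agent.Lib.Helper76_GalConj.irr_one_ne_zero ⟨ζ, h.irr⟩
  have hP := h.cardP
  have hzd : Nat.card (Subgroup.center G) ∣ Nat.card G / p := by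
    have := Cfsg.Agent.Lib.Helper16_GenGal.card_V_dvd hPC
    rwa [ordCompl_eq hP] at this
  -- the key computation for one `κ`
  have hone : ∀ j : ℕ, ¬ p ∣ j → ∃ (ϑ : IrrCharacter ↥(Subgroup.center G)) (χ : IrrCharacter G),
      (∀ w : ↥(Subgroup.center G),
        (ϑ : ↥(Subgroup.center G) → ℂ) w * ζ 1 = ζ ((w : G) * (w : G))) ∧
      charDegree (χ : G → ℂ) = p - 2 ∧
      (∀ g : G, ¬ p ∣ orderOf g → (χ : G → ℂ) g = ζ (g ^ k₂)) ∧
      ∀ x : ↥(P : Subgroup G), x ≠ 1 →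
        sfun P (Subgroup.center G) ϑ χ x =
          -((((lam ^ j) x : ℂˣ) : ℂ) + ((((lam ^ j) x)⁻¹ : ℂˣ) : ℂ)) := by
    intro j hj
    obtain ⟨κ, hκc, hκj, hκ1⟩ := hKA j hj
    have hkk : (κ * k₂).Coprime (Nat.card G) := Nat.Coprime.mul_left hκc hk
    obtain ⟨ϑ, χ, hχ, hϑ, hs⟩ := hSF (κ * k₂) hkk
    have hκz : κ ≡ 1 [MOD Nat.card (Subgroup.center G)] := hκ1.of_dvd hzd
    have hkkz : κ * k₂ ≡ 2 [MOD Nat.card (Subgroup.center G)] := by
      have := Nat.ModEq.mul hκz hkz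
      rwa [one_mul] at this
    refine ⟨ϑ, χ, ?_, ?_, ?_, ?_⟩
    · intro w
      rw [hϑ w]
      congr 1
      have h1 : orderOf (w : G) ∣ Nat.card (Subgroup.center G) :=
        Subgroup.orderOf_dvd_natCard _ w.2
      have h2 : κ * k₂ ≡ 2 [MOD orderOf (w : G)] := hkkz.of_dvd h1
      rw [(pow_eq_pow_iff_modEq (x := (w : G))).mpr h2, pow_two]
    · have h1 : (χ : G → ℂ) 1 = ζ 1 := by rw [hχ 1, one_pow]
      unfold charDegree
      rw [h1]
      exact h.deg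
    · intro g hg
      rw [hχ g, mul_comm κ k₂, pow_mul]
      congr 1
      have hg' : ¬ p ∣ orderOf (g ^ k₂) := fun hd => hg (hd.trans (orderOf_pow_dvd k₂))
      apply Cfsg.Agent.Lib.Helper16_GenConj.pow_eq_self_of_reg _ hg'
      rw [ordCompl_eq hP]
      exact hκ1
    · intro x hx
      rw [hs x hx]
      have : lam ^ (κ * k₂) = lam ^ j := by
        apply lam_pow_congr hP
        have := Nat.ModEq.mul hκj hk1
        rwa [mul_one] at this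
      rw [this]
  obtain ⟨ϑ₂, -, hϑ₂, -, -, -⟩ := hone 1 (fun hd => hp.out.one_lt.ne' (Nat.dvd_one.mp hd))
  refine ⟨ϑ₂, hϑ₂, ?_⟩
  intro j hj
  obtain ⟨ϑ, χ, hϑ, hdeg, hreg, hs⟩ := hone j hj
  have heq : ϑ = ϑ₂ := by
    apply Subtype.ext
    funext w
    have := (hϑ w).trans (hϑ₂ w).symm
    exact mul_right_cancel₀ hζ1 this
  rw [heq] at hs
  exact ⟨χ, hdeg, hreg, hs⟩

end family


section nngfam

variable [Fintype ↥(P : Subgroup G)] [Fintype ↥V] [Fintype (↥(P : Subgroup G) →* ℂˣ)]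

theorem inv_ne_one' {μ : ↥(P : Subgroup G) →* ℂˣ} (hμ1 : μ ≠ 1) : μ⁻¹ ≠ 1 := by
  intro h
  apply hμ1
  ext x
  have h3 := DFunLike.congr_fun h x
  simp only [MonoidHom.inv_apply, MonoidHom.one_apply] at h3
  rw [inv_eq_one] at h3
  rw [h3]
  rfl

open scoped Classical in
/-- `nng` of a character whose `ϑ`-component on `P \ {1}` is `-(μ + μ⁻¹)`. -/
theorem nng_of_sfun (hP : Nat.card P = p) (hV : IsPCompl P V) (ϑ : IrrCharacter ↥V)
    (χ : IrrCharacter G) (μ : ↥(P : Subgroup G) →* ℂˣ) (hμ1 : μ ≠ 1) (hμ2 : μ ≠ μ⁻¹)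
    (hval : ∀ x : ↥(P : Subgroup G), x ≠ 1 →
      sfun P V ϑ χ x = -(((μ x : ℂˣ) : ℂ) + (((μ x)⁻¹ : ℂˣ) : ℂ)))
    (φ : ↥(P : Subgroup G) →* ℂˣ) (hφ : φ ≠ 1) :
    nng hV ϑ χ φ = if (φ = μ ∨ φ = μ⁻¹) then -1 else 0 := by
  have h1 := nng_eq hP hV ϑ χ φ
  have h2 := fourier_diff hP (sfun P V ϑ χ) 0 (-1) μ μ⁻¹ hμ1 (inv_ne_one' hμ1) hμ2
    (fun x hx => by
      rw [hval x hx, MonoidHom.inv_apply]
      ring) φ hφ
  rw [h2, sub_zero] at h1
  split_ifs with hc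
  · rw [if_pos hc] at h1
    exact_mod_cast h1
  · rw [if_neg hc] at h1
    exact_mod_cast h1

end nngfam


section altvals

variable [Fintype ↥(P : Subgroup G)] [Fintype ↥(Subgroup.center G)]
  [Fintype (↥(P : Subgroup G) →* ℂˣ)] {ζ : G → ℂ}

/-- The values of `Alt² ζ` on `x v`, `1 ≠ x ∈ P`, `v ∈ Z(G)`, against `ϑ₂ = θ²`. -/
theorem alt_val (h : Hyp G p P ζ) (lam : ↥(P : Subgroup G) →* ℂˣ)
    (hval : ∀ x : ↥(P : Subgroup G), x ≠ 1 →
      ζ (x : G) = -(((lam x : ℂˣ) : ℂ) + (((lam x)⁻¹ : ℂˣ) : ℂ)))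
    (ϑ₂ : IrrCharacter ↥(Subgroup.center G))
    (hϑ₂ : ∀ w : ↥(Subgroup.center G),
      (ϑ₂ : ↥(Subgroup.center G) → ℂ) w * ζ 1 = ζ ((w : G) * (w : G)))
    (x : ↥(P : Subgroup G)) (hx : x ≠ 1) (v : ↥(Subgroup.center G)) :
    (ζ ((x : G) * (v : G)) ^ 2 - ζ (((x : G) * (v : G)) * ((x : G) * (v : G)))) / 2 *
      conj ((ϑ₂ : ↥(Subgroup.center G) → ℂ) v) =
      1 + ((((lam ^ 2) x : ℂˣ) : ℂ) + ((((lam ^ 2) x)⁻¹ : ℂˣ) : ℂ)) := by
  set z : IrrCharacter G := ⟨ζ, h.irr⟩ with hz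
  have hζ1 : ζ 1 ≠ 0 := Cfsg.Agent.Lib.Helper76_GalConj.irr_one_ne_zero z
  have hP := h.cardP
  have hp5 := h.p5
  -- central relations
  have e1 : ζ ((x : G) * (v : G)) * ζ 1 = ζ (v : G) * ζ (x : G) :=
    Cfsg.Agent.Lib.Helper76_GalConj.irr_mul_central z v.2 (x : G)
  have hvv : (v : G) * (v : G) ∈ Subgroup.center G := Subgroup.mul_mem _ v.2 v.2
  have hcomm : ((x : G) * (v : G)) * ((x : G) * (v : G)) =
      ((x : G) * (x : G)) * ((v : G) * (v : G)) := by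
    have hc : (v : G) * (x : G) = (x : G) * (v : G) := (Subgroup.mem_center_iff.mp v.2 (x : G)).symm
    calc ((x : G) * (v : G)) * ((x : G) * (v : G))
        = (x : G) * ((v : G) * (x : G)) * (v : G) := by group
      _ = (x : G) * ((x : G) * (v : G)) * (v : G) := by rw [hc]
      _ = _ := by group
  have e2 : ζ (((x : G) * (x : G)) * ((v : G) * (v : G))) * ζ 1 =
      ζ ((v : G) * (v : G)) * ζ ((x : G) * (x : G)) :=
    Cfsg.Agent.Lib.Helper76_GalConj.irr_mul_central z hvv ((x : G) * (x : G))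
  have e3 : ζ ((v : G) * (v : G)) * ζ 1 = ζ (v : G) * ζ (v : G) :=
    Cfsg.Agent.Lib.Helper76_GalConj.irr_mul_central z v.2 (v : G)
  have e4 : ζ (v : G) * conj (ζ (v : G)) = ζ 1 ^ 2 :=
    Cfsg.Agent.Lib.Helper76_GalConj.irr_center_normSq z v.2
  have e5 : conj (ζ 1) = ζ 1 := by
    have := Cfsg.Agent.Lib.Helper16_BrauerFinal.charDegree_cast z
    rw [show ((z : G → ℂ) 1) = ζ 1 from rfl] at this
    rw [← this, Complex.conj_natCast]
  -- values on `P`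
  have hxx : x * x ≠ 1 := by
    intro h1
    have h2 : orderOf x ∣ 2 := orderOf_dvd_of_pow_eq_one (by rw [pow_two]; exact h1)
    have h3 : orderOf x ∣ p := by
      have := orderOf_dvd_natCard x
      rwa [show Nat.card ↥(P : Subgroup G) = p from hP] at this
    have h4 : orderOf x ∣ Nat.gcd 2 p := Nat.dvd_gcd h2 h3
    have h5 : Nat.gcd 2 p = 1 := by
      rw [Nat.coprime_comm.mp ((Nat.Prime.coprime_iff_not_dvd hp.out).mpr (by
        intro hd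
        have := Nat.le_of_dvd (by norm_num) hd
        omega))]
    rw [h5] at h4
    exact hx (orderOf_eq_one_iff.mp (Nat.dvd_one.mp h4))
  have v1 := hval x hx
  have v2 := hval (x * x) hxx
  rw [Subgroup.coe_mul, map_mul] at v2
  set l : ℂˣ := lam x with hl
  have hl2 : (((lam ^ 2) x : ℂˣ) : ℂ) = (l : ℂ) ^ 2 := by
    rw [MonoidHom.pow_apply]
    push_cast
    rfl
  have hl2i : ((((lam ^ 2) x)⁻¹ : ℂˣ) : ℂ) = ((l⁻¹ : ℂˣ) : ℂ) ^ 2 := by
    rw [MonoidHom.pow_apply, ← inv_pow]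
    push_cast
    rfl
  have hll : (l : ℂ) * ((l⁻¹ : ℂˣ) : ℂ) = 1 := by
    rw [← Units.val_mul, mul_inv_cancel, Units.val_one]
  rw [hl2, hl2i]
  -- express everything through `t = ζ v / ζ 1`
  have hϑv := hϑ₂ v
  set d : ℂ := ζ 1 with hd
  set t : ℂ := ζ (v : G) / d with ht
  have htd : ζ (v : G) = t * d := by
    rw [ht]; field_simp
  have hA : ζ ((x : G) * (v : G)) = t * ζ (x : G) := by
    apply mul_right_cancel₀ hζ1
    rw [e1, htd]; ring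
  have hvv' : ζ ((v : G) * (v : G)) = t * t * d := by
    apply mul_right_cancel₀ hζ1
    rw [e3, htd]; ring
  have hB : ζ (((x : G) * (v : G)) * ((x : G) * (v : G))) = t * t * ζ ((x : G) * (x : G)) := by
    rw [hcomm]
    apply mul_right_cancel₀ hζ1
    rw [e2, hvv']; ring
  have hC : (ϑ₂ : ↥(Subgroup.center G) → ℂ) v = t * t := by
    apply mul_right_cancel₀ hζ1
    rw [hϑv, hvv']
  have ht1 : t * conj t = 1 := by
    have h1 : conj (ζ (v : G)) = conj t * d := by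
      rw [htd, map_mul, e5]
    rw [h1, htd] at e4
    have h2 : (t * conj t) * (d ^ 2) = 1 * d ^ 2 := by
      linear_combination e4
    exact mul_right_cancel₀ (pow_ne_zero 2 hζ1) h2
  rw [hA, hB, hC, v1, v2, map_mul]
  have hl' : ((l * l : ℂˣ) : ℂ) = (l : ℂ) * (l : ℂ) := by push_cast; rfl
  have hli' : (((l * l)⁻¹ : ℂˣ) : ℂ) = ((l⁻¹ : ℂˣ) : ℂ) * ((l⁻¹ : ℂˣ) : ℂ) := by
    rw [mul_inv]; push_cast; rfl
  rw [hl', hli']
  set a : ℂ := (l : ℂ) with ha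
  set b : ℂ := ((l⁻¹ : ℂˣ) : ℂ) with hb
  set tc : ℂ := conj t with htc
  have hab : a * b = 1 := hll
  linear_combination ((a + b) ^ 2 + a * a + b * b) / 2 * (t * tc + 1) * ht1 + hab

end altvals


section main

variable [Fintype ↥(P : Subgroup G)] [Fintype ↥(Subgroup.center G)]
  [Fintype (↥(P : Subgroup G) →* ℂˣ)] {ζ : G → ℂ}

theorem not_dvd_mul_of_lt (hp5 : 5 < p) {j : ℕ} (hj : ¬ p ∣ j) {c : ℕ} (hc0 : 0 < c) (hc : c < p) :
    ¬ p ∣ c * j := by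
  intro hd
  rcases (Nat.Prime.dvd_mul hp.out).mp hd with h | h
  · exact absurd (Nat.le_of_dvd hc0 h) (by omega)
  · exact hj h

theorem lam_pow_ne_inv (hP : Nat.card P = p) (hp5 : 5 < p) (lam : ↥(P : Subgroup G) →* ℂˣ)
    (hlam : lam ≠ 1) {a b : ℕ} (hab : ¬ p ∣ a + b) : lam ^ a ≠ (lam ^ b)⁻¹ := by
  intro h
  apply lam_pow_ne_one hP lam hlam (a + b) hab
  ext x
  have h3 := DFunLike.congr_fun h x
  simp only [MonoidHom.inv_apply, MonoidHom.pow_apply] at h3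
  rw [MonoidHom.pow_apply, pow_add, h3, inv_mul_cancel]
  rfl

open scoped Classical in
/-- KEYID from the package conclusions PCOMPL, SFUN, KAPPA as hypotheses. -/
theorem keyid_of (h : Hyp G p P ζ) (hl : Loc G p P ζ) (hPC : IsPCompl P (Subgroup.center G))
    (hSF : ∀ lam : ↥(P : Subgroup G) →* ℂˣ,
      (∀ x : ↥(P : Subgroup G), x ≠ 1 →
        ζ (x : G) = -(((lam x : ℂˣ) : ℂ) + (((lam x)⁻¹ : ℂˣ) : ℂ))) →
      ∀ k : ℕ, k.Coprime (Nat.card G) →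
      ∃ (ϑ : IrrCharacter ↥(Subgroup.center G)) (χ : IrrCharacter G),
        (∀ g : G, (χ : G → ℂ) g = ζ (g ^ k)) ∧
        (∀ w : ↥(Subgroup.center G), (ϑ : ↥(Subgroup.center G) → ℂ) w * ζ 1 = ζ ((w : G) ^ k)) ∧
        ∀ x : ↥(P : Subgroup G), x ≠ 1 →
          sfun P (Subgroup.center G) ϑ χ x =
            -((((lam ^ k) x : ℂˣ) : ℂ) + ((((lam ^ k) x)⁻¹ : ℂˣ) : ℂ)))
    (hKA : ∀ j : ℕ, ¬ p ∣ j →
      ∃ κ : ℕ, κ.Coprime (Nat.card G) ∧ κ ≡ j [MOD p] ∧ κ ≡ 1 [MOD Nat.card G / p])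
    (k₂ : ℕ) (hk : k₂.Coprime (Nat.card G)) (hk1 : k₂ ≡ 1 [MOD p])
    (hkz : k₂ ≡ 2 [MOD Nat.card (Subgroup.center G)]) :
    ∀ g : G, ¬ p ∣ orderOf g → ζ (g * g) = ζ g ^ 2 - ((p : ℂ) - 3) * ζ (g ^ k₂) := by
  obtain ⟨lam, hlam1, hval⟩ := hl.vals
  have hP := h.cardP
  have hp5 := h.p5
  have hp2 := hp.out.two_le
  obtain ⟨ϑ₂, hϑ₂, hfam⟩ := exists_family h hPC lam (hSF lam hval) hKA k₂ hk hk1 hkz
  -- `e = 2`
  have he : (Subgroup.centralizer ((P : Subgroup G) : Set G)).relIndex (stab hPC ϑ₂) = 2 := by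
    have hst : stab hPC ϑ₂ = Subgroup.normalizer ((P : Subgroup G) : Set G) := by
      ext n
      rw [mem_stab_iff]
      constructor
      · exact fun h => h.1
      · intro hn
        refine ⟨hn, fun v v' hv => ?_⟩
        have hvv : v' = v := by
          apply Subtype.ext
          rw [hv, Subgroup.mem_center_iff.mp v.2 n]
          group
        rw [hvv]
    rw [hst]
    exact hl.idx
  obtain ⟨X, Y, εX, ε, hBXY, hdisj, hXc, hYc, hXp, hε, hYp, hYu, hYs⟩ :=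
    gen_structure hP hPC ϑ₂ 2 he (Cfsg.Agent.Lib.Helper57_CTGen.ct_gen p P hP)
      (Cfsg.Agent.Lib.Helper74_H1V.h1V hP hPC ϑ₂)
  -- the characters `lam ^ j`
  have hμ1 : ∀ j : ℕ, ¬ p ∣ j → lam ^ j ≠ 1 := fun j hj => lam_pow_ne_one hP lam hlam1 j hj
  have hμ2 : ∀ j : ℕ, ¬ p ∣ j → lam ^ j ≠ (lam ^ j)⁻¹ := by
    intro j hj
    apply lam_pow_ne_inv hP hp5 lam hlam1
    have := not_dvd_mul_of_lt hp5 hj (c := 2) (by norm_num) (by omega)
    rwa [two_mul] at this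
  have hgen : ∀ φ : ↥(P : Subgroup G) →* ℂˣ, φ ≠ 1 → ∃ j : ℕ, ¬ p ∣ j ∧ φ = lam ^ j := by
    intro φ hφ
    have hcard : Nat.card (↥(P : Subgroup G) →* ℂˣ) = p := by
      rw [Cfsg.Agent.Lib.Helper25_AbDual.card_hom (comm_of_card P hP)]
      exact hP
    have htop := zpowers_eq_top_of_prime_card hcard hlam1
    have hmem : φ ∈ Subgroup.zpowers lam := by rw [htop]; trivial
    have hfin : Finite (↥(P : Subgroup G) →* ℂˣ) := Finite.of_fintype _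
    rw [← mem_powers_iff_mem_zpowers] at hmem
    obtain ⟨j, hj⟩ := hmem
    simp only at hj
    refine ⟨j, ?_, hj.symm⟩
    rintro ⟨c, rfl⟩
    apply hφ
    rw [← hj]
    ext x
    have hx := DFunLike.congr_fun (lam_pow_p hP lam) x
    simp only [MonoidHom.pow_apply, MonoidHom.one_apply] at hx ⊢
    rw [pow_mul, hx, one_pow]
  -- members of the family lie in `Y`
  have hfamY : ∀ j : ℕ, ¬ p ∣ j → ∀ χ : IrrCharacter G,
      (∀ x : ↥(P : Subgroup G), x ≠ 1 → sfun P (Subgroup.center G) ϑ₂ χ x =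
        -((((lam ^ j) x : ℂˣ) : ℂ) + ((((lam ^ j) x)⁻¹ : ℂˣ) : ℂ))) →
      χ ∈ Y ∧ nng hPC ϑ₂ χ (lam ^ j) = -1 := by
    intro j hj χ hs
    have hnn := nng_of_sfun hP hPC ϑ₂ χ (lam ^ j) (hμ1 j hj) (hμ2 j hj) hs
    have hχφ : nng hPC ϑ₂ χ (lam ^ j) = -1 := by
      rw [hnn _ (hμ1 j hj), if_pos (Or.inl rfl)]
    refine ⟨?_, hχφ⟩
    have hB : χ ∈ BGen P (Subgroup.center G) ϑ₂ := by
      by_contra hB
      rw [nng_eq_zero hP hPC ϑ₂ hB] at hχφ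
      norm_num at hχφ
    rcases (hBXY χ).mp hB with hX | hY
    · exfalso
      obtain ⟨hεχ, hall⟩ := hXp χ hX
      have h2j : ¬ p ∣ 2 * j := not_dvd_mul_of_lt hp5 hj (by norm_num) (by omega)
      have h3j : ¬ p ∣ 2 * j + j := by
        have := not_dvd_mul_of_lt hp5 hj (c := 3) (by norm_num) (by omega)
        have e : 2 * j + j = 3 * j := by ring
        rwa [e]
      have hφ' : lam ^ (2 * j) ≠ 1 := hμ1 _ h2j
      have h1 := hall _ hφ'
      rw [hnn _ hφ'] at h1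
      have hne1 : lam ^ (2 * j) ≠ lam ^ j := by
        intro heq
        apply hμ1 j hj
        ext x
        have hx := DFunLike.congr_fun heq x
        simp only [MonoidHom.pow_apply, MonoidHom.one_apply] at hx ⊢
        rw [two_mul, pow_add] at hx
        exact congrArg Units.val
          (mul_left_cancel (a := lam x ^ j) (hx.trans (mul_one _).symm))
      have hne2 : lam ^ (2 * j) ≠ (lam ^ j)⁻¹ := lam_pow_ne_inv hP hp5 lam hlam1 h3j
      rw [if_neg (by tauto)] at h1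
      rcases hεχ with h' | h' <;> rw [h'] at h1 <;> norm_num at h1
    · exact hY
  -- `ε = -1`
  have h1not : ¬ p ∣ 1 := fun hd => hp.out.one_lt.ne' (Nat.dvd_one.mp hd)
  have hε1 : ε = -1 := by
    obtain ⟨χ, -, -, hs⟩ := hfam 1 h1not
    obtain ⟨hχY, hχφ⟩ := hfamY 1 h1not χ hs
    rcases hYp χ hχY (lam ^ 1) (hμ1 1 h1not) with h' | h'
    · rw [h'] at hχφ; norm_num at hχφ
    · rw [← h', hχφ]
  -- all of `Y`
  have hYall : ∀ ψ ∈ Y, charDegree (ψ : G → ℂ) = p - 2 ∧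
      ∀ g : G, ¬ p ∣ orderOf g → (ψ : G → ℂ) g = ζ (g ^ k₂) := by
    intro ψ hψ
    have hne : (Finset.univ.filter
        (fun φ : ↥(P : Subgroup G) →* ℂˣ => nng hPC ϑ₂ ψ φ ≠ 0)).Nonempty := by
      rw [← Finset.card_pos, hYs ψ hψ]
      norm_num
    obtain ⟨φ, hφ⟩ := hne
    have hφne : nng hPC ϑ₂ ψ φ ≠ 0 := (Finset.mem_filter.mp hφ).2
    have hφ1 : φ ≠ 1 := by
      rintro rfl
      exact hφne (nng_one hPC ϑ₂ ψ)
    obtain ⟨j, hj, rfl⟩ := hgen φ hφ1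
    obtain ⟨χ, hdeg, hreg, hs⟩ := hfam j hj
    obtain ⟨hχY, hχφ⟩ := hfamY j hj χ hs
    obtain ⟨ψ₀, hψ₀Y, hψ₀ne, hψ₀u⟩ := hYu (lam ^ j) (hμ1 j hj)
    have e1 : ψ = ψ₀ := hψ₀u ψ hψ hφne
    have e2 : χ = ψ₀ := hψ₀u χ hχY (by rw [hχφ]; norm_num)
    rw [e1, ← e2]
    exact ⟨hdeg, hreg⟩
  -- the character `Alt² ζ`
  set A : G → ℂ := fun g => (ζ g ^ 2 - ζ (g * g)) / 2 with hAdef
  have hA : IsCharacter G A := Cfsg.Agent.Lib.Helper68_F5040_ALTSQ.isCharacter_altSq ζ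
    (Cfsg.Agent.Lib.Helper3_CharBridge.isCharacter_of_isIrrCharacter h.irr)
  obtain ⟨m, hm, hsum⟩ := Cfsg.Agent.Lib.Helper75_CharArith.exists_multiplicities hA
  have hζ1 : ζ 1 = ((p - 2 : ℕ) : ℂ) := by
    have := Cfsg.Agent.Lib.Helper16_BrauerFinal.charDegree_cast (⟨ζ, h.irr⟩ : IrrCharacter G)
    rw [show ((⟨ζ, h.irr⟩ : IrrCharacter G) : G → ℂ) = ζ from rfl, h.deg] at this
    exact this.symm
  have hAeval : ∀ g : G, A g = ∑ χ : IrrCharacter G, (m χ : ℂ) * (χ : G → ℂ) g := by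
    intro g
    have := congrFun hsum g
    rw [this, Finset.sum_apply]
    rfl
  obtain ⟨t, ht⟩ : ∃ t : ℕ, p = 2 * t + 1 := by
    obtain ⟨t, ht⟩ := hp.out.odd_of_ne_two (by omega)
    exact ⟨t, ht⟩
  have hdegA : 2 * ∑ χ : IrrCharacter G, m χ * charDegree (χ : G → ℂ) = (p - 2) * (p - 3) := by
    have h1 := Cfsg.Agent.Lib.Helper3_Brauer503R.charDegree_eq_sum m hsum
    rw [← h1]
    have hA1 : A 1 = (((p - 2) * (t - 1) : ℕ) : ℂ) := by
      simp only [hAdef, one_mul, hζ1]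
      have e1 : p - 2 = 2 * t - 1 := by omega
      have e2 : (((2 * t - 1 : ℕ)) : ℂ) = 2 * (t : ℂ) - 1 := by
        rw [Nat.cast_sub (by omega)]; push_cast; ring
      have e3 : (((t - 1 : ℕ)) : ℂ) = (t : ℂ) - 1 := by
        rw [Nat.cast_sub (by omega)]; push_cast; ring
      rw [e1]
      push_cast
      rw [e2, e3]
      ring
    have : charDegree A = (p - 2) * (t - 1) := by
      unfold charDegree
      rw [hA1, Complex.natCast_re, Nat.floor_natCast]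
    rw [this]
    have e4 : p - 3 = 2 * (t - 1) := by omega
    rw [e4]
    ring
  -- the nng-sums of `A`
  have hcardV : (Nat.card ↥(Subgroup.center G) : ℂ) ≠ 0 := by
    rw [Nat.cast_ne_zero]
    exact Nat.card_pos.ne'
  have h2not : ¬ p ∣ 2 := fun hd => by
    have := Nat.le_of_dvd (by norm_num) hd
    omega
  have hc : ∀ φ : ↥(P : Subgroup G) →* ℂˣ, φ ≠ 1 →
      ∑ χ : IrrCharacter G, (m χ : ℤ) * nng hPC ϑ₂ χ φ =
        if (φ = lam ^ 2 ∨ φ = (lam ^ 2)⁻¹) then 0 else -1 := by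
    intro φ hφ
    have hf : ∀ x : ↥(P : Subgroup G), x ≠ 1 →
        (fun h : ↥(P : Subgroup G) =>
          ∑ χ : IrrCharacter G, (m χ : ℂ) * sfun P (Subgroup.center G) ϑ₂ χ h) x =
        1 + 1 * ((((lam ^ 2) x : ℂˣ) : ℂ) + ((((lam ^ 2)⁻¹) x : ℂˣ) : ℂ)) := by
      intro x hx
      show ∑ χ : IrrCharacter G, (m χ : ℂ) * sfun P (Subgroup.center G) ϑ₂ χ x = _
      unfold sfun
      have e1 : ∑ χ : IrrCharacter G, (m χ : ℂ) *
          ((Nat.card ↥(Subgroup.center G) : ℂ)⁻¹ * ∑ v : ↥(Subgroup.center G),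
            (χ : G → ℂ) ((x : G) * (v : G)) * conj ((ϑ₂ : ↥(Subgroup.center G) → ℂ) v)) =
          (Nat.card ↥(Subgroup.center G) : ℂ)⁻¹ * ∑ v : ↥(Subgroup.center G),
            A ((x : G) * (v : G)) * conj ((ϑ₂ : ↥(Subgroup.center G) → ℂ) v) := by
        simp_rw [hAeval, Finset.sum_mul, Finset.mul_sum]
        rw [Finset.sum_comm]
        refine Finset.sum_congr rfl fun v _ => ?_
        refine Finset.sum_congr rfl fun χ _ => ?_
        ring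
      rw [e1]
      have e2 : ∀ v : ↥(Subgroup.center G),
          A ((x : G) * (v : G)) * conj ((ϑ₂ : ↥(Subgroup.center G) → ℂ) v) =
          1 + ((((lam ^ 2) x : ℂˣ) : ℂ) + ((((lam ^ 2) x)⁻¹ : ℂˣ) : ℂ)) :=
        fun v => alt_val h lam hval ϑ₂ hϑ₂ x hx v
      simp_rw [e2]
      rw [Finset.sum_const, Finset.card_univ, nsmul_eq_mul, ← Nat.card_eq_fintype_card,
        MonoidHom.inv_apply]
      field_simp
    have hfd := fourier_diff hP _ 1 1 (lam ^ 2) (lam ^ 2)⁻¹ (hμ1 2 h2not)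
      (inv_ne_one' (hμ1 2 h2not)) (hμ2 2 h2not) hf φ hφ
    have hC : ((∑ χ : IrrCharacter G, (m χ : ℤ) * nng hPC ϑ₂ χ φ : ℤ) : ℂ) =
        (if (φ = lam ^ 2 ∨ φ = (lam ^ 2)⁻¹) then (1 : ℂ) else 0) - 1 := by
      rw [← hfd]
      push_cast
      simp_rw [nng_eq hP hPC ϑ₂]
      rw [Finset.mul_sum]
      simp_rw [Finset.sum_mul, Finset.mul_sum]
      rw [Finset.sum_comm]
      refine Finset.sum_congr rfl fun v _ => ?_
      refine Finset.sum_congr rfl fun χ _ => ?_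
      ring
    split_ifs with hcase
    · rw [if_pos hcase] at hC
      have : ((∑ χ : IrrCharacter G, (m χ : ℤ) * nng hPC ϑ₂ χ φ : ℤ) : ℂ) = ((0 : ℤ) : ℂ) := by
        rw [hC]; norm_num
      exact_mod_cast this
    · rw [if_neg hcase] at hC
      have : ((∑ χ : IrrCharacter G, (m χ : ℤ) * nng hPC ϑ₂ χ φ : ℤ) : ℂ) = ((-1 : ℤ) : ℂ) := by
        rw [hC]; norm_num
      exact_mod_cast this
  -- the multiplicity lemma
  obtain ⟨hoff, h2S⟩ := alt_mult hP hp5 hPC ϑ₂ X Y εX hBXY hdisj (fun χ hχ => (hXp χ hχ).2)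
    (fun ψ hψ φ hφ => by rw [← hε1]; exact hYp ψ hψ φ hφ) hYs (fun ψ hψ => (hYall ψ hψ).1)
    m hdegA (lam ^ 2) (hμ1 2 h2not) (hμ2 2 h2not) hc
  -- evaluation
  intro g hg
  have h1 : A g = (∑ ψ ∈ Y, (m ψ : ℂ)) * ζ (g ^ k₂) := by
    rw [hAeval g, Finset.sum_mul]
    rw [← Finset.sum_subset (Finset.subset_univ Y)]
    · refine Finset.sum_congr rfl fun ψ hψ => ?_
      rw [(hYall ψ hψ).2 g hg]
    · intro χ _ hχ
      rw [hoff χ hχ]
      simp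
  have h2 : (2 : ℂ) * ∑ ψ ∈ Y, (m ψ : ℂ) = (p : ℂ) - 3 := by
    have : ((2 * ∑ ψ ∈ Y, m ψ : ℕ) : ℂ) = ((p - 3 : ℕ) : ℂ) := by rw [h2S]
    rw [Nat.cast_sub (by omega)] at this
    push_cast at this
    exact this
  have h3 : ζ g ^ 2 - ζ (g * g) = 2 * A g := by
    simp only [hAdef]
    ring
  have h4 : ζ g ^ 2 - ζ (g * g) = ((p : ℂ) - 3) * ζ (g ^ k₂) := by
    rw [h3, h1, ← mul_assoc, h2]
  linear_combination -h4

end main

section final

variable {G : Type u} [Group G] [Fintype G] {p : ℕ} [hp : Fact p.Prime] {P : Sylow p G}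
  {V : Subgroup G} {ζ : G → ℂ}

/-- **P2-KEYID** (XL, helper3).  See B1 of the paper proof. -/
theorem keyid (h : Hyp G p P ζ) (hl : Loc G p P ζ) (k₂ : ℕ) (hk : k₂.Coprime (Nat.card G))
    (hk1 : k₂ ≡ 1 [MOD p]) (hkz : k₂ ≡ 2 [MOD Nat.card (Subgroup.center G)]) :
    ∀ g : G, ¬ p ∣ orderOf g → ζ (g * g) = ζ g ^ 2 - ((p : ℂ) - 3) * ζ (g ^ k₂) := by
  classical
  let _ : Fintype ↥(P : Subgroup G) := Fintype.ofFinite _
  let _ : Fintype ↥(Subgroup.center G) := Fintype.ofFinite _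
  let _ : Fintype (↥(P : Subgroup G) →* ℂˣ) := Fintype.ofFinite _
  have hPC := Cfsg.Agent.Lib.Helper53_P2_PCOMPL.isPCompl_center h hl
  exact keyid_of h hl hPC
    (fun lam hval k hk' => Cfsg.Agent.Lib.Helper16_P2_SFUN.sfun_twist h hPC lam hval k hk')
    (fun j hj => Cfsg.Agent.Lib.Helper42_P2_KAPPA.exists_kappa h.cardP j hj)
    k₂ hk hk1 hkz

end final

end Cfsg.Agent.Lib.Helper3_P2_KEYID
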