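import Mathlib
import Cfsg.Prelude.Def_Characters
import Cfsg.Prelude.Def_Blocks
import Cfsg.Prelude.Def_Solvable
import Cfsg.Prelude.Def_Local
import Cfsg.Agent.Lib.Helper3_P2Defs
import Cfsg.Agent.Lib.Helper16_GenSetup
import Cfsg.Agent.Lib.Helper16_GenMain
import Cfsg.Agent.Lib.Helper16_GenFinal
import Cfsg.Agent.Lib.Helper16_SmallDeg
import Cfsg.Agent.Lib.Helper31_P2_INV

/-!
# S4705 package P2-ODD (helper52, architect helper3)

`ζ` vanishes on the non-central `p`-regular elements of odd order.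
-/

set_option autoImplicit false
set_option linter.unusedSectionVars false
set_option linter.unusedVariables false

namespace Cfsg.Agent.Lib.Helper52_P2_ODD

open Cfsg Cfsg.Agent.Lib.Helper3_P2Defs Cfsg.Agent.Lib.Helper16_GenSetup
  Cfsg.Agent.Lib.Helper16_GenMain Cfsg.Agent.Lib.Helper16_GenFinal
open scoped ComplexConjugate

universe u

/-- A nonnegative real with `b = b ^ (2 ^ r)`, `r ≥ 1`, is `0` or `1`. -/
theorem eq_zero_or_one_of_pow (b : ℝ) (hb : 0 ≤ b) (r : ℕ) (hr : 1 ≤ r) (h : b ^ (2 ^ r) = b) :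
    b = 0 ∨ b = 1 := by
  by_cases h0 : b = 0
  · exact Or.inl h0
  · right
    have h2 : 2 ≤ 2 ^ r := by
      calc 2 = 2 ^ 1 := by norm_num
        _ ≤ 2 ^ r := Nat.pow_le_pow_right (by norm_num) hr
    obtain ⟨m, hm⟩ := Nat.exists_eq_add_of_le h2
    have hm' : 2 ^ r = (m + 1) + 1 := by omega
    rw [hm', pow_succ] at h
    have h3 : b ^ (m + 1) = 1 := by
      have : (b ^ (m + 1) - 1) * b = 0 := by linear_combination h
      rcases mul_eq_zero.mp this with h4 | h4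
      · linear_combination h4
      · exact absurd h4 h0
    exact (pow_eq_one_iff_of_nonneg hb (Nat.succ_ne_zero m)).mp h3

section partB2

variable {G : Type u} [Group G] [Finite G] {p : ℕ} [hp : Fact p.Prime] {P : Sylow p G}
  {ζ : G → ℂ} {k₂ : ℕ}

/-- the squaring identity on odd `p`-regular elements -/
theorem sq_identity (hc : Core G p P ζ k₂) (g : G) (hodd : Odd (orderOf g))
    (hpr : ¬ p ∣ orderOf g) : ((p : ℂ) - 2) * ζ (g * g) = ζ g ^ 2 := by
  have hkey := hc.key g hpr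
  rw [hc.k2odd g hodd hpr] at hkey
  linear_combination hkey

/-- **P2-ODD** -/
theorem odd_vals (hc : Core G p P ζ k₂) :
    ∀ g : G, Odd (orderOf g) → ¬ p ∣ orderOf g → ζ g = 0 ∨ g ∈ Subgroup.center G := by
  intro g hodd hpr
  have hp5 := hc.p5
  have hpos : (0 : ℝ) < (p : ℝ) - 2 := by
    have : (5 : ℝ) < (p : ℝ) := by exact_mod_cast hp5
    linarith
  have hnorm2 : ‖((p : ℂ) - 2)‖ = (p : ℝ) - 2 := by
    have : ((p : ℂ) - 2) = (((p : ℝ) - 2 : ℝ) : ℂ) := by push_cast; ring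
    rw [this, Complex.norm_real, Real.norm_of_nonneg hpos.le]
  -- the sequence `b i`
  let b : ℕ → ℝ := fun i => ‖ζ (g ^ (2 ^ i))‖ / ((p : ℝ) - 2)
  have hoddi : ∀ i : ℕ, Odd (orderOf (g ^ (2 ^ i))) := by
    intro i
    have hdvd : orderOf (g ^ (2 ^ i)) ∣ orderOf g := orderOf_pow_dvd _
    exact Odd.of_dvd_nat hodd hdvd
  have hpri : ∀ i : ℕ, ¬ p ∣ orderOf (g ^ (2 ^ i)) := by
    intro i hdvd
    exact hpr (hdvd.trans (orderOf_pow_dvd _))
  have hstep : ∀ i : ℕ, b (i + 1) = b i ^ 2 := by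
    intro i
    have h1 := sq_identity hc (g ^ (2 ^ i)) (hoddi i) (hpri i)
    have h2 : g ^ (2 ^ i) * g ^ (2 ^ i) = g ^ (2 ^ (i + 1)) := by
      rw [← pow_add, pow_succ, mul_two]
    rw [h2] at h1
    have h3 := congrArg norm h1
    rw [norm_mul, norm_pow, hnorm2] at h3
    show ‖ζ (g ^ (2 ^ (i + 1)))‖ / ((p : ℝ) - 2) = (‖ζ (g ^ (2 ^ i))‖ / ((p : ℝ) - 2)) ^ 2
    rw [div_pow, ← h3]
    field_simp
  have hpow : ∀ i : ℕ, b i = b 0 ^ (2 ^ i) := by
    intro i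
    induction i with
    | zero => simp
    | succ i ih => rw [hstep, ih, ← pow_mul, pow_succ]
  -- `g ^ (2 ^ r) = g` for `r = φ (orderOf g)`
  have hn : 0 < orderOf g := orderOf_pos g
  have hcop : Nat.Coprime 2 (orderOf g) := by
    exact Nat.coprime_two_left.mpr hodd
  have hr : 1 ≤ Nat.totient (orderOf g) := Nat.totient_pos.mpr hn
  have hgr : g ^ (2 ^ Nat.totient (orderOf g)) = g := by
    have := Nat.ModEq.pow_totient hcop
    have h4 : g ^ (2 ^ Nat.totient (orderOf g)) = g ^ 1 := by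
      rw [pow_eq_pow_iff_modEq]; exact this
    rw [h4, pow_one]
  have hb0 : b 0 ^ (2 ^ Nat.totient (orderOf g)) = b 0 := by
    rw [← hpow]
    show ‖ζ (g ^ (2 ^ Nat.totient (orderOf g)))‖ / ((p : ℝ) - 2) = ‖ζ (g ^ (2 ^ 0))‖ / ((p : ℝ) - 2)
    rw [hgr, pow_zero, pow_one]
  have hb0nn : 0 ≤ b 0 := div_nonneg (norm_nonneg _) hpos.le
  have hb0def : b 0 = ‖ζ g‖ / ((p : ℝ) - 2) := by
    show ‖ζ (g ^ (2 ^ 0))‖ / ((p : ℝ) - 2) = _
    rw [pow_zero, pow_one]
  rcases eq_zero_or_one_of_pow (b 0) hb0nn _ hr hb0 with h0 | h1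
  · left
    rw [hb0def, div_eq_zero_iff] at h0
    rcases h0 with h0 | h0
    · exact norm_eq_zero.mp h0
    · exact absurd h0 hpos.ne'
  · right
    rw [hb0def, div_eq_one_iff_eq hpos.ne'] at h1
    refine Cfsg.Agent.Lib.Helper16_SmallDeg.mem_center_of_norm_eq (⟨ζ, hc.irr⟩ : IrrCharacter G)
      hc.faith g ?_
    show ‖ζ g‖ = ‖ζ 1‖
    rw [h1, Cfsg.Agent.Lib.Helper31_P2_INV.apply_one hc.toHyp, hnorm2]

end partB2

end Cfsg.Agent.Lib.Helper52_P2_ODD
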