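import Mathlib
import Cfsg.Prelude.Def_Characters
import Cfsg.Prelude.Def_Blocks
import Cfsg.Prelude.Def_Solvable
import Cfsg.Prelude.Def_Local
import Cfsg.Agent.Lib.Helper3_P2Defs
import Cfsg.Agent.Lib.Helper16_GenSetup
import Cfsg.Agent.Lib.Helper16_GenMain
import Cfsg.Agent.Lib.Helper16_GenFinal
import Cfsg.Agent.Lib.Helper53_P2_CU

/-!
# S4705 package P2-VALS (architect helper3): the `p`-regular elements are central, (involution)·(central),
or zeros of `ζ`.
-/

set_option autoImplicit false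
set_option linter.unusedSectionVars false
set_option linter.unusedVariables false

namespace Cfsg.Agent.Lib.Helper53_P2_VALS

open Cfsg Cfsg.Agent.Lib.Helper3_P2Defs Cfsg.Agent.Lib.Helper16_GenSetup
  Cfsg.Agent.Lib.Helper16_GenMain Cfsg.Agent.Lib.Helper16_GenFinal
open scoped ComplexConjugate

universe u

variable {G : Type u} [Group G] [Finite G] {p : ℕ} [hp : Fact p.Prime] {P : Sylow p G}
  {ζ : G → ℂ} {k₂ : ℕ}

theorem reg_vals (hc : Core G p P ζ k₂)
    (hodd : ∀ g : G, Odd (orderOf g) → ¬ p ∣ orderOf g → ζ g = 0 ∨ g ∈ Subgroup.center G)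
    (hno4 : ∀ u : G, orderOf u ≠ 4)
    (hcent : ∀ u h : G, orderOf u = 2 → Commute u h → Odd (orderOf h) → h ∈ Subgroup.center G) :
    RegVals G p ζ := by
  intro g hpg
  have hg0 : orderOf g ≠ 0 := (orderOf_pos g).ne'
  obtain ⟨a, b, s, m, hm, hta, htb, hgab⟩ := Cfsg.Agent.Lib.Helper53_P2_CU.two_odd_decomp g hg0
  have haa : g ^ a * g ^ a = 1 := Cfsg.Agent.Lib.Helper53_P2_CU.sq_eq_one_of_no4 hno4 _ s hta
  have hbodd : Odd (orderOf (g ^ b)) := Odd.of_dvd_nat hm (orderOf_dvd_of_pow_eq_one htb)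
  by_cases ha1 : g ^ a = 1
  · have hgb : g = g ^ b := by rw [ha1, one_mul] at hgab; exact hgab
    have hgodd : Odd (orderOf g) := by rw [hgb]; exact hbodd
    rcases hodd g hgodd hpg with h0 | hcen
    · right; right; exact h0
    · left; exact hcen
  · right; left
    have hoa : orderOf (g ^ a) = 2 := by
      refine orderOf_eq_prime ?_ ha1
      rw [pow_two]; exact haa
    have hcomm : Commute (g ^ a) (g ^ b) := (Commute.refl g).zpow_zpow a b
    exact ⟨g ^ a, hoa, g ^ b, hcent _ _ hoa hcomm hbodd, hgab⟩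

end Cfsg.Agent.Lib.Helper53_P2_VALS
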