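import Mathlib

/-!
# S4705 package P2-ARITH (architect helper3): the arithmetic of the three equations E1, E2, E3
-/

set_option autoImplicit false

namespace Cfsg.Agent.Lib.Helper55_P2_ARITH

/-- integer core -/
theorem core (P W N Q K : ℤ) (hP : 5 < P) (hW : 0 < W) (hK : 0 < K)
    (h1 : 4 * N = (P - 2) ^ 2 + (P - 2) * W)
    (h2 : ((P - 2) * W) ^ 2 + (P - 2) * ((P - 2) * W * (Q - 2)) =
      (P - 2) * ((P - 2) * W * (P - 2) + 2 * P * N))
    (h3 : (P - 2) * W * Q = 2 * P * N * K) :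
    2 * W ^ 2 = P * (2 * W + (1 - K) * (P - 2 + W)) ∧ 2 * W * Q = P * K * (P - 2 + W) := by
  have hd : (P - 2) ≠ 0 := by linarith
  have hdd : (P - 2) * (P - 2) ≠ 0 := mul_ne_zero hd hd
  have hA : 2 * W ^ 2 + 2 * W * (Q - 2) = 2 * (P - 2) * W + P * (P - 2 + W) := by
    apply mul_left_cancel₀ hdd
    linear_combination 2 * h2 + (P - 2) * P * h1
  have hB : 2 * W * Q = P * K * (P - 2 + W) := by
    apply mul_left_cancel₀ hdd
    linear_combination 2 * (P - 2) * h3 + (P - 2) * P * K * h1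
  refine ⟨?_, hB⟩
  linear_combination hA - hB

theorem arith (p i n Q k' : ℕ) (hpp : p.Prime) (hp5 : 5 < p) (hi : 0 < i) (hQ : 2 ≤ Q)
    (hk' : 0 < k') (hdvd : (p - 2) ∣ i) (hE1 : 4 * n = (p - 2) ^ 2 + i)
    (hE2 : i ^ 2 + (p - 2) * (i * (Q - 2)) = (p - 2) * (i * (p - 2) + 2 * p * n))
    (hE3 : i * Q = 2 * p * n * k') :
    2 * n = (p - 1) * (p - 2) ∧ Q = p - 1 ∧ i = p * (p - 2) := by
  obtain ⟨w, rfl⟩ := hdvd
  have hp2 : 2 ≤ p := by omega
  have hw0 : 0 < w := by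
    rcases Nat.eq_zero_or_pos w with h | h
    · rw [h, mul_zero] at hi; omega
    · exact h
  have hP : (5 : ℤ) < (p : ℤ) := by exact_mod_cast hp5
  have hW : (0 : ℤ) < (w : ℤ) := by exact_mod_cast hw0
  have hK : (0 : ℤ) < (k' : ℤ) := by exact_mod_cast hk'
  have h1 : 4 * (n : ℤ) = ((p : ℤ) - 2) ^ 2 + ((p : ℤ) - 2) * w := by
    have := congrArg (fun x : ℕ => (x : ℤ)) hE1
    simp only [Nat.cast_mul, Nat.cast_add, Nat.cast_pow, Nat.cast_sub hp2, Nat.cast_ofNat] at this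
    exact this
  have h2 : (((p : ℤ) - 2) * w) ^ 2 + ((p : ℤ) - 2) * (((p : ℤ) - 2) * w * ((Q : ℤ) - 2)) =
      ((p : ℤ) - 2) * (((p : ℤ) - 2) * w * ((p : ℤ) - 2) + 2 * p * n) := by
    have := congrArg (fun x : ℕ => (x : ℤ)) hE2
    simp only [Nat.cast_mul, Nat.cast_add, Nat.cast_pow, Nat.cast_sub hp2, Nat.cast_sub hQ,
      Nat.cast_ofNat] at this
    exact this
  have h3 : ((p : ℤ) - 2) * w * Q = 2 * p * n * k' := by
    have := congrArg (fun x : ℕ => (x : ℤ)) hE3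
    simp only [Nat.cast_mul, Nat.cast_sub hp2, Nat.cast_ofNat] at this
    exact this
  obtain ⟨hC, hB⟩ := core p w n Q k' hP hW hK h1 h2 h3
  -- `p ∣ w`
  have hdz : (p : ℤ) ∣ 2 * (w : ℤ) ^ 2 := ⟨_, hC⟩
  have hdn : p ∣ 2 * w ^ 2 := by exact_mod_cast hdz
  have hpw : p ∣ w := by
    rcases (Nat.Prime.dvd_mul hpp).mp hdn with h | h
    · have := Nat.le_of_dvd (by norm_num) h
      omega
    · exact hpp.dvd_of_dvd_pow h
  obtain ⟨w₁, rfl⟩ := hpw
  have hw1 : 0 < w₁ := by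
    rcases Nat.eq_zero_or_pos w₁ with h | h
    · rw [h, mul_zero] at hw0; omega
    · exact h
  have hW1 : (1 : ℤ) ≤ (w₁ : ℤ) := by exact_mod_cast hw1
  push_cast at hC hB h1
  have hP0 : (p : ℤ) ≠ 0 := by linarith
  -- `(K - 1)(d + P W₁) = 2 P W₁ (1 - W₁)`
  have hD : ((k' : ℤ) - 1) * ((p : ℤ) - 2 + p * w₁) = 2 * p * w₁ * (1 - w₁) := by
    apply mul_left_cancel₀ hP0
    linear_combination hC
  have hpos : (0 : ℤ) < (p : ℤ) - 2 + p * w₁ := by nlinarith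
  have hL : (0 : ℤ) ≤ ((k' : ℤ) - 1) * ((p : ℤ) - 2 + p * w₁) :=
    mul_nonneg (by linarith) hpos.le
  have hR : 2 * (p : ℤ) * w₁ * (1 - w₁) ≤ 0 := by
    apply mul_nonpos_of_nonneg_of_nonpos
    · nlinarith
    · linarith
  have hzero : 2 * (p : ℤ) * w₁ * (1 - w₁) = 0 := le_antisymm hR (hD ▸ hL)
  have hw1eq : (w₁ : ℤ) = 1 := by
    rcases mul_eq_zero.mp hzero with h | h
    · exfalso
      have : (0 : ℤ) < 2 * (p : ℤ) * w₁ := by nlinarith
      linarith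
    · linarith
  have hKeq : (k' : ℤ) = 1 := by
    rw [hzero] at hD
    rcases mul_eq_zero.mp hD with h | h
    · linarith
    · linarith
  rw [hw1eq] at hC hB h1
  rw [hKeq] at hB
  have hw1n : w₁ = 1 := by exact_mod_cast hw1eq
  subst hw1n
  have hQz : (Q : ℤ) = (p : ℤ) - 1 := by
    have : 2 * (p : ℤ) * (Q : ℤ) = 2 * p * ((p : ℤ) - 1) := by linear_combination hB
    have h2p : (2 * (p : ℤ)) ≠ 0 := by linarith
    exact mul_left_cancel₀ h2p this
  have hnz : 2 * (n : ℤ) = ((p : ℤ) - 1) * ((p : ℤ) - 2) := by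
    have h2ne : (2 : ℤ) ≠ 0 := by norm_num
    apply mul_left_cancel₀ h2ne
    linear_combination h1
  have hp1 : 1 ≤ p := by omega
  refine ⟨?_, ?_, ?_⟩
  · have : ((2 * n : ℕ) : ℤ) = (((p - 1) * (p - 2) : ℕ) : ℤ) := by
      rw [Nat.cast_mul, Nat.cast_mul, Nat.cast_sub hp1, Nat.cast_sub hp2]
      push_cast
      exact hnz
    exact_mod_cast this
  · have : (Q : ℤ) = ((p - 1 : ℕ) : ℤ) := by
      rw [Nat.cast_sub hp1]; push_cast; exact hQz
    exact_mod_cast this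
  · ring

end Cfsg.Agent.Lib.Helper55_P2_ARITH
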