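import Mathlib

/-!
# S4705 package P2-RESID (architect helper3): the perfect residual of a finite group
-/

set_option autoImplicit false

namespace Cfsg.Agent.Lib.Helper55_P2_RESID

universe u

variable {G : Type u} [Group G] [Finite G]

/-- the derived series of a finite group stabilises -/
theorem exists_stab : ∃ n, derivedSeries G (n + 1) = derivedSeries G n := by
  by_contra hno
  push Not at hno
  have hlt : ∀ n, Nat.card (derivedSeries G (n + 1)) < Nat.card (derivedSeries G n) := by
    intro n
    have hle : derivedSeries G (n + 1) ≤ derivedSeries G n :=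
      derivedSeries_antitone G (Nat.le_succ n)
    rcases (Subgroup.card_le_of_le hle).lt_or_eq with h1 | h1
    · exact h1
    · exact absurd (Subgroup.eq_of_le_of_card_ge hle h1.ge) (hno n)
  have hbound : ∀ n, Nat.card (derivedSeries G n) + n ≤ Nat.card (derivedSeries G 0) := by
    intro n
    induction n with
    | zero => simp
    | succ n ih => have := hlt n; omega
  have := hbound (Nat.card (derivedSeries G 0) + 1)
  omega

/-- a subgroup equal to its own commutator is perfect as a group -/
theorem commutator_eq_top_of_self (S : Subgroup G) (hS : ⁅S, S⁆ = S) : commutator ↥S = ⊤ := by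
  apply Subgroup.map_injective S.subtype_injective
  rw [Subgroup.map_subtype_commutator, hS]
  ext x
  simp

theorem exists_resid : ∃ H : Subgroup G, ∃ _ : H.Normal, commutator ↥H = ⊤ ∧
    Group.IsSolvable (G ⧸ H) ∧ ∀ g : G, ∀ h ∈ H, g * h * g⁻¹ ∈ H := by
  obtain ⟨n, hn⟩ := exists_stab (G := G)
  have hN : (derivedSeries G n).Normal := inferInstance
  refine ⟨derivedSeries G n, hN, ?_, ?_, ?_⟩
  · exact commutator_eq_top_of_self _ (by rw [← derivedSeries_succ, hn])
  · rw [Group.isSolvable_def]
    refine ⟨n, ?_⟩
    rw [← map_derivedSeries_eq (QuotientGroup.mk'_surjective (derivedSeries G n)) n]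
    exact QuotientGroup.map_mk'_self _
  · intro g h hh
    exact hN.conj_mem h hh g

end Cfsg.Agent.Lib.Helper55_P2_RESID
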