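import Mathlib

/-!
# S4705 package P2-TRANS (architect helper3): a perfect group whose central quotient has cyclic
Sylow `r`-subgroups for the primes `r` dividing `|Z(G)|` has trivial centre (transfer)
-/

set_option autoImplicit false

namespace Cfsg.Agent.Lib.Helper55_P2_TRANS

universe u

variable {G : Type u} [Group G] [Finite G]

/-- a Sylow `r`-subgroup of `G` is abelian when the Sylow `r`-subgroups of `G / Z(G)` are cyclic -/
theorem sylow_comm {r : ℕ} [Fact r.Prime] (R : Sylow r G)
    (hcyc : ∀ R' : Sylow r (G ⧸ Subgroup.center G),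
      IsCyclic ↥(R' : Subgroup (G ⧸ Subgroup.center G)))
    (a b : ↥(R : Subgroup G)) : a * b = b * a := by
  obtain ⟨R', hR'⟩ := (R.2.map (QuotientGroup.mk' (Subgroup.center G))).exists_le_sylow
  haveI := hcyc R'
  obtain ⟨f, hf⟩ : ∃ f : ↥(R : Subgroup G) →* ↥(R' : Subgroup (G ⧸ Subgroup.center G)),
      ∀ x, ((f x : G ⧸ Subgroup.center G)) = QuotientGroup.mk' (Subgroup.center G) (x : G) :=
    ⟨((QuotientGroup.mk' (Subgroup.center G)).comp (R : Subgroup G).subtype).codRestrict
      (R' : Subgroup (G ⧸ Subgroup.center G))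
      (fun x => hR' (Subgroup.mem_map_of_mem _ x.2)), fun x => rfl⟩
  refine commutative_of_cyclic_center_quotient f ?_ a b
  intro x hx
  rw [MonoidHom.mem_ker] at hx
  have h1 : QuotientGroup.mk' (Subgroup.center G) (x : G) = 1 := by
    rw [← hf x, hx]; rfl
  rw [QuotientGroup.mk'_apply, QuotientGroup.eq_one_iff] at h1
  rw [Subgroup.mem_center_iff]
  intro y
  exact Subtype.ext (Subgroup.mem_center_iff.mp h1 (y : G))

theorem center_eq_bot_of_cyclic (hperf : commutator G = ⊤)
    (hcyc : ∀ r : ℕ, ∀ _ : Fact r.Prime, r ∣ Nat.card (Subgroup.center G) →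
      ∀ R : Sylow r (G ⧸ Subgroup.center G), IsCyclic ↥(R : Subgroup (G ⧸ Subgroup.center G))) :
    Subgroup.center G = ⊥ := by
  by_contra hne
  have hcard : Nat.card (Subgroup.center G) ≠ 1 := by
    intro h
    exact hne (Subgroup.card_eq_one.mp h)
  obtain ⟨r, hr, hrd⟩ := Nat.exists_prime_and_dvd hcard
  haveI hrf : Fact r.Prime := ⟨hr⟩
  obtain ⟨z, hz⟩ := exists_prime_orderOf_dvd_card' r hrd
  have hzG : orderOf (z : G) = r := by rw [Subgroup.orderOf_coe]; exact hz
  have hzc : ∀ g : G, g * (z : G) = (z : G) * g := fun g => Subgroup.mem_center_iff.mp z.2 g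
  have hpg : IsPGroup r (Subgroup.zpowers (z : G)) := by
    apply IsPGroup.of_card (n := 1)
    rw [Nat.card_zpowers, hzG, pow_one]
  obtain ⟨R, hR⟩ := hpg.exists_le_sylow
  have hcomm := sylow_comm R (hcyc r hrf hrd)
  letI : CommGroup ↥(R : Subgroup G) :=
    { (inferInstance : Group ↥(R : Subgroup G)) with mul_comm := hcomm }
  have key : ∀ (k : ℕ) (g₀ : G), g₀⁻¹ * (z : G) ^ k * g₀ ∈ (R : Subgroup G) →
      g₀⁻¹ * (z : G) ^ k * g₀ = (z : G) ^ k := by
    intro k g₀ _
    have hc : Commute g₀⁻¹ ((z : G) ^ k) := Commute.pow_right (hzc g₀⁻¹) k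
    rw [hc.eq, mul_assoc, inv_mul_cancel, mul_one]
  have ht := MonoidHom.transfer_eq_pow (MonoidHom.id ↥(R : Subgroup G)) (z : G) key
  have h1 : MonoidHom.transfer (MonoidHom.id ↥(R : Subgroup G)) (z : G) = 1 := by
    have : (z : G) ∈ (MonoidHom.transfer (MonoidHom.id ↥(R : Subgroup G))).ker := by
      apply Abelianization.commutator_subset_ker
      rw [hperf]; trivial
    exact this
  rw [h1] at ht
  have h2 : (z : G) ^ (R : Subgroup G).index = 1 := by
    have := congrArg (fun x : ↥(R : Subgroup G) => (x : G)) ht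
    simpa using this.symm
  have h3 : r ∣ (R : Subgroup G).index := by
    have h4 := orderOf_dvd_of_pow_eq_one h2
    rwa [hzG] at h4
  exact R.not_dvd_index h3

end Cfsg.Agent.Lib.Helper55_P2_TRANS
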