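import Mathlib
import Cfsg.Prelude.Def_Characters
import Cfsg.Prelude.Def_Blocks
import Cfsg.Prelude.Def_Solvable
import Cfsg.Prelude.Def_Local
import Cfsg.Agent.Lib.Helper3_P2Defs
import Cfsg.Agent.Lib.Helper16_GenSetup
import Cfsg.Agent.Lib.Helper16_GenMain
import Cfsg.Agent.Lib.Helper16_GenFinal
import Cfsg.Agent.Lib.Helper3_CharGaloisAct

/-!
# S4705 (architect helper3): package P2-RAT2 (helper58)

Integrality of `ζ` on `2`-elements from the rationality statement `hrat`.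
-/

set_option autoImplicit false
set_option linter.unusedSectionVars false
set_option linter.unusedVariables false

namespace Cfsg.Agent.Lib.Helper58_P2_RAT2

open Cfsg Cfsg.Agent.Lib.Helper3_P2Defs Cfsg.Agent.Lib.Helper16_GenSetup
  Cfsg.Agent.Lib.Helper16_GenMain Cfsg.Agent.Lib.Helper16_GenFinal
open scoped ComplexConjugate

universe u

/-- a rational algebraic integer is an integer -/
theorem int_of_rat_of_integral {x : ℂ} (q : ℚ) (hq : x = (q : ℂ)) (hi : IsIntegral ℤ x) :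
    ∃ m : ℤ, x = (m : ℂ) := by
  rw [hq] at hi
  have h1 : IsIntegral ℤ q := by
    have h2 : (q : ℂ) = algebraMap ℚ ℂ q := rfl
    rw [h2] at hi
    exact (isIntegral_algebraMap_iff (algebraMap ℚ ℂ).injective).mp hi
  obtain ⟨m, hm⟩ := IsIntegrallyClosed.isIntegral_iff.mp h1
  refine ⟨m, ?_⟩
  rw [hq, ← hm]
  simp

/-- the CRT step -/
theorem exists_crt {N z : ℕ} (hN : N ≠ 0) (hzN : z ∣ N) (hz : Odd z) (m : ℕ) (hm : m.Coprime N) :
    ∃ s N' k : ℕ, N = 2 ^ s * N' ∧ Odd N' ∧ k.Coprime N ∧ k ≡ 1 [MOD z] ∧ k ≡ m [MOD 2 ^ s] := by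
  obtain ⟨s, N', hodd, hNeq⟩ := Nat.exists_eq_two_pow_mul_odd hN
  have hco : Nat.Coprime (2 ^ s) N' := Nat.Coprime.pow_left s (Nat.coprime_two_left.mpr hodd)
  obtain ⟨k, hk1, hk2⟩ := Nat.chineseRemainder hco m 1
  refine ⟨s, N', k, hNeq, hodd, ?_, ?_, hk1⟩
  · rw [hNeq]
    apply Nat.Coprime.mul_right
    · have h1 : m.Coprime (2 ^ s) := Nat.Coprime.coprime_dvd_right ⟨N', hNeq⟩ hm
      have h2 := hk1.gcd_eq
      unfold Nat.Coprime
      rw [h2]
      exact h1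
    · have h2 := hk2.gcd_eq
      unfold Nat.Coprime
      rw [h2]
      exact Nat.gcd_one_left _
  · have hz2 : Nat.Coprime z (2 ^ s) :=
      (Nat.Coprime.pow_left s (Nat.coprime_two_left.mpr hz)).symm
    have hzN' : z ∣ N' := by
      rw [hNeq] at hzN
      exact hz2.dvd_of_dvd_mul_left hzN
    exact hk2.of_dvd hzN'

section partB1

variable {G : Type u} [Group G] [Fintype G] {p : ℕ} [hp : Fact p.Prime] {P : Sylow p G}
  {V : Subgroup G} {ζ : G → ℂ}

/-- **P2-RAT2** -/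
theorem rat2 (hirr : IsIrrCharacter G ζ) (hp2 : p ≠ 2) (hz : Odd (Nat.card (Subgroup.center G)))
    (hrat : ∀ k : ℕ, k.Coprime (Nat.card G) → k ≡ 1 [MOD Nat.card (Subgroup.center G)] →
      ∀ g : G, ¬ p ∣ orderOf g → ζ (g ^ k) = ζ g) :
    ∀ u : G, (∃ n : ℕ, orderOf u = 2 ^ n) → ∃ m : ℤ, ζ u = (m : ℂ) := by
  rintro u ⟨j, hj⟩
  obtain ⟨n, ρ, -, hρ⟩ := hirr
  have hN : Nat.card G ≠ 0 := Nat.card_pos.ne'
  have hzN : Nat.card (Subgroup.center G) ∣ Nat.card G := Subgroup.card_subgroup_dvd_card _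
  have hreg : ¬ p ∣ orderOf u := by
    rw [hj]
    intro hdvd
    have h1 := hp.out.dvd_of_dvd_pow hdvd
    exact hp2 ((Nat.prime_dvd_prime_iff_eq hp.out Nat.prime_two).mp h1)
  have hpow : ∀ m : ℕ, m.Coprime (Nat.card G) → ρ.character (u ^ m) = ρ.character u := by
    intro m hm
    obtain ⟨s, N', k, hNeq, hodd, hk, hk1, hkm⟩ := exists_crt hN hzN hz m hm
    have hdvd : orderOf u ∣ 2 ^ s := by
      have h1 : orderOf u ∣ 2 ^ s * N' := by
        rw [← hNeq]
        exact orderOf_dvd_natCard u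
      have h2 : Nat.Coprime (orderOf u) N' := by
        rw [hj]
        exact Nat.Coprime.pow_left j (Nat.coprime_two_left.mpr hodd)
      exact h2.dvd_of_dvd_mul_right h1
    have hkm' : k ≡ m [MOD orderOf u] := hkm.of_dvd hdvd
    have h3 : u ^ k = u ^ m := pow_eq_pow_iff_modEq.mpr hkm'
    rw [hρ, ← h3]
    exact hrat k hk hk1 u hreg
  obtain ⟨q, hq⟩ := Cfsg.Agent.Lib.Helper3_CharGaloisAct.exists_rat_of_forall_pow ρ u hpow
  have hi := Cfsg.Agent.Lib.Helper3_CharEigen.isIntegral_char ρ u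
  rw [← hρ]
  exact int_of_rat_of_integral q hq hi

end partB1

end Cfsg.Agent.Lib.Helper58_P2_RAT2
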