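import Mathlib
import Cfsg.Prelude.Def_Characters
import Cfsg.Agent.Lib.Helper3_CharEigen
import Cfsg.Agent.Lib.Helper75_CharArith

/-!
# S4705 package P2-CYC (helper5 for helper3): pure character theory on a finite group of odd order.

Two characters `ψ₊, ψ₋` of degrees `d, d + 1` which are `d θ₀, (d+1) θ₀` on a subgroup `H₀` and satisfy
`ψ₊ + ψ₋ = 0`, `‖ψ₊‖ ∈ {0, d}` off `H₀` force `H₀ = ⊤`.  (Commutativity of `H` is not used.)
-/

set_option autoImplicit false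
set_option linter.unusedSectionVars false
set_option linter.unusedVariables false

namespace Cfsg.Agent.Lib.Helper5_P2_CYC

open Cfsg
open scoped ComplexConjugate

universe u

/-- a sum of an indicator-like function -/
theorem sum_ite_const {H : Type*} [Fintype H] (P : H → Prop) [DecidablePred P] (c : ℂ) :
    ∑ y : H, (if P y then c else 0) = c * (Fintype.card {y : H // P y} : ℂ) := by
  rw [Finset.sum_ite, Finset.sum_const_zero, add_zero, Finset.sum_const, nsmul_eq_mul,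
    Fintype.card_subtype, mul_comm]

theorem cyc_top {H : Type u} [CommGroup H] [Finite H] (hodd : Odd (Nat.card H)) (H₀ : Subgroup H)
    (d : ℕ) (hd : 2 ≤ d) (ψp ψm : H → ℂ) (hψp : IsCharacter H ψp) (hψm : IsCharacter H ψm)
    (θ₀ : H₀ →* ℂˣ)
    (h0p : ∀ y : H₀, ψp (y : H) = (d : ℂ) * ((θ₀ y : ℂˣ) : ℂ))
    (h0m : ∀ y : H₀, ψm (y : H) = ((d : ℂ) + 1) * ((θ₀ y : ℂˣ) : ℂ))
    (hoff : ∀ y : H, y ∉ H₀ → ψp y + ψm y = 0 ∧ (ψp y = 0 ∨ ‖ψp y‖ = (d : ℝ))) :
    H₀ = ⊤ := by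
  classical
  have := Fintype.ofFinite H
  have hκ : IsCharacter H (ψp + ψm) := Cfsg.Agent.Lib.Helper75_CharArith.isCharacter_add hψp hψm
  obtain ⟨A, hA⟩ := Cfsg.Agent.Lib.Helper75_CharArith.classInner_isCharacter_nat hψp hψp
  obtain ⟨L, hL⟩ := Cfsg.Agent.Lib.Helper75_CharArith.classInner_isCharacter_nat hψp hκ
  obtain ⟨K, hK⟩ := Cfsg.Agent.Lib.Helper75_CharArith.classInner_isCharacter_nat hκ hκ
  obtain ⟨C, hC⟩ := Cfsg.Agent.Lib.Helper75_CharArith.classInner_isCharacter_nat hψp hψm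
  obtain ⟨n, ρ, hρ⟩ := hψp
  -- the degree
  have hθ1 : ∀ z : H₀, ‖((θ₀ z : ℂˣ) : ℂ)‖ = 1 := by
    intro z
    have h1 : ((θ₀ z : ℂˣ) : ℂ) ^ orderOf z = 1 := by
      rw [← Units.val_pow_eq_pow_val, ← map_pow, pow_orderOf_eq_one, map_one, Units.val_one]
    exact Complex.norm_eq_one_of_pow_eq_one h1 (orderOf_pos z).ne'
  have hθc : ∀ z : H₀, ((θ₀ z : ℂˣ) : ℂ) * conj ((θ₀ z : ℂˣ) : ℂ) = 1 := by
    intro z
    rw [Complex.mul_conj, Complex.normSq_eq_norm_sq, hθ1 z]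
    norm_num
  have hnd : n = d := by
    have h1 : ψp 1 = (n : ℂ) := by
      rw [← hρ, Representation.char_one, Module.finrank_fin_fun]
    have h2 := h0p 1
    rw [map_one, Units.val_one, mul_one, Subgroup.coe_one, h1] at h2
    exact_mod_cast h2
  subst hnd
  have hd0 : (n : ℂ) ≠ 0 := by
    have : 0 < n := by omega
    exact_mod_cast this.ne'
  -- the subgroup where `ρ` is scalar
  have hSiff : ∀ y : H, ‖ψp y‖ = (n : ℝ) ↔ ∃ ω : ℂ, ρ y = ω • (LinearMap.id : (Fin n → ℂ) →ₗ[ℂ] _) := by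
    intro y
    have := Cfsg.Agent.Lib.Helper3_CharEigen.norm_char_eq_iff ρ y
    rwa [Module.finrank_fin_fun, hρ] at this
  let S : Subgroup H :=
    { carrier := {y | ‖ψp y‖ = (n : ℝ)}
      one_mem' := by
        show ‖ψp 1‖ = (n : ℝ)
        rw [hSiff]
        exact ⟨1, by rw [map_one, one_smul]; rfl⟩
      mul_mem' := by
        intro y y' hy hy'
        change ‖ψp y‖ = (n : ℝ) at hy
        change ‖ψp y'‖ = (n : ℝ) at hy'
        show ‖ψp (y * y')‖ = (n : ℝ)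
        rw [hSiff] at hy hy' ⊢
        obtain ⟨ω, hω⟩ := hy
        obtain ⟨ω', hω'⟩ := hy'
        refine ⟨ω * ω', ?_⟩
        rw [map_mul, hω, hω']
        rw [Module.End.mul_eq_comp]
        apply LinearMap.ext
        intro v
        simp only [LinearMap.comp_apply, LinearMap.smul_apply, LinearMap.id_apply, map_smul,
          smul_smul]
        rw [mul_comm]
      inv_mem' := by
        intro y hy
        change ‖ψp y‖ = (n : ℝ) at hy
        show ‖ψp y⁻¹‖ = (n : ℝ)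
        rw [← hρ, Cfsg.Agent.Lib.Helper3_CharEigen.char_inv ρ y, hρ, RCLike.norm_conj]
        exact hy }
  have hSmem : ∀ y : H, y ∈ S ↔ ‖ψp y‖ = (n : ℝ) := fun y => Iff.rfl
  have hle : H₀ ≤ S := by
    intro z hz
    rw [hSmem, h0p ⟨z, hz⟩, norm_mul, hθ1, mul_one, Complex.norm_natCast]
  -- pointwise identities
  have hκ0 : ∀ y : H, y ∉ H₀ → (ψp + ψm) y = 0 := fun y hy => (hoff y hy).1
  have hκ1 : ∀ z : H₀, (ψp + ψm) (z : H) = (2 * (n : ℂ) + 1) * ((θ₀ z : ℂˣ) : ℂ) := by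
    intro z
    rw [Pi.add_apply, h0p z, h0m z]
    ring
  have P1 : ∀ y : H, ψp y * conj (ψp y) = if y ∈ S then ((n : ℂ) ^ 2) else 0 := by
    intro y
    by_cases hy : y ∈ S
    · rw [if_pos hy, Complex.mul_conj, Complex.normSq_eq_norm_sq, (hSmem y).1 hy]
      push_cast
      ring
    · rw [if_neg hy]
      have hy0 : y ∉ H₀ := fun h => hy (hle h)
      rcases (hoff y hy0).2 with h0 | h0
      · rw [h0, zero_mul]
      · exact absurd ((hSmem y).2 h0) hy
  have P2 : ∀ y : H, ψp y * conj ((ψp + ψm) y) =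
      if y ∈ H₀ then ((n : ℂ) * (2 * (n : ℂ) + 1)) else 0 := by
    intro y
    by_cases hy : y ∈ H₀
    · rw [if_pos hy, hκ1 ⟨y, hy⟩, h0p ⟨y, hy⟩]
      simp only [map_mul, map_add, map_natCast, map_one, map_ofNat]
      linear_combination ((n : ℂ) * (2 * (n : ℂ) + 1)) * hθc ⟨y, hy⟩
    · rw [if_neg hy, hκ0 y hy, map_zero, mul_zero]
  have P3 : ∀ y : H, (ψp + ψm) y * conj ((ψp + ψm) y) =
      if y ∈ H₀ then ((2 * (n : ℂ) + 1) ^ 2) else 0 := by
    intro y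
    by_cases hy : y ∈ H₀
    · rw [if_pos hy, hκ1 ⟨y, hy⟩]
      simp only [map_mul, map_add, map_natCast, map_one, map_ofNat]
      linear_combination ((2 * (n : ℂ) + 1) ^ 2) * hθc ⟨y, hy⟩
    · rw [if_neg hy, hκ0 y hy, zero_mul]
  have P4 : ∀ y : H, ψp y * conj (ψm y) =
      ψp y * conj ((ψp + ψm) y) - ψp y * conj (ψp y) := by
    intro y
    rw [Pi.add_apply, map_add]
    ring
  -- the sums
  have hN : (Nat.card H : ℂ) ≠ 0 := by exact_mod_cast Nat.card_pos.ne'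
  have cS : Fintype.card {y : H // y ∈ S} = Nat.card S := (Nat.card_eq_fintype_card).symm
  have c0 : Fintype.card {y : H // y ∈ H₀} = Nat.card H₀ := (Nat.card_eq_fintype_card).symm
  have s1 : ∑ y : H, ψp y * conj (ψp y) = ((n : ℂ) ^ 2) * (Nat.card S : ℂ) := by
    rw [Finset.sum_congr rfl (fun y _ => P1 y), sum_ite_const, cS]
  have s2 : ∑ y : H, ψp y * conj ((ψp + ψm) y) =
      ((n : ℂ) * (2 * (n : ℂ) + 1)) * (Nat.card H₀ : ℂ) := by
    rw [Finset.sum_congr rfl (fun y _ => P2 y), sum_ite_const, c0]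
  have s3 : ∑ y : H, (ψp + ψm) y * conj ((ψp + ψm) y) =
      ((2 * (n : ℂ) + 1) ^ 2) * (Nat.card H₀ : ℂ) := by
    rw [Finset.sum_congr rfl (fun y _ => P3 y), sum_ite_const, c0]
  have s4 : ∑ y : H, ψp y * conj (ψm y) =
      ((n : ℂ) * (2 * (n : ℂ) + 1)) * (Nat.card H₀ : ℂ) - ((n : ℂ) ^ 2) * (Nat.card S : ℂ) := by
    rw [Finset.sum_congr rfl (fun y _ => P4 y), Finset.sum_sub_distrib, s1, s2]
  unfold classInner at hA hL hK hC
  rw [s1] at hA
  rw [s2] at hL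
  rw [s3] at hK
  rw [s4] at hC
  have eA : (Nat.card H : ℂ) * (A : ℂ) = ((n : ℂ) ^ 2) * (Nat.card S : ℂ) := by
    rw [← hA]; field_simp
  have eL : (Nat.card H : ℂ) * (L : ℂ) = ((n : ℂ) * (2 * (n : ℂ) + 1)) * (Nat.card H₀ : ℂ) := by
    rw [← hL]; field_simp
  have eK : (Nat.card H : ℂ) * (K : ℂ) = ((2 * (n : ℂ) + 1) ^ 2) * (Nat.card H₀ : ℂ) := by
    rw [← hK]; field_simp
  have eC : (Nat.card H : ℂ) * (C : ℂ) =
      ((n : ℂ) * (2 * (n : ℂ) + 1)) * (Nat.card H₀ : ℂ) - ((n : ℂ) ^ 2) * (Nat.card S : ℂ) := by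
    rw [← hC]; field_simp
  have iA : Nat.card H * A = n ^ 2 * Nat.card S := by exact_mod_cast eA
  have iL : Nat.card H * L = n * (2 * n + 1) * Nat.card H₀ := by exact_mod_cast eL
  have iK : Nat.card H * K = (2 * n + 1) ^ 2 * Nat.card H₀ := by exact_mod_cast eK
  have iC : Nat.card H * C + n ^ 2 * Nat.card S = n * (2 * n + 1) * Nat.card H₀ := by
    have : (Nat.card H : ℂ) * (C : ℂ) + ((n : ℂ) ^ 2) * (Nat.card S : ℂ) =
        ((n : ℂ) * (2 * (n : ℂ) + 1)) * (Nat.card H₀ : ℂ) := by rw [eC]; ring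
    exact_mod_cast this
  -- `S = H₀` by counting
  obtain ⟨k, hk⟩ := Subgroup.card_dvd_of_le hle
  have hSodd : Odd (Nat.card S) := by
    obtain ⟨c, hc⟩ := Subgroup.card_subgroup_dvd_card S
    rw [hc] at hodd
    exact (Nat.odd_mul.mp hodd).1
  have hkodd : Odd k := by
    rw [hk] at hSodd
    exact (Nat.odd_mul.mp hSodd).2
  have h0pos : 0 < Nat.card H₀ := Nat.card_pos
  have hk1 : k = 1 := by
    have h1 : n ^ 2 * Nat.card S ≤ n * (2 * n + 1) * Nat.card H₀ := by omega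
    rw [hk] at h1
    have h2 : n * (n * k) * Nat.card H₀ ≤ n * (2 * n + 1) * Nat.card H₀ := by
      calc n * (n * k) * Nat.card H₀ = n ^ 2 * (Nat.card H₀ * k) := by ring
        _ ≤ n * (2 * n + 1) * Nat.card H₀ := h1
    have h3 : n * (n * k) ≤ n * (2 * n + 1) := Nat.le_of_mul_le_mul_right h2 h0pos
    have h4 : n * k ≤ 2 * n + 1 := Nat.le_of_mul_le_mul_left h3 (by omega)
    have h5 : k < 3 := by
      by_contra hcon
      have : 3 ≤ k := by omega
      have : n * 3 ≤ n * k := Nat.mul_le_mul_left n this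
      omega
    obtain ⟨j, hj⟩ := hkodd
    omega
  have hSc : Nat.card S = Nat.card H₀ := by rw [hk, hk1, mul_one]
  rw [hSc] at iA
  -- `N ∣ h₀`
  apply Subgroup.eq_top_of_le_card
  have hdvd : (Nat.card H : ℤ) ∣ (Nat.card H₀ : ℤ) := by
    refine ⟨(K : ℤ) + 4 * A - 4 * L, ?_⟩
    have iA' : (Nat.card H : ℤ) * A = (n : ℤ) ^ 2 * Nat.card H₀ := by exact_mod_cast iA
    have iL' : (Nat.card H : ℤ) * L = (n : ℤ) * (2 * n + 1) * Nat.card H₀ := by exact_mod_cast iL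
    have iK' : (Nat.card H : ℤ) * K = (2 * (n : ℤ) + 1) ^ 2 * Nat.card H₀ := by exact_mod_cast iK
    linear_combination (-1 : ℤ) * iK' - 4 * iA' + 4 * iL'
  have := Int.le_of_dvd (by exact_mod_cast h0pos) hdvd
  exact_mod_cast this

end Cfsg.Agent.Lib.Helper5_P2_CYC
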