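import Mathlib
import Cfsg.Prelude.Def_Characters
import Cfsg.Prelude.Def_Blocks
import Cfsg.Agent.Lib.Helper3_P2Defs

/-!
# S4705 package P2-UY (helper5 for helper3): `ζ(u h) = 0` or `‖ζ(u h)‖ = p - 3` for an involution `u`
commuting with a non-central `p`-regular element `h` of odd order.
-/

set_option autoImplicit false
set_option linter.unusedSectionVars false
set_option linter.unusedVariables false

namespace Cfsg.Agent.Lib.Helper5_P2_UY

open Cfsg Cfsg.Agent.Lib.Helper3_P2Defs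
open scoped ComplexConjugate

universe u

/-- a non-negative real with `x = x ^ m`, `m ≥ 2`, is `0` or `1` -/
theorem eq_zero_or_one_of_pow_eq {x : ℝ} (hx : 0 ≤ x) {m : ℕ} (hm : 2 ≤ m) (h : x = x ^ m) :
    x = 0 ∨ x = 1 := by
  by_cases h0 : x = 0
  · exact Or.inl h0
  · right
    have hm' : m = (m - 1) + 1 := by omega
    rw [hm', pow_succ] at h
    have h1 : x ^ (m - 1) = 1 := by
      have : x * 1 = x * x ^ (m - 1) := by rw [mul_one, mul_comm]; exact h
      exact (mul_left_cancel₀ h0 this).symm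
    exact (pow_eq_one_iff_of_nonneg hx (by omega)).1 h1

section partB2

variable {G : Type u} [Group G] [Finite G] {p : ℕ} [hp : Fact p.Prime] {P : Sylow p G}
  {ζ : G → ℂ} {k₂ : ℕ}

theorem uy_vals (hc : Core G p P ζ k₂)
    (hodd : ∀ g : G, Odd (orderOf g) → ¬ p ∣ orderOf g → ζ g = 0 ∨ g ∈ Subgroup.center G)
    (u h : G) (hu : orderOf u = 2) (hcomm : Commute u h) (hh : Odd (orderOf h))
    (hpr : ¬ p ∣ orderOf h) (hnz : h ∉ Subgroup.center G) :
    ζ (u * h) = 0 ∨ ‖ζ (u * h)‖ = (p : ℝ) - 3 := by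
  have hp5 : 5 < p := hc.p5
  have hu2 : u * u = 1 := by rw [← pow_two, ← hu, pow_orderOf_eq_one]
  have huk : u ^ k₂ = u := hc.k2two u ⟨1, by rw [hu, pow_one]⟩
  -- one step of the iteration
  have step : ∀ y : G, Commute u y → Odd (orderOf y) → ¬ p ∣ orderOf y →
      y ∉ Subgroup.center G → ζ (u * y) ^ 2 = ((p : ℂ) - 3) * ζ (u * (y * y)) := by
    intro y hcy hoy hpy hny
    have hyy_dvd : orderOf (y * y) ∣ orderOf y := by rw [← pow_two]; exact orderOf_pow_dvd 2
    have hoyy : Odd (orderOf (y * y)) := hoy.of_dvd_nat hyy_dvd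
    have hpyy : ¬ p ∣ orderOf (y * y) := fun h => hpy (h.trans hyy_dvd)
    have hnyy : y * y ∉ Subgroup.center G := by
      intro hmem
      apply hny
      obtain ⟨m, hm⟩ := hoy
      have hy : y = (y * y) ^ (m + 1) := by
        rw [← pow_two, ← pow_mul]
        have e : 2 * (m + 1) = orderOf y + 1 := by omega
        rw [e, pow_succ, pow_orderOf_eq_one, one_mul]
      rw [hy]
      exact Subgroup.pow_mem _ hmem _
    have hz : ζ (y * y) = 0 := by
      rcases hodd (y * y) hoyy hpyy with h0 | h0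
      · exact h0
      · exact absurd h0 hnyy
    have hreg : ¬ p ∣ orderOf (u * y) := by
      intro hdvd
      have h1 := hdvd.trans hcy.orderOf_mul_dvd_lcm
      have h2 : p ∣ orderOf u * orderOf y := h1.trans (Nat.lcm_dvd_mul _ _)
      rcases (hp.out.dvd_mul).1 h2 with h3 | h3
      · rw [hu] at h3
        have := Nat.le_of_dvd (by norm_num) h3
        omega
      · exact hpy h3
    have hk := hc.key (u * y) hreg
    have e1 : u * y * (u * y) = y * y := by
      rw [hcy.symm.mul_mul_mul_comm, hu2, one_mul]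
    have e2 : (u * y) ^ k₂ = u * (y * y) := by
      rw [hcy.mul_pow, huk, hc.k2odd y hoy hpy]
    rw [e1, e2, hz] at hk
    linear_combination -hk
  -- the iterates
  have hcop : ∀ i : ℕ, (orderOf h).Coprime (2 ^ i) :=
    fun i => (Nat.coprime_two_right.2 hh).pow_right i
  have hord : ∀ i : ℕ, orderOf (h ^ 2 ^ i) = orderOf h := fun i => (hcop i).orderOf_pow
  have hnc : ∀ i : ℕ, h ^ 2 ^ i ∉ Subgroup.center G := by
    intro i hmem
    obtain ⟨m, hm⟩ := exists_pow_eq_self_of_coprime (x := h) (hcop i).symm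
    apply hnz
    rw [← hm]
    exact Subgroup.pow_mem _ hmem _
  have hc3 : (0 : ℝ) < (p : ℝ) - 3 := by
    have : (5 : ℝ) < (p : ℝ) := by exact_mod_cast hp5
    linarith
  have hnorm3 : ‖(p : ℂ) - 3‖ = (p : ℝ) - 3 := by
    have e : (p : ℂ) - 3 = (((p : ℝ) - 3 : ℝ) : ℂ) := by push_cast; ring
    rw [e, Complex.norm_real, Real.norm_eq_abs, abs_of_pos hc3]
  have hb : ∀ i : ℕ, ‖ζ (u * h ^ 2 ^ i)‖ ^ 2 = ((p : ℝ) - 3) * ‖ζ (u * h ^ 2 ^ (i + 1))‖ := by
    intro i
    have hs := step (h ^ 2 ^ i) (hcomm.pow_right _) (by rw [hord i]; exact hh)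
      (by rw [hord i]; exact hpr) (hnc i)
    have e : h ^ 2 ^ i * h ^ 2 ^ i = h ^ 2 ^ (i + 1) := by
      rw [← pow_add, pow_succ, mul_two]
    rw [e] at hs
    have := congrArg norm hs
    rwa [norm_pow, norm_mul, hnorm3] at this
  -- closed form
  obtain ⟨c, hcdef⟩ : ∃ c : ℝ, c = (p : ℝ) - 3 := ⟨_, rfl⟩
  rw [← hcdef] at hb hc3 ⊢
  have hcne : c ≠ 0 := hc3.ne'
  have hclosed : ∀ i : ℕ, ‖ζ (u * h ^ 2 ^ i)‖ = c * (‖ζ (u * h)‖ / c) ^ 2 ^ i := by
    intro i
    induction i with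
    | zero => rw [pow_zero, pow_one, pow_one]; field_simp
    | succ i ih =>
      have h1 := hb i
      rw [ih] at h1
      have h2 : ‖ζ (u * h ^ 2 ^ (i + 1))‖ = (c * (‖ζ (u * h)‖ / c) ^ 2 ^ i) ^ 2 / c := by
        rw [h1]; field_simp
      rw [h2, pow_succ 2 i, pow_mul]
      field_simp
  -- periodicity
  have hopos : 0 < orderOf h := orderOf_pos h
  have hr : 2 ^ Nat.totient (orderOf h) ≡ 1 [MOD orderOf h] :=
    Nat.ModEq.pow_totient (Nat.coprime_two_left.2 hh)
  have hper : h ^ 2 ^ Nat.totient (orderOf h) = h := by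
    have := (pow_eq_pow_iff_modEq (x := h)).2 hr
    rwa [pow_one] at this
  have hfin := hclosed (Nat.totient (orderOf h))
  rw [hper] at hfin
  have hx0 : 0 ≤ ‖ζ (u * h)‖ / c := div_nonneg (norm_nonneg _) hc3.le
  have hm2 : 2 ≤ 2 ^ Nat.totient (orderOf h) := by
    have : 0 < Nat.totient (orderOf h) := Nat.totient_pos.2 hopos
    calc 2 = 2 ^ 1 := by norm_num
      _ ≤ 2 ^ Nat.totient (orderOf h) := Nat.pow_le_pow_right (by norm_num) this
  have hxx : ‖ζ (u * h)‖ / c = (‖ζ (u * h)‖ / c) ^ 2 ^ Nat.totient (orderOf h) := by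
    rw [div_eq_iff hcne, mul_comm]
    exact hfin
  rcases eq_zero_or_one_of_pow_eq hx0 hm2 hxx with h0 | h1
  · left
    rw [div_eq_zero_iff] at h0
    rcases h0 with h0 | h0
    · exact norm_eq_zero.mp h0
    · exact absurd h0 hcne
  · right
    rw [div_eq_one_iff_eq hcne] at h1
    exact h1

end partB2

end Cfsg.Agent.Lib.Helper5_P2_UY
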