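import Mathlib
import Cfsg.Prelude.Def_Characters
import Cfsg.Prelude.Def_Blocks
import Cfsg.Agent.Lib.Helper3_P2Defs

/-!
# S4705 package P2-CPR (architect helper3): the centralizer of an involution is a `p'`-group
-/

set_option autoImplicit false
set_option linter.unusedSectionVars false
set_option linter.unusedVariables false

namespace Cfsg.Agent.Lib.Helper60_P2_CPR

open Cfsg Cfsg.Agent.Lib.Helper3_P2Defs
open scoped ComplexConjugate

universe u

variable {G : Type u} [Group G] [Finite G] {p : ℕ} [hp : Fact p.Prime] {P : Sylow p G}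
  {ζ : G → ℂ} {k₂ : ℕ}

/-- an element of `P · Z(G)` whose square is one is trivial (`|P| = p` odd, `|Z(G)|` odd) -/
theorem eq_one_of_sq (hP : Nat.card P = p) (hp2 : p ≠ 2)
    (hz : Odd (Nat.card (Subgroup.center G))) {y w : G} (hy : y ∈ (P : Subgroup G))
    (hw : w ∈ Subgroup.center G) (hsq : (y * w) ^ 2 = 1) : y * w = 1 := by
  have hyp : y ^ p = 1 := by
    have := pow_card_eq_one' (G := ↥(P : Subgroup G)) (x := ⟨y, hy⟩)
    rw [hP] at this
    exact congrArg Subtype.val this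
  have hwz : w ^ (Nat.card (Subgroup.center G)) = 1 := by
    have := pow_card_eq_one' (G := ↥(Subgroup.center G)) (x := ⟨w, hw⟩)
    exact congrArg Subtype.val this
  have hcomm : Commute y w := Subgroup.mem_center_iff.mp hw y
  have hN : (y * w) ^ (p * Nat.card (Subgroup.center G)) = 1 := by
    rw [hcomm.mul_pow, pow_mul, hyp, one_pow, one_mul, mul_comm, pow_mul, hwz, one_pow]
  have hodd : Odd (p * Nat.card (Subgroup.center G)) :=
    (hp.out.odd_of_ne_two hp2).mul hz
  have h1 : orderOf (y * w) ∣ 2 := orderOf_dvd_of_pow_eq_one hsq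
  have h2 : orderOf (y * w) ∣ p * Nat.card (Subgroup.center G) := orderOf_dvd_of_pow_eq_one hN
  have h3 : orderOf (y * w) ∣ Nat.gcd 2 (p * Nat.card (Subgroup.center G)) := Nat.dvd_gcd h1 h2
  have h4 : Nat.gcd 2 (p * Nat.card (Subgroup.center G)) = 1 :=
    Nat.coprime_two_left.mpr hodd
  rw [h4, Nat.dvd_one] at h3
  exact orderOf_eq_one_iff.mp h3

theorem cpr (hc : Core G p P ζ k₂) (u g : G) (hu : orderOf u = 2) (hcomm : Commute u g) :
    ¬ p ∣ orderOf g := by
  intro hpg
  have hg0 : orderOf g ≠ 0 := (orderOf_pos g).ne'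
  obtain ⟨x, hx⟩ : ∃ x : G, x = g ^ (orderOf g / p) := ⟨_, rfl⟩
  have hxo : orderOf x = p := by rw [hx]; exact orderOf_pow_orderOf_div hg0 hpg
  have hux : Commute u x := by rw [hx]; exact hcomm.pow_right _
  have hpz : IsPGroup p (Subgroup.zpowers x) := by
    apply IsPGroup.of_card (n := 1)
    rw [Nat.card_zpowers, hxo, pow_one]
  obtain ⟨Q, hQ⟩ := hpz.exists_le_sylow
  obtain ⟨k, hk⟩ := MulAction.exists_smul_eq G P Q
  have hxQ : x ∈ (Q : Subgroup G) := hQ (Subgroup.mem_zpowers x)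
  have hx' : k⁻¹ * x * k ∈ (P : Subgroup G) := by
    rw [← hk, Sylow.coe_subgroup_smul, Subgroup.mem_pointwise_smul_iff_inv_smul_mem] at hxQ
    simpa [MulAut.smul_def, MulAut.conj_inv_apply] using hxQ
  have hx1 : x ≠ 1 := by
    intro h1
    rw [h1, orderOf_one] at hxo
    exact hp.out.one_lt.ne hxo
  have hx'1 : (⟨k⁻¹ * x * k, hx'⟩ : ↥(P : Subgroup G)) ≠ 1 := by
    intro h1
    have : k⁻¹ * x * k = 1 := congrArg Subtype.val h1
    apply hx1
    calc x = k * (k⁻¹ * x * k) * k⁻¹ := by group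
      _ = 1 := by rw [this]; group
  -- `u' = k⁻¹ u k` centralizes `P`
  have hu'x' : Commute (k⁻¹ * u * k) (k⁻¹ * x * k) := by
    have e1 : (k⁻¹ * u * k) * (k⁻¹ * x * k) = k⁻¹ * (u * x) * k := by group
    have e2 : (k⁻¹ * x * k) * (k⁻¹ * u * k) = k⁻¹ * (x * u) * k := by group
    show (k⁻¹ * u * k) * (k⁻¹ * x * k) = (k⁻¹ * x * k) * (k⁻¹ * u * k)
    rw [e1, e2, hux.eq]
  have hu'C : k⁻¹ * u * k ∈ Subgroup.centralizer ((P : Subgroup G) : Set G) := by
    rw [Subgroup.mem_centralizer_iff]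
    intro y hy
    have hmem := mem_zpowers_of_prime_card (G := ↥(P : Subgroup G)) hc.cardP hx'1
      (g' := ⟨y, hy⟩)
    obtain ⟨n, hn⟩ := Subgroup.mem_zpowers_iff.mp hmem
    have hy' : y = (k⁻¹ * x * k) ^ n := by
      have := congrArg Subtype.val hn
      simpa using this.symm
    rw [hy']
    exact ((hu'x'.zpow_right n).eq).symm
  obtain ⟨y, hy, w, hw, hyw⟩ := hc.cent _ hu'C
  have hp2 : p ≠ 2 := by
    have := hc.p5
    omega
  have huu : u * u = 1 := by
    have := pow_orderOf_eq_one u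
    rwa [hu, pow_two] at this
  have hsq : (y * w) ^ 2 = 1 := by
    rw [← hyw, pow_two]
    calc k⁻¹ * u * k * (k⁻¹ * u * k) = k⁻¹ * (u * u) * k := by group
      _ = 1 := by rw [huu]; group
  have h1 := eq_one_of_sq hc.cardP hp2 hc.zodd hy hw hsq
  rw [← hyw] at h1
  have hu1 : u = 1 := by
    calc u = k * (k⁻¹ * u * k) * k⁻¹ := by group
      _ = 1 := by rw [h1]; group
  rw [hu1, orderOf_one] at hu
  omega

end Cfsg.Agent.Lib.Helper60_P2_CPR
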