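import Mathlib
import Cfsg.Prelude.Def_Characters
import Cfsg.Prelude.Def_Blocks
import Cfsg.Agent.Lib.Helper3_CharBridge

/-!
# P2-EIGCH (S4705 market, architect helper3): the eigenspaces of an involution `ρ u` commuting with
`ρ|_H` carry characters `(ζ y ± ζ (u y)) / 2` of `H` (helper73).
-/

set_option autoImplicit false
set_option linter.unusedSectionVars false
set_option linter.unusedVariables false

namespace Cfsg.Agent.Lib.Helper73_P2_EIGCH

open Cfsg

universe u

section general

variable {H V : Type*} [Group H] [AddCommGroup V] [Module ℂ V] [FiniteDimensional ℂ V]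

/-- The projection `(1 + B)/2` attached to an operator `B` with `B * B = 1`. -/
noncomputable def proj (B : V →ₗ[ℂ] V) : V →ₗ[ℂ] V := (2 : ℂ)⁻¹ • (1 + B)

theorem proj_mul_proj (B : V →ₗ[ℂ] V) (hB : B * B = 1) : proj B * proj B = proj B := by
  unfold proj
  have h2 : (1 + B) * (1 + B) = (2 : ℂ) • (1 + B) := by
    rw [mul_add, mul_one, add_mul, one_mul, hB, two_smul]
    abel
  rw [smul_mul_smul_comm, h2, smul_smul]
  congr 1
  norm_num

theorem proj_comm (B T : V →ₗ[ℂ] V) (h : B * T = T * B) : proj B * T = T * proj B := by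
  unfold proj
  rw [smul_mul_assoc, mul_smul_comm, add_mul, mul_add, one_mul, mul_one, h]

/-- General form: `σ` a representation of `H`, `B` an involution commuting with `σ`; then
`y ↦ (χ_σ y + tr(σ y ∘ B))/2` is a character of `H` (afforded by the range of `(1 + B)/2`). -/
theorem isCharacter_proj (σ : Representation ℂ H V) (B : V →ₗ[ℂ] V) (hB : B * B = 1)
    (hcomm : ∀ y, B * σ y = σ y * B) :
    IsCharacter H (fun y => (σ.character y + LinearMap.trace ℂ V (σ y * B)) / 2) := by
  classical
  set Pp := proj B with hPp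
  let W : Submodule ℂ V := LinearMap.range Pp
  have hPW : ∀ w ∈ W, Pp w = w := by
    rintro w ⟨x, rfl⟩
    have := congrArg (fun T : V →ₗ[ℂ] V => T x) (proj_mul_proj B hB)
    exact this
  have hinv : ∀ y : H, ∀ w ∈ W, σ y w ∈ W := by
    rintro y w ⟨x, rfl⟩
    refine ⟨σ y x, ?_⟩
    have := congrArg (fun T : V →ₗ[ℂ] V => T x) (proj_comm B (σ y) (hcomm y))
    exact this
  let τ : Representation ℂ H W :=
    { toFun := fun y => (σ y).restrict (hinv y)
      map_one' := by
        ext w
        simp
      map_mul' := by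
        intro a b
        ext w
        simp }
  have hchar : τ.character = fun y => (σ.character y + LinearMap.trace ℂ V (σ y * B)) / 2 := by
    funext y
    show LinearMap.trace ℂ W ((σ y).restrict (hinv y)) = _
    have hf : ∀ x, (σ y * Pp) x ∈ W := by
      intro x
      have h1 : (σ y * Pp) x = (Pp * σ y) x := by
        rw [proj_comm B (σ y) (hcomm y)]
      rw [h1]
      exact ⟨σ y x, rfl⟩
    have hres : (σ y).restrict (hinv y) = (σ y * Pp).restrict (fun x _ => hf x) := by
      ext w
      show σ y w = σ y (Pp w)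
      rw [hPW w w.2]
    rw [hres, LinearMap.trace_restrict_eq_of_forall_mem W (σ y * Pp) hf]
    show LinearMap.trace ℂ V (σ y * ((2 : ℂ)⁻¹ • (1 + B))) = _
    rw [mul_smul_comm, map_smul, mul_add, mul_one, map_add, smul_eq_mul]
    show _ = (LinearMap.trace ℂ V (σ y) + _) / 2
    ring
  rw [← hchar]
  exact Cfsg.Agent.Lib.Helper3_CharBridge.isCharacter_of_rep τ

end general

section final

variable {G : Type u} [Group G] [Finite G] {ζ : G → ℂ}

/-- **P2-EIGCH**. -/
theorem eig_chars (hirr : IsIrrCharacter G ζ) (u : G) (hu : orderOf u = 2) (H : Subgroup G)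
    (hH : ∀ y ∈ H, Commute u y) :
    IsCharacter ↥H (fun y => (ζ (y : G) + ζ (u * (y : G))) / 2) ∧
    IsCharacter ↥H (fun y => (ζ (y : G) - ζ (u * (y : G))) / 2) := by
  obtain ⟨n, ρ, -, rfl⟩ := hirr
  have huu : u * u = 1 := by
    have := pow_orderOf_eq_one u
    rw [hu, pow_two] at this
    exact this
  let σ : Representation ℂ H (Fin n → ℂ) := ρ.comp H.subtype
  have hσ : ∀ y : H, σ y = ρ (y : G) := fun y => rfl
  have hσc : ∀ y : H, σ.character y = ρ.character (y : G) := fun y => rfl
  have hB : ρ u * ρ u = 1 := by rw [← map_mul, huu, map_one]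
  have hcomm : ∀ y : H, ρ u * σ y = σ y * ρ u := by
    intro y
    rw [hσ, ← map_mul, ← map_mul, (hH y y.2).eq]
  have htr : ∀ y : H, LinearMap.trace ℂ (Fin n → ℂ) (σ y * ρ u) = ρ.character (u * (y : G)) := by
    intro y
    rw [hσ, ← map_mul, ← (hH y y.2).eq]
    rfl
  refine ⟨?_, ?_⟩
  · have h := isCharacter_proj σ (ρ u) hB hcomm
    have heq : (fun y : H => (σ.character y + LinearMap.trace ℂ (Fin n → ℂ) (σ y * ρ u)) / 2) =
        fun y : H => (ρ.character (y : G) + ρ.character (u * (y : G))) / 2 := by
      funext y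
      rw [htr, hσc]
    rw [heq] at h
    exact h
  · have hB' : (-ρ u) * (-ρ u) = 1 := by
      refine LinearMap.ext fun v => ?_
      have := congrArg (fun T : (Fin n → ℂ) →ₗ[ℂ] (Fin n → ℂ) => T v) hB
      simpa using this
    have hcomm' : ∀ y : H, (-ρ u) * σ y = σ y * (-ρ u) := by
      intro y
      refine LinearMap.ext fun v => ?_
      have := congrArg (fun T : (Fin n → ℂ) →ₗ[ℂ] (Fin n → ℂ) => T v) (hcomm y)
      simpa using this
    have h := isCharacter_proj σ (-ρ u) hB' hcomm'
    have heq : (fun y : H => (σ.character y + LinearMap.trace ℂ (Fin n → ℂ) (σ y * (-ρ u))) / 2) =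
        fun y : H => (ρ.character (y : G) - ρ.character (u * (y : G))) / 2 := by
      funext y
      have h3 : σ y * (-ρ u) = -(σ y * ρ u) := by
        refine LinearMap.ext fun v => ?_
        simp
      rw [h3, map_neg, htr, hσc]
      ring
    rw [heq] at h
    exact h

end final

end Cfsg.Agent.Lib.Helper73_P2_EIGCH
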