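import Mathlib
import Cfsg.Prelude.Def_Characters
import Cfsg.Prelude.Def_Blocks
import Cfsg.Agent.Lib.Helper3_P2Defs
import Cfsg.Agent.Lib.Helper80_CharBasic
import Cfsg.Agent.Lib.Helper76_GalConj
import Cfsg.Agent.Lib.Helper60_P2_CPR
import Cfsg.Agent.Lib.Helper73_P2_EIGCH
import Cfsg.Agent.Lib.Helper5_P2_CYC
import Cfsg.Agent.Lib.Helper5_P2_UY

/-!
# S4705 package P2-CENT (helper5 for helper3): odd elements commuting with an involution are central.

`cent_inv_aux` takes the statement of P2-EIGCH as an explicit hypothesis; `cent_inv` is the verbatim package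
statement (P2-EIGCH by helper73, P2-CPR by helper60).
-/

set_option autoImplicit false
set_option linter.unusedSectionVars false
set_option linter.unusedVariables false

namespace Cfsg.Agent.Lib.Helper5_P2_CENT

open Cfsg Cfsg.Agent.Lib.Helper3_P2Defs
open scoped ComplexConjugate

universe u

section partB2

variable {G : Type u} [Group G] [Finite G] {p : ℕ} [hp : Fact p.Prime] {P : Sylow p G}
  {ζ : G → ℂ} {k₂ : ℕ}

theorem cent_inv_aux (hc : Core G p P ζ k₂)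
    (heig : ∀ (u : G), orderOf u = 2 → ∀ (H : Subgroup G), (∀ y ∈ H, Commute u y) →
      IsCharacter ↥H (fun y => (ζ (y : G) + ζ (u * (y : G))) / 2) ∧
      IsCharacter ↥H (fun y => (ζ (y : G) - ζ (u * (y : G))) / 2))
    (hodd : ∀ g : G, Odd (orderOf g) → ¬ p ∣ orderOf g → ζ g = 0 ∨ g ∈ Subgroup.center G)
    (hinv : ∀ u : G, orderOf u = 2 → ζ u = -1) :
    ∀ u h : G, orderOf u = 2 → Commute u h → Odd (orderOf h) → h ∈ Subgroup.center G := by
  intro u h hu hcomm hh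
  have hp5 : 5 < p := hc.p5
  -- the prime `p` is odd: `p - 3 = 2 d`
  have hpodd : Odd p := hp.out.odd_of_ne_two (by omega)
  obtain ⟨d, hd⟩ : ∃ d : ℕ, p = 2 * d + 3 := by
    obtain ⟨m, hm⟩ := hpodd
    exact ⟨m - 1, by omega⟩
  have hd2 : 2 ≤ d := by omega
  -- the irreducible character
  let χ : IrrCharacter G := ⟨ζ, hc.irr⟩
  have hχ : ∀ g, (χ : G → ℂ) g = ζ g := fun _ => rfl
  have hζ1 : ζ 1 = (p : ℂ) - 2 := by
    obtain ⟨n, -, hn⟩ := Cfsg.Agent.Lib.Helper80_CharBasic.irr_apply_one χ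
    rw [hχ] at hn
    have h1 : charDegree ζ = n := by
      unfold charDegree
      rw [hn]
      simp
    have h2 : n = p - 2 := by rw [← h1, hc.deg]
    rw [hn, h2, Nat.cast_sub (by omega)]
    norm_num
  have hζ1' : ζ 1 = 2 * (d : ℂ) + 1 := by
    rw [hζ1, hd]; push_cast; ring
  have hζ1ne : ζ 1 ≠ 0 := by
    rw [hζ1']
    have : (0 : ℝ) < 2 * (d : ℝ) + 1 := by positivity
    intro h0
    have h1 : ((2 * (d : ℝ) + 1 : ℝ) : ℂ) = 0 := by push_cast; exact h0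
    exact this.ne' (by exact_mod_cast h1)
  -- the cyclic group
  have hHcomm : ∀ y ∈ Subgroup.zpowers h, Commute u y := by
    intro y hy
    obtain ⟨k, rfl⟩ := Subgroup.mem_zpowers_iff.mp hy
    exact hcomm.zpow_right k
  obtain ⟨hψp, hψm⟩ := heig u hu (Subgroup.zpowers h) hHcomm
  let H₀ : Subgroup ↥(Subgroup.zpowers h) := (Subgroup.center G).subgroupOf (Subgroup.zpowers h)
  have hH₀ : ∀ y : ↥(Subgroup.zpowers h), y ∈ H₀ ↔ (y : G) ∈ Subgroup.center G := fun y => Iff.rfl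
  let ι : ↥H₀ →* ↥(Subgroup.center G) :=
    { toFun := fun y => ⟨((y : ↥(Subgroup.zpowers h)) : G), y.2⟩
      map_one' := rfl
      map_mul' := fun _ _ => rfl }
  let θ₀ : ↥H₀ →* ℂˣ := (Cfsg.Agent.Lib.Helper76_GalConj.centralHom χ).toHomUnits.comp ι
  have hθ₀ : ∀ y : ↥H₀, ((θ₀ y : ℂˣ) : ℂ) = ζ ((y : ↥(Subgroup.zpowers h)) : G) / ζ 1 := by
    intro y
    show (((Cfsg.Agent.Lib.Helper76_GalConj.centralHom χ).toHomUnits (ι y) : ℂˣ) : ℂ) = _
    rw [MonoidHom.coe_toHomUnits, Cfsg.Agent.Lib.Helper76_GalConj.centralHom_apply]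
    rfl
  -- values on the centre
  have hcen : ∀ y : G, y ∈ Subgroup.center G → ζ (u * y) * ζ 1 = - ζ y := by
    intro y hy
    have := Cfsg.Agent.Lib.Helper76_GalConj.irr_mul_central χ hy u
    rw [hχ, hχ, hχ, hχ, hinv u hu] at this
    rw [this]; ring
  have h0p : ∀ y : ↥H₀, (fun y : ↥(Subgroup.zpowers h) => (ζ (y : G) + ζ (u * (y : G))) / 2) (y : ↥(Subgroup.zpowers h))
      = (d : ℂ) * ((θ₀ y : ℂˣ) : ℂ) := by
    intro y
    have h1 := hcen ((y : ↥(Subgroup.zpowers h)) : G) y.2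
    rw [hθ₀ y]
    show (ζ ((y : ↥(Subgroup.zpowers h)) : G) + ζ (u * ((y : ↥(Subgroup.zpowers h)) : G))) / 2 = _
    have h2 : ζ (u * ((y : ↥(Subgroup.zpowers h)) : G)) = - ζ ((y : ↥(Subgroup.zpowers h)) : G) / ζ 1 := by
      rw [eq_div_iff hζ1ne]; exact h1
    rw [h2]
    field_simp
    rw [hζ1']
    ring
  have h0m : ∀ y : ↥H₀, (fun y : ↥(Subgroup.zpowers h) => (ζ (y : G) - ζ (u * (y : G))) / 2) (y : ↥(Subgroup.zpowers h))
      = ((d : ℂ) + 1) * ((θ₀ y : ℂˣ) : ℂ) := by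
    intro y
    have h1 := hcen ((y : ↥(Subgroup.zpowers h)) : G) y.2
    rw [hθ₀ y]
    show (ζ ((y : ↥(Subgroup.zpowers h)) : G) - ζ (u * ((y : ↥(Subgroup.zpowers h)) : G))) / 2 = _
    have h2 : ζ (u * ((y : ↥(Subgroup.zpowers h)) : G)) = - ζ ((y : ↥(Subgroup.zpowers h)) : G) / ζ 1 := by
      rw [eq_div_iff hζ1ne]; exact h1
    rw [h2]
    field_simp
    rw [hζ1']
    ring
  have hoff : ∀ y : ↥(Subgroup.zpowers h), y ∉ H₀ →
      (fun y : ↥(Subgroup.zpowers h) => (ζ (y : G) + ζ (u * (y : G))) / 2) y +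
        (fun y : ↥(Subgroup.zpowers h) => (ζ (y : G) - ζ (u * (y : G))) / 2) y = 0 ∧
      ((fun y : ↥(Subgroup.zpowers h) => (ζ (y : G) + ζ (u * (y : G))) / 2) y = 0 ∨
        ‖(fun y : ↥(Subgroup.zpowers h) => (ζ (y : G) + ζ (u * (y : G))) / 2) y‖ = (d : ℝ)) := by
    intro y hy
    have hyc : (y : G) ∉ Subgroup.center G := hy
    have hyo : Odd (orderOf (y : G)) := hh.of_dvd_nat (orderOf_dvd_of_mem_zpowers y.2)
    have hyu : Commute u (y : G) := hHcomm _ y.2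
    have hyp : ¬ p ∣ orderOf (y : G) :=
      Cfsg.Agent.Lib.Helper60_P2_CPR.cpr hc u (y : G) hu hyu
    have hz : ζ (y : G) = 0 := by
      rcases hodd _ hyo hyp with h0 | h0
      · exact h0
      · exact absurd h0 hyc
    have huy := Cfsg.Agent.Lib.Helper5_P2_UY.uy_vals hc hodd u (y : G) hu hyu hyo hyp hyc
    refine ⟨?_, ?_⟩
    · show (ζ (y : G) + ζ (u * (y : G))) / 2 + (ζ (y : G) - ζ (u * (y : G))) / 2 = 0
      rw [hz]; ring
    · show (ζ (y : G) + ζ (u * (y : G))) / 2 = 0 ∨ ‖(ζ (y : G) + ζ (u * (y : G))) / 2‖ = (d : ℝ)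
      rw [hz, zero_add]
      rcases huy with h0 | h0
      · left; rw [h0, zero_div]
      · right
        rw [norm_div, h0, hd]
        push_cast
        rw [Complex.norm_ofNat]
        ring
  -- apply P2-CYC
  let _ : CommGroup ↥(Subgroup.zpowers h) :=
    { (inferInstance : Group ↥(Subgroup.zpowers h)) with mul_comm := fun a b => mul_comm' a b }
  have hoddH : Odd (Nat.card ↥(Subgroup.zpowers h)) := by
    rw [Nat.card_zpowers]; exact hh
  have htop : H₀ = ⊤ :=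
    Cfsg.Agent.Lib.Helper5_P2_CYC.cyc_top hoddH H₀ d hd2 _ _ hψp hψm θ₀ h0p h0m hoff
  have hmem : (⟨h, Subgroup.mem_zpowers h⟩ : ↥(Subgroup.zpowers h)) ∈ H₀ := by rw [htop]; trivial
  exact hmem

/-- **P2-CENT**, verbatim. -/
theorem cent_inv (hc : Core G p P ζ k₂)
    (hodd : ∀ g : G, Odd (orderOf g) → ¬ p ∣ orderOf g → ζ g = 0 ∨ g ∈ Subgroup.center G)
    (hinv : ∀ u : G, orderOf u = 2 → ζ u = -1) :
    ∀ u h : G, orderOf u = 2 → Commute u h → Odd (orderOf h) → h ∈ Subgroup.center G :=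
  cent_inv_aux hc
    (fun u hu H hH => Cfsg.Agent.Lib.Helper73_P2_EIGCH.eig_chars hc.irr u hu H hH) hodd hinv

end partB2

end Cfsg.Agent.Lib.Helper5_P2_CENT
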