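/-
S4705 package P2-K2 (architect helper3): the CRT exponent `k₂`.
-/
import Mathlib

set_option autoImplicit false
set_option linter.unusedSectionVars false
set_option linter.unusedVariables false

namespace Cfsg.Agent.Lib.Helper79_P2_K2

universe u

variable {G : Type u} [Group G] [Fintype G] {p : ℕ}

theorem exists_k2 (hpp : p.Prime) (hp2 : p ≠ 2) : ∃ k₂ : ℕ, k₂.Coprime (Nat.card G) ∧ k₂ ≡ 1 [MOD p] ∧
    (∀ g : G, (∃ n : ℕ, orderOf g = 2 ^ n) → g ^ k₂ = g) ∧
    (∀ g : G, Odd (orderOf g) → ¬ p ∣ orderOf g → g ^ k₂ = g * g) ∧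
    (∀ d : ℕ, Odd d → d.Coprime p → d ∣ Nat.card G → k₂ ≡ 2 [MOD d]) := by
  have hn0 : Nat.card G ≠ 0 := Nat.card_pos.ne'
  obtain ⟨a, n₁, h2n₁, hn⟩ := Nat.exists_eq_pow_mul_and_not_dvd hn0 2 (by norm_num)
  have hn₁0 : n₁ ≠ 0 := by
    rintro rfl
    exact h2n₁ (dvd_zero _)
  obtain ⟨b, B, hpB, hn₁⟩ := Nat.exists_eq_pow_mul_and_not_dvd hn₁0 p hpp.ne_one
  have h2B : ¬ 2 ∣ B := fun h => h2n₁ (hn₁ ▸ Dvd.dvd.mul_left h _)
  have hBodd : Nat.Coprime 2 B := (Nat.Prime.coprime_iff_not_dvd Nat.prime_two).mpr h2B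
  have hpBc : Nat.Coprime p B := (Nat.Prime.coprime_iff_not_dvd hpp).mpr hpB
  have h2p : Nat.Coprime 2 p := by
    rw [Nat.coprime_primes Nat.prime_two hpp]
    exact fun h => hp2 h.symm
  -- the moduli
  have hcop : Nat.Coprime (2 ^ a * p ^ (b + 1)) B :=
    Nat.Coprime.mul_left (hBodd.pow_left a) (hpBc.pow_left (b + 1))
  obtain ⟨k, hk1, hk2⟩ := Nat.chineseRemainder hcop 1 2
  have hnAB : Nat.card G = 2 ^ a * p ^ b * B := by rw [hn, hn₁, mul_assoc]
  -- divisors
  have hdB : ∀ d : ℕ, Odd d → d.Coprime p → d ∣ Nat.card G → d ∣ B := by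
    intro d hdodd hdp hd
    have hd2 : Nat.Coprime d 2 := hdodd.coprime_two_right
    have hc : Nat.Coprime d (2 ^ a * p ^ b) :=
      Nat.Coprime.mul_right (hd2.pow_right a) (hdp.pow_right b)
    rw [hnAB] at hd
    exact hc.dvd_of_dvd_mul_left hd
  have h2A : ∀ m : ℕ, 2 ^ m ∣ Nat.card G → 2 ^ m ∣ 2 ^ a * p ^ (b + 1) := by
    intro m hm
    have hc : Nat.Coprime (2 ^ m) (p ^ b * B) :=
      Nat.Coprime.pow_left m (Nat.Coprime.mul_right (h2p.pow_right b) hBodd)
    rw [hnAB, mul_assoc] at hm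
    exact (hc.dvd_of_dvd_mul_right hm).mul_right _
  have hkp : k ≡ 1 [MOD p] := by
    apply hk1.of_dvd
    exact Dvd.dvd.mul_left (dvd_pow_self p (Nat.succ_ne_zero b)) _
  have hkd : ∀ d : ℕ, Odd d → d.Coprime p → d ∣ Nat.card G → k ≡ 2 [MOD d] :=
    fun d h1 h2 h3 => hk2.of_dvd (hdB d h1 h2 h3)
  refine ⟨k, ?_, hkp, ?_, ?_, hkd⟩
  · -- coprimality
    rw [hnAB]
    apply Nat.Coprime.mul_right
    · apply Nat.Coprime.mul_right
      · rcases Nat.eq_zero_or_pos a with ha | ha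
        · rw [ha, pow_zero]; exact Nat.coprime_one_right k
        · apply Nat.Coprime.pow_right
          have h2 : k ≡ 1 [MOD 2] := by
            apply hk1.of_dvd
            exact Dvd.dvd.mul_right (dvd_pow_self 2 ha.ne') _
          rw [Nat.coprime_comm, Nat.Prime.coprime_iff_not_dvd Nat.prime_two]
          intro h
          have : k ≡ 0 [MOD 2] := (Nat.modEq_zero_iff_dvd).mpr h
          have := this.symm.trans h2
          exact absurd this (by decide)
      · apply Nat.Coprime.pow_right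
        rw [Nat.coprime_comm, Nat.Prime.coprime_iff_not_dvd hpp]
        intro h
        have h0 : k ≡ 0 [MOD p] := (Nat.modEq_zero_iff_dvd).mpr h
        have h1 := h0.symm.trans hkp
        have : p ∣ 1 := (Nat.modEq_zero_iff_dvd).mp h1.symm
        exact hpp.one_lt.ne' (Nat.dvd_one.mp this)
    · -- coprime to `B`
      have h1 : Nat.gcd k B = Nat.gcd 2 B := hk2.gcd_eq
      unfold Nat.Coprime
      rw [h1]
      exact hBodd
  · rintro g ⟨m, hm⟩
    have h1 : k ≡ 1 [MOD orderOf g] := by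
      apply hk1.of_dvd
      rw [hm]
      apply h2A
      rw [← hm]
      exact orderOf_dvd_natCard g
    have := (pow_eq_pow_iff_modEq (x := g)).mpr h1
    rwa [pow_one] at this
  · intro g hodd hpg
    have hc : (orderOf g).Coprime p := by
      rw [Nat.coprime_comm, Nat.Prime.coprime_iff_not_dvd hpp]
      exact hpg
    have h1 : k ≡ 2 [MOD orderOf g] := hkd _ hodd hc (orderOf_dvd_natCard g)
    have := (pow_eq_pow_iff_modEq (x := g)).mpr h1
    rwa [pow_two] at this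

end Cfsg.Agent.Lib.Helper79_P2_K2
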