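import Mathlib
import Cfsg.Prelude.Def_Characters
import Cfsg.Prelude.Def_Blocks
import Cfsg.Prelude.Def_Solvable
import Cfsg.Prelude.Def_Local
import Cfsg.Agent.Lib.Helper3_P2Defs
import Cfsg.Agent.Lib.Helper16_GenSetup
import Cfsg.Agent.Lib.Helper16_GenMain
import Cfsg.Agent.Lib.Helper16_GenFinal
import Cfsg.Agent.Lib.Helper3_Brauer504A

/-!
# S4705 package P2-IRRH (helper81; architect helper3)

The restriction of `ζ` to a normal subgroup `H` containing the Sylow `p`-subgroup `P` is irreducible: some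
constituent `ψ₀` of `ζ|_H` has `P ⊔ ker ψ₀` not normal in `H` (else `P ⊴ H`, so `P ⊴ G`), hence degree at least
`(p - 1) / 2` (landed S4503); by Clifford all constituents are conjugate to `ψ₀` with the same multiplicity, and
`2 · (p - 1) / 2 > p - 2`.
-/

set_option autoImplicit false
set_option linter.unusedSectionVars false
set_option linter.unusedVariables false

namespace Cfsg.Agent.Lib.Helper81_P2_IRRH

open Cfsg Cfsg.Agent.Lib.Helper3_P2Defs Cfsg.Agent.Lib.Helper16_GenSetup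
  Cfsg.Agent.Lib.Helper16_GenMain Cfsg.Agent.Lib.Helper16_GenFinal
open scoped ComplexConjugate

universe u

section aux

open Cfsg.Agent.Lib.Helper76_GalConj Cfsg.Agent.Lib.Helper80_CharBasic
  Cfsg.Agent.Lib.Helper3_Brauer503R Cfsg.Agent.Lib.Helper75_CharArith Cfsg.Agent.Lib.Helper75_Clifford
  Cfsg.Agent.Lib.Helper3_Brauer504A

/-- A faithful character of a group with `p ∥ |G|` and without normal subgroups of order `p` has a constituent of
degree at least `(p - 1) / 2` (first half of `Helper3_Brauer504A.irr_of_half`). -/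
theorem exists_big_constituent {G : Type u} [Group G] [Fintype G] (p : ℕ) (hp : p.Prime)
    (hdiv : p ∣ Nat.card G) (hsq : ¬ p ^ 2 ∣ Nat.card G)
    (hnn : ∀ H : Subgroup G, H.Normal → Nat.card H ≠ p) (χ : G → ℂ)
    (hfaith : ∀ g : G, χ g = χ 1 → g = 1) (m : IrrCharacter G → ℕ)
    (hsum : χ = ∑ ψ : IrrCharacter G, (m ψ : ℂ) • (ψ : G → ℂ)) :
    ∃ ψ : IrrCharacter G, m ψ ≠ 0 ∧ p ≤ 2 * charDegree (ψ : G → ℂ) + 1 := by
  classical
  have : Fact p.Prime := ⟨hp⟩
  obtain ⟨P⟩ : Nonempty (Sylow p G) := inferInstance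
  have hPc : Nat.card (P : Subgroup G) = p :=
    Cfsg.Agent.Lib.Helper78_McKayA.card_sylow_eq hdiv hsq P
  have hPn : ¬ (P : Subgroup G).Normal := fun h => hnn _ h hPc
  -- some constituent `ψ` has `P ⊔ ker ψ` not normal
  have hex : ∃ ψ : IrrCharacter G, m ψ ≠ 0 ∧ ¬ ((P : Subgroup G) ⊔ kerC ψ).Normal := by
    by_contra hall
    push Not at hall
    apply hPn
    set L : Subgroup G := ⨅ ψ : {ψ : IrrCharacter G // m ψ ≠ 0}, (P : Subgroup G) ⊔ kerC ψ.1
      with hL
    have hLn : L.Normal := by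
      have : ∀ ψ : {ψ : IrrCharacter G // m ψ ≠ 0}, ((P : Subgroup G) ⊔ kerC ψ.1).Normal :=
        fun ψ => hall ψ.1 ψ.2
      exact Subgroup.normal_iInf_normal this
    have hPL : (P : Subgroup G) ≤ L := le_iInf fun ψ => le_sup_left
    have hLe : ∀ g ∈ L, g ^ p = 1 := by
      intro g hg
      apply hfaith
      apply apply_eq_of_mem_kers m hsum
      intro ψ hψ
      have hg' : g ∈ (P : Subgroup G) ⊔ kerC ψ := (Subgroup.mem_iInf.mp hg) ⟨ψ, hψ⟩
      exact pow_mem_of_mem_sup P hPc (kerC ψ) hg'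
    rw [← eq_of_exponent P L hPL hLe]
    exact hLn
  obtain ⟨ψ, hmψ, hnotn⟩ := hex
  -- the kernel of `ψ` is a `p'`-group
  have hcardmul : Nat.card G = Nat.card (G ⧸ kerC ψ) * Nat.card (kerC ψ) :=
    Subgroup.card_eq_card_quotient_mul_card_subgroup (kerC ψ)
  -- a `p`-element maps to `1` in a quotient of order prime to `p`
  have hPle : ∀ N : Subgroup G, N.Normal → ¬ p ∣ N.index → (P : Subgroup G) ≤ N := by
    intro N hN hidx a ha
    have h1 : a ^ p = 1 := by
      have h1 : (⟨a, ha⟩ : ↥(P : Subgroup G)) ^ Nat.card (P : Subgroup G) = 1 := pow_card_eq_one'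
      rw [hPc] at h1
      exact congrArg Subtype.val h1
    have h2 : orderOf (QuotientGroup.mk a : G ⧸ N) ∣ p := by
      apply orderOf_dvd_of_pow_eq_one
      rw [← QuotientGroup.mk_pow, h1, QuotientGroup.mk_one]
    have h3 : orderOf (QuotientGroup.mk a : G ⧸ N) ∣ N.index := by
      rw [Subgroup.index_eq_card]
      exact orderOf_dvd_natCard _
    rcases (Nat.dvd_prime hp).mp h2 with h4 | h4
    · exact (QuotientGroup.eq_one_iff a).mp (orderOf_eq_one_iff.mp h4)
    · exact absurd (h4 ▸ h3) hidx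
  have hpK : ¬ p ∣ Nat.card (kerC ψ) := by
    intro hdvd
    apply hnotn
    have hidx : ¬ p ∣ (kerC ψ).index := by
      intro h
      apply hsq
      rw [pow_two, ← Subgroup.index_mul_card (kerC ψ)]
      exact Nat.mul_dvd_mul h hdvd
    rw [sup_eq_right.mpr (hPle (kerC ψ) inferInstance hidx)]
    infer_instance
  have hqdiv : p ∣ Nat.card (G ⧸ kerC ψ) := by
    rw [hcardmul] at hdiv
    rcases (Nat.Prime.dvd_mul hp).mp hdiv with h | h
    · exact h
    · exact absurd h hpK
  have hqsq : ¬ p ^ 2 ∣ Nat.card (G ⧸ kerC ψ) := fun h =>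
    hsq (hcardmul ▸ Dvd.dvd.mul_right h _)
  have hqnn : ∀ H : Subgroup (G ⧸ kerC ψ), H.Normal → Nat.card H ≠ p := by
    intro H hH hHc
    apply hnotn
    have hcomapN : (H.comap (QuotientGroup.mk' (kerC ψ))).Normal := hH.comap _
    have hidx : ¬ p ∣ (H.comap (QuotientGroup.mk' (kerC ψ))).index := by
      rw [Subgroup.index_comap_of_surjective _ (QuotientGroup.mk'_surjective _)]
      intro h
      apply hqsq
      rw [pow_two, ← Subgroup.index_mul_card H, hHc]
      exact Nat.mul_dvd_mul_right h p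
    have hP' := hPle _ hcomapN hidx
    -- the image of `P` is all of `H`
    have hmapH : (P : Subgroup G).map (QuotientGroup.mk' (kerC ψ)) = H := by
      apply Subgroup.eq_of_le_of_card_ge
      · rintro _ ⟨a, ha, rfl⟩
        exact hP' ha
      · rw [hHc]
        have h1 : Nat.card ((P : Subgroup G).map (QuotientGroup.mk' (kerC ψ))) ∣ p := by
          have := Subgroup.card_map_dvd (H := (P : Subgroup G)) (QuotientGroup.mk' (kerC ψ))
          rwa [hPc] at this
        rcases (Nat.dvd_prime hp).mp h1 with h2 | h2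
        · exfalso
          apply hpK
          have hle : (P : Subgroup G) ≤ kerC ψ := by
            intro a ha
            have : (QuotientGroup.mk' (kerC ψ)) a ∈
                (P : Subgroup G).map (QuotientGroup.mk' (kerC ψ)) := ⟨a, ha, rfl⟩
            rw [(Subgroup.card_eq_one).mp h2, Subgroup.mem_bot] at this
            exact (QuotientGroup.eq_one_iff a).mp this
          have := Subgroup.card_dvd_of_le hle
          rwa [hPc] at this
        · exact h2.ge
    have heq : (P : Subgroup G) ⊔ kerC ψ = H.comap (QuotientGroup.mk' (kerC ψ)) := by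
      apply le_antisymm
      · apply sup_le hP'
        intro k hk
        rw [Subgroup.mem_comap, QuotientGroup.mk'_apply, (QuotientGroup.eq_one_iff k).mpr hk]
        exact H.one_mem
      · intro g hg
        rw [Subgroup.mem_comap, ← hmapH] at hg
        obtain ⟨a, ha, hag⟩ := hg
        have hk : a⁻¹ * g ∈ kerC ψ := by
          rw [← QuotientGroup.eq_one_iff, QuotientGroup.mk_mul, QuotientGroup.mk_inv]
          rw [QuotientGroup.mk'_apply, QuotientGroup.mk'_apply] at hag
          rw [hag, inv_mul_cancel]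
        have : g = a * (a⁻¹ * g) := by group
        rw [this]
        exact Subgroup.mul_mem _ (Subgroup.mem_sup_left ha) (Subgroup.mem_sup_right hk)
    rw [heq]
    exact hcomapN
  -- deflate `ψ` and apply S4503
  obtain ⟨ψq, hψq⟩ := exists_quot_char (kerC ψ) ψ le_rfl
  have hqdeg : charDegree (ψq : G ⧸ kerC ψ → ℂ) = charDegree (ψ : G → ℂ) := by
    rw [← charDegree_infl (kerC ψ) ψq, hψq]
  have hqfaith : ∀ x : G ⧸ kerC ψ,
      (ψq : G ⧸ kerC ψ → ℂ) x = (ψq : G ⧸ kerC ψ → ℂ) 1 → x = 1 := by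
    intro x hx
    obtain ⟨g, rfl⟩ := QuotientGroup.mk_surjective x
    rw [QuotientGroup.eq_one_iff, mem_kerC, ← hψq]
    simpa using hx
  have hbound := Cfsg.Agent.S4503.result p hp hqdiv hqsq hqnn (ψq : G ⧸ kerC ψ → ℂ)
    (Cfsg.Agent.Lib.Helper3_CharBridge.isCharacter_of_isIrrCharacter ψq.2) hqfaith
  rw [hqdeg] at hbound
  exact ⟨ψ, hmψ, hbound⟩


/-- A normal subgroup of order `p` of a group whose Sylow `p`-subgroup `P` has order `p` is `P`. -/
theorem sylow_normal_of_normal_card {G : Type u} [Group G] [Finite G] {p : ℕ} [hp : Fact p.Prime]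
    (P : Sylow p G) (hPc : Nat.card (P : Subgroup G) = p) (K : Subgroup G) (hK : K.Normal)
    (hKc : Nat.card K = p) : (P : Subgroup G).Normal := by
  have hKp : IsPGroup p K := IsPGroup.of_card (n := 1) (by rw [hKc, pow_one])
  obtain ⟨S, hS⟩ := hKp.exists_le_sylow
  obtain ⟨g, hg⟩ := MulAction.exists_smul_eq G P S
  have hSc : Nat.card (S : Subgroup G) = p := by
    have h1 : Nat.card (S : Subgroup G) = Nat.card (P : Subgroup G) :=
      S.card_eq_multiplicity.trans P.card_eq_multiplicity.symm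
    rw [h1]
    exact hPc
  have hKS : K = (S : Subgroup G) :=
    Subgroup.eq_of_le_of_card_ge hS (by rw [hKc]; exact hSc.le)
  have hSn : (S : Subgroup G).Normal := hKS ▸ hK
  have hPS : P = S := by
    have h1 : g⁻¹ • S = S := Sylow.smul_eq_of_normal
    rw [← hg, inv_smul_smul] at h1
    rw [← hg]
    exact h1
  rw [hPS]
  exact hSn

end aux

section partC

open Cfsg.Agent.Lib.Helper76_GalConj Cfsg.Agent.Lib.Helper80_CharBasic
  Cfsg.Agent.Lib.Helper3_Brauer503R Cfsg.Agent.Lib.Helper75_CharArith Cfsg.Agent.Lib.Helper75_Clifford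
  Cfsg.Agent.Lib.Helper3_Brauer504A

variable {G : Type u} [Group G] [Finite G] {p : ℕ} [hp : Fact p.Prime] {P : Sylow p G}
  {ζ : G → ℂ}

/-- **P2-IRRH**. -/
theorem irr_res_resid (h : Hyp G p P ζ) (H : Subgroup G) [H.Normal]
    (hPH : (P : Subgroup G) ≤ H) : IsIrrCharacter ↥H (fun y : ↥H => ζ (y : G)) := by
  classical
  have hHn : H.Normal := inferInstance
  have : Fintype G := Fintype.ofFinite G
  have : Fintype ↥H := Fintype.ofFinite _
  have hpp : p.Prime := hp.out
  have hPc : Nat.card (P : Subgroup G) = p := h.cardP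
  have hp5 := h.p5
  -- `p ∥ |G|`
  have hdivG : p ∣ Nat.card G := by
    have := Subgroup.card_subgroup_dvd_card (P : Subgroup G)
    rwa [hPc] at this
  have hsqG : ¬ p ^ 2 ∣ Nat.card G := by
    intro hsq
    have h1 := P.card_eq_multiplicity
    have h1' : Nat.card (P : Subgroup G) = p ^ (Nat.card G).factorization p := h1
    rw [hPc] at h1'
    have h2 : (Nat.card G).factorization p = 1 := by
      have h3 : p ^ 1 = p ^ (Nat.card G).factorization p := by rw [pow_one]; exact h1'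
      exact (Nat.pow_right_injective hpp.two_le h3).symm
    have h4 := (hpp.pow_dvd_iff_le_factorization (Nat.card_pos (α := G)).ne').mp hsq
    omega
  have hdivH : p ∣ Nat.card H := by
    have := Subgroup.card_dvd_of_le hPH
    rwa [hPc] at this
  have hsqH : ¬ p ^ 2 ∣ Nat.card H :=
    fun h' => hsqG (h'.trans (Subgroup.card_subgroup_dvd_card H))
  have hnnG : ∀ K : Subgroup G, K.Normal → Nat.card K ≠ p := fun K hK hKc =>
    h.nn (sylow_normal_of_normal_card P hPc K hK hKc)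
  have hnnH : ∀ Q : Subgroup ↥H, Q.Normal → Nat.card Q ≠ p := by
    intro Q hQ hQc
    obtain ⟨K, hK, hKc⟩ := exists_normal_of_normal_sub hsqG H Q hQc
    exact hnnG K hK hKc
  -- the restriction
  have hζc : IsCharacter G ζ := Cfsg.Agent.Lib.Helper3_CharBridge.isCharacter_of_isIrrCharacter h.irr
  have hχ : IsCharacter ↥H (res H ζ) := isCharacter_res H hζc
  obtain ⟨m, hm, hsum⟩ := exists_multiplicities hχ
  obtain ⟨ψ₀, hm0, hbig⟩ := exists_big_constituent p hpp hdivH hsqH hnnH (res H ζ)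
    (res_faithful H ζ h.faith) m hsum
  -- all constituents have the degree of `ψ₀`
  have hdegc : ∀ ψ : IrrCharacter ↥H, m ψ ≠ 0 →
      charDegree (ψ : ↥H → ℂ) = charDegree (ψ₀ : ↥H → ℂ) := by
    intro ψ hψ
    have h1 : classInner (res H ζ) (ψ₀ : ↥H → ℂ) ≠ 0 := by
      rw [hm ψ₀]; exact_mod_cast hm0
    have h2 : classInner (res H ζ) (ψ : ↥H → ℂ) ≠ 0 := by
      rw [hm ψ]; exact_mod_cast hψ
    obtain ⟨g, hg⟩ := exists_conj_of_constituent H hHn h.irr ψ₀.2 ψ.2 h1 h2
    have h1' : Cfsg.Agent.Lib.Helper75_Clifford.conjFun H hHn (ψ₀ : ↥H → ℂ) g 1 =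
        (ψ₀ : ↥H → ℂ) 1 := by
      have hone : (⟨g * ((1 : ↥H) : G) * g⁻¹, hHn.conj_mem _ (1 : ↥H).2 g⟩ : ↥H) = 1 := by
        apply Subtype.ext
        simp
      rw [Cfsg.Agent.Lib.Helper75_Clifford.conjFun_apply, hone]
    show ⌊((ψ : ↥H → ℂ) 1).re⌋₊ = ⌊((ψ₀ : ↥H → ℂ) 1).re⌋₊
    rw [hg, h1']
  have hsumdeg := charDegree_eq_sum m hsum
  rw [charDegree_res, h.deg] at hsumdeg
  have hdpos : 0 < charDegree (ψ₀ : ↥H → ℂ) := charDegree_pos ψ₀
  -- no other constituent
  have hother : ∀ ψ : IrrCharacter ↥H, ψ ≠ ψ₀ → m ψ = 0 := by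
    intro ψ hne
    by_contra hψ
    have h1 : m ψ₀ * charDegree (ψ₀ : ↥H → ℂ) + m ψ * charDegree (ψ : ↥H → ℂ) ≤
        ∑ ψ' : IrrCharacter ↥H, m ψ' * charDegree (ψ' : ↥H → ℂ) := by
      rw [← Finset.add_sum_erase Finset.univ _ (Finset.mem_univ ψ₀)]
      apply Nat.add_le_add_left
      exact Finset.single_le_sum
        (f := fun ψ' : IrrCharacter ↥H => m ψ' * charDegree (ψ' : ↥H → ℂ))
        (fun _ _ => Nat.zero_le _) (Finset.mem_erase.mpr ⟨hne, Finset.mem_univ ψ⟩)
    rw [hdegc ψ hψ] at h1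
    have h2 : charDegree (ψ₀ : ↥H → ℂ) ≤ m ψ₀ * charDegree (ψ₀ : ↥H → ℂ) :=
      Nat.le_mul_of_pos_left _ (Nat.pos_of_ne_zero hm0)
    have h3 : charDegree (ψ₀ : ↥H → ℂ) ≤ m ψ * charDegree (ψ₀ : ↥H → ℂ) :=
      Nat.le_mul_of_pos_left _ (Nat.pos_of_ne_zero hψ)
    omega
  have hrest : ∑ ψ' : IrrCharacter ↥H, m ψ' * charDegree (ψ' : ↥H → ℂ) =
      m ψ₀ * charDegree (ψ₀ : ↥H → ℂ) := by
    rw [Finset.sum_eq_single ψ₀]
    · intro ψ' _ hne
      rw [hother ψ' hne, zero_mul]
    · intro h'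
      exact absurd (Finset.mem_univ ψ₀) h'
  rw [hrest] at hsumdeg
  have hm1 : m ψ₀ = 1 := by
    have h2 : m ψ₀ ≤ 1 := by
      by_contra h'
      push Not at h'
      have : 2 * charDegree (ψ₀ : ↥H → ℂ) ≤ m ψ₀ * charDegree (ψ₀ : ↥H → ℂ) :=
        Nat.mul_le_mul_right _ h'
      omega
    omega
  have hχψ : res H ζ = (ψ₀ : ↥H → ℂ) := by
    rw [hsum, Finset.sum_eq_single ψ₀]
    · rw [hm1, Nat.cast_one, one_smul]
    · intro ψ' _ hne
      rw [hother ψ' hne, Nat.cast_zero, zero_smul]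
    · intro h'
      exact absurd (Finset.mem_univ ψ₀) h'
  show IsIrrCharacter ↥H (res H ζ)
  rw [hχψ]
  exact ψ₀.2

end partC

end Cfsg.Agent.Lib.Helper81_P2_IRRH
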