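import Mathlib
import Cfsg.Agent.Lib.Helper5_PSLCard

/-!
# P2-SYLR (helper86, for helper3's S4705 market)

Sylow `r`-subgroups of (a group isomorphic to) `SL(2, 2^m)` are cyclic for primes `r ∣ 2^m - 1`.
-/

set_option autoImplicit false

namespace Cfsg.Agent.Lib.Helper86_P2_SYLR

universe u

/-- If a finite group has a cyclic subgroup whose order has the full `r`-part of `|G|`, all Sylow
`r`-subgroups of `G` are cyclic. -/
theorem sylow_cyclic_of_cyclic_subgroup {G : Type*} [Group G] [Finite G] (r : ℕ) [Fact r.Prime]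
    (T : Subgroup G) [hT : IsCyclic T]
    (hv : (Nat.card T).factorization r = (Nat.card G).factorization r) (R : Sylow r G) :
    IsCyclic ↥(R : Subgroup G) := by
  classical
  obtain ⟨P⟩ : Nonempty (Sylow r T) := inferInstance
  have hP : Nat.card (P : Subgroup T) = r ^ (Nat.card T).factorization r :=
    Sylow.card_eq_multiplicity P
  -- image in G
  set P' : Subgroup G := (P : Subgroup T).map T.subtype with hP'
  have hcard : Nat.card P' = r ^ (Nat.card G).factorization r := by
    rw [hP', Subgroup.card_map_of_injective T.subtype_injective, hP, hv]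
  set Q : Sylow r G := Sylow.ofCard P' hcard with hQ
  have hQcoe : (Q : Subgroup G) = P' := Sylow.coe_ofCard P' hcard
  have hcycP : IsCyclic (P : Subgroup T) := inferInstance
  have hcycP' : IsCyclic P' := by
    have e : (P : Subgroup T) ≃* P' := (P : Subgroup T).equivMapOfInjective T.subtype T.subtype_injective
    exact isCyclic_of_surjective e.toMonoidHom e.surjective
  have hcycQ : IsCyclic (Q : Subgroup G) := by rw [hQcoe]; exact hcycP'
  obtain ⟨g, hg⟩ := MulAction.exists_smul_eq G Q R
  have e2 : (Q : Subgroup G) ≃* ((g • Q : Sylow r G) : Subgroup G) := Sylow.equivSMul Q g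
  rw [← hg]
  exact isCyclic_of_surjective e2.toMonoidHom e2.surjective

/-- Diagonal matrix `diag(a, a⁻¹)` in `SL(2, F)`. -/
noncomputable def torusFun (F : Type) [Field F] (a : Fˣ) : Matrix.SpecialLinearGroup (Fin 2) F :=
  ⟨!![(a : F), 0; 0, ((a⁻¹ : Fˣ) : F)], by simp [Matrix.det_fin_two]⟩

theorem coe_torusFun (F : Type) [Field F] (a : Fˣ) :
    ((torusFun F a : Matrix.SpecialLinearGroup (Fin 2) F) : Matrix (Fin 2) (Fin 2) F) =
      !![(a : F), 0; 0, ((a⁻¹ : Fˣ) : F)] := rfl

/-- The diagonal torus of `SL(2, F)`. -/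
noncomputable def torus (F : Type) [Field F] : Fˣ →* Matrix.SpecialLinearGroup (Fin 2) F where
  toFun a := torusFun F a
  map_one' := by
    apply Subtype.ext
    rw [coe_torusFun, Matrix.SpecialLinearGroup.coe_one]
    ext i j; fin_cases i <;> fin_cases j <;> simp
  map_mul' a b := by
    apply Subtype.ext
    rw [Matrix.SpecialLinearGroup.coe_mul, coe_torusFun, coe_torusFun, coe_torusFun]
    ext i j; fin_cases i <;> fin_cases j <;> simp [Matrix.mul_apply, Fin.sum_univ_two, mul_comm]

theorem torus_injective (F : Type) [Field F] : Function.Injective (torus F) := by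
  intro a b h
  have h2 : ((torusFun F a : Matrix.SpecialLinearGroup (Fin 2) F) : Matrix (Fin 2) (Fin 2) F) 0 0 =
      ((torusFun F b : Matrix.SpecialLinearGroup (Fin 2) F) : Matrix (Fin 2) (Fin 2) F) 0 0 := by
    have : torusFun F a = torusFun F b := h
    rw [this]
  rw [coe_torusFun, coe_torusFun] at h2
  simp at h2
  exact Units.ext h2

theorem sylr {F : Type} [Field F] [Fintype F] (m : ℕ) (hF : Fintype.card F = 2 ^ m)
    {S : Type u} [Group S] [Finite S] (e : S ≃* Matrix.SpecialLinearGroup (Fin 2) F) (r : ℕ)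
    [Fact r.Prime] (hr : r ∣ 2 ^ m - 1) (R : Sylow r S) :
    IsCyclic ↥(R : Subgroup S) := by
  classical
  have hrp : r.Prime := Fact.out
  have hq1 : 1 < 2 ^ m := by rw [← hF]; exact Fintype.one_lt_card
  -- the torus inside S
  let f : Fˣ →* S := e.symm.toMonoidHom.comp (torus F)
  have hf : Function.Injective f := e.symm.injective.comp (torus_injective F)
  have : IsCyclic f.range := by
    have : Function.Surjective f.rangeRestrict := f.rangeRestrict_surjective
    exact isCyclic_of_surjective f.rangeRestrict this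
  have hcardT : Nat.card f.range = 2 ^ m - 1 := by
    rw [Nat.card_congr (MonoidHom.ofInjective hf).symm.toEquiv, Nat.card_units, Nat.card_eq_fintype_card, hF]
  have hcardS : Nat.card S = 2 ^ m * ((2 ^ m) ^ 2 - 1) := by
    rw [Nat.card_congr e.toEquiv, Cfsg.Agent.Lib.Helper5_PSLCard.card_SL_two, hF]
  -- r is odd, does not divide 2^m nor 2^m + 1
  have hr2 : r ≠ 2 := by
    rintro rfl
    have : 2 ∣ 2 ^ m := dvd_pow_self 2 (by rintro rfl; simp at hq1)
    omega
  have hrq : ¬ r ∣ 2 ^ m := by
    intro h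
    have := (Nat.prime_dvd_prime_iff_eq hrp Nat.prime_two).mp (hrp.dvd_of_dvd_pow h)
    exact hr2 this
  have hrq1 : ¬ r ∣ 2 ^ m + 1 := by
    intro h
    have h2 : r ∣ (2 ^ m + 1) - (2 ^ m - 1) := Nat.dvd_sub h hr
    have h3 : (2 ^ m + 1) - (2 ^ m - 1) = 2 := by omega
    rw [h3] at h2
    exact hr2 ((Nat.prime_dvd_prime_iff_eq hrp Nat.prime_two).mp h2)
  have hfac : (2 ^ m) ^ 2 - 1 = (2 ^ m - 1) * (2 ^ m + 1) := by
    have : 1 ≤ 2 ^ m := hq1.le
    zify [this, Nat.one_le_pow 2 (2 ^ m) (by omega)]
    ring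
  have hv : (Nat.card f.range).factorization r = (Nat.card S).factorization r := by
    rw [hcardT, hcardS, hfac]
    have h1 : (2 ^ m - 1) ≠ 0 := by omega
    have h2 : (2 ^ m + 1) ≠ 0 := by omega
    have h3 : (2 ^ m) ≠ 0 := by omega
    rw [Nat.factorization_mul h3 (Nat.mul_ne_zero h1 h2), Nat.factorization_mul h1 h2]
    simp only [Finsupp.coe_add, Pi.add_apply]
    rw [Nat.factorization_eq_zero_of_not_dvd hrq, Nat.factorization_eq_zero_of_not_dvd hrq1]
    omega
  exact sylow_cyclic_of_cyclic_subgroup r f.range hv R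

end Cfsg.Agent.Lib.Helper86_P2_SYLR
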