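import Mathlib
import Cfsg.Prelude.Def_Characters
import Cfsg.Prelude.Def_Blocks
import Cfsg.Agent.Lib.Helper3_P2Defs

/-!
# S4705, package P2-SPLIT (architect helper3)

`split_resid` : Frattini argument + orders: `G ≃* H × Z(G)`.
-/

set_option autoImplicit false
set_option linter.unusedSectionVars false
set_option linter.unusedVariables false

namespace Cfsg.Agent.Lib.Helper93_P2_SPLIT

open Cfsg Cfsg.Agent.Lib.Helper3_P2Defs
open scoped ComplexConjugate

universe u

section partC

variable {G : Type u} [Group G] [Finite G] {p : ℕ} [hp : Fact p.Prime] {P : Sylow p G}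
  {ζ : G → ℂ}

theorem card_subgroupOf_eq (K L : Subgroup G) : Nat.card (K.subgroupOf L) = Nat.card ↥(K ⊓ L) := by
  rw [← Subgroup.subgroupOf_map_subtype]
  exact (Subgroup.card_map_of_injective (Subgroup.subtype_injective L)).symm

/-- internal direct product of a normal subgroup with trivial centre and the centre, by counting -/
theorem nonempty_mulEquiv_prod_center (H : Subgroup G) (hZH : Subgroup.center ↥H = ⊥)
    (hcard : Nat.card G = Nat.card H * Nat.card (Subgroup.center G)) :
    Nonempty (G ≃* ↥H × ↥(Subgroup.center G)) := by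
  let f : ↥H × ↥(Subgroup.center G) →* G :=
    MonoidHom.noncommCoprod H.subtype (Subgroup.center G).subtype
      (fun h z => Subgroup.mem_center_iff.mp z.2 (h : G))
  have hf : ∀ x : ↥H × ↥(Subgroup.center G), f x = (x.1 : G) * (x.2 : G) := fun x => rfl
  have hinj : Function.Injective f := by
    rw [injective_iff_map_eq_one]
    rintro ⟨h, z⟩ hx
    rw [hf] at hx
    have hhz : (h : G) = (z : G)⁻¹ := eq_inv_of_mul_eq_one_left hx
    have hhc : (h : G) ∈ Subgroup.center G := by
      rw [hhz]; exact Subgroup.inv_mem _ z.2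
    have hh1 : h ∈ Subgroup.center ↥H := by
      rw [Subgroup.mem_center_iff]
      intro y
      apply Subtype.ext
      have := Subgroup.mem_center_iff.mp hhc (y : G)
      simpa using this
    rw [hZH, Subgroup.mem_bot] at hh1
    have hz1 : z = 1 := by
      apply Subtype.ext
      have : (z : G)⁻¹ = 1 := by rw [← hhz, hh1]; rfl
      simpa using this
    rw [hh1, hz1]
    rfl
  have hbij : Function.Bijective f := by
    apply hinj.bijective_of_nat_card_le
    rw [Nat.card_prod, hcard]
  exact ⟨(MulEquiv.ofBijective f hbij).symm⟩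

/-- **P2-SPLIT** -/
theorem split_resid (H : Subgroup G) [H.Normal] (hPH : (P : Subgroup G) ≤ H)
    (hZH : Subgroup.center ↥H = ⊥)
    (hNG : Nat.card ↥(Subgroup.normalizer ((P : Subgroup G) : Set G)) =
      2 * p * Nat.card (Subgroup.center G))
    (hNH : Nat.card ↥(Subgroup.normalizer ((P.subtype hPH : Subgroup ↥H) : Set ↥H)) = 2 * p) :
    Nonempty (G ≃* ↥H × ↥(Subgroup.center G)) := by
  apply nonempty_mulEquiv_prod_center H hZH
  set N := Subgroup.normalizer ((P : Subgroup G) : Set G) with hN
  have hsup : N ⊔ H = ⊤ := Sylow.normalizer_sup_eq_top' P hPH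
  -- `N_H(P) = N ∩ H`
  have hNsub : N.subgroupOf H =
      Subgroup.normalizer ((P.subtype hPH : Subgroup ↥H) : Set ↥H) := by
    rw [hN, Subgroup.subgroupOf_normalizer_eq hPH, Sylow.coe_subtype]
  have h1 : Nat.card ↥(N ⊓ H) = 2 * p := by
    rw [← card_subgroupOf_eq, hNsub, hNH]
  have h2 : Nat.card (H.subgroupOf N) = 2 * p := by
    rw [card_subgroupOf_eq, inf_comm, h1]
  -- `|G : H| = |N : N ∩ H|`
  have h3 : H.index = H.relIndex N := by
    rw [← Subgroup.relIndex_top_right, ← hsup, Subgroup.relIndex_sup_right]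
  have h4 : Nat.card (H.subgroupOf N) * H.relIndex N = Nat.card N :=
    Subgroup.card_mul_index (H.subgroupOf N)
  rw [h2, hNG, ← h3] at h4
  have hp0 : 0 < 2 * p := by have := hp.out.pos; omega
  have h5 : H.index = Nat.card (Subgroup.center G) := Nat.eq_of_mul_eq_mul_left hp0 h4
  rw [← h5, Subgroup.card_mul_index]

end partC

end Cfsg.Agent.Lib.Helper93_P2_SPLIT
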