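import Mathlib
import Cfsg.Agent.Lib.Helper3_P2Defs
import Cfsg.Agent.Lib.Helper16_P2_LOCA
import Cfsg.Agent.Lib.Helper35_P2_ZODD
import Cfsg.Agent.Lib.Helper79_P2_K2
import Cfsg.Agent.Lib.Helper3_P2_KEYID
import Cfsg.Agent.Lib.Helper58_P2_RAT2
import Cfsg.Agent.Lib.Helper16_P2_RAT
import Cfsg.Agent.Lib.Helper31_P2_INV
import Cfsg.Agent.Lib.Helper31_P2_NO4
import Cfsg.Agent.Lib.Helper5_P2_CENT
import Cfsg.Agent.Lib.Helper53_P2_VALS
import Cfsg.Agent.Lib.Helper31_P2_E1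
import Cfsg.Agent.Lib.Helper25_P2_SYL2
import Cfsg.Agent.Lib.Helper60_P2_CARDN
import Cfsg.Agent.Lib.Helper55_P2_ARITH
import Cfsg.Agent.Lib.Helper55_P2_TRANS
import Cfsg.Agent.Lib.Helper55_P2_RESID
import Cfsg.Agent.Lib.Helper52_P2_ODD
import Cfsg.Agent.Lib.Helper86_P2_SYLR
import Cfsg.Agent.Lib.Helper81_P2_IRRH
import Cfsg.Agent.Lib.Helper93_P2_PSING
import Cfsg.Agent.Lib.Helper25_P2_E2
import Cfsg.Agent.Lib.Helper93_P2_SPLIT
import Cfsg.Agent.Lib.Helper3_P2_HYPH
import Cfsg.Agent.Lib.Helper3_P2_PINH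
import Cfsg.Agent.Lib.Helper3_P2_IDENT

/-!
# S4705: assembly (helper3)
-/

set_option autoImplicit false
set_option linter.unusedSectionVars false

namespace Cfsg.Agent.Lib.Helper3_P2Main

open Cfsg Cfsg.Agent.Lib.Helper3_P2Defs Cfsg.Agent.Lib.Helper16_GenSetup
open Cfsg.Agent.Lib.Helper16_P2_LOCA (locA)
open Cfsg.Agent.Lib.Helper35_P2_ZODD (zodd)
open Cfsg.Agent.Lib.Helper79_P2_K2 (exists_k2)
open Cfsg.Agent.Lib.Helper3_P2_KEYID (keyid)
open Cfsg.Agent.Lib.Helper58_P2_RAT2 (rat2)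
open Cfsg.Agent.Lib.Helper16_P2_RAT (rat)
open Cfsg.Agent.Lib.Helper31_P2_INV (inv_val)
open Cfsg.Agent.Lib.Helper31_P2_NO4 (no4)
open Cfsg.Agent.Lib.Helper5_P2_CENT (cent_inv)
open Cfsg.Agent.Lib.Helper53_P2_VALS (reg_vals)
open Cfsg.Agent.Lib.Helper25_P2_SYL2 (syl2)
open Cfsg.Agent.Lib.Helper60_P2_CARDN (card_G)
open Cfsg.Agent.Lib.Helper55_P2_ARITH (arith)
open Cfsg.Agent.Lib.Helper55_P2_TRANS (center_eq_bot_of_cyclic)
open Cfsg.Agent.Lib.Helper55_P2_RESID (exists_resid)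
open Cfsg.Agent.Lib.Helper52_P2_ODD (odd_vals)
open Cfsg.Agent.Lib.Helper86_P2_SYLR (sylr)
open Cfsg.Agent.Lib.Helper81_P2_IRRH (irr_res_resid)
open Cfsg.Agent.Lib.Helper93_P2_PSING (psing_sum)
open Cfsg.Agent.Lib.Helper25_P2_E2 (eqE2)
open Cfsg.Agent.Lib.Helper93_P2_SPLIT (split_resid)
open Cfsg.Agent.Lib.Helper3_P2_HYPH (hyp_resid)
open Cfsg.Agent.Lib.Helper3_P2_PINH (p_le_resid)
open Cfsg.Agent.Lib.Helper31_P2_E1 (eqE1)
open Cfsg.Agent.Lib.Helper3_P2_IDENT (ident)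

universe u

variable {G : Type u} [Group G] [Finite G] {p : ℕ} [hp : Fact p.Prime] {P : Sylow p G}
  {ζ : G → ℂ}

/-- the element-wise data of a perfect group. -/
theorem core_of_perfect (h : Hyp G p P ζ) (hperf : commutator G = ⊤) :
    ∃ k₂ : ℕ, Core G p P ζ k₂ := by
  classical
  have : Fintype G := Fintype.ofFinite G
  have hl := locA h
  have hzd := zodd h hperf
  have hp5 := h.p5
  have hpodd : Odd p := hp.out.odd_of_ne_two (by omega)
  have hz_odd : Odd (Nat.card (Subgroup.center G)) := by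
    have h2 : Odd (p - 2) := by
      obtain ⟨t, ht⟩ := hpodd
      exact ⟨t - 1, by omega⟩
    exact Odd.of_dvd_nat h2 hzd
  have hz_cop : (Nat.card (Subgroup.center G)).Coprime p := by
    have h1 : (p - 2).Coprime p := by
      rw [Nat.coprime_comm, Nat.Prime.coprime_iff_not_dvd hp.out]
      intro hd
      have := Nat.le_of_dvd (by omega) hd
      omega
    exact Nat.Coprime.coprime_dvd_left hzd h1
  obtain ⟨k₂, hk, hk1, hk2, hkodd, hkd⟩ := exists_k2 (G := G) hp.out (by omega)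
  have hkz : k₂ ≡ 2 [MOD Nat.card (Subgroup.center G)] :=
    hkd _ hz_odd hz_cop (Subgroup.card_subgroup_dvd_card _)
  have hkey := keyid h hl k₂ hk hk1 hkz
  have hrat := rat2 (p := p) h.irr (by omega) hz_odd (fun k hk hkz' => rat h hl k hk hkz')
  exact ⟨k₂, { toHyp := h, toLoc := hl, zodd := hz_odd, k2two := hk2, k2odd := hkodd
               key := hkey, rat2 := hrat }⟩


/-- **Part B**: the perfect case. -/
theorem perfect_case (h : Hyp G p P ζ) (hperf : commutator G = ⊤) :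
    ∃ (m : ℕ) (F : Type) (_ : Field F) (_ : Fintype F), Fintype.card F = 2 ^ m ∧ p = 2 ^ m + 1 ∧
      Nonempty (G ≃* Matrix.SpecialLinearGroup (Fin 2) F) ∧ Subgroup.center G = ⊥ := by
  classical
  have : Fintype G := Fintype.ofFinite G
  obtain ⟨k₂, hc⟩ := core_of_perfect h hperf
  have hodd := odd_vals hc
  have hinv := inv_val hc
  have hno4 := no4 hc hinv
  have hcent := cent_inv hc hodd hinv
  have hreg := reg_vals hc hodd hno4 hcent
  have hE1 := eqE1 hc hinv hreg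
  obtain ⟨hQ, k', hk', hE3⟩ := syl2 hc hno4 hcent
  obtain ⟨hdvd, hE2⟩ := eqE2 hc hinv hno4 hreg hQ
  obtain ⟨hN, hG⟩ := card_G h hc.toLoc
  have hzd := zodd h hperf
  have hp5 := h.p5
  have hz_cop : (Nat.card (Subgroup.center G)).Coprime p := by
    have h1 : (p - 2).Coprime p := by
      rw [Nat.coprime_comm, Nat.Prime.coprime_iff_not_dvd hp.out]
      intro hd
      have := Nat.le_of_dvd (by omega) hd
      omega
    exact Nat.Coprime.coprime_dvd_left hzd h1
  have hz : 0 < Nat.card (Subgroup.center G) := Nat.card_pos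
  have heven : 2 ∣ Nat.card G := by
    rw [hG]
    exact Dvd.dvd.mul_left (Dvd.dvd.mul_right (Dvd.dvd.mul_right (dvd_refl 2) p) _) _
  have hi : 0 < Nat.card {u : G // orderOf u = 2} := by
    obtain ⟨u, hu⟩ := exists_prime_orderOf_dvd_card' 2 heven
    have : Nonempty {u : G // orderOf u = 2} := ⟨⟨u, hu⟩⟩
    exact Nat.card_pos
  have hQ2 : 2 ≤ 2 ^ (Nat.card G).factorization 2 := by
    have h1 : 1 ≤ (Nat.card G).factorization 2 :=
      (Nat.prime_two.dvd_iff_one_le_factorization Nat.card_pos.ne').mp heven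
    calc 2 = 2 ^ 1 := (pow_one 2).symm
      _ ≤ 2 ^ (Nat.card G).factorization 2 := Nat.pow_le_pow_right (by norm_num) h1
  have hE3' : Nat.card {u : G // orderOf u = 2} * 2 ^ (Nat.card G).factorization 2 =
      2 * p * Nat.card (Sylow p G) * k' := by
    have h3 : Nat.card {u : G // orderOf u = 2} * 2 ^ (Nat.card G).factorization 2 *
        Nat.card (Subgroup.center G) =
        (2 * p * Nat.card (Sylow p G) * k') * Nat.card (Subgroup.center G) := by
      rw [hE3]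
      conv_lhs => rw [hG]
      ring
    exact Nat.eq_of_mul_eq_mul_right hz h3
  obtain ⟨h2n, -, -⟩ := arith p _ _ _ k' hp.out hp5 hi hQ2 hk' hdvd hE1 hE2 hE3'
  have hGcard : Nat.card G = Nat.card (Subgroup.center G) * (p * (p - 1) * (p - 2)) := by
    rw [hG]
    calc Nat.card (Sylow p G) * (2 * p * Nat.card (Subgroup.center G))
        = (2 * Nat.card (Sylow p G)) * (p * Nat.card (Subgroup.center G)) := by ring
      _ = ((p - 1) * (p - 2)) * (p * Nat.card (Subgroup.center G)) := by rw [h2n]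
      _ = _ := by ring
  obtain ⟨m, F, hF1, hF2, hFc, hpm, ⟨e⟩⟩ := ident hperf h.cardP hp5 hz_cop h2n hGcard
  have hZ : Subgroup.center G = ⊥ := by
    apply center_eq_bot_of_cyclic hperf
    intro r hr hrz R
    have hr2 : r ∣ 2 ^ m - 1 := by
      have : p - 2 = 2 ^ m - 1 := by omega
      rw [← this]
      exact hrz.trans hzd
    exact sylr m hFc e r hr2 R
  refine ⟨m, F, hF1, hF2, hFc, hpm, ⟨?_⟩, hZ⟩
  exact ((QuotientGroup.quotientBot (G := G)).symm.trans
    (QuotientGroup.quotientMulEquivOfEq hZ.symm)).trans e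

/-- **S4705**. -/
theorem main (h : Hyp G p P ζ) :
    ∃ (a : ℕ) (F : Type) (_ : Field F) (_ : Fintype F), p = 2 ^ a + 1 ∧ Fintype.card F = 2 ^ a ∧
      Nonempty (G ≃* Matrix.SpecialLinearGroup (Fin 2) F × Subgroup.center G) := by
  classical
  have : Fintype G := Fintype.ofFinite G
  obtain ⟨H, hHn, hHperf, hsol, -⟩ := exists_resid (G := G)
  have : Fintype ↥H := Fintype.ofFinite _
  have hPH := p_le_resid h H hsol
  have hirr := irr_res_resid h H hPH
  have hH := hyp_resid h H hPH hirr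
  obtain ⟨m, F, hF1, hF2, hFc, hpm, ⟨e⟩, hZH⟩ := perfect_case hH hHperf
  have hNG := (card_G h (locA h)).1
  have hNH := (card_G hH (locA hH)).1
  rw [hZH, Subgroup.card_bot, mul_one] at hNH
  obtain ⟨f⟩ := split_resid H hPH hZH hNG hNH
  exact ⟨m, F, hF1, hF2, hpm, hFc, ⟨f.trans (MulEquiv.prodCongr e (MulEquiv.refl _))⟩⟩

end Cfsg.Agent.Lib.Helper3_P2Main
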