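import Mathlib
import Cfsg.Prelude.Def_Characters
import Cfsg.Prelude.Def_Local
import Cfsg.Agent.S4468
import Cfsg.Agent.Lib.Helper3_P2Defs
import Cfsg.Agent.Lib.Helper3_CharBridge
import Cfsg.Agent.Lib.Helper85_TRS1
import Cfsg.Agent.Lib.Lead_PSolvable

/-!
# S4705, package PINH (helper3): `P` lies in every normal subgroup with solvable quotient.
-/

set_option autoImplicit false
set_option linter.unusedSectionVars false
set_option linter.unusedVariables false

namespace Cfsg.Agent.Lib.Helper3_P2_PINH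

open Cfsg Cfsg.Agent.Lib.Helper3_P2Defs

universe u

variable {G : Type u} [Group G] [Finite G] {p : ℕ} [hp : Fact p.Prime] {P : Sylow p G}
  {ζ : G → ℂ}

/-- a normal subgroup of order divisible by `p` contains the Sylow `p`-subgroup of order `p` -/
theorem le_of_dvd_card (hP : Nat.card P = p) (H : Subgroup G) [H.Normal]
    (hd : p ∣ Nat.card H) : (P : Subgroup G) ≤ H := by
  obtain ⟨y, hy⟩ := exists_prime_orderOf_dvd_card' p hd
  have hy' : orderOf (y : G) = p := by rw [Subgroup.orderOf_coe]; exact hy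
  have hcard : Nat.card (Subgroup.zpowers (y : G)) = p := by rw [Nat.card_zpowers, hy']
  have hpg : IsPGroup p (Subgroup.zpowers (y : G)) :=
    IsPGroup.of_card (n := 1) (by rw [hcard, pow_one])
  obtain ⟨Q, hQ⟩ := hpg.exists_le_sylow
  have hQcard : Nat.card Q = p := by
    rw [Sylow.card_eq_multiplicity, ← P.card_eq_multiplicity]
    exact hP
  have hQeq : Subgroup.zpowers (y : G) = (Q : Subgroup G) := by
    apply Subgroup.eq_of_le_of_card_ge hQ
    rw [hcard, hQcard]
  have hQH : (Q : Subgroup G) ≤ H := by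
    rw [← hQeq, Subgroup.zpowers_le]
    exact y.2
  obtain ⟨g, hg⟩ := MulAction.exists_smul_eq G Q P
  intro x hx
  have hx' : x ∈ ((g • Q : Sylow p G) : Subgroup G) := by rw [hg]; exact hx
  rw [Sylow.coe_subgroup_smul, Subgroup.mem_pointwise_smul_iff_inv_smul_mem] at hx'
  have h1 : (MulAut.conj g)⁻¹ • x ∈ H := hQH hx'
  have h2 : (MulAut.conj g)⁻¹ • x = g⁻¹ * x * g := by
    simp [MulAut.smul_def]
  rw [h2] at h1
  have h3 := ‹H.Normal›.conj_mem _ h1 g
  have e : g * (g⁻¹ * x * g) * g⁻¹ = x := by group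
  rwa [e] at h3

/-- **P2-PINH**. -/
theorem p_le_resid (h : Hyp G p P ζ) (H : Subgroup G) [H.Normal]
    (hsol : Group.IsSolvable (G ⧸ H)) : (P : Subgroup G) ≤ H := by
  by_contra hPH
  have hcop : (Nat.card H).Coprime p := by
    rw [Nat.coprime_comm, Nat.Prime.coprime_iff_not_dvd hp.out]
    intro hd
    exact hPH (le_of_dvd_card h.cardP H hd)
  have hH : Cfsg.IsPSolvable p ↥H :=
    Cfsg.Agent.Lib.Helper85_TRS1.isPSolvable_of_card (Or.inr hcop)
  have hQ : Cfsg.IsPSolvable p (G ⧸ H) :=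
    Cfsg.Agent.Lib.Lead_PSolvable.isPSolvable_of_isSolvable p
  have hG : Cfsg.IsPSolvable p G :=
    Cfsg.Agent.Lib.Helper85_TRS1.isPSolvable_ext p (Nat.card H) G H rfl hH hQ
  have hp5 := h.p5
  have := (Cfsg.Agent.S4468.result ζ
    (Cfsg.Agent.Lib.Helper3_CharBridge.isCharacter_of_isIrrCharacter h.irr) h.faith (p - 2) h.deg
    p hp.out hG (by omega) P h.nn).1
  omega

end Cfsg.Agent.Lib.Helper3_P2_PINH
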