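import Cfsg.Agent.Lib.Helper50_PUDefs
import Cfsg.Agent.Lib.Helper47_YL

/-!
# pu market (architect helper50), package ABSYLA (helper3): the ambient version of `absyl_type`

`absyl_quot`: the statement for a finite group `H` (a type) with a normal subgroup `Q`, through the quotient `H ⧸ Q`.
`absyl_amb`: transfer to `H = ↥L`.
-/

set_option autoImplicit false

namespace Cfsg.Agent.Lib.Helper3_PU_ABSYLA

open scoped commutatorElement
open Cfsg.Agent.Lib.Helper50_PUDefs Cfsg.Agent.Lib.Helper51_Offender Cfsg.Agent.Lib.Helper72_AbelianJ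

section General

universe u

variable {G : Type u} [Group G] [Finite G] {p : ℕ} [Fact p.Prime]

/-- normalizer membership from the two inclusions -/
theorem mem_normalizer_of_both {H : Type*} [Group H] {K : Subgroup H} {l : H}
    (h1 : ∀ t ∈ K, l * t * l⁻¹ ∈ K) (h2 : ∀ t ∈ K, l⁻¹ * t * l ∈ K) :
    l ∈ Subgroup.normalizer (K : Set H) := by
  rw [Subgroup.mem_normalizer_iff]
  intro h
  constructor
  · exact h1 h
  · intro hh
    have := h2 _ hh
    have e : l⁻¹ * (l * h * l⁻¹) * l = h := by group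
    rwa [e] at this

/-- the statement at the level of a type `H`, through the quotient `H ⧸ Q` -/
theorem absyl_quot
    (hty : ∀ {X : Type u} [Group X] [Finite X] (P : Sylow p X)
      (_ : ∀ x ∈ (P : Subgroup X), ∀ y ∈ (P : Subgroup X), x * y = y * x)
      (D Z₁ : Subgroup X) (_ : D ≤ (P : Subgroup X)) (_ : Z₁ ≤ Subgroup.center X)
      (_ : (P : Subgroup X) ≤ D ⊔ Z₁)
      (_ : Subgroup.normalizer ((P : Subgroup X) : Set X) ≤ Subgroup.normalizer (D : Set X))
      (_ : Subgroup.normalClosure (D : Set X) = ⊤), (P : Subgroup X) = D)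
    {H : Type u} [Group H] [Finite H] (T : Sylow p H) (Q B Z₁ : Subgroup H) [Q.Normal]
    (hQB : Q ≤ B) (hBT : B ≤ (T : Subgroup H)) (h1 : (T : Subgroup H) ≤ B ⊔ Z₁)
    (h2 : ∀ z ∈ Z₁, ∀ l : H, ⁅z, l⁆ ∈ Q) (h3 : ⁅B, B⁆ ≤ Q)
    (h4 : Subgroup.normalizer ((T : Subgroup H) : Set H) ≤ Subgroup.normalizer (B : Set H))
    (h5 : Subgroup.normalClosure (B : Set H) = ⊤) : (T : Subgroup H) = B := by
  have hπ : Function.Surjective (QuotientGroup.mk' Q) := QuotientGroup.mk'_surjective Q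
  have hker : (QuotientGroup.mk' Q).ker = Q := QuotientGroup.ker_mk' Q
  have hQT : Q ≤ (T : Subgroup H) := hQB.trans hBT
  -- equality in the quotient
  have hmk : ∀ a b : H, a⁻¹ * b ∈ Q → QuotientGroup.mk' Q a = QuotientGroup.mk' Q b := by
    intro a b hab
    exact (QuotientGroup.eq).mpr hab
  -- the image of `Z₁` is central
  have hZc : Z₁.map (QuotientGroup.mk' Q) ≤ Subgroup.center (H ⧸ Q) := by
    rintro _ ⟨z, hz, rfl⟩
    rw [Subgroup.mem_center_iff]
    intro x
    obtain ⟨l, rfl⟩ := hπ x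
    rw [← map_mul, ← map_mul]
    apply hmk
    have e : (l * z)⁻¹ * (z * l) = ⁅z⁻¹, l⁻¹⁆ := by
      rw [commutatorElement_def]; group
    rw [e]
    exact h2 z⁻¹ (Z₁.inv_mem hz) l⁻¹
  -- the image of `B` is commutative
  have hDab : ∀ a ∈ B.map (QuotientGroup.mk' Q), ∀ b ∈ B.map (QuotientGroup.mk' Q),
      a * b = b * a := by
    rintro _ ⟨x, hx, rfl⟩ _ ⟨y, hy, rfl⟩
    rw [← map_mul, ← map_mul]
    apply hmk
    have e : (x * y)⁻¹ * (y * x) = ⁅y⁻¹, x⁻¹⁆ := by
      rw [commutatorElement_def]; group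
    rw [e]
    exact h3 (Subgroup.commutator_mem_commutator (B.inv_mem hy) (B.inv_mem hx))
  have hPle : (T : Subgroup H).map (QuotientGroup.mk' Q) ≤
      B.map (QuotientGroup.mk' Q) ⊔ Z₁.map (QuotientGroup.mk' Q) := by
    rw [← Subgroup.map_sup]
    exact Subgroup.map_mono h1
  have hZn : (Z₁.map (QuotientGroup.mk' Q)).Normal := by
    refine ⟨fun z hz g => ?_⟩
    have hc := Subgroup.mem_center_iff.mp (hZc hz) g
    have e : g * z * g⁻¹ = z := by rw [hc]; group
    rw [e]; exact hz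
  have hPab : ∀ x ∈ (T : Subgroup H).map (QuotientGroup.mk' Q),
      ∀ y ∈ (T : Subgroup H).map (QuotientGroup.mk' Q), x * y = y * x := by
    intro x hx y hy
    obtain ⟨d, hd, z, hz, rfl⟩ := Subgroup.mem_sup_of_normal_right.mp (hPle hx)
    obtain ⟨d', hd', z', hz', rfl⟩ := Subgroup.mem_sup_of_normal_right.mp (hPle hy)
    have c1 := Subgroup.mem_center_iff.mp (hZc hz)
    have c2 := Subgroup.mem_center_iff.mp (hZc hz')
    have c3 := hDab d hd d' hd'
    calc d * z * (d' * z') = d * (z * d') * z' := by group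
      _ = d * (d' * z) * z' := by rw [← c1 d']
      _ = (d * d') * (z * z') := by group
      _ = (d' * d) * (z' * z) := by rw [c3, ← c2 z]
      _ = d' * (d * z') * z := by group
      _ = d' * (z' * d) * z := by rw [c2 d]
      _ = d' * z' * (d * z) := by group
  -- normalizers
  have hcomap : ((T : Subgroup H).map (QuotientGroup.mk' Q)).comap (QuotientGroup.mk' Q) =
      (T : Subgroup H) := by
    rw [Subgroup.comap_map_eq, hker]
    exact sup_eq_left.mpr hQT
  have hN : Subgroup.normalizer (((T : Subgroup H).map (QuotientGroup.mk' Q) : Subgroup (H ⧸ Q)) :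
      Set (H ⧸ Q)) ≤ Subgroup.normalizer ((B.map (QuotientGroup.mk' Q) : Subgroup (H ⧸ Q)) :
      Set (H ⧸ Q)) := by
    intro x hx
    obtain ⟨l, rfl⟩ := hπ x
    have key : ∀ l' : H, QuotientGroup.mk' Q l' ∈ Subgroup.normalizer
        (((T : Subgroup H).map (QuotientGroup.mk' Q) : Subgroup (H ⧸ Q)) : Set (H ⧸ Q)) →
        ∀ t ∈ (T : Subgroup H), l' * t * l'⁻¹ ∈ (T : Subgroup H) := by
      intro l' hl' t ht
      rw [← hcomap, Subgroup.mem_comap, map_mul, map_mul, map_inv]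
      exact (Subgroup.mem_normalizer_iff.mp hl' _).mp ⟨t, ht, rfl⟩
    have hlN : l ∈ Subgroup.normalizer ((T : Subgroup H) : Set H) := by
      apply mem_normalizer_of_both (key l hx)
      have hx' := Subgroup.inv_mem _ hx
      rw [← map_inv] at hx'
      have := key l⁻¹ hx'
      intro t ht
      simpa using this t ht
    exact Subgroup.le_normalizer_map _ ⟨l, h4 hlN, rfl⟩
  -- normal closure
  have hcl : Subgroup.normalClosure ((B.map (QuotientGroup.mk' Q) : Subgroup (H ⧸ Q)) :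
      Set (H ⧸ Q)) = ⊤ := by
    rw [Subgroup.coe_map, ← Subgroup.map_normalClosure _ _ hπ, h5]
    exact Subgroup.map_top_of_surjective _ hπ
  have hfin := hty (T.mapSurjective hπ) hPab (B.map (QuotientGroup.mk' Q))
    (Z₁.map (QuotientGroup.mk' Q)) (Subgroup.map_mono hBT) hZc hPle hN hcl
  have hfin' : (T : Subgroup H).map (QuotientGroup.mk' Q) = B.map (QuotientGroup.mk' Q) := hfin
  have e1 := congrArg (Subgroup.comap (QuotientGroup.mk' Q)) hfin'
  rw [hcomap, Subgroup.comap_map_eq, hker, sup_eq_left.mpr hQB] at e1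
  exact e1

/-- Ambient version: reduce to `absyl_type` in `X = ↥L ⧸ Q₀.subgroupOf L`
(take `absyl_type` as the hypothesis `hty`). -/
theorem absyl_amb
    (hty : ∀ {X : Type u} [Group X] [Finite X] (P : Sylow p X)
      (_ : ∀ x ∈ (P : Subgroup X), ∀ y ∈ (P : Subgroup X), x * y = y * x)
      (D Z₁ : Subgroup X) (_ : D ≤ (P : Subgroup X)) (_ : Z₁ ≤ Subgroup.center X)
      (_ : (P : Subgroup X) ≤ D ⊔ Z₁)
      (_ : Subgroup.normalizer ((P : Subgroup X) : Set X) ≤ Subgroup.normalizer (D : Set X))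
      (_ : Subgroup.normalClosure (D : Set X) = ⊤), (P : Subgroup X) = D)
    (S : Sylow p G) (L Q₀ B Z₁ : Subgroup G) [L.Normal] [Q₀.Normal]
    (hQ₀ : Q₀ ≤ B) (hBLS : B ≤ L ⊓ (S : Subgroup G)) (hZ₁ : Z₁ ≤ L ⊓ (S : Subgroup G))
    (h1 : L ⊓ (S : Subgroup G) ≤ B ⊔ Z₁) (h2 : ⁅Z₁, L⁆ ≤ Q₀) (h3 : ⁅B, B⁆ ≤ Q₀)
    (h4 : Subgroup.normalizer ((L ⊓ (S : Subgroup G) : Subgroup G) : Set G) ≤
      Subgroup.normalizer (B : Set G))
    (h5 : L = Subgroup.normalClosure (B : Set G))
    (h6 : L ⊔ Subgroup.normalizer (B : Set G) = ⊤) : L ⊓ (S : Subgroup G) = B := by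
  have hBL : B ≤ L := hBLS.trans inf_le_left
  have hZL : Z₁ ≤ L := hZ₁.trans inf_le_left
  -- the Sylow subgroup of `L`
  have hSL : (S : Subgroup G) ≤ Subgroup.normalizer (L : Set G) := by
    rw [Subgroup.normalizer_eq_top]
    exact le_top
  obtain ⟨T, hT⟩ := Cfsg.Agent.Lib.Helper47_YL.exists_sylow_eq_inf_subgroupOf S L hSL
  have hTmem : ∀ x : ↥L, x ∈ (T : Subgroup ↥L) ↔ (x : G) ∈ L ⊓ (S : Subgroup G) := by
    intro x
    rw [hT, Subgroup.mem_subgroupOf, inf_comm]
  have hQn : (Q₀.subgroupOf L).Normal := inferInstance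
  -- hypotheses at the level of `↥L`
  have k1 : Q₀.subgroupOf L ≤ B.subgroupOf L := fun x hx =>
    Subgroup.mem_subgroupOf.mpr (hQ₀ (Subgroup.mem_subgroupOf.mp hx))
  have k2 : B.subgroupOf L ≤ (T : Subgroup ↥L) := fun x hx =>
    (hTmem x).mpr (hBLS (Subgroup.mem_subgroupOf.mp hx))
  have k3 : (T : Subgroup ↥L) ≤ B.subgroupOf L ⊔ Z₁.subgroupOf L := by
    rw [← Subgroup.subgroupOf_sup hBL hZL]
    intro x hx
    exact Subgroup.mem_subgroupOf.mpr (h1 ((hTmem x).mp hx))
  have k4 : ∀ z ∈ Z₁.subgroupOf L, ∀ l : ↥L, ⁅z, l⁆ ∈ Q₀.subgroupOf L := by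
    intro z hz l
    rw [Subgroup.mem_subgroupOf]
    have : ((⁅z, l⁆ : ↥L) : G) = ⁅(z : G), (l : G)⁆ := by
      simp [commutatorElement_def]
    rw [this]
    exact h2 (Subgroup.commutator_mem_commutator (Subgroup.mem_subgroupOf.mp hz) l.2)
  have k5 : ⁅B.subgroupOf L, B.subgroupOf L⁆ ≤ Q₀.subgroupOf L := by
    rw [Subgroup.commutator_le]
    intro x hx y hy
    rw [Subgroup.mem_subgroupOf]
    have : ((⁅x, y⁆ : ↥L) : G) = ⁅(x : G), (y : G)⁆ := by
      simp [commutatorElement_def]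
    rw [this]
    exact h3 (Subgroup.commutator_mem_commutator (Subgroup.mem_subgroupOf.mp hx)
      (Subgroup.mem_subgroupOf.mp hy))
  have k6 : Subgroup.normalizer ((T : Subgroup ↥L) : Set ↥L) ≤
      Subgroup.normalizer ((B.subgroupOf L : Subgroup ↥L) : Set ↥L) := by
    intro l hl
    have hlG : (l : G) ∈ Subgroup.normalizer ((L ⊓ (S : Subgroup G) : Subgroup G) : Set G) := by
      rw [Subgroup.mem_normalizer_iff]
      intro g
      constructor
      · intro hg
        have h7 := (Subgroup.mem_normalizer_iff.mp hl ⟨g, hg.1⟩).mp ((hTmem _).mpr hg)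
        have h8 := (hTmem _).mp h7
        simpa using h8
      · intro hg
        have hgL : g ∈ L := by
          have h9 : (l : G)⁻¹ * ((l : G) * g * (l : G)⁻¹) * (l : G) ∈ L :=
            L.mul_mem (L.mul_mem (L.inv_mem l.2) hg.1) l.2
          have e : (l : G)⁻¹ * ((l : G) * g * (l : G)⁻¹) * (l : G) = g := by group
          rwa [e] at h9
        have h7 : l * ⟨g, hgL⟩ * l⁻¹ ∈ (T : Subgroup ↥L) := by
          rw [hTmem]
          simpa using hg
        have h8 := (Subgroup.mem_normalizer_iff.mp hl ⟨g, hgL⟩).mpr h7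
        exact (hTmem _).mp h8
    have hlB := h4 hlG
    rw [Subgroup.mem_normalizer_iff]
    intro x
    rw [Subgroup.mem_subgroupOf, Subgroup.mem_subgroupOf]
    have := Subgroup.mem_normalizer_iff.mp hlB (x : G)
    simpa using this
  have k7 : Subgroup.normalClosure ((B.subgroupOf L : Subgroup ↥L) : Set ↥L) = ⊤ := by
    rw [eq_top_iff]
    -- `L ≤ M := image of the normal closure`
    have hLM : L ≤ (Subgroup.normalClosure ((B.subgroupOf L : Subgroup ↥L) : Set ↥L)).map
        L.subtype := by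
      refine (le_of_eq h5).trans ?_
      show Subgroup.closure (Group.conjugatesOfSet (B : Set G)) ≤ _
      rw [Subgroup.closure_le]
      intro c hc
      obtain ⟨b, hb, hconj⟩ := Group.mem_conjugatesOfSet_iff.mp hc
      obtain ⟨g, rfl⟩ := isConj_iff.mp hconj
      have hg : g ∈ L ⊔ Subgroup.normalizer (B : Set G) := by rw [h6]; exact Subgroup.mem_top g
      obtain ⟨l, hl, n, hn, rfl⟩ := Subgroup.mem_sup_of_normal_left.mp hg
      have hb' : n * b * n⁻¹ ∈ B := (Subgroup.mem_normalizer_iff.mp hn b).mp hb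
      refine ⟨(⟨l, hl⟩ : ↥L) * ⟨n * b * n⁻¹, hBL hb'⟩ * (⟨l, hl⟩ : ↥L)⁻¹, ?_, ?_⟩
      · have hnc : (Subgroup.normalClosure ((B.subgroupOf L : Subgroup ↥L) : Set ↥L)).Normal :=
          Subgroup.normalClosure_normal
        apply hnc.conj_mem
        apply Subgroup.subset_normalClosure
        exact Subgroup.mem_subgroupOf.mpr hb'
      · simp only [Subgroup.subtype_apply, Subgroup.coe_mul, Subgroup.coe_inv]
        group
    intro x _
    obtain ⟨y, hy, hyx⟩ := hLM x.2
    have : y = x := Subtype.ext hyx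
    rw [← this]
    exact hy
  have hfin := absyl_quot hty T (Q₀.subgroupOf L) (B.subgroupOf L) (Z₁.subgroupOf L) k1 k2 k3 k4 k5
    k6 k7
  apply le_antisymm _ hBLS
  intro g hg
  have h10 : (⟨g, hg.1⟩ : ↥L) ∈ (T : Subgroup ↥L) := (hTmem _).mpr hg
  rw [hfin] at h10
  exact Subgroup.mem_subgroupOf.mp h10

end General

end Cfsg.Agent.Lib.Helper3_PU_ABSYLA
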