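import Cfsg.Agent.Lib.Helper50_PUDefs
import Cfsg.Agent.S0075
import Cfsg.Agent.Lib.Helper2_PResidual

/-!
# pu market (architect helper50), package ABSYLT (helper3): abelian Sylow subgroups and the focal subgroup theorem
-/

set_option autoImplicit false

namespace Cfsg.Agent.Lib.Helper3_PU_ABSYLT

open scoped commutatorElement
open Cfsg.Agent.Lib.Helper50_PUDefs Cfsg.Agent.Lib.Helper51_Offender Cfsg.Agent.Lib.Helper72_AbelianJ

section General

universe u

variable {G : Type u} [Group G] [Finite G] {p : ℕ} [Fact p.Prime]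

/-- a subgroup containing the commutator subgroup is normal -/
theorem normal_of_commutator_le' {X : Type*} [Group X] {H : Subgroup X} (h : commutator X ≤ H) :
    H.Normal := by
  refine ⟨fun x hx g => ?_⟩
  have h1 : ⁅g, x⁆ ∈ H := h (Subgroup.commutator_mem_commutator (Subgroup.mem_top g)
    (Subgroup.mem_top x))
  have h2 : g * x * g⁻¹ = ⁅g, x⁆ * x := by
    rw [commutatorElement_def]; group
  rw [h2]
  exact H.mul_mem h1 hx

/-- Abelian Sylow subgroups and the focal subgroup theorem (uses `Cfsg.Agent.S0075.result`). -/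
theorem absyl_type {X : Type*} [Group X] [Finite X] (P : Sylow p X)
    (hP : ∀ x ∈ (P : Subgroup X), ∀ y ∈ (P : Subgroup X), x * y = y * x)
    (D Z₁ : Subgroup X) (hD : D ≤ (P : Subgroup X)) (hZ₁ : Z₁ ≤ Subgroup.center X)
    (hPD : (P : Subgroup X) ≤ D ⊔ Z₁)
    (hN : Subgroup.normalizer ((P : Subgroup X) : Set X) ≤ Subgroup.normalizer (D : Set X))
    (hcl : Subgroup.normalClosure (D : Set X) = ⊤) : (P : Subgroup X) = D := by
  have hcomm : IsMulCommutative ↥(P : Subgroup X) :=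
    ⟨⟨fun a b => Subtype.ext (hP a a.2 b b.2)⟩⟩
  have hZn : Z₁.Normal := by
    refine ⟨fun z hz g => ?_⟩
    have hc := Subgroup.mem_center_iff.mp (hZ₁ hz) g
    have e : g * z * g⁻¹ = z := by rw [hc]; group
    rw [e]; exact hz
  -- `D ⊔ O = ⊤`
  have hO : commutator X ≤ Cfsg.pResidual p X :=
    Cfsg.Agent.Lib.Helper2_PResidual.commutator_le_pResidual_of_abelian_sylow P
  have hDOn : (D ⊔ Cfsg.pResidual p X).Normal :=
    normal_of_commutator_le' (hO.trans le_sup_right)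
  have hDO : D ⊔ Cfsg.pResidual p X = ⊤ := by
    rw [eq_top_iff, ← hcl]
    exact Subgroup.normalClosure_le_normal (le_sup_left : D ≤ D ⊔ Cfsg.pResidual p X)
  -- `P ⊓ O ≤ D`
  have hfoc : (P : Subgroup X) ⊓ Cfsg.pResidual p X ≤ D := by
    rw [Cfsg.Agent.S0075.result P hcomm, Subgroup.commutator_le]
    intro x hx n hn
    obtain ⟨d, hd, z, hz, rfl⟩ := Subgroup.mem_sup_of_normal_right.mp (hPD hx)
    have hzc := Subgroup.mem_center_iff.mp (hZ₁ hz)
    have h1 : n * d⁻¹ * n⁻¹ ∈ D :=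
      (Subgroup.mem_normalizer_iff.mp (hN hn) d⁻¹).mp (D.inv_mem hd)
    have e : ⁅d * z, n⁆ = d * (n * d⁻¹ * n⁻¹) := by
      rw [commutatorElement_def]
      calc d * z * n * (d * z)⁻¹ * n⁻¹ = d * (z * n) * z⁻¹ * d⁻¹ * n⁻¹ := by group
        _ = d * (n * z) * z⁻¹ * d⁻¹ * n⁻¹ := by rw [hzc n]
        _ = d * (n * d⁻¹ * n⁻¹) := by group
    rw [e]
    exact D.mul_mem hd h1
  apply le_antisymm _ hD
  intro x hx
  have hx' : x ∈ D ⊔ Cfsg.pResidual p X := by rw [hDO]; exact Subgroup.mem_top x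
  obtain ⟨d, hd, o, ho, rfl⟩ := Subgroup.mem_sup_of_normal_right.mp hx'
  have hoP : o ∈ (P : Subgroup X) := by
    have : o = d⁻¹ * (d * o) := by group
    rw [this]
    exact Subgroup.mul_mem _ (Subgroup.inv_mem _ (hD hd)) hx
  exact D.mul_mem hd (hfoc ⟨hoP, ho⟩)

end General

end Cfsg.Agent.Lib.Helper3_PU_ABSYLT
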