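import Mathlib

/-!
# Rudvalis-type 2-groups: common definitions for S3174 / S3175 (helper56)

`T` is a finite 2-group of order `≥ 2^14` with `|Z_4(T)| = 16`, `W = C_T(Z_3(T))`,
`|Φ(W)| ≤ 8` and `Φ(W)` contained in every subgroup of `W` of index `≤ 16`.

* `Wc T`   : the subgroup `C_T(Z_3(T))`.
* `fixSub A W S` : the elements `w ∈ W` with `⁅w, s⁆ ∈ A` for all `s ∈ S` (`A` normal), i.e. the preimage in `W`
  of the fixed points of `S` on `T / A`.
* `Hyp T`  : the hypotheses of S3174 (with `W` replaced by `Wc T`).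
* `Str T`  : the structure obtained after the counting step (everything except `W' = Z_3`, exponent of `Z_3`,
  `T/W ≅ D_8`, `Z(W) = Z_3`).
-/

set_option autoImplicit false

namespace Cfsg.Agent.Lib.Helper56_RuDefs

open scoped commutatorElement

variable {T : Type*} [Group T]

/-- `W = C_T(Z_3(T))`. -/
abbrev Wc (T : Type*) [Group T] : Subgroup T :=
  Subgroup.centralizer ((Subgroup.upperCentralSeries T 3 : Subgroup T) : Set T)

/-- Elements `w ∈ W` with `⁅w, s⁆ ∈ A` for every `s ∈ S`. -/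
def fixSub (A W S : Subgroup T) [A.Normal] : Subgroup T :=
  W ⊓ (Subgroup.centralizer
    ((S.map (QuotientGroup.mk' A) : Subgroup (T ⧸ A)) : Set (T ⧸ A))).comap (QuotientGroup.mk' A)

theorem mem_fixSub {A W S : Subgroup T} [A.Normal] {w : T} :
    w ∈ fixSub A W S ↔ w ∈ W ∧ ∀ s ∈ S, ⁅w, s⁆ ∈ A := by
  unfold fixSub
  rw [Subgroup.mem_inf, Subgroup.mem_comap, Subgroup.mem_centralizer_iff]
  refine and_congr Iff.rfl ⟨fun h s hs => ?_, fun h x hx => ?_⟩
  · have h1 := h (QuotientGroup.mk' A s) (Subgroup.mem_map_of_mem _ hs)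
    rw [← QuotientGroup.eq_one_iff, commutatorElement_def]
    have h2 : ((w * s * w⁻¹ * s⁻¹ : T) : T ⧸ A) =
        (QuotientGroup.mk' A w) * (QuotientGroup.mk' A s) * (QuotientGroup.mk' A w)⁻¹ *
          (QuotientGroup.mk' A s)⁻¹ := by
      simp
    rw [h2, ← h1]
    group
  · obtain ⟨s, hs, rfl⟩ := Subgroup.mem_map.1 hx
    have h1 := h s hs
    rw [← QuotientGroup.eq_one_iff, commutatorElement_def] at h1
    have h2 : ((w * s * w⁻¹ * s⁻¹ : T) : T ⧸ A) =
        (QuotientGroup.mk' A w) * (QuotientGroup.mk' A s) * (QuotientGroup.mk' A w)⁻¹ *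
          (QuotientGroup.mk' A s)⁻¹ := by
      simp
    rw [h2] at h1
    have h3 : (QuotientGroup.mk' A w) * (QuotientGroup.mk' A s) =
        (QuotientGroup.mk' A s) * (QuotientGroup.mk' A w) := by
      have := congrArg (fun x => x * (QuotientGroup.mk' A s) * (QuotientGroup.mk' A w)) h1
      simpa [mul_assoc] using this
    exact h3.symm

theorem fixSub_le {A W S : Subgroup T} [A.Normal] : fixSub A W S ≤ W := inf_le_left

theorem fixSub_anti {A W S S' : Subgroup T} [A.Normal] (h : S ≤ S') : fixSub A W S' ≤ fixSub A W S := by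
  intro w hw
  rw [mem_fixSub] at hw ⊢
  exact ⟨hw.1, fun s hs => hw.2 s (h hs)⟩

/-- `N = C_T(Z_2(T))`. -/
abbrev Nc (T : Type*) [Group T] : Subgroup T :=
  Subgroup.centralizer ((Subgroup.upperCentralSeries T 2 : Subgroup T) : Set T)

/-- `A` together with the commutators `⁅w, s⁆`, `w ∈ fixSub A W S`. -/
def imSub (A W S : Subgroup T) [A.Normal] (s : T) : Subgroup T :=
  A ⊔ Subgroup.closure {g | ∃ w ∈ fixSub A W S, g = ⁅w, s⁆}

/-- Lagrange for `relIndex`. -/
theorem card_mul_relIndex {H K : Subgroup T} (h : H ≤ K) : Nat.card ↥H * H.relIndex K = Nat.card ↥K := by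
  rw [Subgroup.relIndex, ← (H.subgroupOf K).card_mul_index,
    Nat.card_congr (Subgroup.subgroupOfEquivOfLe h).toEquiv]

/-- The hypotheses of S3174, with `W` replaced by `Wc T = C_T(Z_3(T))`. -/
structure Hyp (T : Type*) [Group T] : Prop where
  fin : Finite T
  pg : IsPGroup 2 T
  big : 2 ^ 14 ≤ Nat.card T
  z4 : Nat.card ↥(Subgroup.upperCentralSeries T 4) = 16
  phi : Nat.card ↥(frattini ↥(Wc T)) ≤ 8
  hd : ∀ U : Subgroup ↥(Wc T), U.index ≤ 16 → frattini ↥(Wc T) ≤ U

/-- The structure obtained from `Hyp T` by the counting step. -/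
structure Str (T : Type*) [Group T] : Prop where
  fin : Finite T
  pg : IsPGroup 2 T
  cardT : Nat.card T = 2 ^ 14
  cardZ : ∀ i ≤ 4, Nat.card ↥(Subgroup.upperCentralSeries T i) = 2 ^ i
  idxW : (Wc T).index = 8
  frat : (frattini ↥(Wc T)).map (Wc T).subtype = Subgroup.upperCentralSeries T 3
  fixT : Nat.card ↥(fixSub (Subgroup.upperCentralSeries T 3) (Wc T) ⊤) = 16
  hd : ∀ U : Subgroup T, U ≤ Wc T → U.relIndex (Wc T) ≤ 16 → Subgroup.upperCentralSeries T 3 ≤ U

end Cfsg.Agent.Lib.Helper56_RuDefs
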