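import Mathlib
import Cfsg.Agent.Lib.Helper1_Frattini
import Cfsg.Agent.Lib.Helper56_RuDefs

/-!
# Rudvalis-type 2-groups: basic consequences of `Str T` (helper56, packages BASIC of S3174/S3175)
-/

set_option autoImplicit false

open scoped commutatorElement
open Cfsg.Agent.Lib.Helper56_RuDefs

namespace Cfsg.Agent.Lib.Helper56_RuBasic

variable {T : Type*} [Group T]

theorem commute_Z3 : ∀ w ∈ Wc T, ∀ z ∈ Subgroup.upperCentralSeries T 3, w * z = z * w := by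
  intro w hw z hz
  exact (Subgroup.mem_centralizer_iff.1 hw z hz).symm

theorem comm_ucs (i : ℕ) : ∀ z ∈ Subgroup.upperCentralSeries T (i + 1), ∀ t : T,
    ⁅z, t⁆ ∈ Subgroup.upperCentralSeries T i := by
  intro z hz t
  exact Subgroup.mem_upperCentralSeries_succ_iff.1 hz t

theorem Z3_le_W (h : Str T) : Subgroup.upperCentralSeries T 3 ≤ Wc T := by
  rw [← h.frat]
  exact Subgroup.map_subtype_le _

theorem sq_mem (h : Str T) : ∀ w ∈ Wc T, w ^ 2 ∈ Subgroup.upperCentralSeries T 3 := by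
  intro w hw
  have := h.fin
  have : Fact (2 : ℕ).Prime := ⟨Nat.prime_two⟩
  have hW : IsPGroup 2 ↥(Wc T) := h.pg.to_subgroup _
  have h1 := Helper1_Frattini.pow_mem_frattini_of_isPGroup hW ⟨w, hw⟩
  rw [← h.frat]
  exact Subgroup.mem_map.2 ⟨_, h1, by simp⟩

theorem comm_mem (h : Str T) : ∀ w ∈ Wc T, ∀ w' ∈ Wc T, ⁅w, w'⁆ ∈ Subgroup.upperCentralSeries T 3 := by
  intro w hw w' hw'
  have := h.fin
  have : Fact (2 : ℕ).Prime := ⟨Nat.prime_two⟩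
  have hW : IsPGroup 2 ↥(Wc T) := h.pg.to_subgroup _
  have h1 := Helper1_Frattini.commutator_le_frattini_of_isPGroup hW
  have h2 : ⁅(⟨w, hw⟩ : ↥(Wc T)), ⟨w', hw'⟩⁆ ∈ _root_.commutator ↥(Wc T) :=
    Subgroup.commutator_mem_commutator (Subgroup.mem_top _) (Subgroup.mem_top _)
  rw [← h.frat]
  exact Subgroup.mem_map.2 ⟨_, h1 h2, by simp [commutatorElement_def]⟩

theorem card_W (h : Str T) : Nat.card ↥(Wc T) = 2 ^ 11 := by
  have h1 := (Wc T).card_mul_index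
  rw [h.idxW, h.cardT] at h1
  omega

theorem relIndex_Z3_W (h : Str T) : (Subgroup.upperCentralSeries T 3).relIndex (Wc T) = 2 ^ 8 := by
  have h1 := card_mul_relIndex (Z3_le_W h)
  rw [card_W h, h.cardZ 3 (by norm_num)] at h1
  omega

/-- commutators of elements of `W` are central in `W`. -/
theorem comm_central (h : Str T) {a b c : T} (ha : a ∈ Wc T) (hb : b ∈ Wc T) (hc : c ∈ Wc T) :
    c * ⁅a, b⁆ = ⁅a, b⁆ * c :=
  commute_Z3 c hc _ (comm_mem h a ha b hb)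

theorem comm_mul_left (h : Str T) : ∀ a ∈ Wc T, ∀ b ∈ Wc T, ∀ c ∈ Wc T, ⁅a * b, c⁆ = ⁅a, c⁆ * ⁅b, c⁆ := by
  intro a ha b hb c hc
  -- ⁅a*b, c⁆ = a ⁅b,c⁆ a⁻¹ ⁅a,c⁆
  have h1 : ⁅a * b, c⁆ = a * ⁅b, c⁆ * a⁻¹ * ⁅a, c⁆ := by
    simp only [commutatorElement_def]; group
  have h2 : a * ⁅b, c⁆ = ⁅b, c⁆ * a := comm_central h hb hc ha
  rw [h1, h2, mul_assoc ⁅b, c⁆ a a⁻¹, mul_inv_cancel, mul_one]
  have hac : ⁅a, c⁆ ∈ Wc T := by
    rw [commutatorElement_def]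
    exact (Wc T).mul_mem ((Wc T).mul_mem ((Wc T).mul_mem ha hc) ((Wc T).inv_mem ha)) ((Wc T).inv_mem hc)
  have h3 := comm_central h hb hc hac
  exact h3.symm

theorem comm_mul_right (h : Str T) : ∀ a ∈ Wc T, ∀ b ∈ Wc T, ∀ c ∈ Wc T, ⁅a, b * c⁆ = ⁅a, b⁆ * ⁅a, c⁆ := by
  intro a ha b hb c hc
  have h1 : ⁅a, b * c⁆ = ⁅a, b⁆ * (b * ⁅a, c⁆ * b⁻¹) := by
    simp only [commutatorElement_def]; group
  have h2 : b * ⁅a, c⁆ = ⁅a, c⁆ * b := comm_central h ha hc hb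
  rw [h1, h2, mul_assoc ⁅a, c⁆ b b⁻¹, mul_inv_cancel, mul_one]

theorem mul_sq (h : Str T) : ∀ a ∈ Wc T, ∀ b ∈ Wc T, (a * b) ^ 2 = a ^ 2 * b ^ 2 * ⁅b, a⁆ := by
  intro a ha b hb
  have h1 : (a * b) ^ 2 = a * (⁅b, a⁆ * a * b) * b := by
    simp only [commutatorElement_def, pow_two]; group
  have h2 : ⁅b, a⁆ * a = a * ⁅b, a⁆ := (comm_central h hb ha ha).symm
  have h3 : ⁅b, a⁆ * b = b * ⁅b, a⁆ := (comm_central h hb ha hb).symm
  rw [h1, h2]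
  calc a * (a * ⁅b, a⁆ * b) * b = a * a * (⁅b, a⁆ * b) * b := by group
    _ = a * a * (b * ⁅b, a⁆) * b := by rw [h3]
    _ = a * a * b * (⁅b, a⁆ * b) := by group
    _ = a * a * b * (b * ⁅b, a⁆) := by rw [h3]
    _ = a ^ 2 * b ^ 2 * ⁅b, a⁆ := by simp only [pow_two]; group

end Cfsg.Agent.Lib.Helper56_RuBasic
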