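import Mathlib
import Cfsg.Prelude.Def_Transfer
import Cfsg.Agent.Lib.Helper56_RuDefs
import Cfsg.Agent.Lib.Helper56_RuBasic

/-!
# S3174 / S3175 package IDXW (architect helper56): `|T : C_T(Z_3)| ≤ 8`.  (helper3)
-/

set_option autoImplicit false
set_option linter.unusedVariables false

open scoped commutatorElement
open Cfsg.Agent.Lib.Helper56_RuDefs Cfsg.Agent.Lib.Helper56_RuBasic

namespace Cfsg.Agent.Lib.Helper3_RU_IDXW

variable {T : Type*} [Group T]

/-- Index bound from a map separating the left cosets. -/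
theorem index_le_of_map {α : Type*} [Finite α] (H : Subgroup T) (f : T → α)
    (hf : ∀ a b : T, f a = f b → a⁻¹ * b ∈ H) : H.index ≤ Nat.card α := by
  rw [Subgroup.index]
  refine Nat.card_le_card_of_injective (fun q : T ⧸ H => f q.out) ?_
  intro q q' h
  have h1 := hf _ _ h
  rw [← QuotientGroup.eq] at h1
  simpa using h1

/-- A subgroup `H` with `K ≤ H ≤ L`, `|L| = 2 |K|`, containing an element outside `K`, is `L`. -/
theorem eq_of_card_two_mul [Finite T] (K H L : Subgroup T) (hKH : K ≤ H) (hHL : H ≤ L)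
    (hcard : Nat.card L = 2 * Nat.card K) (z : T) (hzH : z ∈ H) (hzK : z ∉ K) : H = L := by
  obtain ⟨m, hm⟩ := Subgroup.card_dvd_of_le hKH
  have hK0 : 0 < Nat.card K := Nat.card_pos
  have h1 : Nat.card H ∣ Nat.card L := Subgroup.card_dvd_of_le hHL
  rw [hm, hcard, mul_comm 2] at h1
  have h2 : m ∣ 2 := (Nat.mul_dvd_mul_iff_left hK0).1 h1
  have h3 : m = 1 ∨ m = 2 := by
    have := Nat.le_of_dvd (by norm_num) h2
    have hm0 : m ≠ 0 := by
      rintro rfl
      simp at h2
    interval_cases m <;> simp_all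
  rcases h3 with rfl | rfl
  · exfalso
    have : K = H := Subgroup.eq_of_le_of_card_ge hKH (by rw [hm, mul_one])
    exact hzK (this ▸ hzH)
  · exact Subgroup.eq_of_le_of_card_ge hHL (by rw [hm, hcard, mul_comm])

/-- The centralizer of an element of `Z_{n+1}` has index at most `|Z_n|`. -/
theorem index_centralizer_le [Finite T] (n : ℕ) (z : T)
    (hz : z ∈ Subgroup.upperCentralSeries T (n + 1)) :
    (Subgroup.centralizer ({z} : Set T)).index ≤ Nat.card ↥(Subgroup.upperCentralSeries T n) := by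
  have hz' := Subgroup.mem_upperCentralSeries_succ_iff.1 hz
  refine index_le_of_map _ (fun t => (⟨z * t * z⁻¹ * t⁻¹, hz' t⟩ : ↥(Subgroup.upperCentralSeries T n))) ?_
  intro a b hab
  have h1 : z * a * z⁻¹ * a⁻¹ = z * b * z⁻¹ * b⁻¹ := congrArg Subtype.val hab
  have h2 : a * z⁻¹ * a⁻¹ = b * z⁻¹ * b⁻¹ := by
    have := congrArg (fun x => z⁻¹ * x) h1
    simpa [mul_assoc] using this
  rw [Subgroup.mem_centralizer_iff]
  intro h hh
  rw [Set.mem_singleton_iff] at hh
  subst hh
  have h3 : h⁻¹ * (a⁻¹ * b) = (a⁻¹ * b) * h⁻¹ := by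
    calc h⁻¹ * (a⁻¹ * b) = a⁻¹ * (a * h⁻¹ * a⁻¹) * b := by group
      _ = a⁻¹ * (b * h⁻¹ * b⁻¹) * b := by rw [h2]
      _ = (a⁻¹ * b) * h⁻¹ := by group
  calc h * (a⁻¹ * b) = h * ((a⁻¹ * b) * h⁻¹) * h := by group
    _ = h * (h⁻¹ * (a⁻¹ * b)) * h := by rw [h3]
    _ = a⁻¹ * b * h := by group

/-- IDXW. `|T : C_T(Z_3)| ≤ 8`. -/
theorem index_Wc_le [Finite T] (hT : IsPGroup 2 T)
    (hZ : ∀ i ≤ 4, Nat.card ↥(Subgroup.upperCentralSeries T i) = 2 ^ i) : (Wc T).index ≤ 8 := by
  have hc1 : Nat.card ↥(Subgroup.upperCentralSeries T 1) = 2 := by simpa using hZ 1 (by norm_num)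
  have hc2 : Nat.card ↥(Subgroup.upperCentralSeries T 2) = 4 := by simpa using hZ 2 (by norm_num)
  have hc3 : Nat.card ↥(Subgroup.upperCentralSeries T 3) = 8 := by simpa using hZ 3 (by norm_num)
  have h12 : Subgroup.upperCentralSeries T 1 ≤ Subgroup.upperCentralSeries T 2 :=
    Subgroup.upperCentralSeries_mono T (by norm_num)
  have h23 : Subgroup.upperCentralSeries T 2 ≤ Subgroup.upperCentralSeries T 3 :=
    Subgroup.upperCentralSeries_mono T (by norm_num)
  -- `z2 ∈ Z_2 \ Z_1`, `z3 ∈ Z_3 \ Z_2`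
  obtain ⟨z2, hz2, hz21⟩ : ∃ z ∈ Subgroup.upperCentralSeries T 2,
      z ∉ Subgroup.upperCentralSeries T 1 := by
    by_contra hcon
    push Not at hcon
    have := Subgroup.card_le_of_le (show Subgroup.upperCentralSeries T 2 ≤
      Subgroup.upperCentralSeries T 1 from hcon)
    omega
  obtain ⟨z3, hz3, hz32⟩ : ∃ z ∈ Subgroup.upperCentralSeries T 3,
      z ∉ Subgroup.upperCentralSeries T 2 := by
    by_contra hcon
    push Not at hcon
    have := Subgroup.card_le_of_le (show Subgroup.upperCentralSeries T 3 ≤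
      Subgroup.upperCentralSeries T 2 from hcon)
    omega
  -- the two centralizers
  have hi2 : (Subgroup.centralizer ({z2} : Set T)).index ≤ 2 := by
    have := index_centralizer_le 1 z2 hz2
    omega
  have hi3 : (Subgroup.centralizer ({z3} : Set T)).index ≤ 4 := by
    have := index_centralizer_le 2 z3 hz3
    omega
  -- their intersection centralizes `Z_3`
  have hle : Subgroup.centralizer ({z2} : Set T) ⊓ Subgroup.centralizer ({z3} : Set T) ≤ Wc T := by
    intro g hg
    rw [Subgroup.mem_inf, Subgroup.mem_centralizer_iff, Subgroup.mem_centralizer_iff] at hg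
    -- `H = C_{Z_3}(g)`
    obtain ⟨H, hH⟩ : ∃ H : Subgroup T, H = Subgroup.upperCentralSeries T 3 ⊓
        Subgroup.centralizer ({g} : Set T) := ⟨_, rfl⟩
    have hmemH : ∀ x : T, x ∈ H ↔ x ∈ Subgroup.upperCentralSeries T 3 ∧ g * x = x * g := by
      intro x
      rw [hH, Subgroup.mem_inf, Subgroup.mem_centralizer_iff]
      refine and_congr Iff.rfl ⟨fun h => h g rfl, fun h y hy => ?_⟩
      rw [Set.mem_singleton_iff] at hy
      rw [hy]
      exact h
    have hZ1H : Subgroup.upperCentralSeries T 1 ≤ H := by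
      intro x hx
      rw [hmemH]
      refine ⟨h23 (h12 hx), ?_⟩
      rw [Subgroup.upperCentralSeries_one, Subgroup.mem_center_iff] at hx
      exact hx g
    have hz2H : z2 ∈ H := (hmemH z2).2 ⟨h23 hz2, (hg.1 z2 rfl).symm⟩
    have hz3H : z3 ∈ H := (hmemH z3).2 ⟨hz3, (hg.2 z3 rfl).symm⟩
    have hHZ3 : H ≤ Subgroup.upperCentralSeries T 3 := by rw [hH]; exact inf_le_left
    -- `Z_2 ≤ H`
    have hZ2H : Subgroup.upperCentralSeries T 2 ≤ H := by
      have h1 := eq_of_card_two_mul (Subgroup.upperCentralSeries T 1)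
        (H ⊓ Subgroup.upperCentralSeries T 2) (Subgroup.upperCentralSeries T 2)
        (le_inf hZ1H h12) inf_le_right (by rw [hc1, hc2]) z2 ⟨hz2H, hz2⟩ hz21
      rw [← h1]
      exact inf_le_left
    have hHeq : H = Subgroup.upperCentralSeries T 3 :=
      eq_of_card_two_mul (Subgroup.upperCentralSeries T 2) H (Subgroup.upperCentralSeries T 3)
        hZ2H hHZ3 (by rw [hc2, hc3]) z3 hz3H hz32
    rw [Subgroup.mem_centralizer_iff]
    intro x hx
    have hxH : x ∈ H := by rw [hHeq]; exact hx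
    exact ((hmemH x).1 hxH).2.symm
  have h1 : (Wc T).index ∣ (Subgroup.centralizer ({z2} : Set T) ⊓
      Subgroup.centralizer ({z3} : Set T)).index := Subgroup.index_dvd_of_le hle
  have h2 := Subgroup.index_inf_le (H := Subgroup.centralizer ({z2} : Set T))
    (K := Subgroup.centralizer ({z3} : Set T))
  have h3 : (Subgroup.centralizer ({z2} : Set T) ⊓ Subgroup.centralizer ({z3} : Set T)).index ≠ 0 :=
    Subgroup.index_ne_zero_of_finite
  have h4 := Nat.le_of_dvd (Nat.pos_of_ne_zero h3) h1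
  calc (Wc T).index ≤ _ := h4
    _ ≤ _ := h2
    _ ≤ 2 * 4 := Nat.mul_le_mul hi2 hi3
    _ = 8 := by norm_num

end Cfsg.Agent.Lib.Helper3_RU_IDXW
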