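import Mathlib
import Cfsg.Prelude.Def_Transfer
import Cfsg.Agent.Lib.Helper56_RuDefs
import Cfsg.Agent.Lib.Helper56_RuBasic

/-!
# S3174 / S3175 package STEPCORE (architect helper56): the endomorphism `w ↦ ⁅w, s⁆` of `X_S / A`.
(helper3)
-/

set_option autoImplicit false
set_option linter.unusedVariables false

open scoped commutatorElement
open Cfsg.Agent.Lib.Helper56_RuDefs Cfsg.Agent.Lib.Helper56_RuBasic

namespace Cfsg.Agent.Lib.Helper3_RU_STEPCORE

variable {T : Type*} [Group T]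

/-- In any group: if `x² = 1`, `x` commutes with `σ²` and with `σ x σ⁻¹`, then `⁅⁅x, σ⁆, σ⁆ = 1`. -/
theorem comm_comm_eq_one {Q : Type*} [Group Q] (x σ : Q) (h1 : x * x = 1)
    (h2 : σ * σ * x = x * (σ * σ)) (h3 : x * (σ * x * σ⁻¹) = (σ * x * σ⁻¹) * x) :
    ⁅⁅x, σ⁆, σ⁆ = 1 := by
  have hxi : x⁻¹ = x := inv_eq_of_mul_eq_one_left h1
  obtain ⟨a, ha⟩ : ∃ a, a = σ * x * σ⁻¹ := ⟨_, rfl⟩
  rw [← ha] at h3
  have haa : a * a = 1 := by
    rw [ha]
    calc σ * x * σ⁻¹ * (σ * x * σ⁻¹) = σ * (x * x) * σ⁻¹ := by group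
      _ = 1 := by rw [h1]; group
  have hai : a⁻¹ = a := inv_eq_of_mul_eq_one_left haa
  have hσa : σ * a = x * σ := by
    rw [ha]
    calc σ * (σ * x * σ⁻¹) = (σ * σ * x) * σ⁻¹ := by group
      _ = x * (σ * σ) * σ⁻¹ := by rw [h2]
      _ = x * σ := by group
  have hxσ : ⁅x, σ⁆ = x * a := by
    rw [commutatorElement_def, hxi, ha]
    group
  rw [hxσ, commutatorElement_def, mul_inv_rev, hai, hxi]
  calc x * a * σ * (a * x) * σ⁻¹ = x * a * (σ * a) * x * σ⁻¹ := by group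
    _ = x * a * (x * σ) * x * σ⁻¹ := by rw [hσa]
    _ = x * a * x * (σ * x * σ⁻¹) := by group
    _ = x * a * x * a := by rw [← ha]
    _ = x * (a * x) * a := by group
    _ = x * (x * a) * a := by rw [h3]
    _ = (x * x) * (a * a) := by group
    _ = 1 := by rw [h1, haa, one_mul]

/-- STEPCORE. The endomorphism `w ↦ ⁅w, s⁆` of `X_S / A`: kernel `X_{S⟨s⟩}/A`, image `imSub/A ≤ kernel`. -/
theorem step_core [Finite T] (A W S : Subgroup T) [A.Normal] [W.Normal] (hAW : A ≤ W) (hWS : W ≤ S)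
    (hsq : ∀ w ∈ W, w ^ 2 ∈ A) (hab : ∀ w ∈ W, ∀ w' ∈ W, ⁅w, w'⁆ ∈ A)
    (s : T) (hsN : s ∈ Subgroup.normalizer (S : Set T)) (hs2 : s ^ 2 ∈ S) :
    A.relIndex (fixSub A W S) =
        A.relIndex (fixSub A W (S ⊔ Subgroup.zpowers s)) * A.relIndex (imSub A W S s) ∧
      imSub A W S s ≤ fixSub A W (S ⊔ Subgroup.zpowers s) ∧
      ∀ y ∈ imSub A W S s, ∃ w ∈ fixSub A W S, ∃ a ∈ A, ⁅w, s⁆ = y * a := by
  classical
  obtain ⟨π, hπ⟩ : ∃ π : T →* T ⧸ A, π = QuotientGroup.mk' A := ⟨_, rfl⟩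
  have hker : π.ker = A := by rw [hπ, QuotientGroup.ker_mk']
  have hπA : ∀ t : T, t ∈ A ↔ π t = 1 := by
    intro t
    rw [hπ]
    exact (QuotientGroup.eq_one_iff t).symm
  -- membership of a commutator in `A` = commuting in the quotient
  have hA_iff : ∀ w u : T, ⁅w, u⁆ ∈ A ↔ π w * π u = π u * π w := by
    intro w u
    rw [hπA, map_commutatorElement, commutatorElement_eq_one_iff_mul_comm]
  -- `A ≤ X_R` for every `R`
  have hA_le : ∀ R : Subgroup T, A ≤ fixSub A W R := by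
    intro R a ha
    rw [mem_fixSub]
    refine ⟨hAW ha, fun u _ => ?_⟩
    rw [commutatorElement_def]
    have h1 : u * a⁻¹ * u⁻¹ ∈ A := (inferInstance : A.Normal).conj_mem _ (A.inv_mem ha) u
    have h2 := A.mul_mem ha h1
    have h3 : a * (u * a⁻¹ * u⁻¹) = a * u * a⁻¹ * u⁻¹ := by group
    rwa [h3] at h2
  -- `X_{S'} = {w ∈ X_S | ⁅w, s⁆ ∈ A}`
  have hmem' : ∀ w : T, w ∈ fixSub A W (S ⊔ Subgroup.zpowers s) ↔
      w ∈ fixSub A W S ∧ ⁅w, s⁆ ∈ A := by
    intro w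
    constructor
    · intro hw
      refine ⟨fixSub_anti le_sup_left hw, ?_⟩
      rw [mem_fixSub] at hw
      exact hw.2 s (le_sup_right (a := S) (Subgroup.mem_zpowers s))
    · rintro ⟨hw, hws⟩
      rw [mem_fixSub] at hw ⊢
      refine ⟨hw.1, ?_⟩
      have hle : S ⊔ Subgroup.zpowers s ≤
          (Subgroup.centralizer ({π w} : Set (T ⧸ A))).comap π := by
        refine sup_le ?_ ?_
        · intro u hu
          rw [Subgroup.mem_comap, Subgroup.mem_centralizer_iff]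
          intro h hh
          rw [Set.mem_singleton_iff] at hh
          rw [hh]
          exact (hA_iff w u).1 (hw.2 u hu)
        · rw [Subgroup.zpowers_le, Subgroup.mem_comap, Subgroup.mem_centralizer_iff]
          intro h hh
          rw [Set.mem_singleton_iff] at hh
          rw [hh]
          exact (hA_iff w s).1 hws
      intro u hu
      have h1 := hle hu
      rw [Subgroup.mem_comap, Subgroup.mem_centralizer_iff] at h1
      exact (hA_iff w u).2 (h1 (π w) rfl)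
  -- `s` normalizes `X_S`
  have hconj : ∀ w ∈ fixSub A W S, s * w * s⁻¹ ∈ fixSub A W S := by
    intro w hw
    rw [mem_fixSub] at hw ⊢
    refine ⟨(inferInstance : W.Normal).conj_mem w hw.1 s, fun u hu => ?_⟩
    have hu' : s⁻¹ * u * s ∈ S := by
      have := (Subgroup.mem_normalizer_iff'.1 hsN (s⁻¹ * u)).2 (by simpa using hu)
      simpa [mul_assoc] using this
    have h1 := hw.2 _ hu'
    have h2 : ⁅s * w * s⁻¹, u⁆ = s * ⁅w, s⁻¹ * u * s⁆ * s⁻¹ := by
      simp only [commutatorElement_def]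
      group
    rw [h2]
    exact (inferInstance : A.Normal).conj_mem _ h1 s
  -- commutativity of the image of `W`
  have hcommW : ∀ w ∈ W, ∀ w' ∈ W, π w * π w' = π w' * π w := fun w hw w' hw' =>
    (hA_iff w w').1 (hab w hw w' hw')
  -- the homomorphism
  have hmul : ∀ w w' : ↥(fixSub A W S), π ⁅((w * w' : ↥(fixSub A W S)) : T), s⁆ =
      π ⁅(w : T), s⁆ * π ⁅(w' : T), s⁆ := by
    intro w w'
    have hwW : (w : T) ∈ W := fixSub_le w.2
    have hw'W : (w' : T) ∈ W := fixSub_le w'.2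
    have hc1 : π (s * (w : T)⁻¹ * s⁻¹) * π (w' : T) = π (w' : T) * π (s * (w : T)⁻¹ * s⁻¹) :=
      hcommW _ ((inferInstance : W.Normal).conj_mem _ (W.inv_mem hwW) s) _ hw'W
    have hc2 : π (w : T) * π (w' : T) = π (w' : T) * π (w : T) := hcommW _ hwW _ hw'W
    simp only [Subgroup.coe_mul, commutatorElement_def, map_mul, map_inv, mul_inv_rev] at hc1 ⊢
    obtain ⟨x, hx⟩ : ∃ x, x = π (w : T) := ⟨_, rfl⟩
    obtain ⟨x', hx'⟩ : ∃ x', x' = π (w' : T) := ⟨_, rfl⟩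
    obtain ⟨σ, hσ⟩ : ∃ σ, σ = π s := ⟨_, rfl⟩
    rw [← hx, ← hx'] at hc2
    rw [← hx, ← hx', ← hσ] at hc1 ⊢
    have hinv : x'⁻¹ * x⁻¹ = x⁻¹ * x'⁻¹ := by
      rw [← mul_inv_rev, ← mul_inv_rev, hc2]
    calc x * x' * σ * (x'⁻¹ * x⁻¹) * σ⁻¹ = x * x' * σ * (x⁻¹ * x'⁻¹) * σ⁻¹ := by
          rw [hinv]
      _ = x * x' * (σ * x⁻¹ * σ⁻¹) * (σ * x'⁻¹ * σ⁻¹) := by
          group
      _ = x * (x' * (σ * x⁻¹ * σ⁻¹)) * (σ * x'⁻¹ * σ⁻¹) := by group
      _ = x * ((σ * x⁻¹ * σ⁻¹) * x') * (σ * x'⁻¹ * σ⁻¹) := by rw [hc1]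
      _ = x * σ * x⁻¹ * σ⁻¹ * (x' * σ * x'⁻¹ * σ⁻¹) := by group
  let φ : ↥(fixSub A W S) →* T ⧸ A := MonoidHom.mk' (fun w => π ⁅(w : T), s⁆) hmul
  have hφ : ∀ w : ↥(fixSub A W S), φ w = π ⁅(w : T), s⁆ := fun _ => rfl
  -- kernel
  have hkerφ : φ.ker = (fixSub A W (S ⊔ Subgroup.zpowers s)).subgroupOf (fixSub A W S) := by
    ext w
    rw [MonoidHom.mem_ker, Subgroup.mem_subgroupOf, hφ, ← hπA, hmem']
    exact ⟨fun h => ⟨w.2, h⟩, fun h => h.2⟩
  -- range
  have hAim : A ≤ imSub A W S s := le_sup_left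
  have hrange : φ.range = (imSub A W S s).map π := by
    apply le_antisymm
    · rintro _ ⟨w, rfl⟩
      rw [hφ]
      refine Subgroup.mem_map_of_mem π ?_
      exact le_sup_right (a := A) (Subgroup.subset_closure ⟨(w : T), w.2, rfl⟩)
    · unfold imSub
      rw [Subgroup.map_sup, MonoidHom.map_closure]
      refine sup_le ?_ ?_
      · intro q hq
        obtain ⟨a, ha, rfl⟩ := Subgroup.mem_map.1 hq
        rw [(hπA a).1 ha]
        exact Subgroup.one_mem _
      · rw [Subgroup.closure_le]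
        rintro _ ⟨g, ⟨w, hw, rfl⟩, rfl⟩
        exact ⟨⟨w, hw⟩, rfl⟩
  -- (2)
  have h2 : imSub A W S s ≤ fixSub A W (S ⊔ Subgroup.zpowers s) := by
    unfold imSub
    refine sup_le (hA_le _) ?_
    rw [Subgroup.closure_le]
    rintro _ ⟨w, hw, rfl⟩
    rw [SetLike.mem_coe, hmem']
    have hwinv : s * w⁻¹ * s⁻¹ ∈ fixSub A W S := hconj _ ((fixSub A W S).inv_mem hw)
    have hwW : w ∈ W := fixSub_le hw
    constructor
    · have h1 := (fixSub A W S).mul_mem hw hwinv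
      have h3 : w * (s * w⁻¹ * s⁻¹) = ⁅w, s⁆ := by
        rw [commutatorElement_def]; group
      rwa [h3] at h1
    · rw [hπA, map_commutatorElement, map_commutatorElement]
      apply comm_comm_eq_one
      · rw [← map_mul, ← pow_two, ← hπA]
        exact hsq w hwW
      · rw [mem_fixSub] at hw
        have h1 := (hA_iff w (s ^ 2)).1 (hw.2 _ hs2)
        rw [pow_two, map_mul] at h1
        exact h1.symm
      · have h1 := hcommW w hwW (s * w * s⁻¹) ((inferInstance : W.Normal).conj_mem w hwW s)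
        simpa only [map_mul, map_inv] using h1
  refine ⟨?_, h2, ?_⟩
  · -- (1)
    have hle1 : A ≤ fixSub A W (S ⊔ Subgroup.zpowers s) := hA_le _
    have hle2 : fixSub A W (S ⊔ Subgroup.zpowers s) ≤ fixSub A W S := fixSub_anti le_sup_left
    have e1 : (fixSub A W (S ⊔ Subgroup.zpowers s)).relIndex (fixSub A W S) =
        A.relIndex (imSub A W S s) := by
      rw [Subgroup.relIndex, ← hkerφ, Subgroup.index_ker, hrange, ← Subgroup.relIndex_ker, hker]
    rw [← e1, Subgroup.relIndex_mul_relIndex _ _ _ hle1 hle2]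
  · -- (3)
    intro y hy
    have h1 : π y ∈ φ.range := by
      rw [hrange]
      exact Subgroup.mem_map_of_mem π hy
    obtain ⟨w, hw⟩ := h1
    rw [hφ] at hw
    refine ⟨(w : T), w.2, y⁻¹ * ⁅(w : T), s⁆, ?_, by group⟩
    rw [hπA, map_mul, map_inv, hw, inv_mul_cancel]

end Cfsg.Agent.Lib.Helper3_RU_STEPCORE
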