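import Cfsg.Agent.Lib.Helper3_GlaubAmbient
import Cfsg.Agent.Lib.Helper3_GlaubClass
import Cfsg.Agent.Lib.Helper3_RealClasses

/-!
# Real invariant characters and real invariant classes under a coprime `p`-group action
-/

set_option autoImplicit false
set_option linter.unusedSectionVars false

namespace Cfsg.Agent.Lib.Helper3_RealGlaub

open scoped ComplexConjugate
open Cfsg.Agent.Lib.Helper3_CharBridge Cfsg.Agent.Lib.Helper3_GlaubGood
  Cfsg.Agent.Lib.Helper3_GlaubInd Cfsg.Agent.Lib.Helper3_GlaubAmbient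
  Cfsg.Agent.Lib.Helper3_GlaubClass Cfsg.Agent.Lib.Helper3_RealClasses

universe u

variable {G : Type u} [Group G]

theorem real_iff_conjIrr {K : Type u} [Group K] [Fintype K] (χ : Cfsg.IrrCharacter K) :
    (∀ k : K, ((χ : K → ℂ) k).im = 0) ↔ conjIrr χ = χ := by
  constructor
  · intro h
    apply Subtype.ext
    funext k
    exact Complex.conj_eq_iff_im.mpr (h k)
  · intro h k
    have := congrFun (congrArg Subtype.val h) k
    exact Complex.conj_eq_iff_im.mp this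

theorem fix_iff_mem_range (K P : Subgroup G) (hnorm : ∀ s ∈ P, ∀ g ∈ K, s * g * s⁻¹ ∈ K)
    (C : Subgroup G) (hC : C = K ⊓ Subgroup.centralizer (P : Set G)) (hCK : C ≤ K) (g : K) :
    (∀ s : P, conjHom K P hnorm s g = g) ↔ g ∈ (Subgroup.inclusion hCK).range := by
  constructor
  · intro h
    have hgC : (g : G) ∈ C := by
      rw [hC, Subgroup.mem_inf]
      refine ⟨g.2, ?_⟩
      rw [Subgroup.mem_centralizer_iff]
      intro s hs
      have h1 := congrArg Subtype.val (h ⟨s, hs⟩)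
      rw [conjHom_apply] at h1
      have h2 : s * (g : G) = (s * g * s⁻¹) * s := by group
      rw [h2, h1]
    exact ⟨⟨g, hgC⟩, Subtype.ext rfl⟩
  · rintro ⟨c, rfl⟩ s
    apply Subtype.ext
    rw [conjHom_apply]
    have hc : (c : G) ∈ Subgroup.centralizer (P : Set G) := by
      have h3 : (c : G) ∈ K ⊓ Subgroup.centralizer (P : Set G) := hC ▸ c.2
      exact (Subgroup.mem_inf.mp h3).2
    rw [Subgroup.mem_centralizer_iff] at hc
    have h1 := hc s s.2
    show (s : G) * (c : G) * (s : G)⁻¹ = c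
    rw [h1]; group

/-- The statement of S4911. -/
theorem real_glauberman [Finite G] (p : ℕ) [hp : Fact p.Prime] (P K : Subgroup G)
    (hP : IsPGroup p ↥P) (hK : ¬ p ∣ Nat.card ↥K) (hPK : P ≤ Subgroup.normalizer (K : Set G)) :
    Nat.card {θ : Cfsg.IrrCharacter ↥K // (∀ k : ↥K, ((θ : ↥K → ℂ) k).im = 0) ∧
        (∀ x ∈ P, ∀ k k' : ↥K, (k' : G) = x * (k : G) * x⁻¹ →
          (θ : ↥K → ℂ) k' = (θ : ↥K → ℂ) k)} =
      Nat.card {c : ConjClasses ↥K // (∀ k : ↥K, ConjClasses.mk k = c → IsConj k k⁻¹) ∧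
        ∀ k : ↥K, ConjClasses.mk k = c → ∀ x ∈ P, ∀ k' : ↥K, (k' : G) = x * (k : G) * x⁻¹ →
          ConjClasses.mk k' = c} ∧
    ((∀ θ : Cfsg.IrrCharacter ↥K, (∀ k : ↥K, ((θ : ↥K → ℂ) k).im = 0) →
        (∀ x ∈ P, ∀ k k' : ↥K, (k' : G) = x * (k : G) * x⁻¹ →
          (θ : ↥K → ℂ) k' = (θ : ↥K → ℂ) k)) →
      ∀ k : ↥K, IsConj k k⁻¹ → ∃ k' : ↥K, IsConj k k' ∧ ∀ x ∈ P, x * (k' : G) * x⁻¹ = (k' : G)) := by
  classical
  have hp2 : 2 ≤ p := hp.out.two_le
  have : Fintype K := Fintype.ofFinite K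
  obtain ⟨C, hCdef⟩ : ∃ C : Subgroup G, C = K ⊓ Subgroup.centralizer (P : Set G) := ⟨_, rfl⟩
  have : Fintype C := Fintype.ofFinite C
  have hCK : C ≤ K := hCdef ▸ inf_le_left
  have hnorm : ∀ s ∈ P, ∀ g ∈ K, s * g * s⁻¹ ∈ K := fun s hs g hg =>
    ((Subgroup.mem_normalizer_iff.mp (hPK hs)) g).mp hg
  obtain ⟨n, hn⟩ := IsPGroup.iff_card.mp hP
  have hcop : (Nat.card K).Coprime (Nat.card P) := by
    rw [hn]
    exact Nat.Coprime.pow_right n ((Nat.Prime.coprime_iff_not_dvd hp.out).mpr hK).symm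
  obtain ⟨hA, hB, hCs⟩ := glauberman_ambient K P hnorm hcop p hP C hCdef hCK
  have hcls := class_pgroup (p := p) n (fun _ => hK) hn (conjHom K P hnorm)
    (Subgroup.inclusion hCK) (Subgroup.inclusion_injective hCK)
    (fix_iff_mem_range K P hnorm C hCdef hCK)
  have hincl : ∀ c : C, (Subgroup.inclusion hCK c : K) = ⟨c, hCK c.2⟩ := fun c => rfl
  -- conjugation and restriction
  have hres_conj : ∀ θ : Cfsg.IrrCharacter K,
      (fun c : C => (conjIrr θ : K → ℂ) ⟨c, hCK c.2⟩) =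
        fun c : C => conj ((θ : K → ℂ) ⟨c, hCK c.2⟩) := fun θ => rfl
  have hinv_conj : ∀ θ : Cfsg.IrrCharacter K, SInv K P (θ : K → ℂ) →
      SInv K P (conjIrr θ : K → ℂ) := by
    intro θ h s hs g g' hg
    show conj ((θ : K → ℂ) g') = conj ((θ : K → ℂ) g)
    rw [h s hs g g' hg]
  -- elements of `C` are fixed by `P`
  have hCfix : ∀ c : C, ∀ x ∈ P, x * (c : G) * x⁻¹ = c := by
    intro c x hx
    have h3 : (c : G) ∈ K ⊓ Subgroup.centralizer (P : Set G) := hCdef ▸ c.2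
    have hc := (Subgroup.mem_inf.mp h3).2
    rw [Subgroup.mem_centralizer_iff] at hc
    rw [hc x hx]; group
  -- Step 1: real invariant characters of `K` ↔ real characters of `C`
  have step1 : Nat.card {θ : Cfsg.IrrCharacter ↥K // (∀ k : ↥K, ((θ : ↥K → ℂ) k).im = 0) ∧
        (∀ x ∈ P, ∀ k k' : ↥K, (k' : G) = x * (k : G) * x⁻¹ →
          (θ : ↥K → ℂ) k' = (θ : ↥K → ℂ) k)} =
      Nat.card {β : Cfsg.IrrCharacter C // ∀ c : C, ((β : C → ℂ) c).im = 0} := by
    have hβ : ∀ θ : {θ : Cfsg.IrrCharacter ↥K // (∀ k : ↥K, ((θ : ↥K → ℂ) k).im = 0) ∧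
        (∀ x ∈ P, ∀ k k' : ↥K, (k' : G) = x * (k : G) * x⁻¹ →
          (θ : ↥K → ℂ) k' = (θ : ↥K → ℂ) k)},
        ∃ β : Cfsg.IrrCharacter C, Good p (fun c : C => (θ.1 : K → ℂ) ⟨c, hCK c.2⟩) β :=
      fun θ => hA θ.1 θ.2.2
    choose f hf using hβ
    have hfreal : ∀ θ, ∀ c : C, ((f θ : C → ℂ) c).im = 0 := by
      intro θ
      rw [real_iff_conjIrr]
      have h1 := good_conj (hf θ)
      have h2 : (fun c : C => conj ((θ.1 : K → ℂ) ⟨c, hCK c.2⟩)) =
          fun c : C => (θ.1 : K → ℂ) ⟨c, hCK c.2⟩ := by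
        funext c
        exact Complex.conj_eq_iff_im.mpr (θ.2.1 _)
      rw [h2] at h1
      exact Good.unique hp2 h1 (hf θ)
    apply Nat.card_eq_of_bijective (fun θ => (⟨f θ, hfreal θ⟩ :
      {β : Cfsg.IrrCharacter C // ∀ c : C, ((β : C → ℂ) c).im = 0}))
    constructor
    · intro θ θ' h
      have h1 : f θ = f θ' := congrArg Subtype.val h
      apply Subtype.ext
      apply hB θ.1 θ'.1 θ.2.2 θ'.2.2 (f θ) (hf θ)
      rw [h1]; exact hf θ'
    · rintro ⟨β, hβreal⟩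
      obtain ⟨θ, hθinv, hθβ⟩ := hCs β
      have hθreal : ∀ k : K, ((θ : K → ℂ) k).im = 0 := by
        rw [real_iff_conjIrr]
        have h1 := good_conj hθβ
        rw [(real_iff_conjIrr β).mp hβreal] at h1
        exact hB (conjIrr θ) θ (hinv_conj θ hθinv) hθinv β h1 hθβ
      refine ⟨⟨θ, hθreal, hθinv⟩, ?_⟩
      apply Subtype.ext
      exact Good.unique hp2 (hf ⟨θ, hθreal, hθinv⟩) hθβ
  -- Step 2: real characters of `C` ↔ real classes of `C`
  have step2 := card_real_irr_eq_card_real_classes (G := C)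
  -- facts about classes
  have hclass_inv : ∀ (c₀ : C) (k : K), IsConj k (Subgroup.inclusion hCK c₀) → ∀ x ∈ P,
      ∀ k' : K, (k' : G) = x * (k : G) * x⁻¹ → IsConj k' (Subgroup.inclusion hCK c₀) := by
    intro c₀ k hk x hx k' hk'
    obtain ⟨y, hy⟩ := isConj_iff.mp hk
    rw [isConj_iff]
    refine ⟨⟨x * y * x⁻¹, hnorm x hx y y.2⟩, ?_⟩
    apply Subtype.ext
    have hy' : (y : G) * (k : G) * (y : G)⁻¹ = (c₀ : G) := congrArg Subtype.val hy
    show (x * (y : G) * x⁻¹) * (k' : G) * (x * (y : G) * x⁻¹)⁻¹ = (c₀ : G)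
    rw [hk']
    calc x * ↑y * x⁻¹ * (x * ↑k * x⁻¹) * (x * ↑y * x⁻¹)⁻¹
        = x * (↑y * ↑k * (↑y)⁻¹) * x⁻¹ := by group
      _ = x * (c₀ : G) * x⁻¹ := by rw [hy']
      _ = c₀ := hCfix c₀ x hx
  have hinv_incl : ∀ c : C, (Subgroup.inclusion hCK c)⁻¹ = Subgroup.inclusion hCK c⁻¹ :=
    fun c => (map_inv _ c).symm
  -- Step 3: real classes of `C` ↔ real invariant classes of `K`
  have step3 : Nat.card {X : ConjClasses C // ∀ c : C, ConjClasses.mk c = X → IsConj c c⁻¹} =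
      Nat.card {c : ConjClasses ↥K // (∀ k : ↥K, ConjClasses.mk k = c → IsConj k k⁻¹) ∧
        ∀ k : ↥K, ConjClasses.mk k = c → ∀ x ∈ P, ∀ k' : ↥K, (k' : G) = x * (k : G) * x⁻¹ →
          ConjClasses.mk k' = c} := by
    have hmap : ∀ X : {X : ConjClasses C // ∀ c : C, ConjClasses.mk c = X → IsConj c c⁻¹},
        (∀ k : ↥K, ConjClasses.mk k = ConjClasses.map (Subgroup.inclusion hCK) X.1 →
          IsConj k k⁻¹) ∧
        ∀ k : ↥K, ConjClasses.mk k = ConjClasses.map (Subgroup.inclusion hCK) X.1 → ∀ x ∈ P,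
          ∀ k' : ↥K, (k' : G) = x * (k : G) * x⁻¹ →
          ConjClasses.mk k' = ConjClasses.map (Subgroup.inclusion hCK) X.1 := by
      rintro ⟨X, hX⟩
      obtain ⟨c₀, rfl⟩ := ConjClasses.mk_surjective X
      have hmk : ConjClasses.map (Subgroup.inclusion hCK) (ConjClasses.mk c₀) =
          ConjClasses.mk (Subgroup.inclusion hCK c₀) := rfl
      constructor
      · intro k hk
        rw [hmk, ConjClasses.mk_eq_mk_iff_isConj] at hk
        have h1 : IsConj (Subgroup.inclusion hCK c₀) (Subgroup.inclusion hCK c₀⁻¹) := by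
          obtain ⟨w, hw⟩ := isConj_iff.mp (hX c₀ rfl)
          rw [isConj_iff]
          refine ⟨Subgroup.inclusion hCK w, ?_⟩
          rw [← hw, map_mul, map_mul, map_inv]
        have h2 : IsConj (Subgroup.inclusion hCK c₀⁻¹) k⁻¹ := by
          rw [← hinv_incl]
          obtain ⟨y, hy⟩ := isConj_iff.mp hk
          rw [isConj_iff]
          refine ⟨y⁻¹, ?_⟩
          rw [← hy]; group
        exact (hk.trans h1).trans h2
      · intro k hk x hx k' hk'
        rw [hmk, ConjClasses.mk_eq_mk_iff_isConj] at hk ⊢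
        exact hclass_inv c₀ k hk x hx k' hk'
    apply Nat.card_eq_of_bijective (fun X => (⟨ConjClasses.map (Subgroup.inclusion hCK) X.1,
      hmap X⟩ : {c : ConjClasses ↥K // (∀ k : ↥K, ConjClasses.mk k = c → IsConj k k⁻¹) ∧
        ∀ k : ↥K, ConjClasses.mk k = c → ∀ x ∈ P, ∀ k' : ↥K, (k' : G) = x * (k : G) * x⁻¹ →
          ConjClasses.mk k' = c}))
    constructor
    · rintro ⟨X, hX⟩ ⟨Y, hY⟩ h
      obtain ⟨c, rfl⟩ := ConjClasses.mk_surjective X
      obtain ⟨c', rfl⟩ := ConjClasses.mk_surjective Y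
      have h1 : ConjClasses.mk (Subgroup.inclusion hCK c) =
          ConjClasses.mk (Subgroup.inclusion hCK c') := congrArg Subtype.val h
      rw [ConjClasses.mk_eq_mk_iff_isConj] at h1
      apply Subtype.ext
      show ConjClasses.mk c = ConjClasses.mk c'
      rw [ConjClasses.mk_eq_mk_iff_isConj]
      exact hcls.conj_of_conj c c' h1
    · rintro ⟨X, hXreal, hXinv⟩
      obtain ⟨k, rfl⟩ := ConjClasses.mk_surjective X
      have hk : ∀ a ∈ Set.range (conjHom K P hnorm), IsConj (a k) k := by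
        rintro a ⟨s, rfl⟩
        have := hXinv k rfl s s.2 (conjHom K P hnorm s k) rfl
        exact ConjClasses.mk_eq_mk_iff_isConj.mp this
      obtain ⟨c₀, hc₀⟩ := hcls.exists_fixed k hk
      have hreal₀ : IsConj c₀ c₀⁻¹ := by
        apply hcls.conj_of_conj
        rw [← hinv_incl]
        have h1 : IsConj k⁻¹ (Subgroup.inclusion hCK c₀)⁻¹ := by
          obtain ⟨y, hy⟩ := isConj_iff.mp hc₀
          rw [isConj_iff]
          refine ⟨y, ?_⟩
          rw [← hy]; group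
        exact (hc₀.symm.trans (hXreal k rfl)).trans h1
      have hXc : ∀ c : C, ConjClasses.mk c = ConjClasses.mk c₀ → IsConj c c⁻¹ := by
        intro c hc
        rw [ConjClasses.mk_eq_mk_iff_isConj] at hc
        have h2 : IsConj c₀⁻¹ c⁻¹ := by
          obtain ⟨y, hy⟩ := isConj_iff.mp hc
          rw [isConj_iff]
          refine ⟨y⁻¹, ?_⟩
          rw [← hy]; group
        exact (hc.trans hreal₀).trans h2
      refine ⟨⟨ConjClasses.mk c₀, hXc⟩, ?_⟩
      apply Subtype.ext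
      show ConjClasses.mk (Subgroup.inclusion hCK c₀) = ConjClasses.mk k
      rw [ConjClasses.mk_eq_mk_iff_isConj]
      exact hc₀.symm
  have part1 := (step1.trans step2).trans step3
  refine ⟨part1, ?_⟩
  -- Part 2
  intro hall k hkreal
  -- all real characters are invariant, so the counts of real and real-invariant classes agree
  have e1 : Nat.card {θ : Cfsg.IrrCharacter ↥K // (∀ k : ↥K, ((θ : ↥K → ℂ) k).im = 0) ∧
        (∀ x ∈ P, ∀ k k' : ↥K, (k' : G) = x * (k : G) * x⁻¹ →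
          (θ : ↥K → ℂ) k' = (θ : ↥K → ℂ) k)} =
      Nat.card {θ : Cfsg.IrrCharacter ↥K // ∀ k : ↥K, ((θ : ↥K → ℂ) k).im = 0} := by
    apply Nat.card_congr
    exact Equiv.subtypeEquivRight (fun θ => ⟨fun h => h.1, fun h => ⟨h, hall θ h⟩⟩)
  have e2 := card_real_irr_eq_card_real_classes (G := K)
  have e3 : Nat.card {c : ConjClasses ↥K // (∀ k : ↥K, ConjClasses.mk k = c → IsConj k k⁻¹) ∧
        ∀ k : ↥K, ConjClasses.mk k = c → ∀ x ∈ P, ∀ k' : ↥K, (k' : G) = x * (k : G) * x⁻¹ →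
          ConjClasses.mk k' = c} =
      Nat.card {c : ConjClasses K // ∀ k : K, ConjClasses.mk k = c → IsConj k k⁻¹} :=
    part1.symm.trans (e1.trans e2)
  have hinj : Function.Injective (fun X : {c : ConjClasses ↥K //
      (∀ k : ↥K, ConjClasses.mk k = c → IsConj k k⁻¹) ∧
        ∀ k : ↥K, ConjClasses.mk k = c → ∀ x ∈ P, ∀ k' : ↥K, (k' : G) = x * (k : G) * x⁻¹ →
          ConjClasses.mk k' = c} =>
      (⟨X.1, X.2.1⟩ : {c : ConjClasses K // ∀ k : K, ConjClasses.mk k = c → IsConj k k⁻¹})) := by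
    intro X Y h
    have h1 : (⟨X.1, X.2.1⟩ : {c : ConjClasses K //
        ∀ k : K, ConjClasses.mk k = c → IsConj k k⁻¹}) = ⟨Y.1, Y.2.1⟩ := h
    have h2 : X.1 = Y.1 := Subtype.mk_eq_mk.mp h1
    exact Subtype.ext h2
  have hbij := hinj.bijective_of_nat_card_le (le_of_eq e3.symm)
  have hkX : ∀ k' : K, ConjClasses.mk k' = ConjClasses.mk k → IsConj k' k'⁻¹ := by
    intro k' hk'
    rw [ConjClasses.mk_eq_mk_iff_isConj] at hk'
    have h2 : IsConj k⁻¹ k'⁻¹ := by
      obtain ⟨y, hy⟩ := isConj_iff.mp hk'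
      rw [isConj_iff]
      refine ⟨y⁻¹, ?_⟩
      rw [← hy]; group
    exact (hk'.trans hkreal).trans h2
  obtain ⟨⟨X, hX1, hX2⟩, hXeq⟩ := hbij.2 ⟨ConjClasses.mk k, hkX⟩
  have hXk : X = ConjClasses.mk k := congrArg Subtype.val hXeq
  subst hXk
  have hk : ∀ a ∈ Set.range (conjHom K P hnorm), IsConj (a k) k := by
    rintro a ⟨s, rfl⟩
    have := hX2 k rfl s s.2 (conjHom K P hnorm s k) rfl
    exact ConjClasses.mk_eq_mk_iff_isConj.mp this
  obtain ⟨c₀, hc₀⟩ := hcls.exists_fixed k hk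
  exact ⟨Subgroup.inclusion hCK c₀, hc₀, fun x hx => hCfix c₀ x hx⟩

end Cfsg.Agent.Lib.Helper3_RealGlaub
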