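import Mathlib
import Cfsg.Prelude.Def_Classical
import Cfsg.Agent.Lib.Helper13_Herm
import Cfsg.Agent.Lib.Helper5_SUCenter
import Cfsg.Agent.Lib.Helper44_PSLnUT
import Cfsg.Agent.Lib.Helper32_PGroup
import Cfsg.Agent.Lib.Helper88_PSLnFusDefs
import Cfsg.Agent.Lib.Helper88_PSUFusDefs
import Cfsg.Agent.Lib.Helper63_S5172_A1
import Cfsg.Agent.Lib.Helper26_S5172_A2

/-!
S5172-D1a (helper88's market): the centre of `UJ` (upper unitriangular elements of the unitary group `GJ` of the
antidiagonal hermitian form) has only the corner entry off the diagonal.  helper3.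
-/

set_option autoImplicit false


namespace Cfsg.Agent.Lib.Helper3_S5172_D1a

open Matrix Cfsg.Agent.Lib.Helper44_PSLnUT Cfsg.Agent.Lib.Helper88_PSLnFus
  Cfsg.Agent.Lib.Helper88_PSUFus Cfsg.Agent.Lib.Helper13_Herm
  Cfsg.Agent.Lib.Helper63_S5172_A1 Cfsg.Agent.Lib.Helper26_S5172_A2

variable {F : Type*} [Field F] [Fintype F] {q : ℕ}

/-- The trace `c ↦ c + c ^ q` is onto the fixed field. -/
theorem exists_trace_eq' (hF : Fintype.card F = q ^ 2) (t : F) (ht : t ^ q = t) :
    ∃ c : F, c + c ^ q = t := by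
  obtain ⟨b, hb⟩ : ∃ b : F, b + b ^ q ≠ 0 := by
    by_contra hcon
    push Not at hcon
    obtain ⟨b, hb⟩ := Cfsg.Agent.Lib.Helper5_SUCenter.exists_pow_q_ne hF
    have h1 := hcon 1
    rw [one_pow] at h1
    have h2 := hcon b
    apply hb
    have h3 : b ^ q = -b := by linear_combination h2
    have h4 : (-1 : F) = 1 := by linear_combination -h1
    rw [h3, neg_eq_neg_one_mul, h4, one_mul]
  have hsq : (b + b ^ q) ^ q = b + b ^ q := by
    rw [add_pow_q hF, pow_q_pow_q hF, add_comm]
  refine ⟨t * (b / (b + b ^ q)), ?_⟩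
  rw [mul_pow, div_pow, ht, hsq]
  field_simp

omit [Fintype F] in
/-- the `ζ`-trick: if `Z` commutes with `a E - a^q E'` for `a = 1` and `a = ζ`, `ζ^q ≠ ζ`, then `Z`
commutes with `E` and with `E'`. -/
theorem zeta_trick {n : ℕ} (Z : Matrix (Fin n) (Fin n) F) (i j k l : Fin n) (ζ : F)
    (hζ : ζ ^ q ≠ ζ)
    (h1 : Commute Z (Matrix.single i j (1 : F) - Matrix.single k l ((1 : F) ^ q)))
    (h2 : Commute Z (Matrix.single i j ζ - Matrix.single k l (ζ ^ q))) :
    Commute Z (Matrix.single i j (1 : F)) ∧ Commute Z (Matrix.single k l (1 : F)) := by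
  have hne : ζ ^ q - ζ ≠ 0 := sub_ne_zero.mpr hζ
  have e1 : (ζ ^ q - ζ) • Matrix.single i j (1 : F) =
      ζ ^ q • (Matrix.single i j (1 : F) - Matrix.single k l ((1 : F) ^ q)) -
        (Matrix.single i j ζ - Matrix.single k l (ζ ^ q)) := by
    ext r c
    simp only [Matrix.smul_apply, Matrix.sub_apply, Matrix.single_apply, smul_eq_mul, one_pow]
    split_ifs <;> ring
  have h3 : Commute Z ((ζ ^ q - ζ) • Matrix.single i j (1 : F)) := by
    rw [e1]
    exact (h1.smul_right _).sub_right h2
  have h4 : Commute Z (Matrix.single i j (1 : F)) := by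
    have := h3.smul_right (ζ ^ q - ζ)⁻¹
    rwa [smul_smul, inv_mul_cancel₀ hne, one_smul] at this
  refine ⟨h4, ?_⟩
  have e2 : Matrix.single k l (1 : F) = Matrix.single i j (1 : F) -
      (Matrix.single i j (1 : F) - Matrix.single k l ((1 : F) ^ q)) := by
    rw [one_pow]; abel
  rw [e2]
  exact h4.sub_right h1


/-- strictly upper triangular matrices -/
def StrictUpper {n : ℕ} (M : Matrix (Fin n) (Fin n) F) : Prop :=
  ∀ r c : Fin n, c ≤ r → M r c = 0

omit [Fintype F] in
/-- an elementary matrix above the diagonal is strictly upper triangular -/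
theorem strictUpper_single {n : ℕ} {i j : Fin n} (hij : i < j) (a : F) :
    StrictUpper (Matrix.single i j a) := by
  intro r c hcr
  apply Matrix.single_apply_of_ne
  rintro ⟨rfl, rfl⟩
  exact absurd hij (not_lt.mpr hcr)

omit [Fintype F] in
theorem StrictUpper.add {n : ℕ} {M N : Matrix (Fin n) (Fin n) F} (hM : StrictUpper M)
    (hN : StrictUpper N) : StrictUpper (M + N) := by
  intro r c hcr
  rw [Matrix.add_apply, hM r c hcr, hN r c hcr, add_zero]

omit [Fintype F] in
theorem StrictUpper.sub {n : ℕ} {M N : Matrix (Fin n) (Fin n) F} (hM : StrictUpper M)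
    (hN : StrictUpper N) : StrictUpper (M - N) := by
  intro r c hcr
  rw [Matrix.sub_apply, hM r c hcr, hN r c hcr, sub_zero]

omit [Fintype F] in
theorem isUT_one_add {n : ℕ} {M : Matrix (Fin n) (Fin n) F} (hM : StrictUpper M) :
    IsUT (1 + M) := by
  refine ⟨fun r c hcr => ?_, fun r => ?_⟩
  · rw [Matrix.add_apply, Matrix.one_apply_ne (ne_of_gt hcr), hM r c hcr.le, add_zero]
  · rw [Matrix.add_apply, Matrix.one_apply_eq, hM r r le_rfl, add_zero]

omit [Fintype F] in
/-- `Z` commutes with `1 + M` iff it commutes with `M` -/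
theorem commute_of_one_add {n : ℕ} {Z M : Matrix (Fin n) (Fin n) F} (h : Commute Z (1 + M)) :
    Commute Z M := by
  have := h.sub_right (Commute.one_right Z)
  rwa [add_sub_cancel_left] at this

/-- **D1a**  the centre of `UJ`: only the corner entry. -/
theorem D1a (hF : Fintype.card F = q ^ 2) (n : ℕ) (hn : 4 ≤ n)
    (z : SpecialLinearGroup (Fin n) F) (hz : z ∈ UJ n F q)
    (hc : ∀ u ∈ UJ n F q, u * z = z * u) (i j : Fin n) (hij : i ≠ j)
    (h0 : ¬ (i.val = 0 ∧ j.val = n - 1)) : z.1 i j = 0 := by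
  have hn0 : 0 < n := by omega
  obtain ⟨o, ho⟩ : ∃ o : Fin n, o.val = 0 := ⟨⟨0, hn0⟩, rfl⟩
  have hrevo : (Fin.rev o).val = n - 1 := by rw [Fin.val_rev]; omega
  have hoo : o ≠ Fin.rev o := by
    intro e
    have := congrArg Fin.val e
    rw [hrevo, ho] at this
    omega
  obtain ⟨ζ, hζ⟩ := Cfsg.Agent.Lib.Helper5_SUCenter.exists_pow_q_ne hF
  obtain ⟨c0, hc0, hc0'⟩ := Cfsg.Agent.Lib.Helper5_SUCenter.exists_trace_zero hF
  have hcomm : ∀ u ∈ UJ n F q, Commute z.1 u.1 := fun u hu =>
    (congrArg Subtype.val (hc u hu)).symm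
  have hlt : ∀ k : Fin n, 0 < k.val → o < k := fun k hk => by
    rw [Fin.lt_def, ho]; exact hk
  have hlt' : ∀ k : Fin n, k.val < n - 1 → k < Fin.rev o := fun k hk => by
    rw [Fin.lt_def, hrevo]; exact hk
  -- the long root element
  have hlong : Commute z.1 (Matrix.single o (Fin.rev o) (1 : F)) := by
    have hmem : SpecialLinearGroup.transvection hoo c0 ∈ UJ n F q := by
      refine mem_UJ.mpr ⟨A1_long hF hoo c0 hc0', mem_UT.mpr ?_⟩
      rw [SpecialLinearGroup.transvection_coe]
      exact isUT_one_add (strictUpper_single (hlt' o (by omega)) c0)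
    have h1 := commute_of_one_add (hcomm _ hmem)
    have h2 := h1.smul_right c0⁻¹
    rwa [Matrix.smul_single, smul_eq_mul, inv_mul_cancel₀ hc0] at h2
  -- non-middle indices
  have hA : ∀ k : Fin n, 0 < k.val → k.val < n - 1 → k ≠ Fin.rev k →
      Commute z.1 (Matrix.single o k (1 : F)) ∧
        Commute z.1 (Matrix.single (Fin.rev k) (Fin.rev o) (1 : F)) := by
    intro k hk0 hk1 hk
    have hok : o ≠ k := ne_of_lt (hlt k hk0)
    have hrk : (Fin.rev k).val < n - 1 := by rw [Fin.val_rev]; omega
    have key : ∀ a : F, Commute z.1 (Matrix.single o k a -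
        Matrix.single (Fin.rev k) (Fin.rev o) (a ^ q)) := by
      intro a
      have hmem : xs q hok a ∈ UJ n F q := by
        refine mem_UJ.mpr ⟨A1_mem hF hok hoo hk a, mem_UT.mpr ?_⟩
        rw [A1_coe hok hk a, add_sub_assoc]
        exact isUT_one_add ((strictUpper_single (hlt k hk0) a).sub
          (strictUpper_single (hlt' _ hrk) _))
      have h1 := hcomm _ hmem
      rw [A1_coe hok hk a, add_sub_assoc] at h1
      exact commute_of_one_add h1
    exact zeta_trick z.1 o k (Fin.rev k) (Fin.rev o) ζ hζ (key 1) (key ζ)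
  have hB : ∀ k : Fin n, 0 < k.val → k.val < n - 1 →
      Commute z.1 (Matrix.single o k (1 : F)) ∧
        Commute z.1 (Matrix.single k (Fin.rev o) (1 : F)) := by
    intro k hk0 hk1
    by_cases hk : k = Fin.rev k
    · -- the middle index
      have hok : o ≠ k := ne_of_lt (hlt k hk0)
      have key : ∀ a : F, Commute z.1 (Matrix.single o k a -
          Matrix.single k (Fin.rev o) (a ^ q)) := by
        intro a
        have hfix : (-(a ^ (q + 1))) ^ q = -(a ^ (q + 1)) := by
          rw [neg_pow_q hF, ← pow_mul, add_mul, one_mul, pow_add, pow_mul, pow_q_pow_q hF,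
            pow_succ, mul_comm]
        obtain ⟨b, hb⟩ := exists_trace_eq' hF _ hfix
        have hab : b + b ^ q + a ^ (q + 1) = 0 := by rw [hb]; ring
        have hmem : ym q hok hk.symm a b ∈ UJ n F q := by
          refine mem_UJ.mpr ⟨A2_mem hF hok hk.symm a b hab, mem_UT.mpr ?_⟩
          rw [A2_coe hok hk.symm a b, add_sub_assoc, add_assoc]
          exact isUT_one_add (((strictUpper_single (hlt k hk0) a).sub
            (strictUpper_single (hlt' _ hk1) _)).add (strictUpper_single (hlt' o (by omega)) b))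
        have h1 := hcomm _ hmem
        rw [A2_coe hok hk.symm a b, add_sub_assoc, add_assoc] at h1
        have h2 := commute_of_one_add h1
        have h3 : Commute z.1 (Matrix.single o (Fin.rev o) b) := by
          have := hlong.smul_right b
          rwa [Matrix.smul_single, smul_eq_mul, mul_one] at this
        have h4 := h2.sub_right h3
        rwa [add_sub_cancel_right] at h4
      exact zeta_trick z.1 o k k (Fin.rev o) ζ hζ (key 1) (key ζ)
    · have h1 := hA k hk0 hk1 hk
      have h2 := hA (Fin.rev k) (by rw [Fin.val_rev]; omega) (by rw [Fin.val_rev]; omega)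
        (by rw [Fin.rev_rev]; exact fun e => hk e.symm)
      rw [Fin.rev_rev] at h2
      exact ⟨h1.1, h2.2⟩
  -- conclusion
  rcases lt_or_gt_of_ne hij with hlt1 | hgt1
  · by_cases hj : j.val = n - 1
    · have hi0 : 0 < i.val := by
        rcases Nat.eq_zero_or_pos i.val with h | h
        · exact absurd ⟨h, hj⟩ h0
        · exact h
      have hi1 : i.val < n - 1 := by
        have := Fin.lt_def.mp hlt1
        omega
      have h1 := congrFun (congrFun ((hB i hi0 hi1).1.eq) o) j
      rw [Matrix.single_mul_apply_same, one_mul,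
        Matrix.mul_single_apply_of_ne (hbj := Ne.symm hij)] at h1
      exact h1.symm
    · have hj0 : 0 < j.val := by
        have := Fin.lt_def.mp hlt1
        omega
      have hj1 : j.val < n - 1 := by
        have := j.isLt
        omega
      have h1 := congrFun (congrFun ((hB j hj0 hj1).2.eq) i) (Fin.rev o)
      rw [Matrix.mul_single_apply_same, mul_one,
        Matrix.single_mul_apply_of_ne (h := hij)] at h1
      exact h1
  · exact hz.2.1 i j hgt1

end Cfsg.Agent.Lib.Helper3_S5172_D1a
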