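import Mathlib
import Cfsg.Prelude.Def_Classical
import Cfsg.Agent.Lib.Helper13_Herm
import Cfsg.Agent.Lib.Helper5_SUCenter
import Cfsg.Agent.Lib.Helper44_PSLnUT
import Cfsg.Agent.Lib.Helper32_PGroup
import Cfsg.Agent.Lib.Helper88_PSLnFusDefs
import Cfsg.Agent.Lib.Helper88_PSUFusDefs
import Cfsg.Agent.Lib.Helper3_S5172_D1a

/-!
S5172-D1 (helper88's market): a nontrivial subgroup of `UJ` normalised by `UJ` contains a corner transvection
`1 + c E_{0,n-1}`, `c ≠ 0`, `c + c^q = 0`.  helper3.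
-/

set_option autoImplicit false


namespace Cfsg.Agent.Lib.Helper3_S5172_D1

open Matrix Cfsg.Agent.Lib.Helper44_PSLnUT Cfsg.Agent.Lib.Helper88_PSLnFus
  Cfsg.Agent.Lib.Helper88_PSUFus Cfsg.Agent.Lib.Helper13_Herm

variable {F : Type*} [Field F] [Fintype F] {q : ℕ}

/-- `UJ` is a `p`-group. -/
theorem isPGroup_UJ (p : ℕ) [Fact p.Prime] [CharP F p] (n : ℕ) :
    IsPGroup p (UJ n F q) := by
  obtain ⟨f, hf⟩ := FiniteField.card F p
  have h1 : IsPGroup p (UT n F) := by
    apply IsPGroup.of_card (n := (f : ℕ) * Fintype.card (Pos n))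
    rw [card_UT, hf.2, pow_mul]
  exact h1.to_le inf_le_right

/-- a central element of `UJ` is a corner transvection `1 + c E_{0, n-1}` with `c + c^q = 0` -/
theorem central_eq_transvection (hF : Fintype.card F = q ^ 2) (n : ℕ) (hn : 4 ≤ n)
    (z : SpecialLinearGroup (Fin n) F) (hz : z ∈ UJ n F q)
    (hc : ∀ u ∈ UJ n F q, u * z = z * u) (o : Fin n) (ho : o.val = 0) (hoo : o ≠ Fin.rev o) :
    z = SpecialLinearGroup.transvection hoo (z.1 o (Fin.rev o)) ∧
      z.1 o (Fin.rev o) + (z.1 o (Fin.rev o)) ^ q = 0 := by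
  have hq : q ≠ 0 := by
    have := two_le_q hF
    omega
  have hrevo : (Fin.rev o).val = n - 1 := by rw [Fin.val_rev]; omega
  have hzmat : z.1 = 1 + Matrix.single o (Fin.rev o) (z.1 o (Fin.rev o)) := by
    ext r s
    by_cases hrs : r = s
    · subst hrs
      rw [Matrix.add_apply, Matrix.one_apply_eq, Matrix.single_apply_of_ne, add_zero]
      · exact hz.2.2 r
      · rintro ⟨rfl, h2⟩
        exact hoo h2.symm
    · by_cases hcorner : r = o ∧ s = Fin.rev o
      · rw [hcorner.1, hcorner.2, Matrix.add_apply, Matrix.one_apply_ne hoo, zero_add,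
          Matrix.single_apply_same]
      · rw [Matrix.add_apply, Matrix.one_apply_ne hrs, zero_add, Matrix.single_apply_of_ne]
        · apply Cfsg.Agent.Lib.Helper3_S5172_D1a.D1a hF n hn z hz hc r s hrs
          rintro ⟨h1, h2⟩
          apply hcorner
          exact ⟨Fin.ext (by rw [h1, ho]), Fin.ext (by rw [h2, hrevo])⟩
        · rintro ⟨rfl, rfl⟩
          exact hcorner ⟨rfl, rfl⟩
  refine ⟨Subtype.ext hzmat, ?_⟩
  set c := z.1 o (Fin.rev o) with hcdef
  -- pair the last basis vector with itself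
  have hG := (mem_GJ.mp hz.1) (Pi.single (Fin.rev o) 1) (Pi.single (Fin.rev o) 1)
  have hw : ∀ k : Fin n, (z.1 *ᵥ (Pi.single (Fin.rev o) 1 : Fin n → F)) k =
      if k = o then c else if k = Fin.rev o then 1 else 0 := by
    intro k
    rw [Matrix.mulVec_single_one, Matrix.col_apply, hzmat, Matrix.add_apply, Matrix.one_apply,
      Matrix.single_apply]
    by_cases h1 : k = o
    · subst h1
      simp [hoo]
    · by_cases h2 : k = Fin.rev o
      · subst h2
        simp [hoo, Ne.symm hoo]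
      · simp [h1, h2, Ne.symm h1]
  have hL : hermJ n F q (z.1 *ᵥ (Pi.single (Fin.rev o) 1 : Fin n → F))
      (z.1 *ᵥ (Pi.single (Fin.rev o) 1 : Fin n → F)) = c + c ^ q := by
    unfold hermJ
    rw [Finset.sum_eq_add o (Fin.rev o) hoo]
    · rw [Fin.rev_rev, hw o, hw (Fin.rev o)]
      simp [Ne.symm hoo]
    · intro k _ hk
      rw [hw k, if_neg hk.1, if_neg hk.2, zero_mul]
    · intro h; exact absurd (Finset.mem_univ _) h
    · intro h; exact absurd (Finset.mem_univ _) h
  have hR : hermJ n F q (Pi.single (Fin.rev o) 1 : Fin n → F) (Pi.single (Fin.rev o) 1) = 0 := by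
    unfold hermJ
    apply Finset.sum_eq_zero
    intro k _
    by_cases hk : k = Fin.rev o
    · subst hk
      rw [Fin.rev_rev, Pi.single_eq_of_ne hoo, zero_pow hq, mul_zero]
    · rw [Pi.single_eq_of_ne hk, zero_mul]
  rw [hL, hR] at hG
  exact hG

/-- **D1**  a nontrivial subgroup of `UJ` normalised by `UJ` contains a corner transvection. -/
theorem D1 (hF : Fintype.card F = q ^ 2) (p : ℕ) [Fact p.Prime] [CharP F p] (n : ℕ) (hn : 4 ≤ n)
    (T : Subgroup (SpecialLinearGroup (Fin n) F)) (hT : T ≤ UJ n F q) (hne : T ≠ ⊥)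
    (hnorm : ∀ t ∈ T, ∀ u ∈ UJ n F q, u * t * u⁻¹ ∈ T) :
    ∃ (i : Fin n) (hi : i ≠ Fin.rev i) (c : F), i.val = 0 ∧ c ≠ 0 ∧ c + c ^ q = 0 ∧
      SpecialLinearGroup.transvection hi c ∈ T := by
  have hn0 : 0 < n := by omega
  obtain ⟨o, ho⟩ : ∃ o : Fin n, o.val = 0 := ⟨⟨0, hn0⟩, rfl⟩
  have hrevo : (Fin.rev o).val = n - 1 := by rw [Fin.val_rev]; omega
  have hoo : o ≠ Fin.rev o := by
    intro e
    have := congrArg Fin.val e
    rw [hrevo, ho] at this
    omega
  have hU : IsPGroup p (UJ n F q) := isPGroup_UJ p n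
  have hNn : (T.subgroupOf (UJ n F q)).Normal := by
    constructor
    intro x hx g
    rw [Subgroup.mem_subgroupOf] at hx ⊢
    exact hnorm _ hx _ g.2
  have hN : T.subgroupOf (UJ n F q) ≠ ⊥ := by
    intro h
    rw [Subgroup.subgroupOf_eq_bot, disjoint_iff, inf_eq_left.2 hT] at h
    exact hne h
  obtain ⟨z, hzN, hzc, hz1⟩ :=
    Cfsg.Agent.Lib.Helper32_PGroup.exists_mem_center_of_normal hU (T.subgroupOf (UJ n F q)) hN
  rw [Subgroup.mem_subgroupOf] at hzN
  have hc : ∀ u ∈ UJ n F q, u * (z : SpecialLinearGroup (Fin n) F) = z * u := by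
    intro u hu
    have h1 := Subgroup.mem_center_iff.1 hzc ⟨u, hu⟩
    exact congrArg (fun t : UJ n F q => (t : SpecialLinearGroup (Fin n) F)) h1
  obtain ⟨h1, h2⟩ := central_eq_transvection hF n hn z.1 z.2 hc o ho hoo
  refine ⟨o, hoo, (z.1).1 o (Fin.rev o), ho, ?_, h2, ?_⟩
  · intro h0
    rw [h0, SpecialLinearGroup.transvection_coeff_zero] at h1
    exact hz1 (Subtype.ext h1)
  · rw [← h1]
    exact hzN

end Cfsg.Agent.Lib.Helper3_S5172_D1
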