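import Mathlib
import Cfsg.Agent.Lib.Helper67_T2ODefs
import Cfsg.Agent.Lib.Helper94_OrthNondeg
import Cfsg.Agent.Lib.Helper82_T2_KR
import Cfsg.Agent.Lib.Helper9_T2_BR
import Cfsg.Agent.Lib.Helper78_UT2_NEXA

set_option autoImplicit false
set_option linter.unusedSectionVars false
set_option linter.unusedVariables false

/-!
# TENS2O package GENO4 (architect helper67), conditional form: the full Siegel group at `(e, 0)`,
with the hyperbolic-pair lemma HYPP (`exists_hyp2`) as a hypothesis.  (helper3)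
-/

open Module
open Cfsg.Agent.Lib.Helper94_Symp Cfsg.Agent.Lib.Helper94_OrthSmall
  Cfsg.Agent.Lib.Helper94_OrthSiegel Cfsg.Agent.Lib.Helper94_OrthNondeg
  Cfsg.Agent.Lib.Helper67_Tens2Defs Cfsg.Agent.Lib.Helper67_T2ODefs

namespace Cfsg.Agent.Lib.Helper3_T2O_GENO4of

variable {F W : Type*} [Field F] [Finite F] [AddCommGroup W] [Module F W] [FiniteDimensional F W]
variable {ω : LinearMap.BilinForm F W}

/-- GENO4 with the hyperbolic pairs given as data. -/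
theorem sieg_left_data (halt : ω.IsAlt)
    (M : Subgroup ((W × W) ≃ₗ[F] (W × W))) (hM : HypO ω M)
    (haw : ∀ y w : W, ω y w = 0 → ux (aw ω y w) ∈ M)
    (hmix : ∀ e g : W, ω e g = 0 → ∀ t : F,
      sieg (qf ω) (tf ω) (e, (0 : W)) ((0 : W), t • g) ∈ M)
    (e f e₂ f₂ : W) (hef : ω e f = 1) (he₂f₂ : ω e₂ f₂ = 1) (hee₂ : ω e e₂ = 0)
    (hef₂ : ω e f₂ = 0) (hfe₂ : ω f e₂ = 0) (hff₂ : ω f f₂ = 0)
    (z : W × W) (hz : tf ω (e, (0 : W)) z = 0) :
    sieg (qf ω) (tf ω) (e, (0 : W)) z ∈ M := by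
  have hQs := qf_smul ω
  have hQp := qf_add ω halt
  have hQe : qf ω (e, (0 : W)) = 0 := by simp
  -- (a) `(v, 0)` with `v ⊥ e`
  have ha : ∀ v : W, ω e v = 0 → InZ (qf ω) (tf ω) M (e, (0 : W)) (v, (0 : W)) := by
    intro v hv
    refine ⟨by simp, fun t => ?_⟩
    have h1 : t • (v, (0 : W)) = (t • v, (0 : W)) := by simp
    rw [h1, ← ux_aw ω halt]
    exact haw e (t • v) (by rw [map_smul, hv, smul_zero])
  -- (b) `(0, v')` with `v' ⊥ e`
  have hb : ∀ v' : W, ω e v' = 0 → InZ (qf ω) (tf ω) M (e, (0 : W)) ((0 : W), v') := by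
    intro v' hv'
    refine ⟨by simp [hv'], fun t => ?_⟩
    have h1 : t • ((0 : W), v') = ((0 : W), t • v') := by simp
    rw [h1]
    exact hmix e v' hv' t
  -- (c) `(f, 0)`
  have hc : InZ (qf ω) (tf ω) M (e, (0 : W)) (f, (0 : W)) := by
    have hm : ux (aw ω f e₂) ∈ M := haw f e₂ hfe₂
    have hmO : ux (aw ω f e₂) ∈ oG (qf ω) := hM.le_oG hm
    have h1 := InZ_map hQs hQp hm hmO hQe (hb f₂ hef₂)
    have h2 : ux (aw ω f e₂) (e, (0 : W)) = (e, (0 : W)) := by simp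
    have hf₂e₂ : ω f₂ e₂ = -1 := by rw [alt_swap ω halt, he₂f₂]
    have hf₂f : ω f₂ f = 0 := by rw [alt_swap ω halt, hff₂, neg_zero]
    have h3 : ux (aw ω f e₂) ((0 : W), f₂) = (-f, f₂) := by
      simp [hf₂e₂, hf₂f]
    rw [h2, h3] at h1
    have h4 := InZ_sub hQs hQp hQe h1 (hb f₂ hef₂)
    have h5 : ((-f, f₂) : W × W) - ((0 : W), f₂) = (-f, (0 : W)) := by simp
    rw [h5] at h4
    have h6 := InZ_smul (-1 : F) h4
    have h7 : (-1 : F) • ((-f, (0 : W)) : W × W) = (f, (0 : W)) := by simp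
    rwa [h7] at h6
  -- general `z`
  obtain ⟨v, v'⟩ := z
  have hv' : ω e v' = 0 := by simpa using hz
  have h1 : ω e (v - ω e v • f) = 0 := by
    rw [map_sub, map_smul, hef, smul_eq_mul, mul_one, sub_self]
  have h2 := InZ_add hQs hQp hQe (InZ_add hQs hQp hQe (InZ_smul (ω e v) hc) (ha _ h1)) (hb v' hv')
  have h3 : ω e v • ((f, (0 : W)) : W × W) + (v - ω e v • f, (0 : W)) + ((0 : W), v') = (v, v') := by
    ext <;> simp
  rw [h3] at h2
  have h4 := h2.2 1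
  rwa [one_smul] at h4

/-- GENO4 with HYPP (`exists_hyp2`) as a hypothesis. -/
theorem sieg_left_of
    (hyp2 : ∀ e : W, e ≠ 0 →
      ∃ f e₂ f₂ : W, ω e f = 1 ∧ ω e₂ f₂ = 1 ∧ ω e e₂ = 0 ∧ ω e f₂ = 0 ∧ ω f e₂ = 0 ∧
        ω f f₂ = 0)
    (halt : ω.IsAlt)
    (M : Subgroup ((W × W) ≃ₗ[F] (W × W))) (hM : HypO ω M)
    (haw : ∀ y w : W, ω y w = 0 → ux (aw ω y w) ∈ M)
    (hmix : ∀ e g : W, ω e g = 0 → ∀ t : F,
      sieg (qf ω) (tf ω) (e, (0 : W)) ((0 : W), t • g) ∈ M) :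
    ∀ (e : W) (z : W × W), tf ω (e, (0 : W)) z = 0 →
      sieg (qf ω) (tf ω) (e, (0 : W)) z ∈ M := by
  intro e z hz
  by_cases he : e = 0
  · subst he
    have h0 : ((0 : W), (0 : W)) = (0 : W × W) := rfl
    rw [h0, sieg_zero_left (qf ω) (tf ω) (qf_smul ω) (qf_add ω halt)]
    exact M.one_mem
  · obtain ⟨f, e₂, f₂, h1, h2, h3, h4, h5, h6⟩ := hyp2 e he
    exact sieg_left_data halt M hM haw hmix e f e₂ f₂ h1 h2 h3 h4 h5 h6 z hz

end Cfsg.Agent.Lib.Helper3_T2O_GENO4of
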