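import Mathlib
import Cfsg.Agent.Lib.Helper67_T2ODefs
import Cfsg.Agent.Lib.Helper94_OrthNondeg
import Cfsg.Agent.Lib.Helper82_T2_KR
import Cfsg.Agent.Lib.Helper9_T2_BR
import Cfsg.Agent.Lib.Helper78_UT2_NEXA

set_option autoImplicit false
set_option linter.unusedSectionVars false
set_option linter.unusedVariables false

/-!
# TENS2O package HYPP (architect helper67): hyperbolic pairs orthogonal to given vectors
-/

open Module
open Cfsg.Agent.Lib.Helper94_Symp Cfsg.Agent.Lib.Helper94_OrthSmall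
  Cfsg.Agent.Lib.Helper94_OrthSiegel Cfsg.Agent.Lib.Helper94_OrthNondeg
  Cfsg.Agent.Lib.Helper67_Tens2Defs Cfsg.Agent.Lib.Helper67_T2ODefs

namespace Cfsg.Agent.Lib.Helper58_T2O_HYPP

variable {F W : Type*} [Field F] [Finite F] [AddCommGroup W] [Module F W] [FiniteDimensional F W]
variable {ω : LinearMap.BilinForm F W}

/-- the span of two vectors has dimension at most two -/
theorem h58_finrank_span_pair_le (e g : W) : finrank F (Submodule.span F ({e, g} : Set W)) ≤ 2 := by
  classical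
  have h1 := finrank_span_finset_le_card (R := F) ({e, g} : Finset W)
  have h2 : ({e, g} : Finset W).card ≤ 2 := Finset.card_le_two
  have h3 : ((({e, g} : Finset W)) : Set W) = {e, g} := by simp
  rw [h3] at h1
  exact h1.trans h2

/-- membership in the orthogonal of the span of a pair -/
theorem h58_mem_orth_pair (halt : ω.IsAlt) (e g x : W)
    (hx : x ∈ ω.orthogonal (Submodule.span F ({e, g} : Set W))) :
    ω x e = 0 ∧ ω x g = 0 := by
  have he : ω e x = 0 := hx e (Submodule.subset_span (Set.mem_insert _ _))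
  have hg : ω g x = 0 := hx g (Submodule.subset_span (Set.mem_insert_of_mem _ rfl))
  constructor
  · rw [alt_swap ω halt x e, he, neg_zero]
  · rw [alt_swap ω halt x g, hg, neg_zero]

/-- HYPP : a hyperbolic pair orthogonal to a totally isotropic pair `e, g` (`b ≥ 6`) -/
theorem exists_hyp_perp (halt : ω.IsAlt) (hN : ω.Nondegenerate) (h6 : 6 ≤ finrank F W)
    (e g : W) (heg : ω e g = 0) :
    ∃ v w : W, ω v w = 1 ∧ ω v e = 0 ∧ ω v g = 0 ∧ ω w e = 0 ∧ ω w g = 0 := by
  have hS : finrank F (Submodule.span F ({e, g} : Set W)) ≤ 2 := h58_finrank_span_pair_le e g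
  have hU : finrank F (ω.orthogonal (Submodule.span F ({e, g} : Set W))) =
      finrank F W - finrank F (Submodule.span F ({e, g} : Set W)) :=
    LinearMap.BilinForm.finrank_orthogonal hN _
  by_contra hcon
  push Not at hcon
  -- `ω` vanishes on `U × U`
  have hvan : ∀ v ∈ ω.orthogonal (Submodule.span F ({e, g} : Set W)),
      ∀ w ∈ ω.orthogonal (Submodule.span F ({e, g} : Set W)), ω v w = 0 := by
    intro v hv w hw
    by_contra hne
    obtain ⟨hve, hvg⟩ := h58_mem_orth_pair halt e g v hv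
    obtain ⟨hwe, hwg⟩ := h58_mem_orth_pair halt e g w hw
    refine hcon v ((ω v w)⁻¹ • w) ?_ hve hvg ?_ ?_
    · rw [map_smul, smul_eq_mul, inv_mul_cancel₀ hne]
    · rw [map_smul, LinearMap.smul_apply, hwe, smul_zero]
    · rw [map_smul, LinearMap.smul_apply, hwg, smul_zero]
  have hle : ω.orthogonal (Submodule.span F ({e, g} : Set W)) ≤
      ω.orthogonal (ω.orthogonal (Submodule.span F ({e, g} : Set W))) :=
    fun w hw v hv => hvan v hv w hw
  have h1 := Submodule.finrank_mono hle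
  rw [LinearMap.BilinForm.finrank_orthogonal hN
    (ω.orthogonal (Submodule.span F ({e, g} : Set W)))] at h1
  omega

/-- HYPP : a hyperbolic pair `e, f` and a second one orthogonal to it (`b ≥ 4`) -/
theorem exists_hyp2 (halt : ω.IsAlt) (hN : ω.Nondegenerate) (h4 : 4 ≤ finrank F W)
    (e : W) (he : e ≠ 0) :
    ∃ f e₂ f₂ : W, ω e f = 1 ∧ ω e₂ f₂ = 1 ∧ ω e e₂ = 0 ∧ ω e f₂ = 0 ∧ ω f e₂ = 0 ∧
      ω f f₂ = 0 := by
  -- `f` with `ω e f = 1`
  have hex : ∃ x, ω e x ≠ 0 := by
    by_contra hno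
    push Not at hno
    exact he (hN.1 e hno)
  obtain ⟨x₀, hx₀⟩ := hex
  obtain ⟨f, hf⟩ : ∃ f, f = (ω e x₀)⁻¹ • x₀ := ⟨_, rfl⟩
  have hef : ω e f = 1 := by
    rw [hf, map_smul, smul_eq_mul, inv_mul_cancel₀ hx₀]
  have hfe : ω f e = -1 := by rw [alt_swap ω halt f e, hef]
  -- the orthogonal of `⟨e, f⟩` is nonzero
  have hS : finrank F (Submodule.span F ({e, f} : Set W)) ≤ 2 := h58_finrank_span_pair_le e f
  have hU : finrank F (ω.orthogonal (Submodule.span F ({e, f} : Set W))) =
      finrank F W - finrank F (Submodule.span F ({e, f} : Set W)) :=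
    LinearMap.BilinForm.finrank_orthogonal hN _
  have hpos : 0 < finrank F (ω.orthogonal (Submodule.span F ({e, f} : Set W))) := by omega
  obtain ⟨⟨u, huU⟩, hu0⟩ := finrank_pos_iff_exists_ne_zero.1 hpos
  have hu : u ≠ 0 := fun h => hu0 (Subtype.ext h)
  obtain ⟨hue, huf⟩ := h58_mem_orth_pair halt e f u huU
  -- a vector `x` with `ω u x ≠ 0`, projected to the orthogonal of `⟨e, f⟩`
  have hex2 : ∃ x, ω u x ≠ 0 := by
    by_contra hno
    push Not at hno
    exact hu (hN.1 u hno)
  obtain ⟨x, hx⟩ := hex2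
  obtain ⟨x', hx'⟩ : ∃ x', x' = x + (ω f x) • e - (ω e x) • f := ⟨_, rfl⟩
  have hux' : ω u x' = ω u x := by
    rw [hx', map_sub, map_add, map_smul, map_smul, hue, huf]
    simp
  have hex' : ω e x' = 0 := by
    rw [hx', map_sub, map_add, map_smul, map_smul, halt e, hef]
    simp
  have hfx' : ω f x' = 0 := by
    rw [hx', map_sub, map_add, map_smul, map_smul, halt f, hfe]
    simp
  refine ⟨f, u, (ω u x')⁻¹ • x', hef, ?_, ?_, ?_, ?_, ?_⟩
  · rw [map_smul, smul_eq_mul, inv_mul_cancel₀ (by rw [hux']; exact hx)]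
  · rw [alt_swap ω halt e u, hue, neg_zero]
  · rw [map_smul, hex', smul_zero]
  · rw [alt_swap ω halt f u, huf, neg_zero]
  · rw [map_smul, hfx', smul_zero]

end Cfsg.Agent.Lib.Helper58_T2O_HYPP
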