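import Mathlib
import Cfsg.Agent.Lib.Helper67_T2ODefs
import Cfsg.Agent.Lib.Helper94_OrthNondeg
import Cfsg.Agent.Lib.Helper82_T2_KR
import Cfsg.Agent.Lib.Helper9_T2_BR
import Cfsg.Agent.Lib.Helper78_UT2_NEXA
import Cfsg.Agent.Lib.Helper58_T2O_HYPP
import Cfsg.Agent.Lib.Helper3_T2O_GENO4of

set_option autoImplicit false
set_option linter.unusedSectionVars false
set_option linter.unusedVariables false

/-!
# TENS2O package GENO4 (architect helper67): the full Siegel group at `(e, 0)` (`b ≥ 4`).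
(helper3; proof in `Helper3_T2O_GENO4of`, HYPP from `Helper58_T2O_HYPP`.)
-/

open Module
open Cfsg.Agent.Lib.Helper94_Symp Cfsg.Agent.Lib.Helper94_OrthSmall
  Cfsg.Agent.Lib.Helper94_OrthSiegel Cfsg.Agent.Lib.Helper94_OrthNondeg
  Cfsg.Agent.Lib.Helper67_Tens2Defs Cfsg.Agent.Lib.Helper67_T2ODefs

namespace Cfsg.Agent.Lib.Helper3_T2O_GENO4

variable {F W : Type*} [Field F] [Finite F] [AddCommGroup W] [Module F W] [FiniteDimensional F W]
variable {ω : LinearMap.BilinForm F W}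

/-- GENO4 : the full Siegel group at `(e, 0)` (`b ≥ 4`) -/
theorem sieg_left (halt : ω.IsAlt) (hN : ω.Nondegenerate) (h4 : 4 ≤ finrank F W)
    (M : Subgroup ((W × W) ≃ₗ[F] (W × W))) (hM : HypO ω M)
    (haw : ∀ y w : W, ω y w = 0 → ux (aw ω y w) ∈ M)
    (hmix : ∀ e g : W, ω e g = 0 → ∀ t : F,
      sieg (qf ω) (tf ω) (e, (0 : W)) ((0 : W), t • g) ∈ M) :
    ∀ (e : W) (z : W × W), tf ω (e, (0 : W)) z = 0 →
      sieg (qf ω) (tf ω) (e, (0 : W)) z ∈ M :=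
  Cfsg.Agent.Lib.Helper3_T2O_GENO4of.sieg_left_of
    (fun e he => Cfsg.Agent.Lib.Helper58_T2O_HYPP.exists_hyp2 halt hN h4 e he) halt M hM haw hmix

end Cfsg.Agent.Lib.Helper3_T2O_GENO4
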