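import Mathlib

/-!
# A `p`-group acting coprimely and "minimally" on a finite group

`A` acts on `R` by automorphisms, `A` is a `p`-group, `p ∤ |R|`, the action is nontrivial, every
proper `A`-invariant subgroup of `R` is fixed pointwise, and all nonidentity elements of `A`
have the same fixed points.  We derive the structure of `R` needed for a character-degree bound.
-/

set_option autoImplicit false
set_option linter.unusedSectionVars false

namespace Cfsg.Agent.Lib.Helper3_TIAct

open scoped Pointwise

variable {A : Type*} {R : Type*} [Group A] [Group R] [MulDistribMulAction A R]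

/-- The hypotheses on the action. -/
structure MinAct (p : ℕ) (A : Type*) (R : Type*) [Group A] [Group R] [MulDistribMulAction A R] :
    Prop where
  pgroup : IsPGroup p A
  coprime : ¬ p ∣ Nat.card R
  nontriv : ∃ a : A, ∃ r : R, a • r ≠ r
  minimal : ∀ S : Subgroup R, (∀ a : A, ∀ s ∈ S, a • s ∈ S) → S ≠ ⊤ → ∀ a : A, ∀ s ∈ S, a • s = s
  semireg : ∀ a : A, a ≠ 1 → ∀ r : R, a • r = r → ∀ b : A, b • r = r

/-- A `p`-group acting on a `p'`-group fixes a Sylow `r`-subgroup for every prime `r`. -/
theorem exists_invariant_sylow [Finite R] {p : ℕ} [Fact p.Prime] (hA : IsPGroup p A)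
    (hR : ¬ p ∣ Nat.card R) (r : ℕ) [Fact r.Prime] : ∃ S : Sylow r R, ∀ a : A, a • S = S := by
  have hcard : ¬ p ∣ Nat.card (Sylow r R) := by
    obtain ⟨S₀⟩ : Nonempty (Sylow r R) := inferInstance
    intro h
    exact hR (h.trans ((S₀.card_dvd_index).trans (Subgroup.index_dvd_card _)))
  obtain ⟨S, hS⟩ := hA.nonempty_fixed_point_of_prime_not_dvd_card (Sylow r R) hcard
  exact ⟨S, fun a => hS a⟩

theorem orderOf_eq_one_of_coprime [Finite A] [Finite R] {p : ℕ} [hp : Fact p.Prime]
    (hA : IsPGroup p A) (hR : ¬ p ∣ Nat.card R) {c : R} (hc : c ^ Nat.card A = 1) : c = 1 := by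
  obtain ⟨k, hk⟩ := IsPGroup.iff_card.mp hA
  rw [hk] at hc
  have h1 : orderOf c ∣ p ^ k := orderOf_dvd_of_pow_eq_one hc
  obtain ⟨j, _, hj⟩ := (Nat.dvd_prime_pow hp.out).mp h1
  have h2 : orderOf c ∣ Nat.card R := orderOf_dvd_natCard c
  rcases Nat.eq_zero_or_pos j with h0 | h0
  · rw [h0, pow_zero] at hj
    exact orderOf_eq_one_iff.mp hj
  · exfalso
    apply hR
    refine dvd_trans ?_ h2
    rw [hj]
    exact dvd_pow_self p h0.ne'

theorem smul_pow_fixed {a : A} {r c : R} (hr : a • r = r * c) (hc : a • c = c) (n : ℕ) :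
    (a ^ n) • r = r * c ^ n := by
  induction n with
  | zero => simp
  | succ n ih =>
    rw [pow_succ', mul_smul, ih, smul_mul', hr, smul_pow', hc, pow_succ, mul_assoc]
    congr 1
    exact (pow_mul_comm' c n).symm

variable {p : ℕ} [hp : Fact p.Prime]

/-- Any subgroup containing all `r⁻¹ * a • r` is everything: `R = [R, A]`. -/
theorem eq_top_of_comm_mem [Finite A] [Finite R] (h : MinAct p A R) (N : Subgroup R)
    (hN : ∀ (r : R) (a : A), r⁻¹ * a • r ∈ N) : N = ⊤ := by
  set N₀ : Subgroup R := Subgroup.closure {x | ∃ (r : R) (a : A), x = r⁻¹ * a • r} with hN₀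
  have hle : N₀ ≤ N := by
    rw [hN₀, Subgroup.closure_le]
    rintro x ⟨r, a, rfl⟩
    exact hN r a
  suffices hs : N₀ = ⊤ by
    rw [eq_top_iff, ← hs]; exact hle
  by_contra hne
  have hinv : ∀ b : A, ∀ s ∈ N₀, b • s ∈ N₀ := by
    intro b s hs
    induction hs using Subgroup.closure_induction with
    | mem x hx =>
      obtain ⟨r, a, rfl⟩ := hx
      apply Subgroup.subset_closure
      refine ⟨b • r, b * a * b⁻¹, ?_⟩
      rw [smul_mul', smul_inv', mul_smul, mul_smul, inv_smul_smul]
    | one => rw [smul_one]; exact Subgroup.one_mem _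
    | mul x y _ _ hx hy => rw [smul_mul']; exact Subgroup.mul_mem _ hx hy
    | inv x _ hx => rw [smul_inv']; exact Subgroup.inv_mem _ hx
  have hfix := h.minimal N₀ hinv hne
  obtain ⟨a, r, har⟩ := h.nontriv
  apply har
  have hc : r⁻¹ * a • r ∈ N₀ := Subgroup.subset_closure ⟨r, a, rfl⟩
  have hc' := hfix a _ hc
  have hr : a • r = r * (r⁻¹ * a • r) := by group
  have h1 := smul_pow_fixed hr hc' (Nat.card A)
  rw [pow_card_eq_one', one_smul] at h1
  have h2 : (r⁻¹ * a • r) ^ Nat.card A = 1 := by
    have := mul_left_cancel (a := r) (b := 1) (c := (r⁻¹ * a • r) ^ Nat.card A)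
      (by rw [mul_one]; exact h1)
    exact this.symm
  have h3 := orderOf_eq_one_of_coprime h.pgroup h.coprime h2
  rw [hr, h3, mul_one]

/-- A proper invariant normal subgroup is central. -/
theorem le_center_of_normal_invariant [Finite A] [Finite R] (h : MinAct p A R) (D : Subgroup R)
    [hD : D.Normal] (hinv : ∀ a : A, ∀ s ∈ D, a • s ∈ D) (hne : D ≠ ⊤) :
    D ≤ Subgroup.center R := by
  intro d hd
  have hfix := h.minimal D hinv hne
  have htop := eq_top_of_comm_mem h (Subgroup.centralizer ({d} : Set R)) (by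
    intro r a
    rw [Subgroup.mem_centralizer_iff]
    intro x hx
    rw [Set.mem_singleton_iff] at hx
    subst hx
    have h1 : a • (r * x * r⁻¹) = r * x * r⁻¹ := hfix a _ (hD.conj_mem x hd r)
    rw [smul_mul', smul_mul', smul_inv', hfix a x hd] at h1
    have h2 : a • r * x = r * x * r⁻¹ * a • r := by
      rw [← h1]; group
    calc x * (r⁻¹ * a • r) = r⁻¹ * (r * x * r⁻¹ * a • r) := by group
      _ = r⁻¹ * (a • r * x) := by rw [h2]
      _ = r⁻¹ * a • r * x := by group)
  rw [Subgroup.mem_center_iff]
  intro g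
  have hg : g ∈ Subgroup.centralizer ({d} : Set R) := by rw [htop]; trivial
  rw [Subgroup.mem_centralizer_iff] at hg
  exact (hg d rfl).symm


/-- `R` is an `r`-group for some prime `r`. -/
theorem exists_isPGroup [Finite A] [Finite R] (h : MinAct p A R) :
    ∃ r : ℕ, r.Prime ∧ IsPGroup r R := by
  by_contra hcon
  push Not at hcon
  set T : Subgroup R := FixedPoints.subgroup A R with hT
  have hTne : T ≠ ⊤ := by
    intro htop
    obtain ⟨a, r, har⟩ := h.nontriv
    have : r ∈ T := by rw [htop]; trivial
    exact har (this a)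
  have hidx : T.index ≠ 1 := fun h1 => hTne (Subgroup.index_eq_one.mp h1)
  obtain ⟨r, hr, hrdvd⟩ := Nat.exists_prime_and_dvd hidx
  have : Fact r.Prime := ⟨hr⟩
  obtain ⟨S, hS⟩ := exists_invariant_sylow (A := A) h.pgroup h.coprime r
  have hSne : (S : Subgroup R) ≠ ⊤ := by
    intro htop
    apply hcon r hr
    have h1 : IsPGroup r (S : Subgroup R) := S.isPGroup'
    rw [htop] at h1
    exact IsPGroup.of_equiv h1 Subgroup.topEquiv
  have hSinv : ∀ a : A, ∀ s ∈ (S : Subgroup R), a • s ∈ (S : Subgroup R) := by
    intro a s hs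
    have h1 : a • (S : Subgroup R) = S := by
      have := congrArg (fun Q : Sylow r R => (Q : Subgroup R)) (hS a)
      simpa [Sylow.pointwise_smul_def] using this
    rw [← h1]
    exact Subgroup.smul_mem_pointwise_smul s a _ hs
  have hfix := h.minimal S hSinv hSne
  have hle : (S : Subgroup R) ≤ T := fun s hs a => hfix a s hs
  have h1 : T.index ∣ (S : Subgroup R).index := Subgroup.index_dvd_of_le hle
  exact S.not_dvd_index (hrdvd.trans h1)

/-- The derived subgroup is proper. -/
theorem commutator_ne_top [Finite A] [Finite R] (h : MinAct p A R) : commutator R ≠ ⊤ := by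
  obtain ⟨r, hr, hrR⟩ := exists_isPGroup h
  have : Fact r.Prime := ⟨hr⟩
  have : Group.IsNilpotent R := hrR.isNilpotent
  have : Nontrivial R := by
    obtain ⟨a, r, har⟩ := h.nontriv
    exact ⟨⟨a • r, r, har⟩⟩
  exact (Group.IsSolvable.commutator_lt_top_of_nontrivial R).ne

theorem smul_mem_of_characteristic (D : Subgroup R) [hD : D.Characteristic] (a : A) {s : R}
    (hs : s ∈ D) : a • s ∈ D := by
  have h1 := Subgroup.characteristic_iff_map_le.mp hD (MulDistribMulAction.toMulEquiv R a)
  exact h1 ⟨s, hs, rfl⟩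

/-- The derived subgroup is central. -/
theorem commutator_le_center [Finite A] [Finite R] (h : MinAct p A R) :
    commutator R ≤ Subgroup.center R :=
  le_center_of_normal_invariant h (commutator R)
    (fun a _ hs => smul_mem_of_characteristic (commutator R) a hs) (commutator_ne_top h)

/-- The derived subgroup is fixed pointwise. -/
theorem smul_commutator [Finite A] [Finite R] (h : MinAct p A R) (a : A) {s : R}
    (hs : s ∈ commutator R) : a • s = s :=
  h.minimal (commutator R) (fun a _ hs => smul_mem_of_characteristic (commutator R) a hs)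
    (commutator_ne_top h) a s hs

/-- If `R` is not abelian, its centre is fixed pointwise. -/
theorem smul_center [Finite A] [Finite R] (h : MinAct p A R) (hnab : Subgroup.center R ≠ ⊤) (a : A)
    {s : R} (hs : s ∈ Subgroup.center R) : a • s = s :=
  h.minimal (Subgroup.center R) (fun a _ hs => smul_mem_of_characteristic (Subgroup.center R) a hs)
    hnab a s hs


theorem coprime_card [Finite A] [Finite R] (h : MinAct p A R) :
    Nat.Coprime (Nat.card A) (Nat.card R) := by
  obtain ⟨j, hj⟩ := IsPGroup.iff_card.mp h.pgroup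
  rw [hj]
  apply Nat.Coprime.pow_left
  rw [Nat.Prime.coprime_iff_not_dvd hp.out]
  exact h.coprime

/-- Counting: a proper subgroup fixed pointwise has index greater than `|A|`. -/
theorem card_lt_index [Finite A] [Finite R] (h : MinAct p A R) (D : Subgroup R)
    (hfix : ∀ a : A, ∀ d ∈ D, a • d = d) : Nat.card A < D.index := by
  classical
  set C : Subgroup R := FixedPoints.subgroup A R with hC
  have hDC : D ≤ C := fun d hd a => hfix a d hd
  have hCne : C ≠ ⊤ := by
    intro htop
    obtain ⟨a, r, har⟩ := h.nontriv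
    have : r ∈ C := by rw [htop]; trivial
    exact har (this a)
  have hidx : C.index ∣ D.index := Subgroup.index_dvd_of_le hDC
  have hDpos : 0 < D.index := Nat.pos_of_ne_zero Subgroup.index_ne_zero_of_finite
  have hle : C.index ≤ D.index := Nat.le_of_dvd hDpos hidx
  refine lt_of_lt_of_le ?_ hle
  have : Fintype A := Fintype.ofFinite A
  have : Fintype R := Fintype.ofFinite R
  have hburn := MulAction.sum_card_fixedBy_eq_card_orbits_mul_card_group A R
  set k := Fintype.card (Quotient (MulAction.orbitRel A R)) with hk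
  have hfix1 : Fintype.card (MulAction.fixedBy R (1 : A)) = Nat.card R := by
    rw [Nat.card_eq_fintype_card]
    apply Fintype.card_of_subtype (Finset.univ : Finset R)
    intro x
    simp
  have hfixa : ∀ a : A, a ≠ 1 → Fintype.card (MulAction.fixedBy R a) = Nat.card C := by
    intro a ha
    rw [Nat.card_eq_fintype_card]
    apply Fintype.card_congr
    refine Equiv.subtypeEquivRight ?_
    intro x
    rw [MulAction.mem_fixedBy]
    exact ⟨fun hx b => h.semireg a ha x hx b, fun hx => hx a⟩
  have hsum : ∑ a : A, Fintype.card (MulAction.fixedBy R a) =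
      Nat.card R + (Nat.card A - 1) * Nat.card C := by
    rw [← Finset.add_sum_erase Finset.univ _ (Finset.mem_univ (1 : A)), hfix1]
    congr 1
    rw [Finset.sum_congr rfl (fun a ha => hfixa a (Finset.ne_of_mem_erase ha)), Finset.sum_const,
      Finset.card_erase_of_mem (Finset.mem_univ _), Finset.card_univ, smul_eq_mul,
      Nat.card_eq_fintype_card (α := A)]
  rw [hsum, ← Nat.card_eq_fintype_card (α := A)] at hburn
  have hcard : Nat.card C * C.index = Nat.card R := Subgroup.card_mul_index C
  set n := Nat.card A with hn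
  set m := C.index with hm
  have hnpos : 0 < n := Nat.card_pos
  have hmpos : 0 < m := Nat.pos_of_ne_zero Subgroup.index_ne_zero_of_finite
  have hm1 : m ≠ 1 := fun h1 => hCne (Subgroup.index_eq_one.mp h1)
  have hcop : Nat.Coprime n (Nat.card C) := by
    obtain ⟨j, hj⟩ := IsPGroup.iff_card.mp h.pgroup
    rw [hn, hj]
    apply Nat.Coprime.pow_left
    rw [Nat.Prime.coprime_iff_not_dvd hp.out]
    intro hdvd
    exact h.coprime (hdvd.trans (Subgroup.card_subgroup_dvd_card C))
  have h1 : n ∣ Nat.card C * (m - 1 + n) := by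
    refine ⟨k, ?_⟩
    rw [mul_comm n k, ← hburn, ← hcard]
    have : m - 1 + n = m + (n - 1) := by omega
    rw [this]
    ring
  have h2 : n ∣ m - 1 + n := hcop.dvd_of_dvd_mul_left h1
  have h3 : n ∣ m - 1 := (Nat.dvd_add_left (dvd_refl n)).mp h2
  have h4 : n ≤ m - 1 := Nat.le_of_dvd (by omega) h3
  omega

end Cfsg.Agent.Lib.Helper3_TIAct
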