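import Cfsg.Agent.Lib.Helper3_TIAct
import Cfsg.Agent.Lib.Helper74_DegPChar
import Cfsg.Agent.Lib.Helper75_CharArith
import Cfsg.Agent.Lib.Helper3_BrauerPermAut

/-!
# Degree bound for a faithful invariant character under a minimal coprime action
-/

set_option autoImplicit false
set_option linter.unusedSectionVars false

namespace Cfsg.Agent.Lib.Helper3_TIChar

open scoped ComplexConjugate commutatorElement
open Cfsg Cfsg.Agent.Lib.Helper3_TIAct Cfsg.Agent.Lib.Helper74_DegPChar
  Cfsg.Agent.Lib.Helper75_CharArith Cfsg.Agent.Lib.Helper3_BrauerPermAut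

universe u

variable {A : Type*} {R : Type u} [Group A] [Group R] [MulDistribMulAction A R]
variable {p : ℕ} [hp : Fact p.Prime]

/-- The central part of the kernel of an irreducible character. -/
def centralKer [Finite R] (θ : IrrCharacter R) : Subgroup R where
  carrier := {z | z ∈ Subgroup.center R ∧ (θ : R → ℂ) z = (θ : R → ℂ) 1}
  one_mem' := ⟨Subgroup.one_mem _, rfl⟩
  mul_mem' := by
    rintro x y ⟨hx, hx1⟩ ⟨hy, hy1⟩
    refine ⟨Subgroup.mul_mem _ hx hy, ?_⟩
    have h1 := central_mul θ hx y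
    rw [hx1, hy1] at h1
    exact mul_right_cancel₀ (irr_one_ne_zero θ) h1
  inv_mem' := by
    rintro x ⟨hx, hx1⟩
    refine ⟨Subgroup.inv_mem _ hx, ?_⟩
    have h1 := central_mul θ (Subgroup.inv_mem _ hx) x
    rw [inv_mul_cancel, hx1] at h1
    exact (mul_right_cancel₀ (irr_one_ne_zero θ) h1).symm

theorem mem_centralKer [Finite R] (θ : IrrCharacter R) (z : R) :
    z ∈ centralKer θ ↔ z ∈ Subgroup.center R ∧ (θ : R → ℂ) z = (θ : R → ℂ) 1 := Iff.rfl

/-- The preimage of the centre modulo the central kernel, when commutators are central. -/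
def radical [Finite R] (θ : IrrCharacter R) (hc : commutator R ≤ Subgroup.center R) :
    Subgroup R where
  carrier := {g | ∀ h : R, ⁅g, h⁆ ∈ centralKer θ}
  one_mem' := by
    intro h
    rw [commutatorElement_one_left]
    exact Subgroup.one_mem _
  mul_mem' := by
    intro x y hx hy h
    have h1 : ⁅x * y, h⁆ = ⁅y, h⁆ * ⁅x, h⁆ := by
      have hz : ⁅y, h⁆ ∈ Subgroup.center R := hc (Subgroup.commutator_mem_commutator
        (Subgroup.mem_top y) (Subgroup.mem_top h))
      have h2 := Subgroup.mem_center_iff.mp hz x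
      rw [commutatorElement_def, commutatorElement_def, commutatorElement_def] at *
      calc x * y * h * (x * y)⁻¹ * h⁻¹ = x * (y * h * y⁻¹ * h⁻¹) * x⁻¹ * (x * h * x⁻¹ * h⁻¹) := by
            group
        _ = (y * h * y⁻¹ * h⁻¹) * x * x⁻¹ * (x * h * x⁻¹ * h⁻¹) := by rw [h2]
        _ = y * h * y⁻¹ * h⁻¹ * (x * h * x⁻¹ * h⁻¹) := by group
    rw [h1]
    exact Subgroup.mul_mem _ (hy h) (hx h)
  inv_mem' := by
    intro x hx h
    have hz : ⁅h, x⁆ ∈ Subgroup.center R := hc (Subgroup.commutator_mem_commutator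
      (Subgroup.mem_top h) (Subgroup.mem_top x))
    have h2 := Subgroup.mem_center_iff.mp hz x⁻¹
    have h1 : ⁅x⁻¹, h⁆ = ⁅h, x⁆ := by
      rw [commutatorElement_inv_left, h2]
      group
    rw [h1, ← commutatorElement_inv]
    exact Subgroup.inv_mem _ (hx h)

theorem mem_radical [Finite R] (θ : IrrCharacter R) (hc : commutator R ≤ Subgroup.center R)
    (g : R) : g ∈ radical θ hc ↔ ∀ h : R, ⁅g, h⁆ ∈ centralKer θ := Iff.rfl

instance radical_normal [Finite R] (θ : IrrCharacter R)
    (hc : commutator R ≤ Subgroup.center R) : (radical θ hc).Normal := by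
  constructor
  intro g hg a h
  have hz : ⁅g, a⁻¹ * h * a⁆ ∈ Subgroup.center R := hc (Subgroup.commutator_mem_commutator
    (Subgroup.mem_top _) (Subgroup.mem_top _))
  have h2 := Subgroup.mem_center_iff.mp hz a
  have h1 : ⁅a * g * a⁻¹, h⁆ = ⁅g, a⁻¹ * h * a⁆ := by
    calc ⁅a * g * a⁻¹, h⁆ = a * ⁅g, a⁻¹ * h * a⁆ * a⁻¹ := by
          rw [commutatorElement_def, commutatorElement_def]; group
      _ = ⁅g, a⁻¹ * h * a⁆ * a * a⁻¹ := by rw [h2]
      _ = ⁅g, a⁻¹ * h * a⁆ := by group
  rw [h1]
  exact hg _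


/-- The nonabelian case: an irreducible character nontrivial on `R'` has `θ(1)² = [R : Z(R)] > |A|`. -/
theorem nonabelian_bound [Finite A] [Fintype R] (h : MinAct p A R)
    (hnab : Subgroup.center R ≠ ⊤) (θ : IrrCharacter R) {g₀ : R} (hg₀ : g₀ ∈ commutator R)
    (hθ : (θ : R → ℂ) g₀ ≠ (θ : R → ℂ) 1) (d : ℕ) (hd : (θ : R → ℂ) 1 = d) :
    Nat.card A < d ^ 2 := by
  have hc := commutator_le_center h
  have hinv : ∀ a : A, ∀ s ∈ radical θ hc, a • s ∈ radical θ hc := by
    intro a s hs k
    have h1 : ⁅a • s, k⁆ = a • ⁅s, a⁻¹ • k⁆ := by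
      rw [commutatorElement_def, commutatorElement_def]
      simp only [smul_mul', smul_inv', smul_inv_smul]
    have h2 : a • ⁅s, a⁻¹ • k⁆ = ⁅s, a⁻¹ • k⁆ :=
      smul_commutator h a (Subgroup.commutator_mem_commutator (Subgroup.mem_top _)
        (Subgroup.mem_top _))
    rw [h1, h2]
    exact hs _
  have hne : radical θ hc ≠ ⊤ := by
    intro htop
    have hle : commutator R ≤ centralKer θ := by
      rw [commutator_def, Subgroup.commutator_le]
      intro g₁ _ g₂ _
      have : g₁ ∈ radical θ hc := by rw [htop]; trivial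
      exact this g₂
    exact hθ ((mem_centralKer θ g₀).mp (hle hg₀)).2
  have hRad : radical θ hc ≤ Subgroup.center R := le_center_of_normal_invariant h _ hinv hne
  have hvan : ∀ g : R, g ∉ Subgroup.center R → (θ : R → ℂ) g = 0 := by
    intro g hg
    have hgR : g ∉ radical θ hc := fun hm => hg (hRad hm)
    rw [mem_radical] at hgR
    push Not at hgR
    obtain ⟨k, hk⟩ := hgR
    have hz : ⁅k, g⁆ ∈ Subgroup.center R := hc (Subgroup.commutator_mem_commutator
      (Subgroup.mem_top _) (Subgroup.mem_top _))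
    have hne1 : (θ : R → ℂ) ⁅k, g⁆ ≠ (θ : R → ℂ) 1 := by
      intro heq
      apply hk
      have : ⁅k, g⁆ ∈ centralKer θ := ⟨hz, heq⟩
      rw [← commutatorElement_inv]
      exact Subgroup.inv_mem _ this
    refine vanish_of_conj θ (g := k⁻¹) hz ?_ hne1
    rw [commutatorElement_def]; group
  have h1 := card_mul_sq_eq θ (Subgroup.center R) le_rfl d hd hvan
  have h2 := card_lt_index h (Subgroup.center R) (fun a s hs => smul_center h hnab a hs)
  have h3 : Nat.card (Subgroup.center R) * (Subgroup.center R).index = Nat.card R :=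
    Subgroup.card_mul_index _
  have h4 : (Subgroup.center R).index = d ^ 2 := by
    have hpos : 0 < Nat.card (Subgroup.center R) := Nat.card_pos
    exact Nat.eq_of_mul_eq_mul_left hpos (h3.trans h1.symm)
  rwa [h4] at h2


/-- Abelian case: there are no nontrivial fixed points (`R = C_R(A) × [R, A]` and `R = [R, A]`). -/
theorem abelian_fixed_eq_one [Finite A] [Fintype R] (h : MinAct p A R)
    (hab : Subgroup.center R = ⊤) {c : R} (hc : ∀ a : A, a • c = c) : c = 1 := by
  classical
  have hcen : ∀ z : R, z ∈ Subgroup.center R := fun z => by rw [hab]; trivial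
  have : Fintype A := Fintype.ofFinite A
  suffices hs : IsConj c 1 by
    exact isConj_one_right.mp hs.symm
  rw [Cfsg.Agent.Lib.Helper80_CharComplete.isConj_iff_irr]
  intro θ
  set t : ℂ := (θ : R → ℂ) 1 with ht
  have ht0 : t ≠ 0 := irr_one_ne_zero θ
  set ω : R → ℂ := fun r => (θ : R → ℂ) r / t with hω
  have hmul : ∀ x y : R, ω (x * y) = ω x * ω y := by
    intro x y
    have h1 := central_mul θ (hcen x) y
    simp only [hω]
    rw [← ht] at h1
    field_simp
    exact h1
  have hone : ω 1 = 1 := by simp only [hω]; exact div_self ht0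
  have hpow : ∀ (x : R) (n : ℕ), ω (x ^ n) = ω x ^ n := by
    intro x n
    induction n with
    | zero => simpa using hone
    | succ n ih => rw [pow_succ, hmul, ih, pow_succ]
  set Ω : R → ℂ := fun r => ∏ a : A, ω (a • r) with hΩ
  have hΩmul : ∀ x y : R, Ω (x * y) = Ω x * Ω y := by
    intro x y
    simp only [hΩ, smul_mul', hmul, Finset.prod_mul_distrib]
  have hΩone : Ω 1 = 1 := by
    simp only [hΩ, smul_one, hone, Finset.prod_const_one]
  have hΩinv : ∀ (b : A) (r : R), Ω (b • r) = Ω r := by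
    intro b r
    simp only [hΩ]
    apply Fintype.prod_equiv (Equiv.mulRight b)
    intro a
    simp [mul_smul]
  let K : Subgroup R :=
    { carrier := {r | Ω r = 1}
      one_mem' := hΩone
      mul_mem' := by
        intro x y hx hy
        show Ω (x * y) = 1
        rw [hΩmul, hx, hy, mul_one]
      inv_mem' := by
        intro x hx
        show Ω x⁻¹ = 1
        have h1 := hΩmul x⁻¹ x
        rw [inv_mul_cancel, hΩone, show Ω x = 1 from hx, mul_one] at h1
        exact h1.symm }
  have hK : K = ⊤ := eq_top_of_comm_mem h K (by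
    intro r a
    show Ω (r⁻¹ * a • r) = 1
    rw [hΩmul, hΩinv, ← hΩmul, inv_mul_cancel, hΩone])
  have hcK : Ω c = 1 := by
    have : c ∈ K := by rw [hK]; trivial
    exact this
  have h1 : ω c ^ Nat.card A = 1 := by
    rw [← hcK]
    simp only [hΩ, hc, Finset.prod_const, Finset.card_univ, Nat.card_eq_fintype_card]
  have h2 : ω c ^ Nat.card R = 1 := by
    rw [← hpow, pow_card_eq_one', hone]
  have h3 : ω c = 1 := (pow_eq_one_iff_of_coprime (coprime_card h)).mp ⟨h1, h2⟩
  simp only [hω] at h3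
  rw [div_eq_one_iff_eq ht0] at h3
  exact h3

/-- Abelian case: a nontrivial irreducible character has trivial stabiliser in `A`. -/
theorem abelian_stab_trivial [Finite A] [Fintype R] (h : MinAct p A R)
    (hab : Subgroup.center R = ⊤) (θ : IrrCharacter R) {g₀ : R}
    (hθ : (θ : R → ℂ) g₀ ≠ (θ : R → ℂ) 1) {a : A} (ha : a ≠ 1)
    (hinv : ∀ r : R, (θ : R → ℂ) (a • r) = (θ : R → ℂ) r) : False := by
  have hcen : ∀ z : R, z ∈ Subgroup.center R := fun z => by rw [hab]; trivial
  have hinj : Function.Injective (fun r : R => r⁻¹ * a • r) := by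
    intro r s hrs
    simp only at hrs
    have h1 : a • (s * r⁻¹) = s * r⁻¹ := by
      rw [smul_mul', smul_inv']
      have : a • s = s * (r⁻¹ * a • r) := by rw [hrs]; group
      rw [this]; group
    have h2 : s * r⁻¹ = 1 := abelian_fixed_eq_one h hab (h.semireg a ha _ h1)
    exact (mul_inv_eq_one.mp h2).symm
  obtain ⟨r, hr⟩ := (Finite.injective_iff_surjective.mp hinj) g₀
  simp only at hr
  apply hθ
  have h1 := central_mul θ (hcen r⁻¹) (a • r)
  have h2 := central_mul θ (hcen r⁻¹) r
  rw [hinv r, ← h2, inv_mul_cancel, hr] at h1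
  exact mul_right_cancel₀ (irr_one_ne_zero θ) h1


/-- Abelian case: the `A`-orbit of a nontrivial constituent is regular, so the degree is at
least `|A|`. -/
theorem abelian_bound [Finite A] [Fintype R] (h : MinAct p A R)
    (hab : Subgroup.center R = ⊤) (ψ : R → ℂ) (m : IrrCharacter R → ℕ)
    (hm : ∀ χ : IrrCharacter R, classInner ψ χ = m χ)
    (hinvψ : ∀ (a : A) (r : R), ψ (a • r) = ψ r) (θ : IrrCharacter R) (hmθ : m θ ≠ 0) {g₀ : R}
    (hθ : (θ : R → ℂ) g₀ ≠ (θ : R → ℂ) 1) (d : IrrCharacter R → ℕ)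
    (hd : ∀ χ : IrrCharacter R, 0 < d χ) : Nat.card A ≤ ∑ χ : IrrCharacter R, m χ * d χ := by
  classical
  have : Fintype A := Fintype.ofFinite A
  set F : A → IrrCharacter R := fun a => compAut (MulDistribMulAction.toMulAut A R a) θ with hF
  have hFapp : ∀ (a : A) (r : R), (F a : R → ℂ) r = (θ : R → ℂ) (a • r) := by
    intro a r
    simp [hF]
  have hFinj : Function.Injective F := by
    intro a b hab'
    by_contra hne
    have hne' : a * b⁻¹ ≠ 1 := fun h1 => hne (mul_inv_eq_one.mp h1)
    refine abelian_stab_trivial h hab θ hθ hne' ?_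
    intro r
    have h1 := congrArg (fun χ : IrrCharacter R => (χ : R → ℂ) (b⁻¹ • r)) hab'
    simp only [hFapp, smul_inv_smul] at h1
    rw [mul_smul, h1]
  have hmF : ∀ a : A, m (F a) = m θ := by
    intro a
    have h1 : classInner ψ (F a : R → ℂ) = classInner ψ (θ : R → ℂ) := by
      unfold classInner
      congr 1
      rw [← Equiv.sum_comp (MulAction.toPerm a) (fun g => ψ g * conj ((θ : R → ℂ) g))]
      apply Finset.sum_congr rfl
      intro g _
      rw [hFapp]
      simp only [MulAction.toPerm_apply, hinvψ]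
    rw [hm, hm] at h1
    exact_mod_cast h1
  calc Nat.card A = (Finset.univ.image F).card := by
        rw [Finset.card_image_of_injective _ hFinj, Finset.card_univ, Nat.card_eq_fintype_card]
    _ = ∑ χ ∈ Finset.univ.image F, 1 := by simp
    _ ≤ ∑ χ ∈ Finset.univ.image F, m χ * d χ := by
        apply Finset.sum_le_sum
        intro χ hχ
        obtain ⟨a, _, rfl⟩ := Finset.mem_image.mp hχ
        rw [hmF a]
        exact Nat.mul_pos (Nat.pos_of_ne_zero hmθ) (hd _)
    _ ≤ ∑ χ : IrrCharacter R, m χ * d χ :=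
        Finset.sum_le_sum_of_subset (Finset.subset_univ _)

/-- **Degree bound.** A faithful `A`-invariant character `ψ` of `R` has `|A| < ψ(1)²`. -/
theorem degree_bound [Finite A] [Finite R] (h : MinAct p A R) (ψ : R → ℂ)
    (hψ : IsCharacter R ψ) (hfaith : ∀ g : R, ψ g = ψ 1 → g = 1)
    (hinv : ∀ (a : A) (r : R), ψ (a • r) = ψ r) : Nat.card A < charDegree ψ ^ 2 := by
  classical
  have : Fintype R := Fintype.ofFinite R
  obtain ⟨m, hm, hsum⟩ := exists_multiplicities hψ
  choose d hdpos hd using fun χ : IrrCharacter R => Cfsg.Agent.Lib.Helper80_CharBasic.irr_apply_one χ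
  have hval : ∀ g : R, ψ g = ∑ χ : IrrCharacter R, (m χ : ℂ) * (χ : R → ℂ) g := by
    intro g
    have := congrFun hsum g
    rw [this, Finset.sum_apply]
    simp
  have hψ1 : ψ 1 = ((∑ χ : IrrCharacter R, m χ * d χ : ℕ) : ℂ) := by
    rw [hval 1]
    push_cast
    apply Finset.sum_congr rfl
    intro χ _
    rw [hd χ]
  have hdeg : charDegree ψ = ∑ χ : IrrCharacter R, m χ * d χ := by
    unfold charDegree
    rw [hψ1, Complex.natCast_re, Nat.floor_natCast]
  have hconst : ∀ g₀ : R, ψ g₀ ≠ ψ 1 →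
      ∃ θ : IrrCharacter R, m θ ≠ 0 ∧ (θ : R → ℂ) g₀ ≠ (θ : R → ℂ) 1 := by
    intro g₀ hg₀
    by_contra hcon
    push Not at hcon
    apply hg₀
    rw [hval g₀, hval 1]
    apply Finset.sum_congr rfl
    intro χ _
    by_cases h0 : m χ = 0
    · rw [h0]; simp
    · rw [hcon χ h0]
  by_cases hab : Subgroup.center R = ⊤
  · obtain ⟨a, r, har⟩ := h.nontriv
    have hr1 : r ≠ 1 := by
      rintro rfl
      exact har (smul_one a)
    have ha1 : a ≠ 1 := by
      rintro rfl
      exact har (one_smul A r)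
    obtain ⟨θ, hmθ, hθ⟩ := hconst r (fun h1 => hr1 (hfaith r h1))
    have h1 := abelian_bound h hab ψ m hm hinv θ hmθ hθ d hdpos
    rw [← hdeg] at h1
    have h2 : 1 < Nat.card A := by
      have : Nontrivial A := ⟨⟨a, 1, ha1⟩⟩
      exact Finite.one_lt_card
    calc Nat.card A < Nat.card A ^ 2 := by nlinarith
      _ ≤ charDegree ψ ^ 2 := Nat.pow_le_pow_left h1 2
  · have hcomm : commutator R ≠ ⊥ := fun h1 => hab ((commutator_eq_bot_iff_center_eq_top R).mp h1)
    obtain ⟨g₀, hg₀, hg₀1⟩ := (Subgroup.ne_bot_iff_exists_ne_one (H := commutator R)).mp hcomm |>.imp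
      (fun x hx => hx) |> fun ⟨x, hx⟩ => (⟨x.1, x.2, fun h1 => hx (Subtype.ext h1)⟩ :
        ∃ g₀ : R, g₀ ∈ commutator R ∧ g₀ ≠ 1)
    obtain ⟨θ, hmθ, hθ⟩ := hconst g₀ (fun h1 => hg₀1 (hfaith g₀ h1))
    have h1 := nonabelian_bound h hab θ hg₀ hθ (d θ) (hd θ)
    have h2 : d θ ≤ charDegree ψ := by
      rw [hdeg]
      calc d θ ≤ m θ * d θ := Nat.le_mul_of_pos_left _ (Nat.pos_of_ne_zero hmθ)
        _ ≤ ∑ χ : IrrCharacter R, m χ * d χ :=
            Finset.single_le_sum (f := fun χ => m χ * d χ) (fun _ _ => Nat.zero_le _)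
              (Finset.mem_univ θ)
    exact lt_of_lt_of_le h1 (Nat.pow_le_pow_left h2 2)

end Cfsg.Agent.Lib.Helper3_TIChar
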