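import Cfsg.Agent.Lib.Helper3_TIChar
import Cfsg.Agent.Lib.Helper47_HH
import Cfsg.Agent.Lib.Helper1_Cores

/-!
# `p`-solvable groups with a T.I. Sylow `p`-subgroup and a small faithful character

If `G` is `p`-solvable, a Sylow `p`-subgroup `P` is a T.I. set, and `G` has a faithful character
`χ` with `χ(1)² ≤ |P|`, then `P ⊴ G`.
-/

set_option autoImplicit false
set_option linter.unusedSectionVars false

namespace Cfsg.Agent.Lib.Helper3_TIPSolv

open scoped Pointwise
open Cfsg Cfsg.Agent.Lib.Helper3_TIAct Cfsg.Agent.Lib.Helper3_TIChar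

variable {G : Type*} [Group G]

/-- Conjugation action of a normalising subgroup `P` on `R`. -/
def conjAut (P R : Subgroup G) (hnorm : ∀ x ∈ P, ∀ r ∈ R, x * r * x⁻¹ ∈ R) : P →* MulAut R where
  toFun s :=
    { toFun := fun g => ⟨s * g * (s : G)⁻¹, hnorm s s.2 g g.2⟩
      invFun := fun g => ⟨(s : G)⁻¹ * g * s, by
        have := hnorm (s : G)⁻¹ (P.inv_mem s.2) g g.2
        rwa [inv_inv] at this⟩
      left_inv := fun g => by apply Subtype.ext; simp [mul_assoc]
      right_inv := fun g => by apply Subtype.ext; simp [mul_assoc]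
      map_mul' := fun x y => by apply Subtype.ext; simp [mul_assoc] }
  map_one' := by
    ext g
    simp
  map_mul' := fun s t => by
    ext g
    simp [mul_assoc]

/-- The corresponding `MulDistribMulAction`. -/
@[reducible] def conjAction (P R : Subgroup G) (hnorm : ∀ x ∈ P, ∀ r ∈ R, x * r * x⁻¹ ∈ R) :
    MulDistribMulAction P R :=
  MulDistribMulAction.compHom R (conjAut P R hnorm)

theorem conjAction_coe (P R : Subgroup G) (hnorm : ∀ x ∈ P, ∀ r ∈ R, x * r * x⁻¹ ∈ R) (x : P)
    (r : R) : ((letI := conjAction P R hnorm; x • r : R) : G) = x * r * (x : G)⁻¹ := rfl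


/-- **Main theorem.** -/
theorem sylow_normal [Finite G] (p : ℕ) [hp : Fact p.Prime] (hsolv : IsPSolvable p G)
    (P : Sylow p G)
    (hTI : ∀ g : G, g ∉ Subgroup.normalizer ((P : Subgroup G) : Set G) →
      (P : Subgroup G) ⊓ (MulAut.conj g • (P : Subgroup G)) = ⊥)
    (χ : G → ℂ) (hχ : IsCharacter G χ) (hfaith : ∀ g : G, χ g = χ 1 → g = 1)
    (hdeg : charDegree χ ^ 2 ≤ Nat.card (P : Subgroup G)) : (P : Subgroup G).Normal := by
  by_contra hnn
  have hN : Subgroup.normalizer ((P : Subgroup G) : Set G) ≠ ⊤ :=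
    fun h => hnn (Subgroup.normalizer_eq_top_iff.mp h)
  obtain ⟨g₀, hg₀⟩ : ∃ g₀ : G, g₀ ∉ Subgroup.normalizer ((P : Subgroup G) : Set G) := by
    by_contra hall
    push Not at hall
    exact hN (eq_top_iff.mpr fun g _ => hall g)
  -- `O_p(G) = 1`
  have hcore : pCore p G = ⊥ := by
    rw [eq_bot_iff, ← hTI g₀ hg₀]
    refine le_inf (Cfsg.Agent.Lib.Helper1_Cores.pCore_le_sylow p P) ?_
    intro x hx
    rw [Subgroup.mem_pointwise_smul_iff_inv_smul_mem]
    apply Cfsg.Agent.Lib.Helper1_Cores.pCore_le_sylow p P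
    have := (Cfsg.Agent.Lib.Helper1_Cores.pCore_normal (G := G) p).conj_mem x hx g₀⁻¹
    simpa [MulAut.smul_def] using this
  set Q : Subgroup G := pPrimeCore p G with hQ
  have hQn : Q.Normal := Cfsg.Agent.Lib.Helper1_Cores.pPrimeCore_normal p
  have hCQ : Subgroup.centralizer (Q : Set G) ≤ Q :=
    Cfsg.Agent.Lib.Helper47_HH.centralizer_pPrimeCore_le p hsolv hcore
  have hQcop : (Nat.card Q).Coprime p := Cfsg.Agent.Lib.Helper1_Cores.pPrimeCore_card_coprime p
  have hPQ : (P : Subgroup G) ⊓ Q = ⊥ := by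
    rw [← disjoint_iff]
    apply Subgroup.disjoint_of_coprime_natCard
    obtain ⟨k, hk⟩ := IsPGroup.iff_card.mp P.isPGroup'
    rw [hk]
    exact (Nat.Coprime.pow_right k hQcop).symm
  -- the family of `P`-invariant subgroups of `Q` not centralised by `P`
  let 𝒮 : Subgroup G → Prop := fun R => R ≤ Q ∧ (∀ x ∈ (P : Subgroup G), ∀ r ∈ R, x * r * x⁻¹ ∈ R) ∧
    ∃ x ∈ (P : Subgroup G), ∃ r ∈ R, x * r * x⁻¹ ≠ r
  have hQmem : 𝒮 Q := by
    refine ⟨le_rfl, fun x _ r hr => hQn.conj_mem r hr x, ?_⟩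
    by_contra hcon
    push Not at hcon
    have hPle : (P : Subgroup G) ≤ Q := by
      intro x hx
      apply hCQ
      rw [Subgroup.mem_centralizer_iff]
      intro r hr
      have h1 := hcon x hx r hr
      calc r * x = (x * r * x⁻¹) * x := by rw [h1]
        _ = x * r := by group
    have hPbot : (P : Subgroup G) = ⊥ := by
      rw [eq_bot_iff, ← hPQ]
      exact le_inf le_rfl hPle
    apply hnn
    rw [hPbot]
    infer_instance
  obtain ⟨R₁, hR₁⟩ := exists_minimal_of_wellFoundedLT 𝒮 ⟨Q, hQmem⟩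
  obtain ⟨⟨hR₁Q, hnorm, hnontriv⟩, hR₁min⟩ := hR₁
  let _ := conjAction (P : Subgroup G) R₁ hnorm
  have hmin : MinAct p (P : Subgroup G) R₁ :=
    { pgroup := P.isPGroup'
      coprime := by
        intro hdvd
        have h1 : p ∣ Nat.card Q := hdvd.trans (Subgroup.card_dvd_of_le hR₁Q)
        have h2 := Nat.dvd_gcd h1 (dvd_refl p)
        rw [hQcop] at h2
        exact hp.out.one_lt.ne' (Nat.dvd_one.mp h2)
      nontriv := by
        obtain ⟨x, hx, r, hr, hne⟩ := hnontriv
        exact ⟨⟨x, hx⟩, ⟨r, hr⟩, fun h => hne (congrArg Subtype.val h)⟩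
      minimal := by
        intro S hSinv hSne a s hs
        set S' : Subgroup G := S.map R₁.subtype with hS'
        have hS'le : S' ≤ R₁ := Subgroup.map_subtype_le S
        have hS'ne : ¬ R₁ ≤ S' := by
          intro hle
          apply hSne
          rw [eq_top_iff]
          intro r _
          obtain ⟨s, hs, hsr⟩ := hle r.2
          have : s = r := Subtype.ext hsr
          rwa [← this]
        have hS'inv : ∀ x ∈ (P : Subgroup G), ∀ r ∈ S', x * r * x⁻¹ ∈ S' := by
          rintro x hx _ ⟨s, hs, rfl⟩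
          exact ⟨(⟨x, hx⟩ : (P : Subgroup G)) • s, hSinv ⟨x, hx⟩ s hs, rfl⟩
        have hS'triv : ∀ x ∈ (P : Subgroup G), ∀ r ∈ S', x * r * x⁻¹ = r := by
          by_contra hcon
          push Not at hcon
          exact hS'ne (hR₁min ⟨hS'le.trans hR₁Q, hS'inv, hcon⟩ hS'le)
        apply Subtype.ext
        exact hS'triv a a.2 s ⟨s, hs, rfl⟩
      semireg := by
        intro a ha r har b
        have hx1 : (a : G) ≠ 1 := fun h => ha (Subtype.ext h)
        have hxr : (a : G) * r * (a : G)⁻¹ = r := congrArg Subtype.val har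
        have hrN : (r : G) ∈ Subgroup.normalizer ((P : Subgroup G) : Set G) := by
          by_contra hrN
          have h1 := hTI r hrN
          have h2 : (a : G) ∈ (P : Subgroup G) ⊓ (MulAut.conj (r : G) • (P : Subgroup G)) := by
            refine Subgroup.mem_inf.mpr ⟨a.2, ?_⟩
            rw [Subgroup.mem_pointwise_smul_iff_inv_smul_mem]
            have h3 : (MulAut.conj (r : G))⁻¹ • (a : G) = a := by
              simp only [MulAut.smul_def, MulAut.conj_inv_apply]
              calc (r : G)⁻¹ * a * r = (r : G)⁻¹ * ((a : G) * r * (a : G)⁻¹) * a := by group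
                _ = a := by rw [hxr]; group
            rw [h3]
            exact a.2
          rw [h1] at h2
          exact hx1 (Subgroup.mem_bot.mp h2)
        apply Subtype.ext
        show (b : G) * r * (b : G)⁻¹ = r
        have hc : (b : G) * r * (b : G)⁻¹ * (r : G)⁻¹ ∈ (P : Subgroup G) ⊓ Q := by
          refine Subgroup.mem_inf.mpr ⟨?_, ?_⟩
          · have h1 : (r : G) * (b : G)⁻¹ * (r : G)⁻¹ ∈ (P : Subgroup G) :=
              (Subgroup.mem_normalizer_iff.mp hrN _).mp (Subgroup.inv_mem _ b.2)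
            have h2 := Subgroup.mul_mem _ b.2 h1
            have h3 : (b : G) * ((r : G) * (b : G)⁻¹ * (r : G)⁻¹) =
                (b : G) * r * (b : G)⁻¹ * (r : G)⁻¹ := by group
            rwa [h3] at h2
          · have h1 : (b : G) * r * (b : G)⁻¹ ∈ Q := hQn.conj_mem _ (hR₁Q r.2) _
            exact Subgroup.mul_mem _ h1 (Subgroup.inv_mem _ (hR₁Q r.2))
        rw [hPQ, Subgroup.mem_bot] at hc
        exact mul_inv_eq_one.mp hc }
  have hb := degree_bound hmin (fun r : R₁ => χ r)
    (Cfsg.Agent.Lib.Helper75_CharArith.isCharacter_restrict R₁ hχ)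
    (fun g hg => Subtype.ext (hfaith g hg))
    (fun a r => by
      obtain ⟨n, ρ, rfl⟩ := hχ
      show ρ.character ((a : G) * r * (a : G)⁻¹) = ρ.character r
      exact Representation.char_conj ρ r a)
  have hdeg' : charDegree (fun r : R₁ => χ r) = charDegree χ := rfl
  rw [hdeg'] at hb
  exact absurd hb (not_lt.mpr hdeg)

end Cfsg.Agent.Lib.Helper3_TIPSolv
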