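import Mathlib
import Cfsg.Prelude.Def_Solvable
import Cfsg.Prelude.Def_CaseTheorems
import Cfsg.Agent.Lib.Helper84_TutteDefs
import Cfsg.Agent.Lib.Helper84_TutteAPI

/-!
# S4385 package S-CHAIN (architect helper84): `chainHyp_of`.
-/

set_option autoImplicit false

open scoped commutatorElement
open Cfsg.Agent.Lib.Helper84_TutteDefs

namespace Cfsg.Agent.Lib.Helper3_Tutte_S_CHAIN

variable {G : Type*} [Group G] {H : Subgroup G} {g x0 : G} {s lam : ℕ}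

/-- S-CHAIN (M), paper (0.5). -/
theorem chainHyp_of [Finite G] (H P Q0 : Subgroup G) (y ρ : G) (hint : H ⊓ cj y H = P) (hρ : ρ ∈ H)
    (hgen : P ⊔ cj ρ⁻¹ P = H) (hinf : P ⊓ cj ρ P = Q0) (hQ2 : Q0.relIndex P = 2) (hyN : cj y P = P)
    (hcore : ∀ N : Subgroup G, N ≤ P → (∀ h ∈ H, cj h N = N) → (∀ h ∈ cj y H, cj h N = N) → N = ⊥)
    (hnot2 : ¬ IsPGroup 2 H) : ChainHyp H (y * ρ) := by
  -- `cj (y*ρ) H = cj y H`
  have hgH : cj (y * ρ) H = cj y H := by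
    rw [← cj_cj, cj_eq_self_of_mem hρ]
  have hP : H ⊓ cj (y * ρ) H = P := by rw [hgH, hint]
  -- `cj y⁻¹ P = P`
  have hyN' : cj y⁻¹ P = P := by
    have := congrArg (cj y⁻¹) hyN
    rw [cj_cj, inv_mul_cancel, cj_one] at this
    exact this.symm
  refine ⟨inferInstance, ?_, ?_, ?_, hnot2⟩
  · -- index
    rw [hP]
    -- `P ⊓ cj (g^2) H = P ⊓ cj g P`
    have h1 : cj (y * ρ) P = cj (y * ρ) H ⊓ cj ((y * ρ) ^ 2) H := by
      rw [← hP, cj_inf, cj_cj, ← pow_two]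
    have h2 : P ⊓ cj ((y * ρ) ^ 2) H = P ⊓ cj (y * ρ) P := by
      rw [h1]
      conv_lhs => rw [← hP]
      conv_rhs => rw [← hP]
      simp only [inf_assoc, inf_left_idem]
    have h3 : P ⊓ cj (y * ρ) P = cj y Q0 := by
      rw [← hinf, cj_inf, hyN, ← cj_cj]
    have h4 : (cj ((y * ρ) ^ 2) H).relIndex P = (cj y Q0).relIndex P := by
      rw [← Subgroup.inf_relIndex_right, inf_comm, h2, h3]
    rw [h4]
    have h5 : (cj y Q0).relIndex (cj y P) = Q0.relIndex P :=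
      Subgroup.relIndex_map_map_of_injective Q0 P (MulAut.conj y).injective
    rw [hyN] at h5
    rw [h5, hQ2]
  · intro N hN h1 h2
    rw [hP] at hN
    rw [hgH] at h2
    exact hcore N hN h1 h2
  · rw [hP]
    have : cj (y * ρ)⁻¹ P = cj ρ⁻¹ P := by
      rw [mul_inv_rev, ← cj_cj, hyN']
    rw [this, hgen]

end Cfsg.Agent.Lib.Helper3_Tutte_S_CHAIN
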