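import Mathlib

set_option autoImplicit false

namespace Cfsg.Agent.Lib.Helper40_A8Pairs

/-- affine maps of `Fin 8` viewed as the three-dimensional space over the field of two
elements, addition being bitwise xor -/
def aff (v : Fin 8 → Fin 8) : Prop :=
  ∀ x y z : Fin 8, v (x ^^^ y ^^^ z) = v x ^^^ v y ^^^ v z

instance (v : Fin 8 → Fin 8) : Decidable (aff v) := by unfold aff; infer_instance

/-- the sign of a tuple -/
def sgn (v : Fin 8 → Fin 8) : ℤˣ := ∏ j, ∏ i ∈ Finset.Iio j, (if v i < v j then 1 else -1)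

set_option maxRecDepth 100000 in
theorem key : ∀ a0 : Fin 8, ∀ a1 : Fin 8, a0.val / 2 = a1.val / 2 → a0 ≠ a1 →
    ∀ a2 : Fin 8, a0.val / 2 ≠ a2.val / 2 → ∀ a3 : Fin 8, a2.val / 2 = a3.val / 2 → a2 ≠ a3 →
    ∀ a4 : Fin 8, a0.val / 2 ≠ a4.val / 2 → a2.val / 2 ≠ a4.val / 2 →
    ∀ a5 : Fin 8, a4.val / 2 = a5.val / 2 → a4 ≠ a5 →
    ∀ a6 : Fin 8, a0.val / 2 ≠ a6.val / 2 → a2.val / 2 ≠ a6.val / 2 → a4.val / 2 ≠ a6.val / 2 →
    ∀ a7 : Fin 8, a6.val / 2 = a7.val / 2 → a6 ≠ a7 →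
    sgn ![a0, a1, a2, a3, a4, a5, a6, a7] = 1 → aff ![a0, a1, a2, a3, a4, a5, a6, a7] := by
  decide +kernel

theorem vec_eq (σ : Fin 8 → Fin 8) : ![σ 0, σ 1, σ 2, σ 3, σ 4, σ 5, σ 6, σ 7] = σ := by
  funext i
  fin_cases i <;> rfl

theorem key_perm (σ : Equiv.Perm (Fin 8))
    (hσ : ∀ x y : Fin 8, x.val / 2 = y.val / 2 ↔ (σ x).val / 2 = (σ y).val / 2)
    (hs : Equiv.Perm.sign σ = 1) : aff σ := by
  have hne : ∀ x y : Fin 8, x ≠ y → σ x ≠ σ y := fun x y h => σ.injective.ne h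
  have hpos : ∀ x y : Fin 8, x.val / 2 = y.val / 2 → (σ x).val / 2 = (σ y).val / 2 :=
    fun x y h => (hσ x y).1 h
  have hneg : ∀ x y : Fin 8, x.val / 2 ≠ y.val / 2 → (σ x).val / 2 ≠ (σ y).val / 2 :=
    fun x y h h' => h ((hσ x y).2 h')
  have h := key (σ 0) (σ 1) (hpos 0 1 (by decide)) (hne 0 1 (by decide))
    (σ 2) (hneg 0 2 (by decide)) (σ 3) (hpos 2 3 (by decide)) (hne 2 3 (by decide))
    (σ 4) (hneg 0 4 (by decide)) (hneg 2 4 (by decide))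
    (σ 5) (hpos 4 5 (by decide)) (hne 4 5 (by decide))
    (σ 6) (hneg 0 6 (by decide)) (hneg 2 6 (by decide)) (hneg 4 6 (by decide))
    (σ 7) (hpos 6 7 (by decide)) (hne 6 7 (by decide))
  rw [vec_eq] at h
  apply h
  rw [← hs, Equiv.Perm.sign_eq_prod_prod_Iio]
  rfl

theorem exists_equiv {Ω : Type*} [Fintype Ω] (f : Ω → Fin 4)
    (hf : ∀ i : Fin 4, Nat.card {x : Ω // f x = i} = 2) :
    ∃ e : Ω ≃ Fin 8, ∀ x, (e x).val / 2 = (f x).val := by
  classical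
  let ei : ∀ i : Fin 4, {x : Ω // f x = i} ≃ Fin 2 := fun i => Finite.equivFinOfCardEq (hf i)
  let e : Ω ≃ Fin 8 := (Equiv.sigmaFiberEquiv f).symm.trans
    ((Equiv.sigmaCongrRight ei).trans
      ((Equiv.sigmaEquivProd (Fin 4) (Fin 2)).trans (finProdFinEquiv (m := 4) (n := 2))))
  refine ⟨e, fun x => ?_⟩
  have h1 : e x = finProdFinEquiv (f x, ei (f x) ⟨x, rfl⟩) := rfl
  rw [h1, finProdFinEquiv_apply_val]
  have h2 := (ei (f x) ⟨x, rfl⟩).2
  show ((ei (f x) ⟨x, rfl⟩).val + 2 * (f x).val) / 2 = (f x).val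
  omega

/-- the even permutation `(1 4)(3 6)`, which is affine but does not preserve the pairs -/
def kap : Equiv.Perm (Fin 8) := Equiv.swap 1 4 * Equiv.swap 3 6

/-- the 3-cycle `(0 2 4)`, which is not affine -/
def tau : Equiv.Perm (Fin 8) := Equiv.swap 0 2 * Equiv.swap 2 4

theorem kap_aff : aff kap := by decide
theorem kap_sign : Equiv.Perm.sign kap = 1 := by decide
theorem tau_not_aff : ¬ aff tau := by decide
theorem tau_sign : Equiv.Perm.sign tau = 1 := by decide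
theorem kap_not_pairs : ¬ ((0 : Fin 8).val / 2 = (1 : Fin 8).val / 2 ↔
    (kap 0).val / 2 = (kap 1).val / 2) := by decide

end Cfsg.Agent.Lib.Helper40_A8Pairs
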