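import Mathlib
import Cfsg.Agent.Lib.Helper40_BCData
import Cfsg.Agent.Lib.Helper14_POmegaSimple
import Cfsg.Agent.S0246

set_option autoImplicit false

/-!
# Transport of abstract isometries to the matrix groups (helper40)
-/

namespace Cfsg.Agent.Lib.Helper40_BCTransport

open Module Matrix Cfsg.Agent.Lib.Helper40_SpBasic Cfsg.Agent.Lib.Helper40_SpMatrix
  Cfsg.Agent.Lib.Helper40_SpExistMatrix Cfsg.Agent.Lib.Helper40_OTransport
  Cfsg.Agent.Lib.Helper40_OClasses Cfsg.Agent.Lib.Helper44_StdForms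
  Cfsg.Agent.Lib.Helper44_WittMat Cfsg.Agent.Lib.Helper40_BCData
  Cfsg.Agent.Lib.Helper40_OOdd

universe v

variable {F : Type v} [Field F]

section sp

variable {m : ℕ}

/-- the linear map of a symplectic matrix -/
noncomputable def spLin (m : ℕ) :
    ↥(symplecticGroup (Fin m) F) →* Module.End F (Fin m ⊕ Fin m → F) :=
  ((Matrix.toLinAlgEquiv' : Matrix (Fin m ⊕ Fin m) (Fin m ⊕ Fin m) F ≃ₐ[F] _).toRingEquiv.toMulEquiv.toMonoidHom).comp
    (symplecticGroup (Fin m) F).subtype

theorem spLin_apply (g : ↥(symplecticGroup (Fin m) F)) (x : Fin m ⊕ Fin m → F) :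
    spLin m g x = (g : Matrix (Fin m ⊕ Fin m) (Fin m ⊕ Fin m) F) *ᵥ x := rfl

theorem spLin_injective : Function.Injective (spLin (F := F) m) := by
  intro g h hgh
  apply Subtype.ext
  apply Matrix.toLin'.injective
  exact hgh

theorem spLin_iso (g : ↥(symplecticGroup (Fin m) F)) (x y : Fin m ⊕ Fin m → F) :
    Jform m F (spLin m g x) (spLin m g y) = Jform m F x y := by
  show Jform m F (Matrix.toLin' g.1 x) (Matrix.toLin' g.1 y) = _
  rw [Jform_comp, SymplecticGroup.mem_iff'.1 g.2]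
  rfl

/-- a symplectic matrix gives abstract data -/
theorem SpHas.of_elt (g : ↥(symplecticGroup (Fin m) F)) : SpHas F (orderOf g) m := by
  refine ⟨(Fin m ⊕ Fin m → F), inferInstance, inferInstance, inferInstance, Jform m F, spLin m g,
    ?_, Jform_nondeg, Jform_alt, spLin_iso g, orderOf_injective (spLin m) spLin_injective g⟩
  rw [Module.finrank_pi, Fintype.card_sum, Fintype.card_fin, two_mul]

/-- transport of an isometry of an abstract symplectic space to a symplectic matrix -/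
theorem exists_sp_transport [Finite F] {V : Type v} [AddCommGroup V] [Module F V]
    [Module.Finite F V] (B : LinearMap.BilinForm F V) (a : Module.End F V)
    (hfr : finrank F V = 2 * m) (hB : B.Nondegenerate) (halt : ∀ x, B x x = 0)
    (hiso : ∀ x y, B (a x) (a y) = B x y) :
    ∃ (g : ↥(symplecticGroup (Fin m) F)) (e : V ≃ₗ[F] (Fin m ⊕ Fin m → F)),
      ∀ x, (g : Matrix (Fin m ⊕ Fin m) (Fin m ⊕ Fin m) F) *ᵥ (e x) = e (a x) := by
  have hfinW : finrank F (Fin m ⊕ Fin m → F) = 2 * m := by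
    rw [Module.finrank_pi, Fintype.card_sum, Fintype.card_fin, two_mul]
  have hss : ∀ (W : Type v) [AddCommGroup W] [Module F W],
      (1 : Module.End F W).IsSemisimple := fun W _ _ => Module.End.isSemisimple_id
  obtain ⟨e, _, he⟩ := Helper40_SpConj.exists_isometry_conj (F := F) (2 * m) B (Jform m F)
    (1 : Module.End F V) (1 : Module.End F (Fin m ⊕ Fin m → F)) 1 hfr
    (isoData_one B halt) (isoData_one _ Jform_alt) hB Jform_nondeg (hss V) (hss _)
    (by rw [LinearMap.charpoly_one, LinearMap.charpoly_one, hfr, hfinW])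
  set b : Module.End F (Fin m ⊕ Fin m → F) := e.conjAlgEquiv F a with hb
  have hbapp : ∀ x, b x = e (a (e.symm x)) := fun x => rfl
  set A : Matrix (Fin m ⊕ Fin m) (Fin m ⊕ Fin m) F := LinearMap.toMatrix' b with hA
  have hAb : Matrix.toLin' A = b := Matrix.toLin'_toMatrix' b
  have hmem : A ∈ symplecticGroup (Fin m) F := by
    rw [SymplecticGroup.mem_iff']
    apply Matrix.toBilin'.injective
    apply LinearMap.ext
    intro x
    apply LinearMap.ext
    intro y
    rw [← Jform_comp, hAb, hbapp, hbapp, he, hiso, ← he, LinearEquiv.apply_symm_apply,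
      LinearEquiv.apply_symm_apply]
    rfl
  refine ⟨⟨A, hmem⟩, e, ?_⟩
  intro x
  show A *ᵥ (e x) = e (a x)
  rw [← Matrix.toLin'_apply, hAb, hbapp, LinearEquiv.symm_apply_apply]

theorem transport_pow {V : Type v} [AddCommGroup V] [Module F V] (a : Module.End F V)
    (g : ↥(symplecticGroup (Fin m) F)) (e : V ≃ₗ[F] (Fin m ⊕ Fin m → F))
    (h : ∀ x, (g : Matrix (Fin m ⊕ Fin m) (Fin m ⊕ Fin m) F) *ᵥ (e x) = e (a x)) (k : ℕ) (x : V) :
    ((g ^ k : ↥(symplecticGroup (Fin m) F)) : Matrix (Fin m ⊕ Fin m) (Fin m ⊕ Fin m) F) *ᵥ (e x) =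
      e ((a ^ k) x) := by
  induction k generalizing x with
  | zero => simp
  | succ k ih =>
    rw [pow_succ, pow_succ, Module.End.mul_apply]
    show ((g ^ k : ↥(symplecticGroup (Fin m) F)).1 * g.1) *ᵥ (e x) = _
    rw [← Matrix.mulVec_mulVec, h, ih]

theorem transport_pow_eq_one_iff {V : Type v} [AddCommGroup V] [Module F V] (a : Module.End F V)
    (g : ↥(symplecticGroup (Fin m) F)) (e : V ≃ₗ[F] (Fin m ⊕ Fin m → F))
    (h : ∀ x, (g : Matrix (Fin m ⊕ Fin m) (Fin m ⊕ Fin m) F) *ᵥ (e x) = e (a x)) (k : ℕ) :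
    g ^ k = 1 ↔ a ^ k = 1 := by
  constructor
  · intro hg
    apply LinearMap.ext
    intro x
    have := transport_pow a g e h k x
    rw [hg] at this
    have h1 : ((1 : ↥(symplecticGroup (Fin m) F)) : Matrix (Fin m ⊕ Fin m) (Fin m ⊕ Fin m) F) = 1 :=
      rfl
    rw [h1, Matrix.one_mulVec] at this
    rw [Module.End.one_apply]
    exact (e.injective this).symm
  · intro ha
    apply Subtype.ext
    apply Matrix.toLin'.injective
    apply LinearMap.ext
    intro y
    obtain ⟨x, rfl⟩ := e.surjective y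
    rw [Matrix.toLin'_apply, transport_pow a g e h k x, ha, Module.End.one_apply]
    show _ = Matrix.toLin' (1 : Matrix (Fin m ⊕ Fin m) (Fin m ⊕ Fin m) F) (e x)
    rw [Matrix.toLin'_one]
    rfl

/-- abstract data give a symplectic matrix of the same order -/
theorem SpHas.exists_elt [Finite F] {N : ℕ} (h : SpHas F N m) :
    ∃ g : ↥(symplecticGroup (Fin m) F), orderOf g = N := by
  obtain ⟨V, _, _, _, B, a, hfr, hB, halt, hiso, ho⟩ := h
  obtain ⟨g, e, hge⟩ := exists_sp_transport B a hfr hB halt hiso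
  refine ⟨g, ?_⟩
  rw [← ho]
  exact orderOf_eq_orderOf_iff.2 (fun k => transport_pow_eq_one_iff a g e hge k)

/-- an isometry with a nonzero fixed vector has the same order modulo the centre -/
theorem SpHasFix.exists_psp [Finite F] (h2 : (2 : F) ≠ 0) (hm : 1 ≤ m) {N : ℕ}
    (h : SpHasFix F N m) : ∃ g : Cfsg.PSp m F, orderOf g = N := by
  obtain ⟨V, _, _, _, B, a, hfr, hB, halt, hiso, ho, v, hv0, hav⟩ := h
  obtain ⟨g, e, hge⟩ := exists_sp_transport B a hfr hB halt hiso
  refine ⟨QuotientGroup.mk g, ?_⟩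
  rw [← ho]
  apply orderOf_eq_orderOf_iff.2
  intro k
  rw [← transport_pow_eq_one_iff a g e hge k, ← QuotientGroup.mk_pow, QuotientGroup.eq_one_iff]
  constructor
  · intro hc
    rcases Cfsg.Agent.S0246.center_eq_one_or_neg_one m hm (g ^ k) hc with h1 | h1
    · apply Subtype.ext
      rw [h1]
      rfl
    · exfalso
      have hfix : ∀ j : ℕ, (a ^ j) v = v := by
        intro j
        induction j with
        | zero => simp
        | succ j ih => rw [pow_succ, Module.End.mul_apply, hav, ih]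
      have h3 := transport_pow a g e hge k v
      rw [h1, hfix, Matrix.neg_mulVec, Matrix.one_mulVec] at h3
      have h4 : (2 : F) • e v = 0 := by
        rw [two_smul]
        nth_rewrite 1 [← h3]
        exact neg_add_cancel _
      rcases smul_eq_zero.1 h4 with h5 | h5
      · exact h2 h5
      · exact hv0 (e.map_eq_zero_iff.1 h5)
  · intro hk
    rw [hk]
    exact Subgroup.one_mem _

end sp

section orth

variable {m : ℕ}

/-- the linear map of an isometry matrix -/
noncomputable def oLin (m : ℕ) :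
    ↥(Cfsg.isometryGroup F ⇑(qfOdd m F)) →* Module.End F (Unit ⊕ (Fin m ⊕ Fin m) → F) :=
  ((Matrix.toLinAlgEquiv' : Matrix (Unit ⊕ (Fin m ⊕ Fin m)) (Unit ⊕ (Fin m ⊕ Fin m)) F ≃ₐ[F] _).toRingEquiv.toMulEquiv.toMonoidHom).comp
    ((Units.coeHom _).comp (Cfsg.isometryGroup F ⇑(qfOdd m F)).subtype)

theorem oLin_apply (g : ↥(Cfsg.isometryGroup F ⇑(qfOdd m F))) (x : Unit ⊕ (Fin m ⊕ Fin m) → F) :
    oLin m g x = mat (qfOdd m F) g *ᵥ x := rfl

theorem oLin_injective : Function.Injective (oLin (F := F) m) := by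
  intro g h hgh
  apply mat_injective
  apply Matrix.toLin'.injective
  exact hgh

theorem oLin_iso (g : ↥(Cfsg.isometryGroup F ⇑(qfOdd m F))) (x : Unit ⊕ (Fin m ⊕ Fin m) → F) :
    qfOdd m F (oLin m g x) = qfOdd m F x := by
  rw [oLin_apply]
  exact (Cfsg.Agent.Lib.Helper44_Orth.mem_isometryGroup_iff (⇑(qfOdd m F))
    (g : Matrix.GeneralLinearGroup _ F)).1 g.2 x

/-- an isometry matrix gives abstract data -/
theorem OHas.of_elt (h2 : (2 : F) ≠ 0) (g : ↥(Cfsg.isometryGroup F ⇑(qfOdd m F))) :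
    OHas F (orderOf g) (2 * m + 1) := by
  refine ⟨(Unit ⊕ (Fin m ⊕ Fin m) → F), inferInstance, inferInstance, inferInstance, qfOdd m F,
    oLin m g, ?_, Cfsg.Agent.Lib.Helper14_POmegaSimple.nondegenerate_qfOdd h2 m, oLin_iso g,
    orderOf_injective (oLin m) oLin_injective g⟩
  rw [Module.finrank_pi, Fintype.card_sum, Fintype.card_sum, Fintype.card_fin, Fintype.card_unit]
  ring

/-- transport of an isometry of an abstract quadratic space of odd dimension -/
theorem exists_o_transport [Finite F] {V : Type v} [AddCommGroup V] [Module F V]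
    [Module.Finite F V] (Q : QuadraticForm F V) (a : Module.End F V)
    (hfr : finrank F V = 2 * m + 1) (hQ : (QuadraticMap.polarBilin Q).Nondegenerate)
    (hiso : ∀ x, Q (a x) = Q x) (N : ℕ) (hN : 0 < N) (hpow : a ^ N = 1) :
    ∃ (g : ↥(Cfsg.isometryGroup F ⇑(qfOdd m F))) (φ : V ≃ₗ[F] (Unit ⊕ (Fin m ⊕ Fin m) → F)),
      ∀ x, mat (qfOdd m F) g *ᵥ (φ x) = φ (a x) := by
  obtain ⟨φ, μ, hμ, hφ⟩ := exists_simil_qfOdd m hfr Q hQ
  set a' : Module.End F (Unit ⊕ (Fin m ⊕ Fin m) → F) := φ.conj a with ha'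
  have ha'app : ∀ v, a' v = φ (a (φ.symm v)) := fun v => rfl
  have hpow' : a' ^ N = 1 := by
    have h0 : a' = φ.conjRingEquiv a := rfl
    rw [h0, ← map_pow, hpow, map_one]
  have h1 : a' * a' ^ (N - 1) = 1 := by rw [← pow_succ', Nat.sub_add_cancel hN, hpow']
  have h2 : a' ^ (N - 1) * a' = 1 := by rw [← pow_succ, Nat.sub_add_cancel hN, hpow']
  let e : (Unit ⊕ (Fin m ⊕ Fin m) → F) ≃ₗ[F] (Unit ⊕ (Fin m ⊕ Fin m) → F) :=
    LinearEquiv.ofLinearMap a' (a' ^ (N - 1)) h1 h2
  have he : ∀ v, qfOdd m F (e v) = qfOdd m F v := by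
    intro v
    show qfOdd m F (a' v) = qfOdd m F v
    rw [ha'app]
    have h3 := hφ (a (φ.symm v))
    rw [hiso, hφ, φ.apply_symm_apply] at h3
    exact (mul_left_cancel₀ hμ h3).symm
  refine ⟨isomOfEquiv (qfOdd m F) e he, φ, ?_⟩
  intro x
  rw [isomOfEquiv_mulVec]
  show a' (φ x) = _
  rw [ha'app, φ.symm_apply_apply]

theorem o_transport_pow {V : Type v} [AddCommGroup V] [Module F V] (a : Module.End F V)
    (g : ↥(Cfsg.isometryGroup F ⇑(qfOdd m F))) (φ : V ≃ₗ[F] (Unit ⊕ (Fin m ⊕ Fin m) → F))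
    (h : ∀ x, mat (qfOdd m F) g *ᵥ (φ x) = φ (a x)) (k : ℕ) (x : V) :
    mat (qfOdd m F) (g ^ k) *ᵥ (φ x) = φ ((a ^ k) x) := by
  induction k generalizing x with
  | zero => simp [mat_one]
  | succ k ih =>
    rw [mat_pow, pow_succ, ← Matrix.mulVec_mulVec, h, ← mat_pow, ih, pow_succ, Module.End.mul_apply]

theorem o_transport_pow_eq_one_iff {V : Type v} [AddCommGroup V] [Module F V]
    (a : Module.End F V) (g : ↥(Cfsg.isometryGroup F ⇑(qfOdd m F)))
    (φ : V ≃ₗ[F] (Unit ⊕ (Fin m ⊕ Fin m) → F))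
    (h : ∀ x, mat (qfOdd m F) g *ᵥ (φ x) = φ (a x)) (k : ℕ) :
    g ^ k = 1 ↔ a ^ k = 1 := by
  constructor
  · intro hg
    apply LinearMap.ext
    intro x
    have := o_transport_pow a g φ h k x
    rw [hg, mat_one, Matrix.one_mulVec] at this
    rw [Module.End.one_apply]
    exact (φ.injective this).symm
  · intro ha
    apply mat_injective
    apply Matrix.toLin'.injective
    apply LinearMap.ext
    intro y
    obtain ⟨x, rfl⟩ := φ.surjective y
    rw [Matrix.toLin'_apply, o_transport_pow a g φ h k x, ha, Module.End.one_apply, mat_one,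
      Matrix.toLin'_one]
    rfl

/-- abstract data in dimension `2 m + 1` give an isometry matrix of the same order -/
theorem OHas.exists_elt [Finite F] {N : ℕ} (hN : 0 < N) (h : OHas F N (2 * m + 1)) :
    ∃ g : ↥(Cfsg.isometryGroup F ⇑(qfOdd m F)), orderOf g = N := by
  obtain ⟨V, _, _, _, Q, a, hfr, hQ, hiso, ho⟩ := h
  have hpow : a ^ N = 1 := by rw [← ho]; exact pow_orderOf_eq_one a
  obtain ⟨g, φ, hg⟩ := exists_o_transport Q a hfr hQ hiso N hN hpow
  refine ⟨g, ?_⟩
  rw [← ho]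
  exact orderOf_eq_orderOf_iff.2 (fun k => o_transport_pow_eq_one_iff a g φ hg k)

end orth

end Cfsg.Agent.Lib.Helper40_BCTransport
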