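import Mathlib
import Cfsg.Agent.Lib.Helper40_FrobConj
import Cfsg.Agent.Lib.Helper40_SpPrimeOrder

set_option autoImplicit false

/-!
Characteristic polynomials of symplectic matrices of order `r s` (two odd primes different from
the characteristic): degree bounds.
-/

namespace Cfsg.Agent.Lib.Helper40_SpAdjRS

open Polynomial Module Cfsg.Agent.Lib.Helper40_Palindromic Cfsg.Agent.Lib.Helper40_SpExist
  Cfsg.Agent.Lib.Helper40_FrobConj Cfsg.Agent.Lib.Helper40_SpPrimeOrder
  Cfsg.Agent.Lib.Helper40_PrimeOrderClasses Cfsg.Agent.Lib.Helper40_PolyFactors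

section arith

/-- arithmetic for a non-self-reciprocal primitive factor -/
theorem arith_one {k l D n ηk ηl : ℕ} (hηk : (Odd k ∧ ηk = k) ∨ (Even k ∧ 2 * ηk = k))
    (hηl : (Odd l ∧ ηl = l) ∨ (Even l ∧ 2 * ηl = l)) (hkl : ηk ≤ ηl) (hn : n < ηk + ηl)
    (hno : ¬ ∃ t : ℕ, Odd t ∧ l = k * t) (hkD : k ∣ D) (hlD : l ∣ D) (hD : 0 < D)
    (hDn : D ≤ n) : False := by
  obtain ⟨c, hc⟩ := hlD
  have hc0 : c ≠ 0 := by
    rintro rfl
    rw [mul_zero] at hc
    omega
  have hlc : l ≤ l * c := Nat.le_mul_of_pos_right l (Nat.pos_of_ne_zero hc0)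
  have hc1 : l * c < 2 * l → c = 1 := by
    intro h
    by_contra hne
    have : 2 ≤ c := by omega
    have : l * 2 ≤ l * c := Nat.mul_le_mul_left l this
    omega
  rcases hηk with ⟨hko, rfl⟩ | ⟨hke, hk2⟩
  · rcases hηl with ⟨hlo, rfl⟩ | ⟨hle, hl2⟩
    · have := hc1 (by omega)
      rw [this, mul_one] at hc
      rw [hc] at hkD
      obtain ⟨t, ht⟩ := hkD
      apply hno
      refine ⟨t, ?_, ht⟩
      rw [ht] at hlo
      exact (Nat.odd_mul.1 hlo).2
    · omega
  · rcases hηl with ⟨hlo, rfl⟩ | ⟨hle, hl2⟩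
    · have := hc1 (by omega)
      rw [this, mul_one] at hc
      rw [hc] at hkD
      have h2 : 2 ∣ ηl := (even_iff_two_dvd.1 hke).trans hkD
      exact (Nat.not_even_iff_odd.2 hlo) (even_iff_two_dvd.2 h2)
    · omega

/-- arithmetic for a self-reciprocal primitive factor -/
theorem arith_two {k l D n ηk ηl j : ℕ} (hηk : (Odd k ∧ ηk = k) ∨ (Even k ∧ 2 * ηk = k))
    (hηl : (Odd l ∧ ηl = l) ∨ (Even l ∧ 2 * ηl = l)) (hkl : ηk ≤ ηl) (hn : n < ηk + ηl)
    (hno : ¬ ∃ t : ℕ, Odd t ∧ l = k * t) (hkD : k ∣ D) (hlD : l ∣ D) (hD : 0 < D)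
    (hDn : D ≤ 2 * n) (hk1 : k ∣ 2 * j) (hk2 : ¬ k ∣ j) (hl1 : l ∣ 2 * j) (hl2 : ¬ l ∣ j) :
    False := by
  have hke : Even k := by
    by_contra h
    have ho : Odd k := Nat.not_even_iff_odd.1 h
    exact hk2 ((Nat.Coprime.dvd_mul_left (Nat.coprime_two_right.2 ho)).1 hk1)
  have hle : Even l := by
    by_contra h
    have ho : Odd l := Nat.not_even_iff_odd.1 h
    exact hl2 ((Nat.Coprime.dvd_mul_left (Nat.coprime_two_right.2 ho)).1 hl1)
  have hk' : 2 * ηk = k := by
    rcases hηk with ⟨ho, _⟩ | ⟨_, h⟩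
    · exact absurd hke (Nat.not_even_iff_odd.2 ho)
    · exact h
  have hl' : 2 * ηl = l := by
    rcases hηl with ⟨ho, _⟩ | ⟨_, h⟩
    · exact absurd hle (Nat.not_even_iff_odd.2 ho)
    · exact h
  obtain ⟨c, hc⟩ := hlD
  have hc0 : c ≠ 0 := by
    rintro rfl
    rw [mul_zero] at hc
    omega
  have hc1 : c = 1 := by
    by_contra hne
    have : 2 ≤ c := by omega
    have : l * 2 ≤ l * c := Nat.mul_le_mul_left l this
    omega
  rw [hc1, mul_one] at hc
  rw [hc] at hkD
  obtain ⟨t, ht⟩ := hkD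
  apply hno
  refine ⟨t, ?_, ht⟩
  by_contra hte
  obtain ⟨t', ht'⟩ := Nat.not_odd_iff_even.1 hte
  apply hk2
  have h1 : 2 * (k * t') ∣ 2 * j := by
    have : l = 2 * (k * t') := by rw [ht, ht']; ring
    rw [← this]
    exact hl1
  have h2 : k * t' ∣ j := (Nat.mul_dvd_mul_iff_left (by norm_num)).1 h1
  exact (dvd_mul_right k t').trans h2

end arith

variable {F : Type*} [Field F]

/-- a squarefree polynomial divides `g` as soon as its monic irreducible factors do -/
theorem dvd_of_squarefree {m g : F[X]} (hm : Squarefree m)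
    (h : ∀ f : F[X], f.Monic → Irreducible f → f ∣ m → f ∣ g) : m ∣ g := by
  classical
  have hm0 : m ≠ 0 := hm.ne_zero
  have he1 : EuclideanDomain.gcd m g ∣ m := EuclideanDomain.gcd_dvd_left m g
  have he2 : EuclideanDomain.gcd m g ∣ g := EuclideanDomain.gcd_dvd_right m g
  have he3 : ∀ f : F[X], f ∣ m → f ∣ g → f ∣ EuclideanDomain.gcd m g :=
    fun f h1 h2 => EuclideanDomain.dvd_gcd h1 h2
  generalize EuclideanDomain.gcd m g = e at he1 he2 he3
  obtain ⟨m', hm'⟩ := he1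
  have hunit : IsUnit m' := by
    by_contra hnu
    obtain ⟨f, hfm, hfi, hfd⟩ := Polynomial.exists_monic_irreducible_factor m' hnu
    have hfm' : f ∣ m := hfd.trans ⟨e, by rw [mul_comm]; exact hm'⟩
    have hfg : f ∣ g := h f hfm hfi hfm'
    have hfe : f ∣ e := he3 f hfm' hfg
    have hsq : f * f ∣ m := by
      rw [hm']
      exact mul_dvd_mul hfe hfd
    exact hfi.not_isUnit (hm f hsq)
  have h1 : m ∣ e := by
    obtain ⟨u, hu⟩ := hunit
    refine ⟨↑u⁻¹, ?_⟩
    rw [hm', ← hu, mul_assoc, Units.mul_inv, mul_one]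
  exact h1.trans he2

/-- a matrix of finite order prime to the characteristic whose power is not trivial has an
irreducible factor of the characteristic polynomial witnessing it -/
theorem exists_factor_not_dvd {ι : Type*} [Fintype ι] [DecidableEq ι] (M : Matrix ι ι F)
    (N : ℕ) (hN : (N : F) ≠ 0) (hMN : M ^ N = 1) (d : ℕ) (hd : M ^ d ≠ 1) :
    ∃ f : F[X], f.Monic ∧ Irreducible f ∧ f ∣ M.charpoly ∧ ¬ f ∣ X ^ d - 1 := by
  by_contra hcon
  push Not at hcon
  apply hd
  have hm2 : minpoly F M ∣ X ^ N - 1 := by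
    apply minpoly.dvd
    rw [map_sub, map_pow, aeval_X, map_one, hMN, sub_self]
  have hsqf : Squarefree (minpoly F M) :=
    Squarefree.squarefree_of_dvd hm2 ((X_pow_sub_one_separable_iff.2 hN).squarefree)
  have h1 : minpoly F M ∣ X ^ d - 1 :=
    dvd_of_squarefree hsqf
      (fun f hfm hfi hfd => hcon f hfm hfi (hfd.trans (Matrix.minpoly_dvd_charpoly M)))
  obtain ⟨c, hc⟩ := h1
  have h2 : aeval M ((X : F[X]) ^ d - 1) = 0 := by
    rw [hc, map_mul, minpoly.aeval, zero_mul]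
  rw [map_sub, map_pow, aeval_X, map_one, sub_eq_zero] at h2
  exact h2

/-- a common factor of `X ^ r - 1` and `X ^ s - 1` for coprime `r`, `s` divides `X - 1` -/
theorem dvd_X_sub_one_of_coprime {r s : ℕ} (hrs : r.Coprime s) (h : F[X])
    (h1 : h ∣ X ^ r - 1) (h2 : h ∣ X ^ s - 1) : h ∣ X - 1 := by
  have := (pow_eq_one_iff_of_coprime (a := AdjoinRoot.root h) hrs).1
    ⟨(root_pow_eq_one_iff h r).2 h1, (root_pow_eq_one_iff h s).2 h2⟩
  have h3 := (root_pow_eq_one_iff h 1).1 (by rw [pow_one, this])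
  rwa [pow_one] at h3

/-- in a self-reciprocal polynomial a non-self-reciprocal irreducible factor comes with its
reciprocal -/
theorem mul_recip_dvd {χ f : F[X]} (hχ : recip χ = χ) (hfm : f.Monic) (hfi : Irreducible f)
    (h0 : f.coeff 0 ≠ 0) (hfχ : f ∣ χ) (hne : recip f ≠ f) : f * recip f ∣ χ := by
  apply IsCoprime.mul_dvd
    (isCoprime_of_monic_irreducible_ne hfi hfm (irreducible_recip f hfi h0) (recip_monic f h0)
      (Ne.symm hne)) hfχ
  have := recip_dvd hfχ
  rwa [hχ] at this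

variable [Fintype F]

/-- the degree of an irreducible factor `≠ X - 1` of `X ^ r - 1` -/
theorem natDegree_of_dvd_prime (p : ℕ) [Fact p.Prime] [CharP F p] {r : ℕ} (hr : r.Prime)
    (hrp : r ≠ p) (f : F[X]) (hfm : f.Monic) (hfi : Irreducible f) (hfd : f ∣ X ^ r - 1)
    (hf1 : f ≠ X - 1) : f.natDegree = orderOf ((Fintype.card F : ℕ) : ZMod r) := by
  obtain ⟨_, W, _, hW, hall⟩ := exists_cyclotomic_factors (F := F) p r hr hrp
  rcases hall f hfm hfi hfd with h | h
  · exact absurd h hf1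
  · exact (hW f h).2.2.2.2

/-- the part of a self-reciprocal polynomial attached to a prime `r`: a factor of degree `2 η` -/
theorem exists_prime_part (p : ℕ) [Fact p.Prime] [CharP F p] {r : ℕ} (hr : r.Prime)
    (hr2 : r ≠ 2) (hrp : r ≠ p) (k η : ℕ) (hk : k = orderOf ((Fintype.card F : ℕ) : ZMod r))
    (hη : (Odd k ∧ η = k) ∨ (Even k ∧ 2 * η = k)) {χ f : F[X]} (hχ : recip χ = χ)
    (hfm : f.Monic) (hfi : Irreducible f) (hfd : f ∣ X ^ r - 1) (hf1 : f ≠ X - 1)
    (hfχ : f ∣ χ) :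
    ∃ Ff : F[X], Ff ∣ χ ∧ Ff.natDegree = 2 * η ∧
      ∀ h : F[X], h.Monic → Irreducible h → h ∣ Ff → h ∣ X ^ r - 1 ∧ h ≠ X - 1 := by
  have hf0 : f.coeff 0 ≠ 0 := coeff_zero_ne_zero_of_dvd r hr.pos f hfd
  have hdeg : f.natDegree = k := by
    rw [hk]
    exact natDegree_of_dvd_prime p hr hrp f hfm hfi hfd hf1
  have hrd : recip f ∣ X ^ r - 1 := by
    have := recip_dvd hfd
    rwa [recip_X_pow_sub_one r hr.pos] at this
  have hr1 : recip f ≠ X - 1 := by
    intro h
    apply hf1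
    have := congrArg recip h
    rwa [recip_recip f hfm hf0, recip_X_sub_one] at this
  rcases hη with ⟨hodd, rfl⟩ | ⟨hev, h2⟩
  · have hne : recip f ≠ f :=
      recip_ne_of_odd r (hr.odd_of_ne_two hr2) f hfm hfi hf0 hf1 hfd (by rw [hdeg]; exact hodd)
    refine ⟨f * recip f, mul_recip_dvd hχ hfm hfi hf0 hfχ hne, ?_, ?_⟩
    · rw [natDegree_mul hfm.ne_zero (recip_monic f hf0).ne_zero, recip_natDegree f hf0, hdeg]
      ring
    · intro h hhm hhi hhd
      rcases hhi.prime.dvd_or_dvd hhd with h' | h'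
      · have : h = f := eq_of_monic_of_associated hhm hfm (hhi.associated_of_dvd hfi h')
        rw [this]
        exact ⟨hfd, hf1⟩
      · have : h = recip f := eq_of_monic_of_associated hhm (recip_monic f hf0)
          (hhi.associated_of_dvd (irreducible_recip f hfi hf0) h')
        rw [this]
        exact ⟨hrd, hr1⟩
  · refine ⟨f, hfχ, by rw [hdeg, h2], ?_⟩
    intro h hhm hhi hhd
    have : h = f := eq_of_monic_of_associated hhm hfm (hhi.associated_of_dvd hfi hhd)
    rw [this]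
    exact ⟨hfd, hf1⟩

end Cfsg.Agent.Lib.Helper40_SpAdjRS
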