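import Mathlib
import Cfsg.Prelude.Def_Classical
import Cfsg.Agent.Lib.Helper40_SpAdjRS
import Cfsg.Agent.Lib.Helper40_PSpAdjP

set_option autoImplicit false

/-!
`PSp_{2n}(q)` has no element of order `r s` (odd primes different from the characteristic) when
`η(k) + η(l) > n` and `l / k` is not an odd integer.
-/

namespace Cfsg.Agent.Lib.Helper40_PSpAdjRS

open Polynomial Module Matrix Cfsg.Agent.Lib.Helper40_Palindromic Cfsg.Agent.Lib.Helper40_SpExist
  Cfsg.Agent.Lib.Helper40_FrobConj Cfsg.Agent.Lib.Helper40_SpPrimeOrder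
  Cfsg.Agent.Lib.Helper40_PrimeOrderClasses Cfsg.Agent.Lib.Helper40_SpAdjRS
  Cfsg.Agent.Lib.Helper40_PSpAdjP

universe v

variable {F : Type v} [Field F] {n : ℕ}

/-- the square of a central element of `Sp` is trivial -/
theorem sq_eq_one_of_mem_center (hn : 1 ≤ n) (z : symplecticGroup (Fin n) F)
    (hz : z ∈ Subgroup.center (symplecticGroup (Fin n) F)) : z ^ 2 = 1 := by
  apply Subtype.ext
  rw [SubmonoidClass.coe_pow]
  rcases Cfsg.Agent.S0246.center_eq_one_or_neg_one n hn z hz with h | h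
  · rw [h, one_pow]
    rfl
  · rw [h]
    simp

variable [Fintype F]

/-- elements of odd order of `PSp` lift to elements of the same order -/
theorem exists_lift_of_odd (hn : 1 ≤ n) (g : Cfsg.PSp n F) (hodd : Odd (orderOf g)) :
    ∃ h : symplecticGroup (Fin n) F, orderOf h = orderOf g := by
  have hfin : Finite (symplecticGroup (Fin n) F) := finite_sp
  obtain ⟨g0, rfl⟩ := QuotientGroup.mk_surjective g
  set m := orderOf (QuotientGroup.mk g0 : Cfsg.PSp n F) with hm
  refine ⟨g0 ^ 2, ?_⟩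
  apply Nat.dvd_antisymm
  · apply orderOf_dvd_of_pow_eq_one
    have hcen : g0 ^ m ∈ Subgroup.center (symplecticGroup (Fin n) F) := by
      rw [← QuotientGroup.eq_one_iff, QuotientGroup.mk_pow, hm]
      exact pow_orderOf_eq_one _
    rw [← pow_mul, mul_comm, pow_mul]
    exact sq_eq_one_of_mem_center hn _ hcen
  · have h1 : orderOf ((QuotientGroup.mk g0 : Cfsg.PSp n F) ^ 2) = m := by
      apply Nat.Coprime.orderOf_pow
      exact Nat.coprime_two_right.2 hodd
    rw [← h1, ← QuotientGroup.mk_pow]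
    exact orderOf_map_dvd (QuotientGroup.mk' (Subgroup.center (symplecticGroup (Fin n) F))) (g0 ^ 2)

/-- the image in `PSp` of an element of odd order has the same order -/
theorem orderOf_mk_of_odd (hn : 1 ≤ n) (g : symplecticGroup (Fin n) F) (hodd : Odd (orderOf g)) :
    orderOf (QuotientGroup.mk g : Cfsg.PSp n F) = orderOf g := by
  apply Nat.dvd_antisymm
  · exact orderOf_map_dvd (QuotientGroup.mk' (Subgroup.center (symplecticGroup (Fin n) F))) g
  · set d := orderOf (QuotientGroup.mk g : Cfsg.PSp n F) with hd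
    have hcen : g ^ d ∈ Subgroup.center (symplecticGroup (Fin n) F) := by
      rw [← QuotientGroup.eq_one_iff, QuotientGroup.mk_pow, hd]
      exact pow_orderOf_eq_one _
    have h2 : g ^ (d * 2) = 1 := by
      rw [pow_mul]
      exact sq_eq_one_of_mem_center hn _ hcen
    have h3 : orderOf g ∣ d * 2 := orderOf_dvd_of_pow_eq_one h2
    exact (Nat.Coprime.dvd_mul_right (Nat.coprime_two_right.2 hodd)).1 h3

/-- no element of order `r s` -/
theorem no_order_rs (p : ℕ) [Fact p.Prime] [CharP F p] (hn1 : 1 ≤ n) {r s : ℕ} (hr : r.Prime)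
    (hs : s.Prime) (hr2 : r ≠ 2) (hs2 : s ≠ 2) (hrp : r ≠ p) (hsp : s ≠ p) (hrs : r ≠ s)
    (k l ηk ηl : ℕ) (hk : k = orderOf ((Fintype.card F : ℕ) : ZMod r))
    (hl : l = orderOf ((Fintype.card F : ℕ) : ZMod s))
    (hηk : (Odd k ∧ ηk = k) ∨ (Even k ∧ 2 * ηk = k))
    (hηl : (Odd l ∧ ηl = l) ∨ (Even l ∧ 2 * ηl = l)) (hkl : ηk ≤ ηl) (hlt : n < ηk + ηl)
    (hno : ¬ ∃ t : ℕ, Odd t ∧ l = k * t) (g : Cfsg.PSp n F) (hg : orderOf g = r * s) :
    False := by
  classical
  have hp : p.Prime := Fact.out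
  have hro : Odd r := hr.odd_of_ne_two hr2
  have hso : Odd s := hs.odd_of_ne_two hs2
  obtain ⟨h, hh⟩ := exists_lift_of_odd hn1 g (by rw [hg]; exact hro.mul hso)
  rw [hg] at hh
  set Cm : Matrix (Fin n ⊕ Fin n) (Fin n ⊕ Fin n) F := h.1 with hCm
  have hpow : ∀ d : ℕ, Cm ^ d = 1 ↔ h ^ d = 1 := by
    intro d
    constructor
    · intro h1
      apply Subtype.ext
      rw [SubmonoidClass.coe_pow]
      exact h1
    · intro h1
      have := congrArg Subtype.val h1
      rwa [SubmonoidClass.coe_pow] at this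
  have hC : Cm ^ (r * s) = 1 := by
    rw [hpow, ← hh]
    exact pow_orderOf_eq_one h
  have hCs : Cm ^ s ≠ 1 := by
    rw [Ne, hpow]
    intro h1
    have h2 := orderOf_dvd_of_pow_eq_one h1
    rw [hh] at h2
    have h3 := Nat.le_of_dvd hs.pos h2
    have : 2 * s ≤ r * s := Nat.mul_le_mul_right s hr.two_le
    have := hs.pos
    omega
  have hCr : Cm ^ r ≠ 1 := by
    rw [Ne, hpow]
    intro h1
    have h2 := orderOf_dvd_of_pow_eq_one h1
    rw [hh] at h2
    have h3 := Nat.le_of_dvd hr.pos h2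
    have : r * 2 ≤ r * s := Nat.mul_le_mul_left r hs.two_le
    have := hr.pos
    omega
  have hN : ((r * s : ℕ) : F) ≠ 0 := by
    rw [Nat.cast_mul]
    exact mul_ne_zero (cast_ne_zero_of_ne p hr hrp) (cast_ne_zero_of_ne p hs hsp)
  set χ := Cm.charpoly with hχdef
  have hχm : χ.Monic := Matrix.charpoly_monic Cm
  have hχ0 : χ ≠ 0 := hχm.ne_zero
  have hχdeg : χ.natDegree = 2 * n := by
    rw [hχdef, Matrix.charpoly_natDegree_eq_dim, Fintype.card_sum, Fintype.card_fin, two_mul]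
  have hχ : recip χ = χ :=
    recip_of_reverse_eq χ hχm (charpoly_reverse_of_mem_symplectic Cm h.2)
  have hkill : aeval Cm ((X : F[X]) ^ (r * s) - 1) = 0 := by
    rw [map_sub, map_pow, aeval_X, map_one, hC, sub_self]
  -- primitive factors are impossible
  have prim : ∀ f : F[X], f.Monic → Irreducible f → f ∣ χ → ¬ f ∣ X ^ r - 1 →
      ¬ f ∣ X ^ s - 1 → False := by
    intro f hfm hfi hfχ hfr hfs
    have hfN : f ∣ X ^ (r * s) - 1 :=
      dvd_of_irreducible_of_dvd_charpoly' Cm _ hkill f hfi hfχ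
    have hfN' : f ∣ X ^ (s * r) - 1 := by rwa [mul_comm]
    have hD : 0 < f.natDegree := hfi.natDegree_pos
    have hkD : k ∣ f.natDegree := by
      rw [hk]
      exact ord_dvd_natDegree f hfm hfi hr s hfN' hfs
    have hlD : l ∣ f.natDegree := by
      rw [hl]
      exact ord_dvd_natDegree f hfm hfi hs r hfN hfr
    have hf0 : f.coeff 0 ≠ 0 :=
      coeff_zero_ne_zero_of_dvd (r * s) (Nat.mul_pos hr.pos hs.pos) f hfN
    by_cases hrec : recip f = f
    · obtain ⟨j, hj⟩ := exists_dvd_pow_add_one f hfm hfi hf0 hrec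
      obtain ⟨a1, a2⟩ := ord_props_of_dvd_pow_add_one hr hr2 (hj r hr s hfN' hfs)
      obtain ⟨b1, b2⟩ := ord_props_of_dvd_pow_add_one hs hs2 (hj s hs r hfN hfr)
      rw [← hk] at a1 a2
      rw [← hl] at b1 b2
      have hD2 : f.natDegree ≤ 2 * n := by
        rw [← hχdeg]
        exact natDegree_le_of_dvd hfχ hχ0
      exact arith_two hηk hηl hkl hlt hno hkD hlD hD hD2 a1 a2 b1 b2
    · have h1 := mul_recip_dvd hχ hfm hfi hf0 hfχ hrec
      have h2 := natDegree_le_of_dvd h1 hχ0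
      rw [natDegree_mul hfm.ne_zero (recip_monic f hf0).ne_zero, recip_natDegree f hf0,
        hχdeg] at h2
      exact arith_one hηk hηl hkl hlt hno hkD hlD hD (by omega)
  obtain ⟨f, hfm, hfi, hfχ, hfs⟩ := exists_factor_not_dvd Cm (r * s) hN hC s hCs
  obtain ⟨g', hgm, hgi, hgχ, hgr⟩ := exists_factor_not_dvd Cm (r * s) hN hC r hCr
  by_cases hfr : f ∣ X ^ r - 1
  swap
  · exact prim f hfm hfi hfχ hfr hfs
  by_cases hgs : g' ∣ X ^ s - 1
  swap
  · exact prim g' hgm hgi hgχ hgr hgs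
  have hf1 : f ≠ X - 1 := by
    rintro rfl
    exact hfs (X_sub_one_dvd s hs)
  have hg1 : g' ≠ X - 1 := by
    rintro rfl
    exact hgr (X_sub_one_dvd r hr)
  obtain ⟨Ff, hFχ, hFdeg, hFirr⟩ :=
    exists_prime_part p hr hr2 hrp k ηk hk hηk hχ hfm hfi hfr hf1 hfχ
  obtain ⟨Gg, hGχ, hGdeg, hGirr⟩ :=
    exists_prime_part p hs hs2 hsp l ηl hl hηl hχ hgm hgi hgs hg1 hgχ
  have hcop : IsCoprime Ff Gg := by
    rw [← EuclideanDomain.gcd_isUnit_iff]
    by_contra hnu
    obtain ⟨w, hwm, hwi, hwd⟩ := Polynomial.exists_monic_irreducible_factor _ hnu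
    have hwF : w ∣ Ff := hwd.trans (EuclideanDomain.gcd_dvd_left Ff Gg)
    have hwG : w ∣ Gg := hwd.trans (EuclideanDomain.gcd_dvd_right Ff Gg)
    obtain ⟨hw1, hw2⟩ := hFirr w hwm hwi hwF
    obtain ⟨hw3, _⟩ := hGirr w hwm hwi hwG
    have h4 : w ∣ X - C 1 := by
      have := dvd_X_sub_one_of_coprime ((Nat.coprime_primes hr hs).2 hrs) w hw1 hw3
      rwa [← C_1] at this
    apply hw2
    rw [eq_X_sub_C_of_dvd w hwm hwi 1 h4, C_1]
  have hFG : Ff * Gg ∣ χ := hcop.mul_dvd hFχ hGχ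
  have hF0 : Ff ≠ 0 := ne_zero_of_dvd_ne_zero hχ0 hFχ
  have hG0 : Gg ≠ 0 := ne_zero_of_dvd_ne_zero hχ0 hGχ
  have := natDegree_le_of_dvd hFG hχ0
  rw [natDegree_mul hF0 hG0, hFdeg, hGdeg, hχdeg] at this
  omega

end Cfsg.Agent.Lib.Helper40_PSpAdjRS
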