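import Mathlib
import Cfsg.Agent.Lib.Helper40_SpRep

set_option autoImplicit false

namespace Cfsg.Agent.Lib.Helper40_SpRepModels

open Module Cfsg.Agent.Lib.Helper40_SpRep

universe v w

variable {F : Type v} [Field F] {K : Type v} [Field K] [Algebra F K]

theorem exists_dual_ne_zero (x : K) (hx : x ≠ 0) : ∃ τ : Module.Dual F K, τ x ≠ 0 := by
  by_contra hcon
  apply hx
  rw [← Module.forall_dual_apply_eq_zero_iff F]
  intro φ
  by_contra h
  exact hcon ⟨φ, h⟩

/-- left multiplication by units as a monoid homomorphism -/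
noncomputable def lm (F : Type v) [Field F] (K : Type v) [Field K] [Algebra F K] :
    Kˣ →* Module.End F K :=
  ((Algebra.lmul F K : K →ₐ[F] Module.End F K) : K →* Module.End F K).comp (Units.coeHom K)

theorem lm_apply (u : Kˣ) (x : K) : lm F K u x = (u : K) * x := rfl

theorem lm_injective : Function.Injective (lm F K) := by
  intro u u' h
  have := congrArg (fun f : Module.End F K => f 1) h
  simp only [lm_apply, mul_one] at this
  exact Units.ext this

/-- Norm-one elements of a field with involution act by isometries of an alternating form. -/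
theorem hasSpRep_of_involution [FiniteDimensional F K] {A : Type w} [Group A] (σ : K →ₐ[F] K)
    (hσσ : ∀ x, σ (σ x) = x) (ρ₀ : K) (hρ₀ : σ ρ₀ ≠ ρ₀) (d : ℕ) (hd : finrank F K = 2 * d)
    (f : A →* Kˣ) (hf : Function.Injective f) (hN : ∀ a, (f a : K) * σ (f a) = 1) :
    HasSpRep F A d := by
  have hne : ρ₀ - σ ρ₀ ≠ 0 := sub_ne_zero.mpr (Ne.symm hρ₀)
  obtain ⟨τ, hτ⟩ := exists_dual_ne_zero (F := F) (ρ₀ - σ ρ₀) hne
  let B : LinearMap.BilinForm F K :=
    LinearMap.mk₂ F (fun x y => τ (x * σ y) - τ (y * σ x))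
      (by intro x x' y; simp only [add_mul, mul_add, map_add]; abel)
      (by intro c x y; simp only [smul_mul_assoc, mul_smul_comm, map_smul, smul_eq_mul]; ring)
      (by intro x y y'; simp only [add_mul, mul_add, map_add]; abel)
      (by intro c x y; simp only [smul_mul_assoc, mul_smul_comm, map_smul, smul_eq_mul]; ring)
  have hBapp : ∀ x y, B x y = τ (x * σ y) - τ (y * σ x) := fun x y => rfl
  have hskew : ∀ x y, B x y = - B y x := by
    intro x y
    rw [hBapp, hBapp, neg_sub]
  have hleft : ∀ x, (∀ y, B x y = 0) → x = 0 := by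
    intro x hx
    by_contra hx0
    have := hx (σ (x⁻¹ * ρ₀))
    have e1 : x * (x⁻¹ * ρ₀) = ρ₀ := by rw [← mul_assoc, mul_inv_cancel₀ hx0, one_mul]
    have e2 : σ (x⁻¹ * ρ₀) * σ x = σ ρ₀ := by
      rw [← map_mul]
      have : x⁻¹ * ρ₀ * x = ρ₀ := by
        rw [mul_comm, ← mul_assoc, mul_inv_cancel₀ hx0, one_mul]
      rw [this]
    rw [hBapp, hσσ, e1, e2, ← map_sub] at this
    exact hτ this
  refine ⟨K, inferInstance, inferInstance, inferInstance, B, (lm F K).comp f, hd,
    ⟨hleft, ?_⟩, ?_, ?_, lm_injective.comp hf⟩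
  · intro y hy
    apply hleft
    intro x
    rw [hskew, hy, neg_zero]
  · intro x
    rw [hBapp, sub_self]
  · intro a x y
    rw [hBapp, hBapp]
    simp only [MonoidHom.comp_apply, lm_apply]
    have h1 : ∀ s t : K, (f a : K) * s * σ ((f a : K) * t) = s * σ t := by
      intro s t
      rw [map_mul]
      calc (f a : K) * s * (σ (f a : K) * σ t) = ((f a : K) * σ (f a : K)) * (s * σ t) := by ring
        _ = s * σ t := by rw [hN, one_mul]
    rw [h1, h1]

/-- The hyperbolic model: `Kˣ` acts on `K ⊕ K` by `(u, u⁻¹)`. -/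
theorem hasSpRep_hyp [FiniteDimensional F K] {A : Type w} [Group A] (e : ℕ)
    (he : finrank F K = e) (f : A →* Kˣ) (hf : Function.Injective f) : HasSpRep F A e := by
  obtain ⟨τ, hτ⟩ := exists_dual_ne_zero (F := F) (1 : K) one_ne_zero
  let B : LinearMap.BilinForm F (K × K) :=
    LinearMap.mk₂ F (fun x y => τ (x.1 * y.2) - τ (y.1 * x.2))
      (by intro x x' y; simp only [Prod.fst_add, Prod.snd_add, add_mul, mul_add, map_add]; abel)
      (by intro c x y; simp only [Prod.smul_fst, Prod.smul_snd, smul_mul_assoc, mul_smul_comm,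
        map_smul, smul_eq_mul]; ring)
      (by intro x y y'; simp only [Prod.fst_add, Prod.snd_add, add_mul, mul_add, map_add]; abel)
      (by intro c x y; simp only [Prod.smul_fst, Prod.smul_snd, smul_mul_assoc, mul_smul_comm,
        map_smul, smul_eq_mul]; ring)
  have hBapp : ∀ x y, B x y = τ (x.1 * y.2) - τ (y.1 * x.2) := fun x y => rfl
  have hskew : ∀ x y, B x y = - B y x := by
    intro x y
    rw [hBapp, hBapp, neg_sub]
  have hleft : ∀ x, (∀ y, B x y = 0) → x = 0 := by
    intro x hx
    have h1 : x.1 = 0 := by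
      by_contra h0
      have := hx (0, x.1⁻¹)
      rw [hBapp] at this
      simp only [zero_mul, map_zero, sub_zero, mul_inv_cancel₀ h0] at this
      exact hτ this
    have h2 : x.2 = 0 := by
      by_contra h0
      have := hx (x.2⁻¹, 0)
      rw [hBapp] at this
      simp only [mul_zero, map_zero, zero_sub, inv_mul_cancel₀ h0, neg_eq_zero] at this
      exact hτ this
    exact Prod.ext h1 h2
  let ρ : A →* Module.End F (K × K) :=
    ((LinearMap.prodMapRingHom F K K : _ →* _)).comp
      (MonoidHom.prod ((lm F K).comp f) ((lm F K).comp ((invMonoidHom : Kˣ →* Kˣ).comp f)))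
  have hρapp : ∀ a x, ρ a x = ((f a : K) * x.1, ((f a)⁻¹ : Kˣ) * x.2) := fun a x => rfl
  refine ⟨K × K, inferInstance, inferInstance, inferInstance, B, ρ, ?_, ⟨hleft, ?_⟩, ?_, ?_, ?_⟩
  · rw [Module.finrank_prod, he, two_mul]
  · intro y hy
    apply hleft
    intro x
    rw [hskew, hy, neg_zero]
  · intro x
    rw [hBapp, sub_self]
  · intro a x y
    rw [hBapp, hBapp, hρapp, hρapp]
    simp only
    have h1 : ∀ s t : K, (f a : K) * s * (((f a)⁻¹ : Kˣ) * t) = s * t := by
      intro s t
      calc (f a : K) * s * (((f a)⁻¹ : Kˣ) * t) = ((f a : K) * ((f a)⁻¹ : Kˣ)) * (s * t) := by ring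
        _ = s * t := by rw [← Units.val_mul, mul_inv_cancel, Units.val_one, one_mul]
    rw [h1, h1]
  · intro a a' haa
    apply hf
    have := congrArg (fun g : Module.End F (K × K) => (g (1, 0)).1) haa
    simp only [hρapp, mul_one] at this
    exact Units.ext this

end Cfsg.Agent.Lib.Helper40_SpRepModels
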