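import Mathlib
import Cfsg.Agent.Lib.Helper40_SylowLarge
import Cfsg.Agent.Lib.Helper5_SpOrder
import Cfsg.Agent.Lib.Helper40_PrimeOrderClasses
import Cfsg.Agent.Lib.Helper40_SpRep
import Cfsg.Agent.Lib.Helper40_SpRepModels

set_option autoImplicit false

namespace Cfsg.Agent.Lib.Helper40_SylowLargeSp

open Cfsg.Agent.Lib.Helper40_SylowLarge

/-- The degree of the symplectic model attached to `e`. -/
def spDeg (e : ℕ) : ℕ := if 2 ∣ e then e / 2 else e

theorem spDeg_pos {e : ℕ} (he : 0 < e) : 0 < spDeg e := by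
  unfold spDeg
  split_ifs with h
  · obtain ⟨d, rfl⟩ := h
    omega
  · exact he

theorem dvd_two_mul_iff {e : ℕ} (he : 0 < e) (i : ℕ) : e ∣ 2 * i ↔ spDeg e ∣ i := by
  unfold spDeg
  split_ifs with h
  · obtain ⟨d, rfl⟩ := h
    rw [Nat.mul_div_cancel_left d (by norm_num), Nat.mul_dvd_mul_iff_left (by norm_num)]
  · have hcop : Nat.Coprime e 2 := by
      rw [Nat.coprime_comm]
      exact (Nat.Prime.coprime_iff_not_dvd Nat.prime_two).mpr h
    exact ⟨fun hd => hcop.dvd_of_dvd_mul_left hd, fun hd => hd.mul_left 2⟩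

theorem card_filter_Icc_one (n e : ℕ) (he : 0 < e) :
    ((Finset.Icc 1 n).filter (fun i => e ∣ 2 * i)).card = n / spDeg e := by
  rw [← Nat.Ioc_filter_dvd_card_eq_div n (spDeg e)]
  congr 1
  ext i
  simp only [Finset.mem_filter, Finset.mem_Icc, Finset.mem_Ioc, dvd_two_mul_iff he]
  omega

section nt
variable (r : ℕ) [Fact r.Prime]

/-- If `Q ≡ 1 mod r` and `r ∤ m` then `v_r(Q^m - 1) = v_r(Q - 1)`. -/
theorem padicValNat_pow_sub_one_of_not_dvd {Q : ℕ} (hQ : 1 ≤ Q) (hQr : r ∣ Q - 1) {m : ℕ}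
    (hmr : ¬ r ∣ m) : padicValNat r (Q ^ m - 1) = padicValNat r (Q - 1) := by
  have h2 : 1 ≤ Q ^ m := Nat.one_le_pow _ _ hQ
  have key : (Q - 1) * ∑ i ∈ Finset.range m, Q ^ i = Q ^ m - 1 := by
    zify [hQ, h2]
    exact mul_geom_sum _ _
  have hQ1 : (Q : ZMod r) = 1 := by
    have := (ZMod.natCast_eq_zero_iff (Q - 1) r).mpr hQr
    rw [Nat.cast_sub hQ, sub_eq_zero] at this
    simpa using this
  have hS : ¬ r ∣ ∑ i ∈ Finset.range m, Q ^ i := by
    rw [← ZMod.natCast_eq_zero_iff]
    push_cast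
    rw [hQ1]
    simp only [one_pow, Finset.sum_const, Finset.card_range, nsmul_eq_mul, mul_one]
    rw [ZMod.natCast_eq_zero_iff]
    exact hmr
  by_cases hQ1' : Q - 1 = 0
  · have : Q = 1 := by omega
    subst this
    simp
  have hS0 : ∑ i ∈ Finset.range m, Q ^ i ≠ 0 := by
    intro h
    exact hS (h ▸ dvd_zero _)
  rw [← key, padicValNat.mul hQ1' hS0, padicValNat.eq_zero_of_not_dvd hS, add_zero]

/-- `v_r(q^(2i) - 1)` for `1 ≤ i < r`, `r` odd. -/
theorem padicValNat_pow_two_mul_sub_one {q : ℕ} (hq : 1 ≤ q) (hr2 : r ≠ 2) {i : ℕ}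
    (hi0 : 0 < i) (hir : i < r) :
    padicValNat r (q ^ (2 * i) - 1) =
      if orderOf (q : ZMod r) ∣ 2 * i then padicValNat r (q ^ orderOf (q : ZMod r) - 1) else 0 := by
  have hr : r.Prime := Fact.out
  split_ifs with h
  · obtain ⟨m, hm⟩ := h
    rw [hm, pow_mul]
    refine padicValNat_pow_sub_one_of_not_dvd r (Nat.one_le_pow _ _ hq)
      ((dvd_pow_sub_one_iff r hq _).mpr dvd_rfl) ?_
    intro hrm
    have h1 : r ∣ 2 * i := hm ▸ hrm.mul_left _
    rcases (Nat.Prime.dvd_mul hr).mp h1 with h2 | h2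
    · exact hr2 ((Nat.prime_dvd_prime_iff_eq hr Nat.prime_two).mp h2)
    · exact Nat.not_dvd_of_pos_of_lt hi0 hir h2
  · exact padicValNat.eq_zero_of_not_dvd (fun hd => h ((dvd_pow_sub_one_iff r hq _).mp hd))

/-- The `r`-part of `|Sp_{2n}(q)|` for `n < r`, `r` odd. -/
theorem factorization_card_sp {F : Type*} [Field F] [Fintype F] (n : ℕ) (hnr : n < r)
    (hr2 : r ≠ 2) (hrq : ¬ r ∣ Fintype.card F) :
    (Nat.card ↥(Matrix.symplecticGroup (Fin n) F)).factorization r =
      ((Finset.Icc 1 n).filter (fun i => orderOf ((Fintype.card F : ℕ) : ZMod r) ∣ 2 * i)).card *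
        padicValNat r (Fintype.card F ^ orderOf ((Fintype.card F : ℕ) : ZMod r) - 1) := by
  classical
  have hr : r.Prime := Fact.out
  have hq2 : 2 ≤ Fintype.card F := Fintype.one_lt_card
  set q := Fintype.card F with hqdef
  rw [Cfsg.Agent.Lib.Helper5_SpOrder.card_sp (F := F) (q := q) rfl n]
  have hne : ∀ i ∈ Finset.range n, q ^ (2 * (i + 1)) - 1 ≠ 0 := by
    intro i _
    have : 1 < q ^ (2 * (i + 1)) := Nat.one_lt_pow (by omega) (by omega)
    omega
  have hprod0 : ∏ i ∈ Finset.range n, (q ^ (2 * (i + 1)) - 1) ≠ 0 :=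
    Finset.prod_ne_zero_iff.mpr hne
  rw [Nat.factorization_mul (pow_ne_zero _ (by omega)) hprod0, Finsupp.add_apply,
    Nat.factorization_pow, Finsupp.smul_apply, Nat.factorization_eq_zero_of_not_dvd hrq,
    smul_zero, zero_add, Nat.factorization_prod hne, Finsupp.finsetSum_apply]
  have h1 : ∀ i ∈ Finset.range n, (q ^ (2 * (i + 1)) - 1).factorization r =
      if orderOf (q : ZMod r) ∣ 2 * (i + 1) then
        padicValNat r (q ^ orderOf (q : ZMod r) - 1) else 0 := by
    intro i hi
    have hi' := Finset.mem_range.mp hi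
    rw [Nat.factorization_def _ hr]
    exact padicValNat_pow_two_mul_sub_one r (by omega) hr2 (by omega) (by omega)
  rw [Finset.sum_congr rfl h1, ← Finset.sum_filter, Finset.sum_const, smul_eq_mul]
  congr 1
  refine Finset.card_nbij' (fun i => i + 1) (fun j => j - 1) ?_ ?_ ?_ ?_
  · intro i hi
    simp only [Finset.coe_filter, Finset.mem_range, Set.mem_ofPred_eq] at hi
    simp only [Finset.coe_filter, Finset.mem_Icc, Set.mem_ofPred_eq]
    exact ⟨by omega, hi.2⟩
  · intro j hj
    simp only [Finset.coe_filter, Finset.mem_Icc, Set.mem_ofPred_eq] at hj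
    simp only [Finset.coe_filter, Finset.mem_range, Set.mem_ofPred_eq]
    refine ⟨by omega, ?_⟩
    rw [show j - 1 + 1 = j by omega]
    exact hj.2
  · intro i _
    simp
  · intro j hj
    simp only [Finset.coe_filter, Finset.mem_Icc, Set.mem_ofPred_eq] at hj
    show j - 1 + 1 = j
    omega

end nt

section embed

open Polynomial Module Cfsg.Agent.Lib.Helper40_SpRep Cfsg.Agent.Lib.Helper40_SpRepModels

universe v

variable {F : Type v} [Field F] [Fintype F] (r : ℕ) [Fact r.Prime]

/-- A field extension of degree `e = ord_r(q)` in the universe of `F`. -/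
theorem exists_field_ext (hrq : ¬ r ∣ Fintype.card F) :
    ∃ (K : Type v) (_ : Field K) (_ : Algebra F K) (_ : FiniteDimensional F K),
      finrank F K = orderOf ((Fintype.card F : ℕ) : ZMod r) := by
  classical
  have hr : r.Prime := Fact.out
  obtain ⟨p, hp⟩ := CharP.exists F
  have : Fact p.Prime := ⟨CharP.char_is_prime F p⟩
  have hrp : r ≠ p := by
    rintro rfl
    exact hrq ((CharP.cast_eq_zero_iff F r _).mp (Nat.cast_card_eq_zero F))
  obtain ⟨he0, W, hWcard, hW, -⟩ :=
    Cfsg.Agent.Lib.Helper40_PrimeOrderClasses.exists_cyclotomic_factors (F := F) p r hr hrp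
  have hq0 : ((Fintype.card F : ℕ) : ZMod r) ≠ 0 := by
    rw [Ne, ZMod.natCast_eq_zero_iff]
    exact hrq
  have hdvd : orderOf ((Fintype.card F : ℕ) : ZMod r) ∣ r - 1 := ZMod.orderOf_dvd_card_sub_one hq0
  have hWpos : 0 < W.card := by
    rw [hWcard]
    exact Nat.div_pos (Nat.le_of_dvd (by have := hr.two_le; omega) hdvd) he0
  obtain ⟨w, hw⟩ := Finset.card_pos.mp hWpos
  obtain ⟨hwm, hwi, -, -, hwd⟩ := hW w hw
  have : Fact (Irreducible w) := ⟨hwi⟩
  have : Module.Finite F (AdjoinRoot w) := hwm.finite_adjoinRoot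
  refine ⟨AdjoinRoot w, inferInstance, inferInstance, inferInstance, ?_⟩
  rw [← hwd, (AdjoinRoot.powerBasis hwi.ne_zero).finrank, AdjoinRoot.powerBasis_dim]

theorem exists_Sp_embedding (n : ℕ) (hrq : ¬ r ∣ Fintype.card F) :
    ∃ ψ : (Fin (n / spDeg (orderOf ((Fintype.card F : ℕ) : ZMod r))) → Multiplicative (ZMod
        (r ^ padicValNat r (Fintype.card F ^ orderOf ((Fintype.card F : ℕ) : ZMod r) - 1)))) →*
        ↥(Matrix.symplecticGroup (Fin n) F), Function.Injective ψ := by
  classical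
  have hr : r.Prime := Fact.out
  have hq2 : 2 ≤ Fintype.card F := Fintype.one_lt_card
  have hq1 : 1 ≤ Fintype.card F := by omega
  have he0 : 0 < orderOf ((Fintype.card F : ℕ) : ZMod r) := orderOf_pos_of_not_dvd r hrq
  obtain ⟨K, _, _, _, hfr⟩ := exists_field_ext (F := F) r hrq
  set q := Fintype.card F with hq
  set e := orderOf ((q : ℕ) : ZMod r) with he
  set a := padicValNat r (q ^ e - 1) with ha
  have : Finite K := Module.finite_of_finite F
  have hKcard : Nat.card K = q ^ e := by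
    rw [Module.natCard_eq_pow_finrank (K := F) (V := K), hfr, Nat.card_eq_fintype_card]
  have hKu : Nat.card Kˣ = q ^ e - 1 := by rw [Nat.card_units, hKcard]
  have hNdvd : r ^ a ∣ q ^ e - 1 := pow_padicValNat_dvd
  obtain ⟨f, hf⟩ := exists_zmod_embedding (G := Kˣ) (N := r ^ a) (by rw [hKu]; exact hNdvd)
  have : NeZero (r ^ a) := ⟨pow_ne_zero _ hr.ne_zero⟩
  have hfN : ∀ x, (f x) ^ (r ^ a) = 1 := by
    intro x
    rw [← map_pow]
    have : x ^ (r ^ a) = 1 := by
      have := pow_card_eq_one' (G := Multiplicative (ZMod (r ^ a))) (x := x)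
      rwa [Nat.card_eq_fintype_card, Fintype.card_multiplicative, ZMod.card] at this
    rw [this, map_one]
  have hrep : HasSpRep F (Multiplicative (ZMod (r ^ a))) (spDeg e) := by
    unfold spDeg
    split_ifs with h2
    · obtain ⟨d, hd⟩ := h2
      have hd0 : 0 < d := by omega
      rw [hd, Nat.mul_div_cancel_left d (by norm_num)]
      have : Fintype K := Fintype.ofFinite K
      have hKc : Fintype.card K = q ^ (2 * d) := by
        rw [← Nat.card_eq_fintype_card, hKcard, hd]
      let σ : K →ₐ[F] K := (FiniteField.frobeniusAlgHom F K) ^ d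
      have hσ : ∀ x, σ x = x ^ (q ^ d) := by
        intro x
        show ((FiniteField.frobeniusAlgHom F K) ^ d) x = _
        rw [AlgHom.coe_pow, FiniteField.coe_frobeniusAlgHom, pow_iterate]
      have hσσ : ∀ x, σ (σ x) = x := by
        intro x
        rw [hσ, hσ, ← pow_mul, ← pow_add, ← two_mul, ← hKc, FiniteField.pow_card]
      -- a moved element
      have hlt : q ^ d - 1 < q ^ (2 * d) - 1 := by
        have h1 : 1 < q ^ d := Nat.one_lt_pow hd0.ne' (by omega)
        have h2 : q ^ (2 * d) = q ^ d * q ^ d := by rw [two_mul, pow_add]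
        have h3 : q ^ d * 2 ≤ q ^ d * q ^ d := Nat.mul_le_mul_left _ (by omega)
        omega
      obtain ⟨g, hg⟩ := IsCyclic.exists_ofOrder_eq_natCard (α := Kˣ)
      have hmoved : σ (g : K) ≠ (g : K) := by
        intro hfix
        rw [hσ] at hfix
        have h1 : g ^ (q ^ d - 1) = 1 := by
          have h1' : 1 ≤ q ^ d := Nat.one_le_pow _ _ hq1
          apply Units.ext
          rw [Units.val_pow_eq_pow_val, Units.val_one]
          have hg0 : (g : K) ≠ 0 := g.ne_zero
          have : (g : K) ^ (q ^ d - 1) * (g : K) = 1 * (g : K) := by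
            rw [← pow_succ, Nat.sub_add_cancel h1', hfix, one_mul]
          exact mul_right_cancel₀ hg0 this
        have h2 := orderOf_dvd_of_pow_eq_one h1
        rw [hg, hKu, hd] at h2
        have h3 : 0 < q ^ d - 1 := by
          have : 1 < q ^ d := Nat.one_lt_pow hd0.ne' (by omega)
          omega
        exact absurd (Nat.le_of_dvd h3 h2) (by omega)
      -- `r ^ a ∣ q ^ d + 1`
      have hplus : r ^ a ∣ q ^ d + 1 := by
        have hfac : q ^ e - 1 = (q ^ d - 1) * (q ^ d + 1) := by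
          have h1' : 1 ≤ q ^ d := Nat.one_le_pow _ _ hq1
          rw [hd, two_mul, pow_add]
          zify [h1', Nat.one_le_pow _ _ hq1 |> fun h => Nat.mul_le_mul h h]
          ring
        have hnd : ¬ r ∣ q ^ d - 1 := by
          intro hdv
          have := (dvd_pow_sub_one_iff r hq1 d).mp hdv
          have := Nat.le_of_dvd hd0 this
          omega
        have hcop : Nat.Coprime (r ^ a) (q ^ d - 1) :=
          Nat.Coprime.pow_left _ ((Nat.Prime.coprime_iff_not_dvd hr).mpr hnd)
        rw [hfac] at hNdvd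
        exact hcop.dvd_of_dvd_mul_left hNdvd
      refine hasSpRep_of_involution σ hσσ (g : K) hmoved d (by rw [hfr, hd]) f hf ?_
      intro x
      rw [hσ, ← pow_succ', ← Units.val_pow_eq_pow_val]
      obtain ⟨t, ht⟩ := hplus
      rw [ht, pow_mul, hfN, one_pow, Units.val_one]
    · exact hasSpRep_hyp e hfr f hf
  exact ((hrep.pi (n / spDeg e)).extend (Nat.div_mul_le_self n _)).exists_embedding

end embed

end Cfsg.Agent.Lib.Helper40_SylowLargeSp
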