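import Mathlib
import Cfsg.Agent.Lib.Helper40_SylowLargeSp

set_option autoImplicit false

/-!
Cyclic tori in symplectic groups: `ZMod N` acts faithfully on a symplectic space of dimension
`2 e` when `N ∣ q ^ e - 1`, and of dimension `2 d` when `N ∣ q ^ d + 1`.
-/

namespace Cfsg.Agent.Lib.Helper40_SpTorus

open Polynomial Module Cfsg.Agent.Lib.Helper40_SpRep Cfsg.Agent.Lib.Helper40_SpRepModels
  Cfsg.Agent.Lib.Helper40_SylowLarge Cfsg.Agent.Lib.Helper40_SylowLargeSp

universe v

variable {F : Type v} [Field F] [Fintype F]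

section field

variable (K : Type v) [Field K] [Algebra F K] [FiniteDimensional F K]

theorem natCard_units (e : ℕ) (hfr : finrank F K = e) :
    Nat.card Kˣ = Fintype.card F ^ e - 1 := by
  have : Finite K := Module.finite_of_finite F
  rw [Nat.card_units, Module.natCard_eq_pow_finrank (K := F) (V := K), hfr,
    Nat.card_eq_fintype_card]

/-- the hyperbolic torus -/
theorem hasSpRep_torus_hyp (e N : ℕ) (hfr : finrank F K = e)
    (hN : N ∣ Fintype.card F ^ e - 1) : HasSpRep F (Multiplicative (ZMod N)) e := by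
  have : Finite K := Module.finite_of_finite F
  obtain ⟨f, hf⟩ := exists_zmod_embedding (G := Kˣ) (N := N) (by rw [natCard_units K e hfr]; exact hN)
  exact hasSpRep_hyp e hfr f hf

/-- the anisotropic torus -/
theorem hasSpRep_torus_inv (d N : ℕ) (hd0 : 0 < d) (hfr : finrank F K = 2 * d)
    (hN : N ∣ Fintype.card F ^ d + 1) : HasSpRep F (Multiplicative (ZMod N)) d := by
  classical
  have hq2 : 2 ≤ Fintype.card F := Fintype.one_lt_card
  have hq1 : 1 ≤ Fintype.card F := by omega
  set q := Fintype.card F with hq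
  have : Finite K := Module.finite_of_finite F
  have hKu : Nat.card Kˣ = q ^ (2 * d) - 1 := natCard_units K (2 * d) hfr
  have hKcard : Nat.card K = q ^ (2 * d) := by
    rw [Module.natCard_eq_pow_finrank (K := F) (V := K), hfr, Nat.card_eq_fintype_card]
  have hfac : q ^ (2 * d) - 1 = (q ^ d - 1) * (q ^ d + 1) := by
    have h1' : 1 ≤ q ^ d := Nat.one_le_pow _ _ hq1
    rw [two_mul, pow_add]
    zify [h1', Nat.one_le_pow _ _ hq1 |> fun h => Nat.mul_le_mul h h]
    ring
  have hN0 : N ≠ 0 := by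
    rintro rfl
    rw [zero_dvd_iff] at hN
    omega
  have : NeZero N := ⟨hN0⟩
  obtain ⟨f, hf⟩ := exists_zmod_embedding (G := Kˣ) (N := N)
    (by rw [hKu, hfac]; exact hN.mul_left _)
  have hfN : ∀ x, (f x) ^ N = 1 := by
    intro x
    rw [← map_pow]
    have : x ^ N = 1 := by
      have := pow_card_eq_one' (G := Multiplicative (ZMod N)) (x := x)
      rwa [Nat.card_eq_fintype_card, Fintype.card_multiplicative, ZMod.card] at this
    rw [this, map_one]
  have : Fintype K := Fintype.ofFinite K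
  have hKc : Fintype.card K = q ^ (2 * d) := by
    rw [← Nat.card_eq_fintype_card, hKcard]
  let σ : K →ₐ[F] K := (FiniteField.frobeniusAlgHom F K) ^ d
  have hσ : ∀ x, σ x = x ^ (q ^ d) := by
    intro x
    show ((FiniteField.frobeniusAlgHom F K) ^ d) x = _
    rw [AlgHom.coe_pow, FiniteField.coe_frobeniusAlgHom, pow_iterate]
  have hσσ : ∀ x, σ (σ x) = x := by
    intro x
    rw [hσ, hσ, ← pow_mul, ← pow_add, ← two_mul, ← hKc, FiniteField.pow_card]
  have hlt : q ^ d - 1 < q ^ (2 * d) - 1 := by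
    have h1 : 1 < q ^ d := Nat.one_lt_pow hd0.ne' (by omega)
    have h2 : q ^ (2 * d) = q ^ d * q ^ d := by rw [two_mul, pow_add]
    have h3 : q ^ d * 2 ≤ q ^ d * q ^ d := Nat.mul_le_mul_left _ (by omega)
    omega
  obtain ⟨g, hg⟩ := IsCyclic.exists_ofOrder_eq_natCard (α := Kˣ)
  have hmoved : σ (g : K) ≠ (g : K) := by
    intro hfix
    rw [hσ] at hfix
    have h1 : g ^ (q ^ d - 1) = 1 := by
      have h1' : 1 ≤ q ^ d := Nat.one_le_pow _ _ hq1
      apply Units.ext
      rw [Units.val_pow_eq_pow_val, Units.val_one]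
      have hg0 : (g : K) ≠ 0 := g.ne_zero
      have : (g : K) ^ (q ^ d - 1) * (g : K) = 1 * (g : K) := by
        rw [← pow_succ, Nat.sub_add_cancel h1', hfix, one_mul]
      exact mul_right_cancel₀ hg0 this
    have h2 := orderOf_dvd_of_pow_eq_one h1
    rw [hg, hKu] at h2
    have h3 : 0 < q ^ d - 1 := by
      have : 1 < q ^ d := Nat.one_lt_pow hd0.ne' (by omega)
      omega
    exact absurd (Nat.le_of_dvd h3 h2) (by omega)
  refine hasSpRep_of_involution σ hσσ (g : K) hmoved d hfr f hf ?_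
  intro x
  rw [hσ, ← pow_succ', ← Units.val_pow_eq_pow_val]
  obtain ⟨t, ht⟩ := hN
  rw [ht, pow_mul, hfN, one_pow, Units.val_one]

end field

section nt

/-- for `k = ord_r(q) = 2 d` the prime `r` divides `q ^ d + 1` -/
theorem dvd_pow_half_add_one {q r d : ℕ} (hr : r.Prime) (hq : 1 ≤ q) (hd0 : 0 < d)
    (hk : orderOf ((q : ℕ) : ZMod r) = 2 * d) : r ∣ q ^ d + 1 := by
  have : Fact r.Prime := ⟨hr⟩
  have h1 : r ∣ q ^ (2 * d) - 1 := (dvd_pow_sub_one_iff r hq _).2 (by rw [hk])
  have hfac : q ^ (2 * d) - 1 = (q ^ d - 1) * (q ^ d + 1) := by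
    have h1' : 1 ≤ q ^ d := Nat.one_le_pow _ _ hq
    rw [two_mul, pow_add]
    zify [h1', Nat.one_le_pow _ _ hq |> fun h => Nat.mul_le_mul h h]
    ring
  rw [hfac] at h1
  rcases hr.dvd_mul.1 h1 with h | h
  · exfalso
    have := (dvd_pow_sub_one_iff r hq d).1 h
    rw [hk] at this
    have := Nat.le_of_dvd hd0 this
    omega
  · exact h

end nt

/-- the cyclic group of prime order `r` acts on a symplectic space of dimension `2 η(k)` -/
theorem hasSpRep_prime (r : ℕ) [Fact r.Prime] (hrq : ¬ r ∣ Fintype.card F) (k η : ℕ)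
    (hk : k = orderOf ((Fintype.card F : ℕ) : ZMod r))
    (hη : (Odd k ∧ η = k) ∨ (Even k ∧ 2 * η = k)) :
    HasSpRep F (Multiplicative (ZMod r)) η := by
  have hr : r.Prime := Fact.out
  have hq1 : 1 ≤ Fintype.card F := Fintype.card_pos
  have hkpos : 0 < k := by
    rw [hk]
    exact orderOf_pos_of_not_dvd r hrq
  obtain ⟨K, _, _, _, hfr⟩ := exists_field_ext (F := F) r hrq
  rw [← hk] at hfr
  rcases hη with ⟨_, rfl⟩ | ⟨_, h2⟩
  · exact hasSpRep_torus_hyp K η r hfr ((dvd_pow_sub_one_iff r hq1 _).2 (by rw [← hk]))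
  · have hη0 : 0 < η := by omega
    exact hasSpRep_torus_inv K η r hη0 (by rw [hfr, h2])
      (dvd_pow_half_add_one hr hq1 hη0 (by rw [← hk, h2]))

/-- the cyclic group of order `r s` acts on a symplectic space of dimension `2 η(l)` when
`l / k` is an odd integer -/
theorem hasSpRep_mul (r s : ℕ) [Fact r.Prime] [Fact s.Prime] (hrs : r ≠ s)
    (hsq : ¬ s ∣ Fintype.card F) (k l η : ℕ)
    (hk : k = orderOf ((Fintype.card F : ℕ) : ZMod r))
    (hl : l = orderOf ((Fintype.card F : ℕ) : ZMod s))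
    (hη : (Odd l ∧ η = l) ∨ (Even l ∧ 2 * η = l)) (hkpos : 0 < k) (t : ℕ) (ht : Odd t)
    (hlt : l = k * t) : HasSpRep F (Multiplicative (ZMod (r * s))) η := by
  have hr : r.Prime := Fact.out
  have hs : s.Prime := Fact.out
  have hq1 : 1 ≤ Fintype.card F := Fintype.card_pos
  have hcop : Nat.Coprime r s := (Nat.coprime_primes hr hs).2 hrs
  have hlpos : 0 < l := by
    rw [hl]
    exact orderOf_pos_of_not_dvd s hsq
  obtain ⟨K, _, _, _, hfr⟩ := exists_field_ext (F := F) s hsq
  rw [← hl] at hfr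
  rcases hη with ⟨_, rfl⟩ | ⟨hle, h2⟩
  · apply hasSpRep_torus_hyp K η (r * s) hfr
    apply Nat.Coprime.mul_dvd_of_dvd_of_dvd hcop
    · exact (dvd_pow_sub_one_iff r hq1 _).2 (by rw [← hk, hlt]; exact dvd_mul_right _ _)
    · exact (dvd_pow_sub_one_iff s hq1 _).2 (by rw [← hl])
  · have hη0 : 0 < η := by omega
    apply hasSpRep_torus_inv K η (r * s) hη0 (by rw [hfr, h2])
    apply Nat.Coprime.mul_dvd_of_dvd_of_dvd hcop
    · -- `k` is even
      have hke : Even k := by
        rw [hlt] at hle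
        rcases Nat.even_mul.1 hle with h | h
        · exact h
        · exact absurd h (Nat.not_even_iff_odd.2 ht)
      obtain ⟨c, hc⟩ := hke
      have hc0 : 0 < c := by omega
      have h3 : r ∣ Fintype.card F ^ c + 1 :=
        dvd_pow_half_add_one hr hq1 hc0 (by rw [← hk, hc, two_mul])
      have h4 : η = c * t := by
        have : 2 * η = 2 * (c * t) := by rw [h2, hlt, hc]; ring
        omega
      have h5 : Fintype.card F ^ c + 1 ∣ (Fintype.card F ^ c) ^ t + 1 ^ t :=
        Odd.nat_add_dvd_pow_add_pow _ _ ht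
      rw [one_pow, ← pow_mul, ← h4] at h5
      exact h3.trans h5
    · exact dvd_pow_half_add_one hs hq1 hη0 (by rw [← hl, h2])

end Cfsg.Agent.Lib.Helper40_SpTorus
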