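import Mathlib
import Cfsg.Prelude.Def_Classical
import Cfsg.Agent.Lib.Helper40_SpTorus
import Cfsg.Agent.Lib.Helper40_PSpAdjRS

set_option autoImplicit false

/-!
Existence of elements of order `r s` in `PSp_{2n}(q)`.
-/

namespace Cfsg.Agent.Lib.Helper40_PSpAdjRS2

open Polynomial Module Matrix Cfsg.Agent.Lib.Helper40_SpRep Cfsg.Agent.Lib.Helper40_SpTorus
  Cfsg.Agent.Lib.Helper40_PSpAdjRS Cfsg.Agent.Lib.Helper40_PSpAdjP
  Cfsg.Agent.Lib.Helper40_SpAdjRS Cfsg.Agent.Lib.Helper40_Palindromic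
  Cfsg.Agent.Lib.Helper40_SpPrimeOrder Cfsg.Agent.Lib.Helper40_PrimeOrderClasses

universe v

variable {F : Type v} [Field F] [Fintype F] {n : ℕ}

theorem orderOf_ofAdd_one (N : ℕ) : orderOf (Multiplicative.ofAdd (1 : ZMod N)) = N := by
  rw [orderOf_ofAdd_eq_addOrderOf, ZMod.addOrderOf_one]

/-- an element of order `r s` from two orthogonal blocks -/
theorem exists_order_rs_sum (p : ℕ) [Fact p.Prime] [CharP F p] (hn1 : 1 ≤ n) {r s : ℕ}
    (hr : r.Prime) (hs : s.Prime) (hr2 : r ≠ 2) (hs2 : s ≠ 2) (hrp : r ≠ p) (hsp : s ≠ p)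
    (hrs : r ≠ s) (k l ηk ηl : ℕ) (hk : k = orderOf ((Fintype.card F : ℕ) : ZMod r))
    (hl : l = orderOf ((Fintype.card F : ℕ) : ZMod s))
    (hηk : (Odd k ∧ ηk = k) ∨ (Even k ∧ 2 * ηk = k))
    (hηl : (Odd l ∧ ηl = l) ∨ (Even l ∧ 2 * ηl = l)) (hle : ηk + ηl ≤ n) :
    ∃ g : Cfsg.PSp n F, orderOf g = r * s := by
  have : Fact r.Prime := ⟨hr⟩
  have : Fact s.Prime := ⟨hs⟩
  have hrq := Cfsg.Agent.Lib.Helper99_PrimeGraphP.not_dvd_card_of_ne (F := F) p hr hrp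
  have hsq := Cfsg.Agent.Lib.Helper99_PrimeGraphP.not_dvd_card_of_ne (F := F) p hs hsp
  have h1 : HasSpRep F (Multiplicative (ZMod r)) ηk := hasSpRep_prime r hrq k ηk hk hηk
  have h2 : HasSpRep F (Multiplicative (ZMod s)) ηl := hasSpRep_prime s hsq l ηl hl hηl
  obtain ⟨ψ, hψ⟩ := ((h1.prod h2).extend hle).exists_embedding
  set x : Multiplicative (ZMod r) × Multiplicative (ZMod s) :=
    (Multiplicative.ofAdd 1, Multiplicative.ofAdd 1) with hx
  have hxo : orderOf x = r * s := by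
    rw [Prod.orderOf, hx, orderOf_ofAdd_one, orderOf_ofAdd_one]
    exact ((Nat.coprime_primes hr hs).2 hrs).lcm_eq_mul
  have hψo : orderOf (ψ x) = r * s := by rw [orderOf_injective ψ hψ x, hxo]
  refine ⟨QuotientGroup.mk (ψ x), ?_⟩
  rw [orderOf_mk_of_odd hn1 _ (by rw [hψo]; exact (hr.odd_of_ne_two hr2).mul (hs.odd_of_ne_two hs2)),
    hψo]

/-- an element of order `r s` in a cyclic torus -/
theorem exists_order_rs_torus (p : ℕ) [Fact p.Prime] [CharP F p] (hn1 : 1 ≤ n) {r s : ℕ}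
    (hr : r.Prime) (hs : s.Prime) (hr2 : r ≠ 2) (hs2 : s ≠ 2) (hrp : r ≠ p) (hsp : s ≠ p)
    (hrs : r ≠ s) (k l ηl : ℕ) (hk : k = orderOf ((Fintype.card F : ℕ) : ZMod r))
    (hl : l = orderOf ((Fintype.card F : ℕ) : ZMod s))
    (hηl : (Odd l ∧ ηl = l) ∨ (Even l ∧ 2 * ηl = l)) (hle : ηl ≤ n) (t : ℕ) (ht : Odd t)
    (hlt : l = k * t) : ∃ g : Cfsg.PSp n F, orderOf g = r * s := by
  have : Fact r.Prime := ⟨hr⟩
  have : Fact s.Prime := ⟨hs⟩
  have hrq := Cfsg.Agent.Lib.Helper99_PrimeGraphP.not_dvd_card_of_ne (F := F) p hr hrp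
  have hsq := Cfsg.Agent.Lib.Helper99_PrimeGraphP.not_dvd_card_of_ne (F := F) p hs hsp
  have hkpos : 0 < k := by
    rw [hk]
    exact Cfsg.Agent.Lib.Helper40_SylowLarge.orderOf_pos_of_not_dvd r hrq
  have h1 : HasSpRep F (Multiplicative (ZMod (r * s))) ηl :=
    hasSpRep_mul r s hrs hsq k l ηl hk hl hηl hkpos t ht hlt
  obtain ⟨ψ, hψ⟩ := (h1.extend hle).exists_embedding
  set x : Multiplicative (ZMod (r * s)) := Multiplicative.ofAdd 1 with hx
  have hψo : orderOf (ψ x) = r * s := by rw [orderOf_injective ψ hψ x, hx, orderOf_ofAdd_one]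
  refine ⟨QuotientGroup.mk (ψ x), ?_⟩
  rw [orderOf_mk_of_odd hn1 _ (by rw [hψo]; exact (hr.odd_of_ne_two hr2).mul (hs.odd_of_ne_two hs2)),
    hψo]

/-- a prime dividing the order of `PSp_{2n}(q)` has `η ≤ n` -/
theorem eta_le_of_dvd_card (p : ℕ) [Fact p.Prime] [CharP F p] (hn1 : 1 ≤ n) {s : ℕ}
    (hs : s.Prime) (hs2 : s ≠ 2) (hsp : s ≠ p) (l ηl : ℕ)
    (hl : l = orderOf ((Fintype.card F : ℕ) : ZMod s))
    (hηl : (Odd l ∧ ηl = l) ∨ (Even l ∧ 2 * ηl = l))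
    (hsG : s ∣ Nat.card (Cfsg.PSp n F)) : ηl ≤ n := by
  classical
  have : Fact s.Prime := ⟨hs⟩
  have hfin : Finite (symplecticGroup (Fin n) F) := finite_sp
  have hfin' : Finite (Cfsg.PSp n F) := inferInstance
  obtain ⟨g, hg⟩ := exists_prime_orderOf_dvd_card' s hsG
  obtain ⟨h, hh⟩ := exists_lift_of_odd hn1 g (by rw [hg]; exact hs.odd_of_ne_two hs2)
  rw [hg] at hh
  set Cm : Matrix (Fin n ⊕ Fin n) (Fin n ⊕ Fin n) F := h.1 with hCm
  have hC : Cm ^ s = 1 := by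
    have h1 : h ^ s = 1 := by
      rw [← hh]
      exact pow_orderOf_eq_one h
    have := congrArg Subtype.val h1
    rwa [SubmonoidClass.coe_pow] at this
  have hC1 : Cm ^ 1 ≠ 1 := by
    rw [pow_one]
    intro h1
    have : h = 1 := Subtype.ext h1
    rw [this, orderOf_one] at hh
    exact hs.one_lt.ne hh
  set χ := Cm.charpoly with hχdef
  have hχm : χ.Monic := Matrix.charpoly_monic Cm
  have hχ0 : χ ≠ 0 := hχm.ne_zero
  have hχdeg : χ.natDegree = 2 * n := by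
    rw [hχdef, Matrix.charpoly_natDegree_eq_dim, Fintype.card_sum, Fintype.card_fin, two_mul]
  have hχ : recip χ = χ :=
    recip_of_reverse_eq χ hχm (charpoly_reverse_of_mem_symplectic Cm h.2)
  have hkill : aeval Cm ((X : F[X]) ^ s - 1) = 0 := by
    rw [map_sub, map_pow, aeval_X, map_one, hC, sub_self]
  obtain ⟨f, hfm, hfi, hfχ, hf1⟩ :=
    exists_factor_not_dvd Cm s (cast_ne_zero_of_ne p hs hsp) hC 1 hC1
  have hfs : f ∣ X ^ s - 1 := dvd_of_irreducible_of_dvd_charpoly' Cm _ hkill f hfi hfχ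
  have hf1' : f ≠ X - 1 := by
    rintro rfl
    apply hf1
    rw [pow_one]
  obtain ⟨Ff, hFχ, hFdeg, -⟩ :=
    exists_prime_part p hs hs2 hsp l ηl hl hηl hχ hfm hfi hfs hf1' hfχ
  have := natDegree_le_of_dvd hFχ hχ0
  rw [hFdeg, hχdeg] at this
  omega

end Cfsg.Agent.Lib.Helper40_PSpAdjRS2
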