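import Mathlib
import Cfsg.Agent.Lib.Helper40_BCTransport
import Cfsg.Agent.Lib.Helper40_BCTwist
import Cfsg.Agent.Lib.Helper40_SpTorus
import Cfsg.Agent.Lib.Helper40_PSpAdjRS2
import Cfsg.Agent.Lib.Helper5_SpOrder
import Cfsg.Agent.S0286

set_option autoImplicit false

/-!
# Building blocks for elements of order `r s` in `Sp_{2n}(q)` and `O_{2n+1}(q)` (helper40)
-/

namespace Cfsg.Agent.Lib.Helper40_BCExist

open Module Matrix Cfsg.Agent.Lib.Helper40_SpBasic Cfsg.Agent.Lib.Helper40_SpMatrix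
  Cfsg.Agent.Lib.Helper40_OTransport Cfsg.Agent.Lib.Helper40_OClasses
  Cfsg.Agent.Lib.Helper44_StdForms Cfsg.Agent.Lib.Helper40_BCData
  Cfsg.Agent.Lib.Helper40_BCTransport Cfsg.Agent.Lib.Helper40_BCTwist
  Cfsg.Agent.Lib.Helper40_SpRep Cfsg.Agent.Lib.Helper40_SpTorus
  Cfsg.Agent.Lib.Helper40_PSpAdjRS2 Cfsg.Agent.Lib.Helper40_SylowLargeSp

universe v

variable {F : Type v} [Field F]

section neg

variable {V : Type v} [AddCommGroup V] [Module F V]

theorem orderOf_neg_one_end [Nontrivial V] (h2 : (2 : F) ≠ 0) :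
    orderOf (-1 : Module.End F V) = 2 := by
  have : Fact (Nat.Prime 2) := ⟨Nat.prime_two⟩
  apply orderOf_eq_prime
  · simp
  · intro h
    obtain ⟨x, hx⟩ := exists_ne (0 : V)
    have h1 := congrArg (fun f : Module.End F V => f x) h
    simp only [LinearMap.neg_apply, Module.End.one_apply] at h1
    have h3 : (2 : F) • x = 0 := by
      rw [two_smul]
      nth_rewrite 1 [← h1]
      exact neg_add_cancel x
    rcases smul_eq_zero.1 h3 with h4 | h4
    · exact h2 h4
    · exact hx h4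

theorem orderOf_neg_of_odd [Nontrivial V] (h2 : (2 : F) ≠ 0) (a : Module.End F V)
    (hodd : Odd (orderOf a)) : orderOf (-a) = 2 * orderOf a := by
  have h1 : -a = (-1 : Module.End F V) * a := by rw [neg_one_mul]
  have hc : Commute (-1 : Module.End F V) a := (Commute.one_left a).neg_left
  rw [h1, hc.orderOf_mul_eq_mul_orderOf_of_coprime, orderOf_neg_one_end h2]
  rw [orderOf_neg_one_end h2]
  exact Nat.coprime_two_left.2 hodd

end neg

/-- negating an isometry of odd order -/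
theorem SpHas.neg (h2 : (2 : F) ≠ 0) {N m : ℕ} (hm : 1 ≤ m) (h : SpHas F N m) (hodd : Odd N) :
    SpHas F (2 * N) m := by
  obtain ⟨V, _, _, _, B, a, hfr, hB, halt, hiso, ho⟩ := h
  have : Nontrivial V := by
    apply Module.nontrivial_of_finrank_pos (R := F)
    omega
  refine ⟨V, inferInstance, inferInstance, inferInstance, B, -a, hfr, hB, halt, ?_, ?_⟩
  · intro x y
    rw [LinearMap.neg_apply, LinearMap.neg_apply, map_neg, map_neg, LinearMap.neg_apply, neg_neg,
      hiso]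
  · rw [orderOf_neg_of_odd h2 a (ho ▸ hodd), ho]

section finite

variable [Fintype F]

/-- an isometry of prime order `r` in dimension `2 η` -/
theorem spHas_prime (r : ℕ) (hr : r.Prime) (hrq : ¬ r ∣ Fintype.card F) (k η : ℕ)
    (hk : k = orderOf ((Fintype.card F : ℕ) : ZMod r))
    (hη : (Odd k ∧ η = k) ∨ (Even k ∧ 2 * η = k)) : SpHas F r η := by
  have : Fact r.Prime := ⟨hr⟩
  obtain ⟨ψ, hψ⟩ := (hasSpRep_prime (F := F) r hrq k η hk hη).exists_embedding
  have := SpHas.of_elt (ψ (Multiplicative.ofAdd (1 : ZMod r)))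
  rwa [orderOf_injective ψ hψ, orderOf_ofAdd_one] at this

/-- the torus element of order `4 r` when `e(r, q) = n` and `4 ∣ q - 1` -/
theorem spHas_torus_hyp (r : ℕ) (hr : r.Prime) (hr2 : r ≠ 2) (hrq : ¬ r ∣ Fintype.card F)
    (n : ℕ) (hk : n = orderOf ((Fintype.card F : ℕ) : ZMod r))
    (h4 : Fintype.card F % 4 = 1) : SpHas F (4 * r) n := by
  have : Fact r.Prime := ⟨hr⟩
  have hq1 : 1 ≤ Fintype.card F := Fintype.card_pos
  obtain ⟨K, _, _, _, hfr⟩ := exists_field_ext (F := F) r hrq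
  rw [← hk] at hfr
  have hr_dvd : r ∣ Fintype.card F ^ n - 1 :=
    (Cfsg.Agent.Lib.Helper40_SylowLarge.dvd_pow_sub_one_iff r hq1 _).2 (by rw [← hk])
  have h4_dvd : 4 ∣ Fintype.card F ^ n - 1 := by
    have h1 : Fintype.card F - 1 ∣ Fintype.card F ^ n - 1 := by
      simpa only [one_pow] using Nat.sub_dvd_pow_sub_pow (Fintype.card F) 1 n
    exact Dvd.dvd.trans (by omega) h1
  have hcop : Nat.Coprime 4 r := by
    have : Nat.Coprime 2 r := (Nat.coprime_primes Nat.prime_two hr).2 (Ne.symm hr2)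
    exact Nat.Coprime.pow_left 2 this
  have hdvd : 4 * r ∣ Fintype.card F ^ n - 1 := hcop.mul_dvd_of_dvd_of_dvd h4_dvd hr_dvd
  obtain ⟨ψ, hψ⟩ := (hasSpRep_torus_hyp K n (4 * r) hfr hdvd).exists_embedding
  have := SpHas.of_elt (ψ (Multiplicative.ofAdd (1 : ZMod (4 * r))))
  rwa [orderOf_injective ψ hψ, orderOf_ofAdd_one] at this

/-- the torus element of order `4 r` when `e(r, q) = 2 n`, `n` odd and `4 ∣ q + 1` -/
theorem spHas_torus_inv (r : ℕ) (hr : r.Prime) (hr2 : r ≠ 2) (hrq : ¬ r ∣ Fintype.card F)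
    (n : ℕ) (hn : 0 < n) (hnodd : Odd n) (hk : 2 * n = orderOf ((Fintype.card F : ℕ) : ZMod r))
    (h4 : Fintype.card F % 4 = 3) : SpHas F (4 * r) n := by
  have : Fact r.Prime := ⟨hr⟩
  have hq1 : 1 ≤ Fintype.card F := Fintype.card_pos
  obtain ⟨K, _, _, _, hfr⟩ := exists_field_ext (F := F) r hrq
  rw [← hk] at hfr
  have hr_dvd : r ∣ Fintype.card F ^ n + 1 := dvd_pow_half_add_one hr hq1 hn hk.symm
  have h4_dvd : 4 ∣ Fintype.card F ^ n + 1 := by
    have h1 : Fintype.card F ^ n % 4 = 3 := by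
      obtain ⟨j, rfl⟩ := hnodd
      have h9 : Fintype.card F ^ 2 % 4 = 1 := by
        rw [Nat.pow_mod, h4]
      rw [pow_succ, pow_mul, Nat.mul_mod, Nat.pow_mod, h9, one_pow, h4]
      rfl
    omega
  have hcop : Nat.Coprime 4 r := by
    have : Nat.Coprime 2 r := (Nat.coprime_primes Nat.prime_two hr).2 (Ne.symm hr2)
    exact Nat.Coprime.pow_left 2 this
  have hdvd : 4 * r ∣ Fintype.card F ^ n + 1 := hcop.mul_dvd_of_dvd_of_dvd h4_dvd hr_dvd
  obtain ⟨ψ, hψ⟩ := (hasSpRep_torus_inv K n (4 * r) hn hfr hdvd).exists_embedding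
  have := SpHas.of_elt (ψ (Multiplicative.ofAdd (1 : ZMod (4 * r))))
  rwa [orderOf_injective ψ hψ, orderOf_ofAdd_one] at this

/-- an element of order `p` of `Sp_2(q)` -/
theorem spHas_char (p : ℕ) [Fact p.Prime] [CharP F p] : SpHas F p 1 := by
  have hp : p.Prime := Fact.out
  have hfin : Finite (symplecticGroup (Fin 1) F) := Cfsg.Agent.Lib.Helper40_PSpAdjP.finite_sp
  have hpq : p ∣ Fintype.card F := (CharP.cast_eq_zero_iff F p _).1 (Nat.cast_card_eq_zero F)
  have hcard := Cfsg.Agent.Lib.Helper5_SpOrder.card_sp (F := F) rfl 1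
  have hdvd : p ∣ Nat.card (symplecticGroup (Fin 1) F) := by
    rw [hcard, one_pow, pow_one]
    exact Dvd.dvd.mul_right hpq _
  obtain ⟨g, hg⟩ := exists_prime_orderOf_dvd_card' p hdvd
  have := SpHas.of_elt g
  rwa [hg] at this

/-- an element of order `p` of `O_3(q)` -/
theorem oHas_char (p : ℕ) [Fact p.Prime] [CharP F p] (h2 : (2 : F) ≠ 0)
    (hodd : Odd (Fintype.card F)) : OHas F p 3 := by
  have hp : p.Prime := Fact.out
  have hpq : p ∣ Fintype.card F := (CharP.cast_eq_zero_iff F p _).1 (Nat.cast_card_eq_zero F)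
  have hcard := Cfsg.Agent.S0286.result (F := F) rfl hodd 1
  rw [← coe_qfOdd] at hcard
  have hfin : Finite ↥(Cfsg.isometryGroup F ⇑(qfOdd 1 F)) := by
    apply Nat.finite_of_card_ne_zero
    rw [hcard]
    have hq2 : 2 ≤ Fintype.card F := Fintype.one_lt_card
    have : 0 < Fintype.card F ^ (2 * (0 + 1)) - 1 := by
      have : 2 ^ 2 ≤ Fintype.card F ^ (2 * (0 + 1)) := Nat.pow_le_pow_left hq2 2
      omega
    simp only [Finset.range_one, Finset.prod_singleton]
    positivity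
  have hdvd : p ∣ Nat.card ↥(Cfsg.isometryGroup F ⇑(qfOdd 1 F)) := by
    rw [hcard, one_pow, pow_one]
    exact Dvd.dvd.mul_right (Dvd.dvd.mul_left hpq 2) _
  obtain ⟨g, hg⟩ := exists_prime_orderOf_dvd_card' p hdvd
  have := OHas.of_elt h2 g
  rwa [hg] at this

end finite

/-- the rotation of order four of the plane `x² + y²` -/
theorem oHas_four (h2 : (2 : F) ≠ 0) : OHas F 4 2 := by
  let M : Matrix (Fin 2) (Fin 2) F := !![0, -1; 1, 0]
  let a : Module.End F (Fin 2 → F) := Matrix.toLin' M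
  have happ : ∀ x : Fin 2 → F, a x = ![-x 1, x 0] := by
    intro x
    show M *ᵥ x = _
    funext i
    fin_cases i <;> simp [M, Matrix.mulVec, dotProduct, Fin.sum_univ_two]
  have hM2 : M ^ 2 = -1 := by
    ext i j
    fin_cases i <;> fin_cases j <;> simp [M, pow_two, Matrix.mul_apply, Fin.sum_univ_two]
  have ha2 : a ^ 2 = -1 := by
    show (Matrix.toLin' M) ^ 2 = -1
    rw [← Matrix.toLin'_pow, hM2, map_neg, Matrix.toLin'_one]
    rfl
  refine ⟨(Fin 2 → F), inferInstance, inferInstance, inferInstance, sumSq 2, a, ?_,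
    nondegenerate_sumSq h2 2, ?_, ?_⟩
  · rw [Module.finrank_pi, Fintype.card_fin]
  · intro x
    rw [happ, sumSq_apply, sumSq_apply, Fin.sum_univ_two, Fin.sum_univ_two]
    simp
    ring
  · have : Fact (Nat.Prime 2) := ⟨Nat.prime_two⟩
    have h4 : (4 : ℕ) = 2 ^ (1 + 1) := by norm_num
    rw [h4]
    apply orderOf_eq_prime_pow
    · rw [pow_one, ha2]
      intro h
      have h1 := congrArg (fun f : Module.End F (Fin 2 → F) => f ![1, 0] 0) h
      simp only [LinearMap.neg_apply, Module.End.one_apply, Pi.neg_apply, Matrix.cons_val_zero]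
        at h1
      apply h2
      linear_combination -h1
    · rw [show (2 : ℕ) ^ (1 + 1) = 2 * 2 by norm_num, pow_mul, ha2]
      simp

end Cfsg.Agent.Lib.Helper40_BCExist
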