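import Mathlib
import Cfsg.Agent.Lib.Helper44_Spinor
import Cfsg.Agent.Lib.Helper40_BCInvol
import Cfsg.Agent.Lib.Helper40_QuadIso

set_option autoImplicit false

/-!
# Involutions as products of reflections; discriminants (helper40)
-/

namespace Cfsg.Agent.Lib.Helper40_BCRefl

open Module Matrix Cfsg.Agent.Lib.Helper44_Refl Cfsg.Agent.Lib.Helper44_Spinor
  Cfsg.Agent.Lib.Helper99_Singer Cfsg.Agent.Lib.Helper40_BCInvol

universe v

variable {F : Type v} [Field F]

section refl

variable {ι : Type} [Fintype ι] [DecidableEq ι] (Q : QuadraticForm F (ι → F))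

/-- the product of the reflections of a list of vectors -/
noncomputable abbrev reflProd (vs : List (ι → F)) : Matrix ι ι F :=
  (vs.map (fun v => Cfsg.reflectionMatrix (⇑Q) v)).prod

theorem reflProd_fix (vs : List (ι → F)) (x : ι → F)
    (hx : ∀ v ∈ vs, QuadraticMap.polar (⇑Q) v x = 0) : reflProd Q vs *ᵥ x = x := by
  induction vs with
  | nil => simp [reflProd]
  | cons u vs ih =>
    rw [reflProd, List.map_cons, List.prod_cons, ← Matrix.mulVec_mulVec]
    have h1 : reflProd Q vs *ᵥ x = x := ih (fun v hv => hx v (List.mem_cons_of_mem _ hv))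
    rw [show (vs.map (fun v => Cfsg.reflectionMatrix (⇑Q) v)).prod = reflProd Q vs from rfl, h1,
      reflectionMatrix_mulVec, hx u List.mem_cons_self, mul_zero, zero_smul, sub_zero]

theorem reflProd_neg (vs : List (ι → F)) (hvs : ∀ v ∈ vs, Q v ≠ 0)
    (hpw : vs.Pairwise (fun u v => QuadraticMap.polar (⇑Q) u v = 0)) :
    ∀ v ∈ vs, reflProd Q vs *ᵥ v = -v := by
  induction vs with
  | nil => intro v hv; simp at hv
  | cons u vs ih =>
    rw [List.pairwise_cons] at hpw
    intro v hv
    rw [reflProd, List.map_cons, List.prod_cons, ← Matrix.mulVec_mulVec,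
      show (vs.map (fun v => Cfsg.reflectionMatrix (⇑Q) v)).prod = reflProd Q vs from rfl]
    rcases List.mem_cons.1 hv with rfl | hv'
    · have h1 : reflProd Q vs *ᵥ v = v := by
        apply reflProd_fix
        intro w hw
        rw [QuadraticMap.polar_comm]
        exact hpw.1 w hw
      rw [h1]
      exact reflection_self Q v (hvs v List.mem_cons_self)
    · rw [ih (fun w hw => hvs w (List.mem_cons_of_mem _ hw)) hpw.2 v hv', Matrix.mulVec_neg,
        reflectionMatrix_mulVec, hpw.1 v hv', mul_zero, zero_smul, sub_zero]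

/-- an involutory isometry is the product of the reflections in an orthogonal basis of its
`(-1)`-eigenspace -/
theorem eq_reflProd (h2 : (2 : F) ≠ 0) (M : Matrix ι ι F) (z : Module.End F (ι → F))
    (hzapp : ∀ x, z x = M *ᵥ x) (hzz : z * z = 1)
    (hMQ : ∀ x, Q (M *ᵥ x) = Q x) {m : ℕ}
    (v : Basis (Fin m) F (negSpace z))
    (hv : ∀ i j, i ≠ j → QuadraticMap.polar (⇑Q) (v i : ι → F) (v j : ι → F) = 0)
    (hv0 : ∀ i, Q (v i : ι → F) ≠ 0) :
    M = reflProd Q (List.ofFn (fun i => (v i : ι → F))) := by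
  set vs : List (ι → F) := List.ofFn (fun i => (v i : ι → F)) with hvs
  have hmem : ∀ w ∈ vs, ∃ i, w = (v i : ι → F) := by
    intro w hw
    rw [hvs, List.mem_ofFn] at hw
    obtain ⟨i, rfl⟩ := hw
    exact ⟨i, rfl⟩
  have hvs0 : ∀ w ∈ vs, Q w ≠ 0 := by
    intro w hw
    obtain ⟨i, rfl⟩ := hmem w hw
    exact hv0 i
  have hpw : vs.Pairwise (fun u w => QuadraticMap.polar (⇑Q) u w = 0) := by
    rw [hvs, List.pairwise_ofFn]
    intro i j hij
    exact hv i j (ne_of_lt hij)
  have hzB : ∀ x y, QuadraticMap.polarBilin Q (z x) (z y) = QuadraticMap.polarBilin Q x y := by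
    intro x y
    simp only [QuadraticMap.polarBilin_apply_apply, QuadraticMap.polar]
    rw [← map_add, hzapp, hzapp, hzapp, hMQ, hMQ, hMQ]
  apply matrix_ext_mulVec
  intro x
  have hx : x ∈ fixSpace z ⊔ negSpace z := by
    rw [(isCompl_eigen hzz h2).sup_eq_top]
    trivial
  obtain ⟨y, hy, w, hw, rfl⟩ := Submodule.mem_sup.1 hx
  rw [Matrix.mulVec_add, Matrix.mulVec_add]
  congr 1
  · rw [← hzapp, (mem_fixSpace z y).1 hy]
    symm
    apply reflProd_fix
    intro u hu
    obtain ⟨i, rfl⟩ := hmem u hu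
    have := (ortho_eigen (QuadraticMap.polarBilin Q) hzB h2 hy (v i).2).2
    rwa [QuadraticMap.polarBilin_apply_apply] at this
  · rw [← hzapp, (mem_negSpace z w).1 hw]
    have hrep := v.sum_repr ⟨w, hw⟩
    have hw' : w = ∑ i, (v.repr ⟨w, hw⟩ i) • (v i : ι → F) := by
      have := congrArg Subtype.val hrep
      rw [Submodule.coe_sum] at this
      simp only [Submodule.coe_smul] at this
      exact this.symm
    have hneg : ∀ i, reflProd Q vs *ᵥ (v i : ι → F) = -(v i : ι → F) := by
      intro i
      apply reflProd_neg Q vs hvs0 hpw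
      rw [hvs, List.mem_ofFn]
      exact ⟨i, rfl⟩
    have hlin : reflProd Q vs *ᵥ w = ∑ i, (v.repr ⟨w, hw⟩ i) • (reflProd Q vs *ᵥ (v i : ι → F)) := by
      nth_rewrite 1 [hw']
      rw [← Matrix.mulVecLin_apply, map_sum]
      simp only [map_smul, Matrix.mulVecLin_apply]
    rw [hlin]
    simp only [hneg, smul_neg]
    rw [Finset.sum_neg_distrib, ← hw']

end refl

section disc

variable {W : Type*} [AddCommGroup W] [Module F W] (Q : QuadraticForm F W)
  {κ : Type*} [Fintype κ] [DecidableEq κ]

theorem isSquare_sq_mul_iff {s x : F} (hs : s ≠ 0) : IsSquare (s * s * x) ↔ IsSquare x := by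
  constructor
  · rintro ⟨t, ht⟩
    refine ⟨t / s, ?_⟩
    field_simp
    linear_combination ht
  · rintro ⟨t, rfl⟩
    exact ⟨s * t, by ring⟩

/-- the product of the values of `Q` on an orthogonal basis and the Gram determinant of any other
basis differ by a square, in even dimension -/
theorem isSquare_prod_iff_det (v c : Basis κ F W)
    (hv : ∀ i j, i ≠ j → QuadraticMap.polar (⇑Q) (v i) (v j) = 0)
    (heven : Even (Fintype.card κ)) (h2 : (2 : F) ≠ 0) :
    IsSquare (∏ i, Q (v i)) ↔
      IsSquare (LinearMap.BilinForm.toMatrix c (QuadraticMap.polarBilin Q)).det := by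
  set B := QuadraticMap.polarBilin Q with hB
  have hGv : LinearMap.BilinForm.toMatrix v B = Matrix.diagonal (fun i => 2 * Q (v i)) := by
    ext i j
    rw [LinearMap.BilinForm.toMatrix_apply, Matrix.diagonal_apply]
    by_cases hij : i = j
    · subst hij
      rw [if_pos rfl, hB, QuadraticMap.polarBilin_apply_apply, QuadraticMap.polar_self]
      simp [two_mul]
    · rw [if_neg hij, hB, QuadraticMap.polarBilin_apply_apply]
      exact hv i j hij
  have hdetv : (LinearMap.BilinForm.toMatrix v B).det = 2 ^ Fintype.card κ * ∏ i, Q (v i) := by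
    rw [hGv, Matrix.det_diagonal, Finset.prod_mul_distrib, Finset.prod_const, Finset.card_univ]
  have hchange := LinearMap.BilinForm.toMatrix_mul_basis_toMatrix (b := v) c B
  have hdetc : (LinearMap.BilinForm.toMatrix c B).det =
      (v.toMatrix c).det * (v.toMatrix c).det * (LinearMap.BilinForm.toMatrix v B).det := by
    rw [← hchange, Matrix.det_mul, Matrix.det_mul, Matrix.det_transpose]
    ring
  have hP : (v.toMatrix c).det ≠ 0 := by
    have h1 := Basis.toMatrix_mul_toMatrix_flip v c
    have h3 := congrArg Matrix.det h1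
    rw [Matrix.det_mul, Matrix.det_one] at h3
    exact left_ne_zero_of_mul_eq_one h3
  obtain ⟨j, hj⟩ := heven
  have h2j : (2 : F) ^ j ≠ 0 := pow_ne_zero _ h2
  rw [hdetc, isSquare_sq_mul_iff hP, hdetv, hj, pow_add, isSquare_sq_mul_iff h2j]

/-- the Gram matrix of the basis pulled back along an isometry from a standard space -/
theorem toMatrix_of_iso (Q₀ : QuadraticForm F (κ → F)) (φ : W ≃ₗ[F] (κ → F))
    (hφ : ∀ x, Q₀ (φ x) = Q x) :
    LinearMap.BilinForm.toMatrix ((Pi.basisFun F κ).map φ.symm) (QuadraticMap.polarBilin Q) =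
      Matrix.of (fun i j : κ =>
        QuadraticMap.polar (⇑Q₀) (Pi.single i (1 : F)) (Pi.single j (1 : F))) := by
  ext i j
  rw [LinearMap.BilinForm.toMatrix_apply, Matrix.of_apply, Basis.map_apply, Basis.map_apply,
    Pi.basisFun_apply, Pi.basisFun_apply, QuadraticMap.polarBilin_apply_apply]
  simp only [QuadraticMap.polar]
  rw [← map_add, ← hφ, ← hφ (φ.symm _), ← hφ (φ.symm _), φ.apply_symm_apply, φ.apply_symm_apply,
    φ.apply_symm_apply]

end disc

end Cfsg.Agent.Lib.Helper40_BCRefl
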