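import Mathlib
import Cfsg.Agent.Lib.Helper40_BCRefl
import Cfsg.Agent.Lib.Helper40_QuadStd
import Cfsg.Agent.Lib.Helper40_OFixedFree
import Cfsg.Agent.Lib.Helper40_OClasses
import Cfsg.Agent.Lib.Helper99_PrimeGraphP

set_option autoImplicit false

/-!
# Elements of order `2 r` of `Ω_{2n+1}(q)` when `η(r) = n` (helper40)

If `Ω_{2n+1}(q)` (`q` odd) has an element of order `2 r`, `r` an odd prime different from the
characteristic with `n ≤ η(e(r, q))`, then either `e(r, q) = n` is odd and `q ≡ 1 mod 4`, or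
`e(r, q) = 2 n`, `n` is odd and `q ≡ 3 mod 4`.  The involution `x ^ r` is `-1` on a `2 n`-space
`W` and lies in `Ω`, so the discriminant of `W` is a square; the type of `W` is determined by the
fixed-point-free element `x ^ 2` of order `r`.
-/

namespace Cfsg.Agent.Lib.Helper40_BCHard

open Module Matrix Cfsg.Agent.Lib.Helper44_Refl Cfsg.Agent.Lib.Helper44_Spinor
  Cfsg.Agent.Lib.Helper44_StdForms Cfsg.Agent.Lib.Helper99_Singer
  Cfsg.Agent.Lib.Helper40_SpBasic Cfsg.Agent.Lib.Helper40_OConj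
  Cfsg.Agent.Lib.Helper40_BCInvol Cfsg.Agent.Lib.Helper40_BCRefl Cfsg.Agent.Lib.Helper40_BCTwist
  Cfsg.Agent.Lib.Helper40_QuadIso Cfsg.Agent.Lib.Helper40_QuadStd
  Cfsg.Agent.Lib.Helper40_OFixedFree Cfsg.Agent.Lib.Helper40_OClasses

universe v

variable {F : Type v} [Field F] [Fintype F]

omit [Fintype F] in
/-- anisotropy of `z₁² + z₁ z₂ + ζ z₂²` means `1 - 4 ζ` is not a square -/
theorem not_isSquare_of_aniso (h2 : (2 : F) ≠ 0) (ζ : F)
    (hζ : ∀ z₁ z₂ : F, z₁ ^ 2 + 1 * z₁ * z₂ + ζ * z₂ ^ 2 = 0 → z₁ = 0 ∧ z₂ = 0) :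
    ¬ IsSquare (1 - 4 * ζ) := by
  rintro ⟨s, hs⟩
  have h4 : (4 : F) ≠ 0 := by
    have : (4 : F) = 2 * 2 := by norm_num
    rw [this]
    exact mul_ne_zero h2 h2
  have := hζ ((s - 1) / 2) 1 (by
    field_simp
    linear_combination -hs)
  exact one_ne_zero this.2

section transportFixedFree

variable {W : Type v} [AddCommGroup W] [Module F W] {κ : Type} [Fintype κ] [DecidableEq κ]

omit [Fintype F] [Fintype κ] [DecidableEq κ] in
/-- conjugating an isometry of finite order without fixed vectors along an isometry -/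
theorem conj_props (Q : QuadraticForm F W) (Q₀ : QuadraticForm F (κ → F))
    (φ : W ≃ₗ[F] (κ → F)) (hφ : ∀ x, Q₀ (φ x) = Q x) (b : Module.End F W) (r : ℕ)
    (hb : ∀ x, Q (b x) = Q x) (hpow : b ^ r = 1) (hfix : ∀ x, b x = x → x = 0) :
    (∀ x, Q₀ (φ.conj b x) = Q₀ x) ∧ (φ.conj b) ^ r = 1 ∧ ∀ x, φ.conj b x = x → x = 0 := by
  have happ : ∀ x, φ.conj b x = φ (b (φ.symm x)) := fun x => rfl
  refine ⟨?_, ?_, ?_⟩
  · intro x
    rw [happ, hφ, hb, ← hφ, φ.apply_symm_apply]
  · have h0 : φ.conj b = φ.conjRingEquiv b := rfl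
    rw [h0, ← map_pow, hpow, map_one]
  · intro x hx
    rw [happ] at hx
    have h1 : b (φ.symm x) = φ.symm x := by
      have := congrArg φ.symm hx
      rwa [φ.symm_apply_apply] at this
    have := hfix _ h1
    rwa [LinearEquiv.map_eq_zero_iff] at this

end transportFixedFree

theorem omega_two_r_arith {ι : Type} [Fintype ι] [DecidableEq ι] (Q : QuadraticForm F (ι → F))
    (hQ : (QuadraticMap.polarBilin Q).Nondegenerate) (p : ℕ) [Fact p.Prime] [CharP F p]
    (h2 : (2 : F) ≠ 0) (hodd : Odd (Fintype.card F)) (n : ℕ) (hn : 2 ≤ n)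
    (hcard : Fintype.card ι = 2 * n + 1)
    (g : ↥(Cfsg.isometryGroup F ⇑Q)) (hg : g ∈ Cfsg.Omega F ⇑Q)
    {r : ℕ} (hr : r.Prime) (hr2 : r ≠ 2) (hrp : r ≠ p) (ho : orderOf g = 2 * r)
    (k η : ℕ) (hk : k = orderOf ((Fintype.card F : ℕ) : ZMod r))
    (hη : (Odd k ∧ η = k) ∨ (Even k ∧ 2 * η = k)) (hnη : n ≤ η) :
    (k = n ∧ Odd n ∧ Fintype.card F % 4 = 1) ∨
      (k = 2 * n ∧ Odd n ∧ Fintype.card F % 4 = 3) := by
  classical
  have hrodd : Odd r := hr.odd_of_ne_two hr2
  have hr3 : 3 ≤ r := by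
    have := hr.two_le
    omega
  have hqr : ¬ r ∣ Fintype.card F :=
    Cfsg.Agent.Lib.Helper99_PrimeGraphP.not_dvd_card_of_ne (F := F) p hr hrp
  have hrF : (r : F) ≠ 0 := by
    have hp : p.Prime := Fact.out
    rw [Ne, CharP.cast_eq_zero_iff F p]
    intro h
    exact hrp ((Nat.prime_dvd_prime_iff_eq hp hr).1 h).symm
  set M := mat Q g with hM
  have hisoM : ∀ (j : ℕ) (x : _), Q ((M ^ j) *ᵥ x) = Q x := by
    intro j x
    rw [← mat_pow]
    exact (Cfsg.Agent.Lib.Helper44_Orth.mem_isometryGroup_iff (⇑Q)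
      ((g ^ j : ↥(Cfsg.isometryGroup F ⇑Q)) : Matrix.GeneralLinearGroup _ F)).1 (g ^ j).2 x
  have hM2r : M ^ (2 * r) = 1 := by
    rw [← mat_pow, ← ho, pow_orderOf_eq_one, mat_one]
  have hMj : ∀ j : ℕ, M ^ j = 1 → 2 * r ∣ j := by
    intro j hj
    rw [← ho]
    apply orderOf_dvd_of_pow_eq_one
    rwa [← mat_pow_eq_one_iff]
  -- the involution and the element of order `r`
  set z : Module.End F (ι → F) := Matrix.toLin' (M ^ r) with hz
  set h : Module.End F (ι → F) := Matrix.toLin' (M ^ 2) with hh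
  have hzapp : ∀ x, z x = (M ^ r) *ᵥ x := fun x => Matrix.toLin'_apply _ x
  have hhapp : ∀ x, h x = (M ^ 2) *ᵥ x := fun x => Matrix.toLin'_apply _ x
  have hzz : z * z = 1 := by
    rw [hz, Module.End.mul_eq_comp, ← Matrix.toLin'_mul, ← pow_add, ← two_mul, hM2r,
      Matrix.toLin'_one]
    rfl
  have hzQ : ∀ x, Q (z x) = Q x := fun x => by rw [hzapp, hisoM]
  have hz1 : z ≠ 1 := by
    intro h1
    have : M ^ r = 1 := by
      apply Matrix.toLin'.injective
      rw [← hz, h1, Matrix.toLin'_one]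
      rfl
    have := hMj r this
    have := Nat.le_of_dvd (by omega) this
    omega
  have hd : OData Q h r := by
    refine ⟨fun x => by rw [hhapp, hisoM], ?_, hrodd, hrF⟩
    rw [hh, ← Matrix.toLin'_pow, ← pow_mul, hM2r, Matrix.toLin'_one]
    rfl
  have hh1 : h ≠ 1 := by
    intro h1
    have : M ^ 2 = 1 := by
      apply Matrix.toLin'.injective
      rw [← hh, h1, Matrix.toLin'_one]
      rfl
    have := hMj 2 this
    have := Nat.le_of_dvd (by omega) this
    omega
  have hc : Commute z h := by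
    show z * h = h * z
    rw [hz, hh, Module.End.mul_eq_comp, Module.End.mul_eq_comp, ← Matrix.toLin'_mul,
      ← Matrix.toLin'_mul, ← pow_add, ← pow_add, add_comm]
  have hzB : ∀ x y, QuadraticMap.polarBilin Q (z x) (z y) = QuadraticMap.polarBilin Q x y := by
    intro x y
    simp only [QuadraticMap.polarBilin_apply_apply, QuadraticMap.polar]
    rw [← map_add, hzQ, hzQ, hzQ]
  have hMnd : NDOn (QuadraticMap.polarBilin Q) (negSpace z) := ndOn_neg _ hQ hzB hzz h2
  set W := negSpace z with hW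
  set Qm := resQ Q W with hQm
  have hQmnd : (QuadraticMap.polarBilin Qm).Nondegenerate := nondegenerate_resQ Q W hMnd
  have : Invertible (2 : F) := invertibleOfNonzero h2
  have hsymm : (QuadraticMap.polarBilin Qm).IsSymm := by
    refine ⟨fun x y => ?_⟩
    simp only [QuadraticMap.polarBilin_apply_apply]
    exact QuadraticMap.polar_comm _ _ _
  obtain ⟨v, hv⟩ := LinearMap.BilinForm.exists_orthogonal_basis hsymm
  have hvo : ∀ i j, i ≠ j → QuadraticMap.polar (⇑Q) (v i : _ → F) (v j : _ → F) = 0 := by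
    intro i j hij
    exact (LinearMap.isOrthoᵢ_def.1 hv) i j hij
  have hv0 : ∀ i, Q (v i : _ → F) ≠ 0 := by
    intro i h0
    have h1 := hv.not_isOrtho_basis_self_of_separatingLeft hQmnd.1 i
    apply h1
    show QuadraticMap.polarBilin Qm (v i) (v i) = 0
    rw [polar_resQ, QuadraticMap.polarBilin_apply_apply, Cfsg.Agent.Lib.Helper44_Refl.polar_self,
      h0, mul_zero]
  have hrefl := eq_reflProd Q h2 (M ^ r) z hzapp hzz (hisoM r) v hvo hv0
  set vs : List (ι → F) := List.ofFn (fun i => (v i : _ → F)) with hvs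
  have hvs0 : ∀ w ∈ vs, Q w ≠ 0 := by
    intro w hw
    rw [hvs, List.mem_ofFn] at hw
    obtain ⟨i, rfl⟩ := hw
    exact hv0 i
  have hgr : g ^ r ∈ Cfsg.Omega F ⇑Q := Subgroup.pow_mem _ hg r
  have hcrit := (mem_omega_iff Q h2 (g ^ r) vs hvs0 (by
    show mat Q (g ^ r) = reflProd Q vs
    rw [← hrefl]
    exact mat_pow Q g r)).1 hgr
  obtain ⟨hlen, hsq⟩ := hcrit
  have hlen' : Even (finrank F W) := by
    rwa [hvs, List.length_ofFn] at hlen
  have hsq' : IsSquare (∏ i, Qm (v i)) := by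
    rw [hvs, List.map_ofFn, List.prod_ofFn] at hsq
    exact hsq
  have hpos : 0 < finrank F W := by
    rw [Nat.pos_iff_ne_zero]
    intro h0
    exact neg_ne_bot hzz h2 hz1 (Submodule.finrank_eq_zero.1 h0)
  have hdim : finrank F (ι → F) = 2 * n + 1 := by
    rw [Module.finrank_pi, hcard]
  obtain ⟨hηn, hW2n, hfpf⟩ := o_invol_analysis Q hQ n hdim h hr hqr hd hh1 z hzz hzQ hc h2
    hlen' hpos k η hk hη hnη
  have hk1 : orderOf ((Fintype.card F : ℕ) : ZMod r) ≠ 1 := by
    rw [← hk]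
    rintro rfl
    rcases hη with ⟨_, h1⟩ | ⟨h1, _⟩
    · omega
    · exact absurd h1 (by decide)
  have hMinv : Inv h W := inv_neg_of_commute hc
  have hdW : OData Qm (h.restrict hMinv) r := oData_restrict hd hMinv
  have hfpfW : ∀ x : W, h.restrict hMinv x = x → x = 0 := by
    intro x hx
    apply Subtype.ext
    exact hfpf x x.2 (congrArg Subtype.val hx)
  have hn1 : 1 ≤ n := by omega
  obtain ⟨ζ, hζ⟩ := exists_aniso (F := F)
  have hcardmod : Fintype.card F % 2 = 1 := Nat.odd_iff.1 hodd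
  rcases iso_plus_or_minus n hn1 hW2n Qm hQmnd 1 ζ hζ with ⟨φ, hφ⟩ | ⟨φ, hφ⟩
  · left
    obtain ⟨hiso', hpow', hfix'⟩ := conj_props Qm (qfPlus n F) φ hφ (h.restrict hMinv) r hdW.iso
      hdW.pow hfpfW
    have hkn := plus_fixedFree n hn1 r hr (φ.conj (h.restrict hMinv)) hiso' hpow' hfix' hk1
    rw [← hk] at hkn
    have hkodd : Odd k ∧ η = k := by
      rcases hη with h1 | ⟨_, h1⟩
      · exact h1
      · exfalso
        have := Nat.le_of_dvd (by omega) hkn
        omega
    have hkeq : k = n := by omega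
    have hnodd : Odd n := hkeq ▸ hkodd.1
    refine ⟨hkeq, hnodd, ?_⟩
    -- discriminant
    have hcardκ : Fintype.card (Fin (finrank F W)) = Fintype.card (Fin n ⊕ Fin n) := by
      rw [Fintype.card_fin, Fintype.card_sum, Fintype.card_fin, hW2n, two_mul]
    let e := Fintype.equivOfCardEq hcardκ
    let v' : Basis (Fin n ⊕ Fin n) F W := v.reindex e
    let c : Basis (Fin n ⊕ Fin n) F W := (Pi.basisFun F (Fin n ⊕ Fin n)).map φ.symm
    have hv'o : ∀ i j, i ≠ j → QuadraticMap.polar (⇑Qm) (v' i) (v' j) = 0 := by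
      intro i j hij
      show QuadraticMap.polar (⇑Qm) (v.reindex e i) (v.reindex e j) = 0
      rw [Basis.reindex_apply, Basis.reindex_apply]
      exact hvo _ _ (fun h => hij (e.symm.injective h))
    have hprod : ∏ i, Qm (v' i) = ∏ i, Qm (v i) := by
      have : ∀ i, Qm (v' i) = Qm (v (e.symm i)) := fun i => by
        show Qm (v.reindex e i) = _
        rw [Basis.reindex_apply]
      simp only [this]
      exact Equiv.prod_comp e.symm (fun i => Qm (v i))
    have hevenκ : Even (Fintype.card (Fin n ⊕ Fin n)) := by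
      rw [Fintype.card_sum, Fintype.card_fin]
      exact ⟨n, rfl⟩
    have hdisc := (isSquare_prod_iff_det Qm v' c hv'o hevenκ h2).1 (by rw [hprod]; exact hsq')
    rw [toMatrix_of_iso Qm (qfPlus n F) φ hφ, coe_qfPlus, det_gram_quadFormPlus,
      hnodd.neg_one_pow, FiniteField.isSquare_neg_one_iff] at hdisc
    omega
  · right
    obtain ⟨hiso', hpow', hfix'⟩ := conj_props Qm (qfMinus (n - 1) F 1 ζ) φ hφ
      (h.restrict hMinv) r hdW.iso hdW.pow hfpfW
    have hkn := minus_fixedFree n hn1 r hr hr2 1 ζ hζ (φ.conj (h.restrict hMinv)) hiso' hpow' hfix'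
      hk1
    rw [← hk] at hkn
    have hkev : Even k ∧ 2 * η = k := by
      rcases hη with ⟨_, h1⟩ | h1
      · exfalso
        apply hkn
        rw [← h1, hηn]
      · exact h1
    have hkeq : k = 2 * n := by omega
    -- discriminant
    have hcardκ : Fintype.card (Fin (finrank F W)) =
        Fintype.card ((Fin (n - 1) ⊕ Fin (n - 1)) ⊕ Fin 2) := by
      rw [Fintype.card_fin, Fintype.card_sum, Fintype.card_sum, Fintype.card_fin, Fintype.card_fin,
        hW2n]
      omega
    let e := Fintype.equivOfCardEq hcardκ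
    let v' : Basis ((Fin (n - 1) ⊕ Fin (n - 1)) ⊕ Fin 2) F W := v.reindex e
    let c : Basis ((Fin (n - 1) ⊕ Fin (n - 1)) ⊕ Fin 2) F W :=
      (Pi.basisFun F ((Fin (n - 1) ⊕ Fin (n - 1)) ⊕ Fin 2)).map φ.symm
    have hv'o : ∀ i j, i ≠ j → QuadraticMap.polar (⇑Qm) (v' i) (v' j) = 0 := by
      intro i j hij
      show QuadraticMap.polar (⇑Qm) (v.reindex e i) (v.reindex e j) = 0
      rw [Basis.reindex_apply, Basis.reindex_apply]
      exact hvo _ _ (fun h => hij (e.symm.injective h))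
    have hprod : ∏ i, Qm (v' i) = ∏ i, Qm (v i) := by
      have : ∀ i, Qm (v' i) = Qm (v (e.symm i)) := fun i => by
        show Qm (v.reindex e i) = _
        rw [Basis.reindex_apply]
      simp only [this]
      exact Equiv.prod_comp e.symm (fun i => Qm (v i))
    have hevenκ : Even (Fintype.card ((Fin (n - 1) ⊕ Fin (n - 1)) ⊕ Fin 2)) := by
      rw [Fintype.card_sum, Fintype.card_sum, Fintype.card_fin, Fintype.card_fin]
      exact ⟨n, by omega⟩
    have hdisc := (isSquare_prod_iff_det Qm v' c hv'o hevenκ h2).1 (by rw [hprod]; exact hsq')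
    rw [toMatrix_of_iso Qm (qfMinus (n - 1) F 1 ζ) φ hφ, coe_qfMinus,
      det_gram_quadFormMinus] at hdisc
    have hns := not_isSquare_of_aniso h2 ζ hζ
    have hnodd : Odd n := by
      by_contra hne
      rw [Nat.not_odd_iff_even] at hne
      have h1 : Odd (n - 1) := by
        obtain ⟨j, hj⟩ := hne
        exact ⟨j - 1, by omega⟩
      rw [h1.neg_one_pow] at hdisc
      apply hns
      have : (-1 : F) * (4 * ζ - 1 ^ 2) = 1 - 4 * ζ := by ring
      rwa [this] at hdisc
    refine ⟨hkeq, hnodd, ?_⟩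
    have h1 : Even (n - 1) := by
      obtain ⟨j, hj⟩ := hnodd
      exact ⟨j, by omega⟩
    rw [h1.neg_one_pow, one_mul] at hdisc
    obtain ⟨t, ht⟩ := hdisc
    have hnsq : ¬ IsSquare (-1 : F) := by
      rintro ⟨u, hu⟩
      apply hns
      refine ⟨u * t, ?_⟩
      have : (1 : F) - 4 * ζ = (-1) * (4 * ζ - 1 ^ 2) := by ring
      rw [this, ht, hu]
      ring
    rw [FiniteField.isSquare_neg_one_iff] at hnsq
    omega

end Cfsg.Agent.Lib.Helper40_BCHard
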