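import Mathlib
import Cfsg.Agent.Lib.Helper40_BCExist
import Cfsg.Agent.Lib.Helper40_BCHard
import Cfsg.Agent.Lib.Helper40_PSpAdjRS
import Cfsg.Agent.Lib.Helper43_OrthReal
import Cfsg.Agent.S0821

set_option autoImplicit false

/-!
# The prime graphs of `Ω_{2n+1}(q)` and `PSp_{2n}(q)` coincide (helper40)

Assembly of the case analysis: for distinct primes `r, s`, `Ω_{2n+1}(q)` has an element of order
`r s` iff `PSp_{2n}(q)` has one (`q` odd, `n ≥ 3`).
-/

namespace Cfsg.Agent.Lib.Helper40_BCMain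

open Polynomial Module Matrix Cfsg.Agent.Lib.Helper40_SpBasic Cfsg.Agent.Lib.Helper40_SpMatrix
  Cfsg.Agent.Lib.Helper44_StdForms Cfsg.Agent.Lib.Helper40_OConj
  Cfsg.Agent.Lib.Helper40_BCData Cfsg.Agent.Lib.Helper40_BCTransport
  Cfsg.Agent.Lib.Helper40_BCTwist Cfsg.Agent.Lib.Helper40_BCInvol
  Cfsg.Agent.Lib.Helper40_BCHard Cfsg.Agent.Lib.Helper40_BCExist
  Cfsg.Agent.Lib.Helper40_PSpAdjP Cfsg.Agent.Lib.Helper40_PSpAdjRS
  Cfsg.Agent.Lib.Helper99_PrimeGraphP

universe v

variable {F : Type v} [Field F]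

section abstractLemmas

variable {V : Type v} [AddCommGroup V] [Module F V]

/-- in characteristic `p` an endomorphism with `u ^ p = 1` is unipotent -/
theorem isNilpotent_sub_one_end (p : ℕ) [Fact p.Prime] [CharP F p] (u : Module.End F V)
    (h : u ^ p = 1) : IsNilpotent (u - 1) := by
  have hpoly : ((X : F[X]) - 1) ^ p = X ^ p - 1 := by
    rw [sub_pow_char, one_pow]
  have h2 : aeval u (((X : F[X]) - 1) ^ p) = (u - 1) ^ p := by
    rw [map_pow, map_sub, aeval_X, map_one]
  have h3 : aeval u ((X : F[X]) ^ p - 1) = 0 := by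
    rw [map_sub, map_pow, aeval_X, map_one, h, sub_self]
  exact ⟨p, by rw [← h2, hpoly, h3]⟩

theorem iso_pow_q {Q : QuadraticForm F V} {a : Module.End F V} (h : ∀ x, Q (a x) = Q x)
    (k : ℕ) (x : V) : Q ((a ^ k) x) = Q x := by
  induction k generalizing x with
  | zero => simp
  | succ k ih => rw [pow_succ, Module.End.mul_apply, ih, h]

theorem iso_pow_b {B : LinearMap.BilinForm F V} {a : Module.End F V}
    (h : ∀ x y, B (a x) (a y) = B x y) (k : ℕ) (x y : V) :
    B ((a ^ k) x) ((a ^ k) y) = B x y := by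
  induction k generalizing x y with
  | zero => simp
  | succ k ih => rw [pow_succ, Module.End.mul_apply, Module.End.mul_apply, ih, h]

variable [Fintype F] [FiniteDimensional F V]

/-- an orthogonal isometry of order `r p` -/
theorem o_rp_bound (p : ℕ) [Fact p.Prime] [CharP F p] (Q : QuadraticForm F V)
    (hQ : (QuadraticMap.polarBilin Q).Nondegenerate) (a : Module.End F V)
    (hiso : ∀ x, Q (a x) = Q x) {r : ℕ} (hr : r.Prime) (hr2 : r ≠ 2) (hrp : r ≠ p)
    (ho : orderOf a = r * p) (k η : ℕ) (hk : k = orderOf ((Fintype.card F : ℕ) : ZMod r))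
    (hη : (Odd k ∧ η = k) ∨ (Even k ∧ 2 * η = k)) : 2 * η + 2 ≤ finrank F V := by
  have hp : p.Prime := Fact.out
  have hcr : (a ^ p) ^ r = 1 := by
    rw [← pow_mul, mul_comm, ← ho]
    exact pow_orderOf_eq_one a
  have hup : (a ^ r) ^ p = 1 := by
    rw [← pow_mul, ← ho]
    exact pow_orderOf_eq_one a
  have hc1 : a ^ p ≠ 1 := by
    intro h1
    have h3 : r * p ∣ p := by
      rw [← ho]
      exact orderOf_dvd_of_pow_eq_one h1
    have h4 := Nat.le_of_dvd hp.pos h3
    nlinarith [hr.two_le, hp.pos]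
  have hu1 : a ^ r ≠ 1 := by
    intro h1
    have h3 : r * p ∣ r := by
      rw [← ho]
      exact orderOf_dvd_of_pow_eq_one h1
    have h4 := Nat.le_of_dvd hr.pos h3
    nlinarith [hp.two_le, hr.pos]
  have hd : OData Q (a ^ p) r :=
    ⟨iso_pow_q hiso p, hcr, hr.odd_of_ne_two hr2, cast_ne_zero_of_ne p hr hrp⟩
  have hcomm : Commute (a ^ p) (a ^ r) := (Commute.refl a).pow_pow p r
  exact o_two_eta_add_two_le Q hQ (a ^ p) hr hr2 (not_dvd_card_of_ne p hr hrp) hd hc1 (a ^ r)
    hcomm (isNilpotent_sub_one_end p (a ^ r) hup) hu1 k η hk hη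

/-- a power which is an involution different from `± 1` and a power of prime order `r` -/
theorem sp_invol_pow_bound (p : ℕ) [Fact p.Prime] [CharP F p] (h2 : (2 : F) ≠ 0)
    (B : LinearMap.BilinForm F V) (hB : B.Nondegenerate) (halt : ∀ x, B x x = 0)
    (a : Module.End F V) (hiso : ∀ x y, B (a x) (a y) = B x y) {r : ℕ} (hr : r.Prime)
    (hrp : r ≠ p) (m j : ℕ) (hz2 : a ^ (2 * m) = 1) (hz1 : a ^ m ≠ 1) (hzn : a ^ m ≠ -1)
    (hjr : a ^ (j * r) = 1) (hj1 : a ^ j ≠ 1) (k η : ℕ)
    (hk : k = orderOf ((Fintype.card F : ℕ) : ZMod r))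
    (hη : (Odd k ∧ η = k) ∨ (Even k ∧ 2 * η = k)) : 2 * η + 2 ≤ finrank F V := by
  have hd : IsoData B (a ^ j) r :=
    ⟨halt, iso_pow_b hiso j, by rw [← pow_mul]; exact hjr, hr.pos⟩
  exact sp_invol_bound B hB (a ^ j) hr (not_dvd_card_of_ne p hr hrp)
    (cast_ne_zero_of_ne p hr hrp) hd hj1 (a ^ m) (by rw [← pow_add, ← two_mul]; exact hz2)
    (iso_pow_b hiso m) ((Commute.refl a).pow_pow m j) hz1 hzn h2 k η hk hη

end abstractLemmas

section psp

variable [Fintype F] {n : ℕ}

omit [Fintype F] in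
theorem one_ne_neg_one_mat (h2 : (2 : F) ≠ 0) (hn : 1 ≤ n) :
    (1 : Matrix (Fin n ⊕ Fin n) (Fin n ⊕ Fin n) F) ≠ -1 := by
  intro h
  have h1 := congrFun (congrFun h (Sum.inl ⟨0, hn⟩)) (Sum.inl ⟨0, hn⟩)
  rw [Matrix.neg_apply, Matrix.one_apply_eq] at h1
  apply h2
  linear_combination h1

omit [Fintype F] in
theorem mem_center_of_coe_eq_neg_one (g : symplecticGroup (Fin n) F)
    (hg : (g : Matrix (Fin n ⊕ Fin n) (Fin n ⊕ Fin n) F) = -1) :
    g ∈ Subgroup.center (symplecticGroup (Fin n) F) := by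
  rw [Subgroup.mem_center_iff]
  intro h
  apply Subtype.ext
  rw [Submonoid.coe_mul, Submonoid.coe_mul, hg]
  simp

omit [Fintype F] in
theorem spLin_eq_toLin' (g : symplecticGroup (Fin n) F) :
    spLin n g = Matrix.toLin' (g : Matrix (Fin n ⊕ Fin n) (Fin n ⊕ Fin n) F) := rfl

omit [Fintype F] in
/-- a power of the linear map is `-1` iff the matrix power is -/
theorem spLin_pow_eq_neg_one_iff (g : symplecticGroup (Fin n) F) (k : ℕ) :
    (spLin n g) ^ k = -1 ↔
      ((g ^ k : symplecticGroup (Fin n) F) : Matrix (Fin n ⊕ Fin n) (Fin n ⊕ Fin n) F) = -1 := by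
  rw [← map_pow, spLin_eq_toLin']
  constructor
  · intro h
    apply Matrix.toLin'.injective
    rw [h, map_neg, Matrix.toLin'_one]
    rfl
  · intro h
    rw [h, map_neg, Matrix.toLin'_one]
    rfl

omit [Fintype F] in
theorem spLin_pow_eq_one_iff (g : symplecticGroup (Fin n) F) (k : ℕ) :
    (spLin n g) ^ k = 1 ↔ g ^ k = 1 := by
  rw [← map_pow]
  constructor
  · intro h
    apply spLin_injective
    rw [h, map_one]
  · intro h
    rw [h, map_one]

omit [Fintype F] in
theorem orderOf_spLin (g : symplecticGroup (Fin n) F) : orderOf (spLin n g) = orderOf g :=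
  orderOf_injective (spLin n) spLin_injective g

/-- if `n ≤ η` an element of order `4 r` of `Sp_{2n}(q)` has order `2 r` modulo the centre -/
theorem psp_two_r_of_four_r (p : ℕ) [Fact p.Prime] [CharP F p] (h2 : (2 : F) ≠ 0) (hn : 1 ≤ n)
    {r : ℕ} (hr : r.Prime) (hr2 : r ≠ 2) (hrp : r ≠ p) (k η : ℕ)
    (hk : k = orderOf ((Fintype.card F : ℕ) : ZMod r))
    (hη : (Odd k ∧ η = k) ∨ (Even k ∧ 2 * η = k)) (hnη : n ≤ η)
    (g : symplecticGroup (Fin n) F) (hg : orderOf g = 4 * r) :
    orderOf (QuotientGroup.mk g : Cfsg.PSp n F) = 2 * r := by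
  have hr3 : 3 ≤ r := by
    have := hr.two_le
    omega
  set c := spLin n g with hc
  have hoc : orderOf c = 4 * r := by rw [hc, orderOf_spLin, hg]
  have hneg : c ^ (2 * r) = -1 := by
    by_contra hne
    have hb := sp_invol_pow_bound p h2 (Jform n F) Jform_nondeg Jform_alt c (spLin_iso g) hr hrp
      (2 * r) 4 (by
        have : 2 * (2 * r) = 4 * r := by ring
        rw [this, ← hoc]
        exact pow_orderOf_eq_one c)
      (by
        intro h1
        have h3 : 4 * r ∣ 2 * r := by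
          rw [← hoc]
          exact orderOf_dvd_of_pow_eq_one h1
        have := Nat.le_of_dvd (by omega) h3
        omega)
      hne
      (by
        rw [← hoc]
        exact pow_orderOf_eq_one c)
      (by
        intro h1
        have h3 : 4 * r ∣ 4 := by
          rw [← hoc]
          exact orderOf_dvd_of_pow_eq_one h1
        have := Nat.le_of_dvd (by omega) h3
        omega)
      k η hk hη
    rw [finrank_vec] at hb
    omega
  have hgneg := (spLin_pow_eq_neg_one_iff g (2 * r)).1 hneg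
  have hcen : g ^ (2 * r) ∈ Subgroup.center (symplecticGroup (Fin n) F) :=
    mem_center_of_coe_eq_neg_one _ hgneg
  apply Nat.dvd_antisymm
  · apply orderOf_dvd_of_pow_eq_one
    rw [← QuotientGroup.mk_pow]
    exact (QuotientGroup.eq_one_iff _).2 hcen
  · set d := orderOf (QuotientGroup.mk g : Cfsg.PSp n F) with hd
    have hcen' : g ^ d ∈ Subgroup.center (symplecticGroup (Fin n) F) := by
      rw [← QuotientGroup.eq_one_iff, QuotientGroup.mk_pow, hd]
      exact pow_orderOf_eq_one _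
    have h3 : g ^ (d * 2) = 1 := by
      rw [pow_mul]
      exact sq_eq_one_of_mem_center hn _ hcen'
    have h4 : 4 * r ∣ d * 2 := by
      rw [← hg]
      exact orderOf_dvd_of_pow_eq_one h3
    have h5 : (2 * r) * 2 ∣ d * 2 := by
      have : (2 * r) * 2 = 4 * r := by ring
      rw [this]
      exact h4
    exact Nat.dvd_of_mul_dvd_mul_right (by norm_num) h5

/-- an element of order `2 r` of `PSp_{2n}(q)`: either `η + 1 ≤ n` or a twisted orthogonal
isometry of order `4 r` in dimension `2 n` -/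
theorem sp_of_psp_two_r (p : ℕ) [Fact p.Prime] [CharP F p] (h2 : (2 : F) ≠ 0) (hn : 1 ≤ n)
    {r : ℕ} (hr : r.Prime) (hr2 : r ≠ 2) (hrp : r ≠ p) (k η : ℕ)
    (hk : k = orderOf ((Fintype.card F : ℕ) : ZMod r))
    (hη : (Odd k ∧ η = k) ∨ (Even k ∧ 2 * η = k))
    (gbar : Cfsg.PSp n F) (ho : orderOf gbar = 2 * r) :
    η + 1 ≤ n ∨ OHas F (4 * r) (2 * n) := by
  have hr3 : 3 ≤ r := by
    have := hr.two_le
    omega
  obtain ⟨g, rfl⟩ := QuotientGroup.mk_surjective gbar
  have hmk : ∀ j : ℕ, g ^ j ∈ Subgroup.center (symplecticGroup (Fin n) F) → 2 * r ∣ j := by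
    intro j hj
    rw [← ho]
    apply orderOf_dvd_of_pow_eq_one
    rw [← QuotientGroup.mk_pow]
    exact (QuotientGroup.eq_one_iff _).2 hj
  have hcen : g ^ (2 * r) ∈ Subgroup.center (symplecticGroup (Fin n) F) := by
    rw [← QuotientGroup.eq_one_iff, QuotientGroup.mk_pow, ← ho]
    exact pow_orderOf_eq_one _
  set c := spLin n g with hc
  rcases Cfsg.Agent.S0246.center_eq_one_or_neg_one n hn _ hcen with h1 | h1
  · -- `g ^ (2 r) = 1`
    left
    have hg1 : g ^ (2 * r) = 1 := Subtype.ext h1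
    have hb := sp_invol_pow_bound p h2 (Jform n F) Jform_nondeg Jform_alt c (spLin_iso g) hr hrp
      r 2 ((spLin_pow_eq_one_iff g _).2 hg1)
      (by
        intro h3
        have h4 := (spLin_pow_eq_one_iff g _).1 h3
        have h5 := hmk r (by rw [h4]; exact Subgroup.one_mem _)
        have := Nat.le_of_dvd hr.pos h5
        omega)
      (by
        intro h3
        have h4 := (spLin_pow_eq_neg_one_iff g _).1 h3
        have h5 := hmk r (mem_center_of_coe_eq_neg_one _ h4)
        have := Nat.le_of_dvd hr.pos h5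
        omega)
      ((spLin_pow_eq_one_iff g _).2 hg1)
      (by
        intro h3
        have h4 := (spLin_pow_eq_one_iff g _).1 h3
        have h5 := hmk 2 (by rw [h4]; exact Subgroup.one_mem _)
        have := Nat.le_of_dvd (by norm_num) h5
        omega)
      k η hk hη
    rw [finrank_vec] at hb
    omega
  · -- `g ^ (2 r) = -1`
    right
    have hneg : c ^ (2 * r) = -1 := (spLin_pow_eq_neg_one_iff g _).2 h1
    have hg4 : g ^ (4 * r) = 1 := by
      have : 4 * r = (2 * r) * 2 := by ring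
      rw [this, pow_mul]
      exact sq_eq_one_of_mem_center hn _ hcen
    have hord : orderOf g = 4 * r := by
      have hd1 : orderOf g ∣ 4 * r := orderOf_dvd_of_pow_eq_one hg4
      have hd2 : 2 * r ∣ orderOf g := by
        apply hmk
        rw [pow_orderOf_eq_one]
        exact Subgroup.one_mem _
      obtain ⟨t, ht⟩ := hd2
      have ht2 : t ∣ 2 := by
        have h5 : (2 * r) * t ∣ (2 * r) * 2 := by
          rw [← ht]
          have : (2 * r) * 2 = 4 * r := by ring
          rw [this]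
          exact hd1
        exact Nat.dvd_of_mul_dvd_mul_left (by omega) h5
      rcases (Nat.dvd_prime Nat.prime_two).1 ht2 with h6 | h6
      · exfalso
        rw [h6, mul_one] at ht
        have h7 : g ^ (2 * r) = 1 := by
          rw [← ht]
          exact pow_orderOf_eq_one g
        rw [h7] at h1
        exact one_ne_neg_one_mat h2 hn h1
      · rw [ht, h6]
        ring
    have hoc : orderOf c = 4 * r := by rw [hc, orderOf_spLin, hord]
    have hd : IsoData (Jform n F) c (4 * r) :=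
      ⟨Jform_alt, spLin_iso g, by rw [← hoc]; exact pow_orderOf_eq_one c, by omega⟩
    have hinj : ∀ x, (c * c) x = x → x = 0 := by
      intro x hx
      have h3 : (c ^ (2 * r)) x = x := by
        rw [pow_mul, pow_two]
        exact pow_fix hx r
      rw [hneg, LinearMap.neg_apply, Module.End.one_apply] at h3
      have h4 : (2 : F) • x = 0 := by
        rw [two_smul]
        nth_rewrite 1 [← h3]
        exact neg_add_cancel x
      rcases smul_eq_zero.1 h4 with h5 | h5
      · exact absurd h5 h2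
      · exact h5
    obtain ⟨Q, hQ, -, hinv⟩ := twist_sp_to_o (Jform n F) c (4 * r) hd Jform_nondeg hinj
    exact ⟨(Fin n ⊕ Fin n → F), inferInstance, inferInstance, inferInstance, Q, c, finrank_vec, hQ,
      hinv c (Commute.refl c) (spLin_iso g), hoc⟩

end psp

section omega

variable [Fintype F]

omit [Fintype F] in
theorem exists_eta (k : ℕ) : ∃ η, (Odd k ∧ η = k) ∨ (Even k ∧ 2 * η = k) := by
  rcases Nat.even_or_odd k with h | h
  · obtain ⟨m, hm⟩ := h
    exact ⟨m, Or.inr ⟨⟨m, hm⟩, by omega⟩⟩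
  · exact ⟨k, Or.inl ⟨h, rfl⟩⟩

/-- abstract orthogonal data in dimension `2 n + 1` give an element of `Ω_{2n+1}(q)` -/
theorem omega_of_oHas (h2 : (2 : F) ≠ 0) (n N : ℕ) (hN : 0 < N) (h : OHas F N (2 * n + 1)) :
    ∃ x : ↥(Cfsg.Omega F (Cfsg.quadFormOdd n F)), orderOf x = N / Nat.gcd N 2 := by
  rw [← coe_qfOdd]
  obtain ⟨g, hg⟩ := OHas.exists_elt hN h
  have hQ := Cfsg.Agent.Lib.Helper14_POmegaSimple.nondegenerate_qfOdd h2 n
  refine ⟨⟨g * g, Cfsg.Agent.Lib.Helper43_OrthReal.sq_mem_commutator h2 (qfOdd n F) hQ g⟩, ?_⟩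
  rw [← hg, ← orderOf_pow' g two_ne_zero, pow_two]
  exact Subgroup.orderOf_mk _ _

omit [Fintype F] in
/-- an element of `Ω_{2n+1}(q)` gives abstract orthogonal data -/
theorem oHas_of_omega (h2 : (2 : F) ≠ 0) (n : ℕ)
    (x : ↥(Cfsg.Omega F (Cfsg.quadFormOdd n F))) : OHas F (orderOf x) (2 * n + 1) := by
  revert x
  rw [← coe_qfOdd]
  intro x
  have := OHas.of_elt h2 (x : ↥(Cfsg.isometryGroup F ⇑(qfOdd n F)))
  rwa [Subgroup.orderOf_coe] at this

/-- element orders of `PΩ_{2n+1}(q)` are those of `Ω_{2n+1}(q)` -/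
theorem range_pomega (hodd : Odd (Fintype.card F)) (n : ℕ) (hn : 3 ≤ n) (N : ℕ) :
    N ∈ Set.range (orderOf : Cfsg.POmega F (Cfsg.quadFormOdd n F) → ℕ) ↔
      ∃ x : ↥(Cfsg.Omega F (Cfsg.quadFormOdd n F)), orderOf x = N := by
  have hcen := Cfsg.Agent.S0821.center_omega_odd hodd n hn
  have hinj : Function.Injective
      (QuotientGroup.mk' (Subgroup.center ↥(Cfsg.Omega F (Cfsg.quadFormOdd n F)))) := by
    rw [← MonoidHom.ker_eq_bot_iff, QuotientGroup.ker_mk', hcen]
  constructor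
  · rintro ⟨y, hy⟩
    obtain ⟨x, rfl⟩ := QuotientGroup.mk_surjective y
    refine ⟨x, ?_⟩
    rw [← hy]
    exact (orderOf_injective _ hinj x).symm
  · rintro ⟨x, hx⟩
    refine ⟨QuotientGroup.mk x, ?_⟩
    rw [← hx]
    exact orderOf_injective _ hinj x

end omega

section cases

variable [Fintype F]

/-- orders which are odd and prime to the characteristic -/
theorem case_odd (h2 : (2 : F) ≠ 0) (n : ℕ) (hn : 1 ≤ n) (N : ℕ) (hodd : Odd N)
    (hne : (N : F) ≠ 0) :
    (∃ x : ↥(Cfsg.Omega F (Cfsg.quadFormOdd n F)), orderOf x = N) ↔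
      ∃ g : Cfsg.PSp n F, orderOf g = N := by
  constructor
  · rintro ⟨x, hx⟩
    have h1 := oHas_of_omega h2 n x
    rw [hx] at h1
    obtain ⟨m, hm, h3⟩ := OHas.to_sp_odd h1 hodd hne
    obtain ⟨g, hg⟩ := SpHas.exists_elt (h3.extend (by omega : m ≤ n))
    refine ⟨QuotientGroup.mk g, ?_⟩
    rw [orderOf_mk_of_odd hn g (by rw [hg]; exact hodd), hg]
  · rintro ⟨g, hg⟩
    obtain ⟨g0, hg0⟩ := exists_lift_of_odd hn g (by rw [hg]; exact hodd)
    have h1 := SpHas.of_elt g0
    rw [hg0, hg] at h1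
    obtain ⟨d, hd, h3⟩ := SpHas.to_o_odd h1 hodd hne
    obtain ⟨x, hx⟩ := omega_of_oHas h2 n N hodd.pos (h3.extend h2 (by omega))
    refine ⟨x, ?_⟩
    rw [hx]
    have h4 : Nat.gcd N 2 = 1 := Nat.coprime_two_right.2 hodd
    rw [h4, Nat.div_one]

variable (p : ℕ) [Fact p.Prime] [CharP F p]

/-- an odd prime and the characteristic -/
theorem case_r_p (h2 : (2 : F) ≠ 0) (hodd : Odd (Fintype.card F)) (n : ℕ) (hn : 1 ≤ n) {r : ℕ}
    (hr : r.Prime) (hr2 : r ≠ 2) (hrp : r ≠ p) :
    (∃ x : ↥(Cfsg.Omega F (Cfsg.quadFormOdd n F)), orderOf x = r * p) ↔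
      ∃ g : Cfsg.PSp n F, orderOf g = r * p := by
  have hp : p.Prime := Fact.out
  have hp2 : p ≠ 2 := by
    intro h
    apply h2
    have := CharP.cast_eq_zero F p
    rw [h] at this
    exact_mod_cast this
  obtain ⟨η, hη⟩ := exists_eta (orderOf ((Fintype.card F : ℕ) : ZMod r))
  constructor
  · rintro ⟨x, hx⟩
    obtain ⟨V, _, _, _, Q, a, hfr, hQ, hiso, ho⟩ := oHas_of_omega h2 n x
    rw [hx] at ho
    have hb := o_rp_bound p Q hQ a hiso hr hr2 hrp ho _ η rfl hη
    rw [hfr] at hb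
    exact exists_order p hr hr2 hrp _ η rfl hη (by omega)
  · rintro ⟨g, hg⟩
    have hle : η + 1 ≤ n := by
      by_contra hlt
      exact no_order p hr hr2 hrp _ η rfl hη (by omega) g hg
    have h1 := spHas_prime (F := F) r hr (not_dvd_card_of_ne p hr hrp) _ η rfl hη
    obtain ⟨d, hd, h3⟩ := SpHas.to_o_odd h1 (hr.odd_of_ne_two hr2) (cast_ne_zero_of_ne p hr hrp)
    have h4 := h3.add (oHas_char (F := F) p h2 hodd)
    have hcop : Nat.Coprime r p := (Nat.coprime_primes hr hp).2 hrp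
    rw [hcop.lcm_eq_mul] at h4
    have hodd' : Odd (r * p) := (hr.odd_of_ne_two hr2).mul (hp.odd_of_ne_two hp2)
    obtain ⟨x, hx⟩ := omega_of_oHas h2 n (r * p) hodd'.pos (h4.extend h2 (by omega))
    refine ⟨x, ?_⟩
    rw [hx]
    have h5 : Nat.gcd (r * p) 2 = 1 := Nat.coprime_two_right.2 hodd'
    rw [h5, Nat.div_one]

/-- two and the characteristic: both groups have elements of order `2 p` -/
theorem case_two_p (h2 : (2 : F) ≠ 0) (hodd : Odd (Fintype.card F)) (n : ℕ) (hn : 2 ≤ n) :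
    (∃ x : ↥(Cfsg.Omega F (Cfsg.quadFormOdd n F)), orderOf x = 2 * p) ∧
      ∃ g : Cfsg.PSp n F, orderOf g = 2 * p := by
  have hp : p.Prime := Fact.out
  have hp2 : p ≠ 2 := by
    intro h
    apply h2
    have := CharP.cast_eq_zero F p
    rw [h] at this
    exact_mod_cast this
  have hpodd : Odd p := hp.odd_of_ne_two hp2
  constructor
  · have h4 := (oHas_four (F := F) h2).add (oHas_char (F := F) p h2 hodd)
    have hcop : Nat.Coprime 4 p := by
      have : Nat.Coprime (2 ^ 2) p := Nat.Coprime.pow_left 2 (Nat.coprime_two_left.2 hpodd)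
      simpa using this
    rw [hcop.lcm_eq_mul] at h4
    obtain ⟨x, hx⟩ := omega_of_oHas h2 n (4 * p) (by have := hp.pos; omega)
      (h4.extend h2 (by omega))
    refine ⟨x, ?_⟩
    rw [hx]
    have h5 : Nat.gcd (4 * p) 2 = 2 :=
      Nat.gcd_eq_right (Dvd.dvd.mul_right (by norm_num : 2 ∣ 4) p)
    rw [h5]
    omega
  · have h1 := SpHas.neg h2 le_rfl (spHas_char (F := F) p) hpodd
    exact SpHasFix.exists_psp h2 (by omega) (h1.fix_of_lt (by omega : 1 < n))

/-- two and an odd prime different from the characteristic -/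
theorem case_two_r (h2 : (2 : F) ≠ 0) (hodd : Odd (Fintype.card F)) (n : ℕ) (hn : 2 ≤ n) {r : ℕ}
    (hr : r.Prime) (hr2 : r ≠ 2) (hrp : r ≠ p) :
    (∃ x : ↥(Cfsg.Omega F (Cfsg.quadFormOdd n F)), orderOf x = 2 * r) ↔
      ∃ g : Cfsg.PSp n F, orderOf g = 2 * r := by
  have hrq := not_dvd_card_of_ne (F := F) p hr hrp
  have : Fact r.Prime := ⟨hr⟩
  have hk0 : 0 < orderOf ((Fintype.card F : ℕ) : ZMod r) :=
    Cfsg.Agent.Lib.Helper40_SylowLarge.orderOf_pos_of_not_dvd r hrq
  obtain ⟨η, hη⟩ := exists_eta (orderOf ((Fintype.card F : ℕ) : ZMod r))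
  have hη1 : 1 ≤ η := by
    rcases hη with ⟨-, h⟩ | ⟨-, h⟩ <;> omega
  have hrodd := hr.odd_of_ne_two hr2
  have hrF := cast_ne_zero_of_ne (F := F) p hr hrp
  constructor
  · rintro ⟨x, hx⟩
    by_cases hle : η + 1 ≤ n
    · have h1 := spHas_prime (F := F) r hr hrq _ η rfl hη
      have h3 := SpHas.neg h2 hη1 h1 hrodd
      exact SpHasFix.exists_psp h2 (by omega) (h3.fix_of_lt (by omega : η < n))
    · have hnη : n ≤ η := by omega
      revert x
      rw [← coe_qfOdd]
      intro x hx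
      have hcard : Fintype.card (Unit ⊕ (Fin n ⊕ Fin n)) = 2 * n + 1 := by
        simp
        ring
      have harith := omega_two_r_arith (qfOdd n F)
        (Cfsg.Agent.Lib.Helper14_POmegaSimple.nondegenerate_qfOdd h2 n) p h2 hodd n hn hcard
        x.1 x.2 hr hr2 hrp (by rw [Subgroup.orderOf_coe]; exact hx) _ η rfl hη hnη
      have h4r : SpHas F (4 * r) n := by
        rcases harith with ⟨hkn, hnodd, h4⟩ | ⟨hkn, hnodd, h4⟩
        · exact spHas_torus_hyp r hr hr2 hrq n hkn.symm h4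
        · exact spHas_torus_inv r hr hr2 hrq n (by omega) hnodd hkn.symm h4
      obtain ⟨g, hg⟩ := SpHas.exists_elt h4r
      exact ⟨QuotientGroup.mk g,
        psp_two_r_of_four_r p h2 (by omega) hr hr2 hrp _ η rfl hη hnη g hg⟩
  · rintro ⟨g, hg⟩
    have key : ∃ d, d ≤ 2 * n + 1 ∧ OHas F (4 * r) d := by
      rcases sp_of_psp_two_r p h2 (by omega) hr hr2 hrp _ η rfl hη g hg with hle | h4
      · have h1 := spHas_prime (F := F) r hr hrq _ η rfl hη
        obtain ⟨d, hd, h3⟩ := SpHas.to_o_odd h1 hrodd hrF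
        have h4 := (oHas_four (F := F) h2).add h3
        have hcop : Nat.Coprime 4 r := by
          have : Nat.Coprime (2 ^ 2) r := Nat.Coprime.pow_left 2 (Nat.coprime_two_left.2 hrodd)
          simpa using this
        rw [hcop.lcm_eq_mul] at h4
        exact ⟨2 + d, by omega, h4⟩
      · exact ⟨2 * n, by omega, h4⟩
    obtain ⟨d, hd, h4⟩ := key
    obtain ⟨x, hx⟩ := omega_of_oHas h2 n (4 * r) (by have := hr.pos; omega) (h4.extend h2 hd)
    refine ⟨x, ?_⟩
    rw [hx]
    have h5 : Nat.gcd (4 * r) 2 = 2 :=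
      Nat.gcd_eq_right (Dvd.dvd.mul_right (by norm_num : 2 ∣ 4) r)
    rw [h5]
    omega

end cases

/-- for `q` odd and `n ≥ 3` the groups `PΩ_{2n+1}(q)` and `PSp_{2n}(q)` have the same prime graph -/
theorem prime_graph_BC [Fintype F] (hodd : Odd (Fintype.card F)) (n : ℕ) (hn : 3 ≤ n) (r s : ℕ)
    (hr : r.Prime) (hs : s.Prime) (hrs : r ≠ s) :
    (r * s ∈ Set.range (orderOf : Cfsg.POmega F (Cfsg.quadFormOdd n F) → ℕ)) ↔
      (r * s ∈ Set.range (orderOf : Cfsg.PSp n F → ℕ)) := by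
  have h2 : (2 : F) ≠ 0 := Cfsg.Agent.Lib.Helper44_FinSq.two_ne_zero_of_odd_card hodd
  obtain ⟨p, hchar⟩ := CharP.exists F
  have hp : p.Prime := CharP.char_is_prime F p
  have : Fact p.Prime := ⟨hp⟩
  rw [range_pomega hodd n hn, Set.mem_range]
  by_cases hr2 : r = 2
  · rw [hr2]
    have hs2 : s ≠ 2 := fun h => hrs (hr2.trans h.symm)
    by_cases hsp : s = p
    · rw [hsp]
      have h3 := case_two_p p h2 hodd n (by omega)
      exact ⟨fun _ => h3.2, fun _ => h3.1⟩
    · exact case_two_r p h2 hodd n (by omega) hs hs2 hsp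
  · by_cases hs2 : s = 2
    · rw [hs2, mul_comm]
      by_cases hrp : r = p
      · rw [hrp]
        have h3 := case_two_p p h2 hodd n (by omega)
        exact ⟨fun _ => h3.2, fun _ => h3.1⟩
      · exact case_two_r p h2 hodd n (by omega) hr hr2 hrp
    · by_cases hrp : r = p
      · have hsp : s ≠ p := fun h => hrs (hrp.trans h.symm)
        rw [hrp, mul_comm]
        exact case_r_p p h2 hodd n (by omega) hs hs2 hsp
      · by_cases hsp : s = p
        · rw [hsp]
          exact case_r_p p h2 hodd n (by omega) hr hr2 hrp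
        · apply case_odd h2 n (by omega) (r * s)
            ((hr.odd_of_ne_two hr2).mul (hs.odd_of_ne_two hs2))
          rw [Nat.cast_mul]
          exact mul_ne_zero (cast_ne_zero_of_ne p hr hrp) (cast_ne_zero_of_ne p hs hsp)

end Cfsg.Agent.Lib.Helper40_BCMain
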