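import Mathlib
import Cfsg.Agent.Lib.Helper40_BCMain
import Cfsg.Agent.Lib.Helper99_Zsigmondy

set_option autoImplicit false

/-!
# The spectra of `Ω_{2n+1}(q)` and `PSp_{2n}(q)` differ (helper40)

For a prime `r` with `η(e(r, q)) = n - 1` the number `2 p r` is an element order of `PSp_{2n}(q)`;
it is an element order of `Ω_{2n+1}(q)` only under arithmetic conditions on `e(r, q)`, `n`, `q`
which a suitable Zsigmondy prime violates.
-/

namespace Cfsg.Agent.Lib.Helper40_BCSpec

open Module Matrix Cfsg.Agent.Lib.Helper44_Refl Cfsg.Agent.Lib.Helper44_Spinor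
  Cfsg.Agent.Lib.Helper44_StdForms Cfsg.Agent.Lib.Helper99_Singer
  Cfsg.Agent.Lib.Helper40_SpBasic Cfsg.Agent.Lib.Helper40_OConj
  Cfsg.Agent.Lib.Helper40_BCInvol Cfsg.Agent.Lib.Helper40_BCRefl Cfsg.Agent.Lib.Helper40_BCTwist
  Cfsg.Agent.Lib.Helper40_QuadIso Cfsg.Agent.Lib.Helper40_QuadStd
  Cfsg.Agent.Lib.Helper40_OFixedFree Cfsg.Agent.Lib.Helper40_OClasses
  Cfsg.Agent.Lib.Helper40_BCHard

universe v

variable {F : Type v} [Field F] [Fintype F]

/-- an involution of `Ω(Q)` which is `-1` on a space of dimension `2 m` on which an isometry of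
odd prime order `r` acts without fixed points -/
theorem invol_omega_arith {ι : Type} [Fintype ι] [DecidableEq ι] (Q : QuadraticForm F (ι → F))
    (hQ : (QuadraticMap.polarBilin Q).Nondegenerate)
    (h2 : (2 : F) ≠ 0) (hodd : Odd (Fintype.card F))
    (g : ↥(Cfsg.isometryGroup F ⇑Q)) (hg : g ∈ Cfsg.Omega F ⇑Q)
    (z : Module.End F (ι → F)) (hzapp : ∀ x, z x = mat Q g *ᵥ x) (hzz : z * z = 1)
    (m : ℕ) (hm : 1 ≤ m)
    (h : Module.End F (ι → F)) {r : ℕ} (hr : r.Prime) (hr2 : r ≠ 2) (hd : OData Q h r)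
    (hc : Commute z h)
    (hana : Even (finrank F (negSpace z)) →
      finrank F (negSpace z) = 2 * m ∧ ∀ x ∈ negSpace z, h x = x → x = 0)
    (hk1 : orderOf ((Fintype.card F : ℕ) : ZMod r) ≠ 1) :
    (orderOf ((Fintype.card F : ℕ) : ZMod r) ∣ m ∧ (Even m ∨ Fintype.card F % 4 = 1)) ∨
      (¬ orderOf ((Fintype.card F : ℕ) : ZMod r) ∣ m ∧ Odd m ∧ Fintype.card F % 4 = 3) := by
  classical
  have hisoM : ∀ x, Q (mat Q g *ᵥ x) = Q x := fun x =>
    (Cfsg.Agent.Lib.Helper44_Orth.mem_isometryGroup_iff (⇑Q)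
      (g : Matrix.GeneralLinearGroup _ F)).1 g.2 x
  have hzQ : ∀ x, Q (z x) = Q x := fun x => by rw [hzapp, hisoM]
  have hzB : ∀ x y, QuadraticMap.polarBilin Q (z x) (z y) = QuadraticMap.polarBilin Q x y := by
    intro x y
    simp only [QuadraticMap.polarBilin_apply_apply, QuadraticMap.polar]
    rw [← map_add, hzQ, hzQ, hzQ]
  have hMnd : NDOn (QuadraticMap.polarBilin Q) (negSpace z) := ndOn_neg _ hQ hzB hzz h2
  set W := negSpace z with hW
  set Qm := resQ Q W with hQm
  have hQmnd : (QuadraticMap.polarBilin Qm).Nondegenerate := nondegenerate_resQ Q W hMnd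
  have : Invertible (2 : F) := invertibleOfNonzero h2
  have hsymm : (QuadraticMap.polarBilin Qm).IsSymm := by
    refine ⟨fun x y => ?_⟩
    simp only [QuadraticMap.polarBilin_apply_apply]
    exact QuadraticMap.polar_comm _ _ _
  obtain ⟨v, hv⟩ := LinearMap.BilinForm.exists_orthogonal_basis hsymm
  have hvo : ∀ i j, i ≠ j → QuadraticMap.polar (⇑Q) (v i : _ → F) (v j : _ → F) = 0 := by
    intro i j hij
    exact (LinearMap.isOrthoᵢ_def.1 hv) i j hij
  have hv0 : ∀ i, Q (v i : _ → F) ≠ 0 := by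
    intro i h0
    have h1 := hv.not_isOrtho_basis_self_of_separatingLeft hQmnd.1 i
    apply h1
    show QuadraticMap.polarBilin Qm (v i) (v i) = 0
    rw [polar_resQ, QuadraticMap.polarBilin_apply_apply, Cfsg.Agent.Lib.Helper44_Refl.polar_self,
      h0, mul_zero]
  have hrefl := eq_reflProd Q h2 (mat Q g) z hzapp hzz hisoM v hvo hv0
  set vs : List (ι → F) := List.ofFn (fun i => (v i : _ → F)) with hvs
  have hvs0 : ∀ w ∈ vs, Q w ≠ 0 := by
    intro w hw
    rw [hvs, List.mem_ofFn] at hw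
    obtain ⟨i, rfl⟩ := hw
    exact hv0 i
  have hcrit := (mem_omega_iff Q h2 g vs hvs0 (by
    show mat Q g = reflProd Q vs
    exact hrefl)).1 hg
  obtain ⟨hlen, hsq⟩ := hcrit
  have hlen' : Even (finrank F W) := by
    rwa [hvs, List.length_ofFn] at hlen
  obtain ⟨hW2m, hfpf⟩ := hana hlen'
  have hsq' : IsSquare (∏ i, Qm (v i)) := by
    rw [hvs, List.map_ofFn, List.prod_ofFn] at hsq
    exact hsq
  have hMinv : Inv h W := inv_neg_of_commute hc
  have hdW : OData Qm (h.restrict hMinv) r := oData_restrict hd hMinv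
  have hfpfW : ∀ x : W, h.restrict hMinv x = x → x = 0 := by
    intro x hx
    apply Subtype.ext
    exact hfpf x x.2 (congrArg Subtype.val hx)
  obtain ⟨ζ, hζ⟩ := exists_aniso (F := F)
  rcases iso_plus_or_minus m hm hW2m Qm hQmnd 1 ζ hζ with ⟨φ, hφ⟩ | ⟨φ, hφ⟩
  · left
    obtain ⟨hiso', hpow', hfix'⟩ := conj_props Qm (qfPlus m F) φ hφ (h.restrict hMinv) r hdW.iso
      hdW.pow hfpfW
    have hkn := plus_fixedFree m hm r hr (φ.conj (h.restrict hMinv)) hiso' hpow' hfix' hk1
    refine ⟨hkn, ?_⟩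
    -- discriminant
    have hcardκ : Fintype.card (Fin (finrank F W)) = Fintype.card (Fin m ⊕ Fin m) := by
      rw [Fintype.card_fin, Fintype.card_sum, Fintype.card_fin, hW2m, two_mul]
    let e := Fintype.equivOfCardEq hcardκ
    let v' : Basis (Fin m ⊕ Fin m) F W := v.reindex e
    let c : Basis (Fin m ⊕ Fin m) F W := (Pi.basisFun F (Fin m ⊕ Fin m)).map φ.symm
    have hv'o : ∀ i j, i ≠ j → QuadraticMap.polar (⇑Qm) (v' i) (v' j) = 0 := by
      intro i j hij
      show QuadraticMap.polar (⇑Qm) (v.reindex e i) (v.reindex e j) = 0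
      rw [Basis.reindex_apply, Basis.reindex_apply]
      exact hvo _ _ (fun h => hij (e.symm.injective h))
    have hprod : ∏ i, Qm (v' i) = ∏ i, Qm (v i) := by
      have : ∀ i, Qm (v' i) = Qm (v (e.symm i)) := fun i => by
        show Qm (v.reindex e i) = _
        rw [Basis.reindex_apply]
      simp only [this]
      exact Equiv.prod_comp e.symm (fun i => Qm (v i))
    have hevenκ : Even (Fintype.card (Fin m ⊕ Fin m)) := by
      rw [Fintype.card_sum, Fintype.card_fin]
      exact ⟨m, rfl⟩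
    have hdisc := (isSquare_prod_iff_det Qm v' c hv'o hevenκ h2).1 (by rw [hprod]; exact hsq')
    rw [toMatrix_of_iso Qm (qfPlus m F) φ hφ, coe_qfPlus, det_gram_quadFormPlus] at hdisc
    rcases Nat.even_or_odd m with hev | hod
    · exact Or.inl hev
    · right
      rw [hod.neg_one_pow, FiniteField.isSquare_neg_one_iff] at hdisc
      have hcardmod : Fintype.card F % 2 = 1 := Nat.odd_iff.1 hodd
      omega
  · right
    obtain ⟨hiso', hpow', hfix'⟩ := conj_props Qm (qfMinus (m - 1) F 1 ζ) φ hφ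
      (h.restrict hMinv) r hdW.iso hdW.pow hfpfW
    have hkn := minus_fixedFree m hm r hr hr2 1 ζ hζ (φ.conj (h.restrict hMinv)) hiso' hpow' hfix'
      hk1
    refine ⟨hkn, ?_⟩
    -- discriminant
    have hcardκ : Fintype.card (Fin (finrank F W)) =
        Fintype.card ((Fin (m - 1) ⊕ Fin (m - 1)) ⊕ Fin 2) := by
      rw [Fintype.card_fin, Fintype.card_sum, Fintype.card_sum, Fintype.card_fin, Fintype.card_fin,
        hW2m]
      omega
    let e := Fintype.equivOfCardEq hcardκ
    let v' : Basis ((Fin (m - 1) ⊕ Fin (m - 1)) ⊕ Fin 2) F W := v.reindex e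
    let c : Basis ((Fin (m - 1) ⊕ Fin (m - 1)) ⊕ Fin 2) F W :=
      (Pi.basisFun F ((Fin (m - 1) ⊕ Fin (m - 1)) ⊕ Fin 2)).map φ.symm
    have hv'o : ∀ i j, i ≠ j → QuadraticMap.polar (⇑Qm) (v' i) (v' j) = 0 := by
      intro i j hij
      show QuadraticMap.polar (⇑Qm) (v.reindex e i) (v.reindex e j) = 0
      rw [Basis.reindex_apply, Basis.reindex_apply]
      exact hvo _ _ (fun h => hij (e.symm.injective h))
    have hprod : ∏ i, Qm (v' i) = ∏ i, Qm (v i) := by
      have : ∀ i, Qm (v' i) = Qm (v (e.symm i)) := fun i => by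
        show Qm (v.reindex e i) = _
        rw [Basis.reindex_apply]
      simp only [this]
      exact Equiv.prod_comp e.symm (fun i => Qm (v i))
    have hevenκ : Even (Fintype.card ((Fin (m - 1) ⊕ Fin (m - 1)) ⊕ Fin 2)) := by
      rw [Fintype.card_sum, Fintype.card_sum, Fintype.card_fin, Fintype.card_fin]
      exact ⟨m, by omega⟩
    have hdisc := (isSquare_prod_iff_det Qm v' c hv'o hevenκ h2).1 (by rw [hprod]; exact hsq')
    rw [toMatrix_of_iso Qm (qfMinus (m - 1) F 1 ζ) φ hφ, coe_qfMinus,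
      det_gram_quadFormMinus] at hdisc
    have hns := not_isSquare_of_aniso h2 ζ hζ
    have hnodd : Odd m := by
      by_contra hne
      rw [Nat.not_odd_iff_even] at hne
      have h1 : Odd (m - 1) := by
        obtain ⟨j, hj⟩ := hne
        exact ⟨j - 1, by omega⟩
      rw [h1.neg_one_pow] at hdisc
      apply hns
      have : (-1 : F) * (4 * ζ - 1 ^ 2) = 1 - 4 * ζ := by ring
      rwa [this] at hdisc
    refine ⟨hnodd, ?_⟩
    have h1 : Even (m - 1) := by
      obtain ⟨j, hj⟩ := hnodd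
      exact ⟨j, by omega⟩
    rw [h1.neg_one_pow, one_mul] at hdisc
    obtain ⟨t, ht⟩ := hdisc
    have hnsq : ¬ IsSquare (-1 : F) := by
      rintro ⟨u, hu⟩
      apply hns
      refine ⟨u * t, ?_⟩
      have : (1 : F) - 4 * ζ = (-1) * (4 * ζ - 1 ^ 2) := by ring
      rw [this, ht, hu]
      ring
    rw [FiniteField.isSquare_neg_one_iff] at hnsq
    have hcardmod : Fintype.card F % 2 = 1 := Nat.odd_iff.1 hodd
    omega

section abstractO

variable {V : Type v} [AddCommGroup V] [Module F V]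

omit [Fintype F] in
/-- a unipotent isometry of a nondegenerate quadratic space of dimension at most two is trivial -/
theorem unip_eq_one_of_dim_le_two [FiniteDimensional F V] (h2 : (2 : F) ≠ 0)
    (Q : QuadraticForm F V) (hQ : (QuadraticMap.polarBilin Q).Nondegenerate)
    (hdim : finrank F V ≤ 2) (u : Module.End F V) (hu : ∀ x, Q (u x) = Q x)
    (hnil : IsNilpotent (u - 1)) : u = 1 := by
  by_contra hu1
  set N := u - 1 with hN
  have hN0 : N ≠ 0 := fun h0 => hu1 (sub_eq_zero.1 h0)
  obtain ⟨w0, hw0, hw0K, hw0R⟩ :=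
    Cfsg.Agent.Lib.Helper99_PrimeGraphP.exists_mem_ker_range_of_nilpotent N hN0 hnil
  obtain ⟨y, hy⟩ := hw0R
  have huy : u y = y + w0 := by
    rw [← hy, hN, LinearMap.sub_apply, Module.End.one_apply]
    abel
  have huw : u w0 = w0 := by
    have h1 := LinearMap.mem_ker.1 hw0K
    rw [hN, LinearMap.sub_apply, Module.End.one_apply] at h1
    exact sub_eq_zero.1 h1
  have hpol : ∀ a b, QuadraticMap.polar (⇑Q) (u a) (u b) = QuadraticMap.polar (⇑Q) a b := by
    intro a b
    simp only [QuadraticMap.polar]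
    rw [← map_add, hu, hu, hu]
  have h1 : QuadraticMap.polar (⇑Q) w0 w0 = 0 := by
    have e1 : w0 = u y - y := by
      rw [huy]
      abel
    have e2 : QuadraticMap.polar (⇑Q) (u y - y) w0 =
        QuadraticMap.polar (⇑Q) (u y) w0 - QuadraticMap.polar (⇑Q) y w0 :=
      QuadraticMap.polar_sub_left _ _ _ _
    have e3 : QuadraticMap.polar (⇑Q) (u y) w0 = QuadraticMap.polar (⇑Q) y w0 := by
      nth_rewrite 1 [← huw]
      exact hpol y w0
    rw [e3, sub_self, ← e1] at e2
    exact e2
  have hQw : Q w0 = 0 := by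
    have e1 : QuadraticMap.polar (⇑Q) w0 w0 = 2 * Q w0 := by
      rw [QuadraticMap.polar_self]
      simp [two_mul]
    rw [e1] at h1
    rcases mul_eq_zero.1 h1 with h3 | h3
    · exact absurd h3 h2
    · exact h3
  have h3 : QuadraticMap.polar (⇑Q) w0 y = 0 := by
    have e1 := hu y
    rw [huy] at e1
    have e2 : QuadraticMap.polar (⇑Q) y w0 = Q (y + w0) - Q y - Q w0 := rfl
    rw [QuadraticMap.polar_comm, e2, e1, hQw]
    ring
  -- `y` and `w0` are independent
  have hli : LinearIndependent F ![y, w0] := by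
    rw [LinearIndependent.pair_iff]
    intro a b hab
    have e1 := congrArg N hab
    rw [map_add, map_smul, map_smul, hy, LinearMap.mem_ker.1 hw0K, smul_zero, add_zero,
      map_zero] at e1
    have ha : a = 0 := by
      rcases smul_eq_zero.1 e1 with h4 | h4
      · exact h4
      · exact absurd h4 hw0
    rw [ha, zero_smul, zero_add] at hab
    rcases smul_eq_zero.1 hab with h4 | h4
    · exact ⟨ha, h4⟩
    · exact absurd h4 hw0
  set K := LinearMap.ker (QuadraticMap.polarBilin Q w0) with hK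
  have hyK : y ∈ K := by
    rw [hK, LinearMap.mem_ker, QuadraticMap.polarBilin_apply_apply]
    exact h3
  have hwK : w0 ∈ K := by
    rw [hK, LinearMap.mem_ker, QuadraticMap.polarBilin_apply_apply]
    exact h1
  have hspan : Submodule.span F (Set.range ![y, w0]) ≤ K := by
    rw [Submodule.span_le]
    rintro _ ⟨i, rfl⟩
    fin_cases i
    · exact hyK
    · exact hwK
  have hfr : finrank F (Submodule.span F (Set.range ![y, w0])) = 2 := by
    rw [finrank_span_eq_card hli]
    simp
  have hKtop : K = ⊤ := by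
    apply Submodule.eq_top_of_finrank_eq
    have e1 := Submodule.finrank_mono hspan
    have e2 := Submodule.finrank_le K
    omega
  apply hw0
  apply hQ.1
  intro v
  have : v ∈ K := by
    rw [hKtop]
    trivial
  exact LinearMap.mem_ker.1 this

end abstractO

section abstractO2

variable {V : Type v} [AddCommGroup V] [Module F V]

omit [Fintype F] in
theorem isNilpotent_restrict_sub_one {u : Module.End F V} {E : Submodule F V}
    (hE : ∀ x ∈ E, u x ∈ E) (hnil : IsNilpotent (u - 1)) : IsNilpotent (u.restrict hE - 1) := by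
  obtain ⟨j, hj⟩ := hnil
  refine ⟨j, ?_⟩
  apply LinearMap.ext
  intro x
  apply Subtype.ext
  have key : ∀ (i : ℕ) (x : E), (((u.restrict hE - 1) ^ i) x : V) = ((u - 1) ^ i) (x : V) := by
    intro i
    induction i with
    | zero => intro x; simp
    | succ i ih =>
      intro x
      rw [pow_succ, pow_succ, Module.End.mul_apply, Module.End.mul_apply, ih]
      rfl
  rw [key, hj]
  rfl

omit [Fintype F] in
/-- a unipotent isometry is trivial on invariant nondegenerate subspaces of dimension at most 2 -/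
theorem unip_trivial_on_small [FiniteDimensional F V] (h2 : (2 : F) ≠ 0) (Q : QuadraticForm F V)
    (E : Submodule F V) (hE : NDOn (QuadraticMap.polarBilin Q) E) (hdim : finrank F E ≤ 2)
    (u : Module.End F V) (hu : ∀ x, Q (u x) = Q x) (huE : ∀ x ∈ E, u x ∈ E)
    (hnil : IsNilpotent (u - 1)) : ∀ x ∈ E, u x = x := by
  have h1 := unip_eq_one_of_dim_le_two h2 (resQ Q E) (nondegenerate_resQ Q E hE) hdim
    (u.restrict huE) (fun x => hu x) (isNilpotent_restrict_sub_one huE hnil)
  intro x hx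
  exact congrArg Subtype.val (LinearMap.congr_fun h1 ⟨x, hx⟩)

omit [Fintype F] in
/-- an involutory isometry commuting with a nontrivial unipotent isometry in dimension three -/
theorem invol_pm_of_unip_three [FiniteDimensional F V] (h2 : (2 : F) ≠ 0) (Q : QuadraticForm F V)
    (hQ : (QuadraticMap.polarBilin Q).Nondegenerate) (hdim : finrank F V ≤ 3)
    (z : Module.End F V) (hzz : z * z = 1) (hzQ : ∀ x, Q (z x) = Q x)
    (u : Module.End F V) (hu : ∀ x, Q (u x) = Q x) (hnil : IsNilpotent (u - 1)) (hu1 : u ≠ 1)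
    (hc : Commute z u) : z = 1 ∨ z = -1 := by
  by_contra hcon
  push Not at hcon
  obtain ⟨hz1, hzn⟩ := hcon
  have hzB : ∀ x y, QuadraticMap.polarBilin Q (z x) (z y) = QuadraticMap.polarBilin Q x y := by
    intro x y
    simp only [QuadraticMap.polarBilin_apply_apply, QuadraticMap.polar]
    rw [← map_add, hzQ, hzQ, hzQ]
  have hcompl := isCompl_eigen hzz h2
  have hsum : finrank F (fixSpace z) + finrank F (negSpace z) = finrank F V :=
    Submodule.finrank_add_eq_of_isCompl hcompl
  have hp1 : 0 < finrank F (fixSpace z) := by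
    rw [Nat.pos_iff_ne_zero]
    intro h0
    exact fix_ne_bot hzz h2 hzn (Submodule.finrank_eq_zero.1 h0)
  have hm1 : 0 < finrank F (negSpace z) := by
    rw [Nat.pos_iff_ne_zero]
    intro h0
    exact neg_ne_bot hzz h2 hz1 (Submodule.finrank_eq_zero.1 h0)
  have hp := unip_trivial_on_small h2 Q (fixSpace z) (ndOn_fix _ hQ hzB hzz h2) (by omega) u hu
    (inv_fix_of_commute hc) hnil
  have hm := unip_trivial_on_small h2 Q (negSpace z) (ndOn_neg _ hQ hzB hzz h2) (by omega) u hu
    (inv_neg_of_commute hc) hnil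
  exact hu1 (eq_one_of_restrict hzz h2 hp hm)

/-- an involutory isometry commuting with a fixed-point-free isometry of prime order in
dimension less than `4 η` -/
theorem invol_pm_of_fpf [FiniteDimensional F V] (h2 : (2 : F) ≠ 0) (Q : QuadraticForm F V)
    (hQ : (QuadraticMap.polarBilin Q).Nondegenerate)
    (z : Module.End F V) (hzz : z * z = 1) (hzQ : ∀ x, Q (z x) = Q x)
    (h : Module.End F V) {r : ℕ} (hr : r.Prime) (hqr : ¬ r ∣ Fintype.card F) (hd : OData Q h r)
    (hfpf : ∀ x, h x = x → x = 0) (hc : Commute z h) (k η : ℕ)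
    (hk : k = orderOf ((Fintype.card F : ℕ) : ZMod r))
    (hη : (Odd k ∧ η = k) ∨ (Even k ∧ 2 * η = k)) (hdim : finrank F V < 4 * η) :
    z = 1 ∨ z = -1 := by
  by_contra hcon
  push Not at hcon
  obtain ⟨hz1, hzn⟩ := hcon
  have hzB : ∀ x y, QuadraticMap.polarBilin Q (z x) (z y) = QuadraticMap.polarBilin Q x y := by
    intro x y
    simp only [QuadraticMap.polarBilin_apply_apply, QuadraticMap.polar]
    rw [← map_add, hzQ, hzQ, hzQ]
  have hcompl := isCompl_eigen hzz h2
  have hsum : finrank F (fixSpace z) + finrank F (negSpace z) = finrank F V :=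
    Submodule.finrank_add_eq_of_isCompl hcompl
  have key : ∀ E : Submodule F V, NDOn (QuadraticMap.polarBilin Q) E → Inv h E → E ≠ ⊥ →
      2 * η ≤ finrank F E := by
    intro E hE hInv hEbot
    have hne : h.restrict hInv ≠ 1 := by
      intro h1
      apply hEbot
      rw [Submodule.eq_bot_iff]
      intro x hx
      apply hfpf
      exact congrArg Subtype.val (LinearMap.congr_fun h1 ⟨x, hx⟩)
    have := o_two_eta_le (resQ Q E) (nondegenerate_resQ Q E hE) (h.restrict hInv) hr hqr
      (oData_restrict hd hInv) hne k η hk hη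
    omega
  have hp := key (fixSpace z) (ndOn_fix _ hQ hzB hzz h2) (inv_fix_of_commute hc)
    (fix_ne_bot hzz h2 hzn)
  have hm := key (negSpace z) (ndOn_neg _ hQ hzB hzz h2) (inv_neg_of_commute hc)
    (neg_ne_bot hzz h2 hz1)
  omega

end abstractO2

section abstractO3

open Cfsg.Agent.Lib.Helper40_OConj.OData Cfsg.Agent.Lib.Helper99_PrimeGraphL
  Cfsg.Agent.Lib.Helper40_SpAdj

variable {V : Type v} [AddCommGroup V] [Module F V]

omit [Fintype F] in
theorem ndOn_fixSpace_o {Q : QuadraticForm F V} {a : Module.End F V} {N : ℕ} (h : OData Q a N)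
    [FiniteDimensional F V] (hQ : (QuadraticMap.polarBilin Q).Nondegenerate) :
    NDOn (QuadraticMap.polarBilin Q) (fixSpace a) := by
  intro x hx hxy
  apply hQ.1
  intro v
  have hv : v ∈ fixSpace a ⊔ comm a := by
    rw [(isCompl_fix_comm h).sup_eq_top]
    trivial
  obtain ⟨y, hy, w, hw, rfl⟩ := Submodule.mem_sup.1 hv
  rw [map_add, hxy y hy, zero_add]
  exact h.orth_of_fixed x ((mem_fixSpace a x).1 hx) w hw

omit [Fintype F] in
theorem ndOn_comm_o {Q : QuadraticForm F V} {a : Module.End F V} {N : ℕ} (h : OData Q a N)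
    (hQ : (QuadraticMap.polarBilin Q).Nondegenerate) :
    NDOn (QuadraticMap.polarBilin Q) (comm a) := by
  intro x hx hxy
  exact h.eq_zero_of_fixed x hx (h.fixed_of_orth hQ x hxy)

omit [Fintype F] in
theorem inv_comm_of_commute {a u : Module.End F V} (hc : Commute a u) : Inv u (comm a) := by
  have hau : ∀ x, a (u x) = u (a x) := by
    intro x
    have := congrArg (fun f : Module.End F V => f x) hc.eq
    simpa using this
  rintro _ ⟨y, rfl⟩
  refine ⟨u y, ?_⟩
  rw [LinearMap.sub_apply, LinearMap.sub_apply, Module.End.one_apply, Module.End.one_apply,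
    map_sub, hau]

omit [Fintype F] in
theorem inv_fixSpace_of_commute {a u : Module.End F V} (hc : Commute a u) :
    Inv u (fixSpace a) := by
  have hau : ∀ x, a (u x) = u (a x) := by
    intro x
    have := congrArg (fun f : Module.End F V => f x) hc.eq
    simpa using this
  intro x hx
  rw [mem_fixSpace] at hx ⊢
  rw [hau, hx]

variable [FiniteDimensional F V]

/-- `2 η` divides the dimension of `[V, a]` -/
theorem two_eta_dvd_comm (Q : QuadraticForm F V)
    (hQ : (QuadraticMap.polarBilin Q).Nondegenerate) (a : Module.End F V) {r : ℕ}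
    (hr : r.Prime) (hqr : ¬ r ∣ Fintype.card F) (h : OData Q a r) (k η : ℕ)
    (hk : k = orderOf ((Fintype.card F : ℕ) : ZMod r))
    (hη : (Odd k ∧ η = k) ∨ (Even k ∧ 2 * η = k)) : 2 * η ∣ finrank F (comm a) := by
  have hW : Inv a (comm a) := inv_comm a
  have hd' : IsoData ((tw Q a r).restrict (comm a)) (a.restrict hW) r := h.isoData.restrict hW
  have hB' : ((tw Q a r).restrict (comm a)).Nondegenerate :=
    nondegenerate_restrict h.isoData (h.ndOn_tw hQ)
  have hfix : fixSpace (a.restrict hW) = ⊥ := by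
    rw [Submodule.eq_bot_iff]
    intro x hx
    rw [mem_fixSpace] at hx
    apply Subtype.ext
    exact h.eq_zero_of_fixed x x.2 (congrArg Subtype.val hx)
  have hkd : k ∣ finrank F (comm a) := by
    have := orderOf_dvd_finrank_sub (a.restrict hW) hr hqr hd'.pow ⊤ (fun _ _ => trivial)
    rw [hfix, inf_bot_eq, finrank_bot, Nat.sub_zero, finrank_top] at this
    rwa [hk]
  have heven : Even (finrank F (comm a)) :=
    Helper43_AltEven.even_finrank_of_alt (finrank F (comm a)) (comm a)
      ((tw Q a r).restrict (comm a)) (fun x => hd'.alt x) hB' rfl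
  rcases hη with ⟨hodd, rfl⟩ | ⟨hev, h2⟩
  · exact Nat.Coprime.mul_dvd_of_dvd_of_dvd (Nat.coprime_two_left.2 hodd) heven.two_dvd hkd
  · rw [h2]
    exact hkd

/-- a commuting unipotent element is trivial on `[V, a]` when this space is small -/
theorem unip_trivial_on_comm (Q : QuadraticForm F V)
    (hQ : (QuadraticMap.polarBilin Q).Nondegenerate) (a : Module.End F V) {r : ℕ}
    (hr : r.Prime) (hr2 : r ≠ 2) (hqr : ¬ r ∣ Fintype.card F) (h : OData Q a r) (ha1 : a ≠ 1)
    (u : Module.End F V) (hc : Commute a u) (hnil : IsNilpotent (u - 1)) (k η : ℕ)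
    (hk : k = orderOf ((Fintype.card F : ℕ) : ZMod r))
    (hη : (Odd k ∧ η = k) ∨ (Even k ∧ 2 * η = k))
    (hsmall : finrank F (comm a) < 2 * η + 2) : ∀ x ∈ comm a, u x = x := by
  have hW : Inv a (comm a) := inv_comm a
  have hd' : IsoData ((tw Q a r).restrict (comm a)) (a.restrict hW) r := h.isoData.restrict hW
  have hB' : ((tw Q a r).restrict (comm a)).Nondegenerate :=
    nondegenerate_restrict h.isoData (h.ndOn_tw hQ)
  have hcompl := isCompl_fix_comm h
  have ha1' : a.restrict hW ≠ 1 := by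
    intro h1
    apply ha1
    have := (restrict_pow_eq_one_iff hcompl (fun x hx => (mem_fixSpace a x).1 hx) hW 1).1
      (by rw [pow_one]; exact h1)
    rwa [pow_one] at this
  have hau : ∀ x, a (u x) = u (a x) := by
    intro x
    have := congrArg (fun f : Module.End F V => f x) hc.eq
    simpa using this
  have huW : ∀ x ∈ comm a, u x ∈ comm a := inv_comm_of_commute hc
  by_contra hcon
  have huW1 : u.restrict huW ≠ 1 := by
    intro h1
    apply hcon
    intro x hx
    exact congrArg Subtype.val (LinearMap.congr_fun h1 ⟨x, hx⟩)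
  have hcomm : Commute (a.restrict hW) (u.restrict huW) := by
    apply LinearMap.ext
    intro y
    apply Subtype.ext
    exact hau (y : V)
  have h1 := two_eta_add_two_le hB' hr hr2 hqr h.ne hd' ha1' (u.restrict huW) hcomm
    (isNilpotent_restrict_sub_one huW hnil) huW1 k η hk hη
  omega

omit [Fintype F] [FiniteDimensional F V] in
/-- the `(-1)`-eigenspace of an endomorphism which is `1` on `A` and `-1` on a complement `W` -/
theorem negSpace_eq_of_compl (h2 : (2 : F) ≠ 0) {z : Module.End F V} {A W : Submodule F V}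
    (hcompl : IsCompl A W) (hA : ∀ a ∈ A, z a = a) (hW : ∀ w ∈ W, z w = -w) :
    negSpace z = W := by
  apply le_antisymm
  · intro x hx
    rw [mem_negSpace] at hx
    have hx' : x ∈ A ⊔ W := by
      rw [hcompl.sup_eq_top]
      trivial
    obtain ⟨a, ha, w, hw, rfl⟩ := Submodule.mem_sup.1 hx'
    rw [map_add, hA a ha, hW w hw] at hx
    have h3 : (2 : F) • a = 0 := by
      rw [two_smul]
      have : a + a = (a + -w) - (-(a + w)) := by abel
      rw [this, hx, sub_self]
    rcases smul_eq_zero.1 h3 with h4 | h4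
    · exact absurd h4 h2
    · rw [h4, zero_add]
      exact hw
  · intro x hx
    rw [mem_negSpace]
    exact hW x hx

end abstractO3

section abstractO4

open Cfsg.Agent.Lib.Helper40_OConj.OData Cfsg.Agent.Lib.Helper99_PrimeGraphL
  Cfsg.Agent.Lib.Helper40_SpAdj

variable {V : Type v} [AddCommGroup V] [Module F V] [FiniteDimensional F V]

/-- commuting isometries `z` (involution), `h` (odd prime order `r` with `η = n - 1`) and
`u` (unipotent) of a quadratic space of dimension `2 n + 1`: if the `(-1)`-eigenspace of `z`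
has even dimension, it is `[V, h]`, of dimension `2 η` -/
theorem invol_analysis_two_p_r (h2 : (2 : F) ≠ 0) (Q : QuadraticForm F V)
    (hQ : (QuadraticMap.polarBilin Q).Nondegenerate) (n : ℕ) (hn : 3 ≤ n)
    (hdim : finrank F V = 2 * n + 1)
    (z h u : Module.End F V) (hzz : z * z = 1) (hzQ : ∀ x, Q (z x) = Q x) (hz1 : z ≠ 1)
    {r : ℕ} (hr : r.Prime) (hr2 : r ≠ 2) (hqr : ¬ r ∣ Fintype.card F) (hd : OData Q h r)
    (hh1 : h ≠ 1) (huQ : ∀ x, Q (u x) = Q x) (hnil : IsNilpotent (u - 1)) (hu1 : u ≠ 1)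
    (hzh : Commute z h) (hzu : Commute z u) (hhu : Commute h u) (k η : ℕ)
    (hk : k = orderOf ((Fintype.card F : ℕ) : ZMod r))
    (hη : (Odd k ∧ η = k) ∨ (Even k ∧ 2 * η = k)) (hηn : η + 1 = n)
    (heven : Even (finrank F (negSpace z))) :
    finrank F (negSpace z) = 2 * η ∧ ∀ x ∈ negSpace z, h x = x → x = 0 := by
  have hcompl : IsCompl (fixSpace h) (comm h) := isCompl_fix_comm hd
  have hsum : finrank F (fixSpace h) + finrank F (comm h) = finrank F V :=
    Submodule.finrank_add_eq_of_isCompl hcompl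
  have hb1 := o_two_eta_le Q hQ h hr hqr hd hh1 k η hk hη
  obtain ⟨c, hc⟩ := two_eta_dvd_comm Q hQ h hr hqr hd k η hk hη
  have hWdim : finrank F (comm h) = 2 * η := by
    rcases Nat.lt_or_ge c 2 with hc2 | hc2
    · interval_cases c
      · rw [mul_zero] at hc
        omega
      · rw [mul_one] at hc
        exact hc
    · have : 2 * η * 2 ≤ 2 * η * c := Nat.mul_le_mul_left _ hc2
      omega
  have hAdim : finrank F (fixSpace h) = 3 := by omega
  have huW : ∀ x ∈ comm h, u x = x :=
    unip_trivial_on_comm Q hQ h hr hr2 hqr hd hh1 u hhu hnil k η hk hη (by omega)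
  have hzA : Inv z (fixSpace h) := inv_fixSpace_of_commute hzh.symm
  have hzW : Inv z (comm h) := inv_comm_of_commute hzh.symm
  have huA : Inv u (fixSpace h) := inv_fixSpace_of_commute hhu
  have hAnd := ndOn_fixSpace_o hd hQ
  have hWnd := ndOn_comm_o hd hQ
  have hdecomp : ∀ x : V, ∃ a ∈ fixSpace h, ∃ w ∈ comm h, a + w = x := by
    intro x
    have hx : x ∈ fixSpace h ⊔ comm h := by
      rw [hcompl.sup_eq_top]
      trivial
    exact Submodule.mem_sup.1 hx
  have huA1 : u.restrict huA ≠ 1 := by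
    intro h1
    apply hu1
    apply LinearMap.ext
    intro x
    obtain ⟨a, ha, w, hw, rfl⟩ := hdecomp x
    have e1 : u a = a := congrArg Subtype.val (LinearMap.congr_fun h1 ⟨a, ha⟩)
    rw [map_add, e1, huW w hw, Module.End.one_apply]
  have hzzr : ∀ (E : Submodule F V) (hE : Inv z E), z.restrict hE * z.restrict hE = 1 := by
    intro E hE
    apply LinearMap.ext
    intro x
    apply Subtype.ext
    show z (z (x : V)) = x
    rw [← Module.End.mul_apply, hzz, Module.End.one_apply]
  have hzA' := invol_pm_of_unip_three h2 (resQ Q (fixSpace h))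
    (nondegenerate_resQ Q (fixSpace h) hAnd) (by omega) (z.restrict hzA) (hzzr _ hzA)
    (fun x => hzQ x) (u.restrict huA) (fun x => huQ x) (isNilpotent_restrict_sub_one huA hnil)
    huA1 (by
      apply LinearMap.ext
      intro x
      apply Subtype.ext
      have := congrArg (fun f : Module.End F V => f (x : V)) hzu.eq
      exact this)
  have hInvhW : Inv h (comm h) := inv_comm h
  have hzW' := invol_pm_of_fpf h2 (resQ Q (comm h)) (nondegenerate_resQ Q (comm h) hWnd)
    (z.restrict hzW) (hzzr _ hzW) (fun x => hzQ x) (h.restrict hInvhW) hr hqr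
    (oData_restrict hd hInvhW)
    (by
      intro x hx
      apply Subtype.ext
      exact hd.eq_zero_of_fixed x x.2 (congrArg Subtype.val hx))
    (by
      apply LinearMap.ext
      intro x
      apply Subtype.ext
      have := congrArg (fun f : Module.End F V => f (x : V)) hzh.eq
      exact this)
    k η hk hη (by rw [hWdim]; omega)
  have hzAx : (∀ a ∈ fixSpace h, z a = a) ∨ (∀ a ∈ fixSpace h, z a = -a) := by
    rcases hzA' with h1 | h1
    · left
      intro a ha
      exact congrArg Subtype.val (LinearMap.congr_fun h1 ⟨a, ha⟩)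
    · right
      intro a ha
      have := congrArg Subtype.val (LinearMap.congr_fun h1 ⟨a, ha⟩)
      simpa using this
  have hzWx : (∀ a ∈ comm h, z a = a) ∨ (∀ a ∈ comm h, z a = -a) := by
    rcases hzW' with h1 | h1
    · left
      intro a ha
      exact congrArg Subtype.val (LinearMap.congr_fun h1 ⟨a, ha⟩)
    · right
      intro a ha
      have := congrArg Subtype.val (LinearMap.congr_fun h1 ⟨a, ha⟩)
      simpa using this
  rcases hzAx with hA1 | hA1 <;> rcases hzWx with hW1 | hW1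
  · exfalso
    apply hz1
    apply LinearMap.ext
    intro x
    obtain ⟨a, ha, w, hw, rfl⟩ := hdecomp x
    rw [map_add, hA1 a ha, hW1 w hw, Module.End.one_apply]
  · have e1 := negSpace_eq_of_compl h2 hcompl hA1 hW1
    rw [e1]
    exact ⟨hWdim, fun x hx hfix => hd.eq_zero_of_fixed x hx hfix⟩
  · exfalso
    have e1 := negSpace_eq_of_compl h2 hcompl.symm hW1 hA1
    rw [e1, hAdim] at heven
    exact absurd heven (by decide)
  · exfalso
    have e1 : negSpace z = ⊤ := by
      rw [eq_top_iff]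
      intro x _
      rw [mem_negSpace]
      obtain ⟨a, ha, w, hw, rfl⟩ := hdecomp x
      rw [map_add, hA1 a ha, hW1 w hw]
      abel
    rw [e1, finrank_top, hdim] at heven
    obtain ⟨t, ht⟩ := heven
    omega

end abstractO4

section concreteO

open Cfsg.Agent.Lib.Helper40_BCTransport Cfsg.Agent.Lib.Helper40_BCMain
  Cfsg.Agent.Lib.Helper40_PSpAdjP Cfsg.Agent.Lib.Helper99_PrimeGraphP

/-- an element of order `2 p r` of `Ω_{2n+1}(q)`, where `η(e(r, q)) = n - 1` -/
theorem omega_two_p_r_arith (p : ℕ) [Fact p.Prime] [CharP F p] (h2 : (2 : F) ≠ 0)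
    (hodd : Odd (Fintype.card F)) (n : ℕ) (hn : 3 ≤ n)
    (x : ↥(Cfsg.isometryGroup F ⇑(qfOdd n F))) (hx : x ∈ Cfsg.Omega F ⇑(qfOdd n F))
    {r : ℕ} (hr : r.Prime) (hr2 : r ≠ 2) (hrp : r ≠ p) (ho : orderOf x = 2 * p * r)
    (k η : ℕ) (hk : k = orderOf ((Fintype.card F : ℕ) : ZMod r))
    (hη : (Odd k ∧ η = k) ∨ (Even k ∧ 2 * η = k)) (hηn : η + 1 = n) :
    (k ∣ η ∧ (Even η ∨ Fintype.card F % 4 = 1)) ∨
      (¬ k ∣ η ∧ Odd η ∧ Fintype.card F % 4 = 3) := by
  have hp : p.Prime := Fact.out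
  have hr3 : 3 ≤ r := by
    have := hr.two_le
    omega
  have hp2 := hp.two_le
  have hqr : ¬ r ∣ Fintype.card F := not_dvd_card_of_ne (F := F) p hr hrp
  have hQ := Cfsg.Agent.Lib.Helper14_POmegaSimple.nondegenerate_qfOdd h2 n
  set a := oLin n x with ha
  have hoa : orderOf a = 2 * p * r := by
    rw [ha, orderOf_injective (oLin n) oLin_injective x, ho]
  have hiso : ∀ y, qfOdd n F (a y) = qfOdd n F y := oLin_iso x
  have hapow : a ^ (2 * p * r) = 1 := by
    rw [← hoa]
    exact pow_orderOf_eq_one a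
  have hdvd : ∀ j : ℕ, a ^ j = 1 → 2 * p * r ∣ j := by
    intro j hj
    rw [← hoa]
    exact orderOf_dvd_of_pow_eq_one hj
  have hzz : a ^ (p * r) * a ^ (p * r) = 1 := by
    rw [← pow_add]
    have : p * r + p * r = 2 * p * r := by ring
    rw [this, hapow]
  have hz1 : a ^ (p * r) ≠ 1 := by
    intro h1
    have h3 := Nat.le_of_dvd (Nat.mul_pos hp.pos hr.pos) (hdvd _ h1)
    have : 2 * p * r = 2 * (p * r) := by ring
    have := Nat.mul_pos hp.pos hr.pos
    omega
  have hd : OData (qfOdd n F) (a ^ (2 * p)) r := by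
    refine ⟨iso_pow_q hiso _, ?_, hr.odd_of_ne_two hr2, cast_ne_zero_of_ne p hr hrp⟩
    rw [← pow_mul, hapow]
  have hh1 : a ^ (2 * p) ≠ 1 := by
    intro h1
    have h3 := Nat.le_of_dvd (by omega) (hdvd _ h1)
    have : 2 * p * 3 ≤ 2 * p * r := Nat.mul_le_mul_left _ hr3
    omega
  have hup : (a ^ (2 * r)) ^ p = 1 := by
    rw [← pow_mul]
    have : 2 * r * p = 2 * p * r := by ring
    rw [this, hapow]
  have hu1 : a ^ (2 * r) ≠ 1 := by
    intro h1
    have h3 := Nat.le_of_dvd (by omega) (hdvd _ h1)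
    have e1 : 2 * p * r = 2 * r * p := by ring
    have : 2 * r * 2 ≤ 2 * r * p := Nat.mul_le_mul_left _ hp2
    omega
  have hη1 : 1 ≤ η := by omega
  have hk1 : orderOf ((Fintype.card F : ℕ) : ZMod r) ≠ 1 := by
    rw [← hk]
    rintro rfl
    rcases hη with ⟨_, h1⟩ | ⟨h1, _⟩
    · omega
    · exact absurd h1 (by decide)
  have hdim : finrank F (Unit ⊕ (Fin n ⊕ Fin n) → F) = 2 * n + 1 := by
    rw [Module.finrank_pi, Fintype.card_sum, Fintype.card_sum, Fintype.card_fin,
      Fintype.card_unit]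
    ring
  have hzapp : ∀ y, (a ^ (p * r)) y = mat (qfOdd n F) (x ^ (p * r)) *ᵥ y := by
    intro y
    rw [ha, ← map_pow, oLin_apply]
  have hres := invol_omega_arith (qfOdd n F) hQ h2 hodd (x ^ (p * r))
    (Subgroup.pow_mem _ hx _) (a ^ (p * r)) hzapp hzz η hη1 (a ^ (2 * p)) hr hr2 hd
    ((Commute.refl a).pow_pow _ _)
    (fun heven => invol_analysis_two_p_r h2 (qfOdd n F) hQ n hn hdim (a ^ (p * r)) (a ^ (2 * p))
      (a ^ (2 * r)) hzz (iso_pow_q hiso _) hz1 hr hr2 hqr hd hh1 (iso_pow_q hiso _)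
      (isNilpotent_sub_one_end p _ hup) hu1 ((Commute.refl a).pow_pow _ _)
      ((Commute.refl a).pow_pow _ _) ((Commute.refl a).pow_pow _ _) k η hk hη hηn heven) hk1
  rw [← hk] at hres
  exact hres

end concreteO

section positive

open Cfsg.Agent.Lib.Helper40_BCData Cfsg.Agent.Lib.Helper40_BCTransport
  Cfsg.Agent.Lib.Helper40_BCMain Cfsg.Agent.Lib.Helper40_BCExist
  Cfsg.Agent.Lib.Helper40_PSpAdjP Cfsg.Agent.Lib.Helper99_PrimeGraphP

omit [Fintype F] in
/-- orthogonal sum of symplectic data, the first with a fixed vector -/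
theorem SpHasFix.add {N N' m m' : ℕ} (h : SpHasFix F N m) (h' : SpHas F N' m') :
    SpHasFix F (Nat.lcm N N') (m + m') := by
  obtain ⟨V₁, _, _, _, B₁, a₁, hfr₁, hB₁, halt₁, hiso₁, ho₁, v, hv0, hav⟩ := h
  obtain ⟨V₂, _, _, _, B₂, a₂, hfr₂, hB₂, halt₂, hiso₂, ho₂⟩ := h'
  let B : LinearMap.BilinForm F (V₁ × V₂) :=
    LinearMap.mk₂ F (fun x y => B₁ x.1 y.1 + B₂ x.2 y.2)
      (by intro x x' y; simp only [Prod.fst_add, Prod.snd_add, map_add, LinearMap.add_apply]; abel)
      (by intro c x y; simp only [Prod.smul_fst, Prod.smul_snd, map_smul, LinearMap.smul_apply,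
        smul_eq_mul]; ring)
      (by intro x y y'; simp only [Prod.fst_add, Prod.snd_add, map_add]; abel)
      (by intro c x y; simp only [Prod.smul_fst, Prod.smul_snd, map_smul, smul_eq_mul]; ring)
  have hBapp : ∀ x y, B x y = B₁ x.1 y.1 + B₂ x.2 y.2 := fun x y => rfl
  refine ⟨V₁ × V₂, inferInstance, inferInstance, inferInstance, B, LinearMap.prodMap a₁ a₂, ?_,
    ⟨?_, ?_⟩, ?_, ?_, ?_, ?_⟩
  · rw [Module.finrank_prod, hfr₁, hfr₂]; ring
  · intro x hx
    have h1 : x.1 = 0 := by
      apply hB₁.1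
      intro y
      have := hx (y, 0)
      rw [hBapp] at this
      simpa using this
    have h2 : x.2 = 0 := by
      apply hB₂.1
      intro y
      have := hx (0, y)
      rw [hBapp] at this
      simpa using this
    exact Prod.ext h1 h2
  · intro y hy
    have h1 : y.1 = 0 := by
      apply hB₁.2
      intro x
      have := hy (x, 0)
      rw [hBapp] at this
      simpa using this
    have h2 : y.2 = 0 := by
      apply hB₂.2
      intro x
      have := hy (0, x)
      rw [hBapp] at this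
      simpa using this
    exact Prod.ext h1 h2
  · intro x
    rw [hBapp, halt₁, halt₂, add_zero]
  · intro x y
    rw [hBapp, hBapp]
    show B₁ (a₁ x.1) (a₁ y.1) + B₂ (a₂ x.2) (a₂ y.2) = _
    rw [hiso₁, hiso₂]
  · rw [orderOf_prodMap, ho₁, ho₂]
  · refine ⟨(v, 0), ?_, ?_⟩
    · intro h0
      exact hv0 (congrArg Prod.fst h0)
    · show (a₁ v, a₂ 0) = _
      rw [hav, map_zero]

/-- a unipotent element of `Sp_2(q)` has a fixed vector -/
theorem spHasFix_char (p : ℕ) [Fact p.Prime] [CharP F p] : SpHasFix F p 1 := by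
  obtain ⟨V, _, _, _, B, a, hfr, hB, halt, hiso, ho⟩ := spHas_char (F := F) p
  have hap : a ^ p = 1 := by
    rw [← ho]
    exact pow_orderOf_eq_one a
  have hnil := isNilpotent_sub_one_end p a hap
  have : Nontrivial V := by
    apply Module.nontrivial_of_finrank_pos (R := F)
    omega
  refine ⟨V, inferInstance, inferInstance, inferInstance, B, a, hfr, hB, halt, hiso, ho, ?_⟩
  by_cases h0 : a - 1 = 0
  · obtain ⟨x, hx⟩ := exists_ne (0 : V)
    refine ⟨x, hx, ?_⟩
    rw [sub_eq_zero.1 h0, Module.End.one_apply]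
  · obtain ⟨w0, hw0, hw0K, -⟩ := exists_mem_ker_range_of_nilpotent (a - 1) h0 hnil
    refine ⟨w0, hw0, ?_⟩
    have h1 := LinearMap.mem_ker.1 hw0K
    rw [LinearMap.sub_apply, Module.End.one_apply] at h1
    exact sub_eq_zero.1 h1

/-- `PSp_{2n}(q)` has an element of order `2 p r` when `η(e(r, q)) = n - 1` -/
theorem psp_two_p_r (p : ℕ) [Fact p.Prime] [CharP F p] (h2 : (2 : F) ≠ 0) (n : ℕ) (hn : 2 ≤ n)
    {r : ℕ} (hr : r.Prime) (hr2 : r ≠ 2) (hrp : r ≠ p) (k η : ℕ)
    (hk : k = orderOf ((Fintype.card F : ℕ) : ZMod r))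
    (hη : (Odd k ∧ η = k) ∨ (Even k ∧ 2 * η = k)) (hηn : η + 1 = n) :
    ∃ g : Cfsg.PSp n F, orderOf g = 2 * p * r := by
  have hp : p.Prime := Fact.out
  have hp2 : p ≠ 2 := by
    intro h
    apply h2
    have := CharP.cast_eq_zero F p
    rw [h] at this
    exact_mod_cast this
  have hrq := not_dvd_card_of_ne (F := F) p hr hrp
  have hrodd := hr.odd_of_ne_two hr2
  have h1 := spHas_prime (F := F) r hr hrq k η hk hη
  have h3 := SpHas.neg h2 (by omega) h1 hrodd
  have h4 := SpHasFix.add (spHasFix_char (F := F) p) h3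
  have hcop : Nat.Coprime p (2 * r) := by
    apply Nat.Coprime.mul_right
    · exact (Nat.coprime_primes hp Nat.prime_two).2 hp2
    · exact (Nat.coprime_primes hp hr).2 (Ne.symm hrp)
  rw [hcop.lcm_eq_mul] at h4
  have e1 : p * (2 * r) = 2 * p * r := by ring
  have e2 : 1 + η = n := by omega
  rw [e1, e2] at h4
  exact SpHasFix.exists_psp h2 (by omega) h4

end positive

section final

open Cfsg.Agent.Lib.Helper40_BCMain

/-- a Zsigmondy prime `r ∉ {2, p}` with `e(r, q) = kk` -/
theorem exists_prime_order (hodd : Odd (Fintype.card F)) (p : ℕ) [Fact p.Prime] [CharP F p]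
    (kk : ℕ) (hkk : 3 ≤ kk) :
    ∃ r : ℕ, r.Prime ∧ r ≠ 2 ∧ r ≠ p ∧ orderOf ((Fintype.card F : ℕ) : ZMod r) = kk := by
  have hp : p.Prime := Fact.out
  have hq1 : 1 < Fintype.card F := Fintype.one_lt_card
  obtain ⟨r, hr, hdvd, hmin⟩ := Cfsg.Agent.Lib.Helper99_Zsigmondy.zsigmondy (Fintype.card F) kk hq1
    (by omega)
    (by
      rintro ⟨h, _⟩
      rw [h] at hodd
      exact absurd hodd (by decide))
    (by
      rintro ⟨h, _⟩
      omega)
  refine ⟨r, hr, ?_, ?_, ?_⟩
  · rintro rfl
    apply hmin 1 (by norm_num) (by omega)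
    rw [pow_one]
    obtain ⟨t, ht⟩ := hodd
    rw [ht]
    exact ⟨t, by omega⟩
  · rintro rfl
    have hpq : r ∣ Fintype.card F :=
      (CharP.cast_eq_zero_iff F r _).1 (Nat.cast_card_eq_zero F)
    have h1 : r ∣ Fintype.card F ^ kk := Dvd.dvd.trans hpq (dvd_pow_self _ (by omega))
    have h3 : 1 ≤ Fintype.card F ^ kk := Nat.one_le_pow _ _ (by omega)
    have h4 : r ∣ Fintype.card F ^ kk - (Fintype.card F ^ kk - 1) := Nat.dvd_sub h1 hdvd
    have h5 : Fintype.card F ^ kk - (Fintype.card F ^ kk - 1) = 1 := by omega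
    rw [h5] at h4
    exact hp.one_lt.ne' (Nat.dvd_one.1 h4)
  · rw [orderOf_eq_iff (by omega)]
    refine ⟨?_, ?_⟩
    · exact (Cfsg.Agent.Lib.Helper99_Zsigmondy.dvd_pow_sub_one_iff (by omega)).1 hdvd
    · intro m hm hm0 h1
      exact hmin m hm0 hm
        ((Cfsg.Agent.Lib.Helper99_Zsigmondy.dvd_pow_sub_one_iff (by omega)).2 h1)

/-- for `q` odd and `n ≥ 3` the groups `PΩ_{2n+1}(q)` and `PSp_{2n}(q)` have different sets of
element orders -/
theorem spectra_BC_differ (hodd : Odd (Fintype.card F)) (n : ℕ) (hn : 3 ≤ n) :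
    Set.range (orderOf : Cfsg.POmega F (Cfsg.quadFormOdd n F) → ℕ) ≠
      Set.range (orderOf : Cfsg.PSp n F → ℕ) := by
  have h2 : (2 : F) ≠ 0 := Cfsg.Agent.Lib.Helper44_FinSq.two_ne_zero_of_odd_card hodd
  obtain ⟨p, hchar⟩ := CharP.exists F
  have hp : p.Prime := CharP.char_is_prime F p
  have : Fact p.Prime := ⟨hp⟩
  intro heq
  -- the choice of `e(r, q)`
  have key : ∀ (kk η : ℕ), 3 ≤ kk → ((Odd kk ∧ η = kk) ∨ (Even kk ∧ 2 * η = kk)) → η + 1 = n →
      (kk ∣ η ∧ (Even η ∨ Fintype.card F % 4 = 1)) ∨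
        (¬ kk ∣ η ∧ Odd η ∧ Fintype.card F % 4 = 3) := by
    intro kk η hkk hη hηn
    obtain ⟨r, hr, hr2, hrp, hord⟩ := exists_prime_order hodd p kk hkk
    obtain ⟨g, hg⟩ := psp_two_p_r p h2 n (by omega) hr hr2 hrp kk η hord.symm hη hηn
    have hmem : 2 * p * r ∈ Set.range (orderOf : Cfsg.PSp n F → ℕ) := ⟨g, hg⟩
    rw [← heq, range_pomega hodd n hn] at hmem
    revert hmem
    rw [← coe_qfOdd]
    rintro ⟨x, hx⟩
    exact omega_two_p_r_arith p h2 hodd n hn x.1 x.2 hr hr2 hrp
      (by rw [Subgroup.orderOf_coe]; exact hx) kk η hord.symm hη hηn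
  by_cases hcase : Fintype.card F % 4 = 3 ∧ Even n
  · -- `e(r, q) = n - 1`, odd
    obtain ⟨h43, hneven⟩ := hcase
    have hodd' : Odd (n - 1) := by
      obtain ⟨t, ht⟩ := hneven
      exact ⟨t - 1, by omega⟩
    have hn4 : 4 ≤ n := by
      obtain ⟨t, ht⟩ := hneven
      omega
    rcases key (n - 1) (n - 1) (by omega) (Or.inl ⟨hodd', rfl⟩) (by omega) with
      ⟨_, h3 | h3⟩ | ⟨h3, _⟩
    · exact (Nat.not_even_iff_odd.2 hodd') h3
    · omega
    · exact h3 (dvd_refl _)
  · -- `e(r, q) = 2 (n - 1)`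
    rcases key (2 * (n - 1)) (n - 1) (by omega) (Or.inr ⟨⟨n - 1, by ring⟩, rfl⟩) (by omega) with
      ⟨h3, _⟩ | ⟨_, h3, h4⟩
    · have := Nat.le_of_dvd (by omega) h3
      omega
    · apply hcase
      refine ⟨h4, ?_⟩
      obtain ⟨t, ht⟩ := h3
      exact ⟨t + 1, by omega⟩

end final

end Cfsg.Agent.Lib.Helper40_BCSpec
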