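/-
helper40: certificate-free definitions used to instantiate `GreenData` (Helper40_GreenDefs) for the Chevalley groups
`D.group F` (S2441).  `grFc`, `LinMapC` are VERBATIM copies of `Helper18_ChevBruhat.grF`, `LinMap` (so that this file
has a light import closure); they are definitionally equal to the originals.
-/
import Mathlib
import Cfsg.Agent.Lib.Helper40_ChevDZDefs
import Cfsg.Agent.Lib.Helper40_GreenDefs

set_option autoImplicit false

namespace Cfsg.Agent.Lib.Helper40_ChevGreenDefs

open Cfsg Cfsg.Lie

variable (D : ChevalleyDatum) (F : Type*) [Field F]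

/-- the root element `x_r(t)` as an element of the Chevalley group (junk value `1` if the matrix is not in the group) -/
noncomputable def xG (r : ℕ) (t : F) : ↥(D.group F) := by
  classical
  exact if h : ∃ g : ↥(D.group F), ((g : GL D.Idx F) : Matrix D.Idx D.Idx F) = D.x F r t then h.choose else 1

/-- the monomial subgroup `N`, inside the Chevalley group -/
def cN : Subgroup ↥(D.group F) := (D.monomialSubgroup F).subgroupOf (D.group F)

/-- copy of `Helper18_ChevBruhat.grF` -/
def grFc (w : ℕ → ℤ) (s : ℕ) : ℤ := ∑ j ∈ Finset.range D.rank, w j * D.cartan j s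

/-- copy of `Helper18_ChevBruhat.LinMap` -/
def LinMapC (π : ℕ → ℕ) : Prop :=
  (∀ r < D.nroots, π r < D.nroots) ∧ (∀ r < D.nroots, π (D.neg r) = D.neg (π r)) ∧
    ∀ w : ℕ → ℤ, ∃ w' : ℕ → ℤ, ∀ s < D.nroots, grFc D w (π s) = grFc D w' s

/-- `m` permutes the root subgroups by the linear map `π` of the roots -/
def cIsAct (m : ↥(D.group F)) (π : ℕ → ℕ) : Prop :=
  LinMapC D π ∧ ∀ r < D.nroots, ∃ a : F, a ≠ 0 ∧ ∀ t : F, m * xG D F r t * m⁻¹ = xG D F (π r) (a * t)

/-- adjacency in the Dynkin diagram -/
def cAdj (i j : ℕ) : Prop := i ≠ j ∧ D.cartan i (D.simple j) ≠ 0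

/-- the root `r` lies in the rank 2 subsystem spanned by the fundamental roots `i`, `j` -/
def cSub2 (i j r : ℕ) : Prop := D.InRootSub {i, j} r

end Cfsg.Agent.Lib.Helper40_ChevGreenDefs
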