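/-
helper40 (GREEN market, package GC-XG): the root element `xG D F r t : ↥(D.group F)` of `Helper40_ChevGreenDefs` is
the matrix `D.x F r t`, i.e. its image in `GL` is `Helper18_ChevGL.xGL c r t` for every certificate `c`.
-/
import Mathlib
import Cfsg.Agent.Lib.Helper40_ChevGreenDefs
import Cfsg.Agent.Lib.Helper18_ChevData5
import Cfsg.Agent.Lib.Helper81_ChevSt

set_option autoImplicit false

namespace Cfsg.Agent.Lib.Helper40_ChevGreenXG

open Cfsg Cfsg.Lie Cfsg.Agent.Lib.Helper40_ChevDZDefs Cfsg.Agent.Lib.Helper40_ChevGreenDefs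
open Cfsg.Agent.Lib.Helper18_ChevGL Cfsg.Agent.Lib.Helper18_ChevFast

variable (D : ChevalleyDatum) {F : Type*} [Field F]

/-- with a certificate at hand -/
theorem xG_eq_xGL {Ns : List Cfsg.Agent.Lib.Helper18_ChevN.NData} (c : Cfsg.Agent.Lib.Helper18_ChevWeyl.DCert D Ns) (r : ℕ) (t : F) :
    ((xG D F r t : ↥(D.group F)) : GL D.Idx F) = xGL c r t := by
  have h : ∃ g : ↥(D.group F), ((g : GL D.Idx F) : Matrix D.Idx D.Idx F) = D.x F r t :=
    ⟨⟨xGL c r t, xGL_mem_group c r t⟩, rfl⟩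
  apply Units.ext
  unfold xG
  rw [dif_pos h]
  exact h.choose_spec

variable (hD : D ∈ [chevG2, chevB2, chevD4, chevF4, chevE6, chevE7, chevE8])
include hD

/-- GC-XG -/
theorem xG_coe (r : ℕ) (t : F) :
    (((xG D F r t : ↥(D.group F)) : GL D.Idx F) : Matrix D.Idx D.Idx F) = D.x F r t := by
  obtain ⟨Ns, w, d, Ts, hT, K, base, stepT, wl, ws, sc, c, tc, gc, pc, ac⟩ :=
    Cfsg.Agent.Lib.Helper18_ChevData5.exists_cert5 D hD
  rw [xG_eq_xGL D c r t]
  rfl

/-- the closure of a set of root elements inside the Chevalley group is the pull-back of the closure in `GL` -/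
theorem closure_xG (Q : ℕ → Prop) :
    Subgroup.closure {g : ↥(D.group F) | ∃ r t, Q r ∧ g = xG D F r t} =
      (Subgroup.closure {g : GL D.Idx F | ∃ (r : ℕ) (t : F), Q r ∧
        (g : Matrix D.Idx D.Idx F) = D.x F r t}).subgroupOf (D.group F) := by
  obtain ⟨Ns, w, d, Ts, hT, K, base, stepT, wl, ws, sc, c, tc, gc, pc, ac⟩ :=
    Cfsg.Agent.Lib.Helper18_ChevData5.exists_cert5 D hD
  have hset : {g : GL D.Idx F | ∃ (r : ℕ) (t : F), Q r ∧ (g : Matrix D.Idx D.Idx F) = D.x F r t} =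
      (D.group F).subtype '' {g : ↥(D.group F) | ∃ r t, Q r ∧ g = xG D F r t} := by
    ext g
    constructor
    · rintro ⟨r, t, hr, hg⟩
      refine ⟨xG D F r t, ⟨r, t, hr, rfl⟩, ?_⟩
      show ((xG D F r t : ↥(D.group F)) : GL D.Idx F) = g
      rw [xG_eq_xGL D c r t]
      exact (eq_xGL c hg).symm
    · rintro ⟨g', ⟨r, t, hr, rfl⟩, rfl⟩
      refine ⟨r, t, hr, ?_⟩
      show (((xG D F r t : ↥(D.group F)) : GL D.Idx F) : Matrix D.Idx D.Idx F) = D.x F r t
      rw [xG_eq_xGL D c r t]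
      rfl
  rw [hset, Cfsg.Agent.Lib.Helper81_ChevSt.closure_subgroupOf]

/-- `U` is generated by the positive root elements -/
theorem cU_eq : cU D F = Subgroup.closure {g : ↥(D.group F) | ∃ r t, D.IsPosRoot r ∧ g = xG D F r t} := by
  rw [closure_xG D hD]
  rfl

/-- `U_{p_i}` -/
theorem cUa_eq (i : ℕ) : cUa D F i =
    Subgroup.closure {g : ↥(D.group F) | ∃ r t, D.IsPosRoot r ∧ r ≠ D.simple i ∧ g = xG D F r t} := by
  have := closure_xG D hD (F := F) (fun r => D.IsPosRoot r ∧ r ≠ D.simple i)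
  simp only [and_assoc] at this
  rw [this]
  rfl

/-- `U_J` -/
theorem cUJ_eq (J : Set ℕ) : (D.unipotentRadical F J).subgroupOf (D.group F) =
    Subgroup.closure {g : ↥(D.group F) | ∃ r t, D.IsPosRoot r ∧ ¬ D.InRootSub J r ∧ g = xG D F r t} := by
  have := closure_xG D hD (F := F) (fun r => D.IsPosRoot r ∧ ¬ D.InRootSub J r)
  simp only [and_assoc] at this
  rw [this]
  rfl

/-- GC-U -/
theorem ch_x_mem : ∀ r, D.IsPosRoot r → ∀ t : F, xG D F r t ∈ cU D F := by
  intro r hr t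
  rw [cU_eq D hD]
  exact Subgroup.subset_closure ⟨r, t, hr, rfl⟩

theorem ch_U_le : cU D F ≤ Subgroup.closure {g | ∃ r t, D.IsPosRoot r ∧ g = xG D F r t} :=
  (cU_eq D hD).le

end Cfsg.Agent.Lib.Helper40_ChevGreenXG
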