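/-
helper40 (GREEN market, package GC-RANK2): a linear map of the roots that makes the fundamental roots `p_i`, `p_j`
negative makes every positive root of the rank 2 subsystem spanned by them negative.  Via the expansion of an
additive function in its values at the fundamental roots.
-/
import Mathlib
import Cfsg.Agent.Lib.Helper40_ChevGreenDefs
import Cfsg.Agent.Lib.Helper18_ChevData5
import Cfsg.Agent.Lib.Helper18_ChevBruhat

set_option autoImplicit false

namespace Cfsg.Agent.Lib.Helper40_GR_GCRANK2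

open Cfsg Cfsg.Lie Cfsg.Agent.Lib.Helper40_ChevDZDefs Cfsg.Agent.Lib.Helper40_ChevGreenDefs
open Cfsg.Agent.Lib.Helper18_ChevFast Cfsg.Agent.Lib.Helper18_ChevEngine
  Cfsg.Agent.Lib.Helper18_ChevR1 Cfsg.Agent.Lib.Helper18_ChevN Cfsg.Agent.Lib.Helper18_ChevR4
  Cfsg.Agent.Lib.Helper18_ChevSimple Cfsg.Agent.Lib.Helper18_ChevSimple2 Cfsg.Agent.Lib.Helper18_ChevFacts
  Cfsg.Agent.Lib.Helper18_ChevWeyl Cfsg.Agent.Lib.Helper18_ChevDiag Cfsg.Agent.Lib.Helper18_ChevCar
  Cfsg.Agent.Lib.Helper18_ChevTorus Cfsg.Agent.Lib.Helper18_ChevGL Cfsg.Agent.Lib.Helper18_ChevComm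
  Cfsg.Agent.Lib.Helper18_ChevComm2 Cfsg.Agent.Lib.Helper18_MatTri Cfsg.Agent.Lib.Helper18_ChevTri
  Cfsg.Agent.Lib.Helper18_ChevBorel Cfsg.Agent.Lib.Helper18_ChevAdd Cfsg.Agent.Lib.Helper18_ChevUni
  Cfsg.Agent.Lib.Helper18_ChevSimp Cfsg.Agent.Lib.Helper18_ChevBruhat

section

variable {D : ChevalleyDatum} {Ns : List NData}
variable {wl : List ℤ} {ws : List (List ℤ)} {sc : ℤ}

theorem cf_eq_grF (k r : ℕ) : cf D ws k r = grF D (fun j => (ws.getD k []).getD j 0) r := rfl

/-- the value at a fundamental root of the right hand side -/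
theorem expansion_simple (ac : ACert D wl ws sc) (g : ℕ → ℤ) (i : ℕ) (hi : i < D.rank) :
    ∑ k ∈ Finset.range D.rank, cf D ws k (D.simple i) * g k = sc * g i := by
  rw [Finset.sum_eq_single i]
  · rw [ac.cf_simple i hi i hi, if_pos rfl]
  · intro k hk hki
    rw [ac.cf_simple i hi k (Finset.mem_range.mp hk), if_neg hki, zero_mul]
  · intro h
    exact absurd (Finset.mem_range.mpr hi) h

/-- expansion of an additive function in its values at the fundamental roots -/
theorem expansion (c : DCert D Ns) (ac : ACert D wl ws sc) (w : ℕ → ℤ) :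
    ∀ r < D.nroots, sc * grF D w r =
      ∑ k ∈ Finset.range D.rank, cf D ws k r * grF D w (D.simple k) := by
  apply c.root_induction
  · intro i hi
    rw [expansion_simple ac (fun k => grF D w (D.simple k)) i hi]
  · intro i hi s hs ih
    have h1 : ∀ k, cf D ws k (D.reflectRoot i s) =
        cf D ws k s - cf D ws k (D.simple i) * D.cartan i s := by
      intro k
      rw [cf_eq_grF, cf_eq_grF, cf_eq_grF]
      exact grF_reflect c i hi _ s hs
    rw [grF_reflect c i hi w s hs]
    simp only [h1, sub_mul]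
    rw [Finset.sum_sub_distrib, ← ih]
    have h2 : ∑ k ∈ Finset.range D.rank,
        cf D ws k (D.simple i) * D.cartan i s * grF D w (D.simple k) =
        D.cartan i s * ∑ k ∈ Finset.range D.rank, cf D ws k (D.simple i) * grF D w (D.simple k) := by
      rw [Finset.mul_sum]
      apply Finset.sum_congr rfl
      intro k _
      ring
    rw [h2, expansion_simple ac (fun k => grF D w (D.simple k)) i hi]
    ring

theorem rank2_aux (c : DCert D Ns) (ac : ACert D wl ws sc) (π : ℕ → ℕ) (hπ : LinMap D π)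
    (i : ℕ) (hi : i < D.rank) (j : ℕ) (hj : j < D.rank)
    (hni : D.IsNegRoot (π (D.simple i))) (hnj : D.IsNegRoot (π (D.simple j)))
    (r : ℕ) (hr : D.IsPosRoot r) (hsub : D.InRootSub {i, j} r) : D.IsNegRoot (π r) := by
  have hrlt := hr.1
  rw [ac.neg_iff _ (hπ.1 r hrlt)]
  intro m hm
  obtain ⟨w', hw'⟩ := hπ.2.2 (fun j => (ws.getD m []).getD j 0)
  rw [cf_eq_grF, hw' r hrlt]
  have hexp := expansion c ac w' r hrlt
  have hterm : ∀ k ∈ Finset.range D.rank, cf D ws k r * grF D w' (D.simple k) ≤ 0 := by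
    intro k hk
    have hk' := Finset.mem_range.mp hk
    by_cases hkij : k ∈ ({i, j} : Set ℕ)
    · have hkneg : D.IsNegRoot (π (D.simple k)) := by
        rcases hkij with rfl | hkj
        · exact hni
        · rw [Set.mem_singleton_iff] at hkj
          rw [hkj]
          exact hnj
      have hsk := (ac.simple k hk').1
      have h1 : grF D w' (D.simple k) ≤ 0 := by
        rw [← hw' _ hsk, ← cf_eq_grF]
        exact (ac.neg_iff _ (hπ.1 _ hsk)).mp hkneg m hm
      have h2 : 0 ≤ cf D ws k r := (ac.pos_iff r hrlt).mp hr k hk'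
      exact mul_nonpos_of_nonneg_of_nonpos h2 h1
    · have h0 : cor D r k = 0 := hsub.2 k hk' hkij
      rw [(ac.cor_zero_iff r hrlt k hk').mp h0, zero_mul]
  have hsum : sc * grF D w' r ≤ 0 := by
    rw [hexp]
    exact Finset.sum_nonpos hterm
  by_contra hpos
  push Not at hpos
  have := mul_pos ac.sc_pos hpos
  omega

end

variable (D : ChevalleyDatum)
  (hD : D ∈ [chevG2, chevB2, chevD4, chevF4, chevE6, chevE7, chevE8])

include hD

/- GC-RANK2 -/
theorem ch_act_rank2 : ∀ π : ℕ → ℕ, LinMapC D π → ∀ i, i < D.rank → ∀ j, j < D.rank →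
    D.IsNegRoot (π (D.simple i)) → D.IsNegRoot (π (D.simple j)) →
    ∀ r, D.IsPosRoot r → cSub2 D i j r → D.IsNegRoot (π r) := by
  intro π hπ i hi j hj hni hnj r hr hsub
  obtain ⟨Ns, w, d, Ts, hT, K, base, stepT, wl, ws, sc, c, tc, gc, pc, ac⟩ :=
    Cfsg.Agent.Lib.Helper18_ChevData5.exists_cert5 D hD
  exact rank2_aux c ac π hπ i hi j hj hni hnj r hr hsub

end Cfsg.Agent.Lib.Helper40_GR_GCRANK2
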