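/- helper40 (GREEN market, package GC-ALLPOS): a linear map of the roots making all fundamental roots positive
(negative) makes all positive roots positive (negative). -/
import Mathlib
import Cfsg.Agent.Lib.Helper40_ChevGreenDefs
import Cfsg.Agent.Lib.Helper40_ChevGreenXG
import Cfsg.Agent.Lib.Helper40_GR_GCRANK2
import Cfsg.Agent.Lib.Helper18_ChevData5
import Cfsg.Agent.Lib.Helper18_ChevBruhat
import Cfsg.Agent.Lib.Helper18_ChevJCerts

set_option autoImplicit false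

namespace Cfsg.Agent.Lib.Helper40_GR_GCALLPOS

open Cfsg Cfsg.Lie Cfsg.Agent.Lib.Helper40_ChevDZDefs Cfsg.Agent.Lib.Helper40_ChevGreenDefs
open Cfsg.Agent.Lib.Helper18_ChevFast Cfsg.Agent.Lib.Helper18_ChevEngine
  Cfsg.Agent.Lib.Helper18_ChevR1 Cfsg.Agent.Lib.Helper18_ChevN Cfsg.Agent.Lib.Helper18_ChevR4
  Cfsg.Agent.Lib.Helper18_ChevSimple Cfsg.Agent.Lib.Helper18_ChevSimple2 Cfsg.Agent.Lib.Helper18_ChevFacts
  Cfsg.Agent.Lib.Helper18_ChevWeyl Cfsg.Agent.Lib.Helper18_ChevDiag Cfsg.Agent.Lib.Helper18_ChevCar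
  Cfsg.Agent.Lib.Helper18_ChevTorus Cfsg.Agent.Lib.Helper18_ChevGL Cfsg.Agent.Lib.Helper18_ChevComm
  Cfsg.Agent.Lib.Helper18_ChevComm2 Cfsg.Agent.Lib.Helper18_MatTri Cfsg.Agent.Lib.Helper18_ChevTri
  Cfsg.Agent.Lib.Helper18_ChevBorel Cfsg.Agent.Lib.Helper18_ChevAdd Cfsg.Agent.Lib.Helper18_ChevUni
  Cfsg.Agent.Lib.Helper18_ChevSimp Cfsg.Agent.Lib.Helper18_ChevBruhat

open Cfsg.Agent.Lib.Helper40_GR_GCRANK2

variable (D : ChevalleyDatum)
  (hD : D ∈ [chevG2, chevB2, chevD4, chevF4, chevE6, chevE7, chevE8])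

include hD

/- GC-ALLPOS -/
theorem ch_act_allpos : ∀ π : ℕ → ℕ, LinMapC D π →
    (∀ i, i < D.rank → D.IsPosRoot (π (D.simple i))) → ∀ r, D.IsPosRoot r → D.IsPosRoot (π r) := by
  intro π hπ h r hr
  obtain ⟨Ns, w, d, Ts, hT, K, base, stepT, wl, ws, sc, c, tc, gc, pc, ac⟩ :=
    Cfsg.Agent.Lib.Helper18_ChevData5.exists_cert5 D hD
  have hdesc := Cfsg.Agent.Lib.Helper18_ChevJCerts.descent_all D hD
  have hπ' : LinMap D π := hπ
  exact hπ'.pos c tc ac hdesc h r hr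

theorem ch_act_allneg : ∀ π : ℕ → ℕ, LinMapC D π →
    (∀ i, i < D.rank → D.IsNegRoot (π (D.simple i))) → ∀ r, D.IsPosRoot r → D.IsNegRoot (π r) := by
  intro π hπ h r hr
  obtain ⟨Ns, w, d, Ts, hT, K, base, stepT, wl, ws, sc, c, tc, gc, pc, ac⟩ :=
    Cfsg.Agent.Lib.Helper18_ChevData5.exists_cert5 D hD
  have hπ' : LinMap D π := hπ
  have hrlt := hr.1
  rw [ac.neg_iff _ (hπ'.1 r hrlt)]
  intro m hm
  obtain ⟨w', hw'⟩ := hπ'.2.2 (fun j => (ws.getD m []).getD j 0)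
  rw [cf_eq_grF, hw' r hrlt]
  have hexp := expansion c ac w' r hrlt
  have hterm : ∀ k ∈ Finset.range D.rank, cf D ws k r * grF D w' (D.simple k) ≤ 0 := by
    intro k hk
    have hk' := Finset.mem_range.mp hk
    have hsk := (ac.simple k hk').1
    have h1 : grF D w' (D.simple k) ≤ 0 := by
      rw [← hw' _ hsk, ← cf_eq_grF]
      exact (ac.neg_iff _ (hπ'.1 _ hsk)).mp (h k hk') m hm
    have h2 : 0 ≤ cf D ws k r := (ac.pos_iff r hrlt).mp hr k hk'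
    exact mul_nonpos_of_nonneg_of_nonpos h2 h1
  have hsum : sc * grF D w' r ≤ 0 := by
    rw [hexp]
    exact Finset.sum_nonpos hterm
  by_contra hpos
  push Not at hpos
  have := mul_pos ac.sc_pos hpos
  omega

end Cfsg.Agent.Lib.Helper40_GR_GCALLPOS
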