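/- helper40 (GREEN market, package GC-SYL): `U` is a Sylow `p`-subgroup of the Chevalley group and `p` divides the order. -/
import Mathlib
import Cfsg.Agent.Lib.Helper40_ChevGreenDefs
import Cfsg.Agent.Lib.Helper18_ChevData5
import Cfsg.Agent.S2326

set_option autoImplicit false

namespace Cfsg.Agent.Lib.Helper40_GR_GCSYL

open Cfsg Cfsg.Lie Cfsg.Agent.Lib.Helper40_ChevDZDefs Cfsg.Agent.Lib.Helper40_ChevGreenDefs
open Cfsg.Agent.Lib.Helper18_ChevGL Cfsg.Agent.Lib.Helper18_ChevUni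

variable (D : ChevalleyDatum)
  (hD : D ∈ [chevG2, chevB2, chevD4, chevF4, chevE6, chevE7, chevE8]) {F : Type*} [Field F]

include hD

omit [Field F] in
theorem two_le_nroots : 2 ≤ D.nroots := by
  simp only [List.mem_cons, List.not_mem_nil, or_false] at hD
  rcases hD with rfl | rfl | rfl | rfl | rfl | rfl | rfl <;> decide

/- GC-SYL -/
theorem ch_sylow [Fintype F] (p : ℕ) [Fact p.Prime] [CharP F p] :
    (∃ P : Sylow p ↥(D.group F), (P : Subgroup ↥(D.group F)) = cU D F) ∧ p ∣ Nat.card ↥(D.group F) := by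
  obtain ⟨P, hP⟩ := Cfsg.Agent.S2326.result (F := F) p D hD
  have hPU : (P : Subgroup ↥(D.group F)) = cU D F := hP
  refine ⟨⟨P, hPU⟩, ?_⟩
  obtain ⟨Ns, w, d, Ts, hT, K, base, stepT, wl, ws, sc, c, tc, gc, pc, ac⟩ :=
    Cfsg.Agent.Lib.Helper18_ChevData5.exists_cert5 D hD
  have hR2 : R2All D F := Cfsg.Agent.Lib.Helper18_ChevComm2.r2_all c pc
  have hp : p.Prime := Fact.out
  have hcardU : Nat.card (cU D F) = Fintype.card F ^ (D.nroots / 2) := by
    rw [← card_posUnipotent c tc ac hR2]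
    exact Nat.card_congr (Subgroup.subgroupOfEquivOfLe (posUnipotent_le_group c)).toEquiv
  have hq : p ∣ Fintype.card F := by
    obtain ⟨n, hn⟩ := FiniteField.card F p
    rw [hn.2]
    exact dvd_pow_self p n.pos.ne'
  have hpU : p ∣ Nat.card (cU D F) := by
    rw [hcardU]
    have h2 := two_le_nroots D hD
    exact dvd_trans hq (dvd_pow_self _ (by omega))
  rw [← hPU] at hpU
  exact dvd_trans hpU (Subgroup.card_subgroup_dvd_card _)

end Cfsg.Agent.Lib.Helper40_GR_GCSYL
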