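import Mathlib
import Cfsg.Agent.Lib.Helper18_ChevBruhat

/-!
helper53: GREEN market (architect helper40, row S2441), auxiliary file for package GC-CENU (step (4)):
a torus element whose character is trivial on the fundamental roots is trivial.
-/

set_option autoImplicit false

namespace Cfsg.Agent.Lib.Helper53_GR_CENUaux

open Cfsg Cfsg.Lie Cfsg.Agent.Lib.Helper18_ChevFast Cfsg.Agent.Lib.Helper18_ChevEngine
  Cfsg.Agent.Lib.Helper18_ChevR1 Cfsg.Agent.Lib.Helper18_ChevN Cfsg.Agent.Lib.Helper18_ChevR4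
  Cfsg.Agent.Lib.Helper18_ChevSimple Cfsg.Agent.Lib.Helper18_ChevSimple2 Cfsg.Agent.Lib.Helper18_ChevFacts
  Cfsg.Agent.Lib.Helper18_ChevWeyl Cfsg.Agent.Lib.Helper18_ChevDiag Cfsg.Agent.Lib.Helper18_ChevCar
  Cfsg.Agent.Lib.Helper18_ChevTorus Cfsg.Agent.Lib.Helper18_ChevGL Cfsg.Agent.Lib.Helper18_ChevBorel

variable {D : ChevalleyDatum} {Ns : List NData} {F : Type*} [Field F]

/-- the Cartan integers of a reflected root -/
theorem cartan_reflect (c : DCert D Ns) (i : ℕ) (hi : i < D.rank) (s : ℕ) (hs : s < D.nroots)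
    (j : ℕ) (hj : j < D.rank) :
    D.cartan j (D.reflectRoot i s) = D.cartan j s - D.cartan j (D.simple i) * D.cartan i s := by
  have hs' := c.reflect_lt i hi s hs
  have fs := facts c.rows (c.ncert i hi) _ hs'
  have := fs.car j hj
  rw [c.reflect_reflect i hi s hs] at this
  exact this

/-- the torus character at a reflected root -/
theorem torusChar_reflect (c : DCert D Ns) (τ : ℕ → F) (hτ : ∀ i, τ i ≠ 0) (i : ℕ) (hi : i < D.rank)
    (s : ℕ) (hs : s < D.nroots) :
    torusChar D τ (D.reflectRoot i s) =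
      torusChar D τ s * (torusChar D τ (D.simple i)) ^ (-(D.cartan i s)) := by
  unfold torusChar
  rw [← Finset.prod_zpow, ← Finset.prod_mul_distrib]
  apply Finset.prod_congr rfl
  intro j hj
  rw [cartan_reflect c i hi s hs j (Finset.mem_range.mp hj), sub_eq_add_neg, zpow_add₀ (hτ j),
    ← zpow_mul, mul_neg]

/-- step (4) of GC-CENU: a torus character that is trivial on the fundamental roots is trivial -/
theorem torusChar_eq_one (c : DCert D Ns) (τ : ℕ → F) (hτ : ∀ i, τ i ≠ 0)
    (h1 : ∀ i < D.rank, torusChar D τ (D.simple i) = 1) :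
    ∀ r < D.nroots, torusChar D τ r = 1 := by
  apply c.root_induction (fun r => torusChar D τ r = 1) h1
  intro i hi s hs hP
  rw [torusChar_reflect c τ hτ i hi s hs, hP, h1 i hi, one_zpow, one_mul]

/-- the corresponding torus element is the identity matrix -/
theorem torusMat_eq_one (c : DCert D Ns) (τ : ℕ → F) (hτ : ∀ i, τ i ≠ 0)
    (h1 : ∀ i < D.rank, torusChar D τ (D.simple i) = 1) : torusMat D τ = 1 := by
  unfold torusMat
  rw [← diagMat_one (D := D)]
  unfold diagMat
  congr 1
  funext idx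
  rcases idx with i | s
  · rfl
  · exact torusChar_eq_one c τ hτ h1 s.val s.isLt

/-- group version: an element of `GL` whose matrix is the torus element of `τ` is `1` -/
theorem gl_eq_one_of_torus (c : DCert D Ns) (h : GL D.Idx F) (τ : ℕ → F) (hτ : ∀ i, τ i ≠ 0)
    (hk : (h : Matrix D.Idx D.Idx F) = torusMat D τ)
    (h1 : ∀ i < D.rank, torusChar D τ (D.simple i) = 1) : h = 1 := by
  apply Units.ext
  rw [hk, torusMat_eq_one c τ hτ h1]
  rfl

end Cfsg.Agent.Lib.Helper53_GR_CENUaux
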