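/- helper40 (GREEN market, package GC-CENU): in a finite Chevalley group a `p`-regular element centralising `U` is `1`.
`C_G(U) ≤ N_G(U) = B = UH`; the `H`-part acts trivially on the fundamental root subgroups modulo `U_p`, hence is `1`
(step (4) = Helper53_GR_CENUaux); what is left is a `p`-element. -/
import Mathlib
import Cfsg.Agent.Lib.Helper40_ChevGreenDefs
import Cfsg.Agent.Lib.Helper40_ChevGreenXG
import Cfsg.Agent.Lib.Helper40_GR_GCSYL
import Cfsg.Agent.Lib.Helper44_GR_GCUA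
import Cfsg.Agent.Lib.Helper53_GR_CENUaux
import Cfsg.Agent.Lib.Helper18_ChevData5
import Cfsg.Agent.Lib.Helper18_ChevRootHom

set_option autoImplicit false

namespace Cfsg.Agent.Lib.Helper40_GR_GCCENU

open Cfsg Cfsg.Lie Cfsg.Agent.Lib.Helper40_ChevDZDefs Cfsg.Agent.Lib.Helper40_ChevGreenDefs
open Cfsg.Agent.Lib.Helper18_ChevFast Cfsg.Agent.Lib.Helper18_ChevEngine
  Cfsg.Agent.Lib.Helper18_ChevR1 Cfsg.Agent.Lib.Helper18_ChevN Cfsg.Agent.Lib.Helper18_ChevR4
  Cfsg.Agent.Lib.Helper18_ChevSimple Cfsg.Agent.Lib.Helper18_ChevSimple2 Cfsg.Agent.Lib.Helper18_ChevFacts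
  Cfsg.Agent.Lib.Helper18_ChevWeyl Cfsg.Agent.Lib.Helper18_ChevDiag Cfsg.Agent.Lib.Helper18_ChevCar
  Cfsg.Agent.Lib.Helper18_ChevTorus Cfsg.Agent.Lib.Helper18_ChevGL Cfsg.Agent.Lib.Helper18_ChevComm
  Cfsg.Agent.Lib.Helper18_ChevComm2 Cfsg.Agent.Lib.Helper18_MatTri Cfsg.Agent.Lib.Helper18_ChevTri
  Cfsg.Agent.Lib.Helper18_ChevBorel Cfsg.Agent.Lib.Helper18_ChevAdd Cfsg.Agent.Lib.Helper18_ChevUni
  Cfsg.Agent.Lib.Helper18_ChevBN Cfsg.Agent.Lib.Helper18_ChevSimp Cfsg.Agent.Lib.Helper18_ChevBruhat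
  Cfsg.Agent.Lib.Helper18_ChevRootHom

variable (D : ChevalleyDatum)
  (hD : D ∈ [chevG2, chevB2, chevD4, chevF4, chevE6, chevE7, chevE8]) {F : Type*} [Field F]

include hD

/-- a fundamental root element lying in `U_p` is trivial (GL version of GC-UA) -/
theorem xGL_up_zero {Ns : List NData} (c : DCert D Ns) (i : ℕ) (hi : i < D.rank) (s : F)
    (h : xGL c (D.simple i) s ∈ Subgroup.closure (upGens D F i)) : s = 0 := by
  apply Cfsg.Agent.Lib.Helper44_GR_GCUA.ch_ua_compl D hD i hi s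
  rw [← Cfsg.Agent.Lib.Helper40_ChevGreenXG.cUa_eq D hD i]
  show ((xG D F (D.simple i) s : ↥(D.group F)) : GL D.Idx F) ∈ Subgroup.closure (upGens D F i)
  rw [Cfsg.Agent.Lib.Helper40_ChevGreenXG.xG_eq_xGL D c]
  exact h

/-- an element of `D.group F` centralising `U` lies in `U` -/
theorem cen_mem_pos (X : GL D.Idx F) (hXG : X ∈ D.group F)
    (hcen : ∀ u ∈ D.posUnipotent F, X * u = u * X) : X ∈ D.posUnipotent F := by
  obtain ⟨Ns, w, d, Ts, hT, K, base, stepT, wl, ws, sc, c, tc, gc, pc, ac⟩ :=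
    Cfsg.Agent.Lib.Helper18_ChevData5.exists_cert5 D hD
  have hR2 : R2All D F := Cfsg.Agent.Lib.Helper18_ChevComm2.r2_all c pc
  -- (1) `X` normalises `U`
  have hconj : ∀ u ∈ D.posUnipotent F, X * u * X⁻¹ = u := by
    intro u hu
    rw [hcen u hu, mul_inv_cancel_right]
  have hnorm : X ∈ Subgroup.normalizer (D.posUnipotent F : Set (GL D.Idx F)) := by
    rw [Subgroup.mem_normalizer_iff]
    intro u
    constructor
    · intro hu
      rw [hconj u hu]
      exact hu
    · intro hu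
      have h1 := hcen _ hu
      have h2 : X * u * X⁻¹ = u := by
        have : X * (X * u * X⁻¹) = X * u := by
          rw [h1]; group
        exact mul_left_cancel this
      rw [← h2]
      exact hu
  have hB : X ∈ D.borelSubgroup F := by
    rw [← normalizer_pos_inf_group c tc ac gc hR2]
    exact ⟨hnorm, hXG⟩
  -- (2) `X = u h`
  obtain ⟨u, hu, h, hh, hX⟩ := exists_mul_of_mem_sup _ _ (diagonal_le_normalizer_pos c tc) hB
  obtain ⟨τ, hτ, hk⟩ := exists_torus_of_mem c tc h hh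
  -- (3) the fundamental characters of `h` are trivial
  have h1 : ∀ i < D.rank, torusChar D τ (D.simple i) = 1 := by
    intro i hi
    set p := D.simple i with hp
    have hplt : p < D.nroots := (ac.simple i hi).1
    have hpos : D.IsPosRoot p := tc.simple_pos i hi
    set a := torusChar D τ p with ha
    have hconjh : h * xGL c p 1 * h⁻¹ = xGL c p a := by
      rw [mul_inv_eq_iff_eq_mul]
      apply Units.ext
      rw [Units.val_mul, Units.val_mul, xGL_coe, hk, xGL_coe]
      have := torus_conj c tc τ hτ p hplt (1 : F)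
      rwa [mul_one] at this
    have he : xGL c p (1 : F) ∈ D.posUnipotent F := Subgroup.subset_closure ⟨p, 1, hpos, rfl⟩
    have h2 : u * xGL c p a * u⁻¹ = xGL c p 1 := by
      have := hconj _ he
      rw [hX] at this
      calc u * xGL c p a * u⁻¹ = u * (h * xGL c p 1 * h⁻¹) * u⁻¹ := by rw [hconjh]
        _ = u * h * xGL c p 1 * (u * h)⁻¹ := by group
        _ = xGL c p 1 := this
    -- decompose `u`
    have hsc := simple_complement c tc ac hR2 i hi
    have hu' := hu
    rw [← hsc.2] at hu'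
    obtain ⟨y, hy, x, hx, rfl⟩ := exists_mul_of_mem_sup _ _ (le_trans le_sup_left hsc.1) hu'
    obtain ⟨b, rfl⟩ := (mem_rootSubgroup_iff c _ x).mp hx
    have h3 : y * xGL c p a * y⁻¹ = xGL c p 1 := by
      rw [← h2]
      have : xGL c p b * xGL c p a * (xGL c p b)⁻¹ = xGL c p a := by
        rw [xGL_inv, xGL_mul, xGL_mul]
        congr 1
        ring
      calc y * xGL c p a * y⁻¹ = y * (xGL c p b * xGL c p a * (xGL c p b)⁻¹) * y⁻¹ := by rw [this]
        _ = y * xGL c p b * xGL c p a * (y * xGL c p b)⁻¹ := by group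
    have hnz : xGL c p a * y⁻¹ * (xGL c p a)⁻¹ ∈ Subgroup.closure (upGens D F i) := by
      have hn := xGL_mem_normalizer_up c tc ac hR2 i hi p (Or.inl rfl) a
      exact (Subgroup.mem_normalizer_iff.mp hn y⁻¹).mp (Subgroup.inv_mem _ hy)
    have h4 : xGL c p (1 - a) ∈ Subgroup.closure (upGens D F i) := by
      have : xGL c p (1 - a) = y * (xGL c p a * y⁻¹ * (xGL c p a)⁻¹) := by
        have e1 : xGL c p (1 - a) = xGL c p 1 * (xGL c p a)⁻¹ := by
          rw [xGL_inv, xGL_mul, sub_eq_add_neg]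
        rw [e1, ← h3]
        group
      rw [this]
      exact Subgroup.mul_mem _ hy hnz
    have h5 := xGL_up_zero D hD c i hi _ h4
    have : a = 1 := by
      have := sub_eq_zero.mp h5
      exact this.symm
    exact this
  -- (4) `h = 1`
  have hh1 : h = 1 := Cfsg.Agent.Lib.Helper53_GR_CENUaux.gl_eq_one_of_torus c h τ hτ hk h1
  rw [hX, hh1, mul_one]
  exact hu

/- GC-CENU -/
theorem ch_cenU [Fintype F] (p : ℕ) [Fact p.Prime] [CharP F p] :
    ∀ x ∈ Subgroup.centralizer ((cU D F : Subgroup ↥(D.group F)) : Set ↥(D.group F)),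
      ¬ p ∣ orderOf x → x = 1 := by
  intro x hx hreg
  obtain ⟨Ns, w, d, Ts, hT, K, base, stepT, wl, ws, sc, c, tc, gc, pc, ac⟩ :=
    Cfsg.Agent.Lib.Helper18_ChevData5.exists_cert5 D hD
  have hxU : x ∈ cU D F := by
    show (x : GL D.Idx F) ∈ D.posUnipotent F
    apply cen_mem_pos D hD (x : GL D.Idx F) x.2
    intro u hu
    have huG : u ∈ D.group F := posUnipotent_le_group c hu
    have := (Subgroup.mem_centralizer_iff.mp hx) ⟨u, huG⟩ hu
    have h2 := congrArg (Subtype.val : ↥(D.group F) → GL D.Idx F) this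
    exact h2.symm
  obtain ⟨⟨P, hP⟩, -⟩ := Cfsg.Agent.Lib.Helper40_GR_GCSYL.ch_sylow D hD (F := F) p
  have hpg : IsPGroup p (cU D F) := hP ▸ P.isPGroup'
  obtain ⟨k, hk⟩ := hpg ⟨x, hxU⟩
  have hk' : x ^ p ^ k = 1 := by
    have := congrArg (Subtype.val : ↥(cU D F) → ↥(D.group F)) hk
    simpa using this
  have hdvd : orderOf x ∣ p ^ k := orderOf_dvd_of_pow_eq_one hk'
  have hp : p.Prime := Fact.out
  obtain ⟨j, -, hj⟩ := (Nat.dvd_prime_pow hp).mp hdvd
  have hj0 : j = 0 := by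
    by_contra hne
    apply hreg
    rw [hj]
    exact dvd_pow_self p hne
  rw [hj0, pow_zero] at hj
  exact orderOf_eq_one_iff.mp hj

end Cfsg.Agent.Lib.Helper40_GR_GCCENU
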