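import Mathlib
import Cfsg.Prelude.Def_Characters
import Cfsg.Prelude.Def_ParabolicCharacters
import Cfsg.Agent.Lib.Helper40_DefZeroDefs
import Cfsg.Agent.Lib.Helper40_DefZeroDefs2
import Cfsg.Agent.Lib.Helper39_Clifford
import Cfsg.Agent.Lib.Helper75_CharArith

/-!
# DEFZERO package R6A (architect helper40): a linear constituent of `ψ|_B` trivial on `U`
-/

set_option autoImplicit false

open Cfsg Cfsg.Agent.Lib.Helper40_DefZeroDefs

namespace Cfsg.Agent.Lib.Helper55_DZ_R6A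

variable {P : Type*} [Group P] [Fintype P] {p q : ℕ} [Fact p.Prime]

/-- the sum over the subgroup `U.subgroupOf B` of the restriction is the `ssum` over `U` -/
theorem sum_subgroupOf_eq_ssum (B U : Subgroup P) (hUB : U ≤ B) (ψ : P → ℂ)
    [Fintype ↥(U.subgroupOf B)] :
    ∑ n : ↥(U.subgroupOf B), ψ ((n : B) : P) = ssum (U : Set P) ψ := by
  classical
  have hinj : Function.Injective (fun n : ↥(U.subgroupOf B) => ((n : B) : P)) := by
    intro a b hab
    exact Subtype.ext (Subtype.ext hab)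
  have h1 : ∑ n : ↥(U.subgroupOf B), ψ ((n : B) : P) =
      ∑ g ∈ (Finset.univ : Finset ↥(U.subgroupOf B)).map ⟨_, hinj⟩, ψ g := by
    rw [Finset.sum_map]
    rfl
  have h2 : (Finset.univ : Finset ↥(U.subgroupOf B)).map ⟨_, hinj⟩ =
      Finset.univ.filter (fun g : P => g ∈ (U : Set P)) := by
    ext g
    simp only [Finset.mem_map, Finset.mem_univ, true_and, Function.Embedding.coeFn_mk,
      Finset.mem_filter, SetLike.mem_coe]
    constructor
    · rintro ⟨n, rfl⟩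
      exact Subgroup.mem_subgroupOf.1 n.2
    · intro hg
      exact ⟨⟨⟨g, hUB hg⟩, Subgroup.mem_subgroupOf.2 hg⟩, rfl⟩
  rw [h1, h2, Finset.sum_filter]
  unfold ssum
  apply Finset.sum_congr rfl
  intro g _
  congr

/-- R6A -/
theorem dz_r6a (R : RData P p q) [Fintype R.B] (ψ : P → ℂ) (hψ : Cfsg.IsCharacter P ψ)
    (hU : ssum (R.U : Set P) ψ ≠ 0) :
    ∃ θ : R.B → ℂ, Cfsg.IsCharacter R.B θ ∧ θ 1 = 1 ∧ (∀ b : R.B, (b : P) ∈ R.U → θ b = 1) ∧
      Cfsg.classInner (fun b : R.B => ψ b) θ ≠ 0 := by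
  classical
  have hnorm : (R.U.subgroupOf R.B).Normal := by
    constructor
    intro n hn g
    rw [Subgroup.mem_subgroupOf] at hn ⊢
    exact R.U_normal g.1 g.2 n.1 hn
  have : Fintype ↥(R.U.subgroupOf R.B) := Fintype.ofFinite _
  have hcomm : ∀ a b : R.B, a * b * a⁻¹ * b⁻¹ ∈ R.U.subgroupOf R.B := by
    intro a b
    rw [Subgroup.mem_subgroupOf]
    exact R.comm_mem a.1 a.2 b.1 b.2
  have hξ : Cfsg.IsCharacter R.B (fun b : R.B => ψ b) :=
    Cfsg.Agent.Lib.Helper75_CharArith.isCharacter_restrict R.B hψ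
  have hsum : ∑ n : ↥(R.U.subgroupOf R.B), (fun b : R.B => ψ b) n ≠ 0 := by
    have := sum_subgroupOf_eq_ssum R.B R.U R.U_le_B ψ
    rw [← this] at hU
    exact hU
  obtain ⟨μ, hμ, hμ1, hμN, hμne⟩ :=
    Cfsg.Agent.Lib.Helper39_Clifford.exists_linear_constituent' (R.U.subgroupOf R.B) hcomm _ hξ hsum
  refine ⟨μ, hμ, hμ1, ?_, hμne⟩
  intro b hb
  exact hμN ⟨b, Subgroup.mem_subgroupOf.2 hb⟩

end Cfsg.Agent.Lib.Helper55_DZ_R6A
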