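import Mathlib
import Cfsg.Prelude.Def_Characters
import Cfsg.Prelude.Def_ParabolicCharacters
import Cfsg.Agent.Lib.Helper40_DefZeroDefs
import Cfsg.Agent.Lib.Helper40_DefZeroDefs2

/-!
# DEFZERO market, package ASM2 (helper56): the averaging argument on `B`.
-/

set_option autoImplicit false

open Cfsg Cfsg.Agent.Lib.Helper40_DefZeroDefs

namespace Cfsg.Agent.Lib.Helper56_DZ_ASM2

variable {G : Type*} [Group G] [Fintype G]

open Classical in
theorem ssum_mul_right (H : Subgroup G) (h : G) (hh : h ∈ H) (f : G → ℂ) :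
    ssum (H : Set G) (fun g => f (g * h)) = ssum (H : Set G) f := by
  unfold ssum
  refine Fintype.sum_equiv (Equiv.mulRight h) _ _ ?_
  intro g
  simp only [Equiv.coe_mulRight, SetLike.mem_coe]
  by_cases hg : g ∈ H
  · rw [if_pos hg, if_pos (H.mul_mem hg hh)]
  · rw [if_neg hg, if_neg]
    intro h'
    exact hg ((H.mul_mem_cancel_right hh).mp h')

open Classical in
theorem ssum_mul_left (H : Subgroup G) (h : G) (hh : h ∈ H) (f : G → ℂ) :
    ssum (H : Set G) (fun g => f (h * g)) = ssum (H : Set G) f := by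
  unfold ssum
  refine Fintype.sum_equiv (Equiv.mulLeft h) _ _ ?_
  intro g
  simp only [Equiv.coe_mulLeft, SetLike.mem_coe]
  by_cases hg : g ∈ H
  · rw [if_pos hg, if_pos (H.mul_mem hh hg)]
  · rw [if_neg hg, if_neg]
    intro h'
    exact hg ((H.mul_mem_cancel_left hh).mp h')

open Classical in
theorem ssum_const (H : Subgroup G) (c : ℂ) :
    ssum (H : Set G) (fun _ => c) = (Nat.card H : ℂ) * c := by
  unfold ssum
  rw [← Finset.sum_filter, Finset.sum_const, nsmul_eq_mul]
  congr 2
  rw [Nat.card_eq_fintype_card, Fintype.card_subtype]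
  rfl

omit [Group G] in
open Classical in
theorem ssum_congr (S : Set G) (f g : G → ℂ) (h : ∀ x ∈ S, f x = g x) : ssum S f = ssum S g := by
  unfold ssum
  refine Finset.sum_congr rfl ?_
  intro x _
  by_cases hx : x ∈ S
  · rw [if_pos hx, if_pos hx, h x hx]
  · rw [if_neg hx, if_neg hx]

omit [Group G] in
open Classical in
theorem ssum_comm (S T : Set G) (f : G → G → ℂ) :
    ssum S (fun a => ssum T (fun b => f a b)) = ssum T (fun b => ssum S (fun a => f a b)) := by
  unfold ssum
  have h1 : ∀ a : G, (if a ∈ S then ∑ b : G, (if b ∈ T then f a b else 0) else 0) =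
      ∑ b : G, (if a ∈ S then (if b ∈ T then f a b else 0) else 0) := by
    intro a
    by_cases ha : a ∈ S
    · simp [ha]
    · simp [ha]
  have h2 : ∀ b : G, (if b ∈ T then ∑ a : G, (if a ∈ S then f a b else 0) else 0) =
      ∑ a : G, (if a ∈ S then (if b ∈ T then f a b else 0) else 0) := by
    intro b
    by_cases hb : b ∈ T
    · simp [hb]
    · simp [hb]
  simp_rw [h1, h2]
  exact Finset.sum_comm

open Classical in
theorem ssum_single_one (U : Subgroup G) (χ : G → ℂ) (hvan : ∀ u ∈ U, u ≠ 1 → χ u = 0) :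
    ssum (U : Set G) χ = χ 1 := by
  unfold ssum
  rw [Finset.sum_eq_single (1 : G)]
  · exact if_pos (show (1 : G) ∈ (U : Set G) from U.one_mem)
  · intro b _ hb
    by_cases hbU : b ∈ (U : Set G)
    · rw [if_pos hbU]; exact hvan b hbU hb
    · rw [if_neg hbU]
  · intro h; exact absurd (Finset.mem_univ _) h

theorem dz_asm2 {p q : ℕ} [Fact p.Prime] {ι : Type*} (D : DZData G p q ι) (χ : G → ℂ)
    (hχ1 : χ 1 ≠ 0) (hvan : ∀ u ∈ D.U, u ≠ 1 → χ u = 0)
    (hinv : ∀ i, ∀ t ∈ D.T i, ∀ b ∈ D.B,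
      ssum (D.U : Set G) (fun u => χ (b * t * u)) = ssum (D.U : Set G) (fun u => χ (b * u))) :
    ssum (D.B : Set G) χ ≠ 0 := by
  classical
  -- the averaged function
  set F : G → ℂ := fun g => ssum (D.U : Set G) (fun u => χ (g * u)) with hF
  -- the subgroup `K`
  let K : Subgroup G :=
    { carrier := {t | t ∈ D.B ∧ ∀ b ∈ D.B, F (b * t) = F b}
      one_mem' := ⟨D.B.one_mem, fun b _ => by rw [mul_one]⟩
      mul_mem' := by
        rintro s t ⟨hs, hs'⟩ ⟨ht, ht'⟩
        refine ⟨D.B.mul_mem hs ht, fun b hb => ?_⟩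
        rw [← mul_assoc, ht' (b * s) (D.B.mul_mem hb hs), hs' b hb]
      inv_mem' := by
        rintro t ⟨ht, ht'⟩
        refine ⟨D.B.inv_mem ht, fun b hb => ?_⟩
        have := ht' (b * t⁻¹) (D.B.mul_mem hb (D.B.inv_mem ht))
        rw [inv_mul_cancel_right] at this
        exact this.symm }
  have hUK : (D.U : Set G) ⊆ K := by
    intro u' hu'
    refine ⟨D.U_le_B hu', fun b _ => ?_⟩
    show ssum (D.U : Set G) (fun u => χ (b * u' * u)) = ssum (D.U : Set G) (fun u => χ (b * u))
    have := ssum_mul_left D.U u' hu' (fun u => χ (b * u))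
    simp only [← mul_assoc] at this
    exact this
  have hTK : ∀ i, D.T i ⊆ K := by
    intro i t ht
    exact ⟨(D.T_mem i t ht).1, fun b hb => hinv i t ht b hb⟩
  have hBK : D.B ≤ K := by
    refine le_trans D.B_gen ?_
    rw [Subgroup.closure_le]
    intro x hx
    rcases hx with hx | hx
    · exact hUK hx
    · obtain ⟨_, ⟨i, rfl⟩, hx⟩ := hx
      exact hTK i hx
  -- `F t = χ 1` on `B`
  have hF1 : F 1 = χ 1 := by
    show ssum (D.U : Set G) (fun u => χ (1 * u)) = χ 1
    simp only [one_mul]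
    exact ssum_single_one D.U χ hvan
  have hFB : ∀ t ∈ D.B, F t = χ 1 := by
    intro t ht
    have := (hBK ht).2 1 D.B.one_mem
    rw [one_mul] at this
    rw [this, hF1]
  -- the double count
  have h1 : ssum (D.B : Set G) F = (Nat.card D.B : ℂ) * χ 1 := by
    rw [ssum_congr (D.B : Set G) F (fun _ => χ 1) hFB, ssum_const]
  have h2 : ssum (D.B : Set G) F = (Nat.card D.U : ℂ) * ssum (D.B : Set G) χ := by
    show ssum (D.B : Set G) (fun g => ssum (D.U : Set G) (fun u => χ (g * u))) = _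
    rw [ssum_comm]
    rw [ssum_congr (D.U : Set G) _ (fun _ => ssum (D.B : Set G) χ)
      (fun u hu => ssum_mul_right D.B u (D.U_le_B hu) χ), ssum_const]
  intro h0
  rw [h2, h0, mul_zero] at h1
  have hB : (Nat.card D.B : ℂ) ≠ 0 := by
    have : 0 < Nat.card D.B := Nat.card_pos
    exact_mod_cast this.ne'
  exact (mul_ne_zero hB hχ1) h1.symm

end Cfsg.Agent.Lib.Helper56_DZ_ASM2
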