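/-
DEFZERO market (architect helper40), package R2P: a character of `H` whose restriction to `B` has a
linear constituent trivial on `V ≤ B` has non-zero sum over `V`.
-/
import Mathlib
import Cfsg.Prelude.Def_Characters
import Cfsg.Prelude.Def_ParabolicCharacters
import Cfsg.Agent.Lib.Helper40_DefZeroDefs
import Cfsg.Agent.Lib.Helper40_DefZeroDefs2
import Cfsg.Agent.Lib.Helper39_CharTools
import Cfsg.Agent.Lib.Helper75_CharArith
import Cfsg.Agent.Lib.Helper80_CharBasic

set_option autoImplicit false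

open Cfsg Cfsg.Agent.Lib.Helper40_DefZeroDefs

namespace Cfsg.Agent.Lib.Helper63_DZ_R2P

/-- `ssum` over a subset of a subgroup `B`, as a sum over the type `B`. -/
theorem ssum_subgroup {H : Type*} [Group H] [Fintype H] (B : Subgroup H) [Fintype B] (S : Set H)
    (hS : S ⊆ (B : Set H)) (η : H → ℂ) :
    ssum S η = ssum (Subtype.val ⁻¹' S : Set B) (fun b : B => η b) := by
  classical
  unfold ssum
  have h1 : ∑ g : H, (if g ∈ S then η g else 0) =
      ∑ g ∈ Finset.univ.filter (fun g : H => g ∈ B), (if g ∈ S then η g else 0) := by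
    symm
    apply Finset.sum_subset (Finset.filter_subset _ _)
    intro g _ hg
    rw [Finset.mem_filter] at hg
    rw [if_neg (fun h => hg ⟨Finset.mem_univ _, hS h⟩)]
  rw [h1, Finset.sum_subtype (Finset.univ.filter (fun g : H => g ∈ B)) (p := fun g : H => g ∈ B)
    (by intro x; simp)]
  rfl

/-- `ssum` is additive in the function. -/
theorem ssum_add {K : Type*} [Fintype K] (S : Set K) (f g : K → ℂ) :
    ssum S (f + g) = ssum S f + ssum S g := by
  classical
  unfold ssum
  rw [← Finset.sum_add_distrib]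
  apply Finset.sum_congr rfl
  intro x _
  by_cases hx : x ∈ S
  · rw [if_pos hx, if_pos hx, if_pos hx, Pi.add_apply]
  · rw [if_neg hx, if_neg hx, if_neg hx, add_zero]

/-- `ssum` over a subgroup as a sum over the subgroup type. -/
theorem ssum_eq_sum_subtype {K : Type*} [Group K] [Fintype K] (W : Subgroup K) [Fintype W]
    (ξ : K → ℂ) : ssum (W : Set K) ξ = ∑ w : W, ξ w := by
  classical
  unfold ssum
  rw [← Finset.sum_filter, Finset.sum_subtype (Finset.univ.filter (fun g : K => g ∈ (W : Set K)))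
    (p := fun g : K => g ∈ W) (by intro x; simp)]

/-- R2 for a subgroup: the sum of a character over a subgroup is a natural multiple of its order. -/
theorem ssum_nat {K : Type*} [Group K] [Fintype K] (W : Subgroup K) (ξ : K → ℂ)
    (hξ : Cfsg.IsCharacter K ξ) : ∃ f : ℕ, ssum (W : Set K) ξ = (f : ℂ) * (Nat.card W : ℂ) := by
  classical
  have : Fintype W := Fintype.ofFinite W
  obtain ⟨f, hf⟩ := Cfsg.Agent.Lib.Helper75_CharArith.classInner_isCharacter_nat
    (Cfsg.Agent.Lib.Helper75_CharArith.isCharacter_restrict W hξ)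
    (Cfsg.Agent.Lib.Helper3_CharBridge.isCharacter_of_isIrrCharacter
      (Cfsg.Agent.Lib.Helper80_CharBasic.isIrrCharacter_one W))
  refine ⟨f, ?_⟩
  rw [ssum_eq_sum_subtype, ← hf]
  unfold Cfsg.classInner
  have hW : (Nat.card W : ℂ) ≠ 0 := by
    exact_mod_cast Nat.card_pos.ne'
  simp only [map_one, mul_one]
  field_simp

/-- the sum over `V` of a function which is `1` on `V` -/
theorem ssum_one {K : Type*} [Group K] [Fintype K] (W : Subgroup K) (θ : K → ℂ)
    (hθ : ∀ k ∈ W, θ k = 1) : ssum (W : Set K) θ = (Nat.card W : ℂ) := by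
  classical
  have : Fintype W := Fintype.ofFinite W
  rw [ssum_eq_sum_subtype]
  rw [Finset.sum_congr rfl (fun w _ => hθ w.1 w.2)]
  simp [Nat.card_eq_fintype_card]

theorem dz_r2' {H : Type*} [Group H] [Fintype H] (B V : Subgroup H) (hVB : V ≤ B) [Fintype B]
    (η : H → ℂ) (hη : Cfsg.IsCharacter H η)
    (θ : B → ℂ) (hθc : Cfsg.IsCharacter B θ) (hθ1 : θ 1 = 1) (hθV : ∀ b : B, (b : H) ∈ V → θ b = 1)
    (hne : Cfsg.classInner (fun b : B => η b) θ ≠ 0) :
    ssum (V : Set H) η ≠ 0 := by
  classical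
  have hθirr : Cfsg.IsIrrCharacter B θ :=
    Cfsg.Agent.Lib.Helper39_CharTools.isIrrCharacter_of_isCharacter_of_one_eq_one hθc hθ1
  have hηB : Cfsg.IsCharacter B (fun b : B => η b) :=
    Cfsg.Agent.Lib.Helper75_CharArith.isCharacter_restrict B hη
  have hξ : Cfsg.IsCharacter B ((fun b : B => η b) - θ) :=
    Cfsg.Agent.Lib.Helper39_CharTools.isCharacter_sub_irr hηB hθirr hne
  obtain ⟨f', hf'⟩ := ssum_nat (V.subgroupOf B) _ hξ
  have h1 : ssum (V : Set H) η = ssum ((V.subgroupOf B : Subgroup B) : Set B) (fun b : B => η b) :=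
    ssum_subgroup B (V : Set H) hVB η
  have h2 : (fun b : B => η b) = θ + ((fun b : B => η b) - θ) := by
    funext b
    simp
  have h3 : ssum ((V.subgroupOf B : Subgroup B) : Set B) θ = (Nat.card (V.subgroupOf B) : ℂ) :=
    ssum_one (V.subgroupOf B) θ (fun k hk => hθV k (Subgroup.mem_subgroupOf.mp hk))
  rw [h1, h2, ssum_add, h3, hf']
  have hW : (Nat.card (V.subgroupOf B) : ℂ) ≠ 0 := by
    exact_mod_cast Nat.card_pos.ne'
  have : (Nat.card (V.subgroupOf B) : ℂ) + (f' : ℂ) * (Nat.card (V.subgroupOf B) : ℂ) =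
      ((1 + f' : ℕ) : ℂ) * (Nat.card (V.subgroupOf B) : ℂ) := by
    push_cast
    ring
  rw [this]
  exact mul_ne_zero (by exact_mod_cast (Nat.succ_ne_zero f' ∘ (by omega : 1 + f' = 0 → f'.succ = 0))) hW

end Cfsg.Agent.Lib.Helper63_DZ_R2P
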