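import Mathlib
import Cfsg.Prelude.Def_Characters
import Cfsg.Prelude.Def_ParabolicCharacters
import Cfsg.Agent.Lib.Helper40_DefZeroDefs
import Cfsg.Agent.Lib.Helper40_DefZeroDefs2

/-!
# DEFZERO package NCL (architect helper40): closure of conjugates lies in the normal closure
-/

set_option linter.unusedSectionVars false

open Cfsg Cfsg.Agent.Lib.Helper40_DefZeroDefs

namespace Cfsg.Agent.Lib.Helper70_DZ_NCL

variable {G : Type*} [Group G] [Fintype G]

/-- NCL (size S).  Subgroup.closure_induction on ht (carry membership in P along): generators y u y⁻¹ map to conjugates of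
elements of U.subgroupOf P, which lie in the normal closure. -/
theorem dz_ncl (P U : Subgroup G) (hUP : U ≤ P) (t : G) (htP : t ∈ P)
    (ht : t ∈ Subgroup.closure {z : G | ∃ y ∈ P, ∃ u ∈ U, z = y * u * y⁻¹}) :
    (⟨t, htP⟩ : P) ∈ Subgroup.normalClosure ((U.subgroupOf P : Subgroup P) : Set P) := by
  have hle : Subgroup.closure {z : G | ∃ y ∈ P, ∃ u ∈ U, z = y * u * y⁻¹} ≤
      (Subgroup.normalClosure ((U.subgroupOf P : Subgroup P) : Set P)).map P.subtype := by
    rw [Subgroup.closure_le]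
    rintro z ⟨y, hy, u, hu, rfl⟩
    refine ⟨(⟨y, hy⟩ : P) * ⟨u, hUP hu⟩ * (⟨y, hy⟩ : P)⁻¹, ?_, rfl⟩
    apply Subgroup.normalClosure_normal.conj_mem
    apply Subgroup.subset_normalClosure
    exact Subgroup.mem_subgroupOf.mpr hu
  obtain ⟨x, hx, hxt⟩ := hle ht
  have : (⟨t, htP⟩ : P) = x := Subtype.ext hxt.symm
  rw [this]
  exact hx

end Cfsg.Agent.Lib.Helper70_DZ_NCL
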