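import Mathlib
import Cfsg.Prelude.Def_Characters
import Cfsg.Prelude.Def_ParabolicCharacters
import Cfsg.Agent.Lib.Helper40_DefZeroDefs
import Cfsg.Agent.Lib.Helper40_DefZeroDefs2
import Cfsg.Agent.Lib.Helper75_Induced

/-!
# DEFZERO market (architect helper40), package R1: `dz_r1`

The induced function of a function on `B` which is `1` on `U` sums to `2|U|` over `U`
(Burnside for `U` acting on `P ⧸ B`: two orbits).
-/

set_option autoImplicit false

open Cfsg Cfsg.Agent.Lib.Helper40_DefZeroDefs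

namespace Cfsg.Agent.Lib.Helper71_DZ_R1

variable {P : Type*} [Group P] [Fintype P] {p q : ℕ} [Fact p.Prime]

theorem n_not_mem (R : RData P p q) : R.n ∉ R.B := by
  intro hn
  have hall : ∀ g : P, g ∈ R.B := by
    intro g
    rcases R.cover g with h | ⟨u, hu, b, hb, rfl⟩
    · exact h
    · exact R.B.mul_mem (R.B.mul_mem (R.U_le_B hu) hn) hb
  have htop : R.B = ⊤ := by
    rw [eq_top_iff]
    intro g _
    exact hall g
  have h1 := R.card_P
  rw [htop, Subgroup.card_top] at h1
  have hpos : 0 < Nat.card P := Nat.card_pos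
  have hq := R.hq
  nlinarith

open Classical in
/-- on conjugates of elements of `U` the extension by zero of `θ` is the indicator of `B` -/
theorem ext_conj (R : RData P p q) (θ : R.B → ℂ) (hθ : ∀ b : R.B, (b : P) ∈ R.U → θ b = 1)
    {u : P} (hu : u ∈ R.U) (x : P) :
    Cfsg.extendByZero R.B θ (x⁻¹ * u * x) = if x⁻¹ * u * x ∈ R.B then 1 else 0 := by
  split_ifs with h
  · rw [Cfsg.Agent.Lib.Helper75_Induced.extendByZero_of_mem R.B θ h]
    apply hθ
    show x⁻¹ * u * x ∈ R.U
    apply R.pel _ h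
    obtain ⟨k, hk⟩ := R.U_pgroup ⟨u, hu⟩
    refine ⟨k, ?_⟩
    have e : x⁻¹ * u * x = x⁻¹ * u * (x⁻¹)⁻¹ := by rw [inv_inv]
    have hk' : u ^ p ^ k = 1 := by
      have := congrArg Subtype.val hk
      simpa using this
    rw [e, conj_pow, hk']
    group
  · exact Cfsg.Agent.Lib.Helper75_Induced.extendByZero_of_not_mem R.B θ h

/-- `x⁻¹ u x ∈ B` iff the coset `x B` is fixed by `u` -/
theorem mem_iff_fixed (R : RData P p q) (u : R.U) (x : P) :
    x⁻¹ * (u : P) * x ∈ R.B ↔ (QuotientGroup.mk x : P ⧸ R.B) ∈ MulAction.fixedBy (P ⧸ R.B) u := by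
  rw [MulAction.mem_fixedBy]
  change _ ↔ ((u : P) • (QuotientGroup.mk x : P ⧸ R.B)) = QuotientGroup.mk x
  rw [MulAction.Quotient.smul_mk, QuotientGroup.eq, smul_eq_mul]
  constructor
  · intro h
    have := R.B.inv_mem h
    simpa [mul_assoc] using this
  · intro h
    have := R.B.inv_mem h
    simpa [mul_assoc] using this

/-- the number of `x` with `x⁻¹ u x ∈ B` -/
theorem card_conj_mem (R : RData P p q) (u : R.U) :
    Nat.card {x : P // x⁻¹ * (u : P) * x ∈ R.B} =
      Nat.card R.B * Nat.card (MulAction.fixedBy (P ⧸ R.B) u) := by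
  rw [← Nat.card_prod]
  refine Nat.card_congr (Equiv.trans ?_
    (QuotientGroup.preimageMkEquivSubgroupProdSet R.B (MulAction.fixedBy (P ⧸ R.B) u)))
  exact Equiv.subtypeEquivRight (fun x => mem_iff_fixed R u x)

/-- `U` has exactly two orbits on `P ⧸ B` -/
theorem card_orbits (R : RData P p q) :
    Nat.card (Quotient (MulAction.orbitRel R.U (P ⧸ R.B))) = 2 := by
  rw [Nat.card_eq_two_iff]
  refine ⟨Quotient.mk _ (QuotientGroup.mk 1), Quotient.mk _ (QuotientGroup.mk R.n), ?_, ?_⟩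
  · intro h
    have h1 : (QuotientGroup.mk 1 : P ⧸ R.B) ∈
        MulAction.orbit R.U (QuotientGroup.mk R.n : P ⧸ R.B) := Quotient.exact h
    obtain ⟨u, hu⟩ := h1
    have hu' : ((u : P) • (QuotientGroup.mk R.n : P ⧸ R.B)) = QuotientGroup.mk 1 := hu
    rw [MulAction.Quotient.smul_mk, QuotientGroup.eq, smul_eq_mul, mul_one] at hu'
    have h2 : (u : P) * R.n ∈ R.B := by
      have := R.B.inv_mem hu'
      simpa using this
    have h3 : R.n = (u : P)⁻¹ * ((u : P) * R.n) := by group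
    apply n_not_mem R
    rw [h3]
    exact R.B.mul_mem (R.B.inv_mem (R.U_le_B u.2)) h2
  · rw [Set.eq_univ_iff_forall]
    intro c
    induction c using Quotient.inductionOn with
    | h c =>
    obtain ⟨g, rfl⟩ := QuotientGroup.mk_surjective c
    rcases R.cover g with h | ⟨u, hu, b, hb, rfl⟩
    · left
      apply Quotient.sound
      show (QuotientGroup.mk g : P ⧸ R.B) ∈ MulAction.orbit R.U (QuotientGroup.mk 1 : P ⧸ R.B)
      refine ⟨1, ?_⟩
      show (1 : ↥R.U) • (QuotientGroup.mk 1 : P ⧸ R.B) = QuotientGroup.mk g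
      rw [one_smul, QuotientGroup.eq, inv_one, one_mul]
      exact h
    · right
      apply Quotient.sound
      show (QuotientGroup.mk (u * R.n * b) : P ⧸ R.B) ∈
        MulAction.orbit R.U (QuotientGroup.mk R.n : P ⧸ R.B)
      refine ⟨⟨u, hu⟩, ?_⟩
      show (u • (QuotientGroup.mk R.n : P ⧸ R.B)) = _
      rw [MulAction.Quotient.smul_mk, QuotientGroup.eq, smul_eq_mul]
      have : (u * R.n)⁻¹ * (u * R.n * b) = b := by group
      rw [this]
      exact hb

/-- **R1**. -/
theorem dz_r1 (R : RData P p q) (θ : R.B → ℂ) (hθ : ∀ b : R.B, (b : P) ∈ R.U → θ b = 1) :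
    ssum (R.U : Set P) (Cfsg.indFun R.B θ) = 2 * (Nat.card R.U : ℂ) := by
  classical
  have hBpos : (Nat.card R.B : ℂ) ≠ 0 := by
    exact_mod_cast (Nat.card_pos (α := R.B)).ne'
  have hval : ∀ u : R.U, Cfsg.indFun R.B θ (u : P) =
      (Nat.card (MulAction.fixedBy (P ⧸ R.B) u) : ℂ) := by
    intro u
    rw [Cfsg.Agent.Lib.Helper75_Induced.indFun_apply]
    have h1 : ∑ x : P, Cfsg.extendByZero R.B θ (x⁻¹ * (u : P) * x) =
        (Nat.card {x : P // x⁻¹ * (u : P) * x ∈ R.B} : ℂ) := by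
      rw [Finset.sum_congr rfl (fun x _ => ext_conj R θ hθ u.2 x), Finset.sum_boole,
        Nat.card_eq_fintype_card, Fintype.card_subtype]
    rw [h1, card_conj_mem, Nat.cast_mul, ← mul_assoc, inv_mul_cancel₀ hBpos, one_mul]
  have hsum : ssum (R.U : Set P) (Cfsg.indFun R.B θ) =
      ∑ u : R.U, Cfsg.indFun R.B θ (u : P) := by
    unfold ssum
    rw [← Finset.sum_filter]
    exact Finset.sum_subtype (Finset.univ.filter (· ∈ (R.U : Set P))) (by simp) _
  rw [hsum, Finset.sum_congr rfl (fun u _ => hval u), ← Nat.cast_sum]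
  have hB : ∑ u : R.U, Nat.card (MulAction.fixedBy (P ⧸ R.B) u) = 2 * Nat.card R.U := by
    rw [← card_orbits R, ← Nat.card_prod,
      ← Nat.card_congr (MulAction.sigmaFixedByEquivOrbitsProdGroup R.U (P ⧸ R.B)), Nat.card_sigma]
  rw [hB]
  push_cast
  ring

end Cfsg.Agent.Lib.Helper71_DZ_R1
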