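import Mathlib
import Cfsg.Prelude.Def_Characters
import Cfsg.Prelude.Def_ParabolicCharacters
import Cfsg.Agent.Lib.Helper40_DefZeroDefs
import Cfsg.Agent.Lib.Helper40_DefZeroDefs2

/-!
# DEFZERO market (architect helper40): elementary calculus of `ssum`

Linearity, congruence, sums over subgroups, translation invariance and Fubini for
`Helper40_DefZeroDefs.ssum`.  Used by the packages R3 and R5.
-/

set_option autoImplicit false

namespace Cfsg.Agent.Lib.Helper77_DZ_Ssum

open Cfsg Cfsg.Agent.Lib.Helper40_DefZeroDefs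

variable {G : Type*} [Fintype G]

/-- `ssum` as a filtered sum. -/
theorem ssum_eq_filter (S : Set G) [DecidablePred (· ∈ S)] (f : G → ℂ) :
    ssum S f = ∑ g ∈ Finset.univ.filter (· ∈ S), f g := by
  unfold ssum
  rw [Finset.sum_filter]
  refine Finset.sum_congr rfl (fun g _ => ?_)
  split_ifs <;> rfl

theorem ssum_congr (S : Set G) {f f' : G → ℂ} (h : ∀ g ∈ S, f g = f' g) :
    ssum S f = ssum S f' := by
  classical
  rw [ssum_eq_filter, ssum_eq_filter]
  refine Finset.sum_congr rfl (fun g hg => h g ?_)
  simpa using hg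

theorem ssum_zero (S : Set G) : ssum S (fun _ => (0 : ℂ)) = 0 := by
  classical
  rw [ssum_eq_filter]
  simp

theorem ssum_add (S : Set G) (f f' : G → ℂ) :
    ssum S (fun g => f g + f' g) = ssum S f + ssum S f' := by
  classical
  rw [ssum_eq_filter, ssum_eq_filter, ssum_eq_filter, Finset.sum_add_distrib]

theorem ssum_sub (S : Set G) (f f' : G → ℂ) :
    ssum S (fun g => f g - f' g) = ssum S f - ssum S f' := by
  classical
  rw [ssum_eq_filter, ssum_eq_filter, ssum_eq_filter, Finset.sum_sub_distrib]

theorem ssum_mul_left (S : Set G) (c : ℂ) (f : G → ℂ) :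
    ssum S (fun g => c * f g) = c * ssum S f := by
  classical
  rw [ssum_eq_filter, ssum_eq_filter, Finset.mul_sum]

theorem ssum_finset_sum (S : Set G) {ι : Type*} (s : Finset ι) (F : ι → G → ℂ) :
    ssum S (fun g => ∑ i ∈ s, F i g) = ∑ i ∈ s, ssum S (F i) := by
  classical
  rw [ssum_eq_filter, Finset.sum_comm]
  refine Finset.sum_congr rfl (fun i _ => ?_)
  rw [ssum_eq_filter]

/-- Fubini for `ssum`. -/
theorem ssum_comm {G' : Type*} [Fintype G'] (S : Set G) (T : Set G') (F : G → G' → ℂ) :
    ssum S (fun a => ssum T (fun b => F a b)) = ssum T (fun b => ssum S (fun a => F a b)) := by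
  classical
  rw [ssum_eq_filter, ssum_eq_filter]
  simp only [ssum_eq_filter]
  exact Finset.sum_comm

/-- A function vanishing on `S` away from `a ∈ S` has `ssum` equal to its value at `a`. -/
theorem ssum_eq_single (S : Set G) (f : G → ℂ) (a : G) (ha : a ∈ S)
    (h : ∀ g ∈ S, g ≠ a → f g = 0) : ssum S f = f a := by
  classical
  rw [ssum_eq_filter]
  refine Finset.sum_eq_single a (fun g hg hga => h g (by simpa using hg) hga) (fun hna => ?_)
  exact absurd (by simpa using ha) hna

variable [Group G]

/-- The sum over a subgroup as a sum over the subgroup type. -/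
theorem ssum_subgroup (N : Subgroup G) [Fintype N] (f : G → ℂ) :
    ssum (N : Set G) f = ∑ v : N, f v := by
  classical
  rw [ssum_eq_filter]
  exact Finset.sum_subtype (Finset.univ.filter (fun g => g ∈ (N : Set G))) (by simp) f

/-- The sum of a constant over a subgroup. -/
theorem ssum_const (N : Subgroup G) (c : ℂ) :
    ssum (N : Set G) (fun _ => c) = (Nat.card N : ℂ) * c := by
  classical
  rw [ssum_subgroup, Finset.sum_const, Finset.card_univ, Nat.card_eq_fintype_card, nsmul_eq_mul]

/-- Right translation by an element of the subgroup does not change the sum over a subgroup. -/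
theorem ssum_mul_right (N : Subgroup G) (f : G → ℂ) {v : G} (hv : v ∈ N) :
    ssum (N : Set G) (fun u => f (u * v)) = ssum (N : Set G) f := by
  classical
  unfold ssum
  rw [← Equiv.sum_comp (Equiv.mulRight v) (fun g => if g ∈ (N : Set G) then f g else 0)]
  refine Finset.sum_congr rfl (fun g _ => ?_)
  have : (g * v ∈ (N : Set G)) ↔ g ∈ (N : Set G) := by
    simp only [SetLike.mem_coe]
    exact Subgroup.mul_mem_cancel_right N hv
  simp only [Equiv.coe_mulRight, this]

/-- Left translation by an element of the subgroup does not change the sum over a subgroup. -/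
theorem ssum_mul_left' (N : Subgroup G) (f : G → ℂ) {v : G} (hv : v ∈ N) :
    ssum (N : Set G) (fun u => f (v * u)) = ssum (N : Set G) f := by
  classical
  unfold ssum
  rw [← Equiv.sum_comp (Equiv.mulLeft v) (fun g => if g ∈ (N : Set G) then f g else 0)]
  refine Finset.sum_congr rfl (fun g _ => ?_)
  have : (v * g ∈ (N : Set G)) ↔ g ∈ (N : Set G) := by
    simp only [SetLike.mem_coe]
    exact Subgroup.mul_mem_cancel_left N hv
  simp only [Equiv.coe_mulLeft, this]

/-- If `K ≤ N` are subgroups, the sum over `N` is recovered from the sums over the cosets `u K`: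
`|K| * ∑_{u ∈ N} f u = ∑_{u ∈ N} ∑_{v ∈ K} f (u v)`. -/
theorem card_mul_ssum (N K : Subgroup G) (hKN : K ≤ N) (f : G → ℂ) :
    (Nat.card K : ℂ) * ssum (N : Set G) f =
      ssum (N : Set G) (fun u => ssum (K : Set G) (fun v => f (u * v))) := by
  rw [ssum_comm]
  have : ∀ v ∈ (K : Set G), ssum (N : Set G) (fun u => f (u * v)) = ssum (N : Set G) f :=
    fun v hv => ssum_mul_right N f (hKN hv)
  rw [ssum_congr (K : Set G) this, ssum_const]

theorem card_ne_zero (N : Subgroup G) : (Nat.card N : ℂ) ≠ 0 := by
  have : Nat.card N ≠ 0 := Nat.card_pos.ne'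
  exact_mod_cast this

end Cfsg.Agent.Lib.Helper77_DZ_Ssum
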