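import Mathlib
import Cfsg.Prelude.Def_Characters
import Cfsg.Prelude.Def_ParabolicCharacters
import Cfsg.Agent.Lib.Helper40_DefZeroDefs
import Cfsg.Agent.Lib.Helper40_DefZeroDefs2
import Cfsg.Agent.Lib.Helper75_CharArith
import Cfsg.Agent.Lib.Helper80_CharBasic
import Cfsg.Agent.Lib.Helper3_CharBridge

set_option autoImplicit false
set_option linter.unusedSectionVars false
set_option linter.unusedVariables false

/-!
Package R2 of helper40's `defzero_packages` market (S2318/S2440/S4538): the sum of a character over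
a subgroup `V` is a natural multiple of `|V|`.
-/

namespace Cfsg.Agent.Lib.Helper89_DZ_R2

open Cfsg Cfsg.Agent.Lib.Helper40_DefZeroDefs

/-- the sum over a subgroup as a sum over the subgroup type -/
theorem ssum_subgroup {H : Type*} [Group H] [Fintype H] (V : Subgroup H) [Fintype V] (η : H → ℂ) :
    ssum (V : Set H) η = ∑ v : V, η v := by
  classical
  unfold ssum
  rw [← Finset.sum_filter]
  symm
  apply Finset.sum_bij (fun (v : V) _ => (v : H))
  · intro v _
    simp
  · intro a _ b _ h
    exact Subtype.ext h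
  · intro b hb
    simp only [Finset.mem_filter, Finset.mem_univ, true_and, SetLike.mem_coe] at hb
    exact ⟨⟨b, hb⟩, Finset.mem_univ _, rfl⟩
  · intro v _
    rfl

theorem dz_r2 {H : Type*} [Group H] [Fintype H] (V : Subgroup H) (η : H → ℂ)
    (hη : Cfsg.IsCharacter H η) : ∃ f : ℕ, ssum (V : Set H) η = (f : ℂ) * (Nat.card V : ℂ) := by
  classical
  have : Fintype V := Fintype.ofFinite V
  have h1 : Cfsg.IsCharacter V (fun v : V => η v) :=
    Cfsg.Agent.Lib.Helper75_CharArith.isCharacter_restrict V hη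
  have h2 : Cfsg.IsCharacter V (fun _ : V => (1 : ℂ)) :=
    Cfsg.Agent.Lib.Helper3_CharBridge.isCharacter_of_isIrrCharacter
      (Cfsg.Agent.Lib.Helper80_CharBasic.isIrrCharacter_one V)
  obtain ⟨f, hf⟩ := Cfsg.Agent.Lib.Helper75_CharArith.classInner_isCharacter_nat h1 h2
  refine ⟨f, ?_⟩
  rw [ssum_subgroup V η, ← hf]
  unfold Cfsg.classInner
  have hV : (Nat.card V : ℂ) ≠ 0 := by
    exact_mod_cast (Nat.card_pos (α := V)).ne'
  simp only [map_one, mul_one]
  field_simp

end Cfsg.Agent.Lib.Helper89_DZ_R2
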