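import Mathlib
import Cfsg.Prelude.Def_Characters
import Cfsg.Prelude.Def_ParabolicCharacters
import Cfsg.Agent.Lib.Helper40_DefZeroDefs
import Cfsg.Agent.Lib.Helper40_DefZeroDefs2
import Cfsg.Agent.Lib.Helper75_Induced
import Cfsg.Agent.Lib.Helper75_IndChar
import Cfsg.Agent.Lib.Helper75_CharArith
import Cfsg.Agent.Lib.Helper39_CharTools
import Cfsg.Agent.Lib.Helper3_CharOrtho
import Cfsg.Agent.Lib.Helper80_CharBasic
import Cfsg.Agent.Lib.Helper89_DZ_R2
import Cfsg.Agent.Lib.Helper63_DZ_R2P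
import Cfsg.Agent.Lib.Helper71_DZ_R1
import Cfsg.Agent.Lib.Helper77_DZ_Ssum

/-!
# DEFZERO market (architect helper40), package R3

Rank-one inequality: for `ψ ∈ Irr(P)` lying over a linear character `θ` of `B` trivial on `U`, with `ψ 1 = d` and
`∑_U ψ = f |U|`, we have `d ≤ q f`, and in the case of equality `Ind_B^P θ = ψ + lam` with `lam` linear,
`lam|_B = θ`.

`dz_r3_core` is the whole argument with the statement of package R1 (`∑_U Ind_B^P θ = 2 |U|`) as a hypothesis.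
-/

set_option autoImplicit false

namespace Cfsg.Agent.Lib.Helper77_DZ_R3

open Cfsg Cfsg.Agent.Lib.Helper40_DefZeroDefs Cfsg.Agent.Lib.Helper77_DZ_Ssum
open Cfsg.Agent.Lib

variable {P : Type*} [Group P] [Fintype P] {p q : ℕ} [Fact p.Prime]

/-- A nonzero character has an irreducible constituent. -/
theorem exists_constituent {ζ : P → ℂ} (hζ : Cfsg.IsCharacter P ζ) (h0 : ζ ≠ 0) :
    ∃ χ : Cfsg.IrrCharacter P, Cfsg.classInner ζ (χ : P → ℂ) ≠ 0 := by
  obtain ⟨m, hm, hsum⟩ := Helper75_CharArith.exists_multiplicities hζ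
  by_contra h
  push Not at h
  apply h0
  rw [hsum]
  refine Finset.sum_eq_zero (fun χ _ => ?_)
  have : (m χ : ℂ) = 0 := by rw [← hm χ, h χ]
  rw [this, zero_smul]

/-- If `Φ - ζ` and `ζ` are characters, every constituent of `ζ` is a constituent of `Φ`. -/
theorem constituent_of_sub {Φ ζ : P → ℂ} (hζ : Cfsg.IsCharacter P ζ)
    (hsub : Cfsg.IsCharacter P (Φ - ζ)) (χ : Cfsg.IrrCharacter P)
    (h : Cfsg.classInner ζ (χ : P → ℂ) ≠ 0) : Cfsg.classInner Φ (χ : P → ℂ) ≠ 0 := by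
  have hχc : Cfsg.IsCharacter P (χ : P → ℂ) := Helper3_CharBridge.isCharacter_of_isIrrCharacter χ.2
  obtain ⟨a, ha⟩ := Helper75_CharArith.classInner_isCharacter_nat hsub hχc
  obtain ⟨b, hb⟩ := Helper75_CharArith.classInner_isCharacter_nat hζ hχc
  have hΦ : Φ = (Φ - ζ) + ζ := by simp
  rw [hΦ, Helper3_CharOrtho.classInner_add_left, ha, hb]
  rw [hb] at h
  have hb0 : b ≠ 0 := by
    intro h0; apply h; rw [h0]; simp
  have : a + b ≠ 0 := by omega
  exact_mod_cast this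

/-- R3 with the statement of R1 as a hypothesis. -/
theorem dz_r3_core (R : RData P p q) [Fintype R.B] (ψ : P → ℂ) (hψ : Cfsg.IsIrrCharacter P ψ)
    (θ : R.B → ℂ) (hθc : Cfsg.IsCharacter R.B θ) (hθ1 : θ 1 = 1)
    (hθU : ∀ b : R.B, (b : P) ∈ R.U → θ b = 1)
    (hR1 : ssum (R.U : Set P) (Cfsg.indFun R.B θ) = 2 * (Nat.card R.U : ℂ))
    (hne : Cfsg.classInner (fun b : R.B => ψ b) θ ≠ 0)
    (d f : ℕ) (hd : ψ 1 = (d : ℂ)) (hf : ssum (R.U : Set P) ψ = (f : ℂ) * (Nat.card R.U : ℂ)) :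
    d ≤ q * f ∧ (d = q * f →
      ∃ lam : P → ℂ, Cfsg.IsCharacter P lam ∧ lam 1 = 1 ∧ ∀ b : R.B, lam b = θ b) := by
  classical
  have hq := R.hq
  have hUne : (Nat.card R.U : ℂ) ≠ 0 := card_ne_zero R.U
  have hBne : (Nat.card R.B : ℂ) ≠ 0 := card_ne_zero R.B
  set Φ : P → ℂ := Cfsg.indFun R.B θ with hΦdef
  have hΦ : Cfsg.IsCharacter P Φ := Helper75_IndChar.isCharacter_indFun R.B hθc
  have hθirr : Cfsg.IsIrrCharacter R.B θ :=
    Helper39_CharTools.isIrrCharacter_of_isCharacter_of_one_eq_one hθc hθ1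
  -- Φ 1 = q + 1
  have hΦ1 : Φ 1 = (q : ℂ) + 1 := by
    rw [hΦdef, Helper75_Induced.indFun_one, R.card_P, hθ1]
    push_cast
    field_simp
  -- key: a constituent of Φ lies over θ, hence has positive U-sum
  have hover : ∀ χ : P → ℂ, Cfsg.IsIrrCharacter P χ → Cfsg.classInner Φ χ ≠ 0 →
      Cfsg.classInner (fun b : R.B => χ b) θ ≠ 0 := by
    intro χ hχ h
    rw [hΦdef, Helper75_Induced.frobenius_reciprocity R.B θ χ
      (Helper3_CharBridge.isClassFunction_of_isIrrCharacter hχ)] at h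
    intro h0
    apply h
    rw [← Helper3_CharOrtho.classInner_conj_symm, h0, map_zero]
  have hunder : ∀ χ : P → ℂ, Cfsg.IsIrrCharacter P χ →
      Cfsg.classInner (fun b : R.B => χ b) θ ≠ 0 → Cfsg.classInner Φ χ ≠ 0 := by
    intro χ hχ h
    rw [hΦdef, Helper75_Induced.frobenius_reciprocity R.B θ χ
      (Helper3_CharBridge.isClassFunction_of_isIrrCharacter hχ)]
    intro h0
    apply h
    rw [← Helper3_CharOrtho.classInner_conj_symm, h0, map_zero]
  have hkey : ∀ χ : Cfsg.IrrCharacter P, Cfsg.classInner Φ (χ : P → ℂ) ≠ 0 →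
      ∃ k : ℕ, 1 ≤ k ∧ ssum (R.U : Set P) (χ : P → ℂ) = (k : ℂ) * (Nat.card R.U : ℂ) := by
    intro χ h
    have hχc : Cfsg.IsCharacter P (χ : P → ℂ) := Helper3_CharBridge.isCharacter_of_isIrrCharacter χ.2
    obtain ⟨k, hk⟩ := Helper89_DZ_R2.dz_r2 R.U (χ : P → ℂ) hχc
    have hne' := Helper63_DZ_R2P.dz_r2' R.B R.U R.U_le_B (χ : P → ℂ) hχc θ hθc hθ1 hθU
      (hover _ χ.2 h)
    refine ⟨k, ?_, hk⟩
    rcases Nat.eq_zero_or_pos k with h0 | h0
    · exfalso; apply hne'; rw [hk, h0]; simp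
    · exact h0
  -- sums of characters over U are natural multiples of |U|
  have hnat : ∀ ζ : P → ℂ, Cfsg.IsCharacter P ζ →
      ∃ k : ℕ, ssum (R.U : Set P) ζ = (k : ℂ) * (Nat.card R.U : ℂ) :=
    fun ζ hζ => Helper89_DZ_R2.dz_r2 R.U ζ hζ
  -- peeling: a nonzero character below Φ
  have hpeel : ∀ ζ : P → ℂ, Cfsg.IsCharacter P ζ → Cfsg.IsCharacter P (Φ - ζ) → ζ ≠ 0 →
      ∀ g : ℕ, ssum (R.U : Set P) ζ = (g : ℂ) * (Nat.card R.U : ℂ) →
      ∃ (χ : Cfsg.IrrCharacter P) (k g' : ℕ), 1 ≤ k ∧ g = k + g' ∧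
        Cfsg.classInner Φ (χ : P → ℂ) ≠ 0 ∧
        Cfsg.IsCharacter P (ζ - (χ : P → ℂ)) ∧ Cfsg.IsCharacter P (Φ - (ζ - (χ : P → ℂ))) ∧
        ssum (R.U : Set P) (ζ - (χ : P → ℂ)) = (g' : ℂ) * (Nat.card R.U : ℂ) := by
    intro ζ hζ hsub h0 g hg
    obtain ⟨χ, hχ⟩ := exists_constituent hζ h0
    have hΦχ := constituent_of_sub hζ hsub χ hχ
    obtain ⟨k, hk1, hk⟩ := hkey χ hΦχ
    have hζχ : Cfsg.IsCharacter P (ζ - (χ : P → ℂ)) :=
      Helper39_CharTools.isCharacter_sub_irr hζ χ.2 hχ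
    obtain ⟨g', hg'⟩ := hnat _ hζχ
    refine ⟨χ, k, g', hk1, ?_, hΦχ, hζχ, ?_, hg'⟩
    · have h1 : ssum (R.U : Set P) (ζ - (χ : P → ℂ)) =
          ssum (R.U : Set P) ζ - ssum (R.U : Set P) (χ : P → ℂ) := ssum_sub _ ζ (χ : P → ℂ)
      rw [hg', hg, hk] at h1
      have h2 : ((g : ℂ)) * (Nat.card R.U : ℂ) = ((k + g' : ℕ) : ℂ) * (Nat.card R.U : ℂ) := by
        push_cast
        linear_combination -h1
      have := mul_right_cancel₀ hUne h2
      exact_mod_cast this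
    · have : Φ - (ζ - (χ : P → ℂ)) = (Φ - ζ) + (χ : P → ℂ) := by
        funext x; simp only [Pi.sub_apply, Pi.add_apply]; ring
      rw [this]
      exact Helper75_CharArith.isCharacter_add hsub
        (Helper3_CharBridge.isCharacter_of_isIrrCharacter χ.2)
  -- ψ is a constituent of Φ and η = Φ - ψ is a character
  have hΦψ : Cfsg.classInner Φ ψ ≠ 0 := hunder ψ hψ hne
  set η : P → ℂ := Φ - ψ with hηdef
  have hη : Cfsg.IsCharacter P η := Helper39_CharTools.isCharacter_sub_irr hΦ hψ hΦψ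
  have hψc : Cfsg.IsCharacter P ψ := Helper3_CharBridge.isCharacter_of_isIrrCharacter hψ
  have hΦη : Cfsg.IsCharacter P (Φ - η) := by
    have : Φ - η = ψ := by rw [hηdef]; simp
    rw [this]; exact hψc
  -- f ≥ 1
  have hf1 : 1 ≤ f := by
    have hne' := Helper63_DZ_R2P.dz_r2' R.B R.U R.U_le_B ψ hψc θ hθc hθ1 hθU hne
    rcases Nat.eq_zero_or_pos f with h0 | h0
    · exfalso; apply hne'; rw [hf, h0]; simp
    · exact h0
  -- ssum U η = f' |U| with f + f' = 2
  obtain ⟨f', hf'⟩ := hnat η hη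
  have hff' : f + f' = 2 := by
    have h1 : ssum (R.U : Set P) η = ssum (R.U : Set P) Φ - ssum (R.U : Set P) ψ :=
      ssum_sub _ Φ ψ
    rw [hf', hR1, hf] at h1
    have h2 : ((f + f' : ℕ) : ℂ) * (Nat.card R.U : ℂ) = ((2 : ℕ) : ℂ) * (Nat.card R.U : ℂ) := by
      push_cast
      linear_combination h1
    have := mul_right_cancel₀ hUne h2
    exact_mod_cast this
  have hη1 : η 1 = (q : ℂ) + 1 - (d : ℂ) := by
    rw [hηdef, Pi.sub_apply, hΦ1, hd]
  by_cases hη0 : η = 0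
  · -- Φ = ψ
    have hd' : d = q + 1 := by
      have : (d : ℂ) = ((q + 1 : ℕ) : ℂ) := by
        have := hη1
        rw [hη0, Pi.zero_apply] at this
        push_cast
        linear_combination this
      exact_mod_cast this
    have hf'0 : f' = 0 := by
      rw [hη0] at hf'
      have h1 : ssum (R.U : Set P) (0 : P → ℂ) = 0 := ssum_zero _
      rw [h1] at hf'
      have := (mul_eq_zero.mp hf'.symm).resolve_right hUne
      exact_mod_cast this
    have hf2 : f = 2 := by omega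
    subst hf2
    constructor
    · omega
    · intro h; omega
  · -- η is irreducible
    obtain ⟨χ, k, g', hk1, hfk, hΦχ, hηχ, hΦηχ, hg'⟩ := hpeel η hη hΦη hη0 f' hf'
    have hg'0 : g' = 0 := by omega
    have hf1' : f = 1 := by omega
    have hηχ0 : η - (χ : P → ℂ) = 0 := by
      by_contra hne0
      obtain ⟨χ', k', g'', hk1', hfk', -⟩ := hpeel _ hηχ hΦηχ hne0 g' hg'
      omega
    have hηeq : η = (χ : P → ℂ) := sub_eq_zero.mp hηχ0
    obtain ⟨n, hn0, hn⟩ := Helper80_CharBasic.irr_apply_one χ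
    have hdn : d + n = q + 1 := by
      have : ((d + n : ℕ) : ℂ) = ((q + 1 : ℕ) : ℂ) := by
        have h1 := hη1
        rw [hηeq, hn] at h1
        push_cast
        linear_combination h1
      exact_mod_cast this
    subst hf1'
    constructor
    · omega
    · intro hdq
      have hn1 : n = 1 := by omega
      refine ⟨(χ : P → ℂ), Helper3_CharBridge.isCharacter_of_isIrrCharacter χ.2, ?_, ?_⟩
      · rw [hn, hn1]; simp
      · have hres : Cfsg.IsCharacter R.B (fun b : R.B => (χ : P → ℂ) b) :=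
          Helper75_CharArith.isCharacter_restrict R.B
            (Helper3_CharBridge.isCharacter_of_isIrrCharacter χ.2)
        have hres1 : (fun b : R.B => (χ : P → ℂ) b) 1 = 1 := by
          show (χ : P → ℂ) ((1 : R.B) : P) = 1
          rw [Subgroup.coe_one, hn, hn1]; simp
        have hresirr : Cfsg.IsIrrCharacter R.B (fun b : R.B => (χ : P → ℂ) b) :=
          Helper39_CharTools.isIrrCharacter_of_isCharacter_of_one_eq_one hres hres1
        have hinner := hover _ χ.2 hΦχ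
        rw [Helper3_CharOrtho.classInner_irr hresirr hθirr] at hinner
        have heq : (fun b : R.B => (χ : P → ℂ) b) = θ := by
          by_contra hcon
          rw [if_neg hcon] at hinner
          exact hinner rfl
        intro b
        exact congrFun heq b

/-- R3 (size L). -/
theorem dz_r3 (R : RData P p q) [Fintype R.B] (ψ : P → ℂ) (hψ : Cfsg.IsIrrCharacter P ψ)
    (θ : R.B → ℂ) (hθc : Cfsg.IsCharacter R.B θ) (hθ1 : θ 1 = 1)
    (hθU : ∀ b : R.B, (b : P) ∈ R.U → θ b = 1)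
    (hne : Cfsg.classInner (fun b : R.B => ψ b) θ ≠ 0)
    (d f : ℕ) (hd : ψ 1 = (d : ℂ)) (hf : ssum (R.U : Set P) ψ = (f : ℂ) * (Nat.card R.U : ℂ)) :
    d ≤ q * f ∧ (d = q * f →
      ∃ lam : P → ℂ, Cfsg.IsCharacter P lam ∧ lam 1 = 1 ∧ ∀ b : R.B, lam b = θ b) :=
  dz_r3_core R ψ hψ θ hθc hθ1 hθU (Helper71_DZ_R1.dz_r1 R θ hθU) hne d f hd hf

end Cfsg.Agent.Lib.Helper77_DZ_R3
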