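import Mathlib
import Cfsg.Prelude.Def_Characters
import Cfsg.Prelude.Def_ParabolicCharacters
import Cfsg.Agent.Lib.Helper40_DefZeroDefs
import Cfsg.Agent.Lib.Helper40_DefZeroDefs2
import Cfsg.Agent.Lib.Helper39_CharTools
import Cfsg.Agent.Lib.Helper39_Clifford

/-!
# DEFZERO market (architect helper40), package R4

Clifford-lite dichotomy for a normal subgroup `N` and an irreducible character `ψ`: either `N` is in the kernel of
`ψ`, or all the sums of `ψ` over the cosets of `N` vanish.
-/

set_option autoImplicit false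

namespace Cfsg.Agent.Lib.Helper78_DZ_R4

open Cfsg Cfsg.Agent.Lib.Helper40_DefZeroDefs

/-- The sum over a subgroup as a sum over the subgroup type. -/
theorem ssum_subgroup {H : Type*} [Group H] [Fintype H] (N : Subgroup H) [Fintype N] (f : H → ℂ) :
    ssum (N : Set H) f = ∑ v : N, f v := by
  classical
  unfold ssum
  rw [← Finset.sum_filter]
  exact Finset.sum_subtype (Finset.univ.filter (fun g => g ∈ (N : Set H))) (by simp) f

/-- R4 (size S). -/
theorem dz_r4 {H : Type*} [Group H] [Fintype H] (N : Subgroup H)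
    (hN : ∀ g : H, ∀ v ∈ N, g * v * g⁻¹ ∈ N) (ψ : H → ℂ) (hψ : Cfsg.IsIrrCharacter H ψ) :
    (∀ g : H, ∀ v ∈ N, ψ (g * v) = ψ g) ∨ (∀ g : H, ssum (N : Set H) (fun v => ψ (g * v)) = 0) := by
  classical
  obtain ⟨n, ρ, hirr, rfl⟩ := hψ
  have hNn : N.Normal := ⟨fun v hv g => hN g v hv⟩
  by_cases h : ∑ v : N, ρ.character v = 0
  · right
    intro g
    rw [ssum_subgroup]
    exact Cfsg.Agent.Lib.Helper39_Clifford.sum_isCharacter_mul_eq_zero ⟨n, ρ, rfl⟩ N h g
  · left
    intro g v hv
    have h1 := Cfsg.Agent.Lib.Helper39_CharTools.rho_eq_id_of_sum_ne_zero ρ N h ⟨v, hv⟩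
    have h2 : ρ (g * v) = ρ g := by
      rw [map_mul]
      rw [h1]
      rfl
    simp only [Representation.character, h2]

end Cfsg.Agent.Lib.Helper78_DZ_R4
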