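import Mathlib
import Cfsg.Prelude.Def_Characters
import Cfsg.Prelude.Def_ParabolicCharacters
import Cfsg.Agent.Lib.Helper40_DefZeroDefs
import Cfsg.Agent.Lib.Helper40_DefZeroDefs2
import Cfsg.Agent.Lib.Helper39_CharTools
import Cfsg.Agent.Lib.Helper78_DZ_R4
import Cfsg.Agent.Lib.Helper77_DZ_Ssum

/-!
# DEFZERO market (architect helper40), package R5

Global count: the vanishing of `φ` on `U ∖ 1` together with the rank-one inequalities `d ≤ q f` for the
constituents of `φ` having `Ua` in their kernel forces equality `d = q f` for every such constituent.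
-/

set_option autoImplicit false

namespace Cfsg.Agent.Lib.Helper77_DZ_R5

open Cfsg Cfsg.Agent.Lib.Helper40_DefZeroDefs Cfsg.Agent.Lib.Helper77_DZ_Ssum

variable {P : Type*} [Group P] [Fintype P] {p q : ℕ} [Fact p.Prime]

/-- A character whose coset sums over `Ua` all vanish has vanishing sum over `Ua` and over `U ≥ Ua`. -/
theorem bad_sums (U Ua : Subgroup P) (hle : Ua ≤ U) (ψ : P → ℂ)
    (h : ∀ g : P, ssum (Ua : Set P) (fun v => ψ (g * v)) = 0) :
    ssum (Ua : Set P) ψ = 0 ∧ ssum (U : Set P) ψ = 0 := by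
  constructor
  · have := h 1
    simpa using this
  · have h1 := card_mul_ssum U Ua hle ψ
    rw [ssum_congr (U : Set P) (fun u _ => h u), ssum_zero] at h1
    exact (mul_eq_zero.mp h1).resolve_left (card_ne_zero Ua)

/-- R5 (size L). -/
theorem dz_r5 (R : RData P p q) (φ : P → ℂ) (hφ : Cfsg.IsCharacter P φ)
    (hvan : ∀ u ∈ R.U, u ≠ 1 → φ u = 0)
    (hle : ∀ ψ : Cfsg.IrrCharacter P, Cfsg.classInner φ (ψ : P → ℂ) ≠ 0 →
      (∀ g : P, ∀ v ∈ R.Ua, (ψ : P → ℂ) (g * v) = (ψ : P → ℂ) g) →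
      ∃ d f : ℕ, (ψ : P → ℂ) 1 = (d : ℂ) ∧
        ssum (R.U : Set P) (ψ : P → ℂ) = (f : ℂ) * (Nat.card R.U : ℂ) ∧ d ≤ q * f) :
    ∀ ψ : Cfsg.IrrCharacter P, Cfsg.classInner φ (ψ : P → ℂ) ≠ 0 →
      (∀ g : P, ∀ v ∈ R.Ua, (ψ : P → ℂ) (g * v) = (ψ : P → ℂ) g) →
      ∀ d f : ℕ, (ψ : P → ℂ) 1 = (d : ℂ) →
        ssum (R.U : Set P) (ψ : P → ℂ) = (f : ℂ) * (Nat.card R.U : ℂ) → d = q * f := by
  classical
  obtain ⟨m, hm, hsum⟩ := Cfsg.Agent.Lib.Helper39_CharTools.char_eq_sum_nat hφ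
  -- the two sums of φ agree
  have hUa : ssum (R.Ua : Set P) φ = φ 1 :=
    ssum_eq_single _ φ 1 (R.Ua.one_mem) (fun g hg hg1 => hvan g (R.Ua_le_U hg) hg1)
  have hU : ssum (R.U : Set P) φ = φ 1 :=
    ssum_eq_single _ φ 1 (R.U.one_mem) (fun g hg hg1 => hvan g hg hg1)
  -- expand along the irreducible constituents
  have hφfun : φ = fun g => ∑ χ : Cfsg.IrrCharacter P, (m χ : ℂ) * (χ : P → ℂ) g := funext hsum
  have hexp : ∀ S : Set P, ssum S φ = ∑ χ : Cfsg.IrrCharacter P, (m χ : ℂ) * ssum S (χ : P → ℂ) := by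
    intro S
    conv_lhs => rw [hφfun]
    rw [ssum_finset_sum]
    refine Finset.sum_congr rfl (fun χ _ => ?_)
    rw [ssum_mul_left]
  -- the defect of each constituent
  have hcardU : (Nat.card R.U : ℂ) = (q : ℂ) * (Nat.card R.Ua : ℂ) := by
    rw [R.card_Ua]; push_cast; ring
  have hk : ∀ χ : Cfsg.IrrCharacter P, ∃ k : ℕ, m χ ≠ 0 →
      ssum (R.U : Set P) (χ : P → ℂ) - ssum (R.Ua : Set P) (χ : P → ℂ) = (k : ℂ) ∧
      ((∀ g : P, ∀ v ∈ R.Ua, (χ : P → ℂ) (g * v) = (χ : P → ℂ) g) → k = 0 →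
        ∀ d f : ℕ, (χ : P → ℂ) 1 = (d : ℂ) →
          ssum (R.U : Set P) (χ : P → ℂ) = (f : ℂ) * (Nat.card R.U : ℂ) → d = q * f) := by
    intro χ
    by_cases hm0 : m χ = 0
    · exact ⟨0, fun h => absurd hm0 h⟩
    have hin : Cfsg.classInner φ (χ : P → ℂ) ≠ 0 := by
      rw [hm χ]; exact_mod_cast hm0
    rcases Cfsg.Agent.Lib.Helper78_DZ_R4.dz_r4 R.Ua R.Ua_normal (χ : P → ℂ) χ.2 with hgood | hbad
    · -- good constituent
      obtain ⟨d, f, hd, hf, hdf⟩ := hle χ hin hgood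
      have hsUa : ssum (R.Ua : Set P) (χ : P → ℂ) = (Nat.card R.Ua : ℂ) * (d : ℂ) := by
        rw [← ssum_const R.Ua (d : ℂ)]
        refine ssum_congr _ (fun v hv => ?_)
        have := hgood 1 v hv
        rw [one_mul] at this
        rw [this, hd]
      refine ⟨Nat.card R.Ua * (q * f - d), fun _ => ⟨?_, ?_⟩⟩
      · rw [hf, hsUa, hcardU]
        push_cast [Nat.cast_sub hdf]
        ring
      · intro _ hk0 d' f' hd' hf'
        have hdd : d' = d := by
          have : (d' : ℂ) = (d : ℂ) := by rw [← hd', hd]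
          exact_mod_cast this
        have hff : f' = f := by
          have : (f' : ℂ) * (Nat.card R.U : ℂ) = (f : ℂ) * (Nat.card R.U : ℂ) := by rw [← hf', hf]
          have := mul_right_cancel₀ (card_ne_zero R.U) this
          exact_mod_cast this
        subst hdd; subst hff
        have hpos : Nat.card R.Ua ≠ 0 := Nat.card_pos.ne'
        have := (Nat.mul_eq_zero.mp hk0).resolve_left hpos
        omega
    · -- bad constituent
      obtain ⟨h1, h2⟩ := bad_sums R.U R.Ua R.Ua_le_U (χ : P → ℂ) hbad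
      refine ⟨0, fun _ => ⟨by rw [h1, h2]; simp, ?_⟩⟩
      intro hgood _ d f hd hf
      -- a bad constituent which is also good: then its degree is zero
      have hsUa : ssum (R.Ua : Set P) (χ : P → ℂ) = (Nat.card R.Ua : ℂ) * (d : ℂ) := by
        rw [← ssum_const R.Ua (d : ℂ)]
        refine ssum_congr _ (fun v hv => ?_)
        have := hgood 1 v hv
        rw [one_mul] at this
        rw [this, hd]
      rw [h1] at hsUa
      have hd0 : (d : ℂ) = 0 := (mul_eq_zero.mp hsUa.symm).resolve_left (card_ne_zero R.Ua)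
      rw [h2] at hf
      have hf0 : (f : ℂ) = 0 := (mul_eq_zero.mp hf.symm).resolve_right (card_ne_zero R.U)
      have hd0' : d = 0 := by exact_mod_cast hd0
      have hf0' : f = 0 := by exact_mod_cast hf0
      subst hd0'; subst hf0'; simp
  choose k hk using hk
  -- the weighted sum of the defects vanishes
  have hzero : ∑ χ : Cfsg.IrrCharacter P, m χ * k χ = 0 := by
    have h1 : ssum (R.U : Set P) φ - ssum (R.Ua : Set P) φ = 0 := by rw [hU, hUa, sub_self]
    rw [hexp, hexp, ← Finset.sum_sub_distrib] at h1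
    have h2 : ∑ χ : Cfsg.IrrCharacter P, ((m χ * k χ : ℕ) : ℂ) = 0 := by
      rw [← h1]
      refine Finset.sum_congr rfl (fun χ _ => ?_)
      by_cases hm0 : m χ = 0
      · simp [hm0]
      · rw [← mul_sub, (hk χ hm0).1]; push_cast; ring
    exact_mod_cast h2
  intro ψ hin hgood d f hd hf
  have hm0 : m ψ ≠ 0 := by
    intro h0
    apply hin
    rw [hm ψ, h0]; simp
  have hterm : m ψ * k ψ = 0 :=
    (Finset.sum_eq_zero_iff.mp hzero) ψ (Finset.mem_univ ψ)
  have hk0 : k ψ = 0 := (Nat.mul_eq_zero.mp hterm).resolve_left hm0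
  exact (hk ψ hm0).2 hgood hk0 d f hd hf

end Cfsg.Agent.Lib.Helper77_DZ_R5
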