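/-
helper79 — package SSUMSUB of helper40's DEFZERO market (S2318 + S2440 + S4538):
reindexing the sum over a subgroup type.
-/
import Mathlib
import Cfsg.Prelude.Def_Characters
import Cfsg.Prelude.Def_ParabolicCharacters
import Cfsg.Agent.Lib.Helper40_DefZeroDefs
import Cfsg.Agent.Lib.Helper40_DefZeroDefs2

set_option autoImplicit false

namespace Cfsg.Agent.Lib.Helper79_DZ_SSUMSUB

open Cfsg Cfsg.Agent.Lib.Helper40_DefZeroDefs

variable {G : Type*} [Group G] [Fintype G]

/-- SSUMSUB.  Reindex the sum over `↥K` as a sum over `G`. -/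
theorem dz_ssum_sub (K : Subgroup G) [Fintype K] (S : Set G) (f : G → ℂ) :
    ssum {y : K | (y : G) ∈ S} (fun y : K => f y) = ssum (S ∩ (K : Set G)) f := by
  classical
  unfold ssum
  simp only [Set.mem_ofPred_eq, Set.mem_inter_iff, SetLike.mem_coe]
  have h1 : ∑ g : G, (if g ∈ S ∧ g ∈ K then f g else 0)
      = ∑ g ∈ Finset.univ.filter (fun g => g ∈ K), (if g ∈ S then f g else 0) := by
    rw [Finset.sum_filter]
    refine Finset.sum_congr rfl (fun g _ => ?_)
    by_cases hK : g ∈ K <;> by_cases hS : g ∈ S <;> simp [hK, hS]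
  rw [h1, Finset.sum_subtype (Finset.univ.filter (fun g => g ∈ K)) (p := fun g => g ∈ K) (by simp)
    (fun g => if g ∈ S then f g else 0)]
end Cfsg.Agent.Lib.Helper79_DZ_SSUMSUB
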