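import Mathlib
import Cfsg.Prelude.Def_Characters
import Cfsg.Prelude.Def_ParabolicCharacters
import Cfsg.Agent.Lib.Helper40_DefZeroDefs
import Cfsg.Agent.Lib.Helper40_DefZeroDefs2

set_option autoImplicit false
set_option linter.unusedSectionVars false
set_option linter.unusedVariables false

/-!
# DefZero market (architect helper40), package RDATA

The rank-one data `RData (D.P i) p q` of a minimal parabolic subgroup of split BN-type data `D`.
The only non-formal field is `pel`: a `p`-element of `B` lies in `U` (because `⟨b⟩ U` is a `p`-subgroup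
of `G` containing the Sylow `p`-subgroup `U`).
-/

namespace Cfsg.Agent.Lib.Helper86_DZ_RDATA

open Cfsg Cfsg.Agent.Lib.Helper40_DefZeroDefs

variable {G : Type*} [Group G] [Fintype G]

/-- a `p`-element normalising a `p`-subgroup of order the full `p`-part of `|G|` lies in it -/
theorem mem_of_pow_eq_one {p : ℕ} [Fact p.Prime] (U : Subgroup G)
    (hcard : Nat.card U = p ^ (Nat.card G).factorization p) {b : G}
    (hnorm : ∀ u ∈ U, b * u * b⁻¹ ∈ U) (hnorm' : ∀ u ∈ U, b⁻¹ * u * b ∈ U) {k : ℕ}
    (hb : b ^ p ^ k = 1) : b ∈ U := by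
  have hp : p.Prime := Fact.out
  have hU : IsPGroup p U := IsPGroup.of_card hcard
  have hZ : IsPGroup p (Subgroup.zpowers b) := by
    obtain ⟨j, _, hj⟩ := (Nat.dvd_prime_pow hp).mp (orderOf_dvd_of_pow_eq_one hb)
    apply IsPGroup.of_card (n := j)
    rw [Nat.card_zpowers, hj]
  have hbN : b ∈ Subgroup.normalizer (U : Set G) := by
    rw [Subgroup.mem_normalizer_iff]
    intro u
    constructor
    · exact hnorm u
    · intro h
      have := hnorm' _ h
      have h2 : b⁻¹ * (b * u * b⁻¹) * b = u := by group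
      rwa [h2] at this
  have hZN : Subgroup.zpowers b ≤ Subgroup.normalizer (U : Set G) := by
    rw [Subgroup.zpowers_le]
    exact hbN
  have hH : IsPGroup p (Subgroup.zpowers b ⊔ U : Subgroup G) :=
    IsPGroup.to_sup_of_normal_right' hZ hU hZN
  obtain ⟨m, hm⟩ := IsPGroup.iff_card.mp hH
  have hdvd : p ^ m ∣ Nat.card G := by
    rw [← hm]
    exact Subgroup.card_subgroup_dvd_card _
  have hm' : m ≤ (Nat.card G).factorization p :=
    (hp.pow_dvd_iff_le_factorization Nat.card_pos.ne').mp hdvd
  have hle : U ≤ Subgroup.zpowers b ⊔ U := le_sup_right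
  have hcardle : Nat.card (Subgroup.zpowers b ⊔ U : Subgroup G) ≤ Nat.card U := by
    rw [hm, hcard]
    exact Nat.pow_le_pow_right hp.pos hm'
  have heq : U = Subgroup.zpowers b ⊔ U := Subgroup.eq_of_le_of_card_ge hle hcardle
  rw [heq]
  exact (le_sup_left : Subgroup.zpowers b ≤ _) (Subgroup.mem_zpowers b)

/-- the cardinality of `H.subgroupOf K` for `H ≤ K` -/
theorem card_subgroupOf_of_le {H K : Subgroup G} (h : H ≤ K) :
    Nat.card (H.subgroupOf K) = Nat.card H :=
  Nat.card_congr (Subgroup.subgroupOfEquivOfLe h).toEquiv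

/-- RDATA. -/
theorem dz_rdata {p q : ℕ} [Fact p.Prime] {ι : Type*} (D : DZData G p q ι) (i : ι) :
    ∃ R : RData (D.P i) p q, R.B = D.B.subgroupOf (D.P i) ∧ R.U = D.U.subgroupOf (D.P i) ∧
      R.Ua = (D.Ua i).subgroupOf (D.P i) ∧ R.X = (D.X i).subgroupOf (D.P i) := by
  have hUP : D.U ≤ D.P i := le_trans D.U_le_B (D.B_le_P i)
  have hUaP : D.Ua i ≤ D.P i := le_trans (D.Ua_le_U i) hUP
  have hXP : D.X i ≤ D.P i := le_trans (D.X_le_U i) hUP
  refine ⟨{ B := D.B.subgroupOf (D.P i)
            U := D.U.subgroupOf (D.P i)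
            Ua := (D.Ua i).subgroupOf (D.P i)
            X := (D.X i).subgroupOf (D.P i)
            n := ⟨D.n i, D.n_mem i⟩
            hq := D.hq
            U_le_B := ?_
            Ua_le_U := ?_
            X_le_U := ?_
            U_pgroup := ?_
            pel := ?_
            U_normal := ?_
            comm_mem := ?_
            Ua_normal := ?_
            U_prod := ?_
            card_Ua := ?_
            card_P := ?_
            cover := ?_ }, rfl, rfl, rfl, rfl⟩
  · intro x hx
    rw [Subgroup.mem_subgroupOf] at hx ⊢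
    exact D.U_le_B hx
  · intro x hx
    rw [Subgroup.mem_subgroupOf] at hx ⊢
    exact D.Ua_le_U i hx
  · intro x hx
    rw [Subgroup.mem_subgroupOf] at hx ⊢
    exact D.X_le_U i hx
  · exact (IsPGroup.of_card D.card_U).comap_subtype
  · rintro b hb ⟨k, hk⟩
    rw [Subgroup.mem_subgroupOf] at hb ⊢
    have hk' : (b : G) ^ p ^ k = 1 := by
      have := congrArg (fun x : D.P i => (x : G)) hk
      simpa using this
    exact mem_of_pow_eq_one D.U D.card_U (D.U_normal _ hb)
      (fun u hu => by
        have := D.U_normal _ (D.B.inv_mem hb) u hu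
        rwa [inv_inv] at this) hk'
  · intro b hb u hu
    rw [Subgroup.mem_subgroupOf] at hb hu ⊢
    have := D.U_normal _ hb _ hu
    simpa using this
  · intro a ha b hb
    rw [Subgroup.mem_subgroupOf] at ha hb ⊢
    have := D.comm_mem _ ha _ hb
    simpa using this
  · intro g u hu
    rw [Subgroup.mem_subgroupOf] at hu ⊢
    have := D.Ua_normal i _ g.2 _ hu
    simpa using this
  · intro u hu
    rw [Subgroup.mem_subgroupOf] at hu
    obtain ⟨x, hx, v, hv, huxv⟩ := D.U_prod i _ hu
    refine ⟨⟨x, hXP hx⟩, ?_, ⟨v, hUaP hv⟩, ?_, ?_⟩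
    · rw [Subgroup.mem_subgroupOf]; exact hx
    · rw [Subgroup.mem_subgroupOf]; exact hv
    · apply Subtype.ext
      rw [Subgroup.coe_mul]
      exact huxv
  · rw [card_subgroupOf_of_le hUP, card_subgroupOf_of_le hUaP]
    exact D.card_Ua i
  · rw [card_subgroupOf_of_le (D.B_le_P i)]
    exact D.card_P i
  · intro g
    rcases D.P_cover i _ g.2 with h | ⟨u, hu, b, hb, hg⟩
    · left
      rw [Subgroup.mem_subgroupOf]
      exact h
    · right
      refine ⟨⟨u, hUP hu⟩, ?_, ⟨b, D.B_le_P i hb⟩, ?_, ?_⟩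
      · rw [Subgroup.mem_subgroupOf]; exact hu
      · rw [Subgroup.mem_subgroupOf]; exact hb
      · apply Subtype.ext
        rw [Subgroup.coe_mul, Subgroup.coe_mul]
        exact hg

end Cfsg.Agent.Lib.Helper86_DZ_RDATA
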