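import Mathlib
import Cfsg.Prelude.Def_Characters
import Cfsg.Prelude.Def_ParabolicCharacters
import Cfsg.Agent.Lib.Helper40_DefZeroDefs
import Cfsg.Agent.Lib.Helper40_DefZeroDefs2
import Cfsg.Agent.Lib.Helper81_StPSL
import Cfsg.Agent.Lib.Helper75_CanonExt

set_option autoImplicit false
set_option linter.unusedSectionVars false
set_option linter.unusedVariables false

/-!
Package VAN of helper40's `defzero_packages` market (S2318/S2440/S4538): an irreducible character
of `p`-defect zero vanishes on the nontrivial elements of a `p`-subgroup.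
-/

namespace Cfsg.Agent.Lib.Helper89_DZ_VAN

open Cfsg Cfsg.Agent.Lib.Helper40_DefZeroDefs

variable {G : Type*} [Group G] [Fintype G]

theorem dz_van {p : ℕ} [Fact p.Prime] (U : Subgroup G) (hU : IsPGroup p U) (χ : G → ℂ)
    (hχ : Cfsg.IsIrrCharacter G χ)
    (hdeg : ∃ d : ℕ, χ 1 = (d : ℂ) ∧ p ^ (Nat.card G).factorization p ∣ d) :
    ∀ u ∈ U, u ≠ 1 → χ u = 0 := by
  intro u hu hu1
  obtain ⟨d, hd, hpd⟩ := hdeg
  obtain ⟨f, hf, hfpos, hfdvd⟩ := Cfsg.Agent.Lib.Helper75_CanonExt.exists_degree hχ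
  have hfd : f = d := by
    have : (f : ℂ) = (d : ℂ) := by rw [← hf, hd]
    exact_mod_cast this
  subst hfd
  have hp : p.Prime := Fact.out
  have hcd : Cfsg.charDegree χ = f := by
    unfold Cfsg.charDegree
    rw [hd]
    simp
  have hG0 : Nat.card G ≠ 0 := Nat.card_pos.ne'
  have hnd : ¬ p ∣ Nat.card G / Cfsg.charDegree χ := by
    rw [hcd]
    intro hdiv
    obtain ⟨m, hm⟩ := hfdvd
    rw [hm, Nat.mul_div_cancel_left m hfpos] at hdiv
    have h1 : p ^ ((Nat.card G).factorization p + 1) ∣ Nat.card G := by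
      rw [pow_succ]
      conv_rhs => rw [hm]
      exact Nat.mul_dvd_mul hpd hdiv
    exact Nat.pow_succ_factorization_not_dvd hG0 hp h1
  have hord : p ∣ orderOf u := by
    obtain ⟨k, hk⟩ := hU ⟨u, hu⟩
    have hk' : u ^ p ^ k = 1 := by
      have := congrArg (Subtype.val : U → G) hk
      simpa using this
    have hdvd : orderOf u ∣ p ^ k := orderOf_dvd_of_pow_eq_one hk'
    obtain ⟨j, -, hj⟩ := (Nat.dvd_prime_pow hp).mp hdvd
    rcases Nat.eq_zero_or_pos j with h0 | hpos
    · exfalso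
      rw [h0, pow_zero, orderOf_eq_one_iff] at hj
      exact hu1 hj
    · rw [hj]
      exact dvd_pow_self p hpos.ne'
  exact Cfsg.Agent.Lib.Helper81_StPSL.vanish_of_defect_zero p ⟨χ, hχ⟩ hnd u hord

end Cfsg.Agent.Lib.Helper89_DZ_VAN
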