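/-
helper40: the abstract theorem `defect_zero_unique` (unique irreducible character of p-defect zero in a group
with split BN-type data), assembled from the DZ packages.  See pending/helper40/DefZero_proof.md.
-/
import Mathlib
import Cfsg.Prelude.Def_Characters
import Cfsg.Prelude.Def_ParabolicCharacters
import Cfsg.Agent.Lib.Helper40_DefZeroDefs
import Cfsg.Agent.Lib.Helper40_DefZeroDefs2
import Cfsg.Agent.Lib.Helper56_DZ_ASM2
import Cfsg.Agent.Lib.Helper56_DZ_ASM3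
import Cfsg.Agent.Lib.Helper39_DZ_CLAIMA
import Cfsg.Agent.Lib.Helper70_DZ_NCL
import Cfsg.Agent.Lib.Helper71_DZ_R1
import Cfsg.Agent.Lib.Helper89_DZ_R2
import Cfsg.Agent.Lib.Helper63_DZ_R2P
import Cfsg.Agent.Lib.Helper77_DZ_R3
import Cfsg.Agent.Lib.Helper78_DZ_R4
import Cfsg.Agent.Lib.Helper77_DZ_R5
import Cfsg.Agent.Lib.Helper55_DZ_R6A
import Cfsg.Agent.Lib.Helper3_DZ_R6B
import Cfsg.Agent.Lib.Helper16_DZ_R6C
import Cfsg.Agent.Lib.Helper79_DZ_R7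
import Cfsg.Agent.Lib.Helper86_DZ_RDATA
import Cfsg.Agent.Lib.Helper79_DZ_SSUMSUB
import Cfsg.Agent.Lib.Helper89_DZ_VAN
import Cfsg.Agent.Lib.Helper80_CharBasic
import Cfsg.Agent.Lib.Helper75_CharArith
import Cfsg.Agent.Lib.Helper3_CharBridge

set_option autoImplicit false
set_option linter.unusedSectionVars false

namespace Cfsg.Agent.Lib.Helper40_DefZeroMain

open Cfsg Cfsg.Agent.Lib.Helper40_DefZeroDefs

attribute [local instance] Classical.propDecidable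

section rankone

variable {P : Type*} [Group P] [Fintype P] {p q : ℕ} [Fact p.Prime]

theorem ssum_const_one (S : Set P) : ssum S (fun _ => (1 : ℂ)) = (Nat.card S : ℂ) := by
  unfold ssum
  rw [Finset.sum_ite, Finset.sum_const_zero, add_zero, Finset.sum_const, nsmul_eq_mul, mul_one]
  congr 1
  rw [Nat.card_eq_fintype_card, Fintype.card_subtype]

theorem ssum_univ (f : P → ℂ) : ssum (Set.univ : Set P) f = ∑ g : P, f g := by
  unfold ssum
  simp

/-- the rank-one lemma -/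
theorem rank_one (R : RData P p q) (φ : P → ℂ) (hφ : Cfsg.IsCharacter P φ)
    (hvan : ∀ u ∈ R.U, u ≠ 1 → φ u = 0)
    (hA : ∀ ψ : Cfsg.IrrCharacter P, Cfsg.classInner φ (ψ : P → ℂ) ≠ 0 →
      ssum (R.X : Set P) (ψ : P → ℂ) ≠ 0) :
    ssum (Set.univ : Set P) φ = 0 ∧
    ∀ t ∈ R.B, t ∈ Subgroup.normalClosure (R.U : Set P) → ∀ b ∈ R.B,
      ssum (R.U : Set P) (fun u => φ (b * t * u)) = ssum (R.U : Set P) (fun u => φ (b * u)) := by
  -- the inequality for the constituents having `Ua` in the kernel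
  have hcardU : (Nat.card R.U : ℂ) ≠ 0 := by
    have : 0 < Nat.card R.U := Nat.card_pos
    exact_mod_cast this.ne'
  have hkey : ∀ ψ : Cfsg.IrrCharacter P, Cfsg.classInner φ (ψ : P → ℂ) ≠ 0 →
      (∀ g : P, ∀ v ∈ R.Ua, (ψ : P → ℂ) (g * v) = (ψ : P → ℂ) g) →
      ∃ θ : R.B → ℂ, Cfsg.IsCharacter R.B θ ∧ θ 1 = 1 ∧ (∀ b : R.B, (b : P) ∈ R.U → θ b = 1) ∧
        Cfsg.classInner (fun b : R.B => (ψ : P → ℂ) b) θ ≠ 0 := by
    intro ψ hne hker
    have hψc := Cfsg.Agent.Lib.Helper3_CharBridge.isCharacter_of_isIrrCharacter ψ.2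
    exact Cfsg.Agent.Lib.Helper55_DZ_R6A.dz_r6a R _ hψc (Cfsg.Agent.Lib.Helper79_DZ_R7.dz_r7 R _ hker (hA ψ hne))
  have hle : ∀ ψ : Cfsg.IrrCharacter P, Cfsg.classInner φ (ψ : P → ℂ) ≠ 0 →
      (∀ g : P, ∀ v ∈ R.Ua, (ψ : P → ℂ) (g * v) = (ψ : P → ℂ) g) →
      ∃ d f : ℕ, (ψ : P → ℂ) 1 = (d : ℂ) ∧
        ssum (R.U : Set P) (ψ : P → ℂ) = (f : ℂ) * (Nat.card R.U : ℂ) ∧ d ≤ q * f := by
    intro ψ hne hker
    have hψc := Cfsg.Agent.Lib.Helper3_CharBridge.isCharacter_of_isIrrCharacter ψ.2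
    obtain ⟨θ, hθc, hθ1, hθU, hθne⟩ := hkey ψ hne hker
    obtain ⟨d, hd0, hd⟩ := Cfsg.Agent.Lib.Helper80_CharBasic.irr_apply_one ψ
    obtain ⟨f, hf⟩ := Cfsg.Agent.Lib.Helper89_DZ_R2.dz_r2 R.U _ hψc
    exact ⟨d, f, hd, hf, (Cfsg.Agent.Lib.Helper77_DZ_R3.dz_r3 R _ ψ.2 θ hθc hθ1 hθU hθne d f hd hf).1⟩
  have heq := Cfsg.Agent.Lib.Helper77_DZ_R5.dz_r5 R φ hφ hvan hle
  constructor
  · -- the trivial character is not a constituent
    have h1 : Cfsg.classInner φ ((Cfsg.Agent.Lib.Helper80_CharBasic.oneIrr P : Cfsg.IrrCharacter P) : P → ℂ) = 0 := by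
      by_contra hne
      have := heq (Cfsg.Agent.Lib.Helper80_CharBasic.oneIrr P) hne (fun _ _ _ => rfl) 1 1
        (by simp [Cfsg.Agent.Lib.Helper80_CharBasic.oneIrr])
        (by
          change ssum (R.U : Set P) (fun _ => (1 : ℂ)) = _
          rw [ssum_const_one]
          simp)
      have hq := R.hq
      omega
    rw [ssum_univ]
    unfold Cfsg.classInner at h1
    rcases mul_eq_zero.1 h1 with h | h
    · exfalso
      have : 0 < Nat.card P := Nat.card_pos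
      have : (Nat.card P : ℂ) ≠ 0 := by exact_mod_cast this.ne'
      exact this (inv_eq_zero.1 h)
    · simpa [Cfsg.Agent.Lib.Helper80_CharBasic.oneIrr] using h
  · apply Cfsg.Agent.Lib.Helper3_DZ_R6B.dz_r6b R φ hφ
    intro θ hθc hθ1 hθU hθne
    obtain ⟨ψ, hψne, hψθ⟩ := Cfsg.Agent.Lib.Helper16_DZ_R6C.dz_r6c R.B φ hφ θ hθc hθne
    have hψc := Cfsg.Agent.Lib.Helper3_CharBridge.isCharacter_of_isIrrCharacter ψ.2
    -- `Ua` is in the kernel of `ψ`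
    have hker : ∀ g : P, ∀ v ∈ R.Ua, (ψ : P → ℂ) (g * v) = (ψ : P → ℂ) g := by
      rcases Cfsg.Agent.Lib.Helper78_DZ_R4.dz_r4 R.Ua R.Ua_normal _ ψ.2 with h | h
      · exact h
      · exfalso
        have h0 := h 1
        simp only [one_mul] at h0
        exact Cfsg.Agent.Lib.Helper63_DZ_R2P.dz_r2' R.B R.Ua (le_trans R.Ua_le_U R.U_le_B) _ hψc θ hθc hθ1
          (fun b hb => hθU b (R.Ua_le_U hb)) hψθ h0
    obtain ⟨d, hd0, hd⟩ := Cfsg.Agent.Lib.Helper80_CharBasic.irr_apply_one ψ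
    obtain ⟨f, hf⟩ := Cfsg.Agent.Lib.Helper89_DZ_R2.dz_r2 R.U _ hψc
    have hdf := heq ψ hψne hker d f hd hf
    exact (Cfsg.Agent.Lib.Helper77_DZ_R3.dz_r3 R _ ψ.2 θ hθc hθ1 hθU hψθ d f hd hf).2 hdf

end rankone


section big

variable {G : Type*} [Group G] [Fintype G]

theorem ssum_congr_set {S T : Set G} (h : S = T) (f : G → ℂ) : ssum S f = ssum T f := by rw [h]

theorem ssum_of_van (S : Set G) (h1 : (1 : G) ∈ S) (χ : G → ℂ) (hvan : ∀ u ∈ S, u ≠ 1 → χ u = 0) :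
    ssum S χ = χ 1 := by
  unfold ssum
  rw [Finset.sum_eq_single (1 : G)]
  · rw [if_pos h1]
  · intro g _ hg
    split_ifs with hgS
    · exact hvan g hgS hg
    · rfl
  · intro h
    exact absurd (Finset.mem_univ _) h

/-- ABSTRACT THEOREM (Fintype version). -/
theorem defect_zero_unique_aux {p q : ℕ} [Fact p.Prime] {ι : Type*}
    (D : DZData G p q ι) (χ : G → ℂ) (hχ : Cfsg.IsIrrCharacter G χ)
    (hdeg : ∃ d : ℕ, χ 1 = (d : ℂ) ∧ p ^ (Nat.card G).factorization p ∣ d)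
    {κ : Type*} (s : Finset κ) (Q : κ → Subgroup G) (ε : κ → ℤ) (k₀ : κ) (hk₀ : k₀ ∈ s)
    (hQ₀ : Q k₀ = D.B) (hε₀ : ε k₀ = 1) (hQ : ∀ k ∈ s, k ≠ k₀ → ∃ i, D.P i ≤ Q k)
    (St : G → ℂ) (hSt : Cfsg.IsIrrCharacter G St)
    (hStf : ∀ g, St g = ∑ k ∈ s, (ε k : ℂ) * Cfsg.fixedPointCharacter (Q k) g) :
    χ = St := by
  have hp : p.Prime := Fact.out
  have hUp : IsPGroup p D.U := IsPGroup.of_card D.card_U
  have hvan := Cfsg.Agent.Lib.Helper89_DZ_VAN.dz_van D.U hUp χ hχ hdeg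
  have hχ1 : χ 1 ≠ 0 := by
    obtain ⟨n, hn0, hn⟩ := Cfsg.Agent.Lib.Helper80_CharBasic.irr_apply_one ⟨χ, hχ⟩
    change χ 1 = n at hn
    rw [hn]
    exact_mod_cast hn0.ne'
  have hχc := Cfsg.Agent.Lib.Helper3_CharBridge.isCharacter_of_isIrrCharacter hχ
  have hUsum : ssum (D.U : Set G) χ ≠ 0 := by
    rw [ssum_of_van (D.U : Set G) D.U.one_mem χ hvan]
    exact hχ1
  have hUP : ∀ i, D.U ≤ D.P i := fun i => le_trans D.U_le_B (D.B_le_P i)
  -- the rank-one lemma in each minimal parabolic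
  have hrk : ∀ i, ssum (D.P i : Set G) χ = 0 ∧ ∀ t ∈ D.T i, ∀ b ∈ D.B,
      ssum (D.U : Set G) (fun u => χ (b * t * u)) = ssum (D.U : Set G) (fun u => χ (b * u)) := by
    intro i
    obtain ⟨R, hRB, hRU, hRUa, hRX⟩ := Cfsg.Agent.Lib.Helper86_DZ_RDATA.dz_rdata D i
    set φ : D.P i → ℂ := fun y => χ y with hφdef
    have hφ : Cfsg.IsCharacter (D.P i) φ :=
      Cfsg.Agent.Lib.Helper75_CharArith.isCharacter_restrict (D.P i) hχc
    have hvanR : ∀ u ∈ R.U, u ≠ 1 → φ u = 0 := by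
      intro u hu hu1
      rw [hRU] at hu
      apply hvan (u : G) hu
      intro h
      apply hu1
      exact Subtype.ext h
    have hA : ∀ ψ : Cfsg.IrrCharacter (D.P i), Cfsg.classInner φ (ψ : D.P i → ℂ) ≠ 0 →
        ssum (R.X : Set (D.P i)) (ψ : D.P i → ℂ) ≠ 0 := by
      intro ψ hne
      rw [hRX]
      exact Cfsg.Agent.Lib.Helper39_DZ_CLAIMA.dz_claimA D.U (D.P i) (D.X i) (le_trans (D.X_le_U i) (hUP i)) (D.bruhat i) χ hχ hUsum
        _ ψ.2 hne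
    obtain ⟨ha, hb⟩ := rank_one R φ hφ hvanR hA
    constructor
    · have h1 := Cfsg.Agent.Lib.Helper79_DZ_SSUMSUB.dz_ssum_sub (D.P i) (Set.univ : Set G) χ
      have e1 : {y : D.P i | (y : G) ∈ (Set.univ : Set G)} = (Set.univ : Set (D.P i)) := by
        ext y; simp
      rw [e1, Set.univ_inter] at h1
      rw [← h1]
      exact ha
    · intro t ht b hbB
      obtain ⟨htB, htcl⟩ := D.T_mem i t ht
      have htP : t ∈ D.P i := D.B_le_P i htB
      have hbP : b ∈ D.P i := D.B_le_P i hbB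
      have h2 := hb ⟨t, htP⟩ (by rw [hRB]; exact htB)
        (by rw [hRU]; exact Cfsg.Agent.Lib.Helper70_DZ_NCL.dz_ncl (D.P i) D.U (hUP i) t htP htcl) ⟨b, hbP⟩ (by rw [hRB]; exact hbB)
      have eU : ((R.U : Subgroup (D.P i)) : Set (D.P i)) = {y : D.P i | (y : G) ∈ (D.U : Set G)} := by
        rw [hRU]; rfl
      have eint : (D.U : Set G) ∩ (D.P i : Set G) = (D.U : Set G) :=
        Set.inter_eq_left.2 (hUP i)
      have h3 := Cfsg.Agent.Lib.Helper79_DZ_SSUMSUB.dz_ssum_sub (D.P i) (D.U : Set G) (fun g => χ (b * t * g))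
      have h4 := Cfsg.Agent.Lib.Helper79_DZ_SSUMSUB.dz_ssum_sub (D.P i) (D.U : Set G) (fun g => χ (b * g))
      rw [eint] at h3 h4
      rw [← h3, ← h4, ← eU]
      exact h2
  have hA2 := Cfsg.Agent.Lib.Helper56_DZ_ASM2.dz_asm2 D χ hχ1 hvan (fun i => (hrk i).2)
  exact Cfsg.Agent.Lib.Helper56_DZ_ASM3.dz_asm3 D.B D.P χ hχ (fun i => (hrk i).1) hA2 s Q ε k₀ hk₀ hQ₀ hε₀ hQ St hSt hStf

end big

/-- ABSTRACT THEOREM: in a finite group with split BN-type data, an irreducible character whose degree is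
divisible by the full power of `p` equals any irreducible "Steinberg-type" alternating sum. -/
theorem defect_zero_unique {G : Type*} [Group G] [Finite G] {p q : ℕ} [Fact p.Prime] {ι : Type*}
    (D : DZData G p q ι) (χ : G → ℂ) (hχ : Cfsg.IsIrrCharacter G χ)
    (hdeg : ∃ d : ℕ, χ 1 = (d : ℂ) ∧ p ^ (Nat.card G).factorization p ∣ d)
    {κ : Type*} (s : Finset κ) (Q : κ → Subgroup G) (ε : κ → ℤ) (k₀ : κ) (hk₀ : k₀ ∈ s)
    (hQ₀ : Q k₀ = D.B) (hε₀ : ε k₀ = 1) (hQ : ∀ k ∈ s, k ≠ k₀ → ∃ i, D.P i ≤ Q k)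
    (St : G → ℂ) (hSt : Cfsg.IsIrrCharacter G St)
    (hStf : ∀ g, St g = ∑ k ∈ s, (ε k : ℂ) * Cfsg.fixedPointCharacter (Q k) g) :
    χ = St := by
  have : Fintype G := Fintype.ofFinite G
  exact defect_zero_unique_aux D χ hχ hdeg s Q ε k₀ hk₀ hQ₀ hε₀ hQ St hSt hStf

end Cfsg.Agent.Lib.Helper40_DefZeroMain
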