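/-
Chevalley groups of type G₂, B₂, D₄, F₄, E₆, E₇, E₈: the facts about `U`, `B = UH`, the minimal parabolic
subgroups `P_i = B ∪ B n_i B`, the fundamental root subgroups `X_i` and their complements `U_i` in `U`
that make up the "split (B, N)-pair data" `DZData` of `Helper40_DefZeroDefs`, at the level of the
ambient general linear group.
-/
import Mathlib
import Cfsg.Agent.Lib.Helper81_ChevLenBN

set_option autoImplicit false
set_option linter.unusedSectionVars false
set_option linter.unusedVariables false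

namespace Cfsg.Agent.Lib.Helper81_DZChevA

open Cfsg Cfsg.Lie Cfsg.Agent.Lib.Helper18_ChevFast Cfsg.Agent.Lib.Helper18_ChevEngine
  Cfsg.Agent.Lib.Helper18_ChevR1 Cfsg.Agent.Lib.Helper18_ChevN Cfsg.Agent.Lib.Helper18_ChevR4
  Cfsg.Agent.Lib.Helper18_ChevSimple Cfsg.Agent.Lib.Helper18_ChevSimple2 Cfsg.Agent.Lib.Helper18_ChevFacts
  Cfsg.Agent.Lib.Helper18_ChevWeyl Cfsg.Agent.Lib.Helper18_ChevDiag Cfsg.Agent.Lib.Helper18_ChevCar
  Cfsg.Agent.Lib.Helper18_ChevTorus Cfsg.Agent.Lib.Helper18_ChevGL Cfsg.Agent.Lib.Helper18_ChevComm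
  Cfsg.Agent.Lib.Helper18_ChevComm2 Cfsg.Agent.Lib.Helper18_MatTri Cfsg.Agent.Lib.Helper18_ChevTri
  Cfsg.Agent.Lib.Helper18_ChevBorel Cfsg.Agent.Lib.Helper18_ChevAdd Cfsg.Agent.Lib.Helper18_ChevUni
  Cfsg.Agent.Lib.Helper18_ChevBN Cfsg.Agent.Lib.Helper18_ChevMono Cfsg.Agent.Lib.Helper18_ChevBNPair
  Cfsg.Agent.Lib.Helper18_ChevSimp Cfsg.Agent.Lib.Helper18_ChevJCerts Cfsg.Agent.Lib.Helper18_ChevLevi
  Cfsg.Agent.Lib.Helper18_ChevBruhat Cfsg.Agent.Lib.Helper18_ChevPar Cfsg.Agent.Lib.Helper18_ChevRootHom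
  Cfsg.Agent.Lib.Helper18_ChevOrder Cfsg.Agent.Lib.Helper18_ChevSylow

variable {D : ChevalleyDatum} {Ns : List NData} {F : Type*} [Field F]
variable {wl : List ℤ} {ws : List (List ℤ)} {sc : ℤ} {w : List ℤ} {d : ℕ}

/-! ### `B` normalizes `U`, and `B / U` is abelian -/

theorem borel_le_normalizer_pos (c : DCert D Ns) (tc : TCert D) :
    D.borelSubgroup F ≤ Subgroup.normalizer (D.posUnipotent F : Set (GL D.Idx F)) :=
  sup_le Subgroup.le_normalizer (diagonal_le_normalizer_pos c tc)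

theorem borel_conj_pos (c : DCert D Ns) (tc : TCert D) {b u : GL D.Idx F} (hb : b ∈ D.borelSubgroup F)
    (hu : u ∈ D.posUnipotent F) : b * u * b⁻¹ ∈ D.posUnipotent F :=
  (Subgroup.mem_normalizer_iff.mp (borel_le_normalizer_pos c tc hb) u).mp hu

theorem diagonal_comm (c : DCert D Ns) (tc : TCert D) {h k : GL D.Idx F} (hh : h ∈ D.diagonalSubgroup F)
    (hk : k ∈ D.diagonalSubgroup F) : h * k = k * h := by
  obtain ⟨t, -, e1⟩ := exists_torus_of_mem c tc h hh
  obtain ⟨t', -, e2⟩ := exists_torus_of_mem c tc k hk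
  apply Units.ext
  rw [Units.val_mul, Units.val_mul, e1, e2, torusMat_mul, torusMat_mul]
  congr 1
  funext i
  exact mul_comm _ _

theorem borel_comm_mem (c : DCert D Ns) (tc : TCert D) {a b : GL D.Idx F} (ha : a ∈ D.borelSubgroup F)
    (hb : b ∈ D.borelSubgroup F) : a * b * a⁻¹ * b⁻¹ ∈ D.posUnipotent F := by
  unfold ChevalleyDatum.borelSubgroup at ha hb
  obtain ⟨u, hu, h, hh, rfl⟩ := exists_mul_of_mem_sup _ _ (diagonal_le_normalizer_pos c tc) ha
  obtain ⟨v, hv, k, hk, rfl⟩ := exists_mul_of_mem_sup _ _ (diagonal_le_normalizer_pos c tc) hb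
  have h1 : h * v * h⁻¹ ∈ D.posUnipotent F :=
    (Subgroup.mem_normalizer_iff.mp (diagonal_le_normalizer_pos c tc hh) v).mp hv
  have h2 : k * u⁻¹ * k⁻¹ ∈ D.posUnipotent F :=
    (Subgroup.mem_normalizer_iff.mp (diagonal_le_normalizer_pos c tc hk) u⁻¹).mp (Subgroup.inv_mem _ hu)
  have hc := diagonal_comm c tc hh hk
  have e : u * h * (v * k) * (u * h)⁻¹ * (v * k)⁻¹ =
      u * (h * v * h⁻¹) * (h * k * h⁻¹ * k⁻¹) * (k * u⁻¹ * k⁻¹) * v⁻¹ := by group
  have e2 : h * k * h⁻¹ * k⁻¹ = 1 := by rw [hc]; group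
  rw [e, e2, mul_one]
  exact Subgroup.mul_mem _ (Subgroup.mul_mem _ (Subgroup.mul_mem _ hu h1) h2) (Subgroup.inv_mem _ hv)

/-! ### The minimal parabolic subgroups -/

theorem parabolic_single_eq (c : DCert D Ns) (i : ℕ) (hi : i < D.rank) :
    D.parabolicSubgroup F {i} = D.borelSubgroup F ⊔ Subgroup.closure {nGL c i} := by
  unfold ChevalleyDatum.parabolicSubgroup
  congr 2
  ext g
  constructor
  · rintro ⟨j, hj, hjr, hg⟩
    rw [Set.mem_singleton_iff] at hj
    subst hj
    exact Set.mem_singleton_iff.mpr (Units.ext (by rw [hg, nGL_coe]))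
  · intro hg
    rw [Set.mem_singleton_iff] at hg
    subst hg
    exact ⟨i, rfl, hi, nGL_coe c i⟩

/-- `P_i = B ∪ U n_i B` -/
theorem mem_parabolic_single (c : DCert D Ns) (tc : TCert D) (ac : ACert D wl ws sc) (hR2 : R2All D F)
    (i : ℕ) (hi : i < D.rank) (g : GL D.Idx F) (hg : g ∈ D.parabolicSubgroup F {i}) :
    g ∈ D.borelSubgroup F ∨
      ∃ u ∈ D.posUnipotent F, ∃ b ∈ D.borelSubgroup F, g = u * nGL c i * b := by
  obtain ⟨Q, hQ⟩ := exists_subgroup_union c tc ac hR2 i hi
  have hBQ : D.borelSubgroup F ≤ Q := fun x hx => by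
    have : x ∈ (Q : Set (GL D.Idx F)) := by rw [hQ]; exact Or.inl hx
    exact this
  have hnQ : nGL c i ∈ Q := by
    have : nGL c i ∈ (Q : Set (GL D.Idx F)) := by
      rw [hQ]
      right
      rw [DoubleCoset.mem_doubleCoset]
      exact ⟨1, Subgroup.one_mem _, 1, Subgroup.one_mem _, by rw [one_mul, mul_one]⟩
    exact this
  have hle : D.parabolicSubgroup F {i} ≤ Q := by
    rw [parabolic_single_eq c i hi]
    exact sup_le hBQ ((Subgroup.closure_le _).2 (Set.singleton_subset_iff.2 hnQ))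
  have hgQ : g ∈ (Q : Set (GL D.Idx F)) := hle hg
  rw [hQ] at hgQ
  rcases hgQ with h | h
  · exact Or.inl h
  · right
    rw [DoubleCoset.mem_doubleCoset] at h
    obtain ⟨x, hx, y, hy, rfl⟩ := h
    unfold ChevalleyDatum.borelSubgroup at hx
    obtain ⟨u, hu, h, hh, rfl⟩ := exists_mul_of_mem_sup _ _ (diagonal_le_normalizer_pos c tc) hx
    have hn : (nGL c i)⁻¹ * h * (nGL c i)⁻¹⁻¹ ∈ D.diagonalSubgroup F :=
      (Subgroup.mem_normalizer_iff.mp
        (Subgroup.inv_mem _ (nGL_mem_normalizer_diagonal c tc i hi)) h).mp hh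
    rw [inv_inv] at hn
    refine ⟨u, hu, (nGL c i)⁻¹ * h * nGL c i * y, ?_, by group⟩
    exact Subgroup.mul_mem _ (Subgroup.mem_sup_right hn) hy

/-- the double coset `B n_i B` lies in `P_i` -/
theorem mul_nGL_mul_mem_parabolic (c : DCert D Ns) (i : ℕ) (hi : i < D.rank) {x y : GL D.Idx F}
    (hx : x ∈ D.borelSubgroup F) (hy : y ∈ D.borelSubgroup F) :
    x * nGL c i * y ∈ D.parabolicSubgroup F {i} :=
  Subgroup.mul_mem _ (Subgroup.mul_mem _ (borel_le_parabolic {i} hx)
    (nGL_mem_parabolic {i} c i hi rfl)) (borel_le_parabolic {i} hy)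

/-- `P_i` normalizes `U_i` -/
theorem parabolic_single_le_normalizer_up (c : DCert D Ns) (tc : TCert D) (ac : ACert D wl ws sc)
    (hR2 : R2All D F) (i : ℕ) (hi : i < D.rank) :
    D.parabolicSubgroup F {i} ≤
      Subgroup.normalizer (Subgroup.closure (upGens D F i) : Set (GL D.Idx F)) := by
  rw [parabolic_single_eq c i hi]
  apply sup_le
  · unfold ChevalleyDatum.borelSubgroup
    apply sup_le
    · rw [← (simple_complement c tc ac hR2 i hi).2]
      exact sup_le Subgroup.le_normalizer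
        (le_trans le_sup_left (simple_complement c tc ac hR2 i hi).1)
    · exact diagonal_le_normalizer_up c tc i
  · rw [Subgroup.closure_le]
    exact Set.singleton_subset_iff.2 (nGL_mem_normalizer_up c tc ac hR2 i hi)

theorem rootSubgroup_simple_le_pos (c : DCert D Ns) (tc : TCert D) (ac : ACert D wl ws sc)
    (hR2 : R2All D F) (i : ℕ) (hi : i < D.rank) :
    D.rootSubgroup F (D.simple i) ≤ D.posUnipotent F := by
  rw [← (simple_complement c tc ac hR2 i hi).2]
  exact le_sup_right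

/-- `U = X_i U_i` -/
theorem pos_prod (c : DCert D Ns) (tc : TCert D) (ac : ACert D wl ws sc) (hR2 : R2All D F)
    (i : ℕ) (hi : i < D.rank) (u : GL D.Idx F) (hu : u ∈ D.posUnipotent F) :
    ∃ x ∈ D.rootSubgroup F (D.simple i), ∃ v ∈ Subgroup.closure (upGens D F i), u = x * v := by
  have hsc := simple_complement c tc ac hR2 i hi
  rw [← hsc.2] at hu
  obtain ⟨y, hy, a, ha, rfl⟩ := exists_mul_of_mem_sup _ _ (le_trans le_sup_left hsc.1) hu
  have h1 : a⁻¹ * y * a⁻¹⁻¹ ∈ Subgroup.closure (upGens D F i) :=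
    (Subgroup.mem_normalizer_iff.mp
      (Subgroup.inv_mem _ (hsc.1 (Subgroup.mem_sup_left ha))) y).mp hy
  rw [inv_inv] at h1
  exact ⟨a, ha, a⁻¹ * y * a, h1, by group⟩

/-! ### The order of `U_i` -/

theorem up_le_radical (ac : ACert D wl ws sc) (i : ℕ) (hi : i < D.rank) :
    Subgroup.closure (upGens D F i) ≤ D.unipotentRadical F {i} := by
  apply Subgroup.closure_mono
  rintro g ⟨s, t, hs, hne, hg⟩
  obtain ⟨j, hj, hji, hpos⟩ := ac.exists_other s hs i hi hne
  exact ⟨s, t, hs, (pos_of_pos_coeff {i} ac s hs.1 j hj (by simpa using hji) hpos).2, hg⟩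

theorem up_inf_root (c : DCert D Ns) (tc : TCert D) (ac : ACert D wl ws sc) (i : ℕ) (hi : i < D.rank) :
    Subgroup.closure (upGens D F i) ⊓ D.rootSubgroup F (D.simple i) = ⊥ := by
  rw [eq_bot_iff, ← unipotentRadical_inf_levi {i} c tc ac]
  apply inf_le_inf (up_le_radical ac i hi)
  unfold ChevalleyDatum.rootSubgroup
  rw [Subgroup.closure_le]
  rintro g ⟨t, hg⟩
  rw [eq_xGL c hg]
  exact xGL_mem_levi {i} c _ (inRootSub_simple {i} tc ac i hi rfl) t

theorem xGL_injective (c : DCert D Ns) (tc : TCert D) (ac : ACert D wl ws sc) (r : ℕ)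
    (hr : D.IsPosRoot r) : Function.Injective (fun t : F => xGL c r t) := by
  intro t t' h
  have h2 : D.wordMat F ([r].map fun s => (s, (fun _ => t) s)) =
      D.wordMat F ([r].map fun s => (s, (fun _ => t') s)) := by
    have := congrArg (fun g : GL D.Idx F => (g : Matrix D.Idx D.Idx F)) h
    simpa [ChevalleyDatum.wordMat] using this
  exact unique_word c tc ac [r] (List.nodup_singleton r)
    (fun s hs => by rw [List.mem_singleton] at hs; subst hs; exact hr) (fun _ => t) (fun _ => t') h2 r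
    (List.mem_singleton_self r)

theorem card_rootSubgroup [Fintype F] (c : DCert D Ns) (tc : TCert D) (ac : ACert D wl ws sc) (r : ℕ)
    (hr : D.IsPosRoot r) : Nat.card (D.rootSubgroup F r) = Fintype.card F := by
  let φ : F → D.rootSubgroup F r := fun t => ⟨xGL c r t, (mem_rootSubgroup_iff c r _).2 ⟨t, rfl⟩⟩
  have hφ : Function.Bijective φ := by
    constructor
    · intro t t' h
      exact xGL_injective c tc ac r hr (congrArg Subtype.val h)
    · rintro ⟨g, hg⟩
      obtain ⟨t, rfl⟩ := (mem_rootSubgroup_iff c r g).1 hg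
      exact ⟨t, rfl⟩
  rw [← Nat.card_congr (Equiv.ofBijective φ hφ), Nat.card_eq_fintype_card]

/-- `|U| = q |U_i|` -/
theorem card_pos_eq [Fintype F] (c : DCert D Ns) (tc : TCert D) (ac : ACert D wl ws sc) (hR2 : R2All D F)
    (i : ℕ) (hi : i < D.rank) :
    Nat.card (D.posUnipotent F) = Fintype.card F * Nat.card (Subgroup.closure (upGens D F i)) := by
  have hX := rootSubgroup_simple_le_pos c tc ac hR2 i hi
  have hUp : Subgroup.closure (upGens D F i) ≤ D.posUnipotent F := up_le_pos i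
  let ψ : D.rootSubgroup F (D.simple i) × Subgroup.closure (upGens D F i) → D.posUnipotent F :=
    fun p => ⟨(p.1 : GL D.Idx F) * p.2, Subgroup.mul_mem _ (hX p.1.2) (hUp p.2.2)⟩
  have hψ : Function.Bijective ψ := by
    constructor
    · rintro ⟨x, v⟩ ⟨x', v'⟩ h
      have e : (x : GL D.Idx F) * v = x' * v' := congrArg Subtype.val h
      have e2 : (x' : GL D.Idx F)⁻¹ * x = v' * (v : GL D.Idx F)⁻¹ := by
        rw [inv_mul_eq_iff_eq_mul, ← mul_assoc, ← e]; group
      have h1 : (x' : GL D.Idx F)⁻¹ * x ∈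
          Subgroup.closure (upGens D F i) ⊓ D.rootSubgroup F (D.simple i) := by
        refine Subgroup.mem_inf.2 ⟨?_, Subgroup.mul_mem _ (Subgroup.inv_mem _ x'.2) x.2⟩
        rw [e2]
        exact Subgroup.mul_mem _ v'.2 (Subgroup.inv_mem _ v.2)
      rw [up_inf_root c tc ac i hi, Subgroup.mem_bot, inv_mul_eq_one] at h1
      have h3 : (v : GL D.Idx F) = v' := by
        rw [h1] at e
        exact mul_left_cancel e
      exact Prod.ext (Subtype.ext h1.symm) (Subtype.ext h3)
    · rintro ⟨u, hu⟩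
      obtain ⟨x, hx, v, hv, rfl⟩ := pos_prod c tc ac hR2 i hi u hu
      exact ⟨(⟨x, hx⟩, ⟨v, hv⟩), rfl⟩
  rw [← Nat.card_congr (Equiv.ofBijective ψ hψ), Nat.card_prod,
    card_rootSubgroup c tc ac _ (tc.simple_pos i hi)]

/-! ### Conjugating a fundamental root subgroup into `U` -/

theorem pos_le_parabolic (J : Set ℕ) : D.posUnipotent F ≤ D.parabolicSubgroup F J :=
  le_trans le_sup_left (borel_le_parabolic J)

/-- For every `g` some `P_i`-conjugate of `X_i` is carried into `U` by `g`. -/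
theorem exists_conj_root_mem_pos (c : DCert D Ns) (tc : TCert D) (ac : ACert D wl ws sc) (gc : GCert D w d)
    (hdesc : Descent D) (hR2 : R2All D F) (i : ℕ) (hi : i < D.rank) (g : GL D.Idx F)
    (hg : g ∈ D.group F) :
    ∃ y ∈ D.parabolicSubgroup F {i}, ∀ x ∈ D.rootSubgroup F (D.simple i),
      g * (y * x * y⁻¹) * g⁻¹ ∈ D.posUnipotent F := by
  obtain ⟨b, hb, n, hn, u, hu, rfl⟩ := canonical_exists c tc ac gc hdesc hR2 g hg
  obtain ⟨π, hact, hlin⟩ := nAct_of_mem_monomial c tc n hn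
  have hp := tc.simple_pos i hi
  have huU : u ∈ D.posUnipotent F := flipGens_le_pos n hu
  obtain ⟨hπp, a, ha, hconj⟩ := hact _ hp.1
  rcases ac.posOrNeg _ hπp with hpos | hneg
  · refine ⟨u⁻¹, Subgroup.inv_mem _ (pos_le_parabolic {i} huU), ?_⟩
    intro x hx
    obtain ⟨t, rfl⟩ := (mem_rootSubgroup_iff c _ x).1 hx
    have e : b * n * u * (u⁻¹ * xGL c (D.simple i) t * u⁻¹⁻¹) * (b * n * u)⁻¹ =
        b * (n * xGL c (D.simple i) t * n⁻¹) * b⁻¹ := by group
    rw [e, hconj]
    exact borel_conj_pos c tc hb (Subgroup.subset_closure ⟨_, _, hpos, rfl⟩)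
  · refine ⟨u⁻¹ * nGL c i, Subgroup.mul_mem _ (Subgroup.inv_mem _ (pos_le_parabolic {i} huU))
      (nGL_mem_parabolic {i} c i hi rfl), ?_⟩
    intro x hx
    obtain ⟨t, rfl⟩ := (mem_rootSubgroup_iff c _ x).1 hx
    have hnp := DCert.neg_lt c _ hp.1
    obtain ⟨hπn, a', ha', hconj'⟩ := hact _ hnp
    have e : b * n * u * (u⁻¹ * nGL c i * xGL c (D.simple i) t * (u⁻¹ * nGL c i)⁻¹) * (b * n * u)⁻¹ =
        b * (n * (nGL c i * xGL c (D.simple i) t * (nGL c i)⁻¹) * n⁻¹) * b⁻¹ := by group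
    rw [e, nGL_conj c i hi _ hp.1, reflectRoot_simple, hconj']
    apply borel_conj_pos c tc hb
    refine Subgroup.subset_closure ⟨_, _, ?_, rfl⟩
    rw [hlin.2.1 _ hp.1]
    exact neg_isPos c tc ac _ hneg

/-! ### The elements `h_{p_i}(t)` -/

/-- `h_{p_i}(t)` lies in the normal closure of `U` in `P_i` -/
theorem hGL_simple_mem_closure_conj (c : DCert D Ns) (tc : TCert D) (i : ℕ) (hi : i < D.rank) (t : F) :
    hGL c (D.simple i) t ∈ Subgroup.closure {z : GL D.Idx F | ∃ y ∈ D.parabolicSubgroup F {i},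
      ∃ u ∈ D.posUnipotent F, z = y * u * y⁻¹} := by
  have hp := tc.simple_pos i hi
  have h1 : ∀ s : F, xGL c (D.simple i) s ∈ Subgroup.closure {z : GL D.Idx F |
      ∃ y ∈ D.parabolicSubgroup F {i}, ∃ u ∈ D.posUnipotent F, z = y * u * y⁻¹} := by
    intro s
    apply Subgroup.subset_closure
    exact ⟨1, Subgroup.one_mem _, xGL c (D.simple i) s, Subgroup.subset_closure ⟨_, s, hp, rfl⟩,
      by group⟩
  have h2 : ∀ s : F, xGL c (D.neg (D.simple i)) s ∈ Subgroup.closure {z : GL D.Idx F |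
      ∃ y ∈ D.parabolicSubgroup F {i}, ∃ u ∈ D.posUnipotent F, z = y * u * y⁻¹} := by
    intro s
    apply Subgroup.subset_closure
    obtain ⟨-, a, ha, hconj⟩ := actsAs_nGL (F := F) c i hi _ hp.1
    rw [reflectRoot_simple] at hconj
    refine ⟨nGL c i, nGL_mem_parabolic {i} c i hi rfl, xGL c (D.simple i) (a⁻¹ * s),
      Subgroup.subset_closure ⟨_, _, hp, rfl⟩, ?_⟩
    rw [hconj, ← mul_assoc, mul_inv_cancel₀ ha, one_mul]
  unfold hGL
  apply wordGL_mem
  intro q hq
  unfold ChevalleyDatum.hWord ChevalleyDatum.nWord at hq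
  simp only [List.cons_append, List.nil_append, List.mem_cons, List.not_mem_nil, or_false] at hq
  rcases hq with rfl | rfl | rfl | rfl | rfl | rfl
  · exact h1 _
  · exact h2 _
  · exact h1 _
  · exact h1 _
  · exact h2 _
  · exact h1 _

/-- the torus element with a single parameter different from 1 is `h_{p_k}(a)` -/
theorem hMat_simple_eq_torusMat (c : DCert D Ns) (tc : TCert D) (k : ℕ) (hk : k < D.rank) (a : F)
    (ha : a ≠ 0) :
    D.hMat F (D.simple k) a = torusMat D (fun j => if j = k then a else 1) := by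
  rw [hMat_all c tc _ (tc.simple_pos k hk).1 a ha]
  unfold torusMat
  apply diagMat_congr
  intro s _
  rw [tc.cartanR_simple k hk]
  unfold torusChar
  rw [Finset.prod_eq_single k]
  · dsimp only
    rw [if_pos rfl]
  · intro j _ hjk
    dsimp only
    rw [if_neg hjk, one_zpow]
  · intro h
    exact absurd (Finset.mem_range.2 hk) h

/-- `H` is generated by the `h_{p_i}(t)` -/
theorem diagonal_le_closure_simple (c : DCert D Ns) (tc : TCert D) :
    D.diagonalSubgroup F ≤ Subgroup.closure {g : GL D.Idx F | ∃ i < D.rank, ∃ a : F, a ≠ 0 ∧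
      g = hGL c (D.simple i) a} := by
  intro h hh
  obtain ⟨t, ht, e⟩ := exists_torus_of_mem c tc h hh
  have key : ∀ k ≤ D.rank, ∃ g ∈ Subgroup.closure {g : GL D.Idx F | ∃ i < D.rank, ∃ a : F, a ≠ 0 ∧
      g = hGL c (D.simple i) a},
      (g : Matrix D.Idx D.Idx F) = torusMat D (fun j => if j < k then t j else 1) := by
    intro k
    induction k with
    | zero =>
      intro _
      refine ⟨1, Subgroup.one_mem _, ?_⟩
      rw [Units.val_one, ← torusMat_one]
      congr 1
    | succ k ih =>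
      intro hk
      obtain ⟨g, hg, e1⟩ := ih (by omega)
      refine ⟨g * hGL c (D.simple k) (t k), Subgroup.mul_mem _ hg
        (Subgroup.subset_closure ⟨k, by omega, t k, ht k, rfl⟩), ?_⟩
      rw [Units.val_mul, e1, hGL_coe, hMat_simple_eq_torusMat c tc k (by omega) _ (ht k), torusMat_mul]
      congr 1
      funext j
      by_cases h1 : j < k
      · rw [if_pos h1, if_neg (by omega), if_pos (by omega), mul_one]
      · by_cases h2 : j = k
        · subst h2
          rw [if_neg h1, if_pos rfl, if_pos (by omega), one_mul]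
        · rw [if_neg h1, if_neg h2, if_neg (by omega), mul_one]
  obtain ⟨g, hg, e1⟩ := key D.rank le_rfl
  have e2 : h = g := by
    apply Units.ext
    rw [e, e1]
    unfold torusMat
    apply diagMat_congr
    intro s _
    unfold torusChar
    apply Finset.prod_congr rfl
    intro j hj
    dsimp only
    rw [if_pos (Finset.mem_range.1 hj)]
  rw [e2]
  exact hg

/-- `B` is generated by `U` and the `h_{p_i}(t)` -/
theorem borel_le_closure_gen (c : DCert D Ns) (tc : TCert D) :
    D.borelSubgroup F ≤ Subgroup.closure ((D.posUnipotent F : Set (GL D.Idx F)) ∪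
      {g : GL D.Idx F | ∃ i < D.rank, ∃ a : F, a ≠ 0 ∧ g = hGL c (D.simple i) a}) := by
  unfold ChevalleyDatum.borelSubgroup
  apply sup_le
  · intro u hu
    exact Subgroup.subset_closure (Or.inl hu)
  · exact le_trans (diagonal_le_closure_simple c tc) (Subgroup.closure_mono Set.subset_union_right)

theorem hGL_simple_mem_borel (c : DCert D Ns) (tc : TCert D) (i : ℕ) (hi : i < D.rank) (a : F)
    (ha : a ≠ 0) : hGL c (D.simple i) a ∈ D.borelSubgroup F :=
  Subgroup.mem_sup_right (hGL_mem c _ (tc.simple_pos i hi).1 a ha)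

end Cfsg.Agent.Lib.Helper81_DZChevA
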