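/-
Chevalley groups of type G₂, B₂, D₄, F₄, E₆, E₇, E₈ over a finite field: the split (B, N)-pair data
`DZData` of `Helper40_DefZeroDefs` (for the abstract theorem on characters of `p`-defect zero).
-/
import Mathlib
import Cfsg.Agent.Lib.Helper81_DZChevA
import Cfsg.Agent.Lib.Helper81_ChevSt
import Cfsg.Agent.Lib.Helper40_DefZeroDefs

set_option autoImplicit false
set_option linter.unusedSectionVars false
set_option linter.unusedVariables false

namespace Cfsg.Agent.Lib.Helper81_DZChevB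

open Cfsg Cfsg.Lie Cfsg.Agent.Lib.Helper18_ChevFast Cfsg.Agent.Lib.Helper18_ChevEngine
  Cfsg.Agent.Lib.Helper18_ChevR1 Cfsg.Agent.Lib.Helper18_ChevN Cfsg.Agent.Lib.Helper18_ChevR4
  Cfsg.Agent.Lib.Helper18_ChevSimple Cfsg.Agent.Lib.Helper18_ChevSimple2 Cfsg.Agent.Lib.Helper18_ChevFacts
  Cfsg.Agent.Lib.Helper18_ChevWeyl Cfsg.Agent.Lib.Helper18_ChevDiag Cfsg.Agent.Lib.Helper18_ChevCar
  Cfsg.Agent.Lib.Helper18_ChevTorus Cfsg.Agent.Lib.Helper18_ChevGL Cfsg.Agent.Lib.Helper18_ChevComm
  Cfsg.Agent.Lib.Helper18_ChevComm2 Cfsg.Agent.Lib.Helper18_MatTri Cfsg.Agent.Lib.Helper18_ChevTri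
  Cfsg.Agent.Lib.Helper18_ChevBorel Cfsg.Agent.Lib.Helper18_ChevAdd Cfsg.Agent.Lib.Helper18_ChevUni
  Cfsg.Agent.Lib.Helper18_ChevBN Cfsg.Agent.Lib.Helper18_ChevMono Cfsg.Agent.Lib.Helper18_ChevBNPair
  Cfsg.Agent.Lib.Helper18_ChevSimp Cfsg.Agent.Lib.Helper18_ChevJCerts Cfsg.Agent.Lib.Helper18_ChevLevi
  Cfsg.Agent.Lib.Helper18_ChevBruhat Cfsg.Agent.Lib.Helper18_ChevPar Cfsg.Agent.Lib.Helper18_ChevRootHom
  Cfsg.Agent.Lib.Helper18_ChevOrder Cfsg.Agent.Lib.Helper18_ChevSylow
  Cfsg.Agent.Lib.Helper6_Word Cfsg.Agent.Lib.Helper6_BNPair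
  Cfsg.Agent.Lib.Helper81_ChevLenBN Cfsg.Agent.Lib.Helper81_DZChevA Cfsg.Agent.Lib.Helper81_ChevSt
  Cfsg.Agent.Lib.Helper40_DefZeroDefs

variable {D : ChevalleyDatum} {Ns : List NData} {F : Type*} [Field F]
variable {wl : List ℤ} {ws : List (List ℤ)} {sc : ℤ} {w : List ℤ} {d : ℕ}

/-! ### The order of a minimal parabolic subgroup -/

section bn

variable (P : Cfsg.BNPair ↥(D.group F))
  (hB : P.B = (D.borelSubgroup F).subgroupOf (D.group F))
  (hN : P.N = (D.monomialSubgroup F).subgroupOf (D.group F))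
  (hS : P.S = {n : ↥(D.group F) | ∃ i < D.rank,
        ((n : GL D.Idx F) : Matrix D.Idx D.Idx F) = D.nMat F (D.simple i) 1})

include hN hS in
theorem ℓ_sP (c : DCert D Ns) (i : ℕ) (hi : i < D.rank) : ℓ P (sP P hN c i hi) = 1 := by
  have hs := isSimple_of_mem P (sP_mem_S P hN hS c i hi)
  have h1 := ℓ_mul_simple_le P hs 1
  rw [one_mul] at h1
  have h0 : ℓ P (1 : P.N) = 0 := (ℓ_eq_zero_iff P).2 P.B.one_mem
  have h2 : ℓ P (sP P hN c i hi) ≠ 0 := fun h => hs.not_mem_B P ((ℓ_eq_zero_iff P).1 h)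
  omega

include hB hN hS in
theorem card_C_sG [Fintype F] (c : DCert D Ns) (tc : TCert D) (ac : ACert D wl ws sc) (gc : GCert D w d)
    (hdesc : Descent D) (hR2 : R2All D F) (i : ℕ) (hi : i < D.rank) :
    Nat.card (C P (sG c i : ↥(D.group F))) = Nat.card P.B * Fintype.card F := by
  have h := card_C P hB hN c tc ac gc hdesc hR2 (sP P hN c i hi)
  rw [lamP_eq_ℓ P hB hN hS c tc ac gc hdesc hR2, ℓ_sP P hN hS c i hi, pow_one] at h
  exact h

include hB hN hS in
/-- `|P_i| = (q + 1) |B|` -/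
theorem card_parabolicIn_single [Fintype F] (c : DCert D Ns) (tc : TCert D) (ac : ACert D wl ws sc)
    (gc : GCert D w d) (hdesc : Descent D) (hR2 : R2All D F) (i : ℕ) (hi : i < D.rank) :
    Nat.card (D.parabolicIn F {i}) =
      (Fintype.card F + 1) * Nat.card ((D.borelSubgroup F).subgroupOf (D.group F)) := by
  classical
  have hfin : Finite ↥(D.group F) := Finite.of_injective _ Subtype.val_injective
  have hset : ((D.parabolicIn F {i} : Subgroup ↥(D.group F)) : Set ↥(D.group F)) =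
      (P.B : Set ↥(D.group F)) ∪ C P (sG c i : ↥(D.group F)) := by
    ext g
    unfold ChevalleyDatum.parabolicIn
    rw [Finset.coe_singleton, SetLike.mem_coe, Subgroup.mem_subgroupOf]
    constructor
    · intro hg
      rcases mem_parabolic_single c tc ac hR2 i hi _ hg with h | ⟨u, hu, b, hb, e⟩
      · left
        exact (mem_B_iff P hB g).2 h
      · right
        rw [mem_C]
        have hUG := posUnipotent_le_group (F := F) c
        have hBG := borel_le_group (F := F) c
        refine ⟨⟨u, hUG hu⟩, (mem_B_iff P hB _).2 (Subgroup.mem_sup_left hu), ⟨b, hBG hb⟩,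
          (mem_B_iff P hB _).2 hb, ?_⟩
        apply Subtype.ext
        exact e
    · rintro (h | h)
      · exact borel_le_parabolic {i} ((mem_B_iff P hB g).1 h)
      · rw [mem_C] at h
        obtain ⟨x, hx, y, hy, rfl⟩ := h
        exact mul_nGL_mul_mem_parabolic c i hi ((mem_B_iff P hB x).1 hx) ((mem_B_iff P hB y).1 hy)
  have hdisj : Disjoint (P.B : Set ↥(D.group F)) (C P (sG c i : ↥(D.group F))) := by
    rw [Set.disjoint_left]
    intro g hg hgC
    rw [mem_C] at hgC
    obtain ⟨x, hx, y, hy, rfl⟩ := hgC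
    have hs : (sG c i : ↥(D.group F)) ∈ P.S := by
      rw [hS]
      exact ⟨i, hi, sG_coe c i⟩
    apply not_mem_B_of_mem_S P hs
    have e : (sG c i : ↥(D.group F)) = x⁻¹ * (x * sG c i * y) * y⁻¹ := by group
    rw [e]
    exact P.B.mul_mem (P.B.mul_mem (P.B.inv_mem hx) hg) (P.B.inv_mem hy)
  have h1 : Nat.card (D.parabolicIn F {i}) =
      ((D.parabolicIn F {i} : Subgroup ↥(D.group F)) : Set ↥(D.group F)).ncard := rfl
  rw [h1, hset, Set.ncard_union_eq hdisj (Set.toFinite _) (Set.toFinite _)]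
  have h2 : (P.B : Set ↥(D.group F)).ncard = Nat.card P.B := rfl
  have h3 : (C P (sG c i : ↥(D.group F))).ncard = Nat.card (C P (sG c i : ↥(D.group F))) := rfl
  rw [h2, h3, card_C_sG P hB hN hS c tc ac gc hdesc hR2 i hi, ← hB]
  ring

end bn

/-! ### The data -/

/-- membership in the closure of a set of elements of a subgroup, tested in the ambient group -/
theorem mem_closure_of_coe_mem {G : Type*} [Group G] (H : Subgroup G) (X : Set H) (S : Set G)
    (hS : S ⊆ H.subtype '' X) (g : H) (hg : (g : G) ∈ Subgroup.closure S) : g ∈ Subgroup.closure X := by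
  rw [← closure_subgroupOf H X, Subgroup.mem_subgroupOf]
  exact Subgroup.closure_mono hS hg

/-- The split (B, N)-pair data of a Chevalley group of type G₂, B₂, D₄, F₄, E₆, E₇ or E₈ over a finite
field of characteristic `p`. -/
noncomputable def dzData [Fintype F] (p : ℕ) [Fact p.Prime] [CharP F p] (c : DCert D Ns) (tc : TCert D)
    (ac : ACert D wl ws sc) (gc : GCert D w d) (hdesc : Descent D) (hR2 : R2All D F) :
    DZData ↥(D.group F) p (Fintype.card F) (Fin D.rank) where
  U := (D.posUnipotent F).subgroupOf (D.group F)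
  B := (D.borelSubgroup F).subgroupOf (D.group F)
  P := fun i => D.parabolicIn F {(i : ℕ)}
  X := fun i => (D.rootSubgroup F (D.simple i)).subgroupOf (D.group F)
  Ua := fun i => (Subgroup.closure (upGens D F i)).subgroupOf (D.group F)
  T := fun i => {g | ∃ a : F, a ≠ 0 ∧ (g : GL D.Idx F) = hGL c (D.simple i) a}
  n := fun i => sG c i
  hq := Fintype.one_lt_card
  U_le_B := by
    intro g hg
    rw [Subgroup.mem_subgroupOf] at hg ⊢
    exact Subgroup.mem_sup_left hg
  card_U := by
    obtain ⟨S, hS⟩ := exists_sylow p c tc ac gc hdesc hR2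
    rw [← hS]
    exact S.card_eq_multiplicity
  U_normal := by
    intro b hb u hu
    rw [Subgroup.mem_subgroupOf] at hb hu ⊢
    exact borel_conj_pos c tc hb hu
  comm_mem := by
    intro a ha b hb
    rw [Subgroup.mem_subgroupOf] at ha hb ⊢
    exact borel_comm_mem c tc ha hb
  B_le_P := by
    intro i g hg
    unfold ChevalleyDatum.parabolicIn
    rw [Subgroup.mem_subgroupOf] at hg ⊢
    exact borel_le_parabolic _ hg
  n_mem := by
    intro i
    unfold ChevalleyDatum.parabolicIn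
    rw [Subgroup.mem_subgroupOf, Finset.coe_singleton]
    exact nGL_mem_parabolic {(i : ℕ)} c i i.2 rfl
  P_cover := by
    intro i g hg
    unfold ChevalleyDatum.parabolicIn at hg
    rw [Subgroup.mem_subgroupOf, Finset.coe_singleton] at hg
    rcases mem_parabolic_single c tc ac hR2 i i.2 _ hg with h | ⟨u, hu, b, hb, e⟩
    · left
      rw [Subgroup.mem_subgroupOf]
      exact h
    · right
      refine ⟨⟨u, posUnipotent_le_group c hu⟩, ?_, ⟨b, borel_le_group c hb⟩, ?_, ?_⟩
      · rw [Subgroup.mem_subgroupOf]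
        exact hu
      · rw [Subgroup.mem_subgroupOf]
        exact hb
      · apply Subtype.ext
        exact e
  card_P := by
    intro i
    obtain ⟨P, hB, hN, hS⟩ := exists_bnPair c tc ac gc hR2
    exact card_parabolicIn_single P hB hN hS c tc ac gc hdesc hR2 i i.2
  X_le_U := by
    intro i g hg
    rw [Subgroup.mem_subgroupOf] at hg ⊢
    exact rootSubgroup_simple_le_pos c tc ac hR2 i i.2 hg
  Ua_le_U := by
    intro i g hg
    rw [Subgroup.mem_subgroupOf] at hg ⊢
    exact up_le_pos i hg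
  Ua_normal := by
    intro i g hg u hu
    unfold ChevalleyDatum.parabolicIn at hg
    rw [Subgroup.mem_subgroupOf, Finset.coe_singleton] at hg
    rw [Subgroup.mem_subgroupOf] at hu ⊢
    exact (Subgroup.mem_normalizer_iff.mp
      (parabolic_single_le_normalizer_up c tc ac hR2 i i.2 hg) _).mp hu
  U_prod := by
    intro i u hu
    rw [Subgroup.mem_subgroupOf] at hu
    obtain ⟨x, hx, v, hv, e⟩ := pos_prod c tc ac hR2 i i.2 _ hu
    refine ⟨⟨x, posUnipotent_le_group c (rootSubgroup_simple_le_pos c tc ac hR2 i i.2 hx)⟩, ?_,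
      ⟨v, posUnipotent_le_group c (up_le_pos i hv)⟩, ?_, ?_⟩
    · rw [Subgroup.mem_subgroupOf]
      exact hx
    · rw [Subgroup.mem_subgroupOf]
      exact hv
    · apply Subtype.ext
      exact e
  card_Ua := by
    intro i
    have hUG := posUnipotent_le_group (F := F) c
    rw [Nat.card_congr (Subgroup.subgroupOfEquivOfLe hUG).toEquiv,
      Nat.card_congr (Subgroup.subgroupOfEquivOfLe (le_trans (up_le_pos i) hUG)).toEquiv]
    exact card_pos_eq c tc ac hR2 i i.2
  bruhat := by
    intro i g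
    obtain ⟨y, hy, h⟩ := exists_conj_root_mem_pos c tc ac gc hdesc hR2 i i.2 g g.2
    refine ⟨⟨y, parabolic_le_group c _ hy⟩, ?_, ?_⟩
    · unfold ChevalleyDatum.parabolicIn
      rw [Subgroup.mem_subgroupOf, Finset.coe_singleton]
      exact hy
    · intro x hx
      rw [Subgroup.mem_subgroupOf] at hx ⊢
      exact h _ hx
  T_mem := by
    rintro i t ⟨a, ha, e⟩
    constructor
    · rw [Subgroup.mem_subgroupOf, e]
      exact hGL_simple_mem_borel c tc i i.2 a ha
    · apply mem_closure_of_coe_mem (D.group F) _ _ _ t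
        (by rw [e]; exact hGL_simple_mem_closure_conj c tc i i.2 a)
      rintro z ⟨y, hy, u, hu, rfl⟩
      refine ⟨⟨y, parabolic_le_group c _ hy⟩ * ⟨u, posUnipotent_le_group c hu⟩ *
        ⟨y, parabolic_le_group c _ hy⟩⁻¹, ⟨⟨y, parabolic_le_group c _ hy⟩, ?_,
          ⟨u, posUnipotent_le_group c hu⟩, ?_, rfl⟩, rfl⟩
      · unfold ChevalleyDatum.parabolicIn
        rw [Subgroup.mem_subgroupOf, Finset.coe_singleton]
        exact hy
      · rw [Subgroup.mem_subgroupOf]
        exact hu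
  B_gen := by
    intro b hb
    rw [Subgroup.mem_subgroupOf] at hb
    apply mem_closure_of_coe_mem (D.group F) _ _ _ b (borel_le_closure_gen c tc hb)
    rintro z (hz | ⟨i, hi, a, ha, rfl⟩)
    · refine ⟨⟨z, posUnipotent_le_group c hz⟩, Or.inl ?_, rfl⟩
      rw [SetLike.mem_coe, Subgroup.mem_subgroupOf]
      exact hz
    · refine ⟨⟨hGL c (D.simple i) a, borel_le_group c (hGL_simple_mem_borel c tc i hi a ha)⟩,
        Or.inr ?_, rfl⟩
      rw [Set.mem_iUnion]
      exact ⟨⟨i, hi⟩, a, ha, rfl⟩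

end Cfsg.Agent.Lib.Helper81_DZChevB
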