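/-
Chevalley groups of type G₂, B₂, D₄, F₄, E₆, E₇, E₈ over a finite field of characteristic `p`: the Steinberg
character is the only irreducible character of `p`-defect zero.
-/
import Mathlib
import Cfsg.Agent.Lib.Helper81_DZChevB
import Cfsg.Agent.Lib.Helper40_DefZeroMain

set_option autoImplicit false
set_option linter.unusedSectionVars false
set_option linter.unusedVariables false

namespace Cfsg.Agent.Lib.Helper81_DZChevC

open Cfsg Cfsg.Lie Cfsg.Agent.Lib.Helper18_ChevFast Cfsg.Agent.Lib.Helper18_ChevEngine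
  Cfsg.Agent.Lib.Helper18_ChevR1 Cfsg.Agent.Lib.Helper18_ChevN Cfsg.Agent.Lib.Helper18_ChevR4
  Cfsg.Agent.Lib.Helper18_ChevSimple Cfsg.Agent.Lib.Helper18_ChevSimple2 Cfsg.Agent.Lib.Helper18_ChevFacts
  Cfsg.Agent.Lib.Helper18_ChevWeyl Cfsg.Agent.Lib.Helper18_ChevGL Cfsg.Agent.Lib.Helper18_ChevPar
  Cfsg.Agent.Lib.Helper18_ChevLevi
  Cfsg.Agent.Lib.Helper81_DZChevB Cfsg.Agent.Lib.Helper81_ChevSt
  Cfsg.Agent.Lib.Helper40_DefZeroDefs Cfsg.Agent.Lib.Helper40_DefZeroMain

theorem parabolicSubgroup_mono (D : ChevalleyDatum) (F : Type*) [Field F] {J K : Set ℕ} (h : J ⊆ K) :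
    D.parabolicSubgroup F J ≤ D.parabolicSubgroup F K := by
  unfold ChevalleyDatum.parabolicSubgroup
  apply sup_le_sup_left
  apply Subgroup.closure_mono
  rintro g ⟨j, hj, hjr, hg⟩
  exact ⟨j, h hj, hjr, hg⟩

theorem parabolicIn_empty (D : ChevalleyDatum) (F : Type*) [Field F] :
    D.parabolicIn F ∅ = (D.borelSubgroup F).subgroupOf (D.group F) := by
  unfold ChevalleyDatum.parabolicIn ChevalleyDatum.parabolicSubgroup
  have : {g : GL D.Idx F | ∃ j ∈ ((∅ : Finset ℕ) : Set ℕ), j < D.rank ∧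
      (g : Matrix D.Idx D.Idx F) = D.nMat F (D.simple j) 1} = ∅ := by
    ext g
    simp
  rw [this, Subgroup.closure_empty, sup_bot_eq]

/-- In a Chevalley group of type G₂, B₂, D₄, F₄, E₆, E₇ or E₈ over a finite field of characteristic `p`
the Steinberg character is the only irreducible character of `p`-defect zero. -/
theorem steinberg_unique_defect_zero {F : Type*} [Field F] [Fintype F] (p : ℕ) [Fact p.Prime] [CharP F p]
    (D : ChevalleyDatum) (hD : D ∈ [chevG2, chevB2, chevD4, chevF4, chevE6, chevE7, chevE8])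
    (χ : ↥(D.group F) → ℂ) (hχ : Cfsg.IsIrrCharacter ↥(D.group F) χ)
    (hdeg : ∃ d : ℕ, χ 1 = (d : ℂ) ∧ p ^ (Nat.card ↥(D.group F)).factorization p ∣ d) :
    χ = D.steinbergCharacter F := by
  classical
  obtain ⟨Ns, w, d, Ts, hT, K, base, stepT, wl, ws, sc, c, tc, gc, pc, ac⟩ :=
    Cfsg.Agent.Lib.Helper18_ChevData5.exists_cert5 D hD
  have hR2 : Cfsg.Agent.Lib.Helper18_ChevUni.R2All D F := Cfsg.Agent.Lib.Helper18_ChevComm2.r2_all c pc
  have hdesc := Cfsg.Agent.Lib.Helper18_ChevJCerts.descent_all D hD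
  have : Finite ↥(D.group F) := Finite.of_injective _ Subtype.val_injective
  refine defect_zero_unique (dzData p c tc ac gc hdesc hR2) χ hχ hdeg
    (Finset.range D.rank).powerset (fun J => D.parabolicIn F J) (fun J => (-1 : ℤ) ^ J.card) ∅
    (Finset.empty_mem_powerset _) (parabolicIn_empty D F) (by simp) ?_
    (D.steinbergCharacter F) (steinberg_irr D hD) ?_
  · intro J hJ hne
    obtain ⟨i, hi⟩ := Finset.nonempty_iff_ne_empty.2 hne
    have hir : i < D.rank := Finset.mem_range.1 (Finset.mem_powerset.1 hJ hi)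
    refine ⟨⟨i, hir⟩, ?_⟩
    show D.parabolicIn F {i} ≤ D.parabolicIn F J
    unfold ChevalleyDatum.parabolicIn
    intro g hg
    rw [Subgroup.mem_subgroupOf] at hg ⊢
    refine parabolicSubgroup_mono D F ?_ hg
    intro j hj
    rw [Finset.coe_singleton, Set.mem_singleton_iff] at hj
    subst hj
    exact hi
  · intro g
    unfold ChevalleyDatum.steinbergCharacter
    apply Finset.sum_congr rfl
    intro J _
    push_cast
    rfl

end Cfsg.Agent.Lib.Helper81_DZChevC
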