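/- helper40 (GREEN market, package GC-DZ1): a Chevalley group has exactly one irreducible character of `p`-defect
zero (the Steinberg character). -/
import Mathlib
import Cfsg.Prelude.Def_Blocks
import Cfsg.Agent.Lib.Helper40_ChevGreenDefs
import Cfsg.Agent.Lib.Helper40_GR_GCSYL
import Cfsg.Agent.Lib.Helper18_ChevData5
import Cfsg.Agent.Lib.Helper81_DZChevC
import Cfsg.Agent.Lib.Helper81_ChevSt
import Cfsg.Agent.Lib.Helper81_ChevStDeg
import Cfsg.Agent.S0914

set_option autoImplicit false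

namespace Cfsg.Agent.Lib.Helper40_GR_GCDZ1

open Cfsg Cfsg.Lie Cfsg.Agent.Lib.Helper40_ChevDZDefs Cfsg.Agent.Lib.Helper40_ChevGreenDefs
open Cfsg.Agent.Lib.Helper18_ChevGL Cfsg.Agent.Lib.Helper18_ChevUni

variable (D : ChevalleyDatum)
  (hD : D ∈ [chevG2, chevB2, chevD4, chevF4, chevE6, chevE7, chevE8]) {F : Type*} [Field F]

include hD

/-- the order of `U` is the `p`-part of the group order -/
theorem card_pow [Fintype F] (p : ℕ) [Fact p.Prime] [CharP F p] :
    Fintype.card F ^ (D.nroots / 2) = p ^ (Nat.card ↥(D.group F)).factorization p := by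
  obtain ⟨⟨P, hP⟩, -⟩ := Cfsg.Agent.Lib.Helper40_GR_GCSYL.ch_sylow D hD (F := F) p
  obtain ⟨Ns, w, d, Ts, hT, K, base, stepT, wl, ws, sc, c, tc, gc, pc, ac⟩ :=
    Cfsg.Agent.Lib.Helper18_ChevData5.exists_cert5 D hD
  have hR2 : R2All D F := Cfsg.Agent.Lib.Helper18_ChevComm2.r2_all c pc
  have hcardU : Nat.card (cU D F) = Fintype.card F ^ (D.nroots / 2) := by
    rw [← card_posUnipotent c tc ac hR2]
    exact Nat.card_congr (Subgroup.subgroupOfEquivOfLe (posUnipotent_le_group c)).toEquiv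
  rw [← hcardU, ← hP]
  exact P.card_eq_multiplicity

/- GC-DZ1 -/
theorem ch_card_dz [Fintype F] (p : ℕ) [Fact p.Prime] [CharP F p] :
    Nat.card {χ : Cfsg.IrrCharacter ↥(D.group F) //
      p ^ (Nat.card ↥(D.group F)).factorization p ∣ Cfsg.charDegree (χ : ↥(D.group F) → ℂ)} = 1 := by
  have hst : Cfsg.IsIrrCharacter ↥(D.group F) (D.steinbergCharacter F) :=
    Cfsg.Agent.Lib.Helper81_ChevSt.steinberg_irr D hD
  have key : ∀ χ : Cfsg.IrrCharacter ↥(D.group F),
      p ^ (Nat.card ↥(D.group F)).factorization p ∣ Cfsg.charDegree (χ : ↥(D.group F) → ℂ) →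
      χ = ⟨_, hst⟩ := by
    intro χ hdvd
    obtain ⟨d, -, hd1, hd2, -⟩ := Cfsg.Agent.S0914.exists_degree χ
    apply Subtype.ext
    exact Cfsg.Agent.Lib.Helper81_DZChevC.steinberg_unique_defect_zero p D hD
      (χ : ↥(D.group F) → ℂ) χ.2 ⟨d, hd1, by rw [← hd2]; exact hdvd⟩
  have hmem : p ^ (Nat.card ↥(D.group F)).factorization p ∣
      Cfsg.charDegree (D.steinbergCharacter F) := by
    obtain ⟨d, -, hd1, hd2, -⟩ := Cfsg.Agent.S0914.exists_degree
      (⟨_, hst⟩ : Cfsg.IrrCharacter ↥(D.group F))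
    change D.steinbergCharacter F 1 = d at hd1
    change Cfsg.charDegree (D.steinbergCharacter F) = d at hd2
    rw [hd2]
    rw [Cfsg.Agent.Lib.Helper81_ChevStDeg.steinberg_one D hD] at hd1
    have : d = Fintype.card F ^ (D.nroots / 2) := by exact_mod_cast hd1.symm
    rw [this, card_pow D hD p]
  rw [Nat.card_eq_one_iff_unique]
  refine ⟨⟨fun a b => ?_⟩, ⟨⟨⟨_, hst⟩, hmem⟩⟩⟩
  apply Subtype.ext
  rw [key a.1 a.2, key b.1 b.2]

end Cfsg.Agent.Lib.Helper40_GR_GCDZ1
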