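/-
helper40 (GREEN market, package GC-INTER): in a finite Chevalley group, `U ⊓ m⁻¹ U m` is generated by the root
subgroups `X_r`, `r` positive with `π r` positive, when `m` permutes the root subgroups as `π`.  Counting proof.
-/
import Mathlib
import Cfsg.Agent.Lib.Helper40_ChevGreenDefs
import Cfsg.Agent.Lib.Helper40_ChevGreenXG
import Cfsg.Agent.Lib.Helper18_ChevData5
import Cfsg.Agent.Lib.Helper18_ChevBruhat

set_option autoImplicit false

namespace Cfsg.Agent.Lib.Helper40_GR_GCINTER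

open Cfsg Cfsg.Lie Cfsg.Agent.Lib.Helper40_ChevDZDefs Cfsg.Agent.Lib.Helper40_ChevGreenDefs
open Cfsg.Agent.Lib.Helper18_ChevFast Cfsg.Agent.Lib.Helper18_ChevEngine
  Cfsg.Agent.Lib.Helper18_ChevR1 Cfsg.Agent.Lib.Helper18_ChevN Cfsg.Agent.Lib.Helper18_ChevR4
  Cfsg.Agent.Lib.Helper18_ChevSimple Cfsg.Agent.Lib.Helper18_ChevSimple2 Cfsg.Agent.Lib.Helper18_ChevFacts
  Cfsg.Agent.Lib.Helper18_ChevWeyl Cfsg.Agent.Lib.Helper18_ChevDiag Cfsg.Agent.Lib.Helper18_ChevCar
  Cfsg.Agent.Lib.Helper18_ChevTorus Cfsg.Agent.Lib.Helper18_ChevGL Cfsg.Agent.Lib.Helper18_ChevComm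
  Cfsg.Agent.Lib.Helper18_ChevComm2 Cfsg.Agent.Lib.Helper18_MatTri Cfsg.Agent.Lib.Helper18_ChevTri
  Cfsg.Agent.Lib.Helper18_ChevBorel Cfsg.Agent.Lib.Helper18_ChevAdd Cfsg.Agent.Lib.Helper18_ChevUni
  Cfsg.Agent.Lib.Helper18_ChevSimp Cfsg.Agent.Lib.Helper18_ChevBruhat

section GLlevel

variable {D : ChevalleyDatum} {Ns : List NData} {F : Type*} [Field F]
variable {wl : List ℤ} {ws : List (List ℤ)} {sc : ℤ}

/-- extension by zero of a family of parameters indexed by the members of a list -/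
noncomputable def extL (L : List ℕ) (t : ↥L.toFinset → F) (r : ℕ) : F := by
  classical
  exact if h : r ∈ L.toFinset then t ⟨r, h⟩ else 0

/-- a subgroup containing the root subgroups of `k` distinct positive roots has at least `q ^ k` elements -/
theorem card_ge_of_word [Fintype F] (c : DCert D Ns) (tc : TCert D) (ac : ACert D wl ws sc)
    (L : List ℕ) (hL : L.Nodup) (hpos : ∀ r ∈ L, D.IsPosRoot r)
    (K : Subgroup (GL D.Idx F)) (hK : ∀ r ∈ L, ∀ t : F, xGL c r t ∈ K) :
    Fintype.card F ^ L.length ≤ Nat.card K := by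
  classical
  let φ : (↥L.toFinset → F) → K := fun t =>
    ⟨wordGL c (L.map fun r => (r, extL L t r)), by
      apply wordGL_mem
      intro p hp
      rw [List.mem_map] at hp
      obtain ⟨r, hr, rfl⟩ := hp
      exact hK r hr _⟩
  have hφ : Function.Injective φ := by
    intro t t' h
    have h1 : wordGL c (L.map fun r => (r, extL L t r)) =
        wordGL c (L.map fun r => (r, extL L t' r)) := congrArg Subtype.val h
    have h2 := congrArg (fun g : GL D.Idx F => (g : Matrix D.Idx D.Idx F)) h1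
    simp only [wordGL_coe] at h2
    have h3 := unique_word c tc ac L hL hpos _ _ h2
    funext ⟨r, hr⟩
    have h4 := h3 r (List.mem_toFinset.mp hr)
    unfold extL at h4
    rwa [dif_pos hr, dif_pos hr] at h4
  have := Nat.card_le_card_of_injective φ hφ
  rwa [Nat.card_fun, Nat.card_eq_fintype_card, Nat.card_eq_fintype_card, Fintype.card_coe,
    List.toFinset_card_of_nodup hL] at this

variable {w : List ℤ} {d : ℕ}

/-- the main statement, in `GL` -/
theorem inter_le [Fintype F] (c : DCert D Ns) (tc : TCert D) (ac : ACert D wl ws sc) (gc : GCert D w d)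
    (hR2 : R2All D F) (n : GL D.Idx F) (π : ℕ → ℕ) (hact : ActsAs c n π)
    (g : GL D.Idx F) (hg : g ∈ D.posUnipotent F) (hg' : n * g * n⁻¹ ∈ D.posUnipotent F) :
    g ∈ Subgroup.closure {g : GL D.Idx F | ∃ (r : ℕ) (t : F), (D.IsPosRoot r ∧ D.IsPosRoot (π r)) ∧
      (g : Matrix D.Idx D.Idx F) = D.x F r t} := by
  classical
  set UA : Subgroup (GL D.Idx F) := Subgroup.closure {g : GL D.Idx F | ∃ (r : ℕ) (t : F),
    (D.IsPosRoot r ∧ D.IsPosRoot (π r)) ∧ (g : Matrix D.Idx D.Idx F) = D.x F r t} with hUA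
  set UB : Subgroup (GL D.Idx F) := Subgroup.closure {g : GL D.Idx F | ∃ (r : ℕ) (t : F),
    (D.IsPosRoot r ∧ D.IsNegRoot (π r)) ∧ (g : Matrix D.Idx D.Idx F) = D.x F r t} with hUB
  set W : Subgroup (GL D.Idx F) :=
    D.posUnipotent F ⊓ (D.posUnipotent F).comap (MulAut.conj n).toMonoidHom with hW
  have hgW : g ∈ W := ⟨hg, hg'⟩
  -- conjugation formula
  have hconj : ∀ r, r < D.nroots → ∃ a : F, ∀ t, n * xGL c r t * n⁻¹ = xGL c (π r) (a * t) := by
    intro r hr
    obtain ⟨-, a, -, ha⟩ := hact r hr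
    exact ⟨a, ha⟩
  have hUAW : UA ≤ W := by
    rw [hUA, Subgroup.closure_le]
    rintro x ⟨r, t, ⟨hr, hπr⟩, hx⟩
    rw [eq_xGL c hx]
    refine ⟨Subgroup.subset_closure ⟨r, t, hr, rfl⟩, ?_⟩
    show n * xGL c r t * n⁻¹ ∈ D.posUnipotent F
    obtain ⟨a, ha⟩ := hconj r hr.1
    rw [ha t]
    exact Subgroup.subset_closure ⟨_, _, hπr, rfl⟩
  have hUBU : UB ≤ D.posUnipotent F := by
    rw [hUB, Subgroup.closure_le]
    rintro x ⟨r, t, ⟨hr, -⟩, hx⟩
    exact Subgroup.subset_closure ⟨r, t, hr, hx⟩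
  have hUBV : ∀ x ∈ UB, n * x * n⁻¹ ∈ D.negUnipotent F := by
    intro x hx
    apply conj_closure_le n _ _ _ x hx
    rintro s ⟨r, t, ⟨hr, hπr⟩, hs⟩
    rw [eq_xGL c hs]
    obtain ⟨a, ha⟩ := hconj r hr.1
    rw [ha t]
    exact Subgroup.subset_closure ⟨_, _, hπr, rfl⟩
  have hinf : ∀ x, x ∈ W → x ∈ UB → x = 1 := by
    intro x hxW hxB
    have h1 : n * x * n⁻¹ ∈ D.borelSubgroup F ⊓ D.negUnipotent F :=
      ⟨Subgroup.mem_sup_left hxW.2, hUBV x hxB⟩
    rw [borel_inf_neg c tc gc, Subgroup.mem_bot] at h1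
    have : x = n⁻¹ * (n * x * n⁻¹) * n := by group
    rw [this, h1]
    group
  -- the lists
  set LA : List ℕ := D.posRoots.filter fun r => decide (D.IsPosRoot (π r)) with hLA
  set LB : List ℕ := D.posRoots.filter fun r => decide (D.IsNegRoot (π r)) with hLB
  have hlen : LA.length + LB.length = D.nroots / 2 := by
    rw [← ac.npos]
    have hBeq : LB = D.posRoots.filter fun r => !decide (D.IsPosRoot (π r)) := by
      rw [hLB]
      apply List.filter_congr
      intro r hr
      have hr' := (mem_posRoots r).mp hr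
      have hlt := (hact r hr'.1).1
      by_cases hp : D.IsPosRoot (π r)
      · have : ¬ D.IsNegRoot (π r) := fun hn => ac.not_pos_and_neg _ hp hn
        simp [hp, this]
      · have : D.IsNegRoot (π r) := (ac.posOrNeg _ hlt).resolve_left hp
        simp [hp, this]
    rw [hBeq, hLA]
    exact (List.length_eq_length_filter_add _).symm
  have hA : Fintype.card F ^ LA.length ≤ Nat.card UA := by
    apply card_ge_of_word c tc ac LA (posRoots_nodup.filter _)
    · intro r hr
      exact (mem_posRoots r).mp (List.mem_of_mem_filter hr)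
    · intro r hr t
      rw [hLA, List.mem_filter] at hr
      exact Subgroup.subset_closure ⟨r, t, ⟨(mem_posRoots r).mp hr.1, by simpa using hr.2⟩, rfl⟩
  have hB : Fintype.card F ^ LB.length ≤ Nat.card UB := by
    apply card_ge_of_word c tc ac LB (posRoots_nodup.filter _)
    · intro r hr
      exact (mem_posRoots r).mp (List.mem_of_mem_filter hr)
    · intro r hr t
      rw [hLB, List.mem_filter] at hr
      exact Subgroup.subset_closure ⟨r, t, ⟨(mem_posRoots r).mp hr.1, by simpa using hr.2⟩, rfl⟩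
  -- the product map
  have hprod : Nat.card W * Nat.card UB ≤ Nat.card (D.posUnipotent F) := by
    let ψ : W × UB → D.posUnipotent F := fun p =>
      ⟨(p.1 : GL D.Idx F) * (p.2 : GL D.Idx F), Subgroup.mul_mem _ p.1.2.1 (hUBU p.2.2)⟩
    have hψ : Function.Injective ψ := by
      rintro ⟨⟨x, hx⟩, ⟨y, hy⟩⟩ ⟨⟨x', hx'⟩, ⟨y', hy'⟩⟩ h
      have h1 : x * y = x' * y' := congrArg Subtype.val h
      have h2 : x'⁻¹ * x = y' * y⁻¹ := by
        have : x'⁻¹ * x = x'⁻¹ * (x * y) * y⁻¹ := by group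
        rw [this, h1]
        group
      have h3 : x'⁻¹ * x = 1 := by
        apply hinf
        · exact W.mul_mem (W.inv_mem hx') hx
        · rw [h2]
          exact UB.mul_mem hy' (UB.inv_mem hy)
      have hxx : x = x' := by
        have : x = x' * (x'⁻¹ * x) := by group
        rw [this, h3, mul_one]
      have hyy : y = y' := by
        have h4 : y' * y⁻¹ = 1 := by rw [← h2, h3]
        have : y' = (y' * y⁻¹) * y := by group
        rw [this, h4, one_mul]
      subst hxx
      subst hyy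
      rfl
    have := Nat.card_le_card_of_injective ψ hψ
    rwa [Nat.card_prod] at this
  have hU := card_posUnipotent c tc ac hR2
  have hq : 0 < Fintype.card F := Fintype.card_pos
  have hWle : Nat.card W ≤ Fintype.card F ^ LA.length := by
    have h1 : Nat.card W * Fintype.card F ^ LB.length ≤
        Fintype.card F ^ LA.length * Fintype.card F ^ LB.length := by
      calc Nat.card W * Fintype.card F ^ LB.length ≤ Nat.card W * Nat.card UB :=
            Nat.mul_le_mul_left _ hB
        _ ≤ Nat.card (D.posUnipotent F) := hprod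
        _ = Fintype.card F ^ LA.length * Fintype.card F ^ LB.length := by
            rw [hU, ← pow_add, hlen]
    exact Nat.le_of_mul_le_mul_right h1 (pow_pos hq _)
  have hcard : Nat.card W ≤ Nat.card UA := hWle.trans hA
  have heq : UA = W := Subgroup.eq_of_le_of_card_ge hUAW hcard
  rw [heq]
  exact hgW

end GLlevel

variable (D : ChevalleyDatum)
  (hD : D ∈ [chevG2, chevB2, chevD4, chevF4, chevE6, chevE7, chevE8]) {F : Type*} [Field F]

include hD

/- GC-INTER -/
theorem ch_act_inter [Fintype F] : ∀ (m : ↥(D.group F)) (π : ℕ → ℕ), cIsAct D F m π →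
    ∀ g, g ∈ cU D F → m * g * m⁻¹ ∈ cU D F →
      g ∈ Subgroup.closure {g | ∃ r t, D.IsPosRoot r ∧ D.IsPosRoot (π r) ∧ g = xG D F r t} := by
  intro m π hm g hg hg'
  obtain ⟨Ns, w, d, Ts, hT, K, base, stepT, wl, ws, sc, c, tc, gc, pc, ac⟩ :=
    Cfsg.Agent.Lib.Helper18_ChevData5.exists_cert5 D hD
  have hR2 : R2All D F := Cfsg.Agent.Lib.Helper18_ChevComm2.r2_all c pc
  have hact : ActsAs c (m : GL D.Idx F) π := by
    intro r hr
    refine ⟨hm.1.1 r hr, ?_⟩
    obtain ⟨a, ha0, ha⟩ := hm.2 r hr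
    refine ⟨a, ha0, fun t => ?_⟩
    have := congrArg (Subtype.val : ↥(D.group F) → GL D.Idx F) (ha t)
    rw [Cfsg.Agent.Lib.Helper40_ChevGreenXG.xG_eq_xGL D c] at this
    rw [← this]
    show _ = ((m * xG D F r t * m⁻¹ : ↥(D.group F)) : GL D.Idx F)
    rw [Subgroup.coe_mul, Subgroup.coe_mul, Subgroup.coe_inv, Cfsg.Agent.Lib.Helper40_ChevGreenXG.xG_eq_xGL D c]
  have key := inter_le c tc ac gc hR2 (m : GL D.Idx F) π hact (g : GL D.Idx F) hg hg'
  have hcl := Cfsg.Agent.Lib.Helper40_ChevGreenXG.closure_xG D hD (F := F)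
    (fun r => D.IsPosRoot r ∧ D.IsPosRoot (π r))
  simp only [and_assoc] at hcl
  rw [hcl, Subgroup.mem_subgroupOf]
  simpa only [and_assoc] using key

end Cfsg.Agent.Lib.Helper40_GR_GCINTER
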