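/- helper40 (GREEN market, package GC-ROOTS): the elementary facts on positive roots and fundamental reflections. -/
import Mathlib
import Cfsg.Agent.Lib.Helper40_ChevGreenDefs
import Cfsg.Agent.Lib.Helper40_ChevGreenXG
import Cfsg.Agent.Lib.Helper40_GR_GCRANK2
import Cfsg.Agent.Lib.Helper18_ChevData5
import Cfsg.Agent.Lib.Helper18_ChevBruhat
import Cfsg.Agent.Lib.Helper18_ChevJCerts

set_option autoImplicit false

namespace Cfsg.Agent.Lib.Helper40_GR_GCROOTS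

open Cfsg Cfsg.Lie Cfsg.Agent.Lib.Helper40_ChevDZDefs Cfsg.Agent.Lib.Helper40_ChevGreenDefs
open Cfsg.Agent.Lib.Helper18_ChevFast Cfsg.Agent.Lib.Helper18_ChevEngine
  Cfsg.Agent.Lib.Helper18_ChevR1 Cfsg.Agent.Lib.Helper18_ChevN Cfsg.Agent.Lib.Helper18_ChevR4
  Cfsg.Agent.Lib.Helper18_ChevSimple Cfsg.Agent.Lib.Helper18_ChevSimple2 Cfsg.Agent.Lib.Helper18_ChevFacts
  Cfsg.Agent.Lib.Helper18_ChevWeyl Cfsg.Agent.Lib.Helper18_ChevDiag Cfsg.Agent.Lib.Helper18_ChevCar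
  Cfsg.Agent.Lib.Helper18_ChevTorus Cfsg.Agent.Lib.Helper18_ChevGL Cfsg.Agent.Lib.Helper18_ChevComm
  Cfsg.Agent.Lib.Helper18_ChevComm2 Cfsg.Agent.Lib.Helper18_MatTri Cfsg.Agent.Lib.Helper18_ChevTri
  Cfsg.Agent.Lib.Helper18_ChevBorel Cfsg.Agent.Lib.Helper18_ChevAdd Cfsg.Agent.Lib.Helper18_ChevUni
  Cfsg.Agent.Lib.Helper18_ChevSimp Cfsg.Agent.Lib.Helper18_ChevBruhat


variable (D : ChevalleyDatum)
  (hD : D ∈ [chevG2, chevB2, chevD4, chevF4, chevE6, chevE7, chevE8])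

include hD

/- GC-ROOTS -/
theorem ch_roots :
    (∀ r, r < D.nroots → D.IsPosRoot r ∨ D.IsNegRoot r) ∧
    (∀ r, D.IsPosRoot r → ¬ D.IsNegRoot r) ∧
    (∀ i, i < D.rank → D.IsPosRoot (D.simple i)) ∧
    (∀ i, i < D.rank → ∀ r, D.IsPosRoot r → r ≠ D.simple i →
      D.IsPosRoot (D.reflectRoot i r) ∧ D.reflectRoot i r ≠ D.simple i) ∧
    (∀ i, i < D.rank → ∀ r, r < D.nroots → D.reflectRoot i (D.reflectRoot i r) = r) ∧
    (∀ i, i < D.rank → ∀ j, j < D.rank → cAdj D i j → D.simple i ≠ D.simple j) := by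
  obtain ⟨Ns, w, d, Ts, hT, K, base, stepT, wl, ws, sc, c, tc, gc, pc, ac⟩ :=
    Cfsg.Agent.Lib.Helper18_ChevData5.exists_cert5 D hD
  refine ⟨fun r hr => ac.posOrNeg r hr, fun r hp hn => ac.not_pos_and_neg r hp hn,
    fun i hi => tc.simple_pos i hi, fun i hi r hr hne => reflect_pos_of_ne c ac i hi r hr hne,
    fun i hi r hr => c.reflect_reflect i hi r hr, ?_⟩
  intro i hi j hj hadj heq
  have h1 := ac.cf_simple i hi i hi
  have h2 := ac.cf_simple j hj i hi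
  rw [heq, h2, if_pos rfl] at h1
  rw [if_neg hadj.1] at h1
  have := ac.sc_pos
  omega

end Cfsg.Agent.Lib.Helper40_GR_GCROOTS
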