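/- helper40 (GREEN market, package GC-SUB2): `w_i(p_j)` lies in the rank 2 subsystem spanned by `p_i`, `p_j`. -/
import Mathlib
import Cfsg.Agent.Lib.Helper40_ChevGreenDefs
import Cfsg.Agent.Lib.Helper40_GR_GCRANK2
import Cfsg.Agent.Lib.Helper18_ChevData5
import Cfsg.Agent.Lib.Helper18_ChevBruhat

set_option autoImplicit false

namespace Cfsg.Agent.Lib.Helper40_GR_GCSUB2

open Cfsg Cfsg.Lie Cfsg.Agent.Lib.Helper40_ChevDZDefs Cfsg.Agent.Lib.Helper40_ChevGreenDefs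
open Cfsg.Agent.Lib.Helper18_ChevFacts Cfsg.Agent.Lib.Helper18_ChevWeyl Cfsg.Agent.Lib.Helper18_ChevAdd
  Cfsg.Agent.Lib.Helper18_ChevBruhat Cfsg.Agent.Lib.Helper40_GR_GCRANK2

variable (D : ChevalleyDatum)
  (hD : D ∈ [chevG2, chevB2, chevD4, chevF4, chevE6, chevE7, chevE8])

include hD

/- GC-SUB2 -/
theorem ch_refl_sub2 : ∀ i, i < D.rank → ∀ j, j < D.rank →
    cSub2 D i j (D.reflectRoot i (D.simple j)) := by
  intro i hi j hj
  obtain ⟨Ns, w, d, Ts, hT, K, base, stepT, wl, ws, sc, c, tc, gc, pc, ac⟩ :=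
    Cfsg.Agent.Lib.Helper18_ChevData5.exists_cert5 D hD
  have hsj := (ac.simple j hj).1
  have hlt := c.reflect_lt i hi _ hsj
  refine ⟨hlt, ?_⟩
  intro k hk hkij
  have hki : k ≠ i := fun h => hkij (Or.inl h)
  have hkj : k ≠ j := fun h => hkij (Or.inr h)
  show cor D (D.reflectRoot i (D.simple j)) k = 0
  rw [ac.cor_zero_iff _ hlt k hk, cf_eq_grF, grF_reflect c i hi _ _ hsj, ← cf_eq_grF, ← cf_eq_grF,
    ac.cf_simple j hj k hk, ac.cf_simple i hi k hk, if_neg hkj, if_neg hki]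
  ring

end Cfsg.Agent.Lib.Helper40_GR_GCSUB2
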