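import Mathlib
import Cfsg.Agent.Lib.Helper40_GreenDefs

/-!
GREEN market (helper40, target S2441), package GA-NF (helper65): `upi_eq` (`U_π = U ⊓ m⁻¹ U m`) and
`green_nf` (normal form of a member of a Green family).
-/

set_option autoImplicit false

namespace Cfsg.Agent.Lib.Helper65_GR_GANF

open Cfsg.Agent.Lib.Helper40_GreenDefs

variable {G : Type*} [Group G] {F : Type*} [Field F]

/-- membership in a conjugate subgroup, elementwise -/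
lemma mem_map_conj (H : Subgroup G) (g y : G) :
    y ∈ H.map (MulAut.conj g).toMonoidHom ↔ g⁻¹ * y * g ∈ H := by
  rw [Subgroup.mem_map]
  constructor
  · rintro ⟨x, hx, rfl⟩
    simp only [MulEquiv.coe_toMonoidHom, MulAut.conj_apply]
    have : g⁻¹ * (g * x * g⁻¹) * g = x := by group
    rw [this]
    exact hx
  · intro h
    refine ⟨g⁻¹ * y * g, h, ?_⟩
    simp only [MulEquiv.coe_toMonoidHom, MulAut.conj_apply]
    group

lemma conj_mem_iff (H : Subgroup G) {u : G} (hu : u ∈ H) (y : G) : u * y * u⁻¹ ∈ H ↔ y ∈ H := by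
  rw [Subgroup.mul_mem_cancel_right H (H.inv_mem hu), Subgroup.mul_mem_cancel_left H hu]

lemma conj_mem_iff' (H : Subgroup G) {u : G} (hu : u ∈ H) (y : G) : u⁻¹ * y * u ∈ H ↔ y ∈ H := by
  rw [Subgroup.mul_mem_cancel_right H hu, Subgroup.mul_mem_cancel_left H (H.inv_mem hu)]

theorem upi_eq (Gd : GreenData G F) (m : G) (π : ℕ → ℕ) (h : Gd.IsAct m π) :
    Gd.Upi π = Gd.U ⊓ Gd.U.map (MulAut.conj m⁻¹).toMonoidHom := by
  apply le_antisymm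
  · unfold GreenData.Upi
    rw [Subgroup.closure_le]
    rintro g ⟨r, t, hr, hπr, rfl⟩
    refine Subgroup.mem_inf.mpr ⟨Gd.x_mem r hr t, ?_⟩
    show Gd.x r t ∈ Gd.U.map (MulAut.conj m⁻¹).toMonoidHom
    rw [mem_map_conj, inv_inv]
    obtain ⟨a, -, ha⟩ := Gd.act_conj m π h r (Gd.pos_lt r hr)
    rw [ha t]
    exact Gd.x_mem (π r) hπr _
  · intro g hg
    obtain ⟨hgU, hg2⟩ := Subgroup.mem_inf.mp hg
    rw [mem_map_conj, inv_inv] at hg2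
    exact Gd.act_inter m π h g hgU hg2

theorem green_nf (Gd : GreenData G F) (𝒟 : Set (Subgroup G)) (h𝒟 : GreenFamily Gd 𝒟) :
    ∀ E ∈ 𝒟, ∃ u ∈ Gd.U, ∃ E₀ ∈ 𝒟, ∃ (m : G) (π : ℕ → ℕ),
      E = E₀.map (MulAut.conj u).toMonoidHom ∧ Gd.IsNF E₀ m π := by
  intro E hE
  obtain ⟨x, hxc, hxE⟩ := h𝒟.green E hE
  obtain ⟨u, hu, n, hn, u', hu', hx⟩ := Gd.bruhat x
  have hmN : n⁻¹ ∈ Gd.N := Gd.N.inv_mem hn
  obtain ⟨π, hπ⟩ := Gd.act_exists n⁻¹ hmN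
  have hEU : E ≤ Gd.U := h𝒟.le E hE
  -- `E₀ = u⁻¹ E u`
  have hE₀mem : ∀ y, y ∈ E.map (MulAut.conj u⁻¹).toMonoidHom ↔ u * y * u⁻¹ ∈ E := by
    intro y
    rw [mem_map_conj, inv_inv]
  have hE₀U : E.map (MulAut.conj u⁻¹).toMonoidHom ≤ Gd.U := by
    intro y hy
    rw [hE₀mem] at hy
    exact (conj_mem_iff Gd.U hu y).mp (hEU hy)
  have hE₀𝒟 : E.map (MulAut.conj u⁻¹).toMonoidHom ∈ 𝒟 := h𝒟.conj E hE u⁻¹ hE₀U
  have hEeq : E = (E.map (MulAut.conj u⁻¹).toMonoidHom).map (MulAut.conj u).toMonoidHom := by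
    ext y
    rw [mem_map_conj, hE₀mem]
    have : u * (u⁻¹ * y * u) * u⁻¹ = y := by group
    rw [this]
  -- `E₀ = U_π`
  have hE₀π : E.map (MulAut.conj u⁻¹).toMonoidHom = Gd.Upi π := by
    rw [upi_eq Gd n⁻¹ π hπ]
    ext y
    rw [hE₀mem, ← hxE, Subgroup.mem_inf, Subgroup.mem_inf, mem_map_conj, mem_map_conj, inv_inv,
      inv_inv, conj_mem_iff Gd.U hu]
    have h1 : x⁻¹ * (u * y * u⁻¹) * x = u'⁻¹ * (n⁻¹ * y * n) * u' := by
      rw [hx]; group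
    rw [h1, conj_mem_iff' Gd.U hu']
  refine ⟨u, hu, E.map (MulAut.conj u⁻¹).toMonoidHom, hE₀𝒟, n⁻¹, π, hEeq, hπ, hE₀π, ?_⟩
  -- (★)
  intro r hr hπr
  have heE₀ : Gd.x r 1 ∈ E.map (MulAut.conj u⁻¹).toMonoidHom := by
    rw [hE₀π]
    exact Subgroup.subset_closure ⟨r, 1, hr, hπr, rfl⟩
  rw [hE₀mem] at heE₀
  have hcomm := hxc _ heE₀
  obtain ⟨a, -, ha⟩ := Gd.act_conj n⁻¹ π hπ r (Gd.pos_lt r hr)
  have hv : u' * u ∈ Gd.U := Gd.U.mul_mem hu' hu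
  have hkey : (u' * u) * Gd.x r 1 * (u' * u)⁻¹ = Gd.x (π r) (a * 1) := by
    rw [← ha 1, inv_inv]
    -- from `x * (u e u⁻¹) = (u e u⁻¹) * x` with `x = u n u'`
    rw [hx] at hcomm
    have h2 : n * (u' * u * Gd.x r 1) = Gd.x r 1 * n * (u' * u) := by
      have h3 : u⁻¹ * (u * n * u' * (u * Gd.x r 1 * u⁻¹)) * u =
          u⁻¹ * (u * Gd.x r 1 * u⁻¹ * (u * n * u')) * u := by rw [hcomm]
      have e1 : u⁻¹ * (u * n * u' * (u * Gd.x r 1 * u⁻¹)) * u = n * (u' * u * Gd.x r 1) := by group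
      have e2 : u⁻¹ * (u * Gd.x r 1 * u⁻¹ * (u * n * u')) * u = Gd.x r 1 * n * (u' * u) := by
        group
      rw [e1, e2] at h3
      exact h3
    have h4 : u' * u * Gd.x r 1 = n⁻¹ * (Gd.x r 1 * n * (u' * u)) := by
      rw [← h2]; group
    rw [h4]
    group
  exact (Gd.rigid (u' * u) hv r (π r) hr hπr (a * 1) hkey).symm

end Cfsg.Agent.Lib.Helper65_GR_GANF
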