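import Mathlib
import Cfsg.Agent.Lib.Helper40_GreenDefs

/-!
# GREEN market (helper40, target S2441), package GA-MIXA: `green_mixA`

Step 3 (first half) of the proof: if `π` makes the `i`-th fundamental root negative and keeps the adjacent `j`-th one
positive, then the conjugate of `E = U_π` by a representative `g` of the `i`-th fundamental reflection lies in
`U`, in `U_i` and in `U_j`, and contains a non-trivial root element of the root `w_i(α_j)`.
-/

set_option autoImplicit false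

namespace Cfsg.Agent.Lib.Helper69_GR_GAMIXA

open Cfsg.Agent.Lib.Helper40_GreenDefs

variable {G : Type*} [Group G] {F : Type*} [Field F]

theorem conj_apply' (g e : G) : (MulAut.conj g).toMonoidHom e = g * e * g⁻¹ := by
  rw [MulEquiv.coe_toMonoidHom, MulAut.conj_apply]

theorem green_mixA (Gd : GreenData G F) (E : Subgroup G) (m : G) (π : ℕ → ℕ) (h : Gd.IsNF E m π)
    (i j : ℕ) (hi : i < Gd.rank) (hj : j < Gd.rank) (hadj : Gd.adj i j)
    (hni : ¬ Gd.pos (π (Gd.simple i))) (hpj : Gd.pos (π (Gd.simple j))) :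
    ∃ g : G, E.map (MulAut.conj g).toMonoidHom ≤ Gd.U ∧
      E.map (MulAut.conj g).toMonoidHom ≤ Gd.Ua i ∧
      E.map (MulAut.conj g).toMonoidHom ≤ Gd.Ua j ∧
      ∃ a : F, a ≠ 0 ∧ Gd.x (Gd.refl i (Gd.simple j)) a ∈ E.map (MulAut.conj g).toMonoidHom := by
  obtain ⟨hact, hE, hfix⟩ := h
  obtain ⟨g, hg⟩ := Gd.refl_act i hi
  -- the image of a generator
  have hgen : ∀ r t, Gd.pos r → Gd.pos (π r) →
      ∃ b : F, (MulAut.conj g).toMonoidHom (Gd.x r t) = Gd.x (Gd.refl i r) b ∧
        Gd.pos (Gd.refl i r) ∧ Gd.refl i r ≠ Gd.simple i ∧ Gd.refl i r ≠ Gd.simple j := by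
    intro r t hr hπr
    have hri : r ≠ Gd.simple i := by
      rintro rfl
      exact hni hπr
    obtain ⟨hp, hne⟩ := Gd.refl_pos i hi r hr hri
    obtain ⟨a, ha0, ha⟩ := Gd.act_conj g (Gd.refl i) hg r (Gd.pos_lt r hr)
    refine ⟨a * t, ?_, hp, hne, ?_⟩
    · rw [conj_apply', ha t]
    · intro hrj
      have hrr : Gd.refl i (Gd.refl i r) = r := Gd.refl_refl i hi r (Gd.pos_lt r hr)
      rw [hrj] at hrr
      have h1 : π r = r := hfix r hr hπr
      rw [← hrr] at h1
      have h2 : π (Gd.simple j) = Gd.simple j := hfix _ (Gd.simple_pos j hj) hpj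
      have h3 := Gd.act_str m π hact i hi j hj hadj h2 h1
      apply hni
      rw [h3]
      exact Gd.simple_pos i hi
  -- a general inclusion criterion
  have hle : ∀ K : Subgroup G, (∀ r b, Gd.pos r → r ≠ Gd.simple i → r ≠ Gd.simple j → Gd.x r b ∈ K) →
      E.map (MulAut.conj g).toMonoidHom ≤ K := by
    intro K hK
    rw [Subgroup.map_le_iff_le_comap, hE]
    unfold GreenData.Upi
    rw [Subgroup.closure_le]
    rintro e ⟨r, t, hr, hπr, rfl⟩
    obtain ⟨b, hb, hp, hne, hnj⟩ := hgen r t hr hπr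
    show (MulAut.conj g).toMonoidHom (Gd.x r t) ∈ K
    rw [hb]
    exact hK _ b hp hne hnj
  refine ⟨g, ?_, ?_, ?_, ?_⟩
  · exact hle _ (fun r b hr _ _ => Gd.x_mem r hr b)
  · apply hle
    intro r b hr hri _
    exact Subgroup.subset_closure ⟨r, b, hr, hri, rfl⟩
  · apply hle
    intro r b hr _ hrj
    exact Subgroup.subset_closure ⟨r, b, hr, hrj, rfl⟩
  · obtain ⟨a, ha0, ha⟩ := Gd.act_conj g (Gd.refl i) hg (Gd.simple j)
      (Gd.pos_lt _ (Gd.simple_pos j hj))
    refine ⟨a * 1, by rw [mul_one]; exact ha0, ?_⟩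
    have hmem : Gd.x (Gd.simple j) 1 ∈ E := by
      rw [hE]
      exact Subgroup.subset_closure ⟨Gd.simple j, 1, Gd.simple_pos j hj, hpj, rfl⟩
    have := Subgroup.mem_map_of_mem (MulAut.conj g).toMonoidHom hmem
    rw [conj_apply', ha 1] at this
    exact this

end Cfsg.Agent.Lib.Helper69_GR_GAMIXA
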