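import Mathlib
import Cfsg.Agent.Lib.Helper40_GreenDefs

set_option autoImplicit false

/-!
Green market (helper40, target S2441), package GA-MIXB: a normal form `E₀ = U_π` whose conjugate
by `u ∈ U` lies in `U_i` and `U_j` has that conjugate inside `U_{ij}`.  (helper89)
-/

namespace Cfsg.Agent.Lib.Helper89_GR_GAMIXB

open Cfsg.Agent.Lib.Helper40_GreenDefs

variable {G : Type*} [Group G] {F : Type*} [Field F]

theorem mem_map_conj {E : Subgroup G} {u g : G} :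
    g ∈ E.map (MulAut.conj u).toMonoidHom ↔ ∃ e ∈ E, u * e * u⁻¹ = g := by
  rw [Subgroup.mem_map]
  constructor
  · rintro ⟨e, he, rfl⟩
    exact ⟨e, he, rfl⟩
  · rintro ⟨e, he, rfl⟩
    exact ⟨e, he, rfl⟩

/-- pulling back along the conjugation by `u ∈ U` -/
theorem le_Ua_of_conj (Gd : GreenData G F) {u : G} (hu : u ∈ Gd.U) {E₀ : Subgroup G} {i : ℕ}
    (hi : i < Gd.rank) (h1 : E₀.map (MulAut.conj u).toMonoidHom ≤ Gd.Ua i) : E₀ ≤ Gd.Ua i := by
  intro e he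
  have h2 : u * e * u⁻¹ ∈ Gd.Ua i := h1 (mem_map_conj.mpr ⟨e, he, rfl⟩)
  have h3 := Gd.ua_normal i hi u⁻¹ (Gd.U.inv_mem hu) (u * e * u⁻¹) h2
  have h4 : u⁻¹ * (u * e * u⁻¹) * u⁻¹⁻¹ = e := by group
  rw [h4] at h3
  exact h3

/-- a normal form inside `U_i` sends the `i`-th fundamental root to a negative root -/
theorem neg_of_le_Ua (Gd : GreenData G F) {E₀ : Subgroup G} {m : G} {π : ℕ → ℕ}
    (h : Gd.IsNF E₀ m π) {i : ℕ} (hi : i < Gd.rank) (hle : E₀ ≤ Gd.Ua i) :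
    Gd.neg (π (Gd.simple i)) := by
  obtain ⟨hact, hE, -⟩ := h
  have hsp := Gd.simple_pos i hi
  have hnp : ¬ Gd.pos (π (Gd.simple i)) := by
    intro hp
    have h1 : Gd.x (Gd.simple i) 1 ∈ E₀ := by
      rw [hE]
      exact Subgroup.subset_closure ⟨Gd.simple i, 1, hsp, hp, rfl⟩
    have h2 := Gd.ua_compl i hi 1 (hle h1)
    exact one_ne_zero h2
  rcases Gd.pos_or_neg _ (Gd.act_lt m π hact _ (Gd.pos_lt _ hsp)) with h1 | h1
  · exact absurd h1 hnp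
  · exact h1

/-- **GA-MIXB**. -/
theorem green_mixB (Gd : GreenData G F) (u : G) (hu : u ∈ Gd.U) (E₀ : Subgroup G) (m : G) (π : ℕ → ℕ)
    (h : Gd.IsNF E₀ m π) (i j : ℕ) (hi : i < Gd.rank) (hj : j < Gd.rank)
    (h1 : E₀.map (MulAut.conj u).toMonoidHom ≤ Gd.Ua i)
    (h2 : E₀.map (MulAut.conj u).toMonoidHom ≤ Gd.Ua j) :
    E₀.map (MulAut.conj u).toMonoidHom ≤ Gd.Uij i j := by
  have hni := neg_of_le_Ua Gd h hi (le_Ua_of_conj Gd hu hi h1)
  have hnj := neg_of_le_Ua Gd h hj (le_Ua_of_conj Gd hu hj h2)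
  obtain ⟨hact, hE, -⟩ := h
  have h3 := Gd.act_rank2 m π hact i hi j hj hni hnj
  have hle : E₀ ≤ Gd.Uij i j := by
    rw [hE]
    unfold GreenData.Upi GreenData.Uij
    rw [Subgroup.closure_le]
    rintro g ⟨r, t, hr, hπr, rfl⟩
    apply Subgroup.subset_closure
    refine ⟨r, t, hr, ?_, rfl⟩
    intro hs
    exact Gd.not_pos_neg _ hπr (h3 r hr hs)
  intro g hg
  obtain ⟨e, he, rfl⟩ := mem_map_conj.mp hg
  exact Gd.uij_normal i hi j hj u hu e (hle he)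

end Cfsg.Agent.Lib.Helper89_GR_GAMIXB
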