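import Mathlib
import Cfsg.Prelude.Def_Characters
import Cfsg.Prelude.Def_ParabolicCharacters
import Cfsg.Prelude.Def_LinearParabolics
import Cfsg.Prelude.Def_Blocks
import Cfsg.Prelude.Def_Solvable
import Cfsg.Agent.Lib.Helper40_DefZeroDefs
import Cfsg.Agent.Lib.Helper40_SLBNDefs
import Cfsg.Agent.Lib.Helper40_SLBNDefs2
import Cfsg.Agent.Lib.Helper80_CharBasic

set_option autoImplicit false

/-!
DEFZERO market, wave 2 (architect helper40), package BLKCONJ: a conjugate of a defect group of a block is a defect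
group of that block.
-/

namespace Cfsg.Agent.Lib.Helper99_DZ_BLKCONJ

open Cfsg Cfsg.Agent.Lib.Helper40_DefZeroDefs Cfsg.Agent.Lib.Helper40_SLBNDefs
open Matrix
open scoped MatrixGroups

/-- The centralizer of a conjugate is the conjugate of the centralizer. -/
theorem aux_centralizer_conj {G : Type*} [Group G] (g x : G) :
    (Subgroup.centralizer ({g} : Set G)).map (MulAut.conj x).toMonoidHom =
      Subgroup.centralizer ({x * g * x⁻¹} : Set G) := by
  ext y
  rw [Subgroup.mem_map, Subgroup.mem_centralizer_singleton_iff]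
  constructor
  · rintro ⟨c, hc, rfl⟩
    rw [Subgroup.mem_centralizer_singleton_iff] at hc
    show x * c * x⁻¹ * (x * g * x⁻¹) = x * g * x⁻¹ * (x * c * x⁻¹)
    have h1 : x * c * x⁻¹ * (x * g * x⁻¹) = x * (c * g) * x⁻¹ := by group
    have h2 : x * g * x⁻¹ * (x * c * x⁻¹) = x * (g * c) * x⁻¹ := by group
    rw [h1, h2, hc]
  · intro hy
    refine ⟨x⁻¹ * y * x, ?_, ?_⟩
    · rw [Subgroup.mem_centralizer_singleton_iff]
      have h1 : x⁻¹ * y * x * g = x⁻¹ * (y * (x * g * x⁻¹)) * x := by group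
      have h2 : g * (x⁻¹ * y * x) = x⁻¹ * (x * g * x⁻¹ * y) * x := by group
      rw [h1, h2, hy]
    · show x * (x⁻¹ * y * x) * x⁻¹ = y
      group

/-- Transport of a Sylow subgroup of a subgroup `C` along an automorphism of the ambient group. -/
theorem aux_sylow_map {G : Type*} [Group G] (p : ℕ) [Fact p.Prime] (e : G ≃* G) (C C' : Subgroup G)
    (hC : C.map e.toMonoidHom = C') (P : Sylow p C) :
    ∃ P' : Sylow p C', ((P : Subgroup C).map C.subtype).map e.toMonoidHom =
      (P' : Subgroup C').map C'.subtype := by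
  subst hC
  let ε : C ≃* C.map e.toMonoidHom := e.subgroupMap C
  have hε : ∀ c : C, ((ε c : C.map e.toMonoidHom) : G) = e c := fun c => rfl
  let P' : Sylow p (C.map e.toMonoidHom) :=
    P.comapOfInjective ε.symm.toMonoidHom ε.symm.injective (by
      intro c _
      exact ⟨ε c, ε.symm_apply_apply c⟩)
  have hP' : (P' : Subgroup (C.map e.toMonoidHom)) = (P : Subgroup C).comap ε.symm.toMonoidHom :=
    Sylow.coe_comapOfInjective _ _ _ _
  refine ⟨P', ?_⟩
  ext y
  constructor
  · rintro ⟨z, ⟨c, hc, rfl⟩, rfl⟩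
    refine ⟨ε c, ?_, rfl⟩
    rw [SetLike.mem_coe, hP', Subgroup.mem_comap]
    show ε.symm (ε c) ∈ (P : Subgroup C)
    rw [ε.symm_apply_apply]
    exact hc
  · rintro ⟨c', hc', rfl⟩
    rw [SetLike.mem_coe, hP', Subgroup.mem_comap] at hc'
    refine ⟨(ε.symm c' : C), ⟨ε.symm c', hc', rfl⟩, ?_⟩
    show e ((ε.symm c' : C) : G) = (c' : G)
    rw [← hε, ε.apply_symm_apply]

variable {G : Type*} [Group G] [Finite G] (p : ℕ) [Fact p.Prime] (M : Ideal Cfsg.AlgInt)

/-- The index of the centralizer is invariant under conjugation. -/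
theorem aux_index_centralizer_conj {G : Type*} [Group G] (g x : G) :
    (Subgroup.centralizer ({x * g * x⁻¹} : Set G)).index = (Subgroup.centralizer ({g} : Set G)).index := by
  rw [← aux_centralizer_conj g x]
  exact Subgroup.index_map_equiv _ (MulAut.conj x)

theorem aux_blockCoeff_conj {G : Type*} [Group G] (B : Set (Cfsg.IrrCharacter G)) (g x : G) :
    Cfsg.blockCoeff B (x * g * x⁻¹) = Cfsg.blockCoeff B g := by
  unfold Cfsg.blockCoeff
  congr 1
  apply finsum_congr
  intro χ
  apply finsum_congr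
  intro _
  rw [Cfsg.Agent.Lib.Helper80_CharBasic.irr_conj]

theorem aux_centralChar_conj {G : Type*} [Group G] (χ : Cfsg.IrrCharacter G) (g x : G) :
    Cfsg.centralChar (χ : G → ℂ) (x * g * x⁻¹) = Cfsg.centralChar (χ : G → ℂ) g := by
  unfold Cfsg.centralChar
  rw [aux_index_centralizer_conj, Cfsg.Agent.Lib.Helper80_CharBasic.irr_conj]

/-- BLKCONJ. -/
theorem blk_conj (B : Set (Cfsg.IrrCharacter G)) (D : Subgroup G)
    (hD : Cfsg.IsDefectGroup p M B D) (x : G) :
    Cfsg.IsDefectGroup p M B (D.map (MulAut.conj x).toMonoidHom) := by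
  obtain ⟨g, ⟨h1, h2, h3⟩, P, hP⟩ := hD
  refine ⟨x * g * x⁻¹, ⟨?_, ?_, ?_⟩, ?_⟩
  · rw [aux_blockCoeff_conj]
    exact h1
  · rw [aux_blockCoeff_conj]
    exact h2
  · intro χ hχ
    rw [aux_centralChar_conj]
    exact h3 χ hχ
  · obtain ⟨P', hP'⟩ := aux_sylow_map p (MulAut.conj x) _ _ (aux_centralizer_conj g x) P
    exact ⟨P', by rw [hP, hP']⟩

end Cfsg.Agent.Lib.Helper99_DZ_BLKCONJ
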