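import Mathlib
import Cfsg.Agent.Lib.Helper78_AugNilp
import Cfsg.Agent.Lib.Helper78_CentralNil
import Cfsg.Agent.Lib.Helper78_LocalRing
import Cfsg.Agent.Lib.Helper78_Osima

/-!
# A central idempotent does not vanish modulo `M` on every coset of a `p`-subgroup (helper79)

Let `a : G → ℂ` be a class function with local-integer values at `M` (a maximal ideal over `p`),
idempotent for convolution and not identically in the local ideal.  Then for every `p`-subgroup
`P` of `G` some coset sum `∑ u ∈ P, a (x * u)` is outside the local ideal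
(`exists_coset_sum_not_mem`).  This is the statement `e · P⁺ ≠ 0` in the group algebra over the
residue field; the proof is the usual one through the nilpotency of the augmentation ideal of
`P` (from `Helper78_AugNilp`), transported to functions by the action `act`.
-/

set_option autoImplicit false

namespace Cfsg.Agent.Lib.Helper79_SylowCoset

open Cfsg Cfsg.Agent.Lib.Helper78_LocalRing Cfsg.Agent.Lib.Helper78_Osima
  Cfsg.Agent.Lib.Helper78_AugNilp Cfsg.Agent.Lib.Helper78_CentralNil

universe u
variable {G : Type u} [Group G] [Fintype G] {M : Ideal AlgInt} {p : ℕ}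

/-- Right action of an element of the integral group ring on a complex function on `G`
(right convolution). -/
noncomputable def act (f : G → ℂ) (x : MonoidAlgebra ℤ G) : G → ℂ :=
  fun g => ∑ h : G, f (g * h⁻¹) * ((x.coeff h : ℤ) : ℂ)

theorem act_one (f : G → ℂ) : act f 1 = f := by
  classical
  funext g
  unfold act
  rw [Finset.sum_eq_single 1]
  · simp [MonoidAlgebra.one_def]
  · intro h _ hh
    simp [MonoidAlgebra.one_def, hh]
  · simp

omit [Fintype G] in
theorem coeff_mul_aug (x : MonoidAlgebra ℤ G) (u h : G) :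
    (x * aug ℤ u).coeff h = x.coeff (h * u⁻¹) - x.coeff h := by
  unfold aug
  rw [mul_sub, mul_one, MonoidAlgebra.of_apply]
  simp

theorem act_mul_aug (f : G → ℂ) (x : MonoidAlgebra ℤ G) (u : G) (g : G) :
    act f (x * aug ℤ u) g = act f x (g * u⁻¹) - act f x g := by
  classical
  unfold act
  have h1 : ∑ h : G, f (g * u⁻¹ * h⁻¹) * ((x.coeff h : ℤ) : ℂ) =
      ∑ h : G, f (g * h⁻¹) * ((x.coeff (h * u⁻¹) : ℤ) : ℂ) := by
    refine (Fintype.sum_equiv (Equiv.mulRight u⁻¹) _ _ ?_).symm
    intro h
    simp [mul_assoc]
  rw [h1, ← Finset.sum_sub_distrib]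
  refine Finset.sum_congr rfl fun h _ => ?_
  rw [coeff_mul_aug]
  push_cast
  ring

theorem act_smul (f : G → ℂ) (n : ℤ) (z : MonoidAlgebra ℤ G) (g : G) :
    act f (n • z) g = (n : ℂ) * act f z g := by
  unfold act
  rw [Finset.mul_sum]
  refine Finset.sum_congr rfl fun h _ => ?_
  rw [MonoidAlgebra.coeff_smul_apply, smul_eq_mul]
  push_cast
  ring

theorem act_memLocalRing (hM : M.IsPrime) {f : G → ℂ} (hf : ∀ g, MemLocalRing M (f g))
    (x : MonoidAlgebra ℤ G) (g : G) : MemLocalRing M (act f x g) := by
  unfold act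
  refine memLocalRing_sum hM _ _ fun h _ => ?_
  exact memLocalRing_mul hM (hf _) (memLocalRing_intCast hM _)

theorem conv_act (a b : G → ℂ) (x : MonoidAlgebra ℤ G) :
    conv a (act b x) = act (conv a b) x := by
  funext g
  unfold conv act
  simp only [Finset.mul_sum, Finset.sum_mul]
  rw [Finset.sum_comm]
  refine Finset.sum_congr rfl fun h _ => ?_
  refine Finset.sum_congr rfl fun y _ => ?_
  rw [mul_assoc, mul_assoc]

/-- Nilpotency of the augmentation ideal of a `p`-subgroup, over `ℤ`: long products of
augmentation elements are divisible by `p`. -/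
theorem exists_prod_aug_smul [Fact p.Prime] (P : Subgroup G) (hP : IsPGroup p P) :
    ∃ m, ∀ l : List G, l.length = m → (∀ q ∈ l, q ∈ P) →
      ∃ z : MonoidAlgebra ℤ G, (l.map (aug ℤ)).prod = (p : ℤ) • z := by
  obtain ⟨m, hm⟩ := exists_prod_aug_eq_zero_subgroup p (ZMod p) P hP
  refine ⟨m, fun l hl hlP => ?_⟩
  apply exists_eq_smul_of_map_eq_zero p
  rw [map_list_prod, List.map_map]
  have hfun : (⇑(MonoidAlgebra.mapRingHom G (Int.castRingHom (ZMod p))) ∘ aug ℤ) =
      aug (ZMod p) := by
    funext q
    simp [aug, MonoidAlgebra.of_apply]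
  rw [hfun]
  exact hm l hl hlP

/-- Decomposition of a sum over `G` along the left cosets of a subgroup. -/
theorem sum_eq_sum_quotient (P : Subgroup G) [Fintype (G ⧸ P)] [Fintype P] (F : G → ℂ) :
    ∑ y : G, F y = ∑ c : G ⧸ P, ∑ u : P, F (Quotient.out c * (u : G)) := by
  classical
  rw [← Fintype.sum_prod_type']
  refine (Fintype.sum_bijective (fun cu : (G ⧸ P) × P => Quotient.out cu.1 * (cu.2 : G)) ?_ _ _
    (fun _ => rfl)).symm
  constructor
  · rintro ⟨c, u⟩ ⟨c', u'⟩ h
    simp only at h
    have h1 : ((Quotient.out c * (u : G) : G) : G ⧸ P) = c := by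
      rw [QuotientGroup.mk_mul_of_mem _ u.2]
      exact QuotientGroup.out_eq' c
    have h2 : ((Quotient.out c' * (u' : G) : G) : G ⧸ P) = c' := by
      rw [QuotientGroup.mk_mul_of_mem _ u'.2]
      exact QuotientGroup.out_eq' c'
    have hc : c = c' := by rw [← h1, ← h2, h]
    subst hc
    have hu : (u : G) = u' := mul_left_cancel h
    rw [Prod.mk.injEq]
    exact ⟨rfl, Subtype.ext hu⟩
  · intro y
    have hmem : (Quotient.out (y : G ⧸ P))⁻¹ * y ∈ P := by
      rw [← QuotientGroup.eq]
      exact QuotientGroup.out_eq' _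
    refine ⟨((y : G ⧸ P), ⟨_, hmem⟩), ?_⟩
    simp

/-- If all coset sums of the central function `a` along `P` are in the local ideal, then a
function fixed by left convolution with `a` and right-`P`-invariant modulo the local ideal has
all its values in the local ideal. -/
theorem memLocalIdeal_of_invariant (hM : M.IsPrime) (P : Subgroup G) [Fintype P] {a : G → ℂ}
    (hac : IsClassFunction G a) (haR : ∀ g, MemLocalRing M (a g))
    (hH0 : ∀ x, MemLocalIdeal M (∑ u : P, a (x * (u : G))))
    {f : G → ℂ} (hfR : ∀ g, MemLocalRing M (f g)) (haf : conv a f = f)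
    (hinv : ∀ u ∈ P, ∀ g, MemLocalIdeal M (f (g * u⁻¹) - f g)) (g : G) :
    MemLocalIdeal M (f g) := by
  classical
  have h0 : f g = ∑ y : G, a (g * y⁻¹) * f y := by
    conv_lhs => rw [← haf]
    unfold conv
    refine Fintype.sum_equiv ((Equiv.inv G).trans (Equiv.mulRight g)) _ _ ?_
    intro x
    simp
  have : Fintype (G ⧸ P) := Fintype.ofFinite _
  rw [h0, sum_eq_sum_quotient P]
  refine memLocalIdeal_sum hM _ _ fun c _ => ?_
  set t : G := Quotient.out c with ht
  have hsplit : ∑ u : P, a (g * (t * (u : G))⁻¹) * f (t * (u : G)) =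
      ∑ u : P, a (g * (t * (u : G))⁻¹) * (f (t * (u : G)) - f t) +
        f t * ∑ u : P, a (g * (t * (u : G))⁻¹) := by
    rw [Finset.mul_sum, ← Finset.sum_add_distrib]
    refine Finset.sum_congr rfl fun u _ => ?_
    ring
  rw [hsplit]
  refine memLocalIdeal_add hM ?_ ?_
  · refine memLocalIdeal_sum hM _ _ fun u _ => ?_
    refine memLocalIdeal_mul_left hM (haR _) ?_
    have := hinv (u : G)⁻¹ (P.inv_mem u.2) t
    rwa [inv_inv] at this
  · refine memLocalIdeal_mul_left hM (hfR _) ?_
    have h1 : ∑ u : P, a (g * (t * (u : G))⁻¹) = ∑ u : P, a (t⁻¹ * g * (u : G)) := by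
      refine Fintype.sum_equiv (Equiv.inv P) _ _ ?_
      intro u
      have := hac (t⁻¹ * g * (u : G)⁻¹) t
      show a (g * (t * (u : G))⁻¹) = a (t⁻¹ * g * ((u⁻¹ : P) : G))
      rw [Subgroup.coe_inv, ← this]
      congr 1
      group
    rw [h1]
    exact hH0 _

/-- **`e · P⁺ ≠ 0`**: a central convolution idempotent with local-integer values, not identically
in the local ideal, has a coset sum along any `p`-subgroup `P` outside the local ideal. -/
theorem exists_coset_sum_not_mem [Fact p.Prime] (hM : IsPModular p M) (P : Subgroup G)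
    [Fintype P] (hP : IsPGroup p P) {a : G → ℂ} (hac : IsClassFunction G a)
    (haR : ∀ g, MemLocalRing M (a g)) (haa : conv a a = a)
    (hne : ∃ g, ¬ MemLocalIdeal M (a g)) :
    ∃ x : G, ¬ MemLocalIdeal M (∑ u : P, a (x * (u : G))) := by
  classical
  have hMp := isPrime_of_isPModular hM
  by_contra hcon
  push Not at hcon
  obtain ⟨m, hm⟩ := exists_prod_aug_smul (p := p) P hP
  have key : ∀ j : ℕ, j ≤ m → ∀ l : List G, l.length = m - j → (∀ q ∈ l, q ∈ P) →
      ∀ g, MemLocalIdeal M (act a (l.map (aug ℤ)).prod g) := by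
    intro j
    induction j with
    | zero =>
      intro _ l hl hlP g
      obtain ⟨z, hz⟩ := hm l (by simpa using hl) hlP
      rw [hz, act_smul]
      refine memLocalIdeal_mul_right hMp ?_ (act_memLocalRing hMp haR z g)
      have := (memLocalIdeal_intCast_iff hM (p : ℤ)).2 (dvd_refl _)
      simpa using this
    | succ j ih =>
      intro hj l hl hlP g
      set f : G → ℂ := act a (l.map (aug ℤ)).prod with hf
      refine memLocalIdeal_of_invariant hMp P hac haR hcon
        (fun g => act_memLocalRing hMp haR _ g) ?_ ?_ g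
      · show conv a (act a (l.map (aug ℤ)).prod) = act a (l.map (aug ℤ)).prod
        rw [conv_act, haa]
      · intro u hu g
        have hlen : (l ++ [u]).length = m - j := by
          rw [List.length_append, List.length_singleton, hl]
          omega
        have hmem : ∀ q ∈ l ++ [u], q ∈ P := by
          intro q hq
          rcases List.mem_append.1 hq with h | h
          · exact hlP q h
          · rw [List.mem_singleton] at h
            rw [h]
            exact hu
        have := ih (by omega) (l ++ [u]) hlen hmem g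
        rwa [List.map_append, List.prod_append, List.map_singleton, List.prod_singleton,
          act_mul_aug] at this
  obtain ⟨g, hg⟩ := hne
  apply hg
  have := key m le_rfl [] (by simp) (by simp) g
  rwa [List.map_nil, List.prod_nil, act_one] at this

end Cfsg.Agent.Lib.Helper79_SylowCoset
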