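import Mathlib
import Cfsg.Agent.Lib.Helper79_SylowCoset
import Cfsg.Agent.Lib.Helper78_MinMax
import Cfsg.Agent.Lib.Helper78_PGroupSum
import Cfsg.Agent.Lib.Helper78_CharFacts
import Cfsg.Agent.Lib.Helper77_WeakOrth

/-!
# Green's theorem on defect groups as Sylow intersections: the normal case (helper79)

`green_normal`: if the block `B` of `G` has a normal defect group `D` and `P` is a Sylow
`p`-subgroup of `G`, there is a `p`-regular `y` with `P ∩ y P y⁻¹ = D`, `D ≤ C_G(y)` and every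
`p`-subgroup of `C_G(y)` inside `D`.
-/

set_option autoImplicit false

namespace Cfsg.Agent.Lib.Helper79_GreenNormal

open Cfsg Cfsg.Agent.Lib.Helper78_LocalRing Cfsg.Agent.Lib.Helper78_Osima
  Cfsg.Agent.Lib.Helper78_CharFacts Cfsg.Agent.Lib.Helper78_PGroupSum
  Cfsg.Agent.Lib.Helper78_MinMax Cfsg.Agent.Lib.Helper79_SylowCoset

universe u
variable {G : Type u} [Group G] {M : Ideal AlgInt} {p : ℕ}

theorem mem_map_conj_iff (H : Subgroup G) (y z : G) :
    z ∈ H.map (MulAut.conj y).toMonoidHom ↔ y⁻¹ * z * y ∈ H := by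
  constructor
  · rintro ⟨w, hw, rfl⟩
    simp only [MulEquiv.coe_toMonoidHom, MulAut.conj_apply]
    have : y⁻¹ * (y * w * y⁻¹) * y = w := by group
    rw [this]
    exact hw
  · intro h
    refine ⟨y⁻¹ * z * y, h, ?_⟩
    simp only [MulEquiv.coe_toMonoidHom, MulAut.conj_apply]
    group

/-- Variant of `exists_conj_fixed_ne_zero` giving a value outside the local ideal. -/
theorem exists_conj_fixed_not_mem [Fintype G] (S : Subgroup G) (hS : IsPGroup p S)
    (hM : IsPModular p M) (F : G → ℂ)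
    (hF : ∀ q ∈ S, ∀ x : G, F (q * x * q⁻¹) = F x) (hR : ∀ x, MemLocalRing M (F x))
    (hsum : ¬ MemLocalIdeal M (∑ x, F x)) :
    ∃ x : G, ¬ MemLocalIdeal M (F x) ∧ ∀ q ∈ S, q * x * q⁻¹ = x := by
  classical
  have hMp := isPrime_of_isPModular hM
  let _ : MulAction S G := MulAction.compHom G ((MulAut.conj (G := G)).comp S.subtype)
  have hsmul : ∀ (q : S) (x : G), q • x = (q : G) * x * (q : G)⁻¹ := fun q x => rfl
  by_contra hcon
  push Not at hcon
  have h := sum_sub_sum_fixed_mem hS hM F (fun q x => by rw [hsmul]; exact hF q q.2 x) hR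
  have hz : MemLocalIdeal M
      (∑ x ∈ Finset.univ.filter (fun x : G => ∀ q : S, q • x = x), F x) := by
    refine memLocalIdeal_sum hMp _ _ fun x hx => ?_
    by_contra hne
    obtain ⟨q, hq, hqx⟩ := hcon x hne
    exact hqx ((Finset.mem_filter.mp hx).2 ⟨q, hq⟩)
  have := memLocalIdeal_add hMp h hz
  rw [sub_add_cancel] at this
  exact hsum this

/-- **Green's theorem, normal defect group.** -/
theorem green_normal [Finite G] [Fact p.Prime] (hM : IsPModular p M)
    {B : Set (IrrCharacter G)} (hB : IsPBlock M B) (D : Subgroup G) [hDn : D.Normal]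
    (hD : IsDefectGroup p M B D) (P : Sylow p G) :
    ∃ y : G, ¬ p ∣ orderOf y ∧
      (P : Subgroup G) ⊓ (P : Subgroup G).map (MulAut.conj y).toMonoidHom = D ∧
      (∀ S : Subgroup G, IsPGroup p S → S ≤ Subgroup.centralizer ({y} : Set G) → S ≤ D) ∧
      D ≤ Subgroup.centralizer ({y} : Set G) := by
  classical
  have := Fintype.ofFinite G
  have hMp := isPrime_of_isPModular hM
  obtain ⟨g₀, hg₀, S₀, hS₀⟩ := hD
  set a : G → ℂ := blockCoeff B with ha
  have hac : IsClassFunction G a := blockCoeff_isClassFunction B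
  have haR : ∀ g, MemLocalRing M (a g) := fun g => osima_block' hMp hB g
  have haa : conv a a = a := Cfsg.Agent.Lib.Helper77_WeakOrth.conv_blockCoeff_self B
  have hDp : IsPGroup p D := by rw [hS₀]; exact isPGroup_map_sylow _ S₀
  have hDP : D ≤ P := hDp.le_sylow_of_normal P
  obtain ⟨x, hx⟩ := exists_coset_sum_not_mem hM (P : Subgroup G) P.isPGroup' hac haR haa
    ⟨g₀, hg₀.2.1⟩
  set Q : Subgroup G := (P : Subgroup G) ⊓ (P : Subgroup G).map (MulAut.conj x).toMonoidHom
    with hQ
  have hQp : IsPGroup p Q := P.isPGroup'.to_le inf_le_left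
  let F : G → ℂ := fun y => if x⁻¹ * y ∈ (P : Subgroup G) then a y else 0
  have hFsum : ∑ y, F y = ∑ u : (P : Subgroup G), a (x * (u : G)) := by
    have h1 : ∑ y, F y = ∑ z : G, if z ∈ (P : Subgroup G) then a (x * z) else 0 := by
      refine (Fintype.sum_equiv (Equiv.mulLeft x) _ _ ?_).symm
      intro z
      simp [F]
    rw [h1, ← Finset.sum_filter]
    exact Finset.sum_subtype _ (fun z => by simp) _
  have hFR : ∀ y, MemLocalRing M (F y) := by
    intro y
    simp only [F]
    split_ifs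
    · exact haR y
    · exact memLocalRing_zero hMp
  have hFinv : ∀ q ∈ Q, ∀ y : G, F (q * y * q⁻¹) = F y := by
    intro q hq y
    have hqP : q ∈ (P : Subgroup G) := hq.1
    have hqx : x⁻¹ * q * x ∈ (P : Subgroup G) := (mem_map_conj_iff _ x q).1 hq.2
    have hiff : x⁻¹ * (q * y * q⁻¹) ∈ (P : Subgroup G) ↔ x⁻¹ * y ∈ (P : Subgroup G) := by
      have h1 : x⁻¹ * (q * y * q⁻¹) = (x⁻¹ * q * x) * (x⁻¹ * y) * q⁻¹ := by group
      rw [h1, Subgroup.mul_mem_cancel_right _ (Subgroup.inv_mem _ hqP),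
        Subgroup.mul_mem_cancel_left _ hqx]
    simp only [F, hiff, hac y q]
  obtain ⟨y, hy, hfix⟩ := exists_conj_fixed_not_mem Q hQp hM F hFinv hFR (by rw [hFsum]; exact hx)
  have hyP : x⁻¹ * y ∈ (P : Subgroup G) := by
    by_contra hne
    apply hy
    simp only [F, if_neg hne]
    exact memLocalIdeal_zero hMp
  have hay : ¬ MemLocalIdeal M (blockCoeff B y) := by
    have : F y = a y := by simp only [F, if_pos hyP]
    rwa [this] at hy
  have hmap : (P : Subgroup G).map (MulAut.conj y).toMonoidHom =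
      (P : Subgroup G).map (MulAut.conj x).toMonoidHom := by
    ext z
    rw [mem_map_conj_iff, mem_map_conj_iff]
    have h1 : y⁻¹ * z * y = (x⁻¹ * y)⁻¹ * (x⁻¹ * z * x) * (x⁻¹ * y) := by group
    rw [h1, Subgroup.mul_mem_cancel_right _ hyP,
      Subgroup.mul_mem_cancel_left _ (Subgroup.inv_mem _ hyP)]
  have hreg : ¬ p ∣ orderOf y := by
    intro hdiv
    apply hay
    rw [Cfsg.Agent.Lib.Helper77_WeakOrth.blockCoeff_block_eq_zero_of_sing hM hB y hdiv]
    exact memLocalIdeal_zero hMp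
  have hminmax : ∀ S : Subgroup G, IsPGroup p S →
      S ≤ Subgroup.centralizer ({y} : Set G) → S ≤ D := by
    intro S hS hSy
    obtain ⟨c, hc⟩ := le_conj_of_blockCoeff_not_mem hM hB hg₀ S₀ y hay S hS hSy
    rw [← hS₀] at hc
    intro s hs
    have h1 := (mem_map_conj_iff D c s).1 (hc hs)
    have h2 := hDn.conj_mem _ h1 c
    have h3 : c * (c⁻¹ * s * c) * c⁻¹ = s := by group
    rwa [h3] at h2
  have hQy : Q ≤ Subgroup.centralizer ({y} : Set G) := by
    intro q hq
    rw [Subgroup.mem_centralizer_iff]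
    intro h hh
    rw [Set.mem_singleton_iff] at hh
    subst hh
    have := hfix q hq
    calc h * q = (q * h * q⁻¹) * q := by rw [this]
      _ = q * h := by group
  have hQD : Q = D := by
    refine le_antisymm (hminmax Q hQp hQy) ?_
    intro d hd
    refine Subgroup.mem_inf.2 ⟨hDP hd, ?_⟩
    rw [mem_map_conj_iff]
    have := hDn.conj_mem d hd x⁻¹
    rw [inv_inv] at this
    exact hDP this
  refine ⟨y, hreg, ?_, hminmax, ?_⟩
  · rw [hmap, ← hQ, hQD]
  · rw [← hQD]
    exact hQy

/-- In a finite `p`-group `Q`, a subgroup `D` not containing `Q` is properly contained in its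
normalizer in `Q`. -/
theorem exists_normalizing_not_mem [Finite G] [Fact p.Prime] {D Q : Subgroup G}
    (hQ : IsPGroup p Q) (hDQ : D ≤ Q) (hne : ¬ Q ≤ D) :
    ∃ v ∈ Q, v ∈ Subgroup.normalizer (D : Set G) ∧ v ∉ D := by
  have : Group.IsNilpotent Q := hQ.isNilpotent
  have hnc := Group.normalizerCondition_of_isNilpotent (G := Q)
  have hlt : D.subgroupOf Q < ⊤ :=
    lt_top_iff_ne_top.2 (fun h => hne (Subgroup.subgroupOf_eq_top.1 h))
  have h1 := hnc _ hlt
  rw [← Subgroup.subgroupOf_normalizer_eq hDQ] at h1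
  obtain ⟨v, hv1, hv2⟩ := SetLike.exists_of_lt h1
  exact ⟨v, v.2, Subgroup.mem_subgroupOf.1 hv1, fun h => hv2 (Subgroup.mem_subgroupOf.2 h)⟩

end Cfsg.Agent.Lib.Helper79_GreenNormal
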