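import Mathlib
import Cfsg.Prelude.Def_Blocks
import Cfsg.Agent.Lib.Helper40_GreenDefs
import Cfsg.Agent.Lib.Helper99_DZ_BLKCONJ
import Cfsg.Agent.S0908
import Cfsg.Agent.S0956
import Cfsg.Agent.Lib.Helper17_GR_GAEXT
import Cfsg.Agent.Lib.Helper69_GR_GAMIXA
import Cfsg.Agent.Lib.Helper89_GR_GAMIXB
import Cfsg.Agent.Lib.Helper65_GR_GANF

set_option autoImplicit false

namespace Cfsg.Agent.Lib.Helper40_GreenMain

open Cfsg.Agent.Lib.Helper40_GreenDefs

variable {G : Type*} [Group G] {F : Type*} [Field F]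

/-- main abstract theorem -/
theorem green_main (Gd : GreenData G F) (𝒟 : Set (Subgroup G)) (h𝒟 : GreenFamily Gd 𝒟) :
    ∀ E ∈ 𝒟, E = ⊥ ∨ E = Gd.U := by
  intro E hE
  obtain ⟨u, hu, E₀, hE₀, m, π, hEE, hNF⟩ := Cfsg.Agent.Lib.Helper65_GR_GANF.green_nf Gd 𝒟 h𝒟 E hE
  by_cases hall : ∀ i, i < Gd.rank → Gd.pos (π (Gd.simple i))
  · right
    have h0 : E₀ = Gd.U := Cfsg.Agent.Lib.Helper17_GR_GAEXT.green_allpos Gd E₀ m π hNF hall
    rw [hEE, h0]
    ext g
    constructor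
    · rintro ⟨y, hy, rfl⟩
      exact Gd.U.mul_mem (Gd.U.mul_mem hu hy) (Gd.U.inv_mem hu)
    · intro hg
      refine ⟨u⁻¹ * g * u, Gd.U.mul_mem (Gd.U.mul_mem (Gd.U.inv_mem hu) hg) hu, ?_⟩
      simp [MulAut.conj_apply, mul_assoc]
  by_cases hnone : ∀ i, i < Gd.rank → ¬ Gd.pos (π (Gd.simple i))
  · left
    have h0 : E₀ = ⊥ := Cfsg.Agent.Lib.Helper17_GR_GAEXT.green_allneg Gd E₀ m π hNF hnone
    rw [hEE, h0, Subgroup.map_bot]
  exfalso
  push Not at hall hnone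
  obtain ⟨k1, hk1, hk1n⟩ := hall
  obtain ⟨k2, hk2, hk2p⟩ := hnone
  obtain ⟨i, hi, j, hj, hni, hpj, hadj⟩ :=
    Gd.conn (fun k => Gd.pos (π (Gd.simple k))) ⟨k2, hk2, hk2p⟩ ⟨k1, hk1, hk1n⟩
  obtain ⟨g, hgU, hgi, hgj, a, ha, hxa⟩ := Cfsg.Agent.Lib.Helper69_GR_GAMIXA.green_mixA Gd E₀ m π hNF i j hi hj hadj hni hpj
  have hE₁ : E₀.map (MulAut.conj g).toMonoidHom ∈ 𝒟 := h𝒟.conj E₀ hE₀ g hgU
  obtain ⟨u₁, hu₁, E₁, hE₁', m₁, π₁, hEE₁, hNF₁⟩ := Cfsg.Agent.Lib.Helper65_GR_GANF.green_nf Gd 𝒟 h𝒟 _ hE₁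
  have hle : E₀.map (MulAut.conj g).toMonoidHom ≤ Gd.Uij i j := by
    rw [hEE₁] at hgi hgj ⊢
    exact Cfsg.Agent.Lib.Helper89_GR_GAMIXB.green_mixB Gd u₁ hu₁ E₁ m₁ π₁ hNF₁ i j hi hj hgi hgj
  have hpos : Gd.pos (Gd.refl i (Gd.simple j)) :=
    (Gd.refl_pos i hi _ (Gd.simple_pos j hj) (fun h => Gd.adj_ne i hi j hj hadj h.symm)).1
  exact ha (Gd.uij_compl i hi j hj _ hpos (Gd.refl_sub2 i hi j hj) a (hle hxa))

/-- Green's theorem + `green_main`: in a finite group with Green data whose `U` is a Sylow `p`-subgroup, the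
defect groups of the `p`-blocks are trivial or Sylow. -/
theorem green_defect [Finite G] (Gd : GreenData G F) (p : ℕ) [Fact p.Prime] (M : Ideal Cfsg.AlgInt)
    (hM : Cfsg.IsPModular p M) (P : Sylow p G) (hP : (P : Subgroup G) = Gd.U)
    (B : Set (Cfsg.IrrCharacter G)) (hB : Cfsg.IsPBlock M B) (E : Subgroup G)
    (hE : Cfsg.IsDefectGroup p M B E) :
    E = ⊥ ∨ Nat.card E = p ^ (Nat.card G).factorization p := by
  classical
  set 𝒟 : Set (Subgroup G) := {E' | E' ≤ Gd.U ∧ Cfsg.IsDefectGroup p M B E'} with h𝒟def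
  have h𝒟 : GreenFamily Gd 𝒟 := by
    refine ⟨fun E' h => h.1, ?_, ?_⟩
    · rintro E' ⟨hle, hdef⟩
      obtain ⟨x, -, ⟨S, hS⟩, hx⟩ := Cfsg.Agent.S0956.result p M hM B hB E' hdef P (hP ▸ hle)
      refine ⟨x, ?_, ?_⟩
      · intro e he
        rw [← hS] at he
        obtain ⟨s, -, rfl⟩ := he
        have := s.2
        rw [Subgroup.mem_centralizer_iff] at this
        exact this x rfl
      · rw [← hP]; exact hx
    · rintro E' ⟨-, hdef⟩ g hg
      exact ⟨hg, Cfsg.Agent.Lib.Helper99_DZ_BLKCONJ.blk_conj p M B E' hdef g⟩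
  have hcard := Cfsg.Agent.S0908.result p M hM B hB E hE
  have hpg : IsPGroup p E := IsPGroup.of_card hcard
  obtain ⟨Q, hQ⟩ := hpg.exists_le_sylow
  obtain ⟨g, hg⟩ := MulAction.exists_smul_eq G Q P
  have hE' : E.map (MulAut.conj g).toMonoidHom ∈ 𝒟 := by
    refine ⟨?_, Cfsg.Agent.Lib.Helper99_DZ_BLKCONJ.blk_conj p M B E hE g⟩
    rw [← hP, ← hg]
    show E.map (MulAut.conj g).toMonoidHom ≤ (Q : Subgroup G).map (MulAut.conj g).toMonoidHom
    exact Subgroup.map_mono hQ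
  have hinj : Function.Injective (MulAut.conj g).toMonoidHom := (MulAut.conj g).injective
  rcases green_main Gd 𝒟 h𝒟 _ hE' with h0 | h1
  · left
    exact (Subgroup.map_eq_bot_iff_of_injective E hinj).mp h0
  · right
    have e1 : Nat.card (E.map (MulAut.conj g).toMonoidHom) = Nat.card E :=
      Nat.card_congr (E.equivMapOfInjective _ hinj).symm.toEquiv
    rw [← e1, h1, ← hP]
    exact Sylow.card_eq_multiplicity P

/-- if the only `p`-regular element centralising the Sylow `p`-subgroup `P` is `1`, there is exactly one class of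
`N_G(P)` of `p`-regular elements centralising `P` -/
theorem green_classcount [Finite G] (p : ℕ) [Fact p.Prime] (P : Sylow p G)
    (hcen : ∀ x ∈ Subgroup.centralizer ((P : Subgroup G) : Set G), ¬ p ∣ orderOf x → x = 1) :
    Nat.card {C : ConjClasses (Subgroup.normalizer ((P : Subgroup G) : Set G)) //
      ∀ n : Subgroup.normalizer ((P : Subgroup G) : Set G), ConjClasses.mk n = C →
        ¬ p ∣ orderOf n ∧ (n : G) ∈ Subgroup.centralizer ((P : Subgroup G) : Set G)} = 1 := by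
  have hp : p.Prime := Fact.out
  rw [Nat.card_eq_one_iff_unique]
  refine ⟨⟨?_⟩, ⟨⟨ConjClasses.mk 1, ?_⟩⟩⟩
  · rintro ⟨C1, h1⟩ ⟨C2, h2⟩
    have key : ∀ C : ConjClasses (Subgroup.normalizer ((P : Subgroup G) : Set G)),
        (∀ n : Subgroup.normalizer ((P : Subgroup G) : Set G), ConjClasses.mk n = C →
          ¬ p ∣ orderOf n ∧ (n : G) ∈ Subgroup.centralizer ((P : Subgroup G) : Set G)) →
        C = ConjClasses.mk 1 := by
      intro C hC
      obtain ⟨n, rfl⟩ := ConjClasses.exists_rep C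
      obtain ⟨hn1, hn2⟩ := hC n rfl
      have : (n : G) = 1 := hcen _ hn2 (by rwa [Subgroup.orderOf_coe])
      have hn : n = 1 := Subtype.ext this
      rw [hn]
    apply Subtype.ext
    show C1 = C2
    rw [key C1 h1, key C2 h2]
  · intro n hn
    have hn1 : n = 1 := by
      have := ConjClasses.mk_eq_mk_iff_isConj.mp hn
      exact (isConj_one_left.mp this)
    subst hn1
    refine ⟨?_, ?_⟩
    · rw [orderOf_one]
      exact hp.one_lt.ne' ∘ Nat.dvd_one.mp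
    · exact Subgroup.one_mem _

end Cfsg.Agent.Lib.Helper40_GreenMain
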