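import Mathlib
import Cfsg.Agent.Lib.Helper40_ChevGreenDefs
import Cfsg.Agent.Lib.Helper40_ChevGreenXG
import Cfsg.Agent.Lib.Helper18_ChevData5
import Cfsg.Agent.Lib.Helper18_ChevBruhat
import Cfsg.Agent.Lib.Helper18_ChevJCerts
import Cfsg.Agent.Lib.Helper18_ChevComm2

/-!
GREEN market (helper40), package GC-BRUHAT: `G = U N U` for the Chevalley groups of type
G₂, B₂, D₄, F₄, E₆, E₇, E₈, from `Helper18_ChevBruhat.canonical_exists`.  (helper43)
-/

set_option autoImplicit false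

namespace Cfsg.Agent.Lib.Helper43_GR_GCBRUHAT

open Cfsg Cfsg.Lie Cfsg.Agent.Lib.Helper40_ChevDZDefs Cfsg.Agent.Lib.Helper40_ChevGreenDefs

variable (D : ChevalleyDatum)
  (hD : D ∈ [chevG2, chevB2, chevD4, chevF4, chevE6, chevE7, chevE8]) {F : Type*} [Field F]
include hD

/- GC-BRUHAT (size M): Helper18_ChevBruhat.canonical_exists: g = b n u, b ∈ B = U ⊔ H, n ∈ N, u ∈ closure (flipGens D F n) ≤ U (flipGens_le_pos).
b = u₁ h (Helper18_ChevBN.exists_mul_of_mem_sup + Helper18_ChevBorel.diagonal_le_normalizer_pos), h n ∈ N (diagonal_le_monomial).  All factors lie in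
D.group F (posUnipotent_le_group, monomial_le_group), so they lift to ↥(D.group F). -/
theorem ch_bruhat2 : ∀ g : ↥(D.group F), ∃ u ∈ cU D F, ∃ n ∈ cN D F, ∃ u' ∈ cU D F, g = u * n * u' := by
  intro g
  obtain ⟨Ns, w, d, Ts, hT, K, base, stepT, wl, ws, sc, c, tc, gc, pc, ac⟩ :=
    Cfsg.Agent.Lib.Helper18_ChevData5.exists_cert5 D hD
  have hR2 : Cfsg.Agent.Lib.Helper18_ChevUni.R2All D F :=
    Cfsg.Agent.Lib.Helper18_ChevComm2.r2_all c pc
  have hdesc := Cfsg.Agent.Lib.Helper18_ChevJCerts.descent_all D hD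
  obtain ⟨b, hb, n, hn, u, hu, e⟩ :=
    Cfsg.Agent.Lib.Helper18_ChevBruhat.canonical_exists c tc ac gc hdesc hR2 (g : GL D.Idx F) g.2
  have huU : u ∈ D.posUnipotent F := Cfsg.Agent.Lib.Helper18_ChevBruhat.flipGens_le_pos n hu
  obtain ⟨u₁, hu₁, h, hh, hb'⟩ := Cfsg.Agent.Lib.Helper18_ChevBN.exists_mul_of_mem_sup _ _
    (Cfsg.Agent.Lib.Helper18_ChevBorel.diagonal_le_normalizer_pos c tc) hb
  have hUG := Cfsg.Agent.Lib.Helper18_ChevGL.posUnipotent_le_group (F := F) c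
  have hNG := Cfsg.Agent.Lib.Helper18_ChevGL.monomial_le_group (F := F) c
  have hhn : h * n ∈ D.monomialSubgroup F :=
    Subgroup.mul_mem _ (Cfsg.Agent.Lib.Helper18_ChevMono.diagonal_le_monomial hh) hn
  refine ⟨⟨u₁, hUG hu₁⟩, ?_, ⟨h * n, hNG hhn⟩, ?_, ⟨u, hUG huU⟩, ?_, ?_⟩
  · show (⟨u₁, hUG hu₁⟩ : ↥(D.group F)) ∈ (D.posUnipotent F).subgroupOf (D.group F)
    rw [Subgroup.mem_subgroupOf]
    exact hu₁
  · show (⟨h * n, hNG hhn⟩ : ↥(D.group F)) ∈ (D.monomialSubgroup F).subgroupOf (D.group F)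
    rw [Subgroup.mem_subgroupOf]
    exact hhn
  · show (⟨u, hUG huU⟩ : ↥(D.group F)) ∈ (D.posUnipotent F).subgroupOf (D.group F)
    rw [Subgroup.mem_subgroupOf]
    exact huU
  · apply Subtype.ext
    show (g : GL D.Idx F) = u₁ * (h * n) * u
    rw [e, hb']
    group

end Cfsg.Agent.Lib.Helper43_GR_GCBRUHAT
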