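import Mathlib
import Cfsg.Prelude.Def_Characters
import Cfsg.Prelude.Def_ParabolicCharacters
import Cfsg.Prelude.Def_LieTypes
import Cfsg.Prelude.Def_ChevB2
import Cfsg.Agent.Lib.Helper40_DefZeroDefs
import Cfsg.Agent.Lib.Helper40_ChevDZDefs
import Cfsg.Agent.Lib.Helper18_ChevData5

set_option autoImplicit false

/-!
Defect-zero market, wave 3 (helper40), package CHCARDUA: `|U| = q |U_{p_i}|` in a Chevalley group.
Route through the certificates: the group generated by the root subgroups of a closed list `L` of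
positive roots has `q ^ L.length` elements; `U_{p_i}` belongs to the positive roots with `p_i` erased.
(helper89)
-/

namespace Cfsg.Agent.Lib.Helper89_DZ_CHCARDUA

open Cfsg Cfsg.Lie Cfsg.Agent.Lib.Helper18_ChevFast Cfsg.Agent.Lib.Helper18_ChevEngine
  Cfsg.Agent.Lib.Helper18_ChevR1 Cfsg.Agent.Lib.Helper18_ChevN Cfsg.Agent.Lib.Helper18_ChevR4
  Cfsg.Agent.Lib.Helper18_ChevSimple Cfsg.Agent.Lib.Helper18_ChevSimple2 Cfsg.Agent.Lib.Helper18_ChevFacts
  Cfsg.Agent.Lib.Helper18_ChevWeyl Cfsg.Agent.Lib.Helper18_ChevDiag Cfsg.Agent.Lib.Helper18_ChevCar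
  Cfsg.Agent.Lib.Helper18_ChevTorus Cfsg.Agent.Lib.Helper18_ChevGL Cfsg.Agent.Lib.Helper18_ChevComm
  Cfsg.Agent.Lib.Helper18_ChevComm2 Cfsg.Agent.Lib.Helper18_MatTri Cfsg.Agent.Lib.Helper18_ChevTri
  Cfsg.Agent.Lib.Helper18_ChevBorel Cfsg.Agent.Lib.Helper18_ChevAdd Cfsg.Agent.Lib.Helper18_ChevUni
  Cfsg.Agent.Lib.Helper40_DefZeroDefs Cfsg.Agent.Lib.Helper40_ChevDZDefs

section Certs

variable {D : ChevalleyDatum} {Ns : List NData} {F : Type*} [Field F]
variable {wl : List ℤ} {ws : List (List ℤ)} {sc : ℤ}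

/-- Extension by zero of a family of parameters indexed by the members of a list. -/
def extL (L : List ℕ) (t : ↥L.toFinset → F) (r : ℕ) : F :=
  if h : r ∈ L.toFinset then t ⟨r, h⟩ else 0

/-- The group generated by the root subgroups of a closed list of positive roots has `q ^ length`
elements. -/
theorem card_closure_listGens [Fintype F] (c : DCert D Ns) (tc : TCert D) (ac : ACert D wl ws sc)
    (hR2 : R2All D F) (L : List ℕ) (hcl : ClosedList D L) (hpos : ∀ r ∈ L, D.IsPosRoot r) :
    Nat.card (Subgroup.closure (listGens D F L)) = Fintype.card F ^ L.length := by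
  have hnd : L.Nodup := hcl.sorted.imp (fun h => ne_of_lt h)
  let φ : (↥L.toFinset → F) → Subgroup.closure (listGens D F L) := fun t =>
    ⟨wordGL c (L.map fun r => (r, extL L t r)), by
      apply wordGL_mem
      intro p hp
      rw [List.mem_map] at hp
      obtain ⟨r, hr, rfl⟩ := hp
      exact Subgroup.subset_closure ⟨r, hr, _, rfl⟩⟩
  have hφ : Function.Bijective φ := by
    constructor
    · intro t t' h
      have h1 : wordGL c (L.map fun r => (r, extL L t r)) =
          wordGL c (L.map fun r => (r, extL L t' r)) := congrArg Subtype.val h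
      have h2 := congrArg (fun g : GL D.Idx F => (g : Matrix D.Idx D.Idx F)) h1
      simp only [wordGL_coe] at h2
      have h3 := unique_word c tc ac L hnd hpos _ _ h2
      funext ⟨r, hr⟩
      have h4 := h3 r (List.mem_toFinset.mp hr)
      unfold extL at h4
      rwa [dif_pos hr, dif_pos hr] at h4
    · rintro ⟨g, hg⟩
      obtain ⟨t, rfl⟩ := exists_word_of_closed c hR2 L hcl g hg
      refine ⟨fun r => t r.val, ?_⟩
      apply Subtype.ext
      show wordGL c (L.map fun r => (r, extL L (fun r => t r.val) r)) = _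
      congr 1
      apply List.map_congr_left
      intro r hr
      unfold extL
      rw [dif_pos (List.mem_toFinset.mpr hr)]
  rw [← Nat.card_congr (Equiv.ofBijective φ hφ), Nat.card_fun, Nat.card_eq_fintype_card,
    Nat.card_eq_fintype_card, Fintype.card_coe, List.toFinset_card_of_nodup hnd]

/-- The positive roots other than the `i`-th fundamental root form a closed list. -/
theorem closedList_erase (c : DCert D Ns) (tc : TCert D) (ac : ACert D wl ws sc) (i : ℕ)
    (hi : i < D.rank) : ClosedList D (D.posRoots.erase (D.simple i)) := by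
  have hcl := closedList_posRoots c tc ac
  have hnd : D.posRoots.Nodup := posRoots_nodup
  have hmem : ∀ a, a ∈ D.posRoots.erase (D.simple i) ↔ a ≠ D.simple i ∧ a ∈ D.posRoots :=
    fun a => hnd.mem_erase_iff
  refine ⟨hcl.sorted.sublist (List.erase_sublist), ?_, ?_, ?_⟩
  · intro a ha
    exact hcl.lt a ((hmem a).mp ha).2
  · intro a ha b hb
    exact hcl.ne_neg a ((hmem a).mp ha).2 b ((hmem b).mp hb).2
  · intro a ha b hb hab k hk
    obtain ⟨hane, haP⟩ := (hmem a).mp ha
    obtain ⟨hbne, hbP⟩ := (hmem b).mp hb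
    obtain ⟨h1, h2, h3⟩ := hcl.closed a haP b hbP hab k hk
    refine ⟨(hmem _).mpr ⟨?_, h1⟩, h2, h3⟩
    -- the term `k.1` has a positive coefficient on some fundamental root other than `p_i`
    have hapos := (mem_posRoots a).mp haP
    have hbpos := (mem_posRoots b).mp hbP
    obtain ⟨j, hj, hji, hposj⟩ := ac.exists_other a hapos i hi hane
    have hg := isGrading_w c tc (ws.getD j [])
    obtain ⟨hk1, hα, hβ, hval⟩ := commTerms_grading c.rows ac.in_range hg a b hapos.1 hbpos.1 k hk
    have hbj : 0 ≤ cf D ws j b := (ac.pos_iff b hbpos.1).mp hbpos j hj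
    have hps : cf D ws j (D.simple i) = 0 := by
      rw [ac.cf_simple i hi j hj, if_neg hji]
    intro hkp
    rw [hkp] at hval
    unfold cf at hposj hbj hps
    rw [hps] at hval
    have hα' : (1 : ℤ) ≤ (k.2.2.1 : ℤ) := by exact_mod_cast hα
    have hβ' : (1 : ℤ) ≤ (k.2.2.2 : ℤ) := by exact_mod_cast hβ
    nlinarith

/-- `U_{p_i}` is the group generated by the root subgroups of the erased list. -/
theorem up_eq_listGens (i : ℕ) :
    Subgroup.closure {g : GL D.Idx F | ∃ (s : ℕ) (t : F), D.IsPosRoot s ∧ s ≠ D.simple i ∧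
      (g : Matrix D.Idx D.Idx F) = D.x F s t} =
      Subgroup.closure (listGens D F (D.posRoots.erase (D.simple i))) := by
  have hnd : D.posRoots.Nodup := posRoots_nodup
  congr 1
  ext g
  show (∃ (s : ℕ) (t : F), D.IsPosRoot s ∧ s ≠ D.simple i ∧ (g : Matrix D.Idx D.Idx F) = D.x F s t) ↔
    ∃ s ∈ D.posRoots.erase (D.simple i), ∃ t : F, (g : Matrix D.Idx D.Idx F) = D.x F s t
  constructor
  · rintro ⟨s, t, hs, hne, hg⟩
    exact ⟨s, hnd.mem_erase_iff.mpr ⟨hne, (mem_posRoots s).mpr hs⟩, t, hg⟩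
  · rintro ⟨s, hs, t, hg⟩
    obtain ⟨hne, hs'⟩ := hnd.mem_erase_iff.mp hs
    exact ⟨s, t, (mem_posRoots s).mp hs', hne, hg⟩

/-- `|U_{p_i}| = q ^ (N - 1)`. -/
theorem card_up [Fintype F] (c : DCert D Ns) (tc : TCert D) (ac : ACert D wl ws sc)
    (hR2 : R2All D F) (i : ℕ) (hi : i < D.rank) :
    Nat.card (Subgroup.closure {g : GL D.Idx F | ∃ (s : ℕ) (t : F), D.IsPosRoot s ∧
      s ≠ D.simple i ∧ (g : Matrix D.Idx D.Idx F) = D.x F s t}) =
      Fintype.card F ^ (D.nroots / 2 - 1) := by
  have hnd : D.posRoots.Nodup := posRoots_nodup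
  rw [up_eq_listGens, card_closure_listGens c tc ac hR2 _ (closedList_erase c tc ac i hi)
    (fun r hr => (mem_posRoots r).mp (hnd.mem_erase_iff.mp hr).2),
    List.length_erase_of_mem ((mem_posRoots _).mpr (ac.simple i hi).2.1), ac.npos]

end Certs

section Main

variable {F : Type*} [Field F] (D : ChevalleyDatum)
  (hD : D ∈ [chevG2, chevB2, chevD4, chevF4, chevE6, chevE7, chevE8])
include hD

/-- **CHCARDUA**. -/
theorem ch_card_Ua [Fintype F] (i : ℕ) (hi : i < D.rank) :
    Nat.card (cU D F) = Fintype.card F * Nat.card (cUa D F i) := by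
  obtain ⟨Ns, w, d, Ts, hT, K, base, stepT, wl, ws, sc, c, tc, gc, pc, ac⟩ :=
    Cfsg.Agent.Lib.Helper18_ChevData5.exists_cert5 D hD
  have hR2 : R2All D F := Cfsg.Agent.Lib.Helper18_ChevComm2.r2_all c pc
  have hBG : D.borelSubgroup F ≤ D.group F := Cfsg.Agent.Lib.Helper18_ChevGL.borel_le_group c
  have hUG : D.posUnipotent F ≤ D.group F := le_trans le_sup_left hBG
  have hsc := simple_complement c tc ac hR2 (F := F) i hi
  have hUaU : Subgroup.closure {g : GL D.Idx F | ∃ (s : ℕ) (t : F), D.IsPosRoot s ∧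
      s ≠ D.simple i ∧ (g : Matrix D.Idx D.Idx F) = D.x F s t} ≤ D.posUnipotent F := by
    rw [← hsc.2]
    exact le_sup_left
  have h1 : Nat.card (cU D F) = Nat.card (D.posUnipotent F) :=
    Nat.card_congr (Subgroup.subgroupOfEquivOfLe hUG).toEquiv
  have h2 : Nat.card (cUa D F i) = Nat.card (Subgroup.closure {g : GL D.Idx F |
      ∃ (s : ℕ) (t : F), D.IsPosRoot s ∧ s ≠ D.simple i ∧
      (g : Matrix D.Idx D.Idx F) = D.x F s t}) :=
    Nat.card_congr (Subgroup.subgroupOfEquivOfLe (le_trans hUaU hUG)).toEquiv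
  rw [h1, h2, card_posUnipotent c tc ac hR2, card_up c tc ac hR2 i hi, ← pow_succ']
  congr 1
  have hN : 0 < D.nroots / 2 := by
    rw [← ac.npos]
    exact List.length_pos_of_mem ((mem_posRoots _).mpr (ac.simple i hi).2.1)
  omega

end Main

end Cfsg.Agent.Lib.Helper89_DZ_CHCARDUA
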