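import Mathlib
import Cfsg.Agent.Lib.Helper40_ChevGreenDefs
import Cfsg.Agent.Lib.Helper40_ChevGreenXG
import Cfsg.Agent.Lib.Helper18_ChevData5
import Cfsg.Agent.Lib.Helper89_DZ_CHCARDUA

/-!
GREEN market (helper40, S2441), package GC-UA: `U_{p_i}` is normal in `U`, and `x_{p_i}(t) ∈ U_{p_i}`
only for `t = 0`.
-/

set_option autoImplicit false

namespace Cfsg.Agent.Lib.Helper44_GR_GCUA

open Cfsg Cfsg.Lie Cfsg.Agent.Lib.Helper40_ChevDZDefs Cfsg.Agent.Lib.Helper40_ChevGreenDefs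
open Cfsg.Agent.Lib.Helper18_ChevGL Cfsg.Agent.Lib.Helper18_ChevFast Cfsg.Agent.Lib.Helper18_ChevUni
  Cfsg.Agent.Lib.Helper18_ChevWeyl Cfsg.Agent.Lib.Helper18_ChevN

section Certs

variable {D : ChevalleyDatum} {Ns : List NData} {F : Type*} [Field F]

/-- a word all of whose parameters vanish is trivial -/
theorem wordGL_zero (c : DCert D Ns) (L : List ℕ) :
    wordGL c (L.map fun r => (r, (0 : F))) = 1 := by
  induction L with
  | nil => exact wordGL_nil c
  | cons a L ih => rw [List.map_cons, wordGL_cons, ih, mul_one, xGL_zero]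

end Certs

variable (D : ChevalleyDatum)
  (hD : D ∈ [chevG2, chevB2, chevD4, chevF4, chevE6, chevE7, chevE8]) {F : Type*} [Field F]
include hD

theorem ch_ua_normal : ∀ i, i < D.rank → ∀ u, u ∈ cU D F →
    ∀ g, g ∈ Subgroup.closure {g | ∃ r t, D.IsPosRoot r ∧ r ≠ D.simple i ∧ g = xG D F r t} →
      u * g * u⁻¹ ∈ Subgroup.closure {g | ∃ r t, D.IsPosRoot r ∧ r ≠ D.simple i ∧ g = xG D F r t} := by
  intro i hi u hu g hg
  obtain ⟨Ns, w, d, Ts, hT, K, base, stepT, wl, ws, sc, c, tc, gc, pc, ac⟩ :=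
    Cfsg.Agent.Lib.Helper18_ChevData5.exists_cert5 D hD
  have hR2 : R2All D F := Cfsg.Agent.Lib.Helper18_ChevComm2.r2_all c pc
  rw [← Cfsg.Agent.Lib.Helper40_ChevGreenXG.cUa_eq D hD i] at hg ⊢
  have hsc := simple_complement c tc ac hR2 (F := F) i hi
  -- `U ≤ N(U_p)`
  have hUN : D.posUnipotent F ≤
      Subgroup.normalizer (Subgroup.closure (upGens D F i) : Set (GL D.Idx F)) := by
    rw [← hsc.2]
    exact sup_le Subgroup.le_normalizer (le_trans le_sup_left hsc.1)
  have hu' : (u : GL D.Idx F) ∈ D.posUnipotent F := hu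
  have hg' : (g : GL D.Idx F) ∈ Subgroup.closure (upGens D F i) := hg
  show ((u * g * u⁻¹ : ↥(D.group F)) : GL D.Idx F) ∈ Subgroup.closure (upGens D F i)
  exact (Subgroup.mem_normalizer_iff.mp (hUN hu') _).mp hg'

theorem ch_ua_compl : ∀ i, i < D.rank → ∀ t : F, xG D F (D.simple i) t ∈
    Subgroup.closure {g | ∃ r t, D.IsPosRoot r ∧ r ≠ D.simple i ∧ g = xG D F r t} → t = 0 := by
  intro i hi t ht
  obtain ⟨Ns, w, d, Ts, hT, K, base, stepT, wl, ws, sc, c, tc, gc, pc, ac⟩ :=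
    Cfsg.Agent.Lib.Helper18_ChevData5.exists_cert5 D hD
  have hR2 : R2All D F := Cfsg.Agent.Lib.Helper18_ChevComm2.r2_all c pc
  rw [← Cfsg.Agent.Lib.Helper40_ChevGreenXG.cUa_eq D hD i] at ht
  have ht' : ((xG D F (D.simple i) t : ↥(D.group F)) : GL D.Idx F) ∈
      Subgroup.closure {g : GL D.Idx F | ∃ (s : ℕ) (t : F), D.IsPosRoot s ∧ s ≠ D.simple i ∧
        (g : Matrix D.Idx D.Idx F) = D.x F s t} := ht
  rw [Cfsg.Agent.Lib.Helper40_ChevGreenXG.xG_eq_xGL D c,
    Cfsg.Agent.Lib.Helper89_DZ_CHCARDUA.up_eq_listGens] at ht'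
  have hnd : D.posRoots.Nodup := posRoots_nodup
  have hpP : D.simple i ∈ D.posRoots := (mem_posRoots _).mpr (ac.simple i hi).2.1
  obtain ⟨L, hL⟩ : ∃ L : List ℕ, L = D.posRoots.erase (D.simple i) := ⟨_, rfl⟩
  rw [← hL] at ht'
  have hmem : ∀ a, a ∈ L ↔ a ≠ D.simple i ∧ a ∈ D.posRoots := fun a => by
    rw [hL]; exact hnd.mem_erase_iff
  have hcl : ClosedList D L := by
    rw [hL]; exact Cfsg.Agent.Lib.Helper89_DZ_CHCARDUA.closedList_erase c tc ac i hi
  obtain ⟨t', hw⟩ := exists_word_of_closed c hR2 L hcl _ ht'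
  -- compare two words over the list `p :: L`
  have hnd' : (D.simple i :: L).Nodup := by
    rw [List.nodup_cons]
    refine ⟨fun h => ((hmem _).mp h).1 rfl, ?_⟩
    rw [hL]
    exact hnd.erase _
  have hpos' : ∀ r ∈ D.simple i :: L, D.IsPosRoot r := by
    intro r hr
    rcases List.mem_cons.mp hr with rfl | hr
    · exact (ac.simple i hi).2.1
    · exact (mem_posRoots r).mp ((hmem r).mp hr).2
  obtain ⟨t1, ht1⟩ : ∃ t1 : ℕ → F, t1 = fun r => if r = D.simple i then t else 0 := ⟨_, rfl⟩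
  obtain ⟨t2, ht2⟩ : ∃ t2 : ℕ → F, t2 = fun r => if r = D.simple i then 0 else t' r := ⟨_, rfl⟩
  have e1 : wordGL c ((D.simple i :: L).map fun r => (r, t1 r)) = xGL c (D.simple i) t := by
    have h1 : (L.map fun r => (r, t1 r)) = L.map fun r => (r, (0 : F)) := by
      apply List.map_congr_left
      intro r hr
      rw [ht1]
      simp only [if_neg ((hmem r).mp hr).1]
    rw [List.map_cons, wordGL_cons, h1, wordGL_zero, mul_one, ht1]
    simp only [if_true]
  have e2 : wordGL c ((D.simple i :: L).map fun r => (r, t2 r)) = xGL c (D.simple i) t := by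
    have h1 : (L.map fun r => (r, t2 r)) = L.map fun r => (r, t' r) := by
      apply List.map_congr_left
      intro r hr
      rw [ht2]
      simp only [if_neg ((hmem r).mp hr).1]
    rw [List.map_cons, wordGL_cons, h1, ← hw, ht2]
    simp only [if_true]
    rw [xGL_zero, one_mul]
  have h3 := congrArg (fun g : GL D.Idx F => (g : Matrix D.Idx D.Idx F)) (e1.trans e2.symm)
  simp only [wordGL_coe] at h3
  have h4 := unique_word c tc ac (D.simple i :: L) hnd' hpos' t1 t2 h3 (D.simple i)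
    (List.mem_cons_self ..)
  rw [ht1, ht2] at h4
  simpa using h4

end Cfsg.Agent.Lib.Helper44_GR_GCUA
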