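import Mathlib
import Cfsg.Agent.Lib.Helper40_ChevGreenDefs
import Cfsg.Agent.Lib.Helper40_ChevGreenXG
import Cfsg.Agent.Lib.Helper18_ChevData5
import Cfsg.Agent.Lib.Helper18_ChevBruhat

/-!
helper53: GREEN market (architect helper40, row S2441), package GC-ACT: the elements of the monomial
subgroup `N` of a Chevalley group permute the root subgroups by linear maps of the roots, and the
fundamental reflections are realised.
-/

set_option autoImplicit false

namespace Cfsg.Agent.Lib.Helper53_GR_GCACT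

open Cfsg Cfsg.Lie Cfsg.Agent.Lib.Helper40_ChevDZDefs Cfsg.Agent.Lib.Helper40_ChevGreenDefs
open Cfsg.Agent.Lib.Helper40_ChevGreenXG (xG_eq_xGL)
open Cfsg.Agent.Lib.Helper18_ChevGL Cfsg.Agent.Lib.Helper18_ChevSimp

variable (D : ChevalleyDatum)
  (hD : D ∈ [chevG2, chevB2, chevD4, chevF4, chevE6, chevE7, chevE8]) {F : Type*} [Field F]
include hD

theorem ch_act_exists : ∀ m, m ∈ cN D F → ∃ π, cIsAct D F m π := by
  obtain ⟨Ns, w, d, Ts, hT, K, base, stepT, wl, ws, sc, c, tc, gc, pc, ac⟩ :=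
    Cfsg.Agent.Lib.Helper18_ChevData5.exists_cert5 D hD
  intro m hm
  obtain ⟨π, hact, hlin⟩ := Cfsg.Agent.Lib.Helper18_ChevBruhat.nAct_of_mem_monomial c tc
    (m : GL D.Idx F) (Subgroup.mem_subgroupOf.mp hm)
  refine ⟨π, hlin, ?_⟩
  intro r hr
  obtain ⟨-, a, ha, hconj⟩ := hact r hr
  refine ⟨a, ha, fun t => ?_⟩
  apply Subtype.ext
  rw [Subgroup.coe_mul, Subgroup.coe_mul, Subgroup.coe_inv, xG_eq_xGL D c, xG_eq_xGL D c]
  exact hconj t

theorem ch_refl_act : ∀ i, i < D.rank → ∃ g : ↥(D.group F), cIsAct D F g (D.reflectRoot i) := by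
  obtain ⟨Ns, w, d, Ts, hT, K, base, stepT, wl, ws, sc, c, tc, gc, pc, ac⟩ :=
    Cfsg.Agent.Lib.Helper18_ChevData5.exists_cert5 D hD
  intro i hi
  refine ⟨⟨nGL c i, Cfsg.Agent.Lib.Helper18_ChevPar.nGL_mem_group c i⟩,
    Cfsg.Agent.Lib.Helper18_ChevBruhat.linMap_reflect c i hi, ?_⟩
  intro r hr
  obtain ⟨-, a, ha, hconj⟩ := actsAs_nGL (F := F) c i hi r hr
  refine ⟨a, ha, fun t => ?_⟩
  apply Subtype.ext
  rw [Subgroup.coe_mul, Subgroup.coe_mul, Subgroup.coe_inv, xG_eq_xGL D c, xG_eq_xGL D c]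
  exact hconj t

end Cfsg.Agent.Lib.Helper53_GR_GCACT
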