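import Mathlib
import Cfsg.Agent.Lib.Helper40_ChevGreenDefs
import Cfsg.Agent.Lib.Helper40_ChevGreenXG
import Cfsg.Agent.Lib.Helper18_ChevData5

/-!
# Green market (architect helper40, target S2441), package GC-RIGID

For `u ∈ U` and positive roots `r`, `s`: `u x_r(1) u⁻¹ = x_s(t)` forces `r = s`.

Proof: for the injective height `gl`, `u ∈ U` has `u - 1` raising the grading by `≥ 1` and `x_r(1) - 1` by
`≥ gl r`, so the commutator `u x_r(1) u⁻¹ x_r(1)⁻¹ - 1` raises it by `≥ gl r + 1`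
(`Helper18_MatTri.commutator_mem`).  Hence `x_s(t) - x_r(1)` raises the grading by `≥ gl r + 1`, and its
entries in the rows of the `h_i` and the column of `e_{-r}` vanish; for `s ≠ r` these are `- cor r i`,
which do not all vanish in `F`.
-/

set_option autoImplicit false
set_option linter.unusedSectionVars false
set_option linter.unusedVariables false

namespace Cfsg.Agent.Lib.Helper58_GR_GCRIGID

open Cfsg Cfsg.Lie Cfsg.Agent.Lib.Helper40_ChevDZDefs Cfsg.Agent.Lib.Helper40_ChevGreenDefs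
open Cfsg.Agent.Lib.Helper18_ChevFast Cfsg.Agent.Lib.Helper18_ChevEngine
  Cfsg.Agent.Lib.Helper18_ChevR1 Cfsg.Agent.Lib.Helper18_ChevN Cfsg.Agent.Lib.Helper18_ChevR4
  Cfsg.Agent.Lib.Helper18_ChevSimple Cfsg.Agent.Lib.Helper18_ChevSimple2 Cfsg.Agent.Lib.Helper18_ChevFacts
  Cfsg.Agent.Lib.Helper18_ChevWeyl Cfsg.Agent.Lib.Helper18_ChevDiag Cfsg.Agent.Lib.Helper18_ChevCar
  Cfsg.Agent.Lib.Helper18_ChevTorus Cfsg.Agent.Lib.Helper18_ChevGL Cfsg.Agent.Lib.Helper18_ChevComm
  Cfsg.Agent.Lib.Helper18_ChevComm2 Cfsg.Agent.Lib.Helper18_MatTri Cfsg.Agent.Lib.Helper18_ChevTri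
  Cfsg.Agent.Lib.Helper18_ChevBorel Cfsg.Agent.Lib.Helper18_ChevAdd Cfsg.Agent.Lib.Helper18_ChevUni

section core

variable {D : ChevalleyDatum} {F : Type*} [Field F] {Ns : List NData} {wl : List ℤ} {ws : List (List ℤ)}
  {sc : ℤ}

/-- the rigidity statement in `GL`, from the certificates -/
theorem rigid_GL (c : DCert D Ns) (tc : TCert D) (ac : ACert D wl ws sc)
    (u : GL D.Idx F) (hu : u ∈ D.posUnipotent F) (r s : ℕ) (hr : D.IsPosRoot r) (hs : D.IsPosRoot s)
    (t : F) (h : u * xGL c r 1 * u⁻¹ = xGL c s t) : r = s := by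
  by_contra hne
  have hg := isGrading_w c tc wl
  have hglr : 1 ≤ gl D wl r := ac.gl_pos r hr
  -- `U` is in the level one group
  have hU : D.posUnipotent F ≤ triSubgroup (R := F) (grIdx D (grRoot D wl)) 1 (by norm_num) := by
    unfold ChevalleyDatum.posUnipotent
    rw [Subgroup.closure_le]
    rintro g ⟨a, τ, ha, hga⟩
    show Raises _ _ _
    rw [hga]
    exact x_sub_one_raises hg a ha.1 1 (le_refl _) (ac.gl_pos a ha) τ
  have hu1 := hU hu
  have hx : xGL c r (1 : F) ∈ triSubgroup (R := F) (grIdx D (grRoot D wl)) (gl D wl r) (by omega) := by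
    show Raises _ _ _
    rw [xGL_coe]
    exact x_sub_one_raises hg r hr.1 _ hglr (le_refl _) 1
  have hcomm := commutator_mem (by norm_num) (by omega) hu1 hx
  rw [h] at hcomm
  -- `x_s(t) - x_r(1) = (x_s(t) x_r(1)⁻¹ - 1) x_r(1)`
  have hx0 := raises_zero_of_mem hx
  have hdiff : Raises (grIdx D (grRoot D wl)) (1 + gl D wl r) (D.x F s t - D.x F r 1) := by
    have e : D.x F s t - D.x F r 1 =
        (((xGL c s t * (xGL c r (1 : F))⁻¹ : GL D.Idx F) : Matrix D.Idx D.Idx F) - 1) *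
          ((xGL c r (1 : F) : GL D.Idx F) : Matrix D.Idx D.Idx F) := by
      rw [sub_mul, one_mul, ← Units.val_mul, inv_mul_cancel_right, xGL_coe, xGL_coe]
    rw [e]
    have := Raises.mul hcomm hx0
    rwa [add_zero] at this
  -- the entries in the column of `e_{-r}`
  have hnr := DCert.neg_lt c r hr.1
  have h1 : (1 : F) = 0 := by
    apply eq_zero_of_cor_mul ac r hr.1
    intro i hi
    have hz := hdiff (Sum.inl ⟨i, hi⟩) (Sum.inr ⟨D.neg r, hnr⟩) (by
      simp only [grIdx]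
      rw [grRoot_neg c tc wl r hr.1]
      unfold gl
      omega)
    rw [Matrix.sub_apply, x_entry_inl_neg c tc ac r s hr.1 hs.1 hnr,
      x_entry_inl_neg c tc ac r r hr.1 hr.1 hnr, if_neg (fun hsr => hne hsr.symm), if_pos rfl,
      zero_sub, neg_eq_zero] at hz
    exact hz
  exact one_ne_zero h1

end core

variable (D : ChevalleyDatum)
  (hD : D ∈ [chevG2, chevB2, chevD4, chevF4, chevE6, chevE7, chevE8]) {F : Type*} [Field F]
include hD

/-- **GC-RIGID**, verbatim. -/
theorem ch_rigid : ∀ u, u ∈ cU D F → ∀ r s, D.IsPosRoot r → D.IsPosRoot s → ∀ t : F,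
    u * xG D F r 1 * u⁻¹ = xG D F s t → r = s := by
  intro u hu r s hr hs t h
  obtain ⟨Ns, w, d, Ts, hT, K, base, stepT, wl, ws, sc, c, tc, gc, pc, ac⟩ :=
    Cfsg.Agent.Lib.Helper18_ChevData5.exists_cert5 D hD
  have huU : (u : GL D.Idx F) ∈ D.posUnipotent F := hu
  have h' : (u : GL D.Idx F) * xGL c r 1 * (u : GL D.Idx F)⁻¹ = xGL c s t := by
    have := congrArg (fun g : ↥(D.group F) => (g : GL D.Idx F)) h
    simp only [Subgroup.coe_mul, Subgroup.coe_inv] at this
    rw [Cfsg.Agent.Lib.Helper40_ChevGreenXG.xG_eq_xGL D c r 1,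
      Cfsg.Agent.Lib.Helper40_ChevGreenXG.xG_eq_xGL D c s t] at this
    exact this
  exact rigid_GL c tc ac (u : GL D.Idx F) huU r s hr hs t h'

end Cfsg.Agent.Lib.Helper58_GR_GCRIGID
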