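import Mathlib
import Cfsg.Prelude.Def_Characters
import Cfsg.Prelude.Def_ParabolicCharacters
import Cfsg.Prelude.Def_LinearParabolics
import Cfsg.Prelude.Def_Blocks
import Cfsg.Prelude.Def_Solvable
import Cfsg.Agent.Lib.Helper40_DefZeroDefs
import Cfsg.Agent.Lib.Helper40_SLBNDefs
import Cfsg.Agent.Lib.Helper40_SLBNDefs2
import Cfsg.Agent.Lib.Helper81_CharOrth
import Cfsg.Agent.Lib.Helper99_DZ_BLKCONJ
import Cfsg.Agent.S0906
import Cfsg.Agent.S0908

/-!
# DEFZERO market, wave 2, package BLKCOUNT (helper78)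

If all defect groups are trivial or Sylow, the number of `p`-blocks is the number of blocks of
defect zero plus the number of blocks with defect group a fixed Sylow `p`-subgroup `P₀`.
-/

set_option autoImplicit false
open Cfsg Cfsg.Agent.Lib.Helper40_DefZeroDefs Cfsg.Agent.Lib.Helper40_SLBNDefs
open Matrix
open scoped MatrixGroups

namespace Cfsg.Agent.Lib.Helper78_DZ_BLKCOUNT

variable {G : Type*} [Group G] [Finite G] (p : ℕ) [Fact p.Prime] (M : Ideal Cfsg.AlgInt)

/-- Every block has a defect group. -/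
theorem exists_defectGroup' (hM : Cfsg.IsPModular p M) (B : Set (Cfsg.IrrCharacter G))
    (hB : Cfsg.IsPBlock M B) : ∃ D : Subgroup G, Cfsg.IsDefectGroup p M B D := by
  obtain ⟨g, hg⟩ := Cfsg.Agent.S0906.result p M hM B hB
  obtain ⟨P⟩ : Nonempty (Sylow p (Subgroup.centralizer ({g} : Set G))) := inferInstance
  exact ⟨_, g, hg, P, rfl⟩

/-- Under the dichotomy hypothesis, a block has defect zero or `P₀` as a defect group. -/
theorem defect_zero_or_sylow (hM : Cfsg.IsPModular p M)
    (h : ∀ (B : Set (Cfsg.IrrCharacter G)) (D : Subgroup G), Cfsg.IsPBlock M B →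
      Cfsg.IsDefectGroup p M B D → D = ⊥ ∨ Nat.card D = p ^ (Nat.card G).factorization p)
    (P₀ : Sylow p G) (B : Set (Cfsg.IrrCharacter G)) (hB : Cfsg.IsPBlock M B) :
    Cfsg.blockDefect p B = 0 ∨ Cfsg.IsDefectGroup p M B (P₀ : Subgroup G) := by
  obtain ⟨D, hD⟩ := exists_defectGroup' p M hM B hB
  have hcard := Cfsg.Agent.S0908.result p M hM B hB D hD
  have hp : p.Prime := Fact.out
  rcases h B D hB hD with h0 | h1
  · left
    rw [h0, Subgroup.card_bot] at hcard
    by_contra hne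
    have : 1 < p ^ Cfsg.blockDefect p B := Nat.one_lt_pow hne hp.one_lt
    omega
  · right
    obtain ⟨x, hx⟩ := MulAction.exists_smul_eq G (Sylow.ofCard D h1) P₀
    have hconj := Cfsg.Agent.Lib.Helper99_DZ_BLKCONJ.blk_conj p M B D hD x
    have hcoe : ((x • Sylow.ofCard D h1 : Sylow p G) : Subgroup G) =
        D.map (MulAut.conj x).toMonoidHom := rfl
    rw [← hx, hcoe]
    exact hconj

/-- The two alternatives exclude each other when `p` divides the group order. -/
theorem not_defect_zero_and_sylow (hM : Cfsg.IsPModular p M) (hp : p ∣ Nat.card G)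
    (P₀ : Sylow p G) (B : Set (Cfsg.IrrCharacter G)) (hB : Cfsg.IsPBlock M B)
    (h0 : Cfsg.blockDefect p B = 0) (h1 : Cfsg.IsDefectGroup p M B (P₀ : Subgroup G)) : False := by
  have hcard := Cfsg.Agent.S0908.result p M hM B hB _ h1
  have hpp : p.Prime := Fact.out
  rw [h0, pow_zero] at hcard
  have h2 : Nat.card (P₀ : Subgroup G) = p ^ (Nat.card G).factorization p :=
    Sylow.card_eq_multiplicity P₀
  have hG : Nat.card G ≠ 0 := Nat.card_pos.ne'
  have ha : 1 ≤ (Nat.card G).factorization p :=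
    (hpp.dvd_iff_one_le_factorization hG).mp hp
  have : 1 < p ^ (Nat.card G).factorization p := Nat.one_lt_pow (by omega) hpp.one_lt
  omega

/-- BLKCOUNT. -/
theorem blk_count (hM : Cfsg.IsPModular p M) (hp : p ∣ Nat.card G)
    (h : ∀ (B : Set (Cfsg.IrrCharacter G)) (D : Subgroup G), Cfsg.IsPBlock M B →
      Cfsg.IsDefectGroup p M B D → D = ⊥ ∨ Nat.card D = p ^ (Nat.card G).factorization p)
    (P₀ : Sylow p G) :
    Nat.card {B : Set (Cfsg.IrrCharacter G) // Cfsg.IsPBlock M B} =
      Nat.card {B : Set (Cfsg.IrrCharacter G) // Cfsg.IsPBlock M B ∧ Cfsg.blockDefect p B = 0} +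
      Nat.card {B : Set (Cfsg.IrrCharacter G) // Cfsg.IsPBlock M B ∧
        Cfsg.IsDefectGroup p M B (P₀ : Subgroup G)} := by
  classical
  have hfin : Finite (Cfsg.IrrCharacter G) := inferInstance
  have key : ∀ B : Set (Cfsg.IrrCharacter G), Cfsg.IsPBlock M B →
      (¬ Cfsg.blockDefect p B = 0 ↔ Cfsg.IsDefectGroup p M B (P₀ : Subgroup G)) := by
    intro B hB
    constructor
    · intro h0
      exact (defect_zero_or_sylow p M hM h P₀ B hB).resolve_left h0
    · intro h1 h0
      exact not_defect_zero_and_sylow p M hM hp P₀ B hB h0 h1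
  let e0 : {B : Set (Cfsg.IrrCharacter G) // Cfsg.IsPBlock M B ∧ Cfsg.blockDefect p B = 0} ≃
      {x : {B : Set (Cfsg.IrrCharacter G) // Cfsg.IsPBlock M B} //
        Cfsg.blockDefect p (x : Set (Cfsg.IrrCharacter G)) = 0} :=
    (Equiv.subtypeSubtypeEquivSubtypeInter _ _).symm
  let e1 : {B : Set (Cfsg.IrrCharacter G) // Cfsg.IsPBlock M B ∧
        Cfsg.IsDefectGroup p M B (P₀ : Subgroup G)} ≃
      {x : {B : Set (Cfsg.IrrCharacter G) // Cfsg.IsPBlock M B} //
        ¬ Cfsg.blockDefect p (x : Set (Cfsg.IrrCharacter G)) = 0} :=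
    ((Equiv.subtypeSubtypeEquivSubtypeInter _ _).symm).trans
      (Equiv.subtypeEquivRight (fun x => (key x.1 x.2).symm))
  rw [Nat.card_congr e0, Nat.card_congr e1, ← Nat.card_sum]
  exact Nat.card_congr (Equiv.sumCompl _).symm

end Cfsg.Agent.Lib.Helper78_DZ_BLKCOUNT
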