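import Mathlib
import Cfsg.Agent.Lib.Helper40_ChevGreenDefs
import Cfsg.Agent.Lib.Helper40_ChevGreenXG
import Cfsg.Agent.Lib.Helper18_ChevData5
import Cfsg.Agent.Lib.Helper18_ChevLevi
import Cfsg.Agent.Lib.Helper18_ChevUni

/-!
# Green market (architect helper40, S2441), package GC-UIJ: `ch_uij_normal`, `ch_uij_compl`

`U_{ij}` (the unipotent radical of the rank 2 parabolic `P_{ij}`) is normalised by `U`, and contains no
nontrivial root element of the rank 2 subsystem.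
-/

set_option autoImplicit false
set_option linter.unusedSectionVars false
set_option linter.unusedVariables false

namespace Cfsg.Agent.Lib.Helper86_GR_GCUIJ

open Cfsg Cfsg.Lie Cfsg.Agent.Lib.Helper40_ChevDZDefs Cfsg.Agent.Lib.Helper40_ChevGreenDefs
open Cfsg.Agent.Lib.Helper18_ChevGL Cfsg.Agent.Lib.Helper18_ChevFast Cfsg.Agent.Lib.Helper18_ChevWeyl
  Cfsg.Agent.Lib.Helper18_ChevN Cfsg.Agent.Lib.Helper18_ChevAdd Cfsg.Agent.Lib.Helper18_ChevUni
  Cfsg.Agent.Lib.Helper18_ChevLevi Cfsg.Agent.Lib.Helper18_ChevTorus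

section aux

variable {D : ChevalleyDatum} {Ns : List NData} {F : Type*} [Field F]
variable {wl : List ℤ} {ws : List (List ℤ)} {sc : ℤ}

/-- a trivial root element has parameter `0` -/
theorem param_eq_zero_of_x_eq_one (c : DCert D Ns) (tc : TCert D) (ac : ACert D wl ws sc) (r : ℕ)
    (hr : r < D.nroots) (t : F) (h : D.x F r t = 1) : t = 0 := by
  have hnr := DCert.neg_lt c r hr
  apply eq_zero_of_cor_mul ac r hr
  intro i hi
  have h1 := x_entry_inl_neg c tc ac r r hr hr hnr ⟨i, hi⟩ t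
  rw [if_pos rfl, h, Matrix.one_apply_ne (by simp)] at h1
  exact h1.symm

end aux

variable (D : ChevalleyDatum)
  (hD : D ∈ [chevG2, chevB2, chevD4, chevF4, chevE6, chevE7, chevE8]) {F : Type*} [Field F]
include hD

theorem ch_uij_normal : ∀ i, i < D.rank → ∀ j, j < D.rank → ∀ u, u ∈ cU D F →
    ∀ g, g ∈ Subgroup.closure {g | ∃ r t, D.IsPosRoot r ∧ ¬ cSub2 D i j r ∧ g = xG D F r t} →
      u * g * u⁻¹ ∈ Subgroup.closure {g | ∃ r t, D.IsPosRoot r ∧ ¬ cSub2 D i j r ∧ g = xG D F r t} := by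
  intro i hi j hj u hu g hg
  obtain ⟨Ns, w, d, Ts, hT, K, base, stepT, wl, ws, sc, c, tc, gc, pc, ac⟩ :=
    Cfsg.Agent.Lib.Helper18_ChevData5.exists_cert5 D hD
  have hR2 : R2All D F := Cfsg.Agent.Lib.Helper18_ChevComm2.r2_all c pc
  have e := Cfsg.Agent.Lib.Helper40_ChevGreenXG.cUJ_eq D hD (F := F) ({i, j} : Set ℕ)
  have e' : Subgroup.closure {g : ↥(D.group F) | ∃ r t, D.IsPosRoot r ∧ ¬ cSub2 D i j r ∧ g = xG D F r t} =
      (D.unipotentRadical F ({i, j} : Set ℕ)).subgroupOf (D.group F) := e.symm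
  rw [e'] at hg ⊢
  rw [Subgroup.mem_subgroupOf] at hg ⊢
  have hu' : (u : GL D.Idx F) ∈ D.posUnipotent F := hu
  have hpar : (u : GL D.Idx F) ∈ D.parabolicSubgroup F ({i, j} : Set ℕ) :=
    borel_le_parabolic _ (Subgroup.mem_sup_left hu')
  have hn := parabolic_le_normalizer ({i, j} : Set ℕ) c tc ac hR2 hpar
  exact (Subgroup.mem_normalizer_iff.mp hn _).mp hg

theorem ch_uij_compl : ∀ i, i < D.rank → ∀ j, j < D.rank → ∀ r, D.IsPosRoot r → cSub2 D i j r → ∀ t : F,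
    xG D F r t ∈ Subgroup.closure {g | ∃ r t, D.IsPosRoot r ∧ ¬ cSub2 D i j r ∧ g = xG D F r t} →
      t = 0 := by
  intro i hi j hj r hr hsub t ht
  obtain ⟨Ns, w, d, Ts, hT, K, base, stepT, wl, ws, sc, c, tc, gc, pc, ac⟩ :=
    Cfsg.Agent.Lib.Helper18_ChevData5.exists_cert5 D hD
  have e := Cfsg.Agent.Lib.Helper40_ChevGreenXG.cUJ_eq D hD (F := F) ({i, j} : Set ℕ)
  have e' : Subgroup.closure {g : ↥(D.group F) | ∃ r t, D.IsPosRoot r ∧ ¬ cSub2 D i j r ∧ g = xG D F r t} =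
      (D.unipotentRadical F ({i, j} : Set ℕ)).subgroupOf (D.group F) := e.symm
  rw [e', Subgroup.mem_subgroupOf, Cfsg.Agent.Lib.Helper40_ChevGreenXG.xG_eq_xGL D c r t] at ht
  have hlevi : xGL c r t ∈ D.leviSubgroup F ({i, j} : Set ℕ) := xGL_mem_levi _ c r hsub t
  have hbot : xGL c r t ∈ D.unipotentRadical F ({i, j} : Set ℕ) ⊓ D.leviSubgroup F ({i, j} : Set ℕ) :=
    Subgroup.mem_inf.mpr ⟨ht, hlevi⟩
  rw [unipotentRadical_inf_levi _ c tc ac, Subgroup.mem_bot] at hbot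
  have h1 : D.x F r t = 1 := by
    have := congrArg (fun g : GL D.Idx F => (g : Matrix D.Idx D.Idx F)) hbot
    simpa using this
  exact param_eq_zero_of_x_eq_one c tc ac r hr.1 t h1

end Cfsg.Agent.Lib.Helper86_GR_GCUIJ
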