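import Mathlib
import Cfsg.Agent.Lib.Helper40_ChevGreenDefs
import Cfsg.Agent.Lib.Helper40_ChevGreenXG
import Cfsg.Agent.Lib.Helper18_ChevData5

set_option autoImplicit false

/-!
Green market (helper40, target S2441), package GC-CONN: the Dynkin diagrams of
`G2, B2, D4, F4, E6, E7, E8` are connected.  (helper89)
-/

namespace Cfsg.Agent.Lib.Helper89_GR_GCCONN

open Cfsg Cfsg.Lie Cfsg.Agent.Lib.Helper40_ChevDZDefs Cfsg.Agent.Lib.Helper40_ChevGreenDefs

/-- a graph on `{0, …, rank-1}` in which every node of positive level has a neighbour of smaller level,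
and with at most one node of level zero, is connected -/
theorem conn_of_tree (rank : ℕ) (adj : ℕ → ℕ → Prop) (par lvl : ℕ → ℕ)
    (h : ∀ k, k < rank → lvl k ≠ 0 → par k < rank ∧ lvl (par k) < lvl k ∧ adj (par k) k ∧ adj k (par k))
    (h0 : ∀ k, k < rank → ∀ k', k' < rank → lvl k = 0 → lvl k' = 0 → k = k')
    (K : ℕ → Prop) (hK : ∃ k, k < rank ∧ K k) (hnK : ∃ k, k < rank ∧ ¬ K k) :
    ∃ i, i < rank ∧ ∃ j, j < rank ∧ ¬ K i ∧ K j ∧ adj i j := by
  classical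
  by_contra hcon
  have hcon' : ∀ i, i < rank → ∀ j, j < rank → ¬ K i → K j → ¬ adj i j := by
    intro i hi j hj h1 h2 h3
    exact hcon ⟨i, hi, j, hj, h1, h2, h3⟩
  have key : ∀ n : ℕ, ∀ k, k < rank → lvl k = n → ∃ r, r < rank ∧ lvl r = 0 ∧ (K k ↔ K r) := by
    intro n
    induction n using Nat.strong_induction_on with
    | _ n ih =>
      intro k hk hn
      by_cases hz : lvl k = 0
      · exact ⟨k, hk, hz, Iff.rfl⟩
      · obtain ⟨hp, hl, ha, hb⟩ := h k hk hz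
        obtain ⟨r, hr, hr0, hiff⟩ := ih (lvl (par k)) (hn ▸ hl) (par k) hp rfl
        refine ⟨r, hr, hr0, ?_⟩
        rw [← hiff]
        constructor
        · intro hKk
          by_contra hKp
          exact hcon' (par k) hp k hk hKp hKk ha
        · intro hKp
          by_contra hKk
          exact hcon' k hk (par k) hp hKk hKp hb
  obtain ⟨a, ha, hKa⟩ := hK
  obtain ⟨b, hb, hKb⟩ := hnK
  obtain ⟨ra, hra, hra0, hia⟩ := key _ a ha rfl
  obtain ⟨rb, hrb, hrb0, hib⟩ := key _ b hb rfl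
  have := h0 ra hra rb hrb hra0 hrb0
  subst this
  exact hKb (hib.mpr (hia.mp hKa))

/-- parents for a path `0 - 1 - 2 - …` -/
def parP (k : ℕ) : ℕ := k - 1

/-- parents for `D4` (centre `1`) -/
def parD (_ : ℕ) : ℕ := 1

/-- levels for `D4` -/
def lvlD (k : ℕ) : ℕ := if k = 1 then 0 else 1

/-- parents for `E6, E7, E8` (Bourbaki numbering, rooted at `0`) -/
def parE (k : ℕ) : ℕ := [0, 3, 0, 2, 3, 4, 5, 6].getD k 0

/-- levels for `E6, E7, E8` -/
def lvlE (k : ℕ) : ℕ := [0, 3, 1, 2, 3, 4, 5, 6].getD k 0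

theorem treeG2 : ∀ k, k < 2 → id k ≠ 0 → parP k < 2 ∧ id (parP k) < id k ∧
    (parP k ≠ k ∧ chevG2.cartan (parP k) (chevG2.simple k) ≠ 0) ∧
    (k ≠ parP k ∧ chevG2.cartan k (chevG2.simple (parP k)) ≠ 0) := by
  decide +kernel

theorem treeB2 : ∀ k, k < 2 → id k ≠ 0 → parP k < 2 ∧ id (parP k) < id k ∧
    (parP k ≠ k ∧ chevB2.cartan (parP k) (chevB2.simple k) ≠ 0) ∧
    (k ≠ parP k ∧ chevB2.cartan k (chevB2.simple (parP k)) ≠ 0) := by
  decide +kernel

theorem treeF4 : ∀ k, k < 4 → id k ≠ 0 → parP k < 4 ∧ id (parP k) < id k ∧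
    (parP k ≠ k ∧ chevF4.cartan (parP k) (chevF4.simple k) ≠ 0) ∧
    (k ≠ parP k ∧ chevF4.cartan k (chevF4.simple (parP k)) ≠ 0) := by
  decide +kernel

theorem treeD4 : ∀ k, k < 4 → lvlD k ≠ 0 → parD k < 4 ∧ lvlD (parD k) < lvlD k ∧
    (parD k ≠ k ∧ chevD4.cartan (parD k) (chevD4.simple k) ≠ 0) ∧
    (k ≠ parD k ∧ chevD4.cartan k (chevD4.simple (parD k)) ≠ 0) := by
  decide +kernel

theorem treeE6 : ∀ k, k < 6 → lvlE k ≠ 0 → parE k < 6 ∧ lvlE (parE k) < lvlE k ∧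
    (parE k ≠ k ∧ chevE6.cartan (parE k) (chevE6.simple k) ≠ 0) ∧
    (k ≠ parE k ∧ chevE6.cartan k (chevE6.simple (parE k)) ≠ 0) := by
  decide +kernel

theorem treeE7 : ∀ k, k < 7 → lvlE k ≠ 0 → parE k < 7 ∧ lvlE (parE k) < lvlE k ∧
    (parE k ≠ k ∧ chevE7.cartan (parE k) (chevE7.simple k) ≠ 0) ∧
    (k ≠ parE k ∧ chevE7.cartan k (chevE7.simple (parE k)) ≠ 0) := by
  decide +kernel

theorem treeE8 : ∀ k, k < 8 → lvlE k ≠ 0 → parE k < 8 ∧ lvlE (parE k) < lvlE k ∧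
    (parE k ≠ k ∧ chevE8.cartan (parE k) (chevE8.simple k) ≠ 0) ∧
    (k ≠ parE k ∧ chevE8.cartan k (chevE8.simple (parE k)) ≠ 0) := by
  decide +kernel

theorem rootP (n : ℕ) : ∀ k, k < n → ∀ k', k' < n → id k = 0 → id k' = 0 → k = k' := by
  intro k _ k' _ h1 h2
  simp only [id] at h1 h2
  omega

theorem rootD : ∀ k, k < 4 → ∀ k', k' < 4 → lvlD k = 0 → lvlD k' = 0 → k = k' := by
  decide

theorem rootE : ∀ k, k < 8 → ∀ k', k' < 8 → lvlE k = 0 → lvlE k' = 0 → k = k' := by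
  decide

variable (D : ChevalleyDatum)
  (hD : D ∈ [chevG2, chevB2, chevD4, chevF4, chevE6, chevE7, chevE8]) {F : Type*} [Field F]

include hD

/-- **GC-CONN**. -/
theorem ch_conn : ∀ K : ℕ → Prop, (∃ k, k < D.rank ∧ K k) → (∃ k, k < D.rank ∧ ¬ K k) →
    ∃ i, i < D.rank ∧ ∃ j, j < D.rank ∧ ¬ K i ∧ K j ∧ cAdj D i j := by
  intro K hK hnK
  simp only [List.mem_cons, List.not_mem_nil, or_false] at hD
  rcases hD with rfl | rfl | rfl | rfl | rfl | rfl | rfl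
  · exact conn_of_tree 2 (cAdj chevG2) parP id treeG2 (rootP 2) K hK hnK
  · exact conn_of_tree 2 (cAdj chevB2) parP id treeB2 (rootP 2) K hK hnK
  · exact conn_of_tree 4 (cAdj chevD4) parD lvlD treeD4 rootD K hK hnK
  · exact conn_of_tree 4 (cAdj chevF4) parP id treeF4 (rootP 4) K hK hnK
  · exact conn_of_tree 6 (cAdj chevE6) parE lvlE treeE6
      (fun k hk k' hk' => rootE k (by omega) k' (by omega)) K hK hnK
  · exact conn_of_tree 7 (cAdj chevE7) parE lvlE treeE7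
      (fun k hk k' hk' => rootE k (by omega) k' (by omega)) K hK hnK
  · exact conn_of_tree 8 (cAdj chevE8) parE lvlE treeE8 rootE K hK hnK

end Cfsg.Agent.Lib.Helper89_GR_GCCONN
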