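import Mathlib
import Cfsg.Prelude.Def_Blocks
import Cfsg.Agent.Lib.Helper77_RegClasses
import Cfsg.Agent.Lib.Helper77_MatrixLocal
import Cfsg.Agent.Lib.Helper77_CentralInt

set_option autoImplicit false

namespace Cfsg.Agent.Lib.Helper77_BlockCount

open Cfsg Cfsg.Agent.Lib.Helper78_LocalRing Cfsg.Agent.Lib.Helper77_BlockBasics
  Cfsg.Agent.Lib.Helper78_Osima Cfsg.Agent.Lib.Helper78_CharFacts
  Cfsg.Agent.Lib.Helper77_RegClasses Cfsg.Agent.Lib.Helper78_CentralChar
  Cfsg.Agent.Lib.Helper77_MatrixLocal

open scoped ComplexConjugate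

/-- A rectangular pair of matrices whose product is congruent to the identity forces the
index sets to be comparable in size. -/
theorem card_le_of_mul_congr_one {M : Ideal AlgInt} (hM : M.IsPrime) {m n : Type*} [Fintype m]
    [Fintype n] [DecidableEq m] [DecidableEq n] (A : Matrix m n ℂ) (B : Matrix n m ℂ)
    (h : EntI M (A * B - 1)) : Fintype.card m ≤ Fintype.card n := by
  have hdet : (A * B).det ≠ 0 := det_ne_zero_of_entI_sub_one hM h
  have hunit : IsUnit (A * B) := (Matrix.isUnit_iff_isUnit_det _).mpr (isUnit_iff_ne_zero.mpr hdet)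
  calc Fintype.card m = (A * B).rank := (Matrix.rank_of_isUnit _ hunit).symm
    _ ≤ A.rank := Matrix.rank_mul_le_left A B
    _ ≤ Fintype.card n := Matrix.rank_le_card_width A

/-- **Counting blocks by classes.** If `PB` selects some blocks and `PK` some conjugacy classes, and
for any two selected blocks `B`, `B'` the product of the idempotent coefficient of `B'` and the
central character of `B` lies in the local ideal at every class that is not selected, then there are
at most as many selected blocks as selected classes. -/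
theorem card_blocks_le_card_classes {G : Type*} [Group G] [Finite G] {p : ℕ} {M : Ideal AlgInt}
    (hM : IsPModular p M) (PB : Set (IrrCharacter G) → Prop) (PK : ConjClasses G → Prop)
    (hPB : ∀ B, PB B → IsPBlock M B)
    (hker : ∀ B B', PB B → PB B' → ∀ χ ∈ B, ∀ c : ConjClasses G, ¬ PK c →
      MemLocalIdeal M (blockCoeff B' c.out * centralChar (χ : G → ℂ) c.out)) :
    Nat.card {B : Set (IrrCharacter G) // PB B} ≤ Nat.card {C : ConjClasses G // PK C} := by
  classical
  have := Fintype.ofFinite G
  have hMp : M.IsPrime := hM.2.1.isPrime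
  have hfin : Finite (IrrCharacter G) := charFacts.finite
  have := Fintype.ofFinite {B : Set (IrrCharacter G) // PB B}
  have := Fintype.ofFinite {C : ConjClasses G // PK C}
  have := Fintype.ofFinite (ConjClasses G)
  rw [Nat.card_eq_fintype_card, Nat.card_eq_fintype_card]
  have hne : ∀ B : {B : Set (IrrCharacter G) // PB B}, ∃ χ : IrrCharacter G, χ ∈ B.1 :=
    fun B => isPBlock_nonempty hMp (hPB B.1 B.2)
  choose χ hχ using hne
  set A : Matrix {B : Set (IrrCharacter G) // PB B} {C : ConjClasses G // PK C} ℂ :=
    Matrix.of fun B C => centralChar ((χ B : IrrCharacter G) : G → ℂ) C.1.out with hA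
  set Bm : Matrix {C : ConjClasses G // PK C} {B : Set (IrrCharacter G) // PB B} ℂ :=
    Matrix.of fun C B' => blockCoeff B'.1 C.1.out with hBm
  refine card_le_of_mul_congr_one hMp A Bm ?_
  intro B B'
  rw [Matrix.sub_apply, Matrix.mul_apply]
  simp only [hA, hBm, Matrix.of_apply]
  -- the full sum over all classes
  have hfull : ∑ c : ConjClasses G, blockCoeff B'.1 c.out *
      centralChar ((χ B : IrrCharacter G) : G → ℂ) c.out =
      (1 : Matrix {B : Set (IrrCharacter G) // PB B} {B : Set (IrrCharacter G) // PB B} ℂ)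
        B B' := by
    rw [← omega_eq_sum_conjClasses (isIrrCharacter_isClassFunction (χ B).2)
      (blockCoeff_isClassFunction B'.1), omega_blockCoeff charFacts]
    by_cases hBB : B = B'
    · subst hBB
      rw [Matrix.one_apply_eq, Set.indicator_of_mem (hχ B)]
    · rw [Matrix.one_apply_ne hBB, Set.indicator_of_notMem]
      intro hmem
      apply hBB
      apply Subtype.ext
      exact isPBlock_eq_of_mem_of_mem hMp (hPB B.1 B.2) (hPB B'.1 B'.2) (hχ B) hmem
  rw [← hfull]
  have hsplit : ∑ c : ConjClasses G, blockCoeff B'.1 c.out *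
      centralChar ((χ B : IrrCharacter G) : G → ℂ) c.out =
      ∑ C : {C : ConjClasses G // PK C}, blockCoeff B'.1 C.1.out *
        centralChar ((χ B : IrrCharacter G) : G → ℂ) C.1.out +
      ∑ c ∈ Finset.univ.filter (fun c : ConjClasses G => ¬ PK c), blockCoeff B'.1 c.out *
        centralChar ((χ B : IrrCharacter G) : G → ℂ) c.out := by
    rw [← Finset.sum_filter_add_sum_filter_not Finset.univ PK]
    congr 1
    rw [Finset.sum_subtype (Finset.univ.filter PK) (p := PK)]
    intro c
    simp
  rw [hsplit]
  have hcomm : ∑ C : {C : ConjClasses G // PK C},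
      centralChar ((χ B : IrrCharacter G) : G → ℂ) C.1.out * blockCoeff B'.1 C.1.out =
      ∑ C : {C : ConjClasses G // PK C}, blockCoeff B'.1 C.1.out *
        centralChar ((χ B : IrrCharacter G) : G → ℂ) C.1.out :=
    Finset.sum_congr rfl fun C _ => mul_comm _ _
  rw [hcomm, sub_add_cancel_left]
  apply memLocalIdeal_neg
  apply memLocalIdeal_sum hMp
  intro c hc
  exact hker B.1 B'.1 B.2 B'.2 (χ B) (hχ B) c (Finset.mem_filter.mp hc).2

end Cfsg.Agent.Lib.Helper77_BlockCount
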