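import Mathlib
import Cfsg.Prelude.Def_Solvable
import Cfsg.Agent.Lib.Helper1_Cores

/-!
# Groups with a normal Sylow `p`-subgroup: `p`-regular elements centralizing it (helper82)

`mem_pPrimeCore_of_centralizes`: if `Q` is a normal Sylow `p`-subgroup of the finite group `H`,
every `p`-regular element of `C_H(Q)` lies in `O_{p'}(H)`.
-/

set_option autoImplicit false

namespace Cfsg.Agent.Lib.Helper82_NormalSylowCore

open Cfsg

variable {H : Type*} [Group H]

/-- A `p`-regular element centralizing a normal Sylow `p`-subgroup lies in the `p'`-core. -/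
theorem mem_pPrimeCore_of_centralizes [Finite H] {p : ℕ} [Fact p.Prime] (Q : Sylow p H)
    (hQn : (Q : Subgroup H).Normal) {u : H}
    (hu : u ∈ Subgroup.centralizer ((Q : Subgroup H) : Set H)) (hreg : ¬ p ∣ orderOf u) :
    u ∈ pPrimeCore p H := by
  classical
  have hp : p.Prime := Fact.out
  have hcop : (Nat.card (Q : Subgroup H)).Coprime (Q : Subgroup H).index := Q.card_coprime_index
  obtain ⟨L, hL⟩ := Subgroup.exists_right_complement'_of_coprime hcop
  have hLcard : Nat.card L = (Q : Subgroup H).index := (hL.symm.index_eq_card).symm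
  have hLp : ¬ p ∣ Nat.card L := by
    rw [hLcard]
    exact Q.not_dvd_index
  have hCn : (Subgroup.centralizer ((Q : Subgroup H) : Set H)).Normal := inferInstance
  -- decomposition of elements
  have hdec : ∀ h : H, ∃ q ∈ (Q : Subgroup H), ∃ l ∈ L, h = q * l := by
    intro h
    obtain ⟨⟨x, y⟩, hxy, -⟩ := (Subgroup.isComplement_iff_existsUnique.mp hL) h
    exact ⟨x.1, x.2, y.1, y.2, hxy.symm⟩
  -- elements of `Q` commute with elements of the centralizer
  have hcomm : ∀ q ∈ (Q : Subgroup H), ∀ c ∈ Subgroup.centralizer ((Q : Subgroup H) : Set H),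
      q * c = c * q := fun q hq c hc => Subgroup.mem_centralizer_iff.mp hc q hq
  -- the normal `p'`-subgroup
  set K : Subgroup H := L ⊓ Subgroup.centralizer ((Q : Subgroup H) : Set H) with hK
  have hKn : K.Normal := by
    constructor
    intro k hk h
    obtain ⟨q, hq, l, hl, rfl⟩ := hdec h
    have hk' : l * k * l⁻¹ ∈ K :=
      ⟨L.mul_mem (L.mul_mem hl hk.1) (L.inv_mem hl), hCn.conj_mem k hk.2 l⟩
    have e : q * l * k * (q * l)⁻¹ = l * k * l⁻¹ := by
      have h1 := hcomm q hq _ hk'.2
      calc q * l * k * (q * l)⁻¹ = q * (l * k * l⁻¹) * q⁻¹ := by group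
        _ = (l * k * l⁻¹) * q * q⁻¹ := by rw [h1]
        _ = l * k * l⁻¹ := by group
    rw [e]
    exact hk'
  have hKcard : (Nat.card K).Coprime p := by
    rw [Nat.coprime_comm]
    apply (Nat.Prime.coprime_iff_not_dvd hp).mpr
    intro hd
    exact hLp (dvd_trans hd (Subgroup.card_dvd_of_le inf_le_left))
  have hKle : K ≤ pPrimeCore p H := Cfsg.Agent.Lib.Helper1_Cores.le_pPrimeCore hKn hKcard
  apply hKle
  -- decompose `u`
  obtain ⟨q, hq, l, hl, hul⟩ := hdec u
  -- orders
  have hlord : (orderOf l).Coprime p := by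
    rw [Nat.coprime_comm]
    apply (Nat.Prime.coprime_iff_not_dvd hp).mpr
    intro hd
    apply hLp
    have h1 : orderOf l ∣ Nat.card L := by
      have := orderOf_dvd_natCard (⟨l, hl⟩ : L)
      rwa [Subgroup.orderOf_mk] at this
    exact dvd_trans hd h1
  obtain ⟨k, hk⟩ := (IsPGroup.iff_orderOf.mp Q.isPGroup') ⟨q, hq⟩
  rw [Subgroup.orderOf_mk] at hk
  -- the conjugation action on `Q`
  let φ : H →* MulAut (Q : Subgroup H) := MulAut.conjNormal
  have hφu : φ u = 1 := by
    ext x
    show ((MulAut.conjNormal u x : (Q : Subgroup H)) : H) = x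
    rw [MulAut.conjNormal_apply]
    have := hcomm x x.2 u hu
    calc u * (x : H) * u⁻¹ = (x : H) * u * u⁻¹ := by rw [← this]
      _ = x := by group
  have hφl : φ l = (φ q)⁻¹ := by
    have : φ q * φ l = 1 := by rw [← map_mul, ← hul, hφu]
    exact eq_inv_of_mul_eq_one_right this
  have hord1 : orderOf (φ l) ∣ orderOf l := orderOf_map_dvd φ l
  have hord2 : orderOf (φ l) ∣ p ^ k := by
    rw [hφl, orderOf_inv, ← hk]
    exact orderOf_map_dvd φ q
  have hφl1 : φ l = 1 := by
    rw [← orderOf_eq_one_iff]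
    have hc : (orderOf l).Coprime (p ^ k) := hlord.pow_right k
    exact Nat.eq_one_of_dvd_coprimes hc hord1 hord2
  -- `l` centralizes `Q`
  have hlC : l ∈ Subgroup.centralizer ((Q : Subgroup H) : Set H) := by
    rw [Subgroup.mem_centralizer_iff]
    intro x hx
    have h1 : ((φ l ⟨x, hx⟩ : (Q : Subgroup H)) : H) = x := by rw [hφl1]; rfl
    have h2 : ((φ l ⟨x, hx⟩ : (Q : Subgroup H)) : H) = l * x * l⁻¹ := by
      show ((MulAut.conjNormal l ⟨x, hx⟩ : (Q : Subgroup H)) : H) = l * x * l⁻¹
      rw [MulAut.conjNormal_apply]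
    rw [h2] at h1
    calc x * l = (l * x * l⁻¹) * l := by rw [h1]
      _ = l * x := by group
  -- `q` commutes with `l`, so `u ^ m = q ^ m`
  have hql : Commute q l := hcomm q hq l hlC
  have hum : u ^ orderOf l = q ^ orderOf l := by
    rw [hul, hql.mul_pow, pow_orderOf_eq_one, mul_one]
  have hq1 : q ^ orderOf l = 1 := by
    rw [← orderOf_eq_one_iff]
    have h1 : orderOf (q ^ orderOf l) ∣ p ^ k := by
      rw [← hk]; exact orderOf_pow_dvd _
    have h2 : orderOf (q ^ orderOf l) ∣ orderOf u := by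
      rw [← hum]; exact orderOf_pow_dvd _
    have hc : (orderOf u).Coprime (p ^ k) := by
      apply Nat.Coprime.pow_right
      rw [Nat.coprime_comm]
      exact (Nat.Prime.coprime_iff_not_dvd hp).mpr hreg
    exact Nat.eq_one_of_dvd_coprimes hc h2 h1
  have hq_one : q = 1 := by
    rw [← orderOf_eq_one_iff]
    have h1 : orderOf q ∣ orderOf l := orderOf_dvd_of_pow_eq_one hq1
    have hc : (orderOf l).Coprime (p ^ k) := hlord.pow_right k
    exact Nat.eq_one_of_dvd_coprimes hc h1 (by rw [hk])
  rw [hul, hq_one, one_mul]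
  exact ⟨hl, hlC⟩

end Cfsg.Agent.Lib.Helper82_NormalSylowCore
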