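import Mathlib
import Cfsg.Prelude.Def_Blocks
import Cfsg.Prelude.Def_Solvable
import Cfsg.Agent.Lib.Helper1_Cores
import Cfsg.Agent.Lib.Helper3_CharComplete
import Cfsg.Agent.Lib.Helper75_Clifford
import Cfsg.Agent.Lib.Helper77_BlockCount
import Cfsg.Agent.Lib.Helper77_MatrixLocal
import Cfsg.Agent.Lib.Helper77_WeakOrth
import Cfsg.Agent.Lib.Helper78_LocalRing
import Cfsg.Agent.Lib.Helper78_CharFacts
import Cfsg.Agent.Lib.Helper78_CentralChar
import Cfsg.Agent.Lib.Helper78_Deficiency
import Cfsg.Agent.Lib.Helper78_FirstMainGT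
import Cfsg.Agent.Lib.Helper78_FirstMain
import Cfsg.Agent.Lib.Helper80_CharComplete
import Cfsg.Agent.Lib.Helper82_NormalSylowCore
import Cfsg.Agent.S0912
import Cfsg.Agent.S0921
import Cfsg.Agent.S4653

/-!
# Blocks of a group with a normal Sylow `p`-subgroup (helper82)

For a finite group `H` with a normal Sylow `p`-subgroup `Q`:

* `prop_on_core`: two characters in the same block are proportional on `O_{p'}(H)`;
* `isDefectGroup_of_normal_sylow`: every block has defect group `Q`;
* `card_blocks_eq`: the number of blocks equals the number of classes of `p`-regular elements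
  centralizing `Q`.
-/

set_option autoImplicit false
set_option linter.unusedSectionVars false

namespace Cfsg.Agent.Lib.Helper82_NormalSylowBlocks

open Cfsg Cfsg.Agent.Lib.Helper78_LocalRing Cfsg.Agent.Lib.Helper78_CharFacts
  Cfsg.Agent.Lib.Helper78_CentralChar Cfsg.Agent.Lib.Helper75_Clifford
  Cfsg.Agent.Lib.Helper77_MatrixLocal

open scoped ComplexConjugate

universe u

variable {H : Type u} [Group H]

/-- A class function with nonzero value at `1` has an irreducible constituent. -/
theorem exists_constituent {K : Type*} [Group K] [Fintype K] {f : K → ℂ}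
    (hf : IsClassFunction K f) (h1 : f 1 ≠ 0) :
    ∃ θ : IrrCharacter K, classInner f (θ : K → ℂ) ≠ 0 := by
  classical
  by_contra hcon
  push Not at hcon
  have h := Cfsg.Agent.Lib.Helper3_CharComplete.classFunction_eq_sum f hf
  apply h1
  rw [h]
  simp [hcon]

/-- Characters in the same block are proportional on the `p'`-core. -/
theorem prop_on_core [Finite H] {p : ℕ} [Fact p.Prime] {M : Ideal AlgInt} (hM : IsPModular p M)
    (χ ψ : IrrCharacter H) (hsb : SameBlock M (χ : H → ℂ) (ψ : H → ℂ)) {u : H}
    (hu : u ∈ pPrimeCore p H) :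
    (χ : H → ℂ) u * (ψ : H → ℂ) 1 = (ψ : H → ℂ) u * (χ : H → ℂ) 1 := by
  classical
  have := Fintype.ofFinite H
  have := Fintype.ofFinite (pPrimeCore p H)
  have hKn : (pPrimeCore p H).Normal := Cfsg.Agent.Lib.Helper1_Cores.pPrimeCore_normal p
  have hχc := isIrrCharacter_isClassFunction χ.2
  have hχ1 : res (pPrimeCore p H) (χ : H → ℂ) 1 ≠ 0 := by
    rw [res_apply, OneMemClass.coe_one]
    exact isIrrCharacter_one_ne_zero χ.2
  obtain ⟨θ, hθ⟩ := exists_constituent (isClassFunction_res (pPrimeCore p H) hχc) hχ1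
  have hθ' : classInner (res (pPrimeCore p H) (ψ : H → ℂ)) (θ : pPrimeCore p H → ℂ) ≠ 0 :=
    (Cfsg.Agent.S0921.result p M hM χ ψ hsb θ).mp hθ
  have c1 := clifford (pPrimeCore p H) hKn χ.2 θ.2 hθ
  have c2 := clifford (pPrimeCore p H) hKn ψ.2 θ.2 hθ'
  have e1 := congrFun c1 ⟨u, hu⟩
  have e2 := congrFun c1 1
  have e3 := congrFun c2 ⟨u, hu⟩
  have e4 := congrFun c2 1
  simp only [res_apply, Pi.smul_apply, smul_eq_mul, OneMemClass.coe_one] at e1 e2 e3 e4
  rw [e1, e2, e3, e4]
  ring

section normalSylow

variable [Finite H] {p : ℕ} [Fact p.Prime] {M : Ideal AlgInt}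

/-- Every block of a group with a normal Sylow `p`-subgroup `Q` has defect group `Q`. -/
theorem isDefectGroup_of_normal_sylow (hM : IsPModular p M) (Q : Sylow p H)
    (hQn : (Q : Subgroup H).Normal) {b : Set (IrrCharacter H)} (hb : IsPBlock M b) :
    IsDefectGroup p M b (Q : Subgroup H) := by
  obtain ⟨D, hD⟩ := Cfsg.Agent.Lib.Helper78_Deficiency.exists_isDefectGroup hM hb
  have h1 : pCore p H ≤ D := Cfsg.Agent.S0912.result p M hM b hb D hD
  have h2 : (Q : Subgroup H) ≤ pCore p H :=
    Cfsg.Agent.Lib.Helper1_Cores.le_pCore hQn Q.isPGroup'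
  have hDp : IsPGroup p D := Cfsg.Agent.Lib.Helper78_FirstMainGT.isDefectGroup_isPGroup hD
  have : D = (Q : Subgroup H) := Q.is_maximal' hDp (le_trans h2 h1)
  rw [← this]
  exact hD

/-- The classes of `p`-regular elements centralizing `Q`. -/
def RegCentral (p : ℕ) (Q : Subgroup H) (C : ConjClasses H) : Prop :=
  ∀ n : H, ConjClasses.mk n = C → ¬ p ∣ orderOf n ∧ n ∈ Subgroup.centralizer (Q : Set H)

theorem regCentral_out {Q : Subgroup H} {C : ConjClasses H} (hC : RegCentral p Q C) :
    ¬ p ∣ orderOf C.out ∧ C.out ∈ Subgroup.centralizer (Q : Set H) :=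
  hC C.out (Quotient.out_eq C)

/-- Upper bound: at most as many blocks as classes of `p`-regular elements centralizing `Q`. -/
theorem card_blocks_le (hM : IsPModular p M) (Q : Sylow p H) (hQn : (Q : Subgroup H).Normal) :
    Nat.card {b : Set (IrrCharacter H) // IsPBlock M b} ≤
      Nat.card {C : ConjClasses H // RegCentral p (Q : Subgroup H) C} := by
  classical
  have := Fintype.ofFinite H
  have hMp : M.IsPrime := isPrime_of_isPModular hM
  apply Cfsg.Agent.Lib.Helper77_BlockCount.card_blocks_le_card_classes hM (fun b => IsPBlock M b)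
    (RegCentral p (Q : Subgroup H)) (fun B hB => hB)
  intro B B' _ hB' χ _ c hc
  have hzero : blockCoeff B' c.out = 0 := by
    unfold RegCentral at hc
    push Not at hc
    obtain ⟨n, hn, hbad⟩ := hc
    have hconj : IsConj n c.out := by
      rw [← ConjClasses.mk_eq_mk_iff_isConj, hn]
      exact (Quotient.out_eq c).symm
    obtain ⟨t, ht⟩ := isConj_iff.mp hconj
    by_cases hsing : p ∣ orderOf n
    · have hord : orderOf c.out = orderOf n := by
        rw [← ht]; exact (MulAut.conj t).orderOf_eq n
      exact Cfsg.Agent.Lib.Helper77_WeakOrth.blockCoeff_block_eq_zero_of_sing hM hB' c.out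
        (by rw [hord]; exact hsing)
    · have hnC : n ∉ Subgroup.centralizer ((Q : Subgroup H) : Set H) := hbad (by simpa using hsing)
      have hCn : (Subgroup.centralizer ((Q : Subgroup H) : Set H)).Normal := inferInstance
      have houtC : c.out ∉ Subgroup.centralizer ((Q : Subgroup H) : Set H) := by
        intro hmem
        apply hnC
        have h1 := hCn.conj_mem c.out hmem t⁻¹
        rw [← ht] at h1
        have h2 : t⁻¹ * (t * n * t⁻¹) * t⁻¹⁻¹ = n := by group
        rwa [h2] at h1
      exact Cfsg.Agent.S4653.result p M hM (Q : Subgroup H) Q.isPGroup' B' hB' c.out houtC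
  rw [hzero, zero_mul]
  exact memLocalIdeal_zero hMp

/-- Summing over the blocks. -/
theorem sum_blocks_finsum_mem {M' : Ideal AlgInt} (hMp : M'.IsPrime)
    [Fintype {b : Set (IrrCharacter H) // IsPBlock M' b}] [Fintype (IrrCharacter H)]
    (f : IrrCharacter H → ℂ) :
    ∑ b : {b : Set (IrrCharacter H) // IsPBlock M' b}, ∑ᶠ χ ∈ b.1, f χ = ∑ χ, f χ := by
  classical
  have hfin : Finite (IrrCharacter H) := inferInstance
  rw [← Finset.sum_fiberwise Finset.univ
    (fun χ : IrrCharacter H => (⟨blockOf M' (χ : H → ℂ), isPBlock_blockOf χ⟩ :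
      {b : Set (IrrCharacter H) // IsPBlock M' b})) f]
  refine Finset.sum_congr rfl fun b _ => ?_
  rw [finsum_mem_eq_finite_toFinset_sum _ (Set.toFinite b.1)]
  apply Finset.sum_congr
  · ext χ
    rw [Set.Finite.mem_toFinset, Finset.mem_filter]
    constructor
    · intro hχ
      refine ⟨Finset.mem_univ _, ?_⟩
      apply Subtype.ext
      exact (isPBlock_eq_blockOf hMp b.2 hχ).symm
    · rintro ⟨-, hχ⟩
      rw [← hχ]
      exact mem_blockOf_self hMp χ
  · intro χ _
    rfl

/-- Lower bound: at least as many blocks as classes of `p`-regular elements centralizing `Q`. -/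
theorem card_classes_le (hM : IsPModular p M) (Q : Sylow p H) (hQn : (Q : Subgroup H).Normal) :
    Nat.card {C : ConjClasses H // RegCentral p (Q : Subgroup H) C} ≤
      Nat.card {b : Set (IrrCharacter H) // IsPBlock M b} := by
  classical
  have := Fintype.ofFinite H
  have hMp : M.IsPrime := isPrime_of_isPModular hM
  have hfin : Finite (IrrCharacter H) := charFacts.finite
  have := Fintype.ofFinite (IrrCharacter H)
  have := Fintype.ofFinite {b : Set (IrrCharacter H) // IsPBlock M b}
  have := Fintype.ofFinite {C : ConjClasses H // RegCentral p (Q : Subgroup H) C}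
  rw [Nat.card_eq_fintype_card, Nat.card_eq_fintype_card]
  have hcardne : (Nat.card H : ℂ) ≠ 0 := by
    exact_mod_cast (Nat.card_pos (α := H)).ne'
  have hne : ∀ b : {b : Set (IrrCharacter H) // IsPBlock M b}, ∃ χ : IrrCharacter H, χ ∈ b.1 :=
    fun b => isPBlock_nonempty hMp b.2
  choose χ₀ hχ₀ using hne
  set A : Matrix {b : Set (IrrCharacter H) // IsPBlock M b}
      {C : ConjClasses H // RegCentral p (Q : Subgroup H) C} ℂ :=
    Matrix.of fun b C => centralChar ((χ₀ b : IrrCharacter H) : H → ℂ) C.1.out with hA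
  set Bm : Matrix {C : ConjClasses H // RegCentral p (Q : Subgroup H) C}
      {b : Set (IrrCharacter H) // IsPBlock M b} ℂ :=
    Matrix.of fun C b => blockCoeff b.1 C.1.out with hBm
  refine Cfsg.Agent.Lib.Helper77_BlockCount.card_le_of_mul_congr_one hMp Bm A ?_
  have hone : Bm * A = 1 := by
    ext C C'
    rw [Matrix.mul_apply]
    simp only [hA, hBm, Matrix.of_apply]
    obtain ⟨hreg', hcen'⟩ := regCentral_out C'.2
    have hcore : C'.1.out ∈ pPrimeCore p H :=
      Cfsg.Agent.Lib.Helper82_NormalSylowCore.mem_pPrimeCore_of_centralizes Q hQn hcen' hreg'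
    -- each term
    have hterm : ∀ b : {b : Set (IrrCharacter H) // IsPBlock M b},
        blockCoeff b.1 C.1.out * centralChar ((χ₀ b : IrrCharacter H) : H → ℂ) C'.1.out =
          ∑ᶠ χ ∈ b.1, (Nat.card H : ℂ)⁻¹ *
            ((Subgroup.centralizer ({C'.1.out} : Set H)).index : ℂ) *
              ((χ : H → ℂ) C'.1.out * conj ((χ : H → ℂ) C.1.out)) := by
      intro b
      have hb1 : ((χ₀ b : IrrCharacter H) : H → ℂ) 1 ≠ 0 := isIrrCharacter_one_ne_zero (χ₀ b).2
      unfold blockCoeff centralChar
      rw [finsum_mem_eq_finite_toFinset_sum _ (Set.toFinite b.1),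
        finsum_mem_eq_finite_toFinset_sum _ (Set.toFinite b.1), Finset.mul_sum, Finset.sum_mul]
      refine Finset.sum_congr rfl fun χ hχ => ?_
      have hχb : χ ∈ b.1 := (Set.Finite.mem_toFinset _).mp hχ
      have hsb : SameBlock M (χ : H → ℂ) ((χ₀ b : IrrCharacter H) : H → ℂ) :=
        isPBlock_sameBlock hMp b.2 hχb (hχ₀ b)
      have hprop := prop_on_core hM χ (χ₀ b) hsb hcore
      have hq : (χ : H → ℂ) 1 * ((χ₀ b : IrrCharacter H) : H → ℂ) C'.1.out /
          ((χ₀ b : IrrCharacter H) : H → ℂ) 1 = (χ : H → ℂ) C'.1.out := by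
        rw [div_eq_iff hb1]
        linear_combination (-1 : ℂ) * hprop
      rw [← hq]
      field_simp
    simp_rw [hterm]
    rw [sum_blocks_finsum_mem hMp (fun χ : IrrCharacter H => (Nat.card H : ℂ)⁻¹ *
      ((Subgroup.centralizer ({C'.1.out} : Set H)).index : ℂ) *
        ((χ : H → ℂ) C'.1.out * conj ((χ : H → ℂ) C.1.out))), ← Finset.mul_sum,
      Cfsg.Agent.Lib.Helper80_CharComplete.second_orthogonality_sum]
    have hiff : IsConj C'.1.out C.1.out ↔ C = C' := by
      rw [← ConjClasses.mk_eq_mk_iff_isConj]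
      have h1 : ConjClasses.mk C'.1.out = C'.1 := Quotient.out_eq C'.1
      have h2 : ConjClasses.mk C.1.out = C.1 := Quotient.out_eq C.1
      rw [h1, h2]
      constructor
      · intro h; exact Subtype.ext h.symm
      · intro h; rw [h]
    by_cases hCC : C = C'
    · rw [if_pos (hiff.mpr hCC), Matrix.one_apply, if_pos hCC]
      have hidx : ((Subgroup.centralizer ({C'.1.out} : Set H)).index : ℂ) *
          (Nat.card (Subgroup.centralizer ({C'.1.out} : Set H)) : ℂ) = (Nat.card H : ℂ) := by
        exact_mod_cast Subgroup.index_mul_card (Subgroup.centralizer ({C'.1.out} : Set H))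
      rw [mul_assoc, hidx, inv_mul_cancel₀ hcardne]
    · rw [if_neg (fun h => hCC (hiff.mp h)), Matrix.one_apply, if_neg hCC, mul_zero]
  rw [hone, sub_self]
  intro i j
  exact memLocalIdeal_zero hMp

/-- **Blocks of a group with a normal Sylow `p`-subgroup**: their number is the number of classes
of `p`-regular elements centralizing the Sylow subgroup. -/
theorem card_blocks_eq (hM : IsPModular p M) (Q : Sylow p H) (hQn : (Q : Subgroup H).Normal) :
    Nat.card {b : Set (IrrCharacter H) // IsPBlock M b} =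
      Nat.card {C : ConjClasses H // RegCentral p (Q : Subgroup H) C} :=
  le_antisymm (card_blocks_le hM Q hQn) (card_classes_le hM Q hQn)

end normalSylow

/-- **The number of blocks with a Sylow `p`-subgroup as defect group.** -/
theorem card_blocks_with_sylow_defect_group {G : Type u} [Group G] [Finite G] (p : ℕ)
    [Fact p.Prime] (M : Ideal AlgInt) (hM : IsPModular p M) (P : Sylow p G) :
    Nat.card {B : Set (IrrCharacter G) // IsPBlock M B ∧ IsDefectGroup p M B (P : Subgroup G)} =
      Nat.card {C : ConjClasses (Subgroup.normalizer ((P : Subgroup G) : Set G)) //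
        ∀ n : Subgroup.normalizer ((P : Subgroup G) : Set G), ConjClasses.mk n = C →
          ¬ p ∣ orderOf n ∧ (n : G) ∈ Subgroup.centralizer ((P : Subgroup G) : Set G)} := by
  classical
  have hMp : M.IsPrime := isPrime_of_isPModular hM
  have hPN : (P : Subgroup G) ≤ Subgroup.normalizer ((P : Subgroup G) : Set G) :=
    Subgroup.le_normalizer
  have hPp : IsPGroup p (P : Subgroup G) := P.isPGroup'
  set Q : Sylow p ↥(Subgroup.normalizer ((P : Subgroup G) : Set G)) := P.subtype hPN with hQ
  have hQcoe : (Q : Subgroup ↥(Subgroup.normalizer ((P : Subgroup G) : Set G))) =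
      (P : Subgroup G).subgroupOf (Subgroup.normalizer ((P : Subgroup G) : Set G)) :=
    Sylow.coe_subtype P hPN
  have hQn : (Q : Subgroup ↥(Subgroup.normalizer ((P : Subgroup G) : Set G))).Normal := by
    rw [hQcoe]
    exact (Subgroup.normal_subgroupOf_iff_le_normalizer hPN).2 le_rfl
  have hDb : ∀ b : {b : Set (IrrCharacter ↥(Subgroup.normalizer ((P : Subgroup G) : Set G))) //
      IsPBlock M b}, IsDefectGroup p M b.1
        ((P : Subgroup G).subgroupOf (Subgroup.normalizer ((P : Subgroup G) : Set G))) := by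
    intro b
    have := isDefectGroup_of_normal_sylow hM Q hQn b.2
    rwa [hQcoe] at this
  -- the Brauer correspondence
  have hex : ∀ b : {b : Set (IrrCharacter ↥(Subgroup.normalizer ((P : Subgroup G) : Set G))) //
      IsPBlock M b}, ∃ B : Set (IrrCharacter G), IsPBlock M B ∧
        IsDefectGroup p M B (P : Subgroup G) ∧
        IsInducedBlock M (Subgroup.normalizer ((P : Subgroup G) : Set G)) b.1 B := fun b =>
    Cfsg.Agent.Lib.Helper78_FirstMain.firstMain_induced hM (P : Subgroup G) hPp b.2 (hDb b)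
  choose F hF1 hF2 hF3 using hex
  let f : {b : Set (IrrCharacter ↥(Subgroup.normalizer ((P : Subgroup G) : Set G))) //
      IsPBlock M b} → {B : Set (IrrCharacter G) // IsPBlock M B ∧
        IsDefectGroup p M B (P : Subgroup G)} := fun b => ⟨F b, hF1 b, hF2 b⟩
  have hinj : Function.Injective f := by
    intro b₁ b₂ h
    have hFF : F b₁ = F b₂ := congrArg Subtype.val h
    apply Subtype.ext
    refine Cfsg.Agent.Lib.Helper78_FirstMain.firstMain_unique hM (P : Subgroup G) hPp (hF1 b₁)
      b₁.2 (hDb b₁) (hF3 b₁) b₂.2 (hDb b₂) ?_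
    rw [hFF]
    exact hF3 b₂
  have hsurj : Function.Surjective f := by
    intro B
    obtain ⟨b, hb, -, hind⟩ :=
      Cfsg.Agent.Lib.Helper78_FirstMain.firstMain_exists_block hM (P : Subgroup G) hPp B.2.1 B.2.2
    refine ⟨⟨b, hb⟩, ?_⟩
    apply Subtype.ext
    exact Cfsg.Agent.Lib.Helper78_Deficiency.isInducedBlock_unique hMp (hF3 ⟨b, hb⟩) hind
  rw [← Nat.card_congr (Equiv.ofBijective f ⟨hinj, hsurj⟩), card_blocks_eq hM Q hQn]
  apply Nat.card_congr
  apply Equiv.subtypeEquivRight
  intro C
  unfold RegCentral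
  have hmem : ∀ n : ↥(Subgroup.normalizer ((P : Subgroup G) : Set G)),
      n ∈ Subgroup.centralizer
        ((Q : Subgroup ↥(Subgroup.normalizer ((P : Subgroup G) : Set G))) :
          Set ↥(Subgroup.normalizer ((P : Subgroup G) : Set G))) ↔
      (n : G) ∈ Subgroup.centralizer ((P : Subgroup G) : Set G) := by
    intro n
    rw [hQcoe]
    constructor
    · intro h
      rw [Subgroup.mem_centralizer_iff]
      intro y hy
      have := Subgroup.mem_centralizer_iff.mp h ⟨y, hPN hy⟩ (Subgroup.mem_subgroupOf.mpr hy)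
      exact congrArg Subtype.val this
    · intro h
      rw [Subgroup.mem_centralizer_iff]
      intro x hx
      apply Subtype.ext
      exact Subgroup.mem_centralizer_iff.mp h x (Subgroup.mem_subgroupOf.mp hx)
  constructor
  · intro h n hn
    exact ⟨(h n hn).1, (hmem n).mp (h n hn).2⟩
  · intro h n hn
    exact ⟨(h n hn).1, (hmem n).mpr (h n hn).2⟩

end Cfsg.Agent.Lib.Helper82_NormalSylowBlocks
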