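/-
helper40: the Chevalley groups `D.group F` (D of type G2, B2, D4, F4, E6, E7, E8, F a finite field of
characteristic p) have exactly two p-blocks: the defect-zero block of the Steinberg character and the principal
block.  Assembly of the GREEN market packages.
-/
import Mathlib
import Cfsg.Prelude.Def_Blocks
import Cfsg.Agent.Lib.Helper40_GreenDefs
import Cfsg.Agent.Lib.Helper40_ChevGreenDefs
import Cfsg.Agent.Lib.Helper40_GreenMain
import Cfsg.Agent.Lib.Helper40_ChevGreenXG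
import Cfsg.Agent.Lib.Helper53_GR_GCACT
import Cfsg.Agent.Lib.Helper40_GR_GCALLPOS
import Cfsg.Agent.Lib.Helper43_GR_GCBRUHAT
import Cfsg.Agent.Lib.Helper40_GR_GCCENU
import Cfsg.Agent.Lib.Helper89_GR_GCCONN
import Cfsg.Agent.Lib.Helper40_GR_GCDZ1
import Cfsg.Agent.Lib.Helper40_GR_GCINTER
import Cfsg.Agent.Lib.Helper40_GR_GCRANK2
import Cfsg.Agent.Lib.Helper58_GR_GCRIGID
import Cfsg.Agent.Lib.Helper40_GR_GCROOTS
import Cfsg.Agent.Lib.Helper86_GR_GCSTR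
import Cfsg.Agent.Lib.Helper40_GR_GCSUB2
import Cfsg.Agent.Lib.Helper40_GR_GCSYL
import Cfsg.Agent.Lib.Helper44_GR_GCUA
import Cfsg.Agent.Lib.Helper86_GR_GCUIJ
import Cfsg.Agent.Lib.Helper78_DZ_BLKCOUNT
import Cfsg.Agent.Lib.Helper3_DZ_BLKDZ
import Cfsg.Agent.S0953

set_option autoImplicit false

namespace Cfsg.Agent.Lib.Helper40_ChevGreen

open Cfsg Cfsg.Lie Cfsg.Agent.Lib.Helper40_ChevDZDefs Cfsg.Agent.Lib.Helper40_ChevGreenDefs
open Cfsg.Agent.Lib.Helper40_GreenDefs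

variable (D : ChevalleyDatum)
  (hD : D ∈ [chevG2, chevB2, chevD4, chevF4, chevE6, chevE7, chevE8]) (F : Type*) [Field F] [Fintype F]

/-- the Green data of a Chevalley group -/
noncomputable def chevGreen : GreenData ↥(D.group F) F where
  U := cU D F
  N := cN D F
  rank := D.rank
  nroots := D.nroots
  pos := D.IsPosRoot
  neg := D.IsNegRoot
  simple := D.simple
  refl := D.reflectRoot
  adj := cAdj D
  sub2 := cSub2 D
  x := xG D F
  IsAct := cIsAct D F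
  pos_lt := fun _ h => h.1
  pos_or_neg := (Cfsg.Agent.Lib.Helper40_GR_GCROOTS.ch_roots D hD).1
  not_pos_neg := (Cfsg.Agent.Lib.Helper40_GR_GCROOTS.ch_roots D hD).2.1
  simple_pos := (Cfsg.Agent.Lib.Helper40_GR_GCROOTS.ch_roots D hD).2.2.1
  refl_pos := (Cfsg.Agent.Lib.Helper40_GR_GCROOTS.ch_roots D hD).2.2.2.1
  refl_refl := (Cfsg.Agent.Lib.Helper40_GR_GCROOTS.ch_roots D hD).2.2.2.2.1
  refl_sub2 := Cfsg.Agent.Lib.Helper40_GR_GCSUB2.ch_refl_sub2 D hD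
  adj_ne := (Cfsg.Agent.Lib.Helper40_GR_GCROOTS.ch_roots D hD).2.2.2.2.2
  conn := Cfsg.Agent.Lib.Helper89_GR_GCCONN.ch_conn D hD
  x_mem := Cfsg.Agent.Lib.Helper40_ChevGreenXG.ch_x_mem D hD
  U_le := Cfsg.Agent.Lib.Helper40_ChevGreenXG.ch_U_le D hD
  bruhat := Cfsg.Agent.Lib.Helper43_GR_GCBRUHAT.ch_bruhat2 D hD
  act_exists := Cfsg.Agent.Lib.Helper53_GR_GCACT.ch_act_exists D hD
  act_lt := fun _ _ h => h.1.1
  act_conj := fun _ _ h => h.2
  act_inter := Cfsg.Agent.Lib.Helper40_GR_GCINTER.ch_act_inter D hD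
  act_allpos := fun _ π h => Cfsg.Agent.Lib.Helper40_GR_GCALLPOS.ch_act_allpos D hD π h.1
  act_allneg := fun _ π h => Cfsg.Agent.Lib.Helper40_GR_GCALLPOS.ch_act_allneg D hD π h.1
  act_str := fun _ π h => Cfsg.Agent.Lib.Helper86_GR_GCSTR.ch_act_str D hD π h.1
  act_rank2 := fun _ π h => Cfsg.Agent.Lib.Helper40_GR_GCRANK2.ch_act_rank2 D hD π h.1
  refl_act := Cfsg.Agent.Lib.Helper53_GR_GCACT.ch_refl_act D hD
  rigid := Cfsg.Agent.Lib.Helper58_GR_GCRIGID.ch_rigid D hD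
  ua_normal := Cfsg.Agent.Lib.Helper44_GR_GCUA.ch_ua_normal D hD
  ua_compl := Cfsg.Agent.Lib.Helper44_GR_GCUA.ch_ua_compl D hD
  uij_normal := Cfsg.Agent.Lib.Helper86_GR_GCUIJ.ch_uij_normal D hD
  uij_compl := Cfsg.Agent.Lib.Helper86_GR_GCUIJ.ch_uij_compl D hD

include hD in
/-- the number of `p`-blocks of a Chevalley group in its defining characteristic -/
theorem chev_card_blocks (p : ℕ) [Fact p.Prime] [CharP F p] (M : Ideal Cfsg.AlgInt)
    (hM : Cfsg.IsPModular p M) :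
    Nat.card {B : Set (Cfsg.IrrCharacter ↥(D.group F)) // Cfsg.IsPBlock M B} = 2 := by
  obtain ⟨⟨P₀, hP₀⟩, hdvd⟩ := Cfsg.Agent.Lib.Helper40_GR_GCSYL.ch_sylow D hD (F := F) p
  rw [Cfsg.Agent.Lib.Helper78_DZ_BLKCOUNT.blk_count p M hM hdvd
      (fun B E hB hE => Cfsg.Agent.Lib.Helper40_GreenMain.green_defect (chevGreen D hD F) p M hM P₀ hP₀ B hB E hE) P₀,
    Cfsg.Agent.Lib.Helper3_DZ_BLKDZ.blk_dz_count p M hM, Cfsg.Agent.Lib.Helper40_GR_GCDZ1.ch_card_dz D hD p,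
    Cfsg.Agent.S0953.result p M hM P₀,
    Cfsg.Agent.Lib.Helper40_GreenMain.green_classcount p P₀ ?_]
  intro x hx hreg
  rw [hP₀] at hx
  exact Cfsg.Agent.Lib.Helper40_GR_GCCENU.ch_cenU D hD p x hx hreg

end Cfsg.Agent.Lib.Helper40_ChevGreen
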