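import Mathlib
import Cfsg.Agent.Lib.Helper40_GLClassDefs

set_option autoImplicit false

namespace Cfsg.Agent.Lib.Helper40_S2478_INEQ

open PowerSeries Cfsg.Agent.Lib.Helper40_GLClassDefs

/-- coefficientwise nonnegativity -/
def Pos (f : ℤ⟦X⟧) : Prop := ∀ i, 0 ≤ coeff i f

theorem Pos.mul {f g : ℤ⟦X⟧} (hf : Pos f) (hg : Pos g) : Pos (f * g) := by
  intro i
  rw [coeff_mul]
  exact Finset.sum_nonneg fun p _ => mul_nonneg (hf _) (hg _)

theorem Pos.add {f g : ℤ⟦X⟧} (hf : Pos f) (hg : Pos g) : Pos (f + g) := by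
  intro i
  rw [map_add]
  exact add_nonneg (hf _) (hg _)

theorem Pos.one : Pos 1 := by
  intro i
  rw [coeff_one]
  split_ifs <;> norm_num

theorem Pos.prod {ι : Type*} (s : Finset ι) (f : ι → ℤ⟦X⟧) (h : ∀ i ∈ s, Pos (f i)) :
    Pos (∏ i ∈ s, f i) := by
  classical
  induction s using Finset.induction_on with
  | empty => simpa using Pos.one
  | insert a s ha ih =>
    rw [Finset.prod_insert ha]
    exact (h a (Finset.mem_insert_self a s)).mul (ih fun i hi => h i (Finset.mem_insert_of_mem hi))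

theorem Pos.sum {ι : Type*} (s : Finset ι) (f : ι → ℤ⟦X⟧) (h : ∀ i ∈ s, Pos (f i)) :
    Pos (∑ i ∈ s, f i) := by
  intro j
  rw [map_sum]
  exact Finset.sum_nonneg fun i hi => h i hi j

theorem Pos.mk {f : ℕ → ℤ} (h : ∀ i, 0 ≤ f i) : Pos (PowerSeries.mk f) := by
  intro i; rw [coeff_mk]; exact h i

theorem Pos.C {c : ℤ} (h : 0 ≤ c) : Pos (PowerSeries.C c) := by
  intro i
  rw [coeff_C]
  split_ifs <;> simp [h]

theorem Pos.X : Pos (PowerSeries.X : ℤ⟦X⟧) := by
  intro i
  rw [coeff_X]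
  split_ifs <;> norm_num

theorem Pos.pow {f : ℤ⟦X⟧} (hf : Pos f) (n : ℕ) : Pos (f ^ n) := by
  induction n with
  | zero => simpa using Pos.one
  | succ n ih => rw [pow_succ]; exact ih.mul hf

/-- `GG q k = (1 - q X^k)⁻¹`. -/
noncomputable def GG (q k : ℕ) : ℤ⟦X⟧ :=
  PowerSeries.mk fun i => if k ∣ i then (q : ℤ) ^ (i / k) else 0

/-- `NN q j = ∑_d Nq q d X^(j d)`. -/
noncomputable def NN (q j : ℕ) : ℤ⟦X⟧ :=
  PowerSeries.mk fun i => if j ∣ i then (Nq q (i / j) : ℤ) else 0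

theorem pos_GG (q k : ℕ) : Pos (GG q k) := by
  apply Pos.mk
  intro i
  split_ifs
  · positivity
  · exact le_refl _

theorem pos_NN (q j : ℕ) : Pos (NN q j) := by
  apply Pos.mk
  intro i
  split_ifs
  · positivity
  · exact le_refl _

theorem GG_mul (q k : ℕ) (hk : 1 ≤ k) :
    GG q k * (1 - PowerSeries.C (q : ℤ) * PowerSeries.X ^ k) = 1 := by
  ext m
  rw [mul_sub, mul_one, map_sub, ← mul_assoc, coeff_mul_X_pow', mul_comm (GG q k), coeff_C_mul,
    coeff_one]
  unfold GG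
  simp only [coeff_mk]
  by_cases hm : k ≤ m
  · rw [if_pos hm]
    have hm0 : m ≠ 0 := by omega
    rw [if_neg hm0]
    by_cases hd : k ∣ m
    · have hd' : k ∣ m - k := Nat.dvd_sub hd (dvd_refl k)
      rw [if_pos hd, if_pos hd']
      obtain ⟨c, rfl⟩ := hd
      have hc : 1 ≤ c := by
        rcases c with _ | c
        · simp at hm0
        · omega
      have h1 : k * c / k = c := Nat.mul_div_cancel_left c (by omega)
      have h2 : (k * c - k) / k = c - 1 := by
        have : k * c - k = k * (c - 1) := by rw [Nat.mul_sub, mul_one]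
        rw [this, Nat.mul_div_cancel_left _ (by omega)]
      rw [h1, h2]
      obtain ⟨c', rfl⟩ : ∃ c', c = c' + 1 := ⟨c - 1, by omega⟩
      simp [pow_succ]
      ring
    · have hd' : ¬ k ∣ m - k := fun h => hd (by
        have e : m = (m - k) + k := by omega
        rw [e]; exact dvd_add h (dvd_refl k))
      rw [if_neg hd, if_neg hd']
      simp
  · rw [if_neg hm]
    rw [not_le] at hm
    by_cases hm0 : m = 0
    · subst hm0
      simp
    · have hd : ¬ k ∣ m := fun h => by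
        have := Nat.le_of_dvd (by omega) h
        omega
      rw [if_neg hd, if_neg hm0]
      simp


theorem Nq_zero (q : ℕ) : Nq q 0 = 1 := by simp [Nq]

theorem Nq_succ (q c : ℕ) : Nq q (c + 1) = (q - 1) * q ^ c := by simp [Nq]

theorem NN_mul (q j : ℕ) (hq : 1 ≤ q) (hj : 1 ≤ j) :
    NN q j * (1 - PowerSeries.C (q : ℤ) * PowerSeries.X ^ j) = 1 - PowerSeries.X ^ j := by
  ext m
  rw [mul_sub, mul_one, map_sub, ← mul_assoc, coeff_mul_X_pow', mul_comm (NN q j), coeff_C_mul,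
    map_sub, coeff_one, coeff_X_pow]
  unfold NN
  simp only [coeff_mk]
  have hqc : ((q - 1 : ℕ) : ℤ) = (q : ℤ) - 1 := by
    rw [Nat.cast_sub hq]; simp
  by_cases hm : j ≤ m
  · rw [if_pos hm]
    have hm0 : m ≠ 0 := by omega
    rw [if_neg hm0]
    by_cases hd : j ∣ m
    · have hd' : j ∣ m - j := Nat.dvd_sub hd (dvd_refl j)
      rw [if_pos hd, if_pos hd']
      obtain ⟨c, rfl⟩ := hd
      have hc : 1 ≤ c := by
        rcases c with _ | c
        · simp at hm0
        · omega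
      have h1 : j * c / j = c := Nat.mul_div_cancel_left c (by omega)
      have h2 : (j * c - j) / j = c - 1 := by
        have : j * c - j = j * (c - 1) := by rw [Nat.mul_sub, mul_one]
        rw [this, Nat.mul_div_cancel_left _ (by omega)]
      rw [h1, h2]
      obtain ⟨c', rfl⟩ : ∃ c', c = c' + 1 := ⟨c - 1, by omega⟩
      rcases c' with _ | c''
      · simp [Nq_zero, Nq_succ, hqc]
      · have hne : j * (c'' + 1 + 1) ≠ j := by
          intro h
          have : j * (c'' + 1 + 1) = j * 1 := by rw [h, mul_one]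
          have := Nat.eq_of_mul_eq_mul_left (by omega : 0 < j) this
          omega
        rw [if_neg hne]
        simp only [Nq_succ, Nat.add_sub_cancel, Nat.cast_mul, Nat.cast_pow, hqc]
        ring
    · have hd' : ¬ j ∣ m - j := fun h => hd (by
        have e : m = (m - j) + j := by omega
        rw [e]; exact dvd_add h (dvd_refl j))
      rw [if_neg hd, if_neg hd']
      have hne : m ≠ j := fun h => hd (h ▸ dvd_refl _)
      rw [if_neg hne]
      simp
  · rw [if_neg hm]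
    rw [not_le] at hm
    have hne : m ≠ j := by omega
    rw [if_neg hne]
    by_cases hm0 : m = 0
    · subst hm0
      simp [Nq_zero]
    · have hd : ¬ j ∣ m := fun h => by
        have := Nat.le_of_dvd (by omega) h
        omega
      rw [if_neg hd, if_neg hm0]


/-- `CC q K k = ∏_{j=k}^{K} NN q j`. -/
noncomputable def CC (q K k : ℕ) : ℤ⟦X⟧ := ∏ j ∈ Finset.Ico k (K + 1), NN q j

theorem CC_top (q K : ℕ) : CC q K (K + 1) = 1 := by
  simp [CC]

theorem CC_step (q K k : ℕ) (hk : k ≤ K) : CC q K k = NN q k * CC q K (k + 1) := by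
  unfold CC
  rw [Finset.prod_eq_prod_Ico_succ_bot (by omega)]

theorem pos_CC (q K k : ℕ) : Pos (CC q K k) :=
  Pos.prod _ _ fun j _ => pos_NN q j

/-- `EE q K r = (q^r - (q^r - qX) C_{r+1}) (1-qX)⁻¹`. -/
noncomputable def EE (q K r : ℕ) : ℤ⟦X⟧ :=
  (PowerSeries.C ((q : ℤ) ^ r) -
    (PowerSeries.C ((q : ℤ) ^ r) - PowerSeries.C (q : ℤ) * PowerSeries.X) * CC q K (r + 1)) * GG q 1

/-- `SS q r = ∑_{i=1}^{r} (qX)^i`. -/
noncomputable def SS (q r : ℕ) : ℤ⟦X⟧ :=
  ∑ i ∈ Finset.range r, (PowerSeries.C (q : ℤ) * PowerSeries.X) ^ (i + 1)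

theorem pos_SS (q r : ℕ) : Pos (SS q r) :=
  Pos.sum _ _ fun i _ => ((Pos.C (by positivity)).mul Pos.X).pow _

theorem SS_mul (q r : ℕ) :
    SS q r * (1 - PowerSeries.C (q : ℤ) * PowerSeries.X) =
      PowerSeries.C (q : ℤ) * PowerSeries.X - (PowerSeries.C (q : ℤ) * PowerSeries.X) ^ (r + 1) := by
  unfold SS
  induction r with
  | zero => simp
  | succ r ih =>
    rw [Finset.sum_range_succ, add_mul, ih]
    ring

theorem key_identity (q K r : ℕ) (hq : 1 ≤ q) (hr : r + 1 ≤ K) :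
    PowerSeries.C (q : ℤ) * EE q K r =
      EE q K (r + 1) +
        CC q K (r + 2) * PowerSeries.C ((q : ℤ) - 1) * SS q r * GG q (r + 1) := by
  have hG := GG_mul q 1 (le_refl 1)
  have hGG := GG_mul q (r + 1) (by omega)
  have hNN := NN_mul q (r + 1) hq (by omega)
  have hS := SS_mul q r
  have hC : CC q K (r + 1) = NN q (r + 1) * CC q K (r + 2) := CC_step q K (r + 1) hr
  have e : CC q K (r + 1 + 1) = CC q K (r + 2) := rfl
  rw [pow_one] at hG
  unfold EE
  rw [hC, e]
  have hQr : PowerSeries.C ((q : ℤ) ^ r) = (PowerSeries.C (q : ℤ) : ℤ⟦X⟧) ^ r := by simp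
  have hQr1 : PowerSeries.C ((q : ℤ) ^ (r + 1)) = (PowerSeries.C (q : ℤ) : ℤ⟦X⟧) ^ (r + 1) := by simp
  have hQ1 : PowerSeries.C ((q : ℤ) - 1) = (PowerSeries.C (q : ℤ) : ℤ⟦X⟧) - 1 := by simp
  rw [hQr, hQr1, hQ1]
  generalize GG q 1 = G at *
  generalize GG q (r + 1) = G' at *
  generalize NN q (r + 1) = N at *
  generalize CC q K (r + 2) = C' at *
  generalize SS q r = S at *
  generalize (PowerSeries.X : ℤ⟦X⟧) = Xs at *
  generalize (PowerSeries.C (q : ℤ) : ℤ⟦X⟧) = Q at *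
  -- it suffices to prove the identity after multiplying by the units (1 - QX)(1 - Q X^(r+1))
  have hmain : (Q * ((Q ^ r - (Q ^ r - Q * Xs) * (N * C')) * G) -
      ((Q ^ (r + 1) - (Q ^ (r + 1) - Q * Xs) * C') * G +
        C' * (Q - 1) * S * G')) * ((1 - Q * Xs) * (1 - Q * Xs ^ (r + 1))) = 0 := by
    linear_combination
      (Q * (Q ^ r - (Q ^ r - Q * Xs) * (N * C')) * (1 - Q * Xs ^ (r + 1)) -
        (Q ^ (r + 1) - (Q ^ (r + 1) - Q * Xs) * C') * (1 - Q * Xs ^ (r + 1))) * hG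
        + (-Q * (Q ^ r - Q * Xs) * C') * hNN + (-C' * (Q - 1) * (S * (1 - Q * Xs))) * hGG
        + (-C' * (Q - 1)) * hS
  have hunit : ((1 - Q * Xs) * (1 - Q * Xs ^ (r + 1))) * (G * G') = 1 := by
    calc ((1 - Q * Xs) * (1 - Q * Xs ^ (r + 1))) * (G * G')
        = (G * (1 - Q * Xs)) * (G' * (1 - Q * Xs ^ (r + 1))) := by ring
      _ = 1 := by rw [hG, hGG, one_mul]
  have hA : ∀ A : ℤ⟦X⟧, A * ((1 - Q * Xs) * (1 - Q * Xs ^ (r + 1))) = 0 → A = 0 := by
    intro A hA
    calc A = A * (((1 - Q * Xs) * (1 - Q * Xs ^ (r + 1))) * (G * G')) := by rw [hunit, mul_one]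
      _ = (A * ((1 - Q * Xs) * (1 - Q * Xs ^ (r + 1)))) * (G * G') := by ring
      _ = 0 := by rw [hA, zero_mul]
  exact sub_eq_zero.mp (hA _ hmain)


theorem pos_of_C_mul (q : ℕ) (hq : 1 ≤ q) {f : ℤ⟦X⟧} (h : Pos (PowerSeries.C (q : ℤ) * f)) : Pos f := by
  intro i
  have := h i
  rw [coeff_C_mul] at this
  have hq' : (0 : ℤ) < q := by exact_mod_cast hq
  exact nonneg_of_mul_nonneg_right this hq'

theorem pos_EE (q K : ℕ) (hq : 1 ≤ q) : ∀ s r : ℕ, r + s = K → Pos (EE q K r) := by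
  intro s
  induction s with
  | zero =>
    intro r hr
    have hr' : r = K := by omega
    subst hr'
    unfold EE
    rw [CC_top, mul_one, sub_sub_cancel]
    exact ((Pos.C (by positivity)).mul Pos.X).mul (pos_GG q 1)
  | succ s ih =>
    intro r hr
    apply pos_of_C_mul q hq
    rw [key_identity q K r hq (by omega)]
    apply (ih (r + 1) (by omega)).add
    have hq1 : (0 : ℤ) ≤ (q : ℤ) - 1 := by
      have : (1 : ℤ) ≤ q := by exact_mod_cast hq
      linarith
    exact (((pos_CC q K (r + 2)).mul (Pos.C hq1)).mul (pos_SS q r)).mul (pos_GG q (r + 1))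

theorem coeff_GG_one (q m : ℕ) : coeff m (GG q 1) = (q : ℤ) ^ m := by
  unfold GG
  rw [coeff_mk, if_pos (one_dvd m), Nat.div_one]

theorem coeff_CC_le (q K m : ℕ) (hq : 1 ≤ q) : coeff m (CC q K 1) ≤ (q : ℤ) ^ m := by
  have h := pos_EE q K hq K 0 (by omega) m
  have hG := GG_mul q 1 (le_refl 1)
  rw [pow_one] at hG
  have e : EE q K 0 = GG q 1 - CC q K 1 := by
    unfold EE
    simp only [pow_zero, map_one, zero_add]
    calc (1 - (1 - PowerSeries.C (q : ℤ) * PowerSeries.X) * CC q K 1) * GG q 1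
        = GG q 1 - CC q K 1 * (GG q 1 * (1 - PowerSeries.C (q : ℤ) * PowerSeries.X)) := by ring
      _ = GG q 1 - CC q K 1 := by rw [hG, mul_one]
  rw [e, map_sub, coeff_GG_one] at h
  linarith


theorem CC_eq_prod_fin (q n : ℕ) : CC q n 1 = ∏ j : Fin n, NN q (j.val + 1) := by
  unfold CC
  rw [Finset.prod_Ico_eq_prod_range, Nat.add_sub_cancel,
    ← Fin.prod_univ_eq_prod_range (fun i => NN q (1 + i)) n]
  apply Finset.prod_congr rfl
  intro j _
  rw [add_comm]

theorem coeff_NN (q j i : ℕ) : coeff i (NN q j) = if j ∣ i then (Nq q (i / j) : ℤ) else 0 := by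
  unfold NN; rw [coeff_mk]

theorem mem_Dn {n : ℕ} (d : Fin n → ℕ) :
    d ∈ Dn n ↔ (∀ j, d j ≤ n) ∧ ∑ j : Fin n, (j.val + 1) * d j = n := by
  unfold Dn
  rw [Finset.mem_filter, Fintype.mem_piFinset]
  simp only [Finset.mem_range, Nat.lt_succ_iff]

theorem le_of_sum_eq {n : ℕ} (d : Fin n → ℕ) (h : ∑ j : Fin n, (j.val + 1) * d j = n) (j : Fin n) :
    d j ≤ n := by
  have h1 : (j.val + 1) * d j ≤ ∑ j : Fin n, (j.val + 1) * d j :=
    Finset.single_le_sum (f := fun j : Fin n => (j.val + 1) * d j) (fun _ _ => Nat.zero_le _)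
      (Finset.mem_univ j)
  rw [h] at h1
  calc d j = 1 * d j := (one_mul _).symm
    _ ≤ (j.val + 1) * d j := Nat.mul_le_mul_right _ (by omega)
    _ ≤ n := h1

theorem sum_Dn_eq_coeff (q n : ℕ) :
    ((∑ d ∈ Dn n, ∏ j : Fin n, Nq q (d j) : ℕ) : ℤ) = coeff n (CC q n 1) := by
  classical
  rw [CC_eq_prod_fin, coeff_prod]
  simp only [coeff_NN]
  rw [← Finset.sum_filter_of_ne (p := fun l : Fin n →₀ ℕ => ∀ j : Fin n, (j.val + 1) ∣ l j)]
  · push_cast
    symm
    refine Finset.sum_nbij' (fun l => fun j => l j / (j.val + 1))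
      (fun d => Finsupp.equivFunOnFinite.symm (fun j => (j.val + 1) * d j)) ?_ ?_ ?_ ?_ ?_
    · intro l hl
      rw [Finset.mem_filter, Finset.mem_finsuppAntidiag] at hl
      obtain ⟨⟨hsum, _⟩, hdiv⟩ := hl
      have hs : ∑ j : Fin n, (j.val + 1) * (l j / (j.val + 1)) = n := by
        refine Eq.trans ?_ hsum
        apply Finset.sum_congr rfl
        intro j _
        exact Nat.mul_div_cancel' (hdiv j)
      exact (mem_Dn _).mpr ⟨le_of_sum_eq _ hs, hs⟩
    · intro d hd
      rw [Finset.mem_filter, Finset.mem_finsuppAntidiag]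
      obtain ⟨_, hs⟩ := (mem_Dn d).mp hd
      refine ⟨⟨?_, Finset.subset_univ _⟩, ?_⟩
      · simpa using hs
      · intro j
        simp
    · intro l hl
      rw [Finset.mem_filter] at hl
      ext j
      show (j.val + 1) * (l j / (j.val + 1)) = l j
      exact Nat.mul_div_cancel' (hl.2 j)
    · intro d _
      funext j
      simp
    · intro l hl
      rw [Finset.mem_filter] at hl
      apply Finset.prod_congr rfl
      intro j _
      rw [if_pos (hl.2 j)]
  · intro l _ hne j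
    by_contra hj
    apply hne
    apply Finset.prod_eq_zero (Finset.mem_univ j)
    rw [if_neg hj]

theorem ineq (q n : ℕ) (hq : 1 ≤ q) : ∑ d ∈ Dn n, ∏ j : Fin n, Nq q (d j) ≤ q ^ n := by
  have h := coeff_CC_le q n n hq
  rw [← sum_Dn_eq_coeff] at h
  exact_mod_cast h

end Cfsg.Agent.Lib.Helper40_S2478_INEQ
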