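import Mathlib
import Cfsg.Agent.Lib.Helper40_GLClassDefs
import Cfsg.Agent.Lib.Helper40_S2478_INEQ
import Cfsg.Agent.Lib.Helper55_S2478_CARD
import Cfsg.Agent.Lib.Helper55_S2478_LOW
import Cfsg.Agent.Lib.Helper8_S2478_SUM
import Cfsg.Agent.Lib.Helper10_S2478_DECOMP
import Cfsg.Agent.Lib.Helper10_S2478_DIM
import Cfsg.Agent.Lib.Helper14_S2478_CONJ
import Cfsg.Agent.Lib.Helper14_S2478_UNIT
import Cfsg.Agent.Lib.Helper58_S2478_ENCODE

set_option autoImplicit false

/-!
Assembly of S2478: `q^n - q^(n-1) ≤ k(GL_n(q)) ≤ q^n` from the packages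
CARD, LOW (helper55), SUM (helper8), DECOMP, DIM (helper10), CONJ, UNIT (helper14),
ENCODE (helper58), INEQ (helper40).
-/

namespace Cfsg.Agent.Lib.Helper40_GLClassHub

open Polynomial DirectSum Cfsg.Agent.Lib.Helper40_GLClassDefs

universe u

theorem toLin'_injective {F : Type u} [Field F] (n : ℕ)
    (g : Matrix.GeneralLinearGroup (Fin n) F) :
    Function.Injective (Matrix.toLin' (g : Matrix (Fin n) (Fin n) F)) := by
  intro x y hxy
  have h : ∀ z : Fin n → F,
      Matrix.toLin' ((g⁻¹ : Matrix.GeneralLinearGroup (Fin n) F) : Matrix (Fin n) (Fin n) F)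
        (Matrix.toLin' (g : Matrix (Fin n) (Fin n) F) z) = z := by
    intro z
    rw [← LinearMap.comp_apply, ← Matrix.toLin'_mul]
    have : ((g⁻¹ : Matrix.GeneralLinearGroup (Fin n) F) : Matrix (Fin n) (Fin n) F) *
        (g : Matrix (Fin n) (Fin n) F) = 1 := by
      rw [← Matrix.GeneralLinearGroup.coe_mul, inv_mul_cancel]; rfl
    rw [this, Matrix.toLin'_one]; rfl
  rw [← h x, ← h y, hxy]

/-- Every `g ∈ GL_n(F)` has a good multiset of elementary divisors. -/
theorem exists_good {F : Type u} [Field F] (n : ℕ) (g : Matrix.GeneralLinearGroup (Fin n) F) :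
    ∃ μ : Multiset (F[X] × ℕ), Good n μ ∧
      Rep (Matrix.toLin' (g : Matrix (Fin n) (Fin n) F)) μ := by
  obtain ⟨μ, hμ, hrep⟩ :=
    Cfsg.Agent.Lib.Helper10_S2478_DECOMP.decomp (Matrix.toLin' (g : Matrix (Fin n) (Fin n) F))
  refine ⟨μ, ⟨?_, ?_⟩, hrep⟩
  · intro x hx
    obtain ⟨h1, h2, h3⟩ := hμ x hx
    exact ⟨h1, h2, Cfsg.Agent.Lib.Helper14_S2478_UNIT.unit _ (toLin'_injective n g) μ hrep x hx h1 h3,
      h3⟩
  · have := Cfsg.Agent.Lib.Helper10_S2478_DIM.dim (Matrix.toLin' (g : Matrix (Fin n) (Fin n) F)) μ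
      (fun x hx => (hμ x hx).1.ne_zero) hrep
    rw [this]
    simp

/-- `k(GL_n(F)) ≤ q^n`. -/
theorem up {F : Type u} [Field F] [Fintype F] (n : ℕ) :
    Nat.card (ConjClasses (Matrix.GeneralLinearGroup (Fin n) F)) ≤ Fintype.card F ^ n := by
  classical
  choose μ hgood hrep using exists_good (F := F) n
  obtain ⟨enc, henc1, henc2⟩ := Cfsg.Agent.Lib.Helper58_S2478_ENCODE.encode (F := F) n
  obtain ⟨hfin, hcardT⟩ := Cfsg.Agent.Lib.Helper8_S2478_SUM.card_types (F := F) n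
    (fun d => Cfsg.Agent.Lib.Helper55_S2478_CARD.card_monicNZ d)
  let Φ : ConjClasses (Matrix.GeneralLinearGroup (Fin n) F) → {h : Fin n → F[X] // IsType n h} :=
    fun c => ⟨enc (μ (Quotient.out c)), henc1 _ (hgood _)⟩
  have hΦ : Function.Injective Φ := by
    intro c c' hcc
    have h1 : enc (μ (Quotient.out c)) = enc (μ (Quotient.out c')) := congrArg Subtype.val hcc
    have h2 : μ (Quotient.out c) = μ (Quotient.out c') := henc2 _ _ (hgood _) (hgood _) h1
    have h3 : IsConj (Quotient.out c) (Quotient.out c') :=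
      Cfsg.Agent.Lib.Helper14_S2478_CONJ.conj n _ _ (μ (Quotient.out c)) (hrep _) (h2 ▸ hrep _)
    have h4 : ConjClasses.mk (Quotient.out c) = ConjClasses.mk (Quotient.out c') :=
      ConjClasses.mk_eq_mk_iff_isConj.mpr h3
    have e1 : ConjClasses.mk (Quotient.out c) = c := Quotient.out_eq c
    have e2 : ConjClasses.mk (Quotient.out c') = c' := Quotient.out_eq c'
    rw [← e1, ← e2, h4]
  calc Nat.card (ConjClasses (Matrix.GeneralLinearGroup (Fin n) F))
      ≤ Nat.card {h : Fin n → F[X] // IsType n h} := Nat.card_le_card_of_injective Φ hΦ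
    _ = ∑ d ∈ Dn n, ∏ j : Fin n, Nq (Fintype.card F) (d j) := hcardT
    _ ≤ Fintype.card F ^ n :=
        Cfsg.Agent.Lib.Helper40_S2478_INEQ.ineq _ n Fintype.card_pos

theorem main {F : Type u} [Field F] [Fintype F] (n : ℕ) (hn : 1 ≤ n) :
    Fintype.card F ^ n - Fintype.card F ^ (n - 1) ≤
        Nat.card (ConjClasses (Matrix.GeneralLinearGroup (Fin n) F)) ∧
      Nat.card (ConjClasses (Matrix.GeneralLinearGroup (Fin n) F)) ≤ Fintype.card F ^ n :=
  ⟨Cfsg.Agent.Lib.Helper55_S2478_LOW.low n hn (Cfsg.Agent.Lib.Helper55_S2478_CARD.card_monicNZ n),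
    up n⟩

end Cfsg.Agent.Lib.Helper40_GLClassHub
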