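import Mathlib
import Cfsg.Agent.Lib.Helper5_SUOrder

set_option autoImplicit false

/-!
The centre of the general unitary group `GU_n(q)` consists of the scalar matrices.
-/

namespace Cfsg.Agent.Lib.Helper40_GUCenter

open Matrix Cfsg.Agent.Lib.Helper13_Herm Cfsg.Agent.Lib.Helper5_GUOrder
  Cfsg.Agent.Lib.Helper5_SUOrder

variable {F : Type*} [Field F] [Fintype F] {q n : ℕ}

omit [Fintype F] in
theorem isU_permMatrix (σ : Equiv.Perm (Fin n)) : IsU n q (Equiv.Perm.permMatrix F σ) := by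
  intro u v
  rw [permMatrix_mulVec, permMatrix_mulVec]
  unfold Cfsg.hermForm
  exact Equiv.sum_comp σ (fun i => u i * v i ^ q)

theorem offdiag_eq_zero (hF : Fintype.card F = q ^ 2) (Z : Matrix (Fin n) (Fin n) F)
    (hZ : ∀ D : Matrix (Fin n) (Fin n) F, IsU n q D → D * Z = Z * D) (k l : Fin n)
    (hkl : k ≠ l) : Z k l = 0 := by
  classical
  obtain ⟨lam, hl, hl1⟩ := exists_norm_one_ne_one hF
  set d : Fin n → F := fun i => if i = k then lam else 1 with hd
  have hdU : ∀ i, d i * (d i) ^ q = 1 := by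
    intro i
    show (if i = k then lam else 1) * (if i = k then lam else 1) ^ q = 1
    by_cases h : i = k
    · rw [if_pos h]
      exact hl
    · rw [if_neg h, one_pow, mul_one]
  have h1 := congrFun (congrFun (hZ _ (isU_diagonal d hdU)) k) l
  rw [Matrix.diagonal_mul, Matrix.mul_diagonal] at h1
  have hdk : d k = lam := if_pos rfl
  have hdl : d l = 1 := if_neg (Ne.symm hkl)
  rw [hdk, hdl, mul_one] at h1
  have h2 : (lam - 1) * Z k l = 0 := by linear_combination h1
  rcases mul_eq_zero.1 h2 with h | h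
  · exact absurd (sub_eq_zero.1 h) hl1
  · exact h

omit [Fintype F] in
theorem diag_eq (Z : Matrix (Fin n) (Fin n) F)
    (hZ : ∀ D : Matrix (Fin n) (Fin n) F, IsU n q D → D * Z = Z * D) (k l : Fin n) :
    Z k k = Z l l := by
  classical
  have h1 := congrFun (congrFun (hZ _ (isU_permMatrix (Equiv.swap k l))) k) l
  unfold Equiv.Perm.permMatrix at h1
  rw [PEquiv.toMatrix_toPEquiv_mul, PEquiv.mul_toMatrix_toPEquiv] at h1
  simp only [Matrix.submatrix_apply, id, Equiv.swap_apply_left, Equiv.symm_swap,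
    Equiv.swap_apply_right] at h1
  exact h1.symm

theorem eq_smul_one (hF : Fintype.card F = q ^ 2) (Z : Matrix (Fin n) (Fin n) F)
    (hZ : ∀ D : Matrix (Fin n) (Fin n) F, IsU n q D → D * Z = Z * D) (i0 : Fin n) :
    Z = Z i0 i0 • (1 : Matrix (Fin n) (Fin n) F) := by
  ext k l
  by_cases hkl : k = l
  · subst hkl
    simp [diag_eq Z hZ k i0]
  · simp [offdiag_eq_zero hF Z hZ k l hkl, hkl]

/-- the centre of `GU_n(q)` consists of the scalar matrices -/
theorem GU_mem_center_iff (hF : Fintype.card F = q ^ 2) (hn : 0 < n) (z : ↥(Cfsg.GU n F q)) :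
    z ∈ Subgroup.center ↥(Cfsg.GU n F q) ↔
      ∃ a : F, ((z : GL (Fin n) F) : Matrix (Fin n) (Fin n) F) =
        a • (1 : Matrix (Fin n) (Fin n) F) := by
  have hq0 : q ≠ 0 := by
    have := two_le_q hF
    omega
  constructor
  · intro hz
    refine ⟨_, eq_smul_one hF _ ?_ ⟨0, hn⟩⟩
    intro D hD
    have h := (Subgroup.mem_center_iff.mp hz) (mkGU hq0 D hD)
    have h2 := congrArg
      (fun s : ↥(Cfsg.GU n F q) => ((s : GL (Fin n) F) : Matrix (Fin n) (Fin n) F)) h
    exact h2
  · rintro ⟨a, ha⟩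
    rw [Subgroup.mem_center_iff]
    intro g
    apply Subtype.ext
    apply Units.ext
    show ((g : GL (Fin n) F) : Matrix (Fin n) (Fin n) F) *
        ((z : GL (Fin n) F) : Matrix (Fin n) (Fin n) F) =
      ((z : GL (Fin n) F) : Matrix (Fin n) (Fin n) F) *
        ((g : GL (Fin n) F) : Matrix (Fin n) (Fin n) F)
    rw [ha, Matrix.mul_smul, Matrix.smul_mul, Matrix.mul_one, Matrix.one_mul]

omit [Fintype F] in
/-- a scalar matrix in `GU_n(q)` has scalar of norm one -/
theorem pow_eq_one_of_isU_smul (hn : 0 < n) (a : F)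
    (hU : IsU n q (a • (1 : Matrix (Fin n) (Fin n) F))) : a ^ (q + 1) = 1 := by
  have h := hU (Pi.single ⟨0, hn⟩ 1) (Pi.single ⟨0, hn⟩ 1)
  rw [Matrix.smul_mulVec, Matrix.one_mulVec, hermForm_smul_left, hermForm_smul_right,
    hermForm_single_left] at h
  simp at h
  rw [pow_succ']
  exact h

end Cfsg.Agent.Lib.Helper40_GUCenter
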