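import Mathlib

set_option autoImplicit false

/-!
Abstract part of the "cube absorbs an elementary abelian factor" theorems: element orders of
direct products `P × P × P × E` and `P × P × E`, with `E` of prime exponent `r`, from a trichotomy
for the element orders of `P`.
-/

namespace Cfsg.Agent.Lib.Helper40_IsoSpecAbs

/-- the set of element orders -/
def Spec (P : Type*) [Monoid P] : Set ℕ := Set.range (orderOf : P → ℕ)

theorem one_mem_spec (P : Type*) [Monoid P] : 1 ∈ Spec P := ⟨1, orderOf_one⟩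

theorem spec_pos {P : Type*} [Group P] [Finite P] {a : ℕ} (ha : a ∈ Spec P) : 0 < a := by
  obtain ⟨x, rfl⟩ := ha
  exact orderOf_pos x

theorem spec_dvd {P : Type*} [Group P] [Finite P] {a b : ℕ} (ha : a ∈ Spec P) (hb : b ∣ a) :
    b ∈ Spec P := by
  have hpos := spec_pos ha
  obtain ⟨x, rfl⟩ := ha
  obtain ⟨c, hc⟩ := hb
  have hc0 : c ≠ 0 := by
    rintro rfl
    rw [mul_zero] at hc
    omega
  refine ⟨x ^ c, ?_⟩
  rw [orderOf_pow_of_dvd hc0 ⟨b, by rw [hc]; ring⟩, hc]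
  exact Nat.mul_div_cancel _ (Nat.pos_of_ne_zero hc0)

/-- `lcm (r * a) M = r * lcm a M` when `r` is prime to `lcm a M` -/
theorem lcm_mul_left_of_coprime {r a M : ℕ} (h : Nat.Coprime r (Nat.lcm a M)) :
    Nat.lcm (r * a) M = r * Nat.lcm a M := by
  have h1 : Nat.lcm (r * a) M = Nat.lcm r (Nat.lcm a M) := by
    have hra : Nat.lcm r a = r * a :=
      (Nat.Coprime.lcm_eq_mul (Nat.Coprime.coprime_dvd_right (Nat.dvd_lcm_left a M) h))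
    rw [← hra, Nat.lcm_assoc]
  rw [h1, h.lcm_eq_mul]

section three

variable {P : Type*} [Group P] [Finite P] {E : Type*} [Group E]

theorem orderOf_dvd_prime_of_pow {r : ℕ} (hr : r.Prime) (hE : ∀ v : E, v ^ r = 1) (v : E) :
    orderOf v = 1 ∨ orderOf v = r :=
  (Nat.dvd_prime hr).1 (orderOf_dvd_of_pow_eq_one (hE v))

omit [Finite P] in
/-- three factors -/
theorem range_orderOf_prod3 (r : ℕ) (hr : r.Prime) (hE : ∀ v : E, v ^ r = 1)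
    (H3 : ∀ a b c : ℕ, a ∈ Spec P → b ∈ Spec P → c ∈ Spec P →
      ¬ r ∣ Nat.lcm a (Nat.lcm b c) →
      ∃ a' b' c' : ℕ, a' ∈ Spec P ∧ b' ∈ Spec P ∧ c' ∈ Spec P ∧
        Nat.lcm a' (Nat.lcm b' c') = r * Nat.lcm a (Nat.lcm b c)) :
    Set.range (orderOf : P × P × P × E → ℕ) = Set.range (orderOf : P × P × P → ℕ) := by
  apply Set.eq_of_subset_of_subset
  · rintro _ ⟨⟨x, y, z, v⟩, rfl⟩
    simp only [Prod.orderOf]
    rcases orderOf_dvd_prime_of_pow hr hE v with hv | hv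
    · refine ⟨(x, y, z), ?_⟩
      simp only [Prod.orderOf]
      rw [hv, Nat.lcm_one_right]
    · rw [hv]
      by_cases hdiv : r ∣ Nat.lcm (orderOf x) (Nat.lcm (orderOf y) (orderOf z))
      · refine ⟨(x, y, z), ?_⟩
        simp only [Prod.orderOf]
        rw [← Nat.lcm_assoc (orderOf y) (orderOf z) r,
          ← Nat.lcm_assoc (orderOf x) (Nat.lcm (orderOf y) (orderOf z)) r]
        exact (Nat.lcm_eq_left hdiv).symm
      · obtain ⟨a', b', c', ⟨x', rfl⟩, ⟨y', rfl⟩, ⟨z', rfl⟩, hl⟩ :=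
          H3 _ _ _ ⟨x, rfl⟩ ⟨y, rfl⟩ ⟨z, rfl⟩ hdiv
        refine ⟨(x', y', z'), ?_⟩
        simp only [Prod.orderOf]
        rw [hl, ← Nat.lcm_assoc (orderOf y) (orderOf z) r,
          ← Nat.lcm_assoc (orderOf x) (Nat.lcm (orderOf y) (orderOf z)) r]
        have hcop : Nat.Coprime (Nat.lcm (orderOf x) (Nat.lcm (orderOf y) (orderOf z))) r :=
          ((Nat.Prime.coprime_iff_not_dvd hr).2 hdiv).symm
        rw [hcop.lcm_eq_mul, mul_comm]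
  · rintro _ ⟨⟨x, y, z⟩, rfl⟩
    refine ⟨(x, y, z, 1), ?_⟩
    simp only [Prod.orderOf, orderOf_one, Nat.lcm_one_right]

omit [Finite P] in
/-- two factors -/
theorem range_orderOf_prod2 (r : ℕ) (hr : r.Prime) (hE : ∀ v : E, v ^ r = 1)
    (H2 : ∀ a b : ℕ, a ∈ Spec P → b ∈ Spec P → ¬ r ∣ Nat.lcm a b →
      ∃ a' b' : ℕ, a' ∈ Spec P ∧ b' ∈ Spec P ∧ Nat.lcm a' b' = r * Nat.lcm a b) :
    Set.range (orderOf : P × P × E → ℕ) = Set.range (orderOf : P × P → ℕ) := by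
  apply Set.eq_of_subset_of_subset
  · rintro _ ⟨⟨x, y, v⟩, rfl⟩
    simp only [Prod.orderOf]
    rcases orderOf_dvd_prime_of_pow hr hE v with hv | hv
    · refine ⟨(x, y), ?_⟩
      simp only [Prod.orderOf]
      rw [hv, Nat.lcm_one_right]
    · rw [hv]
      by_cases hdiv : r ∣ Nat.lcm (orderOf x) (orderOf y)
      · refine ⟨(x, y), ?_⟩
        simp only [Prod.orderOf]
        rw [← Nat.lcm_assoc (orderOf x) (orderOf y) r]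
        exact (Nat.lcm_eq_left hdiv).symm
      · obtain ⟨a', b', ⟨x', rfl⟩, ⟨y', rfl⟩, hl⟩ := H2 _ _ ⟨x, rfl⟩ ⟨y, rfl⟩ hdiv
        refine ⟨(x', y'), ?_⟩
        simp only [Prod.orderOf]
        rw [hl, ← Nat.lcm_assoc (orderOf x) (orderOf y) r]
        have hcop : Nat.Coprime (Nat.lcm (orderOf x) (orderOf y)) r :=
          ((Nat.Prime.coprime_iff_not_dvd hr).2 hdiv).symm
        rw [hcop.lcm_eq_mul, mul_comm]
  · rintro _ ⟨⟨x, y⟩, rfl⟩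
    refine ⟨(x, y, 1), ?_⟩
    simp only [Prod.orderOf, orderOf_one, Nat.lcm_one_right]

end three

section numeric

/-- the trichotomy hypothesis on a divisor-closed set of numbers -/
structure Tri (S : Set ℕ) (r p T : ℕ) (Exc : Prop) : Prop where
  hdiv : ∀ a ∈ S, ∀ b, b ∣ a → b ∈ S
  hpos : ∀ a ∈ S, 0 < a
  hr : r.Prime
  hp : p.Prime
  hrp : r ≠ p
  hT : T ∈ S
  hrS : r ∈ S
  tri : ∀ a ∈ S, ¬ r ∣ a → (r * a ∈ S) ∨ (a ∣ T) ∨ (Exc ∧ ∃ k : ℕ, a = p ^ k)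

variable {S : Set ℕ} {r p T : ℕ} {Exc : Prop}

/-- every `r'`-number in `S` is good, or splits as `lcm d e` with `d ∣ T`, `e` a power of `p` in
`S` -/
theorem Tri.split (h : Tri S r p T Exc) (a : ℕ) (ha : a ∈ S) (hra : ¬ r ∣ a) :
    (r * a ∈ S) ∨ ∃ d e : ℕ, d ∣ T ∧ e ∈ S ∧ (∃ k : ℕ, e = p ^ k) ∧ (e ≠ 1 → Exc) ∧
      a = Nat.lcm d e := by
  rcases h.tri a ha hra with h1 | h2 | ⟨hE, k, hk⟩
  · exact Or.inl h1
  · refine Or.inr ⟨a, 1, h2, h.hdiv a ha 1 (one_dvd _), ⟨0, by simp⟩, fun hne => absurd rfl hne,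
      by simp⟩
  · exact Or.inr ⟨1, a, one_dvd _, ha, ⟨k, hk⟩, fun _ => hE, by simp⟩

theorem lcm_prime_pow (p i j : ℕ) : Nat.lcm (p ^ i) (p ^ j) = p ^ (max i j) := by
  rcases le_total i j with hij | hij
  · rw [max_eq_right hij]
    exact Nat.lcm_eq_right (pow_dvd_pow p hij)
  · rw [max_eq_left hij]
    exact Nat.lcm_eq_left (pow_dvd_pow p hij)

theorem lcm_prime_pow_mem (e₁ e₂ : ℕ) (h₁ : e₁ ∈ S) (h₂ : e₂ ∈ S) (k₁ : ∃ k : ℕ, e₁ = p ^ k)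
    (k₂ : ∃ k : ℕ, e₂ = p ^ k) :
    Nat.lcm e₁ e₂ ∈ S ∧ (∃ k : ℕ, Nat.lcm e₁ e₂ = p ^ k) ∧
      (Nat.lcm e₁ e₂ ≠ 1 → e₁ ≠ 1 ∨ e₂ ≠ 1) := by
  obtain ⟨i, rfl⟩ := k₁
  obtain ⟨j, rfl⟩ := k₂
  rw [lcm_prime_pow]
  refine ⟨?_, ⟨_, rfl⟩, ?_⟩
  · rcases le_total i j with hij | hij
    · rwa [max_eq_right hij]
    · rwa [max_eq_left hij]
  · intro hne
    by_contra hcon
    rw [not_or, not_not, not_not] at hcon
    rcases le_total i j with hij | hij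
    · rw [max_eq_right hij] at hne
      exact hne hcon.2
    · rw [max_eq_left hij] at hne
      exact hne hcon.1

theorem lcm_lcm_lcm (d₁ e₁ d₂ e₂ : ℕ) :
    Nat.lcm (Nat.lcm d₁ e₁) (Nat.lcm d₂ e₂) = Nat.lcm (Nat.lcm d₁ d₂) (Nat.lcm e₁ e₂) := by
  rw [Nat.lcm_assoc, Nat.lcm_assoc, ← Nat.lcm_assoc e₁, Nat.lcm_comm e₁ d₂, Nat.lcm_assoc d₂]

/-- the three-slot statement -/
theorem Tri.three (h : Tri S r p T Exc) (a b c : ℕ) (ha : a ∈ S) (hb : b ∈ S) (hc : c ∈ S)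
    (hr : ¬ r ∣ Nat.lcm a (Nat.lcm b c)) :
    ∃ a' b' c' : ℕ, a' ∈ S ∧ b' ∈ S ∧ c' ∈ S ∧
      Nat.lcm a' (Nat.lcm b' c') = r * Nat.lcm a (Nat.lcm b c) := by
  have hcop : Nat.Coprime r (Nat.lcm a (Nat.lcm b c)) := (Nat.Prime.coprime_iff_not_dvd h.hr).2 hr
  have hra : ¬ r ∣ a := fun hd => hr (hd.trans (Nat.dvd_lcm_left _ _))
  have hrb : ¬ r ∣ b := fun hd =>
    hr (hd.trans ((Nat.dvd_lcm_left _ _).trans (Nat.dvd_lcm_right _ _)))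
  have hrc : ¬ r ∣ c := fun hd =>
    hr (hd.trans ((Nat.dvd_lcm_right _ _).trans (Nat.dvd_lcm_right _ _)))
  rcases h.split a ha hra with hga | ⟨d₁, e₁, hd₁, he₁, hk₁, hx₁, rfl⟩
  · exact ⟨r * a, b, c, hga, hb, hc, lcm_mul_left_of_coprime hcop⟩
  rcases h.split b hb hrb with hgb | ⟨d₂, e₂, hd₂, he₂, hk₂, hx₂, rfl⟩
  · refine ⟨_, r * b, c, ha, hgb, hc, ?_⟩
    have h1 : Nat.lcm (Nat.lcm d₁ e₁) (Nat.lcm b c) = Nat.lcm b (Nat.lcm (Nat.lcm d₁ e₁) c) := by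
      rw [← Nat.lcm_assoc, Nat.lcm_comm _ b, Nat.lcm_assoc]
    rw [h1] at hcop ⊢
    rw [← Nat.lcm_assoc, Nat.lcm_comm _ (r * b), Nat.lcm_assoc]
    exact lcm_mul_left_of_coprime hcop
  rcases h.split c hc hrc with hgc | ⟨d₃, e₃, hd₃, he₃, hk₃, hx₃, rfl⟩
  · refine ⟨_, _, r * c, ha, hb, hgc, ?_⟩
    have h1 : Nat.lcm (Nat.lcm d₁ e₁) (Nat.lcm (Nat.lcm d₂ e₂) c) =
        Nat.lcm c (Nat.lcm (Nat.lcm d₁ e₁) (Nat.lcm d₂ e₂)) := by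
      rw [← Nat.lcm_assoc, Nat.lcm_comm]
    rw [h1] at hcop ⊢
    rw [← Nat.lcm_assoc, Nat.lcm_comm]
    exact lcm_mul_left_of_coprime hcop
  -- all three are of Singer or regular unipotent type
  obtain ⟨he₁₂, hk₁₂, -⟩ := lcm_prime_pow_mem e₁ e₂ he₁ he₂ hk₁ hk₂
  obtain ⟨he, hk, -⟩ := lcm_prime_pow_mem _ e₃ he₁₂ he₃ hk₁₂ hk₃
  have hd : Nat.lcm (Nat.lcm d₁ d₂) d₃ ∣ T := Nat.lcm_dvd (Nat.lcm_dvd hd₁ hd₂) hd₃
  have hdS : Nat.lcm (Nat.lcm d₁ d₂) d₃ ∈ S := h.hdiv T h.hT _ hd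
  have hN : Nat.lcm (Nat.lcm d₁ e₁) (Nat.lcm (Nat.lcm d₂ e₂) (Nat.lcm d₃ e₃)) =
      Nat.lcm (Nat.lcm (Nat.lcm d₁ d₂) d₃) (Nat.lcm (Nat.lcm e₁ e₂) e₃) := by
    rw [← Nat.lcm_assoc, lcm_lcm_lcm d₁ e₁ d₂ e₂, lcm_lcm_lcm]
  rw [hN] at hcop ⊢
  refine ⟨r, _, _, h.hrS, hdS, he, ?_⟩
  rw [hcop.lcm_eq_mul]

/-- the two-slot statement, without the exceptional case -/
theorem Tri.two (h : Tri S r p T Exc) (hE : ¬ Exc) (a b : ℕ) (ha : a ∈ S) (hb : b ∈ S)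
    (hr : ¬ r ∣ Nat.lcm a b) :
    ∃ a' b' : ℕ, a' ∈ S ∧ b' ∈ S ∧ Nat.lcm a' b' = r * Nat.lcm a b := by
  have hcop : Nat.Coprime r (Nat.lcm a b) := (Nat.Prime.coprime_iff_not_dvd h.hr).2 hr
  have hra : ¬ r ∣ a := fun hd => hr (hd.trans (Nat.dvd_lcm_left _ _))
  have hrb : ¬ r ∣ b := fun hd => hr (hd.trans (Nat.dvd_lcm_right _ _))
  rcases h.split a ha hra with hga | ⟨d₁, e₁, hd₁, he₁, hk₁, hx₁, rfl⟩
  · exact ⟨r * a, b, hga, hb, lcm_mul_left_of_coprime hcop⟩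
  rcases h.split b hb hrb with hgb | ⟨d₂, e₂, hd₂, he₂, hk₂, hx₂, rfl⟩
  · refine ⟨_, r * b, ha, hgb, ?_⟩
    rw [Nat.lcm_comm] at hcop
    rw [Nat.lcm_comm (Nat.lcm d₁ e₁) (r * b), Nat.lcm_comm (Nat.lcm d₁ e₁) b]
    exact lcm_mul_left_of_coprime hcop
  have h1 : e₁ = 1 := by
    by_contra hne
    exact hE (hx₁ hne)
  have h2 : e₂ = 1 := by
    by_contra hne
    exact hE (hx₂ hne)
  subst h1 h2
  rw [Nat.lcm_one_right, Nat.lcm_one_right] at hcop ⊢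
  refine ⟨r, Nat.lcm d₁ d₂, h.hrS, h.hdiv T h.hT _ (Nat.lcm_dvd hd₁ hd₂), ?_⟩
  rw [hcop.lcm_eq_mul]

end numeric

end Cfsg.Agent.Lib.Helper40_IsoSpecAbs
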