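import Mathlib
set_option autoImplicit false

/-!
Arithmetic for the class counts in the even-dimensional orthogonal groups (helper40).
-/

namespace Cfsg.Agent.Lib.Helper40_OEvenArith

theorem pascal_sub (k s : ℕ) (hk : 1 ≤ k) (hs : 1 ≤ s) :
    (k + s).choose s - 1 - (k + s - 1).choose (s - 1) = (k - 1 + s).choose s - 1 := by
  obtain ⟨k', rfl⟩ : ∃ k', k = k' + 1 := ⟨k - 1, by omega⟩
  obtain ⟨s', rfl⟩ : ∃ s', s = s' + 1 := ⟨s - 1, by omega⟩
  have e1 : (k' + 1 + (s' + 1)).choose (s' + 1) =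
      (k' + s' + 1).choose s' + (k' + s' + 1).choose (s' + 1) := by
    rw [show k' + 1 + (s' + 1) = (k' + s' + 1) + 1 by ring, Nat.choose_succ_succ']
  have e2 : (k' + 1 + (s' + 1) - 1).choose (s' + 1 - 1) = (k' + s' + 1).choose s' := by
    rw [show k' + 1 + (s' + 1) - 1 = k' + s' + 1 by omega, Nat.add_sub_cancel]
  have e3 : (k' + 1 - 1 + (s' + 1)).choose (s' + 1) = (k' + s' + 1).choose (s' + 1) := by
    rw [show k' + 1 - 1 + (s' + 1) = k' + s' + 1 by omega]
  rw [e1, e2, e3]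
  omega

theorem sub_div_of_dvd (n i d : ℕ) (hd : 1 ≤ d) (hdi : d ≤ i) (hi : i ∣ n) (hn : d ≤ n) :
    (n - d) / i = n / i - 1 := by
  obtain ⟨k, rfl⟩ := hi
  have hipos : 0 < i := by omega
  obtain ⟨k', rfl⟩ : ∃ k', k = k' + 1 := by
    rcases Nat.eq_zero_or_pos k with rfl | h
    · omega
    · exact ⟨k - 1, by omega⟩
  rw [Nat.mul_div_cancel_left _ hipos, Nat.add_sub_cancel]
  apply Nat.div_eq_of_lt_le
  · rw [Nat.mul_succ]
    have : k' * i = i * k' := mul_comm _ _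
    omega
  · rw [Nat.mul_succ]
    have : (k' + 1) * i = i * k' + i := by ring
    omega

end Cfsg.Agent.Lib.Helper40_OEvenArith
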