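import Mathlib
import Cfsg.Agent.Lib.Helper40_P4Defs
import Cfsg.Agent.Lib.Helper45_S3590_PKS

/-!
# S3466 package `SDP` (helper49): the spectrum of `V ^ k ⋊ G`, any prime `p`

`PKSp` is the general-prime version of helper45's `PKS`; `SDP` is the package statement:
for a submonoid `𝒮` of `AddMonoid.End V` consisting of elements of finite order, the group
`V ^ (M+1) ⋊ G`, `G` the group of units lying in `𝒮`, has spectrum `{n | ∃ α ∈ 𝒮, Realizes p α n}`.
-/

set_option autoImplicit false

namespace Cfsg.Agent.Lib.Helper49_S3466_SDP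

open Cfsg.Agent.Lib.Helper40_P4Defs Cfsg.Agent.Lib.Helper45_S3590_PKS
open Cfsg.Agent.Lib.Helper45_S3590_PKS.SD

/-- the spectrum of `V ^ k ⋊ G` for `V` of prime exponent `p` -/
theorem PKSp {G : Type*} [Group G] [Fintype G] {V : Type*} [AddCommGroup V] [Fintype V]
    [Nontrivial V] (ρ : G →* AddMonoid.End V) (p : ℕ) (hp : p.Prime)
    (hV : ∀ v : V, p • v = 0) (M : ℕ) :
    ∃ (H : Type) (_ : Group H) (_ : Fintype H), M < Fintype.card H ∧
      Set.range (orderOf : H → ℕ) =
        {n | ∃ g : G, n = orderOf g ∨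
          (n = p * orderOf g ∧ ∃ v : V, ∑ i ∈ Finset.range (orderOf g), ρ (g ^ i) v ≠ 0)} := by
  classical
  set k := M + 1 with hk
  letI iGrp : Group (SD G V k) := SD.group (k := k) ρ
  -- finiteness and cardinality
  let eP : SD G V k ≃ (Fin k → V) × G :=
    { toFun := fun x => (x.w, x.g)
      invFun := fun y => ⟨y.1, y.2⟩
      left_inv := fun x => by cases x; rfl
      right_inv := fun y => rfl }
  letI : Fintype (SD G V k) := Fintype.ofEquiv _ eP.symm
  have hcard : M < Fintype.card (SD G V k) := by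
    rw [Fintype.card_congr eP, Fintype.card_prod, Fintype.card_fun, Fintype.card_fin]
    have h1 : 2 ≤ Fintype.card V := Fintype.one_lt_card
    have h2' : 1 ≤ Fintype.card G := Fintype.card_pos
    calc M < 2 ^ M := Nat.lt_two_pow_self
      _ ≤ 2 ^ k := Nat.pow_le_pow_right (by norm_num) (by omega)
      _ ≤ Fintype.card V ^ k := Nat.pow_le_pow_left h1 k
      _ ≤ Fintype.card V ^ k * Fintype.card G := Nat.le_mul_of_pos_right _ h2'
  -- the `p`-th power of an element of the kernel
  have hpp : ∀ N : Fin k → V, ((⟨N, 1⟩ : SD G V k)) ^ p = 1 := by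
    intro N
    apply SD.ext'
    · rw [pow_w]
      show ∑ i ∈ Finset.range p, act ρ ((1 : G) ^ i) N = 0
      have h1 : ∀ i ∈ Finset.range p, act ρ ((1 : G) ^ i) N = N := by
        intro i _
        rw [one_pow, act_one]
      rw [Finset.sum_congr rfl h1, Finset.sum_const, Finset.card_range]
      funext j
      exact hV (N j)
    · rw [pow_g]
      show (1 : G) ^ p = 1
      rw [one_pow]
  have hord : ∀ x : SD G V k,
      (∑ i ∈ Finset.range (orderOf x.g), act ρ (x.g ^ i) x.w = 0 → orderOf x = orderOf x.g) ∧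
      (∑ i ∈ Finset.range (orderOf x.g), act ρ (x.g ^ i) x.w ≠ 0 →
        orderOf x = p * orderOf x.g) := by
    intro x
    set n := orderOf x.g with hn
    have hn0 : 0 < n := orderOf_pos x.g
    have hdvd : n ∣ orderOf x := by
      apply orderOf_dvd_of_pow_eq_one
      have h1 := congrArg SD.g (pow_orderOf_eq_one x)
      rw [pow_g] at h1
      exact h1
    have hxn : x ^ n = ⟨∑ i ∈ Finset.range n, act ρ (x.g ^ i) x.w, 1⟩ := by
      apply SD.ext'
      · rw [pow_w]
      · rw [pow_g]; exact pow_orderOf_eq_one x.g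
    constructor
    · intro h0
      apply Nat.dvd_antisymm _ hdvd
      apply orderOf_dvd_of_pow_eq_one
      rw [hxn, h0]
      rfl
    · intro h0
      have h2n : orderOf x ∣ p * n := by
        apply orderOf_dvd_of_pow_eq_one
        rw [mul_comm, pow_mul, hxn]
        exact hpp _
      have hne : orderOf x ≠ n := by
        intro heq
        have h1 : x ^ n = 1 := by rw [← heq]; exact pow_orderOf_eq_one x
        rw [hxn] at h1
        exact h0 (congrArg SD.w h1)
      obtain ⟨t, ht⟩ := hdvd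
      rw [ht, mul_comm p n] at h2n
      have ht2 : t ∣ p := (Nat.mul_dvd_mul_iff_left hn0).1 h2n
      rcases (Nat.dvd_prime hp).1 ht2 with rfl | rfl
      · rw [mul_one] at ht; exact absurd ht hne
      · rw [ht, mul_comm]
  -- the spectrum of `SD G V k`
  have hrange : Set.range (orderOf : SD G V k → ℕ) =
      {n | ∃ g : G, n = orderOf g ∨
        (n = p * orderOf g ∧ ∃ v : V, ∑ i ∈ Finset.range (orderOf g), ρ (g ^ i) v ≠ 0)} := by
    ext n
    constructor
    · rintro ⟨x, rfl⟩
      refine ⟨x.g, ?_⟩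
      by_cases h0 : ∑ i ∈ Finset.range (orderOf x.g), act ρ (x.g ^ i) x.w = 0
      · exact Or.inl ((hord x).1 h0)
      · refine Or.inr ⟨(hord x).2 h0, ?_⟩
        by_contra hcon
        push Not at hcon
        apply h0
        funext j
        rw [Finset.sum_apply]
        exact hcon (x.w j)
    · rintro ⟨g, rfl | ⟨rfl, v, hv⟩⟩
      · refine ⟨⟨0, g⟩, ?_⟩
        apply (hord ⟨0, g⟩).1
        apply Finset.sum_eq_zero
        intro i _
        exact act_zero ρ _
      · refine ⟨⟨fun _ => v, g⟩, ?_⟩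
        apply (hord ⟨fun _ => v, g⟩).2
        intro h0
        apply hv
        have := congrFun h0 (⟨0, by omega⟩ : Fin k)
        rw [Finset.sum_apply] at this
        exact this
  -- transfer to `Type`
  obtain ⟨H, iG, iF, hc, hr⟩ := transfer (SD G V k)
  refine ⟨H, iG, iF, ?_, ?_⟩
  · rw [hc]; exact hcard
  · rw [hr, hrange]

theorem end_sum_apply {V : Type*} [AddCommGroup V] {κ : Type*} (s : Finset κ)
    (f : κ → AddMonoid.End V) (v : V) : (∑ i ∈ s, f i) v = ∑ i ∈ s, f i v := by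
  classical
  induction s using Finset.cons_induction with
  | empty =>
    rw [Finset.sum_empty, Finset.sum_empty]
    rfl
  | cons a s ha ih =>
    rw [Finset.sum_cons, Finset.sum_cons, ← ih]
    rfl

/-- the units of `AddMonoid.End V` lying in a submonoid of elements of finite order -/
def unitsIn {V : Type*} [AddCommGroup V] (𝒮 : Submonoid (AddMonoid.End V))
    (h𝒮 : ∀ α ∈ 𝒮, ∃ n : ℕ, 0 < n ∧ α ^ n = 1) : Subgroup (AddMonoid.End V)ˣ where
  carrier := {u | (u : AddMonoid.End V) ∈ 𝒮}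
  mul_mem' := by
    intro a b ha hb
    show ((a * b : (AddMonoid.End V)ˣ) : AddMonoid.End V) ∈ 𝒮
    rw [Units.val_mul]
    exact 𝒮.mul_mem ha hb
  one_mem' := by
    show ((1 : (AddMonoid.End V)ˣ) : AddMonoid.End V) ∈ 𝒮
    rw [Units.val_one]
    exact 𝒮.one_mem
  inv_mem' := by
    intro a ha
    obtain ⟨n, hn, hpow⟩ := h𝒮 _ ha
    have h1 : a ^ n = 1 := by
      apply Units.ext
      rw [Units.val_pow_eq_pow_val, hpow, Units.val_one]
    have h2 : a⁻¹ = a ^ (n - 1) := by
      rw [inv_eq_iff_mul_eq_one, ← pow_succ', Nat.sub_add_cancel hn, h1]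
    show ((a⁻¹ : (AddMonoid.End V)ˣ) : AddMonoid.End V) ∈ 𝒮
    rw [h2, Units.val_pow_eq_pow_val]
    exact 𝒮.pow_mem ha _

theorem SDP {V : Type*} [AddCommGroup V] [Fintype V] [Nontrivial V] (p : ℕ) (hp : p.Prime)
    (hV : ∀ v : V, p • v = 0) (𝒮 : Submonoid (AddMonoid.End V))
    (h𝒮 : ∀ α ∈ 𝒮, ∃ n : ℕ, 0 < n ∧ α ^ n = 1) (M : ℕ) :
    ∃ (H : Type) (_ : Group H) (_ : Fintype H), M < Fintype.card H ∧
      Set.range (orderOf : H → ℕ) = {n | ∃ α ∈ 𝒮, Realizes p α n} := by
  classical
  have hfin : Finite (AddMonoid.End V) := DFunLike.finite (V →+ V)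
  set G := unitsIn 𝒮 h𝒮 with hG
  letI : Fintype G := Fintype.ofFinite G
  -- the action
  let ρ : G →* AddMonoid.End V := (Units.coeHom (AddMonoid.End V)).comp G.subtype
  have hρ : ∀ g : G, ρ g = ((g : (AddMonoid.End V)ˣ) : AddMonoid.End V) := fun g => rfl
  have hρinj : Function.Injective ρ := by
    intro a b hab
    apply Subtype.ext
    apply Units.ext
    exact hab
  have hordρ : ∀ g : G, orderOf (ρ g) = orderOf g := fun g => orderOf_injective ρ hρinj g
  have hmem : ∀ g : G, ρ g ∈ 𝒮 := fun g => g.2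
  -- every element of `𝒮` comes from `G`
  have hsurj : ∀ α ∈ 𝒮, ∃ g : G, ρ g = α := by
    intro α hα
    obtain ⟨n, hn, hpow⟩ := h𝒮 α hα
    have h1 : α * α ^ (n - 1) = 1 := by rw [← pow_succ', Nat.sub_add_cancel hn, hpow]
    have h2 : α ^ (n - 1) * α = 1 := by rw [← pow_succ, Nat.sub_add_cancel hn, hpow]
    exact ⟨⟨⟨α, α ^ (n - 1), h1, h2⟩, hα⟩, rfl⟩
  -- the norm sum
  have hnorm : ∀ g : G, (∃ v : V, ∑ i ∈ Finset.range (orderOf g), ρ (g ^ i) v ≠ 0) ↔
      normSum (ρ g) ≠ 0 := by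
    intro g
    have hsum : ∀ v : V, ∑ i ∈ Finset.range (orderOf g), ρ (g ^ i) v = normSum (ρ g) v := by
      intro v
      unfold normSum
      rw [hordρ g, end_sum_apply]
      apply Finset.sum_congr rfl
      intro i _
      rw [map_pow]
    constructor
    · rintro ⟨v, hv⟩ h0
      apply hv
      rw [hsum v, h0]
      rfl
    · intro h0
      by_contra hcon
      push Not at hcon
      apply h0
      refine DFunLike.ext _ _ (fun v => ?_)
      exact ((hsum v).symm.trans (hcon v))
  obtain ⟨H, iG, iF, hc, hr⟩ := PKSp ρ p hp hV M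
  refine ⟨H, iG, iF, hc, ?_⟩
  rw [hr]
  ext n
  constructor
  · rintro ⟨g, rfl | ⟨rfl, hv⟩⟩
    · exact ⟨ρ g, hmem g, Or.inl (hordρ g).symm⟩
    · exact ⟨ρ g, hmem g, Or.inr ⟨by rw [hordρ g], (hnorm g).1 hv⟩⟩
  · rintro ⟨α, hα, hR⟩
    obtain ⟨g, rfl⟩ := hsurj α hα
    refine ⟨g, ?_⟩
    rcases hR with h | ⟨h, h0⟩
    · exact Or.inl (by rw [h, hordρ g])
    · exact Or.inr ⟨by rw [h, hordρ g], (hnorm g).2 h0⟩

end Cfsg.Agent.Lib.Helper49_S3466_SDP
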