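import Mathlib
import Cfsg.Agent.Lib.Helper40_P4Defs
import Cfsg.Agent.Lib.Helper40_OrdPoly

/-!
# S3466 package `T1Ua` (helper49): split palindromic quartics

For `y₁ y₂` in a finite field `F` of characteristic `p` with `q` elements the quartic
`(X² - y₁ X + 1)(X² - y₂ X + 1)` divides `X ^ m - 1` or `X ^ m + 1` for some `m ∈ mu4 p q`.
-/

set_option autoImplicit false

namespace Cfsg.Agent.Lib.Helper49_S3466_T1Ua

open Polynomial Cfsg.Agent.Lib.Helper40_P4Defs Cfsg.Agent.Lib.Helper40_OrdPoly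
  Cfsg.Agent.Lib.Helper40_Palindromic

universe u

section basic

variable {F : Type*} [Field F]

/-- the quadratic `X² - y X + 1` -/
noncomputable def qy (y : F) : F[X] := X ^ 2 - C y * X + 1

theorem qy_monic (y : F) : (qy y).Monic := by
  unfold qy
  monicity!

theorem qy_natDegree (y : F) : (qy y).natDegree = 2 := by
  unfold qy
  compute_degree!

theorem qy_coeff_zero (y : F) : (qy y).coeff 0 = 1 := by
  simp [qy]

theorem qy_coeff_two (y : F) : (qy y).coeff 2 = 1 := by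
  simp [qy, coeff_one]

theorem qy_eval (y t : F) : (qy y).eval t = t ^ 2 - y * t + 1 := by
  simp [qy]

theorem qy_reverse (y : F) : (qy y).reverse = qy y := by
  ext n
  rw [coeff_reverse, qy_natDegree]
  rcases n with _ | _ | _ | n
  · rw [revAt_le (by norm_num), qy_coeff_zero, qy_coeff_two]
  · rw [revAt_le (by norm_num)]
  · rw [revAt_le (by norm_num), qy_coeff_zero, qy_coeff_two]
  · rw [revAt_eq_self_of_lt (by omega)]

theorem qy_recip (y : F) : recip (qy y) = qy y :=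
  recip_of_reverse_eq _ (qy_monic y) (qy_reverse y)

theorem qy_two : qy (2 : F) = (X - 1) ^ 2 := by
  unfold qy
  rw [show (C (2 : F) : F[X]) = 2 from map_ofNat C 2]
  ring

theorem qy_neg_two : qy (-2 : F) = (X + 1) ^ 2 := by
  unfold qy
  rw [show (C (-2 : F) : F[X]) = -2 from by rw [C_neg, map_ofNat C 2]]
  ring

theorem qy_of_root (y t : F) (ht : t ^ 2 - y * t + 1 = 0) :
    t ≠ 0 ∧ qy y = (X - C t) * (X - C t⁻¹) := by
  have ht0 : t ≠ 0 := by
    rintro rfl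
    simp at ht
  refine ⟨ht0, ?_⟩
  have hy : y = t + t⁻¹ := by
    field_simp
    linear_combination (-1 : F) * ht
  unfold qy
  rw [hy, C_add]
  have : (C t : F[X]) * C t⁻¹ = 1 := by rw [← C_mul, mul_inv_cancel₀ ht0, C_1]
  linear_combination (-1 : F[X]) * this

/-- distinct `qy` are coprime -/
theorem qy_coprime {y z : F} (h : y ≠ z) : IsCoprime (qy y) (qy z) := by
  -- `qy y - qy z = C (z - y) * X` and `qy y - X * (X - C y) = 1`
  have hu : (z - y) ≠ 0 := sub_ne_zero.2 (Ne.symm h)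
  refine ⟨1 - C (z - y)⁻¹ * (X - C y), C (z - y)⁻¹ * (X - C y), ?_⟩
  have h1 : (C (z - y)⁻¹ : F[X]) * C (z - y) = 1 := by
    rw [← C_mul, inv_mul_cancel₀ hu, C_1]
  have h2 : (C (z - y) : F[X]) = C z - C y := C_sub
  unfold qy
  linear_combination (-((X - C y) * X)) * h1 + (C (z - y)⁻¹ * (X - C y) * X) * h2

theorem qy_coprime_X_sub_one {y : F} (h : y ≠ 2) : IsCoprime (X - 1 : F[X]) (qy y) := by
  have hu : (2 - y) ≠ 0 := sub_ne_zero.2 (Ne.symm h)
  -- `qy y = (X - 1) * (X + 1 - C y) + C (2 - y)`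
  refine ⟨- (C (2 - y)⁻¹ * (X + 1 - C y)), C (2 - y)⁻¹, ?_⟩
  have h1 : (C (2 - y)⁻¹ : F[X]) * C (2 - y) = 1 := by
    rw [← C_mul, inv_mul_cancel₀ hu, C_1]
  have h2 : (C (2 - y) : F[X]) = 2 - C y := by rw [C_sub, map_ofNat C 2]
  unfold qy
  linear_combination h1 - (C (2 - y)⁻¹ : F[X]) * h2

theorem qy_coprime_X_add_one {y : F} (h : y ≠ -2) : IsCoprime (X + 1 : F[X]) (qy y) := by
  have hu : (2 + y) ≠ 0 := by
    intro h0
    apply h
    linear_combination h0
  -- `qy y = (X + 1) * (X - 1 - C y) + C (2 + y)`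
  refine ⟨- (C (2 + y)⁻¹ * (X - 1 - C y)), C (2 + y)⁻¹, ?_⟩
  have h1 : (C (2 + y)⁻¹ : F[X]) * C (2 + y) = 1 := by
    rw [← C_mul, inv_mul_cancel₀ hu, C_1]
  have h2 : (C (2 + y) : F[X]) = 2 + C y := by rw [C_add, map_ofNat C 2]
  unfold qy
  linear_combination h1 - (C (2 + y)⁻¹ : F[X]) * h2

end basic

section finite

variable {F : Type u} [Field F] [Fintype F]

/-- a semisimple factor divides `X ^ (q - 1) - 1` or `X ^ (q + 1) - 1` -/
theorem qy_dvd_semisimple (y : F) (h2 : y ≠ 2) (hm2 : y ≠ -2) :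
    ∃ n, (n = Fintype.card F - 1 ∨ n = Fintype.card F + 1) ∧ qy y ∣ X ^ n - 1 := by
  classical
  by_cases hroot : ∃ t : F, t ^ 2 - y * t + 1 = 0
  · obtain ⟨t, ht⟩ := hroot
    obtain ⟨ht0, hfac⟩ := qy_of_root y t ht
    refine ⟨Fintype.card F - 1, Or.inl rfl, ?_⟩
    have hne : t ≠ t⁻¹ := by
      intro h
      have htt : t * t = 1 := by
        nth_rewrite 2 [h]
        exact mul_inv_cancel₀ ht0
      rcases mul_self_eq_one_iff.1 htt with h1 | h1
      · apply h2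
        rw [h1] at ht
        linear_combination (-1 : F) * ht
      · apply hm2
        rw [h1] at ht
        linear_combination ht
    rw [hfac]
    apply IsCoprime.mul_dvd (isCoprime_X_sub_C_of_isUnit_sub (sub_ne_zero.2 hne).isUnit)
    · rw [dvd_iff_isRoot]
      simp [FiniteField.pow_card_sub_one_eq_one t ht0]
    · rw [dvd_iff_isRoot]
      simp [FiniteField.pow_card_sub_one_eq_one t⁻¹ (inv_ne_zero ht0)]
  · have hirr : Irreducible (qy y) := by
      rw [(qy_monic y).irreducible_iff_roots_eq_zero_of_degree_le_three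
        (by rw [qy_natDegree]) (by rw [qy_natDegree]; norm_num)]
      rw [Multiset.eq_zero_iff_forall_notMem]
      intro t ht
      rw [mem_roots (qy_monic y).ne_zero, IsRoot.def, qy_eval] at ht
      exact hroot ⟨t, ht⟩
    rcases self_recip_cases (qy y) (qy_monic y) hirr
      (by rw [qy_coeff_zero]; exact one_ne_zero) (qy_recip y) with h | h | ⟨δ, hδ, hdeg, hdvd⟩
    · exfalso
      have := qy_natDegree y
      rw [h, natDegree_X_sub_one] at this
      omega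
    · exfalso
      have := qy_natDegree y
      rw [h, natDegree_X_add_one] at this
      omega
    · rw [qy_natDegree] at hdeg
      have hδ1 : δ = 1 := by omega
      rw [hδ1, pow_one] at hdvd
      exact ⟨Fintype.card F + 1, Or.inr rfl, hdvd⟩

end finite

section char

variable {F : Type u} [Field F] (p : ℕ) [Fact p.Prime] [CharP F p]

theorem sub_one_pow_char (n : ℕ) : ((X ^ n - 1 : F[X])) ^ p = X ^ (p * n) - 1 := by
  rw [sub_pow_char, one_pow, ← pow_mul, mul_comm]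

theorem X_sub_one_pow_char : ((X - 1 : F[X])) ^ p = X ^ p - 1 := by
  rw [sub_pow_char, one_pow]

theorem X_add_one_pow_char : ((X + 1 : F[X])) ^ p = X ^ p + 1 := by
  rw [add_pow_char, one_pow]

theorem sq_dvd_pow_char (g : F[X]) : g ^ 2 ∣ g ^ p :=
  pow_dvd_pow g (Fact.out : p.Prime).two_le

/-- membership in `mu4` of `p (q - 1)` -/
theorem mem_mu4_sub (q : ℕ) : p * (q - 1) ∈ mu4 p q := by
  unfold mu4
  split_ifs with h2 h3
  · subst h2; simp
  · subst h3; simp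
  · simp

theorem mem_mu4_add (q : ℕ) : p * (q + 1) ∈ mu4 p q := by
  unfold mu4
  split_ifs with h2 h3
  · subst h2; simp
  · subst h3; simp
  · simp

theorem mem_mu4_sq (q d : ℕ) (hd : (p = 2 ∧ d = 1) ∨ (p ≠ 2 ∧ d = 2)) :
    (q ^ 2 - 1) / d ∈ mu4 p q := by
  unfold mu4
  rcases hd with ⟨h2, rfl⟩ | ⟨h2, rfl⟩
  · rw [if_pos h2, Nat.div_one]; simp
  · rw [if_neg h2]
    split_ifs with h3
    · simp
    · simp

end char

section main

variable {F : Type u} [Field F] [Fintype F] (p : ℕ) [Fact p.Prime] [CharP F p]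

theorem X_sub_one_dvd (n : ℕ) : (X - 1 : F[X]) ∣ X ^ n - 1 := by
  rw [show (X - 1 : F[X]) = X - C 1 from by rw [C_1], dvd_iff_isRoot]
  simp

theorem X_add_one_dvd {n : ℕ} (hn : Even n) : (X + 1 : F[X]) ∣ X ^ n - 1 := by
  rw [show (X + 1 : F[X]) = X - C (-1) from by rw [C_neg, C_1, sub_neg_eq_add], dvd_iff_isRoot]
  simp [hn.neg_one_pow]

include p in
theorem card_facts :
    2 ≤ Fintype.card F ∧ (p ≠ 2 → Odd (Fintype.card F)) := by
  obtain ⟨k, hp, hk⟩ := FiniteField.card F p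
  refine ⟨Fintype.one_lt_card, fun h2 => ?_⟩
  rw [hk]
  exact (hp.odd_of_ne_two h2).pow

/-- `q - 1` and `q + 1` divide `(q² - 1) / d` -/
theorem dvd_M (q d : ℕ) (hq : 1 ≤ q) (hd : d = 1 ∨ (d = 2 ∧ Odd q)) :
    (q - 1) ∣ (q ^ 2 - 1) / d ∧ (q + 1) ∣ (q ^ 2 - 1) / d := by
  have hsq : q ^ 2 - 1 = (q + 1) * (q - 1) := by
    have := Nat.sq_sub_sq q 1
    rwa [one_pow] at this
  rcases hd with rfl | ⟨rfl, hodd⟩
  · rw [Nat.div_one, hsq]
    exact ⟨Dvd.intro_left _ rfl, Dvd.intro _ rfl⟩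
  · obtain ⟨j, rfl⟩ := hodd
    have h1 : (2 * j + 1) ^ 2 - 1 = 2 * (2 * j * (j + 1)) := by
      rw [hsq]
      have : 2 * j + 1 - 1 = 2 * j := by omega
      rw [this]
      ring
    rw [h1, Nat.mul_div_cancel_left _ (by norm_num : 0 < 2)]
    constructor
    · have : 2 * j + 1 - 1 = 2 * j := by omega
      rw [this]
      exact Dvd.intro _ rfl
    · exact ⟨j, by ring⟩

/-- both factors semisimple -/
theorem split_ss (y₁ y₂ : F) (h1 : y₁ ≠ 2 ∧ y₁ ≠ -2) (h2 : y₂ ≠ 2 ∧ y₂ ≠ -2) :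
    ∃ m ∈ mu4 p (Fintype.card F), qy y₁ * qy y₂ ∣ (X ^ m - 1 : F[X]) := by
  obtain ⟨hq2, hodd⟩ := card_facts (F := F) p
  obtain ⟨n₁, hn₁, hd₁⟩ := qy_dvd_semisimple y₁ h1.1 h1.2
  obtain ⟨n₂, hn₂, hd₂⟩ := qy_dvd_semisimple y₂ h2.1 h2.2
  by_cases hy : y₁ = y₂
  · subst hy
    refine ⟨p * n₁, ?_, ?_⟩
    · rcases hn₁ with rfl | rfl
      · exact mem_mu4_sub p _
      · exact mem_mu4_add p _
    · rw [← sub_one_pow_char p n₁, ← pow_two]
      exact (pow_dvd_pow_of_dvd hd₁ 2).trans (sq_dvd_pow_char p _)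
  · obtain ⟨d, hd⟩ : ∃ d : ℕ, (p = 2 ∧ d = 1) ∨ (p ≠ 2 ∧ d = 2) := by
      by_cases h : p = 2
      · exact ⟨1, Or.inl ⟨h, rfl⟩⟩
      · exact ⟨2, Or.inr ⟨h, rfl⟩⟩
    have hdM := dvd_M (Fintype.card F) d (by omega)
      (by
        rcases hd with ⟨_, rfl⟩ | ⟨h, rfl⟩
        · exact Or.inl rfl
        · exact Or.inr ⟨rfl, hodd h⟩)
    refine ⟨(Fintype.card F ^ 2 - 1) / d, mem_mu4_sq p _ d hd, ?_⟩
    have hn₁M : n₁ ∣ (Fintype.card F ^ 2 - 1) / d := by
      rcases hn₁ with rfl | rfl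
      · exact hdM.1
      · exact hdM.2
    have hn₂M : n₂ ∣ (Fintype.card F ^ 2 - 1) / d := by
      rcases hn₂ with rfl | rfl
      · exact hdM.1
      · exact hdM.2
    exact IsCoprime.mul_dvd (qy_coprime hy) (hd₁.trans (X_pow_sub_one_dvd_of_dvd hn₁M))
      (hd₂.trans (X_pow_sub_one_dvd_of_dvd hn₂M))

/-- a unipotent and a semisimple factor, abstractly: `g ^ 2 * f` with `g`, `f` coprime divisors of
`X ^ n - 1` -/
theorem split_us_aux (g f : F[X]) (n : ℕ) (hn : n = Fintype.card F - 1 ∨ n = Fintype.card F + 1)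
    (hg : g ∣ X ^ n - 1) (hf : f ∣ X ^ n - 1) (hcop : IsCoprime g f) :
    ∃ m ∈ mu4 p (Fintype.card F), g ^ 2 * f ∣ (X ^ m - 1 : F[X]) := by
  refine ⟨p * n, ?_, ?_⟩
  · rcases hn with rfl | rfl
    · exact mem_mu4_sub p _
    · exact mem_mu4_add p _
  · have h1 : g * f ∣ X ^ n - 1 := IsCoprime.mul_dvd hcop hg hf
    have h2 : g ^ 2 * f ∣ (g * f) ^ 2 := by
      rw [mul_pow]
      exact mul_dvd_mul_left _ (Dvd.intro_left f (by ring))
    rw [← sub_one_pow_char p n]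
    exact h2.trans ((pow_dvd_pow_of_dvd h1 2).trans (sq_dvd_pow_char p _))

/-- a unipotent and a semisimple factor -/
theorem split_us (y₁ y₂ : F) (h1 : y₁ = 2 ∨ y₁ = -2) (h2 : y₂ ≠ 2 ∧ y₂ ≠ -2) :
    ∃ m ∈ mu4 p (Fintype.card F), qy y₁ * qy y₂ ∣ (X ^ m - 1 : F[X]) := by
  obtain ⟨hq2, hodd⟩ := card_facts (F := F) p
  obtain ⟨n, hn, hd⟩ := qy_dvd_semisimple y₂ h2.1 h2.2
  have key2 : ∃ m ∈ mu4 p (Fintype.card F), qy (2 : F) * qy y₂ ∣ (X ^ m - 1 : F[X]) := by
    rw [qy_two]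
    exact split_us_aux p _ _ n hn (X_sub_one_dvd n) hd (qy_coprime_X_sub_one h2.1)
  rcases h1 with rfl | rfl
  · exact key2
  · by_cases hp2 : p = 2
    · have : (-2 : F) = 2 := by
        subst hp2
        rw [CharTwo.neg_eq]
      rw [this]
      exact key2
    · rw [qy_neg_two]
      have hev : Even n := by
        obtain ⟨j, hj⟩ := hodd hp2
        rcases hn with rfl | rfl
        · exact ⟨j, by omega⟩
        · exact ⟨j + 1, by omega⟩
      exact split_us_aux p _ _ n hn (X_add_one_dvd hev) hd (qy_coprime_X_add_one h2.2)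

/-- both factors unipotent -/
theorem split_uu (y₁ y₂ : F) (h1 : y₁ = 2 ∨ y₁ = -2) (h2 : y₂ = 2 ∨ y₂ = -2) :
    ∃ m ∈ mu4 p (Fintype.card F),
      qy y₁ * qy y₂ ∣ (X ^ m - 1 : F[X]) ∨ qy y₁ * qy y₂ ∣ (X ^ m + 1 : F[X]) := by
  obtain ⟨hq2, hodd⟩ := card_facts (F := F) p
  have hprime : p.Prime := Fact.out
  by_cases hp2 : p = 2
  · -- characteristic two: `(X - 1) ^ 4 = X ^ 4 - 1`
    subst hp2
    have hneg : (-2 : F) = 2 := by rw [CharTwo.neg_eq]
    have e1 : y₁ = 2 := by rcases h1 with h | h; exact h; rw [h, hneg]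
    have e2 : y₂ = 2 := by rcases h2 with h | h; exact h; rw [h, hneg]
    subst e1 e2
    refine ⟨4, by simp [mu4], Or.inl ?_⟩
    rw [qy_two, ← pow_two, X_sub_one_pow_char 2, sub_one_pow_char 2 2]
  · have hq1 : Even (Fintype.card F - 1) := by
      obtain ⟨j, hj⟩ := hodd hp2
      exact ⟨j, by omega⟩
    -- `X ^ (2 p) - 1 ∣ X ^ (p (q - 1)) - 1`
    have h2p : (X ^ (2 * p) - 1 : F[X]) ∣ X ^ (p * (Fintype.card F - 1)) - 1 := by
      apply X_pow_sub_one_dvd_of_dvd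
      obtain ⟨j, hj⟩ := hq1
      exact ⟨j, by rw [hj]; ring⟩
    have hfac : (X ^ (2 * p) - 1 : F[X]) = (X ^ p - 1) * (X ^ p + 1) := by ring
    by_cases hp3 : p = 3
    · subst hp3
      have h9m : (9 : ℕ) ∈ mu4 3 (Fintype.card F) := by simp [mu4]
      have hm9 : ((X - 1 : F[X])) ^ 9 = X ^ 9 - 1 := by
        rw [show (9 : ℕ) = 3 * 3 from rfl, pow_mul, X_sub_one_pow_char 3, sub_one_pow_char 3 3]
      have hp9 : ((X + 1 : F[X])) ^ 9 = X ^ 9 + 1 := by
        rw [show (9 : ℕ) = 3 * 3 from rfl, pow_mul, X_add_one_pow_char 3, add_pow_char, one_pow,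
          ← pow_mul]
      rcases h1 with rfl | rfl <;> rcases h2 with rfl | rfl
      · refine ⟨9, h9m, Or.inl ?_⟩
        rw [qy_two, ← pow_add, ← hm9]
        exact pow_dvd_pow _ (by norm_num)
      · refine ⟨3 * (Fintype.card F - 1), mem_mu4_sub 3 _, Or.inl ?_⟩
        rw [qy_two, qy_neg_two, ← mul_pow]
        refine (sq_dvd_pow_char 3 _).trans ?_
        have : ((X - 1) * (X + 1) : F[X]) = X ^ 2 - 1 := by ring
        rw [this, sub_one_pow_char 3 2, mul_comm 3 2]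
        exact h2p
      · refine ⟨3 * (Fintype.card F - 1), mem_mu4_sub 3 _, Or.inl ?_⟩
        rw [qy_two, qy_neg_two, ← mul_pow]
        refine (sq_dvd_pow_char 3 _).trans ?_
        have : ((X + 1) * (X - 1) : F[X]) = X ^ 2 - 1 := by ring
        rw [this, sub_one_pow_char 3 2, mul_comm 3 2]
        exact h2p
      · refine ⟨9, h9m, Or.inr ?_⟩
        rw [qy_neg_two, ← pow_add, ← hp9]
        exact pow_dvd_pow _ (by norm_num)
    · have hp5 : 4 ≤ p := by
        have := hprime.two_le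
        rcases Nat.lt_or_ge p 4 with h | h
        · interval_cases p
          · exact absurd rfl hp2
          · exact absurd rfl hp3
        · exact h
      refine ⟨p * (Fintype.card F - 1), mem_mu4_sub p _, Or.inl ?_⟩
      rcases h1 with rfl | rfl <;> rcases h2 with rfl | rfl
      · rw [qy_two, ← pow_add]
        refine (pow_dvd_pow _ hp5).trans ?_
        rw [X_sub_one_pow_char p]
        exact (Dvd.intro _ hfac.symm).trans h2p
      · rw [qy_two, qy_neg_two, ← mul_pow]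
        refine (sq_dvd_pow_char p _).trans ?_
        have : ((X - 1) * (X + 1) : F[X]) = X ^ 2 - 1 := by ring
        rw [this, sub_one_pow_char p 2, mul_comm p 2]
        exact h2p
      · rw [qy_two, qy_neg_two, ← mul_pow]
        refine (sq_dvd_pow_char p _).trans ?_
        have : ((X + 1) * (X - 1) : F[X]) = X ^ 2 - 1 := by ring
        rw [this, sub_one_pow_char p 2, mul_comm p 2]
        exact h2p
      · rw [qy_neg_two, ← pow_add]
        refine (pow_dvd_pow _ hp5).trans ?_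
        rw [X_add_one_pow_char p]
        exact (Dvd.intro_left _ hfac.symm).trans h2p

/-- **T1Ua**: the split case -/
theorem quartic_split (y₁ y₂ : F) :
    ∃ m ∈ mu4 p (Fintype.card F),
      (X ^ 2 - C y₁ * X + 1) * (X ^ 2 - C y₂ * X + 1) ∣ (X ^ m - 1 : F[X]) ∨
        (X ^ 2 - C y₁ * X + 1) * (X ^ 2 - C y₂ * X + 1) ∣ (X ^ m + 1 : F[X]) := by
  classical
  change ∃ m ∈ mu4 p (Fintype.card F),
      qy y₁ * qy y₂ ∣ (X ^ m - 1 : F[X]) ∨ qy y₁ * qy y₂ ∣ (X ^ m + 1 : F[X])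
  by_cases h1 : y₁ = 2 ∨ y₁ = -2
  · by_cases h2 : y₂ = 2 ∨ y₂ = -2
    · exact split_uu p y₁ y₂ h1 h2
    · push Not at h2
      obtain ⟨m, hm, hd⟩ := split_us p y₁ y₂ h1 h2
      exact ⟨m, hm, Or.inl hd⟩
  · push Not at h1
    by_cases h2 : y₂ = 2 ∨ y₂ = -2
    · obtain ⟨m, hm, hd⟩ := split_us p y₂ y₁ h2 h1
      exact ⟨m, hm, Or.inl (by rwa [mul_comm])⟩
    · push Not at h2
      obtain ⟨m, hm, hd⟩ := split_ss p y₁ y₂ h1 h2
      exact ⟨m, hm, Or.inl hd⟩

end main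

end Cfsg.Agent.Lib.Helper49_S3466_T1Ua
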