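import Mathlib
import Cfsg.Agent.Lib.Helper40_P4Defs
import Cfsg.Agent.Lib.Helper2_S3466_TRI

/-!
# S3466 package AN4 : the module `W ⊗ W^(q) ⊗ W^(3) ⊗ W^(q)` of `SL₂(q²)`, `q = 9^t`
-/

set_option autoImplicit false
set_option linter.unusedSectionVars false
set_option linter.unusedVariables false
set_option linter.unusedSimpArgs false
set_option linter.unusedTactic false
set_option linter.unreachableTactic false
set_option linter.unnecessarySeqFocus false

namespace Cfsg.Agent.Lib.Helper5_S3466_AN4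

open Cfsg.Agent.Lib.Helper40_P4Defs
open scoped Kronecker Matrix

universe u

/-! ### a small toolkit for `EigSys` -/

section eig

variable {m n : Type*} [Fintype m] [DecidableEq m] [Fintype n] [DecidableEq n]

theorem eig_kron {K : Type*} [CommRing K] {A : Matrix m m K} {B : Matrix n n K} {S T : Type}
    [Fintype S] [Fintype T]
    {c : S → K} {P : S → Matrix m m K} {d : T → K} {R : T → Matrix n n K}
    (hA : EigSys A c P) (hB : EigSys B d R) :
    EigSys (A ⊗ₖ B) (fun st : S × T => c st.1 * d st.2) (fun st : S × T => P st.1 ⊗ₖ R st.2) := by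
  constructor
  · ext ⟨i, j⟩ ⟨k, l⟩
    rw [Matrix.sum_apply, Fintype.sum_prod_type]
    simp only [Matrix.kronecker_apply]
    rw [← Finset.sum_mul_sum]
    have h1 : ∑ s, P s i k = (1 : Matrix m m K) i k := by
      rw [← hA.sum_eq, Matrix.sum_apply]
    have h2 : ∑ t, R t j l = (1 : Matrix n n K) j l := by
      rw [← hB.sum_eq, Matrix.sum_apply]
    rw [h1, h2, ← Matrix.one_kronecker_one, Matrix.kronecker_apply]
  · rintro ⟨s, t⟩ ⟨s', t'⟩ hne
    simp only
    rw [← Matrix.mul_kronecker_mul]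
    by_cases hs : s = s'
    · have ht : t ≠ t' := by
        intro ht
        apply hne
        rw [hs, ht]
      rw [hB.orth t t' ht, Matrix.kronecker_zero]
    · rw [hA.orth s s' hs, Matrix.zero_kronecker]
  · rintro ⟨s, t⟩
    simp only
    rw [← Matrix.mul_kronecker_mul, hA.eig, hB.eig, Matrix.smul_kronecker, Matrix.kronecker_smul,
      smul_smul]

theorem eig_map {K K' : Type*} [CommRing K] [CommRing K'] (φ : K →+* K') {C : Matrix n n K}
    {S : Type} [Fintype S] {c : S → K} {P : S → Matrix n n K} (h : EigSys C c P) :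
    EigSys (φ.mapMatrix C) (fun s => φ (c s)) (fun s => φ.mapMatrix (P s)) := by
  constructor
  · rw [← map_sum, h.sum_eq, map_one]
  · intro s u hsu
    rw [← map_mul, h.orth s u hsu, map_zero]
  · intro s
    rw [← map_mul, h.eig]
    ext i j
    simp [RingHom.mapMatrix_apply]

theorem eig_pow {K : Type*} [CommRing K] {C : Matrix n n K} {S : Type} [Fintype S]
    {c : S → K} {P : S → Matrix n n K} (h : EigSys C c P) (j : ℕ) :
    EigSys (C ^ j) (fun s => c s ^ j) P := by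
  refine ⟨h.sum_eq, h.orth, ?_⟩
  intro s
  induction j with
  | zero => rw [pow_zero, pow_zero, one_smul, Matrix.one_mul]
  | succ j ih =>
    rw [pow_succ, Matrix.mul_assoc, h.eig, Matrix.mul_smul, ih, smul_smul, pow_succ, mul_comm]

theorem eig_eq_one {K : Type*} [CommRing K] {C : Matrix n n K} {S : Type} [Fintype S]
    {c : S → K} {P : S → Matrix n n K} (h : EigSys C c P) (hc : ∀ s, c s = 1) : C = 1 := by
  have h1 : C = C * ∑ s, P s := by rw [h.sum_eq, Matrix.mul_one]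
  rw [h1, Finset.mul_sum]
  rw [← h.sum_eq]
  apply Finset.sum_congr rfl
  intro s _
  rw [h.eig, hc, one_smul]

theorem eig_fixed {K : Type*} [Field K] {C : Matrix n n K} {S : Type} [Fintype S]
    {c : S → K} {P : S → Matrix n n K} (h : EigSys C c P) (v : n → K) (hv : v ≠ 0)
    (hfix : C *ᵥ v = v) : ∃ s, c s = 1 := by
  classical
  -- some `P s *ᵥ v ≠ 0`
  have h1 : ∑ s, P s *ᵥ v = v := by
    rw [← Matrix.sum_mulVec, h.sum_eq, Matrix.one_mulVec]
  have h2 : ∃ s, P s *ᵥ v ≠ 0 := by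
    by_contra hcon
    push Not at hcon
    apply hv
    rw [← h1]
    exact Finset.sum_eq_zero (fun s _ => hcon s)
  obtain ⟨s, hs⟩ := h2
  refine ⟨s, ?_⟩
  -- `C P s v = c s P s v` and `C P s v = P s C v = P s v`
  have hcomm : C * P s = P s * C := by
    have e1 : P s * C = P s * (C * ∑ u, P u) := by rw [h.sum_eq, Matrix.mul_one]
    rw [e1, Finset.mul_sum, Finset.mul_sum]
    have e2 : ∀ u ∈ Finset.univ, P s * (C * P u) = if u = s then c s • (P s * P s) else 0 := by
      intro u _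
      rw [h.eig, Matrix.mul_smul]
      by_cases hus : u = s
      · rw [if_pos hus, hus]
      · rw [if_neg hus, h.orth s u (Ne.symm hus), smul_zero]
    rw [Finset.sum_congr rfl e2, Finset.sum_ite_eq' Finset.univ s, if_pos (Finset.mem_univ s)]
    have e3 : P s * P s = P s := by
      have : P s = P s * ∑ u, P u := by rw [h.sum_eq, Matrix.mul_one]
      nth_rewrite 3 [this]
      rw [Finset.mul_sum]
      symm
      apply Finset.sum_eq_single s
      · intro u _ hus
        exact h.orth s u (Ne.symm hus)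
      · intro hs'
        exact absurd (Finset.mem_univ s) hs'
    rw [e3, h.eig]
  have h3 : c s • (P s *ᵥ v) = P s *ᵥ v := by
    calc c s • (P s *ᵥ v) = (c s • P s) *ᵥ v := by rw [Matrix.smul_mulVec]
      _ = (C * P s) *ᵥ v := by rw [h.eig]
      _ = (P s * C) *ᵥ v := by rw [hcomm]
      _ = P s *ᵥ v := by rw [← Matrix.mulVec_mulVec, hfix]
  -- a nonzero coordinate
  obtain ⟨i, hi⟩ : ∃ i, (P s *ᵥ v) i ≠ 0 := by
    by_contra hcon
    push Not at hcon
    exact hs (funext hcon)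
  have h4 := congrFun h3 i
  rw [Pi.smul_apply, smul_eq_mul] at h4
  exact mul_right_cancel₀ hi (by rw [h4, one_mul])

theorem eig_of_quadratic {K : Type*} [Field K] (g : Matrix (Fin 2) (Fin 2) K) (t u : K)
    (htu : t ≠ u) (h : (g - t • 1) * (g - u • 1) = 0) :
    EigSys g ![t, u] ![(t - u)⁻¹ • (g - u • 1), (u - t)⁻¹ • (g - t • 1)] := by
  have htu' : t - u ≠ 0 := sub_ne_zero.2 htu
  have hut' : u - t ≠ 0 := sub_ne_zero.2 (Ne.symm htu)
  have hcomm : (g - u • 1) * (g - t • 1) = 0 := by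
    have : (g - u • (1 : Matrix (Fin 2) (Fin 2) K)) * (g - t • 1) = (g - t • 1) * (g - u • 1) := by
      simp only [sub_mul, mul_sub, Matrix.smul_mul, Matrix.mul_smul, Matrix.one_mul,
        Matrix.mul_one]
      rw [smul_comm]
      abel
    rw [this, h]
  constructor
  · rw [Fin.sum_univ_two]
    simp only [Matrix.cons_val_zero, Matrix.cons_val_one]
    have : (u - t)⁻¹ = -(t - u)⁻¹ := by
      rw [← neg_sub, inv_neg]
    rw [this, neg_smul, ← sub_eq_add_neg, ← smul_sub]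
    have e : g - u • (1 : Matrix (Fin 2) (Fin 2) K) - (g - t • 1) = (t - u) • 1 := by
      rw [sub_smul]
      abel
    rw [e, smul_smul, inv_mul_cancel₀ htu', one_smul]
  · intro s s' hss
    fin_cases s <;> fin_cases s'
    · exact absurd rfl hss
    · simp only [Fin.zero_eta, Fin.mk_one, Matrix.cons_val_zero, Matrix.cons_val_one]
      rw [Matrix.smul_mul, Matrix.mul_smul, hcomm, smul_zero, smul_zero]
    · simp only [Fin.zero_eta, Fin.mk_one, Matrix.cons_val_zero, Matrix.cons_val_one]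
      rw [Matrix.smul_mul, Matrix.mul_smul, h, smul_zero, smul_zero]
    · exact absurd rfl hss
  · intro s
    fin_cases s
    · show g * ((t - u)⁻¹ • (g - u • 1)) = t • ((t - u)⁻¹ • (g - u • 1))
      rw [Matrix.mul_smul, smul_comm]
      congr 1
      have : g * (g - u • 1) = (g - t • 1) * (g - u • 1) + t • (g - u • 1) := by
        rw [sub_mul, Matrix.smul_mul, Matrix.one_mul]
        abel
      rw [this, h, zero_add]
    · show g * ((u - t)⁻¹ • (g - t • 1)) = u • ((u - t)⁻¹ • (g - t • 1))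
      rw [Matrix.mul_smul, smul_comm]
      congr 1
      have : g * (g - t • 1) = (g - u • 1) * (g - t • 1) + u • (g - t • 1) := by
        rw [sub_mul, Matrix.smul_mul, Matrix.one_mul]
        abel
      rw [this, hcomm, zero_add]

end eig

/-! ### transport along a ring homomorphism -/

section transport

variable {K K' : Type*} [CommRing K] [CommRing K']

theorem map_kron {m n : Type*} [Fintype m] [DecidableEq m] [Fintype n] [DecidableEq n]
    (f : K →+* K') (A : Matrix m m K) (B : Matrix n n K) :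
    f.mapMatrix (A ⊗ₖ B) = f.mapMatrix A ⊗ₖ f.mapMatrix B := by
  ext ⟨i, j⟩ ⟨k, l⟩
  simp [RingHom.mapMatrix_apply, Matrix.kronecker_apply]

theorem map_map_comm {n : Type*} [Fintype n] [DecidableEq n] (f : K →+* K') (φ : K →+* K) (φ' : K' →+* K')
    (h : ∀ x, f (φ x) = φ' (f x)) (g : Matrix n n K) :
    f.mapMatrix (φ.mapMatrix g) = φ'.mapMatrix (f.mapMatrix g) := by
  ext i j
  simp [RingHom.mapMatrix_apply, h]

theorem kr4_map (f : K →+* K') (φ₁ φ₂ φ₃ φ₄ : K →+* K) (φ₁' φ₂' φ₃' φ₄' : K' →+* K')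
    (h1 : ∀ x, f (φ₁ x) = φ₁' (f x)) (h2 : ∀ x, f (φ₂ x) = φ₂' (f x))
    (h3 : ∀ x, f (φ₃ x) = φ₃' (f x)) (h4 : ∀ x, f (φ₄ x) = φ₄' (f x))
    (g : Matrix (Fin 2) (Fin 2) K) :
    f.mapMatrix (kr4 φ₁ φ₂ φ₃ φ₄ g) = kr4 φ₁' φ₂' φ₃' φ₄' (f.mapMatrix g) := by
  rw [kr4_apply, kr4_apply, kr2_apply, kr2_apply, kr2_apply, kr2_apply, map_kron, map_kron,
    map_kron, map_map_comm f φ₁ φ₁' h1, map_map_comm f φ₂ φ₂' h2, map_map_comm f φ₃ φ₃' h3,
    map_map_comm f φ₄ φ₄' h4]

end transport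

/-! ### the weights -/

section weights

/-- the sign of an index -/
def sg : Fin 2 → ℤ := ![1, -1]

theorem sg_cases (i : Fin 2) : sg i = 1 ∨ sg i = -1 := by
  fin_cases i
  · left; rfl
  · right; rfl

/-- the weight of a basis vector of the fourfold tensor product -/
def wt (q : ℕ) (s : (Fin 2 × Fin 2) × (Fin 2 × Fin 2)) : ℤ :=
  (sg s.1.1 + sg s.1.2 * q) + (sg s.2.1 * 3 + sg s.2.2 * q)

theorem wt_cases (q : ℕ) (s : (Fin 2 × Fin 2) × (Fin 2 × Fin 2)) :
    wt q s = 4 ∨ wt q s = -4 ∨ wt q s = 2 ∨ wt q s = -2 ∨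
      wt q s = 2 * q + 4 ∨ wt q s = -(2 * q + 4) ∨ wt q s = 2 * q + 2 ∨ wt q s = -(2 * q + 2) ∨
      wt q s = 2 * q - 2 ∨ wt q s = -(2 * q - 2) ∨ wt q s = 2 * q - 4 ∨ wt q s = -(2 * q - 4) := by
  unfold wt
  rcases sg_cases s.1.1 with h1 | h1 <;> rcases sg_cases s.1.2 with h2 | h2 <;>
    rcases sg_cases s.2.1 with h3 | h3 <;> rcases sg_cases s.2.2 with h4 | h4 <;>
    rw [h1, h2, h3, h4] <;> omega

theorem wt_even (q : ℕ) (s : (Fin 2 × Fin 2) × (Fin 2 × Fin 2)) :
    ∃ h : ℤ, wt q s = 2 * h := by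
  rcases wt_cases q s with h | h | h | h | h | h | h | h | h | h | h | h
  · exact ⟨2, by rw [h]; ring⟩
  · exact ⟨-2, by rw [h]; ring⟩
  · exact ⟨1, by rw [h]; ring⟩
  · exact ⟨-1, by rw [h]; ring⟩
  · exact ⟨q + 2, by rw [h]; ring⟩
  · exact ⟨-(q + 2), by rw [h]; ring⟩
  · exact ⟨q + 1, by rw [h]; ring⟩
  · exact ⟨-(q + 1), by rw [h]; ring⟩
  · exact ⟨q - 1, by rw [h]; ring⟩
  · exact ⟨-(q - 1), by rw [h]; ring⟩
  · exact ⟨q - 2, by rw [h]; ring⟩
  · exact ⟨-(q - 2), by rw [h]; ring⟩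

end weights

/-! ### the eigenvalues of the fourfold tensor product -/

section core

variable {L : Type*} [Field L]

theorem cc_eq (t : L) (i : Fin 2) : (![t, t⁻¹] : Fin 2 → L) i = t ^ sg i := by
  fin_cases i
  · show t = t ^ (1 : ℤ)
    rw [zpow_one]
  · show t⁻¹ = t ^ (-1 : ℤ)
    rw [zpow_neg_one]

theorem eig_kr4 (φ₂ φ₃ φ₄ : L →+* L) (q : ℕ) (h2 : ∀ x, φ₂ x = x ^ q) (h3 : ∀ x, φ₃ x = x ^ 3)
    (h4 : ∀ x, φ₄ x = x ^ q) (g : Matrix (Fin 2) (Fin 2) L) (t : L) (ht : t ≠ 0)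
    (htt : t * t ≠ 1) (h : (g - t • 1) * (g - t⁻¹ • 1) = 0) :
    ∃ P : (Fin 2 × Fin 2) × (Fin 2 × Fin 2) →
        Matrix ((Fin 2 × Fin 2) × (Fin 2 × Fin 2)) ((Fin 2 × Fin 2) × (Fin 2 × Fin 2)) L,
      EigSys (kr4 (RingHom.id L) φ₂ φ₃ φ₄ g) (fun s => t ^ wt q s) P := by
  have hne : t ≠ t⁻¹ := by
    intro h'
    apply htt
    nth_rewrite 2 [h']
    exact mul_inv_cancel₀ ht
  have h0 := eig_of_quadratic g t t⁻¹ hne h
  have e1 := eig_map (RingHom.id L) h0
  have e2 := eig_map φ₂ h0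
  have e3 := eig_map φ₃ h0
  have e4 := eig_map φ₄ h0
  have e12 := eig_kron e1 e2
  have e34 := eig_kron e3 e4
  have e := eig_kron e12 e34
  have hc : (fun s : (Fin 2 × Fin 2) × (Fin 2 × Fin 2) => t ^ wt q s) =
      fun st : (Fin 2 × Fin 2) × (Fin 2 × Fin 2) =>
        ((RingHom.id L) ((![t, t⁻¹] : Fin 2 → L) st.1.1) * φ₂ ((![t, t⁻¹] : Fin 2 → L) st.1.2)) *
          (φ₃ ((![t, t⁻¹] : Fin 2 → L) st.2.1) * φ₄ ((![t, t⁻¹] : Fin 2 → L) st.2.2)) := by
    funext s
    rw [h2, h3, h4, RingHom.id_apply, cc_eq, cc_eq, cc_eq, cc_eq, ← zpow_natCast (t ^ sg s.1.2),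
      ← zpow_natCast (t ^ sg s.2.1), ← zpow_natCast (t ^ sg s.2.2), ← zpow_mul, ← zpow_mul,
      ← zpow_mul, ← zpow_add₀ ht, ← zpow_add₀ ht, ← zpow_add₀ ht]
    unfold wt
    norm_num
  rw [hc]
  exact ⟨_, e⟩

theorem pow_wt_eq_one (t : L) (q N : ℕ) (hN : t ^ (2 * N) = 1)
    (s : (Fin 2 × Fin 2) × (Fin 2 × Fin 2)) : (t ^ wt q s) ^ N = 1 := by
  obtain ⟨h, hh⟩ := wt_even q s
  rw [hh, ← zpow_natCast, ← zpow_mul]
  have e : (2 * h) * (N : ℤ) = ((2 * N : ℕ) : ℤ) * h := by
    push_cast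
    ring
  rw [e, zpow_mul, zpow_natCast, hN, one_zpow]

theorem mat_pow_eq_one {C : Matrix ((Fin 2 × Fin 2) × (Fin 2 × Fin 2))
      ((Fin 2 × Fin 2) × (Fin 2 × Fin 2)) L} {t : L} {q : ℕ}
    {P : (Fin 2 × Fin 2) × (Fin 2 × Fin 2) →
        Matrix ((Fin 2 × Fin 2) × (Fin 2 × Fin 2)) ((Fin 2 × Fin 2) × (Fin 2 × Fin 2)) L}
    (h : EigSys C (fun s => t ^ wt q s) P) (N : ℕ) (hN : t ^ (2 * N) = 1) : C ^ N = 1 :=
  eig_eq_one (eig_pow h N) (fun s => pow_wt_eq_one t q N hN s)

theorem nat_cases (t : L) (q : ℕ) (hq : 2 ≤ q) (s : (Fin 2 × Fin 2) × (Fin 2 × Fin 2))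
    (h : t ^ wt q s = 1) :
    t ^ 4 = 1 ∨ t ^ 2 = 1 ∨ t ^ (2 * q + 4) = 1 ∨ t ^ (2 * q + 2) = 1 ∨ t ^ (2 * q - 2) = 1 ∨
      t ^ (2 * q - 4) = 1 := by
  have pos : ∀ n : ℕ, ∀ z : ℤ, z = n → t ^ z = 1 → t ^ n = 1 := by
    intro n z hz hz1
    rw [hz, zpow_natCast] at hz1
    exact hz1
  have neg : ∀ n : ℕ, ∀ z : ℤ, z = -n → t ^ z = 1 → t ^ n = 1 := by
    intro n z hz hz1
    rw [hz, zpow_neg, zpow_natCast, inv_eq_one] at hz1
    exact hz1
  rcases wt_cases q s with h' | h' | h' | h' | h' | h' | h' | h' | h' | h' | h' | h'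
  · left; exact pos 4 _ (by rw [h']; norm_num) h
  · left; exact neg 4 _ (by rw [h']; norm_num) h
  · right; left; exact pos 2 _ (by rw [h']; norm_num) h
  · right; left; exact neg 2 _ (by rw [h']; norm_num) h
  · right; right; left; exact pos (2 * q + 4) _ (by rw [h']; push_cast; ring) h
  · right; right; left; exact neg (2 * q + 4) _ (by rw [h']; push_cast; ring) h
  · right; right; right; left; exact pos (2 * q + 2) _ (by rw [h']; push_cast; ring) h
  · right; right; right; left; exact neg (2 * q + 2) _ (by rw [h']; push_cast; ring) h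
  · right; right; right; right; left; exact pos (2 * q - 2) _ (by rw [h']; omega) h
  · right; right; right; right; left; exact neg (2 * q - 2) _ (by rw [h']; omega) h
  · right; right; right; right; right; exact pos (2 * q - 4) _ (by rw [h']; omega) h
  · right; right; right; right; right; exact neg (2 * q - 4) _ (by rw [h']; omega) h

end core

/-! ### the arithmetic -/

section arith

theorem pow_eq_one_of_comb {M : Type*} [Monoid M] (t : M) (A B C : ℕ) (hA : t ^ A = 1)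
    (hB : t ^ B = 1) (x y : ℤ) (h : x * A + y * B = C) : t ^ C = 1 := by
  rw [← orderOf_dvd_iff_pow_eq_one] at hA hB ⊢
  have h1 : (orderOf t : ℤ) ∣ A := Int.natCast_dvd_natCast.2 hA
  have h2 : (orderOf t : ℤ) ∣ B := Int.natCast_dvd_natCast.2 hB
  have h3 := h1.linear_comb h2 x y
  rw [h] at h3
  exact Int.natCast_dvd_natCast.1 h3

variable {M : Type*} [Monoid M]

/-- the split case: `t^(q²-1) = 1` and a weight relation give `t^(2(q-1)) = 1` or `t^(2(q+1)) = 1`;
here `q = 6a+3` -/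
theorem split_arith (t : M) (a : ℕ) (h0 : t ^ (36 * a ^ 2 + 36 * a + 8) = 1)
    (h : t ^ 4 = 1 ∨ t ^ 2 = 1 ∨ t ^ (12 * a + 10) = 1 ∨ t ^ (12 * a + 8) = 1 ∨
      t ^ (12 * a + 4) = 1 ∨ t ^ (12 * a + 2) = 1) :
    t ^ (12 * a + 4) = 1 ∨ t ^ (12 * a + 8) = 1 := by
  have two : t ^ 2 = 1 → t ^ (12 * a + 4) = 1 := by
    intro h2
    have : 12 * a + 4 = 2 * (6 * a + 2) := by ring
    rw [this, pow_mul, h2, one_pow]
  rcases h with h | h | h | h | h | h
  · left
    have : 12 * a + 4 = 4 * (3 * a + 1) := by ring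
    rw [this, pow_mul, h, one_pow]
  · left; exact two h
  · left
    apply two
    exact pow_eq_one_of_comb t _ _ 2 h0 h (4 * a + 4) (-(12 * a ^ 2 + 14 * a + 3)) (by
      push_cast
      ring)
  · right; exact h
  · left; exact h
  · left
    apply two
    exact pow_eq_one_of_comb t _ _ 2 h0 h (-(4 * a)) (12 * a ^ 2 + 10 * a + 1) (by
      push_cast
      ring)

/-- the nonsplit case: `t^(q²+1) = 1` and a weight relation give `t² = 1`; here `q = 6a+3` and
`q² = 5d+1` -/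
theorem nonsplit_arith (t : M) (a d : ℕ) (hd : 36 * a ^ 2 + 36 * a + 9 = 5 * d + 1)
    (h0 : t ^ (36 * a ^ 2 + 36 * a + 10) = 1)
    (h : t ^ 4 = 1 ∨ t ^ 2 = 1 ∨ t ^ (12 * a + 10) = 1 ∨ t ^ (12 * a + 8) = 1 ∨
      t ^ (12 * a + 4) = 1 ∨ t ^ (12 * a + 2) = 1) :
    t ^ 2 = 1 := by
  have hd' : (36 * (a : ℤ) ^ 2 + 36 * a + 9) = 5 * d + 1 := by exact_mod_cast hd
  have four : t ^ 4 = 1 → t ^ 2 = 1 := by
    intro h4
    exact pow_eq_one_of_comb t _ _ 2 h4 h0 (-(9 * a ^ 2 + 9 * a + 2)) 1 (by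
      push_cast
      ring)
  have ten : t ^ 10 = 1 → t ^ 2 = 1 := by
    intro h10
    exact pow_eq_one_of_comb t _ _ 2 h10 h0 (1 + 2 * d) (-4) (by
      push_cast
      linear_combination (-4 : ℤ) * hd')
  rcases h with h | h | h | h | h | h
  · exact four h
  · exact h
  · apply ten
    exact pow_eq_one_of_comb t _ _ 10 h0 h 2 (-(6 * a + 1)) (by
      push_cast
      ring)
  · apply four
    exact pow_eq_one_of_comb t _ _ 4 h0 h 2 (-(6 * a + 2)) (by
      push_cast
      ring)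
  · apply four
    exact pow_eq_one_of_comb t _ _ 4 h0 h 2 (-(6 * a + 4)) (by
      push_cast
      ring)
  · apply ten
    exact pow_eq_one_of_comb t _ _ 10 h0 h 2 (-(6 * a + 5)) (by
      push_cast
      ring)

/-- `3^k = 6a+3` for `k ≥ 1` -/
theorem three_pow_eq (k : ℕ) (hk : 1 ≤ k) : ∃ a : ℕ, 3 ^ k = 6 * a + 3 := by
  obtain ⟨j, rfl⟩ : ∃ j, k = j + 1 := ⟨k - 1, by omega⟩
  have h1 : 3 ^ j % 2 = 1 := by
    rw [Nat.pow_mod]
    norm_num
  refine ⟨3 ^ j / 2, ?_⟩
  rw [pow_succ]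
  omega

/-- `(3^k)^2 = 5d+1` for `k` even -/
theorem three_pow_sq_eq (k : ℕ) (hk : Even k) : ∃ d : ℕ, (3 ^ k) ^ 2 = 5 * d + 1 := by
  obtain ⟨j, rfl⟩ := hk
  have h1 : (3 ^ (j + j)) ^ 2 % 5 = 1 := by
    rw [← pow_mul, show (j + j) * 2 = 4 * j by ring, pow_mul, Nat.pow_mod]
    norm_num
  exact ⟨(3 ^ (j + j)) ^ 2 / 5, by omega⟩

end arith

/-! ### the package -/

section AN4

variable {E : Type u} [Field E] [Fintype E] [CharP E 3] (k : ℕ)

theorem an4 [Fact (Nat.Prime 3)] (hk : 1 ≤ k) (hkev : Even k) (hcard : Fintype.card E = 3 ^ (2 * k))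
    (g : Matrix (Fin 2) (Fin 2) E) (hdet : g.det = 1) :
    ((g - 1) ^ 2 = 0 ∨ (g + 1) ^ 2 = 0) ∨
    ((kr4 (RingHom.id E) (iterateFrobenius E 3 k) (iterateFrobenius E 3 1)
          (iterateFrobenius E 3 k) g ^ (((3 ^ k) ^ 2 - 1) / 2) = 1 ∨
        kr4 (RingHom.id E) (iterateFrobenius E 3 k) (iterateFrobenius E 3 1)
          (iterateFrobenius E 3 k) g ^ (((3 ^ k) ^ 2 + 1) / 2) = 1) ∧
      ((∃ v : (Fin 2 × Fin 2) × (Fin 2 × Fin 2) → E, v ≠ 0 ∧
          kr4 (RingHom.id E) (iterateFrobenius E 3 k) (iterateFrobenius E 3 1)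
            (iterateFrobenius E 3 k) g *ᵥ v = v) →
        kr4 (RingHom.id E) (iterateFrobenius E 3 k) (iterateFrobenius E 3 1)
            (iterateFrobenius E 3 k) g ^ (3 ^ k - 1) = 1 ∨
          kr4 (RingHom.id E) (iterateFrobenius E 3 k) (iterateFrobenius E 3 1)
            (iterateFrobenius E 3 k) g ^ (3 ^ k + 1) = 1)) := by
  obtain ⟨a, ha⟩ := three_pow_eq k hk
  obtain ⟨d, hd⟩ := three_pow_sq_eq k hkev
  set q := 3 ^ k with hq
  have hq2 : q ^ 2 = 36 * a ^ 2 + 36 * a + 9 := by rw [ha]; ring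
  have hcard' : Fintype.card E = q ^ 2 := by rw [hcard, hq, ← pow_mul, mul_comm]
  have hm1 : q ^ 2 - 1 = 36 * a ^ 2 + 36 * a + 8 := by rw [hq2]; rfl
  have hp1 : q ^ 2 + 1 = 36 * a ^ 2 + 36 * a + 10 := by rw [hq2]
  have hd' : 36 * a ^ 2 + 36 * a + 9 = 5 * d + 1 := by rw [← hq2, hd]
  have hhalf1 : 2 * ((q ^ 2 - 1) / 2) = 36 * a ^ 2 + 36 * a + 8 := by
    rw [hm1]
    have : (36 * a ^ 2 + 36 * a + 8) % 2 = 0 := by omega
    omega
  have hhalf2 : 2 * ((q ^ 2 + 1) / 2) = 36 * a ^ 2 + 36 * a + 10 := by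
    rw [hp1]
    have : (36 * a ^ 2 + 36 * a + 10) % 2 = 0 := by omega
    omega
  have e2q4 : 2 * q + 4 = 12 * a + 10 := by rw [ha]; ring
  have e2q2 : 2 * q + 2 = 12 * a + 8 := by rw [ha]; ring
  have e2qm2 : 2 * q - 2 = 12 * a + 4 := by rw [ha]; omega
  have e2qm4 : 2 * q - 4 = 12 * a + 2 := by rw [ha]; omega
  have eqm1 : 2 * (q - 1) = 12 * a + 4 := by rw [ha]; omega
  have eqp1 : 2 * (q + 1) = 12 * a + 8 := by rw [ha]; ring
  have hq2' : 2 ≤ q := by rw [ha]; omega
  rcases Cfsg.Agent.Lib.Helper2_S3466_TRI.sl2_trichotomy g hdet with h | h | h | h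
  · left; left; exact h
  · left; right; exact h
  · -- the split case
    right
    obtain ⟨t, ht0, htt, htq, -, hquad⟩ := h
    rw [hcard', hm1] at htq
    obtain ⟨P, hP⟩ := eig_kr4 (iterateFrobenius E 3 k) (iterateFrobenius E 3 1)
      (iterateFrobenius E 3 k) q (fun x => iterateFrobenius_def 3 k x)
      (fun x => by rw [iterateFrobenius_def, pow_one]) (fun x => iterateFrobenius_def 3 k x)
      g t ht0 htt hquad
    constructor
    · left
      exact mat_pow_eq_one hP _ (by rw [hhalf1]; exact htq)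
    · rintro ⟨v, hv, hfix⟩
      obtain ⟨s, hs⟩ := eig_fixed hP v hv hfix
      have h1 := nat_cases t q hq2' s hs
      rw [e2q4, e2q2, e2qm2, e2qm4] at h1
      rcases split_arith t a htq h1 with h2 | h2
      · left
        exact mat_pow_eq_one hP _ (by rw [eqm1]; exact h2)
      · right
        exact mat_pow_eq_one hP _ (by rw [eqp1]; exact h2)
  · -- the nonsplit case
    right
    obtain ⟨E', hE', hA, t, ht0, htt, htq, -, hquad⟩ := h
    let _ := hE'
    let _ := hA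
    rw [hcard', hp1] at htq
    have : CharP E' 3 := charP_of_injective_algebraMap (algebraMap E E').injective 3
    set f := algebraMap E E' with hf
    obtain ⟨P, hP⟩ := eig_kr4 (iterateFrobenius E' 3 k) (iterateFrobenius E' 3 1)
      (iterateFrobenius E' 3 k) q (fun x => iterateFrobenius_def 3 k x)
      (fun x => by rw [iterateFrobenius_def, pow_one]) (fun x => iterateFrobenius_def 3 k x)
      (f.mapMatrix g) t ht0 htt hquad
    have hmap : f.mapMatrix (kr4 (RingHom.id E) (iterateFrobenius E 3 k) (iterateFrobenius E 3 1)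
          (iterateFrobenius E 3 k) g) =
        kr4 (RingHom.id E') (iterateFrobenius E' 3 k) (iterateFrobenius E' 3 1)
          (iterateFrobenius E' 3 k) (f.mapMatrix g) := by
      apply kr4_map
      · intro x; rfl
      · intro x; rw [iterateFrobenius_def, iterateFrobenius_def, map_pow]
      · intro x; rw [iterateFrobenius_def, iterateFrobenius_def, map_pow]
      · intro x; rw [iterateFrobenius_def, iterateFrobenius_def, map_pow]
    constructor
    · right
      have h1 := mat_pow_eq_one hP ((q ^ 2 + 1) / 2) (by rw [hhalf2]; exact htq)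
      rw [← hmap, ← map_pow] at h1
      have hinj : Function.Injective (f.mapMatrix :
          Matrix ((Fin 2 × Fin 2) × (Fin 2 × Fin 2)) ((Fin 2 × Fin 2) × (Fin 2 × Fin 2)) E →
            Matrix ((Fin 2 × Fin 2) × (Fin 2 × Fin 2)) ((Fin 2 × Fin 2) × (Fin 2 × Fin 2)) E') := by
        intro A B hAB
        ext i j
        have := congrFun (congrFun hAB i) j
        simp only [RingHom.mapMatrix_apply, Matrix.map_apply] at this
        exact f.injective this
      apply hinj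
      rw [h1, map_one]
    · rintro ⟨v, hv, hfix⟩
      exfalso
      have hfix' : kr4 (RingHom.id E') (iterateFrobenius E' 3 k) (iterateFrobenius E' 3 1)
          (iterateFrobenius E' 3 k) (f.mapMatrix g) *ᵥ (f ∘ v) = f ∘ v := by
        rw [← hmap]
        funext i
        have h1 := RingHom.map_mulVec f (kr4 (RingHom.id E) (iterateFrobenius E 3 k)
          (iterateFrobenius E 3 1) (iterateFrobenius E 3 k) g) v i
        rw [hfix] at h1
        exact h1.symm
      have hv' : f ∘ v ≠ 0 := by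
        intro h0
        apply hv
        funext i
        have := congrFun h0 i
        simp only [Function.comp_apply, Pi.zero_apply] at this
        exact (map_eq_zero f).1 this
      obtain ⟨s, hs⟩ := eig_fixed hP (f ∘ v) hv' hfix'
      have h1 := nat_cases t q hq2' s hs
      rw [e2q4, e2q2, e2qm2, e2qm4] at h1
      have h2 := nonsplit_arith t a d hd' htq h1
      apply htt
      rw [← pow_two]
      exact h2

theorem an4_unip [Fact (Nat.Prime 3)] (g : Matrix (Fin 2) (Fin 2) E) (ε : E) (hε : ε = 1 ∨ ε = -1)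
    (h : (g - ε • 1) ^ 2 = 0) :
    kr4 (RingHom.id E) (iterateFrobenius E 3 k) (iterateFrobenius E 3 1)
      (iterateFrobenius E 3 k) g ^ 3 = 1 := by
  -- `g ^ 3 = ε • 1`
  set n := g - ε • (1 : Matrix (Fin 2) (Fin 2) E) with hn
  have hg : g = ε • 1 + n := by rw [hn]; abel
  have hnn : n * n = 0 := by rw [← pow_two]; exact h
  have h3 : (3 : E) = 0 := by
    have := CharP.cast_eq_zero E 3
    exact_mod_cast this
  have hε3 : ε ^ 3 = ε := by
    rcases hε with rfl | rfl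
    · rw [one_pow]
    · ring
  have hε4 : ε ^ 4 = 1 := by
    rcases hε with rfl | rfl
    · rw [one_pow]
    · ring
  have hg3 : g ^ 3 = ε • 1 := by
    have e1 : g ^ 3 = (ε ^ 3) • (1 : Matrix (Fin 2) (Fin 2) E) + (3 * ε ^ 2) • n +
        (3 * ε) • (n * n) + n * n * n := by
      rw [hg]
      simp only [pow_succ, pow_zero, one_mul, add_mul, mul_add, Matrix.smul_mul, Matrix.mul_smul,
        Matrix.one_mul, Matrix.mul_one, smul_smul, smul_add]
      module
    rw [e1, hnn, Matrix.zero_mul, smul_zero, h3, zero_mul, zero_smul, hε3]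
    simp
  rw [← map_pow, hg3]
  -- `kr4 (ε • 1) = 1`
  rw [kr4_apply, kr2_apply, kr2_apply]
  have hmap : ∀ φ : E →+* E, φ.mapMatrix (ε • (1 : Matrix (Fin 2) (Fin 2) E)) = ε • 1 := by
    intro φ
    have hφ : φ ε = ε := by
      rcases hε with rfl | rfl
      · exact map_one φ
      · rw [map_neg, map_one]
    ext i j
    simp only [RingHom.mapMatrix_apply, Matrix.map_apply, Matrix.smul_apply, smul_eq_mul,
      map_mul, hφ, Matrix.one_apply]
    split_ifs
    · rw [map_one]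
    · rw [map_zero]
  rw [hmap, hmap, hmap]
  simp only [Matrix.smul_kronecker, Matrix.kronecker_smul, Matrix.one_kronecker_one, smul_smul]
  have : ε * ε * (ε * ε) = 1 := by rw [← hε4]; ring
  have h5 : ∀ x : E, x = 1 → x • (1 : Matrix ((Fin 2 × Fin 2) × (Fin 2 × Fin 2))
      ((Fin 2 × Fin 2) × (Fin 2 × Fin 2)) E) = 1 := by
    intro x hx
    rw [hx, one_smul]
  apply h5
  rw [← hε4]
  ring

end AN4

end Cfsg.Agent.Lib.Helper5_S3466_AN4
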