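import Mathlib
import Cfsg.Agent.Lib.Helper40_P4Defs

/-!
# S3466, package T1Ub (helper65): a monic palindromic quartic over `F_q` that is not a product of
two self-reciprocal quadratics over `F_q` divides `X^m - 1` or `X^m + 1` for `m = (q² ± 1)/(2, q-1)`.
(architect: helper40)

Proof: in an algebraic closure take a root `α`; `y = α + α⁻¹` is a root of `Y² + aY + (b-2)` not
in `F`, so `y^q = -a - y ≠ y` and `y^(q²) = y`; hence `α^(q²) ∈ {α, α⁻¹}`, the four roots
`α, α⁻¹, α^q, α^(-q)` are distinct and all satisfy `γ^m = ε` for one sign `ε`.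
-/

set_option autoImplicit false

open Cfsg.Agent.Lib.Helper40_P4Defs
open Polynomial

universe u

namespace Cfsg.Agent.Lib.Helper65_S3466_T1Ub

theorem palin_form {F : Type*} [Field F] (χ : F[X]) (hm : χ.Monic) (hdeg : χ.natDegree = 4)
    (hrev : χ.reverse = χ) :
    ∃ a b : F, χ = X ^ 4 + C a * X ^ 3 + C b * X ^ 2 + C a * X + 1 := by
  refine ⟨χ.coeff 1, χ.coeff 2, ?_⟩
  have h4 : χ.coeff 4 = 1 := by rw [← hdeg]; exact hm.coeff_natDegree
  have h0 : χ.coeff 0 = 1 := by
    have := Polynomial.coeff_reverse χ 0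
    rw [hrev, hdeg, Polynomial.revAt_le (by omega)] at this
    rw [this]; exact h4
  have h3 : χ.coeff 3 = χ.coeff 1 := by
    have := Polynomial.coeff_reverse χ 3
    rw [hrev, hdeg, Polynomial.revAt_le (by omega)] at this
    exact this
  conv_lhs => rw [χ.as_sum_range' 5 (by omega)]
  simp only [Finset.sum_range_succ, Finset.sum_range_zero, zero_add, h0, h3, h4,
    ← C_mul_X_pow_eq_monomial]
  simp
  ring

/-- the factorisation identity -/
theorem quartic_factor {R : Type*} [CommRing R] (a b y y' : R) (h1 : y + y' = -a)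
    (h2 : y * y' = b - 2) :
    (X ^ 4 + C a * X ^ 3 + C b * X ^ 2 + C a * X + 1 : R[X]) =
      (X ^ 2 - C y * X + 1) * (X ^ 2 - C y' * X + 1) := by
  have ha : a = -(y + y') := by rw [h1, neg_neg]
  have hb : b = y * y' + 2 := by rw [h2]; ring
  rw [ha, hb]
  simp only [map_neg, map_add, map_mul, map_ofNat]
  ring

/-- elements of a field extension fixed by the `q`-power map lie in the finite base field -/
theorem mem_range_of_pow_card {F : Type*} [Field F] [Fintype F] {K : Type*} [Field K]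
    [Algebra F K] (y : K) (hy : y ^ Fintype.card F = y) : y ∈ Set.range (algebraMap F K) := by
  classical
  by_contra hny
  have hq : 1 < Fintype.card F := Fintype.one_lt_card
  set P : K[X] := X ^ Fintype.card F - X with hP
  have hdeg : P.natDegree = Fintype.card F := FiniteField.X_pow_card_sub_X_natDegree_eq K hq
  have hP0 : P ≠ 0 := by
    intro h0
    rw [h0, natDegree_zero] at hdeg
    omega
  let Z : Finset K := insert y (Finset.univ.image (algebraMap F K))
  have hZ : Z.val ⊆ P.roots := by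
    intro z hz
    rw [Finset.mem_val] at hz
    rw [mem_roots hP0, IsRoot.def, hP, eval_sub, eval_pow, eval_X, sub_eq_zero]
    rcases Finset.mem_insert.mp hz with rfl | hz
    · exact hy
    · obtain ⟨x, _, rfl⟩ := Finset.mem_image.mp hz
      rw [← map_pow, FiniteField.pow_card]
  have hcard : Z.card = Fintype.card F + 1 := by
    rw [Finset.card_insert_of_notMem, Finset.card_image_of_injective _
      (algebraMap F K).injective, Finset.card_univ]
    intro hmem
    obtain ⟨x, _, hx⟩ := Finset.mem_image.mp hmem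
    exact hny ⟨x, hx⟩
  have := card_le_degree_of_subset_roots hZ
  rw [hcard, hdeg] at this
  omega

/-- core: in an algebraically closed extension `K`, a root `α` of the quartic satisfies
`α ^ (q² - 1) = 1` or `α ^ (q² + 1) = 1`, and the quartic is `∏ (X - γ)` over the four distinct
elements `α, α⁻¹, α^q, α^(-q)`. -/
theorem core {F : Type*} [Field F] [Fintype F] (p : ℕ) [Fact p.Prime] [CharP F p]
    {K : Type*} [Field K] [Algebra F K] [IsAlgClosed K]
    (a b : F)
    (hns : ∀ y₁ y₂ : F, (X ^ 4 + C a * X ^ 3 + C b * X ^ 2 + C a * X + 1 : F[X]) ≠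
      (X ^ 2 - C y₁ * X + 1) * (X ^ 2 - C y₂ * X + 1)) :
    ∃ α : K, α ≠ 0 ∧
      (α ^ (Fintype.card F ^ 2 - 1) = 1 ∨ α ^ (Fintype.card F ^ 2 + 1) = 1) ∧
      Function.Injective ![α, α⁻¹, α ^ Fintype.card F, (α ^ Fintype.card F)⁻¹] ∧
      (X ^ 4 + C (algebraMap F K a) * X ^ 3 + C (algebraMap F K b) * X ^ 2 +
          C (algebraMap F K a) * X + 1 : K[X]) =
        ∏ i : Fin 4, (X - C (![α, α⁻¹, α ^ Fintype.card F, (α ^ Fintype.card F)⁻¹] i)) := by
  classical
  set q := Fintype.card F with hq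
  obtain ⟨k, hpprime, hqk⟩ := FiniteField.card F p
  have hq2 : 2 ≤ q := Fintype.one_lt_card
  set ι : F →+* K := algebraMap F K with hιdef
  have hι : Function.Injective ι := (algebraMap F K).injective
  have : CharP K p := charP_of_injective_algebraMap hι p
  have : ExpChar K p := ExpChar.prime hpprime
  set Fr : K →+* K := iterateFrobenius K p k with hFrdef
  have hFr : ∀ x : K, Fr x = x ^ q := fun x => by
    rw [hq, hqk]; exact iterateFrobenius_def p k x
  have hFrι : ∀ x : F, Fr (ι x) = ι x := fun x => by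
    rw [hFr, ← map_pow, hq, FiniteField.pow_card]
  set A : K := ι a with hA
  set B : K := ι b with hB
  set P : K[X] := X ^ 4 + C A * X ^ 3 + C B * X ^ 2 + C A * X + 1 with hP
  have hPdeg : P.degree ≠ 0 := by
    have h4 : P.degree = 4 := by
      rw [hP]
      compute_degree!
    rw [h4]; norm_num
  obtain ⟨α, hα⟩ := IsAlgClosed.exists_root P hPdeg
  have hα' : α ^ 4 + A * α ^ 3 + B * α ^ 2 + A * α + 1 = 0 := by
    have := hα
    rw [IsRoot.def, hP] at this
    simpa using this
  have hα0 : α ≠ 0 := by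
    rintro rfl
    simp at hα'
  set ai : K := α⁻¹ with hai
  have hαai : α * ai = 1 := mul_inv_cancel₀ hα0
  set y : K := α + ai with hy
  have hψ : y ^ 2 + A * y + (B - 2) = 0 := by
    have h1 : α ^ 2 * (y ^ 2 + A * y + (B - 2)) =
        α ^ 4 + A * α ^ 3 + B * α ^ 2 + A * α + 1 := by
      rw [hy]
      linear_combination (2 * α ^ 2 + A * α + α * ai + 1) * hαai
    rw [hα'] at h1
    exact (mul_eq_zero.mp h1).resolve_left (pow_ne_zero 2 hα0)
  have hyF : y ∉ Set.range ι := by
    rintro ⟨y₁, hy₁⟩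
    apply hns y₁ (-a - y₁)
    apply quartic_factor
    · ring
    · apply hι
      have h2 : ι y₁ ^ 2 + A * ι y₁ + (B - 2) = 0 := by rw [hy₁]; exact hψ
      simp only [map_mul, map_sub, map_neg, map_ofNat]
      linear_combination -h2
  set y' : K := -A - y with hy'
  have hFrA : Fr A = A := hFrι a
  have hFrB : Fr B = B := hFrι b
  have hFry_ne : Fr y ≠ y := by
    intro h
    apply hyF
    exact mem_range_of_pow_card y (by rw [← hq, ← hFr]; exact h)
  have hFry : Fr y = y' := by
    have h1 : Fr y ^ 2 + A * Fr y + (B - 2) = 0 := by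
      have := congrArg Fr hψ
      simpa [map_add, map_mul, map_pow, map_sub, map_ofNat, hFrA, hFrB] using this
    have h2 : (Fr y - y) * (Fr y - y') = 0 := by
      rw [hy']
      linear_combination h1 - hψ
    rcases mul_eq_zero.mp h2 with h3 | h3
    · exact absurd (sub_eq_zero.mp h3) hFry_ne
    · exact sub_eq_zero.mp h3
  have hyy' : y ≠ y' := fun h => hFry_ne (hFry.trans h.symm)
  have hFry' : Fr y' = y := by
    rw [hy', map_sub, map_neg, hFrA, hFry, hy']
    ring
  have hy'F : y' ∉ Set.range ι := by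
    rintro ⟨z, hz⟩
    apply hyF
    refine ⟨-a - z, ?_⟩
    rw [map_sub, map_neg, hz, hy']
    ring
  set β : K := Fr α with hβ
  have hβ0 : β ≠ 0 := by
    rw [hβ, hFr]; exact pow_ne_zero _ hα0
  set bi : K := β⁻¹ with hbi
  have hβbi : β * bi = 1 := mul_inv_cancel₀ hβ0
  have hβy : β + bi = y' := by
    rw [← hFry, hy, map_add, hai, map_inv₀]
  set s : K := Fr β with hs
  have hs0 : s ≠ 0 := by
    rw [hs, hFr]; exact pow_ne_zero _ hβ0
  have hssi : s * s⁻¹ = 1 := mul_inv_cancel₀ hs0
  have hsy : s + s⁻¹ = y := by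
    rw [← hFry', ← hβy, map_add, hbi, map_inv₀]
  have hs_cases : s = α ∨ s = ai := by
    have h1 : (s - α) * (s - ai) = 0 := by
      linear_combination hαai - hssi + s * hsy + s * hy
    rcases mul_eq_zero.mp h1 with h | h
    · exact Or.inl (sub_eq_zero.mp h)
    · exact Or.inr (sub_eq_zero.mp h)
  have hsα : s = α ^ (q ^ 2) := by
    rw [hs, hβ, hFr, hFr, ← pow_mul, pow_two]
  have hβq : β = α ^ q := by rw [hβ, hFr]
  refine ⟨α, hα0, ?_, ?_, ?_⟩
  · rcases hs_cases with h | h
    · left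
      have h1 : α ^ (q ^ 2 - 1) * α = 1 * α := by
        rw [← pow_succ, one_mul, Nat.sub_add_cancel (Nat.one_le_pow _ _ (by omega)), ← hsα, h]
      exact mul_right_cancel₀ hα0 h1
    · right
      rw [pow_succ, ← hsα, h, mul_comm]
      exact hαai
  · -- injectivity
    have t1 : α ≠ ai := by
      intro h
      have h2 : (α - 1) * (α + 1) = 0 := by
        have : α * α = 1 := by rw [← h] at hαai; exact hαai
        linear_combination this
      apply hyF
      rcases mul_eq_zero.mp h2 with h3 | h3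
      · refine ⟨2, ?_⟩
        have h4 : α = 1 := sub_eq_zero.mp h3
        rw [hy, ← h, h4, map_ofNat]; norm_num
      · refine ⟨-2, ?_⟩
        have h4 : α = -1 := eq_neg_of_add_eq_zero_left h3
        rw [hy, ← h, h4, map_neg, map_ofNat]; norm_num
    have t2 : β ≠ bi := by
      intro h
      have h2 : (β - 1) * (β + 1) = 0 := by
        have : β * β = 1 := by rw [← h] at hβbi; exact hβbi
        linear_combination this
      apply hy'F
      rcases mul_eq_zero.mp h2 with h3 | h3
      · refine ⟨2, ?_⟩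
        have h4 : β = 1 := sub_eq_zero.mp h3
        rw [← hβy, ← h, h4, map_ofNat]; norm_num
      · refine ⟨-2, ?_⟩
        have h4 : β = -1 := eq_neg_of_add_eq_zero_left h3
        rw [← hβy, ← h, h4, map_neg, map_ofNat]; norm_num
    have hai' : ai⁻¹ = α := by rw [hai, inv_inv]
    have hbi' : bi⁻¹ = β := by rw [hbi, inv_inv]
    have tα : ∀ γ : K, (γ = α ∨ γ = ai) → γ + γ⁻¹ = y := by
      rintro γ (rfl | rfl)
      · rfl
      · rw [hai', hy, add_comm]
    have tβ : ∀ γ : K, (γ = β ∨ γ = bi) → γ + γ⁻¹ = y' := by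
      rintro γ (rfl | rfl)
      · exact hβy
      · rw [hbi', ← hβy, add_comm]
    have cross : ∀ γ δ : K, (γ = α ∨ γ = ai) → (δ = β ∨ δ = bi) → γ ≠ δ := by
      intro γ δ hγ hδ h
      apply hyy'
      rw [← tα γ hγ, ← tβ δ hδ, h]
    rw [← hβq]
    intro i j hij
    fin_cases i <;> fin_cases j <;> simp only [Matrix.cons_val_zero, Matrix.cons_val_one,
      Matrix.cons_val_two, Matrix.cons_val_three, Matrix.head_cons, Matrix.tail_cons,
      Fin.zero_eta, Fin.mk_one, Fin.reduceFinMk] at hij ⊢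
    all_goals first
      | rfl
      | exact absurd hij t1
      | exact absurd hij.symm t1
      | exact absurd hij t2
      | exact absurd hij.symm t2
      | exact absurd hij (cross _ _ (Or.inl rfl) (Or.inl rfl))
      | exact absurd hij (cross _ _ (Or.inl rfl) (Or.inr rfl))
      | exact absurd hij (cross _ _ (Or.inr rfl) (Or.inl rfl))
      | exact absurd hij (cross _ _ (Or.inr rfl) (Or.inr rfl))
      | exact absurd hij.symm (cross _ _ (Or.inl rfl) (Or.inl rfl))
      | exact absurd hij.symm (cross _ _ (Or.inl rfl) (Or.inr rfl))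
      | exact absurd hij.symm (cross _ _ (Or.inr rfl) (Or.inl rfl))
      | exact absurd hij.symm (cross _ _ (Or.inr rfl) (Or.inr rfl))
  · -- factorisation
    rw [← hβq, Fin.prod_univ_four]
    simp only [Matrix.cons_val_zero, Matrix.cons_val_one, Matrix.cons_val_two,
      Matrix.cons_val_three, Matrix.head_cons, Matrix.tail_cons]
    have h1 : y + y' = -A := by rw [hy']; ring
    have h2 : y * y' = B - 2 := by rw [hy']; linear_combination -hψ
    rw [hP, quartic_factor A B y y' h1 h2]
    have f1 : (X ^ 2 - C y * X + 1 : K[X]) = (X - C α) * (X - C ai) := by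
      have : (C α * C ai : K[X]) = 1 := by rw [← C_mul, hαai, C_1]
      rw [hy, C_add]
      linear_combination -this
    have f2 : (X ^ 2 - C y' * X + 1 : K[X]) = (X - C β) * (X - C bi) := by
      have : (C β * C bi : K[X]) = 1 := by rw [← C_mul, hβbi, C_1]
      rw [← hβy, C_add]
      linear_combination -this
    rw [f1, f2]
    ring

/-- T1Ub: the nonsplit case -/
theorem quartic_nonsplit {F : Type u} [Field F] [Fintype F] (p : ℕ) [Fact p.Prime] [CharP F p]
    (χ : F[X]) (hm : χ.Monic) (hdeg : χ.natDegree = 4) (hrev : χ.reverse = χ)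
    (hns : ∀ y₁ y₂ : F, χ ≠ (X ^ 2 - C y₁ * X + 1) * (X ^ 2 - C y₂ * X + 1)) :
    ∃ m ∈ mu4 p (Fintype.card F), χ ∣ X ^ m - 1 ∨ χ ∣ X ^ m + 1 := by
  classical
  obtain ⟨a, b, hχ⟩ := palin_form χ hm hdeg hrev
  set q := Fintype.card F with hq
  obtain ⟨k, hpprime, hqk⟩ := FiniteField.card F p
  have hns' : ∀ y₁ y₂ : F, (X ^ 4 + C a * X ^ 3 + C b * X ^ 2 + C a * X + 1 : F[X]) ≠
      (X ^ 2 - C y₁ * X + 1) * (X ^ 2 - C y₂ * X + 1) := fun y₁ y₂ => hχ ▸ hns y₁ y₂
  obtain ⟨α, hα0, hN, hinj, hfac⟩ := core (K := AlgebraicClosure F) p a b hns'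
  rw [← hq] at hN hinj hfac
  set ι : F →+* AlgebraicClosure F := algebraMap F (AlgebraicClosure F) with hιdef
  have hι : Function.Injective ι := (algebraMap F (AlgebraicClosure F)).injective
  -- the exponent and the sign
  have key : ∃ m ∈ mu4 p q, ∃ ε : AlgebraicClosure F,
      (ε = 1 ∨ ε = -1) ∧ ε ^ q = ε ∧ α ^ m = ε := by
    by_cases hp2 : p = 2
    · rcases hN with h | h
      · exact ⟨q ^ 2 - 1, by simp [mu4, hp2], 1, Or.inl rfl, one_pow _, h⟩
      · exact ⟨q ^ 2 + 1, by simp [mu4, hp2], 1, Or.inl rfl, one_pow _, h⟩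
    · have hpodd : Odd p := hpprime.odd_of_ne_two hp2
      have hqodd : Odd q := by rw [hq, hqk]; exact hpodd.pow
      have hmem1 : (q ^ 2 - 1) / 2 ∈ mu4 p q := by
        unfold mu4; rw [if_neg hp2]; split_ifs <;> simp
      have hmem2 : (q ^ 2 + 1) / 2 ∈ mu4 p q := by
        unfold mu4; rw [if_neg hp2]; split_ifs <;> simp
      have hsq : ∀ N M : ℕ, N = 2 * M → α ^ N = 1 →
          ∃ ε : AlgebraicClosure F, (ε = 1 ∨ ε = -1) ∧ ε ^ q = ε ∧ α ^ M = ε := by
        intro N M hNM hαN
        have h1 : (α ^ M) ^ 2 = 1 := by rw [← pow_mul, mul_comm, ← hNM, hαN]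
        have h2 : α ^ M = 1 ∨ α ^ M = -1 := sq_eq_one_iff.mp h1
        refine ⟨α ^ M, h2, ?_, rfl⟩
        rcases h2 with h | h
        · rw [h, one_pow]
        · rw [h, hqodd.neg_one_pow]
      have hq2odd : Odd (q ^ 2) := hqodd.pow
      have he1 : q ^ 2 - 1 = 2 * ((q ^ 2 - 1) / 2) := by
        obtain ⟨c, hc⟩ := hq2odd
        omega
      have he2 : q ^ 2 + 1 = 2 * ((q ^ 2 + 1) / 2) := by
        obtain ⟨c, hc⟩ := hq2odd
        omega
      rcases hN with h | h
      · obtain ⟨ε, h1, h2, h3⟩ := hsq _ _ he1 h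
        exact ⟨_, hmem1, ε, h1, h2, h3⟩
      · obtain ⟨ε, h1, h2, h3⟩ := hsq _ _ he2 h
        exact ⟨_, hmem2, ε, h1, h2, h3⟩
  obtain ⟨m, hmem, ε, hε, hεq, hαm⟩ := key
  have hεinv : ε⁻¹ = ε := by
    rcases hε with h | h
    · rw [h, inv_one]
    · rw [h, inv_neg_one]
  set r : Fin 4 → AlgebraicClosure F := ![α, α⁻¹, α ^ q, (α ^ q)⁻¹] with hr
  have hroots : ∀ i : Fin 4, r i ^ m = ε := by
    have h3 : (α ^ q) ^ m = ε := by rw [← pow_mul, mul_comm, pow_mul, hαm, hεq]
    intro i
    fin_cases i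
    · exact hαm
    · show (α⁻¹) ^ m = ε
      rw [inv_pow, hαm, hεinv]
    · exact h3
    · show ((α ^ q)⁻¹) ^ m = ε
      rw [inv_pow, h3, hεinv]
  have hdvdK : (∏ i : Fin 4, (X - C (r i))) ∣ (X ^ m - C ε : (AlgebraicClosure F)[X]) := by
    apply Finset.prod_dvd_of_coprime
    · intro i _ j _ hij
      exact pairwise_coprime_X_sub_C hinj hij
    · intro i _
      rw [dvd_iff_isRoot, IsRoot.def, eval_sub, eval_pow, eval_X, eval_C, hroots i, sub_self]
  rw [← hfac] at hdvdK
  have hχK : χ.map ι = X ^ 4 + C (ι a) * X ^ 3 + C (ι b) * X ^ 2 + C (ι a) * X + 1 := by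
    rw [hχ]
    simp
  rw [← hχK] at hdvdK
  refine ⟨m, hmem, ?_⟩
  rcases hε with h | h
  · left
    have h1 : (X ^ m - C ε : (AlgebraicClosure F)[X]) = (X ^ m - 1 : F[X]).map ι := by
      rw [h]; simp
    rw [h1] at hdvdK
    exact (map_dvd_map ι hι hm).mp hdvdK
  · right
    have h1 : (X ^ m - C ε : (AlgebraicClosure F)[X]) = (X ^ m + 1 : F[X]).map ι := by
      rw [h]; simp
    rw [h1] at hdvdK
    exact (map_dvd_map ι hι hm).mp hdvdK

end Cfsg.Agent.Lib.Helper65_S3466_T1Ub
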