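import Mathlib
import Cfsg.Agent.Lib.Helper40_P4Defs
import Cfsg.Agent.Lib.Helper49_S3466_SDP

/-!
# S3466 package `B` (helper70, for helper40): the case `q = 3`

`F₃⁴ ⋊ S₅` with the sign-twisted sum-zero module, spectrum `{1,2,3,4,5,6,9,12} = Spec4 3 3`,
blown up with `SDP`.
-/

set_option autoImplicit false

open Cfsg.Agent.Lib.Helper40_P4Defs

namespace Cfsg.Agent.Lib.Helper70_S3466_B

/-- the ambient permutation module `F₃⁵` -/
abbrev W := Fin 5 → ZMod 3

/-- the sign of a permutation in `ZMod 3` -/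
def sgn (σ : Equiv.Perm (Fin 5)) : ZMod 3 := ((Equiv.Perm.sign σ : ℤˣ) : ℤ)

theorem sgn_one : sgn 1 = 1 := by
  unfold sgn; simp

theorem sgn_mul (σ τ : Equiv.Perm (Fin 5)) : sgn (σ * τ) = sgn σ * sgn τ := by
  unfold sgn; simp

/-- coefficient of the twisted norm sum -/
def coef (σ : Equiv.Perm (Fin 5)) (n : ℕ) (i j : Fin 5) : ZMod 3 :=
  ∑ m ∈ Finset.range n, if (σ ^ m) j = i then sgn (σ ^ m) else 0

/-- all columns of the twisted norm sum are equal -/
def Z (σ : Equiv.Perm (Fin 5)) (n : ℕ) : Prop := ∀ i j : Fin 5, coef σ n i j = coef σ n i 4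

instance (σ : Equiv.Perm (Fin 5)) (n : ℕ) : Decidable (Z σ n) := by unfold Z; infer_instance

set_option maxRecDepth 100000 in
theorem key : ∀ σ : Equiv.Perm (Fin 5),
    σ ^ 4 = 1 ∨ σ ^ 3 = 1 ∨ (σ ^ 5 = 1 ∧ Z σ 5) ∨ (σ ^ 6 = 1 ∧ Z σ 6) := by
  decide +kernel

/-- the sign-twisted permutation action on `F₃⁵` -/
def act (σ : Equiv.Perm (Fin 5)) : W →+ W where
  toFun v := fun i => sgn σ * v (σ⁻¹ i)
  map_zero' := by funext i; simp
  map_add' := by intro a b; funext i; simp [mul_add]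

theorem act_apply (σ : Equiv.Perm (Fin 5)) (v : W) (i : Fin 5) : act σ v i = sgn σ * v (σ⁻¹ i) := rfl

theorem act_one (v : W) : act 1 v = v := by
  funext i; rw [act_apply, sgn_one, one_mul, inv_one, Equiv.Perm.one_apply]

theorem act_mul (σ τ : Equiv.Perm (Fin 5)) (v : W) : act (σ * τ) v = act σ (act τ v) := by
  funext i
  rw [act_apply, act_apply, act_apply, sgn_mul, mul_inv_rev, Equiv.Perm.mul_apply, mul_assoc]

/-- the sum-zero submodule -/
def V : AddSubgroup W where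
  carrier := {v | ∑ i, v i = 0}
  zero_mem' := by simp
  add_mem' := by
    intro a b ha hb
    simp only [Set.mem_ofPred_eq] at ha hb ⊢
    simp [Finset.sum_add_distrib, ha, hb]
  neg_mem' := by
    intro a ha
    simp only [Set.mem_ofPred_eq] at ha ⊢
    simp [ha]

theorem mem_V (v : W) : v ∈ V ↔ ∑ i, v i = 0 := Iff.rfl

theorem act_mem (σ : Equiv.Perm (Fin 5)) (v : W) (hv : v ∈ V) : act σ v ∈ V := by
  rw [mem_V] at hv ⊢
  simp only [act_apply]
  rw [← Finset.mul_sum, Equiv.sum_comp σ⁻¹ v, hv, mul_zero]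

/-- the action on the sum-zero submodule -/
def rho : Equiv.Perm (Fin 5) →* AddMonoid.End V where
  toFun σ := ((act σ).comp V.subtype).codRestrict V (fun v => act_mem σ v v.2)
  map_one' := by
    refine DFunLike.ext _ _ (fun v => Subtype.ext ?_)
    exact act_one v
  map_mul' := by
    intro σ τ
    refine DFunLike.ext _ _ (fun v => Subtype.ext ?_)
    exact act_mul σ τ v

theorem rho_apply (σ : Equiv.Perm (Fin 5)) (v : V) : ((rho σ v : V) : W) = act σ v := rfl

theorem sum_pow_apply (σ : Equiv.Perm (Fin 5)) (n : ℕ) (v : V) :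
    (((∑ m ∈ Finset.range n, rho σ ^ m) v : V) : W) = ∑ m ∈ Finset.range n, act (σ ^ m) v := by
  induction n with
  | zero => rfl
  | succ n ih =>
    rw [Finset.sum_range_succ, Finset.sum_range_succ, ← ih, ← map_pow]
    rfl

theorem sum_act_apply (σ : Equiv.Perm (Fin 5)) (n : ℕ) (v : W) (i : Fin 5) :
    (∑ m ∈ Finset.range n, act (σ ^ m) v) i = ∑ j, coef σ n i j * v j := by
  rw [Finset.sum_apply]
  unfold coef
  simp only [Finset.sum_mul]
  rw [Finset.sum_comm]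
  apply Finset.sum_congr rfl
  intro m _
  rw [act_apply, Finset.sum_eq_single ((σ ^ m)⁻¹ i)]
  · rw [if_pos (by simp)]
  · intro j _ hj
    rw [if_neg, zero_mul]
    intro h
    apply hj
    rw [← h]; simp
  · intro h; exact absurd (Finset.mem_univ _) h

theorem sum_pow_eq_zero (σ : Equiv.Perm (Fin 5)) (n : ℕ) (hZ : Z σ n) :
    ∑ m ∈ Finset.range n, rho σ ^ m = 0 := by
  refine DFunLike.ext _ _ (fun v => Subtype.ext ?_)
  rw [sum_pow_apply]
  funext i
  rw [sum_act_apply]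
  have hv : ∑ j, (v : W) j = 0 := v.2
  calc ∑ j, coef σ n i j * (v : W) j = ∑ j, coef σ n i 4 * (v : W) j :=
        Finset.sum_congr rfl (fun j _ => by rw [hZ i j])
    _ = 0 := by rw [← Finset.mul_sum, hv, mul_zero]


theorem hV3 (v : V) : 3 • v = 0 := by
  apply Subtype.ext
  funext i
  show (3 • (v : W)) i = 0
  rw [Pi.smul_apply, nsmul_eq_mul]
  have : ((3 : ℕ) : ZMod 3) = 0 := by decide
  rw [this, zero_mul]

instance : Nontrivial V :=
  ⟨⟨0, ⟨![1, 2, 0, 0, 0], by rw [mem_V]; decide⟩, fun h => by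
    have := congrArg (fun v : V => (v : W) 0) h
    revert this
    decide⟩⟩

theorem spec_eq : Spec4 3 3 = {n | n ∣ 9 ∨ n ∣ 6 ∨ n ∣ 12 ∨ n ∣ 4 ∨ n ∣ 5} := by
  ext n
  simp [Spec4, mu4]

theorem realizes_sub (σ : Equiv.Perm (Fin 5)) (n : ℕ) (h : Realizes 3 (rho σ) n) :
    n ∈ Spec4 3 3 := by
  rw [spec_eq]
  have hpow : ∀ d, σ ^ d = 1 → orderOf (rho σ) ∣ d := fun d hd =>
    orderOf_dvd_of_pow_eq_one (by rw [← map_pow, hd, map_one])
  rcases key σ with h4 | h3 | ⟨h5, hZ⟩ | ⟨h6, hZ⟩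
  · have hd := hpow 4 h4
    rcases h with rfl | ⟨rfl, _⟩
    · exact Or.inr (Or.inr (Or.inr (Or.inl hd)))
    · exact Or.inr (Or.inr (Or.inl (mul_dvd_mul_left 3 hd)))
  · have hd := hpow 3 h3
    rcases h with rfl | ⟨rfl, _⟩
    · exact Or.inl (hd.trans (by norm_num))
    · exact Or.inl (mul_dvd_mul_left 3 hd)
  · have hd := hpow 5 h5
    rcases (Nat.dvd_prime (by norm_num)).mp hd with h1 | h5'
    · rcases h with rfl | ⟨rfl, _⟩
      · rw [h1]; exact Or.inl (one_dvd _)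
      · rw [h1]; exact Or.inl (by norm_num)
    · rcases h with rfl | ⟨rfl, hns⟩
      · rw [h5']; exact Or.inr (Or.inr (Or.inr (Or.inr dvd_rfl)))
      · exfalso
        apply hns
        unfold normSum
        rw [h5']
        exact sum_pow_eq_zero σ 5 hZ
  · have hd := hpow 6 h6
    rcases h with rfl | ⟨rfl, hns⟩
    · exact Or.inr (Or.inl hd)
    · have hle := Nat.le_of_dvd (by norm_num) hd
      have hpos : 0 < orderOf (rho σ) := Nat.pos_of_dvd_of_pos hd (by norm_num)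
      by_cases h6' : orderOf (rho σ) = 6
      · exfalso
        apply hns
        unfold normSum
        rw [h6']
        exact sum_pow_eq_zero σ 6 hZ
      · generalize orderOf (rho σ) = d at hd hle hpos h6'
        interval_cases d
        · exact Or.inl (by norm_num)
        · exact Or.inr (Or.inl (by norm_num))
        · exact Or.inl (by norm_num)
        · exact absurd hd (by norm_num)
        · exact absurd hd (by norm_num)
        · exact absurd rfl h6'

theorem rho_ne_one (τ : Equiv.Perm (Fin 5)) (w : W) (hw : w ∈ V) (h : act τ w ≠ w) :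
    rho τ ≠ 1 := by
  intro h1
  apply h
  exact congrArg (fun f : AddMonoid.End V => ((f ⟨w, hw⟩ : V) : W)) h1

theorem normSum_ne_zero (σ : Equiv.Perm (Fin 5)) (n : ℕ) (hord : orderOf (rho σ) = n) (w : W)
    (hw : w ∈ V) (h : ∑ m ∈ Finset.range n, act (σ ^ m) w ≠ 0) : normSum (rho σ) ≠ 0 := by
  unfold normSum
  rw [hord]
  intro h0
  apply h
  rw [← sum_pow_apply σ n ⟨w, hw⟩, h0]
  rfl

/-- a transposition -/
def s2 : Equiv.Perm (Fin 5) := Equiv.swap 0 1
/-- a 3-cycle -/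
def c3 : Equiv.Perm (Fin 5) := Equiv.swap 0 1 * Equiv.swap 1 2
/-- a 4-cycle -/
def c4 : Equiv.Perm (Fin 5) := Equiv.swap 0 1 * Equiv.swap 1 2 * Equiv.swap 2 3
/-- a 5-cycle -/
def c5 : Equiv.Perm (Fin 5) := Equiv.swap 0 1 * Equiv.swap 1 2 * Equiv.swap 2 3 * Equiv.swap 3 4

theorem order_s2 : orderOf (rho s2) = 2 := by
  have : Fact (Nat.Prime 2) := ⟨Nat.prime_two⟩
  apply orderOf_eq_prime
  · rw [← map_pow]
    have : s2 ^ 2 = 1 := by decide +kernel
    rw [this, map_one]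
  · exact rho_ne_one s2 ![1, 0, 2, 0, 0] (by rw [mem_V]; decide) (by decide +kernel)

theorem order_c3 : orderOf (rho c3) = 3 := by
  have h1 : rho c3 ^ 3 = 1 := by
    rw [← map_pow]
    have : c3 ^ 3 = 1 := by decide +kernel
    rw [this, map_one]
  have h2 : rho c3 ≠ 1 :=
    rho_ne_one c3 ![1, 0, 2, 0, 0] (by rw [mem_V]; decide) (by decide +kernel)
  have : Fact (Nat.Prime 3) := ⟨Nat.prime_three⟩
  exact orderOf_eq_prime h1 h2

theorem order_c5 : orderOf (rho c5) = 5 := by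
  have : Fact (Nat.Prime 5) := ⟨by norm_num⟩
  apply orderOf_eq_prime
  · rw [← map_pow]
    have : c5 ^ 5 = 1 := by decide +kernel
    rw [this, map_one]
  · exact rho_ne_one c5 ![1, 0, 2, 0, 0] (by rw [mem_V]; decide) (by decide +kernel)

theorem order_c4 : orderOf (rho c4) = 4 := by
  have : Fact (Nat.Prime 2) := ⟨Nat.prime_two⟩
  have h := orderOf_eq_prime_pow (x := rho c4) (p := 2) (n := 1) ?_ ?_
  · simpa using h
  · rw [← map_pow]
    exact rho_ne_one _ ![1, 0, 2, 0, 0] (by rw [mem_V]; decide) (by decide +kernel)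
  · rw [← map_pow]
    have : c4 ^ 2 ^ (1 + 1) = 1 := by decide +kernel
    rw [this, map_one]

theorem sub_realizes (n : ℕ) (h : n ∈ Spec4 3 3) :
    ∃ α ∈ MonoidHom.mrange rho, Realizes 3 α n := by
  rw [spec_eq] at h
  have hn : n ∈ ({1, 2, 3, 4, 5, 6, 9, 12} : Finset ℕ) := by
    rcases h with h | h | h | h | h
    all_goals
      have := Nat.le_of_dvd (by norm_num) h
      interval_cases n <;> revert h <;> decide
  have hone : orderOf (rho 1) = 1 := by rw [map_one, orderOf_one]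
  simp only [Finset.mem_insert, Finset.mem_singleton] at hn
  rcases hn with rfl | rfl | rfl | rfl | rfl | rfl | rfl | rfl
  · exact ⟨rho 1, ⟨1, rfl⟩, Or.inl hone.symm⟩
  · exact ⟨rho s2, ⟨s2, rfl⟩, Or.inl order_s2.symm⟩
  · refine ⟨rho 1, ⟨1, rfl⟩, Or.inr ⟨by rw [hone], ?_⟩⟩
    exact normSum_ne_zero 1 1 hone ![1, 2, 0, 0, 0] (by rw [mem_V]; decide) (by decide +kernel)
  · exact ⟨rho c4, ⟨c4, rfl⟩, Or.inl order_c4.symm⟩
  · exact ⟨rho c5, ⟨c5, rfl⟩, Or.inl order_c5.symm⟩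
  · refine ⟨rho s2, ⟨s2, rfl⟩, Or.inr ⟨by rw [order_s2], ?_⟩⟩
    exact normSum_ne_zero s2 2 order_s2 ![1, 2, 0, 0, 0] (by rw [mem_V]; decide) (by decide +kernel)
  · refine ⟨rho c3, ⟨c3, rfl⟩, Or.inr ⟨by rw [order_c3], ?_⟩⟩
    exact normSum_ne_zero c3 3 order_c3 ![1, 0, 0, 2, 0] (by rw [mem_V]; decide) (by decide +kernel)
  · refine ⟨rho c4, ⟨c4, rfl⟩, Or.inr ⟨by rw [order_c4], ?_⟩⟩
    exact normSum_ne_zero c4 4 order_c4 ![1, 2, 1, 2, 0] (by rw [mem_V]; decide) (by decide +kernel)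

theorem caseB (N : ℕ) :
    ∃ (H : Type) (_ : Group H) (_ : Fintype H), N < Fintype.card H ∧
      Set.range (orderOf : H → ℕ) = Spec4 3 3 := by
  classical
  let _ : Fintype V := Fintype.ofFinite V
  have h𝒮 : ∀ α ∈ MonoidHom.mrange rho, ∃ n : ℕ, 0 < n ∧ α ^ n = 1 := by
    rintro α ⟨σ, rfl⟩
    exact ⟨orderOf σ, orderOf_pos σ, by rw [← map_pow, pow_orderOf_eq_one, map_one]⟩
  obtain ⟨H, iG, iF, hcard, hspec⟩ :=
    Cfsg.Agent.Lib.Helper49_S3466_SDP.SDP (V := V) 3 Nat.prime_three hV3 (MonoidHom.mrange rho) h𝒮 N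
  refine ⟨H, iG, iF, hcard, ?_⟩
  rw [hspec]
  ext n
  constructor
  · rintro ⟨α, ⟨σ, rfl⟩, h⟩
    exact realizes_sub σ n h
  · exact sub_realizes n

end Cfsg.Agent.Lib.Helper70_S3466_B
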