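import Mathlib
import Cfsg.Agent.Lib.Helper40_ProjOrd
import Cfsg.Agent.Lib.Helper40_SpProj
import Cfsg.Agent.Lib.Helper40_SpMatrix
import Cfsg.Agent.Lib.Helper40_SpConj
import Cfsg.Agent.Lib.Helper40_SpExistMatrix

set_option autoImplicit false

/-!
Symplectic elements in the language of linear maps on abstract alternating spaces: transfer to
matrices, orthogonal sums, the twisted sum of projective order `2 lcm (p ^ κ) a₁`, and algebra
models.
-/

namespace Cfsg.Agent.Lib.Helper40_SpProj4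

open Polynomial Module Cfsg.Agent.Lib.Helper40_ProjOrd Cfsg.Agent.Lib.Helper40_SpProj
  Cfsg.Agent.Lib.Helper40_SpBasic Cfsg.Agent.Lib.Helper40_SpMatrix
  Cfsg.Agent.Lib.Helper40_SpExistMatrix

universe v

/-- a nondegenerate alternating space of dimension `2 m` with an isometry of order `a` -/
def HasSpOrd (F : Type v) [Field F] (m a : ℕ) : Prop :=
  ∃ (V : Type v) (_ : AddCommGroup V) (_ : Module F V) (_ : Module.Finite F V)
    (B : LinearMap.BilinForm F V) (g : Module.End F V),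
    B.Nondegenerate ∧ (∀ x, B x x = 0) ∧ (∀ x y, B (g x) (g y) = B x y) ∧ finrank F V = 2 * m ∧
    ∀ j : ℕ, g ^ j = 1 ↔ a ∣ j

/-- a nondegenerate alternating space of dimension `2 m` with an isometry of projective order
`a` -/
def HasSpPOrd (F : Type v) [Field F] (m a : ℕ) : Prop :=
  ∃ (V : Type v) (_ : AddCommGroup V) (_ : Module F V) (_ : Module.Finite F V)
    (B : LinearMap.BilinForm F V) (g : Module.End F V),
    B.Nondegenerate ∧ (∀ x, B x x = 0) ∧ (∀ x y, B (g x) (g y) = B x y) ∧ finrank F V = 2 * m ∧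
    0 < a ∧ ∀ j : ℕ, (∃ s : F, g ^ j = s • (1 : Module.End F V)) ↔ a ∣ j

section transfer

variable {F : Type v} [Field F]

/-- transfer to matrices -/
theorem HasSpPOrd.inSpecSp [Finite F] {n a : ℕ} (h : HasSpPOrd F n a) :
    InSpecSp (Fin n) F a := by
  obtain ⟨V, _, _, _, B, g, hB, halt, hiso, hfin, ha0, hord⟩ := h
  have hfinW : finrank F (Fin n ⊕ Fin n → F) = 2 * n := by
    rw [Module.finrank_pi, Fintype.card_sum, Fintype.card_fin, two_mul]
  have hss : ∀ (W : Type v) [AddCommGroup W] [Module F W],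
      (1 : Module.End F W).IsSemisimple := fun W _ _ => Module.End.isSemisimple_id
  obtain ⟨e, _, he⟩ := Helper40_SpConj.exists_isometry_conj (F := F) (2 * n) B (Jform n F)
    (1 : Module.End F V) (1 : Module.End F (Fin n ⊕ Fin n → F)) 1 hfin
    (isoData_one B halt) (isoData_one _ Jform_alt) hB Jform_nondeg (hss V) (hss _)
    (by rw [LinearMap.charpoly_one, LinearMap.charpoly_one, hfin, hfinW])
  let Φ : Module.End F V ≃ₐ[F] Matrix (Fin n ⊕ Fin n) (Fin n ⊕ Fin n) F :=
    (e.conjAlgEquiv F).trans LinearMap.toMatrixAlgEquiv'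
  have hΦ : ∀ b : Module.End F V, Φ b = LinearMap.toMatrix' (e.conjAlgEquiv F b) := fun b => rfl
  set b : Module.End F (Fin n ⊕ Fin n → F) := e.conjAlgEquiv F g with hb
  have hbapp : ∀ x, b x = e (g (e.symm x)) := fun x => rfl
  set A : Matrix (Fin n ⊕ Fin n) (Fin n ⊕ Fin n) F := Φ g with hA
  have hAb : Matrix.toLin' A = b := by rw [hA, hΦ]; exact Matrix.toLin'_toMatrix' b
  refine ⟨A, ?_, ha0, fun j => ?_⟩
  · rw [isSpM_iff_mem, SymplecticGroup.mem_iff']
    apply Matrix.toBilin'.injective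
    apply LinearMap.ext
    intro x
    apply LinearMap.ext
    intro y
    rw [← Jform_comp, hAb, hbapp, hbapp, he, hiso, ← he, LinearEquiv.apply_symm_apply,
      LinearEquiv.apply_symm_apply]
    rfl
  · rw [← hord, hA, ← map_pow]
    constructor
    · rintro ⟨s, hs⟩
      refine ⟨s, Φ.injective ?_⟩
      rw [hs, map_smul, map_one]
    · rintro ⟨s, hs⟩
      exact ⟨s, by rw [hs, map_smul, map_one]⟩

end transfer

section sums

variable {F : Type v} [Field F]

theorem prodMap_pow' {V₁ V₂ : Type*} [AddCommGroup V₁] [Module F V₁] [AddCommGroup V₂]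
    [Module F V₂] (g₁ : Module.End F V₁) (g₂ : Module.End F V₂) (j : ℕ) :
    (g₁.prodMap g₂) ^ j = (g₁ ^ j).prodMap (g₂ ^ j) := by
  induction j with
  | zero => rw [pow_zero, pow_zero, pow_zero, LinearMap.prodMap_one]
  | succ j ih => rw [pow_succ, ih, LinearMap.prodMap_mul, pow_succ, pow_succ]

theorem prodMap_eq_smul_one_iff {V₁ V₂ : Type*} [AddCommGroup V₁] [Module F V₁] [AddCommGroup V₂]
    [Module F V₂] (g₁ : Module.End F V₁) (g₂ : Module.End F V₂) (s : F) :
    g₁.prodMap g₂ = s • (1 : Module.End F (V₁ × V₂)) ↔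
      g₁ = s • (1 : Module.End F V₁) ∧ g₂ = s • (1 : Module.End F V₂) := by
  constructor
  · intro h
    constructor
    · apply LinearMap.ext
      intro x
      have := congrArg (fun f : Module.End F (V₁ × V₂) => (f (x, 0)).1) h
      simpa using this
    · apply LinearMap.ext
      intro y
      have := congrArg (fun f : Module.End F (V₁ × V₂) => (f (0, y)).2) h
      simpa using this
  · rintro ⟨h1, h2⟩
    rw [h1, h2, LinearMap.prodMap_smul, LinearMap.prodMap_one]

/-- the orthogonal sum of two alternating forms -/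
def prodForm {V₁ V₂ : Type*} [AddCommGroup V₁] [Module F V₁] [AddCommGroup V₂] [Module F V₂]
    (B₁ : LinearMap.BilinForm F V₁) (B₂ : LinearMap.BilinForm F V₂) :
    LinearMap.BilinForm F (V₁ × V₂) :=
  LinearMap.mk₂ F (fun x y => B₁ x.1 y.1 + B₂ x.2 y.2)
    (by intro x x' y; simp only [Prod.fst_add, Prod.snd_add, map_add, LinearMap.add_apply]; abel)
    (by intro c x y; simp only [Prod.smul_fst, Prod.smul_snd, map_smul, LinearMap.smul_apply,
      smul_eq_mul]; ring)
    (by intro x y y'; simp only [Prod.fst_add, Prod.snd_add, map_add]; abel)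
    (by intro c x y; simp only [Prod.smul_fst, Prod.smul_snd, map_smul, smul_eq_mul]; ring)

theorem prodForm_apply {V₁ V₂ : Type*} [AddCommGroup V₁] [Module F V₁] [AddCommGroup V₂]
    [Module F V₂] (B₁ : LinearMap.BilinForm F V₁) (B₂ : LinearMap.BilinForm F V₂)
    (x y : V₁ × V₂) : prodForm B₁ B₂ x y = B₁ x.1 y.1 + B₂ x.2 y.2 := rfl

theorem prodForm_nondeg {V₁ V₂ : Type*} [AddCommGroup V₁] [Module F V₁] [AddCommGroup V₂]
    [Module F V₂] {B₁ : LinearMap.BilinForm F V₁} {B₂ : LinearMap.BilinForm F V₂}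
    (hB₁ : B₁.Nondegenerate) (hB₂ : B₂.Nondegenerate) : (prodForm B₁ B₂).Nondegenerate := by
  refine ⟨?_, ?_⟩
  · intro x hx
    have h1 : x.1 = 0 := by
      apply hB₁.1
      intro y
      have := hx (y, 0)
      rw [prodForm_apply] at this
      simpa using this
    have h2 : x.2 = 0 := by
      apply hB₂.1
      intro y
      have := hx (0, y)
      rw [prodForm_apply] at this
      simpa using this
    exact Prod.ext h1 h2
  · intro y hy
    have h1 : y.1 = 0 := by
      apply hB₁.2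
      intro x
      have := hy (x, 0)
      rw [prodForm_apply] at this
      simpa using this
    have h2 : y.2 = 0 := by
      apply hB₂.2
      intro x
      have := hy (0, x)
      rw [prodForm_apply] at this
      simpa using this
    exact Prod.ext h1 h2

/-- the identity -/
theorem hasSpOrd_one (m : ℕ) : HasSpOrd F m 1 := by
  refine ⟨(Fin m ⊕ Fin m → F), inferInstance, inferInstance, inferInstance, Jform m F, 1,
    Jform_nondeg, Jform_alt, fun x y => rfl, ?_, fun j => ?_⟩
  · rw [Module.finrank_pi, Fintype.card_sum, Fintype.card_fin, two_mul]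
  · rw [one_pow]
    simp

/-- orthogonal sums -/
theorem HasSpOrd.prod {m₁ m₂ a₁ a₂ : ℕ} (h₁ : HasSpOrd F m₁ a₁) (h₂ : HasSpOrd F m₂ a₂) :
    HasSpOrd F (m₁ + m₂) (Nat.lcm a₁ a₂) := by
  obtain ⟨V₁, _, _, _, B₁, g₁, hB₁, halt₁, hiso₁, hfin₁, hord₁⟩ := h₁
  obtain ⟨V₂, _, _, _, B₂, g₂, hB₂, halt₂, hiso₂, hfin₂, hord₂⟩ := h₂
  refine ⟨V₁ × V₂, inferInstance, inferInstance, inferInstance, prodForm B₁ B₂, g₁.prodMap g₂,
    prodForm_nondeg hB₁ hB₂, ?_, ?_, ?_, fun j => ?_⟩
  · intro x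
    rw [prodForm_apply, halt₁, halt₂, add_zero]
  · intro x y
    rw [prodForm_apply, prodForm_apply]
    simp only [LinearMap.prodMap_apply]
    rw [hiso₁, hiso₂]
  · rw [Module.finrank_prod, hfin₁, hfin₂]
    ring
  · rw [prodMap_pow', Nat.lcm_dvd_iff, ← hord₁, ← hord₂]
    have h := prodMap_eq_smul_one_iff (g₁ ^ j) (g₂ ^ j) (1 : F)
    rw [one_smul, one_smul, one_smul] at h
    exact h

/-- padding by an identity block -/
theorem HasSpOrd.pad {m a : ℕ} (h : HasSpOrd F m a) (t : ℕ) : HasSpOrd F (m + t) a := by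
  have := h.prod (hasSpOrd_one (F := F) t)
  rwa [Nat.lcm_one_right] at this

/-- the twisted orthogonal sum: projective order `2 lcm (p ^ κ) a₁` -/
theorem HasSpOrd.twist (p : ℕ) [Fact p.Prime] [CharP F p] (h2 : (2 : F) ≠ 0) {m₁ m₂ κ a₁ : ℕ}
    (h₁ : HasSpOrd F m₁ (p ^ κ)) (h₂ : HasSpOrd F m₂ a₁) (hm₁ : 1 ≤ m₁) (hm₂ : 1 ≤ m₂)
    (hodd : Odd a₁) (hpodd : Odd p) :
    HasSpPOrd F (m₁ + m₂) (2 * Nat.lcm (p ^ κ) a₁) := by
  have hp : p.Prime := Fact.out
  obtain ⟨V₁, _, _, _, B₁, g₁, hB₁, halt₁, hiso₁, hfin₁, hord₁⟩ := h₁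
  obtain ⟨V₂, _, _, _, B₂, g₂, hB₂, halt₂, hiso₂, hfin₂, hord₂⟩ := h₂
  have hnt₁ : Nontrivial V₁ := by
    apply Module.nontrivial_of_finrank_pos (R := F)
    rw [hfin₁]
    omega
  have hnt₂ : Nontrivial V₂ := by
    apply Module.nontrivial_of_finrank_pos (R := F)
    rw [hfin₂]
    omega
  have hone₁ : ∀ s : F, s • (1 : Module.End F V₁) = 1 → s = 1 := by
    intro s hs
    obtain ⟨x, hx⟩ := exists_ne (0 : V₁)
    have h1 := congrArg (fun f : Module.End F V₁ => f x) hs
    simp only [LinearMap.smul_apply, Module.End.one_apply] at h1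
    have h3 : (s - 1) • x = 0 := by rw [sub_smul, one_smul, h1, sub_self]
    rcases smul_eq_zero.1 h3 with h4 | h4
    · exact sub_eq_zero.1 h4
    · exact absurd h4 hx
  have hone₂ : ∀ s : F, s • (1 : Module.End F V₂) = 1 → s = 1 := by
    intro s hs
    obtain ⟨x, hx⟩ := exists_ne (0 : V₂)
    have h1 := congrArg (fun f : Module.End F V₂ => f x) hs
    simp only [LinearMap.smul_apply, Module.End.one_apply] at h1
    have h3 : (s - 1) • x = 0 := by rw [sub_smul, one_smul, h1, sub_self]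
    rcases smul_eq_zero.1 h3 with h4 | h4
    · exact sub_eq_zero.1 h4
    · exact absurd h4 hx
  have hlodd : Odd (Nat.lcm (p ^ κ) a₁) := by
    rw [Nat.odd_iff, ← Nat.two_dvd_ne_zero]
    intro h
    have h1 : 2 ∣ p ^ κ * a₁ := h.trans (Nat.lcm_dvd_mul _ _)
    rcases (Nat.Prime.dvd_mul Nat.prime_two).1 h1 with h3 | h3
    · have := Nat.prime_two.dvd_of_dvd_pow h3
      rw [Nat.odd_iff] at hpodd
      omega
    · rw [Nat.odd_iff] at hodd
      omega
  have hl0 : 0 < Nat.lcm (p ^ κ) a₁ := hlodd.pos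
  refine ⟨V₁ × V₂, inferInstance, inferInstance, inferInstance, prodForm B₁ B₂,
    g₁.prodMap (-g₂), prodForm_nondeg hB₁ hB₂, ?_, ?_, ?_, Nat.mul_pos two_pos hl0, fun j => ?_⟩
  · intro x
    rw [prodForm_apply, halt₁, halt₂, add_zero]
  · intro x y
    rw [prodForm_apply, prodForm_apply]
    simp only [LinearMap.prodMap_apply, LinearMap.neg_apply, map_neg, LinearMap.neg_apply,
      neg_neg]
    rw [hiso₁, hiso₂]
  · rw [Module.finrank_prod, hfin₁, hfin₂]
    ring
  · rw [prodMap_pow']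
    have hneg : (-g₂) ^ j = ((-1 : F) ^ j) • g₂ ^ j := by
      rw [neg_pow]
      rcases Nat.even_or_odd j with hj | hj
      · rw [hj.neg_one_pow, hj.neg_one_pow, one_mul, one_smul]
      · rw [hj.neg_one_pow, hj.neg_one_pow, neg_one_mul, neg_one_smul]
    constructor
    · rintro ⟨s, hs⟩
      rw [prodMap_eq_smul_one_iff] at hs
      obtain ⟨hs1, hs2⟩ := hs
      -- `s = 1`
      have hs1' : s = 1 := by
        have h3 : (s ^ p ^ κ) • (1 : Module.End F V₁) = 1 := by
          have : (s • (1 : Module.End F V₁)) ^ p ^ κ = 1 := by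
            rw [← hs1, ← pow_mul, mul_comm, pow_mul, (hord₁ _).2 dvd_rfl, one_pow]
          rwa [_root_.smul_pow, one_pow] at this
        have h4 := hone₁ _ h3
        have h5 : (s - 1) ^ p ^ κ = 0 := by rw [sub_pow_char_pow, h4, one_pow, sub_self]
        exact sub_eq_zero.1 (pow_eq_zero_iff (pow_ne_zero _ hp.ne_zero) |>.1 h5)
      rw [hs1', one_smul] at hs1 hs2
      have hκj : p ^ κ ∣ j := (hord₁ j).1 hs1
      -- `j` is even
      have h2j : 2 ∣ j := by
        by_contra hnd
        have hjodd : Odd j := Nat.odd_iff.2 (Nat.two_dvd_ne_zero.1 hnd)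
        rw [hneg, hjodd.neg_one_pow, neg_one_smul] at hs2
        -- `g₂ ^ j = -1`, so `1 = (g₂ ^ j) ^ a₁ = -1`
        have h3 : (g₂ ^ j) ^ a₁ = 1 := by
          rw [← pow_mul, mul_comm, pow_mul, (hord₂ _).2 dvd_rfl, one_pow]
        have h4 : g₂ ^ j = -1 := by rw [← hs2, neg_neg]
        rw [h4, hodd.neg_one_pow] at h3
        have h5 : ((-1 : F)) • (1 : Module.End F V₂) = 1 := by rw [neg_one_smul]; exact h3
        have h6 := hone₂ _ h5
        apply h2
        have h7 : (2 : F) = 1 - (-1) := by ring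
        rw [h7, h6, sub_self]
      have ha₁j : a₁ ∣ j := by
        obtain ⟨k, rfl⟩ := h2j
        rw [hneg, (even_two_mul k).neg_one_pow, one_smul] at hs2
        exact (hord₂ _).1 hs2
      have hlj : Nat.lcm (p ^ κ) a₁ ∣ j := Nat.lcm_dvd hκj ha₁j
      exact Nat.Coprime.mul_dvd_of_dvd_of_dvd (Nat.coprime_two_left.2 hlodd) h2j hlj
    · rintro ⟨k, rfl⟩
      refine ⟨1, ?_⟩
      rw [prodMap_eq_smul_one_iff, one_smul, one_smul, hneg]
      constructor
      · exact (hord₁ _).2 ((Nat.dvd_lcm_left _ _).trans ⟨2 * k, by ring⟩)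
      · have hev : Even (2 * Nat.lcm (p ^ κ) a₁ * k) := ⟨Nat.lcm (p ^ κ) a₁ * k, by ring⟩
        rw [hev.neg_one_pow, one_smul]
        exact (hord₂ _).2 ((Nat.dvd_lcm_right _ _).trans ⟨2 * k, by ring⟩)

end sums

section algmodel

variable {F : Type v} [Field F]

/-- algebra models of alternating spaces -/
theorem alg_model_sp (h2 : (2 : F) ≠ 0) (A : Type v) [CommRing A] [Algebra F A]
    [Module.Finite F A] (ι : A →ₐ[F] A) (hιι : ∀ x, ι (ι x) = x) (t : A →ₗ[F] F)
    (ht : ∀ z, t (ι z) = - t z) (hnd : ∀ x : A, x ≠ 0 → ∃ w : A, t (x * w) ≠ 0)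
    (m : ℕ) (hfr : finrank F A = 2 * m) (z : A) (hz : z * ι z = 1) :
    (∀ a : ℕ, (∀ j : ℕ, z ^ j = 1 ↔ a ∣ j) → HasSpOrd F m a) ∧
      (∀ a : ℕ, 0 < a → (∀ j : ℕ, (∃ s : F, z ^ j = algebraMap F A s) ↔ a ∣ j) →
        HasSpPOrd F m a) := by
  let B : LinearMap.BilinForm F A :=
    LinearMap.mk₂ F (fun x y => t (x * ι y))
      (by intro x x' y; rw [add_mul, map_add])
      (by intro c x y; rw [smul_mul_assoc, map_smul])
      (by intro x y y'; rw [map_add, mul_add, map_add])
      (by intro c x y; rw [map_smul, mul_smul_comm, map_smul])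
  have hBapp : ∀ x y, B x y = t (x * ι y) := fun x y => rfl
  have hιinj : ∀ x, ι x = 0 → x = 0 := by
    intro x hx
    rw [← hιι x, hx, map_zero]
  have hBnd : B.Nondegenerate := by
    refine ⟨?_, ?_⟩
    · intro x hx
      by_contra hx0
      obtain ⟨w, hw⟩ := hnd x hx0
      apply hw
      have := hx (ι w)
      rwa [hBapp, hιι] at this
    · intro y hy
      by_contra hy0
      have hy0' : ι y ≠ 0 := fun h => hy0 (hιinj y h)
      obtain ⟨w, hw⟩ := hnd (ι y) hy0'
      apply hw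
      have := hy w
      rwa [hBapp, mul_comm] at this
  have halt : ∀ x, B x x = 0 := by
    intro x
    rw [hBapp]
    have h1 : t (ι (x * ι x)) = t (x * ι x) := by rw [map_mul, hιι, mul_comm]
    rw [ht] at h1
    have h3 : (2 : F) * t (x * ι x) = 0 := by
      rw [two_mul]
      nth_rewrite 1 [← h1]
      rw [neg_add_cancel]
    rcases mul_eq_zero.1 h3 with h4 | h4
    · exact absurd h4 h2
    · exact h4
  have hiso : ∀ x y, B (Algebra.lmul F A z x) (Algebra.lmul F A z y) = B x y := by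
    intro x y
    rw [hBapp, hBapp]
    show t (z * x * ι (z * y)) = _
    rw [map_mul ι]
    have h3 : z * x * (ι z * ι y) = (z * ι z) * (x * ι y) := by ring
    rw [h3, hz, one_mul]
  have hpow : ∀ j : ℕ, (Algebra.lmul F A z) ^ j = Algebra.lmul F A (z ^ j) := fun j =>
    (map_pow _ _ _).symm
  refine ⟨fun a ha => ⟨A, inferInstance, inferInstance, inferInstance, B, Algebra.lmul F A z,
    hBnd, halt, hiso, hfr, fun j => ?_⟩, fun a ha0 ha => ⟨A, inferInstance, inferInstance,
    inferInstance, B, Algebra.lmul F A z, hBnd, halt, hiso, hfr, ha0, fun j => ?_⟩⟩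
  · rw [hpow, ← ha]
    constructor
    · intro h
      apply Algebra.lmul_injective (R := F)
      rw [h, map_one]
    · intro h
      rw [h, map_one]
  · rw [hpow, ← ha]
    constructor
    · rintro ⟨s, hs⟩
      refine ⟨s, Algebra.lmul_injective (R := F) ?_⟩
      rw [hs, AlgHom.commutes, Algebra.algebraMap_eq_smul_one]
    · rintro ⟨s, hs⟩
      refine ⟨s, ?_⟩
      rw [hs, AlgHom.commutes, Algebra.algebraMap_eq_smul_one]

end algmodel

end Cfsg.Agent.Lib.Helper40_SpProj4
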