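import Mathlib
import Cfsg.Agent.Lib.Helper40_UProj
import Cfsg.Agent.Lib.Helper40_UExistMatrix

set_option autoImplicit false

/-!
Algebra models of hermitian spaces: a commutative algebra `A` with a semilinear involution `ι` and
a nondegenerate hermitian trace form gives an embedding of `A` into matrices under which the
elements with `z * ι z = 1` become unitary.
-/

namespace Cfsg.Agent.Lib.Helper40_UProj4

open Polynomial Module Cfsg.Agent.Lib.Helper40_ProjOrd Cfsg.Agent.Lib.Helper40_UProj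
  Cfsg.Agent.Lib.Helper40_UBasic Cfsg.Agent.Lib.Helper94_Herm Cfsg.Agent.Lib.Helper94_HermBridge
  Cfsg.Agent.Lib.Helper40_UMatrix Cfsg.Agent.Lib.Helper40_UExistMatrix

universe v

section model

variable {F : Type v} [Field F] [Fintype F] {q : ℕ} (σ : F →+* F) (hσq : ∀ x, σ x = x ^ q)

include hσq in
theorem alg_model (hF : Fintype.card F = q ^ 2) (hσ : Invol σ) (A : Type v) [CommRing A]
    [Algebra F A] [Module.Finite F A]
    (ι : A →+* A) (hιι : ∀ x, ι (ι x) = x) (hιs : ∀ (c : F) (x : A), ι (c • x) = σ c • ι x)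
    (t : A →ₗ[F] F) (hnd : ∀ x : A, x ≠ 0 → ∃ w : A, t (x * w) + σ (t (ι (x * w))) ≠ 0)
    (d : ℕ) (hd : finrank F A = d) :
    ∃ Ψ : A →ₐ[F] Matrix (Fin d) (Fin d) F, Function.Injective Ψ ∧
      (∀ z : A, z * ι z = 1 → IsUM σ (Ψ z)) ∧
      (∀ z : A, (Ψ z).det = LinearMap.det (Algebra.lmul F A z)) := by
  classical
  set T : A → F := fun w => t w + σ (t (ι w)) with hT
  have hTadd : ∀ w w', T (w + w') = T w + T w' := by
    intro w w'
    simp only [hT, map_add]
    abel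
  have hTsmul : ∀ (c : F) (w : A), T (c • w) = c * T w := by
    intro c w
    simp only [hT, map_smul, hιs, smul_eq_mul, map_mul, hσ.invol]
    ring
  have hTι : ∀ w, T (ι w) = σ (T w) := by
    intro w
    simp only [hT, map_add, hιι, hσ.invol]
    abel
  let B : A →ₗ[F] A →ₛₗ[σ] F :=
    LinearMap.mk₂'ₛₗ (RingHom.id F) σ (fun x y => T (x * ι y))
      (by intro x x' y; rw [add_mul, hTadd])
      (by intro c x y; rw [smul_mul_assoc, hTsmul]; rfl)
      (by intro x y y'; rw [map_add, mul_add, hTadd])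
      (by intro c x y; rw [hιs, mul_smul_comm, hTsmul]; rfl)
  have hBapp : ∀ x y, B x y = T (x * ι y) := fun x y => rfl
  have hUND : UND B := by
    intro x hx
    by_contra hx0
    obtain ⟨w, hw⟩ := hnd x hx0
    apply hw
    have := hx (ι w)
    rwa [hBapp, hιι] at this
  have hherm : ∀ x y, B y x = σ (B x y) := by
    intro x y
    rw [hBapp, hBapp, ← hTι, map_mul, hιι, mul_comm]
  have hfinW : finrank F (Fin d → F) = d := by
    rw [Module.finrank_pi, Fintype.card_fin]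
  have hss : ∀ (W : Type v) [AddCommGroup W] [Module F W],
      (1 : Module.End F W).IsSemisimple := fun W _ _ => Module.End.isSemisimple_id
  obtain ⟨e, _, he⟩ := Helper40_UConj.exists_isometry_conj (σ := σ) hσ.ne_id d B
    (hermB d σ hσq) (1 : Module.End F A) (1 : Module.End F (Fin d → F)) 1 hd
    (uData_one σ B hσ.invol hherm) (uData_one σ _ hσ.invol (hermB_isHerm σ hσq hσ)) hUND
    (und_hermB σ hσq) (hss A) (hss _)
    (by rw [LinearMap.charpoly_one, LinearMap.charpoly_one, hd, hfinW])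
  let Ψ : A →ₐ[F] Matrix (Fin d) (Fin d) F :=
    (LinearMap.toMatrixAlgEquiv' : _ ≃ₐ[F] Matrix (Fin d) (Fin d) F).toAlgHom.comp
      ((e.conjAlgEquiv F).toAlgHom.comp (Algebra.lmul F A))
  have hΨapp : ∀ z : A, Ψ z = LinearMap.toMatrix' (e.conj (Algebra.lmul F A z)) := fun z => rfl
  have hΨmv : ∀ (z : A) (u : Fin d → F), (Ψ z).mulVec u = e (z * e.symm u) := by
    intro z u
    rw [hΨapp, LinearMap.toMatrix'_mulVec]
    rfl
  refine ⟨Ψ, ?_, ?_, ?_⟩
  · intro z z' hzz'
    have h1 : (e.conjAlgEquiv F) (Algebra.lmul F A z) = (e.conjAlgEquiv F) (Algebra.lmul F A z') :=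
      (LinearMap.toMatrixAlgEquiv' : _ ≃ₐ[F] Matrix (Fin d) (Fin d) F).injective hzz'
    exact Algebra.lmul_injective ((e.conjAlgEquiv F).injective h1)
  · intro z hz
    apply isUM_of_isU σ hσq hF
    intro u v
    rw [hΨmv, hΨmv, ← hermB_apply σ hσq, he, hBapp, map_mul]
    have h2 : z * e.symm u * (ι z * ι (e.symm v)) = (z * ι z) * (e.symm u * ι (e.symm v)) := by
      ring
    rw [h2, hz, one_mul, ← hBapp, ← he, LinearEquiv.apply_symm_apply,
      LinearEquiv.apply_symm_apply, hermB_apply]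
  · intro z
    rw [hΨapp, LinearMap.det_toMatrix', LinearEquiv.conj_apply, LinearMap.comp_assoc]
    exact LinearMap.det_conj _ e

end model

section unipotent

variable {F : Type v} [Field F] [Fintype F] {q : ℕ} (σ : F →+* F) (hσq : ∀ x, σ x = x ^ q)

include hσq in
/-- the regular unipotent block of the unitary group -/
theorem exists_unitary_unipotent (hF : Fintype.card F = q ^ 2) (hσ : Invol σ) (p : ℕ)
    [Fact p.Prime] [CharP F p] (c : ℕ) (hc : 1 ≤ c) :
    ∃ J : Matrix (Fin c) (Fin c) F, IsUM σ J ∧ J.det = 1 ∧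
      ∀ j : ℕ, J ^ j = 1 ↔ p ^ Nat.clog p c ∣ j := by
  classical
  have hp : p.Prime := Fact.out
  set g : F[X] := (X - 1) ^ c with hg
  have hX1 : (X - 1 : F[X]) = X - C 1 := by simp
  have hgm : g.Monic := by
    rw [hg, hX1]
    exact (monic_X_sub_C (1 : F)).pow c
  have hX1irr : Irreducible (X - 1 : F[X]) := by rw [hX1]; exact irreducible_X_sub_C 1
  have hX1ne : (X - 1 : F[X]) ≠ 0 := hX1irr.ne_zero
  have hX1nu : ¬ IsUnit (X - 1 : F[X]) := hX1irr.not_isUnit
  have hgdeg : g.natDegree = c := by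
    rw [hg, hX1, natDegree_pow, natDegree_X_sub_C, mul_one]
  have hfinA : Module.Finite F (AdjoinRoot g) := hgm.finite_adjoinRoot
  have hfr : finrank F (AdjoinRoot g) = c := by
    rw [(AdjoinRoot.powerBasis' hgm).finrank, AdjoinRoot.powerBasis'_dim, hgdeg]
  have hnt : Nontrivial (AdjoinRoot g) := by
    apply AdjoinRoot.nontrivial
    rw [degree_eq_natDegree hgm.ne_zero, hgdeg]
    exact_mod_cast (by omega : c ≠ 0)
  have hcharA : CharP (AdjoinRoot g) p :=
    charP_of_injective_algebraMap (algebraMap F (AdjoinRoot g)).injective p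
  set ρ : AdjoinRoot g := AdjoinRoot.root g with hρ
  set ν : AdjoinRoot g := ρ - 1 with hν
  have hνmk : ν = AdjoinRoot.mk g (X - 1) := by
    rw [hν, hρ, map_sub, AdjoinRoot.mk_X, map_one]
  have hνpow : ∀ m : ℕ, ν ^ m = 0 ↔ c ≤ m := by
    intro m
    rw [hνmk, ← map_pow, AdjoinRoot.mk_eq_zero, hg, pow_dvd_pow_iff hX1ne hX1nu]
  -- the inverse of the root
  have hcopX : IsCoprime (X : F[X]) g := by
    have h1 : IsCoprime (X : F[X]) (X - 1) := ⟨1, -1, by ring⟩
    exact h1.pow_right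
  obtain ⟨a, b, hab⟩ := hcopX
  set ρ' : AdjoinRoot g := AdjoinRoot.mk g a with hρ'
  have hρρ' : ρ * ρ' = 1 := by
    have h1 := congrArg (AdjoinRoot.mk g) hab
    rw [map_add, map_mul, map_mul, AdjoinRoot.mk_self, mul_zero, add_zero, AdjoinRoot.mk_X,
      map_one] at h1
    rw [mul_comm]
    exact h1
  -- the involution
  have hev : eval₂ ((AdjoinRoot.of g).comp σ) ρ' g = 0 := by
    show eval₂ ((AdjoinRoot.of g).comp σ) ρ' ((X - 1) ^ c) = 0
    rw [eval₂_pow, eval₂_sub, eval₂_X, eval₂_one]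
    have h1 : ρ' - 1 = -(ρ' * ν) := by
      rw [hν, mul_sub, mul_one, mul_comm, hρρ']
      ring
    rw [h1, neg_pow, mul_pow, (hνpow c).2 le_rfl, mul_zero, mul_zero]
  let ι : AdjoinRoot g →+* AdjoinRoot g := AdjoinRoot.lift ((AdjoinRoot.of g).comp σ) ρ' hev
  have hιρ : ι ρ = ρ' := AdjoinRoot.lift_root hev
  have hιof : ∀ c' : F, ι (AdjoinRoot.of g c') = AdjoinRoot.of g (σ c') := fun c' =>
    AdjoinRoot.lift_of hev
  have hιρ' : ι ρ' = ρ := by
    have h1 : ι ρ * ι ρ' = 1 := by rw [← map_mul, hρρ', map_one]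
    rw [hιρ] at h1
    calc ι ρ' = (ρ * ρ') * ι ρ' := by rw [hρρ', one_mul]
      _ = ρ * (ρ' * ι ρ') := by ring
      _ = ρ := by rw [h1, mul_one]
  have hιι : ∀ x, ι (ι x) = x := by
    intro x
    induction x using AdjoinRoot.induction_on with
    | ih P =>
      induction P using Polynomial.induction_on' with
      | add P Q hP hQ => rw [map_add, map_add, map_add, hP, hQ]
      | monomial n c' =>
        rw [← C_mul_X_pow_eq_monomial, map_mul, map_pow, AdjoinRoot.mk_X, AdjoinRoot.mk_C,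
          map_mul, map_mul, map_pow, map_pow, hιof, hιof, hσ.invol, hιρ, hιρ']
  have hιs : ∀ (c' : F) (x : AdjoinRoot g), ι (c' • x) = σ c' • ι x := by
    intro c' x
    rw [Algebra.smul_def, Algebra.smul_def, map_mul, AdjoinRoot.algebraMap_eq, hιof]
  -- the socle
  set s : AdjoinRoot g := ν ^ (c - 1) with hs
  have hs0 : s ≠ 0 := by
    rw [hs, Ne, hνpow]
    omega
  have hνs : ν * s = 0 := by
    rw [hs, ← pow_succ', (hνpow _).2 (by omega)]
  have hρ's : ρ' * s = s := by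
    have h1 : ρ * s = s := by
      have : ρ = ν + 1 := by rw [hν]; ring
      rw [this, add_mul, hνs, zero_add, one_mul]
    calc ρ' * s = ρ' * (ρ * s) := by rw [h1]
      _ = (ρ * ρ') * s := by ring
      _ = s := by rw [hρρ', one_mul]
  have hιs' : ι s = (-1) ^ (c - 1) * s := by
    have h1 : ι ν = -(ρ' * ν) := by
      rw [hν, map_sub, map_one, hιρ, mul_sub, mul_one, mul_comm ρ' ρ, hρρ']
      ring
    have h2 : ∀ k : ℕ, ρ' ^ k * s = s := by
      intro k
      induction k with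
      | zero => rw [pow_zero, one_mul]
      | succ k ih => rw [pow_succ, mul_assoc, hρ's, ih]
    rw [hs, map_pow, h1, neg_pow, mul_pow, ← hs, h2]
  -- the functional
  obtain ⟨s₀, hs₀⟩ : ∃ s₀ : F, s₀ + σ ((-1) ^ (c - 1) * s₀) ≠ 0 := by
    rcases Nat.even_or_odd (c - 1) with hev' | hodd
    · obtain ⟨θ, hθ⟩ := exists_tr_ne_zero hσ
      exact ⟨θ, by rw [hev'.neg_one_pow, one_mul]; exact hθ⟩
    · obtain ⟨θ, hθ⟩ := hσ.ne_id
      refine ⟨θ, ?_⟩
      rw [hodd.neg_one_pow, neg_one_mul, map_neg, ← sub_eq_add_neg]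
      intro h
      exact hθ (sub_eq_zero.1 h).symm
  obtain ⟨φ, hφ⟩ : ∃ φ : Module.Dual F (AdjoinRoot g), φ s ≠ 0 := by
    by_contra hcon
    apply hs0
    rw [← Module.forall_dual_apply_eq_zero_iff F]
    intro φ
    by_contra h
    exact hcon ⟨φ, h⟩
  set t : AdjoinRoot g →ₗ[F] F := (s₀ / φ s) • φ with ht
  have hts : t s = s₀ := by
    rw [ht, LinearMap.smul_apply, smul_eq_mul, div_mul_cancel₀ _ hφ]
  have hTs : t s + σ (t (ι s)) ≠ 0 := by
    have h1 : ι s = ((-1 : F) ^ (c - 1)) • s := by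
      rw [hιs', Algebra.smul_def, map_pow, map_neg, map_one]
    rw [h1, map_smul, hts, smul_eq_mul]
    exact hs₀
  -- every nonzero element divides the socle
  have hdiv : ∀ x : AdjoinRoot g, x ≠ 0 → ∃ w, x * w = s := by
    intro x hx
    obtain ⟨P, rfl⟩ := AdjoinRoot.mk_surjective x
    have hP0 : P ≠ 0 := by
      rintro rfl
      exact hx (map_zero _)
    obtain ⟨k, P', hP', hPk⟩ := WfDvdMonoid.max_power_factor hP0 hX1irr
    have hk : k < c := by
      by_contra hge
      rw [not_lt] at hge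
      apply hx
      rw [AdjoinRoot.mk_eq_zero, hPk]
      exact (pow_dvd_pow _ hge).mul_right _
    have hcop : IsCoprime P' g := ((hX1irr.coprime_iff_not_dvd).2 hP').symm.pow_right
    obtain ⟨a', b', hab'⟩ := hcop
    refine ⟨AdjoinRoot.mk g ((X - 1) ^ (c - 1 - k) * a'), ?_⟩
    have h1 : AdjoinRoot.mk g (a' * P') = 1 := by
      have h2 := congrArg (AdjoinRoot.mk g) hab'
      rw [map_add, map_mul, map_mul, AdjoinRoot.mk_self, mul_zero, add_zero, map_one] at h2
      exact h2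
    rw [← map_mul, hPk]
    have h3 : (X - 1 : F[X]) ^ k * P' * ((X - 1) ^ (c - 1 - k) * a') =
        (X - 1) ^ (c - 1) * (a' * P') := by
      have : c - 1 = k + (c - 1 - k) := by omega
      nth_rewrite 2 [this]
      rw [pow_add]
      ring
    rw [h3, map_mul, h1, mul_one, map_pow, ← hνmk]
  have hnd : ∀ x : AdjoinRoot g, x ≠ 0 → ∃ w, t (x * w) + σ (t (ι (x * w))) ≠ 0 := by
    intro x hx
    obtain ⟨w, hw⟩ := hdiv x hx
    exact ⟨w, by rw [hw]; exact hTs⟩
  obtain ⟨Ψ, hΨinj, hΨU, -⟩ := alg_model σ hσq hF hσ (AdjoinRoot g) ι hιι hιs t hnd c hfr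
  -- the order of the root
  have hρι : ρ * ι ρ = 1 := by rw [hιρ, hρρ']
  have hpow1 : ∀ k : ℕ, ρ ^ (p ^ k) = 1 ↔ c ≤ p ^ k := by
    intro k
    have h1 : ρ = 1 + ν := by rw [hν]; ring
    rw [h1, add_pow_char_pow, one_pow, add_eq_left, hνpow]
  have hord : orderOf ρ = p ^ Nat.clog p c := by
    have h1 : orderOf ρ ∣ p ^ Nat.clog p c :=
      orderOf_dvd_of_pow_eq_one ((hpow1 _).2 (Nat.le_pow_clog hp.one_lt c))
    obtain ⟨i, hi, hi'⟩ := (Nat.dvd_prime_pow hp).1 h1
    have h2 : ρ ^ (p ^ i) = 1 := by rw [← hi']; exact pow_orderOf_eq_one ρ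
    have h3 : Nat.clog p c ≤ i := (Nat.clog_le_iff_le_pow hp.one_lt).2 ((hpow1 i).1 h2)
    rw [hi', le_antisymm hi h3]
  have hJ : ∀ j : ℕ, (Ψ ρ) ^ j = 1 ↔ p ^ Nat.clog p c ∣ j := by
    intro j
    rw [← hord, orderOf_dvd_iff_pow_eq_one, ← map_pow]
    constructor
    · intro h
      apply hΨinj
      rw [h, map_one]
    · intro h
      rw [h, map_one]
  refine ⟨Ψ ρ, hΨU ρ hρι, ?_, hJ⟩
  have h1 : (Ψ ρ).det ^ (p ^ Nat.clog p c) = 1 := by
    rw [← Matrix.det_pow, (hJ _).2 dvd_rfl, Matrix.det_one]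
  have h2 : ((Ψ ρ).det - 1) ^ (p ^ Nat.clog p c) = 0 := by
    rw [sub_pow_char_pow, h1, one_pow, sub_self]
  exact sub_eq_zero.1 (pow_eq_zero_iff (pow_ne_zero _ hp.ne_zero) |>.1 h2)

end unipotent

end Cfsg.Agent.Lib.Helper40_UProj4
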