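import Mathlib
import Cfsg.Agent.Lib.Helper40_UProj4
import Cfsg.Agent.Lib.Helper40_UProj3

set_option autoImplicit false

/-!
The torus models for the unitary groups: the field with `q ^ (2 δ)` elements inside `GU_δ(q)`
(`δ` odd) and inside `GU_{2 δ}(q)`.
-/

namespace Cfsg.Agent.Lib.Helper40_UProj5

open Polynomial Module Cfsg.Agent.Lib.Helper40_ProjOrd Cfsg.Agent.Lib.Helper40_UProj
  Cfsg.Agent.Lib.Helper40_UBasic Cfsg.Agent.Lib.Helper94_Herm Cfsg.Agent.Lib.Helper94_HermBridge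
  Cfsg.Agent.Lib.Helper40_UMatrix Cfsg.Agent.Lib.Helper40_UExistMatrix
  Cfsg.Agent.Lib.Helper40_UProj4 Cfsg.Agent.Lib.Helper40_ProjOrd2 Cfsg.Agent.Lib.Helper40_UProj3

universe v

section ext

variable {F : Type v} [Field F] [Fintype F]

/-- irreducible polynomials of every positive degree -/
theorem exists_irreducible_natDegree (p : ℕ) [Fact p.Prime] [CharP F p] (δ : ℕ) (hδ : 1 ≤ δ) :
    ∃ g : F[X], g.Monic ∧ Irreducible g ∧ g.natDegree = δ := by
  have : NeZero δ := ⟨by omega⟩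
  obtain ⟨α, hα⟩ := Field.exists_primitive_element F (FiniteField.Extension F p δ)
  have hint : IsIntegral F α := Algebra.IsIntegral.isIntegral α
  refine ⟨minpoly F α, minpoly.monic hint, minpoly.irreducible hint, ?_⟩
  rw [← IntermediateField.adjoin.finrank hint, hα, IntermediateField.finrank_top',
    FiniteField.finrank_extension]

/-- basic facts on the field `F[X]/(g)` -/
theorem adjoinRoot_facts (g : F[X]) (hgm : g.Monic) (hgi : Irreducible g) :
    Module.Finite F (AdjoinRoot g) ∧ Finite (AdjoinRoot g) ∧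
      finrank F (AdjoinRoot g) = g.natDegree ∧
      Nat.card (AdjoinRoot g) = Fintype.card F ^ g.natDegree := by
  have h1 : Module.Finite F (AdjoinRoot g) := hgm.finite_adjoinRoot
  have h2 : Finite (AdjoinRoot g) := Module.finite_of_finite F
  have h3 : finrank F (AdjoinRoot g) = g.natDegree := by
    rw [(AdjoinRoot.powerBasis hgi.ne_zero).finrank, AdjoinRoot.powerBasis_dim]
  refine ⟨h1, h2, h3, ?_⟩
  rw [Module.natCard_eq_pow_finrank (K := F), h3, Nat.card_eq_fintype_card]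

end ext

section frob

variable {F : Type v} [Field F] [Fintype F] {q : ℕ}

/-- `x ↦ x ^ (q ^ k)` as a ring homomorphism of an extension -/
theorem exists_pow_hom (hF : Fintype.card F = q ^ 2) (E : Type*) [Field E] [Algebra F E] (k : ℕ) :
    ∃ φ : E →+* E, ∀ x, φ x = x ^ (q ^ k) := by
  obtain ⟨p, j, hp, hchar, rfl⟩ := Cfsg.Agent.Lib.Helper13_Herm.exists_char_pow hF
  have : Fact p.Prime := ⟨hp⟩
  have : CharP E p := charP_of_injective_algebraMap (algebraMap F E).injective p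
  have : ExpChar E p := ExpChar.prime hp
  refine ⟨iterateFrobenius E p (j * k), fun x => ?_⟩
  rw [iterateFrobenius_def, pow_mul]

theorem pow_q_pow_even (hF : Fintype.card F = q ^ 2) (c : F) (k : ℕ) : c ^ (q ^ (2 * k)) = c := by
  induction k with
  | zero => rw [mul_zero, pow_zero, pow_one]
  | succ k ih =>
    have : q ^ (2 * (k + 1)) = q ^ (2 * k) * q ^ 2 := by ring
    rw [this, pow_mul, ih, ← hF, FiniteField.pow_card]

theorem pow_q_pow_odd (hF : Fintype.card F = q ^ 2) (c : F) {e : ℕ} (he : Odd e) :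
    c ^ (q ^ e) = c ^ q := by
  obtain ⟨k, rfl⟩ := he
  rw [pow_succ, pow_mul, pow_q_pow_even hF]

end frob

section T1

variable {F : Type v} [Field F] [Fintype F] {q : ℕ} (σ : F →+* F) (hσq : ∀ x, σ x = x ^ q)

include hσq in
/-- the cyclic torus of `GU_δ(q)`, `δ` odd: the field with `q ^ (2 δ)` elements embeds into the
matrices, and the elements with `z ^ (q ^ δ + 1) = 1` become unitary -/
theorem model_T1 (hF : Fintype.card F = q ^ 2) (hσ : Invol σ) (g : F[X]) (hgm : g.Monic)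
    (hgi : Irreducible g) (δ : ℕ) (hδ : g.natDegree = δ) (hodd : Odd δ) :
    ∃ Ψ : AdjoinRoot g →ₐ[F] Matrix (Fin δ) (Fin δ) F, Function.Injective Ψ ∧
      (∀ z : AdjoinRoot g, z ^ (q ^ δ + 1) = 1 → IsUM σ (Ψ z)) ∧
      (∀ z : AdjoinRoot g, (Ψ z).det = Algebra.norm F z) := by
  classical
  have : Fact (Irreducible g) := ⟨hgi⟩
  obtain ⟨hfin, hfinite, hfr, hcard⟩ := adjoinRoot_facts g hgm hgi
  have : Fintype (AdjoinRoot g) := Fintype.ofFinite _
  rw [hδ] at hfr hcard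
  obtain ⟨τ, hτ⟩ := exists_pow_hom hF (AdjoinRoot g) δ
  have hττ : ∀ x, τ (τ x) = x := by
    intro x
    rw [hτ, hτ, ← pow_mul, ← pow_add, ← two_mul, pow_mul, ← hF, ← hcard,
      Nat.card_eq_fintype_card, FiniteField.pow_card]
  have hτs : ∀ (c : F) (x : AdjoinRoot g), τ (c • x) = σ c • τ x := by
    intro c x
    rw [Algebra.smul_def, Algebra.smul_def, map_mul]
    congr 1
    rw [hτ, ← map_pow, pow_q_pow_odd hF c hodd, hσq]
  obtain ⟨s₀, hs₀⟩ := exists_tr_ne_zero hσ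
  obtain ⟨φ, hφ⟩ : ∃ φ : Module.Dual F (AdjoinRoot g), φ 1 ≠ 0 := by
    by_contra hcon
    apply one_ne_zero (α := AdjoinRoot g)
    rw [← Module.forall_dual_apply_eq_zero_iff F]
    intro φ
    by_contra h
    exact hcon ⟨φ, h⟩
  set t : AdjoinRoot g →ₗ[F] F := (s₀ / φ 1) • φ with ht
  have ht1 : t 1 = s₀ := by
    rw [ht, LinearMap.smul_apply, smul_eq_mul, div_mul_cancel₀ _ hφ]
  have hnd : ∀ x : AdjoinRoot g, x ≠ 0 → ∃ w, t (x * w) + σ (t (τ (x * w))) ≠ 0 := by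
    intro x hx
    refine ⟨x⁻¹, ?_⟩
    rw [mul_inv_cancel₀ hx, map_one τ, ht1]
    exact hs₀
  obtain ⟨Ψ, hΨinj, hΨU, hΨdet⟩ := alg_model σ hσq hF hσ (AdjoinRoot g) τ hττ hτs t hnd δ hfr
  refine ⟨Ψ, hΨinj, ?_, ?_⟩
  · intro z hz
    apply hΨU
    rw [hτ, ← pow_succ', hz]
  · intro z
    rw [hΨdet, Algebra.norm_apply]

end T1



section T2

variable {F : Type v} [Field F] [Fintype F] {q : ℕ} (σ : F →+* F) (hσq : ∀ x, σ x = x ^ q)

include hσq in
/-- the torus `GL_1(q ^ (2 δ))` of `GU_{2 δ}(q)` -/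
theorem model_T2 (hF : Fintype.card F = q ^ 2) (hσ : Invol σ) (g : F[X]) (hgm : g.Monic)
    (hgi : Irreducible g) (δ : ℕ) (hδ : g.natDegree = δ) (hδ1 : 1 ≤ δ) :
    ∃ (ψ ψ' : AdjoinRoot g →+* AdjoinRoot g)
      (Ψ : (AdjoinRoot g × AdjoinRoot g) →ₐ[F] Matrix (Fin (δ + δ)) (Fin (δ + δ)) F),
      (∀ x, ψ x = x ^ q) ∧ (∀ x, ψ' x = x ^ (q ^ (2 * δ - 1))) ∧
      (∀ x, ψ (ψ' x) = x) ∧ (∀ x, ψ' (ψ x) = x) ∧
      (∀ c : F, ψ (algebraMap F _ c) = algebraMap F _ (σ c)) ∧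
      (∀ c : F, ψ' (algebraMap F _ c) = algebraMap F _ (σ c)) ∧
      Function.Injective Ψ ∧
      (∀ z w : AdjoinRoot g, z * ψ w = 1 → IsUM σ (Ψ (z, w))) ∧
      (∀ z w : AdjoinRoot g, (Ψ (z, w)).det = Algebra.norm F z * Algebra.norm F w) := by
  classical
  have : Fact (Irreducible g) := ⟨hgi⟩
  obtain ⟨hfin, hfinite, hfr, hcard⟩ := adjoinRoot_facts g hgm hgi
  have : Fintype (AdjoinRoot g) := Fintype.ofFinite _
  rw [hδ] at hfr hcard
  obtain ⟨ψ, hψ⟩ := exists_pow_hom hF (AdjoinRoot g) 1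
  obtain ⟨ψ', hψ'⟩ := exists_pow_hom hF (AdjoinRoot g) (2 * δ - 1)
  simp only [pow_one] at hψ
  have hcardpow : ∀ x : AdjoinRoot g, x ^ (q ^ (2 * δ)) = x := by
    intro x
    rw [pow_mul, ← hF, ← hcard, Nat.card_eq_fintype_card, FiniteField.pow_card]
  have hψψ' : ∀ x, ψ (ψ' x) = x := by
    intro x
    rw [hψ, hψ', ← pow_mul, ← pow_succ, Nat.sub_add_cancel (by omega), hcardpow]
  have hψ'ψ : ∀ x, ψ' (ψ x) = x := by
    intro x
    rw [hψ, hψ', ← pow_mul, ← pow_succ', Nat.sub_add_cancel (by omega), hcardpow]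
  have hψc : ∀ c : F, ψ (algebraMap F _ c) = algebraMap F _ (σ c) := by
    intro c
    rw [hψ, ← map_pow, hσq]
  have hψ'c : ∀ c : F, ψ' (algebraMap F _ c) = algebraMap F _ (σ c) := by
    intro c
    rw [hψ', ← map_pow, pow_q_pow_odd hF c ⟨δ - 1, by omega⟩, hσq]
  let ι : (AdjoinRoot g × AdjoinRoot g) →+* (AdjoinRoot g × AdjoinRoot g) :=
    RingHom.prod (ψ.comp (RingHom.snd _ _)) (ψ'.comp (RingHom.fst _ _))
  have hιapp : ∀ x y : AdjoinRoot g, ι (x, y) = (ψ y, ψ' x) := fun x y => rfl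
  have hιι : ∀ x, ι (ι x) = x := by
    rintro ⟨x, y⟩
    rw [hιapp, hιapp, hψψ', hψ'ψ]
  have hιs : ∀ (c : F) (x : AdjoinRoot g × AdjoinRoot g), ι (c • x) = σ c • ι x := by
    rintro c ⟨x, y⟩
    rw [Prod.smul_mk, hιapp, hιapp, Prod.smul_mk, Algebra.smul_def, Algebra.smul_def,
      Algebra.smul_def, Algebra.smul_def, map_mul, map_mul, hψc, hψ'c]
  obtain ⟨φ, hφ⟩ : ∃ φ : Module.Dual F (AdjoinRoot g), φ 1 ≠ 0 := by
    by_contra hcon
    apply one_ne_zero (α := AdjoinRoot g)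
    rw [← Module.forall_dual_apply_eq_zero_iff F]
    intro φ
    by_contra h
    exact hcon ⟨φ, h⟩
  set t : (AdjoinRoot g × AdjoinRoot g) →ₗ[F] F := φ.comp (LinearMap.fst F _ _) with ht
  have htapp : ∀ x y : AdjoinRoot g, t (x, y) = φ x := fun x y => rfl
  have hnd : ∀ x : AdjoinRoot g × AdjoinRoot g, x ≠ 0 →
      ∃ w, t (x * w) + σ (t (ι (x * w))) ≠ 0 := by
    rintro ⟨x, y⟩ hxy
    by_cases hx : x = 0
    · have hy : y ≠ 0 := by
        intro hy
        apply hxy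
        rw [hx, hy]
        rfl
      refine ⟨(0, y⁻¹), ?_⟩
      rw [Prod.mk_mul_mk, mul_zero, mul_inv_cancel₀ hy, hιapp, htapp, htapp, map_one, map_zero,
        zero_add]
      exact (map_ne_zero σ).2 hφ
    · refine ⟨(x⁻¹, 0), ?_⟩
      rw [Prod.mk_mul_mk, mul_zero, mul_inv_cancel₀ hx, hιapp, htapp, htapp, map_zero, map_zero,
        map_zero, add_zero]
      exact hφ
  have hfr2 : finrank F (AdjoinRoot g × AdjoinRoot g) = δ + δ := by
    rw [Module.finrank_prod, hfr]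
  obtain ⟨Ψ, hΨinj, hΨU, hΨdet⟩ := alg_model σ hσq hF hσ (AdjoinRoot g × AdjoinRoot g) ι hιι hιs
    t hnd (δ + δ) hfr2
  refine ⟨ψ, ψ', Ψ, hψ, hψ', hψψ', hψ'ψ, hψc, hψ'c, hΨinj, ?_, ?_⟩
  · intro z w hzw
    apply hΨU
    rw [hιapp, Prod.mk_mul_mk, hzw]
    have h1 : w * ψ' z = 1 := by
      rw [← hψ'ψ w, ← map_mul, mul_comm, hzw, map_one]
    rw [h1]
    rfl
  · intro z w
    rw [hΨdet]
    have h1 : Algebra.lmul F (AdjoinRoot g × AdjoinRoot g) (z, w) =
        LinearMap.prodMap (Algebra.lmul F _ z) (Algebra.lmul F _ w) := by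
      apply LinearMap.ext
      rintro ⟨x, y⟩
      rfl
    rw [h1, LinearMap.det_prodMap, Algebra.norm_apply, Algebra.norm_apply]

end T2

end Cfsg.Agent.Lib.Helper40_UProj5
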