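import Mathlib
import Cfsg.Agent.Lib.Helper40_UProj5
import Cfsg.Agent.Lib.Helper40_ProjOrd3

set_option autoImplicit false

/-!
Torus blocks of the special unitary groups: elements of `SU_δ(q)` (`δ` odd) of any order dividing
`(q ^ δ + 1) / (q + 1)`, and of `SU_{2δ}(q)` of any order dividing `(q ^ (2 δ) - 1) / (q + 1)`.
-/

namespace Cfsg.Agent.Lib.Helper40_UProj6

open Polynomial Module Cfsg.Agent.Lib.Helper40_ProjOrd Cfsg.Agent.Lib.Helper40_UProj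
  Cfsg.Agent.Lib.Helper40_UBasic Cfsg.Agent.Lib.Helper94_Herm Cfsg.Agent.Lib.Helper94_HermBridge
  Cfsg.Agent.Lib.Helper40_UMatrix Cfsg.Agent.Lib.Helper40_UExistMatrix
  Cfsg.Agent.Lib.Helper40_UProj4 Cfsg.Agent.Lib.Helper40_ProjOrd2 Cfsg.Agent.Lib.Helper40_UProj3
  Cfsg.Agent.Lib.Helper40_UProj5 Cfsg.Agent.Lib.Helper40_ProjOrd3

universe v

section arith

theorem bone_dvd_mnum (q δ : ℕ) (hq : 2 ≤ q) (hδ : Odd δ) :
    bone q δ ∣ mnum (q ^ 2) δ := by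
  refine ⟨mnum q δ, ?_⟩
  have h1 : mnum (q ^ 2) δ * (q ^ 2 - 1) = (q ^ 2) ^ δ - 1 := mnum_mul _ _
  have h2 : mnum q δ * (q - 1) = q ^ δ - 1 := mnum_mul _ _
  have h3 : bone q δ * (q + 1) = q ^ δ + 1 := bone_mul q δ hδ
  have h4 : (q ^ 2 - 1) = (q + 1) * (q - 1) := by
    obtain ⟨k, rfl⟩ : ∃ k, q = k + 1 := ⟨q - 1, by omega⟩
    simp only [Nat.add_sub_cancel]
    have : (k + 1) ^ 2 = (k + 1 + 1) * k + 1 := by ring
    omega
  have h5 : (q ^ 2) ^ δ - 1 = (q ^ δ + 1) * (q ^ δ - 1) := by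
    have h6 : 1 ≤ q ^ δ := Nat.one_le_pow _ _ (by omega)
    obtain ⟨k, hk⟩ : ∃ k, q ^ δ = k + 1 := ⟨q ^ δ - 1, by omega⟩
    rw [← pow_mul, mul_comm 2 δ, pow_mul, hk]
    simp only [Nat.add_sub_cancel]
    have : (k + 1) ^ 2 = (k + 1 + 1) * k + 1 := by ring
    omega
  have h7 : 0 < q ^ 2 - 1 := by
    have : 4 ≤ q ^ 2 := by nlinarith
    omega
  apply Nat.eq_of_mul_eq_mul_right h7
  rw [h1, h5, ← h3, ← h2, h4]
  ring

theorem btwo_mul (q δ : ℕ) (hq : 2 ≤ q) : btwo q δ * (q + 1) = (q ^ 2) ^ δ - 1 := by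
  have h1 : mnum (q ^ 2) δ * (q ^ 2 - 1) = (q ^ 2) ^ δ - 1 := mnum_mul _ _
  have h4 : (q ^ 2 - 1) = (q - 1) * (q + 1) := by
    obtain ⟨k, rfl⟩ : ∃ k, q = k + 1 := ⟨q - 1, by omega⟩
    simp only [Nat.add_sub_cancel]
    have : (k + 1) ^ 2 = k * (k + 1 + 1) + 1 := by ring
    omega
  rw [btwo, mul_assoc, ← h4, h1]

end arith

section gen

variable {E : Type*} [Field E] [Finite E]

/-- every subgroup of the unit group of a finite field has a generator, with natural exponents -/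
theorem exists_gen (H : Subgroup Eˣ) : ∃ h₀ : Eˣ, h₀ ∈ H ∧ ∀ u ∈ H, ∃ i : ℕ, u = h₀ ^ i := by
  obtain ⟨h₀, hgen⟩ := IsCyclic.exists_generator (α := H)
  refine ⟨h₀, h₀.2, fun u hu => ?_⟩
  have hpow : (⟨u, hu⟩ : H) ∈ Submonoid.powers h₀ := mem_powers_iff_mem_zpowers.2 (hgen _)
  obtain ⟨i, hi⟩ := hpow
  refine ⟨i, ?_⟩
  have := congrArg (fun v : H => (v : Eˣ)) hi
  simpa using this.symm

/-- elements of every order dividing the order of the unit group -/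
theorem exists_unit_orderOf (a₁ : ℕ) (h : a₁ ∣ Nat.card E - 1) (hE : 2 ≤ Nat.card E) :
    ∃ z : Eˣ, orderOf z = a₁ := by
  obtain ⟨g, hg⟩ := IsCyclic.exists_ofOrder_eq_natCard (α := Eˣ)
  rw [Nat.card_units] at hg
  obtain ⟨k, hk⟩ := h
  have hk0 : k ≠ 0 := by
    rintro rfl
    omega
  refine ⟨g ^ k, ?_⟩
  rw [orderOf_pow_of_dvd hk0 (by rw [hg, hk]; exact Dvd.intro_left _ rfl), hg, hk]
  exact Nat.mul_div_cancel _ (Nat.pos_of_ne_zero hk0)

end gen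



section blocks

variable {F : Type v} [Field F] [Fintype F] {q : ℕ} (σ : F →+* F) (hσq : ∀ x, σ x = x ^ q)

include hσq in
/-- the torus block of odd dimension `δ`: an element of `SU_δ(q)` of any order dividing
`(q ^ δ + 1) / (q + 1)` -/
theorem exists_torus_one (hF : Fintype.card F = q ^ 2) (hσ : Invol σ) (p : ℕ) [Fact p.Prime]
    [CharP F p] (δ : ℕ) (hodd : Odd δ) (a₁ : ℕ) (ha₁ : a₁ ∣ bone q δ) :
    ∃ D : Matrix (Fin δ) (Fin δ) F, IsUM σ D ∧ D.det = 1 ∧ ∀ j : ℕ, D ^ j = 1 ↔ a₁ ∣ j := by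
  classical
  have hq2 := Cfsg.Agent.Lib.Helper13_Herm.two_le_q hF
  have hδ1 : 1 ≤ δ := hodd.pos
  obtain ⟨g, hgm, hgi, hgd⟩ := exists_irreducible_natDegree (F := F) p δ hδ1
  have : Fact (Irreducible g) := ⟨hgi⟩
  obtain ⟨hfin, hfinite, hfr, hcard⟩ := adjoinRoot_facts g hgm hgi
  rw [hgd, hF] at hcard
  obtain ⟨Ψ, hΨinj, hΨU, hΨdet⟩ := model_T1 σ hσq hF hσ g hgm hgi δ hgd hodd
  have hb1 : bone q δ * (q + 1) = q ^ δ + 1 := bone_mul q δ hodd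
  have h1 : a₁ ∣ q ^ δ + 1 := by rw [← hb1]; exact ha₁.mul_right _
  have hqδ : 1 ≤ q ^ δ := Nat.one_le_pow _ _ (by omega)
  have h2 : (q ^ 2) ^ δ - 1 = (q ^ δ + 1) * (q ^ δ - 1) := by
    obtain ⟨k, hk⟩ : ∃ k, q ^ δ = k + 1 := ⟨q ^ δ - 1, by omega⟩
    rw [← pow_mul, mul_comm 2 δ, pow_mul, hk]
    simp only [Nat.add_sub_cancel]
    have : (k + 1) ^ 2 = (k + 1 + 1) * k + 1 := by ring
    omega
  have hE2 : 2 ≤ Nat.card (AdjoinRoot g) := by
    rw [hcard]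
    have : 4 ≤ q ^ 2 := by nlinarith
    calc 2 ≤ q ^ 2 := by omega
      _ = (q ^ 2) ^ 1 := (pow_one _).symm
      _ ≤ (q ^ 2) ^ δ := Nat.pow_le_pow_right (by omega) hδ1
  obtain ⟨z, hz⟩ := exists_unit_orderOf (E := AdjoinRoot g) a₁
    (by rw [hcard, h2]; exact h1.mul_right _) hE2
  have hz1 : (z : AdjoinRoot g) ^ (q ^ δ + 1) = 1 := by
    rw [← Units.val_pow_eq_pow_val, orderOf_dvd_iff_pow_eq_one.1 (by rw [hz]; exact h1),
      Units.val_one]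
  have hnorm : Algebra.norm F (z : AdjoinRoot g) = 1 := by
    apply (algebraMap F (AdjoinRoot g)).injective
    rw [FiniteField.algebraMap_norm_eq_pow, hcard, Nat.card_eq_fintype_card, hF, map_one]
    have h3 : a₁ ∣ ((q ^ 2) ^ δ - 1) / (q ^ 2 - 1) :=
      ha₁.trans (bone_dvd_mnum q δ hq2 hodd)
    rw [← Units.val_pow_eq_pow_val, orderOf_dvd_iff_pow_eq_one.1 (by rw [hz]; exact h3),
      Units.val_one]
  refine ⟨Ψ (z : AdjoinRoot g), hΨU _ hz1, by rw [hΨdet, hnorm], fun j => ?_⟩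
  rw [← map_pow, ← hz, orderOf_dvd_iff_pow_eq_one]
  constructor
  · intro h
    have h4 : (z : AdjoinRoot g) ^ j = 1 := by
      apply hΨinj
      rw [h, map_one]
    apply Units.ext
    rw [Units.val_pow_eq_pow_val, h4, Units.val_one]
  · intro h
    rw [← Units.val_pow_eq_pow_val, h, Units.val_one, map_one]

include hσq in
/-- the torus block of dimension `2 δ`: an element of `SU_{2δ}(q)` of any order dividing
`(q ^ (2 δ) - 1) / (q + 1)` -/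
theorem exists_torus_two (hF : Fintype.card F = q ^ 2) (hσ : Invol σ) (p : ℕ) [Fact p.Prime]
    [CharP F p] (δ : ℕ) (hδ1 : 1 ≤ δ) (a₁ : ℕ) (ha₁ : a₁ ∣ btwo q δ) :
    ∃ D : Matrix (Fin (δ + δ)) (Fin (δ + δ)) F, IsUM σ D ∧ D.det = 1 ∧
      ∀ j : ℕ, D ^ j = 1 ↔ a₁ ∣ j := by
  classical
  have hq2 := Cfsg.Agent.Lib.Helper13_Herm.two_le_q hF
  obtain ⟨g, hgm, hgi, hgd⟩ := exists_irreducible_natDegree (F := F) p δ hδ1
  have : Fact (Irreducible g) := ⟨hgi⟩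
  obtain ⟨hfin, hfinite, hfr, hcard⟩ := adjoinRoot_facts g hgm hgi
  rw [hgd, hF] at hcard
  obtain ⟨ψ, ψ', Ψ, hψ, hψ', hψψ', hψ'ψ, hψc, hψ'c, hΨinj, hΨU, hΨdet⟩ :=
    model_T2 σ hσq hF hσ g hgm hgi δ hgd hδ1
  have hb2 : btwo q δ * (q + 1) = (q ^ 2) ^ δ - 1 := btwo_mul q δ hq2
  have hE2 : 2 ≤ Nat.card (AdjoinRoot g) := by
    rw [hcard]
    have : 4 ≤ q ^ 2 := by nlinarith
    calc 2 ≤ q ^ 2 := by omega
      _ = (q ^ 2) ^ 1 := (pow_one _).symm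
      _ ≤ (q ^ 2) ^ δ := Nat.pow_le_pow_right (by omega) hδ1
  obtain ⟨z, hz⟩ := exists_unit_orderOf (E := AdjoinRoot g) a₁
    (by rw [hcard, ← hb2]; exact ha₁.mul_right _) hE2
  set w : AdjoinRoot g := ψ' ((z : AdjoinRoot g)⁻¹) with hw
  have hz0 : (z : AdjoinRoot g) ≠ 0 := z.ne_zero
  have hzw : (z : AdjoinRoot g) * ψ w = 1 := by rw [hw, hψψ', mul_inv_cancel₀ hz0]
  -- the norm of `z` is fixed by `σ`
  set N := Algebra.norm F (z : AdjoinRoot g) with hN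
  have hN0 : N ≠ 0 := by
    rw [hN, Ne, Algebra.norm_eq_zero_iff]
    exact hz0
  have hNq : N ^ q = N := by
    have h1 : N ^ (q - 1) = 1 := by
      apply (algebraMap F (AdjoinRoot g)).injective
      rw [map_pow, hN, FiniteField.algebraMap_norm_eq_pow, hcard, Nat.card_eq_fintype_card, hF,
        map_one, ← pow_mul]
      have h3 : a₁ ∣ ((q ^ 2) ^ δ - 1) / (q ^ 2 - 1) * (q - 1) := ha₁
      rw [← Units.val_pow_eq_pow_val, orderOf_dvd_iff_pow_eq_one.1 (by rw [hz]; exact h3),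
        Units.val_one]
    have h2 : q = q - 1 + 1 := by omega
    rw [h2, pow_succ, h1, one_mul]
  have hninv : Algebra.norm F ((z : AdjoinRoot g)⁻¹) = N⁻¹ := by
    apply eq_inv_of_mul_eq_one_left
    rw [hN, ← map_mul, inv_mul_cancel₀ hz0, map_one]
  have hnormw : Algebra.norm F w = N⁻¹ := by
    rw [hw, hψ', map_pow, hninv, pow_q_pow_odd hF _ ⟨δ - 1, by omega⟩, inv_pow, hNq]
  refine ⟨Ψ ((z : AdjoinRoot g), w), hΨU _ _ hzw, ?_, fun j => ?_⟩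
  · rw [hΨdet, hnormw, ← hN, mul_inv_cancel₀ hN0]
  · rw [← map_pow, ← hz, orderOf_dvd_iff_pow_eq_one, Prod.pow_mk]
    constructor
    · intro h
      have h4 : ((z : AdjoinRoot g) ^ j, w ^ j) = 1 := by
        apply hΨinj
        rw [h, map_one]
      apply Units.ext
      rw [Units.val_pow_eq_pow_val, Units.val_one]
      exact congrArg Prod.fst h4
    · intro h
      have h5 : (z : AdjoinRoot g) ^ j = 1 := by
        rw [← Units.val_pow_eq_pow_val, h, Units.val_one]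
      have h6 : w ^ j = 1 := by
        rw [hw, ← map_pow, inv_pow, h5, inv_one, map_one]
      rw [h5, h6]
      exact map_one Ψ

end blocks

end Cfsg.Agent.Lib.Helper40_UProj6
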