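import Mathlib
import Cfsg.Agent.Lib.Helper40_SpProj4
import Cfsg.Agent.Lib.Helper40_UProj5
import Cfsg.Agent.Lib.Helper40_UProj6

set_option autoImplicit false

/-!
The algebra models for the symplectic groups: the regular unipotent element and the two tori.
-/

namespace Cfsg.Agent.Lib.Helper40_SpProj5

open Polynomial Module Cfsg.Agent.Lib.Helper40_ProjOrd Cfsg.Agent.Lib.Helper40_SpProj
  Cfsg.Agent.Lib.Helper40_SpProj4 Cfsg.Agent.Lib.Helper40_UProj5 Cfsg.Agent.Lib.Helper40_UProj6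

universe v

section unipotent

variable {F : Type v} [Field F]

/-- the regular unipotent element of `Sp_{2m}` -/
theorem hasSpOrd_unipotent (p : ℕ) [Fact p.Prime] [CharP F p] (h2 : (2 : F) ≠ 0) (m : ℕ)
    (hm : 1 ≤ m) : HasSpOrd F m (p ^ Nat.clog p (2 * m)) := by
  classical
  have hp : p.Prime := Fact.out
  set c : ℕ := 2 * m with hcdef
  have hc : 1 ≤ c := by omega
  set g : F[X] := (X - 1) ^ c with hg
  have hX1 : (X - 1 : F[X]) = X - C 1 := by simp
  have hgm : g.Monic := by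
    rw [hg, hX1]
    exact (monic_X_sub_C (1 : F)).pow c
  have hX1irr : Irreducible (X - 1 : F[X]) := by rw [hX1]; exact irreducible_X_sub_C 1
  have hX1ne : (X - 1 : F[X]) ≠ 0 := hX1irr.ne_zero
  have hX1nu : ¬ IsUnit (X - 1 : F[X]) := hX1irr.not_isUnit
  have hgdeg : g.natDegree = c := by
    rw [hg, hX1, natDegree_pow, natDegree_X_sub_C, mul_one]
  have hfinA : Module.Finite F (AdjoinRoot g) := hgm.finite_adjoinRoot
  have hfr : finrank F (AdjoinRoot g) = c := by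
    rw [(AdjoinRoot.powerBasis' hgm).finrank, AdjoinRoot.powerBasis'_dim, hgdeg]
  have hnt : Nontrivial (AdjoinRoot g) := by
    apply AdjoinRoot.nontrivial
    rw [degree_eq_natDegree hgm.ne_zero, hgdeg]
    exact_mod_cast (by omega : c ≠ 0)
  have hcharA : CharP (AdjoinRoot g) p :=
    charP_of_injective_algebraMap (algebraMap F (AdjoinRoot g)).injective p
  set ρ : AdjoinRoot g := AdjoinRoot.root g with hρ
  set ν : AdjoinRoot g := ρ - 1 with hν
  have hνmk : ν = AdjoinRoot.mk g (X - 1) := by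
    rw [hν, hρ, map_sub, AdjoinRoot.mk_X, map_one]
  have hνpow : ∀ k : ℕ, ν ^ k = 0 ↔ c ≤ k := by
    intro k
    rw [hνmk, ← map_pow, AdjoinRoot.mk_eq_zero, hg, pow_dvd_pow_iff hX1ne hX1nu]
  -- the inverse of the root
  have hcopX : IsCoprime (X : F[X]) g := by
    have h1 : IsCoprime (X : F[X]) (X - 1) := ⟨1, -1, by ring⟩
    exact h1.pow_right
  obtain ⟨a, b, hab⟩ := hcopX
  set ρ' : AdjoinRoot g := AdjoinRoot.mk g a with hρ'
  have hρρ' : ρ * ρ' = 1 := by
    have h1 := congrArg (AdjoinRoot.mk g) hab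
    rw [map_add, map_mul, map_mul, AdjoinRoot.mk_self, mul_zero, add_zero, AdjoinRoot.mk_X,
      map_one] at h1
    rw [mul_comm]
    exact h1
  -- the involution
  have hev : eval₂ (Algebra.ofId F (AdjoinRoot g) : F →+* AdjoinRoot g) ρ' g = 0 := by
    show eval₂ (Algebra.ofId F (AdjoinRoot g) : F →+* AdjoinRoot g) ρ' ((X - 1) ^ c) = 0
    rw [eval₂_pow, eval₂_sub, eval₂_X, eval₂_one]
    have h1 : ρ' - 1 = -(ρ' * ν) := by
      rw [hν, mul_sub, mul_one, mul_comm, hρρ']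
      ring
    rw [h1, neg_pow, mul_pow, (hνpow c).2 le_rfl, mul_zero, mul_zero]
  let ι : AdjoinRoot g →ₐ[F] AdjoinRoot g :=
    AdjoinRoot.liftAlgHom g (Algebra.ofId F (AdjoinRoot g)) ρ' hev
  have hιρ : ι ρ = ρ' := AdjoinRoot.liftAlgHom_root g _ ρ' hev
  have hιρ' : ι ρ' = ρ := by
    have h1 : ι ρ * ι ρ' = 1 := by rw [← map_mul, hρρ', map_one]
    rw [hιρ] at h1
    calc ι ρ' = (ρ * ρ') * ι ρ' := by rw [hρρ', one_mul]
      _ = ρ * (ρ' * ι ρ') := by ring
      _ = ρ := by rw [h1, mul_one]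
  have hιι : ∀ x, ι (ι x) = x := by
    have h1 : ι.comp ι = AlgHom.id F (AdjoinRoot g) := by
      apply AdjoinRoot.algHom_ext
      show ι (ι ρ) = ρ
      rw [hιρ, hιρ']
    intro x
    have := congrArg (fun f : AdjoinRoot g →ₐ[F] AdjoinRoot g => f x) h1
    exact this
  -- the socle
  set s : AdjoinRoot g := ν ^ (c - 1) with hs
  have hs0 : s ≠ 0 := by
    rw [hs, Ne, hνpow]
    omega
  have hνs : ν * s = 0 := by
    rw [hs, ← pow_succ', (hνpow _).2 (by omega)]
  have hρ's : ρ' * s = s := by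
    have h1 : ρ * s = s := by
      have : ρ = ν + 1 := by rw [hν]; ring
      rw [this, add_mul, hνs, zero_add, one_mul]
    calc ρ' * s = ρ' * (ρ * s) := by rw [h1]
      _ = (ρ * ρ') * s := by ring
      _ = s := by rw [hρρ', one_mul]
  have hιs' : ι s = -s := by
    have h1 : ι ν = -(ρ' * ν) := by
      rw [hν, map_sub, map_one, hιρ, mul_sub, mul_one, mul_comm ρ' ρ, hρρ']
      ring
    have h3 : ∀ k : ℕ, ρ' ^ k * s = s := by
      intro k
      induction k with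
      | zero => rw [pow_zero, one_mul]
      | succ k ih => rw [pow_succ, mul_assoc, hρ's, ih]
    have hodd : Odd (c - 1) := ⟨m - 1, by omega⟩
    rw [hs, map_pow, h1, neg_pow, mul_pow, ← hs, h3, hodd.neg_one_pow, neg_one_mul]
  -- the functional
  obtain ⟨φ, hφ⟩ : ∃ φ : Module.Dual F (AdjoinRoot g), φ s ≠ 0 := by
    by_contra hcon
    apply hs0
    rw [← Module.forall_dual_apply_eq_zero_iff F]
    intro φ
    by_contra h
    exact hcon ⟨φ, h⟩
  set t : AdjoinRoot g →ₗ[F] F := φ - φ.comp ι.toLinearMap with ht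
  have htapp : ∀ z, t z = φ z - φ (ι z) := fun z => rfl
  have htι : ∀ z, t (ι z) = - t z := by
    intro z
    rw [htapp, htapp, hιι]
    ring
  have hts : t s ≠ 0 := by
    rw [htapp, hιs', map_neg, sub_neg_eq_add, ← two_mul]
    exact mul_ne_zero h2 hφ
  -- every nonzero element divides the socle
  have hdiv : ∀ x : AdjoinRoot g, x ≠ 0 → ∃ w, x * w = s := by
    intro x hx
    obtain ⟨P, rfl⟩ := AdjoinRoot.mk_surjective x
    have hP0 : P ≠ 0 := by
      rintro rfl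
      exact hx (map_zero _)
    obtain ⟨k, P', hP', hPk⟩ := WfDvdMonoid.max_power_factor hP0 hX1irr
    have hk : k < c := by
      by_contra hge
      rw [not_lt] at hge
      apply hx
      rw [AdjoinRoot.mk_eq_zero, hPk]
      exact (pow_dvd_pow _ hge).mul_right _
    have hcop : IsCoprime P' g := ((hX1irr.coprime_iff_not_dvd).2 hP').symm.pow_right
    obtain ⟨a', b', hab'⟩ := hcop
    refine ⟨AdjoinRoot.mk g ((X - 1) ^ (c - 1 - k) * a'), ?_⟩
    have h1 : AdjoinRoot.mk g (a' * P') = 1 := by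
      have h3 := congrArg (AdjoinRoot.mk g) hab'
      rw [map_add, map_mul, map_mul, AdjoinRoot.mk_self, mul_zero, add_zero, map_one] at h3
      exact h3
    rw [← map_mul, hPk]
    have h3 : (X - 1 : F[X]) ^ k * P' * ((X - 1) ^ (c - 1 - k) * a') =
        (X - 1) ^ (c - 1) * (a' * P') := by
      have : c - 1 = k + (c - 1 - k) := by omega
      nth_rewrite 2 [this]
      rw [pow_add]
      ring
    rw [h3, map_mul, h1, mul_one, map_pow, ← hνmk]
  have hnd : ∀ x : AdjoinRoot g, x ≠ 0 → ∃ w, t (x * w) ≠ 0 := by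
    intro x hx
    obtain ⟨w, hw⟩ := hdiv x hx
    exact ⟨w, by rw [hw]; exact hts⟩
  -- the order of the root
  have hρι : ρ * ι ρ = 1 := by rw [hιρ, hρρ']
  have hpow1 : ∀ k : ℕ, ρ ^ (p ^ k) = 1 ↔ c ≤ p ^ k := by
    intro k
    have h1 : ρ = 1 + ν := by rw [hν]; ring
    rw [h1, add_pow_char_pow, one_pow, add_eq_left, hνpow]
  have hord : orderOf ρ = p ^ Nat.clog p c := by
    have h1 : orderOf ρ ∣ p ^ Nat.clog p c :=
      orderOf_dvd_of_pow_eq_one ((hpow1 _).2 (Nat.le_pow_clog hp.one_lt c))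
    obtain ⟨i, hi, hi'⟩ := (Nat.dvd_prime_pow hp).1 h1
    have h3 : ρ ^ (p ^ i) = 1 := by rw [← hi']; exact pow_orderOf_eq_one ρ
    have h4 : Nat.clog p c ≤ i := (Nat.clog_le_iff_le_pow hp.one_lt).2 ((hpow1 i).1 h3)
    rw [hi', le_antisymm hi h4]
  refine (alg_model_sp h2 (AdjoinRoot g) ι hιι t htι hnd m hfr ρ hρι).1 _ (fun j => ?_)
  rw [← hord, orderOf_dvd_iff_pow_eq_one]

end unipotent

section tori

variable {F : Type v} [Field F] [Fintype F]

/-- the torus of order `q ^ d + 1` in `Sp_{2d}(q)` -/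
theorem torus_add_model (p : ℕ) [Fact p.Prime] [CharP F p] (h2 : (2 : F) ≠ 0) (d : ℕ)
    (hd : 1 ≤ d) :
    ∃ (E : Type v) (_ : Field E) (_ : Algebra F E) (_ : Finite E),
      Nat.card E = Fintype.card F ^ (2 * d) ∧
      ∀ z : E, z ^ (Fintype.card F ^ d + 1) = 1 →
        (∀ a : ℕ, (∀ j : ℕ, z ^ j = 1 ↔ a ∣ j) → HasSpOrd F d a) ∧
        (∀ a : ℕ, 0 < a → (∀ j : ℕ, (∃ s : F, z ^ j = algebraMap F E s) ↔ a ∣ j) →
          HasSpPOrd F d a) := by
  classical
  obtain ⟨g, hgm, hgi, hgd⟩ := exists_irreducible_natDegree (F := F) p (2 * d) (by omega)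
  have : Fact (Irreducible g) := ⟨hgi⟩
  obtain ⟨hfin, hfinite, hfr, hcard⟩ := adjoinRoot_facts g hgm hgi
  rw [hgd] at hfr hcard
  have : Fintype (AdjoinRoot g) := Fintype.ofFinite _
  set q := Fintype.card F with hq
  have hq2 : 2 ≤ q := Fintype.one_lt_card
  let ι : AdjoinRoot g →ₐ[F] AdjoinRoot g := (FiniteField.frobeniusAlgHom F (AdjoinRoot g)) ^ d
  have hιapp : ∀ x, ι x = x ^ (q ^ d) := by
    intro x
    show ((FiniteField.frobeniusAlgHom F (AdjoinRoot g)) ^ d) x = _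
    rw [AlgHom.coe_pow, FiniteField.coe_frobeniusAlgHom, pow_iterate]
  have hcardpow : ∀ x : AdjoinRoot g, x ^ (q ^ (2 * d)) = x := by
    intro x
    rw [← hcard, Nat.card_eq_fintype_card, FiniteField.pow_card]
  have hιι : ∀ x, ι (ι x) = x := by
    intro x
    rw [hιapp, hιapp, ← pow_mul, ← pow_add, ← two_mul, hcardpow]
  -- `ι` is not the identity
  obtain ⟨x₀, hx₀⟩ : ∃ x₀ : AdjoinRoot g, ι x₀ ≠ x₀ := by
    by_contra hcon
    push Not at hcon
    have h1 : ∀ x : AdjoinRoot g, x ^ (q ^ d) = x := fun x => by rw [← hιapp, hcon]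
    -- the polynomial `X ^ (q ^ d) - X` has too many roots
    have hdeg : (X ^ (q ^ d) - X : (AdjoinRoot g)[X]).natDegree = q ^ d :=
      FiniteField.X_pow_card_pow_sub_X_natDegree_eq _ (by omega) (by omega)
    have hne : (X ^ (q ^ d) - X : (AdjoinRoot g)[X]) ≠ 0 :=
      FiniteField.X_pow_card_pow_sub_X_ne_zero _ (by omega) (by omega)
    have h3 : Fintype.card (AdjoinRoot g) ≤ q ^ d := by
      rw [← hdeg]
      have h4 : (Finset.univ : Finset (AdjoinRoot g)) ⊆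
          (X ^ (q ^ d) - X : (AdjoinRoot g)[X]).roots.toFinset := by
        intro x _
        rw [Multiset.mem_toFinset, mem_roots hne, IsRoot, eval_sub, eval_pow, eval_X, h1,
          sub_self]
      calc Fintype.card (AdjoinRoot g) = (Finset.univ : Finset (AdjoinRoot g)).card := rfl
        _ ≤ (X ^ (q ^ d) - X : (AdjoinRoot g)[X]).roots.toFinset.card := Finset.card_le_card h4
        _ ≤ Multiset.card (X ^ (q ^ d) - X : (AdjoinRoot g)[X]).roots :=
          Multiset.toFinset_card_le _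
        _ ≤ _ := card_roots' _
    rw [← Nat.card_eq_fintype_card, hcard, two_mul, pow_add] at h3
    have h5 : 2 ≤ q ^ d := by
      calc 2 ≤ q := hq2
        _ = q ^ 1 := (pow_one q).symm
        _ ≤ q ^ d := Nat.pow_le_pow_right (by omega) hd
    nlinarith
  -- the functional
  have hy0 : x₀ - ι x₀ ≠ 0 := fun h => hx₀ (sub_eq_zero.1 h).symm
  obtain ⟨φ, hφ⟩ : ∃ φ : Module.Dual F (AdjoinRoot g), φ (x₀ - ι x₀) ≠ 0 := by
    by_contra hcon
    apply hy0
    rw [← Module.forall_dual_apply_eq_zero_iff F]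
    intro φ
    by_contra h
    exact hcon ⟨φ, h⟩
  set t : AdjoinRoot g →ₗ[F] F := φ - φ.comp ι.toLinearMap with ht
  have htapp : ∀ z, t z = φ z - φ (ι z) := fun z => rfl
  have htι : ∀ z, t (ι z) = - t z := by
    intro z
    rw [htapp, htapp, hιι]
    ring
  have htx₀ : t x₀ ≠ 0 := by
    rw [htapp, ← map_sub]
    exact hφ
  have hnd : ∀ x : AdjoinRoot g, x ≠ 0 → ∃ w, t (x * w) ≠ 0 := by
    intro x hx
    exact ⟨x⁻¹ * x₀, by rw [← mul_assoc, mul_inv_cancel₀ hx, one_mul]; exact htx₀⟩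
  refine ⟨AdjoinRoot g, inferInstance, inferInstance, hfinite, hcard, fun z hz => ?_⟩
  exact alg_model_sp h2 (AdjoinRoot g) ι hιι t htι hnd d hfr z (by rw [hιapp, ← pow_succ', hz])

/-- the torus of order `q ^ d - 1` in `Sp_{2d}(q)` -/
theorem torus_sub_model (p : ℕ) [Fact p.Prime] [CharP F p] (h2 : (2 : F) ≠ 0) (d : ℕ)
    (hd : 1 ≤ d) :
    ∃ (K : Type v) (_ : Field K) (_ : Algebra F K) (_ : Finite K),
      Nat.card K = Fintype.card F ^ d ∧
      ∀ w : K, w ≠ 0 →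
        (∀ a : ℕ, (∀ j : ℕ, w ^ j = 1 ↔ a ∣ j) → HasSpOrd F d a) ∧
        (∀ a : ℕ, 0 < a → (∀ j : ℕ, (∃ s : F, w ^ j = algebraMap F K s ∧
          (w⁻¹) ^ j = algebraMap F K s) ↔ a ∣ j) → HasSpPOrd F d a) := by
  classical
  obtain ⟨g, hgm, hgi, hgd⟩ := exists_irreducible_natDegree (F := F) p d hd
  have : Fact (Irreducible g) := ⟨hgi⟩
  obtain ⟨hfin, hfinite, hfr, hcard⟩ := adjoinRoot_facts g hgm hgi
  rw [hgd] at hfr hcard
  let ι : (AdjoinRoot g × AdjoinRoot g) →ₐ[F] (AdjoinRoot g × AdjoinRoot g) :=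
    AlgHom.prod (AlgHom.snd F _ _) (AlgHom.fst F _ _)
  have hιapp : ∀ x : AdjoinRoot g × AdjoinRoot g, ι x = (x.2, x.1) := fun x => rfl
  have hιι : ∀ x, ι (ι x) = x := fun x => rfl
  obtain ⟨φ, hφ⟩ : ∃ φ : Module.Dual F (AdjoinRoot g), φ 1 ≠ 0 := by
    by_contra hcon
    apply one_ne_zero (α := AdjoinRoot g)
    rw [← Module.forall_dual_apply_eq_zero_iff F]
    intro φ
    by_contra h
    exact hcon ⟨φ, h⟩
  set t : (AdjoinRoot g × AdjoinRoot g) →ₗ[F] F :=
    φ.comp (LinearMap.fst F _ _) - φ.comp (LinearMap.snd F _ _) with ht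
  have htapp : ∀ z : AdjoinRoot g × AdjoinRoot g, t z = φ z.1 - φ z.2 := fun z => rfl
  have htι : ∀ z, t (ι z) = - t z := by
    intro z
    rw [htapp, htapp, hιapp]
    ring
  have hnd : ∀ x : AdjoinRoot g × AdjoinRoot g, x ≠ 0 → ∃ w, t (x * w) ≠ 0 := by
    intro x hx
    by_cases h1 : x.1 = 0
    · have h3 : x.2 ≠ 0 := fun h => hx (Prod.ext h1 h)
      refine ⟨(0, x.2⁻¹), ?_⟩
      rw [htapp]
      simp only [Prod.fst_mul, Prod.snd_mul, mul_zero, map_zero, zero_sub, mul_inv_cancel₀ h3]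
      exact neg_ne_zero.2 hφ
    · refine ⟨(x.1⁻¹, 0), ?_⟩
      rw [htapp]
      simp only [Prod.fst_mul, Prod.snd_mul, mul_zero, map_zero, sub_zero, mul_inv_cancel₀ h1]
      exact hφ
  have hfr2 : finrank F (AdjoinRoot g × AdjoinRoot g) = 2 * d := by
    rw [Module.finrank_prod, hfr, two_mul]
  refine ⟨AdjoinRoot g, inferInstance, inferInstance, hfinite, hcard, fun w hw => ?_⟩
  have hz : ((w, w⁻¹) : AdjoinRoot g × AdjoinRoot g) * ι (w, w⁻¹) = 1 := by
    rw [hιapp]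
    exact Prod.ext (mul_inv_cancel₀ hw) (inv_mul_cancel₀ hw)
  obtain ⟨hm1, hm2⟩ := alg_model_sp h2 (AdjoinRoot g × AdjoinRoot g) ι hιι t htι hnd d hfr2
    (w, w⁻¹) hz
  have hpow : ∀ j : ℕ, ((w, w⁻¹) : AdjoinRoot g × AdjoinRoot g) ^ j = (w ^ j, (w⁻¹) ^ j) :=
    fun j => rfl
  refine ⟨fun a ha => hm1 a (fun j => ?_), fun a ha0 ha => hm2 a ha0 (fun j => ?_)⟩
  · rw [hpow, ← ha, Prod.mk_eq_one]
    constructor
    · exact fun h => h.1
    · intro h
      exact ⟨h, by rw [inv_pow, h, inv_one]⟩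
  · rw [hpow, ← ha]
    constructor
    · rintro ⟨s, hs⟩
      have h1 := congrArg Prod.fst hs
      have h3 := congrArg Prod.snd hs
      exact ⟨s, h1, h3⟩
    · rintro ⟨s, hs1, hs2⟩
      exact ⟨s, Prod.ext hs1 hs2⟩

end tori

end Cfsg.Agent.Lib.Helper40_SpProj5
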