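import Mathlib
import Cfsg.Agent.Lib.Helper40_SpProj5

set_option autoImplicit false

/-!
Torus elements of prescribed order in `Sp_{2d}(q)` and the projective orders `(q ^ n ± 1) / 2`.
-/

namespace Cfsg.Agent.Lib.Helper40_SpProj6

open Polynomial Module Cfsg.Agent.Lib.Helper40_ProjOrd Cfsg.Agent.Lib.Helper40_SpProj
  Cfsg.Agent.Lib.Helper40_SpProj4 Cfsg.Agent.Lib.Helper40_SpProj5 Cfsg.Agent.Lib.Helper40_UProj6

universe v

section elements

variable {F : Type v} [Field F] [Fintype F]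

theorem two_le_card_pow (d : ℕ) (hd : 1 ≤ d) : 2 ≤ Fintype.card F ^ d := by
  have hq2 : 2 ≤ Fintype.card F := Fintype.one_lt_card
  calc 2 ≤ Fintype.card F := hq2
    _ = Fintype.card F ^ 1 := (pow_one _).symm
    _ ≤ Fintype.card F ^ d := Nat.pow_le_pow_right (by omega) hd

/-- elements of the torus of order `q ^ d + 1` -/
theorem hasSpOrd_torus_add (p : ℕ) [Fact p.Prime] [CharP F p] (h2 : (2 : F) ≠ 0) (d : ℕ)
    (hd : 1 ≤ d) (a₁ : ℕ) (ha₁ : a₁ ∣ Fintype.card F ^ d + 1) : HasSpOrd F d a₁ := by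
  obtain ⟨E, _, _, _, hcard, hE⟩ := torus_add_model (F := F) p h2 d hd
  set q := Fintype.card F with hq
  have hqd : 2 ≤ q ^ d := two_le_card_pow (F := F) d hd
  have hdvd : a₁ ∣ Nat.card E - 1 := by
    rw [hcard, two_mul, pow_add]
    have h1 : q ^ d * q ^ d - 1 = (q ^ d + 1) * (q ^ d - 1) := by
      zify [(by nlinarith : 1 ≤ q ^ d * q ^ d), (by omega : 1 ≤ q ^ d)]
      ring
    rw [h1]
    exact ha₁.mul_right _
  have hE2 : 2 ≤ Nat.card E := by
    rw [hcard, two_mul, pow_add]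
    nlinarith
  obtain ⟨z, hz⟩ := exists_unit_orderOf (E := E) a₁ hdvd hE2
  have hzpow : ((z : E)) ^ (q ^ d + 1) = 1 := by
    rw [← Units.val_pow_eq_pow_val, Units.val_eq_one, ← orderOf_dvd_iff_pow_eq_one, hz]
    exact ha₁
  refine (hE (z : E) hzpow).1 a₁ (fun j => ?_)
  rw [← Units.val_pow_eq_pow_val, Units.val_eq_one, ← orderOf_dvd_iff_pow_eq_one, hz]

/-- elements of the torus of order `q ^ d - 1` -/
theorem hasSpOrd_torus_sub (p : ℕ) [Fact p.Prime] [CharP F p] (h2 : (2 : F) ≠ 0) (d : ℕ)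
    (hd : 1 ≤ d) (a₁ : ℕ) (ha₁ : a₁ ∣ Fintype.card F ^ d - 1) : HasSpOrd F d a₁ := by
  obtain ⟨K, _, _, _, hcard, hK⟩ := torus_sub_model (F := F) p h2 d hd
  have hqd : 2 ≤ Fintype.card F ^ d := two_le_card_pow (F := F) d hd
  have hdvd : a₁ ∣ Nat.card K - 1 := by rw [hcard]; exact ha₁
  have hK2 : 2 ≤ Nat.card K := by rw [hcard]; exact hqd
  obtain ⟨z, hz⟩ := exists_unit_orderOf (E := K) a₁ hdvd hK2
  refine (hK (z : K) z.ne_zero).1 a₁ (fun j => ?_)
  rw [← Units.val_pow_eq_pow_val, Units.val_eq_one, ← orderOf_dvd_iff_pow_eq_one, hz]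

/-- the projective order `(q ^ n + 1) / 2` -/
theorem hasSpPOrd_T_add (p : ℕ) [Fact p.Prime] [CharP F p] (h2 : (2 : F) ≠ 0) (n : ℕ)
    (hn : 1 ≤ n) (T : ℕ) (hT : 2 * T = Fintype.card F ^ n + 1) : HasSpPOrd F n T := by
  obtain ⟨E, _, _, _, hcard, hE⟩ := torus_add_model (F := F) p h2 n hn
  set q := Fintype.card F with hq
  have hqd : 2 ≤ q ^ n := two_le_card_pow (F := F) n hn
  have hdvd : q ^ n + 1 ∣ Nat.card E - 1 := by
    rw [hcard, two_mul, pow_add]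
    have h1 : q ^ n * q ^ n - 1 = (q ^ n + 1) * (q ^ n - 1) := by
      zify [(by nlinarith : 1 ≤ q ^ n * q ^ n), (by omega : 1 ≤ q ^ n)]
      ring
    rw [h1]
    exact dvd_mul_right _ _
  have hE2 : 2 ≤ Nat.card E := by
    rw [hcard, two_mul, pow_add]
    nlinarith
  obtain ⟨z, hz⟩ := exists_unit_orderOf (E := E) (q ^ n + 1) hdvd hE2
  have hzpow : ((z : E)) ^ (q ^ n + 1) = 1 := by
    rw [← Units.val_pow_eq_pow_val, Units.val_eq_one, ← orderOf_dvd_iff_pow_eq_one, hz]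
  have hT0 : 0 < T := by omega
  refine (hE (z : E) hzpow).2 T hT0 (fun j => ?_)
  have hone : ∀ i : ℕ, (z : E) ^ i = 1 ↔ 2 * T ∣ i := by
    intro i
    rw [← Units.val_pow_eq_pow_val, Units.val_eq_one, ← orderOf_dvd_iff_pow_eq_one, hz, hT]
  constructor
  · rintro ⟨s, hs⟩
    have hsq : s ^ q ^ n = s := FiniteField.pow_card_pow n s
    have h1 : ((z : E) ^ j) ^ (q ^ n + 1) = 1 := by
      rw [← pow_mul, mul_comm, pow_mul, hzpow, one_pow]
    rw [hs, ← map_pow, pow_succ, hsq] at h1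
    have h3 : (z : E) ^ (2 * j) = 1 := by
      rw [mul_comm, pow_mul, hs, pow_two, ← map_mul, h1]
    have h4 := (hone _).1 h3
    exact Nat.dvd_of_mul_dvd_mul_left two_pos h4
  · rintro ⟨k, rfl⟩
    have h1 : ((z : E) ^ T) * ((z : E) ^ T) = 1 := by
      rw [← pow_add, ← two_mul]
      exact (hone _).2 dvd_rfl
    rcases mul_self_eq_one_iff.1 h1 with h3 | h3
    · exact ⟨1, by rw [pow_mul, h3, one_pow, map_one]⟩
    · exact ⟨(-1) ^ k, by rw [pow_mul, h3, map_pow, map_neg, map_one]⟩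

/-- the projective order `(q ^ n - 1) / 2` -/
theorem hasSpPOrd_T_sub (p : ℕ) [Fact p.Prime] [CharP F p] (h2 : (2 : F) ≠ 0) (n : ℕ)
    (hn : 1 ≤ n) (T : ℕ) (hT0 : 0 < T) (hT : 2 * T = Fintype.card F ^ n - 1) :
    HasSpPOrd F n T := by
  obtain ⟨K, _, _, _, hcard, hK⟩ := torus_sub_model (F := F) p h2 n hn
  set q := Fintype.card F with hq
  have hqd : 2 ≤ q ^ n := two_le_card_pow (F := F) n hn
  have hK2 : 2 ≤ Nat.card K := by rw [hcard]; exact hqd
  obtain ⟨z, hz⟩ := exists_unit_orderOf (E := K) (q ^ n - 1) (by rw [hcard]) hK2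
  refine (hK (z : K) z.ne_zero).2 T hT0 (fun j => ?_)
  have hone : ∀ i : ℕ, (z : K) ^ i = 1 ↔ 2 * T ∣ i := by
    intro i
    rw [← Units.val_pow_eq_pow_val, Units.val_eq_one, ← orderOf_dvd_iff_pow_eq_one, hz, hT]
  constructor
  · rintro ⟨s, hs1, hs2⟩
    have h1 : (z : K) ^ j * ((z : K)⁻¹) ^ j = 1 := by
      rw [← mul_pow, mul_inv_cancel₀ z.ne_zero, one_pow]
    have h3 : (z : K) ^ (2 * j) = 1 := by
      rw [mul_comm, pow_mul, pow_two]
      nth_rewrite 2 [hs1]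
      rw [← hs2]
      exact h1
    have h4 := (hone _).1 h3
    exact Nat.dvd_of_mul_dvd_mul_left two_pos h4
  · rintro ⟨k, rfl⟩
    have h1 : ((z : K) ^ T) * ((z : K) ^ T) = 1 := by
      rw [← pow_add, ← two_mul]
      exact (hone _).2 dvd_rfl
    rcases mul_self_eq_one_iff.1 h1 with h3 | h3
    · refine ⟨1, by rw [pow_mul, h3, one_pow, map_one], ?_⟩
      rw [inv_pow, pow_mul, h3, one_pow, inv_one, map_one]
    · refine ⟨(-1) ^ k, by rw [pow_mul, h3, map_pow, map_neg, map_one], ?_⟩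
      rw [inv_pow, pow_mul, h3, map_pow, map_neg, map_one, ← inv_pow, inv_neg, inv_one]

end elements

end Cfsg.Agent.Lib.Helper40_SpProj6
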