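import Mathlib
import Cfsg.Agent.Lib.Helper40_SpProj6

set_option autoImplicit false

/-!
Characteristic-free versions of the algebra models of helper40 (`Helper40_SpProj4/5/6`) for the
symplectic tori, a transfer from symplectic matrices to abstract alternating spaces, and the
passage from honest orders to projective orders.  Core of the packages S3466-T1La/b/c.
-/

namespace Cfsg.Agent.Lib.Helper82_S3466_T1LCore

open Polynomial Module Cfsg.Agent.Lib.Helper40_ProjOrd Cfsg.Agent.Lib.Helper40_SpProj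
  Cfsg.Agent.Lib.Helper40_SpProj4 Cfsg.Agent.Lib.Helper40_SpProj5 Cfsg.Agent.Lib.Helper40_UProj5
  Cfsg.Agent.Lib.Helper40_UProj6 Cfsg.Agent.Lib.Helper40_SpMatrix

universe v

section algmodel

variable {F : Type v} [Field F]

/-- algebra models of alternating spaces, all characteristics: the functional vanishes on the
fixed points of the involution -/
theorem alg_model_sp' (A : Type v) [CommRing A] [Algebra F A]
    [Module.Finite F A] (ι : A →ₐ[F] A) (hιι : ∀ x, ι (ι x) = x) (t : A →ₗ[F] F)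
    (hfix : ∀ z, ι z = z → t z = 0) (hnd : ∀ x : A, x ≠ 0 → ∃ w : A, t (x * w) ≠ 0)
    (m : ℕ) (hfr : finrank F A = 2 * m) (z : A) (hz : z * ι z = 1) :
    (∀ a : ℕ, (∀ j : ℕ, z ^ j = 1 ↔ a ∣ j) → HasSpOrd F m a) := by
  let B : LinearMap.BilinForm F A :=
    LinearMap.mk₂ F (fun x y => t (x * ι y))
      (by intro x x' y; rw [add_mul, map_add])
      (by intro c x y; rw [smul_mul_assoc, map_smul])
      (by intro x y y'; rw [map_add, mul_add, map_add])
      (by intro c x y; rw [map_smul, mul_smul_comm, map_smul])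
  have hBapp : ∀ x y, B x y = t (x * ι y) := fun x y => rfl
  have hιinj : ∀ x, ι x = 0 → x = 0 := by
    intro x hx
    rw [← hιι x, hx, map_zero]
  have hBnd : B.Nondegenerate := by
    refine ⟨?_, ?_⟩
    · intro x hx
      by_contra hx0
      obtain ⟨w, hw⟩ := hnd x hx0
      apply hw
      have := hx (ι w)
      rwa [hBapp, hιι] at this
    · intro y hy
      by_contra hy0
      have hy0' : ι y ≠ 0 := fun h => hy0 (hιinj y h)
      obtain ⟨w, hw⟩ := hnd (ι y) hy0'
      apply hw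
      have := hy w
      rwa [hBapp, mul_comm] at this
  have halt : ∀ x, B x x = 0 := by
    intro x
    rw [hBapp]
    apply hfix
    rw [map_mul, hιι, mul_comm]
  have hiso : ∀ x y, B (Algebra.lmul F A z x) (Algebra.lmul F A z y) = B x y := by
    intro x y
    rw [hBapp, hBapp]
    show t (z * x * ι (z * y)) = _
    rw [map_mul ι]
    have h3 : z * x * (ι z * ι y) = (z * ι z) * (x * ι y) := by ring
    rw [h3, hz, one_mul]
  have hpow : ∀ j : ℕ, (Algebra.lmul F A z) ^ j = Algebra.lmul F A (z ^ j) := fun j =>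
    (map_pow _ _ _).symm
  refine fun a ha => ⟨A, inferInstance, inferInstance, inferInstance, B, Algebra.lmul F A z,
    hBnd, halt, hiso, hfr, fun j => ?_⟩
  rw [hpow, ← ha]
  constructor
  · intro h
    apply Algebra.lmul_injective (R := F)
    rw [h, map_one]
  · intro h
    rw [h, map_one]

end algmodel

section tori

variable {F : Type v} [Field F] [Fintype F]

/-- the torus of order `q ^ d + 1` in `Sp_{2d}(q)`, all characteristics -/
theorem torus_add_model' (p : ℕ) [Fact p.Prime] [CharP F p] (d : ℕ) (hd : 1 ≤ d) :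
    ∃ (E : Type v) (_ : Field E) (_ : Algebra F E) (_ : Finite E),
      Nat.card E = Fintype.card F ^ (2 * d) ∧
      ∀ z : E, z ^ (Fintype.card F ^ d + 1) = 1 →
        (∀ a : ℕ, (∀ j : ℕ, z ^ j = 1 ↔ a ∣ j) → HasSpOrd F d a) := by
  classical
  obtain ⟨g, hgm, hgi, hgd⟩ := exists_irreducible_natDegree (F := F) p (2 * d) (by omega)
  have : Fact (Irreducible g) := ⟨hgi⟩
  obtain ⟨hfin, hfinite, hfr, hcard⟩ := adjoinRoot_facts g hgm hgi
  rw [hgd] at hfr hcard
  have : Fintype (AdjoinRoot g) := Fintype.ofFinite _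
  set q := Fintype.card F with hq
  have hq2 : 2 ≤ q := Fintype.one_lt_card
  let ι : AdjoinRoot g →ₐ[F] AdjoinRoot g := (FiniteField.frobeniusAlgHom F (AdjoinRoot g)) ^ d
  have hιapp : ∀ x, ι x = x ^ (q ^ d) := by
    intro x
    show ((FiniteField.frobeniusAlgHom F (AdjoinRoot g)) ^ d) x = _
    rw [AlgHom.coe_pow, FiniteField.coe_frobeniusAlgHom, pow_iterate]
  have hcardpow : ∀ x : AdjoinRoot g, x ^ (q ^ (2 * d)) = x := by
    intro x
    rw [← hcard, Nat.card_eq_fintype_card, FiniteField.pow_card]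
  have hιι : ∀ x, ι (ι x) = x := by
    intro x
    rw [hιapp, hιapp, ← pow_mul, ← pow_add, ← two_mul, hcardpow]
  -- `ι` is not the identity
  obtain ⟨x₀, hx₀⟩ : ∃ x₀ : AdjoinRoot g, ι x₀ ≠ x₀ := by
    by_contra hcon
    push Not at hcon
    have h1 : ∀ x : AdjoinRoot g, x ^ (q ^ d) = x := fun x => by rw [← hιapp, hcon]
    have hdeg : (X ^ (q ^ d) - X : (AdjoinRoot g)[X]).natDegree = q ^ d :=
      FiniteField.X_pow_card_pow_sub_X_natDegree_eq _ (by omega) (by omega)
    have hne : (X ^ (q ^ d) - X : (AdjoinRoot g)[X]) ≠ 0 :=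
      FiniteField.X_pow_card_pow_sub_X_ne_zero _ (by omega) (by omega)
    have h3 : Fintype.card (AdjoinRoot g) ≤ q ^ d := by
      rw [← hdeg]
      have h4 : (Finset.univ : Finset (AdjoinRoot g)) ⊆
          (X ^ (q ^ d) - X : (AdjoinRoot g)[X]).roots.toFinset := by
        intro x _
        rw [Multiset.mem_toFinset, mem_roots hne, IsRoot, eval_sub, eval_pow, eval_X, h1,
          sub_self]
      calc Fintype.card (AdjoinRoot g) = (Finset.univ : Finset (AdjoinRoot g)).card := rfl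
        _ ≤ (X ^ (q ^ d) - X : (AdjoinRoot g)[X]).roots.toFinset.card := Finset.card_le_card h4
        _ ≤ Multiset.card (X ^ (q ^ d) - X : (AdjoinRoot g)[X]).roots :=
          Multiset.toFinset_card_le _
        _ ≤ _ := card_roots' _
    rw [← Nat.card_eq_fintype_card, hcard, two_mul, pow_add] at h3
    have h5 : 2 ≤ q ^ d := by
      calc 2 ≤ q := hq2
        _ = q ^ 1 := (pow_one q).symm
        _ ≤ q ^ d := Nat.pow_le_pow_right (by omega) hd
    nlinarith
  -- the functional
  have hy0 : x₀ - ι x₀ ≠ 0 := fun h => hx₀ (sub_eq_zero.1 h).symm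
  obtain ⟨φ, hφ⟩ : ∃ φ : Module.Dual F (AdjoinRoot g), φ (x₀ - ι x₀) ≠ 0 := by
    by_contra hcon
    apply hy0
    rw [← Module.forall_dual_apply_eq_zero_iff F]
    intro φ
    by_contra h
    exact hcon ⟨φ, h⟩
  set t : AdjoinRoot g →ₗ[F] F := φ - φ.comp ι.toLinearMap with ht
  have htapp : ∀ z, t z = φ z - φ (ι z) := fun z => rfl
  have hfix : ∀ z, ι z = z → t z = 0 := by
    intro z hz
    rw [htapp, hz, sub_self]
  have htx₀ : t x₀ ≠ 0 := by
    rw [htapp, ← map_sub]
    exact hφ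
  have hnd : ∀ x : AdjoinRoot g, x ≠ 0 → ∃ w, t (x * w) ≠ 0 := by
    intro x hx
    exact ⟨x⁻¹ * x₀, by rw [← mul_assoc, mul_inv_cancel₀ hx, one_mul]; exact htx₀⟩
  refine ⟨AdjoinRoot g, inferInstance, inferInstance, hfinite, hcard, fun z hz => ?_⟩
  exact alg_model_sp' (AdjoinRoot g) ι hιι t hfix hnd d hfr z (by rw [hιapp, ← pow_succ', hz])

/-- the torus of order `q ^ d - 1` in `Sp_{2d}(q)`, all characteristics -/
theorem torus_sub_model' (p : ℕ) [Fact p.Prime] [CharP F p] (d : ℕ) (hd : 1 ≤ d) :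
    ∃ (K : Type v) (_ : Field K) (_ : Algebra F K) (_ : Finite K),
      Nat.card K = Fintype.card F ^ d ∧
      ∀ w : K, w ≠ 0 →
        (∀ a : ℕ, (∀ j : ℕ, w ^ j = 1 ↔ a ∣ j) → HasSpOrd F d a) := by
  classical
  obtain ⟨g, hgm, hgi, hgd⟩ := exists_irreducible_natDegree (F := F) p d hd
  have : Fact (Irreducible g) := ⟨hgi⟩
  obtain ⟨hfin, hfinite, hfr, hcard⟩ := adjoinRoot_facts g hgm hgi
  rw [hgd] at hfr hcard
  let ι : (AdjoinRoot g × AdjoinRoot g) →ₐ[F] (AdjoinRoot g × AdjoinRoot g) :=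
    AlgHom.prod (AlgHom.snd F _ _) (AlgHom.fst F _ _)
  have hιapp : ∀ x : AdjoinRoot g × AdjoinRoot g, ι x = (x.2, x.1) := fun x => rfl
  have hιι : ∀ x, ι (ι x) = x := fun x => rfl
  obtain ⟨φ, hφ⟩ : ∃ φ : Module.Dual F (AdjoinRoot g), φ 1 ≠ 0 := by
    by_contra hcon
    apply one_ne_zero (α := AdjoinRoot g)
    rw [← Module.forall_dual_apply_eq_zero_iff F]
    intro φ
    by_contra h
    exact hcon ⟨φ, h⟩
  set t : (AdjoinRoot g × AdjoinRoot g) →ₗ[F] F :=
    φ.comp (LinearMap.fst F _ _) - φ.comp (LinearMap.snd F _ _) with ht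
  have htapp : ∀ z : AdjoinRoot g × AdjoinRoot g, t z = φ z.1 - φ z.2 := fun z => rfl
  have hfix : ∀ z, ι z = z → t z = 0 := by
    intro z hz
    rw [hιapp] at hz
    have h1 : z.2 = z.1 := congrArg Prod.fst hz
    rw [htapp, h1, sub_self]
  have hnd : ∀ x : AdjoinRoot g × AdjoinRoot g, x ≠ 0 → ∃ w, t (x * w) ≠ 0 := by
    intro x hx
    by_cases h1 : x.1 = 0
    · have h3 : x.2 ≠ 0 := fun h => hx (Prod.ext h1 h)
      refine ⟨(0, x.2⁻¹), ?_⟩
      rw [htapp]
      simp only [Prod.fst_mul, Prod.snd_mul, mul_zero, map_zero, zero_sub, mul_inv_cancel₀ h3]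
      exact neg_ne_zero.2 hφ
    · refine ⟨(x.1⁻¹, 0), ?_⟩
      rw [htapp]
      simp only [Prod.fst_mul, Prod.snd_mul, mul_zero, map_zero, sub_zero, mul_inv_cancel₀ h1]
      exact hφ
  have hfr2 : finrank F (AdjoinRoot g × AdjoinRoot g) = 2 * d := by
    rw [Module.finrank_prod, hfr, two_mul]
  refine ⟨AdjoinRoot g, inferInstance, inferInstance, hfinite, hcard, fun w hw => ?_⟩
  have hz : ((w, w⁻¹) : AdjoinRoot g × AdjoinRoot g) * ι (w, w⁻¹) = 1 := by
    rw [hιapp]
    exact Prod.ext (mul_inv_cancel₀ hw) (inv_mul_cancel₀ hw)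
  have hm1 := alg_model_sp' (AdjoinRoot g × AdjoinRoot g) ι hιι t hfix hnd d hfr2
    (w, w⁻¹) hz
  have hpow : ∀ j : ℕ, ((w, w⁻¹) : AdjoinRoot g × AdjoinRoot g) ^ j = (w ^ j, (w⁻¹) ^ j) :=
    fun j => rfl
  refine fun a ha => hm1 a (fun j => ?_)
  rw [hpow, ← ha, Prod.mk_eq_one]
  constructor
  · exact fun h => h.1
  · intro h
    exact ⟨h, by rw [inv_pow, h, inv_one]⟩

/-- elements of the torus of order `q ^ d + 1`, all characteristics -/
theorem hasSpOrd_torus_add' (p : ℕ) [Fact p.Prime] [CharP F p] (d : ℕ)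
    (hd : 1 ≤ d) (a₁ : ℕ) (ha₁ : a₁ ∣ Fintype.card F ^ d + 1) : HasSpOrd F d a₁ := by
  obtain ⟨E, _, _, _, hcard, hE⟩ := torus_add_model' (F := F) p d hd
  set q := Fintype.card F with hq
  have hqd : 2 ≤ q ^ d := Helper40_SpProj6.two_le_card_pow (F := F) d hd
  have hdvd : a₁ ∣ Nat.card E - 1 := by
    rw [hcard, two_mul, pow_add]
    have h1 : q ^ d * q ^ d - 1 = (q ^ d + 1) * (q ^ d - 1) := by
      zify [(by nlinarith : 1 ≤ q ^ d * q ^ d), (by omega : 1 ≤ q ^ d)]
      ring
    rw [h1]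
    exact ha₁.mul_right _
  have hE2 : 2 ≤ Nat.card E := by
    rw [hcard, two_mul, pow_add]
    nlinarith
  obtain ⟨z, hz⟩ := exists_unit_orderOf (E := E) a₁ hdvd hE2
  have hzpow : ((z : E)) ^ (q ^ d + 1) = 1 := by
    rw [← Units.val_pow_eq_pow_val, Units.val_eq_one, ← orderOf_dvd_iff_pow_eq_one, hz]
    exact ha₁
  refine (hE (z : E) hzpow) a₁ (fun j => ?_)
  rw [← Units.val_pow_eq_pow_val, Units.val_eq_one, ← orderOf_dvd_iff_pow_eq_one, hz]

/-- elements of the torus of order `q ^ d - 1`, all characteristics -/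
theorem hasSpOrd_torus_sub' (p : ℕ) [Fact p.Prime] [CharP F p] (d : ℕ)
    (hd : 1 ≤ d) (a₁ : ℕ) (ha₁ : a₁ ∣ Fintype.card F ^ d - 1) : HasSpOrd F d a₁ := by
  obtain ⟨K, _, _, _, hcard, hK⟩ := torus_sub_model' (F := F) p d hd
  have hqd : 2 ≤ Fintype.card F ^ d := Helper40_SpProj6.two_le_card_pow (F := F) d hd
  have hdvd : a₁ ∣ Nat.card K - 1 := by rw [hcard]; exact ha₁
  have hK2 : 2 ≤ Nat.card K := by rw [hcard]; exact hqd
  obtain ⟨z, hz⟩ := exists_unit_orderOf (E := K) a₁ hdvd hK2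
  refine (hK (z : K) z.ne_zero) a₁ (fun j => ?_)
  rw [← Units.val_pow_eq_pow_val, Units.val_eq_one, ← orderOf_dvd_iff_pow_eq_one, hz]

end tori

section transfer

variable {F : Type v} [Field F]

/-- a symplectic matrix of order `a` gives an isometry of the standard alternating space -/
theorem hasSpOrd_of_matrix {n a : ℕ} (M : Matrix (Fin n ⊕ Fin n) (Fin n ⊕ Fin n) F)
    (hM : IsSpM M) (hord : ∀ j : ℕ, M ^ j = 1 ↔ a ∣ j) : HasSpOrd F n a := by
  refine ⟨(Fin n ⊕ Fin n → F), inferInstance, inferInstance, inferInstance, Jform n F,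
    Matrix.toLin' M, Jform_nondeg, Jform_alt, ?_, ?_, fun j => ?_⟩
  · intro x y
    rw [Jform_comp, SymplecticGroup.mem_iff'.1 ((isSpM_iff_mem M).1 hM)]
    rfl
  · rw [Module.finrank_pi, Fintype.card_sum, Fintype.card_fin, two_mul]
  · rw [← hord, ← Matrix.toLin'_pow]
    constructor
    · intro h
      apply Matrix.toLin'.injective
      rw [h, Matrix.toLin'_one]
      rfl
    · intro h
      rw [h, Matrix.toLin'_one]
      rfl

/-- a scalar isometry of a nonzero nondegenerate space has square one -/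
theorem scalar_sq_of_iso {V : Type*} [AddCommGroup V] [Module F V] [Nontrivial V]
    (B : LinearMap.BilinForm F V) (hB : B.Nondegenerate) (g : Module.End F V)
    (hiso : ∀ x y, B (g x) (g y) = B x y) (s : F) (hs : g = s • (1 : Module.End F V)) :
    s * s = 1 := by
  obtain ⟨x, hx⟩ := exists_ne (0 : V)
  have h1 : ∃ y, B x y ≠ 0 := by
    by_contra hcon
    push Not at hcon
    exact hx (hB.1 x hcon)
  obtain ⟨y, hy⟩ := h1
  have h3 := hiso x y
  rw [hs] at h3
  simp only [LinearMap.smul_apply, Module.End.one_apply, map_smul, LinearMap.smul_apply,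
    smul_eq_mul] at h3
  have h4 : (s * s - 1) * B x y = 0 := by
    rw [sub_mul, one_mul, mul_assoc, h3, sub_self]
  rcases mul_eq_zero.1 h4 with h5 | h5
  · exact sub_eq_zero.1 h5
  · exact absurd h5 hy

theorem iso_pow {V : Type*} [AddCommGroup V] [Module F V]
    (B : LinearMap.BilinForm F V) (g : Module.End F V)
    (hiso : ∀ x y, B (g x) (g y) = B x y) (j : ℕ) : ∀ x y, B ((g ^ j) x) ((g ^ j) y) = B x y := by
  induction j with
  | zero => intro x y; rw [pow_zero]; rfl
  | succ j ih =>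
    intro x y
    rw [pow_succ, Module.End.mul_apply, Module.End.mul_apply, ih, hiso]

/-- honest odd order gives projective order -/
theorem HasSpOrd.toP_odd {m a : ℕ} (h : HasSpOrd F m a) (hm : 1 ≤ m) (hodd : Odd a) :
    HasSpPOrd F m a := by
  obtain ⟨V, _, _, _, B, g, hB, halt, hiso, hfin, hord⟩ := h
  have hnt : Nontrivial V := by
    apply Module.nontrivial_of_finrank_pos (R := F)
    rw [hfin]
    omega
  refine ⟨V, inferInstance, inferInstance, inferInstance, B, g, hB, halt, hiso, hfin,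
    hodd.pos, fun j => ?_⟩
  constructor
  · rintro ⟨s, hs⟩
    have hss : s * s = 1 := scalar_sq_of_iso B hB (g ^ j) (iso_pow B g hiso j) s hs
    have h1 : g ^ (2 * j) = 1 := by
      rw [mul_comm, pow_mul, hs, pow_two, smul_mul_smul_comm, hss, one_smul, mul_one]
    have h3 : a ∣ 2 * j := (hord _).1 h1
    exact (Nat.Coprime.dvd_of_dvd_mul_left (Nat.coprime_two_right.2 hodd) h3)
  · intro h
    exact ⟨1, by rw [(hord j).2 h, one_smul]⟩

/-- in characteristic two honest order is projective order -/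
theorem HasSpOrd.toP_two {m a : ℕ} (h : HasSpOrd F m a) (hm : 1 ≤ m) (h2 : (2 : F) = 0)
    (ha : 0 < a) : HasSpPOrd F m a := by
  obtain ⟨V, _, _, _, B, g, hB, halt, hiso, hfin, hord⟩ := h
  have hnt : Nontrivial V := by
    apply Module.nontrivial_of_finrank_pos (R := F)
    rw [hfin]
    omega
  refine ⟨V, inferInstance, inferInstance, inferInstance, B, g, hB, halt, hiso, hfin,
    ha, fun j => ?_⟩
  constructor
  · rintro ⟨s, hs⟩
    have hss : s * s = 1 := scalar_sq_of_iso B hB (g ^ j) (iso_pow B g hiso j) s hs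
    have h1 : (s - 1) * (s - 1) = 0 := by
      have : (s - 1) * (s - 1) = s * s - 2 * s + 1 := by ring
      rw [this, hss]
      linear_combination (1 - s) * h2
    have h3 : s = 1 := by
      rcases mul_eq_zero.1 h1 with h | h <;> exact sub_eq_zero.1 h
    rw [h3, one_smul] at hs
    exact (hord j).1 hs
  · intro h
    exact ⟨1, by rw [(hord j).2 h, one_smul]⟩

/-- a unipotent block times an arbitrary block: the projective order is the order -/
theorem HasSpOrd.prod_unip (p : ℕ) [Fact p.Prime] [CharP F p] {m₁ m₂ κ a₂ : ℕ}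
    (h₁ : HasSpOrd F m₁ (p ^ κ)) (h₂ : HasSpOrd F m₂ a₂) (hm₁ : 1 ≤ m₁) (ha₂ : 0 < a₂) :
    HasSpPOrd F (m₁ + m₂) (Nat.lcm (p ^ κ) a₂) := by
  have hp : p.Prime := Fact.out
  obtain ⟨V₁, _, _, _, B₁, g₁, hB₁, halt₁, hiso₁, hfin₁, hord₁⟩ := h₁
  obtain ⟨V₂, _, _, _, B₂, g₂, hB₂, halt₂, hiso₂, hfin₂, hord₂⟩ := h₂
  have hnt₁ : Nontrivial V₁ := by
    apply Module.nontrivial_of_finrank_pos (R := F)
    rw [hfin₁]
    omega
  refine ⟨V₁ × V₂, inferInstance, inferInstance, inferInstance, prodForm B₁ B₂, g₁.prodMap g₂,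
    prodForm_nondeg hB₁ hB₂, ?_, ?_, ?_, Nat.lcm_pos (pow_pos hp.pos κ) ha₂, fun j => ?_⟩
  · intro x
    rw [prodForm_apply, halt₁, halt₂, add_zero]
  · intro x y
    rw [prodForm_apply, prodForm_apply]
    simp only [LinearMap.prodMap_apply]
    rw [hiso₁, hiso₂]
  · rw [Module.finrank_prod, hfin₁, hfin₂]
    ring
  · rw [prodMap_pow', Nat.lcm_dvd_iff, ← hord₁, ← hord₂]
    constructor
    · rintro ⟨s, hs⟩
      obtain ⟨hs1, hs2⟩ := (prodMap_eq_smul_one_iff (g₁ ^ j) (g₂ ^ j) s).1 hs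
      -- `s ^ (p ^ κ) = 1`, hence `s = 1`
      have h1 : (g₁ ^ j) ^ (p ^ κ) = 1 := by
        rw [← pow_mul, mul_comm, pow_mul, (hord₁ _).2 dvd_rfl, one_pow]
      rw [hs1, _root_.smul_pow, one_pow] at h1
      have h3 : s ^ (p ^ κ) = 1 := by
        obtain ⟨x, hx⟩ := exists_ne (0 : V₁)
        have h4 := congrArg (fun f : Module.End F V₁ => f x) h1
        simp only [LinearMap.smul_apply, Module.End.one_apply] at h4
        have h5 : (s ^ (p ^ κ) - 1) • x = 0 := by rw [sub_smul, h4, one_smul, sub_self]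
        rcases smul_eq_zero.1 h5 with h6 | h6
        · exact sub_eq_zero.1 h6
        · exact absurd h6 hx
      have h4 : s = 1 := by
        have h5 : (s - 1) ^ (p ^ κ) = 0 := by
          rw [sub_pow_char_pow, h3, one_pow, sub_self]
        exact sub_eq_zero.1 ((pow_eq_zero_iff (pow_pos hp.pos κ).ne').1 h5)
      rw [h4, one_smul] at hs1 hs2
      exact ⟨hs1, hs2⟩
    · rintro ⟨h1, h3⟩
      refine ⟨1, ?_⟩
      rw [(prodMap_eq_smul_one_iff (g₁ ^ j) (g₂ ^ j) 1)]
      rw [one_smul, one_smul]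
      exact ⟨h1, h3⟩

end transfer

section explicit

variable {F : Type v} [Field F]

/-- the transvection `!![1,1;0,1]` in block form -/
def unipU (F : Type v) [Field F] : Matrix (Fin 1 ⊕ Fin 1) (Fin 1 ⊕ Fin 1) F :=
  Matrix.fromBlocks 1 1 0 1

theorem unipU_pow (j : ℕ) :
    unipU F ^ j = Matrix.fromBlocks 1 ((j : F) • (1 : Matrix (Fin 1) (Fin 1) F)) 0 1 := by
  induction j with
  | zero =>
    rw [pow_zero, Nat.cast_zero, zero_smul, Matrix.fromBlocks_one]
  | succ j ih =>
    rw [pow_succ, ih, unipU, Matrix.fromBlocks_multiply]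
    congr 1
    · simp
    · rw [Nat.cast_succ, add_smul, one_smul]
      simp [add_comm]
    · simp
    · simp

theorem unipU_isSpM : IsSpM (unipU F) := by
  rw [isSpM_iff_mem, SymplecticGroup.mem_iff']
  unfold unipU Matrix.J
  rw [Matrix.fromBlocks_transpose, Matrix.fromBlocks_multiply, Matrix.fromBlocks_multiply]
  congr 1 <;> simp

/-- the transvection has order `p` -/
theorem hasSpOrd_unip_one (p : ℕ) [Fact p.Prime] [CharP F p] : HasSpOrd F 1 p := by
  apply hasSpOrd_of_matrix (unipU F) unipU_isSpM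
  intro j
  rw [unipU_pow, ← Matrix.fromBlocks_one, Matrix.fromBlocks_inj, ← CharP.cast_eq_zero_iff F p j]
  constructor
  · rintro ⟨-, h, -, -⟩
    have h1 := congrFun (congrFun h 0) 0
    simpa using h1
  · intro h
    refine ⟨rfl, ?_, rfl, rfl⟩
    rw [h, zero_smul]

/-- the wreath construction: order `2 a` on the double of the space -/
theorem HasSpOrd.double {m a : ℕ} (h : HasSpOrd F m a) (hm : 1 ≤ m) :
    HasSpOrd F (m + m) (2 * a) := by
  obtain ⟨V, _, _, _, B, g, hB, halt, hiso, hfin, hord⟩ := h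
  have hnt : Nontrivial V := by
    apply Module.nontrivial_of_finrank_pos (R := F)
    rw [hfin]
    omega
  let w : Module.End F (V × V) :=
    LinearMap.prod (g ∘ₗ LinearMap.snd F V V) (LinearMap.fst F V V)
  have hwapp : ∀ x : V × V, w x = (g x.2, x.1) := fun x => rfl
  have hww : w * w = g.prodMap g := by
    apply LinearMap.ext
    intro x
    rw [Module.End.mul_apply, hwapp, hwapp]
    rfl
  have heven : ∀ k : ℕ, w ^ (2 * k) = (g ^ k).prodMap (g ^ k) := by
    intro k
    rw [pow_mul, pow_two, hww, prodMap_pow']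
  refine ⟨V × V, inferInstance, inferInstance, inferInstance, prodForm B B, w,
    prodForm_nondeg hB hB, ?_, ?_, ?_, fun j => ?_⟩
  · intro x
    rw [prodForm_apply, halt, halt, add_zero]
  · intro x y
    rw [prodForm_apply, prodForm_apply, hwapp, hwapp]
    simp only
    rw [hiso, add_comm]
  · rw [Module.finrank_prod, hfin]
    ring
  · rcases Nat.even_or_odd' j with ⟨k, rfl | rfl⟩
    · rw [heven, Nat.mul_dvd_mul_iff_left two_pos, ← hord]
      have h1 := prodMap_eq_smul_one_iff (g ^ k) (g ^ k) (1 : F)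
      rw [one_smul, one_smul] at h1
      rw [h1]
      exact ⟨fun h => h.1, fun h => ⟨h, h⟩⟩
    · constructor
      · intro h
        exfalso
        obtain ⟨x, hx⟩ := exists_ne (0 : V)
        have h1 := congrArg (fun f : Module.End F (V × V) => f (x, 0)) h
        simp only [Module.End.one_apply] at h1
        rw [pow_succ, heven, Module.End.mul_apply, hwapp] at h1
        simp only [LinearMap.prodMap_apply, map_zero] at h1
        exact hx (congrArg Prod.fst h1).symm
      · intro h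
        exfalso
        have : 2 ∣ 2 * k + 1 := (dvd_mul_right 2 a).trans h
        omega

end explicit

end Cfsg.Agent.Lib.Helper82_S3466_T1LCore
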