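import Mathlib
import Cfsg.Agent.Lib.Helper82_S3466_T1LCore

set_option autoImplicit false

/-!
Package S3466-T1La (for helper40): the two maximal tori of `Sp₄(F)` give elements of projective
orders `(q² + 1) / d` and `(q² - 1) / d`, `d = gcd (2, q - 1)`.
-/

namespace Cfsg.Agent.Lib.Helper82_S3466_T1La

open Cfsg.Agent.Lib.Helper40_ProjOrd Cfsg.Agent.Lib.Helper40_SpProj
  Cfsg.Agent.Lib.Helper40_SpProj4 Cfsg.Agent.Lib.Helper82_S3466_T1LCore

universe u

variable {F : Type u} [Field F] [Fintype F] (p : ℕ) [Fact p.Prime] [CharP F p]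

theorem t1l_torus (d : ℕ) (hd : (p = 2 ∧ d = 1) ∨ (p ≠ 2 ∧ d = 2)) :
    InSpecSp (Fin 2) F ((Fintype.card F ^ 2 + 1) / d) ∧
      InSpecSp (Fin 2) F ((Fintype.card F ^ 2 - 1) / d) := by
  have hq2 : 2 ≤ Fintype.card F := Fintype.one_lt_card
  have hqq : 4 ≤ Fintype.card F ^ 2 := by nlinarith
  rcases hd with ⟨hp2, rfl⟩ | ⟨hp2, rfl⟩
  · have h2 : (2 : F) = 0 := by
      have := CharP.cast_eq_zero F p
      rw [hp2] at this
      exact_mod_cast this
    rw [Nat.div_one, Nat.div_one]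
    constructor
    · exact HasSpPOrd.inSpecSp (HasSpOrd.toP_two
        (hasSpOrd_torus_add' p 2 (by norm_num) _ dvd_rfl) (by norm_num) h2 (by omega))
    · exact HasSpPOrd.inSpecSp (HasSpOrd.toP_two
        (hasSpOrd_torus_sub' p 2 (by norm_num) _ dvd_rfl) (by norm_num) h2 (by omega))
  · have h2 : (2 : F) ≠ 0 := by
      intro h
      have h1 : ((2 : ℕ) : F) = 0 := by exact_mod_cast h
      rw [CharP.cast_eq_zero_iff F p] at h1
      exact hp2 ((Nat.prime_dvd_prime_iff_eq Fact.out Nat.prime_two).1 h1)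
    have hodd : Fintype.card F % 2 = 1 := by
      apply FiniteField.odd_card_of_char_ne_two
      rw [ringChar.eq F p]
      exact hp2
    have hodd2 : Fintype.card F ^ 2 % 2 = 1 := by
      rw [Nat.pow_mod, hodd]
    constructor
    · exact HasSpPOrd.inSpecSp
        (Helper40_SpProj6.hasSpPOrd_T_add p h2 2 (by norm_num) _ (by omega))
    · exact HasSpPOrd.inSpecSp
        (Helper40_SpProj6.hasSpPOrd_T_sub p h2 2 (by norm_num) _ (by omega) (by omega))

end Cfsg.Agent.Lib.Helper82_S3466_T1La
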