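import Mathlib
import Cfsg.Agent.Lib.Helper82_S3466_T1LCore

set_option autoImplicit false

/-!
Package S3466-T1Lc (for helper40): regular unipotent elements of `Sp₄(F)`, of order `4` in
characteristic two and of order `9` in characteristic three.
-/

namespace Cfsg.Agent.Lib.Helper82_S3466_T1Lc

open Cfsg.Agent.Lib.Helper40_ProjOrd Cfsg.Agent.Lib.Helper40_SpProj
  Cfsg.Agent.Lib.Helper40_SpProj4 Cfsg.Agent.Lib.Helper82_S3466_T1LCore

universe u

variable {F : Type u} [Field F] [Fintype F] (p : ℕ) [Fact p.Prime] [CharP F p]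

theorem t1l_unip : (p = 2 → InSpecSp (Fin 2) F 4) ∧ (p = 3 → InSpecSp (Fin 2) F 9) := by
  constructor
  · intro hp2
    have h2 : (2 : F) = 0 := by
      have := CharP.cast_eq_zero F p
      rw [hp2] at this
      exact_mod_cast this
    have h1 : HasSpOrd F 1 2 := by
      have := hasSpOrd_unip_one (F := F) p
      rwa [hp2] at this
    have h3 : HasSpOrd F (1 + 1) (2 * 2) := HasSpOrd.double h1 le_rfl
    exact HasSpPOrd.inSpecSp (HasSpOrd.toP_two h3 (by norm_num) h2 (by norm_num))
  · intro hp3
    have h2 : (2 : F) ≠ 0 := by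
      intro h
      have h1 : ((2 : ℕ) : F) = 0 := by exact_mod_cast h
      rw [CharP.cast_eq_zero_iff F p, hp3] at h1
      omega
    have h1 := Helper40_SpProj5.hasSpOrd_unipotent (F := F) p h2 2 (by norm_num)
    have h3 : p ^ Nat.clog p (2 * 2) = 9 := by
      rw [hp3]
      decide
    rw [h3] at h1
    exact HasSpPOrd.inSpecSp (HasSpOrd.toP_odd h1 (by norm_num) (by decide))

end Cfsg.Agent.Lib.Helper82_S3466_T1Lc
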