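import Mathlib
import Cfsg.Agent.Lib.Helper40_P4Defs
import Cfsg.Agent.Lib.Helper2_S3466_EIG
import Cfsg.Agent.Lib.Helper49_S3466_SDP
import Cfsg.Agent.Lib.Helper64_S3466_LB2
import Cfsg.Agent.Lib.Helper64_S3466_LBA
import Cfsg.Agent.Lib.Helper2_S3466_AN2
import Cfsg.Agent.Lib.Helper5_S3466_AN4
import Cfsg.Agent.Lib.Helper49_S3466_T1Ua
import Cfsg.Agent.Lib.Helper65_S3466_T1Ub
import Cfsg.Agent.Lib.Helper82_S3466_T1La
import Cfsg.Agent.Lib.Helper82_S3466_T1Lb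
import Cfsg.Agent.Lib.Helper82_S3466_T1Lc
import Cfsg.Agent.Lib.Helper70_S3466_CO
import Cfsg.Agent.Lib.Helper70_S3466_B
import Cfsg.Agent.Lib.Helper24_S3466_LBD
import Cfsg.Agent.Lib.Helper24_S3466_LBC

set_option autoImplicit false

/-!
Hub for the packages of S3466: every package statement, proved by the landed package.
-/

namespace Cfsg.Agent.Lib.Helper40_P4Hub

open Cfsg.Agent.Lib.Helper40_P4Defs Cfsg.Agent.Lib.Helper40_SpProj Cfsg.Agent.Lib.Helper40_ProjOrd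
open Polynomial
open scoped Kronecker Matrix

universe u



theorem SDP {V : Type*} [AddCommGroup V] [Fintype V] [Nontrivial V] (p : ℕ) (hp : p.Prime)
    (hV : ∀ v : V, p • v = 0) (𝒮 : Submonoid (AddMonoid.End V))
    (h𝒮 : ∀ α ∈ 𝒮, ∃ n : ℕ, 0 < n ∧ α ^ n = 1) (M : ℕ) :
    ∃ (H : Type) (_ : Group H) (_ : Fintype H), M < Fintype.card H ∧
      Set.range (orderOf : H → ℕ) = {n | ∃ α ∈ 𝒮, Realizes p α n} :=
  Cfsg.Agent.Lib.Helper49_S3466_SDP.SDP p hp hV 𝒮 h𝒮 M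

section EIG

variable {n : Type*} [Fintype n] [DecidableEq n]

theorem exists_fixed_of_sum_ne_zero {K : Type*} [Field K] (C : Matrix n n K) (N : ℕ)
    (hN : C ^ N = 1) (hs : ∑ i ∈ Finset.range N, C ^ i ≠ 0) :
    ∃ v : n → K, v ≠ 0 ∧ C *ᵥ v = v :=
  Cfsg.Agent.Lib.Helper2_S3466_EIG.exists_fixed_of_sum_ne_zero C N hN hs

end EIG

section AN2

variable {E : Type u} [Field E] [Fintype E] (p : ℕ) [Fact p.Prime] [CharP E p] (k : ℕ)

theorem an2 (hk : 1 ≤ k) (hcard : Fintype.card E = p ^ (2 * k)) (d : ℕ)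
    (hd : (p = 2 ∧ d = 1) ∨ (p ≠ 2 ∧ d = 2)) (g : Matrix (Fin 2) (Fin 2) E) (hdet : g.det = 1) :
    ((g - 1) ^ 2 = 0 ∨ (g + 1) ^ 2 = 0) ∨
    ((kr2 (RingHom.id E) (iterateFrobenius E p k) g ^ (((p ^ k) ^ 2 - 1) / d) = 1 ∨
        kr2 (RingHom.id E) (iterateFrobenius E p k) g ^ (((p ^ k) ^ 2 + 1) / d) = 1) ∧
      ((∃ v : Fin 2 × Fin 2 → E, v ≠ 0 ∧
          kr2 (RingHom.id E) (iterateFrobenius E p k) g *ᵥ v = v) →
        kr2 (RingHom.id E) (iterateFrobenius E p k) g ^ (p ^ k - 1) = 1 ∨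
          kr2 (RingHom.id E) (iterateFrobenius E p k) g ^ (p ^ k + 1) = 1)) :=
  Cfsg.Agent.Lib.Helper2_S3466_AN2.an2 p k hk hcard d hd g hdet

/-- the unipotent case (`ε = ±1`): `M = (1+n) ⊗ (1+n')` with `n² = n'² = 0` -/
theorem an2_unip (g : Matrix (Fin 2) (Fin 2) E) (ε : E) (hε : ε = 1 ∨ ε = -1)
    (h : (g - ε • 1) ^ 2 = 0) :
    (kr2 (RingHom.id E) (iterateFrobenius E p k) g - 1) ^ 3 = 0 ∧
      kr2 (RingHom.id E) (iterateFrobenius E p k) g ^ p = 1 :=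
  Cfsg.Agent.Lib.Helper2_S3466_AN2.an2_unip p k g ε hε h

end AN2

section AN4

variable {E : Type u} [Field E] [Fintype E] [CharP E 3] (k : ℕ)

theorem an4 [Fact (Nat.Prime 3)] (hk : 1 ≤ k) (hkev : Even k) (hcard : Fintype.card E = 3 ^ (2 * k))
    (g : Matrix (Fin 2) (Fin 2) E) (hdet : g.det = 1) :
    ((g - 1) ^ 2 = 0 ∨ (g + 1) ^ 2 = 0) ∨
    ((kr4 (RingHom.id E) (iterateFrobenius E 3 k) (iterateFrobenius E 3 1)
          (iterateFrobenius E 3 k) g ^ (((3 ^ k) ^ 2 - 1) / 2) = 1 ∨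
        kr4 (RingHom.id E) (iterateFrobenius E 3 k) (iterateFrobenius E 3 1)
          (iterateFrobenius E 3 k) g ^ (((3 ^ k) ^ 2 + 1) / 2) = 1) ∧
      ((∃ v : (Fin 2 × Fin 2) × (Fin 2 × Fin 2) → E, v ≠ 0 ∧
          kr4 (RingHom.id E) (iterateFrobenius E 3 k) (iterateFrobenius E 3 1)
            (iterateFrobenius E 3 k) g *ᵥ v = v) →
        kr4 (RingHom.id E) (iterateFrobenius E 3 k) (iterateFrobenius E 3 1)
            (iterateFrobenius E 3 k) g ^ (3 ^ k - 1) = 1 ∨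
          kr4 (RingHom.id E) (iterateFrobenius E 3 k) (iterateFrobenius E 3 1)
            (iterateFrobenius E 3 k) g ^ (3 ^ k + 1) = 1)) :=
  Cfsg.Agent.Lib.Helper5_S3466_AN4.an4 k hk hkev hcard g hdet

theorem an4_unip [Fact (Nat.Prime 3)] (g : Matrix (Fin 2) (Fin 2) E) (ε : E) (hε : ε = 1 ∨ ε = -1)
    (h : (g - ε • 1) ^ 2 = 0) :
    kr4 (RingHom.id E) (iterateFrobenius E 3 k) (iterateFrobenius E 3 1)
      (iterateFrobenius E 3 k) g ^ 3 = 1 :=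
  Cfsg.Agent.Lib.Helper5_S3466_AN4.an4_unip k g ε hε h

end AN4

section CO

theorem frob_frob {E : Type u} [Field E] [Fintype E] (p : ℕ) [Fact p.Prime] [CharP E p] (k : ℕ)
    (hcard : Fintype.card E = p ^ (2 * k)) :
    (iterateFrobenius E p k).comp (iterateFrobenius E p k) = RingHom.id E :=
  Cfsg.Agent.Lib.Helper70_S3466_CO.frob_frob p k hcard

/-- products in the monoid `{ρ g} ∪ {ρ g ∘ Ψ}` -/
theorem co_mul {K : Type*} [CommRing K] (φ : K →+* K) (hφ : φ.comp φ = RingHom.id K)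
    (g h : Matrix (Fin 2) (Fin 2) K) :
    cosetEnd φ g * cosetEnd φ h =
        mvEnd (Fin 2 × Fin 2) K (kr2 (RingHom.id K) φ (g * φ.mapMatrix h)) ∧
      cosetEnd φ g * mvEnd (Fin 2 × Fin 2) K (kr2 (RingHom.id K) φ h) =
        cosetEnd φ (g * φ.mapMatrix h) ∧
      mvEnd (Fin 2 × Fin 2) K (kr2 (RingHom.id K) φ g) * cosetEnd φ h = cosetEnd φ (g * h) :=
  Cfsg.Agent.Lib.Helper70_S3466_CO.co_mul φ hφ g h

/-- Sketch: `α := cosetEnd φ g`, `α² = mvEnd (kr2 id φ h)`, `h = g * φ(g)`, `det h = 1`, and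
`trace h` is fixed by `φ`.  TRI for `h`: split `t ∈ E` with `t + t⁻¹ = τ = τ^q`, so
`(t^q - t)(t^q - t⁻¹) = 0`: if `t^q = t` the eigenvalues of `kr2 h` are `t², 1, 1, t⁻²` and
`(kr2 h)^((q-1)/2) = 1`; if `t^q = t⁻¹` they are `1, t², t⁻², 1` and `(kr2 h)^((q+1)/2) = 1`.  So
`α^(q∓1) = 1`, `orderOf α ∣ q∓1` and `p * orderOf α ∣ p(q∓1) ∈ mu4`.  Nonsplit is impossible
(`t^q ∈ {t, t⁻¹}` and `t^(q²+1) = 1` give `t² = 1`).  Unipotent `(h ∓ 1)² = 0`: by `an2_unip`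
`N := kr2 h` has `(N-1)³ = 0`, `N^p = 1`, so `α^(2p) = 1`, `orderOf α ∈ {1,2,p,2p} ⊆ Spec4`
(`2p ∣ p(q-1)`); if the order is `p` or `2p` the norm sum vanishes:
order `2p`: `∑_{i<2p} α^i = (1+α) * mvEnd (∑_{j<p} N^j) = (1+α) * mvEnd ((N-1)^(p-1)) = 0` (`p-1 ≥ 3`);
order `p`: `α = (α²)^((p+1)/2) = mvEnd (N^((p+1)/2))`, again unipotent of index 3. -/
theorem co_good {E : Type u} [Field E] [Fintype E] (p : ℕ) [Fact p.Prime] [CharP E p] (k : ℕ)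
    (hp5 : 5 ≤ p) (hk : 1 ≤ k) (hcard : Fintype.card E = p ^ (2 * k))
    (g : Matrix (Fin 2) (Fin 2) E) (hdet : g.det = 1) :
    Good p (Spec4 p (p ^ k)) (cosetEnd (iterateFrobenius E p k) g) :=
  Cfsg.Agent.Lib.Helper70_S3466_CO.co_good p k hp5 hk hcard g hdet

end CO

section LB

variable {E : Type u} [Field E] [Fintype E] (p : ℕ) [Fact p.Prime] [CharP E p] (k : ℕ)

theorem lb2_split (hk : 1 ≤ k) (hcard : Fintype.card E = p ^ (2 * k)) (d : ℕ)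
    (hd : (p = 2 ∧ d = 1) ∨ (p ≠ 2 ∧ d = 2)) :
    ∃ g : Matrix (Fin 2) (Fin 2) E, g.det = 1 ∧
      orderOf (kr2 (RingHom.id E) (iterateFrobenius E p k) g) = ((p ^ k) ^ 2 - 1) / d :=
  Cfsg.Agent.Lib.Helper64_S3466_LB2.lb2_split p k hk hcard d hd

theorem lb2_nonsplit (hk : 1 ≤ k) (hcard : Fintype.card E = p ^ (2 * k)) (d : ℕ)
    (hd : (p = 2 ∧ d = 1) ∨ (p ≠ 2 ∧ d = 2)) :
    ∃ g : Matrix (Fin 2) (Fin 2) E, g.det = 1 ∧
      orderOf (kr2 (RingHom.id E) (iterateFrobenius E p k) g) = ((p ^ k) ^ 2 + 1) / d :=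
  Cfsg.Agent.Lib.Helper64_S3466_LB2.lb2_nonsplit p k hk hcard d hd

/-- `g = diag(t, t⁻¹)`, `t` of order `q - 1`: `kr2 g = diag(t², 1, 1, t⁻²)` -/
theorem lba_minus (hk : 1 ≤ k) (hcard : Fintype.card E = p ^ (2 * k)) (d : ℕ)
    (hd : (p = 2 ∧ d = 1) ∨ (p ≠ 2 ∧ d = 2)) :
    ∃ g : Matrix (Fin 2) (Fin 2) E, g.det = 1 ∧
      orderOf (kr2 (RingHom.id E) (iterateFrobenius E p k) g) = (p ^ k - 1) / d ∧
      ∃ v : Fin 2 × Fin 2 → E, v ≠ 0 ∧ kr2 (RingHom.id E) (iterateFrobenius E p k) g *ᵥ v = v :=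
  Cfsg.Agent.Lib.Helper64_S3466_LBA.lba_minus p k hk hcard d hd

/-- `g = diag(t, t⁻¹)`, `t` of order `q + 1` (so `t^q = t⁻¹`): `kr2 g = diag(1, t², t⁻², 1)` -/
theorem lba_plus (hk : 1 ≤ k) (hcard : Fintype.card E = p ^ (2 * k)) (d : ℕ)
    (hd : (p = 2 ∧ d = 1) ∨ (p ≠ 2 ∧ d = 2)) :
    ∃ g : Matrix (Fin 2) (Fin 2) E, g.det = 1 ∧
      orderOf (kr2 (RingHom.id E) (iterateFrobenius E p k) g) = (p ^ k + 1) / d ∧
      ∃ v : Fin 2 × Fin 2 → E, v ≠ 0 ∧ kr2 (RingHom.id E) (iterateFrobenius E p k) g *ᵥ v = v :=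
  Cfsg.Agent.Lib.Helper64_S3466_LBA.lba_plus p k hk hcard d hd

/-- `p = 2`, `g = !![1, 1; 0, 1]` -/
theorem lba_four [CharP E 2] [Fact (Nat.Prime 2)] :
    ∃ g : Matrix (Fin 2) (Fin 2) E, g.det = 1 ∧
      orderOf (kr2 (RingHom.id E) (iterateFrobenius E 2 k) g) = 2 ∧
      1 + kr2 (RingHom.id E) (iterateFrobenius E 2 k) g ≠ 0 :=
  Cfsg.Agent.Lib.Helper64_S3466_LBA.lba_four k

/-- `g = diag(a, a⁻¹)`, `a` a generator of `Eˣ`: `α² = ρ(diag(s, s⁻¹))`, `s = a^(q+1)` of order `q-1`,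
`α²` has order `(q-1)/2`; `α^j = 1` forces `j` even (an odd power is `ρ(..) ∘ Ψ`, not `E`-linear);
fixed vector `v (0,1) = a`, other entries `0` (`a^(1-q) a^q = a`). -/
theorem lbc_minus (hp2 : p ≠ 2) (hk : 1 ≤ k) (hcard : Fintype.card E = p ^ (2 * k)) :
    ∃ g : Matrix (Fin 2) (Fin 2) E, g.det = 1 ∧
      orderOf (cosetEnd (iterateFrobenius E p k) g) = p ^ k - 1 ∧
      ∃ v : Fin 2 × Fin 2 → E, v ≠ 0 ∧ cosetEnd (iterateFrobenius E p k) g v = v :=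
  Cfsg.Agent.Lib.Helper24_S3466_LBC.lbc_minus p k hp2 hk hcard

/-- `g = !![0, b; -b⁻¹, 0]`: `g * φ(g) = diag(t, t⁻¹)`, `t = -b^(1-q)`; choose `b` with `t` of order
`q+1`; `α²` has order `(q+1)/2`, `α` has even order; fixed vector `v (0,0) = 1`,
`v (1,1) = (b^(q+1))⁻¹`. -/
theorem lbc_plus (hp2 : p ≠ 2) (hk : 1 ≤ k) (hcard : Fintype.card E = p ^ (2 * k)) :
    ∃ g : Matrix (Fin 2) (Fin 2) E, g.det = 1 ∧
      orderOf (cosetEnd (iterateFrobenius E p k) g) = p ^ k + 1 ∧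
      ∃ v : Fin 2 × Fin 2 → E, v ≠ 0 ∧ cosetEnd (iterateFrobenius E p k) g v = v :=
  Cfsg.Agent.Lib.Helper24_S3466_LBC.lbc_plus p k hp2 hk hcard

end LB

section LBD

variable {E : Type u} [Field E] [Fintype E] [CharP E 3] [Fact (Nat.Prime 3)] (k : ℕ)

theorem lbd_split (hk : 1 ≤ k) (hkev : Even k) (hcard : Fintype.card E = 3 ^ (2 * k)) :
    ∃ g : Matrix (Fin 2) (Fin 2) E, g.det = 1 ∧
      orderOf (kr4 (RingHom.id E) (iterateFrobenius E 3 k) (iterateFrobenius E 3 1)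
        (iterateFrobenius E 3 k) g) = ((3 ^ k) ^ 2 - 1) / 2 :=
  Cfsg.Agent.Lib.Helper24_S3466_LBD.lbd_split k hk hkev hcard

theorem lbd_nonsplit (hk : 1 ≤ k) (hkev : Even k) (hcard : Fintype.card E = 3 ^ (2 * k)) :
    ∃ g : Matrix (Fin 2) (Fin 2) E, g.det = 1 ∧
      orderOf (kr4 (RingHom.id E) (iterateFrobenius E 3 k) (iterateFrobenius E 3 1)
        (iterateFrobenius E 3 k) g) = ((3 ^ k) ^ 2 + 1) / 2 :=
  Cfsg.Agent.Lib.Helper24_S3466_LBD.lbd_nonsplit k hk hkev hcard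

/-- `g = diag(t, t⁻¹)`, `t` of order `2(q-1)` (divides `q²-1`); the weight `2q - 2` gives a fixed
basis vector; all weights are even so the order of `kr4 g` is `orderOf (t²) = q - 1`. -/
theorem lbd_minus (hk : 1 ≤ k) (hkev : Even k) (hcard : Fintype.card E = 3 ^ (2 * k)) :
    ∃ g : Matrix (Fin 2) (Fin 2) E, g.det = 1 ∧
      orderOf (kr4 (RingHom.id E) (iterateFrobenius E 3 k) (iterateFrobenius E 3 1)
        (iterateFrobenius E 3 k) g) = 3 ^ k - 1 ∧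
      ∃ v : (Fin 2 × Fin 2) × (Fin 2 × Fin 2) → E, v ≠ 0 ∧
        kr4 (RingHom.id E) (iterateFrobenius E 3 k) (iterateFrobenius E 3 1)
          (iterateFrobenius E 3 k) g *ᵥ v = v :=
  Cfsg.Agent.Lib.Helper24_S3466_LBD.lbd_minus k hk hkev hcard

/-- `t` of order `2(q+1)` (divides `q²-1` as `4 ∣ q-1`), weight `2q + 2` -/
theorem lbd_plus (hk : 1 ≤ k) (hkev : Even k) (hcard : Fintype.card E = 3 ^ (2 * k)) :
    ∃ g : Matrix (Fin 2) (Fin 2) E, g.det = 1 ∧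
      orderOf (kr4 (RingHom.id E) (iterateFrobenius E 3 k) (iterateFrobenius E 3 1)
        (iterateFrobenius E 3 k) g) = 3 ^ k + 1 ∧
      ∃ v : (Fin 2 × Fin 2) × (Fin 2 × Fin 2) → E, v ≠ 0 ∧
        kr4 (RingHom.id E) (iterateFrobenius E 3 k) (iterateFrobenius E 3 1)
          (iterateFrobenius E 3 k) g *ᵥ v = v :=
  Cfsg.Agent.Lib.Helper24_S3466_LBD.lbd_plus k hk hkev hcard

/-- `g = !![1, 1; 0, 1]`: `M = g^{⊗4}` (Frobenius fixes `0, 1`), `M³ = 1`,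
`1 + M + M² = (M - 1)²` has entry `2 ≠ 0` at row `((0,0),(1,1))`, column `((1,1),(1,1))`. -/
theorem lbd_nine :
    ∃ g : Matrix (Fin 2) (Fin 2) E, g.det = 1 ∧
      orderOf (kr4 (RingHom.id E) (iterateFrobenius E 3 k) (iterateFrobenius E 3 1)
        (iterateFrobenius E 3 k) g) = 3 ∧
      1 + kr4 (RingHom.id E) (iterateFrobenius E 3 k) (iterateFrobenius E 3 1)
          (iterateFrobenius E 3 k) g +
        kr4 (RingHom.id E) (iterateFrobenius E 3 k) (iterateFrobenius E 3 1)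
          (iterateFrobenius E 3 k) g ^ 2 ≠ 0 :=
  Cfsg.Agent.Lib.Helper24_S3466_LBD.lbd_nine k

end LBD

theorem caseB (N : ℕ) :
    ∃ (H : Type) (_ : Group H) (_ : Fintype H), N < Fintype.card H ∧
      Set.range (orderOf : H → ℕ) = Spec4 3 3 :=
  Cfsg.Agent.Lib.Helper70_S3466_B.caseB N

/-- T1Ua: the split case -/
theorem quartic_split {F : Type u} [Field F] [Fintype F] (p : ℕ) [Fact p.Prime] [CharP F p]
    (y₁ y₂ : F) :
    ∃ m ∈ mu4 p (Fintype.card F),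
      (X ^ 2 - C y₁ * X + 1) * (X ^ 2 - C y₂ * X + 1) ∣ (X ^ m - 1 : F[X]) ∨
        (X ^ 2 - C y₁ * X + 1) * (X ^ 2 - C y₂ * X + 1) ∣ (X ^ m + 1 : F[X]) :=
  Cfsg.Agent.Lib.Helper49_S3466_T1Ua.quartic_split p y₁ y₂

/-- T1Ub: the nonsplit case -/
theorem quartic_nonsplit {F : Type u} [Field F] [Fintype F] (p : ℕ) [Fact p.Prime] [CharP F p]
    (χ : F[X]) (hm : χ.Monic) (hdeg : χ.natDegree = 4) (hrev : χ.reverse = χ)
    (hns : ∀ y₁ y₂ : F, χ ≠ (X ^ 2 - C y₁ * X + 1) * (X ^ 2 - C y₂ * X + 1)) :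
    ∃ m ∈ mu4 p (Fintype.card F), χ ∣ X ^ m - 1 ∨ χ ∣ X ^ m + 1 :=
  Cfsg.Agent.Lib.Helper65_S3466_T1Ub.quartic_nonsplit p χ hm hdeg hrev hns

/-- (glue, helper40) -/
theorem quartic_dvd {F : Type u} [Field F] [Fintype F] (p : ℕ) [Fact p.Prime] [CharP F p]
    (χ : F[X]) (hm : χ.Monic) (hdeg : χ.natDegree = 4) (hrev : χ.reverse = χ) :
    ∃ m ∈ mu4 p (Fintype.card F), χ ∣ X ^ m - 1 ∨ χ ∣ X ^ m + 1 := by
  by_cases h : ∃ y₁ y₂ : F, χ = (X ^ 2 - C y₁ * X + 1) * (X ^ 2 - C y₂ * X + 1)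
  · obtain ⟨y₁, y₂, rfl⟩ := h
    exact quartic_split p y₁ y₂
  · push Not at h
    exact quartic_nonsplit p χ hm hdeg hrev h

section T1L

variable {F : Type u} [Field F] [Fintype F] (p : ℕ) [Fact p.Prime] [CharP F p]

/-- irreducible palindromic quartic with roots of order `q²+1`; resp. `f * recip f`, `f` the minimal
polynomial of a generator of `F_{q²}ˣ` -/
theorem t1l_torus (d : ℕ) (hd : (p = 2 ∧ d = 1) ∨ (p ≠ 2 ∧ d = 2)) :
    InSpecSp (Fin 2) F ((Fintype.card F ^ 2 + 1) / d) ∧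
      InSpecSp (Fin 2) F ((Fintype.card F ^ 2 - 1) / d) :=
  Cfsg.Agent.Lib.Helper82_S3466_T1La.t1l_torus p d hd

/-- unipotent `!![1,1;0,1]` on one hyperbolic plane, an element of order `q ∓ 1` of `SL₂(F)` on the
other -/
theorem t1l_mixed :
    InSpecSp (Fin 2) F (p * (Fintype.card F - 1)) ∧ InSpecSp (Fin 2) F (p * (Fintype.card F + 1)) :=
  Cfsg.Agent.Lib.Helper82_S3466_T1Lb.t1l_mixed p

/-- a regular unipotent element of `Sp₄` -/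
theorem t1l_unip : (p = 2 → InSpecSp (Fin 2) F 4) ∧ (p = 3 → InSpecSp (Fin 2) F 9) :=
  Cfsg.Agent.Lib.Helper82_S3466_T1Lc.t1l_unip p

end T1L

end Cfsg.Agent.Lib.Helper40_P4Hub
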