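import Mathlib
import Cfsg.Agent.Lib.Helper40_P4Defs
import Cfsg.Agent.Lib.Helper40_Palindromic
import Cfsg.Agent.Lib.Helper40_P4Hub

set_option autoImplicit false

/-!
The spectrum of `PSp₄(q)`: `Set.range orderOf = Spec4 p q`.
-/

namespace Cfsg.Agent.Lib.Helper40_P4Sp

open Polynomial Cfsg.Agent.Lib.Helper40_P4Defs Cfsg.Agent.Lib.Helper40_SpProj
  Cfsg.Agent.Lib.Helper40_ProjOrd Cfsg.Agent.Lib.Helper40_Palindromic
open Cfsg.Agent.Lib.Helper40_P4Hub

universe u

variable {F : Type u} [Field F] [Fintype F] (p : ℕ) [Fact p.Prime] [CharP F p]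

theorem mu4_pos {p q m : ℕ} (hp : 2 ≤ p) (hq : 2 ≤ q) (hm : m ∈ mu4 p q) : 0 < m := by
  have h1 : 1 ≤ q - 1 := by omega
  have h2 : 4 ≤ q ^ 2 := by nlinarith
  have h3 : 1 ≤ (q ^ 2 - 1) / 2 := by omega
  have h4 : 1 ≤ (q ^ 2 + 1) / 2 := by omega
  unfold mu4 at hm
  split_ifs at hm
  · simp only [List.mem_cons, List.not_mem_nil, or_false] at hm
    rcases hm with rfl | rfl | rfl | rfl | rfl <;> omega
  · simp only [List.mem_cons, List.not_mem_nil, or_false] at hm
    rcases hm with rfl | rfl | rfl | rfl | rfl <;> omega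
  · simp only [List.mem_cons, List.not_mem_nil, or_false] at hm
    rcases hm with rfl | rfl | rfl | rfl
    · exact Nat.mul_pos (by omega) (by omega)
    · exact Nat.mul_pos (by omega) (by omega)
    · omega
    · omega

omit [Fintype F] in
/-- a power of a symplectic matrix of projective order `m` has projective order `a ∣ m` -/
theorem inSpecSp_of_dvd {a m : ℕ} (hm : 0 < m) (ha : a ∣ m) (h : InSpecSp (Fin 2) F m) :
    InSpecSp (Fin 2) F a := by
  obtain ⟨M, hM, hord⟩ := h
  obtain ⟨c, rfl⟩ := ha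
  have hc : 0 < c := Nat.pos_of_mul_pos_left hm
  have ha0 : 0 < a := Nat.pos_of_mul_pos_right hm
  refine ⟨M ^ c, hM.pow c, ha0, fun j => ?_⟩
  rw [← pow_mul, hord.iff]
  constructor
  · intro h
    exact (Nat.mul_dvd_mul_iff_right hc).1 (by rwa [mul_comm c j] at h)
  · intro h
    rw [mul_comm c j]
    exact Nat.mul_dvd_mul h (dvd_refl c)

theorem upper (M : Matrix (Fin 2 ⊕ Fin 2) (Fin 2 ⊕ Fin 2) F) (hM : IsSpM M) :
    ∃ m ∈ mu4 p (Fintype.card F), IsScalarMat (M ^ m) := by
  have hmem := (isSpM_iff_mem M).1 hM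
  have hrev := charpoly_reverse_of_mem_symplectic M hmem
  have hdeg : M.charpoly.natDegree = 4 := by
    rw [Matrix.charpoly_natDegree_eq_dim]
    simp
  obtain ⟨m, hm, hdvd⟩ := quartic_dvd p M.charpoly (Matrix.charpoly_monic M) hdeg hrev
  refine ⟨m, hm, ?_⟩
  rcases hdvd with ⟨r, hr⟩ | ⟨r, hr⟩
  · have h := congrArg (aeval M) hr
    rw [map_mul, Matrix.aeval_self_charpoly, zero_mul, map_sub, map_pow, aeval_X, map_one,
      sub_eq_zero] at h
    rw [h]
    exact isScalarMat_one
  · have h := congrArg (aeval M) hr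
    rw [map_mul, Matrix.aeval_self_charpoly, zero_mul, map_add, map_pow, aeval_X, map_one,
      add_eq_zero_iff_eq_neg] at h
    rw [h]
    exact ⟨-1, by rw [neg_smul, one_smul]⟩

theorem psp4_spec (d : ℕ) (hd : (p = 2 ∧ d = 1) ∨ (p ≠ 2 ∧ d = 2)) :
    Set.range (orderOf : Cfsg.PSp 2 F → ℕ) = Spec4 p (Fintype.card F) := by
  have hp : p.Prime := Fact.out
  have hq2 : 2 ≤ Fintype.card F := Fintype.one_lt_card
  ext a
  rw [mem_range_orderOf_psp_iff]
  constructor
  · rintro ⟨M, hM, hord⟩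
    obtain ⟨m, hm, hs⟩ := upper p M hM
    exact ⟨m, hm, (hord.iff m).1 hs⟩
  · rintro ⟨m, hm, ham⟩
    have hmpos : 0 < m := mu4_pos hp.two_le hq2 hm
    apply inSpecSp_of_dvd hmpos ham
    obtain ⟨ht1, ht2⟩ := t1l_torus (F := F) p d hd
    obtain ⟨hx1, hx2⟩ := t1l_mixed (F := F) p
    obtain ⟨hu2, hu3⟩ := t1l_unip (F := F) p
    unfold mu4 at hm
    rcases hd with ⟨rfl, rfl⟩ | ⟨hp2, rfl⟩
    · rw [if_pos rfl] at hm
      simp only [List.mem_cons, List.not_mem_nil, or_false] at hm
      rw [Nat.div_one] at ht1 ht2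
      rcases hm with rfl | rfl | rfl | rfl | rfl
      · exact hu2 rfl
      · exact hx1
      · exact hx2
      · exact ht2
      · exact ht1
    · rw [if_neg hp2] at hm
      split_ifs at hm with h3
      · subst h3
        simp only [List.mem_cons, List.not_mem_nil, or_false] at hm
        rcases hm with rfl | rfl | rfl | rfl | rfl
        · exact hu3 rfl
        · exact hx1
        · exact hx2
        · exact ht2
        · exact ht1
      · simp only [List.mem_cons, List.not_mem_nil, or_false] at hm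
        rcases hm with rfl | rfl | rfl | rfl
        · exact hx1
        · exact hx2
        · exact ht2
        · exact ht1

end Cfsg.Agent.Lib.Helper40_P4Sp
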