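import Mathlib
import Cfsg.Agent.Lib.Helper40_P4Defs
import Cfsg.Agent.Lib.Helper40_P4Sp

set_option autoImplicit false

/-!
Glue lemmas for the twins of `PSp₄(q)`: from the analysis of a single matrix to `Good`, from explicit
elements to `Realizes`, and the final equality of spectra.
-/

namespace Cfsg.Agent.Lib.Helper40_P4Glue

open Polynomial Cfsg.Agent.Lib.Helper40_P4Defs
open Cfsg.Agent.Lib.Helper40_P4Hub
open scoped Matrix

theorem mem_range_orderOf_of_dvd {H : Type*} [Group H] {m n : ℕ} (hm : 0 < m)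
    (h : m ∈ Set.range (orderOf : H → ℕ)) (hn : n ∣ m) : n ∈ Set.range (orderOf : H → ℕ) := by
  obtain ⟨x, rfl⟩ := h
  obtain ⟨c, hc⟩ := hn
  have hc0 : 0 < c := by
    rcases Nat.eq_zero_or_pos c with h0 | h0
    · rw [h0, mul_zero] at hc
      omega
    · exact h0
  refine ⟨x ^ c, ?_⟩
  rw [orderOf_pow' x hc0.ne', hc, Nat.gcd_eq_right (dvd_mul_left c n), Nat.mul_div_cancel _ hc0]

theorem spec4_of_dvd {p q n m : ℕ} (hm : m ∈ mu4 p q) (hn : n ∣ m) : n ∈ Spec4 p q := ⟨m, hm, hn⟩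

/-- the final equality of spectra -/
theorem spec_eq {V : Type*} [AddCommGroup V] (p q : ℕ) (hp : 2 ≤ p) (hq : 2 ≤ q)
    (𝒮 : Submonoid (AddMonoid.End V)) {H : Type*} [Group H]
    (hH : Set.range (orderOf : H → ℕ) = {n | ∃ α ∈ 𝒮, Realizes p α n})
    (hgood : ∀ α ∈ 𝒮, Good p (Spec4 p q) α)
    (hlow : ∀ m ∈ mu4 p q, ∃ α ∈ 𝒮, Realizes p α m) :
    Set.range (orderOf : H → ℕ) = Spec4 p q := by
  apply Set.Subset.antisymm
  · intro n hn
    rw [hH] at hn
    obtain ⟨α, hα, hr⟩ := hn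
    rcases hr with rfl | ⟨rfl, hne⟩
    · exact (hgood α hα).1
    · exact (hgood α hα).2 hne
  · rintro n ⟨m, hm, hnm⟩
    have hmr : m ∈ Set.range (orderOf : H → ℕ) := by
      rw [hH]
      exact hlow m hm
    exact mem_range_orderOf_of_dvd (Cfsg.Agent.Lib.Helper40_P4Sp.mu4_pos hp hq hm) hmr hnm

section mat

variable {ι : Type*} [Fintype ι] [DecidableEq ι] {K : Type*} [Field K]

/-- the semisimple case -/
theorem good_mv (p q : ℕ) (M : Matrix ι ι K) (A B₁ B₂ : ℕ) (hA : A ∈ mu4 p q)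
    (hMA : M ^ A = 1)
    (hfix : (∃ v : ι → K, v ≠ 0 ∧ M *ᵥ v = v) → M ^ B₁ = 1 ∨ M ^ B₂ = 1)
    (hB₁ : p * B₁ ∈ mu4 p q) (hB₂ : p * B₂ ∈ mu4 p q) :
    Good p (Spec4 p q) (mvEnd ι K M) := by
  constructor
  · rw [orderOf_mvEnd]
    exact spec4_of_dvd hA (orderOf_dvd_of_pow_eq_one hMA)
  · intro hne
    rw [normSum_mvEnd_ne_zero_iff] at hne
    rw [orderOf_mvEnd]
    obtain ⟨v, hv, hfixv⟩ := exists_fixed_of_sum_ne_zero M (orderOf M) (pow_orderOf_eq_one M) hne
    rcases hfix ⟨v, hv, hfixv⟩ with h | h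
    · exact spec4_of_dvd hB₁ (Nat.mul_dvd_mul_left p (orderOf_dvd_of_pow_eq_one h))
    · exact spec4_of_dvd hB₂ (Nat.mul_dvd_mul_left p (orderOf_dvd_of_pow_eq_one h))

/-- unipotent elements, `p = 2` -/
theorem good_unip2 (q : ℕ) (M : Matrix ι ι K) (h : M ^ 2 = 1) :
    Good 2 (Spec4 2 q) (mvEnd ι K M) := by
  have h4 : 4 ∈ mu4 2 q := by
    unfold mu4
    rw [if_pos rfl]
    exact List.mem_cons_self
  have hd : orderOf M ∣ 2 := orderOf_dvd_of_pow_eq_one h
  constructor
  · rw [orderOf_mvEnd]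
    exact spec4_of_dvd h4 (hd.trans (by norm_num))
  · intro _
    rw [orderOf_mvEnd]
    exact spec4_of_dvd h4 (by
      have : 2 * orderOf M ∣ 2 * 2 := Nat.mul_dvd_mul_left 2 hd
      exact this)

/-- unipotent elements, `p = 3` -/
theorem good_unip3 (q : ℕ) (M : Matrix ι ι K) (h : M ^ 3 = 1) :
    Good 3 (Spec4 3 q) (mvEnd ι K M) := by
  have h9 : 9 ∈ mu4 3 q := by
    unfold mu4
    rw [if_neg (by norm_num), if_pos rfl]
    exact List.mem_cons_self
  have hd : orderOf M ∣ 3 := orderOf_dvd_of_pow_eq_one h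
  constructor
  · rw [orderOf_mvEnd]
    exact spec4_of_dvd h9 (hd.trans (by norm_num))
  · intro _
    rw [orderOf_mvEnd]
    exact spec4_of_dvd h9 (by
      have : 3 * orderOf M ∣ 3 * 3 := Nat.mul_dvd_mul_left 3 hd
      exact this)

/-- `∑_{i<p} X^i = (X - 1)^(p-1)` in characteristic `p` -/
theorem geom_sum_char (p : ℕ) [Fact p.Prime] [CharP K p] (M : Matrix ι ι K) :
    ∑ i ∈ Finset.range p, M ^ i = (M - 1) ^ (p - 1) := by
  have hp : p.Prime := Fact.out
  have hpoly : (∑ i ∈ Finset.range p, (X : K[X]) ^ i) = (X - 1) ^ (p - 1) := by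
    have h1 : (X - 1 : K[X]) * ∑ i ∈ Finset.range p, (X : K[X]) ^ i = (X - 1) * (X - 1) ^ (p - 1) := by
      rw [mul_geom_sum, ← pow_succ', Nat.sub_add_cancel hp.one_lt.le, sub_pow_char, one_pow]
    have hne : (X - 1 : K[X]) ≠ 0 := X_sub_C_ne_zero 1
    exact mul_left_cancel₀ hne h1
  have h := congrArg (aeval M) hpoly
  simpa using h

/-- unipotent elements, `p ≥ 5` -/
theorem good_unip5 (p q : ℕ) [Fact p.Prime] [CharP K p] (hp5 : 5 ≤ p) (M : Matrix ι ι K)
    (h : M ^ p = 1) (h3 : (M - 1) ^ 3 = 0) : Good p (Spec4 p q) (mvEnd ι K M) := by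
  have hp : p.Prime := Fact.out
  have hmem : p * (q - 1) ∈ mu4 p q := by
    unfold mu4
    rw [if_neg (by omega), if_neg (by omega)]
    exact List.mem_cons_self
  have hd : orderOf M ∣ p := orderOf_dvd_of_pow_eq_one h
  constructor
  · rw [orderOf_mvEnd]
    exact spec4_of_dvd hmem (hd.trans (dvd_mul_right _ _))
  · intro hne
    rw [normSum_mvEnd_ne_zero_iff] at hne
    rw [orderOf_mvEnd]
    rcases (Nat.dvd_prime hp).1 hd with h1 | hpo
    · rw [h1, mul_one]
      exact spec4_of_dvd hmem (dvd_mul_right _ _)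
    · exfalso
      apply hne
      rw [hpo, geom_sum_char p M]
      have : p - 1 = 3 + (p - 4) := by omega
      rw [this, pow_add, h3, zero_mul]

end mat

section fixed

variable {V : Type*} [AddCommGroup V]

theorem pow_apply_fixed (α : AddMonoid.End V) (v : V) (h : α v = v) (i : ℕ) : (α ^ i) v = v := by
  induction i with
  | zero => rfl
  | succ i ih =>
    rw [pow_succ]
    show (α ^ i) (α v) = v
    rw [h, ih]

theorem normSum_apply_fixed (α : AddMonoid.End V) (v : V) (h : α v = v) :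
    normSum α v = orderOf α • v := by
  unfold normSum
  have : ∀ s : Finset ℕ, (∑ i ∈ s, α ^ i) v = s.card • v := by
    intro s
    induction s using Finset.cons_induction with
    | empty => simp
    | cons a s ha ih =>
      rw [Finset.sum_cons, Finset.card_cons, succ_nsmul, ← ih]
      show (α ^ a) v + (∑ i ∈ s, α ^ i) v = _
      rw [pow_apply_fixed α v h, add_comm]
  rw [this, Finset.card_range]

/-- a fixed vector of an element of order prime to `p` -/
theorem realizes_of_fixed {ι : Type*} {K : Type*} [Field K] (p : ℕ) [Fact p.Prime] [CharP K p]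
    (α : AddMonoid.End (ι → K)) (n : ℕ) (hn : orderOf α = n) (hpn : ¬ p ∣ n) (v : ι → K)
    (hv : v ≠ 0) (h : α v = v) : Realizes p α (p * n) := by
  right
  refine ⟨by rw [hn], ?_⟩
  intro h0
  have h1 := normSum_apply_fixed α v h
  rw [h0, hn] at h1
  apply hv
  funext i
  have h2 := congrFun h1 i
  have h3 : (n • v) i = (n : K) * v i := by
    rw [Pi.smul_apply, nsmul_eq_mul]
  rw [h3] at h2
  have hnK : (n : K) ≠ 0 := by
    intro hz
    exact hpn ((CharP.cast_eq_zero_iff K p n).1 hz)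
  have h4 : (0 : AddMonoid.End (ι → K)) v i = 0 := rfl
  rw [h4] at h2
  rcases mul_eq_zero.1 h2.symm with h5 | h5
  · exact absurd h5 hnK
  · exact h5

end fixed

end Cfsg.Agent.Lib.Helper40_P4Glue
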