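import Mathlib
import Cfsg.Agent.Lib.Helper40_P4Defs
import Cfsg.Agent.Lib.Helper40_P4Glue

set_option autoImplicit false

/-!
The twins of `PSp₄(q)`: from a submonoid of additive endomorphisms of `ι → E` with the right
local data to finite groups of unbounded order with spectrum `Spec4 p q`; the monoids of the cases
A, C, D.
-/

namespace Cfsg.Agent.Lib.Helper40_P4Twin

open Cfsg.Agent.Lib.Helper40_P4Defs Cfsg.Agent.Lib.Helper40_P4Glue
open Cfsg.Agent.Lib.Helper40_P4Hub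
open scoped Matrix

theorem twin_of (p q : ℕ) [Fact p.Prime] {E : Type} [Field E] [Fintype E] [CharP E p] {ι : Type}
    [Fintype ι] [DecidableEq ι] [Nonempty ι] (𝒮 : Submonoid (AddMonoid.End (ι → E))) (hq : 2 ≤ q)
    (hgood : ∀ α ∈ 𝒮, Good p (Spec4 p q) α)
    (hlow : ∀ m ∈ mu4 p q, ∃ α ∈ 𝒮, Realizes p α m) (N : ℕ) :
    ∃ (H : Type) (_ : Group H) (_ : Fintype H), N < Fintype.card H ∧
      Set.range (orderOf : H → ℕ) = Spec4 p q := by
  have hp : p.Prime := Fact.out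
  have hV : ∀ v : ι → E, p • v = 0 := by
    intro v
    funext i
    rw [Pi.smul_apply, nsmul_eq_mul, CharP.cast_eq_zero, zero_mul]
    rfl
  have h𝒮 : ∀ α ∈ 𝒮, ∃ n : ℕ, 0 < n ∧ α ^ n = 1 := by
    intro α hα
    obtain ⟨m, hm, hd⟩ := (hgood α hα).1
    have hmpos := Cfsg.Agent.Lib.Helper40_P4Sp.mu4_pos hp.two_le hq hm
    exact ⟨orderOf α, Nat.pos_of_dvd_of_pos hd hmpos, pow_orderOf_eq_one α⟩
  obtain ⟨H, iG, iF, hcard, hspec⟩ := SDP p hp hV 𝒮 h𝒮 N
  exact ⟨H, iG, iF, hcard, spec_eq p q hp.two_le hq 𝒮 hspec hgood hlow⟩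

/-- the monoid of the images of `SL₂` under a matrix representation -/
def monK {E : Type} [Field E] {ι : Type} [Fintype ι] [DecidableEq ι]
    (ρ : Matrix (Fin 2) (Fin 2) E →* Matrix ι ι E) : Submonoid (AddMonoid.End (ι → E)) where
  carrier := {α | ∃ g : Matrix (Fin 2) (Fin 2) E, g.det = 1 ∧ α = mvEnd ι E (ρ g)}
  one_mem' := ⟨1, Matrix.det_one, by rw [map_one, map_one]⟩
  mul_mem' := by
    rintro _ _ ⟨g, hg, rfl⟩ ⟨h, hh, rfl⟩
    exact ⟨g * h, by rw [Matrix.det_mul, hg, hh, one_mul], by rw [map_mul, map_mul]⟩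

theorem sub_one_eq {E : Type} [Field E] (g : Matrix (Fin 2) (Fin 2) E) :
    g - 1 = g - (1 : E) • (1 : Matrix (Fin 2) (Fin 2) E) := by rw [one_smul]

theorem add_one_eq {E : Type} [Field E] (g : Matrix (Fin 2) (Fin 2) E) :
    g + 1 = g - (-1 : E) • (1 : Matrix (Fin 2) (Fin 2) E) := by
  rw [neg_smul, one_smul, sub_neg_eq_add]

section caseA

variable {E : Type} [Field E] [Fintype E] [CharP E 2] (k : ℕ)

theorem caseA [Fact (Nat.Prime 2)] (hk : 1 ≤ k) (hcard : Fintype.card E = 2 ^ (2 * k)) (N : ℕ) :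
    ∃ (H : Type) (_ : Group H) (_ : Fintype H), N < Fintype.card H ∧
      Set.range (orderOf : H → ℕ) = Spec4 2 (2 ^ k) := by
  set q := 2 ^ k with hqdef
  have hq2 : 2 ≤ q := by
    calc 2 = 2 ^ 1 := rfl
      _ ≤ 2 ^ k := Nat.pow_le_pow_right (by norm_num) hk
  have hqeven : Even q := by
    rw [hqdef]
    exact (Nat.even_pow' (by omega)).2 even_two
  have hmu : mu4 2 q = [4, 2 * (q - 1), 2 * (q + 1), q ^ 2 - 1, q ^ 2 + 1] := by
    unfold mu4
    rw [if_pos rfl]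
  set ρ := kr2 (RingHom.id E) (iterateFrobenius E 2 k) with hρ
  apply twin_of 2 q (monK ρ) hq2
  · rintro _ ⟨g, hdet, rfl⟩
    rcases an2 2 k hk hcard 1 (Or.inl ⟨rfl, rfl⟩) g hdet with hu | ⟨hA, hfix⟩
    · have hun : ρ g ^ 2 = 1 := by
        rcases hu with hu | hu
        · rw [sub_one_eq] at hu
          exact (an2_unip 2 k g 1 (Or.inl rfl) hu).2
        · rw [add_one_eq] at hu
          exact (an2_unip 2 k g (-1) (Or.inr rfl) hu).2
      exact good_unip2 q (ρ g) hun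
    · rw [Nat.div_one, Nat.div_one] at hA
      rcases hA with hA | hA
      · exact good_mv 2 q (ρ g) (q ^ 2 - 1) (q - 1) (q + 1) (by rw [hmu]; simp) hA hfix
          (by rw [hmu]; simp) (by rw [hmu]; simp)
      · exact good_mv 2 q (ρ g) (q ^ 2 + 1) (q - 1) (q + 1) (by rw [hmu]; simp) hA hfix
          (by rw [hmu]; simp) (by rw [hmu]; simp)
  · intro m hm
    rw [hmu] at hm
    simp only [List.mem_cons, List.not_mem_nil, or_false] at hm
    rcases hm with rfl | rfl | rfl | rfl | rfl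
    · obtain ⟨g, hdet, hord, hne⟩ := lba_four (E := E) k
      refine ⟨_, ⟨g, hdet, rfl⟩, Or.inr ⟨?_, ?_⟩⟩
      · rw [orderOf_mvEnd, hord]
      · rw [normSum_mvEnd_ne_zero_iff, hord, Finset.sum_range_succ, Finset.sum_range_one, pow_zero,
          pow_one]
        exact hne
    · obtain ⟨g, hdet, hord, v, hv, hfix⟩ := lba_minus (E := E) 2 k hk hcard 1 (Or.inl ⟨rfl, rfl⟩)
      rw [Nat.div_one] at hord
      refine ⟨_, ⟨g, hdet, rfl⟩, ?_⟩
      apply realizes_of_fixed 2 _ (q - 1) (by rw [orderOf_mvEnd]; exact hord) _ v hv hfix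
      obtain ⟨c, hc⟩ := hqeven
      omega
    · obtain ⟨g, hdet, hord, v, hv, hfix⟩ := lba_plus (E := E) 2 k hk hcard 1 (Or.inl ⟨rfl, rfl⟩)
      rw [Nat.div_one] at hord
      refine ⟨_, ⟨g, hdet, rfl⟩, ?_⟩
      apply realizes_of_fixed 2 _ (q + 1) (by rw [orderOf_mvEnd]; exact hord) _ v hv hfix
      obtain ⟨c, hc⟩ := hqeven
      omega
    · obtain ⟨g, hdet, hord⟩ := lb2_split (E := E) 2 k hk hcard 1 (Or.inl ⟨rfl, rfl⟩)
      rw [Nat.div_one] at hord
      exact ⟨_, ⟨g, hdet, rfl⟩, Or.inl (by rw [orderOf_mvEnd]; exact hord.symm)⟩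
    · obtain ⟨g, hdet, hord⟩ := lb2_nonsplit (E := E) 2 k hk hcard 1 (Or.inl ⟨rfl, rfl⟩)
      rw [Nat.div_one] at hord
      exact ⟨_, ⟨g, hdet, rfl⟩, Or.inl (by rw [orderOf_mvEnd]; exact hord.symm)⟩

end caseA

theorem not_dvd_pm {p k : ℕ} (hp : 2 ≤ p) (hk : 1 ≤ k) : ¬ p ∣ p ^ k - 1 ∧ ¬ p ∣ p ^ k + 1 := by
  have h3 : p ∣ p ^ k := dvd_pow_self p (by omega)
  have hpos : 1 ≤ p ^ k := Nat.one_le_pow _ _ (by omega)
  constructor
  · intro h
    have h1 : p ∣ p ^ k - (p ^ k - 1) := Nat.dvd_sub h3 h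
    have h2 : p ^ k - (p ^ k - 1) = 1 := by omega
    rw [h2] at h1
    have := Nat.le_of_dvd one_pos h1
    omega
  · intro h
    have h1 : p ∣ p ^ k + 1 - p ^ k := Nat.dvd_sub h h3
    have h2 : p ^ k + 1 - p ^ k = 1 := by omega
    rw [h2] at h1
    have := Nat.le_of_dvd one_pos h1
    omega

section caseD

variable {E : Type} [Field E] [Fintype E] [CharP E 3] [Fact (Nat.Prime 3)] (k : ℕ)

theorem caseD (hk : 1 ≤ k) (hkev : Even k) (hcard : Fintype.card E = 3 ^ (2 * k)) (N : ℕ) :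
    ∃ (H : Type) (_ : Group H) (_ : Fintype H), N < Fintype.card H ∧
      Set.range (orderOf : H → ℕ) = Spec4 3 (3 ^ k) := by
  set q := 3 ^ k with hqdef
  have hq2 : 2 ≤ q := by
    calc 2 ≤ 3 ^ 1 := by norm_num
      _ ≤ 3 ^ k := Nat.pow_le_pow_right (by norm_num) hk
  have hmu : mu4 3 q = [9, 3 * (q - 1), 3 * (q + 1), (q ^ 2 - 1) / 2, (q ^ 2 + 1) / 2] := by
    unfold mu4
    rw [if_neg (by norm_num), if_pos rfl]
  set ρ := kr4 (RingHom.id E) (iterateFrobenius E 3 k) (iterateFrobenius E 3 1)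
    (iterateFrobenius E 3 k) with hρ
  apply twin_of 3 q (monK ρ) hq2
  · rintro _ ⟨g, hdet, rfl⟩
    rcases an4 k hk hkev hcard g hdet with hu | ⟨hA, hfix⟩
    · have hun : ρ g ^ 3 = 1 := by
        rcases hu with hu | hu
        · rw [sub_one_eq] at hu
          exact an4_unip k g 1 (Or.inl rfl) hu
        · rw [add_one_eq] at hu
          exact an4_unip k g (-1) (Or.inr rfl) hu
      exact good_unip3 q (ρ g) hun
    · rcases hA with hA | hA
      · exact good_mv 3 q (ρ g) ((q ^ 2 - 1) / 2) (q - 1) (q + 1) (by rw [hmu]; simp) hA hfix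
          (by rw [hmu]; simp) (by rw [hmu]; simp)
      · exact good_mv 3 q (ρ g) ((q ^ 2 + 1) / 2) (q - 1) (q + 1) (by rw [hmu]; simp) hA hfix
          (by rw [hmu]; simp) (by rw [hmu]; simp)
  · intro m hm
    rw [hmu] at hm
    simp only [List.mem_cons, List.not_mem_nil, or_false] at hm
    rcases hm with rfl | rfl | rfl | rfl | rfl
    · obtain ⟨g, hdet, hord, hne⟩ := lbd_nine (E := E) k
      refine ⟨_, ⟨g, hdet, rfl⟩, Or.inr ⟨?_, ?_⟩⟩
      · rw [orderOf_mvEnd, hord]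
      · rw [normSum_mvEnd_ne_zero_iff, hord, Finset.sum_range_succ, Finset.sum_range_succ,
          Finset.sum_range_one, pow_zero, pow_one]
        exact hne
    · obtain ⟨g, hdet, hord, v, hv, hfix⟩ := lbd_minus (E := E) k hk hkev hcard
      refine ⟨_, ⟨g, hdet, rfl⟩, ?_⟩
      exact realizes_of_fixed 3 _ (q - 1) (by rw [orderOf_mvEnd]; exact hord) (not_dvd_pm (by norm_num) hk).1
        v hv hfix
    · obtain ⟨g, hdet, hord, v, hv, hfix⟩ := lbd_plus (E := E) k hk hkev hcard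
      refine ⟨_, ⟨g, hdet, rfl⟩, ?_⟩
      exact realizes_of_fixed 3 _ (q + 1) (by rw [orderOf_mvEnd]; exact hord) (not_dvd_pm (by norm_num) hk).2
        v hv hfix
    · obtain ⟨g, hdet, hord⟩ := lbd_split (E := E) k hk hkev hcard
      exact ⟨_, ⟨g, hdet, rfl⟩, Or.inl (by rw [orderOf_mvEnd]; exact hord.symm)⟩
    · obtain ⟨g, hdet, hord⟩ := lbd_nonsplit (E := E) k hk hkev hcard
      exact ⟨_, ⟨g, hdet, rfl⟩, Or.inl (by rw [orderOf_mvEnd]; exact hord.symm)⟩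

end caseD

section caseC

variable {E : Type} [Field E] [Fintype E]

/-- the monoid `{ρ g} ∪ {ρ g ∘ Ψ}` of case C -/
def monC (φ : E →+* E) (hφ : φ.comp φ = RingHom.id E) :
    Submonoid (AddMonoid.End (Fin 2 × Fin 2 → E)) where
  carrier := {α | ∃ g : Matrix (Fin 2) (Fin 2) E, g.det = 1 ∧
    (α = mvEnd (Fin 2 × Fin 2) E (kr2 (RingHom.id E) φ g) ∨ α = cosetEnd φ g)}
  one_mem' := ⟨1, Matrix.det_one, Or.inl (by rw [map_one, map_one])⟩
  mul_mem' := by
    rintro _ _ ⟨g, hg, rfl | rfl⟩ ⟨h, hh, rfl | rfl⟩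
    · exact ⟨g * h, by rw [Matrix.det_mul, hg, hh, one_mul], Or.inl (by rw [map_mul, map_mul])⟩
    · exact ⟨g * h, by rw [Matrix.det_mul, hg, hh, one_mul], Or.inr (co_mul φ hφ g h).2.2⟩
    · refine ⟨g * φ.mapMatrix h, ?_, Or.inr (co_mul φ hφ g h).2.1⟩
      rw [Matrix.det_mul, hg, ← RingHom.map_det, hh, map_one, one_mul]
    · refine ⟨g * φ.mapMatrix h, ?_, Or.inl (co_mul φ hφ g h).1⟩
      rw [Matrix.det_mul, hg, ← RingHom.map_det, hh, map_one, one_mul]

theorem caseC (p : ℕ) [Fact p.Prime] [CharP E p] (k : ℕ) (hp5 : 5 ≤ p) (hk : 1 ≤ k)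
    (hcard : Fintype.card E = p ^ (2 * k)) (N : ℕ) :
    ∃ (H : Type) (_ : Group H) (_ : Fintype H), N < Fintype.card H ∧
      Set.range (orderOf : H → ℕ) = Spec4 p (p ^ k) := by
  set q := p ^ k with hqdef
  have hq2 : 2 ≤ q := by
    calc 2 ≤ p ^ 1 := by rw [pow_one]; omega
      _ ≤ p ^ k := Nat.pow_le_pow_right (by omega) hk
  have hp2 : p ≠ 2 := by omega
  have hmu : mu4 p q = [p * (q - 1), p * (q + 1), (q ^ 2 - 1) / 2, (q ^ 2 + 1) / 2] := by
    unfold mu4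
    rw [if_neg (by omega), if_neg (by omega)]
  set φ := iterateFrobenius E p k with hφdef
  have hφ : φ.comp φ = RingHom.id E := frob_frob p k hcard
  apply twin_of p q (monC φ hφ) hq2
  · rintro _ ⟨g, hdet, rfl | rfl⟩
    · rcases an2 p k hk hcard 2 (Or.inr ⟨hp2, rfl⟩) g hdet with hu | ⟨hA, hfix⟩
      · have hun : (kr2 (RingHom.id E) φ g - 1) ^ 3 = 0 ∧ kr2 (RingHom.id E) φ g ^ p = 1 := by
          rcases hu with hu | hu
          · rw [sub_one_eq] at hu
            exact an2_unip p k g 1 (Or.inl rfl) hu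
          · rw [add_one_eq] at hu
            exact an2_unip p k g (-1) (Or.inr rfl) hu
        exact good_unip5 p q hp5 _ hun.2 hun.1
      · rcases hA with hA | hA
        · exact good_mv p q _ ((q ^ 2 - 1) / 2) (q - 1) (q + 1) (by rw [hmu]; simp) hA hfix
            (by rw [hmu]; simp) (by rw [hmu]; simp)
        · exact good_mv p q _ ((q ^ 2 + 1) / 2) (q - 1) (q + 1) (by rw [hmu]; simp) hA hfix
            (by rw [hmu]; simp) (by rw [hmu]; simp)
    · exact co_good p k hp5 hk hcard g hdet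
  · intro m hm
    rw [hmu] at hm
    simp only [List.mem_cons, List.not_mem_nil, or_false] at hm
    rcases hm with rfl | rfl | rfl | rfl
    · obtain ⟨g, hdet, hord, v, hv, hfix⟩ := lbc_minus (E := E) p k hp2 hk hcard
      refine ⟨_, ⟨g, hdet, Or.inr rfl⟩, ?_⟩
      exact realizes_of_fixed p _ (q - 1) hord (not_dvd_pm (by omega) hk).1 v hv hfix
    · obtain ⟨g, hdet, hord, v, hv, hfix⟩ := lbc_plus (E := E) p k hp2 hk hcard
      refine ⟨_, ⟨g, hdet, Or.inr rfl⟩, ?_⟩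
      exact realizes_of_fixed p _ (q + 1) hord (not_dvd_pm (by omega) hk).2 v hv hfix
    · obtain ⟨g, hdet, hord⟩ := lb2_split (E := E) p k hk hcard 2 (Or.inr ⟨hp2, rfl⟩)
      exact ⟨_, ⟨g, hdet, Or.inl rfl⟩, Or.inl (by rw [orderOf_mvEnd]; exact hord.symm)⟩
    · obtain ⟨g, hdet, hord⟩ := lb2_nonsplit (E := E) p k hk hcard 2 (Or.inr ⟨hp2, rfl⟩)
      exact ⟨_, ⟨g, hdet, Or.inl rfl⟩, Or.inl (by rw [orderOf_mvEnd]; exact hord.symm)⟩

end caseC

end Cfsg.Agent.Lib.Helper40_P4Twin
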