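import Mathlib
import Cfsg.Agent.Lib.Helper40_P4Defs
import Cfsg.Agent.Lib.Helper40_P4Sp
import Cfsg.Agent.Lib.Helper40_P4Twin

set_option autoImplicit false

/-!
`PSp₄(q)` has isospectral groups of unbounded order, for `q ≥ 3` not an odd power `> 3` of `3`.
-/

namespace Cfsg.Agent.Lib.Helper40_P4Main

open Cfsg.Agent.Lib.Helper40_P4Defs Cfsg.Agent.Lib.Helper40_P4Twin
open Cfsg.Agent.Lib.Helper40_P4Hub

/-- a finite field with `p ^ (2 * k)` elements, in `Type` -/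
theorem exists_E (p : ℕ) [Fact p.Prime] (k : ℕ) (hk : 1 ≤ k) :
    ∃ (E : Type) (_ : Field E) (_ : Fintype E) (_ : CharP E p),
      Fintype.card E = p ^ (2 * k) := by
  have : Fintype (GaloisField p (2 * k)) := Fintype.ofFinite _
  refine ⟨GaloisField p (2 * k), inferInstance, inferInstance, inferInstance, ?_⟩
  rw [← Nat.card_eq_fintype_card, GaloisField.card p (2 * k) (by omega)]

theorem twin (p : ℕ) [Fact p.Prime] (k : ℕ) (hk : 1 ≤ k) (h3 : 3 ≤ p ^ k)
    (hq : ∀ t : ℕ, 1 ≤ t → p ^ k ≠ 3 ^ (2 * t + 1)) (N : ℕ) :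
    ∃ (H : Type) (_ : Group H) (_ : Fintype H), N < Fintype.card H ∧
      Set.range (orderOf : H → ℕ) = Spec4 p (p ^ k) := by
  have hp : p.Prime := Fact.out
  obtain ⟨E, iF, iT, iC, hcard⟩ := exists_E p k hk
  by_cases hp2 : p = 2
  · subst hp2
    exact caseA k hk hcard N
  by_cases hp3 : p = 3
  · subst hp3
    rcases Nat.even_or_odd k with hev | hodd
    · exact caseD k hk hev hcard N
    · obtain ⟨t, rfl⟩ := hodd
      rcases Nat.eq_zero_or_pos t with rfl | ht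
      · exact caseB N
      · exact absurd rfl (hq t ht)
  · have hp5 : 5 ≤ p := by
      have h2 := hp.two_le
      by_contra hlt
      have h4 : p = 4 := by omega
      rw [h4] at hp
      exact absurd hp (by norm_num)
    exact caseC p k hp5 hk hcard N

theorem main {F : Type*} [Field F] [Fintype F] (h3 : 3 ≤ Fintype.card F)
    (hq : ∀ t : ℕ, 1 ≤ t → Fintype.card F ≠ 3 ^ (2 * t + 1)) (N : ℕ) :
    ∃ (H : Type) (_ : Group H) (_ : Fintype H), N < Fintype.card H ∧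
      Set.range (orderOf : H → ℕ) = Set.range (orderOf : Cfsg.PSp 2 F → ℕ) := by
  obtain ⟨p, hchar⟩ := CharP.exists F
  obtain ⟨k, hp, hcard⟩ := FiniteField.card F p
  have : Fact p.Prime := ⟨hp⟩
  have hd : ∃ d : ℕ, (p = 2 ∧ d = 1) ∨ (p ≠ 2 ∧ d = 2) := by
    by_cases h : p = 2
    · exact ⟨1, Or.inl ⟨h, rfl⟩⟩
    · exact ⟨2, Or.inr ⟨h, rfl⟩⟩
  obtain ⟨d, hd⟩ := hd
  rw [Cfsg.Agent.Lib.Helper40_P4Sp.psp4_spec p d hd, hcard]
  rw [hcard] at h3 hq
  exact twin p k k.pos h3 hq N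

end Cfsg.Agent.Lib.Helper40_P4Main
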