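import Mathlib

set_option autoImplicit false

/-!
Elementary facts on `PGL_n(F) = GL_n(F) / Z`: equality and conjugacy of cosets in terms of
matrices.
-/

namespace Cfsg.Agent.Lib.Helper40_PGLBasic

open Matrix

universe v

variable {F : Type v} [Field F] {n : ℕ}

theorem mem_center_iff (z : GL (Fin n) F) :
    z ∈ Subgroup.center (GL (Fin n) F) ↔
      ∃ c : F, (z : Matrix (Fin n) (Fin n) F) = c • (1 : Matrix (Fin n) (Fin n) F) := by
  rw [Matrix.GeneralLinearGroup.mem_center_iff_val_mem_range_scalar]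
  constructor
  · rintro ⟨c, hc⟩
    exact ⟨c, by rw [← hc, Matrix.scalar_apply, Matrix.smul_one_eq_diagonal]⟩
  · rintro ⟨c, hc⟩
    exact ⟨c, by rw [hc, Matrix.scalar_apply, Matrix.smul_one_eq_diagonal]⟩

theorem val_ne_zero (hn : 0 < n) (g : GL (Fin n) F) : (g : Matrix (Fin n) (Fin n) F) ≠ 0 := by
  intro h
  have h1 : (g : Matrix (Fin n) (Fin n) F) * ((g⁻¹ : GL (Fin n) F) : Matrix (Fin n) (Fin n) F) = 1 :=
    Units.mul_inv g
  rw [h, Matrix.zero_mul] at h1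
  have := congrFun (congrFun h1 ⟨0, hn⟩) ⟨0, hn⟩
  simp at this

theorem mk_eq_mk_iff (hn : 0 < n) (g h : GL (Fin n) F) :
    (QuotientGroup.mk g : GL (Fin n) F ⧸ Subgroup.center (GL (Fin n) F)) = QuotientGroup.mk h ↔
      ∃ c : F, c ≠ 0 ∧
        (h : Matrix (Fin n) (Fin n) F) = c • (g : Matrix (Fin n) (Fin n) F) := by
  rw [QuotientGroup.eq, mem_center_iff]
  constructor
  · rintro ⟨c, hc⟩
    refine ⟨c, ?_, ?_⟩
    · rintro rfl
      rw [zero_smul] at hc
      exact val_ne_zero hn _ hc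
    · have h1 : (h : Matrix (Fin n) (Fin n) F) =
          (g : Matrix (Fin n) (Fin n) F) * ((g⁻¹ * h : GL (Fin n) F) : Matrix (Fin n) (Fin n) F) := by
        rw [← Units.val_mul, mul_inv_cancel_left]
      rw [h1, hc, Matrix.mul_smul, Matrix.mul_one]
  · rintro ⟨c, _, hc⟩
    refine ⟨c, ?_⟩
    rw [Units.val_mul, hc, Matrix.mul_smul, ← Units.val_mul, inv_mul_cancel, Units.val_one]

theorem isConj_mk_iff (hn : 0 < n) (g h : GL (Fin n) F) :
    IsConj (QuotientGroup.mk g : GL (Fin n) F ⧸ Subgroup.center (GL (Fin n) F))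
        (QuotientGroup.mk h) ↔
      ∃ (p : GL (Fin n) F) (c : F), c ≠ 0 ∧
        (p : Matrix (Fin n) (Fin n) F) * (g : Matrix (Fin n) (Fin n) F) =
          c • ((h : Matrix (Fin n) (Fin n) F) * (p : Matrix (Fin n) (Fin n) F)) := by
  rw [isConj_iff]
  constructor
  · rintro ⟨x, hx⟩
    obtain ⟨p, rfl⟩ := QuotientGroup.mk_surjective x
    rw [← QuotientGroup.mk_inv, ← QuotientGroup.mk_mul, ← QuotientGroup.mk_mul,
      mk_eq_mk_iff hn] at hx
    obtain ⟨c, hc0, hc⟩ := hx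
    refine ⟨p, c⁻¹, inv_ne_zero hc0, ?_⟩
    rw [hc, Matrix.smul_mul, smul_smul, inv_mul_cancel₀ hc0, one_smul, ← Units.val_mul,
      ← Units.val_mul, inv_mul_cancel_right]
  · rintro ⟨p, c, hc0, hc⟩
    refine ⟨QuotientGroup.mk p, ?_⟩
    rw [← QuotientGroup.mk_inv, ← QuotientGroup.mk_mul, ← QuotientGroup.mk_mul,
      mk_eq_mk_iff hn]
    refine ⟨c⁻¹, inv_ne_zero hc0, ?_⟩
    rw [Units.val_mul, Units.val_mul, hc, Matrix.smul_mul, smul_smul, inv_mul_cancel₀ hc0,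
      one_smul, Matrix.mul_assoc, ← Units.val_mul, mul_inv_cancel, Units.val_one,
      Matrix.mul_one]

theorem orderOf_mk_eq_two_iff (g : GL (Fin n) F) :
    orderOf (QuotientGroup.mk g : GL (Fin n) F ⧸ Subgroup.center (GL (Fin n) F)) = 2 ↔
      (∃ z : F, (g : Matrix (Fin n) (Fin n) F) * (g : Matrix (Fin n) (Fin n) F) =
        z • (1 : Matrix (Fin n) (Fin n) F)) ∧
      ¬ ∃ c : F, (g : Matrix (Fin n) (Fin n) F) = c • (1 : Matrix (Fin n) (Fin n) F) := by
  have : Fact (2 : ℕ).Prime := ⟨Nat.prime_two⟩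
  rw [orderOf_eq_prime_iff, ← QuotientGroup.mk_pow, QuotientGroup.eq_one_iff, Ne,
    QuotientGroup.eq_one_iff, mem_center_iff, mem_center_iff, sq, Units.val_mul]

end Cfsg.Agent.Lib.Helper40_PGLBasic
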