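import Mathlib
import Cfsg.Agent.Lib.Helper40_PGLDefs
import Cfsg.Agent.Lib.Helper40_ProjOrd

set_option autoImplicit false

/-!
# S3452 package PGLL (architect helper40): `PGL₂(F)` has elements of order `q - 1`, `q + 1`, `p`
-/

open scoped Matrix
open Cfsg.Agent.Lib.Helper40_PGLDefs Cfsg.Agent.Lib.Helper40_ProjOrd

namespace Cfsg.Agent.Lib.Helper43_S3452_PGLL

variable {F : Type*} [Field F]

/-- a power of the class of `g` in `PGL₂` is trivial iff that power of `g` is a scalar matrix -/
theorem mk_pow_eq_one_iff (g : Matrix.GeneralLinearGroup (Fin 2) F) (j : ℕ) :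
    ((QuotientGroup.mk g : Matrix.GeneralLinearGroup (Fin 2) F ⧸
        Subgroup.center (Matrix.GeneralLinearGroup (Fin 2) F)) ^ j = 1) ↔
      ∃ c : F, ((g : Matrix (Fin 2) (Fin 2) F)) ^ j = c • (1 : Matrix (Fin 2) (Fin 2) F) := by
  rw [← QuotientGroup.mk_pow, QuotientGroup.eq_one_iff,
    Matrix.GeneralLinearGroup.mem_center_iff_val_mem_range_scalar]
  constructor
  · rintro ⟨c, hc⟩
    refine ⟨c, ?_⟩
    rw [← Units.val_pow_eq_pow_val, ← hc, Matrix.scalar_apply, Matrix.smul_one_eq_diagonal]
  · rintro ⟨c, hc⟩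
    refine ⟨c, ?_⟩
    rw [Units.val_pow_eq_pow_val, hc, Matrix.scalar_apply, Matrix.smul_one_eq_diagonal]

/-- the order of the class of `g` from its scalar powers -/
theorem orderOf_mk_eq (g : Matrix.GeneralLinearGroup (Fin 2) F) (n : ℕ)
    (h : ∀ j : ℕ, (∃ c : F, ((g : Matrix (Fin 2) (Fin 2) F)) ^ j =
      c • (1 : Matrix (Fin 2) (Fin 2) F)) ↔ n ∣ j) :
    orderOf (QuotientGroup.mk g : Matrix.GeneralLinearGroup (Fin 2) F ⧸
        Subgroup.center (Matrix.GeneralLinearGroup (Fin 2) F)) = n := by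
  apply Nat.dvd_antisymm
  · apply orderOf_dvd_of_pow_eq_one
    rw [mk_pow_eq_one_iff, h]
  · rw [← h, ← mk_pow_eq_one_iff]
    exact pow_orderOf_eq_one _

/-- a scalar `2 × 2` matrix: entries -/
theorem smul_one_entries (c : F) (A : Matrix (Fin 2) (Fin 2) F)
    (h : A = c • (1 : Matrix (Fin 2) (Fin 2) F)) :
    A 0 0 = c ∧ A 0 1 = 0 ∧ A 1 0 = 0 ∧ A 1 1 = c := by
  subst h
  simp

theorem unip_pow (j : ℕ) :
    (!![1, 1; 0, 1] : Matrix (Fin 2) (Fin 2) F) ^ j = !![1, (j : F); 0, 1] := by
  induction j with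
  | zero =>
    ext a b
    fin_cases a <;> fin_cases b <;> simp
  | succ k ih =>
    rw [pow_succ, ih]
    ext a b
    fin_cases a <;> fin_cases b <;> simp [Matrix.mul_apply, Fin.sum_univ_two, add_comm]

theorem diag_pow' (c : F) (j : ℕ) :
    (!![c, 0; 0, 1] : Matrix (Fin 2) (Fin 2) F) ^ j = !![c ^ j, 0; 0, 1] := by
  induction j with
  | zero =>
    ext a b
    fin_cases a <;> fin_cases b <;> simp
  | succ k ih =>
    rw [pow_succ, ih]
    ext a b
    fin_cases a <;> fin_cases b <;> simp [Matrix.mul_apply, Fin.sum_univ_two, pow_succ]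

/-- S3452-PGLL -/
theorem pgl2_lower {F : Type*} [Field F] [Fintype F] (p : ℕ) [Fact p.Prime] [CharP F p] :
    (∃ x : Matrix.GeneralLinearGroup (Fin 2) F ⧸ Subgroup.center (Matrix.GeneralLinearGroup (Fin 2) F),
      orderOf x = Fintype.card F - 1) ∧
    (∃ x : Matrix.GeneralLinearGroup (Fin 2) F ⧸ Subgroup.center (Matrix.GeneralLinearGroup (Fin 2) F),
      orderOf x = Fintype.card F + 1) ∧
    (∃ x : Matrix.GeneralLinearGroup (Fin 2) F ⧸ Subgroup.center (Matrix.GeneralLinearGroup (Fin 2) F),
      orderOf x = p) := by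
  classical
  have hq : 1 < Fintype.card F := Fintype.one_lt_card
  refine ⟨?_, ?_, ?_⟩
  · -- diag(c, 1), `c` a generator of the multiplicative group
    obtain ⟨u, hu⟩ := IsCyclic.exists_ofOrder_eq_natCard (α := Fˣ)
    rw [Nat.card_units, Nat.card_eq_fintype_card] at hu
    have hdet : (!![(u : F), 0; 0, 1] : Matrix (Fin 2) (Fin 2) F).det ≠ 0 := by
      rw [Matrix.det_fin_two_of]
      simp
    refine ⟨QuotientGroup.mk (Matrix.GeneralLinearGroup.mkOfDetNeZero _ hdet), ?_⟩
    apply orderOf_mk_eq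
    intro j
    show (∃ c : F, (!![(u : F), 0; 0, 1] : Matrix (Fin 2) (Fin 2) F) ^ j = c • 1) ↔ _
    rw [diag_pow', ← hu, orderOf_dvd_iff_pow_eq_one]
    constructor
    · rintro ⟨c, hc⟩
      obtain ⟨h00, -, -, h11⟩ := smul_one_entries c _ hc
      simp only [Matrix.of_apply, Matrix.cons_val', Matrix.cons_val_zero, Matrix.cons_val_one,
        Matrix.cons_val_fin_one] at h00 h11
      apply Units.ext
      rw [Units.val_pow_eq_pow_val, h00, ← h11, Units.val_one]
    · intro h
      refine ⟨1, ?_⟩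
      have h' : ((u : F)) ^ j = 1 := by
        rw [← Units.val_pow_eq_pow_val, h, Units.val_one]
      rw [h', one_smul]
      ext a b
      fin_cases a <;> fin_cases b <;> simp
  · -- Singer element
    have hfr : Module.finrank F (FiniteField.Extension F p 2) = 2 :=
      FiniteField.finrank_extension F p 2
    set b : Module.Basis (Fin 2) F (FiniteField.Extension F p 2) :=
      Module.finBasisOfFinrankEq F _ hfr with hb
    have hcardK : Nat.card (FiniteField.Extension F p 2) = Fintype.card F ^ 2 := by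
      rw [FiniteField.natCard_extension, Nat.card_eq_fintype_card]
    obtain ⟨z, hz⟩ := IsCyclic.exists_ofOrder_eq_natCard (α := (FiniteField.Extension F p 2)ˣ)
    rw [Nat.card_units, hcardK] at hz
    have hnorm : ∀ x : FiniteField.Extension F p 2,
        algebraMap F _ (Algebra.norm F x) = x ^ (Fintype.card F + 1) := by
      intro x
      rw [FiniteField.algebraMap_norm_eq_pow_sum, hfr, Finset.sum_range_succ,
        Finset.sum_range_one, pow_zero, pow_one, Nat.card_eq_fintype_card, add_comm]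
    have hdet : (Algebra.leftMulMatrix b ((z : (FiniteField.Extension F p 2)ˣ) :
        FiniteField.Extension F p 2)).det ≠ 0 := by
      rw [← Algebra.norm_eq_matrix_det]
      intro h0
      rw [Algebra.norm_eq_zero_iff] at h0
      exact z.ne_zero h0
    refine ⟨QuotientGroup.mk (Matrix.GeneralLinearGroup.mkOfDetNeZero _ hdet), ?_⟩
    apply orderOf_mk_eq
    intro j
    show (∃ c : F, (Algebra.leftMulMatrix b ((z : (FiniteField.Extension F p 2)ˣ) :
        FiniteField.Extension F p 2)) ^ j = c • 1) ↔ _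
    rw [← map_pow]
    constructor
    · rintro ⟨c, hc⟩
      have h1 : ((z : (FiniteField.Extension F p 2)ˣ) : FiniteField.Extension F p 2) ^ j =
          algebraMap F _ c := by
        apply Algebra.leftMulMatrix_injective b
        rw [hc, AlgHom.commutes, Algebra.algebraMap_eq_smul_one]
      have hc0 : c ≠ 0 := by
        rintro rfl
        rw [map_zero] at h1
        exact (pow_ne_zero j z.ne_zero) h1
      have h2 : z ^ (j * (Fintype.card F - 1)) = 1 := by
        apply Units.ext
        rw [Units.val_pow_eq_pow_val, pow_mul, h1, ← map_pow,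
          FiniteField.pow_card_sub_one_eq_one c hc0, map_one, Units.val_one]
      rw [← orderOf_dvd_iff_pow_eq_one, hz] at h2
      have h3 : Fintype.card F ^ 2 - 1 = (Fintype.card F + 1) * (Fintype.card F - 1) := by
        obtain ⟨m, hm⟩ : ∃ m, Fintype.card F = m + 1 := ⟨Fintype.card F - 1, by omega⟩
        rw [hm, Nat.add_sub_cancel]
        have : (m + 1) ^ 2 = (m + 1 + 1) * m + 1 := by ring
        rw [this, Nat.add_sub_cancel]
      rw [h3] at h2
      exact Nat.dvd_of_mul_dvd_mul_right (by omega) h2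
    · rintro ⟨k, rfl⟩
      refine ⟨(Algebra.norm F ((z : (FiniteField.Extension F p 2)ˣ) :
        FiniteField.Extension F p 2)) ^ k, ?_⟩
      rw [pow_mul, ← hnorm, ← map_pow, AlgHom.commutes, Algebra.algebraMap_eq_smul_one]
  · -- the unipotent element
    have hdet : (!![1, 1; 0, 1] : Matrix (Fin 2) (Fin 2) F).det ≠ 0 := by
      rw [Matrix.det_fin_two_of]
      simp
    refine ⟨QuotientGroup.mk (Matrix.GeneralLinearGroup.mkOfDetNeZero _ hdet), ?_⟩
    apply orderOf_mk_eq
    intro j
    show (∃ c : F, (!![1, 1; 0, 1] : Matrix (Fin 2) (Fin 2) F) ^ j = c • 1) ↔ _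
    rw [unip_pow, ← CharP.cast_eq_zero_iff F p j]
    constructor
    · rintro ⟨c, hc⟩
      obtain ⟨-, h01, -, -⟩ := smul_one_entries c _ hc
      simpa using h01
    · intro h
      refine ⟨1, ?_⟩
      rw [h, one_smul]
      ext a b
      fin_cases a <;> fin_cases b <;> simp

end Cfsg.Agent.Lib.Helper43_S3452_PGLL
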