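import Mathlib
import Cfsg.Agent.Lib.Helper40_PGLDefs

set_option autoImplicit false
open scoped Matrix
open Cfsg.Agent.Lib.Helper40_PGLDefs

/-!
# S3452-GEOB: the circle `E` meets the plane `tr (M X) = tr (Y X)` only in `Y`
-/

namespace Cfsg.Agent.Lib.Helper54_S3452_GEOB

theorem two_ne_zero' (p : ℕ) [Fact p.Prime] (hp2 : p ≠ 2) : (2 : ZMod p) ≠ 0 := by
  intro h
  have h2 : ((2 : ℕ) : ZMod p) = 0 := by exact_mod_cast h
  rw [ZMod.natCast_eq_zero_iff] at h2
  have hp : p.Prime := Fact.out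
  have := (Nat.prime_dvd_prime_iff_eq hp Nat.prime_two).mp h2
  exact hp2 this

/-- S3452-GEOB (1) -/
theorem YY_inE (p : ℕ) [Fact p.Prime] (δ a b a' b' : ZMod p) (h1 : a ^ 2 - δ * b ^ 2 = δ) :
    InE p δ a b a' b' (YY p δ a b) := by
  unfold InE YY
  simp only [Matrix.of_apply, Matrix.cons_val', Matrix.cons_val_zero, Matrix.cons_val_one,
    Matrix.cons_val_fin_one]
  refine ⟨by ring, ?_, by ring⟩
  linear_combination h1

/-- S3452-GEOB (2). -/
theorem inE_unique (p : ℕ) [Fact p.Prime] (hp2 : p ≠ 2) (δ a b a' b' x₁ x₂ : ZMod p)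
    (hδ0 : δ ≠ 0) (h1 : a ^ 2 - δ * b ^ 2 = δ) (hx : x₁ * b' - x₂ * a' ≠ 0) (M : M2 p)
    (hM : InE p δ a b a' b' M)
    (hMx : 2 * x₁ * M 0 0 + x₂ * (M 1 0 - δ * M 0 1) = 2 * x₁ * a - 2 * δ * x₂ * b) :
    M = YY p δ a b := by
  obtain ⟨ht, hd, hl⟩ := hM
  have h2 := two_ne_zero' p hp2
  have hu : M 0 0 = a := by
    have : (2 * (x₁ * b' - x₂ * a')) * (M 0 0 - a) = 0 := by
      linear_combination b' * hMx - x₂ * hl
    rcases mul_eq_zero.mp this with h | h
    · exact absurd h (mul_ne_zero h2 hx)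
    · exact sub_eq_zero.mp h
  have hw : M 1 0 - δ * M 0 1 = -2 * δ * b := by
    have : (x₁ * b' - x₂ * a') * (M 1 0 - δ * M 0 1 + 2 * δ * b) = 0 := by
      have e1 : 2 * ((x₁ * b' - x₂ * a') * (M 1 0 - δ * M 0 1 + 2 * δ * b)) = 0 := by
        linear_combination 2 * x₁ * hl - 2 * a' * hMx
      rcases mul_eq_zero.mp e1 with h | h
      · exact absurd h h2
      · exact h
    rcases mul_eq_zero.mp this with h | h
    · exact absurd h hx
    · linear_combination h
  have h01 : M 0 1 = b := by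
    have : δ * ((M 0 1 - b) * (M 0 1 - b)) = 0 := by
      rw [hu] at hd
      linear_combination hd - h1 - M 0 1 * hw
    rcases mul_eq_zero.mp this with h | h
    · exact absurd h hδ0
    · rcases mul_eq_zero.mp h with h | h <;> exact sub_eq_zero.mp h
  have h10 : M 1 0 = -δ * b := by
    rw [h01] at hw
    linear_combination hw
  have h11 : M 1 1 = -a := by
    rw [hu] at ht
    linear_combination ht
  unfold YY
  apply Matrix.ext
  intro i j
  fin_cases i <;> fin_cases j
  · simpa using hu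
  · simpa using h01
  · simpa using h10
  · simpa using h11

end Cfsg.Agent.Lib.Helper54_S3452_GEOB
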