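import Mathlib
import Cfsg.Agent.Lib.Helper40_PGLDefs
import Cfsg.Agent.Lib.Helper54_S3452_GEOB

set_option autoImplicit false
open scoped Matrix
open Cfsg.Agent.Lib.Helper40_PGLDefs

/-!
# S3452-GEOA: the indicator of the circle `E` is cuspidal
-/

namespace Cfsg.Agent.Lib.Helper54_S3452_GEOA

open Cfsg.Agent.Lib.Helper54_S3452_GEOB

/-- a quadratic with non-zero leading coefficient and non-zero discriminant has 0 or 2 roots -/
theorem quad_roots {K : Type*} [Field K] [Fintype K] [DecidableEq K] (c0 c1 c2 : K) (h2 : c2 ≠ 0)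
    (hD : c1 ^ 2 - 4 * c2 * c0 ≠ 0) :
    (Finset.univ.filter fun s : K => c0 + c1 * s + c2 * s ^ 2 = 0).card = 0 ∨
    (Finset.univ.filter fun s : K => c0 + c1 * s + c2 * s ^ 2 = 0).card = 2 := by
  by_cases h : ∃ s1, c0 + c1 * s1 + c2 * s1 ^ 2 = 0
  · obtain ⟨s1, hs1⟩ := h
    right
    obtain ⟨s2, hs2⟩ : ∃ s2 : K, c2 * s2 = -c1 - c2 * s1 :=
      ⟨(-c1 - c2 * s1) / c2, by field_simp⟩
    have hne : s1 ≠ s2 := by
      intro heq
      apply hD
      have E : 2 * c2 * s1 + c1 = 0 := by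
        rw [← heq] at hs2
        linear_combination hs2
      linear_combination (c1 + 2 * c2 * s1) * E - 4 * c2 * hs1
    have hset : (Finset.univ.filter fun s : K => c0 + c1 * s + c2 * s ^ 2 = 0) = {s1, s2} := by
      ext s
      simp only [Finset.mem_filter, Finset.mem_univ, true_and, Finset.mem_insert,
        Finset.mem_singleton]
      have hfac : c0 + c1 * s + c2 * s ^ 2 = c2 * ((s - s1) * (s - s2)) := by
        linear_combination hs1 + (s - s1) * hs2
      rw [hfac]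
      constructor
      · intro h
        rcases mul_eq_zero.mp h with h | h
        · exact absurd h h2
        · rcases mul_eq_zero.mp h with h | h
          · left; exact sub_eq_zero.mp h
          · right; exact sub_eq_zero.mp h
      · rintro (rfl | rfl) <;> simp
    rw [hset, Finset.card_pair hne]
  · left
    rw [Finset.card_eq_zero, Finset.filter_eq_empty_iff]
    intro s _ hs
    exact h ⟨s, hs⟩

/-- a trace zero matrix of "norm" a non-square has no isotropic vector orthogonal to it -/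
theorem mu_ne_zero (p : ℕ) [Fact p.Prime] (δ m1 m2 m3 n1 n2 n3 : ZMod p) (hδ : ¬ IsSquare δ)
    (hR1 : m1 ^ 2 + m2 * m3 = δ) (hR2 : n1 ^ 2 + n2 * n3 = 0)
    (hn : ¬ (n1 = 0 ∧ n2 = 0 ∧ n3 = 0)) :
    2 * m1 * n1 + m2 * n3 + m3 * n2 ≠ 0 := by
  intro hμ
  by_cases h2 : n2 = 0
  · subst h2
    have h1 : n1 = 0 := by
      have : n1 ^ 2 = 0 := by linear_combination hR2
      exact pow_eq_zero_iff (n := 2) (by norm_num) |>.mp this
    subst h1
    have h3 : n3 ≠ 0 := fun h => hn ⟨rfl, rfl, h⟩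
    have hm2 : m2 = 0 := by
      have : m2 * n3 = 0 := by linear_combination hμ
      rcases mul_eq_zero.mp this with h | h
      · exact h
      · exact absurd h h3
    apply hδ
    exact ⟨m1, by rw [← hR1, hm2]; ring⟩
  · apply hδ
    have e : (m1 * n2 - m2 * n1) ^ 2 = δ * n2 ^ 2 := by
      linear_combination n2 ^ 2 * hR1 - m2 * n2 * hμ + m2 ^ 2 * hR2
    refine ⟨(m1 * n2 - m2 * n1) / n2, ?_⟩
    field_simp
    linear_combination -e


theorem conj_one (p : ℕ) [Fact p.Prime] (N : M2 p) (hN : N * N = 0) (s : ZMod p) :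
    (1 - s • N) * (1 + s • N) = 1 := by
  have : (1 - s • N) * (1 + s • N) = 1 - (s * s) • (N * N) := by
    simp only [sub_mul, mul_add, one_mul, mul_one, Matrix.smul_mul, Matrix.mul_smul, smul_smul]
    abel
  rw [this, hN, smul_zero, sub_zero]

theorem conj_one' (p : ℕ) [Fact p.Prime] (N : M2 p) (hN : N * N = 0) (s : ZMod p) :
    (1 + s • N) * (1 - s • N) = 1 := by
  have : (1 + s • N) * (1 - s • N) = 1 - (s * s) • (N * N) := by
    simp only [add_mul, mul_sub, one_mul, mul_one, Matrix.smul_mul, Matrix.mul_smul, smul_smul]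
    abel
  rw [this, hN, smul_zero, sub_zero]

theorem conj_trace (p : ℕ) [Fact p.Prime] (N M : M2 p) (hN : N * N = 0) (s : ZMod p) :
    ((1 + s • N) * M * (1 - s • N)) 0 0 + ((1 + s • N) * M * (1 - s • N)) 1 1
      = M 0 0 + M 1 1 := by
  rw [← Matrix.trace_fin_two, ← Matrix.trace_fin_two, Matrix.trace_mul_comm, ← mul_assoc,
    conj_one p N hN, one_mul]

theorem conj_det (p : ℕ) [Fact p.Prime] (N M : M2 p) (hN : N * N = 0) (s : ZMod p) :
    ((1 + s • N) * M * (1 - s • N)) 0 0 * ((1 + s • N) * M * (1 - s • N)) 1 1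
      - ((1 + s • N) * M * (1 - s • N)) 0 1 * ((1 + s • N) * M * (1 - s • N)) 1 0
      = M 0 0 * M 1 1 - M 0 1 * M 1 0 := by
  rw [← Matrix.det_fin_two, ← Matrix.det_fin_two, Matrix.det_mul, Matrix.det_mul, mul_comm,
    ← mul_assoc, ← Matrix.det_mul, conj_one p N hN, Matrix.det_one, one_mul]

/-- the linear functional `tr (· Y')` along the orbit is a quadratic polynomial in `s` -/
theorem conj_lin (p : ℕ) [Fact p.Prime] (N M : M2 p) (hN4 : N 1 1 = -N 0 0)
    (hM4 : M 1 1 = -M 0 0) (s y1 y2 y3 : ZMod p) :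
    2 * y1 * ((1 + s • N) * M * (1 - s • N)) 0 0 + y2 * ((1 + s • N) * M * (1 - s • N)) 1 0
      + y3 * ((1 + s • N) * M * (1 - s • N)) 0 1
      = (2 * M 0 0 * y1 + M 0 1 * y3 + M 1 0 * y2)
        + (-2 * M 0 0 * N 0 1 * y3 + 2 * M 0 0 * N 1 0 * y2 + 2 * M 0 1 * N 0 0 * y3
            - 2 * M 0 1 * N 1 0 * y1 - 2 * M 1 0 * N 0 0 * y2 + 2 * M 1 0 * N 0 1 * y1) * s
        + (-2 * M 0 0 * N 0 0 * N 0 1 * y3 - 2 * M 0 0 * N 0 0 * N 1 0 * y2
            - 2 * M 0 0 * N 0 0 ^ 2 * y1 + 2 * M 0 0 * N 0 1 * N 1 0 * y1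
            - 2 * M 0 1 * N 0 0 * N 1 0 * y1 + M 0 1 * N 0 0 ^ 2 * y3 - M 0 1 * N 1 0 ^ 2 * y2
            - 2 * M 1 0 * N 0 0 * N 0 1 * y1 + M 1 0 * N 0 0 ^ 2 * y2
            - M 1 0 * N 0 1 ^ 2 * y3) * s ^ 2 := by
  simp only [Matrix.mul_apply, Fin.sum_univ_two, Matrix.add_apply, Matrix.sub_apply,
    Matrix.smul_apply, Matrix.one_apply_eq, Matrix.one_apply_ne, smul_eq_mul, ne_eq,
    zero_ne_one, one_ne_zero, not_false_eq_true, Fin.isValue]
  rw [hN4, hM4]
  ring

/-- entries of a non-zero square-zero two by two matrix -/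
theorem sq_zero_entries (p : ℕ) [Fact p.Prime] (N : M2 p) (hN : N * N = 0) (hN0 : N ≠ 0) :
    N 1 1 = -N 0 0 ∧ N 0 0 ^ 2 + N 0 1 * N 1 0 = 0 ∧ ¬ (N 0 0 = 0 ∧ N 0 1 = 0 ∧ N 1 0 = 0) := by
  have hN00 : N 0 0 * N 0 0 + N 0 1 * N 1 0 = 0 := by
    have := congrFun (congrFun hN 0) 0
    simpa [Matrix.mul_apply, Fin.sum_univ_two] using this
  have hN01 : N 0 0 * N 0 1 + N 0 1 * N 1 1 = 0 := by
    have := congrFun (congrFun hN 0) 1
    simpa [Matrix.mul_apply, Fin.sum_univ_two] using this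
  have hN10 : N 1 0 * N 0 0 + N 1 1 * N 1 0 = 0 := by
    have := congrFun (congrFun hN 1) 0
    simpa [Matrix.mul_apply, Fin.sum_univ_two] using this
  have hN11 : N 1 0 * N 0 1 + N 1 1 * N 1 1 = 0 := by
    have := congrFun (congrFun hN 1) 1
    simpa [Matrix.mul_apply, Fin.sum_univ_two] using this
  have hN4 : N 1 1 = -N 0 0 := by
    by_contra hcon
    have hs : N 0 0 + N 1 1 ≠ 0 := fun h => hcon (by linear_combination h)
    have h2 : N 0 1 = 0 := by
      have : N 0 1 * (N 0 0 + N 1 1) = 0 := by linear_combination hN01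
      rcases mul_eq_zero.mp this with h | h
      · exact h
      · exact absurd h hs
    have h3 : N 1 0 = 0 := by
      have : N 1 0 * (N 0 0 + N 1 1) = 0 := by linear_combination hN10
      rcases mul_eq_zero.mp this with h | h
      · exact h
      · exact absurd h hs
    have h1 : N 0 0 = 0 := by
      have : N 0 0 ^ 2 = 0 := by
        rw [h2] at hN00
        linear_combination hN00
      exact pow_eq_zero_iff (n := 2) (by norm_num) |>.mp this
    have h4 : N 1 1 = 0 := by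
      have : N 1 1 ^ 2 = 0 := by
        rw [h2] at hN11
        linear_combination hN11
      exact pow_eq_zero_iff (n := 2) (by norm_num) |>.mp this
    apply hN0
    apply Matrix.ext
    intro i j
    fin_cases i <;> fin_cases j <;> simp [h1, h2, h3, h4]
  refine ⟨hN4, by linear_combination hN00, ?_⟩
  rintro ⟨h1, h2, h3⟩
  apply hN0
  apply Matrix.ext
  intro i j
  fin_cases i <;> fin_cases j <;> simp [h1, h2, h3, hN4]

/-- S3452-GEOA (1). -/
theorem fE_orbit_card_le_two (p : ℕ) [Fact p.Prime] (hp2 : p ≠ 2) (δ a b a' b' : ZMod p)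
    (hδ : ¬ IsSquare δ) (h1 : a ^ 2 - δ * b ^ 2 = δ) (h2 : a' ^ 2 - δ * b' ^ 2 = δ)
    (hind : a * b' - a' * b ≠ 0) (N : M2 p) (hN : N * N = 0) (hN0 : N ≠ 0) (M : M2 p) :
    (Finset.univ.filter fun s : ZMod p =>
      InE p δ a b a' b' ((1 + s • N) * M * (1 - s • N))).card = 0 ∨
    (Finset.univ.filter fun s : ZMod p =>
      InE p δ a b a' b' ((1 + s • N) * M * (1 - s • N))).card = 2 := by
  obtain ⟨hN4, hR2, hn⟩ := sq_zero_entries p N hN hN0
  have htwo := two_ne_zero' p hp2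
  by_cases hM : M 0 0 + M 1 1 = 0 ∧ M 0 0 * M 0 0 + M 0 1 * M 1 0 = δ
  · obtain ⟨hM4', hR1'⟩ := hM
    have hM4 : M 1 1 = -M 0 0 := by linear_combination hM4'
    have hR1 : M 0 0 ^ 2 + M 0 1 * M 1 0 = δ := by linear_combination hR1'
    have hRY : a' ^ 2 + b' * (-δ * b') = δ := by linear_combination h2
    -- abbreviations
    set m1 := M 0 0 with hm1
    set m2 := M 0 1 with hm2
    set m3 := M 1 0 with hm3
    set n1 := N 0 0 with hn1
    set n2 := N 0 1 with hn2
    set n3 := N 1 0 with hn3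
    have hμ : 2 * m1 * n1 + m2 * n3 + m3 * n2 ≠ 0 :=
      mu_ne_zero p δ m1 m2 m3 n1 n2 n3 hδ hR1 hR2 hn
    have hν : 2 * a' * n1 + b' * n3 + (-δ * b') * n2 ≠ 0 :=
      mu_ne_zero p δ a' b' (-δ * b') n1 n2 n3 hδ hRY hR2 hn
    set μ := 2 * m1 * n1 + m2 * n3 + m3 * n2 with hμdef
    set ν := 2 * a' * n1 + b' * n3 + (-δ * b') * n2 with hνdef
    set e' := 2 * a * a' - 2 * δ * b * b' with he'
    set t := 2 * m1 * a' + m2 * (-δ * b') + m3 * b' with ht
    set c1 := -2 * m1 * n2 * (-δ * b') + 2 * m1 * n3 * b' + 2 * m2 * n1 * (-δ * b')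
            - 2 * m2 * n3 * a' - 2 * m3 * n1 * b' + 2 * m3 * n2 * a' with hc1
    set c2 := -2 * m1 * n1 * n2 * (-δ * b') - 2 * m1 * n1 * n3 * b'
            - 2 * m1 * n1 ^ 2 * a' + 2 * m1 * n2 * n3 * a'
            - 2 * m2 * n1 * n3 * a' + m2 * n1 ^ 2 * (-δ * b') - m2 * n3 ^ 2 * b'
            - 2 * m3 * n1 * n2 * a' + m3 * n1 ^ 2 * b'
            - m3 * n2 ^ 2 * (-δ * b') with hc2
    have hc2' : c2 = -(μ * ν) := by
      rw [hc2, hμdef, hνdef]
      linear_combination (2 * m1 * a' + m2 * (-δ * b') + m3 * b') * hR2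
    have hD : c1 ^ 2 - 4 * c2 * (t - e') = 4 * (δ * μ ^ 2 - e' * μ * ν + δ * ν ^ 2) := by
      rw [hc2, hc1, hμdef, hνdef, ht]
      linear_combination 4 * (2 * m1 * n1 + m2 * n3 + m3 * n2) ^ 2 * hRY
        + 4 * (2 * a' * n1 + b' * n3 + (-δ * b') * n2) ^ 2 * hR1
        + (4 * e' * (2 * m1 * a' + m2 * (-δ * b') + m3 * b')
            - 16 * (m1 ^ 2 + m2 * m3) * (a' ^ 2 + b' * (-δ * b'))) * hR2
    have hiff : ∀ s : ZMod p, InE p δ a b a' b' ((1 + s • N) * M * (1 - s • N)) ↔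
        (t - e') + c1 * s + c2 * s ^ 2 = 0 := by
      intro s
      have hT := conj_trace p N M hN s
      have hDt := conj_det p N M hN s
      have hL := conj_lin p N M hN4 hM4 s a' b' (-δ * b')
      unfold InE
      set X := (1 + s • N) * M * (1 - s • N) with hX
      have e1 : X 0 0 + X 1 1 = 0 := by rw [hT]; exact hM4'
      have e2 : X 0 0 * X 0 0 + X 0 1 * X 1 0 = δ := by
        linear_combination X 0 0 * e1 - hDt + hR1' - m1 * hM4'
      constructor
      · rintro ⟨_, _, e3⟩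
        linear_combination e3 - hL
      · intro h
        refine ⟨e1, e2, ?_⟩
        linear_combination h + hL
    rw [Finset.filter_congr (fun s _ => hiff s)]
    apply quad_roots
    · rw [hc2']
      exact neg_ne_zero.mpr (mul_ne_zero hμ hν)
    · rw [hD]
      intro hZ
      have hZ' : δ * μ ^ 2 - e' * μ * ν + δ * ν ^ 2 = 0 := by
        rcases mul_eq_zero.mp hZ with h | h
        · exfalso
          have : (4 : ZMod p) = 2 * 2 := by norm_num
          rw [this] at h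
          exact mul_ne_zero htwo htwo h
        · exact h
      have hw : 2 * (a * b' - a' * b) * ν ≠ 0 := mul_ne_zero (mul_ne_zero htwo hind) hν
      have hsq : (2 * δ * μ - e' * ν) ^ 2 = δ * (2 * (a * b' - a' * b) * ν) ^ 2 := by
        rw [he']
        linear_combination 4 * δ * hZ' + 4 * ν ^ 2 * ((a ^ 2 - δ * b ^ 2) * h2 + δ * h1)
      apply hδ
      refine ⟨(2 * δ * μ - e' * ν) / (2 * (a * b' - a' * b) * ν), ?_⟩
      field_simp
      linear_combination -hsq
  · left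
    rw [Finset.card_eq_zero, Finset.filter_eq_empty_iff]
    intro s _ hs
    apply hM
    have hT := conj_trace p N M hN s
    have hDt := conj_det p N M hN s
    unfold InE at hs
    set X := (1 + s • N) * M * (1 - s • N) with hX
    obtain ⟨e1, e2, _⟩ := hs
    have hM4' : M 0 0 + M 1 1 = 0 := by rw [← hT]; exact e1
    refine ⟨hM4', ?_⟩
    linear_combination M 0 0 * hM4' + hDt - X 0 0 * e1 + e2


/-- S3452-GEOA (2). -/
theorem fE_cusp (p : ℕ) [Fact p.Prime] (hp2 : p ≠ 2) (δ a b a' b' : ZMod p)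
    (hδ : ¬ IsSquare δ) (h1 : a ^ 2 - δ * b ^ 2 = δ) (h2 : a' ^ 2 - δ * b' ^ 2 = δ)
    (hind : a * b' - a' * b ≠ 0) : IsCusp p (fE p δ a b a' b') := by
  intro N hN hN0 M
  unfold fE
  rw [Finset.sum_boole]
  rcases fE_orbit_card_le_two p hp2 δ a b a' b' hδ h1 h2 hind N hN hN0 M with h | h
  · rw [h]
    simp
  · rw [h]
    decide

end Cfsg.Agent.Lib.Helper54_S3452_GEOA
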