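import Mathlib
import Cfsg.Agent.Lib.Helper40_PGLDefs
import Cfsg.Agent.Lib.Helper40_ProjOrd

/-!
# S3452-UNIP (architect helper40): scalars act trivially on the cuspidal module, unipotent elements
have order dividing `p` there and zero norm sum.
-/

set_option autoImplicit false
open scoped Matrix
open Cfsg.Agent.Lib.Helper40_PGLDefs Cfsg.Agent.Lib.Helper40_ProjOrd

namespace Cfsg.Agent.Lib.Helper5_S3452_UNIP

/-- sums over `range p` of a function of the residue are sums over `ZMod p`. -/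
theorem sum_range_eq_sum_zmod (p : ℕ) [NeZero p] {A : Type*} [AddCommMonoid A] (g : ZMod p → A) :
    ∑ i ∈ Finset.range p, g (i : ZMod p) = ∑ s : ZMod p, g s := by
  apply Finset.sum_bij (fun (i : ℕ) _ => ((i : ℕ) : ZMod p))
  · intro a _
    exact Finset.mem_univ _
  · intro a ha b hb h
    have := (ZMod.natCast_eq_natCast_iff' a b p).1 h
    rwa [Nat.mod_eq_of_lt (Finset.mem_range.1 ha), Nat.mod_eq_of_lt (Finset.mem_range.1 hb)] at this
  · intro s _
    exact ⟨s.val, Finset.mem_range.2 (ZMod.val_lt s), ZMod.natCast_zmod_val s⟩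
  · intro a _
    rfl

/-- `(1 + N)^i = 1 + i N` for `N² = 0`. -/
theorem one_add_pow_of_sq_zero (p : ℕ) (N : M2 p) (hN : N * N = 0) (i : ℕ) :
    (1 + N) ^ i = 1 + (i : ZMod p) • N := by
  induction i with
  | zero => simp
  | succ i ih =>
    rw [pow_succ, ih, add_mul, mul_add, mul_add]
    simp only [one_mul, mul_one, Matrix.smul_mul, hN, smul_zero, add_zero, Nat.cast_succ, add_smul,
      one_smul]
    abel

/-- the matrix of a power of `u = ε (1 + N)`. -/
theorem coe_pow_of_unip (p : ℕ) [Fact p.Prime] (N : M2 p) (hN : N * N = 0) (u : SL2 p) (ε : ZMod p)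
    (hu : (u : M2 p) = ε • (1 + N)) (i : ℕ) :
    ((u ^ i : SL2 p) : M2 p) = ε ^ i • (1 + (i : ZMod p) • N) := by
  rw [Matrix.SpecialLinearGroup.coe_pow, hu, smul_pow, one_add_pow_of_sq_zero p N hN]

/-- the matrix of the inverse of a power of `u = ε (1 + N)`. -/
theorem coe_inv_pow_of_unip (p : ℕ) [Fact p.Prime] (N : M2 p) (hN : N * N = 0) (u : SL2 p)
    (ε : ZMod p) (hε : ε * ε = 1) (hu : (u : M2 p) = ε • (1 + N)) (i : ℕ) :
    (((u ^ i)⁻¹ : SL2 p) : M2 p) = ε ^ i • (1 - (i : ZMod p) • N) := by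
  have h1 := inv_mul_coe p (u ^ i)
  have h2 : ((u ^ i : SL2 p) : M2 p) * (ε ^ i • (1 - (i : ZMod p) • N)) = 1 := by
    rw [coe_pow_of_unip p N hN u ε hu, Matrix.smul_mul, Matrix.mul_smul, smul_smul, ← mul_pow, hε,
      one_pow, one_smul]
    have h3 : ((i : ZMod p) • N) * ((i : ZMod p) • N) = 0 := by
      rw [Matrix.smul_mul, Matrix.mul_smul, hN, smul_zero, smul_zero]
    generalize (i : ZMod p) • N = X at h3
    calc (1 + X) * (1 - X) = 1 - X * X := by noncomm_ring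
      _ = 1 := by rw [h3, sub_zero]
  calc (((u ^ i)⁻¹ : SL2 p) : M2 p)
      = (((u ^ i)⁻¹ : SL2 p) : M2 p) * (((u ^ i : SL2 p) : M2 p) *
          (ε ^ i • (1 - (i : ZMod p) • N))) := by rw [h2, mul_one]
    _ = ε ^ i • (1 - (i : ZMod p) • N) := by rw [← mul_assoc, h1, one_mul]

/-- conjugation by a power of `u = ε (1 + N)`. -/
theorem conj_pow_of_unip (p : ℕ) [Fact p.Prime] (N : M2 p) (hN : N * N = 0) (u : SL2 p)
    (ε : ZMod p) (hε : ε * ε = 1) (hu : (u : M2 p) = ε • (1 + N)) (i : ℕ) (M : M2 p) :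
    (((u ^ i)⁻¹ : SL2 p) : M2 p) * M * ((u ^ i : SL2 p) : M2 p) =
      (1 + (i : ZMod p) • (-N)) * M * (1 - (i : ZMod p) • (-N)) := by
  rw [coe_inv_pow_of_unip p N hN u ε hε hu, coe_pow_of_unip p N hN u ε hu, Matrix.smul_mul,
    Matrix.smul_mul, Matrix.mul_smul, smul_smul, ← mul_pow, hε, one_pow, one_smul, smul_neg,
    sub_neg_eq_add, ← sub_eq_add_neg]

/-- a sign `ε` with `u = ε (1 + N)`. -/
theorem exists_sign (p : ℕ) (N : M2 p) (u : SL2 p)
    (hu : (u : M2 p) = 1 + N ∨ (u : M2 p) = -(1 + N)) :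
    ∃ ε : ZMod p, (ε = 1 ∨ ε = -1) ∧ ε * ε = 1 ∧ (u : M2 p) = ε • (1 + N) := by
  rcases hu with h | h
  · exact ⟨1, Or.inl rfl, by ring, by rw [h, one_smul]⟩
  · exact ⟨-1, Or.inr rfl, by ring, by rw [h, neg_smul, one_smul]⟩

/-- S3452-UNIP (1) -/
theorem rho_of_scalar (p : ℕ) [Fact p.Prime] (z : SL2 p) (hz : (z : M2 p) = 1 ∨ (z : M2 p) = -1) :
    rho p z = 1 := by
  refine DFunLike.ext _ _ fun v => Subtype.ext ?_
  funext M
  rw [rho_apply]
  show (v : M2 p → ZMod 2) _ = (v : M2 p → ZMod 2) M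
  congr 1
  have h1 := inv_mul_coe p z
  rcases hz with h | h
  · rw [h, mul_one] at h1
    rw [h1, h, one_mul, mul_one]
  · rw [h, mul_neg, mul_one, neg_eq_iff_eq_neg] at h1
    rw [h1, h]
    simp

/-- S3452-UNIP (2) -/
theorem unip_pow (p : ℕ) [Fact p.Prime] (N : M2 p) (hN : N * N = 0) (u : SL2 p)
    (hu : (u : M2 p) = 1 + N ∨ (u : M2 p) = -(1 + N)) : (rho p u) ^ p = 1 := by
  obtain ⟨ε, hε1, hε, hu'⟩ := exists_sign p N u hu
  rw [← map_pow]
  apply rho_of_scalar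
  rw [coe_pow_of_unip p N hN u ε hu', ZMod.natCast_self, zero_smul, add_zero]
  rcases hε1 with rfl | rfl
  · left
    rw [one_pow, one_smul]
  · rcases neg_one_pow_eq_or (ZMod p) p with h | h
    · left
      rw [h, one_smul]
    · right
      rw [h, neg_smul, one_smul]

/-- S3452-UNIP (3). -/
theorem unip_sum (p : ℕ) [Fact p.Prime] (N : M2 p) (hN : N * N = 0) (hN0 : N ≠ 0) (u : SL2 p)
    (hu : (u : M2 p) = 1 + N ∨ (u : M2 p) = -(1 + N)) :
    ∑ i ∈ Finset.range p, (rho p u) ^ i = 0 := by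
  obtain ⟨ε, hε1, hε, hu'⟩ := exists_sign p N u hu
  haveI : NeZero p := ⟨(Fact.out : p.Prime).ne_zero⟩
  refine DFunLike.ext _ _ fun v => Subtype.ext ?_
  funext M
  let ev : AddMonoid.End (cuspSub p) →+ (M2 p → ZMod 2) :=
    { toFun := fun f => ((f v : cuspSub p) : M2 p → ZMod 2)
      map_zero' := rfl
      map_add' := fun _ _ => rfl }
  show ev (∑ i ∈ Finset.range p, (rho p u) ^ i) M = 0
  rw [map_sum, Finset.sum_apply]
  show ∑ i ∈ Finset.range p, (((rho p u) ^ i) v : M2 p → ZMod 2) M = 0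
  have h3 : ∀ i ∈ Finset.range p, (((rho p u) ^ i) v : M2 p → ZMod 2) M =
      (v : M2 p → ZMod 2) ((1 + (i : ZMod p) • (-N)) * M * (1 - (i : ZMod p) • (-N))) := by
    intro i _
    rw [rho_pow_apply, conj_pow_of_unip p N hN u ε hε hu']
  rw [Finset.sum_congr rfl h3]
  rw [sum_range_eq_sum_zmod p
    (fun s : ZMod p => (v : M2 p → ZMod 2) ((1 + s • (-N)) * M * (1 - s • (-N))))]
  have hN' : (-N) * (-N) = 0 := by rw [neg_mul_neg, hN]
  have hN0' : -N ≠ 0 := neg_ne_zero.mpr hN0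
  exact v.2 (-N) hN' hN0' M

end Cfsg.Agent.Lib.Helper5_S3452_UNIP
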