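import Mathlib
import Cfsg.Agent.Lib.Helper40_PGLDefs
import Cfsg.Agent.Lib.Helper40_ProjOrd
import Cfsg.Agent.Lib.Helper5_S3452_UNIP

/-!
# S3452-FAITH (architect helper40): the kernel of the action on the cuspidal module is `±1`.
-/

set_option autoImplicit false
open scoped Matrix
open Cfsg.Agent.Lib.Helper40_PGLDefs Cfsg.Agent.Lib.Helper40_ProjOrd

namespace Cfsg.Agent.Lib.Helper5_S3452_FAITH

open Cfsg.Agent.Lib.Helper5_S3452_UNIP

/-- central elements of `SL₂(p)` are `±1`. -/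
theorem coe_of_mem_center (p : ℕ) [Fact p.Prime] (z : SL2 p)
    (hz : z ∈ Subgroup.center (SL2 p)) : (z : M2 p) = 1 ∨ (z : M2 p) = -1 := by
  obtain ⟨r, hr, hrz⟩ := Matrix.SpecialLinearGroup.mem_center_iff.mp hz
  rw [Fintype.card_fin, sq] at hr
  rcases mul_self_eq_one_iff.mp hr with h | h
  · left
    rw [← hrz, h]
    simp
  · right
    rw [← hrz, h, map_neg, map_one]

/-- S3452-FAITH. -/
theorem rho_faithful (p : ℕ) [Fact p.Prime] (hp5 : 5 ≤ p) (hnt : ∃ u : SL2 p, rho p u ≠ 1)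
    (g : SL2 p) (hg : rho p g = 1) : (g : M2 p) = 1 ∨ (g : M2 p) = -1 := by
  have hcard : 4 ≤ Nat.card (ZMod p) := by
    rw [Nat.card_eq_fintype_card, ZMod.card]
    omega
  haveI hsimple : IsSimpleGroup (Matrix.ProjectiveSpecialLinearGroup (Fin 2) (ZMod p)) :=
    Matrix.ProjectiveSpecialLinearGroup.rank_two_simple hcard
  set π : SL2 p →* Matrix.ProjectiveSpecialLinearGroup (Fin 2) (ZMod p) :=
    QuotientGroup.mk' (Subgroup.center (SL2 p)) with hπ
  have hπs : Function.Surjective π := QuotientGroup.mk'_surjective _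
  have hKn : ((rho p).ker.map π).Normal := Subgroup.Normal.map inferInstance π hπs
  rcases hKn.eq_bot_or_eq_top with hbot | htop
  · apply coe_of_mem_center
    have h1 : π g ∈ (rho p).ker.map π := Subgroup.mem_map_of_mem π (MonoidHom.mem_ker.mpr hg)
    rw [hbot, Subgroup.mem_bot] at h1
    exact (QuotientGroup.eq_one_iff g).mp h1
  · exfalso
    obtain ⟨u, hu⟩ := hnt
    apply hu
    have h1 : π u ∈ (rho p).ker.map π := by rw [htop]; exact Subgroup.mem_top _
    obtain ⟨κ, hκ, hκu⟩ := h1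
    have h2 : κ⁻¹ * u ∈ Subgroup.center (SL2 p) := by
      rw [← QuotientGroup.eq]
      exact hκu
    have h3 : rho p (κ⁻¹ * u) = 1 := rho_of_scalar p _ (coe_of_mem_center p _ h2)
    have h4 : u = κ * (κ⁻¹ * u) := by group
    rw [h4, map_mul, h3, MonoidHom.mem_ker.mp hκ, mul_one]

end Cfsg.Agent.Lib.Helper5_S3452_FAITH
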