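import Mathlib
import Cfsg.Agent.Lib.Helper40_PGLDefs
import Cfsg.Agent.Lib.Helper40_ProjOrd
import Cfsg.Agent.Lib.Helper5_S3452_UNIP

/-!
# S3452-NT (architect helper40): the action on the cuspidal module is nontrivial.
-/

set_option autoImplicit false
open scoped Matrix
open Cfsg.Agent.Lib.Helper40_PGLDefs Cfsg.Agent.Lib.Helper40_ProjOrd

namespace Cfsg.Agent.Lib.Helper5_S3452_NT

open Cfsg.Agent.Lib.Helper5_S3452_UNIP

/-- S3452-NT. -/
theorem rho_nontrivial_of (p : ℕ) [Fact p.Prime] (hp5 : 5 ≤ p) (v : cuspSub p) (Y : M2 p)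
    (hY : (v : M2 p → ZMod 2) Y = 1)
    (hle : ∀ N : M2 p, N * N = 0 → N ≠ 0 → (Finset.univ.filter fun s : ZMod p =>
      (v : M2 p → ZMod 2) ((1 + s • N) * Y * (1 - s • N)) = 1).card ≤ 2) :
    ∃ u : SL2 p, rho p u ≠ 1 := by
  haveI : NeZero p := ⟨(Fact.out : p.Prime).ne_zero⟩
  set N₀ : M2 p := Matrix.single 0 1 1 with hN₀
  have hN : N₀ * N₀ = 0 := by
    rw [hN₀, Matrix.single_mul_single_of_ne]
    decide
  have hN0 : N₀ ≠ 0 := by
    intro h
    have h1 : N₀ 0 1 = 1 := by simp [hN₀]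
    rw [h] at h1
    simp at h1
  set u : SL2 p := Matrix.SpecialLinearGroup.transvection (i := (0 : Fin 2)) (j := 1)
    (by decide) (1 : ZMod p) with hu
  have hu' : (u : M2 p) = (1 : ZMod p) • (1 + N₀) := by
    rw [hu, Matrix.SpecialLinearGroup.transvection_coe, one_smul]
  refine ⟨u, fun h1 => ?_⟩
  have hall : ∀ s : ZMod p, (v : M2 p → ZMod 2) ((1 + s • (-N₀)) * Y * (1 - s • (-N₀))) = 1 := by
    intro s
    have h2 : ((rho p u) ^ s.val) v = v := by
      rw [h1, one_pow]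
      rfl
    have h3 := congrArg (fun w : cuspSub p => (w : M2 p → ZMod 2) Y) h2
    change (((rho p u) ^ s.val) v : M2 p → ZMod 2) Y = (v : M2 p → ZMod 2) Y at h3
    rw [rho_pow_apply, conj_pow_of_unip p N₀ hN u 1 (by ring) hu', ZMod.natCast_zmod_val] at h3
    rw [h3, hY]
  have hN' : (-N₀) * (-N₀) = 0 := by rw [neg_mul_neg, hN]
  have hN0' : -N₀ ≠ 0 := neg_ne_zero.mpr hN0
  have h4 := hle (-N₀) hN' hN0'
  rw [Finset.filter_true_of_mem (fun s _ => hall s), Finset.card_univ, ZMod.card] at h4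
  omega

end Cfsg.Agent.Lib.Helper5_S3452_NT
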