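import Mathlib
import Cfsg.Agent.Lib.Helper40_P4Defs
import Cfsg.Agent.Lib.Helper49_S3466_SDP

/-!
# S3452-NINE (helper61, package for helper40's S3452)

Groups of unbounded order with the spectrum `{n | n ∣ 8 ∨ n ∣ 10 ∨ n ∣ 3}` of `PGL₂(9)`:
`Helper49_S3466_SDP.SDP` with `V = Fin 4 → ZMod 3` and the Frobenius complement `C₅ ⋊ C₈ ≤ GL₄(3)`
generated by `A` (order 5) and `C` (order 8, `C A = A ^ 3 C`, `C ^ 4 = -1`).  Only the four defining
relations are checked on the matrices; everything else is algebra in a ring.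
-/

set_option autoImplicit false

namespace Cfsg.Agent.Lib.Helper61_S3452_NINE

open Cfsg.Agent.Lib.Helper40_P4Defs
open scoped Matrix

/-! ### The abstract part: a ring with `a ^ 5 = 1`, `c ^ 4 = -1`, `c a = a ^ 3 c` -/

section abstract

variable {R : Type*} [Ring R] {a c : R}

theorem c_mul_pow (r3 : c * a = a ^ 3 * c) (k : ℕ) : c * a ^ k = a ^ (3 * k) * c := by
  induction k with
  | zero => simp
  | succ k ih =>
    have e : 3 * (k + 1) = 3 * k + 3 := by ring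
    rw [pow_succ, ← mul_assoc, ih, mul_assoc, r3, ← mul_assoc, ← pow_add, e]

theorem pow_c_mul_pow (r3 : c * a = a ^ 3 * c) (j k : ℕ) :
    c ^ j * a ^ k = a ^ (3 ^ j * k) * c ^ j := by
  induction j generalizing k with
  | zero => simp
  | succ j ih =>
    have e : 3 ^ (j + 1) * k = 3 ^ j * (3 * k) := by ring
    rw [pow_succ c j, mul_assoc, c_mul_pow r3, ← mul_assoc, ih, mul_assoc, e]

theorem mul_formula (r3 : c * a = a ^ 3 * c) (i j k l : ℕ) :
    (a ^ i * c ^ j) * (a ^ k * c ^ l) = a ^ (i + 3 ^ j * k) * c ^ (j + l) := by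
  rw [mul_assoc, ← mul_assoc (c ^ j), pow_c_mul_pow r3, mul_assoc, ← pow_add, ← mul_assoc,
    ← pow_add]

theorem c8 (r2 : c ^ 4 = -1) : c ^ 8 = 1 := by
  rw [show 8 = 4 * 2 from rfl, pow_mul, r2, neg_one_sq]

theorem cpow_four (r2 : c ^ 4 = -1) (j : ℕ) (h : j % 8 = 4) : c ^ j = -1 := by
  rw [pow_eq_pow_mod j (c8 r2), h, r2]

theorem cpow_zero (r2 : c ^ 4 = -1) (j : ℕ) (h : j % 8 = 0) : c ^ j = 1 := by
  rw [pow_eq_pow_mod j (c8 r2), h, pow_zero]

theorem apow_dvd (r1 : a ^ 5 = 1) (i : ℕ) (h : 5 ∣ i) : a ^ i = 1 := by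
  obtain ⟨m, rfl⟩ := h
  rw [pow_mul, r1, one_pow]

theorem five_dvd (j : ℕ) (h : j % 4 = 2) : 5 ∣ 1 + 3 ^ j := by
  obtain ⟨m, rfl⟩ : ∃ m, j = 4 * m + 2 := ⟨j / 4, by omega⟩
  have h1 : 3 ^ (4 * m + 2) = 81 ^ m * 9 := by
    rw [pow_add, pow_mul]; norm_num
  have h2 : 81 ^ m % 5 = 1 := by
    rw [Nat.pow_mod]; norm_num
  rw [h1]
  omega

/-- elements `a ^ i c ^ j` with `j ≡ 2 mod 4` square to `-1` -/
theorem sq_eq (r1 : a ^ 5 = 1) (r2 : c ^ 4 = -1) (r3 : c * a = a ^ 3 * c) (i j : ℕ)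
    (h : j % 4 = 2) : (a ^ i * c ^ j) ^ 2 = -1 := by
  rw [pow_two, mul_formula r3]
  have h1 : 5 ∣ i + 3 ^ j * i := by
    have : i + 3 ^ j * i = (1 + 3 ^ j) * i := by ring
    rw [this]
    exact Dvd.dvd.mul_right (five_dvd j h) i
  rw [apow_dvd r1 _ h1, one_mul]
  exact cpow_four r2 _ (by omega)

/-- elements `a ^ i c ^ j` with `j` odd have fourth power `-1` -/
theorem fourth_eq (r1 : a ^ 5 = 1) (r2 : c ^ 4 = -1) (r3 : c * a = a ^ 3 * c) (i j : ℕ)
    (h : j % 2 = 1) : (a ^ i * c ^ j) ^ 4 = -1 := by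
  rw [show 4 = 2 * 2 from rfl, pow_mul, pow_two (a ^ i * c ^ j), mul_formula r3]
  exact sq_eq r1 r2 r3 _ _ (by omega)

theorem geom_perm (r1 : a ^ 5 = 1) (r4 : 1 + a + a ^ 2 + a ^ 3 + a ^ 4 = 0) (i : ℕ)
    (hi : i % 5 ≠ 0) : ∑ k ∈ Finset.range 5, (a ^ i) ^ k = 0 := by
  have h6 : a ^ 6 = a := by rw [pow_eq_pow_mod 6 r1]; norm_num
  have h8 : a ^ 8 = a ^ 3 := by rw [pow_eq_pow_mod 8 r1]
  have h9 : a ^ 9 = a ^ 4 := by rw [pow_eq_pow_mod 9 r1]
  have h12 : a ^ 12 = a ^ 2 := by rw [pow_eq_pow_mod 12 r1]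
  have h16 : a ^ 16 = a := by rw [pow_eq_pow_mod 16 r1]; norm_num
  rw [pow_eq_pow_mod i r1]
  have hlt : i % 5 < 5 := Nat.mod_lt _ (by norm_num)
  generalize i % 5 = r at hi hlt
  interval_cases r
  · exact absurd rfl hi
  · simp only [Finset.sum_range_succ, Finset.sum_range_zero, ← pow_mul]
    norm_num
    rw [← r4]
  · simp only [Finset.sum_range_succ, Finset.sum_range_zero, ← pow_mul]
    norm_num
    rw [h6, h8, ← r4]; abel
  · simp only [Finset.sum_range_succ, Finset.sum_range_zero, ← pow_mul]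
    norm_num
    rw [h6, h9, h12, ← r4]; abel
  · simp only [Finset.sum_range_succ, Finset.sum_range_zero, ← pow_mul]
    norm_num
    rw [h8, h12, h16, ← r4]; abel

/-- the certificate for every element `a ^ i c ^ j` -/
theorem cert (r1 : a ^ 5 = 1) (r2 : c ^ 4 = -1) (r3 : c * a = a ^ 3 * c)
    (r4 : 1 + a + a ^ 2 + a ^ 3 + a ^ 4 = 0) (i j : ℕ) :
    a ^ i * c ^ j = 1 ∨
      ((a ^ i * c ^ j) ^ 5 = 1 ∧ ∑ k ∈ Finset.range 5, (a ^ i * c ^ j) ^ k = 0) ∨
      (a ^ i * c ^ j) ^ 1 = -1 ∨ (a ^ i * c ^ j) ^ 2 = -1 ∨ (a ^ i * c ^ j) ^ 4 = -1 ∨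
      (a ^ i * c ^ j) ^ 5 = -1 := by
  rcases Nat.mod_two_eq_zero_or_one j with hj | hj
  · rcases (by omega : j % 4 = 2 ∨ j % 8 = 4 ∨ j % 8 = 0) with h | h | h
    · right; right; right; left
      exact sq_eq r1 r2 r3 i j h
    · right; right; right; right; right
      rw [cpow_four r2 j h, mul_neg, mul_one, Odd.neg_pow (by decide), ← pow_mul,
        apow_dvd r1 _ (Dvd.intro_left i rfl)]
    · rw [cpow_zero r2 j h, mul_one]
      by_cases hi : i % 5 = 0
      · left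
        exact apow_dvd r1 i (Nat.dvd_of_mod_eq_zero hi)
      · right; left
        refine ⟨?_, geom_perm r1 r4 i hi⟩
        rw [← pow_mul]
        exact apow_dvd r1 _ (Dvd.intro_left i rfl)
  · right; right; right; right; left
    exact fourth_eq r1 r2 r3 i j hj

/-- the elements `a ^ i c ^ j` -/
def T (a c : R) (r3 : c * a = a ^ 3 * c) : Submonoid R where
  carrier := {x | ∃ i j : ℕ, x = a ^ i * c ^ j}
  mul_mem' := by
    rintro _ _ ⟨i, j, rfl⟩ ⟨k, l, rfl⟩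
    exact ⟨_, _, mul_formula r3 i j k l⟩
  one_mem' := ⟨0, 0, by simp⟩

theorem mem_T {r3 : c * a = a ^ 3 * c} {x : R} :
    x ∈ T a c r3 ↔ ∃ i j : ℕ, x = a ^ i * c ^ j := Iff.rfl

theorem pow_forty {x : R}
    (h : x = 1 ∨ (x ^ 5 = 1 ∧ ∑ k ∈ Finset.range 5, x ^ k = 0) ∨
      x ^ 1 = -1 ∨ x ^ 2 = -1 ∨ x ^ 4 = -1 ∨ x ^ 5 = -1) : x ^ 40 = 1 := by
  rcases h with h | ⟨h, -⟩ | h | h | h | h
  · rw [h, one_pow]
  · rw [show 40 = 5 * 8 from rfl, pow_mul, h, one_pow]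
  · rw [show 40 = 1 * 40 from rfl, pow_mul, h, Even.neg_one_pow (by decide)]
  · rw [show 40 = 2 * 20 from rfl, pow_mul, h, Even.neg_one_pow (by decide)]
  · rw [show 40 = 4 * 10 from rfl, pow_mul, h, Even.neg_one_pow (by decide)]
  · rw [show 40 = 5 * 8 from rfl, pow_mul, h, Even.neg_one_pow (by decide)]

/-- if a power of `x` is `-1`, the norm sum of `x` vanishes (no `2`-torsion) -/
theorem geom_orderOf_eq_zero (h2 : ∀ s : R, s + s = 0 → s = 0) {x : R} (k : ℕ)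
    (hk : x ^ k = -1) : ∑ i ∈ Finset.range (orderOf x), x ^ i = 0 := by
  set S := ∑ i ∈ Finset.range (orderOf x), x ^ i with hS
  have h1 : (x - 1) * S = 0 := by rw [hS, mul_geom_sum, pow_orderOf_eq_one, sub_self]
  have h3 : x * S = S := by
    rw [sub_mul, one_mul, sub_eq_zero] at h1
    exact h1
  have h4 : ∀ n : ℕ, x ^ n * S = S := by
    intro n
    induction n with
    | zero => simp
    | succ n ih => rw [pow_succ, mul_assoc, h3, ih]
  have h5 := h4 k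
  rw [hk, neg_mul, one_mul] at h5
  apply h2
  nth_rewrite 1 [← h5]
  exact neg_add_cancel S

theorem orderOf_dvd_of_pow_eq_neg_one {x : R} (k : ℕ) (hk : x ^ k = -1) : orderOf x ∣ 2 * k := by
  apply orderOf_dvd_of_pow_eq_one
  rw [mul_comm, pow_mul, hk, neg_one_sq]

end abstract

/-! ### The matrices -/

/-- `4 × 4` matrices over `ZMod 3` -/
abbrev Mat := Matrix (Fin 4) (Fin 4) (ZMod 3)

/-- the companion matrix of `X^4 + X^3 + X^2 + X + 1` (order 5) -/
def A : Mat := !![0, 0, 0, 2; 1, 0, 0, 2; 0, 1, 0, 2; 0, 0, 1, 2]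

/-- an element of order 8 with `C A = A ^ 3 C`, `C ^ 4 = -1` -/
def C : Mat := !![0, 1, 1, 0; 0, 2, 1, 1; 1, 0, 1, 2; 2, 0, 2, 0]

def A2 : Mat := !![0, 0, 2, 1; 0, 0, 2, 0; 1, 0, 2, 0; 0, 1, 2, 0]
def A3 : Mat := !![0, 2, 1, 0; 0, 2, 0, 1; 0, 2, 0, 0; 1, 2, 0, 0]
def A4 : Mat := !![2, 1, 0, 0; 2, 0, 1, 0; 2, 0, 0, 1; 2, 0, 0, 0]
def C2 : Mat := !![1, 2, 2, 0; 0, 1, 2, 1; 2, 1, 0, 2; 2, 2, 1, 1]
def CA : Mat := !![1, 1, 0, 1; 2, 1, 1, 2; 0, 1, 2, 2; 0, 2, 0, 2]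

theorem hA2 : A * A = A2 := by decide +kernel
theorem hA3 : A2 * A = A3 := by decide +kernel
theorem hA4 : A3 * A = A4 := by decide +kernel
theorem hA5 : A4 * A = 1 := by decide +kernel
theorem hC2 : C * C = C2 := by decide +kernel
theorem hC4 : C2 * C2 = -1 := by decide +kernel
theorem hCA : C * A = CA := by decide +kernel
theorem hA3C : A3 * C = CA := by decide +kernel
theorem hsum : 1 + A + A2 + A3 + A4 = 0 := by decide +kernel
theorem A_ne_one : A ≠ 1 := by decide +kernel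
theorem neg_one_ne_one : (-1 : Mat) ≠ 1 := by decide +kernel

theorem A_pow_two : A ^ 2 = A2 := by rw [pow_two, hA2]
theorem A_pow_three : A ^ 3 = A3 := by rw [pow_succ, A_pow_two, hA3]
theorem A_pow_four : A ^ 4 = A4 := by rw [pow_succ, A_pow_three, hA4]
theorem r1 : A ^ 5 = 1 := by rw [pow_succ, A_pow_four, hA5]
theorem r2 : C ^ 4 = -1 := by
  have h : C ^ 4 = (C * C) * (C * C) := by
    rw [pow_succ, pow_succ, pow_succ, pow_one, mul_assoc]
  rw [h, hC2, hC4]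
theorem r3 : C * A = A ^ 3 * C := by rw [A_pow_three, hCA, hA3C]
theorem r4 : 1 + A + A ^ 2 + A ^ 3 + A ^ 4 = 0 := by
  rw [A_pow_two, A_pow_three, A_pow_four, hsum]

theorem two_torsion (s : Mat) (h : s + s = 0) : s = 0 := by
  have h3 : (3 : ℕ) • s = 0 := by
    ext i j
    rw [Matrix.smul_apply, Matrix.zero_apply, nsmul_eq_mul]
    have : ((3 : ℕ) : ZMod 3) = 0 := by decide
    rw [this, zero_mul]
  have h4 : (3 : ℕ) • s = s + s + s := by
    rw [succ_nsmul, succ_nsmul, one_nsmul]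
  rw [h4, h, zero_add] at h3
  exact h3

theorem A2_ne_one : A2 ≠ 1 := by decide +kernel

theorem orderOf_eq_ten {R : Type*} [Ring R] {x : R} (h5 : x ^ 5 = -1) (hne : (-1 : R) ≠ 1)
    (h2 : x ^ 2 ≠ 1) : orderOf x = 10 := by
  have hd : orderOf x ∣ 10 := by
    apply orderOf_dvd_of_pow_eq_one
    rw [show 10 = 5 * 2 from rfl, pow_mul, h5, neg_one_sq]
  have hle : orderOf x ≤ 10 := Nat.le_of_dvd (by norm_num) hd
  have hpos : 0 < orderOf x := Nat.pos_of_dvd_of_pos hd (by norm_num)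
  have hpow := pow_orderOf_eq_one x
  generalize orderOf x = o at hd hle hpos hpow
  interval_cases o
  · exfalso; apply h2; rw [pow_one] at hpow; rw [hpow, one_pow]
  · exact absurd hpow h2
  · omega
  · omega
  · exfalso; rw [h5] at hpow; exact hne hpow
  · omega
  · omega
  · omega
  · omega
  · rfl

/-- the submonoid of `AddMonoid.End (Fin 4 → ZMod 3)` given by the forty matrices -/
def 𝒮 : Submonoid (AddMonoid.End (Fin 4 → ZMod 3)) :=
  (T A C r3).map (mvEnd (Fin 4) (ZMod 3))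

theorem mem_𝒮 (i j : ℕ) : mvEnd (Fin 4) (ZMod 3) (A ^ i * C ^ j) ∈ 𝒮 :=
  Submonoid.mem_map.mpr ⟨_, ⟨i, j, rfl⟩, rfl⟩

theorem certM {x : Mat} (hx : x ∈ T A C r3) :
    x = 1 ∨ (x ^ 5 = 1 ∧ ∑ k ∈ Finset.range 5, x ^ k = 0) ∨
      x ^ 1 = -1 ∨ x ^ 2 = -1 ∨ x ^ 4 = -1 ∨ x ^ 5 = -1 := by
  obtain ⟨i, j, rfl⟩ := hx
  exact cert r1 r2 r3 r4 i j

theorem h𝒮 : ∀ α ∈ 𝒮, ∃ n : ℕ, 0 < n ∧ α ^ n = 1 := by
  intro α hα
  obtain ⟨x, hx, rfl⟩ := Submonoid.mem_map.mp hα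
  refine ⟨40, by norm_num, ?_⟩
  rw [← map_pow, pow_forty (certM hx), map_one]

theorem hV : ∀ v : Fin 4 → ZMod 3, 3 • v = 0 := by
  intro v
  ext i
  rw [Pi.smul_apply, Pi.zero_apply, nsmul_eq_mul]
  have : ((3 : ℕ) : ZMod 3) = 0 := by decide
  rw [this, zero_mul]

theorem real_of_order (i j m : ℕ) (h : orderOf (A ^ i * C ^ j) = m) :
    ∃ α ∈ 𝒮, Realizes 3 α m :=
  ⟨_, mem_𝒮 i j, Or.inl (by rw [orderOf_mvEnd, h])⟩

theorem real1 : ∃ α ∈ 𝒮, Realizes 3 α 1 :=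
  real_of_order 0 0 1 (by rw [pow_zero, pow_zero, mul_one, orderOf_one])

theorem real3 : ∃ α ∈ 𝒮, Realizes 3 α 3 := by
  refine ⟨_, mem_𝒮 0 0, Or.inr ⟨?_, ?_⟩⟩
  · rw [orderOf_mvEnd, pow_zero, pow_zero, mul_one, orderOf_one]
  · rw [normSum_mvEnd_ne_zero_iff, pow_zero, pow_zero, mul_one, orderOf_one,
      Finset.sum_range_one, pow_zero]
    exact fun h => neg_one_ne_one (by rw [h, neg_zero])

theorem real2 : ∃ α ∈ 𝒮, Realizes 3 α 2 := by
  apply real_of_order 0 4 2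
  rw [pow_zero, one_mul, r2]
  exact orderOf_eq_prime (neg_one_sq) neg_one_ne_one

theorem C8 : C ^ 8 = 1 := c8 r2

theorem real4 : ∃ α ∈ 𝒮, Realizes 3 α 4 := by
  apply real_of_order 0 2 4
  rw [pow_zero, one_mul]
  have h := orderOf_eq_prime_pow (x := C ^ 2) (p := 2) (n := 1)
    (by rw [← pow_mul]; norm_num; rw [r2]; exact neg_one_ne_one)
    (by rw [← pow_mul]; norm_num; exact C8)
  rw [h]; norm_num

theorem real8 : ∃ α ∈ 𝒮, Realizes 3 α 8 := by
  apply real_of_order 0 1 8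
  rw [pow_zero, one_mul, pow_one]
  have h := orderOf_eq_prime_pow (x := C) (p := 2) (n := 2)
    (by norm_num; rw [r2]; exact neg_one_ne_one)
    (by norm_num; exact C8)
  rw [h]; norm_num

theorem real5 : ∃ α ∈ 𝒮, Realizes 3 α 5 := by
  apply real_of_order 1 0 5
  rw [pow_one, pow_zero, mul_one]
  have : Fact (Nat.Prime 5) := ⟨by norm_num⟩
  exact orderOf_eq_prime r1 A_ne_one

theorem real10 : ∃ α ∈ 𝒮, Realizes 3 α 10 := by
  apply real_of_order 1 4 10
  rw [pow_one, r2, mul_neg, mul_one]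
  apply orderOf_eq_ten
  · rw [Odd.neg_pow (by decide), r1]
  · exact neg_one_ne_one
  · rw [neg_sq, A_pow_two]
    exact A2_ne_one

theorem neg_case {n : ℕ} {x : Mat} (k : ℕ) (hk : x ^ k = -1) (h2k : 2 * k ∣ 8 ∨ 2 * k ∣ 10)
    (hR : n = orderOf x ∨ (n = 3 * orderOf x ∧ ∑ i ∈ Finset.range (orderOf x), x ^ i ≠ 0)) :
    n ∣ 8 ∨ n ∣ 10 ∨ n ∣ 3 := by
  have hd := orderOf_dvd_of_pow_eq_neg_one k hk
  have hz := geom_orderOf_eq_zero two_torsion k hk
  rcases hR with rfl | ⟨-, hne⟩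
  · rcases h2k with h | h
    · left; exact hd.trans h
    · right; left; exact hd.trans h
  · exact absurd hz hne

theorem spec : {n | ∃ α ∈ 𝒮, Realizes 3 α n} = {n | n ∣ 8 ∨ n ∣ 10 ∨ n ∣ 3} := by
  ext n
  simp only [Set.mem_ofPred_eq]
  constructor
  · rintro ⟨α, hα, hR⟩
    obtain ⟨x, hx, rfl⟩ := Submonoid.mem_map.mp hα
    unfold Realizes at hR
    rw [orderOf_mvEnd, normSum_mvEnd_ne_zero_iff] at hR
    have hone : x = 1 → n ∣ 8 ∨ n ∣ 10 ∨ n ∣ 3 := by
      intro h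
      rw [h, orderOf_one] at hR
      rcases hR with rfl | ⟨rfl, -⟩
      · left; norm_num
      · right; right; norm_num
    rcases certM hx with h | ⟨h5, hs⟩ | h | h | h | h
    · exact hone h
    · by_cases hx1 : x = 1
      · exact hone hx1
      · have : Fact (Nat.Prime 5) := ⟨by norm_num⟩
        have ho : orderOf x = 5 := orderOf_eq_prime h5 hx1
        rw [ho] at hR
        rcases hR with rfl | ⟨-, hne⟩
        · right; left; norm_num
        · exact absurd hs hne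
    · exact neg_case 1 h (by norm_num) hR
    · exact neg_case 2 h (by norm_num) hR
    · exact neg_case 4 h (by norm_num) hR
    · exact neg_case 5 h (by norm_num) hR
  · rintro (h | h | h)
    · have hle := Nat.le_of_dvd (by norm_num) h
      have hpos : 0 < n := Nat.pos_of_dvd_of_pos h (by norm_num)
      interval_cases n
      · exact real1
      · exact real2
      · omega
      · exact real4
      · omega
      · omega
      · omega
      · exact real8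
    · have hle := Nat.le_of_dvd (by norm_num) h
      have hpos : 0 < n := Nat.pos_of_dvd_of_pos h (by norm_num)
      interval_cases n
      · exact real1
      · exact real2
      · omega
      · omega
      · exact real5
      · omega
      · omega
      · omega
      · omega
      · exact real10
    · have hle := Nat.le_of_dvd (by norm_num) h
      have hpos : 0 < n := Nat.pos_of_dvd_of_pos h (by norm_num)
      interval_cases n
      · exact real1
      · omega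
      · exact real3

/-- S3452-NINE. -/
theorem small_nine (M : ℕ) : ∃ (H : Type) (_ : Group H) (_ : Fintype H), M < Fintype.card H ∧
    Set.range (orderOf : H → ℕ) = {n | n ∣ 8 ∨ n ∣ 10 ∨ n ∣ 3} := by
  have : Fact (1 < 3) := ⟨by norm_num⟩
  obtain ⟨H, hG, hF, hM, hspec⟩ :=
    Cfsg.Agent.Lib.Helper49_S3466_SDP.SDP (V := Fin 4 → ZMod 3) 3 (by norm_num) hV 𝒮 h𝒮 M
  refine ⟨H, hG, hF, hM, ?_⟩
  rw [hspec]
  exact spec

end Cfsg.Agent.Lib.Helper61_S3452_NINE
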