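import Mathlib
import Cfsg.Agent.Lib.Helper40_PGLDefs

/-!
# S3452-EXIST3 (for helper40)

Three pairwise non-proportional solutions of `a² - δ b² = δ` over `ZMod p`, `p ≥ 5`, `δ` a
non-square; and the existence of a non-square.
-/

set_option autoImplicit false

namespace Cfsg.Agent.Lib.Helper69_S3452_EXIST3

/-- S3452-EXIST3 (0) -/
theorem exists_nonsquare (p : ℕ) [Fact p.Prime] (hp2 : p ≠ 2) : ∃ δ : ZMod p, ¬ IsSquare δ := by
  apply FiniteField.exists_nonsquare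
  rw [ZMod.ringChar_zmod_n]
  exact hp2

/-- a first solution -/
theorem exists_one (p : ℕ) [Fact p.Prime] (hp2 : p ≠ 2) (δ : ZMod p) (hδ0 : δ ≠ 0) :
    ∃ a b : ZMod p, a ^ 2 - δ * b ^ 2 = δ := by
  have hodd : Fintype.card (ZMod p) % 2 = 1 := by
    rw [ZMod.card]
    rcases (Fact.out : p.Prime).eq_two_or_odd with h | h
    · exact absurd h hp2
    · exact h
  have hf : (Polynomial.X ^ 2 - Polynomial.C δ : Polynomial (ZMod p)).degree = 2 := by
    rw [Polynomial.degree_X_pow_sub_C (by norm_num)]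
    rfl
  have hg : (Polynomial.C (-δ) * Polynomial.X ^ 2 : Polynomial (ZMod p)).degree = 2 := by
    rw [Polynomial.degree_C_mul_X_pow 2 (neg_ne_zero.mpr hδ0)]
    rfl
  obtain ⟨a, b, hab⟩ := FiniteField.exists_root_sum_quadratic hf hg hodd
  refine ⟨a, b, ?_⟩
  simp only [Polynomial.eval_sub, Polynomial.eval_pow, Polynomial.eval_X, Polynomial.eval_C,
    Polynomial.eval_mul] at hab
  linear_combination hab

/-- a norm-one element with both coordinates non-zero -/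
theorem exists_unit (p : ℕ) [Fact p.Prime] (hp5 : 5 ≤ p) (δ : ZMod p) (hδ : ¬ IsSquare δ) :
    ∃ x y : ZMod p, x ^ 2 - δ * y ^ 2 = 1 ∧ x ≠ 0 ∧ y ≠ 0 := by
  have h2 : (2 : ZMod p) ≠ 0 := by
    intro h
    have : ((2 : ℕ) : ZMod p) = 0 := by exact_mod_cast h
    rw [ZMod.natCast_eq_zero_iff] at this
    have := Nat.le_of_dvd (by norm_num) this
    omega
  have h3 : (3 : ZMod p) ≠ 0 := by
    intro h
    have : ((3 : ℕ) : ZMod p) = 0 := by exact_mod_cast h
    rw [ZMod.natCast_eq_zero_iff] at this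
    have := Nat.le_of_dvd (by norm_num) this
    omega
  have key : ∀ s : ZMod p, s ≠ 0 → 1 + δ * s ^ 2 ≠ 0 →
      ∃ x y : ZMod p, x ^ 2 - δ * y ^ 2 = 1 ∧ x ≠ 0 ∧ y ≠ 0 := by
    intro s hs hx
    have hd : 1 - δ * s ^ 2 ≠ 0 := by
      intro h
      apply hδ
      refine ⟨s⁻¹, ?_⟩
      have : δ * s ^ 2 = 1 := by linear_combination -h
      field_simp
      linear_combination this
    refine ⟨(1 + δ * s ^ 2) / (1 - δ * s ^ 2), 2 * s / (1 - δ * s ^ 2), ?_, ?_, ?_⟩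
    · field_simp
      ring
    · exact div_ne_zero hx hd
    · exact div_ne_zero (mul_ne_zero h2 hs) hd
  by_cases hm : δ = -1
  · apply key 2 h2
    rw [hm]
    intro h
    apply h3
    linear_combination -h
  · apply key 1 one_ne_zero
    intro h
    apply hm
    linear_combination h

/-- S3452-EXIST3 -/
theorem exists_three (p : ℕ) [Fact p.Prime] (hp5 : 5 ≤ p) (δ : ZMod p) (hδ : ¬ IsSquare δ) :
    ∃ a b a' b' a'' b'' : ZMod p, a ^ 2 - δ * b ^ 2 = δ ∧ a' ^ 2 - δ * b' ^ 2 = δ ∧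
      a'' ^ 2 - δ * b'' ^ 2 = δ ∧ a * b' - a' * b ≠ 0 ∧ a'' * b' - a' * b'' ≠ 0 ∧
      a'' * b - a * b'' ≠ 0 := by
  have hp2 : p ≠ 2 := by omega
  have hδ0 : δ ≠ 0 := by
    intro h
    apply hδ
    rw [h]
    exact IsSquare.zero
  obtain ⟨a, b, hab⟩ := exists_one p hp2 δ hδ0
  obtain ⟨x, y, hxy, hx, hy⟩ := exists_unit p hp5 δ hδ
  have h2 : (2 : ZMod p) ≠ 0 := by
    intro h
    have : ((2 : ℕ) : ZMod p) = 0 := by exact_mod_cast h
    rw [ZMod.natCast_eq_zero_iff] at this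
    have := Nat.le_of_dvd (by norm_num) this
    omega
  refine ⟨a, b, a * x + δ * b * y, a * y + b * x,
    a * (x ^ 2 + δ * y ^ 2) + δ * b * (2 * x * y), a * (2 * x * y) + b * (x ^ 2 + δ * y ^ 2),
    hab, ?_, ?_, ?_, ?_, ?_⟩
  · linear_combination (x ^ 2 - δ * y ^ 2) * hab + δ * hxy
  · linear_combination ((x ^ 2 + δ * y ^ 2) ^ 2 - δ * (2 * x * y) ^ 2) * hab +
      δ * (x ^ 2 - δ * y ^ 2 + 1) * hxy
  · have : a * (a * y + b * x) - (a * x + δ * b * y) * b = δ * y := by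
      linear_combination y * hab
    rw [this]
    exact mul_ne_zero hδ0 hy
  · have : (a * (x ^ 2 + δ * y ^ 2) + δ * b * (2 * x * y)) * (a * y + b * x) -
        (a * x + δ * b * y) * (a * (2 * x * y) + b * (x ^ 2 + δ * y ^ 2)) = -(δ * y) := by
      linear_combination (-y * (x ^ 2 - δ * y ^ 2)) * hab - δ * y * hxy
    rw [this]
    exact neg_ne_zero.mpr (mul_ne_zero hδ0 hy)
  · have : (a * (x ^ 2 + δ * y ^ 2) + δ * b * (2 * x * y)) * b -
        a * (a * (2 * x * y) + b * (x ^ 2 + δ * y ^ 2)) = -(δ * (2 * x * y)) := by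
      linear_combination (-(2 * x * y)) * hab
    rw [this]
    exact neg_ne_zero.mpr (mul_ne_zero hδ0 (mul_ne_zero (mul_ne_zero h2 hx) hy))

end Cfsg.Agent.Lib.Helper69_S3452_EXIST3
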