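import Mathlib
import Cfsg.Agent.Lib.Helper40_PGLDefs

/-!
# S3452-TYPES (for helper40)

Every `g ∈ SL₂(p)`, `p` odd, satisfies `g^((p-1)/2) = ±1` or `g^((p+1)/2) = ±1` or
`g = ±(1 + N)` with `N² = 0`.  The generic lemmas (`aeval_chi`, `pow_eq_of_dvd`,
`chi_dvd_of_roots`, `root_pow_card_succ`) work over any (finite) field.
-/

set_option autoImplicit false

open scoped Matrix
open Polynomial
open Cfsg.Agent.Lib.Helper40_PGLDefs

namespace Cfsg.Agent.Lib.Helper69_S3452_TYPES

/-- Cayley–Hamilton for two by two matrices, as a polynomial identity -/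
theorem aeval_chi {F : Type*} [Field F] (A : Matrix (Fin 2) (Fin 2) F) :
    Polynomial.aeval A (X ^ 2 - C A.trace * X + C A.det : F[X]) = 0 := by
  simp only [map_add, map_sub, map_mul, map_pow, aeval_X, aeval_C,
    Algebra.algebraMap_eq_smul_one]
  ext i j
  fin_cases i <;> fin_cases j <;>
    simp [Matrix.trace, Matrix.det_fin_two, pow_two, Matrix.mul_apply, Fin.sum_univ_two] <;> ring

/-- a multiple of the characteristic polynomial annihilates the matrix -/
theorem pow_eq_of_dvd {F : Type*} [Field F] (A : Matrix (Fin 2) (Fin 2) F) (k : ℕ) (ε : F)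
    (h : (X ^ 2 - C A.trace * X + C A.det : F[X]) ∣ X ^ k - C ε) :
    A ^ k = algebraMap F (Matrix (Fin 2) (Fin 2) F) ε := by
  obtain ⟨q, hq⟩ := h
  have := congrArg (Polynomial.aeval A) hq
  rw [map_mul, aeval_chi, zero_mul] at this
  simp only [map_sub, map_pow, aeval_X, aeval_C] at this
  exact sub_eq_zero.mp this

/-- two distinct roots -/
theorem chi_dvd_of_roots {F : Type*} [Field F] (t d r r' : F) (hne : r ≠ r') (hs : r + r' = t)
    (hp : r * r' = d) (k : ℕ) (ε : F) (h1 : r ^ k = ε) (h2 : r' ^ k = ε) :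
    (X ^ 2 - C t * X + C d : F[X]) ∣ X ^ k - C ε := by
  have e : (X ^ 2 - C t * X + C d : F[X]) = (X - C r) * (X - C r') := by
    rw [← hs, ← hp]
    simp only [map_add, map_mul]
    ring
  rw [e]
  apply IsCoprime.mul_dvd
  · exact isCoprime_X_sub_C_of_isUnit_sub (sub_ne_zero.mpr hne).isUnit
  · rw [dvd_iff_isRoot]
    simp [h1]
  · rw [dvd_iff_isRoot]
    simp [h2]

theorem natDegree_chi {F : Type*} [Field F] (t d : F) :
    (X ^ 2 - C t * X + C d : F[X]).natDegree = 2 := by
  compute_degree!

/-- no root: irreducible -/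
theorem irreducible_chi {F : Type*} [Field F] (t d : F)
    (hno : ∀ x : F, x ^ 2 - t * x + d ≠ 0) : Irreducible (X ^ 2 - C t * X + C d : F[X]) := by
  apply irreducible_of_degree_le_three_of_not_isRoot
  · rw [natDegree_chi]
    simp
  · intro x hx
    apply hno x
    have := hx
    simp only [IsRoot, eval_add, eval_sub, eval_pow, eval_X, eval_mul, eval_C] at this
    exact this

/-- the root of an irreducible quadratic over a finite field of order `q`: `ρ^(q+1) = d` -/
theorem root_pow_card_succ {F : Type*} [Field F] [Fintype F] (t d : F) (f : F[X])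
    (hf : f = X ^ 2 - C t * X + C d) [hirr : Fact (Irreducible f)] :
    (AdjoinRoot.root f) ^ (Fintype.card F + 1) = AdjoinRoot.of f d := by
  set ρ := AdjoinRoot.root f with hρ
  have hroot : ρ ^ 2 - AdjoinRoot.of f t * ρ + AdjoinRoot.of f d = 0 := by
    have := AdjoinRoot.eval₂_root f
    rw [hf] at this
    simp only [eval₂_add, eval₂_sub, eval₂_pow, eval₂_X, eval₂_mul, eval₂_C] at this
    rw [← hf] at this
    exact this
  -- the Frobenius image of the root is a root
  have hfrob : (ρ ^ Fintype.card F) ^ 2 - AdjoinRoot.of f t * ρ ^ Fintype.card F +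
      AdjoinRoot.of f d = 0 := by
    have h := congrArg (FiniteField.frobeniusAlgHom F (AdjoinRoot f)) hroot
    simp only [map_add, map_sub, map_mul, map_pow, map_zero] at h
    have ht : (FiniteField.frobeniusAlgHom F (AdjoinRoot f)) (AdjoinRoot.of f t) =
        AdjoinRoot.of f t := by
      have := (FiniteField.frobeniusAlgHom F (AdjoinRoot f)).commutes t
      rwa [AdjoinRoot.algebraMap_eq] at this
    have hd : (FiniteField.frobeniusAlgHom F (AdjoinRoot f)) (AdjoinRoot.of f d) =
        AdjoinRoot.of f d := by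
      have := (FiniteField.frobeniusAlgHom F (AdjoinRoot f)).commutes d
      rwa [AdjoinRoot.algebraMap_eq] at this
    rw [ht, hd] at h
    have hr : (FiniteField.frobeniusAlgHom F (AdjoinRoot f)) ρ = ρ ^ Fintype.card F := by
      rw [FiniteField.coe_frobeniusAlgHom]
    rw [hr] at h
    exact h
  -- so it is `ρ` or `t - ρ`
  have hprod : (ρ ^ Fintype.card F - ρ) * (ρ ^ Fintype.card F - (AdjoinRoot.of f t - ρ)) = 0 := by
    linear_combination hfrob - hroot
  have hnd : f.natDegree = 2 := by rw [hf, natDegree_chi]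
  rcases mul_eq_zero.mp hprod with h | h
  · -- impossible: then `f ∣ X^q - X`, which splits
    exfalso
    have hdvd : f ∣ (X ^ Fintype.card F - X : F[X]) := by
      rw [← AdjoinRoot.mk_eq_zero]
      simp only [map_sub, map_pow, AdjoinRoot.mk_X]
      exact h
    have hne : (X ^ Fintype.card F - X : F[X]) ≠ 0 :=
      FiniteField.X_pow_card_sub_X_ne_zero F Fintype.one_lt_card
    have hsp : Splits (X ^ Fintype.card F - X : F[X]) := by
      rw [splits_iff_card_roots, FiniteField.roots_X_pow_card_sub_X,
        FiniteField.X_pow_card_sub_X_natDegree_eq F Fintype.one_lt_card]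
      rfl
    have hfs : Splits f := hsp.of_dvd hne hdvd
    have hdeg : degree f ≠ 0 := by
      rw [degree_eq_natDegree hirr.out.ne_zero, hnd]
      norm_num
    obtain ⟨a, ha⟩ := hfs.exists_eval_eq_zero hdeg
    have h1 : degree f = 1 := degree_eq_one_of_irreducible_of_root hirr.out ha
    rw [degree_eq_natDegree hirr.out.ne_zero, hnd] at h1
    norm_num at h1
  · have hq : ρ ^ Fintype.card F = AdjoinRoot.of f t - ρ := sub_eq_zero.mp h
    rw [pow_succ, hq]
    linear_combination -hroot

/-- S3452-TYPES -/
theorem sl2_types (p : ℕ) [Fact p.Prime] (hp2 : p ≠ 2) (g : SL2 p) :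
    ((((g ^ ((p - 1) / 2) : SL2 p) : M2 p) = 1 ∨ ((g ^ ((p - 1) / 2) : SL2 p) : M2 p) = -1) ∨
      (((g ^ ((p + 1) / 2) : SL2 p) : M2 p) = 1 ∨ ((g ^ ((p + 1) / 2) : SL2 p) : M2 p) = -1) ∨
      ∃ N : M2 p, N * N = 0 ∧ ((g : M2 p) = 1 + N ∨ (g : M2 p) = -(1 + N))) := by
  have hpp : p.Prime := Fact.out
  have hodd : p % 2 = 1 := by
    rcases hpp.eq_two_or_odd with h | h
    · exact absurd h hp2
    · exact h
  have h2 : (2 : ZMod p) ≠ 0 := by
    intro h
    have : ((2 : ℕ) : ZMod p) = 0 := by exact_mod_cast h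
    rw [ZMod.natCast_eq_zero_iff] at this
    have := Nat.le_of_dvd (by norm_num) this
    have := hpp.two_le
    omega
  have h4 : (4 : ZMod p) ≠ 0 := by
    have : (4 : ZMod p) = 2 * 2 := by norm_num
    rw [this]
    exact mul_ne_zero h2 h2
  set A : M2 p := (g : M2 p) with hA
  have hdet : A.det = 1 := g.2
  set t : ZMod p := A.trace with ht
  have hCH : A * A - t • A + 1 = 0 := by
    have := aeval_chi A
    rw [hdet] at this
    simp only [map_add, map_sub, map_mul, map_pow, aeval_X, aeval_C, map_one,
      Algebra.algebraMap_eq_smul_one, smul_mul_assoc, one_mul, pow_two] at this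
    exact this
  have hpow : ∀ k : ℕ, ((g ^ k : SL2 p) : M2 p) = A ^ k := fun k =>
    Matrix.SpecialLinearGroup.coe_pow g k
  -- the final step for both semisimple cases
  have fin : ∀ (k : ℕ) (ε : ZMod p), (ε = 1 ∨ ε = -1) →
      (X ^ 2 - C t * X + C 1 : (ZMod p)[X]) ∣ X ^ k - C ε → (A ^ k = 1 ∨ A ^ k = -1) := by
    intro k ε hε hd
    have := pow_eq_of_dvd A k ε (by rw [hdet]; exact hd)
    rcases hε with h | h
    · left
      rw [this, h, map_one]
    · right
      rw [this, h, map_neg, map_one]
  by_cases hsq : IsSquare (t ^ 2 - 4)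
  · obtain ⟨c, hc⟩ := hsq
    by_cases hc0 : c = 0
    · -- unipotent
      right; right
      have ht2 : (t - 2) * (t + 2) = 0 := by
        rw [hc0] at hc
        linear_combination hc
      rcases mul_eq_zero.mp ht2 with h | h
      · have ht' : t = 2 := by linear_combination h
        refine ⟨A - 1, ?_, Or.inl (by abel)⟩
        have : (A - 1) * (A - 1) = A * A - t • A + 1 := by
          rw [ht', two_smul]
          noncomm_ring
        rw [this, hCH]
      · have ht' : t = -2 := by linear_combination h
        refine ⟨-A - 1, ?_, Or.inr (by abel)⟩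
        have : (-A - 1) * (-A - 1) = A * A - t • A + 1 := by
          rw [ht', neg_smul, two_smul]
          noncomm_ring
        rw [this, hCH]
    · -- split semisimple
      left
      rw [hpow]
      set r : ZMod p := (t + c) / 2 with hr
      set r' : ZMod p := (t - c) / 2 with hr'
      have hne : r ≠ r' := by
        intro h
        apply hc0
        have h' : 2 * r = 2 * r' := by rw [h]
        rw [hr, hr'] at h'
        field_simp at h'
        have h'' : 2 * c = 0 := by linear_combination h'
        rcases mul_eq_zero.mp h'' with h3 | h3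
        · exact absurd h3 h2
        · exact h3
      have hs : r + r' = t := by
        rw [hr, hr']
        field_simp
        ring
      have hpr : r * r' = 1 := by
        rw [hr, hr']
        field_simp
        linear_combination hc
      have hr0 : r ≠ 0 := by
        intro h
        rw [h, zero_mul] at hpr
        exact zero_ne_one hpr
      have hfer : r ^ (p - 1) = 1 := ZMod.pow_card_sub_one_eq_one hr0
      have hm : 2 * ((p - 1) / 2) = p - 1 := by omega
      set ε : ZMod p := r ^ ((p - 1) / 2) with hε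
      have hεε : ε * ε = 1 := by
        rw [hε, ← pow_add, ← two_mul, hm, hfer]
      have hε1 : ε = 1 ∨ ε = -1 := mul_self_eq_one_iff.mp hεε
      have hr'ε : r' ^ ((p - 1) / 2) = ε := by
        have : r' = r⁻¹ := eq_inv_of_mul_eq_one_right hpr
        rw [this, inv_pow, ← hε]
        exact (eq_inv_of_mul_eq_one_right hεε).symm
      exact fin _ ε hε1 (chi_dvd_of_roots t 1 r r' hne hs hpr _ ε rfl hr'ε)
  · -- nonsplit
    right; left
    rw [hpow]
    have hno : ∀ x : ZMod p, x ^ 2 - t * x + 1 ≠ 0 := by
      intro x hx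
      apply hsq
      refine ⟨2 * x - t, ?_⟩
      linear_combination (-4 : ZMod p) * hx
    obtain ⟨f, hf⟩ : ∃ f : (ZMod p)[X], f = X ^ 2 - C t * X + C 1 := ⟨_, rfl⟩
    have hirr : Fact (Irreducible f) := ⟨by rw [hf]; exact irreducible_chi t 1 hno⟩
    have hρ := root_pow_card_succ t (1 : ZMod p) f hf
    rw [ZMod.card, map_one] at hρ
    have hn : 2 * ((p + 1) / 2) = p + 1 := by omega
    have hεε : (AdjoinRoot.root f) ^ ((p + 1) / 2) * (AdjoinRoot.root f) ^ ((p + 1) / 2) = 1 := by
      rw [← pow_add, ← two_mul, hn, hρ]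
    rw [← hf] at fin
    rcases mul_self_eq_one_iff.mp hεε with h | h
    · apply fin _ 1 (Or.inl rfl)
      rw [← AdjoinRoot.mk_eq_zero]
      simp only [map_sub, map_pow, AdjoinRoot.mk_X, map_one]
      rw [h, sub_self]
    · apply fin _ (-1) (Or.inr rfl)
      rw [← AdjoinRoot.mk_eq_zero]
      simp only [map_sub, map_pow, AdjoinRoot.mk_X, map_neg, map_one]
      rw [h]
      ring

end Cfsg.Agent.Lib.Helper69_S3452_TYPES
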