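import Mathlib
import Cfsg.Agent.Lib.Helper69_S3452_TYPES

/-!
# S3452-PGLU (for helper40)

Every element of `PGL₂(F)`, `F` a finite field of order `q` and characteristic `p`, has order
dividing `q - 1`, `q + 1` or `p`.
-/

set_option autoImplicit false

open scoped Matrix
open Polynomial
open Cfsg.Agent.Lib.Helper69_S3452_TYPES

namespace Cfsg.Agent.Lib.Helper69_S3452_PGLU

/-- a power which is a scalar matrix is trivial in `PGL₂` -/
theorem mk_pow_eq_one_of_scalar {F : Type*} [Field F] (g : Matrix.GeneralLinearGroup (Fin 2) F)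
    (k : ℕ) (c : F)
    (h : ((g : Matrix (Fin 2) (Fin 2) F)) ^ k = algebraMap F (Matrix (Fin 2) (Fin 2) F) c) :
    (QuotientGroup.mk g :
      Matrix.GeneralLinearGroup (Fin 2) F ⧸ Subgroup.center (Matrix.GeneralLinearGroup (Fin 2) F)) ^ k
      = 1 := by
  rw [← QuotientGroup.mk_pow, QuotientGroup.eq_one_iff, Subgroup.mem_center_iff]
  intro y
  apply Units.ext
  rw [Units.val_mul, Units.val_mul, Units.val_pow_eq_pow_val, h]
  exact (Algebra.commutes c (y : Matrix (Fin 2) (Fin 2) F)).symm

/-- S3452-PGLU -/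
theorem pgl2_upper {F : Type*} [Field F] [Fintype F] (p : ℕ) [Fact p.Prime] [CharP F p]
    (x : Matrix.GeneralLinearGroup (Fin 2) F ⧸ Subgroup.center (Matrix.GeneralLinearGroup (Fin 2) F)) :
    orderOf x ∣ Fintype.card F - 1 ∨ orderOf x ∣ Fintype.card F + 1 ∨ orderOf x ∣ p := by
  induction x using QuotientGroup.induction_on with
  | H g =>
  set A : Matrix (Fin 2) (Fin 2) F := (g : Matrix (Fin 2) (Fin 2) F) with hA
  have hd0 : A.det ≠ 0 := by
    have := Matrix.GeneralLinearGroup.det_ne_zero g
    exact this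
  by_cases hroot : ∃ r : F, r ^ 2 - A.trace * r + A.det = 0
  · obtain ⟨r, hr⟩ := hroot
    set r' : F := A.trace - r with hr'
    have hs : r + r' = A.trace := by rw [hr']; ring
    have hpr : r * r' = A.det := by rw [hr']; linear_combination -hr
    by_cases hne : r = r'
    · -- double root
      right; right
      apply orderOf_dvd_of_pow_eq_one
      apply mk_pow_eq_one_of_scalar g p (r ^ p)
      apply pow_eq_of_dvd
      have e : (X ^ 2 - C A.trace * X + C A.det : F[X]) = (X - C r) ^ 2 := by
        rw [← hs, ← hpr, ← hne]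
        simp only [map_add, map_mul]
        ring
      have e2 : (X ^ p - C (r ^ p) : F[X]) = (X - C r) ^ p := by
        rw [sub_pow_char, map_pow]
      rw [e, e2]
      exact pow_dvd_pow _ (Fact.out : p.Prime).two_le
    · -- two distinct roots
      left
      have hr0 : r ≠ 0 := by
        intro h
        rw [h, zero_mul] at hpr
        exact hd0 hpr.symm
      have hr'0 : r' ≠ 0 := by
        intro h
        rw [h, mul_zero] at hpr
        exact hd0 hpr.symm
      apply orderOf_dvd_of_pow_eq_one
      apply mk_pow_eq_one_of_scalar g _ 1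
      apply pow_eq_of_dvd
      exact chi_dvd_of_roots _ _ r r' hne hs hpr _ 1
        (FiniteField.pow_card_sub_one_eq_one r hr0) (FiniteField.pow_card_sub_one_eq_one r' hr'0)
  · -- irreducible
    right; left
    have hno : ∀ x : F, x ^ 2 - A.trace * x + A.det ≠ 0 := fun x hx => hroot ⟨x, hx⟩
    obtain ⟨f, hf⟩ : ∃ f : F[X], f = X ^ 2 - C A.trace * X + C A.det := ⟨_, rfl⟩
    have hirr : Fact (Irreducible f) := ⟨by rw [hf]; exact irreducible_chi _ _ hno⟩
    have hρ := root_pow_card_succ A.trace A.det f hf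
    apply orderOf_dvd_of_pow_eq_one
    apply mk_pow_eq_one_of_scalar g _ A.det
    apply pow_eq_of_dvd
    rw [← hf, ← AdjoinRoot.mk_eq_zero]
    simp only [map_sub, map_pow, AdjoinRoot.mk_X, AdjoinRoot.mk_C]
    rw [hρ, sub_self]

end Cfsg.Agent.Lib.Helper69_S3452_PGLU
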