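import Mathlib
import Cfsg.Agent.Lib.Helper49_S3466_SDP

/-!
# S3452 package `THREE` (helper8): arbitrarily large groups with spectrum `{1, 2, 3, 4}`

`(ZMod 2 ^ 2) ^ k ⋊ GL₂(2)` via helper49's `PKSp`.
-/

set_option autoImplicit false

namespace Cfsg.Agent.Lib.Helper8_S3452_THREE

open Cfsg.Agent.Lib.Helper40_P4Defs Cfsg.Agent.Lib.Helper49_S3466_SDP

/-- `2 × 2` matrices over the field with two elements -/
abbrev M22 : Type := Matrix (Fin 2) (Fin 2) (ZMod 2)

theorem classify_entries : ∀ a b c d : ZMod 2, a * d - b * c ≠ 0 →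
    (!![a, b; c, d] : M22) = 1 ∨
    ((!![a, b; c, d] : M22) ≠ 1 ∧ (!![a, b; c, d] : M22) * !![a, b; c, d] = 1 ∧
      (1 + !![a, b; c, d] : M22) ≠ 0) ∨
    ((!![a, b; c, d] : M22) ≠ 1 ∧ (!![a, b; c, d] : M22) * !![a, b; c, d] * !![a, b; c, d] = 1 ∧
      (1 + !![a, b; c, d] + !![a, b; c, d] * !![a, b; c, d] : M22) = 0) := by
  decide

theorem classify (A : M22) (hA : IsUnit A) :
    A = 1 ∨ (A ≠ 1 ∧ A * A = 1 ∧ 1 + A ≠ 0) ∨ (A ≠ 1 ∧ A * A * A = 1 ∧ 1 + A + A * A = 0) := by
  have hdet : A.det ≠ 0 := by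
    have h := (Matrix.isUnit_iff_isUnit_det A).mp hA
    exact h.ne_zero
  rw [Matrix.det_fin_two] at hdet
  have h := classify_entries (A 0 0) (A 0 1) (A 1 0) (A 1 1) hdet
  rw [← Matrix.eta_fin_two A] at h
  exact h

/-- an involution -/
def swp : M22 := !![0, 1; 1, 0]

/-- an element of order three -/
def cyc : M22 := !![0, 1; 1, 1]

theorem swp_mul : swp * swp = 1 := by decide
theorem swp_ne : swp ≠ 1 := by decide
theorem cyc_mul : cyc * cyc * cyc = 1 := by decide
theorem cyc_ne : cyc ≠ 1 := by decide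

theorem small_three (M : ℕ) : ∃ (H : Type) (_ : Group H) (_ : Fintype H), M < Fintype.card H ∧
    Set.range (orderOf : H → ℕ) = {n | n ∣ 2 ∨ n ∣ 4 ∨ n ∣ 3} := by
  classical
  let ρ : M22ˣ →* AddMonoid.End (Fin 2 → ZMod 2) :=
    (mvEnd (Fin 2) (ZMod 2)).comp (Units.coeHom M22)
  have hρ : ∀ (u : M22ˣ) (v : Fin 2 → ZMod 2), ρ u v = (u : M22).mulVec v := fun u v => rfl
  have hV : ∀ v : Fin 2 → ZMod 2, 2 • v = 0 := by decide
  -- orders
  have hord2 : ∀ u : M22ˣ, (u : M22) ≠ 1 → (u : M22) * u = 1 → orderOf u = 2 := by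
    intro u h1 h2
    have : Fact (Nat.Prime 2) := ⟨Nat.prime_two⟩
    apply orderOf_eq_prime
    · apply Units.ext
      rw [Units.val_pow_eq_pow_val, pow_two, h2, Units.val_one]
    · intro h
      apply h1
      rw [h, Units.val_one]
  have hord3 : ∀ u : M22ˣ, (u : M22) ≠ 1 → (u : M22) * u * u = 1 → orderOf u = 3 := by
    intro u h1 h2
    have : Fact (Nat.Prime 3) := ⟨Nat.prime_three⟩
    apply orderOf_eq_prime
    · apply Units.ext
      rw [Units.val_pow_eq_pow_val, pow_succ, pow_two, h2, Units.val_one]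
    · intro h
      apply h1
      rw [h, Units.val_one]
  -- explicit elements
  let us : M22ˣ := ⟨swp, swp, swp_mul, swp_mul⟩
  let uc : M22ˣ := ⟨cyc, cyc * cyc, by rw [← mul_assoc]; exact cyc_mul, cyc_mul⟩
  have hus : orderOf us = 2 := hord2 us swp_ne swp_mul
  have huc : orderOf uc = 3 := hord3 uc cyc_ne cyc_mul
  obtain ⟨H, iG, iF, hc, hr⟩ := PKSp ρ 2 Nat.prime_two hV M
  refine ⟨H, iG, iF, hc, ?_⟩
  rw [hr]
  ext n
  simp only [Set.mem_ofPred_eq]
  constructor
  · rintro ⟨g, hg⟩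
    rcases classify (g : M22) g.isUnit with h1 | ⟨h1, h2, -⟩ | ⟨h1, h2, h3⟩
    · have hg1 : g = 1 := Units.ext (by rw [h1, Units.val_one])
      rw [hg1, orderOf_one] at hg
      rcases hg with rfl | ⟨rfl, -⟩
      · exact Or.inl (by norm_num)
      · exact Or.inl (by norm_num)
    · rw [hord2 g h1 h2] at hg
      rcases hg with rfl | ⟨rfl, -⟩
      · exact Or.inl dvd_rfl
      · exact Or.inr (Or.inl (by norm_num))
    · rw [hord3 g h1 h2] at hg
      rcases hg with rfl | ⟨rfl, v, hv⟩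
      · exact Or.inr (Or.inr dvd_rfl)
      · exfalso
        apply hv
        rw [Finset.sum_range_succ, Finset.sum_range_succ, Finset.sum_range_one, hρ, hρ, hρ,
          pow_zero, pow_one, pow_two, Units.val_one, Units.val_mul, ← Matrix.add_mulVec,
          ← Matrix.add_mulVec, h3, Matrix.zero_mulVec]
  · intro hn
    have hn' : n = 1 ∨ n = 2 ∨ n = 4 ∨ n = 3 := by
      rcases hn with h | h | h
      · rcases (Nat.dvd_prime Nat.prime_two).mp h with h | h
        · exact Or.inl h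
        · exact Or.inr (Or.inl h)
      · have hle : n ≤ 4 := Nat.le_of_dvd (by norm_num) h
        interval_cases n
        · simp at h
        · exact Or.inl rfl
        · exact Or.inr (Or.inl rfl)
        · norm_num at h
        · exact Or.inr (Or.inr (Or.inl rfl))
      · rcases (Nat.dvd_prime Nat.prime_three).mp h with h | h
        · exact Or.inl h
        · exact Or.inr (Or.inr (Or.inr h))
    rcases hn' with rfl | rfl | rfl | rfl
    · exact ⟨1, Or.inl orderOf_one.symm⟩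
    · exact ⟨us, Or.inl hus.symm⟩
    · refine ⟨us, Or.inr ⟨by rw [hus], ![1, 0], ?_⟩⟩
      rw [hus, Finset.sum_range_succ, Finset.sum_range_one, hρ, hρ, pow_zero, pow_one,
        Units.val_one]
      show (1 : M22).mulVec ![1, 0] + swp.mulVec ![1, 0] ≠ 0
      decide
    · exact ⟨uc, Or.inl huc.symm⟩

end Cfsg.Agent.Lib.Helper8_S3452_THREE
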