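import Mathlib
import Cfsg.Agent.Lib.Helper49_S3466_SDP

/-!
# S3452 package `TWO` (helper8): arbitrarily large groups with spectrum `{1, 2, 3}`

`(ZMod 3) ^ k ⋊ (ZMod 3)ˣ` via helper49's `PKSp`.
-/

set_option autoImplicit false

namespace Cfsg.Agent.Lib.Helper8_S3452_TWO

open Cfsg.Agent.Lib.Helper49_S3466_SDP

theorem units_cases : ∀ u : (ZMod 3)ˣ, u = 1 ∨ u = -1 := by decide

theorem orderOf_neg_one_units : orderOf (-1 : (ZMod 3)ˣ) = 2 := by
  have h2 : Fact (Nat.Prime 2) := ⟨Nat.prime_two⟩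
  apply orderOf_eq_prime
  · decide
  · decide

theorem small_two (M : ℕ) : ∃ (H : Type) (_ : Group H) (_ : Fintype H), M < Fintype.card H ∧
    Set.range (orderOf : H → ℕ) = {n | n ∣ 1 ∨ n ∣ 3 ∨ n ∣ 2} := by
  classical
  let ρ : (ZMod 3)ˣ →* AddMonoid.End (ZMod 3) := DistribMulAction.toAddMonoidEnd (ZMod 3)ˣ (ZMod 3)
  have hρ : ∀ (u : (ZMod 3)ˣ) (v : ZMod 3), ρ u v = (u : ZMod 3) * v := fun u v => rfl
  have hV : ∀ v : ZMod 3, 3 • v = 0 := by decide
  obtain ⟨H, iG, iF, hc, hr⟩ := PKSp ρ 3 Nat.prime_three hV M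
  refine ⟨H, iG, iF, hc, ?_⟩
  rw [hr]
  ext n
  simp only [Set.mem_ofPred_eq]
  constructor
  · rintro ⟨g, hg⟩
    rcases units_cases g with rfl | rfl
    · rw [orderOf_one] at hg
      rcases hg with rfl | ⟨rfl, -⟩
      · exact Or.inl dvd_rfl
      · exact Or.inr (Or.inl (by norm_num))
    · rw [orderOf_neg_one_units] at hg
      rcases hg with rfl | ⟨rfl, v, hv⟩
      · exact Or.inr (Or.inr dvd_rfl)
      · exfalso
        apply hv
        rw [Finset.sum_range_succ, Finset.sum_range_one, hρ, hρ]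
        revert v
        decide
  · intro hn
    have hn' : n = 1 ∨ n = 3 ∨ n = 2 := by
      rcases hn with h | h | h
      · exact Or.inl (Nat.dvd_one.mp h)
      · rcases (Nat.dvd_prime Nat.prime_three).mp h with h | h
        · exact Or.inl h
        · exact Or.inr (Or.inl h)
      · rcases (Nat.dvd_prime Nat.prime_two).mp h with h | h
        · exact Or.inl h
        · exact Or.inr (Or.inr h)
    rcases hn' with rfl | rfl | rfl
    · exact ⟨1, Or.inl orderOf_one.symm⟩
    · refine ⟨1, Or.inr ⟨by rw [orderOf_one], 1, ?_⟩⟩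
      rw [orderOf_one, Finset.sum_range_one, hρ]
      decide
    · exact ⟨-1, Or.inl orderOf_neg_one_units.symm⟩

end Cfsg.Agent.Lib.Helper8_S3452_TWO
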