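import Mathlib
import Cfsg.Agent.Lib.Helper40_PGLDefs
import Cfsg.Agent.Lib.Helper40_ProjOrd
import Cfsg.Agent.Lib.Helper43_S3452_PGLL
import Cfsg.Agent.Lib.Helper54_S3452_GEOB
import Cfsg.Agent.Lib.Helper69_S3452_EXIST3
import Cfsg.Agent.Lib.Helper31_S3452_TORS
import Cfsg.Agent.Lib.Helper5_S3452_FAITH
import Cfsg.Agent.Lib.Helper5_S3452_NT
import Cfsg.Agent.Lib.Helper5_S3452_UNIP
import Cfsg.Agent.Lib.Helper65_S3452_SUM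
import Cfsg.Agent.Lib.Helper8_S3452_TWO
import Cfsg.Agent.Lib.Helper8_S3452_THREE
import Cfsg.Agent.Lib.Helper31_S3452_TORNS
import Cfsg.Agent.Lib.Helper54_S3452_GEOA
import Cfsg.Agent.Lib.Helper69_S3452_TYPES
import Cfsg.Agent.Lib.Helper69_S3452_PGLU
import Cfsg.Agent.Lib.Helper61_S3452_NINE
--IMPORTS

set_option autoImplicit false
open scoped Matrix
open Cfsg.Agent.Lib.Helper40_PGLDefs Cfsg.Agent.Lib.Helper40_ProjOrd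

namespace Cfsg.Agent.Lib.Helper40_PGLHub

/-! ### PGLU / PGLL : the spectrum of `PGL₂(F)` -/

/-- S3452-PGLU -/
theorem pgl2_upper {F : Type*} [Field F] [Fintype F] (p : ℕ) [Fact p.Prime] [CharP F p]
    (x : Matrix.GeneralLinearGroup (Fin 2) F ⧸ Subgroup.center (Matrix.GeneralLinearGroup (Fin 2) F)) :
    orderOf x ∣ Fintype.card F - 1 ∨ orderOf x ∣ Fintype.card F + 1 ∨ orderOf x ∣ p :=
  Cfsg.Agent.Lib.Helper69_S3452_PGLU.pgl2_upper p x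

/-- S3452-PGLL -/
theorem pgl2_lower {F : Type*} [Field F] [Fintype F] (p : ℕ) [Fact p.Prime] [CharP F p] :
    (∃ x : Matrix.GeneralLinearGroup (Fin 2) F ⧸ Subgroup.center (Matrix.GeneralLinearGroup (Fin 2) F),
      orderOf x = Fintype.card F - 1) ∧
    (∃ x : Matrix.GeneralLinearGroup (Fin 2) F ⧸ Subgroup.center (Matrix.GeneralLinearGroup (Fin 2) F),
      orderOf x = Fintype.card F + 1) ∧
    (∃ x : Matrix.GeneralLinearGroup (Fin 2) F ⧸ Subgroup.center (Matrix.GeneralLinearGroup (Fin 2) F),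
      orderOf x = p) :=
  Cfsg.Agent.Lib.Helper43_S3452_PGLL.pgl2_lower p

/-! ### TYPES -/

/-- S3452-TYPES -/
theorem sl2_types (p : ℕ) [Fact p.Prime] (hp2 : p ≠ 2) (g : SL2 p) :
    ((((g ^ ((p - 1) / 2) : SL2 p) : M2 p) = 1 ∨ ((g ^ ((p - 1) / 2) : SL2 p) : M2 p) = -1) ∨
      (((g ^ ((p + 1) / 2) : SL2 p) : M2 p) = 1 ∨ ((g ^ ((p + 1) / 2) : SL2 p) : M2 p) = -1) ∨
      ∃ N : M2 p, N * N = 0 ∧ ((g : M2 p) = 1 + N ∨ (g : M2 p) = -(1 + N))) :=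
  Cfsg.Agent.Lib.Helper69_S3452_TYPES.sl2_types p hp2 g

/-! ### GEOA -/

/-- S3452-GEOA (1) -/
theorem fE_orbit_card_le_two (p : ℕ) [Fact p.Prime] (hp2 : p ≠ 2) (δ a b a' b' : ZMod p)
    (hδ : ¬ IsSquare δ) (h1 : a ^ 2 - δ * b ^ 2 = δ) (h2 : a' ^ 2 - δ * b' ^ 2 = δ)
    (hind : a * b' - a' * b ≠ 0) (N : M2 p) (hN : N * N = 0) (hN0 : N ≠ 0) (M : M2 p) :
    (Finset.univ.filter fun s : ZMod p =>
      InE p δ a b a' b' ((1 + s • N) * M * (1 - s • N))).card = 0 ∨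
    (Finset.univ.filter fun s : ZMod p =>
      InE p δ a b a' b' ((1 + s • N) * M * (1 - s • N))).card = 2 :=
  Cfsg.Agent.Lib.Helper54_S3452_GEOA.fE_orbit_card_le_two p hp2 δ a b a' b' hδ h1 h2 hind N hN hN0 M

/-- S3452-GEOA (2) -/
theorem fE_cusp (p : ℕ) [Fact p.Prime] (hp2 : p ≠ 2) (δ a b a' b' : ZMod p)
    (hδ : ¬ IsSquare δ) (h1 : a ^ 2 - δ * b ^ 2 = δ) (h2 : a' ^ 2 - δ * b' ^ 2 = δ)
    (hind : a * b' - a' * b ≠ 0) : IsCusp p (fE p δ a b a' b') :=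
  Cfsg.Agent.Lib.Helper54_S3452_GEOA.fE_cusp p hp2 δ a b a' b' hδ h1 h2 hind

/-! ### GEOB -/

/-- S3452-GEOB (1) -/
theorem YY_inE (p : ℕ) [Fact p.Prime] (δ a b a' b' : ZMod p) (h1 : a ^ 2 - δ * b ^ 2 = δ) :
    InE p δ a b a' b' (YY p δ a b) :=
  Cfsg.Agent.Lib.Helper54_S3452_GEOB.YY_inE p δ a b a' b' h1

/-- S3452-GEOB (2) -/
theorem inE_unique (p : ℕ) [Fact p.Prime] (hp2 : p ≠ 2) (δ a b a' b' x₁ x₂ : ZMod p)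
    (hδ0 : δ ≠ 0) (h1 : a ^ 2 - δ * b ^ 2 = δ) (hx : x₁ * b' - x₂ * a' ≠ 0) (M : M2 p)
    (hM : InE p δ a b a' b' M)
    (hMx : 2 * x₁ * M 0 0 + x₂ * (M 1 0 - δ * M 0 1) = 2 * x₁ * a - 2 * δ * x₂ * b) :
    M = YY p δ a b :=
  Cfsg.Agent.Lib.Helper54_S3452_GEOB.inE_unique p hp2 δ a b a' b' x₁ x₂ hδ0 h1 hx M hM hMx

/-! ### EXIST3 -/

/-- S3452-EXIST3 -/
theorem exists_three (p : ℕ) [Fact p.Prime] (hp5 : 5 ≤ p) (δ : ZMod p) (hδ : ¬ IsSquare δ) :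
    ∃ a b a' b' a'' b'' : ZMod p, a ^ 2 - δ * b ^ 2 = δ ∧ a' ^ 2 - δ * b' ^ 2 = δ ∧
      a'' ^ 2 - δ * b'' ^ 2 = δ ∧ a * b' - a' * b ≠ 0 ∧ a'' * b' - a' * b'' ≠ 0 ∧
      a'' * b - a * b'' ≠ 0 :=
  Cfsg.Agent.Lib.Helper69_S3452_EXIST3.exists_three p hp5 δ hδ

/-- S3452-EXIST3 (0) -/
theorem exists_nonsquare (p : ℕ) [Fact p.Prime] (hp2 : p ≠ 2) : ∃ δ : ZMod p, ¬ IsSquare δ :=
  Cfsg.Agent.Lib.Helper69_S3452_EXIST3.exists_nonsquare p hp2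

/-! ### TORNS / TORS -/

/-- S3452-TORNS -/
theorem exists_nonsplit (p : ℕ) [Fact p.Prime] (hp2 : p ≠ 2) (δ a b : ZMod p) (hδ : ¬ IsSquare δ)
    (h : a ^ 2 - δ * b ^ 2 = δ) :
    ∃ D : SL2 p, (D : M2 p) * YY p δ a b = YY p δ a b * (D : M2 p) ∧
      ∀ j : ℕ, (((D ^ j : SL2 p) : M2 p) = 1 ∨ ((D ^ j : SL2 p) : M2 p) = -1) ↔ (p + 1) / 2 ∣ j :=
  Cfsg.Agent.Lib.Helper31_S3452_TORNS.exists_nonsplit p hp2 δ a b hδ h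

/-- S3452-TORS -/
theorem exists_split (p : ℕ) [Fact p.Prime] (hp2 : p ≠ 2) :
    ∃ g : SL2 p, (g : M2 p) 0 1 = 0 ∧ (g : M2 p) 1 0 = 0 ∧
      ∀ j : ℕ, (((g ^ j : SL2 p) : M2 p) = 1 ∨ ((g ^ j : SL2 p) : M2 p) = -1) ↔ (p - 1) / 2 ∣ j :=
  Cfsg.Agent.Lib.Helper31_S3452_TORS.exists_split p hp2

/-! ### SUM -/

/-- S3452-SUM -/
theorem torus_sum (p : ℕ) [Fact p.Prime] (hp2 : p ≠ 2) (δ a b a' b' x₁ x₂ : ZMod p)
    (hδ : ¬ IsSquare δ) (h1 : a ^ 2 - δ * b ^ 2 = δ)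
    (hx : x₁ * b - x₂ * a ≠ 0)
    (huniq : ∀ M : M2 p, InE p δ a b a' b' M →
      2 * x₁ * M 0 0 + x₂ * (M 1 0 - δ * M 0 1) = 2 * x₁ * a - 2 * δ * x₂ * b → M = YY p δ a b)
    (hY : InE p δ a b a' b' (YY p δ a b))
    (g : SL2 p) (hcomm : (g : M2 p) * YY p δ x₁ x₂ = YY p δ x₁ x₂ * (g : M2 p)) (d : ℕ) (hd : 0 < d)
    (hord : ∀ j : ℕ, (((g ^ j : SL2 p) : M2 p) = 1 ∨ ((g ^ j : SL2 p) : M2 p) = -1) ↔ d ∣ j)
    (v : cuspSub p) (hv : (v : M2 p → ZMod 2) = fE p δ a b a' b') :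
    (((∑ i ∈ Finset.range d, (rho p g) ^ i) v : cuspSub p) : M2 p → ZMod 2) (YY p δ a b) = 1 :=
  Cfsg.Agent.Lib.Helper65_S3452_SUM.torus_sum p hp2 δ a b a' b' x₁ x₂ hδ h1 hx huniq hY g hcomm d hd hord v hv

/-! ### UNIP -/

/-- S3452-UNIP (1) -/
theorem rho_of_scalar (p : ℕ) [Fact p.Prime] (z : SL2 p) (hz : (z : M2 p) = 1 ∨ (z : M2 p) = -1) :
    rho p z = 1 :=
  Cfsg.Agent.Lib.Helper5_S3452_UNIP.rho_of_scalar p z hz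

/-- S3452-UNIP (2) -/
theorem unip_pow (p : ℕ) [Fact p.Prime] (N : M2 p) (hN : N * N = 0) (u : SL2 p)
    (hu : (u : M2 p) = 1 + N ∨ (u : M2 p) = -(1 + N)) : (rho p u) ^ p = 1 :=
  Cfsg.Agent.Lib.Helper5_S3452_UNIP.unip_pow p N hN u hu

/-- S3452-UNIP (3) -/
theorem unip_sum (p : ℕ) [Fact p.Prime] (N : M2 p) (hN : N * N = 0) (hN0 : N ≠ 0) (u : SL2 p)
    (hu : (u : M2 p) = 1 + N ∨ (u : M2 p) = -(1 + N)) :
    ∑ i ∈ Finset.range p, (rho p u) ^ i = 0 :=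
  Cfsg.Agent.Lib.Helper5_S3452_UNIP.unip_sum p N hN hN0 u hu

/-! ### FAITH / NT -/

/-- S3452-FAITH -/
theorem rho_faithful (p : ℕ) [Fact p.Prime] (hp5 : 5 ≤ p) (hnt : ∃ u : SL2 p, rho p u ≠ 1)
    (g : SL2 p) (hg : rho p g = 1) : (g : M2 p) = 1 ∨ (g : M2 p) = -1 :=
  Cfsg.Agent.Lib.Helper5_S3452_FAITH.rho_faithful p hp5 hnt g hg

/-- S3452-NT -/
theorem rho_nontrivial_of (p : ℕ) [Fact p.Prime] (hp5 : 5 ≤ p) (v : cuspSub p) (Y : M2 p)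
    (hY : (v : M2 p → ZMod 2) Y = 1)
    (hle : ∀ N : M2 p, N * N = 0 → N ≠ 0 → (Finset.univ.filter fun s : ZMod p =>
      (v : M2 p → ZMod 2) ((1 + s • N) * Y * (1 - s • N)) = 1).card ≤ 2) :
    ∃ u : SL2 p, rho p u ≠ 1 :=
  Cfsg.Agent.Lib.Helper5_S3452_NT.rho_nontrivial_of p hp5 v Y hY hle

/-! ### TWO / THREE / NINE -/

/-- S3452-TWO -/
theorem small_two (M : ℕ) : ∃ (H : Type) (_ : Group H) (_ : Fintype H), M < Fintype.card H ∧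
    Set.range (orderOf : H → ℕ) = {n | n ∣ 1 ∨ n ∣ 3 ∨ n ∣ 2} :=
  Cfsg.Agent.Lib.Helper8_S3452_TWO.small_two M

/-- S3452-THREE -/
theorem small_three (M : ℕ) : ∃ (H : Type) (_ : Group H) (_ : Fintype H), M < Fintype.card H ∧
    Set.range (orderOf : H → ℕ) = {n | n ∣ 2 ∨ n ∣ 4 ∨ n ∣ 3} :=
  Cfsg.Agent.Lib.Helper8_S3452_THREE.small_three M

/-- S3452-NINE -/
theorem small_nine (M : ℕ) : ∃ (H : Type) (_ : Group H) (_ : Fintype H), M < Fintype.card H ∧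
    Set.range (orderOf : H → ℕ) = {n | n ∣ 8 ∨ n ∣ 10 ∨ n ∣ 3} :=
  Cfsg.Agent.Lib.Helper61_S3452_NINE.small_nine M

end Cfsg.Agent.Lib.Helper40_PGLHub
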