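import Mathlib
import Cfsg.Agent.Lib.Helper40_PGLHub
import Cfsg.Agent.Lib.Helper49_S3466_SDP

/-!
# S3452: assembly

Groups of unbounded order with the spectrum of `PGL₂(q)`, `q` a prime or `9`.
-/

set_option autoImplicit false

open scoped Matrix
open Cfsg.Agent.Lib.Helper40_PGLDefs Cfsg.Agent.Lib.Helper40_PGLHub Cfsg.Agent.Lib.Helper40_P4Defs

namespace Cfsg.Agent.Lib.Helper40_PGLMain

theorem range_orderOf_dvd_closed {H : Type*} [Group H] {m n : ℕ} (hm : 0 < m)
    (h : m ∈ Set.range (orderOf : H → ℕ)) (hn : n ∣ m) : n ∈ Set.range (orderOf : H → ℕ) := by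
  obtain ⟨x, rfl⟩ := h
  obtain ⟨c, hc⟩ := hn
  have hc0 : 0 < c := by
    rcases Nat.eq_zero_or_pos c with h0 | h0
    · rw [h0, mul_zero] at hc
      omega
    · exact h0
  refine ⟨x ^ c, ?_⟩
  rw [orderOf_pow' x hc0.ne', hc, Nat.gcd_eq_right (dvd_mul_left c n), Nat.mul_div_cancel _ hc0]

/-- the spectrum of `PGL₂(F)` -/
theorem pgl2_spec {F : Type*} [Field F] [Fintype F] (p : ℕ) [Fact p.Prime] [CharP F p] :
    Set.range (orderOf : Matrix.GeneralLinearGroup (Fin 2) F ⧸
      Subgroup.center (Matrix.GeneralLinearGroup (Fin 2) F) → ℕ) =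
      {n | n ∣ Fintype.card F - 1 ∨ n ∣ Fintype.card F + 1 ∨ n ∣ p} := by
  have hp : p.Prime := Fact.out
  have hq : 1 < Fintype.card F := Fintype.one_lt_card
  obtain ⟨⟨x1, hx1⟩, ⟨x2, hx2⟩, ⟨x3, hx3⟩⟩ := pgl2_lower (F := F) p
  ext n
  constructor
  · rintro ⟨x, rfl⟩
    exact pgl2_upper p x
  · rintro (h | h | h)
    · exact range_orderOf_dvd_closed (by omega) ⟨x1, hx1⟩ h
    · exact range_orderOf_dvd_closed (by omega) ⟨x2, hx2⟩ h
    · exact range_orderOf_dvd_closed hp.pos ⟨x3, hx3⟩ h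

section prime

variable (p : ℕ) [Fact p.Prime]

theorem rho_pow_eq_one_iff (hp5 : 5 ≤ p) (hnt : ∃ u : SL2 p, rho p u ≠ 1) (g : SL2 p) (d : ℕ)
    (hord : ∀ j : ℕ, (((g ^ j : SL2 p) : M2 p) = 1 ∨ ((g ^ j : SL2 p) : M2 p) = -1) ↔ d ∣ j)
    (j : ℕ) : (rho p g) ^ j = 1 ↔ d ∣ j := by
  rw [← map_pow, ← hord j]
  constructor
  · exact rho_faithful p hp5 hnt _
  · exact rho_of_scalar p _

theorem orderOf_rho_eq (hp5 : 5 ≤ p) (hnt : ∃ u : SL2 p, rho p u ≠ 1) (g : SL2 p) (d : ℕ)
    (hord : ∀ j : ℕ, (((g ^ j : SL2 p) : M2 p) = 1 ∨ ((g ^ j : SL2 p) : M2 p) = -1) ↔ d ∣ j) :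
    orderOf (rho p g) = d :=
  Nat.dvd_antisymm
    (orderOf_dvd_of_pow_eq_one ((rho_pow_eq_one_iff p hp5 hnt g d hord d).2 dvd_rfl))
    ((rho_pow_eq_one_iff p hp5 hnt g d hord _).1 (pow_orderOf_eq_one _))

/-- a torus generator realizes twice its order -/
theorem realizes_torus (hp5 : 5 ≤ p) (hnt : ∃ u : SL2 p, rho p u ≠ 1) (δ a b a' b' x₁ x₂ : ZMod p)
    (hδ : ¬ IsSquare δ) (h1 : a ^ 2 - δ * b ^ 2 = δ) (h2 : a' ^ 2 - δ * b' ^ 2 = δ)
    (hind : a * b' - a' * b ≠ 0) (hx : x₁ * b - x₂ * a ≠ 0) (hx' : x₁ * b' - x₂ * a' ≠ 0)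
    (g : SL2 p) (hcomm : (g : M2 p) * YY p δ x₁ x₂ = YY p δ x₁ x₂ * (g : M2 p)) (d : ℕ)
    (hd : 0 < d)
    (hord : ∀ j : ℕ, (((g ^ j : SL2 p) : M2 p) = 1 ∨ ((g ^ j : SL2 p) : M2 p) = -1) ↔ d ∣ j) :
    Realizes 2 (rho p g) (2 * d) := by
  have hp : p.Prime := Fact.out
  have hp2 : p ≠ 2 := by omega
  have hδ0 : δ ≠ 0 := by
    rintro rfl
    exact hδ ⟨0, by simp⟩
  have hcusp := fE_cusp p hp2 δ a b a' b' hδ h1 h2 hind
  set v : cuspSub p := ⟨fE p δ a b a' b', hcusp⟩ with hv
  have hsum := torus_sum p hp2 δ a b a' b' x₁ x₂ hδ h1 hx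
    (fun M hM hMx => inE_unique p hp2 δ a b a' b' x₁ x₂ hδ0 h1 hx' M hM hMx)
    (YY_inE p δ a b a' b' h1) g hcomm d hd hord v rfl
  have hord' := orderOf_rho_eq p hp5 hnt g d hord
  refine Or.inr ⟨by rw [hord'], ?_⟩
  intro h0
  unfold normSum at h0
  rw [hord'] at h0
  rw [h0] at hsum
  exact zero_ne_one hsum

theorem fE_eq_one_iff (δ a b a' b' : ZMod p) (M : M2 p) :
    fE p δ a b a' b' M = 1 ↔ InE p δ a b a' b' M := by
  unfold fE
  split_ifs with h
  · simp [h]
  · simp [h]

/-- the main case: `p ≥ 5` prime -/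
theorem prime_case (hp5 : 5 ≤ p) (M : ℕ) :
    ∃ (H : Type) (_ : Group H) (_ : Fintype H), M < Fintype.card H ∧
      Set.range (orderOf : H → ℕ) = {n | n ∣ p - 1 ∨ n ∣ p + 1 ∨ n ∣ p} := by
  classical
  have hp : p.Prime := Fact.out
  have hp2 : p ≠ 2 := by omega
  have hodd : p % 2 = 1 := by
    rcases hp.eq_two_or_odd with h | h
    · omega
    · exact h
  obtain ⟨δ, hδ⟩ := exists_nonsquare p hp2
  have hδ0 : δ ≠ 0 := by
    rintro rfl
    exact hδ ⟨0, by simp⟩
  obtain ⟨a, b, a', b', a'', b'', h1, h2, h3, h12, h32, h31⟩ := exists_three p hp5 δ hδ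
  have hb : b ≠ 0 := by
    rintro rfl
    apply hδ
    refine ⟨a, ?_⟩
    rw [← h1]
    ring
  have hb' : b' ≠ 0 := by
    rintro rfl
    apply hδ
    refine ⟨a', ?_⟩
    rw [← h2]
    ring
  have hcusp := fE_cusp p hp2 δ a b a' b' hδ h1 h2 h12
  set v : cuspSub p := ⟨fE p δ a b a' b', hcusp⟩ with hv
  have hYE := YY_inE p δ a b a' b' h1
  have hvY : (v : M2 p → ZMod 2) (YY p δ a b) = 1 := (fE_eq_one_iff p δ a b a' b' _).2 hYE
  -- nontriviality
  have hnt : ∃ u : SL2 p, rho p u ≠ 1 := by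
    refine rho_nontrivial_of p hp5 v (YY p δ a b) hvY ?_
    intro N hN hN0
    have hc := fE_orbit_card_le_two p hp2 δ a b a' b' hδ h1 h2 h12 N hN hN0 (YY p δ a b)
    have heq : (Finset.univ.filter fun s : ZMod p =>
        (v : M2 p → ZMod 2) ((1 + s • N) * YY p δ a b * (1 - s • N)) = 1) =
        (Finset.univ.filter fun s : ZMod p =>
          InE p δ a b a' b' ((1 + s • N) * YY p δ a b * (1 - s • N))) := by
      refine Finset.filter_congr fun s _ => ?_
      exact fE_eq_one_iff p δ a b a' b' _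
    rw [heq]
    rcases hc with hc | hc <;> omega
  -- the group from SDP
  have : Fintype (cuspSub p) := Fintype.ofFinite _
  have : Nontrivial (cuspSub p) := by
    refine ⟨⟨v, 0, ?_⟩⟩
    intro h
    have : (v : M2 p → ZMod 2) (YY p δ a b) = 0 := by rw [h]; rfl
    rw [hvY] at this
    exact one_ne_zero this
  have hV : ∀ w : cuspSub p, 2 • w = 0 := by
    intro w
    apply Subtype.ext
    funext M
    change 2 • ((w : M2 p → ZMod 2) M) = 0
    have : (2 : ZMod 2) = 0 := by decide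
    rw [nsmul_eq_mul, Nat.cast_ofNat, this, zero_mul]
  set 𝒮 : Submonoid (AddMonoid.End (cuspSub p)) := MonoidHom.mrange (rho p) with h𝒮def
  have h𝒮 : ∀ α ∈ 𝒮, ∃ n : ℕ, 0 < n ∧ α ^ n = 1 := by
    rintro α ⟨g, rfl⟩
    refine ⟨orderOf g, orderOf_pos g, ?_⟩
    rw [← map_pow, pow_orderOf_eq_one, map_one]
  obtain ⟨H, iG, iF, hcard, hrange⟩ := Cfsg.Agent.Lib.Helper49_S3466_SDP.SDP 2 Nat.prime_two hV 𝒮 h𝒮 M
  refine ⟨H, iG, iF, hcard, ?_⟩
  -- upper bound
  have hsub : ∀ n : ℕ, (∃ α ∈ 𝒮, Realizes 2 α n) → n ∣ p - 1 ∨ n ∣ p + 1 ∨ n ∣ p := by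
    rintro n ⟨α, ⟨g, rfl⟩, hR⟩
    have hm2 : 2 * ((p - 1) / 2) = p - 1 := by omega
    have hn2 : 2 * ((p + 1) / 2) = p + 1 := by omega
    rcases sl2_types p hp2 g with h | h | ⟨N, hN, hu⟩
    · have hpow : (rho p g) ^ ((p - 1) / 2) = 1 := by
        rw [← map_pow]
        exact rho_of_scalar p _ h
      have ho := orderOf_dvd_of_pow_eq_one hpow
      left
      rcases hR with rfl | ⟨rfl, -⟩
      · exact ho.trans ⟨2, by omega⟩
      · rw [← hm2]
        exact Nat.mul_dvd_mul_left 2 ho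
    · have hpow : (rho p g) ^ ((p + 1) / 2) = 1 := by
        rw [← map_pow]
        exact rho_of_scalar p _ h
      have ho := orderOf_dvd_of_pow_eq_one hpow
      right; left
      rcases hR with rfl | ⟨rfl, -⟩
      · exact ho.trans ⟨2, by omega⟩
      · rw [← hn2]
        exact Nat.mul_dvd_mul_left 2 ho
    · have hpow := unip_pow p N hN g hu
      have ho := orderOf_dvd_of_pow_eq_one hpow
      rcases (Nat.dvd_prime hp).1 ho with ho1 | hop
      · rcases hR with rfl | ⟨rfl, -⟩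
        · right; right
          rw [ho1]
          exact one_dvd _
        · left
          rw [ho1]
          exact ⟨(p - 1) / 2, by omega⟩
      · rcases hR with rfl | ⟨rfl, hns⟩
        · right; right
          exact ho
        · exfalso
          have hN0 : N ≠ 0 := by
            rintro rfl
            have : rho p g = 1 := by
              apply rho_of_scalar p g
              rcases hu with hu | hu
              · left; rw [hu, add_zero]
              · right; rw [hu, add_zero]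
            rw [this, orderOf_one] at hop
            omega
          apply hns
          unfold normSum
          rw [hop]
          exact unip_sum p N hN hN0 g hu
  -- the three maximal orders
  have hS1 : ∃ α ∈ 𝒮, Realizes 2 α (p - 1) := by
    obtain ⟨g, h01, h10, hord⟩ := exists_split p hp2
    have hcomm : (g : M2 p) * YY p δ 1 0 = YY p δ 1 0 * (g : M2 p) := by
      ext i j
      fin_cases i <;> fin_cases j <;>
        simp [YY, Matrix.mul_apply, Fin.sum_univ_two, h01, h10]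
    have hR := realizes_torus p hp5 hnt δ a b a' b' 1 0 hδ h1 h2 h12
      (by simpa using hb) (by simpa using hb') g hcomm ((p - 1) / 2) (by omega) hord
    refine ⟨rho p g, ⟨g, rfl⟩, ?_⟩
    have : 2 * ((p - 1) / 2) = p - 1 := by omega
    rwa [this] at hR
  have hS2 : ∃ α ∈ 𝒮, Realizes 2 α (p + 1) := by
    obtain ⟨D, hcomm, hord⟩ := exists_nonsplit p hp2 δ a'' b'' hδ h3
    have hR := realizes_torus p hp5 hnt δ a b a' b' a'' b'' hδ h1 h2 h12
      (by
        intro h
        apply h31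
        linear_combination h)
      (by
        intro h
        apply h32
        linear_combination h) D hcomm ((p + 1) / 2) (by omega) hord
    refine ⟨rho p D, ⟨D, rfl⟩, ?_⟩
    have : 2 * ((p + 1) / 2) = p + 1 := by omega
    rwa [this] at hR
  have hS3 : ∃ α ∈ 𝒮, Realizes 2 α p := by
    set N₀ : M2 p := !![0, 1; 0, 0] with hN₀
    have hNN : N₀ * N₀ = 0 := by
      ext i j
      fin_cases i <;> fin_cases j <;> simp [hN₀, Matrix.mul_apply, Fin.sum_univ_two]
    set u : SL2 p := ⟨1 + N₀, by simp [hN₀, Matrix.det_fin_two]⟩ with hu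
    have hpow := unip_pow p N₀ hNN u (Or.inl rfl)
    have ho := orderOf_dvd_of_pow_eq_one hpow
    have hne : rho p u ≠ 1 := by
      intro h
      have h01 : (1 : ZMod p) ≠ 0 := one_ne_zero
      rcases rho_faithful p hp5 hnt u h with h' | h'
      · have := congrFun (congrFun h' 0) 1
        simp [hu, hN₀] at this
      · have := congrFun (congrFun h' 0) 1
        simp [hu, hN₀] at this
    refine ⟨rho p u, ⟨u, rfl⟩, Or.inl ?_⟩
    rcases (Nat.dvd_prime hp).1 ho with ho1 | hop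
    · exact absurd (orderOf_eq_one_iff.1 ho1) hne
    · exact hop.symm
  rw [hrange]
  have hrange' : ∀ m : ℕ, 0 < m → (∃ α ∈ 𝒮, Realizes 2 α m) → ∀ n : ℕ, n ∣ m →
      ∃ α ∈ 𝒮, Realizes 2 α n := by
    intro m hm hmS n hn
    have h1 : m ∈ Set.range (orderOf : H → ℕ) := by
      rw [hrange]
      exact hmS
    have h2 := range_orderOf_dvd_closed hm h1 hn
    rw [hrange] at h2
    exact h2
  ext n
  constructor
  · exact hsub n
  · rintro (h | h | h)
    · exact hrange' (p - 1) (by omega) hS1 n h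
    · exact hrange' (p + 1) (by omega) hS2 n h
    · exact hrange' p hp.pos hS3 n h

end prime

/-- the statement of S3452 -/
theorem main {F : Type*} [Field F] [Fintype F]
    (hF : (Fintype.card F).Prime ∨ Fintype.card F = 9) (N : ℕ) :
    ∃ (H : Type) (_ : Group H) (_ : Fintype H), N < Fintype.card H ∧
      Set.range (orderOf : H → ℕ) = Set.range (orderOf : Matrix.GeneralLinearGroup (Fin 2) F ⧸
        Subgroup.center (Matrix.GeneralLinearGroup (Fin 2) F) → ℕ) := by
  obtain ⟨n, hprime, hcard⟩ := FiniteField.card F (ringChar F)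
  have : Fact (ringChar F).Prime := ⟨hprime⟩
  have : CharP F (ringChar F) := ringChar.charP F
  rw [pgl2_spec (ringChar F)]
  rcases hF with hF | hF
  · -- prime order
    have hn1 : (n : ℕ) = 1 := by
      rw [hcard] at hF
      by_contra hne
      have hn2 : 2 ≤ (n : ℕ) := by
        have := n.pos
        omega
      exact (Nat.Prime.not_prime_pow hn2) hF
    have hq : Fintype.card F = ringChar F := by rw [hcard, hn1, pow_one]
    rw [hq]
    set p := ringChar F with hp
    have hp2 : 2 ≤ p := hprime.two_le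
    by_cases h5 : 5 ≤ p
    · exact prime_case p h5 N
    · have : p = 2 ∨ p = 3 ∨ p = 4 := by omega
      rcases this with h | h | h
      · rw [h]
        exact small_two N
      · rw [h]
        exact small_three N
      · exfalso
        rw [h] at hprime
        exact absurd hprime (by decide)
  · -- nine
    have h3 : ringChar F = 3 := by
      have h9 : (ringChar F) ^ (n : ℕ) = 3 ^ 2 := by rw [← hcard, hF]; norm_num
      have hdvd : ringChar F ∣ 3 ^ 2 := by
        rw [← h9]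
        exact dvd_pow_self _ n.pos.ne'
      exact (Nat.prime_dvd_prime_iff_eq hprime Nat.prime_three).1
        (hprime.dvd_of_dvd_pow hdvd)
    rw [hF, h3]
    exact small_nine N

end Cfsg.Agent.Lib.Helper40_PGLMain
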