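import Mathlib
import Cfsg.Agent.Lib.Helper40_ScalePoly
import Cfsg.Agent.Lib.Helper40_ClassCount
import Cfsg.Agent.Lib.Helper40_PrimeOrderClasses
import Cfsg.Agent.Lib.Helper40_PGLInvol

set_option autoImplicit false

/-!
Conjugacy classes of elements of prime order `r` in a projective group `G / Z(G)`, where `G` is a
finite matrix group whose centre consists of the scalar matrices with scalar in the `m`-th roots
of unity (`r ∣ m`), semisimple elements with equal characteristic polynomial are conjugate, and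
all the expected characteristic polynomials occur (abstract form covering `PGL_n(q)`, `r ∣ q - 1`,
and `PGU_n(q)`, `r ∣ q + 1`).
-/

namespace Cfsg.Agent.Lib.Helper40_ProjClasses

open Polynomial Matrix Cfsg.Agent.Lib.Helper40_ScalePoly

universe u v

/-- splitting the classes meeting `P` according to a class-invariant property `Q` -/
theorem card_classes_split {G : Type*} [Group G] [Finite G] (P Q : G → Prop)
    (hQ : ∀ g h, IsConj g h → Q g → Q h) :
    Nat.card {C : ConjClasses G // ∃ g, ConjClasses.mk g = C ∧ P g} =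
      Nat.card {C : ConjClasses G // ∃ g, ConjClasses.mk g = C ∧ (P g ∧ Q g)} +
      Nat.card {C : ConjClasses G // ∃ g, ConjClasses.mk g = C ∧ (P g ∧ ¬ Q g)} := by
  classical
  have hfin : Finite (ConjClasses G) := inferInstance
  set A : Set (ConjClasses G) := {C | ∃ g, ConjClasses.mk g = C ∧ P g} with hA
  set B : Set (ConjClasses G) := {C | ∃ g, ConjClasses.mk g = C ∧ (P g ∧ Q g)} with hB
  set B' : Set (ConjClasses G) := {C | ∃ g, ConjClasses.mk g = C ∧ (P g ∧ ¬ Q g)} with hB'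
  show Nat.card A = Nat.card B + Nat.card B'
  rw [_root_.Nat.card_coe_set_eq, _root_.Nat.card_coe_set_eq, _root_.Nat.card_coe_set_eq]
  have hAB : A = B ∪ B' := by
    ext C
    constructor
    · rintro ⟨g, rfl, hg⟩
      by_cases hq : Q g
      · left; exact ⟨g, rfl, hg, hq⟩
      · right; exact ⟨g, rfl, hg, hq⟩
    · rintro (⟨g, rfl, hg, _⟩ | ⟨g, rfl, hg, _⟩) <;> exact ⟨g, rfl, hg⟩
  have hdisj : Disjoint B B' := by
    rw [Set.disjoint_left]
    rintro C ⟨g, rfl, _, hq⟩ ⟨h, hh, _, hnq⟩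
    exact hnq (hQ g h (ConjClasses.mk_eq_mk_iff_isConj.1 hh.symm) hq)
  rw [hAB, Set.ncard_union_eq hdisj (Set.toFinite _) (Set.toFinite _)]

section roots

variable {K : Type v} [Field K]

/-- an `m`-th root of unity killed by `m / r` is an `r`-th power of an `m`-th root of unity -/
theorem exists_pow_eq_of_pow_div (r m : ℕ) (hm : 0 < m) (hrm : r ∣ m) (ω : K)
    (hω : IsPrimitiveRoot ω m) (x : K) (hx : x ^ m = 1) (hx' : x ^ (m / r) = 1) :
    ∃ b : K, b ^ m = 1 ∧ b ^ r = x := by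
  have : NeZero m := ⟨hm.ne'⟩
  obtain ⟨s, hs⟩ := hrm
  have hr0 : 0 < r := by
    rcases Nat.eq_zero_or_pos r with h | h
    · rw [h, zero_mul] at hs; omega
    · exact h
  have hs0 : 0 < s := by
    rcases Nat.eq_zero_or_pos s with h | h
    · rw [h, mul_zero] at hs; omega
    · exact h
  have hdiv : m / r = s := by rw [hs, Nat.mul_div_cancel_left s hr0]
  rw [hdiv] at hx'
  obtain ⟨i, _, hi⟩ := hω.eq_pow_of_pow_eq_one hx
  rw [← hi, ← pow_mul] at hx'
  have h1 : m ∣ i * s := hω.dvd_of_pow_eq_one _ hx'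
  rw [hs] at h1
  have h2 : r ∣ i := Nat.dvd_of_mul_dvd_mul_right hs0 h1
  obtain ⟨j, hj⟩ := h2
  refine ⟨ω ^ j, ?_, ?_⟩
  · rw [← pow_mul, mul_comm, pow_mul, hω.pow_eq_one, one_pow]
  · rw [← pow_mul, mul_comm, ← hj, hi]

/-- every `r`-th root of unity is the `m / r`-th power of an `m`-th root of unity -/
theorem exists_pow_div_eq (r m : ℕ) (hm : 0 < m) (hrm : r ∣ m) (ω : K)
    (hω : IsPrimitiveRoot ω m) (t : K) (ht : t ^ r = 1) :
    ∃ l : K, l ^ m = 1 ∧ l ^ (m / r) = t := by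
  obtain ⟨s, hs⟩ := hrm
  have hr0 : 0 < r := by
    rcases Nat.eq_zero_or_pos r with h | h
    · rw [h, zero_mul] at hs; omega
    · exact h
  have : NeZero r := ⟨hr0.ne'⟩
  have hdiv : m / r = s := by rw [hs, Nat.mul_div_cancel_left s hr0]
  rw [hdiv]
  have hζ : IsPrimitiveRoot (ω ^ s) r := hω.pow hm (by rw [hs, mul_comm])
  obtain ⟨j, _, hj⟩ := hζ.eq_pow_of_pow_eq_one ht
  refine ⟨ω ^ j, ?_, ?_⟩
  · rw [← pow_mul, mul_comm, pow_mul, hω.pow_eq_one, one_pow]
  · rw [← pow_mul, mul_comm, pow_mul, hj]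

end roots

section matrices

variable {K : Type v} [Field K] {n : ℕ}

theorem smul_one_pow (a : K) (k : ℕ) :
    (a • (1 : Matrix (Fin n) (Fin n) K)) ^ k = a ^ k • (1 : Matrix (Fin n) (Fin n) K) := by
  rw [_root_.smul_pow, one_pow]

theorem smul_pow' (a : K) (A : Matrix (Fin n) (Fin n) K) (k : ℕ) :
    (a • A) ^ k = a ^ k • A ^ k := _root_.smul_pow a A k

theorem charpoly_smul_one (a : K) :
    (a • (1 : Matrix (Fin n) (Fin n) K)).charpoly = (X - C a) ^ n := by
  have h : a • (1 : Matrix (Fin n) (Fin n) K) = Matrix.scalar (Fin n) a := by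
    rw [Matrix.scalar_apply, Matrix.smul_one_eq_diagonal]
  rw [h, Matrix.scalar_apply, Matrix.charpoly_diagonal]
  rw [Finset.prod_const, Finset.card_univ, Fintype.card_fin]

/-- a matrix killed by `X ^ r - 1` (`r` invertible) with characteristic polynomial
`(X - a) ^ n` is the scalar `a` -/
theorem eq_smul_one_of_charpoly (r : ℕ) (hrK : (r : K) ≠ 0) (A : Matrix (Fin n) (Fin n) K)
    (hA : A ^ r = 1) (a : K) (ha : a ≠ 0) (har : a ^ r = 1) (hc : A.charpoly = (X - C a) ^ n) :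
    A = a • (1 : Matrix (Fin n) (Fin n) K) := by
  have h1 : (a⁻¹ • A) ^ r = 1 := by
    rw [_root_.smul_pow, hA, inv_pow, har, inv_one, one_smul]
  have h2 : (a⁻¹ • A).charpoly = (X - 1) ^ n := by
    rw [charpoly_smul _ (inv_ne_zero ha), hc, pow_scaleRoots_of_isReduced, X_sub_C_scaleRoots,
      mul_inv_cancel₀ ha, map_one]
  have h3 := Helper40_PrimeOrderClasses.eq_one_of_isSS_of_charpoly (a⁻¹ • A)
    (Helper40_SemisimpleGL.isSS_of_pow_eq_one _ r hrK h1) h2
  calc A = a • (a⁻¹ • A) := by rw [smul_smul, mul_inv_cancel₀ ha, one_smul]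
    _ = a • (1 : Matrix (Fin n) (Fin n) K) := by rw [h3]

/-- the characteristic polynomial of a matrix whose `r`-th power is a scalar that is not an
`r`-th power -/
theorem charpoly_of_pow_eq (r : ℕ) (hr : r.Prime) (A : Matrix (Fin n) (Fin n) K) (l : K)
    (hl : ∀ ν : K, ν ^ r ≠ l) (hA : A ^ r = l • (1 : Matrix (Fin n) (Fin n) K)) :
    ∃ k, n = r * k ∧ A.charpoly = ((X : K[X]) ^ r - C l) ^ k := by
  have hirr : Irreducible ((X : K[X]) ^ r - C l) := X_pow_sub_C_irreducible_of_prime hr hl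
  have hmonic : ((X : K[X]) ^ r - C l).Monic := monic_X_pow_sub_C l hr.pos.ne'
  have hae : aeval A ((X : K[X]) ^ r - C l) = 0 := by
    rw [map_sub, map_pow, aeval_X, aeval_C, hA, Algebra.algebraMap_eq_smul_one, sub_self]
  obtain ⟨k, hk⟩ := Helper40_PGLInvol.eq_pow_of_forall_irreducible_dvd _ hmonic hirr n A.charpoly
    (Matrix.charpoly_monic A) (by rw [Matrix.charpoly_natDegree_eq_dim, Fintype.card_fin])
    (fun f hf hfd =>
      Helper40_PrimeOrderClasses.dvd_of_irreducible_of_dvd_charpoly A _ hae f hf hfd)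
  refine ⟨k, ?_, hk⟩
  have h1 := congrArg natDegree hk
  rw [Matrix.charpoly_natDegree_eq_dim, Fintype.card_fin, natDegree_pow,
    natDegree_X_pow_sub_C] at h1
  rw [h1, mul_comm]

theorem scaleRoots_X_sub_one_pow (a : K) (n : ℕ) :
    (((X : K[X]) - 1) ^ n).scaleRoots a = (X - C a) ^ n := by
  have h : ((X : K[X]) - 1) = X - C 1 := by rw [map_one]
  rw [pow_scaleRoots_of_isReduced, h, X_sub_C_scaleRoots, one_mul]

theorem charpoly_eq_of_isConj_hom {G : Type*} [Group G] (φ : G →* Matrix (Fin n) (Fin n) K)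
    {g k : G} (h : IsConj g k) : (φ g).charpoly = (φ k).charpoly := by
  obtain ⟨c, hc⟩ := isConj_iff.1 h
  have h2 : φ c⁻¹ * φ c = 1 := by rw [← map_mul, inv_mul_cancel, map_one]
  rw [← hc, map_mul, map_mul, Matrix.mul_assoc, Matrix.charpoly_mul_comm, Matrix.mul_assoc, h2,
    Matrix.mul_one]

theorem pow_eq_smul_of_isConj {G : Type*} [Group G] (φ : G →* Matrix (Fin n) (Fin n) K)
    {g h : G} (hgh : IsConj g h) (k : ℕ) (l : K)
    (hg : φ g ^ k = l • (1 : Matrix (Fin n) (Fin n) K)) :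
    φ h ^ k = l • (1 : Matrix (Fin n) (Fin n) K) := by
  obtain ⟨p, hp⟩ := isConj_iff.1 hgh
  have h1 : φ p * φ p⁻¹ = 1 := by rw [← map_mul, mul_inv_cancel, map_one]
  rw [← hp, ← map_pow, conj_pow, map_mul, map_mul, map_pow, hg, Matrix.mul_smul, Matrix.mul_one,
    Matrix.smul_mul, h1]

end matrices

section main

variable {G : Type u} [Group G] {K : Type v} [Field K] {n : ℕ}

/-- the hypotheses on a matrix group `G ≤ GL_n(K)` -/
structure PData (M : G →* Matrix (Fin n) (Fin n) K) (r m : ℕ) : Prop where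
  inj : Function.Injective M
  center : ∀ g, g ∈ Subgroup.center G ↔ ∃ a : K, M g = a • (1 : Matrix (Fin n) (Fin n) K)
  scalar : ∀ g (a : K), M g = a • (1 : Matrix (Fin n) (Fin n) K) → a ^ m = 1
  exscalar : ∀ a : K, a ^ m = 1 → ∃ z : G, M z = a • (1 : Matrix (Fin n) (Fin n) K)
  pow : ∀ ν : K, (ν ^ r) ^ m = 1 → ν ^ m = 1
  sep : ∀ g h : G, g ^ (r * m) = 1 → h ^ (r * m) = 1 → (M g).charpoly = (M h).charpoly →
    IsConj g h
  ex1 : ∀ c ∈ PolySet K r n, ∃ g, (M g).charpoly = c ∧ M g ^ r = 1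
  ex2 : r ∣ n → ∀ l : K, l ^ m = 1 → ∃ g, M g ^ r = l • (1 : Matrix (Fin n) (Fin n) K)

variable {M : G →* Matrix (Fin n) (Fin n) K} {r m : ℕ}

theorem lift_conj (g : G) (y : G ⧸ Subgroup.center G)
    (h : IsConj (g : G ⧸ Subgroup.center G) y) :
    ∃ g' : G, (g' : G ⧸ Subgroup.center G) = y ∧ IsConj g g' := by
  obtain ⟨x, hx⟩ := isConj_iff.1 h
  obtain ⟨p, rfl⟩ := QuotientGroup.mk_surjective x
  refine ⟨p * g * p⁻¹, ?_, isConj_iff.2 ⟨p, rfl⟩⟩
  rw [← hx]
  rfl

/-- some lift has `r`-th power one -/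
def Qp (M : G →* Matrix (Fin n) (Fin n) K) (r : ℕ) (x : G ⧸ Subgroup.center G) : Prop :=
  ∃ g : G, (g : G ⧸ Subgroup.center G) = x ∧ M g ^ r = 1

/-- the characteristic polynomials of the lifts with `r`-th power one -/
def Sinv (M : G →* Matrix (Fin n) (Fin n) K) (r : ℕ) (x : G ⧸ Subgroup.center G) : Set K[X] :=
  {c | ∃ g : G, (g : G ⧸ Subgroup.center G) = x ∧ M g ^ r = 1 ∧ (M g).charpoly = c}

/-- the `m / r`-th powers of the scalars `l` such that some lift has `r`-th power `l` -/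
def Linv (M : G →* Matrix (Fin n) (Fin n) K) (r m : ℕ) (x : G ⧸ Subgroup.center G) : Set K :=
  {t | ∃ (g : G) (l : K), (g : G ⧸ Subgroup.center G) = x ∧
    M g ^ r = l • (1 : Matrix (Fin n) (Fin n) K) ∧ l ^ (m / r) = t}

theorem Qp_conj (x y : G ⧸ Subgroup.center G) (h : IsConj x y) (hx : Qp M r x) : Qp M r y := by
  obtain ⟨g, rfl, hg⟩ := hx
  obtain ⟨g', rfl, hgg'⟩ := lift_conj g y h
  refine ⟨g', rfl, ?_⟩
  have := pow_eq_smul_of_isConj M hgg' r 1 (by rw [hg, one_smul])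
  rwa [one_smul] at this

theorem Sinv_conj_subset (x y : G ⧸ Subgroup.center G) (h : IsConj x y) :
    Sinv M r x ⊆ Sinv M r y := by
  rintro c ⟨g, rfl, hg, rfl⟩
  obtain ⟨g', rfl, hgg'⟩ := lift_conj g y h
  refine ⟨g', rfl, ?_, (charpoly_eq_of_isConj_hom M hgg').symm⟩
  have := pow_eq_smul_of_isConj M hgg' r 1 (by rw [hg, one_smul])
  rwa [one_smul] at this

theorem Sinv_conj (x y : G ⧸ Subgroup.center G) (h : IsConj x y) : Sinv M r x = Sinv M r y :=
  Set.Subset.antisymm (Sinv_conj_subset x y h) (Sinv_conj_subset y x h.symm)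

theorem Linv_conj_subset (x y : G ⧸ Subgroup.center G) (h : IsConj x y) :
    Linv M r m x ⊆ Linv M r m y := by
  rintro t ⟨g, l, rfl, hg, rfl⟩
  obtain ⟨g', rfl, hgg'⟩ := lift_conj g y h
  exact ⟨g', l, rfl, pow_eq_smul_of_isConj M hgg' r l hg, rfl⟩

theorem Linv_conj (x y : G ⧸ Subgroup.center G) (h : IsConj x y) : Linv M r m x = Linv M r m y :=
  Set.Subset.antisymm (Linv_conj_subset x y h) (Linv_conj_subset y x h.symm)

namespace PData

theorem pow_eq_one_iff (D : PData M r m) (g : G) (k : ℕ) : g ^ k = 1 ↔ M g ^ k = 1 := by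
  constructor
  · intro h
    rw [← map_pow, h, map_one]
  · intro h
    apply D.inj
    rw [map_pow, h, map_one]

theorem lift_iff (D : PData M r m) (g g' : G) :
    (g' : G ⧸ Subgroup.center G) = (g : G ⧸ Subgroup.center G) ↔
      ∃ a : K, a ^ m = 1 ∧ M g' = a • M g := by
  constructor
  · intro h
    have h1 : g⁻¹ * g' ∈ Subgroup.center G := QuotientGroup.eq.1 h.symm
    obtain ⟨a, ha⟩ := (D.center _).1 h1
    refine ⟨a, D.scalar _ a ha, ?_⟩
    have h2 : M g' = M g * M (g⁻¹ * g') := by rw [← map_mul, mul_inv_cancel_left]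
    rw [h2, ha, Matrix.mul_smul, Matrix.mul_one]
  · rintro ⟨a, ha, hga⟩
    obtain ⟨z, hz⟩ := D.exscalar a ha
    have hzc : z ∈ Subgroup.center G := (D.center z).2 ⟨a, hz⟩
    have h1 : g' = g * z := by
      apply D.inj
      rw [map_mul, hz, hga, Matrix.mul_smul, Matrix.mul_one]
    rw [h1]
    symm
    rw [QuotientGroup.eq, inv_mul_cancel_left]
    exact hzc

theorem exists_lift (D : PData M r m) (g : G) (a : K) (ha : a ^ m = 1) :
    ∃ g' : G, (g' : G ⧸ Subgroup.center G) = (g : G ⧸ Subgroup.center G) ∧ M g' = a • M g := by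
  obtain ⟨z, hz⟩ := D.exscalar a ha
  have h1 : M (g * z) = a • M g := by rw [map_mul, hz, Matrix.mul_smul, Matrix.mul_one]
  exact ⟨g * z, (D.lift_iff g (g * z)).2 ⟨a, ha, h1⟩, h1⟩

theorem orderOf_mk_iff (D : PData M r m) (hr : r.Prime) (g : G) :
    orderOf (g : G ⧸ Subgroup.center G) = r ↔
      (∃ l : K, M g ^ r = l • (1 : Matrix (Fin n) (Fin n) K)) ∧
        ¬ ∃ a : K, M g = a • (1 : Matrix (Fin n) (Fin n) K) := by
  have : Fact r.Prime := ⟨hr⟩
  rw [orderOf_eq_prime_iff, ← QuotientGroup.mk_pow, QuotientGroup.eq_one_iff, Ne,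
    QuotientGroup.eq_one_iff, D.center, D.center, map_pow]

theorem pow_mul_eq_one (D : PData M r m) (g : G) (l : K) (hl : l ^ m = 1)
    (hg : M g ^ r = l • (1 : Matrix (Fin n) (Fin n) K)) : g ^ (r * m) = 1 := by
  rw [D.pow_eq_one_iff, pow_mul, hg, smul_one_pow, hl, one_smul]

theorem Sinv_mk (D : PData M r m) (hn : 0 < n) (hr : 0 < r) (hrm : r ∣ m) (g : G)
    (hg : M g ^ r = 1) :
    Sinv M r (g : G ⧸ Subgroup.center G) = orbSet r (M g).charpoly := by
  have hne : ∀ a : K, a ^ r = 1 → a ≠ 0 := by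
    rintro a ha rfl
    rw [zero_pow hr.ne'] at ha
    exact zero_ne_one ha
  apply Set.ext
  intro c
  constructor
  · rintro ⟨g', hg'g, hg'r, rfl⟩
    obtain ⟨a, ha, hga⟩ := (D.lift_iff g g').1 hg'g
    have har : a ^ r = 1 := by
      rw [hga, smul_pow', hg] at hg'r
      exact Helper40_PGLInvol.smul_one_inj hn _ _ (by rw [hg'r, one_smul])
    exact ⟨a, har, by rw [hga, charpoly_smul a (hne a har)]⟩
  · rintro ⟨a, har, rfl⟩
    have ham : a ^ m = 1 := by
      obtain ⟨s, rfl⟩ := hrm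
      rw [pow_mul, har, one_pow]
    obtain ⟨g', hg'g, hg'a⟩ := D.exists_lift g a ham
    refine ⟨g', hg'g, ?_, ?_⟩
    · rw [hg'a, smul_pow', hg, har, one_smul]
    · rw [hg'a, charpoly_smul a (hne a har)]

theorem Linv_mk (D : PData M r m) (hn : 0 < n) (hrm : r ∣ m) (g : G) (l : K)
    (hg : M g ^ r = l • (1 : Matrix (Fin n) (Fin n) K)) :
    Linv M r m (g : G ⧸ Subgroup.center G) = {l ^ (m / r)} := by
  apply Set.ext
  intro t
  rw [Set.mem_singleton_iff]
  constructor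
  · rintro ⟨g', l', hg'g, hg'r, rfl⟩
    obtain ⟨a, ha, hga⟩ := (D.lift_iff g g').1 hg'g
    rw [hga, smul_pow', hg, smul_smul] at hg'r
    have h1 : a ^ r * l = l' := Helper40_PGLInvol.smul_one_inj hn _ _ hg'r
    rw [← h1, mul_pow, ← pow_mul, Nat.mul_div_cancel' hrm, ha, one_mul]
  · rintro rfl
    exact ⟨g, l, rfl, hg, rfl⟩

theorem not_pow_of_not_Qp (D : PData M r m) (hm : 0 < m) (g : G) (l : K) (hl : l ^ m = 1)
    (hg : M g ^ r = l • (1 : Matrix (Fin n) (Fin n) K))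
    (hQ : ¬ Qp M r (g : G ⧸ Subgroup.center G)) : ∀ ν : K, ν ^ r ≠ l := by
  intro ν hν
  apply hQ
  have hνm : ν ^ m = 1 := D.pow ν (by rw [hν, hl])
  have hl0 : l ≠ 0 := by
    rintro rfl
    rw [zero_pow hm.ne'] at hl
    exact zero_ne_one hl
  obtain ⟨g', hg'g, hg'a⟩ := D.exists_lift g ν⁻¹ (by rw [inv_pow, hνm, inv_one])
  refine ⟨g', hg'g, ?_⟩
  rw [hg'a, smul_pow', hg, smul_smul, inv_pow, hν, inv_mul_cancel₀ hl0, one_smul]

theorem card_type1 (D : PData M r m) (hn : 0 < n) (hr : r.Prime) (hrm : r ∣ m)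
    (hrK : (r : K) ≠ 0) :
    Nat.card {C : ConjClasses (G ⧸ Subgroup.center G) //
      ∃ g, ConjClasses.mk g = C ∧ (orderOf g = r ∧ Qp M r g)} =
    Nat.card {O : Set K[X] | ∃ c ∈ PolySet K r n, c ∉ orbSet r ((X - 1) ^ n) ∧
      O = orbSet r c} := by
  have hne : ∀ a : K, a ^ r = 1 → a ≠ 0 := by
    rintro a ha rfl
    rw [zero_pow hr.pos.ne'] at ha
    exact zero_ne_one ha
  apply Helper40_ClassCount.card_classes_eq _ (Sinv M r)
  · exact fun x y h => Sinv_conj x y h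
  · -- separation
    rintro x y ⟨_, hQx⟩ ⟨_, hQy⟩ hS
    obtain ⟨g, rfl, hg⟩ := hQx
    obtain ⟨h, rfl, hh⟩ := hQy
    rw [D.Sinv_mk hn hr.pos hrm g hg] at hS
    have h1 : (M g).charpoly ∈ Sinv M r (h : G ⧸ Subgroup.center G) := by
      rw [← hS]
      exact mem_orbSet_self r _
    obtain ⟨h', hh'h, hh'r, hc⟩ := h1
    have hconj : IsConj g h' := D.sep g h'
      (D.pow_mul_eq_one g 1 (one_pow m) (by rw [hg, one_smul]))
      (D.pow_mul_eq_one h' 1 (one_pow m) (by rw [hh'r, one_smul])) hc.symm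
    rw [← hh'h]
    exact (QuotientGroup.mk' (Subgroup.center G)).map_isConj hconj
  · -- image
    intro O
    constructor
    · rintro ⟨c, hc, hcn, rfl⟩
      obtain ⟨g, hgc, hgr⟩ := D.ex1 c hc
      refine ⟨(g : G ⧸ Subgroup.center G), ⟨?_, g, rfl, hgr⟩, ?_⟩
      · rw [D.orderOf_mk_iff hr]
        refine ⟨⟨1, by rw [hgr, one_smul]⟩, ?_⟩
        rintro ⟨a, ha⟩
        apply hcn
        have har : a ^ r = 1 := by
          rw [ha, smul_one_pow] at hgr
          exact Helper40_PGLInvol.smul_one_inj hn _ _ (by rw [hgr, one_smul])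
        refine ⟨a, har, ?_⟩
        rw [← hgc, ha, charpoly_smul_one, scaleRoots_X_sub_one_pow]
      · rw [D.Sinv_mk hn hr.pos hrm g hgr, hgc]
    · rintro ⟨x, ⟨hx, hQx⟩, rfl⟩
      obtain ⟨g, rfl, hg⟩ := hQx
      rw [D.Sinv_mk hn hr.pos hrm g hg]
      refine ⟨(M g).charpoly, ?_, ?_, rfl⟩
      · refine ⟨Matrix.charpoly_monic _, by
          rw [Matrix.charpoly_natDegree_eq_dim, Fintype.card_fin], ?_⟩
        intro f hf hfd
        exact Helper40_PrimeOrderClasses.dvd_of_irreducible_of_dvd_charpoly _ _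
          (by rw [map_sub, map_pow, aeval_X, map_one, hg, sub_self]) f hf hfd
      · rintro ⟨a, har, hca⟩
        rw [scaleRoots_X_sub_one_pow] at hca
        have := eq_smul_one_of_charpoly r hrK (M g) hg a (hne a har) har hca
        exact ((D.orderOf_mk_iff hr g).1 hx).2 ⟨a, this⟩

theorem card_type2 (D : PData M r m) (hn : 0 < n) (hr : r.Prime) (hrm : r ∣ m) (hm : 0 < m)
    (ω : K) (hω : IsPrimitiveRoot ω m) :
    Nat.card {C : ConjClasses (G ⧸ Subgroup.center G) //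
      ∃ g, ConjClasses.mk g = C ∧ (orderOf g = r ∧ ¬ Qp M r g)} =
    Nat.card {s : Set K | r ∣ n ∧ ∃ t : K, t ^ r = 1 ∧ t ≠ 1 ∧ s = {t}} := by
  have hne : ∀ a : K, a ^ m = 1 → a ≠ 0 := by
    rintro a ha rfl
    rw [zero_pow hm.ne'] at ha
    exact zero_ne_one ha
  apply Helper40_ClassCount.card_classes_eq _ (Linv M r m)
  · exact fun x y h => Linv_conj x y h
  · -- separation
    rintro x y ⟨hx, hQx⟩ ⟨_, _⟩ hL
    obtain ⟨g, rfl⟩ := QuotientGroup.mk_surjective x
    obtain ⟨⟨l, hgl⟩, _⟩ := (D.orderOf_mk_iff hr g).1 hx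
    have hlm : l ^ m = 1 := D.scalar (g ^ r) l (by rw [map_pow, hgl])
    rw [D.Linv_mk hn hrm g l hgl] at hL
    have h1 : l ^ (m / r) ∈ Linv M r m y := by
      rw [← hL]
      rfl
    obtain ⟨h, l', rfl, hhl', hll'⟩ := h1
    have hl'm : l' ^ m = 1 := D.scalar (h ^ r) l' (by rw [map_pow, hhl'])
    have hl0 := hne l hlm
    have hl'0 := hne l' hl'm
    obtain ⟨b, hbm, hbr⟩ := exists_pow_eq_of_pow_div r m hm hrm ω hω (l * l'⁻¹)
      (by rw [mul_pow, inv_pow, hlm, hl'm, inv_one, mul_one])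
      (by rw [mul_pow, inv_pow, hll', mul_inv_cancel₀ (pow_ne_zero _ hl0)])
    obtain ⟨h', hh'h, hh'b⟩ := D.exists_lift h b hbm
    have hh'r : M h' ^ r = l • (1 : Matrix (Fin n) (Fin n) K) := by
      rw [hh'b, smul_pow', hhl', smul_smul, hbr, mul_assoc, inv_mul_cancel₀ hl'0, mul_one]
    have hnp : ∀ ν : K, ν ^ r ≠ l := D.not_pow_of_not_Qp hm g l hlm hgl hQx
    obtain ⟨k, hk, hck⟩ := charpoly_of_pow_eq r hr (M g) l hnp hgl
    obtain ⟨k', hk', hck'⟩ := charpoly_of_pow_eq r hr (M h') l hnp hh'r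
    have hkk : k = k' := Nat.eq_of_mul_eq_mul_left hr.pos (by rw [← hk, ← hk'])
    have hconj : IsConj g h' := D.sep g h' (D.pow_mul_eq_one g l hlm hgl)
      (D.pow_mul_eq_one h' l hlm hh'r) (by rw [hck, hck', hkk])
    rw [← hh'h]
    exact (QuotientGroup.mk' (Subgroup.center G)).map_isConj hconj
  · -- image
    intro s
    constructor
    · rintro ⟨hrn, t, htr, ht1, rfl⟩
      obtain ⟨l, hlm, hlt⟩ := exists_pow_div_eq r m hm hrm ω hω t htr
      obtain ⟨g, hg⟩ := D.ex2 hrn l hlm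
      have hnotQ : ¬ Qp M r (g : G ⧸ Subgroup.center G) := by
        rintro ⟨g', hg'g, hg'r⟩
        obtain ⟨a, ha, hga⟩ := (D.lift_iff g g').1 hg'g
        rw [hga, smul_pow', hg, smul_smul] at hg'r
        have h1 : a ^ r * l = 1 := Helper40_PGLInvol.smul_one_inj hn _ _ (by rw [hg'r, one_smul])
        apply ht1
        rw [← hlt]
        have h2 : (a ^ r * l) ^ (m / r) = 1 := by rw [h1, one_pow]
        rw [mul_pow, ← pow_mul, Nat.mul_div_cancel' hrm, ha, one_mul] at h2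
        exact h2
      refine ⟨(g : G ⧸ Subgroup.center G), ⟨?_, hnotQ⟩, ?_⟩
      · rw [D.orderOf_mk_iff hr]
        refine ⟨⟨l, hg⟩, ?_⟩
        rintro ⟨a, ha⟩
        have ham : a ^ m = 1 := D.scalar g a ha
        rw [ha, smul_one_pow] at hg
        have h1 : a ^ r = l := Helper40_PGLInvol.smul_one_inj hn _ _ hg
        apply ht1
        rw [← hlt, ← h1, ← pow_mul, Nat.mul_div_cancel' hrm, ham]
      · rw [D.Linv_mk hn hrm g l hg, hlt]
    · rintro ⟨x, ⟨hx, hQx⟩, rfl⟩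
      obtain ⟨g, rfl⟩ := QuotientGroup.mk_surjective x
      obtain ⟨⟨l, hgl⟩, _⟩ := (D.orderOf_mk_iff hr g).1 hx
      have hlm : l ^ m = 1 := D.scalar (g ^ r) l (by rw [map_pow, hgl])
      have hnp := D.not_pow_of_not_Qp hm g l hlm hgl hQx
      obtain ⟨k, hk, _⟩ := charpoly_of_pow_eq r hr (M g) l hnp hgl
      refine ⟨⟨k, hk⟩, l ^ (m / r), ?_, ?_, D.Linv_mk hn hrm g l hgl⟩
      · rw [← pow_mul, Nat.div_mul_cancel hrm, hlm]
      · intro h1
        obtain ⟨b, _, hbr⟩ := exists_pow_eq_of_pow_div r m hm hrm ω hω l hlm h1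
        exact hnp b hbr

end PData

theorem card_T1 (hr : r.Prime) [Finite (PolySet K r n)] :
    Nat.card {O : Set K[X] | ∃ c ∈ PolySet K r n, c ∉ orbSet r ((X - 1) ^ n) ∧
      O = orbSet r c} + 1 =
    Nat.card {O : Set K[X] // ∃ c ∈ PolySet K r n, O = orbSet r c} := by
  classical
  set All : Set (Set K[X]) := {O | ∃ c ∈ PolySet K r n, O = orbSet r c} with hAll
  have hmem0 : ((X : K[X]) - 1) ^ n ∈ PolySet K r n := by
    refine ⟨Helper40_PrimeOrderClasses.X_sub_one_props.1.pow n, ?_, ?_⟩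
    · rw [Helper40_PrimeOrderClasses.X_sub_one_props.1.natDegree_pow,
        Helper40_PrimeOrderClasses.natDegree_X_sub_one, mul_one]
    · intro f hf hfd
      exact (hf.prime.dvd_of_dvd_pow hfd).trans (Helper40_PrimeOrderClasses.X_sub_one_dvd r hr)
  have hmem : orbSet r (((X : K[X]) - 1) ^ n) ∈ All := ⟨_, hmem0, rfl⟩
  have hfin : All.Finite := by
    have : All = (orbSet r) '' (PolySet K r n) := by
      ext O
      constructor
      · rintro ⟨c, hc, rfl⟩
        exact ⟨c, hc, rfl⟩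
      · rintro ⟨c, hc, rfl⟩
        exact ⟨c, hc, rfl⟩
    rw [this]
    exact (Set.toFinite _).image _
  have hT : {O : Set K[X] | ∃ c ∈ PolySet K r n, c ∉ orbSet r ((X - 1) ^ n) ∧
      O = orbSet r c} = All \ {orbSet r (((X : K[X]) - 1) ^ n)} := by
    ext O
    constructor
    · rintro ⟨c, hc, hcn, rfl⟩
      refine ⟨⟨c, hc, rfl⟩, ?_⟩
      rw [Set.mem_singleton_iff]
      intro h
      apply hcn
      rw [← h]
      exact mem_orbSet_self r c
    · rintro ⟨⟨c, hc, rfl⟩, hne⟩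
      rw [Set.mem_singleton_iff] at hne
      refine ⟨c, hc, ?_, rfl⟩
      intro h
      exact hne (orbSet_eq_of_mem r hr.pos _ c h)
  show _ = Nat.card All
  rw [hT, _root_.Nat.card_coe_set_eq, _root_.Nat.card_coe_set_eq,
    Set.ncard_sdiff_singleton_add_one hmem hfin]

theorem card_T2 (hr : r.Prime) (ζ : K) (hζ : IsPrimitiveRoot ζ r) :
    Nat.card {s : Set K | r ∣ n ∧ ∃ t : K, t ^ r = 1 ∧ t ≠ 1 ∧ s = {t}} =
      (r - 1) * (if r ∣ n then 1 else 0) := by
  classical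
  by_cases hrn : r ∣ n
  · rw [if_pos hrn, mul_one]
    have h1 : {s : Set K | r ∣ n ∧ ∃ t : K, t ^ r = 1 ∧ t ≠ 1 ∧ s = {t}} =
        (fun t : K => ({t} : Set K)) '' (((nthRootsFinset r (1 : K)).erase 1 : Finset K) : Set K) := by
      ext s
      constructor
      · rintro ⟨_, t, htr, ht1, rfl⟩
        refine ⟨t, ?_, rfl⟩
        rw [Finset.mem_coe, Finset.mem_erase, mem_nthRootsFinset hr.pos]
        exact ⟨ht1, htr⟩
      · rintro ⟨t, ht, rfl⟩
        rw [Finset.mem_coe, Finset.mem_erase, mem_nthRootsFinset hr.pos] at ht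
        exact ⟨hrn, t, ht.2, ht.1, rfl⟩
    rw [h1, _root_.Nat.card_coe_set_eq, Set.ncard_image_of_injective _ Set.singleton_injective,
      Set.ncard_coe_finset, Finset.card_erase_of_mem, hζ.card_nthRootsFinset]
    rw [mem_nthRootsFinset hr.pos, one_pow]
  · rw [if_neg hrn, mul_zero]
    have h1 : {s : Set K | r ∣ n ∧ ∃ t : K, t ^ r = 1 ∧ t ≠ 1 ∧ s = {t}} = ∅ := by
      ext s
      constructor
      · rintro ⟨h, _⟩
        exact hrn h
      · intro h
        exact h.elim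
    rw [h1, _root_.Nat.card_coe_set_eq, Set.ncard_empty]

/-- the number of classes of elements of prime order `r` in `G / Z(G)` -/
theorem card_proj_classes [Finite G] (D : PData M r m) (hn : 0 < n) (hr : r.Prime) (hrm : r ∣ m)
    (hm : 0 < m) (ω : K) (hω : IsPrimitiveRoot ω m)
    (hcard : Nat.card (PolySet K r n) = Nat.choose (n + r - 1) (r - 1)) :
    Nat.card {C : ConjClasses (G ⧸ Subgroup.center G) //
      ∃ g, ConjClasses.mk g = C ∧ orderOf g = r} =
      (Nat.choose (n + r - 1) (r - 1) - r - (if r ∣ n then 1 else 0)) / r +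
        r * (if r ∣ n then 1 else 0) := by
  have hr2 := hr.two_le
  have hfin : Finite (PolySet K r n) := by
    apply Nat.finite_of_card_ne_zero
    rw [hcard]
    exact (Nat.choose_pos (by omega)).ne'
  have : NeZero m := ⟨hm.ne'⟩
  have hmK : (m : K) ≠ 0 := (hω.neZero').ne
  obtain ⟨s, hs⟩ := id hrm
  have hζ : IsPrimitiveRoot (ω ^ s) r := hω.pow hm (by rw [hs, mul_comm])
  have hrK : (r : K) ≠ 0 := by
    intro h
    apply hmK
    rw [hs, Nat.cast_mul, h, zero_mul]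
  rw [card_classes_split _ (Qp M r) (fun x y h hx => Qp_conj x y h hx),
    D.card_type1 hn hr hrm hrK, D.card_type2 hn hr hrm hm ω hω, card_T2 hr _ hζ]
  have h1 := card_T1 (K := K) (n := n) hr
  have h2 := card_orbSets r n hr _ hζ
  rw [hcard] at h2
  have hCr : r ≤ Nat.choose (n + r - 1) (r - 1) := by
    have h3 : Nat.choose r (r - 1) ≤ Nat.choose (n + r - 1) (r - 1) :=
      Nat.choose_le_choose (r - 1) (by omega)
    have h4 : Nat.choose r (r - 1) = r := by
      rw [Nat.choose_symm (by omega), Nat.choose_one_right]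
    omega
  generalize Nat.choose (n + r - 1) (r - 1) = C at *
  generalize Nat.card {O : Set K[X] | ∃ c ∈ PolySet K r n, c ∉ orbSet r ((X - 1) ^ n) ∧
      O = orbSet r c} = a at *
  generalize Nat.card {O : Set K[X] // ∃ c ∈ PolySet K r n, O = orbSet r c} = N at *
  by_cases hrn : r ∣ n
  · rw [if_pos hrn, mul_one] at h2 ⊢
    rw [mul_one]
    have hN2 : 2 ≤ N := by
      by_contra hlt
      have hN1 : N ≤ 1 := by omega
      have : N * r ≤ 1 * r := Nat.mul_le_mul_right r hN1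
      omega
    obtain ⟨b, rfl⟩ : ∃ b, N = b + 2 := ⟨N - 2, by omega⟩
    have h5 : (b + 2) * r = b * r + 2 * r := by ring
    have h6 : C - r - 1 = b * r := by omega
    rw [h6, Nat.mul_div_cancel _ hr.pos]
    omega
  · rw [if_neg hrn, mul_zero, add_zero] at h2 ⊢
    rw [mul_zero, add_zero, Nat.sub_zero]
    have h6 : C - r = a * r := by
      have : (a + 1) * r = a * r + r := by ring
      rw [← h1] at h2
      omega
    rw [h6, Nat.mul_div_cancel _ hr.pos]

end main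

end Cfsg.Agent.Lib.Helper40_ProjClasses
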