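import Mathlib
import Cfsg.Agent.Lib.Helper40_ProjClasses
import Cfsg.Agent.Lib.Helper40_PGLBasic

set_option autoImplicit false

/-!
Conjugacy classes of elements of prime order `r ∣ q - 1` in `PGL_n(q)`.
-/

namespace Cfsg.Agent.Lib.Helper40_PGLPrimeOrder

open Polynomial Matrix Cfsg.Agent.Lib.Helper40_ScalePoly Cfsg.Agent.Lib.Helper40_ProjClasses
  Cfsg.Agent.Lib.Helper40_SemisimpleGL

universe v

variable {F : Type v} [Field F] [Fintype F] {n : ℕ}

/-- a primitive `(q - 1)`-th root of unity in a finite field -/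
theorem exists_primitiveRoot_card_sub_one :
    ∃ ω : F, IsPrimitiveRoot ω (Fintype.card F - 1) := by
  classical
  obtain ⟨g, hg⟩ := IsCyclic.exists_generator (α := Fˣ)
  have h1 : orderOf g = Fintype.card F - 1 := by
    rw [orderOf_eq_card_of_forall_mem_zpowers hg, Nat.card_eq_fintype_card, Fintype.card_units]
  refine ⟨(g : F), ?_⟩
  rw [IsPrimitiveRoot.coe_units_iff, IsPrimitiveRoot.iff_orderOf, h1]

theorem pow_card_sub_one_eq_one_iff (hq : 1 < Fintype.card F) (a : F) :
    a ^ (Fintype.card F - 1) = 1 ↔ a ≠ 0 := by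
  constructor
  · rintro h rfl
    rw [zero_pow (by omega)] at h
    exact zero_ne_one h
  · intro h
    exact FiniteField.pow_card_sub_one_eq_one a h

omit [Fintype F] in
theorem exists_GL_of_pow_eq (r : ℕ) (hr : 0 < r) (A : Matrix (Fin n) (Fin n) F) (l : F)
    (hl : l ≠ 0) (hA : A ^ r = l • (1 : Matrix (Fin n) (Fin n) F)) :
    ∃ g : GL (Fin n) F, (g : Matrix (Fin n) (Fin n) F) = A := by
  have h1 : A * (l⁻¹ • A ^ (r - 1)) = 1 := by
    rw [Matrix.mul_smul, ← pow_succ', Nat.sub_add_cancel hr, hA, smul_smul, inv_mul_cancel₀ hl,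
      one_smul]
  have h2 : (l⁻¹ • A ^ (r - 1)) * A = 1 := by
    rw [Matrix.smul_mul, ← pow_succ, Nat.sub_add_cancel hr, hA, smul_smul, inv_mul_cancel₀ hl,
      one_smul]
  exact ⟨⟨A, _, h1, h2⟩, rfl⟩

theorem pData (hn : 0 < n) (r : ℕ) (hr : r.Prime) (hrq : r ∣ Fintype.card F - 1) :
    PData (Units.coeHom (Matrix (Fin n) (Fin n) F)) r (Fintype.card F - 1) := by
  classical
  have hr2 := hr.two_le
  have hq : 1 < Fintype.card F := Fintype.one_lt_card
  have hm : 0 < Fintype.card F - 1 := by omega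
  obtain ⟨ω, hω⟩ := exists_primitiveRoot_card_sub_one (F := F)
  have : NeZero (Fintype.card F - 1) := ⟨hm.ne'⟩
  have hmF : ((Fintype.card F - 1 : ℕ) : F) ≠ 0 := (hω.neZero').ne
  have hrF : (r : F) ≠ 0 := by
    intro h
    apply hmF
    obtain ⟨s, hs⟩ := hrq
    rw [hs, Nat.cast_mul, h, zero_mul]
  refine ⟨?_, ?_, ?_, ?_, ?_, ?_, ?_, ?_⟩
  · exact Units.val_injective
  · intro g
    exact Helper40_PGLBasic.mem_center_iff g
  · intro g a ha
    rw [pow_card_sub_one_eq_one_iff hq]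
    rintro rfl
    rw [zero_smul] at ha
    exact Helper40_PGLBasic.val_ne_zero hn g ha
  · intro a ha
    rw [pow_card_sub_one_eq_one_iff hq] at ha
    refine ⟨⟨a • 1, a⁻¹ • 1, ?_, ?_⟩, rfl⟩
    · rw [Matrix.smul_mul, Matrix.one_mul, smul_smul, mul_inv_cancel₀ ha, one_smul]
    · rw [Matrix.smul_mul, Matrix.one_mul, smul_smul, inv_mul_cancel₀ ha, one_smul]
  · intro ν hν
    rw [pow_card_sub_one_eq_one_iff hq] at hν ⊢
    rintro rfl
    rw [zero_pow hr.pos.ne'] at hν
    exact hν rfl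
  · intro g h hg hh hc
    have hrm : ((r * (Fintype.card F - 1) : ℕ) : F) ≠ 0 := by
      rw [Nat.cast_mul]
      exact mul_ne_zero hrF hmF
    have hg' : (g : Matrix (Fin n) (Fin n) F) ^ (r * (Fintype.card F - 1)) = 1 := by
      rw [← Units.val_pow_eq_pow_val, hg, Units.val_one]
    have hh' : (h : Matrix (Fin n) (Fin n) F) ^ (r * (Fintype.card F - 1)) = 1 := by
      rw [← Units.val_pow_eq_pow_val, hh, Units.val_one]
    obtain ⟨P, hP⟩ := exists_GL_conj (g : Matrix (Fin n) (Fin n) F) h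
      (isSS_of_pow_eq_one _ _ hrm hg') (isSS_of_pow_eq_one _ _ hrm hh') hc
    rw [isConj_iff]
    refine ⟨P, ?_⟩
    rw [mul_inv_eq_iff_eq_mul]
    apply Units.ext
    exact hP
  · intro c hc
    obtain ⟨hcm, hcn, hcf⟩ := hc
    obtain ⟨A, hAc, _, hAr⟩ := Helper40_PrimeOrderClasses.exists_matrix_of_monic' n c hcm hcn
    have hAr1 : A ^ r = 1 := by
      have := hAr (X ^ r - 1) hcf
      rw [map_sub, map_pow, aeval_X, map_one] at this
      exact sub_eq_zero.1 this
    obtain ⟨g, hg⟩ := exists_GL_of_pow_eq r hr.pos A 1 one_ne_zero (by rw [hAr1, one_smul])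
    refine ⟨g, ?_, ?_⟩
    · rw [Units.coeHom_apply, hg, hAc]
    · rw [Units.coeHom_apply, hg, hAr1]
  · intro hrn l hl
    rw [pow_card_sub_one_eq_one_iff hq] at hl
    obtain ⟨k, hk⟩ := hrn
    have hPm : ((X : F[X]) ^ r - C l).Monic := monic_X_pow_sub_C l hr.pos.ne'
    obtain ⟨A, _, _, hAr⟩ := Helper40_PrimeOrderClasses.exists_matrix_of_monic' n
      (((X : F[X]) ^ r - C l) ^ k) (hPm.pow k)
      (by rw [hPm.natDegree_pow, natDegree_X_pow_sub_C, hk, mul_comm])
    have hA : A ^ r = l • (1 : Matrix (Fin n) (Fin n) F) := by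
      have := hAr (X ^ r - C l) (fun g hg hgd => hg.prime.dvd_of_dvd_pow hgd)
      rw [map_sub, map_pow, aeval_X, aeval_C, Algebra.algebraMap_eq_smul_one] at this
      exact sub_eq_zero.1 this
    obtain ⟨g, hg⟩ := exists_GL_of_pow_eq r hr.pos A l hl hA
    exact ⟨g, by rw [Units.coeHom_apply, hg, hA]⟩

theorem card_polySet (r : ℕ) (hr : r.Prime) (hrq : r ∣ Fintype.card F - 1) (n : ℕ) :
    Nat.card (PolySet F r n) = Nat.choose (n + r - 1) (r - 1) := by
  classical
  have hr2 := hr.two_le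
  have hq : 1 < Fintype.card F := Fintype.one_lt_card
  have hp : Fact (ringChar F).Prime := ⟨CharP.char_is_prime F (ringChar F)⟩
  have hrp : r ≠ ringChar F := by
    intro h
    have h1 : ringChar F ∣ Fintype.card F := by
      rw [← CharP.cast_eq_zero_iff F (ringChar F)]
      exact Nat.cast_card_eq_zero F
    rw [← h] at h1
    have h2 : r ∣ 1 := by
      have := Nat.dvd_sub h1 hrq
      rwa [Nat.sub_sub_self (by omega)] at this
    have := Nat.le_of_dvd one_pos h2
    omega
  have hi : 1 = orderOf ((Fintype.card F : ℕ) : ZMod r) := by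
    symm
    rw [orderOf_eq_one_iff]
    have h1 : Fintype.card F = (Fintype.card F - 1) + 1 := by omega
    rw [h1, Nat.cast_add, (ZMod.natCast_eq_zero_iff _ _).2 hrq, zero_add, Nat.cast_one]
  have h := Helper40_PrimeOrderClasses.card_polys (F := F) (ringChar F) n r 1 (r - 1) hr hrp hi
    (mul_one _)
  rw [Nat.div_one] at h
  have h2 : n + (r - 1) = n + r - 1 := by omega
  rw [← h2]
  exact h

/-- The number of classes of elements of prime order `r ∣ q - 1` in `PGL_n(q)`. -/
theorem card_PGL_prime_order_classes (hn : 0 < n) (r : ℕ) (hr : r.Prime)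
    (hrq : r ∣ Fintype.card F - 1) :
    Nat.card {C : ConjClasses (GL (Fin n) F ⧸ Subgroup.center (GL (Fin n) F)) //
      ∃ g : GL (Fin n) F ⧸ Subgroup.center (GL (Fin n) F), ConjClasses.mk g = C ∧ orderOf g = r} =
      (Nat.choose (n + r - 1) (r - 1) - r - (if r ∣ n then 1 else 0)) / r +
        r * (if r ∣ n then 1 else 0) := by
  classical
  have hq : 1 < Fintype.card F := Fintype.one_lt_card
  obtain ⟨ω, hω⟩ := exists_primitiveRoot_card_sub_one (F := F)
  exact card_proj_classes (pData hn r hr hrq) hn hr hrq (by omega) ω hω (card_polySet r hr hrq n)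

end Cfsg.Agent.Lib.Helper40_PGLPrimeOrder
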