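import Mathlib
import Cfsg.Agent.Lib.Helper40_UExistMatrix
import Cfsg.Agent.Lib.Helper40_UDetMatrix
import Cfsg.Agent.Lib.Helper40_UCount

set_option autoImplicit false

/-!
The characteristic polynomial of a unitary matrix is self-dual.
-/

namespace Cfsg.Agent.Lib.Helper40_UClasses

open Polynomial Module Matrix Cfsg.Agent.Lib.Helper40_UBasic Cfsg.Agent.Lib.Helper94_Herm
  Cfsg.Agent.Lib.Helper94_HermBridge Cfsg.Agent.Lib.Helper40_UMatrix
  Cfsg.Agent.Lib.Helper40_UExist Cfsg.Agent.Lib.Helper40_Palindromic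
  Cfsg.Agent.Lib.Helper40_SemisimpleExist

universe v

variable {K : Type v} [Field K] [Fintype K] {n q : ℕ} (σ : K →+* K) (hσq : ∀ x, σ x = x ^ q)

include hσq in
/-- the characteristic polynomial of a unitary matrix is self-dual -/
theorem udual_charpoly_of_isU (hK : Fintype.card K = q ^ 2) (hσ : Invol σ)
    (M : Matrix (Fin n) (Fin n) K)
    (hM : ∀ u v, Cfsg.hermForm n K q (M *ᵥ u) (M *ᵥ v) = Cfsg.hermForm n K q u v) :
    udual σ M.charpoly = M.charpoly := by
  have hσeq : σ = Helper5_SUOrder.powQ hK := RingHom.ext (fun x => hσq x)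
  have h1 : Mᵀ * σ.mapMatrix M = 1 := by
    rw [hσeq]
    exact Helper5_SUOrder.transpose_mul_map_of_isU hK hM
  have h2 := reverse_charpoly_of_mul_eq_one Mᵀ (σ.mapMatrix M) h1
  rw [Matrix.charpoly_transpose, Matrix.det_transpose, RingHom.mapMatrix_apply,
    Matrix.charpoly_map, Fintype.card_fin] at h2
  have hdd : M.det * M.det ^ q = 1 := Helper5_SUOrder.det_mul_det_pow_of_isU hK hM
  have hd0 : M.det ≠ 0 := by
    intro h0
    rw [h0, zero_mul] at hdd
    exact zero_ne_one hdd
  have hdet := det_of_charpoly n M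
  have hc0 : M.charpoly.coeff 0 = (-1) ^ n * M.det := by
    rw [hdet, ← mul_assoc, ← mul_pow, neg_mul_neg, one_mul, one_pow, one_mul]
  have hc0ne : M.charpoly.coeff 0 ≠ 0 := by
    rw [hc0]
    exact mul_ne_zero (pow_ne_zero _ (neg_ne_zero.2 one_ne_zero)) hd0
  have h3 : M.charpoly.reverse = C (M.charpoly.coeff 0) * M.charpoly.map σ := by
    rw [h2, hc0, C_mul, C_pow, C_neg, C_1]
    ring
  have h4 : (M.charpoly.map σ).reverse = C (σ (M.charpoly.coeff 0)) * M.charpoly := by
    rw [map_reverse', h3, Polynomial.map_mul, map_C, map_map_self σ hσ.invol]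
  unfold udual recip
  rw [coeff_map, h4, ← mul_assoc, ← C_mul, inv_mul_cancel₀ ((map_ne_zero σ).2 hc0ne), C_1,
    one_mul]

end Cfsg.Agent.Lib.Helper40_UClasses
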