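import Mathlib
import Cfsg.Agent.Lib.Helper40_UPrimeOrder
import Cfsg.Agent.Lib.Helper40_UClasses

set_option autoImplicit false

/-!
Conjugacy classes of elements of odd prime order `r ≠ p` in `GU_n(q)`.
-/

namespace Cfsg.Agent.Lib.Helper40_UPrimeOrderClasses

open Polynomial Module Matrix Cfsg.Agent.Lib.Helper40_Palindromic
  Cfsg.Agent.Lib.Helper40_PolyFactors Cfsg.Agent.Lib.Helper40_PrimeOrderClasses
  Cfsg.Agent.Lib.Helper40_UExist Cfsg.Agent.Lib.Helper40_UPrimeOrder
  Cfsg.Agent.Lib.Helper40_UExistMatrix Cfsg.Agent.Lib.Helper40_UMatrix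
  Cfsg.Agent.Lib.Helper94_Herm Cfsg.Agent.Lib.Helper94_HermBridge
  Cfsg.Agent.Lib.Helper40_SemisimpleGL

universe v

variable {K : Type v} [Field K] [Fintype K] {q : ℕ}

/-- the coercion from the general unitary group to matrices as a monoid homomorphism -/
def guCoeHom (n : ℕ) (K : Type*) [Field K] (q : ℕ) :
    ↥(Cfsg.GU n K q) →* Matrix (Fin n) (Fin n) K where
  toFun g := ((g : GL (Fin n) K) : Matrix (Fin n) (Fin n) K)
  map_one' := rfl
  map_mul' _ _ := rfl

theorem charpoly_eq_of_isConj' {G : Type*} [Group G] {m : Type*} [Fintype m] [DecidableEq m]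
    {R : Type*} [CommRing R] (φ : G →* Matrix m m R) {g k : G} (h : IsConj g k) :
    (φ g).charpoly = (φ k).charpoly := by
  obtain ⟨c, hc⟩ := isConj_iff.1 h
  have h2 : φ c⁻¹ * φ c = 1 := by rw [← map_mul, inv_mul_cancel, map_one]
  rw [← hc, map_mul, map_mul, Matrix.mul_assoc, Matrix.charpoly_mul_comm, Matrix.mul_assoc, h2,
    Matrix.mul_one]

/-- The number of classes of elements of odd prime order `r ≠ p` in `GU_n(q)`. -/
theorem card_GU_prime_order_classes (p : ℕ) [Fact p.Prime] [CharP K p]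
    (hK : Fintype.card K = q ^ 2) (n r i b s : ℕ) (hr : r.Prime) (hr2 : r ≠ 2) (hrp : r ≠ p)
    (hi : i = orderOf ((q : ℕ) : ZMod r))
    (hb : b = orderOf ((Fintype.card K : ℕ) : ZMod r)) (hs : s * b = r - 1) :
    Nat.card {C : ConjClasses ↥(Cfsg.GU n K q) //
      ∃ g : ↥(Cfsg.GU n K q), ConjClasses.mk g = C ∧ orderOf g = r} =
      (if i % 4 = 2 then (n / b + s).choose s else (n / (2 * b) + s / 2).choose (s / 2)) - 1 := by
  classical
  obtain ⟨σ, hσq, hσ⟩ := exists_frob hK
  have hp : p.Prime := Fact.out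
  have hcop : r.Coprime p := (Nat.coprime_primes hr hp).2 hrp
  have hrK : (r : K) ≠ 0 := by
    rw [Ne, CharP.cast_eq_zero_iff K p]
    intro hdvd
    exact hrp ((Nat.prime_dvd_prime_iff_eq hp hr).1 hdvd).symm
  set T' : Set K[X] := {c | c.Monic ∧ c.natDegree = n ∧ udual σ c = c ∧
    ∀ f, Irreducible f → f ∣ c → f ∣ X ^ r - 1} with hT'
  have hcardT' : Nat.card T' = _ :=
    card_udual_polys σ p hK hσq hσ.ne_id n r i b s hr hr2 hrp hi hb hs
  have hmem : ((X : K[X]) - 1) ^ n ∈ T' := by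
    refine ⟨X_sub_one_props.1.pow _, ?_, ?_, ?_⟩
    · rw [X_sub_one_props.1.natDegree_pow, natDegree_X_sub_one, mul_one]
    · rw [udual_pow, udual_X_sub_one]
    · intro f hf hfd
      exact (hf.prime.dvd_of_dvd_pow hfd).trans (X_sub_one_dvd r hr)
  have hordGL : ∀ g : ↥(Cfsg.GU n K q), orderOf (g : GL (Fin n) K) = orderOf g :=
    fun g => Subgroup.orderOf_coe g
  have hpow : ∀ g : ↥(Cfsg.GU n K q), orderOf g = r →
      ((g : GL (Fin n) K) : Matrix (Fin n) (Fin n) K) ^ r = 1 := by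
    intro g hg
    have h1 : (g : GL (Fin n) K) ^ r = 1 := by
      rw [← hg, ← hordGL]
      exact pow_orderOf_eq_one _
    have := congrArg (fun x : GL (Fin n) K => (x : Matrix (Fin n) (Fin n) K)) h1
    simpa using this
  have h := Helper40_ClassCount.card_classes_eq (G := ↥(Cfsg.GU n K q))
    (fun g => orderOf g = r)
    (fun g => ((g : GL (Fin n) K) : Matrix (Fin n) (Fin n) K).charpoly)
    (T' \ {(X - 1) ^ n}) ?_ ?_ ?_
  · rw [h, _root_.Nat.card_coe_set_eq, Set.ncard_sdiff_singleton_of_mem hmem,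
      ← _root_.Nat.card_coe_set_eq, hcardT']
  · -- class function
    intro g k hgk
    exact charpoly_eq_of_isConj' (guCoeHom n K q) hgk
  · -- separation
    intro g k hg hk hc
    obtain ⟨u, hu, hugk⟩ := exists_GU_conj hK p (g : GL (Fin n) K) (k : GL (Fin n) K) g.2 k.2
      (by rw [hordGL, hg]; exact hcop) (by rw [hordGL, hk]; exact hcop) hc
    rw [isConj_iff]
    refine ⟨⟨u, hu⟩, ?_⟩
    rw [mul_inv_eq_iff_eq_mul]
    apply Subtype.ext
    exact hugk
  · -- image
    intro c
    constructor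
    · rintro ⟨⟨hcm, hcn, hdual, hcf⟩, hc1⟩
      rw [Set.mem_singleton_iff] at hc1
      obtain ⟨A, hAU, hAc, hAk⟩ := exists_GU_matrix σ hσq hσ n c hcm hcn hdual
      have hAr1 : A ^ r = 1 := by
        have := hAk (X ^ r - 1) hcf
        rw [map_sub, map_pow, aeval_X, map_one] at this
        exact sub_eq_zero.1 this
      have hrpos : 0 < r := hr.pos
      have hAA : A * A ^ (r - 1) = 1 := by
        rw [← pow_succ', Nat.sub_add_cancel hrpos, hAr1]
      have hAA' : A ^ (r - 1) * A = 1 := by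
        rw [← pow_succ, Nat.sub_add_cancel hrpos, hAr1]
      let g₀ : GL (Fin n) K := ⟨A, A ^ (r - 1), hAA, hAA'⟩
      have hg₀A : (g₀ : Matrix (Fin n) (Fin n) K) = A := rfl
      have hg₀U : g₀ ∈ Cfsg.GU n K q := hAU
      let g : ↥(Cfsg.GU n K q) := ⟨g₀, hg₀U⟩
      refine ⟨g, ?_, by show (g₀ : Matrix (Fin n) (Fin n) K).charpoly = c; rw [hg₀A, hAc]⟩
      have hgr : g ^ r = 1 := by
        apply Subtype.ext
        apply Units.ext
        show ((g₀ ^ r : GL (Fin n) K) : Matrix (Fin n) (Fin n) K) = 1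
        rw [Units.val_pow_eq_pow_val, hg₀A, hAr1]
      rcases (Nat.dvd_prime hr).1 (orderOf_dvd_of_pow_eq_one hgr) with h1 | h1
      · exfalso
        apply hc1
        have hg1 : g = 1 := orderOf_eq_one_iff.1 h1
        have : A = 1 := by
          have h2 := congrArg (fun x : ↥(Cfsg.GU n K q) =>
            ((x : GL (Fin n) K) : Matrix (Fin n) (Fin n) K)) hg1
          exact h2
        rw [← hAc, this, Matrix.charpoly_one, Fintype.card_fin]
      · exact h1
    · rintro ⟨g, hg, rfl⟩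
      have hgr := hpow g hg
      have hP : aeval ((g : GL (Fin n) K) : Matrix (Fin n) (Fin n) K) (X ^ r - 1 : K[X]) = 0 := by
        rw [map_sub, map_pow, aeval_X, map_one, hgr, sub_self]
      refine ⟨⟨Matrix.charpoly_monic _, ?_, ?_, ?_⟩, ?_⟩
      · rw [Matrix.charpoly_natDegree_eq_dim, Fintype.card_fin]
      · exact Helper40_UClasses.udual_charpoly_of_isU σ hσq hK hσ _ g.2
      · intro f hf hfd
        exact dvd_of_irreducible_of_dvd_charpoly _ _ hP f hf hfd
      · rw [Set.mem_singleton_iff]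
        intro hc1
        have hss : IsSS ((g : GL (Fin n) K) : Matrix (Fin n) (Fin n) K) :=
          isSemisimple_of_pow_eq_one _ r hrK hgr
        have hA1 := eq_one_of_isSS_of_charpoly _ hss hc1
        have hg1 : g = 1 := Subtype.ext (Units.ext hA1)
        rw [hg1, orderOf_one] at hg
        exact hr.one_lt.ne hg

end Cfsg.Agent.Lib.Helper40_UPrimeOrderClasses
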