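import Mathlib
import Cfsg.Agent.Lib.Helper40_ProjClasses
import Cfsg.Agent.Lib.Helper40_GUCenter
import Cfsg.Agent.Lib.Helper40_UPrimeOrderClasses

set_option autoImplicit false

/-!
Conjugacy classes of elements of odd prime order `r ∣ q + 1` in `PGU_n(q)`.
-/

namespace Cfsg.Agent.Lib.Helper40_PGUPrimeOrder

open Polynomial Matrix Cfsg.Agent.Lib.Helper40_ScalePoly Cfsg.Agent.Lib.Helper40_ProjClasses
  Cfsg.Agent.Lib.Helper40_Palindromic Cfsg.Agent.Lib.Helper40_UExist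
  Cfsg.Agent.Lib.Helper40_UPrimeOrder Cfsg.Agent.Lib.Helper40_UPrimeOrderClasses
  Cfsg.Agent.Lib.Helper40_UExistMatrix Cfsg.Agent.Lib.Helper40_UMatrix
  Cfsg.Agent.Lib.Helper94_Herm Cfsg.Agent.Lib.Helper94_HermBridge
  Cfsg.Agent.Lib.Helper13_Herm Cfsg.Agent.Lib.Helper40_GUCenter

universe v

section Poly

variable {K : Type v} [Field K]

theorem recip_X_pow_sub_C (r : ℕ) (hr : 0 < r) (b : K) (hb : b ≠ 0) :
    recip ((X : K[X]) ^ r - C b) = X ^ r - C b⁻¹ := by
  unfold recip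
  have h0 : ((X : K[X]) ^ r - C b).coeff 0 = -b := by
    rw [coeff_sub, coeff_X_pow, if_neg hr.ne, coeff_C_zero, zero_sub]
  have h1 : ((X : K[X]) ^ r - C b) = X ^ r + C (-b) := by rw [C_neg, sub_eq_add_neg]
  have h2 : ((X : K[X]) ^ r).reverse = 1 := by
    have := reverse_mul_X_pow (1 : K[X]) r
    rwa [one_mul, ← C_1, reverse_C] at this
  have h3 : ((X : K[X]) ^ r - C b).reverse = 1 + C (-b) * X ^ r := by
    rw [h1, reverse_add_C, h2, natDegree_X_pow]
  rw [h0, h3, mul_add, mul_one, ← mul_assoc, ← C_mul, inv_mul_cancel₀ (neg_ne_zero.2 hb), C_1,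
    one_mul, inv_neg, C_neg]
  ring

end Poly

variable {K : Type v} [Field K] [Fintype K] {q n : ℕ}

omit [Fintype K] in
theorem udual_X_pow_sub_C (σ : K →+* K) (hσq : ∀ x, σ x = x ^ q) (r : ℕ) (hr : 0 < r) (l : K)
    (hl : l ^ (q + 1) = 1) : udual σ ((X : K[X]) ^ r - C l) = X ^ r - C l := by
  have hl0 : l ≠ 0 := by
    rintro rfl
    rw [zero_pow (by omega)] at hl
    exact zero_ne_one hl
  have h1 : (l ^ q)⁻¹ = l := by
    rw [pow_succ] at hl
    rw [inv_eq_of_mul_eq_one_right hl]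
  unfold udual
  rw [Polynomial.map_sub, Polynomial.map_pow, map_X, map_C, hσq,
    recip_X_pow_sub_C r hr _ (pow_ne_zero _ hl0), h1]

/-- a primitive `(q + 1)`-th root of unity in the field with `q²` elements -/
theorem exists_primitiveRoot_q_add_one (hK : Fintype.card K = q ^ 2) :
    ∃ ω : K, IsPrimitiveRoot ω (q + 1) := by
  classical
  have hq2 := two_le_q hK
  obtain ⟨g, hg⟩ := IsCyclic.exists_generator (α := Kˣ)
  have h1 : orderOf g = q ^ 2 - 1 := by
    rw [orderOf_eq_card_of_forall_mem_zpowers hg, Nat.card_eq_fintype_card, Fintype.card_units, hK]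
  have h2 : IsPrimitiveRoot (g : K) (q ^ 2 - 1) := by
    rw [IsPrimitiveRoot.coe_units_iff, IsPrimitiveRoot.iff_orderOf, h1]
  have h3 : q ^ 2 - 1 = (q - 1) * (q + 1) := by
    obtain ⟨t, rfl⟩ : ∃ t, q = t + 1 := ⟨q - 1, by omega⟩
    rw [Nat.add_sub_cancel]
    have : (t + 1) ^ 2 = t * (t + 1 + 1) + 1 := by ring
    omega
  have hpos : 0 < q ^ 2 - 1 := by
    rw [h3]
    exact Nat.mul_pos (by omega) (by omega)
  exact ⟨(g : K) ^ (q - 1), h2.pow hpos h3⟩

theorem pow_q_add_one_of_pow (hK : Fintype.card K = q ^ 2) (r : ℕ) (hr : r.Prime) (hr2 : r ≠ 2)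
    (hrq : r ∣ q + 1) (ν : K) (hν : (ν ^ r) ^ (q + 1) = 1) : ν ^ (q + 1) = 1 := by
  have hq2 := two_le_q hK
  have hν0 : ν ≠ 0 := by
    rintro rfl
    rw [zero_pow hr.pos.ne', zero_pow (by omega)] at hν
    exact zero_ne_one hν
  have h1 : (ν ^ (q + 1)) ^ r = 1 := by rw [← pow_mul, mul_comm, pow_mul, hν]
  have h2 : (ν ^ (q + 1)) ^ (q - 1) = 1 := by
    have h3 : ν ^ (Fintype.card K - 1) = 1 := FiniteField.pow_card_sub_one_eq_one ν hν0
    rw [hK] at h3
    have h4 : (q + 1) * (q - 1) = q ^ 2 - 1 := by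
      obtain ⟨t, rfl⟩ : ∃ t, q = t + 1 := ⟨q - 1, by omega⟩
      rw [Nat.add_sub_cancel]
      have : (t + 1) ^ 2 = (t + 1 + 1) * t + 1 := by ring
      omega
    rw [← pow_mul, h4, h3]
  have hcop : Nat.gcd r (q - 1) = 1 := by
    rw [← Nat.coprime_iff_gcd_eq_one, Nat.Prime.coprime_iff_not_dvd hr]
    intro hd
    have h5 : r ∣ (q + 1) - (q - 1) := Nat.dvd_sub hrq hd
    have h6 : (q + 1) - (q - 1) = 2 := by omega
    rw [h6] at h5
    exact hr2 ((Nat.prime_dvd_prime_iff_eq hr Nat.prime_two).1 h5)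
  have h7 := pow_gcd_eq_one.2 ⟨h1, h2⟩
  rwa [hcop, pow_one] at h7

theorem orderOf_q_eq_two (r : ℕ) (hr : r.Prime) (hr2 : r ≠ 2) (hrq : r ∣ q + 1) :
    orderOf ((q : ℕ) : ZMod r) = 2 := by
  have : Fact r.Prime := ⟨hr⟩
  have : Fact (Nat.Prime 2) := ⟨Nat.prime_two⟩
  have h1 : ((q : ℕ) : ZMod r) = -1 := by
    have h2 : (((q + 1 : ℕ)) : ZMod r) = 0 := (ZMod.natCast_eq_zero_iff _ _).2 hrq
    rw [Nat.cast_add, Nat.cast_one] at h2
    exact eq_neg_of_add_eq_zero_left h2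
  apply orderOf_eq_prime
  · rw [h1]
    ring
  · rw [h1]
    intro h
    have h3 : ((2 : ℕ) : ZMod r) = 0 := by
      have : (1 : ZMod r) + 1 = 0 := by
        nth_rewrite 1 [← h]
        ring
      rw [Nat.cast_ofNat, ← one_add_one_eq_two]
      exact this
    rw [ZMod.natCast_eq_zero_iff] at h3
    exact hr2 ((Nat.prime_dvd_prime_iff_eq hr Nat.prime_two).1 h3)

/-- polynomials all of whose irreducible factors divide `X ^ r - 1` are self-dual when
`r ∣ q + 1` -/
theorem udual_eq_of_factors (hK : Fintype.card K = q ^ 2) (σ : K →+* K)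
    (hσq : ∀ x, σ x = x ^ q) (r : ℕ) (hr : r.Prime) (hr2 : r ≠ 2) (hrq : r ∣ q + 1) :
    ∀ (d : ℕ) (c : K[X]), c.Monic → c.natDegree = d →
      (∀ f, Irreducible f → f ∣ c → f ∣ X ^ r - 1) → udual σ c = c := by
  have hp : Fact (ringChar K).Prime := ⟨CharP.char_is_prime K (ringChar K)⟩
  intro d
  induction d using Nat.strong_induction_on with
  | _ d ih =>
  intro c hc hd hall
  rcases Nat.eq_zero_or_pos d with hd0 | hdpos
  · subst hd0
    rw [eq_one_of_monic_natDegree_zero hc hd, udual_one]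
  · have hnu : ¬ IsUnit c := by
      intro hu
      have := natDegree_eq_zero_of_isUnit hu
      omega
    obtain ⟨f, hfm, hfi, c', rfl⟩ := exists_monic_irreducible_factor c hnu
    have hfP : f ∣ X ^ r - 1 := hall f hfi (dvd_mul_right f c')
    have hc'm : c'.Monic := hfm.of_mul_monic_left hc
    have hdeg : (f * c').natDegree = f.natDegree + c'.natDegree := hfm.natDegree_mul hc'm
    have hfpos : 0 < f.natDegree := hfi.natDegree_pos
    have h1 := ih c'.natDegree (by omega) c' hc'm rfl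
      (fun g hg hgc => hall g hg (dvd_mul_of_dvd_right hgc f))
    have h2 : udual σ f = f := by
      by_cases hf1 : f = X - 1
      · rw [hf1, udual_X_sub_one]
      · exact udual_eq_of_mod4 σ (ringChar K) hK hσq r 2 hr (orderOf_q_eq_two r hr hr2 hrq).symm
          (by norm_num) f hfm hfi hf1 hfP
    rw [udual_mul, h1, h2]

omit [Fintype K] in
theorem guCoeHom_apply (g : ↥(Cfsg.GU n K q)) :
    guCoeHom n K q g = ((g : GL (Fin n) K) : Matrix (Fin n) (Fin n) K) := rfl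

theorem exists_GU_of_pow_eq (hK : Fintype.card K = q ^ 2) (A : Matrix (Fin n) (Fin n) K)
    (hA : ∀ u v, Cfsg.hermForm n K q (A *ᵥ u) (A *ᵥ v) = Cfsg.hermForm n K q u v) :
    ∃ g : ↥(Cfsg.GU n K q), guCoeHom n K q g = A := by
  have hq0 : q ≠ 0 := by
    have := two_le_q hK
    omega
  exact ⟨Helper5_GUOrder.mkGU hq0 A hA, rfl⟩

theorem pData (hK : Fintype.card K = q ^ 2) (hn : 0 < n) (r : ℕ) (hr : r.Prime) (hr2 : r ≠ 2)
    (hrq : r ∣ q + 1) : PData (guCoeHom n K q) r (q + 1) := by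
  classical
  have hq2 := two_le_q hK
  have hq0 : q ≠ 0 := by omega
  have hp : Fact (ringChar K).Prime := ⟨CharP.char_is_prime K (ringChar K)⟩
  obtain ⟨σ, hσq, hσ⟩ := exists_frob hK
  obtain ⟨ω, hω⟩ := exists_primitiveRoot_q_add_one hK
  have : NeZero (q + 1) := ⟨by omega⟩
  have hmK : ((q + 1 : ℕ) : K) ≠ 0 := (hω.neZero').ne
  have hrK : (r : K) ≠ 0 := by
    intro h
    apply hmK
    obtain ⟨s, hs⟩ := hrq
    rw [hs, Nat.cast_mul, h, zero_mul]
  have hcop : (r * (q + 1)).Coprime (ringChar K) := by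
    apply Nat.Coprime.symm
    rw [Nat.Prime.coprime_iff_not_dvd hp.out, ← CharP.cast_eq_zero_iff K (ringChar K),
      Nat.cast_mul]
    exact mul_ne_zero hrK hmK
  refine ⟨?_, ?_, ?_, ?_, ?_, ?_, ?_, ?_⟩
  · intro g h hgh
    apply Subtype.ext
    apply Units.ext
    exact hgh
  · intro g
    exact GU_mem_center_iff hK hn g
  · intro g a ha
    apply pow_eq_one_of_isU_smul hn a
    rw [← ha]
    exact g.2
  · intro a ha
    have h1 : a * a ^ q = 1 := by rw [← pow_succ']; exact ha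
    exact exists_GU_of_pow_eq hK _ (Helper5_GUOrder.isU_smul hK a h1)
  · intro ν hν
    exact pow_q_add_one_of_pow hK r hr hr2 hrq ν hν
  · intro g h hg hh hc
    have hordGL : ∀ g : ↥(Cfsg.GU n K q), orderOf (g : GL (Fin n) K) = orderOf g :=
      fun g => Subgroup.orderOf_coe g
    obtain ⟨u, hu, hugk⟩ := exists_GU_conj hK (ringChar K) (g : GL (Fin n) K) (h : GL (Fin n) K)
      g.2 h.2
      (by rw [hordGL]; exact Nat.Coprime.coprime_dvd_left (orderOf_dvd_of_pow_eq_one hg) hcop)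
      (by rw [hordGL]; exact Nat.Coprime.coprime_dvd_left (orderOf_dvd_of_pow_eq_one hh) hcop)
      hc
    rw [isConj_iff]
    refine ⟨⟨u, hu⟩, ?_⟩
    rw [mul_inv_eq_iff_eq_mul]
    apply Subtype.ext
    exact hugk
  · intro c hc
    obtain ⟨hcm, hcn, hcf⟩ := hc
    have hdual : udual σ c = c := udual_eq_of_factors hK σ hσq r hr hr2 hrq n c hcm hcn hcf
    obtain ⟨A, hAU, hAc, hAk⟩ := exists_GU_matrix σ hσq hσ n c hcm hcn hdual
    have hAr1 : A ^ r = 1 := by
      have := hAk (X ^ r - 1) hcf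
      rw [map_sub, map_pow, aeval_X, map_one] at this
      exact sub_eq_zero.1 this
    obtain ⟨g, hg⟩ := exists_GU_of_pow_eq hK A hAU
    exact ⟨g, by rw [hg, hAc], by rw [hg, hAr1]⟩
  · intro hrn l hl
    obtain ⟨k, hk⟩ := hrn
    have hPm : ((X : K[X]) ^ r - C l).Monic := monic_X_pow_sub_C l hr.pos.ne'
    have hdual : udual σ (((X : K[X]) ^ r - C l) ^ k) = ((X : K[X]) ^ r - C l) ^ k := by
      rw [udual_pow, udual_X_pow_sub_C σ hσq r hr.pos l hl]
    obtain ⟨A, hAU, _, hAk⟩ := exists_GU_matrix σ hσq hσ n (((X : K[X]) ^ r - C l) ^ k)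
      (hPm.pow k) (by rw [hPm.natDegree_pow, natDegree_X_pow_sub_C, hk, mul_comm]) hdual
    have hA : A ^ r = l • (1 : Matrix (Fin n) (Fin n) K) := by
      have := hAk (X ^ r - C l) (fun g hg hgd => hg.prime.dvd_of_dvd_pow hgd)
      rw [map_sub, map_pow, aeval_X, aeval_C, Algebra.algebraMap_eq_smul_one] at this
      exact sub_eq_zero.1 this
    obtain ⟨g, hg⟩ := exists_GU_of_pow_eq hK A hAU
    exact ⟨g, by rw [hg, hA]⟩

theorem card_polySet (hK : Fintype.card K = q ^ 2) (r : ℕ) (hr : r.Prime) (hr2 : r ≠ 2)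
    (hrq : r ∣ q + 1) (n : ℕ) :
    Nat.card (PolySet K r n) = Nat.choose (n + r - 1) (r - 1) := by
  classical
  have hr2' := hr.two_le
  have hq2 := two_le_q hK
  have hp : Fact (ringChar K).Prime := ⟨CharP.char_is_prime K (ringChar K)⟩
  obtain ⟨ω, hω⟩ := exists_primitiveRoot_q_add_one hK
  have : NeZero (q + 1) := ⟨by omega⟩
  have hmK : ((q + 1 : ℕ) : K) ≠ 0 := (hω.neZero').ne
  have hrp : r ≠ ringChar K := by
    intro h
    apply hmK
    obtain ⟨s, hs⟩ := hrq
    rw [hs, Nat.cast_mul, h, CharP.cast_eq_zero K (ringChar K), zero_mul]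
  have hi : 1 = orderOf ((Fintype.card K : ℕ) : ZMod r) := by
    symm
    rw [orderOf_eq_one_iff, hK, Nat.cast_pow, sq]
    have h1 := orderOf_q_eq_two (q := q) r hr hr2 hrq
    have h2 := pow_orderOf_eq_one ((q : ℕ) : ZMod r)
    rw [h1, sq] at h2
    exact h2
  have h := Helper40_PrimeOrderClasses.card_polys (F := K) (ringChar K) n r 1 (r - 1) hr hrp hi
    (mul_one _)
  rw [Nat.div_one] at h
  have h2 : n + (r - 1) = n + r - 1 := by omega
  rw [← h2]
  exact h

/-- The number of classes of elements of odd prime order `r ∣ q + 1` in `PGU_n(q)`. -/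
theorem card_PGU_prime_order_classes (hK : Fintype.card K = q ^ 2) (hn : 0 < n) (r : ℕ)
    (hr : r.Prime) (hr2 : r ≠ 2) (hrq : r ∣ q + 1) :
    Nat.card {C : ConjClasses (↥(Cfsg.GU n K q) ⧸ Subgroup.center ↥(Cfsg.GU n K q)) //
      ∃ g : ↥(Cfsg.GU n K q) ⧸ Subgroup.center ↥(Cfsg.GU n K q),
        ConjClasses.mk g = C ∧ orderOf g = r} =
      (Nat.choose (n + r - 1) (r - 1) - r - (if r ∣ n then 1 else 0)) / r +
        r * (if r ∣ n then 1 else 0) := by
  classical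
  obtain ⟨ω, hω⟩ := exists_primitiveRoot_q_add_one hK
  exact card_proj_classes (pData hK hn r hr hr2 hrq) hn hr hrq (by omega) ω hω
    (card_polySet hK r hr hr2 hrq n)

end Cfsg.Agent.Lib.Helper40_PGUPrimeOrder
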