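import Mathlib
import Cfsg.Agent.Lib.Helper40_GLClassDefs
import Cfsg.Agent.Lib.Helper40_SLClassDefs

set_option autoImplicit false

/-!
# S2479-KER (helper40's S2479 market)

`C` cyclic of order `m`: the fibres of `a ↦ ∏ a_i^(k_i)` on `ι → C` have at most
`m^|ι| gcd(m, gcd_i k_i) / m` elements.
-/

namespace Cfsg.Agent.Lib.Helper46_S2479_KER

open Polynomial DirectSum Cfsg.Agent.Lib.Helper40_GLClassDefs Cfsg.Agent.Lib.Helper40_SLClassDefs

universe u v

/-- the power-product homomorphism -/
def powProd {C : Type u} [CommGroup C] {ι : Type v} [Fintype ι] (k : ι → ℕ) : (ι → C) →* C where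
  toFun a := ∏ i, a i ^ k i
  map_one' := by simp
  map_mul' a b := by simp [mul_pow, Finset.prod_mul_distrib]

theorem powProd_apply {C : Type u} [CommGroup C] {ι : Type v} [Fintype ι] (k : ι → ℕ)
    (a : ι → C) : powProd k a = ∏ i, a i ^ k i := rfl

theorem powProd_mulSingle {C : Type u} [CommGroup C] {ι : Type v} [Fintype ι] [DecidableEq ι]
    (k : ι → ℕ) (i : ι) (c : C) : powProd k (Pi.mulSingle i c) = c ^ k i := by
  rw [powProd_apply, Finset.prod_eq_single i]
  · rw [Pi.mulSingle_eq_same]
  · intro j _ hji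
    rw [Pi.mulSingle_eq_of_ne hji, one_pow]
  · intro h
    exact absurd (Finset.mem_univ i) h

/-- **S2479-KER**. -/
theorem card_prod_pow_eq {C : Type u} [CommGroup C] [Fintype C] [IsCyclic C]
    {ι : Type v} [Fintype ι] (k : ι → ℕ) (t : C) :
    Fintype.card C * Nat.card {a : ι → C // ∏ i, a i ^ k i = t} ≤
      Fintype.card C ^ Fintype.card ι * Nat.gcd (Fintype.card C) (Finset.univ.gcd k) := by
  classical
  set φ : (ι → C) →* C := powProd k with hφ
  -- fibres are no bigger than the kernel
  have hfib : Nat.card {a : ι → C // ∏ i, a i ^ k i = t} ≤ Nat.card φ.ker := by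
    by_cases hne : Nonempty {a : ι → C // ∏ i, a i ^ k i = t}
    · obtain ⟨⟨a₀, ha₀⟩⟩ := hne
      have hmem : ∀ a : {a : ι → C // ∏ i, a i ^ k i = t}, a.1 * a₀⁻¹ ∈ φ.ker := by
        intro a
        rw [MonoidHom.mem_ker, map_mul, map_inv, hφ, powProd_apply, powProd_apply, a.2, ha₀,
          mul_inv_cancel]
      apply Nat.card_le_card_of_injective (fun a => (⟨a.1 * a₀⁻¹, hmem a⟩ : φ.ker))
      intro a b hab
      have h1 : a.1 * a₀⁻¹ = b.1 * a₀⁻¹ := congrArg Subtype.val hab
      exact Subtype.ext (mul_right_cancel h1)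
    · rw [not_nonempty_iff] at hne
      rw [Nat.card_of_isEmpty]
      exact Nat.zero_le _
  -- kernel times range
  have hkr : Nat.card φ.ker * Nat.card φ.range = Fintype.card C ^ Fintype.card ι := by
    rw [← Subgroup.index_ker, Subgroup.card_mul_index, Nat.card_eq_fintype_card, Fintype.card_pi,
      Finset.prod_const, Finset.card_univ]
  -- the range is large
  have hdiv : Fintype.card C ∣
      Nat.card φ.range * Nat.gcd (Fintype.card C) (Finset.univ.gcd k) := by
    obtain ⟨γ, hγ⟩ := IsCyclic.exists_generator (α := C)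
    have hord : orderOf γ = Fintype.card C := by
      rw [← Nat.card_eq_fintype_card]
      exact orderOf_eq_card_of_forall_mem_zpowers hγ
    have hki : ∀ i, Fintype.card C ∣ Nat.card φ.range * k i := by
      intro i
      have h1 : γ ^ k i ∈ φ.range := ⟨Pi.mulSingle i γ, powProd_mulSingle k i γ⟩
      have h2 : (⟨γ ^ k i, h1⟩ : φ.range) ^ Nat.card φ.range = 1 := pow_card_eq_one'
      have h3 : (γ ^ k i) ^ Nat.card φ.range = 1 := by
        have := congrArg Subtype.val h2
        simpa using this
      rw [← pow_mul, mul_comm] at h3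
      rw [← hord]
      exact orderOf_dvd_of_pow_eq_one h3
    have h4 : Fintype.card C ∣ Nat.card φ.range * Finset.univ.gcd k := by
      have : Nat.card φ.range * Finset.univ.gcd k =
          Finset.univ.gcd (fun i => Nat.card φ.range * k i) := by
        rw [Finset.gcd_mul_left, normalize_eq]
      rw [this]
      exact Finset.dvd_gcd (fun i _ => hki i)
    rw [← Nat.gcd_mul_left]
    exact Nat.dvd_gcd (Dvd.intro_left _ rfl) h4
  have hpos : 0 < Nat.card φ.range * Nat.gcd (Fintype.card C) (Finset.univ.gcd k) := by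
    apply Nat.mul_pos Nat.card_pos
    exact Nat.gcd_pos_of_pos_left _ Fintype.card_pos
  have hle : Fintype.card C ≤
      Nat.card φ.range * Nat.gcd (Fintype.card C) (Finset.univ.gcd k) := Nat.le_of_dvd hpos hdiv
  calc Fintype.card C * Nat.card {a : ι → C // ∏ i, a i ^ k i = t}
      ≤ Fintype.card C * Nat.card φ.ker := Nat.mul_le_mul_left _ hfib
    _ ≤ (Nat.card φ.range * Nat.gcd (Fintype.card C) (Finset.univ.gcd k)) * Nat.card φ.ker :=
        Nat.mul_le_mul_right _ hle
    _ = (Nat.card φ.ker * Nat.card φ.range) * Nat.gcd (Fintype.card C) (Finset.univ.gcd k) := by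
        ring
    _ = Fintype.card C ^ Fintype.card ι * Nat.gcd (Fintype.card C) (Finset.univ.gcd k) := by
        rw [hkr]

end Cfsg.Agent.Lib.Helper46_S2479_KER
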