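import Mathlib
import Cfsg.Agent.Lib.Helper40_GLClassDefs
import Cfsg.Agent.Lib.Helper40_SLClassDefs
import Cfsg.Agent.Lib.Helper26_S2479_CONST
import Cfsg.Agent.Lib.Helper46_S2479_KER

set_option autoImplicit false
set_option linter.unusedVariables false

/-!
# S2480-DETCOUNTT (helper40; helper5's proof of S2479-DETCOUNT with an arbitrary target determinant)

For a degree vector `d` and `t ≠ 0`, the number of types `h` with degree vector `d` and
`detType n h = t` is at most `Wt q n d * gam q n d / (q - 1)`.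
-/

namespace Cfsg.Agent.Lib.Helper40_S2480_DETCOUNTT

open Polynomial DirectSum Cfsg.Agent.Lib.Helper40_GLClassDefs Cfsg.Agent.Lib.Helper40_SLClassDefs

universe u v

/-- gcd over the subtype `↥s` equals the gcd over `s` -/
theorem gcd_univ_coe' {ι : Type*} (s : Finset ι) (f : ι → ℕ) :
    (Finset.univ : Finset ↥s).gcd (fun i => f i.val) = s.gcd f := by
  apply Nat.dvd_antisymm
  · apply Finset.dvd_gcd
    intro j hj
    exact Finset.gcd_dvd (f := fun i : ↥s => f i.val) (Finset.mem_univ (⟨j, hj⟩ : ↥s))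
  · apply Finset.dvd_gcd
    intro i _
    exact Finset.gcd_dvd i.2

theorem detcount_t_aux {F : Type u} [Field F] [Fintype F] (n : ℕ) (d : Fin n → ℕ) (hd : d ∈ Dn n)
    (t₀ : F) (ht₀ : t₀ ≠ 0)
    (hconst : ∀ (m : ℕ), 1 ≤ m → ∀ c : F,
      {f : F[X] | f.Monic ∧ f.natDegree = m ∧ f.coeff 0 = c}.Finite ∧
      Nat.card {f : F[X] // f.Monic ∧ f.natDegree = m ∧ f.coeff 0 = c} =
        Fintype.card F ^ (m - 1))
    (hker : ∀ (s : Finset (Fin n)) (k : s → ℕ) (t : Fˣ),
      (Fintype.card F - 1) * Nat.card {a : s → Fˣ // ∏ i, a i ^ k i = t} ≤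
        (Fintype.card F - 1) ^ s.card * Nat.gcd (Fintype.card F - 1) (Finset.univ.gcd k)) :
    (Fintype.card F - 1) *
        Nat.card {h : Fin n → F[X] // IsType n h ∧ detType n h = t₀ ∧
          ∀ j, (h j).natDegree = d j} ≤
      Wt (Fintype.card F) n d * gam (Fintype.card F) n d := by
  classical
  set s : Finset (Fin n) := Finset.univ.filter (fun j => d j ≠ 0) with hs
  have hmem : ∀ i : ↥s, d i.val ≠ 0 := fun i => (Finset.mem_filter.mp i.2).2
  have hnot : ∀ j : Fin n, j ∉ s → d j = 0 := by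
    intro j hj
    by_contra h0
    exact hj (Finset.mem_filter.mpr ⟨Finset.mem_univ j, h0⟩)
  let k : ↥s → ℕ := fun i => i.val.val + 1
  let t : Fˣ := (∏ i : ↥s, ((-1 : Fˣ) ^ (d i.val)) ^ (k i))⁻¹ * Units.mk0 t₀ ht₀
  -- the target of the injection
  let P : {a : ↥s → Fˣ // ∏ i, a i ^ k i = t} → ↥s → Type u := fun a i =>
    {f : F[X] // f.Monic ∧ f.natDegree = d i.val ∧ f.coeff 0 = ((a.1 i : Fˣ) : F)}
  have hPfin : ∀ a i, Finite (P a i) := fun a i =>
    (hconst (d i.val) (Nat.one_le_iff_ne_zero.mpr (hmem i)) ((a.1 i : Fˣ) : F)).1.to_subtype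
  have hPcard : ∀ a i, Nat.card (P a i) = Fintype.card F ^ (d i.val - 1) := fun a i =>
    (hconst (d i.val) (Nat.one_le_iff_ne_zero.mpr (hmem i)) ((a.1 i : Fˣ) : F)).2
  -- facts about a type with degree vector d
  have hone : ∀ h : Fin n → F[X], IsType n h → (∀ j, (h j).natDegree = d j) →
      ∀ j, j ∉ s → h j = 1 := by
    intro h hT hdeg j hj
    have h0 : (h j).natDegree = 0 := by rw [hdeg j, hnot j hj]
    have hm := (hT.1 j).1
    rw [Polynomial.eq_C_of_natDegree_eq_zero h0] at hm ⊢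
    have hc : (h j).coeff 0 = 1 := by
      have := hm.leadingCoeff
      rwa [Polynomial.leadingCoeff_C] at this
    rw [hc, Polynomial.C_1]
  have hprod : ∀ h : Fin n → F[X], ∀ hT : IsType n h, detType n h = t₀ →
      (∀ j, (h j).natDegree = d j) →
      ∏ i : ↥s, (Units.mk0 ((h i.val).coeff 0) (hT.1 i.val).2) ^ k i = t := by
    intro h hT hdet hdeg
    have h1 : ∏ j ∈ s, ((-1 : F) ^ (h j).natDegree * (h j).coeff 0) ^ (j.val + 1) = t₀ := by
      have h0 : ∏ j ∈ s, ((-1 : F) ^ (h j).natDegree * (h j).coeff 0) ^ (j.val + 1) =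
          detType n h := by
        unfold detType
        apply Finset.prod_subset (Finset.subset_univ s)
        intro j _ hj
        rw [hone h hT hdeg j hj]
        simp
      rw [h0, hdet]
    rw [← Finset.prod_coe_sort] at h1
    have h2 : (∏ i : ↥s, ((-1 : Fˣ) ^ (d i.val)) ^ (k i)) *
        ∏ i : ↥s, (Units.mk0 ((h i.val).coeff 0) (hT.1 i.val).2) ^ k i = Units.mk0 t₀ ht₀ := by
      apply Units.ext
      rw [← Finset.prod_mul_distrib, Units.val_mk0, ← h1, Units.coe_prod]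
      apply Finset.prod_congr rfl
      intro i _
      rw [← mul_pow, Units.val_pow_eq_pow_val, Units.val_mul, Units.val_pow_eq_pow_val,
        Units.val_neg, Units.val_one, Units.val_mk0, hdeg i.val]
    exact eq_inv_mul_of_mul_eq h2
  -- the injection
  let Φ : {h : Fin n → F[X] // IsType n h ∧ detType n h = t₀ ∧ ∀ j, (h j).natDegree = d j} →
      Σ a : {a : ↥s → Fˣ // ∏ i, a i ^ k i = t}, ∀ i : ↥s, P a i := fun h =>
    ⟨⟨fun i => Units.mk0 ((h.1 i.val).coeff 0) (h.2.1.1 i.val).2,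
        hprod h.1 h.2.1 h.2.2.1 h.2.2.2⟩,
      fun i => ⟨h.1 i.val, (h.2.1.1 i.val).1, h.2.2.2 i.val, rfl⟩⟩
  have hΦ : Function.Injective Φ := by
    rintro ⟨h, hT, hdet, hdeg⟩ ⟨h', hT', hdet', hdeg'⟩ heq
    apply Subtype.ext
    funext j
    by_cases hj : j ∈ s
    · have h1 := congrArg Sigma.fst heq
      have h2 : (Φ ⟨h, hT, hdet, hdeg⟩).2 ≍ (Φ ⟨h', hT', hdet', hdeg'⟩).2 :=
        (Sigma.ext_iff.mp heq).2
      have h3 : ∀ (a a' : {a : ↥s → Fˣ // ∏ i, a i ^ k i = t}) (f : ∀ i : ↥s, P a i)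
          (f' : ∀ i : ↥s, P a' i), a = a' → f ≍ f' → ((f ⟨j, hj⟩).1 : F[X]) = (f' ⟨j, hj⟩).1 := by
        intro a a' f f' haa hff
        subst haa
        rw [eq_of_heq hff]
      exact h3 _ _ _ _ h1 h2
    · show h j = h' j
      rw [hone h hT hdeg j hj, hone h' hT' hdeg' j hj]
  have hPifin : ∀ a : {a : ↥s → Fˣ // ∏ i, a i ^ k i = t}, Finite (∀ i : ↥s, P a i) := fun a =>
    have := hPfin a
    inferInstance
  have hcardS : Nat.card (Σ a : {a : ↥s → Fˣ // ∏ i, a i ^ k i = t}, ∀ i : ↥s, P a i) =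
      Nat.card {a : ↥s → Fˣ // ∏ i, a i ^ k i = t} *
        ∏ i : ↥s, Fintype.card F ^ (d i.val - 1) := by
    rw [Nat.card_sigma]
    have : ∀ a : {a : ↥s → Fˣ // ∏ i, a i ^ k i = t}, Nat.card (∀ i : ↥s, P a i) =
        ∏ i : ↥s, Fintype.card F ^ (d i.val - 1) := by
      intro a
      rw [Nat.card_pi]
      exact Finset.prod_congr rfl (fun i _ => hPcard a i)
    simp only [this]
    rw [Finset.sum_const, Finset.card_univ, smul_eq_mul, Nat.card_eq_fintype_card]
  have hle := Nat.card_le_card_of_injective Φ hΦ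
  rw [hcardS] at hle
  -- the arithmetic
  have hk := hker s k t
  have hgcd : (Finset.univ : Finset ↥s).gcd k = s.gcd (fun j => j.val + 1) :=
    gcd_univ_coe' s (fun j => j.val + 1)
  have hWt : Wt (Fintype.card F) n d =
      (Fintype.card F - 1) ^ s.card * ∏ i : ↥s, Fintype.card F ^ (d i.val - 1) := by
    rw [Wt, Finset.prod_coe_sort s (fun j => Fintype.card F ^ (d j - 1))]
    have h1 : ∏ j : Fin n, Nq (Fintype.card F) (d j) = ∏ j ∈ s, Nq (Fintype.card F) (d j) := by
      symm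
      apply Finset.prod_subset (Finset.subset_univ s)
      intro j _ hj
      rw [hnot j hj, Nq, if_pos rfl]
    rw [h1, ← Finset.prod_const, ← Finset.prod_mul_distrib]
    apply Finset.prod_congr rfl
    intro j hj
    rw [Nq, if_neg (Finset.mem_filter.mp hj).2]
  have hgam : gam (Fintype.card F) n d =
      Nat.gcd (Fintype.card F - 1) ((Finset.univ : Finset ↥s).gcd k) := by
    rw [hgcd, gam]
  rw [hWt, hgam]
  calc (Fintype.card F - 1) * Nat.card {h : Fin n → F[X] // IsType n h ∧ detType n h = t₀ ∧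
          ∀ j, (h j).natDegree = d j}
      ≤ (Fintype.card F - 1) * (Nat.card {a : ↥s → Fˣ // ∏ i, a i ^ k i = t} *
          ∏ i : ↥s, Fintype.card F ^ (d i.val - 1)) := Nat.mul_le_mul_left _ hle
    _ = ((Fintype.card F - 1) * Nat.card {a : ↥s → Fˣ // ∏ i, a i ^ k i = t}) *
          ∏ i : ↥s, Fintype.card F ^ (d i.val - 1) := by ring
    _ ≤ ((Fintype.card F - 1) ^ s.card *
          Nat.gcd (Fintype.card F - 1) ((Finset.univ : Finset ↥s).gcd k)) *
          ∏ i : ↥s, Fintype.card F ^ (d i.val - 1) := Nat.mul_le_mul_right _ hk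
    _ = _ := by ring

theorem detcount_t {F : Type u} [Field F] [Fintype F] (n : ℕ) (d : Fin n → ℕ) (hd : d ∈ Dn n)
    (t : F) (ht : t ≠ 0) :
    (Fintype.card F - 1) *
        Nat.card {h : Fin n → F[X] // IsType n h ∧ detType n h = t ∧
          ∀ j, (h j).natDegree = d j} ≤
      Wt (Fintype.card F) n d * gam (Fintype.card F) n d := by
  classical
  apply detcount_t_aux n d hd t ht
    (fun m hm c => Cfsg.Agent.Lib.Helper26_S2479_CONST.card_monic_const m hm c)
  intro s k t'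
  have hcardU : Fintype.card Fˣ = Fintype.card F - 1 := Fintype.card_units F
  have := Cfsg.Agent.Lib.Helper46_S2479_KER.card_prod_pow_eq (C := Fˣ) (ι := s) k t'
  rwa [hcardU, Fintype.card_coe] at this

end Cfsg.Agent.Lib.Helper40_S2480_DETCOUNTT
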