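import Mathlib
import Cfsg.Agent.Lib.Helper40_GLClassDefs
import Cfsg.Agent.Lib.Helper40_SLClassDefs
import Cfsg.Agent.Lib.Helper40_PSLClassDefs

set_option autoImplicit false

/-!
# S2480-TYPESCALE (helper40): the elementary divisors of `a • T`
-/

namespace Cfsg.Agent.Lib.Helper40_S2480_TYPESCALE

open Polynomial DirectSum Cfsg.Agent.Lib.Helper40_GLClassDefs Cfsg.Agent.Lib.Helper40_SLClassDefs
  Cfsg.Agent.Lib.Helper40_PSLClassDefs

universe u

/-- an `F`-linear map commuting with `X` is `F[X]`-linear -/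
theorem map_poly_smul {F : Type u} [Field F] {M N : Type*} [AddCommGroup M] [AddCommGroup N]
    [Module F M] [Module F[X] M] [IsScalarTower F F[X] M]
    [Module F N] [Module F[X] N] [IsScalarTower F F[X] N]
    (f : M →ₗ[F] N) (hX : ∀ m, f ((X : F[X]) • m) = (X : F[X]) • f m) (r : F[X]) (m : M) :
    f (r • m) = r • f m := by
  have hXn : ∀ (k : ℕ) (m : M), f ((X : F[X]) ^ k • m) = (X : F[X]) ^ k • f m := by
    intro k
    induction k with
    | zero => intro m; simp
    | succ k ih =>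
      intro m
      rw [pow_succ, mul_smul, ih, hX, ← mul_smul]
  induction r using Polynomial.induction_on' with
  | add p q hp hq => rw [add_smul, map_add, hp, hq, add_smul]
  | monomial k c =>
    rw [← Polynomial.C_mul_X_pow_eq_monomial, mul_smul, mul_smul, Polynomial.C_eq_algebraMap,
      algebraMap_smul, algebraMap_smul, map_smul, hXn]

/-- the substitution `X ↦ a⁻¹ X` -/
noncomputable def sig {F : Type u} [Field F] (a : F) (ha : a ≠ 0) : F[X] ≃ₐ[F] F[X] :=
  Polynomial.algEquivOfCompEqX (C a⁻¹ * X) (C a * X)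
    (by simp [← mul_assoc, ← C_mul, inv_mul_cancel₀ ha])
    (by simp [← mul_assoc, ← C_mul, mul_inv_cancel₀ ha])

theorem sig_apply {F : Type u} [Field F] (a : F) (ha : a ≠ 0) (p : F[X]) :
    sig a ha p = p.comp (C a⁻¹ * X) := by
  unfold sig
  rw [Polynomial.algEquivOfCompEqX_apply, Polynomial.comp_eq_aeval]

theorem sig_X {F : Type u} [Field F] (a : F) (ha : a ≠ 0) :
    sig a ha (X : F[X]) = C a⁻¹ * X := by
  rw [sig_apply, Polynomial.X_comp]

theorem scaleRoots_eq {F : Type u} [Field F] (a : F) (ha : a ≠ 0) (p : F[X]) :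
    p.scaleRoots a = C (a ^ p.natDegree) * sig a ha p := by
  rw [sig_apply]
  ext i
  rw [Polynomial.coeff_scaleRoots, Polynomial.coeff_C_mul, Polynomial.comp_C_mul_X_coeff]
  by_cases hi : i ≤ p.natDegree
  · have : a ^ p.natDegree = a ^ (p.natDegree - i) * a ^ i := by
      rw [← pow_add, Nat.sub_add_cancel hi]
    rw [this, inv_pow]
    field_simp
  · rw [Polynomial.coeff_eq_zero_of_natDegree_lt (not_le.mp hi)]
    simp


theorem ideal_eq {F : Type u} [Field F] (a : F) (ha : a ≠ 0) (p : F[X]) (e : ℕ) :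
    (Ideal.span {p.scaleRoots a ^ e} : Ideal F[X]) =
      (Ideal.span {p ^ e} : Ideal F[X]).map ((sig a ha : F[X] ≃ₐ[F] F[X]) : F[X] →+* F[X]) := by
  rw [Ideal.map_span, Set.image_singleton]
  rw [Ideal.span_singleton_eq_span_singleton]
  have h1 : ((sig a ha : F[X] ≃ₐ[F] F[X]) : F[X] →+* F[X]) (p ^ e) = (sig a ha p) ^ e := by
    simp
  rw [h1, scaleRoots_eq a ha, mul_pow, ← C_pow]
  have hu : IsUnit (C ((a ^ p.natDegree) ^ e) : F[X]) :=
    Polynomial.isUnit_C.mpr (IsUnit.mk0 _ (pow_ne_zero _ (pow_ne_zero _ ha)))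
  exact (associated_isUnit_mul_left_iff hu).mpr (Associated.refl _)

/-- the semilinear equivalence of the cyclic modules -/
noncomputable def tau {F : Type u} [Field F] (a : F) (ha : a ≠ 0) (p : F[X]) (e : ℕ) :
    (F[X] ⧸ Submodule.span F[X] {p ^ e}) ≃ₗ[F] (F[X] ⧸ Submodule.span F[X] {p.scaleRoots a ^ e}) :=
  (Ideal.quotientEquivAlg (Ideal.span {p ^ e}) (Ideal.span {p.scaleRoots a ^ e}) (sig a ha)
    (ideal_eq a ha p e)).toLinearEquiv

theorem tau_smul {F : Type u} [Field F] (a : F) (ha : a ≠ 0) (p : F[X]) (e : ℕ) (r : F[X])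
    (m : F[X] ⧸ Submodule.span F[X] {p ^ e}) :
    tau a ha p e (r • m) = sig a ha r • tau a ha p e m := by
  obtain ⟨x, rfl⟩ := Submodule.Quotient.mk_surjective _ m
  have hmk : ∀ y : F[X], tau a ha p e (Submodule.Quotient.mk y) =
      Submodule.Quotient.mk (sig a ha y) := fun y => rfl
  rw [← Submodule.Quotient.mk_smul, hmk, hmk, smul_eq_mul, map_mul, ← smul_eq_mul,
    Submodule.Quotient.mk_smul]


theorem rep_scale {F : Type u} [Field F] {V : Type u} [AddCommGroup V] [Module F V]
    (T : Module.End F V) (a : F) (ha : a ≠ 0) (μ : Multiset (F[X] × ℕ)) (h : Rep T μ) :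
    Rep (a • T) (scaleMu a μ) := by
  classical
  obtain ⟨ι, _, p, e, hμ, ⟨φ⟩⟩ := h
  refine ⟨ι, inferInstance, fun i => (p i).scaleRoots a, e, ?_, ?_⟩
  · rw [hμ, scaleMu, Multiset.map_map]
    rfl
  · -- the `F`-linear equivalence
    let Θ : (⨁ i, F[X] ⧸ Submodule.span F[X] {p i ^ e i}) ≃ₗ[F]
        (⨁ i, F[X] ⧸ Submodule.span F[X] {(p i).scaleRoots a ^ e i}) :=
      DFinsupp.mapRange.linearEquiv (fun i => tau a ha (p i) (e i))
    have hΘ : ∀ (r : F[X]) (x : ⨁ i, F[X] ⧸ Submodule.span F[X] {p i ^ e i}),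
        Θ (r • x) = sig a ha r • Θ x := by
      intro r x
      apply DFinsupp.ext
      intro i
      show tau a ha (p i) (e i) ((r • x) i) = (sig a ha r • Θ x) i
      rw [DFinsupp.smul_apply, tau_smul, DFinsupp.smul_apply]
      rfl
    let Ψ : Module.AEval' (a • T) ≃ₗ[F]
        (⨁ i, F[X] ⧸ Submodule.span F[X] {(p i).scaleRoots a ^ e i}) :=
      (((Module.AEval'.of (a • T)).symm.trans (Module.AEval'.of T)).trans
        (φ.restrictScalars F)).trans Θ
    have hΨX : ∀ v : Module.AEval' (a • T), Ψ ((X : F[X]) • v) = (X : F[X]) • Ψ v := by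
      intro v
      obtain ⟨u, rfl⟩ := (Module.AEval'.of (a • T)).surjective v
      rw [Module.AEval'.X_smul_of]
      show Θ (φ (Module.AEval'.of T ((Module.AEval'.of (a • T)).symm
          (Module.AEval'.of (a • T) ((a • T) u))))) =
        (X : F[X]) • Θ (φ (Module.AEval'.of T ((Module.AEval'.of (a • T)).symm
          (Module.AEval'.of (a • T) u))))
      rw [LinearEquiv.symm_apply_apply, LinearEquiv.symm_apply_apply, LinearMap.smul_apply,
        map_smul, ← Module.AEval'.X_smul_of]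
      have h1 : a • ((X : F[X]) • Module.AEval'.of T u) = (C a * X : F[X]) • Module.AEval'.of T u := by
        rw [mul_smul, Polynomial.C_eq_algebraMap, algebraMap_smul]
      rw [h1, map_smul, hΘ, map_mul, sig_X, ← mul_assoc]
      have h2 : sig a ha (C a) * C a⁻¹ = (1 : F[X]) := by
        rw [sig_apply, Polynomial.C_comp, ← C_mul, mul_inv_cancel₀ ha, C_1]
      rw [h2, one_mul]
    have hlin : ∀ (r : F[X]) (v : Module.AEval' (a • T)), Ψ (r • v) = r • Ψ v := by
      intro r v
      have := map_poly_smul (F := F) (M := Module.AEval' (a • T))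
        (N := ⨁ i, F[X] ⧸ Submodule.span F[X] {(p i).scaleRoots a ^ e i})
        (Ψ : Module.AEval' (a • T) →ₗ[F]
        (⨁ i, F[X] ⧸ Submodule.span F[X] {(p i).scaleRoots a ^ e i})) hΨX r v
      exact this
    exact ⟨{ toFun := Ψ
             invFun := Ψ.symm
             map_add' := fun x y => map_add Ψ x y
             map_smul' := fun r v => hlin r v
             left_inv := Ψ.left_inv
             right_inv := Ψ.right_inv }⟩

end Cfsg.Agent.Lib.Helper40_S2480_TYPESCALE
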