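import Mathlib
import Cfsg.Agent.Lib.Helper40_GLClassDefs
import Cfsg.Agent.Lib.Helper40_SLClassDefs

set_option autoImplicit false

/-!
# S2479-NUMBIG (helper40's S2479 market)

Pure inequality on naturals: `q^n + ∑_{e ∣ gcd(n,q-1), e ≥ 2} (e^2-1) q^(n/e) ≤ (q-1)(q^(n-1) + 3 q^(n-2))`
for `q ≥ 2`, `n ≥ 4`.
-/

namespace Cfsg.Agent.Lib.Helper46_S2479_NUMBIG

open Polynomial DirectSum Cfsg.Agent.Lib.Helper40_GLClassDefs Cfsg.Agent.Lib.Helper40_SLClassDefs

universe u v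

/-- a term with `e ≥ 3`, `n ≥ 5` -/
theorem term_le (q n e : ℕ) (hn : 5 ≤ n) (he3 : 3 ≤ e) (hen : e ∣ n) (heq : e + 1 ≤ q) :
    (e ^ 2 - 1) * q ^ (n / e) ≤ q ^ (n - 2) := by
  obtain ⟨k, rfl⟩ := hen
  have he0 : 0 < e := by omega
  rw [Nat.mul_div_cancel_left k he0]
  have hk0 : k ≠ 0 := by
    rintro rfl
    omega
  have h1 : e ^ 2 - 1 ≤ q ^ 2 := by
    have : e ^ 2 ≤ q ^ 2 := Nat.pow_le_pow_left (by omega) 2
    omega
  have h2 : k + 2 ≤ e * k - 2 := by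
    rcases Nat.lt_or_ge k 2 with hk | hk
    · have : k = 1 := by omega
      subst this
      omega
    · have : 3 * k ≤ e * k := Nat.mul_le_mul_right k he3
      omega
  have hq1 : 1 ≤ q := by omega
  calc (e ^ 2 - 1) * q ^ k ≤ q ^ 2 * q ^ k := Nat.mul_le_mul_right _ h1
    _ = q ^ (k + 2) := by ring
    _ ≤ q ^ (e * k - 2) := Nat.pow_le_pow_right hq1 h2

/-- the weights sum to `q` over `[2, q-1]` -/
theorem sum_weights (q : ℕ) (hq : 3 ≤ q) :
    ∑ e ∈ Finset.Icc 2 (q - 1), (if e = 2 then 3 else 1) = q := by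
  have h1 : ∀ e ∈ Finset.Icc 2 (q - 1), (if e = 2 then 3 else 1) = 1 + (if e = 2 then 2 else 0) := by
    intro e _
    split_ifs <;> rfl
  rw [Finset.sum_congr rfl h1, Finset.sum_add_distrib, Finset.sum_const, Finset.sum_ite_eq',
    Nat.card_Icc, if_pos (Finset.mem_Icc.mpr ⟨le_refl 2, by omega⟩)]
  simp only [smul_eq_mul, mul_one]
  omega

theorem numbig_five (q n : ℕ) (hq : 2 ≤ q) (hn : 5 ≤ n) :
    q ^ n + ∑ e ∈ (Nat.divisors (Nat.gcd n (q - 1))).filter (fun e => 2 ≤ e),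
        (e ^ 2 - 1) * q ^ (n / e) ≤ (q - 1) * (q ^ (n - 1) + 3 * q ^ (n - 2)) := by
  have hq1 : 1 ≤ q := by omega
  have hpow1 : q ^ n = q ^ 2 * q ^ (n - 2) := by
    rw [← pow_add]
    congr 1
    omega
  have hpow2 : q ^ (n - 1) = q * q ^ (n - 2) := by
    rw [← pow_succ']
    congr 1
    omega
  rcases Nat.lt_or_ge q 3 with hq3 | hq3
  · have hq2 : q = 2 := by omega
    subst hq2
    have : (Nat.divisors (Nat.gcd n (2 - 1))).filter (fun e => 2 ≤ e) = ∅ := by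
      simp
    rw [this, Finset.sum_empty, hpow1, hpow2]
    simp only [add_zero]
    nlinarith [Nat.one_le_two_pow (n := n - 2)]
  · -- every index lies in `[2, q-1]`, every term is at most `weight * q^(n-2)`
    have hsub : (Nat.divisors (Nat.gcd n (q - 1))).filter (fun e => 2 ≤ e) ⊆ Finset.Icc 2 (q - 1) := by
      intro e he
      rw [Finset.mem_filter, Nat.mem_divisors] at he
      obtain ⟨⟨hd, _⟩, h2⟩ := he
      have : e ∣ q - 1 := hd.trans (Nat.gcd_dvd_right _ _)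
      exact Finset.mem_Icc.mpr ⟨h2, Nat.le_of_dvd (by omega) this⟩
    have hterm : ∀ e ∈ (Nat.divisors (Nat.gcd n (q - 1))).filter (fun e => 2 ≤ e),
        (e ^ 2 - 1) * q ^ (n / e) ≤ (if e = 2 then 3 else 1) * q ^ (n - 2) := by
      intro e he
      have hI := Finset.mem_Icc.mp (hsub he)
      rw [Finset.mem_filter, Nat.mem_divisors] at he
      obtain ⟨⟨hd, _⟩, h2⟩ := he
      have hen : e ∣ n := hd.trans (Nat.gcd_dvd_left _ _)
      split_ifs with h
      · subst h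
        have : n / 2 ≤ n - 2 := by omega
        calc (2 ^ 2 - 1) * q ^ (n / 2) = 3 * q ^ (n / 2) := by norm_num
          _ ≤ 3 * q ^ (n - 2) := Nat.mul_le_mul_left _ (Nat.pow_le_pow_right hq1 this)
      · rw [one_mul]
        exact term_le q n e hn (by omega) hen (by omega)
    have hsum : ∑ e ∈ (Nat.divisors (Nat.gcd n (q - 1))).filter (fun e => 2 ≤ e),
        (e ^ 2 - 1) * q ^ (n / e) ≤ q * q ^ (n - 2) := by
      calc ∑ e ∈ (Nat.divisors (Nat.gcd n (q - 1))).filter (fun e => 2 ≤ e),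
            (e ^ 2 - 1) * q ^ (n / e)
          ≤ ∑ e ∈ (Nat.divisors (Nat.gcd n (q - 1))).filter (fun e => 2 ≤ e),
            (if e = 2 then 3 else 1) * q ^ (n - 2) := Finset.sum_le_sum hterm
        _ ≤ ∑ e ∈ Finset.Icc 2 (q - 1), (if e = 2 then 3 else 1) * q ^ (n - 2) :=
            Finset.sum_le_sum_of_subset hsub
        _ = q * q ^ (n - 2) := by rw [← Finset.sum_mul, sum_weights q hq3]
    obtain ⟨s, rfl⟩ : ∃ s, q = s + 3 := ⟨q - 3, by omega⟩
    rw [hpow1, hpow2]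
    have h3 : s + 3 - 1 = s + 2 := by omega
    rw [h3] at hsum ⊢
    generalize (s + 3) ^ (n - 2) = Q at hsum ⊢
    generalize (∑ e ∈ (Nat.divisors (Nat.gcd n (s + 2))).filter (fun e => 2 ≤ e),
      (e ^ 2 - 1) * (s + 3) ^ (n / e)) = T at hsum ⊢
    nlinarith [hsum, Nat.zero_le (s * Q)]

theorem numbig_four (q : ℕ) (hq : 2 ≤ q) :
    q ^ 4 + ∑ e ∈ (Nat.divisors (Nat.gcd 4 (q - 1))).filter (fun e => 2 ≤ e),
        (e ^ 2 - 1) * q ^ (4 / e) ≤ (q - 1) * (q ^ (4 - 1) + 3 * q ^ (4 - 2)) := by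
  have hg : Nat.gcd 4 (q - 1) ∣ 4 := Nat.gcd_dvd_left _ _
  have hg2 : Nat.gcd 4 (q - 1) ∣ q - 1 := Nat.gcd_dvd_right _ _
  have hle : Nat.gcd 4 (q - 1) ≤ 4 := Nat.le_of_dvd (by norm_num) hg
  have hpos : 0 < Nat.gcd 4 (q - 1) := Nat.gcd_pos_of_pos_left _ (by norm_num)
  have hd1 : Nat.divisors 1 = {1} := by decide
  have hd2 : Nat.divisors 2 = {1, 2} := by decide
  have hd4 : Nat.divisors 4 = {1, 2, 4} := by decide
  interval_cases h : Nat.gcd 4 (q - 1)
  · -- gcd = 1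
    rw [hd1]
    have : ({1} : Finset ℕ).filter (fun e => 2 ≤ e) = ∅ := by decide
    rw [this, Finset.sum_empty]
    obtain ⟨s, rfl⟩ : ∃ s, q = s + 2 := ⟨q - 2, by omega⟩
    have h3 : s + 2 - 1 = s + 1 := by omega
    rw [h3]
    norm_num
    nlinarith [Nat.zero_le s]
  · -- gcd = 2
    rw [hd2]
    have : ({1, 2} : Finset ℕ).filter (fun e => 2 ≤ e) = {2} := by decide
    rw [this, Finset.sum_singleton]
    have hq3 : 3 ≤ q := by
      have := Nat.le_of_dvd (by omega) hg2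
      omega
    obtain ⟨s, rfl⟩ : ∃ s, q = s + 3 := ⟨q - 3, by omega⟩
    have h3 : s + 3 - 1 = s + 2 := by omega
    rw [h3]
    norm_num
    nlinarith [Nat.zero_le s]
  · -- gcd = 3 does not divide 4
    omega
  · -- gcd = 4
    rw [hd4]
    have : ({1, 2, 4} : Finset ℕ).filter (fun e => 2 ≤ e) = {2, 4} := by decide
    rw [this, Finset.sum_pair (by norm_num)]
    have hq5 : 5 ≤ q := by
      have := Nat.le_of_dvd (by omega) hg2
      omega
    obtain ⟨s, rfl⟩ : ∃ s, q = s + 5 := ⟨q - 5, by omega⟩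
    have h3 : s + 5 - 1 = s + 4 := by omega
    rw [h3]
    norm_num
    nlinarith [Nat.zero_le s]

/-- **S2479-NUMBIG**. -/
theorem numbig (q n : ℕ) (hq : 2 ≤ q) (hn : 4 ≤ n) :
    q ^ n + ∑ e ∈ (Nat.divisors (Nat.gcd n (q - 1))).filter (fun e => 2 ≤ e),
        (e ^ 2 - 1) * q ^ (n / e) ≤ (q - 1) * (q ^ (n - 1) + 3 * q ^ (n - 2)) := by
  rcases Nat.lt_or_ge n 5 with h5 | h5
  · have : n = 4 := by omega
    subst this
    exact numbig_four q hq
  · exact numbig_five q n hq h5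

end Cfsg.Agent.Lib.Helper46_S2479_NUMBIG
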