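import Mathlib
import Cfsg.Agent.Lib.Helper40_GLClassDefs
import Cfsg.Agent.Lib.Helper40_SLClassDefs

/-!
# S2479-CENTGAM (helper40's S2479 market)

The determinants of the centraliser of `g` form a subgroup `H` of `Fˣ`; the set of `k` with
`u ^ k ∈ H` for all `u` is closed under `gcd` (Bezout), hence contains `expGcd μ`.  helper64.
-/

set_option autoImplicit false

namespace Cfsg.Agent.Lib.Helper64_S2479_CENTGAM

open Polynomial Cfsg.Agent.Lib.Helper40_GLClassDefs Cfsg.Agent.Lib.Helper40_SLClassDefs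

universe u

/-- closure under `gcd` of the exponents `k` with `u ^ k ∈ H` -/
theorem pow_gcd_mem {G : Type*} [Group G] (H : Subgroup G) (u : G) {k l : ℕ} (hk : u ^ k ∈ H)
    (hl : u ^ l ∈ H) : u ^ Nat.gcd k l ∈ H := by
  have h1 : (u ^ Nat.gcd k l : G) = (u ^ k) ^ (Nat.gcdA k l) * (u ^ l) ^ (Nat.gcdB k l) := by
    rw [← zpow_natCast u (Nat.gcd k l), Nat.gcd_eq_gcd_ab, zpow_add, zpow_mul, zpow_mul,
      zpow_natCast, zpow_natCast]
  rw [h1]
  exact H.mul_mem (H.zpow_mem hk _) (H.zpow_mem hl _)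

theorem pow_multiset_gcd_mem {G : Type*} [Group G] (H : Subgroup G) (u : G) (s : Multiset ℕ)
    (hs : ∀ k ∈ s, u ^ k ∈ H) : u ^ s.gcd ∈ H := by
  induction s using Multiset.induction_on with
  | empty =>
    rw [Multiset.gcd_zero, pow_zero]
    exact H.one_mem
  | cons k s ih =>
    rw [Multiset.gcd_cons]
    have h1 : u ^ k ∈ H := hs k (Multiset.mem_cons_self k s)
    have h2 : u ^ s.gcd ∈ H := ih fun l hl => hs l (Multiset.mem_cons_of_mem hl)
    exact pow_gcd_mem H u h1 h2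

theorem centgam {F : Type u} [Field F] (n : ℕ) (g : Matrix.GeneralLinearGroup (Fin n) F)
    (μ : Multiset (F[X] × ℕ))
    (hcent : ∀ x ∈ μ, ∀ a : F, a ≠ 0 → ∃ c : Matrix.GeneralLinearGroup (Fin n) F,
      c * g = g * c ∧ (c : Matrix (Fin n) (Fin n) F).det = a ^ x.2)
    (a : F) (ha : a ≠ 0) :
    ∃ c : Matrix.GeneralLinearGroup (Fin n) F, c * g = g * c ∧
      (c : Matrix (Fin n) (Fin n) F).det = a ^ expGcd μ := by
  classical
  let H : Subgroup Fˣ :=
    (Subgroup.centralizer ({g} : Set (Matrix.GeneralLinearGroup (Fin n) F))).map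
      Matrix.GeneralLinearGroup.det
  set u : Fˣ := Units.mk0 a ha with hu
  have hmem : ∀ k ∈ μ.map Prod.snd, u ^ k ∈ H := by
    intro k hk
    obtain ⟨x, hx, rfl⟩ := Multiset.mem_map.mp hk
    obtain ⟨c, hcg, hdet⟩ := hcent x hx a ha
    refine ⟨c, ?_, ?_⟩
    · rw [SetLike.mem_coe, Subgroup.mem_centralizer_iff]
      intro h hh
      rw [Set.mem_singleton_iff] at hh
      rw [hh]
      exact hcg.symm
    · apply Units.ext
      rw [Matrix.GeneralLinearGroup.val_det_apply, hdet, Units.val_pow_eq_pow_val, hu,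
        Units.val_mk0]
  have hfin := pow_multiset_gcd_mem H u (μ.map Prod.snd) hmem
  obtain ⟨c, hc, hdet⟩ := hfin
  rw [SetLike.mem_coe, Subgroup.mem_centralizer_iff] at hc
  refine ⟨c, (hc g (Set.mem_singleton g)).symm, ?_⟩
  have h1 := congrArg Units.val hdet
  rw [Matrix.GeneralLinearGroup.val_det_apply, Units.val_pow_eq_pow_val, hu, Units.val_mk0] at h1
  exact h1

end Cfsg.Agent.Lib.Helper64_S2479_CENTGAM
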