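/-
S2479 package FIBER (architect helper40): the `GL`-class of `x₀ ∈ SL` meets at most
`gcd (q - 1, γ)` classes of `SL`.
-/
import Mathlib
import Cfsg.Agent.Lib.Helper40_GLClassDefs
import Cfsg.Agent.Lib.Helper40_SLClassDefs

set_option autoImplicit false

namespace Cfsg.Agent.Lib.Helper79_S2479_FIBER

open Polynomial DirectSum Cfsg.Agent.Lib.Helper40_GLClassDefs Cfsg.Agent.Lib.Helper40_SLClassDefs

universe u v

/-- abstract form: `ι : S →* G` injective with image the kernel of `δ : G →* A`. -/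
theorem fiber_abs {S G A : Type*} [Group S] [Group G] [CommGroup A] (ι : S →* G)
    (hι : Function.Injective ι) (δ : G →* A) (hker : ∀ g : G, δ g = 1 → ∃ s : S, ι s = g)
    (hδι : ∀ s : S, δ (ι s) = 1)
    (x₀ : S) (R : Finset A) (hD : ∀ r ∈ R, ∃ D : G, δ D = r)
    (hR : ∀ a : A, ∃ r ∈ R, ∃ c : G, c * ι x₀ = ι x₀ * c ∧ a = r * δ c) :
    ∃ K : Finset (ConjClasses S), K.card ≤ R.card ∧
      ∀ x : S, IsConj (ι x) (ι x₀) → ConjClasses.mk x ∈ K := by
  classical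
  have hy : ∀ r : A, ∃ y : S, r ∈ R → ∃ D : G, δ D = r ∧ ι y = D * ι x₀ * D⁻¹ := by
    intro r
    by_cases hr : r ∈ R
    · obtain ⟨D, hDr⟩ := hD r hr
      have h1 : δ (D * ι x₀ * D⁻¹) = 1 := by
        rw [map_mul, map_mul, map_inv, hδι, mul_one, mul_inv_cancel]
      obtain ⟨y, hy⟩ := hker _ h1
      exact ⟨y, fun _ => ⟨D, hDr, hy⟩⟩
    · exact ⟨1, fun h => absurd h hr⟩
  choose y hy using hy
  refine ⟨R.image (fun r => ConjClasses.mk (y r)), Finset.card_image_le, ?_⟩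
  intro x hx
  obtain ⟨g, hg⟩ := isConj_iff.mp hx
  obtain ⟨r, hr, c, hc, ha⟩ := hR (δ g⁻¹)
  obtain ⟨D, hDr, hyD⟩ := hy r hr
  have h1 : δ (g⁻¹ * c⁻¹ * D⁻¹) = 1 := by
    rw [map_mul, map_mul, ha, map_inv, map_inv, hDr]
    rw [mul_assoc r, mul_inv_cancel, mul_one, mul_inv_cancel]
  obtain ⟨s, hs⟩ := hker _ h1
  rw [Finset.mem_image]
  refine ⟨r, hr, ?_⟩
  rw [ConjClasses.mk_eq_mk_iff_isConj, isConj_iff]
  refine ⟨s, hι ?_⟩
  rw [map_mul, map_mul, map_inv, hs, hyD]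
  have hc' : c⁻¹ * ι x₀ * c = ι x₀ := by
    rw [mul_assoc, ← hc, ← mul_assoc, inv_mul_cancel, one_mul]
  have hx' : ι x = g⁻¹ * ι x₀ * g := by
    rw [← hg]; group
  rw [hx']
  calc g⁻¹ * c⁻¹ * D⁻¹ * (D * ι x₀ * D⁻¹) * (g⁻¹ * c⁻¹ * D⁻¹)⁻¹
      = g⁻¹ * (c⁻¹ * ι x₀ * c) * g := by group
    _ = g⁻¹ * ι x₀ * g := by rw [hc']

theorem fiber {F : Type u} [Field F] [Fintype F] (n : ℕ) (hn : 1 ≤ n)
    (x₀ : Matrix.SpecialLinearGroup (Fin n) F) (γ : ℕ)
    (hcent : ∀ a : F, a ≠ 0 → ∃ c : Matrix.GeneralLinearGroup (Fin n) F,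
      c * Matrix.SpecialLinearGroup.toGL x₀ = Matrix.SpecialLinearGroup.toGL x₀ * c ∧
      (c : Matrix (Fin n) (Fin n) F).det = a ^ γ)
    (hcyc : ∃ R : Finset F, R.card ≤ Nat.gcd (Fintype.card F - 1) γ ∧ (∀ r ∈ R, r ≠ 0) ∧
      ∀ a : F, a ≠ 0 → ∃ r ∈ R, ∃ b : F, b ≠ 0 ∧ a = r * b ^ γ) :
    ∃ K : Finset (ConjClasses (Matrix.SpecialLinearGroup (Fin n) F)),
      K.card ≤ Nat.gcd (Fintype.card F - 1) γ ∧
      ∀ x : Matrix.SpecialLinearGroup (Fin n) F,
        IsConj (Matrix.SpecialLinearGroup.toGL x) (Matrix.SpecialLinearGroup.toGL x₀) →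
          ConjClasses.mk x ∈ K := by
  classical
  obtain ⟨R, hRc, hR0, hRa⟩ := hcyc
  have hne : Nonempty (Fin n) := ⟨⟨0, hn⟩⟩
  -- the representatives as units
  let R' : Finset Fˣ := Finset.univ.filter (fun u : Fˣ => (u : F) ∈ R)
  have hR'c : R'.card ≤ R.card := by
    apply Finset.card_le_card_of_injOn (fun u : Fˣ => (u : F))
    · intro u hu
      exact (Finset.mem_filter.mp hu).2
    · intro u _ v _ huv
      exact Units.ext huv
  obtain ⟨K, hK, hKx⟩ := fiber_abs (Matrix.SpecialLinearGroup.toGL (n := Fin n) (R := F))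
    Matrix.SpecialLinearGroup.toGL_injective Matrix.GeneralLinearGroup.det
    (by
      intro g hg
      have hdet : (g : Matrix (Fin n) (Fin n) F).det = 1 := by
        have := congrArg Units.val hg
        simpa using this
      refine ⟨⟨(g : Matrix (Fin n) (Fin n) F), hdet⟩, ?_⟩
      apply Units.ext
      rfl)
    (by
      intro s
      apply Units.ext
      simp)
    x₀ R'
    (by
      intro r _
      exact Matrix.GeneralLinearGroup.det_surjective r)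
    (by
      intro a
      obtain ⟨r, hr, b, hb, hab⟩ := hRa (a : F) a.ne_zero
      obtain ⟨c, hc, hcd⟩ := hcent b hb
      refine ⟨Units.mk0 r (hR0 r hr), ?_, c, hc, ?_⟩
      · simp [R', hr]
      · apply Units.ext
        simp [hab, hcd])
  exact ⟨K, (hK.trans hR'c).trans hRc, hKx⟩

end Cfsg.Agent.Lib.Helper79_S2479_FIBER
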