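import Mathlib
import Cfsg.Agent.Lib.Helper40_GLClassDefs
import Cfsg.Agent.Lib.Helper40_SLClassDefs
import Cfsg.Agent.Lib.Helper58_S2478_ENCODE

set_option autoImplicit false

/-!
# S2479 (class number of `SL_n(q)`, architect helper40), package S2479-GAMENC:
`gam q n (deg ∘ enc n μ) = gcd (q - 1, expGcd μ)` for a good multiset `μ`.
-/

namespace Cfsg.Agent.Lib.Helper82_S2479_GAMENC

open Polynomial DirectSum Cfsg.Agent.Lib.Helper40_GLClassDefs Cfsg.Agent.Lib.Helper40_SLClassDefs
open Cfsg.Agent.Lib.Helper58_S2478_ENCODE (enc part)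

universe u v

/-- the degree of `enc n μ j` is nonzero iff some member of `μ` has exponent `j + 1` -/
theorem natDegree_enc_ne_zero_iff {F : Type u} [Field F] (n : ℕ) (μ : Multiset (F[X] × ℕ))
    (h : Good n μ) (j : Fin n) :
    (enc n μ j).natDegree ≠ 0 ↔ ∃ x ∈ μ, x.2 = j.val + 1 := by
  have hmonic : ∀ f ∈ (part n μ j).map Prod.fst, Monic f := by
    intro f hf
    rw [Multiset.mem_map] at hf
    obtain ⟨x, hx, rfl⟩ := hf
    rw [Cfsg.Agent.Lib.Helper58_S2478_ENCODE.mem_part] at hx
    exact (h.1 x hx.1).2.1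
  have hdeg : (enc n μ j).natDegree = (((part n μ j).map Prod.fst).map natDegree).sum := by
    unfold enc
    exact natDegree_multiset_prod_of_monic _ hmonic
  constructor
  · intro hne
    by_contra hcon
    push Not at hcon
    apply hne
    have hpart : part n μ j = 0 := by
      rw [Multiset.eq_zero_iff_forall_notMem]
      intro x hx
      rw [Cfsg.Agent.Lib.Helper58_S2478_ENCODE.mem_part] at hx
      exact hcon x hx.1 hx.2
    rw [hdeg, hpart]
    simp
  · rintro ⟨x, hx, hxj⟩
    have hxp : x ∈ part n μ j := by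
      rw [Cfsg.Agent.Lib.Helper58_S2478_ENCODE.mem_part]
      exact ⟨hx, hxj⟩
    have h1 : 1 ≤ x.1.natDegree := (h.1 x hx).1.natDegree_pos
    have h2 : x.1.natDegree ≤ (((part n μ j).map Prod.fst).map natDegree).sum := by
      apply Multiset.le_sum_of_mem
      rw [Multiset.map_map]
      exact Multiset.mem_map_of_mem (natDegree ∘ Prod.fst) hxp
    rw [hdeg]
    omega

theorem gam_enc {F : Type u} [Field F] (q n : ℕ) (μ : Multiset (F[X] × ℕ)) (h : Good n μ) :
    gam q n (fun j => (enc n μ j).natDegree) = Nat.gcd (q - 1) (expGcd μ) := by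
  unfold gam expGcd
  congr 1
  apply Nat.dvd_antisymm
  · rw [Multiset.dvd_gcd]
    intro e he
    rw [Multiset.mem_map] at he
    obtain ⟨x, hx, rfl⟩ := he
    obtain ⟨h1, hn⟩ := Cfsg.Agent.Lib.Helper58_S2478_ENCODE.good_bounds n μ h x hx
    have hj : x.2 - 1 < n := by omega
    have hmem : (⟨x.2 - 1, hj⟩ : Fin n) ∈
        Finset.univ.filter (fun j : Fin n => (fun j => (enc n μ j).natDegree) j ≠ 0) := by
      rw [Finset.mem_filter]
      refine ⟨Finset.mem_univ _, ?_⟩
      show (enc n μ ⟨x.2 - 1, hj⟩).natDegree ≠ 0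
      rw [natDegree_enc_ne_zero_iff n μ h]
      refine ⟨x, hx, ?_⟩
      show x.2 = x.2 - 1 + 1
      omega
    have hd := Finset.gcd_dvd (f := fun j : Fin n => j.val + 1) hmem
    have he : ((⟨x.2 - 1, hj⟩ : Fin n).val + 1) = x.2 := by
      show x.2 - 1 + 1 = x.2
      omega
    simp only [he] at hd
    exact hd
  · apply Finset.dvd_gcd
    intro j hj
    rw [Finset.mem_filter] at hj
    have hj2 : (enc n μ j).natDegree ≠ 0 := hj.2
    rw [natDegree_enc_ne_zero_iff n μ h] at hj2
    obtain ⟨x, hx, hxj⟩ := hj2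
    rw [← hxj]
    exact Multiset.gcd_dvd (Multiset.mem_map_of_mem Prod.snd hx)

end Cfsg.Agent.Lib.Helper82_S2479_GAMENC
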