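import Mathlib
import Cfsg.Agent.Lib.Helper40_GLClassDefs
import Cfsg.Agent.Lib.Helper40_SLClassDefs

/-!
# S2479 package NUMSMALL (architect helper40): explicit bounds for `SLsum q 2` and `SLsum q 3`.
-/

set_option autoImplicit false

namespace Cfsg.Agent.Lib.Helper91_S2479_NUMSMALL

open Polynomial DirectSum Cfsg.Agent.Lib.Helper40_GLClassDefs Cfsg.Agent.Lib.Helper40_SLClassDefs

universe u v

theorem Dn_two : Dn 2 = {![2, 0], ![0, 1]} := by decide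

theorem Dn_three : Dn 3 = {![3, 0, 0], ![1, 1, 0], ![0, 0, 1]} := by decide

theorem Nq_zero (q : ℕ) : Nq q 0 = 1 := by simp [Nq]
theorem Nq_one (q : ℕ) : Nq q 1 = q - 1 := by simp [Nq]
theorem Nq_two (q : ℕ) : Nq q 2 = (q - 1) * q := by simp [Nq]
theorem Nq_three (q : ℕ) : Nq q 3 = (q - 1) * q ^ 2 := by simp [Nq]

theorem SLsum_two (q : ℕ) :
    SLsum q 2 = (q - 1) * q + (q - 1) * Nat.gcd (q - 1) 2 ^ 2 := by
  have hne : (![2, 0] : Fin 2 → ℕ) ≠ ![0, 1] := by decide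
  have f1 : (Finset.univ.filter (fun j : Fin 2 => (![2, 0] : Fin 2 → ℕ) j ≠ 0)) = {0} := by decide
  have f2 : (Finset.univ.filter (fun j : Fin 2 => (![0, 1] : Fin 2 → ℕ) j ≠ 0)) = {1} := by decide
  rw [SLsum, Dn_two, Finset.sum_pair hne]
  simp only [Wt, gam, f1, f2, Fin.prod_univ_two, Finset.gcd_singleton]
  simp [Nq_zero, Nq_one, Nq_two]

theorem SLsum_three (q : ℕ) :
    SLsum q 3 = (q - 1) * q ^ 2 + (q - 1) * (q - 1) + (q - 1) * Nat.gcd (q - 1) 3 ^ 2 := by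
  have hne1 : (![3, 0, 0] : Fin 3 → ℕ) ∉ ({![1, 1, 0], ![0, 0, 1]} : Finset (Fin 3 → ℕ)) := by
    decide
  have hne2 : (![1, 1, 0] : Fin 3 → ℕ) ≠ ![0, 0, 1] := by decide
  have f1 : (Finset.univ.filter (fun j : Fin 3 => (![3, 0, 0] : Fin 3 → ℕ) j ≠ 0)) = {0} := by
    decide
  have f2 : (Finset.univ.filter (fun j : Fin 3 => (![1, 1, 0] : Fin 3 → ℕ) j ≠ 0)) = {0, 1} := by
    decide
  have f3 : (Finset.univ.filter (fun j : Fin 3 => (![0, 0, 1] : Fin 3 → ℕ) j ≠ 0)) = {2} := by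
    decide
  rw [SLsum, Dn_three, Finset.sum_insert hne1, Finset.sum_pair hne2]
  simp only [Wt, gam, f1, f2, f3, Fin.prod_univ_three, Finset.gcd_singleton, Finset.gcd_insert]
  simp [Nq_zero, Nq_one, Nq_three, add_assoc]

theorem num2 (q : ℕ) (hq : 2 ≤ q) : 2 * SLsum q 2 ≤ (q - 1) * (5 * q) := by
  rw [SLsum_two]
  have hg : Nat.gcd (q - 1) 2 ∣ 2 := Nat.gcd_dvd_right _ _
  have hg' : Nat.gcd (q - 1) 2 ∣ q - 1 := Nat.gcd_dvd_left _ _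
  have hle : Nat.gcd (q - 1) 2 ≤ 2 := Nat.le_of_dvd (by norm_num) hg
  have key : 2 * (q + Nat.gcd (q - 1) 2 ^ 2) ≤ 5 * q := by
    interval_cases hgv : Nat.gcd (q - 1) 2
    · omega
    · omega
    · have : 2 ≤ q - 1 := Nat.le_of_dvd (by omega) hg'
      omega
  calc 2 * ((q - 1) * q + (q - 1) * Nat.gcd (q - 1) 2 ^ 2)
      = (q - 1) * (2 * (q + Nat.gcd (q - 1) 2 ^ 2)) := by ring
    _ ≤ (q - 1) * (5 * q) := Nat.mul_le_mul_left _ key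

theorem num3 (q : ℕ) (hq : 2 ≤ q) : SLsum q 3 ≤ (q - 1) * (q ^ 2 + 3 * q) := by
  rw [SLsum_three]
  have hg : Nat.gcd (q - 1) 3 ∣ 3 := Nat.gcd_dvd_right _ _
  have hg' : Nat.gcd (q - 1) 3 ∣ q - 1 := Nat.gcd_dvd_left _ _
  have hle : Nat.gcd (q - 1) 3 ≤ 3 := Nat.le_of_dvd (by norm_num) hg
  have key : q ^ 2 + (q - 1) + Nat.gcd (q - 1) 3 ^ 2 ≤ q ^ 2 + 3 * q := by
    interval_cases hgv : Nat.gcd (q - 1) 3
    · omega
    · omega
    · omega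
    · have : 3 ≤ q - 1 := Nat.le_of_dvd (by omega) hg'
      omega
  calc (q - 1) * q ^ 2 + (q - 1) * (q - 1) + (q - 1) * Nat.gcd (q - 1) 3 ^ 2
      = (q - 1) * (q ^ 2 + (q - 1) + Nat.gcd (q - 1) 3 ^ 2) := by ring
    _ ≤ (q - 1) * (q ^ 2 + 3 * q) := Nat.mul_le_mul_left _ key

end Cfsg.Agent.Lib.Helper91_S2479_NUMSMALL
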