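import Mathlib
import Cfsg.Agent.Lib.Helper40_GLClassDefs
import Cfsg.Agent.Lib.Helper40_SLClassDefs

set_option autoImplicit false

/-!
# S2479 market (helper40), package CENT

A unit `u` of `F[X]/(p^e)` acting on one summand of the `F[X]`-module of `g` gives an element of the
centraliser of `g` in `GL_n(F)` with determinant `a^e`.
-/

open Polynomial DirectSum Cfsg.Agent.Lib.Helper40_GLClassDefs Cfsg.Agent.Lib.Helper40_SLClassDefs

universe u v

namespace Cfsg.Agent.Lib.Helper93_S2479_CENT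

/-- S2479-CENT -/
theorem cent {F : Type u} [Field F] (n : ℕ) (g : Matrix.GeneralLinearGroup (Fin n) F)
    (μ : Multiset (F[X] × ℕ)) (hμ : ∀ x ∈ μ, x.1.Monic)
    (hrep : Rep (Matrix.toLin' (g : Matrix (Fin n) (Fin n) F)) μ)
    (hdetsum : ∀ (ι : Type u) [Fintype ι] [DecidableEq ι] (p : ι → F[X]) (e : ι → ℕ)
      (_ : ∀ i, (p i).Monic)
      (f : ∀ i, (F[X] ⧸ Submodule.span F[X] {p i ^ e i}) →ₗ[F]
        (F[X] ⧸ Submodule.span F[X] {p i ^ e i})),
      LinearMap.det (M := ⨁ i, F[X] ⧸ Submodule.span F[X] {p i ^ e i})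
        (DFinsupp.mapRange.linearMap f) = ∏ i, LinearMap.det (f i))
    (x : F[X] × ℕ) (hx : x ∈ μ) (a : F) (ha : a ≠ 0)
    (hnorm : ∃ u : F[X], LinearMap.det
      (DistribSMul.toLinearMap F (F[X] ⧸ Submodule.span F[X] {x.1 ^ x.2}) u) = a ^ x.2) :
    ∃ c : Matrix.GeneralLinearGroup (Fin n) F, c * g = g * c ∧
      (c : Matrix (Fin n) (Fin n) F).det = a ^ x.2 := by
  classical
  obtain ⟨ι, _, p, e, hμe, ⟨φ⟩⟩ := hrep
  set T := Matrix.toLin' (g : Matrix (Fin n) (Fin n) F) with hT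
  have hx' : x ∈ (Finset.univ : Finset ι).val.map (fun i => (p i, e i)) := hμe ▸ hx
  obtain ⟨i₀, -, hi₀⟩ := Multiset.mem_map.mp hx'
  subst hi₀
  obtain ⟨u, hu⟩ := hnorm
  simp only at hu
  have hmon : ∀ i, (p i).Monic := fun i =>
    hμ (p i, e i) (by rw [hμe]; exact Multiset.mem_map.mpr ⟨i, Finset.mem_univ_val i, rfl⟩)
  let w : ι → F[X] := Function.update (fun _ => 1) i₀ u
  let Θ : (⨁ i, F[X] ⧸ Submodule.span F[X] {p i ^ e i}) →ₗ[F[X]]
      (⨁ i, F[X] ⧸ Submodule.span F[X] {p i ^ e i}) :=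
    DFinsupp.mapRange.linearMap (fun i => w i •
      (LinearMap.id : (F[X] ⧸ Submodule.span F[X] {p i ^ e i}) →ₗ[F[X]] _))
  let ΘF : (⨁ i, F[X] ⧸ Submodule.span F[X] {p i ^ e i}) →ₗ[F]
      (⨁ i, F[X] ⧸ Submodule.span F[X] {p i ^ e i}) :=
    DFinsupp.mapRange.linearMap (fun i =>
      DistribSMul.toLinearMap F (F[X] ⧸ Submodule.span F[X] {p i ^ e i}) (w i))
  have hΘ : ∀ y, Θ y = ΘF y := by
    intro y
    ext i
    rfl
  have hdetΘ : LinearMap.det (M := ⨁ i, F[X] ⧸ Submodule.span F[X] {p i ^ e i}) ΘF = a ^ e i₀ := by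
    rw [hdetsum ι p e hmon]
    rw [Finset.prod_eq_single i₀]
    · simp only [w, Function.update_self]
      exact hu
    · intro i _ hi
      simp only [w, Function.update_of_ne hi]
      have : DistribSMul.toLinearMap F (F[X] ⧸ Submodule.span F[X] {p i ^ e i}) (1 : F[X])
          = LinearMap.id :=
        LinearMap.ext fun y => one_smul F[X] y
      rw [this, LinearMap.det_id]
    · intro h
      exact absurd (Finset.mem_univ _) h
  -- the endomorphism of `AEval' T`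
  let C : Module.AEval' T →ₗ[F[X]] Module.AEval' T :=
    (φ.symm : _ →ₗ[F[X]] _) ∘ₗ Θ ∘ₗ (φ : _ →ₗ[F[X]] _)
  let Ψ : (Fin n → F) →ₗ[F] (Fin n → F) :=
    ((Module.AEval'.of T).symm : _ →ₗ[F] _) ∘ₗ (C.restrictScalars F) ∘ₗ
      ((Module.AEval'.of T) : _ →ₗ[F] _)
  have hΨT : ∀ v, Ψ (T v) = T (Ψ v) := by
    intro v
    show (Module.AEval'.of T).symm (C (Module.AEval'.of T (T v)))
      = T ((Module.AEval'.of T).symm (C (Module.AEval'.of T v)))
    rw [← Module.AEval'.X_smul_of, map_smul, Module.AEval'.of_symm_X_smul]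
  have hdetΨ : LinearMap.det Ψ = a ^ e i₀ := by
    let E : (⨁ i, F[X] ⧸ Submodule.span F[X] {p i ^ e i}) ≃ₗ[F] (Fin n → F) :=
      ((Module.AEval'.of T).trans (φ.restrictScalars F)).symm
    have hΨE : Ψ = (E : _ →ₗ[F] _) ∘ₗ ΘF ∘ₗ (E.symm : _ →ₗ[F] _) := by
      apply LinearMap.ext
      intro v
      show (Module.AEval'.of T).symm (φ.symm (Θ (φ (Module.AEval'.of T v)))) =
        (Module.AEval'.of T).symm (φ.symm (ΘF (φ (Module.AEval'.of T v))))
      rw [hΘ]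
    rw [hΨE]
    rw [← hdetΘ]
    exact LinearMap.det_conj (M := ⨁ i, F[X] ⧸ Submodule.span F[X] {p i ^ e i}) ΘF E
  -- matrices
  set P : Matrix (Fin n) (Fin n) F := LinearMap.toMatrix' Ψ with hP
  have hdetP : P.det = a ^ e i₀ := by
    rw [hP, LinearMap.det_toMatrix', hdetΨ]
  have hdet0 : P.det ≠ 0 := by
    rw [hdetP]
    exact pow_ne_zero _ ha
  have hPg : P * (g : Matrix (Fin n) (Fin n) F) = (g : Matrix (Fin n) (Fin n) F) * P := by
    have h1 : Ψ.comp T = T.comp Ψ := LinearMap.ext fun v => hΨT v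
    have h2 := congrArg LinearMap.toMatrix' h1
    rw [LinearMap.toMatrix'_comp, LinearMap.toMatrix'_comp, hT, LinearMap.toMatrix'_toLin'] at h2
    exact h2
  refine ⟨Matrix.GeneralLinearGroup.mkOfDetNeZero P hdet0, ?_, ?_⟩
  · apply Units.ext
    rw [Units.val_mul, Units.val_mul]
    exact hPg
  · exact hdetP

end Cfsg.Agent.Lib.Helper93_S2479_CENT
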