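import Mathlib
import Cfsg.Agent.Lib.Helper40_GLClassDefs
import Cfsg.Agent.Lib.Helper40_SLClassDefs

set_option autoImplicit false

/-!
# S2479 market (helper40), package NORMBLOCK

For `p` irreducible over a finite field `F` and `a ≠ 0` there is a polynomial `u` such that
multiplication by `u` on `F[X]/(p^e)` has determinant `a^e`.

`Dq h u` is the determinant of multiplication by `u` on `F[X]/(h)`; it is multiplicative in `h`
(`Dq_mul`, through the exact sequence `0 → R/(g) → R/(f g) → R/(f) → 0` and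
`LinearMap.det_eq_det_mul_det`), `Dq p u` is the norm of `u mod p`, and the norm of a finite field
is onto.
-/

open Polynomial DirectSum Cfsg.Agent.Lib.Helper40_GLClassDefs Cfsg.Agent.Lib.Helper40_SLClassDefs

universe u v

namespace Cfsg.Agent.Lib.Helper93_S2479_NORMBLOCK

/-- determinants along a short exact sequence -/
theorem det_of_exact {F : Type*} [Field F] {A V C : Type*} [AddCommGroup A] [Module F A]
    [AddCommGroup V] [Module F V] [AddCommGroup C] [Module F C]
    [Module.Finite F A] [Module.Finite F V] [Module.Finite F C]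
    (i : A →ₗ[F] V) (π : V →ₗ[F] C) (hi : Function.Injective i) (hπ : Function.Surjective π)
    (hex : LinearMap.range i = LinearMap.ker π)
    (a : A →ₗ[F] A) (v : V →ₗ[F] V) (c : C →ₗ[F] C)
    (h1 : ∀ x, i (a x) = v (i x)) (h2 : ∀ x, π (v x) = c (π x)) :
    LinearMap.det v = LinearMap.det a * LinearMap.det c := by
  set W : Submodule F V := LinearMap.range i with hW
  have he : W ≤ W.comap v := by
    rintro x ⟨y, rfl⟩
    exact ⟨a y, h1 y⟩
  rw [LinearMap.det_eq_det_mul_det W v he]
  congr 1
  · -- restriction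
    let e₁ : A ≃ₗ[F] W := LinearEquiv.ofInjective i hi
    have : v.restrict he = (e₁ : A →ₗ[F] W) ∘ₗ a ∘ₗ (e₁.symm : W →ₗ[F] A) := by
      apply LinearMap.ext
      intro w
      obtain ⟨y, rfl⟩ := e₁.surjective w
      apply Subtype.ext
      simp only [LinearMap.coe_restrict_apply, LinearMap.coe_comp, LinearEquiv.coe_coe,
        Function.comp_apply, LinearEquiv.symm_apply_apply]
      simp only [e₁]
      exact (h1 y).symm
    rw [this, LinearMap.det_conj]
  · -- quotient
    let e₂ : (V ⧸ W) ≃ₗ[F] C :=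
      (Submodule.quotEquivOfEq W (LinearMap.ker π) hex).trans (π.quotKerEquivOfSurjective hπ)
    have he₂ : ∀ x : V, e₂ (Submodule.Quotient.mk x) = π x := by
      intro x
      simp [e₂]
    have : W.mapQ W v he = (e₂.symm : C →ₗ[F] V ⧸ W) ∘ₗ c ∘ₗ (e₂ : (V ⧸ W) →ₗ[F] C) := by
      apply LinearMap.ext
      intro w
      obtain ⟨x, rfl⟩ := Submodule.Quotient.mk_surjective W w
      apply e₂.injective
      simp only [LinearMap.coe_comp, LinearEquiv.coe_coe, Function.comp_apply,
        LinearEquiv.apply_symm_apply, Submodule.mapQ_apply, he₂]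
      exact h2 x
    rw [this]
    exact LinearMap.det_conj c e₂.symm

variable {F : Type u} [Field F]

theorem finQ (h : F[X]) (hh : h ≠ 0) : Module.Finite F (F[X] ⧸ Submodule.span F[X] {h}) := by
  have := (AdjoinRoot.powerBasis hh).finite
  exact this

/-- the injection `R/(g) → R/(f g)`, `x ↦ f x` -/
noncomputable def iMap (f g : F[X]) :
    (F[X] ⧸ Submodule.span F[X] {g}) →ₗ[F[X]] (F[X] ⧸ Submodule.span F[X] {f * g}) :=
  Submodule.mapQ _ _ (LinearMap.mulLeft F[X] f) (by
    intro x hx
    rw [Submodule.mem_comap, LinearMap.mulLeft_apply]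
    obtain ⟨c, rfl⟩ := Submodule.mem_span_singleton.mp hx
    exact Submodule.mem_span_singleton.mpr ⟨c, by simp only [smul_eq_mul]; ring⟩)

theorem iMap_mk (f g x : F[X]) :
    iMap f g (Submodule.Quotient.mk x) = Submodule.Quotient.mk (f * x) := rfl

/-- the projection `R/(f g) → R/(f)` -/
noncomputable def pMap (f g : F[X]) :
    (F[X] ⧸ Submodule.span F[X] {f * g}) →ₗ[F[X]] (F[X] ⧸ Submodule.span F[X] {f}) :=
  Submodule.mapQ _ _ LinearMap.id (by
    intro x hx
    rw [Submodule.mem_comap, LinearMap.id_apply]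
    obtain ⟨c, rfl⟩ := Submodule.mem_span_singleton.mp hx
    exact Submodule.mem_span_singleton.mpr ⟨c * g, by simp only [smul_eq_mul]; ring⟩)

theorem pMap_mk (f g x : F[X]) :
    pMap f g (Submodule.Quotient.mk x) = Submodule.Quotient.mk x := rfl

theorem iMap_injective (f g : F[X]) (hf : f ≠ 0) : Function.Injective (iMap f g) := by
  rw [← LinearMap.ker_eq_bot, LinearMap.ker_eq_bot']
  intro y hy
  obtain ⟨x, rfl⟩ := Submodule.Quotient.mk_surjective _ y
  rw [iMap_mk, Submodule.Quotient.mk_eq_zero, Submodule.mem_span_singleton] at hy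
  obtain ⟨c, hc⟩ := hy
  rw [Submodule.Quotient.mk_eq_zero, Submodule.mem_span_singleton]
  refine ⟨c, ?_⟩
  apply mul_left_cancel₀ hf
  rw [← hc]
  simp only [smul_eq_mul]; ring

theorem pMap_surjective (f g : F[X]) : Function.Surjective (pMap f g) := by
  intro y
  obtain ⟨x, rfl⟩ := Submodule.Quotient.mk_surjective _ y
  exact ⟨Submodule.Quotient.mk x, rfl⟩

theorem range_iMap (f g : F[X]) : LinearMap.range (iMap f g) = LinearMap.ker (pMap f g) := by
  ext y
  obtain ⟨x, rfl⟩ := Submodule.Quotient.mk_surjective _ y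
  rw [LinearMap.mem_ker, pMap_mk, Submodule.Quotient.mk_eq_zero, Submodule.mem_span_singleton]
  constructor
  · rintro ⟨z, hz⟩
    obtain ⟨w, rfl⟩ := Submodule.Quotient.mk_surjective _ z
    rw [iMap_mk, Submodule.Quotient.eq, Submodule.mem_span_singleton] at hz
    obtain ⟨c, hc⟩ := hz
    -- f*w - x = c * (f*g)
    refine ⟨w - c * g, ?_⟩
    have : x = f * w - c • (f * g) := by rw [hc]; ring
    rw [this]
    simp only [smul_eq_mul]; ring
  · rintro ⟨c, rfl⟩
    refine ⟨Submodule.Quotient.mk c, ?_⟩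
    rw [iMap_mk]
    simp only [smul_eq_mul]
    rw [mul_comm f c]


/-- the determinant of multiplication by `u` on `R/(h)` -/
noncomputable def Dq (h u : F[X]) : F :=
  LinearMap.det (DistribSMul.toLinearMap F (F[X] ⧸ Submodule.span F[X] {h}) u)

theorem Dq_mul (f g u : F[X]) (hf : f ≠ 0) (hg : g ≠ 0) : Dq (f * g) u = Dq g u * Dq f u := by
  have := finQ f hf
  have := finQ g hg
  have := finQ (f * g) (mul_ne_zero hf hg)
  unfold Dq
  refine det_of_exact ((iMap f g).restrictScalars F) ((pMap f g).restrictScalars F)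
    (iMap_injective f g hf) (pMap_surjective f g) ?_ _ _ _ ?_ ?_
  · have := range_iMap f g
    ext y
    have h := SetLike.ext_iff.mp this y
    simpa using h
  · intro x
    simp only [LinearMap.restrictScalars_apply, DistribSMul.toLinearMap_apply, map_smul]
  · intro x
    simp only [LinearMap.restrictScalars_apply, DistribSMul.toLinearMap_apply, map_smul]

theorem Dq_one (u : F[X]) : Dq 1 u = 1 := by
  unfold Dq
  have : Subsingleton (F[X] ⧸ Submodule.span F[X] {(1 : F[X])}) := by
    rw [Submodule.Quotient.subsingleton_iff]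
    exact Ideal.span_singleton_one
  exact LinearMap.det_eq_one_of_subsingleton _

theorem Dq_pow (p u : F[X]) (hp : p ≠ 0) (e : ℕ) : Dq (p ^ e) u = Dq p u ^ e := by
  induction e with
  | zero => rw [pow_zero, pow_zero, Dq_one]
  | succ e ih => rw [pow_succ, Dq_mul _ _ u (pow_ne_zero e hp) hp, ih, pow_succ, mul_comm]

theorem exists_Dq_eq [Fintype F] (p : F[X]) (hp : Irreducible p) (a : F) : ∃ u : F[X], Dq p u = a := by
  have : Fact (Irreducible p) := ⟨hp⟩
  have : Module.Finite F (AdjoinRoot p) := (AdjoinRoot.powerBasis hp.ne_zero).finite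
  have : Finite (AdjoinRoot p) := Module.finite_of_finite F
  obtain ⟨x, hx⟩ := FiniteField.norm_surjective F (AdjoinRoot p) a
  obtain ⟨u, rfl⟩ := AdjoinRoot.mk_surjective x
  refine ⟨u, ?_⟩
  rw [← hx, Algebra.norm_apply]
  unfold Dq
  congr 1


/-- S2479-NORMBLOCK -/
theorem normblock {F : Type u} [Field F] [Fintype F] (p : F[X]) (hp : Irreducible p) (e : ℕ)
    (a : F) (ha : a ≠ 0) :
    ∃ u : F[X], LinearMap.det
      (DistribSMul.toLinearMap F (F[X] ⧸ Submodule.span F[X] {p ^ e}) u) = a ^ e := by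
  obtain ⟨u, hu⟩ := exists_Dq_eq p hp a
  exact ⟨u, by rw [← hu]; exact Dq_pow p u hp.ne_zero e⟩

end Cfsg.Agent.Lib.Helper93_S2479_NORMBLOCK
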