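import Mathlib
import Cfsg.Agent.Lib.Helper40_GLClassDefs
import Cfsg.Agent.Lib.Helper40_SLClassDefs
import Cfsg.Agent.Lib.Helper40_S2478_INEQ

set_option autoImplicit false

/-!
S2479-REINDEX: `SLsum q n ≤ q^n + ∑_{e ∣ gcd(n,q-1), e ≥ 2} (e^2-1) q^(n/e)`.
-/

namespace Cfsg.Agent.Lib.Helper9_S2479_REINDEX

open Polynomial DirectSum Cfsg.Agent.Lib.Helper40_GLClassDefs Cfsg.Agent.Lib.Helper40_SLClassDefs

/-! ### divisibility properties of `gam` -/

theorem gam_dvd_q (q n : ℕ) (d : Fin n → ℕ) : gam q n d ∣ q - 1 := Nat.gcd_dvd_left _ _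

theorem gam_dvd_succ (q n : ℕ) (d : Fin n → ℕ) (j : Fin n) (hj : d j ≠ 0) :
    gam q n d ∣ j.val + 1 :=
  (Nat.gcd_dvd_right _ _).trans
    (Finset.gcd_dvd (f := fun j : Fin n => j.val + 1) (by simp [hj]))

theorem sum_of_mem_Dn {n : ℕ} {d : Fin n → ℕ} (hd : d ∈ Dn n) :
    ∑ j : Fin n, (j.val + 1) * d j = n := (Finset.mem_filter.mp hd).2

theorem gam_dvd_n {q n : ℕ} {d : Fin n → ℕ} (hd : d ∈ Dn n) : gam q n d ∣ n := by
  have hsum := sum_of_mem_Dn hd
  have h : gam q n d ∣ ∑ j : Fin n, (j.val + 1) * d j := by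
    apply Finset.dvd_sum
    intro j _
    by_cases hj : d j = 0
    · simp [hj]
    · exact Dvd.dvd.mul_right (gam_dvd_succ q n d j hj) _
  rwa [hsum] at h

/-! ### the square bound -/

theorem sq_le (g γ : ℕ) (hγg : γ ∣ g) (hg : 0 < g) :
    γ ^ 2 ≤ 1 + ∑ e ∈ (Nat.divisors g).filter (fun e => 2 ≤ e),
      if e ∣ γ then e ^ 2 - 1 else 0 := by
  have hγ : 0 < γ := Nat.pos_of_dvd_of_pos hγg hg
  by_cases h1 : γ = 1
  · subst h1
    simp
  · have h2 : 2 ≤ γ := by omega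
    have hmem : γ ∈ (Nat.divisors g).filter (fun e => 2 ≤ e) := by
      rw [Finset.mem_filter, Nat.mem_divisors]
      exact ⟨⟨hγg, by omega⟩, h2⟩
    have h := Finset.single_le_sum (f := fun e => if e ∣ γ then e ^ 2 - 1 else 0)
      (fun e _ => Nat.zero_le _) hmem
    simp only [dvd_refl, if_true] at h
    have h3 : 1 ≤ γ ^ 2 := Nat.one_le_pow _ _ hγ
    omega

/-! ### the reindexing -/

/-- the embedding `j' ↦ e (j'+1) - 1` -/
def emb (e m : ℕ) (he : 1 ≤ e) (j' : Fin m) : Fin (e * m) :=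
  ⟨e * (j'.val + 1) - 1, by
    have h1 : e * (j'.val + 1) ≤ e * m := Nat.mul_le_mul_left e (by have := j'.2; omega)
    have h2 : 1 ≤ e * (j'.val + 1) := Nat.mul_pos he (by omega)
    omega⟩

theorem emb_val (e m : ℕ) (he : 1 ≤ e) (j' : Fin m) :
    (emb e m he j').val = e * (j'.val + 1) - 1 := rfl

theorem emb_val_succ (e m : ℕ) (he : 1 ≤ e) (j' : Fin m) :
    (emb e m he j').val + 1 = e * (j'.val + 1) := by
  rw [emb_val]
  have h2 : 1 ≤ e * (j'.val + 1) := Nat.mul_pos he (by omega)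
  omega

theorem emb_injective (e m : ℕ) (he : 1 ≤ e) : Function.Injective (emb e m he) := by
  intro a b hab
  have h := congrArg (fun x : Fin (e * m) => x.val + 1) hab
  simp only [emb_val_succ e m he] at h
  have h3 : a.val + 1 = b.val + 1 := Nat.eq_of_mul_eq_mul_left (by omega) h
  exact Fin.ext (by omega)

/-- indices whose successor is divisible by `e` are in the range of `emb` -/
theorem exists_emb (e m : ℕ) (he : 1 ≤ e) (j : Fin (e * m)) (hj : e ∣ j.val + 1) :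
    ∃ j' : Fin m, emb e m he j' = j := by
  obtain ⟨k, hk⟩ := hj
  have hk1 : 1 ≤ k := by
    rcases Nat.eq_zero_or_pos k with h0 | h0
    · subst h0
      omega
    · exact h0
  have hkm : k ≤ m := by
    have h1 : e * k ≤ e * m := by
      rw [← hk]
      exact j.2
    exact Nat.le_of_mul_le_mul_left h1 (by omega)
  refine ⟨⟨k - 1, by omega⟩, ?_⟩
  apply Fin.ext
  rw [emb_val]
  have : k - 1 + 1 = k := by omega
  simp only [this]
  omega

section inner

variable (q e m : ℕ) (he1 : 1 ≤ e)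

/-- the degree vectors supported on the range of `emb` -/
def Supp (d : Fin (e * m) → ℕ) : Prop := ∀ j, d j ≠ 0 → ∃ j' : Fin m, emb e m he1 j' = j

theorem supp_of_dvd {d : Fin (e * m) → ℕ} (h : e ∣ gam q (e * m) d) :
    Supp e m he1 d := by
  intro j hj
  exact exists_emb e m he1 j (h.trans (gam_dvd_succ q (e * m) d j hj))

theorem eq_zero_of_not_mem {d : Fin (e * m) → ℕ} (hs : Supp e m he1 d) (j : Fin (e * m))
    (hj : j ∉ Finset.univ.map ⟨emb e m he1, emb_injective e m he1⟩) : d j = 0 := by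
  by_contra hne
  obtain ⟨j', hj'⟩ := hs j hne
  apply hj
  rw [Finset.mem_map]
  exact ⟨j', Finset.mem_univ _, hj'⟩

theorem prod_reindex {d : Fin (e * m) → ℕ} (hs : Supp e m he1 d) (f : ℕ → ℕ)
    (hf : f 0 = 1) :
    ∏ j : Fin (e * m), f (d j) = ∏ j' : Fin m, f (d (emb e m he1 j')) := by
  have h1 : ∏ j ∈ Finset.univ.map ⟨emb e m he1, emb_injective e m he1⟩, f (d j) =
      ∏ j' : Fin m, f (d (emb e m he1 j')) := by
    rw [Finset.prod_map]
    rfl
  rw [← h1]
  symm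
  apply Finset.prod_subset (Finset.subset_univ _)
  intro j _ hj
  rw [eq_zero_of_not_mem e m he1 hs j hj, hf]

theorem sum_reindex {d : Fin (e * m) → ℕ} (hs : Supp e m he1 d) :
    ∑ j : Fin (e * m), (j.val + 1) * d j =
      e * ∑ j' : Fin m, (j'.val + 1) * d (emb e m he1 j') := by
  have h1 : ∑ j ∈ Finset.univ.map ⟨emb e m he1, emb_injective e m he1⟩, (j.val + 1) * d j =
      ∑ j' : Fin m, ((emb e m he1 j').val + 1) * d (emb e m he1 j') := by
    rw [Finset.sum_map]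
    rfl
  have h2 : ∑ j : Fin (e * m), (j.val + 1) * d j =
      ∑ j ∈ Finset.univ.map ⟨emb e m he1, emb_injective e m he1⟩, (j.val + 1) * d j := by
    symm
    apply Finset.sum_subset (Finset.subset_univ _)
    intro j _ hj
    rw [eq_zero_of_not_mem e m he1 hs j hj, mul_zero]
  rw [h2, h1, Finset.mul_sum]
  apply Finset.sum_congr rfl
  intro j' _
  rw [emb_val_succ e m he1]
  ring

theorem comp_mem_Dn {d : Fin (e * m) → ℕ} (hd : d ∈ Dn (e * m)) (hs : Supp e m he1 d) :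
    (fun j' => d (emb e m he1 j')) ∈ Dn m := by
  have hsum := sum_of_mem_Dn hd
  rw [sum_reindex e m he1 hs] at hsum
  have hsum' : ∑ j' : Fin m, (j'.val + 1) * d (emb e m he1 j') = m :=
    Nat.eq_of_mul_eq_mul_left (by omega) hsum
  unfold Dn
  rw [Finset.mem_filter, Fintype.mem_piFinset]
  refine ⟨?_, hsum'⟩
  intro j'
  rw [Finset.mem_range]
  have h := Finset.single_le_sum (f := fun j' : Fin m => (j'.val + 1) * d (emb e m he1 j'))
    (fun _ _ => Nat.zero_le _) (Finset.mem_univ j')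
  simp only [hsum'] at h
  have : d (emb e m he1 j') ≤ (j'.val + 1) * d (emb e m he1 j') :=
    Nat.le_mul_of_pos_left _ (by omega)
  omega

include he1 in
theorem inner_le (hq : 1 ≤ q) :
    ∑ d ∈ (Dn (e * m)).filter (fun d => e ∣ gam q (e * m) d), Wt q (e * m) d ≤ q ^ m := by
  have hW : ∀ d ∈ (Dn (e * m)).filter (fun d => e ∣ gam q (e * m) d),
      Wt q (e * m) d = Wt q m (fun j' => d (emb e m he1 j')) := by
    intro d hd
    have hs := supp_of_dvd q e m he1 (Finset.mem_filter.mp hd).2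
    unfold Wt
    exact prod_reindex e m he1 hs (Nq q) (by simp [Nq])
  rw [Finset.sum_congr rfl hW]
  have hinjOn : Set.InjOn (fun (d : Fin (e * m) → ℕ) => (fun j' => d (emb e m he1 j')))
      ((Dn (e * m)).filter (fun d => e ∣ gam q (e * m) d) : Finset (Fin (e * m) → ℕ)) := by
    intro d₁ hd₁ d₂ hd₂ h12
    have hs₁ := supp_of_dvd q e m he1 (Finset.mem_filter.mp (Finset.mem_coe.mp hd₁)).2
    have hs₂ := supp_of_dvd q e m he1 (Finset.mem_filter.mp (Finset.mem_coe.mp hd₂)).2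
    funext j
    by_cases hj : ∃ j' : Fin m, emb e m he1 j' = j
    · obtain ⟨j', rfl⟩ := hj
      exact congrFun h12 j'
    · have h1 : d₁ j = 0 := by
        by_contra hne
        exact hj (hs₁ j hne)
      have h2 : d₂ j = 0 := by
        by_contra hne
        exact hj (hs₂ j hne)
      rw [h1, h2]
  rw [← Finset.sum_image (f := fun d' => Wt q m d') hinjOn]
  have hsub : ((Dn (e * m)).filter (fun d => e ∣ gam q (e * m) d)).image
      (fun (d : Fin (e * m) → ℕ) => (fun j' => d (emb e m he1 j'))) ⊆ Dn m := by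
    intro d' hd'
    rw [Finset.mem_image] at hd'
    obtain ⟨d, hd, rfl⟩ := hd'
    exact comp_mem_Dn e m he1 (Finset.mem_filter.mp hd).1
      (supp_of_dvd q e m he1 (Finset.mem_filter.mp hd).2)
  calc ∑ d' ∈ _, Wt q m d' ≤ ∑ d' ∈ Dn m, Wt q m d' :=
        Finset.sum_le_sum_of_subset hsub
    _ ≤ q ^ m := Cfsg.Agent.Lib.Helper40_S2478_INEQ.ineq q m hq

end inner

theorem inner_le' (q n e : ℕ) (hq : 1 ≤ q) (he : 1 ≤ e) (hen : e ∣ n) :
    ∑ d ∈ (Dn n).filter (fun d => e ∣ gam q n d), Wt q n d ≤ q ^ (n / e) := by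
  obtain ⟨m, rfl⟩ := hen
  rw [Nat.mul_div_cancel_left m (by omega)]
  exact inner_le q e m he hq

/-- **S2479-REINDEX**. -/
theorem reindex (q n : ℕ) (hq : 2 ≤ q) (hn : 1 ≤ n) :
    SLsum q n ≤ q ^ n +
      ∑ e ∈ (Nat.divisors (Nat.gcd n (q - 1))).filter (fun e => 2 ≤ e), (e ^ 2 - 1) * q ^ (n / e) := by
  set g := Nat.gcd n (q - 1) with hg
  have hg0 : 0 < g := Nat.gcd_pos_of_pos_left _ (by omega)
  set S := (Nat.divisors g).filter (fun e => 2 ≤ e) with hS
  unfold SLsum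
  -- step 1: the square bound
  have h1 : ∑ d ∈ Dn n, Wt q n d * gam q n d ^ 2 ≤
      ∑ d ∈ Dn n, Wt q n d * (1 + ∑ e ∈ S, if e ∣ gam q n d then e ^ 2 - 1 else 0) := by
    apply Finset.sum_le_sum
    intro d hd
    apply Nat.mul_le_mul_left
    exact sq_le g (gam q n d) (Nat.dvd_gcd (gam_dvd_n hd) (gam_dvd_q q n d)) hg0
  -- step 2: exchange the sums
  have h2 : ∑ d ∈ Dn n, Wt q n d * (1 + ∑ e ∈ S, if e ∣ gam q n d then e ^ 2 - 1 else 0) =
      ∑ d ∈ Dn n, Wt q n d +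
        ∑ e ∈ S, (e ^ 2 - 1) * ∑ d ∈ (Dn n).filter (fun d => e ∣ gam q n d), Wt q n d := by
    simp only [mul_add, mul_one, Finset.sum_add_distrib, Finset.mul_sum]
    congr 1
    rw [Finset.sum_comm]
    apply Finset.sum_congr rfl
    intro e _
    rw [Finset.sum_filter]
    apply Finset.sum_congr rfl
    intro d _
    split_ifs
    · ring
    · ring
  -- step 3: the bounds
  have h3 : ∑ d ∈ Dn n, Wt q n d ≤ q ^ n :=
    Cfsg.Agent.Lib.Helper40_S2478_INEQ.ineq q n (by omega)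
  have h4 : ∑ e ∈ S, (e ^ 2 - 1) * ∑ d ∈ (Dn n).filter (fun d => e ∣ gam q n d), Wt q n d ≤
      ∑ e ∈ S, (e ^ 2 - 1) * q ^ (n / e) := by
    apply Finset.sum_le_sum
    intro e he
    apply Nat.mul_le_mul_left
    have he' := Finset.mem_filter.mp he
    have hen : e ∣ n := (Nat.dvd_of_mem_divisors he'.1).trans (Nat.gcd_dvd_left _ _)
    exact inner_le' q n e (by omega) (by omega) hen
  calc ∑ d ∈ Dn n, Wt q n d * gam q n d ^ 2
      ≤ ∑ d ∈ Dn n, Wt q n d +
        ∑ e ∈ S, (e ^ 2 - 1) * ∑ d ∈ (Dn n).filter (fun d => e ∣ gam q n d), Wt q n d := by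
        rw [← h2]; exact h1
    _ ≤ q ^ n + ∑ e ∈ S, (e ^ 2 - 1) * q ^ (n / e) := Nat.add_le_add h3 h4

end Cfsg.Agent.Lib.Helper9_S2479_REINDEX
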