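import Mathlib
import Cfsg.Agent.Lib.Helper40_GLClassHub
import Cfsg.Agent.Lib.Helper40_SLClassDefs
import Cfsg.Agent.Lib.Helper93_S2479_CENT
import Cfsg.Agent.Lib.Helper64_S2479_CENTGAM
import Cfsg.Agent.Lib.Helper26_S2479_CONST
import Cfsg.Agent.Lib.Helper32_S2479_COUNTSUM
import Cfsg.Agent.Lib.Helper31_S2479_CYC
import Cfsg.Agent.Lib.Helper5_S2479_DETCOUNT
import Cfsg.Agent.Lib.Helper10_S2479_DETENC
import Cfsg.Agent.Lib.Helper10_S2479_DETREP
import Cfsg.Agent.Lib.Helper31_S2479_DETSUM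
import Cfsg.Agent.Lib.Helper26_S2479_DETX
import Cfsg.Agent.Lib.Helper79_S2479_FIBER
import Cfsg.Agent.Lib.Helper82_S2479_GAMENC
import Cfsg.Agent.Lib.Helper46_S2479_KER
import Cfsg.Agent.Lib.Helper28_S2479_LOWSL
import Cfsg.Agent.Lib.Helper93_S2479_NORMBLOCK
import Cfsg.Agent.Lib.Helper46_S2479_NUMBIG
import Cfsg.Agent.Lib.Helper91_S2479_NUMSMALL
import Cfsg.Agent.Lib.Helper9_S2479_REINDEX

set_option autoImplicit false

namespace Cfsg.Agent.Lib.Helper40_SLClassHub

open Polynomial DirectSum Cfsg.Agent.Lib.Helper40_GLClassDefs Cfsg.Agent.Lib.Helper40_SLClassDefs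
open Cfsg.Agent.Lib.Helper58_S2478_ENCODE (enc part)

universe u

theorem enc_injective {F : Type u} [Field F] (n : ℕ) (μ μ' : Multiset (F[X] × ℕ))
    (h : Good n μ) (h' : Good n μ') (he : enc n μ = enc n μ') : μ = μ' := by
  rw [← Cfsg.Agent.Lib.Helper58_S2478_ENCODE.sum_part n μ
      (Cfsg.Agent.Lib.Helper58_S2478_ENCODE.good_bounds n μ h),
    ← Cfsg.Agent.Lib.Helper58_S2478_ENCODE.sum_part n μ'
      (Cfsg.Agent.Lib.Helper58_S2478_ENCODE.good_bounds n μ' h')]
  apply Finset.sum_congr rfl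
  intro j _
  exact Cfsg.Agent.Lib.Helper58_S2478_ENCODE.part_eq_of_enc_eq n μ μ' h h' j (congrFun he j)

theorem good_monic {F : Type u} [Field F] (n : ℕ) (μ : Multiset (F[X] × ℕ)) (h : Good n μ) :
    ∀ x ∈ μ, x.1.Monic := fun x hx => (h.1 x hx).2.1

/-- the centraliser of `g` has elements of determinant `a ^ expGcd μ` -/
theorem cent_all {F : Type u} [Field F] [Fintype F] (n : ℕ)
    (g : Matrix.GeneralLinearGroup (Fin n) F) (μ : Multiset (F[X] × ℕ)) (hgood : Good n μ)
    (hrep : Rep (Matrix.toLin' (g : Matrix (Fin n) (Fin n) F)) μ) (a : F) (ha : a ≠ 0) :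
    ∃ c : Matrix.GeneralLinearGroup (Fin n) F, c * g = g * c ∧
      (c : Matrix (Fin n) (Fin n) F).det = a ^ expGcd μ := by
  apply Cfsg.Agent.Lib.Helper64_S2479_CENTGAM.centgam n g μ _ a ha
  intro x hx b hb
  exact Cfsg.Agent.Lib.Helper93_S2479_CENT.cent n g μ (good_monic n μ hgood) hrep
    (fun ι _ _ p e hp f => Cfsg.Agent.Lib.Helper31_S2479_DETSUM.det_mapRange_quot ι p e hp f)
    x hx b hb (Cfsg.Agent.Lib.Helper93_S2479_NORMBLOCK.normblock x.1 (hgood.1 x hx).1 x.2 b hb)

/-- the determinant of `g` is the determinant of its type -/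
theorem det_eq_detType {F : Type u} [Field F] (n : ℕ)
    (g : Matrix.GeneralLinearGroup (Fin n) F) (μ : Multiset (F[X] × ℕ)) (hgood : Good n μ)
    (hrep : Rep (Matrix.toLin' (g : Matrix (Fin n) (Fin n) F)) μ) :
    detType n (enc n μ) = (g : Matrix (Fin n) (Fin n) F).det := by
  rw [Cfsg.Agent.Lib.Helper10_S2479_DETENC.detType_enc n μ hgood, ← LinearMap.det_toLin']
  exact (Cfsg.Agent.Lib.Helper10_S2479_DETREP.det_rep _ μ (good_monic n μ hgood) hrep
    (fun ι _ _ p e hp f => Cfsg.Agent.Lib.Helper31_S2479_DETSUM.det_mapRange_quot ι p e hp f) (fun f hf => Cfsg.Agent.Lib.Helper26_S2479_DETX.det_X_quot f hf)).symm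

/-- the type map on the classes of `SL_n(F)`: determinant one, small fibres -/
theorem exists_Psi {F : Type u} [Field F] [Fintype F] (n : ℕ) (hn : 1 ≤ n) :
    ∃ Ψ : ConjClasses (Matrix.SpecialLinearGroup (Fin n) F) → (Fin n → F[X]),
      (∀ c, IsType n (Ψ c) ∧ detType n (Ψ c) = 1) ∧
      (∀ h : Fin n → F[X],
        Nat.card {c : ConjClasses (Matrix.SpecialLinearGroup (Fin n) F) // Ψ c = h} ≤
          gam (Fintype.card F) n (fun j => (h j).natDegree)) ∧
      (∀ c, ∃ μ : Multiset (F[X] × ℕ), Good n μ ∧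
        Rep (Matrix.toLin' ((Matrix.SpecialLinearGroup.toGL (Quotient.out c) :
          Matrix.GeneralLinearGroup (Fin n) F) : Matrix (Fin n) (Fin n) F)) μ ∧
        Ψ c = enc n μ) := by
  classical
  choose μ hgood hrep using Cfsg.Agent.Lib.Helper40_GLClassHub.exists_good (F := F) n
  let ι : Matrix.SpecialLinearGroup (Fin n) F → Matrix.GeneralLinearGroup (Fin n) F :=
    Matrix.SpecialLinearGroup.toGL
  let Ψ : ConjClasses (Matrix.SpecialLinearGroup (Fin n) F) → (Fin n → F[X]) :=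
    fun c => enc n (μ (ι (Quotient.out c)))
  refine ⟨Ψ, ?_, ?_, fun c => ⟨μ (ι (Quotient.out c)), hgood _, hrep _, rfl⟩⟩
  · intro c
    refine ⟨Cfsg.Agent.Lib.Helper58_S2478_ENCODE.isType_enc n _ (hgood _), ?_⟩
    show detType n (enc n (μ (ι (Quotient.out c)))) = 1
    rw [det_eq_detType n (ι (Quotient.out c)) _ (hgood _) (hrep _)]
    exact (Quotient.out c).2
  · intro h
    by_cases hne : Nonempty {c : ConjClasses (Matrix.SpecialLinearGroup (Fin n) F) // Ψ c = h}
    · obtain ⟨⟨c₀, hc₀⟩⟩ := hne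
      set x₀ := Quotient.out c₀ with hx₀
      obtain ⟨K, hK1, hK2⟩ := Cfsg.Agent.Lib.Helper79_S2479_FIBER.fiber n hn x₀ (expGcd (μ (ι x₀)))
        (fun a ha => cent_all n (ι x₀) (μ (ι x₀)) (hgood _) (hrep _) a ha)
        (Cfsg.Agent.Lib.Helper31_S2479_CYC.cyc (expGcd (μ (ι x₀))))
      have hsub : ∀ c : {c : ConjClasses (Matrix.SpecialLinearGroup (Fin n) F) // Ψ c = h},
          c.1 ∈ K := by
        rintro ⟨c, hc⟩
        have h1 : enc n (μ (ι (Quotient.out c))) = enc n (μ (ι x₀)) := hc.trans hc₀.symm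
        have h2 : μ (ι (Quotient.out c)) = μ (ι x₀) := enc_injective n _ _ (hgood _) (hgood _) h1
        have h3 : IsConj (ι (Quotient.out c)) (ι x₀) :=
          Cfsg.Agent.Lib.Helper14_S2478_CONJ.conj n _ _ (μ (ι x₀)) (h2 ▸ hrep _) (hrep _)
        have h4 := hK2 (Quotient.out c) h3
        have e1 : ConjClasses.mk (Quotient.out c) = c := Quotient.out_eq c
        rw [e1] at h4
        exact h4
      have hle : Nat.card {c : ConjClasses (Matrix.SpecialLinearGroup (Fin n) F) // Ψ c = h} ≤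
          K.card := by
        have : Function.Injective
            (fun c : {c : ConjClasses (Matrix.SpecialLinearGroup (Fin n) F) // Ψ c = h} =>
              (⟨c.1, hsub c⟩ : K)) := by
          intro c c' hcc
          exact Subtype.ext (congrArg (fun z : K => z.1) hcc)
        have h5 := Nat.card_le_card_of_injective _ this
        rwa [Nat.card_eq_fintype_card (α := K), Fintype.card_coe] at h5
      refine hle.trans (hK1.trans ?_)
      rw [← hc₀]
      show _ ≤ gam (Fintype.card F) n (fun j => (enc n (μ (ι x₀)) j).natDegree)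
      rw [Cfsg.Agent.Lib.Helper82_S2479_GAMENC.gam_enc (Fintype.card F) n _ (hgood _)]
    · rw [not_nonempty_iff] at hne
      rw [Nat.card_of_isEmpty]
      exact Nat.zero_le _

theorem up_core {F : Type u} [Field F] [Fintype F] (n : ℕ) (hn : 1 ≤ n) :
    (Fintype.card F - 1) * Nat.card (ConjClasses (Matrix.SpecialLinearGroup (Fin n) F)) ≤
      SLsum (Fintype.card F) n := by
  classical
  obtain ⟨Ψ, hΨ1, hΨ2, -⟩ := exists_Psi (F := F) n hn
  have hcardU : Fintype.card Fˣ = Fintype.card F - 1 := Fintype.card_units F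
  apply Cfsg.Agent.Lib.Helper32_S2479_COUNTSUM.countsum n Ψ hΨ1 hΨ2
  intro d hd
  apply Cfsg.Agent.Lib.Helper5_S2479_DETCOUNT.detcount n d hd (fun m hm c => Cfsg.Agent.Lib.Helper26_S2479_CONST.card_monic_const m hm c)
  intro s k t
  have := Cfsg.Agent.Lib.Helper46_S2479_KER.card_prod_pow_eq (C := Fˣ) (ι := s) k t
  rwa [hcardU, Fintype.card_coe] at this

theorem main {F : Type u} [Field F] [Fintype F] (n : ℕ) (hn : 2 ≤ n) :
    Fintype.card F ^ (n - 1) < Nat.card (ConjClasses (Matrix.SpecialLinearGroup (Fin n) F)) ∧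
    2 * Nat.card (ConjClasses (Matrix.SpecialLinearGroup (Fin n) F)) ≤
      5 * Fintype.card F ^ (n - 1) ∧
    (3 ≤ n → Nat.card (ConjClasses (Matrix.SpecialLinearGroup (Fin n) F)) ≤
      Fintype.card F ^ (n - 1) + 3 * Fintype.card F ^ (n - 2)) := by
  set q := Fintype.card F with hq
  set k := Nat.card (ConjClasses (Matrix.SpecialLinearGroup (Fin n) F)) with hk
  have hq2 : 2 ≤ q := Fintype.one_lt_card
  have hcore : (q - 1) * k ≤ SLsum q n := up_core n (by omega)
  have hq1 : 0 < q - 1 := by omega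
  -- (c)
  have hc : 3 ≤ n → k ≤ q ^ (n - 1) + 3 * q ^ (n - 2) := by
    intro h3
    have hS : SLsum q n ≤ (q - 1) * (q ^ (n - 1) + 3 * q ^ (n - 2)) := by
      rcases Nat.lt_or_ge n 4 with h4 | h4
      · have : n = 3 := by omega
        subst this
        have := Cfsg.Agent.Lib.Helper91_S2479_NUMSMALL.num3 q hq2
        simpa using this
      · exact (Cfsg.Agent.Lib.Helper9_S2479_REINDEX.reindex q n (by omega) (by omega)).trans (Cfsg.Agent.Lib.Helper46_S2479_NUMBIG.numbig q n hq2 h4)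
    exact Nat.le_of_mul_le_mul_left (hcore.trans hS) hq1
  refine ⟨Cfsg.Agent.Lib.Helper28_S2479_LOWSL.lowsl n hn (fun c => Cfsg.Agent.Lib.Helper26_S2479_CONST.card_monic_const n (by omega) c), ?_, hc⟩
  rcases Nat.lt_or_ge n 3 with h3 | h3
  · have : n = 2 := by omega
    subst this
    have h2 := Cfsg.Agent.Lib.Helper91_S2479_NUMSMALL.num2 q hq2
    have : (q - 1) * (2 * k) ≤ (q - 1) * (5 * q) := by
      calc (q - 1) * (2 * k) = 2 * ((q - 1) * k) := by ring
        _ ≤ 2 * SLsum q 2 := Nat.mul_le_mul_left _ hcore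
        _ ≤ _ := h2
    have := Nat.le_of_mul_le_mul_left this hq1
    simpa using this
  · have h := hc h3
    have hpow : q ^ (n - 1) = q * q ^ (n - 2) := by
      rw [← pow_succ']
      congr 1
      omega
    have : 2 * q ^ (n - 2) ≤ q * q ^ (n - 2) := Nat.mul_le_mul_right _ hq2
    rw [hpow] at h ⊢
    nlinarith

end Cfsg.Agent.Lib.Helper40_SLClassHub
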