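import Mathlib
import Cfsg.Agent.Lib.Helper40_GLClassDefs
import Cfsg.Agent.Lib.Helper40_SLClassDefs
import Cfsg.Agent.Lib.Helper40_PSLClassDefs

set_option autoImplicit false

/-!
S2480 package CONTRACT (helper40's market): a type of size `n` all of whose members are polynomials in `X^e`
corresponds to a type of size `n / e`.
-/

namespace Cfsg.Agent.Lib.Helper46_S2480_CONTRACT

open Polynomial DirectSum Cfsg.Agent.Lib.Helper40_GLClassDefs Cfsg.Agent.Lib.Helper40_SLClassDefs
  Cfsg.Agent.Lib.Helper40_PSLClassDefs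

universe u v

theorem sum_castLE {m n : ℕ} (hmn : m ≤ n) (f : Fin n → ℕ)
    (hf : ∀ j : Fin n, m ≤ j.val → f j = 0) :
    ∑ j : Fin n, f j = ∑ j' : Fin m, f (Fin.castLE hmn j') := by
  have h1 : ∑ j' : Fin m, f (Fin.castLE hmn j') =
      ∑ j ∈ Finset.univ.map (Fin.castLEEmb hmn), f j := by
    rw [Finset.sum_map]
    rfl
  rw [h1]
  symm
  apply Finset.sum_subset (Finset.subset_univ _)
  intro j _ hj
  apply hf
  by_contra hlt
  push Not at hlt
  exact hj (Finset.mem_map.mpr ⟨⟨j.val, hlt⟩, Finset.mem_univ _, Fin.ext rfl⟩)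

theorem prod_castLE {M : Type v} [CommMonoid M] {m n : ℕ} (hmn : m ≤ n) (f : Fin n → M)
    (hf : ∀ j : Fin n, m ≤ j.val → f j = 1) :
    ∏ j : Fin n, f j = ∏ j' : Fin m, f (Fin.castLE hmn j') := by
  have h1 : ∏ j' : Fin m, f (Fin.castLE hmn j') =
      ∏ j ∈ Finset.univ.map (Fin.castLEEmb hmn), f j := by
    rw [Finset.prod_map]
    rfl
  rw [h1]
  symm
  apply Finset.prod_subset (Finset.subset_univ _)
  intro j _ hj
  apply hf
  by_contra hlt
  push Not at hlt
  exact hj (Finset.mem_map.mpr ⟨⟨j.val, hlt⟩, Finset.mem_univ _, Fin.ext rfl⟩)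

section

variable {F : Type u} [Field F]

theorem expand_contract_of (e : ℕ) (he : 1 ≤ e) (f : F[X]) (hf : ∃ g : F[X], f = expand F e g) :
    expand F e (contract e f) = f := by
  obtain ⟨g, rfl⟩ := hf
  rw [contract_expand e (by omega)]

theorem natDegree_of (e : ℕ) (he : 1 ≤ e) (f : F[X]) (hf : ∃ g : F[X], f = expand F e g) :
    f.natDegree = (contract e f).natDegree * e := by
  conv_lhs => rw [← expand_contract_of e he f hf]
  rw [natDegree_expand]

theorem coeff_zero_of (e : ℕ) (he : 1 ≤ e) (f : F[X]) :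
    (contract e f).coeff 0 = f.coeff 0 := by
  rw [coeff_contract (by omega), zero_mul]

theorem monic_of (e : ℕ) (he : 1 ≤ e) (f : F[X]) (hf : ∃ g : F[X], f = expand F e g)
    (hm : f.Monic) : (contract e f).Monic := by
  rw [← monic_expand_iff (show 0 < e by omega), expand_contract_of e he f hf]
  exact hm

/-- the weighted degree sum of the contracted polynomials -/
theorem sum_contract (e n : ℕ) (he : 1 ≤ e) (h : Fin n → F[X]) (hT : IsType n h)
    (hinv : ∀ j, ∃ g : F[X], h j = expand F e g) :
    (∑ j : Fin n, (j.val + 1) * (contract e (h j)).natDegree) * e = n := by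
  conv_rhs => rw [← hT.2]
  rw [Finset.sum_mul]
  apply Finset.sum_congr rfl
  intro j _
  rw [natDegree_of e he (h j) (hinv j)]
  ring

theorem dvd_of (e n : ℕ) (he : 1 ≤ e) (h : Fin n → F[X]) (hT : IsType n h)
    (hinv : ∀ j, ∃ g : F[X], h j = expand F e g) : e ∣ n :=
  ⟨_, by rw [mul_comm]; exact (sum_contract e n he h hT hinv).symm⟩

theorem sum_contract' (e n : ℕ) (he : 1 ≤ e) (h : Fin n → F[X]) (hT : IsType n h)
    (hinv : ∀ j, ∃ g : F[X], h j = expand F e g) :
    ∑ j : Fin n, (j.val + 1) * (contract e (h j)).natDegree = n / e := by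
  have := sum_contract e n he h hT hinv
  exact (Nat.div_eq_of_eq_mul_left (by omega : 0 < e) this.symm).symm

/-- beyond `n / e` the contracted polynomials have degree `0` -/
theorem deg_zero_of_le (e n : ℕ) (he : 1 ≤ e) (h : Fin n → F[X]) (hT : IsType n h)
    (hinv : ∀ j, ∃ g : F[X], h j = expand F e g) (j : Fin n) (hj : n / e ≤ j.val) :
    (contract e (h j)).natDegree = 0 := by
  by_contra hne
  have h1 : 1 ≤ (contract e (h j)).natDegree := Nat.one_le_iff_ne_zero.mpr hne
  have hle : (j.val + 1) * (contract e (h j)).natDegree ≤ n / e := by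
    rw [← sum_contract' e n he h hT hinv]
    exact Finset.single_le_sum (f := fun j : Fin n => (j.val + 1) * (contract e (h j)).natDegree)
      (fun _ _ => Nat.zero_le _) (Finset.mem_univ j)
  have : j.val + 1 ≤ (j.val + 1) * (contract e (h j)).natDegree := Nat.le_mul_of_pos_right _ h1
  omega

theorem eq_one_of_le (e n : ℕ) (he : 1 ≤ e) (h : Fin n → F[X]) (hT : IsType n h)
    (hinv : ∀ j, ∃ g : F[X], h j = expand F e g) (j : Fin n) (hj : n / e ≤ j.val) :
    h j = 1 := by
  have h0 : (h j).natDegree = 0 := by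
    rw [natDegree_of e he (h j) (hinv j), deg_zero_of_le e n he h hT hinv j hj, zero_mul]
  exact (hT.1 j).1.natDegree_eq_zero.mp h0

theorem contr_apply (e n : ℕ) (h : Fin n → F[X]) (j' : Fin (n / e)) :
    contr e n h j' = contract e (h (Fin.castLE (Nat.div_le_self n e) j')) := rfl

theorem isType_contr (e n : ℕ) (he : 1 ≤ e) (h : Fin n → F[X]) (hT : IsType n h)
    (hinv : ∀ j, ∃ g : F[X], h j = expand F e g) : IsType (n / e) (contr e n h) := by
  refine ⟨fun j' => ?_, ?_⟩
  · rw [contr_apply]
    refine ⟨monic_of e he _ (hinv _) (hT.1 _).1, ?_⟩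
    rw [coeff_zero_of e he]
    exact (hT.1 _).2
  · have h1 := sum_contract' e n he h hT hinv
    have h2 := sum_castLE (Nat.div_le_self n e)
      (fun j : Fin n => (j.val + 1) * (contract e (h j)).natDegree)
      (fun j hj => by rw [deg_zero_of_le e n he h hT hinv j hj, mul_zero])
    exact h2.symm.trans h1

theorem detType_contr (e n : ℕ) (he : 1 ≤ e) (h : Fin n → F[X]) (hT : IsType n h)
    (hinv : ∀ j, ∃ g : F[X], h j = expand F e g) :
    detType n h = (-1) ^ ((e - 1) * (n / e)) * detType (n / e) (contr e n h) := by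
  unfold detType
  rw [prod_castLE (Nat.div_le_self n e)
    (fun j : Fin n => ((-1 : F) ^ (h j).natDegree * (h j).coeff 0) ^ (j.val + 1))
    (fun j hj => by
      rw [eq_one_of_le e n he h hT hinv j hj]
      simp)]
  have hsum : ∑ j' : Fin (n / e), (j'.val + 1) * (contr e n h j').natDegree = n / e :=
    (isType_contr e n he h hT hinv).2
  have hpow : (-1 : F) ^ ((e - 1) * (n / e)) = ∏ j' : Fin (n / e),
      (-1 : F) ^ ((e - 1) * ((j'.val + 1) * (contr e n h j').natDegree)) := by
    rw [Finset.prod_pow_eq_pow_sum, ← Finset.mul_sum, hsum]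
  rw [hpow, ← Finset.prod_mul_distrib]
  apply Finset.prod_congr rfl
  intro j' _
  rw [contr_apply]
  set j : Fin n := Fin.castLE (Nat.div_le_self n e) j' with hjdef
  have hjv : j.val = j'.val := rfl
  rw [natDegree_of e he (h j) (hinv j), coeff_zero_of e he, hjv]
  set D := (contract e (h j)).natDegree with hD
  set c := (h j).coeff 0 with hc
  obtain ⟨e', rfl⟩ : ∃ e', e = e' + 1 := ⟨e - 1, by omega⟩
  have : e' + 1 - 1 = e' := by omega
  rw [this, mul_pow, mul_pow, ← pow_mul, ← pow_mul, ← mul_assoc, ← pow_add]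
  congr 2
  ring

theorem gam_contr (q e n : ℕ) (he : 1 ≤ e) (h : Fin n → F[X]) (hT : IsType n h)
    (hinv : ∀ j, ∃ g : F[X], h j = expand F e g) :
    gam q n (fun j => (h j).natDegree) = gam q (n / e) (fun j => (contr e n h j).natDegree) := by
  unfold gam
  congr 1
  apply Nat.dvd_antisymm
  · apply Finset.dvd_gcd
    intro j' hj'
    have hj'2 : (contr e n h j').natDegree ≠ 0 := (Finset.mem_filter.mp hj').2
    rw [contr_apply] at hj'2
    have hmem : Fin.castLE (Nat.div_le_self n e) j' ∈
        Finset.univ.filter (fun j : Fin n => (fun j => (h j).natDegree) j ≠ 0) := by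
      refine Finset.mem_filter.mpr ⟨Finset.mem_univ _, ?_⟩
      show (h (Fin.castLE (Nat.div_le_self n e) j')).natDegree ≠ 0
      rw [natDegree_of e he _ (hinv _)]
      exact Nat.mul_ne_zero hj'2 (by omega)
    exact Finset.gcd_dvd (f := fun j : Fin n => j.val + 1) hmem
  · apply Finset.dvd_gcd
    intro j hj
    have hj2 : (h j).natDegree ≠ 0 := (Finset.mem_filter.mp hj).2
    have hlt : j.val < n / e := by
      by_contra hge
      push Not at hge
      apply hj2
      rw [eq_one_of_le e n he h hT hinv j hge, natDegree_one]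
    have hD : (contract e (h j)).natDegree ≠ 0 := by
      intro h0
      apply hj2
      rw [natDegree_of e he _ (hinv j), h0, zero_mul]
    have hmem : (⟨j.val, hlt⟩ : Fin (n / e)) ∈
        Finset.univ.filter (fun j' : Fin (n / e) => (fun j => (contr e n h j).natDegree) j' ≠ 0) := by
      refine Finset.mem_filter.mpr ⟨Finset.mem_univ _, ?_⟩
      show (contr e n h ⟨j.val, hlt⟩).natDegree ≠ 0
      rw [contr_apply]
      exact hD
    exact Finset.gcd_dvd (f := fun j' : Fin (n / e) => j'.val + 1) hmem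

/-- **S2480-CONTRACT**, first part. -/
theorem contract_type (q e n : ℕ) (he : 1 ≤ e) (h : Fin n → F[X])
    (hT : IsType n h) (hinv : ∀ j, ∃ g : F[X], h j = Polynomial.expand F e g) :
    e ∣ n ∧ IsType (n / e) (contr e n h) ∧
      detType n h = (-1) ^ ((e - 1) * (n / e)) * detType (n / e) (contr e n h) ∧
      gam q n (fun j => (h j).natDegree) = gam q (n / e) (fun j => (contr e n h j).natDegree) :=
  ⟨dvd_of e n he h hT hinv, isType_contr e n he h hT hinv, detType_contr e n he h hT hinv,
    gam_contr q e n he h hT hinv⟩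

/-- **S2480-CONTRACT**, second part. -/
theorem contract_inj (e n : ℕ) (he : 1 ≤ e) (h h' : Fin n → F[X])
    (hT : IsType n h) (hT' : IsType n h')
    (hinv : ∀ j, ∃ g : F[X], h j = Polynomial.expand F e g)
    (hinv' : ∀ j, ∃ g : F[X], h' j = Polynomial.expand F e g)
    (hc : contr e n h = contr e n h') : h = h' := by
  funext j
  rcases Nat.lt_or_ge j.val (n / e) with hlt | hge
  · have h1 := congrFun hc ⟨j.val, hlt⟩
    rw [contr_apply, contr_apply] at h1
    have hj : Fin.castLE (Nat.div_le_self n e) ⟨j.val, hlt⟩ = j := Fin.ext rfl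
    rw [hj] at h1
    rw [← expand_contract_of e he (h j) (hinv j), ← expand_contract_of e he (h' j) (hinv' j), h1]
  · rw [eq_one_of_le e n he h hT hinv j hge, eq_one_of_le e n he h' hT' hinv' j hge]

end

end Cfsg.Agent.Lib.Helper46_S2480_CONTRACT
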