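import Mathlib
import Cfsg.Agent.Lib.Helper40_GLClassDefs
import Cfsg.Agent.Lib.Helper40_SLClassDefs
import Cfsg.Agent.Lib.Helper40_PSLClassDefs
import Cfsg.Agent.Lib.Helper91_S2479_NUMSMALL
import Cfsg.Agent.Lib.Helper9_S2479_REINDEX
import Cfsg.Agent.Lib.Helper46_S2479_NUMBIG

set_option autoImplicit false

/-!
S2480 package NUMPSL (helper40's market): `PSLsum q n ≤ (q - 1) (q^(n-1) + 5 q^(n-2))`.
-/

namespace Cfsg.Agent.Lib.Helper46_S2480_NUMPSL

open Cfsg.Agent.Lib.Helper40_GLClassDefs Cfsg.Agent.Lib.Helper40_SLClassDefs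
  Cfsg.Agent.Lib.Helper40_PSLClassDefs
open Cfsg.Agent.Lib.Helper91_S2479_NUMSMALL

theorem Dn_one : Dn 1 = {![1]} := by decide

theorem SLsum_one (q : ℕ) : SLsum q 1 = q - 1 := by
  rw [SLsum, Dn_one, Finset.sum_singleton]
  simp only [Wt, gam, Finset.univ_unique, Finset.prod_singleton]
  simp [Nq_one]

/-- the S2479 bound for `m ≥ 3` -/
theorem SLsum_big (q m : ℕ) (hq : 2 ≤ q) (hm : 3 ≤ m) :
    SLsum q m ≤ (q - 1) * (q ^ (m - 1) + 3 * q ^ (m - 2)) := by
  rcases Nat.lt_or_ge m 4 with h4 | h4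
  · have : m = 3 := by omega
    subst this
    simpa using num3 q hq
  · exact (Cfsg.Agent.Lib.Helper9_S2479_REINDEX.reindex q m hq (by omega)).trans
      (Cfsg.Agent.Lib.Helper46_S2479_NUMBIG.numbig q m hq h4)

theorem SLsum_two_le (q : ℕ) : SLsum q 2 ≤ (q - 1) * (q + 4) := by
  rw [SLsum_two]
  have hg : Nat.gcd (q - 1) 2 ∣ 2 := Nat.gcd_dvd_right _ _
  have hle : Nat.gcd (q - 1) 2 ≤ 2 := Nat.le_of_dvd (by norm_num) hg
  have h4 : Nat.gcd (q - 1) 2 ^ 2 ≤ 4 := by nlinarith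
  calc (q - 1) * q + (q - 1) * Nat.gcd (q - 1) 2 ^ 2
      = (q - 1) * (q + Nat.gcd (q - 1) 2 ^ 2) := by ring
    _ ≤ (q - 1) * (q + 4) := Nat.mul_le_mul_left _ (by omega)

/-- the crude bound `SLsum q m ≤ (5/2) (q - 1) q^(m-1)` -/
theorem crude (q m : ℕ) (hq : 2 ≤ q) (hm : 1 ≤ m) :
    2 * SLsum q m ≤ 5 * ((q - 1) * q ^ (m - 1)) := by
  rcases Nat.lt_or_ge m 3 with h3 | h3
  · interval_cases m
    · rw [SLsum_one]
      simp only [Nat.sub_self, pow_zero, mul_one]
      omega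
    · have := num2 q hq
      calc 2 * SLsum q 2 ≤ (q - 1) * (5 * q) := this
        _ = 5 * ((q - 1) * q ^ (2 - 1)) := by
          norm_num
          ring
  · have h := SLsum_big q m hq h3
    have hpow : q ^ (m - 1) = q * q ^ (m - 2) := by
      rw [← pow_succ']
      congr 1
      omega
    have h2 : 2 * q ^ (m - 2) ≤ q * q ^ (m - 2) := Nat.mul_le_mul_right _ hq
    have h3' : 2 * (q * q ^ (m - 2) + 3 * q ^ (m - 2)) ≤ 5 * (q * q ^ (m - 2)) := by omega
    rw [hpow] at h ⊢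
    calc 2 * SLsum q m ≤ 2 * ((q - 1) * (q * q ^ (m - 2) + 3 * q ^ (m - 2))) :=
          Nat.mul_le_mul_left _ h
      _ = (q - 1) * (2 * (q * q ^ (m - 2) + 3 * q ^ (m - 2))) := by ring
      _ ≤ (q - 1) * (5 * (q * q ^ (m - 2))) := Nat.mul_le_mul_left _ h3'
      _ = 5 * ((q - 1) * (q * q ^ (m - 2))) := by ring

/-- the terms `e ≥ 2`, for `n ≥ 5` -/
theorem tail_five (q n g : ℕ) (hq : 2 ≤ q) (hn : 5 ≤ n) (hg0 : 0 < g) (hgn : g ∣ n)
    (hgq : g ∣ q - 1) :
    ∑ e ∈ (Nat.divisors g).erase 1, Nat.totient e * SLsum q (n / e) ≤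
      (q - 1) * (2 * q ^ (n - 2)) := by
  have h1mem : 1 ∈ Nat.divisors g := Nat.mem_divisors.mpr ⟨one_dvd _, hg0.ne'⟩
  have hgle : g ≤ q - 1 := Nat.le_of_dvd (by omega) hgq
  have htot : ∑ e ∈ (Nat.divisors g).erase 1, Nat.totient e = g - 1 := by
    have := Nat.sum_totient g
    rw [← Finset.add_sum_erase _ _ h1mem, Nat.totient_one] at this
    omega
  have hterm : ∀ e ∈ (Nat.divisors g).erase 1, 2 * (Nat.totient e * SLsum q (n / e)) ≤
      Nat.totient e * (5 * ((q - 1) * q ^ (n / 2 - 1))) := by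
    intro e he
    obtain ⟨hne1, hmem⟩ := Finset.mem_erase.mp he
    have hdg : e ∣ g := (Nat.mem_divisors.mp hmem).1
    have hen : e ∣ n := hdg.trans hgn
    have he0 : 0 < e := Nat.pos_of_dvd_of_pos hdg hg0
    have he2 : 2 ≤ e := by omega
    have h1 : 1 ≤ n / e := Nat.div_pos (Nat.le_of_dvd (by omega) hen) he0
    have h2 : n / e ≤ n / 2 := Nat.div_le_div_left he2 (by norm_num)
    have hc := crude q (n / e) hq h1
    have hpow : q ^ (n / e - 1) ≤ q ^ (n / 2 - 1) := Nat.pow_le_pow_right (by omega) (by omega)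
    calc 2 * (Nat.totient e * SLsum q (n / e)) = Nat.totient e * (2 * SLsum q (n / e)) := by ring
      _ ≤ Nat.totient e * (5 * ((q - 1) * q ^ (n / e - 1))) := Nat.mul_le_mul_left _ hc
      _ ≤ Nat.totient e * (5 * ((q - 1) * q ^ (n / 2 - 1))) :=
        Nat.mul_le_mul_left _ (Nat.mul_le_mul_left _ (Nat.mul_le_mul_left _ hpow))
  have hsum : 2 * ∑ e ∈ (Nat.divisors g).erase 1, Nat.totient e * SLsum q (n / e) ≤
      (g - 1) * (5 * ((q - 1) * q ^ (n / 2 - 1))) := by
    rw [Finset.mul_sum, ← htot, Finset.sum_mul]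
    exact Finset.sum_le_sum hterm
  have hP : q ^ (n / 2 - 1) ≤ q ^ (n - 4) := Nat.pow_le_pow_right (by omega) (by omega)
  have hq2 : q ^ (n - 2) = q ^ 2 * q ^ (n - 4) := by
    rw [← pow_add]
    congr 1
    omega
  have h5 : 5 * (q - 2) ≤ 4 * q ^ 2 := by
    obtain ⟨s, rfl⟩ : ∃ s, q = s + 2 := ⟨q - 2, by omega⟩
    have : s + 2 - 2 = s := by omega
    rw [this]
    nlinarith
  have hfin : (g - 1) * (5 * ((q - 1) * q ^ (n / 2 - 1))) ≤ 2 * ((q - 1) * (2 * q ^ (n - 2))) := by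
    rw [hq2]
    calc (g - 1) * (5 * ((q - 1) * q ^ (n / 2 - 1)))
        ≤ (q - 2) * (5 * ((q - 1) * q ^ (n - 4))) :=
          Nat.mul_le_mul (by omega) (Nat.mul_le_mul_left _ (Nat.mul_le_mul_left _ hP))
      _ = (q - 1) * ((5 * (q - 2)) * q ^ (n - 4)) := by ring
      _ ≤ (q - 1) * ((4 * q ^ 2) * q ^ (n - 4)) :=
          Nat.mul_le_mul_left _ (Nat.mul_le_mul_right _ h5)
      _ = 2 * ((q - 1) * (2 * (q ^ 2 * q ^ (n - 4)))) := by ring
  have := hsum.trans hfin
  omega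

/-- the terms `e ≥ 2`, for `n = 4` -/
theorem tail_four (q g : ℕ) (hq : 2 ≤ q) (hgn : g ∣ 4) :
    ∑ e ∈ (Nat.divisors g).erase 1, Nat.totient e * SLsum q (4 / e) ≤
      (q - 1) * (2 * q ^ (4 - 2)) := by
  have hsub : (Nat.divisors g).erase 1 ⊆ ({2, 4} : Finset ℕ) := by
    intro e he
    obtain ⟨hne1, hmem⟩ := Finset.mem_erase.mp he
    have hd4 : e ∣ 4 := (Nat.mem_divisors.mp hmem).1.trans hgn
    have hle : e ≤ 4 := Nat.le_of_dvd (by norm_num) hd4
    interval_cases e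
    · norm_num at hd4
    · exact absurd rfl hne1
    · simp
    · norm_num at hd4
    · simp
  have ht4 : Nat.totient 4 = 2 := by decide
  calc ∑ e ∈ (Nat.divisors g).erase 1, Nat.totient e * SLsum q (4 / e)
      ≤ ∑ e ∈ ({2, 4} : Finset ℕ), Nat.totient e * SLsum q (4 / e) :=
        Finset.sum_le_sum_of_subset hsub
    _ = SLsum q 2 + 2 * SLsum q 1 := by
        rw [Finset.sum_pair (by norm_num)]
        simp [ht4]
    _ ≤ (q - 1) * (q + 4) + 2 * (q - 1) := by
        rw [SLsum_one]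
        exact Nat.add_le_add_right (SLsum_two_le q) _
    _ = (q - 1) * (q + 6) := by ring
    _ ≤ (q - 1) * (2 * q ^ (4 - 2)) := by
        apply Nat.mul_le_mul_left
        norm_num
        nlinarith

/-- **S2480-NUMPSL**. -/
theorem numpsl (q n : ℕ) (hq : 2 ≤ q) (hn : 2 ≤ n) :
    PSLsum q n ≤ (q - 1) * (q ^ (n - 1) + 5 * q ^ (n - 2)) := by
  unfold PSLsum
  have hg0 : 0 < Nat.gcd n (q - 1) := Nat.gcd_pos_of_pos_left _ (by omega)
  have hgn : Nat.gcd n (q - 1) ∣ n := Nat.gcd_dvd_left _ _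
  have hgq : Nat.gcd n (q - 1) ∣ q - 1 := Nat.gcd_dvd_right _ _
  rcases Nat.lt_or_ge n 4 with h4 | h4
  · interval_cases n
    · -- `n = 2`
      rcases (Nat.dvd_prime Nat.prime_two).mp hgn with h | h
      · rw [h]
        have hg' : Nat.gcd (q - 1) 2 = 1 := by rw [Nat.gcd_comm]; exact h
        simp only [Nat.divisors_one, Finset.sum_singleton, Nat.totient_one, one_mul, Nat.div_one]
        rw [SLsum_two, hg']
        norm_num
        have : (q - 1) * (q + 5) = (q - 1) * q + (q - 1) + (q - 1) * 4 := by ring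
        omega
      · rw [h]
        have hg' : Nat.gcd (q - 1) 2 = 2 := by rw [Nat.gcd_comm]; exact h
        have hd : Nat.divisors 2 = {1, 2} := by decide
        rw [hd, Finset.sum_pair (by norm_num)]
        simp only [Nat.totient_one, one_mul, Nat.div_one, Nat.totient_two, Nat.div_self (by norm_num : 0 < 2)]
        rw [SLsum_two, hg', SLsum_one]
        norm_num
        have : (q - 1) * (q + 5) = (q - 1) * q + (q - 1) * 4 + (q - 1) := by ring
        omega
    · -- `n = 3`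
      have h3 := num3 q hq
      rcases (Nat.dvd_prime Nat.prime_three).mp hgn with h | h
      · rw [h]
        simp only [Nat.divisors_one, Finset.sum_singleton, Nat.totient_one, one_mul, Nat.div_one]
        refine h3.trans (Nat.mul_le_mul_left _ ?_)
        norm_num
        omega
      · rw [h]
        have hd : Nat.divisors 3 = {1, 3} := by decide
        have ht3 : Nat.totient 3 = 2 := by decide
        rw [hd, Finset.sum_pair (by norm_num)]
        simp only [Nat.totient_one, one_mul, Nat.div_one, ht3, Nat.div_self (by norm_num : 0 < 3)]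
        rw [SLsum_one]
        calc SLsum q 3 + 2 * (q - 1) ≤ (q - 1) * (q ^ 2 + 3 * q) + 2 * (q - 1) :=
              Nat.add_le_add_right h3 _
          _ = (q - 1) * (q ^ 2 + 3 * q + 2) := by ring
          _ ≤ (q - 1) * (q ^ (3 - 1) + 5 * q ^ (3 - 2)) := by
              apply Nat.mul_le_mul_left
              norm_num
              omega
  · have h1mem : 1 ∈ Nat.divisors (Nat.gcd n (q - 1)) :=
      Nat.mem_divisors.mpr ⟨one_dvd _, hg0.ne'⟩
    rw [← Finset.add_sum_erase _ _ h1mem]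
    simp only [Nat.totient_one, one_mul, Nat.div_one]
    have hA : SLsum q n ≤ (q - 1) * (q ^ (n - 1) + 3 * q ^ (n - 2)) :=
      SLsum_big q n hq (by omega)
    have hB : ∑ e ∈ (Nat.divisors (Nat.gcd n (q - 1))).erase 1, Nat.totient e * SLsum q (n / e) ≤
        (q - 1) * (2 * q ^ (n - 2)) := by
      rcases Nat.lt_or_ge n 5 with h5 | h5
      · have : n = 4 := by omega
        subst this
        exact tail_four q _ hq hgn
      · exact tail_five q n _ hq h5 hg0 hgn hgq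
    calc SLsum q n + ∑ e ∈ (Nat.divisors (Nat.gcd n (q - 1))).erase 1,
          Nat.totient e * SLsum q (n / e)
        ≤ (q - 1) * (q ^ (n - 1) + 3 * q ^ (n - 2)) + (q - 1) * (2 * q ^ (n - 2)) :=
          add_le_add hA hB
      _ = (q - 1) * (q ^ (n - 1) + 5 * q ^ (n - 2)) := by ring

end Cfsg.Agent.Lib.Helper46_S2480_NUMPSL
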