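import Mathlib

set_option autoImplicit false

/-!
S2480 package ZCARD (helper40's market): the centre of `SL_n(F)`, `F` a finite field with `q` elements, has
`gcd(n, q - 1)` elements.
-/

namespace Cfsg.Agent.Lib.Helper46_S2480_ZCARD

universe u

/-- the number of `n`-th roots of unity in a finite field -/
theorem card_rootsOfUnity_field {F : Type u} [Field F] [Fintype F] (n : ℕ) :
    Nat.card (rootsOfUnity n F) = Nat.gcd n (Fintype.card F - 1) := by
  have h : rootsOfUnity n F = (powMonoidHom n : Fˣ →* Fˣ).ker := by
    ext x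
    simp [mem_rootsOfUnity, MonoidHom.mem_ker]
  rw [h, IsCyclic.card_powMonoidHom_ker, Nat.card_units, Nat.card_eq_fintype_card, Nat.gcd_comm]

/-- S2480-ZCARD. -/
theorem card_center_sl {F : Type u} [Field F] [Fintype F] (n : ℕ) (hn : 1 ≤ n) :
    Nat.card (Subgroup.center (Matrix.SpecialLinearGroup (Fin n) F)) =
      Nat.gcd n (Fintype.card F - 1) := by
  classical
  rw [Nat.card_congr (Matrix.SpecialLinearGroup.center_equiv_rootsOfUnity (n := Fin n) (R := F)).toEquiv,
    Fintype.card_fin, max_eq_left hn]
  exact card_rootsOfUnity_field n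

end Cfsg.Agent.Lib.Helper46_S2480_ZCARD
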