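import Mathlib
import Cfsg.Agent.Lib.Helper40_GLClassDefs
import Cfsg.Agent.Lib.Helper40_SLClassDefs
import Cfsg.Agent.Lib.Helper40_PSLClassDefs

set_option autoImplicit false

/-!
# S2480-GOODSCALE (helper5, package of helper40's S2480 market)

`Good n μ → Good n (scaleMu a μ)` for `a ≠ 0`.
-/

namespace Cfsg.Agent.Lib.Helper5_S2480_GOODSCALE

open Polynomial DirectSum Cfsg.Agent.Lib.Helper40_GLClassDefs Cfsg.Agent.Lib.Helper40_SLClassDefs
  Cfsg.Agent.Lib.Helper40_PSLClassDefs

universe u v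

/-- scaling back -/
theorem scaleRoots_inv_cancel {F : Type u} [Field F] (a : F) (ha : a ≠ 0) (p : F[X]) :
    (p.scaleRoots a).scaleRoots a⁻¹ = p := by
  rw [← scaleRoots_mul, mul_inv_cancel₀ ha, scaleRoots_one]

/-- `scaleRoots` by a non-zero scalar preserves irreducibility -/
theorem irreducible_scaleRoots {F : Type u} [Field F] (a : F) (ha : a ≠ 0) {p : F[X]}
    (hp : Irreducible p) : Irreducible (p.scaleRoots a) := by
  have hp0 : p ≠ 0 := hp.ne_zero
  have hunit : ∀ f : F[X], f ≠ 0 → (IsUnit (f.scaleRoots a⁻¹) ↔ IsUnit f) := by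
    intro f hf
    rw [Polynomial.isUnit_iff_degree_eq_zero, Polynomial.isUnit_iff_degree_eq_zero,
      degree_eq_natDegree (scaleRoots_ne_zero hf _), degree_eq_natDegree hf, natDegree_scaleRoots]
  constructor
  · intro hu
    apply hp.not_isUnit
    have h1 := (hunit (p.scaleRoots a) (scaleRoots_ne_zero hp0 a)).mpr hu
    rwa [scaleRoots_inv_cancel a ha] at h1
  · intro f g hfg
    have hf0 : f ≠ 0 := by
      rintro rfl
      rw [zero_mul] at hfg
      exact scaleRoots_ne_zero hp0 a hfg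
    have hg0 : g ≠ 0 := by
      rintro rfl
      rw [mul_zero] at hfg
      exact scaleRoots_ne_zero hp0 a hfg
    have h1 : p = f.scaleRoots a⁻¹ * g.scaleRoots a⁻¹ := by
      rw [← mul_scaleRoots_of_noZeroDivisors, ← hfg, scaleRoots_inv_cancel a ha]
    rcases hp.isUnit_or_isUnit h1 with h | h
    · exact Or.inl ((hunit f hf0).mp h)
    · exact Or.inr ((hunit g hg0).mp h)

theorem good_scale {F : Type u} [Field F] (n : ℕ) (a : F) (ha : a ≠ 0) (μ : Multiset (F[X] × ℕ))
    (h : Good n μ) : Good n (scaleMu a μ) := by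
  obtain ⟨h1, h2⟩ := h
  refine ⟨?_, ?_⟩
  · intro y hy
    rw [scaleMu, Multiset.mem_map] at hy
    obtain ⟨x, hx, rfl⟩ := hy
    obtain ⟨hirr, hmon, hc0, hpos⟩ := h1 x hx
    refine ⟨irreducible_scaleRoots a ha hirr, (monic_scaleRoots_iff a).mpr hmon, ?_, hpos⟩
    show (x.1.scaleRoots a).coeff 0 ≠ 0
    rw [coeff_scaleRoots]
    exact mul_ne_zero hc0 (pow_ne_zero _ ha)
  · rw [scaleMu, Multiset.map_map]
    rw [← h2]
    congr 1
    apply Multiset.map_congr rfl
    intro x _
    show x.2 * (x.1.scaleRoots a).natDegree = x.2 * x.1.natDegree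
    rw [natDegree_scaleRoots]

end Cfsg.Agent.Lib.Helper5_S2480_GOODSCALE
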