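import Mathlib

/-!
# S2480 package ZSCALAR (architect helper40, proof helper63)

A central element `z` of `SL_n(F)` (`F` a finite field, `n ≥ 1`) is a scalar matrix `a • 1` with
`orderOf a = orderOf z`, `orderOf a ∣ n`, `orderOf a ∣ |F| - 1`, and `z * x = a • x`.
-/

set_option autoImplicit false

namespace Cfsg.Agent.Lib.Helper63_S2480_ZSCALAR

universe u

theorem center_scalar {F : Type u} [Field F] [Fintype F] (n : ℕ) (hn : 1 ≤ n)
    (z : Subgroup.center (Matrix.SpecialLinearGroup (Fin n) F)) :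
    ∃ a : F, a ≠ 0 ∧ orderOf a = orderOf z ∧ orderOf a ∣ n ∧ orderOf a ∣ Fintype.card F - 1 ∧
      ∀ x : Matrix.SpecialLinearGroup (Fin n) F,
        (((z : Matrix.SpecialLinearGroup (Fin n) F) * x : Matrix.SpecialLinearGroup (Fin n) F) :
          Matrix (Fin n) (Fin n) F) = a • (x : Matrix (Fin n) (Fin n) F) := by
  obtain ⟨a, han, haz⟩ := Matrix.SpecialLinearGroup.mem_center_iff.mp z.2
  rw [Fintype.card_fin] at han
  have : Nonempty (Fin n) := ⟨⟨0, by omega⟩⟩
  have ha0 : a ≠ 0 := by
    rintro rfl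
    rw [zero_pow (by omega)] at han
    exact zero_ne_one han
  have hpow : ∀ k : ℕ, (((z : Matrix.SpecialLinearGroup (Fin n) F) ^ k :
      Matrix.SpecialLinearGroup (Fin n) F) : Matrix (Fin n) (Fin n) F) =
      Matrix.scalar (Fin n) (a ^ k) := by
    intro k
    rw [Matrix.SpecialLinearGroup.coe_pow, ← haz, ← map_pow]
  refine ⟨a, ha0, ?_, orderOf_dvd_of_pow_eq_one han,
    orderOf_dvd_of_pow_eq_one (FiniteField.pow_card_sub_one_eq_one a ha0), ?_⟩
  · rw [← Subgroup.orderOf_coe z, orderOf_eq_orderOf_iff]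
    intro k
    constructor
    · intro hk
      apply Subtype.ext
      rw [hpow k, hk, map_one, Matrix.SpecialLinearGroup.coe_one]
    · intro hk
      have h1 := hpow k
      rw [hk, Matrix.SpecialLinearGroup.coe_one, ← map_one (Matrix.scalar (Fin n))] at h1
      exact (Matrix.scalar_inj.mp h1).symm
  · intro x
    rw [Matrix.SpecialLinearGroup.coe_mul, ← haz, Matrix.scalar_apply,
      ← Matrix.smul_eq_diagonal_mul]

end Cfsg.Agent.Lib.Helper63_S2480_ZSCALAR
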