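import Mathlib
import Cfsg.Agent.Lib.Helper40_GLClassDefs
import Cfsg.Agent.Lib.Helper40_SLClassDefs
import Cfsg.Agent.Lib.Helper40_PSLClassDefs

set_option autoImplicit false

/-!
S2480-KERCYC (helper40's market): the dimension of the kernel of `r ^ k` on the cyclic module
`F[X] / (p ^ e)`.
-/

namespace Cfsg.Agent.Lib.Helper65_S2480_KERCYC

open Polynomial DirectSum Cfsg.Agent.Lib.Helper40_GLClassDefs Cfsg.Agent.Lib.Helper40_SLClassDefs
  Cfsg.Agent.Lib.Helper40_PSLClassDefs

universe u v

theorem mem_span_iff {F : Type u} [Field F] (y g : F[X]) :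
    g ∈ Submodule.span F[X] {y} ↔ y ∣ g :=
  Ideal.mem_span_singleton

theorem kercyc_eq {F : Type u} [Field F] (p : F[X]) (hp : Irreducible p) (hpm : p.Monic)
    (e k : ℕ) :
    Module.finrank F (LinearMap.ker
      (DistribSMul.toLinearMap F (F[X] ⧸ Submodule.span F[X] {p ^ e}) (p ^ k))) =
      p.natDegree * min e k := by
  classical
  set m := min e k with hm
  have hme : m ≤ e := min_le_left _ _
  have hmk : m ≤ k := min_le_right _ _
  have hp0 : p ≠ 0 := hp.ne_zero
  let L : F[X] →ₗ[F[X]] F[X] := LinearMap.lsmul F[X] F[X] (p ^ (e - m))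
  have hLa : ∀ g, L g = p ^ (e - m) * g := fun g => rfl
  have hL : Submodule.span F[X] {p ^ m} ≤ (Submodule.span F[X] {p ^ e}).comap L := by
    rw [Submodule.span_le]
    intro g hg
    simp only [Set.mem_singleton_iff] at hg
    subst hg
    show L (p ^ m) ∈ Submodule.span F[X] {p ^ e}
    rw [mem_span_iff, hLa, ← pow_add, Nat.sub_add_cancel hme]
  let ψ : (F[X] ⧸ Submodule.span F[X] {p ^ m}) →ₗ[F[X]] (F[X] ⧸ Submodule.span F[X] {p ^ e}) :=
    Submodule.mapQ _ _ L hL
  have hψ : ∀ g : F[X], ψ (Submodule.Quotient.mk g) = Submodule.Quotient.mk (p ^ (e - m) * g) :=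
    fun g => rfl
  have hinj : Function.Injective (ψ.restrictScalars F) := by
    rw [← LinearMap.ker_eq_bot, LinearMap.ker_eq_bot']
    intro x hx
    obtain ⟨g, rfl⟩ := Submodule.Quotient.mk_surjective _ x
    have hx' : ψ (Submodule.Quotient.mk g) = 0 := hx
    rw [hψ, Submodule.Quotient.mk_eq_zero, mem_span_iff] at hx'
    rw [Submodule.Quotient.mk_eq_zero, mem_span_iff]
    have : p ^ (e - m) * p ^ m ∣ p ^ (e - m) * g := by
      rwa [← pow_add, Nat.sub_add_cancel hme]
    exact (mul_dvd_mul_iff_left (pow_ne_zero _ hp0)).1 this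
  have hrange : LinearMap.range (ψ.restrictScalars F) = LinearMap.ker
      (DistribSMul.toLinearMap F (F[X] ⧸ Submodule.span F[X] {p ^ e}) (p ^ k)) := by
    ext x
    simp only [LinearMap.mem_range, LinearMap.mem_ker, DistribSMul.toLinearMap_apply]
    constructor
    · rintro ⟨y, rfl⟩
      obtain ⟨g, rfl⟩ := Submodule.Quotient.mk_surjective _ y
      show p ^ k • ψ (Submodule.Quotient.mk g) = 0
      rw [hψ, ← Submodule.Quotient.mk_smul, Submodule.Quotient.mk_eq_zero, mem_span_iff,
        smul_eq_mul, ← mul_assoc, ← pow_add]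
      exact Dvd.dvd.mul_right (pow_dvd_pow p (by omega)) g
    · intro hx
      obtain ⟨f, rfl⟩ := Submodule.Quotient.mk_surjective _ x
      rw [← Submodule.Quotient.mk_smul, Submodule.Quotient.mk_eq_zero, mem_span_iff,
        smul_eq_mul] at hx
      have hdvd : p ^ (e - m) ∣ f := by
        rcases le_total e k with hek | hke
        · have : m = e := min_eq_left hek
          rw [this, Nat.sub_self, pow_zero]
          exact one_dvd _
        · have hmk' : m = k := min_eq_right hke
          have : p ^ k * p ^ (e - k) ∣ p ^ k * f := by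
            rwa [← pow_add, Nat.add_sub_cancel' hke]
          rw [hmk']
          exact (mul_dvd_mul_iff_left (pow_ne_zero _ hp0)).1 this
      obtain ⟨g, rfl⟩ := hdvd
      exact ⟨Submodule.Quotient.mk g, hψ g⟩
  rw [← hrange, LinearMap.finrank_range_of_inj hinj]
  have := finrank_quotient_span_eq_natDegree (f := p ^ m)
  rw [natDegree_pow] at this
  rw [mul_comm]
  exact this

theorem kercyc_ne {F : Type u} [Field F] (p r : F[X]) (hp : Irreducible p) (hpm : p.Monic)
    (hr : Irreducible r) (hrm : r.Monic) (hpr : p ≠ r) (e k : ℕ) :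
    Module.finrank F (LinearMap.ker
      (DistribSMul.toLinearMap F (F[X] ⧸ Submodule.span F[X] {p ^ e}) (r ^ k))) = 0 := by
  classical
  have hcop : IsCoprime (r ^ k) (p ^ e) := by
    apply IsCoprime.pow
    rw [Irreducible.coprime_iff_not_dvd hr]
    intro hdvd
    have hass : Associated r p := hr.associated_of_dvd hp hdvd
    exact hpr (eq_of_monic_of_associated hrm hpm hass).symm
  have hbot : LinearMap.ker
      (DistribSMul.toLinearMap F (F[X] ⧸ Submodule.span F[X] {p ^ e}) (r ^ k)) = ⊥ := by
    rw [LinearMap.ker_eq_bot']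
    intro x hx
    obtain ⟨f, rfl⟩ := Submodule.Quotient.mk_surjective _ x
    simp only [DistribSMul.toLinearMap_apply] at hx
    rw [← Submodule.Quotient.mk_smul, Submodule.Quotient.mk_eq_zero, mem_span_iff,
      smul_eq_mul] at hx
    rw [Submodule.Quotient.mk_eq_zero, mem_span_iff]
    exact hcop.symm.dvd_of_dvd_mul_left hx
  rw [hbot]
  exact finrank_bot F _

end Cfsg.Agent.Lib.Helper65_S2480_KERCYC
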