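import Mathlib
import Cfsg.Agent.Lib.Helper40_GLClassDefs
import Cfsg.Agent.Lib.Helper40_SLClassDefs
import Cfsg.Agent.Lib.Helper40_PSLClassDefs

set_option autoImplicit false

/-!
S2480-UNIQ (helper40's market): uniqueness of the elementary divisors of an endomorphism.
-/

namespace Cfsg.Agent.Lib.Helper65_S2480_UNIQ

open Polynomial DirectSum Cfsg.Agent.Lib.Helper40_GLClassDefs Cfsg.Agent.Lib.Helper40_SLClassDefs
  Cfsg.Agent.Lib.Helper40_PSLClassDefs

universe u v

open scoped Classical in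
theorem finrank_ker_of_rep {F : Type u} [Field F] {V : Type u} [AddCommGroup V] [Module F V]
    (T : Module.End F V) (μ : Multiset (F[X] × ℕ))
    (hμ : ∀ x ∈ μ, Irreducible x.1 ∧ x.1.Monic ∧ 0 < x.2)
    (h : Rep T μ)
    (hkercyc_eq : ∀ (p : F[X]), Irreducible p → p.Monic → ∀ (e k : ℕ),
      Module.finrank F (LinearMap.ker
        (DistribSMul.toLinearMap F (F[X] ⧸ Submodule.span F[X] {p ^ e}) (p ^ k))) =
        p.natDegree * min e k)
    (hkercyc_ne : ∀ (p r : F[X]), Irreducible p → p.Monic → Irreducible r → r.Monic → p ≠ r →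
      ∀ (e k : ℕ), Module.finrank F (LinearMap.ker
        (DistribSMul.toLinearMap F (F[X] ⧸ Submodule.span F[X] {p ^ e}) (r ^ k))) = 0)
    (hkersum : ∀ (ι : Type u) [Fintype ι] [DecidableEq ι] (p : ι → F[X]) (e : ι → ℕ)
      (_ : ∀ i, (p i).Monic) (a : F[X]),
      Module.finrank F (LinearMap.ker
        (DistribSMul.toLinearMap F (⨁ i, F[X] ⧸ Submodule.span F[X] {p i ^ e i}) a)) =
        ∑ i, Module.finrank F (LinearMap.ker
          (DistribSMul.toLinearMap F (F[X] ⧸ Submodule.span F[X] {p i ^ e i}) a)))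
    (r : F[X]) (hr : Irreducible r) (hrm : r.Monic) (k : ℕ) :
    Module.finrank F (LinearMap.ker (DistribSMul.toLinearMap F (Module.AEval' T) (r ^ k))) =
      r.natDegree *
        ((μ.filter (fun x : F[X] × ℕ => x.1 = r)).map (fun x => min x.2 k)).sum := by
  obtain ⟨ι, hι, p, e, hμeq, ⟨φ⟩⟩ := h
  have hmem : ∀ i, (p i, e i) ∈ μ := fun i => by
    rw [hμeq]; exact Multiset.mem_map_of_mem _ (Finset.mem_univ_val i)
  have hirr : ∀ i, Irreducible (p i) := fun i => (hμ _ (hmem i)).1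
  have hmon : ∀ i, (p i).Monic := fun i => (hμ _ (hmem i)).2.1
  -- transport the kernel along φ
  set A := DistribSMul.toLinearMap F (Module.AEval' T) (r ^ k) with hA
  set B := DistribSMul.toLinearMap F (⨁ i : ι, F[X] ⧸ Submodule.span F[X] {p i ^ e i}) (r ^ k)
    with hB
  let φF : Module.AEval' T ≃ₗ[F] ⨁ i : ι, F[X] ⧸ Submodule.span F[X] {p i ^ e i} :=
    φ.restrictScalars F
  have hcomm : B.comp (φF : Module.AEval' T →ₗ[F] _) = (φF : Module.AEval' T →ₗ[F] _).comp A := by
    refine LinearMap.ext fun x => ?_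
    simp only [LinearMap.coe_comp, Function.comp_apply, hA, hB, DistribSMul.toLinearMap_apply]
    exact (φ.map_smul (r ^ k) x).symm
  have hker : LinearMap.ker A = (LinearMap.ker B).comap (φF : Module.AEval' T →ₗ[F] _) := by
    rw [← LinearMap.ker_comp, hcomm]
    ext x
    simp only [LinearMap.mem_ker, LinearMap.coe_comp, Function.comp_apply]
    constructor
    · intro hx; rw [hx]; simp
    · intro hx
      have : (φF : Module.AEval' T →ₗ[F] _) (A x) = φF 0 := by rw [hx]; simp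
      exact φF.injective this
  have h1 : Module.finrank F (LinearMap.ker A) = Module.finrank F (LinearMap.ker B) := by
    rw [hker]
    exact (LinearEquiv.ofSubmodule' φF (LinearMap.ker B)).finrank_eq
  rw [h1, hB, hkersum ι p e hmon (r ^ k)]
  have hterm : ∀ i, Module.finrank F (LinearMap.ker
      (DistribSMul.toLinearMap F (F[X] ⧸ Submodule.span F[X] {p i ^ e i}) (r ^ k))) =
      if p i = r then r.natDegree * min (e i) k else 0 := by
    intro i
    by_cases hpi : p i = r
    · rw [if_pos hpi, ← hpi]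
      exact hkercyc_eq (p i) (hirr i) (hmon i) (e i) k
    · rw [if_neg hpi]
      exact hkercyc_ne (p i) r (hirr i) (hmon i) hr hrm hpi (e i) k
  rw [Finset.sum_congr rfl (fun i _ => hterm i), hμeq, Multiset.filter_map, Multiset.map_map,
    ← Finset.sum_filter, ← Finset.mul_sum]
  rfl

open scoped Classical in
theorem rep_unique {F : Type u} [Field F] {V : Type u} [AddCommGroup V] [Module F V]
    [Module.Finite F V] (T : Module.End F V) (μ μ' : Multiset (F[X] × ℕ))
    (hμ : ∀ x ∈ μ, Irreducible x.1 ∧ x.1.Monic ∧ 0 < x.2)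
    (hμ' : ∀ x ∈ μ', Irreducible x.1 ∧ x.1.Monic ∧ 0 < x.2)
    (h : Rep T μ) (h' : Rep T μ')
    (hkercyc_eq : ∀ (p : F[X]), Irreducible p → p.Monic → ∀ (e k : ℕ),
      Module.finrank F (LinearMap.ker
        (DistribSMul.toLinearMap F (F[X] ⧸ Submodule.span F[X] {p ^ e}) (p ^ k))) =
        p.natDegree * min e k)
    (hkercyc_ne : ∀ (p r : F[X]), Irreducible p → p.Monic → Irreducible r → r.Monic → p ≠ r →
      ∀ (e k : ℕ), Module.finrank F (LinearMap.ker
        (DistribSMul.toLinearMap F (F[X] ⧸ Submodule.span F[X] {p ^ e}) (r ^ k))) = 0)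
    (hkersum : ∀ (ι : Type u) [Fintype ι] [DecidableEq ι] (p : ι → F[X]) (e : ι → ℕ)
      (_ : ∀ i, (p i).Monic) (a : F[X]),
      Module.finrank F (LinearMap.ker
        (DistribSMul.toLinearMap F (⨁ i, F[X] ⧸ Submodule.span F[X] {p i ^ e i}) a)) =
        ∑ i, Module.finrank F (LinearMap.ker
          (DistribSMul.toLinearMap F (F[X] ⧸ Submodule.span F[X] {p i ^ e i}) a)))
    (hcomb : ∀ (ν ν' : Multiset (F[X] × ℕ)), (∀ x ∈ ν, 0 < x.2) → (∀ x ∈ ν', 0 < x.2) →
      (∀ (r : F[X]) (k : ℕ),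
        ((ν.filter (fun x : F[X] × ℕ => x.1 = r)).map (fun x => min x.2 k)).sum =
          ((ν'.filter (fun x : F[X] × ℕ => x.1 = r)).map (fun x => min x.2 k)).sum) → ν = ν') :
    μ = μ' := by
  apply hcomb μ μ' (fun x hx => (hμ x hx).2.2) (fun x hx => (hμ' x hx).2.2)
  intro r k
  by_cases hr : Irreducible r ∧ r.Monic
  · have e1 := finrank_ker_of_rep T μ hμ h hkercyc_eq hkercyc_ne hkersum r hr.1 hr.2 k
    have e2 := finrank_ker_of_rep T μ' hμ' h' hkercyc_eq hkercyc_ne hkersum r hr.1 hr.2 k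
    rw [e1] at e2
    exact Nat.eq_of_mul_eq_mul_left hr.1.natDegree_pos e2
  · have z : ∀ ν : Multiset (F[X] × ℕ), (∀ x ∈ ν, Irreducible x.1 ∧ x.1.Monic ∧ 0 < x.2) →
        ν.filter (fun x : F[X] × ℕ => x.1 = r) = 0 := by
      intro ν hν
      rw [Multiset.filter_eq_nil]
      intro x hx hxr
      exact hr ⟨hxr ▸ (hν x hx).1, hxr ▸ (hν x hx).2.1⟩
    rw [z μ hμ, z μ' hμ']

end Cfsg.Agent.Lib.Helper65_S2480_UNIQ
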