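import Mathlib

/-!
# S2480 package BURN (architect helper40): `burnside_center`

`|Z| · k(G/Z) = #{(z, c) : z c = c}` for `Z = center G` acting on the conjugacy classes of `G` by
multiplication (Burnside's lemma; the orbits are the conjugacy classes of `G ⧸ Z`).
-/

set_option autoImplicit false

namespace Cfsg.Agent.Lib.Helper71_S2480_BURN

universe u

variable {G : Type u} [Group G]

/-- multiplication by a central element on conjugacy classes -/
def zmul (z : Subgroup.center G) : ConjClasses G → ConjClasses G :=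
  Quotient.map (fun g => (z : G) * g) (by
    intro a b hab
    obtain ⟨c, hc⟩ := hab
    refine ⟨c, ?_⟩
    have hz : ∀ g : G, g * (z : G) = (z : G) * g := Subgroup.mem_center_iff.mp z.2
    show (c : G) * ((z : G) * a) = ((z : G) * b) * (c : G)
    have hc' : (c : G) * a = b * (c : G) := hc
    rw [← mul_assoc, hz, mul_assoc, hc', mul_assoc])

theorem zmul_mk (z : Subgroup.center G) (g : G) :
    zmul z (ConjClasses.mk g) = ConjClasses.mk ((z : G) * g) := rfl

/-- the action of the centre on the conjugacy classes -/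
def centerAct : MulAction (Subgroup.center G) (ConjClasses G) where
  smul := zmul
  one_smul c := by
    obtain ⟨g, rfl⟩ := ConjClasses.exists_rep c
    show zmul 1 (ConjClasses.mk g) = ConjClasses.mk g
    rw [zmul_mk, Subgroup.coe_one, one_mul]
  mul_smul z w c := by
    obtain ⟨g, rfl⟩ := ConjClasses.exists_rep c
    show zmul (z * w) (ConjClasses.mk g) = zmul z (zmul w (ConjClasses.mk g))
    rw [zmul_mk, zmul_mk, zmul_mk, Subgroup.coe_mul, mul_assoc]

/-- the orbits of the centre on the classes are the classes of the quotient -/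
noncomputable def orbitsEquiv :
    Quotient (@MulAction.orbitRel (Subgroup.center G) (ConjClasses G) _ centerAct) ≃
      ConjClasses (G ⧸ Subgroup.center G) := by
  letI : MulAction (Subgroup.center G) (ConjClasses G) := centerAct
  refine Equiv.ofBijective
    (Quotient.lift (fun c : ConjClasses G => ConjClasses.map (QuotientGroup.mk' (Subgroup.center G)) c)
      ?_) ⟨?_, ?_⟩
  · intro c c' hcc
    have hcc' : c ∈ MulAction.orbit (Subgroup.center G) c' := hcc
    obtain ⟨z, hz⟩ := hcc'
    obtain ⟨g, rfl⟩ := ConjClasses.exists_rep c'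
    have hz' : zmul z (ConjClasses.mk g) = c := hz
    rw [← hz', zmul_mk]
    show ConjClasses.mk ((QuotientGroup.mk' (Subgroup.center G)) ((z : G) * g)) =
      ConjClasses.mk ((QuotientGroup.mk' (Subgroup.center G)) g)
    rw [map_mul]
    have h1 : (QuotientGroup.mk' (Subgroup.center G)) (z : G) = 1 :=
      (QuotientGroup.eq_one_iff _).mpr z.2
    rw [h1, one_mul]
  · intro q1 q2
    induction q1 using Quotient.inductionOn with
    | h c1 =>
    induction q2 using Quotient.inductionOn with
    | h c2 =>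
    obtain ⟨g1, rfl⟩ := ConjClasses.exists_rep c1
    obtain ⟨g2, rfl⟩ := ConjClasses.exists_rep c2
    intro h
    have h' : ConjClasses.mk ((g1 : G ⧸ Subgroup.center G)) = ConjClasses.mk (g2 : G ⧸ Subgroup.center G) := h
    rw [ConjClasses.mk_eq_mk_iff_isConj, isConj_iff] at h'
    obtain ⟨x, hx⟩ := h'
    obtain ⟨y, rfl⟩ := QuotientGroup.mk_surjective x
    have h2 : ((y * g1 * y⁻¹ : G) : G ⧸ Subgroup.center G) = (g2 : G ⧸ Subgroup.center G) := by
      rw [← hx]; rfl
    rw [QuotientGroup.eq] at h2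
    apply Quotient.sound
    show ConjClasses.mk g1 ∈ MulAction.orbit (Subgroup.center G) (ConjClasses.mk g2)
    refine ⟨⟨(y * g1 * y⁻¹)⁻¹ * g2, h2⟩⁻¹, ?_⟩
    show zmul _ (ConjClasses.mk g2) = ConjClasses.mk g1
    have hzc : ∀ g : G, g * ((y * g1 * y⁻¹)⁻¹ * g2)⁻¹ = ((y * g1 * y⁻¹)⁻¹ * g2)⁻¹ * g :=
      Subgroup.mem_center_iff.mp ((Subgroup.center G).inv_mem h2)
    have h3 : ((y * g1 * y⁻¹)⁻¹ * g2)⁻¹ * g2 = y * g1 * y⁻¹ := by
      rw [← hzc]; group
    rw [zmul_mk, Subgroup.coe_inv]
    show ConjClasses.mk (((y * g1 * y⁻¹)⁻¹ * g2)⁻¹ * g2) = ConjClasses.mk g1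
    rw [h3, ConjClasses.mk_eq_mk_iff_isConj, isConj_iff]
    refine ⟨y⁻¹, ?_⟩
    group
  · intro d
    obtain ⟨x, rfl⟩ := ConjClasses.exists_rep d
    obtain ⟨g, rfl⟩ := QuotientGroup.mk_surjective x
    exact ⟨Quotient.mk _ (ConjClasses.mk g), rfl⟩

/-- **S2480-BURN**. -/
theorem burnside_center {G : Type u} [Group G] [Finite G] :
    Nat.card (Subgroup.center G) * Nat.card (ConjClasses (G ⧸ Subgroup.center G)) =
      Nat.card {p : Subgroup.center G × ConjClasses G //
        ∃ g : G, ConjClasses.mk g = p.2 ∧ ConjClasses.mk ((p.1 : G) * g) = p.2} := by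
  let _inst : MulAction (Subgroup.center G) (ConjClasses G) := centerAct
  have e1 : {p : Subgroup.center G × ConjClasses G //
        ∃ g : G, ConjClasses.mk g = p.2 ∧ ConjClasses.mk ((p.1 : G) * g) = p.2} ≃
      Σ z : Subgroup.center G, MulAction.fixedBy (ConjClasses G) z :=
    { toFun := fun p => ⟨p.1.1, ⟨p.1.2, by
        obtain ⟨g, hg1, hg2⟩ := p.2
        show zmul p.1.1 p.1.2 = p.1.2
        rw [← hg1, zmul_mk, hg1, hg2]⟩⟩
      invFun := fun s => ⟨(s.1, s.2.1), by
        obtain ⟨g, hg⟩ := ConjClasses.exists_rep s.2.1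
        have h : zmul s.1 s.2.1 = s.2.1 := s.2.2
        refine ⟨g, hg, ?_⟩
        rw [← zmul_mk, hg]
        exact h⟩
      left_inv := fun p => rfl
      right_inv := fun s => rfl }
  rw [Nat.card_congr e1,
    Nat.card_congr (MulAction.sigmaFixedByEquivOrbitsProdGroup (Subgroup.center G) (ConjClasses G)),
    Nat.card_prod, Nat.card_congr orbitsEquiv, mul_comm]

end Cfsg.Agent.Lib.Helper71_S2480_BURN
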