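import Mathlib
import Cfsg.Agent.Lib.Helper40_GLClassDefs
import Cfsg.Agent.Lib.Helper40_SLClassDefs
import Cfsg.Agent.Lib.Helper40_PSLClassDefs

set_option autoImplicit false

/-!
S2480-REPCONJ (helper7): the predicate `Rep` (elementary divisors of the `F[X]`-module of a matrix)
is invariant under conjugation in `GL_n(F)`.
-/

namespace Cfsg.Agent.Lib.Helper7_S2480_REPCONJ

open Polynomial DirectSum Cfsg.Agent.Lib.Helper40_GLClassDefs Cfsg.Agent.Lib.Helper40_SLClassDefs
  Cfsg.Agent.Lib.Helper40_PSLClassDefs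

universe u v

/-- An `F`-linear equivalence intertwining two endomorphisms transports `Rep`. -/
theorem rep_of_intertwine {F : Type u} [Field F] {V : Type u} [AddCommGroup V] [Module F V]
    (T T' : Module.End F V) (E : V ≃ₗ[F] V) (hE : ∀ v, E (T' v) = T (E v))
    (μ : Multiset (F[X] × ℕ)) (h : Rep T μ) : Rep T' μ := by
  obtain ⟨ι, hι, p, e, hμ, ⟨φ⟩⟩ := h
  refine ⟨ι, hι, p, e, hμ, ⟨?_⟩⟩
  let f : V ≃ₗ[F] Module.AEval' T := E.trans (Module.AEval'.of T)
  have hf : ∀ m : V, f (T' • m) = (X : F[X]) • f m := by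
    intro m
    show Module.AEval'.of T (E (T' m)) = (X : F[X]) • Module.AEval'.of T (E m)
    rw [Module.AEval'.X_smul_of, hE]
  exact (LinearEquiv.ofAEval T' f hf).trans φ

theorem rep_conj {F : Type u} [Field F] (n : ℕ) (g g' : Matrix.GeneralLinearGroup (Fin n) F)
    (hc : IsConj g g') (μ : Multiset (F[X] × ℕ))
    (h : Rep (Matrix.toLin' (g : Matrix (Fin n) (Fin n) F)) μ) :
    Rep (Matrix.toLin' (g' : Matrix (Fin n) (Fin n) F)) μ := by
  obtain ⟨c, hcg⟩ := isConj_iff.mp hc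
  -- `c * g * c⁻¹ = g'`
  have h1 : (c⁻¹ : Matrix.GeneralLinearGroup (Fin n) F) * g' = g * c⁻¹ := by
    rw [← hcg]; group
  have h2 : ((c⁻¹ : Matrix.GeneralLinearGroup (Fin n) F) : Matrix (Fin n) (Fin n) F)
      * (g' : Matrix (Fin n) (Fin n) F)
      = (g : Matrix (Fin n) (Fin n) F)
        * ((c⁻¹ : Matrix.GeneralLinearGroup (Fin n) F) : Matrix (Fin n) (Fin n) F) := by
    have := congrArg (fun x : Matrix.GeneralLinearGroup (Fin n) F =>
      (x : Matrix (Fin n) (Fin n) F)) h1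
    simpa only [Units.val_mul] using this
  have hA : ((c⁻¹ : Matrix.GeneralLinearGroup (Fin n) F) : Matrix (Fin n) (Fin n) F)
      * (c : Matrix (Fin n) (Fin n) F) = 1 := by
    rw [← Units.val_mul, inv_mul_cancel, Units.val_one]
  have hB : (c : Matrix (Fin n) (Fin n) F)
      * ((c⁻¹ : Matrix.GeneralLinearGroup (Fin n) F) : Matrix (Fin n) (Fin n) F) = 1 := by
    rw [← Units.val_mul, mul_inv_cancel, Units.val_one]
  let E : (Fin n → F) ≃ₗ[F] (Fin n → F) := Matrix.toLin'OfInv hB hA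
  refine rep_of_intertwine (Matrix.toLin' (g : Matrix (Fin n) (Fin n) F))
    (Matrix.toLin' (g' : Matrix (Fin n) (Fin n) F)) E ?_ μ h
  intro v
  show Matrix.toLin' _ (Matrix.toLin' _ v) = Matrix.toLin' _ (Matrix.toLin' _ v)
  rw [← LinearMap.comp_apply, ← LinearMap.comp_apply, ← Matrix.toLin'_mul, ← Matrix.toLin'_mul, h2]

end Cfsg.Agent.Lib.Helper7_S2480_REPCONJ
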