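import Mathlib
import Cfsg.Agent.Lib.Helper40_GLClassDefs
import Cfsg.Agent.Lib.Helper40_SLClassDefs
import Cfsg.Agent.Lib.Helper40_PSLClassDefs

/-!
# S2480 package ZSUM (architect helper40): a sum over the cyclic centre of `SL_n(F)` grouped by element order.
-/

set_option autoImplicit false

namespace Cfsg.Agent.Lib.Helper91_S2480_ZSUM

open Polynomial DirectSum Cfsg.Agent.Lib.Helper40_GLClassDefs Cfsg.Agent.Lib.Helper40_SLClassDefs
  Cfsg.Agent.Lib.Helper40_PSLClassDefs

universe u v

/-- the `k`-th roots of unity as the kernel of the `k`-th power map -/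
theorem rootsOfUnity_eq_ker {F : Type u} [Field F] (k : ℕ) :
    rootsOfUnity k F = (powMonoidHom k : Fˣ →* Fˣ).ker := by
  ext ζ
  rw [mem_rootsOfUnity, MonoidHom.mem_ker, powMonoidHom_apply]

/-- the number of `k`-th roots of unity in a finite field -/
theorem card_rootsOfUnity_finite {F : Type u} [Field F] [Fintype F] (k : ℕ) :
    Nat.card (rootsOfUnity k F) = Nat.gcd k (Fintype.card F - 1) := by
  rw [rootsOfUnity_eq_ker, IsCyclic.card_powMonoidHom_ker, Nat.card_units, Nat.card_eq_fintype_card,
    Nat.gcd_comm]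

/-- the centre of `SL_n(F)` is cyclic -/
theorem isCyclic_center_sl {F : Type u} [Field F] [Fintype F] (n : ℕ) :
    IsCyclic (Subgroup.center (Matrix.SpecialLinearGroup (Fin n) F)) := by
  have e := Matrix.SpecialLinearGroup.center_equiv_rootsOfUnity (n := Fin n) (R := F)
  have : IsCyclic (rootsOfUnity (max (Fintype.card (Fin n)) 1) F) := inferInstance
  exact e.isCyclic.mpr this

/-- S2480-ZCARD (own copy): `|Z(SL_n(F))| = gcd(n, q - 1)`. -/
theorem card_center_sl {F : Type u} [Field F] [Fintype F] (n : ℕ) (hn : 1 ≤ n) :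
    Nat.card (Subgroup.center (Matrix.SpecialLinearGroup (Fin n) F)) =
      Nat.gcd n (Fintype.card F - 1) := by
  have e := Matrix.SpecialLinearGroup.center_equiv_rootsOfUnity (n := Fin n) (R := F)
  rw [Nat.card_congr e.toEquiv, card_rootsOfUnity_finite, Fintype.card_fin, max_eq_left hn]

theorem zsum {F : Type u} [Field F] [Fintype F] (n : ℕ) (hn : 1 ≤ n) (B : ℕ → ℕ)
    (P : Subgroup.center (Matrix.SpecialLinearGroup (Fin n) F) →
      ConjClasses (Matrix.SpecialLinearGroup (Fin n) F) → Prop)
    (hfix : ∀ z : Subgroup.center (Matrix.SpecialLinearGroup (Fin n) F),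
      (Fintype.card F - 1) * Nat.card {c : ConjClasses (Matrix.SpecialLinearGroup (Fin n) F) // P z c}
        ≤ B (orderOf z)) :
    (Fintype.card F - 1) *
      Nat.card {p : Subgroup.center (Matrix.SpecialLinearGroup (Fin n) F) ×
        ConjClasses (Matrix.SpecialLinearGroup (Fin n) F) // P p.1 p.2} ≤
      ∑ e ∈ Nat.divisors (Nat.gcd n (Fintype.card F - 1)), Nat.totient e * B e := by
  classical
  have hfinS : Finite (Matrix.SpecialLinearGroup (Fin n) F) := by
    unfold Matrix.SpecialLinearGroup
    infer_instance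
  have hfinC : Finite (ConjClasses (Matrix.SpecialLinearGroup (Fin n) F)) := inferInstance
  have hfinZ : Finite (Subgroup.center (Matrix.SpecialLinearGroup (Fin n) F)) := inferInstance
  let _ : Fintype (Subgroup.center (Matrix.SpecialLinearGroup (Fin n) F)) := Fintype.ofFinite _
  have : IsCyclic (Subgroup.center (Matrix.SpecialLinearGroup (Fin n) F)) := isCyclic_center_sl n
  set d := Nat.gcd n (Fintype.card F - 1) with hd
  have hcard : Fintype.card (Subgroup.center (Matrix.SpecialLinearGroup (Fin n) F)) = d := by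
    rw [← Nat.card_eq_fintype_card, card_center_sl n hn]
  have hd0 : d ≠ 0 := by
    rw [← hcard]
    exact Fintype.card_ne_zero
  -- step A
  have hA : Nat.card {p : Subgroup.center (Matrix.SpecialLinearGroup (Fin n) F) ×
        ConjClasses (Matrix.SpecialLinearGroup (Fin n) F) // P p.1 p.2} =
      ∑ z : Subgroup.center (Matrix.SpecialLinearGroup (Fin n) F),
        Nat.card {c : ConjClasses (Matrix.SpecialLinearGroup (Fin n) F) // P z c} := by
    rw [Nat.card_congr (Equiv.subtypeProdEquivSigmaSubtype P), Nat.card_sigma]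
  -- step B
  have hB : (Fintype.card F - 1) * ∑ z : Subgroup.center (Matrix.SpecialLinearGroup (Fin n) F),
        Nat.card {c : ConjClasses (Matrix.SpecialLinearGroup (Fin n) F) // P z c} ≤
      ∑ z : Subgroup.center (Matrix.SpecialLinearGroup (Fin n) F), B (orderOf z) := by
    rw [Finset.mul_sum]
    exact Finset.sum_le_sum (fun z _ => hfix z)
  -- step C
  have hC : ∑ z : Subgroup.center (Matrix.SpecialLinearGroup (Fin n) F), B (orderOf z) =
      ∑ e ∈ Nat.divisors d, Nat.totient e * B e := by
    have hmaps : ∀ z ∈ (Finset.univ : Finset (Subgroup.center (Matrix.SpecialLinearGroup (Fin n) F))),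
        orderOf z ∈ Nat.divisors d := by
      intro z _
      rw [Nat.mem_divisors]
      refine ⟨?_, hd0⟩
      rw [← hcard]
      exact orderOf_dvd_card
    rw [← Finset.sum_fiberwise_of_maps_to hmaps]
    refine Finset.sum_congr rfl (fun e he => ?_)
    have hed : e ∣ Fintype.card (Subgroup.center (Matrix.SpecialLinearGroup (Fin n) F)) := by
      rw [hcard]
      exact Nat.dvd_of_mem_divisors he
    rw [← IsCyclic.card_orderOf_eq_totient hed, Finset.card_eq_sum_ones, Finset.sum_mul]
    refine Finset.sum_congr rfl (fun z hz => ?_)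
    rw [(Finset.mem_filter.mp hz).2, one_mul]
  rw [hA]
  exact hB.trans (le_of_eq hC)

end Cfsg.Agent.Lib.Helper91_S2480_ZSUM
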