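import Mathlib
import Cfsg.Agent.Lib.Helper40_SLClassHub
import Cfsg.Agent.Lib.Helper40_PSLClassDefs
import Cfsg.Agent.Lib.Helper71_S2480_BURN
import Cfsg.Agent.Lib.Helper24_S2480_COMB
import Cfsg.Agent.Lib.Helper46_S2480_CONTRACT
import Cfsg.Agent.Lib.Helper40_S2480_DETCOUNTT
import Cfsg.Agent.Lib.Helper31_S2480_ENCSCALE
import Cfsg.Agent.Lib.Helper5_S2480_GOODSCALE
import Cfsg.Agent.Lib.Helper31_S2480_INVEXPAND
import Cfsg.Agent.Lib.Helper65_S2480_KERCYC
import Cfsg.Agent.Lib.Helper91_S2480_KERSUM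
import Cfsg.Agent.Lib.Helper46_S2480_NUMPSL
import Cfsg.Agent.Lib.Helper7_S2480_REPCONJ
import Cfsg.Agent.Lib.Helper40_S2480_TYPESCALE
import Cfsg.Agent.Lib.Helper65_S2480_UNIQ
import Cfsg.Agent.Lib.Helper46_S2480_ZCARD
import Cfsg.Agent.Lib.Helper63_S2480_ZSCALAR
import Cfsg.Agent.Lib.Helper91_S2480_ZSUM
import Cfsg.Agent.Lib.Helper32_S2479_COUNTSUMt

set_option autoImplicit false

namespace Cfsg.Agent.Lib.Helper40_PSLClassHub

open Polynomial DirectSum Cfsg.Agent.Lib.Helper40_GLClassDefs Cfsg.Agent.Lib.Helper40_SLClassDefs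
  Cfsg.Agent.Lib.Helper40_PSLClassDefs
open Cfsg.Agent.Lib.Helper58_S2478_ENCODE (enc part)
open Cfsg.Agent.Lib.Helper40_SLClassHub

universe u

theorem good_unique_hyp {F : Type u} [Field F] (n : ℕ) (μ : Multiset (F[X] × ℕ)) (h : Good n μ) :
    ∀ x ∈ μ, Irreducible x.1 ∧ x.1.Monic ∧ 0 < x.2 :=
  fun x hx => ⟨(h.1 x hx).1, (h.1 x hx).2.1, (h.1 x hx).2.2.2⟩

/-- if `a • x` is conjugate to `x`, the type of `x` consists of polynomials in `X ^ orderOf a` -/
theorem inv_type {F : Type u} [Field F] [Fintype F] (n : ℕ)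
    (g y : Matrix.GeneralLinearGroup (Fin n) F) (a : F) (ha : a ≠ 0)
    (hy : (y : Matrix (Fin n) (Fin n) F) = a • (g : Matrix (Fin n) (Fin n) F))
    (hc : IsConj y g) (μ : Multiset (F[X] × ℕ)) (hgood : Good n μ)
    (hrep : Rep (Matrix.toLin' (g : Matrix (Fin n) (Fin n) F)) μ) (j : Fin n) :
    ∃ f : F[X], enc n μ j = Polynomial.expand F (orderOf a) f := by
  classical
  have h1 : Rep (Matrix.toLin' (y : Matrix (Fin n) (Fin n) F)) (scaleMu a μ) := by
    rw [hy, map_smul]
    exact Cfsg.Agent.Lib.Helper40_S2480_TYPESCALE.rep_scale _ a ha μ hrep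
  have h2 : Rep (Matrix.toLin' (g : Matrix (Fin n) (Fin n) F)) (scaleMu a μ) :=
    Cfsg.Agent.Lib.Helper7_S2480_REPCONJ.rep_conj n y g hc _ h1
  have hgood' : Good n (scaleMu a μ) := Cfsg.Agent.Lib.Helper5_S2480_GOODSCALE.good_scale n a ha μ hgood
  have h3 : μ = scaleMu a μ :=
    Cfsg.Agent.Lib.Helper65_S2480_UNIQ.rep_unique _ μ (scaleMu a μ) (good_unique_hyp n μ hgood) (good_unique_hyp n _ hgood') hrep h2
      (fun p hp hpm e k => Cfsg.Agent.Lib.Helper65_S2480_KERCYC.kercyc_eq p hp hpm e k)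
      (fun p r hp hpm hr hrm hpr e k => Cfsg.Agent.Lib.Helper65_S2480_KERCYC.kercyc_ne p r hp hpm hr hrm hpr e k)
      (fun ι _ _ p e hp b => Cfsg.Agent.Lib.Helper91_S2480_KERSUM.kersum ι p e hp b)
      (fun ν ν' hν hν' hh => Cfsg.Agent.Lib.Helper24_S2480_COMB.comb ν ν' hν hν' (by
        intro r k
        convert hh r k))
  have h4 : enc n μ j = (enc n μ j).scaleRoots a := by
    conv_lhs => rw [h3]
    exact Cfsg.Agent.Lib.Helper31_S2480_ENCSCALE.enc_scale n a μ hgood j
  have hT := Cfsg.Agent.Lib.Helper58_S2478_ENCODE.isType_enc n μ hgood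
  exact Cfsg.Agent.Lib.Helper31_S2480_INVEXPAND.inv_expand a ha (enc n μ j) (hT.1 j).1 (hT.1 j).2 h4.symm


/-- the classes of `SL_n(F)` fixed by the central element `z` -/
theorem fixbound {F : Type u} [Field F] [Fintype F] (n : ℕ) (hn : 1 ≤ n)
    (z : Subgroup.center (Matrix.SpecialLinearGroup (Fin n) F)) :
    (Fintype.card F - 1) *
      Nat.card {c : ConjClasses (Matrix.SpecialLinearGroup (Fin n) F) //
        ∃ g : Matrix.SpecialLinearGroup (Fin n) F, ConjClasses.mk g = c ∧
          ConjClasses.mk ((z : Matrix.SpecialLinearGroup (Fin n) F) * g) = c} ≤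
      SLsum (Fintype.card F) (n / orderOf z) := by
  classical
  obtain ⟨a, ha, hord, hdvdn, -, hmul⟩ := Cfsg.Agent.Lib.Helper63_S2480_ZSCALAR.center_scalar n hn z
  obtain ⟨Ψ, hΨ1, hΨ2, hΨ3⟩ := exists_Psi (F := F) n hn
  set e := orderOf a with he
  have he1 : 1 ≤ e := Nat.pos_of_dvd_of_pos hdvdn hn
  rw [← hord]
  set A := {c : ConjClasses (Matrix.SpecialLinearGroup (Fin n) F) //
        ∃ g : Matrix.SpecialLinearGroup (Fin n) F, ConjClasses.mk g = c ∧
          ConjClasses.mk ((z : Matrix.SpecialLinearGroup (Fin n) F) * g) = c} with hA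
  -- invariance of the type
  have hinv : ∀ c : A, ∀ j, ∃ f : F[X], Ψ c.1 j = Polynomial.expand F e f := by
    rintro ⟨c, g, hg1, hg2⟩ j
    obtain ⟨μ, hgood, hrep, hΨc⟩ := hΨ3 c
    set x := Quotient.out c with hx
    have hxc : ConjClasses.mk x = c := Quotient.out_eq c
    have hgx : IsConj g x := ConjClasses.mk_eq_mk_iff_isConj.mp (hg1.trans hxc.symm)
    obtain ⟨s, hs⟩ := isConj_iff.mp hgx
    have hzc : ∀ w : Matrix.SpecialLinearGroup (Fin n) F,
        w * (z : Matrix.SpecialLinearGroup (Fin n) F) =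
          (z : Matrix.SpecialLinearGroup (Fin n) F) * w :=
      fun w => Subgroup.mem_center_iff.mp z.2 w
    have hzx : IsConj ((z : Matrix.SpecialLinearGroup (Fin n) F) * g)
        ((z : Matrix.SpecialLinearGroup (Fin n) F) * x) := by
      rw [isConj_iff]
      refine ⟨s, ?_⟩
      rw [← hs, ← mul_assoc, hzc s, mul_assoc, mul_assoc, mul_assoc]
    have h5 : IsConj ((z : Matrix.SpecialLinearGroup (Fin n) F) * x) x := by
      have := ConjClasses.mk_eq_mk_iff_isConj.mpr hzx
      exact ConjClasses.mk_eq_mk_iff_isConj.mp (this.symm.trans (hg2.trans hxc.symm))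
    have h6 : IsConj (Matrix.SpecialLinearGroup.toGL
        ((z : Matrix.SpecialLinearGroup (Fin n) F) * x))
        (Matrix.SpecialLinearGroup.toGL x) := Matrix.SpecialLinearGroup.toGL.map_isConj h5
    rw [hΨc]
    exact inv_type n _ _ a ha (hmul x) h6 μ hgood hrep j
  -- the contracted type map
  let Ψ' : A → (Fin (n / e) → F[X]) := fun c => contr e n (Ψ c.1)
  have hcT := fun c : A => Cfsg.Agent.Lib.Helper46_S2480_CONTRACT.contract_type (Fintype.card F) e n he1 (Ψ c.1) (hΨ1 c.1).1 (hinv c)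
  set t : F := (-1) ^ ((e - 1) * (n / e)) with ht
  have ht2 : t * t = 1 := by
    rw [ht, ← pow_add, ← two_mul, pow_mul]
    simp
  have ht0 : t ≠ 0 := by
    intro h0
    rw [h0, mul_zero] at ht2
    exact zero_ne_one ht2
  have hcardU : Fintype.card Fˣ = Fintype.card F - 1 := Fintype.card_units F
  apply Cfsg.Agent.Lib.Helper32_S2479_COUNTSUMt.countsum_t (n / e) t ht0 Ψ'
  · intro c
    refine ⟨(hcT c).2.1, ?_⟩
    have h1 := (hcT c).2.2.1
    rw [(hΨ1 c.1).2] at h1
    calc detType (n / e) (Ψ' c) = t * (t * detType (n / e) (Ψ' c)) := by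
          rw [← mul_assoc, ht2, one_mul]
      _ = t := by rw [← h1, mul_one]
  · intro h'
    by_cases hne : Nonempty {c : A // Ψ' c = h'}
    · obtain ⟨⟨c₀, hc₀⟩⟩ := hne
      have hinj : Function.Injective
          (fun c : {c : A // Ψ' c = h'} =>
            (⟨c.1.1, by
              have h1 : contr e n (Ψ c.1.1) = contr e n (Ψ c₀.1) := c.2.trans hc₀.symm
              exact Cfsg.Agent.Lib.Helper46_S2480_CONTRACT.contract_inj e n he1 _ _ (hΨ1 _).1 (hΨ1 _).1 (hinv c.1) (hinv c₀) h1⟩ :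
              {c : ConjClasses (Matrix.SpecialLinearGroup (Fin n) F) // Ψ c = Ψ c₀.1})) := by
        intro c c' hcc
        apply Subtype.ext
        apply Subtype.ext
        exact congrArg (fun w : {c : ConjClasses (Matrix.SpecialLinearGroup (Fin n) F) //
          Ψ c = Ψ c₀.1} => w.1) hcc
      have h2 := Nat.card_le_card_of_injective _ hinj
      refine h2.trans ((hΨ2 (Ψ c₀.1)).trans ?_)
      rw [(hcT c₀).2.2.2, ← hc₀]
    · rw [not_nonempty_iff] at hne
      rw [Nat.card_of_isEmpty]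
      exact Nat.zero_le _
  · intro d hd
    exact Cfsg.Agent.Lib.Helper40_S2480_DETCOUNTT.detcount_t (n / e) d hd t ht0


theorem main {F : Type u} [Field F] [Fintype F] (n : ℕ) (hn : 2 ≤ n) :
    Fintype.card F ^ (n - 1) ≤ Nat.gcd n (Fintype.card F - 1) *
        Nat.card (ConjClasses (Matrix.ProjectiveSpecialLinearGroup (Fin n) F)) ∧
      Nat.gcd n (Fintype.card F - 1) *
        Nat.card (ConjClasses (Matrix.ProjectiveSpecialLinearGroup (Fin n) F)) ≤
      Fintype.card F ^ (n - 1) + 5 * Fintype.card F ^ (n - 2) := by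
  classical
  set q := Fintype.card F with hq
  have hq2 : 2 ≤ q := Fintype.one_lt_card
  have hq1 : 0 < q - 1 := by omega
  have hn1 : 1 ≤ n := by omega
  rw [← Cfsg.Agent.Lib.Helper46_S2480_ZCARD.card_center_sl (F := F) n hn1]
  have hB := Cfsg.Agent.Lib.Helper71_S2480_BURN.burnside_center (G := Matrix.SpecialLinearGroup (Fin n) F)
  have hPSL : Nat.card (ConjClasses (Matrix.ProjectiveSpecialLinearGroup (Fin n) F)) =
      Nat.card (ConjClasses (Matrix.SpecialLinearGroup (Fin n) F ⧸
        Subgroup.center (Matrix.SpecialLinearGroup (Fin n) F))) := rfl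
  rw [hPSL, hB]
  set N := Nat.card {p : Subgroup.center (Matrix.SpecialLinearGroup (Fin n) F) ×
      ConjClasses (Matrix.SpecialLinearGroup (Fin n) F) //
        ∃ g : Matrix.SpecialLinearGroup (Fin n) F, ConjClasses.mk g = p.2 ∧
          ConjClasses.mk ((p.1 : Matrix.SpecialLinearGroup (Fin n) F) * g) = p.2} with hN
  constructor
  · -- lower bound
    have hlow := (Cfsg.Agent.Lib.Helper40_SLClassHub.main (F := F) n hn).1
    have hinj : Function.Injective
        (fun c : ConjClasses (Matrix.SpecialLinearGroup (Fin n) F) =>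
          (⟨(1, c), by
            refine ⟨Quotient.out c, Quotient.out_eq c, ?_⟩
            show ConjClasses.mk (((1 : Subgroup.center (Matrix.SpecialLinearGroup (Fin n) F)) :
              Matrix.SpecialLinearGroup (Fin n) F) * Quotient.out c) = c
            rw [Subgroup.coe_one, one_mul]
            exact Quotient.out_eq c⟩ :
            {p : Subgroup.center (Matrix.SpecialLinearGroup (Fin n) F) ×
              ConjClasses (Matrix.SpecialLinearGroup (Fin n) F) //
                ∃ g : Matrix.SpecialLinearGroup (Fin n) F, ConjClasses.mk g = p.2 ∧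
                  ConjClasses.mk ((p.1 : Matrix.SpecialLinearGroup (Fin n) F) * g) = p.2})) := by
      intro c c' hcc
      have := congrArg (fun w : {p : Subgroup.center (Matrix.SpecialLinearGroup (Fin n) F) ×
              ConjClasses (Matrix.SpecialLinearGroup (Fin n) F) //
                ∃ g : Matrix.SpecialLinearGroup (Fin n) F, ConjClasses.mk g = p.2 ∧
                  ConjClasses.mk ((p.1 : Matrix.SpecialLinearGroup (Fin n) F) * g) = p.2} =>
          w.1.2) hcc
      exact this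
    have := Nat.card_le_card_of_injective _ hinj
    exact hlow.le.trans this
  · -- upper bound
    have h1 : (q - 1) * N ≤ PSLsum q n := by
      have := Cfsg.Agent.Lib.Helper91_S2480_ZSUM.zsum (F := F) n hn1 (fun e => SLsum q (n / e))
        (fun z c => ∃ g : Matrix.SpecialLinearGroup (Fin n) F, ConjClasses.mk g = c ∧
          ConjClasses.mk ((z : Matrix.SpecialLinearGroup (Fin n) F) * g) = c)
        (fun z => fixbound n hn1 z)
      exact this
    have h2 := Cfsg.Agent.Lib.Helper46_S2480_NUMPSL.numpsl q n hq2 hn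
    exact Nat.le_of_mul_le_mul_left (h1.trans h2) hq1

end Cfsg.Agent.Lib.Helper40_PSLClassHub
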