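import Mathlib
import Cfsg.Agent.Lib.Helper40_ProjOrd
import Cfsg.Agent.Lib.Helper40_ProjOrd2
import Cfsg.Agent.Lib.Helper40_ProjOrd3
import Cfsg.Agent.Lib.Helper40_IsoSpecAbs

set_option autoImplicit false

/-!
The trichotomy for the element orders of `PSL_n(q)`: an `r'`-element order `a` satisfies
`r * a ∈ spec`, or divides the Singer number `T`, or is a power of `p` in the exceptional case
`n - 1 = p ^ j`.
-/

namespace Cfsg.Agent.Lib.Helper40_ProjOrd4

open Polynomial Cfsg.Agent.Lib.Helper40_ProjOrd Cfsg.Agent.Lib.Helper40_ProjOrd2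
  Cfsg.Agent.Lib.Helper40_ProjOrd3 Cfsg.Agent.Lib.Helper40_IsoSpecAbs

section construct

variable {F : Type*} [Field F] [Fintype F]

/-- the block construction in `SL_n` -/
theorem construct (p : ℕ) [Fact p.Prime] [CharP F p] {r : ℕ} (hr : r.Prime) (hrp : r ≠ p) (ζ : F)
    (hζ : orderOf ζ = r) (n c δ t : ℕ) (hc : 1 ≤ c) (hδ : 1 ≤ δ) (hn : c + δ + t = n)
    (hrn : ¬ r ∣ n) (a₁ : ℕ) (ha₁ : a₁ ∣ mnum (Fintype.card F) δ) (hra₁ : ¬ r ∣ a₁) :
    InSpec (Fin n) F (r * Nat.lcm (p ^ Nat.clog p c) a₁) := by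
  have ha₁0 : 0 < a₁ := by
    rcases Nat.eq_zero_or_pos a₁ with rfl | h
    · exact absurd (dvd_zero r) hra₁
    · exact h
  obtain ⟨J, hJdet, hJ⟩ := exists_unipotent (F := F) p c hc
  obtain ⟨D, hDdet, hD⟩ := exists_singer (F := F) p δ hδ a₁ ha₁
  obtain ⟨hD'det, hD'⟩ := pad_block (ι₂ := Fin t) D hDdet a₁ hD
  have : Nonempty (Fin c) := ⟨⟨0, by omega⟩⟩
  have : Nonempty (Fin δ ⊕ Fin t) := ⟨Sum.inl ⟨0, by omega⟩⟩
  have hcard : Fintype.card (Fin c) + Fintype.card (Fin δ ⊕ Fin t) = n := by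
    rw [Fintype.card_sum, Fintype.card_fin, Fintype.card_fin, Fintype.card_fin]
    omega
  have h := inSpec_blocks (F := F) p hr hrp (by rw [hcard]; exact hrn) ζ hζ (Nat.clog p c) a₁
    hra₁ ha₁0 J hJdet hJ _ hD'det hD'
  exact h.reindex (Fintype.equivFinOfCardEq (by rw [Fintype.card_sum]; exact hcard))

end construct

section arith

theorem mnum_one (q : ℕ) (hq : 2 ≤ q) : mnum q 1 = 1 := by
  rw [mnum, pow_one]
  exact Nat.div_self (by omega)

theorem mnum_coprime (p a δ : ℕ) (hp : p.Prime) (ha : 1 ≤ a) (hδ : 1 ≤ δ) :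
    Nat.Coprime (mnum (p ^ a) δ) p := by
  rw [Nat.coprime_comm, Nat.Prime.coprime_iff_not_dvd hp]
  intro h
  have h1 : p ∣ (p ^ a) ^ δ - 1 := by
    rw [← mnum_mul]
    exact h.mul_right _
  have h2 : p ∣ (p ^ a) ^ δ := by
    rw [← pow_mul]
    exact dvd_pow_self p (by positivity)
  have h3 : 1 ≤ (p ^ a) ^ δ := Nat.one_le_pow _ _ (pow_pos hp.pos _)
  have h4 : p ∣ 1 := by
    have := (Nat.dvd_sub h2 h1)
    rwa [Nat.sub_sub_self h3] at this
  exact hp.one_lt.ne' (Nat.dvd_one.1 h4)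

theorem dvd_lcm_gcd_of_dvd_mul {a m P : ℕ} (hcop : Nat.Coprime m P) (h : a ∣ m * P) :
    a ∣ Nat.lcm P (Nat.gcd a m) := by
  have h1 : a = Nat.gcd a m * Nat.gcd a P := by
    rw [← Nat.Coprime.gcd_mul a hcop]
    exact (Nat.gcd_eq_left h).symm
  have hcop2 : Nat.Coprime P (Nat.gcd a m) :=
    (Nat.Coprime.coprime_dvd_left (Nat.gcd_dvd_right a m) hcop).symm
  rw [hcop2.lcm_eq_mul]
  nth_rewrite 1 [h1]
  rw [mul_comm]
  exact Nat.mul_dvd_mul_right (Nat.gcd_dvd_right a P) _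

theorem clog_pred_eq (p n : ℕ) (hp : 1 < p) (hn : 2 ≤ n) (hex : ¬ ∃ j : ℕ, n - 1 = p ^ j) :
    Nat.clog p n = Nat.clog p (n - 1) := by
  apply le_antisymm
  · rw [Nat.clog_le_iff_le_pow hp]
    have h1 : n - 1 ≤ p ^ Nat.clog p (n - 1) := Nat.le_pow_clog hp _
    have h2 : n - 1 ≠ p ^ Nat.clog p (n - 1) := fun h => hex ⟨_, h⟩
    omega
  · exact Nat.clog_mono_right p (by omega)

theorem cases_of_mul_le {c δ n : ℕ} (hc : 1 ≤ c) (hδ : 1 ≤ δ) (h : c * δ ≤ n) (h2 : n < c + δ) :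
    (c = 1 ∧ δ = n) ∨ (δ = 1 ∧ c = n) := by
  rcases Nat.lt_or_ge c 2 with h1 | h1
  · left
    have : c = 1 := by omega
    subst this
    omega
  · rcases Nat.lt_or_ge δ 2 with h3 | h3
    · right
      have : δ = 1 := by omega
      subst this
      omega
    · exfalso
      nlinarith

end arith

section tri

variable {F : Type*} [Field F] [Fintype F]

theorem charP_of_card (p a : ℕ) (hp : p.Prime) (hF : Fintype.card F = p ^ a) : CharP F p := by
  obtain ⟨p', hp'⟩ := CharP.exists F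
  obtain ⟨k, hp'prime, hcard⟩ := FiniteField.card F p'
  have h1 : p' ∣ p ^ a := by
    rw [← hF, hcard]
    exact dvd_pow_self p' k.ne_zero
  have h2 : p' = p := (Nat.prime_dvd_prime_iff_eq hp'prime hp).1 (hp'prime.dvd_of_dvd_pow h1)
  rw [← h2]
  exact hp'

/-- the trichotomy for the element orders of `PSL_n(q)` -/
theorem tri_psl (p a n r : ℕ) (hp : p.Prime) (ha : 1 ≤ a) (hF : Fintype.card F = p ^ a)
    (hn : 2 ≤ n) (hr : r.Prime) (hrq : r ∣ Fintype.card F - 1) (hrn : ¬ r ∣ n) :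
    ∃ T : ℕ, Tri (Spec (Matrix.ProjectiveSpecialLinearGroup (Fin n) F)) r p T
      (∃ j : ℕ, n - 1 = p ^ j) := by
  have : Fact p.Prime := ⟨hp⟩
  have : CharP F p := charP_of_card p a hp hF
  have hq2 : 2 ≤ Fintype.card F := Fintype.one_lt_card
  have hrp : r ≠ p := by
    rintro rfl
    have h1 : r ∣ r ^ a := dvd_pow_self r (by omega)
    rw [hF] at hrq
    have h3 : 1 ≤ r ^ a := Nat.one_le_pow _ _ hp.pos
    have h4 : r ∣ 1 := by
      have := Nat.dvd_sub h1 hrq
      rwa [Nat.sub_sub_self h3] at this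
    exact hp.one_lt.ne' (Nat.dvd_one.1 h4)
  obtain ⟨ζ, hζ⟩ : ∃ ζ : F, orderOf ζ = r := by
    have : Fact r.Prime := ⟨hr⟩
    have h1 : r ∣ Nat.card Fˣ := by
      rw [Nat.card_units, Nat.card_eq_fintype_card]
      exact hrq
    obtain ⟨u, hu⟩ := exists_prime_orderOf_dvd_card' r h1
    exact ⟨(u : F), by rw [orderOf_units, hu]⟩
  obtain ⟨T, hTS, hT⟩ := exists_T (F := F) p n (by omega)
  have hS : ∀ b : ℕ, b ∈ Spec (Matrix.ProjectiveSpecialLinearGroup (Fin n) F) ↔
      InSpec (Fin n) F b := fun b => mem_range_orderOf_iff b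
  have hr1 : ¬ r ∣ 1 := fun h => hr.one_lt.ne' (Nat.dvd_one.1 h)
  refine ⟨T, ⟨fun b hb d hd => spec_dvd hb hd, fun b hb => spec_pos hb, hr, hp, hrp,
    (hS T).2 hTS, ?_, ?_⟩⟩
  · have h := construct (F := F) p hr hrp ζ hζ n 1 1 (n - 2) le_rfl le_rfl (by omega) hrn 1
      (one_dvd _) hr1
    rw [Nat.lcm_one_right, Nat.clog_one_right, pow_zero, mul_one] at h
    exact (hS r).2 h
  · intro b hbS hrb
    obtain ⟨M, hdet, hM⟩ := (hS b).1 hbS
    have : Nonempty (Fin n) := ⟨⟨0, by omega⟩⟩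
    rcases minpoly_cases M with ⟨e, he, he0, he1, hcomm⟩ | ⟨f, c, hfm, hfi, hc, hμ⟩
    · left
      exact (hS _).2 (inSpec_mul_of_idempotent hr (by rw [Fintype.card_fin]; exact hrn) ζ hζ M
        hdet hM hrb e he he0 he1 hcomm)
    · have hδ : 1 ≤ f.natDegree := hfi.natDegree_pos
      have hcδ : c * f.natDegree ≤ n := by
        have h1 : (minpoly F M).natDegree ≤ M.charpoly.natDegree :=
          natDegree_le_of_dvd (Matrix.minpoly_dvd_charpoly M) (Matrix.charpoly_monic M).ne_zero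
        rw [Matrix.charpoly_natDegree_eq_dim, Fintype.card_fin, hμ, natDegree_pow] at h1
        exact h1
      have hdvd := pord_dvd_of_minpoly_pow p M hM f c (Nat.clog p c) hfi hμ
        (Nat.le_pow_clog hp.one_lt c)
      by_cases hcase : c + f.natDegree ≤ n
      · left
        have hcop : Nat.Coprime (mnum (Fintype.card F) f.natDegree) (p ^ Nat.clog p c) := by
          rw [hF]
          exact (mnum_coprime p a _ hp ha hδ).pow_right _
        have h1 := dvd_lcm_gcd_of_dvd_mul hcop hdvd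
        have h2 := construct (F := F) p hr hrp ζ hζ n c f.natDegree (n - c - f.natDegree) hc hδ
          (by omega) hrn (Nat.gcd b (mnum (Fintype.card F) f.natDegree)) (Nat.gcd_dvd_right _ _)
          (fun h => hrb (h.trans (Nat.gcd_dvd_left _ _)))
        exact spec_dvd ((hS _).2 h2) (Nat.mul_dvd_mul_left r h1)
      · rcases cases_of_mul_le hc hδ hcδ (by omega) with ⟨hc1, hδn⟩ | ⟨hδ1, hcn⟩
        · right; left
          apply hT M b hdet hM
          · rw [hμ, hc1, pow_one]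
            exact hfi
          · rw [hμ, hc1, pow_one]
            exact hδn
        · rw [hδ1, mnum_one _ hq2, one_mul, hcn] at hdvd
          by_cases hex : ∃ j : ℕ, n - 1 = p ^ j
          · right; right
            obtain ⟨k, -, hk⟩ := (Nat.dvd_prime_pow hp).1 hdvd
            exact ⟨hex, k, hk⟩
          · left
            rw [clog_pred_eq p n hp.one_lt hn hex] at hdvd
            have h2 := construct (F := F) p hr hrp ζ hζ n (n - 1) 1 0 (by omega) le_rfl (by omega)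
              hrn 1 (one_dvd _) hr1
            rw [Nat.lcm_one_right] at h2
            exact spec_dvd ((hS _).2 h2) (Nat.mul_dvd_mul_left r hdvd)

end tri

end Cfsg.Agent.Lib.Helper40_ProjOrd4
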