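import Mathlib
import Cfsg.Agent.Lib.Helper40_S8Defs

set_option autoImplicit false

/-!
Arithmetic for the lower bound: for even `q` each of the twelve numbers divides the lcm of the orders
of the blocks it is assembled from.
-/

namespace Cfsg.Agent.Lib.Helper40_S8Arith

open Cfsg.Agent.Lib.Helper40_S8Defs

theorem coprime_of_odd_of_gcd_dvd_two {x y : ℕ} (hx : Odd x) (h : Nat.gcd x y ∣ 2) :
    Nat.Coprime x y := by
  have hg : Odd (Nat.gcd x y) := Odd.of_dvd_nat hx (Nat.gcd_dvd_left x y)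
  have hle : Nat.gcd x y ≤ 2 := Nat.le_of_dvd (by norm_num) h
  have hpos : 0 < Nat.gcd x y := Nat.gcd_pos_of_pos_left _ hx.pos
  rcases hg with ⟨c, hc⟩
  show Nat.gcd x y = 1
  omega

theorem coprime_of_odd_of_sub {x y A B : ℕ} (hx : Odd x) (hA : x ∣ A) (hB : y ∣ B)
    (h : A = B + 2 ∨ B = A + 2) : Nat.Coprime x y := by
  apply coprime_of_odd_of_gcd_dvd_two hx
  have h1 : Nat.gcd x y ∣ A := (Nat.gcd_dvd_left x y).trans hA
  have h2 : Nat.gcd x y ∣ B := (Nat.gcd_dvd_right x y).trans hB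
  rcases h with h | h
  · have := Nat.dvd_sub h1 h2
    rwa [h, Nat.add_sub_cancel_left] at this
  · have := Nat.dvd_sub h2 h1
    rwa [h, Nat.add_sub_cancel_left] at this

theorem mul_dvd_lcm {x y : ℕ} (h : Nat.Coprime x y) : x * y ∣ Nat.lcm x y := by
  rw [h.lcm_eq_mul]

section even

variable {q : ℕ}

theorem odd_pow_add_one (hq : Even q) (a : ℕ) (ha : 1 ≤ a) : Odd (q ^ a + 1) :=
  Even.add_one ((Nat.even_pow.2 ⟨hq, by omega⟩))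

theorem odd_pow_sub_one (hq : Even q) (hq2 : 2 ≤ q) (a : ℕ) (ha : 1 ≤ a) : Odd (q ^ a - 1) := by
  have h1 : Even (q ^ a) := Nat.even_pow.2 ⟨hq, by omega⟩
  have h2 : 1 ≤ q ^ a := Nat.one_le_pow _ _ (by omega)
  exact Nat.Even.sub_odd h2 h1 odd_one

theorem odd_add_one (hq : Even q) : Odd (q + 1) := Even.add_one hq

theorem odd_sub_one (hq : Even q) (hq2 : 2 ≤ q) : Odd (q - 1) :=
  Nat.Even.sub_odd (by omega) hq odd_one

theorem cop_a (hq : Even q) (hq2 : 2 ≤ q) : Nat.Coprime (q ^ 2 - 1) (q ^ 2 + 1) := by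
  apply coprime_of_odd_of_sub (odd_pow_sub_one hq hq2 2 (by norm_num)) dvd_rfl dvd_rfl
  right
  have : 1 ≤ q ^ 2 := Nat.one_le_pow _ _ (by omega)
  omega

theorem cop_b (hq : Even q) (hq2 : 2 ≤ q) : Nat.Coprime (q - 1) (q ^ 3 + 1) := by
  apply coprime_of_odd_of_sub (odd_sub_one hq hq2)
    (Dvd.intro (q ^ 2 + q + 1) rfl : q - 1 ∣ (q - 1) * (q ^ 2 + q + 1)) dvd_rfl
  right
  have h1 : 1 ≤ q := by omega
  zify [h1]
  ring

theorem cop_c (hq : Even q) (hq2 : 2 ≤ q) : Nat.Coprime (q ^ 3 - 1) (q + 1) := by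
  have h3 : 1 ≤ q ^ 3 := Nat.one_le_pow _ _ (by omega)
  apply coprime_of_odd_of_sub (odd_pow_sub_one hq hq2 3 (by norm_num)) dvd_rfl
    (Dvd.intro (q ^ 2 - q + 1) rfl : q + 1 ∣ (q + 1) * (q ^ 2 - q + 1))
  right
  have h1 : q ≤ q ^ 2 := by nlinarith
  zify [h3, h1]
  ring

theorem cop_d (hq : Even q) (hq2 : 2 ≤ q) : Nat.Coprime (q ^ 2 + 1) (q + 1) := by
  apply coprime_of_odd_of_sub (odd_pow_add_one hq 2 (by norm_num)) dvd_rfl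
    (Dvd.intro (q - 1) rfl : q + 1 ∣ (q + 1) * (q - 1))
  left
  have h1 : 1 ≤ q := by omega
  zify [h1]
  ring

theorem cop_e (hq : Even q) (hq2 : 2 ≤ q) : Nat.Coprime (q ^ 2 + 1) (q - 1) := by
  apply coprime_of_odd_of_sub (odd_pow_add_one hq 2 (by norm_num)) dvd_rfl
    (Dvd.intro_left (q + 1) rfl : q - 1 ∣ (q + 1) * (q - 1))
  left
  have h1 : 1 ≤ q := by omega
  zify [h1]
  ring

theorem cop_f (hq : Even q) (hq2 : 2 ≤ q) : Nat.Coprime (q - 1) (q + 1) := by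
  apply coprime_of_odd_of_sub (odd_sub_one hq hq2) dvd_rfl dvd_rfl
  right
  omega

theorem cop_two {x : ℕ} (hx : Odd x) (k : ℕ) : Nat.Coprime (2 ^ k) x :=
  Nat.Coprime.pow_left k (Nat.coprime_two_left.2 hx)

/-- the divisibilities for the twelve assemblies -/
theorem dvd_2 (hq : Even q) (hq2 : 2 ≤ q) : q ^ 4 - 1 ∣ Nat.lcm (q ^ 2 - 1) (q ^ 2 + 1) := by
  refine Dvd.dvd.trans ?_ (mul_dvd_lcm (cop_a hq hq2))
  have h1 : 1 ≤ q ^ 2 := Nat.one_le_pow _ _ (by omega)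
  have h4 : 1 ≤ q ^ 4 := Nat.one_le_pow _ _ (by omega)
  have : (q ^ 2 - 1) * (q ^ 2 + 1) = q ^ 4 - 1 := by
    zify [h1, h4]
    ring
  rw [this]

theorem dvd_3 (hq : Even q) (hq2 : 2 ≤ q) :
    (q ^ 3 + 1) * (q - 1) ∣ Nat.lcm (q - 1) (q ^ 3 + 1) := by
  rw [mul_comm]
  exact mul_dvd_lcm (cop_b hq hq2)

theorem dvd_4 (hq : Even q) (hq2 : 2 ≤ q) :
    (q ^ 3 - 1) * (q + 1) ∣ Nat.lcm (q ^ 3 - 1) (q + 1) :=
  mul_dvd_lcm (cop_c hq hq2)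

theorem dvd_5 (hq : Even q) : 2 * (q ^ 3 + 1) ∣ Nat.lcm 2 (q ^ 3 + 1) :=
  mul_dvd_lcm (cop_two (odd_pow_add_one hq 3 (by norm_num)) 1)

theorem dvd_6 (hq : Even q) (hq2 : 2 ≤ q) : 2 * (q ^ 3 - 1) ∣ Nat.lcm (q ^ 3 - 1) 2 := by
  rw [Nat.lcm_comm]
  exact mul_dvd_lcm (cop_two (odd_pow_sub_one hq hq2 3 (by norm_num)) 1)

theorem dvd_7 (hq : Even q) (hq2 : 2 ≤ q) :
    2 * ((q ^ 2 + 1) * (q + 1)) ∣ Nat.lcm (Nat.lcm (q ^ 2 + 1) (q + 1)) 2 := by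
  have hodd : Odd ((q ^ 2 + 1) * (q + 1)) :=
    (odd_pow_add_one hq 2 (by norm_num)).mul (odd_add_one hq)
  apply Nat.Coprime.mul_dvd_of_dvd_of_dvd (cop_two hodd 1)
  · exact Nat.dvd_lcm_right _ _
  · exact (mul_dvd_lcm (cop_d hq hq2)).trans (Nat.dvd_lcm_left _ _)

theorem dvd_8 (hq : Even q) (hq2 : 2 ≤ q) :
    2 * ((q ^ 2 + 1) * (q - 1)) ∣ Nat.lcm (Nat.lcm (q - 1) 2) (q ^ 2 + 1) := by
  have hodd : Odd ((q ^ 2 + 1) * (q - 1)) :=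
    (odd_pow_add_one hq 2 (by norm_num)).mul (odd_sub_one hq hq2)
  apply Nat.Coprime.mul_dvd_of_dvd_of_dvd (cop_two hodd 1)
  · exact (Nat.dvd_lcm_right _ _).trans (Nat.dvd_lcm_left _ _)
  · apply Nat.Coprime.mul_dvd_of_dvd_of_dvd (cop_e hq hq2)
    · exact Nat.dvd_lcm_right _ _
    · exact (Nat.dvd_lcm_left _ _).trans (Nat.dvd_lcm_left _ _)

theorem dvd_9 (hq : Even q) : 4 * (q ^ 2 + 1) ∣ Nat.lcm 4 (q ^ 2 + 1) :=
  mul_dvd_lcm (cop_two (odd_pow_add_one hq 2 (by norm_num)) 2)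

theorem dvd_10 (hq : Even q) (hq2 : 2 ≤ q) :
    4 * (q ^ 2 - 1) ∣ Nat.lcm (Nat.lcm (q - 1) 4) (q + 1) := by
  have h1 : 1 ≤ q ^ 2 := Nat.one_le_pow _ _ (by omega)
  have h0 : 1 ≤ q := by omega
  have e : q ^ 2 - 1 = (q - 1) * (q + 1) := by
    zify [h1, h0]
    ring
  rw [e]
  have hodd : Odd ((q - 1) * (q + 1)) := (odd_sub_one hq hq2).mul (odd_add_one hq)
  apply Nat.Coprime.mul_dvd_of_dvd_of_dvd (cop_two hodd 2)
  · exact (Nat.dvd_lcm_right _ _).trans (Nat.dvd_lcm_left _ _)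
  · apply Nat.Coprime.mul_dvd_of_dvd_of_dvd (cop_f hq hq2)
    · exact (Nat.dvd_lcm_left _ _).trans (Nat.dvd_lcm_left _ _)
    · exact Nat.dvd_lcm_right _ _

theorem dvd_11 (hq : Even q) : 8 * (q + 1) ∣ Nat.lcm 8 (q + 1) :=
  mul_dvd_lcm (cop_two (odd_add_one hq) 3)

theorem dvd_12 (hq : Even q) (hq2 : 2 ≤ q) : 8 * (q - 1) ∣ Nat.lcm (q - 1) 8 := by
  rw [Nat.lcm_comm]
  exact mul_dvd_lcm (cop_two (odd_sub_one hq hq2) 3)

end even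

end Cfsg.Agent.Lib.Helper40_S8Arith
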