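import Mathlib
import Cfsg.Agent.Lib.Helper40_S8Defs
import Cfsg.Agent.Lib.Helper40_SpProj4
import Cfsg.Agent.Lib.Helper14_POmegaSimple

set_option autoImplicit false

/-!
In characteristic two the isometry group of a nondegenerate quadratic form in dimension `2 n`
embeds into `Sp_{2n}(q)`: the element orders of `O₈⁻(q)` are element orders of `PSp₈(q)`.
-/

namespace Cfsg.Agent.Lib.Helper40_S8Embed

open Module Cfsg.Agent.Lib.Helper40_S8Defs Cfsg.Agent.Lib.Helper40_OClasses
  Cfsg.Agent.Lib.Helper44_StdForms Cfsg.Agent.Lib.Helper44_Orth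
  Cfsg.Agent.Lib.Helper40_SpProj Cfsg.Agent.Lib.Helper40_SpProj4

universe v

variable {F : Type v} [Field F]

theorem two_eq_zero' [CharP F 2] : (2 : F) = 0 := by
  have := CharP.cast_eq_zero F 2
  exact_mod_cast this

theorem eq_one_of_sq_eq_one [CharP F 2] {s : F} (h : s * s = 1) : s = 1 := by
  have h2 : (2 : F) = 0 := two_eq_zero'
  have h1 : (s - 1) * (s - 1) = 0 := by linear_combination h + (1 - s) * h2
  have := mul_self_eq_zero.1 h1
  exact sub_eq_zero.1 this

/-- an isometry of a nondegenerate quadratic space of dimension `2 n` in characteristic two is a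
symplectic element of the same order -/
theorem inSpecSp_of_isom [Finite F] [CharP F 2] {V : Type v} [AddCommGroup V] [Module F V]
    [Module.Finite F V] (Q : QuadraticForm F V) (hQ : (QuadraticMap.polarBilin Q).Nondegenerate)
    (n : ℕ) (hV : finrank F V = 2 * n) (v₁ : V) (hv₁ : Q v₁ = 1) (T : Module.End F V)
    (hT : ∀ v, Q (T v) = Q v) (hpos : 0 < orderOf T) : InSpecSp (Fin n) F (orderOf T) := by
  have h2 : (2 : F) = 0 := two_eq_zero'
  apply HasSpPOrd.inSpecSp
  refine ⟨V, inferInstance, inferInstance, inferInstance, QuadraticMap.polarBilin Q, T, hQ, ?_, ?_,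
    hV, hpos, fun j => ?_⟩
  · intro x
    rw [QuadraticMap.polarBilin_apply_apply, QuadraticMap.polar_self, two_nsmul]
    have : Q x + Q x = 2 * Q x := by ring
    rw [this, h2, zero_mul]
  · intro x y
    rw [QuadraticMap.polarBilin_apply_apply, QuadraticMap.polarBilin_apply_apply,
      QuadraticMap.polar, QuadraticMap.polar, ← map_add, hT, hT, hT]
  · have hpowiso : ∀ k : ℕ, ∀ v, Q ((T ^ k) v) = Q v := by
      intro k
      induction k with
      | zero => intro v; rfl
      | succ k ih =>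
        intro v
        rw [pow_succ, Module.End.mul_apply, ih, hT]
    constructor
    · rintro ⟨s, hs⟩
      have h1 := hpowiso j v₁
      rw [hs, LinearMap.smul_apply, Module.End.one_apply, QuadraticMap.map_smul, hv₁, smul_eq_mul,
        mul_one] at h1
      have hs1 : s = 1 := eq_one_of_sq_eq_one h1
      rw [hs1, one_smul] at hs
      exact orderOf_dvd_of_pow_eq_one hs
    · intro h
      exact ⟨1, by rw [one_smul]; exact orderOf_dvd_iff_pow_eq_one.1 h⟩

/-- the element orders of `O₈⁻(q)` are element orders of `PSp₈(q)` -/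
theorem range_subset [Fintype F] [CharP F 2] (a b : F)
    (han : ∀ z₁ z₂ : F, z₁ ^ 2 + a * z₁ * z₂ + b * z₂ ^ 2 = 0 → z₁ = 0 ∧ z₂ = 0) :
    Set.range (orderOf : ↥(Cfsg.isometryGroup F (Cfsg.quadFormMinus 3 F a b)) → ℕ) ⊆
      Set.range (orderOf : Cfsg.PSp 4 F → ℕ) := by
  rw [← coe_qfMinus]
  rintro _ ⟨g, rfl⟩
  rw [mem_range_orderOf_psp_iff]
  obtain ⟨T, hT, hord⟩ := hasIsom_of_mem (qfMinus 3 F a b) g
  have hfin : Finite ↥(Cfsg.isometryGroup F ⇑(qfMinus 3 F a b)) := by
    have : Finite (Matrix.GeneralLinearGroup ((Fin 3 ⊕ Fin 3) ⊕ Fin 2) F) :=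
      Finite.of_injective _ Units.val_injective
    exact Subtype.finite
  have hpos : 0 < orderOf g := orderOf_pos g
  rw [← hord] at hpos ⊢
  refine inSpecSp_of_isom (qfMinus 3 F a b)
    (Cfsg.Agent.Lib.Helper14_POmegaSimple.nondegenerate_qfMinus 3 a b han) 4 ?_
    (Pi.single (Sum.inr 0) 1) ?_ T hT hpos
  · rw [Module.finrank_fintype_fun_eq_card, Fintype.card_sum, Fintype.card_sum, Fintype.card_fin,
      Fintype.card_fin]
  · have := congrFun (coe_qfMinus 3 F a b) (Pi.single (Sum.inr 0) 1)
    rw [this, Cfsg.quadFormMinus]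
    simp
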