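import Mathlib
import Cfsg.Agent.Lib.Helper40_S8Defs
import Cfsg.Agent.Lib.Helper40_S8Types
import Cfsg.Agent.Lib.Helper40_S8Arith

set_option autoImplicit false

/-!
Assembly of the lower bound: from the building blocks (tori and small unipotent isometries) every
one of the twelve numbers is the order of an isometry of the minus form in dimension eight.
-/

namespace Cfsg.Agent.Lib.Helper40_S8Lower

open Module Cfsg.Agent.Lib.Helper40_S8Defs Cfsg.Agent.Lib.Helper40_S8Types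
  Cfsg.Agent.Lib.Helper40_S8Arith Cfsg.Agent.Lib.Helper44_StdForms

universe v

variable {F : Type v} [Field F] [Fintype F] [CharP F 2]

theorem lower (a b : F)
    (han : ∀ z₁ z₂ : F, z₁ ^ 2 + a * z₁ * z₂ + b * z₂ ^ 2 = 0 → z₁ = 0 ∧ z₂ = 0)
    (hB1 : ∀ d : ℕ, 1 ≤ d → HasIsom (qfMinus (d - 1) F a b) (Fintype.card F ^ d + 1))
    (hB2 : ∀ d : ℕ, 1 ≤ d → HasIsom (qfPlus d F) (Fintype.card F ^ d - 1))
    (hB3 : HasIsom (qfPlus 1 F) 2 ∧ HasIsom (qfMinus 0 F a b) 2 ∧ HasIsom (qfPlus 2 F) 4 ∧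
      HasIsom (qfPlus 3 F) 8)
    (hB5 : HasIsom (qfMinus 2 F a b) 8) :
    ∀ N ∈ twelve (Fintype.card F), HasIsom (qfMinus 3 F a b) N := by
  set q := Fintype.card F with hqdef
  have hq2 : 2 ≤ q := Fintype.one_lt_card
  have hq : Even q := by
    have h2 : ringChar F = 2 := ringChar.eq F 2
    exact Nat.even_iff.2 (FiniteField.even_card_of_char_two h2)
  obtain ⟨hP2, hM2, hP4, hP8⟩ := hB3
  have t1m := hB1 1 le_rfl
  have t2m := hB1 2 (by norm_num)
  have t3m := hB1 3 (by norm_num)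
  have t4m := hB1 4 (by norm_num)
  have t1p := hB2 1 le_rfl
  have t2p := hB2 2 (by norm_num)
  have t3p := hB2 3 (by norm_num)
  rw [pow_one] at t1m t1p
  have pos_lcm : ∀ {x y : ℕ}, 0 < x → 0 < y → 0 < Nat.lcm x y := fun hx hy => Nat.lcm_pos hx hy
  have p1 : 0 < q - 1 := by omega
  have p2 : 0 < q ^ 2 - 1 := (odd_pow_sub_one hq hq2 2 (by norm_num)).pos
  have p3 : 0 < q ^ 3 - 1 := (odd_pow_sub_one hq hq2 3 (by norm_num)).pos
  intro N hN
  simp only [twelve, List.mem_cons, List.not_mem_nil, or_false] at hN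
  rcases hN with rfl | rfl | rfl | rfl | rfl | rfl | rfl | rfl | rfl | rfl | rfl | rfl
  · exact t4m
  · exact (hasIsom_plus_minus (m := 2) (k := 1) a b han t2p t2m).of_dvd
      (pos_lcm p2 (Nat.succ_pos _)) (dvd_2 hq hq2)
  · exact (hasIsom_plus_minus (m := 1) (k := 2) a b han t1p t3m).of_dvd
      (pos_lcm p1 (Nat.succ_pos _)) (dvd_3 hq hq2)
  · exact (hasIsom_plus_minus (m := 3) (k := 0) a b han t3p t1m).of_dvd
      (pos_lcm p3 (Nat.succ_pos _)) (dvd_4 hq hq2)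
  · exact (hasIsom_plus_minus (m := 1) (k := 2) a b han hP2 t3m).of_dvd
      (pos_lcm (by norm_num) (Nat.succ_pos _)) (dvd_5 hq)
  · exact (hasIsom_plus_minus (m := 3) (k := 0) a b han t3p hM2).of_dvd
      (pos_lcm p3 (by norm_num)) (dvd_6 hq hq2)
  · have h1 := hasIsom_minus_minus (m := 1) (k := 0) a b han t2m t1m
    exact (hasIsom_plus_minus (m := 3) (k := 0) a b han h1 hM2).of_dvd
      (pos_lcm (pos_lcm (Nat.succ_pos _) (Nat.succ_pos _)) (by norm_num)) (dvd_7 hq hq2)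
  · have h1 := hasIsom_plus_plus (m := 1) (k := 1) (by norm_num) t1p hP2
    exact (hasIsom_plus_minus (m := 2) (k := 1) a b han h1 t2m).of_dvd
      (pos_lcm (pos_lcm p1 (by norm_num)) (Nat.succ_pos _)) (dvd_8 hq hq2)
  · exact (hasIsom_plus_minus (m := 2) (k := 1) a b han hP4 t2m).of_dvd
      (pos_lcm (by norm_num) (Nat.succ_pos _)) (dvd_9 hq)
  · have h1 := hasIsom_plus_plus (m := 1) (k := 2) (by norm_num) t1p hP4
    exact (hasIsom_plus_minus (m := 3) (k := 0) a b han h1 t1m).of_dvd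
      (pos_lcm (pos_lcm p1 (by norm_num)) (Nat.succ_pos _)) (dvd_10 hq hq2)
  · exact (hasIsom_plus_minus (m := 3) (k := 0) a b han hP8 t1m).of_dvd
      (pos_lcm (by norm_num) (Nat.succ_pos _)) (dvd_11 hq)
  · exact (hasIsom_plus_minus (m := 1) (k := 2) a b han t1p hB5).of_dvd
      (pos_lcm p1 (by norm_num)) (dvd_12 hq hq2)

end Cfsg.Agent.Lib.Helper40_S8Lower
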