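import Mathlib
import Cfsg.Agent.Lib.Helper40_S8Defs
import Cfsg.Agent.Lib.Helper40_OrdPoly
import Cfsg.Agent.Lib.Helper40_OrdOrth
import Cfsg.Agent.Lib.Helper40_SpProj

set_option autoImplicit false

/-!
Peeling the characteristic polynomial of an element of `Sp₈(q)`, `q` even: the element is killed by
`2 ^ e * L` where `L` is an lcm of numbers `q ^ a ± 1` whose exponents add up to `S ≤ 4 - e`.
-/

namespace Cfsg.Agent.Lib.Helper40_S8Peel

open Polynomial Cfsg.Agent.Lib.Helper40_S8Defs Cfsg.Agent.Lib.Helper40_OrdPoly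
  Cfsg.Agent.Lib.Helper40_Palindromic

theorem Tor.pos {q L S : ℕ} (hq : 2 ≤ q) (h : Tor q L S) : 0 < L := by
  induction h with
  | one => exact one_pos
  | sub a _ ha ih =>
    have hpos : 0 < q ^ a - 1 := by
      have : 2 ^ 1 ≤ q ^ a :=
        (Nat.pow_le_pow_left hq 1).trans (Nat.pow_le_pow_right (by omega) ha)
      omega
    exact Nat.lcm_pos ih hpos
  | add a _ _ ih => exact Nat.lcm_pos ih (Nat.succ_pos _)

section inv

variable {F : Type*} [Field F]

/-- the peeling invariant in characteristic two -/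
structure Inv2 (q : ℕ) (χ : F[X]) (L S E A : ℕ) (ρ : F[X]) : Prop where
  hE : 1 ≤ E
  hdvd : χ ∣ (X - 1) ^ A * ρ ^ E
  hρ : ρ ∣ X ^ L - 1
  hc1 : IsCoprime ρ (X - 1)
  htor : Tor q L S
  hdeg : A + 2 * S + 2 * (E - 1) ≤ χ.natDegree

theorem Inv2.one (q : ℕ) : Inv2 q (1 : F[X]) 1 0 1 0 1 where
  hE := le_refl _
  hdvd := by simp
  hρ := one_dvd _
  hc1 := isCoprime_one_left
  htor := Tor.one
  hdeg := by simp

theorem Inv2.mul_X_sub_one {q : ℕ} {χ : F[X]} {L S E A : ℕ} {ρ : F[X]}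
    (h : Inv2 q χ L S E A ρ) (hχ : χ.Monic) : Inv2 q ((X - 1) * χ) L S E (A + 1) ρ where
  hE := h.hE
  hdvd := by
    have : (X - 1 : F[X]) ^ (A + 1) * ρ ^ E = (X - 1) * ((X - 1) ^ A * ρ ^ E) := by ring
    rw [this]
    exact mul_dvd_mul_left _ h.hdvd
  hρ := h.hρ
  hc1 := h.hc1
  htor := h.htor
  hdeg := by
    rw [monic_X_sub_one.natDegree_mul hχ, natDegree_X_sub_one]
    have := h.hdeg
    omega

theorem Inv2.step_old {q : ℕ} {χ : F[X]} {L S E A : ℕ} {ρ : F[X]}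
    (h : Inv2 q χ L S E A ρ) (hχ : χ.Monic) (g : F[X]) (hgm : g.Monic) (hg : g ∣ X ^ L - 1)
    (hg1 : IsCoprime g (X - 1)) (hgd : 2 ≤ g.natDegree) :
    ∃ ρ' : F[X], Inv2 q (g * χ) L S (E + 1) A ρ' := by
  classical
  refine ⟨EuclideanDomain.lcm ρ g, ?_⟩
  have hρl : ρ ∣ EuclideanDomain.lcm ρ g := EuclideanDomain.dvd_lcm_left _ _
  have hgl : g ∣ EuclideanDomain.lcm ρ g := EuclideanDomain.dvd_lcm_right _ _
  have hlm : EuclideanDomain.lcm ρ g ∣ ρ * g := by
    rw [← EuclideanDomain.gcd_mul_lcm]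
    exact dvd_mul_left _ _
  refine ⟨by omega, ?_, EuclideanDomain.lcm_dvd h.hρ hg, ?_, h.htor, ?_⟩
  · have h1 : g * χ ∣ g * ((X - 1) ^ A * ρ ^ E) := mul_dvd_mul_left _ h.hdvd
    refine h1.trans ?_
    have h2 : g * ((X - 1) ^ A * ρ ^ E) = (X - 1) ^ A * (g * ρ ^ E) := by ring
    rw [h2, pow_succ']
    exact mul_dvd_mul_left _ (mul_dvd_mul hgl (pow_dvd_pow_of_dvd hρl E))
  · exact IsCoprime.of_isCoprime_of_dvd_left (h.hc1.mul_left hg1) hlm
  · rw [hgm.natDegree_mul hχ]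
    have := h.hdeg
    have := h.hE
    omega

theorem Inv2.step_new {q : ℕ} {χ : F[X]} {L S E A : ℕ} {ρ : F[X]}
    (h : Inv2 q χ L S E A ρ) (hχ : χ.Monic) (g : F[X]) (hgm : g.Monic) (G s : ℕ)
    (hg : g ∣ X ^ G - 1) (hgρ : IsCoprime g ρ) (hg1 : IsCoprime g (X - 1))
    (hgd : g.natDegree = 2 * s) (htor : Tor q (Nat.lcm L G) (S + s)) :
    Inv2 q (g * χ) (Nat.lcm L G) (S + s) E A (ρ * g) where
  hE := h.hE
  hdvd := by
    have h1 : g * χ ∣ g * ((X - 1) ^ A * ρ ^ E) := mul_dvd_mul_left _ h.hdvd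
    refine h1.trans ?_
    have h2 : g * ((X - 1) ^ A * ρ ^ E) = (X - 1) ^ A * (ρ ^ E * g) := by ring
    rw [h2, mul_pow]
    have hE := h.hE
    exact mul_dvd_mul_left _ (mul_dvd_mul_left _ (dvd_pow_self g (by omega)))
  hρ := by
    have h1 : ρ ∣ X ^ (Nat.lcm L G) - 1 :=
      h.hρ.trans (X_pow_sub_one_dvd_of_dvd (Nat.dvd_lcm_left _ _))
    have h2 : g ∣ X ^ (Nat.lcm L G) - 1 :=
      hg.trans (X_pow_sub_one_dvd_of_dvd (Nat.dvd_lcm_right _ _))
    exact hgρ.symm.mul_dvd h1 h2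
  hc1 := h.hc1.mul_left hg1
  htor := htor
  hdeg := by
    rw [hgm.natDegree_mul hχ, hgd]
    have := h.hdeg
    omega

end inv

section peel

variable {F : Type*} [Field F] [Fintype F]

omit [Fintype F] in
theorem X_add_one_eq [CharP F 2] : (X + 1 : F[X]) = X - 1 := by
  have h3 : ((2 : ℕ) : F[X]) = 0 := CharP.cast_eq_zero _ 2
  have h4 : (2 : F[X]) = 0 := by exact_mod_cast h3
  linear_combination h4

/-- every monic self-reciprocal polynomial admits peeling data (characteristic two) -/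
theorem exists_inv2 [CharP F 2] : ∀ n : ℕ, ∀ χ : F[X], χ.Monic → χ.coeff 0 ≠ 0 → recip χ = χ →
    χ.natDegree ≤ n → ∃ (L S E A : ℕ) (ρ : F[X]), Inv2 (Fintype.card F) χ L S E A ρ := by
  have hq2 : 2 ≤ Fintype.card F := Fintype.one_lt_card
  intro n
  induction n with
  | zero =>
    intro χ hm h0 hr hd
    have h1 : χ = 1 := hm.natDegree_eq_zero.1 (by omega)
    subst h1
    exact ⟨1, 0, 1, 0, 1, Inv2.one _⟩
  | succ n ih =>
    intro χ hm h0 hr hd
    by_cases hdn : χ.natDegree ≤ n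
    · exact ih χ hm h0 hr hdn
    have hdeg : χ.natDegree = n + 1 := by omega
    have hnu : ¬ IsUnit χ := by
      intro hu
      have := natDegree_eq_zero_of_isUnit hu
      omega
    obtain ⟨f, hfm, hfi, hfχ⟩ := exists_monic_irreducible_factor χ hnu
    have hf0 : f.coeff 0 ≠ 0 := by
      obtain ⟨c, rfl⟩ := hfχ
      rw [mul_coeff_zero] at h0
      exact left_ne_zero_of_mul h0
    have hfd : 1 ≤ f.natDegree := hfi.natDegree_pos
    have peel1 : recip f = f → ∃ χ' : F[X], χ = f * χ' ∧ χ'.Monic ∧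
        ∃ (L S E A : ℕ) (ρ : F[X]), Inv2 (Fintype.card F) χ' L S E A ρ := by
      intro hrf
      obtain ⟨χ', rfl⟩ := hfχ
      have hm' : χ'.Monic := hfm.of_mul_monic_left hm
      have h0' : χ'.coeff 0 ≠ 0 := by
        rw [mul_coeff_zero] at h0
        exact right_ne_zero_of_mul h0
      have hr' : recip χ' = χ' := by
        rw [recip_mul, hrf] at hr
        exact mul_left_cancel₀ hfi.ne_zero hr
      have hd' : χ'.natDegree ≤ n := by
        rw [hfm.natDegree_mul hm'] at hdeg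
        omega
      exact ⟨χ', rfl, hm', ih χ' hm' h0' hr' hd'⟩
    by_cases hf1 : f = X - 1
    · obtain ⟨χ', rfl, hm', L, S, E, A, ρ, hI⟩ := peel1 (by rw [hf1, recip_X_sub_one])
      rw [hf1]
      exact ⟨L, S, E, A + 1, ρ, hI.mul_X_sub_one hm'⟩
    have hc1 : IsCoprime f (X - 1) :=
      coprime_of_ne hfm monic_X_sub_one hfi irreducible_X_sub_one hf1
    by_cases hrf : recip f = f
    · obtain ⟨χ', rfl, hm', L, S, E, A, ρ, hI⟩ := peel1 hrf
      rcases self_recip_cases f hfm hfi hf0 hrf with h | h | ⟨δ, hδ, hfd2, hfdvd⟩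
      · exact absurd h hf1
      · exact absurd (h.trans X_add_one_eq) hf1
      by_cases hfL : f ∣ X ^ L - 1
      · obtain ⟨ρ', hI'⟩ := hI.step_old hm' f hfm hfL hc1 (by omega)
        exact ⟨L, S, E + 1, A, ρ', hI'⟩
      · have hfρ : IsCoprime f ρ :=
          (hfi.coprime_iff_not_dvd).2 (fun h => hfL (h.trans hI.hρ))
        exact ⟨_, _, E, A, _, hI.step_new hm' f hfm (Fintype.card F ^ δ + 1) δ hfdvd hfρ
          hc1 hfd2 (Tor.add δ hI.htor hδ)⟩
    · -- a pair `f`, `recip f`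
      have hfm' : (recip f).Monic := recip_monic f hf0
      have hfi' : Irreducible (recip f) := irreducible_recip f hfi hf0
      have hf'χ : recip f ∣ χ := by
        rw [← hr]
        exact recip_dvd hfχ
      have hrr : recip (recip f) = f := recip_recip f hfm hf0
      have hcop : IsCoprime f (recip f) := coprime_of_ne hfm hfm' hfi hfi' (Ne.symm hrf)
      have hf'0 : (recip f).coeff 0 ≠ 0 := by
        rw [recip_coeff_zero f hfm]
        exact inv_ne_zero hf0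
      have hf'd : (recip f).natDegree = f.natDegree := recip_natDegree f hf0
      have hc1' : IsCoprime (recip f) (X - 1) := by
        apply coprime_of_ne hfm' monic_X_sub_one hfi' irreducible_X_sub_one
        intro h
        exact hf1 (by rw [← hrr, h, recip_X_sub_one])
      obtain ⟨χ', rfl⟩ := hcop.mul_dvd hfχ hf'χ
      have hgm : (f * recip f).Monic := hfm.mul hfm'
      have hm' : χ'.Monic := hgm.of_mul_monic_left hm
      have h0' : χ'.coeff 0 ≠ 0 := by
        rw [mul_coeff_zero] at h0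
        exact right_ne_zero_of_mul h0
      have hr' : recip χ' = χ' := by
        rw [recip_mul, recip_mul, hrr, mul_comm (recip f) f] at hr
        exact mul_left_cancel₀ hgm.ne_zero hr
      have hgd : (f * recip f).natDegree = 2 * f.natDegree := by
        rw [hfm.natDegree_mul hfm', hf'd]
        ring
      have hd' : χ'.natDegree ≤ n := by
        rw [hgm.natDegree_mul hm', hgd] at hdeg
        omega
      obtain ⟨L, S, E, A, ρ, hI⟩ := ih χ' hm' h0' hr' hd'
      have hLpos : 0 < L := Tor.pos hq2 hI.htor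
      have hB1 := dvd_X_pow_card_pow_sub_one f hfm hfi hf0
      have hB1' := dvd_X_pow_card_pow_sub_one (recip f) hfm' hfi' hf'0
      rw [hf'd] at hB1'
      by_cases hfL : f ∣ X ^ L - 1
      · have hfL' : recip f ∣ X ^ L - 1 := dvd_X_pow_sub_one_recip L hLpos hfL
        obtain ⟨ρ', hI'⟩ := hI.step_old hm' (f * recip f) hgm (hcop.mul_dvd hfL hfL')
          (hc1.mul_left hc1') (by omega)
        exact ⟨L, S, E + 1, A, ρ', hI'⟩
      · have hfL' : ¬ recip f ∣ X ^ L - 1 := by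
          intro h
          apply hfL
          have := dvd_X_pow_sub_one_recip L hLpos h
          rwa [hrr] at this
        have hfρ : IsCoprime f ρ :=
          (hfi.coprime_iff_not_dvd).2 (fun h => hfL (h.trans hI.hρ))
        have hfρ' : IsCoprime (recip f) ρ :=
          (hfi'.coprime_iff_not_dvd).2 (fun h => hfL' (h.trans hI.hρ))
        exact ⟨_, _, E, A, _, hI.step_new hm' (f * recip f) hgm
          (Fintype.card F ^ f.natDegree - 1) f.natDegree (hcop.mul_dvd hB1 hB1')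
          (hfρ.mul_left hfρ') (hc1.mul_left hc1') hgd (Tor.sub f.natDegree hI.htor hfd)⟩

/-- a monic self-reciprocal polynomial of degree `8` divides `X ^ (2 ^ e * L) - 1` with
`Tor q L S`, `e ≤ 3`, `e + S ≤ 4` -/
theorem poly_eight [CharP F 2] (χ : F[X]) (hχm : χ.Monic) (h0 : χ.coeff 0 ≠ 0)
    (hr : recip χ = χ) (hn : χ.natDegree = 8) :
    ∃ e L S : ℕ, Tor (Fintype.card F) L S ∧ e ≤ 3 ∧ e + S ≤ 4 ∧ χ ∣ X ^ (2 ^ e * L) - 1 := by
  have hq2 : 2 ≤ Fintype.card F := Fintype.one_lt_card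
  have : Fact (Nat.Prime 2) := ⟨Nat.prime_two⟩
  obtain ⟨L, S, E, A, ρ, hI⟩ := exists_inv2 χ.natDegree χ hχm h0 hr le_rfl
  have hdeg := hI.hdeg
  rw [hn] at hdeg
  have hE := hI.hE
  have hLpos := Tor.pos hq2 hI.htor
  have K3 : ∀ i : ℕ, (X ^ L - 1 : F[X]) ^ (2 ^ i) = X ^ (2 ^ i * L) - 1 := by
    intro i
    rw [sub_pow_char_pow, one_pow, ← pow_mul, mul_comm]
  have key : ∀ e : ℕ, A ≤ 2 ^ e → E ≤ 2 ^ e → χ ∣ X ^ (2 ^ e * L) - 1 := by
    intro e hA hEe
    refine hI.hdvd.trans ?_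
    rw [← K3]
    have h1 : (X - 1 : F[X]) ∣ X ^ L - 1 := by
      have := X_pow_sub_one_dvd_of_dvd (F := F) (one_dvd L)
      rwa [pow_one] at this
    have h2 : (X - 1 : F[X]) * ρ ∣ X ^ L - 1 := hI.hc1.symm.mul_dvd h1 hI.hρ
    have h3 : (X - 1 : F[X]) ^ A * ρ ^ E ∣ ((X - 1) * ρ) ^ (2 ^ e) := by
      rw [mul_pow]
      exact mul_dvd_mul (pow_dvd_pow _ hA) (pow_dvd_pow _ hEe)
    exact h3.trans (pow_dvd_pow_of_dvd h2 _)
  by_cases c0 : A ≤ 1 ∧ E ≤ 1
  · exact ⟨0, L, S, hI.htor, by omega, by omega, key 0 (by omega) (by omega)⟩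
  by_cases c1 : A ≤ 2 ∧ E ≤ 2
  · exact ⟨1, L, S, hI.htor, by omega, by omega, key 1 (by omega) (by omega)⟩
  by_cases c2 : A ≤ 4 ∧ E ≤ 4
  · exact ⟨2, L, S, hI.htor, by omega, by omega, key 2 (by omega) (by omega)⟩
  · exact ⟨3, L, S, hI.htor, by omega, by omega, key 3 (by omega) (by omega)⟩

end peel

section matrix

variable {F : Type*} [Field F] [Fintype F]

open Cfsg.Agent.Lib.Helper40_SpProj

/-- an element of `Sp₈(q)`, `q` even, is killed by `2 ^ e * L` -/
theorem sp_eight [CharP F 2] (M : Matrix (Fin 4 ⊕ Fin 4) (Fin 4 ⊕ Fin 4) F) (hM : IsSpM M) :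
    ∃ e L S : ℕ, Tor (Fintype.card F) L S ∧ e ≤ 3 ∧ e + S ≤ 4 ∧ M ^ (2 ^ e * L) = 1 := by
  have hJ : (Matrix.J (Fin 4) F).det ≠ 0 := by
    have h1 : Matrix.J (Fin 4) F * -(Matrix.J (Fin 4) F) = 1 := J_mul_neg_J
    have h2 := congrArg Matrix.det h1
    rw [Matrix.det_mul, Matrix.det_one] at h2
    exact left_ne_zero_of_mul_eq_one h2
  have hMJ : M.transpose * Matrix.J (Fin 4) F * M = Matrix.J (Fin 4) F := by
    have h1 : -(Matrix.J (Fin 4) F) * M.transpose * Matrix.J (Fin 4) F * M = 1 := hM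
    have h3 : Matrix.J (Fin 4) F * -(Matrix.J (Fin 4) F) = 1 := J_mul_neg_J
    calc M.transpose * Matrix.J (Fin 4) F * M
        = (Matrix.J (Fin 4) F * -(Matrix.J (Fin 4) F)) * (M.transpose * Matrix.J (Fin 4) F * M) := by
          rw [h3, one_mul]
      _ = Matrix.J (Fin 4) F * (-(Matrix.J (Fin 4) F) * M.transpose * Matrix.J (Fin 4) F * M) := by
          simp only [Matrix.mul_assoc]
      _ = Matrix.J (Fin 4) F := by rw [h1, mul_one]
  have hrec := Cfsg.Agent.Lib.Helper40_OrdOrth.recip_charpoly_of_gram M (Matrix.J (Fin 4) F) hJ hMJ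
  have hdet : M.det ≠ 0 := hM.det_ne_zero
  have h0 : M.charpoly.coeff 0 ≠ 0 := by
    rw [Matrix.det_eq_sign_charpoly_coeff] at hdet
    exact right_ne_zero_of_mul hdet
  have hdeg : M.charpoly.natDegree = 8 := by
    rw [Matrix.charpoly_natDegree_eq_dim, Fintype.card_sum, Fintype.card_fin]
  obtain ⟨e, L, S, htor, he, hS, hdvd⟩ :=
    poly_eight M.charpoly (Matrix.charpoly_monic M) h0 hrec.1 hdeg
  refine ⟨e, L, S, htor, he, hS, ?_⟩
  obtain ⟨c, hc⟩ := hdvd
  have h1 := congrArg (aeval M) hc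
  rw [map_mul, Matrix.aeval_self_charpoly, zero_mul, map_sub, map_pow, aeval_X, map_one] at h1
  exact sub_eq_zero.1 h1

end matrix

end Cfsg.Agent.Lib.Helper40_S8Peel
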