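import Mathlib
import Cfsg.Agent.Lib.Helper40_S8Defs
import Cfsg.Agent.Lib.Helper40_S8Embed
import Cfsg.Agent.Lib.Helper40_S8Peel
import Cfsg.Agent.Lib.Helper40_S8Lower

set_option autoImplicit false

/-!
The spectra of `PSp₈(q)` and `O₈⁻(q)`, `q` even, coincide: both are the set of divisors of the twelve
numbers.  The building blocks enter as hypotheses.
-/

namespace Cfsg.Agent.Lib.Helper40_S8Main

open Module Cfsg.Agent.Lib.Helper40_S8Defs Cfsg.Agent.Lib.Helper40_S8Embed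
  Cfsg.Agent.Lib.Helper40_S8Peel Cfsg.Agent.Lib.Helper40_S8Lower Cfsg.Agent.Lib.Helper44_StdForms
  Cfsg.Agent.Lib.Helper40_SpProj Cfsg.Agent.Lib.Helper40_ProjOrd

universe v

variable {F : Type v} [Field F] [Fintype F] [CharP F 2]

theorem main (a b : F)
    (han : ∀ z₁ z₂ : F, z₁ ^ 2 + a * z₁ * z₂ + b * z₂ ^ 2 = 0 → z₁ = 0 ∧ z₂ = 0)
    (hA : ∀ {L S e : ℕ}, Tor (Fintype.card F) L S → e ≤ 3 → e + S ≤ 4 →
      ∃ N ∈ twelve (Fintype.card F), 2 ^ e * L ∣ N)
    (hB1 : ∀ d : ℕ, 1 ≤ d → HasIsom (qfMinus (d - 1) F a b) (Fintype.card F ^ d + 1))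
    (hB2 : ∀ d : ℕ, 1 ≤ d → HasIsom (qfPlus d F) (Fintype.card F ^ d - 1))
    (hB3 : HasIsom (qfPlus 1 F) 2 ∧ HasIsom (qfMinus 0 F a b) 2 ∧ HasIsom (qfPlus 2 F) 4 ∧
      HasIsom (qfPlus 3 F) 8)
    (hB5 : HasIsom (qfMinus 2 F a b) 8) :
    Set.range (orderOf : Cfsg.PSp 4 F → ℕ) =
      Set.range (orderOf : ↥(Cfsg.isometryGroup F (Cfsg.quadFormMinus 3 F a b)) → ℕ) := by
  apply Set.Subset.antisymm
  · intro n hn
    rw [mem_range_orderOf_psp_iff] at hn
    obtain ⟨M, hM, hord⟩ := hn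
    obtain ⟨e, L, S, htor, he, hS, hpow⟩ := sp_eight M hM
    have hdvd : n ∣ 2 ^ e * L := by
      rw [← hord.iff, hpow]
      exact isScalarMat_one
    obtain ⟨N, hN, hLN⟩ := hA htor he hS
    have hiso := lower a b han hB1 hB2 hB3 hB5 N hN
    have hq2 : 2 ≤ Fintype.card F := Fintype.one_lt_card
    have hNpos : 0 < N := by
      have hq : Even (Fintype.card F) := by
        have h2 : ringChar F = 2 := ringChar.eq F 2
        exact Nat.even_iff.2 (FiniteField.even_card_of_char_two h2)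
      have p1 : 0 < Fintype.card F - 1 := by omega
      have p2 : 0 < Fintype.card F ^ 2 - 1 :=
        (Cfsg.Agent.Lib.Helper40_S8Arith.odd_pow_sub_one hq hq2 2 (by norm_num)).pos
      have p3 : 0 < Fintype.card F ^ 3 - 1 :=
        (Cfsg.Agent.Lib.Helper40_S8Arith.odd_pow_sub_one hq hq2 3 (by norm_num)).pos
      have p4 : 0 < Fintype.card F ^ 4 - 1 :=
        (Cfsg.Agent.Lib.Helper40_S8Arith.odd_pow_sub_one hq hq2 4 (by norm_num)).pos
      simp only [twelve, List.mem_cons, List.not_mem_nil, or_false] at hN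
      rcases hN with rfl | rfl | rfl | rfl | rfl | rfl | rfl | rfl | rfl | rfl | rfl | rfl <;>
        positivity
    have hn' : HasIsom (qfMinus 3 F a b) n := hiso.of_dvd hNpos (hdvd.trans hLN)
    have := mem_range_of_hasIsom (qfMinus 3 F a b) hord.pos hn'
    rwa [coe_qfMinus] at this
  · exact range_subset a b han

end Cfsg.Agent.Lib.Helper40_S8Main
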