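import Mathlib
import Cfsg.Agent.Lib.Helper40_S8Defs
import Cfsg.Agent.Lib.Helper44_StdForms
import Cfsg.Agent.Lib.Helper44_Levi
import Cfsg.Agent.Lib.Helper99_SingerEmb

/-!
# Package PKB2 of S3589 (helper40): the plus torus `q ^ d - 1` on the hyperbolic form (helper49)
-/

set_option autoImplicit false

namespace Cfsg.Agent.Lib.Helper49_S3589_PKB2

open Module Cfsg.Agent.Lib.Helper40_S8Defs Cfsg.Agent.Lib.Helper44_StdForms
  Cfsg.Agent.Lib.Helper44_Levi

universe u

theorem leviHom_injective {F : Type u} [Field F] (d : ℕ) :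
    Function.Injective (leviHom d F) := by
  intro A B h
  have h1 := congrArg (fun x : ↥(Cfsg.isometryGroup F (⇑(qfPlus d F))) =>
    ((x : Matrix.GeneralLinearGroup (Fin d ⊕ Fin d) F) :
      Matrix (Fin d ⊕ Fin d) (Fin d ⊕ Fin d) F)) h
  simp only [leviHom_coe] at h1
  rw [Matrix.fromBlocks_inj] at h1
  exact Units.ext h1.1

theorem PKB2 {F : Type u} [Field F] [Fintype F] (d : ℕ) (hd : 1 ≤ d) :
    HasIsom (qfPlus d F) (Fintype.card F ^ d - 1) := by
  obtain ⟨S, hS, -, -⟩ := Cfsg.Agent.Lib.Helper99_SingerEmb.exists_singer (F := F) d hd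
  set N := Fintype.card F ^ d - 1 with hN
  have hq : 2 ≤ Fintype.card F := Fintype.one_lt_card
  have hNpos : 0 < N := by
    have h1 : 2 ^ 1 ≤ Fintype.card F ^ d :=
      le_trans (Nat.pow_le_pow_left hq 1) (Nat.pow_le_pow_right (by omega) hd)
    omega
  have hSN : S ^ N = 1 := (hS N).2 dvd_rfl
  let g : Matrix.GeneralLinearGroup (Fin d) F :=
    ⟨S, S ^ (N - 1), by rw [← pow_succ', Nat.sub_add_cancel hNpos, hSN],
      by rw [← pow_succ, Nat.sub_add_cancel hNpos, hSN]⟩
  have hgpow : ∀ k : ℕ, g ^ k = 1 ↔ N ∣ k := by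
    intro k
    rw [← hS k, Units.ext_iff, Units.val_pow_eq_pow_val, Units.val_one]
  have hg : orderOf g = N := by
    apply Nat.dvd_antisymm
    · exact orderOf_dvd_of_pow_eq_one ((hgpow N).2 dvd_rfl)
    · exact (hgpow _).1 (pow_orderOf_eq_one g)
  have h2 := hasIsom_of_mem (qfPlus d F) (leviHom d F g)
  rw [orderOf_injective (leviHom d F) (leviHom_injective d) g, hg] at h2
  exact h2

end Cfsg.Agent.Lib.Helper49_S3589_PKB2
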