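import Mathlib
import Cfsg.Agent.Lib.Helper40_S8Defs

set_option autoImplicit false

namespace Cfsg.Agent.Lib.Helper52_S3589_PKA

open Cfsg.Agent.Lib.Helper40_S8Defs

/-- the tables of maximal torus orders in rank `S ≤ 4` -/
def T (q : ℕ) : ℕ → List ℕ
  | 0 => [1]
  | 1 => [q - 1, q + 1]
  | 2 => [q ^ 2 - 1, q ^ 2 + 1]
  | 3 => [q ^ 3 - 1, q ^ 3 + 1, (q ^ 2 + 1) * (q - 1), (q ^ 2 + 1) * (q + 1), q ^ 2 - 1]
  | 4 => [q ^ 4 + 1, q ^ 4 - 1, (q ^ 3 + 1) * (q - 1), (q ^ 3 - 1) * (q + 1)]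
  | _ => []

section facts

variable (k : ℕ)

lemma hA1 : k + 2 - 1 = k + 1 := by omega
lemma hA2 : (k + 2) ^ 2 - 1 = (k + 1) * (k + 3) := Nat.sub_eq_of_eq_add (by ring)
lemma hA3 : (k + 2) ^ 3 - 1 = (k + 1) * ((k + 2) ^ 2 + (k + 2) + 1) := Nat.sub_eq_of_eq_add (by ring)
lemma hB3 : (k + 2) ^ 3 + 1 = (k + 3) * (k ^ 2 + 3 * k + 3) := by ring
lemma hA4 : (k + 2) ^ 4 - 1 = (k + 1) * (k + 3) * ((k + 2) ^ 2 + 1) := Nat.sub_eq_of_eq_add (by ring)

end facts

/-- one step: from a table entry in rank `S` and a new cyclic factor `q^a ∓ 1` to a table entry in rank `S + a` -/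
lemma step (k S a : ℕ) (ha : 1 ≤ a) (hSa : S + a ≤ 4) (N : ℕ) (hN : N ∈ T (k + 2) S) (X : ℕ)
    (hX : X = (k + 2) ^ a - 1 ∨ X = (k + 2) ^ a + 1) :
    ∃ N' ∈ T (k + 2) (S + a), N ∣ N' ∧ X ∣ N' := by
  have e1 := hA1 k
  have e2 := hA2 k
  have e3 := hA3 k
  have e3' := hB3 k
  have e4 := hA4 k
  have hS3 : S ≤ 3 := by omega
  interval_cases S
  · -- S = 0
    simp only [T, List.mem_singleton] at hN
    subst hN
    have ha4 : a ≤ 4 := by omega
    interval_cases a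
    · rcases hX with rfl | rfl
      · exact ⟨_, by simp [T], one_dvd _, dvd_refl _⟩
      · exact ⟨_, by simp [T], one_dvd _, dvd_refl _⟩
    · rcases hX with rfl | rfl
      · exact ⟨_, by simp [T], one_dvd _, dvd_refl _⟩
      · exact ⟨_, by simp [T], one_dvd _, dvd_refl _⟩
    · rcases hX with rfl | rfl
      · exact ⟨_, by simp [T], one_dvd _, dvd_refl _⟩
      · exact ⟨_, by simp [T], one_dvd _, dvd_refl _⟩
    · rcases hX with rfl | rfl
      · exact ⟨(k + 2) ^ 4 - 1, by simp [T], one_dvd _, dvd_refl _⟩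
      · exact ⟨(k + 2) ^ 4 + 1, by simp [T], one_dvd _, dvd_refl _⟩
  · -- S = 1
    simp only [T, List.mem_cons, List.not_mem_nil, or_false] at hN
    have ha4 : a ≤ 3 := by omega
    interval_cases a
    · -- a = 1 : target T 2, N' = q^2 - 1
      refine ⟨(k + 2) ^ 2 - 1, by simp [T], ?_, ?_⟩
      · rcases hN with rfl | rfl
        · rw [e1, e2]; exact Dvd.intro _ rfl
        · rw [e2]; exact Dvd.intro_left _ rfl
      · rcases hX with rfl | rfl
        · rw [pow_one, e1, e2]; exact Dvd.intro _ rfl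
        · rw [pow_one, e2]; exact Dvd.intro_left _ rfl
    · -- a = 2 : target T 3
      rcases hX with rfl | rfl
      · refine ⟨(k + 2) ^ 2 - 1, by simp [T], ?_, dvd_refl _⟩
        rcases hN with rfl | rfl
        · rw [e1, e2]; exact Dvd.intro _ rfl
        · rw [e2]; exact Dvd.intro_left _ rfl
      · rcases hN with rfl | rfl
        · exact ⟨((k + 2) ^ 2 + 1) * (k + 2 - 1), by simp [T], Dvd.intro_left _ rfl, Dvd.intro _ rfl⟩
        · exact ⟨((k + 2) ^ 2 + 1) * (k + 2 + 1), by simp [T], Dvd.intro_left _ rfl, Dvd.intro _ rfl⟩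
    · -- a = 3 : target T 4
      rcases hX with rfl | rfl
      · refine ⟨((k + 2) ^ 3 - 1) * (k + 2 + 1), by simp [T], ?_, Dvd.intro _ rfl⟩
        rcases hN with rfl | rfl
        · rw [e1, e3]; exact ⟨((k + 2) ^ 2 + (k + 2) + 1) * (k + 2 + 1), by ring⟩
        · exact Dvd.intro_left _ rfl
      · refine ⟨((k + 2) ^ 3 + 1) * (k + 2 - 1), by simp [T], ?_, Dvd.intro _ rfl⟩
        rcases hN with rfl | rfl
        · exact Dvd.intro_left _ rfl
        · rw [e3']; exact ⟨(k ^ 2 + 3 * k + 3) * (k + 2 - 1), by ring⟩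
  · -- S = 2
    simp only [T, List.mem_cons, List.not_mem_nil, or_false] at hN
    have ha4 : a ≤ 2 := by omega
    interval_cases a
    · -- a = 1 : target T 3
      rw [pow_one] at hX
      rcases hN with rfl | rfl
      · refine ⟨(k + 2) ^ 2 - 1, by simp [T], dvd_refl _, ?_⟩
        rcases hX with rfl | rfl
        · rw [e1, e2]; exact Dvd.intro _ rfl
        · rw [e2]; exact Dvd.intro_left _ rfl
      · rcases hX with rfl | rfl
        · exact ⟨((k + 2) ^ 2 + 1) * (k + 2 - 1), by simp [T], Dvd.intro _ rfl, Dvd.intro_left _ rfl⟩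
        · exact ⟨((k + 2) ^ 2 + 1) * (k + 2 + 1), by simp [T], Dvd.intro _ rfl, Dvd.intro_left _ rfl⟩
    · -- a = 2 : target T 4, N' = q^4 - 1
      refine ⟨(k + 2) ^ 4 - 1, by simp [T], ?_, ?_⟩
      · rcases hN with rfl | rfl
        · rw [e2, e4]; exact Dvd.intro _ rfl
        · rw [e4]; exact Dvd.intro_left _ rfl
      · rcases hX with rfl | rfl
        · rw [e2, e4]; exact Dvd.intro _ rfl
        · rw [e4]; exact Dvd.intro_left _ rfl
  · -- S = 3, a = 1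
    simp only [T, List.mem_cons, List.not_mem_nil, or_false] at hN
    have ha4 : a ≤ 1 := by omega
    interval_cases a
    rw [pow_one] at hX
    rcases hN with rfl | rfl | rfl | rfl | rfl
    · -- q^3 - 1
      refine ⟨((k + 2) ^ 3 - 1) * (k + 2 + 1), by simp [T], Dvd.intro _ rfl, ?_⟩
      rcases hX with rfl | rfl
      · rw [e1, e3]; exact ⟨((k + 2) ^ 2 + (k + 2) + 1) * (k + 2 + 1), by ring⟩
      · exact Dvd.intro_left _ rfl
    · -- q^3 + 1
      refine ⟨((k + 2) ^ 3 + 1) * (k + 2 - 1), by simp [T], Dvd.intro _ rfl, ?_⟩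
      rcases hX with rfl | rfl
      · exact Dvd.intro_left _ rfl
      · rw [e3']; exact ⟨(k ^ 2 + 3 * k + 3) * (k + 2 - 1), by ring⟩
    · -- (q^2+1)(q-1)
      refine ⟨(k + 2) ^ 4 - 1, by simp [T], ?_, ?_⟩
      · rw [e1, e4]; exact ⟨k + 3, by ring⟩
      · rcases hX with rfl | rfl
        · rw [e1, e4]; exact ⟨(k + 3) * ((k + 2) ^ 2 + 1), by ring⟩
        · rw [e4]; exact ⟨(k + 1) * ((k + 2) ^ 2 + 1), by ring⟩
    · -- (q^2+1)(q+1)
      refine ⟨(k + 2) ^ 4 - 1, by simp [T], ?_, ?_⟩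
      · rw [e4]; exact ⟨k + 1, by ring⟩
      · rcases hX with rfl | rfl
        · rw [e1, e4]; exact ⟨(k + 3) * ((k + 2) ^ 2 + 1), by ring⟩
        · rw [e4]; exact ⟨(k + 1) * ((k + 2) ^ 2 + 1), by ring⟩
    · -- q^2 - 1
      refine ⟨(k + 2) ^ 4 - 1, by simp [T], ?_, ?_⟩
      · rw [e2, e4]; exact Dvd.intro _ rfl
      · rcases hX with rfl | rfl
        · rw [e1, e4]; exact ⟨(k + 3) * ((k + 2) ^ 2 + 1), by ring⟩
        · rw [e4]; exact ⟨(k + 1) * ((k + 2) ^ 2 + 1), by ring⟩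

/-- every `Tor` of rank at most 4 divides a table entry -/
lemma tor_table (k : ℕ) {L S : ℕ} (h : Tor (k + 2) L S) (hS : S ≤ 4) : ∃ N ∈ T (k + 2) S, L ∣ N := by
  induction h with
  | one => exact ⟨1, by simp [T], dvd_refl _⟩
  | sub a h ha ih =>
    obtain ⟨N, hN, hLN⟩ := ih (by omega)
    obtain ⟨N', hN', h1, h2⟩ := step k _ a ha hS N hN _ (Or.inl rfl)
    exact ⟨N', hN', Nat.lcm_dvd (hLN.trans h1) h2⟩
  | add a h ha ih =>
    obtain ⟨N, hN, hLN⟩ := ih (by omega)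
    obtain ⟨N', hN', h1, h2⟩ := step k _ a ha hS N hN _ (Or.inr rfl)
    exact ⟨N', hN', Nat.lcm_dvd (hLN.trans h1) h2⟩

/-- padding with factors `q - 1` -/
lemma pad (q : ℕ) {L S : ℕ} (h : Tor q L S) (j : ℕ) : ∃ L', L ∣ L' ∧ Tor q L' (S + j) := by
  induction j with
  | zero => exact ⟨L, dvd_refl _, h⟩
  | succ j ih =>
    obtain ⟨L', hL, hT⟩ := ih
    exact ⟨Nat.lcm L' (q ^ 1 - 1), hL.trans (Nat.dvd_lcm_left _ _), by
      have := Tor.sub 1 hT (le_refl 1)
      rwa [add_assoc] at this⟩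

theorem PKA {q L S e : ℕ} (hq : 2 ≤ q) (h : Tor q L S) (he : e ≤ 3) (hS : e + S ≤ 4) :
    ∃ N ∈ twelve q, 2 ^ e * L ∣ N := by
  obtain ⟨k, rfl⟩ : ∃ k, q = k + 2 := ⟨q - 2, by omega⟩
  obtain ⟨L', hLL', hT⟩ := pad (k + 2) h (4 - e - S)
  have hS' : S + (4 - e - S) = 4 - e := by omega
  rw [hS'] at hT
  obtain ⟨N, hN, hL'N⟩ := tor_table k hT (by omega)
  have hLN : L ∣ N := hLL'.trans hL'N
  have e2 := hA2 k
  interval_cases e
  · -- e = 0 : T 4 ⊆ twelve
    simp only [T, List.mem_cons, List.not_mem_nil, or_false] at hN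
    refine ⟨N, ?_, by simpa using hLN⟩
    rcases hN with rfl | rfl | rfl | rfl <;> simp [twelve]
  · -- e = 1
    simp only [T, List.mem_cons, List.not_mem_nil, or_false] at hN
    rcases hN with rfl | rfl | rfl | rfl | rfl
    · exact ⟨2 * ((k + 2) ^ 3 - 1), by simp [twelve], by simpa using Nat.mul_dvd_mul_left 2 hLN⟩
    · exact ⟨2 * ((k + 2) ^ 3 + 1), by simp [twelve], by simpa using Nat.mul_dvd_mul_left 2 hLN⟩
    · exact ⟨2 * (((k + 2) ^ 2 + 1) * (k + 2 - 1)), by simp [twelve], by simpa using Nat.mul_dvd_mul_left 2 hLN⟩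
    · exact ⟨2 * (((k + 2) ^ 2 + 1) * (k + 2 + 1)), by simp [twelve], by simpa using Nat.mul_dvd_mul_left 2 hLN⟩
    · refine ⟨4 * ((k + 2) ^ 2 - 1), by simp [twelve], ?_⟩
      have h1 : 2 ^ 1 * L ∣ 2 * ((k + 2) ^ 2 - 1) := by simpa using Nat.mul_dvd_mul_left 2 hLN
      exact h1.trans ⟨2, by ring⟩
  · -- e = 2
    simp only [T, List.mem_cons, List.not_mem_nil, or_false] at hN
    rcases hN with rfl | rfl
    · exact ⟨4 * ((k + 2) ^ 2 - 1), by simp [twelve], by simpa using Nat.mul_dvd_mul_left 4 hLN⟩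
    · exact ⟨4 * ((k + 2) ^ 2 + 1), by simp [twelve], by simpa using Nat.mul_dvd_mul_left 4 hLN⟩
  · -- e = 3
    simp only [T, List.mem_cons, List.not_mem_nil, or_false] at hN
    rcases hN with rfl | rfl
    · exact ⟨8 * (k + 2 - 1), by simp [twelve], by simpa using Nat.mul_dvd_mul_left 8 hLN⟩
    · exact ⟨8 * (k + 2 + 1), by simp [twelve], by simpa using Nat.mul_dvd_mul_left 8 hLN⟩

end Cfsg.Agent.Lib.Helper52_S3589_PKA
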