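import Mathlib
import Cfsg.Agent.Lib.Helper40_S8Defs
import Cfsg.Agent.Lib.Helper44_StdForms

set_option autoImplicit false

/-!
Package PKB5m of S3589 (architect helper40): an explicit isometry of order 8 of the six-dimensional
minus-type quadratic form in characteristic two.
-/

namespace Cfsg.Agent.Lib.Helper54_S3589_PKB5m

open Module Cfsg.Agent.Lib.Helper40_S8Defs Cfsg.Agent.Lib.Helper44_StdForms

universe u

variable {F : Type u} [Field F]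

/-- the index type of the six-dimensional minus form -/
abbrev I6 : Type := (Fin 2 ⊕ Fin 2) ⊕ Fin 2

/-- the vector with the six given coordinates -/
def mk (X0 X1 Y0 Y1 z1 z2 : F) : I6 → F :=
  Sum.elim (Sum.elim ![X0, X1] ![Y0, Y1]) ![z1, z2]

omit [Field F] in
theorem eta (v : I6 → F) :
    v = mk (v (.inl (.inl 0))) (v (.inl (.inl 1))) (v (.inl (.inr 0))) (v (.inl (.inr 1)))
      (v (.inr 0)) (v (.inr 1)) := by
  funext i
  rcases i with ((i | i) | i) <;> fin_cases i <;> rfl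

omit [Field F] in
theorem mk_congr {X0 X1 Y0 Y1 z1 z2 X0' X1' Y0' Y1' z1' z2' : F} (h1 : X0 = X0') (h2 : X1 = X1')
    (h3 : Y0 = Y0') (h4 : Y1 = Y1') (h5 : z1 = z1') (h6 : z2 = z2') :
    mk X0 X1 Y0 Y1 z1 z2 = mk X0' X1' Y0' Y1' z1' z2' := by
  subst h1 h2 h3 h4 h5 h6
  rfl

/-- a linear map given by six linear forms (as functions of the six coordinates) -/
def ofCoords (f : F → F → F → F → F → F → (I6 → F))
    (hadd : ∀ X0 X1 Y0 Y1 z1 z2 X0' X1' Y0' Y1' z1' z2',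
      f (X0 + X0') (X1 + X1') (Y0 + Y0') (Y1 + Y1') (z1 + z1') (z2 + z2') =
        f X0 X1 Y0 Y1 z1 z2 + f X0' X1' Y0' Y1' z1' z2')
    (hsmul : ∀ (c : F) X0 X1 Y0 Y1 z1 z2,
      f (c * X0) (c * X1) (c * Y0) (c * Y1) (c * z1) (c * z2) = c • f X0 X1 Y0 Y1 z1 z2) :
    Module.End F (I6 → F) where
  toFun v := f (v (.inl (.inl 0))) (v (.inl (.inl 1))) (v (.inl (.inr 0))) (v (.inl (.inr 1)))
      (v (.inr 0)) (v (.inr 1))
  map_add' v w := by
    simp only [Pi.add_apply]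
    exact hadd _ _ _ _ _ _ _ _ _ _ _ _
  map_smul' c v := by
    simp only [Pi.smul_apply, smul_eq_mul, RingHom.id_apply]
    exact hsmul c _ _ _ _ _ _

theorem ofCoords_mk (f : F → F → F → F → F → F → (I6 → F)) (hadd) (hsmul)
    (X0 X1 Y0 Y1 z1 z2 : F) :
    ofCoords f hadd hsmul (mk X0 X1 Y0 Y1 z1 z2) = f X0 X1 Y0 Y1 z1 z2 := rfl

theorem mk_add (X0 X1 Y0 Y1 z1 z2 X0' X1' Y0' Y1' z1' z2' : F) :
    mk X0 X1 Y0 Y1 z1 z2 + mk X0' X1' Y0' Y1' z1' z2' =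
      mk (X0 + X0') (X1 + X1') (Y0 + Y0') (Y1 + Y1') (z1 + z1') (z2 + z2') := by
  funext i
  rcases i with ((i | i) | i) <;> fin_cases i <;> rfl

theorem smul_mk (c X0 X1 Y0 Y1 z1 z2 : F) :
    c • mk X0 X1 Y0 Y1 z1 z2 = mk (c * X0) (c * X1) (c * Y0) (c * Y1) (c * z1) (c * z2) := by
  funext i
  rcases i with ((i | i) | i) <;> fin_cases i <;> rfl

/-- the isometry `T` -/
def T (a b : F) : Module.End F (I6 → F) :=
  ofCoords (fun X0 X1 Y0 Y1 z1 z2 =>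
      mk (X0 + a * X1 + (b ^ 2 + a ^ 2 * b) * Y0 + a * b * Y1 + a ^ 2 * z1 + (a * b + a ^ 3) * z2)
        (X1 + a * b * Y0 + b * Y1 + a * z1 + a ^ 2 * z2) Y0 (a * Y0 + Y1) (b * Y0 + z1 + a * z2)
        (Y1 + z2))
    (by
      intro X0 X1 Y0 Y1 z1 z2 X0' X1' Y0' Y1' z1' z2'
      rw [mk_add]
      apply mk_congr <;> ring)
    (by
      intro c X0 X1 Y0 Y1 z1 z2
      rw [smul_mk]
      apply mk_congr <;> ring)

/-- the square of `T` -/
def S2 (a b : F) : Module.End F (I6 → F) :=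
  ofCoords (fun X0 X1 Y0 Y1 z1 z2 =>
      mk (X0 + a ^ 2 * b * Y0 + a ^ 3 * Y1 + a ^ 2 * z1) (X1 + a ^ 2 * Y1 + a ^ 2 * z2) Y0 Y1
        (a * Y1 + z1) (a * Y0 + z2))
    (by
      intro X0 X1 Y0 Y1 z1 z2 X0' X1' Y0' Y1' z1' z2'
      rw [mk_add]
      apply mk_congr <;> ring)
    (by
      intro c X0 X1 Y0 Y1 z1 z2
      rw [smul_mk]
      apply mk_congr <;> ring)

/-- the fourth power of `T` -/
def S4 (a : F) : Module.End F (I6 → F) :=
  ofCoords (fun X0 X1 Y0 Y1 z1 z2 => mk (X0 + a ^ 3 * Y1) (X1 + a ^ 3 * Y0) Y0 Y1 z1 z2)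
    (by
      intro X0 X1 Y0 Y1 z1 z2 X0' X1' Y0' Y1' z1' z2'
      rw [mk_add]
      apply mk_congr <;> ring)
    (by
      intro c X0 X1 Y0 Y1 z1 z2
      rw [smul_mk]
      apply mk_congr <;> ring)

theorem T_mk (a b X0 X1 Y0 Y1 z1 z2 : F) :
    T a b (mk X0 X1 Y0 Y1 z1 z2) =
      mk (X0 + a * X1 + (b ^ 2 + a ^ 2 * b) * Y0 + a * b * Y1 + a ^ 2 * z1 + (a * b + a ^ 3) * z2)
        (X1 + a * b * Y0 + b * Y1 + a * z1 + a ^ 2 * z2) Y0 (a * Y0 + Y1) (b * Y0 + z1 + a * z2)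
        (Y1 + z2) := rfl

theorem S2_mk (a b X0 X1 Y0 Y1 z1 z2 : F) :
    S2 a b (mk X0 X1 Y0 Y1 z1 z2) =
      mk (X0 + a ^ 2 * b * Y0 + a ^ 3 * Y1 + a ^ 2 * z1) (X1 + a ^ 2 * Y1 + a ^ 2 * z2) Y0 Y1
        (a * Y1 + z1) (a * Y0 + z2) := rfl

theorem S4_mk (a X0 X1 Y0 Y1 z1 z2 : F) :
    S4 a (mk X0 X1 Y0 Y1 z1 z2) = mk (X0 + a ^ 3 * Y1) (X1 + a ^ 3 * Y0) Y0 Y1 z1 z2 := rfl

theorem qf_mk (a b X0 X1 Y0 Y1 z1 z2 : F) :
    qfMinus 2 F a b (mk X0 X1 Y0 Y1 z1 z2) =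
      X0 * Y0 + X1 * Y1 + (z1 ^ 2 + a * z1 * z2 + b * z2 ^ 2) := by
  rw [coe_qfMinus]
  simp [Cfsg.quadFormMinus, Fin.sum_univ_two, mk]

theorem T_isom (h2 : (2 : F) = 0) (a b : F) (v : I6 → F) :
    qfMinus 2 F a b (T a b v) = qfMinus 2 F a b v := by
  rw [eta v, T_mk, qf_mk, qf_mk]
  generalize v (.inl (.inl 0)) = X0
  generalize v (.inl (.inl 1)) = X1
  generalize v (.inl (.inr 0)) = Y0
  generalize v (.inl (.inr 1)) = Y1
  generalize v (.inr 0) = z1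
  generalize v (.inr 1) = z2
  linear_combination (b*Y1*z2 + b*Y1^2 + b*Y0*z1 + b^2*Y0^2 + a*z1*z2 + a*Y1*z1 + a*X1*Y0
    + 2*a*b*Y0*z2 + 2*a*b*Y0*Y1 + a^2*z2^2 + a^2*Y1*z2 + a^2*Y0*z1 + a^2*b*Y0^2 + a^3*Y0*z2) * h2

theorem T_mul_T (h2 : (2 : F) = 0) (a b : F) : T a b * T a b = S2 a b := by
  apply LinearMap.ext
  intro v
  rw [Module.End.mul_apply, eta v, T_mk, T_mk, S2_mk]
  generalize v (.inl (.inl 0)) = X0
  generalize v (.inl (.inl 1)) = X1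
  generalize v (.inl (.inr 0)) = Y0
  generalize v (.inl (.inr 1)) = Y1
  generalize v (.inr 0) = z1
  generalize v (.inr 1) = z2
  apply mk_congr
  · linear_combination (b^2*Y0 + a*X1 + a*b*z2 + 2*a*b*Y1 + a^2*z1 + 2*a^2*b*Y0 + 2*a^3*z2) * h2
  · linear_combination (b*Y1 + a*z1 + 2*a*b*Y0 + a^2*z2) * h2
  · rfl
  · linear_combination (a*Y0) * h2
  · linear_combination (b*Y0 + a*z2) * h2
  · linear_combination (Y1) * h2

theorem S2_mul_S2 (h2 : (2 : F) = 0) (a b : F) : S2 a b * S2 a b = S4 a := by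
  apply LinearMap.ext
  intro v
  rw [Module.End.mul_apply, eta v, S2_mk, S2_mk, S4_mk]
  generalize v (.inl (.inl 0)) = X0
  generalize v (.inl (.inl 1)) = X1
  generalize v (.inl (.inr 0)) = Y0
  generalize v (.inl (.inr 1)) = Y1
  generalize v (.inr 0) = z1
  generalize v (.inr 1) = z2
  apply mk_congr
  · linear_combination (a^2*z1 + a^2*b*Y0 + a^3*Y1) * h2
  · linear_combination (a^2*z2 + a^2*Y1) * h2
  · rfl
  · rfl
  · linear_combination (a*Y1) * h2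
  · linear_combination (a*Y0) * h2

theorem S4_mul_S4 (h2 : (2 : F) = 0) (a : F) : S4 a * S4 a = 1 := by
  apply LinearMap.ext
  intro v
  rw [Module.End.mul_apply, Module.End.one_apply, eta v, S4_mk, S4_mk]
  generalize v (.inl (.inl 0)) = X0
  generalize v (.inl (.inl 1)) = X1
  generalize v (.inl (.inr 0)) = Y0
  generalize v (.inl (.inr 1)) = Y1
  generalize v (.inr 0) = z1
  generalize v (.inr 1) = z2
  apply mk_congr
  · linear_combination (a^3*Y1) * h2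
  · linear_combination (a^3*Y0) * h2
  · rfl
  · rfl
  · rfl
  · rfl

theorem S4_ne_one (a : F) (ha : a ≠ 0) : S4 a ≠ 1 := by
  intro h
  have h1 := congrArg (fun f : Module.End F (I6 → F) => f (mk 0 0 0 1 0 0) (.inl (.inl 0))) h
  simp only [S4_mk, Module.End.one_apply] at h1
  have h3 : (0 : F) + a ^ 3 * 1 = 0 := h1
  rw [zero_add, mul_one] at h3
  exact ha (pow_eq_zero_iff (by norm_num) |>.1 h3)

theorem PKB5m {F : Type u} [Field F] [CharP F 2] (a b : F) (ha : a ≠ 0) :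
    HasIsom (qfMinus 2 F a b) 8 := by
  have h2 : (2 : F) = 0 := CharTwo.two_eq_zero
  refine ⟨T a b, T_isom h2 a b, ?_⟩
  have hp2 : T a b ^ 2 = S2 a b := by rw [pow_two, T_mul_T h2]
  have hp4 : T a b ^ 4 = S4 a := by
    have : T a b ^ 4 = (T a b ^ 2) * (T a b ^ 2) := by rw [← pow_add]
    rw [this, hp2, S2_mul_S2 h2]
  have hp8 : T a b ^ 8 = 1 := by
    have : T a b ^ 8 = (T a b ^ 4) * (T a b ^ 4) := by rw [← pow_add]
    rw [this, hp4, S4_mul_S4 h2]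
  have : Fact (Nat.Prime 2) := ⟨Nat.prime_two⟩
  have := orderOf_eq_prime_pow (x := T a b) (p := 2) (n := 2)
    (by
      rw [show 2 ^ 2 = 4 by norm_num, hp4]
      exact S4_ne_one a ha)
    (by
      rw [show 2 ^ (2 + 1) = 8 by norm_num]
      exact hp8)
  rw [this]
  norm_num

end Cfsg.Agent.Lib.Helper54_S3589_PKB5m
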