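import Mathlib
import Cfsg.Agent.Lib.Helper40_UProj5

set_option autoImplicit false

/-!
Package PKB1a for S3589 (architect helper40): the field model of the minus torus of order
`q ^ d + 1` acting on a `2 d`-dimensional nondegenerate quadratic space in characteristic two.
-/

namespace Cfsg.Agent.Lib.Helper65_S3589_PKB1a

open Polynomial Module Cfsg.Agent.Lib.Helper40_UProj5

universe u

theorem PKB1a {F : Type u} [Field F] [Fintype F] [CharP F 2] (d : ℕ) (hd : 1 ≤ d) :
    ∃ (V : Type u) (_ : AddCommGroup V) (_ : Module F V) (_ : Module.Finite F V)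
      (Q : QuadraticForm F V) (T : Module.End F V),
      (QuadraticMap.polarBilin Q).Nondegenerate ∧ finrank F V = 2 * d ∧ (∀ v, Q (T v) = Q v) ∧
      orderOf T = Fintype.card F ^ d + 1 ∧
      ∀ k : ℕ, ¬ (Fintype.card F ^ d + 1) ∣ k → ∀ v, (T ^ k) v = v → v = 0 := by
  classical
  have : Fact (Nat.Prime 2) := ⟨Nat.prime_two⟩
  obtain ⟨g, hgm, hgi, hgd⟩ := exists_irreducible_natDegree (F := F) 2 (2 * d) (by omega)
  have : Fact (Irreducible g) := ⟨hgi⟩
  obtain ⟨hfin, hfinite, hfr, hcard⟩ := adjoinRoot_facts g hgm hgi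
  rw [hgd] at hfr hcard
  have : Fintype (AdjoinRoot g) := Fintype.ofFinite _
  set q := Fintype.card F with hq
  have hq2 : 2 ≤ q := Fintype.one_lt_card
  have hqd2 : 2 ≤ q ^ d := by
    calc 2 ≤ q := hq2
      _ = q ^ 1 := (pow_one q).symm
      _ ≤ q ^ d := Nat.pow_le_pow_right (by omega) hd
  have hcharE : CharP (AdjoinRoot g) 2 :=
    charP_of_injective_algebraMap (algebraMap F (AdjoinRoot g)).injective 2
  let ι : AdjoinRoot g →ₐ[F] AdjoinRoot g := (FiniteField.frobeniusAlgHom F (AdjoinRoot g)) ^ d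
  have hιapp : ∀ x, ι x = x ^ (q ^ d) := by
    intro x
    show ((FiniteField.frobeniusAlgHom F (AdjoinRoot g)) ^ d) x = _
    rw [AlgHom.coe_pow, FiniteField.coe_frobeniusAlgHom, pow_iterate]
  have hcardpow : ∀ x : AdjoinRoot g, x ^ (q ^ (2 * d)) = x := by
    intro x
    rw [← hcard, Nat.card_eq_fintype_card, FiniteField.pow_card]
  have hιι : ∀ x, ι (ι x) = x := by
    intro x
    rw [hιapp, hιapp, ← pow_mul, ← pow_add, ← two_mul, hcardpow]
  -- `ι` is not the identity
  obtain ⟨x₀, hx₀⟩ : ∃ x₀ : AdjoinRoot g, ι x₀ ≠ x₀ := by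
    by_contra hcon
    push Not at hcon
    have h1 : ∀ x : AdjoinRoot g, x ^ (q ^ d) = x := fun x => by rw [← hιapp, hcon]
    have hdeg : (X ^ (q ^ d) - X : (AdjoinRoot g)[X]).natDegree = q ^ d :=
      FiniteField.X_pow_card_pow_sub_X_natDegree_eq _ (by omega) (by omega)
    have hne : (X ^ (q ^ d) - X : (AdjoinRoot g)[X]) ≠ 0 :=
      FiniteField.X_pow_card_pow_sub_X_ne_zero _ (by omega) (by omega)
    have h3 : Fintype.card (AdjoinRoot g) ≤ q ^ d := by
      rw [← hdeg]
      have h4 : (Finset.univ : Finset (AdjoinRoot g)) ⊆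
          (X ^ (q ^ d) - X : (AdjoinRoot g)[X]).roots.toFinset := by
        intro x _
        rw [Multiset.mem_toFinset, mem_roots hne, IsRoot, eval_sub, eval_pow, eval_X, h1,
          sub_self]
      calc Fintype.card (AdjoinRoot g) = (Finset.univ : Finset (AdjoinRoot g)).card := rfl
        _ ≤ (X ^ (q ^ d) - X : (AdjoinRoot g)[X]).roots.toFinset.card := Finset.card_le_card h4
        _ ≤ Multiset.card (X ^ (q ^ d) - X : (AdjoinRoot g)[X]).roots :=
          Multiset.toFinset_card_le _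
        _ ≤ _ := card_roots' _
    rw [← Nat.card_eq_fintype_card, hcard, two_mul, pow_add] at h3
    nlinarith
  -- the functional
  have hy0 : x₀ + ι x₀ ≠ 0 := by
    intro h
    apply hx₀
    have h1 : ι x₀ = -x₀ := eq_neg_of_add_eq_zero_right h
    rw [h1, CharTwo.neg_eq]
  obtain ⟨φ, hφ⟩ : ∃ φ : Module.Dual F (AdjoinRoot g), φ (x₀ + ι x₀) ≠ 0 := by
    by_contra hcon
    apply hy0
    rw [← Module.forall_dual_apply_eq_zero_iff F]
    intro φ
    by_contra h
    exact hcon ⟨φ, h⟩
  -- the bilinear map and the quadratic form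
  let B0 : LinearMap.BilinMap F (AdjoinRoot g) F :=
    LinearMap.mk₂ F (fun x y => φ (x * ι y))
      (fun x x' y => by simp only [add_mul, map_add])
      (fun c x y => by simp only [smul_mul_assoc, map_smul])
      (fun x y y' => by simp only [map_add, mul_add])
      (fun c x y => by simp only [map_smul, mul_smul_comm])
  have hB0 : ∀ x y, B0 x y = φ (x * ι y) := fun x y => rfl
  let Q : QuadraticForm F (AdjoinRoot g) := B0.toQuadraticMap
  have hQ : ∀ x, Q x = φ (x * ι x) := fun x => by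
    show B0.toQuadraticMap x = _
    rw [LinearMap.BilinMap.toQuadraticMap_apply, hB0]
  have hpolar : ∀ x y, QuadraticMap.polarBilin Q x y = φ (x * ι y + y * ι x) := by
    intro x y
    rw [QuadraticMap.polarBilin_apply_apply, QuadraticMap.polar, hQ, hQ, hQ, map_add, add_mul,
      mul_add, mul_add, map_add, map_add, map_add, map_add]
    ring
  have hpolar' : ∀ x y, QuadraticMap.polarBilin Q x y = φ (x * ι y + ι (x * ι y)) := by
    intro x y
    rw [hpolar, map_mul, hιι, mul_comm (ι x) y]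
  have hsymm : ∀ x y, QuadraticMap.polarBilin Q x y = QuadraticMap.polarBilin Q y x := by
    intro x y
    rw [hpolar, hpolar, add_comm]
  have hsepL : (QuadraticMap.polarBilin Q).SeparatingLeft := by
    intro x hx
    by_contra hx0
    have h1 := hx (ι (x⁻¹ * x₀))
    rw [hpolar', hιι, ← mul_assoc, mul_inv_cancel₀ hx0, one_mul] at h1
    exact hφ h1
  have hsepR : (QuadraticMap.polarBilin Q).SeparatingRight := by
    intro y hy
    exact hsepL y (fun x => by rw [hsymm]; exact hy x)
  -- the torus element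
  have hcardE2 : 2 ≤ Nat.card (AdjoinRoot g) := by
    rw [hcard]
    calc 2 ≤ q := hq2
      _ = q ^ 1 := (pow_one q).symm
      _ ≤ q ^ (2 * d) := Nat.pow_le_pow_right (by omega) (by omega)
  obtain ⟨ζu, hζu⟩ : ∃ z : (AdjoinRoot g)ˣ, orderOf z = q ^ d + 1 := by
    obtain ⟨g₀, hg₀⟩ := IsCyclic.exists_ofOrder_eq_natCard (α := (AdjoinRoot g)ˣ)
    rw [Nat.card_units, hcard] at hg₀
    have hfac : q ^ (2 * d) - 1 = (q ^ d - 1) * (q ^ d + 1) := by
      obtain ⟨k, hk⟩ : ∃ k, q ^ d = k + 1 := ⟨q ^ d - 1, by omega⟩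
      rw [two_mul, pow_add, hk]
      simp only [Nat.add_sub_cancel]
      have : (k + 1) * (k + 1) = k * (k + 1 + 1) + 1 := by ring
      omega
    have hk0 : q ^ d - 1 ≠ 0 := by omega
    refine ⟨g₀ ^ (q ^ d - 1), ?_⟩
    rw [orderOf_pow_of_dvd hk0 (by rw [hg₀, hfac]; exact Dvd.intro _ rfl), hg₀, hfac]
    exact Nat.mul_div_cancel_left _ (Nat.pos_of_ne_zero hk0)
  set ζ : AdjoinRoot g := (ζu : AdjoinRoot g) with hζ
  have hζord : orderOf ζ = q ^ d + 1 := by rw [hζ, orderOf_units, hζu]
  have hζι : ζ * ι ζ = 1 := by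
    rw [hιapp, ← pow_succ', ← hζord, pow_orderOf_eq_one]
  let T : Module.End F (AdjoinRoot g) := LinearMap.mulLeft F ζ
  have hTapp : ∀ v, T v = ζ * v := fun v => rfl
  have hTpow : ∀ (k : ℕ) v, (T ^ k) v = ζ ^ k * v := by
    intro k
    induction k with
    | zero => intro v; simp
    | succ k ih =>
      intro v
      rw [pow_succ, Module.End.mul_apply, ih, hTapp, pow_succ, mul_assoc]
  have hTone : ∀ k : ℕ, T ^ k = 1 ↔ ζ ^ k = 1 := by
    intro k
    constructor
    · intro h
      have h1 := hTpow k 1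
      rw [h, Module.End.one_apply, mul_one] at h1
      exact h1.symm
    · intro h
      ext v
      rw [hTpow, h, one_mul, Module.End.one_apply]
  refine ⟨AdjoinRoot g, inferInstance, inferInstance, hfin, Q, T, ⟨hsepL, hsepR⟩, hfr, ?_, ?_, ?_⟩
  · intro v
    rw [hQ, hQ, hTapp, map_mul ι]
    have : ζ * v * (ι ζ * ι v) = (ζ * ι ζ) * (v * ι v) := by ring
    rw [this, hζι, one_mul]
  · rw [← hζord]
    exact orderOf_eq_orderOf_iff.2 hTone
  · intro k hk v hv
    by_contra hv0
    apply hk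
    rw [← hζord, orderOf_dvd_iff_pow_eq_one]
    rw [hTpow] at hv
    have h1 : (ζ ^ k - 1) * v = 0 := by rw [sub_mul, hv, one_mul, sub_self]
    rcases mul_eq_zero.1 h1 with h | h
    · exact sub_eq_zero.1 h
    · exact absurd h hv0

end Cfsg.Agent.Lib.Helper65_S3589_PKB1a
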