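import Mathlib
import Cfsg.Agent.Lib.Helper40_S8Defs
import Cfsg.Agent.Lib.Helper40_QuadIso
import Cfsg.Agent.Lib.Helper40_QuadStd
import Cfsg.Agent.Lib.Helper40_OFixedFree
import Cfsg.Agent.Lib.Helper44_StdForms

set_option autoImplicit false

/-!
Package PKB1b of S3589 (architect helper40): a nondegenerate quadratic space of dimension `2 d`
over a finite field of characteristic two carrying an isometry of order `q ^ d + 1` all of whose
nontrivial powers are fixed point free is of minus type (helper87).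
-/

namespace Cfsg.Agent.Lib.Helper87_S3589_PKB1b

open Module Cfsg.Agent.Lib.Helper40_S8Defs Cfsg.Agent.Lib.Helper40_QuadIso
  Cfsg.Agent.Lib.Helper44_StdForms

universe u

/-- powers of an isometry are isometries -/
theorem pow_isom {F : Type*} [Field F] {V : Type*} [AddCommGroup V] [Module F V]
    (Q : QuadraticForm F V) (T : Module.End F V) (hT : ∀ v, Q (T v) = Q v) (k : ℕ) :
    ∀ v, Q ((T ^ k) v) = Q v := by
  induction k with
  | zero => intro v; rfl
  | succ k ih =>
    intro v
    rw [pow_succ, Module.End.mul_apply, ih, hT]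

/-- in `ZMod r`, `r` an odd prime dividing `q ^ d + 1`: the order of `q` neither is `1` nor
divides `d` -/
theorem order_not_dvd (q d r : ℕ) (hr : r.Prime) (hr2 : r ≠ 2) (hdvd : r ∣ q ^ d + 1) :
    ¬ orderOf ((q : ℕ) : ZMod r) ∣ d := by
  intro h
  have h1 : ((q : ℕ) : ZMod r) ^ d = 1 := orderOf_dvd_iff_pow_eq_one.1 h
  have h2 : (((q ^ d + 1 : ℕ)) : ZMod r) = 0 := (ZMod.natCast_eq_zero_iff _ _).2 hdvd
  rw [Nat.cast_add, Nat.cast_pow, Nat.cast_one, h1] at h2
  apply Cfsg.Agent.Lib.Helper40_OFixedFree.two_ne_zero_zmod r hr hr2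
  rw [← h2]
  norm_num

theorem PKB1b {F : Type u} [Field F] [Fintype F] [CharP F 2] (a b : F)
    (han : ∀ z₁ z₂ : F, z₁ ^ 2 + a * z₁ * z₂ + b * z₂ ^ 2 = 0 → z₁ = 0 ∧ z₂ = 0)
    (d : ℕ) (hd : 1 ≤ d) {V : Type u} [AddCommGroup V] [Module F V] [Module.Finite F V]
    (Q : QuadraticForm F V) (hQ : (QuadraticMap.polarBilin Q).Nondegenerate)
    (hV : finrank F V = 2 * d) (T : Module.End F V) (hT : ∀ v, Q (T v) = Q v)
    (hord : orderOf T = Fintype.card F ^ d + 1)
    (hfix : ∀ k : ℕ, ¬ (Fintype.card F ^ d + 1) ∣ k → ∀ v, (T ^ k) v = v → v = 0) :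
    Iso Q (qfMinus (d - 1) F a b) := by
  rcases Cfsg.Agent.Lib.Helper40_QuadStd.iso_plus_or_minus d hd hV Q hQ a b han with h | h
  · exfalso
    obtain ⟨φ, hφ⟩ := h
    set q := Fintype.card F with hq
    have hrc : ringChar F = 2 :=
      CharP.ringChar_of_prime_eq_zero Nat.prime_two (by exact_mod_cast CharP.cast_eq_zero F 2)
    have hq2 : q % 2 = 0 := FiniteField.even_card_of_char_two hrc
    have hq1 : 2 ≤ q := by
      have : 1 < q := Fintype.one_lt_card
      omega
    have hqd : 2 ≤ q ^ d := by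
      calc 2 ≤ q := hq1
        _ = q ^ 1 := (pow_one q).symm
        _ ≤ q ^ d := Nat.pow_le_pow_right (by omega) hd
    have hqd2 : q ^ d % 2 = 0 := by
      obtain ⟨e, rfl⟩ : ∃ e, d = e + 1 := ⟨d - 1, by omega⟩
      rw [pow_succ, Nat.mul_mod, hq2]
      simp
    set N := q ^ d + 1 with hN
    have hN1 : N ≠ 1 := by omega
    obtain ⟨r, hr, hrN⟩ := Nat.exists_prime_and_dvd hN1
    have hr2 : r ≠ 2 := by
      rintro rfl
      omega
    obtain ⟨k, hk⟩ := hrN
    have hrpos : 2 ≤ r := hr.two_le
    have hkpos : 0 < k := by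
      rcases Nat.eq_zero_or_pos k with h0 | h0
      · rw [h0, mul_zero] at hk
        omega
      · exact h0
    have hkN : ¬ N ∣ k := by
      intro hdv
      have := Nat.le_of_dvd hkpos hdv
      rw [hk] at this
      nlinarith
    -- the fixed point free isometry of prime order
    have hpow : (T ^ k) ^ r = 1 := by
      rw [← pow_mul, mul_comm, ← hk, ← hord]
      exact pow_orderOf_eq_one T
    have hiso := pow_isom Q T hT k
    have hff := hfix k hkN
    -- transport to the plus form
    have happ : ∀ v, φ.conjRingEquiv (T ^ k) v = φ ((T ^ k) (φ.symm v)) := fun _ => rfl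
    have h1 := Cfsg.Agent.Lib.Helper40_OFixedFree.plus_fixedFree d hd r hr
      (φ.conjRingEquiv (T ^ k))
      (by
        intro v
        rw [happ, hφ, hiso, ← hφ, φ.apply_symm_apply])
      (by rw [← map_pow, hpow, map_one])
      (by
        intro v hv
        rw [happ] at hv
        have h3 : (T ^ k) (φ.symm v) = φ.symm v := by
          have := congrArg φ.symm hv
          rwa [φ.symm_apply_apply] at this
        have h4 := hff _ h3
        have := congrArg φ h4
        rwa [φ.apply_symm_apply, map_zero] at this)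
      (by
        intro h1
        apply order_not_dvd q d r hr hr2 ⟨k, hk⟩
        rw [h1]
        exact one_dvd d)
    exact order_not_dvd q d r hr hr2 ⟨k, hk⟩ h1
  · exact h

end Cfsg.Agent.Lib.Helper87_S3589_PKB1b
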