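import Mathlib
import Cfsg.Agent.Lib.Helper40_S8Main
import Cfsg.Agent.Lib.Helper52_S3589_PKA
import Cfsg.Agent.Lib.Helper65_S3589_PKB1a
import Cfsg.Agent.Lib.Helper87_S3589_PKB1b
import Cfsg.Agent.Lib.Helper49_S3589_PKB2
import Cfsg.Agent.Lib.Helper11_S3589_PKB3
import Cfsg.Agent.Lib.Helper54_S3589_PKB5m

set_option autoImplicit false

/-!
The building blocks for the spectrum of `O₈⁻(q)`, `q` even, collected from the packages, and the
resulting equality of spectra of `PSp₈(q)` and `O₈⁻(q)`.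
-/

namespace Cfsg.Agent.Lib.Helper40_S8Blocks

open Module Cfsg.Agent.Lib.Helper40_S8Defs Cfsg.Agent.Lib.Helper44_StdForms

universe v

variable {F : Type v} [Field F] [Fintype F] [CharP F 2]

/-- anisotropy of the binary form forces `a ≠ 0` in characteristic two -/
theorem a_ne_zero (a b : F)
    (han : ∀ z₁ z₂ : F, z₁ ^ 2 + a * z₁ * z₂ + b * z₂ ^ 2 = 0 → z₁ = 0 ∧ z₂ = 0) : a ≠ 0 := by
  intro ha
  have h2 : (2 : F) = 0 := CharTwo.two_eq_zero
  -- the Frobenius is surjective on a finite field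
  have hsurj : Function.Surjective (fun x : F => x ^ 2) := by
    apply Finite.injective_iff_surjective.1
    intro x y hxy
    have h1 : (x - y) ^ 2 = 0 := by
      have : x ^ 2 = y ^ 2 := hxy
      linear_combination this - x * y * h2 + y ^ 2 * h2
    exact sub_eq_zero.1 (pow_eq_zero_iff (two_ne_zero) |>.1 h1)
  obtain ⟨c, hc⟩ := hsurj b
  have hc' : c ^ 2 = b := hc
  have := han c 1 (by
    rw [ha, ← hc']
    linear_combination c ^ 2 * h2)
  exact one_ne_zero this.2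

theorem block_minus_torus (a b : F)
    (han : ∀ z₁ z₂ : F, z₁ ^ 2 + a * z₁ * z₂ + b * z₂ ^ 2 = 0 → z₁ = 0 ∧ z₂ = 0) (d : ℕ)
    (hd : 1 ≤ d) : HasIsom (qfMinus (d - 1) F a b) (Fintype.card F ^ d + 1) := by
  obtain ⟨V, _, _, _, Q, T, hQ, hV, hT, hord, hfix⟩ :=
    Cfsg.Agent.Lib.Helper65_S3589_PKB1a.PKB1a (F := F) d hd
  have hiso := Cfsg.Agent.Lib.Helper87_S3589_PKB1b.PKB1b a b han d hd Q hQ hV T hT hord hfix
  exact HasIsom.of_iso hiso ⟨T, hT, hord⟩

/-- the spectra of `PSp₈(q)` and `O₈⁻(q)` coincide, `q` even -/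
theorem spectra_eq (a b : F)
    (han : ∀ z₁ z₂ : F, z₁ ^ 2 + a * z₁ * z₂ + b * z₂ ^ 2 = 0 → z₁ = 0 ∧ z₂ = 0) :
    Set.range (orderOf : Cfsg.PSp 4 F → ℕ) =
      Set.range (orderOf : ↥(Cfsg.isometryGroup F (Cfsg.quadFormMinus 3 F a b)) → ℕ) := by
  have ha := a_ne_zero a b han
  exact Cfsg.Agent.Lib.Helper40_S8Main.main a b han
    (fun h he hS => Cfsg.Agent.Lib.Helper52_S3589_PKA.PKA Fintype.one_lt_card h he hS)
    (block_minus_torus a b han)
    (fun d hd => Cfsg.Agent.Lib.Helper49_S3589_PKB2.PKB2 d hd)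
    (Cfsg.Agent.Lib.Helper11_S3589_PKB3.PKB3 a b ha)
    (Cfsg.Agent.Lib.Helper54_S3589_PKB5m.PKB5m a b ha)

end Cfsg.Agent.Lib.Helper40_S8Blocks
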