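import Mathlib
import Cfsg.Agent.Lib.Helper40_S8Defs

set_option autoImplicit false

/-!
Definitions for the groups `V ^ k ⋊ Ω₈⁻(q)` isospectral to `Sp₈(q)`, `q` even: isometries that visibly
lie in the kernel of the Dickson invariant (`IsOmegaLike`) and have a nonzero norm vector.
-/

namespace Cfsg.Agent.Lib.Helper40_S9Defs

open Module

variable {F : Type*} [Field F] {V : Type*} [AddCommGroup V] [Module F V]

/-- `T` is a product of an isometry of odd order, an isometry `T₂` with `T₂ - 1` of even rank and the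
square of an isometry -/
def IsOmegaLike (Q : QuadraticForm F V) (T : Module.End F V) : Prop :=
  ∃ T₁ T₂ X : Module.End F V, (∀ v, Q (T₁ v) = Q v) ∧ (∀ v, Q (T₂ v) = Q v) ∧
    (∀ v, Q (X v) = Q v) ∧ T = T₁ * T₂ * X ^ 2 ∧ Odd (orderOf T₁) ∧
    Even (finrank F (LinearMap.range (T₂ - 1)))

/-- `Q` has an isometry `T` of order `n`, visibly in the kernel of the Dickson invariant, with a
vector on which `1 + T + ⋯ + T ^ (n - 1)` does not vanish -/
def HasIsomΩ (Q : QuadraticForm F V) (n : ℕ) : Prop :=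
  ∃ T : Module.End F V, (∀ v, Q (T v) = Q v) ∧ orderOf T = n ∧ IsOmegaLike Q T ∧
    ∃ v, (∑ i ∈ Finset.range n, T ^ i) v ≠ 0

end Cfsg.Agent.Lib.Helper40_S9Defs
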