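import Mathlib
import Cfsg.Agent.Lib.Helper40_S8Defs
import Cfsg.Agent.Lib.Helper40_S9Defs

set_option autoImplicit false

/-!
Bridge from `HasIsomΩ` to the matrix isometry group: an isometry that is visibly in the kernel of the
Dickson invariant gives a group element of even rank parity.
-/

namespace Cfsg.Agent.Lib.Helper40_S9Bridge

open Module Cfsg.Agent.Lib.Helper40_S8Defs Cfsg.Agent.Lib.Helper40_S9Defs
  Cfsg.Agent.Lib.Helper40_OClasses Cfsg.Agent.Lib.Helper44_WittMat Cfsg.Agent.Lib.Helper44_Orth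
open scoped Matrix

universe v

variable {ι : Type} [Fintype ι] [DecidableEq ι] {F : Type v} [Field F]

omit [Fintype ι] [DecidableEq ι] in
/-- an isometry of a nondegenerate quadratic space is injective -/
theorem injective_of_isom (Q : QuadraticForm F (ι → F))
    (hQ : (QuadraticMap.polarBilin Q).Nondegenerate) (T : Module.End F (ι → F))
    (hT : ∀ v, Q (T v) = Q v) : Function.Injective T := by
  rw [← LinearMap.ker_eq_bot, LinearMap.ker_eq_bot']
  intro x hx
  apply hQ.1
  intro y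
  rw [QuadraticMap.polarBilin_apply_apply, QuadraticMap.polar, ← hT (x + y), ← hT x, ← hT y,
    map_add, hx, zero_add, map_zero, sub_zero, sub_self]

/-- an isometry of a nondegenerate quadratic space as an element of the matrix isometry group -/
theorem exists_mat_of_isom (Q : QuadraticForm F (ι → F))
    (hQ : (QuadraticMap.polarBilin Q).Nondegenerate) (T : Module.End F (ι → F))
    (hT : ∀ v, Q (T v) = Q v) :
    ∃ g : ↥(Cfsg.isometryGroup F ⇑Q), mat Q g = LinearMap.toMatrix' T := by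
  let e : (ι → F) ≃ₗ[F] (ι → F) := LinearEquiv.ofInjectiveEndo T (injective_of_isom Q hQ T hT)
  have he : ∀ v, Q (e v) = Q v := fun v => hT v
  exact ⟨isomOfEquiv Q e he, rfl⟩

theorem toMatrix'_pow' (T : Module.End F (ι → F)) (k : ℕ) :
    LinearMap.toMatrix' T ^ k = LinearMap.toMatrix' (T ^ k) :=
  (map_pow (LinearMap.toMatrixAlgEquiv' (R := F) (n := ι)) T k).symm

theorem toMatrix'_mul' (T U : Module.End F (ι → F)) :
    LinearMap.toMatrix' T * LinearMap.toMatrix' U = LinearMap.toMatrix' (T * U) :=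
  (LinearMap.toMatrix'_mul T U).symm

theorem sq_eq_one_zmod (x : Multiplicative (ZMod 2)) : x ^ 2 = 1 := by
  have h : ∀ a : ZMod 2, a + a = 0 := by decide
  rw [pow_two]
  exact congrArg Multiplicative.ofAdd (h (Multiplicative.toAdd x))

theorem eq_one_of_odd_pow {x : Multiplicative (ZMod 2)} {k : ℕ} (hk : Odd k) (h : x ^ k = 1) :
    x = 1 := by
  obtain ⟨j, rfl⟩ := hk
  rw [pow_succ, pow_mul, sq_eq_one_zmod, one_pow, one_mul] at h
  exact h

/-- the bridge -/
theorem bridge (Q : QuadraticForm F (ι → F)) (hQ : (QuadraticMap.polarBilin Q).Nondegenerate)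
    (φ : ↥(Cfsg.isometryGroup F ⇑Q) →* Multiplicative (ZMod 2))
    (hφ : ∀ g : ↥(Cfsg.isometryGroup F ⇑Q), φ g = 1 ↔ Even ((mat Q g - 1).rank)) {n : ℕ}
    (h : HasIsomΩ Q n) :
    ∃ g : ↥(Cfsg.isometryGroup F ⇑Q), φ g = 1 ∧ orderOf g = n ∧
      ∃ v, (∑ i ∈ Finset.range n, mat Q g ^ i) *ᵥ v ≠ 0 := by
  obtain ⟨T, hT, hord, ⟨T₁, T₂, X, h₁, h₂, hX, hTeq, hodd, hev⟩, v, hv⟩ := h
  obtain ⟨g₁, hg₁⟩ := exists_mat_of_isom Q hQ T₁ h₁
  obtain ⟨g₂, hg₂⟩ := exists_mat_of_isom Q hQ T₂ h₂
  obtain ⟨gX, hgX⟩ := exists_mat_of_isom Q hQ X hX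
  have hmatmul : ∀ a b : ↥(Cfsg.isometryGroup F ⇑Q), mat Q (a * b) = mat Q a * mat Q b :=
    fun a b => rfl
  have hg : mat Q (g₁ * g₂ * gX ^ 2) = LinearMap.toMatrix' T := by
    rw [hmatmul, hmatmul, mat_pow, hg₁, hg₂, hgX, toMatrix'_pow', toMatrix'_mul', toMatrix'_mul',
      hTeq]
  refine ⟨g₁ * g₂ * gX ^ 2, ?_, ?_, v, ?_⟩
  · rw [map_mul, map_mul, map_pow, sq_eq_one_zmod, mul_one]
    have e1 : φ g₁ = 1 := by
      have hordeq : orderOf g₁ = orderOf T₁ := by
        apply orderOf_eq_orderOf_iff.2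
        intro k
        rw [← mat_pow_eq_one_iff, hg₁, toMatrix'_pow']
        constructor
        · intro h
          apply LinearMap.toMatrix'.injective
          rw [h, LinearMap.toMatrix'_one]
        · intro h
          rw [h, LinearMap.toMatrix'_one]
      apply eq_one_of_odd_pow hodd
      rw [← map_pow, ← hordeq, pow_orderOf_eq_one, map_one]
    have e2 : φ g₂ = 1 := by
      rw [hφ, hg₂]
      have h1 : LinearMap.toMatrix' T₂ - 1 = LinearMap.toMatrix' (T₂ - 1) := by
        rw [map_sub, LinearMap.toMatrix'_one]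
      rw [h1, Matrix.rank, ← Matrix.toLin'_apply', Matrix.toLin'_toMatrix']
      exact hev
    rw [e1, e2, one_mul]
  · rw [← hord]
    apply orderOf_eq_orderOf_iff.2
    intro k
    rw [← mat_pow_eq_one_iff, hg, toMatrix'_pow']
    constructor
    · intro h
      apply LinearMap.toMatrix'.injective
      rw [h, LinearMap.toMatrix'_one]
    · intro h
      rw [h, LinearMap.toMatrix'_one]
  · intro h0
    apply hv
    rw [hg] at h0
    rw [LinearMap.sum_apply]
    rw [Matrix.sum_mulVec] at h0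
    rw [← h0]
    apply Finset.sum_congr rfl
    intro i _
    rw [toMatrix'_pow', LinearMap.toMatrix'_mulVec]

end Cfsg.Agent.Lib.Helper40_S9Bridge
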