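import Mathlib
import Cfsg.Agent.Lib.Helper40_S8Blocks
import Cfsg.Agent.Lib.Helper40_S9Defs

set_option autoImplicit false

/-!
Glue for the groups `V ^ k ⋊ Ω₈⁻(q)`: an element `g` of `O₈⁻(q)`, `q` even, with `g - 1` of even rank and
`1 + g + ⋯ + g ^ (n - 1) ≠ 0`, `n` the order of `g`, has `2 n` dividing one of the twelve numbers.
-/

namespace Cfsg.Agent.Lib.Helper40_S9Glue

open Polynomial Module Cfsg.Agent.Lib.Helper40_S8Defs Cfsg.Agent.Lib.Helper40_S8Peel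
  Cfsg.Agent.Lib.Helper40_OrdPoly Cfsg.Agent.Lib.Helper40_Palindromic
  Cfsg.Agent.Lib.Helper44_StdForms Cfsg.Agent.Lib.Helper40_OrdOrth

section poly

variable {F : Type*} [Field F] [Fintype F] [CharP F 2]

omit [Fintype F] in
/-- the peeled polynomial divides `X ^ (2 ^ e * L) - 1` as soon as `2 ^ e` bounds the exponents -/
theorem Inv2.dvd_pow {q : ℕ} {χ : F[X]} {L S E A : ℕ} {ρ : F[X]} (hI : Inv2 q χ L S E A ρ)
    (e : ℕ) (hA : A ≤ 2 ^ e) (hE : E ≤ 2 ^ e) : χ ∣ X ^ (2 ^ e * L) - 1 := by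
  have : Fact (Nat.Prime 2) := ⟨Nat.prime_two⟩
  have K3 : (X ^ L - 1 : F[X]) ^ (2 ^ e) = X ^ (2 ^ e * L) - 1 := by
    rw [sub_pow_char_pow, one_pow, ← pow_mul, mul_comm]
  refine hI.hdvd.trans ?_
  rw [← K3]
  have h1 : (X - 1 : F[X]) ∣ X ^ L - 1 := by
    have := X_pow_sub_one_dvd_of_dvd (F := F) (one_dvd L)
    rwa [pow_one] at this
  have h2 : (X - 1 : F[X]) * ρ ∣ X ^ L - 1 := hI.hc1.symm.mul_dvd h1 hI.hρ
  have h3 : (X - 1 : F[X]) ^ A * ρ ^ E ∣ ((X - 1) * ρ) ^ (2 ^ e) := by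
    rw [mul_pow]
    exact mul_dvd_mul (pow_dvd_pow _ hA) (pow_dvd_pow _ hE)
  exact h3.trans (pow_dvd_pow_of_dvd h2 _)

omit [Fintype F] [CharP F 2] in
/-- the multiplicity of the root `1` is at most the number of peeled factors `X - 1` -/
theorem Inv2.rootMultiplicity_le {q : ℕ} {χ : F[X]} {L S E A : ℕ} {ρ : F[X]}
    (hI : Inv2 q χ L S E A ρ) : χ.rootMultiplicity 1 ≤ A := by
  have h1 : (X - C (1 : F)) ^ χ.rootMultiplicity 1 ∣ χ := pow_rootMultiplicity_dvd χ 1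
  rw [C_1] at h1
  have h2 : (X - 1 : F[X]) ^ χ.rootMultiplicity 1 ∣ (X - 1) ^ A * ρ ^ E := h1.trans hI.hdvd
  have hcop : IsCoprime ((X - 1 : F[X]) ^ χ.rootMultiplicity 1) (ρ ^ E) :=
    IsCoprime.pow hI.hc1.symm
  have h3 : (X - 1 : F[X]) ^ χ.rootMultiplicity 1 ∣ (X - 1) ^ A := hcop.dvd_of_dvd_mul_right h2
  have hnu : ¬ IsUnit (X - 1 : F[X]) := irreducible_X_sub_one.not_isUnit
  exact (pow_dvd_pow_iff monic_X_sub_one.ne_zero hnu).1 h3

end poly

section elements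

open Cfsg.Agent.Lib.Helper40_OClasses Cfsg.Agent.Lib.Helper44_Orth
open scoped Matrix

universe v

variable {F : Type v} [Field F] [Fintype F] [CharP F 2]

omit [Fintype F] [CharP F 2] in
theorem isom_mulVec {ι : Type} [Fintype ι] [DecidableEq ι] (Q : QuadraticForm F (ι → F))
    (g : ↥(Cfsg.isometryGroup F ⇑Q)) : ∀ w, Q (mat Q g *ᵥ w) = Q w := by
  intro w
  exact (mem_isometryGroup_iff (⇑Q) (g : Matrix.GeneralLinearGroup ι F)).1 g.2 w

/-- an element `g` of `O₈⁻(q)` with `g - 1` of even rank and nonvanishing norm operator: twice its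
order divides one of the twelve numbers -/
theorem two_mul_order_dvd (a b : F)
    (han : ∀ z₁ z₂ : F, z₁ ^ 2 + a * z₁ * z₂ + b * z₂ ^ 2 = 0 → z₁ = 0 ∧ z₂ = 0)
    (hC1 : ∀ (T : Module.End F ((Fin 3 ⊕ Fin 3) ⊕ Fin 2 → F)) (e m : ℕ), Odd m →
      T ^ (2 ^ e * m) = 1 → ∑ i ∈ Finset.range (2 ^ e * m), T ^ i ≠ 0 →
      Even (finrank F (LinearMap.range (T - 1))) → 2 ^ e + 1 ≤ T.charpoly.rootMultiplicity 1)
    (g : ↥(Cfsg.isometryGroup F ⇑(qfMinus 3 F a b)))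
    (hev : Even ((mat (qfMinus 3 F a b) g - 1).rank)) (v : (Fin 3 ⊕ Fin 3) ⊕ Fin 2 → F)
    (hv : (∑ i ∈ Finset.range (orderOf g), mat (qfMinus 3 F a b) g ^ i) *ᵥ v ≠ 0) :
    ∃ N ∈ twelve (Fintype.card F), 2 * orderOf g ∣ N := by
  have hq2 : 2 ≤ Fintype.card F := Fintype.one_lt_card
  have hpres0 : ∀ w, qfMinus 3 F a b (mat (qfMinus 3 F a b) g *ᵥ w) = qfMinus 3 F a b w :=
    isom_mulVec _ g
  have hpowiff : ∀ k : ℕ, mat (qfMinus 3 F a b) g ^ k = 1 ↔ g ^ k = 1 :=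
    fun k => mat_pow_eq_one_iff (qfMinus 3 F a b) g k
  obtain ⟨M, hMdef⟩ : ∃ M, M = mat (qfMinus 3 F a b) g := ⟨_, rfl⟩
  rw [← hMdef] at hev hv hpres0
  simp only [← hMdef] at hpowiff
  obtain ⟨Q, hQdef⟩ : ∃ Q, Q = qfMinus 3 F a b := ⟨_, rfl⟩
  have hpres : ∀ w, Q (M *ᵥ w) = Q w := by rw [hQdef]; exact hpres0
  have hinv := gram_invariant Q M hpres
  have hdet : (gram (⇑Q)).det ≠ 0 := by
    have h1 := det_gram_quadFormMinus (m := 3) (F := F) a b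
    have h2 : gram (⇑Q) = Matrix.of (fun i j : (Fin 3 ⊕ Fin 3) ⊕ Fin 2 =>
        QuadraticMap.polar (Cfsg.quadFormMinus 3 F a b) (Pi.single i 1) (Pi.single j 1)) := by
      rw [hQdef, coe_qfMinus]
      rfl
    rw [h2, h1]
    exact mul_ne_zero (pow_ne_zero _ (by simp))
      (Cfsg.Agent.Lib.Helper14_POmegaSimple.disc_ne_zero a b han)
  obtain ⟨hrec, h0⟩ := recip_charpoly_of_gram M (gram (⇑Q)) hdet hinv
  have hmon := M.charpoly_monic
  have hdeg8 : M.charpoly.natDegree = 8 := by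
    rw [Matrix.charpoly_natDegree_eq_dim, Fintype.card_sum, Fintype.card_sum, Fintype.card_fin,
      Fintype.card_fin]
  obtain ⟨L, S, E, A, ρ, hI⟩ := exists_inv2 M.charpoly.natDegree M.charpoly hmon h0 hrec le_rfl
  have hdeg := hI.hdeg
  rw [hdeg8] at hdeg
  have hE := hI.hE
  -- the order
  have hfin : Finite ↥(Cfsg.isometryGroup F ⇑(qfMinus 3 F a b)) := by
    have : Finite (Matrix.GeneralLinearGroup ((Fin 3 ⊕ Fin 3) ⊕ Fin 2) F) :=
      Finite.of_injective _ Units.val_injective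
    exact Subtype.finite
  have hnpos : 0 < orderOf g := orderOf_pos g
  obtain ⟨e, m, hm, hnem⟩ := Nat.exists_eq_two_pow_mul_odd hnpos.ne'
  -- the endomorphism
  set T : Module.End F ((Fin 3 ⊕ Fin 3) ⊕ Fin 2 → F) := Matrix.toLin' M with hTdef
  have hTpow : ∀ k : ℕ, T ^ k = Matrix.toLin' (M ^ k) := fun k => (Matrix.toLin'_pow M k).symm
  have hMn : M ^ orderOf g = 1 := (hpowiff _).2 (pow_orderOf_eq_one g)
  have hT1 : T ^ (2 ^ e * m) = 1 := by
    rw [← hnem, hTpow, hMn, Matrix.toLin'_one]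
    rfl
  have hTN : ∑ i ∈ Finset.range (2 ^ e * m), T ^ i ≠ 0 := by
    intro h
    apply hv
    have h1 : (∑ i ∈ Finset.range (2 ^ e * m), T ^ i) v = 0 := by rw [h]; rfl
    rw [← hnem] at h1
    rw [LinearMap.sum_apply] at h1
    rw [Matrix.sum_mulVec]
    rw [← h1]
    apply Finset.sum_congr rfl
    intro i _
    rw [hTpow, Matrix.toLin'_apply]
  have hTr : Even (finrank F (LinearMap.range (T - 1))) := by
    have h1 : T - 1 = Matrix.toLin' (M - 1) := by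
      rw [map_sub, Matrix.toLin'_one]
      rfl
    rw [h1]
    exact hev
  have hchar : T.charpoly = M.charpoly := by
    rw [hTdef]
    exact Matrix.charpoly_toLin' M
  have hA0 := hC1 T e m hm hT1 hTN hTr
  rw [hchar] at hA0
  have hA : 2 ^ e + 1 ≤ A := hA0.trans (Inv2.rootMultiplicity_le hI)
  -- `m` divides `L`
  have hLpos : 0 < L := Tor.pos hq2 hI.htor
  have hχ8 : M.charpoly ∣ X ^ (2 ^ 3 * L) - 1 := Inv2.dvd_pow hI 3 (by omega) (by omega)
  have hM8 : M ^ (2 ^ 3 * L) = 1 := by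
    obtain ⟨c, hc⟩ := hχ8
    have h1 := congrArg (aeval M) hc
    rw [map_mul, Matrix.aeval_self_charpoly, zero_mul, map_sub, map_pow, aeval_X, map_one] at h1
    exact sub_eq_zero.1 h1
  have hn8 : orderOf g ∣ 2 ^ 3 * L :=
    orderOf_dvd_of_pow_eq_one ((hpowiff _).1 hM8)
  have hmL : m ∣ L := by
    have h1 : m ∣ 2 ^ 3 * L := (Dvd.intro_left _ hnem.symm).trans hn8
    have hcop : Nat.Coprime m (2 ^ 3) := Nat.Coprime.pow_right 3 (Nat.coprime_two_right.2 hm)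
    exact hcop.dvd_of_dvd_mul_left h1
  -- the bound on `e` and `S`
  have he2 : e ≤ 2 := by
    by_contra hcon
    have : 2 ^ 3 ≤ 2 ^ e := Nat.pow_le_pow_right (by norm_num) (by omega)
    omega
  have hSe : (e + 1) + S ≤ 4 := by
    interval_cases e <;> simp at hA <;> omega
  obtain ⟨N, hN, hLN⟩ := Cfsg.Agent.Lib.Helper52_S3589_PKA.PKA hq2 hI.htor (e := e + 1) (by omega) hSe
  refine ⟨N, hN, ?_⟩
  rw [hnem]
  have h1 : 2 * (2 ^ e * m) = 2 ^ (e + 1) * m := by ring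
  rw [h1]
  exact (Nat.mul_dvd_mul_left _ hmL).trans hLN

end elements

end Cfsg.Agent.Lib.Helper40_S9Glue
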