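import Mathlib
import Cfsg.Agent.Lib.Helper44_StdForms
import Cfsg.Agent.Lib.Helper11_S3589_PKB3

/-!
# S3590 package `PKB6` (helper45): two explicit isometries of order `4` with even rank of `U - 1`
-/

set_option autoImplicit false
set_option linter.style.haveILetI false
set_option linter.unnecessarySeqFocus false

namespace Cfsg.Agent.Lib.Helper45_S3590_PKB6

open Module Cfsg.Agent.Lib.Helper44_StdForms Cfsg.Agent.Lib.Helper11_S3589_PKB3

universe u

variable {F : Type u} [Field F]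

/-! ### (i) on `qfPlus 3` -/

def fA (v : Fin 3 ⊕ Fin 3 → F) : Fin 3 ⊕ Fin 3 → F :=
  Sum.elim ![v (Sum.inr 1), v (Sum.inl 0), v (Sum.inr 2)]
    ![v (Sum.inl 1), v (Sum.inr 0), v (Sum.inl 2)]

def UA : Module.End F (Fin 3 ⊕ Fin 3 → F) :=
  mkEnd fA
    (by intro v w; funext i; rcases i with i | i <;> fin_cases i <;> simp [fA])
    (by intro c v; funext i; rcases i with i | i <;> fin_cases i <;> simp [fA])

def gA (v : Fin 3 ⊕ Fin 3 → F) : Fin 3 ⊕ Fin 3 → F :=
  Sum.elim ![v (Sum.inr 0), v (Sum.inr 1), v (Sum.inl 2)]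
    ![v (Sum.inl 0), v (Sum.inl 1), v (Sum.inr 2)]

def SA : Module.End F (Fin 3 ⊕ Fin 3 → F) :=
  mkEnd gA
    (by intro v w; funext i; rcases i with i | i <;> fin_cases i <;> simp [gA])
    (by intro c v; funext i; rcases i with i | i <;> fin_cases i <;> simp [gA])

theorem UA_sq : (UA : Module.End F (Fin 3 ⊕ Fin 3 → F)) ^ 2 = SA := by
  rw [pow_two]
  refine LinearMap.ext (fun v => funext (fun i => ?_))
  rcases i with i | i <;> fin_cases i <;> simp [UA, fA, SA, gA]

theorem SA_sq : (SA : Module.End F (Fin 3 ⊕ Fin 3 → F)) ^ 2 = 1 := by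
  rw [pow_two]
  refine LinearMap.ext (fun v => funext (fun i => ?_))
  rcases i with i | i <;> fin_cases i <;> simp [SA, gA]

/-- the parametrization of the fixed space of `UA` -/
def kA : (Fin 2 → F) →ₗ[F] (Fin 3 ⊕ Fin 3 → F) where
  toFun s := Sum.elim ![s 0, s 0, s 1] ![s 0, s 0, s 1]
  map_add' := by intro v w; funext i; rcases i with i | i <;> fin_cases i <;> simp
  map_smul' := by intro c v; funext i; rcases i with i | i <;> fin_cases i <;> simp

theorem card_six : Fintype.card (Fin 3 ⊕ Fin 3) = 6 := by simp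

theorem card_six' : Fintype.card ((Fin 2 ⊕ Fin 2) ⊕ Fin 2) = 6 := by simp

theorem partA : ∃ U : Module.End F (Fin 3 ⊕ Fin 3 → F), (∀ v, qfPlus 3 F (U v) = qfPlus 3 F v) ∧
    orderOf U = 4 ∧ Even (finrank F (LinearMap.range (U - 1))) ∧
    ∃ e, (∑ i ∈ Finset.range 4, U ^ i) e ≠ 0 := by
  refine ⟨UA, ?_, ?_, ?_, ?_⟩
  · intro v
    rw [coe_qfPlus]
    simp [Cfsg.quadFormPlus, UA, fA, Fin.sum_univ_succ]
    ring
  · haveI : Fact (Nat.Prime 2) := ⟨Nat.prime_two⟩
    have h := orderOf_eq_prime_pow (x := (UA : Module.End F (Fin 3 ⊕ Fin 3 → F))) (p := 2) (n := 1)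
      ?_ ?_
    · simpa using h
    · rw [pow_one, UA_sq]
      intro h1
      have h2 := congrArg (fun T : Module.End F (Fin 3 ⊕ Fin 3 → F) =>
        T (Pi.single (Sum.inl 0) 1) (Sum.inl 0)) h1
      simp [SA, gA] at h2
    · rw [show (2 : ℕ) ^ (1 + 1) = 2 * 2 from rfl, pow_mul, UA_sq, SA_sq]
  · have hker : LinearMap.ker ((UA : Module.End F (Fin 3 ⊕ Fin 3 → F)) - 1) = LinearMap.range kA := by
      ext v
      rw [LinearMap.mem_ker, LinearMap.sub_apply, Module.End.one_apply, sub_eq_zero,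
        LinearMap.mem_range]
      constructor
      · intro hv
        refine ⟨![v (Sum.inl 0), v (Sum.inl 2)], ?_⟩
        have h0 := congrFun hv (Sum.inl 0)
        have h1 := congrFun hv (Sum.inl 1)
        have h2 := congrFun hv (Sum.inl 2)
        have h3 := congrFun hv (Sum.inr 0)
        have h4 := congrFun hv (Sum.inr 1)
        have h5 := congrFun hv (Sum.inr 2)
        simp [UA, fA] at h0 h1 h2 h3 h4 h5
        funext i
        rcases i with i | i <;> fin_cases i <;> simp [kA]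
        all_goals first | exact h1 | exact h1.trans h3 | exact h0.symm | exact h5 | exact h5.symm
      · rintro ⟨s, rfl⟩
        funext i
        rcases i with i | i <;> fin_cases i <;> simp [UA, fA, kA]
    have hinj : Function.Injective (kA : (Fin 2 → F) →ₗ[F] (Fin 3 ⊕ Fin 3 → F)) := by
      intro s t hst
      have h0 := congrFun hst (Sum.inl 0)
      have h2 := congrFun hst (Sum.inl 2)
      simp [kA] at h0 h2
      funext i
      fin_cases i
      · exact h0
      · exact h2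
    have h1 := LinearMap.finrank_range_add_finrank_ker ((UA : Module.End F (Fin 3 ⊕ Fin 3 → F)) - 1)
    rw [hker, LinearMap.finrank_range_of_inj hinj, Module.finrank_fin_fun,
      Module.finrank_fintype_fun_eq_card, card_six] at h1
    exact ⟨2, by omega⟩
  · refine ⟨Pi.single (Sum.inl 0) 1, fun h0 => ?_⟩
    have h3 : (UA : Module.End F (Fin 3 ⊕ Fin 3 → F)) ^ 3 = SA * UA := by
      rw [← UA_sq]; exact pow_succ UA 2
    have hsum : (∑ i ∈ Finset.range 4, (UA : Module.End F (Fin 3 ⊕ Fin 3 → F)) ^ i) =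
        1 + UA + SA + SA * UA := by
      rw [Finset.sum_range_succ, Finset.sum_range_succ, Finset.sum_range_succ,
        Finset.sum_range_one, h3, UA_sq, pow_one, pow_zero]
    rw [hsum] at h0
    have h1 := congrFun h0 (Sum.inl 0)
    simp [UA, fA, SA, gA] at h1

/-! ### (ii) on `qfMinus 2 a b` -/

def fB (a : F) (v : (Fin 2 ⊕ Fin 2) ⊕ Fin 2 → F) : (Fin 2 ⊕ Fin 2) ⊕ Fin 2 → F :=
  Sum.elim
    (Sum.elim ![v (Sum.inl (Sum.inr 1)), v (Sum.inl (Sum.inl 0))]
      ![v (Sum.inl (Sum.inl 1)), v (Sum.inl (Sum.inr 0))])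
    ![v (Sum.inr 0) + a * v (Sum.inr 1), v (Sum.inr 1)]

def UB (a : F) : Module.End F ((Fin 2 ⊕ Fin 2) ⊕ Fin 2 → F) :=
  mkEnd (fB a)
    (by
      intro v w; funext i
      rcases i with (i | i) | i <;> fin_cases i <;> simp [fB] <;> ring)
    (by
      intro c v; funext i
      rcases i with (i | i) | i <;> fin_cases i <;> simp [fB] <;> ring)

def gB (v : (Fin 2 ⊕ Fin 2) ⊕ Fin 2 → F) : (Fin 2 ⊕ Fin 2) ⊕ Fin 2 → F :=
  Sum.elim
    (Sum.elim ![v (Sum.inl (Sum.inr 0)), v (Sum.inl (Sum.inr 1))]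
      ![v (Sum.inl (Sum.inl 0)), v (Sum.inl (Sum.inl 1))])
    ![v (Sum.inr 0), v (Sum.inr 1)]

def SB : Module.End F ((Fin 2 ⊕ Fin 2) ⊕ Fin 2 → F) :=
  mkEnd gB
    (by
      intro v w; funext i
      rcases i with (i | i) | i <;> fin_cases i <;> simp [gB])
    (by
      intro c v; funext i
      rcases i with (i | i) | i <;> fin_cases i <;> simp [gB])

theorem UB_sq [CharP F 2] (a : F) : (UB a : Module.End F ((Fin 2 ⊕ Fin 2) ⊕ Fin 2 → F)) ^ 2 = SB := by
  have h2 : (2 : F) = 0 := two_eq_zero'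
  rw [pow_two]
  refine LinearMap.ext (fun v => funext (fun i => ?_))
  rcases i with (i | i) | i <;> fin_cases i <;> simp [UB, fB, SB, gB]
  linear_combination (a * v (Sum.inr 1)) * h2

theorem SB_sq : (SB : Module.End F ((Fin 2 ⊕ Fin 2) ⊕ Fin 2 → F)) ^ 2 = 1 := by
  rw [pow_two]
  refine LinearMap.ext (fun v => funext (fun i => ?_))
  rcases i with (i | i) | i <;> fin_cases i <;> simp [SB, gB]

/-- the parametrization of the fixed space of `UB a` -/
def kB : (Fin 2 → F) →ₗ[F] ((Fin 2 ⊕ Fin 2) ⊕ Fin 2 → F) where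
  toFun s := Sum.elim (Sum.elim ![s 0, s 0] ![s 0, s 0]) ![s 1, 0]
  map_add' := by
    intro v w; funext i
    rcases i with (i | i) | i <;> fin_cases i <;> simp
  map_smul' := by
    intro c v; funext i
    rcases i with (i | i) | i <;> fin_cases i <;> simp

theorem partB [CharP F 2] (a b : F) (ha : a ≠ 0) :
    ∃ U : Module.End F ((Fin 2 ⊕ Fin 2) ⊕ Fin 2 → F),
      (∀ v, qfMinus 2 F a b (U v) = qfMinus 2 F a b v) ∧
      orderOf U = 4 ∧ Even (finrank F (LinearMap.range (U - 1))) ∧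
      ∃ e, (∑ i ∈ Finset.range 4, U ^ i) e ≠ 0 := by
  have h2 : (2 : F) = 0 := two_eq_zero'
  refine ⟨UB a, ?_, ?_, ?_, ?_⟩
  · intro v
    rw [coe_qfMinus]
    simp [Cfsg.quadFormMinus, UB, fB, Fin.sum_univ_succ]
    linear_combination (a * v (Sum.inr 0) * v (Sum.inr 1) + a ^ 2 * v (Sum.inr 1) ^ 2) * h2
  · haveI : Fact (Nat.Prime 2) := ⟨Nat.prime_two⟩
    have h := orderOf_eq_prime_pow
      (x := (UB a : Module.End F ((Fin 2 ⊕ Fin 2) ⊕ Fin 2 → F))) (p := 2) (n := 1) ?_ ?_
    · simpa using h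
    · rw [pow_one, UB_sq]
      intro h1
      have h3 := congrArg (fun T : Module.End F ((Fin 2 ⊕ Fin 2) ⊕ Fin 2 → F) =>
        T (Pi.single (Sum.inl (Sum.inl 0)) 1) (Sum.inl (Sum.inl 0))) h1
      simp [SB, gB] at h3
    · rw [show (2 : ℕ) ^ (1 + 1) = 2 * 2 from rfl, pow_mul, UB_sq, SB_sq]
  · have hker : LinearMap.ker ((UB a : Module.End F ((Fin 2 ⊕ Fin 2) ⊕ Fin 2 → F)) - 1) =
        LinearMap.range kB := by
      ext v
      rw [LinearMap.mem_ker, LinearMap.sub_apply, Module.End.one_apply, sub_eq_zero,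
        LinearMap.mem_range]
      constructor
      · intro hv
        refine ⟨![v (Sum.inl (Sum.inl 0)), v (Sum.inr 0)], ?_⟩
        have h0 := congrFun hv (Sum.inl (Sum.inl 0))
        have h1 := congrFun hv (Sum.inl (Sum.inl 1))
        have h3 := congrFun hv (Sum.inl (Sum.inr 0))
        have h4 := congrFun hv (Sum.inl (Sum.inr 1))
        have h5 := congrFun hv (Sum.inr 0)
        simp [UB, fB] at h0 h1 h3 h4 h5
        have hz : v (Sum.inr 1) = 0 := by
          rcases h5 with h5 | h5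
          · exact absurd h5 ha
          · exact h5
        funext i
        rcases i with (i | i) | i <;> fin_cases i <;> simp [kB]
        all_goals first | exact h1 | exact h1.trans h3 | exact h0.symm | exact hz | exact hz.symm
      · rintro ⟨s, rfl⟩
        funext i
        rcases i with (i | i) | i <;> fin_cases i <;> simp [UB, fB, kB]
    have hinj : Function.Injective (kB : (Fin 2 → F) →ₗ[F] ((Fin 2 ⊕ Fin 2) ⊕ Fin 2 → F)) := by
      intro s t hst
      have h0 := congrFun hst (Sum.inl (Sum.inl 0))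
      have h1 := congrFun hst (Sum.inr 0)
      simp [kB] at h0 h1
      funext i
      fin_cases i
      · exact h0
      · exact h1
    have h1 := LinearMap.finrank_range_add_finrank_ker
      ((UB a : Module.End F ((Fin 2 ⊕ Fin 2) ⊕ Fin 2 → F)) - 1)
    rw [hker, LinearMap.finrank_range_of_inj hinj, Module.finrank_fin_fun,
      Module.finrank_fintype_fun_eq_card, card_six'] at h1
    exact ⟨2, by omega⟩
  · refine ⟨Pi.single (Sum.inl (Sum.inl 0)) 1, fun h0 => ?_⟩
    have h3 : (UB a : Module.End F ((Fin 2 ⊕ Fin 2) ⊕ Fin 2 → F)) ^ 3 = SB * UB a := by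
      rw [← UB_sq a]; exact pow_succ (UB a) 2
    have hsum : (∑ i ∈ Finset.range 4, (UB a : Module.End F ((Fin 2 ⊕ Fin 2) ⊕ Fin 2 → F)) ^ i) =
        1 + UB a + SB + SB * UB a := by
      rw [Finset.sum_range_succ, Finset.sum_range_succ, Finset.sum_range_succ,
        Finset.sum_range_one, h3, UB_sq, pow_one, pow_zero]
    rw [hsum] at h0
    have h1 := congrFun h0 (Sum.inl (Sum.inl 0))
    simp [UB, fB, SB, gB] at h1

theorem PKB6 {F : Type u} [Field F] [CharP F 2] (a b : F) (ha : a ≠ 0) :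
    (∃ U : Module.End F (Fin 3 ⊕ Fin 3 → F), (∀ v, qfPlus 3 F (U v) = qfPlus 3 F v) ∧
      orderOf U = 4 ∧ Even (finrank F (LinearMap.range (U - 1))) ∧
      ∃ e, (∑ i ∈ Finset.range 4, U ^ i) e ≠ 0) ∧
    (∃ U : Module.End F ((Fin 2 ⊕ Fin 2) ⊕ Fin 2 → F),
      (∀ v, qfMinus 2 F a b (U v) = qfMinus 2 F a b v) ∧
      orderOf U = 4 ∧ Even (finrank F (LinearMap.range (U - 1))) ∧
      ∃ e, (∑ i ∈ Finset.range 4, U ^ i) e ≠ 0) :=
  ⟨partA, partB a b ha⟩

end Cfsg.Agent.Lib.Helper45_S3590_PKB6
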