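import Mathlib
import Cfsg.Agent.Lib.Helper40_S8Defs
import Cfsg.Agent.Lib.Helper40_S9Defs

set_option autoImplicit false

/-!
S3590-PKH (helper85, for helper40): constructors for `HasIsomΩ` on orthogonal sums of quadratic
spaces in characteristic `2`, and transport along isometries of spaces.
-/

namespace Cfsg.Agent.Lib.Helper85_S3590_PKH

open Module Cfsg.Agent.Lib.Helper40_S8Defs Cfsg.Agent.Lib.Helper40_S9Defs
  Cfsg.Agent.Lib.Helper40_QuadIso

section tools

variable {F : Type*} [Field F] {V₁ V₂ : Type*} [AddCommGroup V₁] [Module F V₁]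
  [AddCommGroup V₂] [Module F V₂]

theorem prodMap_pow (A : Module.End F V₁) (B : Module.End F V₂) (k : ℕ) :
    (LinearMap.prodMap A B : Module.End F (V₁ × V₂)) ^ k = LinearMap.prodMap (A ^ k) (B ^ k) := by
  induction k with
  | zero =>
    rw [pow_zero, pow_zero, pow_zero]
    exact LinearMap.prodMap_one.symm
  | succ k ih =>
    rw [pow_succ, pow_succ, pow_succ, ih]
    exact (LinearMap.prodMap_mul _ _ _ _).symm

theorem prodMap_eq_one_iff (A : Module.End F V₁) (B : Module.End F V₂) :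
    (LinearMap.prodMap A B : Module.End F (V₁ × V₂)) = 1 ↔ A = 1 ∧ B = 1 := by
  constructor
  · intro h
    constructor
    · exact LinearMap.ext fun v => congrArg Prod.fst (LinearMap.congr_fun h (v, 0))
    · exact LinearMap.ext fun v => congrArg Prod.snd (LinearMap.congr_fun h (0, v))
  · rintro ⟨rfl, rfl⟩
    exact LinearMap.prodMap_one

theorem orderOf_prodMap (A : Module.End F V₁) (B : Module.End F V₂) :
    orderOf (LinearMap.prodMap A B : Module.End F (V₁ × V₂))
      = Nat.lcm (orderOf A) (orderOf B) := by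
  apply Nat.dvd_antisymm
  · apply orderOf_dvd_of_pow_eq_one
    rw [prodMap_pow, orderOf_dvd_iff_pow_eq_one.1 (Nat.dvd_lcm_left _ _),
      orderOf_dvd_iff_pow_eq_one.1 (Nat.dvd_lcm_right _ _)]
    exact LinearMap.prodMap_one
  · have h := pow_orderOf_eq_one (LinearMap.prodMap A B : Module.End F (V₁ × V₂))
    rw [prodMap_pow, prodMap_eq_one_iff] at h
    exact Nat.lcm_dvd (orderOf_dvd_of_pow_eq_one h.1) (orderOf_dvd_of_pow_eq_one h.2)

theorem sum_prodMap_apply (A : Module.End F V₁) (B : Module.End F V₂) (N : ℕ) (x : V₁)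
    (y : V₂) :
    (∑ i ∈ Finset.range N, (LinearMap.prodMap A B : Module.End F (V₁ × V₂)) ^ i) (x, y)
      = ((∑ i ∈ Finset.range N, A ^ i) x, (∑ i ∈ Finset.range N, B ^ i) y) := by
  rw [LinearMap.sum_apply, LinearMap.sum_apply, LinearMap.sum_apply]
  apply Prod.ext
  · rw [Prod.fst_sum]
    apply Finset.sum_congr rfl
    intro i _
    rw [prodMap_pow]
    rfl
  · rw [Prod.snd_sum]
    apply Finset.sum_congr rfl
    intro i _
    rw [prodMap_pow]
    rfl

theorem isom_prodMap {Q₁ : QuadraticForm F V₁} {Q₂ : QuadraticForm F V₂}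
    {A : Module.End F V₁} {B : Module.End F V₂} (hA : ∀ v, Q₁ (A v) = Q₁ v)
    (hB : ∀ v, Q₂ (B v) = Q₂ v) (v : V₁ × V₂) :
    (Q₁.prod Q₂) ((LinearMap.prodMap A B : Module.End F (V₁ × V₂)) v) = (Q₁.prod Q₂) v := by
  rw [QuadraticMap.prod_apply, QuadraticMap.prod_apply, LinearMap.prodMap_apply, hA, hB]

/-- sums of powers over several periods -/
theorem sum_pow_periods {R : Type*} [Semiring R] (W : R) (m : ℕ) (hW : W ^ m = 1) (L : ℕ) :
    ∑ i ∈ Finset.range (m * L), W ^ i = L • ∑ i ∈ Finset.range m, W ^ i := by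
  induction L with
  | zero => simp
  | succ L ih =>
    rw [Nat.mul_succ, Finset.sum_range_add, ih, succ_nsmul]
    congr 1
    apply Finset.sum_congr rfl
    intro x _
    rw [pow_add, pow_mul, hW, one_pow, one_mul]

/-- odd multiples in characteristic two -/
theorem odd_nsmul {M : Type*} [AddCommGroup M] [Module F M] [CharP F 2] {L : ℕ} (hL : Odd L)
    (y : M) : L • y = y := by
  obtain ⟨k, rfl⟩ := hL
  have h2 : (2 : ℕ) • y = 0 := by
    rw [← Nat.cast_smul_eq_nsmul F, Nat.cast_ofNat, CharTwo.two_eq_zero, zero_smul]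
  rw [add_nsmul, one_nsmul, mul_nsmul, h2, nsmul_zero, zero_add]

theorem finrank_range_one_sub_one {V : Type*} [AddCommGroup V] [Module F V] :
    Even (finrank F (LinearMap.range ((1 : Module.End F V) - 1))) := by
  rw [sub_self, LinearMap.range_zero, finrank_bot]
  exact Even.zero

end tools

section PKH

variable {F : Type*} [Field F] {V V' V₁ V₂ : Type*} [AddCommGroup V] [Module F V]
  [AddCommGroup V'] [Module F V'] [AddCommGroup V₁] [Module F V₁] [AddCommGroup V₂] [Module F V₂]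

theorem conj_apply' (φ : V ≃ₗ[F] V') (A : Module.End F V) (v : V') :
    φ.conjRingEquiv A v = φ (A (φ.symm v)) := rfl

theorem range_conj (φ : V ≃ₗ[F] V') (A : Module.End F V) :
    LinearMap.range (φ.conjRingEquiv A) = (LinearMap.range A).map (φ : V →ₗ[F] V') := by
  ext y
  constructor
  · rintro ⟨x, rfl⟩
    exact ⟨A (φ.symm x), ⟨_, rfl⟩, rfl⟩
  · rintro ⟨_, ⟨x, rfl⟩, rfl⟩
    refine ⟨φ x, ?_⟩
    rw [conj_apply', φ.symm_apply_apply]
    rfl

theorem PKH_iso {Q : QuadraticForm F V} {Q' : QuadraticForm F V'} (hi : Iso Q Q') {n : ℕ}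
    (h : HasIsomΩ Q n) : HasIsomΩ Q' n := by
  obtain ⟨φ, hφ⟩ := hi
  obtain ⟨T, hT, hord, ⟨T₁, T₂, X, hT₁, hT₂, hX, hTe, hodd, hev⟩, v, hv⟩ := h
  have hisom : ∀ A : Module.End F V, (∀ v, Q (A v) = Q v) →
      ∀ v, Q' (φ.conjRingEquiv A v) = Q' v := by
    intro A hA v
    rw [conj_apply', hφ, hA, ← hφ, φ.apply_symm_apply]
  have hordc : ∀ A : Module.End F V, orderOf (φ.conjRingEquiv A) = orderOf A :=
    fun A => MulEquiv.orderOf_eq φ.conjRingEquiv.toMulEquiv A
  refine ⟨φ.conjRingEquiv T, hisom T hT, ?_, ⟨φ.conjRingEquiv T₁, φ.conjRingEquiv T₂,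
    φ.conjRingEquiv X, hisom T₁ hT₁, hisom T₂ hT₂, hisom X hX, ?_, ?_, ?_⟩, φ v, ?_⟩
  · rw [hordc, hord]
  · rw [hTe, map_mul, map_mul, map_pow]
  · rw [hordc]
    exact hodd
  · have h1 : φ.conjRingEquiv T₂ - 1 = φ.conjRingEquiv (T₂ - 1) := by
      rw [map_sub, map_one]
    rw [h1, range_conj, LinearEquiv.finrank_map_eq]
    exact hev
  · have h1 : (∑ i ∈ Finset.range n, φ.conjRingEquiv T ^ i)
        = φ.conjRingEquiv (∑ i ∈ Finset.range n, T ^ i) := by
      rw [map_sum]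
      apply Finset.sum_congr rfl
      intro i _
      rw [map_pow]
    rw [h1, conj_apply', φ.symm_apply_apply]
    intro h0
    apply hv
    apply φ.injective
    rw [h0, map_zero]

theorem PKH_swap (Q₁ : QuadraticForm F V₁) (Q₂ : QuadraticForm F V₂) :
    Iso (Q₁.prod Q₂) (Q₂.prod Q₁) := by
  refine ⟨LinearEquiv.prodComm F V₁ V₂, ?_⟩
  rintro ⟨x, y⟩
  simp only [QuadraticMap.prod_apply, LinearEquiv.prodComm_apply, Prod.swap_prod_mk]
  exact add_comm _ _

theorem PKH_A [CharP F 2] [Nontrivial V₂] (Q₁ : QuadraticForm F V₁) (Q₂ : QuadraticForm F V₂)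
    {n : ℕ} (hn : Odd n) (h : HasIsom Q₁ n) : HasIsomΩ (Q₁.prod Q₂) n := by
  obtain ⟨S, hS, hord⟩ := h
  obtain ⟨v₂, hv₂⟩ := exists_ne (0 : V₂)
  set T : Module.End F (V₁ × V₂) := LinearMap.prodMap S 1 with hT
  have hTiso : ∀ v, (Q₁.prod Q₂) (T v) = (Q₁.prod Q₂) v :=
    fun v => isom_prodMap hS (fun _ => rfl) v
  have hTord : orderOf T = n := by
    rw [hT, orderOf_prodMap, orderOf_one, Nat.lcm_one_right, hord]
  refine ⟨T, hTiso, hTord, ⟨T, 1, 1, hTiso, fun _ => rfl, fun _ => rfl, ?_, ?_,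
    finrank_range_one_sub_one⟩, (0, v₂), ?_⟩
  · rw [one_pow, mul_one, mul_one]
  · rw [hTord]
    exact hn
  · rw [hT, sum_prodMap_apply]
    intro h0
    apply hv₂
    have h1 := congrArg Prod.snd h0
    have h2 : (∑ i ∈ Finset.range n, (1 : Module.End F V₂) ^ i) = n • (1 : Module.End F V₂) := by
      simp
    rw [h2] at h1
    have h3 : (n • (1 : Module.End F V₂)) v₂ = n • v₂ := by
      rw [LinearMap.smul_apply]
      rfl
    have h4 : (n • (1 : Module.End F V₂)) v₂ = 0 := h1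
    rw [h3, odd_nsmul (F := F) hn] at h4
    exact h4

theorem PKH_B [CharP F 2] (Q₁ : QuadraticForm F V₁) (Q₂ : QuadraticForm F V₂) {L : ℕ}
    (hL : Odd L) (h₁ : HasIsom Q₁ L) (h₂ : HasIsom Q₂ 4) : HasIsomΩ (Q₁.prod Q₂) (2 * L) := by
  obtain ⟨S, hS, hordS⟩ := h₁
  obtain ⟨U, hU, hordU⟩ := h₂
  have hLpos : 0 < L := hL.pos
  set X : Module.End F (V₁ × V₂) := LinearMap.prodMap S U with hX
  have hXiso : ∀ v, (Q₁.prod Q₂) (X v) = (Q₁.prod Q₂) v := fun v => isom_prodMap hS hU v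
  have hXord : orderOf X = 4 * L := by
    rw [hX, orderOf_prodMap, hordS, hordU]
    have hcop : Nat.Coprime L 4 := by
      have : Nat.Coprime L 2 := Nat.coprime_two_right.2 hL
      exact Nat.Coprime.pow_right 2 this
    rw [hcop.lcm_eq_mul, mul_comm]
  have hT2ord : orderOf (X ^ 2) = 2 * L := by
    rw [orderOf_pow' X (by norm_num), hXord]
    have : Nat.gcd (4 * L) 2 = 2 := Nat.gcd_eq_right ⟨2 * L, by ring⟩
    rw [this]
    omega
  have hT2iso : ∀ v, (Q₁.prod Q₂) ((X ^ 2) v) = (Q₁.prod Q₂) v := by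
    intro v
    rw [pow_two, Module.End.mul_apply, hXiso, hXiso]
  -- a vector moved by `U ^ 2`
  have hU2 : U ^ 2 ≠ 1 := by
    intro h
    have := orderOf_dvd_of_pow_eq_one h
    rw [hordU] at this
    omega
  have hU4 : (U ^ 2) ^ 2 = 1 := by
    have h4 : U ^ 4 = 1 := by
      rw [← hordU]
      exact pow_orderOf_eq_one U
    rw [← pow_mul]
    exact h4
  obtain ⟨e, he⟩ : ∃ e, (U ^ 2) e ≠ e := by
    by_contra hcon
    push Not at hcon
    exact hU2 (LinearMap.ext hcon)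
  refine ⟨X ^ 2, hT2iso, hT2ord, ⟨1, 1, X, fun _ => rfl, fun _ => rfl, hXiso, ?_, ?_,
    finrank_range_one_sub_one⟩, (0, e), ?_⟩
  · rw [one_mul, one_mul]
  · rw [orderOf_one]
    exact odd_one
  · rw [hX, prodMap_pow, sum_prodMap_apply]
    intro h0
    have h1 : (∑ i ∈ Finset.range (2 * L), (U ^ 2) ^ i) e = 0 := congrArg Prod.snd h0
    rw [sum_pow_periods (U ^ 2) 2 hU4 L, LinearMap.smul_apply] at h1
    have h2 : L • ((∑ i ∈ Finset.range 2, (U ^ 2) ^ i) e) = 0 := h1
    rw [odd_nsmul (F := F) hL, Finset.sum_range_succ, Finset.sum_range_one, pow_zero, pow_one,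
      LinearMap.add_apply] at h2
    apply he
    have h3 : (1 : Module.End F V₂) e = e := rfl
    rw [h3] at h2
    have h4 : e + e = 0 := by
      rw [← two_nsmul, ← Nat.cast_smul_eq_nsmul F, Nat.cast_ofNat, CharTwo.two_eq_zero,
        zero_smul]
    exact add_left_cancel (h2.trans h4.symm)

theorem PKH_C [CharP F 2] (Q₁ : QuadraticForm F V₁) (Q₂ : QuadraticForm F V₂) {L : ℕ}
    (hL : Odd L) (h₁ : HasIsom Q₁ L) (U : Module.End F V₂) (hU : ∀ v, Q₂ (U v) = Q₂ v)
    (hord : orderOf U = 4) (hev : Even (finrank F (LinearMap.range (U - 1)))) (e : V₂)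
    (he : (∑ i ∈ Finset.range 4, U ^ i) e ≠ 0) : HasIsomΩ (Q₁.prod Q₂) (4 * L) := by
  obtain ⟨S, hS, hordS⟩ := h₁
  set T : Module.End F (V₁ × V₂) := LinearMap.prodMap S U with hT
  set T₁ : Module.End F (V₁ × V₂) := LinearMap.prodMap S 1 with hT₁
  set T₂ : Module.End F (V₁ × V₂) := LinearMap.prodMap 1 U with hT₂
  have hTiso : ∀ v, (Q₁.prod Q₂) (T v) = (Q₁.prod Q₂) v := fun v => isom_prodMap hS hU v
  have hT₁iso : ∀ v, (Q₁.prod Q₂) (T₁ v) = (Q₁.prod Q₂) v :=
    fun v => isom_prodMap hS (fun _ => rfl) v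
  have hT₂iso : ∀ v, (Q₁.prod Q₂) (T₂ v) = (Q₁.prod Q₂) v :=
    fun v => isom_prodMap (fun _ => rfl) hU v
  have hTord : orderOf T = 4 * L := by
    rw [hT, orderOf_prodMap, hordS, hord]
    have hcop : Nat.Coprime L 4 := by
      have : Nat.Coprime L 2 := Nat.coprime_two_right.2 hL
      exact Nat.Coprime.pow_right 2 this
    rw [hcop.lcm_eq_mul, mul_comm]
  have hU4 : U ^ 4 = 1 := by
    rw [← hord]
    exact pow_orderOf_eq_one U
  refine ⟨T, hTiso, hTord, ⟨T₁, T₂, 1, hT₁iso, hT₂iso, fun _ => rfl, ?_, ?_, ?_⟩, (0, e), ?_⟩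
  · rw [one_pow, mul_one, hT, hT₁, hT₂, LinearMap.prodMap_mul, mul_one, one_mul]
  · rw [hT₁, orderOf_prodMap, orderOf_one, Nat.lcm_one_right, hordS]
    exact hL
  · have h1 : T₂ - 1 = (LinearMap.inr F V₁ V₂).comp ((U - 1).comp (LinearMap.snd F V₁ V₂)) := by
      apply LinearMap.ext
      rintro ⟨x, y⟩
      apply Prod.ext
      · show x - x = 0
        exact sub_self x
      · rfl
    have h2 : LinearMap.range (T₂ - 1)
        = (LinearMap.range (U - 1)).map (LinearMap.inr F V₁ V₂) := by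
      rw [h1, LinearMap.range_comp, LinearMap.range_comp_of_range_eq_top _
        (LinearMap.range_eq_top.2 LinearMap.snd_surjective)]
    rw [h2, ← (Submodule.equivMapOfInjective (LinearMap.inr F V₁ V₂) LinearMap.inr_injective
      (LinearMap.range (U - 1))).finrank_eq]
    exact hev
  · rw [hT, sum_prodMap_apply]
    intro h0
    have h1 : (∑ i ∈ Finset.range (4 * L), U ^ i) e = 0 := congrArg Prod.snd h0
    rw [sum_pow_periods U 4 hU4 L, LinearMap.smul_apply] at h1
    have h2 : L • ((∑ i ∈ Finset.range 4, U ^ i) e) = 0 := h1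
    rw [odd_nsmul (F := F) hL] at h2
    exact he h2

end PKH

end Cfsg.Agent.Lib.Helper85_S3590_PKH
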