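import Mathlib
import Cfsg.Agent.Lib.Helper40_S8Blocks
import Cfsg.Agent.Lib.Helper40_S9Defs
import Cfsg.Agent.Lib.Helper85_S3590_PKH
import Cfsg.Agent.Lib.Helper45_S3590_PKB6

set_option autoImplicit false

/-!
Assembly of the elements of `Ω₈⁻(q)` with a nonzero norm vector: for each of the eight even numbers
`N` among the twelve, an isometry of order `N / 2` of the minus form in dimension eight that is visibly
in the kernel of the Dickson invariant and has a nonzero norm vector.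
-/

namespace Cfsg.Agent.Lib.Helper40_S9Lower

open Module Cfsg.Agent.Lib.Helper40_S8Defs Cfsg.Agent.Lib.Helper40_S9Defs
  Cfsg.Agent.Lib.Helper40_S8Types Cfsg.Agent.Lib.Helper40_S8Arith
  Cfsg.Agent.Lib.Helper44_StdForms Cfsg.Agent.Lib.Helper40_S8Blocks
  Cfsg.Agent.Lib.Helper85_S3590_PKH Cfsg.Agent.Lib.Helper45_S3590_PKB6

universe v

/-- the halves of the eight even numbers among the twelve -/
def eightHalf (q : ℕ) : List ℕ :=
  [q ^ 3 + 1, q ^ 3 - 1, (q ^ 2 + 1) * (q + 1), (q ^ 2 + 1) * (q - 1), 2 * (q ^ 2 + 1),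
    2 * (q ^ 2 - 1), 4 * (q + 1), 4 * (q - 1)]

variable {F : Type v} [Field F] [Fintype F] [CharP F 2]

theorem lowerΩ (a b : F)
    (han : ∀ z₁ z₂ : F, z₁ ^ 2 + a * z₁ * z₂ + b * z₂ ^ 2 = 0 → z₁ = 0 ∧ z₂ = 0) :
    ∀ n ∈ eightHalf (Fintype.card F), HasIsomΩ (qfMinus 3 F a b) n := by
  have ha := a_ne_zero a b han
  set q := Fintype.card F with hqdef
  have hq2 : 2 ≤ q := Fintype.one_lt_card
  have hq : Even q := by
    have h2 : ringChar F = 2 := ringChar.eq F 2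
    exact Nat.even_iff.2 (FiniteField.even_card_of_char_two h2)
  have hB1 := block_minus_torus a b han
  have hB2 : ∀ d : ℕ, 1 ≤ d → HasIsom (qfPlus d F) (Fintype.card F ^ d - 1) :=
    fun d hd => Cfsg.Agent.Lib.Helper49_S3589_PKB2.PKB2 d hd
  obtain ⟨-, -, hP4, -⟩ := Cfsg.Agent.Lib.Helper11_S3589_PKB3.PKB3 a b ha
  obtain ⟨⟨Up, hUp, hUpo, hUpe, ep, hep⟩, ⟨Um, hUm, hUmo, hUme, em, hem⟩⟩ := PKB6 a b ha
  have t1m := hB1 1 le_rfl
  have t2m := hB1 2 (by norm_num)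
  have t3m := hB1 3 (by norm_num)
  have t1p := hB2 1 le_rfl
  have t3p := hB2 3 (by norm_num)
  rw [pow_one] at t1m t1p
  rw [← hqdef] at t1m t2m t3m t1p t3p
  -- the isometries of the sums with the minus form
  have i12 := iso_plus_minus (F := F) 1 2 a b han
  have i21 := iso_plus_minus (F := F) 2 1 a b han
  have i30 := iso_plus_minus (F := F) 3 0 a b han
  have o1 : Odd (q - 1) := odd_sub_one hq hq2
  have o1' : Odd (q + 1) := odd_add_one hq
  have o2' : Odd (q ^ 2 + 1) := odd_pow_add_one hq 2 (by norm_num)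
  have o3 : Odd (q ^ 3 - 1) := odd_pow_sub_one hq hq2 3 (by norm_num)
  have o3' : Odd (q ^ 3 + 1) := odd_pow_add_one hq 3 (by norm_num)
  intro n hn
  simp only [eightHalf, List.mem_cons, List.not_mem_nil, or_false] at hn
  rcases hn with rfl | rfl | rfl | rfl | rfl | rfl | rfl | rfl
  · -- `q ^ 3 + 1`
    have h1 := PKH_A (qfMinus 2 F a b) (qfPlus 1 F) o3' t3m
    exact PKH_iso ((PKH_swap _ _).trans i12) h1
  · -- `q ^ 3 - 1`
    have h1 := PKH_A (qfPlus 3 F) (qfMinus 0 F a b) o3 t3p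
    exact PKH_iso i30 h1
  · -- `(q ^ 2 + 1) * (q + 1)`
    have h0 := hasIsom_minus_minus (m := 1) (k := 0) a b han t2m t1m
    rw [(cop_d hq hq2).lcm_eq_mul] at h0
    have h1 := PKH_A (qfPlus 3 F) (qfMinus 0 F a b) (o2'.mul o1') h0
    exact PKH_iso i30 h1
  · -- `(q ^ 2 + 1) * (q - 1)`
    have h0 := hasIsom_plus_minus (m := 1) (k := 1) a b han t1p t2m
    rw [(cop_e hq hq2).symm.lcm_eq_mul, mul_comm] at h0
    have h1 := PKH_A (qfMinus 2 F a b) (qfPlus 1 F) (o2'.mul o1) h0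
    exact PKH_iso ((PKH_swap _ _).trans i12) h1
  · -- `2 * (q ^ 2 + 1)`
    have h1 := PKH_B (qfMinus 1 F a b) (qfPlus 2 F) o2' t2m hP4
    exact PKH_iso ((PKH_swap _ _).trans i21) h1
  · -- `2 * (q ^ 2 - 1)`
    have h0 := hasIsom_plus_minus (m := 1) (k := 0) a b han t1p t1m
    have e : (q - 1) * (q + 1) = q ^ 2 - 1 := by
      have h1 : 1 ≤ q ^ 2 := Nat.one_le_pow _ _ (by omega)
      have h0 : 1 ≤ q := by omega
      zify [h1, h0]
      ring
    rw [(cop_f hq hq2).lcm_eq_mul, e] at h0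
    have h1 := PKH_B (qfMinus 1 F a b) (qfPlus 2 F) (odd_pow_sub_one hq hq2 2 (by norm_num)) h0 hP4
    exact PKH_iso ((PKH_swap _ _).trans i21) h1
  · -- `4 * (q + 1)`
    have h1 := PKH_C (qfMinus 0 F a b) (qfPlus 3 F) o1' t1m Up hUp hUpo hUpe ep hep
    exact PKH_iso ((PKH_swap _ _).trans i30) h1
  · -- `4 * (q - 1)`
    have h1 := PKH_C (qfPlus 1 F) (qfMinus 2 F a b) o1 t1p Um hUm hUmo hUme em hem
    exact PKH_iso i12 h1

end Cfsg.Agent.Lib.Helper40_S9Lower
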