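import Mathlib

/-!
# S3590 package `PKC1` (helper45): an endomorphism in characteristic `2` with `N_g ≠ 0` and even rank

`g ^ n = 1`, `n = 2 ^ e m`, `m` odd, `N = ∑_{i<n} g ^ i ≠ 0`, `dim V` and `rank (g - 1)` even: the
multiplicity of the eigenvalue `1` is at least `2 ^ e + 1`.

With `T = g - 1`: `N = T ^ (2 ^ e - 1) Ψ(g) ^ (2 ^ e)` and `T N = 0`, so some `y` has
`T ^ (2 ^ e - 1) y ≠ 0 = T ^ (2 ^ e) y`; the kernels of `T, T², …, T ^ (2 ^ e)` increase strictly and
`ker T` has even positive dimension.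
-/

set_option autoImplicit false

namespace Cfsg.Agent.Lib.Helper45_S3590_PKC1

open Module Polynomial

theorem geom_char_two {F : Type*} [Field F] [CharP F 2] (e m : ℕ) :
    (∑ i ∈ Finset.range (2 ^ e * m), (X : F[X]) ^ i) =
      (X - 1) ^ (2 ^ e - 1) * (∑ i ∈ Finset.range m, (X : F[X]) ^ i) ^ (2 ^ e) := by
  have h2e : 2 ^ e = (2 ^ e - 1) + 1 := by
    have : 0 < 2 ^ e := pow_pos (by norm_num) e
    omega
  have hX1 : (X - 1 : F[X]) ≠ 0 := by
    have := X_sub_C_ne_zero (1 : F)
    rwa [map_one] at this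
  apply mul_right_cancel₀ hX1
  rw [geom_sum_mul]
  have h1 : (X - 1 : F[X]) ^ (2 ^ e - 1) * (∑ i ∈ Finset.range m, (X : F[X]) ^ i) ^ (2 ^ e) * (X - 1) =
      ((∑ i ∈ Finset.range m, (X : F[X]) ^ i) * (X - 1)) ^ (2 ^ e) := by
    rw [mul_pow]
    conv_rhs => rw [h2e, pow_succ (X - 1 : F[X])]
    rw [← h2e]
    ring
  rw [h1, geom_sum_mul, mul_comm (2 ^ e) m, pow_mul, sub_pow_char_pow, one_pow]

theorem PKC1 {F : Type*} [Field F] [CharP F 2] {V : Type*} [AddCommGroup V] [Module F V]
    [FiniteDimensional F V] (hV : Even (finrank F V)) (g : Module.End F V) (e m : ℕ) (hm : Odd m)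
    (hg : g ^ (2 ^ e * m) = 1) (hN : ∑ i ∈ Finset.range (2 ^ e * m), g ^ i ≠ 0)
    (hr : Even (finrank F (LinearMap.range (g - 1)))) :
    2 ^ e + 1 ≤ g.charpoly.rootMultiplicity 1 := by
  classical
  set s := 2 ^ e - 1 with hs
  have h2e : 2 ^ e = s + 1 := by
    have : 0 < 2 ^ e := pow_pos (by norm_num) e
    omega
  set T : Module.End F V := g - 1 with hT
  set P : Module.End F V := (∑ i ∈ Finset.range m, g ^ i) ^ (2 ^ e) with hP
  -- `N = T ^ s * P`
  have hNT : ∑ i ∈ Finset.range (2 ^ e * m), g ^ i = T ^ s * P := by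
    have := congrArg (aeval g) (geom_char_two (F := F) e m)
    simpa only [map_sum, map_pow, aeval_X, map_mul, map_sub, map_one] using this
  -- `T * N = 0`
  have hTN : T * ∑ i ∈ Finset.range (2 ^ e * m), g ^ i = 0 := by
    rw [hT, mul_geom_sum, hg, sub_self]
  -- a vector `y` with `T ^ s y ≠ 0`, `T ^ (s + 1) y = 0`
  obtain ⟨x, hx⟩ : ∃ x : V, (∑ i ∈ Finset.range (2 ^ e * m), g ^ i) x ≠ 0 := by
    by_contra hcon
    push Not at hcon
    exact hN (LinearMap.ext hcon)
  set y := P x with hy
  have hy1 : (T ^ s) y ≠ 0 := by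
    rw [hNT, Module.End.mul_apply] at hx
    exact hx
  have hy2 : (T ^ (s + 1)) y = 0 := by
    rw [pow_succ', Module.End.mul_apply]
    have h1 : (T ^ s) y = (∑ i ∈ Finset.range (2 ^ e * m), g ^ i) x := by
      rw [hNT, Module.End.mul_apply]
    rw [h1, ← Module.End.mul_apply, hTN]
    rfl
  -- the kernels of the powers of `T` increase strictly
  have hchain : ∀ j : ℕ, j ≤ s →
      finrank F (LinearMap.ker (T ^ 1)) + j ≤ finrank F (LinearMap.ker (T ^ (j + 1))) := by
    intro j
    induction j with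
    | zero => intro _; simp
    | succ j ih =>
      intro hj
      have h1 := ih (by omega)
      have hlt : LinearMap.ker (T ^ (j + 1)) < LinearMap.ker (T ^ (j + 1 + 1)) := by
        refine lt_of_le_of_ne ?_ ?_
        · intro v hv
          rw [LinearMap.mem_ker] at hv ⊢
          rw [pow_succ', Module.End.mul_apply, hv, map_zero]
        · intro heq
          -- `z = T ^ (s - (j + 1)) y`
          have hz2 : (T ^ (s - (j + 1))) y ∈ LinearMap.ker (T ^ (j + 1 + 1)) := by
            rw [LinearMap.mem_ker, ← Module.End.mul_apply, ← pow_add]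
            have : j + 1 + 1 + (s - (j + 1)) = s + 1 := by omega
            rw [this]
            exact hy2
          rw [← heq, LinearMap.mem_ker, ← Module.End.mul_apply, ← pow_add] at hz2
          have : j + 1 + (s - (j + 1)) = s := by omega
          rw [this] at hz2
          exact hy1 hz2
      have := Submodule.finrank_lt_finrank_of_lt hlt
      omega
  -- `ker T` has even positive dimension
  have hker : 2 ≤ finrank F (LinearMap.ker (T ^ 1)) := by
    rw [pow_one]
    have h1 := LinearMap.finrank_range_add_finrank_ker T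
    have hev : Even (finrank F (LinearMap.ker T)) := by
      have : Even (finrank F (LinearMap.range T) + finrank F (LinearMap.ker T)) := by
        rw [h1]; exact hV
      exact (Nat.even_add.1 this).1 hr
    have hpos : 0 < finrank F (LinearMap.ker T) := by
      rw [Module.finrank_pos_iff_exists_ne_zero]
      refine ⟨⟨(T ^ s) y, ?_⟩, ?_⟩
      · rw [LinearMap.mem_ker, ← Module.End.mul_apply, ← pow_succ']
        exact hy2
      · intro h0
        exact hy1 (congrArg Subtype.val h0)
    obtain ⟨t, ht⟩ := hev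
    omega
  have h3 := hchain s le_rfl
  have hle : LinearMap.ker (T ^ (s + 1)) ≤ g.maxGenEigenspace 1 := by
    intro v hv
    rw [Module.End.mem_maxGenEigenspace]
    refine ⟨s + 1, ?_⟩
    rw [one_smul]
    exact hv
  have h4 := Submodule.finrank_mono hle
  rw [LinearMap.finrank_maxGenEigenspace_eq] at h4
  omega

end Cfsg.Agent.Lib.Helper45_S3590_PKC1
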