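import Mathlib
import Cfsg.Agent.Lib.Helper44_Refl
import Cfsg.Agent.Lib.Helper14_CartanDieudonne

/-!
# S3590 package PKD1 (helper79): the rank-one lemma

For an isometry `M` of a nondegenerate quadratic form `Q` on `ι → F` and a reflection
`r = reflectionMatrix Q v`, `Q v ≠ 0`:  `rank (r M - 1) = rank (M - 1) ± 1`; stated as
`Odd (rank (r M - 1) + rank (M - 1))`.
-/

set_option autoImplicit false

namespace Cfsg.Agent.Lib.Helper79_S3590_PKD1

open Module Cfsg.Agent.Lib.Helper14_CartanDieudonne

/-- a linear functional cuts the dimension of a subspace by `0` (if it vanishes there) -/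
theorem inf_ker_eq_of_vanish {F : Type*} [Field F] {V : Type*} [AddCommGroup V] [Module F V]
    (K : Submodule F V) (φ : V →ₗ[F] F) (h : ∀ x ∈ K, φ x = 0) : K ⊓ LinearMap.ker φ = K := by
  apply le_antisymm inf_le_left
  intro x hx
  exact ⟨hx, LinearMap.mem_ker.mpr (h x hx)⟩

/-- a linear functional cuts the dimension of a subspace by `1` if it does not vanish there -/
theorem finrank_inf_ker_add_one {F : Type*} [Field F] {V : Type*} [AddCommGroup V] [Module F V]
    [FiniteDimensional F V] (K : Submodule F V) (φ : V →ₗ[F] F) (h : ∃ x ∈ K, φ x ≠ 0) :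
    finrank F K = finrank F ↥(K ⊓ LinearMap.ker φ) + 1 := by
  obtain ⟨x0, hx0K, hx0⟩ := h
  set ψ : K →ₗ[F] F := φ.comp K.subtype with hψ
  have hsurj : Function.Surjective ψ := by
    intro c
    refine ⟨(c * (φ x0)⁻¹) • ⟨x0, hx0K⟩, ?_⟩
    rw [map_smul, hψ]
    simp only [LinearMap.coe_comp, Submodule.coe_subtype, Function.comp_apply, smul_eq_mul]
    field_simp
  have h1 := LinearMap.finrank_range_add_finrank_ker ψ
  rw [LinearMap.range_eq_top.mpr hsurj, finrank_top, finrank_self] at h1
  have h2 : finrank F ↥(LinearMap.ker ψ) = finrank F ↥(K ⊓ LinearMap.ker φ) := by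
    have h3 : LinearMap.ker ψ = (LinearMap.ker φ).comap K.subtype := by
      rw [hψ, LinearMap.ker_comp]
    rw [h3, ← Submodule.finrank_map_subtype_eq K ((LinearMap.ker φ).comap K.subtype),
      Submodule.map_comap_subtype]
  omega

variable {ι : Type} [Fintype ι] [DecidableEq ι] {F : Type*} [Field F]

theorem PKD1 (h2 : (2 : F) = 0)
    (Q : QuadraticForm F (ι → F)) (hQ : (QuadraticMap.polarBilin Q).Nondegenerate)
    (M : Matrix ι ι F) (hM : IsIsom Q M) (v : ι → F) (hv : Q v ≠ 0) :
    Odd ((Cfsg.reflectionMatrix (⇑Q) v * M - 1).rank + (M - 1).rank) := by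
  classical
  set B := QuadraticMap.polarBilin Q with hB
  have hBapp : ∀ x y, B x y = QuadraticMap.polar (⇑Q) x y := fun x y => rfl
  have hBsymm : ∀ x y, B x y = B y x := fun x y => by
    rw [hBapp, hBapp, QuadraticMap.polar_comm]
  set T1 : (ι → F) →ₗ[F] (ι → F) := (M - 1).mulVecLin with hT1
  set T2 : (ι → F) →ₗ[F] (ι → F) :=
    (Cfsg.reflectionMatrix (⇑Q) v * M - 1).mulVecLin with hT2
  set φ : (ι → F) →ₗ[F] F := (Q v)⁻¹ • ((B v).comp M.mulVecLin) with hφ
  have hφapp : ∀ x, φ x = (Q v)⁻¹ * B v (M.mulVec x) := fun x => rfl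
  have hT1app : ∀ x, T1 x = M.mulVec x - x := by
    intro x
    rw [hT1, Matrix.mulVecLin_apply, Matrix.sub_mulVec, Matrix.one_mulVec]
  have hT2app : ∀ x, T2 x = T1 x - φ x • v := by
    intro x
    rw [hT2, Matrix.mulVecLin_apply, Matrix.sub_mulVec, Matrix.one_mulVec, ← Matrix.mulVec_mulVec,
      Cfsg.Agent.Lib.Helper44_Refl.reflectionMatrix_mulVec, hT1app, hφapp, hBapp]
    abel
  -- ranks and kernels
  have hr1 : (M - 1).rank = finrank F ↥(LinearMap.range T1) := rfl
  have hr2 : (Cfsg.reflectionMatrix (⇑Q) v * M - 1).rank = finrank F ↥(LinearMap.range T2) := rfl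
  have hk1 := LinearMap.finrank_range_add_finrank_ker T1
  have hk2 := LinearMap.finrank_range_add_finrank_ker T2
  -- the common part
  have hK0 : LinearMap.ker T1 ⊓ LinearMap.ker φ = LinearMap.ker T2 ⊓ LinearMap.ker φ := by
    ext x
    simp only [Submodule.mem_inf, LinearMap.mem_ker]
    constructor
    · rintro ⟨h1, h3⟩
      exact ⟨by rw [hT2app, h1, h3, zero_smul, sub_zero], h3⟩
    · rintro ⟨h1, h3⟩
      refine ⟨?_, h3⟩
      rw [hT2app, h3, zero_smul, sub_zero] at h1
      exact h1
  -- fixed vectors of `M` are orthogonal to the range of `M - 1`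
  have hG1 : ∀ y x, T1 x = 0 → B (T1 y) x = 0 := by
    intro y x hx
    have hx' : M.mulVec x = x := by
      have := hT1app x
      rw [hx] at this
      exact (sub_eq_zero.mp this.symm)
    rw [hT1app, map_sub, LinearMap.sub_apply, hBapp, hBapp]
    nth_rewrite 1 [← hx']
    rw [hM.polar, sub_self]
  by_cases hvr : v ∈ LinearMap.range T1
  · -- `v = (M - 1) w`
    obtain ⟨w, hw⟩ := hvr
    have hφ1 : ∀ x ∈ LinearMap.ker T1, φ x = 0 := by
      intro x hx
      have hx0 : T1 x = 0 := LinearMap.mem_ker.mp hx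
      have hx' : M.mulVec x = x := by
        have := hT1app x
        rw [hx0] at this
        exact (sub_eq_zero.mp this.symm)
      rw [hφapp, hx', ← hw, hG1 w x hx0, mul_zero]
    have hφw : φ w = 1 := by
      rw [hφapp]
      have h3 : B v (M.mulVec w) = Q v := by
        have hQv : Q (M.mulVec w - w) =
            Q w + Q w - QuadraticMap.polar (⇑Q) (M.mulVec w) w := by
          rw [sub_eq_add_neg, QuadraticMap.map_add (⇑Q) (M.mulVec w) (-w), QuadraticMap.map_neg,
            QuadraticMap.polar_neg_right, hM w]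
          ring
        rw [← hw, hT1app, hQv, map_sub, LinearMap.sub_apply, hBapp, hBapp,
          Cfsg.Agent.Lib.Helper44_Refl.polar_self, hM w,
          QuadraticMap.polar_comm (⇑Q) w (M.mulVec w)]
        ring
      rw [h3]
      exact inv_mul_cancel₀ hv
    have hwK2 : w ∈ LinearMap.ker T2 := by
      rw [LinearMap.mem_ker, hT2app, hφw, one_smul, hw, sub_self]
    have e1 := inf_ker_eq_of_vanish (LinearMap.ker T1) φ hφ1
    have e2 := finrank_inf_ker_add_one (LinearMap.ker T2) φ ⟨w, hwK2, by rw [hφw]; exact one_ne_zero⟩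
    rw [← hK0, e1] at e2
    rw [hr1, hr2, Nat.odd_iff]
    omega
  · -- `v` is not in the range of `M - 1`
    have hφ2 : ∀ x ∈ LinearMap.ker T2, φ x = 0 := by
      intro x hx
      by_contra hne
      apply hvr
      have hx0 : T2 x = 0 := LinearMap.mem_ker.mp hx
      rw [hT2app, sub_eq_zero] at hx0
      refine ⟨(φ x)⁻¹ • x, ?_⟩
      rw [map_smul, hx0, smul_smul, inv_mul_cancel₀ hne, one_smul]
    have hφ1 : ∃ x ∈ LinearMap.ker T1, φ x ≠ 0 := by
      by_contra hcon
      push Not at hcon
      apply hvr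
      -- `range T1 = (ker T1)^⊥`
      have hle : LinearMap.range T1 ≤ LinearMap.BilinForm.orthogonal B (LinearMap.ker T1) := by
        rintro _ ⟨y, rfl⟩
        rw [LinearMap.BilinForm.mem_orthogonal_iff]
        intro n hn
        show B n (T1 y) = 0
        rw [hBsymm]
        exact hG1 y n (LinearMap.mem_ker.mp hn)
      have hdim : finrank F ↥(LinearMap.range T1) =
          finrank F ↥(LinearMap.BilinForm.orthogonal B (LinearMap.ker T1)) := by
        rw [LinearMap.BilinForm.finrank_orthogonal hQ]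
        omega
      have heq := Submodule.eq_of_le_of_finrank_eq hle hdim
      rw [heq, LinearMap.BilinForm.mem_orthogonal_iff]
      intro n hn
      show B n v = 0
      have h3 := hcon n hn
      have hn0 : T1 n = 0 := LinearMap.mem_ker.mp hn
      have hn' : M.mulVec n = n := by
        have := hT1app n
        rw [hn0] at this
        exact (sub_eq_zero.mp this.symm)
      rw [hφapp, hn'] at h3
      rw [hBsymm]
      rcases mul_eq_zero.mp h3 with h | h
      · exact absurd (inv_eq_zero.mp h) hv
      · exact h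
    have e2 := inf_ker_eq_of_vanish (LinearMap.ker T2) φ hφ2
    have e1 := finrank_inf_ker_add_one (LinearMap.ker T1) φ hφ1
    rw [hK0, e2] at e1
    rw [hr1, hr2, Nat.odd_iff]
    omega

end Cfsg.Agent.Lib.Helper79_S3590_PKD1
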