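import Mathlib
import Cfsg.Agent.Lib.Helper44_Spinor
import Cfsg.Agent.Lib.Helper44_CD2
import Cfsg.Agent.Lib.Helper14_CartanDieudonne

/-!
# S3590 package PKD2 (helper79): the Dickson homomorphism as rank parity

In characteristic two, given the rank-one lemma (`hodd`, package PKD1) the map
`g ↦ rank (g - 1) mod 2` is a homomorphism from the isometry group of a nondegenerate quadratic
form to `ZMod 2` (Cartan-Dieudonne in characteristic two: `Helper44_CD2`).
-/

set_option autoImplicit false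

namespace Cfsg.Agent.Lib.Helper79_S3590_PKD2

open Module Cfsg.Agent.Lib.Helper14_CartanDieudonne Cfsg.Agent.Lib.Helper44_Spinor

variable {ι : Type} [Fintype ι] [DecidableEq ι] {F : Type*} [Field F] [Fintype F]

/-- the rank of `g - 1` for an isometry `g` -/
noncomputable def rk (Q : QuadraticForm F (ι → F)) (g : ↥(Cfsg.isometryGroup F ⇑Q)) : ℕ :=
  (((g : Matrix.GeneralLinearGroup ι F) : Matrix ι ι F) - 1).rank

/-- parity of the rank of a product of reflections -/
theorem rk_prod (Q : QuadraticForm F (ι → F))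
    (hodd : ∀ (M : Matrix ι ι F), IsIsom Q M → ∀ v : ι → F, Q v ≠ 0 →
      Odd ((Cfsg.reflectionMatrix (⇑Q) v * M - 1).rank + (M - 1).rank))
    (vs : List (ι → F)) (hvs : ∀ v ∈ vs, Q v ≠ 0) :
    ((rk Q (vs.map (reflT Q)).prod : ℕ) : ZMod 2) = (vs.length : ZMod 2) := by
  induction vs with
  | nil =>
    have : rk Q (([] : List (ι → F)).map (reflT Q)).prod = 0 := by
      unfold rk
      simp
    rw [this]
    simp
  | cons v vs ih =>
    have hv : Q v ≠ 0 := hvs v (by simp)
    have hvs' : ∀ w ∈ vs, Q w ≠ 0 := fun w hw => hvs w (by simp [hw])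
    have ih' := ih hvs'
    set g := (vs.map (reflT Q)).prod with hg
    have h1 : rk Q ((v :: vs).map (reflT Q)).prod =
        (Cfsg.reflectionMatrix (⇑Q) v *
          ((g : Matrix.GeneralLinearGroup ι F) : Matrix ι ι F) - 1).rank := by
      unfold rk
      rw [List.map_cons, List.prod_cons]
      have : (((reflT Q v * g : ↥(Cfsg.isometryGroup F ⇑Q)) : Matrix.GeneralLinearGroup ι F) :
          Matrix ι ι F) = ((reflT Q v : Matrix.GeneralLinearGroup ι F) : Matrix ι ι F) *
          ((g : Matrix.GeneralLinearGroup ι F) : Matrix ι ι F) := rfl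
      rw [this, reflT_coe Q v hv]
    have h3 := hodd _ (isIsom_of_mem Q g) v hv
    rw [← h1] at h3
    have h4 : (((rk Q ((v :: vs).map (reflT Q)).prod + rk Q g : ℕ) : ℕ) : ZMod 2) = 1 :=
      ZMod.natCast_eq_one_iff_odd.mpr h3
    rw [List.length_cons]
    push_cast at h4 ⊢
    rw [← ih']
    have h5 : ∀ a b : ZMod 2, a + b = 1 → a = b + 1 := by decide
    exact h5 _ _ h4

theorem PKD2 (h2 : (2 : F) = 0) (Q : QuadraticForm F (ι → F))
    (hQ : (QuadraticMap.polarBilin Q).Nondegenerate)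
    (hex : Fintype.card F ≠ 2 ∨ Fintype.card ι ≠ 4)
    (hodd : ∀ (M : Matrix ι ι F), IsIsom Q M → ∀ v : ι → F, Q v ≠ 0 →
      Odd ((Cfsg.reflectionMatrix (⇑Q) v * M - 1).rank + (M - 1).rank)) :
    ∃ φ : ↥(Cfsg.isometryGroup F ⇑Q) →* Multiplicative (ZMod 2),
      ∀ g : ↥(Cfsg.isometryGroup F ⇑Q),
        φ g = 1 ↔ Even ((((g : Matrix.GeneralLinearGroup ι F) : Matrix ι ι F) - 1).rank) := by
  refine ⟨MonoidHom.mk' (fun g => Multiplicative.ofAdd ((rk Q g : ℕ) : ZMod 2)) ?_, ?_⟩
  · intro a b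
    obtain ⟨vs, hvs, ha⟩ := Cfsg.Agent.Lib.Helper44_CD2.exists_list_reflT_two h2 Q hQ hex a
    obtain ⟨ws, hws, hb⟩ := Cfsg.Agent.Lib.Helper44_CD2.exists_list_reflT_two h2 Q hQ hex b
    have hab : a * b = ((vs ++ ws).map (reflT Q)).prod := by
      rw [List.map_append, List.prod_append, ← ha, ← hb]
    have h1 := rk_prod Q hodd vs hvs
    have h3 := rk_prod Q hodd ws hws
    have h4 := rk_prod Q hodd (vs ++ ws) (by
      intro v hv
      rcases List.mem_append.mp hv with h | h
      · exact hvs v h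
      · exact hws v h)
    rw [← ha] at h1
    rw [← hb] at h3
    rw [← hab, List.length_append] at h4
    show Multiplicative.ofAdd ((rk Q (a * b) : ℕ) : ZMod 2) =
      Multiplicative.ofAdd ((rk Q a : ℕ) : ZMod 2) * Multiplicative.ofAdd ((rk Q b : ℕ) : ZMod 2)
    rw [← ofAdd_add, h4, h1, h3]
    push_cast
    rfl
  · intro g
    show Multiplicative.ofAdd ((rk Q g : ℕ) : ZMod 2) = 1 ↔ _
    rw [ofAdd_eq_one, ZMod.natCast_eq_zero_iff_even]
    rfl

end Cfsg.Agent.Lib.Helper79_S3590_PKD2
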