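import Mathlib
import Cfsg.Agent.Lib.Helper40_S8Blocks
import Cfsg.Agent.Lib.Helper40_S9Defs
import Cfsg.Agent.Lib.Helper40_S9Glue
import Cfsg.Agent.Lib.Helper40_S9Bridge
import Cfsg.Agent.Lib.Helper40_S9Lower
import Cfsg.Agent.Lib.Helper45_S3590_PKS
import Cfsg.Agent.Lib.Helper45_S3590_PKC1
import Cfsg.Agent.Lib.Helper79_S3590_PKD1
import Cfsg.Agent.Lib.Helper79_S3590_PKD2

set_option autoImplicit false

/-!
For every bound there is a finite group of larger order with the same spectrum as `PSp₈(q)`, `q` even: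
the groups `V ^ k ⋊ Ω₈⁻(q)`.
-/

namespace Cfsg.Agent.Lib.Helper40_S9Main

open Module Cfsg.Agent.Lib.Helper40_S8Defs Cfsg.Agent.Lib.Helper40_S9Defs
  Cfsg.Agent.Lib.Helper40_S8Arith Cfsg.Agent.Lib.Helper44_StdForms
  Cfsg.Agent.Lib.Helper40_S8Blocks Cfsg.Agent.Lib.Helper40_OClasses
  Cfsg.Agent.Lib.Helper40_S9Lower Cfsg.Agent.Lib.Helper40_S9Bridge
  Cfsg.Agent.Lib.Helper40_S9Glue Cfsg.Agent.Lib.Helper40_SpProj Cfsg.Agent.Lib.Helper40_ProjOrd
  Cfsg.Agent.Lib.Helper40_S8Peel Cfsg.Agent.Lib.Helper79_S3590_PKD2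
open scoped Matrix

universe v

variable {F : Type v} [Field F] [Fintype F] [CharP F 2]

theorem even_card : Even (Fintype.card F) := by
  have h2 : ringChar F = 2 := ringChar.eq F 2
  exact Nat.even_iff.2 (FiniteField.even_card_of_char_two h2)

/-- the twelve numbers are positive -/
theorem twelve_pos {N : ℕ} (hN : N ∈ twelve (Fintype.card F)) : 0 < N := by
  have hq2 : 2 ≤ Fintype.card F := Fintype.one_lt_card
  have hq : Even (Fintype.card F) := even_card
  have p1 : 0 < Fintype.card F - 1 := by omega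
  have p2 : 0 < Fintype.card F ^ 2 - 1 := (odd_pow_sub_one hq hq2 2 (by norm_num)).pos
  have p3 : 0 < Fintype.card F ^ 3 - 1 := (odd_pow_sub_one hq hq2 3 (by norm_num)).pos
  have p4 : 0 < Fintype.card F ^ 4 - 1 := (odd_pow_sub_one hq hq2 4 (by norm_num)).pos
  simp only [twelve, List.mem_cons, List.not_mem_nil, or_false] at hN
  rcases hN with rfl | rfl | rfl | rfl | rfl | rfl | rfl | rfl | rfl | rfl | rfl | rfl <;>
    positivity

/-- every element order of `PSp₈(q)` divides one of the twelve numbers -/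
theorem psp_dvd_twelve {n : ℕ} (hn : n ∈ Set.range (orderOf : Cfsg.PSp 4 F → ℕ)) :
    ∃ N ∈ twelve (Fintype.card F), n ∣ N := by
  rw [mem_range_orderOf_psp_iff] at hn
  obtain ⟨M, hM, hord⟩ := hn
  obtain ⟨e, L, S, htor, he, hS, hpow⟩ := sp_eight M hM
  have hdvd : n ∣ 2 ^ e * L := by
    rw [← hord.iff, hpow]
    exact isScalarMat_one
  obtain ⟨N, hN, hLN⟩ := Cfsg.Agent.Lib.Helper52_S3589_PKA.PKA Fintype.one_lt_card htor he hS
  exact ⟨N, hN, hdvd.trans hLN⟩

/-- the spectrum of a group is closed under divisors -/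
theorem mem_range_of_dvd {H : Type*} [Group H] {n N : ℕ} (hN : N ∈ Set.range (orderOf : H → ℕ))
    (hNpos : 0 < N) (h : n ∣ N) : n ∈ Set.range (orderOf : H → ℕ) := by
  obtain ⟨x, rfl⟩ := hN
  obtain ⟨c, hc⟩ := h
  have hcpos : 0 < c := by
    rcases Nat.eq_zero_or_pos c with h0 | h0
    · rw [h0, mul_zero] at hc; omega
    · exact h0
  refine ⟨x ^ c, ?_⟩
  rw [orderOf_pow' x hcpos.ne', hc, Nat.gcd_eq_right (dvd_mul_left c n), Nat.mul_div_cancel _ hcpos]

theorem unbounded (M : ℕ) :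
    ∃ (H : Type) (_ : Group H) (_ : Fintype H), M < Fintype.card H ∧
      Set.range (orderOf : H → ℕ) = Set.range (orderOf : Cfsg.PSp 4 F → ℕ) := by
  classical
  obtain ⟨ζ, hζ⟩ := Cfsg.Agent.Lib.Helper40_QuadStd.exists_aniso (F := F)
  have h2 : (2 : F) = 0 := CharTwo.two_eq_zero
  have hq2 : 2 ≤ Fintype.card F := Fintype.one_lt_card
  have hq : Even (Fintype.card F) := even_card
  have hQ := Cfsg.Agent.Lib.Helper14_POmegaSimple.nondegenerate_qfMinus 3 (1 : F) ζ hζ
  obtain ⟨φ, hφ⟩ := PKD2 h2 (qfMinus 3 F 1 ζ) hQ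
    (Or.inr (by
      rw [Fintype.card_sum, Fintype.card_sum, Fintype.card_fin, Fintype.card_fin]
      norm_num))
    (fun A hA v hv => Cfsg.Agent.Lib.Helper79_S3590_PKD1.PKD1 h2 (qfMinus 3 F 1 ζ) hQ A hA v hv)
  have hspec := spectra_eq (1 : F) ζ hζ
  rw [← coe_qfMinus] at hspec
  have hlow := Cfsg.Agent.Lib.Helper40_S8Lower.lower (1 : F) ζ hζ (block_minus_torus 1 ζ hζ)
    (fun d hd => Cfsg.Agent.Lib.Helper49_S3589_PKB2.PKB2 d hd)
    (Cfsg.Agent.Lib.Helper11_S3589_PKB3.PKB3 1 ζ one_ne_zero)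
    (Cfsg.Agent.Lib.Helper54_S3589_PKB5m.PKB5m 1 ζ one_ne_zero)
  have hlowΩ := lowerΩ (1 : F) ζ hζ
  have hfin : Finite ↥(Cfsg.isometryGroup F ⇑(qfMinus 3 F 1 ζ)) := by
    have : Finite (Matrix.GeneralLinearGroup ((Fin 3 ⊕ Fin 3) ⊕ Fin 2) F) :=
      Finite.of_injective _ Units.val_injective
    exact Subtype.finite
  have hfinΩ : Fintype ↥φ.ker := Fintype.ofFinite _
  -- the action on the natural module
  let ρ : ↥φ.ker →* AddMonoid.End ((Fin 3 ⊕ Fin 3) ⊕ Fin 2 → F) :=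
    { toFun := fun g => (Matrix.toLin' (mat (qfMinus 3 F 1 ζ) g.1)).toAddMonoidHom
      map_one' := by
        apply AddMonoidHom.ext
        intro x
        show Matrix.toLin' (1 : Matrix _ _ F) x = x
        rw [Matrix.toLin'_one]
        rfl
      map_mul' := by
        intro g h
        apply AddMonoidHom.ext
        intro x
        show Matrix.toLin' (mat (qfMinus 3 F 1 ζ) g.1 * mat (qfMinus 3 F 1 ζ) h.1) x =
          Matrix.toLin' (mat (qfMinus 3 F 1 ζ) g.1) (Matrix.toLin' (mat (qfMinus 3 F 1 ζ) h.1) x)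
        rw [Matrix.toLin'_mul]
        rfl }
  have hρ : ∀ (g : ↥φ.ker) (i : ℕ) (x : (Fin 3 ⊕ Fin 3) ⊕ Fin 2 → F),
      ρ (g ^ i) x = (mat (qfMinus 3 F 1 ζ) g.1 ^ i) *ᵥ x := by
    intro g i x
    show Matrix.toLin' (mat (qfMinus 3 F 1 ζ) ((g ^ i : ↥φ.ker) : _)) x = _
    rw [Subgroup.coe_pow, mat_pow, Matrix.toLin'_apply]
  have hadd : ∀ x : (Fin 3 ⊕ Fin 3) ⊕ Fin 2 → F, x + x = 0 := by
    intro x
    funext i
    show x i + x i = 0
    linear_combination x i * h2
  obtain ⟨H, hG, hF, hcard, hrange⟩ := Cfsg.Agent.Lib.Helper45_S3590_PKS.PKS ρ hadd M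
  refine ⟨H, hG, hF, hcard, ?_⟩
  have hsum : ∀ (g : ↥φ.ker) (x : (Fin 3 ⊕ Fin 3) ⊕ Fin 2 → F),
      ∑ i ∈ Finset.range (orderOf g), ρ (g ^ i) x =
        (∑ i ∈ Finset.range (orderOf g.1), mat (qfMinus 3 F 1 ζ) g.1 ^ i) *ᵥ x := by
    intro g x
    rw [Matrix.sum_mulVec, Subgroup.orderOf_coe]
    exact Finset.sum_congr rfl (fun i _ => hρ g i x)
  apply Set.Subset.antisymm
  · -- the spectrum of `H` is contained in the spectrum of `PSp₈(q)`
    intro n hn
    rw [hrange] at hn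
    obtain ⟨g, hg | ⟨hg, x, hx⟩⟩ := hn
    · rw [hspec, hg, ← Subgroup.orderOf_coe]
      exact ⟨g.1, rfl⟩
    · have hev : Even ((mat (qfMinus 3 F 1 ζ) g.1 - 1).rank) := (hφ g.1).1 (MonoidHom.mem_ker.1 g.2)
      rw [hsum] at hx
      obtain ⟨N, hN, hdvd⟩ := two_mul_order_dvd (1 : F) ζ hζ
        (fun T e m hm hT hTN hTr => Cfsg.Agent.Lib.Helper45_S3590_PKC1.PKC1 (by
          rw [Module.finrank_fintype_fun_eq_card, Fintype.card_sum, Fintype.card_sum,
            Fintype.card_fin, Fintype.card_fin]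
          decide) T e m hm hT hTN hTr) g.1 hev x hx
      have hiso := (hlow N hN).of_dvd (twelve_pos hN) hdvd
      have hpos : 0 < 2 * orderOf g.1 := Nat.mul_pos (by norm_num) (orderOf_pos g.1)
      have := mem_range_of_hasIsom (qfMinus 3 F 1 ζ) hpos hiso
      rw [hspec, hg, ← Subgroup.orderOf_coe]
      exact this
  · -- every element order of `PSp₈(q)` is an element order of `H`
    intro n hn
    obtain ⟨N, hN, hnN⟩ := psp_dvd_twelve hn
    apply mem_range_of_dvd _ (twelve_pos hN) hnN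
    rw [hrange]
    have o1 : Odd (Fintype.card F - 1) := odd_sub_one hq hq2
    have o1' : Odd (Fintype.card F + 1) := odd_add_one hq
    have o3 : Odd (Fintype.card F ^ 3 - 1) := odd_pow_sub_one hq hq2 3 (by norm_num)
    have o3' : Odd (Fintype.card F ^ 3 + 1) := odd_pow_add_one hq 3 (by norm_num)
    have o4 : Odd (Fintype.card F ^ 4 - 1) := odd_pow_sub_one hq hq2 4 (by norm_num)
    have o4' : Odd (Fintype.card F ^ 4 + 1) := odd_pow_add_one hq 4 (by norm_num)
    -- odd members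
    have hoddcase : ∀ N' : ℕ, N' ∈ twelve (Fintype.card F) → Odd N' →
        N' ∈ {n | ∃ g : ↥φ.ker, n = orderOf g ∨ (n = 2 * orderOf g ∧
          ∃ v : (Fin 3 ⊕ Fin 3) ⊕ Fin 2 → F,
            ∑ i ∈ Finset.range (orderOf g), ρ (g ^ i) v ≠ 0)} := by
      intro N' hN' hodd
      obtain ⟨g, hg⟩ := mem_range_of_hasIsom (qfMinus 3 F 1 ζ) (twelve_pos hN') (hlow N' hN')
      have hker : φ g = 1 := by
        apply eq_one_of_odd_pow hodd
        rw [← map_pow, ← hg, pow_orderOf_eq_one, map_one]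
      exact ⟨⟨g, MonoidHom.mem_ker.2 hker⟩, Or.inl (hg.symm.trans
        (Subgroup.orderOf_coe (⟨g, MonoidHom.mem_ker.2 hker⟩ : ↥φ.ker)))⟩
    -- even members
    have hevencase : ∀ n' : ℕ, n' ∈ eightHalf (Fintype.card F) →
        2 * n' ∈ {n | ∃ g : ↥φ.ker, n = orderOf g ∨ (n = 2 * orderOf g ∧
          ∃ v : (Fin 3 ⊕ Fin 3) ⊕ Fin 2 → F,
            ∑ i ∈ Finset.range (orderOf g), ρ (g ^ i) v ≠ 0)} := by
      intro n' hn'
      obtain ⟨g, hker, hord, x, hx⟩ := bridge (qfMinus 3 F 1 ζ) hQ φ hφ (hlowΩ n' hn')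
      refine ⟨⟨g, MonoidHom.mem_ker.2 hker⟩, Or.inr ⟨?_, x, ?_⟩⟩
      · rw [← hord]
        exact congrArg (2 * ·) (Subgroup.orderOf_coe (⟨g, MonoidHom.mem_ker.2 hker⟩ : ↥φ.ker))
      · rw [hsum]
        show (∑ i ∈ Finset.range (orderOf g), mat (qfMinus 3 F 1 ζ) g ^ i) *ᵥ x ≠ 0
        rw [hord]
        exact hx
    have hN' := hN
    simp only [twelve, List.mem_cons, List.not_mem_nil, or_false] at hN'
    rcases hN' with rfl | rfl | rfl | rfl | rfl | rfl | rfl | rfl | rfl | rfl | rfl | rfl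
    · exact hoddcase _ hN o4'
    · exact hoddcase _ hN o4
    · exact hoddcase _ hN (o3'.mul o1)
    · exact hoddcase _ hN (o3.mul o1')
    · exact hevencase _ (by simp [eightHalf])
    · exact hevencase _ (by simp [eightHalf])
    · exact hevencase _ (by simp [eightHalf])
    · exact hevencase _ (by simp [eightHalf])
    · have := hevencase (2 * (Fintype.card F ^ 2 + 1)) (by simp [eightHalf])
      rwa [← mul_assoc] at this
    · have := hevencase (2 * (Fintype.card F ^ 2 - 1)) (by simp [eightHalf])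
      rwa [← mul_assoc] at this
    · have := hevencase (4 * (Fintype.card F + 1)) (by simp [eightHalf])
      rwa [← mul_assoc] at this
    · have := hevencase (4 * (Fintype.card F - 1)) (by simp [eightHalf])
      rwa [← mul_assoc] at this

end Cfsg.Agent.Lib.Helper40_S9Main
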