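import Mathlib
import Cfsg.Prelude.Def_Characters
import Cfsg.Prelude.Def_ParabolicCharacters
import Cfsg.Prelude.Def_LinearParabolics
import Cfsg.Prelude.Def_Blocks
import Cfsg.Prelude.Def_Solvable
import Cfsg.Agent.Lib.Helper40_DefZeroDefs
import Cfsg.Agent.Lib.Helper40_SLBNDefs
import Cfsg.Agent.Lib.Helper40_SLBNDefs2

set_option autoImplicit false

namespace Cfsg.Agent.Lib.Helper52_DZ_SLTMEM

open Cfsg Cfsg.Agent.Lib.Helper40_DefZeroDefs Cfsg.Agent.Lib.Helper40_SLBNDefs
open Matrix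
open scoped MatrixGroups

variable {n : ℕ} {F : Type*} [Field F] [Fintype F] {p : ℕ} [Fact p.Prime] [CharP F p]

omit [Fintype F] in
theorem tv_entry (i j : Fin n) (c : F) (p q : Fin n) :
    transvection i j c p q = (if p = q then 1 else 0) + (if p = i ∧ q = j then c else 0) := by
  simp only [transvection, Matrix.add_apply, Matrix.one_apply, Matrix.single_apply]
  congr 1
  by_cases h : p = i ∧ q = j
  · rw [if_pos h, if_pos ⟨h.1.symm, h.2.symm⟩]
  · rw [if_neg h, if_neg (fun h' => h ⟨h'.1.symm, h'.2.symm⟩)]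

omit [Fintype F] in
/-- `h(s) = x(s) y(-1/s) x(s) · (x(1) y(-1) x(1))⁻¹` in the `2 × 2` block at `i, j` -/
theorem diag_prod (i j : Fin n) (hij : i ≠ j) (s : F) (hs : s ≠ 0) :
    transvection i j s * transvection j i (-s⁻¹) * transvection i j (s - 1) * transvection j i 1 *
      transvection i j (-1) =
    Matrix.diagonal (fun k => if k = i then s else if k = j then s⁻¹ else 1) := by
  have hji : j ≠ i := hij.symm
  ext p q
  have hp : p = i ∨ p = j ∨ (p ≠ i ∧ p ≠ j) := by
    by_cases h1 : p = i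
    · exact Or.inl h1
    · by_cases h2 : p = j
      · exact Or.inr (Or.inl h2)
      · exact Or.inr (Or.inr ⟨h1, h2⟩)
  have hq : q = i ∨ q = j ∨ (q ≠ i ∧ q ≠ j) := by
    by_cases h1 : q = i
    · exact Or.inl h1
    · by_cases h2 : q = j
      · exact Or.inr (Or.inl h2)
      · exact Or.inr (Or.inr ⟨h1, h2⟩)
  rcases hp with hp | hp | ⟨hp1, hp2⟩ <;> rcases hq with hq | hq | ⟨hq1, hq2⟩
  all_goals first | subst hp | skip
  all_goals first | subst hq | skip
  all_goals simp [*, tv_entry, Matrix.diagonal_apply, Ne.symm hij, Ne.symm]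
  all_goals field_simp
  all_goals ring

omit [Fintype F] in
/-- `w x(-r) = y(r) w` for `w = x(1) y(-1) x(1)` -/
theorem conj_prod (i j : Fin n) (hij : i ≠ j) (r : F) :
    transvection i j 1 * transvection j i (-1) * transvection i j (1 - r) =
      transvection j i r * transvection i j 1 * transvection j i (-1) * transvection i j 1 := by
  have hji : j ≠ i := hij.symm
  ext p q
  have hp : p = i ∨ p = j ∨ (p ≠ i ∧ p ≠ j) := by
    by_cases h1 : p = i
    · exact Or.inl h1
    · by_cases h2 : p = j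
      · exact Or.inr (Or.inl h2)
      · exact Or.inr (Or.inr ⟨h1, h2⟩)
  have hq : q = i ∨ q = j ∨ (q ≠ i ∧ q ≠ j) := by
    by_cases h1 : q = i
    · exact Or.inl h1
    · by_cases h2 : q = j
      · exact Or.inr (Or.inl h2)
      · exact Or.inr (Or.inr ⟨h1, h2⟩)
  rcases hp with hp | hp | ⟨hp1, hp2⟩ <;> rcases hq with hq | hq | ⟨hq1, hq2⟩
  all_goals first | subst hp | skip
  all_goals first | subst hq | skip
  all_goals simp [*, tv_entry, Ne.symm hij, Ne.symm]

omit [Fintype F] in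
/-- a transvection at `(p, q)` with `l p ≤ l q` is block triangular -/
theorem tv_blockTriangular (l : Fin n → ℕ) (p q : Fin n) (hpq : l p ≤ l q) (c : F) :
    (transvection p q c).BlockTriangular l := by
  intro r s hrs
  rw [tv_entry, if_neg, if_neg, add_zero]
  · rintro ⟨rfl, rfl⟩
    omega
  · rintro rfl
    exact lt_irrefl _ hrs

omit [Fintype F] in
theorem sl_T_mem (a : ℕ) (ha : a + 1 < n) :
    ∀ t ∈ Ts F a, t ∈ PL F (lB : Fin n → ℕ) ∧
      t ∈ Subgroup.closure {z : SpecialLinearGroup (Fin n) F |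
        ∃ y ∈ PL F (la a : Fin n → ℕ), ∃ u ∈ UL F (lB : Fin n → ℕ), z = y * u * y⁻¹} := by
  intro t ht
  obtain ⟨s, hs⟩ := ht
  obtain ⟨i, hi⟩ : ∃ i : Fin n, i.val = a := ⟨⟨a, by omega⟩, rfl⟩
  obtain ⟨j, hj⟩ : ∃ j : Fin n, j.val = a + 1 := ⟨⟨a + 1, ha⟩, rfl⟩
  have hij : i ≠ j := by
    intro h
    rw [Fin.ext_iff, hi, hj] at h
    omega
  constructor
  · rw [mem_PL, hs]
    exact Matrix.blockTriangular_diagonal _
  · obtain ⟨xs, hxs⟩ : ∃ xs : F → SpecialLinearGroup (Fin n) F,
        ∀ c, (xs c : Matrix (Fin n) (Fin n) F) = transvection i j c :=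
      ⟨fun c => ⟨transvection i j c, det_transvection_of_ne i j hij c⟩, fun c => rfl⟩
    obtain ⟨ys, hys⟩ : ∃ ys : F → SpecialLinearGroup (Fin n) F,
        ∀ c, (ys c : Matrix (Fin n) (Fin n) F) = transvection j i c :=
      ⟨fun c => ⟨transvection j i c, det_transvection_of_ne j i hij.symm c⟩, fun c => rfl⟩
    have hxU : ∀ c, xs c ∈ UL F (lB : Fin n → ℕ) := by
      intro c
      rw [mem_UL, hxs]
      intro r q hrq
      rw [Matrix.sub_apply, tv_entry, Matrix.one_apply, add_sub_cancel_left, if_neg]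
      rintro ⟨rfl, rfl⟩
      unfold lB at hrq
      omega
    have hxP : ∀ c, xs c ∈ PL F (la a : Fin n → ℕ) := by
      intro c
      rw [mem_PL, hxs]
      apply tv_blockTriangular
      simp only [la, hi, hj]
      split_ifs <;> omega
    have hyP : ∀ c, ys c ∈ PL F (la a : Fin n → ℕ) := by
      intro c
      rw [mem_PL, hys]
      apply tv_blockTriangular
      simp only [la, hi, hj]
      split_ifs <;> omega
    have hxN : ∀ c, xs c ∈ Subgroup.closure {z : SpecialLinearGroup (Fin n) F |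
        ∃ y ∈ PL F (la a : Fin n → ℕ), ∃ u ∈ UL F (lB : Fin n → ℕ), z = y * u * y⁻¹} := by
      intro c
      apply Subgroup.subset_closure
      exact ⟨1, Subgroup.one_mem _, xs c, hxU c, by simp⟩
    have hyN : ∀ r, ys r ∈ Subgroup.closure {z : SpecialLinearGroup (Fin n) F |
        ∃ y ∈ PL F (la a : Fin n → ℕ), ∃ u ∈ UL F (lB : Fin n → ℕ), z = y * u * y⁻¹} := by
      intro r
      have hw : xs 1 * ys (-1) * xs 1 ∈ PL F (la a : Fin n → ℕ) :=
        mul_mem (mul_mem (hxP 1) (hyP (-1))) (hxP 1)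
      have e : ys r = (xs 1 * ys (-1) * xs 1) * xs (-r) * (xs 1 * ys (-1) * xs 1)⁻¹ := by
        rw [eq_mul_inv_iff_mul_eq]
        apply Subtype.ext
        show (ys r : Matrix (Fin n) (Fin n) F) * ((xs 1 : Matrix (Fin n) (Fin n) F) *
          (ys (-1) : Matrix (Fin n) (Fin n) F) * (xs 1 : Matrix (Fin n) (Fin n) F)) =
          (xs 1 : Matrix (Fin n) (Fin n) F) * (ys (-1) : Matrix (Fin n) (Fin n) F) *
            (xs 1 : Matrix (Fin n) (Fin n) F) * (xs (-r) : Matrix (Fin n) (Fin n) F)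
        rw [hxs, hys, hys, hxs, Matrix.mul_assoc (transvection i j 1 * transvection j i (-1)),
          transvection_mul_transvection_same i j hij 1 (-r), ← sub_eq_add_neg, conj_prod i j hij r]
        simp only [Matrix.mul_assoc]
      rw [e]
      apply Subgroup.subset_closure
      exact ⟨_, hw, xs (-r), hxU _, rfl⟩
    have hs0 : (s : F) ≠ 0 := Units.ne_zero s
    have htprod : t = xs s * ys (-(s : F)⁻¹) * xs ((s : F) - 1) * ys 1 * xs (-1) := by
      apply Subtype.ext
      show (t : Matrix (Fin n) (Fin n) F) = (xs s : Matrix (Fin n) (Fin n) F) *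
        (ys (-(s : F)⁻¹) : Matrix (Fin n) (Fin n) F) * (xs ((s : F) - 1) : Matrix (Fin n) (Fin n) F) *
        (ys 1 : Matrix (Fin n) (Fin n) F) * (xs (-1) : Matrix (Fin n) (Fin n) F)
      rw [hs, hxs, hys, hxs, hys, hxs, diag_prod i j hij (s : F) hs0]
      congr 1
      funext k
      simp only [Fin.ext_iff, hi, hj, Units.val_inv_eq_inv_val]
    rw [htprod]
    exact mul_mem (mul_mem (mul_mem (mul_mem (hxN _) (hyN _)) (hxN _)) (hyN _)) (hxN _)

end Cfsg.Agent.Lib.Helper52_DZ_SLTMEM
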