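import Mathlib
import Cfsg.Prelude.Def_Characters
import Cfsg.Prelude.Def_ParabolicCharacters
import Cfsg.Prelude.Def_LinearParabolics
import Cfsg.Prelude.Def_Blocks
import Cfsg.Prelude.Def_Solvable
import Cfsg.Agent.Lib.Helper40_DefZeroDefs
import Cfsg.Agent.Lib.Helper40_SLBNDefs
import Cfsg.Agent.Lib.Helper40_SLBNDefs2

set_option autoImplicit false

/-!
# DEFZERO wave 2, package SLCOMMSC (architect helper40): an element of `SL_n(F)` commuting with
`radW W` (`W` a proper nonzero subspace) satisfies `(x - c)^2 = 0` for some scalar `c`.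
-/

namespace Cfsg.Agent.Lib.Helper55_DZ_SLCOMMSC

open Cfsg Cfsg.Agent.Lib.Helper40_DefZeroDefs Cfsg.Agent.Lib.Helper40_SLBNDefs
open Matrix
open scoped MatrixGroups

section Aux

variable {n : ℕ} {F : Type*} [Field F]

/-- the element `1 + v φᵀ` of `SL_n(F)` (`φ v = 0`) -/
def tvE (v φ : Fin n → F) (h : φ ⬝ᵥ v = 0) : SpecialLinearGroup (Fin n) F :=
  ⟨1 + vecMulVec v φ, by
    rw [vecMulVec_eq (ι := Unit), det_one_add_replicateCol_mul_replicateRow, h, add_zero]⟩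

theorem tvE_coe (v φ : Fin n → F) (h : φ ⬝ᵥ v = 0) :
    ((tvE v φ h : SpecialLinearGroup (Fin n) F) : Matrix (Fin n) (Fin n) F) =
      1 + vecMulVec v φ := rfl

theorem tvE_mulVec (v φ : Fin n → F) (h : φ ⬝ᵥ v = 0) (u : Fin n → F) :
    ((tvE v φ h : SpecialLinearGroup (Fin n) F) : Matrix (Fin n) (Fin n) F) *ᵥ u =
      u + (φ ⬝ᵥ u) • v := by
  rw [tvE_coe, add_mulVec, one_mulVec, vecMulVec_mulVec, op_smul_eq_smul]

theorem tvE_mem_radW (W : Submodule F (Fin n → F)) (v φ : Fin n → F) (hv : v ∈ W)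
    (hφ : ∀ w ∈ W, φ ⬝ᵥ w = 0) : tvE v φ (hφ v hv) ∈ radW W := by
  rw [mem_radW]
  constructor
  · intro u
    rw [tvE_mulVec, add_sub_cancel_left]
    exact W.smul_mem _ hv
  · intro u hu
    rw [tvE_mulVec, hφ u hu, zero_smul, add_zero]

/-- a linear functional on `Fin n → F` as a dot product -/
theorem dual_eq_dot (f : (Fin n → F) →ₗ[F] F) (w : Fin n → F) :
    f w = (fun j => f (Pi.single j 1)) ⬝ᵥ w := by
  rw [LinearMap.pi_apply_eq_sum_univ f w, dotProduct]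
  apply Finset.sum_congr rfl
  intro j _
  rw [smul_eq_mul, mul_comm]
  congr 2
  ext k
  simp [Pi.single_apply, eq_comm]

end Aux

variable {n : ℕ} {F : Type*} [Field F] [Fintype F] {p : ℕ} [Fact p.Prime] [CharP F p]

omit [Fintype F] [Fact p.Prime] [CharP F p] in
theorem sl_comm_scalar (W : Submodule F (Fin n → F)) (hW0 : W ≠ ⊥) (hW1 : W ≠ ⊤)
    (x : SpecialLinearGroup (Fin n) F) (hx : ∀ g ∈ radW W, g * x = x * g) :
    ∃ c : F, ((x : Matrix (Fin n) (Fin n) F) - Matrix.scalar (Fin n) c) *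
      ((x : Matrix (Fin n) (Fin n) F) - Matrix.scalar (Fin n) c) = 0 := by
  -- the commutation relation, entrywise
  have key : ∀ v ∈ W, ∀ φ : Fin n → F, (∀ w ∈ W, φ ⬝ᵥ w = 0) → ∀ i j,
      v i * (φ ᵥ* (x : Matrix (Fin n) (Fin n) F)) j =
        ((x : Matrix (Fin n) (Fin n) F) *ᵥ v) i * φ j := by
    intro v hv φ hφ i j
    have h1 := hx _ (tvE_mem_radW W v φ hv hφ)
    have h2 : ((tvE v φ (hφ v hv) * x : SpecialLinearGroup (Fin n) F) :
        Matrix (Fin n) (Fin n) F) = ((x * tvE v φ (hφ v hv) : SpecialLinearGroup (Fin n) F) :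
        Matrix (Fin n) (Fin n) F) := by rw [h1]
    have h3 : (1 + vecMulVec v φ) * (x : Matrix (Fin n) (Fin n) F) =
        (x : Matrix (Fin n) (Fin n) F) * (1 + vecMulVec v φ) := h2
    rw [add_mul, mul_add, one_mul, mul_one, add_right_inj, vecMulVec_mul, mul_vecMulVec] at h3
    have h4 := congrFun (congrFun h3 i) j
    simpa [vecMulVec_apply] using h4
  -- a nonzero functional vanishing on `W`
  obtain ⟨f, hf0, hfW⟩ := W.exists_le_ker_of_lt_top (lt_top_iff_ne_top.mpr hW1)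
  have hφ₀W : ∀ w ∈ W, (fun j => f (Pi.single j 1)) ⬝ᵥ w = 0 := by
    intro w hw
    rw [← dual_eq_dot]
    exact hfW hw
  have hj : ∃ j₀, f (Pi.single j₀ 1) ≠ 0 := by
    by_contra h
    push Not at h
    apply hf0
    apply LinearMap.ext
    intro w
    rw [dual_eq_dot f w]
    simp [dotProduct, h]
  obtain ⟨j₀, hj₀⟩ := hj
  refine ⟨((fun j => f (Pi.single j 1)) ᵥ* (x : Matrix (Fin n) (Fin n) F)) j₀ /
    f (Pi.single j₀ 1), ?_⟩
  set c : F := ((fun j => f (Pi.single j 1)) ᵥ* (x : Matrix (Fin n) (Fin n) F)) j₀ /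
    f (Pi.single j₀ 1) with hc
  have hXv : ∀ v ∈ W, (x : Matrix (Fin n) (Fin n) F) *ᵥ v = c • v := by
    intro v hv
    ext i
    have := key v hv _ hφ₀W i j₀
    simp only [Pi.smul_apply, smul_eq_mul, hc]
    field_simp
    linear_combination -this
  -- a nonzero vector of `W`
  obtain ⟨v₀, hv₀W, hv₀⟩ := (Submodule.ne_bot_iff W).mp hW0
  obtain ⟨i₀, hi₀⟩ : ∃ i₀, v₀ i₀ ≠ 0 := by
    by_contra h
    push Not at h
    exact hv₀ (funext h)
  have hφX : ∀ φ : Fin n → F, (∀ w ∈ W, φ ⬝ᵥ w = 0) →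
      φ ᵥ* (x : Matrix (Fin n) (Fin n) F) = c • φ := by
    intro φ hφ
    ext j
    have := key v₀ hv₀W φ hφ i₀ j
    rw [hXv v₀ hv₀W] at this
    simp only [Pi.smul_apply, smul_eq_mul] at this ⊢
    apply mul_left_cancel₀ hi₀
    linear_combination this
  have hsc : Matrix.scalar (Fin n) c = c • (1 : Matrix (Fin n) (Fin n) F) := by
    rw [scalar_apply, smul_one_eq_diagonal]
  rw [hsc]
  -- `(x - c) w ∈ W`
  have hNW : ∀ w, ((x : Matrix (Fin n) (Fin n) F) - c • (1 : Matrix (Fin n) (Fin n) F)) *ᵥ w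
      ∈ W := by
    intro w
    by_contra hnot
    obtain ⟨f', hf'v, hf'W⟩ := Submodule.exists_le_ker_of_notMem hnot
    have hφW : ∀ w ∈ W, (fun j => f' (Pi.single j 1)) ⬝ᵥ w = 0 := by
      intro w hw
      rw [← dual_eq_dot]
      exact hf'W hw
    apply hf'v
    rw [dual_eq_dot f', dotProduct_mulVec, vecMul_sub, hφX _ hφW, vecMul_smul, vecMul_one,
      sub_self, zero_dotProduct]
  have hN0 : ∀ v ∈ W, ((x : Matrix (Fin n) (Fin n) F) - c • (1 : Matrix (Fin n) (Fin n) F)) *ᵥ v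
      = 0 := by
    intro v hv
    rw [sub_mulVec, hXv v hv, smul_mulVec, one_mulVec, sub_self]
  ext i j
  have h1 := hN0 _ (hNW (Pi.single j 1))
  rw [mulVec_mulVec] at h1
  have h2 := congrFun h1 i
  rw [mulVec_single_one] at h2
  simpa using h2

end Cfsg.Agent.Lib.Helper55_DZ_SLCOMMSC
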