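import Mathlib
import Cfsg.Prelude.Def_Characters
import Cfsg.Prelude.Def_ParabolicCharacters
import Cfsg.Prelude.Def_LinearParabolics
import Cfsg.Prelude.Def_Blocks
import Cfsg.Prelude.Def_Solvable
import Cfsg.Agent.Lib.Helper40_DefZeroDefs
import Cfsg.Agent.Lib.Helper40_SLBNDefs
import Cfsg.Agent.Lib.Helper40_SLBNDefs2

set_option autoImplicit false

open Cfsg Cfsg.Agent.Lib.Helper40_DefZeroDefs Cfsg.Agent.Lib.Helper40_SLBNDefs
open Matrix
open scoped MatrixGroups

namespace Cfsg.Agent.Lib.Helper57_DZ_SLPREG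

variable {n : ℕ} {F : Type*} [Field F] [Fintype F] {p : ℕ} [Fact p.Prime] [CharP F p]

omit [Fintype F] in
theorem sl_preg (x : SpecialLinearGroup (Fin n) F) (c : F)
    (hsq : ((x : Matrix (Fin n) (Fin n) F) - Matrix.scalar (Fin n) c) *
      ((x : Matrix (Fin n) (Fin n) F) - Matrix.scalar (Fin n) c) = 0)
    (hreg : ¬ p ∣ orderOf x) : x ∈ Subgroup.center (SpecialLinearGroup (Fin n) F) := by
  have hp : p.Prime := Fact.out
  rcases Nat.eq_zero_or_pos n with hn | hn
  · subst hn
    rw [Subgroup.mem_center_iff]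
    intro g
    exact Subtype.ext (Subsingleton.elim _ _)
  have : Nonempty (Fin n) := ⟨⟨0, hn⟩⟩
  -- scalar matrices are central
  have hscal : ∀ r : F, (x : Matrix (Fin n) (Fin n) F) = Matrix.scalar (Fin n) r →
      x ∈ Subgroup.center (SpecialLinearGroup (Fin n) F) := by
    intro r hr
    rw [Subgroup.mem_center_iff]
    intro g
    apply Subtype.ext
    show (g : Matrix (Fin n) (Fin n) F) * (x : Matrix (Fin n) (Fin n) F) =
      (x : Matrix (Fin n) (Fin n) F) * (g : Matrix (Fin n) (Fin n) F)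
    rw [hr]
    exact ((Matrix.scalar_commute r (fun r' => Commute.all r r')) _).symm.eq
  set X : Matrix (Fin n) (Fin n) F := (x : Matrix (Fin n) (Fin n) F) with hX
  set S : Matrix (Fin n) (Fin n) F := Matrix.scalar (Fin n) c with hS
  set N : Matrix (Fin n) (Fin n) F := X - S with hN
  have hXSN : X = S + N := by rw [hN]; abel
  have hcomm : Commute S N := (Matrix.scalar_commute c (fun r' => Commute.all c r')) N
  have hNp : N ^ p = 0 := by
    have h2 : 2 ≤ p := hp.two_le
    obtain ⟨k, rfl⟩ : ∃ k, p = 2 + k := ⟨p - 2, by omega⟩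
    rw [pow_add, pow_two, hsq, zero_mul]
  have hXp : X ^ p = Matrix.scalar (Fin n) (c ^ p) := by
    rw [hXSN, add_pow_char_of_commute p hcomm, hNp, add_zero, hS, map_pow]
  -- orders
  set m := orderOf x with hm
  have hm0 : m ≠ 0 := by
    intro h0
    apply hreg
    rw [h0]
    exact dvd_zero p
  rcases Nat.lt_or_ge 1 m with hm1 | hm1
  · have hcop : Nat.Coprime p m := (Nat.Prime.coprime_iff_not_dvd hp).2 hreg
    obtain ⟨k, -, hk⟩ := Nat.exists_mul_mod_eq_one_of_coprime hcop hm1
    have hxpk : x ^ (p * k) = x := by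
      rw [← pow_mod_orderOf, ← hm, hk, pow_one]
    apply hscal (c ^ (p * k))
    have h1 : ((x ^ (p * k) : SpecialLinearGroup (Fin n) F) : Matrix (Fin n) (Fin n) F) =
        X ^ (p * k) := Matrix.SpecialLinearGroup.coe_pow x (p * k)
    have h2 := congrArg (fun y : SpecialLinearGroup (Fin n) F =>
      (y : Matrix (Fin n) (Fin n) F)) hxpk
    have h3 : X ^ (p * k) = Matrix.scalar (Fin n) (c ^ (p * k)) := by
      rw [pow_mul, hXp, ← map_pow, ← pow_mul]
    calc X = ((x ^ (p * k) : SpecialLinearGroup (Fin n) F) : Matrix (Fin n) (Fin n) F) := h2.symm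
      _ = X ^ (p * k) := h1
      _ = _ := h3
  · have hm1' : m = 1 := by omega
    have hx1 : x = 1 := orderOf_eq_one_iff.mp hm1'
    rw [hx1]
    exact Subgroup.one_mem _

end Cfsg.Agent.Lib.Helper57_DZ_SLPREG
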