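import Mathlib
import Cfsg.Prelude.Def_Characters
import Cfsg.Prelude.Def_ParabolicCharacters
import Cfsg.Prelude.Def_LinearParabolics
import Cfsg.Prelude.Def_Blocks
import Cfsg.Prelude.Def_Solvable
import Cfsg.Agent.Lib.Helper40_DefZeroDefs
import Cfsg.Agent.Lib.Helper40_SLBNDefs
import Cfsg.Agent.Lib.Helper40_SLBNDefs2
import Cfsg.Agent.Lib.Helper40_BlockTri

set_option autoImplicit false
set_option linter.unusedSectionVars false

/-!
# defzero wave 2 (architect helper40): package SLCARDP (helper58)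

`|P_a| = (q + 1) |B|` in `SL_n(F)`, by counting the block triangular subgroups of `GL_n(F)`
(`Helper40_BlockTri.card_btInv`) and dividing by `|Fˣ|` (the determinant).
-/

namespace Cfsg.Agent.Lib.Helper58_DZ_SLCARDP

open Cfsg Cfsg.Agent.Lib.Helper40_DefZeroDefs Cfsg.Agent.Lib.Helper40_SLBNDefs
  Cfsg.Agent.Lib.Helper40_BlockTri
open Matrix
open scoped MatrixGroups

variable {n : ℕ} {F : Type*} [Field F] [Fintype F] {p : ℕ} [Fact p.Prime] [CharP F p]

/-- the determinant maps the block triangular subgroup of `GL_n` onto the units -/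
theorem h58_map_det_PLGL (hn : 0 < n) (l : Fin n → ℕ) :
    (PLGL F l).map (Matrix.GeneralLinearGroup.det : GL (Fin n) F →* Fˣ) = ⊤ := by
  rw [eq_top_iff]
  intro t _
  rw [Subgroup.mem_map]
  have hdet : (Matrix.diagonal (fun i : Fin n => if i = ⟨0, hn⟩ then (t : F) else 1)).det = (t : F) := by
    rw [Matrix.det_diagonal, Finset.prod_ite_eq' Finset.univ (⟨0, hn⟩ : Fin n) (fun _ => (t : F))]
    simp
  have hne : (Matrix.diagonal (fun i : Fin n => if i = ⟨0, hn⟩ then (t : F) else 1)).det ≠ 0 := by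
    rw [hdet]; exact t.ne_zero
  refine ⟨Matrix.GeneralLinearGroup.mkOfDetNeZero _ hne, ?_, ?_⟩
  · show (Matrix.diagonal (fun i : Fin n => if i = ⟨0, hn⟩ then (t : F) else 1)).BlockTriangular l
    exact Matrix.blockTriangular_diagonal _
  · apply Units.ext
    show (Matrix.diagonal (fun i : Fin n => if i = ⟨0, hn⟩ then (t : F) else 1)).det = (t : F)
    exact hdet


/-- the elements of determinant one of the block triangular subgroup of `GL_n` -/
theorem h58_card_ker (l : Fin n → ℕ) :
    Nat.card (((Matrix.GeneralLinearGroup.det : GL (Fin n) F →* Fˣ).ker).subgroupOf (PLGL F l)) =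
      Nat.card (PL F l) := by
  symm
  refine Nat.card_congr (Equiv.ofBijective
    (fun s : PL F l => (⟨⟨SpecialLinearGroup.toGL s.1, s.2⟩, by
      rw [Subgroup.mem_subgroupOf, MonoidHom.mem_ker]
      apply Units.ext
      show (SpecialLinearGroup.toGL s.1 : Matrix (Fin n) (Fin n) F).det = 1
      rw [SpecialLinearGroup.coe_GL_coe_matrix]
      exact s.1.2⟩ :
        ((Matrix.GeneralLinearGroup.det : GL (Fin n) F →* Fˣ).ker).subgroupOf (PLGL F l))) ⟨?_, ?_⟩)
  · intro s s' h
    have h1 := congrArg (fun x => (x.1.1 : GL (Fin n) F)) h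
    simp only at h1
    exact Subtype.ext (SpecialLinearGroup.toGL_injective h1)
  · rintro ⟨⟨g, hg⟩, hk⟩
    rw [Subgroup.mem_subgroupOf, MonoidHom.mem_ker] at hk
    have hd : (g : Matrix (Fin n) (Fin n) F).det = 1 := by
      have := congrArg Units.val hk
      exact this
    refine ⟨⟨⟨(g : Matrix (Fin n) (Fin n) F), hd⟩, ?_⟩, ?_⟩
    · show (g : Matrix (Fin n) (Fin n) F).BlockTriangular l
      exact hg
    · apply Subtype.ext
      apply Subtype.ext
      apply Units.ext
      rfl

theorem h58_card_PLGL (hn : 0 < n) (l : Fin n → ℕ) :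
    Nat.card (PLGL F l) = (Fintype.card F - 1) * Nat.card (PL F l) := by
  have h1 := Subgroup.relIndex_ker (Matrix.GeneralLinearGroup.det : GL (Fin n) F →* Fˣ)
    (K := PLGL F l)
  rw [h58_map_det_PLGL hn l] at h1
  have h2 := Subgroup.card_mul_index
    (((Matrix.GeneralLinearGroup.det : GL (Fin n) F →* Fˣ).ker).subgroupOf (PLGL F l))
  rw [h58_card_ker l] at h2
  have h3 : Nat.card (⊤ : Subgroup Fˣ) = Fintype.card F - 1 := by
    classical
    rw [Subgroup.card_top, Nat.card_eq_fintype_card, Fintype.card_units]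
  rw [← h2, mul_comm]
  congr 1
  rw [← h3, ← h1]
  rfl

/-- the order of the block triangular subgroup of `GL_n` -/
theorem h58_card_PLGL_bt {N : ℕ} (b : Fin n → Fin N) :
    Nat.card (PLGL F (fun i => (b i).val)) =
      (∏ c : Fin N, glCard (Fintype.card F) (Fintype.card {i // b i = c})) *
        Fintype.card F ^ Fintype.card {p : Fin n × Fin n // b p.1 < b p.2} := by
  rw [← card_btInv b]
  refine Nat.card_congr (Equiv.ofBijective
    (fun g : PLGL F (fun i => (b i).val) =>
      (⟨(g.1 : Matrix (Fin n) (Fin n) F), ⟨fun i j h => g.2 h,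
        Matrix.GeneralLinearGroup.det_ne_zero g.1⟩⟩ :
        {M : Matrix (Fin n) (Fin n) F // M.BlockTriangular b ∧ M.det ≠ 0})) ⟨?_, ?_⟩)
  · intro g g' h
    have h1 := congrArg Subtype.val h
    simp only at h1
    exact Subtype.ext (Units.ext h1)
  · rintro ⟨M, hM, hd⟩
    refine ⟨⟨Matrix.GeneralLinearGroup.mkOfDetNeZero M hd, ?_⟩, ?_⟩
    · show M.BlockTriangular (fun i => (b i).val)
      exact fun i j h => hM h
    · rfl

theorem h58_glCard_one (q : ℕ) : glCard q 1 = q - 1 := by
  simp [glCard]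

theorem h58_glCard_two (q : ℕ) : glCard q 2 = (q ^ 2 - 1) * (q ^ 2 - q) := by
  simp [glCard, Fin.prod_univ_two]

/-- the labelling `la a` with values in `Fin (n - 1)` -/
def h58_bla (a : ℕ) (ha : a + 1 < n) : Fin n → Fin (n - 1) := fun i =>
  ⟨la a i, by
    have := i.2
    unfold la
    split_ifs <;> omega⟩

theorem h58_bla_val (a : ℕ) (ha : a + 1 < n) :
    (fun i => ((h58_bla a ha i : Fin (n - 1)) : ℕ)) = (la a : Fin n → ℕ) := rfl

theorem h58_fiber_la (a : ℕ) (ha : a + 1 < n) (c : Fin (n - 1)) :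
    Fintype.card {i : Fin n // h58_bla a ha i = c} = if c.val = a then 2 else 1 := by
  rw [Fintype.card_subtype]
  have hc := c.2
  by_cases h : c.val = a
  · rw [if_pos h]
    have : (Finset.univ.filter fun i : Fin n => h58_bla a ha i = c) =
        {(⟨a, by omega⟩ : Fin n), (⟨a + 1, ha⟩ : Fin n)} := by
      ext i
      have hi := i.2
      simp only [Finset.mem_filter, Finset.mem_univ, true_and, Finset.mem_insert,
        Finset.mem_singleton, Fin.ext_iff, h58_bla, la]
      split_ifs <;> omega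
    rw [this, Finset.card_pair]
    simp [Fin.ext_iff]
  · rw [if_neg h]
    have : (Finset.univ.filter fun i : Fin n => h58_bla a ha i = c) =
        {(⟨if c.val < a then c.val else c.val + 1, by split_ifs <;> omega⟩ : Fin n)} := by
      ext i
      have hi := i.2
      simp only [Finset.mem_filter, Finset.mem_univ, true_and, Finset.mem_singleton, Fin.ext_iff,
        h58_bla, la]
      split_ifs <;> omega
    rw [this, Finset.card_singleton]

/-- the strictly upper positions: `la a` loses the position `(a, a + 1)` -/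
theorem h58_pairs (a : ℕ) (ha : a + 1 < n) :
    Fintype.card {p : Fin n × Fin n // (id p.1 : Fin n) < id p.2} =
      Fintype.card {p : Fin n × Fin n // h58_bla a ha p.1 < h58_bla a ha p.2} + 1 := by
  rw [Fintype.card_subtype, Fintype.card_subtype]
  have hx : ((⟨a, by omega⟩, ⟨a + 1, ha⟩) : Fin n × Fin n) ∉
      Finset.univ.filter fun p : Fin n × Fin n => h58_bla a ha p.1 < h58_bla a ha p.2 := by
    simp only [Finset.mem_filter, Finset.mem_univ, true_and, Fin.lt_def, h58_bla, la]
    split_ifs <;> omega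
  rw [← Finset.card_insert_of_notMem hx]
  congr 1
  ext p
  have h1 := p.1.2
  have h2 := p.2.2
  simp only [Finset.mem_filter, Finset.mem_univ, true_and, Finset.mem_insert, Prod.ext_iff,
    Fin.ext_iff, Fin.lt_def, h58_bla, la, id]
  split_ifs <;> omega

theorem h58_prod_la (a : ℕ) (ha : a + 1 < n) (q : ℕ) :
    (∏ c : Fin (n - 1), glCard q (Fintype.card {i : Fin n // h58_bla a ha i = c})) =
      glCard q 2 * glCard q 1 ^ (n - 2) := by
  have hmem : (⟨a, by omega⟩ : Fin (n - 1)) ∈ (Finset.univ : Finset (Fin (n - 1))) :=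
    Finset.mem_univ _
  rw [← Finset.mul_prod_erase _ _ hmem, h58_fiber_la, if_pos rfl]
  congr 1
  have : ∀ c ∈ (Finset.univ : Finset (Fin (n - 1))).erase ⟨a, by omega⟩,
      glCard q (Fintype.card {i : Fin n // h58_bla a ha i = c}) = glCard q 1 := by
    intro c hc
    rw [Finset.mem_erase] at hc
    rw [h58_fiber_la, if_neg]
    intro h
    exact hc.1 (Fin.ext h)
  rw [Finset.prod_congr rfl this, Finset.prod_const, Finset.card_erase_of_mem hmem,
    Finset.card_univ, Fintype.card_fin]
  congr 1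

theorem h58_prod_lB (q : ℕ) :
    (∏ c : Fin n, glCard q (Fintype.card {i : Fin n // (id i : Fin n) = c})) = glCard q 1 ^ n := by
  have : ∀ c ∈ (Finset.univ : Finset (Fin n)),
      glCard q (Fintype.card {i : Fin n // (id i : Fin n) = c}) = glCard q 1 := by
    intro c _
    congr 1
    rw [Fintype.card_subtype]
    simp [Finset.filter_eq']
  rw [Finset.prod_congr rfl this, Finset.prod_const, Finset.card_univ, Fintype.card_fin]

theorem h58_arith (r m k : ℕ) (x y : ℕ)
    (hx : r * x = ((r + 1) ^ 2 - 1) * ((r + 1) ^ 2 - (r + 1)) * r ^ m * (r + 1) ^ k)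
    (hy : r * y = r ^ (m + 2) * (r + 1) ^ (k + 1)) (hr : 0 < r) : x = (r + 1 + 1) * y := by
  have e1 : (r + 1) ^ 2 - 1 = r * (r + 2) := by
    apply Nat.sub_eq_of_eq_add
    ring
  have e2 : (r + 1) ^ 2 - (r + 1) = r * (r + 1) := by
    apply Nat.sub_eq_of_eq_add
    ring
  rw [e1, e2] at hx
  apply Nat.eq_of_mul_eq_mul_left hr
  rw [hx]
  calc r * (r + 2) * (r * (r + 1)) * r ^ m * (r + 1) ^ k
      = (r + 1 + 1) * (r ^ (m + 2) * (r + 1) ^ (k + 1)) := by ring
    _ = (r + 1 + 1) * (r * y) := by rw [hy]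
    _ = r * ((r + 1 + 1) * y) := by ring

theorem sl_card_P (a : ℕ) (ha : a + 1 < n) :
    Nat.card (PL F (la a : Fin n → ℕ)) =
      (Fintype.card F + 1) * Nat.card (PL F (lB : Fin n → ℕ)) := by
  have hn : 0 < n := by omega
  have hq : 1 < Fintype.card F := Fintype.one_lt_card
  obtain ⟨r, hr⟩ : ∃ r, Fintype.card F = r + 1 := ⟨Fintype.card F - 1, by omega⟩
  have hr0 : 0 < r := by omega
  have A1 := h58_card_PLGL (F := F) hn (la a : Fin n → ℕ)
  have A2 := h58_card_PLGL (F := F) hn (lB : Fin n → ℕ)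
  have B1 := h58_card_PLGL_bt (F := F) (h58_bla a ha)
  have B2 := h58_card_PLGL_bt (F := F) (id : Fin n → Fin n)
  rw [h58_bla_val] at B1
  have e : (fun i : Fin n => ((id i : Fin n) : ℕ)) = (lB : Fin n → ℕ) := rfl
  rw [e] at B2
  rw [h58_prod_la, h58_glCard_two, h58_glCard_one] at B1
  rw [h58_prod_lB, h58_glCard_one, h58_pairs a ha] at B2
  rw [A1] at B1
  rw [A2] at B2
  rw [hr] at B1 B2 ⊢
  rw [Nat.add_sub_cancel] at B1 B2
  obtain ⟨k, hk⟩ : ∃ k, Fintype.card
      {p : Fin n × Fin n // h58_bla a ha p.1 < h58_bla a ha p.2} = k := ⟨_, rfl⟩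
  rw [hk] at B1 B2
  obtain ⟨m, hm⟩ : ∃ m, n = m + 2 := ⟨n - 2, by omega⟩
  have hm' : n - 2 = m := by omega
  have hn2 : r ^ n = r ^ (m + 2) := by rw [hm]
  rw [hm'] at B1
  rw [hn2] at B2
  exact h58_arith r m k _ _ B1 B2 hr0

end Cfsg.Agent.Lib.Helper58_DZ_SLCARDP
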