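import Mathlib
import Cfsg.Prelude.Def_Characters
import Cfsg.Prelude.Def_ParabolicCharacters
import Cfsg.Prelude.Def_LinearParabolics
import Cfsg.Prelude.Def_Blocks
import Cfsg.Prelude.Def_Solvable
import Cfsg.Agent.Lib.Helper40_DefZeroDefs
import Cfsg.Agent.Lib.Helper40_SLBNDefs
import Cfsg.Agent.Lib.Helper40_SLBNDefs2

set_option autoImplicit false

/-!
# defzero wave 2 (architect helper40): package SLCOMM (helper58)

The commutator of two upper triangular matrices of `SL_n(F)` is upper unitriangular.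
-/

namespace Cfsg.Agent.Lib.Helper58_DZ_SLCOMM

open Cfsg Cfsg.Agent.Lib.Helper40_DefZeroDefs Cfsg.Agent.Lib.Helper40_SLBNDefs
open Matrix
open scoped MatrixGroups

variable {n : ℕ} {F : Type*} [Field F] [Fintype F] {p : ℕ} [Fact p.Prime] [CharP F p]

omit [Fintype F] in
/-- the diagonal of a product of upper triangular matrices -/
theorem h58_diag_mul {x y : Matrix (Fin n) (Fin n) F} (hx : x.BlockTriangular (lB : Fin n → ℕ))
    (hy : y.BlockTriangular (lB : Fin n → ℕ)) (i : Fin n) : (x * y) i i = x i i * y i i := by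
  rw [Matrix.mul_apply]
  apply Finset.sum_eq_single i
  · intro k _ hk
    rcases lt_or_gt_of_ne hk with h | h
    · have : x i k = 0 := hx (show lB k < lB i from h)
      rw [this, zero_mul]
    · have : y k i = 0 := hy (show lB i < lB k from h)
      rw [this, mul_zero]
  · intro h
    exact absurd (Finset.mem_univ i) h

omit [Fintype F] in
/-- the diagonal entries of the inverse -/
theorem h58_diag_inv {a : SpecialLinearGroup (Fin n) F} (ha : a ∈ PL F (lB : Fin n → ℕ)) (i : Fin n) :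
    (a : Matrix (Fin n) (Fin n) F) i i * ((a⁻¹ : SpecialLinearGroup (Fin n) F) :
      Matrix (Fin n) (Fin n) F) i i = 1 := by
  have ha' : a⁻¹ ∈ PL F (lB : Fin n → ℕ) := Subgroup.inv_mem _ ha
  have h : ((a * a⁻¹ : SpecialLinearGroup (Fin n) F) : Matrix (Fin n) (Fin n) F) =
      (a : Matrix (Fin n) (Fin n) F) * ((a⁻¹ : SpecialLinearGroup (Fin n) F) :
        Matrix (Fin n) (Fin n) F) := rfl
  rw [← h58_diag_mul ((mem_PL _ _).mp ha) ((mem_PL _ _).mp ha'), ← h, mul_inv_cancel]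
  have h1 : ((1 : SpecialLinearGroup (Fin n) F) : Matrix (Fin n) (Fin n) F) = 1 := rfl
  rw [h1, Matrix.one_apply_eq]

omit [Fintype F] in
theorem sl_comm :
    ∀ a ∈ PL F (lB : Fin n → ℕ), ∀ b ∈ PL F (lB : Fin n → ℕ),
      a * b * a⁻¹ * b⁻¹ ∈ UL F (lB : Fin n → ℕ) := by
  intro a ha b hb
  have ha' : a⁻¹ ∈ PL F (lB : Fin n → ℕ) := Subgroup.inv_mem _ ha
  have hb' : b⁻¹ ∈ PL F (lB : Fin n → ℕ) := Subgroup.inv_mem _ hb
  have hab : a * b ∈ PL F (lB : Fin n → ℕ) := Subgroup.mul_mem _ ha hb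
  have haba : a * b * a⁻¹ ∈ PL F (lB : Fin n → ℕ) := Subgroup.mul_mem _ hab ha'
  have hc : a * b * a⁻¹ * b⁻¹ ∈ PL F (lB : Fin n → ℕ) := Subgroup.mul_mem _ haba hb'
  rw [mem_UL]
  intro i j hij
  have hij' : j ≤ i := hij
  rcases lt_or_eq_of_le hij' with h | h
  · have h0 : ((a * b * a⁻¹ * b⁻¹ : SpecialLinearGroup (Fin n) F) :
        Matrix (Fin n) (Fin n) F) i j = 0 := ((mem_PL _ _).mp hc) (show lB j < lB i from h)
    have hne : i ≠ j := fun e => by rw [e] at h; exact lt_irrefl _ h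
    rw [Matrix.sub_apply, h0, Matrix.one_apply_ne hne, sub_zero]
  · subst h
    have e1 : ((a * b * a⁻¹ * b⁻¹ : SpecialLinearGroup (Fin n) F) : Matrix (Fin n) (Fin n) F) =
        ((a * b * a⁻¹ : SpecialLinearGroup (Fin n) F) : Matrix (Fin n) (Fin n) F) *
          ((b⁻¹ : SpecialLinearGroup (Fin n) F) : Matrix (Fin n) (Fin n) F) := rfl
    have e2 : ((a * b * a⁻¹ : SpecialLinearGroup (Fin n) F) : Matrix (Fin n) (Fin n) F) =
        ((a * b : SpecialLinearGroup (Fin n) F) : Matrix (Fin n) (Fin n) F) *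
          ((a⁻¹ : SpecialLinearGroup (Fin n) F) : Matrix (Fin n) (Fin n) F) := rfl
    have e3 : ((a * b : SpecialLinearGroup (Fin n) F) : Matrix (Fin n) (Fin n) F) =
        (a : Matrix (Fin n) (Fin n) F) * (b : Matrix (Fin n) (Fin n) F) := rfl
    have d1 := h58_diag_mul ((mem_PL _ _).mp haba) ((mem_PL _ _).mp hb') j
    have d2 := h58_diag_mul ((mem_PL _ _).mp hab) ((mem_PL _ _).mp ha') j
    have d3 := h58_diag_mul ((mem_PL _ _).mp ha) ((mem_PL _ _).mp hb) j
    rw [← e1] at d1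
    rw [← e2] at d2
    rw [← e3] at d3
    rw [Matrix.sub_apply, Matrix.one_apply_eq, d1, d2, d3]
    have i1 := h58_diag_inv ha j
    have i2 := h58_diag_inv hb j
    linear_combination ((b : Matrix (Fin n) (Fin n) F) j j *
      ((b⁻¹ : SpecialLinearGroup (Fin n) F) : Matrix (Fin n) (Fin n) F) j j) * i1 + i2

end Cfsg.Agent.Lib.Helper58_DZ_SLCOMM
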