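import Mathlib
import Cfsg.Prelude.Def_Characters
import Cfsg.Prelude.Def_ParabolicCharacters
import Cfsg.Prelude.Def_LinearParabolics
import Cfsg.Prelude.Def_Blocks
import Cfsg.Prelude.Def_Solvable
import Cfsg.Agent.Lib.Helper40_DefZeroDefs
import Cfsg.Agent.Lib.Helper40_SLBNDefs
import Cfsg.Agent.Lib.Helper40_SLBNDefs2

/-!
# DEFZERO market (helper40), wave 2, package BLKCLASS: the number of `p`-regular classes of `N_G(P)` lying in
`C_G(P)` is `|Z(G)|` when the `p`-regular elements of `C_G(P)` are central.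
-/

set_option autoImplicit false
set_option linter.unusedSectionVars false

open Cfsg Cfsg.Agent.Lib.Helper40_DefZeroDefs Cfsg.Agent.Lib.Helper40_SLBNDefs
open Matrix
open scoped MatrixGroups

namespace Cfsg.Agent.Lib.Helper5_DZ_BLKCLASS

variable {G : Type*} [Group G] [Finite G] (p : ℕ) [Fact p.Prime] (M : Ideal Cfsg.AlgInt)

omit [Finite G] in
/-- a conjugate (inside a subgroup `N`) of a central element is that element -/
theorem coe_eq_of_mk_eq {N : Subgroup G} (n z : N) (hz : (z : G) ∈ Subgroup.center G)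
    (h : ConjClasses.mk n = ConjClasses.mk z) : n = z := by
  rw [ConjClasses.mk_eq_mk_iff_isConj, isConj_comm, isConj_iff] at h
  obtain ⟨c, hc⟩ := h
  rw [← hc]
  apply Subtype.ext
  show (c : G) * (z : G) * (c : G)⁻¹ = z
  rw [(Subgroup.mem_center_iff.1 hz (c : G)), mul_inv_cancel_right]

/- BLKCLASS (size M). -/
theorem blk_classcount (P : Sylow p G)
    (hcen : ∀ x ∈ Subgroup.centralizer ((P : Subgroup G) : Set G), ¬ p ∣ orderOf x →
      x ∈ Subgroup.center G)
    (hreg : ∀ x ∈ Subgroup.center G, ¬ p ∣ orderOf x) :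
    Nat.card {C : ConjClasses (Subgroup.normalizer ((P : Subgroup G) : Set G)) //
      ∀ n : Subgroup.normalizer ((P : Subgroup G) : Set G), ConjClasses.mk n = C →
        ¬ p ∣ orderOf n ∧ (n : G) ∈ Subgroup.centralizer ((P : Subgroup G) : Set G)} =
      Nat.card (Subgroup.center G) := by
  have hZN : Subgroup.center G ≤ Subgroup.normalizer ((P : Subgroup G) : Set G) :=
    Subgroup.center_le_normalizer _
  have hZC : Subgroup.center G ≤ Subgroup.centralizer ((P : Subgroup G) : Set G) :=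
    Subgroup.center_le_centralizer _
  symm
  refine Nat.card_congr (Equiv.ofBijective
    (fun z : Subgroup.center G =>
      (⟨ConjClasses.mk (⟨(z : G), hZN z.2⟩ : Subgroup.normalizer ((P : Subgroup G) : Set G)), ?_⟩ :
        {C : ConjClasses (Subgroup.normalizer ((P : Subgroup G) : Set G)) //
          ∀ n : Subgroup.normalizer ((P : Subgroup G) : Set G), ConjClasses.mk n = C →
            ¬ p ∣ orderOf n ∧ (n : G) ∈ Subgroup.centralizer ((P : Subgroup G) : Set G)}))
    ⟨?_, ?_⟩)
  · intro n hn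
    have h1 := coe_eq_of_mk_eq n ⟨(z : G), hZN z.2⟩ z.2 hn
    rw [h1]
    refine ⟨?_, hZC z.2⟩
    rw [← Subgroup.orderOf_coe]
    exact hreg _ z.2
  · intro z z' h
    have h1 : ConjClasses.mk (⟨(z : G), hZN z.2⟩ : Subgroup.normalizer ((P : Subgroup G) : Set G)) =
        ConjClasses.mk ⟨(z' : G), hZN z'.2⟩ := congrArg Subtype.val h
    have h2 := coe_eq_of_mk_eq (N := Subgroup.normalizer ((P : Subgroup G) : Set G))
      ⟨(z : G), hZN z.2⟩ ⟨(z' : G), hZN z'.2⟩ z'.2 h1
    apply Subtype.ext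
    have h3 : ((⟨(z : G), hZN z.2⟩ : Subgroup.normalizer ((P : Subgroup G) : Set G)) : G) =
        ((⟨(z' : G), hZN z'.2⟩ : Subgroup.normalizer ((P : Subgroup G) : Set G)) : G) :=
      congrArg Subtype.val h2
    exact h3
  · rintro ⟨C, hC⟩
    obtain ⟨n, rfl⟩ := ConjClasses.mk_surjective C
    obtain ⟨h1, h2⟩ := hC n rfl
    have h3 : (n : G) ∈ Subgroup.center G := by
      apply hcen _ h2
      rw [Subgroup.orderOf_coe]
      exact h1
    refine ⟨⟨(n : G), h3⟩, ?_⟩
    apply Subtype.ext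
    rfl

end Cfsg.Agent.Lib.Helper5_DZ_BLKCLASS
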