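import Mathlib
import Cfsg.Prelude.Def_Characters
import Cfsg.Prelude.Def_ParabolicCharacters
import Cfsg.Prelude.Def_LinearParabolics
import Cfsg.Prelude.Def_Blocks
import Cfsg.Prelude.Def_Solvable
import Cfsg.Agent.Lib.Helper40_DefZeroDefs
import Cfsg.Agent.Lib.Helper40_SLBNDefs
import Cfsg.Agent.Lib.Helper40_SLBNDefs2

/-!
# DEFZERO market wave 2 (architect helper40), package RADGEN

If `D = O_p(N_G(D))` is a radical `p`-subgroup and `R` is a `p`-subgroup normalised by `N_G(D)`, then `R ≤ D`.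
-/

set_option autoImplicit false

namespace Cfsg.Agent.Lib.Helper77_DZ_RADGEN

open Cfsg Cfsg.Agent.Lib.Helper40_DefZeroDefs Cfsg.Agent.Lib.Helper40_SLBNDefs

/-- If `D` normalises `R`, every element of `D ⊔ R` is a product `d * r`. -/
theorem exists_mul_of_mem_sup {G : Type*} [Group G] (D R : Subgroup G)
    (hDR : ∀ d ∈ D, ∀ r ∈ R, d * r * d⁻¹ ∈ R) {y : G} (hy : y ∈ D ⊔ R) :
    ∃ d ∈ D, ∃ r ∈ R, y = d * r := by
  rw [Subgroup.sup_eq_closure] at hy
  induction hy using Subgroup.closure_induction with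
  | mem x hx =>
    rcases hx with hx | hx
    · exact ⟨x, hx, 1, R.one_mem, (mul_one x).symm⟩
    · exact ⟨1, D.one_mem, x, hx, (one_mul x).symm⟩
  | one => exact ⟨1, D.one_mem, 1, R.one_mem, (mul_one 1).symm⟩
  | mul x y _ _ hx hy =>
    obtain ⟨d₁, hd₁, r₁, hr₁, rfl⟩ := hx
    obtain ⟨d₂, hd₂, r₂, hr₂, rfl⟩ := hy
    refine ⟨d₁ * d₂, D.mul_mem hd₁ hd₂, (d₂⁻¹ * r₁ * d₂⁻¹⁻¹) * r₂,
      R.mul_mem (hDR _ (D.inv_mem hd₂) _ hr₁) hr₂, ?_⟩
    group
  | inv x _ hx =>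
    obtain ⟨d, hd, r, hr, rfl⟩ := hx
    refine ⟨d⁻¹, D.inv_mem hd, d * r⁻¹ * d⁻¹, hDR d hd _ (R.inv_mem hr), ?_⟩
    group

/-- RADGEN (size M). -/
theorem rad_gen {G : Type*} [Group G] [Finite G] (p : ℕ) [Fact p.Prime] (D R : Subgroup G)
    (hD : IsPGroup p D) (hR : IsPGroup p R)
    (hrad : (Cfsg.pCore p (Subgroup.normalizer (D : Set G))).map
      (Subgroup.normalizer (D : Set G)).subtype = D)
    (hnorm : Subgroup.normalizer (D : Set G) ≤ Subgroup.normalizer (R : Set G)) : R ≤ D := by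
  classical
  set N : Subgroup G := Subgroup.normalizer (D : Set G) with hN
  have hDN : D ≤ N := Subgroup.le_normalizer
  -- `N` normalises `R`
  have hNR : ∀ g ∈ N, ∀ r ∈ R, g * r * g⁻¹ ∈ R :=
    (Subgroup.le_normalizer_iff).mp hnorm
  have hDR : ∀ d ∈ D, ∀ r ∈ R, d * r * d⁻¹ ∈ R := fun d hd => hNR d (hDN hd)
  -- step 1: `R ⊓ N ≤ D`
  have hR₀ : R ⊓ N ≤ D := by
    have hnormal : ((R ⊓ N).subgroupOf N).Normal := by
      constructor
      intro x hx g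
      rw [Subgroup.mem_subgroupOf] at hx ⊢
      refine ⟨?_, N.mul_mem (N.mul_mem g.2 x.2) (N.inv_mem g.2)⟩
      have := hNR g g.2 x hx.1
      simpa using this
    have hp : IsPGroup p ((R ⊓ N).subgroupOf N) :=
      (hR.to_le inf_le_left).comap_subtype
    have hle : (R ⊓ N).subgroupOf N ≤ Cfsg.pCore p ↥N := le_sSup ⟨hnormal, hp⟩
    intro x hx
    rw [← hrad]
    exact ⟨⟨x, hx.2⟩, hle (Subgroup.mem_subgroupOf.mpr hx), rfl⟩
  by_contra hRD
  obtain ⟨r₀, hr₀R, hr₀D⟩ := SetLike.not_le_iff_exists.mp hRD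
  -- step 2: `Q = D ⊔ R` is a `p`-group, hence nilpotent
  set Q : Subgroup G := D ⊔ R with hQ
  have hQp : IsPGroup p Q :=
    IsPGroup.to_sup_of_normal_right' hD hR ((Subgroup.le_normalizer_iff).mpr hDR)
  have hDQ : D ≤ Q := le_sup_left
  have hRQ : R ≤ Q := le_sup_right
  have : Group.IsNilpotent ↥Q := hQp.isNilpotent
  have hlt : D.subgroupOf Q < ⊤ := by
    rw [lt_top_iff_ne_top]
    intro htop
    apply hr₀D
    have : (⟨r₀, hRQ hr₀R⟩ : ↥Q) ∈ D.subgroupOf Q := by rw [htop]; trivial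
    exact Subgroup.mem_subgroupOf.mp this
  have hnc := Group.normalizerCondition_of_isNilpotent (G := ↥Q) (D.subgroupOf Q) hlt
  obtain ⟨y', hy'N, hy'D⟩ := SetLike.exists_of_lt hnc
  -- step 3: `y` normalises `D`
  have hyinv : y'⁻¹ ∈ Subgroup.normalizer ((D.subgroupOf Q : Subgroup ↥Q) : Set ↥Q) :=
    Subgroup.inv_mem _ hy'N
  have hconj : ∀ d ∈ D, (y' : G) * d * (y' : G)⁻¹ ∈ D := by
    intro d hd
    have h1 := ((Subgroup.mem_normalizer_iff).mp hy'N ⟨d, hDQ hd⟩).mp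
      (Subgroup.mem_subgroupOf.mpr hd)
    exact Subgroup.mem_subgroupOf.mp h1
  have hconj' : ∀ d ∈ D, (y' : G)⁻¹ * d * (y' : G) ∈ D := by
    intro d hd
    have h1 := ((Subgroup.mem_normalizer_iff).mp hyinv ⟨d, hDQ hd⟩).mp
      (Subgroup.mem_subgroupOf.mpr hd)
    have h2 := Subgroup.mem_subgroupOf.mp h1
    simpa using h2
  have hyN : (y' : G) ∈ N := by
    rw [hN, Subgroup.mem_normalizer_iff]
    intro h
    constructor
    · exact hconj h
    · intro hh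
      have := hconj' _ hh
      have e : (y' : G)⁻¹ * ((y' : G) * h * (y' : G)⁻¹) * (y' : G) = h := by group
      rw [e] at this
      exact this
  -- step 4: `y = d r` with `r ∈ R ⊓ N ≤ D`
  obtain ⟨d, hd, r, hr, hyd⟩ := exists_mul_of_mem_sup D R hDR y'.2
  have hrN : r ∈ N := by
    have : r = d⁻¹ * (y' : G) := by rw [hyd]; group
    rw [this]
    exact N.mul_mem (N.inv_mem (hDN hd)) hyN
  have hrD : r ∈ D := hR₀ ⟨hr, hrN⟩
  apply hy'D
  rw [Subgroup.mem_subgroupOf, hyd]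
  exact D.mul_mem hd hrD

end Cfsg.Agent.Lib.Helper77_DZ_RADGEN
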