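import Mathlib
import Cfsg.Prelude.Def_Characters
import Cfsg.Prelude.Def_ParabolicCharacters
import Cfsg.Prelude.Def_LinearParabolics
import Cfsg.Prelude.Def_Blocks
import Cfsg.Prelude.Def_Solvable
import Cfsg.Agent.Lib.Helper40_DefZeroDefs
import Cfsg.Agent.Lib.Helper40_SLBNDefs
import Cfsg.Agent.Lib.Helper40_SLBNDefs2

/-!
# DEFZERO market wave 2 (architect helper40), package SLFIXSP

The fixed space of a non-trivial `p`-subgroup of `SL_n(F)` (`char F = p`) is a proper non-zero subspace.
-/

set_option autoImplicit false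

namespace Cfsg.Agent.Lib.Helper77_DZ_SLFIXSP

open Cfsg Cfsg.Agent.Lib.Helper40_DefZeroDefs Cfsg.Agent.Lib.Helper40_SLBNDefs
open Matrix
open scoped MatrixGroups

variable {n : ℕ} {F : Type*} [Field F] [Fintype F] {p : ℕ} [Fact p.Prime] [CharP F p]

/-- SLFIXSP (size M). -/
theorem sl_fixSp (D : Subgroup (SpecialLinearGroup (Fin n) F)) (hD : IsPGroup p D) (hne : D ≠ ⊥) :
    fixSp D ≠ ⊥ ∧ fixSp D ≠ ⊤ := by
  classical
  constructor
  · -- a non-zero fixed vector by the fixed point congruence
    have hn : n ≠ 0 := by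
      rintro rfl
      apply hne
      rw [eq_bot_iff]
      intro d _
      rw [Subgroup.mem_bot]
      apply Matrix.SpecialLinearGroup.ext
      intro i
      exact i.elim0
    let act : MulAction ↥D (Fin n → F) :=
      { smul := fun d v => ((d : SpecialLinearGroup (Fin n) F) : Matrix (Fin n) (Fin n) F).mulVec v
        one_smul := fun v => sl_mulVec_one v
        mul_smul := fun a b v => sl_mulVec_mul (a : SpecialLinearGroup (Fin n) F) b v }
    have hsmul : ∀ (d : ↥D) (v : Fin n → F),
        d • v = ((d : SpecialLinearGroup (Fin n) F) : Matrix (Fin n) (Fin n) F).mulVec v :=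
      fun _ _ => rfl
    have hpF : p ∣ Fintype.card F := by
      obtain ⟨k, -, hk⟩ := FiniteField.card F p
      rw [hk]
      exact dvd_pow_self p (PNat.ne_zero k)
    have hcard : p ∣ Nat.card (Fin n → F) := by
      rw [Nat.card_eq_fintype_card, Fintype.card_fun, Fintype.card_fin]
      exact dvd_pow hpF hn
    have h0 : (0 : Fin n → F) ∈ MulAction.fixedPoints ↥D (Fin n → F) := by
      intro d
      rw [hsmul, Matrix.mulVec_zero]
    obtain ⟨b, hb, hb0⟩ := hD.exists_fixed_point_of_prime_dvd_card_of_fixed_point (Fin n → F) hcard h0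
    intro hbot
    have hbm : b ∈ fixSp D := by
      intro d hd
      have := hb ⟨d, hd⟩
      rw [hsmul] at this
      exact this
    rw [hbot, Submodule.mem_bot] at hbm
    exact hb0 hbm.symm
  · -- otherwise every element of `D` is the identity
    intro htop
    apply hne
    rw [eq_bot_iff]
    intro d hd
    rw [Subgroup.mem_bot]
    apply Matrix.SpecialLinearGroup.ext
    intro i j
    have hv : (Pi.single j 1 : Fin n → F) ∈ fixSp D := by
      rw [htop]; trivial
    have h1 := hv d hd
    have h2 := congrFun h1 i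
    rw [Matrix.mulVec_single_one] at h2
    rw [Matrix.SpecialLinearGroup.coe_one, Matrix.one_apply]
    simpa [Pi.single_apply, eq_comm] using h2

end Cfsg.Agent.Lib.Helper77_DZ_SLFIXSP
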