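import Mathlib
import Cfsg.Prelude.Def_Characters
import Cfsg.Prelude.Def_ParabolicCharacters
import Cfsg.Prelude.Def_LinearParabolics
import Cfsg.Prelude.Def_Blocks
import Cfsg.Prelude.Def_Solvable
import Cfsg.Agent.Lib.Helper40_DefZeroDefs
import Cfsg.Agent.Lib.Helper40_SLBNDefs
import Cfsg.Agent.Lib.Helper40_SLBNDefs2
import Cfsg.Agent.Lib.Helper78_FirstMainGT
import Cfsg.Agent.S0955
import Cfsg.Agent.S0956

/-!
# DEFZERO market, wave 2, package BLKCENTRAL (helper78)

If every `p`-regular element centralising a nontrivial radical `p`-subgroup is central, then the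
defect groups of the `p`-blocks are trivial or Sylow `p`-subgroups.
-/

set_option autoImplicit false
open Cfsg Cfsg.Agent.Lib.Helper40_DefZeroDefs Cfsg.Agent.Lib.Helper40_SLBNDefs
open Matrix
open scoped MatrixGroups

namespace Cfsg.Agent.Lib.Helper78_DZ_BLKCENTRAL

variable {G : Type*} [Group G] [Finite G] (p : ℕ) [Fact p.Prime] (M : Ideal Cfsg.AlgInt)

/-- BLKCENTRAL. -/
theorem blk_central (hM : Cfsg.IsPModular p M)
    (hrad : ∀ D : Subgroup G, IsPGroup p D → D ≠ ⊥ →
      (Cfsg.pCore p (Subgroup.normalizer (D : Set G))).map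
        (Subgroup.normalizer (D : Set G)).subtype = D →
      ∀ x ∈ Subgroup.centralizer (D : Set G), ¬ p ∣ orderOf x → x ∈ Subgroup.center G) :
    ∀ (B : Set (Cfsg.IrrCharacter G)) (D : Subgroup G), Cfsg.IsPBlock M B →
      Cfsg.IsDefectGroup p M B D → D = ⊥ ∨ Nat.card D = p ^ (Nat.card G).factorization p := by
  intro B D hB hD
  by_cases hbot : D = ⊥
  · exact Or.inl hbot
  right
  have hDp : IsPGroup p D := Cfsg.Agent.Lib.Helper78_FirstMainGT.isDefectGroup_isPGroup hD
  have hradD := Cfsg.Agent.S0955.result p M hM B hB D hD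
  obtain ⟨P, hDP⟩ := hDp.exists_le_sylow
  obtain ⟨x, hxreg, ⟨S, hS⟩, -⟩ := Cfsg.Agent.S0956.result p M hM B hB D hD P hDP
  have hxc : x ∈ Subgroup.centralizer (D : Set G) := by
    rw [Subgroup.mem_centralizer_iff]
    intro d hd
    have hd' : d ∈ (S : Subgroup (Subgroup.centralizer ({x} : Set G))).map
        (Subgroup.centralizer ({x} : Set G)).subtype := by rw [hS]; exact hd
    obtain ⟨c, -, rfl⟩ := hd'
    exact (Subgroup.mem_centralizer_iff.mp c.2 x rfl).symm
  have hxz : x ∈ Subgroup.center G := hrad D hDp hbot hradD x hxc hxreg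
  have htop : Subgroup.centralizer ({x} : Set G) = ⊤ := by
    rw [Subgroup.centralizer_eq_top_iff_subset]
    intro y hy
    rw [Set.mem_singleton_iff] at hy
    rw [hy]
    exact hxz
  have hcard : Nat.card D = Nat.card (S : Subgroup (Subgroup.centralizer ({x} : Set G))) := by
    rw [← hS]
    exact Subgroup.card_map_of_injective (Subgroup.subtype_injective _)
  rw [hcard, Sylow.card_eq_multiplicity S]
  rw [(Subgroup.card_eq_iff_eq_top _).mpr htop]

end Cfsg.Agent.Lib.Helper78_DZ_BLKCENTRAL
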