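import Mathlib
import Cfsg.Prelude.Def_Characters
import Cfsg.Prelude.Def_ParabolicCharacters
import Cfsg.Prelude.Def_LinearParabolics
import Cfsg.Prelude.Def_Blocks
import Cfsg.Prelude.Def_Solvable
import Cfsg.Agent.Lib.Helper40_DefZeroDefs
import Cfsg.Agent.Lib.Helper40_SLBNDefs
import Cfsg.Agent.Lib.Helper40_SLBNDefs2
import Cfsg.Agent.Lib.Helper44_PSLnUT
import Cfsg.Agent.Lib.Helper5_SLCard

set_option autoImplicit false
set_option linter.unusedSectionVars false
set_option linter.unusedVariables false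

/-!
# DefZero market wave 2 (architect helper40), package SLSTDEG

The `p`-part of `|SL_n(F)|` is `q^(n(n-1)/2)`.
-/

namespace Cfsg.Agent.Lib.Helper86_DZ_SLSTDEG

open Cfsg Cfsg.Agent.Lib.Helper40_DefZeroDefs Cfsg.Agent.Lib.Helper40_SLBNDefs
open Matrix
open scoped MatrixGroups

variable {n : ℕ} {F : Type*} [Field F] [Fintype F] {p : ℕ} [Fact p.Prime] [CharP F p]

/-- the exponent of `p` in `|SL_n(F)|`, for `|F| = p^f` -/
theorem sl_factorization {f : ℕ} (hF : Fintype.card F = p ^ f) :
    (Nat.card (SpecialLinearGroup (Fin n) F)).factorization p = f * ∑ i : Fin n, (i : ℕ) := by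
  have hp : p.Prime := Fact.out
  rcases Nat.eq_zero_or_pos n with h0 | hpos
  · subst h0
    have : Nat.card (SpecialLinearGroup (Fin 0) F) = 1 := by
      rw [Nat.card_eq_one_iff_unique]
      exact ⟨inferInstance, ⟨1⟩⟩
    rw [this]
    simp
  · have hGL := Cfsg.Agent.Lib.Helper5_SLCard.card_GL_eq_card_SL_mul (F := F) n hpos
    have hfac := Cfsg.Agent.Lib.Helper44_PSLnUT.factorization_card_GL (n := n) (F := F) hF
    have hq2 : 2 ≤ Fintype.card F := Fintype.one_lt_card
    have hq1 : Fintype.card F - 1 ≠ 0 := by omega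
    have hSL0 : Nat.card (SpecialLinearGroup (Fin n) F) ≠ 0 := Nat.card_pos.ne'
    have hndvd : ¬ p ∣ Fintype.card F - 1 := by
      intro hd
      have hf0 : f ≠ 0 := by
        rintro rfl
        rw [pow_zero] at hF
        omega
      have hpq : p ∣ Fintype.card F := by
        rw [hF]
        exact dvd_pow_self p hf0
      have h1 : p ∣ Fintype.card F - (Fintype.card F - 1) := Nat.dvd_sub hpq hd
      have h2 : Fintype.card F - (Fintype.card F - 1) = 1 := by omega
      rw [h2] at h1
      exact hp.one_lt.ne' (Nat.dvd_one.mp h1)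
    rw [hGL, Nat.factorization_mul hSL0 hq1, Finsupp.add_apply,
      Nat.factorization_eq_zero_of_not_dvd hndvd, add_zero] at hfac
    exact hfac

theorem sum_fin_id (n : ℕ) : ∑ i : Fin n, (i : ℕ) = n * (n - 1) / 2 := by
  rw [Fin.sum_univ_eq_sum_range (fun i => i) n, Finset.sum_range_id]

/-- the `p`-part of `|SL_n(F)|` as a power of `q`, with the exponent as a sum -/
theorem sl_ppart_sum :
    (Fintype.card F) ^ (∑ i : Fin n, (i : ℕ)) =
      p ^ (Nat.card (SpecialLinearGroup (Fin n) F)).factorization p := by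
  obtain ⟨f, -, hf⟩ := FiniteField.card F p
  rw [sl_factorization (n := n) (F := F) hf, hf, pow_mul]

/-- SLSTDEG. -/
theorem sl_stdeg :
    (Fintype.card F) ^ (n * (n - 1) / 2) =
      p ^ (Nat.card (SpecialLinearGroup (Fin n) F)).factorization p := by
  rw [← sum_fin_id n]
  exact sl_ppart_sum

end Cfsg.Agent.Lib.Helper86_DZ_SLSTDEG
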