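import Mathlib
import Cfsg.Prelude.Def_Characters
import Cfsg.Prelude.Def_ParabolicCharacters
import Cfsg.Prelude.Def_LinearParabolics
import Cfsg.Prelude.Def_Blocks
import Cfsg.Prelude.Def_Solvable
import Cfsg.Agent.Lib.Helper40_DefZeroDefs
import Cfsg.Agent.Lib.Helper40_SLBNDefs
import Cfsg.Agent.Lib.Helper40_SLBNDefs2
import Cfsg.Agent.Lib.Helper44_PSLnUT
import Cfsg.Agent.Lib.Helper86_DZ_SLSTDEG

set_option autoImplicit false
set_option linter.unusedSectionVars false
set_option linter.unusedVariables false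

/-!
# DefZero market wave 2 (architect helper40), package SLCARDU

`|U| = ` the `p`-part of `|SL_n(F)|`: `U = UL F lB` is the unitriangular group `Helper44_PSLnUT.UT n F`.
-/

namespace Cfsg.Agent.Lib.Helper86_DZ_SLCARDU

open Cfsg Cfsg.Agent.Lib.Helper40_DefZeroDefs Cfsg.Agent.Lib.Helper40_SLBNDefs
open Matrix
open scoped MatrixGroups

/-- `UL F lB` is the unitriangular subgroup -/
theorem UL_lB_eq_UT {n : ℕ} {F : Type*} [Field F] :
    UL F (lB : Fin n → ℕ) = Cfsg.Agent.Lib.Helper44_PSLnUT.UT n F := by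
  ext g
  rw [mem_UL, Cfsg.Agent.Lib.Helper44_PSLnUT.mem_UT]
  constructor
  · intro h
    refine ⟨fun i j hji => ?_, fun i => ?_⟩
    · have h1 := h i j (by
        show j.val ≤ i.val
        exact le_of_lt hji)
      have hne : i ≠ j := fun e => by rw [e] at hji; exact lt_irrefl _ hji
      rw [Matrix.sub_apply, Matrix.one_apply_ne hne, sub_zero] at h1
      exact h1
    · have h1 := h i i le_rfl
      rw [Matrix.sub_apply, Matrix.one_apply_eq] at h1
      exact sub_eq_zero.mp h1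
  · rintro ⟨h1, h2⟩ i j hji
    have hji' : j.val ≤ i.val := hji
    rw [Matrix.sub_apply]
    rcases eq_or_lt_of_le hji' with he | hlt
    · have : j = i := Fin.ext he
      subst this
      rw [h2, Matrix.one_apply_eq, sub_self]
    · have hne : i ≠ j := fun e => by rw [e] at hlt; exact lt_irrefl _ hlt
      rw [h1 i j hlt, Matrix.one_apply_ne hne, sub_zero]

variable {n : ℕ} {F : Type*} [Field F] [Fintype F] {p : ℕ} [Fact p.Prime] [CharP F p]

/-- `|U| = q^(n(n-1)/2)` -/
theorem sl_card_U_q :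
    Nat.card (UL F (lB : Fin n → ℕ)) = Fintype.card F ^ (n * (n - 1) / 2) := by
  rw [UL_lB_eq_UT, Cfsg.Agent.Lib.Helper44_PSLnUT.card_UT, Cfsg.Agent.Lib.Helper44_PSLnUT.card_Pos,
    Cfsg.Agent.Lib.Helper86_DZ_SLSTDEG.sum_fin_id]

/-- SLCARDU. -/
theorem sl_card_U :
    Nat.card (UL F (lB : Fin n → ℕ)) =
      p ^ (Nat.card (SpecialLinearGroup (Fin n) F)).factorization p := by
  rw [sl_card_U_q, Cfsg.Agent.Lib.Helper86_DZ_SLSTDEG.sl_stdeg]

end Cfsg.Agent.Lib.Helper86_DZ_SLCARDU
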