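import Mathlib
import Cfsg.Prelude.Def_Characters
import Cfsg.Prelude.Def_ParabolicCharacters
import Cfsg.Prelude.Def_LinearParabolics
import Cfsg.Prelude.Def_Blocks
import Cfsg.Prelude.Def_Solvable
import Cfsg.Agent.Lib.Helper40_DefZeroDefs
import Cfsg.Agent.Lib.Helper40_SLBNDefs
import Cfsg.Agent.Lib.Helper40_SLBNDefs2
import Cfsg.Agent.Lib.Helper86_DZ_SLSTDEG

set_option autoImplicit false
set_option linter.unusedSectionVars false
set_option linter.unusedVariables false

/-!
# DefZero market wave 2 (architect helper40), package SLPDVD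

`p` divides `|SL_n(F)|` for `n ≥ 2`.
-/

namespace Cfsg.Agent.Lib.Helper86_DZ_SLPDVD

open Cfsg Cfsg.Agent.Lib.Helper40_DefZeroDefs Cfsg.Agent.Lib.Helper40_SLBNDefs
open Matrix
open scoped MatrixGroups

variable {n : ℕ} {F : Type*} [Field F] [Fintype F] {p : ℕ} [Fact p.Prime] [CharP F p]

/-- SLPDVD. -/
theorem sl_pdvd (hn : 2 ≤ n) : p ∣ Nat.card (SpecialLinearGroup (Fin n) F) := by
  have hp : p.Prime := Fact.out
  have h1 := Cfsg.Agent.Lib.Helper86_DZ_SLSTDEG.sl_stdeg (n := n) (F := F) (p := p)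
  have hq2 : 2 ≤ Fintype.card F := Fintype.one_lt_card
  have hexp : 1 ≤ n * (n - 1) / 2 := by
    have h2 : 2 ≤ n * (n - 1) := by
      have : 1 ≤ n - 1 := by omega
      calc 2 = 2 * 1 := by norm_num
        _ ≤ n * (n - 1) := Nat.mul_le_mul hn this
    omega
  have hgt : 1 < Fintype.card F ^ (n * (n - 1) / 2) :=
    Nat.one_lt_pow (by omega) (by omega)
  apply Nat.dvd_of_factorization_pos
  intro h0
  rw [h0, pow_zero] at h1
  omega

end Cfsg.Agent.Lib.Helper86_DZ_SLPDVD
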