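import Mathlib
import Cfsg.Prelude.Def_Characters
import Cfsg.Prelude.Def_ParabolicCharacters
import Cfsg.Prelude.Def_LinearParabolics
import Cfsg.Prelude.Def_Blocks
import Cfsg.Prelude.Def_Solvable
import Cfsg.Agent.Lib.Helper40_DefZeroDefs
import Cfsg.Agent.Lib.Helper40_SLBNDefs
import Cfsg.Agent.Lib.Helper40_SLBNDefs2

/-!
# DEFZERO market wave 2 (architect helper40), package SLRADWN: `N(D)` normalises `radW (fixSp D)`.
-/

set_option autoImplicit false

namespace Cfsg.Agent.Lib.Helper88_DZ_SLRADWN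

open Cfsg Cfsg.Agent.Lib.Helper40_DefZeroDefs Cfsg.Agent.Lib.Helper40_SLBNDefs
open Matrix
open scoped MatrixGroups

variable {n : ℕ} {F : Type*} [Field F] [Fintype F] {p : ℕ} [Fact p.Prime] [CharP F p]

omit [Fintype F] [Fact p.Prime] [CharP F p] in
/-- an element of the normaliser of `D` maps the fixed space of `D` into itself -/
theorem fixSp_map (D : Subgroup (SpecialLinearGroup (Fin n) F)) (h : SpecialLinearGroup (Fin n) F)
    (hh : h ∈ Subgroup.normalizer (D : Set (SpecialLinearGroup (Fin n) F)))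
    (v : Fin n → F) (hv : v ∈ fixSp D) :
    (h : Matrix (Fin n) (Fin n) F).mulVec v ∈ fixSp D := by
  intro d hd
  have h1 : h⁻¹ * d * h ∈ D := by
    have := (Subgroup.mem_normalizer_iff.mp hh (h⁻¹ * d * h))
    rw [this]
    have e : h * (h⁻¹ * d * h) * h⁻¹ = d := by group
    rw [e]
    exact hd
  have h2 := hv _ h1
  have e : d * h = h * (h⁻¹ * d * h) := by group
  rw [← sl_mulVec_mul, e, sl_mulVec_mul, h2]

omit [Fintype F] [Fact p.Prime] [CharP F p] in
/-- conjugation by an element of the normaliser of `D` preserves `radW (fixSp D)` -/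
theorem conj_mem (D : Subgroup (SpecialLinearGroup (Fin n) F)) (h : SpecialLinearGroup (Fin n) F)
    (hh : h ∈ Subgroup.normalizer (D : Set (SpecialLinearGroup (Fin n) F)))
    (g : SpecialLinearGroup (Fin n) F) (hg : g ∈ radW (fixSp D)) :
    h * g * h⁻¹ ∈ radW (fixSp D) := by
  have hh' : h⁻¹ ∈ Subgroup.normalizer (D : Set (SpecialLinearGroup (Fin n) F)) :=
    Subgroup.inv_mem _ hh
  have hcancel : ∀ v : Fin n → F, (h : Matrix (Fin n) (Fin n) F).mulVec
      (((h⁻¹ : SpecialLinearGroup (Fin n) F) : Matrix (Fin n) (Fin n) F).mulVec v) = v := by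
    intro v
    rw [← sl_mulVec_mul, mul_inv_cancel, sl_mulVec_one]
  rw [mem_radW] at hg ⊢
  constructor
  · intro v
    set u := ((h⁻¹ : SpecialLinearGroup (Fin n) F) : Matrix (Fin n) (Fin n) F).mulVec v with hu
    have h1 := hg.1 u
    have h2 := fixSp_map D h hh _ h1
    rw [Matrix.mulVec_sub, hcancel v] at h2
    rw [sl_mulVec_mul, sl_mulVec_mul]
    exact h2
  · intro v hv
    have h1 := fixSp_map D h⁻¹ hh' v hv
    rw [sl_mulVec_mul, sl_mulVec_mul, hg.2 _ h1, hcancel v]

omit [Fintype F] [Fact p.Prime] [CharP F p] in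
theorem sl_radW_norm (D : Subgroup (SpecialLinearGroup (Fin n) F)) :
    Subgroup.normalizer (D : Set (SpecialLinearGroup (Fin n) F)) ≤
      Subgroup.normalizer ((radW (fixSp D) : Subgroup (SpecialLinearGroup (Fin n) F)) :
        Set (SpecialLinearGroup (Fin n) F)) := by
  intro h hh
  rw [Subgroup.mem_normalizer_iff]
  intro g
  constructor
  · exact conj_mem D h hh g
  · intro hg
    have hh' : h⁻¹ ∈ Subgroup.normalizer (D : Set (SpecialLinearGroup (Fin n) F)) :=
      Subgroup.inv_mem _ hh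
    have h1 := conj_mem D h⁻¹ hh' _ hg
    have e : h⁻¹ * (h * g * h⁻¹) * h⁻¹⁻¹ = g := by group
    rw [e] at h1
    exact h1

end Cfsg.Agent.Lib.Helper88_DZ_SLRADWN
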