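import Mathlib
import Cfsg.Prelude.Def_Characters
import Cfsg.Prelude.Def_ParabolicCharacters
import Cfsg.Prelude.Def_LinearParabolics
import Cfsg.Prelude.Def_Blocks
import Cfsg.Prelude.Def_Solvable
import Cfsg.Agent.Lib.Helper40_DefZeroDefs
import Cfsg.Agent.Lib.Helper40_SLBNDefs
import Cfsg.Agent.Lib.Helper40_SLBNDefs2

/-!
# DEFZERO market wave 2 (architect helper40), package SLRADWU: for the line `W` spanned by `e_0`,
`radW W` lies in the upper unitriangular group `UL F lB`.
-/

set_option autoImplicit false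

namespace Cfsg.Agent.Lib.Helper88_DZ_SLRADWU

open Cfsg Cfsg.Agent.Lib.Helper40_DefZeroDefs Cfsg.Agent.Lib.Helper40_SLBNDefs
open Matrix
open scoped MatrixGroups

variable {n : ℕ} {F : Type*} [Field F] [Fintype F] {p : ℕ} [Fact p.Prime] [CharP F p]

omit [Fintype F] [Fact p.Prime] [CharP F p] in
theorem sl_radW_le_U (hn : 2 ≤ n) :
    ∃ W : Submodule F (Fin n → F), W ≠ ⊥ ∧ W ≠ ⊤ ∧ radW W ≤ UL F (lB : Fin n → ℕ) := by
  classical
  set i0 : Fin n := ⟨0, by omega⟩ with hi0
  set i1 : Fin n := ⟨1, by omega⟩ with hi1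
  have h01 : i1 ≠ i0 := by
    intro e
    have := congrArg Fin.val e
    simp [hi0, hi1] at this
  set e0 : Fin n → F := Pi.single i0 1 with he0
  have hmemW : ∀ w : Fin n → F, w ∈ Submodule.span F {e0} → ∀ i, i ≠ i0 → w i = 0 := by
    intro w hw i hi
    obtain ⟨c, rfl⟩ := Submodule.mem_span_singleton.mp hw
    rw [Pi.smul_apply, he0, Pi.single_eq_of_ne hi, smul_zero]
  refine ⟨Submodule.span F {e0}, ?_, ?_, ?_⟩
  · intro hbot
    have h1 : e0 ∈ Submodule.span F {e0} := Submodule.subset_span rfl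
    rw [hbot, Submodule.mem_bot] at h1
    have h2 := congrFun h1 i0
    rw [he0, Pi.single_eq_same, Pi.zero_apply] at h2
    exact one_ne_zero h2
  · intro htop
    have h1 : (Pi.single i1 1 : Fin n → F) ∈ Submodule.span F {e0} := by
      rw [htop]; exact Submodule.mem_top
    have h2 := hmemW _ h1 i1 h01
    rw [Pi.single_eq_same] at h2
    exact one_ne_zero h2
  · intro g hg
    rw [mem_radW] at hg
    rw [mem_UL]
    intro i j hji
    have hji' : j.val ≤ i.val := hji
    have hent : ((g : Matrix (Fin n) (Fin n) F) - 1) i j =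
        ((g : Matrix (Fin n) (Fin n) F).mulVec (Pi.single j 1) - Pi.single j 1 : Fin n → F) i := by
      rw [Matrix.mulVec_single_one, Pi.sub_apply, Matrix.col_apply, Matrix.sub_apply,
        Matrix.one_apply, Pi.single_apply]
    rw [hent]
    by_cases hi : i = i0
    · have hj : j = i0 := by
        apply Fin.ext
        rw [hi] at hji'
        simp only [hi0] at hji' ⊢
        omega
      rw [hj, ← he0, hg.2 e0 (Submodule.subset_span rfl), sub_self, Pi.zero_apply]
    · exact hmemW _ (hg.1 _) i hi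

end Cfsg.Agent.Lib.Helper88_DZ_SLRADWU
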