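import Mathlib
import Cfsg.Prelude.Def_Characters
import Cfsg.Prelude.Def_ParabolicCharacters
import Cfsg.Prelude.Def_LinearParabolics
import Cfsg.Prelude.Def_Blocks
import Cfsg.Prelude.Def_Solvable
import Cfsg.Agent.Lib.Helper40_DefZeroDefs
import Cfsg.Agent.Lib.Helper40_SLBNDefs
import Cfsg.Agent.Lib.Helper40_SLBNDefs2
set_option autoImplicit false

/-!
DEFZERO wave 2, package SLUPROD (helper89, for helper40): `U = X_a Ua_a` in `SL_n(F)`.
-/

namespace Cfsg.Agent.Lib.Helper89_DZ_SLUPROD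

open Cfsg Cfsg.Agent.Lib.Helper40_DefZeroDefs Cfsg.Agent.Lib.Helper40_SLBNDefs
open Matrix
open scoped MatrixGroups

variable {n : ℕ} {F : Type*} [Field F] [Fintype F] {p : ℕ} [Fact p.Prime] [CharP F p]

/-- the root element `x_a(t)` -/
def xel (a : ℕ) (ha : a + 1 < n) (t : F) : SpecialLinearGroup (Fin n) F :=
  ⟨Matrix.transvection (⟨a, by omega⟩ : Fin n) ⟨a + 1, ha⟩ t,
    Matrix.det_transvection_of_ne _ _ (by
      intro h
      have := congrArg Fin.val h
      simp at this) t⟩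

omit [Fintype F] in
theorem xel_coe (a : ℕ) (ha : a + 1 < n) (t : F) :
    ((xel a ha t : SpecialLinearGroup (Fin n) F) : Matrix (Fin n) (Fin n) F) =
      Matrix.transvection (⟨a, by omega⟩ : Fin n) ⟨a + 1, ha⟩ t := rfl

omit [Fintype F] in
theorem xel_mem_Xs (a : ℕ) (ha : a + 1 < n) (t : F) : xel a ha t ∈ Xs F a :=
  Subgroup.subset_closure ⟨⟨a, by omega⟩, ⟨a + 1, ha⟩, t, rfl, rfl, rfl⟩

omit [Fintype F] in
theorem xel_mul (a : ℕ) (ha : a + 1 < n) (s t : F) :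
    xel a ha s * xel a ha t = xel a ha (s + t) := by
  apply Subtype.ext
  have h : ((xel a ha s * xel a ha t : SpecialLinearGroup (Fin n) F) : Matrix (Fin n) (Fin n) F) =
      (xel a ha s : Matrix (Fin n) (Fin n) F) * (xel a ha t : Matrix (Fin n) (Fin n) F) := rfl
  rw [h, xel_coe, xel_coe, xel_coe]
  apply Matrix.transvection_mul_transvection_same
  intro h
  have := congrArg Fin.val h
  simp at this

omit [Fintype F] in
theorem xel_zero (a : ℕ) (ha : a + 1 < n) : xel a ha (0 : F) = 1 := by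
  apply Subtype.ext
  rw [xel_coe, Matrix.transvection_zero]
  rfl

omit [Fintype F] in
theorem xel_inv (a : ℕ) (ha : a + 1 < n) (t : F) : (xel a ha t)⁻¹ = xel a ha (-t) := by
  rw [inv_eq_iff_mul_eq_one, xel_mul, add_neg_cancel, xel_zero]

omit [Fintype F] in
/-- `la a j ≤ la a i` iff `j ≤ i` or `(i, j) = (a, a + 1)` -/
theorem la_le_iff (a : ℕ) (i j : Fin n) :
    (la a : Fin n → ℕ) j ≤ la a i ↔ j.val ≤ i.val ∨ (i.val = a ∧ j.val = a + 1) := by
  unfold la
  split_ifs with h1 h2 h2 <;> omega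

omit [Fintype F] in
/-- entries of `x_a(t) * M` -/
theorem xel_mul_apply (a : ℕ) (ha : a + 1 < n) (t : F) (M : Matrix (Fin n) (Fin n) F)
    (i j : Fin n) :
    ((xel a ha t : Matrix (Fin n) (Fin n) F) * M) i j =
      M i j + (if i.val = a then t * M ⟨a + 1, ha⟩ j else 0) := by
  rw [xel_coe, Matrix.transvection, Matrix.add_mul, Matrix.one_mul, Matrix.add_apply]
  congr 1
  by_cases hi : i.val = a
  · have hi' : i = ⟨a, Nat.lt_of_succ_lt ha⟩ := Fin.ext hi
    subst hi'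
    rw [if_pos rfl, Matrix.single_mul_apply_same]
  · have hi' : (⟨a, by omega⟩ : Fin n) ≠ i := fun e => hi (by rw [← e])
    rw [if_neg hi, Matrix.single_mul_apply_of_ne _ _ _ _ _ hi'.symm]

omit [Fintype F] in
/-- the precise decomposition: `u = x_a(u_{a,a+1}) * v` with `v ∈ Ua_a` -/
theorem sl_U_prod_xel (a : ℕ) (ha : a + 1 < n) (u : SpecialLinearGroup (Fin n) F)
    (hu : u ∈ UL F (lB : Fin n → ℕ)) :
    (xel a ha (u.1 ⟨a, by omega⟩ ⟨a + 1, ha⟩))⁻¹ * u ∈ UL F (la a : Fin n → ℕ) := by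
  set t : F := u.1 ⟨a, by omega⟩ ⟨a + 1, ha⟩ with ht
  rw [mem_UL] at hu ⊢
  rw [xel_inv]
  have hcoe : ((xel a ha (-t) * u : SpecialLinearGroup (Fin n) F) : Matrix (Fin n) (Fin n) F) =
      (xel a ha (-t) : Matrix (Fin n) (Fin n) F) * (u : Matrix (Fin n) (Fin n) F) := rfl
  rw [hcoe]
  -- entries of `u`
  have hu0 : ∀ i j : Fin n, j.val < i.val → (u : Matrix (Fin n) (Fin n) F) i j = 0 := by
    intro i j hji
    have h1 := hu i j (le_of_lt hji)
    have hne : i ≠ j := fun e => by rw [e] at hji; exact lt_irrefl _ hji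
    rw [Matrix.sub_apply, Matrix.one_apply_ne hne, sub_zero] at h1
    exact h1
  have hu1 : ∀ i : Fin n, (u : Matrix (Fin n) (Fin n) F) i i = 1 := by
    intro i
    have h1 := hu i i le_rfl
    rw [Matrix.sub_apply, Matrix.one_apply_eq, sub_eq_zero] at h1
    exact h1
  intro i j hij
  rw [la_le_iff] at hij
  rw [Matrix.sub_apply, xel_mul_apply]
  rcases hij with hji | ⟨hi, hj⟩
  · -- `j ≤ i`
    have h1 := hu i j hji
    rw [Matrix.sub_apply] at h1
    by_cases hi : i.val = a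
    · rw [if_pos hi, hu0 ⟨a + 1, ha⟩ j (by simp; omega), mul_zero, add_zero]
      exact h1
    · rw [if_neg hi, add_zero]
      exact h1
  · have hi' : i = ⟨a, Nat.lt_of_succ_lt ha⟩ := Fin.ext hi
    have hj' : j = ⟨a + 1, ha⟩ := Fin.ext hj
    have hne : i ≠ j := fun e => by rw [e] at hi; omega
    rw [if_pos hi, Matrix.one_apply_ne hne, sub_zero]
    subst hi' hj'
    rw [hu1, mul_one, ← ht]
    ring

omit [Fintype F] in
theorem sl_U_prod (a : ℕ) (ha : a + 1 < n) :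
    ∀ u ∈ UL F (lB : Fin n → ℕ), ∃ x ∈ Xs F a, ∃ v ∈ UL F (la a : Fin n → ℕ), u = x * v := by
  intro u hu
  refine ⟨xel a ha (u.1 ⟨a, by omega⟩ ⟨a + 1, ha⟩), xel_mem_Xs a ha _,
    (xel a ha (u.1 ⟨a, by omega⟩ ⟨a + 1, ha⟩))⁻¹ * u, sl_U_prod_xel a ha u hu, ?_⟩
  rw [mul_inv_cancel_left]

end Cfsg.Agent.Lib.Helper89_DZ_SLUPROD
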