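import Mathlib
import Cfsg.Prelude.Def_Characters
import Cfsg.Prelude.Def_ParabolicCharacters
import Cfsg.Prelude.Def_LinearParabolics
import Cfsg.Prelude.Def_Blocks
import Cfsg.Prelude.Def_Solvable
import Cfsg.Agent.Lib.Helper40_DefZeroDefs
import Cfsg.Agent.Lib.Helper40_SLBNDefs
import Cfsg.Agent.Lib.Helper40_SLBNDefs2
import Cfsg.Agent.Lib.Helper89_DZ_SLUPROD
set_option autoImplicit false

/-!
DEFZERO wave 2, package SLCARDUA (helper89, for helper40): `|U| = q |Ua_a|` in `SL_n(F)`.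
-/

namespace Cfsg.Agent.Lib.Helper89_DZ_SLCARDUA

open Cfsg Cfsg.Agent.Lib.Helper40_DefZeroDefs Cfsg.Agent.Lib.Helper40_SLBNDefs
open Cfsg.Agent.Lib.Helper89_DZ_SLUPROD
open Matrix
open scoped MatrixGroups

variable {n : ℕ} {F : Type*} [Field F] [Fintype F] {p : ℕ} [Fact p.Prime] [CharP F p]

omit [Fintype F] in
/-- `Ua_a ≤ U` -/
theorem UL_la_le (a : ℕ) : UL F (la a : Fin n → ℕ) ≤ UL F (lB : Fin n → ℕ) := by
  intro g hg
  rw [mem_UL] at hg ⊢
  intro i j hij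
  apply hg i j
  rw [la_le_iff]
  exact Or.inl hij

omit [Fintype F] in
/-- `x_a(t) ∈ U` -/
theorem xel_mem_UL (a : ℕ) (ha : a + 1 < n) (t : F) : xel a ha t ∈ UL F (lB : Fin n → ℕ) := by
  rw [mem_UL]
  intro i j hij
  rw [xel_coe, Matrix.transvection, add_sub_cancel_left, Matrix.single_apply]
  rw [if_neg]
  rintro ⟨rfl, rfl⟩
  simp [lB] at hij

omit [Fintype F] in
/-- the `(a, a + 1)` entry of `x_a(t) * v`, `v ∈ Ua_a`, is `t` -/
theorem entry_xel_mul (a : ℕ) (ha : a + 1 < n) (t : F) (v : SpecialLinearGroup (Fin n) F)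
    (hv : v ∈ UL F (la a : Fin n → ℕ)) :
    ((xel a ha t * v : SpecialLinearGroup (Fin n) F) : Matrix (Fin n) (Fin n) F)
      ⟨a, Nat.lt_of_succ_lt ha⟩ ⟨a + 1, ha⟩ = t := by
  have hcoe : ((xel a ha t * v : SpecialLinearGroup (Fin n) F) : Matrix (Fin n) (Fin n) F) =
      (xel a ha t : Matrix (Fin n) (Fin n) F) * (v : Matrix (Fin n) (Fin n) F) := rfl
  rw [hcoe, xel_mul_apply, if_pos rfl]
  rw [mem_UL] at hv
  have h1 := hv ⟨a, Nat.lt_of_succ_lt ha⟩ ⟨a + 1, ha⟩ (by rw [la_le_iff]; exact Or.inr ⟨rfl, rfl⟩)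
  have hne : (⟨a, Nat.lt_of_succ_lt ha⟩ : Fin n) ≠ ⟨a + 1, ha⟩ := by
    intro h
    have := congrArg Fin.val h
    simp at this
  rw [Matrix.sub_apply, Matrix.one_apply_ne hne, sub_zero] at h1
  have h2 := hv ⟨a + 1, ha⟩ ⟨a + 1, ha⟩ le_rfl
  rw [Matrix.sub_apply, Matrix.one_apply_eq, sub_eq_zero] at h2
  rw [h1, h2, mul_one, zero_add]

theorem sl_card_Ua (a : ℕ) (ha : a + 1 < n) :
    Nat.card (UL F (lB : Fin n → ℕ)) = Fintype.card F * Nat.card (UL F (la a : Fin n → ℕ)) := by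
  let Φ : F × (UL F (la a : Fin n → ℕ)) → (UL F (lB : Fin n → ℕ)) := fun tv =>
    ⟨xel a ha tv.1 * (tv.2 : SpecialLinearGroup (Fin n) F),
      Subgroup.mul_mem _ (xel_mem_UL a ha tv.1) (UL_la_le a tv.2.2)⟩
  have hΦ : Function.Bijective Φ := by
    constructor
    · rintro ⟨t, v⟩ ⟨t', v'⟩ h
      have h1 : xel a ha t * (v : SpecialLinearGroup (Fin n) F) =
          xel a ha t' * (v' : SpecialLinearGroup (Fin n) F) := congrArg Subtype.val h
      have ht : t = t' := by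
        rw [← entry_xel_mul a ha t v v.2, ← entry_xel_mul a ha t' v' v'.2, h1]
      subst ht
      have hv : (v : SpecialLinearGroup (Fin n) F) = v' := mul_left_cancel h1
      exact Prod.ext rfl (Subtype.ext hv)
    · rintro ⟨u, hu⟩
      refine ⟨(u.1 ⟨a, Nat.lt_of_succ_lt ha⟩ ⟨a + 1, ha⟩,
        ⟨(xel a ha (u.1 ⟨a, Nat.lt_of_succ_lt ha⟩ ⟨a + 1, ha⟩))⁻¹ * u,
          sl_U_prod_xel a ha u hu⟩), ?_⟩
      apply Subtype.ext
      change xel a ha _ * ((xel a ha _)⁻¹ * u) = u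
      rw [mul_inv_cancel_left]
  rw [← Nat.card_congr (Equiv.ofBijective Φ hΦ), Nat.card_prod, Nat.card_eq_fintype_card]

end Cfsg.Agent.Lib.Helper89_DZ_SLCARDUA
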