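import Mathlib
import Cfsg.Prelude.Def_Characters
import Cfsg.Prelude.Def_ParabolicCharacters
import Cfsg.Prelude.Def_LinearParabolics
import Cfsg.Prelude.Def_Blocks
import Cfsg.Prelude.Def_Solvable
import Cfsg.Agent.Lib.Helper40_DefZeroDefs
import Cfsg.Agent.Lib.Helper40_SLBNDefs
import Cfsg.Agent.Lib.Helper40_SLBNDefs2
set_option autoImplicit false

/-!
DEFZERO wave 2, package SLCENREG (helper89, for helper40): central elements of `SL_n(F)` are `p`-regular.
-/

namespace Cfsg.Agent.Lib.Helper89_DZ_SLCENREG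

open Cfsg Cfsg.Agent.Lib.Helper40_DefZeroDefs Cfsg.Agent.Lib.Helper40_SLBNDefs
open Matrix
open scoped MatrixGroups

variable {n : ℕ} {F : Type*} [Field F] [Fintype F] {p : ℕ} [Fact p.Prime] [CharP F p]

theorem sl_cenreg (x : SpecialLinearGroup (Fin n) F)
    (hx : x ∈ Subgroup.center (SpecialLinearGroup (Fin n) F)) : ¬ p ∣ orderOf x := by
  have hp : p.Prime := Fact.out
  rcases Nat.eq_zero_or_pos n with h0 | hpos
  · subst h0
    have : x = 1 := Subsingleton.elim _ _
    rw [this, orderOf_one]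
    exact hp.one_lt.ne' ∘ Nat.dvd_one.mp
  obtain ⟨c, hc, hcx⟩ := Matrix.SpecialLinearGroup.mem_center_iff.mp hx
  have hc0 : c ≠ 0 := by
    rintro rfl
    rw [Fintype.card_fin, zero_pow hpos.ne'] at hc
    exact zero_ne_one hc
  -- `x ^ (q - 1) = 1`
  have hpow : x ^ (Fintype.card F - 1) = 1 := by
    apply Subtype.ext
    have h1 : ((x ^ (Fintype.card F - 1) : SpecialLinearGroup (Fin n) F) :
        Matrix (Fin n) (Fin n) F) = (x : Matrix (Fin n) (Fin n) F) ^ (Fintype.card F - 1) := rfl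
    have h2 : ((1 : SpecialLinearGroup (Fin n) F) : Matrix (Fin n) (Fin n) F) = 1 := rfl
    rw [h1, h2, ← hcx, ← map_pow, FiniteField.pow_card_sub_one_eq_one c hc0, map_one]
  have hdvd : orderOf x ∣ Fintype.card F - 1 := orderOf_dvd_of_pow_eq_one hpow
  intro hpx
  have hpq1 : p ∣ Fintype.card F - 1 := dvd_trans hpx hdvd
  obtain ⟨k, -, hk⟩ := FiniteField.card F p
  have hpq : p ∣ Fintype.card F := by
    rw [hk]
    exact dvd_pow_self p k.pos.ne'
  have hq1 : 1 ≤ Fintype.card F := Fintype.card_pos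
  have : p ∣ 1 := by
    have h3 : Fintype.card F = (Fintype.card F - 1) + 1 := by omega
    rw [h3] at hpq
    exact (Nat.dvd_add_right hpq1).mp hpq
  exact hp.one_lt.ne' (Nat.dvd_one.mp this)

end Cfsg.Agent.Lib.Helper89_DZ_SLCENREG
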