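import Mathlib
import Cfsg.Prelude.Def_Characters
import Cfsg.Prelude.Def_ParabolicCharacters
import Cfsg.Prelude.Def_LinearParabolics
import Cfsg.Prelude.Def_Blocks
import Cfsg.Prelude.Def_Solvable
import Cfsg.Agent.Lib.Helper40_DefZeroDefs
import Cfsg.Agent.Lib.Helper40_SLBNDefs
import Cfsg.Agent.Lib.Helper40_SLBNDefs2
set_option autoImplicit false

/-!
DEFZERO wave 2, package SLRADWP (helper89, for helper40): `radW W` is a `p`-group.
-/

namespace Cfsg.Agent.Lib.Helper89_DZ_SLRADWP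

open Cfsg Cfsg.Agent.Lib.Helper40_DefZeroDefs Cfsg.Agent.Lib.Helper40_SLBNDefs
open Matrix
open scoped MatrixGroups

variable {n : ℕ} {F : Type*} [Field F] [Fintype F] {p : ℕ} [Fact p.Prime] [CharP F p]

omit [Fintype F] [Fact p.Prime] [CharP F p] in
/-- powers of `1 + N` with `N * N = 0` -/
theorem one_add_pow_of_sq_zero (N : Matrix (Fin n) (Fin n) F) (hN : N * N = 0) (k : ℕ) :
    (1 + N) ^ k = 1 + (k : F) • N := by
  induction k with
  | zero => simp
  | succ k ih =>
    rw [pow_succ, ih, Matrix.add_mul, Matrix.mul_add, Matrix.mul_add, Matrix.one_mul, Matrix.mul_one,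
      Matrix.one_mul, Matrix.smul_mul, hN, smul_zero, add_zero, Nat.cast_succ, add_smul, one_smul]
    abel

omit [Fintype F] in
theorem sl_radW_pgroup (W : Submodule F (Fin n → F)) : IsPGroup p (radW W) := by
  intro g
  refine ⟨1, ?_⟩
  rw [pow_one]
  obtain ⟨g, hg⟩ := g
  rw [mem_radW] at hg
  apply Subtype.ext
  apply Subtype.ext
  change ((g ^ p : SpecialLinearGroup (Fin n) F) : Matrix (Fin n) (Fin n) F) = 1
  have hpow : ((g ^ p : SpecialLinearGroup (Fin n) F) : Matrix (Fin n) (Fin n) F) =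
      (g : Matrix (Fin n) (Fin n) F) ^ p := rfl
  rw [hpow]
  set N : Matrix (Fin n) (Fin n) F := (g : Matrix (Fin n) (Fin n) F) - 1 with hNdef
  have hNN : N * N = 0 := by
    apply Matrix.toLin'.injective
    apply LinearMap.ext
    intro v
    rw [Matrix.toLin'_apply, ← Matrix.mulVec_mulVec, map_zero, LinearMap.zero_apply]
    have h1 : N.mulVec v ∈ W := by
      rw [hNdef, Matrix.sub_mulVec, Matrix.one_mulVec]
      exact hg.1 v
    have h2 := hg.2 _ h1
    rw [hNdef, Matrix.sub_mulVec, Matrix.one_mulVec, ← hNdef, h2, sub_self]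
  have hg1 : (g : Matrix (Fin n) (Fin n) F) = 1 + N := by rw [hNdef]; abel
  rw [hg1, one_add_pow_of_sq_zero N hNN, CharP.cast_eq_zero F p, zero_smul, add_zero]

end Cfsg.Agent.Lib.Helper89_DZ_SLRADWP
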