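import Mathlib
import Cfsg.Prelude.Def_Characters
import Cfsg.Prelude.Def_ParabolicCharacters
import Cfsg.Prelude.Def_LinearParabolics
import Cfsg.Prelude.Def_Blocks
import Cfsg.Prelude.Def_Solvable
import Cfsg.Agent.Lib.Helper40_DefZeroDefs
import Cfsg.Agent.Lib.Helper40_SLBNDefs
import Cfsg.Agent.Lib.Helper40_SLBNDefs2
set_option autoImplicit false
open Cfsg Cfsg.Agent.Lib.Helper40_DefZeroDefs Cfsg.Agent.Lib.Helper40_SLBNDefs
open Matrix
open scoped MatrixGroups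

/-!
# DEFZERO wave 2, package SLNORMAL (architect helper40): `UL l` is normalised by `PL l`
-/

namespace Cfsg.Agent.Lib.Helper91_DZ_SLNORMAL

variable {n : ℕ} {F : Type*} [Field F] [Fintype F] {p : ℕ} [Fact p.Prime] [CharP F p]

omit [Fintype F] in
theorem sl_UL_normal (l : Fin n → ℕ) :
    ∀ g ∈ PL F l, ∀ u ∈ UL F l, g * u * g⁻¹ ∈ UL F l := by
  intro g hg u hu
  have hginv : g⁻¹ ∈ PL F l := (PL F l).inv_mem hg
  rw [mem_PL] at hg hginv
  rw [mem_UL] at hu ⊢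
  have h1 : ((g * u * g⁻¹ : SpecialLinearGroup (Fin n) F) : Matrix (Fin n) (Fin n) F) =
      (g : Matrix (Fin n) (Fin n) F) * (u : Matrix (Fin n) (Fin n) F) *
        ((g⁻¹ : SpecialLinearGroup (Fin n) F) : Matrix (Fin n) (Fin n) F) := rfl
  have h2 : (g : Matrix (Fin n) (Fin n) F) *
      ((g⁻¹ : SpecialLinearGroup (Fin n) F) : Matrix (Fin n) (Fin n) F) = 1 := by
    have h3 : ((g * g⁻¹ : SpecialLinearGroup (Fin n) F) : Matrix (Fin n) (Fin n) F) =
        (g : Matrix (Fin n) (Fin n) F) *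
          ((g⁻¹ : SpecialLinearGroup (Fin n) F) : Matrix (Fin n) (Fin n) F) := rfl
    rw [← h3, mul_inv_cancel]
    rfl
  have e : ((g * u * g⁻¹ : SpecialLinearGroup (Fin n) F) : Matrix (Fin n) (Fin n) F) - 1 =
      (g : Matrix (Fin n) (Fin n) F) * ((u : Matrix (Fin n) (Fin n) F) - 1) *
        ((g⁻¹ : SpecialLinearGroup (Fin n) F) : Matrix (Fin n) (Fin n) F) := by
    rw [h1, Matrix.mul_sub, Matrix.sub_mul, Matrix.mul_one, h2]
  rw [e]
  exact (StrictBT.bt_mul hg hu).mul_bt hginv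

end Cfsg.Agent.Lib.Helper91_DZ_SLNORMAL
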