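import Mathlib
import Cfsg.Prelude.Def_Characters
import Cfsg.Prelude.Def_ParabolicCharacters
import Cfsg.Prelude.Def_LinearParabolics
import Cfsg.Prelude.Def_Blocks
import Cfsg.Prelude.Def_Solvable
import Cfsg.Agent.Lib.Helper40_DefZeroDefs
import Cfsg.Agent.Lib.Helper40_SLBNDefs
import Cfsg.Agent.Lib.Helper40_SLBNDefs2

set_option autoImplicit false

/-!
DEFZERO market, wave 2 (architect helper40), package SLFPC: the permutation character of `GL_n(F)` on the cosets of
a parabolic subgroup, restricted to `SL_n(F)`, is the permutation character of `SL_n(F)` on the cosets of the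
preimage of the parabolic subgroup.

General fact `aux_card_fixedBy_comap`: for `f : K →* G` and `H ≤ G` with `G = f(K) H`, the map
`K ⧸ f⁻¹ H → G ⧸ H` is an equivariant bijection.
-/

namespace Cfsg.Agent.Lib.Helper99_DZ_SLFPC

open Cfsg Cfsg.Agent.Lib.Helper40_DefZeroDefs Cfsg.Agent.Lib.Helper40_SLBNDefs
open Matrix
open scoped MatrixGroups

/-- For `f : K →* G` and `H ≤ G` with `G = f(K) H`, the fixed cosets of `f s` on `G ⧸ H` correspond to the fixed
cosets of `s` on `K ⧸ f⁻¹ H`. -/
theorem aux_card_fixedBy_comap {K G : Type*} [Group K] [Group G] (f : K →* G) (H : Subgroup G)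
    (hsurj : ∀ g : G, ∃ k : K, ∃ h ∈ H, g = f k * h) (s : K) :
    Nat.card (MulAction.fixedBy (G ⧸ H) (f s)) = Nat.card (MulAction.fixedBy (K ⧸ H.comap f) s) := by
  symm
  let φ : K ⧸ H.comap f → G ⧸ H := Quotient.map' f (by
    intro a b hab
    rw [QuotientGroup.leftRel_apply] at hab ⊢
    rw [Subgroup.mem_comap, map_mul, map_inv] at hab
    exact hab)
  have hφ : ∀ k : K, φ (k : K ⧸ H.comap f) = ((f k : G) : G ⧸ H) := fun k => rfl
  have hinj : Function.Injective φ := by
    intro x y
    induction x using QuotientGroup.induction_on with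
    | H a =>
      induction y using QuotientGroup.induction_on with
      | H b =>
        intro h
        rw [hφ, hφ, QuotientGroup.eq] at h
        rw [QuotientGroup.eq, Subgroup.mem_comap, map_mul, map_inv]
        exact h
  have hsur : Function.Surjective φ := by
    intro y
    induction y using QuotientGroup.induction_on with
    | H g =>
      obtain ⟨k, h, hh, rfl⟩ := hsurj g
      refine ⟨(k : K ⧸ H.comap f), ?_⟩
      rw [hφ, QuotientGroup.eq]
      have : (f k)⁻¹ * (f k * h) = h := by group
      rw [this]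
      exact hh
  have hequi : ∀ x : K ⧸ H.comap f, φ (s • x) = f s • φ x := by
    intro x
    induction x using QuotientGroup.induction_on with
    | H a =>
      have h1 : s • (a : K ⧸ H.comap f) = ((s * a : K) : K ⧸ H.comap f) := rfl
      have h2 : f s • ((f a : G) : G ⧸ H) = ((f s * f a : G) : G ⧸ H) := rfl
      rw [h1, hφ, hφ, h2, map_mul]
  refine Nat.card_congr (Equiv.ofBijective
    (fun x : MulAction.fixedBy (K ⧸ H.comap f) s => (⟨φ x.1, ?_⟩ : MulAction.fixedBy (G ⧸ H) (f s))) ⟨?_, ?_⟩)
  · rw [MulAction.mem_fixedBy, ← hequi, x.2]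
  · intro x y hxy
    have : φ x.1 = φ y.1 := congrArg Subtype.val hxy
    exact Subtype.ext (hinj this)
  · intro y
    obtain ⟨x, hx⟩ := hsur y.1
    have hfix : s • x = x := by
      apply hinj
      rw [hequi, hx]
      exact y.2
    exact ⟨⟨x, hfix⟩, Subtype.ext hx⟩

variable {n : ℕ} {F : Type*} [Field F] [Fintype F] {p : ℕ} [Fact p.Prime] [CharP F p]

/-- Every invertible matrix is a matrix of determinant one times an invertible diagonal matrix. -/
theorem aux_gl_eq_sl_mul_diag {n : ℕ} {F : Type*} [Field F] (g : GL (Fin n) F) :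
    ∃ (s : SpecialLinearGroup (Fin n) F) (h : GL (Fin n) F), (∃ d : Fin n → F, (h : Matrix (Fin n) (Fin n) F) =
      Matrix.diagonal d) ∧ g = SpecialLinearGroup.toGL s * h := by
  rcases n with _ | n
  · refine ⟨1, 1, ⟨fun _ => 1, ?_⟩, ?_⟩
    · ext i
      exact i.elim0
    · apply Units.ext
      ext i
      exact i.elim0
  · have hdet : (g : Matrix (Fin (n + 1)) (Fin (n + 1)) F).det ≠ 0 := by
      have := g.isUnit
      rw [Matrix.isUnit_iff_isUnit_det] at this
      exact this.ne_zero
    let d : Fin (n + 1) → F := fun i => if i = 0 then (g : Matrix (Fin (n + 1)) (Fin (n + 1)) F).det else 1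
    have hd : (Matrix.diagonal d).det = (g : Matrix (Fin (n + 1)) (Fin (n + 1)) F).det := by
      rw [Matrix.det_diagonal, Finset.prod_eq_single (0 : Fin (n + 1))]
      · simp [d]
      · intro b _ hb
        simp [d, hb]
      · intro h
        exact absurd (Finset.mem_univ _) h
    have hdu : IsUnit (Matrix.diagonal d).det := by
      rw [hd]
      exact isUnit_iff_ne_zero.2 hdet
    let h : GL (Fin (n + 1)) F := Matrix.GeneralLinearGroup.mk'' (Matrix.diagonal d) hdu
    have hh : (h : Matrix (Fin (n + 1)) (Fin (n + 1)) F) = Matrix.diagonal d := rfl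
    have hdet1 : ((g * h⁻¹ : GL (Fin (n + 1)) F) : Matrix (Fin (n + 1)) (Fin (n + 1)) F).det = 1 := by
      have h1 : Matrix.GeneralLinearGroup.det (g * h⁻¹) = 1 := by
        rw [map_mul, map_inv]
        apply Units.ext
        rw [Units.val_mul, Units.val_inv_eq_inv_val, Matrix.GeneralLinearGroup.val_det_apply,
          Matrix.GeneralLinearGroup.val_det_apply, hh, hd, Units.val_one]
        exact mul_inv_cancel₀ hdet
      have h2 := congrArg Units.val h1
      rw [Matrix.GeneralLinearGroup.val_det_apply, Units.val_one] at h2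
      exact h2
    let s' : SpecialLinearGroup (Fin (n + 1)) F :=
      ⟨((g * h⁻¹ : GL (Fin (n + 1)) F) : Matrix (Fin (n + 1)) (Fin (n + 1)) F), hdet1⟩
    have hs' : (s' : Matrix (Fin (n + 1)) (Fin (n + 1)) F) =
      ((g * h⁻¹ : GL (Fin (n + 1)) F) : Matrix (Fin (n + 1)) (Fin (n + 1)) F) := rfl
    refine ⟨s', h, ⟨d, hh⟩, ?_⟩
    apply Units.ext
    rw [Units.val_mul, SpecialLinearGroup.coe_GL_coe_matrix, hs', ← Units.val_mul, inv_mul_cancel_right]

/-- SLFPC. -/
theorem sl_fpc (μ : Fin n → ℕ) (s : SpecialLinearGroup (Fin n) F) :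
    Cfsg.fixedPointCharacter (Cfsg.parabolicGL n F μ) (SpecialLinearGroup.toGL s) =
      Cfsg.fixedPointCharacter ((Cfsg.parabolicGL n F μ).comap SpecialLinearGroup.toGL) s := by
  unfold Cfsg.fixedPointCharacter
  congr 1
  apply aux_card_fixedBy_comap
  intro g
  obtain ⟨s', h, ⟨d, hd⟩, hg⟩ := aux_gl_eq_sl_mul_diag g
  refine ⟨s', h, ?_, hg⟩
  show (h : Matrix (Fin n) (Fin n) F).BlockTriangular (compLabel μ)
  rw [hd]
  exact Matrix.blockTriangular_diagonal d

end Cfsg.Agent.Lib.Helper99_DZ_SLFPC
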