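/-
helper40: SL_n(F) in the defining characteristic: the Steinberg character is the unique irreducible character of
p-defect zero, every p-block has defect zero or full defect (S4538), and the number of p-blocks (S2440).
Assembled from the DZ wave-2 packages.  See pending/helper40/DefZero_proof.md.
-/
import Mathlib
import Cfsg.Prelude.Def_Characters
import Cfsg.Prelude.Def_ParabolicCharacters
import Cfsg.Prelude.Def_LinearParabolics
import Cfsg.Prelude.Def_Blocks
import Cfsg.Agent.Lib.Helper40_DefZeroDefs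
import Cfsg.Agent.Lib.Helper40_DefZeroMain
import Cfsg.Agent.Lib.Helper40_SLBNDefs
import Cfsg.Agent.Lib.Helper40_SLBNDefs2
import Cfsg.Agent.Lib.Helper78_DZ_BLKCENTRAL
import Cfsg.Agent.Lib.Helper5_DZ_BLKCLASS
import Cfsg.Agent.Lib.Helper99_DZ_BLKCONJ
import Cfsg.Agent.Lib.Helper78_DZ_BLKCOUNT
import Cfsg.Agent.Lib.Helper3_DZ_BLKDICH
import Cfsg.Agent.Lib.Helper3_DZ_BLKDZ
import Cfsg.Agent.Lib.Helper77_DZ_RADGEN
import Cfsg.Agent.Lib.Helper11_DZ_SLBGEN
import Cfsg.Agent.Lib.Helper11_DZ_SLBRUHAT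
import Cfsg.Agent.Lib.Helper58_DZ_SLCARDP
import Cfsg.Agent.Lib.Helper86_DZ_SLCARDU
import Cfsg.Agent.Lib.Helper89_DZ_SLCARDUA
import Cfsg.Agent.Lib.Helper89_DZ_SLCENREG
import Cfsg.Agent.Lib.Helper58_DZ_SLCOMM
import Cfsg.Agent.Lib.Helper55_DZ_SLCOMMSC
import Cfsg.Agent.Lib.Helper12_DZ_SLCOVER
import Cfsg.Agent.Lib.Helper77_DZ_SLFIXSP
import Cfsg.Agent.Lib.Helper99_DZ_SLFPC
import Cfsg.Agent.Lib.Helper30_DZ_SLINCL
import Cfsg.Agent.Lib.Helper91_DZ_SLNORMAL
import Cfsg.Agent.Lib.Helper99_DZ_SLPARA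
import Cfsg.Agent.Lib.Helper86_DZ_SLPDVD
import Cfsg.Agent.Lib.Helper57_DZ_SLPREG
import Cfsg.Agent.Lib.Helper88_DZ_SLRADWN
import Cfsg.Agent.Lib.Helper89_DZ_SLRADWP
import Cfsg.Agent.Lib.Helper88_DZ_SLRADWU
import Cfsg.Agent.Lib.Helper86_DZ_SLSTDEG
import Cfsg.Agent.Lib.Helper52_DZ_SLTMEM
import Cfsg.Agent.Lib.Helper89_DZ_SLUPROD
import Cfsg.Agent.Lib.Helper81_StPSL
import Cfsg.Agent.Lib.Helper5_PSLCard
import Cfsg.Agent.S0914
import Cfsg.Agent.S0953

set_option autoImplicit false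
set_option linter.unusedSectionVars false

namespace Cfsg.Agent.Lib.Helper40_SLDefZero

open Cfsg Cfsg.Agent.Lib.Helper40_DefZeroDefs Cfsg.Agent.Lib.Helper40_SLBNDefs
open Matrix
open scoped MatrixGroups

variable {n : ℕ} {F : Type*} [Field F] [Fintype F] {p : ℕ} [Fact p.Prime] [CharP F p]

/-- the split BN-type data of `SL_n(F)` -/
theorem sl_dz : ∃ D : DZData (SpecialLinearGroup (Fin n) F) p (Fintype.card F) (Fin (n - 1)),
    D.B = PL F (lB : Fin n → ℕ) ∧ ∀ a : Fin (n - 1), D.P a = PL F (la a.val : Fin n → ℕ) := by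
  have ha : ∀ a : Fin (n - 1), a.val + 1 < n := fun a => by have := a.isLt; omega
  have hcov := fun a : Fin (n - 1) => Cfsg.Agent.Lib.Helper12_DZ_SLCOVER.sl_cover (F := F) a.val (ha a)
  choose nn hnn hcover using hcov
  refine ⟨{ U := UL F lB
            B := PL F lB
            P := fun a => PL F (la a.val)
            X := fun a => Xs F a.val
            Ua := fun a => UL F (la a.val)
            T := fun a => Ts F a.val
            n := nn
            hq := Fintype.one_lt_card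
            U_le_B := (Cfsg.Agent.Lib.Helper30_DZ_SLINCL.sl_incl (F := F) (n := n) 0).2.2.1
            card_U := Cfsg.Agent.Lib.Helper86_DZ_SLCARDU.sl_card_U
            U_normal := Cfsg.Agent.Lib.Helper91_DZ_SLNORMAL.sl_UL_normal lB
            comm_mem := Cfsg.Agent.Lib.Helper58_DZ_SLCOMM.sl_comm
            B_le_P := fun a => (Cfsg.Agent.Lib.Helper30_DZ_SLINCL.sl_incl (F := F) (n := n) a.val).1
            n_mem := hnn
            P_cover := hcover
            card_P := fun a => Cfsg.Agent.Lib.Helper58_DZ_SLCARDP.sl_card_P a.val (ha a)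
            X_le_U := fun a => (Cfsg.Agent.Lib.Helper30_DZ_SLINCL.sl_incl (F := F) (n := n) a.val).2.2.2 (ha a)
            Ua_le_U := fun a => (Cfsg.Agent.Lib.Helper30_DZ_SLINCL.sl_incl (F := F) (n := n) a.val).2.1
            Ua_normal := fun a => Cfsg.Agent.Lib.Helper91_DZ_SLNORMAL.sl_UL_normal (la a.val)
            U_prod := fun a => Cfsg.Agent.Lib.Helper89_DZ_SLUPROD.sl_U_prod a.val (ha a)
            card_Ua := fun a => Cfsg.Agent.Lib.Helper89_DZ_SLCARDUA.sl_card_Ua a.val (ha a)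
            bruhat := fun a => Cfsg.Agent.Lib.Helper11_DZ_SLBRUHAT.sl_bruhat a.val (ha a)
            T_mem := fun a => Cfsg.Agent.Lib.Helper52_DZ_SLTMEM.sl_T_mem a.val (ha a)
            B_gen := Cfsg.Agent.Lib.Helper11_DZ_SLBGEN.sl_B_gen }, rfl, fun _ => rfl⟩

/-- the Steinberg character is the only irreducible character of `p`-defect zero of `SL_n(F)` -/
theorem sl_unique (χ : SpecialLinearGroup (Fin n) F → ℂ)
    (hχ : Cfsg.IsIrrCharacter (SpecialLinearGroup (Fin n) F) χ)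
    (hdeg : ∃ d : ℕ, χ 1 = (d : ℂ) ∧
      p ^ (Nat.card (SpecialLinearGroup (Fin n) F)).factorization p ∣ d) :
    χ = Cfsg.Agent.Lib.Helper81_StPSL.stSL n F := by
  classical
  obtain ⟨D, hDB, hDP⟩ := sl_dz (n := n) (F := F) (p := p)
  have : Finite (SpecialLinearGroup (Fin n) F) :=
    Finite.of_injective _ Matrix.SpecialLinearGroup.toGL_injective
  refine Cfsg.Agent.Lib.Helper40_DefZeroMain.defect_zero_unique D χ hχ hdeg
    (Finset.univ.filter fun κ : Equiv.Perm (Fin n) => ∀ i : Fin n, (κ i).val ≤ 1 + i.val)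
    (fun κ => (Cfsg.parabolicGL n F fun i => 1 + i.val - (κ i).val).comap SpecialLinearGroup.toGL)
    (fun κ => (Equiv.Perm.sign κ : ℤ)) 1 ?_ ?_ ?_ ?_ _
    Cfsg.Agent.Lib.Helper81_StPSL.isIrr_stSL ?_
  · simp
  · rw [hDB]
    exact (Cfsg.Agent.Lib.Helper99_DZ_SLPARA.sl_para (F := F) (1 : Equiv.Perm (Fin n)) (by intro i; simp)).1 rfl
  · simp
  · intro κ hκ hne
    rw [Finset.mem_filter] at hκ
    obtain ⟨a, hle⟩ := (Cfsg.Agent.Lib.Helper99_DZ_SLPARA.sl_para (F := F) κ hκ.2).2 hne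
    exact ⟨a, by rw [hDP]; exact hle⟩
  · intro g
    unfold Cfsg.Agent.Lib.Helper81_StPSL.stSL Cfsg.unipotentCharacterGL
    rw [Finset.sum_filter]
    apply Finset.sum_congr rfl
    intro κ _
    split_ifs with h
    · rw [Cfsg.Agent.Lib.Helper99_DZ_SLFPC.sl_fpc]
    · rfl

/-- radical `p`-subgroups of `SL_n(F)`: `p`-regular elements of the centraliser are central -/
theorem sl_rad (D : Subgroup (SpecialLinearGroup (Fin n) F)) (hD : IsPGroup p D) (hne : D ≠ ⊥)
    (hrad : (Cfsg.pCore p (Subgroup.normalizer (D : Set (SpecialLinearGroup (Fin n) F)))).map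
      (Subgroup.normalizer (D : Set (SpecialLinearGroup (Fin n) F))).subtype = D)
    (x : SpecialLinearGroup (Fin n) F)
    (hx : x ∈ Subgroup.centralizer (D : Set (SpecialLinearGroup (Fin n) F)))
    (hreg : ¬ p ∣ orderOf x) : x ∈ Subgroup.center (SpecialLinearGroup (Fin n) F) := by
  have : Finite (SpecialLinearGroup (Fin n) F) :=
    Finite.of_injective _ Matrix.SpecialLinearGroup.toGL_injective
  obtain ⟨hW0, hW1⟩ := Cfsg.Agent.Lib.Helper77_DZ_SLFIXSP.sl_fixSp D hD hne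
  have hRD : radW (fixSp D) ≤ D :=
    Cfsg.Agent.Lib.Helper77_DZ_RADGEN.rad_gen p D (radW (fixSp D)) hD (Cfsg.Agent.Lib.Helper89_DZ_SLRADWP.sl_radW_pgroup (p := p) (fixSp D)) hrad (Cfsg.Agent.Lib.Helper88_DZ_SLRADWN.sl_radW_norm D)
  obtain ⟨c, hc⟩ := Cfsg.Agent.Lib.Helper55_DZ_SLCOMMSC.sl_comm_scalar (fixSp D) hW0 hW1 x (fun g hg =>
    (Subgroup.mem_centralizer_iff.1 hx g (hRD hg)))
  exact Cfsg.Agent.Lib.Helper57_DZ_SLPREG.sl_preg (p := p) x c hc hreg

/-- `p`-regular elements centralising the unitriangular group are central -/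
theorem sl_cenU (hn : 2 ≤ n) (x : SpecialLinearGroup (Fin n) F)
    (hx : x ∈ Subgroup.centralizer ((UL F (lB : Fin n → ℕ) :
      Subgroup (SpecialLinearGroup (Fin n) F)) : Set (SpecialLinearGroup (Fin n) F)))
    (hreg : ¬ p ∣ orderOf x) : x ∈ Subgroup.center (SpecialLinearGroup (Fin n) F) := by
  obtain ⟨W, hW0, hW1, hle⟩ := Cfsg.Agent.Lib.Helper88_DZ_SLRADWU.sl_radW_le_U (F := F) hn
  obtain ⟨c, hc⟩ := Cfsg.Agent.Lib.Helper55_DZ_SLCOMMSC.sl_comm_scalar W hW0 hW1 x (fun g hg =>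
    (Subgroup.mem_centralizer_iff.1 hx g (hle hg)))
  exact Cfsg.Agent.Lib.Helper57_DZ_SLPREG.sl_preg (p := p) x c hc hreg

/-- defect groups of `SL_n(F)` in the defining characteristic are trivial or Sylow -/
theorem sl_defect (M : Ideal Cfsg.AlgInt) (hM : Cfsg.IsPModular p M) :
    ∀ (B : Set (Cfsg.IrrCharacter (SpecialLinearGroup (Fin n) F)))
      (D : Subgroup (SpecialLinearGroup (Fin n) F)), Cfsg.IsPBlock M B →
      Cfsg.IsDefectGroup p M B D → D = ⊥ ∨
        Nat.card D = p ^ (Nat.card (SpecialLinearGroup (Fin n) F)).factorization p := by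
  have : Finite (SpecialLinearGroup (Fin n) F) :=
    Finite.of_injective _ Matrix.SpecialLinearGroup.toGL_injective
  exact Cfsg.Agent.Lib.Helper78_DZ_BLKCENTRAL.blk_central p M hM (fun D hD hne hrad x hx hreg => sl_rad D hD hne hrad x hx hreg)

/-- exactly one irreducible character of `p`-defect zero -/
theorem sl_card_dz :
    Nat.card {χ : Cfsg.IrrCharacter (SpecialLinearGroup (Fin n) F) //
      p ^ (Nat.card (SpecialLinearGroup (Fin n) F)).factorization p ∣
        Cfsg.charDegree (χ : SpecialLinearGroup (Fin n) F → ℂ)} = 1 := by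
  have : Finite (SpecialLinearGroup (Fin n) F) :=
    Finite.of_injective _ Matrix.SpecialLinearGroup.toGL_injective
  have hst : Cfsg.IsIrrCharacter (SpecialLinearGroup (Fin n) F)
      (Cfsg.Agent.Lib.Helper81_StPSL.stSL n F) := Cfsg.Agent.Lib.Helper81_StPSL.isIrr_stSL
  have key : ∀ χ : Cfsg.IrrCharacter (SpecialLinearGroup (Fin n) F),
      p ^ (Nat.card (SpecialLinearGroup (Fin n) F)).factorization p ∣
        Cfsg.charDegree (χ : SpecialLinearGroup (Fin n) F → ℂ) →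
      χ = ⟨_, hst⟩ := by
    intro χ hdvd
    obtain ⟨d, -, hd1, hd2, -⟩ := Cfsg.Agent.S0914.exists_degree χ
    apply Subtype.ext
    exact sl_unique (χ : SpecialLinearGroup (Fin n) F → ℂ) χ.2 ⟨d, hd1, by rw [← hd2]; exact hdvd⟩
  have hmem : p ^ (Nat.card (SpecialLinearGroup (Fin n) F)).factorization p ∣
      Cfsg.charDegree (Cfsg.Agent.Lib.Helper81_StPSL.stSL n F) := by
    obtain ⟨d, -, hd1, hd2, -⟩ := Cfsg.Agent.S0914.exists_degree
      (⟨_, hst⟩ : Cfsg.IrrCharacter (SpecialLinearGroup (Fin n) F))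
    change Cfsg.Agent.Lib.Helper81_StPSL.stSL n F 1 = d at hd1
    change Cfsg.charDegree (Cfsg.Agent.Lib.Helper81_StPSL.stSL n F) = d at hd2
    rw [hd2]
    rw [Cfsg.Agent.Lib.Helper81_StPSL.stSL_one] at hd1
    have : d = Fintype.card F ^ (n * (n - 1) / 2) := by exact_mod_cast hd1.symm
    rw [this, Cfsg.Agent.Lib.Helper86_DZ_SLSTDEG.sl_stdeg (p := p)]
  rw [Nat.card_eq_one_iff_unique]
  refine ⟨⟨fun a b => ?_⟩, ⟨⟨⟨_, hst⟩, hmem⟩⟩⟩
  apply Subtype.ext
  rw [key a.1 a.2, key b.1 b.2]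

/-- S4538 -/
theorem s4538 (M : Ideal Cfsg.AlgInt) (hM : Cfsg.IsPModular p M) :
    Nat.card {B : Set (Cfsg.IrrCharacter (Matrix.SpecialLinearGroup (Fin n) F)) //
      Cfsg.IsPBlock M B ∧ Cfsg.blockDefect p B = 0} = 1 ∧
    ∀ B : Set (Cfsg.IrrCharacter (Matrix.SpecialLinearGroup (Fin n) F)), Cfsg.IsPBlock M B →
      Cfsg.blockDefect p B = 0 ∨
        Cfsg.blockDefect p B = (Nat.card (Matrix.SpecialLinearGroup (Fin n) F)).factorization p := by
  have : Finite (SpecialLinearGroup (Fin n) F) :=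
    Finite.of_injective _ Matrix.SpecialLinearGroup.toGL_injective
  exact ⟨by rw [Cfsg.Agent.Lib.Helper3_DZ_BLKDZ.blk_dz_count p M hM, sl_card_dz], Cfsg.Agent.Lib.Helper3_DZ_BLKDICH.blk_dich p M hM (sl_defect M hM)⟩

/-- number of blocks of `SL_n(F)` -/
theorem sl_card_blocks (hn : 2 ≤ n) (M : Ideal Cfsg.AlgInt) (hM : Cfsg.IsPModular p M) :
    Nat.card {B : Set (Cfsg.IrrCharacter (Matrix.SpecialLinearGroup (Fin n) F)) //
      Cfsg.IsPBlock M B} = Nat.gcd n (Fintype.card F - 1) + 1 := by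
  have : Finite (SpecialLinearGroup (Fin n) F) :=
    Finite.of_injective _ Matrix.SpecialLinearGroup.toGL_injective
  set P₀ : Sylow p (SpecialLinearGroup (Fin n) F) := Sylow.ofCard (UL F lB) Cfsg.Agent.Lib.Helper86_DZ_SLCARDU.sl_card_U with hP₀
  have hP₀c : (P₀ : Subgroup (SpecialLinearGroup (Fin n) F)) = UL F lB := Sylow.coe_ofCard _ _
  rw [Cfsg.Agent.Lib.Helper78_DZ_BLKCOUNT.blk_count p M hM (Cfsg.Agent.Lib.Helper86_DZ_SLPDVD.sl_pdvd hn) (sl_defect M hM) P₀, Cfsg.Agent.Lib.Helper3_DZ_BLKDZ.blk_dz_count p M hM, sl_card_dz,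
    Cfsg.Agent.S0953.result p M hM P₀, Cfsg.Agent.Lib.Helper5_DZ_BLKCLASS.blk_classcount p P₀ ?_ (fun x hx => Cfsg.Agent.Lib.Helper89_DZ_SLCENREG.sl_cenreg x hx),
    Cfsg.Agent.Lib.Helper5_PSLCard.card_center_SL n (by omega), Nat.gcd_comm, add_comm]
  intro x hx hreg
  rw [hP₀c] at hx
  exact sl_cenU hn x hx hreg

end Cfsg.Agent.Lib.Helper40_SLDefZero
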