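import Mathlib
import Cfsg.Agent.Lib.Helper40_ProjOrd
import Cfsg.Agent.Lib.Helper40_ProjOrd2
import Cfsg.Agent.Lib.Helper40_SpProj
import Cfsg.Agent.Lib.Helper40_UProj2
import Cfsg.Agent.Lib.Helper40_Palindromic

set_option autoImplicit false

/-!
Analysis of the minimal polynomial of a symplectic matrix: either there is a nontrivial
self-adjoint commuting idempotent, or the minimal polynomial is `f ^ c` with `f` self-reciprocal,
or it is `f ^ c * (recip f) ^ c` with `f` not self-reciprocal.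
-/

namespace Cfsg.Agent.Lib.Helper40_SpProj2

open Polynomial Cfsg.Agent.Lib.Helper40_ProjOrd Cfsg.Agent.Lib.Helper40_ProjOrd2
  Cfsg.Agent.Lib.Helper40_SpProj Cfsg.Agent.Lib.Helper40_UProj2 Cfsg.Agent.Lib.Helper40_Palindromic

section idem

variable {F : Type*} [Field F] {l : Type*} [Fintype l] [DecidableEq l]

/-- the dichotomy for a nontrivial idempotent which is a polynomial in a symplectic matrix -/
theorem dichotomy_sp {x : Matrix (l ⊕ l) (l ⊕ l) F} (hU : IsSpM x)
    (e : Matrix (l ⊕ l) (l ⊕ l) F) (hQ : ∃ Q : F[X], e = aeval x Q) (he : e * e = e) (he0 : e ≠ 0)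
    (he1 : e ≠ 1) :
    (∃ e' : Matrix (l ⊕ l) (l ⊕ l) F, e' * e' = e' ∧ adj e' = e' ∧ e' ≠ 0 ∧ e' ≠ 1 ∧
      Commute e' x) ∨ adj e = 1 - e := by
  obtain ⟨Q, rfl⟩ := hQ
  set e := aeval x Q with hedef
  set e' := adj e with he'def
  have hxx' : Commute x (adj x) := by
    show x * adj x = adj x * x
    rw [hU.mul_adj, hU]
  have he'Q : e' = aeval (adj x) Q := adj_aeval x Q
  have hcomm_ee' : Commute e e' := by
    rw [he'Q]
    exact commute_aeval_aeval hxx' _ _
  have hcomm_ex : Commute e x := commute_aeval x Q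
  have hcomm_e'x : Commute e' x := by
    rw [he'Q]
    exact (commute_aeval_right hxx' _).symm
  have he'idem : e' * e' = e' := by
    rw [he'def, ← adj_mul, he]
  have hctr_e' : adj e' = e := adj_adj e
  by_cases h0 : e * e' = 0
  · by_cases h1 : e + e' = 1
    · right
      rw [← h1]
      abel
    · left
      refine ⟨e + e', ?_, ?_, ?_, h1, hcomm_ex.add_left hcomm_e'x⟩
      · have h2 : e' * e = 0 := by rw [← hcomm_ee'.eq, h0]
        rw [mul_add, add_mul, add_mul, he, he'idem, h0, h2]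
        abel
      · rw [adj_add, hctr_e', add_comm]
      · intro h2
        apply he0
        have h3 : e * (e + e') = e := by rw [mul_add, he, h0, add_zero]
        rw [← h3, h2, mul_zero]
  · left
    refine ⟨e * e', ?_, ?_, h0, ?_, hcomm_ex.mul_left hcomm_e'x⟩
    · calc e * e' * (e * e') = e * (e' * e) * e' := by simp only [mul_assoc]
        _ = e * (e * e') * e' := by rw [hcomm_ee'.eq]
        _ = (e * e) * (e' * e') := by simp only [mul_assoc]
        _ = e * e' := by rw [he, he'idem]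
    · rw [adj_mul, hctr_e', hcomm_ee'.eq]
    · intro h1
      apply he1
      calc e = e * 1 := (mul_one e).symm
        _ = e * (e * e') := by rw [h1]
        _ = (e * e) * e' := by rw [mul_assoc]
        _ = 1 := by rw [he, h1]

end idem

section duality

variable {F : Type*} [Field F] {l : Type*} [Fintype l] [DecidableEq l]

/-- annihilators of adjoint idempotents correspond under `P ↦ reverse P` -/
theorem annih_dual_sp {x : Matrix (l ⊕ l) (l ⊕ l) F} (hU : IsSpM x)
    (e₁ e₂ : Matrix (l ⊕ l) (l ⊕ l) F) (h12 : adj e₁ = e₂) (hc₂ : Commute e₂ x) (P : F[X]) :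
    aeval x P * e₁ = 0 ↔ aeval x P.reverse * e₂ = 0 := by
  have hxx' : Commute x (adj x) := by
    show x * adj x = adj x * x
    rw [hU.mul_adj, hU]
  have h1 : aeval x P * e₁ = 0 ↔ e₂ * aeval (adj x) P = 0 := by
    rw [← h12, ← adj_aeval, ← adj_mul]
    constructor
    · intro h
      rw [h, adj_zero]
    · intro h
      have := congrArg adj h
      rwa [adj_adj, adj_zero] at this
  rw [h1, ← aeval_inv_mul_pow hU]
  set d := P.natDegree
  have hcomm : aeval (adj x) P * x ^ d * e₂ = e₂ * (aeval (adj x) P * x ^ d) := by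
    rw [aeval_inv_mul_pow hU]
    exact (commute_aeval_right hc₂ _).eq.symm
  rw [hcomm]
  constructor
  · intro h
    rw [← mul_assoc, h, zero_mul]
  · intro h
    have h2 : x ^ d * (adj x) ^ d = 1 := by rw [← hxx'.mul_pow, hU.mul_adj, one_pow]
    calc e₂ * aeval (adj x) P
        = e₂ * aeval (adj x) P * (x ^ d * (adj x) ^ d) := by rw [h2, mul_one]
      _ = (e₂ * (aeval (adj x) P * x ^ d)) * (adj x) ^ d := by simp only [mul_assoc]
      _ = 0 := by rw [h, zero_mul]

theorem minpoly_coeff_zero_ne_sp {x : Matrix (l ⊕ l) (l ⊕ l) F} (hU : IsSpM x) :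
    (minpoly F x).coeff 0 ≠ 0 := by
  intro h0
  have h1 : (X : F[X]) ∣ minpoly F x := X_dvd_iff.2 h0
  have h2 : (X : F[X]) ∣ x.charpoly := h1.trans (Matrix.minpoly_dvd_charpoly x)
  have h3 : x.charpoly.coeff 0 = 0 := X_dvd_iff.1 h2
  have h4 := Matrix.det_eq_sign_charpoly_coeff x
  rw [h3, mul_zero] at h4
  exact hU.det_ne_zero h4

omit [Fintype l] [DecidableEq l] in
theorem recip_of_dvd_reverse (g h : F[X]) (hh : h.Monic) (hg0 : g.coeff 0 ≠ 0)
    (h1 : h ∣ g.reverse) (hdeg : g.natDegree ≤ h.natDegree) : h = recip g := by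
  have h2 : h ∣ recip g := by
    unfold recip
    exact h1.mul_left _
  have h3 := eq_of_monic_of_dvd_of_natDegree_le hh (recip_monic g hg0) h2
    (by rw [recip_natDegree g hg0]; exact hdeg)
  exact h3.symm

/-- the minimal polynomial of a symplectic matrix is self-reciprocal -/
theorem recip_minpoly {x : Matrix (l ⊕ l) (l ⊕ l) F} (hU : IsSpM x) :
    recip (minpoly F x) = minpoly F x := by
  have h1 := (annih_dual_sp hU 1 1 adj_one (Commute.one_left x) (minpoly F x)).1
    (by rw [minpoly.aeval, zero_mul])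
  rw [mul_one, ← minpoly.dvd_iff] at h1
  exact (recip_of_dvd_reverse _ _ (minpoly.monic (Matrix.isIntegral x))
    (minpoly_coeff_zero_ne_sp hU) h1 le_rfl).symm

/-- the two factors of a swap type factorization are reciprocal to each other -/
theorem swap_dual_sp {x : Matrix (l ⊕ l) (l ⊕ l) F} (hU : IsSpM x) (g h : F[X])
    (hh : h.Monic) (hg0 : g.coeff 0 ≠ 0) (hh0 : h ≠ 0) (e : Matrix (l ⊕ l) (l ⊕ l) F)
    (hcomm : Commute e x)
    (hE2 : ∀ P : F[X], aeval x P * e = 0 ↔ g ∣ P)
    (hE3 : ∀ P : F[X], aeval x P * (1 - e) = 0 ↔ h ∣ P) (hswap : adj e = 1 - e) :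
    h = recip g := by
  have hswap' : adj (1 - e) = e := by
    rw [adj_sub, adj_one, hswap]
    abel
  have hcomm' : Commute (1 - e) x := (Commute.one_left x).sub_left hcomm
  have h1 : h ∣ g.reverse := by
    rw [← hE3]
    exact (annih_dual_sp hU e (1 - e) hswap hcomm' g).1 ((hE2 g).2 dvd_rfl)
  have h2 : g ∣ h.reverse := by
    rw [← hE2]
    exact (annih_dual_sp hU (1 - e) e hswap' hcomm h).1 ((hE3 h).2 dvd_rfl)
  have h3 : h.reverse ≠ 0 := by
    rw [Ne, reverse_eq_zero]
    exact hh0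
  have h4 : g.natDegree ≤ h.natDegree := by
    calc g.natDegree ≤ h.reverse.natDegree := natDegree_le_of_dvd h2 h3
      _ ≤ h.natDegree := reverse_natDegree_le _
  exact recip_of_dvd_reverse g h hh hg0 h1 h4

end duality

section cases

variable {F : Type*} [Field F] {l : Type*} [Fintype l] [DecidableEq l]

omit [Fintype l] [DecidableEq l] in
theorem recip_pow (g : F[X]) (k : ℕ) : recip (g ^ k) = (recip g) ^ k := by
  induction k with
  | zero =>
    rw [pow_zero, pow_zero]
    unfold recip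
    have : (1 : F[X]).reverse = 1 := by rw [← C_1, reverse_C]
    simp [this]
  | succ k ih => rw [pow_succ, recip_mul, ih, pow_succ]

/-- the trichotomy for the minimal polynomial of a symplectic matrix -/
theorem symplectic_cases [Nonempty l] {x : Matrix (l ⊕ l) (l ⊕ l) F} (hU : IsSpM x) :
    (∃ e : Matrix (l ⊕ l) (l ⊕ l) F, e * e = e ∧ adj e = e ∧ e ≠ 0 ∧ e ≠ 1 ∧ Commute e x) ∨
    (∃ (f : F[X]) (c : ℕ), f.Monic ∧ Irreducible f ∧ 1 ≤ c ∧ f.coeff 0 ≠ 0 ∧ recip f = f ∧
      minpoly F x = f ^ c) ∨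
    (∃ (f : F[X]) (c : ℕ), f.Monic ∧ Irreducible f ∧ 1 ≤ c ∧ f.coeff 0 ≠ 0 ∧ recip f ≠ f ∧
      minpoly F x = f ^ c * (recip f) ^ c) := by
  by_cases hA : ∃ e : Matrix (l ⊕ l) (l ⊕ l) F, e * e = e ∧ adj e = e ∧ e ≠ 0 ∧ e ≠ 1 ∧
      Commute e x
  · exact Or.inl hA
  right
  have hint : IsIntegral F x := Matrix.isIntegral x
  have hmonic : (minpoly F x).Monic := minpoly.monic hint
  have hne1 : minpoly F x ≠ 1 := minpoly.ne_one F x
  have hnu : ¬ IsUnit (minpoly F x) := fun hu => hne1 (hmonic.eq_one_of_isUnit hu)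
  have hμ0 : (minpoly F x).coeff 0 ≠ 0 := minpoly_coeff_zero_ne_sp hU
  obtain ⟨f, hfm, hfi, hfd⟩ := Polynomial.exists_monic_irreducible_factor _ hnu
  obtain ⟨c, h, hfh, hμ⟩ := WfDvdMonoid.max_power_factor hmonic.ne_zero hfi
  have hc : 1 ≤ c := by
    rcases Nat.eq_zero_or_pos c with rfl | hpos
    · rw [pow_zero, one_mul] at hμ
      rw [hμ] at hfd
      exact absurd hfd hfh
    · exact hpos
  have hf0 : f.coeff 0 ≠ 0 := by
    intro h0
    apply hμ0
    have h1 : (X : F[X]) ∣ f := X_dvd_iff.2 h0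
    exact X_dvd_iff.1 (h1.trans hfd)
  have hhm : h.Monic := by
    have h1 : (f ^ c * h).Monic := by rw [← hμ]; exact hmonic
    exact (hfm.pow c).of_mul_monic_left h1
  have hgnu : ¬ IsUnit (f ^ c) := by
    intro hu
    exact hfi.not_isUnit (isUnit_of_dvd_unit (dvd_pow_self f (by omega)) hu)
  have hdual : ∀ g : F[X], Irreducible g → g.Monic → g.coeff 0 ≠ 0 → ∀ k : ℕ,
      (recip g) ^ k = g ^ k → 1 ≤ k → recip g = g := by
    intro g hgi hgm hg0 k hk hk1
    have h1 : recip g ∣ g ^ k := by rw [← hk]; exact dvd_pow_self _ (by omega)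
    have h2 : recip g ∣ g := (irreducible_recip g hgi hg0).prime.dvd_of_dvd_pow h1
    exact eq_of_monic_of_associated (recip_monic g hg0) hgm
      ((irreducible_recip g hgi hg0).associated_of_dvd hgi h2)
  by_cases hh : IsUnit h
  · left
    have h1 : h = 1 := hhm.eq_one_of_isUnit hh
    rw [h1, mul_one] at hμ
    refine ⟨f, c, hfm, hfi, hc, hf0, ?_, hμ⟩
    have h2 := recip_minpoly hU
    rw [hμ, recip_pow] at h2
    exact hdual f hfi hfm hf0 c h2 hc
  · right
    have hcop1 : IsCoprime (f ^ c) h := ((hfi.coprime_iff_not_dvd).2 hfh).pow_left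
    obtain ⟨e₁, ⟨b₁, hb₁⟩, he₁, hE2₁, hE3₁⟩ := exists_idem x (f ^ c) h hμ hcop1
    have he₁0 : e₁ ≠ 0 := by
      intro h0
      apply hgnu
      apply isUnit_of_dvd_one
      rw [← hE2₁, h0, mul_zero]
    have he₁1 : e₁ ≠ 1 := by
      intro h0
      apply hh
      apply isUnit_of_dvd_one
      rw [← hE3₁, h0, sub_self, mul_zero]
    have hcomm₁ : Commute e₁ x := by rw [hb₁]; exact commute_aeval x _
    have hswap₁ : adj e₁ = 1 - e₁ := by
      rcases dichotomy_sp hU e₁ ⟨_, hb₁⟩ he₁ he₁0 he₁1 with h1 | h1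
      · exact absurd h1 hA
      · exact h1
    have hdualh : h = recip (f ^ c) := by
      have hg0 : (f ^ c).coeff 0 ≠ 0 := by
        intro h0
        apply hμ0
        rw [hμ, mul_coeff_zero, h0, zero_mul]
      exact swap_dual_sp hU (f ^ c) h hhm hg0 hhm.ne_zero e₁ hcomm₁ hE2₁ hE3₁ hswap₁
    rw [recip_pow] at hdualh
    refine ⟨f, c, hfm, hfi, hc, hf0, ?_, by rw [hμ, hdualh]⟩
    intro heq
    rw [hdualh, heq] at hcop1
    exact hgnu (isCoprime_self.1 hcop1)

end cases

end Cfsg.Agent.Lib.Helper40_SpProj2
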