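import Mathlib
import Cfsg.Agent.Lib.Helper40_ProjOrd
import Cfsg.Agent.Lib.Helper40_ProjOrd2
import Cfsg.Agent.Lib.Helper40_SpProj2
import Cfsg.Agent.Lib.Helper40_OrdPoly

set_option autoImplicit false

/-!
Bounds for the order of a symplectic matrix of odd order in terms of its minimal polynomial.
-/

namespace Cfsg.Agent.Lib.Helper40_SpProj3

open Polynomial Cfsg.Agent.Lib.Helper40_ProjOrd Cfsg.Agent.Lib.Helper40_ProjOrd2
  Cfsg.Agent.Lib.Helper40_SpProj Cfsg.Agent.Lib.Helper40_SpProj2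
  Cfsg.Agent.Lib.Helper40_Palindromic Cfsg.Agent.Lib.Helper40_OrdPoly

section general

variable {F : Type*} [Field F] {ι : Type*} [Fintype ι] [DecidableEq ι]

/-- the honest order of a matrix -/
def HasOrd (M : Matrix ι ι F) (a : ℕ) : Prop := ∀ j : ℕ, M ^ j = 1 ↔ a ∣ j

theorem hasOrd_of_hasPOrd {M : Matrix ι ι F} {a : ℕ} (h : HasPOrd M a) (h1 : M ^ a = 1) :
    HasOrd M a := by
  intro j
  constructor
  · intro hj
    rw [← h.iff, hj]
    exact isScalarMat_one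
  · rintro ⟨k, rfl⟩
    rw [pow_mul, h1, one_pow]

theorem pow_eq_one_iff_minpoly_dvd (M : Matrix ι ι F) (j : ℕ) :
    M ^ j = 1 ↔ minpoly F M ∣ X ^ j - 1 := by
  rw [minpoly.dvd_iff, map_sub, map_pow, aeval_X, map_one, sub_eq_zero]

/-- if the minimal polynomial divides `(X ^ L - 1) ^ (p ^ κ)` then the order divides `L p ^ κ` -/
theorem ord_dvd_of_minpoly_dvd (p : ℕ) [Fact p.Prime] [CharP F p] (M : Matrix ι ι F) {a : ℕ}
    (hM : HasOrd M a) (L κ : ℕ) (h : minpoly F M ∣ (X ^ L - 1) ^ p ^ κ) : a ∣ L * p ^ κ := by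
  rw [← hM, pow_eq_one_iff_minpoly_dvd, pow_mul]
  have h1 : ((X : F[X]) ^ L - 1) ^ p ^ κ = (X ^ L) ^ p ^ κ - 1 := by
    rw [sub_pow_char_pow, one_pow]
  rw [← h1]
  exact h

end general

section bounds

variable {F : Type*} [Field F] [Fintype F] {l : Type*} [Fintype l] [DecidableEq l]

/-- self-reciprocal type -/
theorem ord_dvd_selfrecip (p : ℕ) [Fact p.Prime] [CharP F p] (h2 : (2 : F) ≠ 0)
    (M : Matrix (l ⊕ l) (l ⊕ l) F) {a : ℕ} (hM : HasOrd M a) (hodd : Odd a) (f : F[X]) (c κ : ℕ)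
    (hfm : f.Monic) (hfi : Irreducible f) (h0 : f.coeff 0 ≠ 0) (hd : recip f = f)
    (hc : 1 ≤ c) (hμ : minpoly F M = f ^ c) (hκ : c ≤ p ^ κ) :
    (f = X - 1 ∧ a ∣ p ^ κ) ∨
      ∃ δ : ℕ, 1 ≤ δ ∧ f.natDegree = 2 * δ ∧ a ∣ (Fintype.card F ^ δ + 1) * p ^ κ := by
  rcases self_recip_cases f hfm hfi h0 hd with h | h | ⟨δ, hδ, hdeg, hdvd⟩
  · left
    refine ⟨h, ?_⟩
    have h1 := ord_dvd_of_minpoly_dvd p M hM 1 κ (by
      rw [hμ, h, pow_one]
      exact pow_dvd_pow _ hκ)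
    rwa [one_mul] at h1
  · exfalso
    have h1 : minpoly F M ∣ X ^ a - 1 := (pow_eq_one_iff_minpoly_dvd M a).1 ((hM a).2 dvd_rfl)
    have h3 : (X + 1 : F[X]) ∣ X ^ a - 1 := by
      rw [← h]
      exact (dvd_pow_self f (by omega)).trans (hμ ▸ h1)
    have h4 : (X + 1 : F[X]) = X - C (-1) := by rw [C_neg, C_1, sub_neg_eq_add]
    rw [h4, dvd_iff_isRoot, IsRoot, eval_sub, eval_pow, eval_X, eval_one, hodd.neg_one_pow] at h3
    apply h2
    have h5 : (2 : F) = -(-1 - 1) := by ring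
    rw [h5, h3, neg_zero]
  · right
    refine ⟨δ, hδ, hdeg, ?_⟩
    apply ord_dvd_of_minpoly_dvd p M hM _ κ
    rw [hμ]
    exact (pow_dvd_pow f hκ).trans (pow_dvd_pow_of_dvd hdvd _)

/-- swap type -/
theorem ord_dvd_swap (p : ℕ) [Fact p.Prime] [CharP F p]
    (M : Matrix (l ⊕ l) (l ⊕ l) F) {a : ℕ} (hM : HasOrd M a) (f : F[X]) (c κ : ℕ)
    (hfm : f.Monic) (hfi : Irreducible f) (h0 : f.coeff 0 ≠ 0) (hne : recip f ≠ f)
    (hμ : minpoly F M = f ^ c * (recip f) ^ c) (hκ : c ≤ p ^ κ) :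
    a ∣ (Fintype.card F ^ f.natDegree - 1) * p ^ κ := by
  have hq2 : 2 ≤ Fintype.card F := Fintype.one_lt_card
  have hδ : 1 ≤ f.natDegree := hfi.natDegree_pos
  have hL : 0 < Fintype.card F ^ f.natDegree - 1 := by
    have : 2 ^ 1 ≤ Fintype.card F ^ f.natDegree :=
      (Nat.pow_le_pow_left hq2 1).trans (Nat.pow_le_pow_right (by omega) hδ)
    omega
  have h1 := dvd_X_pow_card_pow_sub_one f hfm hfi h0
  have h2 := dvd_X_pow_sub_one_recip _ hL h1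
  have hcop : IsCoprime f (recip f) :=
    coprime_of_ne hfm (recip_monic f h0) hfi (irreducible_recip f hfi h0) (Ne.symm hne)
  apply ord_dvd_of_minpoly_dvd p M hM _ κ
  rw [hμ, ← mul_pow]
  exact (pow_dvd_pow _ hκ).trans (pow_dvd_pow_of_dvd (hcop.mul_dvd h1 h2) _)

end bounds

end Cfsg.Agent.Lib.Helper40_SpProj3
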