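import Mathlib
import Cfsg.Agent.Lib.Helper40_SpProj6
import Cfsg.Agent.Lib.Helper40_SpProj3
import Cfsg.Agent.Lib.Helper40_ProjOrd4
import Cfsg.Agent.Lib.Helper40_IsoSpecAbs

set_option autoImplicit false

/-!
The trichotomy for the element orders of `PSp_{2n}(q)`, `q` odd, with respect to the prime `2`.
-/

namespace Cfsg.Agent.Lib.Helper40_SpProj7

open Polynomial Module Cfsg.Agent.Lib.Helper40_ProjOrd Cfsg.Agent.Lib.Helper40_SpProj
  Cfsg.Agent.Lib.Helper40_SpProj2 Cfsg.Agent.Lib.Helper40_SpProj3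
  Cfsg.Agent.Lib.Helper40_SpProj4 Cfsg.Agent.Lib.Helper40_SpProj5 Cfsg.Agent.Lib.Helper40_SpProj6
  Cfsg.Agent.Lib.Helper40_ProjOrd4 Cfsg.Agent.Lib.Helper40_IsoSpecAbs
  Cfsg.Agent.Lib.Helper40_OrdPoly Cfsg.Agent.Lib.Helper40_Palindromic

universe v

section arith

theorem pow_add_one_coprime (p a δ : ℕ) (hp : p.Prime) (ha : 1 ≤ a) (hδ : 1 ≤ δ) :
    Nat.Coprime ((p ^ a) ^ δ + 1) p := by
  rw [Nat.coprime_comm, Nat.Prime.coprime_iff_not_dvd hp]
  intro h
  have h2 : p ∣ (p ^ a) ^ δ := by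
    rw [← pow_mul]
    exact dvd_pow_self p (by positivity)
  have h4 : p ∣ 1 := (Nat.dvd_add_right h2).1 h
  exact hp.one_lt.ne' (Nat.dvd_one.1 h4)

theorem pow_sub_one_coprime (p a δ : ℕ) (hp : p.Prime) (ha : 1 ≤ a) (hδ : 1 ≤ δ) :
    Nat.Coprime ((p ^ a) ^ δ - 1) p := by
  rw [Nat.coprime_comm, Nat.Prime.coprime_iff_not_dvd hp]
  intro h
  have h2 : p ∣ (p ^ a) ^ δ := by
    rw [← pow_mul]
    exact dvd_pow_self p (by positivity)
  have h3 : 1 ≤ (p ^ a) ^ δ := Nat.one_le_pow _ _ (pow_pos hp.pos _)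
  have h4 : p ∣ 1 := by
    have := (Nat.dvd_sub h2 h)
    rwa [Nat.sub_sub_self h3] at this
  exact hp.one_lt.ne' (Nat.dvd_one.1 h4)

theorem half_add_le (c δ n : ℕ) (hc : 1 ≤ c) (hδ : 1 ≤ δ) (h : c * δ ≤ n) :
    (c + 1) / 2 + δ ≤ n ∨ (c = 1 ∧ δ = n) := by
  rcases Nat.lt_or_ge c 2 with h1 | h1
  · have hc1 : c = 1 := by omega
    subst hc1
    rw [one_mul] at h
    rcases Nat.lt_or_ge δ n with h3 | h3
    · left
      omega
    · right
      exact ⟨rfl, by omega⟩
  · left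
    obtain ⟨c', rfl⟩ : ∃ c', c = c' + 2 := ⟨c - 2, by omega⟩
    have h3 : (c' + 2) * δ = c' * δ + 2 * δ := by ring
    have h4 : c' ≤ c' * δ := Nat.le_mul_of_pos_right _ (by omega)
    omega

theorem clog_two_mul_pred (p n : ℕ) (hp : p.Prime) (hpodd : Odd p) (hn : 2 ≤ n)
    (hex : ¬ ∃ j : ℕ, 2 * n - 1 = p ^ j) :
    Nat.clog p (2 * n) = Nat.clog p (2 * (n - 1)) := by
  rw [clog_pred_eq p (2 * n) hp.one_lt (by omega) hex]
  have hex' : ¬ ∃ j : ℕ, 2 * n - 1 - 1 = p ^ j := by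
    rintro ⟨j, hj⟩
    have h1 : Odd (p ^ j) := hpodd.pow
    rw [← hj, Nat.odd_iff] at h1
    omega
  rw [clog_pred_eq p (2 * n - 1) hp.one_lt (by omega) hex']
  congr 1
  omega

theorem dvd_of_dvd_two_mul {b T : ℕ} (hb : Odd b) (h : b ∣ 2 * T) : b ∣ T :=
  (Nat.Coprime.dvd_mul_left (Nat.coprime_two_right.2 hb)).1 h

theorem two_mul_dvd_of_even {b T : ℕ} (hb : Odd b) (h : b ∣ T) (hT : Even T) : 2 * b ∣ T :=
  Nat.Coprime.mul_dvd_of_dvd_of_dvd (Nat.coprime_two_left.2 hb) hT.two_dvd h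

end arith

section tri

variable {F : Type v} [Field F] [Fintype F]

/-- the trichotomy for the element orders of `PSp_{2n}(q)` -/
theorem tri_psp (p a n : ℕ) (hp : p.Prime) (ha : 1 ≤ a) (hF : Fintype.card F = p ^ a)
    (hodd : Odd (Fintype.card F)) (hn : 2 ≤ n) :
    ∃ T : ℕ, Tri (Spec (Cfsg.PSp n F)) 2 p T (∃ j : ℕ, 2 * n - 1 = p ^ j) := by
  have : Fact p.Prime := ⟨hp⟩
  have : CharP F p := charP_of_card p a hp hF
  have hpodd : Odd p := by
    rw [hF] at hodd
    exact (Nat.odd_pow_iff (by omega)).1 hodd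
  have hp2 : p ≠ 2 := by
    rintro rfl
    rw [Nat.odd_iff] at hpodd
    omega
  have h2 : (2 : F) ≠ 0 := by
    intro h
    have h1 : ((2 : ℕ) : F) = 0 := by exact_mod_cast h
    rw [CharP.cast_eq_zero_iff F p 2] at h1
    exact hp2 ((Nat.prime_dvd_prime_iff_eq hp Nat.prime_two).1 h1)
  have hfin : Finite (Matrix.symplecticGroup (Fin n) F) := finite_sp'
  have hS : ∀ b : ℕ, b ∈ Spec (Cfsg.PSp n F) ↔ InSpecSp (Fin n) F b :=
    fun b => mem_range_orderOf_psp_iff b
  have hq3 : 3 ≤ Fintype.card F := by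
    have h1 : 2 ≤ Fintype.card F := Fintype.one_lt_card
    rw [Nat.odd_iff] at hodd
    omega
  have hqn : Odd (Fintype.card F ^ n) := hodd.pow
  have hqn3 : 3 ≤ Fintype.card F ^ n := by
    calc 3 ≤ Fintype.card F := hq3
      _ = Fintype.card F ^ 1 := (pow_one _).symm
      _ ≤ Fintype.card F ^ n := Nat.pow_le_pow_right (by omega) (by omega)
  obtain ⟨T₁, hT₁⟩ : ∃ T₁ : ℕ, 2 * T₁ = Fintype.card F ^ n + 1 := by
    obtain ⟨k, hk⟩ := hqn
    exact ⟨k + 1, by omega⟩
  obtain ⟨T₂, hT₂, hT₂0, hT₁₂⟩ : ∃ T₂ : ℕ, 2 * T₂ = Fintype.card F ^ n - 1 ∧ 0 < T₂ ∧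
      T₁ = T₂ + 1 := ⟨T₁ - 1, by omega, by omega, by omega⟩
  have hT₁S : T₁ ∈ Spec (Cfsg.PSp n F) :=
    (hS _).2 (hasSpPOrd_T_add p h2 n (by omega) T₁ hT₁).inSpecSp
  have hT₂S : T₂ ∈ Spec (Cfsg.PSp n F) :=
    (hS _).2 (hasSpPOrd_T_sub p h2 n (by omega) T₂ hT₂0 hT₂).inSpecSp
  have h2S : 2 ∈ Spec (Cfsg.PSp n F) := by
    have h1 : HasSpOrd F 1 (p ^ 0) := by rw [pow_zero]; exact hasSpOrd_one 1
    have h3 := h1.twist p h2 (hasSpOrd_one (F := F) (n - 1)) le_rfl (by omega) odd_one hpodd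
    rw [pow_zero, Nat.lcm_one_right, mul_one, Nat.add_sub_cancel' (by omega)] at h3
    exact (hS _).2 h3.inSpecSp
  have : Nonempty (Fin n) := ⟨⟨0, by omega⟩⟩
  -- the pre-trichotomy
  have hpre : ∀ b ∈ Spec (Cfsg.PSp n F), Odd b → (2 * b ∈ Spec (Cfsg.PSp n F)) ∨ b ∣ T₁ ∨
      b ∣ T₂ ∨ ((∃ j : ℕ, 2 * n - 1 = p ^ j) ∧ ∃ k : ℕ, b = p ^ k) := by
    intro b hbS hbodd
    obtain ⟨M₀, hM₀sp, hM₀⟩ := (hS b).1 hbS
    obtain ⟨M, hMsp, hM, hMpow⟩ := exists_normalised hM₀sp hM₀ hbodd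
    have hord : HasOrd M b := hasOrd_of_hasPOrd hM hMpow
    have hdegle : (minpoly F M).natDegree ≤ 2 * n := by
      have h1 : (minpoly F M).natDegree ≤ M.charpoly.natDegree :=
        natDegree_le_of_dvd (Matrix.minpoly_dvd_charpoly M) (Matrix.charpoly_monic M).ne_zero
      rw [Matrix.charpoly_natDegree_eq_dim, Fintype.card_sum, Fintype.card_fin] at h1
      omega
    rcases symplectic_cases hMsp with ⟨e, he, hes, he0, he1, hcomm⟩ |
      ⟨f, c, hfm, hfi, hc, hf0, hfd, hμ⟩ | ⟨f, c, hfm, hfi, hc, hf0, hfne, hμ⟩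
    · left
      exact (hS _).2 (inSpecSp_two_mul_of_idempotent h2 M hMsp hM hbodd e he hes he0 he1 hcomm)
    · rcases ord_dvd_selfrecip p h2 M hord hbodd f c (Nat.clog p c) hfm hfi hf0 hfd hc hμ
        (Nat.le_pow_clog hp.one_lt c) with ⟨hfX, hdvd⟩ | ⟨δ, hδ, hdeg, hdvd⟩
      · -- unipotent
        have hc2n : c ≤ 2 * n := by
          rw [hμ, hfX, natDegree_pow, natDegree_X_sub_one, mul_one] at hdegle
          exact hdegle
        have hdvd' : b ∣ p ^ Nat.clog p (2 * n) :=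
          hdvd.trans (pow_dvd_pow p (Nat.clog_mono_right p hc2n))
        by_cases hex : ∃ j : ℕ, 2 * n - 1 = p ^ j
        · right; right; right
          obtain ⟨k, -, hk⟩ := (Nat.dvd_prime_pow hp).1 hdvd'
          exact ⟨hex, k, hk⟩
        · left
          rw [clog_two_mul_pred p n hp hpodd hn hex] at hdvd'
          have h3 := (hasSpOrd_unipotent (F := F) p h2 (n - 1) (by omega)).twist p h2
            (hasSpOrd_one (F := F) 1) (by omega) le_rfl odd_one hpodd
          rw [Nat.lcm_one_right, Nat.sub_add_cancel (by omega)] at h3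
          exact spec_dvd ((hS _).2 h3.inSpecSp) (Nat.mul_dvd_mul_left 2 hdvd')
      · -- self-reciprocal of degree `2 δ`
        have hcδ : c * δ ≤ n := by
          rw [hμ, natDegree_pow, hdeg] at hdegle
          have h1 : c * (2 * δ) = 2 * (c * δ) := by ring
          omega
        rcases half_add_le c δ n hc hδ hcδ with hfit | ⟨hc1, hδn⟩
        · left
          have hm₁ : 1 ≤ (c + 1) / 2 := by omega
          have hcm : c ≤ 2 * ((c + 1) / 2) := by omega
          have hdvd' : b ∣ (Fintype.card F ^ δ + 1) * p ^ Nat.clog p (2 * ((c + 1) / 2)) :=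
            hdvd.trans (Nat.mul_dvd_mul_left _ (pow_dvd_pow p (Nat.clog_mono_right p hcm)))
          have hcop : Nat.Coprime (Fintype.card F ^ δ + 1)
              (p ^ Nat.clog p (2 * ((c + 1) / 2))) := by
            rw [hF]
            exact (pow_add_one_coprime p a δ hp ha hδ).pow_right _
          have h1 := dvd_lcm_gcd_of_dvd_mul hcop hdvd'
          have hgodd : Odd (Nat.gcd b (Fintype.card F ^ δ + 1)) :=
            Odd.of_dvd_nat hbodd (Nat.gcd_dvd_left _ _)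
          have ht := (hasSpOrd_torus_add p h2 δ hδ _
            (Nat.gcd_dvd_right b (Fintype.card F ^ δ + 1))).pad (n - (c + 1) / 2 - δ)
          have h3 := (hasSpOrd_unipotent (F := F) p h2 ((c + 1) / 2) hm₁).twist p h2 ht hm₁
            (by omega) hgodd hpodd
          have hnn : (c + 1) / 2 + (δ + (n - (c + 1) / 2 - δ)) = n := by omega
          rw [hnn] at h3
          exact spec_dvd ((hS _).2 h3.inSpecSp) (Nat.mul_dvd_mul_left 2 h1)
        · right; left
          rw [hc1, Nat.clog_one_right, pow_zero, mul_one, hδn, ← hT₁] at hdvd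
          exact dvd_of_dvd_two_mul hbodd hdvd
    · -- swap type
      have hδ : 1 ≤ f.natDegree := hfi.natDegree_pos
      have hdm : (recip f).Monic := recip_monic f hf0
      have hcδ : c * f.natDegree ≤ n := by
        rw [hμ, natDegree_mul (pow_ne_zero _ hfm.ne_zero) (pow_ne_zero _ hdm.ne_zero),
          natDegree_pow, natDegree_pow, recip_natDegree f hf0] at hdegle
        omega
      have hdvd := ord_dvd_swap p M hord f c (Nat.clog p c) hfm hfi hf0 hfne hμ
        (Nat.le_pow_clog hp.one_lt c)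
      rcases half_add_le c f.natDegree n hc hδ hcδ with hfit | ⟨hc1, hδn⟩
      · left
        have hm₁ : 1 ≤ (c + 1) / 2 := by omega
        have hcm : c ≤ 2 * ((c + 1) / 2) := by omega
        have hdvd' : b ∣ (Fintype.card F ^ f.natDegree - 1) *
            p ^ Nat.clog p (2 * ((c + 1) / 2)) :=
          hdvd.trans (Nat.mul_dvd_mul_left _ (pow_dvd_pow p (Nat.clog_mono_right p hcm)))
        have hcop : Nat.Coprime (Fintype.card F ^ f.natDegree - 1)
            (p ^ Nat.clog p (2 * ((c + 1) / 2))) := by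
          rw [hF]
          exact (pow_sub_one_coprime p a _ hp ha hδ).pow_right _
        have h1 := dvd_lcm_gcd_of_dvd_mul hcop hdvd'
        have hgodd : Odd (Nat.gcd b (Fintype.card F ^ f.natDegree - 1)) :=
          Odd.of_dvd_nat hbodd (Nat.gcd_dvd_left _ _)
        have ht := (hasSpOrd_torus_sub p h2 f.natDegree hδ _
          (Nat.gcd_dvd_right b (Fintype.card F ^ f.natDegree - 1))).pad
          (n - (c + 1) / 2 - f.natDegree)
        have h3 := (hasSpOrd_unipotent (F := F) p h2 ((c + 1) / 2) hm₁).twist p h2 ht hm₁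
          (by omega) hgodd hpodd
        have hnn : (c + 1) / 2 + (f.natDegree + (n - (c + 1) / 2 - f.natDegree)) = n := by omega
        rw [hnn] at h3
        exact spec_dvd ((hS _).2 h3.inSpecSp) (Nat.mul_dvd_mul_left 2 h1)
      · right; right; left
        rw [hc1, Nat.clog_one_right, pow_zero, mul_one, hδn, ← hT₂] at hdvd
        exact dvd_of_dvd_two_mul hbodd hdvd
  have hodd_of : ∀ b : ℕ, ¬ 2 ∣ b → Odd b := fun b hb =>
    Nat.odd_iff.2 (Nat.two_dvd_ne_zero.1 hb)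
  rcases Nat.even_or_odd T₁ with hev | hod
  · -- `T₁` even, `T₂` odd
    refine ⟨T₂, ⟨fun b hb d hd => spec_dvd hb hd, fun b hb => spec_pos hb, Nat.prime_two, hp,
      Ne.symm hp2, hT₂S, h2S, ?_⟩⟩
    intro b hbS hrb
    have hbodd := hodd_of b hrb
    rcases hpre b hbS hbodd with h | h | h | h
    · exact Or.inl h
    · exact Or.inl (spec_dvd hT₁S (two_mul_dvd_of_even hbodd h hev))
    · exact Or.inr (Or.inl h)
    · exact Or.inr (Or.inr h)
  · -- `T₁` odd, `T₂` even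
    have hev : Even T₂ := by
      rw [hT₁₂] at hod
      rcases Nat.even_or_odd T₂ with h | h
      · exact h
      · exact absurd (h.add_odd odd_one) (by rw [Nat.not_even_iff_odd]; exact hod)
    refine ⟨T₁, ⟨fun b hb d hd => spec_dvd hb hd, fun b hb => spec_pos hb, Nat.prime_two, hp,
      Ne.symm hp2, hT₁S, h2S, ?_⟩⟩
    intro b hbS hrb
    have hbodd := hodd_of b hrb
    rcases hpre b hbS hbodd with h | h | h | h
    · exact Or.inl h
    · exact Or.inr (Or.inl h)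
    · exact Or.inl (spec_dvd hT₂S (two_mul_dvd_of_even hbodd h hev))
    · exact Or.inr (Or.inr h)

end tri

end Cfsg.Agent.Lib.Helper40_SpProj7
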