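import Mathlib
import Cfsg.Agent.Lib.Helper40_SylowLarge
import Cfsg.Agent.Lib.Helper5_SLCard

set_option autoImplicit false
open scoped MatrixGroups

namespace Cfsg.Agent.Lib.Helper40_SylowLargeSL

open Cfsg.Agent.Lib.Helper40_SylowLarge

/-- The number of degrees `2, …, n` of `SL_n` divisible by `e`. -/
theorem card_filter_Icc_two (n e : ℕ) (hn : 1 ≤ n) :
    ((Finset.Icc 2 n).filter (fun i => e ∣ i)).card + (if e = 1 then 1 else 0) = n / e := by
  rw [← Nat.Ioc_filter_dvd_card_eq_div n e]
  have h1 : Finset.Ioc 0 n = insert 1 (Finset.Icc 2 n) := by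
    ext x
    simp only [Finset.mem_Ioc, Finset.mem_Icc, Finset.mem_insert]
    omega
  rw [h1, Finset.filter_insert]
  have h2 : (1 : ℕ) ∉ (Finset.Icc 2 n).filter (fun i => e ∣ i) := by
    simp
  by_cases he : e = 1
  · subst he
    rw [if_pos rfl, if_pos (one_dvd 1), Finset.card_insert_of_notMem h2]
  · rw [if_neg he, if_neg (by rwa [Nat.dvd_one]), add_zero]

section lift
variable {F : Type*} [Field F] {n : ℕ}

/-- A homomorphism into `GL_n` with determinant-one values lifts to `SL_n`. -/
theorem exists_lift_SL {H : Type*} [Group H] (g : H →* GL (Fin n) F)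
    (hdet : ∀ x, (g x : Matrix (Fin n) (Fin n) F).det = 1) (hg : Function.Injective g) :
    ∃ g' : H →* Matrix.SpecialLinearGroup (Fin n) F, Function.Injective g' := by
  let g' : H → Matrix.SpecialLinearGroup (Fin n) F :=
    fun x => ⟨(g x : Matrix (Fin n) (Fin n) F), hdet x⟩
  have hval : ∀ x, (g' x : Matrix (Fin n) (Fin n) F) = (g x : Matrix (Fin n) (Fin n) F) :=
    fun x => rfl
  refine ⟨{ toFun := g', map_one' := ?_, map_mul' := ?_ }, ?_⟩
  · apply Subtype.ext
    rw [hval, map_one]
    rfl
  · intro x y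
    apply Subtype.ext
    rw [Matrix.SpecialLinearGroup.coe_mul, hval, hval, hval, map_mul]
    rfl
  intro x y hxy
  apply hg
  have := congrArg (fun s : Matrix.SpecialLinearGroup (Fin n) F => (s : Matrix (Fin n) (Fin n) F)) hxy
  exact Units.ext this

/-- The diagonal torus in `GL_n`. -/
noncomputable def diagGL (F : Type*) [Field F] (n : ℕ) : (Fin n → Fˣ) →* GL (Fin n) F :=
  (Units.map (Matrix.diagonalRingHom (Fin n) F).toMonoidHom).comp
    (MulEquiv.piUnits (M := fun _ : Fin n => F)).symm.toMonoidHom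

theorem diagGL_val (u : Fin n → Fˣ) :
    (diagGL F n u : Matrix (Fin n) (Fin n) F) = Matrix.diagonal (fun i => (u i : F)) := rfl

theorem diagGL_injective : Function.Injective (diagGL F n) := by
  intro u v h
  have h1 := congrArg (fun g : GL (Fin n) F => (g : Matrix (Fin n) (Fin n) F)) h
  simp only [diagGL_val] at h1
  have h2 := Matrix.diagonal_injective h1
  funext i
  exact Units.ext (congrFun h2 i)

/-- `(u_1, …, u_m) ↦ ((u_1 ⋯ u_m)⁻¹, u_1, …, u_m)`. -/
def consHom (G : Type*) [CommGroup G] (m : ℕ) : (Fin m → G) →* (Fin (m + 1) → G) where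
  toFun u := Fin.cons (∏ i, u i)⁻¹ u
  map_one' := by
    funext i
    refine Fin.cases ?_ (fun j => ?_) i <;> simp
  map_mul' u v := by
    funext i
    refine Fin.cases ?_ (fun j => ?_) i
    · simp [Finset.prod_mul_distrib, mul_comm]
    · simp

theorem consHom_injective (G : Type*) [CommGroup G] (m : ℕ) : Function.Injective (consHom G m) := by
  intro u v h
  funext j
  have := congrFun h j.succ
  simpa [consHom] using this

theorem prod_consHom (G : Type*) [CommGroup G] (m : ℕ) (u : Fin m → G) :
    ∏ i, consHom G m u i = 1 := by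
  rw [Fin.prod_univ_succ]
  simp [consHom]

end lift


section embed
variable {F : Type*} [Field F] [Fintype F] (r : ℕ) [Fact r.Prime]

/-- The homocyclic `r`-subgroup of `GL_n(q)` of rank `n / e`. -/
theorem exists_GL_embedding (n : ℕ) (hrq : ¬ r ∣ Fintype.card F) :
    ∃ ψ : (Fin (n / orderOf ((Fintype.card F : ℕ) : ZMod r)) → Multiplicative (ZMod
        (r ^ padicValNat r (Fintype.card F ^ orderOf ((Fintype.card F : ℕ) : ZMod r) - 1)))) →*
        GL (Fin n) F, Function.Injective ψ := by
  classical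
  have he0 : 0 < orderOf ((Fintype.card F : ℕ) : ZMod r) := orderOf_pos_of_not_dvd r hrq
  set e := orderOf ((Fintype.card F : ℕ) : ZMod r) with he
  set a := padicValNat r (Fintype.card F ^ e - 1) with ha
  obtain ⟨p, hp⟩ := CharP.exists F
  have := hp
  have : Fact p.Prime := ⟨CharP.char_is_prime F p⟩
  have : NeZero e := ⟨he0.ne'⟩
  have hfr : Module.finrank F (FiniteField.Extension F p e) = e := FiniteField.finrank_extension F p e
  have hKcard : Nat.card (FiniteField.Extension F p e)ˣ = Fintype.card F ^ e - 1 := by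
    rw [Nat.card_units, FiniteField.natCard_extension, Nat.card_eq_fintype_card]
  obtain ⟨f, hf⟩ := exists_zmod_embedding (G := (FiniteField.Extension F p e)ˣ) (N := r ^ a)
    (by rw [hKcard]; exact pow_padicValNat_dvd)
  obtain ⟨Φ, hΦ⟩ := exists_torus_embedding (F := F) (K := FiniteField.Extension F p e) (n / e) n
    (by rw [hfr]; exact Nat.mul_div_le n e)
  exact ⟨Φ.comp (f.compLeft (Fin (n / e))), hΦ.comp (Function.Injective.comp_left hf)⟩

theorem card_pi_zmod (k N : ℕ) [NeZero N] :
    Nat.card (Fin k → Multiplicative (ZMod N)) = N ^ k := by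
  rw [Nat.card_fun, Nat.card_eq_fintype_card (α := Fin k), Fintype.card_fin,
    Nat.card_eq_fintype_card, Fintype.card_multiplicative, ZMod.card]

theorem pow_eq_one_pi_zmod (k N : ℕ) [NeZero N] (x : Fin k → Multiplicative (ZMod N)) :
    x ^ (N ^ k) = 1 := by
  have := pow_card_eq_one' (G := Fin k → Multiplicative (ZMod N)) (x := x)
  rwa [card_pi_zmod] at this

/-- An `r`-power-order element of `Fˣ` is trivial when `r ∤ q - 1`. -/
theorem eq_one_of_pow_eq_one (hr1 : ¬ r ∣ Fintype.card F - 1) (d : Fˣ) (k : ℕ)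
    (hd : d ^ (r ^ k) = 1) : d = 1 := by
  have hr : r.Prime := Fact.out
  have h1 : d ^ (Fintype.card F - 1) = 1 := by
    have := pow_card_eq_one' (G := Fˣ) (x := d)
    rwa [Nat.card_units, Nat.card_eq_fintype_card] at this
  have hcop : Nat.Coprime (r ^ k) (Fintype.card F - 1) :=
    Nat.Coprime.pow_left _ ((Nat.Prime.coprime_iff_not_dvd hr).mpr hr1)
  have h2 : orderOf d ∣ Nat.gcd (r ^ k) (Fintype.card F - 1) :=
    Nat.dvd_gcd (orderOf_dvd_of_pow_eq_one hd) (orderOf_dvd_of_pow_eq_one h1)
  rw [hcop.gcd_eq_one, Nat.dvd_one, orderOf_eq_one_iff] at h2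
  exact h2

/-- Case `e ≠ 1`: the `GL_n` torus part already lies in `SL_n`. -/
theorem exists_SL_embedding_of_ne_one (n : ℕ) (hrq : ¬ r ∣ Fintype.card F)
    (he1 : orderOf ((Fintype.card F : ℕ) : ZMod r) ≠ 1) :
    ∃ ψ : (Fin (n / orderOf ((Fintype.card F : ℕ) : ZMod r)) → Multiplicative (ZMod
        (r ^ padicValNat r (Fintype.card F ^ orderOf ((Fintype.card F : ℕ) : ZMod r) - 1)))) →*
        Matrix.SpecialLinearGroup (Fin n) F, Function.Injective ψ := by
  classical
  have hr : r.Prime := Fact.out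
  obtain ⟨ψ, hψ⟩ := exists_GL_embedding (F := F) r n hrq
  have hq1 : 1 ≤ Fintype.card F := Fintype.card_pos
  have hr1 : ¬ r ∣ Fintype.card F - 1 := by
    intro h
    have := (dvd_pow_sub_one_iff r hq1 1).mp (by simpa using h)
    exact he1 (Nat.dvd_one.mp this)
  refine exists_lift_SL ψ (fun x => ?_) hψ
  have : NeZero (r ^ padicValNat r
      (Fintype.card F ^ orderOf ((Fintype.card F : ℕ) : ZMod r) - 1)) :=
    ⟨pow_ne_zero _ hr.ne_zero⟩
  have hx := pow_eq_one_pi_zmod _ _ x
  have hd : (Matrix.GeneralLinearGroup.det (ψ x)) ^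
      (r ^ (padicValNat r (Fintype.card F ^ orderOf ((Fintype.card F : ℕ) : ZMod r) - 1) *
        (n / orderOf ((Fintype.card F : ℕ) : ZMod r)))) = 1 := by
    rw [← map_pow, ← map_pow, pow_mul, hx, map_one, map_one]
  have := eq_one_of_pow_eq_one r hr1 _ _ hd
  have h2 := congrArg Units.val this
  simpa using h2

/-- Case `e = 1`: the diagonal torus of `SL_{m+1}`. -/
theorem exists_SL_embedding_of_eq_one (m : ℕ)
    (he1 : orderOf ((Fintype.card F : ℕ) : ZMod r) = 1) :
    ∃ ψ : (Fin m → Multiplicative (ZMod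
        (r ^ padicValNat r (Fintype.card F ^ orderOf ((Fintype.card F : ℕ) : ZMod r) - 1)))) →*
        Matrix.SpecialLinearGroup (Fin (m + 1)) F, Function.Injective ψ := by
  classical
  rw [he1, pow_one]
  have hcard : Nat.card Fˣ = Fintype.card F - 1 := by
    rw [Nat.card_units, Nat.card_eq_fintype_card]
  obtain ⟨f, hf⟩ := exists_zmod_embedding (G := Fˣ)
    (N := r ^ padicValNat r (Fintype.card F - 1)) (by rw [hcard]; exact pow_padicValNat_dvd)
  refine exists_lift_SL ((diagGL F (m + 1)).comp ((consHom Fˣ m).comp (f.compLeft (Fin m))))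
    (fun x => ?_) (diagGL_injective.comp ((consHom_injective Fˣ m).comp
      (Function.Injective.comp_left hf)))
  rw [MonoidHom.comp_apply, diagGL_val, Matrix.det_diagonal, ← Units.coe_prod, MonoidHom.comp_apply,
    prod_consHom, Units.val_one]

/-- The homocyclic `r`-subgroup of `SL_n(q)`. -/
theorem exists_SL_embedding (n : ℕ) (hrq : ¬ r ∣ Fintype.card F) :
    ∃ ψ : (Fin ((Finset.Icc 2 n).filter
        (fun i => orderOf ((Fintype.card F : ℕ) : ZMod r) ∣ i)).card → Multiplicative (ZMod
        (r ^ padicValNat r (Fintype.card F ^ orderOf ((Fintype.card F : ℕ) : ZMod r) - 1)))) →*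
        Matrix.SpecialLinearGroup (Fin n) F, Function.Injective ψ := by
  classical
  rcases Nat.eq_zero_or_pos n with hn | hn
  · subst hn
    have hc : ((Finset.Icc 2 0).filter
        (fun i => orderOf ((Fintype.card F : ℕ) : ZMod r) ∣ i)).card = 0 := by simp
    have : IsEmpty (Fin ((Finset.Icc 2 0).filter
        (fun i => orderOf ((Fintype.card F : ℕ) : ZMod r) ∣ i)).card) := by
      rw [hc]; infer_instance
    exact ⟨1, Function.injective_of_subsingleton _⟩
  · have hc := card_filter_Icc_two n (orderOf ((Fintype.card F : ℕ) : ZMod r)) hn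
    obtain ⟨c, hcdef⟩ : ∃ c, c = ((Finset.Icc 2 n).filter
        (fun i => orderOf ((Fintype.card F : ℕ) : ZMod r) ∣ i)).card := ⟨_, rfl⟩
    rw [← hcdef] at hc ⊢
    by_cases he1 : orderOf ((Fintype.card F : ℕ) : ZMod r) = 1
    · rw [if_pos he1, he1, Nat.div_one] at hc
      subst hc
      exact exists_SL_embedding_of_eq_one r c he1
    · rw [if_neg he1, add_zero] at hc
      subst hc
      exact exists_SL_embedding_of_ne_one r n hrq he1

/-- The `r`-part of `|SL_n(q)|` for `n < r`. -/
theorem factorization_card_SL (n : ℕ) (hnr : n < r) (hrq : ¬ r ∣ Fintype.card F) :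
    (Nat.card (Matrix.SpecialLinearGroup (Fin n) F)).factorization r =
      ((Finset.Icc 2 n).filter (fun i => orderOf ((Fintype.card F : ℕ) : ZMod r) ∣ i)).card *
        padicValNat r (Fintype.card F ^ orderOf ((Fintype.card F : ℕ) : ZMod r) - 1) := by
  classical
  have hr : r.Prime := Fact.out
  have hq2 : 2 ≤ Fintype.card F := Fintype.one_lt_card
  rcases Nat.eq_zero_or_pos n with hn | hn
  · subst hn
    have : Nat.card (Matrix.SpecialLinearGroup (Fin 0) F) = 1 := by
      rw [Nat.card_eq_one_iff_unique]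
      exact ⟨⟨fun a b => Subtype.ext (Subsingleton.elim _ _)⟩, ⟨1⟩⟩
    rw [this]
    simp
  · have hc := card_filter_Icc_two n (orderOf ((Fintype.card F : ℕ) : ZMod r)) hn
    have h1 := Cfsg.Agent.Lib.Helper5_SLCard.card_GL_eq_card_SL_mul (F := F) n hn
    have h2 := congrArg (fun N => N.factorization r) h1
    have hSL0 : Nat.card (Matrix.SpecialLinearGroup (Fin n) F) ≠ 0 := Nat.card_pos.ne'
    rw [Matrix.card_GL_field, factorization_glCard r hq2 hrq hnr,
      Nat.factorization_mul hSL0 (by omega), Finsupp.add_apply] at h2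
    simp only [Nat.factorization_def _ hr] at h2 ⊢
    have h3 := padicValNat_pow_sub_one_eq r (q := Fintype.card F) (by omega) hrq (j := 1)
      Nat.one_pos hr.one_lt
    simp only [pow_one, Nat.dvd_one] at h3
    rw [h3, ← hc, add_mul] at h2
    split_ifs at h2 with he1
    · rw [one_mul] at h2
      exact (Nat.add_right_cancel h2).symm
    · rw [zero_mul, add_zero, add_zero] at h2
      exact h2.symm

end embed

end Cfsg.Agent.Lib.Helper40_SylowLargeSL
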