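import Mathlib
import Cfsg.Agent.Lib.Helper40_UProj6
import Cfsg.Agent.Lib.Helper40_UProj2

set_option autoImplicit false
namespace Cfsg.Agent.Lib.Helper40_UProj7

open Polynomial Module Cfsg.Agent.Lib.Helper40_ProjOrd Cfsg.Agent.Lib.Helper40_UProj
  Cfsg.Agent.Lib.Helper40_UBasic Cfsg.Agent.Lib.Helper94_Herm Cfsg.Agent.Lib.Helper94_HermBridge
  Cfsg.Agent.Lib.Helper40_UMatrix Cfsg.Agent.Lib.Helper40_UExistMatrix
  Cfsg.Agent.Lib.Helper40_UProj4 Cfsg.Agent.Lib.Helper40_ProjOrd2 Cfsg.Agent.Lib.Helper40_UProj3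
  Cfsg.Agent.Lib.Helper40_UProj5 Cfsg.Agent.Lib.Helper40_ProjOrd3 Cfsg.Agent.Lib.Helper40_UProj6
  Cfsg.Agent.Lib.Helper40_UProj2 Cfsg.Agent.Lib.Helper40_UExist Cfsg.Agent.Lib.Helper40_Palindromic
  Cfsg.Agent.Lib.Helper40_OrdPoly

universe v

section pord

open Cfsg.Agent.Lib.Helper5_SUCenter

variable {F : Type v} [Field F] [Fintype F] {n q : ℕ} (σ : F →+* F) (hσq : ∀ x, σ x = x ^ q)

include hσq in
theorem exists_hasPOrd (hF : Fintype.card F = q ^ 2) (hn : 0 < n) (M : Matrix (Fin n) (Fin n) F)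
    (hU : IsUM σ M) (hdet : M.det = 1) : ∃ T : ℕ, HasPOrd M T := by
  refine ⟨orderOf (QuotientGroup.mk (mkSU M (isU_of_isUM σ hσq hU) hdet) : Cfsg.PSU n F q),
    orderOf_pos _, fun j => ?_⟩
  rw [orderOf_dvd_iff_pow_eq_one, psu_pow_eq_one_iff hF hn, mkSU_val]

end pord

section Tone

variable {F : Type v} [Field F] [Fintype F] {q : ℕ} (σ : F →+* F) (hσq : ∀ x, σ x = x ^ q)

include hσq in
/-- the irreducible self-dual type: `n` odd -/
theorem exists_T_one (hF : Fintype.card F = q ^ 2) (hσ : Invol σ) (p : ℕ) [Fact p.Prime]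
    [CharP F p] (n : ℕ) (hodd : Odd n) :
    ∃ T : ℕ, InSpecU (Fin n) σ T ∧ ∀ (x : Matrix (Fin n) (Fin n) F) (a : ℕ), IsUM σ x →
      x.det = 1 → HasPOrd x a → Irreducible (minpoly F x) → (minpoly F x).natDegree = n →
      a ∣ T := by
  classical
  have hn1 : 1 ≤ n := hodd.pos
  have : NeZero n := ⟨by omega⟩
  obtain ⟨g, hgm, hgi, hgd⟩ := exists_irreducible_natDegree (F := F) p n hn1
  have : Fact (Irreducible g) := ⟨hgi⟩
  obtain ⟨hfin, hfinite, hfr, hcard⟩ := adjoinRoot_facts g hgm hgi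
  rw [hgd] at hfr
  obtain ⟨Ψ, hΨinj, hΨU, hΨdet⟩ := model_T1 σ hσq hF hσ g hgm hgi n hgd hodd
  set H : Subgroup (AdjoinRoot g)ˣ :=
    (powMonoidHom (q ^ n + 1) : (AdjoinRoot g)ˣ →* (AdjoinRoot g)ˣ).ker ⊓
      (Units.map (Algebra.norm F : AdjoinRoot g →* F)).ker with hH
  have hHmem : ∀ u : (AdjoinRoot g)ˣ, u ∈ H ↔
      (u : AdjoinRoot g) ^ (q ^ n + 1) = 1 ∧ Algebra.norm F (u : AdjoinRoot g) = 1 := by
    intro u
    rw [hH, Subgroup.mem_inf, MonoidHom.mem_ker, MonoidHom.mem_ker, Units.ext_iff, Units.ext_iff]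
    simp
  obtain ⟨h₀, hh₀, hgen⟩ := exists_gen H
  obtain ⟨hh₀1, hh₀2⟩ := (hHmem h₀).1 hh₀
  set M₀ : Matrix (Fin n) (Fin n) F := Ψ (h₀ : AdjoinRoot g) with hM₀
  have hM₀U : IsUM σ M₀ := hΨU _ hh₀1
  have hM₀det : M₀.det = 1 := by rw [hM₀, hΨdet, hh₀2]
  obtain ⟨T, hT⟩ := exists_hasPOrd σ hσq hF (by omega) M₀ hM₀U hM₀det
  refine ⟨T, ⟨M₀, hM₀U, hM₀det, hT⟩, ?_⟩
  intro x a hxU hxdet hx hirr hdeg
  set f := minpoly F x with hf
  have hfm : f.Monic := minpoly.monic (Matrix.isIntegral x)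
  have : Fact (Irreducible f) := ⟨hirr⟩
  have hf0 : f ≠ 0 := hirr.ne_zero
  have hfc0 : f.coeff 0 ≠ 0 := minpoly_coeff_zero_ne σ hxU
  have hfd : udual σ f = f := udual_minpoly σ hσ.invol hxU
  obtain ⟨-, hfdvd⟩ := selfdual_odd σ hσq hF hσ.invol f hfm hirr hfc0 hfd
  rw [hdeg] at hfdvd
  have hfin1 : finrank F (AdjoinRoot f) = n := by
    rw [(AdjoinRoot.powerBasis hf0).finrank, AdjoinRoot.powerBasis_dim, hdeg]
  set e : AdjoinRoot f ≃ₐ[F] AdjoinRoot g :=
    (FiniteField.algEquivExtension F p n (AdjoinRoot f) hfin1).trans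
      (FiniteField.algEquivExtension F p n (AdjoinRoot g) hfr).symm with he
  set ρ := e (AdjoinRoot.root f) with hρ
  have hminρ : minpoly F ρ = f := by
    rw [hρ, minpoly.algEquiv_eq, AdjoinRoot.minpoly_root hf0, hfm.leadingCoeff, inv_one, map_one,
      mul_one]
  have hρpow : ρ ^ (q ^ n + 1) = 1 := by
    have h1 : aeval ρ (X ^ (q ^ n + 1) - 1 : F[X]) = 0 := by
      obtain ⟨k, hk⟩ := hfdvd
      rw [hk, map_mul, ← hminρ, minpoly.aeval, zero_mul]
    rw [map_sub, map_pow, aeval_X, map_one, sub_eq_zero] at h1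
    exact h1
  set N : Matrix (Fin n) (Fin n) F := Ψ ρ with hN
  have hminN : minpoly F N = f := by
    rw [hN, minpoly.algHom_eq _ hΨinj, hminρ]
  have hNdet : N.det = 1 := by
    rw [← hxdet]
    symm
    apply det_eq_of_minpoly_eq x N (by rw [hminN])
    · rw [← hf, hdeg, Fintype.card_fin]
    · rfl
  have hNord : HasPOrd N a := HasPOrd.congr (by rw [hminN]) hx
  have hρnorm : Algebra.norm F ρ = 1 := by rw [← hΨdet, ← hN, hNdet]
  have hρ0 : ρ ≠ 0 := by
    rintro h0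
    rw [h0, Algebra.norm_zero] at hρnorm
    exact zero_ne_one hρnorm
  have hmem : Units.mk0 ρ hρ0 ∈ H := by
    rw [hHmem, Units.val_mk0]
    exact ⟨hρpow, hρnorm⟩
  obtain ⟨i, hi⟩ := hgen _ hmem
  have hi' : (h₀ : AdjoinRoot g) ^ i = ρ := by
    have h1 := congrArg (fun u : (AdjoinRoot g)ˣ => (u : AdjoinRoot g)) hi
    simpa using h1.symm
  have hNM : N = M₀ ^ i := by rw [hN, hM₀, ← map_pow, hi']
  have h1 : IsScalarMat (N ^ T) := by
    rw [hNM, ← pow_mul, mul_comm, pow_mul]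
    exact ((hT.iff T).2 dvd_rfl).pow i
  exact (hNord.iff T).1 h1

end Tone



section Ttwo

variable {F : Type v} [Field F] [Fintype F] {q : ℕ} (σ : F →+* F) (hσq : ∀ x, σ x = x ^ q)

omit [Fintype F] in
/-- the inverse of a root is a root of the reciprocal polynomial -/
theorem aeval_inv_recip {E : Type*} [Field E] [Algebra F E] (y : E) (hy : y ≠ 0) (G : F[X])
    (h : aeval y G = 0) : aeval y⁻¹ (recip G) = 0 := by
  let _ : Invertible y := invertibleOfNonzero hy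
  have h1 := eval₂_reverse_mul_pow (algebraMap F E) y G
  have h3 : eval₂ (algebraMap F E) y G = 0 := by rw [← aeval_def]; exact h
  rw [h3, invOf_eq_inv] at h1
  have h2 : aeval y⁻¹ G.reverse = 0 :=
    (mul_eq_zero.1 h1).resolve_right (pow_ne_zero _ hy)
  unfold recip
  rw [map_mul, h2, mul_zero]

omit [Fintype F] in
/-- a semilinear ring homomorphism maps roots of `f` to roots of `f.map σ` -/
theorem aeval_semilinear {E : Type*} [Field E] [Algebra F E] (ψ : E →+* E)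
    (hψ : ∀ c : F, ψ (algebraMap F E c) = algebraMap F E (σ c)) (y : E) (f : F[X])
    (h : aeval y f = 0) : aeval (ψ y) (f.map σ) = 0 := by
  have h1 := hom_eval₂ f (algebraMap F E) ψ y
  rw [← aeval_def, h, map_zero] at h1
  rw [aeval_def, eval₂_map]
  have h2 : ψ.comp (algebraMap F E) = (algebraMap F E).comp σ := RingHom.ext hψ
  rw [← h2]
  exact h1.symm

omit [Fintype F] in
/-- minimal polynomial of a pair in a product algebra, coprime case -/
theorem minpoly_prod {A B : Type*} [Ring A] [Ring B] [Algebra F A] [Algebra F B] (a : A) (b : B)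
    (ha : IsIntegral F a) (hb : IsIntegral F b) (hcop : IsCoprime (minpoly F a) (minpoly F b)) :
    minpoly F ((a, b) : A × B) = minpoly F a * minpoly F b := by
  have haev : ∀ P : F[X], aeval ((a, b) : A × B) P = (aeval a P, aeval b P) := by
    intro P
    have h1 := Polynomial.aeval_algHom_apply (AlgHom.fst F A B) ((a, b) : A × B) P
    have h2 := Polynomial.aeval_algHom_apply (AlgHom.snd F A B) ((a, b) : A × B) P
    exact Prod.ext h1.symm h2.symm
  have hint : IsIntegral F ((a, b) : A × B) := by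
    refine ⟨minpoly F a * minpoly F b, (minpoly.monic ha).mul (minpoly.monic hb), ?_⟩
    rw [← aeval_def, haev, map_mul, map_mul, minpoly.aeval, minpoly.aeval, zero_mul, mul_zero]
    rfl
  have h1 : minpoly F ((a, b) : A × B) ∣ minpoly F a * minpoly F b := by
    apply minpoly.dvd
    rw [haev, map_mul, map_mul, minpoly.aeval, minpoly.aeval, zero_mul, mul_zero]
    rfl
  have h2 : minpoly F a * minpoly F b ∣ minpoly F ((a, b) : A × B) := by
    have h3 := minpoly.aeval F ((a, b) : A × B)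
    rw [haev, Prod.mk_eq_zero] at h3
    exact hcop.mul_dvd (minpoly.dvd F a h3.1) (minpoly.dvd F b h3.2)
  exact eq_of_monic_of_associated (minpoly.monic hint)
    ((minpoly.monic ha).mul (minpoly.monic hb)) (associated_of_dvd_dvd h1 h2)

include hσq in
/-- the swap type on `Fin (δ + δ)` -/
theorem exists_T_two (hF : Fintype.card F = q ^ 2) (hσ : Invol σ) (p : ℕ) [Fact p.Prime]
    [CharP F p] (δ : ℕ) (hδ1 : 1 ≤ δ) :
    ∃ T : ℕ, InSpecU (Fin (δ + δ)) σ T ∧
      ∀ (x : Matrix (Fin (δ + δ)) (Fin (δ + δ)) F) (a : ℕ) (f : F[X]), IsUM σ x →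
      x.det = 1 → HasPOrd x a → f.Monic → Irreducible f → f.coeff 0 ≠ 0 → udual σ f ≠ f →
      minpoly F x = f * udual σ f → f.natDegree = δ → a ∣ T := by
  classical
  have : NeZero δ := ⟨by omega⟩
  obtain ⟨g, hgm, hgi, hgd⟩ := exists_irreducible_natDegree (F := F) p δ hδ1
  have : Fact (Irreducible g) := ⟨hgi⟩
  obtain ⟨hfin, hfinite, hfr, hcard⟩ := adjoinRoot_facts g hgm hgi
  rw [hgd] at hfr
  obtain ⟨ψ, ψ', Ψ, hψ, hψ', hψψ', hψ'ψ, hψc, hψ'c, hΨinj, hΨU, hΨdet⟩ :=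
    model_T2 σ hσq hF hσ g hgm hgi δ hgd hδ1
  -- the homomorphism θ
  let θ : (AdjoinRoot g)ˣ →* AdjoinRoot g × AdjoinRoot g :=
    MonoidHom.prod (Units.coeHom (AdjoinRoot g))
      ((ψ' : AdjoinRoot g →* AdjoinRoot g).comp
        ((Units.coeHom (AdjoinRoot g)).comp (invMonoidHom : (AdjoinRoot g)ˣ →* (AdjoinRoot g)ˣ)))
  have hθ : ∀ u : (AdjoinRoot g)ˣ, θ u = ((u : AdjoinRoot g), ψ' ((u : AdjoinRoot g)⁻¹)) := by
    intro u
    show ((u : AdjoinRoot g), ψ' (((u⁻¹ : (AdjoinRoot g)ˣ)) : AdjoinRoot g)) = _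
    rw [Units.val_inv_eq_inv_val]
  let φ : (AdjoinRoot g)ˣ →* F :=
    (Matrix.detMonoidHom : Matrix (Fin (δ + δ)) (Fin (δ + δ)) F →* F).comp
      ((Ψ : (AdjoinRoot g × AdjoinRoot g) →* Matrix (Fin (δ + δ)) (Fin (δ + δ)) F).comp θ)
  have hφ : ∀ u : (AdjoinRoot g)ˣ, φ u = (Ψ (θ u)).det := fun u => rfl
  obtain ⟨h₀, hh₀, hgen⟩ := exists_gen φ.ker
  rw [MonoidHom.mem_ker, hφ] at hh₀
  set M₀ : Matrix (Fin (δ + δ)) (Fin (δ + δ)) F := Ψ (θ h₀) with hM₀
  have hθU : ∀ u : (AdjoinRoot g)ˣ, IsUM σ (Ψ (θ u)) := by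
    intro u
    rw [hθ]
    apply hΨU
    rw [hψψ', mul_inv_cancel₀ u.ne_zero]
  have hM₀U : IsUM σ M₀ := hθU h₀
  obtain ⟨T, hT⟩ := exists_hasPOrd σ hσq hF (by omega) M₀ hM₀U hh₀
  refine ⟨T, ⟨M₀, hM₀U, hh₀, hT⟩, ?_⟩
  intro x a f hxU hxdet hx hfm hirr hfc0 hfne hmin hdeg
  have : Fact (Irreducible f) := ⟨hirr⟩
  have hf0 : f ≠ 0 := hirr.ne_zero
  have hfin1 : finrank F (AdjoinRoot f) = δ := by
    rw [(AdjoinRoot.powerBasis hf0).finrank, AdjoinRoot.powerBasis_dim, hdeg]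
  set e : AdjoinRoot f ≃ₐ[F] AdjoinRoot g :=
    (FiniteField.algEquivExtension F p δ (AdjoinRoot f) hfin1).trans
      (FiniteField.algEquivExtension F p δ (AdjoinRoot g) hfr).symm with he
  set ρ := e (AdjoinRoot.root f) with hρ
  have hminρ : minpoly F ρ = f := by
    rw [hρ, minpoly.algEquiv_eq, AdjoinRoot.minpoly_root hf0, hfm.leadingCoeff, inv_one, map_one,
      mul_one]
  have hρ0 : ρ ≠ 0 := by
    intro h0
    have h1 : aeval ρ f = 0 := by rw [← hminρ]; exact minpoly.aeval F ρ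
    rw [h0, ← coeff_zero_eq_aeval_zero'] at h1
    exact hfc0 ((algebraMap F (AdjoinRoot g)).injective (by rw [h1, map_zero]))
  set w := ψ' ρ⁻¹ with hw
  have hdm : (udual σ f).Monic := udual_monic σ f hfc0
  have hdi : Irreducible (udual σ f) := udual_irreducible σ hσ.invol f hirr hfc0
  have hminw : minpoly F w = udual σ f := by
    symm
    apply minpoly.eq_of_irreducible_of_monic hdi _ hdm
    rw [hw, map_inv₀]
    unfold udual
    apply aeval_inv_recip _ (by rw [Ne, map_eq_zero]; exact hρ0)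
    apply aeval_semilinear σ ψ' hψ'c
    rw [← hminρ]
    exact minpoly.aeval F ρ
  have hint : ∀ y : AdjoinRoot g, IsIntegral F y := fun y => Algebra.IsIntegral.isIntegral y
  have hminpair : minpoly F ((ρ, w) : AdjoinRoot g × AdjoinRoot g) = f * udual σ f := by
    rw [minpoly_prod ρ w (hint ρ) (hint w), hminρ, hminw]
    rw [hminρ, hminw]
    exact coprime_of_ne hfm hdm hirr hdi (Ne.symm hfne)
  set N : Matrix (Fin (δ + δ)) (Fin (δ + δ)) F := Ψ (θ (Units.mk0 ρ hρ0)) with hN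
  have hN' : N = Ψ ((ρ, w) : AdjoinRoot g × AdjoinRoot g) := by
    rw [hN, hθ, Units.val_mk0]
  have hminN : minpoly F N = minpoly F x := by
    rw [hN', minpoly.algHom_eq _ hΨinj, hminpair, hmin]
  have hNdet : N.det = 1 := by
    rw [← hxdet]
    symm
    apply det_eq_of_minpoly_eq x N hminN.symm
    · rw [hmin, natDegree_mul hf0 hdm.ne_zero, udual_natDegree σ f hfc0, hdeg, Fintype.card_fin]
    · rfl
  have hNord : HasPOrd N a := HasPOrd.congr hminN.symm hx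
  have hmem : Units.mk0 ρ hρ0 ∈ φ.ker := by
    rw [MonoidHom.mem_ker, hφ]
    exact hNdet
  obtain ⟨i, hi⟩ := hgen _ hmem
  have hNM : N = M₀ ^ i := by rw [hN, hM₀, hi, map_pow, map_pow]
  have h1 : IsScalarMat (N ^ T) := by
    rw [hNM, ← pow_mul, mul_comm, pow_mul]
    exact ((hT.iff T).2 dvd_rfl).pow i
  exact (hNord.iff T).1 h1

end Ttwo

end Cfsg.Agent.Lib.Helper40_UProj7
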