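import Mathlib
import Cfsg.Agent.Lib.Helper40_UProj7
import Cfsg.Agent.Lib.Helper40_ProjOrd4

set_option autoImplicit false

/-!
Block constructions in `SU_n(q)`: a unitary unipotent block next to a unitary torus block.
-/

namespace Cfsg.Agent.Lib.Helper40_UProj8

open Polynomial Module Cfsg.Agent.Lib.Helper40_ProjOrd Cfsg.Agent.Lib.Helper40_UProj
  Cfsg.Agent.Lib.Helper94_Herm Cfsg.Agent.Lib.Helper94_HermBridge
  Cfsg.Agent.Lib.Helper40_UProj4 Cfsg.Agent.Lib.Helper40_ProjOrd2 Cfsg.Agent.Lib.Helper40_UProj3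
  Cfsg.Agent.Lib.Helper40_ProjOrd3 Cfsg.Agent.Lib.Helper40_UProj6
  Cfsg.Agent.Lib.Helper40_ProjOrd4

universe v

section blocks

variable {F : Type v} [Field F] [Fintype F]
variable {ι₁ ι₂ : Type*} [Fintype ι₁] [DecidableEq ι₁] [Fintype ι₂] [DecidableEq ι₂]
variable (σ : F →+* F)

omit [Fintype F] in
/-- the block construction, unitary version -/
theorem inSpecU_blocks (p : ℕ) [Fact p.Prime] [CharP F p] [Nonempty ι₁] [Nonempty ι₂] {r : ℕ}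
    (hr : r.Prime) (hrp : r ≠ p) (hrn : ¬ r ∣ Fintype.card ι₁ + Fintype.card ι₂) (ζ : F)
    (hζ : orderOf ζ = r) (hζσ : σ ζ * ζ = 1) (κ a₁ : ℕ) (hra₁ : ¬ r ∣ a₁) (ha₁0 : 0 < a₁)
    (J : Matrix ι₁ ι₁ F) (hJU : IsUM σ J) (hJdet : J.det = 1)
    (hJ : ∀ j : ℕ, J ^ j = 1 ↔ p ^ κ ∣ j)
    (D : Matrix ι₂ ι₂ F) (hDU : IsUM σ D) (hDdet : D.det = 1)
    (hD : ∀ j : ℕ, D ^ j = 1 ↔ a₁ ∣ j) :
    InSpecU (ι₁ ⊕ ι₂) σ (r * Nat.lcm (p ^ κ) a₁) := by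
  have hp : p.Prime := Fact.out
  set M : Matrix (ι₁ ⊕ ι₂) (ι₁ ⊕ ι₂) F := Matrix.fromBlocks J 0 0 D with hM
  have hMdet : M.det = 1 := by
    rw [hM, Matrix.det_fromBlocks_zero₂₁, hJdet, hDdet, mul_one]
  have hMU : IsUM σ M := isUM_fromBlocks hJU hDU
  have hlcm0 : 0 < Nat.lcm (p ^ κ) a₁ := Nat.lcm_pos (pow_pos hp.pos _) ha₁0
  have hMord : HasPOrd M (Nat.lcm (p ^ κ) a₁) := by
    refine ⟨hlcm0, fun j => ?_⟩
    rw [Nat.lcm_dvd_iff, ← hJ, ← hD, hM, fromBlocks_diag_pow]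
    constructor
    · rintro ⟨s, hs⟩
      rw [← Matrix.fromBlocks_one, Matrix.fromBlocks_smul, Matrix.fromBlocks_inj] at hs
      obtain ⟨h1, -, -, h2⟩ := hs
      have h3 : (s ^ p ^ κ) • (1 : Matrix ι₁ ι₁ F) = 1 := by
        rw [← one_pow (M := Matrix ι₁ ι₁ F) (p ^ κ), ← _root_.smul_pow, ← h1, ← pow_mul, mul_comm,
          pow_mul, (hJ _).2 dvd_rfl, one_pow, one_pow]
      obtain ⟨i⟩ := ‹Nonempty ι₁›
      have h4 := congrFun (congrFun h3 i) i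
      rw [Matrix.smul_apply, Matrix.one_apply_eq, smul_eq_mul, mul_one] at h4
      have h5 : (s - 1) ^ p ^ κ = 0 := by rw [sub_pow_char_pow, h4, one_pow, sub_self]
      have h6 : s = 1 := sub_eq_zero.1 (pow_eq_zero_iff (pow_ne_zero _ hp.ne_zero) |>.1 h5)
      rw [h6, one_smul] at h1 h2
      exact ⟨h1, h2⟩
    · rintro ⟨h1, h2⟩
      rw [h1, h2, Matrix.fromBlocks_one]
      exact isScalarMat_one
  have hrl : ¬ r ∣ Nat.lcm (p ^ κ) a₁ := by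
    intro h
    have h1 : r ∣ p ^ κ * a₁ := h.trans (Nat.lcm_dvd_mul _ _)
    rcases (Nat.Prime.dvd_mul hr).1 h1 with h2 | h2
    · exact hrp ((Nat.prime_dvd_prime_iff_eq hr hp).1 (hr.dvd_of_dvd_pow h2))
    · exact hra₁ h2
  set e : Matrix (ι₁ ⊕ ι₂) (ι₁ ⊕ ι₂) F := Matrix.fromBlocks 1 0 0 0 with he
  apply inSpecU_mul_of_idempotent σ hr (by rw [Fintype.card_sum]; exact hrn) ζ hζ hζσ M hMU hMdet
    hMord hrl e
  · rw [he, Matrix.fromBlocks_multiply]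
    simp
  · rw [he]
    unfold ctr
    rw [Matrix.fromBlocks_map, Matrix.fromBlocks_transpose]
    simp
  · intro h0
    obtain ⟨i⟩ := ‹Nonempty ι₁›
    have := congrFun (congrFun h0 (Sum.inl i)) (Sum.inl i)
    rw [he, Matrix.fromBlocks_apply₁₁, Matrix.one_apply_eq, Matrix.zero_apply] at this
    exact one_ne_zero this
  · intro h1
    obtain ⟨i⟩ := ‹Nonempty ι₂›
    have := congrFun (congrFun h1 (Sum.inr i)) (Sum.inr i)
    rw [he, Matrix.fromBlocks_apply₂₂, Matrix.one_apply_eq, Matrix.zero_apply] at this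
    exact zero_ne_one this
  · show e * M = M * e
    rw [he, hM, Matrix.fromBlocks_multiply, Matrix.fromBlocks_multiply]
    simp

end blocks

section construct

variable {F : Type v} [Field F] [Fintype F] {q : ℕ} (σ : F →+* F) (hσq : ∀ x, σ x = x ^ q)

include hσq in
/-- the common block construction in `SU_n`, from a torus block of size `m` -/
theorem constructU (hF : Fintype.card F = q ^ 2) (hσ : Invol σ) (p : ℕ) [Fact p.Prime]
    [CharP F p] {r : ℕ} (hr : r.Prime) (hrp : r ≠ p) (ζ : F) (hζ : orderOf ζ = r)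
    (hζσ : σ ζ * ζ = 1) (n c m t : ℕ) (hc : 1 ≤ c) (hm : 1 ≤ m) (hn : c + m + t = n)
    (hrn : ¬ r ∣ n) (a₁ : ℕ) (hra₁ : ¬ r ∣ a₁)
    (D : Matrix (Fin m) (Fin m) F) (hDU : IsUM σ D) (hDdet : D.det = 1)
    (hD : ∀ j : ℕ, D ^ j = 1 ↔ a₁ ∣ j) :
    InSpecU (Fin n) σ (r * Nat.lcm (p ^ Nat.clog p c) a₁) := by
  have ha₁0 : 0 < a₁ := by
    rcases Nat.eq_zero_or_pos a₁ with rfl | h
    · exact absurd (dvd_zero r) hra₁
    · exact h
  obtain ⟨J, hJU, hJdet, hJ⟩ := exists_unitary_unipotent σ hσq hF hσ p c hc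
  obtain ⟨hD'det, hD'⟩ := pad_block (ι₂ := Fin t) D hDdet a₁ hD
  have hD'U : IsUM σ (Matrix.fromBlocks D 0 0 (1 : Matrix (Fin t) (Fin t) F)) :=
    isUM_fromBlocks hDU isUM_one
  have : Nonempty (Fin c) := ⟨⟨0, by omega⟩⟩
  have : Nonempty (Fin m ⊕ Fin t) := ⟨Sum.inl ⟨0, by omega⟩⟩
  have hcard : Fintype.card (Fin c) + Fintype.card (Fin m ⊕ Fin t) = n := by
    rw [Fintype.card_sum, Fintype.card_fin, Fintype.card_fin, Fintype.card_fin]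
    omega
  have hrn' : ¬ r ∣ Fintype.card (Fin c) + Fintype.card (Fin m ⊕ Fin t) := by
    rw [hcard]; exact hrn
  have h := inSpecU_blocks (F := F) (ι₁ := Fin c) (ι₂ := Fin m ⊕ Fin t) σ p hr hrp hrn' ζ hζ hζσ
    (Nat.clog p c) a₁ hra₁ ha₁0 J hJU hJdet hJ _ hD'U hD'det hD'
  exact InSpecU.reindex σ (Fintype.equivFinOfCardEq (by rw [Fintype.card_sum]; exact hcard)) h

include hσq in
/-- block construction with a torus of the first kind (`δ` odd) -/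
theorem constructU1 (hF : Fintype.card F = q ^ 2) (hσ : Invol σ) (p : ℕ) [Fact p.Prime]
    [CharP F p] {r : ℕ} (hr : r.Prime) (hrp : r ≠ p) (ζ : F) (hζ : orderOf ζ = r)
    (hζσ : σ ζ * ζ = 1) (n c δ t : ℕ) (hc : 1 ≤ c) (hodd : Odd δ) (hn : c + δ + t = n)
    (hrn : ¬ r ∣ n) (a₁ : ℕ) (ha₁ : a₁ ∣ bone q δ) (hra₁ : ¬ r ∣ a₁) :
    InSpecU (Fin n) σ (r * Nat.lcm (p ^ Nat.clog p c) a₁) := by
  obtain ⟨D, hDU, hDdet, hD⟩ := exists_torus_one σ hσq hF hσ p δ hodd a₁ ha₁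
  exact constructU σ hσq hF hσ p hr hrp ζ hζ hζσ n c δ t hc hodd.pos hn hrn a₁ hra₁ D hDU hDdet hD

include hσq in
/-- block construction with a torus of the second kind -/
theorem constructU2 (hF : Fintype.card F = q ^ 2) (hσ : Invol σ) (p : ℕ) [Fact p.Prime]
    [CharP F p] {r : ℕ} (hr : r.Prime) (hrp : r ≠ p) (ζ : F) (hζ : orderOf ζ = r)
    (hζσ : σ ζ * ζ = 1) (n c δ t : ℕ) (hc : 1 ≤ c) (hδ : 1 ≤ δ) (hn : c + (δ + δ) + t = n)
    (hrn : ¬ r ∣ n) (a₁ : ℕ) (ha₁ : a₁ ∣ btwo q δ) (hra₁ : ¬ r ∣ a₁) :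
    InSpecU (Fin n) σ (r * Nat.lcm (p ^ Nat.clog p c) a₁) := by
  obtain ⟨D, hDU, hDdet, hD⟩ := exists_torus_two σ hσq hF hσ p δ hδ a₁ ha₁
  exact constructU σ hσq hF hσ p hr hrp ζ hζ hζσ n c (δ + δ) t hc (by omega) hn hrn a₁ hra₁ D hDU
    hDdet hD

end construct

end Cfsg.Agent.Lib.Helper40_UProj8
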