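import Mathlib
import Cfsg.Agent.Lib.Helper40_UProj8
import Cfsg.Agent.Lib.Helper40_IsoSpecAbs

set_option autoImplicit false

/-!
The trichotomy for the element orders of `PSU_n(q)`.
-/

namespace Cfsg.Agent.Lib.Helper40_UProj9

open Polynomial Module Cfsg.Agent.Lib.Helper40_ProjOrd Cfsg.Agent.Lib.Helper40_UProj
  Cfsg.Agent.Lib.Helper94_Herm Cfsg.Agent.Lib.Helper94_HermBridge
  Cfsg.Agent.Lib.Helper40_UProj4 Cfsg.Agent.Lib.Helper40_ProjOrd2 Cfsg.Agent.Lib.Helper40_UProj3
  Cfsg.Agent.Lib.Helper40_ProjOrd3 Cfsg.Agent.Lib.Helper40_UProj6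
  Cfsg.Agent.Lib.Helper40_ProjOrd4 Cfsg.Agent.Lib.Helper40_UProj2 Cfsg.Agent.Lib.Helper40_UProj7
  Cfsg.Agent.Lib.Helper40_UProj8 Cfsg.Agent.Lib.Helper40_IsoSpecAbs
  Cfsg.Agent.Lib.Helper40_UExist

universe v

section arith

theorem bone_one (q : ℕ) : bone q 1 = 1 := by
  unfold bone
  rw [pow_one]
  exact Nat.div_self (by omega)

theorem bone_coprime (p a δ : ℕ) (hp : p.Prime) (ha : 1 ≤ a) (hδ : Odd δ) :
    Nat.Coprime (bone (p ^ a) δ) p := by
  rw [Nat.coprime_comm, Nat.Prime.coprime_iff_not_dvd hp]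
  intro h
  have h1 : p ∣ (p ^ a) ^ δ + 1 := by
    rw [← bone_mul _ _ hδ]
    exact h.mul_right _
  have h2 : p ∣ (p ^ a) ^ δ := by
    rw [← pow_mul]
    exact dvd_pow_self p (by have := hδ.pos; positivity)
  have h4 : p ∣ 1 := (Nat.dvd_add_right h2).1 h1
  exact hp.one_lt.ne' (Nat.dvd_one.1 h4)

theorem btwo_coprime (p a δ : ℕ) (hp : p.Prime) (ha : 1 ≤ a) (hδ : 1 ≤ δ) :
    Nat.Coprime (btwo (p ^ a) δ) p := by
  have hq2 : 2 ≤ p ^ a := by
    calc 2 ≤ p := hp.two_le
      _ = p ^ 1 := (pow_one p).symm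
      _ ≤ p ^ a := Nat.pow_le_pow_right hp.pos ha
  rw [Nat.coprime_comm, Nat.Prime.coprime_iff_not_dvd hp]
  intro h
  have h1 : p ∣ ((p ^ a) ^ 2) ^ δ - 1 := by
    rw [← btwo_mul _ _ hq2]
    exact h.mul_right _
  have h2 : p ∣ ((p ^ a) ^ 2) ^ δ := by
    rw [← pow_mul, ← pow_mul]
    exact dvd_pow_self p (by positivity)
  have h3 : 1 ≤ ((p ^ a) ^ 2) ^ δ := Nat.one_le_pow _ _ (pow_pos (pow_pos hp.pos _) _)
  have h4 : p ∣ 1 := by
    have := (Nat.dvd_sub h2 h1)
    rwa [Nat.sub_sub_self h3] at this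
  exact hp.one_lt.ne' (Nat.dvd_one.1 h4)

end arith

section tri

variable {F : Type v} [Field F] [Fintype F]

/-- the trichotomy for the element orders of `PSU_n(q)` -/
theorem tri_psu (p a n q r : ℕ) (hp : p.Prime) (ha : 1 ≤ a) (hq : q = p ^ a)
    (hF : Fintype.card F = q ^ 2) (hn : 3 ≤ n) (hr : r.Prime) (hrq : r ∣ q + 1)
    (hrn : ¬ r ∣ n) :
    ∃ T : ℕ, Tri (Spec (Cfsg.PSU n F q)) r p T (∃ j : ℕ, n - 1 = p ^ j) := by
  have : Fact p.Prime := ⟨hp⟩
  have : CharP F p := charP_of_card p (a * 2) hp (by rw [hF, hq, pow_mul])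
  obtain ⟨σ, hσq, hσ⟩ := exists_frob hF
  have hq2 : 2 ≤ q := Cfsg.Agent.Lib.Helper13_Herm.two_le_q hF
  have hrp : r ≠ p := by
    rintro rfl
    have h1 : r ∣ q := by rw [hq]; exact dvd_pow_self r (by omega)
    have h4 : r ∣ 1 := (Nat.dvd_add_right h1).1 hrq
    exact hp.one_lt.ne' (Nat.dvd_one.1 h4)
  -- an element of order `r` of norm one
  obtain ⟨ζ, hζ⟩ : ∃ ζ : F, orderOf ζ = r := by
    have : Fact r.Prime := ⟨hr⟩
    have h1 : r ∣ Nat.card Fˣ := by
      rw [Nat.card_units, Nat.card_eq_fintype_card, hF]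
      have h2 : q ^ 2 - 1 = (q - 1) * (q + 1) := by
        zify [Nat.one_le_pow 2 q (by omega), (by omega : 1 ≤ q)]
        ring
      rw [h2]
      exact hrq.mul_left _
    obtain ⟨u, hu⟩ := exists_prime_orderOf_dvd_card' r h1
    exact ⟨(u : F), by rw [orderOf_units, hu]⟩
  have hζσ : σ ζ * ζ = 1 := by
    rw [hσq, ← pow_succ]
    obtain ⟨k, hk⟩ := hrq
    rw [hk, pow_mul, ← hζ, pow_orderOf_eq_one, one_pow]
  have hn0 : 0 < n := by omega
  have hS : ∀ b : ℕ, b ∈ Spec (Cfsg.PSU n F q) ↔ InSpecU (Fin n) σ b :=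
    fun b => mem_range_orderOf_psu_iff σ hσq hF hn0 b
  have hr1 : ¬ r ∣ 1 := fun h => hr.one_lt.ne' (Nat.dvd_one.1 h)
  -- the universal bound
  obtain ⟨T, hTS, hT1, hT2⟩ : ∃ T : ℕ, InSpecU (Fin n) σ T ∧
      (Odd n → ∀ (x : Matrix (Fin n) (Fin n) F) (b : ℕ), IsUM σ x → x.det = 1 → HasPOrd x b →
        Irreducible (minpoly F x) → (minpoly F x).natDegree = n → b ∣ T) ∧
      (∀ δ : ℕ, δ + δ = n → ∀ (x : Matrix (Fin n) (Fin n) F) (b : ℕ) (f : F[X]), IsUM σ x →
        x.det = 1 → HasPOrd x b → f.Monic → Irreducible f → f.coeff 0 ≠ 0 → udual σ f ≠ f →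
        minpoly F x = f * udual σ f → f.natDegree = δ → b ∣ T) := by
    rcases Nat.even_or_odd n with hev | hodd
    · obtain ⟨δ, rfl⟩ := hev
      obtain ⟨T, hTS, hT⟩ := exists_T_two σ hσq hF hσ p δ (by omega)
      refine ⟨T, hTS, fun hodd => ?_, ?_⟩
      · exact absurd hodd (by rw [Nat.not_odd_iff_even]; exact ⟨δ, rfl⟩)
      · intro δ' hδ'
        have : δ' = δ := by omega
        subst this
        exact hT
    · obtain ⟨T, hTS, hT⟩ := exists_T_one σ hσq hF hσ p n hodd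
      refine ⟨T, hTS, fun _ => hT, ?_⟩
      intro δ hδ
      exact absurd hodd (by rw [Nat.not_odd_iff_even]; exact ⟨δ, hδ.symm⟩)
  refine ⟨T, ⟨fun b hb d hd => spec_dvd hb hd, fun b hb => spec_pos hb, hr, hp, hrp,
    (hS T).2 hTS, ?_, ?_⟩⟩
  · have h := constructU1 σ hσq hF hσ p hr hrp ζ hζ hζσ n 1 1 (n - 2) le_rfl odd_one (by omega) hrn 1
      (one_dvd _) hr1
    rw [Nat.lcm_one_right, Nat.clog_one_right, pow_zero, mul_one] at h
    exact (hS r).2 h
  · intro b hbS hrb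
    obtain ⟨M, hMU, hdet, hM⟩ := (hS b).1 hbS
    have : Nonempty (Fin n) := ⟨⟨0, by omega⟩⟩
    have hdegle : (minpoly F M).natDegree ≤ n := by
      have h1 : (minpoly F M).natDegree ≤ M.charpoly.natDegree :=
        natDegree_le_of_dvd (Matrix.minpoly_dvd_charpoly M) (Matrix.charpoly_monic M).ne_zero
      rw [Matrix.charpoly_natDegree_eq_dim, Fintype.card_fin] at h1
      exact h1
    rcases unitary_cases σ hσ.invol hMU with ⟨e, he, hes, he0, he1, hcomm⟩ |
      ⟨f, c, hfm, hfi, hc, hf0, hfd, hμ⟩ | ⟨f, c, hfm, hfi, hc, hf0, hfne, hμ⟩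
    · left
      exact (hS _).2 (inSpecU_mul_of_idempotent σ hr (by rw [Fintype.card_fin]; exact hrn) ζ hζ hζσ
        M hMU hdet hM hrb e he hes he0 he1 hcomm)
    · -- self-dual type
      have hδ : 1 ≤ f.natDegree := hfi.natDegree_pos
      obtain ⟨hodd, -⟩ := selfdual_odd σ hσq hF hσ.invol f hfm hfi hf0 hfd
      have hcδ : c * f.natDegree ≤ n := by
        rw [hμ, natDegree_pow] at hdegle
        exact hdegle
      have hdvd := pord_dvd_selfdual σ hσq hF hσ.invol p M hM f c (Nat.clog p c) hfm hfi hf0 hfd hμ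
        (Nat.le_pow_clog hp.one_lt c)
      by_cases hcase : c + f.natDegree ≤ n
      · left
        have hcop : Nat.Coprime (bone q f.natDegree) (p ^ Nat.clog p c) := by
          rw [hq]
          exact (bone_coprime p a _ hp ha hodd).pow_right _
        have h1 := dvd_lcm_gcd_of_dvd_mul hcop hdvd
        have h2 := constructU1 σ hσq hF hσ p hr hrp ζ hζ hζσ n c f.natDegree (n - c - f.natDegree)
          hc hodd (by omega) hrn (Nat.gcd b (bone q f.natDegree)) (Nat.gcd_dvd_right _ _)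
          (fun h => hrb (h.trans (Nat.gcd_dvd_left _ _)))
        exact spec_dvd ((hS _).2 h2) (Nat.mul_dvd_mul_left r h1)
      · rcases cases_of_mul_le hc hδ hcδ (by omega) with ⟨hc1, hδn⟩ | ⟨hδ1, hcn⟩
        · right; left
          apply hT1 (by rw [← hδn]; exact hodd) M b hMU hdet hM
          · rw [hμ, hc1, pow_one]
            exact hfi
          · rw [hμ, hc1, pow_one]
            exact hδn
        · rw [hδ1, bone_one, one_mul, hcn] at hdvd
          by_cases hex : ∃ j : ℕ, n - 1 = p ^ j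
          · right; right
            obtain ⟨k, -, hk⟩ := (Nat.dvd_prime_pow hp).1 hdvd
            exact ⟨hex, k, hk⟩
          · left
            rw [clog_pred_eq p n hp.one_lt (by omega) hex] at hdvd
            have h2 := constructU1 σ hσq hF hσ p hr hrp ζ hζ hζσ n (n - 1) 1 0 (by omega) odd_one
              (by omega) hrn 1 (one_dvd _) hr1
            rw [Nat.lcm_one_right] at h2
            exact spec_dvd ((hS _).2 h2) (Nat.mul_dvd_mul_left r hdvd)
    · -- swap type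
      have hδ : 1 ≤ f.natDegree := hfi.natDegree_pos
      have hdm : (udual σ f).Monic := udual_monic σ f hf0
      have hcδ : c * (f.natDegree + f.natDegree) ≤ n := by
        rw [hμ, natDegree_mul (pow_ne_zero _ hfm.ne_zero) (pow_ne_zero _ hdm.ne_zero),
          natDegree_pow, natDegree_pow, udual_natDegree σ f hf0, ← mul_add] at hdegle
        exact hdegle
      have hdvd := pord_dvd_swap σ hσq hF hσ.invol p M hM f c (Nat.clog p c) hfm hfi hf0 hfne hμ
        (Nat.le_pow_clog hp.one_lt c)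
      by_cases hcase : c + (f.natDegree + f.natDegree) ≤ n
      · left
        have hcop : Nat.Coprime (btwo q f.natDegree) (p ^ Nat.clog p c) := by
          rw [hq]
          exact (btwo_coprime p a _ hp ha hδ).pow_right _
        have h1 := dvd_lcm_gcd_of_dvd_mul hcop hdvd
        have h2 := constructU2 σ hσq hF hσ p hr hrp ζ hζ hζσ n c f.natDegree
          (n - c - (f.natDegree + f.natDegree))
          hc hδ (by omega) hrn (Nat.gcd b (btwo q f.natDegree)) (Nat.gcd_dvd_right _ _)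
          (fun h => hrb (h.trans (Nat.gcd_dvd_left _ _)))
        exact spec_dvd ((hS _).2 h2) (Nat.mul_dvd_mul_left r h1)
      · rcases cases_of_mul_le hc (by omega) hcδ (by omega) with ⟨hc1, hδn⟩ | ⟨hδ1, hcn⟩
        · right; left
          apply hT2 f.natDegree hδn M b f hMU hdet hM hfm hfi hf0 hfne _ rfl
          rw [hμ, hc1, pow_one, pow_one]
        · omega

end tri

end Cfsg.Agent.Lib.Helper40_UProj9
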