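import Mathlib

set_option autoImplicit false

/-!
The affine group `Aff K U = K ⋊ U` (`x ↦ u x + a`, `u ∈ U ≤ Kˣ`) of a field `K`: group structure,
powers, element orders (`1`, the characteristic `p`, or the order of the linear part), finiteness and
solvability.  Also: element orders of a finite cyclic group and of a product.
-/

namespace Cfsg.Agent.Lib.Helper41_AffGroup

/-- The affine maps `x ↦ u x + a` with `u ∈ U`. -/
@[ext] structure Aff (K : Type*) [Field K] (U : Subgroup Kˣ) where
  /-- translation part -/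
  a : K
  /-- linear part -/
  u : U

variable {K : Type*} [Field K] {U : Subgroup Kˣ}

instance : Mul (Aff K U) := ⟨fun x y => ⟨x.a + ((x.u : Kˣ) : K) * y.a, x.u * y.u⟩⟩
instance : One (Aff K U) := ⟨⟨0, 1⟩⟩
instance : Inv (Aff K U) := ⟨fun x => ⟨-((((x.u⁻¹ : U) : Kˣ) : K) * x.a), x.u⁻¹⟩⟩

@[simp] theorem mul_a (x y : Aff K U) : (x * y).a = x.a + ((x.u : Kˣ) : K) * y.a := rfl
@[simp] theorem mul_u (x y : Aff K U) : (x * y).u = x.u * y.u := rfl
@[simp] theorem one_a : (1 : Aff K U).a = 0 := rfl
@[simp] theorem one_u : (1 : Aff K U).u = 1 := rfl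
@[simp] theorem inv_a (x : Aff K U) : (x⁻¹).a = -((((x.u⁻¹ : U) : Kˣ) : K) * x.a) := rfl
@[simp] theorem inv_u (x : Aff K U) : (x⁻¹).u = x.u⁻¹ := rfl

instance : Group (Aff K U) :=
  Group.ofLeftAxioms
    (by
      intro x y z
      ext
      · simp only [mul_a, mul_u, Subgroup.coe_mul, Units.val_mul]; ring
      · simp only [mul_u, mul_assoc])
    (by
      intro x
      ext
      · simp
      · simp)
    (by
      intro x
      ext
      · simp
      · simp)

theorem pow_u (x : Aff K U) (n : ℕ) : (x ^ n).u = x.u ^ n := by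
  induction n with
  | zero => simp
  | succ n ih => rw [pow_succ, pow_succ, mul_u, ih]

theorem pow_a (x : Aff K U) (n : ℕ) :
    (x ^ n).a = x.a * ∑ i ∈ Finset.range n, (((x.u : Kˣ) : K)) ^ i := by
  induction n with
  | zero => simp
  | succ n ih =>
    rw [pow_succ', mul_a, ih, Finset.sum_range_succ', Finset.mul_sum, Finset.mul_sum, mul_add,
      Finset.mul_sum]
    rw [add_comm]
    congr 1
    · apply Finset.sum_congr rfl
      intro i _
      ring
    · ring

/-- Elements with nontrivial linear part have the order of their linear part. -/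
theorem orderOf_of_u_ne_one (x : Aff K U) (hx : x.u ≠ 1) : orderOf x = orderOf x.u := by
  rw [orderOf_eq_orderOf_iff]
  intro n
  constructor
  · intro h
    rw [← pow_u, h, one_u]
  · intro h
    have hu1 : (((x.u : Kˣ) : K)) - 1 ≠ 0 := by
      intro h0
      apply hx
      apply Subtype.ext
      apply Units.ext
      simpa using sub_eq_zero.mp h0
    have hun : (((x.u : Kˣ) : K)) ^ n = 1 := by
      have := congrArg (fun v : U => ((v : Kˣ) : K)) h
      simpa using this
    have hsum : ∑ i ∈ Finset.range n, (((x.u : Kˣ) : K)) ^ i = 0 := by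
      have := geom_sum_mul (((x.u : Kˣ) : K)) n
      rw [hun, sub_self] at this
      exact (mul_eq_zero.mp this).resolve_right hu1
    ext
    · rw [pow_a, hsum, mul_zero, one_a]
    · rw [pow_u, h, one_u]

/-- Elements with trivial linear part and nonzero translation part have order `p`. -/
theorem orderOf_of_u_eq_one (p : ℕ) [Fact p.Prime] [CharP K p] (x : Aff K U) (hx : x.u = 1)
    (ha : x.a ≠ 0) : orderOf x = p := by
  apply orderOf_eq_prime
  · ext
    · rw [pow_a, hx]
      simp
    · rw [pow_u, hx, one_pow, one_u]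
  · intro h
    apply ha
    rw [h, one_a]

theorem eq_one_of (x : Aff K U) (hx : x.u = 1) (ha : x.a = 0) : x = 1 := by
  ext
  · rw [ha, one_a]
  · rw [hx, one_u]

/-- The embedding of `U`. -/
def inr : U →* Aff K U where
  toFun u := ⟨0, u⟩
  map_one' := rfl
  map_mul' u v := by ext <;> simp

theorem inr_injective : Function.Injective (inr : U →* Aff K U) := by
  intro u v h
  exact congrArg Aff.u h

/-- The embedding of the additive group of `K`. -/
def inl : Multiplicative K →* Aff K U where
  toFun a := ⟨Multiplicative.toAdd a, 1⟩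
  map_one' := rfl
  map_mul' a b := by ext <;> simp

/-- The projection to `U`. -/
def proj : Aff K U →* U where
  toFun x := x.u
  map_one' := rfl
  map_mul' _ _ := rfl

instance : Group.IsSolvable (Aff K U) := by
  refine Group.isSolvable_of_ker_le_range (inl : Multiplicative K →* Aff K U) (proj : Aff K U →* U) ?_
  intro x hx
  rw [MonoidHom.mem_ker] at hx
  exact ⟨Multiplicative.ofAdd x.a, Aff.ext rfl hx.symm⟩

/-- `Aff K U ≃ K × U`. -/
def equivProd : Aff K U ≃ K × U where
  toFun x := (x.a, x.u)
  invFun y := ⟨y.1, y.2⟩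
  left_inv _ := rfl
  right_inv _ := rfl

instance [Finite K] : Finite (Aff K U) := Finite.of_equiv _ equivProd.symm

/-- The element orders of `Aff K U` in characteristic `p`. -/
theorem range_orderOf (p : ℕ) [Fact p.Prime] [CharP K p] :
    Set.range (orderOf : Aff K U → ℕ) = {n | n ∣ p} ∪ Set.range (orderOf : U → ℕ) := by
  have hp : p.Prime := Fact.out
  ext n
  constructor
  · rintro ⟨x, rfl⟩
    by_cases hx : x.u = 1
    · left
      by_cases ha : x.a = 0
      · rw [eq_one_of x hx ha, orderOf_one]
        exact one_dvd p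
      · rw [orderOf_of_u_eq_one p x hx ha]
        exact dvd_rfl
    · right
      exact ⟨x.u, (orderOf_of_u_ne_one x hx).symm⟩
  · rintro (h | ⟨u, rfl⟩)
    · rcases (Nat.dvd_prime hp).mp h with rfl | rfl
      · exact ⟨1, orderOf_one⟩
      · exact ⟨⟨1, 1⟩, orderOf_of_u_eq_one n _ rfl one_ne_zero⟩
    · exact ⟨inr u, orderOf_injective inr inr_injective u⟩

/-- The element orders of a finite cyclic group are the divisors of its order. -/
theorem range_orderOf_of_isCyclic {G : Type*} [Group G] [Finite G] [IsCyclic G] :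
    Set.range (orderOf : G → ℕ) = {n | n ∣ Nat.card G} := by
  ext n
  constructor
  · rintro ⟨x, rfl⟩
    exact orderOf_dvd_natCard x
  · intro hn
    obtain ⟨g, hg⟩ := IsCyclic.exists_ofOrder_eq_natCard (α := G)
    have hpos : 0 < Nat.card G := Nat.card_pos
    obtain ⟨k, hk⟩ := hn
    have hk0 : k ≠ 0 := by
      rintro rfl
      rw [mul_zero] at hk
      omega
    refine ⟨g ^ k, ?_⟩
    rw [orderOf_pow_of_dvd hk0 (by rw [hg, hk]; exact dvd_mul_left k n), hg, hk]
    exact Nat.mul_div_cancel n (Nat.pos_of_ne_zero hk0)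

/-- The element orders of a product are the lcm's of the element orders of the factors. -/
theorem range_orderOf_prod {G G' : Type*} [Group G] [Group G'] :
    Set.range (orderOf : G × G' → ℕ) =
      {n | ∃ a ∈ Set.range (orderOf : G → ℕ), ∃ b ∈ Set.range (orderOf : G' → ℕ), n = Nat.lcm a b} := by
  ext n
  constructor
  · rintro ⟨x, rfl⟩
    exact ⟨orderOf x.1, ⟨x.1, rfl⟩, orderOf x.2, ⟨x.2, rfl⟩, Prod.orderOf x⟩
  · rintro ⟨a, ⟨x, rfl⟩, b, ⟨y, rfl⟩, rfl⟩
    exact ⟨(x, y), Prod.orderOf_mk⟩

end Cfsg.Agent.Lib.Helper41_AffGroup
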