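import Mathlib
import Cfsg.Agent.Lib.Helper1_D8Defs

/-!
# S3716 package LOC (architect helper1, market `d8_packages`): the local analysis `exists_hyp`, aux form

`exists_hyp_of`: the statement of LOC with the statement of LOCA (`monomial`, for the type `↥M`) as a hypothesis.
The verbatim wrapper is `Helper41_D8_LOC.exists_hyp`.
-/

set_option autoImplicit false
set_option linter.unusedSectionVars false

namespace Cfsg.Agent.Lib.Helper41_D8_LOCaux
open Cfsg Cfsg.Agent.Lib.Helper80_CharBasic Cfsg.Agent.Lib.Helper1_D8Defs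

section grp
variable {G : Type*} [Group G] [Finite G]

/-- the statement of LOCA for a fixed commutative group -/
def MonoStmt (A : Type*) [CommGroup A] : Prop :=
  Nat.card A = 9 → (∀ x : A, x ^ 3 = 1) →
    ∀ ψ : DihedralGroup 4 →* MulAut A, Function.Injective ψ →
    ∃ (x y : A) (g1 g2 g3 : DihedralGroup 4),
      x ≠ 1 ∧ y ≠ 1 ∧ y ≠ x ∧ y ≠ x⁻¹ ∧
      g1 * g1 = 1 ∧ g2 * g2 = 1 ∧ g3 * g3 = 1 ∧ g1 * g2 = g2 * g1 ∧ g3 * g1 * g3⁻¹ = g2 ∧
      ψ g1 x = x⁻¹ ∧ ψ g1 y = y ∧ ψ g2 x = x ∧ ψ g2 y = y⁻¹ ∧ ψ g3 x = y ∧ ψ g3 y = x ∧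
      (∀ t : A, t = 1 ∨ t = x ∨ t = x⁻¹ ∨ t = y ∨ t = y⁻¹ ∨
        t = x * y ∨ t = x * y⁻¹ ∨ t = x⁻¹ * y ∨ t = x⁻¹ * y⁻¹)

/-- the commutative group structure on a self-centralizing subgroup -/
@[reducible] def commGroupOfCent (M : Subgroup G)
    (hCM : Subgroup.centralizer (M : Set G) = M) : CommGroup ↥M :=
  { (inferInstance : Group ↥M) with
    mul_comm := fun u v => by
      apply Subtype.ext
      have hu : (u : G) ∈ Subgroup.centralizer (M : Set G) := by rw [hCM]; exact u.2
      rw [Subgroup.mem_centralizer_iff] at hu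
      exact (hu v v.2).symm }

theorem exists_hyp_of (M : Sylow 3 G) (hM9 : Nat.card ↥(M : Subgroup G) = 9)
    (hMel : ∀ m ∈ (M : Subgroup G), m ^ 3 = 1)
    (hCM : Subgroup.centralizer ((M : Subgroup G) : Set G) = (M : Subgroup G))
    (hCg : ∀ g ∈ (M : Subgroup G), g ≠ 1 →
      Subgroup.centralizer ({g} : Set G) ≤ Subgroup.normalizer ((M : Subgroup G) : Set G))
    (hS : ∀ S : Sylow 2 ↥(Subgroup.normalizer ((M : Subgroup G) : Set G)),
      Nonempty (↥(S : Subgroup ↥(Subgroup.normalizer ((M : Subgroup G) : Set G))) ≃* DihedralGroup 4))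
    (h72 : Nat.card (Subgroup.normalizer ((M : Subgroup G) : Set G)) = 72)
    (hmono : @MonoStmt ↥(M : Subgroup G) (commGroupOfCent (M : Subgroup G) hCM)) :
    ∃ a b t1 t2 s : G, Hyp G (M : Subgroup G) a b t1 t2 s := by
  classical
  set T : Subgroup G := (M : Subgroup G) with hT
  let _ : CommGroup ↥T := commGroupOfCent T hCM
  -- a Sylow 2-subgroup of the normalizer
  obtain ⟨S⟩ : Nonempty (Sylow 2 ↥(Subgroup.normalizer (T : Set G))) := inferInstance
  obtain ⟨e⟩ := hS S
  have hcardS : Nat.card (S : Subgroup ↥(Subgroup.normalizer (T : Set G))) = 8 := by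
    rw [Nat.card_congr e.toEquiv, DihedralGroup.nat_card]
  have hker : ∀ n : Subgroup.normalizer (T : Set G),
      T.normalizerMonoidHom n = 1 ↔ (n : G) ∈ T := by
    intro n
    rw [← MonoidHom.mem_ker, Subgroup.normalizerMonoidHom_ker, hCM, Subgroup.mem_subgroupOf]
  -- the action of `D8`
  let ψ : DihedralGroup 4 →* MulAut ↥T :=
    (T.normalizerMonoidHom.comp (S : Subgroup ↥(Subgroup.normalizer (T : Set G))).subtype).comp
      e.symm.toMonoidHom
  have hψ_apply : ∀ g : DihedralGroup 4,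
      ψ g = T.normalizerMonoidHom ((e.symm g : ↥(S : Subgroup ↥(Subgroup.normalizer (T : Set G)))) :
        ↥(Subgroup.normalizer (T : Set G))) := fun g => rfl
  have hψ : Function.Injective ψ := by
    rw [injective_iff_map_eq_one]
    intro g hg
    rw [hψ_apply, hker] at hg
    set n := e.symm g with hn
    have h3 : ((n : ↥(Subgroup.normalizer (T : Set G))) : G) ^ 3 = 1 := hMel _ hg
    have h3' : n ^ 3 = 1 := by
      apply Subtype.ext
      apply Subtype.ext
      rw [Subgroup.coe_pow, Subgroup.coe_pow, Subgroup.coe_one, Subgroup.coe_one]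
      exact h3
    have h8 : n ^ 8 = 1 := by
      rw [← hcardS]
      exact pow_card_eq_one'
    have h1 : n = 1 := by
      have : n ^ 9 = n ^ 8 * n := pow_succ n 8
      have h9 : n ^ 9 = 1 := by
        rw [show 9 = 3 * 3 from rfl, pow_mul, h3', one_pow]
      rw [h9, h8, one_mul] at this
      exact this.symm
    have : e (e.symm g) = e 1 := by rw [← hn, h1]
    rw [MulEquiv.apply_symm_apply, map_one] at this
    exact this
  have hexpT : ∀ t : ↥T, t ^ 3 = 1 := by
    intro t
    apply Subtype.ext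
    rw [Subgroup.coe_pow, Subgroup.coe_one]
    exact hMel t t.2
  obtain ⟨x', y', g1, g2, g3, hx1, hy1, hyx, hyx', hg1, hg2, hg3, hg12, hg31, h1x, h1y, h2x, h2y,
    h3x, h3y, hall⟩ := hmono hM9 hexpT ψ hψ
  -- the elements of `G`
  set n1 : ↥(Subgroup.normalizer (T : Set G)) := (e.symm g1).1 with hn1
  set n2 : ↥(Subgroup.normalizer (T : Set G)) := (e.symm g2).1 with hn2
  set n3 : ↥(Subgroup.normalizer (T : Set G)) := (e.symm g3).1 with hn3
  have hact : ∀ (n : Subgroup.normalizer (T : Set G)) (t : ↥T),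
      ((T.normalizerMonoidHom n) t : G) = n * t * (n : G)⁻¹ := fun n t => rfl
  have hcoe : ∀ g h : DihedralGroup 4,
      (((e.symm (g * h)).1 : ↥(Subgroup.normalizer (T : Set G))) : G) =
        (((e.symm g).1 : ↥(Subgroup.normalizer (T : Set G))) : G) *
          (((e.symm h).1 : ↥(Subgroup.normalizer (T : Set G))) : G) := by
    intro g h
    rw [map_mul]
    rfl
  have hcoe1 :
      (((e.symm (1 : DihedralGroup 4)).1 : ↥(Subgroup.normalizer (T : Set G))) : G)
        = 1 := by
    rw [map_one]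
    rfl
  have hcoeinv : ∀ g : DihedralGroup 4,
      (((e.symm g⁻¹).1 : ↥(Subgroup.normalizer (T : Set G))) : G) =
        ((((e.symm g).1 : ↥(Subgroup.normalizer (T : Set G))) : G))⁻¹ := by
    intro g
    rw [map_inv]
    rfl
  have hx3 : (x' : G) ^ 3 = 1 := hMel _ x'.2
  have hy3 : (y' : G) ^ 3 = 1 := hMel _ y'.2
  have hx1' : (x' : G) ≠ 1 := fun h => hx1 (Subtype.ext h)
  have hy1' : (y' : G) ≠ 1 := fun h => hy1 (Subtype.ext h)
  refine ⟨x', y', n1, n2, n3, ?_⟩
  refine
    { card := hM9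
      oa := orderOf_eq_prime hx3 hx1'
      ob := orderOf_eq_prime hy3 hy1'
      comm := ?_
      hne := ?_
      hne' := ?_
      mem := ?_
      ht1 := n1.2
      ht2 := n2.2
      hs := n3.2
      t1sq := ?_
      t2sq := ?_
      ssq := ?_
      t12 := ?_
      st1 := ?_
      t1a := ?_
      t1b := ?_
      t2a := ?_
      t2b := ?_
      sa := ?_
      sb := ?_
      cardN := h72
      loc := hCg }
  · have := mul_comm x' y'
    exact congrArg Subtype.val this
  · intro h; exact hyx (Subtype.ext h)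
  · intro h; apply hyx'; apply Subtype.ext; rw [h]; rfl
  · intro t
    constructor
    · intro ht
      have := hall ⟨t, ht⟩
      simp only [Subtype.ext_iff, Subgroup.coe_mul, Subgroup.coe_inv, Subgroup.coe_one] at this
      exact this
    · intro ht
      have hxT := x'.2
      have hyT := y'.2
      rcases ht with h | h | h | h | h | h | h | h | h <;> rw [h]
      · exact T.one_mem
      · exact hxT
      · exact T.inv_mem hxT
      · exact hyT
      · exact T.inv_mem hyT
      · exact T.mul_mem hxT hyT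
      · exact T.mul_mem hxT (T.inv_mem hyT)
      · exact T.mul_mem (T.inv_mem hxT) hyT
      · exact T.mul_mem (T.inv_mem hxT) (T.inv_mem hyT)
  · rw [hn1, ← hcoe, hg1, hcoe1]
  · rw [hn2, ← hcoe, hg2, hcoe1]
  · rw [hn3, ← hcoe, hg3, hcoe1]
  · rw [hn1, hn2, ← hcoe, ← hcoe, hg12]
  · rw [hn3, hn1, hn2, ← hcoeinv, ← hcoe, ← hcoe, hg31]
  · rw [← hact n1 x', hn1, ← hψ_apply, h1x]; rfl
  · rw [← hact n1 y', hn1, ← hψ_apply, h1y]
  · rw [← hact n2 x', hn2, ← hψ_apply, h2x]
  · rw [← hact n2 y', hn2, ← hψ_apply, h2y]; rfl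
  · rw [← hact n3 x', hn3, ← hψ_apply, h3x]
  · rw [← hact n3 y', hn3, ← hψ_apply, h3y]

end grp
end Cfsg.Agent.Lib.Helper41_D8_LOCaux
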