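import Mathlib
import Cfsg.Agent.Lib.Helper1_D8Defs
import Cfsg.Agent.Lib.Helper80_CharComplete
import Cfsg.Agent.Lib.Helper82_H9_LOCA

/-!
# S3716 package LOCA (market `d8_packages`, architect helper1): a dihedral group of order 8 acting
faithfully on `3²` is the monomial group.
-/

set_option autoImplicit false
set_option linter.unusedVariables false
set_option linter.unusedSimpArgs false

namespace Cfsg.Agent.Lib.Helper48_D8_LOCA
open Cfsg Cfsg.Agent.Lib.Helper80_CharBasic Cfsg.Agent.Lib.Helper1_D8Defs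

section aux

variable {A : Type*} [CommGroup A]

/-- the list of the nine elements -/
def L9 (x y t : A) : Prop :=
  t = 1 ∨ t = x ∨ t = x⁻¹ ∨ t = y ∨ t = y⁻¹ ∨
    t = x * y ∨ t = x * y⁻¹ ∨ t = x⁻¹ * y ∨ t = x⁻¹ * y⁻¹

theorem L9_swap {x y : A} (h : ∀ t, L9 x y t) : ∀ t, L9 y x t := by
  intro t
  unfold L9
  rcases h t with h | h | h | h | h | h | h | h | h
  · exact Or.inl h
  · exact Or.inr (Or.inr (Or.inr (Or.inl h)))
  · exact Or.inr (Or.inr (Or.inr (Or.inr (Or.inl h))))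
  · exact Or.inr (Or.inl h)
  · exact Or.inr (Or.inr (Or.inl h))
  · exact Or.inr (Or.inr (Or.inr (Or.inr (Or.inr (Or.inl (by rw [h, mul_comm]))))))
  · exact Or.inr (Or.inr (Or.inr (Or.inr (Or.inr (Or.inr (Or.inr (Or.inl (by rw [h, mul_comm]))))))))
  · exact Or.inr (Or.inr (Or.inr (Or.inr (Or.inr (Or.inr (Or.inl (by rw [h, mul_comm])))))))
  · exact Or.inr (Or.inr (Or.inr (Or.inr (Or.inr (Or.inr (Or.inr (Or.inr (by rw [h, mul_comm]))))))))

theorem L9_inv {x y : A} (h : ∀ t, L9 x y t) : ∀ t, L9 x y⁻¹ t := by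
  intro t
  unfold L9
  rw [inv_inv]
  rcases h t with h | h | h | h | h | h | h | h | h
  · exact Or.inl h
  · exact Or.inr (Or.inl h)
  · exact Or.inr (Or.inr (Or.inl h))
  · exact Or.inr (Or.inr (Or.inr (Or.inr (Or.inl h))))
  · exact Or.inr (Or.inr (Or.inr (Or.inl h)))
  · exact Or.inr (Or.inr (Or.inr (Or.inr (Or.inr (Or.inr (Or.inl h))))))
  · exact Or.inr (Or.inr (Or.inr (Or.inr (Or.inr (Or.inl h)))))
  · exact Or.inr (Or.inr (Or.inr (Or.inr (Or.inr (Or.inr (Or.inr (Or.inr h)))))))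
  · exact Or.inr (Or.inr (Or.inr (Or.inr (Or.inr (Or.inr (Or.inr (Or.inl h)))))))

theorem ne_inv_of_ne_one (hexp : ∀ a : A, a ^ 3 = 1) {y : A} (hy1 : y ≠ 1) : y ≠ y⁻¹ := by
  intro h
  apply hy1
  have h2 : y * y = 1 := by
    calc y * y = y * y⁻¹ := by rw [← h]
      _ = 1 := mul_inv_cancel y
  calc y = y ^ 3 * (y * y)⁻¹ := by group
    _ = 1 := by rw [hexp, h2]; simp

/-- elements inverted by an automorphism inverting `x` and fixing `y` lie in `⟨x⟩` -/
theorem inv_mem (hexp : ∀ a : A, a ^ 3 = 1) {x y : A} (hy1 : y ≠ 1) (hl : ∀ t, L9 x y t)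
    (α : MulAut A) (hx : α x = x⁻¹) (hy : α y = y) (t : A) (ht : α t = t⁻¹) :
    t = 1 ∨ t = x ∨ t = x⁻¹ := by
  have hyy : y ≠ y⁻¹ := ne_inv_of_ne_one hexp hy1
  rcases hl t with h | h | h | h | h | h | h | h | h
  · exact Or.inl h
  · exact Or.inr (Or.inl h)
  · exact Or.inr (Or.inr h)
  · exfalso; apply hyy
    rw [h, hy] at ht; exact ht
  · exfalso; apply hyy
    rw [h, map_inv, hy, inv_inv] at ht; exact ht.symm
  · exfalso; apply hyy
    rw [h, map_mul, hx, hy, mul_inv] at ht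
    exact mul_left_cancel ht
  · exfalso; apply hyy
    rw [h, map_mul, map_inv, hx, hy, mul_inv, inv_inv] at ht
    exact (mul_left_cancel ht).symm
  · exfalso; apply hyy
    rw [h, map_mul, map_inv, hx, hy, mul_inv, inv_inv] at ht
    exact mul_left_cancel ht
  · exfalso; apply hyy
    rw [h, map_mul, map_inv, map_inv, hx, hy, mul_inv, inv_inv, inv_inv] at ht
    exact (mul_left_cancel ht).symm

/-- elements fixed by an automorphism inverting `x` and fixing `y` lie in `⟨y⟩` -/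
theorem fix_mem (hexp : ∀ a : A, a ^ 3 = 1) {x y : A} (hx1 : x ≠ 1) (hl : ∀ t, L9 x y t)
    (α : MulAut A) (hx : α x = x⁻¹) (hy : α y = y) (t : A) (ht : α t = t) :
    t = 1 ∨ t = y ∨ t = y⁻¹ := by
  have hxx : x ≠ x⁻¹ := ne_inv_of_ne_one hexp hx1
  rcases hl t with h | h | h | h | h | h | h | h | h
  · exact Or.inl h
  · exfalso; apply hxx
    rw [h, hx] at ht; exact ht.symm
  · exfalso; apply hxx
    rw [h, map_inv, hx, inv_inv] at ht; exact ht
  · exact Or.inr (Or.inl h)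
  · exact Or.inr (Or.inr h)
  · exfalso; apply hxx
    rw [h, map_mul, hx, hy] at ht
    exact (mul_right_cancel ht).symm
  · exfalso; apply hxx
    rw [h, map_mul, map_inv, hx, hy] at ht
    exact (mul_right_cancel ht).symm
  · exfalso; apply hxx
    rw [h, map_mul, map_inv, hx, hy, inv_inv] at ht
    exact mul_right_cancel ht
  · exfalso; apply hxx
    rw [h, map_mul, map_inv, map_inv, hx, hy, inv_inv] at ht
    exact mul_right_cancel ht

/-- an automorphism is determined by its values at `x`, `y` -/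
theorem aut_ext {x y : A} (hl : ∀ t, L9 x y t) (α β : MulAut A) (h1 : α x = β x)
    (h2 : α y = β y) : α = β := by
  ext t
  rcases hl t with h | h | h | h | h | h | h | h | h <;> rw [h] <;>
    simp only [map_mul, map_inv, map_one, h1, h2]

/-- an automorphism commuting with one that inverts `x` and fixes `y` has square one -/
theorem sq_eq_one_of_comm (hexp : ∀ a : A, a ^ 3 = 1) {x y : A} (hx1 : x ≠ 1) (hy1 : y ≠ 1)
    (hl : ∀ t, L9 x y t) (α : MulAut A) (hx : α x = x⁻¹) (hy : α y = y) (β : MulAut A)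
    (hc : α * β = β * α) : β * β = 1 := by
  have hcomm : ∀ a : A, α (β a) = β (α a) := fun a => by
    have := congrArg (fun f : MulAut A => f a) hc
    simpa using this
  have h1 : β x = 1 ∨ β x = x ∨ β x = x⁻¹ :=
    inv_mem hexp hy1 hl α hx hy (β x) (by rw [hcomm, hx, map_inv])
  have h2 : β y = 1 ∨ β y = y ∨ β y = y⁻¹ :=
    fix_mem hexp hx1 hl α hx hy (β y) (by rw [hcomm, hy])
  have hx' : β x = x ∨ β x = x⁻¹ := by
    rcases h1 with h | h | h
    · exfalso; apply hx1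
      have : β x = β 1 := by rw [h, map_one]
      exact β.injective this
    · exact Or.inl h
    · exact Or.inr h
  have hy' : β y = y ∨ β y = y⁻¹ := by
    rcases h2 with h | h | h
    · exfalso; apply hy1
      have : β y = β 1 := by rw [h, map_one]
      exact β.injective this
    · exact Or.inl h
    · exact Or.inr h
  apply aut_ext hl
  · rw [MulAut.mul_apply, MulAut.one_apply]
    rcases hx' with h | h
    · rw [h, h]
    · rw [h, map_inv, h, inv_inv]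
  · rw [MulAut.mul_apply, MulAut.one_apply]
    rcases hy' with h | h
    · rw [h, h]
    · rw [h, map_inv, h, inv_inv]

end aux

open DihedralGroup in
/-- **LOCA**. -/
theorem monomial {A : Type*} [CommGroup A] (hcard : Nat.card A = 9) (hexp : ∀ x : A, x ^ 3 = 1)
    (ψ : DihedralGroup 4 →* MulAut A) (hψ : Function.Injective ψ) :
    ∃ (x y : A) (g1 g2 g3 : DihedralGroup 4),
      x ≠ 1 ∧ y ≠ 1 ∧ y ≠ x ∧ y ≠ x⁻¹ ∧
      g1 * g1 = 1 ∧ g2 * g2 = 1 ∧ g3 * g3 = 1 ∧ g1 * g2 = g2 * g1 ∧ g3 * g1 * g3⁻¹ = g2 ∧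
      ψ g1 x = x⁻¹ ∧ ψ g1 y = y ∧ ψ g2 x = x ∧ ψ g2 y = y⁻¹ ∧ ψ g3 x = y ∧ ψ g3 y = x ∧
      (∀ t : A, t = 1 ∨ t = x ∨ t = x⁻¹ ∨ t = y ∨ t = y⁻¹ ∨
        t = x * y ∨ t = x * y⁻¹ ∨ t = x⁻¹ * y ∨ t = x⁻¹ * y⁻¹) := by
  -- the four-group `{1, sr 0, sr 2, r 2}`
  have e00 : (sr 0 * sr 0 : DihedralGroup 4) = 1 := by decide
  have e22 : (sr 2 * sr 2 : DihedralGroup 4) = 1 := by decide
  have e11 : (sr 1 * sr 1 : DihedralGroup 4) = 1 := by decide
  have e02 : (sr 0 * sr 2 : DihedralGroup 4) = r 2 := by decide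
  have e20 : (sr 2 * sr 0 : DihedralGroup 4) = r 2 := by decide
  have ec1 : (sr 1 * sr 0 * (sr 1)⁻¹ : DihedralGroup 4) = sr 2 := by decide
  have ec2 : (sr 1 * sr 2 * (sr 1)⁻¹ : DihedralGroup 4) = sr 0 := by decide
  have er : (r 1 * r 1 : DihedralGroup 4) = r 2 := by decide
  have ez : (r 2 * r 1 : DihedralGroup 4) = r 1 * r 2 := by decide
  have n0 : (sr 0 : DihedralGroup 4) ≠ 1 := by decide
  have n2 : (sr 2 : DihedralGroup 4) ≠ 1 := by decide
  have n02 : (sr 0 : DihedralGroup 4) ≠ sr 2 := by decide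
  have nr : (r 2 : DihedralGroup 4) ≠ 1 := by decide
  have hσ2 : ψ (sr 0) * ψ (sr 0) = 1 := by rw [← map_mul, e00, map_one]
  have hτ2 : ψ (sr 2) * ψ (sr 2) = 1 := by rw [← map_mul, e22, map_one]
  have hc : ψ (sr 0) * ψ (sr 2) = ψ (sr 2) * ψ (sr 0) := by
    rw [← map_mul, ← map_mul, e02, e20]
  have hσ1 : ψ (sr 0) ≠ 1 := fun h => n0 (hψ (by rw [h, map_one]))
  have hτ1 : ψ (sr 2) ≠ 1 := fun h => n2 (hψ (by rw [h, map_one]))
  have hστ : ψ (sr 0) ≠ ψ (sr 2) := fun h => n02 (hψ h)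
  obtain ⟨x, y, σ', τ', hσ', hτ', hx1, hy1, hyx, hyx', hσx, hσy, hτx, hτy, hlist⟩ :=
    Cfsg.Agent.Lib.Helper82_H9_LOCA.diag hcard hexp (ψ (sr 0)) (ψ (sr 2)) hσ2 hτ2 hc hσ1 hτ1 hστ
  have hl : ∀ t, L9 x y t := hlist
  have hz : ψ (sr 0) * ψ (sr 2) = ψ (r 2) := by rw [← map_mul, e02]
  -- the central involution is neither `σ'` nor `τ'`
  have hzc : ψ (r 2) * ψ (r 1) = ψ (r 1) * ψ (r 2) := by rw [← map_mul, ← map_mul, ez]
  have hρ : ψ (r 1) * ψ (r 1) ≠ 1 := by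
    rw [← map_mul, er]
    exact fun h => nr (hψ (by rw [h, map_one]))
  have hσz : σ' ≠ ψ (sr 0) * ψ (sr 2) := by
    intro h
    rw [hz] at h
    apply hρ
    exact sq_eq_one_of_comm hexp hx1 hy1 hl (ψ (r 2)) (h ▸ hσx) (h ▸ hσy) (ψ (r 1)) hzc
  have hτz : τ' ≠ ψ (sr 0) * ψ (sr 2) := by
    intro h
    rw [hz] at h
    apply hρ
    exact sq_eq_one_of_comm hexp hy1 hx1 (L9_swap hl) (ψ (r 2)) (h ▸ hτy) (h ▸ hτx) (ψ (r 1)) hzc
  have hxx : x ≠ x⁻¹ := ne_inv_of_ne_one hexp hx1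
  have hστ' : σ' ≠ τ' := by
    intro h
    apply hxx
    calc x = τ' x := hτx.symm
      _ = σ' x := by rw [h]
      _ = x⁻¹ := hσx
  -- the pair `(g1, g2)`
  obtain ⟨g1, g2, hg1, hg2, hg11, hg22, hg12, hg31, hg32⟩ :
      ∃ g1 g2 : DihedralGroup 4, ψ g1 = σ' ∧ ψ g2 = τ' ∧ g1 * g1 = 1 ∧ g2 * g2 = 1 ∧
        g1 * g2 = g2 * g1 ∧ sr 1 * g1 * (sr 1)⁻¹ = g2 ∧ sr 1 * g2 * (sr 1)⁻¹ = g1 := by
    rcases hσ' with h | h | h
    · rcases hτ' with h' | h' | h'
      · exact absurd (h.trans h'.symm) hστ'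
      · exact ⟨sr 0, sr 2, h.symm, h'.symm, e00, e22, by rw [e02, e20], ec1, ec2⟩
      · exact absurd h' hτz
    · rcases hτ' with h' | h' | h'
      · exact ⟨sr 2, sr 0, h.symm, h'.symm, e22, e00, by rw [e02, e20], ec2, ec1⟩
      · exact absurd (h.trans h'.symm) hστ'
      · exact absurd h' hτz
    · exact absurd h hσz
  have h1x : ψ g1 x = x⁻¹ := by rw [hg1]; exact hσx
  have h1y : ψ g1 y = y := by rw [hg1]; exact hσy
  have h2x : ψ g2 x = x := by rw [hg2]; exact hτx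
  have h2y : ψ g2 y = y⁻¹ := by rw [hg2]; exact hτy
  -- `ψ (sr 1) x` is inverted by `ψ g2`
  have hconj : ∀ a : A, ψ g2 (ψ (sr 1) a) = ψ (sr 1) (ψ g1 a) := by
    intro a
    have h : g2 * sr 1 = sr 1 * g1 := by
      rw [← hg31]; group
    have h' : ψ g2 * ψ (sr 1) = ψ (sr 1) * ψ g1 := by rw [← map_mul, ← map_mul, h]
    have := congrArg (fun f : MulAut A => f a) h'
    simpa only [MulAut.mul_apply] using this
  have h33 : ∀ a : A, ψ (sr 1) (ψ (sr 1) a) = a := by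
    intro a
    have h' : ψ (sr 1) * ψ (sr 1) = 1 := by rw [← map_mul, e11, map_one]
    have := congrArg (fun f : MulAut A => f a) h'
    simpa only [MulAut.mul_apply, MulAut.one_apply] using this
  have hw : ψ (sr 1) x = 1 ∨ ψ (sr 1) x = y ∨ ψ (sr 1) x = y⁻¹ :=
    inv_mem hexp hx1 (L9_swap hl) (ψ g2) h2y h2x (ψ (sr 1) x) (by rw [hconj, h1x, map_inv])
  rcases hw with h | h | h
  · exfalso; apply hx1
    have : ψ (sr 1) x = ψ (sr 1) 1 := by rw [h, map_one]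
    exact (ψ (sr 1)).injective this
  · refine ⟨x, y, g1, g2, sr 1, hx1, hy1, hyx, hyx', hg11, hg22, e11, hg12, hg31,
      h1x, h1y, h2x, h2y, h, ?_, hlist⟩
    rw [← h, h33]
  · refine ⟨x, y⁻¹, g1, g2, sr 1, hx1, ?_, ?_, ?_, hg11, hg22, e11, hg12, hg31,
      h1x, ?_, h2x, ?_, h, ?_, L9_inv hl⟩
    · exact fun h' => hy1 (inv_eq_one.mp h')
    · exact fun h' => hyx' (by rw [← h', inv_inv])
    · exact fun h' => hyx (inv_injective h')
    · rw [map_inv, h1y]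
    · rw [map_inv, h2y]
    · rw [← h, h33]

end Cfsg.Agent.Lib.Helper48_D8_LOCA
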