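import Mathlib
import Cfsg.Agent.Lib.Helper1_D8Defs
import Cfsg.Agent.Lib.Helper48_D8_LOCA
import Cfsg.Agent.Lib.Helper41_D8_LOCaux

/-!
# S3716 package LOC (architect helper1, market `d8_packages`): the local analysis `exists_hyp`, verbatim form
(`Helper41_D8_LOCaux.exists_hyp_of` + the landed LOCA `Helper48_D8_LOCA.monomial`).
-/

set_option autoImplicit false
set_option linter.unusedSectionVars false

namespace Cfsg.Agent.Lib.Helper41_D8_LOC
open Cfsg Cfsg.Agent.Lib.Helper80_CharBasic Cfsg.Agent.Lib.Helper1_D8Defs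

section grp
variable {G : Type*} [Group G] [Finite G]

/-! ### LOC: the local analysis -/
theorem exists_hyp (M : Sylow 3 G) (hM9 : Nat.card ↥(M : Subgroup G) = 9)
    (hMel : ∀ m ∈ (M : Subgroup G), m ^ 3 = 1)
    (hCM : Subgroup.centralizer ((M : Subgroup G) : Set G) = (M : Subgroup G))
    (hCg : ∀ g ∈ (M : Subgroup G), g ≠ 1 →
      Subgroup.centralizer ({g} : Set G) ≤ Subgroup.normalizer ((M : Subgroup G) : Set G))
    (hS : ∀ S : Sylow 2 ↥(Subgroup.normalizer ((M : Subgroup G) : Set G)),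
      Nonempty (↥(S : Subgroup ↥(Subgroup.normalizer ((M : Subgroup G) : Set G))) ≃* DihedralGroup 4))
    (h72 : Nat.card (Subgroup.normalizer ((M : Subgroup G) : Set G)) = 72) :
    ∃ a b t1 t2 s : G, Hyp G (M : Subgroup G) a b t1 t2 s :=
  Cfsg.Agent.Lib.Helper41_D8_LOCaux.exists_hyp_of M hM9 hMel hCM hCg hS h72
    (fun h1 h2 ψ hψ => @Cfsg.Agent.Lib.Helper48_D8_LOCA.monomial _
      (Cfsg.Agent.Lib.Helper41_D8_LOCaux.commGroupOfCent _ hCM) h1 h2 ψ hψ)

end grp
end Cfsg.Agent.Lib.Helper41_D8_LOC
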