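import Cfsg.Agent.Lib.Helper6_BNPairC

set_option autoImplicit false
set_option linter.unusedSectionVars false
set_option linter.unusedVariables false

/-!
S5751 package BN-TITS (helper41; architect helper4), auxiliary form: Tits' lemma on normal subgroups for
a maximal parabolic subgroup of an irreducible (B,N)-pair, with the statement of package BN-COMM
(`len_conj_eq_three`) as a hypothesis.
-/

namespace Cfsg.Agent.Lib.Helper41_E8C_BNTITSaux

open Cfsg DoubleCoset Cfsg.Agent.Lib.Helper6_BNPair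
open scoped Pointwise

variable {G : Type*} [Group G] (P : Cfsg.BNPair G)

/-- the length of a representative of a distinguished generator is at most one -/
theorem ℓ_simple_le {σ : P.N} (hσ : IsSimple P σ) : ℓ P σ ≤ 1 := by
  have h := ℓ_simple_mul_le P hσ 1
  have h0 : ℓ P (1 : P.N) = 0 := (ℓ_eq_zero_iff P).2 (by simp [P.B.one_mem])
  rw [mul_one, h0] at h
  exact h

/-- the length of a product of two representatives of distinguished generators is at most two -/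
theorem ℓ_simple_mul_simple_le {σ τ : P.N} (hσ : IsSimple P σ) (hτ : IsSimple P τ) :
    ℓ P (σ * τ) ≤ 2 := by
  have h := ℓ_simple_mul_le P hσ τ
  have h1 := ℓ_simple_le P hτ
  omega

/-- a subgroup containing `B` and an element of `B g B` contains `g` -/
theorem mem_of_mem_C {M : Subgroup G} (hM : P.B ≤ M) {g x : G} (hx : x ∈ C P g) (hxM : x ∈ M) :
    g ∈ M := by
  obtain ⟨a, ha, b, hb, rfl⟩ := (mem_C P).1 hx
  have e : g = a⁻¹ * (a * g * b) * b⁻¹ := by group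
  rw [e]
  exact M.mul_mem (M.mul_mem (M.inv_mem (hM ha)) hxM) (M.inv_mem (hM hb))

/-- BN-TITS with BN-COMM as a hypothesis -/
theorem tits_le_B_aux (hirr : P.Irreducible) {k : G} (hk : k ∈ P.S)
    (hcomm : ∀ {σ τ : P.N}, (σ : G) ∈ P.S → (τ : G) ∈ P.S → (σ : G) ≠ τ →
      (σ : G) * τ * (σ : G)⁻¹ * (τ : G)⁻¹ ∉ P.B → ℓ P (σ * τ * σ⁻¹) = 3)
    (N : Subgroup G)
    (hN : N ≤ P.parabolic (P.S \ {k}) ⊓ (P.parabolic (P.S \ {k})).map (MulAut.conj k).toMonoidHom)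
    (hnorm : P.parabolic (P.S \ {k}) ≤ Subgroup.normalizer (N : Set G)) : N ≤ P.B := by
  have hJ : P.S \ {k} ⊆ P.S := Set.sdiff_subset
  have hBM : P.B ≤ P.parabolic (P.S \ {k}) := B_le_parabolic P _
  have hNM : N ≤ P.parabolic (P.S \ {k}) := hN.trans inf_le_left
  have hkM : k ∉ P.parabolic (P.S \ {k}) := fun h =>
    (mem_of_mem_parabolic P hJ hk h).2 rfl
  -- the subgroup `K = N B`
  have hBK : P.B ≤ N ⊔ P.B := le_sup_right
  have hKM : N ⊔ P.B ≤ P.parabolic (P.S \ {k}) := sup_le hNM hBM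
  have hKeq := subgroup_eq_parabolic P hBK
  have hXS : P.S ∩ ((N ⊔ P.B : Subgroup G) : Set G) ⊆ P.S := Set.inter_subset_left
  have hcoe : ((N ⊔ P.B : Subgroup G) : Set G) = (N : Set G) * (P.B : Set G) :=
    Subgroup.coe_mul_of_right_le_normalizer_left N P.B (hBM.trans hnorm)
  -- it suffices to see that no distinguished generator lies in `K`
  suffices hX : P.S ∩ ((N ⊔ P.B : Subgroup G) : Set G) = ∅ by
    rw [hX] at hKeq
    have : P.parabolic ∅ = P.B := by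
      unfold Cfsg.BNPair.parabolic
      rw [Subgroup.closure_empty, sup_bot_eq]
    rw [this] at hKeq
    calc N ≤ N ⊔ P.B := le_sup_left
      _ = P.B := hKeq
  by_contra hne
  have hXne : (P.S ∩ ((N ⊔ P.B : Subgroup G) : Set G)).Nonempty := Set.nonempty_iff_ne_empty.2 hne
  have hkX : k ∉ P.S ∩ ((N ⊔ P.B : Subgroup G) : Set G) := fun h => hkM (hKM h.2)
  have hcne : (P.S \ (P.S ∩ ((N ⊔ P.B : Subgroup G) : Set G))).Nonempty := ⟨k, hk, hkX⟩
  obtain ⟨s, ⟨hsS, hsK⟩, s', ⟨hs'S, hs'X⟩, hnc⟩ := hirr _ hXS hXne hcne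
  have hs'K : s' ∉ (N ⊔ P.B : Subgroup G) := fun h => hs'X ⟨hs'S, h⟩
  -- `s = h * b` with `h ∈ N`, `b ∈ B`
  have hsK' : s ∈ (N : Set G) * (P.B : Set G) := by rw [← hcoe]; exact hsK
  obtain ⟨h, hhN, b, hbB, hsb⟩ := Set.mem_mul.1 hsK'
  have hbB' : b⁻¹ ∈ P.B := P.B.inv_mem hbB
  have hh : h = s * b⁻¹ := by rw [← hsb]; group
  -- representatives in `N`
  have hσ : IsSimple P (⟨s, P.subset hsS⟩ : P.N) := isSimple_of_mem P hsS
  have hτ : IsSimple P (⟨s', P.subset hs'S⟩ : P.N) := isSimple_of_mem P hs'S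
  have hne' : s' ≠ s := by
    rintro rfl
    exact hs'K hsK
  have hnc' : s' * s * s'⁻¹ * s⁻¹ ∉ P.B := by
    intro hB
    apply hnc
    have e : s * s' * s⁻¹ * s'⁻¹ = (s' * s * s'⁻¹ * s⁻¹)⁻¹ := by group
    rw [e]
    exact P.B.inv_mem hB
  have h3 : ℓ P ((⟨s', P.subset hs'S⟩ : P.N) * ⟨s, P.subset hsS⟩ * (⟨s', P.subset hs'S⟩ : P.N)⁻¹) = 3 :=
    hcomm (σ := ⟨s', P.subset hs'S⟩) (τ := ⟨s, P.subset hsS⟩) hs'S hsS hne' hnc'
  by_cases hs'k : s' = k
  · -- case (b)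
    subst hs'k
    have hhM' : h ∈ (P.parabolic (P.S \ {s'})).map (MulAut.conj s').toMonoidHom :=
      (hN.trans inf_le_right) hhN
    obtain ⟨m, hmM, hmh⟩ := Subgroup.mem_map.1 hhM'
    have hm : m = s'⁻¹ * s * b⁻¹ * s' := by
      have : s' * m * s'⁻¹ = h := hmh
      rw [hh] at this
      calc m = s'⁻¹ * (s' * m * s'⁻¹) * s' := by group
        _ = s'⁻¹ * s * b⁻¹ * s' := by rw [this]; group
    have hT := T3_right P hτ ((⟨s', P.subset hs'S⟩ : P.N)⁻¹ * ⟨s, P.subset hsS⟩) hbB'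
    have e1 : (((⟨s', P.subset hs'S⟩ : P.N)⁻¹ * ⟨s, P.subset hsS⟩ : P.N) : G) = s'⁻¹ * s := rfl
    rw [e1] at hT
    have hmem : s'⁻¹ * s * b⁻¹ * s' ∈ P.parabolic (P.S \ {s'}) := hm ▸ hmM
    have hsM : s ∈ P.parabolic (P.S \ {s'}) := hKM hsK
    rcases hT with hT | hT
    · -- `s'⁻¹ s s' ∈ M`, of length three
      have hnM : s'⁻¹ * s * s' ∈ P.parabolic (P.S \ {s'}) := mem_of_mem_C P hBM hT hmem
      have hl3 : ℓ P ((⟨s', P.subset hs'S⟩ : P.N)⁻¹ * ⟨s, P.subset hsS⟩ * ⟨s', P.subset hs'S⟩) = 3 := by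
        rw [← h3]
        apply ℓ_congr
        rw [map_mul, map_mul, map_mul, map_mul, hτ.π_inv]
      have hle : ℓ P ((⟨s', P.subset hs'S⟩ : P.N) *
          ((⟨s', P.subset hs'S⟩ : P.N)⁻¹ * ⟨s, P.subset hsS⟩ * ⟨s', P.subset hs'S⟩)) ≤
          ℓ P ((⟨s', P.subset hs'S⟩ : P.N)⁻¹ * ⟨s, P.subset hsS⟩ * ⟨s', P.subset hs'S⟩) := by
        rw [hl3]
        have e : (⟨s', P.subset hs'S⟩ : P.N) *
            ((⟨s', P.subset hs'S⟩ : P.N)⁻¹ * ⟨s, P.subset hsS⟩ * ⟨s', P.subset hs'S⟩) =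
            ⟨s, P.subset hsS⟩ * ⟨s', P.subset hs'S⟩ := by group
        rw [e]
        have := ℓ_simple_mul_simple_le P hσ hτ
        omega
      have := simple_mem_of_shorter P hBM hτ hle (fun c hc =>
        Subgroup.mul_mem _ (Subgroup.mul_mem _ hnM (hBM hc)) (Subgroup.inv_mem _ hnM))
      exact hkM this
    · -- `s'⁻¹ s ∈ M`
      have hnM : s'⁻¹ * s ∈ P.parabolic (P.S \ {s'}) := mem_of_mem_C P hBM hT hmem
      have h5 : s * (s'⁻¹ * s)⁻¹ ∈ P.parabolic (P.S \ {s'}) :=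
        Subgroup.mul_mem _ hsM (Subgroup.inv_mem _ hnM)
      have e : s * (s'⁻¹ * s)⁻¹ = s' := by group
      rw [e] at h5
      exact hkM h5
  · -- case (a)
    have hs'J : s' ∈ P.S \ {k} := ⟨hs'S, hs'k⟩
    have hs'M : s' ∈ P.parabolic (P.S \ {k}) :=
      closure_le_parabolic P _ (Subgroup.subset_closure hs'J)
    have hconjN : s' * h * s'⁻¹ ∈ N := (Subgroup.mem_normalizer_iff.1 (hnorm hs'M) h).1 hhN
    have hconjK : s' * s * b⁻¹ * s'⁻¹ ∈ (N ⊔ P.B : Subgroup G) := by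
      have e : s' * s * b⁻¹ * s'⁻¹ = s' * h * s'⁻¹ := by rw [hh]; group
      rw [e]
      exact (le_sup_left : N ≤ N ⊔ P.B) hconjN
    have hT := T3_right P hτ.inv ((⟨s', P.subset hs'S⟩ : P.N) * ⟨s, P.subset hsS⟩) hbB'
    have e1 : (((⟨s', P.subset hs'S⟩ : P.N) * ⟨s, P.subset hsS⟩ : P.N) : G) = s' * s := rfl
    have e2 : (((⟨s', P.subset hs'S⟩ : P.N)⁻¹ : P.N) : G) = s'⁻¹ := rfl
    rw [e1, e2] at hT
    rcases hT with hT | hT
    · -- `s' s s'⁻¹ ∈ K`, of length three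
      have hnK : s' * s * s'⁻¹ ∈ (N ⊔ P.B : Subgroup G) := mem_of_mem_C P hBK hT hconjK
      have hle : ℓ P ((⟨s', P.subset hs'S⟩ : P.N)⁻¹ *
          ((⟨s', P.subset hs'S⟩ : P.N) * ⟨s, P.subset hsS⟩ * (⟨s', P.subset hs'S⟩ : P.N)⁻¹)) ≤
          ℓ P ((⟨s', P.subset hs'S⟩ : P.N) * ⟨s, P.subset hsS⟩ * (⟨s', P.subset hs'S⟩ : P.N)⁻¹) := by
        rw [h3]
        have e : (⟨s', P.subset hs'S⟩ : P.N)⁻¹ *
            ((⟨s', P.subset hs'S⟩ : P.N) * ⟨s, P.subset hsS⟩ * (⟨s', P.subset hs'S⟩ : P.N)⁻¹) =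
            ⟨s, P.subset hsS⟩ * (⟨s', P.subset hs'S⟩ : P.N)⁻¹ := by group
        rw [e]
        have := ℓ_simple_mul_simple_le P hσ hτ.inv
        omega
      have := simple_mem_of_shorter P hBK hτ.inv hle (fun c hc =>
        Subgroup.mul_mem _ (Subgroup.mul_mem _ hnK (hBK hc)) (Subgroup.inv_mem _ hnK))
      have e3 : (((⟨s', P.subset hs'S⟩ : P.N)⁻¹ : P.N) : G) = s'⁻¹ := rfl
      rw [e3] at this
      exact hs'K (by simpa using Subgroup.inv_mem _ this)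
    · -- `s' s ∈ K`
      have hnK : s' * s ∈ (N ⊔ P.B : Subgroup G) := mem_of_mem_C P hBK hT hconjK
      have : s' ∈ (N ⊔ P.B : Subgroup G) := by
        have e : s' = s' * s * s⁻¹ := by group
        rw [e]
        exact Subgroup.mul_mem _ hnK (Subgroup.inv_mem _ hsK)
      exact hs'K this

end Cfsg.Agent.Lib.Helper41_E8C_BNTITSaux
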