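import Cfsg.Agent.Lib.Helper6_BNPairC
import Cfsg.Agent.Lib.Helper41_E8C_BNTITSaux
import Cfsg.Agent.Lib.Helper2_E8C_BNCOMM

set_option autoImplicit false

/-!
S5751 package BN-TITS (helper41; architect helper4): Tits' lemma on normal subgroups for a maximal
parabolic subgroup of an irreducible (B,N)-pair.  `tits_le_B` verbatim = `tits_le_B_aux`
(Helper41_E8C_BNTITSaux) applied to package BN-COMM (`Helper2_E8C_BNCOMM.len_conj_eq_three`).
-/

namespace Cfsg.Agent.Lib.Helper41_E8C_BNTITS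

open Cfsg

/-- BN-TITS. -/
theorem tits_le_B {G : Type*} [Group G] (P : Cfsg.BNPair G) (hirr : P.Irreducible) {k : G} (hk : k ∈ P.S)
    (N : Subgroup G)
    (hN : N ≤ P.parabolic (P.S \ {k}) ⊓ (P.parabolic (P.S \ {k})).map (MulAut.conj k).toMonoidHom)
    (hnorm : P.parabolic (P.S \ {k}) ≤ Subgroup.normalizer (N : Set G)) : N ≤ P.B :=
  Cfsg.Agent.Lib.Helper41_E8C_BNTITSaux.tits_le_B_aux P hirr hk
    (fun hσ hτ hne hnc => Cfsg.Agent.Lib.Helper2_E8C_BNCOMM.len_conj_eq_three P hσ hτ hne hnc)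
    N hN hnorm

end Cfsg.Agent.Lib.Helper41_E8C_BNTITS
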