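import Mathlib
import Cfsg.Agent.Lib.Helper6_FT3Defs

/-!
# S3331-HIGA (helper41, for helper6's market): Higman's lemma for `A₅`, the abelian step

`abelian_step`: `N` a normal 2-subgroup of class at most two with central squares, `G / N ≅ A₅`,
`T ≥ N` a 2-Engel subgroup not contained in `N`: then `N` is abelian.
-/

set_option autoImplicit false

open Cfsg Cfsg.Agent.Lib.Helper6_FT3Defs
open scoped commutatorElement

universe u

namespace Cfsg.Agent.Lib.Helper41_FT3_HIGA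

/-! ### commutator calculus in class two -/

section classTwo

variable {M : Type*} [Group M]

theorem comm_mul_left (hc : ∀ a b c : M, Commute ⁅a, b⁆ c) (a b c : M) :
    ⁅a * b, c⁆ = ⁅a, c⁆ * ⁅b, c⁆ := by
  have h1 : ⁅a * b, c⁆ = a * ⁅b, c⁆ * a⁻¹ * ⁅a, c⁆ := by
    simp only [commutatorElement_def]; group
  have h2 : a * ⁅b, c⁆ = ⁅b, c⁆ * a := ((hc b c a).eq).symm
  rw [h1, h2, mul_assoc ⁅b, c⁆, mul_inv_cancel, mul_one]
  exact (hc b c ⁅a, c⁆).eq

theorem comm_mul_right (hc : ∀ a b c : M, Commute ⁅a, b⁆ c) (a b c : M) :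
    ⁅a, b * c⁆ = ⁅a, b⁆ * ⁅a, c⁆ := by
  have h1 : ⁅a, b * c⁆ = ⁅a, b⁆ * (b * ⁅a, c⁆ * b⁻¹) := by
    simp only [commutatorElement_def]; group
  have h2 : b * ⁅a, c⁆ = ⁅a, c⁆ * b := ((hc a c b).eq).symm
  rw [h1, h2, mul_assoc ⁅a, c⁆, mul_inv_cancel, mul_one]

theorem comm_of_commute_right {a z : M} (h : Commute a z) : ⁅a, z⁆ = 1 :=
  commutatorElement_eq_one_iff_commute.mpr h

theorem comm_sq (hc : ∀ a b c : M, Commute ⁅a, b⁆ c) (hs : ∀ a c : M, Commute (a ^ 2) c)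
    (a b : M) : ⁅a, b⁆ * ⁅a, b⁆ = 1 := by
  rw [← comm_mul_left hc, ← pow_two]
  exact comm_of_commute_right (hs a b)

/-- the key computation: an endomorphism `ρ` with `a` commuting with `ρ a` and fixing all
`ρ a * a⁻¹` fixes all commutators -/
theorem key (hc : ∀ a b c : M, Commute ⁅a, b⁆ c) (hs : ∀ a c : M, Commute (a ^ 2) c)
    (ρ : M →* M) (h3 : ∀ a, Commute a (ρ a)) (h4 : ∀ a, ρ (ρ a * a⁻¹) = ρ a * a⁻¹) (a b : M) :
    ρ ⁅a, b⁆ = ⁅a, b⁆ := by
  -- `s a = ρ a * a⁻¹`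
  have hs_mul : ∀ a b : M, ρ (a * b) * (a * b)⁻¹ =
      ρ a * a⁻¹ * ⁅a, ρ b * b⁻¹⁆ * (ρ b * b⁻¹) := by
    intro a b
    rw [map_mul]
    simp only [commutatorElement_def]
    group
  have hK2 : ∀ a : M, ⁅a, ρ a * a⁻¹⁆ = 1 := by
    intro a
    exact comm_of_commute_right ((h3 a).mul_right (Commute.refl a).inv_right)
  have hK3 : ∀ a b : M, ⁅b, ρ a * a⁻¹⁆ * ⁅a, ρ b * b⁻¹⁆ = 1 := by
    intro a b
    have h1 := hK2 (a * b)
    rw [hs_mul, comm_mul_right hc, comm_mul_right hc, comm_mul_left hc a b (ρ a * a⁻¹),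
      comm_mul_left hc a b (ρ b * b⁻¹), hK2 a, hK2 b, one_mul, mul_one,
      comm_of_commute_right (hc a (ρ b * b⁻¹) (a * b)).symm, mul_one] at h1
    exact h1
  have hK4 : ∀ a b : M, ⁅ρ a * a⁻¹, ρ b * b⁻¹⁆ = 1 := by
    intro a b
    have h1 := hK3 (ρ a * a⁻¹) b
    rw [h4, mul_inv_cancel, commutatorElement_one_right, one_mul] at h1
    exact h1
  have hK5 : ∀ a b : M, ⁅a, ρ b * b⁻¹⁆ = ⁅ρ a * a⁻¹, b⁆ := by
    intro a b
    have h1 := hK3 a b
    rw [← commutatorElement_inv (ρ a * a⁻¹) b] at h1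
    exact (inv_mul_eq_one.mp h1).symm
  have hk4 := hK4 a b
  have hk5 := hK5 a b
  have ea : ρ a = ρ a * a⁻¹ * a := by rw [inv_mul_cancel_right]
  have eb : ρ b = ρ b * b⁻¹ * b := by rw [inv_mul_cancel_right]
  rw [map_commutatorElement, ea, eb]
  generalize ρ a * a⁻¹ = sa at hk4 hk5 ⊢
  generalize ρ b * b⁻¹ = sb at hk4 hk5 ⊢
  rw [comm_mul_left hc, comm_mul_right hc sa, comm_mul_right hc a, hk4, one_mul, hk5, ← mul_assoc,
    comm_sq hc hs, one_mul]

end classTwo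

/-! ### the statement -/

variable {G : Type u} [Group G] [Finite G] {X : Subgroup G}

/-- a nontrivial element of `X` has no fixed point other than `1` on a subgroup of order prime
to three -/
theorem fpf (h : Hyp G X) {A : Subgroup G} (hA : ¬ 3 ∣ Nat.card A) {x a : G} (hx : x ∈ X)
    (hx1 : x ≠ 1) (ha : a ∈ A) (hc : x * a = a * x) : a = 1 := by
  have h3 : Fact (Nat.Prime 3) := ⟨Nat.prime_three⟩
  obtain ⟨hX3, hXc⟩ := h
  -- `X` is generated by `x`
  have hxo : orderOf x = 3 := by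
    have hd : orderOf x ∣ 3 := hX3 ▸ Subgroup.orderOf_dvd_natCard X hx
    rcases (Nat.dvd_prime Nat.prime_three).mp hd with h1 | h1
    · exact absurd (orderOf_eq_one_iff.mp h1) hx1
    · exact h1
  have hXz : X = Subgroup.zpowers x := by
    symm
    apply Subgroup.eq_of_le_of_card_ge (Subgroup.zpowers_le.mpr hx)
    rw [Nat.card_zpowers, hxo, hX3]
  -- `a` centralizes `X`
  have haX : a ∈ X := by
    rw [← hXc, Subgroup.mem_centralizer_iff]
    intro y hy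
    rw [SetLike.mem_coe, hXz, Subgroup.mem_zpowers_iff] at hy
    obtain ⟨k, rfl⟩ := hy
    have hcm : Commute x a := hc
    exact (hcm.zpow_left k).eq
  -- so `a` has order dividing 3 and `|A|`
  have hd1 : orderOf a ∣ 3 := hX3 ▸ Subgroup.orderOf_dvd_natCard X haX
  have hd2 : orderOf a ∣ Nat.card A := Subgroup.orderOf_dvd_natCard A ha
  rcases (Nat.dvd_prime Nat.prime_three).mp hd1 with h1 | h1
  · exact orderOf_eq_one_iff.mp h1
  · rw [h1] at hd2
    exact absurd hd2 hA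

/-- [L] (a) N has class ≤ 2 with [N,N] of exponent 2 (hcl, hsq). B(q₁,q₂) = [q₁,q₂] is bilinear N/Z(N) × N/Z(N) → [N,N].
Fix r ∈ T \ N, R q := [q, r] ∈ N. hE: r commutes with q⁻¹ r q, so [[r,q],r] = 1: R² = 1 (trivial); q commutes with r⁻¹ q r:
B(q, R q) = 1. Polarize: B(q₁, R q₂) = B(R q₁, q₂); B(R q₁, R q₂) = B(R² q₁, q₂) = 1. So conjugation by r fixes every
B(q₁,q₂) (B has exponent 2). C_G([N,N]) ⊴ G contains N and r ∉ N, so it is G (G/N simple); x centralizes [N,N] ≤ N: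
[N,N] = 1 (`SIG.sig_fpf`, N is a signalizer). -/
theorem abelian_step (h : Hyp G X) (N : Subgroup G) [N.Normal] (hN2 : IsPGroup 2 N)
    (hN : Nonempty (G ⧸ N ≃* alternatingGroup (Fin 5)))
    (T : Subgroup G) (hNT : N ≤ T) (hr : ∃ r ∈ T, r ∉ N)
    (hE : ∀ w ∈ T, ∀ u ∈ T, Commute w (u * w * u⁻¹))
    (hcl : ∀ a ∈ N, ∀ b ∈ N, ∀ c ∈ N, Commute (a * b * a⁻¹ * b⁻¹) c)
    (hsq : ∀ a ∈ N, ∀ c ∈ N, Commute (a ^ 2) c) :
    ∀ a ∈ N, ∀ b ∈ N, Commute a b := by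
  classical
  obtain ⟨r, hrT, hrN⟩ := hr
  obtain ⟨e⟩ := hN
  -- the commutators of `N`
  let D : Set G := {g | ∃ a ∈ N, ∃ b ∈ N, g = ⁅a, b⁆}
  have hDN : ∀ d ∈ D, d ∈ N := by
    rintro d ⟨a, ha, b, hb, rfl⟩
    rw [commutatorElement_def]
    exact N.mul_mem (N.mul_mem (N.mul_mem ha hb) (N.inv_mem ha)) (N.inv_mem hb)
  have hDconj : ∀ d ∈ D, ∀ g : G, g * d * g⁻¹ ∈ D := by
    rintro d ⟨a, ha, b, hb, rfl⟩ g
    refine ⟨g * a * g⁻¹, Subgroup.Normal.conj_mem inferInstance a ha g, g * b * g⁻¹,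
      Subgroup.Normal.conj_mem inferInstance b hb g, ?_⟩
    rw [conjugate_commutatorElement]
  -- their centralizer
  let C : Subgroup G := Subgroup.centralizer D
  have hCn : C.Normal := by
    constructor
    intro g hg k
    rw [Subgroup.mem_centralizer_iff] at hg ⊢
    intro d hd
    have h1 := hg (k⁻¹ * d * k⁻¹⁻¹) (hDconj d hd k⁻¹)
    rw [inv_inv] at h1
    calc d * (k * g * k⁻¹) = k * (k⁻¹ * d * k * g) * k⁻¹ := by group
      _ = k * (g * (k⁻¹ * d * k)) * k⁻¹ := by rw [h1]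
      _ = k * g * k⁻¹ * d := by group
  have hNC : N ≤ C := by
    intro n hn
    rw [Subgroup.mem_centralizer_iff]
    rintro d ⟨a, ha, b, hb, rfl⟩
    exact (hcl a ha b hb n hn).eq
  -- the class two hypotheses in `N`
  have hc' : ∀ a b c : ↥N, Commute ⁅a, b⁆ c := by
    intro a b c
    have := hcl a.1 a.2 b.1 b.2 c.1 c.2
    apply Subtype.ext
    simpa [commutatorElement_def] using this.eq
  have hs' : ∀ a c : ↥N, Commute (a ^ 2) c := by
    intro a c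
    have := hsq a.1 a.2 c.1 c.2
    apply Subtype.ext
    simpa using this.eq
  -- `r` centralizes the commutators
  have hrC : r ∈ C := by
    rw [Subgroup.mem_centralizer_iff]
    rintro d ⟨a, ha, b, hb, rfl⟩
    let ρ : ↥N →* ↥N := (MulAut.conjNormal r : ↥N ≃* ↥N).toMonoidHom
    have hρ : ∀ q : ↥N, ((ρ q : ↥N) : G) = r * q * r⁻¹ := fun q => by
      simp [ρ]
    have h3 : ∀ q : ↥N, Commute q (ρ q) := by
      intro q
      apply Subtype.ext
      rw [Subgroup.coe_mul, Subgroup.coe_mul, hρ]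
      exact (hE q.1 (hNT q.2) r hrT).eq
    have h4 : ∀ q : ↥N, ρ (ρ q * q⁻¹) = ρ q * q⁻¹ := by
      intro q
      apply Subtype.ext
      rw [hρ, Subgroup.coe_mul, hρ, Subgroup.coe_inv]
      -- `r` commutes with `r q r⁻¹ q⁻¹`
      have h5 : Commute r (q.1 * r * q.1⁻¹) := hE r hrT q.1 (hNT q.2)
      have h6 : Commute r (r * (q.1 * r * q.1⁻¹)⁻¹) := (Commute.refl r).mul_right h5.inv_right
      have h7 : r * (q.1 * r * q.1⁻¹)⁻¹ = r * q.1 * r⁻¹ * q.1⁻¹ := by group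
      rw [h7] at h6
      rw [h6.eq, mul_inv_cancel_right]
    have hk := key hc' hs' ρ h3 h4 ⟨a, ha⟩ ⟨b, hb⟩
    have hk' : r * ⁅a, b⁆ * r⁻¹ = ⁅a, b⁆ := by
      have h8 := congrArg (fun q : ↥N => (q : G)) hk
      have hcoe : ((⁅(⟨a, ha⟩ : ↥N), ⟨b, hb⟩⁆ : ↥N) : G) = ⁅a, b⁆ := rfl
      change ((ρ ⁅(⟨a, ha⟩ : ↥N), ⟨b, hb⟩⁆ : ↥N) : G) = ((⁅(⟨a, ha⟩ : ↥N), ⟨b, hb⟩⁆ : ↥N) : G) at h8
      rw [hρ, hcoe] at h8
      exact h8
    calc ⁅a, b⁆ * r = (r * ⁅a, b⁆ * r⁻¹) * r := by rw [hk']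
      _ = r * ⁅a, b⁆ := by group
  -- `G / N` is simple, so `C = ⊤`
  have hnt : Nontrivial (G ⧸ N) := e.surjective.nontrivial
  have hsimple : IsSimpleGroup (G ⧸ N) :=
    IsSimpleGroup.isSimpleGroup_of_surjective e.symm.toMonoidHom e.symm.surjective
  have hmapn : (C.map (QuotientGroup.mk' N)).Normal :=
    Subgroup.Normal.map hCn _ (QuotientGroup.mk'_surjective N)
  have hmap : C.map (QuotientGroup.mk' N) = ⊤ := by
    rcases hmapn.eq_bot_or_eq_top with h1 | h1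
    · exfalso
      have : QuotientGroup.mk' N r ∈ C.map (QuotientGroup.mk' N) := Subgroup.mem_map_of_mem _ hrC
      rw [h1, Subgroup.mem_bot] at this
      exact hrN ((QuotientGroup.eq_one_iff r).mp this)
    · exact h1
  have hCtop : ∀ g : G, g ∈ C := by
    intro g
    have : QuotientGroup.mk' N g ∈ C.map (QuotientGroup.mk' N) := by rw [hmap]; trivial
    obtain ⟨c, hcC, hcg⟩ := Subgroup.mem_map.mp this
    have h1 : c⁻¹ * g ∈ N := by
      have := QuotientGroup.eq.mp hcg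
      exact this
    have : g = c * (c⁻¹ * g) := by group
    rw [this]
    exact C.mul_mem hcC (hNC h1)
  -- a nontrivial element of `X` centralizes the commutators
  have h3N : ¬ 3 ∣ Nat.card N := by
    obtain ⟨k, hk⟩ := IsPGroup.iff_card.mp hN2
    rw [hk]
    intro h3
    have := (Nat.Prime.dvd_of_dvd_pow Nat.prime_three h3)
    omega
  obtain ⟨x, hxX, hx1⟩ : ∃ x ∈ X, x ≠ 1 := by
    have hX3 := h.1
    by_contra hno
    push Not at hno
    have : X = ⊥ := (Subgroup.eq_bot_iff_forall X).mpr hno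
    rw [this, Subgroup.card_bot] at hX3
    omega
  intro a ha b hb
  have hd : ⁅a, b⁆ ∈ D := ⟨a, ha, b, hb, rfl⟩
  have hxc := (Subgroup.mem_centralizer_iff.mp (hCtop x)) ⁅a, b⁆ hd
  have h1 : ⁅a, b⁆ = 1 := fpf h h3N hxX hx1 (hDN _ hd) hxc.symm
  exact commutatorElement_eq_one_iff_commute.mp h1

end Cfsg.Agent.Lib.Helper41_FT3_HIGA
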