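import Mathlib
import Cfsg.Agent.Lib.Helper6_FT3Defs
import Cfsg.Agent.Lib.Helper41_FT3_HIGA

/-!
# S3331-HIGB (helper41, for helper6's market): Higman's lemma for `A₅`, the exponent step

`exponent_step`: `N` an abelian normal 2-subgroup, `G / N ≅ A₅`, `T ≥ N` a 2-Engel subgroup not
contained in `N` with `r ^ 2 ∈ N` for `r ∈ T`: then `N` has exponent two.
-/

set_option autoImplicit false

open Cfsg Cfsg.Agent.Lib.Helper6_FT3Defs

universe u

namespace Cfsg.Agent.Lib.Helper41_FT3_HIGB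

variable {G : Type u} [Group G]

/-- a normal subgroup containing `N` and an element outside `N` is everything, if `G / N ≅ A₅` -/
theorem mem_of_quotient_A5 (N : Subgroup G) [N.Normal]
    (hN : Nonempty (G ⧸ N ≃* alternatingGroup (Fin 5))) (C : Subgroup G) (hCn : C.Normal)
    (hNC : N ≤ C) {r : G} (hrC : r ∈ C) (hrN : r ∉ N) (g : G) : g ∈ C := by
  obtain ⟨e⟩ := hN
  have hnt : Nontrivial (G ⧸ N) := e.surjective.nontrivial
  have hsimple : IsSimpleGroup (G ⧸ N) :=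
    IsSimpleGroup.isSimpleGroup_of_surjective e.symm.toMonoidHom e.symm.surjective
  have hmapn : (C.map (QuotientGroup.mk' N)).Normal :=
    Subgroup.Normal.map hCn _ (QuotientGroup.mk'_surjective N)
  have hmap : C.map (QuotientGroup.mk' N) = ⊤ := by
    rcases hmapn.eq_bot_or_eq_top with h1 | h1
    · exfalso
      have : QuotientGroup.mk' N r ∈ C.map (QuotientGroup.mk' N) := Subgroup.mem_map_of_mem _ hrC
      rw [h1, Subgroup.mem_bot] at this
      exact hrN ((QuotientGroup.eq_one_iff r).mp this)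
    · exact h1
  have : QuotientGroup.mk' N g ∈ C.map (QuotientGroup.mk' N) := by rw [hmap]; trivial
  obtain ⟨c, hcC, hcg⟩ := Subgroup.mem_map.mp this
  have h1 : c⁻¹ * g ∈ N := QuotientGroup.eq.mp hcg
  have : g = c * (c⁻¹ * g) := by group
  rw [this]
  exact C.mul_mem hcC (hNC h1)

variable [Finite G] {X : Subgroup G}

/-- [M] (b) N abelian, r ∈ T \ N, r² ∈ N acts trivially on N. hE: [[q,r],r] = 1, i.e. (ρ-1)² = 0 for ρ = conjugation by r
on N, and ρ² = 1, so 2(1-ρ) = 0: [q,r]² = 1. The elements of G acting trivially on N/Ω₁(N) form a normal subgroup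
containing N and r, so all of G; so q⁻¹ (x q x⁻¹) ∈ Ω₁(N) for all q ∈ N, and q ↦ q⁻¹ (x q x⁻¹) is onto N (fpf). -/
theorem exponent_step (h : Hyp G X) (N : Subgroup G) [N.Normal] (hN2 : IsPGroup 2 N)
    (hN : Nonempty (G ⧸ N ≃* alternatingGroup (Fin 5)))
    (T : Subgroup G) (hNT : N ≤ T) (hr : ∃ r ∈ T, r ∉ N) (hT2 : ∀ r ∈ T, r ^ 2 ∈ N)
    (hE : ∀ w ∈ T, ∀ u ∈ T, Commute w (u * w * u⁻¹))
    (hab : ∀ a ∈ N, ∀ b ∈ N, Commute a b) :
    ∀ a ∈ N, a ^ 2 = 1 := by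
  classical
  obtain ⟨r, hrT, hrN⟩ := hr
  have hconj : ∀ g : G, ∀ q ∈ N, g * q * g⁻¹ ∈ N := fun g q hq =>
    Subgroup.Normal.conj_mem inferInstance q hq g
  -- the elements of `N` of square one
  let Ω : Subgroup G :=
    { carrier := {a | a ∈ N ∧ a ^ 2 = 1}
      one_mem' := ⟨N.one_mem, one_pow 2⟩
      mul_mem' := by
        rintro a b ⟨ha, ha2⟩ ⟨hb, hb2⟩
        exact ⟨N.mul_mem ha hb, by rw [(hab a ha b hb).mul_pow, ha2, hb2, one_mul]⟩
      inv_mem' := by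
        rintro a ⟨ha, ha2⟩
        exact ⟨N.inv_mem ha, by rw [inv_pow, ha2, inv_one]⟩ }
  have hΩ : ∀ a : G, a ∈ Ω ↔ a ∈ N ∧ a ^ 2 = 1 := fun a => Iff.rfl
  have hΩconj : ∀ a ∈ Ω, ∀ g : G, g * a * g⁻¹ ∈ Ω := by
    rintro a ⟨ha, ha2⟩ g
    exact ⟨hconj g a ha, by rw [conj_pow, ha2, mul_one, mul_inv_cancel]⟩
  -- the elements acting trivially on `N / Ω`
  let K : Subgroup G :=
    { carrier := {g | ∀ q ∈ N, g * q * g⁻¹ * q⁻¹ ∈ Ω}
      one_mem' := by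
        intro q _
        have : (1 : G) * q * 1⁻¹ * q⁻¹ = 1 := by group
        rw [this]
        exact Ω.one_mem
      mul_mem' := by
        intro g k hg hk q hq
        have e : g * k * q * (g * k)⁻¹ * q⁻¹ =
            (g * (k * q * k⁻¹) * g⁻¹ * (k * q * k⁻¹)⁻¹) * (k * q * k⁻¹ * q⁻¹) := by group
        rw [e]
        exact Ω.mul_mem (hg _ (hconj k q hq)) (hk q hq)
      inv_mem' := by
        intro g hg q hq
        have e : g⁻¹ * q * g⁻¹⁻¹ * q⁻¹ =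
            (g * (g⁻¹ * q * g⁻¹⁻¹) * g⁻¹ * (g⁻¹ * q * g⁻¹⁻¹)⁻¹)⁻¹ := by group
        rw [e]
        exact Ω.inv_mem (hg _ (hconj g⁻¹ q hq)) }
  have hK : ∀ g : G, g ∈ K ↔ ∀ q ∈ N, g * q * g⁻¹ * q⁻¹ ∈ Ω := fun g => Iff.rfl
  have hKn : K.Normal := by
    constructor
    intro g hg k
    rw [hK] at hg ⊢
    intro q hq
    have e : k * g * k⁻¹ * q * (k * g * k⁻¹)⁻¹ * q⁻¹ =
        k * (g * (k⁻¹ * q * k⁻¹⁻¹) * g⁻¹ * (k⁻¹ * q * k⁻¹⁻¹)⁻¹) * k⁻¹ := by group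
    rw [e]
    exact hΩconj _ (hg _ (hconj k⁻¹ q hq)) k
  have hNK : N ≤ K := by
    intro n hn
    rw [hK]
    intro q hq
    have : n * q * n⁻¹ * q⁻¹ = 1 := by
      rw [(hab n hn q hq).eq, mul_inv_cancel_right, mul_inv_cancel]
    rw [this]
    exact Ω.one_mem
  -- `r` acts trivially on `N / Ω`
  have hrK : r ∈ K := by
    rw [hK]
    intro q hq
    have hcN : r * q * r⁻¹ * q⁻¹ ∈ N := N.mul_mem (hconj r q hq) (N.inv_mem hq)
    refine ⟨hcN, ?_⟩
    -- `r` commutes with `c = r q r⁻¹ q⁻¹`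
    have h5 : Commute r (q * r * q⁻¹) := hE r hrT q (hNT hq)
    have h6 : Commute r (r * (q * r * q⁻¹)⁻¹) := (Commute.refl r).mul_right h5.inv_right
    have h7 : r * (q * r * q⁻¹)⁻¹ = r * q * r⁻¹ * q⁻¹ := by group
    rw [h7] at h6
    -- `r²` commutes with `q`
    have h8 : Commute (r * r) q := by
      have := hab _ (hT2 r hrT) q hq
      rwa [pow_two] at this
    -- so `r c r⁻¹ = c⁻¹`
    have h9 : r * (r * q * r⁻¹ * q⁻¹) * r⁻¹ = (r * q * r⁻¹ * q⁻¹)⁻¹ := by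
      have e1 : r * (r * q * r⁻¹ * q⁻¹) * r⁻¹ = (r * r * q) * (r * r)⁻¹ * (r * q⁻¹ * r⁻¹) := by
        group
      have e2 : (r * q * r⁻¹ * q⁻¹)⁻¹ = q * (r * q⁻¹ * r⁻¹) := by group
      rw [e1, e2, h8.eq, mul_inv_cancel_right]
    have h10 : r * (r * q * r⁻¹ * q⁻¹) * r⁻¹ = r * q * r⁻¹ * q⁻¹ := by
      rw [h6.eq, mul_inv_cancel_right]
    rw [h10] at h9
    rw [pow_two]
    exact mul_eq_one_iff_eq_inv.mpr h9
  have hKtop : ∀ g : G, g ∈ K := mem_of_quotient_A5 N hN K hKn hNK hrK hrN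
  -- a nontrivial element of `X`
  have h3N : ¬ 3 ∣ Nat.card N := by
    obtain ⟨k, hk⟩ := IsPGroup.iff_card.mp hN2
    rw [hk]
    intro h3
    have := (Nat.Prime.dvd_of_dvd_pow Nat.prime_three h3)
    omega
  obtain ⟨x, hxX, hx1⟩ : ∃ x ∈ X, x ≠ 1 := by
    have hX3 := h.1
    by_contra hno
    push Not at hno
    have : X = ⊥ := (Subgroup.eq_bot_iff_forall X).mpr hno
    rw [this, Subgroup.card_bot] at hX3
    omega
  -- `q ↦ x q x⁻¹ q⁻¹` is injective, hence surjective, on `N`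
  let f : ↥N → ↥N := fun q => ⟨x * q * x⁻¹ * q⁻¹, N.mul_mem (hconj x q q.2) (N.inv_mem q.2)⟩
  have hf : Function.Injective f := by
    intro q q' hqq
    have h1 : x * q * x⁻¹ * (q : G)⁻¹ = x * q' * x⁻¹ * (q' : G)⁻¹ := congrArg Subtype.val hqq
    have h2 : x * ((q' : G)⁻¹ * q) = ((q' : G)⁻¹ * q) * x := by
      have e1 : x * ((q' : G)⁻¹ * q) = (x * q' * x⁻¹)⁻¹ * (x * q * x⁻¹ * (q : G)⁻¹) * q * x := by
        group
      rw [e1, h1]
      group
    have h3 := Cfsg.Agent.Lib.Helper41_FT3_HIGA.fpf h h3N hxX hx1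
      (N.mul_mem (N.inv_mem q'.2) q.2) h2
    apply Subtype.ext
    exact (inv_mul_eq_one.mp h3).symm
  have hfs : Function.Surjective f := Finite.injective_iff_surjective.mp hf
  intro a ha
  obtain ⟨q, hq⟩ := hfs ⟨a, ha⟩
  have h1 : x * q * x⁻¹ * (q : G)⁻¹ = a := congrArg Subtype.val hq
  have h2 := (hK x).mp (hKtop x) q q.2
  rw [h1] at h2
  exact h2.2

end Cfsg.Agent.Lib.Helper41_FT3_HIGB
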