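import Mathlib
import Cfsg.Agent.Lib.Helper34_G2InvDefs
import Cfsg.Agent.Lib.Helper34_G2InvBasic
import Cfsg.Agent.Lib.Helper24_G2I_CJ
import Cfsg.Agent.Lib.Helper41_G2I_REDA1aux

/-!
# S2177 (involution classes of `G₂(q)`, `q ≥ 4` even), market `s2177_packages` (architect helper34):
package REDA1, verbatim form (`Helper41_G2I_REDA1aux.REDA1_aux` + the landed `Helper24_G2I_CJ.CJ`).
-/

set_option autoImplicit false

namespace Cfsg.Agent.Lib.Helper41_G2I_REDA1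

open Cfsg Cfsg.Lie Cfsg.Agent.Lib.Helper34_G2InvDefs Cfsg.Agent.Lib.Helper34_G2InvBasic

section Abstract

variable {F : Type*} [Field F] [CharP F 2] {Γ : Type*} [Group Γ] {X : ℕ → F → Γ}

variable {na nb : Γ} {K : Subgroup Γ}

/-- REDA1 (L; dep CJ).  Case `t = 0`, `s ≠ 0`. -/
theorem REDA1 (hsq : ∀ x : F, ∃ y, y * y = x) (h : URel X) (hw : WRel X na nb)
    (hX : ∀ r t, X r t ∈ K) (hna : na ∈ K) (hnb : nb ∈ K)
    (hs9 : ∀ t : F, t ≠ 0 → ConjIn K (X 9 t) (X 9 1))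
    (hs11 : ∀ t : F, t ≠ 0 → ConjIn K (X 11 t) (X 11 1))
    (s c d e f : F) (hs : s ≠ 0) (hse : s * e = c * d) :
    ConjIn K (PW X s 0 c d e f) (X 11 1) ∨ ConjIn K (PW X s 0 c d e f) (X 9 1) :=
  Cfsg.Agent.Lib.Helper41_G2I_REDA1aux.REDA1_aux
    (fun s t c d e f y => Cfsg.Agent.Lib.Helper24_G2I_CJ.CJ h s t c d e f y)
    hsq h hw hX hna hnb hs9 hs11 s c d e f hs hse

end Abstract

end Cfsg.Agent.Lib.Helper41_G2I_REDA1
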