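import Mathlib
import Cfsg.Prelude.Def_Characters
import Cfsg.Agent.Lib.Helper80_CharBasic
import Cfsg.Agent.Lib.Helper6_GL23Defs
import Cfsg.Agent.Lib.Helper3_CharEigen

set_option autoImplicit false
open scoped ComplexConjugate

/-!
# S0197 package CYC8 (helper41, for helper6's market)

Eigenvalue multiplicities of `ρ(a)` for `a` of order 8 conjugate to `a³`: the multiplicity of `ζ^j` equals that
of `ζ^{3j}`, which gives the shape of the values of an irreducible character on `1, a⁴ = t, a², a`.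
-/

namespace Cfsg.Agent.Lib.Helper41_GL23_CYC8

open Cfsg Cfsg.Agent.Lib.Helper80_CharBasic Cfsg.Agent.Lib.Helper6_GL23Defs
  Cfsg.Agent.Lib.Helper3_CharEigen

section linalg

variable {V : Type*} [AddCommGroup V] [Module ℂ V]

/-- for `f ^ 8 = 1` and `μ ^ 8 = 1` the `μ`-eigenspace of `f ^ 3` is the `μ ^ 3`-eigenspace of `f` -/
theorem eigenspace_pow_three (f : Module.End ℂ V) (hf : f ^ 8 = 1) (μ : ℂ) (hμ : μ ^ 8 = 1) :
    Module.End.eigenspace (f ^ 3) μ = Module.End.eigenspace f (μ ^ 3) := by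
  have h3 : ∀ v : V, (f ^ 3) v = f (f (f v)) := by
    intro v
    simp [pow_succ, Module.End.mul_apply]
  ext v
  simp only [Module.End.mem_eigenspace_iff]
  constructor
  · intro h
    have h9 : f ^ 9 = f := by
      rw [show (9 : ℕ) = 8 + 1 from rfl, pow_succ, hf, one_mul]
    have h9' : (f ^ 9) v = (f ^ 3) ((f ^ 3) ((f ^ 3) v)) := by
      rw [show (9 : ℕ) = 3 + (3 + 3) from rfl, pow_add, pow_add]
      rfl
    rw [h9] at h9'
    rw [h9']
    simp only [map_smul, h, smul_smul]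
    congr 1
    ring
  · intro h
    rw [h3]
    simp only [map_smul, h, smul_smul]
    have e : μ ^ 3 * μ ^ 3 * μ ^ 3 = μ := by
      calc μ ^ 3 * μ ^ 3 * μ ^ 3 = μ ^ 8 * μ := by ring
        _ = μ := by rw [hμ, one_mul]
    rw [e]

end linalg

section rep

variable {G : Type*} [Group G] {V : Type*} [AddCommGroup V] [Module ℂ V]
  (ρ : Representation ℂ G V)

/-- conjugate elements have eigenspaces of the same dimension -/
theorem finrank_eigenspace_conj (c a : G) (μ : ℂ) :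
    Module.finrank ℂ (Module.End.eigenspace (ρ (c * a * c⁻¹)) μ) =
      Module.finrank ℂ (Module.End.eigenspace (ρ a) μ) := by
  have h1 : (ρ c).comp (ρ c⁻¹) = LinearMap.id := by
    have : ρ c * ρ c⁻¹ = 1 := by rw [← map_mul, mul_inv_cancel, map_one]
    exact this
  have h2 : (ρ c⁻¹).comp (ρ c) = LinearMap.id := by
    have : ρ c⁻¹ * ρ c = 1 := by rw [← map_mul, inv_mul_cancel, map_one]
    exact this
  let e : V ≃ₗ[ℂ] V := LinearEquiv.ofLinearMap (ρ c) (ρ c⁻¹) h1 h2
  have he : ∀ v, e v = ρ c v := fun v => rfl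
  have hmap : (Module.End.eigenspace (ρ a) μ).map (e : V →ₗ[ℂ] V) =
      Module.End.eigenspace (ρ (c * a * c⁻¹)) μ := by
    ext w
    simp only [Submodule.mem_map, Module.End.mem_eigenspace_iff]
    constructor
    · rintro ⟨v, hv, rfl⟩
      show ρ (c * a * c⁻¹) (ρ c v) = μ • ρ c v
      rw [← Module.End.mul_apply, ← map_mul, inv_mul_cancel_right, map_mul, Module.End.mul_apply, hv,
        map_smul]
    · intro hw
      refine ⟨ρ c⁻¹ w, ?_, ?_⟩
      · rw [← Module.End.mul_apply, ← map_mul]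
        have e1 : a * c⁻¹ = c⁻¹ * (c * a * c⁻¹) := by group
        rw [e1, map_mul, Module.End.mul_apply, hw, map_smul]
      · show ρ c (ρ c⁻¹ w) = w
        rw [← Module.End.mul_apply, ← map_mul, mul_inv_cancel, map_one]
        rfl
  rw [← hmap]
  exact LinearEquiv.finrank_map_eq e _

end rep

/-! ### the primitive eighth root of unity -/

/-- `ζ = (1 + i)/√2` -/
noncomputable def zeta : ℂ := ⟨Real.sqrt 2 / 2, Real.sqrt 2 / 2⟩

theorem zeta_sq : zeta ^ 2 = Complex.I := by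
  have h : Real.sqrt 2 * Real.sqrt 2 = 2 := Real.mul_self_sqrt (by norm_num)
  apply Complex.ext
  · simp [zeta, pow_two]
  · simp only [zeta, pow_two, Complex.mul_im, Complex.I_im]
    nlinarith [h]

theorem zeta_rt : zeta * (1 + Complex.I) = rt := by
  have h : Real.sqrt 2 * Real.sqrt 2 = 2 := Real.mul_self_sqrt (by norm_num)
  apply Complex.ext
  · simp [zeta, rt]
  · simp only [zeta, rt, Complex.mul_im, Complex.add_re, Complex.one_re, Complex.I_re, Complex.add_im,
      Complex.one_im, Complex.I_im, Complex.ofReal_re, Complex.ofReal_im]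
    ring

theorem zeta_four : zeta ^ 4 = -1 := by
  rw [show (4 : ℕ) = 2 * 2 from rfl, pow_mul, zeta_sq, Complex.I_sq]

theorem zeta_eight : zeta ^ 8 = 1 := by
  rw [show (8 : ℕ) = 4 * 2 from rfl, pow_mul, zeta_four]
  norm_num

theorem zeta_prim : IsPrimitiveRoot zeta 8 := by
  rw [IsPrimitiveRoot.iff_orderOf]
  have h := orderOf_eq_prime_pow (x := zeta) (p := 2) (n := 2)
    (by rw [show (2 : ℕ) ^ 2 = 4 from rfl, zeta_four]; norm_num)
    (by rw [show (2 : ℕ) ^ (2 + 1) = 8 from rfl, zeta_eight])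
  simpa using h


/-! ### the package statement -/

section main

variable {G : Type*} [Group G] [Finite G] {t a s : G}

theorem cyc8 (h : Loc G t a s) (χ : IrrCharacter G) :
    ∃ μ0 μ1 μ2 μ4 μ5 : ℕ,
      (χ : G → ℂ) 1 = (μ0 : ℂ) + μ4 + 2 * μ2 + 2 * μ1 + 2 * μ5 ∧
      (χ : G → ℂ) t = (μ0 : ℂ) + μ4 + 2 * μ2 - 2 * μ1 - 2 * μ5 ∧
      (χ : G → ℂ) (a ^ 2) = (μ0 : ℂ) + μ4 - 2 * μ2 ∧
      (χ : G → ℂ) a = ((μ0 : ℂ) - μ4) + ((μ1 : ℂ) - μ5) * rt := by
  obtain ⟨n, ρ, _, hχ⟩ := χ.2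
  have hval : ∀ g, (χ : G → ℂ) g = ρ.character g := fun g => by rw [← hχ]
  have hf8 : (ρ a) ^ 8 = 1 := by
    have := rho_pow_orderOf ρ a
    rwa [h.oa] at this
  let m : ℂ → ℕ := fun μ => Module.finrank ℂ (Module.End.eigenspace (ρ a) μ)
  obtain ⟨c, hc⟩ := isConj_iff.mp h.a3
  have hm3 : ∀ μ : ℂ, μ ^ 8 = 1 → m (μ ^ 3) = m μ := by
    intro μ hμ
    have h1 := finrank_eigenspace_conj ρ c a μ
    rw [hc, map_pow, eigenspace_pow_three (ρ a) hf8 μ hμ] at h1
    exact h1
  have hsum : ∀ k : ℕ, ρ.character (a ^ k) =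
      ∑ j ∈ Finset.range 8, (m (zeta ^ j) : ℂ) * (zeta ^ j) ^ k := by
    intro k
    rw [char_pow_eq_sum]
    have hsub : eigSet (ρ a) ⊆ (Finset.range 8).image (fun j => zeta ^ j) := by
      intro μ hμ
      have h8 : μ ^ 8 = 1 := by
        have := eig_pow_orderOf ρ hμ
        rwa [h.oa] at this
      obtain ⟨i, hi, hi'⟩ := zeta_prim.eq_pow_of_pow_eq_one h8
      exact Finset.mem_image.mpr ⟨i, Finset.mem_range.mpr hi, hi'⟩
    rw [Finset.sum_subset hsub]
    · rw [Finset.sum_image]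
      intro i hi j hj hij
      exact zeta_prim.pow_inj (Finset.mem_range.mp hi) (Finset.mem_range.mp hj) hij
    · intro μ _ hμ
      have hbot : Module.End.eigenspace (ρ a) μ = ⊥ := by
        by_contra hne
        exact hμ (mem_eigSet.mpr hne)
      rw [hbot, finrank_bot]
      simp
  have z8 : ∀ j : ℕ, (zeta ^ j) ^ 8 = 1 := fun j => by
    rw [← pow_mul, mul_comm, pow_mul, zeta_eight, one_pow]
  have e3 : m (zeta ^ 3) = m (zeta ^ 1) := by
    have := hm3 (zeta ^ 1) (z8 1)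
    rwa [← pow_mul] at this
  have e6 : m (zeta ^ 6) = m (zeta ^ 2) := by
    have := hm3 (zeta ^ 2) (z8 2)
    rwa [← pow_mul] at this
  have e7 : m (zeta ^ 7) = m (zeta ^ 5) := by
    have := hm3 (zeta ^ 5) (z8 5)
    rw [← pow_mul] at this
    have e15 : zeta ^ (5 * 3) = zeta ^ 7 := by
      rw [show 5 * 3 = 8 + 7 from rfl, pow_add, zeta_eight, one_mul]
    rwa [e15] at this
  have p4 : ∀ j : ℕ, (zeta ^ j) ^ 4 = (-1) ^ j := fun j => by
    rw [← pow_mul, mul_comm, pow_mul, zeta_four]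
  have p2 : ∀ j : ℕ, (zeta ^ j) ^ 2 = Complex.I ^ j := fun j => by
    rw [← pow_mul, mul_comm, pow_mul, zeta_sq]
  have I3 : Complex.I ^ 3 = -Complex.I := by
    rw [pow_succ, Complex.I_sq]; ring
  have I4 : Complex.I ^ 4 = 1 := by
    rw [show (4 : ℕ) = 2 * 2 from rfl, pow_mul, Complex.I_sq]; norm_num
  have I5 : Complex.I ^ 5 = Complex.I := by
    rw [pow_succ, I4, one_mul]
  have I6 : Complex.I ^ 6 = -1 := by
    rw [pow_succ, I5, ← pow_two, Complex.I_sq]
  have I7 : Complex.I ^ 7 = -Complex.I := by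
    rw [pow_succ, I6]; ring
  have q3 : zeta ^ 3 = Complex.I * zeta := by rw [pow_succ, zeta_sq]
  have q5 : zeta ^ 5 = -zeta := by rw [pow_succ, zeta_four]; ring
  have q6 : zeta ^ 6 = -Complex.I := by
    rw [show (6 : ℕ) = 4 + 2 from rfl, pow_add, zeta_four, zeta_sq]; ring
  have q7 : zeta ^ 7 = -(Complex.I * zeta) := by
    rw [show (7 : ℕ) = 4 + 3 from rfl, pow_add, zeta_four, q3]; ring
  refine ⟨m (zeta ^ 0), m (zeta ^ 1), m (zeta ^ 2), m (zeta ^ 4), m (zeta ^ 5), ?_, ?_, ?_, ?_⟩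
  · have h0 := hsum 0
    rw [pow_zero] at h0
    rw [hval, h0]
    simp only [Finset.sum_range_succ, Finset.sum_range_zero, pow_zero, mul_one, e3, e6, e7]
    ring
  · have h4 := hsum 4
    rw [h.a4] at h4
    rw [hval, h4]
    simp only [Finset.sum_range_succ, Finset.sum_range_zero, p4, e3, e6, e7]
    norm_num
    ring
  · have h2 := hsum 2
    rw [hval, h2]
    simp only [Finset.sum_range_succ, Finset.sum_range_zero, p2, e3, e6, e7, I3, I4, I5, I6, I7,
      Complex.I_sq, pow_zero, pow_one]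
    ring
  · have h1 := hsum 1
    rw [pow_one] at h1
    rw [hval, h1]
    simp only [Finset.sum_range_succ, Finset.sum_range_zero, e3, e6, e7]
    generalize m (zeta ^ 0) = u0
    generalize m (zeta ^ 1) = u1
    generalize m (zeta ^ 2) = u2
    generalize m (zeta ^ 4) = u4
    generalize m (zeta ^ 5) = u5
    simp only [pow_one]
    rw [q3, q5, q6, q7, zeta_sq, zeta_four, pow_zero]
    linear_combination ((u1 : ℂ) - (u5 : ℂ)) * zeta_rt

end main

end Cfsg.Agent.Lib.Helper41_GL23_CYC8
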