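import Mathlib

set_option autoImplicit false

/-!
Redundant Sylow subgroups: a Sylow `p`-subgroup `Q` of `G` is redundant when every element of
`p`-power order lies in a Sylow `p`-subgroup other than `Q`.  General criteria for (non-)existence and
transfer along the quotient by the centre.
-/

namespace Cfsg.Agent.Lib.Helper41_RedundantSylow

variable {G : Type*} [Group G]

/-- `G` has a redundant Sylow `p`-subgroup. -/
def Redundant (p : ℕ) (G : Type*) [Group G] : Prop :=
  ∃ Q : Sylow p G, ∀ x : G, (∃ k : ℕ, orderOf x = p ^ k) → ∃ P : Sylow p G, P ≠ Q ∧ x ∈ P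

theorem mem_smul_iff {p : ℕ} (g x : G) (P : Sylow p G) : x ∈ g • P ↔ g⁻¹ * x * g ∈ P := by
  rw [← SetLike.mem_coe, Sylow.coe_smul, Set.mem_smul_set_iff_inv_smul_mem, MulAut.smul_def,
    ← map_inv, MulAut.conj_apply, inv_inv]
  rfl

/-- elements of a Sylow `p`-subgroup have `p`-power order -/
theorem exists_orderOf_of_mem {p : ℕ} [Fact p.Prime] (P : Sylow p G) {x : G} (hx : x ∈ P) :
    ∃ k : ℕ, orderOf x = p ^ k := by
  obtain ⟨k, hk⟩ := (IsPGroup.iff_orderOf.mp P.2) ⟨x, hx⟩
  exact ⟨k, by rw [← hk, Subgroup.orderOf_mk]⟩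

/-- an element of `p`-power order lies in some Sylow `p`-subgroup -/
theorem exists_sylow_mem [Finite G] {p : ℕ} [Fact p.Prime] {x : G} (hx : ∃ k : ℕ, orderOf x = p ^ k) :
    ∃ P : Sylow p G, x ∈ P := by
  obtain ⟨k, hk⟩ := hx
  have hp : IsPGroup p (Subgroup.zpowers x) := by
    apply IsPGroup.of_card (n := k)
    rw [Nat.card_zpowers, hk]
  obtain ⟨P, hP⟩ := hp.exists_le_sylow
  exact ⟨P, hP (Subgroup.mem_zpowers x)⟩

/-- If some `p`-element lies in a unique Sylow `p`-subgroup, no Sylow `p`-subgroup is redundant. -/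
theorem not_redundant_of_unique [Finite G] {p : ℕ} [Fact p.Prime] (x₀ : G) (S₀ : Sylow p G)
    (hx₀ : x₀ ∈ S₀) (huniq : ∀ P : Sylow p G, x₀ ∈ P → P = S₀) : ¬ Redundant p G := by
  rintro ⟨Q, hQ⟩
  obtain ⟨g, hg⟩ := MulAction.exists_smul_eq G S₀ Q
  have hxQ : g * x₀ * g⁻¹ ∈ Q := by
    rw [← hg, mem_smul_iff]
    simpa [mul_assoc] using hx₀
  obtain ⟨P, hPQ, hxP⟩ := hQ _ (exists_orderOf_of_mem Q hxQ)
  apply hPQ
  have h1 : x₀ ∈ g⁻¹ • P := by
    rw [mem_smul_iff, inv_inv]
    exact hxP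
  have h2 := huniq _ h1
  rw [← hg, ← h2, smul_smul, mul_inv_cancel, one_smul]

/-- If `G` has an element whose order is the full `p`-part of `|G|`, no Sylow `p`-subgroup is
redundant. -/
theorem not_redundant_of_orderOf [Finite G] {p : ℕ} [Fact p.Prime] (x₀ : G)
    (h : orderOf x₀ = p ^ (Nat.card G).factorization p) : ¬ Redundant p G := by
  have hc : Nat.card (Subgroup.zpowers x₀) = p ^ (Nat.card G).factorization p := by
    rw [Nat.card_zpowers, h]
  refine not_redundant_of_unique x₀ (Sylow.ofCard (Subgroup.zpowers x₀) hc) ?_ ?_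
  · show x₀ ∈ ((Sylow.ofCard (Subgroup.zpowers x₀) hc : Sylow p G) : Subgroup G)
    rw [Sylow.coe_ofCard]
    exact Subgroup.mem_zpowers x₀
  · intro P hP
    symm
    apply Sylow.ext
    rw [Sylow.coe_ofCard]
    apply Subgroup.eq_of_le_of_card_ge
    · rw [Subgroup.zpowers_le]; exact hP
    · rw [hc, P.card_eq_multiplicity]

/-- If a cyclic `2`-subgroup `T` has a normalizer of order `2 |T|` which is the full `2`-part of
`|G|`, no Sylow `2`-subgroup is redundant. -/
theorem not_redundant_of_cyclic_normalizer [Finite G] (T : Subgroup G) [hT : IsCyclic T] (k : ℕ)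
    (hTc : Nat.card T = 2 ^ k)
    (hN : Nat.card (Subgroup.normalizer (T : Set G)) = 2 ^ (k + 1))
    (hG : (Nat.card G).factorization 2 = k + 1) : ¬ Redundant 2 G := by
  have : Fact (Nat.Prime 2) := ⟨Nat.prime_two⟩
  obtain ⟨⟨x₀, hx₀T⟩, hx₀⟩ := hT.exists_generator
  have hzp : Subgroup.zpowers x₀ = T := by
    apply le_antisymm
    · rw [Subgroup.zpowers_le]; exact hx₀T
    · intro y hy
      obtain ⟨n, hn⟩ := Subgroup.mem_zpowers_iff.mp (hx₀ ⟨y, hy⟩)
      rw [Subgroup.mem_zpowers_iff]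
      exact ⟨n, by simpa using congrArg Subtype.val hn⟩
  have hNc : Nat.card (Subgroup.normalizer (T : Set G)) = 2 ^ (Nat.card G).factorization 2 := by
    rw [hN, hG]
  refine not_redundant_of_unique x₀ (Sylow.ofCard _ hNc) ?_ ?_
  · show x₀ ∈ ((Sylow.ofCard _ hNc : Sylow 2 G) : Subgroup G)
    rw [Sylow.coe_ofCard]
    exact Subgroup.le_normalizer hx₀T
  · intro P hP
    symm
    apply Sylow.ext
    rw [Sylow.coe_ofCard]
    have hTP : T ≤ P := by
      rw [← hzp, Subgroup.zpowers_le]; exact hP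
    have hPc : Nat.card P = 2 ^ (k + 1) := by rw [P.card_eq_multiplicity, hG]
    symm
    apply Subgroup.eq_of_le_of_card_ge
    · -- `T` has index two in `P`, hence is normal in `P`
      have hidx : (T.subgroupOf P).index = 2 := by
        have h1 := Subgroup.card_mul_index (T.subgroupOf P)
        rw [Nat.card_congr (Subgroup.subgroupOfEquivOfLe hTP).toEquiv, hTc] at h1
        have h1' : 2 ^ k * (T.subgroupOf (P : Subgroup G)).index = 2 ^ k * 2 := by
          rw [h1]
          show Nat.card (P : Subgroup G) = _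
          rw [hPc, pow_succ]
        exact Nat.eq_of_mul_eq_mul_left (by positivity) h1'
      have hnorm : (T.subgroupOf P).Normal := Subgroup.normal_of_index_eq_two hidx
      exact (Subgroup.normal_subgroupOf_iff_le_normalizer hTP).mp hnorm
    · rw [hN, hPc]

/-- A Sylow `p`-subgroup all of whose elements lie in another Sylow `p`-subgroup is redundant. -/
theorem redundant_of_forall_mem [Finite G] {p : ℕ} [Fact p.Prime] (Q : Sylow p G)
    (h : ∀ x ∈ Q, ∃ P : Sylow p G, P ≠ Q ∧ x ∈ P) : Redundant p G := by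
  refine ⟨Q, fun x hx => ?_⟩
  by_cases hxQ : x ∈ Q
  · exact h x hxQ
  · obtain ⟨P, hP⟩ := exists_sylow_mem hx
    refine ⟨P, ?_, hP⟩
    rintro rfl
    exact hxQ hP

section transfer

variable [Finite G] {p : ℕ} [Fact p.Prime]

omit [Finite G] [Fact (Nat.Prime p)] in
/-- a central element of `p`-power order lies in every Sylow `p`-subgroup -/
theorem central_mem_sylow (P : Sylow p G) (z : G) (hz : z ∈ Subgroup.center G)
    (hzp : ∃ k : ℕ, orderOf z = p ^ k) : z ∈ P := by
  obtain ⟨k, hk⟩ := hzp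
  have hZ : IsPGroup p (Subgroup.zpowers z) := by
    apply IsPGroup.of_card (n := k)
    rw [Nat.card_zpowers, hk]
  have hnormal : (Subgroup.zpowers z).Normal := by
    constructor
    intro y hy g
    obtain ⟨n, rfl⟩ := Subgroup.mem_zpowers_iff.mp hy
    have hcomm : g * z ^ n * g⁻¹ = z ^ n := by
      have : z ^ n ∈ Subgroup.center G := Subgroup.zpow_mem _ hz n
      rw [Subgroup.mem_center_iff] at this
      rw [this g, mul_assoc, mul_inv_cancel, mul_one]
    rw [hcomm]
    exact Subgroup.zpow_mem _ (Subgroup.mem_zpowers z) n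
  have hsup : IsPGroup p ((P : Subgroup G) ⊔ Subgroup.zpowers z : Subgroup G) :=
    IsPGroup.to_sup_of_normal_right P.2 hZ
  have := P.is_maximal' hsup le_sup_left
  show z ∈ (P : Subgroup G)
  rw [← this]
  exact (le_sup_right : Subgroup.zpowers z ≤ _) (Subgroup.mem_zpowers z)

omit [Finite G] in
/-- a `p`-element whose image lies in the image of a Sylow `p`-subgroup lies in that subgroup -/
theorem mem_of_mk_mem (P : Sylow p G) (x : G) (hx : ∃ k : ℕ, orderOf x = p ^ k)
    (h : (QuotientGroup.mk' (Subgroup.center G)) x ∈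
      (P : Subgroup G).map (QuotientGroup.mk' (Subgroup.center G))) : x ∈ P := by
  obtain ⟨y, hyP, hy⟩ := h
  have hz : y⁻¹ * x ∈ Subgroup.center G := by
    rw [← QuotientGroup.eq]
    exact hy
  set z := y⁻¹ * x with hzdef
  have hcomm : Commute y z := by
    rw [Subgroup.mem_center_iff] at hz
    exact (hz y)
  have hxy : x = y * z := by rw [hzdef, mul_inv_cancel_left]
  have hcyx : Commute y x := by
    rw [hxy]
    exact (Commute.refl y).mul_right hcomm
  obtain ⟨k, hk⟩ := hx
  obtain ⟨j, hj⟩ := exists_orderOf_of_mem P hyP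
  have hzpow : z ^ (p ^ (j + k)) = 1 := by
    rw [hzdef, (hcyx.inv_left).mul_pow, inv_pow, pow_add, pow_mul, ← hj, pow_orderOf_eq_one,
      one_pow, inv_one, one_mul, mul_comm, pow_mul, ← hk, pow_orderOf_eq_one, one_pow]
  have hzord : ∃ i : ℕ, orderOf z = p ^ i := by
    have := orderOf_dvd_of_pow_eq_one hzpow
    obtain ⟨i, _, hi⟩ := (Nat.dvd_prime_pow Fact.out).mp this
    exact ⟨i, hi⟩
  rw [hxy]
  exact Subgroup.mul_mem _ hyP (central_mem_sylow P z hz hzord)

/-- Redundancy transfers between `G` and `G / Z(G)`. -/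
theorem redundant_quotient_center_iff :
    Redundant p (G ⧸ Subgroup.center G) ↔ Redundant p G := by
  have hsurj : Function.Surjective (QuotientGroup.mk' (Subgroup.center G)) :=
    QuotientGroup.mk'_surjective _
  constructor
  · rintro ⟨Qb, hQb⟩
    obtain ⟨Q, rfl⟩ := Sylow.mapSurjective_surjective hsurj p Qb
    refine ⟨Q, fun x hx => ?_⟩
    have hxb : ∃ k : ℕ, orderOf ((QuotientGroup.mk' (Subgroup.center G)) x) = p ^ k := by
      obtain ⟨k, hk⟩ := hx
      have := orderOf_map_dvd (QuotientGroup.mk' (Subgroup.center G)) x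
      rw [hk] at this
      obtain ⟨i, _, hi⟩ := (Nat.dvd_prime_pow Fact.out).mp this
      exact ⟨i, hi⟩
    obtain ⟨Pb, hPb, hxPb⟩ := hQb _ hxb
    obtain ⟨P, rfl⟩ := Sylow.mapSurjective_surjective hsurj p Pb
    refine ⟨P, ?_, ?_⟩
    · rintro rfl
      exact hPb rfl
    · apply mem_of_mk_mem P x hx
      rw [← Sylow.coe_mapSurjective hsurj]
      exact hxPb
  · rintro ⟨Q, hQ⟩
    refine ⟨Q.mapSurjective hsurj, fun xb hxb => ?_⟩
    obtain ⟨Pb, hPb⟩ := exists_sylow_mem (G := G ⧸ Subgroup.center G) hxb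
    obtain ⟨P₀, rfl⟩ := Sylow.mapSurjective_surjective hsurj p Pb
    have hPb' : xb ∈ (P₀ : Subgroup G).map (QuotientGroup.mk' (Subgroup.center G)) := by
      rw [← Sylow.coe_mapSurjective hsurj]; exact hPb
    obtain ⟨x, hxP₀, rfl⟩ := hPb'
    obtain ⟨P, hPQ, hxP⟩ := hQ x (exists_orderOf_of_mem P₀ hxP₀)
    refine ⟨P.mapSurjective hsurj, ?_, ?_⟩
    · intro heq
      apply hPQ
      -- `P` and `Q` have the same image, hence `P ≤ Q`
      apply Sylow.ext
      apply Subgroup.eq_of_le_of_card_ge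
      · intro y hy
        apply mem_of_mk_mem Q y (exists_orderOf_of_mem P hy)
        rw [← Sylow.coe_mapSurjective hsurj, ← heq, Sylow.coe_mapSurjective hsurj]
        exact ⟨y, hy, rfl⟩
      · rw [P.card_eq_multiplicity, Q.card_eq_multiplicity]
    · show (QuotientGroup.mk' (Subgroup.center G)) x ∈
        ((P.mapSurjective hsurj : Sylow p (G ⧸ Subgroup.center G)) : Subgroup (G ⧸ Subgroup.center G))
      rw [Sylow.coe_mapSurjective hsurj]
      exact ⟨x, hxP, rfl⟩

end transfer

end Cfsg.Agent.Lib.Helper41_RedundantSylow
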