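import Mathlib
import Cfsg.Agent.Lib.Helper41_RedundantSylow

set_option autoImplicit false
set_option linter.unusedSectionVars false

/-!
The Sylow `p`-subgroup `μ_p ≀ C_p` of monomial matrices in `GL_p(F)`, `F` a finite field with
`p ∥ q - 1`, `p` odd; every element of it lies in a second Sylow `p`-subgroup.
-/

namespace Cfsg.Agent.Lib.Helper41_GLpSylow

open Matrix

section shift

variable {F : Type*} [Field F] {p : ℕ} [NeZero p]

/-- `M i j = 0` unless `i = j + k`. -/
def HasShift (M : Matrix (Fin p) (Fin p) F) (k : Fin p) : Prop := ∀ i j, i ≠ j + k → M i j = 0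

theorem HasShift.mul_apply {M : Matrix (Fin p) (Fin p) F} {k : Fin p} (hM : HasShift M k)
    (N : Matrix (Fin p) (Fin p) F) (i j : Fin p) : (M * N) i j = M i (i - k) * N (i - k) j := by
  rw [Matrix.mul_apply]
  apply Finset.sum_eq_single (i - k)
  · intro m _ hm
    rw [hM i m, zero_mul]
    intro h
    apply hm
    rw [h, add_sub_cancel_right]
  · intro h
    exact absurd (Finset.mem_univ _) h

theorem HasShift.mul_apply' (M : Matrix (Fin p) (Fin p) F) {N : Matrix (Fin p) (Fin p) F} {l : Fin p}
    (hN : HasShift N l) (i j : Fin p) : (M * N) i j = M i (j + l) * N (j + l) j := by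
  rw [Matrix.mul_apply]
  apply Finset.sum_eq_single (j + l)
  · intro m _ hm
    rw [hN m j hm, mul_zero]
  · intro h
    exact absurd (Finset.mem_univ _) h

theorem HasShift.mul {M N : Matrix (Fin p) (Fin p) F} {k l : Fin p} (hM : HasShift M k)
    (hN : HasShift N l) : HasShift (M * N) (l + k) := by
  intro i j hij
  rw [hM.mul_apply]
  by_cases h : i - k = j + l
  · exfalso
    apply hij
    rw [← add_assoc, ← h, sub_add_cancel]
  · rw [hN _ _ h, mul_zero]

theorem hasShift_one : HasShift (1 : Matrix (Fin p) (Fin p) F) 0 := by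
  intro i j hij
  rw [add_zero] at hij
  exact Matrix.one_apply_ne hij

theorem HasShift.pow {M : Matrix (Fin p) (Fin p) F} {k : Fin p} (hM : HasShift M k) (n : ℕ) :
    HasShift (M ^ n) (n • k) := by
  induction n with
  | zero => simpa using hasShift_one
  | succ n ih =>
    rw [pow_succ, succ_nsmul']
    exact ih.mul hM

theorem HasShift.smul {M : Matrix (Fin p) (Fin p) F} {k : Fin p} (hM : HasShift M k) (c : F) :
    HasShift (c • M) k := by
  intro i j hij
  rw [Matrix.smul_apply, hM i j hij, smul_zero]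

end shift


section mono

variable {F : Type*} [Field F] {p : ℕ} [NeZero p]

/-- monomial with shift `k` and all non-zero entries `p`-th roots of unity -/
def IsMono (M : Matrix (Fin p) (Fin p) F) (k : Fin p) : Prop :=
  HasShift M k ∧ ∀ j, M (j + k) j ^ p = 1

theorem IsMono.ne_zero {M : Matrix (Fin p) (Fin p) F} {k : Fin p} (hM : IsMono M k) (j : Fin p) :
    M (j + k) j ≠ 0 := by
  intro h
  have := hM.2 j
  rw [h, zero_pow (NeZero.ne p)] at this
  exact zero_ne_one this

theorem IsMono.mul {M N : Matrix (Fin p) (Fin p) F} {k l : Fin p} (hM : IsMono M k)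
    (hN : IsMono N l) : IsMono (M * N) (l + k) := by
  refine ⟨hM.1.mul hN.1, fun j => ?_⟩
  rw [HasShift.mul_apply' M hN.1, mul_pow, hN.2 j, mul_one, ← add_assoc]
  exact hM.2 (j + l)

theorem isMono_one : IsMono (1 : Matrix (Fin p) (Fin p) F) 0 := by
  refine ⟨hasShift_one, fun j => ?_⟩
  rw [add_zero, Matrix.one_apply_eq, one_pow]

/-- the shift of a monomial matrix is unique -/
theorem IsMono.shift_unique {M : Matrix (Fin p) (Fin p) F} {k l : Fin p} (hM : IsMono M k)
    (hM' : IsMono M l) : k = l := by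
  by_contra h
  have h1 := hM.ne_zero 0
  apply h1
  apply hM'.1
  rw [zero_add, zero_add]
  exact h

variable (F p) in
/-- The group `μ_p ≀ C_p` of monomial matrices. -/
def monoSubgroup [Finite F] : Subgroup (GL (Fin p) F) where
  carrier := {g | ∃ k, IsMono (g : Matrix (Fin p) (Fin p) F) k}
  one_mem' := ⟨0, by simpa using isMono_one⟩
  mul_mem' := by
    rintro a b ⟨k, hk⟩ ⟨l, hl⟩
    exact ⟨l + k, by simpa using hk.mul hl⟩
  inv_mem' := by
    intro a ha
    have hpow : ∀ n : ℕ, a ^ n ∈ {g : GL (Fin p) F | ∃ k, IsMono (g : Matrix (Fin p) (Fin p) F) k} := by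
      intro n
      induction n with
      | zero => exact ⟨0, by simpa using isMono_one⟩
      | succ n ih =>
        obtain ⟨k, hk⟩ := ih
        obtain ⟨l, hl⟩ := ha
        rw [pow_succ]
        exact ⟨l + k, by simpa using hk.mul hl⟩
    have hinv : a⁻¹ = a ^ (orderOf a - 1) := by
      rw [eq_comm, ← mul_eq_one_iff_eq_inv, ← pow_succ, Nat.sub_add_cancel (orderOf_pos a),
        pow_orderOf_eq_one]
    rw [hinv]
    exact hpow _

theorem mem_monoSubgroup [Finite F] (g : GL (Fin p) F) :
    g ∈ monoSubgroup F p ↔ ∃ k, IsMono (g : Matrix (Fin p) (Fin p) F) k := Iff.rfl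

end mono


section card

variable {F : Type*} [Field F] {p : ℕ} [NeZero p]

/-- the monomial matrix with entries `a j` at `(j + k, j)` -/
def monoMat (a : Fin p → F) (k : Fin p) : Matrix (Fin p) (Fin p) F :=
  Matrix.of fun i j => if i = j + k then a j else 0

theorem monoMat_apply (a : Fin p → F) (k i j : Fin p) :
    monoMat a k i j = if i = j + k then a j else 0 := rfl

theorem monoMat_apply_self (a : Fin p → F) (k j : Fin p) : monoMat a k (j + k) j = a j := by
  rw [monoMat_apply, if_pos rfl]

theorem hasShift_monoMat (a : Fin p → F) (k : Fin p) : HasShift (monoMat a k) k := by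
  intro i j hij
  rw [monoMat_apply, if_neg hij]

theorem monoMat_mul (a b : Fin p → F) (k l : Fin p) :
    monoMat a k * monoMat b l = monoMat (fun j => a (j + l) * b j) (l + k) := by
  ext i j
  rw [HasShift.mul_apply' _ (hasShift_monoMat b l), monoMat_apply_self, monoMat_apply, monoMat_apply,
    add_assoc]
  split_ifs <;> simp

theorem monoMat_one : monoMat (fun _ => (1 : F)) (0 : Fin p) = 1 := by
  ext i j
  rw [monoMat_apply, add_zero, Matrix.one_apply]

/-- every matrix with a shift is a `monoMat` -/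
theorem HasShift.eq_monoMat {M : Matrix (Fin p) (Fin p) F} {k : Fin p} (hM : HasShift M k) :
    M = monoMat (fun j => M (j + k) j) k := by
  ext i j
  rw [monoMat_apply]
  split_ifs with h
  · rw [h]
  · exact hM i j h

/-- monomial matrices as elements of `GL` -/
def monoGL (a : Fin p → Fˣ) (k : Fin p) : GL (Fin p) F where
  val := monoMat (fun j => (a j : F)) k
  inv := monoMat (fun j => ((a (j - k))⁻¹ : Fˣ)) (-k)
  val_inv := by
    rw [monoMat_mul]
    have h1 : -k + k = 0 := neg_add_cancel k
    rw [h1, ← monoMat_one]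
    congr 1
    funext j
    rw [← sub_eq_add_neg, ← Units.val_mul, mul_inv_cancel, Units.val_one]
  inv_val := by
    rw [monoMat_mul]
    have h1 : k + -k = 0 := add_neg_cancel k
    rw [h1, ← monoMat_one]
    congr 1
    funext j
    rw [add_sub_cancel_right, ← Units.val_mul, inv_mul_cancel, Units.val_one]

theorem monoGL_coe (a : Fin p → Fˣ) (k : Fin p) :
    ((monoGL a k : GL (Fin p) F) : Matrix (Fin p) (Fin p) F) = monoMat (fun j => (a j : F)) k := rfl

theorem isMono_monoGL (a : Fin p → Fˣ) (k : Fin p) (ha : ∀ j, a j ^ p = 1) :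
    IsMono ((monoGL a k : GL (Fin p) F) : Matrix (Fin p) (Fin p) F) k := by
  refine ⟨hasShift_monoMat _ k, fun j => ?_⟩
  rw [monoGL_coe, monoMat_apply_self, ← Units.val_pow_eq_pow_val, ha j, Units.val_one]

variable [Finite F]

/-- the parametrization of the monomial group -/
noncomputable def monoParam (x : (Fin p → rootsOfUnity p F) × Fin p) : monoSubgroup F p :=
  ⟨monoGL (fun j => ((x.1 j : rootsOfUnity p F) : Fˣ)) x.2, x.2,
    isMono_monoGL _ _ (fun j => (mem_rootsOfUnity p _).mp (x.1 j).2)⟩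

theorem monoParam_bijective : Function.Bijective (monoParam : _ → monoSubgroup F p) := by
  constructor
  · rintro ⟨a, k⟩ ⟨b, l⟩ h
    have h1 : (monoGL (fun j => ((a j : rootsOfUnity p F) : Fˣ)) k : GL (Fin p) F) =
        monoGL (fun j => ((b j : rootsOfUnity p F) : Fˣ)) l := congrArg Subtype.val h
    have h2 := congrArg (fun g : GL (Fin p) F => (g : Matrix (Fin p) (Fin p) F)) h1
    simp only [monoGL_coe] at h2
    have hk : k = l := by
      apply IsMono.shift_unique (M := monoMat (fun j => (((a j : rootsOfUnity p F) : Fˣ) : F)) k)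
      · exact isMono_monoGL _ _ (fun j => (mem_rootsOfUnity p _).mp (a j).2)
      · rw [h2]
        exact isMono_monoGL _ _ (fun j => (mem_rootsOfUnity p _).mp (b j).2)
    subst hk
    congr 1
    funext j
    have h3 := congrFun (congrFun h2 (j + k)) j
    rw [monoMat_apply_self, monoMat_apply_self] at h3
    exact Subtype.ext (Units.ext h3)
  · rintro ⟨g, k, hk⟩
    have hne : ∀ j, (g : Matrix (Fin p) (Fin p) F) (j + k) j ≠ 0 := hk.ne_zero
    refine ⟨(fun j => ⟨Units.mk0 _ (hne j), ?_⟩, k), ?_⟩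
    · rw [mem_rootsOfUnity]
      apply Units.ext
      rw [Units.val_pow_eq_pow_val, Units.val_mk0, Units.val_one]
      exact hk.2 j
    · apply Subtype.ext
      apply Units.ext
      show monoMat _ k = (g : Matrix (Fin p) (Fin p) F)
      exact hk.1.eq_monoMat.symm

end card


section sylow

theorem card_rootsOfUnity_eq {F : Type*} [Field F] [Fintype F] {p : ℕ} [hp : Fact p.Prime] (h1 : p ∣ Fintype.card F - 1) :
    Nat.card (rootsOfUnity p F) = p := by
  have hc : Nat.card Fˣ = Fintype.card F - 1 := by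
    rw [Nat.card_units, Nat.card_eq_fintype_card]
  obtain ⟨z, hz⟩ := exists_prime_orderOf_dvd_card' (G := Fˣ) p (by rw [hc]; exact h1)
  have hprim : IsPrimitiveRoot z p := by
    rw [← hz]; exact IsPrimitiveRoot.orderOf z
  have hprim' : IsPrimitiveRoot (z : F) p := IsPrimitiveRoot.coe_units_iff.mpr hprim
  exact hprim'.card_rootsOfUnity

theorem factorization_card_GL {F : Type*} [Field F] [Fintype F] {p : ℕ} [hp : Fact p.Prime] (hp2 : p ≠ 2)
    (h1 : p ∣ Fintype.card F - 1) (h2 : ¬ p ^ 2 ∣ Fintype.card F - 1) :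
    (Nat.card (GL (Fin p) F)).factorization p = p + 1 := by
  have hpp : p.Prime := hp.out
  have hodd : Odd p := hpp.odd_of_ne_two hp2
  set q := Fintype.card F with hq
  have hq1 : 1 < q := Fintype.one_lt_card
  have hpq : ¬ p ∣ q := by
    intro h
    have : p ∣ q - (q - 1) := Nat.dvd_sub h h1
    have h3 : q - (q - 1) = 1 := by omega
    rw [h3] at this
    exact hpp.one_lt.ne' (Nat.dvd_one.mp this)
  have hv1 : padicValNat p (q - 1) = 1 := by
    have hne : q - 1 ≠ 0 := by omega
    have a : 1 ≤ padicValNat p (q - 1) := (padicValNat_dvd_iff_le hne).mp (by simpa using h1)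
    have b : ¬ 2 ≤ padicValNat p (q - 1) := fun h => h2 ((padicValNat_dvd_iff_le hne).mpr h)
    omega
  -- each factor
  set i0 : Fin p := ⟨0, hpp.pos⟩ with hi0
  have hfac : ∀ i : Fin p, padicValNat p (q ^ p - q ^ (i : ℕ)) = 1 + if i = i0 then 1 else 0 := by
    intro i
    have hi : (i : ℕ) < p := i.2
    have hsplit : q ^ p - q ^ (i : ℕ) = q ^ (i : ℕ) * (q ^ (p - i) - 1 ^ (p - i)) := by
      rw [one_pow, Nat.mul_sub, mul_one, ← pow_add]
      congr 2
      omega
    have hne1 : q ^ (i : ℕ) ≠ 0 := by positivity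
    have hne2 : q ^ (p - i) - 1 ^ (p - i) ≠ 0 := by
      rw [one_pow]
      have : 1 < q ^ (p - i) := Nat.one_lt_pow (by omega) hq1
      omega
    rw [hsplit, padicValNat.mul hne1 hne2, padicValNat.pow, padicValNat.eq_zero_of_not_dvd hpq,
      mul_zero, zero_add, padicValNat.pow_sub_pow hodd hq1 h1 hpq (by omega), hv1]
    congr 1
    split_ifs with h0
    · rw [h0, hi0]
      show padicValNat p (p - 0) = 1
      rw [Nat.sub_zero, padicValNat_self]
    · rw [padicValNat.eq_zero_of_not_dvd]
      intro hdvd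
      have := Nat.le_of_dvd (by omega) hdvd
      have : (i : ℕ) ≠ 0 := fun h => h0 (Fin.ext h)
      omega
  rw [Matrix.card_GL_field, Nat.factorization_prod, Finsupp.finsetSum_apply]
  · rw [← hq]
    simp_rw [Nat.factorization_def _ hpp, hfac]
    rw [Finset.sum_add_distrib, Finset.sum_const, Finset.card_univ, Fintype.card_fin,
      Finset.sum_ite_eq' Finset.univ i0, if_pos (Finset.mem_univ _), smul_eq_mul, mul_one]
  · intro i _
    have hi : (i : ℕ) < p := i.2
    rw [← hq]
    exact Nat.sub_ne_zero_of_lt (Nat.pow_lt_pow_right hq1 hi)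

variable {F : Type*} [Field F] [Fintype F] {p : ℕ} [hp : Fact p.Prime]

theorem card_monoSubgroup (h1 : p ∣ Fintype.card F - 1) :
    Nat.card (monoSubgroup F p) = p ^ (p + 1) := by
  rw [← Nat.card_congr (Equiv.ofBijective _ (monoParam_bijective (F := F) (p := p))),
    Nat.card_prod, Nat.card_fun, card_rootsOfUnity_eq h1, Nat.card_fin, pow_succ]

/-- the monomial group as a Sylow `p`-subgroup -/
noncomputable def monoSylow (hp2 : p ≠ 2) (h1 : p ∣ Fintype.card F - 1)
    (h2 : ¬ p ^ 2 ∣ Fintype.card F - 1) : Sylow p (GL (Fin p) F) :=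
  Sylow.ofCard (monoSubgroup F p) (by rw [card_monoSubgroup h1, factorization_card_GL hp2 h1 h2])

theorem mem_monoSylow (hp2 : p ≠ 2) (h1 : p ∣ Fintype.card F - 1)
    (h2 : ¬ p ^ 2 ∣ Fintype.card F - 1) (g : GL (Fin p) F) :
    g ∈ monoSylow hp2 h1 h2 ↔ ∃ k, IsMono (g : Matrix (Fin p) (Fin p) F) k := Iff.rfl

end sylow


section general

open Cfsg.Agent.Lib.Helper41_RedundantSylow

variable {G : Type*} [Group G] {p : ℕ} [Fact p.Prime]

/-- A `p`-element normalizing a Sylow `p`-subgroup lies in it. -/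
theorem mem_of_mem_normalizer (S : Sylow p G) (x : G)
    (hx : x ∈ Subgroup.normalizer ((S : Subgroup G) : Set G)) (j : ℕ) (hxp : x ^ (p ^ j) = 1) :
    x ∈ (S : Subgroup G) := by
  have hZ : IsPGroup p (Subgroup.zpowers x) := by
    rintro ⟨y, hy⟩
    obtain ⟨i, rfl⟩ := Subgroup.mem_zpowers_iff.1 hy
    refine ⟨j, ?_⟩
    apply Subtype.ext
    simp only [Subgroup.coe_pow, Subgroup.coe_one]
    rw [← zpow_natCast, ← _root_.zpow_mul, mul_comm, _root_.zpow_mul, zpow_natCast, hxp, _root_.one_zpow]
  have hle : Subgroup.zpowers x ≤ Subgroup.normalizer ((S : Subgroup G) : Set G) := by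
    rw [Subgroup.zpowers_le]; exact hx
  have hsup := IsPGroup.to_sup_of_normal_right' hZ S.isPGroup' hle
  have := S.is_maximal' hsup le_sup_right
  have h1 : x ∈ Subgroup.zpowers x ⊔ (S : Subgroup G) :=
    (le_sup_left : Subgroup.zpowers x ≤ _) (Subgroup.mem_zpowers x)
  rw [this] at h1
  exact h1

/-- a `p`-element outside `Q` commuting with `x ∈ Q` gives a second Sylow subgroup containing `x` -/
theorem exists_ne_of_pElement_commute (Q : Sylow p G) (x g : G) (hx : x ∈ Q)
    (hcomm : g * x = x * g) (n : ℕ) (hg : g ^ (p ^ n) = 1) (hgQ : g ∉ Q) :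
    ∃ P : Sylow p G, P ≠ Q ∧ x ∈ P := by
  refine ⟨g • Q, ?_, ?_⟩
  · intro h
    apply hgQ
    exact mem_of_mem_normalizer Q g (Sylow.smul_eq_iff_mem_normalizer.mp h) n hg
  · rw [mem_smul_iff]
    have h2 : g⁻¹ * x * g = x := by
      calc g⁻¹ * x * g = g⁻¹ * (x * g) := by group
        _ = g⁻¹ * (g * x) := by rw [hcomm]
        _ = x := by group
    rw [h2]; exact hx

/-- if `g⁻¹ x g ∈ Q` and some `y ∈ Q` has `g y g⁻¹ ∉ Q`, then `x` lies in a Sylow subgroup other
than `Q` -/
theorem exists_ne_of_conj_not_mem (Q : Sylow p G) (x g y : G) (hx : g⁻¹ * x * g ∈ Q) (hy : y ∈ Q)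
    (hgy : g * y * g⁻¹ ∉ Q) : ∃ P : Sylow p G, P ≠ Q ∧ x ∈ P := by
  refine ⟨g • Q, ?_, ?_⟩
  · intro h
    apply hgy
    rw [← h, mem_smul_iff]
    have : g⁻¹ * (g * y * g⁻¹) * g = y := by group
    rw [this]; exact hy
  · rw [mem_smul_iff]; exact hx

end general

section idem

variable {n : Type*} [Fintype n] [DecidableEq n] {F : Type*} [Field F]

/-- `1 + (ζ - 1) M` for an idempotent `M` -/
def idemMat (M : Matrix n n F) (z : F) : Matrix n n F := 1 + (z - 1) • M

theorem idemMat_mul (M : Matrix n n F) (hM : M * M = M) (z w : F) :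
    idemMat M z * idemMat M w = idemMat M (z * w) := by
  unfold idemMat
  rw [add_mul, mul_add, mul_add, one_mul, one_mul, mul_one, Matrix.smul_mul, Matrix.mul_smul, hM,
    smul_smul, add_assoc, ← add_smul, ← add_smul]
  congr 2
  ring

theorem idemMat_one (M : Matrix n n F) : idemMat M 1 = 1 := by
  unfold idemMat
  rw [sub_self, zero_smul, add_zero]

/-- the homomorphism `ζ ↦ 1 + (ζ - 1) M` -/
def idemHom (M : Matrix n n F) (hM : M * M = M) : Fˣ →* GL n F where
  toFun z := ⟨idemMat M z, idemMat M ((z⁻¹ : Fˣ) : F),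
    by rw [idemMat_mul M hM, ← Units.val_mul, mul_inv_cancel, Units.val_one, idemMat_one],
    by rw [idemMat_mul M hM, ← Units.val_mul, inv_mul_cancel, Units.val_one, idemMat_one]⟩
  map_one' := by
    apply Units.ext
    show idemMat M ((1 : Fˣ) : F) = 1
    rw [Units.val_one, idemMat_one]
  map_mul' z w := by
    apply Units.ext
    show idemMat M ((z * w : Fˣ) : F) = idemMat M z * idemMat M w
    rw [idemMat_mul M hM, Units.val_mul]

theorem idemHom_coe (M : Matrix n n F) (hM : M * M = M) (z : Fˣ) :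
    ((idemHom M hM z : GL n F) : Matrix n n F) = 1 + ((z : F) - 1) • M := rfl

theorem idemHom_pow (M : Matrix n n F) (hM : M * M = M) (z : Fˣ) (m : ℕ) (hz : z ^ m = 1) :
    (idemHom M hM z) ^ m = 1 := by
  rw [← map_pow, hz, map_one]

theorem idemHom_commute (M : Matrix n n F) (hM : M * M = M) (z : Fˣ) (x : GL n F)
    (hx : M * (x : Matrix n n F) = (x : Matrix n n F) * M) : idemHom M hM z * x = x * idemHom M hM z := by
  apply Units.ext
  rw [Units.val_mul, Units.val_mul]
  show (1 + ((z : F) - 1) • M) * (x : Matrix n n F) = (x : Matrix n n F) * (1 + ((z : F) - 1) • M)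
  rw [add_mul, mul_add, one_mul, mul_one, Matrix.smul_mul, Matrix.mul_smul, hx]

end idem

end Cfsg.Agent.Lib.Helper41_GLpSylow
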