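import Mathlib
import Cfsg.Agent.Lib.Helper41_RedundantSylow
import Cfsg.Agent.Lib.Helper41_GLpSylow

set_option autoImplicit false
set_option linter.unusedSectionVars false

/-!
Every element of the monomial Sylow `p`-subgroup of `GL_p(F)` (`p` odd, `p ∥ q - 1`) lies in a
second Sylow `p`-subgroup: the four cases.
-/

namespace Cfsg.Agent.Lib.Helper41_GLpRedundant

open Matrix Cfsg.Agent.Lib.Helper41_GLpSylow Cfsg.Agent.Lib.Helper41_RedundantSylow

variable {F : Type*} [Field F] {p : ℕ} [hp : Fact p.Prime]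

/-- powers of monomial matrices -/
theorem isMono_pow {M : Matrix (Fin p) (Fin p) F} {k : Fin p} (hM : IsMono M k) (n : ℕ) :
    IsMono (M ^ n) (n • k) := by
  induction n with
  | zero => simpa using isMono_one
  | succ n ih =>
    rw [pow_succ, succ_nsmul']
    exact ih.mul hM

/-- for `k ≠ 0`, `m • k = m' • k` iff `m ≡ m' (mod p)` -/
theorem nsmul_eq_iff {k : Fin p} (hk : k ≠ 0) (m m' : ℕ) : m • k = m' • k ↔ m ≡ m' [MOD p] := by
  have hord : addOrderOf k = p := by
    apply addOrderOf_eq_prime _ hk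
    have h := card_nsmul_eq_zero' (G := Fin p) (x := k)
    rw [Nat.card_fin] at h
    exact h
  rw [nsmul_eq_nsmul_iff_modEq, hord]

/-- every element of `Fin p` is a multiple of `k ≠ 0` -/
theorem exists_nsmul_eq {k : Fin p} (hk : k ≠ 0) (i : Fin p) : ∃ m : ℕ, m • k = i := by
  have h := zmultiples_eq_top_of_prime_card (G := Fin p) (p := p) (Nat.card_fin p) hk
  have hi : i ∈ AddSubgroup.zmultiples k := by rw [h]; trivial
  rw [← mem_multiples_iff_mem_zmultiples] at hi
  exact hi


/-- for `k ≠ 0` and `p` odd, `k + k ≠ 0` -/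
theorem add_self_ne_zero (hp2 : p ≠ 2) {k : Fin p} (hk : k ≠ 0) : k + k ≠ 0 := by
  intro h
  have h' : 2 • k = 0 • k := by rw [two_nsmul, h, zero_nsmul]
  rw [nsmul_eq_iff hk, Nat.modEq_zero_iff_dvd] at h'
  exact hp2 ((Nat.prime_dvd_prime_iff_eq hp.out Nat.prime_two).mp h')

/-- the test element `diag(z, 1, …, 1)` -/
def testElt (z : Fˣ) : GL (Fin p) F := monoGL (fun j => if j = 0 then z else 1) 0

theorem isMono_testElt (z : Fˣ) (hz : z ^ p = 1) :
    IsMono ((testElt z : GL (Fin p) F) : Matrix (Fin p) (Fin p) F) 0 := by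
  apply isMono_monoGL
  intro j
  split_ifs
  · exact hz
  · exact one_pow p

theorem testElt_apply_zero (z : Fˣ) :
    ((testElt z : GL (Fin p) F) : Matrix (Fin p) (Fin p) F) 0 0 = (z : F) := by
  show monoMat _ 0 0 0 = _
  rw [monoMat_apply, add_zero, if_pos rfl]
  simp

theorem testElt_apply_self (z : Fˣ) (j : Fin p) (hj : j ≠ 0) :
    ((testElt z : GL (Fin p) F) : Matrix (Fin p) (Fin p) F) j j = 1 := by
  show monoMat _ 0 j j = _
  rw [monoMat_apply, add_zero, if_pos rfl]
  simp [hj]

section cases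

variable [Finite F] (Q : Sylow p (GL (Fin p) F))
  (hQ : ∀ g : GL (Fin p) F, g ∈ Q ↔ ∃ k, IsMono (g : Matrix (Fin p) (Fin p) F) k)
  (z : Fˣ) (hz : z ^ p = 1) (hz1 : z ≠ 1)

include hQ hz hz1

/-- Case (i): a diagonal element with a repeated diagonal entry. -/
theorem case_repeated (x : GL (Fin p) F) (hx : IsMono (x : Matrix (Fin p) (Fin p) F) 0)
    (i j : Fin p) (hij : i ≠ j)
    (heq : (x : Matrix (Fin p) (Fin p) F) i i = (x : Matrix (Fin p) (Fin p) F) j j) :
    ∃ P : Sylow p (GL (Fin p) F), P ≠ Q ∧ x ∈ P := by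
  set M : Matrix (Fin p) (Fin p) F := Matrix.single i i 1 + Matrix.single j i 1 with hM
  have hMM : M * M = M := by
    rw [hM, add_mul, mul_add, mul_add, Matrix.single_mul_single_same,
      Matrix.single_mul_single_of_ne _ _ _ _ hij, Matrix.single_mul_single_same,
      Matrix.single_mul_single_of_ne _ _ _ _ hij]
    simp
  have hcomm : M * (x : Matrix (Fin p) (Fin p) F) = (x : Matrix (Fin p) (Fin p) F) * M := by
    ext a b
    rw [HasShift.mul_apply' M hx.1, HasShift.mul_apply hx.1, add_zero, sub_zero, hM]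
    simp only [Matrix.add_apply, Matrix.single_apply]
    by_cases hb : i = b
    · subst hb
      by_cases ha : i = a
      · subst ha
        ring
      · by_cases ha' : j = a
        · subst ha'
          simp [ha, heq]
        · simp [ha, ha']
    · simp [hb]
  have hxQ : x ∈ Q := (hQ x).mpr ⟨0, hx⟩
  apply exists_ne_of_pElement_commute Q x (idemHom M hMM z) hxQ (idemHom_commute M hMM z x hcomm) 1
  · rw [pow_one]; exact idemHom_pow M hMM z p hz
  · rw [hQ]
    rintro ⟨s, hs⟩
    have hzF : (z : F) ≠ 1 := fun h => hz1 (Units.ext h)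
    have h1 : ((idemHom M hMM z : GL (Fin p) F) : Matrix (Fin p) (Fin p) F) i i ≠ 0 := by
      rw [idemHom_coe, hM, Matrix.add_apply, Matrix.one_apply_eq, Matrix.smul_apply, Matrix.add_apply,
        Matrix.single_apply_same, Matrix.single_apply_of_ne _ _ _ _ _ (by simp [hij.symm]), add_zero,
        smul_eq_mul, mul_one, add_sub_cancel]
      exact z.ne_zero
    have h2 : ((idemHom M hMM z : GL (Fin p) F) : Matrix (Fin p) (Fin p) F) j i ≠ 0 := by
      rw [idemHom_coe, hM, Matrix.add_apply, Matrix.one_apply_ne hij.symm, Matrix.smul_apply,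
        Matrix.add_apply, Matrix.single_apply_same, Matrix.single_apply_of_ne _ _ _ _ _ (by simp [hij]),
        zero_add, zero_add, smul_eq_mul, mul_one]
      exact sub_ne_zero.mpr hzF
    have e1 : i = i + s := by
      by_contra h
      exact h1 (hs.1 i i h)
    have e2 : j = i + s := by
      by_contra h
      exact h2 (hs.1 j i h)
    exact hij (e1.trans e2.symm)


/-- Case (iv): a non-diagonal element of order `p`. -/
theorem case_order_p (hp2 : p ≠ 2) (hpF : (p : F) ≠ 0) (x : GL (Fin p) F) (k : Fin p) (hk : k ≠ 0)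
    (hx : IsMono (x : Matrix (Fin p) (Fin p) F) k) (hxp : x ^ p = 1) :
    ∃ P : Sylow p (GL (Fin p) F), P ≠ Q ∧ x ∈ P := by
  have hpp : p.Prime := hp.out
  have hp3 : 3 ≤ p := by
    have := hpp.two_le
    omega
  set X : Matrix (Fin p) (Fin p) F := (x : Matrix (Fin p) (Fin p) F) with hX
  have hXp : X ^ p = 1 := by
    have := congrArg (fun g : GL (Fin p) F => (g : Matrix (Fin p) (Fin p) F)) hxp
    simpa using this
  set E : Matrix (Fin p) (Fin p) F := ∑ m ∈ Finset.range p, X ^ m with hE
  have hXE : X * E = E := by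
    have := mul_geom_sum X p
    rw [hXp, sub_self, sub_mul, one_mul, sub_eq_zero] at this
    exact this
  have hEX : E * X = E := by
    have := geom_sum_mul X p
    rw [hXp, sub_self, mul_sub, mul_one, sub_eq_zero] at this
    exact this
  have hXmE : ∀ m : ℕ, X ^ m * E = E := by
    intro m
    induction m with
    | zero => rw [pow_zero, one_mul]
    | succ m ih => rw [pow_succ, mul_assoc, hXE, ih]
  have hEE : E * E = (p : F) • E := by
    conv_lhs => rw [hE, Finset.sum_mul]
    rw [← hE]
    simp_rw [hXmE]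
    rw [Finset.sum_const, Finset.card_range, Nat.cast_smul_eq_nsmul]
  set e : Matrix (Fin p) (Fin p) F := (p : F)⁻¹ • E with he
  have hee : e * e = e := by
    rw [he, Matrix.smul_mul, Matrix.mul_smul, hEE, smul_smul, smul_smul, mul_assoc,
      inv_mul_cancel₀ hpF, mul_one]
  have hcomm : e * X = X * e := by
    rw [he, Matrix.smul_mul, Matrix.mul_smul, hEX, hXE]
  have hxQ : x ∈ Q := (hQ x).mpr ⟨k, hx⟩
  apply exists_ne_of_pElement_commute Q x (idemHom e hee z) hxQ (idemHom_commute e hee z x hcomm) 1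
  · rw [pow_one]; exact idemHom_pow e hee z p hz
  · rw [hQ]
    rintro ⟨s, hs⟩
    have hzF : (z : F) - 1 ≠ 0 := sub_ne_zero.mpr (fun h => hz1 (Units.ext h))
    have hentry : ∀ m₀ : ℕ, 0 < m₀ → m₀ < p →
        ((idemHom e hee z : GL (Fin p) F) : Matrix (Fin p) (Fin p) F) (0 + m₀ • k) 0 ≠ 0 := by
      intro m₀ h0 hlt
      have hne0 : (0 : Fin p) + m₀ • k ≠ 0 := by
        rw [zero_add]
        intro h
        have h' : m₀ • k = 0 • k := by rw [h, zero_nsmul]
        rw [nsmul_eq_iff hk] at h'
        have := Nat.ModEq.eq_of_lt_of_lt h' hlt hpp.pos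
        omega
      have hEent : E (0 + m₀ • k) 0 = (X ^ m₀) (0 + m₀ • k) 0 := by
        rw [hE, Matrix.sum_apply]
        apply Finset.sum_eq_single m₀
        · intro m hm hmne
          apply (isMono_pow hx m).1
          intro h
          apply hmne
          have h' : m₀ • k = m • k := add_left_cancel h
          rw [nsmul_eq_iff hk] at h'
          exact (Nat.ModEq.eq_of_lt_of_lt h' hlt (Finset.mem_range.mp hm)).symm
        · intro h
          exact absurd (Finset.mem_range.mpr hlt) h
      rw [idemHom_coe, Matrix.add_apply, Matrix.one_apply_ne hne0, zero_add, Matrix.smul_apply, he,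
        Matrix.smul_apply, hEent, smul_eq_mul, smul_eq_mul]
      exact mul_ne_zero hzF (mul_ne_zero (inv_ne_zero hpF) ((isMono_pow hx m₀).ne_zero 0))
    have e1 : (0 : Fin p) + 1 • k = 0 + s := by
      by_contra h
      exact hentry 1 (by omega) (by omega) (hs.1 _ _ h)
    have e2 : (0 : Fin p) + 2 • k = 0 + s := by
      by_contra h
      exact hentry 2 (by omega) (by omega) (hs.1 _ _ h)
    have h12 : 1 • k = 2 • k := add_left_cancel (e1.trans e2.symm)
    rw [nsmul_eq_iff hk] at h12
    have := Nat.ModEq.eq_of_lt_of_lt h12 (by omega) (by omega)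
    omega


/-- Case (iii): a non-diagonal element of order `p²`. -/
theorem case_order_psq (hp2 : p ≠ 2) (x : GL (Fin p) F) (k : Fin p) (hk : k ≠ 0)
    (hx : IsMono (x : Matrix (Fin p) (Fin p) F) k) (hxp : x ^ p ≠ 1) :
    ∃ P : Sylow p (GL (Fin p) F), P ≠ Q ∧ x ∈ P := by
  have hpp : p.Prime := hp.out
  have hodd : Odd p := hpp.odd_of_ne_two hp2
  set X : Matrix (Fin p) (Fin p) F := (x : Matrix (Fin p) (Fin p) F) with hX
  -- `X ^ p` is scalar
  have hpk : p • k = 0 := by
    have h := card_nsmul_eq_zero' (G := Fin p) (x := k)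
    rw [Nat.card_fin] at h
    exact h
  have hD : IsMono (X ^ p) 0 := by
    have := isMono_pow hx p
    rwa [hpk] at this
  set D : Matrix (Fin p) (Fin p) F := X ^ p with hDdef
  have hDX : D * X = X * D := by rw [hDdef]; exact pow_mul_comm' X p
  have hstep : ∀ j : Fin p, D (j + k) (j + k) = D j j := by
    intro j
    have h1 := congrFun (congrFun hDX (j + k)) j
    rw [HasShift.mul_apply hD.1, HasShift.mul_apply' X hD.1, sub_zero, add_zero] at h1
    have hne : X (j + k) j ≠ 0 := hx.ne_zero j
    rw [mul_comm] at h1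
    exact mul_left_cancel₀ hne h1
  have hmul : ∀ m : ℕ, D (m • k) (m • k) = D 0 0 := by
    intro m
    induction m with
    | zero => rw [zero_nsmul]
    | succ m ih => rw [succ_nsmul, hstep, ih]
  set c : F := D 0 0 with hc
  have hDc : D = c • (1 : Matrix (Fin p) (Fin p) F) := by
    ext a b
    rw [Matrix.smul_apply, Matrix.one_apply]
    split_ifs with hab
    · subst hab
      obtain ⟨m, rfl⟩ := exists_nsmul_eq hk a
      rw [hmul m, smul_eq_mul, mul_one]
    · rw [smul_zero]
      apply hD.1
      rw [add_zero]; exact hab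
  have hcp : c ^ p = 1 := by
    have := hD.2 0
    rwa [add_zero] at this
  have hc1 : c ≠ 1 := by
    intro h
    apply hxp
    apply Units.ext
    rw [Units.val_pow_eq_pow_val, Units.val_one]
    show D = 1
    rw [hDc, h, one_smul]
  have hc2 : 1 + c ≠ 0 := by
    intro h
    have hcneg : c = -1 := by linear_combination h
    rw [hcneg, hodd.neg_one_pow] at hcp
    apply hc1
    rw [hcneg, hcp]
  -- the inverse of `1 + X`
  set B : Matrix (Fin p) (Fin p) F := ∑ m ∈ Finset.range p, (-X) ^ m with hB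
  have hB1 : (1 + X) * B = (1 + c) • (1 : Matrix (Fin p) (Fin p) F) := by
    have := mul_geom_sum (-X) p
    rw [hodd.neg_pow, ← hDdef, hDc] at this
    have h2 : (1 + X) * B = -((-X - 1) * B) := by
      rw [← neg_mul]; congr 1; abel
    rw [h2, this, add_smul, one_smul]
    abel
  have hB2 : B * (1 + X) = (1 + c) • (1 : Matrix (Fin p) (Fin p) F) := by
    have := geom_sum_mul (-X) p
    rw [hodd.neg_pow, ← hDdef, hDc] at this
    have h2 : B * (1 + X) = -(B * (-X - 1)) := by
      rw [← mul_neg]; congr 1; abel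
    rw [h2, this, add_smul, one_smul]
    abel
  let g : GL (Fin p) F := ⟨1 + X, (1 + c)⁻¹ • B,
    by rw [Matrix.mul_smul, hB1, smul_smul, inv_mul_cancel₀ hc2, one_smul],
    by rw [Matrix.smul_mul, hB2, smul_smul, inv_mul_cancel₀ hc2, one_smul]⟩
  have hgcoe : (g : Matrix (Fin p) (Fin p) F) = 1 + X := rfl
  have hgx : g * x = x * g := by
    apply Units.ext
    rw [Units.val_mul, Units.val_mul]
    show (1 + X) * X = X * (1 + X)
    rw [add_mul, mul_add, one_mul, mul_one]
  have hxQ : x ∈ Q := (hQ x).mpr ⟨k, hx⟩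
  have hxg : g⁻¹ * x * g ∈ Q := by
    have : g⁻¹ * x * g = x := by
      calc g⁻¹ * x * g = g⁻¹ * (x * g) := by group
        _ = g⁻¹ * (g * x) := by rw [hgx]
        _ = x := by group
    rw [this]; exact hxQ
  have hyQ : testElt z ∈ Q := (hQ _).mpr ⟨0, isMono_testElt z hz⟩
  apply exists_ne_of_conj_not_mem Q x g (testElt z) hxg hyQ
  rw [hQ]
  rintro ⟨s, hs⟩
  set W : Matrix (Fin p) (Fin p) F := ((g * testElt z * g⁻¹ : GL (Fin p) F) :
    Matrix (Fin p) (Fin p) F) with hW
  set Y : Matrix (Fin p) (Fin p) F := ((testElt z : GL (Fin p) F) : Matrix (Fin p) (Fin p) F)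
    with hY
  have hYmono : IsMono Y 0 := isMono_testElt z hz
  have hkey : W * (1 + X) = (1 + X) * Y := by
    have h1 : (g * testElt z * g⁻¹) * g = g * testElt z := by group
    have h2 := congrArg (fun u : GL (Fin p) F => (u : Matrix (Fin p) (Fin p) F)) h1
    simp only [Units.val_mul] at h2
    exact h2
  rw [mul_add, add_mul, mul_one, one_mul] at hkey
  have hWX : HasShift (W * X) (k + s) := hs.1.mul hx.1
  have hXY : HasShift (X * Y) (0 + k) := hx.1.mul hYmono.1
  have hzF : (z : F) ≠ 0 := z.ne_zero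
  have hz1F : (z : F) ≠ 1 := fun h => hz1 (Units.ext h)
  have hXk0 : X k 0 ≠ 0 := by
    have := hx.ne_zero 0
    rwa [zero_add] at this
  have hk2 : k ≠ k + k := by
    intro h
    apply hk
    have : k + 0 = k + k := by rw [add_zero]; exact h
    exact (add_left_cancel this).symm
  -- entry `(k, 0)` of the right hand side
  have hR : (Y + X * Y) k 0 = X k 0 * (z : F) := by
    rw [Matrix.add_apply, hYmono.1 k 0 (by rw [add_zero]; exact hk), zero_add,
      HasShift.mul_apply' X hYmono.1, add_zero, hY, testElt_apply_zero]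
  by_cases hs0 : s = 0
  · subst hs0
    -- entry `(k, 0)`
    have h1 := congrFun (congrFun hkey k) 0
    rw [hR, Matrix.add_apply, hs.1 k 0 (by rw [add_zero]; exact hk), zero_add,
      HasShift.mul_apply hs.1, sub_zero, mul_comm] at h1
    have hWkk : W k k = (z : F) := mul_left_cancel₀ hXk0 h1
    -- entry `(k, k)`
    have h2 := congrFun (congrFun hkey k) k
    rw [Matrix.add_apply, Matrix.add_apply, hWX k k (by rw [add_zero]; exact hk2),
      hXY k k (by rw [zero_add]; exact hk2), add_zero, add_zero, hWkk, hY,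
      testElt_apply_self z k hk] at h2
    exact hz1F h2
  · by_cases hks : k + s = 0
    · -- entry `(k, 0)`
      have h1 := congrFun (congrFun hkey k) 0
      rw [hR, Matrix.add_apply, hWX k 0 (by rw [hks, add_zero]; exact hk), add_zero] at h1
      have hW0 : W k 0 = 0 := by
        apply hs.1
        rw [zero_add]
        intro h
        rw [← h] at hks
        exact add_self_ne_zero hp2 hk hks
      rw [hW0] at h1
      exact mul_ne_zero hXk0 hzF h1.symm
    · -- entry `(0, 0)`
      have h1 := congrFun (congrFun hkey 0) 0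
      rw [Matrix.add_apply, Matrix.add_apply, hs.1 0 0 (by rw [zero_add]; exact fun h => hs0 h.symm),
        hWX 0 0 (by rw [zero_add]; exact fun h => hks h.symm),
        hXY 0 0 (by rw [zero_add, zero_add]; exact fun h => hk h.symm), add_zero, add_zero, hY,
        testElt_apply_zero] at h1
      exact hzF h1.symm


/-- Case (ii): a diagonal element with pairwise distinct diagonal entries. -/
theorem case_regular (hp2 : p ≠ 2) (x : GL (Fin p) F)
    (hx : IsMono (x : Matrix (Fin p) (Fin p) F) 0)
    (hinj : Function.Injective fun i : Fin p => (x : Matrix (Fin p) (Fin p) F) i i) :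
    ∃ P : Sylow p (GL (Fin p) F), P ≠ Q ∧ x ∈ P := by
  have hpp : p.Prime := hp.out
  have hp3 : 3 ≤ p := by
    have := hpp.two_le
    omega
  set X : Matrix (Fin p) (Fin p) F := (x : Matrix (Fin p) (Fin p) F) with hX
  set lam : Fin p → F := fun i => X i i with hlam
  have hlamp : ∀ i, lam i ^ p = 1 := by
    intro i
    have := hx.2 i
    rwa [add_zero] at this
  have hlam0 : ∀ i, lam i ≠ 0 := by
    intro i h
    have := hlamp i
    rw [h, zero_pow hpp.ne_zero] at this
    exact zero_ne_one this
  set V : Matrix (Fin p) (Fin p) F := Matrix.vandermonde lam with hV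
  have hdet : V.det ≠ 0 := Matrix.det_vandermonde_ne_zero_iff.mpr hinj
  set g : GL (Fin p) F := Matrix.GeneralLinearGroup.mkOfDetNeZero V hdet with hg
  have hgcoe : (g : Matrix (Fin p) (Fin p) F) = V := rfl
  -- the cyclic shift
  set S : GL (Fin p) F := monoGL (fun _ => 1) 1 with hS
  have hSmono : IsMono (S : Matrix (Fin p) (Fin p) F) 1 :=
    isMono_monoGL _ _ (fun _ => one_pow p)
  have hSent : ∀ j : Fin p, (S : Matrix (Fin p) (Fin p) F) (j + 1) j = 1 := by
    intro j
    show monoMat _ 1 (j + 1) j = 1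
    rw [monoMat_apply_self, Units.val_one]
  have hVS : V * (S : Matrix (Fin p) (Fin p) F) = X * V := by
    ext i j
    rw [HasShift.mul_apply' V hSmono.1, HasShift.mul_apply hx.1, sub_zero, hSent, mul_one, hV,
      Matrix.vandermonde_apply, Matrix.vandermonde_apply]
    show lam i ^ ((j + 1 : Fin p) : ℕ) = lam i * lam i ^ (j : ℕ)
    rw [Fin.val_add, Fin.val_one', ← pow_eq_pow_mod _ (hlamp i), Nat.mod_eq_of_lt hpp.one_lt,
      pow_succ, mul_comm]
  have hgS : g * S = x * g := by
    apply Units.ext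
    rw [Units.val_mul, Units.val_mul]
    exact hVS
  have hSQ : S ∈ Q := (hQ S).mpr ⟨1, hSmono⟩
  have hxg : g⁻¹ * x * g ∈ Q := by
    have : g⁻¹ * x * g = S := by
      calc g⁻¹ * x * g = g⁻¹ * (x * g) := by group
        _ = g⁻¹ * (g * S) := by rw [hgS]
        _ = S := by group
    rw [this]; exact hSQ
  have hyQ : testElt z ∈ Q := (hQ _).mpr ⟨0, isMono_testElt z hz⟩
  apply exists_ne_of_conj_not_mem Q x g (testElt z) hxg hyQ
  rw [hQ]
  rintro ⟨s, hs⟩
  set W : Matrix (Fin p) (Fin p) F := ((g * testElt z * g⁻¹ : GL (Fin p) F) :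
    Matrix (Fin p) (Fin p) F) with hW
  set Y : Matrix (Fin p) (Fin p) F := ((testElt z : GL (Fin p) F) : Matrix (Fin p) (Fin p) F)
    with hY
  have hYmono : IsMono Y 0 := isMono_testElt z hz
  have hkey : W * V = V * Y := by
    have h1 : (g * testElt z * g⁻¹) * g = g * testElt z := by group
    have h2 := congrArg (fun u : GL (Fin p) F => (u : Matrix (Fin p) (Fin p) F)) h1
    simp only [Units.val_mul] at h2
    exact h2
  have hent : ∀ j : Fin p, W 0 (0 - s) * lam (0 - s) ^ (j : ℕ) = lam 0 ^ (j : ℕ) * Y j j := by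
    intro j
    have h1 := congrFun (congrFun hkey 0) j
    rw [HasShift.mul_apply hs.1, HasShift.mul_apply' V hYmono.1, add_zero, hV,
      Matrix.vandermonde_apply, Matrix.vandermonde_apply] at h1
    exact h1
  set w : F := W 0 (0 - s) with hw
  set l' : F := lam (0 - s) with hl'
  have hzF : (z : F) ≠ 0 := z.ne_zero
  have hz1F : (z : F) ≠ 1 := fun h => hz1 (Units.ext h)
  -- `j = 0`
  have e0 : w = (z : F) := by
    have := hent 0
    rw [Fin.val_zero, pow_zero, pow_zero, mul_one, one_mul, hY, testElt_apply_zero] at this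
    exact this
  -- `j = 1`
  have h1ne : (⟨1, by omega⟩ : Fin p) ≠ 0 := by
    intro h
    have := congrArg Fin.val h
    rw [Fin.val_zero] at this
    exact one_ne_zero this
  have e1 : w * l' = lam 0 := by
    have := hent ⟨1, by omega⟩
    rw [hY, testElt_apply_self z _ h1ne, mul_one] at this
    simpa using this
  -- `j = 2`
  have h2ne : (⟨2, by omega⟩ : Fin p) ≠ 0 := by
    intro h
    have := congrArg Fin.val h
    rw [Fin.val_zero] at this
    exact two_ne_zero this
  have e2 : w * l' ^ 2 = lam 0 ^ 2 := by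
    have := hent ⟨2, by omega⟩
    rw [hY, testElt_apply_self z _ h2ne, mul_one] at this
    simpa using this
  have hl'0 : l' ≠ 0 := hlam0 _
  rw [e0] at e1 e2
  have hfin : (z : F) * l' ^ 2 * ((z : F) - 1) = 0 := by
    rw [← e1] at e2
    linear_combination -e2
  rcases mul_eq_zero.mp hfin with h | h
  · rcases mul_eq_zero.mp h with h | h
    · exact hzF h
    · exact hl'0 ((pow_eq_zero_iff (two_ne_zero)).mp h)
  · exact hz1F (sub_eq_zero.mp h)

end cases


/-- `GL_p(F)` has a redundant Sylow `p`-subgroup when `p` is odd and `p ∥ q - 1`. -/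
theorem redundant_GLp [Fintype F] (hp2 : p ≠ 2) (h1 : p ∣ Fintype.card F - 1)
    (h2 : ¬ p ^ 2 ∣ Fintype.card F - 1) : Redundant p (GL (Fin p) F) := by
  have hpp : p.Prime := hp.out
  set Q := monoSylow hp2 h1 h2 with hQdef
  have hQ : ∀ g : GL (Fin p) F, g ∈ Q ↔ ∃ k, IsMono (g : Matrix (Fin p) (Fin p) F) k :=
    mem_monoSylow hp2 h1 h2
  -- a primitive `p`-th root of unity
  have hc : Nat.card Fˣ = Fintype.card F - 1 := by
    rw [Nat.card_units, Nat.card_eq_fintype_card]
  obtain ⟨z, hz⟩ := exists_prime_orderOf_dvd_card' (G := Fˣ) p (by rw [hc]; exact h1)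
  have hzp : z ^ p = 1 := by rw [← hz]; exact pow_orderOf_eq_one z
  have hz1 : z ≠ 1 := by
    rintro rfl
    rw [orderOf_one] at hz
    exact hpp.one_lt.ne hz
  have hpF : (p : F) ≠ 0 := by
    intro h
    obtain ⟨m, hm⟩ := h1
    have hq1 : 1 < Fintype.card F := Fintype.one_lt_card
    have hq : Fintype.card F = p * m + 1 := by omega
    have h0 : ((Fintype.card F : ℕ) : F) = 0 := Nat.cast_card_eq_zero F
    rw [hq, Nat.cast_add, Nat.cast_mul, h, zero_mul, zero_add, Nat.cast_one] at h0
    exact one_ne_zero h0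
  apply redundant_of_forall_mem Q
  intro x hxQ
  obtain ⟨k, hk⟩ := (hQ x).mp hxQ
  by_cases hk0 : k = 0
  · subst hk0
    by_cases hinj : Function.Injective fun i : Fin p => (x : Matrix (Fin p) (Fin p) F) i i
    · exact case_regular Q hQ z hzp hz1 hp2 x hk hinj
    · rw [Function.Injective] at hinj
      push Not at hinj
      obtain ⟨i, j, heq, hij⟩ := hinj
      exact case_repeated Q hQ z hzp hz1 x hk i j hij heq
  · by_cases hxp : x ^ p = 1
    · exact case_order_p Q hQ z hzp hz1 hp2 hpF x k hk0 hk hxp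
    · exact case_order_psq Q hQ z hzp hz1 hp2 x k hk0 hk hxp

end Cfsg.Agent.Lib.Helper41_GLpRedundant
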