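import Mathlib
import Cfsg.Agent.Lib.Helper84_TutteDefs
import Cfsg.Agent.Lib.Helper84_TutteAPI
import Cfsg.Agent.Lib.Helper84_GlDefs
import Cfsg.Agent.Lib.Helper84_GlAPI
import Cfsg.Agent.Lib.Helper10_Tutte_CSTAB

/-!
# S4359 (architect helper84), package GC-STAB (paper (1.4)-(1.5))

The chain `R_k = RI P g 0 k` has indices `p` for `k < t`, then stabilises, and `R_t` is `g`-invariant.
Adaptation of `Helper10_Tutte_CSTAB.exists_chainData` (whose `p`-independent lemmas `RI_anti'`, `RI_le_H'`,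
`RI_succ'` are reused).
-/

set_option autoImplicit false

open scoped commutatorElement
open Cfsg.Agent.Lib.Helper84_TutteDefs Cfsg.Agent.Lib.Helper84_GlDefs

namespace Cfsg.Agent.Lib.Helper41_Gl_GCSTAB

variable {G : Type*} [Group G] {P : Subgroup G} {g x0 : G} {p t lam : ℕ}

/-- GC-STAB (M/L), paper (1.4)-(1.5).  ADAPT `Helper10_Tutte_CSTAB.exists_chainData`. -/
theorem exists_pchainData (hc : PChainHyp P g p)
    (hidx0 : (RI P g 0 1).relIndex (RI P g 0 0) = p)
    (hidx : ∀ k : ℕ, (RI P g 0 ((k : ℤ) + 1)).relIndex (RI P g 0 k) = 1 ∨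
      (RI P g 0 ((k : ℤ) + 1)).relIndex (RI P g 0 k) = p) :
    ∃ t : ℕ, PChainData P g p t := by
  classical
  have hfin : Finite P := hc.fin
  have hp2 : 2 ≤ p := hc.prime.two_le
  have hRfin : ∀ j : ℤ, 0 ≤ j → Finite (RI P g 0 j) := fun j hj =>
    Finite.of_injective (Subgroup.inclusion (Cfsg.Agent.Lib.Helper10_Tutte_CSTAB.RI_le_H' hj))
      (Subgroup.inclusion_injective _)
  have hle : ∀ k : ℕ, RI P g 0 ((k : ℤ) + 1) ≤ RI P g 0 k := fun k =>
    Cfsg.Agent.Lib.Helper10_Tutte_CSTAB.RI_anti' le_rfl (by omega)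
  -- the chain stabilises somewhere
  have hex : ∃ k : ℕ, (RI P g 0 ((k : ℤ) + 1)).relIndex (RI P g 0 k) = 1 := by
    by_contra hcon
    push Not at hcon
    have h2 : ∀ k : ℕ, (RI P g 0 ((k : ℤ) + 1)).relIndex (RI P g 0 k) = p :=
      fun k => (hidx k).resolve_left (hcon k)
    have hcard : ∀ k : ℕ, Nat.card (RI P g 0 0) = Nat.card (RI P g 0 (k : ℤ)) * p ^ k := by
      intro k
      induction k with
      | zero => simp
      | succ k ih =>
        rw [ih]
        have h3 := card_mul_relIndex' (hle k)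
        rw [h2 k] at h3
        push_cast at h3 ⊢
        rw [← h3]
        ring
    have hpos : ∀ k : ℕ, 0 < Nat.card (RI P g 0 (k : ℤ)) := fun k => by
      have := hRfin (k : ℤ) (by omega)
      exact Nat.card_pos
    have h4 := hcard (Nat.card (RI P g 0 0))
    have hlt : Nat.card (RI P g 0 0) < p ^ Nat.card (RI P g 0 0) := Nat.lt_pow_self (by omega)
    have h5 := hpos (Nat.card (RI P g 0 0))
    nlinarith
  refine ⟨Nat.find hex, ?_, ?_, ?_, ?_⟩
  · -- `1 ≤ t`
    by_contra hlt
    have hs0 : Nat.find hex = 0 := by omega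
    have h2 := Nat.find_spec hex
    rw [hs0] at h2
    have e : ((0 : ℕ) : ℤ) + 1 = 1 := by norm_num
    rw [e, Nat.cast_zero, hidx0] at h2
    omega
  · intro k hks
    have h1 := Nat.find_min hex hks
    rcases hidx k with h | h
    · exact absurd h h1
    · exact h
  · have h2 := Nat.find_spec hex
    rw [Subgroup.relIndex_eq_one] at h2
    exact le_antisymm (hle _) h2
  · have h2 := Nat.find_spec hex
    rw [Subgroup.relIndex_eq_one,
      Cfsg.Agent.Lib.Helper10_Tutte_CSTAB.RI_succ' _ (Int.natCast_nonneg _)] at h2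
    have h3 : RI P g 0 (Nat.find hex : ℤ) ≤ cj g (RI P g 0 (Nat.find hex : ℤ)) :=
      le_trans h2 inf_le_right
    have := hRfin (Nat.find hex : ℤ) (Int.natCast_nonneg _)
    have hfin' : Finite (cj g (RI P g 0 (Nat.find hex : ℤ))) :=
      Finite.of_equiv _ (Subgroup.equivMapOfInjective _ (MulAut.conj g).toMonoidHom
        (MulAut.conj g).injective).toEquiv
    exact (Subgroup.eq_of_le_of_card_ge h3 (by rw [card_cj])).symm

end Cfsg.Agent.Lib.Helper41_Gl_GCSTAB
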