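import Mathlib
import Cfsg.Prelude.Def_Characters
import Cfsg.Agent.Lib.Helper80_CharBasic
import Cfsg.Agent.Lib.Helper17_H27Defs
import Cfsg.Agent.Lib.Helper76_H648Defs

/-!
# S3702 package CLS-B (architect helper76, market `h648_packages`): the centralizer orders of the nine special
class representatives, aux form.

`rep_cent_of`: the statement of `rep_cent` with the statements of PERM (`perm_param`), FUS (`special_cent`) and
CLS-A (`rep_special`) as hypotheses.  The centralizer lies in `H`, is transported to `K₀ ≤ Sym(9)` by the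
isomorphism `ψ` of `Hyp`, and is counted there over the 648 parameters (kernel computation on table-defined
copies of the permutations).
-/

set_option autoImplicit false
set_option linter.unusedSectionVars false

namespace Cfsg.Agent.Lib.Helper41_H648_CLSBaux

open Cfsg Cfsg.Agent.Lib.Helper80_CharBasic Cfsg.Agent.Lib.Helper76_H648Defs
open Cfsg.Agent.Lib.Helper17_H27Defs (elt)

/-! ### table-defined copies of the permutations -/

/-- a permutation from its table and the table of its inverse -/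
def mkP (f g : Fin 9 → Fin 9) (h1 : ∀ x, g (f x) = x) (h2 : ∀ x, f (g x) = x) :
    Equiv.Perm (Fin 9) := ⟨f, g, h1, h2⟩

def qA : Equiv.Perm (Fin 9) :=
  mkP ![1, 2, 0, 3, 4, 5, 6, 7, 8] ![2, 0, 1, 3, 4, 5, 6, 7, 8] (by decide) (by decide)
def qB : Equiv.Perm (Fin 9) :=
  mkP ![0, 1, 2, 4, 5, 3, 6, 7, 8] ![0, 1, 2, 5, 3, 4, 6, 7, 8] (by decide) (by decide)
def qC : Equiv.Perm (Fin 9) :=
  mkP ![0, 1, 2, 3, 4, 5, 7, 8, 6] ![0, 1, 2, 3, 4, 5, 8, 6, 7] (by decide) (by decide)
def qS : Equiv.Perm (Fin 9) :=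
  mkP ![3, 4, 5, 6, 7, 8, 0, 1, 2] ![6, 7, 8, 0, 1, 2, 3, 4, 5] (by decide) (by decide)
def qU : Equiv.Perm (Fin 9) :=
  mkP ![1, 0, 2, 4, 3, 5, 6, 7, 8] ![1, 0, 2, 4, 3, 5, 6, 7, 8] (by decide) (by decide)
def qV : Equiv.Perm (Fin 9) :=
  mkP ![3, 4, 5, 0, 1, 2, 7, 6, 8] ![3, 4, 5, 0, 1, 2, 7, 6, 8] (by decide) (by decide)
def qT : Equiv.Perm (Fin 9) :=
  mkP ![3, 4, 5, 1, 0, 2, 6, 7, 8] ![4, 3, 5, 0, 1, 2, 6, 7, 8] (by decide) (by decide)

theorem pA_eq : pA = qA := by apply Equiv.ext; decide +kernel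
theorem pB_eq : pB = qB := by apply Equiv.ext; decide +kernel
theorem pC_eq : pC = qC := by apply Equiv.ext; decide +kernel
theorem pS_eq : pS = qS := by apply Equiv.ext; decide +kernel
theorem pU_eq : pU = qU := by apply Equiv.ext; decide +kernel
theorem pV_eq : pV = qV := by apply Equiv.ext; decide +kernel
theorem pT_eq : pT = qT := by apply Equiv.ext; decide +kernel

/-- the parametrization of `K₀` -/
def par (p : (ZMod 3 × ZMod 3 × ZMod 3) × Fin 24) : Equiv.Perm (Fin 9) :=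
  elt qA qB qC p.1 * Wfun qS qU qV p.2

/-- the nine representatives in `Sym(9)` -/
def rq (i : Fin 9) : Equiv.Perm (Fin 9) := rep9 qA qB qC qS qU qV qT i

set_option maxRecDepth 100000 in
/-- the count of the centralizers over the 648 parameters -/
theorem count_comm : ∀ i : Fin 9,
    (Finset.univ.filter (fun p : (ZMod 3 × ZMod 3 × ZMod 3) × Fin 24 =>
      par p * rq i = rq i * par p)).card = cent9 i := by
  decide +kernel

/-! ### transport -/

/-- `rep9` commutes with homomorphisms -/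
theorem map_rep9 {M N : Type*} [Group M] [Group N] (φ : M →* N) (a b c σ u v s : M) (i : Fin 9) :
    φ (rep9 a b c σ u v s i) = rep9 (φ a) (φ b) (φ c) (φ σ) (φ u) (φ v) (φ s) i := by
  fin_cases i <;> simp [rep9, map_mul, map_inv]

/-- the parametrization part of the statement of PERM -/
def PermStmt : Prop :=
  (∀ k ∈ Subgroup.closure S0, ∃ (e : ZMod 3 × ZMod 3 × ZMod 3) (i : Fin 24),
    k = elt pA pB pC e * Wfun pS pU pV i) ∧
  (∀ (e : ZMod 3 × ZMod 3 × ZMod 3) (i : Fin 24),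
    elt pA pB pC e * Wfun pS pU pV i ∈ Subgroup.closure S0) ∧
  Function.Injective (fun p : (ZMod 3 × ZMod 3 × ZMod 3) × Fin 24 =>
    elt pA pB pC p.1 * Wfun pS pU pV p.2) ∧
  Nat.card (Subgroup.closure S0) = 648

theorem par_eq (p : (ZMod 3 × ZMod 3 × ZMod 3) × Fin 24) :
    elt pA pB pC p.1 * Wfun pS pU pV p.2 = par p := by
  rw [pA_eq, pB_eq, pC_eq, pS_eq, pU_eq, pV_eq]
  rfl

theorem rq_eq (i : Fin 9) : rep9 pA pB pC pS pU pV pT i = rq i := by
  rw [pA_eq, pB_eq, pC_eq, pS_eq, pU_eq, pV_eq, pT_eq]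
  rfl

section grp
variable {G : Type*} [Group G] [Finite G]
variable {H J : Subgroup G} {a b c σ u v s : G}

/-- CLS-B with the statements of PERM, FUS (`special_cent`) and CLS-A (`rep_special`) as hypotheses. -/
theorem rep_cent_of (hperm : PermStmt)
    (hsc : ∀ {x : G} {m : ℕ}, x ^ m ∈ J → x ^ m ≠ 1 → Subgroup.centralizer ({x} : Set G) ≤ H)
    (hsp : ∀ i : Fin 9, rep9 a b c σ u v s i ∈ H ∧
      ∃ m : ℕ, (rep9 a b c σ u v s i) ^ m ∈ J ∧ (rep9 a b c σ u v s i) ^ m ≠ 1)
    (h : Hyp G H J a b c σ u v s) (i : Fin 9) :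
    Nat.card (Subgroup.centralizer ({rep9 a b c σ u v s i} : Set G)) = cent9 i := by
  classical
  obtain ⟨ψ, hinj, hrange, h1, h2, h3, h4⟩ := h.iso
  obtain ⟨hp1, hp2, hp3, -⟩ := hperm
  -- the elements of `K₀`
  set kA : ↥(Subgroup.closure S0) := ⟨g1, g1_mem⟩ with hkA
  set kS : ↥(Subgroup.closure S0) := ⟨g2, g2_mem⟩ with hkS
  set kU : ↥(Subgroup.closure S0) := ⟨g3, g3_mem⟩ with hkU
  set kV : ↥(Subgroup.closure S0) := ⟨g4, g4_mem⟩ with hkV
  set kB : ↥(Subgroup.closure S0) := kS * kA * kS⁻¹ with hkB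
  set kC : ↥(Subgroup.closure S0) := kS * kB * kS⁻¹ with hkC
  set kT : ↥(Subgroup.closure S0) := kV * (kS * kU * kS⁻¹) with hkT
  have eb : ψ kB = b := by rw [hkB, map_mul, map_mul, map_inv, h1, h2, ← h.hb]
  have ec : ψ kC = c := by rw [hkC, map_mul, map_mul, map_inv, eb, h2, ← h.hc]
  have es : ψ kT = s := by
    rw [hkT, map_mul, map_mul, map_mul, map_inv, h2, h3, h4, ← h.hs]
  set x0 : ↥(Subgroup.closure S0) := rep9 kA kB kC kS kU kV kT i with hx0
  have hψx0 : ψ x0 = rep9 a b c σ u v s i := by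
    rw [hx0, map_rep9, h1, eb, ec, h2, h3, h4, es]
  have ekB : (kB : Equiv.Perm (Fin 9)) = pB := by
    rw [hkB, Subgroup.coe_mul, Subgroup.coe_mul, Subgroup.coe_inv]
    rfl
  have ekC : (kC : Equiv.Perm (Fin 9)) = pC := by
    rw [hkC, Subgroup.coe_mul, Subgroup.coe_mul, Subgroup.coe_inv, ekB]
    rfl
  have ekT : (kT : Equiv.Perm (Fin 9)) = pT := by
    rw [hkT, Subgroup.coe_mul, Subgroup.coe_mul, Subgroup.coe_mul, Subgroup.coe_inv]
    rfl
  have hx0v : (x0 : Equiv.Perm (Fin 9)) = rq i := by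
    have e1 : ((rep9 kA kB kC kS kU kV kT i : ↥(Subgroup.closure S0)) : Equiv.Perm (Fin 9)) =
        rep9 (kA : Equiv.Perm (Fin 9)) kB kC kS kU kV kT i :=
      map_rep9 (Subgroup.closure S0).subtype kA kB kC kS kU kV kT i
    rw [ekB, ekC, ekT] at e1
    rw [← rq_eq, hx0, e1]
    rfl
  -- the centralizer lies in `H`
  obtain ⟨-, m, hm, hm1⟩ := hsp i
  have hle : Subgroup.centralizer ({rep9 a b c σ u v s i} : Set G) ≤ H := hsc hm hm1
  -- the bijection with the commuting parameters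
  let f : {p : (ZMod 3 × ZMod 3 × ZMod 3) × Fin 24 // par p * rq i = rq i * par p} →
      ↥(Subgroup.centralizer ({rep9 a b c σ u v s i} : Set G)) := fun p =>
    ⟨ψ ⟨elt pA pB pC p.1.1 * Wfun pS pU pV p.1.2, hp2 _ _⟩, by
      rw [Subgroup.mem_centralizer_singleton_iff, ← hψx0, ← map_mul, ← map_mul]
      refine congrArg ψ (Subtype.ext ?_)
      rw [Subgroup.coe_mul, Subgroup.coe_mul, hx0v, Subtype.coe_mk, par_eq]
      exact p.2⟩
  have hf : Function.Bijective f := by
    constructor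
    · intro p q hpq
      have h1' : ψ ⟨elt pA pB pC p.1.1 * Wfun pS pU pV p.1.2, hp2 _ _⟩ =
          ψ ⟨elt pA pB pC q.1.1 * Wfun pS pU pV q.1.2, hp2 _ _⟩ := congrArg Subtype.val hpq
      have h2' := congrArg Subtype.val (hinj h1')
      exact Subtype.ext (hp3 h2')
    · intro g
      have hgH : (g : G) ∈ H := hle g.2
      rw [← hrange] at hgH
      obtain ⟨k, hk⟩ := hgH
      obtain ⟨e, j, hej⟩ := hp1 k k.2
      have hcomm : k * x0 = x0 * k := by
        apply hinj
        rw [map_mul, map_mul, hk, hψx0]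
        exact Subgroup.mem_centralizer_singleton_iff.mp g.2
      have hcomm' : par (e, j) * rq i = rq i * par (e, j) := by
        have := congrArg Subtype.val hcomm
        rw [Subgroup.coe_mul, Subgroup.coe_mul, hx0v, hej] at this
        rw [← par_eq]
        exact this
      refine ⟨⟨(e, j), hcomm'⟩, ?_⟩
      apply Subtype.ext
      show ψ ⟨elt pA pB pC e * Wfun pS pU pV j, hp2 _ _⟩ = (g : G)
      rw [← hk]
      exact congrArg ψ (Subtype.ext hej.symm)
  rw [← Nat.card_congr (Equiv.ofBijective f hf), Nat.card_eq_fintype_card, Fintype.card_subtype]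
  exact count_comm i

end grp

end Cfsg.Agent.Lib.Helper41_H648_CLSBaux
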