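import Mathlib
import Cfsg.Prelude.Def_Characters
import Cfsg.Prelude.Def_TwoFusion
import Cfsg.Prelude.Def_Solvable
import Cfsg.Agent.Lib.Helper80_CharBasic
import Cfsg.Agent.Lib.Helper80_CharComplete
import Cfsg.Agent.Lib.Helper17_H27Defs
import Cfsg.Agent.Lib.Helper76_H648Defs
import Cfsg.Agent.Lib.Helper52_H648_PERM
import Cfsg.Agent.Lib.Helper2_H648_CLSA
import Cfsg.Agent.Lib.Helper2_H648_FUS
import Cfsg.Agent.Lib.Helper41_H648_CLSBaux

/-!
# S3702 package CLS-B (architect helper76, market `h648_packages`): `rep_cent`, verbatim form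
(`Helper41_H648_CLSBaux.rep_cent_of` + the landed PERM `perm_param`, FUS `special_cent`, CLS-A `rep_special`).
-/

set_option autoImplicit false
set_option linter.unusedSectionVars false
open scoped ComplexConjugate

namespace Cfsg.Agent.Lib.Helper41_H648_CLSB

open Cfsg Cfsg.Agent.Lib.Helper80_CharBasic
  Cfsg.Agent.Lib.Helper76_H648Defs
open Cfsg.Agent.Lib.Helper17_H27Defs (elt)

section grp
variable {G : Type*} [Group G] [Finite G]

variable {H J : Subgroup G} {a b c σ u v s : G}

theorem rep_cent (h : Hyp G H J a b c σ u v s) (i : Fin 9) :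
    Nat.card (Subgroup.centralizer ({rep9 a b c σ u v s i} : Set G)) = cent9 i :=
  Cfsg.Agent.Lib.Helper41_H648_CLSBaux.rep_cent_of Cfsg.Agent.Lib.Helper52_H648_PERM.perm_param
    (fun hm hm1 => Cfsg.Agent.Lib.Helper2_H648_FUS.special_cent h hm hm1)
    (fun i => Cfsg.Agent.Lib.Helper2_H648_CLSA.rep_special h i) h i

end grp

end Cfsg.Agent.Lib.Helper41_H648_CLSB
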