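import Mathlib

set_option autoImplicit false
set_option linter.unusedSectionVars false
set_option linter.unusedVariables false

/-!
Local structure of a strongly regular graph with parameters `(100, 22, 0, 6)`: for every vertex
`v`, the traces on the neighbourhood of `v` of the neighbourhoods of the 77 vertices far from `v`
meet pairwise in 0 or 2 points (helper41).
-/

namespace Cfsg.Agent.Lib.Helper41_HSloc

variable {V : Type*} [Fintype V] [DecidableEq V] (Γ : SimpleGraph V) [DecidableRel Γ.Adj]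

/-- the Higman–Sims parameters, in a form convenient for counting -/
structure IsHS : Prop where
  card : Fintype.card V = 100
  deg : ∀ x, (Γ.neighborFinset x).card = 22
  tri : ∀ x y z, Γ.Adj x y → Γ.Adj x z → ¬ Γ.Adj y z
  mu : ∀ x y, x ≠ y → ¬ Γ.Adj x y → (Γ.neighborFinset x ∩ Γ.neighborFinset y).card = 6

theorem isHS_of_srg (h : Γ.IsSRGWith 100 22 0 6) : IsHS Γ := by
  have hcn : ∀ x y, Fintype.card ↑(Γ.commonNeighbors x y) =
      (Γ.neighborFinset x ∩ Γ.neighborFinset y).card := by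
    intro x y
    apply Fintype.card_of_subtype
    intro z
    rw [Finset.mem_inter, SimpleGraph.mem_neighborFinset, SimpleGraph.mem_neighborFinset]
    exact (SimpleGraph.mem_commonNeighbors Γ).symm
  refine ⟨h.card, ?_, ?_, ?_⟩
  · intro x
    rw [SimpleGraph.card_neighborFinset_eq_degree]
    exact h.regular x
  · intro x y z hxy hxz hyz
    have h0 := h.of_adj y z hyz
    rw [hcn, Finset.card_eq_zero] at h0
    have : x ∈ Γ.neighborFinset y ∩ Γ.neighborFinset z := by
      rw [Finset.mem_inter, SimpleGraph.mem_neighborFinset, SimpleGraph.mem_neighborFinset]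
      exact ⟨hxy.symm, hxz.symm⟩
    rw [h0] at this
    exact Finset.notMem_empty _ this
  · intro x y hxy hadj
    rw [← hcn]
    exact h.of_not_adj hxy hadj

/-- the vertices at distance two from `v` -/
def far (v : V) : Finset V := Finset.univ.filter (fun u => u ≠ v ∧ ¬ Γ.Adj v u)

/-- the common neighbours of `u` and `v` -/
def blk (v u : V) : Finset V := Γ.neighborFinset u ∩ Γ.neighborFinset v

variable {Γ}

theorem mem_far {v u : V} : u ∈ far Γ v ↔ u ≠ v ∧ ¬ Γ.Adj v u := by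
  rw [far, Finset.mem_filter]
  simp

theorem mem_blk {v u w : V} : w ∈ blk Γ v u ↔ Γ.Adj u w ∧ Γ.Adj v w := by
  rw [blk, Finset.mem_inter, SimpleGraph.mem_neighborFinset, SimpleGraph.mem_neighborFinset]

theorem card_far (h : IsHS Γ) (v : V) : (far Γ v).card = 77 := by
  have h1 : far Γ v = (insert v (Γ.neighborFinset v))ᶜ := by
    ext u
    rw [mem_far, Finset.mem_compl, Finset.mem_insert, SimpleGraph.mem_neighborFinset]
    tauto
  rw [h1, Finset.card_compl, h.card, Finset.card_insert_of_notMem, h.deg]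
  rw [SimpleGraph.mem_neighborFinset]
  exact Γ.loopless.irrefl v

theorem card_blk (h : IsHS Γ) {v u : V} (hu : u ∈ far Γ v) : (blk Γ v u).card = 6 := by
  rw [mem_far] at hu
  exact h.mu u v hu.1 (fun hadj => hu.2 hadj.symm)

/-- the far vertices other than `u` and not adjacent to `u` -/
def rest (v u : V) : Finset V := (far Γ v).filter (fun u' => u' ≠ u ∧ ¬ Γ.Adj u u')

theorem mem_rest {v u u' : V} :
    u' ∈ rest (Γ := Γ) v u ↔ (u' ≠ v ∧ ¬ Γ.Adj v u') ∧ u' ≠ u ∧ ¬ Γ.Adj u u' := by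
  rw [rest, Finset.mem_filter, mem_far]

theorem card_rest (h : IsHS Γ) {v u : V} (hu : u ∈ far Γ v) : (rest (Γ := Γ) v u).card = 60 := by
  have hu' := mem_far.mp hu
  have h1 : rest (Γ := Γ) v u = far Γ v \ insert u (Γ.neighborFinset u \ Γ.neighborFinset v) := by
    ext u'
    rw [mem_rest, Finset.mem_sdiff, mem_far, Finset.mem_insert, Finset.mem_sdiff,
      SimpleGraph.mem_neighborFinset, SimpleGraph.mem_neighborFinset]
    tauto
  have h2 : insert u (Γ.neighborFinset u \ Γ.neighborFinset v) ⊆ far Γ v := by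
    intro u'
    rw [Finset.mem_insert, Finset.mem_sdiff, SimpleGraph.mem_neighborFinset,
      SimpleGraph.mem_neighborFinset, mem_far]
    rintro (rfl | ⟨h3, h4⟩)
    · exact hu'
    · refine ⟨?_, h4⟩
      rintro rfl
      exact hu'.2 h3.symm
  have h3 : (Γ.neighborFinset u \ Γ.neighborFinset v).card = 16 := by
    have := Finset.card_sdiff_add_card_inter (Γ.neighborFinset u) (Γ.neighborFinset v)
    rw [h.deg] at this
    have h6 : (Γ.neighborFinset u ∩ Γ.neighborFinset v).card = 6 := card_blk h hu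
    omega
  have h4 : (insert u (Γ.neighborFinset u \ Γ.neighborFinset v)).card = 17 := by
    rw [Finset.card_insert_of_notMem, h3]
    rw [Finset.mem_sdiff, SimpleGraph.mem_neighborFinset]
    exact fun hh => Γ.loopless.irrefl u hh.1
  rw [h1, Finset.card_sdiff_of_subset h2, card_far h, h4]

/-- adjacent far vertices have disjoint traces -/
theorem blk_inter_of_adj (h : IsHS Γ) {v u u' : V} (hadj : Γ.Adj u u') :
    blk Γ v u ∩ blk Γ v u' = ∅ := by
  rw [Finset.eq_empty_iff_forall_notMem]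
  intro w hw
  rw [Finset.mem_inter, mem_blk, mem_blk] at hw
  exact h.tri u u' w hadj hw.1.1 (hw.2.1)

theorem card_above_one (h : IsHS Γ) {v u w : V} (hu : u ∈ far Γ v) (hw : w ∈ blk Γ v u) :
    ((rest (Γ := Γ) v u).filter (fun u' => w ∈ blk Γ v u')).card = 20 := by
  have hu' := mem_far.mp hu
  have hw' := mem_blk.mp hw
  have h1 : (rest (Γ := Γ) v u).filter (fun u' => w ∈ blk Γ v u') =
      ((Γ.neighborFinset w).erase v).erase u := by
    ext u'
    rw [Finset.mem_filter, mem_rest, mem_blk, Finset.mem_erase, Finset.mem_erase,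
      SimpleGraph.mem_neighborFinset]
    constructor
    · rintro ⟨⟨⟨h1, h2⟩, h3, h4⟩, h5, h6⟩
      exact ⟨h3, h1, h5.symm⟩
    · rintro ⟨h1, h2, h3⟩
      refine ⟨⟨⟨h2, ?_⟩, h1, ?_⟩, h3.symm, hw'.2⟩
      · exact fun hv => h.tri v w u' hw'.2 hv h3
      · exact fun hv => h.tri u w u' hw'.1 hv h3
  rw [h1, Finset.card_erase_of_mem, Finset.card_erase_of_mem, h.deg]
  · rw [SimpleGraph.mem_neighborFinset]
    exact hw'.2.symm
  · rw [Finset.mem_erase, SimpleGraph.mem_neighborFinset]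
    exact ⟨hu'.1, hw'.1.symm⟩

theorem card_above_two (h : IsHS Γ) {v u w w' : V} (hu : u ∈ far Γ v) (hw : w ∈ blk Γ v u)
    (hw' : w' ∈ blk Γ v u) (hne : w ≠ w') :
    ((rest (Γ := Γ) v u).filter (fun u' => w ∈ blk Γ v u' ∧ w' ∈ blk Γ v u')).card = 4 := by
  have hu' := mem_far.mp hu
  have hw1 := mem_blk.mp hw
  have hw2 := mem_blk.mp hw'
  have hnadj : ¬ Γ.Adj w w' := h.tri v w w' hw1.2 hw2.2
  have h1 : (rest (Γ := Γ) v u).filter (fun u' => w ∈ blk Γ v u' ∧ w' ∈ blk Γ v u') =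
      ((Γ.neighborFinset w ∩ Γ.neighborFinset w').erase v).erase u := by
    ext u'
    rw [Finset.mem_filter, mem_rest, mem_blk, mem_blk, Finset.mem_erase, Finset.mem_erase,
      Finset.mem_inter, SimpleGraph.mem_neighborFinset, SimpleGraph.mem_neighborFinset]
    constructor
    · rintro ⟨⟨⟨h1, h2⟩, h3, h4⟩, ⟨h5, h6⟩, h7, h8⟩
      exact ⟨h3, h1, h5.symm, h7.symm⟩
    · rintro ⟨h1, h2, h3, h4⟩
      refine ⟨⟨⟨h2, ?_⟩, h1, ?_⟩, ⟨h3.symm, hw1.2⟩, h4.symm, hw2.2⟩
      · exact fun hv => h.tri v w u' hw1.2 hv h3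
      · exact fun hv => h.tri u w u' hw1.1 hv h3
  rw [h1, Finset.card_erase_of_mem, Finset.card_erase_of_mem, h.mu w w' hne hnadj]
  · rw [Finset.mem_inter, SimpleGraph.mem_neighborFinset, SimpleGraph.mem_neighborFinset]
    exact ⟨hw1.2.symm, hw2.2.symm⟩
  · rw [Finset.mem_erase, Finset.mem_inter, SimpleGraph.mem_neighborFinset,
      SimpleGraph.mem_neighborFinset]
    exact ⟨hu'.1, hw1.1.symm, hw2.1.symm⟩

theorem sum_inter (h : IsHS Γ) {v u : V} (hu : u ∈ far Γ v) :
    ∑ u' ∈ rest (Γ := Γ) v u, (blk Γ v u ∩ blk Γ v u').card = 120 := by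
  have h1 := Finset.sum_card_bipartiteAbove_eq_sum_card_bipartiteBelow
    (fun (u' : V) (w : V) => w ∈ blk Γ v u') (s := rest (Γ := Γ) v u) (t := blk Γ v u)
  have h2 : ∀ u' ∈ rest (Γ := Γ) v u,
      (Finset.bipartiteAbove (fun (u' : V) (w : V) => w ∈ blk Γ v u') (blk Γ v u) u').card =
        (blk Γ v u ∩ blk Γ v u').card := by
    intro u' _
    rw [Finset.bipartiteAbove, Finset.filter_mem_eq_inter]
  have h3 : ∀ w ∈ blk Γ v u,
      (Finset.bipartiteBelow (fun (u' : V) (w : V) => w ∈ blk Γ v u') (rest (Γ := Γ) v u) w).card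
        = 20 := by
    intro w hw
    rw [← card_above_one h hu hw]
    rfl
  rw [Finset.sum_congr rfl h2, Finset.sum_congr rfl h3, Finset.sum_const, card_blk h hu] at h1
  exact h1

theorem sum_offDiag (h : IsHS Γ) {v u : V} (hu : u ∈ far Γ v) :
    ∑ u' ∈ rest (Γ := Γ) v u, (blk Γ v u ∩ blk Γ v u').offDiag.card = 120 := by
  have h1 := Finset.sum_card_bipartiteAbove_eq_sum_card_bipartiteBelow
    (fun (u' : V) (ww : V × V) => ww.1 ∈ blk Γ v u' ∧ ww.2 ∈ blk Γ v u')
    (s := rest (Γ := Γ) v u) (t := (blk Γ v u).offDiag)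
  have h2 : ∀ u' ∈ rest (Γ := Γ) v u,
      (Finset.bipartiteAbove (fun (u' : V) (ww : V × V) => ww.1 ∈ blk Γ v u' ∧ ww.2 ∈ blk Γ v u')
        (blk Γ v u).offDiag u').card = (blk Γ v u ∩ blk Γ v u').offDiag.card := by
    intro u' _
    congr 1
    ext ww
    rw [Finset.mem_bipartiteAbove, Finset.mem_offDiag, Finset.mem_offDiag, Finset.mem_inter,
      Finset.mem_inter]
    tauto
  have h3 : ∀ ww ∈ (blk Γ v u).offDiag,
      (Finset.bipartiteBelow (fun (u' : V) (ww : V × V) => ww.1 ∈ blk Γ v u' ∧ ww.2 ∈ blk Γ v u')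
        (rest (Γ := Γ) v u) ww).card = 4 := by
    intro ww hww
    rw [Finset.mem_offDiag] at hww
    rw [← card_above_two h hu hww.1 hww.2.1 hww.2.2]
    rfl
  rw [Finset.sum_congr rfl h2, Finset.sum_congr rfl h3, Finset.sum_const, Finset.offDiag_card,
    card_blk h hu] at h1
  exact h1

/-- non-adjacent distinct far vertices have traces meeting in exactly two points -/
theorem card_blk_inter (h : IsHS Γ) {v u u' : V} (hu : u ∈ far Γ v) (hu' : u' ∈ far Γ v)
    (hne : u' ≠ u) (hnadj : ¬ Γ.Adj u u') : (blk Γ v u ∩ blk Γ v u').card = 2 := by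
  have hmem : u' ∈ rest (Γ := Γ) v u := mem_rest.mpr ⟨mem_far.mp hu', hne, hnadj⟩
  have e1 := sum_inter h hu
  have e2 := sum_offDiag h hu
  have e3 := card_rest h hu
  have hz : ∑ x ∈ rest (Γ := Γ) v u, (((blk Γ v u ∩ blk Γ v x).card : ℤ) - 2) ^ 2 = 0 := by
    have c1 : ∑ x ∈ rest (Γ := Γ) v u, ((blk Γ v u ∩ blk Γ v x).card : ℤ) = 120 := by
      exact_mod_cast e1
    have c2 : ∑ x ∈ rest (Γ := Γ) v u, (((blk Γ v u ∩ blk Γ v x).card : ℤ) *
        ((blk Γ v u ∩ blk Γ v x).card : ℤ) - ((blk Γ v u ∩ blk Γ v x).card : ℤ)) = 120 := by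
      have : ∀ x ∈ rest (Γ := Γ) v u, (((blk Γ v u ∩ blk Γ v x).card : ℤ) *
          ((blk Γ v u ∩ blk Γ v x).card : ℤ) - ((blk Γ v u ∩ blk Γ v x).card : ℤ)) =
          (((blk Γ v u ∩ blk Γ v x).offDiag.card : ℕ) : ℤ) := by
        intro x _
        rw [Finset.offDiag_card, Nat.cast_sub (Nat.le_mul_self _), Nat.cast_mul]
      rw [Finset.sum_congr rfl this]
      exact_mod_cast e2
    have c3 : ∀ x ∈ rest (Γ := Γ) v u, (((blk Γ v u ∩ blk Γ v x).card : ℤ) - 2) ^ 2 =
        (((blk Γ v u ∩ blk Γ v x).card : ℤ) * ((blk Γ v u ∩ blk Γ v x).card : ℤ) -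
          ((blk Γ v u ∩ blk Γ v x).card : ℤ)) - 3 * ((blk Γ v u ∩ blk Γ v x).card : ℤ) + 4 := by
      intro x _
      ring
    rw [Finset.sum_congr rfl c3, Finset.sum_add_distrib, Finset.sum_sub_distrib, ← Finset.mul_sum,
      c1, c2, Finset.sum_const, e3]
    norm_num
  have hz' := (Finset.sum_eq_zero_iff_of_nonneg (fun x _ => sq_nonneg _)).mp hz u' hmem
  have : ((blk Γ v u ∩ blk Γ v u').card : ℤ) - 2 = 0 := by
    exact pow_eq_zero_iff (two_ne_zero) |>.mp hz'
  omega

end Cfsg.Agent.Lib.Helper41_HSloc
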