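import Mathlib
import Cfsg.Prelude.Def_Sporadic_a

set_option autoImplicit false

/-! Counting in a Steiner system S(3,6,22), phrased for a `Finset` of blocks. -/

namespace Cfsg.Agent.Lib.Helper8_S3622

open Finset

variable {α : Type*} [DecidableEq α]

/-- number of `t`-subsets between `s` and `b` -/
theorem card_between (s b : Finset α) (hsb : s ⊆ b) (t : ℕ) (hst : #s ≤ t) :
    #{T ∈ powersetCard t b | s ⊆ T} = (#b - #s).choose (t - #s) := by
  rw [← card_sdiff_of_subset hsb, ← card_powersetCard]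
  apply card_nbij' (fun T => T \ s) (fun U => s ∪ U)
  · intro T hT
    simp only [mem_coe, mem_filter, mem_powersetCard] at hT
    obtain ⟨⟨hTb, hTc⟩, hsT⟩ := hT
    simp only [mem_coe, mem_powersetCard]
    refine ⟨?_, ?_⟩
    · exact sdiff_subset_sdiff hTb (subset_refl s)
    · rw [card_sdiff_of_subset hsT, hTc]
  · intro U hU
    simp only [mem_coe, mem_powersetCard] at hU
    obtain ⟨hUb, hUc⟩ := hU
    simp only [mem_coe, mem_filter, mem_powersetCard]
    refine ⟨⟨?_, ?_⟩, subset_union_left⟩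
    · exact union_subset hsb (hUb.trans sdiff_subset)
    · rw [card_union_of_disjoint, hUc]
      · omega
      · exact disjoint_of_subset_right hUb disjoint_sdiff
  · intro T hT
    simp only [mem_coe, mem_filter, mem_powersetCard] at hT
    exact union_sdiff_of_subset hT.2
  · intro U hU
    simp only [mem_coe, mem_powersetCard] at hU
    have hd : Disjoint s U := disjoint_of_subset_right hU.1 disjoint_sdiff
    exact union_sdiff_cancel_left hd

variable [Fintype α]

/-- a Steiner system S(3,6,22) given by a finset of blocks -/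
structure IsS3622 (𝔹 : Finset (Finset α)) : Prop where
  card_univ : Fintype.card α = 22
  card_block : ∀ b ∈ 𝔹, #b = 6
  unique : ∀ s : Finset α, #s = 3 → ∃! b, b ∈ 𝔹 ∧ s ⊆ b

/-- number of blocks containing a given set -/
def deg (𝔹 : Finset (Finset α)) (s : Finset α) : ℕ := #{b ∈ 𝔹 | s ⊆ b}

theorem deg_mul {𝔹 : Finset (Finset α)} (h : IsS3622 𝔹) (s : Finset α) (hs : #s ≤ 3) :
    deg 𝔹 s * (6 - #s).choose (3 - #s) = (22 - #s).choose (3 - #s) := by
  have key := card_mul_eq_card_mul (s := {T ∈ powersetCard 3 (univ : Finset α) | s ⊆ T})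
    (t := {b ∈ 𝔹 | s ⊆ b}) (fun T b => T ⊆ b) (m := 1) (n := (6 - #s).choose (3 - #s)) ?_ ?_
  · rw [mul_one, card_between s univ (subset_univ s) 3 hs, card_univ, h.card_univ] at key
    rw [deg, ← key]
  · intro T hT
    simp only [mem_filter, mem_powersetCard] at hT
    obtain ⟨b0, ⟨hb0, hTb0⟩, huniq⟩ := h.unique T hT.1.2
    rw [card_eq_one]
    refine ⟨b0, ?_⟩
    ext b
    simp only [bipartiteAbove, mem_filter, mem_singleton]
    constructor
    · rintro ⟨⟨hb, -⟩, hTb⟩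
      exact huniq b ⟨hb, hTb⟩
    · rintro rfl
      exact ⟨⟨hb0, hT.2.trans hTb0⟩, hTb0⟩
  · intro b hb
    simp only [mem_filter] at hb
    have : bipartiteBelow (fun T b => T ⊆ b) {T ∈ powersetCard 3 (univ : Finset α) | s ⊆ T} b =
        {T ∈ powersetCard 3 b | s ⊆ T} := by
      ext T
      simp only [bipartiteBelow, mem_filter, mem_powersetCard]
      constructor
      · rintro ⟨⟨⟨-, hc⟩, hsT⟩, hTb⟩
        exact ⟨⟨hTb, hc⟩, hsT⟩
      · rintro ⟨⟨hTb, hc⟩, hsT⟩
        exact ⟨⟨⟨subset_univ _, hc⟩, hsT⟩, hTb⟩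
    rw [this, card_between s b hb.2 3 hs, h.card_block b hb.1]

theorem card_blocks {𝔹 : Finset (Finset α)} (h : IsS3622 𝔹) : #𝔹 = 77 := by
  have := deg_mul h ∅ (by simp)
  simp only [card_empty, Nat.sub_zero] at this
  have h1 : deg 𝔹 ∅ = #𝔹 := by
    unfold deg
    congr 1
    ext b; simp
  rw [h1] at this
  have e1 : Nat.choose 6 3 = 20 := by decide
  have e2 : Nat.choose 22 3 = 1540 := by decide
  rw [e1, e2] at this
  omega

theorem deg_point {𝔹 : Finset (Finset α)} (h : IsS3622 𝔹) (p : α) : deg 𝔹 {p} = 21 := by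
  have := deg_mul h {p} (by simp)
  simp only [card_singleton] at this
  have e1 : Nat.choose (6 - 1) (3 - 1) = 10 := by decide
  have e2 : Nat.choose (22 - 1) (3 - 1) = 210 := by decide
  rw [e1, e2] at this
  omega

theorem deg_pair {𝔹 : Finset (Finset α)} (h : IsS3622 𝔹) (e : Finset α) (he : #e = 2) :
    deg 𝔹 e = 5 := by
  have := deg_mul h e (by omega)
  rw [he] at this
  have e1 : Nat.choose (6 - 2) (3 - 2) = 4 := by decide
  have e2 : Nat.choose (22 - 2) (3 - 2) = 20 := by decide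
  rw [e1, e2] at this
  omega

theorem block_nonempty {𝔹 : Finset (Finset α)} (h : IsS3622 𝔹) {b : Finset α} (hb : b ∈ 𝔹) :
    b.Nonempty := by
  rw [← card_pos, h.card_block b hb]; norm_num

theorem inter_le_two {𝔹 : Finset (Finset α)} (h : IsS3622 𝔹) {b c : Finset α} (hb : b ∈ 𝔹)
    (hc : c ∈ 𝔹) (hbc : b ≠ c) : #(b ∩ c) ≤ 2 := by
  by_contra hcon
  push Not at hcon
  obtain ⟨s, hs, hs3⟩ := exists_subset_card_eq (show 3 ≤ #(b ∩ c) by omega)
  obtain ⟨b0, -, huniq⟩ := h.unique s hs3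
  have h1 := huniq b ⟨hb, hs.trans inter_subset_left⟩
  have h2 := huniq c ⟨hc, hs.trans inter_subset_right⟩
  exact hbc (h1.trans h2.symm)

/-- double counting of incident point-block pairs -/
theorem dc_points (P : Finset α) (𝒞 : Finset (Finset α)) :
    ∑ p ∈ P, #{c ∈ 𝒞 | p ∈ c} = ∑ c ∈ 𝒞, #(P ∩ c) := by
  have := sum_card_bipartiteAbove_eq_sum_card_bipartiteBelow (s := P) (t := 𝒞) (fun p c => p ∈ c)
  simp only [bipartiteAbove, bipartiteBelow] at this
  rw [this]
  apply sum_congr rfl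
  intro c _
  rw [filter_mem_eq_inter]

/-- double counting of incident pair-block pairs -/
theorem dc_pairs (P : Finset α) (𝒞 : Finset (Finset α)) :
    ∑ e ∈ powersetCard 2 P, #{c ∈ 𝒞 | e ⊆ c} = ∑ c ∈ 𝒞, (#(P ∩ c)).choose 2 := by
  have := sum_card_bipartiteAbove_eq_sum_card_bipartiteBelow (s := powersetCard 2 P) (t := 𝒞)
    (fun e c => e ⊆ c)
  simp only [bipartiteAbove, bipartiteBelow] at this
  rw [this]
  apply sum_congr rfl
  intro c _
  rw [← card_powersetCard]
  congr 1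
  ext e
  simp only [mem_filter, mem_powersetCard, subset_inter_iff]
  tauto

theorem deg_erase {𝔹 : Finset (Finset α)} {b s : Finset α} (hb : b ∈ 𝔹) (hsb : s ⊆ b) :
    #{c ∈ 𝔹.erase b | s ⊆ c} = deg 𝔹 s - 1 := by
  have : {c ∈ 𝔹.erase b | s ⊆ c} = ({c ∈ 𝔹 | s ⊆ c}).erase b := by
    ext c
    simp only [mem_filter, mem_erase]
    tauto
  rw [this, card_erase_of_mem]
  · rfl
  · simp only [mem_filter]; exact ⟨hb, hsb⟩

/-- two distinct blocks never meet in exactly one point -/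
theorem inter_ne_one {𝔹 : Finset (Finset α)} (h : IsS3622 𝔹) {b c : Finset α} (hb : b ∈ 𝔹)
    (hc : c ∈ 𝔹) (hbc : b ≠ c) : #(b ∩ c) ≠ 1 := by
  intro hone
  have hcmem : c ∈ 𝔹.erase b := mem_erase.mpr ⟨hbc.symm, hc⟩
  -- first sum
  have s1 : ∑ d ∈ 𝔹.erase b, #(b ∩ d) = 120 := by
    rw [← dc_points]
    have : ∀ p ∈ b, #{d ∈ 𝔹.erase b | p ∈ d} = 20 := by
      intro p hp
      have := deg_erase (𝔹 := 𝔹) (s := {p}) hb (singleton_subset_iff.mpr hp)
      simp only [singleton_subset_iff] at this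
      rw [this, deg_point h]
    rw [sum_congr rfl this, sum_const, h.card_block b hb]
    rfl
  have s2 : ∑ d ∈ 𝔹.erase b, (#(b ∩ d)).choose 2 = 60 := by
    rw [← dc_pairs]
    have : ∀ e ∈ powersetCard 2 b, #{d ∈ 𝔹.erase b | e ⊆ d} = 4 := by
      intro e he
      rw [mem_powersetCard] at he
      rw [deg_erase hb he.1, deg_pair h e he.2]
    rw [sum_congr rfl this, sum_const, card_powersetCard, h.card_block b hb]
    rfl
  have hlt : ∑ d ∈ 𝔹.erase b, 2 * (#(b ∩ d)).choose 2 < ∑ d ∈ 𝔹.erase b, #(b ∩ d) := by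
    apply sum_lt_sum
    · intro d hd
      rw [mem_erase] at hd
      have := inter_le_two h hb hd.2 hd.1.symm
      interval_cases #(b ∩ d) <;> simp [Nat.choose]
    · exact ⟨c, hcmem, by rw [hone]; simp [Nat.choose]⟩
  rw [← mul_sum, s1, s2] at hlt
  omega

theorem inter_card {𝔹 : Finset (Finset α)} (h : IsS3622 𝔹) {b c : Finset α} (hb : b ∈ 𝔹)
    (hc : c ∈ 𝔹) (hbc : b ≠ c) : #(b ∩ c) = if Disjoint b c then 0 else 2 := by
  split_ifs with hd
  · rw [card_eq_zero, ← disjoint_iff_inter_eq_empty]; exact hd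
  · have h1 := inter_le_two h hb hc hbc
    have h2 := inter_ne_one h hb hc hbc
    have h3 : #(b ∩ c) ≠ 0 := by
      rw [Ne, card_eq_zero, ← disjoint_iff_inter_eq_empty]; exact hd
    omega

/-- the basic count: twice the number of members of `𝒞` meeting `b` is the number of flags -/
theorem two_mul_meet {𝔹 : Finset (Finset α)} (h : IsS3622 𝔹) {b : Finset α} (hb : b ∈ 𝔹)
    (𝒞 : Finset (Finset α)) (h𝒞 : 𝒞 ⊆ 𝔹) (hb𝒞 : b ∉ 𝒞) :
    2 * #{c ∈ 𝒞 | ¬ Disjoint b c} = ∑ p ∈ b, #{c ∈ 𝒞 | p ∈ c} := by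
  rw [dc_points]
  have : ∀ c ∈ 𝒞, #(b ∩ c) = if ¬ Disjoint b c then 2 else 0 := by
    intro c hc
    have hne : b ≠ c := by
      rintro rfl; exact hb𝒞 hc
    rw [inter_card h hb (h𝒞 hc) hne]
    split_ifs <;> rfl
  rw [sum_congr rfl this, ← sum_filter, sum_const, smul_eq_mul, mul_comm]

theorem card_disjoint_eq {𝔹 : Finset (Finset α)} (h : IsS3622 𝔹) {b : Finset α} (hb : b ∈ 𝔹)
    (𝒞 : Finset (Finset α)) (h𝒞 : 𝒞 ⊆ 𝔹) (hb𝒞 : b ∉ 𝒞) :
    2 * #{c ∈ 𝒞 | Disjoint b c} + ∑ p ∈ b, #{c ∈ 𝒞 | p ∈ c} = 2 * #𝒞 := by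
  rw [← two_mul_meet h hb 𝒞 h𝒞 hb𝒞, ← mul_add, card_filter_add_card_filter_not]

theorem not_disjoint_self {𝔹 : Finset (Finset α)} (h : IsS3622 𝔹) {b : Finset α} (hb : b ∈ 𝔹) :
    ¬ Disjoint b b := by
  rw [disjoint_self_iff_empty]
  exact (block_nonempty h hb).ne_empty

/-- each block is disjoint from exactly 16 blocks -/
theorem card_disjoint {𝔹 : Finset (Finset α)} (h : IsS3622 𝔹) {b : Finset α} (hb : b ∈ 𝔹) :
    #{c ∈ 𝔹 | Disjoint b c} = 16 := by
  have key := card_disjoint_eq h hb (𝔹.erase b) (erase_subset _ _) (notMem_erase _ _)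
  have : ∀ p ∈ b, #{d ∈ 𝔹.erase b | p ∈ d} = 20 := by
    intro p hp
    have := deg_erase (𝔹 := 𝔹) (s := {p}) hb (singleton_subset_iff.mpr hp)
    simp only [singleton_subset_iff] at this
    rw [this, deg_point h]
  rw [sum_congr rfl this, sum_const, h.card_block b hb, card_erase_of_mem hb, card_blocks h] at key
  have e : {c ∈ 𝔹.erase b | Disjoint b c} = {c ∈ 𝔹 | Disjoint b c} := by
    ext c
    simp only [mem_filter, mem_erase]
    constructor
    · rintro ⟨⟨-, hc⟩, hd⟩; exact ⟨hc, hd⟩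
    · rintro ⟨hc, hd⟩
      refine ⟨⟨?_, hc⟩, hd⟩
      rintro rfl
      exact not_disjoint_self h hb hd
  rw [e] at key
  simp only [smul_eq_mul] at key
  omega

/-- a point off a block lies in exactly 6 blocks disjoint from it -/
theorem card_disjoint_through {𝔹 : Finset (Finset α)} (h : IsS3622 𝔹) {b : Finset α} (hb : b ∈ 𝔹)
    {p : α} (hp : p ∉ b) : #{c ∈ 𝔹 | p ∈ c ∧ Disjoint b c} = 6 := by
  have hb𝒞 : b ∉ {c ∈ 𝔹 | p ∈ c} := by
    simp only [mem_filter, not_and]; exact fun _ => hp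
  have key := card_disjoint_eq h hb {c ∈ 𝔹 | p ∈ c} (filter_subset _ _) hb𝒞
  have : ∀ x ∈ b, #{d ∈ {c ∈ 𝔹 | p ∈ c} | x ∈ d} = 5 := by
    intro x hx
    have hpx : p ≠ x := by rintro rfl; exact hp hx
    have := deg_pair h {p, x} (card_pair hpx)
    rw [← this, deg]
    congr 1
    ext d
    simp only [mem_filter, insert_subset_iff, singleton_subset_iff]
    tauto
  have hc : #{c ∈ 𝔹 | p ∈ c} = 21 := by
    rw [← deg_point h p, deg]
    congr 1
    ext d
    simp only [mem_filter, singleton_subset_iff]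
  rw [sum_congr rfl this, sum_const, h.card_block b hb, hc, filter_filter] at key
  simp only [smul_eq_mul] at key
  omega

/-- no three mutually disjoint blocks -/
theorem card_disjoint_both_of_disjoint {𝔹 : Finset (Finset α)} (h : IsS3622 𝔹) {b c : Finset α}
    (hb : b ∈ 𝔹) (hc : c ∈ 𝔹) (hbc : Disjoint b c) :
    #{d ∈ 𝔹 | Disjoint b d ∧ Disjoint c d} = 0 := by
  have hc𝒞 : c ∈ {d ∈ 𝔹 | Disjoint b d} := by
    simp only [mem_filter]; exact ⟨hc, hbc⟩
  have key := card_disjoint_eq h hc (({d ∈ 𝔹 | Disjoint b d}).erase c)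
    ((erase_subset _ _).trans (filter_subset _ _)) (notMem_erase _ _)
  have : ∀ p ∈ c, #{d ∈ ({d ∈ 𝔹 | Disjoint b d}).erase c | p ∈ d} = 5 := by
    intro p hp
    have hpb : p ∉ b := fun hpb => (disjoint_left.mp hbc) hpb hp
    have h6 := card_disjoint_through h hb hpb
    have e : {d ∈ ({d ∈ 𝔹 | Disjoint b d}).erase c | p ∈ d} =
        ({d ∈ 𝔹 | p ∈ d ∧ Disjoint b d}).erase c := by
      ext d
      simp only [mem_filter, mem_erase]
      tauto
    rw [e, card_erase_of_mem, h6]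
    simp only [mem_filter]
    exact ⟨hc, hp, hbc⟩
  rw [sum_congr rfl this, sum_const, h.card_block c hc, card_erase_of_mem hc𝒞, card_disjoint h hb]
    at key
  have e : {d ∈ ({d ∈ 𝔹 | Disjoint b d}).erase c | Disjoint c d} =
      {d ∈ 𝔹 | Disjoint b d ∧ Disjoint c d} := by
    ext d
    simp only [mem_filter, mem_erase]
    constructor
    · rintro ⟨⟨-, hd, hbd⟩, hcd⟩; exact ⟨hd, hbd, hcd⟩
    · rintro ⟨hd, hbd, hcd⟩
      refine ⟨⟨?_, hd, hbd⟩, hcd⟩
      rintro rfl
      exact not_disjoint_self h hd hcd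
  rw [e] at key
  simp only [smul_eq_mul] at key
  omega

/-- two distinct meeting blocks are both disjoint from exactly 4 blocks -/
theorem card_disjoint_both_of_meet {𝔹 : Finset (Finset α)} (h : IsS3622 𝔹) {b c : Finset α}
    (hb : b ∈ 𝔹) (hc : c ∈ 𝔹) (hne : b ≠ c) (hbc : ¬ Disjoint b c) :
    #{d ∈ 𝔹 | Disjoint b d ∧ Disjoint c d} = 4 := by
  have hc𝒞 : c ∉ {d ∈ 𝔹 | Disjoint b d} := by
    simp only [mem_filter, not_and]; exact fun _ => hbc
  have key := card_disjoint_eq h hc {d ∈ 𝔹 | Disjoint b d} (filter_subset _ _) hc𝒞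
  have : ∀ p ∈ c, #{d ∈ {d ∈ 𝔹 | Disjoint b d} | p ∈ d} = if p ∈ b then 0 else 6 := by
    intro p hp
    split_ifs with hpb
    · rw [card_eq_zero, filter_eq_empty_iff]
      intro d hd hpd
      simp only [mem_filter] at hd
      exact (disjoint_left.mp hd.2) hpb hpd
    · rw [← card_disjoint_through h hb hpb, filter_filter]
      congr 1
      ext d
      simp only [mem_filter]
      tauto
  rw [sum_congr rfl this, card_disjoint h hb] at key
  have hsum : ∑ p ∈ c, (if p ∈ b then 0 else 6) = 24 := by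
    have : ∀ p ∈ c, (if p ∈ b then 0 else 6) = if p ∉ b then 6 else 0 := by
      intro p _; split_ifs <;> rfl
    rw [sum_congr rfl this, ← sum_filter, sum_const, smul_eq_mul, filter_notMem_eq_sdiff,
      card_sdiff, inter_comm, h.card_block c hc, inter_card h hc hb hne.symm]
    rw [if_neg (fun hd => hbc hd.symm)]
  rw [hsum, filter_filter] at key
  omega

end Cfsg.Agent.Lib.Helper8_S3622
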