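import Mathlib
import Cfsg.Prelude.Def_Sporadic_a
import Cfsg.Agent.S0428
import Cfsg.Agent.Lib.Helper41_HSloc

set_option autoImplicit false
set_option linter.unusedSectionVars false
set_option linter.unusedVariables false

/-!
A strongly regular graph with parameters `(100, 22, 0, 6)` is, seen from any vertex `v`, the
point-block graph of a Steiner system `S(3, 6, 22)` on the neighbours of `v` (helper41).
-/

namespace Cfsg.Agent.Lib.Helper41_HSloc2

open Cfsg Cfsg.Agent.Lib.Helper41_HSloc

variable {V : Type*} [Fintype V] [DecidableEq V] {Γ : SimpleGraph V} [DecidableRel Γ.Adj]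

/-- the points of the local system at `v`: the neighbours of `v` -/
abbrev LPts (Γ : SimpleGraph V) [DecidableRel Γ.Adj] (v : V) : Type _ := ↥(Γ.neighborFinset v)

/-- the trace of the neighbourhood of `u` on the neighbours of `v` -/
def pblk (Γ : SimpleGraph V) [DecidableRel Γ.Adj] (v u : V) : Finset (LPts Γ v) :=
  Finset.univ.filter (fun w => Γ.Adj u w.1)

theorem mem_pblk {v u : V} {w : LPts Γ v} : w ∈ pblk Γ v u ↔ Γ.Adj u w.1 := by
  simp [pblk]

theorem map_pblk (v u : V) :
    (pblk Γ v u).map (Function.Embedding.subtype _) = blk Γ v u := by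
  ext w
  rw [Finset.mem_map, mem_blk]
  constructor
  · rintro ⟨y, hy, rfl⟩
    exact ⟨mem_pblk.mp hy, (Γ.mem_neighborFinset v _).mp y.2⟩
  · rintro ⟨h1, h2⟩
    exact ⟨⟨w, (Γ.mem_neighborFinset v w).mpr h2⟩, mem_pblk.mpr h1, rfl⟩

theorem card_pblk (h : IsHS Γ) {v u : V} (hu : u ∈ far Γ v) : (pblk Γ v u).card = 6 := by
  rw [← Finset.card_map (Function.Embedding.subtype _), map_pblk, card_blk h hu]

theorem card_pblk_inter (v u u' : V) :
    (pblk Γ v u ∩ pblk Γ v u').card = (blk Γ v u ∩ blk Γ v u').card := by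
  rw [← Finset.card_map (Function.Embedding.subtype _), Finset.map_inter, map_pblk, map_pblk]

/-- the local system at `v` -/
def localSys (Γ : SimpleGraph V) [DecidableRel Γ.Adj] (v : V) : Set (Finset (LPts Γ v)) :=
  {l | ∃ u ∈ far Γ v, pblk Γ v u = l}

theorem pblk_injOn (h : IsHS Γ) {v u u' : V} (hu : u ∈ far Γ v) (hu' : u' ∈ far Γ v)
    (heq : pblk Γ v u = pblk Γ v u') : u = u' := by
  by_contra hne
  have h6 := card_pblk h hu
  have hi : (pblk Γ v u ∩ pblk Γ v u').card = 6 := by rw [← heq, Finset.inter_self, h6]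
  rw [card_pblk_inter] at hi
  by_cases hadj : Γ.Adj u u'
  · rw [blk_inter_of_adj h hadj] at hi
    simp at hi
  · rw [card_blk_inter h hu hu' (Ne.symm hne) hadj] at hi
    omega

theorem card_inter_le (h : IsHS Γ) {v u u' : V} (hu : u ∈ far Γ v) (hu' : u' ∈ far Γ v)
    (hne : u ≠ u') : (pblk Γ v u ∩ pblk Γ v u').card ≤ 2 := by
  rw [card_pblk_inter]
  by_cases hadj : Γ.Adj u u'
  · rw [blk_inter_of_adj h hadj]
    simp
  · rw [card_blk_inter h hu hu' (Ne.symm hne) hadj]

theorem card_lpts (h : IsHS Γ) (v : V) : Fintype.card (LPts Γ v) = 22 := by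
  rw [Fintype.card_coe, h.deg]

theorem exists_far_of_triple (h : IsHS Γ) (v : V) (T : Finset (LPts Γ v)) (hT : T.card = 3) :
    ∃ u ∈ far Γ v, T ⊆ pblk Γ v u := by
  have hPS : (Finset.powersetCard 3 (Finset.univ : Finset (LPts Γ v))).card = 1540 := by
    rw [Finset.card_powersetCard, Finset.card_univ, card_lpts h]
    decide
  have hdc := Finset.sum_card_bipartiteAbove_eq_sum_card_bipartiteBelow
    (fun (T : Finset (LPts Γ v)) (u : V) => T ⊆ pblk Γ v u)
    (s := Finset.powersetCard 3 (Finset.univ : Finset (LPts Γ v))) (t := far Γ v)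
  have hR : ∀ u ∈ far Γ v,
      (Finset.bipartiteBelow (fun (T : Finset (LPts Γ v)) (u : V) => T ⊆ pblk Γ v u)
        (Finset.powersetCard 3 (Finset.univ : Finset (LPts Γ v))) u).card = 20 := by
    intro u hu
    have : Finset.bipartiteBelow (fun (T : Finset (LPts Γ v)) (u : V) => T ⊆ pblk Γ v u)
        (Finset.powersetCard 3 (Finset.univ : Finset (LPts Γ v))) u =
        Finset.powersetCard 3 (pblk Γ v u) := by
      ext T
      rw [Finset.mem_bipartiteBelow, Finset.mem_powersetCard, Finset.mem_powersetCard]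
      constructor
      · rintro ⟨⟨-, h3⟩, hsub⟩
        exact ⟨hsub, h3⟩
      · rintro ⟨hsub, h3⟩
        exact ⟨⟨Finset.subset_univ _, h3⟩, hsub⟩
    rw [this, Finset.card_powersetCard, card_pblk h hu]
    rfl
  have hL : ∀ T ∈ Finset.powersetCard 3 (Finset.univ : Finset (LPts Γ v)),
      (Finset.bipartiteAbove (fun (T : Finset (LPts Γ v)) (u : V) => T ⊆ pblk Γ v u)
        (far Γ v) T).card ≤ 1 := by
    intro T hT'
    rw [Finset.card_le_one]
    intro a ha b hb
    rw [Finset.mem_bipartiteAbove] at ha hb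
    by_contra hne
    have h2 := card_inter_le h ha.1 hb.1 hne
    have h3 : 3 ≤ (pblk Γ v a ∩ pblk Γ v b).card := by
      rw [← (Finset.mem_powersetCard.mp hT').2]
      exact Finset.card_le_card (Finset.subset_inter ha.2 hb.2)
    omega
  rw [Finset.sum_congr rfl hR, Finset.sum_const, card_far h] at hdc
  by_contra hcon
  push Not at hcon
  have hT0 : (Finset.bipartiteAbove (fun (T : Finset (LPts Γ v)) (u : V) => T ⊆ pblk Γ v u)
      (far Γ v) T).card = 0 := by
    rw [Finset.card_eq_zero, Finset.eq_empty_iff_forall_notMem]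
    intro u hu
    rw [Finset.mem_bipartiteAbove] at hu
    exact hcon u hu.1 hu.2
  have hTmem : T ∈ Finset.powersetCard 3 (Finset.univ : Finset (LPts Γ v)) :=
    Finset.mem_powersetCard.mpr ⟨Finset.subset_univ _, hT⟩
  have hsplit := Finset.add_sum_erase (Finset.powersetCard 3 (Finset.univ : Finset (LPts Γ v)))
    (fun T => (Finset.bipartiteAbove (fun (T : Finset (LPts Γ v)) (u : V) => T ⊆ pblk Γ v u)
      (far Γ v) T).card) hTmem
  have hle := Finset.sum_le_card_nsmul
    ((Finset.powersetCard 3 (Finset.univ : Finset (LPts Γ v))).erase T)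
    (fun T => (Finset.bipartiteAbove (fun (T : Finset (LPts Γ v)) (u : V) => T ⊆ pblk Γ v u)
      (far Γ v) T).card) 1 (fun x hx => hL x (Finset.mem_of_mem_erase hx))
  rw [Finset.card_erase_of_mem hTmem, hPS] at hle
  simp only [smul_eq_mul] at hle hdc
  rw [hdc] at hsplit
  rw [hT0] at hsplit
  omega

/-- the local system at `v` is a Steiner system `S(3, 6, 22)` -/
theorem localSys_steiner (h : IsHS Γ) (v : V) : IsSteinerSystem 3 6 (localSys Γ v) := by
  constructor
  · rintro l ⟨u, hu, rfl⟩
    exact card_pblk h hu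
  · intro s hs
    obtain ⟨u, hu, hsu⟩ := exists_far_of_triple h v s hs
    refine ⟨pblk Γ v u, ⟨⟨u, hu, rfl⟩, hsu⟩, ?_⟩
    rintro l ⟨⟨u', hu', rfl⟩, hsl⟩
    by_contra hne
    have hne' : u' ≠ u := fun hh => hne (by rw [hh])
    have h2 := card_inter_le h hu' hu hne'
    have h3 : 3 ≤ (pblk Γ v u' ∩ pblk Γ v u).card := by
      rw [← hs]
      exact Finset.card_le_card (Finset.subset_inter hsl hsu)
    omega

/-- the vertex map of the local isomorphism -/
noncomputable def locFun (Γ : SimpleGraph V) [DecidableRel Γ.Adj] (v : V) (x : V) :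
    Option (LPts Γ v ⊕ ↥(localSys Γ v)) :=
  if hx : x = v then none
  else if hadj : Γ.Adj v x then some (Sum.inl ⟨x, (Γ.mem_neighborFinset v x).mpr hadj⟩)
  else some (Sum.inr ⟨pblk Γ v x, x, mem_far.mpr ⟨hx, hadj⟩, rfl⟩)

theorem locFun_self (v : V) : locFun Γ v v = none := by
  rw [locFun, dif_pos rfl]

theorem locFun_adj {v x : V} (hadj : Γ.Adj v x) :
    locFun Γ v x = some (Sum.inl ⟨x, (Γ.mem_neighborFinset v x).mpr hadj⟩) := by
  have hx : x ≠ v := fun hh => Γ.loopless.irrefl v (hh ▸ hadj)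
  rw [locFun, dif_neg hx, dif_pos hadj]

theorem locFun_far {v x : V} (hx : x ∈ far Γ v) :
    locFun Γ v x = some (Sum.inr ⟨pblk Γ v x, x, hx, rfl⟩) := by
  have hx' := mem_far.mp hx
  rw [locFun, dif_neg hx'.1, dif_neg hx'.2]

theorem trichotomy (v x : V) : v = x ∨ Γ.Adj v x ∨ x ∈ far Γ v := by
  by_cases h1 : x = v
  · exact Or.inl h1.symm
  · by_cases h2 : Γ.Adj v x
    · exact Or.inr (Or.inl h2)
    · exact Or.inr (Or.inr (mem_far.mpr ⟨h1, h2⟩))

theorem locFun_bijective (h : IsHS Γ) (v : V) : Function.Bijective (locFun Γ v) := by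
  constructor
  · intro x y hxy
    rcases trichotomy (Γ := Γ) v x with rfl | hx | hx <;>
      rcases trichotomy (Γ := Γ) v y with rfl | hy | hy
    · rfl
    · rw [locFun_self, locFun_adj hy] at hxy
      exact absurd hxy (by simp)
    · rw [locFun_self, locFun_far hy] at hxy
      exact absurd hxy (by simp)
    · rw [locFun_self, locFun_adj hx] at hxy
      exact absurd hxy (by simp)
    · rw [locFun_adj hx, locFun_adj hy] at hxy
      have := Sum.inl.inj (Option.some.inj hxy)
      exact congrArg Subtype.val this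
    · rw [locFun_adj hx, locFun_far hy] at hxy
      exact absurd hxy (by simp)
    · rw [locFun_self, locFun_far hx] at hxy
      exact absurd hxy (by simp)
    · rw [locFun_far hx, locFun_adj hy] at hxy
      exact absurd hxy (by simp)
    · rw [locFun_far hx, locFun_far hy] at hxy
      have := Sum.inr.inj (Option.some.inj hxy)
      exact pblk_injOn h hx hy (congrArg Subtype.val this)
  · rintro (_ | ⟨w, hw⟩ | ⟨l, u, hu, rfl⟩)
    · exact ⟨v, locFun_self v⟩
    · exact ⟨w, locFun_adj ((Γ.mem_neighborFinset v w).mp hw)⟩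
    · exact ⟨u, locFun_far hu⟩

theorem locFun_adj_iff (h : IsHS Γ) (v x y : V) :
    (pointBlockGraph (localSys Γ v)).Adj (locFun Γ v x) (locFun Γ v y) ↔ Γ.Adj x y := by
  rcases trichotomy (Γ := Γ) v x with rfl | hx | hx <;>
    rcases trichotomy (Γ := Γ) v y with rfl | hy | hy
  · rw [locFun_self]
    exact iff_of_false (Cfsg.Agent.S0428.adj_none_none _) (Γ.loopless.irrefl _)
  · rw [locFun_self, locFun_adj hy]
    exact iff_of_true (Cfsg.Agent.S0428.adj_none_pt _ _) hy
  · rw [locFun_self, locFun_far hy]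
    exact iff_of_false (Cfsg.Agent.S0428.adj_none_bl _ _) (mem_far.mp hy).2
  · rw [locFun_self, locFun_adj hx]
    exact iff_of_true (Cfsg.Agent.S0428.adj_pt_none _ _) hx.symm
  · rw [locFun_adj hx, locFun_adj hy]
    exact iff_of_false (Cfsg.Agent.S0428.adj_pt_pt _ _ _) (h.tri v x y hx hy)
  · rw [locFun_adj hx, locFun_far hy, Cfsg.Agent.S0428.adj_pt_bl, mem_pblk]
    exact ⟨fun hh => hh.symm, fun hh => hh.symm⟩
  · rw [locFun_self, locFun_far hx]
    exact iff_of_false (Cfsg.Agent.S0428.adj_bl_none _ _) (fun hh => (mem_far.mp hx).2 hh.symm)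
  · rw [locFun_far hx, locFun_adj hy, Cfsg.Agent.S0428.adj_bl_pt, mem_pblk]
  · rw [locFun_far hx, locFun_far hy, Cfsg.Agent.S0428.adj_bl_bl]
    constructor
    · rintro ⟨hne, hdisj⟩
      by_contra hnadj
      have hxy : y ≠ x := by
        rintro rfl
        exact hne rfl
      have h2 := card_blk_inter h hx hy hxy hnadj
      rw [← card_pblk_inter, Finset.disjoint_iff_inter_eq_empty.mp hdisj] at h2
      simp at h2
    · intro hadj
      have h0 : pblk Γ v x ∩ pblk Γ v y = ∅ := by
        rw [← Finset.card_eq_zero, card_pblk_inter, blk_inter_of_adj h hadj]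
        rfl
      refine ⟨?_, Finset.disjoint_iff_inter_eq_empty.mpr h0⟩
      intro heq
      have := pblk_injOn h hx hy (congrArg Subtype.val heq)
      exact Γ.loopless.irrefl x (this ▸ hadj)

/-- seen from `v`, the graph is the point-block graph of the local system -/
noncomputable def locIso (h : IsHS Γ) (v : V) : Γ ≃g pointBlockGraph (localSys Γ v) where
  toEquiv := Equiv.ofBijective (locFun Γ v) (locFun_bijective h v)
  map_rel_iff' := by
    intro x y
    exact locFun_adj_iff h v x y

theorem locIso_self (h : IsHS Γ) (v : V) : locIso h v v = none := locFun_self v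

end Cfsg.Agent.Lib.Helper41_HSloc2
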