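/-
Counting in Steiner systems (`Cfsg.IsSteinerSystem`): the number of blocks through a `j`-set,
and the intersection equations `∑_{c ≠ b} C(|b ∩ c|, j) = C(k, j) (λ_j - 1)`.
-/
import Mathlib
import Cfsg.Prelude.Def_Sporadic_a

set_option autoImplicit false
set_option linter.unusedSectionVars false
set_option linter.unusedVariables false

namespace Cfsg.Agent.Lib.Helper6_Steiner

open Cfsg
open scoped Classical

variable {α : Type*} [Fintype α] [DecidableEq α]

/-- number of `n`-subsets of `A` containing a given subset `J` -/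
theorem card_supersets (J A : Finset α) (hJA : J ⊆ A) (n : ℕ) (hjn : J.card ≤ n) :
    ((Finset.powersetCard n A).filter (fun s => J ⊆ s)).card =
      Nat.choose (A.card - J.card) (n - J.card) := by
  rw [← Finset.card_sdiff_of_subset hJA, ← Finset.card_powersetCard]
  apply Finset.card_nbij' (fun s => s \ J) (fun u => J ∪ u)
  · intro s hs
    rw [Finset.mem_coe, Finset.mem_filter, Finset.mem_powersetCard] at hs
    rw [Finset.mem_coe, Finset.mem_powersetCard]
    refine ⟨Finset.sdiff_subset_sdiff hs.1.1 (le_refl J), ?_⟩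
    rw [Finset.card_sdiff_of_subset hs.2, hs.1.2]
  · intro u hu
    rw [Finset.mem_coe, Finset.mem_powersetCard] at hu
    rw [Finset.mem_coe, Finset.mem_filter, Finset.mem_powersetCard]
    refine ⟨⟨Finset.union_subset hJA (hu.1.trans Finset.sdiff_subset), ?_⟩,
      Finset.subset_union_left⟩
    have hd : Disjoint J u := by
      rw [Finset.disjoint_left]
      intro x hxJ hxu
      exact (Finset.mem_sdiff.1 (hu.1 hxu)).2 hxJ
    rw [Finset.card_union_of_disjoint hd, hu.2]
    omega
  · intro s hs
    rw [Finset.mem_coe, Finset.mem_filter] at hs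
    show J ∪ s \ J = s
    rw [Finset.union_sdiff_of_subset hs.2]
  · intro u hu
    rw [Finset.mem_coe, Finset.mem_powersetCard] at hu
    show (J ∪ u) \ J = u
    have hd : Disjoint u J := by
      rw [Finset.disjoint_left]
      intro x hxu hxJ
      exact (Finset.mem_sdiff.1 (hu.1 hxu)).2 hxJ
    rw [Finset.union_sdiff_left, Finset.sdiff_eq_self_of_disjoint hd]

/-- the blocks, as a finset -/
noncomputable def blocks (B : Set (Finset α)) : Finset (Finset α) :=
  Finset.univ.filter (fun b => b ∈ B)

theorem mem_blocks {B : Set (Finset α)} {b : Finset α} : b ∈ blocks B ↔ b ∈ B := by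
  simp [blocks]

theorem coe_blocks (B : Set (Finset α)) : (blocks B : Set (Finset α)) = B := by
  ext b; simp [blocks]

theorem ncard_eq (B : Set (Finset α)) : B.ncard = (blocks B).card := by
  conv_lhs => rw [← coe_blocks B]
  exact Set.ncard_coe_finset _

/-- the blocks containing `J` -/
noncomputable def blocksThrough (B : Set (Finset α)) (J : Finset α) : Finset (Finset α) :=
  (blocks B).filter (fun b => J ⊆ b)

theorem mem_blocksThrough {B : Set (Finset α)} {J b : Finset α} :
    b ∈ blocksThrough B J ↔ b ∈ B ∧ J ⊆ b := by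
  simp [blocksThrough, mem_blocks]

/-- The number `λ_J` of blocks through a `j`-set `J` satisfies `λ_J C(k-j, t-j) = C(v-j, t-j)`. -/
theorem card_blocksThrough_mul {t k : ℕ} {B : Set (Finset α)} (hB : IsSteinerSystem t k B)
    (J : Finset α) (hJ : J.card ≤ t) :
    (blocksThrough B J).card * Nat.choose (k - J.card) (t - J.card) =
      Nat.choose (Fintype.card α - J.card) (t - J.card) := by
  have h1 := card_supersets J Finset.univ (Finset.subset_univ J) t hJ
  rw [Finset.card_univ] at h1
  rw [← h1]
  have h2 : (Finset.powersetCard t (Finset.univ : Finset α)).filter (fun s => J ⊆ s) =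
      (blocksThrough B J).biUnion
        (fun b => (Finset.powersetCard t b).filter (fun s => J ⊆ s)) := by
    ext s
    simp only [Finset.mem_filter, Finset.mem_powersetCard, Finset.mem_biUnion,
      mem_blocksThrough]
    constructor
    · rintro ⟨⟨_, hs⟩, hJs⟩
      obtain ⟨b, ⟨hbB, hsb⟩, _⟩ := hB.2 s hs
      exact ⟨b, ⟨hbB, hJs.trans hsb⟩, ⟨hsb, hs⟩, hJs⟩
    · rintro ⟨b, _, ⟨_, hs⟩, hJs⟩
      exact ⟨⟨Finset.subset_univ s, hs⟩, hJs⟩
  rw [h2, Finset.card_biUnion]
  · have h3 : ∀ b ∈ blocksThrough B J,
        ((Finset.powersetCard t b).filter (fun s => J ⊆ s)).card =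
          Nat.choose (k - J.card) (t - J.card) := by
      intro b hb
      rw [mem_blocksThrough] at hb
      rw [card_supersets J b hb.2 t hJ, hB.1 b hb.1]
    rw [Finset.sum_congr rfl h3, Finset.sum_const, smul_eq_mul]
  · intro b hb c hc hbc
    rw [Finset.mem_coe, mem_blocksThrough] at hb hc
    rw [Function.onFun, Finset.disjoint_left]
    intro s hsb hsc
    rw [Finset.mem_filter, Finset.mem_powersetCard] at hsb hsc
    obtain ⟨d, _, hd⟩ := hB.2 s hsb.1.2
    exact hbc ((hd b ⟨hb.1, hsb.1.1⟩).trans (hd c ⟨hc.1, hsc.1.1⟩).symm)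

/-- The number of blocks times `C(k, t)` is `C(v, t)`. -/
theorem card_blocks_mul {t k : ℕ} {B : Set (Finset α)} (hB : IsSteinerSystem t k B) :
    (blocks B).card * Nat.choose k t = Nat.choose (Fintype.card α) t := by
  have h := card_blocksThrough_mul hB ∅ (by simp)
  simp only [Finset.card_empty, Nat.sub_zero] at h
  have h2 : blocksThrough B ∅ = blocks B := by
    ext b; simp [mem_blocksThrough, mem_blocks]
  rw [h2] at h
  exact h

/-- two blocks sharing `t` points coincide -/
theorem eq_of_le_card_inter {t k : ℕ} {B : Set (Finset α)} (hB : IsSteinerSystem t k B)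
    {b c : Finset α} (hb : b ∈ B) (hc : c ∈ B) (h : t ≤ (b ∩ c).card) : b = c := by
  obtain ⟨s, hs, hst⟩ := Finset.exists_subset_card_eq h
  obtain ⟨d, _, hd⟩ := hB.2 s hst
  exact (hd b ⟨hb, hs.trans Finset.inter_subset_left⟩).trans
    (hd c ⟨hc, hs.trans Finset.inter_subset_right⟩).symm

theorem card_inter_lt {t k : ℕ} {B : Set (Finset α)} (hB : IsSteinerSystem t k B)
    {b c : Finset α} (hb : b ∈ B) (hc : c ∈ B) (hbc : b ≠ c) : (b ∩ c).card < t := by
  by_contra h
  exact hbc (eq_of_le_card_inter hB hb hc (not_lt.1 h))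

/-- The intersection equations: if every `j`-subset of `b` lies in exactly `lam` blocks, then
`∑_{c ≠ b} C(|b ∩ c|, j) = C(k, j) (lam - 1)`. -/
theorem sum_choose_inter {t k : ℕ} {B : Set (Finset α)} (hB : IsSteinerSystem t k B)
    {b : Finset α} (hb : b ∈ B) (j lam : ℕ)
    (hlam : ∀ J : Finset α, J ⊆ b → J.card = j → (blocksThrough B J).card = lam) :
    ∑ c ∈ (blocks B).erase b, Nat.choose (b ∩ c).card j = Nat.choose k j * (lam - 1) := by
  have h1 : ∀ c ∈ (blocks B).erase b, Nat.choose (b ∩ c).card j =
      ∑ J ∈ Finset.powersetCard j b, if J ⊆ c then 1 else 0 := by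
    intro c _
    rw [Finset.sum_boole, ← Finset.card_powersetCard]
    simp only [Nat.cast_id]
    congr 1
    ext J
    simp only [Finset.mem_powersetCard, Finset.mem_filter, Finset.subset_inter_iff]
    tauto
  rw [Finset.sum_congr rfl h1, Finset.sum_comm]
  have h2 : ∀ J ∈ Finset.powersetCard j b,
      (∑ c ∈ (blocks B).erase b, if J ⊆ c then 1 else 0) = lam - 1 := by
    intro J hJ
    rw [Finset.mem_powersetCard] at hJ
    rw [Finset.sum_boole]
    simp only [Nat.cast_id]
    have h3 : ((blocks B).erase b).filter (fun c => J ⊆ c) = (blocksThrough B J).erase b := by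
      ext c
      simp only [Finset.mem_filter, Finset.mem_erase, mem_blocksThrough, mem_blocks]
      tauto
    rw [h3, Finset.card_erase_of_mem (mem_blocksThrough.2 ⟨hb, hJ.1⟩), hlam J hJ.1 hJ.2]
  rw [Finset.sum_congr rfl h2, Finset.sum_const, smul_eq_mul, Finset.card_powersetCard,
    hB.1 b hb]

/-- `λ_j` is determined by arithmetic -/
theorem card_blocksThrough_eq {t k : ℕ} {B : Set (Finset α)} (hB : IsSteinerSystem t k B)
    {j lam : ℕ} (hj : j ≤ t)
    (harith : lam * Nat.choose (k - j) (t - j) = Nat.choose (Fintype.card α - j) (t - j))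
    (hpos : 0 < Nat.choose (k - j) (t - j))
    (J : Finset α) (hJ : J.card = j) : (blocksThrough B J).card = lam := by
  have h := card_blocksThrough_mul hB J (by omega)
  rw [hJ, ← harith] at h
  exact Nat.eq_of_mul_eq_mul_right hpos h

end Cfsg.Agent.Lib.Helper6_Steiner
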