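import Mathlib
import Cfsg.Prelude.Def_Sporadic_a
import Cfsg.Agent.Lib.Helper6_Steiner

set_option autoImplicit false
set_option linter.unusedSectionVars false
set_option linter.unusedVariables false

/-!
Projective planes of order four as Steiner systems `S(2, 5, 21)`: basic incidence facts
(helper41).
-/

namespace Cfsg.Agent.Lib.Helper41_Plane4

open Cfsg Cfsg.Agent.Lib.Helper6_Steiner
open scoped Classical

variable {α : Type*} [Fintype α] [DecidableEq α]

/-- the lines through a point -/
noncomputable def linesAt (L : Set (Finset α)) (x : α) : Finset (Finset α) :=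
  (blocks L).filter (fun l => x ∈ l)

theorem mem_linesAt {L : Set (Finset α)} {x : α} {l : Finset α} :
    l ∈ linesAt L x ↔ l ∈ L ∧ x ∈ l := by
  simp [linesAt, mem_blocks]

theorem exists_line {L : Set (Finset α)} (hL : IsSteinerSystem 2 5 L) {a b : α} (hab : a ≠ b) :
    ∃ l ∈ L, a ∈ l ∧ b ∈ l := by
  obtain ⟨l, ⟨hl, hs⟩, -⟩ := hL.2 {a, b} (Finset.card_pair hab)
  exact ⟨l, hl, hs (by simp), hs (by simp)⟩

theorem line_unique {L : Set (Finset α)} (hL : IsSteinerSystem 2 5 L) {a b : α} (hab : a ≠ b)
    {l m : Finset α} (hl : l ∈ L) (hm : m ∈ L) (hal : a ∈ l) (hbl : b ∈ l) (ham : a ∈ m)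
    (hbm : b ∈ m) : l = m := by
  obtain ⟨d, -, hd⟩ := hL.2 {a, b} (Finset.card_pair hab)
  have h1 := hd l ⟨hl, by
    intro x hx
    rw [Finset.mem_insert, Finset.mem_singleton] at hx
    rcases hx with rfl | rfl <;> assumption⟩
  have h2 := hd m ⟨hm, by
    intro x hx
    rw [Finset.mem_insert, Finset.mem_singleton] at hx
    rcases hx with rfl | rfl <;> assumption⟩
  exact h1.trans h2.symm

/-- five lines through every point -/
theorem card_linesAt {L : Set (Finset α)} (hα : Fintype.card α = 21)
    (hL : IsSteinerSystem 2 5 L) (x : α) : (linesAt L x).card = 5 := by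
  have h := card_blocksThrough_eq hL (j := 1) (lam := 5) (by norm_num)
    (by rw [hα]; decide) (by decide) {x} (Finset.card_singleton x)
  rw [← h]
  congr 1
  ext l
  rw [mem_linesAt, mem_blocksThrough, Finset.singleton_subset_iff]

/-- two distinct lines share at most one point -/
theorem inter_card_le_one {L : Set (Finset α)} (hL : IsSteinerSystem 2 5 L) {l m : Finset α}
    (hl : l ∈ L) (hm : m ∈ L) (hlm : l ≠ m) : (l ∩ m).card ≤ 1 := by
  have := card_inter_lt hL hl hm hlm
  omega

/-- the number of lines through `x` and a point `s ≠ x` is one -/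
theorem card_linesAt_filter {L : Set (Finset α)} (hL : IsSteinerSystem 2 5 L) {x s : α}
    (hxs : s ≠ x) : ((linesAt L x).filter (fun l => s ∈ l)).card = 1 := by
  obtain ⟨l, hl, hxl, hsl⟩ := exists_line hL hxs.symm
  rw [Finset.card_eq_one]
  refine ⟨l, ?_⟩
  ext m
  rw [Finset.mem_filter, mem_linesAt, Finset.mem_singleton]
  constructor
  · rintro ⟨⟨hm, hxm⟩, hsm⟩
    exact line_unique hL hxs.symm hm hl hxm hsm hxl hsl
  · rintro rfl
    exact ⟨⟨hl, hxl⟩, hsl⟩

/-- the lines through a point `x` partition any set `S` not containing `x` -/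
theorem sum_inter_linesAt {L : Set (Finset α)} (hL : IsSteinerSystem 2 5 L) (x : α)
    (S : Finset α) (hx : x ∉ S) : ∑ l ∈ linesAt L x, (l ∩ S).card = S.card := by
  have h := Finset.sum_card_bipartiteAbove_eq_sum_card_bipartiteBelow (s := linesAt L x) (t := S)
    (fun (l : Finset α) (s : α) => s ∈ l)
  have h1 : ∀ l ∈ linesAt L x, (Finset.bipartiteAbove (fun (l : Finset α) (s : α) => s ∈ l) S l).card =
      (l ∩ S).card := by
    intro l _
    rw [Finset.bipartiteAbove, Finset.filter_mem_eq_inter, Finset.inter_comm]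
  have h2 : ∀ s ∈ S, (Finset.bipartiteBelow (fun (l : Finset α) (s : α) => s ∈ l) (linesAt L x) s).card
      = 1 := by
    intro s hs
    rw [Finset.bipartiteBelow]
    exact card_linesAt_filter hL (by rintro rfl; exact hx hs)
  rw [Finset.sum_congr rfl h1, Finset.sum_congr rfl h2, Finset.sum_const, smul_eq_mul, mul_one] at h
  exact h

/-- two distinct lines meet -/
theorem inter_nonempty {L : Set (Finset α)} (hα : Fintype.card α = 21)
    (hL : IsSteinerSystem 2 5 L) {l m : Finset α} (hl : l ∈ L) (hm : m ∈ L) :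
    (l ∩ m).Nonempty := by
  by_contra hne
  rw [Finset.not_nonempty_iff_eq_empty] at hne
  have hmc : m.card = 5 := hL.1 m hm
  obtain ⟨x, hxm⟩ : m.Nonempty := by
    rw [← Finset.card_pos, hmc]
    norm_num
  have hxl : x ∉ l := by
    intro hxl
    have : x ∈ l ∩ m := Finset.mem_inter.mpr ⟨hxl, hxm⟩
    rw [hne] at this
    exact absurd this (Finset.notMem_empty x)
  have hsum := sum_inter_linesAt hL x l hxl
  rw [hL.1 l hl] at hsum
  -- every line through x meets l in at most one point, and m in none
  have hle : ∀ k ∈ linesAt L x, (k ∩ l).card ≤ if k = m then 0 else 1 := by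
    intro k hk
    rw [mem_linesAt] at hk
    split_ifs with hkm
    · rw [hkm, Finset.inter_comm, hne, Finset.card_empty]
    · apply inter_card_le_one hL hk.1 hl
      rintro rfl
      exact hxl hk.2
  have h3 := Finset.sum_le_sum hle
  rw [hsum, Finset.sum_ite, Finset.sum_const_zero, zero_add, Finset.sum_const, smul_eq_mul,
    mul_one] at h3
  have h4 : ((linesAt L x).filter (fun k => ¬ k = m)).card < (linesAt L x).card := by
    apply Finset.card_lt_card
    rw [Finset.ssubset_iff_of_subset (Finset.filter_subset _ _)]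
    refine ⟨m, mem_linesAt.mpr ⟨hm, hxm⟩, ?_⟩
    rw [Finset.mem_filter]
    exact fun h => h.2 rfl
  rw [card_linesAt hα hL x] at h4
  omega

/-- two distinct lines meet in exactly one point -/
theorem inter_card_eq_one {L : Set (Finset α)} (hα : Fintype.card α = 21)
    (hL : IsSteinerSystem 2 5 L) {l m : Finset α} (hl : l ∈ L) (hm : m ∈ L) (hlm : l ≠ m) :
    (l ∩ m).card = 1 := by
  have h1 := inter_card_le_one hL hl hm hlm
  have h2 := Finset.card_pos.mpr (inter_nonempty hα hL hl hm)
  omega

end Cfsg.Agent.Lib.Helper41_Plane4
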