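import Mathlib
import Cfsg.Prelude.Def_Sporadic_a
import Cfsg.Agent.Lib.Helper6_Steiner
import Cfsg.Agent.Lib.Helper41_Plane4

set_option autoImplicit false
set_option linter.unusedSectionVars false
set_option linter.unusedVariables false

/-!
Arcs in projective planes of order four: secants, tangents and free points (helper41).
-/

namespace Cfsg.Agent.Lib.Helper41_Plane4b

open Cfsg Cfsg.Agent.Lib.Helper6_Steiner Cfsg.Agent.Lib.Helper41_Plane4
open scoped Classical

variable {α : Type*} [Fintype α] [DecidableEq α]

/-- no three points of `S` on a line -/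
def Indep (L : Set (Finset α)) (S : Finset α) : Prop := ∀ l ∈ L, (l ∩ S).card ≤ 2

theorem Indep.mono {L : Set (Finset α)} {S T : Finset α} (hT : Indep L T) (hST : S ⊆ T) :
    Indep L S := fun l hl =>
  (Finset.card_le_card (Finset.inter_subset_inter_left hST)).trans (hT l hl)

/-- the secants through `x` -/
noncomputable def secAt (L : Set (Finset α)) (S : Finset α) (x : α) : Finset (Finset α) :=
  (linesAt L x).filter (fun l => (l ∩ S).card = 2)

/-- the tangents through `x` -/
noncomputable def tanAt (L : Set (Finset α)) (S : Finset α) (x : α) : Finset (Finset α) :=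
  (linesAt L x).filter (fun l => (l ∩ S).card = 1)

/-- all secants -/
noncomputable def secants (L : Set (Finset α)) (S : Finset α) : Finset (Finset α) :=
  (blocks L).filter (fun l => (l ∩ S).card = 2)

/-- all tangents -/
noncomputable def tangents (L : Set (Finset α)) (S : Finset α) : Finset (Finset α) :=
  (blocks L).filter (fun l => (l ∩ S).card = 1)

theorem mem_secAt {L : Set (Finset α)} {S : Finset α} {x : α} {l : Finset α} :
    l ∈ secAt L S x ↔ l ∈ L ∧ x ∈ l ∧ (l ∩ S).card = 2 := by
  rw [secAt, Finset.mem_filter, mem_linesAt, and_assoc]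

theorem mem_tanAt {L : Set (Finset α)} {S : Finset α} {x : α} {l : Finset α} :
    l ∈ tanAt L S x ↔ l ∈ L ∧ x ∈ l ∧ (l ∩ S).card = 1 := by
  rw [tanAt, Finset.mem_filter, mem_linesAt, and_assoc]

theorem mem_secants {L : Set (Finset α)} {S : Finset α} {l : Finset α} :
    l ∈ secants L S ↔ l ∈ L ∧ (l ∩ S).card = 2 := by
  rw [secants, Finset.mem_filter, mem_blocks]

theorem mem_tangents {L : Set (Finset α)} {S : Finset α} {l : Finset α} :
    l ∈ tangents L S ↔ l ∈ L ∧ (l ∩ S).card = 1 := by
  rw [tangents, Finset.mem_filter, mem_blocks]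

/-- a sum of values in `{0, 1, 2}` -/
theorem sum_le_two {ι : Type*} (s : Finset ι) (f : ι → ℕ) (hf : ∀ i ∈ s, f i ≤ 2) :
    ∑ i ∈ s, f i = 2 * (s.filter (fun i => f i = 2)).card + (s.filter (fun i => f i = 1)).card := by
  rw [Finset.card_filter, Finset.card_filter, Finset.mul_sum, ← Finset.sum_add_distrib]
  apply Finset.sum_congr rfl
  intro i hi
  have := hf i hi
  interval_cases h : f i <;> simp

/-- For a point off an arc: `2 s + t = |S|`. -/
theorem two_sec_add_tan {L : Set (Finset α)} (hL : IsSteinerSystem 2 5 L) {S : Finset α}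
    (hS : Indep L S) {x : α} (hx : x ∉ S) :
    2 * (secAt L S x).card + (tanAt L S x).card = S.card := by
  rw [← sum_inter_linesAt hL x S hx, sum_le_two (linesAt L x) (fun l => (l ∩ S).card)]
  · rfl
  · intro l hl
    exact hS l (mem_linesAt.mp hl).1

/-- For a point of an arc: the lines through it are secants or tangents. -/
theorem sec_add_tan {L : Set (Finset α)} (hα : Fintype.card α = 21) (hL : IsSteinerSystem 2 5 L)
    {S : Finset α} (hS : Indep L S) {a : α} (ha : a ∈ S) :
    (secAt L S a).card + (tanAt L S a).card = 5 := by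
  rw [← card_linesAt hα hL a, secAt, tanAt, ← Finset.card_union_of_disjoint]
  · congr 1
    ext l
    simp only [Finset.mem_union, Finset.mem_filter]
    constructor
    · rintro (h | h) <;> exact h.1
    · intro h
      have h1 := hS l (mem_linesAt.mp h).1
      have h2 : 0 < (l ∩ S).card :=
        Finset.card_pos.mpr ⟨a, Finset.mem_inter.mpr ⟨(mem_linesAt.mp h).2, ha⟩⟩
      have : (l ∩ S).card = 2 ∨ (l ∩ S).card = 1 := by omega
      rcases this with h3 | h3
      · exact Or.inl ⟨h, h3⟩
      · exact Or.inr ⟨h, h3⟩
  · rw [Finset.disjoint_filter]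
    intro l _ h1 h2
    omega

/-- the number of secants through a point of an arc -/
theorem card_secAt_of_mem {L : Set (Finset α)} (hL : IsSteinerSystem 2 5 L)
    {S : Finset α} (hS : Indep L S) {a : α} (ha : a ∈ S) :
    (secAt L S a).card + 1 = S.card := by
  have h := sum_inter_linesAt hL a (S.erase a) (Finset.notMem_erase a S)
  rw [Finset.card_erase_of_mem ha] at h
  have h1 : ∀ l ∈ linesAt L a, (l ∩ S.erase a).card = if (l ∩ S).card = 2 then 1 else 0 := by
    intro l hl
    rw [mem_linesAt] at hl
    have h2 : l ∩ S.erase a = (l ∩ S).erase a := by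
      ext y
      simp only [Finset.mem_inter, Finset.mem_erase]
      tauto
    have h3 : a ∈ l ∩ S := Finset.mem_inter.mpr ⟨hl.2, ha⟩
    rw [h2, Finset.card_erase_of_mem h3]
    have h4 := hS l hl.1
    have h5 : 0 < (l ∩ S).card := Finset.card_pos.mpr ⟨a, h3⟩
    split_ifs with h6
    · omega
    · omega
  rw [Finset.sum_congr rfl h1, ← Finset.card_filter] at h
  have hpos : 0 < S.card := Finset.card_pos.mpr ⟨a, ha⟩
  rw [secAt]
  omega

/-- adding a point off the arc keeps independence iff no secant passes through it -/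
theorem indep_insert_iff {L : Set (Finset α)} {S : Finset α} (hS : Indep L S) {x : α}
    (hx : x ∉ S) : Indep L (insert x S) ↔ secAt L S x = ∅ := by
  constructor
  · intro h
    rw [Finset.eq_empty_iff_forall_notMem]
    intro l hl
    rw [mem_secAt] at hl
    have := h l hl.1
    rw [Finset.inter_insert_of_mem hl.2.1, Finset.card_insert_of_notMem, hl.2.2] at this
    · omega
    · intro h'
      exact hx (Finset.mem_inter.mp h').2
  · intro h l hl
    by_cases hxl : x ∈ l
    · rw [Finset.inter_insert_of_mem hxl, Finset.card_insert_of_notMem]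
      · have h1 := hS l hl
        have h2 : (l ∩ S).card ≠ 2 := by
          intro h2
          have : l ∈ secAt L S x := mem_secAt.mpr ⟨hl, hxl, h2⟩
          rw [h] at this
          exact absurd this (Finset.notMem_empty l)
        omega
      · intro h'
        exact hx (Finset.mem_inter.mp h').2
    · rw [Finset.inter_insert_of_notMem hxl]
      exact hS l hl

/-- the free points of an arc: those that extend it -/
noncomputable def freePts (L : Set (Finset α)) (S : Finset α) : Finset α :=
  Finset.univ.filter (fun x => x ∉ S ∧ secAt L S x = ∅)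

theorem mem_freePts {L : Set (Finset α)} {S : Finset α} {x : α} :
    x ∈ freePts L S ↔ x ∉ S ∧ secAt L S x = ∅ := by
  simp [freePts]

theorem mem_freePts_iff_indep {L : Set (Finset α)} {S : Finset α} (hS : Indep L S) {x : α} :
    x ∈ freePts L S ↔ x ∉ S ∧ Indep L (insert x S) := by
  rw [mem_freePts]
  constructor
  · rintro ⟨h1, h2⟩
    exact ⟨h1, (indep_insert_iff hS h1).mpr h2⟩
  · rintro ⟨h1, h2⟩
    exact ⟨h1, (indep_insert_iff hS h1).mp h2⟩

end Cfsg.Agent.Lib.Helper41_Plane4b
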