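import Mathlib
import Cfsg.Prelude.Def_Sporadic_a
import Cfsg.Agent.Lib.Helper6_Steiner
import Cfsg.Agent.Lib.Helper41_Plane4
import Cfsg.Agent.Lib.Helper41_Plane4b

set_option autoImplicit false
set_option linter.unusedSectionVars false
set_option linter.unusedVariables false

/-!
Arcs in projective planes of order four: counting secants and free points (helper41).
-/

namespace Cfsg.Agent.Lib.Helper41_Plane4c

open Cfsg Cfsg.Agent.Lib.Helper6_Steiner Cfsg.Agent.Lib.Helper41_Plane4
  Cfsg.Agent.Lib.Helper41_Plane4b
open scoped Classical

variable {α : Type*} [Fintype α] [DecidableEq α]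

/-- `2 · #secants = |S| (|S| - 1)` -/
theorem two_mul_card_secants {L : Set (Finset α)} (hL : IsSteinerSystem 2 5 L) {S : Finset α}
    (hS : Indep L S) : 2 * (secants L S).card + S.card = S.card * S.card := by
  have h := Finset.sum_card_bipartiteAbove_eq_sum_card_bipartiteBelow (s := S) (t := secants L S)
    (fun (a : α) (m : Finset α) => a ∈ m)
  have h1 : ∀ a ∈ S, (Finset.bipartiteAbove (fun (a : α) (m : Finset α) => a ∈ m) (secants L S) a).card
      + 1 = S.card := by
    intro a ha
    rw [← card_secAt_of_mem hL hS ha]
    congr 2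
    ext m
    rw [Finset.bipartiteAbove, Finset.mem_filter, mem_secants, mem_secAt]
    tauto
  have h2 : ∀ m ∈ secants L S,
      (Finset.bipartiteBelow (fun (a : α) (m : Finset α) => a ∈ m) S m).card = 2 := by
    intro m hm
    rw [Finset.bipartiteBelow, Finset.filter_mem_eq_inter, Finset.inter_comm]
    exact (mem_secants.mp hm).2
  rw [Finset.sum_congr rfl h2, Finset.sum_const, smul_eq_mul] at h
  have h3 : ∑ a ∈ S, ((Finset.bipartiteAbove (fun (a : α) (m : Finset α) => a ∈ m)
      (secants L S) a).card + 1) = ∑ a ∈ S, S.card := Finset.sum_congr rfl h1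
  rw [Finset.sum_add_distrib, Finset.sum_const, Finset.sum_const, smul_eq_mul, smul_eq_mul,
    mul_one, h] at h3
  omega

/-- the secants cover `3 · #secants` point-incidences off the arc -/
theorem sum_card_secAt_compl {L : Set (Finset α)} (hL : IsSteinerSystem 2 5 L) (S : Finset α) :
    ∑ x ∈ Finset.univ \ S, (secAt L S x).card = 3 * (secants L S).card := by
  have h := Finset.sum_card_bipartiteAbove_eq_sum_card_bipartiteBelow (s := Finset.univ \ S)
    (t := secants L S) (fun (a : α) (m : Finset α) => a ∈ m)
  have h1 : ∀ x ∈ Finset.univ \ S,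
      (Finset.bipartiteAbove (fun (a : α) (m : Finset α) => a ∈ m) (secants L S) x).card =
        (secAt L S x).card := by
    intro x _
    congr 1
    ext m
    rw [Finset.bipartiteAbove, Finset.mem_filter, mem_secants, mem_secAt]
    tauto
  have h2 : ∀ m ∈ secants L S,
      (Finset.bipartiteBelow (fun (a : α) (m : Finset α) => a ∈ m) (Finset.univ \ S) m).card = 3 := by
    intro m hm
    rw [mem_secants] at hm
    rw [Finset.bipartiteBelow, Finset.filter_mem_eq_inter]
    have h3 : (Finset.univ \ S) ∩ m = m \ (m ∩ S) := by
      ext y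
      simp only [Finset.mem_inter, Finset.mem_sdiff, Finset.mem_univ, true_and]
      tauto
    rw [h3, Finset.card_sdiff_of_subset Finset.inter_subset_left, hL.1 m hm.1, hm.2]
  rw [Finset.sum_congr rfl h1, Finset.sum_congr rfl h2, Finset.sum_const, smul_eq_mul] at h
  rw [h, mul_comm]

/-- the free points of a small arc -/
theorem card_freePts_small {L : Set (Finset α)} (hα : Fintype.card α = 21)
    (hL : IsSteinerSystem 2 5 L) {S : Finset α} (hS : Indep L S) (h3 : S.card ≤ 3) :
    (freePts L S).card + S.card + 3 * (secants L S).card = 21 := by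
  rw [← sum_card_secAt_compl hL S]
  have h1 : ∀ x ∈ Finset.univ \ S, (secAt L S x).card = if secAt L S x = ∅ then 0 else 1 := by
    intro x hx
    have hx' : x ∉ S := (Finset.mem_sdiff.mp hx).2
    have := two_sec_add_tan hL hS hx'
    split_ifs with h0
    · rw [h0, Finset.card_empty]
    · have : 0 < (secAt L S x).card := Finset.card_pos.mpr (Finset.nonempty_iff_ne_empty.mpr h0)
      omega
  rw [Finset.sum_congr rfl h1, Finset.sum_ite, Finset.sum_const_zero, zero_add, Finset.sum_const,
    smul_eq_mul, mul_one]
  have h2 : freePts L S = (Finset.univ \ S).filter (fun x => secAt L S x = ∅) := by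
    ext x
    rw [mem_freePts, Finset.mem_filter, Finset.mem_sdiff]
    simp
  rw [h2]
  have h4 := Finset.card_filter_add_card_filter_not (s := Finset.univ \ S)
    (fun x => secAt L S x = ∅)
  have h5 : (Finset.univ \ S).card + S.card = 21 := by
    rw [Finset.card_sdiff_of_subset (Finset.subset_univ S), Finset.card_univ, hα]
    have := Finset.card_le_univ S
    omega
  omega

/-- sixteen points extend a pair to a triangle -/
theorem card_freePts_two {L : Set (Finset α)} (hα : Fintype.card α = 21)
    (hL : IsSteinerSystem 2 5 L) {S : Finset α} (hS : Indep L S) (h2 : S.card = 2) :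
    (freePts L S).card = 16 := by
  have h1 := card_freePts_small hα hL hS (by omega)
  have h3 := two_mul_card_secants hL hS
  rw [h2] at h1 h3
  omega

/-- nine points extend a triangle to a quadrangle -/
theorem card_freePts_three {L : Set (Finset α)} (hα : Fintype.card α = 21)
    (hL : IsSteinerSystem 2 5 L) {S : Finset α} (hS : Indep L S) (h2 : S.card = 3) :
    (freePts L S).card = 9 := by
  have h1 := card_freePts_small hα hL hS (by omega)
  have h3 := two_mul_card_secants hL hS
  rw [h2] at h1 h3
  omega

/-- every set of at most two points is independent -/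
theorem indep_of_card_le_two (L : Set (Finset α)) {S : Finset α} (h2 : S.card ≤ 2) :
    Indep L S := fun l _ => (Finset.card_le_card Finset.inter_subset_right).trans h2

end Cfsg.Agent.Lib.Helper41_Plane4c
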