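import Mathlib
import Cfsg.Prelude.Def_Sporadic_a
import Cfsg.Agent.Lib.Helper6_Steiner
import Cfsg.Agent.Lib.Helper41_Plane4
import Cfsg.Agent.Lib.Helper41_Plane4b
import Cfsg.Agent.Lib.Helper41_Plane4c

set_option autoImplicit false
set_option linter.unusedSectionVars false
set_option linter.unusedVariables false

/-!
Quadrangles in projective planes of order four: each lies in exactly one hyperoval (helper41).
-/

namespace Cfsg.Agent.Lib.Helper41_Plane4d

open Cfsg Cfsg.Agent.Lib.Helper6_Steiner Cfsg.Agent.Lib.Helper41_Plane4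
  Cfsg.Agent.Lib.Helper41_Plane4b Cfsg.Agent.Lib.Helper41_Plane4c
open scoped Classical

variable {α : Type*} [Fintype α] [DecidableEq α]

/-- the number of tangents: each contains exactly one arc point -/
theorem card_tangents {L : Set (Finset α)} (S : Finset α) :
    (tangents L S).card = ∑ a ∈ S, (tanAt L S a).card := by
  have h := Finset.sum_card_bipartiteAbove_eq_sum_card_bipartiteBelow (s := S) (t := tangents L S)
    (fun (a : α) (m : Finset α) => a ∈ m)
  have h1 : ∀ a ∈ S, (Finset.bipartiteAbove (fun (a : α) (m : Finset α) => a ∈ m) (tangents L S) a).card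
      = (tanAt L S a).card := by
    intro a _
    congr 1
    ext m
    rw [Finset.bipartiteAbove, Finset.mem_filter, mem_tangents, mem_tanAt]
    tauto
  have h2 : ∀ m ∈ tangents L S,
      (Finset.bipartiteBelow (fun (a : α) (m : Finset α) => a ∈ m) S m).card = 1 := by
    intro m hm
    rw [Finset.bipartiteBelow, Finset.filter_mem_eq_inter, Finset.inter_comm]
    exact (mem_tangents.mp hm).2
  rw [Finset.sum_congr rfl h1, Finset.sum_congr rfl h2, Finset.sum_const, smul_eq_mul, mul_one] at h
  exact h.symm

/-- a quadrangle has six secants -/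
theorem card_secants_four {L : Set (Finset α)} (hL : IsSteinerSystem 2 5 L) {S : Finset α}
    (hS : Indep L S) (h4 : S.card = 4) : (secants L S).card = 6 := by
  have := two_mul_card_secants hL hS
  rw [h4] at this
  omega

theorem card_secAt_four {L : Set (Finset α)} (hL : IsSteinerSystem 2 5 L) {S : Finset α}
    (hS : Indep L S) (h4 : S.card = 4) {a : α} (ha : a ∈ S) : (secAt L S a).card = 3 := by
  have := card_secAt_of_mem hL hS ha
  omega

theorem card_tanAt_four {L : Set (Finset α)} (hα : Fintype.card α = 21)
    (hL : IsSteinerSystem 2 5 L) {S : Finset α}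
    (hS : Indep L S) (h4 : S.card = 4) {a : α} (ha : a ∈ S) : (tanAt L S a).card = 2 := by
  have h1 := card_secAt_four hL hS h4 ha
  have h2 := sec_add_tan hα hL hS ha
  omega

/-- a quadrangle has eight tangents -/
theorem card_tangents_four {L : Set (Finset α)} (hα : Fintype.card α = 21)
    (hL : IsSteinerSystem 2 5 L) {S : Finset α}
    (hS : Indep L S) (h4 : S.card = 4) : (tangents L S).card = 8 := by
  rw [card_tangents S, Finset.sum_congr rfl (fun a ha => card_tanAt_four hα hL hS h4 ha),
    Finset.sum_const, smul_eq_mul, h4]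

/-- Each tangent of a quadrangle contains exactly one free point. -/
theorem card_inter_freePts_of_tangent {L : Set (Finset α)} (hα : Fintype.card α = 21)
    (hL : IsSteinerSystem 2 5 L) {S : Finset α}
    (hS : Indep L S) (h4 : S.card = 4) {l : Finset α} (hl : l ∈ tangents L S) :
    (l ∩ freePts L S).card = 1 := by
  rw [mem_tangents] at hl
  obtain ⟨a, ha⟩ := Finset.card_eq_one.mp hl.2
  have haS : a ∈ S := (Finset.mem_inter.mp (by rw [ha]; exact Finset.mem_singleton_self a)).2
  have hal : a ∈ l := (Finset.mem_inter.mp (by rw [ha]; exact Finset.mem_singleton_self a)).1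
  have hoff : ∀ x ∈ l.erase a, x ∉ S := by
    intro x hx hxS
    rw [Finset.mem_erase] at hx
    have : x ∈ l ∩ S := Finset.mem_inter.mpr ⟨hx.2, hxS⟩
    rw [ha, Finset.mem_singleton] at this
    exact hx.1 this
  -- each point of `l` other than `a` lies on at most one secant
  have h1 : ∀ x ∈ l.erase a, (secAt L S x).card = if secAt L S x = ∅ then 0 else 1 := by
    intro x hx
    have hx' := hoff x hx
    have h2 := two_sec_add_tan hL hS hx'
    have h3 : 0 < (tanAt L S x).card :=
      Finset.card_pos.mpr ⟨l, mem_tanAt.mpr ⟨hl.1, (Finset.mem_erase.mp hx).2, hl.2⟩⟩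
    split_ifs with h0
    · rw [h0, Finset.card_empty]
    · have : 0 < (secAt L S x).card := Finset.card_pos.mpr (Finset.nonempty_iff_ne_empty.mpr h0)
      omega
  -- the secants not through `a` meet `l` off `a`
  have h := Finset.sum_card_bipartiteAbove_eq_sum_card_bipartiteBelow (s := l.erase a)
    (t := secants L S) (fun (x : α) (m : Finset α) => x ∈ m)
  have h5 : ∀ x ∈ l.erase a,
      (Finset.bipartiteAbove (fun (x : α) (m : Finset α) => x ∈ m) (secants L S) x).card =
        (secAt L S x).card := by
    intro x _
    congr 1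
    ext m
    rw [Finset.bipartiteAbove, Finset.mem_filter, mem_secants, mem_secAt]
    tauto
  have h6 : ∀ m ∈ secants L S,
      (Finset.bipartiteBelow (fun (x : α) (m : Finset α) => x ∈ m) (l.erase a) m).card =
        if a ∈ m then 0 else 1 := by
    intro m hm
    rw [mem_secants] at hm
    have hml : m ≠ l := by
      rintro rfl
      omega
    have h7 := inter_card_eq_one hα hL hm.1 hl.1 hml
    rw [Finset.bipartiteBelow, Finset.filter_mem_eq_inter]
    have h8 : l.erase a ∩ m = (m ∩ l).erase a := by
      ext y
      simp only [Finset.mem_inter, Finset.mem_erase]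
      tauto
    rw [h8]
    split_ifs with ham
    · rw [Finset.card_erase_of_mem (Finset.mem_inter.mpr ⟨ham, hal⟩), h7]
    · rw [Finset.erase_eq_of_notMem (fun h' => ham (Finset.mem_inter.mp h').1), h7]
  rw [Finset.sum_congr rfl h5, Finset.sum_congr rfl h6, Finset.sum_ite, Finset.sum_const_zero,
    zero_add, Finset.sum_const, smul_eq_mul, mul_one, Finset.sum_congr rfl h1, Finset.sum_ite,
    Finset.sum_const_zero, zero_add, Finset.sum_const, smul_eq_mul, mul_one] at h
  have h9 : (secants L S).filter (fun m => a ∈ m) = secAt L S a := by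
    ext m
    rw [Finset.mem_filter, mem_secants, mem_secAt]
    tauto
  have h10 := Finset.card_filter_add_card_filter_not (s := secants L S) (fun m => a ∈ m)
  rw [h9, card_secAt_four hL hS h4 haS, card_secants_four hL hS h4] at h10
  have h11 := Finset.card_filter_add_card_filter_not (s := l.erase a) (fun x => secAt L S x = ∅)
  rw [Finset.card_erase_of_mem hal, hL.1 l hl.1] at h11
  have h12 : l ∩ freePts L S = (l.erase a).filter (fun x => secAt L S x = ∅) := by
    ext x
    rw [Finset.mem_inter, mem_freePts, Finset.mem_filter, Finset.mem_erase]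
    constructor
    · rintro ⟨hxl, hxS, hx0⟩
      exact ⟨⟨fun hxa => hxS (hxa ▸ haS), hxl⟩, hx0⟩
    · rintro ⟨⟨hxa, hxl⟩, hx0⟩
      exact ⟨hxl, hoff x (Finset.mem_erase.mpr ⟨hxa, hxl⟩), hx0⟩
  rw [h12]
  omega

/-- no free point lies on a secant -/
theorem inter_freePts_of_secant {L : Set (Finset α)} {S : Finset α} {l : Finset α}
    (hl : l ∈ secants L S) : l ∩ freePts L S = ∅ := by
  rw [Finset.eq_empty_iff_forall_notMem]
  intro x hx
  rw [Finset.mem_inter, mem_freePts] at hx
  have : l ∈ secAt L S x := mem_secAt.mpr ⟨(mem_secants.mp hl).1, hx.1, (mem_secants.mp hl).2⟩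
  rw [hx.2.2] at this
  exact absurd this (Finset.notMem_empty l)

/-- A quadrangle has exactly two free points. -/
theorem card_freePts_four {L : Set (Finset α)} (hα : Fintype.card α = 21)
    (hL : IsSteinerSystem 2 5 L) {S : Finset α}
    (hS : Indep L S) (h4 : S.card = 4) : (freePts L S).card = 2 := by
  have h := Finset.sum_card_bipartiteAbove_eq_sum_card_bipartiteBelow (s := freePts L S)
    (t := tangents L S) (fun (x : α) (m : Finset α) => x ∈ m)
  have h1 : ∀ x ∈ freePts L S,
      (Finset.bipartiteAbove (fun (x : α) (m : Finset α) => x ∈ m) (tangents L S) x).card = 4 := by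
    intro x hx
    rw [mem_freePts] at hx
    have h2 := two_sec_add_tan hL hS hx.1
    rw [hx.2, Finset.card_empty, h4] at h2
    have h3 : Finset.bipartiteAbove (fun (x : α) (m : Finset α) => x ∈ m) (tangents L S) x =
        tanAt L S x := by
      ext m
      rw [Finset.bipartiteAbove, Finset.mem_filter, mem_tangents, mem_tanAt]
      tauto
    rw [h3]
    omega
  have h2 : ∀ m ∈ tangents L S,
      (Finset.bipartiteBelow (fun (x : α) (m : Finset α) => x ∈ m) (freePts L S) m).card = 1 := by
    intro m hm
    rw [Finset.bipartiteBelow, Finset.filter_mem_eq_inter, Finset.inter_comm]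
    exact card_inter_freePts_of_tangent hα hL hS h4 hm
  rw [Finset.sum_congr rfl h1, Finset.sum_congr rfl h2, Finset.sum_const, Finset.sum_const,
    smul_eq_mul, smul_eq_mul, mul_one, card_tangents_four hα hL hS h4] at h
  omega

theorem disjoint_freePts (L : Set (Finset α)) (S : Finset α) : Disjoint S (freePts L S) := by
  rw [Finset.disjoint_left]
  intro x hx hx'
  exact (mem_freePts.mp hx').1 hx

/-- The hyperoval through a quadrangle. -/
theorem indep_union_freePts {L : Set (Finset α)} (hα : Fintype.card α = 21)
    (hL : IsSteinerSystem 2 5 L) {S : Finset α}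
    (hS : Indep L S) (h4 : S.card = 4) : Indep L (S ∪ freePts L S) := by
  intro l hl
  rw [Finset.inter_union_distrib_left, Finset.card_union_of_disjoint]
  · have h1 := hS l hl
    have h2 : (l ∩ S).card = 2 ∨ (l ∩ S).card = 1 ∨ (l ∩ S).card = 0 := by omega
    rcases h2 with h2 | h2 | h2
    · rw [inter_freePts_of_secant (mem_secants.mpr ⟨hl, h2⟩), Finset.card_empty]
      omega
    · rw [card_inter_freePts_of_tangent hα hL hS h4 (mem_tangents.mpr ⟨hl, h2⟩)]
      omega
    · have := Finset.card_le_card (Finset.inter_subset_right (s₁ := l) (s₂ := freePts L S))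
      rw [card_freePts_four hα hL hS h4] at this
      omega
  · exact Finset.disjoint_of_subset_left Finset.inter_subset_right
      (Finset.disjoint_of_subset_right Finset.inter_subset_right (disjoint_freePts L S))

theorem card_union_freePts {L : Set (Finset α)} (hα : Fintype.card α = 21)
    (hL : IsSteinerSystem 2 5 L) {S : Finset α}
    (hS : Indep L S) (h4 : S.card = 4) : (S ∪ freePts L S).card = 6 := by
  rw [Finset.card_union_of_disjoint (disjoint_freePts L S), h4, card_freePts_four hα hL hS h4]

/-- uniqueness of the hyperoval through a quadrangle -/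
theorem eq_union_freePts {L : Set (Finset α)} (hα : Fintype.card α = 21)
    (hL : IsSteinerSystem 2 5 L) {S : Finset α}
    (hS : Indep L S) (h4 : S.card = 4) {H : Finset α} (hH : Indep L H) (h6 : H.card = 6)
    (hSH : S ⊆ H) : H = S ∪ freePts L S := by
  have h1 : H \ S ⊆ freePts L S := by
    intro x hx
    rw [Finset.mem_sdiff] at hx
    rw [mem_freePts_iff_indep hS]
    refine ⟨hx.2, hH.mono ?_⟩
    intro y hy
    rw [Finset.mem_insert] at hy
    rcases hy with rfl | hy
    · exact hx.1
    · exact hSH hy
  have h2 : (H \ S).card = 2 := by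
    rw [Finset.card_sdiff_of_subset hSH, h6, h4]
  have h3 : H \ S = freePts L S := by
    apply Finset.eq_of_subset_of_card_le h1
    rw [card_freePts_four hα hL hS h4, h2]
  rw [← h3, Finset.union_sdiff_of_subset hSH]

end Cfsg.Agent.Lib.Helper41_Plane4d
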