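import Mathlib
import Cfsg.Prelude.Def_Sporadic_a
import Cfsg.Agent.Lib.Helper6_Steiner
import Cfsg.Agent.Lib.Helper41_Plane4
import Cfsg.Agent.Lib.Helper41_Plane4b
import Cfsg.Agent.Lib.Helper41_Plane4c
import Cfsg.Agent.Lib.Helper41_Plane4d

set_option autoImplicit false
set_option linter.unusedSectionVars false
set_option linter.unusedVariables false

/-!
Counting arcs in projective planes of order four (helper41).
-/

namespace Cfsg.Agent.Lib.Helper41_Plane4e

open Cfsg Cfsg.Agent.Lib.Helper6_Steiner Cfsg.Agent.Lib.Helper41_Plane4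
  Cfsg.Agent.Lib.Helper41_Plane4b Cfsg.Agent.Lib.Helper41_Plane4c Cfsg.Agent.Lib.Helper41_Plane4d
open scoped Classical

variable {α : Type*} [Fintype α] [DecidableEq α]

/-- the independent `j`-sets -/
noncomputable def arcs (L : Set (Finset α)) (j : ℕ) : Finset (Finset α) :=
  Finset.univ.filter (fun S => S.card = j ∧ Indep L S)

theorem mem_arcs {L : Set (Finset α)} {j : ℕ} {S : Finset α} :
    S ∈ arcs L j ↔ S.card = j ∧ Indep L S := by
  simp [arcs]

theorem ncard_arcs (L : Set (Finset α)) (j : ℕ) :
    {S : Finset α | S.card = j ∧ ∀ l ∈ L, (l ∩ S).card ≤ 2}.ncard = (arcs L j).card := by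
  have : {S : Finset α | S.card = j ∧ ∀ l ∈ L, (l ∩ S).card ≤ 2} = ((arcs L j : Finset (Finset α)) :
      Set (Finset α)) := by
    ext S
    rw [Set.mem_ofPred_eq, Finset.mem_coe, mem_arcs]
    rfl
  rw [this, Set.ncard_coe_finset]

/-- the sub-arcs of an arc -/
theorem filter_subset_arcs {L : Set (Finset α)} {i j : ℕ} {T : Finset α} (hT : T ∈ arcs L j) :
    (arcs L i).filter (fun S => S ⊆ T) = Finset.powersetCard i T := by
  rw [mem_arcs] at hT
  ext S
  rw [Finset.mem_filter, mem_arcs, Finset.mem_powersetCard]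
  constructor
  · rintro ⟨⟨h1, -⟩, h2⟩
    exact ⟨h2, h1⟩
  · rintro ⟨h1, h2⟩
    exact ⟨⟨h2, hT.2.mono h1⟩, h1⟩

/-- the arcs extending an arc by one point -/
theorem card_filter_superset_arcs {L : Set (Finset α)} {j : ℕ} {S : Finset α} (hS : S ∈ arcs L j) :
    ((arcs L (j + 1)).filter (fun T => S ⊆ T)).card = (freePts L S).card := by
  rw [mem_arcs] at hS
  have himg : (arcs L (j + 1)).filter (fun T => S ⊆ T) =
      (freePts L S).image (fun x => insert x S) := by
    ext T
    rw [Finset.mem_filter, mem_arcs, Finset.mem_image]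
    constructor
    · rintro ⟨⟨hT1, hT2⟩, hST⟩
      have hc : (T \ S).card = 1 := by
        rw [Finset.card_sdiff_of_subset hST, hT1, hS.1]
        omega
      obtain ⟨x, hx⟩ := Finset.card_eq_one.mp hc
      have hxT : x ∈ T \ S := by rw [hx]; exact Finset.mem_singleton_self x
      rw [Finset.mem_sdiff] at hxT
      have hTeq : insert x S = T := by
        rw [Finset.insert_eq, ← hx, Finset.sdiff_union_of_subset hST]
      refine ⟨x, ?_, hTeq⟩
      rw [mem_freePts_iff_indep hS.2]
      refine ⟨hxT.2, ?_⟩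
      rw [hTeq]
      exact hT2
    · rintro ⟨x, hx, rfl⟩
      rw [mem_freePts_iff_indep hS.2] at hx
      refine ⟨⟨?_, hx.2⟩, Finset.subset_insert x S⟩
      rw [Finset.card_insert_of_notMem hx.1, hS.1]
  rw [himg, Finset.card_image_of_injOn]
  intro x hx y hy hxy
  have hx' : x ∉ S := (mem_freePts.mp hx).1
  have hxy' : insert x S = insert y S := hxy
  have : x ∈ insert y S := by rw [← hxy']; exact Finset.mem_insert_self x S
  rw [Finset.mem_insert] at this
  rcases this with h | h
  · exact h
  · exact absurd h hx'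

/-- `(j + 1) N_{j+1} = ∑ over j-arcs of the number of free points` -/
theorem succ_mul_card_arcs (L : Set (Finset α)) (j : ℕ) :
    (j + 1) * (arcs L (j + 1)).card = ∑ S ∈ arcs L j, (freePts L S).card := by
  have h := Finset.sum_card_bipartiteAbove_eq_sum_card_bipartiteBelow (s := arcs L j)
    (t := arcs L (j + 1)) (fun (S T : Finset α) => S ⊆ T)
  have h1 : ∀ S ∈ arcs L j,
      (Finset.bipartiteAbove (fun (S T : Finset α) => S ⊆ T) (arcs L (j + 1)) S).card =
        (freePts L S).card := by
    intro S hS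
    rw [Finset.bipartiteAbove]
    exact card_filter_superset_arcs hS
  have h2 : ∀ T ∈ arcs L (j + 1),
      (Finset.bipartiteBelow (fun (S T : Finset α) => S ⊆ T) (arcs L j) T).card = j + 1 := by
    intro T hT
    rw [Finset.bipartiteBelow, filter_subset_arcs hT, Finset.card_powersetCard, (mem_arcs.mp hT).1,
      Nat.choose_succ_self_right]
  rw [Finset.sum_congr rfl h1, Finset.sum_congr rfl h2, Finset.sum_const, smul_eq_mul] at h
  rw [h, mul_comm]

/-- all pairs are arcs -/
theorem card_arcs_two (hα : Fintype.card α = 21) (L : Set (Finset α)) : (arcs L 2).card = 210 := by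
  have : arcs L 2 = Finset.powersetCard 2 (Finset.univ : Finset α) := by
    ext S
    rw [mem_arcs, Finset.mem_powersetCard]
    constructor
    · rintro ⟨h, -⟩
      exact ⟨Finset.subset_univ S, h⟩
    · rintro ⟨-, h⟩
      exact ⟨h, indep_of_card_le_two L (by omega)⟩
  rw [this, Finset.card_powersetCard, Finset.card_univ, hα]
  decide

theorem card_arcs_three {L : Set (Finset α)} (hα : Fintype.card α = 21)
    (hL : IsSteinerSystem 2 5 L) : (arcs L 3).card = 1120 := by
  have h : 3 * (arcs L 3).card = ∑ S ∈ arcs L 2, (freePts L S).card := succ_mul_card_arcs L 2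
  rw [Finset.sum_congr rfl (fun S hS => card_freePts_two hα hL (mem_arcs.mp hS).2 (mem_arcs.mp hS).1),
    Finset.sum_const, smul_eq_mul, card_arcs_two hα L] at h
  omega

theorem card_arcs_four {L : Set (Finset α)} (hα : Fintype.card α = 21)
    (hL : IsSteinerSystem 2 5 L) : (arcs L 4).card = 2520 := by
  have h : 4 * (arcs L 4).card = ∑ S ∈ arcs L 3, (freePts L S).card := succ_mul_card_arcs L 3
  rw [Finset.sum_congr rfl (fun S hS => card_freePts_three hα hL (mem_arcs.mp hS).2 (mem_arcs.mp hS).1),
    Finset.sum_const, smul_eq_mul, card_arcs_three hα hL] at h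
  omega

theorem card_arcs_six {L : Set (Finset α)} (hα : Fintype.card α = 21)
    (hL : IsSteinerSystem 2 5 L) : (arcs L 6).card = 168 := by
  have h := Finset.sum_card_bipartiteAbove_eq_sum_card_bipartiteBelow (s := arcs L 4)
    (t := arcs L 6) (fun (S T : Finset α) => S ⊆ T)
  have h1 : ∀ S ∈ arcs L 4,
      (Finset.bipartiteAbove (fun (S T : Finset α) => S ⊆ T) (arcs L 6) S).card = 1 := by
    intro S hS
    rw [mem_arcs] at hS
    rw [Finset.bipartiteAbove, Finset.card_eq_one]
    refine ⟨S ∪ freePts L S, ?_⟩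
    ext H
    rw [Finset.mem_filter, mem_arcs, Finset.mem_singleton]
    constructor
    · rintro ⟨⟨h6, hH⟩, hSH⟩
      exact eq_union_freePts hα hL hS.2 hS.1 hH h6 hSH
    · rintro rfl
      exact ⟨⟨card_union_freePts hα hL hS.2 hS.1, indep_union_freePts hα hL hS.2 hS.1⟩,
        Finset.subset_union_left⟩
  have h2 : ∀ T ∈ arcs L 6,
      (Finset.bipartiteBelow (fun (S T : Finset α) => S ⊆ T) (arcs L 4) T).card = 15 := by
    intro T hT
    rw [Finset.bipartiteBelow, filter_subset_arcs hT, Finset.card_powersetCard, (mem_arcs.mp hT).1]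
    decide
  rw [Finset.sum_congr rfl h1, Finset.sum_congr rfl h2, Finset.sum_const, Finset.sum_const,
    smul_eq_mul, smul_eq_mul, card_arcs_four hα hL] at h
  omega

end Cfsg.Agent.Lib.Helper41_Plane4e
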