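import Mathlib
import Cfsg.Prelude.Def_Sporadic_a
import Cfsg.Agent.Lib.Helper6_Steiner
import Cfsg.Agent.Lib.Helper41_Plane4
import Cfsg.Agent.Lib.Helper41_Plane4b

set_option autoImplicit false
set_option linter.unusedSectionVars false
set_option linter.unusedVariables false

/-!
Hyperovals in projective planes of order four: no tangents, three secants and two external lines
through every point off the hyperoval (helper41).
-/

namespace Cfsg.Agent.Lib.Helper41_Plane4f

open Cfsg Cfsg.Agent.Lib.Helper6_Steiner Cfsg.Agent.Lib.Helper41_Plane4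
  Cfsg.Agent.Lib.Helper41_Plane4b
open scoped Classical

variable {α : Type*} [Fintype α] [DecidableEq α]

/-- three points on a common line -/
def Col (L : Set (Finset α)) (a b c : α) : Prop := ∃ l ∈ L, a ∈ l ∧ b ∈ l ∧ c ∈ l

/-- a hyperoval has no tangents -/
theorem no_tangent {L : Set (Finset α)} (hα : Fintype.card α = 21) (hL : IsSteinerSystem 2 5 L)
    {H : Finset α} (h6 : H.card = 6) (hH : Indep L H) {l : Finset α} (hl : l ∈ L) :
    (l ∩ H).card ≠ 1 := by
  intro h1
  obtain ⟨a, ha⟩ := Finset.card_eq_one.mp h1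
  have haH : a ∈ H := (Finset.mem_inter.mp (by rw [ha]; exact Finset.mem_singleton_self a)).2
  have hal : a ∈ l := (Finset.mem_inter.mp (by rw [ha]; exact Finset.mem_singleton_self a)).1
  have h2 := card_secAt_of_mem hL hH haH
  have h3 := sec_add_tan hα hL hH haH
  have h4 : 0 < (tanAt L H a).card := Finset.card_pos.mpr ⟨l, mem_tanAt.mpr ⟨hl, hal, h1⟩⟩
  omega

theorem trace_cases {L : Set (Finset α)} (hα : Fintype.card α = 21) (hL : IsSteinerSystem 2 5 L)
    {H : Finset α} (h6 : H.card = 6) (hH : Indep L H) {l : Finset α} (hl : l ∈ L) :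
    (l ∩ H).card = 2 ∨ l ∩ H = ∅ := by
  have h1 := no_tangent hα hL h6 hH hl
  have h2 := hH l hl
  have : (l ∩ H).card = 2 ∨ (l ∩ H).card = 0 := by omega
  rcases this with h | h
  · exact Or.inl h
  · exact Or.inr (Finset.card_eq_zero.mp h)

/-- a line through a point of the hyperoval is a secant -/
theorem trace_of_mem {L : Set (Finset α)} (hα : Fintype.card α = 21) (hL : IsSteinerSystem 2 5 L)
    {H : Finset α} (h6 : H.card = 6) (hH : Indep L H) {l : Finset α} (hl : l ∈ L) {a : α}
    (haH : a ∈ H) (hal : a ∈ l) : (l ∩ H).card = 2 := by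
  rcases trace_cases hα hL h6 hH hl with h | h
  · exact h
  · have : a ∈ l ∩ H := Finset.mem_inter.mpr ⟨hal, haH⟩
    rw [h] at this
    exact absurd this (Finset.notMem_empty a)

/-- three secants through a point off the hyperoval -/
theorem card_secAt_off {L : Set (Finset α)} (hα : Fintype.card α = 21)
    (hL : IsSteinerSystem 2 5 L) {H : Finset α} (h6 : H.card = 6) (hH : Indep L H) {x : α}
    (hx : x ∉ H) : (secAt L H x).card = 3 := by
  have h1 := two_sec_add_tan hL hH hx
  have h2 : (tanAt L H x).card = 0 := by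
    rw [Finset.card_eq_zero, Finset.eq_empty_iff_forall_notMem]
    intro l hl
    rw [mem_tanAt] at hl
    exact no_tangent hα hL h6 hH hl.1 hl.2.2
  omega

/-- the external lines through a point -/
noncomputable def extAt (L : Set (Finset α)) (H : Finset α) (x : α) : Finset (Finset α) :=
  (linesAt L x).filter (fun l => l ∩ H = ∅)

theorem mem_extAt {L : Set (Finset α)} {H : Finset α} {x : α} {l : Finset α} :
    l ∈ extAt L H x ↔ l ∈ L ∧ x ∈ l ∧ l ∩ H = ∅ := by
  rw [extAt, Finset.mem_filter, mem_linesAt, and_assoc]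

/-- two external lines through a point off the hyperoval -/
theorem card_extAt_off {L : Set (Finset α)} (hα : Fintype.card α = 21)
    (hL : IsSteinerSystem 2 5 L) {H : Finset α} (h6 : H.card = 6) (hH : Indep L H) {x : α}
    (hx : x ∉ H) : (extAt L H x).card = 2 := by
  have h1 := card_secAt_off hα hL h6 hH hx
  have h2 := card_linesAt hα hL x
  have h3 : linesAt L x = secAt L H x ∪ extAt L H x := by
    ext l
    rw [Finset.mem_union, mem_secAt, mem_extAt, mem_linesAt]
    constructor
    · rintro ⟨hl, hxl⟩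
      rcases trace_cases hα hL h6 hH hl with h | h
      · exact Or.inl ⟨hl, hxl, h⟩
      · exact Or.inr ⟨hl, hxl, h⟩
    · rintro (h | h) <;> exact ⟨h.1, h.2.1⟩
  have h4 : Disjoint (secAt L H x) (extAt L H x) := by
    rw [Finset.disjoint_left]
    intro l hl hl'
    rw [mem_secAt] at hl
    rw [mem_extAt] at hl'
    rw [hl'.2.2, Finset.card_empty] at hl
    omega
  rw [h3, Finset.card_union_of_disjoint h4] at h2
  omega

/-- any external line through `x` is one of two given distinct ones -/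
theorem ext_cases {L : Set (Finset α)} (hα : Fintype.card α = 21)
    (hL : IsSteinerSystem 2 5 L) {H : Finset α} (h6 : H.card = 6) (hH : Indep L H) {x : α}
    (hx : x ∉ H) {A B C : Finset α} (hA : A ∈ extAt L H x) (hB : B ∈ extAt L H x)
    (hC : C ∈ extAt L H x) (hAB : A ≠ B) : C = A ∨ C = B := by
  have h2 := card_extAt_off hα hL h6 hH hx
  have h3 : ({A, B} : Finset (Finset α)) = extAt L H x := by
    apply Finset.eq_of_subset_of_card_le
    · intro l hl
      rw [Finset.mem_insert, Finset.mem_singleton] at hl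
      rcases hl with rfl | rfl <;> assumption
    · rw [h2, Finset.card_pair hAB]
  rw [← h3, Finset.mem_insert, Finset.mem_singleton] at hC
  exact hC

/-- the partner of a hyperoval point as seen from a point off the hyperoval -/
theorem exists_partner {L : Set (Finset α)} (hα : Fintype.card α = 21)
    (hL : IsSteinerSystem 2 5 L) {H : Finset α} (h6 : H.card = 6) (hH : Indep L H) {x a : α}
    (hx : x ∉ H) (ha : a ∈ H) : ∃ b ∈ H, b ≠ a ∧ Col L x a b := by
  have hxa : x ≠ a := fun h => hx (h ▸ ha)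
  obtain ⟨l, hl, hxl, hal⟩ := exists_line hL hxa
  have h2 := trace_of_mem hα hL h6 hH hl ha hal
  have h3 : 1 < (l ∩ H).card := by omega
  obtain ⟨b, hb, hba⟩ := Finset.exists_mem_ne h3 a
  rw [Finset.mem_inter] at hb
  exact ⟨b, hb.2, hba, l, hl, hxl, hal, hb.1⟩

/-- a secant meets the hyperoval in just two points -/
theorem eq_of_mem_secant {L : Set (Finset α)} {H : Finset α} (hH : Indep L H) {l : Finset α}
    (hl : l ∈ L) {a b c : α} (ha : a ∈ H) (hb : b ∈ H) (hc : c ∈ H) (hal : a ∈ l) (hbl : b ∈ l)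
    (hcl : c ∈ l) (hab : a ≠ b) (hac : a ≠ c) : b = c := by
  by_contra hbc
  have h1 : ({a, b, c} : Finset α) ⊆ l ∩ H := by
    intro y hy
    simp only [Finset.mem_insert, Finset.mem_singleton] at hy
    rcases hy with rfl | rfl | rfl <;> exact Finset.mem_inter.mpr ⟨by assumption, by assumption⟩
  have h2 := Finset.card_le_card h1
  rw [Finset.card_eq_three.mpr ⟨a, b, c, hab, hac, hbc, rfl⟩] at h2
  have := hH l hl
  omega

theorem partner_unique {L : Set (Finset α)} (hL : IsSteinerSystem 2 5 L) {H : Finset α}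
    (hH : Indep L H) {x a b b' : α}
    (hx : x ∉ H) (ha : a ∈ H) (hb : b ∈ H) (hb' : b' ∈ H) (hba : b ≠ a) (hba' : b' ≠ a)
    (h1 : Col L x a b) (h2 : Col L x a b') : b = b' := by
  have hxa : x ≠ a := fun h => hx (h ▸ ha)
  obtain ⟨l, hl, hxl, hal, hbl⟩ := h1
  obtain ⟨l', hl', hxl', hal', hbl'⟩ := h2
  have : l = l' := line_unique hL hxa hl hl' hxl hal hxl' hal'
  subst this
  exact eq_of_mem_secant hH hl ha hb hb' hal hbl hbl' hba.symm hba'.symm

/-- Five points off a hyperoval, pairwise joined by external lines, form a line. -/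
theorem line_of_clique {L : Set (Finset α)} (hα : Fintype.card α = 21)
    (hL : IsSteinerSystem 2 5 L) {H : Finset α} (h6 : H.card = 6) (hH : Indep L H)
    {P : Finset α} (hP5 : P.card = 5) (hPH : ∀ x ∈ P, x ∉ H)
    (hP : ∀ x ∈ P, ∀ y ∈ P, x ≠ y → ∀ l ∈ L, x ∈ l → y ∈ l → l ∩ H = ∅) : P ∈ L := by
  have h1 : 1 < P.card := by omega
  obtain ⟨x, hxP, y, hyP, hxy⟩ := Finset.one_lt_card.mp h1
  obtain ⟨A, hA, hxA, hyA⟩ := exists_line hL hxy
  have hAext := hP x hxP y hyP hxy A hA hxA hyA
  have hsub : P ⊆ A := by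
    intro z hzP
    by_contra hzA
    have hzx : z ≠ x := fun h => hzA (h ▸ hxA)
    have hzy : z ≠ y := fun h => hzA (h ▸ hyA)
    obtain ⟨B, hB, hxB, hzB⟩ := exists_line hL hzx.symm
    obtain ⟨C, hC, hyC, hzC⟩ := exists_line hL hzy.symm
    have hBext := hP x hxP z hzP hzx.symm B hB hxB hzB
    have hCext := hP y hyP z hzP hzy.symm C hC hyC hzC
    have hAB : A ≠ B := fun h => hzA (h ▸ hzB)
    have hAC : A ≠ C := fun h => hzA (h ▸ hzC)
    have hBC : B ≠ C := by
      intro h
      apply hAB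
      exact line_unique hL hxy hA hB hxA hyA hxB (h ▸ hyC)
    -- a fourth point
    have h3 : ({x, y, z} : Finset α).card < P.card := by
      rw [Finset.card_eq_three.mpr ⟨x, y, z, hxy, hzx.symm, hzy.symm, rfl⟩, hP5]
      norm_num
    obtain ⟨w, hwP, hw⟩ := Finset.exists_mem_notMem_of_card_lt_card h3
    simp only [Finset.mem_insert, Finset.mem_singleton, not_or] at hw
    obtain ⟨hwx, hwy, hwz⟩ := hw
    obtain ⟨D, hD, hwD, hxD⟩ := exists_line hL hwx
    obtain ⟨E, hE, hwE, hyE⟩ := exists_line hL hwy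
    obtain ⟨F, hF, hwF, hzF⟩ := exists_line hL hwz
    have hDext := hP w hwP x hxP hwx D hD hwD hxD
    have hEext := hP w hwP y hyP hwy E hE hwE hyE
    have hFext := hP w hwP z hzP hwz F hF hwF hzF
    have hxH := hPH x hxP
    have hyH := hPH y hyP
    have hzH := hPH z hzP
    have hD' := ext_cases hα hL h6 hH hxH (mem_extAt.mpr ⟨hA, hxA, hAext⟩)
      (mem_extAt.mpr ⟨hB, hxB, hBext⟩) (mem_extAt.mpr ⟨hD, hxD, hDext⟩) hAB
    have hE' := ext_cases hα hL h6 hH hyH (mem_extAt.mpr ⟨hA, hyA, hAext⟩)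
      (mem_extAt.mpr ⟨hC, hyC, hCext⟩) (mem_extAt.mpr ⟨hE, hyE, hEext⟩) hAC
    have hF' := ext_cases hα hL h6 hH hzH (mem_extAt.mpr ⟨hB, hzB, hBext⟩)
      (mem_extAt.mpr ⟨hC, hzC, hCext⟩) (mem_extAt.mpr ⟨hF, hzF, hFext⟩) hBC
    -- `w` lies on two of the three sides, hence is a vertex
    have key : ∀ {M N : Finset α} {u : α}, M ∈ L → N ∈ L → M ≠ N → u ∈ M → u ∈ N → w ∈ M →
        w ∈ N → w = u := by
      intro M N u hM hN hMN huM huN hwM hwN
      have h1 := inter_card_le_one hL hM hN hMN
      rw [Finset.card_le_one] at h1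
      exact h1 w (Finset.mem_inter.mpr ⟨hwM, hwN⟩) u (Finset.mem_inter.mpr ⟨huM, huN⟩)
    rcases hD' with rfl | rfl
    · -- w ∈ A
      rcases hE' with rfl | rfl
      · rcases hF' with rfl | rfl
        · exact hwx (key hA hB hAB hxA hxB hwD hwF)
        · exact hwy (key hA hC hAC hyA hyC hwD hwF)
      · exact hwy (key hA hC hAC hyA hyC hwD hwE)
    · -- w ∈ B
      rcases hE' with rfl | rfl
      · exact hwx (key hA hB hAB hxA hxB hwE hwD)
      · exact hwz (key hB hC hBC hzB hzC hwD hwE)
  have := Finset.eq_of_subset_of_card_le hsub (by rw [hL.1 A hA, hP5])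
  rw [this]
  exact hA

end Cfsg.Agent.Lib.Helper41_Plane4f
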