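import Mathlib
import Cfsg.Prelude.Def_Sporadic_a
import Cfsg.Agent.Lib.Helper6_Steiner
import Cfsg.Agent.Lib.Helper41_Plane4
import Cfsg.Agent.Lib.Helper41_Plane4b
import Cfsg.Agent.Lib.Helper41_Plane4f

set_option autoImplicit false
set_option linter.unusedSectionVars false
set_option linter.unusedVariables false

/-!
Two secants through a point off a hyperoval, and the relation used to extend a bijection between
hyperovals of two planes of order four (helper41).
-/

namespace Cfsg.Agent.Lib.Helper41_Plane4g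

open Cfsg Cfsg.Agent.Lib.Helper6_Steiner Cfsg.Agent.Lib.Helper41_Plane4
  Cfsg.Agent.Lib.Helper41_Plane4b Cfsg.Agent.Lib.Helper41_Plane4f
open scoped Classical

section one

variable {α : Type*} [Fintype α] [DecidableEq α]

theorem Col.symm23 {L : Set (Finset α)} {a b c : α} (h : Col L a b c) : Col L a c b := by
  obtain ⟨l, hl, h1, h2, h3⟩ := h
  exact ⟨l, hl, h1, h3, h2⟩

/-- Two disjoint secant pairs through a point off a hyperoval. -/
theorem exists_two_secants {L : Set (Finset α)} (hα : Fintype.card α = 21)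
    (hL : IsSteinerSystem 2 5 L) {H : Finset α} (h6 : H.card = 6) (hH : Indep L H) {x : α}
    (hx : x ∉ H) : ∃ a ∈ H, ∃ b ∈ H, ∃ c ∈ H, ∃ d ∈ H, a ≠ b ∧ c ≠ d ∧ a ≠ c ∧ a ≠ d ∧ b ≠ c ∧
      b ≠ d ∧ Col L x a b ∧ Col L x c d := by
  obtain ⟨a, ha⟩ : H.Nonempty := by
    rw [← Finset.card_pos, h6]
    norm_num
  obtain ⟨b, hb, hba, hab⟩ := exists_partner hα hL h6 hH hx ha
  have h3 : ({a, b} : Finset α).card < H.card := by
    rw [Finset.card_pair hba.symm, h6]
    norm_num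
  obtain ⟨c, hc, hcn⟩ := Finset.exists_mem_notMem_of_card_lt_card h3
  simp only [Finset.mem_insert, Finset.mem_singleton, not_or] at hcn
  obtain ⟨hca, hcb⟩ := hcn
  obtain ⟨d, hd, hdc, hcd⟩ := exists_partner hα hL h6 hH hx hc
  have hda : d ≠ a := by
    rintro rfl
    -- then `c` is a partner of `d = a`, so `c = b`
    exact hcb (partner_unique hL hH hx hd hc hb hca hba (Col.symm23 hcd) hab)
  have hdb : d ≠ b := by
    rintro rfl
    -- then `c` is a partner of `b`, as is `a`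
    exact hca (partner_unique hL hH hx hd hc ha hcb hba.symm (Col.symm23 hcd) (Col.symm23 hab))
  exact ⟨a, ha, b, hb, c, hc, d, hd, hba.symm, hdc.symm, fun h => hca h.symm, hda.symm,
    fun h => hcb h.symm, hdb.symm, hab, hcd⟩

/-- the secant through two points of a hyperoval determined by a collinearity -/
theorem mem_of_col {L : Set (Finset α)} (hL : IsSteinerSystem 2 5 L) {a b x : α} (hab : a ≠ b)
    {l : Finset α} (hl : l ∈ L) (hal : a ∈ l) (hbl : b ∈ l) (h : Col L x a b) : x ∈ l := by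
  obtain ⟨m, hm, hxm, ham, hbm⟩ := h
  rw [line_unique hL hab hl hm hal hbl ham hbm]
  exact hxm

/-- two secants with disjoint traces are distinct -/
theorem secant_ne {L : Set (Finset α)} {H : Finset α} (hH : Indep L H) {a b c : α}
    (ha : a ∈ H) (hb : b ∈ H) (hc : c ∈ H) (hab : a ≠ b) (hac : a ≠ c) (hbc : b ≠ c)
    {l m : Finset α} (hl : l ∈ L) (hal : a ∈ l) (hbl : b ∈ l) (hcm : c ∈ m) : l ≠ m := by
  rintro rfl
  exact hbc (eq_of_mem_secant hH hl ha hb hc hal hbl hcm hab hac)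

/-- A point off the hyperoval is determined by two of its secants. -/
theorem eq_of_two_secants {L : Set (Finset α)} (hL : IsSteinerSystem 2 5 L) {H : Finset α}
    (hH : Indep L H) {a b c d x y : α} (ha : a ∈ H) (hb : b ∈ H) (hc : c ∈ H)
    (hab : a ≠ b) (hcd : c ≠ d) (hac : a ≠ c) (hbc : b ≠ c)
    (h1 : Col L x a b) (h2 : Col L x c d) (h3 : Col L y a b) (h4 : Col L y c d) : x = y := by
  obtain ⟨l, hl, hal, hbl⟩ := exists_line hL hab
  obtain ⟨m, hm, hcm, hdm⟩ := exists_line hL hcd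
  have hlm : l ≠ m := secant_ne hH ha hb hc hab hac hbc hl hal hbl hcm
  have h5 := inter_card_le_one hL hl hm hlm
  rw [Finset.card_le_one] at h5
  exact h5 x (Finset.mem_inter.mpr ⟨mem_of_col hL hab hl hal hbl h1, mem_of_col hL hcd hm hcm hdm h2⟩)
    y (Finset.mem_inter.mpr ⟨mem_of_col hL hab hl hal hbl h3, mem_of_col hL hcd hm hcm hdm h4⟩)

end one

section two

variable {α β : Type*} [Fintype α] [DecidableEq α] [Fintype β] [DecidableEq β]

/-- two planes of order four with hyperovals and a bijection between the hyperovals -/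
structure Setup (L : Set (Finset α)) (L' : Set (Finset β)) (H : Finset α) (H' : Finset β)
    (σ : α → β) : Prop where
  hα : Fintype.card α = 21
  hL : IsSteinerSystem 2 5 L
  h6 : H.card = 6
  hH : Indep L H
  hβ : Fintype.card β = 21
  hL' : IsSteinerSystem 2 5 L'
  h6' : H'.card = 6
  hH' : Indep L' H'
  maps : ∀ a ∈ H, σ a ∈ H'
  inj : ∀ a ∈ H, ∀ b ∈ H, σ a = σ b → a = b

variable {L : Set (Finset α)} {L' : Set (Finset β)} {H : Finset α} {H' : Finset β} {σ : α → β}

theorem Setup.surj (S : Setup L L' H H' σ) : ∀ a' ∈ H', ∃ a ∈ H, σ a = a' := by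
  have h1 : H.image σ ⊆ H' := by
    intro y hy
    obtain ⟨a, ha, rfl⟩ := Finset.mem_image.mp hy
    exact S.maps a ha
  have h2 : (H.image σ).card = 6 := by
    rw [Finset.card_image_of_injOn, S.h6]
    intro a ha b hb hab
    exact S.inj a ha b hb hab
  have h3 := Finset.eq_of_subset_of_card_le h1 (by rw [h2, S.h6'])
  intro a' ha'
  rw [← h3] at ha'
  obtain ⟨a, ha, rfl⟩ := Finset.mem_image.mp ha'
  exact ⟨a, ha, rfl⟩

theorem Setup.ne (S : Setup L L' H H' σ) {a b : α} (ha : a ∈ H) (hb : b ∈ H) (hab : a ≠ b) :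
    σ a ≠ σ b := fun h => hab (S.inj a ha b hb h)

/-- the correspondence between points off the hyperovals -/
def Rel (L : Set (Finset α)) (L' : Set (Finset β)) (H : Finset α) (H' : Finset β) (σ : α → β)
    (x : α) (y : β) : Prop :=
  y ∉ H' ∧ ∀ a ∈ H, ∀ b ∈ H, a ≠ b → Col L x a b → Col L' y (σ a) (σ b)

/-- pulling a collinearity back along the correspondence -/
theorem Rel.back (S : Setup L L' H H' σ) {x : α} {y : β} (hx : x ∉ H) (hR : Rel L L' H H' σ x y)
    {a b : α} (ha : a ∈ H) (hb : b ∈ H) (hab : a ≠ b) (h : Col L' y (σ a) (σ b)) : Col L x a b := by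
  obtain ⟨b₁, hb₁, hb₁a, hcol⟩ := exists_partner S.hα S.hL S.h6 S.hH hx ha
  have h1 := hR.2 a ha b₁ hb₁ hb₁a.symm hcol
  have h2 := partner_unique S.hL' S.hH' hR.1 (S.maps a ha) (S.maps b hb) (S.maps b₁ hb₁)
    (S.ne hb ha hab.symm) (S.ne hb₁ ha hb₁a) h h1
  rw [S.inj b hb b₁ hb₁ h2]
  exact hcol

theorem Rel.unique (S : Setup L L' H H' σ) {x : α} {y₁ y₂ : β} (hx : x ∉ H)
    (h1 : Rel L L' H H' σ x y₁) (h2 : Rel L L' H H' σ x y₂) : y₁ = y₂ := by
  obtain ⟨a, ha, b, hb, c, hc, d, hd, hab, hcd, hac, had, hbc, hbd, hcol1, hcol2⟩ :=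
    exists_two_secants S.hα S.hL S.h6 S.hH hx
  exact eq_of_two_secants S.hL' S.hH' (S.maps a ha) (S.maps b hb) (S.maps c hc) (S.ne ha hb hab)
    (S.ne hc hd hcd) (S.ne ha hc hac) (S.ne hb hc hbc) (h1.2 a ha b hb hab hcol1)
    (h1.2 c hc d hd hcd hcol2) (h2.2 a ha b hb hab hcol1) (h2.2 c hc d hd hcd hcol2)

theorem Rel.inj (S : Setup L L' H H' σ) {x₁ x₂ : α} {y : β} (hx₁ : x₁ ∉ H) (hx₂ : x₂ ∉ H)
    (h1 : Rel L L' H H' σ x₁ y) (h2 : Rel L L' H H' σ x₂ y) : x₁ = x₂ := by
  obtain ⟨a, ha, b, hb, c, hc, d, hd, hab, hcd, hac, had, hbc, hbd, hcol1, hcol2⟩ :=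
    exists_two_secants S.hα S.hL S.h6 S.hH hx₁
  have h3 := h2.back S hx₂ ha hb hab (h1.2 a ha b hb hab hcol1)
  have h4 := h2.back S hx₂ hc hd hcd (h1.2 c hc d hd hcd hcol2)
  exact eq_of_two_secants S.hL S.hH ha hb hc hab hcd hac hbc hcol1 hcol2 h3 h4

end two

end Cfsg.Agent.Lib.Helper41_Plane4g
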