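import Mathlib
import Cfsg.Prelude.Def_Sporadic_a
import Cfsg.Agent.Lib.Helper6_Steiner
import Cfsg.Agent.Lib.Helper41_Plane4
import Cfsg.Agent.Lib.Helper41_Plane4b
import Cfsg.Agent.Lib.Helper41_Plane4f
import Cfsg.Agent.Lib.Helper41_Plane4g

set_option autoImplicit false
set_option linter.unusedSectionVars false
set_option linter.unusedVariables false

/-!
Extending a bijection between hyperovals of two planes of order four: existence of the
corresponding point (helper41).
-/

namespace Cfsg.Agent.Lib.Helper41_Plane4h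

open Cfsg Cfsg.Agent.Lib.Helper6_Steiner Cfsg.Agent.Lib.Helper41_Plane4
  Cfsg.Agent.Lib.Helper41_Plane4b Cfsg.Agent.Lib.Helper41_Plane4f Cfsg.Agent.Lib.Helper41_Plane4g
open scoped Classical

variable {α β : Type*} [Fintype α] [DecidableEq α] [Fintype β] [DecidableEq β]
variable {L : Set (Finset α)} {L' : Set (Finset β)} {H : Finset α} {H' : Finset β} {σ : α → β}

/-- Every point off the first hyperoval has a corresponding point off the second. -/
theorem Rel.exists (S : Setup L L' H H' σ) {x : α} (hx : x ∉ H) :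
    ∃ y, Rel L L' H H' σ x y := by
  obtain ⟨a, ha, b, hb, c, hc, d, hd, hab, hcd, hac, had, hbc, hbd, hcol1, hcol2⟩ :=
    exists_two_secants S.hα S.hL S.h6 S.hH hx
  obtain ⟨m1, hm1, ha1, hb1⟩ := exists_line S.hL' (S.ne ha hb hab)
  obtain ⟨m2, hm2, hc2, hd2⟩ := exists_line S.hL' (S.ne hc hd hcd)
  have hm12 : m1 ≠ m2 := secant_ne S.hH' (S.maps a ha) (S.maps b hb) (S.maps c hc)
    (S.ne ha hb hab) (S.ne ha hc hac) (S.ne hb hc hbc) hm1 ha1 hb1 hc2
  obtain ⟨y, hy⟩ := inter_nonempty S.hβ S.hL' hm1 hm2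
  rw [Finset.mem_inter] at hy
  have hyH : y ∉ H' := by
    intro hyH
    have h1 : y = σ a ∨ y = σ b := by
      by_cases h : y = σ a
      · exact Or.inl h
      · right
        exact (eq_of_mem_secant S.hH' hm1 (S.maps a ha) (S.maps b hb) hyH ha1 hb1 hy.1
          (S.ne ha hb hab) (Ne.symm h)).symm
    have h2 : y = σ c ∨ y = σ d := by
      by_cases h : y = σ c
      · exact Or.inl h
      · right
        exact (eq_of_mem_secant S.hH' hm2 (S.maps c hc) (S.maps d hd) hyH hc2 hd2 hy.2
          (S.ne hc hd hcd) (Ne.symm h)).symm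
    rcases h1 with h1 | h1 <;> rcases h2 with h2 | h2
    · exact S.ne ha hc hac (h1.symm.trans h2)
    · exact S.ne ha hd had (h1.symm.trans h2)
    · exact S.ne hb hc hbc (h1.symm.trans h2)
    · exact S.ne hb hd hbd (h1.symm.trans h2)
  have hcolab : Col L' y (σ a) (σ b) := ⟨m1, hm1, hy.1, ha1, hb1⟩
  have hcolcd : Col L' y (σ c) (σ d) := ⟨m2, hm2, hy.2, hc2, hd2⟩
  refine ⟨y, hyH, ?_⟩
  intro u hu v hv huv hcol
  by_cases hua : u = a
  · subst hua
    have : v = b := partner_unique S.hL S.hH hx hu hv hb huv.symm hab.symm hcol hcol1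
    subst this
    exact hcolab
  by_cases hub : u = b
  · subst hub
    have : v = a := partner_unique S.hL S.hH hx hu hv ha huv.symm hab hcol (Col.symm23 hcol1)
    subst this
    exact Col.symm23 hcolab
  by_cases huc : u = c
  · subst huc
    have : v = d := partner_unique S.hL S.hH hx hu hv hd huv.symm hcd.symm hcol hcol2
    subst this
    exact hcolcd
  by_cases hud : u = d
  · subst hud
    have : v = c := partner_unique S.hL S.hH hx hu hv hc huv.symm hcd hcol (Col.symm23 hcol2)
    subst this
    exact Col.symm23 hcolcd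
  -- now `u ∉ {a, b, c, d}`, hence also `v ∉ {a, b, c, d}`
  have hva : v ≠ a := by
    rintro rfl
    exact hub (partner_unique S.hL S.hH hx hv hu hb huv hab.symm (Col.symm23 hcol) hcol1)
  have hvb : v ≠ b := by
    rintro rfl
    exact hua (partner_unique S.hL S.hH hx hv hu ha huv hab (Col.symm23 hcol) (Col.symm23 hcol1))
  have hvc : v ≠ c := by
    rintro rfl
    exact hud (partner_unique S.hL S.hH hx hv hu hd huv hcd.symm (Col.symm23 hcol) hcol2)
  have hvd : v ≠ d := by
    rintro rfl
    exact huc (partner_unique S.hL S.hH hx hv hu hc huv hcd (Col.symm23 hcol) (Col.symm23 hcol2))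
  -- the partner of `σ u` as seen from `y`
  obtain ⟨w', hw', hw'u, hcol'⟩ := exists_partner S.hβ S.hL' S.h6' S.hH' hyH (S.maps u hu)
  obtain ⟨w, hw, rfl⟩ := S.surj w' hw'
  have hwu : w ≠ u := fun h => hw'u (by rw [h])
  have hwa : w ≠ a := by
    rintro rfl
    exact hub (S.inj u hu b hb (partner_unique S.hL' S.hH' hyH (S.maps w hw) (S.maps u hu)
      (S.maps b hb) (S.ne hu hw hua) (S.ne hb hw hab.symm) (Col.symm23 hcol') hcolab))
  have hwb : w ≠ b := by
    rintro rfl
    exact hua (S.inj u hu a ha (partner_unique S.hL' S.hH' hyH (S.maps w hw) (S.maps u hu)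
      (S.maps a ha) (S.ne hu hw hub) (S.ne ha hw hab) (Col.symm23 hcol') (Col.symm23 hcolab)))
  have hwc : w ≠ c := by
    rintro rfl
    exact hud (S.inj u hu d hd (partner_unique S.hL' S.hH' hyH (S.maps w hw) (S.maps u hu)
      (S.maps d hd) (S.ne hu hw huc) (S.ne hd hw hcd.symm) (Col.symm23 hcol') hcolcd))
  have hwd : w ≠ d := by
    rintro rfl
    exact huc (S.inj u hu c hc (partner_unique S.hL' S.hH' hyH (S.maps w hw) (S.maps u hu)
      (S.maps c hc) (S.ne hu hw hud) (S.ne hc hw hcd) (Col.symm23 hcol') (Col.symm23 hcolcd)))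
  -- counting in `H`
  have hT4 : ({a, b, c, d} : Finset α).card = 4 := by
    rw [Finset.card_insert_of_notMem, Finset.card_insert_of_notMem, Finset.card_pair hcd]
    · simp [hbc, hbd]
    · simp [hab, hac, had]
  have hTH : ({a, b, c, d} : Finset α) ⊆ H := by
    intro z hz
    simp only [Finset.mem_insert, Finset.mem_singleton] at hz
    rcases hz with rfl | rfl | rfl | rfl <;> assumption
  have hrest : (H \ {a, b, c, d}).card = 2 := by
    rw [Finset.card_sdiff_of_subset hTH, S.h6, hT4]
  have huv2 : ({u, v} : Finset α) = H \ {a, b, c, d} := by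
    apply Finset.eq_of_subset_of_card_le
    · intro z hz
      rw [Finset.mem_insert, Finset.mem_singleton] at hz
      rw [Finset.mem_sdiff]
      rcases hz with rfl | rfl
      · refine ⟨hu, ?_⟩
        simp [hua, hub, huc, hud]
      · refine ⟨hv, ?_⟩
        simp [hva, hvb, hvc, hvd]
    · rw [hrest, Finset.card_pair huv]
  have hwmem : w ∈ ({u, v} : Finset α) := by
    rw [huv2, Finset.mem_sdiff]
    refine ⟨hw, ?_⟩
    simp [hwa, hwb, hwc, hwd]
  rw [Finset.mem_insert, Finset.mem_singleton] at hwmem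
  rcases hwmem with h | h
  · exact absurd h hwu
  · rw [← h]
    exact hcol'

/-- the extension of `σ` to all points -/
noncomputable def ext (L : Set (Finset α)) (L' : Set (Finset β)) (H : Finset α) (H' : Finset β)
    (σ : α → β) (x : α) : β :=
  if x ∈ H then σ x else if h : ∃ y, Rel L L' H H' σ x y then Classical.choose h else σ x

theorem ext_of_mem {x : α} (hx : x ∈ H) : ext L L' H H' σ x = σ x := if_pos hx

theorem ext_rel (S : Setup L L' H H' σ) {x : α} (hx : x ∉ H) :
    Rel L L' H H' σ x (ext L L' H H' σ x) := by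
  rw [ext, if_neg hx, dif_pos (Rel.exists S hx)]
  exact Classical.choose_spec (Rel.exists S hx)

theorem ext_injective (S : Setup L L' H H' σ) : Function.Injective (ext L L' H H' σ) := by
  intro x₁ x₂ h
  by_cases h1 : x₁ ∈ H
  · by_cases h2 : x₂ ∈ H
    · rw [ext_of_mem h1, ext_of_mem h2] at h
      exact S.inj x₁ h1 x₂ h2 h
    · exfalso
      apply (ext_rel S h2).1
      rw [← h, ext_of_mem h1]
      exact S.maps x₁ h1
  · by_cases h2 : x₂ ∈ H
    · exfalso
      apply (ext_rel S h1).1
      rw [h, ext_of_mem h2]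
      exact S.maps x₂ h2
    · have r1 := ext_rel S h1
      have r2 := ext_rel S h2
      rw [h] at r1
      exact Rel.inj S h1 h2 r1 r2

end Cfsg.Agent.Lib.Helper41_Plane4h
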