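import Mathlib
import Cfsg.Prelude.Def_Sporadic_a
import Cfsg.Agent.Lib.Helper6_Steiner
import Cfsg.Agent.Lib.Helper41_Plane4
import Cfsg.Agent.Lib.Helper41_Plane4b
import Cfsg.Agent.Lib.Helper41_Plane4f
import Cfsg.Agent.Lib.Helper41_Plane4g
import Cfsg.Agent.Lib.Helper41_Plane4h

set_option autoImplicit false
set_option linter.unusedSectionVars false
set_option linter.unusedVariables false

/-!
A bijection between hyperovals of two planes of order four extends to an isomorphism of the planes;
an automorphism fixing a hyperoval pointwise is the identity (helper41).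
-/

namespace Cfsg.Agent.Lib.Helper41_Plane4i

open Cfsg Cfsg.Agent.Lib.Helper6_Steiner Cfsg.Agent.Lib.Helper41_Plane4
  Cfsg.Agent.Lib.Helper41_Plane4b Cfsg.Agent.Lib.Helper41_Plane4f Cfsg.Agent.Lib.Helper41_Plane4g
  Cfsg.Agent.Lib.Helper41_Plane4h
open scoped Classical

section two

variable {α β : Type*} [Fintype α] [DecidableEq α] [Fintype β] [DecidableEq β]
variable {L : Set (Finset α)} {L' : Set (Finset β)} {H : Finset α} {H' : Finset β} {σ : α → β}

/-- secants go to secants -/
theorem image_secant (S : Setup L L' H H' σ) {l : Finset α} (hl : l ∈ L)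
    (h2 : (l ∩ H).card = 2) : l.image (ext L L' H H' σ) ∈ L' := by
  obtain ⟨a, b, hab, htr⟩ := Finset.card_eq_two.mp h2
  have ha : a ∈ l ∩ H := by rw [htr]; simp
  have hb : b ∈ l ∩ H := by rw [htr]; simp
  rw [Finset.mem_inter] at ha hb
  obtain ⟨m, hm, ham, hbm⟩ := exists_line S.hL' (S.ne ha.2 hb.2 hab)
  have hsub : l.image (ext L L' H H' σ) ⊆ m := by
    intro p hp
    obtain ⟨z, hz, rfl⟩ := Finset.mem_image.mp hp
    by_cases hzH : z ∈ H
    · have : z ∈ l ∩ H := Finset.mem_inter.mpr ⟨hz, hzH⟩
      rw [htr, Finset.mem_insert, Finset.mem_singleton] at this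
      rw [ext_of_mem hzH]
      rcases this with rfl | rfl <;> assumption
    · have hr := (ext_rel S hzH).2 a ha.2 b hb.2 hab ⟨l, hl, hz, ha.1, hb.1⟩
      exact mem_of_col S.hL' (S.ne ha.2 hb.2 hab) hm ham hbm hr
  have hcard : (l.image (ext L L' H H' σ)).card = 5 := by
    rw [Finset.card_image_of_injective _ (ext_injective S), S.hL.1 l hl]
  rw [Finset.eq_of_subset_of_card_le hsub (by rw [hcard, S.hL'.1 m hm])]
  exact hm

/-- external lines go to external lines -/
theorem image_external (S : Setup L L' H H' σ) {l : Finset α} (hl : l ∈ L)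
    (h0 : l ∩ H = ∅) : l.image (ext L L' H H' σ) ∈ L' := by
  have hoff : ∀ z ∈ l, z ∉ H := by
    intro z hz hzH
    have : z ∈ l ∩ H := Finset.mem_inter.mpr ⟨hz, hzH⟩
    rw [h0] at this
    exact absurd this (Finset.notMem_empty z)
  apply line_of_clique S.hβ S.hL' S.h6' S.hH'
  · rw [Finset.card_image_of_injective _ (ext_injective S), S.hL.1 l hl]
  · intro p hp
    obtain ⟨z, hz, rfl⟩ := Finset.mem_image.mp hp
    exact (ext_rel S (hoff z hz)).1
  · intro p hp q hq hpq m hm hpm hqm
    obtain ⟨z₁, hz₁, rfl⟩ := Finset.mem_image.mp hp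
    obtain ⟨z₂, hz₂, rfl⟩ := Finset.mem_image.mp hq
    have hz12 : z₁ ≠ z₂ := fun h => hpq (by rw [h])
    rcases trace_cases S.hβ S.hL' S.h6' S.hH' hm with h2 | h2
    · exfalso
      obtain ⟨a', b', hab', htr⟩ := Finset.card_eq_two.mp h2
      have ha' : a' ∈ m ∩ H' := by rw [htr]; simp
      have hb' : b' ∈ m ∩ H' := by rw [htr]; simp
      rw [Finset.mem_inter] at ha' hb'
      obtain ⟨a, ha, rfl⟩ := S.surj a' ha'.2
      obtain ⟨b, hb, rfl⟩ := S.surj b' hb'.2
      have hab : a ≠ b := fun h => hab' (by rw [h])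
      have c1 := (ext_rel S (hoff z₁ hz₁)).back S (hoff z₁ hz₁) ha hb hab ⟨m, hm, hpm, ha'.1, hb'.1⟩
      have c2 := (ext_rel S (hoff z₂ hz₂)).back S (hoff z₂ hz₂) ha hb hab ⟨m, hm, hqm, ha'.1, hb'.1⟩
      obtain ⟨k, hk, hak, hbk⟩ := exists_line S.hL hab
      have hz1k := mem_of_col S.hL hab hk hak hbk c1
      have hz2k := mem_of_col S.hL hab hk hak hbk c2
      have : k = l := line_unique S.hL hz12 hk hl hz1k hz2k hz₁ hz₂
      exact hoff a (this ▸ hak) ha
    · exact h2

/-- all lines go to lines -/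
theorem image_line (S : Setup L L' H H' σ) {l : Finset α} (hl : l ∈ L) :
    l.image (ext L L' H H' σ) ∈ L' := by
  rcases trace_cases S.hα S.hL S.h6 S.hH hl with h | h
  · exact image_secant S hl h
  · exact image_external S hl h

theorem card_blocks_plane {L : Set (Finset α)} (hα : Fintype.card α = 21)
    (hL : IsSteinerSystem 2 5 L) : (blocks L).card = 21 := by
  have h := card_blocks_mul hL
  rw [hα] at h
  have h1 : Nat.choose 5 2 = 10 := by decide
  have h2 : Nat.choose 21 2 = 210 := by decide
  rw [h1, h2] at h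
  omega

/-- A bijection between hyperovals of two planes of order four extends to an isomorphism. -/
theorem exists_iso (S : Setup L L' H H' σ) :
    ∃ e : α ≃ β, (∀ a ∈ H, e a = σ a) ∧ (fun b : Finset α => b.image e) '' L = L' := by
  have hbij : Function.Bijective (ext L L' H H' σ) := by
    rw [Fintype.bijective_iff_injective_and_card]
    exact ⟨ext_injective S, by rw [S.hα, S.hβ]⟩
  refine ⟨Equiv.ofBijective _ hbij, fun a ha => ext_of_mem ha, ?_⟩
  have hcoe : ∀ b : Finset α, b.image (Equiv.ofBijective _ hbij) = b.image (ext L L' H H' σ) :=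
    fun b => rfl
  have himg : (blocks L).image (fun b : Finset α => b.image (ext L L' H H' σ)) = blocks L' := by
    apply Finset.eq_of_subset_of_card_le
    · intro m hm
      obtain ⟨l, hl, rfl⟩ := Finset.mem_image.mp hm
      exact mem_blocks.mpr (image_line S (mem_blocks.mp hl))
    · rw [Finset.card_image_of_injective _ (Finset.image_injective (ext_injective S)),
        card_blocks_plane S.hα S.hL, card_blocks_plane S.hβ S.hL']
  ext m
  constructor
  · rintro ⟨l, hl, rfl⟩
    exact image_line S hl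
  · intro hm
    have : m ∈ (blocks L).image (fun b : Finset α => b.image (ext L L' H H' σ)) := by
      rw [himg]
      exact mem_blocks.mpr hm
    obtain ⟨l, hl, rfl⟩ := Finset.mem_image.mp this
    exact ⟨l, mem_blocks.mp hl, rfl⟩

end two

section one

variable {α : Type*} [Fintype α] [DecidableEq α]

/-- An automorphism of a plane of order four fixing a hyperoval pointwise is the identity. -/
theorem eq_one_of_fix {L : Set (Finset α)} (hα : Fintype.card α = 21)
    (hL : IsSteinerSystem 2 5 L) {H : Finset α} (h6 : H.card = 6) (hH : Indep L H)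
    (g : Equiv.Perm α) (hg : (fun b : Finset α => b.image g) '' L = L) (hfix : ∀ a ∈ H, g a = a) :
    g = 1 := by
  have hline : ∀ l ∈ L, l.image g ∈ L := by
    intro l hl
    rw [← hg]
    exact ⟨l, hl, rfl⟩
  ext x
  rw [Equiv.Perm.one_apply]
  by_cases hx : x ∈ H
  · exact hfix x hx
  · obtain ⟨a, ha, b, hb, c, hc, d, hd, hab, hcd, hac, had, hbc, hbd, hcol1, hcol2⟩ :=
      exists_two_secants hα hL h6 hH hx
    have key : ∀ {u v : α}, u ∈ H → v ∈ H → u ≠ v → Col L x u v → Col L (g x) u v := by
      intro u v hu hv huv hcol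
      obtain ⟨l, hl, hxl, hul, hvl⟩ := hcol
      refine ⟨l.image g, hline l hl, Finset.mem_image_of_mem g hxl, ?_, ?_⟩
      · rw [← hfix u hu]
        exact Finset.mem_image_of_mem g hul
      · rw [← hfix v hv]
        exact Finset.mem_image_of_mem g hvl
    exact eq_of_two_secants hL hH ha hb hc hab hcd hac hbc (key ha hb hab hcol1)
      (key hc hd hcd hcol2) hcol1 hcol2

end one

end Cfsg.Agent.Lib.Helper41_Plane4i
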