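import Mathlib
import Cfsg.Prelude.Def_Sporadic_a
import Cfsg.Agent.Lib.Helper6_Steiner
import Cfsg.Agent.Lib.Helper41_Plane4
import Cfsg.Agent.Lib.Helper41_Plane4b
import Cfsg.Agent.Lib.Helper41_Plane4c
import Cfsg.Agent.Lib.Helper41_Plane4d
import Cfsg.Agent.Lib.Helper41_Plane4e

set_option autoImplicit false
set_option linter.unusedSectionVars false
set_option linter.unusedVariables false

/-!
Planes of order four: the number of hyperovals through an arc, and the 56 hyperovals meeting a given
hyperoval in an even number of points (helper41).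
-/

namespace Cfsg.Agent.Lib.Helper41_Plane4j

open Cfsg Cfsg.Agent.Lib.Helper6_Steiner Cfsg.Agent.Lib.Helper41_Plane4
  Cfsg.Agent.Lib.Helper41_Plane4b Cfsg.Agent.Lib.Helper41_Plane4c Cfsg.Agent.Lib.Helper41_Plane4d
  Cfsg.Agent.Lib.Helper41_Plane4e
open scoped Classical

variable {α : Type*} [Fintype α] [DecidableEq α]

/-- the hyperovals through a set -/
noncomputable def ovalsThrough (L : Set (Finset α)) (J : Finset α) : Finset (Finset α) :=
  (arcs L 6).filter (fun H => J ⊆ H)

theorem mem_ovalsThrough {L : Set (Finset α)} {J H : Finset α} :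
    H ∈ ovalsThrough L J ↔ (H.card = 6 ∧ Indep L H) ∧ J ⊆ H := by
  rw [ovalsThrough, Finset.mem_filter, mem_arcs]

/-- the recursion for the number of hyperovals through an arc -/
theorem ovalsThrough_rec {L : Set (Finset α)} {j : ℕ} (hj : j + 1 ≤ 6) {J : Finset α}
    (hJ : J ∈ arcs L j) (c : ℕ)
    (hc : ∀ J' ∈ arcs L (j + 1), (ovalsThrough L J').card = c) :
    (freePts L J).card * c = (6 - j) * (ovalsThrough L J).card := by
  have h := Finset.sum_card_bipartiteAbove_eq_sum_card_bipartiteBelow
    (s := (arcs L (j + 1)).filter (fun J' => J ⊆ J')) (t := ovalsThrough L J)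
    (fun (S T : Finset α) => S ⊆ T)
  have h1 : ∀ J' ∈ (arcs L (j + 1)).filter (fun J' => J ⊆ J'),
      (Finset.bipartiteAbove (fun (S T : Finset α) => S ⊆ T) (ovalsThrough L J) J').card = c := by
    intro J' hJ'
    rw [Finset.mem_filter] at hJ'
    rw [← hc J' hJ'.1]
    congr 1
    ext H
    rw [Finset.bipartiteAbove, Finset.mem_filter, mem_ovalsThrough, mem_ovalsThrough]
    constructor
    · rintro ⟨⟨h1, -⟩, h2⟩
      exact ⟨h1, h2⟩
    · rintro ⟨h1, h2⟩
      exact ⟨⟨h1, hJ'.2.trans h2⟩, h2⟩
  have h2 : ∀ H ∈ ovalsThrough L J,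
      (Finset.bipartiteBelow (fun (S T : Finset α) => S ⊆ T)
        ((arcs L (j + 1)).filter (fun J' => J ⊆ J')) H).card = 6 - j := by
    intro H hH
    rw [mem_ovalsThrough] at hH
    have h3 : Finset.bipartiteBelow (fun (S T : Finset α) => S ⊆ T)
        ((arcs L (j + 1)).filter (fun J' => J ⊆ J')) H =
        (Finset.powersetCard (j + 1) H).filter (fun s => J ⊆ s) := by
      ext S
      rw [Finset.bipartiteBelow, Finset.mem_filter, Finset.mem_filter, mem_arcs, Finset.mem_filter,
        Finset.mem_powersetCard]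
      constructor
      · rintro ⟨⟨⟨h4, -⟩, h5⟩, h6⟩
        exact ⟨⟨h6, h4⟩, h5⟩
      · rintro ⟨⟨h6, h4⟩, h5⟩
        exact ⟨⟨⟨h4, hH.1.2.mono h6⟩, h5⟩, h6⟩
    rw [h3, card_supersets J H hH.2 (j + 1) (by rw [(mem_arcs.mp hJ).1]; omega), hH.1.1,
      (mem_arcs.mp hJ).1]
    have : j + 1 - j = 1 := by omega
    rw [this, Nat.choose_one_right]
  rw [Finset.sum_congr rfl h1, Finset.sum_congr rfl h2, Finset.sum_const, Finset.sum_const,
    smul_eq_mul, smul_eq_mul, card_filter_superset_arcs hJ] at h
  rw [h, mul_comm]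

theorem card_ovalsThrough_four {L : Set (Finset α)} (hα : Fintype.card α = 21)
    (hL : IsSteinerSystem 2 5 L) {S : Finset α} (hS : S ∈ arcs L 4) :
    (ovalsThrough L S).card = 1 := by
  rw [mem_arcs] at hS
  rw [Finset.card_eq_one]
  refine ⟨S ∪ freePts L S, ?_⟩
  ext H
  rw [mem_ovalsThrough, Finset.mem_singleton]
  constructor
  · rintro ⟨⟨h6, hH⟩, hSH⟩
    exact eq_union_freePts hα hL hS.2 hS.1 hH h6 hSH
  · rintro rfl
    exact ⟨⟨card_union_freePts hα hL hS.2 hS.1, indep_union_freePts hα hL hS.2 hS.1⟩,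
      Finset.subset_union_left⟩

theorem card_ovalsThrough_three {L : Set (Finset α)} (hα : Fintype.card α = 21)
    (hL : IsSteinerSystem 2 5 L) {S : Finset α} (hS : S ∈ arcs L 3) :
    (ovalsThrough L S).card = 3 := by
  have h := ovalsThrough_rec (j := 3) (by norm_num) hS 1
    (fun J' hJ' => card_ovalsThrough_four hα hL hJ')
  rw [card_freePts_three hα hL (mem_arcs.mp hS).2 (mem_arcs.mp hS).1] at h
  omega

theorem card_ovalsThrough_two {L : Set (Finset α)} (hα : Fintype.card α = 21)
    (hL : IsSteinerSystem 2 5 L) {S : Finset α} (hS : S ∈ arcs L 2) :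
    (ovalsThrough L S).card = 12 := by
  have h := ovalsThrough_rec (j := 2) (by norm_num) hS 3
    (fun J' hJ' => card_ovalsThrough_three hα hL hJ')
  rw [card_freePts_two hα hL (mem_arcs.mp hS).2 (mem_arcs.mp hS).1] at h
  omega

theorem card_freePts_one {L : Set (Finset α)} (hα : Fintype.card α = 21)
    (hL : IsSteinerSystem 2 5 L) {S : Finset α} (h1 : S.card = 1) :
    (freePts L S).card = 20 := by
  have hS : Indep L S := indep_of_card_le_two L (by omega)
  have h2 := card_freePts_small hα hL hS (by omega)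
  have h3 := two_mul_card_secants hL hS
  rw [h1] at h2 h3
  omega

theorem card_ovalsThrough_one {L : Set (Finset α)} (hα : Fintype.card α = 21)
    (hL : IsSteinerSystem 2 5 L) {S : Finset α} (hS : S ∈ arcs L 1) :
    (ovalsThrough L S).card = 48 := by
  have h := ovalsThrough_rec (j := 1) (by norm_num) hS 12
    (fun J' hJ' => card_ovalsThrough_two hα hL hJ')
  rw [card_freePts_one hα hL (mem_arcs.mp hS).1] at h
  omega

/-- the intersection equations for a family of sets -/
theorem sum_choose_inter_family (F : Finset (Finset α)) {b : Finset α} (hb : b ∈ F) (j lam : ℕ)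
    (hlam : ∀ J : Finset α, J ⊆ b → J.card = j → (F.filter (fun c => J ⊆ c)).card = lam) :
    ∑ c ∈ F.erase b, Nat.choose (b ∩ c).card j = Nat.choose b.card j * (lam - 1) := by
  have h1 : ∀ c ∈ F.erase b, Nat.choose (b ∩ c).card j =
      ∑ J ∈ Finset.powersetCard j b, if J ⊆ c then 1 else 0 := by
    intro c _
    rw [Finset.sum_boole, ← Finset.card_powersetCard]
    simp only [Nat.cast_id]
    congr 1
    ext J
    simp only [Finset.mem_powersetCard, Finset.mem_filter, Finset.subset_inter_iff]
    tauto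
  rw [Finset.sum_congr rfl h1, Finset.sum_comm]
  have h2 : ∀ J ∈ Finset.powersetCard j b,
      (∑ c ∈ F.erase b, if J ⊆ c then 1 else 0) = lam - 1 := by
    intro J hJ
    rw [Finset.mem_powersetCard] at hJ
    rw [Finset.sum_boole]
    simp only [Nat.cast_id]
    have h3 : (F.erase b).filter (fun c => J ⊆ c) = (F.filter (fun c => J ⊆ c)).erase b := by
      ext c
      simp only [Finset.mem_filter, Finset.mem_erase]
      tauto
    rw [h3, Finset.card_erase_of_mem (Finset.mem_filter.2 ⟨hb, hJ.1⟩), hlam J hJ.1 hJ.2]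
  rw [Finset.sum_congr rfl h2, Finset.sum_const, smul_eq_mul, Finset.card_powersetCard]

/-- two distinct hyperovals share at most three points -/
theorem inter_card_le_three {L : Set (Finset α)} (hα : Fintype.card α = 21)
    (hL : IsSteinerSystem 2 5 L) {O O' : Finset α} (hO : O ∈ arcs L 6) (hO' : O' ∈ arcs L 6)
    (hne : O ≠ O') : (O ∩ O').card ≤ 3 := by
  by_contra h
  have h4 : 4 ≤ (O ∩ O').card := by omega
  obtain ⟨S, hS, hS4⟩ := Finset.exists_subset_card_eq h4
  rw [mem_arcs] at hO hO'
  have hSO : S ⊆ O := hS.trans Finset.inter_subset_left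
  have hSO' : S ⊆ O' := hS.trans Finset.inter_subset_right
  have hSi : Indep L S := hO.2.mono hSO
  exact hne ((eq_union_freePts hα hL hSi hS4 hO.2 hO.1 hSO).trans
    (eq_union_freePts hα hL hSi hS4 hO'.2 hO'.1 hSO').symm)

/-- the hyperovals meeting `O` evenly -/
noncomputable def evenClass (L : Set (Finset α)) (O : Finset α) : Finset (Finset α) :=
  (arcs L 6).filter (fun O' => Even (O ∩ O').card)

/-- a sum of a function of a value in `{0, 1, 2, 3}` -/
theorem sum_le_three {ι : Type*} (s : Finset ι) (g : ι → ℕ) (f : ℕ → ℕ) (hg : ∀ i ∈ s, g i ≤ 3) :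
    ∑ i ∈ s, f (g i) = f 0 * (s.filter (fun i => g i = 0)).card +
      f 1 * (s.filter (fun i => g i = 1)).card + f 2 * (s.filter (fun i => g i = 2)).card +
      f 3 * (s.filter (fun i => g i = 3)).card := by
  simp only [Finset.card_filter, Finset.mul_sum, ← Finset.sum_add_distrib]
  apply Finset.sum_congr rfl
  intro i hi
  have := hg i hi
  interval_cases h : g i <;> simp

/-- Exactly 56 hyperovals meet a given hyperoval in an even number of points. -/
theorem card_evenClass {L : Set (Finset α)} (hα : Fintype.card α = 21)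
    (hL : IsSteinerSystem 2 5 L) {O : Finset α} (hO : O ∈ arcs L 6) :
    (evenClass L O).card = 56 := by
  have hO6 : O.card = 6 := (mem_arcs.mp hO).1
  have hOi : Indep L O := (mem_arcs.mp hO).2
  have hle : ∀ c ∈ (arcs L 6).erase O, (O ∩ c).card ≤ 3 := by
    intro c hc
    rw [Finset.mem_erase] at hc
    exact inter_card_le_three hα hL hO hc.2 hc.1.symm
  have hlam : ∀ (j lam : ℕ), (∀ J' ∈ arcs L j, (ovalsThrough L J').card = lam) →
      ∀ J : Finset α, J ⊆ O → J.card = j → ((arcs L 6).filter (fun c => J ⊆ c)).card = lam := by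
    intro j lam h J hJO hJ
    exact h J (mem_arcs.mpr ⟨hJ, hOi.mono hJO⟩)
  have e1 := sum_choose_inter_family (arcs L 6) hO 1 48
    (hlam 1 48 (fun J' hJ' => card_ovalsThrough_one hα hL hJ'))
  have e2 := sum_choose_inter_family (arcs L 6) hO 2 12
    (hlam 2 12 (fun J' hJ' => card_ovalsThrough_two hα hL hJ'))
  have e3 := sum_choose_inter_family (arcs L 6) hO 3 3
    (hlam 3 3 (fun J' hJ' => card_ovalsThrough_three hα hL hJ'))
  rw [sum_le_three _ (fun c => (O ∩ c).card) (fun m => Nat.choose m 1) hle, hO6] at e1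
  rw [sum_le_three _ (fun c => (O ∩ c).card) (fun m => Nat.choose m 2) hle, hO6] at e2
  rw [sum_le_three _ (fun c => (O ∩ c).card) (fun m => Nat.choose m 3) hle, hO6] at e3
  have e0 : ∑ c ∈ (arcs L 6).erase O, (fun _ => 1) ((O ∩ c).card) = 167 := by
    rw [Finset.sum_const, smul_eq_mul, mul_one, Finset.card_erase_of_mem hO, card_arcs_six hα hL]
  rw [sum_le_three _ (fun c => (O ∩ c).card) (fun _ => 1) hle] at e0
  norm_num [Nat.choose] at e1 e2 e3
  simp only [one_mul] at e0
  -- the even class
  have hsplit : evenClass L O = insert O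
      ((((arcs L 6).erase O).filter (fun c => (O ∩ c).card = 0)) ∪
        (((arcs L 6).erase O).filter (fun c => (O ∩ c).card = 2))) := by
    ext c
    rw [evenClass, Finset.mem_filter, Finset.mem_insert, Finset.mem_union, Finset.mem_filter,
      Finset.mem_filter, Finset.mem_erase]
    constructor
    · rintro ⟨hc, hev⟩
      by_cases hcO : c = O
      · exact Or.inl hcO
      · right
        have h3 := inter_card_le_three hα hL hO hc (Ne.symm hcO)
        obtain ⟨k, hk⟩ := hev
        have : (O ∩ c).card = 0 ∨ (O ∩ c).card = 2 := by omega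
        rcases this with h | h
        · exact Or.inl ⟨⟨hcO, hc⟩, h⟩
        · exact Or.inr ⟨⟨hcO, hc⟩, h⟩
    · rintro (rfl | h | h)
      · refine ⟨hO, ?_⟩
        rw [Finset.inter_self, hO6]
        decide
      · exact ⟨h.1.2, by rw [h.2]; decide⟩
      · exact ⟨h.1.2, by rw [h.2]; decide⟩
  rw [hsplit, Finset.card_insert_of_notMem, Finset.card_union_of_disjoint]
  · omega
  · rw [Finset.disjoint_filter]
    intro c _ h1 h2
    omega
  · intro h
    rw [Finset.mem_union, Finset.mem_filter, Finset.mem_filter, Finset.mem_erase] at h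
    rcases h with h | h <;> exact h.1.1 rfl

end Cfsg.Agent.Lib.Helper41_Plane4j
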