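import Mathlib
import Cfsg.Prelude.Def_Sporadic_a
import Cfsg.Agent.Lib.Helper6_Steiner
import Cfsg.Agent.Lib.Helper41_Plane4b
import Cfsg.Agent.Lib.Helper41_Plane4e
import Cfsg.Agent.Lib.Helper41_Plane4j

set_option autoImplicit false
set_option linter.unusedSectionVars false
set_option linter.unusedVariables false

/-!
Steiner systems `S(3, 6, 22)`: the derived plane of order four at a point, and the 56 blocks off
the point as hyperovals of it (helper41).
-/

namespace Cfsg.Agent.Lib.Helper41_S22a

open Cfsg Cfsg.Agent.Lib.Helper6_Steiner Cfsg.Agent.Lib.Helper41_Plane4b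
  Cfsg.Agent.Lib.Helper41_Plane4e Cfsg.Agent.Lib.Helper41_Plane4j
open scoped Classical

variable {α : Type*} [Fintype α] [DecidableEq α]

/-- the points other than `p` -/
abbrev Pts (p : α) : Type _ := {x : α // x ≠ p}

/-- the inclusion of the remaining points -/
def emb (p : α) : Pts p ↪ α := Function.Embedding.subtype _

/-- add the point `p` back to a set of remaining points -/
def up (p : α) (l : Finset (Pts p)) : Finset α := insert p (l.map (emb p))

/-- remove the point `p` -/
def down (p : α) (b : Finset α) : Finset (Pts p) := b.subtype (fun x => x ≠ p)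

theorem mem_up {p : α} {l : Finset (Pts p)} {x : α} :
    x ∈ up p l ↔ x = p ∨ ∃ h : x ≠ p, (⟨x, h⟩ : Pts p) ∈ l := by
  rw [up, Finset.mem_insert, Finset.mem_map]
  constructor
  · rintro (h | ⟨y, hy, rfl⟩)
    · exact Or.inl h
    · exact Or.inr ⟨y.2, hy⟩
  · rintro (h | ⟨h, hx⟩)
    · exact Or.inl h
    · exact Or.inr ⟨⟨x, h⟩, hx, rfl⟩

theorem self_mem_up (p : α) (l : Finset (Pts p)) : p ∈ up p l := Finset.mem_insert_self _ _

theorem coe_mem_up {p : α} {l : Finset (Pts p)} (y : Pts p) : (y : α) ∈ up p l ↔ y ∈ l := by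
  rw [mem_up]
  constructor
  · rintro (h | ⟨h, hx⟩)
    · exact absurd h y.2
    · exact hx
  · intro h
    exact Or.inr ⟨y.2, h⟩

theorem mem_down {p : α} {b : Finset α} {y : Pts p} : y ∈ down p b ↔ (y : α) ∈ b :=
  Finset.mem_subtype

theorem down_up (p : α) (l : Finset (Pts p)) : down p (up p l) = l := by
  ext y
  rw [mem_down, coe_mem_up]

theorem up_down {p : α} {b : Finset α} (hp : p ∈ b) : up p (down p b) = b := by
  ext x
  rw [mem_up]
  constructor
  · rintro (rfl | ⟨h, hx⟩)
    · exact hp
    · exact mem_down.mp hx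
  · intro hx
    by_cases h : x = p
    · exact Or.inl h
    · exact Or.inr ⟨h, mem_down.mpr hx⟩

theorem card_up (p : α) (l : Finset (Pts p)) : (up p l).card = l.card + 1 := by
  rw [up, Finset.card_insert_of_notMem, Finset.card_map]
  intro h
  obtain ⟨y, -, hy⟩ := Finset.mem_map.mp h
  exact y.2 hy

theorem map_down {p : α} {b : Finset α} (hp : p ∉ b) : (down p b).map (emb p) = b := by
  apply Finset.subtype_map_of_mem
  intro x hx h
  exact hp (h ▸ hx)

theorem card_down {p : α} {b : Finset α} (hp : p ∉ b) : (down p b).card = b.card := by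
  rw [← Finset.card_map (emb p), map_down hp]

theorem up_subset_up {p : α} {s l : Finset (Pts p)} : up p s ⊆ up p l ↔ s ⊆ l := by
  constructor
  · intro h y hy
    rw [← coe_mem_up]
    exact h ((coe_mem_up y).mpr hy)
  · intro h x hx
    rw [mem_up] at hx ⊢
    rcases hx with h1 | ⟨h1, h2⟩
    · exact Or.inl h1
    · exact Or.inr ⟨h1, h h2⟩

theorem card_pts (hα : Fintype.card α = 22) (p : α) : Fintype.card (Pts p) = 21 := by
  have h := Fintype.card_congr (Equiv.optionSubtypeNe p)
  rw [Fintype.card_option, hα] at h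
  have h' : Fintype.card (Pts p) + 1 = 22 := h
  omega

/-- the derived design at `p` -/
def derived (B : Set (Finset α)) (p : α) : Set (Finset (Pts p)) := {l | up p l ∈ B}

theorem derived_steiner {B : Set (Finset α)} (hB : IsSteinerSystem 3 6 B) (p : α) :
    IsSteinerSystem 2 5 (derived B p) := by
  constructor
  · intro l hl
    have h := hB.1 _ hl
    rw [card_up] at h
    omega
  · intro s hs
    have h3 : (up p s).card = 3 := by rw [card_up, hs]
    obtain ⟨b, ⟨hb, hsb⟩, huniq⟩ := hB.2 _ h3
    have hpb : p ∈ b := hsb (self_mem_up p s)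
    refine ⟨down p b, ⟨?_, ?_⟩, ?_⟩
    · show up p (down p b) ∈ B
      rw [up_down hpb]
      exact hb
    · intro y hy
      rw [mem_down]
      exact hsb ((coe_mem_up y).mpr hy)
    · rintro l ⟨hl, hsl⟩
      have := huniq (up p l) ⟨hl, up_subset_up.mpr hsl⟩
      rw [← this, down_up]

/-- two distinct blocks of an `S(3, 6, 22)` meet in 0 or 2 points -/
theorem inter_card_block (hα : Fintype.card α = 22) {B : Set (Finset α)}
    (hB : IsSteinerSystem 3 6 B) {b c : Finset α} (hb : b ∈ B) (hc : c ∈ B) (hbc : b ≠ c) :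
    (b ∩ c).card = 0 ∨ (b ∩ c).card = 2 := by
  have hle : ∀ c ∈ (blocks B).erase b, (b ∩ c).card ≤ 3 := by
    intro c hc
    rw [Finset.mem_erase, mem_blocks] at hc
    exact (card_inter_lt hB hb hc.2 hc.1.symm).le
  have hlt : ∀ c ∈ (blocks B).erase b, (b ∩ c).card ≠ 3 := by
    intro c hc
    rw [Finset.mem_erase, mem_blocks] at hc
    exact (card_inter_lt hB hb hc.2 hc.1.symm).ne
  have l1 : ∀ J : Finset α, J ⊆ b → J.card = 1 → (blocksThrough B J).card = 21 := fun J _ hJ =>
    card_blocksThrough_eq hB (j := 1) (lam := 21) (by norm_num) (by rw [hα]; decide) (by decide) J hJ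
  have l2 : ∀ J : Finset α, J ⊆ b → J.card = 2 → (blocksThrough B J).card = 5 := fun J _ hJ =>
    card_blocksThrough_eq hB (j := 2) (lam := 5) (by norm_num) (by rw [hα]; decide) (by decide) J hJ
  have e1 := sum_choose_inter hB hb 1 21 l1
  have e2 := sum_choose_inter hB hb 2 5 l2
  rw [sum_le_three _ (fun c => (b ∩ c).card) (fun m => Nat.choose m 1) hle] at e1
  rw [sum_le_three _ (fun c => (b ∩ c).card) (fun m => Nat.choose m 2) hle] at e2
  have h3 : ((blocks B).erase b).filter (fun c => (b ∩ c).card = 3) = ∅ := by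
    rw [Finset.filter_eq_empty_iff]
    intro c hc
    exact hlt c hc
  rw [h3, Finset.card_empty] at e1 e2
  norm_num [Nat.choose] at e1 e2
  have h1 : ((blocks B).erase b).filter (fun c => (b ∩ c).card = 1) = ∅ := by
    rw [← Finset.card_eq_zero]
    omega
  have hcm : c ∈ (blocks B).erase b := Finset.mem_erase.mpr ⟨hbc.symm, mem_blocks.mpr hc⟩
  have hc1 : (b ∩ c).card ≠ 1 := by
    intro h
    have : c ∈ ((blocks B).erase b).filter (fun c => (b ∩ c).card = 1) :=
      Finset.mem_filter.mpr ⟨hcm, h⟩
    rw [h1] at this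
    exact absurd this (Finset.notMem_empty c)
  have := hle c hcm
  have := hlt c hcm
  omega

/-- the blocks off `p`, as sets of remaining points -/
noncomputable def ovals (B : Set (Finset α)) (p : α) : Finset (Finset (Pts p)) :=
  ((blocks B).filter (fun b => p ∉ b)).image (down p)

theorem mem_ovals {B : Set (Finset α)} {p : α} {O : Finset (Pts p)} :
    O ∈ ovals B p ↔ ∃ b ∈ B, p ∉ b ∧ down p b = O := by
  rw [ovals, Finset.mem_image]
  constructor
  · rintro ⟨b, hb, rfl⟩
    rw [Finset.mem_filter, mem_blocks] at hb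
    exact ⟨b, hb.1, hb.2, rfl⟩
  · rintro ⟨b, hb, hp, rfl⟩
    exact ⟨b, Finset.mem_filter.mpr ⟨mem_blocks.mpr hb, hp⟩, rfl⟩

theorem down_inter (p : α) (b c : Finset α) : down p (b ∩ c) = down p b ∩ down p c := by
  ext y
  simp only [mem_down, Finset.mem_inter]

theorem ovals_subset_arcs {B : Set (Finset α)} (hB : IsSteinerSystem 3 6 B) (p : α) :
    ovals B p ⊆ arcs (derived B p) 6 := by
  intro O hO
  obtain ⟨b, hb, hp, rfl⟩ := mem_ovals.mp hO
  rw [mem_arcs]
  refine ⟨by rw [card_down hp, hB.1 b hb], ?_⟩
  intro l hl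
  have hne : up p l ≠ b := fun h => hp (h ▸ self_mem_up p l)
  have h1 := card_inter_lt hB hl hb hne
  have h2 : ((l ∩ down p b).map (emb p)) ⊆ up p l ∩ b := by
    intro x hx
    obtain ⟨y, hy, rfl⟩ := Finset.mem_map.mp hx
    rw [Finset.mem_inter] at hy
    exact Finset.mem_inter.mpr ⟨(coe_mem_up y).mpr hy.1, mem_down.mp hy.2⟩
  have h3 := Finset.card_le_card h2
  rw [Finset.card_map] at h3
  omega

theorem card_ovals (hα : Fintype.card α = 22) {B : Set (Finset α)} (hB : IsSteinerSystem 3 6 B)
    (p : α) : (ovals B p).card = 56 := by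
  rw [ovals, Finset.card_image_of_injOn]
  · have h1 : (blocks B).card = 77 := by
      have h := card_blocks_mul hB
      rw [hα] at h
      have e1 : Nat.choose 6 3 = 20 := by decide
      have e2 : Nat.choose 22 3 = 1540 := by decide
      rw [e1, e2] at h
      omega
    have h2 : (blocksThrough B {p}).card = 21 :=
      card_blocksThrough_eq hB (j := 1) (lam := 21) (by norm_num) (by rw [hα]; decide) (by decide)
        {p} (Finset.card_singleton p)
    have h3 := Finset.card_filter_add_card_filter_not (s := blocks B) (fun b => p ∈ b)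
    have h4 : (blocks B).filter (fun b => p ∈ b) = blocksThrough B {p} := by
      ext b
      rw [Finset.mem_filter, mem_blocksThrough, mem_blocks, Finset.singleton_subset_iff]
    rw [h4, h1, h2] at h3
    omega
  · intro b hb c hc hbc
    rw [Finset.mem_coe, Finset.mem_filter] at hb hc
    have : (down p b).map (emb p) = (down p c).map (emb p) := by rw [hbc]
    rw [map_down hb.2, map_down hc.2] at this
    exact this

/-- the blocks off `p` form the even class of any one of them -/
theorem ovals_eq_evenClass (hα : Fintype.card α = 22) {B : Set (Finset α)}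
    (hB : IsSteinerSystem 3 6 B) (p : α) {O : Finset (Pts p)} (hO : O ∈ ovals B p) :
    ovals B p = evenClass (derived B p) O := by
  apply Finset.eq_of_subset_of_card_le
  · intro O' hO'
    rw [evenClass, Finset.mem_filter]
    refine ⟨ovals_subset_arcs hB p hO', ?_⟩
    obtain ⟨b, hb, hpb, rfl⟩ := mem_ovals.mp hO
    obtain ⟨c, hc, hpc, rfl⟩ := mem_ovals.mp hO'
    rw [← down_inter, card_down (fun h => hpb (Finset.mem_inter.mp h).1)]
    by_cases hbc : b = c
    · rw [hbc, Finset.inter_self, hB.1 c hc]
      decide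
    · rcases inter_card_block hα hB hb hc hbc with h | h <;> rw [h] <;> decide
  · rw [card_ovals hα hB p, card_evenClass (card_pts hα p) (derived_steiner hB p)
      (ovals_subset_arcs hB p hO)]

end Cfsg.Agent.Lib.Helper41_S22a
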