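import Mathlib
import Cfsg.Prelude.Def_Sporadic_a
import Cfsg.Agent.Lib.Helper6_Steiner
import Cfsg.Agent.Lib.Helper41_Plane4b
import Cfsg.Agent.Lib.Helper41_Plane4e
import Cfsg.Agent.Lib.Helper41_Plane4g
import Cfsg.Agent.Lib.Helper41_Plane4i
import Cfsg.Agent.Lib.Helper41_Plane4j
import Cfsg.Agent.Lib.Helper41_S22a

set_option autoImplicit false
set_option linter.unusedSectionVars false
set_option linter.unusedVariables false

/-!
Uniqueness of the Steiner system `S(3, 6, 22)` (helper41).
-/

namespace Cfsg.Agent.Lib.Helper41_S22b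

open Cfsg Cfsg.Agent.Lib.Helper6_Steiner Cfsg.Agent.Lib.Helper41_Plane4b
  Cfsg.Agent.Lib.Helper41_Plane4e Cfsg.Agent.Lib.Helper41_Plane4g Cfsg.Agent.Lib.Helper41_Plane4i
  Cfsg.Agent.Lib.Helper41_Plane4j Cfsg.Agent.Lib.Helper41_S22a
open scoped Classical

section iso

variable {α β : Type*} [Fintype α] [DecidableEq α] [Fintype β] [DecidableEq β]

/-- an isomorphism of planes carries the even class of a hyperoval to the even class of its image -/
theorem image_mem_evenClass {L : Set (Finset α)} {L' : Set (Finset β)} (e : α ≃ β)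
    (he : (fun b : Finset α => b.image e) '' L = L') {O H : Finset α} (hH : H ∈ evenClass L O) :
    H.image e ∈ evenClass L' (O.image e) := by
  rw [evenClass, Finset.mem_filter, mem_arcs] at hH ⊢
  obtain ⟨⟨h6, hHi⟩, hev⟩ := hH
  refine ⟨⟨by rw [Finset.card_image_of_injective _ e.injective, h6], ?_⟩, ?_⟩
  · intro l' hl'
    rw [← he] at hl'
    obtain ⟨l, hl, rfl⟩ := hl'
    show (l.image e ∩ H.image e).card ≤ 2
    rw [← Finset.image_inter _ _ e.injective, Finset.card_image_of_injective _ e.injective]
    exact hHi l hl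
  · rw [← Finset.image_inter _ _ e.injective, Finset.card_image_of_injective _ e.injective]
    exact hev

/-- a block-preserving bijection between designs with equally many blocks is an isomorphism -/
theorem image_eq_of_forall {B : Set (Finset α)} {B' : Set (Finset β)} (e : α ≃ β)
    (h : ∀ b ∈ B, b.image e ∈ B') (hcard : (blocks B).card = (blocks B').card) :
    (fun b : Finset α => b.image e) '' B = B' := by
  have himg : (blocks B).image (fun b : Finset α => b.image e) = blocks B' := by
    apply Finset.eq_of_subset_of_card_le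
    · intro m hm
      obtain ⟨l, hl, rfl⟩ := Finset.mem_image.mp hm
      exact mem_blocks.mpr (h l (mem_blocks.mp hl))
    · rw [Finset.card_image_of_injective _ (Finset.image_injective e.injective), hcard]
  ext m
  constructor
  · rintro ⟨l, hl, rfl⟩
    exact h l hl
  · intro hm
    have : m ∈ (blocks B).image (fun b : Finset α => b.image e) := by
      rw [himg]
      exact mem_blocks.mpr hm
    obtain ⟨l, hl, rfl⟩ := Finset.mem_image.mp this
    exact ⟨l, mem_blocks.mp hl, rfl⟩

/-- extend a bijection of the remaining points by `p ↦ p'` -/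
def extend (p : α) (p' : β) (e : Pts p ≃ Pts p') : α ≃ β :=
  (Equiv.optionSubtypeNe p).symm.trans ((Equiv.optionCongr e).trans (Equiv.optionSubtypeNe p'))

theorem extend_self (p : α) (p' : β) (e : Pts p ≃ Pts p') : extend p p' e p = p' := by
  simp [extend]

theorem extend_coe (p : α) (p' : β) (e : Pts p ≃ Pts p') (y : Pts p) :
    extend p p' e (y : α) = (e y : β) := by
  simp [extend, Equiv.optionSubtypeNe_symm_of_ne y.2]

theorem image_extend_up (p : α) (p' : β) (e : Pts p ≃ Pts p') (l : Finset (Pts p)) :
    (up p l).image (extend p p' e) = up p' (l.image e) := by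
  ext x
  rw [Finset.mem_image, mem_up]
  constructor
  · rintro ⟨z, hz, rfl⟩
    rw [mem_up] at hz
    rcases hz with rfl | ⟨h, hz⟩
    · exact Or.inl (extend_self _ p' e)
    · right
      have := extend_coe p p' e ⟨z, h⟩
      refine ⟨by rw [this]; exact (e ⟨z, h⟩).2, ?_⟩
      rw [Finset.mem_image]
      exact ⟨⟨z, h⟩, hz, Subtype.ext this.symm⟩
  · rintro (rfl | ⟨h, hx⟩)
    · exact ⟨p, self_mem_up p l, extend_self p _ e⟩
    · obtain ⟨y, hy, hyx⟩ := Finset.mem_image.mp hx
      refine ⟨(y : α), (coe_mem_up y).mpr hy, ?_⟩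
      rw [extend_coe, hyx]

theorem image_extend_off (p : α) (p' : β) (e : Pts p ≃ Pts p') {b : Finset α} (hp : p ∉ b) :
    b.image (extend p p' e) = ((down p b).image e).map (emb p') := by
  ext x
  rw [Finset.mem_image, Finset.mem_map]
  constructor
  · rintro ⟨z, hz, rfl⟩
    have hzp : z ≠ p := fun h => hp (h ▸ hz)
    refine ⟨e ⟨z, hzp⟩, Finset.mem_image_of_mem e (mem_down.mpr hz), ?_⟩
    exact (extend_coe p p' e ⟨z, hzp⟩).symm
  · rintro ⟨y', hy', rfl⟩
    obtain ⟨y, hy, rfl⟩ := Finset.mem_image.mp hy'
    exact ⟨(y : α), mem_down.mp hy, extend_coe p p' e y⟩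

end iso

section main

variable {α β : Type*} [Fintype α] [DecidableEq α] [Fintype β] [DecidableEq β]

theorem card_blocks_22 (hα : Fintype.card α = 22) {B : Set (Finset α)}
    (hB : IsSteinerSystem 3 6 B) : (blocks B).card = 77 := by
  have h := card_blocks_mul hB
  rw [hα] at h
  have e1 : Nat.choose 6 3 = 20 := by decide
  have e2 : Nat.choose 22 3 = 1540 := by decide
  rw [e1, e2] at h
  omega

/-- Any two Steiner systems `S(3, 6, 22)` are isomorphic. -/
theorem steiner22_unique (hα : Fintype.card α = 22) (hβ : Fintype.card β = 22)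
    {B : Set (Finset α)} {B' : Set (Finset β)} (hB : IsSteinerSystem 3 6 B)
    (hB' : IsSteinerSystem 3 6 B') : ∃ e : α ≃ β, (fun b : Finset α => b.image e) '' B = B' := by
  obtain ⟨p⟩ : Nonempty α := by
    rw [← Fintype.card_pos_iff, hα]
    norm_num
  obtain ⟨p'⟩ : Nonempty β := by
    rw [← Fintype.card_pos_iff, hβ]
    norm_num
  obtain ⟨O, hO⟩ : (ovals B p).Nonempty := by
    rw [← Finset.card_pos, card_ovals hα hB p]
    norm_num
  obtain ⟨O', hO'⟩ : (ovals B' p').Nonempty := by
    rw [← Finset.card_pos, card_ovals hβ hB' p']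
    norm_num
  have hOa := mem_arcs.mp (ovals_subset_arcs hB p hO)
  have hOa' := mem_arcs.mp (ovals_subset_arcs hB' p' hO')
  obtain ⟨y₀, hy₀⟩ : O'.Nonempty := by
    rw [← Finset.card_pos, hOa'.1]
    norm_num
  let eqv : ↥O ≃ ↥O' := Finset.equivOfCardEq (hOa.1.trans hOa'.1.symm)
  let σ : Pts p → Pts p' := fun x => if h : x ∈ O then ((eqv ⟨x, h⟩ : ↥O') : Pts p') else y₀
  have hσ : ∀ (x : Pts p) (h : x ∈ O), σ x = ((eqv ⟨x, h⟩ : ↥O') : Pts p') := fun x h => dif_pos h
  have S : Setup (derived B p) (derived B' p') O O' σ :=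
    { hα := card_pts hα p, hL := derived_steiner hB p, h6 := hOa.1, hH := hOa.2,
      hβ := card_pts hβ p', hL' := derived_steiner hB' p', h6' := hOa'.1, hH' := hOa'.2,
      maps := by
        intro a ha
        rw [hσ a ha]
        exact (eqv ⟨a, ha⟩).2
      inj := by
        intro a ha b hb hab
        rw [hσ a ha, hσ b hb] at hab
        have := eqv.injective (Subtype.ext hab)
        exact congrArg Subtype.val this }
  obtain ⟨e, he1, he2⟩ := exists_iso S
  have hOimg : O.image e = O' := by
    apply Finset.eq_of_subset_of_card_le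
    · intro y hy
      obtain ⟨a, ha, rfl⟩ := Finset.mem_image.mp hy
      rw [he1 a ha]
      exact S.maps a ha
    · rw [Finset.card_image_of_injective _ e.injective, hOa.1, hOa'.1]
  refine ⟨extend p p' e, ?_⟩
  apply image_eq_of_forall
  · intro b hb
    by_cases hpb : p ∈ b
    · have h1 : down p b ∈ derived B p := by
        show up p (down p b) ∈ B
        rw [up_down hpb]
        exact hb
      have h2 : (down p b).image e ∈ derived B' p' := by
        rw [← he2]
        exact ⟨down p b, h1, rfl⟩
      rw [← up_down hpb, image_extend_up]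
      exact h2
    · have h1 : down p b ∈ ovals B p := mem_ovals.mpr ⟨b, hb, hpb, rfl⟩
      rw [ovals_eq_evenClass hα hB p hO] at h1
      have h2 := image_mem_evenClass e he2 h1
      rw [hOimg, ← ovals_eq_evenClass hβ hB' p' hO'] at h2
      obtain ⟨c, hc, hpc, hdc⟩ := mem_ovals.mp h2
      rw [image_extend_off p p' e hpb, ← hdc, map_down hpc]
      exact hc
  · rw [card_blocks_22 hα hB, card_blocks_22 hβ hB']

end main

end Cfsg.Agent.Lib.Helper41_S22b
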