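import Mathlib
import Cfsg.Prelude.Def_Sporadic_a
import Cfsg.Agent.Lib.Helper6_Steiner
import Cfsg.Agent.Lib.Helper41_Plane4b
import Cfsg.Agent.Lib.Helper41_Plane4e
import Cfsg.Agent.Lib.Helper41_Plane4g
import Cfsg.Agent.Lib.Helper41_Plane4i
import Cfsg.Agent.Lib.Helper41_Plane4j
import Cfsg.Agent.Lib.Helper41_S22a
import Cfsg.Agent.Lib.Helper41_S22b

set_option autoImplicit false
set_option linter.unusedSectionVars false
set_option linter.unusedVariables false

/-!
Automorphisms of a Steiner system `S(3, 6, 22)`: an automorphism is determined by, and can be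
prescribed on, a point `p` and the six points of a block off `p` (helper41).
-/

namespace Cfsg.Agent.Lib.Helper41_S22c

open Cfsg Cfsg.Agent.Lib.Helper6_Steiner Cfsg.Agent.Lib.Helper41_Plane4b
  Cfsg.Agent.Lib.Helper41_Plane4e Cfsg.Agent.Lib.Helper41_Plane4g Cfsg.Agent.Lib.Helper41_Plane4i
  Cfsg.Agent.Lib.Helper41_Plane4j Cfsg.Agent.Lib.Helper41_S22a Cfsg.Agent.Lib.Helper41_S22b
open scoped Classical Pointwise

section aut

variable {α : Type*} [DecidableEq α]

theorem mem_aut_iff (L : Set (Finset α)) (g : Equiv.Perm α) :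
    g ∈ setSystemAut L ↔ (fun b : Finset α => b.image g) '' L = L := by
  rw [setSystemAut, MulAction.mem_stabilizer_iff]
  have : g • L = (fun b : Finset α => b.image g) '' L := by
    rw [← Set.image_smul]
    rfl
  rw [this]

/-- an automorphism maps members to members -/
theorem image_mem_of_mem_aut {L : Set (Finset α)} {g : Equiv.Perm α} (hg : g ∈ setSystemAut L)
    {b : Finset α} (hb : b ∈ L) : b.image g ∈ L := by
  have h := (mem_aut_iff L g).mp hg
  rw [← h]
  exact ⟨b, hb, rfl⟩

theorem image_image_inv (g : Equiv.Perm α) (b : Finset α) : (b.image ⇑g⁻¹).image g = b := by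
  rw [Finset.image_image]
  have : (⇑g ∘ ⇑g⁻¹) = id := by
    funext x
    simp
  rw [this, Finset.image_id]

theorem image_inv_image (g : Equiv.Perm α) (b : Finset α) : (b.image g).image ⇑g⁻¹ = b := by
  rw [Finset.image_image]
  have : (⇑g⁻¹ ∘ ⇑g) = id := by
    funext x
    simp
  rw [this, Finset.image_id]

/-- a permutation which, with its inverse, maps members to members is an automorphism -/
theorem mem_aut_of_forall {L : Set (Finset α)} {g : Equiv.Perm α}
    (h1 : ∀ b ∈ L, b.image g ∈ L) (h2 : ∀ b ∈ L, b.image ⇑g⁻¹ ∈ L) : g ∈ setSystemAut L := by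
  rw [mem_aut_iff]
  ext m
  constructor
  · rintro ⟨b, hb, rfl⟩
    exact h1 b hb
  · intro hm
    exact ⟨m.image ⇑g⁻¹, h2 m hm, image_image_inv g m⟩

/-- on a finite type, a permutation mapping members to members is an automorphism -/
theorem mem_aut_of_forall_fin [Fintype α] {L : Set (Finset α)} {g : Equiv.Perm α}
    (h1 : ∀ b ∈ L, b.image g ∈ L) : g ∈ setSystemAut L := by
  rw [mem_aut_iff]
  apply Set.eq_of_subset_of_ncard_le
  · rintro m ⟨b, hb, rfl⟩
    exact h1 b hb
  · rw [Set.ncard_image_of_injective _ (Finset.image_injective g.injective)]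
  · exact Set.toFinite L

end aut

section restrict

variable {α : Type*} [Fintype α] [DecidableEq α]

/-- the permutation of the remaining points induced by a permutation fixing `p` -/
def restrict (p : α) (g : Equiv.Perm α) (hg : g p = p) : Equiv.Perm (Pts p) :=
  g.subtypePerm (fun x => by
    constructor
    · intro h hx
      exact h (hx ▸ hg)
    · intro h hx
      exact h (g.injective (hx.trans hg.symm)))

theorem restrict_apply (p : α) (g : Equiv.Perm α) (hg : g p = p) (y : Pts p) :
    ((restrict p g hg y : Pts p) : α) = g y := rfl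

theorem up_image_restrict (p : α) (g : Equiv.Perm α) (hg : g p = p) (l : Finset (Pts p)) :
    up p (l.image (restrict p g hg)) = (up p l).image g := by
  ext x
  rw [mem_up, Finset.mem_image]
  constructor
  · rintro (rfl | ⟨h, hx⟩)
    · exact ⟨x, self_mem_up x l, hg⟩
    · obtain ⟨y, hy, hyx⟩ := Finset.mem_image.mp hx
      refine ⟨(y : α), (coe_mem_up y).mpr hy, ?_⟩
      rw [← restrict_apply p g hg y, hyx]
  · rintro ⟨z, hz, rfl⟩
    rw [mem_up] at hz
    rcases hz with rfl | ⟨h, hz⟩
    · exact Or.inl hg
    · right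
      have hne : g z ≠ p := fun hx => h (g.injective (hx.trans hg.symm))
      refine ⟨hne, ?_⟩
      rw [Finset.mem_image]
      exact ⟨⟨z, h⟩, hz, Subtype.ext rfl⟩

theorem restrict_mem_aut {B : Set (Finset α)} (p : α) (g : Equiv.Perm α) (hg : g p = p)
    (hgB : g ∈ setSystemAut B) : restrict p g hg ∈ setSystemAut (derived B p) := by
  apply mem_aut_of_forall_fin
  intro l hl
  show up p (l.image (restrict p g hg)) ∈ B
  rw [up_image_restrict]
  exact image_mem_of_mem_aut hgB hl

/-- an automorphism of an `S(3, 6, 22)` fixing a point `p` and all points of a block off `p`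
is the identity -/
theorem eq_one_of_fix22 (hα : Fintype.card α = 22) {B : Set (Finset α)}
    (hB : IsSteinerSystem 3 6 B) {p : α} {b : Finset α} (hb : b ∈ B) (hpb : p ∉ b)
    (g : Equiv.Perm α) (hgB : g ∈ setSystemAut B) (hg : g p = p) (hfix : ∀ a ∈ b, g a = a) :
    g = 1 := by
  have hO : down p b ∈ ovals B p := mem_ovals.mpr ⟨b, hb, hpb, rfl⟩
  have hOa := mem_arcs.mp (ovals_subset_arcs hB p hO)
  have h1 := eq_one_of_fix (card_pts hα p) (derived_steiner hB p) hOa.1 hOa.2
    (restrict p g hg) ((mem_aut_iff _ _).mp (restrict_mem_aut p g hg hgB)) (by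
      intro a ha
      apply Subtype.ext
      rw [restrict_apply]
      exact hfix _ (mem_down.mp ha))
  ext x
  rw [Equiv.Perm.one_apply]
  by_cases hx : x = p
  · rw [hx, hg]
  · have := congrArg (fun f : Equiv.Perm (Pts p) => ((f ⟨x, hx⟩ : Pts p) : α)) h1
    simpa [restrict_apply] using this

end restrict

section exist

variable {α β : Type*} [Fintype α] [DecidableEq α] [Fintype β] [DecidableEq β]

/-- an isomorphism between two Steiner systems `S(3, 6, 22)` can be prescribed on a point and on
the six points of a block off it -/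
theorem exists_iso22 (hα : Fintype.card α = 22) (hβ : Fintype.card β = 22)
    {B : Set (Finset α)} {B' : Set (Finset β)} (hB : IsSteinerSystem 3 6 B)
    (hB' : IsSteinerSystem 3 6 B') {p : α} {p' : β} {b : Finset α} {b' : Finset β}
    (hb : b ∈ B) (hpb : p ∉ b) (hb' : b' ∈ B') (hpb' : p' ∉ b') (σ : α → β)
    (hmaps : ∀ a ∈ b, σ a ∈ b') (hinj : ∀ a ∈ b, ∀ c ∈ b, σ a = σ c → a = c) :
    ∃ e : α ≃ β, e p = p' ∧ (∀ a ∈ b, e a = σ a) ∧
      (fun c : Finset α => c.image e) '' B = B' := by
  have hO : down p b ∈ ovals B p := mem_ovals.mpr ⟨b, hb, hpb, rfl⟩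
  have hO' : down p' b' ∈ ovals B' p' := mem_ovals.mpr ⟨b', hb', hpb', rfl⟩
  have hOa := mem_arcs.mp (ovals_subset_arcs hB p hO)
  have hOa' := mem_arcs.mp (ovals_subset_arcs hB' p' hO')
  obtain ⟨y₀, hy₀⟩ : (down p' b').Nonempty := by
    rw [← Finset.card_pos, hOa'.1]
    norm_num
  let σ' : Pts p → Pts p' := fun x => if h : σ x ≠ p' then ⟨σ x, h⟩ else y₀
  have hσ : ∀ x : Pts p, x ∈ down p b → ((σ' x : Pts p') : β) = σ x := by
    intro x hx
    have h : σ x ≠ p' := fun h => hpb' (h ▸ hmaps _ (mem_down.mp hx))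
    show ((if h : σ (x : α) ≠ p' then (⟨σ x, h⟩ : Pts p') else y₀ : Pts p') : β) = σ x
    rw [dif_pos h]
  have S : Setup (derived B p) (derived B' p') (down p b) (down p' b') σ' :=
    { hα := card_pts hα p, hL := derived_steiner hB p, h6 := hOa.1, hH := hOa.2,
      hβ := card_pts hβ p', hL' := derived_steiner hB' p', h6' := hOa'.1, hH' := hOa'.2,
      maps := by
        intro a ha
        rw [mem_down, hσ a ha]
        exact hmaps _ (mem_down.mp ha)
      inj := by
        intro a ha c hc hac
        have h := congrArg (fun z : Pts p' => (z : β)) hac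
        simp only [hσ a ha, hσ c hc] at h
        exact Subtype.ext (hinj _ (mem_down.mp ha) _ (mem_down.mp hc) h) }
  obtain ⟨e, he1, he2⟩ := exists_iso S
  have hOimg : (down p b).image e = down p' b' := by
    apply Finset.eq_of_subset_of_card_le
    · intro y hy
      obtain ⟨a, ha, rfl⟩ := Finset.mem_image.mp hy
      rw [he1 a ha]
      exact S.maps a ha
    · rw [Finset.card_image_of_injective _ e.injective, hOa.1, hOa'.1]
  refine ⟨extend p p' e, extend_self p p' e, ?_, ?_⟩
  · intro a ha
    have hap : a ≠ p := fun h => hpb (h ▸ ha)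
    have h1 := extend_coe p p' e ⟨a, hap⟩
    have h2 : (⟨a, hap⟩ : Pts p) ∈ down p b := mem_down.mpr ha
    rw [he1 _ h2, hσ _ h2] at h1
    exact h1
  · apply image_eq_of_forall
    · intro c hc
      by_cases hpc : p ∈ c
      · have h1 : down p c ∈ derived B p := by
          show up p (down p c) ∈ B
          rw [up_down hpc]
          exact hc
        have h2 : (down p c).image e ∈ derived B' p' := by
          rw [← he2]
          exact ⟨down p c, h1, rfl⟩
        rw [← up_down hpc, image_extend_up]
        exact h2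
      · have h1 : down p c ∈ ovals B p := mem_ovals.mpr ⟨c, hc, hpc, rfl⟩
        rw [ovals_eq_evenClass hα hB p hO] at h1
        have h2 := image_mem_evenClass e he2 h1
        rw [hOimg, ← ovals_eq_evenClass hβ hB' p' hO'] at h2
        obtain ⟨d, hd, hpd, hdd⟩ := mem_ovals.mp h2
        rw [image_extend_off p p' e hpc, ← hdd, map_down hpd]
        exact hd
    · rw [card_blocks_22 hα hB, card_blocks_22 hβ hB']

end exist

end Cfsg.Agent.Lib.Helper41_S22c
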