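import Mathlib
import Cfsg.Prelude.Def_Sporadic_a
import Cfsg.Agent.Lib.Helper6_Steiner
import Cfsg.Agent.Lib.Helper41_S22a
import Cfsg.Agent.Lib.Helper41_S22b
import Cfsg.Agent.Lib.Helper41_S22c

set_option autoImplicit false
set_option linter.unusedSectionVars false
set_option linter.unusedVariables false

/-!
The automorphism group of a Steiner system `S(3, 6, 22)` has order 887040 and is 3-transitive
(helper41).
-/

namespace Cfsg.Agent.Lib.Helper41_S22d

open Cfsg Cfsg.Agent.Lib.Helper6_Steiner Cfsg.Agent.Lib.Helper41_S22a Cfsg.Agent.Lib.Helper41_S22b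
  Cfsg.Agent.Lib.Helper41_S22c
open scoped Classical Pointwise

section count

variable {α : Type*} [Fintype α] [DecidableEq α]

/-- an embedding with image `b'`, as a bijection onto `b'` -/
noncomputable def toEquiv {ι : Type*} (b' : Finset α) [Fintype ι]
    (f : {f : ι ↪ α // Finset.univ.map f = b'}) : ι ≃ ↥b' :=
  Equiv.ofBijective
    (fun i => (⟨f.1 i, by
      have := Finset.mem_map_of_mem f.1 (Finset.mem_univ i)
      rwa [f.2] at this⟩ : ↥b'))
    ⟨fun i j hij => f.1.injective (congrArg Subtype.val hij), fun y => by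
      have hy : (y : α) ∈ Finset.univ.map f.1 := by
        rw [f.2]
        exact y.2
      obtain ⟨i, -, hi⟩ := Finset.mem_map.mp hy
      exact ⟨i, Subtype.ext hi⟩⟩

theorem toEquiv_apply {ι : Type*} (b' : Finset α) [Fintype ι]
    (f : {f : ι ↪ α // Finset.univ.map f = b'}) (i : ι) : ((toEquiv b' f i : ↥b') : α) = f.1 i :=
  rfl

/-- the number of embeddings of `ι` with a prescribed image -/
theorem card_emb_image {ι : Type*} [Fintype ι] [DecidableEq ι] (b' : Finset α)
    (h : b'.card = Fintype.card ι) :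
    (Finset.univ.filter (fun f : ι ↪ α => Finset.univ.map f = b')).card =
      (Fintype.card ι).factorial := by
  rw [← Fintype.card_subtype]
  have e0 : ι ≃ ↥b' := Fintype.equivOfCardEq (by rw [Fintype.card_coe, h])
  rw [← Fintype.card_equiv e0]
  apply Fintype.card_congr
  refine Equiv.ofBijective (toEquiv b') ⟨?_, ?_⟩
  · intro f f' hff
    apply Subtype.ext
    ext i
    have := congrArg (fun e : ι ≃ ↥b' => ((e i : ↥b') : α)) hff
    simpa [toEquiv_apply] using this
  · intro e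
    refine ⟨⟨e.toEmbedding.trans (Function.Embedding.subtype _), ?_⟩, ?_⟩
    · ext y
      rw [Finset.mem_map]
      constructor
      · rintro ⟨i, -, rfl⟩
        exact (e i).2
      · intro hy
        refine ⟨e.symm ⟨y, hy⟩, Finset.mem_univ _, ?_⟩
        simp
    · ext i
      rw [toEquiv_apply]
      rfl

variable {B : Set (Finset α)}

/-- the pairs (point, block off the point) -/
noncomputable def antiflags (B : Set (Finset α)) : Finset (α × Finset α) :=
  (Finset.univ ×ˢ blocks B).filter (fun y => y.1 ∉ y.2)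

theorem card_antiflags (hα : Fintype.card α = 22) (hB : IsSteinerSystem 3 6 B) :
    (antiflags B).card = 1232 := by
  rw [antiflags, Finset.card_filter, Finset.sum_product_right]
  have h16 : ∀ b' ∈ blocks B, (∑ x : α, if (x, b').1 ∉ (x, b').2 then 1 else 0) = 16 := by
    intro b' hb'
    rw [← Finset.card_filter]
    have : Finset.univ.filter (fun x : α => (x, b').1 ∉ (x, b').2) = b'ᶜ := by
      ext x
      simp
    rw [this, Finset.card_compl, hα, hB.1 b' (mem_blocks.mp hb')]
  rw [Finset.sum_congr rfl h16, Finset.sum_const, card_blocks_22 hα hB]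
  rfl

/-- frames: a point together with an injection of the base block onto a block off the point -/
noncomputable def frames (B : Set (Finset α)) (b₀ : Finset α) : Finset (α × (↥b₀ ↪ α)) :=
  Finset.univ.filter (fun x => Finset.univ.map x.2 ∈ B ∧ x.1 ∉ Finset.univ.map x.2)

theorem card_frames (hα : Fintype.card α = 22) (hB : IsSteinerSystem 3 6 B) {b₀ : Finset α}
    (hb₀ : b₀ ∈ B) : (frames B b₀).card = 887040 := by
  have hmaps : Set.MapsTo (fun x : α × (↥b₀ ↪ α) => (x.1, Finset.univ.map x.2))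
      (frames B b₀) (antiflags B) := by
    intro x hx
    rw [Finset.mem_coe, frames, Finset.mem_filter] at hx
    rw [Finset.mem_coe, antiflags, Finset.mem_filter, Finset.mem_product]
    exact ⟨⟨Finset.mem_univ _, mem_blocks.mpr hx.2.1⟩, hx.2.2⟩
  rw [Finset.card_eq_sum_card_fiberwise hmaps]
  have hfib : ∀ y ∈ antiflags B,
      ((frames B b₀).filter (fun x => (x.1, Finset.univ.map x.2) = y)).card = 720 := by
    rintro ⟨p', b'⟩ hy
    rw [antiflags, Finset.mem_filter, Finset.mem_product] at hy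
    have hb' : b' ∈ B := mem_blocks.mp hy.1.2
    have hcard : b'.card = Fintype.card ↥b₀ := by
      rw [Fintype.card_coe, hB.1 _ hb', hB.1 _ hb₀]
    have h720 := card_emb_image b' hcard
    rw [Fintype.card_coe, hB.1 _ hb₀] at h720
    have hfe : (frames B b₀).filter (fun x => (x.1, Finset.univ.map x.2) = (p', b')) =
        (Finset.univ.filter (fun f : ↥b₀ ↪ α => Finset.univ.map f = b')).map
          ⟨fun f => (p', f), fun f f' h => (Prod.ext_iff.mp h).2⟩ := by
      ext ⟨q, f⟩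
      rw [Finset.mem_filter, Finset.mem_map]
      constructor
      · rintro ⟨hx, hxy⟩
        rw [Prod.mk.injEq] at hxy
        dsimp only at hxy
        obtain ⟨rfl, hfb⟩ := hxy
        exact ⟨f, Finset.mem_filter.mpr ⟨Finset.mem_univ _, hfb⟩, rfl⟩
      · rintro ⟨f', hf', hfe⟩
        rw [Finset.mem_filter] at hf'
        have h1 : (p', f') = (q, f) := hfe
        rw [Prod.mk.injEq] at h1
        obtain ⟨rfl, rfl⟩ := h1
        refine ⟨?_, ?_⟩
        · rw [frames, Finset.mem_filter]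
          refine ⟨Finset.mem_univ _, ?_, ?_⟩
          · show Finset.univ.map f' ∈ B
            rw [hf'.2]
            exact hb'
          · show p' ∉ Finset.univ.map f'
            rw [hf'.2]
            exact hy.2
        · show (p', Finset.univ.map f') = (p', b')
          rw [hf'.2]
    rw [hfe, Finset.card_map, h720]
    rfl
  rw [Finset.sum_congr rfl hfib, Finset.sum_const, card_antiflags hα hB]
  rfl

/-- the frame of a permutation: where it sends the base point and the base block -/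
def frameOf (b₀ : Finset α) (p₀ : α) (g : Equiv.Perm α) : α × (↥b₀ ↪ α) :=
  (g p₀, ⟨fun a => g a, fun a c h => Subtype.ext (g.injective h)⟩)

theorem map_frameOf (b₀ : Finset α) (p₀ : α) (g : Equiv.Perm α) :
    Finset.univ.map (frameOf b₀ p₀ g).2 = b₀.image g := by
  ext y
  rw [Finset.mem_map, Finset.mem_image]
  constructor
  · rintro ⟨a, -, rfl⟩
    exact ⟨a.1, a.2, rfl⟩
  · rintro ⟨a, ha, rfl⟩
    exact ⟨⟨a, ha⟩, Finset.mem_univ _, rfl⟩

/-- The automorphism group of an `S(3, 6, 22)` has order 887040. -/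
theorem card_aut (hα : Fintype.card α = 22) (hB : IsSteinerSystem 3 6 B) :
    Nat.card ↥(setSystemAut B) = 887040 := by
  obtain ⟨b₀, hb₀'⟩ : (blocks B).Nonempty := by
    rw [← Finset.card_pos, card_blocks_22 hα hB]
    norm_num
  have hb₀ : b₀ ∈ B := mem_blocks.mp hb₀'
  obtain ⟨p₀, hp₀⟩ : ∃ p₀, p₀ ∉ b₀ := by
    by_contra hcon
    push Not at hcon
    have : b₀ = Finset.univ := Finset.eq_univ_iff_forall.mpr hcon
    have h6 := hB.1 b₀ hb₀
    rw [this, Finset.card_univ, hα] at h6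
    norm_num at h6
  have hmem : ∀ g : ↥(setSystemAut B), frameOf b₀ p₀ g.1 ∈ frames B b₀ := by
    intro g
    rw [frames, Finset.mem_filter, map_frameOf]
    refine ⟨Finset.mem_univ _, image_mem_of_mem_aut g.2 hb₀, ?_⟩
    show g.1 p₀ ∉ b₀.image g.1
    rw [Finset.mem_image]
    rintro ⟨a, ha, h⟩
    exact hp₀ (g.1.injective h ▸ ha)
  have hbij : Function.Bijective
      (fun g : ↥(setSystemAut B) => (⟨frameOf b₀ p₀ g.1, hmem g⟩ : ↥(frames B b₀))) := by
    constructor
    · intro g g' h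
      have h' : frameOf b₀ p₀ g.1 = frameOf b₀ p₀ g'.1 := congrArg Subtype.val h
      have h1 : g.1 p₀ = g'.1 p₀ := congrArg Prod.fst h'
      have h2 : ∀ a ∈ b₀, g.1 a = g'.1 a := fun a ha =>
        congrArg (fun f : ↥b₀ ↪ α => f ⟨a, ha⟩) (congrArg Prod.snd h')
      have hk : g'.1⁻¹ * g.1 ∈ setSystemAut B := mul_mem (inv_mem g'.2) g.2
      have h3 := eq_one_of_fix22 hα hB hb₀ hp₀ _ hk
        (by rw [Equiv.Perm.mul_apply, h1]; simp)
        (fun a ha => by rw [Equiv.Perm.mul_apply, h2 a ha]; simp)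
      apply Subtype.ext
      calc g.1 = g'.1 * (g'.1⁻¹ * g.1) := by group
        _ = g'.1 := by rw [h3, mul_one]
    · rintro ⟨⟨p', f⟩, hx⟩
      have hx' := hx
      rw [frames, Finset.mem_filter] at hx'
      obtain ⟨-, hb', hp'⟩ := hx'
      let σ : α → α := fun a => if h : a ∈ b₀ then f ⟨a, h⟩ else p'
      have hσ : ∀ a (h : a ∈ b₀), σ a = f ⟨a, h⟩ := fun a h => dif_pos h
      obtain ⟨e, he0, he1, he2⟩ := exists_iso22 hα hα hB hB hb₀ hp₀ hb' hp' σ
        (by
          intro a ha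
          rw [hσ a ha]
          exact Finset.mem_map_of_mem _ (Finset.mem_univ _))
        (by
          intro a ha c hc h
          rw [hσ a ha, hσ c hc] at h
          exact congrArg Subtype.val (f.injective h))
      refine ⟨⟨e, (mem_aut_iff B e).mpr he2⟩, ?_⟩
      apply Subtype.ext
      show frameOf b₀ p₀ e = (p', f)
      refine Prod.ext he0 ?_
      ext a
      show e a = f a
      rw [he1 a a.2, hσ a a.2]
  rw [Nat.card_congr (Equiv.ofBijective _ hbij), Nat.card_eq_fintype_card, Fintype.card_coe,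
    card_frames hα hB hb₀]

end count

section trans

variable {α : Type*} [Fintype α] [DecidableEq α] {B : Set (Finset α)}

theorem exists_block_off (hα : Fintype.card α = 22) (hB : IsSteinerSystem 3 6 B) {x₀ x₁ x₂ : α}
    (h01 : x₀ ≠ x₁) (h02 : x₀ ≠ x₂) (h12 : x₁ ≠ x₂) : ∃ b ∈ B, x₁ ∈ b ∧ x₂ ∈ b ∧ x₀ ∉ b := by
  have h5 : (blocksThrough B {x₁, x₂}).card = 5 :=
    card_blocksThrough_eq hB (j := 2) (lam := 5) (by norm_num) (by rw [hα]; decide) (by decide)
      {x₁, x₂} (Finset.card_pair h12)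
  have h3 : ({x₀, x₁, x₂} : Finset α).card = 3 := by
    rw [Finset.card_insert_of_notMem, Finset.card_pair h12]
    simp [h01, h02]
  obtain ⟨c, ⟨hc, hsc⟩, huniq⟩ := hB.2 _ h3
  obtain ⟨b, hb, hbc⟩ := Finset.exists_mem_ne (by rw [h5]; norm_num) c
  rw [mem_blocksThrough] at hb
  have hx1 : x₁ ∈ b := hb.2 (by simp)
  have hx2 : x₂ ∈ b := hb.2 (by simp)
  refine ⟨b, hb.1, hx1, hx2, fun h0 => hbc (huniq b ⟨hb.1, ?_⟩)⟩
  intro x hx
  simp only [Finset.mem_insert, Finset.mem_singleton] at hx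
  rcases hx with rfl | rfl | rfl
  · exact h0
  · exact hx1
  · exact hx2

theorem image_swap_of_mem {s : Finset α} {u v : α} (hu : u ∈ s) (hv : v ∈ s) :
    s.image (Equiv.swap u v) = s := by
  apply Finset.eq_of_subset_of_card_le
  · intro y hy
    obtain ⟨a, ha, rfl⟩ := Finset.mem_image.mp hy
    by_cases h1 : a = u
    · rw [h1, Equiv.swap_apply_left]
      exact hv
    · by_cases h2 : a = v
      · rw [h2, Equiv.swap_apply_right]
        exact hu
      · rw [Equiv.swap_apply_of_ne_of_ne h1 h2]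
        exact ha
  · rw [Finset.card_image_of_injective _ (Equiv.swap u v).injective]

/-- a permutation carrying one 6-set to another with two prescribed values -/
theorem exists_perm_two {b b' : Finset α} (hbb : b.card = b'.card) {x₁ x₂ y₁ y₂ : α}
    (hx1 : x₁ ∈ b) (hx2 : x₂ ∈ b) (hy1 : y₁ ∈ b') (hy2 : y₂ ∈ b') (hx : x₁ ≠ x₂) (hy : y₁ ≠ y₂) :
    ∃ π : Equiv.Perm α, π x₁ = y₁ ∧ π x₂ = y₂ ∧ ∀ a ∈ b, π a ∈ b' := by
  let τ₀ : Equiv.Perm α := (Finset.equivOfCardEq hbb).extendSubtype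
  have hτ₀ : ∀ a ∈ b, τ₀ a ∈ b' := by
    intro a ha
    have := Equiv.extendSubtype_apply_of_mem (Finset.equivOfCardEq hbb) a ha
    show (Finset.equivOfCardEq hbb).extendSubtype a ∈ b'
    rw [this]
    exact ((Finset.equivOfCardEq hbb) ⟨a, ha⟩).2
  let π₁ : Equiv.Perm α := Equiv.swap (τ₀ x₁) y₁ * τ₀
  have hπ₁ : ∀ a ∈ b, π₁ a ∈ b' := by
    intro a ha
    have h := image_swap_of_mem (hτ₀ x₁ hx1) hy1
    rw [← h]
    exact Finset.mem_image_of_mem _ (hτ₀ a ha)
  have hπ₁x : π₁ x₁ = y₁ := by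
    show Equiv.swap (τ₀ x₁) y₁ (τ₀ x₁) = y₁
    rw [Equiv.swap_apply_left]
  let π₂ : Equiv.Perm α := Equiv.swap (π₁ x₂) y₂ * π₁
  refine ⟨π₂, ?_, ?_, ?_⟩
  · show Equiv.swap (π₁ x₂) y₂ (π₁ x₁) = y₁
    rw [hπ₁x, Equiv.swap_apply_of_ne_of_ne]
    · intro h
      rw [← hπ₁x] at h
      exact hx (π₁.injective h)
    · exact hy
  · show Equiv.swap (π₁ x₂) y₂ (π₁ x₂) = y₂
    rw [Equiv.swap_apply_left]
  · intro a ha
    have h := image_swap_of_mem (hπ₁ x₂ hx2) hy2
    rw [← h]
    exact Finset.mem_image_of_mem _ (hπ₁ a ha)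

/-- the automorphism group of an `S(3, 6, 22)` is transitive on ordered triples of distinct
points -/
theorem exists_aut_three (hα : Fintype.card α = 22) (hB : IsSteinerSystem 3 6 B)
    {x₀ x₁ x₂ y₀ y₁ y₂ : α} (h01 : x₀ ≠ x₁) (h02 : x₀ ≠ x₂) (h12 : x₁ ≠ x₂)
    (k01 : y₀ ≠ y₁) (k02 : y₀ ≠ y₂) (k12 : y₁ ≠ y₂) :
    ∃ g : Equiv.Perm α, g ∈ setSystemAut B ∧ g x₀ = y₀ ∧ g x₁ = y₁ ∧ g x₂ = y₂ := by
  obtain ⟨b, hb, hx1, hx2, hx0⟩ := exists_block_off hα hB h01 h02 h12
  obtain ⟨b', hb', hy1, hy2, hy0⟩ := exists_block_off hα hB k01 k02 k12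
  obtain ⟨π, hπ1, hπ2, hπ⟩ := exists_perm_two ((hB.1 b hb).trans (hB.1 b' hb').symm)
    hx1 hx2 hy1 hy2 h12 k12
  obtain ⟨e, he0, he1, he2⟩ := exists_iso22 hα hα hB hB hb hx0 hb' hy0 π hπ
    (fun a _ c _ h => π.injective h)
  refine ⟨e, (mem_aut_iff B e).mpr he2, he0, ?_, ?_⟩
  · rw [he1 x₁ hx1, hπ1]
  · rw [he1 x₂ hx2, hπ2]

theorem three_transitive (hα : Fintype.card α = 22) (hB : IsSteinerSystem 3 6 B) :
    MulAction.IsMultiplyPretransitive (setSystemAut B) α 3 := by
  rw [MulAction.IsMultiplyPretransitive, MulAction.isPretransitive_iff]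
  intro x y
  have hx : ∀ i j : Fin 3, i ≠ j → x i ≠ x j := fun i j h hx => h (x.injective hx)
  have hy : ∀ i j : Fin 3, i ≠ j → y i ≠ y j := fun i j h hy => h (y.injective hy)
  obtain ⟨g, hg, h0, h1, h2⟩ := exists_aut_three hα hB (hx 0 1 (by decide)) (hx 0 2 (by decide))
    (hx 1 2 (by decide)) (hy 0 1 (by decide)) (hy 0 2 (by decide)) (hy 1 2 (by decide))
  refine ⟨⟨g, hg⟩, ?_⟩
  ext i
  rw [Function.Embedding.smul_apply]
  show g (x i) = y i
  fin_cases i
  · exact h0
  · exact h1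
  · exact h2

end trans

end Cfsg.Agent.Lib.Helper41_S22d
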