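import Mathlib
import Cfsg.Prelude.Def_Sporadic_a
import Cfsg.Agent.S0428
import Cfsg.Agent.Lib.Helper41_S22b
import Cfsg.Agent.Lib.Helper41_S22c
import Cfsg.Agent.Lib.Helper41_S22d
import Cfsg.Agent.Lib.Helper41_HSloc
import Cfsg.Agent.Lib.Helper41_HSloc2

set_option autoImplicit false
set_option linter.unusedSectionVars false
set_option linter.unusedVariables false

/-!
Automorphisms of the point-block graph of a Steiner system `S(3, 6, 22)` (the Higman–Sims graph):
the stabiliser of the extra vertex is the automorphism group of the system, and the automorphism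
group is transitive on the 100 vertices (helper41).
-/

namespace Cfsg.Agent.Lib.Helper41_HSaut

open Cfsg Cfsg.Agent.Lib.Helper41_S22b Cfsg.Agent.Lib.Helper41_S22c Cfsg.Agent.Lib.Helper41_S22d
  Cfsg.Agent.Lib.Helper41_HSloc Cfsg.Agent.Lib.Helper41_HSloc2
open scoped Pointwise

section functorial

variable {α β : Type*} [DecidableEq α] [DecidableEq β]

theorem image_symm_image (e : α ≃ β) (c : Finset α) : (c.image e).image e.symm = c := by
  rw [Finset.image_image]
  have : (⇑e.symm ∘ ⇑e) = id := by
    funext x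
    simp
  rw [this, Finset.image_id]

theorem image_image_symm (e : α ≃ β) (c : Finset β) : (c.image e.symm).image e = c := by
  rw [Finset.image_image]
  have : (⇑e ∘ ⇑e.symm) = id := by
    funext x
    simp
  rw [this, Finset.image_id]

/-- the bijection between the blocks induced by an isomorphism of set systems -/
def blockEquiv (e : α ≃ β) {B : Set (Finset α)} {B' : Set (Finset β)}
    (he : (fun c : Finset α => c.image e) '' B = B') : ↥B ≃ ↥B' where
  toFun b := ⟨b.1.image e, by
    rw [← he]
    exact ⟨b.1, b.2, rfl⟩⟩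
  invFun b' := ⟨b'.1.image e.symm, by
    have h : (b'.1 : Finset β) ∈ (fun c : Finset α => c.image e) '' B := by
      rw [he]
      exact b'.2
    obtain ⟨c, hc, hcb⟩ := h
    have h1 : b'.1.image e.symm = c := by
      rw [← hcb]
      exact image_symm_image e c
    rw [h1]
    exact hc⟩
  left_inv b := Subtype.ext (image_symm_image e b.1)
  right_inv b' := Subtype.ext (image_image_symm e b'.1)

theorem blockEquiv_coe (e : α ≃ β) {B : Set (Finset α)} {B' : Set (Finset β)}
    (he : (fun c : Finset α => c.image e) '' B = B') (b : ↥B) :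
    ((blockEquiv e he b : ↥B') : Finset β) = b.1.image e := rfl

/-- the vertex map induced by an isomorphism of set systems -/
def pbgEquiv (e : α ≃ β) {B : Set (Finset α)} {B' : Set (Finset β)}
    (he : (fun c : Finset α => c.image e) '' B = B') :
    Option (α ⊕ ↥B) ≃ Option (β ⊕ ↥B') :=
  Equiv.optionCongr (Equiv.sumCongr e (blockEquiv e he))

theorem pbgEquiv_none (e : α ≃ β) {B : Set (Finset α)} {B' : Set (Finset β)}
    (he : (fun c : Finset α => c.image e) '' B = B') : pbgEquiv e he none = none := rfl

theorem pbgEquiv_pt (e : α ≃ β) {B : Set (Finset α)} {B' : Set (Finset β)}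
    (he : (fun c : Finset α => c.image e) '' B = B') (a : α) :
    pbgEquiv e he (some (Sum.inl a)) = some (Sum.inl (e a)) := rfl

theorem pbgEquiv_bl (e : α ≃ β) {B : Set (Finset α)} {B' : Set (Finset β)}
    (he : (fun c : Finset α => c.image e) '' B = B') (b : ↥B) :
    pbgEquiv e he (some (Sum.inr b)) = some (Sum.inr (blockEquiv e he b)) := rfl

/-- an isomorphism of set systems induces an isomorphism of point-block graphs -/
def pbgIso (e : α ≃ β) {B : Set (Finset α)} {B' : Set (Finset β)}
    (he : (fun c : Finset α => c.image e) '' B = B') :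
    pointBlockGraph B ≃g pointBlockGraph B' where
  toEquiv := pbgEquiv e he
  map_rel_iff' := by
    rintro (_ | a | b) (_ | a' | c)
    · exact iff_of_false (Cfsg.Agent.S0428.adj_none_none _) (Cfsg.Agent.S0428.adj_none_none _)
    · exact iff_of_true (Cfsg.Agent.S0428.adj_none_pt _ _) (Cfsg.Agent.S0428.adj_none_pt _ _)
    · exact iff_of_false (Cfsg.Agent.S0428.adj_none_bl _ _) (Cfsg.Agent.S0428.adj_none_bl _ _)
    · exact iff_of_true (Cfsg.Agent.S0428.adj_pt_none _ _) (Cfsg.Agent.S0428.adj_pt_none _ _)
    · exact iff_of_false (Cfsg.Agent.S0428.adj_pt_pt _ _ _) (Cfsg.Agent.S0428.adj_pt_pt _ _ _)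
    · show (pointBlockGraph B').Adj (some (Sum.inl (e a))) (some (Sum.inr (blockEquiv e he c))) ↔ _
      rw [Cfsg.Agent.S0428.adj_pt_bl, Cfsg.Agent.S0428.adj_pt_bl, blockEquiv_coe]
      exact e.injective.mem_finset_image
    · exact iff_of_false (Cfsg.Agent.S0428.adj_bl_none _ _) (Cfsg.Agent.S0428.adj_bl_none _ _)
    · show (pointBlockGraph B').Adj (some (Sum.inr (blockEquiv e he b))) (some (Sum.inl (e a'))) ↔ _
      rw [Cfsg.Agent.S0428.adj_bl_pt, Cfsg.Agent.S0428.adj_bl_pt, blockEquiv_coe]
      exact e.injective.mem_finset_image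
    · show (pointBlockGraph B').Adj (some (Sum.inr (blockEquiv e he b)))
        (some (Sum.inr (blockEquiv e he c))) ↔ _
      rw [Cfsg.Agent.S0428.adj_bl_bl, Cfsg.Agent.S0428.adj_bl_bl, blockEquiv_coe, blockEquiv_coe,
        Finset.disjoint_image e.injective]
      exact and_congr_left' (blockEquiv e he).injective.ne_iff

theorem pbgIso_none (e : α ≃ β) {B : Set (Finset α)} {B' : Set (Finset β)}
    (he : (fun c : Finset α => c.image e) '' B = B') : pbgIso e he none = none := rfl

theorem pbgIso_pt (e : α ≃ β) {B : Set (Finset α)} {B' : Set (Finset β)}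
    (he : (fun c : Finset α => c.image e) '' B = B') (a : α) :
    pbgIso e he (some (Sum.inl a)) = some (Sum.inl (e a)) := rfl

theorem pbgIso_bl (e : α ≃ β) {B : Set (Finset α)} {B' : Set (Finset β)}
    (he : (fun c : Finset α => c.image e) '' B = B') (b : ↥B) :
    pbgIso e he (some (Sum.inr b)) = some (Sum.inr (blockEquiv e he b)) := rfl

end functorial

section stab

variable {α : Type*} [Fintype α] [DecidableEq α] {B : Set (Finset α)}

theorem adj_none_iff (x : Option (α ⊕ ↥B)) :
    (pointBlockGraph B).Adj none x ↔ ∃ a, x = some (Sum.inl a) := by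
  rcases x with _ | a | b
  · exact iff_of_false (Cfsg.Agent.S0428.adj_none_none _) (by simp)
  · exact iff_of_true (Cfsg.Agent.S0428.adj_none_pt _ _) ⟨a, rfl⟩
  · exact iff_of_false (Cfsg.Agent.S0428.adj_none_bl _ _) (by simp)

/-- the graph automorphism induced by an automorphism of the system -/
def autOfPerm (g : ↥(setSystemAut B)) : pointBlockGraph B ≃g pointBlockGraph B :=
  pbgIso g.1 ((mem_aut_iff B g.1).mp g.2)

theorem autOfPerm_none (g : ↥(setSystemAut B)) : autOfPerm g none = none := rfl

theorem autOfPerm_pt (g : ↥(setSystemAut B)) (a : α) :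
    autOfPerm g (some (Sum.inl a)) = some (Sum.inl (g.1 a)) := rfl

theorem autOfPerm_injective : Function.Injective (autOfPerm (B := B)) := by
  intro g g' h
  apply Subtype.ext
  ext a
  have := congrArg (fun φ : pointBlockGraph B ≃g pointBlockGraph B => φ (some (Sum.inl a))) h
  simp only [autOfPerm_pt] at this
  exact Sum.inl.inj (Option.some.inj this)

/-- every automorphism of the graph fixing the extra vertex comes from an automorphism of the
system -/
theorem exists_autOfPerm (hB : IsSteinerSystem 3 6 B)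
    (φ : pointBlockGraph B ≃g pointBlockGraph B) (hφ : φ none = none) :
    ∃ g : ↥(setSystemAut B), autOfPerm g = φ := by
  have hpt : ∀ a : α, ∃ a', φ (some (Sum.inl a)) = some (Sum.inl a') := by
    intro a
    have h1 : (pointBlockGraph B).Adj (φ none) (φ (some (Sum.inl a))) :=
      φ.map_adj_iff.mpr (Cfsg.Agent.S0428.adj_none_pt B a)
    rw [hφ] at h1
    exact (adj_none_iff _).mp h1
  choose g₀ hg₀ using hpt
  have hinj : Function.Injective g₀ := by
    intro a a' haa
    have h1 : φ (some (Sum.inl a)) = φ (some (Sum.inl a')) := by rw [hg₀, hg₀, haa]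
    exact Sum.inl.inj (Option.some.inj (φ.injective h1))
  have hbl : ∀ b : ↥B, ∃ b' : ↥B, φ (some (Sum.inr b)) = some (Sum.inr b') := by
    intro b
    rcases hx : φ (some (Sum.inr b)) with _ | a' | b'
    · rw [← hφ] at hx
      exact absurd (φ.injective hx) (by simp)
    · have h1 : (pointBlockGraph B).Adj (φ none) (φ (some (Sum.inr b))) := by
        rw [hφ, hx]
        exact Cfsg.Agent.S0428.adj_none_pt B a'
      exact absurd (φ.map_adj_iff.mp h1) (Cfsg.Agent.S0428.adj_none_bl B b)
    · exact ⟨b', rfl⟩
  choose c₀ hc₀ using hbl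
  have hmem : ∀ (a : α) (b : ↥B), a ∈ b.1 ↔ g₀ a ∈ (c₀ b).1 := by
    intro a b
    rw [← Cfsg.Agent.S0428.adj_pt_bl B a b, ← Cfsg.Agent.S0428.adj_pt_bl B (g₀ a) (c₀ b),
      ← hg₀, ← hc₀, φ.map_adj_iff]
  have himg : ∀ b : ↥B, b.1.image g₀ = (c₀ b).1 := by
    intro b
    apply Finset.eq_of_subset_of_card_le
    · intro y hy
      obtain ⟨a, ha, rfl⟩ := Finset.mem_image.mp hy
      exact (hmem a b).mp ha
    · rw [Finset.card_image_of_injective _ hinj, hB.1 _ b.2, hB.1 _ (c₀ b).2]
  let g : Equiv.Perm α := Equiv.ofBijective g₀ (Finite.injective_iff_bijective.mp hinj)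
  have hg : g ∈ setSystemAut B := by
    apply mem_aut_of_forall_fin
    intro b hb
    show b.image g₀ ∈ B
    rw [himg ⟨b, hb⟩]
    exact (c₀ ⟨b, hb⟩).2
  refine ⟨⟨g, hg⟩, ?_⟩
  apply RelIso.ext
  rintro (_ | a | b)
  · rw [autOfPerm_none, hφ]
  · rw [autOfPerm_pt, hg₀]
    rfl
  · rw [hc₀]
    show some (Sum.inr (blockEquiv g _ b)) = some (Sum.inr (c₀ b))
    congr 2
    apply Subtype.ext
    rw [blockEquiv_coe]
    exact himg b

/-- the stabiliser of the extra vertex has the order of the automorphism group of the system -/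
theorem card_stab_none (hα : Fintype.card α = 22) (hB : IsSteinerSystem 3 6 B) :
    Nat.card {φ : pointBlockGraph B ≃g pointBlockGraph B // φ none = none} = 887040 := by
  rw [← card_aut hα hB]
  symm
  apply Nat.card_congr
  refine Equiv.ofBijective (fun g => ⟨autOfPerm g, autOfPerm_none g⟩) ⟨?_, ?_⟩
  · intro g g' h
    exact autOfPerm_injective (congrArg Subtype.val h)
  · rintro ⟨φ, hφ⟩
    obtain ⟨g, hg⟩ := exists_autOfPerm hB φ hφ
    exact ⟨g, Subtype.ext hg⟩

end stab

section trans

variable {α : Type*} [Fintype α] [DecidableEq α] {B : Set (Finset α)}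

/-- the automorphism group of the Higman–Sims graph is transitive on vertices -/
theorem exists_aut_to_none (hα : Fintype.card α = 22) (hB : IsSteinerSystem 3 6 B)
    (x : Option (α ⊕ ↥B)) : ∃ τ : pointBlockGraph B ≃g pointBlockGraph B, τ x = none := by
  classical
  have : Fintype ↥B := Fintype.ofFinite _
  have hsrg := Cfsg.Agent.S0428.result hα hB
  have h := isHS_of_srg _ hsrg
  obtain ⟨e, he⟩ := steiner22_unique (card_lpts h x) hα (localSys_steiner h x) hB
  refine ⟨(locIso h x).trans (pbgIso e he), ?_⟩
  rw [RelIso.trans_apply, locIso_self, pbgIso_none]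

/-- The Higman–Sims graph has exactly 88704000 automorphisms. -/
theorem card_aut_graph (hα : Fintype.card α = 22) (hB : IsSteinerSystem 3 6 B) :
    Nat.card (pointBlockGraph B ≃g pointBlockGraph B) = 88704000 := by
  classical
  have : Fintype ↥B := Fintype.ofFinite _
  have : Finite (pointBlockGraph B ≃g pointBlockGraph B) :=
    Finite.of_injective (fun φ => (φ : Option (α ⊕ ↥B) → Option (α ⊕ ↥B))) DFunLike.coe_injective
  have hsrg := Cfsg.Agent.S0428.result hα hB
  have hV : Fintype.card (Option (α ⊕ ↥B)) = 100 := hsrg.card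
  rw [Nat.card_congr (Equiv.sigmaFiberEquiv
    (fun φ : pointBlockGraph B ≃g pointBlockGraph B => φ none)).symm, Nat.card_sigma]
  have hfib : ∀ x : Option (α ⊕ ↥B),
      Nat.card {φ : pointBlockGraph B ≃g pointBlockGraph B // φ none = x} = 887040 := by
    intro x
    obtain ⟨τ, hτ⟩ := exists_aut_to_none hα hB x
    rw [← card_stab_none hα hB]
    apply Nat.card_congr
    refine ⟨fun φ => ⟨φ.1.trans τ, by rw [RelIso.trans_apply, φ.2, hτ]⟩,
      fun ψ => ⟨ψ.1.trans τ.symm, by
        rw [RelIso.trans_apply, ψ.2, ← hτ, RelIso.symm_apply_apply]⟩, ?_, ?_⟩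
    · intro φ
      apply Subtype.ext
      apply RelIso.ext
      intro y
      simp [RelIso.trans_apply]
    · intro ψ
      apply Subtype.ext
      apply RelIso.ext
      intro y
      simp [RelIso.trans_apply]
  rw [Finset.sum_congr rfl (fun x _ => hfib x), Finset.sum_const, Finset.card_univ, hV]
  rfl

end trans

end Cfsg.Agent.Lib.Helper41_HSaut
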