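import Mathlib

/-!
# Fixed spaces of a normal `C_p × C_p` in a linear group (helper4)

`ρ : G →* (V ≃ₗ[ZMod q] V)` a representation over the prime field, `p ≠ q` a prime, `z` central with
`z ^ p = 1` and without non-zero fixed vectors, `t` with `t ^ p = 1`.  Then `V` is the direct sum of the
fixed spaces of the `p` elements `t z^i`.
-/

set_option autoImplicit false
set_option linter.unusedSectionVars false

namespace Cfsg.Agent.Lib.Helper4_FixedSpaces

variable {G : Type*} [Group G]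

section Pw

variable (p : ℕ) [hp : Fact p.Prime]

/-- `i ↦ x ^ i` on `ZMod p`. -/
def pw (x : G) (i : ZMod p) : G := x ^ i.val

theorem pw_zero (x : G) : pw p x 0 = 1 := by
  simp [pw]

theorem pw_one (x : G) : pw p x 1 = x := by
  have : Fact (1 < p) := ⟨hp.out.one_lt⟩
  simp [pw, ZMod.val_one]

theorem pw_add {x : G} (hx : x ^ p = 1) (i j : ZMod p) : pw p x (i + j) = pw p x i * pw p x j := by
  unfold pw
  rw [ZMod.val_add, ← pow_add]
  exact (pow_eq_pow_mod _ hx).symm

theorem pw_mul {x : G} (hx : x ^ p = 1) (i j : ZMod p) : pw p x (i * j) = (pw p x i) ^ j.val := by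
  unfold pw
  rw [ZMod.val_mul, ← pow_mul]
  exact (pow_eq_pow_mod _ hx).symm

theorem pw_intCast {x : G} (hx : x ^ p = 1) (k : ℤ) : pw p x (k : ZMod p) = x ^ k := by
  unfold pw
  have h1 : ((k : ZMod p).val : ℤ) = k % p := ZMod.val_intCast k
  have hx' : x ^ (p : ℤ) = 1 := by rw [zpow_natCast]; exact hx
  rw [zpow_eq_zpow_emod k hx', ← h1, zpow_natCast]

theorem pw_pow {x : G} (hx : x ^ p = 1) (i : ZMod p) : (pw p x i) ^ p = 1 := by
  unfold pw
  rw [← pow_mul, mul_comm, pow_mul, hx, one_pow]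

theorem pw_mem_center {z : G} (hz : z ∈ Subgroup.center G) (i : ZMod p) :
    pw p z i ∈ Subgroup.center G :=
  Subgroup.pow_mem _ hz _

end Pw

section Rep

variable {q : ℕ} [hq : Fact q.Prime] {V : Type*} [AddCommGroup V] [Module (ZMod q) V]
variable (ρ : G →* (V ≃ₗ[ZMod q] V))

/-- The fixed space of `x`. -/
def fixS (x : G) : Submodule (ZMod q) V where
  carrier := {v | ρ x v = v}
  add_mem' := by
    intro a b ha hb
    simp only [Set.mem_ofPred_eq] at ha hb ⊢
    rw [map_add, ha, hb]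
  zero_mem' := by simp
  smul_mem' := by
    intro c a ha
    simp only [Set.mem_ofPred_eq] at ha ⊢
    rw [map_smul, ha]

theorem mem_fixS {x : G} {v : V} : v ∈ fixS ρ x ↔ ρ x v = v := Iff.rfl

theorem rho_mul (a b : G) (v : V) : ρ (a * b) v = ρ a (ρ b v) := by
  rw [map_mul]; rfl

theorem rho_one (v : V) : ρ 1 v = v := by
  rw [map_one]; rfl

theorem rho_pow_of_mem {x : G} {v : V} (hv : v ∈ fixS ρ x) (n : ℕ) : ρ (x ^ n) v = v := by
  induction n with
  | zero => rw [pow_zero, rho_one]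
  | succ n ih => rw [pow_succ, rho_mul, (mem_fixS ρ).mp hv, ih]

/-- `ρ g` maps the fixed space of `x` onto the fixed space of `g x g⁻¹`. -/
theorem map_fixS (g x : G) :
    (fixS ρ x).map ((ρ g : V ≃ₗ[ZMod q] V) : V →ₗ[ZMod q] V) = fixS ρ (g * x * g⁻¹) := by
  ext v
  constructor
  · rintro ⟨w, hw, rfl⟩
    rw [mem_fixS]
    show ρ (g * x * g⁻¹) (ρ g w) = ρ g w
    rw [← rho_mul, inv_mul_cancel_right, rho_mul, (mem_fixS ρ).mp hw]
  · intro hv
    refine ⟨ρ g⁻¹ v, ?_, ?_⟩
    · show ρ x (ρ g⁻¹ v) = ρ g⁻¹ v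
      rw [mem_fixS] at hv
      have : ρ g⁻¹ (ρ (g * x * g⁻¹) v) = ρ g⁻¹ v := by rw [hv]
      rw [← rho_mul, ← mul_assoc, ← mul_assoc, inv_mul_cancel, one_mul, rho_mul] at this
      exact this
    · show ρ g (ρ g⁻¹ v) = v
      rw [← rho_mul, mul_inv_cancel, rho_one]

/-- A central element without fixed vectors: its fixed space is invariant. -/
theorem fixS_invariant_of_central {z : G} (hz : z ∈ Subgroup.center G) (g : G) {w : V}
    (hw : w ∈ fixS ρ z) : ρ g w ∈ fixS ρ z := by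
  rw [mem_fixS, ← rho_mul, ← Subgroup.mem_center_iff.mp hz g, rho_mul, (mem_fixS ρ).mp hw]

variable (p : ℕ) [hp : Fact p.Prime]

/-- The trace-like sum `∑ⱼ ρ(xʲ)`. -/
noncomputable def sumT (x : G) : V →ₗ[ZMod q] V :=
  ∑ j : ZMod p, ((ρ (pw p x j) : V ≃ₗ[ZMod q] V) : V →ₗ[ZMod q] V)

theorem sumT_apply (x : G) (v : V) : sumT ρ p x v = ∑ j : ZMod p, ρ (pw p x j) v := by
  simp [sumT, LinearMap.sum_apply]

theorem sumT_mem_fixS {x : G} (hx : x ^ p = 1) (v : V) : sumT ρ p x v ∈ fixS ρ x := by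
  rw [mem_fixS, sumT_apply, map_sum]
  have hc : ∀ j : ZMod p, x * pw p x j = pw p x j * x := by
    intro j
    unfold pw
    exact ((Commute.refl x).pow_right _).eq
  have h1 : ∀ j : ZMod p, ρ x (ρ (pw p x j) v) = ρ (pw p x (j + 1)) v := by
    intro j
    rw [← rho_mul, pw_add p hx, pw_one, hc j]
  exact Fintype.sum_equiv (Equiv.addRight (1 : ZMod p)) _ _ (fun j => by rw [h1 j]; rfl)

theorem sumT_of_mem {x : G} {v : V} (hv : v ∈ fixS ρ x) : sumT ρ p x v = (p : ZMod q) • v := by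
  rw [sumT_apply]
  have : ∀ j : ZMod p, ρ (pw p x j) v = v := fun j => rho_pow_of_mem ρ hv _
  rw [Finset.sum_congr rfl (fun j _ => this j), Finset.sum_const, Finset.card_univ, ZMod.card,
    Nat.cast_smul_eq_nsmul]

/-- Scaling the index by `a ≠ 0` does not change the sum. -/
theorem sum_scaled (x : G) (a : ZMod p) (ha : a ≠ 0) (v : V) :
    ∑ j : ZMod p, ρ (pw p x (a * j)) v = sumT ρ p x v := by
  rw [sumT_apply]
  exact Fintype.sum_equiv (Equiv.mulLeft₀ a ha) _ _ (fun j => rfl)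

end Rep

section Main

variable {q : ℕ} [hq : Fact q.Prime] {V : Type*} [AddCommGroup V] [Module (ZMod q) V]
variable (ρ : G →* (V ≃ₗ[ZMod q] V)) (p : ℕ) [hp : Fact p.Prime]

/-- The elements `t z^i`. -/
def xel (z t : G) (i : ZMod p) : G := t * pw p z i

theorem xel_pow {z t : G} (hz : z ∈ Subgroup.center G) (i : ZMod p) (n : ℕ) :
    (xel p z t i) ^ n = t ^ n * (pw p z i) ^ n := by
  have hc : Commute t (pw p z i) := Subgroup.mem_center_iff.mp (pw_mem_center p hz i) t
  exact hc.mul_pow n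

theorem xel_pow_p {z t : G} (hz : z ∈ Subgroup.center G) (hzp : z ^ p = 1) (htp : t ^ p = 1)
    (i : ZMod p) : (xel p z t i) ^ p = 1 := by
  rw [xel_pow p hz, htp, pw_pow p hzp, one_mul]

theorem pw_xel {z t : G} (hz : z ∈ Subgroup.center G) (hzp : z ^ p = 1) (i j : ZMod p) :
    pw p (xel p z t i) j = pw p t j * pw p z (i * j) := by
  rw [pw_mul p hzp]
  exact xel_pow p hz i j.val

variable {z t : G} (hz : z ∈ Subgroup.center G) (hzp : z ^ p = 1) (htp : t ^ p = 1)
  (hfix : fixS ρ z = ⊥)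

include hz hzp hfix in
theorem sumT_z_eq_zero (v : V) : sumT ρ p z v = 0 := by
  have := sumT_mem_fixS ρ p hzp v
  rw [hfix, Submodule.mem_bot] at this
  exact this

include hz hzp htp hfix in
/-- `∑ᵢ T_{t zⁱ} v = p v`. -/
theorem sum_sumT (v : V) : ∑ i : ZMod p, sumT ρ p (xel p z t i) v = (p : ZMod q) • v := by
  have h1 : ∀ i : ZMod p, sumT ρ p (xel p z t i) v
      = ∑ j : ZMod p, ρ (pw p t j) (ρ (pw p z (i * j)) v) := by
    intro i
    rw [sumT_apply]
    refine Finset.sum_congr rfl (fun j _ => ?_)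
    rw [pw_xel p hz hzp, rho_mul]
  rw [Finset.sum_congr rfl (fun i _ => h1 i), Finset.sum_comm]
  have h2 : ∀ j : ZMod p, ∑ i : ZMod p, ρ (pw p t j) (ρ (pw p z (i * j)) v)
      = ρ (pw p t j) (∑ i : ZMod p, ρ (pw p z (j * i)) v) := by
    intro j
    rw [map_sum]
    refine Finset.sum_congr rfl (fun i _ => ?_)
    rw [mul_comm]
  rw [Finset.sum_congr rfl (fun j _ => h2 j)]
  rw [Finset.sum_eq_single (0 : ZMod p)]
  · simp only [zero_mul, pw_zero, rho_one]
    rw [Finset.sum_const, Finset.card_univ, ZMod.card, Nat.cast_smul_eq_nsmul]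
  · intro j _ hj
    rw [sum_scaled ρ p z j hj, sumT_z_eq_zero ρ p hz hzp hfix, map_zero]
  · intro h
    exact absurd (Finset.mem_univ _) h

include hz hzp hfix in
/-- `T_{t zⁱ}` kills the fixed space of `t z^{i'}` for `i' ≠ i`. -/
theorem sumT_eq_zero_of_ne {i i' : ZMod p} (hne : i ≠ i') {w : V}
    (hw : w ∈ fixS ρ (xel p z t i')) : sumT ρ p (xel p z t i) w = 0 := by
  rw [sumT_apply]
  have h1 : ∀ j : ZMod p, ρ (pw p (xel p z t i) j) w = ρ (pw p z ((i - i') * j)) w := by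
    intro j
    have e : pw p (xel p z t i) j = pw p z ((i - i') * j) * pw p (xel p z t i') j := by
      rw [pw_xel p hz hzp, pw_xel p hz hzp]
      have hc := Subgroup.mem_center_iff.mp (pw_mem_center p hz ((i - i') * j))
      rw [← hc, mul_assoc, ← pw_add p hzp]
      congr 2
      ring
    rw [e, rho_mul]
    congr 1
    exact rho_pow_of_mem ρ hw _
  rw [Finset.sum_congr rfl (fun j _ => h1 j), sum_scaled ρ p z (i - i') (sub_ne_zero.mpr hne)]
  exact sumT_z_eq_zero ρ p hz hzp hfix w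

variable (hpq : p ≠ q)

include hpq in
theorem p_ne_zero : (p : ZMod q) ≠ 0 := by
  intro h
  rw [ZMod.natCast_eq_zero_iff] at h
  exact hpq ((Nat.prime_dvd_prime_iff_eq hq.out hp.out).mp h).symm

include hz hzp htp hfix hpq in
/-- The fixed spaces of the `t zⁱ` span `V`. -/
theorem iSup_fixS : ⨆ i : ZMod p, fixS ρ (xel p z t i) = ⊤ := by
  rw [eq_top_iff]
  intro v _
  have h1 : (p : ZMod q) • v ∈ ⨆ i : ZMod p, fixS ρ (xel p z t i) := by
    rw [← sum_sumT ρ p hz hzp htp hfix v]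
    apply Submodule.sum_mem
    intro i _
    exact Submodule.mem_iSup_of_mem i (sumT_mem_fixS ρ p (xel_pow_p p hz hzp htp i) v)
  have h2 := Submodule.smul_mem _ ((p : ZMod q)⁻¹) h1
  rw [smul_smul, inv_mul_cancel₀ (p_ne_zero p hpq), one_smul] at h2
  exact h2

include hz hzp hfix hpq in
/-- The fixed spaces of the `t zⁱ` are independent. -/
theorem iSupIndep_fixS : iSupIndep (fun i : ZMod p => fixS ρ (xel p z t i)) := by
  rw [iSupIndep_def]
  intro i
  rw [Submodule.disjoint_def]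
  intro w hw1 hw2
  have hle : (⨆ (j : ZMod p) (_ : j ≠ i), fixS ρ (xel p z t j)) ≤
      LinearMap.ker (sumT ρ p (xel p z t i)) := by
    apply iSup_le
    intro j
    apply iSup_le
    intro hj
    intro u hu
    rw [LinearMap.mem_ker]
    exact sumT_eq_zero_of_ne ρ p hz hzp hfix (Ne.symm hj) hu
  have h1 := LinearMap.mem_ker.mp (hle hw2)
  rw [sumT_of_mem ρ p hw1] at h1
  have h2 := congrArg (fun u => (p : ZMod q)⁻¹ • u) h1
  simp only [smul_smul, inv_mul_cancel₀ (p_ne_zero p hpq), one_smul, smul_zero] at h2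
  exact h2

end Main

end Cfsg.Agent.Lib.Helper4_FixedSpaces
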