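import Mathlib
import Cfsg.Agent.Lib.Helper4_HTDefs
import Cfsg.Agent.Lib.Helper4_FixedSpaces
import Cfsg.Agent.S0016

/-!
# S3371 package SEMI (helper41): a semiregular `p`-group of linear maps is cyclic or quaternion.
-/

set_option autoImplicit false

namespace Cfsg.Agent.Lib.Helper41_HT_SEMI

open Cfsg.Agent.Lib.Helper4_HTDefs

variable {q : ℕ} [Fact q.Prime] {V : Type*} [AddCommGroup V] [Module (ZMod q) V] [Finite V]
  {G : Type*} [Group G] [Finite G]

/-- two subgroups of prime order sharing a nontrivial element are equal -/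
theorem eq_of_common {p : ℕ} [hp : Fact p.Prime] (H K : Subgroup G) (hH : Nat.card H = p)
    (hK : Nat.card K = p) (t : G) (ht1 : t ≠ 1) (htH : t ∈ H) (htK : t ∈ K) : H = K := by
  have key : ∀ L : Subgroup G, Nat.card L = p → t ∈ L → Subgroup.zpowers t = L := by
    intro L hL htL
    have hle : Subgroup.zpowers t ≤ L := by
      rw [Subgroup.zpowers_le]; exact htL
    apply Subgroup.eq_of_le_of_card_ge hle
    rw [Nat.card_zpowers, hL]
    have hdvd : orderOf t ∣ p := by
      have h1 : orderOf (⟨t, htL⟩ : L) ∣ Nat.card L := orderOf_dvd_natCard _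
      rw [hL] at h1
      have h2 : orderOf (⟨t, htL⟩ : L) = orderOf t := by
        rw [← Subgroup.orderOf_coe]
      rw [h2] at h1
      exact h1
    rcases (Nat.dvd_prime hp.out).mp hdvd with h | h
    · exact absurd (orderOf_eq_one_iff.mp h) ht1
    · exact h.ge
  rw [← key H hH htH, key K hK htK]

theorem cyc_or_quat [Nontrivial V] (p : ℕ) [Fact p.Prime] (hG : IsPGroup p G) (hpq : p ≠ q)
    (ρ : G →* (V ≃ₗ[ZMod q] V))
    (hsemi : ∀ v : V, v ≠ 0 → ∀ g : G, ρ g v = v → g = 1) :
    IsCyclic G ∨ ∃ n : ℕ, Nonempty (G ≃* QuaternionGroup n) := by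
  have hp : p.Prime := Fact.out
  have hfixbot : ∀ x : G, x ≠ 1 → Cfsg.Agent.Lib.Helper4_FixedSpaces.fixS ρ x = ⊥ := by
    intro x hx
    rw [eq_bot_iff]
    intro v hv
    rw [Submodule.mem_bot]
    by_contra hv0
    exact hx (hsemi v hv0 x hv)
  have huniq : ∀ H K : Subgroup G, Nat.card H = p → Nat.card K = p → H = K := by
    intro H K hH hK
    -- G is nontrivial
    have hntH : Nontrivial H := by
      rw [← Finite.one_lt_card_iff_nontrivial, hH]; exact hp.one_lt
    obtain ⟨⟨a, haH⟩, ha1⟩ := exists_ne (1 : H)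
    have ha1' : a ≠ 1 := fun h => ha1 (Subtype.ext h)
    have hntG : Nontrivial G := ⟨⟨a, 1, ha1'⟩⟩
    -- central element of order p
    have hcn : Nontrivial (Subgroup.center G) := hG.center_nontrivial
    have hcp : IsPGroup p (Subgroup.center G) := hG.to_subgroup _
    have hdvd : p ∣ Nat.card (Subgroup.center G) := by
      obtain ⟨n, hn⟩ := IsPGroup.iff_card.mp hcp
      rw [hn]
      have hn0 : n ≠ 0 := by
        rintro rfl
        rw [pow_zero] at hn
        have := Finite.one_lt_card_iff_nontrivial.mpr hcn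
        omega
      exact dvd_pow_self p hn0
    obtain ⟨⟨z, hzc⟩, hzo⟩ := exists_prime_orderOf_dvd_card' p hdvd
    have hzo' : orderOf z = p := by
      rw [← hzo, ← Subgroup.orderOf_coe]
    have hz1 : z ≠ 1 := by
      intro h
      rw [h, orderOf_one] at hzo'
      exact hp.one_lt.ne hzo'
    have hzp : z ^ p = 1 := by rw [← hzo']; exact pow_orderOf_eq_one z
    have hZcard : Nat.card (Subgroup.zpowers z) = p := by rw [Nat.card_zpowers, hzo']
    -- every subgroup of order p is zpowers z
    have main : ∀ L : Subgroup G, Nat.card L = p → L = Subgroup.zpowers z := by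
      intro L hL
      have hntL : Nontrivial L := by
        rw [← Finite.one_lt_card_iff_nontrivial, hL]; exact hp.one_lt
      obtain ⟨⟨t, htL⟩, ht1⟩ := exists_ne (1 : L)
      have ht1' : t ≠ 1 := fun h => ht1 (Subtype.ext h)
      have htp : t ^ p = 1 := by
        have h1 : (⟨t, htL⟩ : L) ^ Nat.card L = 1 := pow_card_eq_one'
        rw [hL] at h1
        exact congrArg Subtype.val h1
      by_cases htz : t ∈ Subgroup.zpowers z
      · exact eq_of_common L _ hL hZcard t ht1' htL htz
      · exfalso
        have hx : ∀ i : ZMod p, Cfsg.Agent.Lib.Helper4_FixedSpaces.xel p z t i ≠ 1 := by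
          intro i h
          apply htz
          unfold Cfsg.Agent.Lib.Helper4_FixedSpaces.xel Cfsg.Agent.Lib.Helper4_FixedSpaces.pw at h
          have : t = (z ^ i.val)⁻¹ := eq_inv_of_mul_eq_one_left h
          rw [this]
          exact Subgroup.inv_mem _ (Subgroup.pow_mem _ (Subgroup.mem_zpowers z) _)
        have htop := Cfsg.Agent.Lib.Helper4_FixedSpaces.iSup_fixS ρ p hzc hzp htp (hfixbot z hz1) hpq
        have hbot : (⨆ i : ZMod p, Cfsg.Agent.Lib.Helper4_FixedSpaces.fixS ρ
            (Cfsg.Agent.Lib.Helper4_FixedSpaces.xel p z t i)) = ⊥ := by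
          rw [iSup_eq_bot]
          intro i
          exact hfixbot _ (hx i)
        rw [hbot] at htop
        exact bot_ne_top htop
    rw [main H hH, main K hK]
  rcases Cfsg.Agent.S0016.result p hG huniq with h | ⟨_, n, hn⟩
  · exact Or.inl h
  · exact Or.inr ⟨2 ^ n, hn⟩

end Cfsg.Agent.Lib.Helper41_HT_SEMI
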