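import Mathlib
import Cfsg.Agent.Lib.Helper4_HTDefs

/-!
# S3371 package TF1 (helper41): coordinates when the two blocks are lines.
-/

set_option autoImplicit false

namespace Cfsg.Agent.Lib.Helper41_HT_TF1

open Cfsg.Agent.Lib.Helper4_HTDefs

variable {q : ℕ} [Fact q.Prime] {V : Type*} [AddCommGroup V] [Module (ZMod q) V] [Finite V]
  {G : Type*} [Group G] [Finite G]

omit [Finite V] in
/-- a submodule with `q` elements is spanned (as a set of multiples) by any nonzero element -/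
theorem exists_smul_of_card (W : Submodule (ZMod q) V) (hW : Nat.card W = q) (w₀ : V) (hw₀ : w₀ ∈ W)
    (hne : w₀ ≠ 0) : ∀ v ∈ W, ∃ c : ZMod q, v = c • w₀ := by
  have hfin : Finite W := by
    apply Nat.finite_of_card_ne_zero
    rw [hW]; exact (Fact.out : q.Prime).ne_zero
  let f : ZMod q → W := fun c => ⟨c • w₀, W.smul_mem c hw₀⟩
  have hinj : Function.Injective f := by
    intro c c' h
    have h' : c • w₀ = c' • w₀ := congrArg Subtype.val h
    have h2 : (c - c') • w₀ = 0 := by rw [sub_smul, h', sub_self]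
    rcases smul_eq_zero.mp h2 with h3 | h3
    · exact sub_eq_zero.mp h3
    · exact absurd h3 hne
  have hbij : Function.Bijective f := by
    apply Function.Injective.bijective_of_nat_card_le hinj
    rw [hW, Nat.card_zmod]
  intro v hv
  obtain ⟨c, hc⟩ := hbij.2 ⟨v, hv⟩
  exact ⟨c, (congrArg Subtype.val hc).symm⟩

theorem perm_fin_two (σ : Equiv.Perm (Fin 2)) (h : σ ≠ 1) : σ 0 = 1 ∧ σ 1 = 0 := by
  revert σ
  decide

set_option linter.unusedSectionVars false in
theorem tf1 (ρ : G →* (V ≃ₗ[ZMod q] V))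
    (H : Subgroup G) (W : Fin 2 → Submodule (ZMod q) V) (himp : Imprim 2 ρ H W)
    (h0 : Nat.card (W 0) = q) (h1 : Nat.card (W 1) = q)
    (hinv : ∃ g : G, g ∉ H ∧ g ^ 2 = 1) :
    ∃ e : V ≃ₗ[ZMod q] (Fin 2 → ZMod q),
      (∀ v : V, v ∈ W 0 ↔ e v 1 = 0) ∧ (∀ v : V, v ∈ W 1 ↔ e v 0 = 0) ∧
      (∀ h ∈ H, ∃ α β : ZMod q, α ≠ 0 ∧ β ≠ 0 ∧ ∀ u : Fin 2 → ZMod q, e (ρ h (e.symm u)) = ![α * u 0, β * u 1]) ∧
      (∃ g₀ : G, g₀ ∉ H ∧ ∀ u : Fin 2 → ZMod q, e (ρ g₀ (e.symm u)) = ![u 1, u 0]) := by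
  have hq : q.Prime := Fact.out
  obtain ⟨_, hsup, hind, hHW, _, hswap⟩ := himp
  obtain ⟨g₀, hg₀H, hg₀2⟩ := hinv
  obtain ⟨σ, hσo, hσ⟩ := hswap g₀ hg₀H
  have hσ1 : σ ≠ 1 := by
    intro h
    rw [h, orderOf_one] at hσo
    omega
  obtain ⟨hσ0, hσ1'⟩ := perm_fin_two σ hσ1
  have hmap0 : (W 0).map (ρ g₀ : V →ₗ[ZMod q] V) = W 1 := by rw [hσ 0, hσ0]
  have hdisj : Disjoint (W 0) (W 1) := hind.pairwiseDisjoint (by decide : (0 : Fin 2) ≠ 1)
  -- pick w₀
  have hfin0 : Finite (W 0) := by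
    apply Nat.finite_of_card_ne_zero
    rw [h0]; exact hq.ne_zero
  have hnt0 : Nontrivial (W 0) := by
    rw [← Finite.one_lt_card_iff_nontrivial, h0]; exact hq.one_lt
  obtain ⟨⟨w₀, hw₀⟩, hw₀ne⟩ := exists_ne (0 : W 0)
  have hw₀ne' : w₀ ≠ 0 := fun h => hw₀ne (Subtype.ext h)
  set w₁ : V := ρ g₀ w₀ with hw₁def
  have hw₁ : w₁ ∈ W 1 := by
    rw [← hmap0]
    exact Submodule.mem_map_of_mem hw₀
  have hw₁ne : w₁ ≠ 0 := by
    intro h
    apply hw₀ne'
    have : ρ g₀ w₀ = ρ g₀ 0 := by rw [map_zero]; exact h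
    exact (ρ g₀).injective this
  have hg₀w₁ : ρ g₀ w₁ = w₀ := by
    have : ρ g₀ (ρ g₀ w₀) = ρ (g₀ * g₀) w₀ := by rw [map_mul]; rfl
    rw [hw₁def, this, ← pow_two, hg₀2, map_one]; rfl
  have hsp0 := exists_smul_of_card (W 0) h0 w₀ hw₀ hw₀ne'
  have hsp1 := exists_smul_of_card (W 1) h1 w₁ hw₁ hw₁ne
  -- the coordinate map
  let f : (Fin 2 → ZMod q) →ₗ[ZMod q] V :=
    { toFun := fun u => u 0 • w₀ + u 1 • w₁
      map_add' := by
        intro u u'
        simp only [Pi.add_apply, add_smul]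
        abel
      map_smul' := by
        intro c u
        simp only [Pi.smul_apply, smul_eq_mul, RingHom.id_apply, smul_add, mul_smul] }
  have hf : ∀ u, f u = u 0 • w₀ + u 1 • w₁ := fun u => rfl
  -- key: components
  have hcomp : ∀ a b : ZMod q, a • w₀ + b • w₁ = 0 → a = 0 ∧ b = 0 := by
    intro a b hab
    have h1' : a • w₀ ∈ W 1 := by
      have : a • w₀ = -(b • w₁) := eq_neg_of_add_eq_zero_left hab
      rw [this]
      exact (W 1).neg_mem ((W 1).smul_mem b hw₁)
    have h2' : a • w₀ = 0 := by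
      have := Submodule.disjoint_def.mp hdisj (a • w₀) ((W 0).smul_mem a hw₀) h1'
      exact this
    have ha : a = 0 := by
      rcases smul_eq_zero.mp h2' with h | h
      · exact h
      · exact absurd h hw₀ne'
    rw [h2', zero_add] at hab
    have hb : b = 0 := by
      rcases smul_eq_zero.mp hab with h | h
      · exact h
      · exact absurd h hw₁ne
    exact ⟨ha, hb⟩
  have hinj : Function.Injective f := by
    rw [← LinearMap.ker_eq_bot, LinearMap.ker_eq_bot']
    intro u hu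
    rw [hf] at hu
    obtain ⟨ha, hb⟩ := hcomp _ _ hu
    funext i
    fin_cases i
    · exact ha
    · exact hb
  have hsurj : Function.Surjective f := by
    intro v
    have hv : v ∈ W 0 ⊔ W 1 := by
      have hle : iSup W ≤ W 0 ⊔ W 1 := by
        apply iSup_le
        intro i
        fin_cases i
        · exact le_sup_left
        · exact le_sup_right
      apply hle
      rw [hsup]
      exact Submodule.mem_top
    obtain ⟨a, ha, b, hb, rfl⟩ := Submodule.mem_sup.mp hv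
    obtain ⟨c, rfl⟩ := hsp0 a ha
    obtain ⟨d, rfl⟩ := hsp1 b hb
    exact ⟨![c, d], by rw [hf]; simp⟩
  let e' : (Fin 2 → ZMod q) ≃ₗ[ZMod q] V := LinearEquiv.ofBijective f ⟨hinj, hsurj⟩
  have he' : ∀ u, e' u = u 0 • w₀ + u 1 • w₁ := fun u => rfl
  have hesymm : ∀ u, e'.symm (u 0 • w₀ + u 1 • w₁) = u := by
    intro u
    rw [← he' u, LinearEquiv.symm_apply_apply]
  have hesymm' : ∀ a b : ZMod q, e'.symm (a • w₀ + b • w₁) = ![a, b] := by
    intro a b
    have := hesymm ![a, b]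
    simpa using this
  refine ⟨e'.symm, ?_, ?_, ?_, ?_⟩
  · intro v
    obtain ⟨u, rfl⟩ := e'.surjective v
    rw [LinearEquiv.symm_apply_apply, he']
    constructor
    · intro hv
      have h1' : u 1 • w₁ ∈ W 0 := by
        have : u 1 • w₁ = (u 0 • w₀ + u 1 • w₁) - u 0 • w₀ := by abel
        rw [this]
        exact (W 0).sub_mem hv ((W 0).smul_mem _ hw₀)
      have h2' : u 1 • w₁ = 0 :=
        Submodule.disjoint_def.mp hdisj _ h1' ((W 1).smul_mem _ hw₁)
      rcases smul_eq_zero.mp h2' with h | h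
      · exact h
      · exact absurd h hw₁ne
    · intro hu
      rw [hu, zero_smul, add_zero]
      exact (W 0).smul_mem _ hw₀
  · intro v
    obtain ⟨u, rfl⟩ := e'.surjective v
    rw [LinearEquiv.symm_apply_apply, he']
    constructor
    · intro hv
      have h1' : u 0 • w₀ ∈ W 1 := by
        have : u 0 • w₀ = (u 0 • w₀ + u 1 • w₁) - u 1 • w₁ := by abel
        rw [this]
        exact (W 1).sub_mem hv ((W 1).smul_mem _ hw₁)
      have h2' : u 0 • w₀ = 0 :=
        Submodule.disjoint_def.mp hdisj _ ((W 0).smul_mem _ hw₀) h1'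
      rcases smul_eq_zero.mp h2' with h | h
      · exact h
      · exact absurd h hw₀ne'
    · intro hu
      rw [hu, zero_smul, zero_add]
      exact (W 1).smul_mem _ hw₁
  · intro h hh
    obtain ⟨α, hα⟩ := hsp0 (ρ h w₀) (hHW h hh 0 w₀ hw₀)
    obtain ⟨β, hβ⟩ := hsp1 (ρ h w₁) (hHW h hh 1 w₁ hw₁)
    have hα0 : α ≠ 0 := by
      intro h0'
      rw [h0', zero_smul] at hα
      apply hw₀ne'
      have : ρ h w₀ = ρ h 0 := by rw [map_zero]; exact hα
      exact (ρ h).injective this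
    have hβ0 : β ≠ 0 := by
      intro h0'
      rw [h0', zero_smul] at hβ
      apply hw₁ne
      have : ρ h w₁ = ρ h 0 := by rw [map_zero]; exact hβ
      exact (ρ h).injective this
    refine ⟨α, β, hα0, hβ0, ?_⟩
    intro u
    rw [LinearEquiv.symm_symm, he', map_add, map_smul, map_smul, hα, hβ, smul_smul, smul_smul,
      mul_comm (u 0), mul_comm (u 1)]
    exact hesymm' _ _
  · refine ⟨g₀, hg₀H, ?_⟩
    intro u
    rw [LinearEquiv.symm_symm, he', map_add, map_smul, map_smul, hg₀w₁, ← hw₁def, add_comm]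
    exact hesymm' _ _

end Cfsg.Agent.Lib.Helper41_HT_TF1
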