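import Mathlib

/-!
# J2 on 100 points: raw data and kernel checks (helper41)

Ten "letters": letters `0..4` are generators `z, x, y, h, c` of a permutation group on `Fin 100`
(constructed as a rank-3 extension of `U_3(3)`), letters `5..9` their inverses.  A permutation is
stored as a natural number whose `i`-th 7-bit digit is the image of `i`.  Words are lists of
letters; `evalW` evaluates a word at a point entirely inside `ℕ`, so that the kernel can run the
Schreier--Sims sifting quickly.
-/

set_option autoImplicit false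

namespace Cfsg.Agent.Lib.Helper41_J2data

/-- the `i`-th 7-bit digit of `N` -/
def look (N i : ℕ) : ℕ := (N >>> (7 * i)) &&& 127

/-- letters -/
abbrev L := Fin 10

/-- the ten tables -/
def tbl : L → ℕ
  | 0 => 2814842865787569557663727147728582220217874394509014800638597421639398629723824151778527685967357761021218480783587868914703585025023645529333289383519183000498807558746686176958489827176786439632094697263186048
  | 1 => 1577553839991381396387593818064031038745280267869682575148895101123581809293363748457993096013027971530352012395982820292103463037224708793741047010468348326930884470760050768529913264416436145057814363819344000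
  | 2 => 1671928313708923005551660751558223187211108242766265467237212828761393304812091704175483984147537949003048808911157752027572229529580902730056960606764625352578219326752280635095526463638965364939461984491077760
  | 3 => 3483260634158994770683017244360522659189930034128281932607223660952550957692008808597074144356295304971787287422173452521261211571362510980363963450337860588048995135011999052516673529900724155581697421779993600
  | 4 => 866411296398526251823893797713819306775346586134404987699409461754202185042331077070716708998105824059221745053569384018581625019269723255716341785672911132069640275702684968951616049400711356043663557612127307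
  | 5 => 3726677173565888222841478968403480900476495756890876196277439751351711262454125304688836464351441293849648653230557429657500002669960353182770822059567291835868292005490351510535925334206660885326326151745044608
  | 6 => 1577553839991381396387593818064031038745280267869682575148895101123581809293363748457993096013027971530352012395982820292103463037224708793741047010468348326930884470760050768529913264416436145057814363819344000
  | 7 => 2734900634246595655549286742409425002861754591587435098645067128078478787072106449643433717199422531004111412274675569496500663342801062749285045064222257252281244076047802792461004419175792680464299674432602240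
  | 8 => 2115667066347680146610148678924038266125719433050325691068293655805826185657726522560441859963823485213199536303525946220439893315935633449536424551875542183700799508157298661338195334741188679748819590353979264
  | 9 => 1120043204686623865916127418910072595657883842810074806080821880094450273178857685590900015038326104114145638088976047759319894628291344126372501797219283137707383819539083618361091206201300487933107319211738187

/-- action of a letter on a point -/
def app (k : L) (i : ℕ) : ℕ := look (tbl k) i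

/-- the inverse letter -/
def inv (k : L) : L := k + 5

/-- evaluate a word (leftmost letter applied last) -/
def evalW : List L → ℕ → ℕ
  | [], i => i
  | k :: w, i => app k (evalW w i)

/-- the inverse word -/
def invW (w : List L) : List L := (w.map inv).reverse

/-- words from lists of numerals -/
def mkW (l : List ℕ) : List L := l.map (Fin.ofNat 10)

/-- base points -/
def base : ℕ → ℕ
  | 0 => 0
  | 1 => 1
  | 2 => 37
  | _ => 2

/-- number of generators (a prefix of the letters) used at each level -/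
def ns : ℕ → ℕ
  | 0 => 5
  | 1 => 4
  | 2 => 3
  | 3 => 1
  | _ => 0

/-- bitmasks of the basic orbits -/
def mask : ℕ → ℕ
  | 0 => 1267650600228229401496703205375
  | 1 => 137438953470
  | 2 => 787059930818407948496662429696
  | 3 => 36900
  | _ => 0

/-- membership in the basic orbit -/
def inOrb (lvl p : ℕ) : Bool := (mask lvl).testBit p

/-- transversal words, as numerals -/
def trwTab : List (List (List ℕ)) := [
  [[],[4,2,4,3,3,0,4],[0,4,1,0,0,4],[4,3,1,0,4],[4,3,1,4],[4,2,3,4],[4,2,1,2,4],[0,4,1,0,4],[2,4,3,3,0,4],[4,3,0,0,4],[4,1,0,1,4],[3,0,4,1,0,4],[4,1,0,0,4],[0,0,4,3,1,4],[1,4,2,1,4],[1,4,2,2,1,4],[3,4,3,1,0,4],[2,4,3,1,4],[4,0,3,1,4],[0,4,3,1,4],[2,4,3,0,0,4],[4,3,3,0,4],[4,3,3,2,4],[0,4,3,0,0,4],[4,1,0,4],[4,1,2,4],[1,4,3,1,4],[3,4,3,3,0,4],[3,4,1,0,4],[4,3,4,0,0,4],[4,3,0,2,4],[4,2,1,4],[4,2,2,1,4],[0,4,1,2,4],[3,4,2,1,4],[2,4,2,3,4],[4,1,3,2,4],[4,1,3,1,4],[0,3,1,0,4],[2,1,3,1,4],[3,3,1,0,4],[4,1,4],[1,4],[0,2,4,1,4],[1,3,0,4],[1,0,4],[3,1,4],[3,4,1,4],[2,4,1,4],[0,1,4],[3,0,3,4],[3,0,4],[0,4,1,4],[3,1,0,4],[0,3,4,1,4],[0,1,3,0,4],[2,1,4],[0,3,1,4],[1,2,4],[1,3,2,4],[1,3,1,4],[3,0,0,4],[4,1,3,0,4],[3,4],[0,3,2,4],[3,3,2,4],[0,0,4,2,4],[1,3,4],[3,1,3,4],[3,0,2,4],[4,4,1,4],[0,3,4],[1,3,1,0,4],[3,2,3,1,4],[2,3,1,4],[4],[4,1,3,4],[2,3,3,1,4],[2,0,1,4],[3,3,1,4],[2,1,2,4],[0,2,4],[2,4],[4,0,0,4],[0,4],[3,4,4,1,4],[2,2,1,4],[1,0,0,4],[2,3,0,0,4],[4,2,4],[2,3,0,4],[3,4,0,0,4],[2,3,4],[0,4,2,4],[3,3,0,2,4],[3,2,1,4],[3,2,4],[0,0,4],[1,0,1,4],[3,3,0,4]],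
  [[],[],[1,3],[3,1,0,3],[3,1,3],[1,0,3],[1,2,3],[3,1,2,3],[3],[3,0,0,3],[2,2,1,3],[2,1,3,1,3],[2,1,3],[0,0,3,1,3],[0,0,3],[3,3],[3,3,1,0,3],[2,3,1,3],[0,0,0,3],[0,3,1,3],[2,3,0,0,3],[0,3],[3,2,3],[0,3,0,0,3],[2,2,1,0,3],[2,1,2,3],[1,3,1,3],[2,3],[2,0,3,0,0,3],[3,1,3,2,3],[3,0,2,3],[1,0,0,3],[1,3,3],[1,3,2,3],[0,2,3],[2,1,0,3],[2,3,2,3],[],[],[],[],[],[],[],[],[],[],[],[],[],[],[],[],[],[],[],[],[],[],[],[],[],[],[],[],[],[],[],[],[],[],[],[],[],[],[],[],[],[],[],[],[],[],[],[],[],[],[],[],[],[],[],[],[],[],[],[],[],[],[]],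
  [[],[],[],[],[],[],[],[],[],[],[],[],[],[],[],[],[],[],[],[],[],[],[],[],[],[],[],[],[],[],[],[],[],[],[],[],[],[],[1,2,1],[0,1,2],[2,2,1],[1,2,2,0,0,1],[],[1,2,2,1],[1,2,0,0,1],[],[2,2,0,1],[2,0,1,2,1],[0,1,2,1],[],[0,0,1,2],[2,0,0,1],[2,1,2,1,0,2],[0,1,2,2,1],[1,2],[1,0,1,2,1],[],[2,0,1],[],[1,2,1,0,2],[1,2,2,0,1],[1,2,1,0,1],[0,1,2,2,0,1],[],[1,0,2,1],[1,0,2],[1],[],[0,2,1],[0,2],[],[],[2,0,1,2],[0,1,0,2],[0,1],[],[2,1,0,1],[0,0,2],[],[1,0,0,1],[],[],[],[],[],[0,0,0,2],[],[],[1,0,0,2],[0,0,1],[2,2,0,0,1],[1,2,0,1],[],[1,0,1],[2],[2,1,0,2,1],[2,1,0,2],[],[],[2,1]],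
  [[],[],[],[],[],[0,0],[],[],[],[],[],[],[0,0,0],[],[],[0],[],[],[],[],[],[],[],[],[],[],[],[],[],[],[],[],[],[],[],[],[],[],[],[],[],[],[],[],[],[],[],[],[],[],[],[],[],[],[],[],[],[],[],[],[],[],[],[],[],[],[],[],[],[],[],[],[],[],[],[],[],[],[],[],[],[],[],[],[],[],[],[],[],[],[],[],[],[],[],[],[],[],[],[]]]

/-- transversal word of the point `p` at level `lvl` -/
def trw (lvl p : ℕ) : List L := mkW ((trwTab.getD lvl []).getD p [])

/-- words in the generators of the point stabiliser moving `37` to the points of the 63-orbit -/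
def trGTab : List (List ℕ) := [
  [],[],[],[],[],[],[],[],[],[],[],[],[],[],[],[],[],[],[],[],[],[],[],[],[],[],[],[],[],[],[],[],[],[],[],[],[],[],[3,3],[0,1,2],[1,3],[0,2,3],[3,1,0,0,1],[3],[3,0,1,2],[3,1,3],[2,2,0,1],[1,3,0,1],[1,2,3],[2,3,1],[3,3,1],[0,1,3],[0,0,2,3],[0,3],[1,2],[2,3],[3,1,0,3],[2,0,1],[1,0,3,2],[3,0,0,1],[3,0,2,1],[1,2,1,0,1],[3,2,1,0,1],[1,2,3,2],[1,0,2,1],[1,0,2],[1],[2,3,2],[0,2,1],[0,2],[3,2,3],[3,1],[1,0,3],[3,0,1],[0,1],[2,3,2,1],[2,1,0,1],[0,0,2],[2,2,3,1],[1,0,0,1],[3,3,0,1],[3,2],[0,3,2],[0,3,3,0,1],[3,2,1],[1,3,3,1],[3,2,3,3],[0,3,1],[3,2,0,1],[0,0,1],[2,0,1,3],[2,3,3],[1,3,3,0,1],[1,0,1],[2],[0,3,2,0,1],[2,1,0,2],[0,3,2,1],[0,0,3,1],[2,1]]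

/-- word moving `37` to `p` inside the stabiliser of `0` -/
def trG (p : ℕ) : List L := mkW (trGTab.getD p [])

/-- is the word the identity on all 100 points? -/
def isOneW (w : List L) : Bool := (List.range 100).all fun i => evalW w i == i

/-- sifting a word through the levels `lvl, lvl+1, …` -/
def siftW : ℕ → ℕ → List L → Bool
  | 0, _, w => isOneW w
  | fuel + 1, lvl, w =>
    inOrb lvl (evalW w (base lvl)) &&
      siftW fuel (lvl + 1) (invW (trw lvl (evalW w (base lvl))) ++ w)

/-- the four blocks `u₀, u₀⁻¹, u₁, u₁⁻¹` where `u₀ = x y` has order 7 and `u₁ = c u₀ c⁻¹` -/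
def blockW : ℕ → List L
  | 0 => mkW [1,2]
  | 1 => mkW [7,6]
  | 2 => mkW [4,1,2,9]
  | _ => mkW [4,7,6,9]

/-- each generator as a product of blocks -/
def ncTab : List (List ℕ) := [
  [3,0,0,0,3,1,3,1,2],
  [0,2,1,1,1,2,0,2,0,3,0,0],
  [1,1,2,1,3,1,3,0,0,0,3],
  [3,1,2,2,1,1,3,1,3,1,1,2,0],
  [0,0,3,3,3,1,3,1,1,2,0,0,2,2,0,2,2]]

/-- the block decomposition of generator `j` -/
def ncB (j : ℕ) : List ℕ := ncTab.getD j []

/-! ### kernel checks -/

set_option maxRecDepth 100000 in
theorem valid : ∀ k : L, ∀ i : Fin 100,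
    app k i.val < 100 ∧ app (inv k) (app k i.val) = i.val := by
  decide +kernel

set_option maxRecDepth 100000 in
theorem sift_all : ∀ lvl < 4, ∀ j : L, j.val < ns lvl → ∀ p < 100, inOrb lvl p = true →
    siftW (3 - lvl) (lvl + 1) (invW (trw lvl (app j p)) ++ j :: trw lvl p) = true := by
  decide +kernel

set_option maxRecDepth 100000 in
theorem trw_lt : ∀ lvl < 4, ∀ p < 100, ∀ j ∈ trw lvl p, j.val < ns lvl := by
  decide +kernel

set_option maxRecDepth 100000 in
theorem gen_fix : ∀ lvl < 4, ∀ j : L, j.val < ns (lvl + 1) → app j (base lvl) = base lvl := by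
  decide +kernel

set_option maxRecDepth 100000 in
theorem orb_closed : ∀ lvl < 4, ∀ j : L, j.val < ns lvl → ∀ p < 100, inOrb lvl p = true →
    inOrb lvl (app j p) = true := by
  decide +kernel

set_option maxRecDepth 100000 in
theorem tr_base : ∀ lvl < 4, ∀ p < 100, inOrb lvl p = true →
    evalW (trw lvl p) (base lvl) = p := by
  decide +kernel

set_option maxRecDepth 100000 in
theorem tr_one : ∀ lvl < 4, trw lvl (base lvl) = [] := by
  decide +kernel

set_option maxRecDepth 100000 in
theorem base_mem : ∀ lvl < 4, base lvl < 100 ∧ inOrb lvl (base lvl) = true := by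
  decide +kernel

/-- sizes of the basic orbits -/
def orbCard : ℕ → ℕ
  | 0 => 100
  | 1 => 36
  | 2 => 42
  | 3 => 4
  | _ => 0

set_option maxRecDepth 100000 in
theorem orb_card : ∀ lvl < 4,
    ((Finset.univ : Finset (Fin 100)).filter (fun p => inOrb lvl p.val = true)).card =
      orbCard lvl := by
  decide +kernel

set_option maxRecDepth 100000 in
theorem trG_ok : ∀ p < 100, ((p == 0) || inOrb 1 p) = false →
    (∀ j ∈ trG p, j.val < 4) ∧ evalW (trG p) 37 = p := by
  decide +kernel

set_option maxRecDepth 100000 in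
theorem x7_pow : isOneW (mkW [1,2,1,2,1,2,1,2,1,2,1,2,1,2]) = true := by
  decide +kernel

set_option maxRecDepth 100000 in
theorem x7_fix : ∀ p < 100, evalW (mkW [1,2]) p = p → p = 0 ∨ p = 1 := by
  decide +kernel

set_option maxRecDepth 100000 in
theorem x7_fix0 : evalW (mkW [1,2]) 0 = 0 := by
  decide +kernel

set_option maxRecDepth 100000 in
theorem nc_ok : ∀ j : L, j.val < 5 → ∀ p < 100,
    evalW ((ncB j.val).flatMap blockW) p = app j p := by
  decide +kernel

end Cfsg.Agent.Lib.Helper41_J2data
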