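import Mathlib

/-!
# Verified Schreier–Sims steps (helper56)

`schreier_step`: if `O` is a finite set of points containing `b`, closed under a generating set `S`,
`tr ω` is an element mapping `b` to `ω`, and every Schreier generator `(tr (s ω))⁻¹ * s * tr ω`
lies in a subgroup `K'`, then every `g ∈ closure S` satisfies `g b ∈ O` and `(tr (g b))⁻¹ * g ∈ K'`.

`card_closure_eq`: under the additional natural hypotheses, `|closure S| = |O| * |K'|`.

Also a generic lemma turning a stabilizer chain with full orbits into multiple transitivity.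
-/

set_option autoImplicit false

namespace Cfsg.Agent.Lib.Helper56_SchreierSims

open Equiv

variable {Ω : Type*}

/-- One step of Schreier–Sims verification (Schreier's lemma in the form needed). -/
theorem schreier_step (S : Set (Perm Ω)) (K' : Subgroup (Perm Ω)) (b : Ω) (O : Finset Ω)
    (tr : Ω → Perm Ω) (hb : b ∈ O) (htr1 : tr b = 1)
    (hOS : ∀ s ∈ S, ∀ ω ∈ O, s ω ∈ O)
    (hsch : ∀ s ∈ S, ∀ ω ∈ O, (tr (s ω))⁻¹ * s * tr ω ∈ K')
    {g : Perm Ω} (hg : g ∈ Subgroup.closure S) :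
    g b ∈ O ∧ (tr (g b))⁻¹ * g ∈ K' := by
  induction hg using Subgroup.closure_induction_left with
  | one =>
    refine ⟨by simpa using hb, ?_⟩
    simp [htr1, K'.one_mem]
  | mul_left s hs y _ ih =>
    obtain ⟨hyO, hyK⟩ := ih
    refine ⟨by simpa using hOS s hs _ hyO, ?_⟩
    have h1 := hsch s hs _ hyO
    have h2 : (tr ((s * y) b))⁻¹ * (s * y) = ((tr (s (y b)))⁻¹ * s * tr (y b)) * ((tr (y b))⁻¹ * y) := by
      rw [Perm.mul_apply]; group
    rw [h2]
    exact K'.mul_mem h1 hyK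
  | inv_mul_cancel s hs y _ ih =>
    obtain ⟨hyO, hyK⟩ := ih
    -- s restricts to a bijection of O
    have hinj : Set.InjOn (fun ω => s ω) (O : Set Ω) := fun a _ c _ h => s.injective h
    have hmaps : Set.MapsTo (fun ω => s ω) (O : Set Ω) (O : Set Ω) := fun ω hω => hOS s hs ω hω
    have hsurj : Set.SurjOn (fun ω => s ω) (O : Set Ω) (O : Set Ω) :=
      Finset.surjOn_of_injOn_of_card_le _ hmaps hinj le_rfl
    obtain ⟨ω', hω'O, hω'⟩ := hsurj hyO
    have hω'' : s⁻¹ (y b) = ω' := by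
      rw [Perm.inv_eq_iff_eq]; exact hω'.symm
    refine ⟨by rw [Perm.mul_apply, hω'']; exact hω'O, ?_⟩
    have h1 := hsch s hs ω' hω'O
    have hsω' : s ω' = y b := hω'
    rw [hsω'] at h1
    have h2 : (tr ((s⁻¹ * y) b))⁻¹ * (s⁻¹ * y) = ((tr (y b))⁻¹ * s * tr ω')⁻¹ * ((tr (y b))⁻¹ * y) := by
      rw [Perm.mul_apply, hω'']; group
    rw [h2]
    exact K'.mul_mem (K'.inv_mem h1) hyK

/-- The order of the group generated by `S` from one verified Schreier–Sims step. -/
theorem card_closure_eq (S : Set (Perm Ω)) (K' : Subgroup (Perm Ω)) (b : Ω) (O : Finset Ω)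
    (tr : Ω → Perm Ω) (hb : b ∈ O) (htr1 : tr b = 1)
    (htrK : ∀ ω ∈ O, tr ω ∈ Subgroup.closure S) (htrb : ∀ ω ∈ O, tr ω b = ω)
    (hOS : ∀ s ∈ S, ∀ ω ∈ O, s ω ∈ O)
    (hK'le : K' ≤ Subgroup.closure S) (hK'b : ∀ k ∈ K', k b = b)
    (hsch : ∀ s ∈ S, ∀ ω ∈ O, (tr (s ω))⁻¹ * s * tr ω ∈ K') :
    Nat.card (Subgroup.closure S) = O.card * Nat.card K' := by
  have key := fun {g : Perm Ω} (hg : g ∈ Subgroup.closure S) =>
    schreier_step S K' b O tr hb htr1 hOS hsch hg
  let e : Subgroup.closure S ≃ O × K' :=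
    { toFun := fun g => (⟨g.1 b, (key g.2).1⟩, ⟨(tr (g.1 b))⁻¹ * g.1, (key g.2).2⟩)
      invFun := fun p => ⟨tr p.1.1 * p.2.1,
        (Subgroup.closure S).mul_mem (htrK _ p.1.2) (hK'le p.2.2)⟩
      left_inv := by
        intro g
        apply Subtype.ext
        simp
      right_inv := by
        rintro ⟨⟨ω, hω⟩, ⟨k, hk⟩⟩
        have h1 : (tr ω * k) b = ω := by
          rw [Perm.mul_apply, hK'b k hk, htrb ω hω]
        apply Prod.ext
        · apply Subtype.ext
          exact h1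
        · apply Subtype.ext
          show (tr ((tr ω * k) b))⁻¹ * (tr ω * k) = k
          rw [h1]; group }
  rw [Nat.card_congr e, Nat.card_prod]
  simp

/-- The stabilizer of `b` in `closure S` is `K'`. -/
theorem stabilizer_eq (S : Set (Perm Ω)) (K' : Subgroup (Perm Ω)) (b : Ω) (O : Finset Ω)
    (tr : Ω → Perm Ω) (hb : b ∈ O) (htr1 : tr b = 1)
    (hOS : ∀ s ∈ S, ∀ ω ∈ O, s ω ∈ O)
    (hK'le : K' ≤ Subgroup.closure S) (hK'b : ∀ k ∈ K', k b = b)
    (hsch : ∀ s ∈ S, ∀ ω ∈ O, (tr (s ω))⁻¹ * s * tr ω ∈ K') :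
    Subgroup.closure S ⊓ MulAction.stabilizer (Perm Ω) b = K' := by
  apply le_antisymm
  · rintro g ⟨hg, hgb⟩
    have hgb' : g b = b := hgb
    have := (schreier_step S K' b O tr hb htr1 hOS hsch hg).2
    rw [hgb', htr1] at this
    simpa using this
  · intro k hk
    exact ⟨hK'le hk, hK'b k hk⟩

/-- Stepwise extension: from a stabilizer chain with full orbits to an element mapping the base
tuple to a given tuple. (Same argument as in `Cfsg.Agent.S0366` by helper7.) -/
theorem chain_exists {X : Type*} (G : Subgroup (Equiv.Perm X)) (k : ℕ) (a : Fin k ↪ X)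
    (h : ∀ (j : Fin k) (p : X), (∀ i, i < j → p ≠ a i) →
      ∃ g ∈ G, (∀ i, i < j → g (a i) = a i) ∧ g (a j) = p)
    (x : Fin k ↪ X) (j : ℕ) (hj : j ≤ k) :
    ∃ g ∈ G, ∀ i : Fin k, i.val < j → g (a i) = x i := by
  induction j with
  | zero => exact ⟨1, G.one_mem, fun i hi => absurd hi (Nat.not_lt_zero _)⟩
  | succ j ih =>
    obtain ⟨g, hg, hgx⟩ := ih (Nat.le_of_succ_le hj)
    have hjk : j < k := hj
    obtain ⟨u, hu, hufix, hua⟩ := h ⟨j, hjk⟩ (g⁻¹ (x ⟨j, hjk⟩)) (by
      intro i hi heq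
      have h1 : g (a i) = x i := hgx i hi
      have h2 : x ⟨j, hjk⟩ = x i := by
        rw [← h1, ← heq]; simp
      have := x.injective h2
      rw [← this] at hi
      exact lt_irrefl _ hi)
    refine ⟨g * u, G.mul_mem hg hu, fun i hi => ?_⟩
    rcases Nat.lt_succ_iff_lt_or_eq.mp hi with hi' | hi'
    · rw [Equiv.Perm.mul_apply, hufix i hi', hgx i hi']
    · have : i = ⟨j, hjk⟩ := Fin.ext hi'
      subst this
      rw [Equiv.Perm.mul_apply, hua]; simp

/-- A subgroup of a symmetric group with a stabilizer chain of length `k` with full orbits is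
`k`-transitive. -/
theorem multiply_pretransitive_of_chain {X : Type*} (G : Subgroup (Equiv.Perm X)) (k : ℕ)
    (a : Fin k ↪ X)
    (h : ∀ (j : Fin k) (p : X), (∀ i, i < j → p ≠ a i) →
      ∃ g ∈ G, (∀ i, i < j → g (a i) = a i) ∧ g (a j) = p) :
    MulAction.IsMultiplyPretransitive G X k := by
  rw [MulAction.isMultiplyPretransitive_iff]
  intro x y
  obtain ⟨g, hg, hgx⟩ := chain_exists G k a h x k le_rfl
  obtain ⟨g', hg', hgy⟩ := chain_exists G k a h y k le_rfl
  refine ⟨⟨g' * g⁻¹, G.mul_mem hg' (G.inv_mem hg)⟩, ?_⟩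
  ext i
  show (g' * g⁻¹) (x i) = y i
  rw [← hgx i i.isLt, ← hgy i i.isLt]
  simp

end Cfsg.Agent.Lib.Helper56_SchreierSims
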