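import Mathlib
import Cfsg.Agent.Lib.Helper56_SchreierSims
import Cfsg.Agent.Lib.Helper41_J2data

/-!
# J2 on 100 points: the verified stabiliser chain (helper41)

From the kernel checks of `Helper41_J2data` we derive: the group `K 5` generated by the five
generator letters has order `604800 = 100 · 36 · 42 · 4`, is transitive on `Fin 100`, the
subgroup `K 4` fixes the point `0` and is transitive on the basic orbit of size 36 and on its
complement of size 63.
-/

set_option autoImplicit false

namespace Cfsg.Agent.Lib.Helper41_J2chain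

open Equiv Cfsg.Agent.Lib.Helper41_J2data Cfsg.Agent.Lib.Helper56_SchreierSims

abbrev P := Perm (Fin 100)

theorem inv_inv (k : L) : inv (inv k) = k := by
  revert k; decide

/-- the permutation of a letter -/
def letterP (k : L) : P where
  toFun i := ⟨app k i.val, (valid k i).1⟩
  invFun i := ⟨app (inv k) i.val, (valid (inv k) i).1⟩
  left_inv i := Fin.ext (valid k i).2
  right_inv i := Fin.ext (by
    have h := (valid (inv k) i).2
    rw [inv_inv] at h
    exact h)

theorem letterP_apply (k : L) (i : Fin 100) : ((letterP k) i).val = app k i.val := rfl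

theorem letterP_inv (k : L) : letterP (inv k) = (letterP k)⁻¹ :=
  Equiv.ext fun _ => rfl

/-- the permutation of a word -/
def wordP (w : List L) : P := (w.map letterP).prod

theorem wordP_nil : wordP [] = 1 := rfl

theorem wordP_cons (k : L) (w : List L) : wordP (k :: w) = letterP k * wordP w := by
  simp [wordP]

theorem wordP_append (a b : List L) : wordP (a ++ b) = wordP a * wordP b := by
  simp [wordP]

theorem wordP_invW (w : List L) : wordP (invW w) = (wordP w)⁻¹ := by
  induction w with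
  | nil => simp [invW, wordP]
  | cons k w ih =>
    have h : invW (k :: w) = invW w ++ [inv k] := by simp [invW]
    rw [h, wordP_append, ih, wordP_cons (inv k), wordP_nil, mul_one, wordP_cons, mul_inv_rev,
      letterP_inv]

theorem wordP_apply (w : List L) (i : Fin 100) : ((wordP w) i).val = evalW w i.val := by
  induction w with
  | nil => rfl
  | cons k w ih =>
    rw [wordP_cons, Perm.mul_apply, letterP_apply, ih]
    rfl

theorem evalW_lt (w : List L) {i : ℕ} (hi : i < 100) : evalW w i < 100 := by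
  have := wordP_apply w ⟨i, hi⟩
  rw [← this]
  exact Fin.isLt _

theorem isOneW_sound {w : List L} (h : isOneW w = true) : wordP w = 1 := by
  ext i
  rw [wordP_apply]
  rw [isOneW, List.all_eq_true] at h
  have := h i.val (List.mem_range.mpr i.isLt)
  simpa using this

/-- The subgroup generated by the first `n` letters. -/
def K (n : ℕ) : Subgroup P := Subgroup.closure (letterP '' {j | j.val < n})

theorem K_mono {m n : ℕ} (h : m ≤ n) : K m ≤ K n := by
  apply Subgroup.closure_mono
  apply Set.image_mono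
  intro j hj
  exact lt_of_lt_of_le hj h

theorem letter_mem {n : ℕ} (j : L) (hj : j.val < n) : letterP j ∈ K n :=
  Subgroup.subset_closure ⟨j, hj, rfl⟩

theorem K_zero : K 0 = ⊥ := by
  rw [K]
  have : {j : L | j.val < 0} = ∅ := by
    ext j; simp
  rw [this, Set.image_empty, Subgroup.closure_empty]

theorem wordP_mem {n : ℕ} (w : List L) (hw : ∀ j ∈ w, j.val < n) : wordP w ∈ K n := by
  rw [wordP]
  apply Subgroup.list_prod_mem
  intro x hx
  rw [List.mem_map] at hx
  obtain ⟨j, hj, rfl⟩ := hx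
  exact letter_mem j (hw j hj)

theorem tr_mem {lvl p : ℕ} (hlvl : lvl < 4) (hp : p < 100) : wordP (trw lvl p) ∈ K (ns lvl) :=
  wordP_mem _ (trw_lt lvl hlvl p hp)

theorem ns_anti : ∀ lvl < 4, ns (lvl + 1) ≤ ns lvl := by decide

theorem ns_le : ∀ lvl, ns lvl ≤ 5 := by
  intro lvl
  rcases lvl with _ | _ | _ | _ | _ <;> simp [ns]

theorem base_lt (lvl : ℕ) : base lvl < 100 := by
  rcases lvl with _ | _ | _ | _ <;> simp [base]

theorem sift_sound : ∀ (fuel lvl : ℕ) (w : List L), lvl + fuel = 4 → siftW fuel lvl w = true →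
    wordP w ∈ K (ns lvl) := by
  intro fuel
  induction fuel with
  | zero =>
    intro lvl w _ hs
    rw [siftW] at hs
    rw [isOneW_sound hs]
    exact Subgroup.one_mem _
  | succ fuel ih =>
    intro lvl w hl hs
    rw [siftW, Bool.and_eq_true] at hs
    have hlvl : lvl < 4 := by omega
    have hp : evalW w (base lvl) < 100 := evalW_lt w (base_lt lvl)
    have h1 := ih (lvl + 1) _ (by omega) hs.2
    rw [wordP_append, wordP_invW] at h1
    have h2 : wordP w = wordP (trw lvl (evalW w (base lvl))) *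
        ((wordP (trw lvl (evalW w (base lvl))))⁻¹ * wordP w) := by group
    rw [h2]
    exact Subgroup.mul_mem _ (tr_mem hlvl hp) (K_mono (ns_anti lvl hlvl) h1)

/-- base points in `Fin 100` -/
def baseF (lvl : ℕ) : Fin 100 := ⟨base lvl, base_lt lvl⟩

/-- basic orbits -/
def orb (lvl : ℕ) : Finset (Fin 100) := Finset.univ.filter fun p => inOrb lvl p.val = true

theorem mem_orb {lvl : ℕ} {p : Fin 100} : p ∈ orb lvl ↔ inOrb lvl p.val = true := by
  simp [orb]

/-- transversals -/
def tr (lvl : ℕ) (ω : Fin 100) : P := wordP (trw lvl ω.val)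

theorem K_fix_base {lvl : ℕ} (hlvl : lvl < 4) : ∀ k ∈ K (ns (lvl + 1)), k (baseF lvl) = baseF lvl := by
  have hle : K (ns (lvl + 1)) ≤ MulAction.stabilizer P (baseF lvl) := by
    rw [K, Subgroup.closure_le]
    rintro x ⟨m, hm, rfl⟩
    apply Fin.ext
    exact gen_fix lvl hlvl m hm
  intro k hk
  exact hle hk

theorem tr_apply_base {lvl : ℕ} (hlvl : lvl < 4) {ω : Fin 100} (hω : ω ∈ orb lvl) :
    tr lvl ω (baseF lvl) = ω := by
  apply Fin.ext
  rw [tr, wordP_apply]
  exact tr_base lvl hlvl ω.val ω.isLt (mem_orb.mp hω)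

theorem step_hyps (lvl : ℕ) (hlvl : lvl < 4) :
    (∀ s ∈ letterP '' {j : L | j.val < ns lvl}, ∀ ω ∈ orb lvl, s ω ∈ orb lvl) ∧
    (∀ s ∈ letterP '' {j : L | j.val < ns lvl}, ∀ ω ∈ orb lvl,
      (tr lvl (s ω))⁻¹ * s * tr lvl ω ∈ K (ns (lvl + 1))) := by
  constructor
  · rintro s ⟨j, hj, rfl⟩ ω hω
    rw [mem_orb] at hω ⊢
    exact orb_closed lvl hlvl j hj ω.val ω.isLt hω
  · rintro s ⟨j, hj, rfl⟩ ω hω
    have h := sift_all lvl hlvl j hj ω.val ω.isLt (mem_orb.mp hω)
    have h2 := sift_sound (3 - lvl) (lvl + 1) _ (by omega) h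
    rw [wordP_append, wordP_invW, wordP_cons] at h2
    rw [mul_assoc]
    exact h2

theorem card_K_step (lvl : ℕ) (hlvl : lvl < 4) :
    Nat.card (K (ns lvl)) = orbCard lvl * Nat.card (K (ns (lvl + 1))) := by
  obtain ⟨h1, h2⟩ := step_hyps lvl hlvl
  have hb : baseF lvl ∈ orb lvl := mem_orb.mpr (base_mem lvl hlvl).2
  have htr1 : tr lvl (baseF lvl) = 1 := by
    show wordP (trw lvl (base lvl)) = 1
    rw [tr_one lvl hlvl]; rfl
  have := card_closure_eq (letterP '' {j : L | j.val < ns lvl}) (K (ns (lvl + 1))) (baseF lvl)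
    (orb lvl) (tr lvl) hb htr1 (fun ω _ => tr_mem hlvl ω.isLt)
    (fun ω hω => tr_apply_base hlvl hω) h1 (K_mono (ns_anti lvl hlvl))
    (K_fix_base hlvl) h2
  rw [orb, orb_card lvl hlvl] at this
  exact this

theorem card_K5 : Nat.card (K 5) = 604800 := by
  have h0 := card_K_step 0 (by norm_num)
  have h1 := card_K_step 1 (by norm_num)
  have h2 := card_K_step 2 (by norm_num)
  have h3 := card_K_step 3 (by norm_num)
  have h4 : Nat.card (K (ns 4)) = 1 := by
    show Nat.card (K 0) = 1
    rw [K_zero]; simp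
  simp only [ns, orbCard] at h0 h1 h2 h3 h4
  rw [h0, h1, h2, h3, h4]

/-- transitivity of `K 5` -/
theorem exists_K5 (ω : Fin 100) : ∃ g ∈ K 5, g 0 = ω := by
  have hm : tr 0 ω ∈ K (ns 0) := tr_mem (lvl := 0) (p := ω.val) (by norm_num) ω.isLt
  refine ⟨tr 0 ω, hm, ?_⟩
  have hω : ω ∈ orb 0 := by
    rw [mem_orb]
    have := orb_card 0 (by norm_num)
    have h2 : (Finset.univ.filter fun p : Fin 100 => inOrb 0 p.val = true) = Finset.univ := by
      apply Finset.eq_univ_of_card
      rw [this, Fintype.card_fin, orbCard]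
    have h3 : ω ∈ (Finset.univ.filter fun p : Fin 100 => inOrb 0 p.val = true) := by
      rw [h2]; exact Finset.mem_univ _
    exact (Finset.mem_filter.mp h3).2
  exact tr_apply_base (by norm_num) hω

theorem K4_fix : ∀ g ∈ K 4, g 0 = 0 := K_fix_base (lvl := 0) (by norm_num)

/-- `K 4` is transitive on the 36-orbit -/
theorem exists_K4_orb (ω : Fin 100) (hω : inOrb 1 ω.val = true) : ∃ g ∈ K 4, g 1 = ω :=
  have hm : tr 1 ω ∈ K (ns 1) := tr_mem (lvl := 1) (p := ω.val) (by norm_num) ω.isLt
  ⟨tr 1 ω, hm, tr_apply_base (lvl := 1) (by norm_num) (mem_orb.mpr hω)⟩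

/-- `K 4` is transitive on the 63-orbit -/
theorem exists_K4_far (ω : Fin 100) (h0 : ω ≠ 0) (hω : inOrb 1 ω.val = false) :
    ∃ g ∈ K 4, g 37 = ω := by
  have hcond : ((ω.val == 0) || inOrb 1 ω.val) = false := by
    rw [hω, Bool.or_false]
    simpa using fun h => h0 (Fin.ext h)
  obtain ⟨h1, h2⟩ := trG_ok ω.val ω.isLt hcond
  refine ⟨wordP (trG ω.val), wordP_mem _ h1, ?_⟩
  apply Fin.ext
  rw [wordP_apply]
  exact h2

end Cfsg.Agent.Lib.Helper41_J2chain
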