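import Cfsg.Agent.Lib.Helper6_MXDefs

/-!
# S4017 market (architect helper6), package MX-A2: `Q` is elementary abelian
-/

set_option autoImplicit false
open Cfsg.Agent.Lib.Helper6_MXDefs

namespace Cfsg.Agent.Lib.Helper41_MX_A2

variable {G : Type*} [Group G] [Finite G] {p a : ℕ} {Q : Subgroup G} {x : G}

/-- MX-A2. -/
theorem q_elem (h : Ctx0 G p a Q x) (hT : PTrans Q x) : PElem Q := by
  classical
  -- an involution of `Q`
  have h2 : 2 ∣ Nat.card Q := by
    rw [h.cardQ]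
    exact dvd_pow_self 2 (by have := h.ha; omega)
  have : Fact (Nat.Prime 2) := ⟨Nat.prime_two⟩
  obtain ⟨v0, hv0⟩ := exists_prime_orderOf_dvd_card' (G := Q) 2 h2
  have hv0sq : (v0 : G) * (v0 : G) = 1 := by
    have h1 : v0 ^ 2 = 1 := by rw [← hv0]; exact pow_orderOf_eq_one v0
    have h3 : ((v0 ^ 2 : Q) : G) = 1 := by rw [h1]; rfl
    rw [← h3, pow_two]
    rfl
  have hv0ne : (v0 : G) ≠ 1 := by
    intro h1
    have h3 : v0 = 1 := Subtype.ext h1
    rw [h3, orderOf_one] at hv0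
    omega
  have hsq : ∀ v ∈ Q, v * v = 1 := by
    intro v hv
    by_cases hv1 : v = 1
    · rw [hv1, mul_one]
    · obtain ⟨j, hj⟩ := hT (v0 : G) v0.2 hv0ne v hv hv1
      rw [← hj]
      calc x ^ j * (v0 : G) * (x ^ j)⁻¹ * (x ^ j * (v0 : G) * (x ^ j)⁻¹)
          = x ^ j * ((v0 : G) * (v0 : G)) * (x ^ j)⁻¹ := by group
        _ = 1 := by rw [hv0sq]; group
  refine ⟨hsq, ?_⟩
  intro v hv w hw
  have h1 := hsq (v * w) (Q.mul_mem hv hw)
  have h3 := hsq v hv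
  have h4 := hsq w hw
  have hw' : w⁻¹ = w := inv_eq_of_mul_eq_one_left h4
  have hv' : v⁻¹ = v := inv_eq_of_mul_eq_one_left h3
  have h5 : (v * w)⁻¹ = v * w := inv_eq_of_mul_eq_one_left h1
  rw [← h5, mul_inv_rev, hw', hv']

end Cfsg.Agent.Lib.Helper41_MX_A2
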