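import Cfsg.Agent.Lib.Helper6_MXDefs

/-!
# S4017 market (architect helper6), package MX-E1: `rstar`
-/

set_option autoImplicit false
open Cfsg.Agent.Lib.Helper6_MXDefs

namespace Cfsg.Agent.Lib.Helper41_MX_E1

variable {G : Type*} [Group G] [Finite G] {p a : ℕ} {Q : Subgroup G} {x : G}

/-- the closure of a set of pairwise commuting `p`-elements is a commutative `p`-group -/
theorem closure_comm_pgroup {G : Type*} [Group G] (p : ℕ) (S : Set G) (hS : ∀ g ∈ S, IsPEl p g)
    (hcomm : ∀ g ∈ S, ∀ g' ∈ S, g * g' = g' * g) :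
    (∀ r ∈ Subgroup.closure S, ∀ r' ∈ Subgroup.closure S, r * r' = r' * r) ∧
    IsPGroup p (Subgroup.closure S) := by
  have hc : ∀ r ∈ Subgroup.closure S, ∀ r' ∈ Subgroup.closure S, r * r' = r' * r := by
    intro r hr r' hr'
    have hI : IsMulCommutative (Subgroup.closure S) := Subgroup.isMulCommutative_closure hcomm
    have := hI.is_comm.comm (⟨r, hr⟩ : Subgroup.closure S) ⟨r', hr'⟩
    exact congrArg Subtype.val this
  refine ⟨hc, ?_⟩
  have hel : ∀ r ∈ Subgroup.closure S, IsPEl p r := by
    intro r hr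
    induction hr using Subgroup.closure_induction with
    | mem g hg => exact hS g hg
    | one => exact ⟨0, one_pow _⟩
    | mul g g' hg hg' ih ih' =>
      obtain ⟨k, hk⟩ := ih
      obtain ⟨k', hk'⟩ := ih'
      refine ⟨k + k', ?_⟩
      have hcm : Commute g g' := hc g hg g' hg'
      rw [hcm.mul_pow, pow_add, pow_mul, hk, one_pow, mul_comm (p ^ k), pow_mul, hk', one_pow,
        one_mul]
    | inv g hg ih =>
      obtain ⟨k, hk⟩ := ih
      exact ⟨k, by rw [inv_pow, hk, inv_one]⟩
  intro r
  obtain ⟨k, hk⟩ := hel r.1 r.2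
  exact ⟨k, Subtype.ext (by rw [Subgroup.coe_pow, hk]; rfl)⟩

/-- MX-E1. -/
theorem rstar (hF : UFacts G p a) : RStarProp G p a := by
  intro Q x h S hSp hScomm hSN g hg
  have F := hF Q x h
  obtain ⟨hRc, hRp⟩ := closure_comm_pgroup p S hSp hScomm
  have hgR : g ∈ Subgroup.closure S := Subgroup.subset_closure hg
  by_cases hbot : Subgroup.closure S = ⊥
  · rw [hbot, Subgroup.mem_bot] at hgR
    rw [hgR]
    exact Subgroup.one_mem _
  · have htop : Subgroup.closure S ≠ ⊤ := F.pgrp_ne _ hRp
    have hnorm := F.norm_ne _ hbot htop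
    have hle : NQ Q ≤ Subgroup.normalizer ((Subgroup.closure S : Subgroup G) : Set G) := by
      rw [Subgroup.le_normalizer_closure_iff]
      intro n hn s hs
      exact Subgroup.subset_closure (hSN n hn s hs)
    have hQle : Q ≤ Subgroup.normalizer ((Subgroup.closure S : Subgroup G) : Set G) :=
      le_trans Subgroup.le_normalizer hle
    have hx : x ∈ Subgroup.normalizer ((Subgroup.closure S : Subgroup G) : Set G) := hle h.xN
    have h1 := F.lemT _ hnorm hQle hx
    exact h1 (Subgroup.le_normalizer hgR)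

end Cfsg.Agent.Lib.Helper41_MX_E1
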