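import Cfsg.Agent.Lib.Helper6_MXDefs

/-!
# S4017 market (architect helper6), package MX-E3B4: `kl_nocomm`
-/

set_option autoImplicit false
open Cfsg.Agent.Lib.Helper6_MXDefs

namespace Cfsg.Agent.Lib.Helper41_MX_E3B4

variable {G : Type*} [Group G] [Finite G] {p a : ℕ} {Q : Subgroup G} {x : G}

/-- conjugates of `p`-elements are `p`-elements -/
theorem isPEl_conj {G : Type*} [Group G] {p : ℕ} (c : G) {g : G} (hg : IsPEl p g) :
    IsPEl p (c * g * c⁻¹) := by
  obtain ⟨k, hk⟩ := hg
  exact ⟨k, by rw [conj_pow, hk, mul_one, mul_inv_cancel]⟩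

/-- `Op p (c s c⁻¹) ≤ c (Op p s) c⁻¹` -/
theorem op_conj {G : Type*} [Group G] (p : ℕ) (c s : G) {z : G} (hz : z ∈ Op p (c * s * c⁻¹)) :
    c⁻¹ * z * c ∈ Op p s := by
  unfold Op at hz
  induction hz using Subgroup.closure_induction with
  | mem g hg =>
    apply Subgroup.subset_closure
    refine ⟨?_, ?_⟩
    · have h1 := hg.1
      calc c⁻¹ * g * c * s = c⁻¹ * (g * (c * s * c⁻¹)) * c := by group
        _ = c⁻¹ * ((c * s * c⁻¹) * g) * c := by rw [h1]
        _ = s * (c⁻¹ * g * c) := by group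
    · have := isPEl_conj (p := p) c⁻¹ hg.2
      rwa [inv_inv] at this
  | one =>
    have : c⁻¹ * 1 * c = 1 := by group
    rw [this]
    exact Subgroup.one_mem _
  | mul g g' _ _ ih ih' =>
    have : c⁻¹ * (g * g') * c = (c⁻¹ * g * c) * (c⁻¹ * g' * c) := by group
    rw [this]
    exact Subgroup.mul_mem _ ih ih'
  | inv g _ ih =>
    have : c⁻¹ * g⁻¹ * c = (c⁻¹ * g * c)⁻¹ := by group
    rw [this]
    exact Subgroup.inv_mem _ ih

/-- the elementwise commuting relation between `Op p s` and `Op p s'` -/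
def CommOp {G : Type*} [Group G] (p : ℕ) (s s' : G) : Prop :=
  ∀ z ∈ Op p s, ∀ z' ∈ Op p s', z * z' = z' * z

theorem commOp_symm {G : Type*} [Group G] {p : ℕ} {s s' : G} (h : CommOp p s s') :
    CommOp p s' s := fun z hz z' hz' => (h z' hz' z hz).symm

theorem commOp_conj {G : Type*} [Group G] {p : ℕ} {s s' : G} (h : CommOp p s s') (c : G) :
    CommOp p (c * s * c⁻¹) (c * s' * c⁻¹) := by
  intro z hz z' hz'
  have h1 := h _ (op_conj p c s hz) _ (op_conj p c s' hz')
  calc z * z' = c * ((c⁻¹ * z * c) * (c⁻¹ * z' * c)) * c⁻¹ := by group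
    _ = c * ((c⁻¹ * z' * c) * (c⁻¹ * z * c)) * c⁻¹ := by rw [h1]
    _ = z' * z := by group

/-- a four-group is `{1, t, u, t u}` -/
theorem four_cases {G : Type*} [Group G] [Finite G] (Q : Subgroup G) (hQ : Nat.card Q = 4)
    (hsq : ∀ v ∈ Q, v * v = 1) (t u : G) (ht : t ∈ Q) (hu : u ∈ Q) (ht1 : t ≠ 1) (hu1 : u ≠ 1)
    (hut : u ≠ t) : ∀ v ∈ Q, v = 1 ∨ v = t ∨ v = u ∨ v = t * u := by
  classical
  have htu1 : t * u ≠ 1 := by
    intro h
    apply hut
    have h1 := hsq t ht
    calc u = (t * t) * u := by rw [h1, one_mul]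
      _ = t * (t * u) := by group
      _ = t := by rw [h, mul_one]
  have htut : t * u ≠ t := by
    intro h
    apply hu1
    calc u = t⁻¹ * (t * u) := by group
      _ = 1 := by rw [h]; group
  have htuu : t * u ≠ u := by
    intro h
    apply ht1
    calc t = (t * u) * u⁻¹ := by group
      _ = 1 := by rw [h]; group
  have hA : ({1, t, u, t * u} : Finset G).card = 4 := by
    rw [Finset.card_insert_of_notMem, Finset.card_insert_of_notMem, Finset.card_pair]
    · exact fun h => htuu h.symm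
    · simp only [Finset.mem_insert, Finset.mem_singleton, not_or]
      exact ⟨fun h => hut h.symm, fun h => htut h.symm⟩
    · simp only [Finset.mem_insert, Finset.mem_singleton, not_or]
      exact ⟨fun h => ht1 h.symm, fun h => hu1 h.symm, fun h => htu1 h.symm⟩
  let _ : Fintype G := Fintype.ofFinite G
  have hsub : ({1, t, u, t * u} : Finset G) ⊆ (Q : Set G).toFinset := by
    intro v hv
    rw [Set.mem_toFinset]
    simp only [Finset.mem_insert, Finset.mem_singleton] at hv
    rcases hv with rfl | rfl | rfl | rfl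
    · exact Q.one_mem
    · exact ht
    · exact hu
    · exact Q.mul_mem ht hu
  have hcard : ((Q : Set G).toFinset).card = 4 := by
    rw [Set.toFinset_card, ← Nat.card_eq_fintype_card]
    exact hQ
  have heq := Finset.eq_of_subset_of_card_le hsub (by rw [hcard, hA])
  intro v hv
  have : v ∈ ({1, t, u, t * u} : Finset G) := by
    rw [heq, Set.mem_toFinset]
    exact hv
  simpa only [Finset.mem_insert, Finset.mem_singleton] using this

/-- MX-E3B4. -/
theorem kl_nocomm (hF : UFacts G p a) (hR : RStarProp G p a) : NoCommProp G p a := by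
  intro Q x h hII ha t ht ht1 u hu hu1 hut hcomm y hy
  have F := hF Q x h
  obtain ⟨hsq, hab⟩ := F.elem
  have hQ4 : Nat.card Q = 4 := by rw [h.cardQ, ha]; norm_num
  -- no swap
  have noswap : ∀ c ∈ NQ Q, ∀ s ∈ Q, ∀ s' ∈ Q, s ≠ 1 → s ≠ s' → c * s * c⁻¹ = s' →
      c * s' * c⁻¹ ≠ s := by
    intro c hc s hs s' hs' hs1 hss' h1 h2
    have h3 : c * (s * s') * c⁻¹ = s * s' := by
      calc c * (s * s') * c⁻¹ = (c * s * c⁻¹) * (c * s' * c⁻¹) := by group
        _ = s' * s := by rw [h1, h2]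
        _ = s * s' := hab s' hs' s hs
    have h4 : s * s' ≠ 1 := by
      intro h5
      apply hss'
      have h6 := hsq s hs
      calc s = s * (s * s') := by rw [h5, mul_one]
        _ = (s * s) * s' := by group
        _ = s' := by rw [h6, one_mul]
    have h5 := F.stab c hc (s * s') (Q.mul_mem hs hs') h4 h3 s hs
    apply hss'
    rw [← h1, h5]
    group
  -- from `CommOp t u` to `CommOp u (t * u)`
  have key : ∀ t ∈ Q, ∀ u ∈ Q, t ≠ 1 → u ≠ 1 → u ≠ t → CommOp p t u → CommOp p u (t * u) := by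
    intro t ht u hu ht1 hu1 hut hc
    obtain ⟨j, hj⟩ := F.trans t ht ht1 u hu hu1
    have hcN : x ^ j ∈ NQ Q := Subgroup.pow_mem _ h.xN j
    have hwQ : x ^ j * u * (x ^ j)⁻¹ ∈ Q := (hcN u).mp hu
    have hw1 : x ^ j * u * (x ^ j)⁻¹ ≠ 1 := by
      intro h1
      apply hu1
      calc u = (x ^ j)⁻¹ * (x ^ j * u * (x ^ j)⁻¹) * x ^ j := by group
        _ = 1 := by rw [h1]; group
    have hwu : x ^ j * u * (x ^ j)⁻¹ ≠ u := by
      intro h1
      apply hut
      have h2 : x ^ j * u * (x ^ j)⁻¹ = x ^ j * t * (x ^ j)⁻¹ := by rw [h1, hj]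
      calc u = (x ^ j)⁻¹ * (x ^ j * u * (x ^ j)⁻¹) * x ^ j := by group
        _ = (x ^ j)⁻¹ * (x ^ j * t * (x ^ j)⁻¹) * x ^ j := by rw [h2]
        _ = t := by group
    have hwt : x ^ j * u * (x ^ j)⁻¹ ≠ t :=
      noswap (x ^ j) hcN t ht u hu ht1 (Ne.symm hut) hj
    have h4 := four_cases Q hQ4 hsq t u ht hu ht1 hu1 hut _ hwQ
    have h5 : x ^ j * u * (x ^ j)⁻¹ = t * u := by
      rcases h4 with h4 | h4 | h4 | h4
      · exact absurd h4 hw1
      · exact absurd h4 hwt
      · exact absurd h4 hwu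
      · exact h4
    have h6 := commOp_conj hc (x ^ j)
    rwa [hj, h5] at h6
  have c_tu : CommOp p t u := hcomm
  have c_ut : CommOp p u t := commOp_symm c_tu
  have c_u_tu : CommOp p u (t * u) := key t ht u hu ht1 hu1 hut c_tu
  have c_t_tu : CommOp p t (t * u) := by
    have := key u hu t ht hu1 ht1 (Ne.symm hut) c_ut
    rwa [hab u hu t ht] at this
  have call : ∀ s ∈ Q, s ≠ 1 → ∀ s' ∈ Q, s' ≠ 1 → s ≠ s' → CommOp p s s' := by
    intro s hs hs1 s' hs' hs'1 hss'
    have h4 := four_cases Q hQ4 hsq t u ht hu ht1 hu1 hut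
    rcases h4 s hs with e | e | e | e
    · exact absurd e hs1
    · rcases h4 s' hs' with e' | e' | e' | e'
      · exact absurd e' hs'1
      · exact absurd (e.trans e'.symm) hss'
      · rw [e, e']; exact c_tu
      · rw [e, e']; exact c_t_tu
    · rcases h4 s' hs' with e' | e' | e' | e'
      · exact absurd e' hs'1
      · rw [e, e']; exact c_ut
      · exact absurd (e.trans e'.symm) hss'
      · rw [e, e']; exact c_u_tu
    · rcases h4 s' hs' with e' | e' | e' | e'
      · exact absurd e' hs'1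
      · rw [e, e']; exact commOp_symm c_t_tu
      · rw [e, e']; exact commOp_symm c_u_tu
      · exact absurd (e.trans e'.symm) hss'
  -- the set `S`
  set S : Set G := {g | IsPEl p g ∧ ∃ s ∈ Q, s ≠ 1 ∧ g * s = s * g} with hS
  have hSN := hR Q x h S (fun g hg => hg.1)
    (by
      rintro g ⟨hgp, s, hs, hs1, hgs⟩ g' ⟨hgp', s', hs', hs'1, hgs'⟩
      have hgO : g ∈ Op p s := Subgroup.subset_closure ⟨hgs, hgp⟩
      have hgO' : g' ∈ Op p s' := Subgroup.subset_closure ⟨hgs', hgp'⟩
      by_cases hss' : s = s'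
      · subst hss'
        exact h.abel (Op p s) (F.ot s hs hs1).1 g hgO g' hgO'
      · exact call s hs hs1 s' hs' hs'1 hss' g hgO g' hgO')
    (by
      rintro n hn g ⟨hgp, s, hs, hs1, hgs⟩
      refine ⟨isPEl_conj n hgp, n * s * n⁻¹, (hn s).mp hs, ?_, ?_⟩
      · intro h1
        apply hs1
        calc s = n⁻¹ * (n * s * n⁻¹) * n := by group
          _ = 1 := by rw [h1]; group
      · calc n * g * n⁻¹ * (n * s * n⁻¹) = n * (g * s) * n⁻¹ := by group
          _ = n * (s * g) * n⁻¹ := by rw [hgs]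
          _ = n * s * n⁻¹ * (n * g * n⁻¹) := by group)
  -- generators of `Op p t` are trivial
  have hgen : ∀ g : G, g * t = t * g ∧ IsPEl p g → g = 1 := by
    rintro g ⟨hgt, hgp⟩
    have hgN : g ∈ NQ Q := hSN g ⟨hgp, t, ht, ht1, hgt⟩
    have hfix : g * t * g⁻¹ = t := by rw [hgt]; group
    exact hII g hgp (F.stab g hgN t ht ht1 hfix)
  have hle : Op p t ≤ ⊥ := by
    unfold Op
    rw [Subgroup.closure_le]
    intro g hg
    exact Subgroup.mem_bot.mpr (hgen g hg)
  exact Subgroup.mem_bot.mp (hle hy)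

end Cfsg.Agent.Lib.Helper41_MX_E3B4
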