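import Mathlib
import Cfsg.Agent.Lib.Helper32_ND4Defs
import Cfsg.Agent.Lib.Helper82_ND4_DPERP

set_option autoImplicit false
set_option linter.unusedSimpArgs false
set_option linter.unusedVariables false
set_option linter.unusedSectionVars false

/-!
# ND4 market (architect helper32), package HZ, auxiliary form

`HZ_aux`: if all the Siegel parts at singular vectors of `A'` stay inside `A'`, then `M` stabilises
`A'` -- with the statements of the packages STABFIX, NSORTH and SINGSPAN as hypotheses (DPERP is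
imported).
-/

namespace Cfsg.Agent.Lib.Helper41_ND4_HZaux

open Module Cfsg.Agent.Lib.Helper94_Symp Cfsg.Agent.Lib.Helper94_OrthSmall
  Cfsg.Agent.Lib.Helper94_OrthSiegel Cfsg.Agent.Lib.Helper94_OrthSiegel2
  Cfsg.Agent.Lib.Helper94_OrthPara Cfsg.Agent.Lib.Helper94_OrthVec
  Cfsg.Agent.Lib.Helper94_OrthNondeg Cfsg.Agent.Lib.Helper94_OrthRefl
  Cfsg.Agent.Lib.Helper32_ND4Defs

variable {F V : Type*} [Field F] [AddCommGroup V] [Module F V]
variable [Finite F] [FiniteDimensional F V] {Q : V → F} {B : LinearMap.BilinForm F V}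
  {G M : Subgroup (V ≃ₗ[F] V)} {A A' : Submodule F V}

/-- HZ with the statements of STABFIX, NSORTH, SINGSPAN as hypotheses. -/
theorem HZ_aux (hC : NCtx Q B G M A A') (h4 : 4 ≤ finrank F A') (hlt : finrank F A < finrank F A')
    (hSTABFIX : ∀ {g : V ≃ₗ[F] V}, g ∈ M → ∀ {w : V}, w ∈ A' → w ≠ 0 → Q w = 0 → g w ∈ A' →
      ∀ y ∈ A', g y ∈ A')
    (hNSORTH : ∀ (S : Submodule F V), (∀ a ∈ S, a ≠ 0 → ∃ x ∈ S, B x a ≠ 0) → 3 ≤ finrank F S →
      ∀ {u : V}, u ∈ S → u ≠ 0 → Q u = 0 → ∃ v ∈ S, B u v = 0 ∧ Q v ≠ 0)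
    (hSINGSPAN : ∀ (S : Submodule F V), (∀ a ∈ S, a ≠ 0 → ∃ x ∈ S, B x a ≠ 0) →
      3 ≤ finrank F S → ∀ (T : Submodule F V), (∀ u ∈ S, Q u = 0 → u ∈ T) → S ≤ T) :
    ∀ m ∈ M, ∀ y ∈ A', m y ∈ A' := by
  intro m hm
  by_contra hcon
  push Not at hcon
  obtain ⟨y₀, hy₀, hmy₀⟩ := hcon
  have hQs := hC.hQs
  have hQp := hC.hQp
  have hsymm := hC.hsymm
  have h2 := hC.h2
  have hmO : m ∈ oG Q := hC.hMO hm
  -- the image `X = m A'`
  set X : Submodule F V := A'.map (m : V →ₗ[F] V) with hX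
  have hmemX : ∀ x, x ∈ X ↔ ∃ y ∈ A', m y = x := by
    intro x
    rw [hX, Submodule.mem_map]
    rfl
  have hdimX : finrank F X = finrank F A' := LinearEquiv.finrank_map_eq m A'
  have hXnd : ∀ a ∈ X, a ≠ 0 → ∃ x ∈ X, B x a ≠ 0 := by
    intro a ha ha0
    obtain ⟨y, hy, rfl⟩ := (hmemX a).mp ha
    have hy0 : y ≠ 0 := by
      rintro rfl
      exact ha0 (map_zero m)
    obtain ⟨x, hx, hxy⟩ := hC.hA'nd y hy hy0
    exact ⟨m x, (hmemX _).mpr ⟨x, hx, rfl⟩, by rw [oG_B Q B hQp hmO]; exact hxy⟩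
  -- (D)
  have hD : ∀ x ∈ X, x ∈ A' → Q x = 0 → x = 0 := by
    intro x hxX hxA' hQx
    by_contra hx0
    obtain ⟨w, hw, rfl⟩ := (hmemX x).mp hxX
    have hw0 : w ≠ 0 := by
      rintro rfl
      exact hx0 (map_zero m)
    have hQw : Q w = 0 := by
      rw [← hmO w]
      exact hQx
    exact hmy₀ (hSTABFIX hm hw hw0 hQw hxA' y₀ hy₀)
  -- (E)
  have hE : ∀ h ∈ M, ∀ w' ∈ X, w' ≠ 0 → Q w' = 0 → h w' = w' → ∀ x ∈ X, h x ∈ X := by
    intro h hh w' hw'X hw'0 hQw' hhw' x hx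
    obtain ⟨w, hw, rfl⟩ := (hmemX w').mp hw'X
    have hw0 : w ≠ 0 := by
      rintro rfl
      exact hw'0 (map_zero m)
    have hQw : Q w = 0 := by
      rw [← hmO w]
      exact hQw'
    have hgM : m⁻¹ * h * m ∈ M := M.mul_mem (M.mul_mem (M.inv_mem hm) hh) hm
    have hgw : (m⁻¹ * h * m) w = w := by
      rw [LinearEquiv.mul_apply, LinearEquiv.mul_apply, hhw']
      exact inv_apply_apply' m w
    have hst := hSTABFIX hgM hw hw0 hQw (by rw [hgw]; exact hw)
    obtain ⟨y, hy, rfl⟩ := (hmemX x).mp hx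
    refine (hmemX _).mpr ⟨(m⁻¹ * h * m) y, hst y hy, ?_⟩
    rw [LinearEquiv.mul_apply, LinearEquiv.mul_apply]
    exact apply_inv_apply' m _
  -- Step 1
  have h1 : ∃ w' ∈ X, Q w' = 0 ∧ w' ∉ A := by
    by_contra hno
    push Not at hno
    have hXA : X ≤ A := hSINGSPAN X hXnd (by omega) A (fun u hu hQu => hno u hu hQu)
    have := Submodule.finrank_mono hXA
    omega
  obtain ⟨w', hw'X, hQw', hw'A⟩ := h1
  have hw'0 : w' ≠ 0 := by
    rintro rfl
    exact hw'A A.zero_mem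
  obtain ⟨a, ha, b, hb, hab⟩ := hC.hdec w'
  have hb0 : b ≠ 0 := by
    rintro rfl
    rw [add_zero] at hab
    exact hw'A (hab ▸ ha)
  have hw'v : ∀ v ∈ A', B w' v = B b v := by
    intro v hv
    rw [← hab, map_add, LinearMap.add_apply, hC.hAA' a ha v hv, zero_add]
  -- base tool
  have hT0 : ∀ w'' ∈ X, w'' ≠ 0 → Q w'' = 0 → ∀ u ∈ A', ∀ v ∈ A', Q u = 0 → B u v = 0 →
      B w'' u = 0 → B w'' v = 0 → ∀ x ∈ X, sieg Q B u v x ∈ X := by
    intro w'' hw''X hw''0 hQw'' u hu v hv hQu huv hwu hwv x hx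
    refine hE (sieg Q B u v) (hC.sieg_mem hu hv hQu huv) w'' hw''X hw''0 hQw'' ?_ x hx
    rw [sieg_apply Q B hQs hQp hQu huv, hwu, hwv]
    simp
  -- tool
  have hT : ∀ w'' ∈ X, w'' ≠ 0 → Q w'' = 0 → ∀ u ∈ A', ∀ v ∈ A', Q u = 0 → B u v = 0 →
      B w'' u = 0 → B w'' v = 0 → u ≠ 0 → ∀ x ∈ X, Q v * B x u = 0 := by
    intro w'' hw''X hw''0 hQw'' u hu v hv hQu huv hwu hwv hu0 x hx
    have hp := hT0 w'' hw''X hw''0 hQw'' u hu v hv hQu huv hwu hwv x hx
    have huv' : B u (-v) = 0 := by rw [map_neg, huv, neg_zero]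
    have hwv' : B w'' (-v) = 0 := by rw [map_neg, hwv, neg_zero]
    have hn := hT0 w'' hw''X hw''0 hQw'' u hu (-v) (A'.neg_mem hv) hQu huv' hwu hwv' x hx
    rw [sieg_apply Q B hQs hQp hQu huv] at hp
    rw [sieg_apply Q B hQs hQp hQu huv'] at hn
    have hQnv : Q (-v) = Q v := by
      have := hQs (-1) v
      rw [neg_one_smul] at this
      rw [this]
      ring
    rw [hQnv, map_neg] at hn
    have hsum : (-(2 * (Q v * B x u))) • u ∈ X := by
      have := X.sub_mem (X.add_mem hp hn) (X.smul_mem (2 : F) hx)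
      convert this using 1
      module
    have hz := hD _ hsum (A'.smul_mem _ hu) (by rw [hQs, hQu, mul_zero])
    rcases smul_eq_zero.mp hz with h | h
    · have : 2 * (Q v * B x u) = 0 := neg_eq_zero.mp h
      exact (mul_eq_zero.mp this).resolve_left h2
    · exact absurd h hu0
  -- Step 2
  have hclaim : ∀ x ∈ X, ∀ v ∈ A', B b v = 0 → B x v = 0 := by
    by_cases hQb : Q b = 0
    · -- singular `b`
      obtain ⟨v₀, hv₀, hbv₀, hQv₀⟩ := hNSORTH A' hC.hA'nd (by omega) hb hb0 hQb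
      have hbb : B b b = 0 := by rw [B_self Q B hQs hQp, hQb, mul_zero]
      have hxb : ∀ x ∈ X, B x b = 0 := by
        intro x hx
        have := hT w' hw'X hw'0 hQw' b hb v₀ hv₀ hQb hbv₀ (by rw [hw'v b hb, hbb])
          (by rw [hw'v v₀ hv₀, hbv₀]) hb0 x hx
        exact (mul_eq_zero.mp this).resolve_left hQv₀
      intro x hx v hv hbv
      have hp := hT0 w' hw'X hw'0 hQw' b hb v hv hQb hbv (by rw [hw'v b hb, hbb])
        (by rw [hw'v v hv, hbv]) x hx
      rw [sieg_apply Q B hQs hQp hQb hbv, hxb x hx] at hp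
      have hmem : (B x v) • b ∈ X := by
        have := X.sub_mem hx hp
        convert this using 1
        module
      have hz := hD _ hmem (A'.smul_mem _ hb) (by rw [hQs, hQb, mul_zero])
      rcases smul_eq_zero.mp hz with h | h
      · exact h
      · exact absurd h hb0
    · -- nonsingular `b`
      set Sb : Submodule F V := A' ⊓ LinearMap.ker (B.flip b) with hSb
      have hmemSb : ∀ v, v ∈ Sb ↔ v ∈ A' ∧ B v b = 0 := by
        intro v
        rw [hSb, Submodule.mem_inf, mem_ker_flip]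
      have hbb : B b b ≠ 0 := by
        rw [B_self Q B hQs hQp]
        exact mul_ne_zero h2 hQb
      have hSbnd : ∀ a ∈ Sb, a ≠ 0 → ∃ x ∈ Sb, B x a ≠ 0 := by
        intro v hv hv0
        obtain ⟨hvA', hvb⟩ := (hmemSb v).mp hv
        obtain ⟨x, hx, hxv⟩ := hC.hA'nd v hvA' hv0
        refine ⟨x - (B x b / B b b) • b,
          (hmemSb _).mpr ⟨A'.sub_mem hx (A'.smul_mem _ hb), ?_⟩, ?_⟩
        · rw [map_sub, LinearMap.sub_apply, map_smul, LinearMap.smul_apply, smul_eq_mul,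
            div_mul_cancel₀ _ hbb, sub_self]
        · rw [map_sub, LinearMap.sub_apply, map_smul, LinearMap.smul_apply, hsymm b v, hvb,
            smul_zero, sub_zero]
          exact hxv
      have hdimSb : 3 ≤ finrank F Sb := by
        have : finrank F A' ≤ finrank F Sb + 1 := finrank_le_inf_ker_add_one A' (B.flip b)
        omega
      have hsing : ∀ x ∈ X, ∀ u ∈ Sb, Q u = 0 → B x u = 0 := by
        intro x hx u hu hQu
        by_cases hu0 : u = 0
        · rw [hu0, map_zero]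
        obtain ⟨huA', hub⟩ := (hmemSb u).mp hu
        obtain ⟨v, hv, huv, hQv⟩ := hNSORTH Sb hSbnd hdimSb hu hu0 hQu
        obtain ⟨hvA', hvb⟩ := (hmemSb v).mp hv
        have := hT w' hw'X hw'0 hQw' u huA' v hvA' hQu huv (by rw [hw'v u huA', hsymm, hub])
          (by rw [hw'v v hvA', hsymm, hvb]) hu0 x hx
        exact (mul_eq_zero.mp this).resolve_left hQv
      intro x hx v hv hbv
      have hle := hSINGSPAN Sb hSbnd hdimSb (LinearMap.ker (B x)) (fun u hu hQu => by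
        rw [LinearMap.mem_ker]
        exact hsing x hx u hu hQu)
      have hvSb : v ∈ Sb := (hmemSb v).mpr ⟨hv, by rw [hsymm, hbv]⟩
      exact LinearMap.mem_ker.mp (hle hvSb)
  -- Step 3
  have hXle : X ≤ A ⊔ Submodule.span F {b} := by
    intro x hx
    obtain ⟨ax, hax, bx, hbx, habx⟩ := hC.hdec x
    have hperp : ∀ v ∈ A', B b v = 0 → B bx v = 0 := by
      intro v hv hbv
      have h1 := hclaim x hx v hv hbv
      rw [← habx, map_add, LinearMap.add_apply, hC.hAA' ax hax v hv, zero_add] at h1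
      exact h1
    obtain ⟨c, hc⟩ := Cfsg.Agent.Lib.Helper82_ND4_DPERP.DPERP hQs hQp A' hC.hA'nd hb hb0 hbx hperp
    rw [← habx, hc]
    exact Submodule.add_mem _ (Submodule.mem_sup_left hax)
      (Submodule.mem_sup_right (Submodule.smul_mem _ _ (Submodule.mem_span_singleton_self b)))
  -- Step 4
  have hdim_sup : finrank F (A ⊔ Submodule.span F {b} : Submodule F V) ≤ finrank F A + 1 := by
    have h1 := Submodule.finrank_add_le_finrank_add_finrank A (Submodule.span F {b})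
    have h2 : finrank F (Submodule.span F {b}) = 1 := finrank_span_singleton hb0
    omega
  have hXeq : X = A ⊔ Submodule.span F {b} :=
    Submodule.eq_of_le_of_finrank_le hXle (by omega)
  have hAX : A ≤ X := by
    rw [hXeq]
    exact le_sup_left
  have hbX : b ∈ X := by
    rw [hXeq]
    exact Submodule.mem_sup_right (Submodule.mem_span_singleton_self b)
  have hdimA : 3 ≤ finrank F A := by
    have := Submodule.finrank_mono hXle
    omega
  -- Step 5
  obtain ⟨a₁, ha₁, ha₁0, hQa₁⟩ := exists_singular_in Q B hQs hQp A hdimA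
  have ha₁X : a₁ ∈ X := hAX ha₁
  obtain ⟨u₁, hu₁, hQu₁, hu₁b⟩ := exists_sing_not_orth Q B hQs hQp A' hC.hA'nd (by omega)
    (hC.hA'nd b hb hb0)
  have hu₁0 : u₁ ≠ 0 := by
    rintro rfl
    exact hu₁b (by simp)
  obtain ⟨v₁, hv₁, huv₁, hQv₁⟩ := hNSORTH A' hC.hA'nd (by omega) hu₁ hu₁0 hQu₁
  have := hT a₁ ha₁X ha₁0 hQa₁ u₁ hu₁ v₁ hv₁ hQu₁ huv₁ (hC.hAA' a₁ ha₁ u₁ hu₁)
    (hC.hAA' a₁ ha₁ v₁ hv₁) hu₁0 b hbX
  rcases mul_eq_zero.mp this with h | h
  · exact hQv₁ h
  · exact hu₁b (by rw [hsymm]; exact h)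

end Cfsg.Agent.Lib.Helper41_ND4_HZaux
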