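import Mathlib
import Cfsg.Agent.Lib.Helper32_ND4Defs
import Cfsg.Agent.Lib.Helper24_ND4_STABFIXaux
import Cfsg.Agent.Lib.Helper52_ND4_SC
import Cfsg.Agent.Lib.Helper69_ND4_NSORTH
import Cfsg.Agent.Lib.Helper65_ND4_SINGSPAN
import Cfsg.Agent.Lib.Helper41_ND4_HZaux

set_option autoImplicit false
set_option linter.unusedSimpArgs false
set_option linter.unusedVariables false
set_option linter.unusedSectionVars false

/-!
# ND4 market (architect helper32), package HZ (verbatim)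

From `HZ_aux` (`Helper41_ND4_HZaux`), `STABFIX_aux` (helper24) with `SC` (helper52), `NSORTH`
(helper69) and `SINGSPAN` (helper65).
-/

namespace Cfsg.Agent.Lib.Helper41_ND4_HZ

open Module Cfsg.Agent.Lib.Helper94_Symp Cfsg.Agent.Lib.Helper94_OrthSmall
  Cfsg.Agent.Lib.Helper94_OrthSiegel Cfsg.Agent.Lib.Helper94_OrthSiegel2
  Cfsg.Agent.Lib.Helper94_OrthPara Cfsg.Agent.Lib.Helper94_OrthVec
  Cfsg.Agent.Lib.Helper94_OrthNondeg Cfsg.Agent.Lib.Helper94_OrthRefl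
  Cfsg.Agent.Lib.Helper32_ND4Defs

variable {F V : Type*} [Field F] [AddCommGroup V] [Module F V]
variable [Finite F] [FiniteDimensional F V] {Q : V → F} {B : LinearMap.BilinForm F V}
  {G M : Subgroup (V ≃ₗ[F] V)} {A A' : Submodule F V}

/-- [L] HZ: if all the Siegel parts at singular vectors of `A'` stay inside `A'`, then `M`
stabilises `A'`. -/
theorem HZ (hC : NCtx Q B G M A A') (h4 : 4 ≤ finrank F A') (hlt : finrank F A < finrank F A')
    (hZ : ∀ w ∈ A', w ≠ 0 → Q w = 0 → ∀ z, InZ Q B M w z → z ∈ A') :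
    ∀ m ∈ M, ∀ y ∈ A', m y ∈ A' :=
  Cfsg.Agent.Lib.Helper41_ND4_HZaux.HZ_aux hC h4 hlt
    (fun {g} hgM {w} hwA' hw0 hQw hgw =>
      Cfsg.Agent.Lib.Helper24_ND4_STABFIXaux.STABFIX_aux hC
        (fun {w z} hw hw0 hQw hwz hs => Cfsg.Agent.Lib.Helper52_ND4_SC.SC hC hw hw0 hQw hwz hs)
        hZ hgM hwA' hw0 hQw hgw)
    (fun S hS h3 {u} hu hu0 hQu =>
      Cfsg.Agent.Lib.Helper69_ND4_NSORTH.NSORTH hC.hQs hC.hQp S hS h3 hu hu0 hQu)
    (fun S hS h3 T hT =>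
      Cfsg.Agent.Lib.Helper65_ND4_SINGSPAN.SINGSPAN hC.hQs hC.hQp S hS h3 T hT)

end Cfsg.Agent.Lib.Helper41_ND4_HZ
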