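import Mathlib
import Cfsg.Agent.Lib.Helper64_OOKDefs

set_option autoImplicit false
set_option linter.unusedVariables false
set_option linter.unusedSectionVars false

/-!
S2344 kill section, package OO-K-GSUM (helper41; architect helper64): the quadratic Gauss sum
`G = ∑_u χ₂(u) ψ(u)`: `G² = χ₂(-1) q`, the twist `∑_u χ₂(u) ψ(α u) = χ₂(α) G`, and `∑_u χ₂(u) = 0`
(from Mathlib's `gaussSum_sq`, `gaussSum_mulShift`, `quadraticChar_sum_zero`).
-/

namespace Cfsg.Agent.Lib.Helper41_OO_K_GSUM

open Module Cfsg.Agent.Lib.Helper64_OOKDefs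

variable {F : Type*} [Field F] [Fintype F] [DecidableEq F]
  {X : Type*} [AddCommGroup X] [Module ℂ X]

/-- the quadratic character with complex values, as a multiplicative character -/
noncomputable def chiC (F : Type*) [Field F] [Fintype F] [DecidableEq F] : MulChar F ℂ :=
  (quadraticChar F).ringHomComp (Int.castRingHom ℂ)

theorem chiC_apply (t : F) : chiC F t = chi2 t := rfl

theorem chiC_ne_one (hF : ringChar F ≠ 2) : chiC F ≠ 1 :=
  (MulChar.ringHomComp_ne_one_iff (RingHom.injective_int (Int.castRingHom ℂ))).mpr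
    (quadraticChar_ne_one hF)

theorem chiC_isQuadratic : (chiC F).IsQuadratic := (quadraticChar_isQuadratic F).comp _

theorem gsum_eq (ψ : AddChar F ℂ) : gsum ψ = gaussSum (chiC F) ψ := rfl

theorem gsum_sq (hF : ringChar F ≠ 2) (ψ : AddChar F ℂ) (hψ : ψ ≠ 1) :
    gsum ψ * gsum ψ = chi2 (-1 : F) * (Fintype.card F : ℂ) := by
  have h := gaussSum_sq (chiC_ne_one hF) (chiC_isQuadratic (F := F))
    (AddChar.IsPrimitive.of_ne_one hψ)
  rw [pow_two] at h
  exact h

theorem gsum_twist (hF : ringChar F ≠ 2) (ψ : AddChar F ℂ) (α : F) (hα : α ≠ 0) :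
    ∑ u : F, chi2 u * ψ (α * u) = chi2 α * gsum ψ := by
  have h := gaussSum_mulShift (chiC F) ψ (Units.mk0 α hα)
  have e : gaussSum (chiC F) (AddChar.mulShift ψ ((Units.mk0 α hα : Fˣ) : F)) =
      ∑ u : F, chi2 u * ψ (α * u) := by
    unfold gaussSum
    refine Finset.sum_congr rfl fun u _ => ?_
    rw [AddChar.mulShift_apply, Units.val_mk0, chiC_apply]
  rw [e, Units.val_mk0, chiC_apply] at h
  have hsq : chi2 α * chi2 α = 1 := by
    have h1 : quadraticChar F α * quadraticChar F α = 1 := by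
      rw [← pow_two]
      exact quadraticChar_sq_one hα
    unfold chi2
    rw [← Int.cast_mul, h1, Int.cast_one]
  rw [gsum_eq, ← h, ← mul_assoc, hsq, one_mul]

theorem chi2_sum (hF : ringChar F ≠ 2) : ∑ u : F, chi2 u = 0 := by
  have h := quadraticChar_sum_zero hF
  unfold chi2
  rw [← Int.cast_sum, h, Int.cast_zero]

end Cfsg.Agent.Lib.Helper41_OO_K_GSUM
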