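import Mathlib
import Cfsg.Agent.Lib.Helper64_OOKDefs

set_option autoImplicit false
set_option linter.unusedVariables false
set_option linter.unusedSectionVars false

/-!
S2344 kill section, package OO-K-JE (helper41; architect helper64), auxiliary form: `P_0 ρ(s) e` is not a
multiple of `e`, with the conclusions of the packages SE (`s_e`), BY (`bvec_mem`, `bvec_zero`,
`bvec_indep`) and WLAB (`wlab_props`, third part) as hypotheses.  The needed piece of FOUR is proved here
(`avg0_of_eigen`).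
-/

namespace Cfsg.Agent.Lib.Helper41_OO_K_JEaux

open Module Cfsg.Agent.Lib.Helper94_OrthSmall Cfsg.Agent.Lib.Helper44_QuadClass
  Cfsg.Agent.Lib.Helper14_OmegaSimple Cfsg.Agent.Lib.Helper38_MIODefs
  Cfsg.Agent.Lib.Helper95_OPDefs Cfsg.Agent.Lib.Helper95_OPBasic Cfsg.Agent.Lib.Helper48_OODefs
  Cfsg.Agent.Lib.Helper64_OOKDefs

section four

variable {F : Type*} [Field F] [Fintype F] [DecidableEq F] {X : Type*} [AddCommGroup X] [Module ℂ X]

/-- the sum of a nontrivial additive character over the multiples of `α ≠ 0` vanishes -/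
theorem sum_char_mul (ψ : AddChar F ℂ) (hψ : ψ ≠ 1) (α : F) (hα : α ≠ 0) :
    ∑ u : F, ψ (α * u) = 0 := by
  have h : ∑ u : F, ψ (α * u) = ∑ u : F, ψ u :=
    Fintype.sum_bijective (fun u => α * u) (mulLeft_bijective₀ α hα) _ _ fun _ => rfl
  rw [h]
  exact AddChar.sum_eq_zero_of_ne_one hψ

/-- the projection on the fixed vectors of an additive family kills the eigenvectors of non-zero weight
and fixes those of weight zero -/
theorem avg0_of_eigen (ψ : AddChar F ℂ) (hψ : ψ ≠ 1) (Xo : F → Module.End ℂ X) (α : F) (y : X)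
    (hy : ∀ u : F, Xo u y = ψ (α * u) • y) :
    avg0 Xo y = if α = 0 then y else 0 := by
  have hq : (Fintype.card F : ℂ) ≠ 0 := Nat.cast_ne_zero.2 Fintype.card_ne_zero
  unfold avg0
  rw [LinearMap.smul_apply, LinearMap.sum_apply]
  simp only [hy]
  rw [← Finset.sum_smul]
  split_ifs with h
  · subst h
    simp only [zero_mul, AddChar.map_zero_eq_one, Finset.sum_const, Finset.card_univ, nsmul_eq_mul,
      mul_one]
    rw [smul_smul, inv_mul_cancel₀ hq, one_smul]
  · rw [sum_char_mul ψ hψ α h, zero_smul, smul_zero]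

end four

section main

variable {F V : Type*} [Field F] [Fintype F] [DecidableEq F] [AddCommGroup V] [Module F V]
  [FiniteDimensional F V] {X : Type*} [AddCommGroup X] [Module ℂ X] [FiniteDimensional ℂ X]

/-- an odd-type space of positive rank has a non-zero singular vector -/
theorem exists_sing_ne_zero {W : Type*} [AddCommGroup W] [Module F W] (Q₂ : QuadraticForm F W)
    (m : ℕ) (hm : 1 ≤ m) (hP : IsOddT Q₂ m) : ∃ y : W, y ≠ 0 ∧ Q₂ y = 0 := by
  have hq : 2 ≤ Fintype.card F := Fintype.one_lt_card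
  have h1 : 1 < Nat.card {x : W // Q₂ x = 0} := by
    rw [hP.zeros]
    calc 1 < 2 ^ (2 * m) := Nat.one_lt_two_pow (by omega)
      _ ≤ Fintype.card F ^ (2 * m) := Nat.pow_le_pow_left hq _
  have hfin : Finite {x : W // Q₂ x = 0} := Nat.finite_of_card_ne_zero (by omega)
  have hnt : Nontrivial {x : W // Q₂ x = 0} := Finite.one_lt_card_iff_nontrivial.1 h1
  obtain ⟨⟨y, hy⟩, hne⟩ := exists_ne (⟨0, map_zero Q₂⟩ : {x : W // Q₂ x = 0})
  exact ⟨y, fun h => hne (Subtype.ext h), hy⟩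

/-- OO-K-JE with SE, BY and WLAB as hypotheses -/
theorem je_not_eigen_aux (Q : QuadraticForm F V) {v v' : V} (a a' : ↥(perp Q v v'))
    (ρ : Representation ℂ ↥(T Q) X) (ψ : AddChar F ℂ) (hψ : ψ ≠ 1)
    [Fintype ↥(perp (Qp Q v v') a a')]
    (m : ℕ) (hm : 1 ≤ m) (hP₂ : IsOddT (Qp (Qp Q v v') a a') m)
    (β : F) (hβ : β ≠ 0) (e : X)
    (hSE : ∃ c : ℂ, c ≠ 0 ∧ opS Q ρ v v' (a : V) (a' : V) e =
      c • ∑ y : ↥(perp (Qp Q v v') a a'), bvec Q ρ a a' e y)
    (hmem : ∀ y : ↥(perp (Qp Q v v') a a'),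
      bvec Q ρ a a' e y ∈ wsp Q ρ ψ v v' (wlab Q a a' β y))
    (hzero : bvec Q ρ a a' e 0 = e)
    (hindep : LinearIndependent ℂ (fun y : ↥(perp (Qp Q v v') a a') => bvec Q ρ a a' e y))
    (hwl : ∀ y : ↥(perp (Qp Q v v') a a'),
      QuadraticMap.polar (⇑(Qp Q v v')) (wlab Q a a' β y) a' = -(β * Qp (Qp Q v v') a a' y)) :
    ¬ ∃ c' : ℂ, avg0 (opX Q ρ v (a' : V)) (opS Q ρ v v' (a : V) (a' : V) e) = c' • e := by
  classical
  obtain ⟨c, hc0, hc⟩ := hSE
  rintro ⟨c', hc'⟩
  -- the eigenvalues of `x(u)` on `b_y`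
  have heig : ∀ (y : ↥(perp (Qp Q v v') a a')) (u : F),
      opX Q ρ v (a' : V) u (bvec Q ρ a a' e y) =
        ψ (-(β * Qp (Qp Q v v') a a' y) * u) • bvec Q ρ a a' e y := by
    intro y u
    have h1 := (mem_wsp Q ρ ψ v v' _ _).1 (hmem y) (u • a')
    have h2 : ((u • a' : ↥(perp Q v v')) : V) = u • (a' : V) := rfl
    rw [h2] at h1
    unfold opX
    rw [h1]
    congr 2
    have h3 : QuadraticMap.polar (⇑Q) ((wlab Q a a' β y : ↥(perp Q v v')) : V) (u • (a' : V)) =
        u * QuadraticMap.polar (⇑Q) ((wlab Q a a' β y : ↥(perp Q v v')) : V) (a' : V) := by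
      rw [QuadraticMap.polar_smul_right, smul_eq_mul]
    rw [h3, ← polar_comp_subtype Q (perp Q v v') (wlab Q a a' β y) a']
    have h4 := hwl y
    rw [h4]
    ring
  have hterm : ∀ y : ↥(perp (Qp Q v v') a a'),
      avg0 (opX Q ρ v (a' : V)) (bvec Q ρ a a' e y) =
        if Qp (Qp Q v v') a a' y = 0 then bvec Q ρ a a' e y else 0 := by
    intro y
    rw [avg0_of_eigen ψ hψ _ _ _ (heig y)]
    by_cases hy : Qp (Qp Q v v') a a' y = 0
    · rw [if_pos hy, if_pos (show -(β * Qp (Qp Q v v') a a' y) = 0 by rw [hy, mul_zero, neg_zero])]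
    · rw [if_neg hy, if_neg]
      intro h0
      rw [neg_eq_zero, mul_eq_zero] at h0
      exact hy (h0.resolve_left hβ)
  -- a linear relation between the `b_y`
  rw [hc, map_smul, map_sum] at hc'
  simp only [hterm] at hc'
  obtain ⟨y₀, hy₀, hQy₀⟩ := exists_sing_ne_zero (Qp (Qp Q v v') a a') m hm hP₂
  have hrel : ∑ y : ↥(perp (Qp Q v v') a a'),
      ((if Qp (Qp Q v v') a a' y = 0 then c else 0) - (if y = 0 then c' else 0)) •
        bvec Q ρ a a' e y = 0 := by
    simp only [sub_smul, Finset.sum_sub_distrib, ite_smul, zero_smul]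
    rw [Finset.sum_ite_eq' Finset.univ (0 : ↥(perp (Qp Q v v') a a')), if_pos (Finset.mem_univ _),
      hzero, ← hc', Finset.smul_sum]
    rw [sub_eq_zero]
    refine Finset.sum_congr rfl fun y _ => ?_
    split_ifs <;> simp
  have hcoef := Fintype.linearIndependent_iff.1 hindep _ hrel y₀
  rw [if_pos hQy₀, if_neg hy₀, sub_zero] at hcoef
  exact hc0 hcoef

end main

end Cfsg.Agent.Lib.Helper41_OO_K_JEaux
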