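import Mathlib
import Cfsg.Agent.Lib.Helper64_OOKDefs
import Cfsg.Agent.Lib.Helper41_OO_K_JEaux
import Cfsg.Agent.Lib.Helper55_OO_K_SE
import Cfsg.Agent.Lib.Helper95_OO_K_BY
import Cfsg.Agent.Lib.Helper70_OO_K_WLAB

set_option autoImplicit false
set_option linter.unusedVariables false
set_option linter.unusedSectionVars false
set_option linter.style.haveILetI false

/-!
S2344 kill section, package OO-K-JE (helper41; architect helper64): `P_0 ρ(s) e` is not a multiple of `e`.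
`je_not_eigen` verbatim = `je_not_eigen_aux` (Helper41_OO_K_JEaux) applied to the landed packages
SE (helper55), BY (helper95), WLAB (helper70).
-/

namespace Cfsg.Agent.Lib.Helper41_OO_K_JE

open Module Cfsg.Agent.Lib.Helper94_OrthSmall Cfsg.Agent.Lib.Helper44_QuadClass
  Cfsg.Agent.Lib.Helper14_OmegaSimple Cfsg.Agent.Lib.Helper38_MIODefs
  Cfsg.Agent.Lib.Helper95_OPDefs Cfsg.Agent.Lib.Helper95_OPBasic Cfsg.Agent.Lib.Helper48_OODefs
  Cfsg.Agent.Lib.Helper64_OOKDefs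

variable {F V : Type*} [Field F] [Fintype F] [DecidableEq F] [AddCommGroup V] [Module F V]
  [FiniteDimensional F V] {X : Type*} [AddCommGroup X] [Module ℂ X] [FiniteDimensional ℂ X]

/-! ## OO-K-JE (M) -/
theorem je_not_eigen (Q : QuadraticForm F V) (hQ : (QuadraticMap.polarBilin Q).Nondegenerate)
    (hdim : 9 ≤ finrank F V) {v v' : V} (hv : Q v = 0) (hv' : Q v' = 0)
    (hvv' : QuadraticMap.polar (⇑Q) v v' = 1) (a a' : ↥(perp Q v v'))
    (ha : Qp Q v v' a = 0) (ha' : Qp Q v v' a' = 0)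
    (haa' : QuadraticMap.polar (⇑(Qp Q v v')) a a' = 1)
    (ρ : Representation ℂ ↥(T Q) X) (ψ : AddChar F ℂ) (hψ : ψ ≠ 1)
    [DecidableEq ↥(perp Q v v')]
    (hint : DirectSum.IsInternal (fun u : ↥(perp Q v v') => wsp Q ρ ψ v v' u))
    (f : ℕ) (hW : WData Q ρ ψ v v' 1 f) (m : ℕ) (hm : 1 ≤ m)
    (hP₂ : IsOddT (Qp (Qp Q v v') a a') m)
    (β : F) (hβ : β ≠ 0) (e : X) (he : e ∈ wsp Q ρ ψ v v' (β • a')) (he0 : e ≠ 0) :
    ¬ ∃ c' : ℂ, avg0 (opX Q ρ v (a' : V)) (opS Q ρ v v' (a : V) (a' : V) e) = c' • e := by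
  haveI : Finite V := Module.finite_of_finite F
  letI : Fintype ↥(perp (Qp Q v v') a a') := Fintype.ofFinite _
  exact Cfsg.Agent.Lib.Helper41_OO_K_JEaux.je_not_eigen_aux Q a a' ρ ψ hψ m hm hP₂ β hβ e
    (Cfsg.Agent.Lib.Helper55_OO_K_SE.s_e Q hQ hdim hv hv' hvv' a a' ha ha' haa' ρ ψ hψ hint f hW
      β hβ e he he0)
    (fun y => Cfsg.Agent.Lib.Helper95_OO_K_BY.bvec_mem Q hQ hdim hv hv' hvv' a a' ha ha' haa' ρ ψ
      β e he y)
    (Cfsg.Agent.Lib.Helper95_OO_K_BY.bvec_zero Q a a' ha ρ e)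
    (Cfsg.Agent.Lib.Helper95_OO_K_BY.bvec_indep Q hQ hdim hv hv' hvv' a a' ha ha' haa' ρ ψ hψ hint
      β hβ e he he0)
    (fun y => (Cfsg.Agent.Lib.Helper70_OO_K_WLAB.wlab_props Q a a' ha ha' haa' β y).2.2.1)

end Cfsg.Agent.Lib.Helper41_OO_K_JE
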