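import Mathlib

/-!
# P3 market (architect helper32), package P3-ARITH: the class-equation arithmetic

Pure arithmetic in `ℕ` (Mathlib only).  Statement `ARITH` verbatim from
`pending/helper32/P3_packages.lean.txt`.
-/

set_option autoImplicit false

namespace Cfsg.Agent.Lib.Helper41_P3_ARITH

/-- the facts about one orbit: `N = ki * (fi * ei)`, `ei ≥ 2`, `fi ∈ {1, 2}`, `a = ki * (ei - 1)` -/
theorem orbit_facts (N ki ei fi : ℕ) (hN1 : 1 ≤ N) (h2 : 2 ≤ ei) (hfi : fi = 1 ∨ fi = 2)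
    (hN : N = ki * (fi * ei)) :
    1 ≤ ki ∧ N ≤ 4 * (ki * (ei - 1)) ∧
    (fi = 1 → ki * (ei - 1) + ki = N ∧ 2 * ki ≤ N ∧ (ei = 2 → 2 * ki = N) ∧
      (3 ≤ ei → 3 * ki ≤ N)) ∧
    (fi = 2 → 2 * (ki * (ei - 1)) + 2 * ki = N ∧ 4 * ki ≤ N ∧ (ei = 2 → 4 * ki = N) ∧
      (3 ≤ ei → 6 * ki ≤ N)) := by
  obtain ⟨e', rfl⟩ := Nat.exists_eq_add_of_le h2
  have hk1 : 1 ≤ ki := by
    rcases Nat.eq_zero_or_pos ki with h | h
    · rw [h, zero_mul] at hN
      omega
    · exact h
  have e1 : 2 + e' - 1 = e' + 1 := by omega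
  rw [e1]
  have e2 : ki * (e' + 1) = ki * e' + ki := by ring
  rw [e2]
  have hP : 1 ≤ e' → ki ≤ ki * e' := fun h => Nat.le_mul_of_pos_right ki h
  have hP0 : e' = 0 → ki * e' = 0 := fun h => by rw [h, mul_zero]
  rcases hfi with hf | hf
  · have e3 : N = ki * e' + 2 * ki := by rw [hN, hf]; ring
    refine ⟨hk1, by omega, fun _ => ⟨by omega, by omega, fun h => ?_, fun h => ?_⟩,
      fun h => by omega⟩
    · have := hP0 (by omega)
      omega
    · have := hP (by omega)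
      omega
  · have e3 : N = 2 * (ki * e') + 4 * ki := by rw [hN, hf]; ring
    refine ⟨hk1, by omega, fun h => by omega,
      fun _ => ⟨by omega, by omega, fun h => ?_, fun h => ?_⟩⟩
    · have := hP0 (by omega)
      omega
    · have := hP (by omega)
      omega

/-- P3-ARITH. -/
theorem ARITH (N k e f : ℕ) (he : 6 ≤ e) (hf : f = 1 ∨ f = 2) (hN : N = k * (f * e))
    {J : Type*} (s : Finset J) (ki ei fi : J → ℕ)
    (hi : ∀ i ∈ s, 2 ≤ ei i ∧ (fi i = 1 ∨ fi i = 2) ∧ N = ki i * (fi i * ei i))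
    (heq : N = 1 + k * (e - 1) + ∑ i ∈ s, ki i * (ei i - 1)) : k = 1 := by
  classical
  have hN1 : 1 ≤ N := by omega
  have hk1 : 1 ≤ k := by
    rcases Nat.eq_zero_or_pos k with h | h
    · rw [h, zero_mul] at hN
      omega
    · exact h
  obtain ⟨a, ha⟩ : ∃ a : J → ℕ, ∀ i, a i = ki i * (ei i - 1) := ⟨_, fun i => rfl⟩
  have hfacts : ∀ i ∈ s, 1 ≤ ki i ∧ N ≤ 4 * a i ∧
      (fi i = 1 → a i + ki i = N ∧ 2 * ki i ≤ N ∧ (ei i = 2 → 2 * ki i = N) ∧
        (3 ≤ ei i → 3 * ki i ≤ N)) ∧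
      (fi i = 2 → 2 * a i + 2 * ki i = N ∧ 4 * ki i ≤ N ∧ (ei i = 2 → 4 * ki i = N) ∧
        (3 ≤ ei i → 6 * ki i ≤ N)) := by
    intro i his
    rw [ha i]
    exact orbit_facts N (ki i) (ei i) (fi i) hN1 (hi i his).1 (hi i his).2.1 (hi i his).2.2
  obtain ⟨e', rfl⟩ := Nat.exists_eq_add_of_le he
  have e1 : 6 + e' - 1 = e' + 5 := by omega
  rw [e1] at heq
  have e2 : k * (e' + 5) = k * e' + 5 * k := by ring
  rw [e2] at heq
  have hsum : ∑ i ∈ s, ki i * (ei i - 1) = ∑ i ∈ s, a i :=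
    Finset.sum_congr rfl (fun i _ => (ha i).symm)
  rw [hsum] at heq
  rcases hf with hf | hf
  · -- `f = 1`
    have e3 : N = k * e' + 6 * k := by rw [hN, hf]; ring
    rcases s.eq_empty_or_nonempty with hs | ⟨i, his⟩
    · rw [hs, Finset.sum_empty] at heq
      omega
    · have h1 : a i ≤ ∑ j ∈ s, a j :=
        Finset.single_le_sum (f := a) (fun j _ => Nat.zero_le _) his
      have h2 := (hfacts i his).2.1
      omega
  · -- `f = 2`
    have e3 : N = 2 * (k * e') + 12 * k := by rw [hN, hf]; ring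
    rcases s.eq_empty_or_nonempty with hs | ⟨i, his⟩
    · rw [hs, Finset.sum_empty] at heq
      omega
    rw [← Finset.add_sum_erase s a his] at heq
    obtain ⟨hki, h4i, hi1, hi2⟩ := hfacts i his
    rcases (s.erase i).eq_empty_or_nonempty with hs1 | ⟨j, hjs1⟩
    · rw [hs1, Finset.sum_empty] at heq
      rcases (hi i his).2.1 with hfi | hfi
      · obtain ⟨g1, g2, g3, g4⟩ := hi1 hfi
        rcases Nat.lt_or_ge (ei i) 3 with h3 | h3
        · have := g3 (by have := (hi i his).1; omega)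
          omega
        · have := g4 h3
          omega
      · obtain ⟨g1, g2, g3, g4⟩ := hi2 hfi
        omega
    have hjs : j ∈ s := Finset.mem_of_mem_erase hjs1
    rw [← Finset.add_sum_erase (s.erase i) a hjs1] at heq
    obtain ⟨hkj, h4j, hj1, hj2⟩ := hfacts j hjs
    rcases ((s.erase i).erase j).eq_empty_or_nonempty with hs2 | ⟨l, hls2⟩
    · rw [hs2, Finset.sum_empty] at heq
      rcases (hi i his).2.1 with hfi | hfi
      · obtain ⟨g1, g2, g3, g4⟩ := hi1 hfi
        omega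
      rcases (hi j hjs).2.1 with hfj | hfj
      · obtain ⟨g1, g2, g3, g4⟩ := hj1 hfj
        omega
      obtain ⟨g1, g2, g3, g4⟩ := hi2 hfi
      obtain ⟨g1', g2', g3', g4'⟩ := hj2 hfj
      rcases Nat.lt_or_ge (ei i) 3 with h3 | h3
      · have q1 := g3 (by have := (hi i his).1; omega)
        rcases Nat.lt_or_ge (ei j) 3 with h3' | h3'
        · have q2 := g3' (by have := (hi j hjs).1; omega)
          omega
        · have q2 := g4' h3'
          omega
      · have q1 := g4 h3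
        omega
    · have hls : l ∈ s := Finset.mem_of_mem_erase (Finset.mem_of_mem_erase hls2)
      have h1 : a l ≤ ∑ x ∈ (s.erase i).erase j, a x :=
        Finset.single_le_sum (f := a) (fun x _ => Nat.zero_le _) hls2
      obtain ⟨hkl, h4l, -, -⟩ := hfacts l hls
      omega

end Cfsg.Agent.Lib.Helper41_P3_ARITH
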