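import Mathlib

/-!
# Helper41_PCTDefs: words, rewriting traces and tail vectors (helper41)

Definitions for the "tail calculus" used to show that a central extension of a group with a
polycyclic presentation by a group of exponent two splits.

* `ev γ w`      : the value of the word `w` (a list of generator indices) under `γ : ℕ → H`.
* `Rule`        : a rewriting rule `(lhs, rhs)`.
* `step`, `run` : one rewriting step `(p, k)` (apply rule number `k` at position `p`), a trace.
* `maskOf tr`   : the bit mask (a natural number) of the rules used an odd number of times.
* `tpv τ m M`   : the product of the `τ k`, `k < m`, over the bits `k` of the mask `M`.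
-/

set_option autoImplicit false

namespace Cfsg.Agent.Lib.Helper41_PCTDefs

/-- the value of a word -/
def ev {H : Type*} [Monoid H] (γ : ℕ → H) (w : List ℕ) : H := (w.map γ).prod

/-- a rewriting rule: replace the first list by the second -/
abbrev Rule := List ℕ × List ℕ

/-- apply rule number `k` at position `p` -/
def step (rules : List Rule) (w : List ℕ) (p k : ℕ) : Option (List ℕ) :=
  match rules[k]? with
  | none => none
  | some R =>
    if (w.drop p).take R.1.length = R.1 then
      some (w.take p ++ (R.2 ++ w.drop (p + R.1.length)))
    else none

/-- run a trace of steps `(p, k)` -/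
def run (rules : List Rule) : List (ℕ × ℕ) → List ℕ → Option (List ℕ)
  | [], w => some w
  | s :: tr, w =>
    match step rules w s.1 s.2 with
    | none => none
    | some w' => run rules tr w'

/-- the mask of the rules used an odd number of times in a trace -/
def maskOf (tr : List (ℕ × ℕ)) : ℕ := tr.foldr (fun s acc => (1 <<< s.2) ^^^ acc) 0

/-- the product of the `τ k`, `k < m`, over the bits of `M` -/
def tpv {M : Type*} [Monoid M] (τ : ℕ → M) (m : ℕ) (B : ℕ) : M :=
  ((List.range m).map (fun k => if B.testBit k then τ k else 1)).prod

/-- the xor of a list of masks -/
def xorAll (l : List ℕ) : ℕ := l.foldr (fun a acc => a ^^^ acc) 0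

end Cfsg.Agent.Lib.Helper41_PCTDefs
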