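import Mathlib
import Cfsg.Agent.Lib.Helper41_PCTDefs

/-!
# Helper41_PCT: soundness of rewriting traces, bit-mask algebra (helper41)
-/

set_option autoImplicit false

namespace Cfsg.Agent.Lib.Helper41_PCT

open Cfsg.Agent.Lib.Helper41_PCTDefs

section ev

variable {H : Type*} [Monoid H]

theorem ev_nil (γ : ℕ → H) : ev γ [] = 1 := rfl

theorem ev_cons (γ : ℕ → H) (i : ℕ) (w : List ℕ) : ev γ (i :: w) = γ i * ev γ w := by
  unfold ev; rw [List.map_cons, List.prod_cons]

theorem ev_append (γ : ℕ → H) (u v : List ℕ) : ev γ (u ++ v) = ev γ u * ev γ v := by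
  unfold ev; rw [List.map_append, List.prod_append]

theorem step_sound (γ τ : ℕ → H) (rules : List Rule)
    (hτ : ∀ k (x : H), τ k * x = x * τ k)
    (hrule : ∀ k (R : Rule), rules[k]? = some R → ev γ R.1 = ev γ R.2 * τ k)
    (w w' : List ℕ) (p k : ℕ) (h : step rules w p k = some w') :
    ev γ w = ev γ w' * τ k ∧ k < rules.length := by
  unfold step at h
  cases hk : rules[k]? with
  | none => rw [hk] at h; exact absurd h (by simp)
  | some R =>
    rw [hk] at h
    simp only at h
    split_ifs at h with hc
    · have hlt : k < rules.length := by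
        by_contra hcon
        rw [List.getElem?_eq_none (by omega)] at hk
        exact absurd hk (by simp)
      refine ⟨?_, hlt⟩
      have hw' : w' = w.take p ++ (R.2 ++ w.drop (p + R.1.length)) := (Option.some.inj h).symm
      have hsplit : w = w.take p ++ (R.1 ++ w.drop (p + R.1.length)) := by
        have h1 : w = w.take p ++ w.drop p := (List.take_append_drop p w).symm
        have h2 : w.drop p = (w.drop p).take R.1.length ++ (w.drop p).drop R.1.length :=
          (List.take_append_drop _ _).symm
        rw [hc, List.drop_drop] at h2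
        calc w = w.take p ++ w.drop p := h1
          _ = w.take p ++ (R.1 ++ w.drop (p + R.1.length)) := by rw [← h2]
      have e1 : ev γ w = ev γ (w.take p) * (ev γ R.1 * ev γ (w.drop (p + R.1.length))) := by
        conv_lhs => rw [hsplit]
        rw [ev_append, ev_append]
      rw [e1, hw', ev_append, ev_append, hrule k R hk]
      have hc' := hτ k (ev γ (w.drop (p + R.1.length)))
      calc ev γ (w.take p) * (ev γ R.2 * τ k * ev γ (w.drop (p + R.1.length)))
          = ev γ (w.take p) * (ev γ R.2 * (τ k * ev γ (w.drop (p + R.1.length)))) := by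
            simp only [mul_assoc]
        _ = ev γ (w.take p) * (ev γ R.2 * (ev γ (w.drop (p + R.1.length)) * τ k)) := by rw [hc']
        _ = _ := by simp only [mul_assoc]

/-- **soundness of traces** -/
theorem ev_run (γ τ : ℕ → H) (rules : List Rule)
    (hτ : ∀ k (x : H), τ k * x = x * τ k)
    (hrule : ∀ k (R : Rule), rules[k]? = some R → ev γ R.1 = ev γ R.2 * τ k)
    (tr : List (ℕ × ℕ)) (w w' : List ℕ) (h : run rules tr w = some w') :
    ev γ w = ev γ w' * ((tr.map (fun s => τ s.2)).prod) ∧ ∀ s ∈ tr, s.2 < rules.length := by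
  induction tr generalizing w with
  | nil =>
    unfold run at h
    rw [Option.some.inj h]
    simp
  | cons s tr ih =>
    unfold run at h
    cases hs : step rules w s.1 s.2 with
    | none => rw [hs] at h; exact absurd h (by simp)
    | some w1 =>
      rw [hs] at h
      simp only at h
      obtain ⟨e1, hlt⟩ := step_sound γ τ rules hτ hrule w w1 s.1 s.2 hs
      obtain ⟨e2, hall⟩ := ih w1 h
      constructor
      · rw [e1, e2, List.map_cons, List.prod_cons]
        have hc := hτ s.2 ((tr.map (fun s => τ s.2)).prod)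
        rw [mul_assoc, ← hc]
      · intro s' hs'
        rcases List.mem_cons.mp hs' with rfl | hs'
        · exact hlt
        · exact hall s' hs'

end ev

section tpv

variable {M : Type*} [Monoid M]

theorem tpv_zero (τ : ℕ → M) (m : ℕ) : tpv τ m 0 = 1 := by
  unfold tpv
  simp

theorem tpv_succ (τ : ℕ → M) (m B : ℕ) :
    tpv τ (m + 1) B = tpv τ m B * (if B.testBit m then τ m else 1) := by
  unfold tpv
  rw [List.range_succ, List.map_append, List.prod_append]
  simp

theorem tpv_xor (τ : ℕ → M) (hc : ∀ k (x : M), τ k * x = x * τ k) (hτ : ∀ k, τ k * τ k = 1)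
    (m a b : ℕ) : tpv τ m (a ^^^ b) = tpv τ m a * tpv τ m b := by
  induction m with
  | zero => simp [tpv]
  | succ m ih =>
    rw [tpv_succ, tpv_succ, tpv_succ, ih, Nat.testBit_xor]
    cases ha : a.testBit m <;> cases hb : b.testBit m <;> simp
    · rw [mul_assoc]
    · rw [mul_assoc, mul_assoc, hc m]
    · have h1 := hc m (tpv τ m b)
      calc tpv τ m a * tpv τ m b = tpv τ m a * (tpv τ m b * (τ m * τ m)) := by
            rw [hτ m, mul_one]
        _ = tpv τ m a * ((tpv τ m b * τ m) * τ m) := by simp only [mul_assoc]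
        _ = tpv τ m a * ((τ m * tpv τ m b) * τ m) := by rw [h1]
        _ = tpv τ m a * τ m * (tpv τ m b * τ m) := by simp only [mul_assoc]

theorem tpv_bit (τ : ℕ → M) {m k : ℕ} (hk : k < m) : tpv τ m (1 <<< k) = τ k := by
  induction m with
  | zero => omega
  | succ m ih =>
    rw [tpv_succ]
    have htb : ∀ j, (1 <<< k).testBit j = decide (j = k) := by
      intro j
      rw [Nat.one_shiftLeft, Nat.testBit_two_pow]
      by_cases h : k = j
      · subst h; simp
      · have h' : ¬ j = k := fun e => h e.symm
        simp [h, h']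
    rcases Nat.lt_succ_iff_lt_or_eq.mp hk with h | h
    · rw [ih h, htb]
      have : ¬ m = k := by omega
      simp [this]
    · subst h
      rw [htb]
      have h1 : tpv τ k (1 <<< k) = 1 := by
        unfold tpv
        apply List.prod_eq_one
        intro x hx
        rw [List.mem_map] at hx
        obtain ⟨j, hj, rfl⟩ := hx
        rw [List.mem_range] at hj
        rw [htb]
        have : ¬ j = k := by omega
        simp [this]
      rw [h1]; simp

theorem prod_eq_tpv (τ : ℕ → M) (hc : ∀ k (x : M), τ k * x = x * τ k) (hτ : ∀ k, τ k * τ k = 1)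
    (m : ℕ) (tr : List (ℕ × ℕ)) (h : ∀ s ∈ tr, s.2 < m) :
    (tr.map (fun s => τ s.2)).prod = tpv τ m (maskOf tr) := by
  induction tr with
  | nil => simp [maskOf, tpv_zero]
  | cons s tr ih =>
    have h1 : maskOf (s :: tr) = (1 <<< s.2) ^^^ maskOf tr := rfl
    rw [List.map_cons, List.prod_cons, h1, tpv_xor τ hc hτ, tpv_bit τ (h s (List.mem_cons_self)),
      ih (fun s' hs' => h s' (List.mem_cons_of_mem _ hs'))]

theorem tpv_xorAll (τ : ℕ → M) (hc : ∀ k (x : M), τ k * x = x * τ k) (hτ : ∀ k, τ k * τ k = 1)
    (m : ℕ) (l : List ℕ) (h : ∀ a ∈ l, tpv τ m a = 1) : tpv τ m (xorAll l) = 1 := by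
  induction l with
  | nil => exact tpv_zero τ m
  | cons a l ih =>
    have h1 : xorAll (a :: l) = a ^^^ xorAll l := rfl
    rw [h1, tpv_xor τ hc hτ, h a (List.mem_cons_self),
      ih (fun b hb => h b (List.mem_cons_of_mem _ hb)), one_mul]

theorem tpv_sq (τ : ℕ → M) (hc : ∀ k (x : M), τ k * x = x * τ k) (hτ : ∀ k, τ k * τ k = 1)
    (m B : ℕ) : tpv τ m B * tpv τ m B = 1 := by
  rw [← tpv_xor τ hc hτ, Nat.xor_self, tpv_zero]

theorem tpv_comm (τ : ℕ → M) (hc : ∀ k (x : M), τ k * x = x * τ k) (m B : ℕ) (x : M) :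
    tpv τ m B * x = x * tpv τ m B := by
  induction m with
  | zero => simp [tpv]
  | succ m ih =>
    rw [tpv_succ]
    split_ifs
    · rw [mul_assoc, hc m x, ← mul_assoc, ih, mul_assoc]
    · rw [mul_one]; exact ih

end tpv

end Cfsg.Agent.Lib.Helper41_PCT
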