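import Mathlib
import Cfsg.Agent.Lib.Helper41_PCTDefs
import Cfsg.Agent.Lib.Helper41_PCT

/-!
# Helper41_PCTMain: from a tail certificate to exact lifts (helper41)

`exists_exact_lifts`: let `A` be a central subgroup of exponent two of `Γ`, and `γ` generators
satisfying the rules of a rewriting system up to elements ("tails") of `A`.  Given

* consistency certificates: words with two rewriting traces to the same word,
* conditions: words of value `1` with a trace to the empty word,
* a linear-algebra certificate `(L, C)` over `𝔽₂` that the resulting equations force the tails to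
  be a coboundary,

there are new generators `γ' i ∈ γ i * A` that satisfy the rules exactly.
-/

set_option autoImplicit false

namespace Cfsg.Agent.Lib.Helper41_PCTMain

open Cfsg.Agent.Lib.Helper41_PCTDefs Cfsg.Agent.Lib.Helper41_PCT

/-- the xor of the masks `L[i]` over the letters `i` of a word -/
def wordMask (L : List ℕ) (w : List ℕ) : ℕ := xorAll (w.map (fun i => L.getD i 0))

/-- the mask that has to vanish for rule number `k` -/
def ruleMask (L : List ℕ) (k : ℕ) (R : Rule) : ℕ :=
  (1 <<< k) ^^^ (wordMask L R.1 ^^^ wordMask L R.2)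

/-- a consistency certificate: a word and two traces with the same result -/
abbrev Cons := List ℕ × List (ℕ × ℕ) × List (ℕ × ℕ)

/-- a condition certificate: a word and a trace to the empty word -/
abbrev Cond := List ℕ × List (ℕ × ℕ)

def consOk (rules : List Rule) (e : Cons) : Bool :=
  match run rules e.2.1 e.1, run rules e.2.2 e.1 with
  | some a, some b => decide (a = b)
  | _, _ => false

def condOk (rules : List Rule) (c : Cond) : Bool :=
  match run rules c.2 c.1 with
  | some a => decide (a = [])
  | none => false

/-- the equation masks -/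
def eqMasks (eqs : List Cons) (conds : List Cond) : List ℕ :=
  eqs.map (fun e => maskOf e.2.1 ^^^ maskOf e.2.2) ++ conds.map (fun c => maskOf c.2)

def linOk (rules : List Rule) (EM L : List ℕ) (C : List (List ℕ)) : Bool :=
  (List.range rules.length).all (fun k =>
    match rules[k]? with
    | some R => decide (ruleMask L k R = xorAll ((C.getD k []).map (fun j => EM.getD j 0)))
    | none => true)

section main

variable {Γ : Type*} [Group Γ]

theorem exists_exact_lifts (A : Subgroup Γ) (hA : A ≤ Subgroup.center Γ)
    (hexp : ∀ a ∈ A, a * a = 1) (rules : List Rule) (γ : ℕ → Γ)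
    (hrule : ∀ (k : ℕ) (R : Rule), rules[k]? = some R → (ev γ R.2)⁻¹ * ev γ R.1 ∈ A)
    (eqs : List Cons) (conds : List Cond) (L : List ℕ) (C : List (List ℕ))
    (heqs : ∀ e ∈ eqs, consOk rules e = true)
    (hconds : ∀ c ∈ conds, condOk rules c = true)
    (hval : ∀ c ∈ conds, ev γ c.1 = 1)
    (hlin : linOk rules (eqMasks eqs conds) L C = true) :
    ∃ γ' : ℕ → Γ, (∀ i, (γ i)⁻¹ * γ' i ∈ A) ∧
      ∀ (k : ℕ) (R : Rule), rules[k]? = some R → ev γ' R.1 = ev γ' R.2 := by
  classical
  set m := rules.length with hm
  -- the tails
  let τ : ℕ → Γ := fun k => match rules[k]? with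
    | some R => (ev γ R.2)⁻¹ * ev γ R.1
    | none => 1
  have hτA : ∀ k, τ k ∈ A := by
    intro k
    show (match rules[k]? with | some R => (ev γ R.2)⁻¹ * ev γ R.1 | none => 1) ∈ A
    cases hk : rules[k]? with
    | none => exact A.one_mem
    | some R => exact hrule k R hk
  have hτrule : ∀ (k : ℕ) (R : Rule), rules[k]? = some R → ev γ R.1 = ev γ R.2 * τ k := by
    intro k R hk
    show ev γ R.1 = ev γ R.2 * (match rules[k]? with | some R => (ev γ R.2)⁻¹ * ev γ R.1 | none => 1)
    rw [hk]
    simp
  have hτc : ∀ k (x : Γ), τ k * x = x * τ k := fun k x =>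
    (Subgroup.mem_center_iff.mp (hA (hτA k)) x).symm
  have hτ2 : ∀ k, τ k * τ k = 1 := fun k => hexp _ (hτA k)
  -- tpv values lie in A
  have htpvA : ∀ B : ℕ, tpv τ m B ∈ A := by
    intro B
    unfold tpv
    apply Subgroup.list_prod_mem
    intro x hx
    rw [List.mem_map] at hx
    obtain ⟨k, _, rfl⟩ := hx
    split_ifs
    · exact hτA k
    · exact A.one_mem
  -- the value of a successful trace
  have htrace : ∀ (tr : List (ℕ × ℕ)) (w w' : List ℕ), run rules tr w = some w' →
      ev γ w = ev γ w' * tpv τ m (maskOf tr) := by
    intro tr w w' h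
    obtain ⟨e, hlt⟩ := ev_run γ τ rules hτc hτrule tr w w' h
    rw [e, prod_eq_tpv τ hτc hτ2 m tr hlt]
  -- the equations
  have hEM : ∀ E ∈ eqMasks eqs conds, tpv τ m E = 1 := by
    intro E hE
    unfold eqMasks at hE
    rw [List.mem_append, List.mem_map, List.mem_map] at hE
    rcases hE with ⟨e, he, rfl⟩ | ⟨c, hc, rfl⟩
    · have hok := heqs e he
      unfold consOk at hok
      cases h1 : run rules e.2.1 e.1 with
      | none => rw [h1] at hok; simp at hok
      | some a =>
        cases h2 : run rules e.2.2 e.1 with
        | none => rw [h1, h2] at hok; simp at hok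
        | some b =>
          rw [h1, h2] at hok
          simp only [decide_eq_true_eq] at hok
          subst hok
          have e1 := htrace _ _ _ h1
          have e2 := htrace _ _ _ h2
          have e3 : tpv τ m (maskOf e.2.1) = tpv τ m (maskOf e.2.2) := by
            rw [e1] at e2
            exact mul_left_cancel e2
          rw [tpv_xor τ hτc hτ2, e3, tpv_sq τ hτc hτ2]
    · have hok := hconds c hc
      unfold condOk at hok
      cases h1 : run rules c.2 c.1 with
      | none => rw [h1] at hok; simp at hok
      | some a =>
        rw [h1] at hok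
        simp only [decide_eq_true_eq] at hok
        subst hok
        have e1 := htrace _ _ _ h1
        rw [hval c hc, ev_nil, one_mul] at e1
        exact e1.symm
  -- the masks of the rules vanish
  have hRM : ∀ (k : ℕ) (R : Rule), rules[k]? = some R → tpv τ m (ruleMask L k R) = 1 := by
    intro k R hk
    have hlt : k < rules.length := by
      by_contra hcon
      rw [List.getElem?_eq_none (by omega)] at hk
      exact absurd hk (by simp)
    unfold linOk at hlin
    rw [List.all_eq_true] at hlin
    have h1 := hlin k (List.mem_range.mpr hlt)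
    rw [hk] at h1
    simp only [decide_eq_true_eq] at h1
    rw [h1]
    apply tpv_xorAll τ hτc hτ2
    intro a ha
    rw [List.mem_map] at ha
    obtain ⟨j, _, rfl⟩ := ha
    by_cases hj : j < (eqMasks eqs conds).length
    · apply hEM
      rw [List.getD_eq_getElem _ _ hj]
      exact List.getElem_mem hj
    · rw [List.getD_eq_default _ _ (by omega)]
      exact tpv_zero τ m
  -- the new generators
  let t : ℕ → Γ := fun i => tpv τ m (L.getD i 0)
  refine ⟨fun i => γ i * t i, ?_, ?_⟩
  · intro i
    show (γ i)⁻¹ * (γ i * t i) ∈ A
    rw [inv_mul_cancel_left]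
    exact htpvA _
  · have hev : ∀ w : List ℕ, ev (fun i => γ i * t i) w = ev γ w * tpv τ m (wordMask L w) := by
      intro w
      induction w with
      | nil =>
        rw [ev_nil, ev_nil]
        have : wordMask L [] = 0 := rfl
        rw [this, tpv_zero, mul_one]
      | cons i w ih =>
        rw [ev_cons, ev_cons, ih]
        have h1 : wordMask L (i :: w) = L.getD i 0 ^^^ wordMask L w := rfl
        rw [h1, tpv_xor τ hτc hτ2]
        have hc := tpv_comm τ hτc m (L.getD i 0) (ev γ w)
        show γ i * tpv τ m (L.getD i 0) * (ev γ w * tpv τ m (wordMask L w))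
          = γ i * ev γ w * (tpv τ m (L.getD i 0) * tpv τ m (wordMask L w))
        calc γ i * tpv τ m (L.getD i 0) * (ev γ w * tpv τ m (wordMask L w))
            = γ i * (tpv τ m (L.getD i 0) * ev γ w) * tpv τ m (wordMask L w) := by
              simp only [mul_assoc]
          _ = γ i * (ev γ w * tpv τ m (L.getD i 0)) * tpv τ m (wordMask L w) := by rw [hc]
          _ = _ := by simp only [mul_assoc]
    intro k R hk
    rw [hev, hev, hτrule k R hk]
    have hlt : k < m := by
      by_contra hcon
      rw [List.getElem?_eq_none (by omega)] at hk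
      exact absurd hk (by simp)
    have h1 := hRM k R hk
    unfold ruleMask at h1
    rw [tpv_xor τ hτc hτ2, tpv_xor τ hτc hτ2, tpv_bit τ hlt] at h1
    -- τ k * (T1 * T2) = 1
    have h3 := tpv_sq τ hτc hτ2 m (wordMask L R.2)
    have h2 : τ k * tpv τ m (wordMask L R.1) = tpv τ m (wordMask L R.2) := by
      calc τ k * tpv τ m (wordMask L R.1)
          = τ k * tpv τ m (wordMask L R.1) * (tpv τ m (wordMask L R.2) * tpv τ m (wordMask L R.2)) := by
            rw [h3, mul_one]
        _ = (τ k * (tpv τ m (wordMask L R.1) * tpv τ m (wordMask L R.2))) * tpv τ m (wordMask L R.2) := by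
            simp only [mul_assoc]
        _ = tpv τ m (wordMask L R.2) := by rw [h1, one_mul]
    rw [mul_assoc, h2]

end main

end Cfsg.Agent.Lib.Helper41_PCTMain
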