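import Mathlib
import Cfsg.Agent.Lib.Helper41_PCTDefs

/-!
# Helper41_PCTShape: the shape of a polycyclic rewriting system (helper41)

`pcShape rules n r`: for every `i < n` the relative order `r i` is positive, the rules contain a
power rule `g i ^ r i → w` and, for every `i < j < n`, a conjugation rule `g j g i → g i w`, where
the words `w` only involve generators `k` with `i < k < n`.
-/

set_option autoImplicit false

namespace Cfsg.Agent.Lib.Helper41_PCTShape

open Cfsg.Agent.Lib.Helper41_PCTDefs

/-- all letters of `w` lie strictly between `i` and `n` -/
def later (i n : ℕ) (w : List ℕ) : Bool := w.all (fun k => decide (i < k) && decide (k < n))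

/-- the rules contain a power rule for the generator `i` -/
def hasPow (rules : List Rule) (n : ℕ) (r : ℕ → ℕ) (i : ℕ) : Bool :=
  rules.any (fun R => decide (R.1 = List.replicate (r i) i) && later i n R.2)

/-- the rules contain a conjugation rule `g j * g i → g i * w` -/
def hasConj (rules : List Rule) (n i j : ℕ) : Bool :=
  rules.any (fun R => decide (R.1 = [j, i]) &&
    (match R.2 with
     | [] => false
     | a :: w => decide (a = i) && later i n w))

/-- the rules form a polycyclic rewriting system on `n` generators with relative orders `r` -/
def pcShape (rules : List Rule) (n : ℕ) (r : ℕ → ℕ) : Bool :=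
  (List.range n).all (fun i => decide (0 < r i) && hasPow rules n r i &&
    (List.range n).all (fun j => decide (j ≤ i) || hasConj rules n i j))

end Cfsg.Agent.Lib.Helper41_PCTShape
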