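import Mathlib

/-!
# S2115-PCB (helper82, for helper41's S2115 market)

The order bound for a polycyclic generating sequence.
-/

set_option autoImplicit false

namespace Cfsg.Agent.Lib.Helper82_S2115_PCB

open Pointwise

/-- one step: if `a` conjugates (by `a⁻¹ · a`) the finite subgroup `K` into itself and `a ^ r ∈ K`,
then `zpowers a ⊔ K` is finite of order at most `r * |K|`. -/
theorem step {H : Type*} [Group H] (K : Subgroup H) [Finite K] (a : H) (r : ℕ) (hr : 0 < r)
    (hpow : a ^ r ∈ K) (hconj : ∀ x ∈ K, a⁻¹ * x * a ∈ K) :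
    Finite ↥(Subgroup.zpowers a ⊔ K) ∧ Nat.card ↥(Subgroup.zpowers a ⊔ K) ≤ r * Nat.card K := by
  classical
  -- conjugation by `a⁻¹` is a bijection of `K`
  let φ : K → K := fun x => ⟨a⁻¹ * x * a, hconj x x.2⟩
  have hφinj : Function.Injective φ := by
    intro x y hxy
    have h : a⁻¹ * (x : H) * a = a⁻¹ * (y : H) * a := congrArg Subtype.val hxy
    have h' : (x : H) = y := by
      have := congrArg (fun z => a * z * a⁻¹) h
      simpa [mul_assoc] using this
    exact Subtype.ext h'
  have hφsurj : Function.Surjective φ := Finite.injective_iff_surjective.mp hφinj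
  have hconj' : ∀ x ∈ K, a * x * a⁻¹ ∈ K := by
    intro x hx
    obtain ⟨x', hx'⟩ := hφsurj ⟨x, hx⟩
    have h : a⁻¹ * (x' : H) * a = x := congrArg Subtype.val hx'
    have : a * x * a⁻¹ = x' := by rw [← h]; group
    rw [this]; exact x'.2
  have hnorm : Subgroup.zpowers a ≤ Subgroup.normalizer (K : Set H) := by
    rw [Subgroup.zpowers_le]
    rw [Subgroup.mem_normalizer_iff]
    intro h
    constructor
    · intro hh; exact hconj' h hh
    · intro hh
      have := hconj _ hh
      simpa [mul_assoc] using this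
  have hset : ((Subgroup.zpowers a ⊔ K : Subgroup H) : Set H) = (Subgroup.zpowers a : Set H) * (K : Set H) :=
    Subgroup.coe_mul_of_left_le_normalizer_right _ _ hnorm
  -- every element is `a ^ e * x`
  have hform : ∀ y : ↥(Subgroup.zpowers a ⊔ K), ∃ p : Fin r × K,
      a ^ (p.1 : ℕ) * (p.2 : H) = (y : H) := by
    rintro ⟨y, hy⟩
    have hy' : y ∈ ((Subgroup.zpowers a ⊔ K : Subgroup H) : Set H) := hy
    rw [hset] at hy'
    obtain ⟨z, hz, x, hx, rfl⟩ := hy'
    obtain ⟨m, rfl⟩ := Subgroup.mem_zpowers_iff.mp hz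
    have hr0 : (r : ℤ) ≠ 0 := by exact_mod_cast hr.ne'
    have hmod := Int.emod_nonneg m hr0
    have hlt := Int.emod_lt_of_pos m (by exact_mod_cast hr : (0 : ℤ) < r)
    refine ⟨(⟨(m % r).toNat, by omega⟩, ⟨(a ^ r) ^ (m / r) * x, K.mul_mem (K.zpow_mem hpow _) hx⟩), ?_⟩
    have h1 : a ^ m = a ^ ((m % r).toNat : ℤ) * (a ^ (r : ℤ)) ^ (m / r) := by
      rw [← zpow_mul, ← zpow_add, Int.toNat_of_nonneg hmod, Int.emod_add_mul_ediv]
    simp only [zpow_natCast] at h1
    show a ^ (m % (r : ℤ)).toNat * ((a ^ r) ^ (m / r) * x) = a ^ m * x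
    rw [h1, mul_assoc]
  choose f hex using hform
  have hf : Function.Injective f := by
    intro y y' h
    apply Subtype.ext
    rw [← hex y, ← hex y', h]
  refine ⟨Finite.of_injective f hf, ?_⟩
  calc Nat.card ↥(Subgroup.zpowers a ⊔ K) ≤ Nat.card (Fin r × K) := Nat.card_le_card_of_injective f hf
    _ = r * Nat.card K := by rw [Nat.card_prod, Nat.card_fin]

theorem card_closure_le {H : Type*} [Group H] (n : ℕ) (g : ℕ → H) (r : ℕ → ℕ)
    (hr : ∀ i < n, 0 < r i)
    (hpow : ∀ i < n, g i ^ r i ∈ Subgroup.closure (g '' {k | i < k ∧ k < n}))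
    (hconj : ∀ i j, i < j → j < n →
      (g i)⁻¹ * g j * g i ∈ Subgroup.closure (g '' {k | i < k ∧ k < n})) :
    Finite ↥(Subgroup.closure (g '' {k | k < n})) ∧
      Nat.card ↥(Subgroup.closure (g '' {k | k < n})) ≤ ∏ i ∈ Finset.range n, r i := by
  classical
  have key : ∀ d i, i + d = n →
      Finite ↥(Subgroup.closure (g '' {k | i ≤ k ∧ k < n})) ∧
      Nat.card ↥(Subgroup.closure (g '' {k | i ≤ k ∧ k < n})) ≤ ∏ j ∈ Finset.Ico i n, r j := by
    intro d
    induction d with
    | zero =>
      intro i hi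
      have hi' : i = n := by omega
      subst hi'
      have hempty : {k | i ≤ k ∧ k < i} = (∅ : Set ℕ) := by
        ext k; simp only [Set.mem_ofPred_eq, Set.mem_empty_iff_false, iff_false]; omega
      rw [hempty, Set.image_empty, Subgroup.closure_empty]
      refine ⟨inferInstance, ?_⟩
      simp
    | succ d ih =>
      intro i hi
      have hin : i < n := by omega
      obtain ⟨hfin, hcard⟩ := ih (i + 1) (by omega)
      have hset : {k | i + 1 ≤ k ∧ k < n} = {k | i < k ∧ k < n} := by
        ext k; simp only [Set.mem_ofPred_eq]; omega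
      rw [hset] at hfin hcard
      set K := Subgroup.closure (g '' {k | i < k ∧ k < n}) with hK
      have hsplit : {k | i ≤ k ∧ k < n} = {i} ∪ {k | i < k ∧ k < n} := by
        ext k; simp only [Set.mem_ofPred_eq, Set.mem_union, Set.mem_singleton_iff]; omega
      have hclos : Subgroup.closure (g '' {k | i ≤ k ∧ k < n}) = Subgroup.zpowers (g i) ⊔ K := by
        rw [hsplit, Set.image_union, Set.image_singleton, Subgroup.closure_union,
          Subgroup.zpowers_eq_closure]
      -- conjugation maps K into K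
      have hc : ∀ x ∈ K, (g i)⁻¹ * x * g i ∈ K := by
        intro x hx
        induction hx using Subgroup.closure_induction with
        | mem y hy =>
          obtain ⟨j, ⟨hij, hjn⟩, rfl⟩ := hy
          exact hconj i j hij hjn
        | one => simp
        | mul y z _ _ hy hz =>
          have : (g i)⁻¹ * (y * z) * g i = ((g i)⁻¹ * y * g i) * ((g i)⁻¹ * z * g i) := by group
          rw [this]; exact K.mul_mem hy hz
        | inv y _ hy =>
          have : (g i)⁻¹ * y⁻¹ * g i = ((g i)⁻¹ * y * g i)⁻¹ := by group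
          rw [this]; exact K.inv_mem hy
      have := hfin
      obtain ⟨h1, h2⟩ := step K (g i) (r i) (hr i hin) (hpow i hin) hc
      rw [hclos]
      refine ⟨h1, ?_⟩
      rw [Finset.prod_eq_prod_Ico_succ_bot hin]
      calc Nat.card ↥(Subgroup.zpowers (g i) ⊔ K) ≤ r i * Nat.card K := h2
        _ ≤ r i * ∏ j ∈ Finset.Ico (i + 1) n, r j := Nat.mul_le_mul_left _ hcard
  have h0 := key n 0 (by omega)
  have hset0 : {k | 0 ≤ k ∧ k < n} = {k | k < n} := by
    ext k; simp
  rw [hset0, ← Finset.range_eq_Ico] at h0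
  exact h0

end Cfsg.Agent.Lib.Helper82_S2115_PCB
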