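import Mathlib
import Cfsg.Agent.Lib.Helper41_PCTDefs
import Cfsg.Agent.Lib.Helper41_PCT
import Cfsg.Agent.Lib.Helper41_PCTMain
import Cfsg.Agent.Lib.Helper41_PCTShape
import Cfsg.Agent.Lib.Helper82_S2115_PCB

/-!
# Helper41_PCTSplit: the splitting theorem of the tail calculus (helper41)

`ker_inf_commutator_eq_bot`: `σ : Γ →* G` surjective with central kernel of exponent two; `S ≤ G`
is generated by `g 0, …, g (n-1)`, which satisfy the rules of a polycyclic rewriting system, and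
`|S| ≥ ∏ r i`.  Given the certificates of `exists_exact_lifts`, the kernel of the extension
restricted to `S` meets the commutator subgroup of the preimage of `S` trivially.
-/

set_option autoImplicit false

namespace Cfsg.Agent.Lib.Helper41_PCTSplit

open Cfsg.Agent.Lib.Helper41_PCTDefs Cfsg.Agent.Lib.Helper41_PCT Cfsg.Agent.Lib.Helper41_PCTMain
  Cfsg.Agent.Lib.Helper41_PCTShape

open scoped commutatorElement

section words

variable {H : Type*} [Group H]

theorem ev_replicate (γ : ℕ → H) (m i : ℕ) : ev γ (List.replicate m i) = γ i ^ m := by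
  unfold ev
  rw [List.map_replicate, List.prod_replicate]

theorem ev_mem_of_later (γ : ℕ → H) (i n : ℕ) (w : List ℕ) (h : later i n w = true) :
    ev γ w ∈ Subgroup.closure (γ '' {k | i < k ∧ k < n}) := by
  unfold ev
  apply Subgroup.list_prod_mem
  intro x hx
  rw [List.mem_map] at hx
  obtain ⟨k, hk, rfl⟩ := hx
  unfold later at h
  rw [List.all_eq_true] at h
  have := h k hk
  simp only [Bool.and_eq_true, decide_eq_true_eq] at this
  exact Subgroup.subset_closure ⟨k, this, rfl⟩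

theorem map_ev {K : Type*} [Group K] (σ : H →* K) (γ : ℕ → H) (g : ℕ → K)
    (h : ∀ i, σ (γ i) = g i) (w : List ℕ) : σ (ev γ w) = ev g w := by
  unfold ev
  rw [map_list_prod, List.map_map]
  congr 1
  apply List.map_congr_left
  intro a _
  exact h a

theorem pow_rule_of_shape (rules : List Rule) (n : ℕ) (r : ℕ → ℕ)
    (hshape : pcShape rules n r = true) (i : ℕ) (hi : i < n) :
    0 < r i ∧ ∃ (k : ℕ) (R : Rule), rules[k]? = some R ∧ R.1 = List.replicate (r i) i ∧ later i n R.2 = true := by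
  unfold pcShape at hshape
  rw [List.all_eq_true] at hshape
  have h := hshape i (List.mem_range.mpr hi)
  simp only [Bool.and_eq_true, decide_eq_true_eq] at h
  obtain ⟨⟨h0, hp⟩, _⟩ := h
  refine ⟨h0, ?_⟩
  unfold hasPow at hp
  rw [List.any_eq_true] at hp
  obtain ⟨R, hR, hR2⟩ := hp
  simp only [Bool.and_eq_true, decide_eq_true_eq] at hR2
  obtain ⟨k, hk, hk2⟩ := List.getElem_of_mem hR
  exact ⟨k, R, by rw [List.getElem?_eq_getElem hk, hk2], hR2.1, hR2.2⟩

theorem conj_rule_of_shape (rules : List Rule) (n : ℕ) (r : ℕ → ℕ)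
    (hshape : pcShape rules n r = true) (i j : ℕ) (hij : i < j) (hj : j < n) :
    ∃ (k : ℕ) (R : Rule) (w : List ℕ), rules[k]? = some R ∧ R.1 = [j, i] ∧ R.2 = i :: w ∧ later i n w = true := by
  unfold pcShape at hshape
  rw [List.all_eq_true] at hshape
  have h := hshape i (List.mem_range.mpr (hij.trans hj))
  simp only [Bool.and_eq_true, decide_eq_true_eq] at h
  obtain ⟨_, hc⟩ := h
  rw [List.all_eq_true] at hc
  have h2 := hc j (List.mem_range.mpr hj)
  simp only [Bool.or_eq_true, decide_eq_true_eq] at h2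
  rcases h2 with h2 | h2
  · omega
  unfold hasConj at h2
  rw [List.any_eq_true] at h2
  obtain ⟨R, hR, hR2⟩ := h2
  obtain ⟨k, hk, hk2⟩ := List.getElem_of_mem hR
  obtain ⟨R1, R2⟩ := R
  cases R2 with
  | nil => simp at hR2
  | cons a w =>
    simp only [Bool.and_eq_true, decide_eq_true_eq] at hR2
    obtain ⟨h1, h3, h4⟩ := hR2
    subst h3
    exact ⟨k, (R1, a :: w), w, by rw [List.getElem?_eq_getElem hk, hk2], h1, rfl, h4⟩

/-- generators satisfying the rules of a polycyclic rewriting system generate a group of order at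
most the product of the relative orders -/
theorem card_closure_le_of_rules (rules : List Rule) (n : ℕ) (r : ℕ → ℕ)
    (hshape : pcShape rules n r = true) (γ : ℕ → H)
    (hrule : ∀ (k : ℕ) (R : Rule), rules[k]? = some R → ev γ R.1 = ev γ R.2) :
    Finite ↥(Subgroup.closure (γ '' {k | k < n})) ∧
      Nat.card ↥(Subgroup.closure (γ '' {k | k < n})) ≤ ∏ i ∈ Finset.range n, r i := by
  apply Cfsg.Agent.Lib.Helper82_S2115_PCB.card_closure_le n γ r
    (fun i hi => (pow_rule_of_shape rules n r hshape i hi).1)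
  · intro i hi
    obtain ⟨_, k, R, hk, hR1, hR2⟩ := pow_rule_of_shape rules n r hshape i hi
    have e := hrule k R hk
    rw [hR1, ev_replicate] at e
    rw [e]
    exact ev_mem_of_later γ i n R.2 hR2
  · intro i j hij hj
    obtain ⟨k, R, w, hk, hR1, hR2, hw⟩ := conj_rule_of_shape rules n r hshape i j hij hj
    have e := hrule k R hk
    rw [hR1, hR2, ev_cons, ev_cons, ev_cons, ev_nil, mul_one] at e
    have e2 : (γ i)⁻¹ * γ j * γ i = ev γ w := by
      rw [mul_assoc, e, inv_mul_cancel_left]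
    rw [e2]
    exact ev_mem_of_later γ i n w hw

end words

section split

variable {Γ G : Type*} [Group Γ] [Group G]

theorem conj_mul_central (y k x : Γ) (hk : k ∈ Subgroup.center Γ) :
    (y * k) * x * (y * k)⁻¹ = y * x * y⁻¹ := by
  have h : k * x = x * k := (Subgroup.mem_center_iff.mp hk x).symm
  calc (y * k) * x * (y * k)⁻¹ = y * (k * x) * k⁻¹ * y⁻¹ := by group
    _ = y * (x * k) * k⁻¹ * y⁻¹ := by rw [h]
    _ = y * x * y⁻¹ := by group

theorem commutator_mul_central (y₁ k₁ y₂ k₂ : Γ) (h₁ : k₁ ∈ Subgroup.center Γ)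
    (h₂ : k₂ ∈ Subgroup.center Γ) : ⁅y₁ * k₁, y₂ * k₂⁆ = ⁅y₁, y₂⁆ := by
  rw [commutatorElement_def, commutatorElement_def, conj_mul_central y₁ k₁ _ h₁]
  have e : (y₂ * k₂) * y₁⁻¹ * (y₂ * k₂)⁻¹ = y₂ * y₁⁻¹ * y₂⁻¹ := conj_mul_central y₂ k₂ _ h₂
  calc y₁ * (y₂ * k₂) * y₁⁻¹ * (y₂ * k₂)⁻¹ = y₁ * ((y₂ * k₂) * y₁⁻¹ * (y₂ * k₂)⁻¹) := by group
    _ = y₁ * (y₂ * y₁⁻¹ * y₂⁻¹) := by rw [e]
    _ = y₁ * y₂ * y₁⁻¹ * y₂⁻¹ := by group

theorem ker_inf_commutator_eq_bot (σ : Γ →* G)
    (hsurj : Function.Surjective σ) (hc : σ.ker ≤ Subgroup.center Γ)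
    (hexp : ∀ a ∈ σ.ker, a * a = 1)
    (n : ℕ) (r : ℕ → ℕ) (g : ℕ → G) (rules : List Rule)
    (hshape : pcShape rules n r = true)
    (hrulesG : ∀ (k : ℕ) (R : Rule), rules[k]? = some R → ev g R.1 = ev g R.2)
    (S : Subgroup G) (hS : S = Subgroup.closure (g '' {k | k < n}))
    (hcard : ∏ i ∈ Finset.range n, r i ≤ Nat.card ↥S)
    (eqs : List Cons) (conds : List Cond) (L : List ℕ) (C : List (List ℕ))
    (heqs : ∀ e ∈ eqs, consOk rules e = true)
    (hconds : ∀ c ∈ conds, condOk rules c = true)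
    (hval : ∀ γ : ℕ → Γ, (∀ i, σ (γ i) = g i) → ∀ c ∈ conds, ev γ c.1 = 1)
    (hlin : linOk rules (eqMasks eqs conds) L C = true) :
    (σ.subgroupComap S).ker ⊓ commutator ↥(S.comap σ) = ⊥ := by
  classical
  -- (1) lifts
  choose γ hγ using fun i => hsurj (g i)
  -- (2) exact lifts
  obtain ⟨γ', hγ'A, hγ'rule⟩ := exists_exact_lifts σ.ker hc hexp rules γ
    (by
      intro k R hk
      rw [MonoidHom.mem_ker, map_mul, map_inv, map_ev σ γ g hγ, map_ev σ γ g hγ,
        hrulesG k R hk, inv_mul_cancel])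
    eqs conds L C heqs hconds (hval γ hγ) hlin
  have hγ' : ∀ i, σ (γ' i) = g i := by
    intro i
    have h := hγ'A i
    rw [MonoidHom.mem_ker, map_mul, map_inv, hγ i, inv_mul_eq_one] at h
    exact h.symm
  -- (3) the order bound
  obtain ⟨hfin, hle⟩ := card_closure_le_of_rules rules n r hshape γ' hγ'rule
  set S₀ : Subgroup Γ := Subgroup.closure (γ' '' {k | k < n}) with hS₀
  -- (4) `S₀` maps onto `S`, injectively
  have hmap : S₀.map σ = S := by
    rw [hS, hS₀, MonoidHom.map_closure, Set.image_image]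
    congr 1
    apply Set.image_congr
    intro a _
    exact hγ' a
  have hmem : ∀ x : ↥S₀, σ x.1 ∈ S := by
    intro x
    rw [← hmap]
    exact Subgroup.mem_map_of_mem σ x.2
  let f : ↥S₀ → ↥S := fun x => ⟨σ x.1, hmem x⟩
  have hfsurj : Function.Surjective f := by
    intro y
    have hy : y.1 ∈ S₀.map σ := by rw [hmap]; exact y.2
    obtain ⟨x, hx, hxy⟩ := Subgroup.mem_map.mp hy
    exact ⟨⟨x, hx⟩, Subtype.ext hxy⟩
  have hfbij : Function.Bijective f :=
    hfsurj.bijective_of_nat_card_le (hle.trans hcard)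
  have hinj : ∀ x ∈ S₀, σ x = 1 → x = 1 := by
    intro x hx h1
    have : f ⟨x, hx⟩ = f 1 := by
      apply Subtype.ext
      show σ x = σ ((1 : ↥S₀) : Γ)
      rw [h1, Subgroup.coe_one, map_one]
    exact congrArg Subtype.val (hfbij.1 this)
  -- (5) commutators of the preimage of `S` lie in `S₀`
  have hdecomp : ∀ x : Γ, σ x ∈ S → ∃ y ∈ S₀, ∃ k ∈ σ.ker, x = y * k := by
    intro x hx
    obtain ⟨y, hy⟩ := hfsurj ⟨σ x, hx⟩
    have hy' : σ y.1 = σ x := congrArg Subtype.val hy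
    refine ⟨y.1, y.2, y.1⁻¹ * x, ?_, by group⟩
    rw [MonoidHom.mem_ker, map_mul, map_inv, hy', inv_mul_cancel]
  have hcomm : commutator ↥(S.comap σ) ≤ S₀.comap (S.comap σ).subtype := by
    rw [commutator_def, Subgroup.commutator_le]
    intro a _ b _
    rw [Subgroup.mem_comap]
    show ((⁅a, b⁆ : ↥(S.comap σ)) : Γ) ∈ S₀
    obtain ⟨y₁, hy₁, k₁, hk₁, ha⟩ := hdecomp a.1 a.2
    obtain ⟨y₂, hy₂, k₂, hk₂, hb⟩ := hdecomp b.1 b.2
    have e : ((⁅a, b⁆ : ↥(S.comap σ)) : Γ) = ⁅a.1, b.1⁆ := by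
      simp [commutatorElement_def]
    rw [e, ha, hb, commutator_mul_central y₁ k₁ y₂ k₂ (hc hk₁) (hc hk₂)]
    rw [commutatorElement_def]
    exact S₀.mul_mem (S₀.mul_mem (S₀.mul_mem hy₁ hy₂) (S₀.inv_mem hy₁)) (S₀.inv_mem hy₂)
  -- (6) conclusion
  rw [eq_bot_iff]
  intro z hz
  obtain ⟨hz1, hz2⟩ := hz
  rw [Subgroup.mem_bot]
  apply Subtype.ext
  have h1 : σ z.1 = 1 := by
    have := MonoidHom.mem_ker.mp hz1
    exact congrArg Subtype.val this
  exact hinj z.1 (hcomm hz2) h1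

end split

end Cfsg.Agent.Lib.Helper41_PCTSplit
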