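import Mathlib
import Cfsg.Agent.Lib.Helper41_SL2
import Cfsg.Agent.Lib.Helper41_SL2Triple

set_option autoImplicit false

/-!
`SL₂(F)` and `PSL₂(F)` in characteristic two: the centre of `SL₂(F)` is trivial, involutions are the
elements of trace zero, they fix a unique line, and commuting involutions fix the same line.
-/

namespace Cfsg.Agent.Lib.Helper41_SL2Char2

open Matrix

variable {F : Type*} [Field F]

/-- In characteristic two, `x ^ 2 = 1` forces `x = 1`. -/
theorem eq_one_of_sq (h2 : (2 : F) = 0) (x : F) (hx : x ^ 2 = 1) : x = 1 := by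
  have : (x - 1) ^ 2 = 0 := by linear_combination hx - x * h2 + h2
  have := pow_eq_zero_iff (two_ne_zero) |>.mp this
  linear_combination this

/-- In characteristic two the centre of `SL₂(F)` is trivial. -/
theorem center_eq_bot (h2 : (2 : F) = 0) :
    Subgroup.center (Matrix.SpecialLinearGroup (Fin 2) F) = ⊥ := by
  rw [eq_bot_iff]
  intro B hB
  obtain ⟨c, hc, hBc⟩ := Cfsg.Agent.Lib.Helper41_SL2.scalar_of_mem_center B hB
  rw [Subgroup.mem_bot]
  apply Subtype.ext
  rw [hBc, eq_one_of_sq h2 c hc, one_smul]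
  rfl

/-- In characteristic two the projection `SL₂(F) → PSL₂(F)` is injective. -/
theorem mk_injective (h2 : (2 : F) = 0) :
    Function.Injective (QuotientGroup.mk :
      Matrix.SpecialLinearGroup (Fin 2) F → Matrix.ProjectiveSpecialLinearGroup (Fin 2) F) := by
  intro A B hAB
  rw [QuotientGroup.eq, center_eq_bot h2, Subgroup.mem_bot] at hAB
  exact (inv_mul_eq_one.mp hAB)

/-- `det (C - 1) = 2 - tr C` for `C ∈ SL₂`. -/
theorem det_sub_one (C : Matrix.SpecialLinearGroup (Fin 2) F) :
    ((C : Matrix (Fin 2) (Fin 2) F) - 1).det = 2 - Matrix.trace (C : Matrix (Fin 2) (Fin 2) F) := by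
  have hd := C.2
  rw [Matrix.det_fin_two] at hd
  rw [Matrix.det_fin_two, Matrix.trace_fin_two]
  simp only [Matrix.sub_apply, Matrix.one_apply_eq, Matrix.one_apply_ne, ne_eq, zero_ne_one,
    one_ne_zero, not_false_eq_true, sub_zero, Fin.isValue]
  linear_combination hd

/-- An element of `SL₂` of trace zero, in characteristic two, fixes a nonzero vector. -/
theorem exists_fixed_of_trace (h2 : (2 : F) = 0) (C : Matrix.SpecialLinearGroup (Fin 2) F)
    (hC : Matrix.trace (C : Matrix (Fin 2) (Fin 2) F) = 0) :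
    ∃ v : Fin 2 → F, v ≠ 0 ∧ (C : Matrix (Fin 2) (Fin 2) F) *ᵥ v = v := by
  have hdet : ((C : Matrix (Fin 2) (Fin 2) F) - 1).det = 0 := by rw [det_sub_one, hC, h2, sub_zero]
  obtain ⟨v, hv, hv0⟩ := Matrix.exists_mulVec_eq_zero_iff.mpr hdet
  refine ⟨v, hv, ?_⟩
  rw [Matrix.sub_mulVec, Matrix.one_mulVec, sub_eq_zero] at hv0
  exact hv0

/-- In characteristic two, an element of `SL₂` with `C * C = 1` has trace zero. -/
theorem trace_eq_zero_of_mul_self (h2 : (2 : F) = 0) (C : Matrix.SpecialLinearGroup (Fin 2) F)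
    (hC : C * C = 1) : Matrix.trace (C : Matrix (Fin 2) (Fin 2) F) = 0 := by
  have h := Cfsg.Agent.Lib.Helper41_SL2Triple.mul_self_eq C
  rw [← Matrix.SpecialLinearGroup.coe_mul, hC, Matrix.SpecialLinearGroup.coe_one] at h
  by_contra ht
  -- tr • C = 2 = 0, so C = 0, contradicting det C = 1
  have h3 : (Matrix.trace (C : Matrix (Fin 2) (Fin 2) F)) • (C : Matrix (Fin 2) (Fin 2) F) = 0 := by
    have : (Matrix.trace (C : Matrix (Fin 2) (Fin 2) F)) • (C : Matrix (Fin 2) (Fin 2) F)
        = (2 : F) • (1 : Matrix (Fin 2) (Fin 2) F) := by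
      rw [two_smul]
      exact (eq_sub_iff_add_eq.mp h).symm
    rw [this, h2, zero_smul]
  have h4 : (C : Matrix (Fin 2) (Fin 2) F) = 0 := by
    rcases smul_eq_zero.mp h3 with h | h
    · exact absurd h ht
    · exact h
  have hd := C.2
  rw [h4, Matrix.det_zero] at hd
  exact zero_ne_one hd

/-- In characteristic two, an element of `SL₂` fixing a nonzero vector squares to one. -/
theorem mul_self_of_fixed (h2 : (2 : F) = 0) (T : Matrix.SpecialLinearGroup (Fin 2) F)
    (v : Fin 2 → F) (hv : v ≠ 0) (hT : (T : Matrix (Fin 2) (Fin 2) F) *ᵥ v = v) : T * T = 1 := by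
  have hdet : ((T : Matrix (Fin 2) (Fin 2) F) - 1).det = 0 := by
    apply Matrix.exists_mulVec_eq_zero_iff.mp
    refine ⟨v, hv, ?_⟩
    rw [Matrix.sub_mulVec, Matrix.one_mulVec, hT, sub_self]
  rw [det_sub_one, h2, zero_sub, neg_eq_zero] at hdet
  apply Subtype.ext
  rw [Matrix.SpecialLinearGroup.coe_mul, Cfsg.Agent.Lib.Helper41_SL2Triple.mul_self_eq, hdet,
    zero_smul, zero_sub, Matrix.SpecialLinearGroup.coe_one]
  have : (-1 : F) = 1 := by linear_combination -h2
  ext i j
  rw [Matrix.neg_apply]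
  by_cases hij : i = j
  · subst hij; rw [Matrix.one_apply_eq]; exact this
  · rw [Matrix.one_apply_ne hij, neg_zero]

/-- The fixed space of a nontrivial element of `SL₂` is at most a line. -/
theorem fixed_line (C : Matrix.SpecialLinearGroup (Fin 2) F) (hC : C ≠ 1) (v u : Fin 2 → F)
    (hv : v ≠ 0) (hCv : (C : Matrix (Fin 2) (Fin 2) F) *ᵥ v = v)
    (hCu : (C : Matrix (Fin 2) (Fin 2) F) *ᵥ u = u) : ∃ c : F, u = c • v := by
  have hv0 := congrFun hCv 0
  have hv1 := congrFun hCv 1
  have hu0 := congrFun hCu 0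
  have hu1 := congrFun hCu 1
  simp only [Matrix.mulVec, dotProduct, Fin.sum_univ_two] at hv0 hv1 hu0 hu1
  have hdet : v 0 * u 1 - v 1 * u 0 = 0 := by
    by_contra hne
    apply hC
    apply Subtype.ext
    rw [Matrix.SpecialLinearGroup.coe_one]
    have e00 : ((C : Matrix (Fin 2) (Fin 2) F) 0 0 - 1) * (v 0 * u 1 - v 1 * u 0) = 0 := by
      linear_combination u 1 * hv0 - v 1 * hu0
    have e01 : ((C : Matrix (Fin 2) (Fin 2) F) 0 1) * (v 0 * u 1 - v 1 * u 0) = 0 := by
      linear_combination v 0 * hu0 - u 0 * hv0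
    have e10 : ((C : Matrix (Fin 2) (Fin 2) F) 1 0) * (v 0 * u 1 - v 1 * u 0) = 0 := by
      linear_combination u 1 * hv1 - v 1 * hu1
    have e11 : ((C : Matrix (Fin 2) (Fin 2) F) 1 1 - 1) * (v 0 * u 1 - v 1 * u 0) = 0 := by
      linear_combination v 0 * hu1 - u 0 * hv1
    have f00 := (mul_eq_zero.mp e00).resolve_right hne
    have f01 := (mul_eq_zero.mp e01).resolve_right hne
    have f10 := (mul_eq_zero.mp e10).resolve_right hne
    have f11 := (mul_eq_zero.mp e11).resolve_right hne
    ext i j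
    fin_cases i <;> fin_cases j
    · simpa using sub_eq_zero.mp f00
    · simpa using f01
    · simpa using f10
    · simpa using sub_eq_zero.mp f11
  by_cases h0 : v 0 = 0
  · have h1 : v 1 ≠ 0 := by
      intro h1
      apply hv
      ext i
      fin_cases i
      · exact h0
      · exact h1
    refine ⟨u 1 / v 1, ?_⟩
    ext i
    fin_cases i
    · simp only [Fin.zero_eta, Fin.isValue, Pi.smul_apply, smul_eq_mul, h0, mul_zero]
      rw [h0, zero_mul, zero_sub, neg_eq_zero] at hdet
      exact (mul_eq_zero.mp hdet).resolve_left h1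
    · simp only [Fin.mk_one, Fin.isValue, Pi.smul_apply, smul_eq_mul]
      field_simp
  · refine ⟨u 0 / v 0, ?_⟩
    ext i
    fin_cases i
    · simp only [Fin.zero_eta, Fin.isValue, Pi.smul_apply, smul_eq_mul]
      field_simp
    · simp only [Fin.mk_one, Fin.isValue, Pi.smul_apply, smul_eq_mul]
      field_simp
      linear_combination hdet

end Cfsg.Agent.Lib.Helper41_SL2Char2
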