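import Cfsg.Agent.Lib.Helper41_SL2Conj

set_option autoImplicit false

namespace Cfsg.Agent.Lib.Helper41_SL2Conic

open QuadraticAlgebra Cfsg.Agent.Lib.Helper41_SL2 Cfsg.Agent.Lib.Helper41_SL2Conj

section conic

variable {F : Type*} [Field F] [Fintype F]

/-- The conic `a² - γab + b² - τa + τb + 1 = 0` has a point when `2 ≠ 0`, `τ ≠ 0`, `γ ≠ 2`. -/
theorem conic_point (h2 : (2 : F) ≠ 0) (τ γ : F) (hτ : τ ≠ 0) (hγ : γ ≠ 2) :
    ∃ a b : F, a * a - γ * a * b + b * b - τ * a + τ * b + 1 = 0 := by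
  by_cases hroot : ∃ r : F, r ^ 2 = -1 + γ * r
  · obtain ⟨r, hr⟩ := hroot
    have hr0 : r ≠ 0 := by
      rintro rfl
      simp at hr
    have hγr : γ = r + r⁻¹ := by
      field_simp
      linear_combination (-1 : F) * hr
    by_cases hr1 : r ^ 2 = 1
    · -- γ = -2
      have hrm : r = -1 := by
        have h : (r - 1) * (r + 1) = 0 := by linear_combination hr1
        rcases mul_eq_zero.1 h with h | h
        · exfalso
          apply hγ
          have : r = 1 := by linear_combination h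
          rw [hγr, this]; norm_num
        · linear_combination h
      have hγm : γ = -2 := by rw [hγr, hrm]; norm_num
      refine ⟨1 / (2 * τ), -(1 / (2 * τ)), ?_⟩
      rw [hγm]
      field_simp
      ring
    · have hrm1 : r - 1 ≠ 0 := by
        intro h
        apply hr1
        have : r = 1 := by linear_combination h
        rw [this]; norm_num
      have hrp1 : r + 1 ≠ 0 := by
        intro h
        apply hr1
        have : r = -1 := by linear_combination h
        rw [this]; norm_num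
      -- r' = r⁻¹, D = r⁻¹ - r
      set D : F := r⁻¹ - r with hD
      have hD0 : D ≠ 0 := by
        rw [hD]
        intro h
        apply hr1
        field_simp at h
        linear_combination (-1 : F) * h
      set c₁ : F := -τ * (r⁻¹ - 1) / D with hc₁
      set c₂ : F := τ * (r - 1) / D with hc₂
      set u : F := 1 - c₂ with hu
      set v : F := (c₁ * c₂ - 1) - c₁ with hv
      refine ⟨(r⁻¹ * u - r * v) / D, (u - v) / D, ?_⟩
      rw [hγr, hu, hv, hc₁, hc₂, hD]
      have h3 : (1 : F) - r ^ 2 ≠ 0 := by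
        intro h
        apply hr1
        linear_combination (-1 : F) * h
      field_simp
      ring
  · push Not at hroot
    have : Fact (∀ r : F, r ^ 2 ≠ -1 + γ * r) := ⟨hroot⟩
    have hγ2 : γ + 2 ≠ 0 := by
      intro h
      apply hroot (-1)
      have : γ = -2 := by linear_combination h
      rw [this]; norm_num
    obtain ⟨x₀, e⟩ : ∃ x₀ : F, (γ + 2) * x₀ = τ := ⟨τ / (γ + 2), by field_simp⟩
    obtain ⟨w, hw⟩ := norm_surjective (F := F) (a := -1) (b := γ) (x₀ * x₀ + γ * x₀ * x₀ + x₀ * x₀ - 1)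
    -- z = w + z₀, a = z.re, b = -z.im
    refine ⟨w.re + x₀, -(w.im + x₀), ?_⟩
    rw [QuadraticAlgebra.norm_def] at hw
    linear_combination hw + (w.re + w.im + 2 * x₀) * e

end conic


section product

variable {F : Type*} [Field F] [Fintype F]

/-- conjugating an element of `SL₂` by an invertible matrix -/
noncomputable def conjBy (P : Matrix (Fin 2) (Fin 2) F) (hP : P.det ≠ 0)
    (A : Matrix.SpecialLinearGroup (Fin 2) F) : Matrix.SpecialLinearGroup (Fin 2) F :=
  ⟨P * (A : Matrix (Fin 2) (Fin 2) F) * P⁻¹, by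
    rw [Matrix.det_mul, Matrix.det_mul, Matrix.det_nonsing_inv, A.2, mul_one]
    simpa using mul_inv_cancel₀ hP⟩

omit [Fintype F] in
theorem conjBy_coe (P : Matrix (Fin 2) (Fin 2) F) (hP : P.det ≠ 0)
    (A : Matrix.SpecialLinearGroup (Fin 2) F) :
    ((conjBy P hP A : Matrix.SpecialLinearGroup (Fin 2) F) : Matrix (Fin 2) (Fin 2) F) =
      P * (A : Matrix (Fin 2) (Fin 2) F) * P⁻¹ := rfl

omit [Fintype F] in
theorem trace_conjBy (P : Matrix (Fin 2) (Fin 2) F) (hP : P.det ≠ 0)
    (A : Matrix.SpecialLinearGroup (Fin 2) F) :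
    Matrix.trace ((conjBy P hP A : Matrix.SpecialLinearGroup (Fin 2) F) : Matrix (Fin 2) (Fin 2) F) =
      Matrix.trace (A : Matrix (Fin 2) (Fin 2) F) := by
  rw [conjBy_coe, Matrix.trace_mul_comm, ← Matrix.mul_assoc, Matrix.nonsing_inv_mul _ hP.isUnit,
    Matrix.one_mul]

omit [Fintype F] in
theorem conjBy_mul (P : Matrix (Fin 2) (Fin 2) F) (hP : P.det ≠ 0)
    (A B : Matrix.SpecialLinearGroup (Fin 2) F) :
    conjBy P hP A * conjBy P hP B = conjBy P hP (A * B) := by
  apply Subtype.ext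
  rw [Matrix.SpecialLinearGroup.coe_mul, conjBy_coe, conjBy_coe, conjBy_coe,
    Matrix.SpecialLinearGroup.coe_mul]
  calc P * (A : Matrix (Fin 2) (Fin 2) F) * P⁻¹ * (P * (B : Matrix (Fin 2) (Fin 2) F) * P⁻¹)
      = P * (A : Matrix (Fin 2) (Fin 2) F) * (P⁻¹ * P) * (B : Matrix (Fin 2) (Fin 2) F) * P⁻¹ := by
        simp only [Matrix.mul_assoc]
    _ = P * ((A : Matrix (Fin 2) (Fin 2) F) * (B : Matrix (Fin 2) (Fin 2) F)) * P⁻¹ := by
        rw [Matrix.nonsing_inv_mul _ hP.isUnit, Matrix.mul_one]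
        simp only [Matrix.mul_assoc]

/-- In odd characteristic, if `X ∈ SL₂(F)` has trace `τ` with `τ ≠ 0`, `τ² ≠ 4`, every non-scalar
`G ∈ SL₂(F)` of trace `≠ 2` is a product of two conjugates of `X`. -/
theorem product_of_two_conjugates (h2 : (2 : F) ≠ 0) (X G : Matrix.SpecialLinearGroup (Fin 2) F)
    (hτ0 : Matrix.trace (X : Matrix (Fin 2) (Fin 2) F) ≠ 0)
    (hτ4 : (Matrix.trace (X : Matrix (Fin 2) (Fin 2) F)) ^ 2 ≠ 4)
    (hG : ¬ ∃ c : F, (G : Matrix (Fin 2) (Fin 2) F) = c • (1 : Matrix (Fin 2) (Fin 2) F))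
    (hγ : Matrix.trace (G : Matrix (Fin 2) (Fin 2) F) ≠ 2) :
    ∃ U V : Matrix.SpecialLinearGroup (Fin 2) F, G = (U * X * U⁻¹) * (V * X * V⁻¹) := by
  set τ := Matrix.trace (X : Matrix (Fin 2) (Fin 2) F) with hτdef
  set γ := Matrix.trace (G : Matrix (Fin 2) (Fin 2) F) with hγdef
  obtain ⟨P, hP, hGP⟩ := exists_conj_companion G hG
  rw [← hγdef] at hGP
  obtain ⟨a, b, hab⟩ := conic_point h2 τ γ hτ0 hγ
  let A' : Matrix.SpecialLinearGroup (Fin 2) F :=
    ⟨!![a, b; τ - a * γ + b, τ - a], by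
      rw [Matrix.det_fin_two]
      simp
      linear_combination (-1 : F) * hab⟩
  let B' : Matrix.SpecialLinearGroup (Fin 2) F :=
    ⟨!![-b, a - τ - b * γ; a, τ + b], by
      rw [Matrix.det_fin_two]
      simp
      linear_combination (-1 : F) * hab⟩
  have hA'τ : Matrix.trace (A' : Matrix (Fin 2) (Fin 2) F) = τ := by
    simp [A', Matrix.trace_fin_two]
  have hB'τ : Matrix.trace (B' : Matrix (Fin 2) (Fin 2) F) = τ := by
    simp [B', Matrix.trace_fin_two]
  have hA'B' : ((A' * B' : Matrix.SpecialLinearGroup (Fin 2) F) : Matrix (Fin 2) (Fin 2) F) =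
      Helper41_SL2.comp (-1) γ := by
    rw [Matrix.SpecialLinearGroup.coe_mul]
    ext i j
    fin_cases i <;> fin_cases j <;>
      simp [A', B', Helper41_SL2.comp, Matrix.mul_apply, Fin.sum_univ_two] <;>
      first | ring1 | linear_combination hab | linear_combination (-1 : F) * hab |
        linear_combination (1 - γ) * hab | linear_combination (-γ) * hab
  obtain ⟨U, hU⟩ := conj_of_trace_eq (conjBy P hP A') X (by rw [trace_conjBy, hA'τ]) hτ4
  obtain ⟨V, hV⟩ := conj_of_trace_eq (conjBy P hP B') X (by rw [trace_conjBy, hB'τ]) hτ4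
  refine ⟨U, V, ?_⟩
  rw [← hU, ← hV, conjBy_mul]
  apply Subtype.ext
  rw [conjBy_coe, hA'B', ← hGP, Matrix.mul_assoc, Matrix.mul_nonsing_inv _ hP.isUnit, Matrix.mul_one]

end product


section misc

variable {F : Type*} [Field F]

/-- If the trace `τ` of `X ∈ SL₂(F)` satisfies `τ² = 4` (odd characteristic `p`), then `X ^ p` is scalar. -/
theorem pow_char_scalar_of_trace_sq (p : ℕ) [Fact p.Prime] [CharP F p] (h2 : (2 : F) ≠ 0)
    (X : Matrix.SpecialLinearGroup (Fin 2) F)
    (h : (Matrix.trace (X : Matrix (Fin 2) (Fin 2) F)) ^ 2 = 4) :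
    ∃ c : F, (X : Matrix (Fin 2) (Fin 2) F) ^ p = c • (1 : Matrix (Fin 2) (Fin 2) F) := by
  have hp : p.Prime := Fact.out
  set M : Matrix (Fin 2) (Fin 2) F := (X : Matrix (Fin 2) (Fin 2) F) with hM
  set t : F := Matrix.trace M with ht
  have hMM : M * M = (-1 : F) • (1 : Matrix (Fin 2) (Fin 2) F) + t • M := sl2_mul_self X
  obtain ⟨r, hr⟩ : ∃ r : F, t = 2 * r := ⟨t / 2, by field_simp⟩
  have hr1 : r * r = 1 := by
    have h4 : (4 : F) ≠ 0 := by
      have : (4 : F) = 2 * 2 := by norm_num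
      rw [this]; exact mul_ne_zero h2 h2
    have : 4 * (r * r) = 4 * 1 := by rw [hr] at h; linear_combination h
    exact mul_left_cancel₀ h4 this
  set N : Matrix (Fin 2) (Fin 2) F := M - r • (1 : Matrix (Fin 2) (Fin 2) F) with hN
  have hNN : N * N = 0 := by
    have : N * N = M * M - (2 * r) • M + (r * r) • (1 : Matrix (Fin 2) (Fin 2) F) := by
      rw [hN]
      simp only [sub_mul, mul_sub, Matrix.smul_mul, Matrix.mul_smul, mul_one, one_mul,
        smul_smul, two_mul, add_smul]
      abel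
    rw [this, hMM, hr, hr1]
    simp
  have hNp : N ^ p = 0 := by
    have : p = 2 + (p - 2) := by have := hp.two_le; omega
    rw [this, pow_add, pow_two, hNN, zero_mul]
  have hMN : M = r • (1 : Matrix (Fin 2) (Fin 2) F) + N := by rw [hN]; abel
  have hcomm : Commute (r • (1 : Matrix (Fin 2) (Fin 2) F)) N := by
    rw [Commute, SemiconjBy]
    simp
  refine ⟨r ^ p, ?_⟩
  rw [hMN, add_pow_char_of_commute _ hcomm, hNp, add_zero, _root_.smul_pow, one_pow]

/-- the central element `-1` of `SL₂` -/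
def negOne (F : Type*) [Field F] : Matrix.SpecialLinearGroup (Fin 2) F :=
  ⟨!![-1, 0; 0, -1], by simp [Matrix.det_fin_two]⟩

theorem negOne_mem_center : negOne F ∈ Subgroup.center (Matrix.SpecialLinearGroup (Fin 2) F) := by
  apply mem_center_of_scalar _ (-1)
  ext i j
  fin_cases i <;> fin_cases j <;> simp [negOne]

theorem negOne_mul_coe (G : Matrix.SpecialLinearGroup (Fin 2) F) :
    ((negOne F * G : Matrix.SpecialLinearGroup (Fin 2) F) : Matrix (Fin 2) (Fin 2) F) =
      -(G : Matrix (Fin 2) (Fin 2) F) := by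
  rw [Matrix.SpecialLinearGroup.coe_mul]
  ext i j
  fin_cases i <;> fin_cases j <;> simp [negOne, Matrix.mul_apply, Fin.sum_univ_two]

theorem mk_negOne_mul (G : Matrix.SpecialLinearGroup (Fin 2) F) :
    (QuotientGroup.mk (negOne F * G) : Matrix.ProjectiveSpecialLinearGroup (Fin 2) F) =
      QuotientGroup.mk G := by
  rw [QuotientGroup.mk_mul, (QuotientGroup.eq_one_iff _).2 negOne_mem_center, one_mul]

end misc

end Cfsg.Agent.Lib.Helper41_SL2Conic
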