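import Mathlib
import Cfsg.Agent.Lib.Helper41_SL2
import Cfsg.Agent.Lib.Helper41_SL2Conic
import Cfsg.Agent.Lib.Helper41_SL2Conj
import Cfsg.Agent.Lib.Helper41_SL2Order4
import Cfsg.Agent.Lib.Helper41_SL2Triple
import Cfsg.Agent.Lib.Helper41_SL2Char2
import Cfsg.Agent.Lib.Helper41_SL2Torus
import Cfsg.Agent.S2428

set_option autoImplicit false
set_option linter.unusedSectionVars false

/-!
Involutions of `PSL₂(F)`, `F` finite: they are the images of the trace-zero elements of `SL₂(F)`,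
they form one conjugacy class, and criteria (in terms of the trace of a product) for the product of
two involutions to have odd order (helper41).
-/

namespace Cfsg.Agent.Lib.Helper41_PSL2Inv

open Matrix Cfsg.Agent.Lib.Helper41_SL2

local notation "SL2" => Matrix.SpecialLinearGroup (Fin 2)
local notation "PSL2" => Matrix.ProjectiveSpecialLinearGroup (Fin 2)

section basic

variable {F : Type*} [Field F]

/-- the projection `SL₂ → PSL₂` -/
abbrev proj (A : SL2 F) : PSL2 F := QuotientGroup.mk A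

theorem proj_mul (A B : SL2 F) : proj (A * B) = proj A * proj B := rfl

theorem proj_surjective : Function.Surjective (proj : SL2 F → PSL2 F) :=
  QuotientGroup.mk_surjective

theorem proj_eq_one_iff (A : SL2 F) : proj A = 1 ↔ A ∈ Subgroup.center (SL2 F) :=
  QuotientGroup.eq_one_iff A

theorem trace_conj (U g : SL2 F) :
    Matrix.trace ((U * g * U⁻¹ : SL2 F) : Matrix (Fin 2) (Fin 2) F) =
      Matrix.trace (g : Matrix (Fin 2) (Fin 2) F) := by
  rw [Matrix.SpecialLinearGroup.coe_mul, Matrix.trace_mul_comm, ← Matrix.SpecialLinearGroup.coe_mul,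
    inv_mul_cancel_left]

theorem trace_mul_comm' (g h : SL2 F) :
    Matrix.trace ((g * h : SL2 F) : Matrix (Fin 2) (Fin 2) F) =
      Matrix.trace ((h * g : SL2 F) : Matrix (Fin 2) (Fin 2) F) := by
  rw [Matrix.SpecialLinearGroup.coe_mul, Matrix.trace_mul_comm, ← Matrix.SpecialLinearGroup.coe_mul]

/-- An element of `SL₂` whose image in `PSL₂` has order two has trace zero. -/
theorem trace_eq_zero_of_orderOf (A : SL2 F) (h : orderOf (proj A) = 2) :
    Matrix.trace (A : Matrix (Fin 2) (Fin 2) F) = 0 := by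
  have h2 : proj A ^ 2 = 1 := by
    have := pow_orderOf_eq_one (proj A)
    rwa [h] at this
  have h1 : proj A ≠ 1 := by
    intro h1
    rw [h1, orderOf_one] at h
    omega
  rw [psl_pow_eq_one_iff] at h2
  obtain ⟨c, hc⟩ := h2
  by_contra ht
  apply h1
  rw [proj_eq_one_iff]
  have hMM := sl2_mul_self A
  rw [pow_two, hMM] at hc
  apply mem_center_of_scalar A ((c + 1) / Matrix.trace (A : Matrix (Fin 2) (Fin 2) F))
  have h3 : Matrix.trace (A : Matrix (Fin 2) (Fin 2) F) • (A : Matrix (Fin 2) (Fin 2) F) =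
      (c + 1) • (1 : Matrix (Fin 2) (Fin 2) F) := by
    rw [add_smul, ← hc]
    module
  rw [div_eq_inv_mul, mul_smul, ← h3, smul_smul, inv_mul_cancel₀ ht, one_smul]

/-- Trace zero and non-central: the image in `PSL₂` has order two. -/
theorem orderOf_eq_two (A : SL2 F) (h : Matrix.trace (A : Matrix (Fin 2) (Fin 2) F) = 0)
    (h1 : proj A ≠ 1) : orderOf (proj A) = 2 := by
  have : Fact (Nat.Prime 2) := ⟨Nat.prime_two⟩
  exact orderOf_eq_prime (Cfsg.Agent.Lib.Helper41_SL2Triple.mk_pow_two_of_trace A h) h1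

theorem not_odd_of_trace_zero (A : SL2 F) (h : Matrix.trace (A : Matrix (Fin 2) (Fin 2) F) = 0)
    (h1 : proj A ≠ 1) : ¬ Odd (orderOf (proj A)) := by
  rw [orderOf_eq_two A h h1]
  decide

theorem odd_of_pow_eq_one {G : Type*} [Monoid G] (x : G) (n : ℕ) (hn : Odd n) (h : x ^ n = 1) :
    Odd (orderOf x) :=
  Odd.of_dvd_nat hn (orderOf_dvd_of_pow_eq_one h)

/-- An element of `SL₂` with prescribed entries. -/
theorem exists_mk (a b c d : F) (h : a * d - b * c = 1) :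
    ∃ P : SL2 F, (P : Matrix (Fin 2) (Fin 2) F) 0 0 = a ∧ (P : Matrix (Fin 2) (Fin 2) F) 0 1 = b ∧
      (P : Matrix (Fin 2) (Fin 2) F) 1 0 = c ∧ (P : Matrix (Fin 2) (Fin 2) F) 1 1 = d :=
  ⟨⟨!![a, b; c, d], by rw [Matrix.det_fin_two_of]; exact h⟩, rfl, rfl, rfl, rfl⟩

theorem trace_eq (g : SL2 F) : Matrix.trace (g : Matrix (Fin 2) (Fin 2) F) =
    (g : Matrix (Fin 2) (Fin 2) F) 0 0 + (g : Matrix (Fin 2) (Fin 2) F) 1 1 :=
  Matrix.trace_fin_two _

end basic

section finite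

variable {F : Type*} [Field F] [Fintype F]

/-- (U) In odd characteristic, trace `±2` gives an element of odd order in `PSL₂`. -/
theorem odd_of_trace_sq (p : ℕ) [Fact p.Prime] [CharP F p] (h2 : (2 : F) ≠ 0) (A : SL2 F)
    (h : (Matrix.trace (A : Matrix (Fin 2) (Fin 2) F)) ^ 2 = 4) : Odd (orderOf (proj A)) := by
  have hp : p.Prime := Fact.out
  have hp2 : p ≠ 2 := by
    rintro rfl
    apply h2
    exact CharP.cast_eq_zero F 2
  apply odd_of_pow_eq_one _ p (hp.odd_of_ne_two hp2)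
  rw [psl_pow_eq_one_iff]
  exact Cfsg.Agent.Lib.Helper41_SL2Conic.pow_char_scalar_of_trace_sq p h2 A h

/-- (S) If `|F| ≡ 3 (mod 4)` and the characteristic polynomial of `A` has a root in `F`, the image
of `A` in `PSL₂` has odd order. -/
theorem odd_of_root (p : ℕ) [Fact p.Prime] [CharP F p] (h3 : Fintype.card F % 4 = 3) (A : SL2 F)
    (r : F) (hr : r ^ 2 = -1 + Matrix.trace (A : Matrix (Fin 2) (Fin 2) F) * r) :
    Odd (orderOf (proj A)) := by
  set q := Fintype.card F with hq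
  have hodd : Odd q := by
    rw [Nat.odd_iff]
    omega
  have h2 : (2 : F) ≠ 0 := Cfsg.Agent.Lib.Helper41_SL2Torus.two_ne_zero_of_odd hodd
  set M : Matrix (Fin 2) (Fin 2) F := (A : Matrix (Fin 2) (Fin 2) F) with hM
  set t : F := Matrix.trace M with ht
  have hMM : M * M = (-1 : F) • (1 : Matrix (Fin 2) (Fin 2) F) + t • M := sl2_mul_self A
  set s : F := t - r with hs
  have hprod : r * s = 1 := by rw [hs]; linear_combination (-1 : F) * hr
  have hsum : r + s = t := by rw [hs]; ring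
  by_cases hrs : r = s
  · apply odd_of_trace_sq p h2 A
    have ht2 : t = 2 * r := by rw [← hsum, ← hrs]; ring
    have hr1 : r * r = 1 := by rw [← hrs] at hprod; exact hprod
    rw [← ht, ht2]
    linear_combination 4 * hr1
  · have hr0 : r ≠ 0 := by
      rintro rfl
      simp at hprod
    have hsinv : s = r⁻¹ := eq_inv_of_mul_eq_one_right hprod
    obtain ⟨m, hm⟩ : ∃ m, q - 1 = 2 * m := ⟨(q - 1) / 2, by omega⟩
    have hmodd : Odd m := by
      rw [Nat.odd_iff]
      omega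
    apply odd_of_pow_eq_one _ m hmodd
    rw [psl_pow_eq_one_iff]
    set c : F := r ^ m with hc
    have hcc : c * c = 1 := by
      rw [hc, ← pow_add, ← two_mul, ← hm]
      exact FiniteField.pow_card_sub_one_eq_one r hr0
    refine ⟨c, ?_⟩
    apply pow_eq_scalar_of_roots M t r s c m hMM hrs hsum hprod rfl
    rw [hsinv, inv_pow, ← hc]
    exact inv_eq_of_mul_eq_one_right hcc

/-- (E) In characteristic two, nonzero trace gives an element of odd order in `PSL₂`. -/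
theorem odd_of_trace_ne_zero (h2 : (2 : F) = 0) (A : SL2 F)
    (ht : Matrix.trace (A : Matrix (Fin 2) (Fin 2) F) ≠ 0) : Odd (orderOf (proj A)) := by
  have : CharP F 2 := by
    apply CharTwo.of_one_ne_zero_of_two_eq_zero one_ne_zero h2
  have : Fact (Nat.Prime 2) := ⟨Nat.prime_two⟩
  set q := Fintype.card F with hq
  have hq2 : 2 ∣ q := by
    obtain ⟨n, hpp, hcard⟩ := FiniteField.card F 2
    rw [hq, hcard]
    exact dvd_pow_self 2 n.ne_zero
  have hq1 : 2 ≤ q := Fintype.one_lt_card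
  have hgcd : Nat.gcd 2 (q - 1) = 1 := by
    rcases gcd_two_cases (q - 1) with h | ⟨-, h⟩
    · exact h
    · omega
  rcases psl2_pow_cases 2 A with h | h | h
  · exfalso
    rw [psl_pow_eq_one_iff] at h
    obtain ⟨c, hc⟩ := h
    have hMM := sl2_mul_self A
    rw [pow_two, hMM] at hc
    have h3 : Matrix.trace (A : Matrix (Fin 2) (Fin 2) F) • (A : Matrix (Fin 2) (Fin 2) F) =
        (c + 1) • (1 : Matrix (Fin 2) (Fin 2) F) := by
      rw [add_smul, ← hc]
      module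
    have h4 : (A : Matrix (Fin 2) (Fin 2) F) =
        ((c + 1) / Matrix.trace (A : Matrix (Fin 2) (Fin 2) F)) •
          (1 : Matrix (Fin 2) (Fin 2) F) := by
      rw [div_eq_inv_mul, mul_smul, ← h3, smul_smul, inv_mul_cancel₀ ht, one_smul]
    apply ht
    rw [h4, Matrix.trace_smul, Matrix.trace_one, Fintype.card_fin, smul_eq_mul]
    have : ((2 : ℕ) : F) = 0 := by exact_mod_cast h2
    rw [this, mul_zero]
  · rw [← hq, hgcd, Nat.div_one] at h
    exact odd_of_pow_eq_one _ _ (by rw [Nat.odd_iff]; omega) h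
  · rw [← hq, hgcd, Nat.div_one] at h
    exact odd_of_pow_eq_one _ _ (by rw [Nat.odd_iff]; omega) h

end finite

section conj

variable {F : Type*} [Field F] [Fintype F]

/-- the standard transvection -/
def unipElt (F : Type*) [Field F] : SL2 F := ⟨!![1, 1; 0, 1], by simp [Matrix.det_fin_two]⟩

/-- In characteristic two every non-identity trace-zero element of `SL₂(F)` is conjugate to the
standard transvection. -/
theorem conj_unip_char_two (h2 : (2 : F) = 0) (g : SL2 F)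
    (hg : Matrix.trace (g : Matrix (Fin 2) (Fin 2) F) = 0) (hg1 : g ≠ 1) :
    ∃ U : SL2 F, g = U * unipElt F * U⁻¹ := by
  have hchar : ringChar F = 2 := by
    have : CharP F 2 := CharTwo.of_one_ne_zero_of_two_eq_zero one_ne_zero h2
    exact ringChar.eq F 2
  have hdet := Cfsg.Agent.S2428.det_eq g
  rw [Matrix.trace_fin_two] at hg
  obtain ⟨a, ha⟩ : ∃ a, a = (g : Matrix (Fin 2) (Fin 2) F) 0 0 := ⟨_, rfl⟩
  obtain ⟨b, hb⟩ : ∃ b, b = (g : Matrix (Fin 2) (Fin 2) F) 0 1 := ⟨_, rfl⟩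
  obtain ⟨c, hc⟩ : ∃ c, c = (g : Matrix (Fin 2) (Fin 2) F) 1 0 := ⟨_, rfl⟩
  obtain ⟨d, hd⟩ : ∃ d, d = (g : Matrix (Fin 2) (Fin 2) F) 1 1 := ⟨_, rfl⟩
  rw [← ha, ← hb, ← hc, ← hd] at hdet
  rw [← ha, ← hd] at hg
  have hda : d = a := by linear_combination hg - a * h2
  suffices h : ∃ P : SL2 F, g * P = P * unipElt F by
    obtain ⟨P, hP⟩ := h
    exact ⟨P, by rw [← hP]; group⟩
  have hu00 : (unipElt F : Matrix (Fin 2) (Fin 2) F) 0 0 = 1 := rfl
  have hu01 : (unipElt F : Matrix (Fin 2) (Fin 2) F) 0 1 = 1 := rfl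
  have hu10 : (unipElt F : Matrix (Fin 2) (Fin 2) F) 1 0 = 0 := rfl
  have hu11 : (unipElt F : Matrix (Fin 2) (Fin 2) F) 1 1 = 1 := rfl
  by_cases hb0 : b = 0
  · have ha1 : a = 1 := by
      apply Cfsg.Agent.Lib.Helper41_SL2Char2.eq_one_of_sq h2
      rw [hda, hb0] at hdet
      linear_combination hdet
    by_cases hc0 : c = 0
    · exfalso
      apply hg1
      apply Cfsg.Agent.S2428.ext2
      · rw [← ha, ha1]; rfl
      · rw [← hb, hb0]; rfl
      · rw [← hc, hc0]; rfl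
      · rw [← hd, hda, ha1]; rfl
    · obtain ⟨r, hr⟩ := FiniteField.isSquare_of_char_two hchar (c⁻¹)
      have hrc : r * r * c = 1 := by rw [← hr, inv_mul_cancel₀ hc0]
      obtain ⟨P, hP00, hP01, hP10, hP11⟩ := exists_mk (0 : F) r (r * c) 0
        (by linear_combination (-1 : F) * hrc - h2)
      refine ⟨P, ?_⟩
      apply Cfsg.Agent.S2428.ext2
      all_goals rw [Cfsg.Agent.S2428.mul_entry, Cfsg.Agent.S2428.mul_entry]
      all_goals simp only [hu00, hu01, hu10, hu11, hP00, hP01, hP10, hP11, ← ha, ← hb, ← hc, ← hd]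
      · rw [hb0]; ring
      · rw [ha1]; ring
      · rw [hda, ha1]; ring
      · ring
  · obtain ⟨r, hr⟩ := FiniteField.isSquare_of_char_two hchar (b⁻¹)
    have hrb : r * r * b = 1 := by rw [← hr, inv_mul_cancel₀ hb0]
    obtain ⟨P, hP00, hP01, hP10, hP11⟩ := exists_mk (r * b) 0 (r * (a + 1)) r
      (by linear_combination hrb)
    refine ⟨P, ?_⟩
    rw [hda] at hdet
    apply Cfsg.Agent.S2428.ext2
    all_goals rw [Cfsg.Agent.S2428.mul_entry, Cfsg.Agent.S2428.mul_entry]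
    all_goals simp only [hu00, hu01, hu10, hu11, hP00, hP01, hP10, hP11, ← ha, ← hb, ← hc, ← hd]
    · linear_combination r * b * a * h2
    · ring
    · rw [hda]
      linear_combination r * hdet + r * b * c * h2
    · rw [hda]
      linear_combination (-r) * h2

/-- Any two non-central trace-zero elements of `SL₂(F)` are conjugate. -/
theorem conj_of_trace_zero (g h : SL2 F)
    (hg : Matrix.trace (g : Matrix (Fin 2) (Fin 2) F) = 0)
    (hh : Matrix.trace (h : Matrix (Fin 2) (Fin 2) F) = 0)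
    (hg1 : proj g ≠ 1) (hh1 : proj h ≠ 1) : ∃ U : SL2 F, g = U * h * U⁻¹ := by
  by_cases h2 : (2 : F) = 0
  · have hg1' : g ≠ 1 := by rintro rfl; exact hg1 rfl
    have hh1' : h ≠ 1 := by rintro rfl; exact hh1 rfl
    obtain ⟨U, hU⟩ := conj_unip_char_two h2 g hg hg1'
    obtain ⟨V, hV⟩ := conj_unip_char_two h2 h hh hh1'
    refine ⟨U * V⁻¹, ?_⟩
    have : unipElt F = V⁻¹ * h * V := by rw [hV]; group
    rw [hU, this]
    group
  · exact Cfsg.Agent.Lib.Helper41_SL2Order4.conj_of_trace_zero h2 g h hg hh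

end conj

section cls

variable {F : Type*} [Field F] [Fintype F]

/-- Elements of the class of an involution `t` of `PSL₂(F)` are the images of the non-central
trace-zero matrices. -/
theorem exists_rep_of_isConj (t x : PSL2 F) (ht : orderOf t = 2) (hx : IsConj t x) :
    ∃ g : SL2 F, proj g = x ∧ Matrix.trace (g : Matrix (Fin 2) (Fin 2) F) = 0 ∧ proj g ≠ 1 := by
  obtain ⟨g₀, rfl⟩ := proj_surjective t
  have h0 := trace_eq_zero_of_orderOf g₀ ht
  have h1 : proj g₀ ≠ 1 := by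
    intro h
    rw [h, orderOf_one] at ht
    omega
  rw [isConj_iff] at hx
  obtain ⟨c, hc⟩ := hx
  obtain ⟨C, rfl⟩ := proj_surjective c
  refine ⟨C * g₀ * C⁻¹, hc, by rw [trace_conj]; exact h0, ?_⟩
  intro h
  apply h1
  have h' : proj C * proj g₀ * (proj C)⁻¹ = 1 := h
  exact conj_eq_one_iff.mp h'

theorem isConj_of_trace_zero (t : PSL2 F) (ht : orderOf t = 2) (g : SL2 F)
    (hg : Matrix.trace (g : Matrix (Fin 2) (Fin 2) F) = 0) (hg1 : proj g ≠ 1) :
    IsConj t (proj g) := by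
  obtain ⟨g₀, rfl⟩ := proj_surjective t
  have h0 := trace_eq_zero_of_orderOf g₀ ht
  have h1 : proj g₀ ≠ 1 := by
    intro h
    rw [h, orderOf_one] at ht
    omega
  obtain ⟨U, hU⟩ := conj_of_trace_zero g g₀ hg h0 hg1 h1
  rw [isConj_iff]
  exact ⟨proj U, by rw [hU]; rfl⟩

end cls

section construct

variable {F : Type*} [Field F]

theorem K1 (a b c a' b' c' α β γ : F) (hg : a * a + b * c = -1) (hh : a' * a' + b' * c' = -1) :
    -((α * a + β * a' + γ * (b * c' - b' * c)) * (α * a + β * a' + γ * (b * c' - b' * c))) -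
      (α * b + β * b' + 2 * γ * (a * b' - b * a')) * (α * c + β * c' + 2 * γ * (c * a' - a * c')) =
    α ^ 2 - α * β * (2 * a * a' + b * c' + c * b') + β ^ 2 +
      γ ^ 2 * (4 - (2 * a * a' + b * c' + c * b') ^ 2) := by
  linear_combination (-α ^ 2 + 4 * γ ^ 2 * (a' * a' + b' * c')) * hg + (-β ^ 2 - 4 * γ ^ 2) * hh

theorem K2 (a b c a' b' c' α β γ : F) (hg : a * a + b * c = -1) :
    2 * a * (α * a + β * a' + γ * (b * c' - b' * c)) +
      b * (α * c + β * c' + 2 * γ * (c * a' - a * c')) +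
      c * (α * b + β * b' + 2 * γ * (a * b' - b * a')) =
    -2 * α + β * (2 * a * a' + b * c' + c * b') := by
  linear_combination (2 * α) * hg

theorem K3 (a b c a' b' c' α β γ : F) (hh : a' * a' + b' * c' = -1) :
    2 * a' * (α * a + β * a' + γ * (b * c' - b' * c)) +
      b' * (α * c + β * c' + 2 * γ * (c * a' - a * c')) +
      c' * (α * b + β * b' + 2 * γ * (a * b' - b * a')) =
    α * (2 * a * a' + b * c' + c * b') - 2 * β := by
  linear_combination (2 * β) * hh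

theorem K4 (τ s s' d : F) (he : 4 - τ ^ 2 ≠ 0) (hd : d ^ 2 = 4 - τ ^ 2 - s ^ 2 - s' ^ 2 - τ * s * s') :
    (-(2 * s + τ * s') / (4 - τ ^ 2)) ^ 2 -
      (-(2 * s + τ * s') / (4 - τ ^ 2)) * (-(2 * s' + τ * s) / (4 - τ ^ 2)) * τ +
      (-(2 * s' + τ * s) / (4 - τ ^ 2)) ^ 2 + (d / (4 - τ ^ 2)) ^ 2 * (4 - τ ^ 2) = 1 ∧
    -2 * (-(2 * s + τ * s') / (4 - τ ^ 2)) + (-(2 * s' + τ * s) / (4 - τ ^ 2)) * τ = s ∧
    (-(2 * s + τ * s') / (4 - τ ^ 2)) * τ - 2 * (-(2 * s' + τ * s) / (4 - τ ^ 2)) = s' := by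
  refine ⟨?_, ?_, ?_⟩
  · field_simp
    linear_combination (4 - τ ^ 2) * hd
  · field_simp
    ring
  · field_simp
    ring

/-- entries of a trace-zero element of `SL₂` -/
theorem entries_of_trace_zero (g : SL2 F)
    (hg : Matrix.trace (g : Matrix (Fin 2) (Fin 2) F) = 0) :
    (g : Matrix (Fin 2) (Fin 2) F) 1 1 = -(g : Matrix (Fin 2) (Fin 2) F) 0 0 ∧
    (g : Matrix (Fin 2) (Fin 2) F) 0 0 * (g : Matrix (Fin 2) (Fin 2) F) 0 0 +
      (g : Matrix (Fin 2) (Fin 2) F) 0 1 * (g : Matrix (Fin 2) (Fin 2) F) 1 0 = -1 := by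
  have hdet := Cfsg.Agent.S2428.det_eq g
  rw [trace_eq] at hg
  have h11 : (g : Matrix (Fin 2) (Fin 2) F) 1 1 = -(g : Matrix (Fin 2) (Fin 2) F) 0 0 := by
    linear_combination hg
  refine ⟨h11, ?_⟩
  rw [h11] at hdet
  linear_combination (-1 : F) * hdet

/-- trace of a product of two trace-zero elements -/
theorem trace_mul_of_trace_zero (g h : SL2 F)
    (hg : Matrix.trace (g : Matrix (Fin 2) (Fin 2) F) = 0)
    (hh : Matrix.trace (h : Matrix (Fin 2) (Fin 2) F) = 0) :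
    Matrix.trace ((g * h : SL2 F) : Matrix (Fin 2) (Fin 2) F) =
      2 * (g : Matrix (Fin 2) (Fin 2) F) 0 0 * (h : Matrix (Fin 2) (Fin 2) F) 0 0 +
      (g : Matrix (Fin 2) (Fin 2) F) 0 1 * (h : Matrix (Fin 2) (Fin 2) F) 1 0 +
      (g : Matrix (Fin 2) (Fin 2) F) 1 0 * (h : Matrix (Fin 2) (Fin 2) F) 0 1 := by
  rw [trace_eq, Cfsg.Agent.S2428.mul_entry, Cfsg.Agent.S2428.mul_entry,
    (entries_of_trace_zero g hg).1, (entries_of_trace_zero h hh).1]
  ring

/-- The common-neighbour construction: for trace-zero `g, h` with `τ = tr (g h)`, `τ² ≠ 4`, and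
`d² = 4 - τ² - s² - s'² - τ s s'` there is a trace-zero `k` with `tr (g k) = s`, `tr (k h) = s'`. -/
theorem exists_with_traces (g h : SL2 F)
    (hg : Matrix.trace (g : Matrix (Fin 2) (Fin 2) F) = 0)
    (hh : Matrix.trace (h : Matrix (Fin 2) (Fin 2) F) = 0) (τ s s' d : F)
    (hτ : Matrix.trace ((g * h : SL2 F) : Matrix (Fin 2) (Fin 2) F) = τ)
    (he : 4 - τ ^ 2 ≠ 0) (hd : d ^ 2 = 4 - τ ^ 2 - s ^ 2 - s' ^ 2 - τ * s * s') :
    ∃ k : SL2 F, Matrix.trace (k : Matrix (Fin 2) (Fin 2) F) = 0 ∧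
      Matrix.trace ((g * k : SL2 F) : Matrix (Fin 2) (Fin 2) F) = s ∧
      Matrix.trace ((k * h : SL2 F) : Matrix (Fin 2) (Fin 2) F) = s' := by
  obtain ⟨hg11, hRg⟩ := entries_of_trace_zero g hg
  obtain ⟨hh11, hRh⟩ := entries_of_trace_zero h hh
  rw [trace_mul_of_trace_zero g h hg hh] at hτ
  obtain ⟨a, ha⟩ : ∃ a, a = (g : Matrix (Fin 2) (Fin 2) F) 0 0 := ⟨_, rfl⟩
  obtain ⟨b, hb⟩ : ∃ b, b = (g : Matrix (Fin 2) (Fin 2) F) 0 1 := ⟨_, rfl⟩
  obtain ⟨c, hc⟩ : ∃ c, c = (g : Matrix (Fin 2) (Fin 2) F) 1 0 := ⟨_, rfl⟩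
  obtain ⟨a', ha'⟩ : ∃ a', a' = (h : Matrix (Fin 2) (Fin 2) F) 0 0 := ⟨_, rfl⟩
  obtain ⟨b', hb'⟩ : ∃ b', b' = (h : Matrix (Fin 2) (Fin 2) F) 0 1 := ⟨_, rfl⟩
  obtain ⟨c', hc'⟩ : ∃ c', c' = (h : Matrix (Fin 2) (Fin 2) F) 1 0 := ⟨_, rfl⟩
  simp only [← ha, ← hb, ← hc, ← ha', ← hb', ← hc'] at hRg hg11 hRh hh11 hτ
  obtain ⟨α, hα⟩ : ∃ α, α = -(2 * s + τ * s') / (4 - τ ^ 2) := ⟨_, rfl⟩
  obtain ⟨β, hβ⟩ : ∃ β, β = -(2 * s' + τ * s) / (4 - τ ^ 2) := ⟨_, rfl⟩
  obtain ⟨γ, hγ⟩ : ∃ γ, γ = d / (4 - τ ^ 2) := ⟨_, rfl⟩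
  obtain ⟨h41, h42, h43⟩ := K4 τ s s' d he hd
  simp only [← hα, ← hβ, ← hγ] at h41 h42 h43
  have h1 := K1 a b c a' b' c' α β γ hRg hRh
  have h2 := K2 a b c a' b' c' α β γ hRg
  have h3 := K3 a b c a' b' c' α β γ hRh
  rw [hτ] at h1 h2 h3
  obtain ⟨k, hk00, hk01, hk10, hk11⟩ := exists_mk
    (α * a + β * a' + γ * (b * c' - b' * c)) (α * b + β * b' + 2 * γ * (a * b' - b * a'))
    (α * c + β * c' + 2 * γ * (c * a' - a * c')) (-(α * a + β * a' + γ * (b * c' - b' * c)))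
    (by linear_combination h1 + h41)
  have hk : Matrix.trace (k : Matrix (Fin 2) (Fin 2) F) = 0 := by
    rw [trace_eq, hk00, hk11]; ring
  refine ⟨k, hk, ?_, ?_⟩
  · rw [trace_mul_of_trace_zero g k hg hk, ← ha, ← hb, ← hc, hk00, hk01, hk10]
    linear_combination h2 + h42
  · rw [trace_mul_of_trace_zero k h hk hh, ← ha', ← hb', ← hc', hk00, hk01, hk10]
    linear_combination h3 + h43

end construct

section projeq

variable {F : Type*} [Field F]

/-- If `k` and `g` have the same image in `PSL₂`, then `k = c • g` with `c² = 1`. -/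
theorem exists_smul_of_proj_eq (k g : SL2 F) (hkg : proj k = proj g) :
    ∃ c : F, c ^ 2 = 1 ∧ (k : Matrix (Fin 2) (Fin 2) F) = c • (g : Matrix (Fin 2) (Fin 2) F) := by
  have h1 : g⁻¹ * k ∈ Subgroup.center (SL2 F) := QuotientGroup.eq.mp hkg.symm
  obtain ⟨c, hc, hck⟩ := scalar_of_mem_center _ h1
  refine ⟨c, hc, ?_⟩
  have h2 : k = g * (g⁻¹ * k) := by group
  rw [h2, Matrix.SpecialLinearGroup.coe_mul, hck, Matrix.mul_smul, Matrix.mul_one]

theorem trace_sq_of_proj_eq_left (k g h : SL2 F) (hkg : proj k = proj g) :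
    (Matrix.trace ((k * h : SL2 F) : Matrix (Fin 2) (Fin 2) F)) ^ 2 =
      (Matrix.trace ((g * h : SL2 F) : Matrix (Fin 2) (Fin 2) F)) ^ 2 := by
  obtain ⟨c, hc, hck⟩ := exists_smul_of_proj_eq k g hkg
  rw [Matrix.SpecialLinearGroup.coe_mul, hck, Matrix.smul_mul, Matrix.trace_smul,
    ← Matrix.SpecialLinearGroup.coe_mul, smul_eq_mul, mul_pow, hc, one_mul]

theorem trace_sq_of_proj_eq_right (k g h : SL2 F) (hkh : proj k = proj h) :
    (Matrix.trace ((g * k : SL2 F) : Matrix (Fin 2) (Fin 2) F)) ^ 2 =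
      (Matrix.trace ((g * h : SL2 F) : Matrix (Fin 2) (Fin 2) F)) ^ 2 := by
  obtain ⟨c, hc, hck⟩ := exists_smul_of_proj_eq k h hkh
  rw [Matrix.SpecialLinearGroup.coe_mul, hck, Matrix.mul_smul, Matrix.trace_smul,
    ← Matrix.SpecialLinearGroup.coe_mul, smul_eq_mul, mul_pow, hc, one_mul]

/-- In odd characteristic, trace-zero elements are not central. -/
theorem proj_ne_one_of_trace_zero (h2 : (2 : F) ≠ 0) (k : SL2 F)
    (hk : Matrix.trace (k : Matrix (Fin 2) (Fin 2) F) = 0) : proj k ≠ 1 := by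
  intro h
  rw [proj_eq_one_iff] at h
  obtain ⟨c, hc, hck⟩ := scalar_of_mem_center k h
  rw [hck, Matrix.trace_smul, Matrix.trace_one, Fintype.card_fin, smul_eq_mul] at hk
  have hc0 : c = 0 := by
    have : c * 2 = 0 := by exact_mod_cast hk
    rcases mul_eq_zero.mp this with h | h
    · exact h
    · exact absurd h h2
  rw [hc0] at hc
  norm_num at hc

/-- `tr (g g) = -2` for a trace-zero `g`. -/
theorem trace_mul_self (g : SL2 F) (hg : Matrix.trace (g : Matrix (Fin 2) (Fin 2) F) = 0) :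
    Matrix.trace ((g * g : SL2 F) : Matrix (Fin 2) (Fin 2) F) = -2 := by
  rw [Matrix.SpecialLinearGroup.coe_mul,
    Cfsg.Agent.Lib.Helper41_SL2Order4.mul_self_of_trace_eq_zero g hg, Matrix.trace_neg,
    Matrix.trace_one, Fintype.card_fin]
  norm_num

end projeq

end Cfsg.Agent.Lib.Helper41_PSL2Inv
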