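import Mathlib
import Cfsg.Agent.Lib.Helper41_PSL2Inv

set_option autoImplicit false
set_option linter.unusedSectionVars false

/-!
Squares in finite fields of order `≡ 3 (mod 4)`: an irreducible quadratic `X² + τX + 1` takes square
and non-square values on prescribed square classes (helper41).  Used for the involution graph of
`PSL₂(q)`.
-/

namespace Cfsg.Agent.Lib.Helper41_PSL2Inv2

open Polynomial

variable {F : Type*} [Field F] [Fintype F]

theorem isSquare_mul_of_not (hF : ringChar F ≠ 2) {a b : F} (ha : ¬ IsSquare a)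
    (hb : ¬ IsSquare b) : IsSquare (a * b) := by
  have ha0 : a ≠ 0 := by rintro rfl; exact ha ⟨0, by ring⟩
  have hb0 : b ≠ 0 := by rintro rfl; exact hb ⟨0, by ring⟩
  rw [FiniteField.isSquare_iff hF (mul_ne_zero ha0 hb0), mul_pow]
  rw [FiniteField.isSquare_iff hF ha0] at ha
  rw [FiniteField.isSquare_iff hF hb0] at hb
  rcases FiniteField.pow_dichotomy hF ha0 with h | h
  · exact absurd h ha
  · rcases FiniteField.pow_dichotomy hF hb0 with h' | h'
    · exact absurd h' hb
    · rw [h, h']; ring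

omit [Fintype F] in
theorem not_isSquare_mul_left {a b : F} (ha0 : a ≠ 0) (ha : IsSquare a) (hb : ¬ IsSquare b) :
    ¬ IsSquare (a * b) := by
  rintro ⟨c, hc⟩
  obtain ⟨e, he⟩ := ha
  have he0 : e ≠ 0 := by rintro rfl; apply ha0; rw [he]; ring
  apply hb
  refine ⟨c / e, ?_⟩
  field_simp
  rw [he] at hc
  linear_combination hc

omit [Fintype F] in
theorem quad_ne_zero (τ : F) (hτ : ¬ IsSquare (τ ^ 2 - 4)) (P : F) :
    P ^ 2 + τ * P + 1 ≠ 0 := by
  intro h
  apply hτ
  exact ⟨2 * P + τ, by linear_combination (-4 : F) * h⟩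

/-- An irreducible quadratic takes a non-square value. -/
theorem exists_not_isSquare_quad (hF : ringChar F ≠ 2) (τ : F) (hτ : ¬ IsSquare (τ ^ 2 - 4)) :
    ∃ P : F, ¬ IsSquare (P ^ 2 + τ * P + 1) := by
  by_contra hcon
  push Not at hcon
  have hodd := FiniteField.odd_card_of_char_ne_two hF
  set m := Fintype.card F / 2 with hm
  have hm2 : 2 * m + 1 = Fintype.card F := Nat.two_mul_odd_div_two hodd ▸ by
    have := Nat.two_mul_odd_div_two hodd
    have h1 : 1 ≤ Fintype.card F := Fintype.card_pos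
    omega
  set N : F[X] := C 1 * X ^ 2 + C τ * X + C 1 with hN
  have hNdeg : N.natDegree = 2 := Polynomial.natDegree_quadratic one_ne_zero
  set f : F[X] := N ^ m - 1 with hf
  have hroots : ∀ x : F, f.eval (id x) = 0 := by
    intro x
    have h1 : N.eval x = x ^ 2 + τ * x + 1 := by simp [hN]
    rw [id, hf, eval_sub, eval_pow, eval_one, h1, sub_eq_zero]
    exact (FiniteField.isSquare_iff hF (quad_ne_zero τ hτ x)).mp (hcon x)
  have hdeg : f.natDegree < Fintype.card F := by
    have h1 : f.natDegree ≤ max (N ^ m).natDegree (1 : F[X]).natDegree := natDegree_sub_le _ _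
    rw [natDegree_pow, hNdeg, natDegree_one] at h1
    have : max (m * 2) 0 = m * 2 := by simp
    omega
  have hf0 : f = 0 := eq_zero_of_natDegree_lt_card_of_eval_eq_zero f Function.injective_id hroots hdeg
  have h2 : (N ^ m).natDegree = 0 := by
    have : N ^ m = 1 := by rw [← sub_eq_zero, ← hf, hf0]
    rw [this, natDegree_one]
  rw [natDegree_pow, hNdeg] at h2
  have hcard : 1 < Fintype.card F := Fintype.one_lt_card
  omega

/-- For `|F| ≡ 3 (mod 4)`, `|F| > 3` and `X² + τX + 1` irreducible there are `λ, μ ≠ 0` with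
`N(λμ) N(λ/μ)` a non-square. -/
theorem exists_lam_mu (h3 : Fintype.card F % 4 = 3) (hF4 : 4 ≤ Fintype.card F) (τ : F)
    (hτ : ¬ IsSquare (τ ^ 2 - 4)) :
    ∃ lam mu : F, lam ≠ 0 ∧ mu ≠ 0 ∧
      ¬ IsSquare (((lam * mu) ^ 2 + τ * (lam * mu) + 1) * ((lam / mu) ^ 2 + τ * (lam / mu) + 1)) := by
  classical
  have hF : ringChar F ≠ 2 := by
    intro h
    have := FiniteField.even_card_iff_char_two.mp h
    omega
  have h2 : (2 : F) ≠ 0 := Ring.two_ne_zero hF
  have h4' : (4 : F) ≠ 0 := by
    have : (4 : F) = 2 * 2 := by norm_num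
    rw [this]; exact mul_ne_zero h2 h2
  have hneg1 : ¬ IsSquare (-1 : F) := by
    rw [FiniteField.isSquare_neg_one_iff]
    omega
  have hN : ∀ P : F, P ^ 2 + τ * P + 1 ≠ 0 := quad_ne_zero τ hτ
  have hprod : IsSquare (((1 : F) ^ 2 + τ * 1 + 1) * ((-1 : F) ^ 2 + τ * (-1) + 1)) := by
    have := isSquare_mul_of_not hF hneg1 hτ
    have e : ((1 : F) ^ 2 + τ * 1 + 1) * ((-1 : F) ^ 2 + τ * (-1) + 1) = -1 * (τ ^ 2 - 4) := by ring
    rw [e]
    exact this
  -- a point `P ≠ 0` in the class opposite to `N 1`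
  have hP : ∃ P : F, P ≠ 0 ∧ ¬ IsSquare ((P ^ 2 + τ * P + 1) * ((1 : F) ^ 2 + τ * 1 + 1)) := by
    by_cases hN1 : IsSquare ((1 : F) ^ 2 + τ * 1 + 1)
    · obtain ⟨P, hPn⟩ := exists_not_isSquare_quad hF τ hτ
      refine ⟨P, ?_, ?_⟩
      · rintro rfl
        apply hPn
        exact ⟨1, by ring⟩
      · rw [mul_comm]
        exact not_isSquare_mul_left (hN 1) hN1 hPn
    · -- explicit square value
      obtain ⟨a, -, ha⟩ : ∃ a ∈ (Finset.univ : Finset F), a ∉ ({0, 1 - τ / 2, -1 - τ / 2} : Finset F) := by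
        apply Finset.exists_mem_notMem_of_card_lt_card
        calc ({0, 1 - τ / 2, -1 - τ / 2} : Finset F).card ≤ 3 := Finset.card_le_three
          _ < Fintype.card F := by omega
          _ = (Finset.univ : Finset F).card := Finset.card_univ.symm
      simp only [Finset.mem_insert, Finset.mem_singleton, not_or] at ha
      obtain ⟨ha0, ha1, ha2⟩ := ha
      set E : F := 1 - τ ^ 2 / 4 with hE
      set P : F := (E / a - a - τ) / 2 with hPdef
      have hNP : P ^ 2 + τ * P + 1 = ((a + E / a) / 2) * ((a + E / a) / 2) := by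
        rw [hPdef, hE]
        field_simp
        ring
      have hP0 : P ≠ 0 := by
        intro h0
        rw [hPdef, div_eq_zero_iff] at h0
        rcases h0 with h0 | h0
        · have h4 : (a + τ / 2 - 1) * (a + τ / 2 + 1) = 0 := by
            have : E - a * a - τ * a = 0 := by
              have := congrArg (· * a) h0
              simp only [zero_mul] at this
              rw [← this]
              field_simp
            rw [hE] at this
            field_simp at this ⊢
            linear_combination (-1 : F) * this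
          rcases mul_eq_zero.mp h4 with h5 | h5
          · apply ha1; linear_combination h5
          · apply ha2; linear_combination h5
        · exact h2 h0
      refine ⟨P, hP0, ?_⟩
      exact not_isSquare_mul_left (hN P) ⟨_, hNP⟩ hN1
  obtain ⟨P, hP0, hPn⟩ := hP
  by_cases hPs : IsSquare P
  · obtain ⟨l, hl⟩ := hPs
    have hl0 : l ≠ 0 := by rintro rfl; apply hP0; rw [hl]; ring
    refine ⟨l, l, hl0, hl0, ?_⟩
    rw [div_self hl0, ← hl]
    exact hPn
  · obtain ⟨l, hl⟩ := isSquare_mul_of_not hF hneg1 hPs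
    have hl0 : l ≠ 0 := by
      rintro rfl
      apply hP0
      linear_combination (-1 : F) * hl
    refine ⟨l, -l, hl0, neg_ne_zero.mpr hl0, ?_⟩
    have e1 : l * -l = P := by linear_combination hl
    have e2 : l / -l = -1 := by
      rw [div_neg, div_self hl0]
    rw [e1, e2]
    intro hsq
    apply hPn
    obtain ⟨u, hu⟩ := hsq
    obtain ⟨v, hv⟩ := hprod
    have hNm := hN (-1)
    refine ⟨u * v / ((-1 : F) ^ 2 + τ * (-1) + 1), ?_⟩
    rw [div_mul_div_comm, eq_div_iff (mul_ne_zero hNm hNm)]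
    linear_combination ((-1 : F) ^ 2 + τ * (-1) + 1) * ((1 : F) ^ 2 + τ * 1 + 1) * hu + u * u * hv

end Cfsg.Agent.Lib.Helper41_PSL2Inv2
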