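import Mathlib
import Cfsg.Agent.Lib.Helper41_PSL2Inv
import Cfsg.Agent.Lib.Helper41_PSL2Inv2

set_option autoImplicit false
set_option linter.unusedSectionVars false

/-!
Common neighbours in the "odd product" graph on the involutions of `PSL₂(F)`, `F` finite (helper41).
-/

namespace Cfsg.Agent.Lib.Helper41_PSL2Inv3

open Matrix Cfsg.Agent.Lib.Helper41_SL2 Cfsg.Agent.Lib.Helper41_PSL2Inv Cfsg.Agent.Lib.Helper41_PSL2Inv2

local notation "SL2" => Matrix.SpecialLinearGroup (Fin 2)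
local notation "PSL2" => Matrix.ProjectiveSpecialLinearGroup (Fin 2)

variable {F : Type*} [Field F] [Fintype F]

/-- Case `-1` a square (`q ≡ 1 mod 4`). -/
theorem common_one (p : ℕ) [Fact p.Prime] [CharP F p] (h2 : (2 : F) ≠ 0) (i : F) (hi : i ^ 2 = -1)
    (g h : SL2 F) (hg : Matrix.trace (g : Matrix (Fin 2) (Fin 2) F) = 0)
    (hh : Matrix.trace (h : Matrix (Fin 2) (Fin 2) F) = 0) :
    Odd (orderOf (proj g * proj h)) ∨
      ∃ k : SL2 F, Matrix.trace (k : Matrix (Fin 2) (Fin 2) F) = 0 ∧ proj k ≠ 1 ∧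
        proj k ≠ proj g ∧ proj k ≠ proj h ∧ Odd (orderOf (proj g * proj k)) ∧
        Odd (orderOf (proj k * proj h)) := by
  set τ := Matrix.trace ((g * h : SL2 F) : Matrix (Fin 2) (Fin 2) F) with hτ
  by_cases hτ4 : τ ^ 2 = 4
  · left
    exact odd_of_trace_sq p h2 (g * h) hτ4
  · right
    have he : 4 - τ ^ 2 ≠ 0 := fun h0 => hτ4 (by linear_combination (-1 : F) * h0)
    obtain ⟨k, hk, hgk, hkh⟩ := exists_with_traces g h hg hh τ (-2) (-2) (i * (τ + 2)) rfl he
      (by linear_combination (τ + 2) ^ 2 * hi)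
    refine ⟨k, hk, proj_ne_one_of_trace_zero h2 k hk, ?_, ?_, ?_, ?_⟩
    · intro hkg
      apply hτ4
      rw [hτ, ← trace_sq_of_proj_eq_left k g h hkg, hkh]
      norm_num
    · intro hkh'
      apply hτ4
      rw [hτ, ← trace_sq_of_proj_eq_right k g h hkh', hgk]
      norm_num
    · exact odd_of_trace_sq p h2 (g * k) (by rw [hgk]; norm_num)
    · exact odd_of_trace_sq p h2 (k * h) (by rw [hkh]; norm_num)

/-- Case `q ≡ 3 mod 4`. -/
theorem common_three (p : ℕ) [Fact p.Prime] [CharP F p] (h3 : Fintype.card F % 4 = 3)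
    (hF4 : 4 ≤ Fintype.card F)
    (g h : SL2 F) (hg : Matrix.trace (g : Matrix (Fin 2) (Fin 2) F) = 0)
    (hh : Matrix.trace (h : Matrix (Fin 2) (Fin 2) F) = 0) :
    Odd (orderOf (proj g * proj h)) ∨
      ∃ k : SL2 F, Matrix.trace (k : Matrix (Fin 2) (Fin 2) F) = 0 ∧ proj k ≠ 1 ∧
        proj k ≠ proj g ∧ proj k ≠ proj h ∧ Odd (orderOf (proj g * proj k)) ∧
        Odd (orderOf (proj k * proj h)) := by
  have hF : ringChar F ≠ 2 := by
    intro h
    have := FiniteField.even_card_iff_char_two.mp h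
    omega
  have h2 : (2 : F) ≠ 0 := Ring.two_ne_zero hF
  have hneg1 : ¬ IsSquare (-1 : F) := by
    rw [FiniteField.isSquare_neg_one_iff]
    omega
  set τ := Matrix.trace ((g * h : SL2 F) : Matrix (Fin 2) (Fin 2) F) with hτ
  by_cases hsq : IsSquare (τ ^ 2 - 4)
  · left
    obtain ⟨w, hw⟩ := hsq
    exact odd_of_root p h3 (g * h) ((τ + w) / 2) (by
      rw [← hτ]
      field_simp
      linear_combination (-1 : F) * hw)
  · right
    have he : 4 - τ ^ 2 ≠ 0 := by
      intro h0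
      apply hsq
      exact ⟨0, by linear_combination (-1 : F) * h0⟩
    obtain ⟨lam, mu, hlam, hmu, hns⟩ := exists_lam_mu h3 hF4 τ hsq
    have hN0 : ((lam * mu) ^ 2 + τ * (lam * mu) + 1) * ((lam / mu) ^ 2 + τ * (lam / mu) + 1) ≠ 0 :=
      mul_ne_zero (quad_ne_zero τ hsq _) (quad_ne_zero τ hsq _)
    obtain ⟨ε, hε⟩ := isSquare_mul_of_not hF hneg1 hns
    have key : -1 * (((lam * mu) ^ 2 + τ * (lam * mu) + 1) * ((lam / mu) ^ 2 + τ * (lam / mu) + 1)) /
        lam ^ 2 = 4 - τ ^ 2 - (-(lam + 1 / lam)) ^ 2 - (-(mu + 1 / mu)) ^ 2 -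
          τ * (-(lam + 1 / lam)) * (-(mu + 1 / mu)) := by
      field_simp
      ring
    obtain ⟨k, hk, hgk, hkh⟩ := exists_with_traces g h hg hh τ (-(lam + 1 / lam)) (-(mu + 1 / mu))
      (ε / lam) rfl he (by
        rw [← key, hε, div_pow]
        ring)
    have hsq1 : IsSquare ((-(lam + 1 / lam)) ^ 2 - 4) := ⟨lam - 1 / lam, by field_simp; ring⟩
    have hsq2 : IsSquare ((-(mu + 1 / mu)) ^ 2 - 4) := ⟨mu - 1 / mu, by field_simp; ring⟩
    refine ⟨k, hk, proj_ne_one_of_trace_zero h2 k hk, ?_, ?_, ?_, ?_⟩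
    · intro hkg
      apply hsq
      rw [hτ, ← trace_sq_of_proj_eq_left k g h hkg, hkh]
      exact hsq2
    · intro hkh'
      apply hsq
      rw [hτ, ← trace_sq_of_proj_eq_right k g h hkh', hgk]
      exact hsq1
    · apply odd_of_root p h3 (g * k) (-lam)
      rw [hgk]
      field_simp
      ring
    · apply odd_of_root p h3 (k * h) (-mu)
      rw [hkh]
      field_simp
      ring

end Cfsg.Agent.Lib.Helper41_PSL2Inv3
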