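import Mathlib
import Cfsg.Agent.Lib.Helper41_PSL2Inv
import Cfsg.Agent.S2428

set_option autoImplicit false
set_option linter.unusedSectionVars false

/-!
Characteristic two: common neighbours in the "odd product" graph on the involutions of `PSL₂(F)`
(helper41).
-/

namespace Cfsg.Agent.Lib.Helper41_PSL2Inv4

open Matrix Cfsg.Agent.Lib.Helper41_SL2 Cfsg.Agent.Lib.Helper41_PSL2Inv

local notation "SL2" => Matrix.SpecialLinearGroup (Fin 2)
local notation "PSL2" => Matrix.ProjectiveSpecialLinearGroup (Fin 2)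

/-- two nonzero linear forms on `F²` are simultaneously nonzero somewhere -/
theorem avoid_two {F : Type*} [Field F] (b c b' c' : F) (h1 : b ≠ 0 ∨ c ≠ 0)
    (h2 : b' ≠ 0 ∨ c' ≠ 0) : ∃ x y : F, b * x + c * y ≠ 0 ∧ b' * x + c' * y ≠ 0 := by
  have e1 : ∃ x y : F, b * x + c * y ≠ 0 := by
    rcases h1 with h | h
    · exact ⟨1, 0, by simpa using h⟩
    · exact ⟨0, 1, by simpa using h⟩
  have e2 : ∃ x y : F, b' * x + c' * y ≠ 0 := by
    rcases h2 with h | h
    · exact ⟨1, 0, by simpa using h⟩
    · exact ⟨0, 1, by simpa using h⟩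
  obtain ⟨x1, y1, hv1⟩ := e1
  obtain ⟨x2, y2, hv2⟩ := e2
  by_cases h21 : b' * x1 + c' * y1 = 0
  · by_cases h12 : b * x2 + c * y2 = 0
    · refine ⟨x1 + x2, y1 + y2, ?_, ?_⟩
      · intro h
        apply hv1
        linear_combination h - h12
      · intro h
        apply hv2
        linear_combination h - h21
    · exact ⟨x2, y2, h12, hv2⟩
  · exact ⟨x1, y1, hv1, h21⟩

variable {F : Type*} [Field F] [Fintype F]

/-- in characteristic two a non-identity trace-zero element has a nonzero off-diagonal entry -/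
theorem offdiag_ne_zero (h2 : (2 : F) = 0) (g : SL2 F)
    (hg : Matrix.trace (g : Matrix (Fin 2) (Fin 2) F) = 0) (hg1 : proj g ≠ 1) :
    (g : Matrix (Fin 2) (Fin 2) F) 0 1 ≠ 0 ∨ (g : Matrix (Fin 2) (Fin 2) F) 1 0 ≠ 0 := by
  by_contra hcon
  rw [not_or, not_not, not_not] at hcon
  obtain ⟨hb, hc⟩ := hcon
  obtain ⟨h11, hdet⟩ := entries_of_trace_zero g hg
  rw [hb, zero_mul, add_zero] at hdet
  have ha : (g : Matrix (Fin 2) (Fin 2) F) 0 0 = 1 := by
    have : ((g : Matrix (Fin 2) (Fin 2) F) 0 0 - 1) * ((g : Matrix (Fin 2) (Fin 2) F) 0 0 - 1) = 0 := by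
      linear_combination hdet - (g : Matrix (Fin 2) (Fin 2) F) 0 0 * h2
    have := mul_self_eq_zero.mp this
    linear_combination this
  apply hg1
  have : g = 1 := by
    apply Cfsg.Agent.S2428.ext2
    · rw [ha]; simp
    · rw [hb]; simp
    · rw [hc]; simp
    · rw [h11, ha]
      simp only [Matrix.SpecialLinearGroup.coe_one, Matrix.one_apply_eq]
      linear_combination (-1 : F) * h2
  rw [this]
  rfl

/-- Characteristic two: two involutions have a common neighbour. -/
theorem common_two (h2 : (2 : F) = 0)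
    (g h : SL2 F) (hg : Matrix.trace (g : Matrix (Fin 2) (Fin 2) F) = 0)
    (hh : Matrix.trace (h : Matrix (Fin 2) (Fin 2) F) = 0) (hg1 : proj g ≠ 1) (hh1 : proj h ≠ 1) :
    ∃ k : SL2 F, Matrix.trace (k : Matrix (Fin 2) (Fin 2) F) = 0 ∧ proj k ≠ 1 ∧
        proj k ≠ proj g ∧ proj k ≠ proj h ∧ Odd (orderOf (proj g * proj k)) ∧
        Odd (orderOf (proj k * proj h)) := by
  have hchar : ringChar F = 2 := by
    have : CharP F 2 := CharTwo.of_one_ne_zero_of_two_eq_zero one_ne_zero h2
    exact ringChar.eq F 2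
  obtain ⟨x, y, hxy1, hxy2⟩ := avoid_two _ _ _ _ (offdiag_ne_zero h2 g hg hg1)
    (offdiag_ne_zero h2 h hh hh1)
  obtain ⟨w, hw⟩ := FiniteField.isSquare_of_char_two hchar (1 + x * y)
  obtain ⟨k, k00, k01, k10, k11⟩ := exists_mk w y x w (by linear_combination (-1 : F) * hw)
  have hk : Matrix.trace (k : Matrix (Fin 2) (Fin 2) F) = 0 := by
    rw [trace_eq, k00, k11]
    linear_combination w * h2
  have hgk : Matrix.trace ((g * k : SL2 F) : Matrix (Fin 2) (Fin 2) F) ≠ 0 := by
    rw [trace_mul_of_trace_zero g k hg hk, k00, k01, k10]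
    intro h0
    apply hxy1
    linear_combination h0 - (g : Matrix (Fin 2) (Fin 2) F) 0 0 * w * h2
  have hkh : Matrix.trace ((k * h : SL2 F) : Matrix (Fin 2) (Fin 2) F) ≠ 0 := by
    rw [trace_mul_of_trace_zero k h hk hh, k00, k01, k10]
    intro h0
    apply hxy2
    linear_combination h0 - (h : Matrix (Fin 2) (Fin 2) F) 0 0 * w * h2
  have h4 : (4 : F) = 0 := by linear_combination (2 : F) * h2
  refine ⟨k, hk, ?_, ?_, ?_, odd_of_trace_ne_zero h2 (g * k) hgk, odd_of_trace_ne_zero h2 (k * h) hkh⟩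
  · intro h1
    apply hgk
    have := trace_sq_of_proj_eq_right k g 1 h1
    rw [mul_one, hg] at this
    exact pow_eq_zero_iff (two_ne_zero) |>.mp (by rw [this]; ring)
  · intro h1
    apply hgk
    have := trace_sq_of_proj_eq_right k g g h1
    rw [trace_mul_self g hg] at this
    exact pow_eq_zero_iff (two_ne_zero) |>.mp (by rw [this]; linear_combination h4)
  · intro h1
    apply hkh
    have := trace_sq_of_proj_eq_left k h h h1
    rw [trace_mul_self h hh] at this
    exact pow_eq_zero_iff (two_ne_zero) |>.mp (by rw [this]; linear_combination h4)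

/-- an element of `SL₂` whose image in `PSL₂` is trivial has zero off-diagonal entries -/
theorem offdiag_eq_zero_of_proj_eq_one (k : SL2 F) (hk : proj k = 1) :
    (k : Matrix (Fin 2) (Fin 2) F) 0 1 = 0 ∧ (k : Matrix (Fin 2) (Fin 2) F) 1 0 = 0 := by
  rw [proj_eq_one_iff] at hk
  obtain ⟨c, -, hck⟩ := scalar_of_mem_center k hk
  rw [hck]
  simp

/-- Characteristic two, at least four elements: an involution has a non-neighbour other than
itself. -/
theorem exists_nonadj_two (h2 : (2 : F) = 0) (hF : 4 ≤ Fintype.card F)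
    (g : SL2 F) (hg : Matrix.trace (g : Matrix (Fin 2) (Fin 2) F) = 0) (hg1 : proj g ≠ 1) :
    ∃ h : SL2 F, Matrix.trace (h : Matrix (Fin 2) (Fin 2) F) = 0 ∧ proj h ≠ 1 ∧
        proj h ≠ proj g ∧ ¬ Odd (orderOf (proj g * proj h)) ∧
        ¬ Odd (orderOf (proj h * proj g)) := by
  classical
  obtain ⟨β, -, hβ⟩ : ∃ β ∈ (Finset.univ : Finset F), β ∉ ({0, 1} : Finset F) := by
    apply Finset.exists_mem_notMem_of_card_lt_card
    calc ({0, 1} : Finset F).card ≤ 2 := Finset.card_le_two
      _ < Fintype.card F := by omega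
      _ = (Finset.univ : Finset F).card := Finset.card_univ.symm
  have hβ0 : β ≠ 0 := by
    intro h
    apply hβ
    simp [h]
  have hβ1 : 1 + β ≠ 0 := by
    intro h
    apply hβ
    have : β = 1 := by linear_combination h - h2
    simp [this]
  obtain ⟨h11, hdet⟩ := entries_of_trace_zero g hg
  set a := (g : Matrix (Fin 2) (Fin 2) F) 0 0 with ha
  set b := (g : Matrix (Fin 2) (Fin 2) F) 0 1 with hb
  set c := (g : Matrix (Fin 2) (Fin 2) F) 1 0 with hc
  have hbc := offdiag_ne_zero h2 g hg hg1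
  rw [← hb, ← hc] at hbc
  obtain ⟨h, h00, h01, h10, h11'⟩ := exists_mk (1 + β + β * a) (β * b) (β * c) (1 + β + β * a) (by
    linear_combination β ^ 2 * hdet + (β + (1 + β) * β * a - β ^ 2 * b * c) * h2)
  have hh : Matrix.trace (h : Matrix (Fin 2) (Fin 2) F) = 0 := by
    rw [trace_eq, h00, h11']
    linear_combination (1 + β + β * a) * h2
  have hgh : Matrix.trace ((g * h : SL2 F) : Matrix (Fin 2) (Fin 2) F) = 0 := by
    rw [trace_mul_of_trace_zero g h hg hh, h00, h01, h10, ← ha, ← hb, ← hc]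
    linear_combination (a * (1 + β + β * a) + b * β * c) * h2
  have hgh1 : proj (g * h) ≠ 1 := by
    intro h1
    obtain ⟨e01, e10⟩ := offdiag_eq_zero_of_proj_eq_one (g * h) h1
    rw [Cfsg.Agent.S2428.mul_entry, h01, h11', ← ha, ← hb] at e01
    rw [Cfsg.Agent.S2428.mul_entry, h00, h10, h11, ← hc] at e10
    have e1 : (1 + β) * b = 0 := by linear_combination e01 - a * β * b * h2
    have e2 : (1 + β) * c = 0 := by linear_combination e10
    rcases hbc with hb0 | hc0
    · rcases mul_eq_zero.mp e1 with h | h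
      · exact hβ1 h
      · exact hb0 h
    · rcases mul_eq_zero.mp e2 with h | h
      · exact hβ1 h
      · exact hc0 h
  refine ⟨h, hh, ?_, ?_, not_odd_of_trace_zero (g * h) hgh hgh1, ?_⟩
  · intro h1
    obtain ⟨e01, e10⟩ := offdiag_eq_zero_of_proj_eq_one h h1
    rw [h01] at e01
    rw [h10] at e10
    rcases hbc with hb0 | hc0
    · rcases mul_eq_zero.mp e01 with h | h
      · exact hβ0 h
      · exact hb0 h
    · rcases mul_eq_zero.mp e10 with h | h
      · exact hβ0 h
      · exact hc0 h
  · intro h1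
    obtain ⟨e, he, heq⟩ := exists_smul_of_proj_eq h g h1
    have e01 := congrFun (congrFun heq 0) 1
    have e10 := congrFun (congrFun heq 1) 0
    rw [h01, Matrix.smul_apply, smul_eq_mul, ← hb] at e01
    rw [h10, Matrix.smul_apply, smul_eq_mul, ← hc] at e10
    have he1 : e = 1 := by
      have : (e - 1) * (e - 1) = 0 := by linear_combination he - (e - 1) * h2
      have := mul_self_eq_zero.mp this
      linear_combination this
    rw [he1, one_mul] at e01 e10
    have e1 : (1 + β) * b = 0 := by linear_combination e01 + b * h2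
    have e2 : (1 + β) * c = 0 := by linear_combination e10 + c * h2
    rcases hbc with hb0 | hc0
    · rcases mul_eq_zero.mp e1 with h | h
      · exact hβ1 h
      · exact hb0 h
    · rcases mul_eq_zero.mp e2 with h | h
      · exact hβ1 h
      · exact hc0 h
  · apply not_odd_of_trace_zero (h * g)
    · rw [trace_mul_comm']
      exact hgh
    · intro h1
      apply hgh1
      have h1' : proj h * proj g = 1 := h1
      exact mul_eq_one_comm.mp h1'

end Cfsg.Agent.Lib.Helper41_PSL2Inv4
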