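import Mathlib
import Cfsg.Agent.Lib.Helper41_PSL2Inv
import Cfsg.Agent.Lib.Helper41_PSL2Inv3
import Cfsg.Agent.Lib.Helper41_PSL2Inv4
import Cfsg.Agent.Lib.Helper41_SL2Conj

set_option autoImplicit false
set_option linter.unusedSectionVars false

/-!
The "odd product" graph on the involutions of `PSL₂(F)`, `F` finite with at least four elements:
any two involutions are adjacent or have a common neighbour, and every involution has a non-neighbour
(helper41).
-/

namespace Cfsg.Agent.Lib.Helper41_PSL2Inv5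

open Matrix Cfsg.Agent.Lib.Helper41_SL2 Cfsg.Agent.Lib.Helper41_PSL2Inv
  Cfsg.Agent.Lib.Helper41_PSL2Inv3 Cfsg.Agent.Lib.Helper41_PSL2Inv4

local notation "SL2" => Matrix.SpecialLinearGroup (Fin 2)
local notation "PSL2" => Matrix.ProjectiveSpecialLinearGroup (Fin 2)

variable {F : Type*} [Field F] [Fintype F]

/-- Odd characteristic: an involution has a non-neighbour other than itself. -/
theorem exists_nonadj_odd (h2 : (2 : F) ≠ 0)
    (g : SL2 F) (hg : Matrix.trace (g : Matrix (Fin 2) (Fin 2) F) = 0) :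
    ∃ h : SL2 F, Matrix.trace (h : Matrix (Fin 2) (Fin 2) F) = 0 ∧ proj h ≠ 1 ∧
        proj h ≠ proj g ∧ ¬ Odd (orderOf (proj g * proj h)) ∧
        ¬ Odd (orderOf (proj h * proj g)) := by
  obtain ⟨w, w00, w01, w10, w11⟩ := exists_mk (0 : F) 1 (-1) 0 (by ring)
  have hw : Matrix.trace (w : Matrix (Fin 2) (Fin 2) F) = 0 := by
    rw [trace_eq, w00, w11, add_zero]
  obtain ⟨U, hU⟩ := Cfsg.Agent.Lib.Helper41_SL2Order4.conj_of_trace_zero h2 g w hg hw
  have h04 : (0 : F) ^ 2 ≠ 4 := by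
    intro h
    apply h2
    have h4 : (2 : F) * 2 = 0 := by linear_combination (-1 : F) * h
    exact mul_self_eq_zero.mp h4
  obtain ⟨x, y, hxy⟩ := Cfsg.Agent.Lib.Helper41_SL2Conj.form_represents (0 : F) h04 (-1)
  obtain ⟨h₀, e00, e01, e10, e11⟩ := exists_mk x y y (-x) (by linear_combination (-1 : F) * hxy)
  have hh₀ : Matrix.trace (h₀ : Matrix (Fin 2) (Fin 2) F) = 0 := by
    rw [trace_eq, e00, e11, add_neg_cancel]
  have hwh : Matrix.trace ((w * h₀ : SL2 F) : Matrix (Fin 2) (Fin 2) F) = 0 := by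
    rw [trace_mul_of_trace_zero w h₀ hw hh₀, w00, w01, w10, e01, e10]
    ring
  have hh : Matrix.trace ((U * h₀ * U⁻¹ : SL2 F) : Matrix (Fin 2) (Fin 2) F) = 0 := by
    rw [Cfsg.Agent.Lib.Helper41_PSL2Inv.trace_conj]
    exact hh₀
  have hprod : g * (U * h₀ * U⁻¹) = U * (w * h₀) * U⁻¹ := by
    rw [hU]
    group
  have hgh : Matrix.trace ((g * (U * h₀ * U⁻¹) : SL2 F) : Matrix (Fin 2) (Fin 2) F) = 0 := by
    rw [hprod, Cfsg.Agent.Lib.Helper41_PSL2Inv.trace_conj]
    exact hwh
  have hhg : Matrix.trace (((U * h₀ * U⁻¹) * g : SL2 F) : Matrix (Fin 2) (Fin 2) F) = 0 := by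
    rw [trace_mul_comm']
    exact hgh
  refine ⟨U * h₀ * U⁻¹, hh, proj_ne_one_of_trace_zero h2 _ hh, ?_,
    not_odd_of_trace_zero _ hgh (proj_ne_one_of_trace_zero h2 _ hgh),
    not_odd_of_trace_zero _ hhg (proj_ne_one_of_trace_zero h2 _ hhg)⟩
  intro h1
  have := trace_sq_of_proj_eq_right (U * h₀ * U⁻¹) g g h1
  rw [hgh, trace_mul_self g hg] at this
  apply h2
  have h4 : (2 : F) * 2 = 0 := by linear_combination (-1 : F) * this
  exact mul_self_eq_zero.mp h4

/-- Every involution has a non-neighbour other than itself. -/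
theorem exists_nonadj (hF : 4 ≤ Fintype.card F)
    (g : SL2 F) (hg : Matrix.trace (g : Matrix (Fin 2) (Fin 2) F) = 0) (hg1 : proj g ≠ 1) :
    ∃ h : SL2 F, Matrix.trace (h : Matrix (Fin 2) (Fin 2) F) = 0 ∧ proj h ≠ 1 ∧
        proj h ≠ proj g ∧ ¬ Odd (orderOf (proj g * proj h)) ∧
        ¬ Odd (orderOf (proj h * proj g)) := by
  by_cases h2 : (2 : F) = 0
  · exact exists_nonadj_two h2 hF g hg hg1
  · exact exists_nonadj_odd h2 g hg

/-- Two involutions are adjacent or have a common neighbour. -/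
theorem common (hF : 4 ≤ Fintype.card F)
    (g h : SL2 F) (hg : Matrix.trace (g : Matrix (Fin 2) (Fin 2) F) = 0)
    (hh : Matrix.trace (h : Matrix (Fin 2) (Fin 2) F) = 0) (hg1 : proj g ≠ 1) (hh1 : proj h ≠ 1) :
    Odd (orderOf (proj g * proj h)) ∨
      ∃ k : SL2 F, Matrix.trace (k : Matrix (Fin 2) (Fin 2) F) = 0 ∧ proj k ≠ 1 ∧
        proj k ≠ proj g ∧ proj k ≠ proj h ∧ Odd (orderOf (proj g * proj k)) ∧
        Odd (orderOf (proj k * proj h)) := by
  by_cases h2 : (2 : F) = 0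
  · right
    exact common_two h2 g h hg hh hg1 hh1
  · obtain ⟨p, hp⟩ := CharP.exists F
    have := hp
    have : Fact p.Prime := ⟨CharP.char_is_prime F p⟩
    have hchar : ringChar F ≠ 2 := by
      intro h
      apply h2
      have : CharP F 2 := by
        rw [← h]
        exact ringChar.charP F
      exact CharTwo.two_eq_zero
    have hodd := FiniteField.odd_card_of_char_ne_two hchar
    by_cases h3 : Fintype.card F % 4 = 3
    · exact common_three p h3 hF g h hg hh
    · obtain ⟨i, hi⟩ := FiniteField.isSquare_neg_one_iff.mpr h3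
      exact common_one p h2 i (by rw [pow_two]; exact hi.symm) g h hg hh

end Cfsg.Agent.Lib.Helper41_PSL2Inv5
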