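import Cfsg.Agent.Lib.Helper50_PUDefs

/-!
# pu market (architect helper50), package OPPT

`opp_transport`: transport of the facts on `S` to an arbitrary Sylow `p`-subgroup `T = g • S` by
conjugation (`V = ⟨Z(S)^G⟩` and `Q = O_p(G)` are normal).
-/

set_option autoImplicit false

namespace Cfsg.Agent.Lib.Helper41_PU_OPPT

open scoped commutatorElement
open Cfsg.Agent.Lib.Helper50_PUDefs Cfsg.Agent.Lib.Helper51_Offender Cfsg.Agent.Lib.Helper72_AbelianJ

section Main

variable {G : Type*} [Group G] [Finite G] {p : ℕ} [Fact p.Prime] {S : Sylow p G}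

local notation "Q" => Cfsg.pCore p G
local notation "V" => VS (S : Subgroup G)
local notation "Z" => ZS (S : Subgroup G)
local notation "J" => JS (S : Subgroup G)
local notation "Y" => YS (S : Subgroup G)
local notation "B" => BS (S : Subgroup G)
local notation "ZD" => YS (Cfsg.pCore p G)
local notation "LJ" => Subgroup.normalClosure ((JS (S : Subgroup G) : Subgroup G) : Set G)
local notation "Q₀" => Cfsg.pCore p G ⊓ Subgroup.centralizer ((YS (S : Subgroup G) : Subgroup G) : Set G)

-- PKG OPPT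
theorem opp_transport (h : MainCase p S) (hvb : VBasic p S)
    (hq : ⁅V, (S : Subgroup G)⁆ ≤ Subgroup.centralizer (((S : Subgroup G) : Subgroup G) : Set G))
    (T : Sylow p G) : Transp p S T := by
  obtain ⟨g, rfl⟩ := MulAction.exists_smul_eq G S T
  have hQn : (Q).Normal := hvb.core_normal
  have hVn : (V).Normal := Subgroup.normalClosure_normal
  have hmem : ∀ x, x ∈ ((g • S : Sylow p G) : Subgroup G) ↔ g⁻¹ * x * g ∈ (S : Subgroup G) := by
    intro x
    rw [Sylow.coe_subgroup_smul, Subgroup.mem_pointwise_smul_iff_inv_smul_mem]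
    simp [MulAut.smul_def]
  have hmem' : ∀ x, x ∈ (S : Subgroup G) → g * x * g⁻¹ ∈ ((g • S : Sylow p G) : Subgroup G) := by
    intro x hx
    rw [hmem]
    have : g⁻¹ * (g * x * g⁻¹) * g = x := by group
    rw [this]
    exact hx
  have hVc : ∀ v, v ∈ V → g⁻¹ * v * g ∈ V := by
    intro v hv
    have := hVn.conj_mem v hv g⁻¹
    rwa [inv_inv] at this
  refine ⟨?_, ?_, ?_, ?_, ?_, ?_⟩
  · -- core_le
    intro x hx
    rw [hmem]
    apply hvb.core_le
    have := hQn.conj_mem x hx g⁻¹
    rwa [inv_inv] at this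
  · -- comm
    rw [Subgroup.commutator_le]
    intro x hx y hy
    have hx' := (hmem x).mp hx
    have hy' := (hmem y).mp hy
    have h1 : ⁅g⁻¹ * x * g, g⁻¹ * y * g⁆ ∈ Q :=
      h.comm (Subgroup.commutator_mem_commutator hx' hy')
    have h2 : ⁅x, y⁆ = g * ⁅g⁻¹ * x * g, g⁻¹ * y * g⁆ * g⁻¹ := by
      simp only [commutatorElement_def]
      group
    rw [h2]
    exact hQn.conj_mem _ h1 g
  · -- expo
    intro b hb
    have hb' := (hmem b).mp hb
    have h1 := h.expo _ hb'
    have h2 : b ^ p = g * (g⁻¹ * b * g) ^ p * g⁻¹ := by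
      have h3 : (g⁻¹ * b * g) ^ p = g⁻¹ * b ^ p * g := by
        have := conj_pow (a := g⁻¹) (b := b) (i := p)
        rwa [inv_inv] at this
      rw [h3]
      group
    rw [h2]
    exact hQn.conj_mem _ h1 g
  · -- quad
    rw [Subgroup.commutator_le]
    intro v hv b hb
    have hv' := hVc v hv
    have hb' := (hmem b).mp hb
    have h1 : ⁅g⁻¹ * v * g, g⁻¹ * b * g⁆ ∈
        Subgroup.centralizer (((S : Subgroup G) : Subgroup G) : Set G) :=
      hq (Subgroup.commutator_mem_commutator hv' hb')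
    have h2 : ⁅v, b⁆ = g * ⁅g⁻¹ * v * g, g⁻¹ * b * g⁆ * g⁻¹ := by
      simp only [commutatorElement_def]
      group
    rw [h2, Subgroup.mem_centralizer_iff]
    intro t ht
    have ht' : g⁻¹ * t * g ∈ (S : Subgroup G) := (hmem t).mp ht
    have h3 := (Subgroup.mem_centralizer_iff.mp h1) _ ht'
    set w := ⁅g⁻¹ * v * g, g⁻¹ * b * g⁆ with hw
    calc t * (g * w * g⁻¹) = g * (g⁻¹ * t * g * w) * g⁻¹ := by group
      _ = g * (w * (g⁻¹ * t * g)) * g⁻¹ := by rw [h3]
      _ = g * w * g⁻¹ * t := by group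
  · -- cardCV
    symm
    refine Nat.card_congr (Equiv.subtypeEquiv (MulAut.conj g).toEquiv ?_)
    intro a
    show a ∈ CV V (S : Subgroup G) ↔ g * a * g⁻¹ ∈ CV V ((g • S : Sylow p G) : Subgroup G)
    rw [mem_CV, mem_CV]
    constructor
    · rintro ⟨haV, hac⟩
      refine ⟨hVn.conj_mem a haV g, ?_⟩
      intro b hb
      have hb' := (hmem b).mp hb
      have h3 := hac _ hb'
      calc b * (g * a * g⁻¹) = g * (g⁻¹ * b * g * a) * g⁻¹ := by group
        _ = g * (a * (g⁻¹ * b * g)) * g⁻¹ := by rw [h3]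
        _ = g * a * g⁻¹ * b := by group
    · rintro ⟨haV, hac⟩
      refine ⟨?_, ?_⟩
      · have := hVc _ haV
        have h4 : g⁻¹ * (g * a * g⁻¹) * g = a := by group
        rwa [h4] at this
      · intro b hb
        have h3 := hac _ (hmem' b hb)
        calc b * a = g⁻¹ * (g * b * g⁻¹ * (g * a * g⁻¹)) * g := by group
          _ = g⁻¹ * (g * a * g⁻¹ * (g * b * g⁻¹)) * g := by rw [h3]
          _ = a * b := by group
  · -- card
    rw [Sylow.card_eq_multiplicity, Sylow.card_eq_multiplicity]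

end Main

end Cfsg.Agent.Lib.Helper41_PU_OPPT
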