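import Cfsg.Agent.Lib.Helper50_PUDefs
import Cfsg.Agent.S0260

/-!
# pu market (architect helper50), package PSLELEM

`psl_elem`: the Sylow `p`-subgroups of a group `L ≃* PSL(2,F)`, `|F| = p ^ n`, are commutative of
exponent `p`.
-/

set_option autoImplicit false
set_option linter.unusedSectionVars false

namespace Cfsg.Agent.Lib.Helper41_PU_PSLELEM

open scoped commutatorElement
open Cfsg.Agent.Lib.Helper50_PUDefs Cfsg.Agent.Lib.Helper51_Offender Cfsg.Agent.Lib.Helper72_AbelianJ

section PSL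

open Cfsg.Agent.S0260 in
/-- the `p`-th power of an upper transvection is trivial in characteristic `p` -/
theorem uT_pow_char {F : Type*} [Field F] (p : ℕ) [CharP F p] (b : F) :
    (uT b : Matrix.SpecialLinearGroup (Fin 2) F) ^ p = 1 := by
  have h1 : (uT b : Matrix.SpecialLinearGroup (Fin 2) F) = uHom (Multiplicative.ofAdd b) := rfl
  rw [h1, ← map_pow, ← ofAdd_nsmul, nsmul_eq_mul, CharP.cast_eq_zero, zero_mul, ofAdd_zero, map_one]

open Cfsg.Agent.S0260 in
/-- upper transvections commute -/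
theorem uT_comm {F : Type*} [Field F] (b c : F) :
    (uT b : Matrix.SpecialLinearGroup (Fin 2) F) * uT c = uT c * uT b := by
  have h1 : ∀ d : F, (uT d : Matrix.SpecialLinearGroup (Fin 2) F) = uHom (Multiplicative.ofAdd d) :=
    fun _ => rfl
  rw [h1 b, h1 c, ← uHom.map_mul, ← uHom.map_mul, mul_comm]

variable {p : ℕ} [Fact p.Prime] (F : Type) [Field F] [Fintype F] (n : ℕ) (hn : 1 ≤ n)
  (hF : Fintype.card F = p ^ n) {L : Type*} [Group L]
  (e : L ≃* Matrix.ProjectiveSpecialLinearGroup (Fin 2) F)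
include hn hF e

open Cfsg.Agent.S0260 in
-- PKG PSLELEM
theorem psl_elem (P : Sylow p L) :
    (∀ x ∈ (P : Subgroup L), ∀ y ∈ (P : Subgroup L), x * y = y * x) ∧
      ∀ x ∈ (P : Subgroup L), x ^ p = 1 := by
  classical
  have : CharP F p := charP_of_card_eq_prime_pow hF
  let π : Matrix.SpecialLinearGroup (Fin 2) F →* L :=
    e.symm.toMonoidHom.comp (QuotientGroup.mk' (Subgroup.center (Matrix.SpecialLinearGroup (Fin 2) F)))
  have hπ : Function.Surjective π := e.symm.surjective.comp (QuotientGroup.mk'_surjective _)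
  obtain ⟨P₀, rfl⟩ := Sylow.mapSurjective_surjective hπ p P
  obtain ⟨g, rfl⟩ := MulAction.exists_smul_eq (Matrix.SpecialLinearGroup (Fin 2) F) (US p) P₀
  have key : ∀ x ∈ (((g • US p : Sylow p (Matrix.SpecialLinearGroup (Fin 2) F)).mapSurjective hπ :
      Sylow p L) : Subgroup L), ∃ b : F, x = π (g * uT b * g⁻¹) := by
    intro x hx
    rw [Sylow.coe_mapSurjective] at hx
    obtain ⟨y, hy, rfl⟩ := hx
    rw [SetLike.mem_coe, Sylow.coe_subgroup_smul, Subgroup.mem_pointwise_smul_iff_inv_smul_mem,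
      coe_US, mem_U_iff] at hy
    obtain ⟨b, hb⟩ := hy
    refine ⟨b, ?_⟩
    rw [← hb]
    congr 1
    simp [MulAut.smul_def, mul_assoc]
  constructor
  · intro x hx y hy
    obtain ⟨b, rfl⟩ := key x hx
    obtain ⟨c, rfl⟩ := key y hy
    rw [← map_mul, ← map_mul]
    congr 1
    have h1 : g * uT b * g⁻¹ * (g * uT c * g⁻¹) = g * (uT b * uT c) * g⁻¹ := by group
    have h2 : g * uT c * g⁻¹ * (g * uT b * g⁻¹) = g * (uT c * uT b) * g⁻¹ := by group
    rw [h1, h2, uT_comm]
  · intro x hx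
    obtain ⟨b, rfl⟩ := key x hx
    rw [← map_pow]
    have h1 : (g * uT b * g⁻¹) ^ p = g * (uT b) ^ p * g⁻¹ := conj_pow
    rw [h1, uT_pow_char, mul_one, mul_inv_cancel, map_one]

end PSL

end Cfsg.Agent.Lib.Helper41_PU_PSLELEM
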