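import Mathlib
import Cfsg.Agent.Lib.Helper86_PomDefs

/-!
# pom market (S4613 family POM, family architect helper86), package MONOUT

`bmono_conj_mem_UT` (generic block lemma): a block monomial `s` with permutation `σ` conjugates a block upper triangular
`g` vanishing on the inversions of `σ` into `UT`.
-/

set_option autoImplicit false
set_option linter.unusedSectionVars false
set_option linter.unusedVariables false

namespace Cfsg.Agent.Lib.Helper41_Pom_MONOUT

open Matrix Cfsg Cfsg.Agent.Lib.Helper68_MatGrp Cfsg.Agent.Lib.Helper22_BlkGrp Cfsg.Agent.Lib.Helper22_StOmDefs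
open Cfsg.Agent.Lib.Helper86_PomDefs Cfsg.Agent.Lib.Helper68_AutU
open Cfsg.Agent.Lib.Helper5_OmegaCenter (eichO eichMat)

section generic

variable {ι : Type*} [Fintype ι] [DecidableEq ι] {K : Type*} [Field K]
variable {G : Type*} [Group G] (ψ : G →* Matrix ι ι K) (h : ι → ℕ)

/-- MONOUT (S).  A block upper triangular element vanishing on the inversions of `σ` is conjugated into `UT` by a block
monomial element with permutation `σ`. -/
theorem bmono_conj_mem_UT {s : G} {σ : Equiv.Perm ι} (hs : IsBMono2 ψ h s σ) {g : G} (hg : g ∈ UT ψ h)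
    (hv : ∀ a b, IsInv h σ a b → ψ g a b = 0) : s * g * s⁻¹ ∈ UT ψ h := by
  have e : s * g * s⁻¹ = (s⁻¹)⁻¹ * g * s⁻¹ := by rw [inv_inv]
  rw [e, mem_UT]
  intro a b hab
  by_contra hne
  obtain ⟨c, d, hcd, hc, hd⟩ := hs.inv.conj_ne_zero g hne
  have hBC := hs.1
  have hσc : h (σ c) = h a := by
    have := (hBC c (σ⁻¹ a)).2 hc
    rwa [perm_apply_inv] at this
  have hσd : h (σ d) = h b := by
    have := (hBC d (σ⁻¹ b)).2 hd
    rwa [perm_apply_inv] at this
  rcases lt_trichotomy (h c) (h d) with hlt | heq | hgt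
  · exact hcd (hv c d ⟨hlt, by rw [hσd, hσc]; exact hab⟩)
  · have := (hBC c d).2 heq
    rw [hσc, hσd] at this
    omega
  · exact hcd ((mem_UT ψ h).1 hg c d hgt)

end generic

end Cfsg.Agent.Lib.Helper41_Pom_MONOUT
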