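import Mathlib
import Cfsg.Agent.Lib.Helper41_RuTab

/-!
# Ru on 4060 points: the letters as permutations (helper41)

Soundness layer for `Helper41_RuTab`: the digits of the seven levels as elements of
`Equiv.Perm (Fin 4060)`, words as products, and the relation with the evaluations `ev9`, `evi9`,
`ev12` of encoded words inside `ℕ`.  `K lvl` is the group generated by the two generators of the
level `lvl`.
-/

set_option autoImplicit false

namespace Cfsg.Agent.Lib.Helper41_RuPerm

open Equiv Cfsg.Agent.Lib.Helper41_RuTab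

/-- the symmetric group of degree 4060 -/
abbrev P := Perm (Fin 4060)

theorem invd_lt {d : ℕ} (hd : d < 5) : invd d < 5 := by
  interval_cases d <;> decide

theorem invd_invd {d : ℕ} (hd : d < 5) : invd (invd d) = d := by
  interval_cases d <;> rfl

theorem valid {lvl d x : ℕ} (hl : lvl < 7) (hd : d < 5) (hx : x < 4060) :
    apL lvl d x < 4060 ∧ apL lvl (invd d) (apL lvl d x) = x := by
  have h := allLt_sound (allLt_sound (valid_all lvl hl) x hx) d hd
  rw [Bool.and_eq_true] at h
  have h1 := h.1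
  rw [Nat.blt_eq] at h1
  exact ⟨h1, Nat.eq_of_beq_eq_true h.2⟩

/-- the permutation of the digit `d` of the level `lvl` -/
def letP (lvl d : ℕ) : P :=
  if h : lvl < 7 ∧ d < 5 then
    { toFun := fun i => ⟨apL lvl d i.val, (valid h.1 h.2 i.isLt).1⟩
      invFun := fun i => ⟨apL lvl (invd d) i.val, (valid h.1 (invd_lt h.2) i.isLt).1⟩
      left_inv := fun i => Fin.ext (valid h.1 h.2 i.isLt).2
      right_inv := fun i => Fin.ext (by
        have h' := (valid h.1 (invd_lt h.2) i.isLt).2
        rw [invd_invd h.2] at h'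
        exact h') }
  else 1

theorem letP_apply {lvl d : ℕ} (hl : lvl < 7) (hd : d < 5) (i : Fin 4060) :
    ((letP lvl d) i).val = apL lvl d i.val := by
  rw [letP, dif_pos ⟨hl, hd⟩]
  rfl

theorem letP_inv {lvl d : ℕ} (hl : lvl < 7) (hd : d < 5) :
    letP lvl (invd d) = (letP lvl d)⁻¹ := by
  apply Equiv.ext
  intro i
  apply Fin.ext
  rw [letP_apply hl (invd_lt hd), Perm.inv_def]
  rw [letP, dif_pos ⟨hl, hd⟩]
  rfl

theorem apL_zero {lvl : ℕ} (hl : lvl < 7) (x : ℕ) : apL lvl 0 x = x := by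
  interval_cases lvl <;> rfl

theorem letP_zero {lvl : ℕ} (hl : lvl < 7) : letP lvl 0 = 1 := by
  apply Equiv.ext
  intro i
  apply Fin.ext
  rw [letP_apply hl (by norm_num), apL_zero hl]
  rfl

/-- evaluate a word given as a list of digits (leftmost digit applied last) -/
def evalW (lvl : ℕ) : List ℕ → ℕ → ℕ
  | [], x => x
  | d :: w, x => apL lvl d (evalW lvl w x)

/-- the inverse word -/
def invW (w : List ℕ) : List ℕ := (w.map invd).reverse

/-- the permutation of a word -/
def wordP (lvl : ℕ) (w : List ℕ) : P := (w.map (letP lvl)).prod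

theorem wordP_nil (lvl : ℕ) : wordP lvl [] = 1 := rfl

theorem wordP_cons (lvl d : ℕ) (w : List ℕ) : wordP lvl (d :: w) = letP lvl d * wordP lvl w := by
  simp [wordP]

theorem wordP_append (lvl : ℕ) (a b : List ℕ) :
    wordP lvl (a ++ b) = wordP lvl a * wordP lvl b := by
  simp [wordP]

theorem wordP_invW {lvl : ℕ} (hl : lvl < 7) (w : List ℕ) (hw : ∀ d ∈ w, d < 5) :
    wordP lvl (invW w) = (wordP lvl w)⁻¹ := by
  induction w with
  | nil => simp [invW, wordP]
  | cons d w ih =>
    have h : invW (d :: w) = invW w ++ [invd d] := by simp [invW]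
    rw [h, wordP_append, ih (fun j hj => hw j (List.mem_cons_of_mem _ hj)), wordP_cons lvl (invd d),
      wordP_nil, mul_one, wordP_cons, mul_inv_rev, letP_inv hl (hw d List.mem_cons_self)]

theorem wordP_apply {lvl : ℕ} (hl : lvl < 7) (w : List ℕ) (hw : ∀ d ∈ w, d < 5) (i : Fin 4060) :
    ((wordP lvl w) i).val = evalW lvl w i.val := by
  induction w with
  | nil => rfl
  | cons d w ih =>
    rw [wordP_cons, Perm.mul_apply, letP_apply hl (hw d List.mem_cons_self),
      ih (fun j hj => hw j (List.mem_cons_of_mem _ hj))]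
    rfl

theorem invW_lt (w : List ℕ) (hw : ∀ d ∈ w, d < 5) : ∀ d ∈ invW w, d < 5 := by
  intro d hd
  rw [invW, List.mem_reverse, List.mem_map] at hd
  obtain ⟨j, hj, rfl⟩ := hd
  exact invd_lt (hw j hj)

theorem wordP_inv_apply {lvl : ℕ} (hl : lvl < 7) (w : List ℕ) (hw : ∀ d ∈ w, d < 5)
    (i : Fin 4060) : ((wordP lvl w)⁻¹ i).val = evalW lvl (invW w) i.val := by
  rw [← wordP_invW hl w hw, wordP_apply hl _ (invW_lt w hw)]

theorem wordP_mem {lvl : ℕ} {S : Subgroup P} (w : List ℕ) (hw : ∀ d ∈ w, letP lvl d ∈ S) :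
    wordP lvl w ∈ S := by
  rw [wordP]
  apply Subgroup.list_prod_mem
  intro x hx
  rw [List.mem_map] at hx
  obtain ⟨j, hj, rfl⟩ := hx
  exact hw j hj

/-- the nine digits of an encoded word -/
def digs9 (c : ℕ) : List ℕ :=
  [dg c 0, dg c 1, dg c 2, dg c 3, dg c 4, dg c 5, dg c 6, dg c 7, dg c 8]

/-- the twelve digits of an encoded word -/
def digs12 (c : ℕ) : List ℕ :=
  [dg c 0, dg c 1, dg c 2, dg c 3, dg c 4, dg c 5, dg c 6, dg c 7, dg c 8, dg c 9, dg c 10,
    dg c 11]

theorem ev9T_eq (A B C D c x : ℕ) : ev9T A B C D c x =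
    apT A B C D (dg c 0) (apT A B C D (dg c 1) (apT A B C D (dg c 2) (apT A B C D (dg c 3)
      (apT A B C D (dg c 4) (apT A B C D (dg c 5) (apT A B C D (dg c 6) (apT A B C D (dg c 7)
        (apT A B C D (dg c 8) x)))))))) := by
  rw [ev9T, withNat_eq]

theorem evi9T_eq (A B C D c x : ℕ) : evi9T A B C D c x =
    apT A B C D (invd (dg c 8)) (apT A B C D (invd (dg c 7)) (apT A B C D (invd (dg c 6))
      (apT A B C D (invd (dg c 5)) (apT A B C D (invd (dg c 4)) (apT A B C D (invd (dg c 3))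
        (apT A B C D (invd (dg c 2)) (apT A B C D (invd (dg c 1))
          (apT A B C D (invd (dg c 0)) x)))))))) := by
  rw [evi9T, withNat_eq]

theorem ev12T_eq (A B C D c x : ℕ) : ev12T A B C D c x =
    apT A B C D (dg c 0) (apT A B C D (dg c 1) (apT A B C D (dg c 2) (apT A B C D (dg c 3)
      (apT A B C D (dg c 4) (apT A B C D (dg c 5) (apT A B C D (dg c 6) (apT A B C D (dg c 7)
        (apT A B C D (dg c 8) (apT A B C D (dg c 9) (apT A B C D (dg c 10)
          (apT A B C D (dg c 11) x))))))))))) := by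
  rw [ev12T, withNat_eq]

theorem ev9_eq {lvl : ℕ} (hl : lvl < 7) (c x : ℕ) : ev9 lvl c x = evalW lvl (digs9 c) x := by
  interval_cases lvl <;> exact ev9T_eq _ _ _ _ c x

theorem evi9_eq {lvl : ℕ} (hl : lvl < 7) (c x : ℕ) :
    evi9 lvl c x = evalW lvl (invW (digs9 c)) x := by
  interval_cases lvl <;> exact evi9T_eq _ _ _ _ c x

theorem ev12_eq {lvl : ℕ} (hl : lvl < 7) (c x : ℕ) : ev12 lvl c x = evalW lvl (digs12 c) x := by
  interval_cases lvl <;> exact ev12T_eq _ _ _ _ c x

theorem ok9_spec {c : ℕ} (h : ok9 c = true) : ∀ d ∈ digs9 c, d < 5 := by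
  rw [ok9, withNat_eq] at h
  simp only [Bool.and_eq_true, Nat.blt_eq] at h
  intro d hd
  simp only [digs9, List.mem_cons, List.not_mem_nil, or_false] at hd
  rcases hd with rfl | rfl | rfl | rfl | rfl | rfl | rfl | rfl | rfl <;> omega

theorem ok12_spec {c : ℕ} (h : ok12 c = true) : ∀ d ∈ digs12 c, d < 5 := by
  rw [ok12, withNat_eq] at h
  simp only [Bool.and_eq_true, Nat.blt_eq] at h
  intro d hd
  simp only [digs12, List.mem_cons, List.not_mem_nil, or_false] at hd
  rcases hd with rfl | rfl | rfl | rfl | rfl | rfl | rfl | rfl | rfl | rfl | rfl | rfl <;> omega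

/-- the group of the level `lvl` -/
def K (lvl : ℕ) : Subgroup P :=
  if lvl < 7 then Subgroup.closure {letP lvl 1, letP lvl 2} else ⊥

theorem K_eq {lvl : ℕ} (hl : lvl < 7) : K lvl = Subgroup.closure {letP lvl 1, letP lvl 2} := by
  rw [K, if_pos hl]

theorem K_eq_bot {lvl : ℕ} (hl : 7 ≤ lvl) : K lvl = ⊥ := by
  rw [K, if_neg (by omega)]

theorem letP_mem {lvl d : ℕ} (hl : lvl < 7) (hd : d < 5) : letP lvl d ∈ K lvl := by
  have h1 : letP lvl 1 ∈ K lvl := by
    rw [K_eq hl]; exact Subgroup.subset_closure (Or.inl rfl)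
  have h2 : letP lvl 2 ∈ K lvl := by
    rw [K_eq hl]; exact Subgroup.subset_closure (Or.inr rfl)
  interval_cases d
  · rw [letP_zero hl]; exact (K lvl).one_mem
  · exact h1
  · exact h2
  · have := letP_inv (lvl := lvl) (d := 1) hl (by norm_num)
    have e : invd 1 = 3 := rfl
    rw [e] at this
    rw [this]; exact (K lvl).inv_mem h1
  · have := letP_inv (lvl := lvl) (d := 2) hl (by norm_num)
    have e : invd 2 = 4 := rfl
    rw [e] at this
    rw [this]; exact (K lvl).inv_mem h2

theorem wordP_mem_K {lvl : ℕ} (hl : lvl < 7) (w : List ℕ) (hw : ∀ d ∈ w, d < 5) :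
    wordP lvl w ∈ K lvl :=
  wordP_mem w fun d hd => letP_mem hl (hw d hd)

theorem word9_mem {lvl c : ℕ} (hl : lvl < 7) (h : ok9 c = true) : wordP lvl (digs9 c) ∈ K lvl :=
  wordP_mem_K hl _ (ok9_spec h)

theorem word9_apply {lvl c : ℕ} (hl : lvl < 7) (h : ok9 c = true) (x : Fin 4060) :
    ((wordP lvl (digs9 c)) x).val = ev9 lvl c x.val := by
  rw [wordP_apply hl _ (ok9_spec h), ev9_eq hl]

theorem word9_inv_apply {lvl c : ℕ} (hl : lvl < 7) (h : ok9 c = true) (x : Fin 4060) :
    ((wordP lvl (digs9 c))⁻¹ x).val = evi9 lvl c x.val := by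
  rw [wordP_inv_apply hl _ (ok9_spec h), evi9_eq hl]

theorem word12_mem {lvl c : ℕ} (hl : lvl < 7) (h : ok12 c = true) :
    wordP lvl (digs12 c) ∈ K lvl :=
  wordP_mem_K hl _ (ok12_spec h)

theorem word12_apply {lvl c : ℕ} (hl : lvl < 7) (h : ok12 c = true) (x : Fin 4060) :
    ((wordP lvl (digs12 c)) x).val = ev12 lvl c x.val := by
  rw [wordP_apply hl _ (ok12_spec h), ev12_eq hl]

theorem digs9_zero : digs9 0 = List.replicate 9 0 := by decide

theorem word9_zero {lvl : ℕ} (hl : lvl < 7) : wordP lvl (digs9 0) = 1 := by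
  rw [digs9_zero, wordP, List.map_replicate, List.prod_replicate, letP_zero hl, one_pow]

end Cfsg.Agent.Lib.Helper41_RuPerm
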