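import Mathlib
import Cfsg.Agent.Lib.Helper41_RuTab
import Cfsg.Agent.Lib.Helper41_RuLin
import Cfsg.Agent.Lib.Helper41_RuPerm

/-!
# Ru on 4060 points: an element fixing the 28 reference points is trivial (helper41)

Every element `g` of the group `K 0` acts linearly on the vectors `xv p` (28 bits): there is an
additive map `L` with `xv (g p) = L (xv p)`.  The vectors of the 28 reference points span, and `xv`
is injective; hence an element of `K 0` fixing the reference points is the identity.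
-/

set_option autoImplicit false

namespace Cfsg.Agent.Lib.Helper41_RuDet

open Equiv Cfsg.Agent.Lib.Helper41_RuTab Cfsg.Agent.Lib.Helper41_RuLin
  Cfsg.Agent.Lib.Helper41_RuPerm

/-! ### bits -/

theorem bit_eq (x k : ℕ) : bit x k = x.testBit k := by
  have h1 : Nat.land (Nat.shiftRight x k) 1 = (x >>> k) % 2 := Nat.and_one_is_mod _
  have h2 : x.testBit k = ((x >>> k) % 2 != 0) := by
    rw [Nat.testBit, Nat.one_and_eq_mod_two]
  rw [bit, h1, h2]
  rcases Nat.mod_two_eq_zero_or_one (x >>> k) with h | h <;> rw [h] <;> rfl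

theorem bit_xor (a b k : ℕ) : bit (Nat.xor a b) k = (bit a k ^^ bit b k) := by
  rw [bit_eq, bit_eq, bit_eq]
  exact Nat.testBit_xor a b k

theorem bit_zero (k : ℕ) : bit 0 k = false := by
  rw [bit_eq]
  exact Nat.zero_testBit k

theorem xor4 (c d A B : ℕ) :
    Nat.xor (Nat.xor c d) (Nat.xor A B) = Nat.xor (Nat.xor c A) (Nat.xor d B) := by
  show (c ^^^ d) ^^^ (A ^^^ B) = (c ^^^ A) ^^^ (d ^^^ B)
  apply Nat.eq_of_testBit_eq
  intro i
  simp only [Nat.testBit_xor]
  cases c.testBit i <;> cases d.testBit i <;> cases A.testBit i <;> cases B.testBit i <;> rfl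

theorem bif_xor (p q : Bool) (c : ℕ) :
    (bif (p ^^ q) then c else 0) = Nat.xor (bif p then c else 0) (bif q then c else 0) := by
  cases p <;> cases q
  · exact (Nat.xor_self 0).symm
  · exact (Nat.zero_xor c).symm
  · exact (Nat.xor_zero c).symm
  · exact (Nat.xor_self c).symm

theorem mv_succ (col : ℕ → ℕ) (k x : ℕ) :
    mv col (k + 1) x = Nat.xor (bif bit x k then col k else 0) (mv col k x) := rfl

theorem mv_xor (col : ℕ → ℕ) (k a b : ℕ) :
    mv col k (Nat.xor a b) = Nat.xor (mv col k a) (mv col k b) := by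
  induction k with
  | zero => exact (Nat.xor_self 0).symm
  | succ k ih => rw [mv_succ, mv_succ, mv_succ, bit_xor, bif_xor, ih, xor4]

theorem mv_zero (col : ℕ → ℕ) (k : ℕ) : mv col k 0 = 0 := by
  induction k with
  | zero => rfl
  | succ k ih => rw [mv_succ, bit_zero, ih, cond_false]; exact Nat.xor_self 0

theorem mv_congr {col col' : ℕ → ℕ} (k x : ℕ) (h : ∀ j < k, col j = col' j) :
    mv col k x = mv col' k x := by
  induction k with
  | zero => rfl
  | succ k ih =>
    rw [mv_succ, mv_succ, ih (fun j hj => h j (by omega)), h k (by omega)]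

theorem map_mv (L : ℕ → ℕ) (h0 : L 0 = 0)
    (hadd : ∀ a b, L (Nat.xor a b) = Nat.xor (L a) (L b)) (col : ℕ → ℕ) (k x : ℕ) :
    L (mv col k x) = mv (fun j => L (col j)) k x := by
  induction k with
  | zero => exact h0
  | succ k ih =>
    rw [mv_succ, mv_succ, hadd, ih]
    cases bit x k
    · rw [cond_false, cond_false, h0]
    · rw [cond_true, cond_true]

/-! ### linearity -/

/-- `g` acts on the vectors by an additive map -/
def Lin (g : P) : Prop :=
  ∃ L : ℕ → ℕ, L 0 = 0 ∧ (∀ a b, L (Nat.xor a b) = Nat.xor (L a) (L b)) ∧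
    ∀ p : Fin 4060, xv (g p).val = L (xv p.val)

theorem lin_one : Lin 1 := ⟨id, rfl, fun _ _ => rfl, fun _ => rfl⟩

theorem lin_mul {g h : P} (hg : Lin g) (hh : Lin h) : Lin (g * h) := by
  obtain ⟨L, L0, Ladd, hL⟩ := hg
  obtain ⟨M, M0, Madd, hM⟩ := hh
  refine ⟨fun a => L (M a), ?_, ?_, ?_⟩
  · show L (M 0) = 0
    rw [M0, L0]
  · intro a b
    show L (M (Nat.xor a b)) = Nat.xor (L (M a)) (L (M b))
    rw [Madd, Ladd]
  · intro p
    rw [Perm.mul_apply, hL, hM]

theorem lin_letP {d : ℕ} (hd : d < 5) (h : linCheck d = true) : Lin (letP 0 d) := by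
  refine ⟨mv (colM d) 28, mv_zero _ _, mv_xor _ _, ?_⟩
  intro p
  rw [letP_apply (by norm_num) hd]
  exact Nat.eq_of_beq_eq_true (allLt_sound h p.val p.isLt)

theorem lin1 : Lin (letP 0 1) := lin_letP (by norm_num) linCheck_1
theorem lin2 : Lin (letP 0 2) := lin_letP (by norm_num) linCheck_2
theorem lin3 : Lin (letP 0 3) := lin_letP (by norm_num) linCheck_3
theorem lin4 : Lin (letP 0 4) := lin_letP (by norm_num) linCheck_4

theorem letP_inv1 : (letP 0 1)⁻¹ = letP 0 3 :=
  (letP_inv (lvl := 0) (d := 1) (by norm_num) (by norm_num)).symm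

theorem letP_inv2 : (letP 0 2)⁻¹ = letP 0 4 :=
  (letP_inv (lvl := 0) (d := 2) (by norm_num) (by norm_num)).symm

theorem lin_of_mem {g : P} (hg : g ∈ K 0) : Lin g ∧ Lin g⁻¹ := by
  rw [K_eq (by norm_num)] at hg
  induction hg using Subgroup.closure_induction with
  | mem x hx =>
    rcases hx with rfl | rfl
    · exact ⟨lin1, by rw [letP_inv1]; exact lin3⟩
    · exact ⟨lin2, by rw [letP_inv2]; exact lin4⟩
  | one => exact ⟨lin_one, by rw [inv_one]; exact lin_one⟩
  | mul x y _ _ hx hy => exact ⟨lin_mul hx.1 hy.1, by rw [mul_inv_rev]; exact lin_mul hy.2 hx.2⟩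
  | inv x _ hx => exact ⟨hx.2, by rw [inv_inv]; exact hx.1⟩

/-! ### injectivity of the vectors -/

theorem incrX_spec : ∀ (l : List ℕ) (lo : ℕ), incrX lo l = true →
    (∀ v ∈ l, v < 4060 ∧ lo ≤ xv v) ∧ l.Pairwise (fun a b => xv a ≠ xv b) := by
  intro l
  induction l with
  | nil => intro lo _; exact ⟨by simp, List.Pairwise.nil⟩
  | cons w l ih =>
    intro lo h
    rw [incrX, Bool.and_eq_true, Bool.and_eq_true] at h
    obtain ⟨⟨h1, h2⟩, h3⟩ := h
    have h1' : w < 4060 := by rw [Nat.blt_eq] at h1; exact h1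
    have h2' : lo ≤ xv w := Nat.le_of_ble_eq_true h2
    obtain ⟨hb, hp⟩ := ih _ h3
    refine ⟨?_, List.pairwise_cons.mpr ⟨?_, hp⟩⟩
    · intro v hv
      rcases List.mem_cons.mp hv with rfl | hv
      · exact ⟨h1', h2'⟩
      · have := hb v hv
        exact ⟨this.1, by have := this.2; omega⟩
    · intro v hv
      have := (hb v hv).2
      have e : Nat.succ (xv w) = xv w + 1 := rfl
      omega

theorem xv_injective {a b : ℕ} (ha : a < 4060) (hb : b < 4060) (h : xv a = xv b) : a = b := by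
  have hc := ordCheck
  rw [Bool.and_eq_true] at hc
  obtain ⟨hbd, hp⟩ := incrX_spec _ _ hc.1
  have hlen := Nat.eq_of_beq_eq_true hc.2
  have hnodup : ordL.Nodup := by
    refine hp.imp ?_
    intro x y hxy e
    exact hxy (by rw [e])
  have hall : ∀ v < 4060, v ∈ ordL := by
    have hsub : ordL.toFinset ⊆ Finset.range 4060 := by
      intro x hx
      exact Finset.mem_range.mpr (hbd x (List.mem_toFinset.mp hx)).1
    have hcard : (Finset.range 4060).card ≤ ordL.toFinset.card := by
      rw [List.toFinset_card_of_nodup hnodup, hlen, Finset.card_range]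
    have := Finset.eq_of_subset_of_card_le hsub hcard
    intro v hv
    have hv' : v ∈ ordL.toFinset := by rw [this]; exact Finset.mem_range.mpr hv
    exact List.mem_toFinset.mp hv'
  by_contra hne
  have hs : Std.Symm (fun x y : ℕ => xv x ≠ xv y) := ⟨fun _ _ h => h.symm⟩
  exact hp.forall (hall a ha) (hall b hb) hne h

/-! ### rigidity -/

theorem fpt_lt {j : ℕ} (hj : j < 28) : fpt j < 4060 := by
  have h := allLt_sound fptCheck j hj
  rw [Nat.blt_eq] at h
  exact h

theorem eq_one_of_fix {g : P} (hg : g ∈ K 0)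
    (hfix : ∀ j (hj : j < 28), (g ⟨fpt j, fpt_lt hj⟩).val = fpt j) : g = 1 := by
  obtain ⟨L, L0, Ladd, hL⟩ := (lin_of_mem hg).1
  ext p
  rw [Perm.one_apply]
  apply xv_injective (g p).isLt p.isLt
  have hspan : xv p.val = mv fcol 28 (cv p.val) :=
    Nat.eq_of_beq_eq_true (allLt_sound spanCheck p.val p.isLt)
  rw [hL p]
  conv_lhs => rw [hspan]
  rw [map_mv L L0 Ladd, hspan]
  apply mv_congr
  intro j hj
  show L (xv (fpt j)) = xv (fpt j)
  have := hL ⟨fpt j, fpt_lt hj⟩
  rw [hfix j hj] at this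
  exact this.symm

theorem eq_one_of_fixesAll {g : P} (hg : g ∈ K 0) (ρ : ℕ → ℕ)
    (hρ : ∀ x : Fin 4060, ρ x.val = (g x).val) (h : fixesAll ρ = true) : g = 1 := by
  apply eq_one_of_fix hg
  intro j hj
  have h1 := Nat.eq_of_beq_eq_true (allLt_sound h j hj)
  rw [← hρ ⟨fpt j, fpt_lt hj⟩]
  exact h1

end Cfsg.Agent.Lib.Helper41_RuDet
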