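import Mathlib
import Cfsg.Agent.Lib.Helper41_RuTab
import Cfsg.Agent.Lib.Helper41_RuTr
import Cfsg.Agent.Lib.Helper41_RuLin

/-!
# Ru on 4060 points: sifting of Schreier generators, definitions (helper41)

A Schreier generator `σ = tr(s p)⁻¹ · s · tr(p)` of a level is either trivial because the word of
`s p` is the word of `p` with the letter `s` in front, or it is sifted through the next levels of
the chain, and the residue is checked to fix the 28 reference points of `Helper41_RuLin`.
-/

set_option autoImplicit false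
set_option Elab.async false

namespace Cfsg.Agent.Lib.Helper41_RuSiftDef

open Cfsg.Agent.Lib.Helper41_RuTab Cfsg.Agent.Lib.Helper41_RuTr Cfsg.Agent.Lib.Helper41_RuLin

/-- the image of `x` under the Schreier generator of level `lvl` for the point `p` and digit `d` -/
def schreier (lvl d p x : ℕ) : ℕ :=
  evi9 lvl (codeOf lvl (apL lvl d p)) (apL lvl d (ev9 lvl (codeOf lvl p) x))

/-- the word `c'` is the word `c` with the digit `d` in front -/
def isCons (c' c d : ℕ) : Bool :=
  Nat.beq (dg c' 0) d && Nat.beq (dg c' 1) (dg c 0) && Nat.beq (dg c' 2) (dg c 1) && Nat.beq (dg c' 3) (dg c 2) && Nat.beq (dg c' 4) (dg c 3) && Nat.beq (dg c' 5) (dg c 4) && Nat.beq (dg c' 6) (dg c 5) && Nat.beq (dg c' 7) (dg c 6) && Nat.beq (dg c' 8) (dg c 7) && Nat.beq (dg c 8) 0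

/-- the Schreier generator is trivial as a word -/
def treeEdge (lvl d p : ℕ) : Bool :=
  withNat (codeOf lvl p) fun c => withNat (codeOf lvl (apL lvl d p)) fun c' =>
    isCons c' c d || isCons c c' (invd d)

/-- sift the map `ρ` through the levels `l, nxt l, …` and test the residue -/
def siftFrom : ℕ → ℕ → (ℕ → ℕ) → Bool
  | 0, _, ρ => fixesAll ρ
  | fuel + 1, l, ρ =>
    bif Nat.ble 7 l then fixesAll ρ
    else withNat (ρ (base l)) fun p => inOrb l p &&
      withNat (codeOf l p) fun c => siftFrom fuel (nxt l) (fun x => evi9 l c (ρ x))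

/-- the test for one Schreier generator -/
def schCheck (lvl d p : ℕ) : Bool :=
  treeEdge lvl d p || withNat (codeOf lvl p) fun c => withNat (codeOf lvl (apL lvl d p)) fun c' =>
    siftFrom 4 (nxt lvl) (fun x => evi9 lvl c' (apL lvl d (ev9 lvl c x)))

/-- the test for all Schreier generators of the points `lo ≤ p < hi` of a basic orbit -/
def siftCheck (lvl lo hi : ℕ) : Bool :=
  allIn lo hi fun p => !inOrb lvl p || (schCheck lvl 1 p && schCheck lvl 2 p)

theorem siftCheck_sound {lvl lo hi : ℕ} (h : siftCheck lvl lo hi = true) {p : ℕ} (h1 : lo ≤ p)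
    (h2 : p < hi) (ho : inOrb lvl p = true) :
    schCheck lvl 1 p = true ∧ schCheck lvl 2 p = true := by
  have h3 := allIn_sound h h1 h2
  rw [ho] at h3
  simp only [Bool.not_true, Bool.false_or, Bool.and_eq_true] at h3
  exact h3

end Cfsg.Agent.Lib.Helper41_RuSiftDef
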