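import Mathlib
import Cfsg.Agent.Lib.Helper41_RuTab
import Cfsg.Agent.Lib.Helper41_RuTr
import Cfsg.Agent.Lib.Helper41_RuLin
import Cfsg.Agent.Lib.Helper41_RuSiftDef

/-!
# Ru on 4060 points: sifting of Schreier generators, level 0, first half (helper41)
-/

set_option autoImplicit false
set_option Elab.async false

namespace Cfsg.Agent.Lib.Helper41_RuSiftA

open Cfsg.Agent.Lib.Helper41_RuTab Cfsg.Agent.Lib.Helper41_RuTr Cfsg.Agent.Lib.Helper41_RuLin
  Cfsg.Agent.Lib.Helper41_RuSiftDef

theorem sift0a_0 : siftCheck 0 0 107 = true := by decide +kernel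
theorem sift0a_1 : siftCheck 0 107 209 = true := by decide +kernel
theorem sift0a_2 : siftCheck 0 209 309 = true := by decide +kernel
theorem sift0a_3 : siftCheck 0 309 410 = true := by decide +kernel
theorem sift0a_4 : siftCheck 0 410 504 = true := by decide +kernel
theorem sift0a_5 : siftCheck 0 504 606 = true := by decide +kernel
theorem sift0a_6 : siftCheck 0 606 702 = true := by decide +kernel
theorem sift0a_7 : siftCheck 0 702 793 = true := by decide +kernel
theorem sift0a_8 : siftCheck 0 793 912 = true := by decide +kernel
theorem sift0a_9 : siftCheck 0 912 995 = true := by decide +kernel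
theorem sift0a_10 : siftCheck 0 995 1097 = true := by decide +kernel
theorem sift0a_11 : siftCheck 0 1097 1208 = true := by decide +kernel
theorem sift0a_12 : siftCheck 0 1208 1296 = true := by decide +kernel
theorem sift0a_13 : siftCheck 0 1296 1394 = true := by decide +kernel
theorem sift0a_14 : siftCheck 0 1394 1493 = true := by decide +kernel
theorem sift0a_15 : siftCheck 0 1493 1594 = true := by decide +kernel
theorem sift0a_16 : siftCheck 0 1594 1682 = true := by decide +kernel
theorem sift0a_17 : siftCheck 0 1682 1777 = true := by decide +kernel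
theorem sift0a_18 : siftCheck 0 1777 1886 = true := by decide +kernel
theorem sift0a_19 : siftCheck 0 1886 1992 = true := by decide +kernel

theorem sift0a_all : ∀ v < 1992, 0 ≤ v → inOrb 0 v = true →
    schCheck 0 1 v = true ∧ schCheck 0 2 v = true := by
  intro v hv hlo ho
  by_cases h0 : v < 107
  · exact siftCheck_sound sift0a_0 (by omega) h0 ho
  by_cases h1 : v < 209
  · exact siftCheck_sound sift0a_1 (by omega) h1 ho
  by_cases h2 : v < 309
  · exact siftCheck_sound sift0a_2 (by omega) h2 ho
  by_cases h3 : v < 410
  · exact siftCheck_sound sift0a_3 (by omega) h3 ho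
  by_cases h4 : v < 504
  · exact siftCheck_sound sift0a_4 (by omega) h4 ho
  by_cases h5 : v < 606
  · exact siftCheck_sound sift0a_5 (by omega) h5 ho
  by_cases h6 : v < 702
  · exact siftCheck_sound sift0a_6 (by omega) h6 ho
  by_cases h7 : v < 793
  · exact siftCheck_sound sift0a_7 (by omega) h7 ho
  by_cases h8 : v < 912
  · exact siftCheck_sound sift0a_8 (by omega) h8 ho
  by_cases h9 : v < 995
  · exact siftCheck_sound sift0a_9 (by omega) h9 ho
  by_cases h10 : v < 1097
  · exact siftCheck_sound sift0a_10 (by omega) h10 ho
  by_cases h11 : v < 1208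
  · exact siftCheck_sound sift0a_11 (by omega) h11 ho
  by_cases h12 : v < 1296
  · exact siftCheck_sound sift0a_12 (by omega) h12 ho
  by_cases h13 : v < 1394
  · exact siftCheck_sound sift0a_13 (by omega) h13 ho
  by_cases h14 : v < 1493
  · exact siftCheck_sound sift0a_14 (by omega) h14 ho
  by_cases h15 : v < 1594
  · exact siftCheck_sound sift0a_15 (by omega) h15 ho
  by_cases h16 : v < 1682
  · exact siftCheck_sound sift0a_16 (by omega) h16 ho
  by_cases h17 : v < 1777
  · exact siftCheck_sound sift0a_17 (by omega) h17 ho
  by_cases h18 : v < 1886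
  · exact siftCheck_sound sift0a_18 (by omega) h18 ho
  exact siftCheck_sound sift0a_19 (by omega) hv ho

end Cfsg.Agent.Lib.Helper41_RuSiftA
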