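import Mathlib
import Cfsg.Agent.Lib.Helper41_RuTab
import Cfsg.Agent.Lib.Helper41_RuTr
import Cfsg.Agent.Lib.Helper41_RuLin
import Cfsg.Agent.Lib.Helper41_RuSiftDef

/-!
# Ru on 4060 points: sifting of Schreier generators, level 0, second half (helper41)
-/

set_option autoImplicit false
set_option Elab.async false

namespace Cfsg.Agent.Lib.Helper41_RuSiftB

open Cfsg.Agent.Lib.Helper41_RuTab Cfsg.Agent.Lib.Helper41_RuTr Cfsg.Agent.Lib.Helper41_RuLin
  Cfsg.Agent.Lib.Helper41_RuSiftDef

theorem sift0b_0 : siftCheck 0 1992 2084 = true := by decide +kernel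
theorem sift0b_1 : siftCheck 0 2084 2181 = true := by decide +kernel
theorem sift0b_2 : siftCheck 0 2181 2278 = true := by decide +kernel
theorem sift0b_3 : siftCheck 0 2278 2380 = true := by decide +kernel
theorem sift0b_4 : siftCheck 0 2380 2488 = true := by decide +kernel
theorem sift0b_5 : siftCheck 0 2488 2601 = true := by decide +kernel
theorem sift0b_6 : siftCheck 0 2601 2693 = true := by decide +kernel
theorem sift0b_7 : siftCheck 0 2693 2793 = true := by decide +kernel
theorem sift0b_8 : siftCheck 0 2793 2882 = true := by decide +kernel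
theorem sift0b_9 : siftCheck 0 2882 2991 = true := by decide +kernel
theorem sift0b_10 : siftCheck 0 2991 3098 = true := by decide +kernel
theorem sift0b_11 : siftCheck 0 3098 3192 = true := by decide +kernel
theorem sift0b_12 : siftCheck 0 3192 3296 = true := by decide +kernel
theorem sift0b_13 : siftCheck 0 3296 3397 = true := by decide +kernel
theorem sift0b_14 : siftCheck 0 3397 3502 = true := by decide +kernel
theorem sift0b_15 : siftCheck 0 3502 3601 = true := by decide +kernel
theorem sift0b_16 : siftCheck 0 3601 3691 = true := by decide +kernel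
theorem sift0b_17 : siftCheck 0 3691 3790 = true := by decide +kernel
theorem sift0b_18 : siftCheck 0 3790 3887 = true := by decide +kernel
theorem sift0b_19 : siftCheck 0 3887 3979 = true := by decide +kernel
theorem sift0b_20 : siftCheck 0 3979 4060 = true := by decide +kernel

theorem sift0b_all : ∀ v < 4060, 1992 ≤ v → inOrb 0 v = true →
    schCheck 0 1 v = true ∧ schCheck 0 2 v = true := by
  intro v hv hlo ho
  by_cases h0 : v < 2084
  · exact siftCheck_sound sift0b_0 (by omega) h0 ho
  by_cases h1 : v < 2181
  · exact siftCheck_sound sift0b_1 (by omega) h1 ho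
  by_cases h2 : v < 2278
  · exact siftCheck_sound sift0b_2 (by omega) h2 ho
  by_cases h3 : v < 2380
  · exact siftCheck_sound sift0b_3 (by omega) h3 ho
  by_cases h4 : v < 2488
  · exact siftCheck_sound sift0b_4 (by omega) h4 ho
  by_cases h5 : v < 2601
  · exact siftCheck_sound sift0b_5 (by omega) h5 ho
  by_cases h6 : v < 2693
  · exact siftCheck_sound sift0b_6 (by omega) h6 ho
  by_cases h7 : v < 2793
  · exact siftCheck_sound sift0b_7 (by omega) h7 ho
  by_cases h8 : v < 2882
  · exact siftCheck_sound sift0b_8 (by omega) h8 ho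
  by_cases h9 : v < 2991
  · exact siftCheck_sound sift0b_9 (by omega) h9 ho
  by_cases h10 : v < 3098
  · exact siftCheck_sound sift0b_10 (by omega) h10 ho
  by_cases h11 : v < 3192
  · exact siftCheck_sound sift0b_11 (by omega) h11 ho
  by_cases h12 : v < 3296
  · exact siftCheck_sound sift0b_12 (by omega) h12 ho
  by_cases h13 : v < 3397
  · exact siftCheck_sound sift0b_13 (by omega) h13 ho
  by_cases h14 : v < 3502
  · exact siftCheck_sound sift0b_14 (by omega) h14 ho
  by_cases h15 : v < 3601
  · exact siftCheck_sound sift0b_15 (by omega) h15 ho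
  by_cases h16 : v < 3691
  · exact siftCheck_sound sift0b_16 (by omega) h16 ho
  by_cases h17 : v < 3790
  · exact siftCheck_sound sift0b_17 (by omega) h17 ho
  by_cases h18 : v < 3887
  · exact siftCheck_sound sift0b_18 (by omega) h18 ho
  by_cases h19 : v < 3979
  · exact siftCheck_sound sift0b_19 (by omega) h19 ho
  exact siftCheck_sound sift0b_20 (by omega) hv ho

end Cfsg.Agent.Lib.Helper41_RuSiftB
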