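import Mathlib
import Cfsg.Agent.Lib.Helper41_RuTab
import Cfsg.Agent.Lib.Helper41_RuTr
import Cfsg.Agent.Lib.Helper41_RuLin
import Cfsg.Agent.Lib.Helper41_RuSiftDef

/-!
# Ru on 4060 points: sifting of Schreier generators, levels 1, 2, 3 (helper41)
-/

set_option autoImplicit false
set_option Elab.async false

namespace Cfsg.Agent.Lib.Helper41_RuSiftC

open Cfsg.Agent.Lib.Helper41_RuTab Cfsg.Agent.Lib.Helper41_RuTr Cfsg.Agent.Lib.Helper41_RuLin
  Cfsg.Agent.Lib.Helper41_RuSiftDef

theorem sift1_0 : siftCheck 1 0 2412 = true := by decide +kernel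
theorem sift1_1 : siftCheck 1 2412 2499 = true := by decide +kernel
theorem sift1_2 : siftCheck 1 2499 2602 = true := by decide +kernel
theorem sift1_3 : siftCheck 1 2602 2718 = true := by decide +kernel
theorem sift1_4 : siftCheck 1 2718 2820 = true := by decide +kernel
theorem sift1_5 : siftCheck 1 2820 2915 = true := by decide +kernel
theorem sift1_6 : siftCheck 1 2915 3009 = true := by decide +kernel
theorem sift1_7 : siftCheck 1 3009 3104 = true := by decide +kernel
theorem sift1_8 : siftCheck 1 3104 3204 = true := by decide +kernel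
theorem sift1_9 : siftCheck 1 3204 3300 = true := by decide +kernel
theorem sift1_10 : siftCheck 1 3300 3395 = true := by decide +kernel
theorem sift1_11 : siftCheck 1 3395 3503 = true := by decide +kernel
theorem sift1_12 : siftCheck 1 3503 3612 = true := by decide +kernel
theorem sift1_13 : siftCheck 1 3612 3706 = true := by decide +kernel
theorem sift1_14 : siftCheck 1 3706 3800 = true := by decide +kernel
theorem sift1_15 : siftCheck 1 3800 3896 = true := by decide +kernel
theorem sift1_16 : siftCheck 1 3896 3994 = true := by decide +kernel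
theorem sift1_17 : siftCheck 1 3994 4060 = true := by decide +kernel

theorem sift1_all : ∀ v < 4060, 0 ≤ v → inOrb 1 v = true →
    schCheck 1 1 v = true ∧ schCheck 1 2 v = true := by
  intro v hv hlo ho
  by_cases h0 : v < 2412
  · exact siftCheck_sound sift1_0 (by omega) h0 ho
  by_cases h1 : v < 2499
  · exact siftCheck_sound sift1_1 (by omega) h1 ho
  by_cases h2 : v < 2602
  · exact siftCheck_sound sift1_2 (by omega) h2 ho
  by_cases h3 : v < 2718
  · exact siftCheck_sound sift1_3 (by omega) h3 ho
  by_cases h4 : v < 2820
  · exact siftCheck_sound sift1_4 (by omega) h4 ho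
  by_cases h5 : v < 2915
  · exact siftCheck_sound sift1_5 (by omega) h5 ho
  by_cases h6 : v < 3009
  · exact siftCheck_sound sift1_6 (by omega) h6 ho
  by_cases h7 : v < 3104
  · exact siftCheck_sound sift1_7 (by omega) h7 ho
  by_cases h8 : v < 3204
  · exact siftCheck_sound sift1_8 (by omega) h8 ho
  by_cases h9 : v < 3300
  · exact siftCheck_sound sift1_9 (by omega) h9 ho
  by_cases h10 : v < 3395
  · exact siftCheck_sound sift1_10 (by omega) h10 ho
  by_cases h11 : v < 3503
  · exact siftCheck_sound sift1_11 (by omega) h11 ho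
  by_cases h12 : v < 3612
  · exact siftCheck_sound sift1_12 (by omega) h12 ho
  by_cases h13 : v < 3706
  · exact siftCheck_sound sift1_13 (by omega) h13 ho
  by_cases h14 : v < 3800
  · exact siftCheck_sound sift1_14 (by omega) h14 ho
  by_cases h15 : v < 3896
  · exact siftCheck_sound sift1_15 (by omega) h15 ho
  by_cases h16 : v < 3994
  · exact siftCheck_sound sift1_16 (by omega) h16 ho
  exact siftCheck_sound sift1_17 (by omega) hv ho

theorem sift2_0 : siftCheck 2 0 2415 = true := by decide +kernel
theorem sift2_1 : siftCheck 2 2415 2523 = true := by decide +kernel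
theorem sift2_2 : siftCheck 2 2523 2623 = true := by decide +kernel
theorem sift2_3 : siftCheck 2 2623 2737 = true := by decide +kernel
theorem sift2_4 : siftCheck 2 2737 2819 = true := by decide +kernel
theorem sift2_5 : siftCheck 2 2819 2922 = true := by decide +kernel
theorem sift2_6 : siftCheck 2 2922 3021 = true := by decide +kernel
theorem sift2_7 : siftCheck 2 3021 3124 = true := by decide +kernel
theorem sift2_8 : siftCheck 2 3124 3209 = true := by decide +kernel
theorem sift2_9 : siftCheck 2 3209 3307 = true := by decide +kernel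
theorem sift2_10 : siftCheck 2 3307 4060 = true := by decide +kernel

theorem sift2_all : ∀ v < 4060, 0 ≤ v → inOrb 2 v = true →
    schCheck 2 1 v = true ∧ schCheck 2 2 v = true := by
  intro v hv hlo ho
  by_cases h0 : v < 2415
  · exact siftCheck_sound sift2_0 (by omega) h0 ho
  by_cases h1 : v < 2523
  · exact siftCheck_sound sift2_1 (by omega) h1 ho
  by_cases h2 : v < 2623
  · exact siftCheck_sound sift2_2 (by omega) h2 ho
  by_cases h3 : v < 2737
  · exact siftCheck_sound sift2_3 (by omega) h3 ho
  by_cases h4 : v < 2819
  · exact siftCheck_sound sift2_4 (by omega) h4 ho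
  by_cases h5 : v < 2922
  · exact siftCheck_sound sift2_5 (by omega) h5 ho
  by_cases h6 : v < 3021
  · exact siftCheck_sound sift2_6 (by omega) h6 ho
  by_cases h7 : v < 3124
  · exact siftCheck_sound sift2_7 (by omega) h7 ho
  by_cases h8 : v < 3209
  · exact siftCheck_sound sift2_8 (by omega) h8 ho
  by_cases h9 : v < 3307
  · exact siftCheck_sound sift2_9 (by omega) h9 ho
  exact siftCheck_sound sift2_10 (by omega) hv ho

theorem sift3_0 : siftCheck 3 0 4060 = true := by decide +kernel

theorem sift3_all : ∀ v < 4060, 0 ≤ v → inOrb 3 v = true →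
    schCheck 3 1 v = true ∧ schCheck 3 2 v = true := by
  intro v hv hlo ho
  exact siftCheck_sound sift3_0 (by omega) hv ho

end Cfsg.Agent.Lib.Helper41_RuSiftC
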