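import Mathlib
import Cfsg.Agent.Lib.Helper41_RuTab
import Cfsg.Agent.Lib.Helper41_RuTr
import Cfsg.Agent.Lib.Helper41_RuLin
import Cfsg.Agent.Lib.Helper41_RuSiftDef

/-!
# Ru on 4060 points: sifting of Schreier generators, levels 4, 5, 6 (helper41)
-/

set_option autoImplicit false
set_option Elab.async false

namespace Cfsg.Agent.Lib.Helper41_RuSiftD

open Cfsg.Agent.Lib.Helper41_RuTab Cfsg.Agent.Lib.Helper41_RuTr Cfsg.Agent.Lib.Helper41_RuLin
  Cfsg.Agent.Lib.Helper41_RuSiftDef

theorem sift4_0 : siftCheck 4 0 2403 = true := by decide +kernel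
theorem sift4_1 : siftCheck 4 2403 2501 = true := by decide +kernel
theorem sift4_2 : siftCheck 4 2501 2593 = true := by decide +kernel
theorem sift4_3 : siftCheck 4 2593 2686 = true := by decide +kernel
theorem sift4_4 : siftCheck 4 2686 2788 = true := by decide +kernel
theorem sift4_5 : siftCheck 4 2788 2891 = true := by decide +kernel
theorem sift4_6 : siftCheck 4 2891 2988 = true := by decide +kernel
theorem sift4_7 : siftCheck 4 2988 3081 = true := by decide +kernel
theorem sift4_8 : siftCheck 4 3081 3174 = true := by decide +kernel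
theorem sift4_9 : siftCheck 4 3174 3277 = true := by decide +kernel
theorem sift4_10 : siftCheck 4 3277 3380 = true := by decide +kernel
theorem sift4_11 : siftCheck 4 3380 3499 = true := by decide +kernel
theorem sift4_12 : siftCheck 4 3499 3615 = true := by decide +kernel
theorem sift4_13 : siftCheck 4 3615 3712 = true := by decide +kernel
theorem sift4_14 : siftCheck 4 3712 3811 = true := by decide +kernel
theorem sift4_15 : siftCheck 4 3811 3912 = true := by decide +kernel
theorem sift4_16 : siftCheck 4 3912 3999 = true := by decide +kernel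
theorem sift4_17 : siftCheck 4 3999 4060 = true := by decide +kernel

theorem sift4_all : ∀ v < 4060, 0 ≤ v → inOrb 4 v = true →
    schCheck 4 1 v = true ∧ schCheck 4 2 v = true := by
  intro v hv hlo ho
  by_cases h0 : v < 2403
  · exact siftCheck_sound sift4_0 (by omega) h0 ho
  by_cases h1 : v < 2501
  · exact siftCheck_sound sift4_1 (by omega) h1 ho
  by_cases h2 : v < 2593
  · exact siftCheck_sound sift4_2 (by omega) h2 ho
  by_cases h3 : v < 2686
  · exact siftCheck_sound sift4_3 (by omega) h3 ho
  by_cases h4 : v < 2788
  · exact siftCheck_sound sift4_4 (by omega) h4 ho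
  by_cases h5 : v < 2891
  · exact siftCheck_sound sift4_5 (by omega) h5 ho
  by_cases h6 : v < 2988
  · exact siftCheck_sound sift4_6 (by omega) h6 ho
  by_cases h7 : v < 3081
  · exact siftCheck_sound sift4_7 (by omega) h7 ho
  by_cases h8 : v < 3174
  · exact siftCheck_sound sift4_8 (by omega) h8 ho
  by_cases h9 : v < 3277
  · exact siftCheck_sound sift4_9 (by omega) h9 ho
  by_cases h10 : v < 3380
  · exact siftCheck_sound sift4_10 (by omega) h10 ho
  by_cases h11 : v < 3499
  · exact siftCheck_sound sift4_11 (by omega) h11 ho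
  by_cases h12 : v < 3615
  · exact siftCheck_sound sift4_12 (by omega) h12 ho
  by_cases h13 : v < 3712
  · exact siftCheck_sound sift4_13 (by omega) h13 ho
  by_cases h14 : v < 3811
  · exact siftCheck_sound sift4_14 (by omega) h14 ho
  by_cases h15 : v < 3912
  · exact siftCheck_sound sift4_15 (by omega) h15 ho
  by_cases h16 : v < 3999
  · exact siftCheck_sound sift4_16 (by omega) h16 ho
  exact siftCheck_sound sift4_17 (by omega) hv ho

theorem sift5_0 : siftCheck 5 0 2411 = true := by decide +kernel
theorem sift5_1 : siftCheck 5 2411 2508 = true := by decide +kernel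
theorem sift5_2 : siftCheck 5 2508 2615 = true := by decide +kernel
theorem sift5_3 : siftCheck 5 2615 2714 = true := by decide +kernel
theorem sift5_4 : siftCheck 5 2714 2810 = true := by decide +kernel
theorem sift5_5 : siftCheck 5 2810 2895 = true := by decide +kernel
theorem sift5_6 : siftCheck 5 2895 2983 = true := by decide +kernel
theorem sift5_7 : siftCheck 5 2983 3075 = true := by decide +kernel
theorem sift5_8 : siftCheck 5 3075 3187 = true := by decide +kernel
theorem sift5_9 : siftCheck 5 3187 3299 = true := by decide +kernel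
theorem sift5_10 : siftCheck 5 3299 4060 = true := by decide +kernel

theorem sift5_all : ∀ v < 4060, 0 ≤ v → inOrb 5 v = true →
    schCheck 5 1 v = true ∧ schCheck 5 2 v = true := by
  intro v hv hlo ho
  by_cases h0 : v < 2411
  · exact siftCheck_sound sift5_0 (by omega) h0 ho
  by_cases h1 : v < 2508
  · exact siftCheck_sound sift5_1 (by omega) h1 ho
  by_cases h2 : v < 2615
  · exact siftCheck_sound sift5_2 (by omega) h2 ho
  by_cases h3 : v < 2714
  · exact siftCheck_sound sift5_3 (by omega) h3 ho
  by_cases h4 : v < 2810
  · exact siftCheck_sound sift5_4 (by omega) h4 ho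
  by_cases h5 : v < 2895
  · exact siftCheck_sound sift5_5 (by omega) h5 ho
  by_cases h6 : v < 2983
  · exact siftCheck_sound sift5_6 (by omega) h6 ho
  by_cases h7 : v < 3075
  · exact siftCheck_sound sift5_7 (by omega) h7 ho
  by_cases h8 : v < 3187
  · exact siftCheck_sound sift5_8 (by omega) h8 ho
  by_cases h9 : v < 3299
  · exact siftCheck_sound sift5_9 (by omega) h9 ho
  exact siftCheck_sound sift5_10 (by omega) hv ho

theorem sift6_0 : siftCheck 6 0 4060 = true := by decide +kernel

theorem sift6_all : ∀ v < 4060, 0 ≤ v → inOrb 6 v = true →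
    schCheck 6 1 v = true ∧ schCheck 6 2 v = true := by
  intro v hv hlo ho
  exact siftCheck_sound sift6_0 (by omega) hv ho

end Cfsg.Agent.Lib.Helper41_RuSiftD
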