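import Mathlib
import Cfsg.Agent.Lib.Helper56_SchreierSims
import Cfsg.Agent.Lib.Helper41_RuTab
import Cfsg.Agent.Lib.Helper41_RuTr
import Cfsg.Agent.Lib.Helper41_RuLin
import Cfsg.Agent.Lib.Helper41_RuSiftDef
import Cfsg.Agent.Lib.Helper41_RuSiftA
import Cfsg.Agent.Lib.Helper41_RuSiftB
import Cfsg.Agent.Lib.Helper41_RuSiftC
import Cfsg.Agent.Lib.Helper41_RuSiftD
import Cfsg.Agent.Lib.Helper41_RuPerm
import Cfsg.Agent.Lib.Helper41_RuDet

/-!
# Ru on 4060 points: the verified stabiliser chains (helper41)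

`K 0 = ⟨u₀, u₁⟩ ≤ Sym(4060)` has order `145926144000 = 4060 · 1755 · 1024 · 20` and is transitive;
the stabiliser of `0` is `K 1`, of order `35942400`; it contains `K 4`, of order
`17971200 = 1755 · 1024 · 10`.  The Schreier generators of each level sift through the following
levels (`Helper41_RuSiftA`, …, `Helper41_RuSiftD`), and the residues, which fix the 28 reference
points, are trivial by `Helper41_RuDet.eq_one_of_fixesAll`.
-/

set_option autoImplicit false

namespace Cfsg.Agent.Lib.Helper41_RuChain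

open Equiv Cfsg.Agent.Lib.Helper41_RuTab Cfsg.Agent.Lib.Helper41_RuTr
  Cfsg.Agent.Lib.Helper41_RuLin Cfsg.Agent.Lib.Helper41_RuSiftDef
  Cfsg.Agent.Lib.Helper41_RuPerm Cfsg.Agent.Lib.Helper41_RuDet
  Cfsg.Agent.Lib.Helper56_SchreierSims

/-! ### the chain -/

theorem par_lt {lvl : ℕ} (h7 : lvl < 7) : par lvl < 7 := by
  interval_cases lvl <;> decide

theorem wordCheck_spec {lvl : ℕ} (h1 : 1 ≤ lvl) (h7 : lvl < 7) :
    ok12 (genWord lvl 1) = true ∧ ok12 (genWord lvl 2) = true ∧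
      ∀ x < 4060, ev12 (par lvl) (genWord lvl 1) x = apL lvl 1 x ∧
        ev12 (par lvl) (genWord lvl 2) x = apL lvl 2 x := by
  have h := wordCheck_all lvl h1 h7
  rw [wordCheck, Bool.and_eq_true, Bool.and_eq_true] at h
  refine ⟨h.1.1, h.1.2, fun x hx => ?_⟩
  have h3 := allLt_sound h.2 x hx
  rw [Bool.and_eq_true] at h3
  exact ⟨Nat.eq_of_beq_eq_true h3.1, Nat.eq_of_beq_eq_true h3.2⟩

theorem letP_eq_word {lvl d : ℕ} (h1 : 1 ≤ lvl) (h7 : lvl < 7) (hd : d = 1 ∨ d = 2) :
    letP lvl d = wordP (par lvl) (digs12 (genWord lvl d)) := by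
  obtain ⟨ok1, ok2, hw⟩ := wordCheck_spec h1 h7
  apply Equiv.ext
  intro i
  apply Fin.ext
  rcases hd with rfl | rfl
  · rw [letP_apply h7 (by norm_num), word12_apply (par_lt h7) ok1]
    exact (hw i.val i.isLt).1.symm
  · rw [letP_apply h7 (by norm_num), word12_apply (par_lt h7) ok2]
    exact (hw i.val i.isLt).2.symm

theorem K_le_par {lvl : ℕ} (h1 : 1 ≤ lvl) (h7 : lvl < 7) : K lvl ≤ K (par lvl) := by
  obtain ⟨ok1, ok2, -⟩ := wordCheck_spec h1 h7
  rw [K_eq h7, Subgroup.closure_le]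
  rintro x (rfl | rfl)
  · rw [letP_eq_word h1 h7 (Or.inl rfl)]
    exact word12_mem (par_lt h7) ok1
  · rw [letP_eq_word h1 h7 (Or.inr rfl)]
    exact word12_mem (par_lt h7) ok2

theorem K1_le : K 1 ≤ K 0 := K_le_par (lvl := 1) (by norm_num) (by norm_num)
theorem K2_le : K 2 ≤ K 1 := K_le_par (lvl := 2) (by norm_num) (by norm_num)
theorem K3_le : K 3 ≤ K 2 := K_le_par (lvl := 3) (by norm_num) (by norm_num)
theorem K4_le : K 4 ≤ K 1 := K_le_par (lvl := 4) (by norm_num) (by norm_num)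
theorem K5_le : K 5 ≤ K 4 := K_le_par (lvl := 5) (by norm_num) (by norm_num)
theorem K6_le : K 6 ≤ K 5 := K_le_par (lvl := 6) (by norm_num) (by norm_num)

theorem K7_eq : K 7 = ⊥ := K_eq_bot (le_refl 7)

theorem K_nxt_le {lvl : ℕ} (hl : lvl < 7) : K (nxt lvl) ≤ K lvl := by
  interval_cases lvl
  · exact K1_le
  · exact K2_le
  · exact K3_le
  · show K 7 ≤ K 3
    rw [K7_eq]; exact bot_le
  · exact K5_le
  · exact K6_le
  · show K 7 ≤ K 6
    rw [K7_eq]; exact bot_le

theorem K_le_K0 (lvl : ℕ) : K lvl ≤ K 0 := by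
  by_cases h7 : lvl < 7
  · interval_cases lvl
    · exact le_rfl
    · exact K1_le
    · exact K2_le.trans K1_le
    · exact K3_le.trans (K2_le.trans K1_le)
    · exact K4_le.trans K1_le
    · exact K5_le.trans (K4_le.trans K1_le)
    · exact K6_le.trans (K5_le.trans (K4_le.trans K1_le))
  · rw [K_eq_bot (by omega)]; exact bot_le

/-! ### base points, orbits, transversals -/

theorem baseCheck_spec {lvl : ℕ} (hl : lvl < 7) :
    inOrb lvl (base lvl) = true ∧ codeOf lvl (base lvl) = 0 ∧ base lvl < 4060 ∧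
      (nxt lvl < 7 → apL (nxt lvl) 1 (base lvl) = base lvl ∧
        apL (nxt lvl) 2 (base lvl) = base lvl) := by
  have h := allLt_sound baseCheck_all lvl hl
  rw [baseCheck, Bool.and_eq_true, Bool.and_eq_true, Bool.and_eq_true] at h
  obtain ⟨⟨⟨a1, a2⟩, a3⟩, a4⟩ := h
  refine ⟨a1, Nat.eq_of_beq_eq_true a2, by rw [Nat.blt_eq] at a3; exact a3, fun hn => ?_⟩
  rw [Bool.or_eq_true] at a4
  rcases a4 with a4 | a4
  · have := Nat.le_of_ble_eq_true a4
    omega
  · rw [Bool.and_eq_true] at a4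
    exact ⟨Nat.eq_of_beq_eq_true a4.1, Nat.eq_of_beq_eq_true a4.2⟩

theorem base_lt (lvl : ℕ) : base lvl < 4060 := by
  rcases lvl with _ | _ | _ | _ | _ | _ | _ <;> simp [base]

/-- base points in `Fin 4060` -/
def baseF (lvl : ℕ) : Fin 4060 := ⟨base lvl, base_lt lvl⟩

/-- basic orbits -/
def orb (lvl : ℕ) : Finset (Fin 4060) := Finset.univ.filter fun p => inOrb lvl p.val = true

theorem mem_orb {lvl : ℕ} {p : Fin 4060} : p ∈ orb lvl ↔ inOrb lvl p.val = true := by
  simp [orb]

/-- transversals -/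
def tr (lvl : ℕ) (ω : Fin 4060) : P := wordP lvl (digs9 (codeOf lvl ω.val))

theorem trCheck_spec {lvl : ℕ} (hl : lvl < 7) {p : ℕ} (hp : p < 4060)
    (ho : inOrb lvl p = true) :
    ok9 (codeOf lvl p) = true ∧ ev9 lvl (codeOf lvl p) (base lvl) = p ∧
      inOrb lvl (apL lvl 1 p) = true ∧ inOrb lvl (apL lvl 2 p) = true :=
  trCheck_all lvl hl p hp ho

theorem tr_mem {lvl : ℕ} (hl : lvl < 7) {ω : Fin 4060} (ho : inOrb lvl ω.val = true) :
    tr lvl ω ∈ K lvl :=
  word9_mem hl (trCheck_spec hl ω.isLt ho).1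

theorem tr_apply {lvl : ℕ} (hl : lvl < 7) {ω : Fin 4060} (ho : inOrb lvl ω.val = true)
    (x : Fin 4060) : (tr lvl ω x).val = ev9 lvl (codeOf lvl ω.val) x.val :=
  word9_apply hl (trCheck_spec hl ω.isLt ho).1 x

theorem tr_inv_apply {lvl : ℕ} (hl : lvl < 7) {ω : Fin 4060} (ho : inOrb lvl ω.val = true)
    (x : Fin 4060) : ((tr lvl ω)⁻¹ x).val = evi9 lvl (codeOf lvl ω.val) x.val :=
  word9_inv_apply hl (trCheck_spec hl ω.isLt ho).1 x

theorem tr_apply_base {lvl : ℕ} (hl : lvl < 7) {ω : Fin 4060} (ho : inOrb lvl ω.val = true) :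
    tr lvl ω (baseF lvl) = ω := by
  apply Fin.ext
  rw [tr_apply hl ho]
  exact (trCheck_spec hl ω.isLt ho).2.1

theorem tr_base_one {lvl : ℕ} (hl : lvl < 7) : tr lvl (baseF lvl) = 1 := by
  show wordP lvl (digs9 (codeOf lvl (base lvl))) = 1
  rw [(baseCheck_spec hl).2.1]
  exact word9_zero hl

theorem inOrb0 (p : Fin 4060) : inOrb 0 p.val = true := by
  show Nat.blt p.val 4060 = true
  rw [Nat.blt_eq]
  exact p.isLt

theorem K_nxt_fix {lvl : ℕ} (hl : lvl < 7) : ∀ g ∈ K (nxt lvl), g (baseF lvl) = baseF lvl := by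
  by_cases hn : nxt lvl < 7
  · obtain ⟨-, -, -, hfix⟩ := baseCheck_spec hl
    obtain ⟨f1, f2⟩ := hfix hn
    have hle : K (nxt lvl) ≤ MulAction.stabilizer P (baseF lvl) := by
      rw [K_eq hn, Subgroup.closure_le]
      rintro x (rfl | rfl)
      · show letP (nxt lvl) 1 (baseF lvl) = baseF lvl
        apply Fin.ext
        rw [letP_apply hn (by norm_num)]
        exact f1
      · show letP (nxt lvl) 2 (baseF lvl) = baseF lvl
        apply Fin.ext
        rw [letP_apply hn (by norm_num)]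
        exact f2
    intro g hg
    exact hle hg
  · intro g hg
    rw [K_eq_bot (by omega), Subgroup.mem_bot] at hg
    rw [hg]
    rfl

/-! ### sifting -/

theorem sift_sound : ∀ (fuel l : ℕ) (σ : P) (ρ : ℕ → ℕ), σ ∈ K 0 →
    (∀ x : Fin 4060, ρ x.val = (σ x).val) → siftFrom fuel l ρ = true → σ ∈ K l := by
  intro fuel
  induction fuel with
  | zero =>
    intro l σ ρ hσ hρ h
    rw [eq_one_of_fixesAll hσ ρ hρ h]
    exact (K l).one_mem
  | succ fuel ih =>
    intro l σ ρ hσ hρ h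
    rw [siftFrom] at h
    cases hble : Nat.ble 7 l with
    | true =>
      rw [hble, cond_true] at h
      rw [eq_one_of_fixesAll hσ ρ hρ h]
      exact (K l).one_mem
    | false =>
      have hl : l < 7 := by
        by_contra hc
        have : Nat.ble 7 l = true := Nat.ble_eq_true_of_le (by omega)
        rw [this] at hble
        exact Bool.noConfusion hble
      rw [hble, cond_false, withNat_eq, Bool.and_eq_true] at h
      obtain ⟨ho, hs⟩ := h
      rw [withNat_eq] at hs
      have hb : ρ (base l) = (σ (baseF l)).val := hρ (baseF l)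
      rw [hb] at ho hs
      have htm : tr l (σ (baseF l)) ∈ K l := tr_mem hl ho
      have hσ' : (tr l (σ (baseF l)))⁻¹ * σ ∈ K (nxt l) := by
        refine ih (nxt l) _ _ ((K 0).mul_mem ((K 0).inv_mem (K_le_K0 l htm)) hσ) ?_ hs
        intro x
        rw [Perm.mul_apply, tr_inv_apply hl ho, hρ x]
      have := (K l).mul_mem htm (K_nxt_le hl hσ')
      rwa [mul_inv_cancel_left] at this

theorem schreier_val {lvl : ℕ} (hl : lvl < 7) {d : ℕ} (hd : d < 5) {ω : Fin 4060}
    (ho : inOrb lvl ω.val = true) (ho' : inOrb lvl (letP lvl d ω).val = true) (x : Fin 4060) :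
    (((tr lvl (letP lvl d ω))⁻¹ * letP lvl d * tr lvl ω) x).val =
      schreier lvl d ω.val x.val := by
  rw [Perm.mul_apply, Perm.mul_apply, tr_inv_apply hl ho', letP_apply hl hd,
    letP_apply hl hd, tr_apply hl ho]
  rfl

theorem isCons_spec {c' c d : ℕ} (h : isCons c' c d = true) :
    ∃ W : List ℕ, digs9 c' = d :: W ∧ digs9 c = W ++ [0] := by
  simp only [isCons, Bool.and_eq_true, Nat.beq_eq] at h
  obtain ⟨⟨⟨⟨⟨⟨⟨⟨⟨h0, h1⟩, h2⟩, h3⟩, h4⟩, h5⟩, h6⟩, h7⟩, h8⟩, h9⟩ := h
  refine ⟨[dg c 0, dg c 1, dg c 2, dg c 3, dg c 4, dg c 5, dg c 6, dg c 7], ?_, ?_⟩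
  · show [dg c' 0, dg c' 1, dg c' 2, dg c' 3, dg c' 4, dg c' 5, dg c' 6, dg c' 7, dg c' 8] = _
    rw [h0, h1, h2, h3, h4, h5, h6, h7, h8]
  · show [dg c 0, dg c 1, dg c 2, dg c 3, dg c 4, dg c 5, dg c 6, dg c 7, dg c 8] = _
    rw [h9]
    rfl

theorem word_cons {lvl : ℕ} (hl : lvl < 7) {c' c d : ℕ} (h : isCons c' c d = true) :
    wordP lvl (digs9 c') = letP lvl d * wordP lvl (digs9 c) := by
  obtain ⟨W, e1, e2⟩ := isCons_spec h
  rw [e1, e2, wordP_cons, wordP_append, wordP_cons, wordP_nil, letP_zero hl, mul_one, mul_one]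

theorem schCheck_all {lvl : ℕ} (hl : lvl < 7) {v : ℕ} (hv : v < 4060)
    (ho : inOrb lvl v = true) : schCheck lvl 1 v = true ∧ schCheck lvl 2 v = true := by
  interval_cases lvl
  · by_cases h : v < 1992
    · exact Cfsg.Agent.Lib.Helper41_RuSiftA.sift0a_all v h (Nat.zero_le _) ho
    · exact Cfsg.Agent.Lib.Helper41_RuSiftB.sift0b_all v hv (by omega) ho
  · exact Cfsg.Agent.Lib.Helper41_RuSiftC.sift1_all v hv (Nat.zero_le _) ho
  · exact Cfsg.Agent.Lib.Helper41_RuSiftC.sift2_all v hv (Nat.zero_le _) ho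
  · exact Cfsg.Agent.Lib.Helper41_RuSiftC.sift3_all v hv (Nat.zero_le _) ho
  · exact Cfsg.Agent.Lib.Helper41_RuSiftD.sift4_all v hv (Nat.zero_le _) ho
  · exact Cfsg.Agent.Lib.Helper41_RuSiftD.sift5_all v hv (Nat.zero_le _) ho
  · exact Cfsg.Agent.Lib.Helper41_RuSiftD.sift6_all v hv (Nat.zero_le _) ho

theorem sch {lvl : ℕ} (hl : lvl < 7) {d : ℕ} (hd : d = 1 ∨ d = 2) {ω : Fin 4060}
    (hω : inOrb lvl ω.val = true) :
    inOrb lvl (letP lvl d ω).val = true ∧
      (tr lvl (letP lvl d ω))⁻¹ * letP lvl d * tr lvl ω ∈ K (nxt lvl) := by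
  have hd5 : d < 5 := by omega
  have hspec := trCheck_spec hl ω.isLt hω
  have ho' : inOrb lvl (letP lvl d ω).val = true := by
    rw [letP_apply hl hd5]
    rcases hd with rfl | rfl
    · exact hspec.2.2.1
    · exact hspec.2.2.2
  refine ⟨ho', ?_⟩
  have hsc : schCheck lvl d ω.val = true := by
    rcases hd with rfl | rfl
    · exact (schCheck_all hl ω.isLt hω).1
    · exact (schCheck_all hl ω.isLt hω).2
  rw [schCheck, Bool.or_eq_true] at hsc
  rcases hsc with ht | hs
  · rw [treeEdge, withNat_eq, withNat_eq, Bool.or_eq_true] at ht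
    have e : (tr lvl (letP lvl d ω))⁻¹ * letP lvl d * tr lvl ω = 1 := by
      have t0 : tr lvl (letP lvl d ω) = wordP lvl (digs9 (codeOf lvl (apL lvl d ω.val))) := by
        show wordP lvl (digs9 (codeOf lvl (letP lvl d ω).val)) = _
        rw [letP_apply hl hd5]
      rcases ht with ht | ht
      · have t1 := word_cons hl ht
        rw [t0, t1]
        show (letP lvl d * tr lvl ω)⁻¹ * letP lvl d * tr lvl ω = 1
        group
      · have t1 : tr lvl ω = letP lvl (invd d) * tr lvl (letP lvl d ω) := by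
          rw [t0]
          exact word_cons hl ht
        rw [t1, letP_inv hl hd5]
        group
    rw [e]
    exact (K (nxt lvl)).one_mem
  · rw [withNat_eq, withNat_eq] at hs
    have hmem : (tr lvl (letP lvl d ω))⁻¹ * letP lvl d * tr lvl ω ∈ K lvl :=
      (K lvl).mul_mem ((K lvl).mul_mem ((K lvl).inv_mem (tr_mem hl ho')) (letP_mem hl hd5))
        (tr_mem hl hω)
    exact sift_sound 4 (nxt lvl) _ (schreier lvl d ω.val) (K_le_K0 lvl hmem)
      (fun x => (schreier_val hl hd5 hω ho' x).symm) hs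

/-! ### orders -/

theorem card_filter_range (n : ℕ) (f : ℕ → Bool) :
    ((Finset.range n).filter (fun i => f i = true)).card = (List.range n).countP f := by
  induction n with
  | zero => simp
  | succ n ih =>
    rw [Finset.range_add_one, Finset.filter_insert, List.range_succ, List.countP_append]
    by_cases h : f n = true
    · rw [if_pos h, Finset.card_insert_of_notMem (by simp), ih]; simp [h]
    · rw [if_neg h, ih]; simp [h]

theorem card_filter_fin (n : ℕ) (f : ℕ → Bool) :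
    (Finset.univ.filter (fun p : Fin n => f p.val = true)).card = (List.range n).countP f := by
  rw [← Finset.card_map Fin.valEmbedding]
  have h : (Finset.univ.filter fun p : Fin n => f p.val = true).map Fin.valEmbedding =
      (Finset.range n).filter (fun i => f i = true) := by
    ext x
    simp only [Finset.mem_map, Finset.mem_filter, Finset.mem_univ, true_and,
      Fin.valEmbedding_apply, Finset.mem_range]
    constructor
    · rintro ⟨y, hy, rfl⟩
      exact ⟨y.isLt, hy⟩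
    · rintro ⟨hx, hf⟩
      exact ⟨⟨x, hx⟩, hf, rfl⟩
  rw [h, card_filter_range]

theorem orb_card : (orb 0).card = 4060 ∧ (orb 1).card = 1755 ∧ (orb 2).card = 1024 ∧
    (orb 3).card = 20 ∧ (orb 4).card = 1755 ∧ (orb 5).card = 1024 ∧ (orb 6).card = 10 := by
  refine ⟨?_, ?_, ?_, ?_, ?_, ?_, ?_⟩
  · have : orb 0 = Finset.univ := by
      ext p
      rw [mem_orb]
      simp only [Finset.mem_univ, iff_true]
      exact inOrb0 p
    rw [this]; simp
  · rw [orb, card_filter_fin]; exact orbCount.1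
  · rw [orb, card_filter_fin]; exact orbCount.2.1
  · rw [orb, card_filter_fin]; exact orbCount.2.2.1
  · rw [orb, card_filter_fin]; exact orbCount.2.2.2.1
  · rw [orb, card_filter_fin]; exact orbCount.2.2.2.2.1
  · rw [orb, card_filter_fin]; exact orbCount.2.2.2.2.2

theorem card_K_step {lvl : ℕ} (hl : lvl < 7) :
    Nat.card (K lvl) = (orb lvl).card * Nat.card (K (nxt lvl)) := by
  have h := card_closure_eq {letP lvl 1, letP lvl 2} (K (nxt lvl)) (baseF lvl) (orb lvl) (tr lvl)
    (mem_orb.mpr (baseCheck_spec hl).1)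
    (tr_base_one hl)
    (fun ω hω => by rw [← K_eq hl]; exact tr_mem hl (mem_orb.mp hω))
    (fun ω hω => tr_apply_base hl (mem_orb.mp hω))
    (by
      rintro s (rfl | rfl) ω hω
      · exact mem_orb.mpr (sch hl (Or.inl rfl) (mem_orb.mp hω)).1
      · exact mem_orb.mpr (sch hl (Or.inr rfl) (mem_orb.mp hω)).1)
    (by rw [← K_eq hl]; exact K_nxt_le hl)
    (K_nxt_fix hl)
    (by
      rintro s (rfl | rfl) ω hω
      · exact (sch hl (Or.inl rfl) (mem_orb.mp hω)).2
      · exact (sch hl (Or.inr rfl) (mem_orb.mp hω)).2)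
  rw [K_eq hl]
  exact h

theorem stab_K_step {lvl : ℕ} (hl : lvl < 7) :
    K lvl ⊓ MulAction.stabilizer P (baseF lvl) = K (nxt lvl) := by
  have h := stabilizer_eq {letP lvl 1, letP lvl 2} (K (nxt lvl)) (baseF lvl) (orb lvl) (tr lvl)
    (mem_orb.mpr (baseCheck_spec hl).1)
    (tr_base_one hl)
    (by
      rintro s (rfl | rfl) ω hω
      · exact mem_orb.mpr (sch hl (Or.inl rfl) (mem_orb.mp hω)).1
      · exact mem_orb.mpr (sch hl (Or.inr rfl) (mem_orb.mp hω)).1)
    (by rw [← K_eq hl]; exact K_nxt_le hl)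
    (K_nxt_fix hl)
    (by
      rintro s (rfl | rfl) ω hω
      · exact (sch hl (Or.inl rfl) (mem_orb.mp hω)).2
      · exact (sch hl (Or.inr rfl) (mem_orb.mp hω)).2)
  rw [K_eq hl]
  exact h

/-- the orbit of the base point is the basic orbit -/
theorem apply_base_mem_orb {lvl : ℕ} (hl : lvl < 7) {g : P} (hg : g ∈ K lvl) :
    g (baseF lvl) ∈ orb lvl := by
  rw [K_eq hl] at hg
  exact (schreier_step {letP lvl 1, letP lvl 2} (K (nxt lvl)) (baseF lvl) (orb lvl) (tr lvl)
    (mem_orb.mpr (baseCheck_spec hl).1)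
    (tr_base_one hl)
    (by
      rintro s (rfl | rfl) ω hω
      · exact mem_orb.mpr (sch hl (Or.inl rfl) (mem_orb.mp hω)).1
      · exact mem_orb.mpr (sch hl (Or.inr rfl) (mem_orb.mp hω)).1)
    (by
      rintro s (rfl | rfl) ω hω
      · exact (sch hl (Or.inl rfl) (mem_orb.mp hω)).2
      · exact (sch hl (Or.inr rfl) (mem_orb.mp hω)).2) hg).1

/-- the basic orbit is invariant -/
theorem apply_mem_orb {lvl : ℕ} (hl : lvl < 7) {g : P} (hg : g ∈ K lvl) {p : Fin 4060}
    (hp : p ∈ orb lvl) : g p ∈ orb lvl := by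
  have h1 := tr_apply_base hl (mem_orb.mp hp)
  have h2 := apply_base_mem_orb hl ((K lvl).mul_mem hg (tr_mem hl (mem_orb.mp hp)))
  rw [Perm.mul_apply, h1] at h2
  exact h2

theorem card_K7 : Nat.card (K 7) = 1 := by
  rw [K7_eq]
  exact Subgroup.card_bot

theorem card_K3 : Nat.card (K 3) = 20 := by
  have h := card_K_step (lvl := 3) (by norm_num)
  rw [orb_card.2.2.2.1, show K (nxt 3) = K 7 from rfl, card_K7] at h
  exact h

theorem card_K2 : Nat.card (K 2) = 20480 := by
  have h := card_K_step (lvl := 2) (by norm_num)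
  rw [orb_card.2.2.1, show K (nxt 2) = K 3 from rfl, card_K3] at h
  exact h

theorem card_K1 : Nat.card (K 1) = 35942400 := by
  have h := card_K_step (lvl := 1) (by norm_num)
  rw [orb_card.2.1, show K (nxt 1) = K 2 from rfl, card_K2] at h
  exact h

theorem card_K0 : Nat.card (K 0) = 145926144000 := by
  have h := card_K_step (lvl := 0) (by norm_num)
  rw [orb_card.1, show K (nxt 0) = K 1 from rfl, card_K1] at h
  exact h

theorem card_K6 : Nat.card (K 6) = 10 := by
  have h := card_K_step (lvl := 6) (by norm_num)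
  rw [orb_card.2.2.2.2.2.2, show K (nxt 6) = K 7 from rfl, card_K7] at h
  exact h

theorem card_K5 : Nat.card (K 5) = 10240 := by
  have h := card_K_step (lvl := 5) (by norm_num)
  rw [orb_card.2.2.2.2.2.1, show K (nxt 5) = K 6 from rfl, card_K6] at h
  exact h

theorem card_K4 : Nat.card (K 4) = 17971200 := by
  have h := card_K_step (lvl := 4) (by norm_num)
  rw [orb_card.2.2.2.2.1, show K (nxt 4) = K 5 from rfl, card_K5] at h
  exact h

/-- transitivity -/
theorem exists_K0 (ω : Fin 4060) : ∃ g ∈ K 0, g 0 = ω :=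
  ⟨tr 0 ω, tr_mem (lvl := 0) (by norm_num) (inOrb0 ω),
    tr_apply_base (lvl := 0) (by norm_num) (inOrb0 ω)⟩

/-- `K 1` fixes `0` -/
theorem K1_fix0 : ∀ g ∈ K 1, g 0 = 0 := K_nxt_fix (lvl := 0) (by norm_num)

end Cfsg.Agent.Lib.Helper41_RuChain
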