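import Mathlib
import Cfsg.Prelude.Def_Sporadic_a
import Cfsg.Agent.Lib.Helper41_S22c

set_option autoImplicit false
set_option linter.unusedSectionVars false
set_option linter.unusedVariables false

/-!
The design derived at two points, the induced permutations, and transport of automorphisms along
an isomorphism of set systems (helper41).
-/

namespace Cfsg.Agent.Lib.Helper41_S22e

open Cfsg Cfsg.Agent.Lib.Helper41_S22c
open scoped Pointwise

section derived2

variable {γ : Type*} [DecidableEq γ]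

/-- the points other than `p` and `q` -/
abbrev Pts2 (p q : γ) : Type _ := {x : γ // x ≠ p ∧ x ≠ q}

/-- the inclusion of the remaining points -/
def emb2 (p q : γ) : Pts2 p q ↪ γ := Function.Embedding.subtype _

/-- add the points `p`, `q` back to a set of remaining points -/
def up2 (p q : γ) (l : Finset (Pts2 p q)) : Finset γ := insert p (insert q (l.map (emb2 p q)))

/-- remove the points `p`, `q` -/
def down2 (p q : γ) (b : Finset γ) : Finset (Pts2 p q) := b.subtype (fun x => x ≠ p ∧ x ≠ q)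

theorem mem_up2 {p q : γ} {l : Finset (Pts2 p q)} {x : γ} :
    x ∈ up2 p q l ↔ x = p ∨ x = q ∨ ∃ h : x ≠ p ∧ x ≠ q, (⟨x, h⟩ : Pts2 p q) ∈ l := by
  rw [up2, Finset.mem_insert, Finset.mem_insert, Finset.mem_map]
  constructor
  · rintro (h | h | ⟨y, hy, rfl⟩)
    · exact Or.inl h
    · exact Or.inr (Or.inl h)
    · exact Or.inr (Or.inr ⟨y.2, hy⟩)
  · rintro (h | h | ⟨h, hx⟩)
    · exact Or.inl h
    · exact Or.inr (Or.inl h)
    · exact Or.inr (Or.inr ⟨⟨x, h⟩, hx, rfl⟩)

theorem fst_mem_up2 (p q : γ) (l : Finset (Pts2 p q)) : p ∈ up2 p q l :=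
  mem_up2.mpr (Or.inl rfl)

theorem snd_mem_up2 (p q : γ) (l : Finset (Pts2 p q)) : q ∈ up2 p q l :=
  mem_up2.mpr (Or.inr (Or.inl rfl))

theorem coe_mem_up2 {p q : γ} {l : Finset (Pts2 p q)} (y : Pts2 p q) :
    (y : γ) ∈ up2 p q l ↔ y ∈ l := by
  rw [mem_up2]
  constructor
  · rintro (h | h | ⟨h, hx⟩)
    · exact absurd h y.2.1
    · exact absurd h y.2.2
    · exact hx
  · intro h
    exact Or.inr (Or.inr ⟨y.2, h⟩)

theorem mem_down2 {p q : γ} {b : Finset γ} {y : Pts2 p q} : y ∈ down2 p q b ↔ (y : γ) ∈ b :=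
  Finset.mem_subtype

theorem down2_up2 (p q : γ) (l : Finset (Pts2 p q)) : down2 p q (up2 p q l) = l := by
  ext y
  rw [mem_down2, coe_mem_up2]

theorem up2_down2 {p q : γ} {b : Finset γ} (hp : p ∈ b) (hq : q ∈ b) :
    up2 p q (down2 p q b) = b := by
  ext x
  rw [mem_up2]
  constructor
  · rintro (rfl | rfl | ⟨h, hx⟩)
    · exact hp
    · exact hq
    · exact mem_down2.mp hx
  · intro hx
    by_cases h1 : x = p
    · exact Or.inl h1
    · by_cases h2 : x = q
      · exact Or.inr (Or.inl h2)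
      · exact Or.inr (Or.inr ⟨⟨h1, h2⟩, mem_down2.mpr hx⟩)

theorem card_up2 {p q : γ} (hpq : p ≠ q) (l : Finset (Pts2 p q)) :
    (up2 p q l).card = l.card + 2 := by
  rw [up2, Finset.card_insert_of_notMem, Finset.card_insert_of_notMem, Finset.card_map]
  · intro h
    obtain ⟨y, -, hy⟩ := Finset.mem_map.mp h
    exact y.2.2 hy
  · rw [Finset.mem_insert]
    rintro (h | h)
    · exact hpq h
    · obtain ⟨y, -, hy⟩ := Finset.mem_map.mp h
      exact y.2.1 hy

theorem up2_subset_up2 {p q : γ} {s l : Finset (Pts2 p q)} :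
    up2 p q s ⊆ up2 p q l ↔ s ⊆ l := by
  constructor
  · intro h y hy
    rw [← coe_mem_up2]
    exact h ((coe_mem_up2 y).mpr hy)
  · intro h x hx
    rw [mem_up2] at hx ⊢
    rcases hx with h1 | h1 | ⟨h1, h2⟩
    · exact Or.inl h1
    · exact Or.inr (Or.inl h1)
    · exact Or.inr (Or.inr ⟨h1, h h2⟩)

/-- the design derived at the two points `p`, `q` -/
def derived2 (O : Set (Finset γ)) (p q : γ) : Set (Finset (Pts2 p q)) := {l | up2 p q l ∈ O}

theorem derived2_steiner {t k : ℕ} {O : Set (Finset γ)} {p q : γ} (hpq : p ≠ q)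
    (hO : IsSteinerSystem (t + 2) (k + 2) O) : IsSteinerSystem t k (derived2 O p q) := by
  constructor
  · intro l hl
    have h := hO.1 _ hl
    rw [card_up2 hpq] at h
    omega
  · intro s hs
    have h3 : (up2 p q s).card = t + 2 := by rw [card_up2 hpq, hs]
    obtain ⟨b, ⟨hb, hsb⟩, huniq⟩ := hO.2 _ h3
    have hpb : p ∈ b := hsb (fst_mem_up2 p q s)
    have hqb : q ∈ b := hsb (snd_mem_up2 p q s)
    refine ⟨down2 p q b, ⟨?_, ?_⟩, ?_⟩
    · show up2 p q (down2 p q b) ∈ O
      rw [up2_down2 hpb hqb]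
      exact hb
    · intro y hy
      rw [mem_down2]
      exact hsb ((coe_mem_up2 y).mpr hy)
    · rintro l ⟨hl, hsl⟩
      have := huniq (up2 p q l) ⟨hl, up2_subset_up2.mpr hsl⟩
      rw [← this, down2_up2]

theorem card_pts2 [Fintype γ] {n : ℕ} (hγ : Fintype.card γ = n + 2) {p q : γ} (hpq : p ≠ q) :
    Fintype.card (Pts2 p q) = n := by
  rw [Fintype.card_subtype]
  have h1 : (Finset.univ.filter (fun x : γ => x ≠ p ∧ x ≠ q)) = ({p, q} : Finset γ)ᶜ := by
    ext x
    simp
  rw [h1, Finset.card_compl, hγ, Finset.card_pair hpq]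
  omega

/-- the permutation of the remaining points induced by a permutation fixing `p` and `q` -/
def restrict2 (p q : γ) (g : Equiv.Perm γ) (hp : g p = p) (hq : g q = q) :
    Equiv.Perm (Pts2 p q) :=
  g.subtypePerm (fun x => by
    constructor
    · rintro ⟨h1, h2⟩
      exact ⟨fun hx => h1 (hx ▸ hp), fun hx => h2 (hx ▸ hq)⟩
    · rintro ⟨h1, h2⟩
      exact ⟨fun hx => h1 (g.injective (hx.trans hp.symm)),
        fun hx => h2 (g.injective (hx.trans hq.symm))⟩)

theorem restrict2_apply (p q : γ) (g : Equiv.Perm γ) (hp : g p = p) (hq : g q = q)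
    (y : Pts2 p q) : ((restrict2 p q g hp hq y : Pts2 p q) : γ) = g y := rfl

theorem up2_image_restrict2 (p q : γ) (g : Equiv.Perm γ) (hp : g p = p) (hq : g q = q)
    (l : Finset (Pts2 p q)) :
    up2 p q (l.image (restrict2 p q g hp hq)) = (up2 p q l).image g := by
  ext x
  rw [mem_up2, Finset.mem_image]
  constructor
  · rintro (rfl | rfl | ⟨h, hx⟩)
    · exact ⟨x, fst_mem_up2 x q l, hp⟩
    · exact ⟨x, snd_mem_up2 p x l, hq⟩
    · obtain ⟨y, hy, hyx⟩ := Finset.mem_image.mp hx
      refine ⟨(y : γ), (coe_mem_up2 y).mpr hy, ?_⟩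
      rw [← restrict2_apply p q g hp hq y, hyx]
  · rintro ⟨z, hz, rfl⟩
    rw [mem_up2] at hz
    rcases hz with rfl | rfl | ⟨h, hz⟩
    · exact Or.inl hp
    · exact Or.inr (Or.inl hq)
    · right
      right
      have hne : g z ≠ p ∧ g z ≠ q :=
        ⟨fun hx => h.1 (g.injective (hx.trans hp.symm)),
          fun hx => h.2 (g.injective (hx.trans hq.symm))⟩
      refine ⟨hne, ?_⟩
      rw [Finset.mem_image]
      exact ⟨⟨z, h⟩, hz, Subtype.ext rfl⟩

theorem restrict2_mem_aut [Fintype γ] {O : Set (Finset γ)} (p q : γ) (g : Equiv.Perm γ)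
    (hp : g p = p) (hq : g q = q) (hgO : g ∈ setSystemAut O) :
    restrict2 p q g hp hq ∈ setSystemAut (derived2 O p q) := by
  apply mem_aut_of_forall_fin
  intro l hl
  show up2 p q (l.image (restrict2 p q g hp hq)) ∈ O
  rw [up2_image_restrict2]
  exact image_mem_of_mem_aut hgO hl

theorem restrict2_injective (p q : γ) {g g' : Equiv.Perm γ} (hp : g p = p) (hq : g q = q)
    (hp' : g' p = p) (hq' : g' q = q)
    (h : restrict2 p q g hp hq = restrict2 p q g' hp' hq') : g = g' := by
  ext x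
  by_cases h1 : x = p
  · rw [h1, hp, hp']
  · by_cases h2 : x = q
    · rw [h2, hq, hq']
    · have := congrArg (fun f : Equiv.Perm (Pts2 p q) => ((f ⟨x, h1, h2⟩ : Pts2 p q) : γ)) h
      simpa [restrict2_apply] using this

end derived2

section transport

variable {α β : Type*} [Fintype α] [DecidableEq α] [DecidableEq β]

/-- automorphisms are transported along an isomorphism of set systems -/
theorem permCongr_mem_aut (e : β ≃ α) {B₀ : Set (Finset β)} {B : Set (Finset α)}
    (he : (fun c : Finset β => c.image e) '' B₀ = B) {h : Equiv.Perm β}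
    (hh : h ∈ setSystemAut B₀) : e.permCongr h ∈ setSystemAut B := by
  apply mem_aut_of_forall_fin
  intro b hb
  rw [← he] at hb
  obtain ⟨c, hc, rfl⟩ := hb
  have h1 : (c.image e).image (e.permCongr h) = (c.image h).image e := by
    rw [Finset.image_image, Finset.image_image]
    congr 1
    funext x
    simp [Equiv.permCongr_apply]
  show (c.image e).image (e.permCongr h) ∈ B
  rw [h1, ← he]
  exact ⟨c.image h, image_mem_of_mem_aut hh hc, rfl⟩

end transport

end Cfsg.Agent.Lib.Helper41_S22e
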