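import Mathlib

/-!
# Helper76_S3157Defs

Shared definitions for the S3157 packages (group `T` of order 64 with automorphisms `ρ` (order 3,
fixed-point-free) and `x` (order 2, inverting `ρ`)).

* `fixSub x`  : the subgroup of fixed points of the automorphism `x`.
* `fixMod x`  : the subgroup of elements fixed by `x` modulo the centre.
* `HypR T ρ`  : the facts about `(T, ρ)` (structure of `T`, commutator identities).
* `HypX T ρ x`: `HypR` plus the facts about `x`.
-/

set_option autoImplicit false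

open scoped commutatorElement

namespace Cfsg.Agent.Lib.Helper76_S3157Defs

variable {T : Type*} [Group T]

/-- fixed points of an automorphism -/
def fixSub (x : MulAut T) : Subgroup T where
  carrier := {t | x t = t}
  one_mem' := map_one x
  mul_mem' := by
    intro a b ha hb
    simp only [Set.mem_ofPred_eq] at ha hb ⊢
    rw [map_mul, ha, hb]
  inv_mem' := by
    intro a ha
    simp only [Set.mem_ofPred_eq] at ha ⊢
    rw [map_inv, ha]

theorem mem_fixSub {x : MulAut T} {t : T} : t ∈ fixSub x ↔ x t = t := Iff.rfl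

/-- elements fixed by `x` modulo the centre -/
def fixMod (x : MulAut T) : Subgroup T where
  carrier := {t | t⁻¹ * x t ∈ Subgroup.center T}
  one_mem' := by
    simp only [Set.mem_ofPred_eq, inv_one, map_one, mul_one]
    exact (Subgroup.center T).one_mem
  mul_mem' := by
    intro a b ha hb
    simp only [Set.mem_ofPred_eq] at ha hb ⊢
    have h1 : (a * b)⁻¹ * x (a * b) = (a⁻¹ * x a) * (b⁻¹ * x b) := by
      have hc := Subgroup.mem_center_iff.mp ha b⁻¹
      rw [map_mul, mul_inv_rev]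
      calc b⁻¹ * a⁻¹ * (x a * x b) = (b⁻¹ * (a⁻¹ * x a)) * x b := by group
        _ = ((a⁻¹ * x a) * b⁻¹) * x b := by rw [hc]
        _ = (a⁻¹ * x a) * (b⁻¹ * x b) := by group
    rw [h1]
    exact (Subgroup.center T).mul_mem ha hb
  inv_mem' := by
    intro a ha
    simp only [Set.mem_ofPred_eq] at ha ⊢
    have hc := Subgroup.mem_center_iff.mp ha a⁻¹
    have h1 : (a⁻¹)⁻¹ * x a⁻¹ = (a⁻¹ * x a)⁻¹ := by
      rw [map_inv, inv_inv, mul_inv_rev, inv_inv]
      have h2 : a⁻¹ * (a⁻¹ * x a) = (a⁻¹ * x a) * a⁻¹ := hc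
      have h3 : x a * a⁻¹ = a⁻¹ * x a := by
        calc x a * a⁻¹ = a * ((a⁻¹ * x a) * a⁻¹) := by group
          _ = a * (a⁻¹ * (a⁻¹ * x a)) := by rw [h2]
          _ = a⁻¹ * x a := by group
      calc a * (x a)⁻¹ = (x a * a⁻¹)⁻¹ := by group
        _ = (a⁻¹ * x a)⁻¹ := by rw [h3]
        _ = (x a)⁻¹ * a := by group
    rw [h1]
    exact (Subgroup.center T).inv_mem ha

theorem mem_fixMod {x : MulAut T} {t : T} : t ∈ fixMod x ↔ t⁻¹ * x t ∈ Subgroup.center T :=
  Iff.rfl

theorem fixSub_le_fixMod (x : MulAut T) : fixSub x ≤ fixMod x := by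
  intro t ht
  rw [mem_fixMod, mem_fixSub.mp ht, inv_mul_cancel]
  exact (Subgroup.center T).one_mem

/-- The `ρ`-part of the configuration of S3157: the structure of `T` and the commutator
identities. (`ρ⁻¹` is written as `ρ ∘ ρ` throughout.) -/
structure HypR (T : Type*) [Group T] (ρ : MulAut T) : Prop where
  card : Nat.card T = 64
  rho3 : ∀ t : T, ρ (ρ (ρ t)) = t
  fpf : ∀ y : T, ρ y = y → y = 1
  nonab : ∃ a b : T, a * b ≠ b * a
  cardZ : Nat.card (Subgroup.center T) = 4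
  cl2 : ∀ a b : T, ⁅a, b⁆ ∈ Subgroup.center T
  sq : ∀ a : T, a ^ 2 ∈ Subgroup.center T
  z2 : ∀ z ∈ Subgroup.center T, z ^ 2 = 1
  rhoZ : ∀ z ∈ Subgroup.center T, ρ z ∈ Subgroup.center T
  zprod : ∀ z ∈ Subgroup.center T, z * ρ z * ρ (ρ z) = 1
  fpfZ : ∀ t : T, t⁻¹ * ρ t ∈ Subgroup.center T → t ∈ Subgroup.center T
  comm_l : ∀ a b : T, ⁅ρ a, b⁆ = ρ (ρ ⁅a, b⁆)
  comm_r : ∀ a b : T, ⁅a, ρ b⁆ = ρ (ρ ⁅a, b⁆)

/-- `HypR` plus an involutory automorphism `x` inverting `ρ`. -/
structure HypX (T : Type*) [Group T] (ρ x : MulAut T) : Prop extends HypR T ρ where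
  x2 : ∀ t : T, x (x t) = t
  xrho : ∀ t : T, x (ρ t) = ρ (ρ (x t))

end Cfsg.Agent.Lib.Helper76_S3157Defs
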