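import Mathlib
import Cfsg.Agent.Lib.Helper76_S3157Defs

/-!
# Helper41_S3157_CZ

S3157, package CZ (architect: helper76): the involution `x` on the centre `Z` of `T`: exactly one
nontrivial fixed point `z₀`, and `z ↦ z * x z` maps `Z` onto `{1, z₀}`.
-/

set_option autoImplicit false

open scoped commutatorElement
open Cfsg.Agent.Lib.Helper76_S3157Defs

namespace Cfsg.Agent.Lib.Helper41_S3157_CZ

/-- a type with four elements is exhausted by four distinct elements -/
theorem four_elems {Z : Type*} (hZ : Nat.card Z = 4) (a b c d : Z) (hab : a ≠ b) (hac : a ≠ c)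
    (had : a ≠ d) (hbc : b ≠ c) (hbd : b ≠ d) (hcd : c ≠ d) (z : Z) :
    z = a ∨ z = b ∨ z = c ∨ z = d := by
  classical
  have : Finite Z := Nat.finite_of_card_ne_zero (by omega)
  have : Fintype Z := Fintype.ofFinite Z
  have hS : ({a, b, c, d} : Finset Z).card = 4 := by
    rw [Finset.card_insert_of_notMem, Finset.card_insert_of_notMem, Finset.card_insert_of_notMem,
      Finset.card_singleton]
    · simpa using hcd
    · simp [hbc, hbd]
    · simp [hab, hac, had]
  have hU : ({a, b, c, d} : Finset Z) = Finset.univ := by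
    apply Finset.eq_univ_of_card
    rw [hS, ← Nat.card_eq_fintype_card, hZ]
  have hz : z ∈ ({a, b, c, d} : Finset Z) := by rw [hU]; exact Finset.mem_univ z
  simpa using hz

variable {T : Type*} [Group T]

/-- an automorphism preserves the centre -/
theorem aut_mem_center (x : MulAut T) {z : T} (hz : z ∈ Subgroup.center T) :
    x z ∈ Subgroup.center T := by
  rw [Subgroup.mem_center_iff]
  intro g
  have h1 := Subgroup.mem_center_iff.mp hz (x⁻¹ g)
  have h2 := congrArg x h1
  rw [map_mul, map_mul] at h2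
  have h3 : x (x⁻¹ g) = g := by simp
  rw [h3] at h2
  exact h2

/-- first step: some nontrivial central element is fixed by `x` -/
theorem exists_fixed {ρ x : MulAut T} (h : HypX T ρ x) :
    ∃ z₀ ∈ Subgroup.center T, z₀ ≠ 1 ∧ x z₀ = z₀ := by
  have : Finite (Subgroup.center T) := Nat.finite_of_card_ne_zero (by rw [h.cardZ]; norm_num)
  have : Nontrivial (Subgroup.center T) := by
    rw [← Finite.one_lt_card_iff_nontrivial, h.cardZ]; norm_num
  obtain ⟨⟨e, he⟩, hne⟩ := exists_ne (1 : Subgroup.center T)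
  have he1 : e ≠ 1 := fun hc => hne (Subtype.ext hc)
  by_cases hx : x e = e
  · exact ⟨e, he, he1, hx⟩
  · have hxe : x e ∈ Subgroup.center T := aut_mem_center x he
    refine ⟨e * x e, (Subgroup.center T).mul_mem he hxe, ?_, ?_⟩
    · intro hc
      apply hx
      have h2 : e * e = 1 := by rw [← pow_two]; exact h.z2 e he
      have h3 : e * x e = e * e := by rw [hc, h2]
      exact mul_left_cancel h3
    · rw [map_mul, h.x2]
      exact (Subgroup.mem_center_iff.mp he (x e))

theorem exists_central_fixed {ρ x : MulAut T} (h : HypX T ρ x) :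
    ∃ z₀ ∈ Subgroup.center T, z₀ ≠ 1 ∧ x z₀ = z₀ ∧
      (∀ z ∈ Subgroup.center T, x z = z → z = 1 ∨ z = z₀) ∧
      (∃ z ∈ Subgroup.center T, z * x z = z₀) := by
  obtain ⟨a, ha, ha1, hxa⟩ := exists_fixed h
  have hb : ρ a ∈ Subgroup.center T := h.rhoZ a ha
  have hc : ρ (ρ a) ∈ Subgroup.center T := h.rhoZ _ hb
  have hab : a ≠ ρ a := fun hc' => ha1 (h.fpf a hc'.symm)
  have hbc : ρ a ≠ ρ (ρ a) := fun hc' => hab (ρ.injective hc')
  have hac : a ≠ ρ (ρ a) := by
    intro hc'
    apply hab
    have := congrArg ρ hc'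
    rw [h.rho3] at this
    exact this.symm
  have hb1 : ρ a ≠ 1 := by
    intro hc'
    apply ha1
    apply ρ.injective
    rw [hc', map_one]
  have hc1 : ρ (ρ a) ≠ 1 := by
    intro hc'
    apply hb1
    apply ρ.injective
    rw [hc', map_one]
  have hxb : x (ρ a) = ρ (ρ a) := by rw [h.xrho, hxa]
  have hxc : x (ρ (ρ a)) = ρ a := by rw [h.xrho, hxb, h.rho3]
  have hprod : ρ a * ρ (ρ a) = a := by
    have h1 := h.zprod a ha
    have h2 : a * a = 1 := by rw [← pow_two]; exact h.z2 a ha
    have h3 : a * (ρ a * ρ (ρ a)) = a * a := by rw [h2, ← mul_assoc]; exact h1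
    exact mul_left_cancel h3
  have henum : ∀ z ∈ Subgroup.center T, z = 1 ∨ z = a ∨ z = ρ a ∨ z = ρ (ρ a) := by
    intro z hz
    have := four_elems h.cardZ (1 : Subgroup.center T) ⟨a, ha⟩ ⟨ρ a, hb⟩ ⟨ρ (ρ a), hc⟩
      (fun hc' => ha1 (congrArg Subtype.val hc').symm)
      (fun hc' => hb1 (congrArg Subtype.val hc').symm)
      (fun hc' => hc1 (congrArg Subtype.val hc').symm)
      (fun hc' => hab (congrArg Subtype.val hc'))
      (fun hc' => hac (congrArg Subtype.val hc'))
      (fun hc' => hbc (congrArg Subtype.val hc')) ⟨z, hz⟩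
    rcases this with h1 | h1 | h1 | h1
    · exact Or.inl (congrArg Subtype.val h1)
    · exact Or.inr (Or.inl (congrArg Subtype.val h1))
    · exact Or.inr (Or.inr (Or.inl (congrArg Subtype.val h1)))
    · exact Or.inr (Or.inr (Or.inr (congrArg Subtype.val h1)))
  refine ⟨a, ha, ha1, hxa, ?_, ⟨ρ a, hb, ?_⟩⟩
  · intro z hz hxz
    rcases henum z hz with h1 | h1 | h1 | h1
    · exact Or.inl h1
    · exact Or.inr h1
    · exfalso
      rw [h1, hxb] at hxz
      exact hbc hxz.symm
    · exfalso
      rw [h1, hxc] at hxz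
      exact hbc hxz
  · rw [hxb]; exact hprod

end Cfsg.Agent.Lib.Helper41_S3157_CZ
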