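import Mathlib
import Cfsg.Agent.Lib.Helper76_S3157Defs

/-!
# Helper41_S3157_D16

S3157, package D16 (architect: helper76): `fixMod x = {t | t⁻¹ * x t ∈ Z(T)}` has order 16.
-/

set_option autoImplicit false

open scoped commutatorElement
open Cfsg.Agent.Lib.Helper76_S3157Defs

namespace Cfsg.Agent.Lib.Helper41_S3157_D16

variable {T : Type*} [Group T]

/-- an automorphism preserves the centre -/
theorem aut_mem_center (x : MulAut T) {z : T} (hz : z ∈ Subgroup.center T) :
    x z ∈ Subgroup.center T := by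
  rw [Subgroup.mem_center_iff]
  intro g
  have h1 := Subgroup.mem_center_iff.mp hz (x⁻¹ g)
  have h2 := congrArg x h1
  rw [map_mul, map_mul] at h2
  have h3 : x (x⁻¹ g) = g := by simp
  rw [h3] at h2
  exact h2

/-- the centre is contained in `fixMod x` -/
theorem center_le_fixMod (x : MulAut T) : Subgroup.center T ≤ fixMod x := by
  intro z hz
  rw [mem_fixMod]
  exact (Subgroup.center T).mul_mem ((Subgroup.center T).inv_mem hz) (aut_mem_center x hz)

/-- the quotient by the centre is commutative when commutators are central -/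
theorem quot_comm (hcl : ∀ a b : T, ⁅a, b⁆ ∈ Subgroup.center T)
    (a b : T ⧸ Subgroup.center T) : a * b = b * a := by
  induction a using QuotientGroup.induction_on with
  | H a =>
    induction b using QuotientGroup.induction_on with
    | H b =>
      rw [← QuotientGroup.mk_mul, ← QuotientGroup.mk_mul, QuotientGroup.eq]
      have h1 : (a * b)⁻¹ * (b * a) = ⁅b⁻¹, a⁻¹⁆ := by
        simp only [commutatorElement_def]; group
      rw [h1]
      exact hcl _ _

/-- the homomorphism `t ↦ (t * x t) Z` -/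
noncomputable def mu (hcl : ∀ a b : T, ⁅a, b⁆ ∈ Subgroup.center T) (x : MulAut T) :
    T →* T ⧸ Subgroup.center T :=
  MonoidHom.mk' (fun t => (QuotientGroup.mk t : T ⧸ Subgroup.center T) * QuotientGroup.mk (x t))
    (by
      intro a b
      simp only [map_mul, QuotientGroup.mk_mul]
      have hc := quot_comm hcl (QuotientGroup.mk b) (QuotientGroup.mk (x a))
      calc (QuotientGroup.mk a : T ⧸ Subgroup.center T) * QuotientGroup.mk b
            * (QuotientGroup.mk (x a) * QuotientGroup.mk (x b))
          = QuotientGroup.mk a * (QuotientGroup.mk b * QuotientGroup.mk (x a))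
            * QuotientGroup.mk (x b) := by simp only [mul_assoc]
        _ = QuotientGroup.mk a * (QuotientGroup.mk (x a) * QuotientGroup.mk b)
            * QuotientGroup.mk (x b) := by rw [hc]
        _ = _ := by simp only [mul_assoc])

theorem mu_apply (hcl : ∀ a b : T, ⁅a, b⁆ ∈ Subgroup.center T) (x : MulAut T) (t : T) :
    mu hcl x t = (QuotientGroup.mk (t * x t) : T ⧸ Subgroup.center T) := by
  rw [QuotientGroup.mk_mul]; rfl

theorem ker_mu (hcl : ∀ a b : T, ⁅a, b⁆ ∈ Subgroup.center T)
    (hsq : ∀ a : T, a ^ 2 ∈ Subgroup.center T) (x : MulAut T) :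
    (mu hcl x).ker = fixMod x := by
  ext t
  rw [MonoidHom.mem_ker, mu_apply, QuotientGroup.eq_one_iff, mem_fixMod]
  have h1 : t * x t = t ^ 2 * (t⁻¹ * x t) := by
    rw [pow_two]; group
  rw [h1]
  constructor
  · intro h
    have := (Subgroup.center T).mul_mem ((Subgroup.center T).inv_mem (hsq t)) h
    rwa [inv_mul_cancel_left] at this
  · intro h
    exact (Subgroup.center T).mul_mem (hsq t) h

theorem range_mu_le (hcl : ∀ a b : T, ⁅a, b⁆ ∈ Subgroup.center T) (x : MulAut T)
    (hx2 : ∀ t : T, x (x t) = t) :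
    (mu hcl x).range ≤ (fixMod x).map (QuotientGroup.mk' (Subgroup.center T)) := by
  rintro _ ⟨t, rfl⟩
  rw [mu_apply]
  refine Subgroup.mem_map.mpr ⟨t * x t, ?_, rfl⟩
  rw [mem_fixMod, map_mul, hx2]
  have h1 : (t * x t)⁻¹ * (x t * t) = ⁅(x t)⁻¹, t⁻¹⁆ := by
    simp only [commutatorElement_def]; group
  rw [h1]
  exact hcl _ _

theorem inf_map_le {ρ x : MulAut T} (h : HypX T ρ x) :
    fixMod x ⊓ (fixMod x).map (ρ : T →* T) ≤ Subgroup.center T := by
  rintro t ⟨ht, ht'⟩
  obtain ⟨s, hs, rfl⟩ := Subgroup.mem_map.mp ht'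
  have hs' : s⁻¹ * x s ∈ Subgroup.center T := hs
  have ht1 : (ρ s)⁻¹ * x (ρ s) ∈ Subgroup.center T := ht
  apply h.fpfZ
  show (ρ s)⁻¹ * ρ (ρ s) ∈ Subgroup.center T
  rw [h.xrho] at ht1
  have hz : ρ (ρ (s⁻¹ * x s)) ∈ Subgroup.center T := h.rhoZ _ (h.rhoZ _ hs')
  have h2 : (ρ s)⁻¹ * ρ (ρ s) = (ρ s)⁻¹ * ρ (ρ (x s)) * (ρ (ρ (s⁻¹ * x s)))⁻¹ := by
    simp only [map_mul, map_inv]; group
  rw [h2]
  exact (Subgroup.center T).mul_mem ht1 ((Subgroup.center T).inv_mem hz)

theorem card_fixMod [Finite T] {ρ x : MulAut T} (h : HypX T ρ x) :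
    Nat.card (fixMod x) = 16 := by
  have hZidx : (Subgroup.center T).index = 16 := by
    have := (Subgroup.center T).card_mul_index
    rw [h.cardZ, h.card] at this
    omega
  have hcardQ : Nat.card (T ⧸ Subgroup.center T) = 16 := hZidx
  -- lower bound
  have hker := ker_mu h.cl2 h.sq x
  have h1 : (fixMod x).index = Nat.card (mu h.cl2 x).range := by
    rw [← hker]; exact Subgroup.index_ker _
  have h2 : Nat.card (mu h.cl2 x).range
      ≤ Nat.card ((fixMod x).map (QuotientGroup.mk' (Subgroup.center T))) :=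
    Subgroup.card_le_of_le (range_mu_le h.cl2 x h.x2)
  have h3 : ((fixMod x).map (QuotientGroup.mk' (Subgroup.center T))).index = (fixMod x).index := by
    apply Subgroup.index_map_eq _ (QuotientGroup.mk'_surjective _)
    rw [QuotientGroup.ker_mk']
    exact center_le_fixMod x
  have h4 := ((fixMod x).map (QuotientGroup.mk' (Subgroup.center T))).card_mul_index
  rw [h3, hcardQ] at h4
  -- upper bound
  have h5 : ((fixMod x).map (ρ : T →* T)).index = (fixMod x).index :=
    Subgroup.index_map_equiv _ ρ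
  have h6 := Subgroup.index_inf_le (H := fixMod x) (K := (fixMod x).map (ρ : T →* T))
  rw [h5] at h6
  have h7 : (Subgroup.center T).index ∣ (fixMod x ⊓ (fixMod x).map (ρ : T →* T)).index :=
    Subgroup.index_dvd_of_le (inf_map_le h)
  rw [hZidx] at h7
  have h8 : (fixMod x ⊓ (fixMod x).map (ρ : T →* T)).index ≠ 0 := Subgroup.index_ne_zero_of_finite
  have h9 : 16 ≤ (fixMod x ⊓ (fixMod x).map (ρ : T →* T)).index :=
    Nat.le_of_dvd (Nat.pos_of_ne_zero h8) h7
  have h10 := (fixMod x).card_mul_index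
  rw [h.card] at h10
  -- arithmetic
  set i := (fixMod x).index with hi
  set m := Nat.card ((fixMod x).map (QuotientGroup.mk' (Subgroup.center T))) with hm
  have hi4 : i = 4 := by
    have hle : i ≤ 4 := by
      by_contra hcon
      rw [not_le] at hcon
      have : 5 ≤ m := by omega
      nlinarith
    have hge : 4 ≤ i := by
      by_contra hcon
      rw [not_le] at hcon
      have : i * i ≤ 3 * 3 := Nat.mul_le_mul (by omega) (by omega)
      omega
    omega
  rw [hi4] at h10
  omega

end Cfsg.Agent.Lib.Helper41_S3157_D16
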