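import Mathlib
import Cfsg.Agent.Lib.Helper40_S8Defs
import Cfsg.Agent.Lib.Helper40_S9Defs

/-!
# S3590 packages PKH: constructors for `HasIsomΩ` on orthogonal sums (helper41)

Transport of `HasIsomΩ` along an isometry of spaces, the swap of an orthogonal sum, and the three
constructions `S ⊕ 1` (odd order), `(S ⊕ U)²` (`U` of order 4) and `S ⊕ U` (`U` of order 4 with
`U - 1` of even rank) of isometries in the kernel of the Dickson invariant.
-/

set_option autoImplicit false
open Module Cfsg.Agent.Lib.Helper40_S8Defs Cfsg.Agent.Lib.Helper40_S9Defs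
  Cfsg.Agent.Lib.Helper40_QuadIso

namespace Cfsg.Agent.Lib.Helper41_S3590_PKH

variable {F : Type*} [Field F] {V V' V₁ V₂ : Type*} [AddCommGroup V] [Module F V]
  [AddCommGroup V'] [Module F V'] [AddCommGroup V₁] [Module F V₁] [AddCommGroup V₂] [Module F V₂]

/-! ### generalities -/

/-- the product of two endomorphisms, as a monoid homomorphism -/
def pm : Module.End F V₁ × Module.End F V₂ →* Module.End F (V₁ × V₂) where
  toFun p := LinearMap.prodMap p.1 p.2
  map_one' := LinearMap.prodMap_one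
  map_mul' p q := (LinearMap.prodMap_mul q.1 p.1 q.2 p.2).symm

theorem pm_apply (A : Module.End F V₁) (B : Module.End F V₂) :
    pm (A, B) = LinearMap.prodMap A B := rfl

theorem pm_injective : Function.Injective (pm : Module.End F V₁ × Module.End F V₂ →* _) := by
  rintro ⟨A, B⟩ ⟨A', B'⟩ h
  have h' : LinearMap.prodMap A B = LinearMap.prodMap A' B' := h
  apply Prod.ext
  · apply LinearMap.ext
    intro x
    have := congrArg (fun f : Module.End F (V₁ × V₂) => (f (x, 0)).1) h'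
    simpa using this
  · apply LinearMap.ext
    intro x
    have := congrArg (fun f : Module.End F (V₁ × V₂) => (f (0, x)).2) h'
    simpa using this

theorem orderOf_prodMap (A : Module.End F V₁) (B : Module.End F V₂) :
    orderOf (LinearMap.prodMap A B : Module.End F (V₁ × V₂)) =
      Nat.lcm (orderOf A) (orderOf B) := by
  rw [← pm_apply, orderOf_injective pm pm_injective, Prod.orderOf]

theorem prodMap_pow (A : Module.End F V₁) (B : Module.End F V₂) (k : ℕ) :
    (LinearMap.prodMap A B : Module.End F (V₁ × V₂)) ^ k = LinearMap.prodMap (A ^ k) (B ^ k) := by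
  rw [← pm_apply, ← map_pow]
  rfl

theorem isom_pow {Q : QuadraticForm F V} {T : Module.End F V} (hT : ∀ v, Q (T v) = Q v)
    (k : ℕ) : ∀ v, Q ((T ^ k) v) = Q v := by
  induction k with
  | zero => intro v; rfl
  | succ k ih =>
    intro v
    rw [pow_succ, Module.End.mul_apply, ih, hT]

theorem isom_prodMap {Q₁ : QuadraticForm F V₁} {Q₂ : QuadraticForm F V₂}
    {A : Module.End F V₁} {B : Module.End F V₂} (hA : ∀ v, Q₁ (A v) = Q₁ v)
    (hB : ∀ v, Q₂ (B v) = Q₂ v) :
    ∀ v, (Q₁.prod Q₂) ((LinearMap.prodMap A B : Module.End F (V₁ × V₂)) v) = (Q₁.prod Q₂) v := by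
  intro v
  rw [QuadraticMap.prod_apply, QuadraticMap.prod_apply, LinearMap.prodMap_apply, hA, hB]

theorem finrank_range_one_sub_one :
    Even (finrank F (LinearMap.range ((1 : Module.End F V) - 1))) := by
  rw [sub_self, LinearMap.range_zero, finrank_bot]
  exact Even.zero

/-- the sum of the powers of a product map on a vector of the second summand -/
theorem sum_pow_prodMap_inr (A : Module.End F V₁) (B : Module.End F V₂) (n : ℕ) (e : V₂) :
    (∑ i ∈ Finset.range n, (LinearMap.prodMap A B : Module.End F (V₁ × V₂)) ^ i) (0, e) =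
      (0, (∑ i ∈ Finset.range n, B ^ i) e) := by
  rw [LinearMap.sum_apply, LinearMap.sum_apply]
  apply Prod.ext
  · rw [Prod.fst_sum]
    apply Finset.sum_eq_zero
    intro i _
    rw [prodMap_pow, LinearMap.prodMap_apply]
    exact map_zero _
  · rw [Prod.snd_sum]
    apply Finset.sum_congr rfl
    intro i _
    rw [prodMap_pow, LinearMap.prodMap_apply]

/-- the sum of the powers over several periods -/
theorem sum_pow_period (B : Module.End F V) (p : ℕ) (hB : B ^ p = 1) (L : ℕ) :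
    ∑ i ∈ Finset.range (p * L), B ^ i = L • ∑ i ∈ Finset.range p, B ^ i := by
  induction L with
  | zero => rw [Nat.mul_zero, Finset.range_zero, Finset.sum_empty, zero_smul]
  | succ L ih =>
    rw [Nat.mul_succ, Finset.sum_range_add, ih, succ_nsmul]
    congr 1
    apply Finset.sum_congr rfl
    intro x _
    rw [pow_add, pow_mul, hB, one_pow, one_mul]

theorem odd_cast [CharP F 2] {L : ℕ} (hL : Odd L) : (L : F) = 1 := by
  obtain ⟨k, rfl⟩ := hL
  have h2 : ((2 : ℕ) : F) = 0 := CharP.cast_eq_zero F 2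
  push_cast at h2 ⊢
  rw [h2, zero_mul, zero_add]

theorem odd_nsmul [CharP F 2] {L : ℕ} (hL : Odd L) (v : V) : L • v = v := by
  rw [← Nat.cast_smul_eq_nsmul F, odd_cast hL, one_smul]

theorem add_self_eq_zero' [CharP F 2] (v : V) : v + v = 0 := by
  have h : (2 : ℕ) • v = 0 := by
    rw [← Nat.cast_smul_eq_nsmul F, CharP.cast_eq_zero F 2, zero_smul]
  rw [two_nsmul] at h
  exact h

/-! ### the packages -/

theorem PKH_iso {Q : QuadraticForm F V} {Q' : QuadraticForm F V'} (hi : Iso Q Q') {n : ℕ}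
    (h : HasIsomΩ Q n) : HasIsomΩ Q' n := by
  obtain ⟨φ, hφ⟩ := hi
  obtain ⟨T, hT, hord, ⟨T₁, T₂, X, hT₁, hT₂, hX, hTT, hodd, hev⟩, v, hv⟩ := h
  have hconj : ∀ A : Module.End F V, ∀ w, φ.conjRingEquiv A w = φ (A (φ.symm w)) :=
    fun _ _ => rfl
  have hisom : ∀ A : Module.End F V, (∀ v, Q (A v) = Q v) →
      ∀ w, Q' (φ.conjRingEquiv A w) = Q' w := by
    intro A hA w
    rw [hconj, hφ, hA, ← hφ, φ.apply_symm_apply]
  have hordc : ∀ A : Module.End F V, orderOf (φ.conjRingEquiv A) = orderOf A := fun A =>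
    MulEquiv.orderOf_eq φ.conjRingEquiv.toMulEquiv A
  refine ⟨φ.conjRingEquiv T, hisom T hT, by rw [hordc, hord],
    ⟨φ.conjRingEquiv T₁, φ.conjRingEquiv T₂, φ.conjRingEquiv X, hisom T₁ hT₁, hisom T₂ hT₂,
      hisom X hX, ?_, by rw [hordc]; exact hodd, ?_⟩, φ v, ?_⟩
  · rw [hTT, map_mul, map_mul, map_pow]
  · have e : φ.conjRingEquiv T₂ - 1 = φ.conjRingEquiv (T₂ - 1) := by
      rw [map_sub, map_one]
    have hr : LinearMap.range (φ.conjRingEquiv (T₂ - 1)) =
        (LinearMap.range (T₂ - 1)).map (φ : V →ₗ[F] V') := by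
      ext w
      constructor
      · rintro ⟨x, rfl⟩
        exact ⟨(T₂ - 1) (φ.symm x), ⟨φ.symm x, rfl⟩, rfl⟩
      · rintro ⟨y, ⟨x, rfl⟩, rfl⟩
        refine ⟨φ x, ?_⟩
        rw [hconj, φ.symm_apply_apply]
        rfl
    rw [e, hr, LinearEquiv.finrank_map_eq]
    exact hev
  · have e : ∑ i ∈ Finset.range n, φ.conjRingEquiv T ^ i =
        φ.conjRingEquiv (∑ i ∈ Finset.range n, T ^ i) := by
      rw [map_sum]
      apply Finset.sum_congr rfl
      intro i _
      rw [map_pow]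
    rw [e, hconj, φ.symm_apply_apply]
    intro h0
    exact hv (φ.injective (by rw [h0, map_zero]))

theorem PKH_swap (Q₁ : QuadraticForm F V₁) (Q₂ : QuadraticForm F V₂) :
    Iso (Q₁.prod Q₂) (Q₂.prod Q₁) := by
  refine ⟨LinearEquiv.prodComm F V₁ V₂, fun v => ?_⟩
  rw [QuadraticMap.prod_apply, QuadraticMap.prod_apply]
  exact add_comm _ _

theorem PKH_A [CharP F 2] [Nontrivial V₂] (Q₁ : QuadraticForm F V₁) (Q₂ : QuadraticForm F V₂)
    {n : ℕ} (hn : Odd n) (h : HasIsom Q₁ n) : HasIsomΩ (Q₁.prod Q₂) n := by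
  obtain ⟨S, hS, hord⟩ := h
  obtain ⟨v₂, hv₂⟩ := exists_ne (0 : V₂)
  have h1 : ∀ v, Q₂ ((1 : Module.End F V₂) v) = Q₂ v := fun _ => rfl
  have hordT : orderOf (LinearMap.prodMap S 1 : Module.End F (V₁ × V₂)) = n := by
    rw [orderOf_prodMap, orderOf_one, Nat.lcm_one_right, hord]
  refine ⟨LinearMap.prodMap S 1, isom_prodMap hS h1, hordT,
    ⟨LinearMap.prodMap S 1, 1, 1, isom_prodMap hS h1, fun _ => rfl, fun _ => rfl, ?_, ?_,
      finrank_range_one_sub_one⟩, (0, v₂), ?_⟩
  · rw [one_pow, mul_one, mul_one]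
  · rw [hordT]
    exact hn
  · rw [sum_pow_prodMap_inr]
    have e : (∑ i ∈ Finset.range n, (1 : Module.End F V₂) ^ i) v₂ = v₂ := by
      simp only [one_pow, Finset.sum_const, Finset.card_range]
      rw [LinearMap.smul_apply, Module.End.one_apply, odd_nsmul (F := F) hn]
    rw [e]
    intro h0
    exact hv₂ (congrArg Prod.snd h0)

theorem PKH_B [CharP F 2] (Q₁ : QuadraticForm F V₁) (Q₂ : QuadraticForm F V₂) {L : ℕ}
    (hL : Odd L) (h₁ : HasIsom Q₁ L) (h₂ : HasIsom Q₂ 4) : HasIsomΩ (Q₁.prod Q₂) (2 * L) := by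
  obtain ⟨S, hS, hordS⟩ := h₁
  obtain ⟨U, hU, hordU⟩ := h₂
  have hLpos : 0 < L := hL.pos
  have hcop : Nat.Coprime L 2 := (Nat.coprime_comm.mp (Nat.coprime_two_left.mpr hL))
  have hordS2 : orderOf (S ^ 2) = L := by
    rw [orderOf_pow' S (by norm_num), hordS, hcop.gcd_eq_one, Nat.div_one]
  have hordU2 : orderOf (U ^ 2) = 2 := by
    rw [orderOf_pow' U (by norm_num), hordU]
    decide
  have hU4 : U ^ 4 = 1 := by rw [← hordU]; exact pow_orderOf_eq_one U
  have hU22 : (U ^ 2) ^ 2 = 1 := by rw [← pow_mul]; exact hU4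
  have hU2ne : U ^ 2 ≠ 1 := by
    intro h
    have := orderOf_dvd_of_pow_eq_one h
    rw [hordU] at this
    omega
  obtain ⟨e, he⟩ : ∃ e, (U ^ 2) e ≠ e := by
    by_contra hcon
    apply hU2ne
    apply LinearMap.ext
    intro x
    by_contra hx
    exact hcon ⟨x, hx⟩
  have hXT : (LinearMap.prodMap S U : Module.End F (V₁ × V₂)) ^ 2 =
      LinearMap.prodMap (S ^ 2) (U ^ 2) := prodMap_pow S U 2
  have hordT : orderOf (LinearMap.prodMap (S ^ 2) (U ^ 2) : Module.End F (V₁ × V₂)) = 2 * L := by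
    rw [orderOf_prodMap, hordS2, hordU2, hcop.lcm_eq_mul, mul_comm]
  refine ⟨LinearMap.prodMap (S ^ 2) (U ^ 2), isom_prodMap (isom_pow hS 2) (isom_pow hU 2), hordT,
    ⟨1, 1, LinearMap.prodMap S U, fun _ => rfl, fun _ => rfl, isom_prodMap hS hU, ?_, ?_,
      finrank_range_one_sub_one⟩, (0, e), ?_⟩
  · rw [one_mul, one_mul, hXT]
  · rw [orderOf_one]
    exact odd_one
  · rw [sum_pow_prodMap_inr, sum_pow_period (U ^ 2) 2 hU22 L, LinearMap.smul_apply,
      odd_nsmul (F := F) hL, Finset.sum_range_succ, Finset.sum_range_one, pow_zero, pow_one,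
      LinearMap.add_apply, Module.End.one_apply]
    intro h0
    have h1 : e + (U ^ 2) e = 0 := congrArg Prod.snd h0
    apply he
    have h2 := add_self_eq_zero' (F := F) e
    have : (U ^ 2) e = e := by
      have h3 : e + (U ^ 2) e = e + e := by rw [h1, h2]
      exact add_left_cancel h3
    exact this

theorem PKH_C [CharP F 2] (Q₁ : QuadraticForm F V₁) (Q₂ : QuadraticForm F V₂) {L : ℕ}
    (hL : Odd L) (h₁ : HasIsom Q₁ L) (U : Module.End F V₂) (hU : ∀ v, Q₂ (U v) = Q₂ v)
    (hord : orderOf U = 4) (hev : Even (finrank F (LinearMap.range (U - 1)))) (e : V₂)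
    (he : (∑ i ∈ Finset.range 4, U ^ i) e ≠ 0) : HasIsomΩ (Q₁.prod Q₂) (4 * L) := by
  obtain ⟨S, hS, hordS⟩ := h₁
  have hcop : Nat.Coprime L 4 := by
    have : Nat.Coprime L (2 ^ 2) := Nat.Coprime.pow_right 2
      (Nat.coprime_comm.mp (Nat.coprime_two_left.mpr hL))
    exact this
  have hU4 : U ^ 4 = 1 := by rw [← hord]; exact pow_orderOf_eq_one U
  have h1₁ : ∀ v, Q₁ ((1 : Module.End F V₁) v) = Q₁ v := fun _ => rfl
  have h1₂ : ∀ v, Q₂ ((1 : Module.End F V₂) v) = Q₂ v := fun _ => rfl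
  have hordT : orderOf (LinearMap.prodMap S U : Module.End F (V₁ × V₂)) = 4 * L := by
    rw [orderOf_prodMap, hordS, hord, hcop.lcm_eq_mul, mul_comm]
  refine ⟨LinearMap.prodMap S U, isom_prodMap hS hU, hordT,
    ⟨LinearMap.prodMap S 1, LinearMap.prodMap 1 U, 1, isom_prodMap hS h1₂, isom_prodMap h1₁ hU,
      fun _ => rfl, ?_, ?_, ?_⟩, (0, e), ?_⟩
  · rw [one_pow, mul_one, LinearMap.prodMap_mul, mul_one, one_mul]
  · rw [orderOf_prodMap, orderOf_one, Nat.lcm_one_right, hordS]
    exact hL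
  · have hr : LinearMap.range ((LinearMap.prodMap 1 U : Module.End F (V₁ × V₂)) - 1) =
        (LinearMap.range (U - 1)).map (LinearMap.inr F V₁ V₂) := by
      ext w
      constructor
      · rintro ⟨x, rfl⟩
        refine ⟨(U - 1) x.2, ⟨x.2, rfl⟩, ?_⟩
        apply Prod.ext
        · simp
        · simp
      · rintro ⟨y, ⟨x, rfl⟩, rfl⟩
        refine ⟨(0, x), ?_⟩
        apply Prod.ext
        · simp
        · simp
    rw [hr, ← LinearEquiv.finrank_eq (Submodule.equivMapOfInjective (LinearMap.inr F V₁ V₂)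
      LinearMap.inr_injective (LinearMap.range (U - 1)))]
    exact hev
  · rw [sum_pow_prodMap_inr, sum_pow_period U 4 hU4 L, LinearMap.smul_apply, odd_nsmul (F := F) hL]
    intro h0
    exact he (congrArg Prod.snd h0)

end Cfsg.Agent.Lib.Helper41_S3590_PKH
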