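import Mathlib

/-!
# S4427 package PKT: traces of nested idempotents in a representation (helper41)

For idempotents `e`, `f` of the group algebra with `e * f = f`, the traces of `ρ f` and `ρ e` are
natural numbers `d ≤ k` (the dimensions of the ranges).
-/

set_option autoImplicit false
open scoped Classical

namespace Cfsg.Agent.Lib.Helper41_S4427_PKT

/-- the trace of an idempotent endomorphism is the dimension of its range -/
theorem trace_of_idempotent {V : Type*} [AddCommGroup V] [Module ℂ V] [FiniteDimensional ℂ V]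
    (E : Module.End ℂ V) (hE : IsIdempotentElem E) :
    LinearMap.trace ℂ V E = (Module.finrank ℂ (LinearMap.range E) : ℂ) :=
  (LinearMap.IsIdempotentElem.isProj_range E hE).trace

theorem PKT {G : Type*} [Group G] [Fintype G] {V : Type*} [AddCommGroup V] [Module ℂ V]
    [FiniteDimensional ℂ V] (ρ : Representation ℂ G V) (e f : MonoidAlgebra ℂ G)
    (he : IsIdempotentElem e) (hf : IsIdempotentElem f) (hef : e * f = f) (hfe : f * e = f) :
    ∃ d k : ℕ, d ≤ k ∧ LinearMap.trace ℂ V (ρ.asAlgebraHom f) = (d : ℂ) ∧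
      LinearMap.trace ℂ V (ρ.asAlgebraHom e) = (k : ℂ) := by
  have hE : IsIdempotentElem (ρ.asAlgebraHom e) := he.map ρ.asAlgebraHom
  have hF : IsIdempotentElem (ρ.asAlgebraHom f) := hf.map ρ.asAlgebraHom
  have hEF : ρ.asAlgebraHom e * ρ.asAlgebraHom f = ρ.asAlgebraHom f := by
    rw [← map_mul, hef]
  refine ⟨Module.finrank ℂ (LinearMap.range (ρ.asAlgebraHom f)),
    Module.finrank ℂ (LinearMap.range (ρ.asAlgebraHom e)), ?_, trace_of_idempotent _ hF,
    trace_of_idempotent _ hE⟩
  apply Submodule.finrank_mono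
  rintro _ ⟨v, rfl⟩
  refine ⟨ρ.asAlgebraHom f v, ?_⟩
  rw [← Module.End.mul_apply, hEF]

end Cfsg.Agent.Lib.Helper41_S4427_PKT
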