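import Mathlib
import Cfsg.Prelude.Def_Classical
import Cfsg.Agent.Lib.Helper13_Herm
import Cfsg.Agent.Lib.Helper5_SUCenter
import Cfsg.Agent.Lib.Helper44_PSLnUT
import Cfsg.Agent.Lib.Helper32_PGroup
import Cfsg.Agent.Lib.Helper88_PSLnFusDefs
import Cfsg.Agent.Lib.Helper88_PSUFusDefs
import Cfsg.Agent.Lib.Helper63_S5172_A1
import Cfsg.Agent.Lib.Helper26_S5172_A2

/-!
# S5172 package B1 (helper41): the centre of `GJ n F q` consists of scalar matrices.
-/

set_option autoImplicit false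
set_option linter.unusedSectionVars false
set_option linter.unusedVariables false

namespace Cfsg.Agent.Lib.Helper41_S5172_B1

open Matrix Cfsg.Agent.Lib.Helper44_PSLnUT Cfsg.Agent.Lib.Helper88_PSLnFus
  Cfsg.Agent.Lib.Helper88_PSUFus

variable {F : Type*} [Field F] [Fintype F] {q : ℕ}

/-- an element not fixed by `x ↦ x ^ q` -/
theorem exists_pow_q_ne (hF : Fintype.card F = q ^ 2) : ∃ ζ : F, ζ ^ q ≠ ζ := by
  obtain ⟨l, hl, hl2⟩ := Cfsg.Agent.Lib.Helper5_SUCenter.exists_norm_one_sq_ne_one hF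
  refine ⟨l, ?_⟩
  intro h
  apply hl2
  rw [h] at hl
  exact hl

/-- the trace takes the value `-1` -/
theorem exists_trace_neg_one (hF : Fintype.card F = q ^ 2) : ∃ b : F, b + b ^ q + 1 = 0 := by
  obtain ⟨ζ, hζ⟩ := exists_pow_q_ne hF
  have hqq : (ζ ^ q) ^ q = ζ := Cfsg.Agent.Lib.Helper13_Herm.pow_q_pow_q hF ζ
  by_cases h : ζ + ζ ^ q = 0
  · have h2 : (2 : F) ≠ 0 := by
      intro h2
      apply hζ
      have : ζ + ζ = 0 := by linear_combination ζ * h2
      linear_combination h - this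
    have h2q : (2 : F) ^ q = 2 := by
      have := Cfsg.Agent.Lib.Helper13_Herm.add_pow_q hF (1 : F) 1
      rw [one_pow] at this
      have e : (1 : F) + 1 = 2 := by norm_num
      rw [e] at this
      exact this
    refine ⟨-(1 / 2), ?_⟩
    rw [Cfsg.Agent.Lib.Helper13_Herm.neg_pow_q hF, div_pow, one_pow, h2q]
    field_simp
    ring
  · refine ⟨-ζ / (ζ + ζ ^ q), ?_⟩
    rw [div_pow, Cfsg.Agent.Lib.Helper13_Herm.neg_pow_q hF, Cfsg.Agent.Lib.Helper13_Herm.add_pow_q hF,
      hqq]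
    have h' : ζ ^ q + ζ ≠ 0 := by rwa [add_comm]
    field_simp
    ring

/-- consequences of commuting with an elementary matrix -/
theorem entries_of_comm_single {n : ℕ} {Z : Matrix (Fin n) (Fin n) F} {i j : Fin n}
    (h : Matrix.single i j (1 : F) * Z = Z * Matrix.single i j 1) :
    (∀ k, k ≠ i → Z k i = 0) ∧ (∀ l, l ≠ j → Z j l = 0) ∧ Z i i = Z j j := by
  refine ⟨?_, ?_, ?_⟩
  · intro k hk
    have := congrFun (congrFun h k) j
    rw [Matrix.single_mul_apply_of_ne _ _ _ _ _ hk, Matrix.mul_single_apply_same, mul_one] at this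
    exact this.symm
  · intro l hl
    have := congrFun (congrFun h i) l
    rw [Matrix.single_mul_apply_same, Matrix.mul_single_apply_of_ne _ _ _ _ _ hl, one_mul] at this
    exact this
  · have := congrFun (congrFun h i) j
    rw [Matrix.single_mul_apply_same, Matrix.mul_single_apply_same, one_mul, mul_one] at this
    exact this.symm

theorem mid_unique {n : ℕ} {k l : Fin n} (hk : Fin.rev k = k) (hl : Fin.rev l = l) : k = l := by
  apply Fin.ext
  have h1 := congrArg Fin.val hk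
  have h2 := congrArg Fin.val hl
  rw [Fin.val_rev] at h1 h2
  omega

/-- a central element commutes with the elementary matrices `E_ij`, `i ≠ j` not the middle index -/
theorem comm_single_of_central (hF : Fintype.card F = q ^ 2) {n : ℕ}
    (z : SpecialLinearGroup (Fin n) F) (hc : ∀ g ∈ GJ n F q, g * z = z * g)
    {i j : Fin n} (hij : i ≠ j) (hi : i ≠ Fin.rev i) (hj : j ≠ Fin.rev j) :
    Matrix.single i j (1 : F) * z.1 = z.1 * Matrix.single i j 1 := by
  obtain ⟨ζ, hζ⟩ := exists_pow_q_ne hF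
  obtain ⟨P, hP⟩ : ∃ P : Matrix (Fin n) (Fin n) F,
      P = Matrix.single i j (1 : F) * z.1 - z.1 * Matrix.single i j 1 := ⟨_, rfl⟩
  obtain ⟨R, hR⟩ : ∃ R : Matrix (Fin n) (Fin n) F,
      R = Matrix.single (Fin.rev j) (Fin.rev i) (1 : F) * z.1 -
        z.1 * Matrix.single (Fin.rev j) (Fin.rev i) 1 := ⟨_, rfl⟩
  have key : ∀ a : F, a • P - (a ^ q) • R = 0 := by
    intro a
    have h1 := congrArg Subtype.val (hc (xs q hij a) (Cfsg.Agent.Lib.Helper63_S5172_A1.A1_mem hF hij hi hj a))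
    have h2 : (xs q hij a).1 * z.1 = z.1 * (xs q hij a).1 := h1
    rw [Cfsg.Agent.Lib.Helper63_S5172_A1.A1_coe hij hj a] at h2
    have e1 : Matrix.single i j a = a • Matrix.single i j (1 : F) := by
      rw [Matrix.smul_single, smul_eq_mul, mul_one]
    have e2 : Matrix.single (Fin.rev j) (Fin.rev i) (a ^ q) =
        (a ^ q) • Matrix.single (Fin.rev j) (Fin.rev i) (1 : F) := by
      rw [Matrix.smul_single, smul_eq_mul, mul_one]
    rw [e1, e2] at h2
    rw [hP, hR]
    simp only [add_mul, sub_mul, mul_add, mul_sub, one_mul, mul_one, Matrix.smul_mul,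
      Matrix.mul_smul] at h2
    rw [smul_sub, smul_sub]
    have h3 := sub_eq_zero.mpr h2
    rw [← h3]
    abel
  have k1 := key 1
  rw [one_pow, one_smul, one_smul] at k1
  have hPR : P = R := sub_eq_zero.mp k1
  have k2 := key ζ
  rw [← hPR, ← sub_smul] at k2
  have hP0 : P = 0 := by
    rcases smul_eq_zero.mp k2 with h | h
    · exact absurd (sub_eq_zero.mp h).symm hζ
    · exact h
  rw [hP] at hP0
  exact sub_eq_zero.mp hP0

theorem B1 (hF : Fintype.card F = q ^ 2) (n : ℕ) (hn : 4 ≤ n) (z : SpecialLinearGroup (Fin n) F)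
    (hz : z ∈ GJ n F q) (hc : ∀ g ∈ GJ n F q, g * z = z * g) :
    ∃ r : F, z.1 = r • (1 : Matrix (Fin n) (Fin n) F) := by
  obtain ⟨Z, hZ⟩ : ∃ Z : Matrix (Fin n) (Fin n) F, Z = z.1 := ⟨_, rfl⟩
  have hcomm : ∀ {i j : Fin n}, i ≠ j → i ≠ Fin.rev i → j ≠ Fin.rev j →
      Matrix.single i j (1 : F) * Z = Z * Matrix.single i j 1 := by
    intro i j hij hi hj
    rw [hZ]
    exact comm_single_of_central hF z hc hij hi hj
  -- rows and columns through a non-middle index
  have hcol : ∀ i : Fin n, i ≠ Fin.rev i → ∀ k, k ≠ i → Z k i = 0 := by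
    intro i hi k hk
    have hi' : Fin.rev i ≠ Fin.rev (Fin.rev i) := by rw [Fin.rev_rev]; exact hi.symm
    exact (entries_of_comm_single (hcomm hi hi hi')).1 k hk
  have hrow : ∀ i : Fin n, i ≠ Fin.rev i → ∀ l, l ≠ i → Z i l = 0 := by
    intro i hi l hl
    have hi' : Fin.rev i ≠ Fin.rev (Fin.rev i) := by rw [Fin.rev_rev]; exact hi.symm
    exact (entries_of_comm_single (hcomm hi.symm hi' hi)).2.1 l hl
  have hoff : ∀ k l : Fin n, k ≠ l → Z k l = 0 := by
    intro k l hkl
    by_cases hl : l = Fin.rev l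
    · by_cases hk : k = Fin.rev k
      · exact absurd (mid_unique hk.symm hl.symm) hkl
      · exact hrow k hk l hkl.symm
    · exact hcol l hl k hkl
  have hdiag : ∀ i j : Fin n, i ≠ Fin.rev i → j ≠ Fin.rev j → Z i i = Z j j := by
    intro i j hi hj
    by_cases hij : i = j
    · rw [hij]
    · exact (entries_of_comm_single (hcomm hij hi hj)).2.2
  -- the index `0`
  have hn0 : 0 < n := by omega
  obtain ⟨i₀, hi₀⟩ : ∃ i₀ : Fin n, i₀ = ⟨0, hn0⟩ := ⟨_, rfl⟩
  have hi₀v : i₀.val = 0 := by rw [hi₀]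
  have hi₀' : i₀ ≠ Fin.rev i₀ := by
    intro h
    have := congrArg Fin.val h
    rw [Fin.val_rev] at this
    omega
  have hmid : ∀ m : Fin n, Fin.rev m = m → Z m m = Z i₀ i₀ := by
    intro m hm
    have him : i₀ ≠ m := by
      intro h
      apply hi₀'
      rw [h, hm]
    obtain ⟨b, hb⟩ := exists_trace_neg_one hF
    have hab : b + b ^ q + (1 : F) ^ (q + 1) = 0 := by rw [one_pow]; exact hb
    have h1 := congrArg Subtype.val (hc (ym q him hm 1 b) (Cfsg.Agent.Lib.Helper26_S5172_A2.A2_mem hF him hm 1 b hab))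
    have h2 : (ym q him hm 1 b).1 * z.1 = z.1 * (ym q him hm 1 b).1 := h1
    rw [Cfsg.Agent.Lib.Helper26_S5172_A2.A2_coe him hm 1 b, one_pow, ← hZ] at h2
    have h3 := congrFun (congrFun h2 i₀) m
    simp only [add_mul, sub_mul, mul_add, mul_sub, one_mul, mul_one, Matrix.add_apply,
      Matrix.sub_apply] at h3
    have hmi : m ≠ Fin.rev i₀ := ne_rev_of_mid him hm
    rw [Matrix.single_mul_apply_same, Matrix.single_mul_apply_of_ne _ _ _ _ _ him,
      Matrix.single_mul_apply_same, Matrix.mul_single_apply_same,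
      Matrix.mul_single_apply_of_ne _ _ _ _ _ hmi, Matrix.mul_single_apply_of_ne _ _ _ _ _ hmi,
      hoff (Fin.rev i₀) m hmi.symm] at h3
    linear_combination h3
  refine ⟨Z i₀ i₀, ?_⟩
  rw [← hZ]
  ext k l
  rw [Matrix.smul_apply, Matrix.one_apply, smul_eq_mul]
  by_cases hkl : k = l
  · rw [if_pos hkl, mul_one, ← hkl]
    by_cases hk : Fin.rev k = k
    · exact hmid k hk
    · exact hdiag k i₀ (fun h => hk h.symm) hi₀'
  · rw [if_neg hkl, mul_zero]
    exact hoff k l hkl

end Cfsg.Agent.Lib.Helper41_S5172_B1
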