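import Mathlib
import Cfsg.Prelude.Def_Classical
import Cfsg.Agent.Lib.Helper13_Herm
import Cfsg.Agent.Lib.Helper5_SUCenter
import Cfsg.Agent.Lib.Helper44_PSLnUT
import Cfsg.Agent.Lib.Helper32_PGroup
import Cfsg.Agent.Lib.Helper88_PSLnFusDefs
import Cfsg.Agent.Lib.Helper88_PSUFusDefs
import Cfsg.Agent.Lib.Helper63_S5172_A1
import Cfsg.Agent.Lib.Helper41_S5172_B1
import Cfsg.Agent.Lib.Helper26_S5172_A2

/-!
# S5172 package D6 (helper41): `UJ n F q` is generated by its root elements.

Columns are peeled from the right by left multiplication with root elements.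
-/

set_option autoImplicit false
set_option linter.unusedSectionVars false
set_option linter.unusedVariables false

namespace Cfsg.Agent.Lib.Helper41_S5172_D6

open Matrix Cfsg.Agent.Lib.Helper44_PSLnUT Cfsg.Agent.Lib.Helper88_PSLnFus
  Cfsg.Agent.Lib.Helper88_PSUFus

variable {F : Type*} [Field F] [Fintype F] {q : ℕ}

/-- the last `k` columns of `M` are columns of the identity -/
def ColId {n : ℕ} (k : ℕ) (M : Matrix (Fin n) (Fin n) F) : Prop :=
  ∀ l : Fin n, l.val < k → ∀ a : Fin n, M a (Fin.rev l) = if a = Fin.rev l then 1 else 0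

theorem colId_mul {n : ℕ} {k : ℕ} {X M : Matrix (Fin n) (Fin n) F} (hX : ColId k X)
    (hM : ColId k M) : ColId k (X * M) := by
  intro l hl a
  rw [Matrix.mul_apply, Finset.sum_eq_single (Fin.rev l)]
  · rw [hM l hl (Fin.rev l), if_pos rfl, mul_one]
    exact hX l hl a
  · intro b _ hb
    rw [hM l hl b, if_neg hb, mul_zero]
  · intro h
    exact absurd (Finset.mem_univ _) h

theorem colId_mono {n : ℕ} {k k' : ℕ} (h : k' ≤ k) {M : Matrix (Fin n) (Fin n) F}
    (hM : ColId k M) : ColId k' M := fun l hl a => hM l (lt_of_lt_of_le hl h) a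

/-- unitarity: an identity column `rev l` forces the identity row `l` -/
theorem row_of_colId (hF : Fintype.card F = q ^ 2) {n : ℕ} {k : ℕ}
    {u : SpecialLinearGroup (Fin n) F} (hu : u ∈ GJ n F q) (hc : ColId k u.1)
    (l : Fin n) (hl : l.val < k) (b : Fin n) : u.1 l b = if l = b then 1 else 0 := by
  have h := (Cfsg.Agent.Lib.Helper63_S5172_A1.mem_GJ_iff_entries hF u).1 hu b (Fin.rev l)
  rw [Fin.rev_rev, Finset.sum_eq_single l] at h
  · rw [hc l hl (Fin.rev l), if_pos rfl, one_pow, mul_one] at h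
    rw [h]
    by_cases hbl : b = l
    · rw [if_pos hbl, if_pos hbl.symm]
    · rw [if_neg hbl, if_neg (fun e => hbl e.symm)]
  · intro t _ ht
    rw [hc l hl (Fin.rev t), if_neg (fun e => ht (Fin.rev_injective e)), zero_pow, mul_zero]
    have := Cfsg.Agent.Lib.Helper13_Herm.two_le_q hF
    omega
  · intro h'
    exact absurd (Finset.mem_univ _) h'

/-- base case: all of the last `n / 2` columns are identity columns -/
theorem eq_one_of_colId (hF : Fintype.card F = q ^ 2) {n : ℕ}
    {u : SpecialLinearGroup (Fin n) F} (hu : u ∈ UJ n F q) (hc : ColId (n / 2) u.1) : u = 1 := by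
  obtain ⟨hG, hT⟩ := mem_UJ.1 hu
  obtain ⟨hlow, hdiag⟩ := mem_UT.1 hT
  apply Subtype.ext
  ext a b
  show u.1 a b = (1 : Matrix (Fin n) (Fin n) F) a b
  rw [Matrix.one_apply]
  by_cases hb : n - n / 2 ≤ b.val
  · -- an identity column
    have hl : (Fin.rev b).val < n / 2 := by
      rw [Fin.val_rev]; have := b.isLt; omega
    have := hc (Fin.rev b) hl a
    rw [Fin.rev_rev] at this
    exact this
  · by_cases ha : a.val < n / 2
    · exact row_of_colId hF hG hc a ha b
    · by_cases hab : a = b
      · rw [hab, if_pos rfl]; exact hdiag b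
      · rw [if_neg hab]
        apply hlow
        rw [Fin.lt_def]
        have h1 : a.val ≠ b.val := fun e => hab (Fin.ext e)
        have := a.isLt
        omega

/-! ### the root elements lie in `UJ` -/

theorem val_rev_lt {n : ℕ} {i j : Fin n} (h : i.val < j.val) : Fin.rev j < Fin.rev i := by
  rw [Fin.lt_def, Fin.val_rev, Fin.val_rev]
  have := j.isLt
  omega

theorem ne_rev_of_lt_half {n : ℕ} {i : Fin n} (h : i.val < n / 2) : i ≠ Fin.rev i := by
  intro e
  have := congrArg Fin.val e
  rw [Fin.val_rev] at this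
  omega

theorem xs_mem_UT {n : ℕ} {i j : Fin n} (hij : i ≠ j) (hlt : i < j) (a : F) :
    xs q hij a ∈ UT n F := by
  unfold xs
  apply (UT n F).mul_mem
  · exact transvection_mem_UT hlt a
  · have h2 : Fin.rev j < Fin.rev i := val_rev_lt (Fin.lt_def.1 hlt)
    exact transvection_mem_UT h2 _

theorem roots_le (hF : Fintype.card F = q ^ 2) {n : ℕ} :
    ∀ x ∈ rootsUJ n F q, x ∈ UJ n F q := by
  intro x hx
  rcases hx with ⟨i, hi, c, hir, hc, rfl⟩ | ⟨i, j, h, a, hij, hi, hj, rfl⟩ |
    ⟨i, j, hij, a, hlt, hj, rfl⟩ | ⟨i, m, him, hm, a, b, hi, hab, rfl⟩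
  · refine mem_UJ.2 ⟨Cfsg.Agent.Lib.Helper63_S5172_A1.A1_long hF hi c hc, ?_⟩
    have hlt : i < Fin.rev i := by
      rw [Fin.lt_def, Fin.val_rev]; omega
    exact transvection_mem_UT hlt c
  · have hi' : i ≠ Fin.rev i := ne_rev_of_lt_half hi
    have hj' : Fin.rev j ≠ Fin.rev (Fin.rev j) := by
      rw [Fin.rev_rev]; exact (ne_rev_of_lt_half hj).symm
    refine mem_UJ.2 ⟨Cfsg.Agent.Lib.Helper63_S5172_A1.A1_mem hF h hi' hj' a, ?_⟩
    apply xs_mem_UT
    rw [Fin.lt_def, Fin.val_rev]; omega
  · have hi' : i ≠ Fin.rev i := ne_rev_of_lt_half (lt_trans hlt hj)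
    have hj' : j ≠ Fin.rev j := ne_rev_of_lt_half hj
    refine mem_UJ.2 ⟨Cfsg.Agent.Lib.Helper63_S5172_A1.A1_mem hF hij hi' hj' a, ?_⟩
    exact xs_mem_UT hij (Fin.lt_def.2 hlt) a
  · refine mem_UJ.2 ⟨Cfsg.Agent.Lib.Helper26_S5172_A2.A2_mem hF him hm a b hab, ?_⟩
    have hmv : m.val = n - 1 - m.val := by
      have := congrArg Fin.val hm
      rw [Fin.val_rev] at this
      omega
    have h1 : i < m := by rw [Fin.lt_def]; have := m.isLt; omega
    have h2 : m < Fin.rev i := by rw [Fin.lt_def, Fin.val_rev]; have := m.isLt; omega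
    have h3 : i < Fin.rev i := by rw [Fin.lt_def, Fin.val_rev]; omega
    unfold ym
    apply (UT n F).mul_mem
    · apply (UT n F).mul_mem
      · exact transvection_mem_UT h1 a
      · exact transvection_mem_UT h2 _
    · exact transvection_mem_UT h3 _

/-! ### left multiplication by a root element -/

/-- left multiplication by a matrix whose rows other than row `kk` are those of `1 + α E_{t c}` -/
theorem shape_mul_apply {n : ℕ} {X M : Matrix (Fin n) (Fin n) F} {kk t c : Fin n} {α : F}
    (hX : ∀ i b, i ≠ kk → X i b = (1 + Matrix.single t c α : Matrix (Fin n) (Fin n) F) i b)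
    (i b : Fin n) (hi : i ≠ kk) :
    (X * M) i b = M i b + if i = t then α * M c b else 0 := by
  rw [Matrix.mul_apply]
  have h1 : ∀ d, X i d * M d b =
      (1 + Matrix.single t c α : Matrix (Fin n) (Fin n) F) i d * M d b := by
    intro d; rw [hX i d hi]
  rw [Finset.sum_congr rfl (fun d _ => h1 d), ← Matrix.mul_apply, add_mul, one_mul,
    Matrix.add_apply]
  congr 1
  by_cases hit : i = t
  · rw [if_pos hit, hit, Matrix.single_mul_apply_same]
  · rw [if_neg hit, Matrix.single_mul_apply_of_ne _ _ _ _ _ hit]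

theorem colId_of_shape {n : ℕ} {k : ℕ} (hk : k < n / 2) {X : Matrix (Fin n) (Fin n) F}
    {kk t : Fin n} {α : F} (hkk : kk.val = k)
    (hX : ∀ i b, i ≠ kk →
      X i b = (1 + Matrix.single t (Fin.rev kk) α : Matrix (Fin n) (Fin n) F) i b)
    (hXk : ∀ l : Fin n, l.val < k → X kk (Fin.rev l) = 0) : ColId k X := by
  intro l hl a
  by_cases ha : a = kk
  · rw [ha, hXk l hl, if_neg]
    intro e
    have := congrArg Fin.val e
    rw [Fin.val_rev] at this
    omega
  · rw [hX a _ ha, Matrix.add_apply, Matrix.one_apply, Matrix.single_apply_of_ne, add_zero]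
    rintro ⟨_, h⟩
    have := congrArg Fin.val (Fin.rev_injective h)
    omega

/-- the trace is onto the fixed field: solve `b + b ^ q + a ^ (q + 1) = 0` -/
theorem exists_par (hF : Fintype.card F = q ^ 2) (a : F) : ∃ b : F, b + b ^ q + a ^ (q + 1) = 0 := by
  obtain ⟨b₀, hb₀⟩ := Cfsg.Agent.Lib.Helper41_S5172_B1.exists_trace_neg_one hF
  have hqq : (a ^ q) ^ q = a := Cfsg.Agent.Lib.Helper13_Herm.pow_q_pow_q hF a
  refine ⟨a ^ (q + 1) * b₀, ?_⟩
  rw [mul_pow, pow_succ, mul_pow, hqq]
  linear_combination (a ^ q * a) * hb₀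

/-- **one entry of the column `rev kk` is killed** by a root element, the other entries of that
column outside row `kk` are unchanged. -/
theorem kill (hF : Fintype.card F = q ^ 2) {n : ℕ} {k : ℕ} (hk : k < n / 2)
    (kk : Fin n) (hkk : kk.val = k) {u : SpecialLinearGroup (Fin n) F} (hu : u ∈ UJ n F q)
    (t : Fin n) (ht1 : k < t.val) (ht2 : t.val < n - 1 - k) :
    ∃ x ∈ rootsUJ n F q, ColId k x.1 ∧ (x * u).1 t (Fin.rev kk) = 0 ∧
      ∀ i : Fin n, i ≠ t → i ≠ kk → (x * u).1 i (Fin.rev kk) = u.1 i (Fin.rev kk) := by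
  obtain ⟨hG, hT⟩ := mem_UJ.1 hu
  obtain ⟨hlow, hdiag⟩ := mem_UT.1 hT
  obtain ⟨β, hβ⟩ : ∃ β : F, β = u.1 t (Fin.rev kk) := ⟨_, rfl⟩
  have htk : t ≠ kk := by
    intro e; rw [e] at ht1; omega
  -- it suffices to find a root element of the right shape
  suffices hsuff : ∃ x ∈ rootsUJ n F q,
      (∀ i b, i ≠ kk → x.1 i b =
        (1 + Matrix.single t (Fin.rev kk) (-β) : Matrix (Fin n) (Fin n) F) i b) ∧
      (∀ l : Fin n, l.val < k → x.1 kk (Fin.rev l) = 0) by
    obtain ⟨x, hx, hX, hXk⟩ := hsuff
    refine ⟨x, hx, colId_of_shape hk hkk hX hXk, ?_, ?_⟩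
    · show (x.1 * u.1) t (Fin.rev kk) = 0
      rw [shape_mul_apply hX t _ htk, if_pos rfl, hdiag, ← hβ]
      ring
    · intro i hit hik
      show (x.1 * u.1) i (Fin.rev kk) = u.1 i (Fin.rev kk)
      rw [shape_mul_apply hX i _ hik, if_neg hit, add_zero]
  have hkk' : kk ≠ Fin.rev kk := ne_rev_of_lt_half (by rw [hkk]; exact hk)
  have hrr : Fin.rev (Fin.rev kk) = kk := Fin.rev_rev kk
  have hrt : Fin.rev (Fin.rev t) = t := Fin.rev_rev t
  by_cases hA : t.val < n / 2
  · -- Siegel root `xs (t, rev kk)`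
    have h : t ≠ Fin.rev kk := by
      intro e
      have := congrArg Fin.val e
      rw [Fin.val_rev] at this
      omega
    have hj : Fin.rev kk ≠ Fin.rev (Fin.rev kk) := by rw [hrr]; exact hkk'.symm
    refine ⟨xs q h (-β), Or.inr (Or.inl ⟨t, kk, h, -β, htk, hA, by rw [hkk]; exact hk, rfl⟩),
      ?_, ?_⟩
    · intro i b hi
      rw [Cfsg.Agent.Lib.Helper63_S5172_A1.A1_coe h hj, hrr, Matrix.sub_apply,
        Matrix.single_apply_of_ne kk (Fin.rev t) _ i b (fun e => hi e.1.symm), sub_zero]
    · intro l hl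
      have hl1 : kk ≠ Fin.rev l := by
        intro e
        have := congrArg Fin.val e
        rw [Fin.val_rev] at this
        omega
      have hl2 : Fin.rev t ≠ Fin.rev l := by
        intro e
        have := congrArg Fin.val (Fin.rev_injective e)
        omega
      rw [Cfsg.Agent.Lib.Helper63_S5172_A1.A1_coe h hj, hrr, Matrix.sub_apply, Matrix.add_apply,
        Matrix.one_apply_ne hl1,
        Matrix.single_apply_of_ne t (Fin.rev kk) _ kk _ (fun e => htk e.1),
        Matrix.single_apply_of_ne kk (Fin.rev t) _ kk _ (fun e => hl2 e.2)]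
      ring
  · by_cases hB : n - n / 2 ≤ t.val
    · -- Levi root `xs (kk, rev t)`
      have hjv : (Fin.rev t).val = n - 1 - t.val := by rw [Fin.val_rev]; omega
      have hij : kk ≠ Fin.rev t := by
        intro e
        have := congrArg Fin.val e
        rw [hjv] at this
        omega
      have hj : Fin.rev t ≠ Fin.rev (Fin.rev t) := by
        rw [hrt]
        intro e
        have := congrArg Fin.val e
        rw [hjv] at this
        omega
      have hqq : (β ^ q) ^ q = β := Cfsg.Agent.Lib.Helper13_Herm.pow_q_pow_q hF β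
      refine ⟨xs q hij (β ^ q), Or.inr (Or.inr (Or.inl ⟨kk, Fin.rev t, hij, β ^ q,
        by rw [hjv, hkk]; omega, by rw [hjv]; omega, rfl⟩)), ?_, ?_⟩
      · intro i b hi
        rw [Cfsg.Agent.Lib.Helper63_S5172_A1.A1_coe hij hj, hrt, hqq, Matrix.sub_apply,
          Matrix.add_apply, Matrix.add_apply,
          Matrix.single_apply_of_ne kk (Fin.rev t) _ i b (fun e => hi e.1.symm), add_zero,
          Matrix.single_apply, Matrix.single_apply]
        split_ifs <;> ring
      · intro l hl
        have hl1 : kk ≠ Fin.rev l := by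
          intro e
          have := congrArg Fin.val e
          rw [Fin.val_rev] at this
          omega
        have hl2 : Fin.rev t ≠ Fin.rev l := by
          intro e
          have := congrArg Fin.val (Fin.rev_injective e)
          omega
        rw [Cfsg.Agent.Lib.Helper63_S5172_A1.A1_coe hij hj, hrt, Matrix.sub_apply,
          Matrix.add_apply, Matrix.one_apply_ne hl1,
          Matrix.single_apply_of_ne kk (Fin.rev t) _ kk _ (fun e => hl2 e.2),
          Matrix.single_apply_of_ne t (Fin.rev kk) _ kk _ (fun e => htk e.1)]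
        ring
    · -- the middle index: `ym (kk, t)`
      have hm : Fin.rev t = t := by
        apply Fin.ext
        rw [Fin.val_rev]
        omega
      have him : kk ≠ t := fun e => htk e.symm
      have hqq : (β ^ q) ^ q = β := Cfsg.Agent.Lib.Helper13_Herm.pow_q_pow_q hF β
      obtain ⟨b, hb⟩ := exists_par hF (β ^ q)
      refine ⟨ym q him hm (β ^ q) b, Or.inr (Or.inr (Or.inr ⟨kk, t, him, hm, β ^ q, b,
        by rw [hkk]; exact hk, hb, rfl⟩)), ?_, ?_⟩
      · intro i b' hi
        rw [Cfsg.Agent.Lib.Helper26_S5172_A2.A2_coe him hm, hqq, Matrix.add_apply, Matrix.sub_apply,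
          Matrix.add_apply, Matrix.add_apply,
          Matrix.single_apply_of_ne kk t _ i b' (fun e => hi e.1.symm),
          Matrix.single_apply_of_ne kk (Fin.rev kk) _ i b' (fun e => hi e.1.symm), add_zero,
          add_zero, Matrix.single_apply, Matrix.single_apply]
        split_ifs <;> ring
      · intro l hl
        have hl1 : kk ≠ Fin.rev l := by
          intro e
          have := congrArg Fin.val e
          rw [Fin.val_rev] at this
          omega
        have hl2 : t ≠ Fin.rev l := by
          intro e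
          have := congrArg Fin.val e
          rw [Fin.val_rev] at this
          omega
        have hl3 : Fin.rev kk ≠ Fin.rev l := by
          intro e
          have := congrArg Fin.val (Fin.rev_injective e)
          omega
        rw [Cfsg.Agent.Lib.Helper26_S5172_A2.A2_coe him hm, Matrix.add_apply, Matrix.sub_apply, Matrix.add_apply,
          Matrix.one_apply_ne hl1,
          Matrix.single_apply_of_ne kk t _ kk _ (fun e => hl2 e.2),
          Matrix.single_apply_of_ne t (Fin.rev kk) _ kk _ (fun e => htk e.1),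
          Matrix.single_apply_of_ne kk (Fin.rev kk) _ kk _ (fun e => hl3 e.2)]
        ring

/-- all entries of the column `rev kk` strictly between the rows `kk` and `rev kk` are killed -/
theorem kill_all (hF : Fintype.card F = q ^ 2) {n : ℕ} {k : ℕ} (hk : k < n / 2)
    (kk : Fin n) (hkk : kk.val = k) {u : SpecialLinearGroup (Fin n) F} (hu : u ∈ UJ n F q)
    (hc : ColId k u.1) :
    ∀ s : ℕ, ∃ y ∈ Subgroup.closure (rootsUJ n F q), y * u ∈ UJ n F q ∧ ColId k (y * u).1 ∧
      ∀ t : Fin n, k < t.val → t.val < k + 1 + s → t.val < n - 1 - k →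
        (y * u).1 t (Fin.rev kk) = 0 := by
  intro s
  induction s with
  | zero =>
    refine ⟨1, Subgroup.one_mem _, by rw [one_mul]; exact hu, by rw [one_mul]; exact hc, ?_⟩
    intro t h1 h2 _
    omega
  | succ s ih =>
    obtain ⟨y, hy, hw, hwc, hz⟩ := ih
    by_cases hs : k + 1 + s < n - 1 - k
    · have hlt : k + 1 + s < n := by omega
      obtain ⟨x, hx, hxc, hx0, hxo⟩ := kill hF hk kk hkk hw ⟨k + 1 + s, hlt⟩ (by simp; omega)
        (by simpa using hs)
      have hxU : x ∈ UJ n F q := roots_le hF x hx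
      refine ⟨x * y, Subgroup.mul_mem _ (Subgroup.subset_closure hx) hy, ?_, ?_, ?_⟩
      · rw [mul_assoc]; exact (UJ n F q).mul_mem hxU hw
      · rw [mul_assoc]
        exact colId_mul hxc hwc
      · intro t h1 h2 h3
        rw [mul_assoc]
        by_cases ht : t = ⟨k + 1 + s, hlt⟩
        · rw [ht]; exact hx0
        · have htk : t ≠ kk := by
            intro e; rw [e] at h1; omega
          rw [hxo t ht htk]
          apply hz t h1 ?_ h3
          have : t.val ≠ k + 1 + s := fun e => ht (Fin.ext e)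
          omega
    · refine ⟨y, hy, hw, hwc, ?_⟩
      intro t h1 h2 h3
      exact hz t h1 (by omega) h3

/-- the inductive step: one more identity column -/
theorem step (hF : Fintype.card F = q ^ 2) {n : ℕ} {k : ℕ} (hk : k < n / 2)
    (IH : ∀ u ∈ UJ n F q, ColId (k + 1) u.1 → u ∈ Subgroup.closure (rootsUJ n F q))
    {u : SpecialLinearGroup (Fin n) F} (hu : u ∈ UJ n F q) (hc : ColId k u.1) :
    u ∈ Subgroup.closure (rootsUJ n F q) := by
  have hkn : k < n := by omega
  obtain ⟨kk, hkk⟩ : ∃ kk : Fin n, kk.val = k := ⟨⟨k, hkn⟩, rfl⟩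
  have hkk' : kk ≠ Fin.rev kk := ne_rev_of_lt_half (by rw [hkk]; exact hk)
  have hrv : (Fin.rev kk).val = n - 1 - k := by rw [Fin.val_rev, hkk]; omega
  obtain ⟨y, hy, hw, hwc, hz⟩ := kill_all hF hk kk hkk hu hc n
  obtain ⟨w, hw'⟩ : ∃ w : SpecialLinearGroup (Fin n) F, w = y * u := ⟨_, rfl⟩
  rw [← hw'] at hw hwc hz
  obtain ⟨hG, hT⟩ := mem_UJ.1 hw
  obtain ⟨hlow, hdiag⟩ := mem_UT.1 hT
  -- the column `rev kk` of `w`
  have hcol : ∀ t : Fin n, t ≠ kk → w.1 t (Fin.rev kk) = if t = Fin.rev kk then 1 else 0 := by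
    intro t htk
    by_cases h1 : t.val < k
    · rw [row_of_colId hF hG hwc t h1]
    · by_cases h2 : t.val < n - 1 - k
      · have h3 : k < t.val := by
          have : t.val ≠ k := fun e => htk (Fin.ext (by rw [e, hkk]))
          omega
        rw [hz t h3 (by have := t.isLt; omega) h2, if_neg]
        intro e
        have := congrArg Fin.val e
        rw [hrv] at this
        omega
      · by_cases h3 : t = Fin.rev kk
        · rw [if_pos h3, h3]; exact hdiag _
        · rw [if_neg h3]
          apply hlow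
          rw [Fin.lt_def, hrv]
          have : t.val ≠ n - 1 - k := fun e => h3 (Fin.ext (by rw [e, hrv]))
          omega
  obtain ⟨c, hcdef⟩ : ∃ c : F, c = w.1 kk (Fin.rev kk) := ⟨_, rfl⟩
  have hctr : c + c ^ q = 0 := by
    have h := (Cfsg.Agent.Lib.Helper63_S5172_A1.mem_GJ_iff_entries hF w).1 hG (Fin.rev kk)
      (Fin.rev kk)
    rw [Fin.rev_rev, if_neg hkk'.symm, Finset.sum_eq_add kk (Fin.rev kk) hkk'] at h
    · rw [Fin.rev_rev, hdiag, one_pow, mul_one, one_mul, ← hcdef] at h
      exact h
    · intro t _ ht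
      rw [hcol t ht.1, if_neg ht.2, zero_mul]
    · intro h'; exact absurd (Finset.mem_univ _) h'
    · intro h'; exact absurd (Finset.mem_univ _) h'
  have hctr' : -c + (-c) ^ q = 0 := by
    rw [Cfsg.Agent.Lib.Helper13_Herm.neg_pow_q hF]
    linear_combination -hctr
  obtain ⟨x, hxdef⟩ : ∃ x : SpecialLinearGroup (Fin n) F,
      x = SpecialLinearGroup.transvection hkk' (-c) := ⟨_, rfl⟩
  have hx : x ∈ rootsUJ n F q :=
    Or.inl ⟨kk, hkk', -c, by rw [hkk]; exact hk, hctr', hxdef⟩
  have hxU : x ∈ UJ n F q := roots_le hF x hx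
  have hxcoe : x.1 = 1 + Matrix.single kk (Fin.rev kk) (-c) := by
    rw [hxdef, SpecialLinearGroup.transvection_coe]
  have hv : ColId (k + 1) (x * w).1 := by
    intro l hl a
    show (x.1 * w.1) a (Fin.rev l) = _
    rw [hxcoe, add_mul, one_mul, Matrix.add_apply]
    by_cases hlk : l.val < k
    · rw [hwc l hlk a]
      by_cases ha : a = kk
      · have h1 : kk ≠ Fin.rev l := by
          intro e
          have := congrArg Fin.val e
          rw [Fin.val_rev] at this
          omega
        have h2 : Fin.rev kk ≠ Fin.rev l := by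
          intro e
          have := congrArg Fin.val (Fin.rev_injective e)
          omega
        rw [ha, Matrix.single_mul_apply_same, hwc l hlk (Fin.rev kk), if_neg h1, if_neg h2,
          mul_zero, add_zero]
      · rw [Matrix.single_mul_apply_of_ne _ _ _ _ _ ha, add_zero]
    · have hlkk : l = kk := Fin.ext (by rw [hkk]; omega)
      rw [hlkk]
      by_cases ha : a = kk
      · rw [ha, Matrix.single_mul_apply_same, hdiag, ← hcdef, if_neg hkk']
        ring
      · rw [Matrix.single_mul_apply_of_ne _ _ _ _ _ ha, add_zero, hcol a ha]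
  have hvC := IH (x * w) ((UJ n F q).mul_mem hxU hw) hv
  have hu_eq : u = y⁻¹ * (x⁻¹ * (x * w)) := by
    rw [hw']; group
  rw [hu_eq]
  exact Subgroup.mul_mem _ (Subgroup.inv_mem _ hy)
    (Subgroup.mul_mem _ (Subgroup.inv_mem _ (Subgroup.subset_closure hx)) hvC)

theorem D6 (hF : Fintype.card F = q ^ 2) (n : ℕ) (hn : 4 ≤ n) :
    UJ n F q ≤ Subgroup.closure (rootsUJ n F q) := by
  have main : ∀ d : ℕ, d ≤ n / 2 → ∀ u ∈ UJ n F q, ColId (n / 2 - d) u.1 →
      u ∈ Subgroup.closure (rootsUJ n F q) := by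
    intro d
    induction d with
    | zero =>
      intro _ u hu hc
      rw [eq_one_of_colId hF hu hc]
      exact Subgroup.one_mem _
    | succ d ih =>
      intro hd u hu hc
      apply step hF (k := n / 2 - (d + 1)) (by omega) ?_ hu hc
      intro u' hu' hc'
      apply ih (by omega) u' hu'
      have e : n / 2 - (d + 1) + 1 = n / 2 - d := by omega
      rw [e] at hc'
      exact hc'
  intro u hu
  apply main (n / 2) le_rfl u hu
  intro l hl
  omega

end Cfsg.Agent.Lib.Helper41_S5172_D6
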