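import Mathlib
import Cfsg.Agent.Lib.Helper66_S92LiftDefs
import Cfsg.Agent.Lib.Helper66_S92Lift2Defs
import Cfsg.Agent.Lib.Helper66_S92Rank

set_option autoImplicit false
set_option linter.unusedVariables false
set_option linter.unusedSectionVars false

/-! S2092 package L2_PERF (helper41): the abstract vector stabiliser `Gs XM o` is perfect when there
are at least four hyperbolic pairs. -/

namespace Cfsg.Agent.Lib.Helper66_S92

open Cfsg.Agent.Lib.Helper81_UceA Cfsg.Agent.Lib.Helper5_SteinbergA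

variable {ι : Type*} [DecidableEq ι] [Fintype ι] {K : Type*} [Field K] {S E : Type*} [Group S] [Group E]
  {π : E →* S} {XM : ι ⊕ ι → ι ⊕ ι → K → S}

/-- an index avoiding six given ones -/
theorem h41_exists_avoid (h4 : 4 ≤ Fintype.card ι) (x1 x2 x3 x4 x5 x6 : ι ⊕ ι) :
    ∃ e : ι ⊕ ι, e ≠ x1 ∧ e ≠ x2 ∧ e ≠ x3 ∧ e ≠ x4 ∧ e ≠ x5 ∧ e ≠ x6 := by
  classical
  have hc : ({x1, x2, x3, x4, x5, x6} : Finset (ι ⊕ ι)).card <
      (Finset.univ : Finset (ι ⊕ ι)).card := by
    have h6 := Finset.card_le_six (a := x1) (b := x2) (c := x3) (d := x4) (e := x5) (f := x6)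
    have hu : (Finset.univ : Finset (ι ⊕ ι)).card = Fintype.card ι + Fintype.card ι := by
      rw [Finset.card_univ, Fintype.card_sum]
    omega
  obtain ⟨e, -, he⟩ := Finset.exists_mem_notMem_of_card_lt_card hc
  simp only [Finset.mem_insert, Finset.mem_singleton, not_or] at he
  exact ⟨e, he.1, he.2.1, he.2.2.1, he.2.2.2.1, he.2.2.2.2.1, he.2.2.2.2.2⟩

/-- generators of `Gs` -/
theorem h41_X_mem_Gs (o a c : ι ⊕ ι) (t : K) (ha : a ≠ ng o) (hc : c ≠ ng o) :
    XM a c t ∈ Gs XM o :=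
  Subgroup.subset_closure ⟨a, c, t, ha, hc, rfl⟩

/-- short root elements of `Gs` are commutators -/
theorem h41_short_mem (h : CStAB XM) (h4 : 4 ≤ Fintype.card ι) (o a c : ι ⊕ ι) (t : K)
    (ha : a ≠ ng o) (hc : c ≠ ng o) (hca : c ≠ a) (hcna : c ≠ ng a) :
    XM a c t ∈ ⁅Gs XM o, Gs XM o⁆ := by
  obtain ⟨e, e1, e2, e3, e4, e5, e6⟩ := h41_exists_avoid h4 a (ng a) c (ng c) o (ng o)
  have hne : ng e ≠ ng o := fun hh => e5 (ng_injective hh)
  have key := h.a2 a e c (-(om K e * t)) 1 (Ne.symm e1)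
    (fun hh => e2 (by rw [hh, ng_ng])) (Ne.symm hca)
    (fun hh => hcna (by rw [hh, ng_ng])) e3 e4
  have hval : -(om K e * -(om K e * t) * 1) = t := by
    have := om_mul_self (K := K) e
    linear_combination t * this
  rw [hval] at key
  rw [← key, ← commutatorElement_def]
  exact Subgroup.commutator_mem_commutator (h41_X_mem_Gs o a e _ ha e6)
    (h41_X_mem_Gs o (ng e) c _ hne hc)

/-- the abstract vector stabiliser is perfect when there are at least four hyperbolic pairs -/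
theorem Gs_perfect (h : CStAB XM) (h4 : 4 ≤ Fintype.card ι) (o : ι ⊕ ι) :
    Gs XM o ≤ ⁅Gs XM o, Gs XM o⁆ := by
  unfold Gs
  rw [Subgroup.closure_le]
  rintro g ⟨a, c, t, ha, hc, rfl⟩
  show XM a c t ∈ ⁅Gs XM o, Gs XM o⁆
  by_cases hcna : c = ng a
  · rw [hcna, h.opp]
    exact Subgroup.one_mem _
  by_cases hca : c = a
  · subst hca
    -- long root element
    obtain ⟨e, e1, e2, e3, e4, -, -⟩ := h41_exists_avoid h4 c (ng c) o (ng o) o o
    have hne : ng e ≠ ng o := fun hh => e3 (ng_injective hh)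
    have key := h.ls (ng e) c (-t) 1 (fun hh => e2 (by rw [hh, ng_ng]))
      (fun hh => e1 (by rw [hh, ng_ng]))
    rw [ng_ng] at key
    have hval : -(-t * (1 : K) ^ 2) = t := by ring
    rw [hval] at key
    have hcomm : XM (ng e) (ng e) (-t) * XM e c 1 * (XM (ng e) (ng e) (-t))⁻¹ * (XM e c 1)⁻¹ ∈
        ⁅Gs XM o, Gs XM o⁆ := by
      rw [← commutatorElement_def]
      exact Subgroup.commutator_mem_commutator (h41_X_mem_Gs o (ng e) (ng e) _ hne hne)
        (h41_X_mem_Gs o e c _ e4 hc)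
    have hshort : XM (ng e) c (-(om K (ng e) * -t * 1)) ∈ ⁅Gs XM o, Gs XM o⁆ :=
      h41_short_mem h h4 o (ng e) c _ hne hc
        (fun hh => e2 (by rw [hh, ng_ng])) (by rw [ng_ng]; exact Ne.symm e1)
    rw [key] at hcomm
    have := Subgroup.mul_mem _ (Subgroup.inv_mem _ hshort) hcomm
    rwa [inv_mul_cancel_left] at this
  · exact h41_short_mem h h4 o a c t ha hc hca hcna

end Cfsg.Agent.Lib.Helper66_S92
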