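import Mathlib
import Cfsg.Agent.Lib.Helper66_S92LiftDefs
import Cfsg.Agent.Lib.Helper66_S92Lift2Defs
import Cfsg.Agent.Lib.Helper66_S92Rank
import Cfsg.Agent.Lib.Helper41_S92_L2_PERF

set_option autoImplicit false
set_option linter.unusedVariables false
set_option linter.unusedSectionVars false

/-! S2092 package L2_NORM (helper41), auxiliary form: `exists_tau_norm` with the conclusions of
`exists_tau` (L2_TAU) and `act_triple` (L2_TRIPLE) as hypotheses. -/

namespace Cfsg.Agent.Lib.Helper66_S92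

open Cfsg.Agent.Lib.Helper81_UceA Cfsg.Agent.Lib.Helper5_SteinbergA

variable {ι : Type*} [DecidableEq ι] [Fintype ι] {K : Type*} [Field K] {S E : Type*} [Group S] [Group E]
  {π : E →* S} {XM : ι ⊕ ι → ι ⊕ ι → K → S}

/-! ### bilinearity of `Bst` -/

theorem h41_Bst_add_left (u v w : ι ⊕ ι → K) : Bst (u + v) w = Bst u w + Bst v w := by
  simp only [Bst_def, Pi.add_apply, mul_add, add_mul, Finset.sum_add_distrib]

theorem h41_Bst_add_right (u v w : ι ⊕ ι → K) : Bst u (v + w) = Bst u v + Bst u w := by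
  simp only [Bst_def, Pi.add_apply, mul_add, Finset.sum_add_distrib]

theorem h41_Bst_smul_left (c : K) (u w : ι ⊕ ι → K) : Bst (c • u) w = c * Bst u w := by
  simp only [Bst_def, Pi.smul_apply, smul_eq_mul, Finset.mul_sum]
  refine Finset.sum_congr rfl fun d _ => ?_
  ring

theorem h41_Bst_smul_right (c : K) (u w : ι ⊕ ι → K) : Bst u (c • w) = c * Bst u w := by
  simp only [Bst_def, Pi.smul_apply, smul_eq_mul, Finset.mul_sum]
  refine Finset.sum_congr rfl fun d _ => ?_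
  ring

theorem h41_Bst_zero_left (w : ι ⊕ ι → K) : Bst (0 : ι ⊕ ι → K) w = 0 := by
  simp only [Bst_def, Pi.zero_apply, mul_zero, zero_mul, Finset.sum_const_zero]

theorem h41_Bst_single (x y : ι ⊕ ι) (hy : y ≠ ng x) :
    Bst (Pi.single x (1 : K)) (Pi.single y 1) = 0 := by
  rw [Bst_def]
  refine Finset.sum_eq_zero fun d _ => ?_
  by_cases hd : d = x
  · subst hd
    have : (Pi.single y (1 : K) : ι ⊕ ι → K) (ng d) = 0 := by
      rw [Pi.single_apply, if_neg (Ne.symm hy)]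
    rw [this, mul_zero]
  · have : (Pi.single x (1 : K) : ι ⊕ ι → K) d = 0 := by
      rw [Pi.single_apply, if_neg hd]
    rw [this, mul_zero, zero_mul]

/-! ### the seven vectors of a coordinate totally isotropic `3`-space -/

/-- three indices in three distinct hyperbolic pairs -/
def h41_Tri (a e f : ι ⊕ ι) : Prop :=
  e ≠ a ∧ e ≠ ng a ∧ f ≠ a ∧ f ≠ ng a ∧ f ≠ e ∧ f ≠ ng e

/-- the seven vectors -/
def h41_seven (K : Type*) [Field K] (a e f : ι ⊕ ι) : List (ι ⊕ ι → K) :=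
  [Pi.single a 1, Pi.single e 1, Pi.single f 1, Pi.single a 1 + Pi.single e 1,
    Pi.single a 1 + Pi.single f 1, Pi.single e 1 + Pi.single f 1,
    Pi.single a 1 + Pi.single e 1 + Pi.single f 1]

theorem h41_seven_span (a e f : ι ⊕ ι) (u : ι ⊕ ι → K) (hu : u ∈ h41_seven K a e f) :
    ∃ α β γ : K, u = α • Pi.single a 1 + β • Pi.single e 1 + γ • Pi.single f 1 := by
  simp only [h41_seven, List.mem_cons, List.not_mem_nil, or_false] at hu
  rcases hu with rfl | rfl | rfl | rfl | rfl | rfl | rfl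
  · exact ⟨1, 0, 0, by simp⟩
  · exact ⟨0, 1, 0, by simp⟩
  · exact ⟨0, 0, 1, by simp⟩
  · exact ⟨1, 1, 0, by simp⟩
  · exact ⟨1, 0, 1, by simp⟩
  · exact ⟨0, 1, 1, by simp⟩
  · exact ⟨1, 1, 1, by simp⟩

theorem h41_seven_ne_zero (a e f : ι ⊕ ι) (h : h41_Tri a e f) (u : ι ⊕ ι → K)
    (hu : u ∈ h41_seven K a e f) : u ≠ 0 := by
  obtain ⟨h1, h2, h3, h4, h5, h6⟩ := h
  have key : ∀ (w : ι ⊕ ι → K) (d : ι ⊕ ι), w d = 1 → w ≠ 0 := by
    intro w d hw h0
    rw [h0] at hw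
    exact zero_ne_one hw
  simp only [h41_seven, List.mem_cons, List.not_mem_nil, or_false] at hu
  rcases hu with rfl | rfl | rfl | rfl | rfl | rfl | rfl
  · exact key _ a (by simp)
  · exact key _ e (by simp)
  · exact key _ f (by simp)
  · exact key _ a (by simp [h1.symm])
  · exact key _ a (by simp [h3.symm])
  · exact key _ e (by simp [h5.symm])
  · exact key _ a (by simp [h1.symm, h3.symm])

theorem h41_seven_iso (a e f : ι ⊕ ι) (h : h41_Tri a e f) (u u' : ι ⊕ ι → K)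
    (hu : u ∈ h41_seven K a e f) (hu' : u' ∈ h41_seven K a e f) : Bst u u' = 0 := by
  obtain ⟨h1, h2, h3, h4, h5, h6⟩ := h
  obtain ⟨α, β, γ, rfl⟩ := h41_seven_span a e f u hu
  obtain ⟨α', β', γ', rfl⟩ := h41_seven_span a e f u' hu'
  have haa := h41_Bst_single (K := K) a a (ne_ng a)
  have hae := h41_Bst_single (K := K) a e h2
  have haf := h41_Bst_single (K := K) a f h4
  have hea := h41_Bst_single (K := K) e a (fun hh => h2 (by rw [hh, ng_ng]))
  have hee := h41_Bst_single (K := K) e e (ne_ng e)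
  have hef := h41_Bst_single (K := K) e f h6
  have hfa := h41_Bst_single (K := K) f a (fun hh => h4 (by rw [hh, ng_ng]))
  have hfe := h41_Bst_single (K := K) f e (fun hh => h6 (by rw [hh, ng_ng]))
  have hff := h41_Bst_single (K := K) f f (ne_ng f)
  simp only [h41_Bst_add_left, h41_Bst_add_right, h41_Bst_smul_left, h41_Bst_smul_right,
    haa, hae, haf, hea, hee, hef, hfa, hfe, hff, mul_zero, add_zero]

/-! ### products of an equivariant section over a totally isotropic list -/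

section sect

variable (ρ : S →* Module.End K (ι ⊕ ι → K)) (τ : (ι ⊕ ι → K) → E)

/-- lifts of orthogonal vectors commute -/
theorem h41_tau_comm
    (h1 : ∀ v, v ≠ 0 → ∀ e : E, e * τ v * e⁻¹ = τ (ρ (π e) v))
    (h2 : ∀ v, v ≠ 0 → ∀ x, ρ (π (τ v)) x = x + Bst x v • v)
    (u u' : ι ⊕ ι → K) (hu : u ≠ 0) (hu' : u' ≠ 0) (hB : Bst u' u = 0) :
    Commute (τ u) (τ u') := by
  have := h1 u' hu' (τ u)
  rw [h2 u hu, hB, zero_smul, add_zero] at this
  show τ u * τ u' = τ u' * τ u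
  calc τ u * τ u' = τ u * τ u' * (τ u)⁻¹ * τ u := by group
    _ = τ u' * τ u := by rw [this]

theorem h41_Bst_list_sum (L : List (ι ⊕ ι → K)) (c : (ι ⊕ ι → K) → K) (u : ι ⊕ ι → K)
    (hL : ∀ u' ∈ L, Bst u' u = 0) : Bst (L.map (fun u' => c u' • u')).sum u = 0 := by
  induction L with
  | nil => simp [h41_Bst_zero_left]
  | cons w L ih =>
    rw [List.map_cons, List.sum_cons, h41_Bst_add_left, h41_Bst_smul_left,
      hL w List.mem_cons_self, mul_zero, zero_add]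
    exact ih fun u' hu' => hL u' (List.mem_cons_of_mem _ hu')

/-- the action of the product over a totally isotropic list -/
theorem h41_act_prod
    (h2 : ∀ v, v ≠ 0 → ∀ x, ρ (π (τ v)) x = x + Bst x v • v)
    (L : List (ι ⊕ ι → K)) (hne : ∀ u ∈ L, u ≠ 0) (hiso : ∀ u ∈ L, ∀ u' ∈ L, Bst u u' = 0)
    (x : ι ⊕ ι → K) :
    ρ (π (L.map τ).prod) x = x + (L.map (fun u => Bst x u • u)).sum := by
  induction L with
  | nil => simp
  | cons w L ih =>
    have ih' := ih (fun u hu => hne u (List.mem_cons_of_mem _ hu))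
      (fun u hu u' hu' => hiso u (List.mem_cons_of_mem _ hu) u' (List.mem_cons_of_mem _ hu'))
    rw [List.map_cons, List.prod_cons, map_mul, map_mul, Module.End.mul_apply, ih',
      h2 w (hne w List.mem_cons_self), h41_Bst_add_left,
      h41_Bst_list_sum L (fun u => Bst x u) w
        (fun u' hu' => hiso u' (List.mem_cons_of_mem _ hu') w List.mem_cons_self),
      add_zero, List.map_cons, List.sum_cons]
    abel

/-- the square of the product over a commuting list -/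
theorem h41_sq_prod (a₀ : E) (L : List (ι ⊕ ι → K))
    (hc : ∀ u ∈ L, ∀ u' ∈ L, Commute (τ u) (τ u')) (hs : ∀ u ∈ L, τ u * τ u = a₀) :
    (L.map τ).prod * (L.map τ).prod = a₀ ^ L.length := by
  induction L with
  | nil => simp
  | cons w L ih =>
    have ih' := ih (fun u hu u' hu' => hc u (List.mem_cons_of_mem _ hu) u' (List.mem_cons_of_mem _ hu'))
      (fun u hu => hs u (List.mem_cons_of_mem _ hu))
    have hcomm : Commute (τ w) (L.map τ).prod := by
      refine Commute.list_prod_right _ _ fun x hx => ?_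
      obtain ⟨u', hu', rfl⟩ := List.mem_map.mp hx
      exact hc w List.mem_cons_self u' (List.mem_cons_of_mem _ hu')
    rw [List.map_cons, List.prod_cons, List.length_cons, pow_succ']
    calc τ w * (L.map τ).prod * (τ w * (L.map τ).prod)
        = τ w * ((L.map τ).prod * τ w) * (L.map τ).prod := by group
      _ = τ w * (τ w * (L.map τ).prod) * (L.map τ).prod := by rw [hcomm.eq]
      _ = τ w * τ w * ((L.map τ).prod * (L.map τ).prod) := by group
      _ = a₀ * a₀ ^ L.length := by rw [hs w List.mem_cons_self, ih']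

/-- twisting by a central element -/
theorem h41_twist_prod (c : E) (hc : ∀ e : E, c * e = e * c) (L : List (ι ⊕ ι → K)) :
    (L.map (fun v => τ v * c)).prod = (L.map τ).prod * c ^ L.length := by
  induction L with
  | nil => simp
  | cons w L ih =>
    rw [List.map_cons, List.prod_cons, ih, List.map_cons, List.prod_cons, List.length_cons,
      pow_succ']
    calc τ w * c * ((L.map τ).prod * c ^ L.length)
        = τ w * (c * (L.map τ).prod) * c ^ L.length := by group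
      _ = τ w * ((L.map τ).prod * c) * c ^ L.length := by rw [hc]
      _ = τ w * (L.map τ).prod * (c * c ^ L.length) := by group

end sect

theorem h41_two_eq_zero (hcard : Nat.card K = 2) : (2 : K) = 0 := by
  have h := card_nsmul_eq_zero' (G := K) (x := (1 : K))
  rw [hcard] at h
  simpa using h

theorem h41_seven_sum_zero (hcard : Nat.card K = 2) (a e f : ι ⊕ ι) (x : ι ⊕ ι → K) :
    ((h41_seven K a e f).map (fun u => Bst x u • u)).sum = 0 := by
  have h2K := h41_two_eq_zero hcard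
  simp only [h41_seven, List.map_cons, List.map_nil, List.sum_cons, List.sum_nil,
    h41_Bst_add_right]
  generalize Bst x (Pi.single a 1) = α
  generalize Bst x (Pi.single e 1) = β
  generalize Bst x (Pi.single f 1) = γ
  ext d
  simp only [Pi.add_apply, Pi.smul_apply, smul_eq_mul, Pi.zero_apply]
  generalize (Pi.single a (1 : K) : ι ⊕ ι → K) d = A
  generalize (Pi.single e (1 : K) : ι ⊕ ι → K) d = B
  generalize (Pi.single f (1 : K) : ι ⊕ ι → K) d = C
  linear_combination (A * (2 * α + β + γ) + B * (α + 2 * β + γ) + C * (α + β + 2 * γ)) * h2K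

/-- `exists_tau_norm` with the conclusions of `exists_tau` and `act_triple` as hypotheses -/
theorem exists_tau_norm_aux (hπ : CExt π) (ρ : S →* Module.End K (ι ⊕ ι → K))
    (hcard : Nat.card K = 2) (h4 : 4 ≤ Fintype.card ι) (hinj : Function.Injective ρ)
    (hTau : ∃ (τ : (ι ⊕ ι → K) → E) (a₀ : E), π a₀ = 1 ∧
      (∀ v, v ≠ 0 → ∀ e : E, e * τ v * e⁻¹ = τ (ρ (π e) v)) ∧
      (∀ v, v ≠ 0 → ∀ x, ρ (π (τ v)) x = x + Bst x v • v) ∧
      (∀ v, v ≠ 0 → τ v * τ v = a₀))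
    (hTriple : ∀ a₀ e₀ f₀ a e f : ι ⊕ ι,
      e₀ ≠ a₀ → e₀ ≠ ng a₀ → f₀ ≠ a₀ → f₀ ≠ ng a₀ → f₀ ≠ e₀ → f₀ ≠ ng e₀ →
      e ≠ a → e ≠ ng a → f ≠ a → f ≠ ng a → f ≠ e → f ≠ ng e →
      ∃ g : S, ρ g (Pi.single a₀ 1) = Pi.single a 1 ∧ ρ g (Pi.single e₀ 1) = Pi.single e 1 ∧
        ρ g (Pi.single f₀ 1) = Pi.single f 1) :
    ∃ τ : (ι ⊕ ι → K) → E,
      (∀ v, v ≠ 0 → ∀ e : E, e * τ v * e⁻¹ = τ (ρ (π e) v)) ∧
      (∀ v, v ≠ 0 → ∀ x, ρ (π (τ v)) x = x + Bst x v • v) ∧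
      (∀ v, v ≠ 0 → τ v * τ v = 1) ∧
      (∀ a e f : ι ⊕ ι, e ≠ a → e ≠ ng a → f ≠ a → f ≠ ng a → f ≠ e → f ≠ ng e →
        τ (Pi.single a 1) * τ (Pi.single e 1) * τ (Pi.single f 1) *
          τ (Pi.single a 1 + Pi.single e 1) * τ (Pi.single a 1 + Pi.single f 1) *
          τ (Pi.single e 1 + Pi.single f 1) *
          τ (Pi.single a 1 + Pi.single e 1 + Pi.single f 1) = 1) := by
  obtain ⟨τ, a₀, ha0, h1, h2, h3⟩ := hTau
  -- the base triple
  have hpos : 0 < Fintype.card ι := by omega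
  obtain ⟨i⟩ := Fintype.card_pos_iff.mp hpos
  obtain ⟨e₁, q1, q2, -, -, -, -⟩ :=
    h41_exists_avoid h4 (Sum.inl i) (ng (Sum.inl i)) (Sum.inl i) (Sum.inl i) (Sum.inl i) (Sum.inl i)
  obtain ⟨f₁, q3, q4, q5, q6, -, -⟩ :=
    h41_exists_avoid h4 (Sum.inl i) (ng (Sum.inl i)) e₁ (ng e₁) (Sum.inl i) (Sum.inl i)
  have hT : h41_Tri (Sum.inl i) e₁ f₁ := ⟨q1, q2, q3, q4, q5, q6⟩
  have hne := h41_seven_ne_zero (K := K) (Sum.inl i) e₁ f₁ hT
  have hiso : ∀ u ∈ h41_seven K (Sum.inl i) e₁ f₁, ∀ u' ∈ h41_seven K (Sum.inl i) e₁ f₁,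
      Bst u u' = 0 := fun u hu u' hu' => h41_seven_iso (K := K) (Sum.inl i) e₁ f₁ hT u u' hu hu'
  have hlen : (h41_seven K (Sum.inl i) e₁ f₁).length = 7 := rfl
  -- the product of the seven lifts is in the kernel
  have hπP : π ((h41_seven K (Sum.inl i) e₁ f₁).map τ).prod = 1 := by
    apply hinj
    rw [map_one]
    refine LinearMap.ext fun x => ?_
    rw [h41_act_prod ρ τ h2 _ hne hiso x, h41_seven_sum_zero hcard, add_zero,
      Module.End.one_apply]
  have hPsq := h41_sq_prod τ a₀ (h41_seven K (Sum.inl i) e₁ f₁)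
    (fun u hu u' hu' => h41_tau_comm ρ τ h1 h2 u u' (hne u hu) (hne u' hu') (hiso u' hu' u hu))
    (fun u hu => h3 u (hne u hu))
  rw [hlen] at hPsq
  obtain ⟨P, hP⟩ : ∃ P, P = ((h41_seven K (Sum.inl i) e₁ f₁).map τ).prod := ⟨_, rfl⟩
  rw [← hP] at hπP hPsq
  have hπc : π (P * (a₀ ^ 4)⁻¹) = 1 := by
    rw [map_mul, map_inv, map_pow, hπP, ha0, one_pow, inv_one, mul_one]
  have hzc : ∀ e : E, P * (a₀ ^ 4)⁻¹ * e = e * (P * (a₀ ^ 4)⁻¹) := ker_comm hπ hπc
  have hπQ : π ((a₀ ^ 4)⁻¹) = 1 := by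
    rw [map_inv, map_pow, ha0, one_pow, inv_one]
  have hzQ : ∀ e : E, (a₀ ^ 4)⁻¹ * e = e * (a₀ ^ 4)⁻¹ := ker_comm hπ hπQ
  have hc2 : a₀ * (P * (a₀ ^ 4)⁻¹ * (P * (a₀ ^ 4)⁻¹)) = 1 := by
    calc a₀ * (P * (a₀ ^ 4)⁻¹ * (P * (a₀ ^ 4)⁻¹))
        = a₀ * (P * ((a₀ ^ 4)⁻¹ * P) * (a₀ ^ 4)⁻¹) := by group
      _ = a₀ * (P * (P * (a₀ ^ 4)⁻¹) * (a₀ ^ 4)⁻¹) := by rw [hzQ P]
      _ = a₀ * ((P * P) * ((a₀ ^ 4)⁻¹ * (a₀ ^ 4)⁻¹)) := by group
      _ = a₀ * (a₀ ^ 7 * ((a₀ ^ 4)⁻¹ * (a₀ ^ 4)⁻¹)) := by rw [hPsq]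
      _ = 1 := by group
  have hPc7 : P * (P * (a₀ ^ 4)⁻¹) ^ 7 = 1 := by
    have hcm : Commute P ((a₀ ^ 4)⁻¹) := (hzQ P).symm
    have hP8 : P ^ 8 = a₀ ^ 28 := by
      calc P ^ 8 = (P * P) ^ 4 := by rw [← pow_two, ← pow_mul]
        _ = (a₀ ^ 7) ^ 4 := by rw [hPsq]
        _ = a₀ ^ 28 := by rw [← pow_mul]
    rw [hcm.mul_pow]
    calc P * (P ^ 7 * ((a₀ ^ 4)⁻¹) ^ 7) = P ^ 8 * ((a₀ ^ 4)⁻¹) ^ 7 := by group
      _ = a₀ ^ 28 * ((a₀ ^ 4)⁻¹) ^ 7 := by rw [hP8]
      _ = 1 := by group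
  obtain ⟨c, hc⟩ : ∃ c, c = P * (a₀ ^ 4)⁻¹ := ⟨_, rfl⟩
  rw [← hc] at hπc hzc hc2 hPc7
  have hE' : ∀ v, v ≠ 0 → ∀ e : E, e * (τ v * c) * e⁻¹ = τ (ρ (π e) v) * c := by
    intro v hv e
    rw [← h1 v hv e]
    calc e * (τ v * c) * e⁻¹ = e * τ v * (c * e⁻¹) := by group
      _ = e * τ v * (e⁻¹ * c) := by rw [hzc]
      _ = e * τ v * e⁻¹ * c := by group
  refine ⟨fun v => τ v * c, hE', ?_, ?_, ?_⟩
  · intro v hv x
    show ρ (π (τ v * c)) x = _
    rw [map_mul, hπc, mul_one]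
    exact h2 v hv x
  · intro v hv
    show τ v * c * (τ v * c) = 1
    calc τ v * c * (τ v * c) = τ v * (c * τ v) * c := by group
      _ = τ v * (τ v * c) * c := by rw [hzc]
      _ = (τ v * τ v) * (c * c) := by group
      _ = a₀ * (c * c) := by rw [h3 v hv]
      _ = 1 := hc2
  · intro a e f k1 k2 k3 k4 k5 k6
    obtain ⟨g, hg1, hg2, hg3⟩ := hTriple (Sum.inl i) e₁ f₁ a e f q1 q2 q3 q4 q5 q6 k1 k2 k3 k4 k5 k6
    obtain ⟨g', hg'⟩ := hπ.surj g
    have hbase : ((h41_seven K (Sum.inl i) e₁ f₁).map (fun v => τ v * c)).prod = 1 := by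
      rw [h41_twist_prod τ c hzc, hlen, ← hP]
      exact hPc7
    simp only [h41_seven, List.map_cons, List.map_nil, List.prod_cons, List.prod_nil, mul_one]
      at hbase
    have hconj := congrArg (MulAut.conj g') hbase
    simp only [map_mul, map_one, MulAut.conj_apply] at hconj
    have m1 : (Pi.single (Sum.inl i) 1 : ι ⊕ ι → K) ≠ 0 := hne _ (by simp [h41_seven])
    have m2 : (Pi.single e₁ 1 : ι ⊕ ι → K) ≠ 0 := hne _ (by simp [h41_seven])
    have m3 : (Pi.single f₁ 1 : ι ⊕ ι → K) ≠ 0 := hne _ (by simp [h41_seven])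
    have m4 : (Pi.single (Sum.inl i) 1 + Pi.single e₁ 1 : ι ⊕ ι → K) ≠ 0 :=
      hne _ (by simp [h41_seven])
    have m5 : (Pi.single (Sum.inl i) 1 + Pi.single f₁ 1 : ι ⊕ ι → K) ≠ 0 :=
      hne _ (by simp [h41_seven])
    have m6 : (Pi.single e₁ 1 + Pi.single f₁ 1 : ι ⊕ ι → K) ≠ 0 := hne _ (by simp [h41_seven])
    have m7 : (Pi.single (Sum.inl i) 1 + Pi.single e₁ 1 + Pi.single f₁ 1 : ι ⊕ ι → K) ≠ 0 :=
      hne _ (by simp [h41_seven])
    have hcc : g' * c * g'⁻¹ = c := by rw [← hzc g', mul_inv_cancel_right]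
    rw [h1 _ m1, h1 _ m2, h1 _ m3, h1 _ m4, h1 _ m5, h1 _ m6, h1 _ m7, hcc] at hconj
    simp only [hg', map_add, hg1, hg2, hg3] at hconj
    show τ (Pi.single a 1) * c * (τ (Pi.single e 1) * c) * (τ (Pi.single f 1) * c) *
      (τ (Pi.single a 1 + Pi.single e 1) * c) * (τ (Pi.single a 1 + Pi.single f 1) * c) *
      (τ (Pi.single e 1 + Pi.single f 1) * c) *
      (τ (Pi.single a 1 + Pi.single e 1 + Pi.single f 1) * c) = 1
    rw [← hconj]
    simp only [mul_assoc]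

end Cfsg.Agent.Lib.Helper66_S92
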