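import Mathlib
import Cfsg.Agent.Lib.Helper66_S92Defs

set_option autoImplicit false
set_option linter.unusedVariables false
set_option linter.unusedSectionVars false
set_option linter.unusedSimpArgs false

/-!
Package EVAL of helper66's `s92_packages` market (S2092, Steinberg presentation of `Sp_2m(F_q)`):
evaluation of an action `ρ` with `IsAct X ρ` on the basis vectors `Pi.single d 1`, for the Weyl
elements `WC`, the torus elements `HC`, the monomial representatives `dC` and the subgroups
`Gs`, `Ls`, `Qs`.  Auxiliary lemmas live in `Cfsg.Agent.Lib.Helper89_S92_EVAL`; the package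
theorems are in helper66's namespace under the names of the stubs (with the hypothesis
`hρ : IsAct X ρ` right after `ρ`).
-/

namespace Cfsg.Agent.Lib.Helper89_S92_EVAL

open Cfsg.Agent.Lib.Helper66_S92

variable {ι : Type*} [DecidableEq ι] {K : Type*} [Field K] {G : Type*} [Group G]
  {X : ι ⊕ ι → ι ⊕ ι → K → G}

theorem xact_single_ne (a c : ι ⊕ ι) (hac : c ≠ ng a) (hne : a ≠ c) (t : K) (d : ι ⊕ ι) :
    xact a c t (Pi.single d (1 : K)) =
      Pi.single d 1 - (if d = ng a then t * om K a else 0) • Pi.single c (1 : K)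
        - (if d = ng c then t * om K c else 0) • Pi.single a (1 : K) := by
  unfold xact
  rw [if_neg hac, if_neg hne]
  congr 1
  · congr 1
    ext x
    by_cases hx : x = c
    · subst hx
      by_cases hd : d = ng a
      · subst hd; simp
      · have : ng a ≠ d := fun h => hd h.symm
        simp [hd, this]
    · simp [hx]
  · ext x
    by_cases hx : x = a
    · subst hx
      by_cases hd : d = ng c
      · subst hd; simp
      · have : ng c ≠ d := fun h => hd h.symm
        simp [hd, this]
    · simp [hx]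

theorem xact_single_eq (a : ι ⊕ ι) (t : K) (d : ι ⊕ ι) :
    xact a a t (Pi.single d (1 : K)) =
      Pi.single d 1 - (if d = ng a then t * om K a else 0) • Pi.single a (1 : K) := by
  unfold xact
  rw [if_neg (ne_ng a), if_pos rfl]
  congr 1
  ext x
  by_cases hx : x = a
  · subst hx
    by_cases hd : d = ng x
    · subst hd; simp
    · have : ng x ≠ d := fun h => hd h.symm
      simp [hd, this]
  · simp [hx]

theorem om_cases (a : ι ⊕ ι) : om K a = 1 ∨ om K a = -1 := by
  cases a <;> simp

theorem sgC_sgC (a c : ι ⊕ ι) (hac : c ≠ ng a) (d : ι ⊕ ι) : sgC a c (sgC a c d) = d := by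
  have h1 : ng a ≠ a := ng_ne a
  have h2 : a ≠ ng a := ne_ng a
  have h3 : ng c ≠ c := ng_ne c
  have h4 : c ≠ ng c := ne_ng c
  have h7 : ng a ≠ c := fun h => hac h.symm
  have h8 : a ≠ ng c := fun h => hac (by rw [h, ng_ng])
  have h9 : ng c ≠ a := fun h => h8 h.symm
  unfold sgC
  by_cases hd1 : d = ng a
  · subst hd1
    simp [hac, h1, h2, h3, h4, h7, h8, h9]
  · by_cases hd2 : d = c
    · subst hd2
      simp [hac, h1, h2, h3, h4, h7, h8, h9]
    · by_cases hd3 : d = ng c
      · subst hd3
        have : a ≠ c := fun h => hd1 (by rw [h])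
        simp [hac, h1, h2, h3, h4, h7, h8, h9, hd1, this]
      · by_cases hd4 : d = a
        · subst hd4
          have : ng c ≠ ng d := fun h => hd2 (ng_injective h).symm
          simp [hac, h1, h2, h3, h4, h7, h8, h9, hd1, hd2, hd3, this]
        · simp [hd1, hd2, hd3, hd4]

theorem muC_sgC (a c : ι ⊕ ι) (hac : c ≠ ng a) (s : K) (hs : s ≠ 0) (d : ι ⊕ ι) :
    muC a c s (sgC a c d) = chC a c s d * muC a c (1 : K) (sgC a c d) := by
  have h1 : ng a ≠ a := ng_ne a
  have h2 : a ≠ ng a := ne_ng a
  have h3 : ng c ≠ c := ng_ne c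
  have h4 : c ≠ ng c := ne_ng c
  have h7 : ng a ≠ c := fun h => hac h.symm
  have h8 : a ≠ ng c := fun h => hac (by rw [h, ng_ng])
  have h9 : ng c ≠ a := fun h => h8 h.symm
  unfold sgC muC chC
  by_cases hd1 : d = ng a
  · subst hd1
    simp [hac, h1, h2, h3, h4, h7, h8, h9]
  · by_cases hd2 : d = c
    · subst hd2
      simp [hac, h1, h2, h3, h4, h7, h8, h9]
    · by_cases hd3 : d = ng c
      · subst hd3
        have : a ≠ c := fun h => hd1 (by rw [h])
        simp [hac, h1, h2, h3, h4, h7, h8, h9, hd1, this]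
        ring
      · by_cases hd4 : d = a
        · subst hd4
          have : ng c ≠ ng d := fun h => hd2 (ng_injective h).symm
          simp [hac, h1, h2, h3, h4, h7, h8, h9, hd1, hd2, hd3, this]
          ring
        · simp [hd1, hd2, hd3, hd4]

theorem muC_ne_zero (a c : ι ⊕ ι) (s : K) (hs : s ≠ 0) (d : ι ⊕ ι) : muC a c s d ≠ 0 := by
  unfold muC
  have o1 := om_ne_zero (K := K) a
  have o2 := om_ne_zero (K := K) c
  split_ifs <;> simp [hs, o1, o2]

section eval

variable (ρ : G →* Module.End K (ι ⊕ ι → K)) (hρ : IsAct X ρ)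
include hρ

theorem act_WC_long (a : ι ⊕ ι) (s : K) (hs : s ≠ 0) (d : ι ⊕ ι) :
    ρ (WC X a a s) (Pi.single d 1) = muC a a s d • Pi.single (sgC a a d) 1 := by
  have e1 : ∀ (t : K) (d : ι ⊕ ι), ρ (X a a t) (Pi.single d 1) =
      Pi.single d 1 - (if d = ng a then t * om K a else 0) • Pi.single a (1 : K) := fun t d => by
    rw [hρ, xact_single_eq]
  have e2 : ∀ (t : K) (d : ι ⊕ ι), ρ (X (ng a) (ng a) t) (Pi.single d 1) =
      Pi.single d 1 - (if d = a then t * om K (ng a) else 0) • Pi.single (ng a) (1 : K) :=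
    fun t d => by
    rw [hρ, xact_single_eq, ng_ng]
  have h1 : ng a ≠ a := ng_ne a
  have h2 : a ≠ ng a := ne_ng a
  rw [WC_eq, map_mul, map_mul, Module.End.mul_apply, Module.End.mul_apply]
  unfold muC sgC
  by_cases hd1 : d = ng a
  · subst hd1
    simp only [e1, e2, map_sub, map_smul, if_true, if_neg h1, if_neg h2, if_pos, om_ng]
    rcases om_cases (K := K) a with h | h <;> rw [h] <;> match_scalars <;> field_simp <;> ring
  · by_cases hd2 : d = a
    · subst hd2
      simp only [e1, e2, map_sub, map_smul, if_true, if_neg h1, if_neg h2, if_pos, om_ng]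
      rcases om_cases (K := K) d with h | h <;> rw [h] <;> match_scalars <;> field_simp <;> ring
    · simp only [e1, e2, map_sub, map_smul, if_true, if_neg hd1, if_neg hd2, if_pos, om_ng]
      match_scalars <;> ring

theorem act_WC_short (a c : ι ⊕ ι) (hac : c ≠ ng a) (hne : a ≠ c) (s : K) (hs : s ≠ 0)
    (d : ι ⊕ ι) :
    ρ (WC X a c s) (Pi.single d 1) = muC a c s d • Pi.single (sgC a c d) 1 := by
  have hac' : ng c ≠ ng (ng a) := fun h => hac (ng_injective h)
  have hne' : ng a ≠ ng c := fun h => hne (ng_injective h)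
  have e1 : ∀ (t : K) (d : ι ⊕ ι), ρ (X a c t) (Pi.single d 1) =
      Pi.single d 1 - (if d = ng a then t * om K a else 0) • Pi.single c (1 : K)
        - (if d = ng c then t * om K c else 0) • Pi.single a (1 : K) := fun t d => by
    rw [hρ, xact_single_ne a c hac hne]
  have e2 : ∀ (t : K) (d : ι ⊕ ι), ρ (X (ng a) (ng c) t) (Pi.single d 1) =
      Pi.single d 1 - (if d = a then t * om K (ng a) else 0) • Pi.single (ng c) (1 : K)
        - (if d = c then t * om K (ng c) else 0) • Pi.single (ng a) (1 : K) := fun t d => by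
    rw [hρ, xact_single_ne (ng a) (ng c) hac' hne', ng_ng, ng_ng]
  have h1 : ng a ≠ a := ng_ne a
  have h2 : a ≠ ng a := ne_ng a
  have h3 : ng c ≠ c := ng_ne c
  have h4 : c ≠ ng c := ne_ng c
  have h5 : c ≠ a := fun h => hne h.symm
  have h6 : ng c ≠ ng a := fun h => hne' h.symm
  have h7 : ng a ≠ c := fun h => hac h.symm
  have h8 : a ≠ ng c := fun h => hac (by rw [h, ng_ng])
  have h9 : ng c ≠ a := fun h => h8 h.symm
  rw [WC_eq, map_mul, map_mul, Module.End.mul_apply, Module.End.mul_apply]
  unfold muC sgC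
  by_cases hd1 : d = ng a
  · subst hd1
    simp only [e1, e2, map_sub, map_smul, if_true, if_neg h1, if_neg h2, if_neg h3, if_neg h4,
      if_neg h5, if_neg h6, if_neg h7, if_neg h8, if_neg h9, if_neg hne, if_neg hac,
      if_neg hne', om_ng]
    rcases om_cases (K := K) a with h | h <;> rcases om_cases (K := K) c with h' | h' <;>
      rw [h, h'] <;> match_scalars <;> field_simp <;> ring
  · by_cases hd2 : d = c
    · subst hd2
      simp only [e1, e2, map_sub, map_smul, if_true, if_neg h1, if_neg h2, if_neg h3, if_neg h4,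
        if_neg h5, if_neg h6, if_neg h7, if_neg h8, if_neg h9, if_neg hne, if_neg hac,
        if_neg hne', om_ng]
      rcases om_cases (K := K) a with h | h <;> rcases om_cases (K := K) d with h' | h' <;>
        rw [h, h'] <;> match_scalars <;> field_simp <;> ring
    · by_cases hd3 : d = ng c
      · subst hd3
        simp only [e1, e2, map_sub, map_smul, if_true, if_neg h1, if_neg h2, if_neg h3, if_neg h4,
          if_neg h5, if_neg h6, if_neg h7, if_neg h8, if_neg h9, if_neg hne, if_neg hac,
          if_neg hne', om_ng]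
        rcases om_cases (K := K) a with h | h <;> rcases om_cases (K := K) c with h' | h' <;>
          rw [h, h'] <;> match_scalars <;> field_simp <;> ring
      · by_cases hd4 : d = a
        · subst hd4
          simp only [e1, e2, map_sub, map_smul, if_true, if_neg h1, if_neg h2, if_neg h3,
            if_neg h4, if_neg h5, if_neg h6, if_neg h7, if_neg h8, if_neg h9, if_neg hne,
            if_neg hac, if_neg hne', om_ng]
          rcases om_cases (K := K) d with h | h <;> rcases om_cases (K := K) c with h' | h' <;>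
            rw [h, h'] <;> match_scalars <;> field_simp <;> ring
        · simp only [e1, e2, map_sub, map_smul, if_true, if_neg hd1, if_neg hd2, if_neg hd3,
            if_neg hd4]
          match_scalars <;> ring

end eval

end Cfsg.Agent.Lib.Helper89_S92_EVAL

namespace Cfsg.Agent.Lib.Helper66_S92

open Cfsg.Agent.Lib.Helper89_S92_EVAL

variable {ι : Type*} [DecidableEq ι] {K : Type*} [Field K] {G : Type*} [Group G]
  {X : ι ⊕ ι → ι ⊕ ι → K → G}

section eval

variable (ρ : G →* Module.End K (ι ⊕ ι → K)) (hρ : IsAct X ρ)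
include hρ

theorem act_WC (a c : ι ⊕ ι) (hac : c ≠ ng a) (s : K) (hs : s ≠ 0) (d : ι ⊕ ι) :
    ρ (WC X a c s) (Pi.single d 1) = muC a c s d • Pi.single (sgC a c d) 1 := by
  by_cases hne : a = c
  · subst hne
    exact act_WC_long ρ hρ a s hs d
  · exact act_WC_short ρ hρ a c hac hne s hs d

theorem act_HC (a c : ι ⊕ ι) (hac : c ≠ ng a) (s : K) (hs : s ≠ 0) (d : ι ⊕ ι) :
    ρ (HC X a c s) (Pi.single d 1) = chC a c s d • Pi.single d 1 := by
  have hm : muC a c (1 : K) (sgC a c d) ≠ 0 := muC_ne_zero a c 1 one_ne_zero _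
  have e1 := act_WC ρ hρ a c hac 1 one_ne_zero (sgC a c d)
  have e2 := act_WC ρ hρ a c hac s hs (sgC a c d)
  rw [sgC_sgC a c hac] at e1 e2
  have e3 : HC X a c s * WC X a c 1 = WC X a c s := by
    unfold HC
    rw [inv_mul_cancel_right]
  rw [← e3, map_mul, Module.End.mul_apply, e1, map_smul, muC_sgC a c hac s hs] at e2
  have := congrArg (fun v => (muC a c (1 : K) (sgC a c d))⁻¹ • v) e2
  simp only [smul_smul] at this
  rw [inv_mul_cancel₀ hm, one_smul] at this
  rw [this]
  congr 1
  field_simp

theorem act_dC (o k : ι ⊕ ι) (s : K) (hs : s ≠ 0) :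
    ρ (dC X o k s) (Pi.single o 1) = s • Pi.single k 1 := by
  unfold dC
  by_cases hk : k = o
  · subst hk
    rw [if_pos rfl, act_HC ρ hρ k k (ne_ng k) s hs]
    unfold chC
    simp
  · rw [if_neg hk, act_WC ρ hρ (ng o) k (by rw [ng_ng]; exact hk) s hs]
    unfold muC sgC
    simp

theorem act_Gs (o : ι ⊕ ι) {g : G} (hg : g ∈ Gs X o) :
    ρ g (Pi.single o 1) = Pi.single o 1 := by
  unfold Gs at hg
  induction hg using Subgroup.closure_induction with
  | mem x hx =>
    obtain ⟨a, c, t, ha, hc, rfl⟩ := hx
    rw [hρ]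
    have ha' : o ≠ ng a := fun h => ha (by rw [h, ng_ng])
    have hc' : o ≠ ng c := fun h => hc (by rw [h, ng_ng])
    unfold xact
    split_ifs
    · rfl
    · simp [Pi.single_apply, ha'.symm]
    · simp [Pi.single_apply, ha'.symm, hc'.symm]
  | one => simp
  | mul x y _ _ hx hy => rw [map_mul, Module.End.mul_apply, hy, hx]
  | inv x _ hx =>
    have := congrArg (ρ x⁻¹) hx
    rw [← Module.End.mul_apply, ← map_mul, inv_mul_cancel, map_one] at this
    exact this.symm

theorem act_Ls (o : ι ⊕ ι) {g : G} (hg : g ∈ Ls X o) :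
    ρ g (Pi.single (ng o) 1) = Pi.single (ng o) 1 := by
  unfold Ls at hg
  induction hg using Subgroup.closure_induction with
  | mem x hx =>
    obtain ⟨a, c, t, ha, ha2, hc, hc2, rfl⟩ := hx
    rw [hρ]
    have ha' : ng a ≠ ng o := fun h => ha (ng_injective h)
    have hc' : ng c ≠ ng o := fun h => hc (ng_injective h)
    unfold xact
    split_ifs
    · rfl
    · simp [Pi.single_apply, ha']
    · simp [Pi.single_apply, ha', hc']
  | one => simp
  | mul x y _ _ hx hy => rw [map_mul, Module.End.mul_apply, hy, hx]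
  | inv x _ hx =>
    have := congrArg (ρ x⁻¹) hx
    rw [← Module.End.mul_apply, ← map_mul, inv_mul_cancel, map_one] at this
    exact this.symm

/-- elements of `Qs X j` do not change the coordinate `ng j` -/
theorem act_Qs_ng (j : ι ⊕ ι) {q : G} (hq : q ∈ Qs X j) (v : ι ⊕ ι → K) :
    ρ q v (ng j) = v (ng j) := by
  unfold Qs at hq
  induction hq using Subgroup.closure_induction generalizing v with
  | mem x hx =>
    obtain ⟨c, t, hc, rfl⟩ := hx
    rw [hρ]
    unfold xact
    split_ifs
    · rfl
    · simp [Pi.single_apply, ng_ne j]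
    · simp [Pi.single_apply, ng_ne j, hc.symm]
  | one => simp
  | mul x y _ _ hx hy => rw [map_mul, Module.End.mul_apply, hx, hy]
  | inv x _ hx =>
    have := hx (ρ x⁻¹ v)
    rw [← Module.End.mul_apply, ← map_mul, mul_inv_cancel, map_one] at this
    exact this.symm

/-- the generators `X j c t` with `c ≠ e` do not change the coordinate `e ≠ j` -/
theorem act_Qs_ne (j e : ι ⊕ ι) (hej : e ≠ j) {q : G}
    (hq : q ∈ Subgroup.closure {g | ∃ c t, c ≠ ng j ∧ c ≠ e ∧ g = X j c t}) (v : ι ⊕ ι → K) :
    ρ q v e = v e := by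
  induction hq using Subgroup.closure_induction generalizing v with
  | mem x hx =>
    obtain ⟨c, t, hc, hce, rfl⟩ := hx
    rw [hρ]
    unfold xact
    split_ifs
    · rfl
    · simp [Pi.single_apply, hej]
    · simp [Pi.single_apply, hej, hce.symm]
  | one => simp
  | mul x y _ _ hx hy => rw [map_mul, Module.End.mul_apply, hx, hy]
  | inv x _ hx =>
    have := hx (ρ x⁻¹ v)
    rw [← Module.End.mul_apply, ← map_mul, mul_inv_cancel, map_one] at this
    exact this.symm

end eval

end Cfsg.Agent.Lib.Helper66_S92
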