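import Mathlib
import Cfsg.Agent.Lib.Helper66_S92LiftDefs
import Cfsg.Agent.Lib.Helper66_S92Lift2Defs
import Cfsg.Agent.Lib.Helper66_S92Rank
import Cfsg.Agent.Lib.Helper89_S92_EVAL

set_option autoImplicit false
set_option linter.unusedVariables false
set_option linter.unusedSectionVars false

/-!
Package L2_TRIPLE of the S2092 market (architect helper66): over the field with two elements the
Weyl elements act on the basis vectors as permutations of the indices, and the group is transitive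
on triples of indices in distinct hyperbolic pairs.
-/

namespace Cfsg.Agent.Lib.Helper66_S92

open Cfsg.Agent.Lib.Helper81_UceA Cfsg.Agent.Lib.Helper5_SteinbergA

variable {ι : Type*} [DecidableEq ι] [Fintype ι] {K : Type*} [Field K] {S E : Type*} [Group S]
  [Group E] {π : E →* S} {XM : ι ⊕ ι → ι ⊕ ι → K → S}

namespace H60T

omit [Fintype ι] in
theorem sgC_ng (a c d : ι ⊕ ι) (hac : c ≠ ng a) : sgC a c (ng d) = ng (sgC a c d) := by
  have h1 : ng a ≠ a := ng_ne a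
  have h2 : ng c ≠ c := ng_ne c
  have h3 : ng d ≠ d := ng_ne d
  unfold sgC
  split_ifs <;> simp_all [ng_eq_iff]

omit [DecidableEq ι] [Fintype ι] in
theorem eq_one_of_ne_zero (hcard : Nat.card K = 2) {x : K} (hx : x ≠ 0) : x = 1 := by
  have h1 : Nat.card Kˣ = 1 := by rw [Nat.card_units, hcard]
  have hfin : Finite Kˣ := Nat.finite_of_card_ne_zero (by rw [h1]; exact one_ne_zero)
  have hsub : Subsingleton Kˣ := (Nat.card_eq_one_iff_unique.mp h1).1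
  have := Subsingleton.elim (Units.mk0 x hx) 1
  have h2 := congrArg Units.val this
  simpa using h2

/-- an element acting on the basis vectors as the permutation `σ` of the indices -/
def IsPerm (ρ : S →* Module.End K (ι ⊕ ι → K)) (g : S) (σ : ι ⊕ ι → ι ⊕ ι) : Prop :=
  (∀ d, ρ g (Pi.single d 1) = Pi.single (σ d) 1) ∧ (∀ d, σ (ng d) = ng (σ d)) ∧
    Function.Injective σ

omit [Fintype ι] in
theorem isPerm_WC (ρ : S →* Module.End K (ι ⊕ ι → K)) (hρ : IsAct XM ρ)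
    (hcard : Nat.card K = 2) (a c : ι ⊕ ι) (hac : c ≠ ng a) :
    IsPerm ρ (WC XM a c 1) (sgC a c) := by
  refine ⟨fun d => ?_, fun d => sgC_ng a c d hac, ?_⟩
  · rw [act_WC ρ hρ a c hac 1 one_ne_zero d,
      eq_one_of_ne_zero hcard (Cfsg.Agent.Lib.Helper89_S92_EVAL.muC_ne_zero a c 1 one_ne_zero d),
      one_smul]
  · intro d d' h
    have := congrArg (sgC a c) h
    rwa [Cfsg.Agent.Lib.Helper89_S92_EVAL.sgC_sgC a c hac,
      Cfsg.Agent.Lib.Helper89_S92_EVAL.sgC_sgC a c hac] at this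

omit [Fintype ι] in
/-- moving the index `x` to `y`, fixing the indices outside the two hyperbolic pairs -/
theorem move (ρ : S →* Module.End K (ι ⊕ ι → K)) (hρ : IsAct XM ρ) (hcard : Nat.card K = 2)
    (x y : ι ⊕ ι) :
    ∃ (g : S) (σ : ι ⊕ ι → ι ⊕ ι), IsPerm ρ g σ ∧ σ x = y ∧
      ∀ d, d ≠ x → d ≠ ng x → d ≠ y → d ≠ ng y → σ d = d := by
  by_cases hxy : y = x
  · subst hxy
    refine ⟨1, id, ⟨fun d => ?_, fun d => rfl, Function.injective_id⟩, rfl, fun d _ _ _ _ => rfl⟩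
    rw [map_one]
    rfl
  · by_cases hxy' : y = ng x
    · subst hxy'
      refine ⟨WC XM x x 1, sgC x x, isPerm_WC ρ hρ hcard x x (ne_ng x), ?_, ?_⟩
      · unfold sgC
        rw [if_neg (ne_ng x), if_pos rfl]
      · intro d h1 h2 _ _
        unfold sgC
        rw [if_neg h2, if_neg h1, if_neg h2, if_neg h1]
    · have hy : y ≠ ng (ng x) := by rw [ng_ng]; exact hxy
      refine ⟨WC XM (ng x) y 1, sgC (ng x) y, isPerm_WC ρ hρ hcard (ng x) y hy, ?_, ?_⟩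
      · unfold sgC
        rw [ng_ng, if_pos rfl]
      · intro d h1 h2 h3 h4
        unfold sgC
        rw [ng_ng, if_neg h1, if_neg h3, if_neg h4, if_neg h2]

end H60T

theorem act_triple (hXM : CSt XM) (ρ : S →* Module.End K (ι ⊕ ι → K)) (hρ : IsAct XM ρ)
    (hcard : Nat.card K = 2) (a₀ e₀ f₀ a e f : ι ⊕ ι)
    (h1 : e₀ ≠ a₀) (h2 : e₀ ≠ ng a₀) (h3 : f₀ ≠ a₀) (h4 : f₀ ≠ ng a₀) (h5 : f₀ ≠ e₀) (h6 : f₀ ≠ ng e₀)
    (k1 : e ≠ a) (k2 : e ≠ ng a) (k3 : f ≠ a) (k4 : f ≠ ng a) (k5 : f ≠ e) (k6 : f ≠ ng e) :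
    ∃ g : S, ρ g (Pi.single a₀ 1) = Pi.single a 1 ∧ ρ g (Pi.single e₀ 1) = Pi.single e 1 ∧
      ρ g (Pi.single f₀ 1) = Pi.single f 1 := by
  have ngne : ∀ {x y : ι ⊕ ι}, x ≠ ng y → y ≠ ng x := fun {x y} h h' => h (by rw [h', ng_ng])
  -- step 1
  obtain ⟨g₁, σ₁, ⟨p₁, n₁, i₁⟩, hx₁, -⟩ := H60T.move ρ hρ hcard a₀ a
  have e1a : σ₁ e₀ ≠ a := fun h => h1 (i₁ (h.trans hx₁.symm))
  have e1a' : σ₁ e₀ ≠ ng a := fun h => h2 (i₁ (by rw [h, n₁, hx₁]))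
  have f1a : σ₁ f₀ ≠ a := fun h => h3 (i₁ (h.trans hx₁.symm))
  have f1a' : σ₁ f₀ ≠ ng a := fun h => h4 (i₁ (by rw [h, n₁, hx₁]))
  have f1e : σ₁ f₀ ≠ σ₁ e₀ := fun h => h5 (i₁ h)
  have f1e' : σ₁ f₀ ≠ ng (σ₁ e₀) := fun h => h6 (i₁ (by rw [h, n₁]))
  -- step 2
  obtain ⟨g₂, σ₂, ⟨p₂, n₂, i₂⟩, hx₂, fx₂⟩ := H60T.move ρ hρ hcard (σ₁ e₀) e
  have a2 : σ₂ a = a := fx₂ a (Ne.symm e1a) (ngne e1a') (Ne.symm k1) (ngne k2)
  have f2a : σ₂ (σ₁ f₀) ≠ a := fun h => f1a (i₂ (h.trans a2.symm))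
  have f2a' : σ₂ (σ₁ f₀) ≠ ng a := fun h => f1a' (i₂ (by rw [h, n₂, a2]))
  have f2e : σ₂ (σ₁ f₀) ≠ e := fun h => f1e (i₂ (h.trans hx₂.symm))
  have f2e' : σ₂ (σ₁ f₀) ≠ ng e := fun h => f1e' (i₂ (by rw [h, n₂, hx₂]))
  -- step 3
  obtain ⟨g₃, σ₃, ⟨p₃, n₃, i₃⟩, hx₃, fx₃⟩ := H60T.move ρ hρ hcard (σ₂ (σ₁ f₀)) f
  have a3 : σ₃ a = a := fx₃ a (Ne.symm f2a) (ngne f2a') (Ne.symm k3) (ngne k4)
  have e3 : σ₃ e = e := fx₃ e (Ne.symm f2e) (ngne f2e') (Ne.symm k5) (ngne k6)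
  refine ⟨g₃ * g₂ * g₁, ?_, ?_, ?_⟩
  · rw [map_mul, map_mul, Module.End.mul_apply, Module.End.mul_apply, p₁, p₂, p₃, hx₁, a2, a3]
  · rw [map_mul, map_mul, Module.End.mul_apply, Module.End.mul_apply, p₁, p₂, p₃, hx₂, e3]
  · rw [map_mul, map_mul, Module.End.mul_apply, Module.End.mul_apply, p₁, p₂, p₃, hx₃]

end Cfsg.Agent.Lib.Helper66_S92
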