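import Mathlib
import Cfsg.Agent.Lib.Helper66_S92LiftDefs
import Cfsg.Agent.Lib.Helper66_S92Lift2Defs
import Cfsg.Agent.Lib.Helper66_S92Rank
import Cfsg.Agent.Lib.Helper41_S92_L2_PERF

/-!
# S2092 package L2_CENT (helper5 for helper66): lifts of the (perfect) vector stabiliser `Gs XM o` commute with
lifts of the long root elements `XM o o t`.

`lift_Gs_comm_aux` takes the statement of L2_PERF (`Gs XM o ≤ ⁅Gs XM o, Gs XM o⁆`) as a hypothesis;
`lift_Gs_comm` is the verbatim package statement.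
-/

set_option autoImplicit false
set_option linter.unusedVariables false
set_option linter.unusedSectionVars false

namespace Cfsg.Agent.Lib.Helper66_S92

open Cfsg.Agent.Lib.Helper81_UceA Cfsg.Agent.Lib.Helper5_SteinbergA
open scoped commutatorElement

variable {ι : Type*} [DecidableEq ι] [Fintype ι] {K : Type*} [Field K] {S E : Type*} [Group S] [Group E]
  {π : E →* S} {XM : ι ⊕ ι → ι ⊕ ι → K → S}

/-- central-commutator trick: if `H ≤ E` and every `e ∈ H` has `e x e⁻¹ x⁻¹` central, then the commutator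
subgroup of `H` centralises `x`. -/
theorem h5lc_comm_centralizes {E : Type*} [Group E] (H : Subgroup E) (x : E)
    (hc : ∀ e ∈ H, e * x * e⁻¹ * x⁻¹ ∈ Subgroup.center E) :
    ∀ e ∈ ⁅H, H⁆, e * x = x * e := by
  -- multiplicativity of `e ↦ e x e⁻¹ x⁻¹` on `H`
  have hmul : ∀ e₁ ∈ H, ∀ e₂ ∈ H, (e₁ * e₂) * x * (e₁ * e₂)⁻¹ * x⁻¹ =
      (e₁ * x * e₁⁻¹ * x⁻¹) * (e₂ * x * e₂⁻¹ * x⁻¹) := by
    intro e₁ h₁ e₂ h₂
    obtain ⟨k₂, hk₂⟩ : ∃ k, k = e₂ * x * e₂⁻¹ * x⁻¹ := ⟨_, rfl⟩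
    have hk₂c : k₂ ∈ Subgroup.center E := by rw [hk₂]; exact hc e₂ h₂
    have hcm : e₁ * k₂ = k₂ * e₁ := Subgroup.mem_center_iff.mp hk₂c e₁
    have hcm2 : (e₁ * x * e₁⁻¹ * x⁻¹) * k₂ = k₂ * (e₁ * x * e₁⁻¹ * x⁻¹) :=
      Subgroup.mem_center_iff.mp hk₂c _
    rw [← hk₂, hcm2]
    calc (e₁ * e₂) * x * (e₁ * e₂)⁻¹ * x⁻¹
        = e₁ * (e₂ * x * e₂⁻¹ * x⁻¹) * (x * e₁⁻¹ * x⁻¹) := by group
      _ = e₁ * k₂ * (x * e₁⁻¹ * x⁻¹) := by rw [hk₂]
      _ = k₂ * e₁ * (x * e₁⁻¹ * x⁻¹) := by rw [hcm]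
      _ = k₂ * (e₁ * x * e₁⁻¹ * x⁻¹) := by group
  -- the homomorphism into the centre
  let φ : ↥H →* ↥(Subgroup.center E) := MonoidHom.mk'
    (fun e => ⟨(e : E) * x * (e : E)⁻¹ * x⁻¹, hc e e.2⟩)
    (fun a b => Subtype.ext (by
      show ((a * b : ↥H) : E) * x * ((a * b : ↥H) : E)⁻¹ * x⁻¹ = _
      rw [Subgroup.coe_mul]
      exact hmul a a.2 b b.2))
  have hφ : ∀ e : ↥H, ((φ e : ↥(Subgroup.center E)) : E) = (e : E) * x * (e : E)⁻¹ * x⁻¹ :=
    fun e => rfl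
  -- commutators are killed
  have hkill : ∀ e₁ ∈ H, ∀ e₂ ∈ H, ⁅e₁, e₂⁆ * x = x * ⁅e₁, e₂⁆ := by
    intro e₁ h₁ e₂ h₂
    have h1 : φ ⁅(⟨e₁, h₁⟩ : ↥H), ⟨e₂, h₂⟩⁆ = 1 := by
      rw [map_commutatorElement]
      refine commutatorElement_eq_one_iff_commute.mpr (Subtype.ext ?_)
      rw [Subgroup.coe_mul, Subgroup.coe_mul]
      exact Subgroup.mem_center_iff.mp (φ ⟨e₂, h₂⟩).2 _
    have h2 := congrArg (fun z : ↥(Subgroup.center E) => (z : E)) h1
    simp only [hφ, Subgroup.coe_one] at h2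
    have h3 : ((⁅(⟨e₁, h₁⟩ : ↥H), ⟨e₂, h₂⟩⁆ : ↥H) : E) = ⁅e₁, e₂⁆ := rfl
    rw [h3] at h2
    calc ⁅e₁, e₂⁆ * x = (⁅e₁, e₂⁆ * x * ⁅e₁, e₂⁆⁻¹ * x⁻¹) * x * ⁅e₁, e₂⁆ := by group
      _ = x * ⁅e₁, e₂⁆ := by rw [h2, one_mul]
  -- closure
  intro e he
  have hle : ⁅H, H⁆ ≤ Subgroup.centralizer ({x} : Set E) := by
    rw [Subgroup.commutator_le]
    intro e₁ h₁ e₂ h₂
    rw [Subgroup.mem_centralizer_iff]
    intro y hy
    rw [Set.mem_singleton_iff] at hy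
    rw [hy]
    exact (hkill e₁ h₁ e₂ h₂).symm
  have := hle he
  rw [Subgroup.mem_centralizer_iff] at this
  exact (this x rfl).symm

/-- L2_CENT with the statement of L2_PERF as a hypothesis -/
theorem lift_Gs_comm_aux (hXM : CStAB XM) (hπ : CExt π) (o : ι ⊕ ι) (t : K)
    (hperf : Gs XM o ≤ ⁅Gs XM o, Gs XM o⁆)
    {e x : E} (he : π e ∈ Gs XM o) (hx : π x = XM o o t) : e * x = x * e := by
  -- `Gs` centralises `XM o o t`
  have hcent : ∀ g ∈ Gs XM o, g * XM o o t = XM o o t * g := by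
    have hle : Gs XM o ≤ Subgroup.centralizer ({XM o o t} : Set S) := by
      unfold Gs
      rw [Subgroup.closure_le]
      rintro g ⟨a, c, u, ha, hc, rfl⟩
      rw [SetLike.mem_coe, Subgroup.mem_centralizer_iff]
      intro y hy
      rw [Set.mem_singleton_iff] at hy
      rw [hy]
      exact (hXM.comm a c o o u t (fun h => ha (by rw [h, ng_ng])) (fun h => hc (by rw [h, ng_ng]))
        (fun h => ha (by rw [h, ng_ng])) (fun h => hc (by rw [h, ng_ng]))).symm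
    intro g hg
    have := hle hg
    rw [Subgroup.mem_centralizer_iff] at this
    exact (this _ rfl).symm
  -- the preimage
  have hH : ∀ e' ∈ (Gs XM o).comap π, e' * x * e'⁻¹ * x⁻¹ ∈ Subgroup.center E := by
    intro e' he'
    apply hπ.central
    rw [MonoidHom.mem_ker, map_mul, map_mul, map_mul, map_inv, map_inv, hx,
      hcent (π e') he']
    group
  have hkey := h5lc_comm_centralizes ((Gs XM o).comap π) x hH
  -- `e = e' * k`
  have h1 : π e ∈ Subgroup.map π ⁅(Gs XM o).comap π, (Gs XM o).comap π⁆ := by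
    rw [Subgroup.map_commutator, Subgroup.map_comap_eq_self_of_surjective hπ.surj]
    exact hperf he
  obtain ⟨e', he', hee'⟩ := h1
  have hk : π (e'⁻¹ * e) = 1 := by rw [map_mul, map_inv, hee', inv_mul_cancel]
  have hkc := hπ.comm_of_ker hk x
  have he'x := hkey e' he'
  calc e * x = e' * ((e'⁻¹ * e) * x) := by group
    _ = e' * (x * (e'⁻¹ * e)) := by rw [hkc]
    _ = (e' * x) * (e'⁻¹ * e) := by group
    _ = (x * e') * (e'⁻¹ * e) := by rw [he'x]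
    _ = x * e := by group

/-- **L2_CENT**, verbatim (L2_PERF by helper41).
lifts of the vector stabiliser commute with lifts of the long root elements `XM o o t` -/
theorem lift_Gs_comm (hXM : CStAB XM) (hπ : CExt π) (h4 : 4 ≤ Fintype.card ι) (o : ι ⊕ ι) (t : K)
    {e x : E} (he : π e ∈ Gs XM o) (hx : π x = XM o o t) : e * x = x * e :=
  lift_Gs_comm_aux hXM hπ o t (Gs_perfect hXM h4 o) he hx

end Cfsg.Agent.Lib.Helper66_S92
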