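import Mathlib
import Cfsg.Agent.Lib.Helper66_S92LiftDefs
import Cfsg.Agent.Lib.Helper66_S92Lift2Defs

set_option autoImplicit false
set_option linter.unusedVariables false
set_option linter.unusedSectionVars false

/-!
Package L2_TAU of helper66's `s92_packages` market (S2092, wave 2b): the equivariant section `τ`
on the class of transvections of a central extension of `Sp_2m(2)`.  `exists_tau_of` is the
statement with its three inputs (`lift_Gs_comm`, `act_trans`, `act_conj_long` at `t = 1`) and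
`1 + 1 = 0` as hypotheses.
-/

namespace Cfsg.Agent.Lib.Helper89_S92_TAU

open Cfsg.Agent.Lib.Helper81_UceA Cfsg.Agent.Lib.Helper66_S92

variable {ι : Type*} [DecidableEq ι] [Fintype ι] {K : Type*} [Field K] {S E : Type*} [Group S]
  [Group E] {π : E →* S} {XM : ι ⊕ ι → ι ⊕ ι → K → S}

/-- `1 + 1 = 0` in a field with two elements -/
theorem one_add_one_of_card (hcard : Nat.card K = 2) : (1 : K) + 1 = 0 := by
  have : Finite K := Nat.finite_of_card_ne_zero (by rw [hcard]; norm_num)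
  have : Fintype K := Fintype.ofFinite K
  have h1 : (Fintype.card K : K) = 0 := Nat.cast_card_eq_zero K
  rw [← Nat.card_eq_fintype_card, hcard] at h1
  have : ((2 : ℕ) : K) = 1 + 1 := by norm_num
  rw [← this]
  exact h1

/-- the equivariant section on the class of transvections, from the three inputs
(`lift_Gs_comm`, `act_trans`, `act_conj_long`) -/
theorem exists_tau_of (hXM : CStAB XM) (hπ : CExt π) (ρ : S →* Module.End K (ι ⊕ ι → K))
    (o : ι ⊕ ι) (h2 : (1 : K) + 1 = 0)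
    (hstab : ∀ g : S, ρ g (Pi.single o 1) = Pi.single o 1 → g ∈ Gs XM o)
    (hcomm : ∀ {e x : E}, π e ∈ Gs XM o → π x = XM o o 1 → e * x = x * e)
    (htrans : ∀ v : ι ⊕ ι → K, v ≠ 0 → ∃ g : S, ρ g (Pi.single o 1) = v)
    (hconj : ∀ (g : S) (x : ι ⊕ ι → K), ρ (g * XM o o 1 * g⁻¹) x =
      x + (1 * Bst x (ρ g (Pi.single o 1))) • ρ g (Pi.single o 1)) :
    ∃ (τ : (ι ⊕ ι → K) → E) (a₀ : E), π a₀ = 1 ∧
      (∀ v, v ≠ 0 → ∀ e : E, e * τ v * e⁻¹ = τ (ρ (π e) v)) ∧
      (∀ v, v ≠ 0 → ∀ x, ρ (π (τ v)) x = x + Bst x v • v) ∧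
      (∀ v, v ≠ 0 → τ v * τ v = a₀) := by
  classical
  -- the base lift
  obtain ⟨x₀, hx₀⟩ := hπ.surj (XM o o 1)
  -- chosen elements of `E` moving `b_o` to `v`
  have hex : ∀ v : ι ⊕ ι → K, v ≠ 0 → ∃ g : E, ρ (π g) (Pi.single o 1) = v := by
    intro v hv
    obtain ⟨g, hg⟩ := htrans v hv
    obtain ⟨e, he⟩ := hπ.surj g
    exact ⟨e, by rw [he]; exact hg⟩
  -- independence of the choice
  have hind : ∀ g g' : E, ρ (π g) (Pi.single o 1) = ρ (π g') (Pi.single o 1) →
      g * x₀ * g⁻¹ = g' * x₀ * g'⁻¹ := by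
    intro g g' hgg
    have h1 : ρ (π (g⁻¹ * g')) (Pi.single o 1) = Pi.single o 1 := by
      rw [map_mul, map_mul, Module.End.mul_apply, ← hgg, ← Module.End.mul_apply, ← map_mul,
        ← map_mul, inv_mul_cancel, map_one, map_one]
      rfl
    have h3 := hcomm (hstab _ h1) hx₀
    calc g * x₀ * g⁻¹ = g * (x₀ * (g⁻¹ * g')) * g'⁻¹ := by group
      _ = g * ((g⁻¹ * g') * x₀) * g'⁻¹ := by rw [h3]
      _ = g' * x₀ * g'⁻¹ := by group
  -- invertibility: images of nonzero vectors are nonzero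
  have hne : ∀ (e : E) (v : ι ⊕ ι → K), v ≠ 0 → ρ (π e) v ≠ 0 := by
    intro e v hv h0
    apply hv
    have : ρ (π e⁻¹) (ρ (π e) v) = v := by
      rw [← Module.End.mul_apply, ← map_mul, ← map_mul, inv_mul_cancel, map_one, map_one]
      rfl
    rw [← this, h0, map_zero]
  let τ : (ι ⊕ ι → K) → E := fun v =>
    if hv : v ≠ 0 then (hex v hv).choose * x₀ * ((hex v hv).choose)⁻¹ else 1
  have hτ : ∀ v (hv : v ≠ 0), τ v = (hex v hv).choose * x₀ * ((hex v hv).choose)⁻¹ := by
    intro v hv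
    show (if hv : v ≠ 0 then (hex v hv).choose * x₀ * ((hex v hv).choose)⁻¹ else 1) = _
    rw [dif_pos hv]
  have hch : ∀ v (hv : v ≠ 0), ρ (π (hex v hv).choose) (Pi.single o 1) = v :=
    fun v hv => (hex v hv).choose_spec
  have ha₀ : π (x₀ * x₀) = 1 := by
    rw [map_mul, hx₀, hXM.add, h2, hXM.X_zero]
  refine ⟨τ, x₀ * x₀, ha₀, ?_, ?_, ?_⟩
  · intro v hv e
    have hw := hne e v hv
    rw [hτ v hv, hτ _ hw]
    have : e * ((hex v hv).choose * x₀ * ((hex v hv).choose)⁻¹) * e⁻¹ =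
        (e * (hex v hv).choose) * x₀ * (e * (hex v hv).choose)⁻¹ := by group
    rw [this]
    apply hind
    rw [map_mul, map_mul, Module.End.mul_apply, hch v hv, hch _ hw]
  · intro v hv x
    have e1 : π ((hex v hv).choose * x₀ * ((hex v hv).choose)⁻¹) =
        π (hex v hv).choose * XM o o 1 * (π (hex v hv).choose)⁻¹ := by
      rw [map_mul, map_mul, map_inv, hx₀]
    rw [hτ v hv, e1, hconj, hch v hv, one_mul]
  · intro v hv
    rw [hτ v hv]
    have hc := ker_comm hπ ha₀ ((hex v hv).choose)⁻¹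
    calc (hex v hv).choose * x₀ * ((hex v hv).choose)⁻¹ *
          ((hex v hv).choose * x₀ * ((hex v hv).choose)⁻¹)
        = (hex v hv).choose * ((x₀ * x₀) * ((hex v hv).choose)⁻¹) := by group
      _ = (hex v hv).choose * (((hex v hv).choose)⁻¹ * (x₀ * x₀)) := by rw [hc]
      _ = x₀ * x₀ := by group

end Cfsg.Agent.Lib.Helper89_S92_TAU
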