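import Mathlib
import Cfsg.Agent.Lib.Helper89_S92_L2_TAU
import Cfsg.Agent.Lib.Helper5_S92_L2_CENT
import Cfsg.Agent.Lib.Helper41_S92_L2_PERF
import Cfsg.Agent.Lib.Helper16_S92_L2_BST
import Cfsg.Agent.Lib.Helper16_S92_L2_TRANS

set_option autoImplicit false
set_option linter.unusedVariables false
set_option linter.unusedSectionVars false

/-!
Package L2_TAU of helper66's `s92_packages` market (S2092, wave 2b): `exists_tau` with the
signature of the stubs, assembled from `Helper89_S92_TAU.exists_tau_of` and the landed packages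
L2_CENT (`lift_Gs_comm_aux`), L2_PERF (`Gs_perfect`), L2_BST (`act_conj_long`), L2_TRANS
(`act_trans`).
-/

namespace Cfsg.Agent.Lib.Helper66_S92

open Cfsg.Agent.Lib.Helper81_UceA Cfsg.Agent.Lib.Helper5_SteinbergA

variable {ι : Type*} [DecidableEq ι] [Fintype ι] {K : Type*} [Field K] {S E : Type*} [Group S] [Group E]
  {π : E →* S} {XM : ι ⊕ ι → ι ⊕ ι → K → S}

/-- an equivariant section on the class of transvections -/
theorem exists_tau (hXM : CStAB XM) (hπ : CExt π) (ρ : S →* Module.End K (ι ⊕ ι → K))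
    (hρ : IsAct XM ρ) (hgen : Subgroup.closure {g | ∃ a c t, g = XM a c t} = ⊤)
    (hcard : Nat.card K = 2) (h4 : 4 ≤ Fintype.card ι) (o : ι ⊕ ι)
    (hstab : ∀ g : S, ρ g (Pi.single o 1) = Pi.single o 1 → g ∈ Gs XM o) :
    ∃ (τ : (ι ⊕ ι → K) → E) (a₀ : E), π a₀ = 1 ∧
      (∀ v, v ≠ 0 → ∀ e : E, e * τ v * e⁻¹ = τ (ρ (π e) v)) ∧
      (∀ v, v ≠ 0 → ∀ x, ρ (π (τ v)) x = x + Bst x v • v) ∧
      (∀ v, v ≠ 0 → τ v * τ v = a₀) :=
  Cfsg.Agent.Lib.Helper89_S92_TAU.exists_tau_of hXM hπ ρ o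
    (Cfsg.Agent.Lib.Helper89_S92_TAU.one_add_one_of_card hcard) hstab
    (fun he hx => lift_Gs_comm_aux hXM hπ o 1 (Gs_perfect hXM h4 o) he hx)
    (fun v hv => act_trans ρ hρ o v hv)
    (fun g x => act_conj_long ρ hρ hgen g o 1 x)

end Cfsg.Agent.Lib.Helper66_S92
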