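import Mathlib
import Cfsg.Agent.Lib.Helper66_S92LiftDefs
import Cfsg.Agent.Lib.Helper66_S92Lift2Defs
import Cfsg.Agent.Lib.Helper66_S92Rank
import Cfsg.Agent.Lib.Helper41_S92_L2_NORMaux
import Cfsg.Agent.Lib.Helper89_S92_L2_TAUfin
import Cfsg.Agent.Lib.Helper60_S92_L2TRIPLE

set_option autoImplicit false
set_option linter.unusedVariables false
set_option linter.unusedSectionVars false

/-! S2092 package L2_NORM (helper41): `exists_tau_norm`, assembled from `exists_tau_norm_aux`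
(Helper41_S92_L2_NORMaux), `exists_tau` (L2_TAU, helper89) and `act_triple` (L2_TRIPLE, helper60). -/

namespace Cfsg.Agent.Lib.Helper66_S92

open Cfsg.Agent.Lib.Helper81_UceA Cfsg.Agent.Lib.Helper5_SteinbergA

variable {ι : Type*} [DecidableEq ι] [Fintype ι] {K : Type*} [Field K] {S E : Type*} [Group S] [Group E]
  {π : E →* S} {XM : ι ⊕ ι → ι ⊕ ι → K → S}

/-- the normalised section: involutions, and the product over the seven nonzero vectors of a coordinate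
totally isotropic `3`-space is trivial -/
theorem exists_tau_norm (hXM : CSt XM) (hπ : CExt π) (ρ : S →* Module.End K (ι ⊕ ι → K))
    (hρ : IsAct XM ρ) (hgen : Subgroup.closure {g | ∃ a c t, g = XM a c t} = ⊤)
    (hcard : Nat.card K = 2) (h4 : 4 ≤ Fintype.card ι) (o : ι ⊕ ι) (hinj : Function.Injective ρ)
    (hstab : ∀ g : S, ρ g (Pi.single o 1) = Pi.single o 1 → g ∈ Gs XM o) :
    ∃ τ : (ι ⊕ ι → K) → E,
      (∀ v, v ≠ 0 → ∀ e : E, e * τ v * e⁻¹ = τ (ρ (π e) v)) ∧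
      (∀ v, v ≠ 0 → ∀ x, ρ (π (τ v)) x = x + Bst x v • v) ∧
      (∀ v, v ≠ 0 → τ v * τ v = 1) ∧
      (∀ a e f : ι ⊕ ι, e ≠ a → e ≠ ng a → f ≠ a → f ≠ ng a → f ≠ e → f ≠ ng e →
        τ (Pi.single a 1) * τ (Pi.single e 1) * τ (Pi.single f 1) *
          τ (Pi.single a 1 + Pi.single e 1) * τ (Pi.single a 1 + Pi.single f 1) *
          τ (Pi.single e 1 + Pi.single f 1) *
          τ (Pi.single a 1 + Pi.single e 1 + Pi.single f 1) = 1) :=
  exists_tau_norm_aux hπ ρ hcard h4 hinj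
    (exists_tau hXM.toCStAB hπ ρ hρ hgen hcard h4 o hstab)
    (fun a₀ e₀ f₀ a e f h1 h2 h3 h4 h5 h6 k1 k2 k3 k4 k5 k6 =>
      act_triple hXM ρ hρ hcard a₀ e₀ f₀ a e f h1 h2 h3 h4 h5 h6 k1 k2 k3 k4 k5 k6)

end Cfsg.Agent.Lib.Helper66_S92
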