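import Mathlib
import Cfsg.Agent.Lib.Helper41_SL2
import Cfsg.Agent.Lib.Helper41_SL2Conj
import Cfsg.Agent.Lib.Helper41_SL2Conic
import Cfsg.Agent.Lib.Helper41_SL2Order4
import Cfsg.Agent.Lib.Helper41_SL2Torus
import Cfsg.Agent.S2428

set_option autoImplicit false
set_option linter.unusedSectionVars false

/-!
`p`-elements of `SL₂(F)` (`F` finite of odd characteristic `p`) normalizing `p'`-subgroups:
a nontrivial `p`-element `b` cannot conjugate a non-central `p'`-element `x` to an element commuting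
with `x`.
-/

namespace Cfsg.Agent.Lib.Helper41_SL2PPrime

local notation "SL2" => Matrix.SpecialLinearGroup (Fin 2)

section abstract

variable {G : Type*} [Group G] [Finite G]

/-- If `T` is the centralizer of each of its non-central elements, `x ∈ T` is non-central and
`b x b⁻¹` commutes with `x`, then `b` normalizes `T`. -/
theorem mem_normalizer_of_conj_commute (T : Subgroup G)
    (hTC : ∀ y ∈ T, y ∉ Subgroup.center G → Subgroup.centralizer ({y} : Set G) = T)
    (b x : G) (hx : x ∈ T) (hxc : x ∉ Subgroup.center G)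
    (hcomm : (b * x * b⁻¹) * x = x * (b * x * b⁻¹)) :
    b ∈ Subgroup.normalizer (T : Set G) := by
  have hCx := hTC x hx hxc
  have hyT : b * x * b⁻¹ ∈ T := by
    rw [← hCx, Subgroup.mem_centralizer_iff]
    intro z hz
    rw [Set.mem_singleton_iff] at hz
    subst hz
    exact hcomm.symm
  have hyc : b * x * b⁻¹ ∉ Subgroup.center G := by
    intro h
    apply hxc
    have := (Subgroup.center G).normal_of_characteristic.conj_mem _ h b⁻¹
    simpa [mul_assoc] using this
  have hCy := hTC _ hyT hyc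
  apply Subgroup.mem_normalizer_fintype
  intro g hg
  change g ∈ T at hg
  change b * g * b⁻¹ ∈ T
  rw [← hCy, Subgroup.mem_centralizer_iff]
  intro z hz
  rw [Set.mem_singleton_iff] at hz
  subst hz
  rw [← hCx, Subgroup.mem_centralizer_iff] at hg
  have h1 := hg x rfl
  calc b * x * b⁻¹ * (b * g * b⁻¹) = b * (x * g) * b⁻¹ := by group
    _ = b * (g * x) * b⁻¹ := by rw [h1]
    _ = b * g * b⁻¹ * (b * x * b⁻¹) := by group

/-- ... hence `b = 1` when its order is prime to `|N(T)|`. -/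
theorem eq_one_of_torus (T : Subgroup G)
    (hTC : ∀ y ∈ T, y ∉ Subgroup.center G → Subgroup.centralizer ({y} : Set G) = T)
    (b x : G) (hx : x ∈ T) (hxc : x ∉ Subgroup.center G)
    (hcomm : (b * x * b⁻¹) * x = x * (b * x * b⁻¹))
    (hb : (orderOf b).Coprime (Nat.card (Subgroup.normalizer (T : Set G)))) : b = 1 := by
  have hbN := mem_normalizer_of_conj_commute T hTC b x hx hxc hcomm
  have h1 := orderOf_dvd_natCard (⟨b, hbN⟩ : Subgroup.normalizer (T : Set G))
  rw [Subgroup.orderOf_mk] at h1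
  have h2 : orderOf b ∣ 1 := by
    rw [← hb]
    exact Nat.dvd_gcd (dvd_refl _) h1
  exact orderOf_eq_one_iff.mp (Nat.dvd_one.mp h2)

end abstract


section sl2

variable {F : Type*} [Field F] [Fintype F] (p : ℕ) [Fact p.Prime] [CharP F p]

theorem odd_card (hp : p ≠ 2) : Odd (Fintype.card F) := by
  obtain ⟨n, hpp, hcard⟩ := FiniteField.card F p
  rw [hcard]
  exact (hpp.odd_of_ne_two hp).pow

theorem dvd_card : p ∣ Fintype.card F := by
  obtain ⟨n, hpp, hcard⟩ := FiniteField.card F p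
  rw [hcard]
  exact dvd_pow_self p n.ne_zero

/-- A non-central `p'`-element of `SL₂(F)` has trace `τ` with `τ² ≠ 4`. -/
theorem trace_sq_ne_four (hp : p ≠ 2) (x : SL2 F) (hx : (orderOf x).Coprime p)
    (hxc : x ∉ Subgroup.center (SL2 F)) :
    (Matrix.trace (x : Matrix (Fin 2) (Fin 2) F)) ^ 2 ≠ 4 := by
  intro h
  have hodd := odd_card (F := F) p hp
  have h2 : (2 : F) ≠ 0 := Cfsg.Agent.Lib.Helper41_SL2Torus.two_ne_zero_of_odd hodd
  obtain ⟨c, hc⟩ := Cfsg.Agent.Lib.Helper41_SL2Conic.pow_char_scalar_of_trace_sq p h2 x h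
  have hdet : c * c = 1 := by
    have h1 : ((x : Matrix (Fin 2) (Fin 2) F) ^ p).det = 1 := by
      rw [Matrix.det_pow, x.2, one_pow]
    rw [hc, Matrix.det_smul, Matrix.det_one] at h1
    simpa [sq] using h1
  have hx2p : x ^ (2 * p) = 1 := by
    apply Subtype.ext
    rw [Matrix.SpecialLinearGroup.coe_pow, mul_comm, pow_mul, hc, Matrix.SpecialLinearGroup.coe_one,
      sq, Matrix.smul_mul, Matrix.mul_smul, Matrix.mul_one, smul_smul, hdet, one_smul]
  have hdvd : orderOf x ∣ 2 * p := orderOf_dvd_of_pow_eq_one hx2p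
  have hdvd2 : orderOf x ∣ 2 := hx.dvd_of_dvd_mul_right hdvd
  have hxx : x * x = 1 := by
    rw [← sq]
    exact orderOf_dvd_iff_pow_eq_one.mp hdvd2
  apply hxc
  rcases Cfsg.Agent.Lib.Helper41_SL2Order4.coe_eq_one_or_neg_one_of_mul_self h2 x hxx with h1 | h1
  · exact Cfsg.Agent.Lib.Helper41_SL2.mem_center_of_scalar x 1 (by rw [h1, one_smul])
  · exact Cfsg.Agent.Lib.Helper41_SL2.mem_center_of_scalar x (-1) (by rw [h1, neg_smul, one_smul])

omit [Fintype F] [CharP F p] [Fact (Nat.Prime p)] in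
theorem conj_not_mem_center (U x : SL2 F) (hxc : x ∉ Subgroup.center (SL2 F)) :
    U * x * U⁻¹ ∉ Subgroup.center (SL2 F) := by
  intro h
  apply hxc
  have := (Subgroup.center (SL2 F)).normal_of_characteristic.conj_mem _ h U⁻¹
  simpa [mul_assoc] using this

/-- A `p`-element `b` of `SL₂(F)` conjugating a non-central `p'`-element `x` to an element commuting
with `x` is trivial. -/
theorem eq_one_of_conj_commute (hp : p ≠ 2) (b x : SL2 F) (k : ℕ) (hb : b ^ (p ^ k) = 1)
    (hxc : x ∉ Subgroup.center (SL2 F)) (hxp : (orderOf x).Coprime p)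
    (hcomm : (b * x * b⁻¹) * x = x * (b * x * b⁻¹)) : b = 1 := by
  have hpp : p.Prime := Fact.out
  have hodd := odd_card (F := F) p hp
  have h2 : (2 : F) ≠ 0 := Cfsg.Agent.Lib.Helper41_SL2Torus.two_ne_zero_of_odd hodd
  have hτ := trace_sq_ne_four p hp x hxp hxc
  have hpq := dvd_card (F := F) p
  have hq1 : 1 < Fintype.card F := Fintype.one_lt_card
  -- reduction to a conjugate
  have hred : ∀ (U y : SL2 F) (T : Subgroup (SL2 F)), y = U * x * U⁻¹ → y ∈ T →
      (∀ w ∈ T, w ∉ Subgroup.center (SL2 F) → Subgroup.centralizer ({w} : Set (SL2 F)) = T) →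
      (p.Coprime (Nat.card (Subgroup.normalizer (T : Set (SL2 F))))) → b = 1 := by
    intro U y T hy hyT hTC hcop
    have hyc : y ∉ Subgroup.center (SL2 F) := by rw [hy]; exact conj_not_mem_center U x hxc
    have hcomm' : ((U * b * U⁻¹) * y * (U * b * U⁻¹)⁻¹) * y = y * ((U * b * U⁻¹) * y * (U * b * U⁻¹)⁻¹) := by
      rw [hy]
      calc U * b * U⁻¹ * (U * x * U⁻¹) * (U * b * U⁻¹)⁻¹ * (U * x * U⁻¹)
          = U * ((b * x * b⁻¹) * x) * U⁻¹ := by group
        _ = U * (x * (b * x * b⁻¹)) * U⁻¹ := by rw [hcomm]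
        _ = U * x * U⁻¹ * (U * b * U⁻¹ * (U * x * U⁻¹) * (U * b * U⁻¹)⁻¹) := by group
    have hb' : (U * b * U⁻¹) ^ (p ^ k) = 1 := by
      rw [conj_pow, hb]; group
    have hord : orderOf (U * b * U⁻¹) ∣ p ^ k := orderOf_dvd_of_pow_eq_one hb'
    have hcop' : (orderOf (U * b * U⁻¹)).Coprime
        (Nat.card (Subgroup.normalizer (T : Set (SL2 F)))) :=
      Nat.Coprime.coprime_dvd_left hord (Nat.Coprime.pow_left k hcop)
    have h1 := eq_one_of_torus T hTC (U * b * U⁻¹) y hyT hyc hcomm' hcop'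
    have : b = U⁻¹ * (U * b * U⁻¹) * U := by group
    rw [this, h1]; group
  set τ := Matrix.trace (x : Matrix (Fin 2) (Fin 2) F) with hτdef
  by_cases hroot : ∃ ρ : F, ρ ^ 2 = -1 + τ * ρ
  · obtain ⟨ρ, hρ⟩ := hroot
    have hρ0 : ρ ≠ 0 := by
      rintro rfl
      norm_num at hρ
    have hdet : (!![ρ, 0; 0, ρ⁻¹] : Matrix (Fin 2) (Fin 2) F).det = 1 := by
      rw [Matrix.det_fin_two_of, mul_inv_cancel₀ hρ0]; ring
    set d : SL2 F := ⟨!![ρ, 0; 0, ρ⁻¹], hdet⟩ with hd
    have htr : Matrix.trace (d : Matrix (Fin 2) (Fin 2) F) = τ := by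
      rw [Matrix.trace_fin_two]
      simp [hd]
      field_simp
      linear_combination hρ
    obtain ⟨U, hU⟩ := Cfsg.Agent.Lib.Helper41_SL2Conj.conj_of_trace_eq d x htr hτ
    have hd01 : (d : Matrix (Fin 2) (Fin 2) F) 0 1 = 0 := by simp [hd]
    have hd10 : (d : Matrix (Fin 2) (Fin 2) F) 1 0 = 0 := by simp [hd]
    have hd00 : (d : Matrix (Fin 2) (Fin 2) F) 0 0 ^ 2 ≠ 1 := by
      have : (d : Matrix (Fin 2) (Fin 2) F) 0 0 = ρ := by simp [hd]
      rw [this]
      intro h1
      apply hτ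
      have h3 : τ * ρ = 2 := by linear_combination h1 - hρ
      have : τ ^ 2 * ρ ^ 2 = 4 := by
        have : τ ^ 2 * ρ ^ 2 = (τ * ρ) ^ 2 := by ring
        rw [this, h3]; norm_num
      rw [h1, mul_one] at this
      exact this
    have hres := Cfsg.Agent.S2428.result hodd d hd01 hd10 hd00
    have hC := Cfsg.Agent.S2428.centralizer_eq d hd01 hd10 hd00
    rw [hC] at hres
    apply hred U d (Cfsg.Agent.S2428.diagSub F) hU ⟨hd01, hd10⟩
    · intro w hw hwc
      obtain ⟨hw01, hw10⟩ := hw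
      apply Cfsg.Agent.S2428.centralizer_eq w hw01 hw10
      intro hw00
      apply hwc
      have hdetw := Cfsg.Agent.S2428.det_eq w
      rw [hw01, zero_mul, sub_zero] at hdetw
      have hw0 : (w : Matrix (Fin 2) (Fin 2) F) 0 0 ≠ 0 := by
        intro h0; rw [h0, zero_mul] at hdetw; exact zero_ne_one hdetw
      have hw11 : (w : Matrix (Fin 2) (Fin 2) F) 1 1 = (w : Matrix (Fin 2) (Fin 2) F) 0 0 := by
        apply mul_left_cancel₀ hw0
        rw [hdetw, ← sq, hw00]
      apply Cfsg.Agent.Lib.Helper41_SL2.mem_center_of_scalar w ((w : Matrix (Fin 2) (Fin 2) F) 0 0)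
      ext i j
      fin_cases i <;> fin_cases j <;> simp [hw01, hw10, hw11]
    · rw [hres.2.1]
      apply Nat.Coprime.mul_right
      · rw [Nat.coprime_primes hpp Nat.prime_two]; exact hp
      · rw [Nat.Prime.coprime_iff_not_dvd hpp]
        intro h
        have h3 : p ∣ Fintype.card F - (Fintype.card F - 1) := Nat.dvd_sub hpq h
        have h4 : Fintype.card F - (Fintype.card F - 1) = 1 := by omega
        rw [h4] at h3
        exact hpp.one_lt.ne' (Nat.dvd_one.mp h3)
  · push Not at hroot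
    obtain ⟨a₀, ha₀⟩ := Cfsg.Agent.Lib.Helper41_SL2.exists_no_root (F := F)
    have : Fact (∀ r : F, r ^ 2 ≠ a₀ + 1 * r) := ⟨ha₀⟩
    obtain ⟨z, hz, htr⟩ := Cfsg.Agent.Lib.Helper41_SL2Torus.exists_norm_one_trace a₀ 1 τ hroot
    have h1 : Matrix.trace ((Cfsg.Agent.Lib.Helper41_SL2.torusElt a₀ 1 z hz : SL2 F) :
        Matrix (Fin 2) (Fin 2) F) = τ := by
      rw [← htr, ← Cfsg.Agent.Lib.Helper41_SL2Torus.trace_toMat]; rfl
    obtain ⟨U, hU⟩ := Cfsg.Agent.Lib.Helper41_SL2Conj.conj_of_trace_eq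
      (Cfsg.Agent.Lib.Helper41_SL2.torusElt a₀ 1 z hz) x h1 hτ
    apply hred U _ (Cfsg.Agent.Lib.Helper41_SL2Torus.nsTorus a₀ (1 : F)) hU
      (Cfsg.Agent.Lib.Helper41_SL2Torus.torusElt_mem a₀ 1 z hz)
    · intro w hw hwc
      apply Cfsg.Agent.Lib.Helper41_SL2Torus.centralizer_eq a₀ 1 w hw
      · intro h
        apply hwc
        exact Cfsg.Agent.Lib.Helper41_SL2.mem_center_of_scalar w 1 (by rw [h, one_smul])
      · intro h
        apply hwc
        exact Cfsg.Agent.Lib.Helper41_SL2.mem_center_of_scalar w (-1) (by rw [h, neg_smul, one_smul])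
    · rw [(Cfsg.Agent.Lib.Helper41_SL2Torus.normalizer_nsTorus_odd a₀ 1 hodd).1]
      apply Nat.Coprime.mul_right
      · rw [Nat.coprime_primes hpp Nat.prime_two]; exact hp
      · rw [Nat.Prime.coprime_iff_not_dvd hpp]
        intro h
        have h3 : p ∣ Fintype.card F + 1 - Fintype.card F := Nat.dvd_sub h hpq
        have h4 : Fintype.card F + 1 - Fintype.card F = 1 := by omega
        rw [h4] at h3
        exact hpp.one_lt.ne' (Nat.dvd_one.mp h3)

end sl2

end Cfsg.Agent.Lib.Helper41_SL2PPrime
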