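import Mathlib
import Cfsg.Agent.Lib.Helper41_RedundantSylow
import Cfsg.Agent.Lib.Helper41_AffGroup
import Cfsg.Agent.Lib.Helper41_SL2
import Cfsg.Agent.Lib.Helper41_SL2Torus
import Cfsg.Agent.Lib.Helper5_PSLCard
import Cfsg.Agent.S2428
import Cfsg.Agent.S2430

set_option autoImplicit false

/-!
Redundant Sylow subgroups of `SL₂(F)`, part one: the cases without a redundant Sylow `p`-subgroup.
-/

namespace Cfsg.Agent.Lib.Helper41_SL2Redundant

open Cfsg.Agent.Lib.Helper41_RedundantSylow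

variable {F : Type*} [Field F]

local notation "SL2" => Matrix.SpecialLinearGroup (Fin 2)

/-- `N.factorization p = e` when `N = p ^ e * m` with `p ∤ m`. -/
theorem factorization_of_eq (N p e m : ℕ) (hp : p.Prime) (hN : N = p ^ e * m) (hm : ¬ p ∣ m) :
    N.factorization p = e := by
  have hm0 : m ≠ 0 := by
    rintro rfl
    exact hm (dvd_zero p)
  rw [hN, Nat.factorization_mul (pow_ne_zero e hp.ne_zero) hm0, Nat.factorization_pow]
  simp [Nat.Prime.factorization_self hp, Nat.factorization_eq_zero_of_not_dvd hm]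

/-- A cyclic subgroup whose order is divisible by the full `p`-part of `|G|` excludes redundancy. -/
theorem not_redundant_of_cyclic_subgroup {G : Type*} [Group G] [Finite G] {p : ℕ} [Fact p.Prime]
    (C : Subgroup G) [IsCyclic C] (h : p ^ (Nat.card G).factorization p ∣ Nat.card C) :
    ¬ Redundant p G := by
  have hr := Cfsg.Agent.Lib.Helper41_AffGroup.range_orderOf_of_isCyclic (G := C)
  have hmem : p ^ (Nat.card G).factorization p ∈ Set.range (orderOf : C → ℕ) := by
    rw [hr]; exact h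
  obtain ⟨c, hc⟩ := hmem
  apply not_redundant_of_orderOf (c : G)
  rw [Subgroup.orderOf_coe, hc]

section unipotent

/-- upper unitriangular matrices -/
def uMat (t : F) : SL2 F := ⟨!![1, t; 0, 1], by simp [Matrix.det_fin_two]⟩

theorem uMat_coe (t : F) : ((uMat t : SL2 F) : Matrix (Fin 2) (Fin 2) F) = !![1, t; 0, 1] := rfl

/-- the homomorphism `t ↦ !![1, t; 0, 1]` -/
def uHom : Multiplicative F →* SL2 F where
  toFun t := uMat (Multiplicative.toAdd t)
  map_one' := by
    apply Subtype.ext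
    rw [uMat_coe]
    ext i j
    fin_cases i <;> fin_cases j <;> simp
  map_mul' s t := by
    apply Subtype.ext
    rw [Matrix.SpecialLinearGroup.coe_mul, uMat_coe, uMat_coe, uMat_coe]
    ext i j
    fin_cases i <;> fin_cases j <;> simp [Matrix.mul_apply, Fin.sum_univ_two, add_comm]

theorem uHom_apply (t : Multiplicative F) :
    (uHom t : SL2 F) = uMat (Multiplicative.toAdd t) := rfl

theorem uHom_injective : Function.Injective (uHom : Multiplicative F →* SL2 F) := by
  intro s t h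
  have h1 := congrArg (fun g : SL2 F => (g : Matrix (Fin 2) (Fin 2) F) 0 1) h
  simp only [uHom_apply, uMat_coe] at h1
  have h2 : Multiplicative.toAdd s = Multiplicative.toAdd t := by simpa using h1
  exact Multiplicative.toAdd.injective h2

/-- the upper unitriangular subgroup -/
def uSub (F : Type*) [Field F] : Subgroup (SL2 F) := (uHom : Multiplicative F →* SL2 F).range

theorem mem_uSub_iff (g : SL2 F) : g ∈ uSub F ↔
    ((g : Matrix (Fin 2) (Fin 2) F) 0 0 = 1 ∧ (g : Matrix (Fin 2) (Fin 2) F) 1 0 = 0 ∧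
      (g : Matrix (Fin 2) (Fin 2) F) 1 1 = 1) := by
  constructor
  · rintro ⟨t, rfl⟩
    rw [uHom_apply, uMat_coe]
    simp
  · rintro ⟨h00, h10, h11⟩
    refine ⟨Multiplicative.ofAdd ((g : Matrix (Fin 2) (Fin 2) F) 0 1), ?_⟩
    apply Subtype.ext
    show ((uMat _ : SL2 F) : Matrix (Fin 2) (Fin 2) F) = _
    rw [uMat_coe]
    ext i j
    fin_cases i <;> fin_cases j <;> simp [h00, h10, h11]

theorem card_uSub [Fintype F] : Nat.card (uSub F) = Fintype.card F := by
  rw [uSub, Nat.card_congr (MonoidHom.ofInjective uHom_injective).toEquiv.symm,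
    Nat.card_eq_fintype_card]
  exact Fintype.card_congr Multiplicative.toAdd

/-- upper triangular matrices normalize the unitriangular subgroup -/
theorem mem_normalizer_uSub (g : SL2 F) (hg : (g : Matrix (Fin 2) (Fin 2) F) 1 0 = 0) :
    g ∈ Subgroup.normalizer ((uSub F : Subgroup (SL2 F)) : Set (SL2 F)) := by
  have hdet := Cfsg.Agent.S2428.det_eq g
  rw [hg, mul_zero, sub_zero] at hdet
  rw [Subgroup.mem_normalizer_iff]
  intro h
  rw [mem_uSub_iff, mem_uSub_iff]
  simp only [Cfsg.Agent.S2428.mul_entry, Cfsg.Agent.S2428.inv_entry, hg]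
  have h00 : (g : Matrix (Fin 2) (Fin 2) F) 0 0 ≠ 0 := left_ne_zero_of_mul_eq_one hdet
  have h11 : (g : Matrix (Fin 2) (Fin 2) F) 1 1 ≠ 0 := right_ne_zero_of_mul_eq_one hdet
  constructor
  · rintro ⟨a, b, c⟩
    refine ⟨?_, ?_, ?_⟩
    · rw [a, b]; linear_combination hdet
    · rw [b]; ring
    · rw [b, c]; linear_combination hdet
  · rintro ⟨a, b, c⟩
    have hb : (h : Matrix (Fin 2) (Fin 2) F) 1 0 = 0 := by
      have : (g : Matrix (Fin 2) (Fin 2) F) 1 1 * (h : Matrix (Fin 2) (Fin 2) F) 1 0 *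
          (g : Matrix (Fin 2) (Fin 2) F) 1 1 = 0 := by linear_combination b
      rcases mul_eq_zero.mp this with h1 | h1
      · rcases mul_eq_zero.mp h1 with h2 | h2
        · exact absurd h2 h11
        · exact h2
      · exact absurd h1 h11
    refine ⟨?_, hb, ?_⟩
    · rw [hb] at a
      have : (h : Matrix (Fin 2) (Fin 2) F) 0 0 *
          ((g : Matrix (Fin 2) (Fin 2) F) 0 0 * (g : Matrix (Fin 2) (Fin 2) F) 1 1) = 1 := by
        linear_combination a
      rw [hdet, mul_one] at this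
      exact this
    · rw [hb] at c
      have : (h : Matrix (Fin 2) (Fin 2) F) 1 1 *
          ((g : Matrix (Fin 2) (Fin 2) F) 0 0 * (g : Matrix (Fin 2) (Fin 2) F) 1 1) = 1 := by
        linear_combination c
      rw [hdet, mul_one] at this
      exact this

end unipotent

section cases

variable [Fintype F]

theorem card_SL2_eq : Nat.card (SL2 F) =
    Fintype.card F * ((Fintype.card F - 1) * (Fintype.card F + 1)) := by
  rw [Cfsg.Agent.Lib.Helper5_PSLCard.card_SL_two]
  congr 1
  have := Nat.sq_sub_sq (Fintype.card F) 1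
  rw [one_pow] at this
  rw [this, mul_comm]

/-- the Sylow subgroups for the characteristic are not redundant -/
theorem not_redundant_char (p : ℕ) [Fact p.Prime] [CharP F p] : ¬ Redundant p (SL2 F) := by
  have hp : p.Prime := Fact.out
  obtain ⟨n, -, hq⟩ := FiniteField.card F p
  have hq1 : 1 < Fintype.card F := Fintype.one_lt_card
  have hfac : (Nat.card (SL2 F)).factorization p = n := by
    apply factorization_of_eq _ p n ((Fintype.card F - 1) * (Fintype.card F + 1)) hp
    · rw [card_SL2_eq, hq]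
    · intro hdvd
      have h1 : p ∣ Fintype.card F := by rw [hq]; exact dvd_pow_self p n.ne_zero
      have h2 : (Fintype.card F - 1) * (Fintype.card F + 1) + 1 = Fintype.card F * Fintype.card F := by
        obtain ⟨m, hm⟩ : ∃ m, Fintype.card F = m + 1 := ⟨Fintype.card F - 1, by omega⟩
        rw [hm]; simp; ring
      have h3 : p ∣ Fintype.card F * Fintype.card F := dvd_mul_of_dvd_left h1 _
      rw [← h2] at h3
      have h4 : p ∣ 1 := (Nat.dvd_add_right hdvd).mp h3
      exact hp.one_lt.ne' (Nat.dvd_one.mp h4)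
  have hc : Nat.card (uSub F) = p ^ (Nat.card (SL2 F)).factorization p := by
    rw [card_uSub, hfac, hq]
  have hx₀ : uMat (1 : F) ∈ uSub F := by
    rw [mem_uSub_iff, uMat_coe]; simp
  refine not_redundant_of_unique (uMat (1 : F)) (Sylow.ofCard (uSub F) hc) ?_ ?_
  · show uMat (1 : F) ∈ ((Sylow.ofCard (uSub F) hc : Sylow p (SL2 F)) : Subgroup (SL2 F))
    rw [Sylow.coe_ofCard]; exact hx₀
  · intro P hP
    obtain ⟨g, hg⟩ := MulAction.exists_smul_eq (SL2 F) (Sylow.ofCard (uSub F) hc) P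
    rw [← hg] at hP ⊢
    rw [mem_smul_iff] at hP
    have hP' : g⁻¹ * uMat (1 : F) * g ∈ uSub F := by
      have : g⁻¹ * uMat (1 : F) * g ∈
          ((Sylow.ofCard (uSub F) hc : Sylow p (SL2 F)) : Subgroup (SL2 F)) := hP
      rwa [Sylow.coe_ofCard] at this
    rw [mem_uSub_iff] at hP'
    have h10 := hP'.2.1
    simp only [Cfsg.Agent.S2428.mul_entry, Cfsg.Agent.S2428.inv_entry, uMat_coe] at h10
    simp at h10
    have hg10 : (g : Matrix (Fin 2) (Fin 2) F) 1 0 = 0 := by
      have : (g : Matrix (Fin 2) (Fin 2) F) 1 0 * (g : Matrix (Fin 2) (Fin 2) F) 1 0 = 0 := by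
        linear_combination -h10
      exact mul_self_eq_zero.mp this
    rw [Sylow.smul_eq_iff_mem_normalizer]
    exact mem_normalizer_uSub g hg10

/-- an odd prime not dividing `q`: no redundant Sylow subgroup -/
theorem not_redundant_odd (p : ℕ) [Fact p.Prime] (hp2 : p ≠ 2) (hpq : ¬ p ∣ Fintype.card F) :
    ¬ Redundant p (SL2 F) := by
  have hp : p.Prime := Fact.out
  have hq1 : 1 < Fintype.card F := Fintype.one_lt_card
  set q := Fintype.card F with hqdef
  have hq0 : q ≠ 0 := by omega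
  have hqm : q - 1 ≠ 0 := by omega
  have hqp : q + 1 ≠ 0 := by omega
  have hfac : (Nat.card (SL2 F)).factorization p =
      (q - 1).factorization p + (q + 1).factorization p := by
    rw [card_SL2_eq, Nat.factorization_mul hq0 (Nat.mul_ne_zero hqm hqp),
      Nat.factorization_mul hqm hqp, Finsupp.add_apply, Finsupp.add_apply,
      Nat.factorization_eq_zero_of_not_dvd hpq, zero_add]
  by_cases h1 : p ∣ q - 1
  · -- split torus
    have h2 : ¬ p ∣ q + 1 := by
      intro h2
      have h3 : p ∣ (q + 1) - (q - 1) := Nat.dvd_sub h2 h1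
      have h4 : (q + 1) - (q - 1) = 2 := by omega
      rw [h4] at h3
      exact hp2 ((Nat.prime_dvd_prime_iff_eq hp Nat.prime_two).mp h3)
    have : IsCyclic (Cfsg.Agent.S2428.diagSub F) := Cfsg.Agent.S2430.isCyclic_diagSub
    apply not_redundant_of_cyclic_subgroup (Cfsg.Agent.S2428.diagSub F)
    rw [hfac, Nat.factorization_eq_zero_of_not_dvd h2, add_zero, Cfsg.Agent.S2428.card_diagSub]
    exact Nat.ordProj_dvd (q - 1) p
  · by_cases h2 : p ∣ q + 1
    · -- non-split torus
      obtain ⟨a, ha⟩ := Cfsg.Agent.Lib.Helper41_SL2.exists_no_root (F := F)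
      have : Fact (∀ r : F, r ^ 2 ≠ a + 1 * r) := ⟨ha⟩
      have : IsCyclic (Cfsg.Agent.Lib.Helper41_SL2Torus.nsTorus a (1 : F)) :=
        Cfsg.Agent.Lib.Helper41_SL2Torus.isCyclic_nsTorus a 1
      apply not_redundant_of_cyclic_subgroup (Cfsg.Agent.Lib.Helper41_SL2Torus.nsTorus a (1 : F))
      rw [hfac, Nat.factorization_eq_zero_of_not_dvd h1, zero_add,
        Cfsg.Agent.Lib.Helper41_SL2Torus.card_nsTorus]
      exact Nat.ordProj_dvd (q + 1) p
    · -- `p` does not divide `|G|`
      apply not_redundant_of_orderOf (1 : SL2 F)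
      rw [hfac, Nat.factorization_eq_zero_of_not_dvd h1, Nat.factorization_eq_zero_of_not_dvd h2,
        orderOf_one, pow_zero]

/-- `q + 1` a power of two: no redundant Sylow `2`-subgroup -/
theorem not_redundant_two_nonsplit (k : ℕ) (hk : Fintype.card F + 1 = 2 ^ k) :
    ¬ Redundant 2 (SL2 F) := by
  have hq1 : 1 < Fintype.card F := Fintype.one_lt_card
  set q := Fintype.card F with hqdef
  have hk2 : 2 ≤ k := by
    by_contra hlt
    have : k = 0 ∨ k = 1 := by omega
    rcases this with rfl | rfl <;> omega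
  obtain ⟨j, rfl⟩ : ∃ j, k = j + 2 := ⟨k - 2, by omega⟩
  have hodd : Odd q := by
    refine ⟨2 ^ (j + 1) - 1, ?_⟩
    have : 2 ^ (j + 2) = 2 * 2 ^ (j + 1) := by ring
    have h1 : 0 < 2 ^ (j + 1) := by positivity
    omega
  obtain ⟨a, ha⟩ := Cfsg.Agent.Lib.Helper41_SL2.exists_no_root (F := F)
  have : Fact (∀ r : F, r ^ 2 ≠ a + 1 * r) := ⟨ha⟩
  have : IsCyclic (Cfsg.Agent.Lib.Helper41_SL2Torus.nsTorus a (1 : F)) :=
    Cfsg.Agent.Lib.Helper41_SL2Torus.isCyclic_nsTorus a 1
  apply not_redundant_of_cyclic_normalizer (Cfsg.Agent.Lib.Helper41_SL2Torus.nsTorus a (1 : F))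
    (j + 2)
  · rw [Cfsg.Agent.Lib.Helper41_SL2Torus.card_nsTorus, hk]
  · rw [(Cfsg.Agent.Lib.Helper41_SL2Torus.normalizer_nsTorus_odd a 1 hodd).1, hk]; ring
  · -- `|G| = 2 ^ (k + 1) * (q * (2 ^ (j + 1) - 1))`
    apply factorization_of_eq _ 2 (j + 2 + 1) (q * (2 ^ (j + 1) - 1)) Nat.prime_two
    · rw [card_SL2_eq, hk]
      have h1 : q - 1 = 2 * (2 ^ (j + 1) - 1) := by
        have : 2 ^ (j + 2) = 2 * 2 ^ (j + 1) := by ring
        have h1 : 0 < 2 ^ (j + 1) := by positivity
        omega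
      rw [h1]; ring
    · intro hdvd
      have h1 : Odd (2 ^ (j + 1) - 1) := by
        refine ⟨2 ^ j - 1, ?_⟩
        have : 2 ^ (j + 1) = 2 * 2 ^ j := by ring
        have h1 : 0 < 2 ^ j := by positivity
        omega
      have h2 : Odd (q * (2 ^ (j + 1) - 1)) := hodd.mul h1
      rw [← even_iff_two_dvd] at hdvd
      exact (Nat.not_even_iff_odd.mpr h2) hdvd

/-- `q - 1 = 2 ^ k` with `k ≥ 2`: no redundant Sylow `2`-subgroup -/
theorem not_redundant_two_split (k : ℕ) (hk2 : 2 ≤ k) (hk : Fintype.card F = 2 ^ k + 1) :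
    ¬ Redundant 2 (SL2 F) := by
  set q := Fintype.card F with hqdef
  obtain ⟨j, rfl⟩ : ∃ j, k = j + 2 := ⟨k - 2, by omega⟩
  have hpow : 2 ^ (j + 2) = 4 * 2 ^ j := by ring
  have hodd : Odd q := ⟨2 ^ (j + 1), by rw [hk]; ring⟩
  have h2 : (2 : F) ≠ 0 := Cfsg.Agent.Lib.Helper41_SL2Torus.two_ne_zero_of_odd hodd
  -- a square root of `-1`
  have hsq : IsSquare (-1 : F) := by
    rw [FiniteField.isSquare_neg_one_iff, ← hqdef, hk, hpow]
    omega
  obtain ⟨i, hi⟩ := hsq
  -- the diagonal element `diag(i, -i)`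
  have hdet : (!![i, 0; 0, -i] : Matrix (Fin 2) (Fin 2) F).det = 1 := by
    rw [Matrix.det_fin_two_of]; linear_combination hi
  set d : SL2 F := ⟨!![i, 0; 0, -i], hdet⟩ with hd
  have hd01 : (d : Matrix (Fin 2) (Fin 2) F) 0 1 = 0 := by simp [hd]
  have hd10 : (d : Matrix (Fin 2) (Fin 2) F) 1 0 = 0 := by simp [hd]
  have hd00 : (d : Matrix (Fin 2) (Fin 2) F) 0 0 ^ 2 ≠ 1 := by
    have : (d : Matrix (Fin 2) (Fin 2) F) 0 0 = i := by simp [hd]
    rw [this, sq, ← hi]
    intro h
    apply h2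
    linear_combination -h
  have hres := Cfsg.Agent.S2428.result hodd d hd01 hd10 hd00
  have hC := Cfsg.Agent.S2428.centralizer_eq d hd01 hd10 hd00
  rw [hC] at hres
  have : IsCyclic (Cfsg.Agent.S2428.diagSub F) := Cfsg.Agent.S2430.isCyclic_diagSub
  apply not_redundant_of_cyclic_normalizer (Cfsg.Agent.S2428.diagSub F) (j + 2)
  · rw [Cfsg.Agent.S2428.card_diagSub, ← hqdef, hk]; simp
  · rw [hres.2.1, ← hqdef, hk]; simp; ring
  · apply factorization_of_eq _ 2 (j + 2 + 1) (q * (2 ^ (j + 1) + 1)) Nat.prime_two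
    · rw [card_SL2_eq, ← hqdef]
      have h1 : q - 1 = 2 ^ (j + 2) := by rw [hk]; simp
      have h3 : q + 1 = 2 * (2 ^ (j + 1) + 1) := by rw [hk]; ring
      rw [h1, h3]; ring
    · intro hdvd
      have h1 : Odd (2 ^ (j + 1) + 1) := ⟨2 ^ j, by ring⟩
      have h3 : Odd (q * (2 ^ (j + 1) + 1)) := hodd.mul h1
      rw [← even_iff_two_dvd] at hdvd
      exact (Nat.not_even_iff_odd.mpr h3) hdvd

end cases

end Cfsg.Agent.Lib.Helper41_SL2Redundant
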