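import Mathlib
import Cfsg.Agent.Lib.Helper41_RedundantSylow
import Cfsg.Agent.Lib.Helper41_SL2Redundant
import Cfsg.Agent.Lib.Helper41_SL2
import Cfsg.Agent.Lib.Helper41_SL2Conj
import Cfsg.Agent.Lib.Helper41_SL2Conic
import Cfsg.Agent.Lib.Helper41_SL2Order4
import Cfsg.Agent.Lib.Helper41_SL2Torus
import Cfsg.Agent.S2428
import Cfsg.Agent.S2430
import Cfsg.Agent.S2431

set_option autoImplicit false

/-!
Redundant Sylow subgroups of `SL₂(F)`, part two: existence of a redundant Sylow `2`-subgroup when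
`q` is odd and neither `q - 1` nor `q + 1` is a power of two; the final equivalence.
-/

namespace Cfsg.Agent.Lib.Helper41_SL2Redundant2

open Cfsg.Agent.Lib.Helper41_RedundantSylow Cfsg.Agent.Lib.Helper41_SL2Redundant

variable {F : Type*} [Field F]

local notation "SL2" => Matrix.SpecialLinearGroup (Fin 2)

/-- a positive integer which is not a power of two has an odd prime divisor -/
theorem exists_odd_prime_dvd (n : ℕ) (hn : n ≠ 0) (h : ¬ ∃ k : ℕ, n = 2 ^ k) :
    ∃ r : ℕ, r.Prime ∧ r ≠ 2 ∧ r ∣ n := by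
  obtain ⟨k, m, hm, rfl⟩ := Nat.exists_eq_two_pow_mul_odd hn
  have hm1 : m ≠ 1 := by
    rintro rfl
    exact h ⟨k, by ring⟩
  obtain ⟨r, hr, hrm⟩ := Nat.exists_prime_and_dvd hm1
  refine ⟨r, hr, ?_, Dvd.dvd.mul_left hrm _⟩
  rintro rfl
  exact (Nat.not_even_iff_odd.mpr hm) (even_iff_two_dvd.mpr hrm)

/-- An abelian subgroup whose order is not a power of two and which contains a conjugate of `x`
gives an element of odd prime order commuting with `x`. -/
theorem exists_commute_of_conj {G : Type*} [Group G] [Finite G] (T : Subgroup G)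
    (hT : ∀ g ∈ T, ∀ h ∈ T, g * h = h * g) (hTc : ¬ ∃ k : ℕ, Nat.card T = 2 ^ k)
    (x U : G) (hx : U * x * U⁻¹ ∈ T) :
    ∃ (t : G) (r : ℕ), r.Prime ∧ r ≠ 2 ∧ orderOf t = r ∧ t * x = x * t := by
  obtain ⟨r, hr, hr2, hrT⟩ := exists_odd_prime_dvd (Nat.card T) Nat.card_pos.ne' hTc
  have : Fact r.Prime := ⟨hr⟩
  obtain ⟨t₀, ht₀⟩ := exists_prime_orderOf_dvd_card' r hrT
  refine ⟨U⁻¹ * (t₀ : G) * U, r, hr, hr2, ?_, ?_⟩
  · rw [← ht₀, ← Subgroup.orderOf_coe]
    have := (MulAut.conj U⁻¹).orderOf_eq (t₀ : G)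
    rw [MulAut.conj_apply, inv_inv] at this
    exact this
  · have h := hT _ t₀.2 _ hx
    calc U⁻¹ * (t₀ : G) * U * x = U⁻¹ * ((t₀ : G) * (U * x * U⁻¹)) * U := by group
      _ = U⁻¹ * ((U * x * U⁻¹) * (t₀ : G)) * U := by rw [h]
      _ = x * (U⁻¹ * (t₀ : G) * U) := by group

section trace

variable [Fintype F]

/-- A non-central `2`-element of `SL₂(q)`, `q` odd, has trace `τ` with `τ² ≠ 4`. -/
theorem trace_sq_ne_four_of_two_elt (hodd : Odd (Fintype.card F)) (x : SL2 F) (k : ℕ)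
    (hx : orderOf x = 2 ^ k) (hxc : x ∉ Subgroup.center (SL2 F)) :
    (Matrix.trace (x : Matrix (Fin 2) (Fin 2) F)) ^ 2 ≠ 4 := by
  intro h
  have h2 : (2 : F) ≠ 0 := Cfsg.Agent.Lib.Helper41_SL2Torus.two_ne_zero_of_odd hodd
  obtain ⟨p, hp⟩ := CharP.exists F
  obtain ⟨n, hpp, hcard⟩ := FiniteField.card F p
  have : Fact p.Prime := ⟨hpp⟩
  have hpodd : Odd p := by
    rw [hcard] at hodd
    exact (Nat.odd_pow_iff (by exact_mod_cast n.ne_zero)).mp hodd
  obtain ⟨c, hc⟩ := Cfsg.Agent.Lib.Helper41_SL2Conic.pow_char_scalar_of_trace_sq p h2 x h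
  -- `c² = 1`
  have hdet : c * c = 1 := by
    have h1 : ((x : Matrix (Fin 2) (Fin 2) F) ^ p).det = 1 := by
      rw [Matrix.det_pow, x.2, one_pow]
    rw [hc, Matrix.det_smul, Matrix.det_one] at h1
    simpa [sq] using h1
  have hx2p : x ^ (2 * p) = 1 := by
    apply Subtype.ext
    rw [Matrix.SpecialLinearGroup.coe_pow, mul_comm, pow_mul, hc, Matrix.SpecialLinearGroup.coe_one,
      sq, Matrix.smul_mul, Matrix.mul_smul, Matrix.mul_one, smul_smul, hdet, one_smul]
  have hdvd : 2 ^ k ∣ 2 * p := by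
    rw [← hx]; exact orderOf_dvd_of_pow_eq_one hx2p
  have hcop : Nat.Coprime (2 ^ k) p := by
    apply Nat.Coprime.pow_left
    rw [Nat.coprime_primes Nat.prime_two hpp]
    rintro rfl
    exact (Nat.not_even_iff_odd.mpr hpodd) even_two
  have hdvd2 : 2 ^ k ∣ 2 := hcop.dvd_of_dvd_mul_right hdvd
  have hxx : x * x = 1 := by
    rw [← sq]
    apply orderOf_dvd_iff_pow_eq_one.mp
    rw [hx]; exact hdvd2
  apply hxc
  rcases Cfsg.Agent.Lib.Helper41_SL2Order4.coe_eq_one_or_neg_one_of_mul_self h2 x hxx with h1 | h1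
  · exact Cfsg.Agent.Lib.Helper41_SL2.mem_center_of_scalar x 1 (by rw [h1, one_smul])
  · exact Cfsg.Agent.Lib.Helper41_SL2.mem_center_of_scalar x (-1) (by rw [h1, neg_smul, one_smul])

/-- If neither `q - 1` nor `q + 1` is a power of two, every `x ∈ SL₂(q)` whose trace `τ` has
`τ² ≠ 4` commutes with an element of odd prime order. -/
theorem exists_commute_odd_prime
    (hm : ¬ ∃ k : ℕ, Fintype.card F = 2 ^ k + 1) (hp : ¬ ∃ k : ℕ, Fintype.card F + 1 = 2 ^ k)
    (x : SL2 F) (hτ : (Matrix.trace (x : Matrix (Fin 2) (Fin 2) F)) ^ 2 ≠ 4) :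
    ∃ (t : SL2 F) (r : ℕ), r.Prime ∧ r ≠ 2 ∧ orderOf t = r ∧ t * x = x * t := by
  have hq1 : 1 < Fintype.card F := Fintype.one_lt_card
  set τ := Matrix.trace (x : Matrix (Fin 2) (Fin 2) F) with hτdef
  by_cases hroot : ∃ ρ : F, ρ ^ 2 = -1 + τ * ρ
  · obtain ⟨ρ, hρ⟩ := hroot
    have hρ0 : ρ ≠ 0 := by
      rintro rfl
      norm_num at hρ
    have hdet : (!![ρ, 0; 0, ρ⁻¹] : Matrix (Fin 2) (Fin 2) F).det = 1 := by
      rw [Matrix.det_fin_two_of, mul_inv_cancel₀ hρ0]; ring
    set d : SL2 F := ⟨!![ρ, 0; 0, ρ⁻¹], hdet⟩ with hd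
    have htr : Matrix.trace (d : Matrix (Fin 2) (Fin 2) F) = τ := by
      rw [Matrix.trace_fin_two]
      simp [hd]
      field_simp
      linear_combination hρ
    obtain ⟨U, hU⟩ := Cfsg.Agent.Lib.Helper41_SL2Conj.conj_of_trace_eq d x htr hτ
    apply exists_commute_of_conj (Cfsg.Agent.S2428.diagSub F)
      (fun g hg h hh => Cfsg.Agent.S2430.diagSub_comm g h hg hh) ?_ x U
    · rw [← hU]
      constructor <;> simp [hd]
    · rw [Cfsg.Agent.S2428.card_diagSub]
      rintro ⟨k, hk⟩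
      exact hm ⟨k, by omega⟩
  · push Not at hroot
    obtain ⟨a, ha⟩ := Cfsg.Agent.Lib.Helper41_SL2.exists_no_root (F := F)
    have : Fact (∀ r : F, r ^ 2 ≠ a + 1 * r) := ⟨ha⟩
    obtain ⟨z, hz, htr⟩ := Cfsg.Agent.Lib.Helper41_SL2Torus.exists_norm_one_trace a 1 τ hroot
    have h1 : Matrix.trace ((Cfsg.Agent.Lib.Helper41_SL2.torusElt a 1 z hz : SL2 F) :
        Matrix (Fin 2) (Fin 2) F) = τ := by
      rw [← htr, ← Cfsg.Agent.Lib.Helper41_SL2Torus.trace_toMat]; rfl
    obtain ⟨U, hU⟩ := Cfsg.Agent.Lib.Helper41_SL2Conj.conj_of_trace_eq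
      (Cfsg.Agent.Lib.Helper41_SL2.torusElt a 1 z hz) x h1 hτ
    apply exists_commute_of_conj (Cfsg.Agent.Lib.Helper41_SL2Torus.nsTorus a (1 : F))
      (fun g hg h hh => Cfsg.Agent.Lib.Helper41_SL2Torus.nsTorus_comm a 1 g h hg hh) ?_ x U
    · rw [← hU]
      exact Cfsg.Agent.Lib.Helper41_SL2Torus.torusElt_mem a 1 z hz
    · rw [Cfsg.Agent.Lib.Helper41_SL2Torus.card_nsTorus]
      exact hp

end trace


/-- If `⟨x⟩` has index two in `Q`, `x ^ 4 = 1`, and `t ∈ N(Q)` with `t ^ 3 = 1` commutes with `x`,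
then `t` centralizes `Q`. -/
theorem centralizes_of_index_two {G : Type*} [Group G] (Q : Subgroup G) (x : G)
    (hx4 : x ^ 4 = 1) (hidx : ((Subgroup.zpowers x).subgroupOf Q).index = 2)
    (t : G) (ht : t ∈ Subgroup.normalizer (Q : Set G)) (ht3 : t ^ 3 = 1) (htx : t * x = x * t) :
    ∀ g ∈ Q, t * g = g * t := by
  obtain ⟨a, ha⟩ := Subgroup.index_eq_two_iff.mp hidx
  -- elements of `⟨x⟩` commute with `t` and have fourth power one
  have hZ : ∀ c ∈ Subgroup.zpowers x, t * c = c * t ∧ c ^ 4 = 1 := by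
    intro c hc
    obtain ⟨n, rfl⟩ := Subgroup.mem_zpowers_iff.mp hc
    constructor
    · have : Commute t x := htx
      exact this.zpow_right n
    · rw [← zpow_natCast, ← zpow_mul, mul_comm, zpow_mul, zpow_natCast, hx4, one_zpow]
  -- `t` commutes with `a`
  have hta : t * (a : G) = (a : G) * t := by
    set y : G := (a : G)⁻¹ with hy
    have hyQ : y ∈ Q := Q.inv_mem a.2
    have hbQ : t * y * t⁻¹ ∈ Q := (Subgroup.mem_normalizer_iff.mp ht y).mp hyQ
    have hty : t * y = y * t := by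
      rcases ha ⟨t * y * t⁻¹, hbQ⟩ with ⟨h1, _⟩ | ⟨h1, _⟩
      · rw [Subgroup.mem_subgroupOf] at h1
        have h1' : t * y * t⁻¹ * y⁻¹ ∈ Subgroup.zpowers x := by
          have : (a : G) = y⁻¹ := by rw [hy, inv_inv]
          rw [← this]
          exact h1
        set c := t * y * t⁻¹ * y⁻¹ with hc
        obtain ⟨hct, hc4⟩ := hZ c h1'
        have e1 : t * y * t⁻¹ = c * y := by rw [hc]; group
        have e2 : t * c * t⁻¹ = c := by rw [hct]; group
        have e3 : t * (c * y) * t⁻¹ = c * (c * y) := by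
          calc t * (c * y) * t⁻¹ = (t * c * t⁻¹) * (t * y * t⁻¹) := by group
            _ = c * (c * y) := by rw [e2, e1]
        have e4 : t * (c * (c * y)) * t⁻¹ = c * (c * (c * y)) := by
          calc t * (c * (c * y)) * t⁻¹ = (t * c * t⁻¹) * (t * (c * y) * t⁻¹) := by group
            _ = c * (c * (c * y)) := by rw [e2, e3]
        have key : t * (t * (t * y * t⁻¹) * t⁻¹) * t⁻¹ = y := by
          have h3 : t ^ 3 = t * t * t := by rw [pow_succ, pow_two]
          have : t * (t * (t * y * t⁻¹) * t⁻¹) * t⁻¹ = t ^ 3 * y * (t ^ 3)⁻¹ := by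
            rw [h3]; group
          rw [this, ht3]; group
        rw [e1, e3, e4] at key
        have hc3 : c ^ 3 = 1 := by
          have : c ^ 3 * y = 1 * y := by
            rw [one_mul]
            calc c ^ 3 * y = c * (c * (c * y)) := by rw [pow_succ, pow_two]; group
              _ = y := key
          exact mul_right_cancel this
        have hc1 : c = 1 := by
          have h := hc4
          rw [pow_succ, hc3, one_mul] at h
          exact h
        rw [hc1, one_mul] at e1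
        calc t * y = t * y * t⁻¹ * t := by group
          _ = y * t := by rw [e1]
      · rw [Subgroup.mem_subgroupOf] at h1
        obtain ⟨hct, _⟩ := hZ _ h1
        -- `t * (t y t⁻¹) = (t y t⁻¹) * t`
        have : t * (t * y * t⁻¹) = t * y := by
          calc t * (t * y * t⁻¹) = (t * y * t⁻¹) * t := hct
            _ = t * y := by group
        have h2 := mul_left_cancel this
        calc t * y = t * y * t⁻¹ * t := by group
          _ = y * t := by rw [h2]
    -- from `y = a⁻¹`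
    have : (a : G) = y⁻¹ := by rw [hy, inv_inv]
    rw [this]
    calc t * y⁻¹ = y⁻¹ * (y * t) * y⁻¹ := by group
      _ = y⁻¹ * (t * y) * y⁻¹ := by rw [hty]
      _ = y⁻¹ * t := by group
  intro g hg
  rcases ha ⟨g, hg⟩ with ⟨h1, _⟩ | ⟨h1, _⟩
  · rw [Subgroup.mem_subgroupOf] at h1
    obtain ⟨hct, _⟩ := hZ _ h1
    have hct' : t * (g * (a : G)) = g * (a : G) * t := hct
    calc t * g = t * (g * (a : G)) * (a : G)⁻¹ := by group
      _ = g * (a : G) * t * (a : G)⁻¹ := by rw [hct']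
      _ = g * ((a : G) * t) * (a : G)⁻¹ := by group
      _ = g * (t * (a : G)) * (a : G)⁻¹ := by rw [hta]
      _ = g * t := by group
  · rw [Subgroup.mem_subgroupOf] at h1
    exact (hZ _ h1).1

section main

variable [Fintype F]

/-- an involution of `SL₂(q)`, `q` odd, is central -/
theorem mem_center_of_mul_self (hodd : Odd (Fintype.card F)) (x : SL2 F) (hxx : x * x = 1) :
    x ∈ Subgroup.center (SL2 F) := by
  have h2 : (2 : F) ≠ 0 := Cfsg.Agent.Lib.Helper41_SL2Torus.two_ne_zero_of_odd hodd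
  rcases Cfsg.Agent.Lib.Helper41_SL2Order4.coe_eq_one_or_neg_one_of_mul_self h2 x hxx with h1 | h1
  · exact Cfsg.Agent.Lib.Helper41_SL2.mem_center_of_scalar x 1 (by rw [h1, one_smul])
  · exact Cfsg.Agent.Lib.Helper41_SL2.mem_center_of_scalar x (-1) (by rw [h1, neg_smul, one_smul])

/-- An element of odd prime order commuting with a non-central element of a Sylow `2`-subgroup `Q`
of `SL₂(q)`, `q` odd, does not normalize `Q`. -/
theorem not_mem_normalizer (hodd : Odd (Fintype.card F)) (Q : Sylow 2 (SL2 F)) (x : SL2 F)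
    (hxQ : x ∈ Q) (hxc : x ∉ Subgroup.center (SL2 F)) (t : SL2 F) (r : ℕ) (hr : r.Prime)
    (hr2 : r ≠ 2) (htr : orderOf t = r) (htx : t * x = x * t) :
    t ∉ Subgroup.normalizer ((Q : Subgroup (SL2 F)) : Set (SL2 F)) := by
  intro htN
  have : Fact (Nat.Prime 2) := ⟨Nat.prime_two⟩
  have hq3 : 3 ≤ Fintype.card F := by
    have hq : 2 ≤ Fintype.card F := Fintype.one_lt_card
    rcases hodd with ⟨k, hk⟩; omega
  obtain ⟨hC, hN1, hN3⟩ := Cfsg.Agent.S2431.result hodd Q
  have hmod : (Fintype.card F % 8 = 1 ∨ Fintype.card F % 8 = 7) ∨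
      (Fintype.card F % 8 = 3 ∨ Fintype.card F % 8 = 5) := by
    rcases hodd with ⟨k, hk⟩; omega
  rcases hmod with hmod | hmod
  · -- `N(Q) = Q`
    rw [hN1 hmod] at htN
    obtain ⟨j, hj⟩ := exists_orderOf_of_mem Q htN
    rw [htr] at hj
    apply hr2
    have hj0 : j ≠ 0 := by
      rintro rfl
      rw [pow_zero] at hj
      exact hr.one_lt.ne' hj
    have : 2 ∣ r := by rw [hj]; exact dvd_pow_self 2 hj0
    exact ((Nat.prime_dvd_prime_iff_eq Nat.prime_two hr).mp this).symm
  · -- `|N(Q)| = 24`, `|Q| = 8`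
    have hQc : Nat.card (Q : Subgroup (SL2 F)) = 8 := by
      have := Cfsg.Agent.S2431.card_sylow hodd Q
      rw [(Cfsg.Agent.S2431.val2_mod8 _ hq3).2 hmod] at this
      rw [this]; norm_num
    have hNc := hN3 hmod
    have hNc' : Nat.card (Subgroup.normalizer ((Q : Subgroup (SL2 F)) : Set (SL2 F))) = 24 := by
      rw [hNc]
      show 3 * Nat.card (Q : Subgroup (SL2 F)) = 24
      rw [hQc]
    -- `r = 3`
    have hr24 : r ∣ 24 := by
      rw [← htr, ← hNc']
      have := orderOf_dvd_natCard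
        (⟨t, htN⟩ : Subgroup.normalizer ((Q : Subgroup (SL2 F)) : Set (SL2 F)))
      rwa [Subgroup.orderOf_mk] at this
    have hr3 : r = 3 := by
      have h24 : (24 : ℕ) = 2 ^ 3 * 3 := by norm_num
      rw [h24] at hr24
      rcases (Nat.Prime.dvd_mul hr).mp hr24 with h | h
      · exact absurd ((Nat.prime_dvd_prime_iff_eq hr Nat.prime_two).mp
          (Nat.Prime.dvd_of_dvd_pow hr h)) hr2
      · exact (Nat.prime_dvd_prime_iff_eq hr Nat.prime_three).mp h
    subst hr3
    have ht3 : t ^ 3 = 1 := by rw [← htr]; exact pow_orderOf_eq_one t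
    -- `x` has order `4`
    obtain ⟨k, hk⟩ := exists_orderOf_of_mem Q hxQ
    have hk8 : 2 ^ k ∣ 8 := by
      rw [← hk, ← hQc]
      have := orderOf_dvd_natCard (⟨x, hxQ⟩ : (Q : Subgroup (SL2 F)))
      rwa [Subgroup.orderOf_mk] at this
    have hk3 : k ≤ 3 := by
      have h8 : (8 : ℕ) = 2 ^ 3 := by norm_num
      rw [h8] at hk8
      exact (Nat.pow_dvd_pow_iff_le_right (le_refl 2)).mp hk8
    have hk2 : 2 ≤ k := by
      by_contra hlt
      apply hxc
      apply mem_center_of_mul_self hodd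
      rw [← sq]
      apply orderOf_dvd_iff_pow_eq_one.mp
      rw [hk]
      have : k = 0 ∨ k = 1 := by omega
      rcases this with rfl | rfl <;> norm_num
    have hk' : k = 2 := by
      by_contra hne
      have hk3' : k = 3 := by omega
      subst hk3'
      -- `Q = ⟨x⟩` is abelian
      have hle : Subgroup.zpowers x ≤ (Q : Subgroup (SL2 F)) := by
        rw [Subgroup.zpowers_le]; exact hxQ
      have heq : Subgroup.zpowers x = (Q : Subgroup (SL2 F)) := by
        apply Subgroup.eq_of_le_of_card_ge hle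
        rw [Nat.card_zpowers, hk, hQc]; norm_num
      obtain ⟨g, hg, h, hh, hgh⟩ := Cfsg.Agent.S2431.exists_not_commute hodd Q
      rw [← heq] at hg hh
      obtain ⟨m, rfl⟩ := Subgroup.mem_zpowers_iff.mp hg
      obtain ⟨n, rfl⟩ := Subgroup.mem_zpowers_iff.mp hh
      exact hgh (zpow_mul_comm x m n)
    subst hk'
    have hx4 : x ^ 4 = 1 := by
      have : orderOf x = 4 := by rw [hk]; norm_num
      rw [← this]; exact pow_orderOf_eq_one x
    have hle : Subgroup.zpowers x ≤ (Q : Subgroup (SL2 F)) := by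
      rw [Subgroup.zpowers_le]; exact hxQ
    have hidx : ((Subgroup.zpowers x).subgroupOf (Q : Subgroup (SL2 F))).index = 2 := by
      have h1 := Subgroup.card_mul_index ((Subgroup.zpowers x).subgroupOf (Q : Subgroup (SL2 F)))
      rw [Nat.card_congr (Subgroup.subgroupOfEquivOfLe hle).toEquiv, Nat.card_zpowers, hk, hQc]
        at h1
      omega
    have hcent := centralizes_of_index_two (Q : Subgroup (SL2 F)) x hx4 hidx t htN ht3 htx
    have htC : t ∈ Subgroup.centralizer ((Q : Subgroup (SL2 F)) : Set (SL2 F)) := by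
      rw [Subgroup.mem_centralizer_iff]
      intro g hg
      exact (hcent g hg).symm
    rw [hC] at htC
    have htt : t * t = 1 := Cfsg.Agent.S2431.center_mul_self t htC
    have ht1 : t = 1 := by
      have h := ht3
      rw [pow_succ, pow_two, htt, one_mul] at h
      exact h
    rw [ht1, orderOf_one] at htr
    omega

/-- If `q` is odd and neither `q - 1` nor `q + 1` is a power of two, every Sylow `2`-subgroup of
`SL₂(q)` is redundant. -/
theorem redundant_two (hodd : Odd (Fintype.card F))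
    (hm : ¬ ∃ k : ℕ, Fintype.card F = 2 ^ k + 1) (hp : ¬ ∃ k : ℕ, Fintype.card F + 1 = 2 ^ k) :
    Redundant 2 (SL2 F) := by
  have : Fact (Nat.Prime 2) := ⟨Nat.prime_two⟩
  obtain ⟨Q⟩ : Nonempty (Sylow 2 (SL2 F)) := inferInstance
  apply redundant_of_forall_mem Q
  intro x hxQ
  obtain ⟨x', hx'Q, hx'c, hcomm⟩ : ∃ x' ∈ Q, x' ∉ Subgroup.center (SL2 F) ∧
      ∀ t : SL2 F, t * x' = x' * t → t * x = x * t := by
    by_cases hxc : x ∈ Subgroup.center (SL2 F)
    · obtain ⟨g, hg, h, hh, hgh⟩ := Cfsg.Agent.S2431.exists_not_commute hodd Q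
      refine ⟨g, hg, ?_, fun t _ => (Subgroup.mem_center_iff.mp hxc t)⟩
      intro hgc
      exact hgh ((Subgroup.mem_center_iff.mp hgc h).symm)
    · exact ⟨x, hxQ, hxc, fun t ht => ht⟩
  obtain ⟨k, hk⟩ := exists_orderOf_of_mem Q hx'Q
  have hτ := trace_sq_ne_four_of_two_elt hodd x' k hk hx'c
  obtain ⟨t, r, hr, hr2, htr, htx⟩ := exists_commute_odd_prime hm hp x' hτ
  have htN := not_mem_normalizer hodd Q x' hx'Q hx'c t r hr hr2 htr htx
  refine ⟨t • Q, ?_, ?_⟩
  · intro h
    exact htN (Sylow.smul_eq_iff_mem_normalizer.mp h)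
  · rw [mem_smul_iff]
    have h1 := hcomm t htx
    have h2 : t⁻¹ * x * t = x := by
      calc t⁻¹ * x * t = t⁻¹ * (x * t) := by group
        _ = t⁻¹ * (t * x) := by rw [h1]
        _ = x := by group
    rw [h2]; exact hxQ

/-- `SL₂(q)` has a redundant Sylow `p`-subgroup iff `p = 2` and `q` is none of `2ᵏ - 1`, `2ᵏ`,
`2ᵏ + 1`. -/
theorem sl2_redundant_iff (p : ℕ) [Fact p.Prime] :
    Redundant p (SL2 F) ↔
      (p = 2 ∧ (¬ ∃ k : ℕ, Fintype.card F + 1 = 2 ^ k) ∧ (¬ ∃ k : ℕ, Fintype.card F = 2 ^ k) ∧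
        ¬ ∃ k : ℕ, Fintype.card F = 2 ^ k + 1) := by
  have hq1 : 1 < Fintype.card F := Fintype.one_lt_card
  constructor
  · intro hR
    have hp2 : p = 2 := by
      by_contra hp2
      obtain ⟨ℓ, hℓ⟩ := CharP.exists F
      obtain ⟨n, hℓp, hcard⟩ := FiniteField.card F ℓ
      by_cases hpq : p ∣ Fintype.card F
      · have hpℓ : p = ℓ := by
          rw [hcard] at hpq
          exact (Nat.prime_dvd_prime_iff_eq Fact.out hℓp).mp (Nat.Prime.dvd_of_dvd_pow Fact.out hpq)
        subst hpℓ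
        exact not_redundant_char p hR
      · exact not_redundant_odd p hp2 hpq hR
    subst hp2
    have hchar2 : ∀ k : ℕ, Fintype.card F = 2 ^ k → False := by
      intro k hk
      have : CharP F 2 := charP_of_card_eq_prime_pow hk
      exact not_redundant_char 2 hR
    refine ⟨rfl, ?_, ?_, ?_⟩
    · rintro ⟨k, hk⟩
      exact not_redundant_two_nonsplit k hk hR
    · rintro ⟨k, hk⟩
      exact hchar2 k hk
    · rintro ⟨k, hk⟩
      rcases Nat.lt_or_ge k 2 with hlt | hge
      · have : k = 0 ∨ k = 1 := by omega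
        rcases this with rfl | rfl
        · exact hchar2 1 (by rw [hk]; norm_num)
        · exact not_redundant_two_nonsplit 2 (by rw [hk]; norm_num) hR
      · exact not_redundant_two_split k hge hk hR
  · rintro ⟨rfl, hp, h2, hm⟩
    have hodd : Odd (Fintype.card F) := by
      rw [← Nat.not_even_iff_odd, Nat.even_iff]
      intro heven
      have hc2 := FiniteField.even_card_iff_char_two.mpr heven
      have : CharP F 2 := by rw [← hc2]; exact ringChar.charP F
      obtain ⟨n, _, hcard⟩ := FiniteField.card F 2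
      exact h2 ⟨n, hcard⟩
    exact redundant_two hodd hm hp

end main

end Cfsg.Agent.Lib.Helper41_SL2Redundant2
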