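import Cfsg.Agent.Lib.Helper41_SL2Conic

set_option autoImplicit false

namespace Cfsg.Agent.Lib.Helper41_SL2Split

open QuadraticAlgebra Cfsg.Agent.Lib.Helper41_SL2 Cfsg.Agent.Lib.Helper41_SL2Conj
  Cfsg.Agent.Lib.Helper41_SL2Conic

section

variable {F : Type*} [Field F] [Fintype F]

/-- An element of `SL₂(F)` whose characteristic polynomial has no root in `F` has order dividing `q + 1`. -/
theorem pow_card_add_one_eq_one_of_no_root (X : Matrix.SpecialLinearGroup (Fin 2) F)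
    (h : ∀ r : F, r ^ 2 ≠ -1 + Matrix.trace (X : Matrix (Fin 2) (Fin 2) F) * r) :
    (X : Matrix (Fin 2) (Fin 2) F) ^ (Fintype.card F + 1) = 1 := by
  set M : Matrix (Fin 2) (Fin 2) F := (X : Matrix (Fin 2) (Fin 2) F) with hM
  set t : F := Matrix.trace M with ht
  have hMM : M * M = (-1 : F) • (1 : Matrix (Fin 2) (Fin 2) F) + t • M := sl2_mul_self X
  have : Fact (∀ r : F, r ^ 2 ≠ -1 + t * r) := ⟨h⟩
  let ψ : QuadraticAlgebra F (-1) t →ₐ[F] Matrix (Fin 2) (Fin 2) F :=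
    QuadraticAlgebra.lift ⟨M, hMM⟩
  have hψω : ψ ω = M := by
    simp [ψ, QuadraticAlgebra.lift]
  have hω : (ω : QuadraticAlgebra F (-1) t) ^ (Fintype.card F + 1) = 1 := by
    rw [pow_card_add_one, QuadraticAlgebra.norm_def]
    simp
  rw [← hψω, ← map_pow, hω, map_one]

omit [Fintype F] in
theorem trace_inv_mul (A G : Matrix.SpecialLinearGroup (Fin 2) F) :
    Matrix.trace ((A⁻¹ * G : Matrix.SpecialLinearGroup (Fin 2) F) : Matrix (Fin 2) (Fin 2) F) =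
      (A : Matrix (Fin 2) (Fin 2) F) 1 1 * (G : Matrix (Fin 2) (Fin 2) F) 0 0 -
        (A : Matrix (Fin 2) (Fin 2) F) 0 1 * (G : Matrix (Fin 2) (Fin 2) F) 1 0 -
        (A : Matrix (Fin 2) (Fin 2) F) 1 0 * (G : Matrix (Fin 2) (Fin 2) F) 0 1 +
        (A : Matrix (Fin 2) (Fin 2) F) 0 0 * (G : Matrix (Fin 2) (Fin 2) F) 1 1 := by
  rw [Matrix.SpecialLinearGroup.coe_mul, Matrix.SpecialLinearGroup.coe_inv, Matrix.adjugate_fin_two,
    Matrix.trace_fin_two]
  simp [Matrix.mul_apply, Fin.sum_univ_two]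
  ring

/-- If `X ∈ SL₂(F)` has an eigenvalue in `F` and trace `τ` with `τ² ≠ 4`, then every non-scalar
element of `SL₂(F)` is a product of two conjugates of `X`. -/
theorem product_of_two_conjugates_split (X G : Matrix.SpecialLinearGroup (Fin 2) F)
    (r : F) (hr : r ^ 2 = -1 + Matrix.trace (X : Matrix (Fin 2) (Fin 2) F) * r)
    (hτ4 : (Matrix.trace (X : Matrix (Fin 2) (Fin 2) F)) ^ 2 ≠ 4)
    (hG : ¬ ∃ c : F, (G : Matrix (Fin 2) (Fin 2) F) = c • (1 : Matrix (Fin 2) (Fin 2) F)) :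
    ∃ U V : Matrix.SpecialLinearGroup (Fin 2) F, G = (U * X * U⁻¹) * (V * X * V⁻¹) := by
  set τ := Matrix.trace (X : Matrix (Fin 2) (Fin 2) F) with hτdef
  set r' : F := τ - r with hr'
  have hprod : r * r' = 1 := by rw [hr']; linear_combination (-1 : F) * hr
  have hsum : r + r' = τ := by rw [hr']; ring
  have hGdet : (G : Matrix (Fin 2) (Fin 2) F).det = 1 := G.2
  rw [Matrix.det_fin_two] at hGdet
  -- it suffices to find A with trace τ such that A⁻¹ G has trace τ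
  suffices hA : ∃ A : Matrix.SpecialLinearGroup (Fin 2) F,
      Matrix.trace (A : Matrix (Fin 2) (Fin 2) F) = τ ∧
      Matrix.trace ((A⁻¹ * G : Matrix.SpecialLinearGroup (Fin 2) F) : Matrix (Fin 2) (Fin 2) F) = τ by
    obtain ⟨A, hA1, hA2⟩ := hA
    obtain ⟨U, hU⟩ := conj_of_trace_eq A X hA1 hτ4
    obtain ⟨V, hV⟩ := conj_of_trace_eq (A⁻¹ * G) X hA2 hτ4
    refine ⟨U, V, ?_⟩
    rw [← hU, ← hV, mul_inv_cancel_left]
  -- reduce to entries
  suffices hE : ∃ a b c d : F, a * d - b * c = 1 ∧ a + d = τ ∧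
      d * (G : Matrix (Fin 2) (Fin 2) F) 0 0 - b * (G : Matrix (Fin 2) (Fin 2) F) 1 0 -
        c * (G : Matrix (Fin 2) (Fin 2) F) 0 1 + a * (G : Matrix (Fin 2) (Fin 2) F) 1 1 = τ by
    obtain ⟨a, b, c, d, hdet, htr, htr2⟩ := hE
    let A : Matrix.SpecialLinearGroup (Fin 2) F :=
      ⟨!![a, b; c, d], by rw [Matrix.det_fin_two]; simpa using hdet⟩
    refine ⟨A, ?_, ?_⟩
    · simpa [A, Matrix.trace_fin_two] using htr
    · refine (trace_inv_mul A G).trans ?_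
      simpa [A] using htr2
  by_cases h3 : (G : Matrix (Fin 2) (Fin 2) F) 1 0 ≠ 0
  · refine ⟨r, (r' * (G : Matrix (Fin 2) (Fin 2) F) 0 0 + r * (G : Matrix (Fin 2) (Fin 2) F) 1 1 - τ) /
      (G : Matrix (Fin 2) (Fin 2) F) 1 0, 0, r', by simp [hprod], hsum, ?_⟩
    field_simp
    ring
  · push Not at h3
    by_cases h2 : (G : Matrix (Fin 2) (Fin 2) F) 0 1 ≠ 0
    · refine ⟨r, 0, (r' * (G : Matrix (Fin 2) (Fin 2) F) 0 0 + r * (G : Matrix (Fin 2) (Fin 2) F) 1 1 - τ) /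
        (G : Matrix (Fin 2) (Fin 2) F) 0 1, r', by simp [hprod], hsum, ?_⟩
      field_simp
      ring
    · push Not at h2
      have hne : (G : Matrix (Fin 2) (Fin 2) F) 0 0 ≠ (G : Matrix (Fin 2) (Fin 2) F) 1 1 := by
        intro h
        apply hG
        refine ⟨(G : Matrix (Fin 2) (Fin 2) F) 0 0, ?_⟩
        ext i j
        fin_cases i <;> fin_cases j <;> simp [h2, h3, h]
      have hne' : (G : Matrix (Fin 2) (Fin 2) F) 1 1 - (G : Matrix (Fin 2) (Fin 2) F) 0 0 ≠ 0 :=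
        sub_ne_zero.2 (Ne.symm hne)
      obtain ⟨a, ha⟩ : ∃ a : F, a * ((G : Matrix (Fin 2) (Fin 2) F) 1 1 - (G : Matrix (Fin 2) (Fin 2) F) 0 0) =
          τ * (1 - (G : Matrix (Fin 2) (Fin 2) F) 0 0) :=
        ⟨τ * (1 - (G : Matrix (Fin 2) (Fin 2) F) 0 0) /
          ((G : Matrix (Fin 2) (Fin 2) F) 1 1 - (G : Matrix (Fin 2) (Fin 2) F) 0 0), by field_simp⟩
      refine ⟨a, 1, a * (τ - a) - 1, τ - a, by ring, by ring, ?_⟩
      rw [h2, h3]
      linear_combination ha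

end

end Cfsg.Agent.Lib.Helper41_SL2Split
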