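import Mathlib
import Cfsg.Agent.Lib.Helper41_SLRDefs

/-!
# SLR market (S4613 package PSL), package SSVAL: the matrix of `ss j`
-/

set_option autoImplicit false
set_option linter.unusedSectionVars false
set_option linter.unusedVariables false
set_option linter.unusedSimpArgs false

namespace Cfsg.Agent.Lib.Helper41_SLR_SSVAL

open Matrix Cfsg.Agent.Lib.Helper68_MatGrp Cfsg.Agent.Lib.Helper41_SLRDefs

variable {n : ℕ} {F : Type*} [Field F]

/-- `ss j = 1 + E_ab - E_ba - E_aa - E_bb` (`a = lo j`, `b = hi j`) -/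
theorem ss_val (j : Fin (n - 1)) :
    (ss j : Matrix.SpecialLinearGroup (Fin n) F).1 =
      1 + Matrix.single (lo j) (hi j) (1 : F) + Matrix.single (hi j) (lo j) (-1 : F)
        + Matrix.single (lo j) (lo j) (-1 : F) + Matrix.single (hi j) (hi j) (-1 : F) := by
  show (xs j 1 : Matrix.SpecialLinearGroup (Fin n) F).1 * (ys j (-1) : Matrix.SpecialLinearGroup (Fin n) F).1
    * (xs j 1 : Matrix.SpecialLinearGroup (Fin n) F).1 = _
  rw [xs_val, ys_val]
  have hXX : (Matrix.single (lo j) (hi j) (1 : F) : Matrix (Fin n) (Fin n) F) *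
      Matrix.single (lo j) (hi j) 1 = 0 :=
    Matrix.single_mul_single_of_ne _ _ _ _ (hi_ne_lo j) _
  have hXY : (Matrix.single (lo j) (hi j) (1 : F) : Matrix (Fin n) (Fin n) F) *
      Matrix.single (hi j) (lo j) (-1) = Matrix.single (lo j) (lo j) (-1) := by
    rw [Matrix.single_mul_single_same, one_mul]
  have hYX : (Matrix.single (hi j) (lo j) (-1 : F) : Matrix (Fin n) (Fin n) F) *
      Matrix.single (lo j) (hi j) 1 = Matrix.single (hi j) (hi j) (-1) := by
    rw [Matrix.single_mul_single_same, mul_one]
  have hAX : (Matrix.single (lo j) (lo j) (-1 : F) : Matrix (Fin n) (Fin n) F) *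
      Matrix.single (lo j) (hi j) 1 = Matrix.single (lo j) (hi j) (-1) := by
    rw [Matrix.single_mul_single_same, mul_one]
  have hneg : (Matrix.single (lo j) (hi j) (-1 : F) : Matrix (Fin n) (Fin n) F) =
      - Matrix.single (lo j) (hi j) 1 := by
    rw [← Matrix.single_neg]
  simp only [Matrix.add_mul, Matrix.mul_add, Matrix.one_mul, Matrix.mul_one, hXX, hXY, hYX, hAX, hneg]
  abel

/-- **SLR-SSVAL** [M] the matrix of `ss j`. -/
theorem ss_apply (j : Fin (n - 1)) (a b : Fin n) :
    (ss j : Matrix.SpecialLinearGroup (Fin n) F).1 a b =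
      if b = lo j then (if a = hi j then -1 else 0)
      else if b = hi j then (if a = lo j then 1 else 0)
      else (if a = b then 1 else 0) := by
  rw [ss_val]
  simp only [Matrix.add_apply, Matrix.one_apply, Matrix.single_apply]
  have hne := lo_ne_hi j
  have hne' := hi_ne_lo j
  by_cases hb1 : b = lo j
  · subst hb1
    by_cases ha1 : a = hi j
    · subst ha1
      simp [hne, hne']
    · by_cases ha2 : a = lo j
      · subst ha2
        simp [hne, hne']
      · simp [hne, hne', ha1, ha2, Ne.symm ha1, Ne.symm ha2]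
  · by_cases hb2 : b = hi j
    · subst hb2
      by_cases ha2 : a = lo j
      · subst ha2
        simp [hne, hne']
      · by_cases ha1 : a = hi j
        · subst ha1
          simp [hne, hne']
        · simp [hne, hne', ha1, ha2, Ne.symm ha1, Ne.symm ha2]
    · simp [hb1, hb2, Ne.symm hb1, Ne.symm hb2]

end Cfsg.Agent.Lib.Helper41_SLR_SSVAL
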