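import Mathlib
import Cfsg.Agent.Lib.Helper41_SLRDefs
import Cfsg.Agent.Lib.Helper41_SLR_SSVAL
import Cfsg.Agent.Lib.Helper26_SLR_OPP

/-!
# SLR market (sub-market of S4613 package PSL; sub-architect helper41): package R3

In the 2x2 block of the `j`-th simple root: `s x(t) s⁻¹ = y(-t) = b s x(-1/t)` with `b = [[1/t, -1], [0, t]]`.
-/

set_option autoImplicit false
set_option linter.unusedSectionVars false
set_option linter.unusedVariables false
set_option linter.unusedSimpArgs false

namespace Cfsg.Agent.Lib.Helper41_SLR_R3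

open Matrix Cfsg.Agent.Lib.Helper68_MatGrp Cfsg.Agent.Lib.Helper41_SLRDefs

variable {n : ℕ} {F : Type*} [Field F]

/-- the upper triangular matrix `[[1/t, -1], [0, t]]` in the block of the `j`-th simple root -/
def h41_bM (j : Fin (n - 1)) (t : F) : Matrix (Fin n) (Fin n) F :=
  1 + Matrix.single (lo j) (lo j) (t⁻¹ - 1) + Matrix.single (hi j) (hi j) (t - 1)
    + Matrix.single (lo j) (hi j) (-1 : F)

theorem h41_bM_key (j : Fin (n - 1)) (t : F) (ht : t ≠ 0) :
    h41_bM j t * (ss j : Matrix.SpecialLinearGroup (Fin n) F).1 *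
      (xs j (-t⁻¹) : Matrix.SpecialLinearGroup (Fin n) F).1 =
      (ys j (-t) : Matrix.SpecialLinearGroup (Fin n) F).1 := by
  rw [Cfsg.Agent.Lib.Helper41_SLR_SSVAL.ss_val, xs_val, ys_val, h41_bM]
  have hne := lo_ne_hi j
  have hne' := hi_ne_lo j
  simp only [Matrix.add_mul, Matrix.mul_add, Matrix.one_mul, Matrix.mul_one,
    Matrix.single_mul_single_same, Matrix.single_mul_single_of_ne _ _ _ _ hne,
    Matrix.single_mul_single_of_ne _ _ _ _ hne', add_zero, zero_add, Matrix.zero_mul, Matrix.mul_zero]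
  ext a c
  simp only [Matrix.add_apply, Matrix.single_apply, Matrix.one_apply]
  by_cases ha1 : a = lo j
  · subst ha1
    by_cases hc1 : c = lo j
    · subst hc1
      simp [hne, hne']
    · by_cases hc2 : c = hi j
      · subst hc2
        simp [hne, hne']
        field_simp
        ring
      · simp [hne, hne', hc1, hc2, Ne.symm hc1, Ne.symm hc2]
  · by_cases ha2 : a = hi j
    · subst ha2
      by_cases hc1 : c = lo j
      · subst hc1
        simp [hne, hne']
        ring
      · by_cases hc2 : c = hi j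
        · subst hc2
          simp [hne, hne']
          field_simp
          ring
        · simp [hne, hne', hc1, hc2, Ne.symm hc1, Ne.symm hc2]
    · simp [ha1, ha2, Ne.symm ha1, Ne.symm ha2]

theorem h41_bM_upper (j : Fin (n - 1)) (t : F) (a c : Fin n) (hca : c.val < a.val) :
    h41_bM j t a c = 0 := by
  have hac : a ≠ c := fun e => by rw [e] at hca; exact lt_irrefl _ hca
  have h1 : ¬ (lo j = a ∧ lo j = c) := fun ⟨e1, e2⟩ => hac (e1.symm.trans e2)
  have h2 : ¬ (hi j = a ∧ hi j = c) := fun ⟨e1, e2⟩ => hac (e1.symm.trans e2)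
  have h3 : ¬ (lo j = a ∧ hi j = c) := by
    rintro ⟨e1, e2⟩
    rw [← e1, ← e2] at hca
    simp at hca
  simp only [h41_bM, Matrix.add_apply, Matrix.single_apply, Matrix.one_apply, if_neg hac, if_neg h1,
    if_neg h2, if_neg h3, add_zero]

/-- **SLR-R3** [M] in the 2x2 block: `y(-t) = b s x(t')` with `t' = -1/t`, `b = [[1/t, -1], [0, t]]`. -/
theorem r3 (j : Fin (n - 1)) (t : F) (ht : t ≠ 0) :
    ∃ b ∈ Bsl n F, ∃ t' : F,
      (ss j : Matrix.SpecialLinearGroup (Fin n) F) * xs j t * (ss j)⁻¹ = b * ss j * xs j t' := by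
  refine ⟨ys j (-t) * (ss j * xs j (-t⁻¹))⁻¹, ?_, -t⁻¹, ?_⟩
  · have hb : (ys j (-t) * (ss j * xs j (-t⁻¹))⁻¹ : Matrix.SpecialLinearGroup (Fin n) F).1 =
        h41_bM j t := by
      have e1 : (ys j (-t) * (ss j * xs j (-t⁻¹))⁻¹ : Matrix.SpecialLinearGroup (Fin n) F).1 =
          (ys j (-t) : Matrix.SpecialLinearGroup (Fin n) F).1 *
            ((ss j * xs j (-t⁻¹))⁻¹ : Matrix.SpecialLinearGroup (Fin n) F).1 := rfl
      have e2 : ((ss j * xs j (-t⁻¹)) : Matrix.SpecialLinearGroup (Fin n) F).1 *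
          ((ss j * xs j (-t⁻¹))⁻¹ : Matrix.SpecialLinearGroup (Fin n) F).1 = 1 := by
        have := congrArg Subtype.val
          (mul_inv_cancel (ss j * xs j (-t⁻¹) : Matrix.SpecialLinearGroup (Fin n) F))
        exact this
      have e3 : ((ss j * xs j (-t⁻¹)) : Matrix.SpecialLinearGroup (Fin n) F).1 =
          (ss j : Matrix.SpecialLinearGroup (Fin n) F).1 *
            (xs j (-t⁻¹) : Matrix.SpecialLinearGroup (Fin n) F).1 := rfl
      rw [e1, ← h41_bM_key j t ht, Matrix.mul_assoc (h41_bM j t), ← e3, Matrix.mul_assoc, e2,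
        Matrix.mul_one]
    rw [mem_Bsl]
    intro a c hca
    rw [hb]
    exact h41_bM_upper j t a c hca
  · rw [Cfsg.Agent.Lib.Helper26_SLR_OPP.opp']
    group

end Cfsg.Agent.Lib.Helper41_SLR_R3
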