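import Mathlib
import Cfsg.Agent.Lib.Helper41_SLRDefs

/-!
# SLR market (S4613 package PSL), package REV: a monomial element of `SL_n(F)` reversing the heights
-/

set_option autoImplicit false
set_option linter.unusedSectionVars false
set_option linter.unusedVariables false
set_option linter.unusedSimpArgs false

namespace Cfsg.Agent.Lib.Helper41_SLR_REV

open Matrix Cfsg.Agent.Lib.Helper68_MatGrp Cfsg.Agent.Lib.Helper41_SLRDefs

variable {n : ℕ} {F : Type*} [Field F]

/-- **SLR-REV** [M] the signed antidiagonal matrix. -/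
theorem exists_rev : ∃ g₀ : Matrix.SpecialLinearGroup (Fin n) F, IsMono (φ n F) g₀ Fin.revPerm := by
  cases n with
  | zero => exact ⟨1, fun a => a.elim0⟩
  | succ k =>
    set σ : Equiv.Perm (Fin (k + 1)) := Fin.revPerm with hσ
    set ε : F := (((Equiv.Perm.sign σ : ℤˣ) : ℤ) : F) with hε
    have hεε : ε * ε = 1 := by
      rcases Int.units_eq_one_or (Equiv.Perm.sign σ) with h | h
      · rw [hε, h]; simp
      · rw [hε, h]; simp
    set d : Fin (k + 1) → F := fun b => if b = 0 then ε else 1 with hd
    set M : Matrix (Fin (k + 1)) (Fin (k + 1)) F := σ.permMatrix F * Matrix.diagonal d with hM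
    have hdet : M.det = 1 := by
      rw [hM, Matrix.det_mul, Matrix.det_permutation, Matrix.det_diagonal]
      have hprod : ∏ b, d b = ε := by
        rw [hd]
        rw [Finset.prod_ite_eq' Finset.univ (0 : Fin (k + 1)) (fun _ => ε)]
        simp
      rw [hprod]
      exact hεε
    refine ⟨⟨M, hdet⟩, ?_⟩
    intro a b hab
    show M a b = 0
    rw [hM, Matrix.mul_diagonal]
    have h0 : (σ.permMatrix F) a b = 0 := by
      show (σ.toPEquiv.toMatrix : Matrix _ _ F) a b = 0
      rw [PEquiv.toMatrix_apply, Equiv.toPEquiv_apply, if_neg]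
      intro hmem
      apply hab
      have h1 : σ a = b := by simpa using hmem
      rw [← h1]
      show a = Fin.rev (Fin.rev a)
      rw [Fin.rev_rev]
    rw [h0, zero_mul]

end Cfsg.Agent.Lib.Helper41_SLR_REV
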