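import Mathlib
import Cfsg.Prelude.Def_GeometricClasses
import Cfsg.Agent.Lib.Helper97_SpTensBasic
import Cfsg.Agent.Lib.Helper70_Tens_TP10b
import Cfsg.Agent.Lib.Helper94_Bridge

set_option autoImplicit false
set_option linter.unusedSectionVars false

/-!
# SP3 bridge block (helper98, for helper97's `Sp_{2m}(q) ⊗ O_3(q)` theorem): shared definitions

* `thetaI e P : (ι → F) ≃ₗ[F] Matrix (Fin n₁) (Fin n₂) F` : column vectors as `n₁ × n₂` matrices through the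
  change of basis `P` and the bijection `e : ι ≃ Fin n₁ × Fin n₂` (helper70's `theta` for a general index type `ι`).
* `PhiI e P : GL ι F ≃* (Matrix (Fin n₁) (Fin n₂) F ≃ₗ[F] Matrix (Fin n₁) (Fin n₂) F)`.
* `psi A A' B B' : Matrix κ₁ κ₂ F ≃ₗ[F] Matrix ι₁ ι₂ F`, `Y ↦ A * Y * Bᵀ` (`A`, `A'` and `B`, `B'` mutually inverse).
* `spV m` : the isometry group of `tf m` on `Matrix (Fin m ⊕ Fin m) (Fin 3) F`.
-/

namespace Cfsg.Agent.Lib.Helper98_SP3_BRDefs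

open Matrix Cfsg.Geo
open scoped Kronecker
open Cfsg.Agent.Lib.Helper98_ExtDefs Cfsg.Agent.Lib.Helper97_TensDefs
  Cfsg.Agent.Lib.Helper97_SpTensDefs Cfsg.Agent.Lib.Helper97_SpTensBasic
  Cfsg.Agent.Lib.Helper70_Tens_TP10b Cfsg.Agent.Lib.Helper94_Bridge

variable {F : Type*} [Field F] {ι : Type} [Fintype ι] [DecidableEq ι] {n₁ n₂ : ℕ}

/-- the identification of column vectors with `n₁ × n₂` matrices -/
noncomputable def thetaI (e : ι ≃ Fin n₁ × Fin n₂) (P : GL ι F) :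
    (ι → F) ≃ₗ[F] Matrix (Fin n₁) (Fin n₂) F where
  toFun v := Matrix.of fun i k => (((P⁻¹ : GL ι F) : Matrix ι ι F) *ᵥ v) (e.symm (i, k))
  map_add' v w := by
    ext i k
    simp [Matrix.mulVec_add]
  map_smul' c v := by
    ext i k
    simp [Matrix.mulVec_smul]
  invFun X := (P : Matrix ι ι F) *ᵥ (fun j => X (e j).1 (e j).2)
  left_inv v := by
    have h : (fun j => (Matrix.of fun i k =>
        (((P⁻¹ : GL ι F) : Matrix ι ι F) *ᵥ v) (e.symm (i, k))) (e j).1 (e j).2)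
        = ((P⁻¹ : GL ι F) : Matrix ι ι F) *ᵥ v := by
      funext j
      simp
    show (P : Matrix ι ι F) *ᵥ _ = v
    rw [h, Matrix.mulVec_mulVec, ← Units.val_mul, mul_inv_cancel, Units.val_one, Matrix.one_mulVec]
  right_inv X := by
    ext i k
    show (((P⁻¹ : GL ι F) : Matrix ι ι F) *ᵥ
      ((P : Matrix ι ι F) *ᵥ (fun j => X (e j).1 (e j).2))) (e.symm (i, k)) = X i k
    rw [Matrix.mulVec_mulVec, ← Units.val_mul, inv_mul_cancel, Units.val_one, Matrix.one_mulVec]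
    simp

theorem thetaI_apply (e : ι ≃ Fin n₁ × Fin n₂) (P : GL ι F) (v : ι → F) (i : Fin n₁) (k : Fin n₂) :
    thetaI e P v i k = (((P⁻¹ : GL ι F) : Matrix ι ι F) *ᵥ v) (e.symm (i, k)) := rfl

theorem thetaI_symm_apply (e : ι ≃ Fin n₁ × Fin n₂) (P : GL ι F) (X : Matrix (Fin n₁) (Fin n₂) F) :
    (thetaI e P).symm X = (P : Matrix ι ι F) *ᵥ (fun j => X (e j).1 (e j).2) := rfl

/-- `θ (P (x ∘ e)) = x` as a matrix -/
theorem thetaI_mulVec (e : ι ≃ Fin n₁ × Fin n₂) (P : GL ι F) (x : Fin n₁ × Fin n₂ → F) :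
    thetaI e P ((P : Matrix ι ι F) *ᵥ (x ∘ e)) = Matrix.of fun i k => x (i, k) := by
  have h : (P : Matrix ι ι F) *ᵥ (x ∘ e) = (thetaI e P).symm (Matrix.of fun i k => x (i, k)) := by
    rw [thetaI_symm_apply]
    rfl
  rw [h, LinearEquiv.apply_symm_apply]

/-- the isomorphism between `GL ι F` and the automorphism group of the matrix space -/
noncomputable def PhiI (e : ι ≃ Fin n₁ × Fin n₂) (P : GL ι F) :
    GL ι F ≃* (Matrix (Fin n₁) (Fin n₂) F ≃ₗ[F] Matrix (Fin n₁) (Fin n₂) F) :=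
  (glEquiv ι F).trans (conjE (thetaI e P))

theorem PhiI_apply (e : ι ≃ Fin n₁ × Fin n₂) (P : GL ι F) (g : GL ι F)
    (X : Matrix (Fin n₁) (Fin n₂) F) :
    PhiI e P g X = thetaI e P ((g : Matrix ι ι F) *ᵥ (thetaI e P).symm X) := by
  show conjE (thetaI e P) (glEquiv ι F g) X = _
  rw [conjE_apply, glEquiv_apply]

/-- the change of coordinates `Y ↦ A * Y * Bᵀ` on matrix spaces -/
def psi {ι₁ κ₁ ι₂ κ₂ : Type*} [Fintype ι₁] [Fintype κ₁] [Fintype ι₂] [Fintype κ₂]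
    [DecidableEq ι₁] [DecidableEq κ₁] [DecidableEq ι₂] [DecidableEq κ₂]
    (A : Matrix ι₁ κ₁ F) (A' : Matrix κ₁ ι₁ F) (B : Matrix ι₂ κ₂ F) (B' : Matrix κ₂ ι₂ F)
    (hA : A * A' = 1) (hA' : A' * A = 1) (hB : B * B' = 1) (hB' : B' * B = 1) :
    Matrix κ₁ κ₂ F ≃ₗ[F] Matrix ι₁ ι₂ F where
  toFun Y := A * Y * Bᵀ
  map_add' Y Z := by rw [Matrix.mul_add, Matrix.add_mul]
  map_smul' c Y := by rw [Matrix.mul_smul, Matrix.smul_mul, RingHom.id_apply]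
  invFun X := A' * X * B'ᵀ
  left_inv Y := by
    show A' * (A * Y * Bᵀ) * B'ᵀ = Y
    rw [Matrix.mul_assoc A, ← Matrix.mul_assoc A', hA', Matrix.one_mul, Matrix.mul_assoc,
      ← Matrix.transpose_mul, hB', Matrix.transpose_one, Matrix.mul_one]
  right_inv X := by
    show A * (A' * X * B'ᵀ) * Bᵀ = X
    rw [Matrix.mul_assoc A', ← Matrix.mul_assoc A, hA, Matrix.one_mul, Matrix.mul_assoc,
      ← Matrix.transpose_mul, hB, Matrix.transpose_one, Matrix.mul_one]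

theorem psi_apply {ι₁ κ₁ ι₂ κ₂ : Type*} [Fintype ι₁] [Fintype κ₁] [Fintype ι₂] [Fintype κ₂]
    [DecidableEq ι₁] [DecidableEq κ₁] [DecidableEq ι₂] [DecidableEq κ₂]
    (A : Matrix ι₁ κ₁ F) (A' : Matrix κ₁ ι₁ F) (B : Matrix ι₂ κ₂ F) (B' : Matrix κ₂ ι₂ F)
    (hA : A * A' = 1) (hA' : A' * A = 1) (hB : B * B' = 1) (hB' : B' * B = 1) (Y : Matrix κ₁ κ₂ F) :
    psi A A' B B' hA hA' hB hB' Y = A * Y * Bᵀ := rfl

theorem psi_symm_apply {ι₁ κ₁ ι₂ κ₂ : Type*} [Fintype ι₁] [Fintype κ₁] [Fintype ι₂] [Fintype κ₂]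
    [DecidableEq ι₁] [DecidableEq κ₁] [DecidableEq ι₂] [DecidableEq κ₂]
    (A : Matrix ι₁ κ₁ F) (A' : Matrix κ₁ ι₁ F) (B : Matrix ι₂ κ₂ F) (B' : Matrix κ₂ ι₂ F)
    (hA : A * A' = 1) (hA' : A' * A = 1) (hB : B * B' = 1) (hB' : B' * B = 1) (X : Matrix ι₁ ι₂ F) :
    (psi A A' B B' hA hA' hB hB').symm X = A' * X * B'ᵀ := rfl

/-- the isometry group of `tf m` -/
def spV (m : ℕ) (F : Type*) [Field F] :
    Subgroup (Matrix (Fin m ⊕ Fin m) (Fin 3) F ≃ₗ[F] Matrix (Fin m ⊕ Fin m) (Fin 3) F) where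
  carrier := {g | ∀ X Y, tf m (g X) (g Y) = tf m X Y}
  mul_mem' := by
    intro g h hg hh X Y
    rw [LinearEquiv.mul_apply, LinearEquiv.mul_apply, hg, hh]
  one_mem' := fun X Y => rfl
  inv_mem' := by
    intro g hg X Y
    have h := hg (g⁻¹ X) (g⁻¹ Y)
    have e1 : ∀ Z, g (g⁻¹ Z) = Z := fun Z => by
      change (g * g⁻¹) Z = Z
      rw [mul_inv_cancel]
      rfl
    rw [e1, e1] at h
    exact h.symm

theorem mem_spV {m : ℕ} {g : Matrix (Fin m ⊕ Fin m) (Fin 3) F ≃ₗ[F] Matrix (Fin m ⊕ Fin m) (Fin 3) F} :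
    g ∈ spV m F ↔ ∀ X Y, tf m (g X) (g Y) = tf m X Y := Iff.rfl

end Cfsg.Agent.Lib.Helper98_SP3_BRDefs
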