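import Mathlib
import Cfsg.Prelude.Def_GeometricClasses
import Cfsg.Agent.Lib.Helper97_SpTensBasic
import Cfsg.Agent.Lib.Helper98_SP3_BRDefs
import Cfsg.Agent.Lib.Helper44_QuadClass

set_option autoImplicit false
set_option linter.unusedSectionVars false
set_option linter.unusedVariables false

/-!
# SP3BR-SFORM: a non-degenerate symmetric form on `F^3` (`F` finite of odd order) is similar to `be`
-/

namespace Cfsg.Agent.Lib.Helper41_SP3BR_SFORM

open Matrix
open Cfsg.Agent.Lib.Helper98_ExtDefs Cfsg.Agent.Lib.Helper97_TensDefs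
  Cfsg.Agent.Lib.Helper97_SpTensDefs Cfsg.Agent.Lib.Helper97_SpTensBasic
  Cfsg.Agent.Lib.Helper70_Tens_TP10b Cfsg.Agent.Lib.Helper98_SP3_BRDefs

/-- **SFORM** (M). -/
theorem sform {F : Type*} [Field F] [Fintype F] (h2 : (2 : F) ≠ 0)
    (f₂ : (Fin 3 → F) → (Fin 3 → F) → F) (hf₂ : Cfsg.Geo.IsSymmetricForm f₂) :
    ∃ (d : F) (B B' : Matrix (Fin 3) (Fin 3) F), d ≠ 0 ∧ B * B' = 1 ∧ B' * B = 1 ∧
      ∀ y y' : Fin 3 → F, be (B *ᵥ y) (B *ᵥ y') = d * f₂ y y' := by
  classical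
  obtain ⟨hbil, hsymm, hnd⟩ := hf₂
  -- the bundled bilinear form
  let Bf : LinearMap.BilinForm F (Fin 3 → F) :=
    LinearMap.mk₂ F f₂ hbil.add_left (fun c x v => by rw [hbil.smul_left, smul_eq_mul])
      hbil.add_right (fun c v x => by rw [hbil.smul_right, smul_eq_mul])
  have hBf : ∀ u v, f₂ u v = Bf u v := fun u v => rfl
  -- an isotropic vector
  obtain ⟨u₀, hu₀, hq₀⟩ := Cfsg.Agent.Lib.Helper44_QuadClass.exists_singular Bf.toQuadraticMap
    (by rw [Module.finrank_fin_fun])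
  have h00 : Bf u₀ u₀ = 0 := by
    rw [← LinearMap.BilinMap.toQuadraticMap_apply]; exact hq₀
  -- a hyperbolic partner
  obtain ⟨w, hw⟩ := (hnd u₀ hu₀).2
  rw [hBf] at hw
  obtain ⟨w', h0w⟩ : ∃ w' : Fin 3 → F, Bf u₀ w' = 1 :=
    ⟨(Bf u₀ w)⁻¹ • w, by rw [map_smul, smul_eq_mul, inv_mul_cancel₀ hw]⟩
  have hw0 : Bf w' u₀ = 1 := by
    rw [← hBf, hsymm, hBf]; exact h0w
  obtain ⟨u₂, h02, h22⟩ : ∃ u₂ : Fin 3 → F, Bf u₀ u₂ = 1 ∧ Bf u₂ u₂ = 0 := by
    refine ⟨w' - (Bf w' w' / 2) • u₀, ?_, ?_⟩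
    · rw [map_sub, map_smul, h0w, h00, smul_zero, sub_zero]
    · simp only [map_sub, map_smul, LinearMap.sub_apply, LinearMap.smul_apply, smul_eq_mul,
        h0w, hw0, h00]
      field_simp
      ring
  have h20 : Bf u₂ u₀ = 1 := by
    rw [← hBf, hsymm, hBf]; exact h02
  -- a third vector orthogonal to both
  obtain ⟨u₁, hu₁k, hu₁⟩ : ∃ u₁ ∈ LinearMap.ker ((Bf u₀).prod (Bf u₂)), u₁ ≠ 0 := by
    have hne : LinearMap.ker ((Bf u₀).prod (Bf u₂)) ≠ ⊥ := by
      apply LinearMap.ker_ne_bot_of_finrank_lt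
      rw [Module.finrank_fin_fun, Module.finrank_prod, Module.finrank_self]
      norm_num
    exact (Submodule.ne_bot_iff _).mp hne
  rw [LinearMap.mem_ker] at hu₁k
  have h01 : Bf u₀ u₁ = 0 := congrArg Prod.fst hu₁k
  have h21 : Bf u₂ u₁ = 0 := congrArg Prod.snd hu₁k
  have h10 : Bf u₁ u₀ = 0 := by
    rw [← hBf, hsymm, hBf]; exact h01
  have h12 : Bf u₁ u₂ = 0 := by
    rw [← hBf, hsymm, hBf]; exact h21
  obtain ⟨t, ht⟩ : ∃ t : F, t = Bf u₁ u₁ := ⟨_, rfl⟩
  -- the coordinate change with columns `s u₀, u₁, u₂`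
  have key : ∀ s : F, s ≠ 0 → ∃ e : (Fin 3 → F) ≃ₗ[F] (Fin 3 → F),
      (∀ y y', f₂ (e y) (e y') = s * (y 0 * y' 2) + t * (y 1 * y' 1) + s * (y 2 * y' 0)) ∧
      e (Pi.single 1 1) = u₁ := by
    intro s hs
    let T : (Fin 3 → F) →ₗ[F] (Fin 3 → F) :=
      (LinearMap.proj 0 : (Fin 3 → F) →ₗ[F] F).smulRight (s • u₀)
        + (LinearMap.proj 1 : (Fin 3 → F) →ₗ[F] F).smulRight u₁
        + (LinearMap.proj 2 : (Fin 3 → F) →ₗ[F] F).smulRight u₂
    have hT : ∀ y, T y = y 0 • (s • u₀) + y 1 • u₁ + y 2 • u₂ := fun y => rfl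
    have hgram : ∀ y y', f₂ (T y) (T y')
        = s * (y 0 * y' 2) + t * (y 1 * y' 1) + s * (y 2 * y' 0) := by
      intro y y'
      rw [hBf, hT, hT]
      simp only [map_add, map_smul, LinearMap.add_apply, LinearMap.smul_apply, smul_eq_mul,
        h00, h01, h02, h10, h12, h20, h21, h22, ← ht]
      ring
    have hinj : Function.Injective T := by
      rw [← LinearMap.ker_eq_bot, LinearMap.ker_eq_bot']
      intro y hy
      have hz : ∀ y' : Fin 3 → F, s * (y 0 * y' 2) + t * (y 1 * y' 1) + s * (y 2 * y' 0) = 0 := by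
        intro y'
        rw [← hgram, hy, hBf, map_zero, LinearMap.zero_apply]
      have hy0 : y 0 = 0 := by
        have := hz (Pi.single 2 1)
        simpa [hs] using this
      have hy2 : y 2 = 0 := by
        have := hz (Pi.single 0 1)
        simpa [hs] using this
      have hy1 : y 1 = 0 := by
        have h := hT y
        rw [hy, hy0, hy2, zero_smul, zero_smul, zero_add, add_zero] at h
        rcases smul_eq_zero.mp h.symm with h' | h'
        · exact h'
        · exact absurd h' hu₁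
      funext k
      fin_cases k
      · exact hy0
      · exact hy1
      · exact hy2
    refine ⟨LinearEquiv.ofInjectiveEndo T hinj, fun y y' => ?_, ?_⟩
    · rw [LinearEquiv.coe_ofInjectiveEndo]
      exact hgram y y'
    · rw [LinearEquiv.coe_ofInjectiveEndo, hT]
      simp
  -- `t ≠ 0`
  have ht0 : t ≠ 0 := by
    intro h0
    obtain ⟨e, he, he1⟩ := key 1 one_ne_zero
    obtain ⟨x, hx⟩ := (hnd u₁ hu₁).2
    apply hx
    have := he (Pi.single 1 1) (e.symm x)
    rw [he1, e.apply_symm_apply, h0] at this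
    rw [this]
    simp
  obtain ⟨e, he, -⟩ := key t ht0
  refine ⟨t⁻¹, LinearMap.toMatrix' e.symm.toLinearMap, LinearMap.toMatrix' e.toLinearMap,
    inv_ne_zero ht0, ?_, ?_, ?_⟩
  · rw [← LinearMap.toMatrix'_comp, ← LinearMap.toMatrix'_id]
    congr 1
    apply LinearMap.ext
    intro y
    simp
  · rw [← LinearMap.toMatrix'_comp, ← LinearMap.toMatrix'_id]
    congr 1
    apply LinearMap.ext
    intro y
    simp
  · intro y y'
    rw [LinearMap.toMatrix'_mulVec, LinearMap.toMatrix'_mulVec]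
    have := he (e.symm y) (e.symm y')
    rw [e.apply_symm_apply, e.apply_symm_apply] at this
    rw [this]
    simp only [LinearEquiv.coe_coe, be]
    field_simp

end Cfsg.Agent.Lib.Helper41_SP3BR_SFORM
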