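import Mathlib
import Cfsg.Agent.Lib.Helper97_SpTensBasic

set_option autoImplicit false
set_option linter.unusedSectionVars false
set_option linter.unusedVariables false

/-!
# SP3-CW: existence of a pair of distinct members of the orbit that meet (Chevalley–Warning)
-/

namespace Cfsg.Agent.Lib.Helper41_SP3_CW

open Matrix Module
open Cfsg.Agent.Lib.Helper98_ExtDefs Cfsg.Agent.Lib.Helper97_TensDefs
  Cfsg.Agent.Lib.Helper97_SpTensDefs Cfsg.Agent.Lib.Helper97_SpTensBasic

variable {F : Type*} [Field F] [Fintype F] {m : ℕ}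

local notation "V" => Matrix (Fin m ⊕ Fin m) (Fin 3) F

/-- Chevalley–Warning: a `3 × 3` matrix of linear forms in at least four variables over a finite
field is singular at some non-zero point. -/
theorem exists_ne_zero_det_eq_zero {σ : Type*} [Fintype σ] [DecidableEq σ]
    (hσ : 3 < Fintype.card σ) (c : Fin 3 → Fin 3 → σ → F) :
    ∃ x : σ → F, x ≠ 0 ∧ (Matrix.of fun j k => ∑ i, c j k i * x i).det = 0 := by
  classical
  let PA : Matrix (Fin 3) (Fin 3) (MvPolynomial σ F) :=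
    Matrix.of fun j k => ∑ i, MvPolynomial.C (c j k i) * MvPolynomial.X i
  have hev : ∀ x : σ → F,
      MvPolynomial.eval x PA.det = (Matrix.of fun j k => ∑ i, c j k i * x i).det := by
    intro x
    rw [RingHom.map_det]
    congr 1
    ext j k
    simp [PA, map_sum]
  have hentry : ∀ j k, (PA j k).totalDegree ≤ 1 := by
    intro j k
    refine (MvPolynomial.totalDegree_finsetSum _ _).trans ?_
    apply Finset.sup_le
    intro i _
    refine (MvPolynomial.totalDegree_mul _ _).trans ?_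
    rw [MvPolynomial.totalDegree_C, MvPolynomial.totalDegree_X]
  have hdeg : PA.det.totalDegree ≤ 3 := by
    rw [Matrix.det_apply]
    refine (MvPolynomial.totalDegree_finsetSum _ _).trans ?_
    apply Finset.sup_le
    intro τ _
    refine (MvPolynomial.totalDegree_smul_le _ _).trans ?_
    refine (MvPolynomial.totalDegree_finsetProd _ _).trans ?_
    calc ∑ i : Fin 3, (PA (τ i) i).totalDegree ≤ ∑ i : Fin 3, 1 :=
          Finset.sum_le_sum fun i _ => hentry _ _
      _ = 3 := by simp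
  have hp := char_dvd_card_solutions (ringChar F) (f := PA.det) (lt_of_le_of_lt hdeg hσ)
  have hprime : (ringChar F).Prime := CharP.char_is_prime F (ringChar F)
  have h0 : MvPolynomial.eval (0 : σ → F) PA.det = 0 := by
    rw [hev]
    have : (Matrix.of fun j k => ∑ i, c j k i * (0 : σ → F) i)
        = (0 : Matrix (Fin 3) (Fin 3) F) := by
      ext j k; simp
    rw [this]
    simp
  by_contra hcon
  push Not at hcon
  have hcard : Fintype.card { x : σ → F // MvPolynomial.eval x PA.det = 0 } = 1 := by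
    rw [Fintype.card_eq_one_iff]
    refine ⟨⟨0, h0⟩, fun ⟨x, hx⟩ => ?_⟩
    by_contra hne
    exact hcon x (fun h => hne (Subtype.ext h)) (by rw [← hev]; exact hx)
  rw [hcard] at hp
  exact hprime.one_lt.ne' (Nat.dvd_one.mp hp)

theorem exists_meet (h2 : (2 : F) ≠ 0) (hm : 2 ≤ m) (M : Subgroup (V ≃ₗ[F] V)) (hSp : MSp m M)
    (hK : KronSp m M) (hfpf : FPF m M) (g₀ : V ≃ₗ[F] V) (hg₀ : g₀ ∈ M)
    (x₀ : Fin m ⊕ Fin m → F) (hx₀ : x₀ ≠ 0) (hnf : ¬ IsBFib ((bfib x₀).map g₀.toLinearMap)) :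
    ∃ t ∈ BOrb M, ∃ t' ∈ BOrb M, t ≠ t' ∧ t ⊓ t' ≠ ⊥ := by
  classical
  -- the linear map `y ↦ x₀ ⊗ y`
  let ι₀ : (Fin 3 → F) →ₗ[F] V :=
    { toFun := fun y => vecMulVec x₀ y
      map_add' := fun y y' => vecMulVec_add x₀ y y'
      map_smul' := fun c y => by rw [vecMulVec_smul, RingHom.id_apply] }
  -- the contraction as a linear map
  let ctrL : (Fin m ⊕ Fin m → F) → V →ₗ[F] (Fin 3 → F) := fun x =>
    { toFun := fun X => ctr m x X
      map_add' := fun X Y => ctr_add m x X Y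
      map_smul' := fun c X => by rw [ctr_smul, RingHom.id_apply] }
  let Φ : (Fin m ⊕ Fin m → F) → (Fin 3 → F) →ₗ[F] (Fin 3 → F) := fun x =>
    (ctrL x) ∘ₗ g₀.toLinearMap ∘ₗ ι₀
  have hΦ : ∀ x y, Φ x y = ctr m x (g₀ (vecMulVec x₀ y)) := fun x y => rfl
  let c : Fin 3 → Fin 3 → (Fin m ⊕ Fin m) → F := fun j k i =>
    (colv (g₀ (vecMulVec x₀ (Pi.single k 1))) j ᵥ* Matrix.J (Fin m) F) i
  have hcard : 3 < Fintype.card (Fin m ⊕ Fin m) := by
    simp only [Fintype.card_sum, Fintype.card_fin]; omega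
  obtain ⟨x, hx, hdet⟩ := exists_ne_zero_det_eq_zero hcard c
  have hA : (Matrix.of fun j k => ∑ i, c j k i * x i) = LinearMap.toMatrix' (Φ x) := by
    ext j k
    rw [LinearMap.toMatrix'_apply, hΦ, ctr_apply]
    simp only [Matrix.of_apply, c]
    rw [Cfsg.sympForm, Matrix.dotProduct_mulVec]
    rfl
  rw [hA] at hdet
  obtain ⟨y, hy, hy0⟩ := Matrix.exists_mulVec_eq_zero_iff.mpr hdet
  have hctr : ctr m x (g₀ (vecMulVec x₀ y)) = 0 := by
    rw [← hΦ, ← hy0, ← Matrix.toLin'_apply, Matrix.toLin'_toMatrix']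
  -- the common vector
  set X : V := g₀ (vecMulVec x₀ y) with hXdef
  have hXne : X ≠ 0 := by
    intro h
    have h' : vecMulVec x₀ y = 0 := by
      apply g₀.injective
      rw [map_zero]
      exact h
    exact hy (vecMulVec_eq_zero_left hx₀ h')
  -- the root element `r = 1 + N_x`
  obtain ⟨r, hrM, hr0⟩ := hasMap_root (M := M) hK x 1
  have hr : ∀ Z, r Z = Z + (1 : F) • nA m x Z := hr0
  have hrX : r X = X := by
    rw [hr, nA_eq_zero_of_ctr hctr, smul_zero, add_zero]
  have hXt : X ∈ (bfib x₀).map g₀.toLinearMap :=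
    ⟨vecMulVec x₀ y, vecMulVec_mem_bfib x₀ y, rfl⟩
  have hXt' : X ∈ (bfib x₀).map (r * g₀).toLinearMap := by
    refine ⟨vecMulVec x₀ y, vecMulVec_mem_bfib x₀ y, ?_⟩
    change (r * g₀) (vecMulVec x₀ y) = X
    rw [LinearEquiv.mul_apply]
    exact hrX
  refine ⟨(bfib x₀).map g₀.toLinearMap, map_mem_BOrb hg₀ hx₀,
    (bfib x₀).map (r * g₀).toLinearMap, map_mem_BOrb (M.mul_mem hrM hg₀) hx₀, ?_, ?_⟩
  · intro heq
    apply hnf
    have hstab : ∀ Z ∈ (bfib x₀).map g₀.toLinearMap,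
        Z + (1 : F) • cN m (1 : V ≃ₗ[F] V) x Z ∈ (bfib x₀).map g₀.toLinearMap := by
      intro Z hZ
      rw [cN_one, ← hr Z]
      have : r Z ∈ (bfib x₀).map (r * g₀).toLinearMap := by
        rw [map_mul_bfib]
        exact ⟨Z, hZ, rfl⟩
      rw [← heq] at this
      exact this
    obtain ⟨x', hx', hEq⟩ := hfpf 1 M.one_mem g₀ hg₀ x x₀ hx hx₀ 1 one_ne_zero hstab
    rw [map_one_eq] at hEq
    exact ⟨x', hx', hEq⟩
  · intro hbot
    have : X ∈ ((bfib x₀).map g₀.toLinearMap ⊓ (bfib x₀).map (r * g₀).toLinearMap) :=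
      ⟨hXt, hXt'⟩
    rw [hbot] at this
    exact hXne ((Submodule.mem_bot F).mp this)

end Cfsg.Agent.Lib.Helper41_SP3_CW
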