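import Mathlib
import Cfsg.Agent.Lib.Helper97_SpTensBasic
import Cfsg.Agent.Lib.Helper73_Tens_TP1

set_option autoImplicit false
set_option linter.unusedSectionVars false
set_option linter.unusedVariables false

/-!
# SP3 package TP1B (helper41, for helper97's market)

An automorphism of `A ⊗ B` mapping every fibre `x ⊗ B` onto a fibre is Kronecker: transpose of
`Helper73_Tens_TP1.isKron_of_fibers`.
-/

namespace Cfsg.Agent.Lib.Helper41_SP3_TP1B

open Matrix Module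
open Cfsg.Agent.Lib.Helper98_ExtDefs Cfsg.Agent.Lib.Helper97_TensDefs
  Cfsg.Agent.Lib.Helper97_SpTensDefs Cfsg.Agent.Lib.Helper97_SpTensBasic

variable {F : Type*} [Field F] [Fintype F] {m : ℕ}

local notation "V" => Matrix (Fin m ⊕ Fin m) (Fin 3) F

theorem isKron_of_bfibs (g : V ≃ₗ[F] V)
    (h : ∀ x : Fin m ⊕ Fin m → F, x ≠ 0 → IsBFib ((bfib x).map g.toLinearMap)) : IsKron g := by
  let T : V ≃ₗ[F] Matrix (Fin 3) (Fin m ⊕ Fin m) F :=
    Matrix.transposeLinearEquiv (Fin m ⊕ Fin m) (Fin 3) F F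
  have hT : ∀ X : V, T X = Xᵀ := fun X => rfl
  have hTs : ∀ Y : Matrix (Fin 3) (Fin m ⊕ Fin m) F, T.symm Y = Yᵀ := fun Y => rfl
  let g' : Matrix (Fin 3) (Fin m ⊕ Fin m) F ≃ₗ[F] Matrix (Fin 3) (Fin m ⊕ Fin m) F :=
    T.symm.trans (g.trans T)
  have hg' : ∀ Y, g' Y = (g Yᵀ)ᵀ := fun Y => rfl
  have hfib : ∀ y : Fin m ⊕ Fin m → F, y ≠ 0 → IsFiber ((fiber y).map g'.toLinearMap) := by
    intro y hy
    obtain ⟨x', hx', hmap⟩ := h y hy
    refine ⟨x', hx', ?_⟩
    ext Y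
    constructor
    · rintro ⟨Z, ⟨x, rfl⟩, rfl⟩
      have hmem : g (vecMulVec y x) ∈ (bfib y).map g.toLinearMap :=
        Submodule.mem_map_of_mem ⟨x, rfl⟩
      rw [hmap] at hmem
      obtain ⟨z, hz⟩ := hmem
      refine ⟨z, ?_⟩
      show g' (vecMulVec x y) = vecMulVec z x'
      rw [hg', transpose_vecMulVec, hz, transpose_vecMulVec]
    · rintro ⟨z, rfl⟩
      have hmem : vecMulVec x' z ∈ (bfib y).map g.toLinearMap := by
        rw [hmap]
        exact ⟨z, rfl⟩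
      obtain ⟨W, ⟨x, rfl⟩, hW⟩ := hmem
      refine ⟨vecMulVec x y, ⟨x, rfl⟩, ?_⟩
      show g' (vecMulVec x y) = vecMulVec z x'
      have hW' : g (vecMulVec y x) = vecMulVec x' z := hW
      rw [hg', transpose_vecMulVec, hW', transpose_vecMulVec]
  obtain ⟨P, Q, hPQ⟩ := Cfsg.Agent.Lib.Helper73_Tens_TP1.isKron_of_fibers g' hfib
  refine ⟨Q, P, fun X => ?_⟩
  have h1 := hPQ Xᵀ
  rw [hg', transpose_transpose] at h1
  have h2 := congrArg Matrix.transpose h1
  rw [transpose_transpose] at h2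
  rw [h2, transpose_mul, transpose_mul, transpose_transpose, transpose_transpose, Matrix.mul_assoc]
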