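import Mathlib

/-!
# A simplicity certificate for a group of order 604800 acting primitively on 100 points (helper41)

* `isPreprimitive_of_two_suborbits`: a transitive action in which a point stabiliser has (at most)
  two further orbits `Δ`, `Γ` with `|Δ| + 1`, `|Γ| + 1` not dividing the degree is primitive.
* `isSimpleGroup_of_cert`: a group of order `604800 = 2^7·3^3·5^2·7` acting faithfully and
  primitively on 100 points, with an element `x`, `x^7 = 1`, having between 1 and 4 fixed points and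
  whose normal closure is the whole group, is simple.
-/

set_option autoImplicit false

namespace Cfsg.Agent.Lib.Helper41_SimpleCert

open MulAction
open scoped Pointwise

theorem isPreprimitive_of_two_suborbits {G Ω : Type*} [Group G] [MulAction G Ω] [Finite Ω]
    [IsPretransitive G Ω] (a : Ω) (Δ Γ : Set Ω)
    (hcover : ∀ p, p = a ∨ p ∈ Δ ∨ p ∈ Γ) (haΔ : a ∉ Δ) (haΓ : a ∉ Γ)
    (hΔ : ∀ p ∈ Δ, ∀ q ∈ Δ, ∃ g : G, g • a = a ∧ g • p = q)
    (hΓ : ∀ p ∈ Γ, ∀ q ∈ Γ, ∃ g : G, g • a = a ∧ g • p = q)
    (hΔc : ¬ (Δ.ncard + 1 ∣ Nat.card Ω)) (hΓc : ¬ (Γ.ncard + 1 ∣ Nat.card Ω)) :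
    IsPreprimitive G Ω := by
  apply IsPreprimitive.of_isTrivialBlock_base a
  intro B haB hB
  have hst : ∀ g : G, g • a = a → g • B = B := fun g hg => hB.stabilizer_le haB hg
  have hΔB : (∃ p ∈ Δ, p ∈ B) → Δ ⊆ B := by
    rintro ⟨p, hpΔ, hpB⟩ q hq
    obtain ⟨g, hga, hgp⟩ := hΔ p hpΔ q hq
    rw [← hst g hga, ← hgp]
    exact Set.smul_mem_smul_set hpB
  have hΓB : (∃ p ∈ Γ, p ∈ B) → Γ ⊆ B := by
    rintro ⟨p, hpΓ, hpB⟩ q hq
    obtain ⟨g, hga, hgp⟩ := hΓ p hpΓ q hq
    rw [← hst g hga, ← hgp]
    exact Set.smul_mem_smul_set hpB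
  have hdvd := hB.ncard_dvd_card ⟨a, haB⟩
  by_cases h1 : ∃ p ∈ Δ, p ∈ B
  · by_cases h2 : ∃ p ∈ Γ, p ∈ B
    · right
      ext p
      simp only [Set.mem_univ, iff_true]
      rcases hcover p with rfl | hp | hp
      · exact haB
      · exact hΔB h1 hp
      · exact hΓB h2 hp
    · exfalso
      have hBeq : B = insert a Δ := by
        ext p
        constructor
        · intro hp
          rcases hcover p with rfl | hp' | hp'
          · exact Set.mem_insert _ _
          · exact Set.mem_insert_of_mem _ hp'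
          · exact absurd ⟨p, hp', hp⟩ h2
        · rintro (rfl | hp)
          · exact haB
          · exact hΔB h1 hp
      rw [hBeq, Set.ncard_insert_of_notMem haΔ (Set.toFinite Δ)] at hdvd
      exact hΔc hdvd
  · by_cases h2 : ∃ p ∈ Γ, p ∈ B
    · exfalso
      have hBeq : B = insert a Γ := by
        ext p
        constructor
        · intro hp
          rcases hcover p with rfl | hp' | hp'
          · exact Set.mem_insert _ _
          · exact absurd ⟨p, hp', hp⟩ h1
          · exact Set.mem_insert_of_mem _ hp'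
        · rintro (rfl | hp)
          · exact haB
          · exact hΓB h2 hp
      rw [hBeq, Set.ncard_insert_of_notMem haΓ (Set.toFinite Γ)] at hdvd
      exact hΓc hdvd
    · left
      intro p hp q hq
      have hpa : p = a := by
        rcases hcover p with h | h | h
        · exact h
        · exact absurd ⟨p, h, hp⟩ h1
        · exact absurd ⟨p, h, hp⟩ h2
      have hqa : q = a := by
        rcases hcover q with h | h | h
        · exact h
        · exact absurd ⟨q, h, hq⟩ h1
        · exact absurd ⟨q, h, hq⟩ h2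
      rw [hpa, hqa]

/-- the endomorphism of an invariant subset given by a monoid element -/
def subEnd {M α : Type*} [Monoid M] [MulAction M α] (m : M) (S : Set α)
    (hS : ∀ ω ∈ S, m • ω ∈ S) : Function.End S := fun ω => ⟨m • ω.1, hS ω.1 ω.2⟩

theorem subEnd_pow_val {M α : Type*} [Monoid M] [MulAction M α] (m : M) (S : Set α)
    (hS : ∀ ω ∈ S, m • ω ∈ S) (n : ℕ) (ω : S) :
    (((subEnd m S hS) ^ n) ω : α) = m ^ n • ω.1 := by
  induction n generalizing ω with
  | zero => rw [pow_zero, pow_zero, one_smul]; rfl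
  | succ n ih =>
    rw [pow_succ]
    show (((subEnd m S hS) ^ n) (subEnd m S hS ω) : α) = _
    rw [ih, pow_succ, mul_smul]
    rfl

theorem isSimpleGroup_of_cert {G Ω : Type*} [Group G] [Finite G] [MulAction G Ω]
    [FaithfulSMul G Ω] [Finite Ω] [IsPreprimitive G Ω]
    (hG : Nat.card G = 604800) (hΩ : Nat.card Ω = 100)
    (x : G) (hx7 : x ^ 7 = 1)
    (hfix1 : (fixedBy Ω x).Nonempty) (hfix4 : (fixedBy Ω x).ncard ≤ 4)
    (hkey : ∀ N : Subgroup G, N.Normal → x ∈ N → N = ⊤) : IsSimpleGroup G := by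
  classical
  have hnt : Nontrivial G := by
    rw [← Finite.one_lt_card_iff_nontrivial]; omega
  refine ⟨fun N hN => ?_⟩
  by_contra hcon
  push Not at hcon
  obtain ⟨hbot, htop⟩ := hcon
  -- Step 1: `N` is transitive
  have hNX : fixedPoints N Ω ≠ Set.univ := by
    intro h
    apply hbot
    rw [Subgroup.eq_bot_iff_forall]
    intro n hn
    apply FaithfulSMul.eq_of_smul_eq_smul (α := Ω)
    intro ω
    have h1 : ω ∈ fixedPoints N Ω := h ▸ Set.mem_univ ω
    have h2 := h1 ⟨n, hn⟩
    rw [one_smul]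
    exact h2
  have hNt : IsPretransitive N Ω := IsQuasiPreprimitive.isPretransitive_of_normal hNX
  obtain ⟨ω0, hω0⟩ := hfix1
  have h100 : 100 ∣ Nat.card N := by
    have h1 := index_stabilizer_of_transitive (G := N) (x := ω0)
    rw [hΩ] at h1
    rw [← h1]
    exact Subgroup.index_dvd_card _
  have hNG : Nat.card N ∣ 604800 := hG ▸ Subgroup.card_subgroup_dvd_card N
  by_cases h7 : 7 ∣ Nat.card N
  · -- then `x ∈ N`
    apply htop
    apply hkey N hN
    have hq : Nat.card (G ⧸ N) * Nat.card N = 604800 := by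
      rw [← hG, ← Subgroup.index_eq_card, Subgroup.index_mul_card]
    have h7q : ¬ 7 ∣ Nat.card (G ⧸ N) := by
      intro h
      obtain ⟨a, ha⟩ := h
      obtain ⟨b, hb⟩ := h7
      rw [ha, hb] at hq
      have : 49 * (a * b) = 604800 := by rw [← hq]; ring
      omega
    have hord : orderOf (x : G ⧸ N) ∣ 7 :=
      orderOf_dvd_of_pow_eq_one (by rw [← QuotientGroup.mk_pow, hx7]; rfl)
    have hord2 : orderOf (x : G ⧸ N) ∣ Nat.card (G ⧸ N) := orderOf_dvd_natCard _
    have h1 : orderOf (x : G ⧸ N) = 1 := by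
      rcases (Nat.dvd_prime (by norm_num)).mp hord with h | h
      · exact h
      · rw [h] at hord2; exact absurd hord2 h7q
    rw [orderOf_eq_one_iff] at h1
    exact (QuotientGroup.eq_one_iff x).mp h1
  · exfalso
    have : Fact (Nat.Prime 5) := ⟨by norm_num⟩
    have : Fact (Nat.Prime 7) := ⟨by norm_num⟩
    let φ : MulAut N := MulAut.conjNormal x
    have hφ7 : φ ^ 7 = 1 := by
      show (MulAut.conjNormal x : MulAut N) ^ 7 = 1
      rw [← map_pow, hx7, map_one]
    have hZ : IsPGroup 7 (Subgroup.zpowers φ) := by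
      rintro ⟨g, hg⟩
      obtain ⟨m, rfl⟩ := Subgroup.mem_zpowers_iff.mp hg
      refine ⟨1, Subtype.ext ?_⟩
      show (φ ^ m) ^ 7 ^ 1 = 1
      rw [pow_one, ← zpow_natCast, ← zpow_mul, mul_comm, zpow_mul, zpow_natCast, hφ7, one_zpow]
    have hcardS : ¬ 7 ∣ Nat.card (Sylow 5 N) := by
      intro h
      have P0 : Sylow 5 N := default
      exact h7 ((h.trans P0.card_dvd_index).trans (Subgroup.index_dvd_card _))
    obtain ⟨P, hP⟩ := hZ.nonempty_fixed_point_of_prime_not_dvd_card (Sylow 5 N) hcardS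
    have hφP : φ • P = P := hP ⟨φ, Subgroup.mem_zpowers φ⟩
    have hmem : ∀ s : N, s ∈ P → φ s ∈ P := by
      intro s hs
      have h1 : φ • s ∈ φ • (P : Subgroup N) := Subgroup.smul_mem_pointwise_smul _ _ _ hs
      rw [← Sylow.pointwise_smul_def, hφP] at h1
      exact h1
    have hmem' : ∀ s ∈ ((P : Subgroup N) : Set N), φ • s ∈ ((P : Subgroup N) : Set N) := hmem
    let f : Function.End ((P : Subgroup N) : Set N) := subEnd φ _ hmem'
    have hf : f ^ 7 ^ 1 = 1 := by
      funext s
      apply Subtype.ext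
      rw [pow_one, subEnd_pow_val, hφ7, one_smul]
      rfl
    have : Fintype ((P : Subgroup N) : Set N) := Fintype.ofFinite _
    have hmod := Equiv.Perm.card_fixedPoints_modEq (p := 7) (n := 1) hf
    rw [Fintype.card_eq_nat_card, Fintype.card_eq_nat_card] at hmod
    -- the order of `P`
    obtain ⟨k, hk⟩ := IsPGroup.iff_card.mp P.isPGroup'
    have hPne : (P : Subgroup N) ≠ ⊥ := P.ne_bot_of_dvd_card (dvd_trans (by norm_num) h100)
    have hk1 : k ≠ 0 := by
      rintro rfl
      rw [pow_zero] at hk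
      exact hPne (Subgroup.card_eq_one.mp hk)
    have hk2 : k < 3 := by
      by_contra hk3
      push Not at hk3
      have h1 : 5 ^ 3 ∣ 5 ^ k := pow_dvd_pow 5 hk3
      have h2 : 5 ^ k ∣ 604800 := by
        rw [← hk]
        exact (Subgroup.card_subgroup_dvd_card (P : Subgroup N)).trans hNG
      have h3 := h1.trans h2
      norm_num at h3
    have hcardP : Nat.card ((P : Subgroup N) : Set N) = 5 ^ k := hk
    have hex : ∃ s : ((P : Subgroup N) : Set N), f s = s ∧ s.1 ≠ 1 := by
      by_contra hno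
      push Not at hno
      have hone : Nat.card (Function.fixedPoints f) = 1 := by
        rw [Nat.card_eq_one_iff_exists]
        refine ⟨⟨⟨1, (P : Subgroup N).one_mem⟩, ?_⟩, ?_⟩
        · apply Subtype.ext
          show φ • (1 : N) = 1
          exact smul_one φ
        · rintro ⟨s, hs⟩
          apply Subtype.ext
          apply Subtype.ext
          exact hno s hs
      rw [hone, hcardP] at hmod
      interval_cases k
      · exact hk1 rfl
      · simp [Nat.ModEq] at hmod
      · simp [Nat.ModEq] at hmod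
    obtain ⟨⟨s, hsP⟩, hfs, hs1⟩ := hex
    have hφs : φ s = s := congrArg Subtype.val hfs
    have hcomm : x * (s : G) = (s : G) * x := by
      have h1 : ((φ s : N) : G) = x * s * x⁻¹ := MulAut.conjNormal_apply x s
      rw [hφs] at h1
      calc x * (s : G) = (x * s * x⁻¹) * x := by group
        _ = (s : G) * x := by rw [← h1]
    have hs'1 : (s : G) ≠ 1 := fun h => hs1 (Subtype.ext h)
    obtain ⟨j, hj⟩ := P.isPGroup' ⟨s, hsP⟩
    have hs'j : (s : G) ^ 5 ^ j = 1 := by
      have := congrArg (fun t : (P : Subgroup N) => ((t : N) : G)) hj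
      simpa using this
    have hFx : ∀ ω ∈ fixedBy Ω x, (s : G) • ω ∈ fixedBy Ω x := by
      intro ω hω
      rw [mem_fixedBy] at hω ⊢
      rw [← mul_smul, hcomm, mul_smul, hω]
    let f2 : Function.End (fixedBy Ω x) := subEnd (s : G) _ hFx
    have hf2 : f2 ^ 5 ^ j = 1 := by
      funext ω
      apply Subtype.ext
      rw [subEnd_pow_val, hs'j, one_smul]
      rfl
    have : Fintype (fixedBy Ω x) := Fintype.ofFinite _
    have hmod2 := Equiv.Perm.card_fixedPoints_modEq (p := 5) (n := j) hf2
    rw [Fintype.card_eq_nat_card, Fintype.card_eq_nat_card] at hmod2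
    have hcardF : Nat.card (fixedBy Ω x) = (fixedBy Ω x).ncard := Nat.card_coe_set_eq _
    have hpos : 0 < (fixedBy Ω x).ncard := (Set.ncard_pos).mpr ⟨ω0, hω0⟩
    have hne : Nat.card (Function.fixedPoints f2) ≠ 0 := by
      intro h0
      rw [h0, hcardF] at hmod2
      unfold Nat.ModEq at hmod2
      omega
    obtain ⟨⟨⟨ω, hωF⟩, hω⟩⟩ : Nonempty (Function.fixedPoints f2) :=
      (Nat.card_ne_zero.mp hne).1
    have hsω : (s : G) • ω = ω := congrArg Subtype.val hω
    have hstab : Nat.card (stabilizer G ω) = 6048 := by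
      have h1 := index_stabilizer_of_transitive (G := G) (x := ω)
      have h2 := Subgroup.index_mul_card (stabilizer G ω)
      rw [h1, hΩ, hG] at h2
      omega
    have hd1 : orderOf (s : G) ∣ 5 ^ j := orderOf_dvd_of_pow_eq_one hs'j
    have hd2 : orderOf (s : G) ∣ 6048 :=
      hstab ▸ Subgroup.orderOf_dvd_natCard _ (mem_stabilizer_iff.mpr hsω)
    have hcop : Nat.Coprime (5 ^ j) 6048 := Nat.Coprime.pow_left j (by norm_num)
    have h1 : orderOf (s : G) = 1 := Nat.eq_one_of_dvd_coprimes hcop hd1 hd2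
    exact hs'1 (orderOf_eq_one_iff.mp h1)

end Cfsg.Agent.Lib.Helper41_SimpleCert
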