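import Mathlib

/-!
# Primitivity from suborbit sizes, and a simplicity certificate (helper41)

* `isPreprimitive_of_suborbits`: a transitive action on a finite set, a point `a`, a colouring
  `c : Ω → Fin k` whose classes are orbits of the stabiliser of `a` (only transitivity on each class
  is needed), such that no union of classes containing `a` other than `{a}` and everything has
  size dividing `|Ω|`, is primitive.
* `isSimpleGroup_of_prime_cert`: a finite group acting faithfully and primitively on a set whose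
  size is divisible by a prime `p` with `p² ∤ |G|`, with an element `x`, `x ^ p = 1`, whose normal
  closure is the whole group, is simple.
-/

set_option autoImplicit false

namespace Cfsg.Agent.Lib.Helper41_SimpleCert2

open MulAction
open scoped Pointwise

theorem isPreprimitive_of_suborbits {G Ω : Type*} [Group G] [MulAction G Ω] [Fintype Ω]
    [DecidableEq Ω] [IsPretransitive G Ω] (a : Ω) {k : ℕ} (c : Ω → Fin k)
    (htrans : ∀ p q, c p = c q → ∃ g : G, g • a = a ∧ g • p = q)
    (ha : ∀ p, c p = c a → p = a)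
    (hsub : ∀ I : Finset (Fin k), c a ∈ I →
      (∑ i ∈ I, (Finset.univ.filter fun p => c p = i).card) ∣ Fintype.card Ω →
      I = {c a} ∨ I = Finset.univ) :
    IsPreprimitive G Ω := by
  classical
  apply IsPreprimitive.of_isTrivialBlock_base a
  intro B haB hB
  have hst : ∀ g : G, g • a = a → g • B = B := fun g hg => hB.stabilizer_le haB hg
  have hcl : ∀ p ∈ B, ∀ q, c p = c q → q ∈ B := by
    intro p hp q hpq
    obtain ⟨g, hga, hgp⟩ := htrans p q hpq
    rw [← hst g hga, ← hgp]
    exact Set.smul_mem_smul_set hp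
  let I : Finset (Fin k) := Finset.univ.filter fun i => ∃ p ∈ B, c p = i
  have hBI : ∀ p, p ∈ B ↔ c p ∈ I := by
    intro p
    constructor
    · intro hp
      exact Finset.mem_filter.mpr ⟨Finset.mem_univ _, p, hp, rfl⟩
    · intro hp
      obtain ⟨-, q, hq, hqp⟩ := Finset.mem_filter.mp hp
      exact hcl q hq p hqp
  have hcard : B.ncard = ∑ i ∈ I, (Finset.univ.filter fun p => c p = i).card := by
    have h1 : B = ((Finset.univ.filter fun p => c p ∈ I : Finset Ω) : Set Ω) := by
      ext p
      simp [hBI]
    rw [h1, Set.ncard_coe_finset]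
    rw [Finset.card_eq_sum_card_fiberwise (f := c) (t := I)
      (s := Finset.univ.filter fun p => c p ∈ I)
      (fun p hp => (Finset.mem_filter.mp (Finset.mem_coe.mp hp)).2)]
    apply Finset.sum_congr rfl
    intro i hi
    congr 1
    ext p
    simp only [Finset.mem_filter, Finset.mem_univ, true_and]
    constructor
    · rintro ⟨-, h⟩; exact h
    · intro h; exact ⟨h ▸ hi, h⟩
  have hdvd := hB.ncard_dvd_card ⟨a, haB⟩
  rw [hcard, Nat.card_eq_fintype_card] at hdvd
  rcases hsub I ((hBI a).mp haB) hdvd with h | h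
  · left
    intro p hp q hq
    have hp' := (hBI p).mp hp
    have hq' := (hBI q).mp hq
    rw [h, Finset.mem_singleton] at hp' hq'
    rw [ha p hp', ha q hq']
  · right
    ext p
    simp only [Set.mem_univ, iff_true]
    rw [hBI, h]
    exact Finset.mem_univ _

theorem isSimpleGroup_of_prime_cert {G Ω : Type*} [Group G] [Finite G] [MulAction G Ω]
    [FaithfulSMul G Ω] [Finite Ω] [IsPreprimitive G Ω] (p : ℕ) (hp : p.Prime)
    (hpΩ : p ∣ Nat.card Ω) (hp2 : ¬ p ^ 2 ∣ Nat.card G) (hnt : Nontrivial G)
    (x : G) (hx : x ^ p = 1)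
    (hkey : ∀ N : Subgroup G, N.Normal → x ∈ N → N = ⊤) : IsSimpleGroup G := by
  refine ⟨fun N hN => ?_⟩
  by_contra hcon
  push Not at hcon
  obtain ⟨hbot, htop⟩ := hcon
  have hNX : fixedPoints N Ω ≠ Set.univ := by
    intro h
    apply hbot
    rw [Subgroup.eq_bot_iff_forall]
    intro n hn
    apply FaithfulSMul.eq_of_smul_eq_smul (α := Ω)
    intro ω
    have h1 : ω ∈ fixedPoints N Ω := h ▸ Set.mem_univ ω
    have h2 := h1 ⟨n, hn⟩
    rw [one_smul]
    exact h2
  have hNt : IsPretransitive N Ω := IsQuasiPreprimitive.isPretransitive_of_normal hNX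
  have hne : Nonempty Ω := by
    by_contra hemp
    rw [not_nonempty_iff] at hemp
    apply hNX
    ext ω
    exact hemp.elim ω
  obtain ⟨ω0⟩ := hne
  have hpN : p ∣ Nat.card N := by
    have h1 := index_stabilizer_of_transitive (G := N) (x := ω0)
    exact hpΩ.trans (h1 ▸ Subgroup.index_dvd_card _)
  apply htop
  apply hkey N hN
  have hq : Nat.card (G ⧸ N) * Nat.card N = Nat.card G := by
    rw [← Subgroup.index_eq_card, Subgroup.index_mul_card]
  have hpq : ¬ p ∣ Nat.card (G ⧸ N) := by
    intro h
    apply hp2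
    rw [← hq, pow_two]
    exact Nat.mul_dvd_mul h hpN
  have hord : orderOf (x : G ⧸ N) ∣ p :=
    orderOf_dvd_of_pow_eq_one (by rw [← QuotientGroup.mk_pow, hx]; rfl)
  have hord2 : orderOf (x : G ⧸ N) ∣ Nat.card (G ⧸ N) := orderOf_dvd_natCard _
  have h1 : orderOf (x : G ⧸ N) = 1 := by
    rcases (Nat.dvd_prime hp).mp hord with h | h
    · exact h
    · rw [h] at hord2; exact absurd hord2 hpq
  rw [orderOf_eq_one_iff] at h1
  exact (QuotientGroup.eq_one_iff x).mp h1

end Cfsg.Agent.Lib.Helper41_SimpleCert2
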