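import Mathlib
import Cfsg.Agent.Lib.Helper41_SimpleCert2

/-!
# A simplicity certificate for a permutation group acting on an invariant set (helper41)

`isSimpleGroup_of_orbit_cert`: a finite subgroup `T ≤ Sym(Fin n)`, an invariant set `O` on which
`T` acts transitively and faithfully, a colouring `c` whose classes inside `O` lie in single orbits
of the stabiliser of `a ∈ O`, such that no union of classes containing `a` other than `{a}` and `O`
has size dividing `|O|`; a prime `p ∣ |O|` with `p² ∤ |T|` and an element `x`, `x ^ p = 1`, whose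
normal closure is `T`.  Then `T` is simple.
-/

set_option autoImplicit false

namespace Cfsg.Agent.Lib.Helper41_SimpleCert3

open Equiv MulAction Cfsg.Agent.Lib.Helper41_SimpleCert2

theorem eq_top_of_gens {Q : Type*} [Group Q] (H : Subgroup Q) (S : Set Q)
    (hH : H = Subgroup.closure S) (N : Subgroup H)
    (h : ∀ s ∈ S, ∀ hs : s ∈ H, (⟨s, hs⟩ : H) ∈ N) : N = ⊤ := by
  subst hH
  rw [eq_top_iff, ← Subgroup.closure_closure_coe_preimage, Subgroup.closure_le]
  rintro ⟨g, hg⟩ hgS
  exact h g hgS hg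

theorem isSimpleGroup_of_orbit_cert {n : ℕ} (T : Subgroup (Perm (Fin n))) [Finite T]
    (O : Finset (Fin n)) (a : Fin n) (ha : a ∈ O)
    (hO : ∀ g ∈ T, ∀ q ∈ O, g q ∈ O)
    (htr : ∀ q ∈ O, ∃ g ∈ T, g a = q)
    (hfaith : ∀ g ∈ T, (∀ q ∈ O, g q = q) → g = 1)
    {k : ℕ} (c : Fin n → Fin k)
    (hsuborb : ∀ q ∈ O, ∀ r ∈ O, c q = c r → ∃ g ∈ T, g a = a ∧ g q = r)
    (hca : ∀ q ∈ O, c q = c a → q = a)
    (hsub : ∀ I : Finset (Fin k), c a ∈ I →
      (∑ i ∈ I, (O.filter fun q => c q = i).card) ∣ O.card → I = {c a} ∨ I = Finset.univ)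
    (p : ℕ) (hp : p.Prime) (hpO : p ∣ O.card) (hp2 : ¬ p ^ 2 ∣ Nat.card T)
    (hnt : Nontrivial T) (x : T) (hx : x ^ p = 1)
    (hkey : ∀ N : Subgroup T, N.Normal → x ∈ N → N = ⊤) : IsSimpleGroup T := by
  classical
  let act : MulAction T O :=
    { smul := fun g q => ⟨g.1 q.1, hO g.1 g.2 q.1 q.2⟩
      one_smul := fun q => Subtype.ext rfl
      mul_smul := fun g h q => Subtype.ext rfl }
  have smul_val : ∀ (g : T) (q : O), ((g • q : O) : Fin n) = g.1 q.1 := fun _ _ => rfl
  have hF : FaithfulSMul T O := ⟨by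
    intro g h hgh
    have h1 : (h⁻¹ * g).1 = 1 := by
      apply hfaith _ (h⁻¹ * g).2
      intro q hq
      have e : g.1 q = h.1 q := by
        have := congrArg Subtype.val (hgh ⟨q, hq⟩)
        rw [smul_val, smul_val] at this
        exact this
      show (h.1⁻¹ * g.1) q = q
      rw [Perm.mul_apply, e]
      simp
    have h2 : h⁻¹ * g = 1 := Subtype.ext h1
    exact (inv_mul_eq_one.mp h2).symm⟩
  have hT : IsPretransitive T O := ⟨by
    intro q r
    obtain ⟨gq, hgq, hgqa⟩ := htr q.1 q.2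
    obtain ⟨gr, hgr, hgra⟩ := htr r.1 r.2
    refine ⟨⟨gr * gq⁻¹, T.mul_mem hgr (T.inv_mem hgq)⟩, ?_⟩
    apply Subtype.ext
    rw [smul_val]
    show (gr * gq⁻¹) q.1 = r.1
    rw [Perm.mul_apply, ← hgqa]
    simp [hgra]⟩
  have hcard : ∀ i, (Finset.univ.filter fun q : O => c q.1 = i).card =
      (O.filter fun q => c q = i).card := by
    intro i
    rw [← Finset.card_map (Function.Embedding.subtype _)]
    congr 1
    ext q
    simp only [Finset.mem_map, Finset.mem_filter, Finset.mem_univ, true_and,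
      Function.Embedding.coe_subtype]
    constructor
    · rintro ⟨r, hr, rfl⟩
      exact ⟨r.2, hr⟩
    · rintro ⟨hq, hc⟩
      exact ⟨⟨q, hq⟩, hc, rfl⟩
  have hP : IsPreprimitive T O := by
    apply isPreprimitive_of_suborbits (G := T) (Ω := O) ⟨a, ha⟩ (fun q => c q.1)
    · intro q r hqr
      obtain ⟨g, hg, hga, hgq⟩ := hsuborb q.1 q.2 r.1 r.2 hqr
      exact ⟨⟨g, hg⟩, Subtype.ext hga, Subtype.ext hgq⟩
    · intro q hq
      exact Subtype.ext (hca q.1 q.2 hq)
    · intro I hI hdvd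
      apply hsub I hI
      rw [Fintype.card_coe] at hdvd
      rw [Finset.sum_congr rfl (fun i _ => hcard i)] at hdvd
      exact hdvd
  exact isSimpleGroup_of_prime_cert (G := T) (Ω := O) p hp
    (by rw [Nat.card_eq_fintype_card, Fintype.card_coe]; exact hpO) hp2 hnt x hx hkey

end Cfsg.Agent.Lib.Helper41_SimpleCert3
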