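import Cfsg.Agent.Lib.Helper13_SimsDefs
import Cfsg.Agent.Lib.Helper41_Sims_CBaux
import Cfsg.Agent.Lib.Helper52_Sims_CA

/-!
# SIMS C-B (helper13 market S3385/S3685): paper 4.4, the shifted critical walk

`caseB` verbatim: `caseB_aux` (Helper41_Sims_CBaux) applied to package C-A (`Helper52_Sims_CA.caseA`).
-/

set_option autoImplicit false

namespace Cfsg.Agent.Lib.Helper41_Sims_CB

open MulAction Cfsg.Agent.Lib.Helper13_SimsDefs

variable {G Ω : Type*} [Group G] [MulAction G Ω] {a b : Ω}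

/-- C-B (paper 4.4): the shifted critical walk. -/
theorem caseB (H : Hyp G a b) (F : FF G a b) {bb : ℕ} (hb : IsCrit G a b bb) (h2 : 2 ≤ bb)
    (w : ℕ → Ω) (hw : IsBad G a b w bb) :
    ∃ δ, Adj G a b δ (w 0) ∧ δ ≠ w 1 ∧
      IsBad G a b (fun i => if i = 0 then δ else w (i - 1)) bb ∧
      Tst G (w (bb - 1)) (w (bb - 2)) ≠ Tst G (w (bb - 1)) (w bb) :=
  Cfsg.Agent.Lib.Helper41_Sims_CBaux.caseB_aux H F hb h2 w hw
    (Cfsg.Agent.Lib.Helper52_Sims_CA.caseA H F hb h2 w hw)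

end Cfsg.Agent.Lib.Helper41_Sims_CB
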