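import Mathlib
import Cfsg.Agent.Lib.Helper49_SlimDefs
import Cfsg.Agent.Lib.Helper49_SlimTools

set_option autoImplicit false
set_option linter.unusedSectionVars false

/-!
helper41: S4409 package NORM2 (architect helper49): a normal self-centralizing `2`-subgroup `R`
with `[R,H] = R` of order `4`, or nonabelian of order `8`, is incompatible with a noncyclic
abelian subgroup of order `8`.
-/

namespace Cfsg.Agent.Lib.Helper41_Slim_NORM2

open Subgroup Cfsg.Agent.Lib.Helper49_SlimDefs Cfsg.Agent.Lib.Helper49_SlimTools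
open scoped commutatorElement

variable {S : Type*} [Group S] [Finite S]

/-- `[K : B] |B| = |K|` -/
theorem relIndex_mul_card' {B K : Subgroup S} (h : B ≤ K) :
    B.relIndex K * Nat.card ↥B = Nat.card ↥K := by
  have h1 := Subgroup.relIndex_mul_relIndex (⊥ : Subgroup S) B K bot_le h
  rw [Subgroup.relIndex_bot_left, Subgroup.relIndex_bot_left] at h1
  rw [mul_comm]
  exact h1

/-- in a subgroup of relative index two, the product of two elements outside lies inside -/
theorem mul_mem_of_relIndex_two {B K : Subgroup S} (h : B.relIndex K = 2) {x y : S}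
    (hx : x ∈ K) (hy : y ∈ K) : x * y ∈ B ↔ (x ∈ B ↔ y ∈ B) := by
  have h' : (B.subgroupOf K).index = 2 := h
  have := Subgroup.mul_mem_iff_of_index_two h' (a := ⟨x, hx⟩) (b := ⟨y, hy⟩)
  simpa [Subgroup.mem_subgroupOf] using this

/-- PACKAGE NORM2. -/
theorem pcore_slim_contra (R H : Subgroup S) (hRn : R.Normal) (hR2 : IsPGroup 2 ↥R)
    (hcen : centralizer (R : Set S) ≤ R)
    (hodd : (Nat.card ↥H).Coprime 2) (hsa : SlimActConcl H R)
    (A : Subgroup S) (hAab : IsMulCommutative ↥A) (hAnc : ¬ IsCyclic ↥A) (hA8 : Nat.card ↥A = 8) :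
    False := by
  classical
  obtain ⟨hfull, h48⟩ := hsa
  have hA2 : IsPGroup 2 ↥A := IsPGroup.of_card (n := 3) (by rw [hA8]; norm_num)
  have hnormR : normalizer (R : Set S) = ⊤ := Subgroup.normalizer_eq_top R
  have hAcomm : ∀ x ∈ A, ∀ y ∈ A, x * y = y * x := by
    intro x hx y hy
    have := hAab.is_comm.comm (⟨x, hx⟩ : ↥A) ⟨y, hy⟩
    exact congrArg Subtype.val this
  rcases h48 with h4 | ⟨h8, hna⟩
  · -- `|R| = 4`
    have hidx := index_centralizer_four A R hA2 h4 (by rw [hnormR]; exact le_top)
    set D : Subgroup S := A ⊓ centralizer (R : Set S) with hD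
    have hDA : D ≤ A := inf_le_left
    have hDR : D ≤ R := inf_le_right.trans hcen
    have hcard := relIndex_mul_card' hDA
    rw [hA8] at hcard
    have hpos : D.relIndex A ≠ 0 := by
      intro h0
      rw [h0, zero_mul] at hcard
      omega
    have hD4 : 4 ≤ Nat.card ↥D := by
      by_contra hlt
      push Not at hlt
      have : D.relIndex A * Nat.card ↥D < 8 := by
        calc D.relIndex A * Nat.card ↥D ≤ 2 * Nat.card ↥D := Nat.mul_le_mul_right _ hidx
          _ < 8 := by omega
      omega
    have hDeq : D = R := Subgroup.eq_of_le_of_card_ge hDR (by rw [h4]; exact hD4)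
    have hRA : R ≤ A := hDeq ▸ hDA
    have hAC : A ≤ centralizer (R : Set S) := by
      intro a ha
      rw [Subgroup.mem_centralizer_iff]
      intro r hr
      exact hAcomm r (hRA hr) a ha
    have hAR : A ≤ R := hAC.trans hcen
    have := Subgroup.card_le_of_le hAR
    omega
  · -- `|R| = 8`, nonabelian
    have hinvH : H ≤ normalizer (R : Set S) := by rw [hnormR]; exact le_top
    obtain ⟨hZ2, -, -, -, hord4, -⟩ := ord8_struct H R hodd h8 hna hinvH hfull
    set T : Subgroup S := A ⊔ R with hT
    have hT2 : IsPGroup 2 ↥T := IsPGroup.to_sup_of_normal_right hA2 hR2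
    have hRT : R ≤ T := le_sup_right
    have hAT : A ≤ T := le_sup_left
    obtain ⟨K, hKT, hKidx, -, hKmem⟩ :=
      index_central_aut T R hT2 h8 hna (by rw [hnormR]; exact le_top)
    have hKR : K ≤ R := by
      intro y hy
      have hy' := (hKmem y).mp hy
      have h1 := central_aut_inner R h8 hna y (by rw [hnormR]; trivial) hy'.2
      have h2 : R ⊔ centralizer (R : Set S) = R := sup_eq_left.mpr hcen
      rwa [h2] at h1
    -- `A` is not contained in `R`
    have hAnR : ¬ A ≤ R := by
      intro hAR
      have hAR' : A = R := Subgroup.eq_of_le_of_card_ge hAR (by rw [h8, hA8])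
      apply hna
      rw [← hAR']
      exact hAab
    -- `[T : R] = 2`
    have hmul := Subgroup.relIndex_mul_relIndex K R T hKR hRT
    have hRT1 : R.relIndex T ≠ 1 := by
      intro h1
      apply hAnR
      exact hAT.trans (Subgroup.relIndex_eq_one.mp h1)
    have hKT0 : K.relIndex T ≠ 0 := by
      have hc := relIndex_mul_card' hKT
      intro h0
      rw [h0, zero_mul] at hc
      have : 0 < Nat.card ↥T := Nat.card_pos
      omega
    have hRT2 : R.relIndex T = 2 := by
      have hdvd : R.relIndex T ∣ K.relIndex T := ⟨K.relIndex R, by rw [← hmul, mul_comm]⟩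
      have hle : R.relIndex T ≤ K.relIndex T := Nat.le_of_dvd (Nat.pos_of_ne_zero hKT0) hdvd
      have h0 : R.relIndex T ≠ 0 := by
        intro h0
        rw [h0, mul_zero] at hmul
        exact hKT0 hmul.symm
      omega
    have hKR1 : K.relIndex R = 1 := by
      rw [hRT2] at hmul
      have : K.relIndex R * 2 ≤ 2 := hmul ▸ hKidx
      have h0 : K.relIndex R ≠ 0 := by
        intro h0
        rw [h0, zero_mul] at hmul
        exact hKT0 hmul.symm
      omega
    -- `B = A ∩ R`
    set B : Subgroup S := A ⊓ R with hB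
    have hBA : B ≤ A := inf_le_left
    have hBR : B ≤ R := inf_le_right
    have hBA2 : B.relIndex A = 2 := by
      have h1 : R.relIndex (A ⊔ R) = R.relIndex A := Subgroup.relIndex_sup_right A R
      have h2 : (A ⊓ R).relIndex A = R.relIndex A := Subgroup.inf_relIndex_left A R
      rw [hB, h2, ← h1]
      exact hRT2
    have hB4 : Nat.card ↥B = 4 := by
      have := relIndex_mul_card' hBA
      rw [hBA2, hA8] at this
      omega
    have hBR2 : B.relIndex R = 2 := by
      have := relIndex_mul_card' hBR
      rw [hB4, h8] at this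
      omega
    -- an element of `A` outside `R`
    obtain ⟨a, haA, haR⟩ : ∃ a ∈ A, a ∉ R := by
      by_contra hcon
      push Not at hcon
      exact hAnR hcon
    have haB : a ∉ B := fun h => haR (hBR h)
    have ha2B : a * a ∈ B := (mul_mem_of_relIndex_two hBA2 haA haA).mpr Iff.rfl
    -- `a` commutes with `B`
    have haBc : ∀ b ∈ B, a * b = b * a := fun b hb => hAcomm a haA b (hBA hb)
    -- conjugation by `a`
    have hconjR : ∀ w ∈ R, a * w * a⁻¹ ∈ R := fun w hw => hRn.conj_mem w hw a
    have hZmem : ∀ x : S, x ∈ zen R ↔ x ∈ R ∧ ∀ w ∈ R, w * x = x * w := by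
      intro x
      unfold zen
      rw [Subgroup.mem_inf, Subgroup.mem_centralizer_iff]
      rfl
    -- `a * a ∉ zen R`
    have ha2Z : a * a ∉ zen R := by
      intro hz
      obtain ⟨-, hzc⟩ := (hZmem _).mp hz
      apply haR
      apply hKR
      rw [hKmem]
      refine ⟨hAT haA, ?_⟩
      intro w hw
      rw [commutatorElement_def]
      by_cases hwB : w ∈ B
      · have : w * a * w⁻¹ * a⁻¹ = 1 := by
          rw [← haBc w hwB]
          group
        rw [this]
        exact (zen R).one_mem
      · -- `c = w a w⁻¹ a⁻¹ ∈ B`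
        set c : S := w * a * w⁻¹ * a⁻¹ with hc
        have hφw : a * w⁻¹ * a⁻¹ ∈ R := hconjR _ (R.inv_mem hw)
        have hφwB : a * w⁻¹ * a⁻¹ ∉ B := by
          intro hmem
          have h1 : a * (a * w⁻¹ * a⁻¹) = (a * w⁻¹ * a⁻¹) * a := haBc _ hmem
          have h2 : a * w⁻¹ * a⁻¹ = w⁻¹ := by
            have : a * w⁻¹ = w⁻¹ * a := by
              have h3 : a * (a * w⁻¹ * a⁻¹) * a = (a * w⁻¹ * a⁻¹) * a * a := by rw [h1]
              have h4 : a * (a * w⁻¹ * a⁻¹) * a = a * (a * w⁻¹) := by group
              have h5 : (a * w⁻¹ * a⁻¹) * a * a = (a * w⁻¹) * a := by group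
              rw [h4, h5] at h3
              -- a * (a * w⁻¹) = a * w⁻¹ * a
              have h6 : a * (a * w⁻¹) = a * (w⁻¹ * a) := by rw [h3]; group
              exact mul_left_cancel h6
            rw [this]
            group
          rw [h2] at hmem
          exact hwB (by simpa using B.inv_mem hmem)
        have hcB : c ∈ B := by
          have : c = w * (a * w⁻¹ * a⁻¹) := by rw [hc]; group
          rw [this]
          exact (mul_mem_of_relIndex_two hBR2 hw hφw).mpr
            ⟨fun h => absurd h hwB, fun h => absurd h hφwB⟩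
        have hcR : c ∈ R := hBR hcB
        have hca : a * c = c * a := haBc c hcB
        -- `a² w a⁻² = w` forces `c² = 1`
        have hcc : c * c = 1 := by
          have h1 : w * (a * a) = (a * a) * w := hzc w hw
          -- a w a⁻¹ = c⁻¹ w
          have h2 : a * w * a⁻¹ = c⁻¹ * w := by rw [hc]; group
          have h3 : a * (a * w * a⁻¹) * a⁻¹ = w := by
            have : a * (a * w * a⁻¹) * a⁻¹ = (a * a) * w * (a * a)⁻¹ := by group
            rw [this, ← h1]
            group
          rw [h2] at h3
          have h4 : a * (c⁻¹ * w) * a⁻¹ = c⁻¹ * (a * w * a⁻¹) := by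
            have hca' : a * c⁻¹ = c⁻¹ * a := by
              have : c⁻¹ * (a * c) * c⁻¹ = c⁻¹ * (c * a) * c⁻¹ := by rw [hca]
              have e1 : c⁻¹ * (a * c) * c⁻¹ = c⁻¹ * a := by group
              have e2 : c⁻¹ * (c * a) * c⁻¹ = a * c⁻¹ := by group
              rw [e1, e2] at this
              exact this.symm
            calc a * (c⁻¹ * w) * a⁻¹ = (a * c⁻¹) * w * a⁻¹ := by group
              _ = (c⁻¹ * a) * w * a⁻¹ := by rw [hca']
              _ = c⁻¹ * (a * w * a⁻¹) := by group
          rw [h4, h2] at h3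
          -- c⁻¹ c⁻¹ w = w
          have h5 : c⁻¹ * c⁻¹ = 1 := by
            have : c⁻¹ * (c⁻¹ * w) * w⁻¹ = w * w⁻¹ := by rw [h3]
            have e1 : c⁻¹ * (c⁻¹ * w) * w⁻¹ = c⁻¹ * c⁻¹ := by group
            rw [e1, mul_inv_cancel] at this
            exact this
          have : (c * c)⁻¹ = 1 := by rw [mul_inv_rev]; exact h5
          exact inv_eq_one.mp this
        by_contra hcZ
        have ho := hord4 c hcR hcZ
        have : c ^ 2 = 1 := by rw [pow_two]; exact hcc
        have hdvd := orderOf_dvd_of_pow_eq_one this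
        rw [ho] at hdvd
        omega
    -- so `a` has order 8
    have ha2R : a * a ∈ R := hBR ha2B
    have ho2 : orderOf (a * a) = 4 := hord4 _ ha2R ha2Z
    have ho : orderOf a = 8 := by
      have haa : a * a = a ^ 2 := (pow_two a).symm
      have h8' : a ^ 2 ^ (2 + 1) = 1 := by
        have h : (a ^ 2) ^ 4 = 1 := by
          rw [← haa, ← ho2]
          exact pow_orderOf_eq_one _
        rw [← pow_mul] at h
        exact h
      have h4' : ¬ a ^ 2 ^ 2 = 1 := by
        intro h
        have h' : (a * a) ^ 2 = 1 := by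
          rw [haa, ← pow_mul]
          exact h
        have hdvd := orderOf_dvd_of_pow_eq_one h'
        rw [ho2] at hdvd
        omega
      have := orderOf_eq_prime_pow (p := 2) (n := 2) h4' h8'
      simpa using this
    apply hAnc
    apply isCyclic_of_orderOf_eq_card (⟨a, haA⟩ : ↥A)
    rw [hA8, ← ho]
    exact Subgroup.orderOf_mk a haA

end Cfsg.Agent.Lib.Helper41_Slim_NORM2
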