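import Mathlib
import Cfsg.Agent.Lib.Helper49_SlimDefs
import Cfsg.Agent.Lib.Helper49_SlimTools
import Cfsg.Agent.Lib.Helper24_CoprimeAction

set_option autoImplicit false
set_option linter.unusedSectionVars false
set_option linter.unusedVariables false

/-!
helper41: S4409 package SA2 (architect helper49): a slim `2`-group `W` on which the odd-order
group `H` acts nontrivially, with `[W,H]` of order `4` or nonabelian of order `8`, equals `[W,H]`.
-/

namespace Cfsg.Agent.Lib.Helper41_Slim_SA2

open Subgroup Cfsg.Agent.Lib.Helper49_SlimDefs Cfsg.Agent.Lib.Helper49_SlimTools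
open scoped commutatorElement

variable {S : Type*} [Group S] [Finite S]

/-- two commuting abelian subgroups generate an abelian subgroup -/
theorem isMulCommutative_sup (X Y : Subgroup S) (hX : ∀ a ∈ X, ∀ b ∈ X, a * b = b * a)
    (hY : ∀ a ∈ Y, ∀ b ∈ Y, a * b = b * a) (hXY : ∀ a ∈ X, ∀ b ∈ Y, a * b = b * a) :
    IsMulCommutative ↥(X ⊔ Y) := by
  have hXX : X ≤ centralizer (X : Set S) := fun a ha =>
    mem_centralizer_iff.mpr (fun b hb => hX b hb a ha)
  have hYY : Y ≤ centralizer (Y : Set S) := fun a ha =>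
    mem_centralizer_iff.mpr (fun b hb => hY b hb a ha)
  have hYX : Y ≤ centralizer (X : Set S) := fun a ha =>
    mem_centralizer_iff.mpr (fun b hb => hXY b hb a ha)
  have hXY' : X ≤ centralizer (Y : Set S) := fun a ha =>
    mem_centralizer_iff.mpr (fun b hb => (hXY a ha b hb).symm)
  have h1 : X ⊔ Y ≤ centralizer (X : Set S) := sup_le hXX hYX
  have h2 : X ⊔ Y ≤ centralizer (Y : Set S) := sup_le hXY' hYY
  have h3 : X ≤ centralizer ((X ⊔ Y : Subgroup S) : Set S) := le_centralizer_iff.mp h1
  have h4 : Y ≤ centralizer ((X ⊔ Y : Subgroup S) : Set S) := le_centralizer_iff.mp h2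
  have h5 : X ⊔ Y ≤ centralizer ((X ⊔ Y : Subgroup S) : Set S) := sup_le h3 h4
  refine ⟨⟨fun a b => ?_⟩⟩
  apply Subtype.ext
  have := mem_centralizer_iff.mp (h5 b.2) a a.2
  exact this

/-- a nontrivial subgroup of the `p`-group `W` is not equal to its commutator with `W` -/
theorem comm_ne_of_pgroup {p : ℕ} [Fact p.Prime] (W N : Subgroup S) (hW : IsPGroup p ↥W)
    (hNW : N ≤ W) (hN : N ≠ ⊥) : ⁅N, W⁆ ≠ N := by
  intro h
  have hnil : Group.IsNilpotent ↥W := hW.isNilpotent
  obtain ⟨n, hn⟩ := (Subgroup.isNilpotent_iff_lowerCentralSeries W).mp hnil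
  have hle : ∀ m, N ≤ W.lowerCentralSeries m := by
    intro m
    induction m with
    | zero =>
      rw [Subgroup.lowerCentralSeries_zero]
      exact hNW
    | succ k ih =>
      rw [Subgroup.lowerCentralSeries_succ]
      calc N = ⁅N, W⁆ := h.symm
        _ ≤ ⁅W.lowerCentralSeries k, W⁆ := Subgroup.commutator_mono ih le_rfl
  apply hN
  have := hle n
  rw [hn] at this
  exact le_bot_iff.mp this

/-- a proper subgroup has at most half the order -/
theorem two_mul_card_le {X E : Subgroup S} (hXE : X ≤ E) (hne : X ≠ E) :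
    2 * Nat.card ↥X ≤ Nat.card ↥E := by
  obtain ⟨k, hk⟩ := Subgroup.card_dvd_of_le hXE
  have hposE : 0 < Nat.card ↥E := Nat.card_pos
  have hposX : 0 < Nat.card ↥X := Nat.card_pos
  have hk1 : k ≠ 1 := by
    intro h1
    apply hne
    exact Subgroup.eq_of_le_of_card_ge hXE (by rw [hk, h1, mul_one])
  have hk0 : k ≠ 0 := by
    intro h0
    rw [h0, mul_zero] at hk
    omega
  have : 2 ≤ k := by omega
  calc 2 * Nat.card ↥X = Nat.card ↥X * 2 := mul_comm _ _
    _ ≤ Nat.card ↥X * k := Nat.mul_le_mul_left _ this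
    _ = Nat.card ↥E := hk.symm

/-- a group with a noncyclic subgroup is not cyclic -/
theorem not_isCyclic_of_le {X E : Subgroup S} (hXE : X ≤ E) (hX : ¬ IsCyclic ↥X) :
    ¬ IsCyclic ↥E := by
  intro hE
  exact hX (isCyclic_of_injective (Subgroup.inclusion hXE) (Subgroup.inclusion_injective hXE))

/-- a cyclic group has at most four solutions of `x ^ 4 = 1` -/
theorem not_isCyclic_of_five (E : Subgroup S) (i d : S) (hi : i ∈ E) (hd : d ∈ E)
    (hoi : orderOf i = 4) (hd4 : d ^ 4 = 1) (hdi : d ∉ zpowers i) : ¬ IsCyclic ↥E := by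
  classical
  intro hE
  have : Fintype ↥E := Fintype.ofFinite _
  have hle := IsCyclic.card_pow_eq_one_le (α := ↥E) (n := 4) (by norm_num)
  let i' : ↥E := ⟨i, hi⟩
  let d' : ↥E := ⟨d, hd⟩
  have hi4 : i ^ 4 = 1 := by rw [← hoi]; exact pow_orderOf_eq_one i
  let s : Finset ↥E := {1, i', i' ^ 2, i' ^ 3, d'}
  have hsub : s ⊆ Finset.univ.filter (fun a : ↥E => a ^ 4 = 1) := by
    intro x hx
    rw [Finset.mem_filter]
    refine ⟨Finset.mem_univ _, ?_⟩
    simp only [s, Finset.mem_insert, Finset.mem_singleton] at hx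
    apply Subtype.ext
    rcases hx with rfl | rfl | rfl | rfl | rfl
    · simp
    · simpa [i'] using hi4
    · simp only [i', Subgroup.coe_pow, Subgroup.coe_one]
      rw [← pow_mul, mul_comm, pow_mul, hi4, one_pow]
    · simp only [i', Subgroup.coe_pow, Subgroup.coe_one]
      rw [← pow_mul, mul_comm, pow_mul, hi4, one_pow]
    · simpa [d'] using hd4
  have hinj : ∀ k l : ℕ, k < 4 → l < 4 → i ^ k = i ^ l → k = l := by
    intro k l hk hl h
    exact pow_injOn_Iio_orderOf (x := i) (by rw [hoi]; exact hk) (by rw [hoi]; exact hl) h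
  have hdne : ∀ k : ℕ, d ≠ i ^ k := by
    intro k h
    apply hdi
    rw [h]
    exact Subgroup.pow_mem _ (Subgroup.mem_zpowers i) k
  have hcard : s.card = 5 := by
    have n4 : i' ^ 3 ∉ ({d'} : Finset ↥E) := by
      simp only [Finset.mem_singleton]
      intro h
      have := congrArg Subtype.val h
      simp only [i', d', Subgroup.coe_pow] at this
      exact hdne 3 this.symm
    have n3 : i' ^ 2 ∉ ({i' ^ 3, d'} : Finset ↥E) := by
      simp only [Finset.mem_insert, Finset.mem_singleton]
      rintro (h | h)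
      · have := congrArg Subtype.val h
        simp only [i', Subgroup.coe_pow] at this
        have := hinj 2 3 (by norm_num) (by norm_num) this
        omega
      · have := congrArg Subtype.val h
        simp only [i', d', Subgroup.coe_pow] at this
        exact hdne 2 this.symm
    have n2 : i' ∉ ({i' ^ 2, i' ^ 3, d'} : Finset ↥E) := by
      simp only [Finset.mem_insert, Finset.mem_singleton]
      rintro (h | h | h)
      · have := congrArg Subtype.val h
        simp only [i', Subgroup.coe_pow] at this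
        have := hinj 1 2 (by norm_num) (by norm_num) (by rw [pow_one]; exact this)
        omega
      · have := congrArg Subtype.val h
        simp only [i', Subgroup.coe_pow] at this
        have := hinj 1 3 (by norm_num) (by norm_num) (by rw [pow_one]; exact this)
        omega
      · have := congrArg Subtype.val h
        simp only [i', d'] at this
        exact hdne 1 (by rw [pow_one]; exact this.symm)
    have n1 : (1 : ↥E) ∉ ({i', i' ^ 2, i' ^ 3, d'} : Finset ↥E) := by
      simp only [Finset.mem_insert, Finset.mem_singleton]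
      rintro (h | h | h | h)
      · have := congrArg Subtype.val h
        simp only [i', Subgroup.coe_one] at this
        have := hinj 0 1 (by norm_num) (by norm_num) (by rw [pow_zero, pow_one]; exact this)
        omega
      · have := congrArg Subtype.val h
        simp only [i', Subgroup.coe_one, Subgroup.coe_pow] at this
        have := hinj 0 2 (by norm_num) (by norm_num) (by rw [pow_zero]; exact this)
        omega
      · have := congrArg Subtype.val h
        simp only [i', Subgroup.coe_one, Subgroup.coe_pow] at this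
        have := hinj 0 3 (by norm_num) (by norm_num) (by rw [pow_zero]; exact this)
        omega
      · have := congrArg Subtype.val h
        simp only [d', Subgroup.coe_one] at this
        exact hdne 0 (by rw [pow_zero]; exact this.symm)
    simp only [s]
    rw [Finset.card_insert_of_notMem n1, Finset.card_insert_of_notMem n2,
      Finset.card_insert_of_notMem n3, Finset.card_insert_of_notMem n4, Finset.card_singleton]
  have := Finset.card_le_card hsub
  omega

theorem zpowers_comm (c : S) : ∀ a ∈ zpowers c, ∀ b ∈ zpowers c, a * b = b * a := by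
  intro a ha b hb
  obtain ⟨m, rfl⟩ := mem_zpowers_iff.mp ha
  obtain ⟨n, rfl⟩ := mem_zpowers_iff.mp hb
  rw [← zpow_add, ← zpow_add, add_comm]

theorem comm_zpowers {X : Subgroup S} {c : S} (hc : ∀ a ∈ X, a * c = c * a) :
    ∀ a ∈ X, ∀ b ∈ zpowers c, a * b = b * a := by
  intro a ha b hb
  obtain ⟨n, rfl⟩ := mem_zpowers_iff.mp hb
  have h : Commute a c := hc a ha
  exact (h.zpow_right n).eq

/-- PACKAGE SA2. -/
theorem slimact_eq (H W : Subgroup S) (hodd : (Nat.card ↥H).Coprime 2) (h2 : IsPGroup 2 ↥W)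
    (hinv : H ≤ normalizer (W : Set S)) (hs : Slim W) (hnc : ¬ H ≤ centralizer (W : Set S))
    (h48 : Nat.card ↥(⁅W, H⁆ : Subgroup S) = 4 ∨
      (Nat.card ↥(⁅W, H⁆ : Subgroup S) = 8 ∧ ¬ IsMulCommutative ↥(⁅W, H⁆ : Subgroup S))) :
    ⁅W, H⁆ = W := by
  classical
  have : Fact (Nat.Prime 2) := ⟨Nat.prime_two⟩
  set W1 : Subgroup S := ⁅W, H⁆ with hW1
  set C : Subgroup S := W ⊓ centralizer (H : Set S) with hC
  have hW1W : W1 ≤ W := comm_le H W hinv
  obtain ⟨hHW1, hWW1⟩ := comm_inv H W hinv
  have hdec : W1 ⊔ C = W := decomp H W hodd h2 hinv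
  have hidem : ⁅W1, H⁆ = W1 := comm_idem H W hodd h2 hinv
  have hCW : C ≤ W := inf_le_left
  have hCH : ∀ c ∈ C, ∀ h ∈ H, h * c = c * h := fun c hc h hh =>
    mem_centralizer_iff.mp hc.2 h hh
  have hW1ne : W1 ≠ ⊥ := by
    intro h0
    rw [h0] at h48
    simp at h48
  have hnc1 : ¬ H ≤ centralizer (W1 : Set S) := by
    intro hc
    apply hW1ne
    rw [← hidem]
    exact (comm_eq_bot_iff H W1).mpr hc
  set T : Subgroup S := ⁅W1, C⁆ with hT
  have hCnW1 : C ≤ normalizer (W1 : Set S) := hCW.trans hWW1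
  have hTW1 : T ≤ W1 :=
    Cfsg.Agent.Lib.Helper24_CoprimeAction.commutator_le_of_le_normalizer W1 C hCnW1
  have hHC : H ≤ normalizer (C : Set S) := by
    intro h hh
    rw [mem_normalizer_iff]
    intro x
    constructor
    · intro hx
      have : h * x * h⁻¹ = x := by rw [hCH x hx h hh]; group
      rw [this]
      exact hx
    · intro hx
      have hh' : h⁻¹ ∈ H := H.inv_mem hh
      have h1 := hCH _ hx h⁻¹ hh'
      have e : x = h * x * h⁻¹ := by
        have h2' : h⁻¹ * (h * x * h⁻¹) * h = (h * x * h⁻¹) * h⁻¹ * h := by rw [h1]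
        have e1 : h⁻¹ * (h * x * h⁻¹) * h = x := by group
        have e2 : (h * x * h⁻¹) * h⁻¹ * h = h * x * h⁻¹ := by group
        rw [e1, e2] at h2'
        exact h2'
      rw [e]
      exact hx
  have hHT : H ≤ normalizer (T : Set S) := fun h hh =>
    Cfsg.Agent.Lib.Helper24_CoprimeAction.mem_normalizer_commutator W1 C (hHW1 hh) (hHC hh)
  have hTne : T ≠ W1 := by
    intro hTeq
    have h1 : ⁅W1, W⁆ ≤ W1 :=
      Cfsg.Agent.Lib.Helper24_CoprimeAction.commutator_le_of_le_normalizer W1 W hWW1
    have h2' : T ≤ ⁅W1, W⁆ := Subgroup.commutator_mono le_rfl hCW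
    have : ⁅W1, W⁆ = W1 := le_antisymm h1 (hTeq ▸ h2')
    exact comm_ne_of_pgroup W W1 h2 hW1W hW1ne this
  have hTlt : T < W1 := lt_of_le_of_ne hTW1 hTne
  rcases h48 with h4 | ⟨h8, hna⟩
  · -- `|W1| = 4`
    obtain ⟨hncyc, hab, -, -, hfix, hirr⟩ := irr4 H W1 hodd h4 hHW1 hnc1
    have hW1comm : ∀ a ∈ W1, ∀ b ∈ W1, a * b = b * a := by
      intro a ha b hb
      have := hab.is_comm.comm (⟨a, ha⟩ : ↥W1) ⟨b, hb⟩
      exact congrArg Subtype.val this
    have hTbot : T = ⊥ := hirr T hTlt hHT
    have hCcent : C ≤ centralizer (W1 : Set S) := (comm_eq_bot_iff C W1).mp hTbot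
    have hW1C : W1 ⊓ C = ⊥ := by
      rw [eq_bot_iff, ← hfix]
      exact inf_le_inf_left _ inf_le_right
    have hCbot : C = ⊥ := by
      by_contra hCne
      obtain ⟨c, hcC, hc1⟩ : ∃ c ∈ C, c ≠ 1 := by
        by_contra hcon
        push Not at hcon
        exact hCne ((Subgroup.eq_bot_iff_forall C).mpr hcon)
      set E : Subgroup S := W1 ⊔ zpowers c with hE
      have hEW : E ≤ W := sup_le hW1W ((zpowers_le).mpr (hCW hcC))
      have hcW1c : ∀ a ∈ W1, a * c = c * a := fun a ha =>
        mem_centralizer_iff.mp (hCcent hcC) a ha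
      have hEab : IsMulCommutative ↥E :=
        isMulCommutative_sup W1 (zpowers c) hW1comm (zpowers_comm c) (comm_zpowers hcW1c)
      have hW1E : W1 ≤ E := le_sup_left
      have hcE : c ∈ E := (le_sup_right : zpowers c ≤ E) (mem_zpowers c)
      have hcW1 : c ∉ W1 := by
        intro h
        apply hc1
        have : c ∈ W1 ⊓ C := ⟨h, hcC⟩
        rw [hW1C] at this
        exact mem_bot.mp this
      have hne : W1 ≠ E := fun h => hcW1 (h ▸ hcE)
      have h8E : 8 ≤ Nat.card ↥E := by
        have := two_mul_card_le hW1E hne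
        omega
      exact not_slim_of_abelian W E hEW (h2.to_le hEW) hEab (not_isCyclic_of_le hW1E hncyc) h8E hs
    have hWle : W ≤ W1 := by
      calc W = W1 ⊔ C := hdec.symm
        _ ≤ W1 := by rw [hCbot, sup_bot_eq]
    exact le_antisymm hW1W hWle
  · -- `|W1| = 8`, nonabelian
    obtain ⟨hZ2, -, -, hprop, hord4, -⟩ := ord8_struct H W1 hodd h8 hna hHW1 hidem
    have hTZ : T ≤ zen W1 := hprop T hTlt hHT
    set D : Subgroup S := W ⊓ centralizer (W1 : Set S) with hD
    have hDW1 : D ≤ W1 := by
      by_contra hcon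
      obtain ⟨d0, hd0D, hd0W1⟩ : ∃ d ∈ D, d ∉ W1 := by
        by_contra h
        push Not at h
        exact hcon h
      obtain ⟨d, hdD, hdW1, hd2⟩ : ∃ d ∈ D, d ∉ W1 ∧ d ^ 2 ∈ W1 := by
        obtain ⟨k, hk⟩ := h2 ⟨d0, hd0D.1⟩
        have hk' : d0 ^ 2 ^ k = 1 := by
          have := congrArg Subtype.val hk
          simpa using this
        have hex : ∃ m : ℕ, d0 ^ 2 ^ m ∈ W1 := ⟨k, by rw [hk']; exact W1.one_mem⟩
        have hm := Nat.find_spec hex
        have hmin := fun m => Nat.find_min hex (m := m)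
        set m := Nat.find hex with hmdef
        have hm0 : m ≠ 0 := by
          intro h0
          rw [h0] at hm
          simp at hm
          exact hd0W1 hm
        obtain ⟨m', hm'⟩ := Nat.exists_eq_succ_of_ne_zero hm0
        refine ⟨d0 ^ 2 ^ m', D.pow_mem hd0D _, hmin m' (by omega), ?_⟩
        rw [← pow_mul, ← pow_succ, ← Nat.succ_eq_add_one, ← hm']
        exact hm
      obtain ⟨i, hiW1, hiZ⟩ : ∃ i ∈ W1, i ∉ zen W1 := by
        by_contra h
        push Not at h
        have := Subgroup.card_le_of_le (show W1 ≤ zen W1 from h)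
        omega
      have hoi : orderOf i = 4 := hord4 i hiW1 hiZ
      have hd2Z : d ^ 2 ∈ zen W1 := ⟨hd2, (centralizer (W1 : Set S)).pow_mem hdD.2 2⟩
      have hd4 : d ^ 4 = 1 := by
        have h1 : (⟨d ^ 2, hd2Z⟩ : ↥(zen W1)) ^ Nat.card ↥(zen W1) = 1 := pow_card_eq_one'
        rw [hZ2] at h1
        have h2' := congrArg Subtype.val h1
        simp only [Subgroup.coe_pow, Subgroup.coe_one] at h2'
        rw [← pow_mul] at h2'
        exact h2'
      set E : Subgroup S := zpowers i ⊔ zpowers d with hE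
      have hiW : i ∈ W := hW1W hiW1
      have hEW : E ≤ W := sup_le ((zpowers_le).mpr hiW) ((zpowers_le).mpr hdD.1)
      have hid : ∀ a ∈ zpowers i, a * d = d * a := by
        intro a ha
        have haW1 : a ∈ W1 := ((zpowers_le).mpr hiW1) ha
        exact mem_centralizer_iff.mp hdD.2 a haW1
      have hEab : IsMulCommutative ↥E :=
        isMulCommutative_sup (zpowers i) (zpowers d) (zpowers_comm i) (zpowers_comm d)
          (comm_zpowers hid)
      have hdi : d ∉ zpowers i := fun h => hdW1 (((zpowers_le).mpr hiW1) h)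
      have hiE : i ∈ E := (le_sup_left : zpowers i ≤ E) (mem_zpowers i)
      have hdE : d ∈ E := (le_sup_right : zpowers d ≤ E) (mem_zpowers d)
      have hncE : ¬ IsCyclic ↥E := not_isCyclic_of_five E i d hiE hdE hoi hd4 hdi
      have hne : zpowers i ≠ E := fun h => hdi (h ▸ hdE)
      have h8E : 8 ≤ Nat.card ↥E := by
        have := two_mul_card_le (le_sup_left : zpowers i ≤ E) hne
        rw [Nat.card_zpowers, hoi] at this
        omega
      exact not_slim_of_abelian W E hEW (h2.to_le hEW) hEab hncE h8E hs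
    have hCW1 : C ≤ W1 := by
      intro c hc
      have hcen : ∀ w ∈ W1, ⁅w, c⁆ ∈ zen W1 := fun w hw =>
        hTZ (Subgroup.commutator_mem_commutator hw hc)
      have h1 := central_aut_inner W1 h8 hna c (hCnW1 hc) hcen
      have hcn : centralizer (W1 : Set S) ≤ normalizer (W1 : Set S) :=
        Subgroup.centralizer_le_normalizer (W1 : Set S)
      obtain ⟨w, hw, d, hd, hcd⟩ :=
        Cfsg.Agent.Lib.Helper24_CoprimeAction.exists_mul_of_mem_sup
          (centralizer (W1 : Set S)) W1 hcn h1
      have hdW : d ∈ W := by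
        have : d = w⁻¹ * c := by rw [hcd]; group
        rw [this]
        exact W.mul_mem (W.inv_mem (hW1W hw)) (hCW hc)
      rw [hcd]
      have hdD : d ∈ D := Subgroup.mem_inf.mpr ⟨hdW, hd⟩
      exact W1.mul_mem hw (hDW1 hdD)
    have hWle : W ≤ W1 := by
      calc W = W1 ⊔ C := hdec.symm
        _ ≤ W1 := sup_le le_rfl hCW1
    exact le_antisymm hW1W hWle

end Cfsg.Agent.Lib.Helper41_Slim_SA2
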