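import Mathlib
import Cfsg.Agent.Lib.Helper67_Tens2Defs

set_option autoImplicit false
set_option linter.unusedSectionVars false
set_option linter.unusedVariables false

/-!
helper41: TENS2 package ST2 (architect helper67): under `RadStd`, the stabiliser of `G0 = B × 0`
in `M` consists of Kronecker elements.  This file: `st2_aux`, with the EIG input
(`comm_refl_scalar` for `D = ⊤`) as a hypothesis; the verbatim `st2` is in `Helper41_T2_ST2`.
-/

open Module
open Cfsg.Agent.Lib.Helper94_Symp Cfsg.Agent.Lib.Helper67_Tens2Defs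

namespace Cfsg.Agent.Lib.Helper41_T2_ST2aux

/-- the reflection is an involution -/
theorem reflE_reflE {F B : Type*} [Field F] [AddCommGroup B] [Module F B]
    (β : LinearMap.BilinForm F B) (y v : B) : reflE β y (reflE β y v) = v :=
  (reflE β y).left_inv v

/-- ST2 with the EIG input (`comm_refl_scalar` for `D = ⊤`) as a hypothesis -/
theorem st2_aux {F B : Type*} [Field F] [AddCommGroup B] [Module F B]
    [FiniteDimensional F B] (β : LinearMap.BilinForm F B) (hs : ∀ u v, β u v = β v u)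
    (hn : β.Nondegenerate) (h2 : (2 : F) ≠ 0) (h3 : 3 ≤ finrank F B)
    (hEIG : ∀ T : B →ₗ[F] B,
      (∀ y : B, β y y ≠ 0 → ∀ v, T (reflE β y v) = reflE β y (T v)) →
      ∃ c : F, ∀ u : B, T u = c • u)
    (M : Subgroup ((B × B) ≃ₗ[F] (B × B))) (hM : HypM β M) (hR : RadStd β M)
    (g : (B × B) ≃ₗ[F] (B × B)) (hg : g ∈ M)
    (hg0 : ∀ x ∈ (G0 : Submodule F (B × B)), g x ∈ (G0 : Submodule F (B × B))) :
    IsKron2 g := by
  classical
  -- the components of `g`
  let α : B →ₗ[F] B := (LinearMap.fst F B B) ∘ₗ g.toLinearMap ∘ₗ (LinearMap.inl F B B)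
  let γ : B →ₗ[F] B := (LinearMap.fst F B B) ∘ₗ g.toLinearMap ∘ₗ (LinearMap.inr F B B)
  let δ : B →ₗ[F] B := (LinearMap.snd F B B) ∘ₗ g.toLinearMap ∘ₗ (LinearMap.inr F B B)
  have hg1 : ∀ u, g (u, 0) = (α u, 0) := by
    intro u
    have h := hg0 (u, 0) rfl
    exact Prod.ext rfl (mem_G0.mp h)
  have hg2 : ∀ u', g (0, u') = (γ u', δ u') := fun u' => rfl
  have hgf : ∀ u u', g (u, u') = (α u + γ u', δ u') := by
    intro u u'
    have h : ((u, u') : B × B) = (u, 0) + (0, u') := by simp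
    rw [h, map_add, hg1, hg2]
    simp
  have hiso : ∀ x y, tf β (g x) (g y) = tf β x y := hM.le hg
  have h1 : ∀ u u', β (α u) (δ u') = β u u' := by
    intro u u'
    have h := hiso (u, 0) (0, u')
    rw [hg1, hg2] at h
    simpa using h
  have hαinj : Function.Injective α := by
    rw [injective_iff_map_eq_zero]
    intro u hu
    apply hn.1 u
    intro u'
    rw [← h1 u u', hu]
    simp
  have hδinj : Function.Injective δ := by
    rw [injective_iff_map_eq_zero]
    intro u' hu'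
    apply hn.2 u'
    intro u
    rw [← h1 u u', hu']
    simp
  let αe : B ≃ₗ[F] B := LinearEquiv.ofInjectiveEndo α hαinj
  let δe : B ≃ₗ[F] B := LinearEquiv.ofInjectiveEndo δ hδinj
  have hαe : ∀ u, αe u = α u := fun u => congrFun (LinearEquiv.coe_ofInjectiveEndo α hαinj) u
  have hδe : ∀ u, δe u = δ u := fun u => congrFun (LinearEquiv.coe_ofInjectiveEndo δ hδinj) u
  have hδs : ∀ u, δe.symm (δ u) = u := by
    intro u
    rw [← hδe, LinearEquiv.symm_apply_apply]
  have hαs : ∀ u, αe.symm (α u) = u := by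
    intro u
    rw [← hαe, LinearEquiv.symm_apply_apply]
  have hαs' : ∀ u, α (αe.symm u) = u := by
    intro u
    rw [← hαe, LinearEquiv.apply_symm_apply]
  -- STEP A
  let S : B →ₗ[F] B := α ∘ₗ (δe.symm : B →ₗ[F] B)
  have hA : g * ux ((1 : F) • (LinearMap.id : B →ₗ[F] B)) * g⁻¹ = ux S := by
    rw [mul_inv_eq_iff_eq_mul]
    apply LinearEquiv.ext
    rintro ⟨u, u'⟩
    simp only [LinearEquiv.mul_apply, ux_apply, hgf, LinearMap.id_apply, one_smul, map_add]
    have hS : S (δ u') = α u' := by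
      show α (δe.symm (δ u')) = α u'
      rw [hδs]
    rw [hS]
    ext
    · simp only []
      abel
    · rfl
  have hSM : ux S ∈ M := by
    rw [← hA]
    exact M.mul_mem (M.mul_mem hg (hM.ux_mem 1)) (M.inv_mem hg)
  obtain ⟨c', hc'⟩ := hR S (self_adjoint_of_ux_mem β S (hM.le hSM)) hSM
  have hαδ : ∀ w, α w = c' • δ w := by
    intro w
    have h := LinearMap.congr_fun hc' (δ w)
    have hS : S (δ w) = α w := by
      show α (δe.symm (δ w)) = α w
      rw [hδs]
    rw [hS] at h
    simpa using h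
  obtain ⟨x0, hx0⟩ : ∃ x : B, x ≠ 0 := by
    exact (Module.finrank_pos_iff_exists_ne_zero (R := F) (M := B)).mp (by omega)
  have hc'0 : c' ≠ 0 := by
    intro h0
    apply hx0
    apply hαinj
    rw [hαδ, h0, zero_smul, map_zero]
  have hδα : ∀ w, δ w = c'⁻¹ • α w := by
    intro w
    rw [hαδ, smul_smul, inv_mul_cancel₀ hc'0, one_smul]
  have h3' : ∀ u u', β (α u) (α u') = c' * β u u' := by
    intro u u'
    rw [hαδ u', map_smul, smul_eq_mul, h1]
  -- STEP B
  let S'' : B →ₗ[F] B := (αe.symm : B →ₗ[F] B) ∘ₗ γ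
  have hγS : ∀ w, γ w = α (S'' w) := by
    intro w
    show γ w = α (αe.symm (γ w))
    rw [hαs']
  have hcomm : ∀ y : B, β y y ≠ 0 → ∀ v, S'' (reflE β y v) = reflE β y (S'' v) := by
    intro y hy
    set Q : B ≃ₗ[F] B := reflE β y with hQdef
    have hQQ : ∀ v, Q (Q v) = v := fun v => reflE_reflE β y v
    have hQsymm : ∀ v, Q.symm v = Q v := by
      intro v
      apply Q.injective
      rw [LinearEquiv.apply_symm_apply, hQQ]
    have hQiso : Q ∈ isoGroup β := reflE_mem_isoGroup β hs y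
    let Q' : B ≃ₗ[F] B := αe * Q * αe⁻¹
    have hQ'α : ∀ u, Q' (α u) = α (Q u) := by
      intro u
      show αe (Q (αe⁻¹ (α u))) = α (Q u)
      have : αe⁻¹ (α u) = u := by
        rw [← hαe]
        exact inv_apply_apply' αe u
      rw [this, hαe]
    have hQ'iso : Q' ∈ isoGroup β := by
      intro u v
      obtain ⟨u1, rfl⟩ : ∃ u1, α u1 = u := ⟨αe.symm u, hαs' u⟩
      obtain ⟨v1, rfl⟩ : ∃ v1, α v1 = v := ⟨αe.symm v, hαs' v⟩
      rw [hQ'α, hQ'α, h3', h3', hQiso]
    let T : B →ₗ[F] B :=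
      (γ - (Q' : B →ₗ[F] B) ∘ₗ γ ∘ₗ (Q.symm : B →ₗ[F] B)) ∘ₗ (δe.symm : B →ₗ[F] B)
    have hTδ : ∀ w, T (δ w) = γ w - Q' (γ (Q w)) := by
      intro w
      show γ (δe.symm (δ w)) - Q' (γ (Q.symm (δe.symm (δ w)))) = _
      rw [hδs, hQsymm]
    have hQ'δ : ∀ w, Q' (δ w) = δ (Q w) := by
      intro w
      rw [hδα, map_smul, hQ'α, ← hδα]
    have hB : g * oE Q * g⁻¹ * (oE Q')⁻¹ = ux T := by
      rw [mul_inv_eq_iff_eq_mul, mul_inv_eq_iff_eq_mul]
      apply LinearEquiv.ext
      rintro ⟨u, u'⟩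
      simp only [LinearEquiv.mul_apply, ux_apply, oE_apply, hgf, map_add]
      rw [hQ'α, hQ'δ, hTδ, hQQ]
      ext
      · simp only []
        abel
      · rfl
    have hTM : ux T ∈ M := by
      rw [← hB]
      exact M.mul_mem (M.mul_mem (M.mul_mem hg (hM.oE_mem Q hQiso)) (M.inv_mem hg))
        (M.inv_mem (hM.oE_mem Q' hQ'iso))
    obtain ⟨t, ht⟩ := hR T (self_adjoint_of_ux_mem β T (hM.le hTM)) hTM
    have hkey : ∀ w, S'' w - Q (S'' (Q w)) = (t * c'⁻¹) • w := by
      intro w
      apply hαinj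
      have h := LinearMap.congr_fun ht (δ w)
      rw [hTδ, LinearMap.smul_apply, LinearMap.id_apply, hγS w, hγS (Q w), hQ'α, hδα,
        smul_smul] at h
      rw [map_sub, map_smul]
      exact h
    -- a nonzero vector orthogonal to `y` with `S'' w ⊥ y`
    let φ : B →ₗ[F] F × F := LinearMap.prod (β.flip y) ((β.flip y) ∘ₗ S'')
    have hker : LinearMap.ker φ ≠ ⊥ := by
      apply LinearMap.ker_ne_bot_of_finrank_lt
      rw [Module.finrank_prod, Module.finrank_self]
      omega
    obtain ⟨w0, hw0ker, hw0⟩ := (Submodule.ne_bot_iff _).mp hker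
    have hφ : φ w0 = 0 := hw0ker
    have hw0y : β w0 y = 0 := by
      have := congrArg Prod.fst hφ
      simpa [φ] using this
    have hSw0y : β (S'' w0) y = 0 := by
      have := congrArg Prod.snd hφ
      simpa [φ] using this
    have hQw0 : Q w0 = w0 := by
      rw [hQdef, reflE_apply, hw0y]
      simp
    have hQSw0 : Q (S'' w0) = S'' w0 := by
      rw [hQdef, reflE_apply, hSw0y]
      simp
    have ht0 : t * c'⁻¹ = 0 := by
      have h := hkey w0
      rw [hQw0, hQSw0, sub_self] at h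
      rcases smul_eq_zero.mp h.symm with h' | h'
      · exact h'
      · exact absurd h' hw0
    intro v
    have h := hkey (Q v)
    rw [ht0, zero_smul, hQQ, sub_eq_zero] at h
    exact h
  obtain ⟨s, hs''⟩ := hEIG S'' hcomm
  refine ⟨!![1, s; 0, c'⁻¹], α, ?_⟩
  intro u u'
  rw [hgf, hγS, hs'', hδα, map_smul]
  simp
end Cfsg.Agent.Lib.Helper41_T2_ST2aux
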