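import Mathlib
import Cfsg.Agent.Lib.Helper67_Tens2Defs
import Cfsg.Agent.Lib.Helper41_T2_ST2aux
import Cfsg.Agent.Lib.Helper25_T2_EIG

set_option autoImplicit false
set_option linter.unusedSectionVars false
set_option linter.unusedVariables false

/-!
helper41: TENS2 package ST2 (architect helper67), verbatim: under `RadStd`, the stabiliser of
`G0 = B × 0` in `M` consists of Kronecker elements.  (`st2_aux` + helper25's `comm_refl_scalar`.)
-/

open Module
open Cfsg.Agent.Lib.Helper94_Symp Cfsg.Agent.Lib.Helper67_Tens2Defs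

namespace Cfsg.Agent.Lib.Helper41_T2_ST2

/-- ST2 : under `RadStd`, the stabiliser of `G0` in `M` is Kronecker -/
theorem st2 {F B : Type*} [Field F] [Fintype F] [AddCommGroup B] [Module F B]
    [FiniteDimensional F B] (β : LinearMap.BilinForm F B) (hs : ∀ u v, β u v = β v u)
    (hn : β.Nondegenerate) (h2 : (2 : F) ≠ 0) (h3 : 3 ≤ finrank F B)
    (M : Subgroup ((B × B) ≃ₗ[F] (B × B))) (hM : HypM β M) (hR : RadStd β M)
    (g : (B × B) ≃ₗ[F] (B × B)) (hg : g ∈ M)
    (hg0 : ∀ x ∈ (G0 : Submodule F (B × B)), g x ∈ (G0 : Submodule F (B × B))) :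
    IsKron2 g := by
  refine Cfsg.Agent.Lib.Helper41_T2_ST2aux.st2_aux β hs hn h2 h3 ?_ M hM hR g hg hg0
  intro T hT
  obtain ⟨c, hc⟩ := Cfsg.Agent.Lib.Helper25_T2_EIG.comm_refl_scalar β hs h2 ⊤
    (fun u _ hu => hn.1 u (fun w => hu w Submodule.mem_top))
    (by rw [finrank_top]; exact h3) T (fun y _ hy => hT y hy)
  exact ⟨c, fun u => hc u Submodule.mem_top⟩

end Cfsg.Agent.Lib.Helper41_T2_ST2
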