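import Mathlib

/-!
# A group with the 3-local and 13-local structure of the Tits group has no faithful doubly
transitive action (helper41)

Let `T` be a group of order `17971200 = 2¹¹ · 3³ · 5² · 13` with a subgroup `R` of order 27 all of
whose non-identity elements are conjugate to one element `h`, and with an element `g` of order 13
with `h g h⁻¹ = g³`.  Then `T` has no faithful doubly transitive action on a finite set with at
least three points.

Proof.  Let `n` be the degree, `f` the number of fixed points of `h`.  Double transitivity gives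
`n (n - 1) ∣ |T|`; counting the orbits of `R` (Burnside) gives `27 ∣ n + 26 f`, so `27 ≤ n - f`; this
leaves `n = 27, 40, 65`, and then a two-point stabiliser has order prime to 13, so `g` fixes at most
one point.  A fixed point of `h` that is not fixed by `g` is the only one in its `⟨g⟩`-orbit, so
there are at most `n / 13` of them, and `f ≤ 1 + n / 13`: this contradicts `27 ∣ n - f` for
`n = 40, 65`.  For `n = 27` we get `f = 0`, but `g` has exactly one fixed point (13 does not divide
27), and it is fixed by `h`.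
-/

set_option autoImplicit false

namespace Cfsg.Agent.Lib.Helper41_Ti2Abs

open MulAction

section Fix

variable {T : Type*} [Group T] (Ω : Type*) [Fintype Ω] [MulAction T Ω]

open Classical in
/-- the number of fixed points -/
noncomputable def fx (x : T) : ℕ := (Finset.univ.filter fun ω : Ω => x • ω = ω).card

theorem fx_conj (x y : T) : fx Ω (y * x * y⁻¹) = fx Ω x := by
  classical
  unfold fx
  symm
  apply Finset.card_bij (fun ω _ => y • ω)
  · intro ω hω
    simp only [Finset.mem_filter, Finset.mem_univ, true_and] at hω ⊢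
    rw [mul_smul, mul_smul, inv_smul_smul, hω]
  · intro a _ b _ hab
    exact smul_left_cancel y hab
  · intro ω hω
    simp only [Finset.mem_filter, Finset.mem_univ, true_and] at hω
    refine ⟨y⁻¹ • ω, ?_, smul_inv_smul y ω⟩
    simp only [Finset.mem_filter, Finset.mem_univ, true_and]
    rw [mul_smul, mul_smul] at hω
    apply smul_left_cancel y
    rw [hω, smul_inv_smul]

theorem fx_eq_card (x : T) [Fintype (fixedBy Ω x)] : Fintype.card (fixedBy Ω x) = fx Ω x := by
  classical
  unfold fx
  apply Fintype.card_of_subtype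
  intro ω
  simp [mem_fixedBy]

theorem fx_le (x : T) : fx Ω x ≤ Fintype.card Ω := by
  classical
  unfold fx
  exact Finset.card_le_univ _

theorem fx_one : fx Ω (1 : T) = Fintype.card Ω := by
  classical
  unfold fx
  simp

theorem fx_lt [FaithfulSMul T Ω] {x : T} (hx : x ≠ 1) : fx Ω x < Fintype.card Ω := by
  classical
  apply lt_of_le_of_ne (fx_le Ω x)
  intro h
  apply hx
  apply FaithfulSMul.eq_of_smul_eq_smul (α := Ω)
  intro ω
  rw [one_smul]
  unfold fx at h
  have h2 := (Finset.card_eq_iff_eq_univ _).mp h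
  have h3 : ω ∈ Finset.univ.filter fun ω : Ω => x • ω = ω := by rw [h2]; exact Finset.mem_univ ω
  simpa using h3

end Fix

section Burnside

variable {T : Type*} [Group T] [Finite T] (Ω : Type*) [Fintype Ω] [MulAction T Ω]

/-- Burnside's count for a subgroup of order 27 all of whose non-identity elements are conjugate to
`h`. -/
theorem dvd_of_conj (h : T) (R : Subgroup T) (hR : Nat.card R = 27)
    (hconj : ∀ r ∈ R, r ≠ 1 → ∃ x : T, x * h * x⁻¹ = r) :
    27 ∣ Fintype.card Ω + 26 * fx Ω h := by
  classical
  let _ : Fintype R := Fintype.ofFinite R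
  let _ : Fintype (Quotient (orbitRel R Ω)) := Fintype.ofFinite _
  have hB := sum_card_fixedBy_eq_card_orbits_mul_card_group R Ω
  have hc : Fintype.card R = 27 := by rw [← Nat.card_eq_fintype_card]; exact hR
  rw [hc] at hB
  have h1 : ∀ r : R, Fintype.card (fixedBy Ω r) = if r = 1 then Fintype.card Ω else fx Ω h := by
    intro r
    have h2 : Fintype.card (fixedBy Ω r) = fx Ω (r : T) := by
      unfold fx
      apply Fintype.card_of_subtype
      intro ω
      simp [mem_fixedBy, Subgroup.smul_def]
    rw [h2]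
    split_ifs with hr
    · rw [hr]
      exact fx_one Ω
    · obtain ⟨x, hx⟩ := hconj r r.2 (fun h0 => hr (Subtype.ext h0))
      rw [← hx, fx_conj]
  rw [Finset.sum_congr rfl (fun r _ => h1 r)] at hB
  rw [Finset.sum_ite, Finset.sum_const, Finset.sum_const] at hB
  have h3 : (Finset.univ.filter fun r : R => r = 1).card = 1 := by
    rw [Finset.filter_eq' Finset.univ (1 : R)]
    simp
  have h4 : (Finset.univ.filter fun r : R => ¬ r = 1).card = 26 := by
    have := Finset.card_filter_add_card_filter_not (s := (Finset.univ : Finset R))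
      (fun r : R => r = 1)
    rw [h3, Finset.card_univ, hc] at this
    omega
  rw [h3, h4] at hB
  simp only [smul_eq_mul, one_mul] at hB
  rw [hB]
  exact Dvd.intro_left _ rfl

end Burnside


section Main

variable {T : Type*} [Group T] {Ω : Type*} [Fintype Ω] [MulAction T Ω]

/-- the order of a two-point stabiliser in a doubly transitive action -/
theorem card_stab_pair (h2 : IsMultiplyPretransitive T Ω 2) (e : Fin 2 ↪ Ω) :
    Fintype.card Ω * (Fintype.card Ω - 1) * Nat.card (stabilizer T e) = Nat.card T := by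
  have : IsPretransitive T (Fin 2 ↪ Ω) := h2
  have h1 := index_stabilizer_of_transitive T e
  have h3 := Subgroup.index_mul_card (stabilizer T e)
  rw [h1, Nat.card_eq_fintype_card, Fintype.card_embedding_eq, Fintype.card_fin] at h3
  have h4 : (Fintype.card Ω).descFactorial 2 = Fintype.card Ω * (Fintype.card Ω - 1) := by
    rw [Nat.descFactorial_succ, Nat.descFactorial_one]
    ring
  rw [h4] at h3
  exact h3

/-- an element of order 13 fixing two points has order dividing the order of the two-point
stabiliser -/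
theorem dvd_of_fix_two (h2 : IsMultiplyPretransitive T Ω 2) {g : T} {p : ℕ} (hp : orderOf g = p)
    {ω₁ ω₂ : Ω} (hne : ω₁ ≠ ω₂) (h₁ : g • ω₁ = ω₁) (h₂ : g • ω₂ = ω₂) :
    Fintype.card Ω * (Fintype.card Ω - 1) * p ∣ Nat.card T := by
  let e : Fin 2 ↪ Ω := ⟨![ω₁, ω₂], by
    intro i j hij
    fin_cases i <;> fin_cases j <;> simp_all⟩
  have hg : g ∈ stabilizer T e := by
    rw [mem_stabilizer_iff]
    ext i
    rw [Function.Embedding.smul_apply]
    fin_cases i
    · exact h₁
    · exact h₂
  have h3 := Subgroup.orderOf_dvd_natCard _ hg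
  rw [hp] at h3
  rw [← card_stab_pair h2 e]
  exact Nat.mul_dvd_mul_left _ h3

variable (g h : T) (hg : g ^ 13 = 1) (hgh : h * g * h⁻¹ = g ^ 3)

include hgh in
theorem conj_pow_eq (m : ℕ) : h * g ^ m = (g ^ m) ^ 3 * h := by
  have h1 : h * g ^ m * h⁻¹ = (g ^ m) ^ 3 := by
    rw [← conj_pow, hgh, ← pow_mul, ← pow_mul, mul_comm]
  rw [← h1]
  group

omit [Fintype Ω] in
include hg in
theorem period_eq {ω : Ω} (hω : g • ω ≠ ω) : period g ω = 13 := by
  have h1 : period g ω ∣ 13 := by
    rw [← pow_smul_eq_iff_period_dvd, hg, one_smul]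
  rcases (Nat.dvd_prime (by norm_num : Nat.Prime 13)).mp h1 with h2 | h2
  · exact absurd (period_eq_one_iff.mp h2) hω
  · exact h2

include hg hgh in
/-- the fixed points of `h` that are not fixed by `g` lie in different `⟨g⟩`-orbits -/
theorem thirteen_mul_le : 13 * fx Ω h ≤ 13 * fx Ω g + Fintype.card Ω := by
  classical
  unfold fx
  set A := Finset.univ.filter fun ω : Ω => h • ω = ω ∧ g • ω = ω with hA
  set B := Finset.univ.filter fun ω : Ω => h • ω = ω ∧ g • ω ≠ ω with hB
  have h1 : (Finset.univ.filter fun ω : Ω => h • ω = ω).card = A.card + B.card := by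
    rw [hA, hB, ← Finset.card_union_of_disjoint]
    · congr 1
      ext ω
      simp only [Finset.mem_filter, Finset.mem_univ, true_and, Finset.mem_union]
      tauto
    · rw [Finset.disjoint_filter]
      intro ω _ h1 h2
      exact h2.2 h1.2
  have h2 : A.card ≤ (Finset.univ.filter fun ω : Ω => g • ω = ω).card := by
    apply Finset.card_le_card
    intro ω hω
    simp only [hA, Finset.mem_filter, Finset.mem_univ, true_and] at hω ⊢
    exact hω.2
  have h3 : B.card * 13 ≤ Fintype.card Ω := by
    rw [← Finset.card_range 13, ← Finset.card_product, ← Finset.card_univ]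
    apply Finset.card_le_card_of_injOn (fun q : Ω × ℕ => g ^ q.2 • q.1)
    · intro q _
      exact Finset.mem_univ _
    · rintro ⟨ω, i⟩ hq ⟨ω', j⟩ hq' heq
      simp only [Finset.coe_product, Set.mem_prod, Finset.mem_coe, Finset.mem_range, hB,
        Finset.mem_filter, Finset.mem_univ, true_and] at hq hq'
      simp only at heq
      obtain ⟨⟨hω1, hω2⟩, hi⟩ := hq
      obtain ⟨⟨hω1', hω2'⟩, hj⟩ := hq'
      have hP := period_eq g hg hω2
      -- ω' = g ^ m • ω
      have h4 : ω' = g ^ (13 - j + i) • ω := by
        rw [pow_add, mul_smul, heq, ← mul_smul, ← pow_add, Nat.sub_add_cancel hj.le, hg, one_smul]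
      set m := 13 - j + i with hm
      have h5 : (g ^ m) ^ 3 • ω = g ^ m • ω := by
        have h6 : h • g ^ m • ω = g ^ m • ω := by rw [← h4]; exact hω1'
        rw [← mul_smul, conj_pow_eq g h hgh m, mul_smul, hω1] at h6
        exact h6
      have h7 : g ^ (2 * m) • ω = ω := by
        have h8 : (g ^ m) ^ 3 = g ^ m * g ^ (2 * m) := by
          rw [← pow_mul, ← pow_add]; congr 1; ring
        rw [h8, mul_smul] at h5
        exact smul_left_cancel _ h5
      rw [pow_smul_eq_iff_period_dvd, hP] at h7
      have h9 : 13 ∣ m := by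
        have := (Nat.Prime.dvd_mul (by norm_num : Nat.Prime 13)).mp h7
        rcases this with h | h
        · norm_num at h
        · exact h
      have h10 : g ^ m • ω = ω := by rw [pow_smul_eq_iff_period_dvd, hP]; exact h9
      have h11 : ω' = ω := by rw [h4, h10]
      subst h11
      -- now i = j
      have h12 : 13 ∣ 13 - j + i := h9
      have h13 : i = j := by omega
      rw [h13]
  omega

/-- the arithmetic check, as a Boolean -/
def arithChk (lo len : ℕ) : Bool :=
  (List.range' lo len).all fun n =>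
    !(Nat.beq (17971200 % (n * (n - 1))) 0) || Nat.beq n 27 || Nat.beq n 40 || Nat.beq n 65

theorem arithChk_1 : arithChk 27 1000 = true := by decide +kernel
theorem arithChk_2 : arithChk 1027 1000 = true := by decide +kernel
theorem arithChk_3 : arithChk 2027 1000 = true := by decide +kernel
theorem arithChk_4 : arithChk 3027 1000 = true := by decide +kernel
theorem arithChk_5 : arithChk 4027 214 = true := by decide +kernel

theorem arithChk_sound {lo len : ℕ} (h : arithChk lo len = true) {n : ℕ} (h1 : lo ≤ n)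
    (h2 : n < lo + len) (hd : n * (n - 1) ∣ 17971200) : n = 27 ∨ n = 40 ∨ n = 65 := by
  rw [arithChk, List.all_eq_true] at h
  have h3 := h n (by rw [List.mem_range'_1]; exact ⟨h1, h2⟩)
  simp only [Bool.or_eq_true, Bool.not_eq_true'] at h3
  rcases h3 with ((h3 | h3) | h3) | h3
  · exfalso
    have h4 : 17971200 % (n * (n - 1)) = 0 := Nat.mod_eq_zero_of_dvd hd
    rw [h4] at h3
    exact Bool.noConfusion h3
  · exact Or.inl (Nat.eq_of_beq_eq_true h3)
  · exact Or.inr (Or.inl (Nat.eq_of_beq_eq_true h3))
  · exact Or.inr (Or.inr (Nat.eq_of_beq_eq_true h3))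

theorem arith_aux : ∀ n < 4241, 27 ≤ n → n * (n - 1) ∣ 17971200 → n = 27 ∨ n = 40 ∨ n = 65 := by
  intro n hn h27 hd
  by_cases h1 : n < 1027
  · exact arithChk_sound arithChk_1 h27 (by omega) hd
  by_cases h2 : n < 2027
  · exact arithChk_sound arithChk_2 (by omega) (by omega) hd
  by_cases h3 : n < 3027
  · exact arithChk_sound arithChk_3 (by omega) (by omega) hd
  by_cases h4 : n < 4027
  · exact arithChk_sound arithChk_4 (by omega) (by omega) hd
  · exact arithChk_sound arithChk_5 (by omega) (by omega) hd

theorem arith (n : ℕ) (h27 : 27 ≤ n) (hd : n * (n - 1) ∣ 17971200) : n = 27 ∨ n = 40 ∨ n = 65 := by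
  apply arith_aux n _ h27 hd
  by_contra hn
  have h1 : n * (n - 1) ≤ 17971200 := Nat.le_of_dvd (by norm_num) hd
  have h2 : 4241 * 4240 ≤ n * (n - 1) := Nat.mul_le_mul (by omega) (by omega)
  omega

omit [Fintype Ω] in
include hg hgh in
/-- the fixed point of `g`, if there is at most one, is fixed by `h` -/
theorem fixed_of_fixed (hg1 : ∀ ω₁ ω₂ : Ω, g • ω₁ = ω₁ → g • ω₂ = ω₂ → ω₁ = ω₂) {ω : Ω}
    (hω : g • ω = ω) : h • ω = ω := by
  apply hg1 _ _ _ hω
  have h1 : g ^ 3 • h • ω = h • ω := by
    have := conj_pow_eq g h hgh 1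
    rw [pow_one] at this
    rw [← mul_smul, ← this, mul_smul, hω]
  have h2 : g ^ 3 ∈ stabilizer T (h • ω) := h1
  have h3 : (g ^ 3) ^ 9 ∈ stabilizer T (h • ω) := Subgroup.pow_mem _ h2 9
  have h4 : (g ^ 3) ^ 9 = g := by
    rw [← pow_mul]
    calc g ^ (3 * 9) = (g ^ 13) ^ 2 * g := by rw [← pow_mul, ← pow_succ]
      _ = g := by rw [hg, one_pow, one_mul]
  rw [h4] at h3
  exact h3

variable [Finite T]

include hg hgh in
/-- **The main theorem.** -/
theorem no_two_trans (hcard : Nat.card T = 17971200) (hg1 : g ≠ 1)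
    (R : Subgroup T) (hR : Nat.card R = 27)
    (hconj : ∀ r ∈ R, r ≠ 1 → ∃ x : T, x * h * x⁻¹ = r)
    [FaithfulSMul T Ω] (hΩ : 3 ≤ Fintype.card Ω) :
    ¬ IsMultiplyPretransitive T Ω 2 := by
  classical
  intro h2
  have hh1 : h ≠ 1 := by
    rintro rfl
    apply hg1
    rw [one_mul, inv_one, mul_one] at hgh
    have h1 : g ^ 2 = 1 := by
      have : g * g ^ 2 = g * 1 := by rw [← pow_succ', mul_one]; exact hgh.symm
      exact mul_left_cancel this
    calc g = (g ^ 2) ^ 7 * (g ^ 13)⁻¹ := by
          rw [← pow_mul, hg, inv_one, mul_one]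
          have : g ^ (2 * 7) = g ^ 13 * g := by rw [← pow_succ]
          rw [this, hg, one_mul]
      _ = 1 := by rw [h1, hg, one_pow, inv_one, mul_one]
  have hf := dvd_of_conj Ω h R hR hconj
  have hlt := fx_lt Ω hh1
  have hle := thirteen_mul_le (Ω := Ω) g h hg hgh
  obtain ⟨k, hk⟩ := hf
  have hne : Nonempty (Fin 2 ↪ Ω) := by
    apply Function.Embedding.nonempty_of_card_le
    rw [Fintype.card_fin]
    omega
  obtain ⟨e⟩ := hne
  have hs := card_stab_pair h2 e
  rw [hcard] at hs
  have hd : Fintype.card Ω * (Fintype.card Ω - 1) ∣ 17971200 := Dvd.intro _ hs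
  have : Fact (Nat.Prime 13) := ⟨by norm_num⟩
  have hord : orderOf g = 13 := orderOf_eq_prime hg hg1
  have key : ∀ n : ℕ, Fintype.card Ω = n → ¬ n * (n - 1) * 13 ∣ 17971200 →
      fx Ω g ≤ 1 ∧ ∀ ω : Ω, g • ω = ω → h • ω = ω := by
    intro n hn hnd
    have h1 : ∀ ω₁ ω₂ : Ω, g • ω₁ = ω₁ → g • ω₂ = ω₂ → ω₁ = ω₂ := by
      intro ω₁ ω₂ h₁ h₂
      by_contra hne
      have := dvd_of_fix_two h2 hord hne h₁ h₂
      rw [hcard, hn] at this
      exact hnd this
    refine ⟨?_, fun ω hω => fixed_of_fixed g h hg hgh h1 hω⟩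
    unfold fx
    rw [Finset.card_le_one]
    intro a ha b hb
    simp only [Finset.mem_filter, Finset.mem_univ, true_and] at ha hb
    exact h1 a b ha hb
  rcases arith (Fintype.card Ω) (by omega) hd with hn | hn | hn
  · -- n = 27
    obtain ⟨hfg, hfix⟩ := key 27 hn (by norm_num)
    have hf0 : fx Ω h = 0 := by omega
    -- `g` has a fixed point
    have hP : IsPGroup 13 (Subgroup.zpowers g) := by
      apply IsPGroup.of_card (n := 1)
      rw [Nat.card_zpowers, hord, pow_one]
    have hne := hP.nonempty_fixed_point_of_prime_not_dvd_card Ω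
      (by rw [Nat.card_eq_fintype_card, hn]; norm_num)
    obtain ⟨ω, hω⟩ := hne
    have hgω : g • ω = ω := hω ⟨g, Subgroup.mem_zpowers g⟩
    have hhω := hfix ω hgω
    have : 0 < fx Ω h := by
      unfold fx
      rw [Finset.card_pos]
      exact ⟨ω, by simp [hhω]⟩
    omega
  · obtain ⟨hfg, _⟩ := key 40 hn (by norm_num)
    omega
  · obtain ⟨hfg, _⟩ := key 65 hn (by norm_num)
    omega

end Main

end Cfsg.Agent.Lib.Helper41_Ti2Abs
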