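import Mathlib
import Cfsg.Agent.Lib.Helper41_TiTab
import Cfsg.Agent.Lib.Helper41_TiLin

/-!
# The Tits group on 1755 points: a Sylow 3-subgroup, its fusion, and a Frobenius group `13:3`
(helper41; data and kernel checks)

Elements of the Tits group `T = K 3` are written as products of words of the levels `3, 4, 5`
(`evE`, `evQ`).  `evE i`, `i < 27`, are the elements of a subgroup `R` of order 27 generated by
`evE 1` and `evE 2` (`mA`, `mB`: right multiplication by these); `evQ i` conjugates `evE 26` to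
`evE i`; and `evE 26` conjugates the element `apL 3 1` of order 13 to its cube.
-/

set_option autoImplicit false
set_option Elab.async false

namespace Cfsg.Agent.Lib.Helper41_Ti2Data

open Cfsg.Agent.Lib.Helper41_TiTab Cfsg.Agent.Lib.Helper41_TiLin

/-- the level 3 word of the `i`-th element of `R` -/
def e3 : ℕ → ℕ
  | 0 => 0
  | 1 => 37449
  | 2 => 144531
  | 3 => 137498
  | 4 => 337690
  | 5 => 107596
  | 6 => 341650
  | 7 => 1818
  | 8 => 636129
  | 9 => 49811
  | 10 => 341732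
  | 11 => 149603
  | 12 => 136268
  | 13 => 51420
  | 14 => 136292
  | 15 => 116817
  | 16 => 313115
  | 17 => 342090
  | 18 => 804
  | 19 => 931617
  | 20 => 14618
  | 21 => 1251
  | 22 => 137426
  | 23 => 50899
  | 24 => 291
  | 25 => 51483
  | 26 => 42130
  | _ => 0

/-- the level 4 word of the `i`-th element of `R` -/
def e4 : ℕ → ℕ
  | 0 => 0
  | 1 => 2431057
  | 2 => 37450
  | 3 => 49801
  | 4 => 398435
  | 5 => 19216595
  | 6 => 311889
  | 7 => 14409
  | 8 => 13467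
  | 9 => 156
  | 10 => 37641
  | 11 => 668
  | 12 => 6894665
  | 13 => 2431201
  | 14 => 49929
  | 15 => 2131
  | 16 => 107745
  | 17 => 636634
  | 18 => 1243
  | 19 => 9883
  | 20 => 631443
  | 21 => 301138
  | 22 => 858193
  | 23 => 79003
  | 24 => 333019
  | 25 => 79498
  | 26 => 79579
  | _ => 0

/-- the level 5 word of the `i`-th element of `R` -/
def e5 : ℕ → ℕ
  | 0 => 0
  | 1 => 1105
  | 2 => 2
  | 3 => 2
  | 4 => 5201
  | 5 => 2
  | 6 => 5201
  | 7 => 650
  | 8 => 10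
  | 9 => 650
  | 10 => 0
  | 11 => 5201
  | 12 => 2
  | 13 => 5201
  | 14 => 0
  | 15 => 2
  | 16 => 1
  | 17 => 138
  | 18 => 650
  | 19 => 0
  | 20 => 5201
  | 21 => 2
  | 22 => 1
  | 23 => 0
  | 24 => 650
  | 25 => 2
  | 26 => 10
  | _ => 0

/-- the level 3 word of the `i`-th conjugating element -/
def q3 : ℕ → ℕ
  | 0 => 0
  | 1 => 865507
  | 2 => 585
  | 3 => 10
  | 4 => 0
  | 5 => 4681
  | 6 => 49738
  | 7 => 218
  | 8 => 1
  | 9 => 299594
  | 10 => 17034
  | 11 => 81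
  | 12 => 4681
  | 13 => 9
  | 14 => 585
  | 15 => 14043
  | 16 => 9
  | 17 => 9
  | 18 => 135834
  | 19 => 138
  | 20 => 37449
  | 21 => 1
  | 22 => 4681
  | 23 => 18
  | 24 => 10
  | 25 => 74
  | 26 => 0
  | _ => 0

/-- the level 4 word of the `i`-th conjugating element -/
def q4 : ℕ → ℕ
  | 0 => 0
  | 1 => 70281
  | 2 => 4891
  | 3 => 2733779
  | 4 => 49948
  | 5 => 79066
  | 6 => 563297
  | 7 => 14555
  | 8 => 8801
  | 9 => 115356
  | 10 => 107081
  | 11 => 1162
  | 12 => 303698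
  | 13 => 2410250
  | 14 => 2495706
  | 15 => 1692
  | 16 => 336524
  | 17 => 8778
  | 18 => 922761
  | 19 => 9947
  | 20 => 70426
  | 21 => 4769505
  | 22 => 304777
  | 23 => 563418
  | 24 => 79505
  | 25 => 311881
  | 26 => 0
  | _ => 0

/-- the level 5 word of the `i`-th conjugating element -/
def q5 : ℕ → ℕ
  | 0 => 0
  | 1 => 81
  | 2 => 1
  | 3 => 10
  | 4 => 650
  | 5 => 1
  | 6 => 0
  | 7 => 0
  | 8 => 81
  | 9 => 650
  | 10 => 10
  | 11 => 138
  | 12 => 17
  | 13 => 2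
  | 14 => 81
  | 15 => 5201
  | 16 => 81
  | 17 => 17
  | 18 => 650
  | 19 => 1105
  | 20 => 1
  | 21 => 1105
  | 22 => 17
  | 23 => 10
  | 24 => 81
  | 25 => 10
  | 26 => 0
  | _ => 0

/-- right multiplication by the first generator -/
def mA : ℕ → ℕ
  | 0 => 1
  | 1 => 3
  | 2 => 5
  | 3 => 0
  | 4 => 8
  | 5 => 10
  | 6 => 12
  | 7 => 13
  | 8 => 15
  | 9 => 17
  | 10 => 2
  | 11 => 14
  | 12 => 16
  | 13 => 20
  | 14 => 22
  | 15 => 4
  | 16 => 6
  | 17 => 21
  | 18 => 23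
  | 19 => 24
  | 20 => 7
  | 21 => 9
  | 22 => 11
  | 23 => 25
  | 24 => 26
  | 25 => 18
  | 26 => 19
  | _ => 0

/-- right multiplication by the second generator -/
def mB : ℕ → ℕ
  | 0 => 2
  | 1 => 4
  | 2 => 6
  | 3 => 7
  | 4 => 9
  | 5 => 11
  | 6 => 0
  | 7 => 14
  | 8 => 16
  | 9 => 1
  | 10 => 17
  | 11 => 18
  | 12 => 19
  | 13 => 21
  | 14 => 3
  | 15 => 22
  | 16 => 23
  | 17 => 24
  | 18 => 5
  | 19 => 20
  | 20 => 12
  | 21 => 25
  | 22 => 26
  | 23 => 8
  | 24 => 10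
  | 25 => 13
  | 26 => 15
  | _ => 0

/-- the parent in the spanning tree -/
def pj : ℕ → ℕ
  | 0 => 0
  | 1 => 0
  | 2 => 0
  | 3 => 1
  | 4 => 1
  | 5 => 2
  | 6 => 2
  | 7 => 3
  | 8 => 4
  | 9 => 4
  | 10 => 5
  | 11 => 5
  | 12 => 6
  | 13 => 7
  | 14 => 7
  | 15 => 8
  | 16 => 8
  | 17 => 9
  | 18 => 11
  | 19 => 12
  | 20 => 13
  | 21 => 13
  | 22 => 14
  | 23 => 16
  | 24 => 17
  | 25 => 21
  | 26 => 22
  | _ => 0

/-- the generator leading from the parent -/
def ps : ℕ → ℕ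
  | 0 => 0
  | 1 => 1
  | 2 => 2
  | 3 => 1
  | 4 => 2
  | 5 => 1
  | 6 => 2
  | 7 => 2
  | 8 => 1
  | 9 => 2
  | 10 => 1
  | 11 => 2
  | 12 => 1
  | 13 => 1
  | 14 => 2
  | 15 => 1
  | 16 => 2
  | 17 => 1
  | 18 => 2
  | 19 => 2
  | 20 => 1
  | 21 => 2
  | 22 => 1
  | 23 => 2
  | 24 => 2
  | 25 => 2
  | 26 => 2
  | _ => 0

/-- the `i`-th element of `R` -/
def evE (i x : ℕ) : ℕ := ev9 3 (e3 i) (ev9 4 (e4 i) (ev9 5 (e5 i) x))

/-- the `i`-th conjugating element -/
def evQ (i x : ℕ) : ℕ := ev9 3 (q3 i) (ev9 4 (q4 i) (ev9 5 (q5 i) x))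

theorem okChk : (allLt 27 fun i => ok9 (e3 i) && ok9 (e4 i) && ok9 (e5 i) && ok9 (q3 i) &&
    ok9 (q4 i) && ok9 (q5 i)) = true := by decide +kernel

/-- two maps agree on the 52 frame points -/
def agree (ρ σ : ℕ → ℕ) : Bool := allLt 52 fun j => withNat (fpt j) fun p => Nat.beq (ρ p) (σ p)

theorem oneChk : agree (evE 0) (fun x => x) = true := by decide +kernel

/-- the multiplication table, for `lo ≤ i < hi` -/
def mulChk (lo hi : ℕ) : Bool := allIn lo hi fun i =>
  agree (fun x => evE i (evE 1 x)) (evE (mA i)) && agree (fun x => evE i (evE 2 x)) (evE (mB i))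

theorem mulChk_1 : mulChk 0 9 = true := by decide +kernel
theorem mulChk_2 : mulChk 9 18 = true := by decide +kernel
theorem mulChk_3 : mulChk 18 27 = true := by decide +kernel

theorem tblChk : (allLt 27 fun i => Nat.blt (mA i) 27 && Nat.blt (mB i) 27) = true := by
  decide +kernel

theorem parChk : (allLt 27 fun i => Nat.beq i 0 || (Nat.blt (pj i) i &&
    ((Nat.beq (ps i) 1 && Nat.beq (mA (pj i)) i) || (Nat.beq (ps i) 2 && Nat.beq (mB (pj i)) i)))) =
    true := by decide +kernel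

theorem injChk : (allLt 27 fun i => allLt 27 fun j =>
    Nat.beq i j || !Nat.beq (evE i 0) (evE j 0)) = true := by decide +kernel

/-- the conjugating elements, for `lo ≤ i < hi` -/
def cjChk (lo hi : ℕ) : Bool := allIn lo hi fun i =>
  agree (fun x => evQ i (evE 26 x)) (fun x => evE i (evQ i x))

theorem cjChk_1 : cjChk 1 10 = true := by decide +kernel
theorem cjChk_2 : cjChk 10 19 = true := by decide +kernel
theorem cjChk_3 : cjChk 19 27 = true := by decide +kernel

theorem hChk : agree (fun x => evE 26 (apL 3 1 x))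
    (fun x => apL 3 1 (apL 3 1 (apL 3 1 (evE 26 x)))) = true := by decide +kernel

theorem gChk : Nat.beq (apL 3 1 0) 0 = false := by decide +kernel

end Cfsg.Agent.Lib.Helper41_Ti2Data
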