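import Mathlib
import Cfsg.Agent.Lib.Helper41_TiTab
import Cfsg.Agent.Lib.Helper41_TiTr
import Cfsg.Agent.Lib.Helper41_TiLin
import Cfsg.Agent.Lib.Helper41_TiSiftDef

/-!
# `²F₄(2)` on 1755 points: sifting of Schreier generators, level 0 (helper41)
-/

set_option autoImplicit false
set_option Elab.async false

namespace Cfsg.Agent.Lib.Helper41_TiSiftA

open Cfsg.Agent.Lib.Helper41_TiTab Cfsg.Agent.Lib.Helper41_TiTr Cfsg.Agent.Lib.Helper41_TiLin
  Cfsg.Agent.Lib.Helper41_TiSiftDef

theorem sift0_0 : siftCheck 0 0 119 = true := by decide +kernel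
theorem sift0_1 : siftCheck 0 119 200 = true := by decide +kernel
theorem sift0_2 : siftCheck 0 200 278 = true := by decide +kernel
theorem sift0_3 : siftCheck 0 278 332 = true := by decide +kernel
theorem sift0_4 : siftCheck 0 332 405 = true := by decide +kernel
theorem sift0_5 : siftCheck 0 405 477 = true := by decide +kernel
theorem sift0_6 : siftCheck 0 477 533 = true := by decide +kernel
theorem sift0_7 : siftCheck 0 533 592 = true := by decide +kernel
theorem sift0_8 : siftCheck 0 592 650 = true := by decide +kernel
theorem sift0_9 : siftCheck 0 650 703 = true := by decide +kernel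
theorem sift0_10 : siftCheck 0 703 762 = true := by decide +kernel
theorem sift0_11 : siftCheck 0 762 826 = true := by decide +kernel
theorem sift0_12 : siftCheck 0 826 880 = true := by decide +kernel
theorem sift0_13 : siftCheck 0 880 943 = true := by decide +kernel
theorem sift0_14 : siftCheck 0 943 1003 = true := by decide +kernel
theorem sift0_15 : siftCheck 0 1003 1057 = true := by decide +kernel
theorem sift0_16 : siftCheck 0 1057 1104 = true := by decide +kernel
theorem sift0_17 : siftCheck 0 1104 1161 = true := by decide +kernel
theorem sift0_18 : siftCheck 0 1161 1218 = true := by decide +kernel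
theorem sift0_19 : siftCheck 0 1218 1272 = true := by decide +kernel
theorem sift0_20 : siftCheck 0 1272 1321 = true := by decide +kernel
theorem sift0_21 : siftCheck 0 1321 1373 = true := by decide +kernel
theorem sift0_22 : siftCheck 0 1373 1430 = true := by decide +kernel
theorem sift0_23 : siftCheck 0 1430 1484 = true := by decide +kernel
theorem sift0_24 : siftCheck 0 1484 1539 = true := by decide +kernel
theorem sift0_25 : siftCheck 0 1539 1584 = true := by decide +kernel
theorem sift0_26 : siftCheck 0 1584 1640 = true := by decide +kernel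
theorem sift0_27 : siftCheck 0 1640 1691 = true := by decide +kernel
theorem sift0_28 : siftCheck 0 1691 1741 = true := by decide +kernel
theorem sift0_29 : siftCheck 0 1741 1755 = true := by decide +kernel

theorem sift0_all : ∀ v < 1755, 0 ≤ v → inOrb 0 v = true →
    schCheck 0 1 v = true ∧ schCheck 0 2 v = true := by
  intro v hv hlo ho
  by_cases h0 : v < 119
  · exact siftCheck_sound sift0_0 (by omega) h0 ho
  by_cases h1 : v < 200
  · exact siftCheck_sound sift0_1 (by omega) h1 ho
  by_cases h2 : v < 278
  · exact siftCheck_sound sift0_2 (by omega) h2 ho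
  by_cases h3 : v < 332
  · exact siftCheck_sound sift0_3 (by omega) h3 ho
  by_cases h4 : v < 405
  · exact siftCheck_sound sift0_4 (by omega) h4 ho
  by_cases h5 : v < 477
  · exact siftCheck_sound sift0_5 (by omega) h5 ho
  by_cases h6 : v < 533
  · exact siftCheck_sound sift0_6 (by omega) h6 ho
  by_cases h7 : v < 592
  · exact siftCheck_sound sift0_7 (by omega) h7 ho
  by_cases h8 : v < 650
  · exact siftCheck_sound sift0_8 (by omega) h8 ho
  by_cases h9 : v < 703
  · exact siftCheck_sound sift0_9 (by omega) h9 ho
  by_cases h10 : v < 762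
  · exact siftCheck_sound sift0_10 (by omega) h10 ho
  by_cases h11 : v < 826
  · exact siftCheck_sound sift0_11 (by omega) h11 ho
  by_cases h12 : v < 880
  · exact siftCheck_sound sift0_12 (by omega) h12 ho
  by_cases h13 : v < 943
  · exact siftCheck_sound sift0_13 (by omega) h13 ho
  by_cases h14 : v < 1003
  · exact siftCheck_sound sift0_14 (by omega) h14 ho
  by_cases h15 : v < 1057
  · exact siftCheck_sound sift0_15 (by omega) h15 ho
  by_cases h16 : v < 1104
  · exact siftCheck_sound sift0_16 (by omega) h16 ho
  by_cases h17 : v < 1161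
  · exact siftCheck_sound sift0_17 (by omega) h17 ho
  by_cases h18 : v < 1218
  · exact siftCheck_sound sift0_18 (by omega) h18 ho
  by_cases h19 : v < 1272
  · exact siftCheck_sound sift0_19 (by omega) h19 ho
  by_cases h20 : v < 1321
  · exact siftCheck_sound sift0_20 (by omega) h20 ho
  by_cases h21 : v < 1373
  · exact siftCheck_sound sift0_21 (by omega) h21 ho
  by_cases h22 : v < 1430
  · exact siftCheck_sound sift0_22 (by omega) h22 ho
  by_cases h23 : v < 1484
  · exact siftCheck_sound sift0_23 (by omega) h23 ho
  by_cases h24 : v < 1539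
  · exact siftCheck_sound sift0_24 (by omega) h24 ho
  by_cases h25 : v < 1584
  · exact siftCheck_sound sift0_25 (by omega) h25 ho
  by_cases h26 : v < 1640
  · exact siftCheck_sound sift0_26 (by omega) h26 ho
  by_cases h27 : v < 1691
  · exact siftCheck_sound sift0_27 (by omega) h27 ho
  by_cases h28 : v < 1741
  · exact siftCheck_sound sift0_28 (by omega) h28 ho
  exact siftCheck_sound sift0_29 (by omega) hv ho

end Cfsg.Agent.Lib.Helper41_TiSiftA
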