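import Mathlib
import Cfsg.Agent.Lib.Helper41_TiTab
import Cfsg.Agent.Lib.Helper41_TiTr
import Cfsg.Agent.Lib.Helper41_TiLin
import Cfsg.Agent.Lib.Helper41_TiSiftDef

/-!
# `²F₄(2)` on 1755 points: sifting of Schreier generators, levels 1, 2 (helper41)
-/

set_option autoImplicit false
set_option Elab.async false

namespace Cfsg.Agent.Lib.Helper41_TiSiftB

open Cfsg.Agent.Lib.Helper41_TiTab Cfsg.Agent.Lib.Helper41_TiTr Cfsg.Agent.Lib.Helper41_TiLin
  Cfsg.Agent.Lib.Helper41_TiSiftDef

theorem sift1_0 : siftCheck 1 0 541 = true := by decide +kernel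
theorem sift1_1 : siftCheck 1 541 652 = true := by decide +kernel
theorem sift1_2 : siftCheck 1 652 739 = true := by decide +kernel
theorem sift1_3 : siftCheck 1 739 834 = true := by decide +kernel
theorem sift1_4 : siftCheck 1 834 956 = true := by decide +kernel
theorem sift1_5 : siftCheck 1 956 1031 = true := by decide +kernel
theorem sift1_6 : siftCheck 1 1031 1094 = true := by decide +kernel
theorem sift1_7 : siftCheck 1 1094 1160 = true := by decide +kernel
theorem sift1_8 : siftCheck 1 1160 1228 = true := by decide +kernel
theorem sift1_9 : siftCheck 1 1228 1290 = true := by decide +kernel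
theorem sift1_10 : siftCheck 1 1290 1352 = true := by decide +kernel
theorem sift1_11 : siftCheck 1 1352 1420 = true := by decide +kernel
theorem sift1_12 : siftCheck 1 1420 1479 = true := by decide +kernel
theorem sift1_13 : siftCheck 1 1479 1554 = true := by decide +kernel
theorem sift1_14 : siftCheck 1 1554 1617 = true := by decide +kernel
theorem sift1_15 : siftCheck 1 1617 1678 = true := by decide +kernel
theorem sift1_16 : siftCheck 1 1678 1743 = true := by decide +kernel
theorem sift1_17 : siftCheck 1 1743 1755 = true := by decide +kernel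

theorem sift1_all : ∀ v < 1755, 0 ≤ v → inOrb 1 v = true →
    schCheck 1 1 v = true ∧ schCheck 1 2 v = true := by
  intro v hv hlo ho
  by_cases h0 : v < 541
  · exact siftCheck_sound sift1_0 (by omega) h0 ho
  by_cases h1 : v < 652
  · exact siftCheck_sound sift1_1 (by omega) h1 ho
  by_cases h2 : v < 739
  · exact siftCheck_sound sift1_2 (by omega) h2 ho
  by_cases h3 : v < 834
  · exact siftCheck_sound sift1_3 (by omega) h3 ho
  by_cases h4 : v < 956
  · exact siftCheck_sound sift1_4 (by omega) h4 ho
  by_cases h5 : v < 1031
  · exact siftCheck_sound sift1_5 (by omega) h5 ho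
  by_cases h6 : v < 1094
  · exact siftCheck_sound sift1_6 (by omega) h6 ho
  by_cases h7 : v < 1160
  · exact siftCheck_sound sift1_7 (by omega) h7 ho
  by_cases h8 : v < 1228
  · exact siftCheck_sound sift1_8 (by omega) h8 ho
  by_cases h9 : v < 1290
  · exact siftCheck_sound sift1_9 (by omega) h9 ho
  by_cases h10 : v < 1352
  · exact siftCheck_sound sift1_10 (by omega) h10 ho
  by_cases h11 : v < 1420
  · exact siftCheck_sound sift1_11 (by omega) h11 ho
  by_cases h12 : v < 1479
  · exact siftCheck_sound sift1_12 (by omega) h12 ho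
  by_cases h13 : v < 1554
  · exact siftCheck_sound sift1_13 (by omega) h13 ho
  by_cases h14 : v < 1617
  · exact siftCheck_sound sift1_14 (by omega) h14 ho
  by_cases h15 : v < 1678
  · exact siftCheck_sound sift1_15 (by omega) h15 ho
  by_cases h16 : v < 1743
  · exact siftCheck_sound sift1_16 (by omega) h16 ho
  exact siftCheck_sound sift1_17 (by omega) hv ho

theorem sift2_0 : siftCheck 2 0 1755 = true := by decide +kernel

theorem sift2_all : ∀ v < 1755, 0 ≤ v → inOrb 2 v = true →
    schCheck 2 1 v = true ∧ schCheck 2 2 v = true := by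
  intro v hv hlo ho
  exact siftCheck_sound sift2_0 (by omega) hv ho

end Cfsg.Agent.Lib.Helper41_TiSiftB
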