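import Mathlib
import Cfsg.Agent.Lib.Helper41_TiTab
import Cfsg.Agent.Lib.Helper41_TiTr
import Cfsg.Agent.Lib.Helper41_TiLin
import Cfsg.Agent.Lib.Helper41_TiSiftDef

/-!
# `²F₄(2)` on 1755 points: sifting of Schreier generators, level 3 (helper41)
-/

set_option autoImplicit false
set_option Elab.async false

namespace Cfsg.Agent.Lib.Helper41_TiSiftC

open Cfsg.Agent.Lib.Helper41_TiTab Cfsg.Agent.Lib.Helper41_TiTr Cfsg.Agent.Lib.Helper41_TiLin
  Cfsg.Agent.Lib.Helper41_TiSiftDef

theorem sift3_0 : siftCheck 3 0 54 = true := by decide +kernel
theorem sift3_1 : siftCheck 3 54 113 = true := by decide +kernel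
theorem sift3_2 : siftCheck 3 113 182 = true := by decide +kernel
theorem sift3_3 : siftCheck 3 182 250 = true := by decide +kernel
theorem sift3_4 : siftCheck 3 250 314 = true := by decide +kernel
theorem sift3_5 : siftCheck 3 314 368 = true := by decide +kernel
theorem sift3_6 : siftCheck 3 368 422 = true := by decide +kernel
theorem sift3_7 : siftCheck 3 422 486 = true := by decide +kernel
theorem sift3_8 : siftCheck 3 486 545 = true := by decide +kernel
theorem sift3_9 : siftCheck 3 545 606 = true := by decide +kernel
theorem sift3_10 : siftCheck 3 606 670 = true := by decide +kernel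
theorem sift3_11 : siftCheck 3 670 734 = true := by decide +kernel
theorem sift3_12 : siftCheck 3 734 794 = true := by decide +kernel
theorem sift3_13 : siftCheck 3 794 855 = true := by decide +kernel
theorem sift3_14 : siftCheck 3 855 915 = true := by decide +kernel
theorem sift3_15 : siftCheck 3 915 976 = true := by decide +kernel
theorem sift3_16 : siftCheck 3 976 1027 = true := by decide +kernel
theorem sift3_17 : siftCheck 3 1027 1084 = true := by decide +kernel
theorem sift3_18 : siftCheck 3 1084 1139 = true := by decide +kernel
theorem sift3_19 : siftCheck 3 1139 1204 = true := by decide +kernel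
theorem sift3_20 : siftCheck 3 1204 1264 = true := by decide +kernel
theorem sift3_21 : siftCheck 3 1264 1323 = true := by decide +kernel
theorem sift3_22 : siftCheck 3 1323 1373 = true := by decide +kernel
theorem sift3_23 : siftCheck 3 1373 1433 = true := by decide +kernel
theorem sift3_24 : siftCheck 3 1433 1496 = true := by decide +kernel
theorem sift3_25 : siftCheck 3 1496 1548 = true := by decide +kernel
theorem sift3_26 : siftCheck 3 1548 1615 = true := by decide +kernel
theorem sift3_27 : siftCheck 3 1615 1673 = true := by decide +kernel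
theorem sift3_28 : siftCheck 3 1673 1733 = true := by decide +kernel
theorem sift3_29 : siftCheck 3 1733 1755 = true := by decide +kernel

theorem sift3_all : ∀ v < 1755, 0 ≤ v → inOrb 3 v = true →
    schCheck 3 1 v = true ∧ schCheck 3 2 v = true := by
  intro v hv hlo ho
  by_cases h0 : v < 54
  · exact siftCheck_sound sift3_0 (by omega) h0 ho
  by_cases h1 : v < 113
  · exact siftCheck_sound sift3_1 (by omega) h1 ho
  by_cases h2 : v < 182
  · exact siftCheck_sound sift3_2 (by omega) h2 ho
  by_cases h3 : v < 250
  · exact siftCheck_sound sift3_3 (by omega) h3 ho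
  by_cases h4 : v < 314
  · exact siftCheck_sound sift3_4 (by omega) h4 ho
  by_cases h5 : v < 368
  · exact siftCheck_sound sift3_5 (by omega) h5 ho
  by_cases h6 : v < 422
  · exact siftCheck_sound sift3_6 (by omega) h6 ho
  by_cases h7 : v < 486
  · exact siftCheck_sound sift3_7 (by omega) h7 ho
  by_cases h8 : v < 545
  · exact siftCheck_sound sift3_8 (by omega) h8 ho
  by_cases h9 : v < 606
  · exact siftCheck_sound sift3_9 (by omega) h9 ho
  by_cases h10 : v < 670
  · exact siftCheck_sound sift3_10 (by omega) h10 ho
  by_cases h11 : v < 734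
  · exact siftCheck_sound sift3_11 (by omega) h11 ho
  by_cases h12 : v < 794
  · exact siftCheck_sound sift3_12 (by omega) h12 ho
  by_cases h13 : v < 855
  · exact siftCheck_sound sift3_13 (by omega) h13 ho
  by_cases h14 : v < 915
  · exact siftCheck_sound sift3_14 (by omega) h14 ho
  by_cases h15 : v < 976
  · exact siftCheck_sound sift3_15 (by omega) h15 ho
  by_cases h16 : v < 1027
  · exact siftCheck_sound sift3_16 (by omega) h16 ho
  by_cases h17 : v < 1084
  · exact siftCheck_sound sift3_17 (by omega) h17 ho
  by_cases h18 : v < 1139
  · exact siftCheck_sound sift3_18 (by omega) h18 ho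
  by_cases h19 : v < 1204
  · exact siftCheck_sound sift3_19 (by omega) h19 ho
  by_cases h20 : v < 1264
  · exact siftCheck_sound sift3_20 (by omega) h20 ho
  by_cases h21 : v < 1323
  · exact siftCheck_sound sift3_21 (by omega) h21 ho
  by_cases h22 : v < 1373
  · exact siftCheck_sound sift3_22 (by omega) h22 ho
  by_cases h23 : v < 1433
  · exact siftCheck_sound sift3_23 (by omega) h23 ho
  by_cases h24 : v < 1496
  · exact siftCheck_sound sift3_24 (by omega) h24 ho
  by_cases h25 : v < 1548
  · exact siftCheck_sound sift3_25 (by omega) h25 ho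
  by_cases h26 : v < 1615
  · exact siftCheck_sound sift3_26 (by omega) h26 ho
  by_cases h27 : v < 1673
  · exact siftCheck_sound sift3_27 (by omega) h27 ho
  by_cases h28 : v < 1733
  · exact siftCheck_sound sift3_28 (by omega) h28 ho
  exact siftCheck_sound sift3_29 (by omega) hv ho

end Cfsg.Agent.Lib.Helper41_TiSiftC
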