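import Mathlib
import Cfsg.Agent.Lib.Helper41_TiTab
import Cfsg.Agent.Lib.Helper41_TiTr
import Cfsg.Agent.Lib.Helper41_TiLin
import Cfsg.Agent.Lib.Helper41_TiSiftDef

/-!
# `²F₄(2)` on 1755 points: sifting of Schreier generators, levels 4, 5 (helper41)
-/

set_option autoImplicit false
set_option Elab.async false

namespace Cfsg.Agent.Lib.Helper41_TiSiftD

open Cfsg.Agent.Lib.Helper41_TiTab Cfsg.Agent.Lib.Helper41_TiTr Cfsg.Agent.Lib.Helper41_TiLin
  Cfsg.Agent.Lib.Helper41_TiSiftDef

theorem sift4_0 : siftCheck 4 0 508 = true := by decide +kernel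
theorem sift4_1 : siftCheck 4 508 648 = true := by decide +kernel
theorem sift4_2 : siftCheck 4 648 746 = true := by decide +kernel
theorem sift4_3 : siftCheck 4 746 841 = true := by decide +kernel
theorem sift4_4 : siftCheck 4 841 949 = true := by decide +kernel
theorem sift4_5 : siftCheck 4 949 1020 = true := by decide +kernel
theorem sift4_6 : siftCheck 4 1020 1098 = true := by decide +kernel
theorem sift4_7 : siftCheck 4 1098 1164 = true := by decide +kernel
theorem sift4_8 : siftCheck 4 1164 1235 = true := by decide +kernel
theorem sift4_9 : siftCheck 4 1235 1297 = true := by decide +kernel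
theorem sift4_10 : siftCheck 4 1297 1365 = true := by decide +kernel
theorem sift4_11 : siftCheck 4 1365 1435 = true := by decide +kernel
theorem sift4_12 : siftCheck 4 1435 1498 = true := by decide +kernel
theorem sift4_13 : siftCheck 4 1498 1567 = true := by decide +kernel
theorem sift4_14 : siftCheck 4 1567 1626 = true := by decide +kernel
theorem sift4_15 : siftCheck 4 1626 1687 = true := by decide +kernel
theorem sift4_16 : siftCheck 4 1687 1747 = true := by decide +kernel
theorem sift4_17 : siftCheck 4 1747 1755 = true := by decide +kernel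

theorem sift4_all : ∀ v < 1755, 0 ≤ v → inOrb 4 v = true →
    schCheck 4 1 v = true ∧ schCheck 4 2 v = true := by
  intro v hv hlo ho
  by_cases h0 : v < 508
  · exact siftCheck_sound sift4_0 (by omega) h0 ho
  by_cases h1 : v < 648
  · exact siftCheck_sound sift4_1 (by omega) h1 ho
  by_cases h2 : v < 746
  · exact siftCheck_sound sift4_2 (by omega) h2 ho
  by_cases h3 : v < 841
  · exact siftCheck_sound sift4_3 (by omega) h3 ho
  by_cases h4 : v < 949
  · exact siftCheck_sound sift4_4 (by omega) h4 ho
  by_cases h5 : v < 1020
  · exact siftCheck_sound sift4_5 (by omega) h5 ho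
  by_cases h6 : v < 1098
  · exact siftCheck_sound sift4_6 (by omega) h6 ho
  by_cases h7 : v < 1164
  · exact siftCheck_sound sift4_7 (by omega) h7 ho
  by_cases h8 : v < 1235
  · exact siftCheck_sound sift4_8 (by omega) h8 ho
  by_cases h9 : v < 1297
  · exact siftCheck_sound sift4_9 (by omega) h9 ho
  by_cases h10 : v < 1365
  · exact siftCheck_sound sift4_10 (by omega) h10 ho
  by_cases h11 : v < 1435
  · exact siftCheck_sound sift4_11 (by omega) h11 ho
  by_cases h12 : v < 1498
  · exact siftCheck_sound sift4_12 (by omega) h12 ho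
  by_cases h13 : v < 1567
  · exact siftCheck_sound sift4_13 (by omega) h13 ho
  by_cases h14 : v < 1626
  · exact siftCheck_sound sift4_14 (by omega) h14 ho
  by_cases h15 : v < 1687
  · exact siftCheck_sound sift4_15 (by omega) h15 ho
  by_cases h16 : v < 1747
  · exact siftCheck_sound sift4_16 (by omega) h16 ho
  exact siftCheck_sound sift4_17 (by omega) hv ho

theorem sift5_0 : siftCheck 5 0 1755 = true := by decide +kernel

theorem sift5_all : ∀ v < 1755, 0 ≤ v → inOrb 5 v = true →
    schCheck 5 1 v = true ∧ schCheck 5 2 v = true := by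
  intro v hv hlo ho
  exact siftCheck_sound sift5_0 (by omega) hv ho

end Cfsg.Agent.Lib.Helper41_TiSiftD
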