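import Mathlib
import Cfsg.Agent.Lib.Helper41_TiTab
import Cfsg.Agent.Lib.Helper41_TiTr
import Cfsg.Agent.Lib.Helper41_TiLin
import Cfsg.Agent.Lib.Helper41_TiSub
import Cfsg.Agent.Lib.Helper41_TiPerm
import Cfsg.Agent.Lib.Helper41_TiDet
import Cfsg.Agent.Lib.Helper41_TiChain
import Cfsg.Agent.Lib.Helper41_SimpleCert2
import Cfsg.Agent.Lib.Helper41_SimpleCert3

/-!
# `²F₄(2)` on 1755 points: the subgroup of index 2 is simple and is the derived subgroup (helper41)

`K 3 = ⟨t₁, t₂⟩` with `t₁ = ⁅a, b a b⁻¹⁆` of order 13 and `t₂` a conjugate of `t₁` under `K 3`; it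
has order `17971200`, acts primitively on the 1755 points, and is simple
(`Helper41_SimpleCert3.isSimpleGroup_of_orbit_cert`).  It has index 2 in `K 0`, hence it is the
derived subgroup of `K 0`.
-/

set_option autoImplicit false

namespace Cfsg.Agent.Lib.Helper41_TiSimple

open Equiv Cfsg.Agent.Lib.Helper41_TiTab Cfsg.Agent.Lib.Helper41_TiTr
  Cfsg.Agent.Lib.Helper41_TiLin Cfsg.Agent.Lib.Helper41_TiSub
  Cfsg.Agent.Lib.Helper41_TiPerm Cfsg.Agent.Lib.Helper41_TiDet
  Cfsg.Agent.Lib.Helper41_TiChain Cfsg.Agent.Lib.Helper41_SimpleCert2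
  Cfsg.Agent.Lib.Helper41_SimpleCert3

/-- the whole group, of order 35942400 -/
abbrev G : Subgroup (Perm (Fin 1755)) := K 0

theorem card_G : Nat.card G = 35942400 := card_K0

/-- the subgroup of order 17971200 -/
abbrev T : Subgroup (Perm (Fin 1755)) := K 3

theorem card_T : Nat.card T = 17971200 := card_K3

theorem T_le : T ≤ G := K3_le

theorem powN_eq (lvl : ℕ) (hl : lvl < 6) (k : ℕ) (x : Fin 1755) :
    powN lvl 1 k x.val = (((letP lvl 1) ^ k) x).val := by
  induction k with
  | zero => rfl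
  | succ k ih =>
    rw [pow_succ', Perm.mul_apply, letP_apply hl (by norm_num), ← ih]
    rfl

theorem inOrb3 (p : Fin 1755) : inOrb 3 p.val = true := by
  have h : (orb 3).card = (Finset.univ : Finset (Fin 1755)).card := by
    rw [orb_card.2.2.2.1]; simp
  have h2 : orb 3 = Finset.univ := Finset.eq_univ_of_card _ (by rw [h]; simp)
  exact mem_orb.mp (h2 ▸ Finset.mem_univ p)

theorem mem_orb3 (p : Fin 1755) : p ∈ orb 3 := mem_orb.mpr (inOrb3 p)

theorem subIT_lt (p : Fin 1755) : subIT p.val < 5 :=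
  (subCheckT_all p.val p.isLt (inOrb3 p)).1

/-- the suborbit colouring -/
def cT (p : Fin 1755) : Fin 5 := ⟨subIT p.val, subIT_lt p⟩

theorem subCT_mem (p : Fin 1755) : wordP 4 (digs9 (subCT p.val)) ∈ K 4 :=
  word9_mem (by norm_num) (subCheckT_all p.val p.isLt (inOrb3 p)).2.1

theorem subCT_apply (p : Fin 1755) (x : Fin 1755) :
    (wordP 4 (digs9 (subCT p.val)) x).val = ev9 4 (subCT p.val) x.val :=
  word9_apply (by norm_num) (subCheckT_all p.val p.isLt (inOrb3 p)).2.1 x

theorem repT_lt (i : ℕ) : repT i < 1755 := by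
  rcases i with _ | _ | _ | _ | _ <;> simp [repT]

theorem card_fiberT (i : Fin 5) :
    ((orb 3).filter fun p : Fin 1755 => cT p = i).card = subSizeT i.val := by
  have h1 : ((orb 3).filter fun p : Fin 1755 => cT p = i) =
      Finset.univ.filter (fun p : Fin 1755 =>
        (fun q => inOrb 3 q && Nat.beq (subIT q) i.val) p.val = true) := by
    ext p
    simp only [Finset.mem_filter, Finset.mem_univ, true_and, Bool.and_eq_true]
    rw [Nat.beq_eq, mem_orb]
    constructor
    · rintro ⟨hp, hc⟩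
      exact ⟨hp, congrArg Fin.val hc⟩
    · rintro ⟨hp, hc⟩
      exact ⟨hp, Fin.ext hc⟩
  rw [h1, card_filter_fin 1755 (fun q => inOrb 3 q && Nat.beq (subIT q) i.val)]
  have h2 := subCountT
  rw [List.all_eq_true] at h2
  exact Nat.eq_of_beq_eq_true (h2 i.val (List.mem_range.mpr i.isLt))

theorem baseF3 : baseF 3 = 0 := rfl

theorem cT_base : cT (baseF 3) = 0 := Fin.ext subIT_base

theorem faithful_T {g : Perm (Fin 1755)} (_hg : g ∈ T) (h : ∀ q ∈ orb 3, g q = q) : g = 1 := by
  ext q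
  rw [h q (mem_orb3 q)]
  rfl

/-- the element of order 13 -/
def x13 : T := ⟨letP 3 1, letP_mem (by norm_num) (by norm_num)⟩

theorem x13_pow : x13 ^ 13 = 1 := by
  apply Subtype.ext
  show (letP 3 1) ^ 13 = 1
  exact eq_one_of_fixesAll (K_le_K0 3 (T.pow_mem x13.2 13)) (powN 3 1 13)
    (fun x => powN_eq 3 (by norm_num) 13 x) pow13Check

theorem okT : ok9 (gT 3) = true ∧ ok9 (gT 4) = true ∧ ok9 (gT 5) = true ∧
    ∀ x < 1755, apL 3 2 (evGT x) = evGT (apL 3 1 x) := by
  have h := conjCheckT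
  simp only [Bool.and_eq_true] at h
  exact ⟨h.1.1.1, h.1.1.2, h.1.2, fun x hx => Nat.eq_of_beq_eq_true (allLt_sound h.2 x hx)⟩

/-- the conjugating element -/
def gTT : Perm (Fin 1755) :=
  wordP 3 (digs9 (gT 3)) * wordP 4 (digs9 (gT 4)) * wordP 5 (digs9 (gT 5))

theorem gTT_mem : gTT ∈ T :=
  T.mul_mem (T.mul_mem (word9_mem (by norm_num) okT.1)
    (K4_le (word9_mem (by norm_num) okT.2.1)))
    (K4_le (K5_le (word9_mem (by norm_num) okT.2.2.1)))

theorem gTT_apply (x : Fin 1755) : (gTT x).val = evGT x.val := by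
  rw [gTT, Perm.mul_apply, Perm.mul_apply, word9_apply (by norm_num) okT.1,
    word9_apply (by norm_num) okT.2.1, word9_apply (by norm_num) okT.2.2.1]
  rfl

theorem conjT_eq : letP 3 2 = gTT * letP 3 1 * gTT⁻¹ := by
  have h : letP 3 2 * gTT = gTT * letP 3 1 := by
    apply Equiv.ext
    intro i
    apply Fin.ext
    rw [Perm.mul_apply, Perm.mul_apply, letP_apply (by norm_num) (by norm_num), gTT_apply,
      gTT_apply, letP_apply (by norm_num) (by norm_num)]
    exact okT.2.2.2 i.val i.isLt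
  rw [← h]
  group

theorem keyT (N : Subgroup T) (hN : N.Normal) (hx : x13 ∈ N) : N = ⊤ := by
  apply eq_top_of_gens T ({letP 3 1, letP 3 2} : Set (Perm (Fin 1755))) (K_eq (by norm_num)) N
  rintro s (rfl | rfl) hs
  · exact hx
  · let g : T := ⟨gTT, gTT_mem⟩
    have h : (⟨letP 3 2, hs⟩ : T) = g * x13 * g⁻¹ := Subtype.ext conjT_eq
    rw [h]
    exact hN.conj_mem _ hx g

theorem simple_T : IsSimpleGroup T := by
  have : Finite T := Nat.finite_of_card_ne_zero (by rw [card_T]; norm_num)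
  have hnt : Nontrivial T := by
    rw [← Finite.one_lt_card_iff_nontrivial, card_T]; norm_num
  apply isSimpleGroup_of_orbit_cert T (orb 3) (baseF 3) (mem_orb3 _)
    (fun g _ q _ => mem_orb3 (g q))
    (fun q hq => ⟨tr 3 q, tr_mem (lvl := 3) (by norm_num) (mem_orb.mp hq),
      tr_apply_base (lvl := 3) (by norm_num) (mem_orb.mp hq)⟩)
    (fun g hg h => faithful_T hg h) cT ?_ ?_ ?_ 13 (by norm_num)
    (by rw [orb_card.2.2.2.1]; norm_num) (by rw [card_T]; norm_num) hnt x13 x13_pow keyT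
  · intro p _ q _ hpq
    have hpq' : subIT p.val = subIT q.val := congrArg Fin.val hpq
    have hp' := subCheckT_all p.val p.isLt (inOrb3 p)
    have hq' := subCheckT_all q.val q.isLt (inOrb3 q)
    have hm : wordP 4 (digs9 (subCT q.val)) * (wordP 4 (digs9 (subCT p.val)))⁻¹ ∈ K 4 :=
      (K 4).mul_mem (subCT_mem q) ((K 4).inv_mem (subCT_mem p))
    refine ⟨_, K4_le hm, K_nxt_fix (lvl := 3) (by norm_num) _ hm, ?_⟩
    have h1 : wordP 4 (digs9 (subCT p.val)) ⟨repT (subIT p.val), repT_lt _⟩ = p := by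
      apply Fin.ext
      rw [subCT_apply p]
      exact hp'.2.2
    have h2 : wordP 4 (digs9 (subCT q.val)) ⟨repT (subIT p.val), repT_lt _⟩ = q := by
      apply Fin.ext
      rw [subCT_apply q]
      show ev9 4 (subCT q.val) (repT (subIT p.val)) = q.val
      rw [hpq']
      exact hq'.2.2
    rw [Perm.mul_apply, Perm.inv_eq_iff_eq.mpr h1.symm, h2]
  · intro p _ hc
    have h1 : subIT p.val = 0 := by
      have := congrArg Fin.val (hc.trans cT_base)
      exact this
    have h2 := allLt_sound subZeroT p.val p.isLt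
    rw [inOrb3 p, h1] at h2
    have h3 : Nat.beq 0 0 = true := rfl
    rw [h3, Bool.and_self, Bool.not_true, Bool.false_or] at h2
    exact Fin.ext (Nat.eq_of_beq_eq_true h2)
  · intro I h0 hdvd
    rw [cT_base] at h0 ⊢
    apply subsetCheckT I h0
    rw [orb_card.2.2.2.1] at hdvd
    rw [Finset.sum_congr rfl (fun i _ => card_fiberT i)] at hdvd
    exact hdvd

end Cfsg.Agent.Lib.Helper41_TiSimple
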