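import Mathlib
import Cfsg.Agent.Lib.Helper41_TiSimple

/-!
# `²F₄(2)` on 1755 points: the derived subgroup (helper41)

`K 3` lies in the derived subgroup of `K 0` (its first generator is a commutator, the second a
conjugate of the first) and has index 2, so it is the derived subgroup.  Consequences for the
abstract group `↥(K 0)`: `commutator ↥(K 0)` has index 2, is simple, non-commutative, of order
`17971200`.
-/

set_option autoImplicit false

namespace Cfsg.Agent.Lib.Helper41_TiComm

open scoped commutatorElement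

open Equiv Cfsg.Agent.Lib.Helper41_TiTab Cfsg.Agent.Lib.Helper41_TiTr
  Cfsg.Agent.Lib.Helper41_TiPerm Cfsg.Agent.Lib.Helper41_TiChain
  Cfsg.Agent.Lib.Helper41_TiSimple

/-- the two generators of the whole group -/
abbrev ga : Perm (Fin 1755) := letP 0 1
abbrev gb : Perm (Fin 1755) := letP 0 2

theorem ga_mem : ga ∈ G := letP_mem (by norm_num) (by norm_num)
theorem gb_mem : gb ∈ G := letP_mem (by norm_num) (by norm_num)

theorem letP03 : letP 0 3 = ga⁻¹ := letP_inv (lvl := 0) (d := 1) (by norm_num) (by norm_num)
theorem letP04 : letP 0 4 = gb⁻¹ := letP_inv (lvl := 0) (d := 2) (by norm_num) (by norm_num)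

theorem digs_t1 : digs12 (genWord 3 1) = [1, 2, 1, 4, 3, 2, 3, 4, 0, 0, 0, 0] := by decide +kernel

/-- the first generator of `K 3` is a commutator -/
theorem t1_eq : letP 3 1 = ⁅ga, gb * ga * gb⁻¹⁆ := by
  have h := letP_eq_word (lvl := 3) (d := 1) (by norm_num) (by norm_num) (Or.inl rfl)
  have hp : par 3 = 0 := rfl
  rw [hp, digs_t1] at h
  rw [h]
  simp only [wordP_cons, wordP_nil, letP_zero (lvl := 0) (by norm_num), letP03, letP04,
    commutatorElement_def]
  group

/-- the derived subgroup of `K 0`, as a subgroup of the symmetric group -/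
abbrev D : Subgroup (Perm (Fin 1755)) := ⁅G, G⁆

theorem D_le : D ≤ G := Subgroup.commutator_le.mpr fun g₁ h₁ g₂ h₂ => by
  rw [commutatorElement_def]
  exact G.mul_mem (G.mul_mem (G.mul_mem h₁ h₂) (G.inv_mem h₁)) (G.inv_mem h₂)

theorem conj_mem_D {g c : Perm (Fin 1755)} (hg : g ∈ G) (hc : c ∈ D) : g * c * g⁻¹ ∈ D := by
  have h1 : ⁅g, c⁆ ∈ D := Subgroup.commutator_mem_commutator hg (D_le hc)
  have h2 : g * c * g⁻¹ = ⁅g, c⁆ * c := by
    rw [commutatorElement_def]; group
  rw [h2]
  exact D.mul_mem h1 hc

theorem t1_mem_D : letP 3 1 ∈ D := by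
  rw [t1_eq]
  exact Subgroup.commutator_mem_commutator ga_mem
    (G.mul_mem (G.mul_mem gb_mem ga_mem) (G.inv_mem gb_mem))

theorem T_le_D : T ≤ D := by
  rw [show T = Subgroup.closure {letP 3 1, letP 3 2} from K_eq (by norm_num), Subgroup.closure_le]
  rintro x (rfl | rfl)
  · exact t1_mem_D
  · show letP 3 2 ∈ D
    rw [conjT_eq]
    exact conj_mem_D (T_le gTT_mem) t1_mem_D

/-! ### the abstract group -/

/-- `K 3` inside the group `↥(K 0)` -/
abbrev TG : Subgroup G := T.subgroupOf G

theorem card_TG : Nat.card TG = 17971200 := by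
  rw [Nat.card_congr (Subgroup.subgroupOfEquivOfLe T_le).toEquiv]
  exact card_T

instance finite_G : Finite G := Nat.finite_of_card_ne_zero (by rw [card_G]; norm_num)

theorem index_TG : TG.index = 2 := by
  have h := TG.card_mul_index
  rw [card_TG, card_G] at h
  omega

instance normal_TG : TG.Normal := Subgroup.normal_of_index_eq_two index_TG

theorem comm_le_TG : commutator G ≤ TG := by
  have hcard : Nat.card (G ⧸ TG) = 2 := by
    rw [← Subgroup.index_eq_card]; exact index_TG
  have : Fact (Nat.Prime 2) := ⟨Nat.prime_two⟩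
  have hc : IsCyclic (G ⧸ TG) := isCyclic_of_prime_card hcard
  let _ : CommGroup (G ⧸ TG) := IsCyclic.commGroup
  have h := Abelianization.commutator_subset_ker (QuotientGroup.mk' TG)
  rwa [QuotientGroup.ker_mk'] at h

theorem map_comm : (commutator G).map G.subtype = D := by
  rw [commutator_def, Subgroup.map_commutator, ← MonoidHom.range_eq_map, Subgroup.range_subtype]

theorem TG_le_comm : TG ≤ commutator G := by
  intro g hg
  have hg' : g.1 ∈ D := T_le_D (Subgroup.mem_subgroupOf.mp hg)
  rw [← map_comm] at hg'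
  obtain ⟨c, hc, hcg⟩ := hg'
  have : c = g := Subtype.ext hcg
  rw [← this]
  exact hc

theorem comm_eq : commutator G = TG := le_antisymm comm_le_TG TG_le_comm

theorem index_comm : (commutator G).index = 2 := by
  rw [comm_eq]; exact index_TG

/-- the derived subgroup is isomorphic to `K 3` -/
noncomputable def commEquiv : commutator G ≃* T :=
  (MulEquiv.subgroupCongr comm_eq).trans (Subgroup.subgroupOfEquivOfLe T_le)

theorem card_comm : Nat.card (commutator G) = 17971200 := by
  rw [Nat.card_congr commEquiv.toEquiv]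
  exact card_T

theorem simple_comm : IsSimpleGroup (commutator G) := by
  have := simple_T
  exact commEquiv.isSimpleGroup

end Cfsg.Agent.Lib.Helper41_TiComm
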