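import Mathlib
import Cfsg.Agent.Lib.Helper41_TiTab
import Cfsg.Agent.Lib.Helper41_TiTr
import Cfsg.Agent.Lib.Helper41_TiLin
import Cfsg.Agent.Lib.Helper41_TiSiftDef

/-!
# `²F₄(2)` on 1755 points: the elements of the point stabiliser outside the subgroup of index 2
do not square to the identity, kernel checks (helper41)

Every element of the stabiliser `K 1` of the base point is a product `tr 1 ω₁ · tr 2 ω₂` of
transversal elements.  The letters of the levels 1 and 2 lie in `K 3` or in `K 3 · a⁻¹` (`chiD`);
an element with an odd number of letters of the second kind moves one of seven test points under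
its square.
-/

set_option autoImplicit false
set_option Elab.async false

namespace Cfsg.Agent.Lib.Helper41_TiInvData

open Cfsg.Agent.Lib.Helper41_TiTab Cfsg.Agent.Lib.Helper41_TiTr Cfsg.Agent.Lib.Helper41_TiLin
  Cfsg.Agent.Lib.Helper41_TiSiftDef

/-- the digit `d` of level `lvl` lies outside the subgroup of index 2 -/
def chiD (lvl d : ℕ) : Bool :=
  match lvl, d with
  | 1, 1 => true
  | 1, 3 => true
  | 2, 1 => true
  | 2, 2 => true
  | 2, 3 => true
  | 2, 4 => true
  | _, _ => false

/-- the parity of a word of nine digits -/
def parW (lvl c : ℕ) : Bool :=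
  withNat c fun c =>
  (chiD lvl (dg c 0) ^^ (chiD lvl (dg c 1) ^^ (chiD lvl (dg c 2) ^^ (chiD lvl (dg c 3) ^^
    (chiD lvl (dg c 4) ^^ (chiD lvl (dg c 5) ^^ (chiD lvl (dg c 6) ^^ (chiD lvl (dg c 7) ^^
      chiD lvl (dg c 8)))))))))

/-- `a² ∈ K 3` -/
theorem siftAA : siftFrom 4 3 (fun x => apL 0 1 (apL 0 1 x)) = true := by decide +kernel

/-- the second generator of level 1 lies in `K 3` -/
theorem sift12 : siftFrom 4 3 (fun x => apL 1 2 x) = true := by decide +kernel

/-- the first generator of level 1 times `a` lies in `K 3` -/
theorem sift11 : siftFrom 4 3 (fun x => apL 1 1 (apL 0 1 x)) = true := by decide +kernel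

/-- the first generator of level 2 times `a` lies in `K 3` -/
theorem sift21 : siftFrom 4 3 (fun x => apL 2 1 (apL 0 1 x)) = true := by decide +kernel

/-- the second generator of level 2 times `a` lies in `K 3` -/
theorem sift22 : siftFrom 4 3 (fun x => apL 2 2 (apL 0 1 x)) = true := by decide +kernel

/-- the basic orbit of level 2 -/
def orb2L : List ℕ := [17, 19, 21, 25, 26, 28, 35, 37, 42, 43, 48, 50, 56, 73, 78, 79, 81, 86, 89, 171]

theorem orb2Check : (allLt 1755 fun p => !inOrb 2 p || orb2L.contains p) = true := by
  decide +kernel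

/-- test points -/
def witL : List ℕ := [1, 3, 9, 4, 46, 18, 5]

/-- the product of the transversal elements with words `c1` (level 1) and `c2` (level 2) -/
def evPair (c1 c2 x : ℕ) : ℕ := ev9 1 c1 (ev9 2 c2 x)

/-- the test for all elements `tr 1 ω₁ · tr 2 ω₂` with given `ω₁` -/
def invCheck (ω1 : ℕ) : Bool :=
  !inOrb 1 ω1 || withNat (codeOf 1 ω1) fun c1 => orb2L.all fun ω2 =>
    withNat (codeOf 2 ω2) fun c2 =>
      !(parW 1 c1 ^^ parW 2 c2) ||
        witL.any fun x => !Nat.beq (evPair c1 c2 (evPair c1 c2 x)) x

theorem invCheck_0 : allIn 0 250 invCheck = true := by decide +kernel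
theorem invCheck_1 : allIn 250 500 invCheck = true := by decide +kernel
theorem invCheck_2 : allIn 500 750 invCheck = true := by decide +kernel
theorem invCheck_3 : allIn 750 1000 invCheck = true := by decide +kernel
theorem invCheck_4 : allIn 1000 1250 invCheck = true := by decide +kernel
theorem invCheck_5 : allIn 1250 1500 invCheck = true := by decide +kernel
theorem invCheck_6 : allIn 1500 1750 invCheck = true := by decide +kernel
theorem invCheck_7 : allIn 1750 1755 invCheck = true := by decide +kernel

theorem invCheck_all : ∀ v < 1755, invCheck v = true := by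
  intro v hv
  by_cases h0 : v < 250
  · exact allIn_sound invCheck_0 (by omega) h0
  by_cases h1 : v < 500
  · exact allIn_sound invCheck_1 (by omega) h1
  by_cases h2 : v < 750
  · exact allIn_sound invCheck_2 (by omega) h2
  by_cases h3 : v < 1000
  · exact allIn_sound invCheck_3 (by omega) h3
  by_cases h4 : v < 1250
  · exact allIn_sound invCheck_4 (by omega) h4
  by_cases h5 : v < 1500
  · exact allIn_sound invCheck_5 (by omega) h5
  by_cases h6 : v < 1750
  · exact allIn_sound invCheck_6 (by omega) h6
  exact allIn_sound invCheck_7 (by omega) hv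

end Cfsg.Agent.Lib.Helper41_TiInvData
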