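import Mathlib
import Cfsg.Agent.Lib.Helper41_TiComm
import Cfsg.Agent.Lib.Helper41_TiInvData

/-!
# `²F₄(2)` on 1755 points: every involution lies in the derived subgroup (helper41)

An involution of `K 0` fixes a point (the degree is odd), hence is conjugate into the stabiliser
`K 1` of the base point, whose elements are the products `tr 1 ω₁ · tr 2 ω₂`.  Such a product lies
in `K 3` or in `K 3 · a⁻¹` according to the parity `parW` of its words, and in the second case its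
square moves a test point (`Helper41_TiInvData.invCheck_all`).
-/

set_option autoImplicit false

namespace Cfsg.Agent.Lib.Helper41_TiInv

open Equiv Cfsg.Agent.Lib.Helper41_TiTab Cfsg.Agent.Lib.Helper41_TiTr
  Cfsg.Agent.Lib.Helper41_TiLin Cfsg.Agent.Lib.Helper41_TiSiftDef
  Cfsg.Agent.Lib.Helper41_TiPerm Cfsg.Agent.Lib.Helper41_TiChain
  Cfsg.Agent.Lib.Helper41_TiSimple Cfsg.Agent.Lib.Helper41_TiComm
  Cfsg.Agent.Lib.Helper41_TiInvData

theorem conj_mem_T {g t : P} (hg : g ∈ G) (ht : t ∈ T) : g * t * g⁻¹ ∈ T := by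
  have h := normal_TG.conj_mem ⟨t, T_le ht⟩ (Subgroup.mem_subgroupOf.mpr ht) ⟨g, hg⟩
  exact Subgroup.mem_subgroupOf.mp h

theorem conj_mem_T' {g t : P} (hg : g ∈ G) (ht : t ∈ T) : g⁻¹ * t * g ∈ T := by
  have := conj_mem_T (G.inv_mem hg) ht
  rwa [inv_inv] at this

theorem aa_mem : ga * ga ∈ T := by
  apply sift_sound 4 3 (ga * ga) (fun x => apL 0 1 (apL 0 1 x)) (G.mul_mem ga_mem ga_mem) _ siftAA
  intro x
  rw [Perm.mul_apply, letP_apply (by norm_num) (by norm_num),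
    letP_apply (by norm_num) (by norm_num)]

/-- `x` lies in `K 3` (`ε = false`) or in `K 3 · a⁻¹` (`ε = true`) -/
def Cl (ε : Bool) (x : P) : Prop := x ∈ G ∧ (ε = false → x ∈ T) ∧ (ε = true → x * ga ∈ T)

theorem Cl_one : Cl false 1 := ⟨G.one_mem, fun _ => T.one_mem, fun h => Bool.noConfusion h⟩

theorem Cl_mul {ε δ : Bool} {x y : P} (hx : Cl ε x) (hy : Cl δ y) : Cl (ε ^^ δ) (x * y) := by
  obtain ⟨hxG, hx0, hx1⟩ := hx
  obtain ⟨hyG, hy0, hy1⟩ := hy
  refine ⟨G.mul_mem hxG hyG, ?_, ?_⟩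
  · intro h
    cases ε <;> cases δ
    · exact T.mul_mem (hx0 rfl) (hy0 rfl)
    · exact Bool.noConfusion h
    · exact Bool.noConfusion h
    · -- x y = (x a) (a⁻¹ (y a) a) (a a)⁻¹
      have h1 := hx1 rfl
      have h2 := conj_mem_T' ga_mem (hy1 rfl)
      have h3 := T.inv_mem aa_mem
      have e : x * y = (x * ga) * (ga⁻¹ * (y * ga) * ga) * (ga * ga)⁻¹ := by group
      rw [e]
      exact T.mul_mem (T.mul_mem h1 h2) h3
  · intro h
    cases ε <;> cases δ
    · exact Bool.noConfusion h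
    · have e : x * y * ga = x * (y * ga) := by group
      rw [e]
      exact T.mul_mem (hx0 rfl) (hy1 rfl)
    · have e : x * y * ga = (x * ga) * (ga⁻¹ * y * ga) := by group
      rw [e]
      exact T.mul_mem (hx1 rfl) (conj_mem_T' ga_mem (hy0 rfl))
    · exact Bool.noConfusion h

theorem Cl_inv {ε : Bool} {x : P} (hx : Cl ε x) : Cl ε x⁻¹ := by
  obtain ⟨hxG, hx0, hx1⟩ := hx
  refine ⟨G.inv_mem hxG, fun h => T.inv_mem (hx0 h), fun h => ?_⟩
  -- x⁻¹ a = a ((x a)⁻¹) a⁻¹ (a a)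
  have h1 := conj_mem_T ga_mem (T.inv_mem (hx1 h))
  have e : x⁻¹ * ga = (ga * (x * ga)⁻¹ * ga⁻¹) * (ga * ga) := by group
  rw [e]
  exact T.mul_mem h1 aa_mem

theorem mem_T_of_sift {lvl d : ℕ} (hl : lvl < 6) (hd : d < 5)
    (h : siftFrom 4 3 (fun x => apL lvl d x) = true) : letP lvl d ∈ T := by
  apply sift_sound 4 3 (letP lvl d) (fun x => apL lvl d x) (K_le_K0 lvl (letP_mem hl hd)) _ h
  intro x
  rw [letP_apply hl hd]

theorem mul_a_mem_T_of_sift {lvl d : ℕ} (hl : lvl < 6) (hd : d < 5)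
    (h : siftFrom 4 3 (fun x => apL lvl d (apL 0 1 x)) = true) : letP lvl d * ga ∈ T := by
  apply sift_sound 4 3 (letP lvl d * ga) (fun x => apL lvl d (apL 0 1 x))
    (G.mul_mem (K_le_K0 lvl (letP_mem hl hd)) ga_mem) _ h
  intro x
  rw [Perm.mul_apply, letP_apply hl hd, letP_apply (by norm_num) (by norm_num)]

theorem Cl_out {lvl d : ℕ} (hl : lvl < 6) (hd : d < 5)
    (h : siftFrom 4 3 (fun x => apL lvl d (apL 0 1 x)) = true) : Cl true (letP lvl d) :=
  ⟨K_le_K0 lvl (letP_mem hl hd), fun h' => Bool.noConfusion h',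
    fun _ => mul_a_mem_T_of_sift hl hd h⟩

theorem Cl_in {lvl d : ℕ} (hl : lvl < 6) (hd : d < 5)
    (h : siftFrom 4 3 (fun x => apL lvl d x) = true) : Cl false (letP lvl d) :=
  ⟨K_le_K0 lvl (letP_mem hl hd), fun _ => mem_T_of_sift hl hd h, fun h' => Bool.noConfusion h'⟩

theorem Cl_letter {lvl d : ℕ} (hl : lvl = 1 ∨ lvl = 2) (hd : d < 5) :
    Cl (chiD lvl d) (letP lvl d) := by
  have e3 : ∀ l, l < 6 → letP l 3 = (letP l 1)⁻¹ := fun l h =>
    letP_inv (lvl := l) (d := 1) h (by norm_num)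
  have e4 : ∀ l, l < 6 → letP l 4 = (letP l 2)⁻¹ := fun l h =>
    letP_inv (lvl := l) (d := 2) h (by norm_num)
  rcases hl with rfl | rfl
  · interval_cases d
    · rw [letP_zero (by norm_num)]; exact Cl_one
    · exact Cl_out (by norm_num) (by norm_num) sift11
    · exact Cl_in (by norm_num) (by norm_num) sift12
    · rw [e3 1 (by norm_num)]
      exact Cl_inv (Cl_out (by norm_num) (by norm_num) sift11)
    · rw [e4 1 (by norm_num)]
      exact Cl_inv (Cl_in (by norm_num) (by norm_num) sift12)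
  · interval_cases d
    · rw [letP_zero (by norm_num)]; exact Cl_one
    · exact Cl_out (by norm_num) (by norm_num) sift21
    · exact Cl_out (by norm_num) (by norm_num) sift22
    · rw [e3 2 (by norm_num)]
      exact Cl_inv (Cl_out (by norm_num) (by norm_num) sift21)
    · rw [e4 2 (by norm_num)]
      exact Cl_inv (Cl_out (by norm_num) (by norm_num) sift22)

theorem Cl_word {lvl : ℕ} (hl : lvl = 1 ∨ lvl = 2) (w : List ℕ) (hw : ∀ d ∈ w, d < 5) :
    Cl (w.foldr (fun d acc => chiD lvl d ^^ acc) false) (wordP lvl w) := by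
  induction w with
  | nil => exact Cl_one
  | cons d w ih =>
    rw [wordP_cons, List.foldr_cons]
    exact Cl_mul (Cl_letter hl (hw d List.mem_cons_self))
      (ih fun j hj => hw j (List.mem_cons_of_mem _ hj))

theorem parW_eq (lvl c : ℕ) :
    parW lvl c = (digs9 c).foldr (fun d acc => chiD lvl d ^^ acc) false := by
  rw [parW, withNat_eq]
  simp [digs9]

theorem Cl_tr {lvl : ℕ} (hl : lvl = 1 ∨ lvl = 2) {ω : Fin 1755}
    (ho : inOrb lvl ω.val = true) : Cl (parW lvl (codeOf lvl ω.val)) (tr lvl ω) := by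
  have hl6 : lvl < 6 := by rcases hl with rfl | rfl <;> norm_num
  rw [parW_eq]
  exact Cl_word hl _ (ok9_spec (trCheck_spec hl6 ω.isLt ho).1)

/-- elements of the stabiliser of the base point -/
theorem factor_K1 {g : P} (hg : g ∈ K 1) :
    ∃ ω1 ω2 : Fin 1755, inOrb 1 ω1.val = true ∧ inOrb 2 ω2.val = true ∧
      g = tr 1 ω1 * tr 2 ω2 := by
  have h1 : inOrb 1 (g (baseF 1)).val = true :=
    mem_orb.mp (apply_base_mem_orb (lvl := 1) (by norm_num) hg)
  set ω1 := g (baseF 1) with hω1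
  have ht1 : tr 1 ω1 ∈ K 1 := tr_mem (by norm_num) h1
  have hb1 : tr 1 ω1 (baseF 1) = ω1 := tr_apply_base (by norm_num) h1
  have hg2 : (tr 1 ω1)⁻¹ * g ∈ K 2 := by
    have hs : K 1 ⊓ MulAction.stabilizer P (baseF 1) = K 2 := stab_K_step (lvl := 1) (by norm_num)
    rw [← hs]
    refine Subgroup.mem_inf.mpr ⟨(K 1).mul_mem ((K 1).inv_mem ht1) hg,
      MulAction.mem_stabilizer_iff.mpr ?_⟩
    show ((tr 1 ω1)⁻¹ * g) (baseF 1) = baseF 1
    rw [Perm.mul_apply, ← hω1, Perm.inv_eq_iff_eq]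
    exact hb1.symm
  set g2 := (tr 1 ω1)⁻¹ * g with hg2def
  have h2 : inOrb 2 (g2 (baseF 2)).val = true :=
    mem_orb.mp (apply_base_mem_orb (lvl := 2) (by norm_num) hg2)
  set ω2 := g2 (baseF 2) with hω2
  have ht2 : tr 2 ω2 ∈ K 2 := tr_mem (by norm_num) h2
  have hb2 : tr 2 ω2 (baseF 2) = ω2 := tr_apply_base (by norm_num) h2
  have hg3 : (tr 2 ω2)⁻¹ * g2 ∈ K 6 := by
    have hs : K 2 ⊓ MulAction.stabilizer P (baseF 2) = K 6 := stab_K_step (lvl := 2) (by norm_num)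
    rw [← hs]
    refine Subgroup.mem_inf.mpr ⟨(K 2).mul_mem ((K 2).inv_mem ht2) hg2,
      MulAction.mem_stabilizer_iff.mpr ?_⟩
    show ((tr 2 ω2)⁻¹ * g2) (baseF 2) = baseF 2
    rw [Perm.mul_apply, ← hω2, Perm.inv_eq_iff_eq]
    exact hb2.symm
  rw [K6_eq, Subgroup.mem_bot] at hg3
  refine ⟨ω1, ω2, h1, h2, ?_⟩
  have e2 : g2 = tr 2 ω2 := by
    have := congrArg (fun z => tr 2 ω2 * z) hg3
    simpa using this
  have e1 : g = tr 1 ω1 * g2 := by
    rw [hg2def]; group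
  rw [e1, e2]

theorem witL_lt : ∀ x ∈ witL, x < 1755 := by decide

theorem mem_T_of_K1 {g : P} (hg : g ∈ K 1) (hgg : g * g = 1) : g ∈ T := by
  obtain ⟨ω1, ω2, h1, h2, rfl⟩ := factor_K1 hg
  have hc := Cl_mul (Cl_tr (Or.inl rfl) h1) (Cl_tr (Or.inr rfl) h2)
  have hchk := invCheck_all ω1.val ω1.isLt
  rw [invCheck, h1, Bool.not_true, Bool.false_or, withNat_eq, List.all_eq_true] at hchk
  have hmem : ω2.val ∈ orb2L := by
    have := allLt_sound orb2Check ω2.val ω2.isLt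
    rw [h2, Bool.not_true, Bool.false_or] at this
    exact List.contains_iff_mem.mp this
  have hk := hchk ω2.val hmem
  rw [withNat_eq, Bool.or_eq_true] at hk
  rcases hk with hk | hk
  · rw [Bool.not_eq_true'] at hk
    exact hc.2.1 hk
  · exfalso
    rw [List.any_eq_true] at hk
    obtain ⟨x, hx, hne⟩ := hk
    have hxlt := witL_lt x hx
    have hev : ∀ y : Fin 1755, evPair (codeOf 1 ω1.val) (codeOf 2 ω2.val) y.val =
        ((tr 1 ω1 * tr 2 ω2) y).val := by
      intro y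
      rw [Perm.mul_apply, tr_apply (by norm_num) h1, tr_apply (by norm_num) h2]
      rfl
    have h3 := hev ⟨x, hxlt⟩
    have h4 := hev ((tr 1 ω1 * tr 2 ω2) ⟨x, hxlt⟩)
    have h5 : (tr 1 ω1 * tr 2 ω2) ((tr 1 ω1 * tr 2 ω2) ⟨x, hxlt⟩) = ⟨x, hxlt⟩ := by
      rw [← Perm.mul_apply, hgg]; rfl
    rw [h5] at h4
    rw [← h3] at h4
    simp only at h4
    rw [h4] at hne
    simp at hne

theorem exists_fixed {g : P} (hgg : g * g = 1) : ∃ ω : Fin 1755, g ω = ω := by
  have : Fact (Nat.Prime 2) := ⟨Nat.prime_two⟩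
  have hp : g ^ 2 ^ 1 = 1 := by rw [pow_one, pow_two]; exact hgg
  have h := Equiv.Perm.card_compl_support_modEq hp
  rw [Fintype.card_fin] at h
  have hne : (g.supportᶜ).card ≠ 0 := by
    intro h0
    rw [h0] at h
    have : (0 : ℕ) % 2 = 1755 % 2 := h
    omega
  obtain ⟨ω, hω⟩ := Finset.card_pos.mp (Nat.pos_of_ne_zero hne)
  refine ⟨ω, ?_⟩
  rw [Finset.mem_compl, Equiv.Perm.mem_support, not_not] at hω
  exact hω

/-- every involution of `K 0` lies in `K 3` -/
theorem mem_T_of_sq {g : P} (hg : g ∈ G) (hgg : g * g = 1) : g ∈ T := by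
  obtain ⟨ω, hω⟩ := exists_fixed hgg
  have ho : inOrb 0 ω.val = true := inOrb0 ω
  have hh : tr 0 ω ∈ K 0 := tr_mem (by norm_num) ho
  have hb : tr 0 ω (baseF 0) = ω := tr_apply_base (by norm_num) ho
  set h := tr 0 ω with hdef
  have hg' : h⁻¹ * g * h ∈ K 1 := by
    have hs : K 0 ⊓ MulAction.stabilizer P (baseF 0) = K 1 := stab_K_step (lvl := 0) (by norm_num)
    rw [← hs]
    refine Subgroup.mem_inf.mpr ⟨(K 0).mul_mem ((K 0).mul_mem ((K 0).inv_mem hh) hg) hh,
      MulAction.mem_stabilizer_iff.mpr ?_⟩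
    show (h⁻¹ * g * h) (baseF 0) = baseF 0
    rw [Perm.mul_apply, Perm.mul_apply, hb, hω, Perm.inv_eq_iff_eq]
    exact hb.symm
  have hsq : (h⁻¹ * g * h) * (h⁻¹ * g * h) = 1 := by
    have e : (h⁻¹ * g * h) * (h⁻¹ * g * h) = h⁻¹ * (g * g) * h := by group
    rw [e, hgg]; group
  have hT := mem_T_of_K1 hg' hsq
  have := conj_mem_T hh hT
  have e : h * (h⁻¹ * g * h) * h⁻¹ = g := by group
  rwa [e] at this

/-- every element of order 2 of the abstract group lies in the derived subgroup -/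
theorem mem_comm_of_orderOf_two (g : G) (hg : orderOf g = 2) : g ∈ commutator G := by
  rw [comm_eq]
  have h1 : g ^ 2 = 1 := by rw [← hg]; exact pow_orderOf_eq_one g
  have h2 : g.1 * g.1 = 1 := by
    have := congrArg Subtype.val h1
    rw [pow_two] at this
    exact this
  exact Subgroup.mem_subgroupOf.mpr (mem_T_of_sq g.2 h2)

end Cfsg.Agent.Lib.Helper41_TiInv
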