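import Mathlib
import Cfsg.Prelude.Def_LieTwisted
import Cfsg.Agent.Lib.Helper41_TiComm
import Cfsg.Agent.Lib.Helper41_TiInv
import Cfsg.Agent.Lib.Helper41_TiBridge

/-!
# `²F₄(2)` and the Tits group: the results for the matrix group of the frozen definitions
(helper41)

Transfer along the isomorphism `bridge : Gm ≃* K 0` of `Helper41_TiBridge`: the derived subgroup of
`²F₄(2) = twistedF4 (ZMod 2) 1` has index 2, is simple of order `17971200`, and contains all
involutions.
-/

set_option autoImplicit false

namespace Cfsg.Agent.Lib.Helper41_TiMain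

open Cfsg.Agent.Lib.Helper41_TiPerm Cfsg.Agent.Lib.Helper41_TiSimple
  Cfsg.Agent.Lib.Helper41_TiComm Cfsg.Agent.Lib.Helper41_TiInv Cfsg.Agent.Lib.Helper41_TiBridge

section Transfer

variable {A B : Type*} [Group A] [Group B]

theorem map_commutator_equiv (e : A ≃* B) : (commutator A).map (e : A →* B) = commutator B := by
  rw [commutator_def, commutator_def, Subgroup.map_commutator,
    Subgroup.map_top_of_surjective (e : A →* B) e.surjective]

theorem index_commutator_equiv (e : A ≃* B) : (commutator A).index = (commutator B).index := by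
  rw [← Subgroup.index_map_equiv (commutator A) e, map_commutator_equiv]

/-- the derived subgroups of isomorphic groups -/
noncomputable def commutatorEquiv (e : A ≃* B) : ↥(commutator A) ≃* ↥(commutator B) :=
  (MulEquiv.subgroupMap e (commutator A)).trans (MulEquiv.subgroupCongr (map_commutator_equiv e))

theorem simple_commutator_equiv (e : A ≃* B) (h : IsSimpleGroup ↥(commutator B)) :
    IsSimpleGroup ↥(commutator A) :=
  (commutatorEquiv e).isSimpleGroup

theorem card_commutator_equiv (e : A ≃* B) : Nat.card ↥(commutator A) = Nat.card ↥(commutator B) :=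
  Nat.card_congr (commutatorEquiv e).toEquiv

theorem mem_commutator_equiv (e : A ≃* B) (h : ∀ g : B, orderOf g = 2 → g ∈ commutator B) (g : A)
    (hg : orderOf g = 2) : g ∈ commutator A := by
  have h1 : orderOf (e g) = 2 := by rw [MulEquiv.orderOf_eq]; exact hg
  have h2 := h (e g) h1
  rw [← map_commutator_equiv e] at h2
  obtain ⟨x, hx, hxe⟩ := h2
  have : x = g := e.injective hxe
  rw [← this]
  exact hx

theorem not_comm_of_simple {T : Type*} [Group T] (hs : IsSimpleGroup T)
    (hc : ¬ Nat.Prime (Nat.card T)) : ¬ IsMulCommutative T := by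
  intro h
  let _ : CommGroup T :=
    { (inferInstance : Group T) with mul_comm := fun a b => h.is_comm.comm a b }
  exact hc IsSimpleGroup.prime_card

end Transfer

theorem index_comm_Gm : (commutator Gm).index = 2 :=
  (@index_commutator_equiv ↥Gm ↥G (Subgroup.toGroup Gm) (Subgroup.toGroup G) bridge).trans
    index_comm

theorem simple_tits : IsSimpleGroup ↥(commutator Gm) :=
  @simple_commutator_equiv ↥Gm ↥G (Subgroup.toGroup Gm) (Subgroup.toGroup G) bridge simple_comm

theorem card_tits : Nat.card ↥(commutator Gm) = 17971200 :=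
  (@card_commutator_equiv ↥Gm ↥G (Subgroup.toGroup Gm) (Subgroup.toGroup G) bridge).trans
    card_comm

theorem not_comm_tits : ¬ IsMulCommutative ↥(commutator Gm) := by
  apply not_comm_of_simple simple_tits
  rw [card_tits]
  norm_num

theorem invol_mem (g : Gm) (hg : orderOf g = 2) : g ∈ commutator Gm :=
  @mem_commutator_equiv ↥Gm ↥G (Subgroup.toGroup Gm) (Subgroup.toGroup G) bridge
    mem_comm_of_orderOf_two g hg

end Cfsg.Agent.Lib.Helper41_TiMain
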