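import Mathlib
import Cfsg.Prelude.Def_LieTwisted
import Cfsg.Agent.Lib.Helper41_TiMain
import Cfsg.Agent.Lib.Helper41_Ti2Data
import Cfsg.Agent.Lib.Helper41_Ti2Abs

/-!
# The Tits group has no faithful doubly transitive action (helper41)

The certificate of `Helper41_Ti2Data` gives, in the Tits group `T = K 3` on 1755 points, a subgroup
of order 27 all of whose non-identity elements are conjugate to one element `h`, and the element
`x13` of order 13 with `h x13 h⁻¹ = x13³`; `Helper41_Ti2Abs.no_two_trans` and the isomorphism of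
`T` with the derived subgroup of `twistedF4 (ZMod 2) 1` do the rest.
-/

set_option autoImplicit false

namespace Cfsg.Agent.Lib.Helper41_Ti2Main

open Equiv
open Cfsg.Agent.Lib.Helper41_TiTab Cfsg.Agent.Lib.Helper41_TiLin Cfsg.Agent.Lib.Helper41_TiPerm
  Cfsg.Agent.Lib.Helper41_TiDet Cfsg.Agent.Lib.Helper41_TiChain Cfsg.Agent.Lib.Helper41_TiSimple
  Cfsg.Agent.Lib.Helper41_TiComm Cfsg.Agent.Lib.Helper41_TiBridge Cfsg.Agent.Lib.Helper41_TiMain
  Cfsg.Agent.Lib.Helper41_Ti2Data Cfsg.Agent.Lib.Helper41_Ti2Abs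

/-! ### elements of `T` as products of words of the levels 3, 4, 5 -/

/-- the product of three words -/
def mk (c3 c4 c5 : ℕ) : P := wordP 3 (digs9 c3) * wordP 4 (digs9 c4) * wordP 5 (digs9 c5)

theorem mk_mem {c3 c4 c5 : ℕ} (h3 : ok9 c3 = true) (h4 : ok9 c4 = true) (h5 : ok9 c5 = true) :
    mk c3 c4 c5 ∈ T :=
  T.mul_mem (T.mul_mem (word9_mem (by norm_num) h3) (K4_le (word9_mem (by norm_num) h4)))
    (K4_le (K5_le (word9_mem (by norm_num) h5)))

theorem mk_apply {c3 c4 c5 : ℕ} (h3 : ok9 c3 = true) (h4 : ok9 c4 = true) (h5 : ok9 c5 = true)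
    (x : Fin 1755) : (mk c3 c4 c5 x).val = ev9 3 c3 (ev9 4 c4 (ev9 5 c5 x.val)) := by
  rw [mk, Perm.mul_apply, Perm.mul_apply, word9_apply (by norm_num) h3,
    word9_apply (by norm_num) h4, word9_apply (by norm_num) h5]

theorem ok_all {i : ℕ} (hi : i < 27) : ok9 (e3 i) = true ∧ ok9 (e4 i) = true ∧ ok9 (e5 i) = true ∧
    ok9 (q3 i) = true ∧ ok9 (q4 i) = true ∧ ok9 (q5 i) = true := by
  have h := allLt_sound okChk i hi
  simp only [Bool.and_eq_true] at h
  exact ⟨h.1.1.1.1.1, h.1.1.1.1.2, h.1.1.1.2, h.1.1.2, h.1.2, h.2⟩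

/-- the `i`-th element of `R` -/
def elP (i : ℕ) : P := mk (e3 i) (e4 i) (e5 i)

/-- the `i`-th conjugating element -/
def cjP (i : ℕ) : P := mk (q3 i) (q4 i) (q5 i)

theorem elP_mem {i : ℕ} (hi : i < 27) : elP i ∈ T :=
  mk_mem (ok_all hi).1 (ok_all hi).2.1 (ok_all hi).2.2.1

theorem cjP_mem {i : ℕ} (hi : i < 27) : cjP i ∈ T :=
  mk_mem (ok_all hi).2.2.2.1 (ok_all hi).2.2.2.2.1 (ok_all hi).2.2.2.2.2

theorem elP_apply {i : ℕ} (hi : i < 27) (x : Fin 1755) : (elP i x).val = evE i x.val :=
  mk_apply (ok_all hi).1 (ok_all hi).2.1 (ok_all hi).2.2.1 x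

theorem cjP_apply {i : ℕ} (hi : i < 27) (x : Fin 1755) : (cjP i x).val = evQ i x.val :=
  mk_apply (ok_all hi).2.2.2.1 (ok_all hi).2.2.2.2.1 (ok_all hi).2.2.2.2.2 x

/-- two elements of `K 0` that agree on the 52 frame points are equal -/
theorem eq_of_agree {u v : P} (hu : u ∈ K 0) (hv : v ∈ K 0) (ρ σ : ℕ → ℕ)
    (hρ : ∀ x : Fin 1755, (u x).val = ρ x.val) (hσ : ∀ x : Fin 1755, (v x).val = σ x.val)
    (h : agree ρ σ = true) : u = v := by
  have h1 : v⁻¹ * u = 1 := by
    apply eq_one_of_fix ((K 0).mul_mem ((K 0).inv_mem hv) hu)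
    intro j hj
    have h2 := allLt_sound h j hj
    rw [withNat_eq] at h2
    have h3 := Nat.eq_of_beq_eq_true h2
    have h4 : u ⟨fpt j, fpt_lt hj⟩ = v ⟨fpt j, fpt_lt hj⟩ := by
      apply Fin.ext
      rw [hρ, hσ]
      exact h3
    rw [Perm.mul_apply, h4]
    exact congrArg Fin.val (v.symm_apply_apply _)
  calc u = v * (v⁻¹ * u) := by group
    _ = v := by rw [h1, mul_one]

theorem T_le_K0 : T ≤ K 0 := K_le_K0 3

theorem elP_zero : elP 0 = 1 := by
  apply eq_of_agree (T_le_K0 (elP_mem (by norm_num))) (K 0).one_mem (evE 0) (fun x => x)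
    (fun x => elP_apply (by norm_num) x) (fun x => rfl) oneChk

theorem mul_row {i : ℕ} (hi : i < 27) : elP i * elP 1 = elP (mA i) ∧ elP i * elP 2 = elP (mB i) := by
  have ht := allLt_sound tblChk i hi
  simp only [Bool.and_eq_true, Nat.blt_eq] at ht
  have hm : mulChk i (i + 1) = true := by
    rcases Nat.lt_or_ge i 9 with h | h
    · have := mulChk_1
      rw [mulChk, allIn, List.all_eq_true] at this ⊢
      intro x hx
      apply this x
      rw [List.mem_range'_1] at hx ⊢
      omega
    rcases Nat.lt_or_ge i 18 with h' | h'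
    · have := mulChk_2
      rw [mulChk, allIn, List.all_eq_true] at this ⊢
      intro x hx
      apply this x
      rw [List.mem_range'_1] at hx ⊢
      omega
    · have := mulChk_3
      rw [mulChk, allIn, List.all_eq_true] at this ⊢
      intro x hx
      apply this x
      rw [List.mem_range'_1] at hx ⊢
      omega
  have h := allIn_sound hm (le_refl i) (Nat.lt_succ_self i)
  simp only [Bool.and_eq_true] at h
  have m1 : elP 1 ∈ T := elP_mem (by norm_num)
  have m2 : elP 2 ∈ T := elP_mem (by norm_num)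
  constructor
  · apply eq_of_agree (T_le_K0 (T.mul_mem (elP_mem hi) m1)) (T_le_K0 (elP_mem ht.1))
      (fun x => evE i (evE 1 x)) (evE (mA i)) _ (fun x => elP_apply ht.1 x) h.1
    intro x
    rw [Perm.mul_apply, elP_apply hi, elP_apply (by norm_num)]
  · apply eq_of_agree (T_le_K0 (T.mul_mem (elP_mem hi) m2)) (T_le_K0 (elP_mem ht.2))
      (fun x => evE i (evE 2 x)) (evE (mB i)) _ (fun x => elP_apply ht.2 x) h.2
    intro x
    rw [Perm.mul_apply, elP_apply hi, elP_apply (by norm_num)]

theorem tbl_lt {i : ℕ} (hi : i < 27) : mA i < 27 ∧ mB i < 27 := by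
  have ht := allLt_sound tblChk i hi
  simp only [Bool.and_eq_true, Nat.blt_eq] at ht
  exact ht

theorem cj_row {i : ℕ} (h1 : 1 ≤ i) (hi : i < 27) : cjP i * elP 26 = elP i * cjP i := by
  have hm : cjChk i (i + 1) = true := by
    rcases Nat.lt_or_ge i 10 with h | h
    · have := cjChk_1
      rw [cjChk, allIn, List.all_eq_true] at this ⊢
      intro x hx
      apply this x
      rw [List.mem_range'_1] at hx ⊢
      omega
    rcases Nat.lt_or_ge i 19 with h' | h'
    · have := cjChk_2
      rw [cjChk, allIn, List.all_eq_true] at this ⊢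
      intro x hx
      apply this x
      rw [List.mem_range'_1] at hx ⊢
      omega
    · have := cjChk_3
      rw [cjChk, allIn, List.all_eq_true] at this ⊢
      intro x hx
      apply this x
      rw [List.mem_range'_1] at hx ⊢
      omega
  have h := allIn_sound hm (le_refl i) (Nat.lt_succ_self i)
  have m26 : elP 26 ∈ T := elP_mem (by norm_num)
  apply eq_of_agree (T_le_K0 (T.mul_mem (cjP_mem hi) m26))
    (T_le_K0 (T.mul_mem (elP_mem hi) (cjP_mem hi)))
    (fun x => evQ i (evE 26 x)) (fun x => evE i (evQ i x)) _ _ h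
  · intro x
    rw [Perm.mul_apply, cjP_apply hi, elP_apply (by norm_num)]
  · intro x
    rw [Perm.mul_apply, elP_apply hi, cjP_apply hi]

theorem t1_mem : letP 3 1 ∈ T := letP_mem (by norm_num) (by norm_num)

theorem h_g : elP 26 * letP 3 1 = letP 3 1 * letP 3 1 * letP 3 1 * elP 26 := by
  have m26 : elP 26 ∈ T := elP_mem (by norm_num)
  apply eq_of_agree (T_le_K0 (T.mul_mem m26 t1_mem))
    (T_le_K0 (T.mul_mem (T.mul_mem (T.mul_mem t1_mem t1_mem) t1_mem) m26))
    (fun x => evE 26 (apL 3 1 x)) (fun x => apL 3 1 (apL 3 1 (apL 3 1 (evE 26 x)))) _ _ hChk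
  · intro x
    rw [Perm.mul_apply, elP_apply (by norm_num), letP_apply (by norm_num) (by norm_num)]
  · intro x
    rw [Perm.mul_apply, Perm.mul_apply, Perm.mul_apply, letP_apply (by norm_num) (by norm_num),
      letP_apply (by norm_num) (by norm_num), letP_apply (by norm_num) (by norm_num),
      elP_apply (by norm_num)]

theorem elP_inj {i j : ℕ} (hi : i < 27) (hj : j < 27) (h : elP i = elP j) : i = j := by
  by_contra hne
  have h1 := allLt_sound (allLt_sound injChk i hi) j hj
  simp only [Bool.or_eq_true, Bool.not_eq_true'] at h1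
  rcases h1 with h1 | h1
  · exact hne (Nat.eq_of_beq_eq_true h1)
  · have h2 : evE i 0 = evE j 0 := by
      have := congrArg (fun p : P => (p (0 : Fin 1755)).val) h
      change (elP i 0).val = (elP j 0).val at this
      rw [elP_apply hi, elP_apply hj] at this
      exact this
    rw [h2] at h1
    have : Nat.beq (evE j 0) (evE j 0) = true := Nat.beq_refl _
    rw [this] at h1
    exact Bool.noConfusion h1

/-! ### the subgroup of order 27 -/

instance finite_T : Finite T := Nat.finite_of_card_ne_zero (by rw [card_T]; norm_num)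

/-- the elements of `R`, in `T` -/
noncomputable def elT (i : ℕ) : T := if h : i < 27 then ⟨elP i, elP_mem h⟩ else 1

theorem elT_val {i : ℕ} (hi : i < 27) : (elT i : P) = elP i := by
  rw [elT, dif_pos hi]

theorem elT_zero : elT 0 = 1 := by
  apply Subtype.ext
  rw [elT_val (by norm_num), elP_zero]
  rfl

theorem elT_mulA {i : ℕ} (hi : i < 27) : elT i * elT 1 = elT (mA i) := by
  apply Subtype.ext
  rw [Subgroup.coe_mul, elT_val hi, elT_val (by norm_num), elT_val (tbl_lt hi).1]
  exact (mul_row hi).1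

theorem elT_mulB {i : ℕ} (hi : i < 27) : elT i * elT 2 = elT (mB i) := by
  apply Subtype.ext
  rw [Subgroup.coe_mul, elT_val hi, elT_val (by norm_num), elT_val (tbl_lt hi).2]
  exact (mul_row hi).2

theorem elT_inj {i j : ℕ} (hi : i < 27) (hj : j < 27) (h : elT i = elT j) : i = j := by
  apply elP_inj hi hj
  rw [← elT_val hi, ← elT_val hj, h]

/-- the subgroup of order 27 -/
noncomputable def R : Subgroup T := Subgroup.closure {elT 1, elT 2}

theorem cubeA : elT 1 * elT 1 * elT 1 = 1 := by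
  rw [elT_mulA (by norm_num), show mA 1 = 3 from rfl, elT_mulA (by norm_num),
    show mA 3 = 0 from rfl, elT_zero]

theorem cubeB : elT 2 * elT 2 * elT 2 = 1 := by
  rw [elT_mulB (by norm_num), show mB 2 = 6 from rfl, elT_mulB (by norm_num),
    show mB 6 = 0 from rfl, elT_zero]

theorem invA : (elT 1)⁻¹ = elT 1 * elT 1 := by
  rw [inv_eq_iff_mul_eq_one, ← mul_assoc]
  exact cubeA

theorem invB : (elT 2)⁻¹ = elT 2 * elT 2 := by
  rw [inv_eq_iff_mul_eq_one, ← mul_assoc]
  exact cubeB

theorem exists_of_mem_R {x : T} (hx : x ∈ R) : ∃ i < 27, x = elT i := by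
  induction hx using Subgroup.closure_induction_right with
  | one => exact ⟨0, by norm_num, elT_zero.symm⟩
  | mul_right x _ y hy ih =>
    obtain ⟨i, hi, rfl⟩ := ih
    rcases hy with rfl | rfl
    · exact ⟨mA i, (tbl_lt hi).1, elT_mulA hi⟩
    · exact ⟨mB i, (tbl_lt hi).2, elT_mulB hi⟩
  | mul_inv_cancel x _ y hy ih =>
    obtain ⟨i, hi, rfl⟩ := ih
    rcases hy with rfl | rfl
    · refine ⟨mA (mA i), (tbl_lt (tbl_lt hi).1).1, ?_⟩
      rw [invA, ← mul_assoc, elT_mulA hi, elT_mulA (tbl_lt hi).1]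
    · refine ⟨mB (mB i), (tbl_lt (tbl_lt hi).2).2, ?_⟩
      rw [invB, ← mul_assoc, elT_mulB hi, elT_mulB (tbl_lt hi).2]

theorem elT_mem_R : ∀ i < 27, elT i ∈ R := by
  intro i
  induction i using Nat.strong_induction_on with
  | _ i ih =>
    intro hi
    rcases Nat.eq_zero_or_pos i with h0 | h0
    · rw [h0, elT_zero]
      exact R.one_mem
    · have h := allLt_sound parChk i hi
      simp only [Bool.or_eq_true, Bool.and_eq_true, Nat.blt_eq] at h
      rcases h with h | h
      · exact absurd (Nat.eq_of_beq_eq_true h) (by omega)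
      · obtain ⟨hlt, h | h⟩ := h
        · have hm : mA (pj i) = i := Nat.eq_of_beq_eq_true h.2
          have := elT_mulA (i := pj i) (by omega)
          rw [hm] at this
          rw [← this]
          exact R.mul_mem (ih _ hlt (by omega)) (Subgroup.subset_closure (by simp))
        · have hm : mB (pj i) = i := Nat.eq_of_beq_eq_true h.2
          have := elT_mulB (i := pj i) (by omega)
          rw [hm] at this
          rw [← this]
          exact R.mul_mem (ih _ hlt (by omega)) (Subgroup.subset_closure (by simp))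

theorem card_R : Nat.card R = 27 := by
  rw [← Nat.card_fin 27]
  symm
  apply Nat.card_congr
  refine Equiv.ofBijective (fun i : Fin 27 => (⟨elT i.val, elT_mem_R i.val i.isLt⟩ : R)) ⟨?_, ?_⟩
  · intro i j hij
    apply Fin.ext
    apply elT_inj i.isLt j.isLt
    exact congrArg Subtype.val hij
  · rintro ⟨x, hx⟩
    obtain ⟨i, hi, rfl⟩ := exists_of_mem_R hx
    exact ⟨⟨i, hi⟩, rfl⟩

/-- the element of order 3 -/
noncomputable def hT : T := elT 26

/-- the conjugating elements, in `T` -/
noncomputable def cjT (i : ℕ) : T := if h : i < 27 then ⟨cjP i, cjP_mem h⟩ else 1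

theorem conj_R : ∀ r ∈ R, r ≠ 1 → ∃ x : T, x * hT * x⁻¹ = r := by
  intro r hr hr1
  obtain ⟨i, hi, rfl⟩ := exists_of_mem_R hr
  have h1 : 1 ≤ i := by
    rcases Nat.eq_zero_or_pos i with h0 | h0
    · rw [h0, elT_zero] at hr1
      exact absurd rfl hr1
    · exact h0
  refine ⟨cjT i, ?_⟩
  have h2 : cjT i * hT = elT i * cjT i := by
    apply Subtype.ext
    rw [Subgroup.coe_mul, Subgroup.coe_mul, hT, elT_val (by norm_num), elT_val hi, cjT, dif_pos hi]
    exact cj_row h1 hi
  rw [h2]
  group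

theorem x13_ne_one : x13 ≠ 1 := by
  intro h
  have h1 := congrArg (fun t : T => ((t : P) (0 : Fin 1755)).val) h
  simp only [x13] at h1
  rw [letP_apply (by norm_num) (by norm_num)] at h1
  have h2 := gChk
  have h3 : apL 3 1 0 = 0 := h1
  rw [h3] at h2
  exact Bool.noConfusion h2

theorem conj_x13 : hT * x13 * hT⁻¹ = x13 ^ 3 := by
  have h1 : hT * x13 = x13 ^ 3 * hT := by
    apply Subtype.ext
    rw [Subgroup.coe_mul, Subgroup.coe_mul, Subgroup.coe_pow, hT, elT_val (by norm_num)]
    show elP 26 * letP 3 1 = letP 3 1 ^ 3 * elP 26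
    rw [h_g, pow_succ, pow_two]
  rw [h1]
  group

/-- the Tits group on 1755 points has no faithful doubly transitive action -/
theorem no_two_trans_T {Ω : Type*} [Fintype Ω] [MulAction T Ω] [FaithfulSMul T Ω]
    (hΩ : 3 ≤ Fintype.card Ω) : ¬ MulAction.IsMultiplyPretransitive T Ω 2 :=
  no_two_trans x13 hT x13_pow conj_x13 card_T x13_ne_one R card_R conj_R hΩ

/-- the isomorphism of the Tits group of the frozen definitions with `T` -/
noncomputable def titsEquiv : ↥(commutator Gm) ≃* T :=
  (@commutatorEquiv ↥Gm ↥G (Subgroup.toGroup Gm) (Subgroup.toGroup G) bridge).trans commEquiv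

/-- the Tits group has no faithful doubly transitive action -/
theorem no_two_trans_tits {Ω : Type*} [Fintype Ω] [MulAction ↥(commutator Gm) Ω]
    [FaithfulSMul ↥(commutator Gm) Ω] (hΩ : 3 ≤ Fintype.card Ω) :
    ¬ MulAction.IsMultiplyPretransitive ↥(commutator Gm) Ω 2 := by
  have : Finite ↥(commutator Gm) := Nat.finite_of_card_ne_zero (by rw [card_tits]; norm_num)
  let f : T →* ↥(commutator Gm) := titsEquiv.symm.toMonoidHom
  have hf : Function.Injective f := titsEquiv.symm.injective
  apply no_two_trans (f x13) (f hT) ?_ ?_ card_tits ?_ (R.map f) ?_ ?_ hΩ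
  · rw [← map_pow, x13_pow, map_one]
  · rw [← map_inv, ← map_mul, ← map_mul, conj_x13, map_pow]
  · intro h
    exact x13_ne_one (hf (h.trans (map_one f).symm))
  · rw [Subgroup.card_map_of_injective hf, card_R]
  · rintro r ⟨r0, hr0, rfl⟩ hr1
    obtain ⟨x, hx⟩ := conj_R r0 hr0 (fun h => hr1 (by rw [h, map_one]))
    exact ⟨f x, by rw [← map_inv, ← map_mul, ← map_mul, hx]⟩

end Cfsg.Agent.Lib.Helper41_Ti2Main
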