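import Mathlib
import Cfsg.Agent.Lib.Helper41_PCTDefs
import Cfsg.Agent.Lib.Helper41_PCTMain
import Cfsg.Agent.Lib.Helper41_PCTShape

/-!
# Helper41_TiM2Cert: the tail certificate for the parabolic subgroup `P₂ = 2².[2⁸].S₃` of the Tits
group (helper41; data and kernel checks)

Polycyclic generators `0 … 11` = `u₁, d, u₂u₈, v₂, u₃, u₄u₈, v₄, u₅, u₆u₈, v₆, u₇, v₈` (root elements
`uᵢ` of `²F₄(2)`, `vᵢ = uᵢ²`, `d` of order three) with relative orders `2, 3, 2, …, 2`.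
`rules`: the 12 power rules and 66 conjugation rules; `eqs`: 65 consistency certificates;
`conds`: the two conditions (`u₁² = 1`, `(u₇v₈)² = 1`); `Lm`, `Cm`: the certificate over `𝔽₂`.
-/

set_option autoImplicit false
set_option Elab.async false

namespace Cfsg.Agent.Lib.Helper41_TiM2Cert

open Cfsg.Agent.Lib.Helper41_PCTDefs Cfsg.Agent.Lib.Helper41_PCTMain
  Cfsg.Agent.Lib.Helper41_PCTShape

/-- the relative orders -/
def rr (i : ℕ) : ℕ := if i = 1 then 3 else 2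

/-- the rules -/
def rules : List Rule := [

  ([0, 0], []),
  ([1, 1, 1], []),
  ([2, 2], [3, 4, 5, 6, 8, 10]),
  ([3, 3], []),
  ([4, 4], []),
  ([5, 5], [6, 11]),
  ([6, 6], []),
  ([7, 7], []),
  ([8, 8], [9, 10, 11]),
  ([9, 9], []),
  ([10, 10], []),
  ([11, 11], []),
  ([1, 0], [0, 1, 1]),
  ([2, 0], [0, 3, 4, 6, 7, 8, 9, 10]),
  ([3, 0], [0, 3]),
  ([4, 0], [0, 4]),
  ([5, 0], [0, 2, 3, 4, 5, 7, 8, 10, 11]),
  ([6, 0], [0, 6]),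
  ([7, 0], [0, 7]),
  ([8, 0], [0, 2, 3, 4, 6, 7, 10]),
  ([9, 0], [0, 6, 9]),
  ([10, 0], [0, 4, 7, 10]),
  ([11, 0], [0, 3, 4, 5, 6, 7, 8, 9]),
  ([2, 1], [1, 3, 5, 6, 7, 9, 10]),
  ([3, 1], [1, 3, 4, 5, 6, 7, 8, 9]),
  ([4, 1], [1, 4, 7, 10]),
  ([5, 1], [1, 2, 3, 7, 8, 10, 11]),
  ([6, 1], [1, 6, 9]),
  ([7, 1], [1, 7]),
  ([8, 1], [1, 2, 3, 5, 7, 9, 11]),
  ([9, 1], [1, 6]),
  ([10, 1], [1, 4]),
  ([11, 1], [1, 3]),
  ([3, 2], [2, 3, 4, 6, 9]),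
  ([4, 2], [2, 4, 6, 7, 9]),
  ([5, 2], [2, 8, 10]),
  ([6, 2], [2, 6]),
  ([7, 2], [2, 6, 7, 9]),
  ([8, 2], [2, 4, 5, 6, 9]),
  ([9, 2], [2, 9]),
  ([10, 2], [2, 6, 7, 10]),
  ([11, 2], [2, 6, 9, 10, 11]),
  ([4, 3], [3, 4]),
  ([5, 3], [3, 4, 5, 7]),
  ([6, 3], [3, 6]),
  ([7, 3], [3, 7]),
  ([8, 3], [3, 4, 6, 7, 8, 9]),
  ([9, 3], [3, 9]),
  ([10, 3], [3, 6, 10]),
  ([11, 3], [3, 6, 7, 9, 11]),
  ([5, 4], [4, 5, 6, 7, 9]),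
  ([6, 4], [4, 6]),
  ([7, 4], [4, 7]),
  ([8, 4], [4, 7, 8]),
  ([9, 4], [4, 9]),
  ([10, 4], [4, 10]),
  ([11, 4], [4, 9, 11]),
  ([6, 5], [5, 6]),
  ([7, 5], [5, 7, 9]),
  ([8, 5], [5, 7, 8, 9, 10]),
  ([9, 5], [5, 9]),
  ([10, 5], [5, 9, 10]),
  ([11, 5], [5, 11]),
  ([7, 6], [6, 7]),
  ([8, 6], [6, 8]),
  ([9, 6], [6, 9]),
  ([10, 6], [6, 10]),
  ([11, 6], [6, 11]),
  ([8, 7], [7, 8, 9]),
  ([9, 7], [7, 9]),
  ([10, 7], [7, 10]),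
  ([11, 7], [7, 11]),
  ([9, 8], [8, 9]),
  ([10, 8], [8, 10]),
  ([11, 8], [8, 11]),
  ([10, 9], [9, 10]),
  ([11, 9], [9, 11]),
  ([11, 10], [10, 11])]

/-- the consistency certificates -/
def eqs : List Cons := [

  ([9, 9, 1], [(0, 9)], [(1, 30), (0, 30), (1, 6)]),
  ([10, 10, 1], [(0, 10)], [(1, 31), (0, 31), (1, 4)]),
  ([11, 11, 1], [(0, 11)], [(1, 32), (0, 32), (1, 3)]),
  ([5, 5, 5], [(0, 5), (1, 62), (0, 57)], [(1, 5)]),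
  ([7, 1, 1, 1], [(1, 1)], [(0, 28), (1, 28), (2, 28), (0, 1)]),
  ([8, 8, 8], [(0, 8), (2, 74), (1, 73), (0, 72)], [(1, 8)]),
  ([9, 7, 1], [(0, 69), (1, 30), (0, 28), (1, 63)], [(1, 28), (0, 30)]),
  ([10, 7, 1], [(0, 70), (1, 31), (0, 28), (1, 52)], [(1, 28), (0, 31)]),
  ([11, 7, 1], [(0, 71), (1, 32), (0, 28), (1, 45)], [(1, 28), (0, 32)]),
  ([10, 9, 1], [(0, 75), (1, 31), (0, 30), (1, 51)], [(1, 30), (0, 31)]),
  ([11, 9, 1], [(0, 76), (1, 32), (0, 30), (1, 44)], [(1, 30), (0, 32)]),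
  ([11, 10, 1], [(0, 77), (1, 32), (0, 31), (1, 42)], [(1, 31), (0, 32)]),
  ([1, 1, 1, 0], [(0, 1)], [(2, 12), (1, 12), (0, 12), (1, 1), (1, 1)]),
  ([9, 9, 0], [(0, 9)], [(1, 20), (0, 20), (2, 65), (1, 6), (1, 9)]),
  ([9, 0, 0], [(1, 0)], [(0, 20), (2, 20), (1, 17), (0, 0), (0, 6)]),
  ([10, 10, 3], [(0, 10)], [(1, 48), (0, 48), (2, 66), (1, 6), (1, 10)]),
  ([10, 3, 3], [(1, 3)], [(0, 48), (2, 48), (1, 44), (0, 3), (0, 6)]),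
  ([8, 4, 4], [(1, 4)], [(0, 53), (2, 53), (1, 52), (0, 4), (0, 7)]),
  ([11, 4, 4], [(1, 4)], [(0, 56), (2, 56), (1, 54), (0, 4), (0, 9)]),
  ([7, 7, 5], [(0, 7)], [(1, 58), (0, 58), (2, 69), (1, 7), (1, 9)]),
  ([10, 10, 5], [(0, 10)], [(1, 61), (0, 61), (2, 75), (1, 9), (1, 10)]),
  ([9, 3, 0], [(0, 47), (1, 20), (0, 14)], [(1, 14), (0, 20), (2, 47), (1, 44)]),
  ([11, 6, 1], [(0, 67), (1, 32), (0, 27), (2, 47), (1, 44)], [(1, 27), (0, 32)]),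
  ([6, 5, 2], [(0, 57), (1, 36), (0, 35), (2, 66), (1, 64)], [(1, 35), (0, 36)]),
  ([9, 5, 2], [(0, 60), (1, 39), (0, 35), (2, 75)], [(1, 35), (0, 39), (1, 72)]),
  ([10, 8, 4], [(0, 73), (1, 55), (0, 53)], [(1, 53), (0, 55), (1, 70), (2, 73)]),
  ([6, 5, 5], [(1, 5), (0, 6)], [(0, 57), (1, 57), (0, 5), (1, 67), (0, 6)]),
  ([5, 3, 3], [(1, 3)], [(0, 43), (3, 45), (2, 43), (1, 42), (0, 3), (0, 4), (1, 7)]),
  ([10, 8, 8], [(1, 8), (0, 75), (1, 10)], [(0, 73), (1, 73), (0, 8), (2, 77), (1, 10)]),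
  ([11, 8, 4], [(0, 74), (1, 56), (0, 53)], [(1, 53), (0, 56), (2, 71), (1, 69), (3, 74), (2, 72)]),
  ([11, 8, 5], [(0, 74), (1, 62), (0, 59)], [(1, 59), (0, 62), (1, 71), (2, 74), (3, 76), (4, 77)]),
  ([10, 10, 0], [(0, 10)], [(1, 21), (0, 21), (3, 55), (2, 52), (1, 4), (2, 70), (1, 7), (1, 10)]),
  ([10, 0, 0], [(1, 0)], [(0, 21), (3, 21), (2, 18), (1, 15), (0, 0), (1, 52), (0, 4), (0, 7)]),
  ([9, 1, 0], [(0, 30), (1, 17), (0, 12)], [(1, 12), (0, 20), (2, 30), (1, 27), (3, 65), (2, 6), (2, 30)]),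
  ([9, 5, 1], [(0, 60), (1, 30), (0, 26), (6, 67), (5, 66), (4, 64), (3, 63)], [(1, 26), (0, 30), (1, 36), (2, 44)]),
  ([5, 5, 2], [(0, 5), (1, 41), (0, 36), (1, 6)], [(1, 35), (0, 35), (2, 73), (1, 8), (3, 77), (2, 10), (2, 77)]),
  ([9, 2, 1], [(0, 39), (1, 30), (0, 23), (6, 66), (5, 65), (4, 63), (3, 6)], [(1, 23), (0, 30), (1, 44), (2, 57), (3, 6)]),
  ([10, 1, 0], [(0, 31), (1, 15), (0, 12)], [(1, 12), (0, 21), (3, 31), (2, 28), (1, 25), (4, 70), (3, 7), (3, 55), (2, 4), (2, 31)]),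
  ([11, 4, 1], [(0, 56), (2, 32), (1, 30), (0, 25), (3, 66), (2, 63), (4, 48), (3, 45), (2, 44), (1, 42), (4, 63), (3, 6)], [(1, 25), (0, 32)]),
  ([7, 5, 2], [(0, 58), (2, 39), (1, 37), (0, 35), (2, 66), (1, 64), (3, 70), (2, 68), (5, 75), (4, 9), (4, 75)], [(1, 35), (0, 37), (3, 72)]),
  ([10, 5, 3], [(0, 61), (2, 48), (1, 47), (0, 43), (4, 65), (3, 63)], [(1, 43), (0, 48), (2, 55), (1, 51), (3, 61), (2, 57), (5, 70), (4, 69)]),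
  ([8, 8, 4], [(0, 8), (2, 56), (1, 55), (0, 54), (2, 75), (1, 9)], [(1, 53), (0, 53), (2, 68), (1, 7), (2, 72), (1, 8), (3, 76), (2, 75), (1, 9)]),
  ([10, 5, 2], [(0, 61), (2, 40), (1, 39), (0, 35), (2, 75), (3, 66), (2, 65), (1, 64), (4, 70), (3, 69), (2, 68), (4, 9), (4, 10)], [(1, 35), (0, 40), (3, 73), (4, 10)]),
  ([10, 2, 1], [(0, 40), (3, 31), (2, 28), (1, 27), (0, 23), (6, 66), (5, 65), (4, 63), (3, 6), (5, 75), (4, 9), (4, 70), (3, 7), (3, 55), (2, 50)], [(1, 23), (0, 31), (1, 42)]),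
  ([5, 5, 3], [(0, 5), (1, 49), (0, 44), (1, 6)], [(1, 43), (0, 43), (3, 52), (2, 50), (1, 4), (4, 69), (3, 7), (3, 60), (2, 57), (1, 5), (2, 67), (1, 6), (1, 76), (2, 71), (1, 69)]),
  ([8, 4, 0], [(0, 53), (2, 19), (1, 18), (0, 15), (2, 37), (1, 34), (5, 65), (4, 63), (3, 6), (4, 69), (3, 7), (3, 9), (2, 42), (3, 4)], [(1, 15), (0, 19), (6, 55), (5, 52), (4, 51), (3, 4)]),
  ([10, 3, 1], [(0, 48), (2, 31), (1, 27), (0, 24), (7, 65), (6, 64), (5, 63), (4, 6), (6, 9), (5, 53), (4, 52), (3, 50), (2, 4), (5, 69), (4, 7), (4, 69), (5, 72)], [(1, 24), (0, 31), (1, 42), (2, 4)]),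
  ([7, 5, 1], [(0, 58), (2, 30), (1, 28), (0, 26), (6, 71), (5, 70), (4, 68), (3, 7), (6, 67), (5, 66), (4, 65), (3, 64)], [(1, 26), (0, 28), (1, 37), (4, 47), (3, 45), (2, 44), (5, 69), (4, 7), (4, 72)]),
  ([10, 8, 1], [(0, 73), (1, 31), (0, 29), (6, 56), (5, 54), (4, 52), (3, 50), (7, 69), (6, 7), (6, 9)], [(1, 29), (0, 31), (1, 34), (5, 47), (4, 45), (3, 44), (2, 42), (6, 60), (5, 58), (4, 57), (7, 9), (6, 7)]),
  ([7, 2, 1], [(0, 37), (3, 30), (2, 28), (1, 27), (0, 23), (6, 66), (5, 65), (4, 63), (3, 6), (5, 75), (4, 9), (4, 70), (3, 7), (3, 66)], [(1, 23), (0, 28), (1, 45), (2, 58), (4, 65), (3, 63), (5, 69), (4, 7), (4, 9)]),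
  ([11, 8, 1], [(0, 74), (1, 32), (0, 29), (6, 49), (5, 47), (4, 45), (3, 43), (2, 3), (4, 7), (4, 65), (5, 69), (6, 9)], [(1, 29), (0, 32), (1, 33), (5, 47), (4, 44), (3, 42), (2, 3), (4, 60), (3, 57), (5, 69), (6, 9)]),
  ([11, 5, 1], [(0, 62), (1, 32), (0, 26), (6, 49), (5, 48), (4, 46), (3, 45), (2, 3), (2, 52), (3, 63), (4, 7), (5, 65), (4, 64), (3, 6), (5, 66), (4, 65), (3, 64), (6, 70), (5, 69), (4, 68), (6, 9), (6, 75)], [(1, 26), (0, 32), (1, 33), (5, 47), (4, 44), (3, 42), (2, 3), (4, 69), (5, 72)]),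
  ([8, 8, 2], [(0, 8), (2, 41), (1, 40), (0, 39), (1, 65), (2, 69), (4, 66), (3, 65), (2, 63), (1, 6), (3, 75), (2, 9), (2, 10)], [(1, 38), (0, 38), (4, 54), (3, 51), (2, 50), (1, 4), (4, 65), (3, 63), (2, 6), (3, 9), (2, 58), (1, 5), (2, 71), (3, 76), (4, 67), (3, 65), (2, 63), (1, 6), (3, 76), (2, 9)]),
  ([11, 2, 1], [(0, 41), (4, 32), (3, 31), (2, 30), (1, 27), (0, 23), (6, 66), (5, 65), (4, 63), (3, 6), (5, 75), (4, 9), (4, 66), (3, 63), (5, 55), (4, 52), (3, 51), (2, 50), (6, 65), (5, 63), (4, 6), (5, 69), (4, 7), (5, 48), (4, 47), (3, 43), (2, 42), (1, 3), (1, 4), (3, 65), (2, 63)], [(1, 23), (0, 32), (1, 3)]),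
  ([2, 2, 2], [(0, 2), (5, 40), (4, 38), (3, 36), (2, 35), (1, 34), (0, 33), (4, 54), (3, 51), (2, 4), (3, 65), (2, 6), (2, 69), (3, 9), (4, 66), (3, 64), (2, 63), (5, 55), (4, 53), (3, 52), (2, 51), (4, 7), (5, 61), (4, 59), (3, 57), (8, 75), (7, 9), (7, 10), (6, 64), (5, 63), (4, 6), (6, 65), (5, 64), (4, 63), (7, 69), (6, 68), (5, 7), (6, 9)], [(1, 2)]),
  ([2, 0, 0], [(1, 0)], [(0, 13), (7, 21), (6, 20), (5, 19), (4, 18), (3, 17), (2, 15), (1, 14), (0, 0), (3, 37), (2, 36), (1, 34), (0, 33), (4, 54), (3, 51), (2, 4), (3, 65), (2, 6), (2, 69), (3, 9), (2, 63), (3, 63), (2, 6), (2, 7), (2, 47), (1, 3), (1, 54), (2, 65), (3, 69), (5, 66), (4, 65), (3, 63), (2, 6), (4, 75), (3, 9), (3, 55), (2, 52), (1, 4), (2, 70), (1, 7), (1, 10)]),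
  ([11, 11, 0], [(0, 11)], [(1, 22), (0, 22), (7, 47), (6, 46), (5, 45), (4, 44), (3, 43), (2, 42), (1, 3), (1, 4), (2, 63), (3, 7), (2, 51), (1, 50), (5, 65), (4, 63), (3, 6), (4, 65), (3, 63), (5, 69), (4, 7), (4, 72), (5, 9), (5, 54), (4, 53), (3, 51), (2, 50), (1, 4), (4, 65), (3, 63), (2, 6), (3, 69), (2, 7), (2, 72), (3, 9), (2, 59), (1, 5), (2, 71), (3, 74), (4, 76), (5, 77), (6, 67), (5, 66), (4, 65), (3, 64), (2, 63), (1, 6), (5, 71), (4, 70), (3, 69), (2, 68), (1, 7), (2, 9), (3, 74), (2, 73), (1, 8), (3, 77), (2, 10), (2, 11), (1, 9)]),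
  ([8, 2, 0], [(0, 38), (4, 20), (3, 17), (2, 16), (1, 15), (0, 13), (7, 55), (6, 54), (5, 53), (4, 52), (3, 51), (2, 4), (3, 7), (5, 40), (4, 39), (3, 38), (2, 36), (1, 33), (5, 65), (4, 6), (4, 54), (3, 4), (3, 60), (4, 65), (5, 9), (5, 65), (4, 6), (4, 69), (6, 48), (5, 47), (4, 45), (3, 43), (2, 3), (4, 7), (4, 65), (6, 55), (5, 54), (4, 51), (3, 50), (2, 4), (5, 65), (4, 63), (3, 6), (4, 9), (4, 61), (3, 58), (2, 5), (3, 71), (4, 76), (5, 76), (4, 9), (4, 77), (5, 71), (4, 70), (3, 7), (4, 74), (3, 73), (5, 77), (4, 10), (4, 11), (3, 64), (2, 6), (2, 64)], [(1, 13), (0, 19), (6, 48), (5, 45), (4, 44), (3, 42), (2, 3), (4, 63), (3, 6), (4, 55), (3, 52), (2, 4), (3, 66), (2, 63), (4, 70), (3, 7), (3, 73), (4, 75), (5, 10)]),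
  ([8, 2, 1], [(0, 38), (4, 30), (3, 27), (2, 26), (1, 25), (0, 23), (6, 55), (5, 54), (4, 52), (3, 51), (2, 50), (6, 65), (5, 63), (4, 6), (5, 69), (4, 7), (4, 9), (4, 70), (5, 10), (4, 37), (3, 35), (2, 34), (1, 33), (5, 54), (4, 51), (3, 4), (4, 65), (3, 6), (3, 69), (4, 9), (5, 66), (4, 64), (3, 63), (6, 70), (5, 68), (4, 7), (6, 75), (5, 9), (5, 48), (4, 46), (3, 44), (2, 3), (2, 51), (3, 6), (5, 65), (4, 64), (3, 63), (7, 70), (6, 69), (5, 68), (4, 7), (5, 9), (5, 73), (4, 8), (6, 77), (5, 10), (5, 77), (6, 11), (5, 66), (4, 65), (3, 6), (4, 75), (3, 9), (3, 66)], [(1, 23), (0, 29), (6, 49), (5, 47), (4, 45), (3, 43), (2, 3), (4, 7), (4, 65), (5, 69), (6, 9), (6, 62), (5, 58), (4, 57), (3, 5), (4, 67), (3, 6), (3, 71), (4, 76), (5, 11), (4, 65), (3, 63), (5, 69), (4, 7), (4, 9)]),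
  ([8, 8, 1], [(0, 8), (2, 32), (1, 31), (0, 30), (1, 51), (2, 44), (1, 42)], [(1, 29), (0, 29), (6, 41), (5, 39), (4, 37), (3, 35), (2, 33), (1, 2), (6, 48), (5, 46), (4, 44), (3, 43), (2, 42), (1, 3), (1, 4), (2, 63), (3, 52), (2, 51), (1, 50), (5, 65), (4, 63), (3, 6), (4, 69), (3, 7), (3, 65), (4, 69), (5, 72), (6, 9), (5, 64), (4, 63), (3, 6), (5, 55), (4, 53), (3, 52), (2, 50), (1, 4), (4, 69), (3, 7), (3, 69), (4, 72), (6, 66), (5, 65), (4, 64), (3, 63), (2, 6), (5, 75), (4, 9), (4, 73), (3, 8), (5, 77), (4, 10), (4, 77), (5, 67), (4, 66), (3, 65), (2, 63), (6, 71), (5, 70), (4, 69), (3, 7), (5, 76), (4, 75), (3, 9), (4, 76), (3, 75), (5, 67), (4, 66), (3, 65), (2, 6), (4, 76), (3, 75), (2, 9), (3, 77), (2, 10), (2, 11), (1, 43), (4, 58), (3, 5), (4, 71), (5, 76), (6, 71), (5, 69), (4, 7), (5, 76), (4, 9), (4, 11)]),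
  ([11, 2, 0], [(0, 41), (4, 22), (3, 21), (2, 20), (1, 17), (0, 13), (7, 66), (6, 65), (5, 64), (4, 63), (3, 6), (6, 66), (5, 65), (4, 64), (3, 63), (7, 75), (6, 9), (6, 55), (5, 53), (4, 52), (3, 51), (2, 4), (3, 7), (4, 70), (3, 68), (6, 10), (5, 47), (4, 46), (3, 45), (2, 44), (1, 3), (2, 52), (1, 51), (3, 63), (2, 6), (2, 7), (3, 9), (2, 53), (1, 4), (2, 59), (1, 58), (3, 69), (2, 7), (2, 72), (3, 9), (3, 66), (2, 64), (4, 70), (3, 68), (6, 73), (5, 72), (4, 8), (6, 76), (5, 75), (4, 9), (5, 77), (4, 10), (4, 76)], [(1, 13), (0, 22), (7, 47), (6, 46), (5, 45), (4, 44), (3, 43), (2, 42), (1, 3), (1, 4), (2, 63), (3, 7), (2, 51), (1, 50), (5, 65), (4, 63), (3, 6), (4, 65), (3, 63), (5, 69), (4, 7), (4, 72), (5, 9), (5, 54), (4, 53), (3, 51), (2, 50), (1, 4), (4, 65), (3, 63), (2, 6), (3, 69), (2, 7), (2, 72), (3, 9), (2, 64), (3, 68), (5,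 72), (4, 8), (6, 76), (5, 75), (4, 9), (5, 76), (4, 75), (6, 77), (5, 10)]),
  ([5, 1, 1, 1], [(1, 1)], [(0, 26), (6, 32), (5, 31), (4, 29), (3, 28), (2, 24), (1, 23), (7, 48), (6, 47), (5, 45), (4, 44), (3, 43), (2, 3), (4, 63), (5, 7), (5, 65), (4, 6), (5, 55), (4, 54), (3, 50), (2, 4), (5, 9), (5, 61), (4, 58), (3, 57), (2, 5), (3, 67), (2, 6), (2, 71), (3, 76), (4, 76), (3, 9), (3, 77), (4, 67), (3, 66), (2, 63), (5, 71), (4, 70), (3, 7), (4, 74), (3, 73), (5, 76), (4, 75), (6, 71), (5, 70), (4, 69), (3, 68), (5, 9), (6, 41), (5, 40), (4, 38), (3, 37), (2, 36), (3, 6), (4, 54), (3, 52), (5, 60), (4, 58), (6, 9), (5, 63), (7, 65), (6, 63), (5, 6), (6, 69), (5, 7), (6, 66), (5, 65), (7, 75), (6, 9), (6, 10), (6, 49), (5, 44), (4, 43), (3, 42), (4, 4), (5, 63), (6, 63), (5, 6), (5, 7), (6, 62), (5, 60), (4, 5), (5, 76), (6, 11), (5, 69), (6,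 9), (6, 56), (5, 52), (4, 51), (8, 49), (7, 47), (6, 45), (5, 44), (4, 42), (3, 3), (6, 65), (5, 63), (4, 6), (5, 69), (4, 7), (4, 9), (4, 32), (3, 25), (2, 23), (0, 1), (5, 55), (4, 54), (3, 52), (2, 51), (1, 50), (5, 65), (4, 63), (3, 6), (4, 69), (3, 7), (3, 9), (3, 70), (4, 10), (3, 45), (2, 43), (1, 42), (0, 3), (0, 4), (1, 7)]),
  ([11, 1, 0], [(0, 32), (1, 14), (0, 12)], [(1, 12), (0, 22), (7, 30), (6, 29), (5, 28), (4, 27), (3, 26), (2, 25), (1, 24), (8, 54), (7, 53), (6, 52), (5, 51), (4, 50), (3, 4), (6, 65), (5, 63), (4, 6), (5, 69), (4, 7), (4, 69), (5, 72), (6, 9), (5, 68), (4, 7), (6, 40), (5, 39), (4, 38), (3, 35), (2, 33), (6, 72), (8, 55), (7, 54), (6, 53), (5, 51), (4, 4), (8, 61), (7, 60), (6, 59), (5, 58), (4, 57), (7, 69), (6, 7), (6, 72), (7, 9), (7, 75), (8, 75), (7, 9), (7, 10), (6, 64), (5, 6), (6, 9), (5, 64), (6, 68),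 (9, 48), (8, 47), (7, 46), (6, 45), (5, 44), (4, 43), (3, 3), (5, 63), (6, 7), (5, 51), (4, 50), (3, 4), (6, 65), (5, 63), (4, 6), (5, 65), (4, 63), (6, 69), (5, 7), (5, 72), (6, 9), (6, 65), (5, 64), (4, 6), (6, 70), (5, 69), (4, 68), (6, 9), (6, 73), (5, 8), (7, 77), (6, 10), (6, 77), (7, 11), (6, 66), (5, 65), (4, 63), (7, 75), (6, 9), (6, 70), (5, 7), (5, 40), (4, 36), (3, 35), (2, 2), (7, 73), (6, 8), (8, 77), (7, 10), (7, 77), (8, 67), (7, 66), (6, 65), (5, 6), (7, 67), (6, 66), (5, 65), (8, 71), (7, 70), (6, 69), (9, 77), (8, 10), (8, 49), (7, 47), (6, 45), (5, 44), (4, 43), (3, 42), (2, 3), (2, 4), (3, 63), (4, 7), (4, 65), (3, 6), (3, 69), (4, 9), (4, 62), (3, 58), (2, 5), (3, 71), (4, 76), (5, 11), (4, 69), (3, 7), (3, 9), (3, 67), (2, 6), (2, 32)]),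
  ([5, 5, 0], [(0, 5), (1, 22), (0, 17), (1, 44), (2, 51), (3, 57), (4, 6)], [(1, 16), (0, 16), (8, 41), (7, 40), (6, 38), (5, 37), (4, 35), (3, 34), (2, 33), (1, 2), (6, 48), (5, 46), (4, 44), (3, 43), (2, 42), (1, 3), (1, 4), (2, 63), (3, 52), (2, 51), (1, 50), (5, 65), (4, 63), (3, 6), (4, 69), (3, 7), (3, 65), (4, 69), (5, 72), (6, 9), (5, 64), (4, 63), (3, 6), (5, 55), (4, 53), (3, 52), (2, 50), (1, 4), (4, 69), (3, 7), (3, 69), (4, 72), (6, 66), (5, 65), (4, 64), (3, 63), (2, 6), (5, 75), (4, 9), (4, 55), (3, 53), (2, 52), (1, 50), (5, 69), (4, 7), (4, 69), (5, 72), (7, 66), (6, 65), (5, 64), (4, 63), (3, 6), (6, 70), (5, 69), (4, 68), (3, 7), (4, 9), (4, 75), (5, 73), (4, 72), (3, 8), (5, 76), (4, 75), (3, 9), (4, 77), (3, 10), (3, 77), (4, 67), (3, 66), (5, 71), (4, 70), (6, 76), (5, 75), (7, 56), (6, 55), (5, 54), (4, 52), (3, 51),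 (2, 50), (1, 4), (4, 65), (3, 63), (2, 6), (3, 69), (2, 7), (2, 9), (2, 75), (4, 62), (3, 61), (2, 60), (1, 5), (2, 76), (3, 76), (2, 9), (2, 77), (3, 11), (2, 66), (1, 6), (1, 75), (2, 66), (1, 65), (3, 70), (2, 69), (4, 10), (3, 65), (2, 63), (1, 6), (2, 9), (3, 49), (2, 48), (1, 45), (2, 63), (4, 66), (3, 63), (2, 6), (3, 70), (2, 7), (2, 75), (4, 56), (3, 55), (2, 54), (4, 75), (3, 9), (4, 62), (3, 61), (6, 71), (5, 70), (4, 69), (7, 74), (6, 73), (5, 72), (8, 77), (7, 10), (7, 11)]),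
  ([8, 1, 0], [(0, 29), (6, 22), (5, 20), (4, 18), (3, 16), (2, 14), (1, 13), (0, 12), (9, 48), (8, 47), (7, 46), (6, 45), (5, 44), (4, 42), (3, 3), (5, 52), (4, 51), (3, 4), (4, 63), (3, 6), (3, 7), (4, 9), (3, 64), (5, 40), (4, 38), (3, 36), (4, 51), (5, 57), (6, 6), (6, 65), (7, 69), (9, 48), (8, 47), (7, 45), (6, 44), (5, 43), (4, 42), (5, 4), (6, 63), (7, 7), (7, 65), (6, 6), (7, 55), (6, 54), (5, 50), (9, 9), (9, 61), (8, 58), (7, 57), (6, 5), (7, 67), (6, 6), (6, 71), (7, 76), (8, 76), (7, 9), (7, 77), (8, 71), (7, 70), (6, 7), (7, 74), (6, 73), (8, 77), (7, 10), (7, 11), (6, 68), (8, 65), (7, 64), (6, 63), (9, 9), (8, 46), (7, 45), (6, 44), (5, 42), (4, 3), (6, 52), (5, 51), (4, 4), (5, 63), (4, 6), (4, 7), (5, 54), (4, 53), (7, 60), (6, 59), (5, 58), (7, 69), (6, 7), (6, 72), (7, 9), (7, 75), (8, 66), (7, 65), (6, 64), (9, 70), (8,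 69), (7, 68), (9, 9), (9, 73), (8, 8), (10, 77), (9, 10), (9, 76), (8, 9)], [(1, 12), (0, 19), (6, 31), (5, 28), (4, 27), (3, 25), (2, 24), (1, 23), (7, 48), (6, 47), (5, 45), (4, 44), (3, 43), (2, 3), (4, 63), (5, 7), (5, 65), (4, 6), (5, 55), (4, 54), (3, 50), (2, 4), (5, 9), (5, 61), (4, 58), (3, 57), (2, 5), (3, 67), (2, 6), (2, 71), (3, 76), (4, 76), (3, 9), (3, 77), (4, 67), (3, 66), (2, 63), (5, 71), (4, 70), (3, 7), (4, 74), (3, 73), (5, 76), (4, 75), (6, 56), (5, 55), (4, 54), (3, 53), (2, 51), (7, 75), (6, 9), (7, 71), (6, 70), (5, 68), (4, 7), (7, 77), (6, 10), (6, 67), (5, 65), (4, 64), (3, 6), (5, 76), (4, 9), (4, 71), (3, 68), (6, 56), (5, 54), (4, 53), (3, 52), (2, 4), (2, 7), (3, 9), (3, 32), (2, 29), (8, 49), (7, 47), (6, 45), (5, 43), (4, 3), (6, 7), (6, 65), (7, 69), (8, 9)])]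

/-- the conditions -/
def conds : List Cond := [

  ([0, 0], [(0, 0)]),
  ([10, 11, 10, 11], [(1, 77), (0, 10), (0, 11)])]

/-- the generalised inverse of the coboundary map -/
def Lm : List ℕ := [0, 4096, 295147975827806748672, 279181328384, 1196268651020288, 586664220746121216, 295158038278514409472, 9007199254740992, 577586927625109504, 295147905179352825856, 295733373130910990336, 274886361088]

/-- the combinations of the equations -/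
def Cm : List (List ℕ) := [
  [65],
  [12],
  [1, 2, 4, 5, 8, 9, 11, 17, 19, 21, 22, 24, 25, 27, 29, 31, 34, 37, 42, 47, 48, 49, 50, 52, 53, 55, 58, 61, 63, 64, 66],
  [0, 1, 2, 7, 8, 10, 11, 16, 17, 20, 25, 27, 28, 30, 66],
  [7, 8, 10, 11, 17, 21, 25, 27, 30],
  [0, 1, 3, 10, 11, 13, 15, 17, 20, 21, 22, 23, 25, 27, 31, 36, 37, 38, 39, 43, 49, 51, 52, 54, 55, 58, 59, 61, 63, 64],
  [16, 21],
  [7, 17, 25],
  [0, 1, 2, 5, 9, 13, 15, 18, 19, 20, 22, 24, 25, 29, 36, 37, 38, 39, 40, 43, 46, 47, 50, 52, 54, 55, 56, 58, 59, 61, 63, 64, 66],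
  [0, 16, 21],
  [1, 7, 8, 10, 11, 17, 21, 25, 27, 30],
  [0, 1, 7, 8, 10, 11, 16, 17, 20, 25, 27, 28, 30, 66],
  [],
  [5, 9, 11, 14, 16, 17, 18, 20, 21, 23, 24, 33, 34, 36, 37, 39, 43, 44, 45, 46, 49, 52, 53, 56, 57, 58, 59, 60, 62, 64],
  [4, 5, 6, 10, 14, 15, 18, 19, 23, 26, 27, 28, 35, 40, 41, 42, 43, 44, 46, 50, 53, 54, 61, 62, 63, 66],
  [0, 4, 7, 9, 10, 13, 22, 27, 28, 29, 30, 31, 32, 34, 35, 38, 39, 40, 43, 45, 46, 47, 48, 52],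
  [],
  [14, 16, 21],
  [0, 4, 8, 9, 11, 13, 21, 22, 25, 28, 29, 31, 34, 35, 38, 39, 40, 43, 45, 46, 47, 48, 52],
  [0, 3, 4, 6, 7, 9, 10, 11, 13, 16, 18, 20, 23, 24, 28, 31, 32, 33, 34, 37, 38, 41, 42, 44, 45, 47, 48, 49, 50, 51, 52, 54, 55, 57, 58, 59, 61, 63, 64, 66],
  [0, 7, 8, 9, 13, 14, 18, 19, 22, 23, 26, 28, 30, 33, 38, 40, 41, 46],
  [0, 2, 4, 9, 11, 19, 23, 25, 26, 31, 33, 36, 38, 41, 43, 46, 47, 49, 52, 56, 60, 66],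
  [0, 4, 5, 6, 8, 10, 11, 13, 14, 17, 21, 25, 26, 27, 29, 34, 35, 36, 41, 43, 44, 48, 53, 59, 63],
  [],
  [1, 4, 5, 8, 10, 13, 15, 16, 20, 23, 24, 28, 30, 36, 39, 41, 44, 46, 47, 49, 53, 54, 56, 58, 61, 66],
  [0, 1, 4, 6, 8, 11, 15, 16, 20, 22, 24, 25, 28, 32, 33, 36, 37, 38, 39, 45, 47, 48, 53, 60],
  [0, 2, 3, 4, 6, 7, 9, 11, 13, 15, 16, 18, 21, 22, 25, 26, 28, 30, 31, 32, 33, 35, 37, 38, 40, 42, 44, 45, 46, 48, 52, 53, 54, 56, 58, 60, 66],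
  [0, 6, 7, 8, 9, 10, 11, 19, 23, 25, 26, 27, 29, 30, 31, 40, 47, 49],
  [4],
  [],
  [6, 10, 11, 16, 18, 21, 22, 25, 27, 28, 29, 31, 38, 41, 46, 47, 49],
  [0, 1, 2, 6, 8, 10, 13, 15, 16, 19, 20, 23, 24, 25, 26, 27, 29, 30, 31, 34, 35, 38, 40, 41, 47, 49, 53, 56, 66],
  [],
  [3, 7, 10, 11, 16, 21, 24, 27, 28, 44, 46, 47, 49, 51],
  [4, 9, 10, 11, 13, 15, 17, 18, 20, 21, 25, 26, 27, 28, 34, 35, 36, 41, 43, 47, 48, 49, 52],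
  [0, 1, 3, 4, 7, 8, 9, 10, 11, 15, 16, 18, 21, 22, 23, 24, 26, 27, 29, 30, 34, 39, 40, 41, 42, 43, 44, 46, 48, 51, 54],
  [0, 7, 8, 9, 11, 13, 20, 22, 23, 24, 25, 27, 28, 29, 31, 34, 40],
  [6, 7, 9, 13, 15, 16, 18, 20, 22, 26, 28, 29, 30, 36, 38, 39, 40, 41, 46, 49],
  [],
  [7, 8, 9, 10, 11, 15, 16, 19, 20, 22, 25, 26, 27, 30, 31, 36, 40],
  [0, 4, 7, 9, 11, 13, 15, 16, 17, 23, 25, 26, 28, 29, 40, 43, 47, 49],
  [1, 2, 3, 4, 5, 8, 11, 16, 20, 21, 22, 23, 24, 25, 26, 28, 29, 30, 39, 40, 43, 46, 50, 51, 52, 56, 66],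
  [0, 11, 16, 20, 21, 28],
  [3, 4, 5, 7, 8, 11, 16, 17, 18, 23, 25, 27, 28, 34, 35, 39, 40, 43, 46, 50, 51, 52],
  [21],
  [0, 8, 10, 16, 20, 28, 30],
  [],
  [21, 22, 26],
  [0, 6, 10, 11, 15, 17, 19, 20, 21, 22, 30, 46, 47, 49],
  [0, 6, 9, 10, 13, 19, 21, 22, 24, 29, 31, 40, 44],
  [],
  [0, 9, 16, 20, 21],
  [7, 25],
  [],
  [0, 16, 18, 21],
  [7, 8, 10, 11, 21, 27, 30, 31],
  [0, 8, 10, 11, 16, 17, 18, 19, 20, 25, 27, 28, 29, 31, 41],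
  [0, 6, 7, 8, 9, 10, 11, 13, 20, 22, 25, 26, 27, 30, 31, 40],
  [6, 10, 13, 15, 20, 23, 25, 28, 29, 30, 36, 39],
  [],
  [0, 10, 16, 19, 24, 28, 29, 30],
  [0, 4, 6, 8, 13, 15, 16, 18, 19, 20, 24, 26, 27, 29, 34, 35, 36, 39, 40, 42, 43, 47, 49, 52],
  [0, 3, 6, 7, 8, 9, 10, 11, 13, 20, 22, 25, 26, 27, 30, 31, 40],
  [0, 6, 16, 19, 21],
  [0, 6, 7, 8, 9, 10, 11, 13, 15, 16, 20, 21, 22, 23, 25, 26, 27, 30, 31, 40],
  [13, 16, 21],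
  [15, 16, 21],
  [26],
  [],
  [0, 16, 19, 21],
  [25],
  [0, 10, 16, 20, 28, 30],
  [10, 19, 20, 21, 28, 29, 30],
  [0, 4, 8, 13, 18, 19, 23, 24, 25, 26, 27, 29, 34, 35, 39, 40, 43, 47, 49, 52],
  [0, 4, 5, 8, 10, 13, 18, 20, 21, 23, 24, 25, 26, 27, 28, 30, 34, 35, 39, 40, 43, 47, 49, 52],
  [0, 16, 20, 21],
  [10, 21],
  [0, 16, 20, 21, 28]]


theorem shapeChk : pcShape rules 12 rr = true := by decide +kernel

theorem eqsChk : eqs.all (consOk rules) = true := by decide +kernel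

theorem condsChk : conds.all (condOk rules) = true := by decide +kernel

theorem linChk : linOk rules (eqMasks eqs conds) Lm Cm = true := by decide +kernel

theorem heqs : ∀ e ∈ eqs, consOk rules e = true := List.all_eq_true.mp eqsChk

theorem hconds : ∀ c ∈ conds, condOk rules c = true := List.all_eq_true.mp condsChk

end Cfsg.Agent.Lib.Helper41_TiM2Cert
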