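import Mathlib
import Cfsg.Agent.Lib.Helper41_TiTab
import Cfsg.Agent.Lib.Helper41_TiLin
import Cfsg.Agent.Lib.Helper41_Ti2Data
import Cfsg.Agent.Lib.Helper41_PCTDefs
import Cfsg.Agent.Lib.Helper41_TiM2Cert

/-!
# Helper41_TiM2Data: elements of the Tits group for the computation of its Schur multiplier
(helper41; data and kernel checks)

Elements of the Tits group `T = K 3` on 1755 points, as products of words of the levels `3, 4, 5`:
`0 … 11` the polycyclic generators of the parabolic subgroup `P₂` of order 6144 (see
`Helper41_TiM2Cert`), `12 … 18` elements conjugating `u₁` (number `0`) to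
`u₃, u₅, u₁u₃, u₁u₅, u₃u₅, u₁u₃u₅, u₇v₈`, `19, 20, 21` elements `x, y, t` with `x⁵ = y⁵ = 1`,
`xy = yx`, `tx = xt`, `tyt⁻¹ = y⁻¹`, and `22 … 25` elements `x, y, h₁, h₂` generating `3¹⁺² : 2²`.
-/

set_option autoImplicit false
set_option Elab.async false

namespace Cfsg.Agent.Lib.Helper41_TiM2Data

open Cfsg.Agent.Lib.Helper41_TiTab Cfsg.Agent.Lib.Helper41_TiLin Cfsg.Agent.Lib.Helper41_Ti2Data
  Cfsg.Agent.Lib.Helper41_PCTDefs Cfsg.Agent.Lib.Helper41_TiM2Cert

/-- the level 3 words -/
def c3 : List ℕ := [0, 2503835, 0, 0, 0, 0, 0, 0, 0, 0, 0, 0, 148257, 37970, 562401, 1124, 136332, 861833, 17033, 0, 41626, 13971, 284, 78930, 894682, 894682]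

/-- the level 4 words -/
def c4 : List ℕ := [2396955, 311881, 636684, 38026, 70881, 637002, 107082, 1178, 856860, 42633, 668, 79505, 18057, 42779, 596188, 4528204, 74505, 1091227, 79628, 2701385, 566939, 50899, 136411, 70876, 332387, 9875]

/-- the level 5 words -/
def c5 : List ℕ := [5201, 5201, 0, 5201, 1, 1105, 1105, 2, 2, 650, 1105, 650, 5201, 5201, 81, 10, 81, 2, 138, 10, 81, 2, 81, 81, 17, 138]

def a3 (i : ℕ) : ℕ := c3.getD i 0

def a4 (i : ℕ) : ℕ := c4.getD i 0

def a5 (i : ℕ) : ℕ := c5.getD i 0

/-- the `i`-th element -/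
def evG (i x : ℕ) : ℕ := ev9 3 (a3 i) (ev9 4 (a4 i) (ev9 5 (a5 i) x))

/-- the value of a word -/
def evW : List ℕ → ℕ → ℕ
  | [], x => x
  | i :: w, x => evG i (evW w x)

/-- two words have the same value -/
def eqW (u v : List ℕ) : Bool := agree (evW u) (evW v)

/-- two words differ at the point `p` -/
def neW (p : ℕ) (u v : List ℕ) : Bool := !Nat.beq (evW u p) (evW v p)

theorem okChk : (c3.all ok9 && c4.all ok9 && c5.all ok9) = true := by decide +kernel

/-- the rules of the polycyclic presentation hold -/
theorem rulesChk : rules.all (fun R => eqW R.1 R.2) = true := by decide +kernel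

/-- the elements conjugate to `u₁` -/
def conjTargets : List (List ℕ) := [[4], [7], [0, 4], [0, 7], [4, 7], [0, 4, 7], [10, 11]]

theorem conjChk : (allLt 7 fun k => eqW [12 + k, 0] (conjTargets.getD k [] ++ [12 + k])) = true := by
  decide +kernel

/-- the relations of `5² : 2` -/
theorem fiveChk : (eqW [19, 19, 19, 19, 19] [] && neW 1 [19] [] && eqW [20, 20, 20, 20, 20] [] &&
    neW 0 [20] [] && eqW [19, 20] [20, 19] && eqW [21, 19] [19, 21] &&
    eqW [21, 20] [20, 20, 20, 20, 21]) = true := by decide +kernel

/-- the commutator of the elements `22` and `23` -/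
def zw : List ℕ := [22, 23, 22, 22, 23, 23]

/-- the relations of `3¹⁺² : 2²` -/
theorem threeChk : (eqW [22, 22, 22] [] && eqW [23, 23, 23] [] && eqW (zw ++ zw ++ zw) [] &&
    neW 0 zw [] && eqW (zw ++ [22]) (22 :: zw) && eqW (zw ++ [23]) (23 :: zw) &&
    eqW [24, 22] [22, 24] && eqW [24, 23] [23, 23, 24] && eqW (24 :: zw) (zw ++ zw ++ [24]) &&
    eqW [25, 22] [22, 22, 25] && eqW [25, 23] [23, 25] && eqW (25 :: zw) (zw ++ zw ++ [25])) =
    true := by decide +kernel

/-! ### the enumeration of the 6144 normal words -/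

/-- force the evaluation of a list of numbers -/
def forceList {α : Type} : List ℕ → (List ℕ → α) → α
  | [], k => k []
  | a :: l, k => withNat a fun a' => forceList l fun l' => k (a' :: l')

theorem forceList_eq {α : Type} (l : List ℕ) (k : List ℕ → α) : forceList l k = k l := by
  induction l generalizing k with
  | nil => rfl
  | cons a l ih =>
    show (withNat a fun a' => forceList l fun l' => k (a' :: l')) = k (a :: l)
    rw [withNat_eq, ih]

/-- a pair of points as one number -/
def pk (x y : ℕ) : ℕ := Nat.add (Nat.mul x 2048) y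

/-- apply the `i`-th element to a pair of points -/
def stepKey (i k : ℕ) : ℕ :=
  withNat k fun k => pk (evG i (Nat.div k 2048)) (evG i (Nat.mod k 2048))

/-- the images of a pair of points under a word -/
def keyW : List ℕ → ℕ → ℕ
  | [], k => k
  | i :: w, k => stepKey i (keyW w k)

/-- the generators with their relative orders -/
def gensL : List (ℕ × ℕ) := [(0, 2), (1, 3), (2, 2), (3, 2), (4, 2), (5, 2), (6, 2), (7, 2), (8, 2),
  (9, 2), (10, 2), (11, 2)]

/-- the normal words -/
def allWords : List (ℕ × ℕ) → List (List ℕ)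
  | [] => [[]]
  | p :: L => (List.range p.2).flatMap fun e => (allWords L).map fun w => List.replicate e p.1 ++ w

/-- one more generator -/
def layer (i r : ℕ) (prev : List ℕ) : List ℕ :=
  (List.range r).flatMap fun e => prev.map fun k => (stepKey i)^[e] k

/-- the images of the pair `k0` under the normal words -/
def allImgs (k0 : ℕ) : List (ℕ × ℕ) → List ℕ
  | [] => [k0]
  | p :: L => forceList (allImgs k0 L) fun prev => layer p.1 p.2 prev

/-- the numbers of a list are distinct and not in the bit set `acc` -/
def insChk : List ℕ → ℕ → Bool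
  | [], _ => true
  | k :: ks, acc => withNat k fun k => withNat acc fun acc =>
      bif Nat.testBit acc k then false else insChk ks (Nat.lor acc (Nat.shiftLeft 1 k))

/-- the pair of base points -/
def key0 : ℕ := pk 3 234

theorem enumChk : insChk (allImgs key0 gensL) 0 = true := by decide +kernel

theorem lenChk : (allWords gensL).length = 6144 := by decide +kernel

theorem lettersChk : ((allWords gensL).all fun w => w.all fun i => Nat.blt i 12) = true := by
  decide +kernel

end Cfsg.Agent.Lib.Helper41_TiM2Data
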