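import Mathlib
import Cfsg.Prelude.Def_LieTwisted
import Cfsg.Prelude.Def_KGroupFacts
import Cfsg.Agent.Lib.Helper41_Ti2Main
import Cfsg.Agent.Lib.Helper41_TiM2Cert
import Cfsg.Agent.Lib.Helper41_TiM2Data
import Cfsg.Agent.Lib.Helper41_PCTSplit
import Cfsg.Agent.Lib.Helper66_Stem
import Cfsg.Agent.Lib.Helper8_StemTwo
import Cfsg.Agent.Lib.Helper8_StemThree
import Cfsg.Agent.Lib.Helper56_StemP
import Cfsg.Agent.Lib.Lead_StemLocal

/-!
# The Schur multiplier of the Tits group is trivial (helper41)

`T = K 3` is the Tits group on 1755 points.  The odd part of the kernel of a stem extension is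
killed by transfer into `3¹⁺² : 2²`, `5² : 2` and `13` (as in helper56's proof for the Held group);
the 2-part by the splitting theorem `Helper41_PCTSplit.ker_inf_commutator_eq_bot` for the
parabolic subgroup `P₂ = 2².[2⁸].S₃` of odd index 2925, with the certificate `Helper41_TiM2Cert`.
-/

set_option autoImplicit false

namespace Cfsg.Agent.Lib.Helper41_TiM2Main

open Equiv
open Cfsg.Agent.Lib.Helper41_TiTab Cfsg.Agent.Lib.Helper41_TiLin Cfsg.Agent.Lib.Helper41_TiPerm
  Cfsg.Agent.Lib.Helper41_TiDet Cfsg.Agent.Lib.Helper41_TiChain Cfsg.Agent.Lib.Helper41_TiSimple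
  Cfsg.Agent.Lib.Helper41_TiComm Cfsg.Agent.Lib.Helper41_TiBridge Cfsg.Agent.Lib.Helper41_TiMain
  Cfsg.Agent.Lib.Helper41_Ti2Data Cfsg.Agent.Lib.Helper41_Ti2Main
  Cfsg.Agent.Lib.Helper41_PCTDefs Cfsg.Agent.Lib.Helper41_PCT Cfsg.Agent.Lib.Helper41_PCTMain
  Cfsg.Agent.Lib.Helper41_PCTShape Cfsg.Agent.Lib.Helper41_PCTSplit
  Cfsg.Agent.Lib.Helper41_TiM2Cert Cfsg.Agent.Lib.Helper41_TiM2Data
open Cfsg
open Cfsg.Agent.Lib.Helper66_Stem Cfsg.Agent.Lib.Helper8_StemTwo Cfsg.Agent.Lib.Helper8_StemThree
  Cfsg.Agent.Lib.Helper56_StemP Cfsg.Agent.Lib.Lead_StemLocal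
open scoped commutatorElement

/-! ### the elements -/

theorem ok_getD (l : List ℕ) (h : l.all ok9 = true) (i : ℕ) : ok9 (l.getD i 0) = true := by
  rcases lt_or_ge i l.length with hi | hi
  · rw [List.getD_eq_getElem _ _ hi]
    exact List.all_eq_true.mp h _ (List.getElem_mem hi)
  · rw [List.getD_eq_default _ _ hi]
    decide

theorem ok3 (i : ℕ) : ok9 (a3 i) = true := by
  have h := Cfsg.Agent.Lib.Helper41_TiM2Data.okChk
  simp only [Bool.and_eq_true] at h
  exact ok_getD c3 h.1.1 i

theorem ok4 (i : ℕ) : ok9 (a4 i) = true := by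
  have h := Cfsg.Agent.Lib.Helper41_TiM2Data.okChk
  simp only [Bool.and_eq_true] at h
  exact ok_getD c4 h.1.2 i

theorem ok5 (i : ℕ) : ok9 (a5 i) = true := by
  have h := Cfsg.Agent.Lib.Helper41_TiM2Data.okChk
  simp only [Bool.and_eq_true] at h
  exact ok_getD c5 h.2 i

/-- the `i`-th element, as a permutation -/
def gP (i : ℕ) : P := mk (a3 i) (a4 i) (a5 i)

theorem gP_mem (i : ℕ) : gP i ∈ T := mk_mem (ok3 i) (ok4 i) (ok5 i)

theorem gP_apply (i : ℕ) (x : Fin 1755) : (gP i x).val = evG i x.val :=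
  mk_apply (ok3 i) (ok4 i) (ok5 i) x

/-- the `i`-th element, in `T` -/
def gT (i : ℕ) : ↥T := ⟨gP i, gP_mem i⟩

/-- the value of a word in `T` -/
def gw (w : List ℕ) : ↥T := ev gT w

theorem gw_nil : gw [] = 1 := rfl

theorem gw_cons (i : ℕ) (w : List ℕ) : gw (i :: w) = gT i * gw w := ev_cons gT i w

theorem gw_append (u v : List ℕ) : gw (u ++ v) = gw u * gw v := ev_append gT u v

theorem gw_single (i : ℕ) : gw [i] = gT i := by rw [gw_cons, gw_nil, mul_one]

theorem gw_replicate (n i : ℕ) : gw (List.replicate n i) = gT i ^ n := ev_replicate gT n i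

theorem gw_apply (w : List ℕ) (x : Fin 1755) : (((gw w : ↥T) : P) x).val = evW w x.val := by
  induction w with
  | nil => rfl
  | cons i w ih =>
    rw [gw_cons, Subgroup.coe_mul, Perm.mul_apply]
    show (gP i _).val = evG i (evW w x.val)
    rw [gP_apply, ih]

theorem gw_eq {u v : List ℕ} (h : eqW u v = true) : gw u = gw v := by
  apply Subtype.ext
  exact eq_of_agree (T_le_K0 (gw u).2) (T_le_K0 (gw v).2) (evW u) (evW v)
    (fun x => gw_apply u x) (fun x => gw_apply v x) h

theorem gw_ne {p : ℕ} {u v : List ℕ} (hp : p < 1755) (h : neW p u v = true) : gw u ≠ gw v := by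
  intro e
  have h1 : evW u p = evW v p := by
    have := gw_apply u ⟨p, hp⟩
    rw [e, gw_apply v ⟨p, hp⟩] at this
    exact this.symm
  unfold neW at h
  rw [h1] at h
  have : Nat.beq (evW v p) (evW v p) = true := Nat.beq_refl _
  rw [this] at h
  exact Bool.noConfusion h

/-- from `u * x = y * u` to conjugation -/
theorem conj_of_words {u x y : List ℕ} (h : eqW (u ++ x) (y ++ u) = true) :
    gw u * gw x * (gw u)⁻¹ = gw y := by
  rw [mul_inv_eq_iff_eq_mul, ← gw_append, ← gw_append]
  exact gw_eq h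

instance finite_T' : Finite ↥T := finite_T

/-! ### the parabolic subgroup -/

/-- the parabolic subgroup `P₂` -/
def S : Subgroup ↥T := Subgroup.closure (gT '' {k | k < 12})

theorem rulesT : ∀ (k : ℕ) (R : Rule), rules[k]? = some R → ev gT R.1 = ev gT R.2 := by
  intro k R hk
  have hm : R ∈ rules := List.mem_of_getElem? hk
  exact gw_eq (List.all_eq_true.mp rulesChk R hm)

theorem prod_rr : ∏ i ∈ Finset.range 12, rr i = 6144 := by
  simp [Finset.prod_range_succ, rr]

theorem card_S_le : Nat.card ↥S ≤ 6144 := by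
  have h := (card_closure_le_of_rules rules 12 rr shapeChk gT rulesT).2
  rw [prod_rr] at h
  exact h

/-- the images of the two base points -/
def keyOf (t : ↥T) : ℕ :=
  pk ((t : P) ⟨3, by norm_num⟩).val ((t : P) ⟨234, by norm_num⟩).val

theorem stepKey_pk (i : ℕ) (x y : Fin 1755) :
    stepKey i (pk x.val y.val) = pk (gP i x).val (gP i y).val := by
  unfold stepKey
  rw [withNat_eq]
  have hx : Nat.div (pk x.val y.val) 2048 = x.val := by
    show (x.val * 2048 + y.val) / 2048 = x.val
    have := y.isLt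
    omega
  have hy : Nat.mod (pk x.val y.val) 2048 = y.val := by
    show (x.val * 2048 + y.val) % 2048 = y.val
    have := y.isLt
    omega
  rw [hx, hy, gP_apply, gP_apply]

theorem keyW_eq (w : List ℕ) : keyW w key0 = keyOf (gw w) := by
  induction w with
  | nil => rfl
  | cons i w ih =>
    show stepKey i (keyW w key0) = _
    rw [ih]
    unfold keyOf
    rw [stepKey_pk, gw_cons, Subgroup.coe_mul, Perm.mul_apply, Perm.mul_apply]
    rfl

theorem keyW_replicate (e i : ℕ) (w : List ℕ) (k : ℕ) :
    keyW (List.replicate e i ++ w) k = (stepKey i)^[e] (keyW w k) := by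
  induction e with
  | zero => rfl
  | succ e ih =>
    rw [List.replicate_succ, List.cons_append, Function.iterate_succ_apply']
    show stepKey i (keyW (List.replicate e i ++ w) k) = _
    rw [ih]

theorem allImgs_eq (L : List (ℕ × ℕ)) :
    allImgs key0 L = (allWords L).map (fun w => keyW w key0) := by
  induction L with
  | nil => rfl
  | cons p L ih =>
    show forceList (allImgs key0 L) (fun prev => layer p.1 p.2 prev) =
      ((List.range p.2).flatMap fun e =>
        (allWords L).map fun w => List.replicate e p.1 ++ w).map (fun w => keyW w key0)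
    rw [forceList_eq, ih, layer, List.map_flatMap]
    congr 1
    funext e
    rw [List.map_map, List.map_map]
    apply List.map_congr_left
    intro w _
    exact (keyW_replicate e p.1 w key0).symm

theorem insChk_sound : ∀ (l : List ℕ) (acc : ℕ), insChk l acc = true →
    l.Nodup ∧ ∀ k ∈ l, acc.testBit k = false := by
  intro l
  induction l with
  | nil =>
    intro acc _
    exact ⟨List.nodup_nil, fun k hk => absurd hk List.not_mem_nil⟩
  | cons k ks ih =>
    intro acc h
    have h' : (bif Nat.testBit acc k then false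
        else insChk ks (Nat.lor acc (Nat.shiftLeft 1 k))) = true := by
      have e : insChk (k :: ks) acc = (withNat k fun k => withNat acc fun acc =>
          bif Nat.testBit acc k then false
          else insChk ks (Nat.lor acc (Nat.shiftLeft 1 k))) := rfl
      rw [e, withNat_eq, withNat_eq] at h
      exact h
    cases hb : Nat.testBit acc k with
    | true =>
      rw [hb] at h'
      exact Bool.noConfusion h'
    | false =>
      rw [hb] at h'
      obtain ⟨hnd, hall⟩ := ih _ h'
      have hor : ∀ j, (Nat.lor acc (Nat.shiftLeft 1 k)).testBit j =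
          (acc.testBit j || decide (k = j)) := by
        intro j
        show (acc ||| (1 <<< k)).testBit j = _
        rw [Nat.testBit_or, Nat.one_shiftLeft, Nat.testBit_two_pow]
      refine ⟨List.nodup_cons.mpr ⟨?_, hnd⟩, ?_⟩
      · intro hk
        have := hall k hk
        rw [hor] at this
        simp at this
      · intro j hj
        rcases List.mem_cons.mp hj with rfl | hj
        · exact hb
        · have := hall j hj
          rw [hor] at this
          simp only [Bool.or_eq_false_iff] at this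
          exact this.1

theorem nodup_words : ((allWords gensL).map gw).Nodup := by
  have h := (insChk_sound _ _ enumChk).1
  rw [allImgs_eq] at h
  have e : (allWords gensL).map (fun w => keyW w key0) =
      ((allWords gensL).map gw).map keyOf := by
    rw [List.map_map]
    apply List.map_congr_left
    intro w _
    exact keyW_eq w
  rw [e] at h
  exact List.Nodup.of_map keyOf h

theorem gw_mem_S (w : List ℕ) (h : ∀ i ∈ w, i < 12) : gw w ∈ S := by
  unfold gw ev
  apply Subgroup.list_prod_mem
  intro x hx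
  rw [List.mem_map] at hx
  obtain ⟨i, hi, rfl⟩ := hx
  exact Subgroup.subset_closure ⟨i, h i hi, rfl⟩

theorem card_S_ge : 6144 ≤ Nat.card ↥S := by
  classical
  have hsub : ∀ t ∈ (allWords gensL).map gw, t ∈ S := by
    intro t ht
    rw [List.mem_map] at ht
    obtain ⟨w, hw, rfl⟩ := ht
    apply gw_mem_S
    intro i hi
    have h1 := List.all_eq_true.mp lettersChk w hw
    have h2 := List.all_eq_true.mp h1 i hi
    exact Nat.blt_eq.mp h2
  let l' : List ↥S := ((allWords gensL).map gw).attach.map (fun t => ⟨t.1, hsub t.1 t.2⟩)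
  have hnd : l'.Nodup := by
    apply List.Nodup.map _ (List.nodup_attach.mpr nodup_words)
    intro a b hab
    apply Subtype.ext
    exact congrArg (fun s : ↥S => (s : ↥T)) hab
  have hlen : l'.length = 6144 := by
    rw [List.length_map, List.length_attach, List.length_map, lenChk]
  have : Fintype ↥S := Fintype.ofFinite _
  rw [Nat.card_eq_fintype_card, ← hlen]
  exact hnd.length_le_card

theorem card_S : Nat.card ↥S = 6144 := le_antisymm card_S_le card_S_ge

theorem card_T' : Nat.card ↥T = 17971200 := card_T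

theorem index_S : S.index = 2925 := by
  have h := Subgroup.card_mul_index S
  rw [card_S, card_T'] at h
  omega

/-! ### the 2-part -/

theorem conj_target {k : ℕ} (hk : k < 7) :
    ∃ g : ↥T, g * gT 0 * g⁻¹ = gw (conjTargets.getD k []) := by
  have h := allLt_sound conjChk k hk
  refine ⟨gw [12 + k], ?_⟩
  have := conj_of_words (u := [12 + k]) (x := [0]) (y := conjTargets.getD k []) h
  rw [gw_single] at this
  exact this

theorem sq_gT0 : gT 0 * gT 0 = 1 := by
  have h := rulesT 0 ([0, 0], []) rfl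
  rw [ev_cons, ev_cons, ev_nil, mul_one] at h
  exact h

section two

variable {Γ : Type} [Group Γ] (σ : Γ →* ↥T) (hsurj : Function.Surjective σ)
  (hker : σ.ker ≤ Subgroup.center Γ) (hexp : ∀ a ∈ σ.ker, a * a = 1)

include hsurj hker hexp

theorem lift_u1 (x : Γ) (hx : σ x = gT 0) : x * x = 1 := by
  apply lift_sq_eq_one_of_seven σ hsurj hker hexp (gT 0) (gT 0) (gT 4) (gT 7) sq_gT0
    ⟨1, by group⟩ _ _ _ _ _ _ x hx
  · have := conj_target (k := 0) (by norm_num)
    rwa [show conjTargets.getD 0 [] = [4] from rfl, gw_single] at this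
  · have := conj_target (k := 1) (by norm_num)
    rwa [show conjTargets.getD 1 [] = [7] from rfl, gw_single] at this
  · have := conj_target (k := 2) (by norm_num)
    rwa [show conjTargets.getD 2 [] = [0, 4] from rfl, gw_cons, gw_single] at this
  · have := conj_target (k := 3) (by norm_num)
    rwa [show conjTargets.getD 3 [] = [0, 7] from rfl, gw_cons, gw_single] at this
  · have := conj_target (k := 4) (by norm_num)
    rwa [show conjTargets.getD 4 [] = [4, 7] from rfl, gw_cons, gw_single] at this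
  · have := conj_target (k := 5) (by norm_num)
    rwa [show conjTargets.getD 5 [] = [0, 4, 7] from rfl, gw_cons, gw_cons, gw_single] at this

theorem hval_T (γ : ℕ → Γ) (hγ : ∀ i, σ (γ i) = gT i) : ∀ c ∈ conds, ev γ c.1 = 1 := by
  intro c hc
  have h0 : γ 0 * γ 0 = 1 := lift_u1 σ hsurj hker hexp (γ 0) (hγ 0)
  unfold conds at hc
  rcases List.mem_pair.mp hc with rfl | rfl
  · show ev γ [0, 0] = 1
    rw [ev_cons, ev_cons, ev_nil, mul_one]
    exact h0
  · show ev γ [10, 11, 10, 11] = 1
    rw [ev_cons, ev_cons, ev_cons, ev_cons, ev_nil, mul_one, ← mul_assoc]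
    obtain ⟨g, hg⟩ := conj_target (k := 6) (by norm_num)
    obtain ⟨g', rfl⟩ := hsurj g
    have h1 : σ g' * σ (γ 0) * (σ g')⁻¹ = σ (γ 10 * γ 11) := by
      rw [hγ 0, hg, map_mul, hγ 10, hγ 11]
      show gw [10, 11] = _
      rw [gw_cons, gw_single]
    have h2 := sq_eq_of_conj σ hker hexp (x := γ 0) (y := γ 10 * γ 11) (g := g')
      (by rw [hγ 0]; exact sq_gT0) h1
    rw [h2]
    exact h0

end two

theorem two_part {Γ : Type} [Group Γ] [Finite Γ] (σ : Γ →* ↥T) (hσ : IsStemExtension σ)
    (hexp : ∀ a ∈ σ.ker, a * a = 1) : σ.ker = ⊥ := by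
  have h := ker_inf_commutator_eq_bot σ hσ.1 hσ.2.1 hexp 12 rr gT rules shapeChk rulesT S rfl
    (by rw [prod_rr]; exact card_S_ge) eqs conds Lm Cm heqs hconds
    (fun γ hγ => hval_T σ hσ.1 hσ.2.1 hexp γ hγ) linChk
  rw [eq_bot_iff]
  intro a ha
  rw [Subgroup.mem_bot]
  have h2 := pow_index_eq_one_of_inf σ hσ S (by rw [index_S]; norm_num) h a ha
  rw [index_S] at h2
  have e : a ^ 2925 = a := by
    rw [show 2925 = 2 * 1462 + 1 from rfl, pow_succ, pow_mul, pow_two, hexp a ha, one_pow,
      one_mul]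
  rw [e] at h2
  exact h2

/-! ### the odd part -/

theorem inv_of_cube {H : Type*} [Group H] {x : H} (h : x ^ 3 = 1) : x⁻¹ = x * x := by
  rw [inv_eq_iff_mul_eq_one, ← mul_assoc, ← pow_two, ← pow_succ]
  exact h

theorem three_part {Γ : Type} [Group Γ] [Finite Γ] (σ : Γ →* ↥T)
    (hσ : IsStemExtension σ) (hexp : ∀ a ∈ σ.ker, a ^ 3 = 1) : σ.ker = ⊥ := by
  have : Fact (Nat.Prime 3) := ⟨by norm_num⟩
  have hchk := threeChk
  simp only [Bool.and_eq_true] at hchk
  obtain ⟨⟨⟨⟨⟨⟨⟨⟨⟨⟨⟨c1, c2⟩, c3⟩, c4⟩, c5⟩, c6⟩, c7⟩, c8⟩, c9⟩, c10⟩, c11⟩, c12⟩ := hchk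
  have hx3 : gT 22 ^ 3 = 1 := by
    have := gw_eq c1
    rwa [show [22, 22, 22] = List.replicate 3 22 from rfl, gw_replicate, gw_nil] at this
  have hy3 : gT 23 ^ 3 = 1 := by
    have := gw_eq c2
    rwa [show [23, 23, 23] = List.replicate 3 23 from rfl, gw_replicate, gw_nil] at this
  have hz : ⁅gT 22, gT 23⁆ = gw zw := by
    rw [commutatorElement_def, inv_of_cube hx3, inv_of_cube hy3]
    show _ = gw [22, 23, 22, 22, 23, 23]
    simp only [gw_cons, gw_nil, mul_one, mul_assoc]
  rw [eq_bot_iff]
  intro a ha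
  rw [Subgroup.mem_bot]
  obtain ⟨h1', h2'⟩ := pow_index_eq_one_heis_p σ hσ 3 hexp (gT 22) (gT 23) (gT 24) (gT 25)
    2 2 (by norm_num) (by norm_num) (by norm_num) (by norm_num) hx3 hy3
    (by
      rw [hz, pow_succ, pow_two, ← gw_append, ← gw_append]
      exact gw_eq c3)
    (by rw [hz, ← gw_nil]; exact gw_ne (by norm_num) c4)
    (by
      rw [hz, ← gw_single 22, ← gw_append, ← gw_append]
      exact gw_eq c5)
    (by
      rw [hz, ← gw_single 23, ← gw_append, ← gw_append]
      exact gw_eq c6)
    (by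
      have := conj_of_words (u := [24]) (x := [22]) (y := [22]) c7
      rwa [gw_single, gw_single] at this)
    (by
      have := conj_of_words (u := [24]) (x := [23]) (y := [23, 23]) c8
      rwa [gw_single, gw_single, gw_cons, gw_single, ← pow_two] at this)
    (by
      have := conj_of_words (u := [24]) (x := zw) (y := zw ++ zw) c9
      rwa [gw_single, gw_append, ← pow_two, ← hz] at this)
    (by
      have := conj_of_words (u := [25]) (x := [22]) (y := [22, 22]) c10
      rwa [gw_single, gw_single, gw_cons, gw_single, ← pow_two] at this)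
    (by
      have := conj_of_words (u := [25]) (x := [23]) (y := [23]) c11
      rwa [gw_single, gw_single] at this)
    (by
      have := conj_of_words (u := [25]) (x := zw) (y := zw ++ zw) c12
      rwa [gw_single, gw_append, ← pow_two, ← hz] at this)
    a ha
  have hidx := Subgroup.card_mul_index (Subgroup.closure ({gT 22, gT 23} : Set ↥T))
  rw [h2', card_T'] at hidx
  have : (Subgroup.closure ({gT 22, gT 23} : Set ↥T)).index = 665600 := by omega
  rw [this] at h1'
  exact eq_one_of_pow_coprime h1' (hexp a ha) (by norm_num)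

theorem odd_part {Γ : Type} [Group Γ] [Finite Γ] (σ : Γ →* ↥T)
    (hσ : IsStemExtension σ) (a : Γ) (ha : a ∈ σ.ker) : a ^ (2 ^ 11) = 1 := by
  have hchk := fiveChk
  simp only [Bool.and_eq_true] at hchk
  obtain ⟨⟨⟨⟨⟨⟨c1, c2⟩, c3⟩, c4⟩, c5⟩, c6⟩, c7⟩ := hchk
  have : Fact (Nat.Prime 5) := ⟨by norm_num⟩
  have : Fact (Nat.Prime 13) := ⟨by norm_num⟩
  obtain ⟨b, hb, rfl⟩ := exists_pow_of_exponent σ hσ 3
    (fun Γ' _ _ σ' hσ' hexp' => three_part σ' hσ' hexp') 3 a ha
  have hx5 : gT 19 ^ 5 = 1 := by
    have := gw_eq c1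
    rwa [show [19, 19, 19, 19, 19] = List.replicate 5 19 from rfl, gw_replicate, gw_nil] at this
  have hy5 : gT 20 ^ 5 = 1 := by
    have := gw_eq c3
    rwa [show [20, 20, 20, 20, 20] = List.replicate 5 20 from rfl, gw_replicate, gw_nil] at this
  have hyi : (gT 20)⁻¹ = gw [20, 20, 20, 20] := by
    rw [inv_eq_iff_mul_eq_one, ← gw_single 20, ← gw_append]
    have := gw_eq c3
    rwa [gw_nil] at this
  have h5 := pow_eq_one_of_prime_sq σ hσ 5 (by decide) (gT 19) (gT 20) (gT 21)
    hx5 (by rw [← gw_single 19, ← gw_nil]; exact gw_ne (by norm_num) c2)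
    hy5 (by rw [← gw_single 20, ← gw_nil]; exact gw_ne (by norm_num) c4)
    (by
      have := gw_eq c5
      rwa [gw_cons, gw_single, gw_cons, gw_single] at this)
    (by
      have := gw_eq c6
      rwa [gw_cons, gw_single, gw_cons, gw_single] at this)
    (by
      rw [hyi]
      have := conj_of_words (u := [21]) (x := [20]) (y := [20, 20, 20, 20]) c7
      rwa [gw_single, gw_single] at this) b hb
  have h13 := pow_eq_one_of_prime σ hσ 13 x13 x13_pow x13_ne_one b hb
  rw [card_T'] at h5 h13
  have e5 := orderOf_dvd_of_pow_eq_one h5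
  have e13 := orderOf_dvd_of_pow_eq_one h13
  have d := Nat.dvd_gcd e5 e13
  norm_num at d
  rw [← pow_mul]
  exact orderOf_dvd_iff_pow_eq_one.mp (by norm_num; exact d)

/-- every stem extension of the Tits group on 1755 points is an isomorphism -/
theorem ker_eq_bot_T {Γ : Type} [Group Γ] [Finite Γ] (σ : Γ →* ↥T) (hσ : IsStemExtension σ) :
    σ.ker = ⊥ :=
  ker_eq_bot_of_exponent_two σ hσ 11 (odd_part σ hσ)
    (fun _ _ _ σ' hσ' hexp => two_part σ' hσ' hexp)

/-- every stem extension of the Tits group is an isomorphism -/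
theorem ker_eq_bot_tits {Γ : Type} [Group Γ] [Finite Γ] (σ : Γ →* ↥(commutator Gm))
    (hσ : IsStemExtension σ) : σ.ker = ⊥ := by
  have hk : (titsEquiv.toMonoidHom.comp σ).ker = σ.ker := by
    ext x
    rw [MonoidHom.mem_ker, MonoidHom.mem_ker, MonoidHom.comp_apply]
    exact titsEquiv.map_eq_one_iff
  have h := ker_eq_bot_T (titsEquiv.toMonoidHom.comp σ)
    ⟨titsEquiv.surjective.comp hσ.1, by rw [hk]; exact hσ.2.1, by rw [hk]; exact hσ.2.2⟩
  rw [hk] at h
  exact h

theorem finite_tits : Finite ↥(commutator Gm) :=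
  Nat.finite_of_card_ne_zero (by rw [card_tits]; norm_num)

end Cfsg.Agent.Lib.Helper41_TiM2Main
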