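import Mathlib
import Cfsg.Agent.Lib.Helper5_Transv
import Cfsg.Agent.Lib.Helper5_SLGen

/-!
# A calculus of transvections inside a subgroup of `SL ι K`

For a subgroup `H` of `SL ι K` we record which rank one perturbations `1 + c φᵀ` of the identity
lie in `H` (`InT H c φ`), and prove closure properties (conjugation, addition of centres,
commutators).  `QFull H φ` says that *all* transvections with axis `φ` lie in `H`.
The final criterion `eq_top_of_qfull` : if `QFull H (e j)` for every `j` then `H = ⊤`.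
-/

set_option autoImplicit false
set_option linter.unusedSectionVars false
set_option linter.unusedVariables false

namespace Cfsg.Agent.Lib.Helper83_TvCalc

open Matrix

variable {K : Type*} [Field K] {ι : Type*} [Fintype ι] [DecidableEq ι]

/-- the rank one perturbation `1 + c φᵀ` of the identity -/
def MM (c φ : ι → K) : Matrix ι ι K := 1 + vecMulVec c φ

theorem det_MM (c φ : ι → K) : (MM c φ).det = 1 + φ ⬝ᵥ c := by
  have h := Cfsg.Agent.Lib.Helper5_Transv.det_tv c φ (1 : K)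
  unfold Cfsg.Agent.Lib.Helper5_Transv.tv at h
  rw [one_smul, one_mul] at h
  exact h

theorem MM_zero (φ : ι → K) : MM (0 : ι → K) φ = 1 := by
  unfold MM
  rw [zero_vecMulVec, add_zero]

theorem MM_mul (c φ c' φ' : ι → K) :
    MM c φ * MM c' φ' =
      1 + vecMulVec c φ + vecMulVec c' φ' + (φ ⬝ᵥ c') • vecMulVec c φ' := by
  unfold MM
  rw [add_mul, mul_add, mul_add, one_mul, mul_one, one_mul, vecMulVec_mul_vecMulVec,
    vecMulVec_smul]
  abel

/-- same axis, centres add -/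
theorem MM_mul_same_axis (c c' φ : ι → K) (h : φ ⬝ᵥ c' = 0) :
    MM c φ * MM c' φ = MM (c + c') φ := by
  rw [MM_mul, h, zero_smul, add_zero]
  unfold MM
  rw [add_vecMulVec, add_assoc]

/-- same centre, axes add -/
theorem MM_mul_same_centre (c φ φ' : ι → K) (h : φ ⬝ᵥ c = 0) :
    MM c φ * MM c φ' = MM c (φ + φ') := by
  rw [MM_mul, h, zero_smul, add_zero]
  unfold MM
  rw [vecMulVec_add, add_assoc]

theorem mul_MM (A : Matrix ι ι K) (c φ : ι → K) : A * MM c φ = A + vecMulVec (A *ᵥ c) φ := by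
  unfold MM
  rw [mul_add, mul_one, mul_vecMulVec]

theorem MM_mul' (A : Matrix ι ι K) (c φ : ι → K) : MM c φ * A = A + vecMulVec c (φ ᵥ* A) := by
  unfold MM
  rw [add_mul, one_mul, vecMulVec_mul]

theorem vecMul_MM (ψ c φ : ι → K) : ψ ᵥ* MM c φ = ψ + (ψ ⬝ᵥ c) • φ := by
  unfold MM
  rw [vecMul_add, vecMul_one, vecMul_vecMulVec]

theorem MM_mulVec (c φ x : ι → K) : MM c φ *ᵥ x = x + (φ ⬝ᵥ x) • c := by
  unfold MM
  rw [add_mulVec, one_mulVec, vecMulVec_mulVec]
  congr 1
  funext i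
  simp only [Pi.smul_apply, MulOpposite.smul_eq_mul_unop, MulOpposite.unop_op, smul_eq_mul]
  ring

theorem MM_smul_comm (a : K) (c φ : ι → K) : MM (a • c) φ = MM c (a • φ) := by
  unfold MM
  rw [smul_vecMulVec, vecMulVec_smul]

theorem val_mul (a b : SpecialLinearGroup ι K) : (a * b).1 = a.1 * b.1 := rfl

theorem val_one : (1 : SpecialLinearGroup ι K).1 = 1 := rfl

theorem val_inv_mul (a : SpecialLinearGroup ι K) : (a⁻¹).1 * a.1 = 1 := by
  rw [← val_mul, inv_mul_cancel, val_one]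

theorem val_mul_inv (a : SpecialLinearGroup ι K) : a.1 * (a⁻¹).1 = 1 := by
  rw [← val_mul, mul_inv_cancel, val_one]

variable (H : Subgroup (SpecialLinearGroup ι K))

/-- `1 + c φᵀ` lies in `H` -/
def InT (c φ : ι → K) : Prop := ∃ g ∈ H, g.1 = MM c φ

variable {H}

theorem InT.dot {c φ : ι → K} (h : InT H c φ) : φ ⬝ᵥ c = 0 := by
  obtain ⟨g, -, hg⟩ := h
  have h1 : (MM c φ).det = 1 := by rw [← hg]; exact g.2
  rw [det_MM] at h1
  linear_combination h1

theorem InT.zero (φ : ι → K) : InT H (0 : ι → K) φ :=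
  ⟨1, H.one_mem, by rw [MM_zero]; rfl⟩

theorem InT.smul_comm {a : K} {c φ : ι → K} : InT H (a • c) φ ↔ InT H c (a • φ) := by
  unfold InT
  rw [MM_smul_comm]

/-- (P2) same axis: centres add -/
theorem InT.add {c c' φ : ι → K} (h : InT H c φ) (h' : InT H c' φ) : InT H (c + c') φ := by
  have hd' := h'.dot
  obtain ⟨g, hgH, hg⟩ := h
  obtain ⟨g', hgH', hg'⟩ := h'
  refine ⟨g * g', H.mul_mem hgH hgH', ?_⟩
  rw [val_mul, hg, hg', MM_mul_same_axis _ _ _ hd']

theorem InT.neg {c φ : ι → K} (h : InT H c φ) : InT H (-c) φ := by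
  have hd := h.dot
  obtain ⟨g, hgH, hg⟩ := h
  refine ⟨g⁻¹, H.inv_mem hgH, ?_⟩
  have h1 : g.1 * MM (-c) φ = 1 := by
    rw [hg, MM_mul_same_axis _ _ _ (by rw [dotProduct_neg, hd, neg_zero]), add_neg_cancel, MM_zero]
  have h3 : (g⁻¹).1 * g.1 = 1 := val_inv_mul g
  calc (g⁻¹).1
      = (g⁻¹).1 * (g.1 * MM (-c) φ) := by
        rw [h1, mul_one]
    _ = MM (-c) φ := by rw [← Matrix.mul_assoc, h3, one_mul]

theorem InT.sub {c c' φ : ι → K} (h : InT H c φ) (h' : InT H c' φ) : InT H (c - c') φ := by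
  rw [sub_eq_add_neg]
  exact h.add h'.neg

theorem InT.sum {α : Type*} (s : Finset α) (f : α → ι → K) (φ : ι → K)
    (h : ∀ a ∈ s, InT H (f a) φ) : InT H (∑ a ∈ s, f a) φ := by
  classical
  induction s using Finset.induction_on with
  | empty => rw [Finset.sum_empty]; exact InT.zero φ
  | insert a s ha ih =>
    rw [Finset.sum_insert ha]
    exact (h a (Finset.mem_insert_self a s)).add
      (ih (fun b hb => h b (Finset.mem_insert_of_mem hb)))

/-- (P1) conjugation -/
theorem InT.conj {c φ : ι → K} (h : InT H c φ) {y : SpecialLinearGroup ι K} (hy : y ∈ H) :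
    InT H (y.1 *ᵥ c) (φ ᵥ* (y⁻¹).1) := by
  obtain ⟨g, hgH, hg⟩ := h
  refine ⟨y * g * y⁻¹, H.mul_mem (H.mul_mem hy hgH) (H.inv_mem hy), ?_⟩
  rw [val_mul, val_mul, hg]
  have h1 : y.1 * (y⁻¹).1 = 1 := val_mul_inv y
  unfold MM
  rw [mul_add, add_mul, mul_one, h1, mul_vecMulVec, vecMulVec_mul]

/-- (P3) the commutator of two transvections -/
theorem InT.comm {c φ c' φ' : ι → K} (h : InT H c φ) (h' : InT H c' φ') (h0 : φ ⬝ᵥ c' = 0) :
    InT H ((φ' ⬝ᵥ c) • c') φ := by
  -- conjugate `1 + c φ` by `1 + c' φ'`, then multiply by the inverse of `1 + c φ`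
  have hd := h.dot
  have hd' := h'.dot
  obtain ⟨g', hgH', hg'⟩ := h'
  have h1 := h.conj hgH'
  have e1 : g'.1 *ᵥ c = c + (φ' ⬝ᵥ c) • c' := by rw [hg', MM_mulVec]
  -- the inverse of g' is `1 + (-c') φ'`
  have hinv : (g'⁻¹).1 = MM (-c') φ' := by
    have hn : InT H (-c') φ' := InT.neg ⟨g', hgH', hg'⟩
    have hm : g'.1 * MM (-c') φ' = 1 := by
      rw [hg', MM_mul_same_axis _ _ _ (by rw [dotProduct_neg, hd', neg_zero]), add_neg_cancel,
        MM_zero]
    have h3 : (g'⁻¹).1 * g'.1 = 1 := val_inv_mul g'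
    calc (g'⁻¹).1
        = (g'⁻¹).1 *
            (g'.1 * MM (-c') φ') := by rw [hm, mul_one]
      _ = MM (-c') φ' := by rw [← Matrix.mul_assoc, h3, one_mul]
  have e2 : φ ᵥ* (g'⁻¹).1 = φ := by
    rw [hinv, vecMul_MM, dotProduct_neg, h0, neg_zero, zero_smul, add_zero]
  rw [e1, e2] at h1
  have h2 := h1.sub h
  rwa [add_sub_cancel_left] at h2

/-- all transvections with axis `φ` lie in `H` -/
def QFull (H : Subgroup (SpecialLinearGroup ι K)) (φ : ι → K) : Prop :=
  ∀ c : ι → K, φ ⬝ᵥ c = 0 → InT H c φ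

theorem QFull.vecMul {φ : ι → K} (h : QFull H φ) {y : SpecialLinearGroup ι K} (hy : y ∈ H) :
    QFull H (φ ᵥ* y.1) := by
  intro c hc
  have h1 : φ ⬝ᵥ (y.1 *ᵥ c) = 0 := by
    rw [dotProduct_mulVec]; exact hc
  have h2 := (h _ h1).conj (H.inv_mem hy)
  have h3 : (y⁻¹).1 * y.1 = 1 := val_inv_mul y
  rw [inv_inv, mulVec_mulVec, h3, one_mulVec] at h2
  exact h2

theorem QFull.smul {φ : ι → K} {a : K} (ha : a ≠ 0) (h : QFull H (a • φ)) : QFull H φ := by
  intro c hc
  have h1 : (a • φ) ⬝ᵥ (a⁻¹ • c) = 0 := by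
    rw [smul_dotProduct, dotProduct_smul, hc, smul_zero, smul_zero]
  have h2 := h _ h1
  rw [← InT.smul_comm, smul_smul, mul_inv_cancel₀ ha, one_smul] at h2
  exact h2

/-- the standard basis vector -/
abbrev e (i : ι) : ι → K := Pi.single i 1

theorem e_dot (i : ι) (x : ι → K) : (e i : ι → K) ⬝ᵥ x = x i := by
  simp [e]

theorem dot_e (i : ι) (x : ι → K) : x ⬝ᵥ (e i : ι → K) = x i := by
  simp [e]

theorem single_eq_MM (i j : ι) (a : K) :
    (1 : Matrix ι ι K) + Matrix.single i j a = MM (a • e i) (e j) := by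
  unfold MM
  congr 1
  ext k l
  simp only [Matrix.single_apply, vecMulVec_apply, Pi.smul_apply, Pi.single_apply, smul_eq_mul, e]
  by_cases h1 : i = k <;> by_cases h2 : j = l <;> simp [h1, h2, eq_comm]

/-- **criterion**: if all column groups are contained in `H` then `H = ⊤` -/
theorem eq_top_of_qfull [Nontrivial ι] (h : ∀ j : ι, QFull H (e j : ι → K)) : H = ⊤ := by
  rw [eq_top_iff]
  intro A _
  refine Cfsg.Agent.Lib.Helper5_SLGen.transvection_induction (fun B => B ∈ H) ?_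
    (fun _ _ hA hB => H.mul_mem hA hB) A
  intro i j hij a
  have h1 : (e j : ι → K) ⬝ᵥ (a • e i) = 0 := by
    rw [e_dot, Pi.smul_apply]
    simp [e, hij.symm]
  obtain ⟨g, hgH, hg⟩ := h j _ h1
  have : g = SpecialLinearGroup.transvection hij a := by
    apply Subtype.ext
    rw [SpecialLinearGroup.transvection_coe, single_eq_MM]
    exact hg
  rw [← this]
  exact hgH

end Cfsg.Agent.Lib.Helper83_TvCalc
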