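import Mathlib
import Cfsg.Agent.Lib.Helper83_TvCalc

/-!
# Three conjugates of a regular unipotent element generate `SL_n(K)`

`Nup` is the upper shift, `Nlo ε` the weighted lower shift.  The main abstract criterion
`eq_top_of_three` : a subgroup of `SL_{m+3}(K)` containing `1 + Nup`, `1 + Nlo ε` (all `ε i ≠ 0`)
and the root element `1 + α E_{0,last}` is everything, as soon as `α` "generates" `K`.
-/

set_option autoImplicit false
set_option linter.unusedSectionVars false
set_option linter.unusedVariables false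

namespace Cfsg.Agent.Lib.Helper83_RegUnipSL

open Matrix Cfsg.Agent.Lib.Helper83_TvCalc

variable {K : Type*} [Field K]

/-- the upper shift matrix -/
def Nup (K : Type*) [Field K] (n : ℕ) : Matrix (Fin n) (Fin n) K :=
  Matrix.of fun i j => if j.val = i.val + 1 then 1 else 0

/-- the weighted lower shift matrix -/
def Nlo {n : ℕ} (ε : Fin n → K) : Matrix (Fin n) (Fin n) K :=
  Matrix.of fun i j => if i.val = j.val + 1 then ε j else 0

theorem Nup_apply (n : ℕ) (i j : Fin n) :
    Nup K n i j = if j.val = i.val + 1 then 1 else 0 := rfl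

theorem Nlo_apply {n : ℕ} (ε : Fin n → K) (i j : Fin n) :
    Nlo ε i j = if i.val = j.val + 1 then ε j else 0 := rfl

/-! ### powers of the upper shift, columns and rows -/

theorem Nup_pow (n k : ℕ) :
    (Nup K n) ^ k = Matrix.of fun i j => if j.val = i.val + k then (1 : K) else 0 := by
  induction k with
  | zero =>
    ext i j
    simp only [pow_zero, Matrix.one_apply, Matrix.of_apply, add_zero]
    by_cases h : i = j
    · subst h; simp
    · have : ¬ j.val = i.val := fun h' => h (Fin.ext h'.symm)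
      simp [h, this]
  | succ k ih =>
    ext i j
    rw [pow_succ, ih, Matrix.mul_apply]
    simp only [Matrix.of_apply, Nup_apply]
    by_cases hik : i.val + k < n
    · rw [Finset.sum_eq_single (⟨i.val + k, hik⟩ : Fin n)]
      · simp only [if_true, one_mul]
        by_cases hj : j.val = i.val + (k + 1)
        · rw [if_pos hj, if_pos (by omega)]
        · rw [if_neg hj, if_neg (by omega)]
      · intro l _ hl
        have : ¬ l.val = i.val + k := fun h' => hl (Fin.ext h')
        rw [if_neg this, zero_mul]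
      · intro h; exact absurd (Finset.mem_univ _) h
    · rw [Finset.sum_eq_zero]
      · rw [if_neg]
        have := j.isLt
        omega
      · intro l _
        have := l.isLt
        rw [if_neg (by omega), zero_mul]

theorem Nup_pow_self (n : ℕ) : (Nup K n) ^ n = 0 := by
  rw [Nup_pow]
  ext i j
  have := j.isLt
  simp only [Matrix.of_apply, Matrix.zero_apply]
  rw [if_neg (by omega)]

theorem Nup_pow_pred_ne_zero (m : ℕ) : (Nup K (m + 3)) ^ (m + 3 - 1) ≠ 0 := by
  rw [Nup_pow]
  intro h
  have h1 := congrFun (congrFun h (0 : Fin (m + 3))) (Fin.last (m + 2))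
  rw [Matrix.of_apply, Matrix.zero_apply, if_pos (by simp)] at h1
  exact one_ne_zero h1

theorem det_one_add_Nup (n : ℕ) : (1 + Nup K n).det = 1 := by
  rw [Matrix.det_of_isUpperTriangular]
  · apply Finset.prod_eq_one
    intro i _
    rw [Matrix.add_apply, Matrix.one_apply_eq, Nup_apply, if_neg (by omega), add_zero]
  · intro i j hij
    have hij' : j.val < i.val := hij
    rw [Matrix.add_apply, Matrix.one_apply_ne (by intro h; subst h; omega), Nup_apply,
      if_neg (by omega), add_zero]

theorem col_one_add_Nup_zero (m : ℕ) :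
    (1 + Nup K (m + 3)) *ᵥ (e (0 : Fin (m + 3)) : Fin (m + 3) → K) = e 0 := by
  rw [Matrix.mulVec_single_one]
  funext i
  rw [Matrix.col_apply, Matrix.add_apply, Nup_apply, if_neg (by simp), add_zero,
    Matrix.one_apply]
  simp only [e, Pi.single_apply]

theorem col_one_add_Nup_one (m : ℕ) :
    (1 + Nup K (m + 3)) *ᵥ (e (1 : Fin (m + 3)) : Fin (m + 3) → K) = e 0 + e 1 := by
  rw [Matrix.mulVec_single_one]
  funext i
  rw [Matrix.col_apply, Matrix.add_apply, Nup_apply, Matrix.one_apply, Pi.add_apply]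
  simp only [e, Pi.single_apply]
  have h1 : ((1 : Fin (m + 3)).val) = 1 := rfl
  by_cases h0 : i = 0
  · subst h0
    simp
  · have : ¬ ((1 : Fin (m + 3)).val = i.val + 1) := by
      rw [h1]
      intro h; apply h0; apply Fin.ext; simp only [Fin.val_zero]; omega
    rw [if_neg this, if_neg h0, zero_add, add_zero]

theorem row_last_one_add_Nup (m : ℕ) :
    (e (Fin.last (m + 2)) : Fin (m + 3) → K) ᵥ* (1 + Nup K (m + 3)) = e (Fin.last (m + 2)) := by
  rw [Matrix.single_one_vecMul]
  funext j
  have := j.isLt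
  rw [Matrix.row_apply, Matrix.add_apply, Nup_apply, if_neg (by simp; omega), add_zero,
    Matrix.one_apply]
  simp only [e, Pi.single_apply]
  by_cases h : Fin.last (m + 2) = j
  · rw [if_pos h, if_pos h.symm]
  · rw [if_neg h, if_neg (fun h' => h h'.symm)]

/-- the row `m+1` of `1 + Nup` -/
theorem row_pen_one_add_Nup (m : ℕ) :
    (e (⟨m + 1, by omega⟩ : Fin (m + 3)) : Fin (m + 3) → K) ᵥ* (1 + Nup K (m + 3)) =
      e ⟨m + 1, by omega⟩ + e (Fin.last (m + 2)) := by
  rw [Matrix.single_one_vecMul]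
  funext j
  rw [Matrix.row_apply, Matrix.add_apply, Nup_apply, Matrix.one_apply, Pi.add_apply]
  simp only [e, Pi.single_apply]
  congr 1
  · by_cases h : (⟨m + 1, by omega⟩ : Fin (m + 3)) = j
    · rw [if_pos h, if_pos h.symm]
    · rw [if_neg h, if_neg (fun h' => h h'.symm)]
  · by_cases h : j = Fin.last (m + 2)
    · subst h
      simp
    · have : ¬ j.val = m + 1 + 1 := by
        intro h'; apply h; apply Fin.ext; simp only [Fin.val_last]; omega
      rw [if_neg this, if_neg h]

theorem col_one_add_Nlo {n : ℕ} (ε : Fin n → K) (k : Fin n) (hk : k.val + 1 < n) :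
    (1 + Nlo ε) *ᵥ (e k : Fin n → K) = e k + ε k • e ⟨k.val + 1, hk⟩ := by
  rw [Matrix.mulVec_single_one]
  funext i
  rw [Matrix.col_apply, Matrix.add_apply, Nlo_apply, Matrix.one_apply, Pi.add_apply,
    Pi.smul_apply, smul_eq_mul]
  simp only [e, Pi.single_apply]
  congr 1
  by_cases h : i.val = k.val + 1
  · have : i = ⟨k.val + 1, hk⟩ := Fin.ext h
    rw [if_pos h, if_pos this, mul_one]
  · have : ¬ i = ⟨k.val + 1, hk⟩ := fun h' => h (by rw [h'])
    rw [if_neg h, if_neg this, mul_zero]

theorem row_one_add_Nlo {n : ℕ} (ε : Fin n → K) (j : Fin n) (hj : j.val + 1 < n) :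
    (e (⟨j.val + 1, hj⟩ : Fin n) : Fin n → K) ᵥ* (1 + Nlo ε) = e ⟨j.val + 1, hj⟩ + ε j • e j := by
  rw [Matrix.single_one_vecMul]
  funext l
  rw [Matrix.row_apply, Matrix.add_apply, Nlo_apply, Matrix.one_apply, Pi.add_apply,
    Pi.smul_apply, smul_eq_mul]
  simp only [e, Pi.single_apply]
  congr 1
  · by_cases h : (⟨j.val + 1, hj⟩ : Fin n) = l
    · rw [if_pos h, if_pos h.symm]
    · rw [if_neg h, if_neg (fun h' => h h'.symm)]
  · by_cases h : l = j
    · subst h
      simp
    · have : ¬ (j.val + 1 = l.val + 1) := by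
        intro h'; apply h; apply Fin.ext; omega
      rw [if_neg this, if_neg h, mul_zero]

/-- the entries of `(1 + Nlo ε) *ᵥ x` -/
theorem one_add_Nlo_mulVec_zero {n : ℕ} (ε : Fin n → K) (x : Fin n → K) (i : Fin n)
    (hi : i.val = 0) : ((1 + Nlo ε) *ᵥ x) i = x i := by
  rw [Matrix.add_mulVec, Matrix.one_mulVec, Pi.add_apply]
  have : (Nlo ε *ᵥ x) i = 0 := by
    rw [Matrix.mulVec, dotProduct]
    apply Finset.sum_eq_zero
    intro l _
    show Nlo ε i l * x l = 0
    rw [Nlo_apply, if_neg (by omega), zero_mul]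
  rw [this, add_zero]

theorem one_add_Nlo_mulVec_succ {n : ℕ} (ε : Fin n → K) (x : Fin n → K) (i l : Fin n)
    (hi : i.val = l.val + 1) : ((1 + Nlo ε) *ᵥ x) i = x i + ε l * x l := by
  rw [Matrix.add_mulVec, Matrix.one_mulVec, Pi.add_apply]
  have : (Nlo ε *ᵥ x) i = ε l * x l := by
    rw [Matrix.mulVec, dotProduct]
    rw [Finset.sum_eq_single l]
    · show Nlo ε i l * x l = _
      rw [Nlo_apply, if_pos hi]
    · intro b _ hb
      have : ¬ i.val = b.val + 1 := by
        intro h'; apply hb; apply Fin.ext; omega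
      show Nlo ε i b * x b = 0
      rw [Nlo_apply, if_neg this, zero_mul]
    · intro h; exact absurd (Finset.mem_univ _) h
  rw [this]

/-- the first column of the inverse of `1 + Nlo ε` has no zero entry -/
theorem inv_col_ne_zero {n : ℕ} (ε : Fin n → K) (hε : ∀ i, ε i ≠ 0)
    (v : SpecialLinearGroup (Fin n) K) (hv : v.1 = 1 + Nlo ε) (i0 : Fin n) (h0 : i0.val = 0)
    (i : Fin n) : (v⁻¹).1 i i0 ≠ 0 := by
  set x : Fin n → K := (v⁻¹).1 *ᵥ e i0 with hx
  have hvx : v.1 *ᵥ x = e i0 := by
    rw [hx, Matrix.mulVec_mulVec, val_mul_inv, Matrix.one_mulVec]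
  have hxi : ∀ i, x i = (v⁻¹).1 i i0 := by
    intro i
    rw [hx, Matrix.mulVec_single_one]
    rfl
  rw [← hxi]
  rw [hv] at hvx
  -- induction on the index
  have key : ∀ k : ℕ, ∀ i : Fin n, i.val = k → x i ≠ 0 := by
    intro k
    induction k with
    | zero =>
      intro i hi
      have h1 := congrFun hvx i
      rw [one_add_Nlo_mulVec_zero ε x i hi] at h1
      have : i = i0 := Fin.ext (by omega)
      rw [h1, this]
      simp [e]
    | succ k ih =>
      intro i hi
      have hk : k < n := by have := i.isLt; omega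
      have h1 := congrFun hvx i
      rw [one_add_Nlo_mulVec_succ ε x i ⟨k, hk⟩ (by simpa using hi)] at h1
      have hne : i ≠ i0 := by
        intro h; rw [h] at hi; omega
      have h2 : (e i0 : Fin n → K) i = 0 := by
        simp [e, hne]
      rw [h2] at h1
      have h3 : x i = -(ε ⟨k, hk⟩ * x ⟨k, hk⟩) := by linear_combination h1
      rw [h3]
      exact neg_ne_zero.2 (mul_ne_zero (hε _) (ih ⟨k, hk⟩ rfl))
  exact key i.val i rfl

/-! ### the main criterion -/

section main

variable {m : ℕ} {H : Subgroup (SpecialLinearGroup (Fin (m + 3)) K)}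
  {u v T : SpecialLinearGroup (Fin (m + 3)) K}

/-- **criterion**: `⟨1 + Nup, 1 + Nlo ε, 1 + α E_{0,last}⟩ = SL_{m+3}(K)` -/
theorem eq_top_of_three (hu : u ∈ H) (hv : v ∈ H) (hT : T ∈ H)
    (hu1 : u.1 = 1 + Nup K (m + 3)) (ε : Fin (m + 3) → K) (hε : ∀ i, ε i ≠ 0)
    (hv1 : v.1 = 1 + Nlo ε) (α : K)
    (hT1 : T.1 = MM (α • (e (0 : Fin (m + 3)) : Fin (m + 3) → K)) (e (Fin.last (m + 2))))
    (hgen : ∀ A : AddSubgroup K, α ∈ A →
      (∀ x ∈ A, ∀ y ∈ A, ε 0 * (v⁻¹).1 (Fin.last (m + 2)) 0 * x * y ∈ A) → A = ⊤) :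
    H = ⊤ := by
  set last : Fin (m + 3) := Fin.last (m + 2) with hlast
  set lam : K := (v⁻¹).1 last 0 with hlam
  have hlam0 : lam ≠ 0 := inv_col_ne_zero ε hε v hv1 0 rfl last
  -- basic vector facts
  have F1 : u.1 *ᵥ (e (0 : Fin (m + 3)) : Fin (m + 3) → K) = e 0 := by
    rw [hu1]; exact col_one_add_Nup_zero m
  have F2 : u.1 *ᵥ (e (1 : Fin (m + 3)) : Fin (m + 3) → K) = e 0 + e 1 := by
    rw [hu1]; exact col_one_add_Nup_one m
  have F3 : (e last : Fin (m + 3) → K) ᵥ* (u⁻¹).1 = e last := by
    have h1 : (e last : Fin (m + 3) → K) ᵥ* u.1 = e last := by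
      rw [hu1]; exact row_last_one_add_Nup m
    calc (e last : Fin (m + 3) → K) ᵥ* (u⁻¹).1
        = ((e last : Fin (m + 3) → K) ᵥ* u.1) ᵥ* (u⁻¹).1 := by rw [h1]
      _ = e last := by rw [Matrix.vecMul_vecMul, val_mul_inv, Matrix.vecMul_one]
  have F4 : ∀ (k : Fin (m + 3)) (hk : k.val + 1 < m + 3),
      v.1 *ᵥ (e k : Fin (m + 3) → K) = e k + ε k • e ⟨k.val + 1, hk⟩ := by
    intro k hk; rw [hv1]; exact col_one_add_Nlo ε k hk
  have F5 : ∀ (j : Fin (m + 3)) (hj : j.val + 1 < m + 3),
      (e (⟨j.val + 1, hj⟩ : Fin (m + 3)) : Fin (m + 3) → K) ᵥ* v.1 =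
        e ⟨j.val + 1, hj⟩ + ε j • e j := by
    intro j hj; rw [hv1]; exact row_one_add_Nlo ε j hj
  -- the pairing of the conjugated axis with `e 0`
  have Flam : ∀ w : Fin (m + 3) → K,
      ((e last : Fin (m + 3) → K) ᵥ* (v⁻¹).1) ⬝ᵥ w = ((v⁻¹).1 *ᵥ w) last := by
    intro w
    rw [← Matrix.dotProduct_mulVec, e_dot]
  have Flam0 : ∀ a : K, ((e last : Fin (m + 3) → K) ᵥ* (v⁻¹).1) ⬝ᵥ (a • e 0) = a * lam := by
    intro a
    rw [Flam, Matrix.mulVec_smul, Matrix.mulVec_single_one]
    rfl
  have h10 : (1 : Fin (m + 3)) = ⟨(0 : Fin (m + 3)).val + 1, by simp⟩ := by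
    apply Fin.ext; simp
  -- Step 0
  have hTin : InT H (α • (e (0 : Fin (m + 3)) : Fin (m + 3) → K)) (e last) := ⟨T, hT, hT1⟩
  -- the additive group of parameters
  let A : AddSubgroup K :=
    { carrier := {a | InT H (a • (e (0 : Fin (m + 3)) : Fin (m + 3) → K)) (e last)}
      zero_mem' := by
        show InT H ((0 : K) • (e (0 : Fin (m + 3)) : Fin (m + 3) → K)) (e last)
        rw [zero_smul]; exact InT.zero _
      add_mem' := by
        intro a b ha hb
        show InT H ((a + b) • (e (0 : Fin (m + 3)) : Fin (m + 3) → K)) (e last)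
        rw [add_smul]; exact InT.add ha hb
      neg_mem' := by
        intro a ha
        show InT H ((-a) • (e (0 : Fin (m + 3)) : Fin (m + 3) → K)) (e last)
        rw [neg_smul]; exact InT.neg ha }
  have hA : ∀ a, a ∈ A ↔ InT H (a • (e (0 : Fin (m + 3)) : Fin (m + 3) → K)) (e last) :=
    fun a => Iff.rfl
  -- Step 1 : multiplicative closure
  have hcl : ∀ x ∈ A, ∀ y ∈ A, ε 0 * lam * x * y ∈ A := by
    intro x hx y hy
    rw [hA] at hx hy ⊢
    have h2 := hy.conj hv
    have e2 : v.1 *ᵥ (y • (e (0 : Fin (m + 3)) : Fin (m + 3) → K)) =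
        y • (e 0 + ε 0 • e 1) := by
      rw [Matrix.mulVec_smul, F4 0 (by simp), ← h10]
    rw [e2] at h2
    have h0 : (e last : Fin (m + 3) → K) ⬝ᵥ (y • (e 0 + ε 0 • e 1)) = 0 := by
      rw [e_dot]
      simp only [Pi.smul_apply, Pi.add_apply, e, Pi.single_apply, smul_eq_mul]
      have h1 : ¬ last = 0 := by
        intro h; have := congrArg Fin.val h; simp [hlast] at this
      have h2 : ¬ last = 1 := by
        intro h; have := congrArg Fin.val h; simp [hlast] at this
      rw [if_neg h1, if_neg h2]; ring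
    have h3 := hx.comm h2 h0
    rw [Flam0] at h3
    have h4 := h3.conj hu
    rw [F3] at h4
    have e4 : u.1 *ᵥ ((x * lam) • y • ((e 0 : Fin (m + 3) → K) + ε 0 • e 1)) =
        (x * lam) • y • (e 0 + ε 0 • (e 0 + e 1)) := by
      rw [Matrix.mulVec_smul, Matrix.mulVec_smul, Matrix.mulVec_add, Matrix.mulVec_smul, F1, F2]
    rw [e4] at h4
    have h5 := h4.sub h3
    have e5 : (x * lam) • y • ((e 0 : Fin (m + 3) → K) + ε 0 • (e 0 + e 1)) -
        (x * lam) • y • (e 0 + ε 0 • e 1) = (ε 0 * lam * x * y) • e 0 := by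
      funext i
      simp only [Pi.sub_apply, Pi.smul_apply, Pi.add_apply, smul_eq_mul]
      ring
    rw [e5] at h5
    exact h5
  have hAtop : A = ⊤ := hgen A ((hA α).2 hTin) hcl
  have hall0 : ∀ a : K, InT H (a • (e (0 : Fin (m + 3)) : Fin (m + 3) → K)) (e last) := by
    intro a
    rw [← hA, hAtop]
    exact AddSubgroup.mem_top a
  -- Step 2 : all `E_{k,last}`
  have hstep2 : ∀ k : ℕ, ∀ hk : k + 1 < m + 3, ∀ a : K,
      InT H (a • (e (⟨k, by omega⟩ : Fin (m + 3)) : Fin (m + 3) → K)) (e last) := by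
    intro k
    induction k with
    | zero =>
      intro _ a
      exact hall0 a
    | succ k ih =>
      intro hk a
      have hk' : k + 1 < m + 3 := by omega
      set ek : Fin (m + 3) := ⟨k, by omega⟩ with hek
      have hεk : ε ek ≠ 0 := hε ek
      set a' : K := a / (lam * ε ek) with ha'
      have h1 := hall0 1
      have h2 := (ih hk' a').conj hv
      have e2 : v.1 *ᵥ (a' • (e ek : Fin (m + 3) → K)) =
          a' • (e ek + ε ek • e ⟨k + 1, by omega⟩) := by
        rw [Matrix.mulVec_smul, F4 ek (by simp [hek]; omega)]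
      rw [e2] at h2
      have h0 : (e last : Fin (m + 3) → K) ⬝ᵥ (a' • (e ek + ε ek • e ⟨k + 1, by omega⟩)) = 0 := by
        rw [e_dot]
        simp only [Pi.smul_apply, Pi.add_apply, e, Pi.single_apply, smul_eq_mul]
        have h1 : ¬ last = ek := by
          intro h; have := congrArg Fin.val h; simp [hlast, hek] at this; omega
        have h2 : ¬ last = (⟨k + 1, by omega⟩ : Fin (m + 3)) := by
          intro h; have := congrArg Fin.val h; simp [hlast] at this; omega
        rw [if_neg h1, if_neg h2]; ring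
      have h3 := h1.comm h2 h0
      rw [Flam0] at h3
      have h4 := h3.sub (ih hk' (lam * a'))
      have e4 : ((1 : K) * lam) • a' • ((e ek : Fin (m + 3) → K) + ε ek • e ⟨k + 1, by omega⟩) -
          (lam * a') • e ek = a • e ⟨k + 1, by omega⟩ := by
        funext i
        simp only [Pi.sub_apply, Pi.smul_apply, Pi.add_apply, smul_eq_mul]
        rw [ha']
        field_simp
        ring
      rw [e4] at h4
      exact h4
  -- Step 3 : the full last column group
  have hQlast : QFull H (e last : Fin (m + 3) → K) := by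
    intro c hc
    rw [e_dot] at hc
    have hsum : c = ∑ i : Fin (m + 3), c i • (e i : Fin (m + 3) → K) := by
      funext j
      rw [Finset.sum_apply]
      simp only [Pi.smul_apply, e, Pi.single_apply, smul_eq_mul, mul_ite, mul_one, mul_zero]
      rw [Finset.sum_ite_eq]
      simp
    rw [hsum]
    apply InT.sum
    intro i _
    by_cases hi : i = last
    · rw [hi, hc, zero_smul]; exact InT.zero _
    · have hi' : i.val + 1 < m + 3 := by
        have h1 := i.isLt
        have h2 : i.val ≠ m + 2 := by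
          intro h; apply hi; apply Fin.ext; simp [hlast, h]
        omega
      exact hstep2 i.val hi' (c i)
  -- Step 4 : all column groups, downward induction
  have hQ : ∀ d : ℕ, ∀ j : ℕ, ∀ hj : j < m + 3, j + d = m + 2 →
      QFull H (e (⟨j, hj⟩ : Fin (m + 3)) : Fin (m + 3) → K) := by
    intro d
    induction d with
    | zero =>
      intro j hj hjd
      have : (⟨j, hj⟩ : Fin (m + 3)) = last := by
        apply Fin.ext; simp [hlast]; omega
      rw [this]; exact hQlast
    | succ d ih =>
      intro j hj hjd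
      have hj1 : j + 1 < m + 3 := by omega
      have q0 := ih (j + 1) hj1 (by omega)
      set ej : Fin (m + 3) := ⟨j, hj⟩ with hej
      have q1 := q0.vecMul hv
      have e1 : (e (⟨j + 1, hj1⟩ : Fin (m + 3)) : Fin (m + 3) → K) ᵥ* v.1 =
          e ⟨j + 1, hj1⟩ + ε ej • e ej := F5 ej hj1
      rw [e1] at q1
      have hne : (⟨j + 1, hj1⟩ : Fin (m + 3)) ≠ ej := by
        intro h; have := congrArg Fin.val h; simp [hej] at this
      have hz0 : (e (⟨j + 1, hj1⟩ : Fin (m + 3)) : Fin (m + 3) → K) ⬝ᵥ
          ((-(ε ej)⁻¹) • (e ej : Fin (m + 3) → K)) = 0 := by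
        rw [e_dot]
        simp [e, hne]
      obtain ⟨z, hzH, hz⟩ := q0 _ hz0
      have q2 := q1.vecMul hzH
      have e2 : ((e (⟨j + 1, hj1⟩ : Fin (m + 3)) : Fin (m + 3) → K) + ε ej • e ej) ᵥ* z.1 =
          ε ej • e ej := by
        rw [hz, vecMul_MM]
        funext i
        simp only [Pi.add_apply, Pi.smul_apply, smul_eq_mul, add_dotProduct, smul_dotProduct,
          e_dot]
        simp only [e, Pi.single_apply]
        rw [if_neg hne]
        simp only [if_true, mul_one, mul_zero, zero_add]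
        have h1 : ε ej * -(ε ej)⁻¹ = -1 := by
          have := hε ej
          field_simp
        rw [h1]
        ring
      rw [e2] at q2
      exact q2.smul (hε ej)
  -- Step 5
  apply eq_top_of_qfull
  intro j
  exact hQ (m + 2 - j.val) j.val j.isLt (by have := j.isLt; omega)

end main


/-! ### the signed reversal matrix -/

/-- the reversal permutation matrix -/
def Prev (K : Type*) [Field K] (n : ℕ) : Matrix (Fin n) (Fin n) K :=
  Matrix.of fun i j => if j = Fin.rev i then 1 else 0

theorem Prev_mul_self (n : ℕ) : Prev K n * Prev K n = 1 := by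
  ext i k
  rw [Matrix.mul_apply, Finset.sum_eq_single (Fin.rev i)]
  · simp only [Prev, Matrix.of_apply, if_true, one_mul, Fin.rev_rev, Matrix.one_apply]
    by_cases h : i = k
    · rw [if_pos h, if_pos h.symm]
    · rw [if_neg h, if_neg (fun h' => h h'.symm)]
  · intro j _ hj
    simp only [Prev, Matrix.of_apply]
    rw [if_neg hj, zero_mul]
  · intro h; exact absurd (Finset.mem_univ _) h

/-- the sign of the reversal -/
def sgn (K : Type*) [Field K] (n : ℕ) : K := (Prev K n).det

theorem sgn_mul_self (n : ℕ) : sgn K n * sgn K n = 1 := by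
  unfold sgn
  rw [← Matrix.det_mul, Prev_mul_self, Matrix.det_one]

theorem sgn_ne_zero (n : ℕ) : sgn K n ≠ 0 := by
  intro h
  have := sgn_mul_self (K := K) n
  rw [h, mul_zero] at this
  exact zero_ne_one this

/-- the diagonal correction -/
def dd (K : Type*) [Field K] (n : ℕ) (i : Fin (n + 1)) : K := if i = 0 then sgn K (n + 1) else 1

/-- the weights of the lower shift -/
def eps (K : Type*) [Field K] (n : ℕ) (i : Fin (n + 1)) : K := if i = 0 then sgn K (n + 1) else 1

theorem eps_ne_zero (n : ℕ) (i : Fin (n + 1)) : eps K n i ≠ 0 := by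
  unfold eps
  split_ifs
  · exact sgn_ne_zero _
  · exact one_ne_zero

/-- the signed reversal matrix -/
def hmat (K : Type*) [Field K] (n : ℕ) : Matrix (Fin (n + 1)) (Fin (n + 1)) K :=
  Matrix.of fun i j => if j = Fin.rev i then dd K n i else 0

theorem hmat_eq (n : ℕ) : hmat K n = Matrix.diagonal (dd K n) * Prev K (n + 1) := by
  ext i j
  rw [Matrix.diagonal_mul]
  simp only [hmat, Prev, Matrix.of_apply, mul_ite, mul_one, mul_zero]

theorem det_hmat (n : ℕ) : (hmat K n).det = 1 := by
  rw [hmat_eq, Matrix.det_mul, Matrix.det_diagonal]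
  have : ∏ i, dd K n i = sgn K (n + 1) := by
    unfold dd
    rw [Finset.prod_ite_eq' Finset.univ (0 : Fin (n + 1)) (fun _ => sgn K (n + 1))]
    simp
  rw [this]
  exact sgn_mul_self _

theorem hmat_mul (m : ℕ) :
    hmat K (m + 2) * (1 + Nup K (m + 3)) = (1 + Nlo (eps K (m + 2))) * hmat K (m + 2) := by
  ext i j
  rw [Matrix.mul_apply, Matrix.mul_apply]
  rw [Finset.sum_eq_single (Fin.rev i), Finset.sum_eq_single (Fin.rev j)]
  · simp only [hmat, Matrix.of_apply, if_true, Fin.rev_rev]
    rw [Matrix.add_apply, Matrix.add_apply, Nup_apply, Nlo_apply, Matrix.one_apply,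
      Matrix.one_apply]
    have hi := i.isLt
    have hj := j.isLt
    have hri : (Fin.rev i).val = m + 2 - i.val := by rw [Fin.val_rev]; omega
    have hrj : (Fin.rev j).val = m + 2 - j.val := by rw [Fin.val_rev]; omega
    by_cases c1 : i.val + j.val = m + 2
    · have e1 : Fin.rev i = j := by apply Fin.ext; rw [hri]; omega
      have e2 : i = Fin.rev j := by apply Fin.ext; rw [hrj]; omega
      rw [if_pos e1, if_pos e2, if_neg (by rw [hri]; omega), if_neg (by rw [hrj]; omega),
        ← e2]
      ring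
    · have e1 : ¬ Fin.rev i = j := by
        intro h; apply c1; have := congrArg Fin.val h; rw [hri] at this; omega
      have e2 : ¬ i = Fin.rev j := by
        intro h; apply c1; have := congrArg Fin.val h; rw [hrj] at this; omega
      rw [if_neg e1, if_neg e2]
      by_cases c2 : i.val + j.val = m + 3
      · rw [if_pos (by rw [hri]; omega), if_pos (by rw [hrj]; omega)]
        simp only [zero_add, mul_one]
        -- the weights
        unfold dd eps
        by_cases hi1 : i.val = 1
        · have h0 : Fin.rev j = 0 := by apply Fin.ext; rw [hrj]; simp; omega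
          have hi0 : ¬ i = 0 := by intro h; rw [h] at hi1; simp at hi1
          rw [if_neg hi0, h0, if_pos rfl, sgn_mul_self]
        · have h0 : ¬ Fin.rev j = 0 := by
            intro h; have := congrArg Fin.val h; rw [hrj] at this; simp at this; omega
          have hi0 : ¬ i = 0 := by
            intro h; rw [h] at c2; simp at c2; omega
          rw [if_neg hi0, if_neg h0, mul_one]
      · rw [if_neg (by rw [hri]; omega), if_neg (by rw [hrj]; omega)]
        ring
  · intro k _ hk
    simp only [hmat, Matrix.of_apply]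
    have : ¬ j = Fin.rev k := by
      intro h; apply hk; rw [h, Fin.rev_rev]
    rw [if_neg this, mul_zero]
  · intro h; exact absurd (Finset.mem_univ _) h
  · intro k _ hk
    simp only [hmat, Matrix.of_apply]
    rw [if_neg hk, zero_mul]
  · intro h; exact absurd (Finset.mem_univ _) h


/-! ### the three elements -/

/-- the regular unipotent element `1 + Nup` -/
def uS (K : Type*) [Field K] (n : ℕ) : SpecialLinearGroup (Fin n) K :=
  ⟨1 + Nup K n, det_one_add_Nup n⟩

/-- the signed reversal as an element of the special linear group -/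
def hS (K : Type*) [Field K] (n : ℕ) : SpecialLinearGroup (Fin (n + 1)) K :=
  ⟨hmat K n, det_hmat n⟩

theorem uS_regular (m : ℕ) :
    IsNilpotent (((uS K (m + 3)) : Matrix (Fin (m + 3)) (Fin (m + 3)) K) - 1) ∧
      (((uS K (m + 3)) : Matrix (Fin (m + 3)) (Fin (m + 3)) K) - 1) ^ (m + 3 - 1) ≠ 0 := by
  have h : ((uS K (m + 3)) : Matrix (Fin (m + 3)) (Fin (m + 3)) K) - 1 = Nup K (m + 3) := by
    show (1 + Nup K (m + 3)) - 1 = Nup K (m + 3)
    rw [add_sub_cancel_left]
  rw [h]
  exact ⟨⟨m + 3, Nup_pow_self _⟩, Nup_pow_pred_ne_zero m⟩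

theorem conj_hS (m : ℕ) :
    (hS K (m + 2) * uS K (m + 3) * (hS K (m + 2))⁻¹).1 = 1 + Nlo (eps K (m + 2)) := by
  rw [val_mul, val_mul]
  have h1 : (hS K (m + 2)).1 * (uS K (m + 3)).1 =
      (1 + Nlo (eps K (m + 2))) * (hS K (m + 2)).1 := hmat_mul m
  rw [h1, Matrix.mul_assoc, val_mul_inv, mul_one]

/-- the conjugate of `uS` by the root element `E_{0,m+1}(α)` is `uS * E_{0,last}(α)` -/
theorem conj_transvection (m : ℕ) (α : K)
    (h01 : (0 : Fin (m + 3)) ≠ ⟨m + 1, by omega⟩) (h0l : (0 : Fin (m + 3)) ≠ Fin.last (m + 2)) :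
    SpecialLinearGroup.transvection h01 α * uS K (m + 3) *
        (SpecialLinearGroup.transvection h01 α)⁻¹ =
      uS K (m + 3) * SpecialLinearGroup.transvection h0l α := by
  rw [mul_inv_eq_iff_eq_mul]
  apply Subtype.ext
  rw [val_mul, val_mul, val_mul]
  have hg : (SpecialLinearGroup.transvection h01 α).1 =
      MM (α • (e (0 : Fin (m + 3)) : Fin (m + 3) → K)) (e ⟨m + 1, by omega⟩) := by
    rw [← single_eq_MM]; rfl
  have hT : (SpecialLinearGroup.transvection h0l α).1 =
      MM (α • (e (0 : Fin (m + 3)) : Fin (m + 3) → K)) (e (Fin.last (m + 2))) := by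
    rw [← single_eq_MM]; rfl
  have hu : (uS K (m + 3)).1 = 1 + Nup K (m + 3) := rfl
  rw [hg, hT, Matrix.mul_assoc, MM_mul_same_centre, MM_mul', mul_MM, hu, row_pen_one_add_Nup,
    Matrix.mulVec_smul, col_one_add_Nup_zero, add_comm (e (Fin.last (m + 2)))]
  rw [e_dot]
  simp [e, h0l.symm]

end Cfsg.Agent.Lib.Helper83_RegUnipSL
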