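import Mathlib
import Cfsg.Agent.Lib.Helper83_RegUnipSL

/-!
# Pairs of conjugate regular unipotent elements generating `SL₃(F)`

Tools for S2278: a calculus with explicit `3 × 3` matrices, the powers of a lower triangular
matrix with a double eigenvalue, and a criterion for an additive subgroup of a finite field to be
everything.
-/

set_option autoImplicit false
set_option linter.unusedSectionVars false
set_option linter.unusedVariables false
set_option linter.unusedSimpArgs false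
set_option linter.unusedTactic false
set_option linter.unreachableTactic false
set_option linter.unnecessarySeqFocus false

namespace Cfsg.Agent.Lib.Helper83_SL3Pair

open Matrix Cfsg.Agent.Lib.Helper83_TvCalc

variable {K : Type*} [Field K]

section general

variable {ι : Type*} [Fintype ι] [DecidableEq ι] {H : Subgroup (SpecialLinearGroup ι K)}

theorem inv_mulVec_of {y : SpecialLinearGroup ι K} {a b : ι → K} (h : y.1 *ᵥ a = b) :
    (y⁻¹).1 *ᵥ b = a := by
  rw [← h, Matrix.mulVec_mulVec, val_inv_mul, Matrix.one_mulVec]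

theorem val_pow (a : SpecialLinearGroup ι K) (n : ℕ) : (a ^ n).1 = a.1 ^ n := by
  induction n with
  | zero => rfl
  | succ n ih => rw [pow_succ, pow_succ, val_mul, ih]

theorem vecMul_inv_of {y : SpecialLinearGroup ι K} {a b : ι → K} (h : a ᵥ* y.1 = b) :
    b ᵥ* (y⁻¹).1 = a := by
  rw [← h, Matrix.vecMul_vecMul, val_mul_inv, Matrix.vecMul_one]

/-- conjugation by `y`, with the results supplied -/
theorem InT_conj {c φ c' φ' : ι → K} (h : InT H c φ) {y : SpecialLinearGroup ι K} (hy : y ∈ H)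
    (hc : y.1 *ᵥ c = c') (hφ : φ' ᵥ* y.1 = φ) : InT H c' φ' := by
  have h1 := h.conj hy
  rw [hc, vecMul_inv_of hφ] at h1
  exact h1

/-- conjugation by `y⁻¹`, with the results supplied -/
theorem InT_conj_inv {c φ c' φ' : ι → K} (h : InT H c φ) {y : SpecialLinearGroup ι K}
    (hy : y ∈ H) (hc : y.1 *ᵥ c' = c) (hφ : φ ᵥ* y.1 = φ') : InT H c' φ' := by
  have h1 := h.conj (H.inv_mem hy)
  rw [inv_mulVec_of hc, inv_inv, hφ] at h1
  exact h1

/-- moving the axis along a pencil -/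
theorem QFull_pencil {φ ψ c : ι → K} (hφ : QFull H φ) (hψ : QFull H ψ) (h0 : ψ ⬝ᵥ c = 0)
    (h1 : φ ⬝ᵥ c = 1) (t : K) : QFull H (φ + t • ψ) := by
  have hin : InT H (t • c) ψ := hψ _ (by rw [dotProduct_smul, h0, smul_zero])
  obtain ⟨y, hyH, hy⟩ := hin
  have h2 := hφ.vecMul hyH
  rw [hy, vecMul_MM, dotProduct_smul, h1, smul_eq_mul, mul_one] at h2
  exact h2

theorem QFull_smul {φ : ι → K} {a : K} (ha : a ≠ 0) (h : QFull H φ) : QFull H (a • φ) := by
  apply QFull.smul (inv_ne_zero ha)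
  rw [smul_smul, inv_mul_cancel₀ ha, one_smul]
  exact h

end general

/-! ### powers of a lower triangular matrix with a double eigenvalue -/

/-- the matrix `[[l,0,0],[a,m,0],[b,0,l]]` -/
def Lmat (l m a b : K) : Matrix (Fin 3) (Fin 3) K := !![l, 0, 0; a, m, 0; b, 0, l]

/-- the sum `Σ_{i<n} l^i m^(n-1-i)` -/
def Ssum (l m : K) : ℕ → K
  | 0 => 0
  | n + 1 => l * Ssum l m n + m ^ n

/-- the sum `n l^(n-1)` -/
def Rsum (l : K) : ℕ → K
  | 0 => 0
  | n + 1 => l * Rsum l n + l ^ n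

theorem Ssum_mul (l m : K) (n : ℕ) : (l - m) * Ssum l m n = l ^ n - m ^ n := by
  induction n with
  | zero => simp [Ssum]
  | succ n ih =>
    simp only [Ssum]
    rw [pow_succ, pow_succ]
    linear_combination l * ih

theorem Rsum_mul (l : K) (n : ℕ) : l * Rsum l n = n * l ^ n := by
  induction n with
  | zero => simp [Rsum]
  | succ n ih =>
    simp only [Rsum]
    push_cast
    rw [pow_succ]
    linear_combination l * ih

theorem Lmat_pow (l m a b : K) (n : ℕ) :
    (Lmat l m a b) ^ n = Lmat (l ^ n) (m ^ n) (a * Ssum l m n) (b * Rsum l n) := by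
  induction n with
  | zero =>
    simp only [pow_zero, Ssum, Rsum, mul_zero, Lmat]
    ext i j
    fin_cases i <;> fin_cases j <;> simp
  | succ n ih =>
    rw [pow_succ, ih]
    simp only [Lmat, Ssum, Rsum]
    ext i j
    fin_cases i <;> fin_cases j <;> simp [Matrix.mul_apply, Fin.sum_univ_three] <;> ring


/-! ### additive subgroups of finite fields stable under a multiplication -/

section gen

variable {F : Type*} [Field F] [Fintype F]




/-- the multiplier subfield of an additive subgroup -/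
def mulField (A : AddSubgroup F) : Subfield F where
  carrier := {x | ∀ a ∈ A, x * a ∈ A}
  mul_mem' := by
    intro x y hx hy a ha
    rw [mul_assoc]
    exact hx _ (hy _ ha)
  one_mem' := by
    intro a ha
    rwa [one_mul]
  add_mem' := by
    intro x y hx hy a ha
    rw [add_mul]
    exact A.add_mem (hx _ ha) (hy _ ha)
  zero_mem' := by
    intro a _
    rw [zero_mul]
    exact A.zero_mem
  neg_mem' := by
    intro x hx a ha
    rw [neg_mul]
    exact A.neg_mem (hx _ ha)
  inv_mem' := by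
    intro x hx a ha
    by_cases h0 : x = 0
    · rw [h0, _root_.inv_zero, zero_mul]; exact A.zero_mem
    · -- x⁻¹ = x ^ (q - 2)
      have hq : x ^ (Fintype.card F - 1) = 1 := FiniteField.pow_card_sub_one_eq_one x h0
      have h2 : 2 ≤ Fintype.card F := Fintype.one_lt_card
      have hinv : x⁻¹ = x ^ (Fintype.card F - 2) := by
        apply inv_eq_of_mul_eq_one_right
        rw [← pow_succ']
        have : Fintype.card F - 2 + 1 = Fintype.card F - 1 := by omega
        rw [this, hq]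
      rw [hinv]
      have hpow : ∀ n : ℕ, ∀ b ∈ A, x ^ n * b ∈ A := by
        intro n
        induction n with
        | zero => intro b hb; rwa [pow_zero, one_mul]
        | succ n ih =>
          intro b hb
          rw [pow_succ, mul_assoc]
          exact ih _ (hx _ hb)
      exact hpow _ a ha

theorem mem_mulField (A : AddSubgroup F) (x : F) : x ∈ mulField A ↔ ∀ a ∈ A, x * a ∈ A := Iff.rfl

/-- an additive subgroup of a finite field (not of order 4) which contains a non-zero element and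
is stable under multiplication by the cube of a generator of the unit group is everything -/
theorem eq_top_of_cube (hq : Fintype.card F ≠ 4) (β : Fˣ)
    (hβ : ∀ y : Fˣ, y ∈ Submonoid.powers β) (A : AddSubgroup F) (ν : F) (hν : ν ∈ A)
    (hν0 : ν ≠ 0) (hcl : ∀ x ∈ A, (β : F) ^ 3 * x ∈ A) : A = ⊤ := by
  classical
  set K := mulField A with hK
  have hβK : (β : F) ^ 3 ∈ K := hcl
  -- it suffices to show K = ⊤
  suffices hKtop : ∀ x : F, x ∈ K by
    rw [eq_top_iff]
    intro y _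
    have h1 := hKtop (y * ν⁻¹) ν hν
    rwa [mul_assoc, inv_mul_cancel₀ hν0, mul_one] at h1
  -- cardinalities
  have hcard : Fintype.card F = Fintype.card K ^ Module.finrank K F := Module.card_eq_pow_finrank
  set r := Fintype.card K with hr
  set m := Module.finrank K F with hm
  have hr2 : 2 ≤ r := Fintype.one_lt_card
  have hmpos : 0 < m := Module.finrank_pos
  -- the order of β
  have hord : orderOf β = Fintype.card F - 1 := by
    have h1 : orderOf β = Nat.card Fˣ := by
      apply orderOf_eq_card_of_forall_mem_zpowers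
      intro y
      obtain ⟨n, hn⟩ := hβ y
      exact ⟨n, by simpa using hn⟩
    rw [h1, Nat.card_eq_fintype_card, Fintype.card_units]
  by_cases hm1 : m = 1
  · -- K has the same cardinality as F
    rw [hm1, pow_one] at hcard
    intro x
    have hbij : Function.Bijective (Subtype.val : K → F) :=
      (Fintype.bijective_iff_injective_and_card _).2 ⟨Subtype.val_injective, hcard.symm⟩
    obtain ⟨k, hk⟩ := hbij.2 x
    rw [← hk]
    exact k.2
  · exfalso
    have hm2 : 2 ≤ m := by omega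
    -- (β^3)^(r-1) = 1
    have h1 : ((⟨(β : F) ^ 3, hβK⟩ : K)) ^ (r - 1) = 1 := by
      apply FiniteField.pow_card_sub_one_eq_one
      intro h
      have := congrArg Subtype.val h
      simp at this
    have h2 : (β : F) ^ (3 * (r - 1)) = 1 := by
      have := congrArg Subtype.val h1
      simpa [pow_mul] using this
    have h3 : β ^ (3 * (r - 1)) = 1 := by
      apply Units.ext
      simpa using h2
    have h4 : Fintype.card F - 1 ∣ 3 * (r - 1) := by
      rw [← hord]; exact orderOf_dvd_of_pow_eq_one h3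
    have h5 : Fintype.card F - 1 ≤ 3 * (r - 1) := Nat.le_of_dvd (by omega) h4
    have h6 : r ^ 2 ≤ Fintype.card F := by
      rw [hcard]; exact Nat.pow_le_pow_right (by omega) hm2
    have h7 : r = 2 := by
      by_contra hne
      have h3r : 3 ≤ r := by omega
      have : 3 * r ≤ r * r := Nat.mul_le_mul_right r h3r
      rw [pow_two] at h6
      omega
    have h8 : Fintype.card F ≤ 4 := by omega
    rw [h7] at hcard
    have h9 : m = 2 := by
      by_contra hne
      have : 3 ≤ m := by omega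
      have : 2 ^ 3 ≤ 2 ^ m := Nat.pow_le_pow_right (by omega) this
      omega
    rw [h9] at hcard
    exact hq (by rw [hcard]; norm_num)


end gen


/-! ### explicit vectors -/

section families

open Cfsg.Agent.Lib.Helper83_RegUnipSL




abbrev E0 : Fin 3 → K := ![1, 0, 0]
abbrev E1 : Fin 3 → K := ![0, 1, 0]
abbrev E2 : Fin 3 → K := ![0, 0, 1]

theorem e0_eq : (e (0 : Fin 3) : Fin 3 → K) = E0 := by
  ext i; fin_cases i <;> simp [e]
theorem e1_eq : (e (1 : Fin 3) : Fin 3 → K) = E1 := by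
  ext i; fin_cases i <;> simp [e]
theorem e2_eq : (e (2 : Fin 3) : Fin 3 → K) = E2 := by
  ext i; fin_cases i <;> simp [e]

/-- `1 + ν E₂₀` -/
theorem Lmat_eq_MM (ν : K) : Lmat 1 1 0 ν = MM (ν • (E2 : Fin 3 → K)) E0 := by
  unfold Lmat MM
  ext i j
  fin_cases i <;> fin_cases j <;> simp [vecMulVec_apply, Matrix.one_apply]

theorem Lmat_mul (l m a b l' m' a' b' : K) :
    Lmat l m a b * Lmat l' m' a' b' = Lmat (l * l') (m * m') (a * l' + m * a') (b * l' + l * b') := by
  unfold Lmat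
  ext i j
  fin_cases i <;> fin_cases j <;> simp [Matrix.mul_apply, Fin.sum_univ_three]

/-! ### the family for characteristic at least 5 -/

def UY : Matrix (Fin 3) (Fin 3) K := !![0, 0, 1; 1, 0, -3; 0, 1, 3]

def VY (l : K) : Matrix (Fin 3) (Fin 3) K := !![3, (l ^ 2)⁻¹, 0; -3 * l ^ 2, 0, l; l, 0, 0]

def GY (l : K) : Matrix (Fin 3) (Fin 3) K :=
  !![-l⁻¹, -3 * l⁻¹, -6 * l⁻¹; 0, 3 * l, 8 * l; 0, -1, -3]

theorem det_UY : (UY : Matrix (Fin 3) (Fin 3) K).det = 1 := by
  unfold UY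
  rw [Matrix.det_fin_three]
  simp

theorem det_VY (l : K) (hl : l ≠ 0) : (VY l).det = 1 := by
  unfold VY
  rw [Matrix.det_fin_three]
  simp
  field_simp

theorem det_GY (l : K) (hl : l ≠ 0) : (GY l).det = 1 := by
  unfold GY
  rw [Matrix.det_fin_three]
  simp
  field_simp
  ring

theorem GY_mul_UY (l : K) (hl : l ≠ 0) : GY l * UY = VY l * GY l := by
  unfold GY UY VY
  ext i j
  fin_cases i <;> fin_cases j <;> simp [Matrix.mul_apply, Fin.sum_univ_three] <;> field_simp <;> ring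

theorem UY_mul_VY (l : K) (hl : l ≠ 0) :
    UY * VY l = Lmat l (l ^ 2)⁻¹ (3 - 3 * l) (3 * l - 3 * l ^ 2) := by
  unfold UY VY Lmat
  ext i j
  fin_cases i <;> fin_cases j <;> simp [Matrix.mul_apply, Fin.sum_univ_three] <;> ring

theorem UY_sub_one_cube : ((UY : Matrix (Fin 3) (Fin 3) K) - 1) ^ 3 = 0 := by
  unfold UY
  rw [pow_succ, pow_two]
  ext i j
  fin_cases i <;> fin_cases j <;> simp [Matrix.mul_apply, Fin.sum_univ_three, Matrix.one_apply] <;> ring

theorem UY_sub_one_sq : ((UY : Matrix (Fin 3) (Fin 3) K) - 1) ^ 2 ≠ 0 := by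
  intro h
  have h1 := congrFun (congrFun h 0) 0
  unfold UY at h1
  rw [pow_two] at h1
  simp [Matrix.mul_apply, Fin.sum_univ_three, Matrix.one_apply] at h1


/-! ### vector computations -/

theorem UY_mulVec (x y z : K) : (UY : Matrix (Fin 3) (Fin 3) K) *ᵥ ![x, y, z] = ![z, x - 3 * z, y + 3 * z] := by
  unfold UY
  ext i
  fin_cases i <;> simp [Matrix.mulVec, dotProduct, Fin.sum_univ_three] <;> ring

theorem vecMul_UY (x y z : K) : ![x, y, z] ᵥ* (UY : Matrix (Fin 3) (Fin 3) K) = ![y, z, x - 3 * y + 3 * z] := by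
  unfold UY
  ext i
  fin_cases i <;> simp [Matrix.vecMul, dotProduct, Fin.sum_univ_three] <;> ring

theorem Lmat_mulVec (l m a b x y z : K) : Lmat l m a b *ᵥ ![x, y, z] = ![l * x, a * x + m * y, b * x + l * z] := by
  unfold Lmat
  ext i
  fin_cases i <;> simp [Matrix.mulVec, dotProduct, Fin.sum_univ_three]

theorem vecMul_Lmat (l m a b x y z : K) : ![x, y, z] ᵥ* Lmat l m a b = ![x * l + y * a + z * b, y * m, z * l] := by
  unfold Lmat
  ext i
  fin_cases i <;> simp [Matrix.vecMul, dotProduct, Fin.sum_univ_three]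

theorem smul_vec3 (t x y z : K) : t • (![x, y, z] : Fin 3 → K) = ![t * x, t * y, t * z] := by
  ext i
  fin_cases i <;> simp

theorem dot_vec3 (x y z x' y' z' : K) : (![x, y, z] : Fin 3 → K) ⬝ᵥ ![x', y', z'] = x * x' + y * y' + z * z' := by
  simp [dotProduct, Fin.sum_univ_three]


/-- the elements of `SL₃` -/
def uY : SpecialLinearGroup (Fin 3) K := ⟨UY, det_UY⟩
def vY (l : K) (hl : l ≠ 0) : SpecialLinearGroup (Fin 3) K := ⟨VY l, det_VY l hl⟩
def gY (l : K) (hl : l ≠ 0) : SpecialLinearGroup (Fin 3) K := ⟨GY l, det_GY l hl⟩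

theorem conj_Y (l : K) (hl : l ≠ 0) : gY l hl * uY * (gY l hl)⁻¹ = vY l hl := by
  rw [mul_inv_eq_iff_eq_mul]
  apply Subtype.ext
  exact GY_mul_UY l hl

/-- **generation**, characteristic at least five -/
theorem closure_Y [Fintype K] (l : K) (hl : l ≠ 0) (h3 : (3 : K) ≠ 0) (hl3 : l ^ 3 ≠ 1)
    (hgen : ∀ A : AddSubgroup K, ∀ ν ∈ A, ν ≠ 0 → (∀ x ∈ A, (l ^ 3)⁻¹ * x ∈ A) → A = ⊤) :
    Subgroup.closure ({uY, vY l hl} : Set (SpecialLinearGroup (Fin 3) K)) = ⊤ := by
  classical
  set H := Subgroup.closure ({uY, vY l hl} : Set (SpecialLinearGroup (Fin 3) K)) with hH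
  have hu : (uY : SpecialLinearGroup (Fin 3) K) ∈ H := Subgroup.subset_closure (by simp)
  have hv : vY l hl ∈ H := Subgroup.subset_closure (by simp)
  set m : K := (l ^ 2)⁻¹ with hm
  set a : K := 3 - 3 * l with ha
  set b : K := 3 * l - 3 * l ^ 2 with hb
  have hm0 : m ≠ 0 := inv_ne_zero (pow_ne_zero 2 hl)
  have hlm : l ≠ m := by
    intro h
    apply hl3
    rw [hm] at h
    have h2 : l * l ^ 2 = 1 := by
      nth_rewrite 1 [h]
      exact inv_mul_cancel₀ (pow_ne_zero 2 hl)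
    rw [← h2]; ring
  have hl1 : l ≠ 1 := by
    intro h; apply hl3; rw [h]; ring
  -- the product
  set gg := uY * vY l hl with hgg
  have hggH : gg ∈ H := H.mul_mem hu hv
  have hgg1 : gg.1 = Lmat l m a b := UY_mul_VY l hl
  -- its power
  set q := Fintype.card K with hq
  have hq1 : 1 ≤ q := Fintype.card_pos
  have hlq : l ^ (q - 1) = 1 := FiniteField.pow_card_sub_one_eq_one l hl
  have hmq : m ^ (q - 1) = 1 := FiniteField.pow_card_sub_one_eq_one m hm0
  have hS : Ssum l m (q - 1) = 0 := by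
    have h1 := Ssum_mul l m (q - 1)
    rw [hlq, hmq, sub_self] at h1
    rcases mul_eq_zero.1 h1 with h2 | h2
    · exact absurd (sub_eq_zero.1 h2) hlm
    · exact h2
  have hR : Rsum l (q - 1) = -l⁻¹ := by
    have h1 := Rsum_mul l (q - 1)
    rw [hlq, mul_one, Nat.cast_sub hq1, Nat.cast_one, hq, FiniteField.cast_card_eq_zero, zero_sub] at h1
    field_simp
    linear_combination h1
  set ν : K := b * Rsum l (q - 1) with hν
  have hν' : ν = 3 * (l - 1) := by
    rw [hν, hR, hb]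
    field_simp
    ring
  have hν0 : ν ≠ 0 := by
    rw [hν']
    exact mul_ne_zero h3 (sub_ne_zero.2 hl1)
  have hnH : gg ^ (q - 1) ∈ H := H.pow_mem hggH _
  have hn1 : (gg ^ (q - 1)).1 = MM (ν • (E2 : Fin 3 → K)) E0 := by
    rw [val_pow, hgg1, Lmat_pow, hlq, hmq, hS, mul_zero, ← hν, Lmat_eq_MM]
  have hin : InT H (ν • (E2 : Fin 3 → K)) E0 := ⟨_, hnH, hn1⟩
  -- the homology
  set s := gg * gg ^ (q - 1) with hs
  have hsH : s ∈ H := H.mul_mem hggH hnH
  have hs1 : s.1 = Lmat l m a 0 := by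
    rw [hs, val_mul, val_pow, hgg1, Lmat_pow, hlq, hmq, hS, mul_zero, Lmat_mul]
    congr 1
    · ring
    · ring
    · ring
    · rw [hR]; field_simp; ring
  -- the multiplication step
  have hstep : ∀ x : K, InT H (x • (E2 : Fin 3 → K)) E0 → InT H (((l ^ 3)⁻¹ * x) • (E2 : Fin 3 → K)) E0 := by
    intro x hx
    have h1 : InT H (x • (E1 : Fin 3 → K)) E2 := by
      apply InT_conj_inv hx hu
      · show UY *ᵥ _ = _
        rw [smul_vec3, UY_mulVec, smul_vec3]
        ext i; fin_cases i <;> simp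
      · show _ ᵥ* UY = _
        rw [vecMul_UY]
        ext i; fin_cases i <;> simp
    have h2 : InT H ((m * x) • (E1 : Fin 3 → K)) (l⁻¹ • (E2 : Fin 3 → K)) := by
      apply InT_conj h1 hsH
      · rw [hs1, smul_vec3, Lmat_mulVec, smul_vec3]
        ext i; fin_cases i <;> simp
      · rw [hs1, smul_vec3, vecMul_Lmat]
        ext i; fin_cases i <;> simp [hl]
    have h3' : InT H ((m * x) • (E2 : Fin 3 → K)) (l⁻¹ • (E0 : Fin 3 → K)) := by
      apply InT_conj h2 hu
      · show UY *ᵥ _ = _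
        rw [smul_vec3, UY_mulVec, smul_vec3]
        ext i; fin_cases i <;> simp
      · show _ ᵥ* UY = _
        rw [smul_vec3, vecMul_UY, smul_vec3]
        ext i; fin_cases i <;> simp
    have h4 := InT.smul_comm.2 h3'
    rw [smul_smul] at h4
    have e : l⁻¹ * (m * x) = (l ^ 3)⁻¹ * x := by
      rw [hm]; field_simp
    rwa [e] at h4
  -- the additive group of parameters
  let A : AddSubgroup K :=
    { carrier := {x | InT H (x • (E2 : Fin 3 → K)) E0}
      zero_mem' := by
        show InT H ((0 : K) • (E2 : Fin 3 → K)) E0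
        rw [zero_smul]; exact InT.zero _
      add_mem' := by
        intro x y hx hy
        show InT H ((x + y) • (E2 : Fin 3 → K)) E0
        rw [add_smul]; exact InT.add hx hy
      neg_mem' := by
        intro x hx
        show InT H ((-x) • (E2 : Fin 3 → K)) E0
        rw [neg_smul]; exact InT.neg hx }
  have hAtop : A = ⊤ := hgen A ν hin hν0 (fun x hx => hstep x hx)
  have hall : ∀ x : K, InT H (x • (E2 : Fin 3 → K)) E0 := by
    intro x
    have : x ∈ A := by rw [hAtop]; exact AddSubgroup.mem_top x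
    exact this
  -- the root group `X₁₂`
  have h12 : ∀ x : K, InT H (x • (E1 : Fin 3 → K)) E2 := by
    intro x
    apply InT_conj_inv (hall x) hu
    · show UY *ᵥ _ = _
      rw [smul_vec3, UY_mulVec, smul_vec3]
      ext i; fin_cases i <;> simp
    · show _ ᵥ* UY = _
      rw [vecMul_UY]
      ext i; fin_cases i <;> simp
  -- the root group `X₁₀`
  have h10 : ∀ x : K, InT H (x • (E1 : Fin 3 → K)) E0 := by
    intro x
    have h0 : (E0 : Fin 3 → K) ⬝ᵥ ((1 : K) • (E1 : Fin 3 → K)) = 0 := by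
      rw [smul_vec3, dot_vec3]; ring
    have h1 := (hall x).comm (h12 1) h0
    have e : ((E2 : Fin 3 → K) ⬝ᵥ (x • (E2 : Fin 3 → K))) • ((1 : K) • (E1 : Fin 3 → K)) = x • E1 := by
      rw [smul_vec3, dot_vec3, smul_smul]; congr 1; ring
    rwa [e] at h1
  have hQ0 : QFull H (E0 : Fin 3 → K) := by
    intro c hc
    have hc0 : c 0 = 0 := by
      have : (E0 : Fin 3 → K) ⬝ᵥ c = c 0 := by
        simp [dotProduct, Fin.sum_univ_three]
      rw [← this]; exact hc
    have hsum : c = c 1 • (E1 : Fin 3 → K) + c 2 • (E2 : Fin 3 → K) := by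
      ext i; fin_cases i <;> simp [hc0]
    rw [hsum]
    exact (h10 _).add (hall _)
  have hQ2 : QFull H (E2 : Fin 3 → K) := by
    have h1 := hQ0.vecMul hu
    have e : (E0 : Fin 3 → K) ᵥ* (uY : SpecialLinearGroup (Fin 3) K).1 = E2 := by
      show _ ᵥ* UY = _
      rw [vecMul_UY]
      ext i; fin_cases i <;> simp
    rwa [e] at h1
  have hQ13 : QFull H (![0, 1, 3] : Fin 3 → K) := by
    have h1 := hQ2.vecMul hu
    have e : (E2 : Fin 3 → K) ᵥ* (uY : SpecialLinearGroup (Fin 3) K).1 = ![0, 1, 3] := by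
      show _ ᵥ* UY = _
      rw [vecMul_UY]
      ext i; fin_cases i <;> simp
    rwa [e] at h1
  have hQ1 : QFull H (E1 : Fin 3 → K) := by
    have h1 := QFull_pencil hQ13 hQ2 (c := E1) (by rw [dot_vec3]; ring) (by rw [dot_vec3]; ring) (-3)
    have e : (![0, 1, 3] : Fin 3 → K) + (-3 : K) • (E2 : Fin 3 → K) = E1 := by
      ext i; fin_cases i <;> simp
    rwa [e] at h1
  apply eq_top_of_qfull
  intro j
  fin_cases j
  · show QFull H (e (0 : Fin 3)); rw [e0_eq]; exact hQ0
  · show QFull H (e (1 : Fin 3)); rw [e1_eq]; exact hQ1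
  · show QFull H (e (2 : Fin 3)); rw [e2_eq]; exact hQ2


/-! ### the family for characteristic 3 -/

def U3 (l : K) : Matrix (Fin 3) (Fin 3) K := !![0, -l⁻¹, l; 1, 0, 1; 0, l⁻¹, 0]

def V3 (l : K) : Matrix (Fin 3) (Fin 3) K := !![-1, (l ^ 2)⁻¹, -1; l ^ 2, 0, l ^ 2; -1, 0, 1]

def G3 (l : K) : Matrix (Fin 3) (Fin 3) K := !![l⁻¹, -l⁻¹, l⁻¹; 0, l, l ^ 2; 0, -l⁻¹, 0]

theorem det_U3 (l : K) (hl : l ≠ 0) : (U3 l).det = 1 := by
  unfold U3
  rw [Matrix.det_fin_three]
  simp
  field_simp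

theorem det_V3 (l : K) (hl : l ≠ 0) (h3 : (3 : K) = 0) : (V3 l).det = 1 := by
  unfold V3
  rw [Matrix.det_fin_three]
  simp
  field_simp
  linear_combination (-1 : K) * h3

theorem det_G3 (l : K) (hl : l ≠ 0) : (G3 l).det = 1 := by
  unfold G3
  rw [Matrix.det_fin_three]
  simp
  field_simp

theorem G3_mul_U3 (l : K) (hl : l ≠ 0) (h3 : (3 : K) = 0) : G3 l * U3 l = V3 l * G3 l := by
  unfold G3 U3 V3
  ext i j
  fin_cases i <;> fin_cases j <;> simp [Matrix.mul_apply, Fin.sum_univ_three] <;> (try field_simp) <;>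
    (try ring_nf) <;> (try simp [h3]) <;> (try linear_combination h3) <;>
    (try linear_combination (-1 : K) * h3)

theorem U3_mul_V3 (l : K) (hl : l ≠ 0) (h3 : (3 : K) = 0) :
    U3 l * V3 l = Lmat l (l ^ 2)⁻¹ 1 l := by
  unfold U3 V3 Lmat
  ext i j
  fin_cases i <;> fin_cases j <;> simp [Matrix.mul_apply, Fin.sum_univ_three] <;> (try field_simp) <;>
    (try ring_nf) <;> (try simp [h3]) <;> (try linear_combination h3) <;>
    (try linear_combination (-1 : K) * h3)

theorem U3_sub_one_cube (l : K) (hl : l ≠ 0) (h3 : (3 : K) = 0) : (U3 l - 1) ^ 3 = 0 := by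
  unfold U3
  rw [pow_succ, pow_two]
  ext i j
  fin_cases i <;> fin_cases j <;> simp [Matrix.mul_apply, Fin.sum_univ_three, Matrix.one_apply] <;>
    (try field_simp) <;> ring_nf <;> (try simp [h3])

theorem U3_sub_one_sq (l : K) (h3 : (3 : K) = 0) : (U3 l - 1) ^ 2 ≠ 0 := by
  intro h
  have h1 := congrFun (congrFun h 1) 0
  unfold U3 at h1
  rw [pow_two] at h1
  simp [Matrix.mul_apply, Fin.sum_univ_three, Matrix.one_apply] at h1
  have h2 : (1 : K) = 0 := by linear_combination h3 + h1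
  exact one_ne_zero h2

theorem U3_mulVec (l x y z : K) : U3 l *ᵥ ![x, y, z] = ![-l⁻¹ * y + l * z, x + z, l⁻¹ * y] := by
  unfold U3
  ext i
  fin_cases i <;> simp [Matrix.mulVec, dotProduct, Fin.sum_univ_three]

theorem vecMul_U3 (l x y z : K) : ![x, y, z] ᵥ* U3 l = ![y, -l⁻¹ * x + l⁻¹ * z, l * x + y] := by
  unfold U3
  ext i
  fin_cases i <;> simp [Matrix.vecMul, dotProduct, Fin.sum_univ_three] <;> ring

theorem V3_mulVec (l x y z : K) :
    V3 l *ᵥ ![x, y, z] = ![-x + (l ^ 2)⁻¹ * y - z, l ^ 2 * x + l ^ 2 * z, -x + z] := by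
  unfold V3
  ext i
  fin_cases i <;> simp [Matrix.mulVec, dotProduct, Fin.sum_univ_three] <;> ring

theorem vecMul_V3 (l x y z : K) :
    ![x, y, z] ᵥ* V3 l = ![-x + l ^ 2 * y - z, (l ^ 2)⁻¹ * x, -x + l ^ 2 * y + z] := by
  unfold V3
  ext i
  fin_cases i <;> simp [Matrix.vecMul, dotProduct, Fin.sum_univ_three] <;> ring


def u3 (l : K) (hl : l ≠ 0) : SpecialLinearGroup (Fin 3) K := ⟨U3 l, det_U3 l hl⟩
def v3 (l : K) (hl : l ≠ 0) (h3 : (3 : K) = 0) : SpecialLinearGroup (Fin 3) K :=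
  ⟨V3 l, det_V3 l hl h3⟩
def g3 (l : K) (hl : l ≠ 0) : SpecialLinearGroup (Fin 3) K := ⟨G3 l, det_G3 l hl⟩

theorem conj_3 (l : K) (hl : l ≠ 0) (h3 : (3 : K) = 0) :
    g3 l hl * u3 l hl * (g3 l hl)⁻¹ = v3 l hl h3 := by
  rw [mul_inv_eq_iff_eq_mul]
  apply Subtype.ext
  exact G3_mul_U3 l hl h3

/-- **generation**, characteristic three -/
theorem closure_3 [Fintype K] (l : K) (hl : l ≠ 0) (h3 : (3 : K) = 0) (hl3 : l ^ 3 ≠ 1)
    (hgen : ∀ A : AddSubgroup K, ∀ ν ∈ A, ν ≠ 0 → (∀ x ∈ A, (l ^ 3)⁻¹ * x ∈ A) → A = ⊤) :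
    Subgroup.closure ({u3 l hl, v3 l hl h3} : Set (SpecialLinearGroup (Fin 3) K)) = ⊤ := by
  classical
  set H := Subgroup.closure ({u3 l hl, v3 l hl h3} : Set (SpecialLinearGroup (Fin 3) K)) with hH
  have hu : u3 l hl ∈ H := Subgroup.subset_closure (by simp)
  have hv : v3 l hl h3 ∈ H := Subgroup.subset_closure (by simp)
  set m : K := (l ^ 2)⁻¹ with hm
  have hm0 : m ≠ 0 := inv_ne_zero (pow_ne_zero 2 hl)
  have hlm : l ≠ m := by
    intro h
    apply hl3
    rw [hm] at h
    have h2 : l * l ^ 2 = 1 := by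
      nth_rewrite 1 [h]
      exact inv_mul_cancel₀ (pow_ne_zero 2 hl)
    rw [← h2]; ring
  have h2' : (2 : K) = -1 := by linear_combination h3
  -- the product
  set gg := u3 l hl * v3 l hl h3 with hgg
  have hggH : gg ∈ H := H.mul_mem hu hv
  have hgg1 : gg.1 = Lmat l m 1 l := U3_mul_V3 l hl h3
  -- its power
  set q := Fintype.card K with hq
  have hq1 : 1 ≤ q := Fintype.card_pos
  have hlq : l ^ (q - 1) = 1 := FiniteField.pow_card_sub_one_eq_one l hl
  have hmq : m ^ (q - 1) = 1 := FiniteField.pow_card_sub_one_eq_one m hm0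
  have hS : Ssum l m (q - 1) = 0 := by
    have h1 := Ssum_mul l m (q - 1)
    rw [hlq, hmq, sub_self] at h1
    rcases mul_eq_zero.1 h1 with h2 | h2
    · exact absurd (sub_eq_zero.1 h2) hlm
    · exact h2
  have hR : Rsum l (q - 1) = -l⁻¹ := by
    have h1 := Rsum_mul l (q - 1)
    rw [hlq, mul_one, Nat.cast_sub hq1, Nat.cast_one, hq, FiniteField.cast_card_eq_zero, zero_sub] at h1
    field_simp
    linear_combination h1
  have hnH : gg ^ (q - 1) ∈ H := H.pow_mem hggH _
  have hn1 : (gg ^ (q - 1)).1 = MM ((-1 : K) • (E2 : Fin 3 → K)) E0 := by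
    rw [val_pow, hgg1, Lmat_pow, hlq, hmq, hS, mul_zero, hR, ← Lmat_eq_MM]
    congr 1
    field_simp
  have hin : InT H ((-1 : K) • (E2 : Fin 3 → K)) E0 := ⟨_, hnH, hn1⟩
  -- the homology
  set s := gg * gg ^ (q - 1) with hs
  have hsH : s ∈ H := H.mul_mem hggH hnH
  have hs1 : s.1 = Lmat l m 1 0 := by
    rw [hs, val_mul, val_pow, hgg1, Lmat_pow, hlq, hmq, hS, mul_zero, Lmat_mul]
    congr 1
    · ring
    · ring
    · ring
    · rw [hR]; field_simp; ring
  -- the conjugating element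
  set h := v3 l hl h3 * u3 l hl with hh
  have hhH : h ∈ H := H.mul_mem hv hu
  have hh1 : h.1 = V3 l * U3 l := rfl
  have hmulVec : ∀ c : Fin 3 → K, h.1 *ᵥ c = V3 l *ᵥ (U3 l *ᵥ c) := by
    intro c; rw [hh1, Matrix.mulVec_mulVec]
  have hvecMul : ∀ c : Fin 3 → K, c ᵥ* h.1 = (c ᵥ* V3 l) ᵥ* U3 l := by
    intro c; rw [hh1, Matrix.vecMul_vecMul]
  set r : Fin 3 → K := ![m, 0, m - l] with hr
  have hE0h : (E0 : Fin 3 → K) ᵥ* h.1 = r := by
    rw [hvecMul, vecMul_V3, vecMul_U3, hr]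
    ext i; fin_cases i <;> simp [hm] <;> ring
  have hhE1 : ∀ t : K, h.1 *ᵥ (t • (E1 : Fin 3 → K)) = (-l⁻¹ * t) • (E2 : Fin 3 → K) := by
    intro t
    rw [hmulVec, smul_vec3, U3_mulVec, V3_mulVec, smul_vec3]
    ext i; fin_cases i <;> simp <;> (try field_simp) <;> (try ring_nf) <;> (try simp [h3]) <;>
      (try linear_combination (t) * h3) <;> (try linear_combination (-t) * h3)
  -- the multiplication step
  have hstep : ∀ x : K, InT H (x • (E2 : Fin 3 → K)) E0 → InT H (((l ^ 3)⁻¹ * x) • (E2 : Fin 3 → K)) E0 := by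
    intro x hx
    have k1 : InT H ((-l * x) • (E1 : Fin 3 → K)) r := by
      apply InT_conj_inv hx hhH
      · rw [hhE1]
        congr 1
        field_simp
      · exact hE0h
    have k2 : InT H ((m * (-l * x)) • (E1 : Fin 3 → K)) (l⁻¹ • r) := by
      apply InT_conj k1 hsH
      · rw [hs1, smul_vec3, Lmat_mulVec, smul_vec3]
        ext i; fin_cases i <;> simp
      · rw [hs1, hr, smul_vec3, vecMul_Lmat]
        ext i; fin_cases i <;> simp [hl] <;> field_simp
    have k3 : InT H ((m * x) • (E2 : Fin 3 → K)) (l⁻¹ • (E0 : Fin 3 → K)) := by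
      apply InT_conj k2 hhH
      · rw [hhE1]
        congr 1
        field_simp
      · rw [Matrix.smul_vecMul, hE0h]
    have h4 := InT.smul_comm.2 k3
    rw [smul_smul] at h4
    have e : l⁻¹ * (m * x) = (l ^ 3)⁻¹ * x := by
      rw [hm]; field_simp
    rwa [e] at h4
  -- the additive group of parameters
  let A : AddSubgroup K :=
    { carrier := {x | InT H (x • (E2 : Fin 3 → K)) E0}
      zero_mem' := by
        show InT H ((0 : K) • (E2 : Fin 3 → K)) E0
        rw [zero_smul]; exact InT.zero _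
      add_mem' := by
        intro x y hx hy
        show InT H ((x + y) • (E2 : Fin 3 → K)) E0
        rw [add_smul]; exact InT.add hx hy
      neg_mem' := by
        intro x hx
        show InT H ((-x) • (E2 : Fin 3 → K)) E0
        rw [neg_smul]; exact InT.neg hx }
  have hAtop : A = ⊤ := hgen A (-1) hin (by simp) (fun x hx => hstep x hx)
  have hall : ∀ x : K, InT H (x • (E2 : Fin 3 → K)) E0 := by
    intro x
    have : x ∈ A := by rw [hAtop]; exact AddSubgroup.mem_top x
    exact this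
  -- two further root groups
  set φU : Fin 3 → K := ![-l⁻¹, 1, -l⁻¹] with hφU
  set φV : Fin 3 → K := ![-1, m, -1] with hφV
  have hφUU : φU ᵥ* (u3 l hl).1 = E0 := by
    show _ ᵥ* U3 l = _
    rw [hφU, vecMul_U3]
    ext i; fin_cases i <;> simp [hl]
  have hFU : ∀ x : K, InT H (x • (![l, 1, 0] : Fin 3 → K)) φU := by
    intro x
    apply InT_conj (hall x) hu
    · show U3 l *ᵥ _ = _
      rw [smul_vec3, U3_mulVec, smul_vec3]
      ext i; fin_cases i <;> simp <;> ring
    · exact hφUU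
  have hFV : ∀ y : K, InT H (y • (![1, 0, -1] : Fin 3 → K)) φV := by
    intro y
    apply InT_conj_inv (hall y) hv
    · show V3 l *ᵥ _ = _
      rw [smul_vec3, V3_mulVec, smul_vec3]
      ext i; fin_cases i <;> simp <;> (try ring_nf) <;> (try simp [h3]) <;>
        (try linear_combination (-y) * h3) <;> (try linear_combination (y) * h3)
    · show _ ᵥ* V3 l = _
      rw [vecMul_V3, hφV]
      ext i; fin_cases i <;> simp [hm]
  have hml : m - l ≠ 0 := sub_ne_zero.2 (Ne.symm hlm)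
  have hFU2 : ∀ z : K, InT H (z • (![1, 0, -1] : Fin 3 → K)) φU := by
    intro z
    have h0 : φU ⬝ᵥ (z • (![1, 0, -1] : Fin 3 → K)) = 0 := by
      rw [hφU, smul_vec3, dot_vec3]; ring
    have h1 := (hFU (m - l)⁻¹).comm (hFV z) h0
    have e : (φV ⬝ᵥ ((m - l)⁻¹ • (![l, 1, 0] : Fin 3 → K))) • (z • (![1, 0, -1] : Fin 3 → K)) =
        z • (![1, 0, -1] : Fin 3 → K) := by
      rw [hφV, smul_vec3, dot_vec3, smul_smul]
      congr 1
      field_simp
      ring
    rwa [e] at h1
  have hQU : QFull H φU := by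
    intro c hc
    have hc' : -l⁻¹ * c 0 + c 1 - l⁻¹ * c 2 = 0 := by
      have : φU ⬝ᵥ c = -l⁻¹ * c 0 + c 1 - l⁻¹ * c 2 := by
        rw [hφU]
        simp [dotProduct, Fin.sum_univ_three]
        ring
      rw [← this]; exact hc
    have hc2 : c 2 = l * c 1 - c 0 := by
      field_simp at hc'
      linear_combination -hc'
    have hsum : c = c 1 • (![l, 1, 0] : Fin 3 → K) + (c 0 - l * c 1) • (![1, 0, -1] : Fin 3 → K) := by
      ext i; fin_cases i <;> simp [hc2] <;> ring
    rw [hsum]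
    exact (hFU _).add (hFU2 _)
  have hQ0 : QFull H (E0 : Fin 3 → K) := by
    have h1 := hQU.vecMul hu
    rwa [hφUU] at h1
  have hQα : QFull H (![0, -l⁻¹, l] : Fin 3 → K) := by
    have h1 := hQ0.vecMul hu
    have e : (E0 : Fin 3 → K) ᵥ* (u3 l hl).1 = ![0, -l⁻¹, l] := by
      show _ ᵥ* U3 l = _
      rw [vecMul_U3]
      ext i; fin_cases i <;> simp
    rwa [e] at h1
  have hQβ1 : QFull H (![0, 1, -l⁻¹] : Fin 3 → K) := by
    have h1 := QFull_pencil hQU hQ0 (c := E1) (by rw [dot_vec3]; ring) (by rw [hφU, dot_vec3]; ring) l⁻¹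
    have e : φU + l⁻¹ • (E0 : Fin 3 → K) = ![0, 1, -l⁻¹] := by
      rw [hφU]
      ext i; fin_cases i <;> simp
    rwa [e] at h1
  have hQβ2 : QFull H (![0, 1, -l ^ 2] : Fin 3 → K) := by
    have h1 := QFull_smul (a := -l) (neg_ne_zero.2 hl) hQα
    have e : (-l) • (![0, -l⁻¹, l] : Fin 3 → K) = ![0, 1, -l ^ 2] := by
      rw [smul_vec3]
      ext i; fin_cases i <;> simp <;> field_simp
    rwa [e] at h1
  set δ : K := l ^ 2 - l⁻¹ with hδ
  have hδ0 : δ ≠ 0 := by
    intro hz
    apply hl3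
    have e : l ^ 3 - 1 = l * δ := by rw [hδ]; field_simp
    have e2 : l ^ 3 - 1 = 0 := by rw [e, hz, mul_zero]
    exact sub_eq_zero.1 e2
  have hQ2 : QFull H (E2 : Fin 3 → K) := by
    have h1 := QFull_pencil hQβ1 hQβ2 (c := δ⁻¹ • (![0, l ^ 2, 1] : Fin 3 → K))
      (by rw [smul_vec3, dot_vec3]; ring)
      (by rw [smul_vec3, dot_vec3, hδ]; field_simp; ring) (-1)
    have e : (![0, 1, -l⁻¹] : Fin 3 → K) + (-1 : K) • (![0, 1, -l ^ 2] : Fin 3 → K) = δ • (E2 : Fin 3 → K) := by
      rw [hδ]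
      ext i; fin_cases i <;> simp <;> ring
    rw [e] at h1
    exact QFull.smul hδ0 h1
  have hQ1 : QFull H (E1 : Fin 3 → K) := by
    have h1 := QFull_pencil hQβ1 hQ2 (c := E1) (by rw [dot_vec3]; ring) (by rw [dot_vec3]; ring) l⁻¹
    have e : (![0, 1, -l⁻¹] : Fin 3 → K) + l⁻¹ • (E2 : Fin 3 → K) = E1 := by
      ext i; fin_cases i <;> simp
    rwa [e] at h1
  apply eq_top_of_qfull
  intro j
  fin_cases j
  · show QFull H (e (0 : Fin 3)); rw [e0_eq]; exact hQ0
  · show QFull H (e (1 : Fin 3)); rw [e1_eq]; exact hQ1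
  · show QFull H (e (2 : Fin 3)); rw [e2_eq]; exact hQ2






/-! ### the family for characteristic 2 -/

def U2 : Matrix (Fin 3) (Fin 3) K := !![1, 1, 0; 0, 1, 1; 0, 0, 1]
def V0 : Matrix (Fin 3) (Fin 3) K := !![1, 0, 0; 1, 1, 0; 0, 1, 1]
def V0i : Matrix (Fin 3) (Fin 3) K := !![1, 0, 0; -1, 1, 0; 1, -1, 1]
def V2 (β : K) : Matrix (Fin 3) (Fin 3) K := !![1, 0, 0; 1, 1, 0; β, 1, 1]
def G2 (β : K) : Matrix (Fin 3) (Fin 3) K := !![0, 0, 1; 0, 1, 0; 1, β, 0]
def W2 : Matrix (Fin 3) (Fin 3) K := !![0, 0, 1; 0, 1, 0; 1, 0, 0]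
def Td (β : K) : Matrix (Fin 3) (Fin 3) K := !![1, 0, 0; 0, 1, 0; β, 0, 1]
def Tu (β : K) : Matrix (Fin 3) (Fin 3) K := !![1, 0, β; 0, 1, 0; 0, 0, 1]

theorem one_add_Nup_eq : (1 + Nup K 3 : Matrix (Fin 3) (Fin 3) K) = U2 := by
  unfold U2
  ext i j
  fin_cases i <;> fin_cases j <;> simp [Nup_apply, Matrix.one_apply]

theorem one_add_Nlo_eq : (1 + Nlo (fun _ : Fin 3 => (1 : K)) : Matrix (Fin 3) (Fin 3) K) = V0 := by
  unfold V0
  ext i j
  fin_cases i <;> fin_cases j <;> simp [Nlo_apply, Matrix.one_apply]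

theorem det_V2 (β : K) : (V2 β).det = 1 := by
  unfold V2
  rw [Matrix.det_fin_three]
  simp

theorem det_G2 (β : K) (h2 : (2 : K) = 0) : (G2 β).det = 1 := by
  unfold G2
  rw [Matrix.det_fin_three]
  simp
  linear_combination (-1 : K) * h2

theorem G2_mul_U2 (β : K) : G2 β * U2 = V2 β * G2 β := by
  unfold G2 U2 V2
  ext i j
  fin_cases i <;> fin_cases j <;> simp [Matrix.mul_apply, Fin.sum_univ_three] <;> ring

theorem word_W2 (β : K) (h2 : (2 : K) = 0) :
    (U2 * U2) * (V2 β * V2 β) * (U2 * U2) = (W2 : Matrix (Fin 3) (Fin 3) K) := by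
  have e1 : (U2 * U2 : Matrix (Fin 3) (Fin 3) K) = Tu 1 := by
    unfold U2 Tu
    ext i j
    fin_cases i <;> fin_cases j <;> simp [Matrix.mul_apply, Fin.sum_univ_three] <;>
      (try ring_nf) <;> (try simp [h2]) <;> (try linear_combination h2)
  have e2 : (V2 β * V2 β : Matrix (Fin 3) (Fin 3) K) = Td 1 := by
    unfold V2 Td
    ext i j
    fin_cases i <;> fin_cases j <;> simp [Matrix.mul_apply, Fin.sum_univ_three] <;>
      (try ring_nf) <;> (try simp [h2]) <;> (try linear_combination h2) <;>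
      (try linear_combination β * h2)
  rw [e1, e2]
  unfold Tu Td W2
  ext i j
  fin_cases i <;> fin_cases j <;> simp [Matrix.mul_apply, Fin.sum_univ_three] <;>
    (try ring_nf) <;> (try simp [h2]) <;> (try linear_combination h2)

theorem W2_mul_W2 : (W2 * W2 : Matrix (Fin 3) (Fin 3) K) = 1 := by
  unfold W2
  ext i j
  fin_cases i <;> fin_cases j <;> simp [Matrix.mul_apply, Fin.sum_univ_three, Matrix.one_apply]

theorem W2_conj_U2 : (W2 * U2 * W2 : Matrix (Fin 3) (Fin 3) K) = V0 := by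
  unfold W2 U2 V0
  ext i j
  fin_cases i <;> fin_cases j <;> simp [Matrix.mul_apply, Fin.sum_univ_three]

theorem V2_eq (β : K) : V2 β = Td β * V0 := by
  unfold V2 Td V0
  ext i j
  fin_cases i <;> fin_cases j <;> simp [Matrix.mul_apply, Fin.sum_univ_three]

theorem W2_conj_Td (β : K) : W2 * Td β * W2 = Tu β := by
  unfold W2 Td Tu
  ext i j
  fin_cases i <;> fin_cases j <;> simp [Matrix.mul_apply, Fin.sum_univ_three]

theorem V0_mul_V0i : (V0 * V0i : Matrix (Fin 3) (Fin 3) K) = 1 := by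
  unfold V0 V0i
  ext i j
  fin_cases i <;> fin_cases j <;> simp [Matrix.mul_apply, Fin.sum_univ_three, Matrix.one_apply]

theorem Tu_eq_MM (β : K) :
    Tu β = MM (β • (e (0 : Fin 3) : Fin 3 → K)) (e (Fin.last 2)) := by
  unfold Tu MM
  ext i j
  fin_cases i <;> fin_cases j <;> simp [vecMulVec_apply, Matrix.one_apply, e, Fin.last]

def v2 (β : K) : SpecialLinearGroup (Fin 3) K := ⟨V2 β, det_V2 β⟩
def g2 (β : K) (h2 : (2 : K) = 0) : SpecialLinearGroup (Fin 3) K := ⟨G2 β, det_G2 β h2⟩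

theorem conj_2 (β : K) (h2 : (2 : K) = 0) :
    g2 β h2 * uS K 3 * (g2 β h2)⁻¹ = v2 β := by
  rw [mul_inv_eq_iff_eq_mul]
  apply Subtype.ext
  show G2 β * (1 + Nup K 3) = V2 β * G2 β
  rw [one_add_Nup_eq]
  exact G2_mul_U2 β

/-- **generation**, characteristic two -/
theorem closure_2 (β : K) (h2 : (2 : K) = 0)
    (hgen : ∀ A : AddSubgroup K, β ∈ A → (∀ x ∈ A, ∀ y ∈ A, x * y ∈ A) → A = ⊤) :
    Subgroup.closure ({uS K 3, v2 β} : Set (SpecialLinearGroup (Fin 3) K)) = ⊤ := by
  classical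
  set H := Subgroup.closure ({uS K 3, v2 β} : Set (SpecialLinearGroup (Fin 3) K)) with hH
  have hu : uS K 3 ∈ H := Subgroup.subset_closure (by simp)
  have hv : v2 β ∈ H := Subgroup.subset_closure (by simp)
  have hu1 : (uS K 3).1 = U2 := one_add_Nup_eq
  have hv1 : (v2 β).1 = V2 β := rfl
  -- the Weyl element
  set w := (uS K 3 * uS K 3) * (v2 β * v2 β) * (uS K 3 * uS K 3) with hw
  have hwH : w ∈ H := H.mul_mem (H.mul_mem (H.mul_mem hu hu) (H.mul_mem hv hv)) (H.mul_mem hu hu)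
  have hw1 : w.1 = W2 := by
    rw [hw]
    simp only [val_mul]
    rw [hu1, hv1]
    exact word_W2 β h2
  have hww : w * w = 1 := by
    apply Subtype.ext
    rw [val_mul, hw1, W2_mul_W2]; rfl
  have hwinv : w⁻¹ = w := inv_eq_of_mul_eq_one_right hww
  -- the lower triangular conjugate
  set v0 := w * uS K 3 * w with hv0
  have hv0H : v0 ∈ H := H.mul_mem (H.mul_mem hwH hu) hwH
  have hv01 : v0.1 = V0 := by
    rw [hv0, val_mul, val_mul, hw1, hu1, W2_conj_U2]
  -- the root elements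
  set td := v2 β * v0⁻¹ with htd
  have htdH : td ∈ H := H.mul_mem hv (H.inv_mem hv0H)
  have htd1 : td.1 = Td β := by
    rw [htd, val_mul, hv1, V2_eq, ← hv01, Matrix.mul_assoc, val_mul_inv, Matrix.mul_one]
  set T := w * td * w with hT
  have hTH : T ∈ H := H.mul_mem (H.mul_mem hwH htdH) hwH
  have hT1 : T.1 = MM (β • (e (0 : Fin 3) : Fin 3 → K)) (e (Fin.last 2)) := by
    rw [hT, val_mul, val_mul, hw1, htd1, W2_conj_Td, Tu_eq_MM]
  have hv0inv : (v0⁻¹).1 = V0i := by
    have h1 : (v0⁻¹).1 * v0.1 = 1 := val_inv_mul v0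
    calc (v0⁻¹).1 = (v0⁻¹).1 * (V0 * V0i) := by rw [V0_mul_V0i, Matrix.mul_one]
      _ = V0i := by rw [← Matrix.mul_assoc, ← hv01, h1, Matrix.one_mul]
  have hv01' : v0.1 = 1 + Nlo (fun _ : Fin 3 => (1 : K)) := by
    rw [hv01, one_add_Nlo_eq]
  have hu1' : (uS K 3).1 = 1 + Nup K (0 + 3) := rfl
  refine eq_top_of_three (m := 0) hu hv0H hTH hu1' (fun _ => 1) (fun _ => one_ne_zero) hv01' β hT1 ?_
  intro A hβ hcl
  apply hgen A hβ
  intro x hx y hy
  have h1 := hcl x hx y hy
  rw [hv0inv] at h1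
  have e1 : (V0i : Matrix (Fin 3) (Fin 3) K) (Fin.last (0 + 2)) 0 = 1 := by
    unfold V0i
    simp [Fin.last]
  rw [e1, one_mul, one_mul] at h1
  exact h1


end families

end Cfsg.Agent.Lib.Helper83_SL3Pair
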