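import Mathlib
import Cfsg.Agent.Lib.Helper83_SL3Pair

/-!
# The unitary group of the antidiagonal hermitian form in dimension three

`J3` is the antidiagonal Gram matrix, `SUJ σ` the subgroup of `SL₃(F)` of the matrices `A` with
`Aᵀ J3 A^σ = J3` for a ring endomorphism `σ` of `F` (an involution in the applications).  We give
the root elements `uS`, `lS`, the torus `hS`, the Weyl element `wS`, and a criterion
(`all_tv_mem`) for a subgroup of `SUJ σ` to contain all unitary transvections.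
-/

set_option autoImplicit false
set_option linter.unusedSectionVars false
set_option linter.unusedVariables false
set_option linter.unusedSimpArgs false
set_option linter.unusedTactic false
set_option linter.unreachableTactic false
set_option linter.unnecessarySeqFocus false

namespace Cfsg.Agent.Lib.Helper83_SU3J

open Matrix Cfsg.Agent.Lib.Helper83_TvCalc Cfsg.Agent.Lib.Helper83_SL3Pair

variable {F : Type*} [Field F]

/-- the antidiagonal Gram matrix -/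
def J3 : Matrix (Fin 3) (Fin 3) F := !![0, 0, 1; 0, 1, 0; 1, 0, 0]

/-- `A` preserves the hermitian form with Gram matrix `J3` -/
def IsUJ (σ : F →+* F) (A : Matrix (Fin 3) (Fin 3) F) : Prop := Aᵀ * J3 * A.map σ = J3

theorem IsUJ.mul {σ : F →+* F} {A B : Matrix (Fin 3) (Fin 3) F} (hA : IsUJ σ A) (hB : IsUJ σ B) :
    IsUJ σ (A * B) := by
  unfold IsUJ at *
  rw [Matrix.transpose_mul, Matrix.map_mul]
  calc Bᵀ * Aᵀ * J3 * (A.map σ * B.map σ) = Bᵀ * (Aᵀ * J3 * A.map σ) * B.map σ := by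
        simp only [Matrix.mul_assoc]
    _ = J3 := by rw [hA, hB]

theorem IsUJ.one {σ : F →+* F} : IsUJ σ (1 : Matrix (Fin 3) (Fin 3) F) := by
  unfold IsUJ
  rw [Matrix.transpose_one, Matrix.one_mul, Matrix.map_one _ (map_zero σ) (map_one σ),
    Matrix.mul_one]

theorem IsUJ.of_mul_eq_one {σ : F →+* F} {A B : Matrix (Fin 3) (Fin 3) F} (hA : IsUJ σ A)
    (hAB : A * B = 1) : IsUJ σ B := by
  unfold IsUJ at *
  have h1 : Bᵀ * Aᵀ = 1 := by rw [← Matrix.transpose_mul, hAB, Matrix.transpose_one]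
  have h2 : A.map σ * B.map σ = 1 := by
    rw [← Matrix.map_mul, hAB, Matrix.map_one _ (map_zero σ) (map_one σ)]
  calc Bᵀ * J3 * B.map σ = Bᵀ * (Aᵀ * J3 * A.map σ) * B.map σ := by rw [hA]
    _ = (Bᵀ * Aᵀ) * J3 * (A.map σ * B.map σ) := by simp only [Matrix.mul_assoc]
    _ = J3 := by rw [h1, h2, Matrix.one_mul, Matrix.mul_one]

/-- the special unitary group of `J3` -/
def SUJ (σ : F →+* F) : Subgroup (SpecialLinearGroup (Fin 3) F) where
  carrier := {A | IsUJ σ A.1}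
  mul_mem' := by
    intro A B hA hB
    exact IsUJ.mul hA hB
  one_mem' := IsUJ.one
  inv_mem' := by
    intro A hA
    refine IsUJ.of_mul_eq_one hA ?_
    have : (A * A⁻¹).1 = 1 := by rw [mul_inv_cancel]; rfl
    exact this

theorem mem_SUJ {σ : F →+* F} {A : SpecialLinearGroup (Fin 3) F} :
    A ∈ SUJ σ ↔ A.1ᵀ * J3 * A.1.map σ = J3 := Iff.rfl

/-! ### the elements -/

/-- upper unitriangular element -/
def uS (σ : F →+* F) (a b : F) : SpecialLinearGroup (Fin 3) F :=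
  ⟨!![1, a, b; 0, 1, -σ a; 0, 0, 1], by simp [Matrix.det_fin_three]⟩

/-- lower unitriangular element -/
def lS (σ : F →+* F) (a b : F) : SpecialLinearGroup (Fin 3) F :=
  ⟨!![1, 0, 0; -σ a, 1, 0; b, a, 1], by simp [Matrix.det_fin_three]⟩

/-- the Weyl element -/
def wS : SpecialLinearGroup (Fin 3) F :=
  ⟨!![0, 0, 1; 0, -1, 0; 1, 0, 0], by simp [Matrix.det_fin_three]⟩

/-- diagonal element -/
def dS (x y z : F) (h : x * y * z = 1) : SpecialLinearGroup (Fin 3) F :=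
  ⟨!![x, 0, 0; 0, y, 0; 0, 0, z], by simp [Matrix.det_fin_three, h]⟩

theorem uS_val (σ : F →+* F) (a b : F) : (uS σ a b).1 = !![1, a, b; 0, 1, -σ a; 0, 0, 1] := rfl
theorem lS_val (σ : F →+* F) (a b : F) : (lS σ a b).1 = !![1, 0, 0; -σ a, 1, 0; b, a, 1] := rfl
theorem wS_val : (wS : SpecialLinearGroup (Fin 3) F).1 = !![0, 0, 1; 0, -1, 0; 1, 0, 0] := rfl
theorem dS_val (x y z : F) (h : x * y * z = 1) : (dS x y z h).1 = !![x, 0, 0; 0, y, 0; 0, 0, z] :=
  rfl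

theorem sl_ext {A B : SpecialLinearGroup (Fin 3) F} (h : A.1 = B.1) : A = B := Subtype.ext h

theorem uS_mul (σ : F →+* F) (a b a' b' : F) :
    uS σ a b * uS σ a' b' = uS σ (a + a') (b + b' - a * σ a') := by
  apply sl_ext
  rw [val_mul, uS_val, uS_val, uS_val]
  ext i j
  fin_cases i <;> fin_cases j <;> simp [Matrix.mul_apply, Fin.sum_univ_three] <;> ring

theorem uS_zero (σ : F →+* F) : uS σ 0 0 = 1 := by
  apply sl_ext
  rw [uS_val]
  ext i j
  fin_cases i <;> fin_cases j <;> simp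

theorem uS_inv (σ : F →+* F) (a b : F) : (uS σ a b)⁻¹ = uS σ (-a) (-b - a * σ a) := by
  rw [inv_eq_iff_mul_eq_one, uS_mul, ← uS_zero σ]
  congr 1
  · ring
  · rw [map_neg]; ring

theorem uS_mem {σ : F →+* F} (hσ : ∀ x, σ (σ x) = x) (a b : F) :
    uS σ a b ∈ SUJ σ ↔ b + σ b + a * σ a = 0 := by
  rw [mem_SUJ, uS_val]
  constructor
  · intro h
    have := congrFun (congrFun h 2) 2
    simp [Matrix.mul_apply, Fin.sum_univ_three, J3, hσ] at this
    linear_combination this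
  · intro h
    ext i j
    fin_cases i <;> fin_cases j <;> simp [Matrix.mul_apply, Fin.sum_univ_three, J3, hσ]
    linear_combination h

theorem wS_mem {σ : F →+* F} : (wS : SpecialLinearGroup (Fin 3) F) ∈ SUJ σ := by
  rw [mem_SUJ, wS_val]
  ext i j
  fin_cases i <;> fin_cases j <;> simp [Matrix.mul_apply, Fin.sum_univ_three, J3]

theorem wS_mul_wS : (wS : SpecialLinearGroup (Fin 3) F) * wS = 1 := by
  apply sl_ext
  rw [val_mul, wS_val]
  ext i j
  fin_cases i <;> fin_cases j <;> simp [Matrix.mul_apply, Fin.sum_univ_three]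

theorem wS_inv : (wS : SpecialLinearGroup (Fin 3) F)⁻¹ = wS := by
  rw [inv_eq_iff_mul_eq_one, wS_mul_wS]

theorem wS_conj_uS (σ : F →+* F) (a b : F) : wS * uS σ a b * wS⁻¹ = lS σ (-a) b := by
  rw [wS_inv]
  apply sl_ext
  rw [val_mul, val_mul, wS_val, uS_val, lS_val]
  ext i j
  fin_cases i <;> fin_cases j <;> simp [Matrix.mul_apply, Fin.sum_univ_three]

theorem dS_mem {σ : F →+* F} (x y z : F) (h : x * y * z = 1) (h1 : x * σ z = 1)
    (h2 : y * σ y = 1) (h3 : z * σ x = 1) : dS x y z h ∈ SUJ σ := by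
  rw [mem_SUJ, dS_val]
  ext i j
  fin_cases i <;> fin_cases j <;> simp [Matrix.mul_apply, Fin.sum_univ_three, J3, h1, h2, h3]

theorem dS_conj_uS (σ : F →+* F) (x y z : F) (h : x * y * z = 1) (a b a' b' : F)
    (h1 : x * a = a' * y) (h2 : x * b = b' * z) (h3 : y * σ a = σ a' * z) :
    dS x y z h * uS σ a b = uS σ a' b' * dS x y z h := by
  apply sl_ext
  rw [val_mul, val_mul, dS_val, uS_val, uS_val]
  ext i j
  fin_cases i <;> fin_cases j <;> simp [Matrix.mul_apply, Fin.sum_univ_three, h1, h2, h3]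


/-! ### a generation criterion -/

theorem sigma_ne_zero {σ : F →+* F} {x : F} (hx : x ≠ 0) : σ x ≠ 0 := by
  intro h
  exact hx ((map_eq_zero σ).1 h)

/-- the first coordinates of the upper unitriangular elements of `H` -/
def Aset (σ : F →+* F) (H : Subgroup (SpecialLinearGroup (Fin 3) F)) : AddSubgroup F where
  carrier := {x | ∃ y, uS σ x y ∈ H}
  zero_mem' := ⟨0, by rw [uS_zero]; exact H.one_mem⟩
  add_mem' := by
    rintro x x' ⟨y, hy⟩ ⟨y', hy'⟩
    exact ⟨_, by rw [← uS_mul]; exact H.mul_mem hy hy'⟩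
  neg_mem' := by
    rintro x ⟨y, hy⟩
    exact ⟨_, by rw [← uS_inv]; exact H.inv_mem hy⟩

theorem mem_Aset {σ : F →+* F} {H : Subgroup (SpecialLinearGroup (Fin 3) F)} {x : F} :
    x ∈ Aset σ H ↔ ∃ y, uS σ x y ∈ H := Iff.rfl

section main

variable [Fintype F] {σ : F →+* F} {H : Subgroup (SpecialLinearGroup (Fin 3) F)}

theorem Aset_eq_top {a b : F} (ha : a ≠ 0) (hu : uS σ a b ∈ H) {κ : F}
    (hκ : ∀ x y, uS σ x y ∈ H → ∃ y', uS σ (κ * x) y' ∈ H)
    (hK : ∀ K : Subfield F, κ ∈ K → K = ⊤) : Aset σ H = ⊤ := by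
  have h1 : κ ∈ mulField (Aset σ H) := by
    rw [mem_mulField]
    rintro x ⟨y, hy⟩
    exact hκ x y hy
  have h2 := hK _ h1
  rw [eq_top_iff]
  intro y _
  have h3 : y * a⁻¹ ∈ mulField (Aset σ H) := by rw [h2]; trivial
  have h4 := (mem_mulField _ _).1 h3 a ⟨b, hu⟩
  rwa [mul_assoc, inv_mul_cancel₀ ha, mul_one] at h4

theorem z_mem (hσ : ∀ x, σ (σ x) = x) {a b : F} (ha : a ≠ 0) (hu : uS σ a b ∈ H)
    (hA : Aset σ H = ⊤) {d : F} (hd : d + σ d = -1) (s : F) (hs : s + σ s = 0) :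
    uS σ 0 s ∈ H := by
  have hsa : σ a ≠ 0 := sigma_ne_zero ha
  have hN : a * σ a ≠ 0 := mul_ne_zero ha hsa
  set μ : F := -(s / (a * σ a)) * d with hμ
  have hlam : a * μ ∈ Aset σ H := by rw [hA]; trivial
  obtain ⟨y, hy⟩ := hlam
  have h1 : (uS σ (a * μ) y * uS σ a b)⁻¹ * (uS σ a b * uS σ (a * μ) y) ∈ H :=
    H.mul_mem (H.inv_mem (H.mul_mem hy hu)) (H.mul_mem hu hy)
  have hσs : σ s = -s := by linear_combination hs
  have hσd : σ d = -1 - d := by linear_combination hd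
  have hσμ : σ μ = (s / (a * σ a)) * (-1 - d) := by
    rw [hμ, map_mul, map_neg, map_div₀, map_mul, hσ, hσs, hσd]
    field_simp
  have h2 : (uS σ (a * μ) y * uS σ a b)⁻¹ * (uS σ a b * uS σ (a * μ) y) = uS σ 0 s := by
    rw [inv_mul_eq_iff_eq_mul, uS_mul, uS_mul, uS_mul]
    congr 1
    · ring
    · rw [map_mul, hσμ, map_zero, hμ]
      field_simp
      ring
  rwa [h2] at h1

theorem uS_mem_of (hσ : ∀ x, σ (σ x) = x) (hH : H ≤ SUJ σ) {a b : F} (ha : a ≠ 0)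
    (hu : uS σ a b ∈ H) (hA : Aset σ H = ⊤) {d : F} (hd : d + σ d = -1) (x y : F)
    (hxy : y + σ y + x * σ x = 0) : uS σ x y ∈ H := by
  have hx : x ∈ Aset σ H := by rw [hA]; trivial
  obtain ⟨y0, hy0⟩ := hx
  have h0 := (uS_mem hσ x y0).1 (hH hy0)
  have hz := z_mem hσ ha hu hA hd (y - y0) (by rw [map_sub]; linear_combination hxy - h0)
  have : uS σ x y = uS σ x y0 * uS σ 0 (y - y0) := by
    rw [uS_mul]
    congr 1
    · ring
    · rw [map_zero]; ring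
  rw [this]
  exact H.mul_mem hy0 hz

/-- the matrix of the unitary transvection with centre `(x0, x1, x2)` -/
def tvM (σ : F →+* F) (x0 x1 x2 c : F) : Matrix (Fin 3) (Fin 3) F :=
  !![1 + c * x0 * σ x2, c * x0 * σ x1, c * x0 * σ x0;
     c * x1 * σ x2, 1 + c * x1 * σ x1, c * x1 * σ x0;
     c * x2 * σ x2, c * x2 * σ x1, 1 + c * x2 * σ x0]

theorem tvM_eq (σ : F →+* F) (x : Fin 3 → F) (c : F) :
    1 + c • Matrix.vecMulVec x (J3 *ᵥ (fun i => σ (x i))) = tvM σ (x 0) (x 1) (x 2) c := by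
  ext i j
  fin_cases i <;> fin_cases j <;>
    simp [tvM, Matrix.vecMulVec_apply, Matrix.mulVec, dotProduct, Fin.sum_univ_three, J3,
      Matrix.one_apply] <;> ring

/-- an element of `H` moving the first basis vector to a multiple of a given isotropic vector -/
theorem exists_move (hσ : ∀ x, σ (σ x) = x) (hH : H ≤ SUJ σ)
    (hall : ∀ x y : F, y + σ y + x * σ x = 0 → uS σ x y ∈ H)
    {m₀ : SpecialLinearGroup (Fin 3) F} (hm₀ : m₀ ∈ H) (hm₀' : m₀.1 2 0 ≠ 0)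
    (x0 x1 x2 : F) (hx : x0 * σ x2 + x1 * σ x1 + x2 * σ x0 = 0) (hx2 : x2 ≠ 0) :
    ∃ m ∈ H, ∃ ρ : F, ρ ≠ 0 ∧ m.1 0 0 = ρ * x0 ∧ m.1 1 0 = ρ * x1 ∧ m.1 2 0 = ρ * x2 := by
  have hU0 := hH hm₀
  rw [mem_SUJ] at hU0
  have hy := congrFun (congrFun hU0 0) 0
  simp [Matrix.mul_apply, Fin.sum_univ_three, J3] at hy
  set y0 := m₀.1 0 0 with hy0
  set y1 := m₀.1 1 0 with hy1
  set y2 := m₀.1 2 0 with hy2
  have hsy2 : σ y2 ≠ 0 := sigma_ne_zero hm₀'
  have hsx2 : σ x2 ≠ 0 := sigma_ne_zero hx2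
  have hux : uS σ (-σ (x1 / x2)) (x0 / x2) ∈ H := by
    apply hall
    rw [map_neg, hσ, map_div₀, map_div₀]
    field_simp
    linear_combination hx
  have huy : uS σ (-σ (y1 / y2)) (y0 / y2) ∈ H := by
    apply hall
    rw [map_neg, hσ, map_div₀, map_div₀]
    field_simp
    linear_combination hy
  refine ⟨uS σ (-σ (x1 / x2)) (x0 / x2) * (uS σ (-σ (y1 / y2)) (y0 / y2))⁻¹ * m₀,
    H.mul_mem (H.mul_mem hux (H.inv_mem huy)) hm₀, y2 / x2, div_ne_zero hm₀' hx2, ?_⟩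
  have e1 : m₀.1 *ᵥ ![1, 0, 0] = ![y0, y1, y2] := by
    ext i
    fin_cases i <;> simp [Matrix.mulVec, dotProduct, Fin.sum_univ_three, hy0, hy1, hy2]
  have e2 : (uS σ (-σ (y1 / y2)) (y0 / y2)).1 *ᵥ ![0, 0, y2] = ![y0, y1, y2] := by
    rw [uS_val]
    ext i
    fin_cases i <;> simp [Matrix.mulVec, dotProduct, Fin.sum_univ_three, hσ] <;> field_simp
  have e3 := inv_mulVec_of e2
  have e4 : (uS σ (-σ (x1 / x2)) (x0 / x2)).1 *ᵥ ![0, 0, y2] =
      ![y2 / x2 * x0, y2 / x2 * x1, y2 / x2 * x2] := by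
    rw [uS_val]
    ext i
    fin_cases i <;> simp [Matrix.mulVec, dotProduct, Fin.sum_univ_three, hσ] <;> field_simp
  have e5 : (uS σ (-σ (x1 / x2)) (x0 / x2) * (uS σ (-σ (y1 / y2)) (y0 / y2))⁻¹ * m₀).1 *ᵥ
      ![1, 0, 0] = ![y2 / x2 * x0, y2 / x2 * x1, y2 / x2 * x2] := by
    rw [val_mul, val_mul, ← Matrix.mulVec_mulVec, ← Matrix.mulVec_mulVec, e1, e3, e4]
  have e6 : ∀ (M : Matrix (Fin 3) (Fin 3) F) (i : Fin 3), (M *ᵥ ![1, 0, 0]) i = M i 0 := by
    intro M i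
    simp [Matrix.mulVec, dotProduct, Fin.sum_univ_three]
  have f0 := congrFun e5 0
  have f1 := congrFun e5 1
  have f2 := congrFun e5 2
  rw [e6] at f0 f1 f2
  exact ⟨f0, f1, f2⟩

/-- conjugating a transvection whose centre is a multiple of the first column of `m` -/
theorem tv_conj {m : SpecialLinearGroup (Fin 3) F} (hm : m ∈ SUJ σ) {ρ x0 x1 x2 c : F}
    (hρ : ρ ≠ 0) (h0 : m.1 0 0 = ρ * x0) (h1 : m.1 1 0 = ρ * x1) (h2 : m.1 2 0 = ρ * x2)
    (T : SpecialLinearGroup (Fin 3) F) (hT : T.1 = tvM σ x0 x1 x2 c) :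
    T * m = m * uS σ 0 (c * (ρ⁻¹ * σ ρ⁻¹)) := by
  rw [mem_SUJ] at hm
  have hsρ : σ ρ ≠ 0 := sigma_ne_zero hρ
  have q0 := congrFun (congrFun hm 0) 0
  have q1 := congrFun (congrFun hm 1) 0
  have q2 := congrFun (congrFun hm 2) 0
  simp [Matrix.mul_apply, Fin.sum_univ_three, J3] at q0 q1 q2
  have k0 : x0 = ρ⁻¹ * m.1 0 0 := by rw [h0]; field_simp
  have k1 : x1 = ρ⁻¹ * m.1 1 0 := by rw [h1]; field_simp
  have k2 : x2 = ρ⁻¹ * m.1 2 0 := by rw [h2]; field_simp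
  apply sl_ext
  rw [val_mul, val_mul, hT, uS_val, k0, k1, k2]
  ext i j
  fin_cases i <;> fin_cases j <;>
    simp [tvM, Matrix.mul_apply, Fin.sum_univ_three, map_mul, map_inv₀]
  · linear_combination (c * ρ⁻¹ * (σ ρ)⁻¹ * m.1 0 0) * q0
  · linear_combination (c * ρ⁻¹ * (σ ρ)⁻¹ * m.1 0 0) * q1
  · linear_combination (c * ρ⁻¹ * (σ ρ)⁻¹ * m.1 0 0) * q2
  · linear_combination (c * ρ⁻¹ * (σ ρ)⁻¹ * m.1 1 0) * q0
  · linear_combination (c * ρ⁻¹ * (σ ρ)⁻¹ * m.1 1 0) * q1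
  · linear_combination (c * ρ⁻¹ * (σ ρ)⁻¹ * m.1 1 0) * q2
  · linear_combination (c * ρ⁻¹ * (σ ρ)⁻¹ * m.1 2 0) * q0
  · linear_combination (c * ρ⁻¹ * (σ ρ)⁻¹ * m.1 2 0) * q1
  · linear_combination (c * ρ⁻¹ * (σ ρ)⁻¹ * m.1 2 0) * q2

/-- **Criterion.**  A subgroup `H` of `SUJ σ` which contains a regular unipotent element `uS a b`,
is stable under a "multiplication by `κ`" on the first coordinates of its upper unitriangular
elements, where `κ` generates the field, and contains an element moving the first basis vector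
off its orthogonal, contains all unitary transvections. -/
theorem all_tv_mem (hσ : ∀ x, σ (σ x) = x) (hH : H ≤ SUJ σ) {a b : F} (ha : a ≠ 0)
    (hu : uS σ a b ∈ H) {κ : F} (hκ : ∀ x y, uS σ x y ∈ H → ∃ y', uS σ (κ * x) y' ∈ H)
    (hK : ∀ K : Subfield F, κ ∈ K → K = ⊤) {d : F} (hd : d + σ d = -1)
    {m₀ : SpecialLinearGroup (Fin 3) F} (hm₀ : m₀ ∈ H) (hm₀' : m₀.1 2 0 ≠ 0)
    (x0 x1 x2 c : F) (hx : x0 * σ x2 + x1 * σ x1 + x2 * σ x0 = 0)
    (T : SpecialLinearGroup (Fin 3) F) (hT : T.1 = tvM σ x0 x1 x2 c) (hTU : T ∈ SUJ σ) :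
    T ∈ H := by
  have hA := Aset_eq_top ha hu hκ hK
  have hall := uS_mem_of hσ hH ha hu hA hd
  by_cases hx2 : x2 = 0
  · -- the centre is a multiple of the first basis vector
    have hx1 : x1 = 0 := by
      rw [hx2, map_zero, mul_zero, zero_mul, zero_add, add_zero] at hx
      rcases mul_eq_zero.1 hx with h | h
      · exact h
      · exact (map_eq_zero σ).1 h
    have hTe : T = uS σ 0 (c * x0 * σ x0) := by
      apply sl_ext
      rw [hT, uS_val, hx1, hx2]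
      ext i j
      fin_cases i <;> fin_cases j <;> simp [tvM]
    rw [hTe] at hTU ⊢
    have h1 := (uS_mem hσ _ _).1 hTU
    exact hall _ _ h1
  · obtain ⟨m, hm, ρ, hρ, h0, h1, h2⟩ := exists_move hσ hH hall hm₀ hm₀' x0 x1 x2 hx hx2
    have hc := tv_conj (hH hm) hρ h0 h1 h2 T hT
    have hZU : uS σ 0 (c * (ρ⁻¹ * σ ρ⁻¹)) ∈ SUJ σ := by
      have : uS σ 0 (c * (ρ⁻¹ * σ ρ⁻¹)) = m⁻¹ * T * m := by
        rw [mul_assoc, hc, inv_mul_cancel_left]
      rw [this]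
      exact (SUJ σ).mul_mem ((SUJ σ).mul_mem ((SUJ σ).inv_mem (hH hm)) hTU) (hH hm)
    have hZ := hall _ _ ((uS_mem hσ _ _).1 hZU)
    have : T = m * uS σ 0 (c * (ρ⁻¹ * σ ρ⁻¹)) * m⁻¹ := by
      rw [← hc, mul_inv_cancel_right]
    rw [this]
    exact H.mul_mem (H.mul_mem hm hZ) (H.inv_mem hm)

end main

end Cfsg.Agent.Lib.Helper83_SU3J
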