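import Mathlib
import Cfsg.Agent.Lib.Helper83_SU3J

/-!
# The rank one structure of `SU₃(q)` in the antidiagonal model (S2148, concrete half)

`G = ↥(SUJ σ)` is the special unitary group of the hermitian form with antidiagonal Gram matrix `J3`
(`h(e₀,e₂) = 1 = h(e₁,e₁)`), `σ` an involution of the field `F`.

* `xS σ a b` : the unipotent element `x(a,b)` (a member of `SUJ σ` iff `Par σ a b`, i.e.
  `b + σ b + a σ a = 0`), `xS a b * xS a' b' = xS (a + a') (b + b' - σ a * a')`;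
* `tS σ l` : the torus element `diag(l, σ l / l, (σ l)⁻¹)`,
  `tS l * xS a b * (tS l)⁻¹ = xS (σ l ^ 2 * l⁻¹ * a) (l * σ l * b)`;
* `wS` : the Weyl element.
* entries of the inverse of a unitary matrix: `inv_apply`.
-/

set_option autoImplicit false
set_option linter.unusedSectionVars false
set_option linter.unusedVariables false
set_option linter.unusedSimpArgs false
set_option linter.unusedTactic false
set_option linter.unreachableTactic false
set_option linter.unnecessarySeqFocus false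

namespace Cfsg.Agent.Lib.Helper83_U3Model

open Matrix Cfsg.Agent.Lib.Helper83_TvCalc Cfsg.Agent.Lib.Helper83_SL3Pair
  Cfsg.Agent.Lib.Helper83_SU3J

variable {F : Type*} [Field F]

/-- the parameter condition of the unipotent radical -/
def Par (σ : F →+* F) (a b : F) : Prop := b + σ b + a * σ a = 0

/-- the unipotent element `x(a,b)` -/
def xS (σ : F →+* F) (a b : F) : SpecialLinearGroup (Fin 3) F := uS σ (σ a) b

theorem xS_val {σ : F →+* F} (hσ : ∀ x, σ (σ x) = x) (a b : F) :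
    (xS σ a b).1 = !![1, σ a, b; 0, 1, -a; 0, 0, 1] := by
  unfold xS
  rw [uS_val, hσ]

theorem xS_mul {σ : F →+* F} (hσ : ∀ x, σ (σ x) = x) (a b a' b' : F) :
    xS σ a b * xS σ a' b' = xS σ (a + a') (b + b' - σ a * a') := by
  unfold xS
  rw [uS_mul, map_add, hσ]

theorem xS_zero (σ : F →+* F) : xS σ 0 0 = 1 := by
  unfold xS
  rw [map_zero, uS_zero]

theorem xS_inv {σ : F →+* F} (hσ : ∀ x, σ (σ x) = x) (a b : F) :
    (xS σ a b)⁻¹ = xS σ (-a) (-b - σ a * a) := by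
  unfold xS
  rw [uS_inv, map_neg, hσ]

theorem xS_mem {σ : F →+* F} (hσ : ∀ x, σ (σ x) = x) (a b : F) :
    xS σ a b ∈ SUJ σ ↔ Par σ a b := by
  unfold xS Par
  rw [uS_mem hσ, hσ, mul_comm]

theorem xS_inj {σ : F →+* F} (hσ : ∀ x, σ (σ x) = x) {a b a' b' : F}
    (h : xS σ a b = xS σ a' b') : a = a' ∧ b = b' := by
  have h1 := congrArg (fun A : SpecialLinearGroup (Fin 3) F => A.1) h
  simp only [xS_val hσ] at h1
  have h2 := congrFun (congrFun h1 1) 2
  have h3 := congrFun (congrFun h1 0) 2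
  simp at h2 h3
  exact ⟨h2, h3⟩

/-- the torus element `diag(l, σ l / l, (σ l)⁻¹)` -/
def tS (σ : F →+* F) (l : Fˣ) : SpecialLinearGroup (Fin 3) F :=
  dS (l : F) (σ (l : F) * (l : F)⁻¹) (σ (l : F))⁻¹ (by
    have h1 : (l : F) ≠ 0 := l.ne_zero
    have h2 : σ (l : F) ≠ 0 := sigma_ne_zero h1
    field_simp)

theorem tS_val (σ : F →+* F) (l : Fˣ) :
    (tS σ l).1 = !![(l : F), 0, 0; 0, σ (l : F) * (l : F)⁻¹, 0; 0, 0, (σ (l : F))⁻¹] := rfl

theorem tS_mem {σ : F →+* F} (hσ : ∀ x, σ (σ x) = x) (l : Fˣ) : tS σ l ∈ SUJ σ := by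
  have h1 : (l : F) ≠ 0 := l.ne_zero
  have h2 : σ (l : F) ≠ 0 := sigma_ne_zero h1
  unfold tS
  apply dS_mem
  · rw [map_inv₀, hσ]; field_simp
  · rw [map_mul, map_inv₀, hσ]; field_simp
  · field_simp

theorem tS_one (σ : F →+* F) : tS σ 1 = 1 := by
  apply sl_ext
  rw [tS_val]
  ext i j
  fin_cases i <;> fin_cases j <;> simp

theorem tS_mul (σ : F →+* F) (l l' : Fˣ) : tS σ (l * l') = tS σ l * tS σ l' := by
  apply sl_ext
  rw [val_mul, tS_val, tS_val, tS_val]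
  ext i j
  fin_cases i <;> fin_cases j <;>
    simp [Matrix.mul_apply, Fin.sum_univ_three, _root_.mul_inv_rev] <;> ring

theorem tS_inv (σ : F →+* F) (l : Fˣ) : (tS σ l)⁻¹ = tS σ l⁻¹ := by
  rw [inv_eq_iff_mul_eq_one, ← tS_mul, mul_inv_cancel, tS_one]

theorem tS_inj {σ : F →+* F} {l l' : Fˣ} (h : tS σ l = tS σ l') : l = l' := by
  have h1 := congrArg (fun A : SpecialLinearGroup (Fin 3) F => A.1 0 0) h
  simp only [tS_val] at h1
  simp at h1
  exact Units.ext h1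

/-- the torus rule `t_l x(a,b) t_l⁻¹ = x(σ(l)² l⁻¹ a, l σ(l) b)` -/
theorem tS_conj_xS {σ : F →+* F} (hσ : ∀ x, σ (σ x) = x) (l : Fˣ) (a b : F) :
    tS σ l * xS σ a b * (tS σ l)⁻¹ =
      xS σ (σ (l : F) ^ 2 * (l : F)⁻¹ * a) ((l : F) * σ (l : F) * b) := by
  have h1 : (l : F) ≠ 0 := l.ne_zero
  have h2 : σ (l : F) ≠ 0 := sigma_ne_zero h1
  rw [mul_inv_eq_iff_eq_mul]
  unfold xS tS
  apply dS_conj_uS
  · rw [map_mul, map_mul, map_pow, map_inv₀, hσ]; field_simp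
  · field_simp
  · rw [hσ, hσ]; field_simp

/-- the Weyl element exchanges the torus element `t_l` with `t_{σ(l)⁻¹}` -/
theorem wS_conj_tS {σ : F →+* F} (hσ : ∀ x, σ (σ x) = x) (l : Fˣ) (l' : Fˣ)
    (hl' : (l' : F) = (σ (l : F))⁻¹) :
    wS * tS σ l * wS⁻¹ = tS σ l' := by
  have h1 : (l : F) ≠ 0 := l.ne_zero
  have h2 : σ (l : F) ≠ 0 := sigma_ne_zero h1
  rw [wS_inv]
  apply sl_ext
  rw [val_mul, val_mul, wS_val, tS_val, tS_val, hl', map_inv₀, hσ]
  ext i j
  fin_cases i <;> fin_cases j <;> simp [Matrix.mul_apply, Fin.sum_univ_three]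
  field_simp

/-- the entries of the inverse of a unitary matrix -/
theorem inv_apply {σ : F →+* F} (hσ : ∀ x, σ (σ x) = x) {A : SpecialLinearGroup (Fin 3) F}
    (hA : A ∈ SUJ σ) (i j : Fin 3) : (A⁻¹).1 i j = σ (A.1 j.rev i.rev) := by
  rw [mem_SUJ] at hA
  -- `B := J (A^σ)ᵀ J` is a left inverse of `A`
  have hJm : (J3 : Matrix (Fin 3) (Fin 3) F).map σ = J3 := by
    ext i j; fin_cases i <;> fin_cases j <;> simp [J3]
  have hJJ : (J3 : Matrix (Fin 3) (Fin 3) F) * J3 = 1 := by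
    ext i j; fin_cases i <;> fin_cases j <;> simp [J3, Matrix.mul_apply, Fin.sum_univ_three]
  have hmm : (A.1.map σ).map σ = A.1 := by
    ext i j; simp [hσ]
  have h1 : (A.1.map σ)ᵀ * J3 * A.1 = J3 := by
    have := congrArg (fun M : Matrix (Fin 3) (Fin 3) F => M.map σ) hA
    simp only [Matrix.map_mul] at this
    rw [hJm, hmm, Matrix.transpose_map] at this
    exact this
  have hB : (J3 * (A.1.map σ)ᵀ * J3) * A.1 = 1 := by
    calc (J3 * (A.1.map σ)ᵀ * J3) * A.1 = J3 * ((A.1.map σ)ᵀ * J3 * A.1) := by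
          simp only [Matrix.mul_assoc]
      _ = 1 := by rw [h1, hJJ]
  have hinv : (A⁻¹).1 = J3 * (A.1.map σ)ᵀ * J3 := by
    have h3 : (A⁻¹).1 * A.1 = 1 := by rw [← val_mul, inv_mul_cancel]; rfl
    have h4 : A.1 * (A⁻¹).1 = 1 := by rw [← val_mul, mul_inv_cancel]; rfl
    calc (A⁻¹).1 = (J3 * (A.1.map σ)ᵀ * J3) * A.1 * (A⁻¹).1 := by rw [hB, Matrix.one_mul]
      _ = J3 * (A.1.map σ)ᵀ * J3 := by rw [Matrix.mul_assoc, h4, Matrix.mul_one]
  rw [hinv]
  fin_cases i <;> fin_cases j <;>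
    simp [J3, Matrix.mul_apply, Fin.sum_univ_three, Fin.rev, Matrix.vecMul, dotProduct]

end Cfsg.Agent.Lib.Helper83_U3Model
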