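import Mathlib
import Cfsg.Agent.Lib.Helper83_U3Model

/-!
# Bruhat decomposition of `SUJ σ` (S2148, concrete half)

`borel_decomp` : a unitary matrix with `A 2 0 = 0` is `x(a,b) t_l`;
`bruhat` : a unitary matrix with `A 2 0 ≠ 0` is `x(a,b) w B` with `B 2 0 = 0`;
`bruhat_unique` : uniqueness of `(a,b)`.
-/

set_option autoImplicit false
set_option linter.unusedSectionVars false
set_option linter.unusedVariables false
set_option linter.unusedSimpArgs false
set_option linter.unusedTactic false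
set_option linter.unreachableTactic false
set_option linter.unnecessarySeqFocus false

namespace Cfsg.Agent.Lib.Helper83_U3Bruhat

open Matrix Cfsg.Agent.Lib.Helper83_TvCalc Cfsg.Agent.Lib.Helper83_SL3Pair
  Cfsg.Agent.Lib.Helper83_SU3J Cfsg.Agent.Lib.Helper83_U3Model

variable {F : Type*} [Field F] {σ : F →+* F}

/-- the nine relations of a unitary matrix -/
theorem rel {A : SpecialLinearGroup (Fin 3) F} (hA : A ∈ SUJ σ) (i j : Fin 3) :
    A.1 0 i * σ (A.1 2 j) + A.1 1 i * σ (A.1 1 j) + A.1 2 i * σ (A.1 0 j) =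
      (J3 : Matrix (Fin 3) (Fin 3) F) i j := by
  rw [mem_SUJ] at hA
  have := congrFun (congrFun hA i) j
  rw [← this]
  simp [Matrix.mul_apply, Fin.sum_univ_three, J3]
  ring

/-- a unitary matrix whose first column is proportional to `e₀` is upper triangular -/
theorem upper (hσ : ∀ x, σ (σ x) = x) {A : SpecialLinearGroup (Fin 3) F} (hA : A ∈ SUJ σ)
    (h20 : A.1 2 0 = 0) : A.1 1 0 = 0 ∧ A.1 2 1 = 0 ∧ A.1 0 0 ≠ 0 := by
  have r00 := rel hA 0 0
  have r01 := rel hA 0 1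
  have r02 := rel hA 0 2
  have j00 : (J3 : Matrix (Fin 3) (Fin 3) F) 0 0 = 0 := by simp [J3]
  have j01 : (J3 : Matrix (Fin 3) (Fin 3) F) 0 1 = 0 := by simp [J3]
  have j02 : (J3 : Matrix (Fin 3) (Fin 3) F) 0 2 = 1 := by simp [J3]
  rw [h20, map_zero, mul_zero, zero_mul, zero_add, add_zero, j00] at r00
  have h10 : A.1 1 0 = 0 := by
    rcases mul_eq_zero.1 r00 with h | h
    · exact h
    · exact (map_eq_zero σ).1 h
  rw [h20, h10, zero_mul, zero_mul, add_zero, add_zero, j01] at r01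
  rw [h20, h10, zero_mul, zero_mul, add_zero, add_zero, j02] at r02
  have h00 : A.1 0 0 ≠ 0 := by
    intro h
    rw [h, zero_mul] at r02
    exact zero_ne_one r02
  refine ⟨h10, ?_, h00⟩
  rcases mul_eq_zero.1 r01 with h | h
  · exact absurd h h00
  · exact (map_eq_zero σ).1 h

/-- **Borel decomposition**: a unitary matrix fixing the point `⟨e₀⟩` is `x(a,b) t_l` -/
theorem borel_decomp (hσ : ∀ x, σ (σ x) = x) {A : SpecialLinearGroup (Fin 3) F} (hA : A ∈ SUJ σ)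
    (h20 : A.1 2 0 = 0) : ∃ (a b : F) (l : Fˣ), Par σ a b ∧ A = xS σ a b * tS σ l := by
  obtain ⟨h10, h21, h00⟩ := upper hσ hA h20
  have r02 := rel hA 0 2
  have r11 := rel hA 1 1
  have r12 := rel hA 1 2
  have r22 := rel hA 2 2
  have j02 : (J3 : Matrix (Fin 3) (Fin 3) F) 0 2 = 1 := by simp [J3]
  have j11 : (J3 : Matrix (Fin 3) (Fin 3) F) 1 1 = 1 := by simp [J3]
  have j12 : (J3 : Matrix (Fin 3) (Fin 3) F) 1 2 = 0 := by simp [J3]
  have j22 : (J3 : Matrix (Fin 3) (Fin 3) F) 2 2 = 0 := by simp [J3]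
  rw [h20, h10, zero_mul, zero_mul, add_zero, add_zero, j02] at r02
  rw [h21, map_zero, mul_zero, zero_mul, zero_add, add_zero, j11] at r11
  rw [h21, zero_mul, add_zero, j12] at r12
  rw [j22] at r22
  have hdet : A.1 0 0 * A.1 1 1 * A.1 2 2 = 1 := by
    have := A.2
    rw [Matrix.det_fin_three, h10, h20, h21] at this
    linear_combination this
  obtain ⟨x, hx⟩ : ∃ x, A.1 0 0 = x := ⟨_, rfl⟩
  obtain ⟨y, hy⟩ : ∃ y, A.1 1 1 = y := ⟨_, rfl⟩
  obtain ⟨z, hz⟩ : ∃ z, A.1 2 2 = z := ⟨_, rfl⟩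
  obtain ⟨p, hp⟩ : ∃ p, A.1 0 1 = p := ⟨_, rfl⟩
  obtain ⟨r, hr⟩ : ∃ r, A.1 0 2 = r := ⟨_, rfl⟩
  obtain ⟨s, hs⟩ : ∃ s, A.1 1 2 = s := ⟨_, rfl⟩
  rw [hx] at h00 r02 hdet
  rw [hy] at r11 r12 hdet
  rw [hz] at r02 r12 r22 hdet
  rw [hp] at r12
  rw [hr] at r22
  rw [hs] at r12 r22
  have hx0 : x ≠ 0 := h00
  have hz0 : z ≠ 0 := by
    intro h
    rw [h, map_zero, mul_zero] at r02
    exact zero_ne_one r02
  have hy0 : y ≠ 0 := by
    intro h
    rw [h, zero_mul] at r11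
    exact zero_ne_one r11
  have hsx : σ x ≠ 0 := sigma_ne_zero hx0
  have hsz : σ z ≠ 0 := sigma_ne_zero hz0
  have hzx : z = (σ x)⁻¹ := by
    have h1 : σ (x * σ z) = 1 := by rw [r02, map_one]
    rw [map_mul, hσ] at h1
    field_simp
    linear_combination h1
  have hyx : y = σ x * x⁻¹ := by
    field_simp
    rw [hzx] at hdet
    field_simp at hdet
    linear_combination hdet
  refine ⟨-s / z, r / z, Units.mk0 x hx0, ?_, ?_⟩
  · unfold Par
    rw [map_div₀, map_div₀, map_neg]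
    field_simp
    linear_combination r22
  · apply sl_ext
    rw [val_mul, xS_val hσ, tS_val]
    have e00 : A.1 0 0 = x := hx
    have e01 : A.1 0 1 = p := hp
    have e02 : A.1 0 2 = r := hr
    have e11 : A.1 1 1 = y := hy
    have e12 : A.1 1 2 = s := hs
    have e22 : A.1 2 2 = z := hz
    have hp' : p = σ (-s / z) * (σ x * x⁻¹) := by
      rw [map_div₀, map_neg, ← hyx]
      field_simp
      linear_combination r12
    ext i j
    fin_cases i <;> fin_cases j <;>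
      simp [Matrix.mul_apply, Fin.sum_univ_three, e00, e01, e02, e11, e12, e22, h10, h20, h21]
    · rw [map_div₀, map_neg] at hp'
      exact hp'
    · rw [← hzx]; field_simp
    · exact hyx
    · rw [← hzx]; field_simp
    · exact hzx

/-- **Bruhat decomposition**: a unitary matrix moving the point `⟨e₀⟩` is `x(a,b) w B` with `B` in
the Borel subgroup. -/
theorem bruhat (hσ : ∀ x, σ (σ x) = x) {A : SpecialLinearGroup (Fin 3) F} (hA : A ∈ SUJ σ)
    (h20 : A.1 2 0 ≠ 0) : ∃ a b : F, Par σ a b ∧ ∃ B ∈ SUJ σ, B.1 2 0 = 0 ∧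
      A = xS σ a b * wS * B := by
  have r00 := rel hA 0 0
  have j00 : (J3 : Matrix (Fin 3) (Fin 3) F) 0 0 = 0 := by simp [J3]
  rw [j00] at r00
  obtain ⟨v0, hv0⟩ : ∃ x, A.1 0 0 = x := ⟨_, rfl⟩
  obtain ⟨v1, hv1⟩ : ∃ x, A.1 1 0 = x := ⟨_, rfl⟩
  obtain ⟨v2, hv2⟩ : ∃ x, A.1 2 0 = x := ⟨_, rfl⟩
  rw [hv0, hv1, hv2] at r00
  rw [hv2] at h20
  have hs2 : σ v2 ≠ 0 := sigma_ne_zero h20
  have hpar : Par σ (-v1 / v2) (v0 / v2) := by
    unfold Par
    rw [map_div₀, map_div₀, map_neg]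
    field_simp
    linear_combination r00
  have hxm : xS σ (-v1 / v2) (v0 / v2) ∈ SUJ σ := (xS_mem hσ _ _).2 hpar
  refine ⟨-v1 / v2, v0 / v2, hpar, (xS σ (-v1 / v2) (v0 / v2) * wS)⁻¹ * A,
    (SUJ σ).mul_mem ((SUJ σ).inv_mem ((SUJ σ).mul_mem hxm wS_mem)) hA, ?_, ?_⟩
  · rw [_root_.mul_inv_rev, wS_inv, xS_inv hσ, val_mul, val_mul, wS_val, xS_val hσ]
    simp [Matrix.mul_apply, Fin.sum_univ_three, hv0, hv1, hv2, map_div₀]
    field_simp
    ring
  · rw [mul_inv_cancel_left]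

/-- the first column of `x(a,b) w B`, `B` in the Borel subgroup -/
theorem bruhat_col (hσ : ∀ x, σ (σ x) = x) (a b : F) {B : SpecialLinearGroup (Fin 3) F}
    (h10 : B.1 1 0 = 0) (h20 : B.1 2 0 = 0) :
    (xS σ a b * wS * B).1 0 0 = b * B.1 0 0 ∧ (xS σ a b * wS * B).1 1 0 = -a * B.1 0 0 ∧
      (xS σ a b * wS * B).1 2 0 = B.1 0 0 := by
  rw [val_mul, val_mul, wS_val, xS_val hσ]
  simp [Matrix.mul_apply, Fin.sum_univ_three, h10, h20]

/-- uniqueness in the Bruhat decomposition -/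
theorem bruhat_unique (hσ : ∀ x, σ (σ x) = x) {a b a' b' : F}
    {B B' : SpecialLinearGroup (Fin 3) F} (hB : B ∈ SUJ σ) (hB' : B' ∈ SUJ σ)
    (h20 : B.1 2 0 = 0) (h20' : B'.1 2 0 = 0)
    (h : xS σ a b * wS * B = xS σ a' b' * wS * B') : a = a' ∧ b = b' := by
  obtain ⟨h10, -, h00⟩ := upper hσ hB h20
  obtain ⟨h10', -, h00'⟩ := upper hσ hB' h20'
  obtain ⟨e0, e1, e2⟩ := bruhat_col hσ a b h10 h20
  obtain ⟨e0', e1', e2'⟩ := bruhat_col hσ a' b' h10' h20'
  rw [h] at e0 e1 e2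
  rw [e0'] at e0
  rw [e1'] at e1
  rw [e2'] at e2
  rw [e2] at e0 e1
  constructor
  · have := mul_right_cancel₀ h00 e1
    linear_combination this
  · exact (mul_right_cancel₀ h00 e0).symm

/-- an element `x(a,b) w B` does not fix the point `⟨e₀⟩` -/
theorem bruhat_ne (hσ : ∀ x, σ (σ x) = x) (a b : F) {B : SpecialLinearGroup (Fin 3) F}
    (hB : B ∈ SUJ σ) (h20 : B.1 2 0 = 0) : (xS σ a b * wS * B).1 2 0 ≠ 0 := by
  obtain ⟨h10, -, h00⟩ := upper hσ hB h20
  rw [(bruhat_col hσ a b h10 h20).2.2]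
  exact h00

/-- the (2,0) entry of `x(a,b) t_l` -/
theorem borel_entry (hσ : ∀ x, σ (σ x) = x) (a b : F) (l : Fˣ) :
    (xS σ a b * tS σ l).1 2 0 = 0 := by
  rw [val_mul, tS_val, xS_val hσ]
  simp [Matrix.mul_apply, Fin.sum_univ_three]

/-- uniqueness in the Borel decomposition -/
theorem borel_unique (hσ : ∀ x, σ (σ x) = x) {a b a' b' : F} {l l' : Fˣ}
    (h : xS σ a b * tS σ l = xS σ a' b' * tS σ l') : a = a' ∧ b = b' ∧ l = l' := by
  have h1 := congrArg (fun A : SpecialLinearGroup (Fin 3) F => A.1 0 0) h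
  simp only [val_mul, tS_val, xS_val hσ] at h1
  simp [Matrix.mul_apply, Fin.sum_univ_three] at h1
  have hl : l = l' := Units.ext h1
  subst hl
  have h2 := mul_right_cancel h
  obtain ⟨ha, hb⟩ := xS_inj hσ h2
  exact ⟨ha, hb, rfl⟩

/-- the commutator of two elements of the unipotent radical -/
theorem xS_comm (hσ : ∀ x, σ (σ x) = x) (a b a' b' : F) :
    xS σ a b * xS σ a' b' = xS σ a' b' * xS σ a b * xS σ 0 (σ a' * a - σ a * a') := by
  rw [xS_mul hσ, xS_mul hσ, xS_mul hσ]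
  congr 1
  · ring
  · rw [map_add]; ring

/-- squares in the unipotent radical -/
theorem xS_sq (hσ : ∀ x, σ (σ x) = x) (a b : F) :
    xS σ a b * xS σ a b = xS σ (2 * a) (2 * b - σ a * a) := by
  rw [xS_mul hσ]
  congr 1 <;> ring

end Cfsg.Agent.Lib.Helper83_U3Bruhat
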