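import Mathlib
import Cfsg.Agent.Lib.Helper83_U3Bruhat

/-!
# The group `G = ↥(SUJ σ)` with its rank one structure (S2148, concrete half)

`BJ` Borel subgroup (stabiliser of the point `⟨e₀⟩`), `QJ` its unipotent radical `{x(a,b)}`,
`ZJ = {x(0,b)}` the root group, `TJ = {t_l}` the torus, `T1J = {t_l : l σ l = 1}` the homologies,
`wJ` the Weyl element; the set of points is `UJ = G ⧸ BJ`.
-/

set_option autoImplicit false
set_option linter.unusedSectionVars false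
set_option linter.unusedVariables false
set_option linter.unusedSimpArgs false
set_option linter.unusedTactic false
set_option linter.unreachableTactic false
set_option linter.unnecessarySeqFocus false

namespace Cfsg.Agent.Lib.Helper83_U3Group

open Matrix Cfsg.Agent.Lib.Helper83_TvCalc Cfsg.Agent.Lib.Helper83_SL3Pair
  Cfsg.Agent.Lib.Helper83_SU3J Cfsg.Agent.Lib.Helper83_U3Model Cfsg.Agent.Lib.Helper83_U3Bruhat

variable {F : Type*} [Field F] {σ : F →+* F}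

/-- the coercion to matrices -/
abbrev mat (g : ↥(SUJ σ)) : Matrix (Fin 3) (Fin 3) F := g.1.1

theorem mat_mul (g h : ↥(SUJ σ)) : mat (g * h) = mat g * mat h := rfl

theorem mat_one : mat (1 : ↥(SUJ σ)) = 1 := rfl

theorem mat_ext {g h : ↥(SUJ σ)} (e : mat g = mat h) : g = h := Subtype.ext (Subtype.ext e)

theorem mat_inv_mul (g : ↥(SUJ σ)) : mat g⁻¹ * mat g = 1 := by
  rw [← mat_mul, inv_mul_cancel]; rfl

theorem mat_mul_inv (g : ↥(SUJ σ)) : mat g * mat g⁻¹ = 1 := by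
  rw [← mat_mul, mul_inv_cancel]; rfl

variable (σ) in
/-- the Borel subgroup: the stabiliser of the point `⟨e₀⟩` -/
def BJ : Subgroup ↥(SUJ σ) where
  carrier := {g | mat g 1 0 = 0 ∧ mat g 2 0 = 0}
  one_mem' := by
    constructor <;> simp [mat]
  mul_mem' := by
    rintro g h ⟨g1, g2⟩ ⟨h1, h2⟩
    constructor
    · show mat (g * h) 1 0 = 0
      rw [mat_mul, Matrix.mul_apply, Fin.sum_univ_three, h1, h2, g1]; ring
    · show mat (g * h) 2 0 = 0
      rw [mat_mul, Matrix.mul_apply, Fin.sum_univ_three, h1, h2, g2]; ring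
  inv_mem' := by
    rintro g ⟨g1, g2⟩
    have h := mat_inv_mul g
    have e0 := congrFun (congrFun h 0) 0
    have e1 := congrFun (congrFun h 1) 0
    have e2 := congrFun (congrFun h 2) 0
    rw [Matrix.mul_apply, Fin.sum_univ_three, g1, g2] at e0 e1 e2
    simp at e0 e1 e2
    have h00 : mat g 0 0 ≠ 0 := by
      intro h0
      rw [h0, mul_zero] at e0
      exact zero_ne_one e0
    constructor
    · rcases e1 with h | h
      · exact h
      · exact absurd h h00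
    · rcases e2 with h | h
      · exact h
      · exact absurd h h00

theorem mem_BJ {g : ↥(SUJ σ)} : g ∈ BJ σ ↔ mat g 1 0 = 0 ∧ mat g 2 0 = 0 := Iff.rfl

theorem mem_BJ_iff (hσ : ∀ x, σ (σ x) = x) {g : ↥(SUJ σ)} : g ∈ BJ σ ↔ mat g 2 0 = 0 :=
  ⟨fun h => h.2, fun h => ⟨(upper hσ g.2 h).1, h⟩⟩

/-- the element `x(a,b)` -/
def xJ (hσ : ∀ x, σ (σ x) = x) (a b : F) (h : Par σ a b) : ↥(SUJ σ) :=
  ⟨xS σ a b, (xS_mem hσ a b).2 h⟩

/-- the torus, as a homomorphism -/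
def tJ (hσ : ∀ x, σ (σ x) = x) : Fˣ →* ↥(SUJ σ) where
  toFun l := ⟨tS σ l, tS_mem hσ l⟩
  map_one' := Subtype.ext (tS_one σ)
  map_mul' l l' := Subtype.ext (tS_mul σ l l')

/-- the Weyl element -/
def wJ : ↥(SUJ σ) := ⟨wS, wS_mem⟩

theorem xJ_val (hσ : ∀ x, σ (σ x) = x) (a b : F) (h : Par σ a b) : (xJ hσ a b h).1 = xS σ a b :=
  rfl

theorem tJ_val (hσ : ∀ x, σ (σ x) = x) (l : Fˣ) : (tJ hσ l).1 = tS σ l := rfl

theorem wJ_val : (wJ : ↥(SUJ σ)).1 = wS := rfl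

theorem su_ext {g h : ↥(SUJ σ)} (e : g.1 = h.1) : g = h := Subtype.ext e

theorem Par_zero (σ : F →+* F) : Par σ 0 0 := by
  unfold Par; simp

theorem Par_mul (hσ : ∀ x, σ (σ x) = x) {a b a' b' : F} (h : Par σ a b) (h' : Par σ a' b') :
    Par σ (a + a') (b + b' - σ a * a') := by
  unfold Par at *
  rw [map_sub, map_add, map_add, map_mul, hσ]
  linear_combination h + h'

theorem Par_inv (hσ : ∀ x, σ (σ x) = x) {a b : F} (h : Par σ a b) :
    Par σ (-a) (-b - σ a * a) := by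
  unfold Par at *
  rw [map_sub, map_neg, map_neg, map_mul, hσ]
  linear_combination -h

theorem Par_torus (hσ : ∀ x, σ (σ x) = x) {a b : F} (h : Par σ a b) (l : Fˣ) :
    Par σ (σ (l : F) ^ 2 * (l : F)⁻¹ * a) ((l : F) * σ (l : F) * b) := by
  have h1 : (l : F) ≠ 0 := l.ne_zero
  have h2 : σ (l : F) ≠ 0 := sigma_ne_zero h1
  unfold Par at *
  rw [map_mul, map_mul, map_mul, map_mul, map_pow, map_inv₀, hσ]
  field_simp
  linear_combination (σ (l : F) * (l : F)) * h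

theorem xJ_mul (hσ : ∀ x, σ (σ x) = x) {a b a' b' : F} (h : Par σ a b) (h' : Par σ a' b') :
    xJ hσ a b h * xJ hσ a' b' h' = xJ hσ (a + a') (b + b' - σ a * a') (Par_mul hσ h h') :=
  su_ext (xS_mul hσ a b a' b')

theorem xJ_zero (hσ : ∀ x, σ (σ x) = x) : xJ hσ 0 0 (Par_zero σ) = 1 := su_ext (xS_zero σ)

theorem xJ_inv (hσ : ∀ x, σ (σ x) = x) {a b : F} (h : Par σ a b) :
    (xJ hσ a b h)⁻¹ = xJ hσ (-a) (-b - σ a * a) (Par_inv hσ h) :=
  su_ext (xS_inv hσ a b)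

theorem xJ_inj (hσ : ∀ x, σ (σ x) = x) {a b a' b' : F} {h : Par σ a b} {h' : Par σ a' b'}
    (e : xJ hσ a b h = xJ hσ a' b' h') : a = a' ∧ b = b' :=
  xS_inj hσ (congrArg Subtype.val e)

theorem tJ_inj (hσ : ∀ x, σ (σ x) = x) : Function.Injective (tJ hσ) := fun l l' e =>
  tS_inj (congrArg Subtype.val e)

theorem tJ_conj_xJ (hσ : ∀ x, σ (σ x) = x) (l : Fˣ) {a b : F} (h : Par σ a b) :
    tJ hσ l * xJ hσ a b h * (tJ hσ l)⁻¹ =
      xJ hσ (σ (l : F) ^ 2 * (l : F)⁻¹ * a) ((l : F) * σ (l : F) * b) (Par_torus hσ h l) :=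
  su_ext (tS_conj_xS hσ l a b)

theorem wJ_mul_wJ : (wJ : ↥(SUJ σ)) * wJ = 1 := su_ext wS_mul_wS

theorem wJ_inv : (wJ : ↥(SUJ σ))⁻¹ = wJ := su_ext wS_inv

/-- the unipotent radical -/
def QJ (hσ : ∀ x, σ (σ x) = x) : Subgroup ↥(SUJ σ) where
  carrier := {g | ∃ (a b : F) (h : Par σ a b), g = xJ hσ a b h}
  one_mem' := ⟨0, 0, Par_zero σ, (xJ_zero hσ).symm⟩
  mul_mem' := by
    rintro _ _ ⟨a, b, h, rfl⟩ ⟨a', b', h', rfl⟩
    exact ⟨_, _, _, xJ_mul hσ h h'⟩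
  inv_mem' := by
    rintro _ ⟨a, b, h, rfl⟩
    exact ⟨_, _, _, xJ_inv hσ h⟩

/-- the root group, the centre of the unipotent radical -/
def ZJ (hσ : ∀ x, σ (σ x) = x) : Subgroup ↥(SUJ σ) where
  carrier := {g | ∃ (b : F) (h : Par σ 0 b), g = xJ hσ 0 b h}
  one_mem' := ⟨0, Par_zero σ, (xJ_zero hσ).symm⟩
  mul_mem' := by
    rintro _ _ ⟨b, h, rfl⟩ ⟨b', h', rfl⟩
    refine ⟨b + b', ?_, ?_⟩
    · unfold Par at *; rw [map_add]; linear_combination h + h'
    · rw [xJ_mul hσ h h']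
      apply su_ext
      rw [xJ_val, xJ_val]
      congr 1 <;> simp
  inv_mem' := by
    rintro _ ⟨b, h, rfl⟩
    refine ⟨-b, ?_, ?_⟩
    · unfold Par at *; rw [map_neg]; linear_combination -h
    · rw [xJ_inv hσ h]
      apply su_ext
      rw [xJ_val, xJ_val]
      congr 1 <;> simp

/-- the torus -/
def TJ (hσ : ∀ x, σ (σ x) = x) : Subgroup ↥(SUJ σ) := (tJ hσ).range

/-- the group of homologies with axis `⟨e₀, e₂⟩` -/
def T1J (hσ : ∀ x, σ (σ x) = x) : Subgroup ↥(SUJ σ) where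
  carrier := {g | ∃ l : Fˣ, (l : F) * σ (l : F) = 1 ∧ g = tJ hσ l}
  one_mem' := ⟨1, by simp, (map_one _).symm⟩
  mul_mem' := by
    rintro _ _ ⟨l, hl, rfl⟩ ⟨l', hl', rfl⟩
    refine ⟨l * l', ?_, (map_mul _ _ _).symm⟩
    rw [Units.val_mul, map_mul]
    linear_combination (l' : F) * σ (l' : F) * hl + hl'
  inv_mem' := by
    rintro _ ⟨l, hl, rfl⟩
    refine ⟨l⁻¹, ?_, (map_inv _ _).symm⟩
    have h1 : (l : F) ≠ 0 := l.ne_zero
    have h2 : σ (l : F) ≠ 0 := sigma_ne_zero h1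
    rw [Units.val_inv_eq_inv_val, map_inv₀]
    field_simp
    linear_combination -hl

/-- the set of points -/
abbrev UJ (σ : F →+* F) : Type _ := ↥(SUJ σ) ⧸ BJ σ

end Cfsg.Agent.Lib.Helper83_U3Group
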