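import Mathlib
import Cfsg.Agent.Lib.Helper83_U3Group
import Cfsg.Agent.Lib.Helper5_HermCount
import Cfsg.Agent.Lib.Helper5_SUCenter

/-!
# S2148, concrete half, field `inv_fix` (helper41)

In the antidiagonal model `SUJ σ` of `SU₃` (helper83): an element whose square is a scalar matrix fixes
a point of `UJ σ = SUJ σ ⧸ BJ σ` (characteristic `≠ 2`, the norm `l ↦ l σ(l)` onto the fixed field of `σ`).
Also: central elements of `SUJ σ` are scalar matrices.
-/

set_option autoImplicit false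
set_option linter.unusedSectionVars false
set_option linter.unusedVariables false
set_option linter.unusedSimpArgs false

namespace Cfsg.Agent.Lib.Helper41_U3_InvFix

open Matrix Cfsg.Agent.Lib.Helper83_TvCalc Cfsg.Agent.Lib.Helper83_SL3Pair
  Cfsg.Agent.Lib.Helper83_SU3J Cfsg.Agent.Lib.Helper83_U3Model Cfsg.Agent.Lib.Helper83_U3Bruhat
  Cfsg.Agent.Lib.Helper83_U3Group

variable {F : Type*} [Field F] {σ : F →+* F}

/-- the nine relations of a unitary matrix (bare matrix version) -/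
theorem relM {M : Matrix (Fin 3) (Fin 3) F} (hU : IsUJ σ M) (i j : Fin 3) :
    M 0 i * σ (M 2 j) + M 1 i * σ (M 1 j) + M 2 i * σ (M 0 j) =
      (J3 : Matrix (Fin 3) (Fin 3) F) i j := by
  unfold IsUJ at hU
  have := congrFun (congrFun hU i) j
  rw [← this]
  simp [Matrix.mul_apply, Fin.sum_univ_three, J3]
  ring

/-- a unitary involution is self-adjoint -/
theorem selfadj {M : Matrix (Fin 3) (Fin 3) F} (hU : IsUJ σ M) (hI : M * M = 1) :
    Mᵀ * J3 = J3 * M.map σ := by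
  have h1 : M.map σ * M.map σ = 1 := by
    rw [← Matrix.map_mul, hI, Matrix.map_one _ (map_zero σ) (map_one σ)]
  unfold IsUJ at hU
  calc Mᵀ * J3 = Mᵀ * J3 * (M.map σ * M.map σ) := by rw [h1, Matrix.mul_one]
    _ = (Mᵀ * J3 * M.map σ) * M.map σ := by simp only [Matrix.mul_assoc]
    _ = J3 * M.map σ := by rw [hU]

theorem mulVec3 (M : Matrix (Fin 3) (Fin 3) F) (x : Fin 3 → F) (i : Fin 3) :
    (M *ᵥ x) i = M i 0 * x 0 + M i 1 * x 1 + M i 2 * x 2 := by
  simp [Matrix.mulVec, dotProduct, Fin.sum_univ_three]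

/-- **Key lemma.**  A unitary involution `M` (for the antidiagonal form) with `M 2 0 ≠ 0` has an isotropic
eigenvector `(b, -a, 1)`. -/
theorem exists_eigen (hσ : ∀ x, σ (σ x) = x) (h2 : (2 : F) ≠ 0)
    (hnorm : ∀ c : F, σ c = c → ∃ l : F, l * σ l = c)
    {M : Matrix (Fin 3) (Fin 3) F} (hU : IsUJ σ M) (hI : M * M = 1) (ht : M 2 0 ≠ 0) :
    ∃ a b ε : F, Par σ a b ∧ M *ᵥ ![b, -a, 1] = ε • ![b, -a, 1] := by
  obtain ⟨a₀, ha₀⟩ : ∃ x, M 0 0 = x := ⟨_, rfl⟩
  obtain ⟨a₁, ha₁⟩ : ∃ x, M 1 0 = x := ⟨_, rfl⟩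
  obtain ⟨t, ht'⟩ : ∃ x, M 2 0 = x := ⟨_, rfl⟩
  rw [ht'] at ht
  have hsa := selfadj hU hI
  have hst : σ t = t := by
    have := congrFun (congrFun hsa 0) 0
    simp [Matrix.mul_apply, Fin.sum_univ_three, J3, ht'] at this
    exact this.symm
  have h21 : M 2 1 = σ a₁ := by
    have := congrFun (congrFun hsa 1) 0
    simp [Matrix.mul_apply, Fin.sum_univ_three, J3, ha₁] at this
    exact this
  have r00 := relM hU 0 0
  have r10 := relM hU 1 0
  have j00 : (J3 : Matrix (Fin 3) (Fin 3) F) 0 0 = 0 := by simp [J3]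
  have j10 : (J3 : Matrix (Fin 3) (Fin 3) F) 1 0 = 0 := by simp [J3]
  rw [j00, ha₀, ha₁, ht', hst] at r00
  rw [j10, ha₀, ha₁, ht', hst, h21] at r10
  -- the vector `p`
  obtain ⟨p, hp⟩ : ∃ p : Fin 3 → F, p = ![-σ a₁, t, 0] := ⟨_, rfl⟩
  have hp0 : p 0 = -σ a₁ := by rw [hp]; rfl
  have hp1 : p 1 = t := by rw [hp]; rfl
  have hp2 : p 2 = 0 := by rw [hp]; rfl
  obtain ⟨y, hy⟩ : ∃ y : Fin 3 → F, y = M *ᵥ p := ⟨_, rfl⟩
  have hy0 : y 0 = -(a₀ * σ a₁) + M 0 1 * t := by
    rw [hy, mulVec3, hp0, hp1, hp2, ha₀]; ring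
  have hy1 : y 1 = -(a₁ * σ a₁) + M 1 1 * t := by
    rw [hy, mulVec3, hp0, hp1, hp2, ha₁]; ring
  have hy2 : y 2 = 0 := by
    rw [hy, mulVec3, hp0, hp1, hp2, ht', h21]; ring
  have hy01 : y 0 * t + y 1 * σ a₁ = 0 := by
    rw [hy0, hy1]
    linear_combination (-σ a₁) * r00 + t * r10
  obtain ⟨ε, hε⟩ : ∃ ε : F, ε = y 1 / t := ⟨_, rfl⟩
  have hyp : y = ε • p := by
    ext i
    fin_cases i
    · show y 0 = ε * p 0
      rw [hp0, hε]
      field_simp
      linear_combination hy01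
    · show y 1 = ε * p 1
      rw [hp1, hε]
      field_simp
    · show y 2 = ε * p 2
      rw [hp2, hy2, mul_zero]
  have hMy : M *ᵥ y = p := by
    rw [hy, Matrix.mulVec_mulVec, hI, Matrix.one_mulVec]
  have hεε : ε * ε = 1 := by
    have h1 : M *ᵥ y = (ε * ε) • p := by
      rw [hyp, Matrix.mulVec_smul, ← hy, hyp, smul_smul]
    rw [hMy] at h1
    have h3 := congrFun h1 1
    simp only [Pi.smul_apply, smul_eq_mul, hp1] at h3
    have : (ε * ε - 1) * t = 0 := by linear_combination -h3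
    rcases mul_eq_zero.mp this with h | h
    · linear_combination h
    · exact absurd h ht
  have hε1 : ε = 1 ∨ ε = -1 := by
    have : (ε - 1) * (ε + 1) = 0 := by linear_combination hεε
    rcases mul_eq_zero.mp this with h | h
    · left; linear_combination h
    · right; linear_combination h
  have hσε : σ ε = ε := by
    rcases hε1 with h | h
    · rw [h, map_one]
    · rw [h, map_neg, map_one]
  have hσ2 : σ (2 : F) = 2 := map_ofNat σ 2
  obtain ⟨l, hl⟩ := hnorm (-2 * ε / t) (by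
    rw [map_div₀, map_mul, map_neg, hσ2, hσε, hst])
  -- the eigenvector
  obtain ⟨e₀, he₀⟩ : ∃ e : Fin 3 → F, e = Pi.single 0 1 := ⟨_, rfl⟩
  have he00 : e₀ 0 = 1 := by rw [he₀]; simp
  have he01 : e₀ 1 = 0 := by rw [he₀]; simp
  have he02 : e₀ 2 = 0 := by rw [he₀]; simp
  obtain ⟨c, hc⟩ : ∃ c : Fin 3 → F, c = M *ᵥ e₀ := ⟨_, rfl⟩
  have hc0 : c 0 = a₀ := by rw [hc, he₀, Matrix.mulVec_single_one]; exact ha₀
  have hc1 : c 1 = a₁ := by rw [hc, he₀, Matrix.mulVec_single_one]; exact ha₁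
  have hc2 : c 2 = t := by rw [hc, he₀, Matrix.mulVec_single_one]; exact ht'
  have hMc : M *ᵥ c = e₀ := by
    rw [hc, Matrix.mulVec_mulVec, hI, Matrix.one_mulVec]
  obtain ⟨v, hv⟩ : ∃ v : Fin 3 → F, v = c + ε • e₀ + l • p := ⟨_, rfl⟩
  have hMv : M *ᵥ v = ε • v := by
    rw [hv, Matrix.mulVec_add, Matrix.mulVec_add, Matrix.mulVec_smul, Matrix.mulVec_smul, hMc,
      ← hc, ← hy, hyp]
    ext i
    simp only [Pi.add_apply, Pi.smul_apply, smul_eq_mul]
    linear_combination (-(e₀ i)) * hεε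
  have hv0 : v 0 = a₀ + ε - l * σ a₁ := by
    rw [hv]
    simp only [Pi.add_apply, Pi.smul_apply, smul_eq_mul, hc0, he00, hp0]
    ring
  have hv1 : v 1 = a₁ + l * t := by
    rw [hv]
    simp only [Pi.add_apply, Pi.smul_apply, smul_eq_mul, hc1, he01, hp1]
    ring
  have hv2 : v 2 = t := by
    rw [hv]
    simp only [Pi.add_apply, Pi.smul_apply, smul_eq_mul, hc2, he02, hp2]
    ring
  have hiso : v 0 * t + σ (v 0) * t + v 1 * σ (v 1) = 0 := by
    rw [hv0, hv1]
    simp only [map_add, map_sub, map_mul, hσ, hσε, hst]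
    have hl' : l * σ l * t = -2 * ε := by
      rw [hl]; field_simp
    linear_combination r00 + t * hl'
  refine ⟨-(v 1 / t), v 0 / t, ε, ?_, ?_⟩
  · unfold Par
    rw [map_div₀, map_neg, map_div₀, hst]
    field_simp
    linear_combination hiso
  · have hw : (![v 0 / t, - -(v 1 / t), 1] : Fin 3 → F) = t⁻¹ • v := by
      ext i
      fin_cases i
      · show v 0 / t = t⁻¹ * v 0
        field_simp
      · show - -(v 1 / t) = t⁻¹ * v 1
        field_simp
      · show (1 : F) = t⁻¹ * v 2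
        rw [hv2]; field_simp
    rw [hw, Matrix.mulVec_smul, hMv, smul_comm]

/-! ### the group level -/

theorem e0_col (N : Matrix (Fin 3) (Fin 3) F) (i : Fin 3) :
    (N *ᵥ (Pi.single 0 1 : Fin 3 → F)) i = N i 0 := by
  rw [Matrix.mulVec_single_one]; rfl

/-- the first column of `x(a,b) w` -/
theorem mat_xw_col (hσ : ∀ x, σ (σ x) = x) (a b : F) (h : Par σ a b) :
    mat (xJ hσ a b h * wJ) *ᵥ (Pi.single 0 1 : Fin 3 → F) = ![b, -a, 1] := by
  have e : mat (xJ hσ a b h * wJ) = (xS σ a b).1 * (wS : SpecialLinearGroup (Fin 3) F).1 := rfl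
  rw [e, xS_val hσ, wS_val]
  ext i
  rw [e0_col]
  fin_cases i <;> simp [Matrix.mul_apply, Fin.sum_univ_three]

/-- **`inv_fix`, matrix form**: an element of `SUJ σ` whose square is a scalar matrix fixes a point
of `UJ σ`. -/
theorem fix_of_sq_scalar (hσ : ∀ x, σ (σ x) = x) (h2 : (2 : F) ≠ 0)
    (hnorm : ∀ c : F, σ c = c → ∃ l : F, l * σ l = c)
    (g : ↥(SUJ σ)) (ζ : F) (hg : mat g * mat g = ζ • (1 : Matrix (Fin 3) (Fin 3) F)) :
    ∃ w : UJ σ, g • w = w := by
  have hdet : (mat g).det = 1 := g.1.2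
  have hζ3 : ζ ^ 3 = 1 := by
    have := congrArg Matrix.det hg
    rw [Matrix.det_mul, hdet, Matrix.det_smul, Matrix.det_one, Fintype.card_fin] at this
    simpa using this.symm
  have hζ0 : ζ ≠ 0 := by
    rintro rfl
    simp at hζ3
  have hUg : IsUJ σ (mat g) := g.2
  have hUz : IsUJ σ (ζ • (1 : Matrix (Fin 3) (Fin 3) F)) := by
    rw [← hg]; exact IsUJ.mul hUg hUg
  obtain ⟨M, hM⟩ : ∃ M : Matrix (Fin 3) (Fin 3) F, M = ζ • mat g := ⟨_, rfl⟩
  have hM' : M = (ζ • (1 : Matrix (Fin 3) (Fin 3) F)) * mat g := by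
    rw [hM, Matrix.smul_mul, Matrix.one_mul]
  have hUM : IsUJ σ M := by rw [hM']; exact IsUJ.mul hUz hUg
  have hIM : M * M = 1 := by
    rw [hM, Matrix.smul_mul, Matrix.mul_smul, hg, smul_smul, smul_smul, ← pow_two, ← pow_succ,
      hζ3, one_smul]
  by_cases ht : mat g 2 0 = 0
  · refine ⟨((1 : ↥(SUJ σ)) : UJ σ), ?_⟩
    rw [MulAction.Quotient.smul_mk, smul_eq_mul, mul_one, QuotientGroup.eq, mul_one]
    exact (BJ σ).inv_mem ((mem_BJ_iff hσ).2 ht)
  · have ht' : M 2 0 ≠ 0 := by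
      rw [hM, Matrix.smul_apply, smul_eq_mul]
      exact mul_ne_zero hζ0 ht
    obtain ⟨a, b, ε, hpar, hev⟩ := exists_eigen hσ h2 hnorm hUM hIM ht'
    obtain ⟨k, hk⟩ : ∃ k : ↥(SUJ σ), k = xJ hσ a b hpar * wJ := ⟨_, rfl⟩
    have hkcol : mat k *ᵥ (Pi.single 0 1 : Fin 3 → F) = ![b, -a, 1] := by
      rw [hk]; exact mat_xw_col hσ a b hpar
    have hgw : mat g *ᵥ ![b, -a, 1] = (ζ⁻¹ * ε) • ![b, -a, 1] := by
      have e : mat g = ζ⁻¹ • M := by rw [hM, smul_smul, inv_mul_cancel₀ hζ0, one_smul]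
      rw [e, Matrix.smul_mulVec, hev, smul_smul]
    refine ⟨(k : UJ σ), ?_⟩
    rw [MulAction.Quotient.smul_mk, smul_eq_mul, eq_comm, QuotientGroup.eq, mem_BJ_iff hσ]
    rw [← e0_col (mat (k⁻¹ * (g * k))) 2, mat_mul, mat_mul, ← Matrix.mulVec_mulVec,
      ← Matrix.mulVec_mulVec, hkcol, hgw,
      Matrix.mulVec_smul, ← hkcol, Matrix.mulVec_mulVec, mat_inv_mul, Matrix.one_mulVec]
    simp

/-! ### the centre consists of scalar matrices -/

/-- the trace `d ↦ d + σ d` takes the value `-1` -/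
theorem exists_trace_neg_one (hσ : ∀ x, σ (σ x) = x) (hne : ∃ y : F, σ y ≠ y) :
    ∃ d : F, d + σ d = -1 := by
  obtain ⟨y, hy⟩ := hne
  by_cases h : y + σ y = 0
  · have h2 : (2 : F) ≠ 0 := by
      intro h2
      apply hy
      have : y + y = 0 := by linear_combination y * h2
      linear_combination h - this
    have hσ2 : σ (2 : F) = 2 := map_ofNat σ 2
    refine ⟨-(1 / 2), ?_⟩
    rw [map_neg, map_div₀, map_one, hσ2]
    field_simp
    ring
  · refine ⟨-y / (y + σ y), ?_⟩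
    rw [map_div₀, map_neg, map_add, hσ]
    have h' : σ y + y ≠ 0 := by rwa [add_comm]
    field_simp
    ring

theorem Par_one {d : F} (hd : d + σ d = -1) : Par σ 1 d := by
  unfold Par
  rw [map_one]
  linear_combination hd

/-- central elements of `SUJ σ` are scalar matrices (`σ ≠ id`) -/
theorem center_scalar (hσ : ∀ x, σ (σ x) = x) (hne : ∃ y : F, σ y ≠ y)
    (c : ↥(SUJ σ)) (hc : c ∈ Subgroup.center ↥(SUJ σ)) :
    ∃ ζ : F, mat c = ζ • (1 : Matrix (Fin 3) (Fin 3) F) := by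
  obtain ⟨d, hd⟩ := exists_trace_neg_one hσ hne
  obtain ⟨y, hy⟩ := hne
  obtain ⟨b, hb⟩ : ∃ b : F, b = y - σ y := ⟨_, rfl⟩
  have hb0 : b ≠ 0 := by
    rw [hb]; intro h; exact hy (sub_eq_zero.mp h).symm
  have hpar : Par σ 0 b := by
    unfold Par
    rw [hb, map_sub, hσ, map_zero]; ring
  have hcomm : ∀ x : ↥(SUJ σ), mat x * mat c = mat c * mat x := by
    intro x
    rw [← mat_mul, ← mat_mul, Subgroup.mem_center_iff.mp hc x]
  -- the root element `1 + b E₀₂`
  have hX : mat (xJ hσ 0 b hpar) = !![1, 0, b; 0, 1, 0; 0, 0, 1] := by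
    show (xS σ 0 b).1 = _
    rw [xS_val hσ, map_zero, neg_zero]
  -- its opposite `1 + b E₂₀`
  have hY : mat (wJ * xJ hσ 0 b hpar * wJ) = !![1, 0, 0; 0, 1, 0; b, 0, 1] := by
    show ((wS : SpecialLinearGroup (Fin 3) F).1 * (xS σ 0 b).1) *
      (wS : SpecialLinearGroup (Fin 3) F).1 = _
    rw [xS_val hσ, wS_val, map_zero, neg_zero]
    ext i j
    fin_cases i <;> fin_cases j <;> simp [Matrix.mul_apply, Fin.sum_univ_three]
  have hZ : mat (xJ hσ 1 d (Par_one hd)) = !![1, 1, d; 0, 1, -1; 0, 0, 1] := by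
    show (xS σ 1 d).1 = _
    rw [xS_val hσ, map_one]
  have h1 := hcomm (xJ hσ 0 b hpar)
  have h2' := hcomm (wJ * xJ hσ 0 b hpar * wJ)
  have h3 := hcomm (xJ hσ 1 d (Par_one hd))
  rw [hX] at h1
  rw [hY] at h2'
  rw [hZ] at h3
  obtain ⟨C, hC⟩ : ∃ C : Matrix (Fin 3) (Fin 3) F, C = mat c := ⟨_, rfl⟩
  rw [← hC] at h1 h2' h3 ⊢
  have e12 := congrFun (congrFun h1 1) 2
  have e22 := congrFun (congrFun h1 2) 2
  have e01 := congrFun (congrFun h1 0) 1
  have e02 := congrFun (congrFun h1 0) 2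
  have f00 := congrFun (congrFun h2' 0) 0
  have f10 := congrFun (congrFun h2' 1) 0
  have f21 := congrFun (congrFun h2' 2) 1
  simp [Matrix.mul_apply, Fin.sum_univ_three] at e12 e22 e01 e02 f00 f10 f21
  have c10 : C 1 0 = 0 := e12.resolve_right hb0
  have c20 : C 2 0 = 0 := e22.resolve_right hb0
  have c21 : C 2 1 = 0 := e01.resolve_left hb0
  have c0022 : C 0 0 = C 2 2 := by
    have : b * (C 0 0 - C 2 2) = 0 := by linear_combination -e02
    rcases mul_eq_zero.mp this with h | h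
    · exact absurd h hb0
    · exact sub_eq_zero.mp h
  have c02 : C 0 2 = 0 := f00.resolve_right hb0
  have c12 : C 1 2 = 0 := f10.resolve_right hb0
  have c01 : C 0 1 = 0 := f21.resolve_left hb0
  have g01 := congrFun (congrFun h3 0) 1
  simp [Matrix.mul_apply, Fin.sum_univ_three, c01, c21] at g01
  refine ⟨C 0 0, ?_⟩
  ext i j
  fin_cases i <;> fin_cases j <;>
    simp [Matrix.smul_apply, Matrix.one_apply, c10, c20, c21, c02, c12, c01]
  · exact g01
  · exact c0022.symm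

/-- scalar matrices of `SUJ σ` are central -/
theorem scalar_mem_center (c : ↥(SUJ σ)) (ζ : F)
    (hc : mat c = ζ • (1 : Matrix (Fin 3) (Fin 3) F)) : c ∈ Subgroup.center ↥(SUJ σ) := by
  rw [Subgroup.mem_center_iff]
  intro x
  apply mat_ext
  rw [mat_mul, mat_mul, hc, Matrix.smul_mul, Matrix.mul_smul, Matrix.one_mul, Matrix.mul_one]

/-- **`inv_fix`** for `SUJ σ` acting on `UJ σ` -/
theorem inv_fix (hσ : ∀ x, σ (σ x) = x) (h2 : (2 : F) ≠ 0) (hne : ∃ y : F, σ y ≠ y)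
    (hnorm : ∀ c : F, σ c = c → ∃ l : F, l * σ l = c)
    (g : ↥(SUJ σ)) (hg2 : g ^ 2 ∈ Subgroup.center ↥(SUJ σ)) : ∃ w : UJ σ, g • w = w := by
  obtain ⟨ζ, hζ⟩ := center_scalar hσ hne (g ^ 2) hg2
  rw [pow_two, mat_mul] at hζ
  exact fix_of_sq_scalar hσ h2 hnorm g ζ hζ

/-- the centre acts trivially on `UJ σ` -/
theorem center_smul (hσ : ∀ x, σ (σ x) = x) (hne : ∃ y : F, σ y ≠ y)
    (c : ↥(SUJ σ)) (hc : c ∈ Subgroup.center ↥(SUJ σ)) (w : UJ σ) : c • w = w := by
  obtain ⟨ζ, hζ⟩ := center_scalar hσ hne c hc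
  induction w using QuotientGroup.induction_on with
  | H k =>
    rw [MulAction.Quotient.smul_mk, smul_eq_mul, eq_comm, QuotientGroup.eq,
      ← Subgroup.mem_center_iff.mp hc k, inv_mul_cancel_left, mem_BJ_iff hσ, hζ]
    simp [Matrix.smul_apply]

/-! ### the finite field case: `σ x = x ^ q`, `|F| = q ^ 2` -/

section finite

variable [Fintype F] {q : ℕ}

theorem sigma_invol (hF : Fintype.card F = q ^ 2) (hσq : ∀ x, σ x = x ^ q) : ∀ x, σ (σ x) = x := by
  intro x
  rw [hσq, hσq, ← pow_mul, ← sq, ← hF, FiniteField.pow_card]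

theorem sigma_ne (hF : Fintype.card F = q ^ 2) (hσq : ∀ x, σ x = x ^ q) : ∃ y : F, σ y ≠ y := by
  obtain ⟨l, hl, hl2⟩ := Cfsg.Agent.Lib.Helper5_SUCenter.exists_norm_one_sq_ne_one hF
  refine ⟨l, ?_⟩
  intro h
  apply hl2
  rw [hσq] at h
  rw [h] at hl
  exact hl

theorem norm_surj (hF : Fintype.card F = q ^ 2) (hσq : ∀ x, σ x = x ^ q) :
    ∀ c : F, σ c = c → ∃ l : F, l * σ l = c := by
  classical
  intro c hc
  by_cases h0 : c = 0
  · exact ⟨0, by rw [h0, zero_mul]⟩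
  · have hcard := Cfsg.Agent.Lib.Helper5_HermCount.card_norm_eq hF h0 (by rw [← hσq]; exact hc)
    have hne : (Finset.univ.filter (fun x : F => x * x ^ q = c)).Nonempty := by
      rw [← Finset.card_pos, hcard]; omega
    obtain ⟨l, hl⟩ := hne
    simp only [Finset.mem_filter, Finset.mem_univ, true_and] at hl
    exact ⟨l, by rw [hσq]; exact hl⟩

/-- the field `hC` of `U3DataSU` on the model `SUJ σ`, `UJ σ` -/
theorem hC_field (hF : Fintype.card F = q ^ 2) (hσq : ∀ x, σ x = x ^ q) :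
    ∀ c ∈ Subgroup.center ↥(SUJ σ), ∀ w : UJ σ, c • w = w :=
  fun c hc w => center_smul (sigma_invol hF hσq) (sigma_ne hF hσq) c hc w

/-- the field `inv_fix` of `U3DataSU` on the model `SUJ σ`, `UJ σ` -/
theorem inv_fix_field {p : ℕ} (hp : p.Prime) [CharP F p] (hF : Fintype.card F = q ^ 2)
    (hσq : ∀ x, σ x = x ^ q) :
    p ≠ 2 → ∀ g : ↥(SUJ σ), g ^ 2 ∈ Subgroup.center ↥(SUJ σ) → g ∉ Subgroup.center ↥(SUJ σ) →
      ∃ w : UJ σ, g • w = w := by
  intro hp2 g hg2 _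
  have h2 : (2 : F) ≠ 0 := by
    intro h
    have h' : ((2 : ℕ) : F) = 0 := by exact_mod_cast h
    rw [CharP.cast_eq_zero_iff F p 2] at h'
    exact hp2 ((Nat.prime_dvd_prime_iff_eq hp Nat.prime_two).mp h')
  exact inv_fix (sigma_invol hF hσq) h2 (sigma_ne hF hσq) (norm_surj hF hσq) g hg2

/-- the field `t_ker` of `U3DataSU` on the model `SUJ σ` -/
theorem t_ker_field (hF : Fintype.card F = q ^ 2) (hσq : ∀ x, σ x = x ^ q)
    (hσ : ∀ x, σ (σ x) = x) (l : Fˣ) :
    tJ hσ l ∈ Subgroup.center ↥(SUJ σ) ↔ l ^ (q + 1) = 1 ∧ l ^ 3 = 1 := by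
  have hl0 : (l : F) ≠ 0 := l.ne_zero
  have hsl0 : σ (l : F) ≠ 0 := sigma_ne_zero hl0
  have hmat : mat (tJ hσ l) =
      !![(l : F), 0, 0; 0, σ (l : F) * (l : F)⁻¹, 0; 0, 0, (σ (l : F))⁻¹] := tS_val σ l
  constructor
  · intro hc
    obtain ⟨ζ, hζ⟩ := center_scalar hσ (sigma_ne hF hσq) _ hc
    rw [hmat] at hζ
    have e0 := congrFun (congrFun hζ 0) 0
    have e1 := congrFun (congrFun hζ 1) 1
    have e2 := congrFun (congrFun hζ 2) 2
    simp [Matrix.smul_apply] at e0 e1 e2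
    have hN : (l : F) * σ (l : F) = 1 := by
      rw [← e0] at e2
      field_simp at e2
      linear_combination -e2
    have hS : σ (l : F) = (l : F) * (l : F) := by
      rw [← e0] at e1
      field_simp at e1
      linear_combination e1
    constructor
    · apply Units.ext
      rw [Units.val_pow_eq_pow_val, Units.val_one, pow_succ', ← hσq]
      exact hN
    · apply Units.ext
      rw [Units.val_pow_eq_pow_val, Units.val_one]
      rw [hS] at hN
      linear_combination hN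
  · rintro ⟨h1, h3⟩
    have h1' : (l : F) * σ (l : F) = 1 := by
      have := congrArg Units.val h1
      rw [Units.val_pow_eq_pow_val, Units.val_one, pow_succ', ← hσq] at this
      exact this
    have h3' : (l : F) ^ 3 = 1 := by
      have := congrArg Units.val h3
      rw [Units.val_pow_eq_pow_val, Units.val_one] at this
      exact this
    have hS : σ (l : F) = (l : F) * (l : F) := by
      have : (l : F) * (σ (l : F) - (l : F) * (l : F)) = 0 := by
        linear_combination h1' - h3'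
      rcases mul_eq_zero.mp this with h | h
      · exact absurd h hl0
      · exact sub_eq_zero.mp h
    apply scalar_mem_center _ (l : F)
    rw [hmat, hS]
    ext i j
    fin_cases i <;> fin_cases j <;> simp [Matrix.smul_apply, Matrix.one_apply]
    · field_simp
      exact h3'.symm

end finite

end Cfsg.Agent.Lib.Helper41_U3_InvFix
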