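import Mathlib
import Cfsg.Agent.Lib.Helper83_U3Group

/-!
# The projective group `PJ σ = SUJ σ / centre` and its point set (S2148, concrete half)

Definitions used to instantiate helper65's `U3Data`:
`PJ σ`, the projection `piJ`, the Borel subgroup `BbJ`, the point set `UbJ σ = PJ σ ⧸ BbJ σ`, the elements
`xb a b` (`= piJ (x(a,b))` when `Par σ a b`), the torus `tb`, the points `ub = ⟨e₀⟩`, `ub' = ⟨e₂⟩`.
Also (in `SUJ σ`): the block stabiliser `NJ` with its restriction `rhoN` to `GL₂`, and the group `SLJ`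
(`= SU(⟨e₀,e₂⟩)`) with its restriction `rhoS` to `SL₂`.
-/

set_option autoImplicit false
set_option linter.unusedSectionVars false
set_option linter.unusedVariables false
set_option linter.unusedSimpArgs false
set_option linter.unusedTactic false
set_option linter.unreachableTactic false
set_option linter.unnecessarySeqFocus false

namespace Cfsg.Agent.Lib.Helper83_U3PJ

open Matrix Cfsg.Agent.Lib.Helper83_TvCalc Cfsg.Agent.Lib.Helper83_SL3Pair
  Cfsg.Agent.Lib.Helper83_SU3J Cfsg.Agent.Lib.Helper83_U3Model Cfsg.Agent.Lib.Helper83_U3Bruhat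
  Cfsg.Agent.Lib.Helper83_U3Group

variable {F : Type*} [Field F] {σ : F →+* F}

/-- the projective special unitary group of the antidiagonal form -/
abbrev PJ (σ : F →+* F) : Type _ := ↥(SUJ σ) ⧸ Subgroup.center ↥(SUJ σ)

/-- the projection -/
def piJ : ↥(SUJ σ) →* PJ σ := QuotientGroup.mk' (Subgroup.center ↥(SUJ σ))

theorem piJ_surjective : Function.Surjective (piJ : ↥(SUJ σ) →* PJ σ) :=
  QuotientGroup.mk'_surjective _

theorem piJ_eq_one_iff {g : ↥(SUJ σ)} : piJ g = 1 ↔ g ∈ Subgroup.center ↥(SUJ σ) :=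
  QuotientGroup.eq_one_iff g

theorem piJ_eq_iff {g h : ↥(SUJ σ)} : piJ g = piJ h ↔ g⁻¹ * h ∈ Subgroup.center ↥(SUJ σ) :=
  QuotientGroup.eq

variable (σ) in
/-- the Borel subgroup of `PJ σ` -/
def BbJ : Subgroup (PJ σ) := (BJ σ).map piJ

/-- the point set of `PJ σ` -/
abbrev UbJ (σ : F →+* F) : Type _ := PJ σ ⧸ BbJ σ

/-- the base point `⟨e₀⟩` -/
def ub : UbJ σ := ((1 : PJ σ) : UbJ σ)

/-- the opposite point `⟨e₂⟩` -/
def ub' : UbJ σ := ((piJ (wJ : ↥(SUJ σ)) : PJ σ) : UbJ σ)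

open Classical in
/-- the image of `x(a,b)` in `PJ σ` (and `1` when `(a,b)` is not a parameter) -/
noncomputable def xb (hσ : ∀ x, σ (σ x) = x) (a b : F) : PJ σ :=
  if h : Par σ a b then piJ (xJ hσ a b h) else 1

theorem xb_of (hσ : ∀ x, σ (σ x) = x) {a b : F} (h : Par σ a b) :
    xb hσ a b = piJ (xJ hσ a b h) := by
  unfold xb
  rw [dif_pos h]

/-- the torus of `PJ σ` -/
def tb (hσ : ∀ x, σ (σ x) = x) : Fˣ →* PJ σ := piJ.comp (tJ hσ)

theorem tb_apply (hσ : ∀ x, σ (σ x) = x) (l : Fˣ) : tb hσ l = piJ (tJ hσ l) := rfl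

/-! ### the block stabiliser and the group `SU(⟨e₀,e₂⟩)` -/

/-- entries of the inverse -/
theorem mat_inv_apply (hσ : ∀ x, σ (σ x) = x) (g : ↥(SUJ σ)) (i j : Fin 3) :
    mat g⁻¹ i j = σ (mat g j.rev i.rev) := inv_apply hσ g.2 i j

/-- the stabiliser of the non-isotropic point `⟨e₁⟩`, i.e. of the hyperbolic line `⟨e₀,e₂⟩` -/
def NJ (hσ : ∀ x, σ (σ x) = x) : Subgroup ↥(SUJ σ) where
  carrier := {g | mat g 1 0 = 0 ∧ mat g 1 2 = 0 ∧ mat g 0 1 = 0 ∧ mat g 2 1 = 0}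
  one_mem' := by
    refine ⟨?_, ?_, ?_, ?_⟩ <;> simp [mat]
  mul_mem' := by
    rintro g h ⟨g1, g2, g3, g4⟩ ⟨h1, h2, h3, h4⟩
    refine ⟨?_, ?_, ?_, ?_⟩
    · show mat (g * h) 1 0 = 0
      rw [mat_mul, Matrix.mul_apply, Fin.sum_univ_three, g1, g2, h1]; ring
    · show mat (g * h) 1 2 = 0
      rw [mat_mul, Matrix.mul_apply, Fin.sum_univ_three, g1, g2, h2]; ring
    · show mat (g * h) 0 1 = 0
      rw [mat_mul, Matrix.mul_apply, Fin.sum_univ_three, h3, h4, g3]; ring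
    · show mat (g * h) 2 1 = 0
      rw [mat_mul, Matrix.mul_apply, Fin.sum_univ_three, h3, h4, g4]; ring
  inv_mem' := by
    rintro g ⟨g1, g2, g3, g4⟩
    have e := mat_inv_apply hσ g
    refine ⟨?_, ?_, ?_, ?_⟩
    · show mat g⁻¹ 1 0 = 0
      rw [e]; show σ (mat g 2 1) = 0; rw [g4, map_zero]
    · show mat g⁻¹ 1 2 = 0
      rw [e]; show σ (mat g 0 1) = 0; rw [g3, map_zero]
    · show mat g⁻¹ 0 1 = 0
      rw [e]; show σ (mat g 1 2) = 0; rw [g2, map_zero]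
    · show mat g⁻¹ 2 1 = 0
      rw [e]; show σ (mat g 1 0) = 0; rw [g1, map_zero]

theorem mem_NJ (hσ : ∀ x, σ (σ x) = x) {g : ↥(SUJ σ)} :
    g ∈ NJ hσ ↔ mat g 1 0 = 0 ∧ mat g 1 2 = 0 ∧ mat g 0 1 = 0 ∧ mat g 2 1 = 0 := Iff.rfl

/-- the restriction of an element of the block stabiliser to the hyperbolic line `⟨e₀,e₂⟩` -/
def rho2 (g : ↥(SUJ σ)) : Matrix (Fin 2) (Fin 2) F :=
  !![mat g 0 0, mat g 0 2; mat g 2 0, mat g 2 2]

theorem rho2_mul (hσ : ∀ x, σ (σ x) = x) {g h : ↥(SUJ σ)} (hg : g ∈ NJ hσ) (hh : h ∈ NJ hσ) :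
    rho2 (g * h) = rho2 g * rho2 h := by
  obtain ⟨g1, g2, g3, g4⟩ := hg
  obtain ⟨h1, h2, h3, h4⟩ := hh
  unfold rho2
  rw [mat_mul]
  ext i j
  fin_cases i <;> fin_cases j <;>
    simp [Matrix.mul_apply, Fin.sum_univ_three, Fin.sum_univ_two, g3, g4, h1, h2]

theorem rho2_one : rho2 (1 : ↥(SUJ σ)) = 1 := by
  unfold rho2
  ext i j
  fin_cases i <;> fin_cases j <;> simp [mat]

/-- the determinant of the restriction: `det g = g₁₁ * det (rho2 g)` -/
theorem det_rho2 (hσ : ∀ x, σ (σ x) = x) {g : ↥(SUJ σ)} (hg : g ∈ NJ hσ) :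
    mat g 1 1 * (rho2 g).det = 1 := by
  obtain ⟨g1, g2, g3, g4⟩ := hg
  have hdet : (mat g).det = 1 := g.1.2
  rw [Matrix.det_fin_three, g1, g2, g3, g4] at hdet
  unfold rho2
  rw [Matrix.det_fin_two_of]
  linear_combination hdet

/-- the restriction homomorphism of the block stabiliser to `GL₂(F)` -/
noncomputable def rhoN (hσ : ∀ x, σ (σ x) = x) : ↥(NJ hσ) →* GL (Fin 2) F where
  toFun g := Matrix.GeneralLinearGroup.mkOfDetNeZero (rho2 g.1) (by
    intro h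
    have := det_rho2 hσ g.2
    rw [h, mul_zero] at this
    exact zero_ne_one this)
  map_one' := by
    apply Matrix.GeneralLinearGroup.ext
    intro i j
    show rho2 (1 : ↥(SUJ σ)) i j = (1 : Matrix (Fin 2) (Fin 2) F) i j
    rw [rho2_one]
  map_mul' g h := by
    apply Matrix.GeneralLinearGroup.ext
    intro i j
    show rho2 (g.1 * h.1) i j = (rho2 g.1 * rho2 h.1) i j
    rw [rho2_mul hσ g.2 h.2]

theorem rhoN_val (hσ : ∀ x, σ (σ x) = x) (g : ↥(NJ hσ)) :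
    ((rhoN hσ g : GL (Fin 2) F) : Matrix (Fin 2) (Fin 2) F) = rho2 g.1 := rfl

/-- the group `SU(⟨e₀,e₂⟩)`: the elements of the block stabiliser fixing the vector `e₁` -/
def SLJ (hσ : ∀ x, σ (σ x) = x) : Subgroup ↥(SUJ σ) where
  carrier := {g | g ∈ NJ hσ ∧ mat g 1 1 = 1}
  one_mem' := ⟨(NJ hσ).one_mem, by simp [mat]⟩
  mul_mem' := by
    rintro g h ⟨hg, g11⟩ ⟨hh, h11⟩
    refine ⟨(NJ hσ).mul_mem hg hh, ?_⟩
    obtain ⟨g1, g2, g3, g4⟩ := hg
    show mat (g * h) 1 1 = 1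
    rw [mat_mul, Matrix.mul_apply, Fin.sum_univ_three, g1, g2, g11, h11]; ring
  inv_mem' := by
    rintro g ⟨hg, g11⟩
    refine ⟨(NJ hσ).inv_mem hg, ?_⟩
    show mat g⁻¹ 1 1 = 1
    rw [mat_inv_apply hσ]
    show σ (mat g 1 1) = 1
    rw [g11, map_one]

theorem mem_SLJ (hσ : ∀ x, σ (σ x) = x) {g : ↥(SUJ σ)} :
    g ∈ SLJ hσ ↔ g ∈ NJ hσ ∧ mat g 1 1 = 1 := Iff.rfl

theorem SLJ_le_NJ (hσ : ∀ x, σ (σ x) = x) : SLJ hσ ≤ NJ hσ := fun _ h => h.1

/-- the restriction homomorphism of `SU(⟨e₀,e₂⟩)` to `SL₂(F)` -/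
noncomputable def rhoS (hσ : ∀ x, σ (σ x) = x) : ↥(SLJ hσ) →* Matrix.SpecialLinearGroup (Fin 2) F where
  toFun g := ⟨rho2 g.1, by
    have := det_rho2 hσ g.2.1
    rw [g.2.2, one_mul] at this
    exact this⟩
  map_one' := by
    apply Subtype.ext
    show rho2 (1 : ↥(SUJ σ)) = 1
    rw [rho2_one]
  map_mul' g h := by
    apply Subtype.ext
    show rho2 (g.1 * h.1) = rho2 g.1 * rho2 h.1
    rw [rho2_mul hσ g.2.1 h.2.1]

theorem rhoS_val (hσ : ∀ x, σ (σ x) = x) (g : ↥(SLJ hσ)) : (rhoS hσ g).1 = rho2 g.1 := rfl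

theorem rhoS_injective (hσ : ∀ x, σ (σ x) = x) : Function.Injective (rhoS hσ) := by
  intro g h e
  have e2 : rho2 g.1 = rho2 h.1 := congrArg Subtype.val e
  obtain ⟨⟨g1, g2, g3, g4⟩, g11⟩ := g.2
  obtain ⟨⟨h1, h2, h3, h4⟩, h11⟩ := h.2
  apply Subtype.ext
  apply mat_ext
  have e00 := congrFun (congrFun e2 0) 0
  have e01 := congrFun (congrFun e2 0) 1
  have e10 := congrFun (congrFun e2 1) 0
  have e11 := congrFun (congrFun e2 1) 1
  simp [rho2] at e00 e01 e10 e11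
  ext i j
  fin_cases i <;> fin_cases j <;> simp [g1, g2, g3, g4, g11, h1, h2, h3, h4, h11, e00, e01, e10, e11]

/-! ### the block -/

variable (σ) in
/-- the block through `⟨e₀⟩` and `⟨e₂⟩`: the isotropic points of the hyperbolic line `⟨e₀,e₂⟩` -/
def BlkJ : Set (UJ σ) := {v | ∃ g : ↥(SUJ σ), (QuotientGroup.mk g : UJ σ) = v ∧ mat g 1 0 = 0}

/-- the Gram matrix of the hyperbolic line -/
def J2 : Matrix (Fin 2) (Fin 2) F := !![0, 1; 1, 0]

/-- the image of the block in the point set of `PJ σ` -/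
def BlkbJ (σ : F →+* F) : Set (UbJ σ) :=
  {v | ∃ g : ↥(SUJ σ), (QuotientGroup.mk (piJ g) : UbJ σ) = v ∧ mat g 1 0 = 0}

end Cfsg.Agent.Lib.Helper83_U3PJ
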