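import Mathlib
import Cfsg.Agent.Lib.Helper83_U3PJ
import Cfsg.Agent.Lib.Helper65_U3Defs
import Cfsg.Agent.Lib.Helper41_U3_InvFix

set_option autoImplicit false
set_option linter.unusedSectionVars false
set_option linter.unusedVariables false

/-!
# S2148 concrete half, package U3C-INVFIX (helper41): an involution of `SUJ σ` (`q` odd) is conjugate
into the Borel subgroup `BJ σ`.  Wrapper of `Helper41_U3_InvFix.fix_of_sq_scalar`.
-/

open Matrix Cfsg.Agent.Lib.Helper83_SU3J Cfsg.Agent.Lib.Helper83_U3Model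
  Cfsg.Agent.Lib.Helper83_U3Bruhat Cfsg.Agent.Lib.Helper83_U3Group Cfsg.Agent.Lib.Helper83_U3PJ
  Cfsg.Agent.Lib.Helper65_U3Defs

namespace Cfsg.Agent.Lib.Helper41_U3C_INVFIX

variable {F : Type*} [Field F] [Fintype F] {σ : F →+* F} {q : ℕ}

theorem two_ne_zero_of_odd (hF : Fintype.card F = q ^ 2) (hodd : Odd q) : (2 : F) ≠ 0 := by
  intro h2
  have hc : ringChar F ∣ 2 := by
    apply ringChar.dvd
    exact_mod_cast h2
  have hcp : (ringChar F).Prime := CharP.char_is_prime F (ringChar F)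
  have h2' : ringChar F = 2 := (Nat.prime_dvd_prime_iff_eq hcp Nat.prime_two).mp hc
  have hdvd : ringChar F ∣ Fintype.card F := by
    have : ((Fintype.card F : ℕ) : F) = 0 := Nat.cast_card_eq_zero F
    exact ringChar.dvd this
  rw [h2', hF] at hdvd
  have : 2 ∣ q := Nat.Prime.dvd_of_dvd_pow Nat.prime_two hdvd
  obtain ⟨k, hk⟩ := hodd
  omega

theorem inv_fix (hF : Fintype.card F = q ^ 2) (hσq : ∀ x, σ x = x ^ q) (hσ : ∀ x, σ (σ x) = x)
    (hodd : Odd q) (g : ↥(SUJ σ)) (hg : g * g = 1) : ∃ h : ↥(SUJ σ), h⁻¹ * g * h ∈ BJ σ := by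
  have h2 : (2 : F) ≠ 0 := two_ne_zero_of_odd hF hodd
  have hgm : mat g * mat g = (1 : F) • (1 : Matrix (Fin 3) (Fin 3) F) := by
    rw [← mat_mul, hg, one_smul]; rfl
  obtain ⟨w, hw⟩ := Cfsg.Agent.Lib.Helper41_U3_InvFix.fix_of_sq_scalar hσ h2
    (Cfsg.Agent.Lib.Helper41_U3_InvFix.norm_surj hF hσq) g 1 hgm
  induction w using QuotientGroup.induction_on with
  | H k =>
    refine ⟨k, ?_⟩
    rw [MulAction.Quotient.smul_mk, smul_eq_mul, eq_comm, QuotientGroup.eq] at hw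
    rw [mul_assoc]
    exact hw

end Cfsg.Agent.Lib.Helper41_U3C_INVFIX
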