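import Mathlib
import Cfsg.Agent.Lib.Helper27_UQDefs
import Cfsg.Agent.Lib.Helper94_HermWitt
import Cfsg.Agent.Lib.Helper94_HermIrr
import Cfsg.Agent.Lib.Helper64_UQ_PARAM

set_option autoImplicit false
set_option linter.unusedSectionVars false
set_option linter.unusedVariables false

/-!
helper41: U5 package D3-FQ1 (architect helper85, S2151-T5): an additive subgroup `I` of a
3-dimensional hermitian space with `q^3` elements on which the form takes `σ`-fixed values is
maximal with that property, and is closed under the fixed field (character sum).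
-/

open Module Cfsg.Agent.Lib.Helper94_Symp Cfsg.Agent.Lib.Helper94_Herm
  Cfsg.Agent.Lib.Helper94_HermEich Cfsg.Agent.Lib.Helper94_HermPara
  Cfsg.Agent.Lib.Helper94_HermTrans
  Cfsg.Agent.Lib.Helper13_SUGen Cfsg.Agent.Lib.Helper13_PSUSimple
  Cfsg.Agent.Lib.Helper46_U3TI Cfsg.Agent.Lib.Helper14_PSULocal1
  Cfsg.Agent.Lib.Helper27_UQDefs

namespace Cfsg.Agent.Lib.Helper41_U5_D3FQ1

/-- Character sum: for a biadditive `β` which is "`ψ`-nondegenerate" on the left, a subgroup `I` and
a set `J` with `β I J = 0` satisfy `|I| |J| ≤ |W|`. -/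
theorem card_mul_ncard_le {W : Type*} [AddCommGroup W] [Finite W] {A : Type*} [AddCommGroup A]
    (β : W → W → A)
    (hl : ∀ w w' u : W, β (w + w') u = β w u + β w' u)
    (hr : ∀ w u u' : W, β w (u + u') = β w u + β w u')
    (ψ : AddChar A ℂ) (hnd : ∀ w : W, w ≠ 0 → ∃ u : W, ψ (β w u) ≠ 1)
    (I : AddSubgroup W) (J : Set W) (hJ : ∀ w ∈ J, ∀ i ∈ I, β i w = 0) :
    Nat.card I * J.ncard ≤ Nat.card W := by
  classical
  have : Fintype W := Fintype.ofFinite W
  have : Fintype I := Fintype.ofFinite I
  have hr0 : ∀ w : W, β w 0 = 0 := by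
    intro w
    have := hr w 0 0
    rw [add_zero] at this
    exact (add_eq_left.mp this.symm)
  have hl0 : ∀ u : W, β 0 u = 0 := by
    intro u
    have := hl 0 0 u
    rw [add_zero] at this
    exact (add_eq_left.mp this.symm)
  let βr : W → (W →+ A) := fun i =>
    { toFun := β i, map_zero' := hr0 i, map_add' := hr i }
  let βl : W → (W →+ A) := fun w =>
    { toFun := fun i => β i w, map_zero' := hl0 w, map_add' := fun i i' => hl i i' w }
  let χ : W → AddChar W ℂ := fun i => ψ.compAddMonoidHom (βr i)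
  let η : W → AddChar I ℂ := fun w => ψ.compAddMonoidHom ((βl w).comp I.subtype)
  have hχapp : ∀ i w, χ i w = ψ (β i w) := fun i w => rfl
  have hηapp : ∀ w (i : I), η w i = ψ (β (i : W) w) := fun w i => rfl
  have hχ0 : ∀ i : W, i ≠ 0 → χ i ≠ 0 := by
    intro i hi h
    obtain ⟨u, hu⟩ := hnd i hi
    have h1 := AddChar.eq_zero_iff.mp h u
    rw [hχapp] at h1
    exact hu h1
  have key1 : ∑ i : I, ∑ w : W, χ (i : W) w = (Fintype.card W : ℂ) := by
    rw [Fintype.sum_eq_single (0 : I)]
    · have : ∀ w : W, χ ((0 : I) : W) w = 1 := by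
        intro w
        rw [hχapp, AddSubgroup.coe_zero, hl0, AddChar.map_zero_eq_one]
      simp only [this, Finset.sum_const, Finset.card_univ, nsmul_eq_mul, mul_one]
    · intro i hi
      apply AddChar.sum_eq_zero_iff_ne_zero.mpr
      apply hχ0
      intro h
      exact hi (Subtype.ext h)
  have key2 : ∑ w : W, ∑ i : I, χ (i : W) w =
      (Fintype.card I : ℂ) * ((Finset.univ.filter (fun w : W => η w = 0)).card : ℂ) := by
    have : ∀ w : W, ∑ i : I, χ (i : W) w = if η w = 0 then (Fintype.card I : ℂ) else 0 := by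
      intro w
      have h1 := AddChar.sum_eq_ite (η w)
      rw [← h1]
      rfl
    simp only [this]
    rw [← Finset.sum_filter, Finset.sum_const, nsmul_eq_mul, mul_comm]
  have hsub : J ⊆ ((Finset.univ.filter (fun w : W => η w = 0) : Finset W) : Set W) := by
    intro w hw
    rw [Finset.mem_coe, Finset.mem_filter]
    refine ⟨Finset.mem_univ _, ?_⟩
    rw [AddChar.eq_zero_iff]
    intro i
    rw [hηapp, hJ w hw _ i.2, AddChar.map_zero_eq_one]
  have hle : J.ncard ≤ (Finset.univ.filter (fun w : W => η w = 0)).card := by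
    have := Set.ncard_le_ncard hsub (Set.toFinite _)
    rwa [Set.ncard_coe_finset] at this
  have heq : (Fintype.card W : ℂ) =
      (Fintype.card I : ℂ) * ((Finset.univ.filter (fun w : W => η w = 0)).card : ℂ) := by
    rw [← key1, ← key2, Finset.sum_comm]
  have heqN : Fintype.card W =
      Fintype.card I * (Finset.univ.filter (fun w : W => η w = 0)).card := by
    exact_mod_cast heq
  rw [Nat.card_eq_fintype_card, Nat.card_eq_fintype_card, heqN]
  exact Nat.mul_le_mul_left _ hle

section D3

variable {F U : Type*} [Field F] [AddCommGroup U] [Module F U] {σ : F →+* F}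
variable {C : U →ₗ[F] U →ₛₗ[σ] F}

/-- **D3-FQ1** (M).  A maximal additive subgroup with `σ`-fixed values of the form is a subspace over the fixed field. -/
theorem fq_closed [Finite F] [FiniteDimensional F U] (hσ : Invol σ) (hC : IsHerm C)
    (hN : NondegOn C ⊤) {q : ℕ} (hF : Nat.card F = q ^ 2) (h3 : finrank F U = 3)
    (I : AddSubgroup U) (hcard : Nat.card I = q ^ 3) (hI : ∀ x ∈ I, ∀ y ∈ I, σ (C x y) = C x y) :
    (∀ w : U, (∀ y ∈ I, σ (C w y) = C w y) → w ∈ I) ∧
    (∀ a : F, σ a = a → ∀ x ∈ I, a • x ∈ I) := by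
  classical
  have hUfin : Finite U := Module.finite_of_finite F
  have hqpos : 0 < q := by
    rcases Nat.eq_zero_or_pos q with h0 | h0
    · subst h0
      have hpos : 0 < Nat.card F := Nat.card_pos
      rw [hF] at hpos
      norm_num at hpos
    · exact h0
  have hUcard : Nat.card U = q ^ 6 := by
    rw [Module.natCard_eq_pow_finrank (K := F) (V := U), h3, hF]
    ring
  -- the character
  obtain ⟨ζ, hζ0, hζ⟩ := exists_skew hσ
  obtain ⟨ψ, hψ⟩ := (AddChar.exists_apply_ne_zero (α := F)).mpr hζ0
  -- the pairing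
  let β : U → U → F := fun w u => C w u - σ (C w u)
  have hl : ∀ w w' u : U, β (w + w') u = β w u + β w' u := by
    intro w w' u
    simp only [β, map_add, LinearMap.add_apply]
    ring
  have hr : ∀ w u u' : U, β w (u + u') = β w u + β w u' := by
    intro w u u'
    simp only [β, map_add]
    ring
  have hnd : ∀ w : U, w ≠ 0 → ∃ u : U, ψ (β w u) ≠ 1 := by
    intro w hw
    obtain ⟨w', -, hw'⟩ := Cfsg.Agent.Lib.Helper64_UQ_PARAM.exists_comm hσ hC hN (w := w) Submodule.mem_top hw hζ
    refine ⟨w', ?_⟩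
    have : β w w' = ζ := by
      show C w w' - σ (C w w') = ζ
      rw [← hC w w']
      exact hw'
    rw [this]
    exact hψ
  let J : Set U := {w | ∀ y ∈ I, σ (C w y) = C w y}
  have hJ : ∀ w ∈ J, ∀ i ∈ I, β i w = 0 := by
    intro w hw i hi
    show C i w - σ (C i w) = 0
    have h1 : C i w = σ (C w i) := hC w i
    rw [h1, hσ.invol, hw i hi, sub_self]
  have hIJ : (I : Set U) ⊆ J := by
    intro x hx y hy
    exact hI x hx y hy
  have hmain := card_mul_ncard_le β hl hr ψ hnd I J hJ
  rw [hcard, hUcard] at hmain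
  have hJle : J.ncard ≤ q ^ 3 := by
    have h6 : q ^ 6 = q ^ 3 * q ^ 3 := by ring
    rw [h6] at hmain
    exact Nat.le_of_mul_le_mul_left hmain (pow_pos hqpos 3)
  have hIcard : (I : Set U).ncard = q ^ 3 := by
    rw [← hcard]
    exact (Nat.card_coe_set_eq (I : Set U)).symm
  have hEq : (I : Set U) = J := by
    apply Set.eq_of_subset_of_ncard_le hIJ _ (Set.toFinite _)
    rw [hIcard]
    exact hJle
  have hfirst : ∀ w : U, (∀ y ∈ I, σ (C w y) = C w y) → w ∈ I := by
    intro w hw
    have : w ∈ J := hw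
    rw [← hEq] at this
    exact this
  refine ⟨hfirst, ?_⟩
  intro a ha x hx
  apply hfirst
  intro y hy
  rw [map_smul, LinearMap.smul_apply, smul_eq_mul, map_mul, ha, hI x hx y hy]

end D3

end Cfsg.Agent.Lib.Helper41_U5_D3FQ1
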