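import Mathlib
import Cfsg.Agent.Lib.Helper67_UT2Defs
import Cfsg.Agent.Lib.Helper82_T2_KR
import Cfsg.Agent.Lib.Helper94_HermIrr
import Cfsg.Agent.Lib.Helper94_HermWitt

set_option autoImplicit false
set_option linter.unusedSectionVars false
set_option linter.unusedVariables false

/-!
# UTENS2 package LAGU (architect helper67), auxiliary form

`lag_fibre_aux` is the statement `lag_fibre` of `pending/helper67/UTENS2_packages.lean.txt` with the
conclusion of the package EIGU (`eig_iso`, for `D = ⊤`) taken as a hypothesis `heig`.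
-/

open Module
open Cfsg.Agent.Lib.Helper94_Symp Cfsg.Agent.Lib.Helper94_Herm Cfsg.Agent.Lib.Helper13_PSUSimple
  Cfsg.Agent.Lib.Helper94_FrmDefs Cfsg.Agent.Lib.Helper94_HermEich
  Cfsg.Agent.Lib.Helper67_Tens2Defs Cfsg.Agent.Lib.Helper67_UT2Defs

namespace Cfsg.Agent.Lib.Helper41_UT2_LAGUaux

variable {F W : Type*} [Field F] [Finite F] [AddCommGroup W] [Module F W] [FiniteDimensional F W]
variable {σ : F →+* F} {β : W →ₗ[F] W →ₛₗ[σ] F}

/-- a subspace of `W` invariant under all unitary transvections is `⊥` or `⊤` (`dim W ≥ 3`) -/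
theorem inv_bot_or_top (hσ : Invol σ) (hβ : IsHerm β) (hN : NondegOn β ⊤) (h3 : 3 ≤ finrank F W)
    (K : Submodule F W)
    (hK : ∀ y : W, β y y = 0 → ∀ s : F, σ s = -s → ∀ x ∈ K, utv β y s x ∈ K) :
    K = ⊥ ∨ K = ⊤ := by
  have h3top : ∀ x y : W, ∃ z ∈ (⊤ : Submodule F W), z ∉ Submodule.span F {x, y} := by
    intro x y
    exact Cfsg.Agent.Lib.Helper94_HermWitt.exists_notMem_span2
      (by rw [finrank_top]; exact h3) x y
  by_cases hb : K = ⊥
  · exact Or.inl hb
  · right
    obtain ⟨x0, hx0, hx00⟩ := Submodule.exists_mem_ne_zero_of_ne_bot hb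
    rw [eq_top_iff]
    intro x _
    exact Cfsg.Agent.Lib.Helper94_HermIrr.mem_of_utv_invariant hσ hβ hN h3top K.toAddSubgroup
      (fun a _ ha c hc x hx => hK a ha c hc x hx)
      ⟨x0, hx0, trivial, hx00⟩ x trivial

/-- a subspace of `W × W` of dimension `dim W` containing `W × 0` is `W × 0` -/
theorem eq_of_inl_le (L : Submodule F (W × W)) (hL : finrank F L = finrank F W)
    (h : ∀ u : W, (u, (0 : W)) ∈ L) : ∀ x : W × W, x ∈ L ↔ x.2 = 0 := by
  have hle : LinearMap.range (LinearMap.inl F W W) ≤ L := by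
    rintro _ ⟨u, rfl⟩
    exact h u
  have hfr : finrank F (LinearMap.range (LinearMap.inl F W W)) = finrank F W :=
    LinearMap.finrank_range_of_inj LinearMap.inl_injective
  have heq : LinearMap.range (LinearMap.inl F W W) = L :=
    Submodule.eq_of_le_of_finrank_eq hle (by rw [hfr, hL])
  intro x
  rw [← heq]
  constructor
  · rintro ⟨u, rfl⟩
    rfl
  · intro hx
    exact ⟨x.1, by ext <;> simp [hx]⟩

/-- a subspace of `W × W` of dimension `dim W` containing `0 × W` is `0 × W` -/
theorem eq_of_inr_le (L : Submodule F (W × W)) (hL : finrank F L = finrank F W)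
    (h : ∀ u : W, ((0 : W), u) ∈ L) : ∀ x : W × W, x ∈ L ↔ x.1 = 0 := by
  have hle : LinearMap.range (LinearMap.inr F W W) ≤ L := by
    rintro _ ⟨u, rfl⟩
    exact h u
  have hfr : finrank F (LinearMap.range (LinearMap.inr F W W)) = finrank F W :=
    LinearMap.finrank_range_of_inj LinearMap.inr_injective
  have heq : LinearMap.range (LinearMap.inr F W W) = L :=
    Submodule.eq_of_le_of_finrank_eq hle (by rw [hfr, hL])
  intro x
  rw [← heq]
  constructor
  · rintro ⟨u, rfl⟩
    rfl
  · intro hx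
    exact ⟨x.2, by ext <;> simp [hx]⟩

/-- a subspace of `W × W` of dimension `dim W` meeting `W × 0` and `0 × W` trivially is a graph -/
theorem exists_graph (L : Submodule F (W × W)) (hL : finrank F L = finrank F W)
    (h2 : ∀ u : W, ((0 : W), u) ∈ L → u = 0) :
    ∃ φ : W →ₗ[F] W, ∀ x : W × W, x ∈ L ↔ x.2 = φ x.1 := by
  set p1 : L →ₗ[F] W := (LinearMap.fst F W W).comp L.subtype with hp1
  set p2 : L →ₗ[F] W := (LinearMap.snd F W W).comp L.subtype with hp2
  have hinj1 : Function.Injective p1 := by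
    rw [← LinearMap.ker_eq_bot, LinearMap.ker_eq_bot']
    intro z hz
    have hz1 : (z : W × W).1 = 0 := hz
    have hmem : ((0 : W), (z : W × W).2) ∈ L := by
      have := z.2
      rwa [← hz1]
    have hz2 : (z : W × W).2 = 0 := h2 _ hmem
    apply Subtype.ext
    exact Prod.ext hz1 hz2
  set e1 : L ≃ₗ[F] W := LinearMap.linearEquivOfInjective p1 hinj1 hL with he1
  have he1a : ∀ z : L, e1 z = (z : W × W).1 := fun z => rfl
  refine ⟨p2.comp e1.symm.toLinearMap, ?_⟩
  have hgr : ∀ u : W, (u, (p2.comp e1.symm.toLinearMap) u) ∈ L := by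
    intro u
    have h1 : ((e1.symm u : L) : W × W).1 = u := by
      rw [← he1a, LinearEquiv.apply_symm_apply]
    have h3 : ((e1.symm u : L) : W × W) = (u, (p2.comp e1.symm.toLinearMap) u) := by
      apply Prod.ext
      · exact h1
      · rfl
    rw [← h3]
    exact (e1.symm u).2
  intro x
  constructor
  · intro hx
    have hd : ((0 : W), x.2 - (p2.comp e1.symm.toLinearMap) x.1) ∈ L := by
      have := L.sub_mem hx (hgr x.1)
      have h4 : x - (x.1, (p2.comp e1.symm.toLinearMap) x.1)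
          = ((0 : W), x.2 - (p2.comp e1.symm.toLinearMap) x.1) := by
        apply Prod.ext <;> simp
      rwa [h4] at this
    exact sub_eq_zero.mp (h2 _ hd)
  · intro hx
    have := hgr x.1
    rw [← hx] at this
    exact this

theorem lag_fibre_aux (hσ : Invol σ) (hβ : IsHerm β) (hN : NondegOn β ⊤) (h3 : 3 ≤ finrank F W)
    (heig : ∀ T : W →ₗ[F] W, (∀ y : W, β y y = 0 → ∃ l : F, T y = l • y) →
      ∃ c : F, ∀ u : W, T u = c • u)
    (L : Submodule F (W × W)) (hL : finrank F L = finrank F W)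
    (hinv : ∀ y : W, β y y = 0 → ∀ s : F, σ s = -s → ∀ x ∈ L, oE (utv β y s) x ∈ L) :
    ∃ a c : F, (a ≠ 0 ∨ c ≠ 0) ∧ ∀ x : W × W, x ∈ L ↔ ∃ u : W, x = (a • u, c • u) := by
  have d1 := inv_bot_or_top hσ hβ hN h3 (L.comap (LinearMap.inl F W W)) (by
    intro y hy s hs x hx
    have := hinv y hy s hs (x, 0) hx
    simpa using this)
  have d2 := inv_bot_or_top hσ hβ hN h3 (L.comap (LinearMap.inr F W W)) (by
    intro y hy s hs x hx
    have := hinv y hy s hs (0, x) hx
    simpa using this)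
  rcases d1 with d1 | d1
  swap
  · -- `L = W × 0`
    have h := eq_of_inl_le L hL (fun u => by
      have : u ∈ L.comap (LinearMap.inl F W W) := by rw [d1]; trivial
      simpa using this)
    refine ⟨1, 0, Or.inl one_ne_zero, fun x => ?_⟩
    rw [h]
    constructor
    · intro hx
      exact ⟨x.1, by ext <;> simp [hx]⟩
    · rintro ⟨u, rfl⟩
      simp
  rcases d2 with d2 | d2
  swap
  · -- `L = 0 × W`
    have h := eq_of_inr_le L hL (fun u => by
      have : u ∈ L.comap (LinearMap.inr F W W) := by rw [d2]; trivial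
      simpa using this)
    refine ⟨0, 1, Or.inr one_ne_zero, fun x => ?_⟩
    rw [h]
    constructor
    · intro hx
      exact ⟨x.2, by ext <;> simp [hx]⟩
    · rintro ⟨u, rfl⟩
      simp
  -- graph case
  have h2 : ∀ u : W, ((0 : W), u) ∈ L → u = 0 := by
    intro u hu
    have : u ∈ L.comap (LinearMap.inr F W W) := by simpa using hu
    rw [d2] at this
    simpa using this
  obtain ⟨φ, hφ⟩ := exists_graph L hL h2
  obtain ⟨ζ, hζ0, hζ⟩ := exists_skew hσ
  have hcomm : ∀ y : W, β y y = 0 → ∀ u : W, (ζ * β (φ u) y) • y = (ζ * β u y) • φ y := by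
    intro y hy u
    have h1 : (u, φ u) ∈ L := (hφ _).mpr rfl
    have h4 := (hφ _).mp (hinv y hy ζ hζ _ h1)
    simp only [oE_apply] at h4
    rw [utv_apply β hy, utv_apply β hy, map_add, map_smul] at h4
    exact add_left_cancel h4
  obtain ⟨c, hc⟩ := heig φ (by
    intro y hy
    by_cases hy0 : y = 0
    · exact ⟨0, by rw [hy0, map_zero, smul_zero]⟩
    · obtain ⟨z, -, hz⟩ := hN y trivial hy0
      have hzy : β z y ≠ 0 := herm_ne_zero hσ hβ hz
      have h5 := hcomm y hy z
      have h6 : ζ * β z y ≠ 0 := mul_ne_zero hζ0 hzy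
      refine ⟨(ζ * β z y)⁻¹ * (ζ * β (φ z) y), ?_⟩
      rw [mul_smul, h5, smul_smul, inv_mul_cancel₀ h6, one_smul])
  refine ⟨1, c, Or.inl one_ne_zero, fun x => ?_⟩
  rw [hφ]
  constructor
  · intro hx
    exact ⟨x.1, by ext <;> simp [hx, hc]⟩
  · rintro ⟨u, rfl⟩
    simp [hc]

end Cfsg.Agent.Lib.Helper41_UT2_LAGUaux
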