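import Mathlib
import Cfsg.Agent.Lib.Helper67_UT2Defs
import Cfsg.Agent.Lib.Helper82_T2_KR
import Cfsg.Agent.Lib.Helper30_UT2_EIGU
import Cfsg.Agent.Lib.Helper41_UT2_LAGUaux

set_option autoImplicit false
set_option linter.unusedSectionVars false
set_option linter.unusedVariables false

/-!
# UTENS2 package LAGU (architect helper67): `lag_fibre`, verbatim

Statement of `pending/helper67/UTENS2_packages.lean.txt`, under its header.  Proof:
`Helper41_UT2_LAGUaux.lag_fibre_aux` with EIGU (`Helper30_UT2_EIGU.eig_iso`, `D = ⊤`).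
-/

open Module
open Cfsg.Agent.Lib.Helper94_Symp Cfsg.Agent.Lib.Helper94_Herm Cfsg.Agent.Lib.Helper13_PSUSimple
  Cfsg.Agent.Lib.Helper94_FrmDefs Cfsg.Agent.Lib.Helper94_HermEich
  Cfsg.Agent.Lib.Helper67_Tens2Defs Cfsg.Agent.Lib.Helper67_UT2Defs

namespace Cfsg.Agent.Lib.Helper41_UT2_LAGU

variable {F W : Type*} [Field F] [Finite F] [AddCommGroup W] [Module F W] [FiniteDimensional F W]
variable {σ : F →+* F} {β : W →ₗ[F] W →ₛₗ[σ] F}

/-- LAGU : a `b`-dimensional subspace of `W × W` stabilised by all `1 ⊗ (unitary transvection)` is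
some fibre `x ⊗ W` -/
theorem lag_fibre (hσ : Invol σ) (hβ : IsHerm β) (hN : NondegOn β ⊤) (h3 : 3 ≤ finrank F W)
    (L : Submodule F (W × W)) (hL : finrank F L = finrank F W)
    (hinv : ∀ y : W, β y y = 0 → ∀ s : F, σ s = -s → ∀ x ∈ L, oE (utv β y s) x ∈ L) :
    ∃ a c : F, (a ≠ 0 ∨ c ≠ 0) ∧ ∀ x : W × W, x ∈ L ↔ ∃ u : W, x = (a • u, c • u) := by
  refine Cfsg.Agent.Lib.Helper41_UT2_LAGUaux.lag_fibre_aux hσ hβ hN h3 ?_ L hL hinv
  intro T hT
  obtain ⟨c, hc⟩ := Cfsg.Agent.Lib.Helper30_UT2_EIGU.eig_iso hσ hβ ⊤ hN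
    (by rw [finrank_top]; omega) T (fun y _ hy => hT y hy)
  exact ⟨c, fun u => hc u trivial⟩

end Cfsg.Agent.Lib.Helper41_UT2_LAGU
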