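import Mathlib
import Cfsg.Agent.S0807
import Cfsg.Agent.S0808
import Cfsg.Agent.S0804
import Cfsg.Agent.S0253
import Cfsg.Agent.Lib.Helper5_PSLCard

set_option autoImplicit false

/-!
`PSL₂(11)` acts 2-transitively on the 11 cosets of a subgroup isomorphic to `A₅`.
-/

namespace Cfsg.Agent.Lib.Helper42_PSL211

open Pointwise

section klein

theorem isKleinFour_of_mulEquiv {A B : Type*} [Group A] [Group B] (e : A ≃* B)
    (h : IsKleinFour A) : IsKleinFour B where
  card_four := by rw [← Nat.card_congr e.toEquiv]; exact h.card_four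
  exponent_two := by rw [← Monoid.exponent_eq_of_mulEquiv e]; exact h.exponent_two

/-- the number of Klein four-subgroups is an isomorphism invariant -/
theorem card_klein_congr {A B : Type*} [Group A] [Group B] (e : A ≃* B) :
    Nat.card {W : Subgroup A // IsKleinFour W} = Nat.card {W : Subgroup B // IsKleinFour W} := by
  apply Nat.card_congr
  refine (MulEquiv.mapSubgroup e).toEquiv.subtypeEquiv (fun W => ?_)
  constructor
  · intro h
    exact isKleinFour_of_mulEquiv (e.subgroupMap W) h
  · intro h
    exact isKleinFour_of_mulEquiv (e.subgroupMap W).symm h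

/-- Klein four-subgroups of `G` inside `K` correspond to Klein four-subgroups of `K` -/
theorem card_klein_le {G : Type*} [Group G] (K : Subgroup G) :
    Nat.card {V : Subgroup G // IsKleinFour V ∧ V ≤ K} =
      Nat.card {W : Subgroup K // IsKleinFour W} := by
  apply Nat.card_congr
  refine
    { toFun := fun V => ⟨V.1.subgroupOf K,
        isKleinFour_of_mulEquiv (Subgroup.subgroupOfEquivOfLe V.2.2).symm V.2.1⟩
      invFun := fun W => ⟨W.1.map K.subtype,
        isKleinFour_of_mulEquiv (W.1.equivMapOfInjective K.subtype K.subtype_injective) W.2,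
        Subgroup.map_subtype_le W.1⟩
      left_inv := fun V => by
        apply Subtype.ext
        exact Subgroup.map_subgroupOf_eq_of_le V.2.2
      right_inv := fun W => by
        apply Subtype.ext
        exact Subgroup.comap_map_eq_self_of_injective K.subtype_injective W.1 }

/-- a group isomorphic to `A₅` has exactly five Klein four-subgroups -/
theorem card_klein_A5 {A : Type*} [Group A] (e : A ≃* alternatingGroup (Fin 5)) :
    Nat.card {W : Subgroup A // IsKleinFour W} = 5 := by
  have : Fact (Nat.Prime 5) := ⟨by norm_num⟩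
  obtain ⟨e5⟩ := Cfsg.Agent.S0253.result (F := ZMod 5) (by rw [ZMod.card])
  rw [card_klein_congr (e.trans e5.symm)]
  have h1 := Cfsg.Agent.S0807.result (F := ZMod 5) (q := 5) (by rw [ZMod.card]) (by decide)
  have h2 : Nat.card (Matrix.ProjectiveSpecialLinearGroup (Fin 2) (ZMod 5)) = 60 := by
    exact Cfsg.Agent.S0253.card_PSL2_five (by rw [ZMod.card])
  omega

end klein


section a5

set_option maxRecDepth 100000 in
theorem perm5_no_order_four : ∀ x : Equiv.Perm (Fin 5), Equiv.Perm.sign x = 1 →
    x ^ 4 = 1 → x ^ 2 = 1 := by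
  decide

theorem A5_no_order_four (x : Equiv.Perm (Fin 5)) (hx : x ∈ alternatingGroup (Fin 5))
    (h : x ^ 4 = 1) : x ^ 2 = 1 :=
  perm5_no_order_four x (Equiv.Perm.mem_alternatingGroup.mp hx) h

variable {A : Type*} [Group A]

theorem sq_eq_one_of_pow_four (e : A ≃* alternatingGroup (Fin 5)) (x : A) (h : x ^ 4 = 1) :
    x ^ 2 = 1 := by
  apply e.injective
  rw [map_pow, map_one]
  apply Subtype.ext
  have h1 : (e x).1 ^ 4 = 1 := by
    have := congrArg (fun y => (e y).1) h
    simpa using this
  have := A5_no_order_four (e x).1 (e x).2 h1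
  simpa using this

theorem card_of_A5 (e : A ≃* alternatingGroup (Fin 5)) : Nat.card A = 60 := by
  rw [Nat.card_congr e.toEquiv, Nat.card_eq_fintype_card]
  have h := two_mul_card_alternatingGroup (α := Fin 5)
  rw [Fintype.card_perm, Fintype.card_fin] at h
  have : Nat.factorial 5 = 120 := by decide
  omega

/-- a subgroup of order four of a group isomorphic to `A₅` is a Klein four-group -/
theorem isKleinFour_of_card_four (e : A ≃* alternatingGroup (Fin 5)) (W : Subgroup A)
    (hW : Nat.card W = 4) : IsKleinFour W where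
  card_four := hW
  exponent_two := by
    have : Finite W := Nat.finite_of_card_ne_zero (by rw [hW]; norm_num)
    have h2 : Monoid.exponent W ∣ 2 := by
      apply Monoid.exponent_dvd_of_forall_pow_eq_one
      intro x
      have h4 : x ^ 4 = 1 := by
        rw [← hW]; exact pow_card_eq_one'
      have h4' : (x : A) ^ 4 = 1 := by
        have := congrArg Subtype.val h4
        simpa using this
      have := sq_eq_one_of_pow_four e (x : A) h4'
      apply Subtype.ext
      simpa using this
    rcases (Nat.dvd_prime Nat.prime_two).mp h2 with h1 | h1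
    · exfalso
      have := Monoid.exp_eq_one_iff.mp h1
      have h5 : Nat.card W = 1 := Nat.card_unique
      omega
    · exact h1

/-- a subgroup of a group isomorphic to `A₅` containing no Klein four-group has index at least six -/
theorem six_le_index [Finite A] (e : A ≃* alternatingGroup (Fin 5)) (D : Subgroup A)
    (hD : ∀ W : Subgroup A, IsKleinFour W → ¬ W ≤ D) : 6 ≤ D.index := by
  classical
  have hA := card_of_A5 e
  have hmul := D.card_mul_index
  rw [hA] at hmul
  by_contra hlt
  push Not at hlt
  have hpos : 0 < D.index := Nat.pos_of_ne_zero Subgroup.index_ne_zero_of_finite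
  -- a subgroup of order 4 when 4 ∣ |D|
  have hfour : ¬ 4 ∣ Nat.card D := by
    intro h4
    have : Fact (Nat.Prime 2) := ⟨Nat.prime_two⟩
    obtain ⟨W', hW'⟩ := Sylow.exists_subgroup_card_pow_prime (G := D) 2 (n := 2) (by simpa using h4)
    have hW : Nat.card (W'.map D.subtype) = 4 := by
      rw [← Nat.card_congr (W'.equivMapOfInjective D.subtype D.subtype_injective).toEquiv, hW']
      norm_num
    exact hD _ (isKleinFour_of_card_four e _ hW) (Subgroup.map_subtype_le W')
  -- simplicity excludes small index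
  have hsimple : IsSimpleGroup A := by
    have : IsSimpleGroup (alternatingGroup (Fin 5)) :=
      alternatingGroup.isSimpleGroup (by rw [Nat.card_eq_fintype_card, Fintype.card_fin])
    exact e.isSimpleGroup
  have hcore : D.normalCore = ⊥ := by
    rcases (D.normalCore_normal).eq_bot_or_eq_top with h | h
    · exact h
    · exfalso
      have hle : (⊤ : Subgroup A) ≤ D := h ▸ D.normalCore_le
      have hDtop : D = ⊤ := top_le_iff.mp hle
      rw [hDtop, Subgroup.card_top, hA] at hfour
      exact hfour (by norm_num)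
  have hinj : Function.Injective (MulAction.toPermHom A (A ⧸ D)) := by
    rw [← MonoidHom.ker_eq_bot_iff, ← Subgroup.normalCore_eq_ker, hcore]
  have hle : Nat.card A ≤ Nat.card (Equiv.Perm (A ⧸ D)) := Nat.card_le_card_of_injective _ hinj
  have hperm : Nat.card (Equiv.Perm (A ⧸ D)) = (D.index).factorial := by
    have : Fintype (A ⧸ D) := Fintype.ofFinite _
    rw [Nat.card_eq_fintype_card, Fintype.card_perm, ← Nat.card_eq_fintype_card]
    rfl
  rw [hA, hperm] at hle
  have h5 : D.index = 5 := by
    interval_cases h : D.index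
    · simp at hle
    · simp [Nat.factorial] at hle
    · simp [Nat.factorial] at hle
    · simp [Nat.factorial] at hle
    · rfl
  rw [h5] at hmul
  exact hfour ⟨3, by omega⟩

end a5


section counting

variable {G : Type*} [Group G] [Finite G]

theorem card_klein_conj (H : Subgroup G) (e : H ≃* alternatingGroup (Fin 5)) (g : G) :
    Nat.card {V : Subgroup G // IsKleinFour V ∧ V ≤ MulAut.conj g • H} = 5 := by
  rw [card_klein_le]
  exact card_klein_A5 ((Subgroup.equivSMul (MulAut.conj g) H).symm.trans e)

theorem card_fiber_eq (H V W : Subgroup G) (a : G) (hW : W = MulAut.conj a • V) :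
    Nat.card {g : G // V ≤ MulAut.conj g • H} = Nat.card {g : G // W ≤ MulAut.conj g • H} := by
  apply Nat.card_congr
  refine (Equiv.mulLeft a).subtypeEquiv (fun g => ?_)
  rw [hW, Equiv.coe_mulLeft, map_mul, mul_smul, Subgroup.pointwise_smul_le_pointwise_smul_iff]

/-- each Klein four-subgroup lies in `g H g⁻¹` for exactly 60 elements `g` -/
theorem fiber_card (H : Subgroup G) (e : H ≃* alternatingGroup (Fin 5)) (hG : Nat.card G = 660)
    (hK : Nat.card {V : Subgroup G // IsKleinFour V} = 55)
    (hconj : ∀ V W : Subgroup G, IsKleinFour V → IsKleinFour W →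
      ∃ g : G, W = MulAut.conj g • V)
    (V : Subgroup G) (hV : IsKleinFour V) :
    Nat.card {g : G // V ≤ MulAut.conj g • H} = 60 := by
  classical
  have : Fintype G := Fintype.ofFinite G
  have : Fintype {V : Subgroup G // IsKleinFour V} := Fintype.ofFinite _
  have h1 : Nat.card (Σ W : {V : Subgroup G // IsKleinFour V},
      {g : G // W.1 ≤ MulAut.conj g • H}) =
      55 * Nat.card {g : G // V ≤ MulAut.conj g • H} := by
    rw [Nat.card_sigma]
    have : ∀ W : {V : Subgroup G // IsKleinFour V},
        Nat.card {g : G // W.1 ≤ MulAut.conj g • H} =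
          Nat.card {g : G // V ≤ MulAut.conj g • H} := by
      intro W
      obtain ⟨a, ha⟩ := hconj V W.1 hV W.2
      exact (card_fiber_eq H V W.1 a ha).symm
    simp only [this, Finset.sum_const, Finset.card_univ, smul_eq_mul]
    rw [← Nat.card_eq_fintype_card, hK]
  have h2 : Nat.card (Σ g : G, {W : {V : Subgroup G // IsKleinFour V} //
      W.1 ≤ MulAut.conj g • H}) = 660 * 5 := by
    rw [Nat.card_sigma]
    have : ∀ g : G, Nat.card {W : {V : Subgroup G // IsKleinFour V} //
        W.1 ≤ MulAut.conj g • H} = 5 := by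
      intro g
      rw [← card_klein_conj H e g]
      exact Nat.card_congr (Equiv.subtypeSubtypeEquivSubtypeInter
        (fun V : Subgroup G => IsKleinFour V) (fun V : Subgroup G => V ≤ MulAut.conj g • H))
    simp only [this, Finset.sum_const, Finset.card_univ, smul_eq_mul]
    rw [← Nat.card_eq_fintype_card, hG]
  have h3 : Nat.card (Σ W : {V : Subgroup G // IsKleinFour V},
      {g : G // W.1 ≤ MulAut.conj g • H}) =
      Nat.card (Σ g : G, {W : {V : Subgroup G // IsKleinFour V} //
        W.1 ≤ MulAut.conj g • H}) := by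
    apply Nat.card_congr
    exact
      { toFun := fun x => ⟨x.2.1, ⟨x.1, x.2.2⟩⟩
        invFun := fun x => ⟨x.2.1, ⟨x.1, x.2.2⟩⟩
        left_inv := fun x => rfl
        right_inv := fun x => rfl }
  rw [h1, h2] at h3
  omega

/-- a Klein four-subgroup of `H` lies in no other conjugate of `H` -/
theorem mem_of_klein_le (H : Subgroup G) (e : H ≃* alternatingGroup (Fin 5))
    (hG : Nat.card G = 660) (hK : Nat.card {V : Subgroup G // IsKleinFour V} = 55)
    (hconj : ∀ V W : Subgroup G, IsKleinFour V → IsKleinFour W →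
      ∃ g : G, W = MulAut.conj g • V)
    (V : Subgroup G) (hV : IsKleinFour V) (hVH : V ≤ H) (g : G)
    (hg : V ≤ MulAut.conj g • H) : g ∈ H := by
  have h60 := fiber_card H e hG hK hconj V hV
  have hH : Nat.card H = 60 := card_of_A5 e
  have hsub : (H : Set G) ⊆ {g : G | V ≤ MulAut.conj g • H} := by
    intro h hh
    change V ≤ MulAut.conj h • H
    rw [Subgroup.conj_smul_eq_self_of_mem hh]
    exact hVH
  have heq : (H : Set G) = {g : G | V ≤ MulAut.conj g • H} := by
    apply Set.eq_of_subset_of_ncard_le hsub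
    · rw [← Nat.card_coe_set_eq, ← Nat.card_coe_set_eq]
      change Nat.card {g : G // V ≤ MulAut.conj g • H} ≤ Nat.card H
      rw [h60, hH]
  have : g ∈ {g : G | V ≤ MulAut.conj g • H} := hg
  rw [← heq] at this
  exact this

end counting


section transitive

variable {G : Type*} [Group G] [Finite G]

theorem smul_mk_eq (H : Subgroup G) (h : H) (g : G) :
    h • (QuotientGroup.mk g : G ⧸ H) = QuotientGroup.mk ((h : G) * g) := rfl

theorem mk_ne_one_iff (H : Subgroup G) (g : G) :
    (QuotientGroup.mk g : G ⧸ H) ≠ QuotientGroup.mk 1 ↔ g ∉ H := by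
  rw [Ne, QuotientGroup.eq, mul_one, inv_mem_iff]

/-- `H`-orbits of nontrivial cosets have at least six elements -/
theorem six_le_orbit (H : Subgroup G) (e : H ≃* alternatingGroup (Fin 5))
    (hG : Nat.card G = 660) (hK : Nat.card {V : Subgroup G // IsKleinFour V} = 55)
    (hconj : ∀ V W : Subgroup G, IsKleinFour V → IsKleinFour W →
      ∃ g : G, W = MulAut.conj g • V)
    (g : G) (hg : g ∉ H) :
    6 ≤ (MulAction.orbit H (QuotientGroup.mk g : G ⧸ H)).ncard := by
  rw [← MulAction.index_stabilizer]
  apply six_le_index e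
  intro W hW hWD
  apply hg
  apply mem_of_klein_le H e hG hK hconj (W.map H.subtype)
    (isKleinFour_of_mulEquiv (W.equivMapOfInjective H.subtype H.subtype_injective) hW)
    (Subgroup.map_subtype_le W) g
  rintro _ ⟨w, hw, rfl⟩
  have hst := hWD hw
  rw [MulAction.mem_stabilizer_iff, smul_mk_eq, QuotientGroup.eq] at hst
  rw [Subgroup.mem_pointwise_smul_iff_inv_smul_mem, ← map_inv, MulAut.smul_def,
    MulAut.conj_apply, inv_inv]
  have := H.inv_mem hst
  simpa [mul_assoc] using this

/-- `H` is transitive on the nontrivial cosets -/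
theorem exists_smul_eq_of_ne (H : Subgroup G) (e : H ≃* alternatingGroup (Fin 5))
    (hG : Nat.card G = 660) (hK : Nat.card {V : Subgroup G // IsKleinFour V} = 55)
    (hconj : ∀ V W : Subgroup G, IsKleinFour V → IsKleinFour W →
      ∃ g : G, W = MulAut.conj g • V)
    (x y : G ⧸ H) (hx : x ≠ QuotientGroup.mk 1) (hy : y ≠ QuotientGroup.mk 1) :
    ∃ h : H, h • x = y := by
  by_contra hne
  push Not at hne
  obtain ⟨gx, rfl⟩ := QuotientGroup.mk_surjective x
  obtain ⟨gy, rfl⟩ := QuotientGroup.mk_surjective y
  rw [mk_ne_one_iff] at hx hy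
  have h6x := six_le_orbit H e hG hK hconj gx hx
  have h6y := six_le_orbit H e hG hK hconj gy hy
  have hdisj : Disjoint (MulAction.orbit H (QuotientGroup.mk gx : G ⧸ H))
      (MulAction.orbit H (QuotientGroup.mk gy : G ⧸ H)) := by
    rw [Set.disjoint_left]
    rintro z ⟨h1, rfl⟩ ⟨h2, h2e⟩
    apply hne (h2⁻¹ * h1)
    rw [mul_smul]
    change h2 • _ = h1 • _ at h2e
    rw [← h2e, inv_smul_smul]
  have hnot : ∀ (g : G), g ∉ H → MulAction.orbit H (QuotientGroup.mk g : G ⧸ H) ⊆
      ({QuotientGroup.mk 1}ᶜ : Set (G ⧸ H)) := by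
    rintro g hg z ⟨h, rfl⟩
    change h • _ ∈ _
    rw [Set.mem_compl_iff, Set.mem_singleton_iff, smul_mk_eq]
    change (QuotientGroup.mk ((h : G) * g) : G ⧸ H) ≠ QuotientGroup.mk 1
    rw [mk_ne_one_iff]
    intro hmem
    exact hg ((H.mul_mem_cancel_left h.2).mp hmem)
  have hsub : MulAction.orbit H (QuotientGroup.mk gx : G ⧸ H) ∪
      MulAction.orbit H (QuotientGroup.mk gy : G ⧸ H) ⊆
        ({QuotientGroup.mk 1}ᶜ : Set (G ⧸ H)) :=
    Set.union_subset (hnot gx hx) (hnot gy hy)
  have hidx : Nat.card (G ⧸ H) = 11 := by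
    have h1 := H.card_mul_index
    rw [card_of_A5 e, hG] at h1
    change H.index = 11
    omega
  have hcompl : ({QuotientGroup.mk 1}ᶜ : Set (G ⧸ H)).ncard = 10 := by
    rw [Set.ncard_compl, hidx, Set.ncard_singleton]
  have hle := Set.ncard_le_ncard hsub
  rw [Set.ncard_union_eq hdisj, hcompl] at hle
  omega

/-- the action on the cosets of `H` is 2-transitive -/
theorem two_transitive (H : Subgroup G) (e : H ≃* alternatingGroup (Fin 5))
    (hG : Nat.card G = 660) (hK : Nat.card {V : Subgroup G // IsKleinFour V} = 55)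
    (hconj : ∀ V W : Subgroup G, IsKleinFour V → IsKleinFour W →
      ∃ g : G, W = MulAut.conj g • V) :
    MulAction.IsMultiplyPretransitive G (G ⧸ H) 2 := by
  rw [MulAction.is_two_pretransitive_iff]
  intro a b c d hab hcd
  obtain ⟨ga, rfl⟩ := QuotientGroup.mk_surjective a
  obtain ⟨gc, rfl⟩ := QuotientGroup.mk_surjective c
  have hb : ga⁻¹ • b ≠ (QuotientGroup.mk 1 : G ⧸ H) := by
    intro hb
    apply hab
    rw [inv_smul_eq_iff] at hb
    rw [hb]
    change _ = (QuotientGroup.mk (ga * 1) : G ⧸ H)
    rw [mul_one]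
  have hd : gc⁻¹ • d ≠ (QuotientGroup.mk 1 : G ⧸ H) := by
    intro hd
    apply hcd
    rw [inv_smul_eq_iff] at hd
    rw [hd]
    change _ = (QuotientGroup.mk (gc * 1) : G ⧸ H)
    rw [mul_one]
  obtain ⟨h, hh⟩ := exists_smul_eq_of_ne H e hG hK hconj _ _ hb hd
  refine ⟨gc * (h : G) * ga⁻¹, ?_, ?_⟩
  · change (QuotientGroup.mk (gc * (h : G) * ga⁻¹ * ga) : G ⧸ H) = QuotientGroup.mk gc
    rw [QuotientGroup.eq]
    have : (gc * (h : G) * ga⁻¹ * ga)⁻¹ * gc = ((h : G))⁻¹ := by group
    rw [this]
    exact H.inv_mem h.2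
  · rw [mul_smul, mul_smul]
    change gc • ((h : G) • (ga⁻¹ • b)) = d
    have : (h : G) • (ga⁻¹ • b) = gc⁻¹ • d := hh
    rw [this, smul_inv_smul]

end transitive

end Cfsg.Agent.Lib.Helper42_PSL211
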