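import Mathlib
import Cfsg.Agent.Lib.Helper42_PSL211

set_option autoImplicit false

/-!
Counting subgroups isomorphic to `A₅` in a group of order 660 with 55 conjugate Klein
four-subgroups and centralizers of order 6 for elements of order 3 (i.e. `PSL₂(11)`).
-/

namespace Cfsg.Agent.Lib.Helper42_A5Count

open Pointwise Cfsg.Agent.Lib.Helper42_PSL211

set_option maxRecDepth 100000 in
/-- every element of order three of `A₅` is inverted by an involution of `A₅` -/
theorem perm5_invert : ∀ β : Equiv.Perm (Fin 5), Equiv.Perm.sign β = 1 → β * β * β = 1 → β ≠ 1 →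
    ∃ σ : Equiv.Perm (Fin 5), Equiv.Perm.sign σ = 1 ∧ σ * σ = 1 ∧ σ * β * σ = β * β := by
  decide

section

variable {G : Type*} [Group G]

/-- the conjugation action of a group on its subgroups -/
@[reducible] def conjAction (G : Type*) [Group G] : MulAction G (Subgroup G) :=
  MulAction.compHom (Subgroup G) (MulAut.conj : G →* MulAut G)

theorem exists_invert (H : Subgroup G) (e : H ≃* alternatingGroup (Fin 5)) (b : G) (hb : b ∈ H)
    (hb3 : b * b * b = 1) (hb1 : b ≠ 1) :
    ∃ s ∈ H, s * s = 1 ∧ s * b * s⁻¹ = b⁻¹ := by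
  set β := e ⟨b, hb⟩ with hβ
  have hβ3 : β * β * β = 1 := by
    rw [hβ, ← map_mul, ← map_mul]
    have : (⟨b, hb⟩ : H) * ⟨b, hb⟩ * ⟨b, hb⟩ = 1 := Subtype.ext hb3
    rw [this, map_one]
  have hβ1 : β ≠ 1 := by
    intro h
    apply hb1
    have : (⟨b, hb⟩ : H) = 1 := by
      apply e.injective
      rw [map_one]; exact h
    exact congrArg Subtype.val this
  obtain ⟨σ, hσs, hσ2, hσβ⟩ := perm5_invert β.1 (Equiv.Perm.mem_alternatingGroup.mp β.2)
    (congrArg Subtype.val hβ3) (fun h => hβ1 (Subtype.ext h))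
  set σ' : alternatingGroup (Fin 5) := ⟨σ, Equiv.Perm.mem_alternatingGroup.mpr hσs⟩ with hσ'
  have h2 : σ' * σ' = 1 := Subtype.ext hσ2
  have h3 : σ' * β * σ' = β * β := Subtype.ext hσβ
  set s := e.symm σ' with hs
  have hs2 : s * s = 1 := by
    rw [hs, ← map_mul, h2, map_one]
  have hsb : s * ⟨b, hb⟩ * s = ⟨b, hb⟩ * ⟨b, hb⟩ := by
    apply e.injective
    rw [map_mul, map_mul, map_mul, hs, e.apply_symm_apply, ← hβ, h3]
  refine ⟨s.1, s.2, congrArg Subtype.val hs2, ?_⟩
  have hsb' : s.1 * b * s.1 = b * b := congrArg Subtype.val hsb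
  have hs2' : s.1 * s.1 = 1 := congrArg Subtype.val hs2
  have hsinv : s.1⁻¹ = s.1 := inv_eq_of_mul_eq_one_right hs2'
  have hbinv : b⁻¹ = b * b := by
    apply inv_eq_of_mul_eq_one_right
    rw [← mul_assoc]; exact hb3
  rw [hsinv, hbinv, hsb']

/-- in a group of order 12 with a normal subgroup of order 4, the involutions lie in that
subgroup -/
theorem mem_of_sq (V N : Subgroup G) (hVN : V ≤ N)
    (hnorm : ∀ g ∈ N, ∀ v ∈ V, g * v * g⁻¹ ∈ V)
    (hV : Nat.card V = 4) (hN : Nat.card N = 12) (s : G) (hs : s ∈ N) (hs2 : s * s = 1) :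
    s ∈ V := by
  have hnormal : (V.subgroupOf N).Normal := by
    refine ⟨fun n hn g => ?_⟩
    rw [Subgroup.mem_subgroupOf] at hn ⊢
    exact hnorm g.1 g.2 n.1 hn
  have hcardV' : Nat.card (V.subgroupOf N) = 4 := by
    rw [Nat.card_congr (Subgroup.subgroupOfEquivOfLe hVN).toEquiv, hV]
  have hq : Nat.card (N ⧸ V.subgroupOf N) = 3 := by
    have := Subgroup.card_eq_card_quotient_mul_card_subgroup (V.subgroupOf N)
    rw [hN, hcardV'] at this
    omega
  set q : N ⧸ V.subgroupOf N := QuotientGroup.mk ⟨s, hs⟩ with hqdef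
  have hq2 : q ^ 2 = 1 := by
    rw [hqdef, ← QuotientGroup.mk_pow]
    have : (⟨s, hs⟩ : N) ^ 2 = 1 := by
      apply Subtype.ext
      rw [pow_two]
      exact hs2
    rw [this]; rfl
  have hq3 : q ^ 3 = 1 := by
    have := pow_card_eq_one' (G := N ⧸ V.subgroupOf N) (x := q)
    rwa [hq] at this
  have hq1 : q = 1 := by
    calc q = q ^ 3 * (q ^ 2)⁻¹ := by group
      _ = 1 := by rw [hq2, hq3]; simp
  have := (QuotientGroup.eq_one_iff (⟨s, hs⟩ : N)).mp hq1
  exact Subgroup.mem_subgroupOf.mp this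

/-- no involution of `N` inverts an element of order three of `N` -/
theorem no_invert (V N : Subgroup G) (hVN : V ≤ N)
    (hnorm : ∀ g ∈ N, ∀ v ∈ V, g * v * g⁻¹ ∈ V)
    (hV : Nat.card V = 4) (hN : Nat.card N = 12) (b s : G) (hb : b ∈ N) (hs : s ∈ N)
    (hb3 : b * b * b = 1) (hb1 : b ≠ 1) (hs2 : s * s = 1) (hinv : s * b * s⁻¹ = b⁻¹) :
    False := by
  have hsV := mem_of_sq V N hVN hnorm hV hN s hs hs2
  have h1 := hnorm b hb s hsV
  -- `b s b⁻¹ = b² s`
  have hsb : s * b = b⁻¹ * s := by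
    rw [← hinv]; group
  have h2 : b * s * b⁻¹ = b * b * s := by
    have : s * b⁻¹ = b * s := by
      calc s * b⁻¹ = b * (b⁻¹ * s) * b⁻¹ := by group
        _ = b * (s * b) * b⁻¹ := by rw [hsb]
        _ = b * s := by group
    rw [mul_assoc, this, ← mul_assoc]
  rw [h2] at h1
  have h3 : b * b ∈ V := by
    have := V.mul_mem h1 (V.inv_mem hsV)
    rwa [mul_inv_cancel_right] at this
  have h4 : b ∈ V := by
    have := V.mul_mem h3 h3
    have e : b * b * (b * b) = b := by
      calc b * b * (b * b) = (b * b * b) * b := by group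
        _ = b := by rw [hb3, one_mul]
    rwa [e] at this
  have h5 : (⟨b, h4⟩ : V) ^ 4 = 1 := by
    have := pow_card_eq_one' (G := V) (x := ⟨b, h4⟩)
    rwa [hV] at this
  have h6 : b ^ 4 = 1 := by
    have := congrArg Subtype.val h5
    simpa using this
  apply hb1
  calc b = b ^ 4 * (b * b * b)⁻¹ := by group
    _ = 1 := by rw [h6, hb3]; simp

end

section main

variable {G : Type*} [Group G] [Finite G]

attribute [local instance] conjAction

theorem smul_eq_conj (g : G) (H : Subgroup G) : g • H = MulAut.conj g • H := rfl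

/-- the normalizer of a Klein four-subgroup has order 12 -/
theorem card_stab (hG : Nat.card G = 660)
    (hK : Nat.card {V : Subgroup G // IsKleinFour V} = 55)
    (hconj : ∀ V W : Subgroup G, IsKleinFour V → IsKleinFour W →
      ∃ g : G, W = MulAut.conj g • V)
    (V0 : Subgroup G) (hV0 : IsKleinFour V0) :
    Nat.card (MulAction.stabilizer G V0) = 12 := by
  have horb : MulAction.orbit G V0 = {V : Subgroup G | IsKleinFour V} := by
    ext V
    constructor
    · rintro ⟨g, rfl⟩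
      exact isKleinFour_of_mulEquiv (Subgroup.equivSMul (MulAut.conj g) V0) hV0
    · intro hV
      obtain ⟨g, hg⟩ := hconj V0 V hV0 hV
      exact ⟨g, hg.symm⟩
  have h1 := MulAction.index_stabilizer G V0
  rw [horb] at h1
  have h2 : ({V : Subgroup G | IsKleinFour V}).ncard = 55 := by
    rw [← Nat.card_coe_set_eq]; exact hK
  rw [h2] at h1
  have h3 := (MulAction.stabilizer G V0).card_mul_index
  rw [h1, hG] at h3
  omega

/-- at most two subgroups isomorphic to `A₅` contain a given Klein four-subgroup -/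
theorem at_most_two (hG : Nat.card G = 660)
    (hK : Nat.card {V : Subgroup G // IsKleinFour V} = 55)
    (hconj : ∀ V W : Subgroup G, IsKleinFour V → IsKleinFour W →
      ∃ g : G, W = MulAut.conj g • V)
    (hC : ∀ b : G, b * b * b = 1 → b ≠ 1 →
      Nat.card (Subgroup.centralizer ({b} : Set G)) = 6)
    (V0 : Subgroup G) (hV0 : IsKleinFour V0) (H1 H2 H3 : Subgroup G)
    (e1 : H1 ≃* alternatingGroup (Fin 5)) (e2 : H2 ≃* alternatingGroup (Fin 5))
    (e3 : H3 ≃* alternatingGroup (Fin 5))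
    (h1 : V0 ≤ H1) (h2 : V0 ≤ H2) (h3 : V0 ≤ H3)
    (h12 : H1 ≠ H2) (h13 : H1 ≠ H3) (h23 : H2 ≠ H3) : False := by
  classical
  set N := MulAction.stabilizer G V0 with hNdef
  have hNcard : Nat.card N = 12 := card_stab hG hK hconj V0 hV0
  have hV0card : Nat.card V0 = 4 := hV0.card_four
  have hstab : ∀ g ∈ N, MulAut.conj g • V0 = V0 := fun g hg => hg
  have hVN : V0 ≤ N := by
    intro v hv
    show MulAut.conj v • V0 = V0
    exact Subgroup.conj_smul_eq_self_of_mem hv
  have hnorm : ∀ g ∈ N, ∀ v ∈ V0, g * v * g⁻¹ ∈ V0 := by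
    intro g hg v hv
    have := Subgroup.smul_mem_pointwise_smul v (MulAut.conj g) V0 hv
    rw [hstab g hg] at this
    simpa [MulAut.smul_def, MulAut.conj_apply] using this
  have hNle : ∀ (H : Subgroup G) (e : H ≃* alternatingGroup (Fin 5)), V0 ≤ H → N ≤ H := by
    intro H e hVH g hg
    apply mem_of_klein_le H e hG hK hconj V0 hV0 hVH g
    calc V0 = MulAut.conj g • V0 := (hstab g hg).symm
      _ ≤ MulAut.conj g • H := Subgroup.pointwise_smul_le_pointwise_smul_iff.mpr hVH
  -- an element of order three in `N`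
  have : Fact (Nat.Prime 3) := ⟨by norm_num⟩
  obtain ⟨b, hb⟩ := exists_prime_orderOf_dvd_card' (G := N) 3 (by rw [hNcard]; norm_num)
  have hb3 : (b : G) * b * b = 1 := by
    have h : b ^ 3 = 1 := by rw [← hb]; exact pow_orderOf_eq_one b
    have := congrArg Subtype.val h
    simpa [pow_succ] using this
  have hb1 : (b : G) ≠ 1 := by
    intro h
    have : b = 1 := Subtype.ext h
    rw [this, orderOf_one] at hb
    norm_num at hb
  have hbN : (b : G) ∈ N := b.2
  -- intersections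
  have hinter : ∀ (H H' : Subgroup G) (e : H ≃* alternatingGroup (Fin 5))
      (e' : H' ≃* alternatingGroup (Fin 5)), V0 ≤ H → V0 ≤ H' → H ≠ H' → H ⊓ H' = N := by
    intro H H' e e' hV hV' hne
    have hle : N ≤ H ⊓ H' := le_inf (hNle H e hV) (hNle H' e' hV')
    symm
    apply Subgroup.eq_of_le_of_card_ge hle
    have d1 : Nat.card N ∣ Nat.card (H ⊓ H' : Subgroup G) := Subgroup.card_dvd_of_le hle
    have d2 : Nat.card (H ⊓ H' : Subgroup G) ∣ Nat.card H :=
      Subgroup.card_dvd_of_le inf_le_left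
    rw [hNcard] at d1
    rw [card_of_A5 e] at d2
    have hne60 : Nat.card (H ⊓ H' : Subgroup G) ≠ 60 := by
      intro h60
      have hH : H ⊓ H' = H :=
        Subgroup.eq_of_le_of_card_ge inf_le_left (by rw [h60, card_of_A5 e])
      have hH' : H ⊓ H' = H' :=
        Subgroup.eq_of_le_of_card_ge inf_le_right (by rw [h60, card_of_A5 e'])
      exact hne (hH.symm.trans hH')
    rw [hNcard]
    obtain ⟨k, hk⟩ := d1
    rw [hk] at d2 hne60 ⊢
    have hk5 : k ∣ 5 := by
      have : 12 * k ∣ 12 * 5 := d2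
      exact Nat.dvd_of_mul_dvd_mul_left (by norm_num) this
    have : k = 1 ∨ k = 5 := (Nat.dvd_prime (by norm_num)).mp hk5
    rcases this with rfl | rfl <;> omega
  -- inverting involutions
  obtain ⟨s1, hs1H, hs1sq, hs1b⟩ := exists_invert H1 e1 b (hNle H1 e1 h1 hbN) hb3 hb1
  obtain ⟨s2, hs2H, hs2sq, hs2b⟩ := exists_invert H2 e2 b (hNle H2 e2 h2 hbN) hb3 hb1
  obtain ⟨s3, hs3H, hs3sq, hs3b⟩ := exists_invert H3 e3 b (hNle H3 e3 h3 hbN) hb3 hb1
  have hzN : Subgroup.zpowers (b : G) ≤ N := (Subgroup.zpowers_le).mpr hbN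
  have key : ∀ (H H' : Subgroup G) (e : H ≃* alternatingGroup (Fin 5))
      (e' : H' ≃* alternatingGroup (Fin 5)), V0 ≤ H → V0 ≤ H' → H ≠ H' →
      ∀ s ∈ H, ∀ s' ∈ H', s' * s' = 1 → s' * (b : G) * s'⁻¹ = (b : G)⁻¹ →
      s⁻¹ * s' ∉ Subgroup.zpowers (b : G) := by
    intro H H' e e' hV hV' hne s hs s' hs' hsq hinv hmem
    have hs'H : s' ∈ H := by
      have := H.mul_mem hs (hNle H e hV (hzN hmem))
      rwa [mul_inv_cancel_left] at this
    have hs'N : s' ∈ N := by
      rw [← hinter H H' e e' hV hV' hne]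
      exact ⟨hs'H, hs'⟩
    exact no_invert V0 N hVN hnorm hV0card hNcard b s' hbN hs'N hb3 hb1 hsq hinv
  -- the centralizer of `b`
  set C := Subgroup.centralizer ({(b : G)} : Set G) with hCdef
  have hCcard : Nat.card C = 6 := hC b hb3 hb1
  have hBC : Subgroup.zpowers (b : G) ≤ C := by
    rw [Subgroup.zpowers_le, hCdef, Subgroup.mem_centralizer_iff]
    intro h hh
    rw [Set.mem_singleton_iff] at hh
    rw [hh]
  have hBcard : Nat.card (Subgroup.zpowers (b : G)) = 3 := by
    rw [Nat.card_zpowers, Subgroup.orderOf_coe, hb]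
  have hidx : ((Subgroup.zpowers (b : G)).subgroupOf C).index = 2 := by
    have h := ((Subgroup.zpowers (b : G)).subgroupOf C).card_mul_index
    rw [Nat.card_congr (Subgroup.subgroupOfEquivOfLe hBC).toEquiv, hBcard, hCcard] at h
    omega
  have hmemC : ∀ s s' : G, s * (b : G) * s⁻¹ = (b : G)⁻¹ → s' * (b : G) * s'⁻¹ = (b : G)⁻¹ →
      s⁻¹ * s' ∈ C := by
    intro s s' hs hs'
    rw [hCdef, Subgroup.mem_centralizer_iff]
    intro h hh
    rw [Set.mem_singleton_iff] at hh
    rw [hh]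
    have e1 : s' * (b : G) = (b : G)⁻¹ * s' := by rw [← hs']; group
    have e2 : s⁻¹ * (b : G)⁻¹ = (b : G) * s⁻¹ := by
      have : (b : G)⁻¹ = s * (b : G) * s⁻¹ := hs.symm
      rw [this]; group
    calc (b : G) * (s⁻¹ * s') = ((b : G) * s⁻¹) * s' := by group
      _ = (s⁻¹ * (b : G)⁻¹) * s' := by rw [e2]
      _ = s⁻¹ * ((b : G)⁻¹ * s') := by group
      _ = s⁻¹ * (s' * (b : G)) := by rw [e1]
      _ = s⁻¹ * s' * (b : G) := by group
  have k12 := key H1 H2 e1 e2 h1 h2 h12 s1 hs1H s2 hs2H hs2sq hs2b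
  have k13 := key H1 H3 e1 e3 h1 h3 h13 s1 hs1H s3 hs3H hs3sq hs3b
  have k23 := key H2 H3 e2 e3 h2 h3 h23 s2 hs2H s3 hs3H hs3sq hs3b
  set x : C := ⟨s1⁻¹ * s2, hmemC s1 s2 hs1b hs2b⟩ with hx
  set y : C := ⟨s1⁻¹ * s3, hmemC s1 s3 hs1b hs3b⟩ with hy
  have hx' : x⁻¹ ∉ (Subgroup.zpowers (b : G)).subgroupOf C := by
    rw [inv_mem_iff, Subgroup.mem_subgroupOf]
    exact k12
  have hy' : y ∉ (Subgroup.zpowers (b : G)).subgroupOf C := by
    rw [Subgroup.mem_subgroupOf]
    exact k13
  have hxy : x⁻¹ * y ∈ (Subgroup.zpowers (b : G)).subgroupOf C := by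
    rw [Subgroup.mul_mem_iff_of_index_two hidx]
    exact ⟨fun h => absurd h hx', fun h => absurd h hy'⟩
  rw [Subgroup.mem_subgroupOf] at hxy
  apply k23
  have : ((x⁻¹ * y : C) : G) = s2⁻¹ * s3 := by
    rw [hx, hy]
    simp only [Subgroup.coe_mul, Subgroup.coe_inv]
    group
  rwa [this] at hxy

/-- a group isomorphic to `A₅` contains a Klein four-subgroup -/
theorem exists_klein_le (H : Subgroup G) (e : H ≃* alternatingGroup (Fin 5)) :
    ∃ V : Subgroup G, IsKleinFour V ∧ V ≤ H := by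
  have h5 : Nat.card {V : Subgroup G // IsKleinFour V ∧ V ≤ H} = 5 := by
    rw [card_klein_le]
    exact card_klein_A5 e
  have : Nonempty {V : Subgroup G // IsKleinFour V ∧ V ≤ H} := by
    by_contra h
    rw [not_nonempty_iff] at h
    rw [Nat.card_of_isEmpty] at h5
    omega
  obtain ⟨V, hV⟩ := this
  exact ⟨V, hV⟩

/-- the count of subgroups isomorphic to `A₅` and their two conjugacy classes -/
theorem main (hG : Nat.card G = 660)
    (hK : Nat.card {V : Subgroup G // IsKleinFour V} = 55)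
    (hconj : ∀ V W : Subgroup G, IsKleinFour V → IsKleinFour W →
      ∃ g : G, W = MulAut.conj g • V)
    (hC : ∀ b : G, b * b * b = 1 → b ≠ 1 →
      Nat.card (Subgroup.centralizer ({b} : Set G)) = 6)
    (hex : ∃ H1 H2 : Subgroup G, Nonempty (H1 ≃* alternatingGroup (Fin 5)) ∧
      Nonempty (H2 ≃* alternatingGroup (Fin 5)) ∧ H1 ≠ H2 ∧
      ∃ V : Subgroup G, IsKleinFour V ∧ V ≤ H1 ∧ V ≤ H2) :
    Nat.card {H : Subgroup G // Nonempty (H ≃* alternatingGroup (Fin 5))} = 22 ∧
    ∃ H K : Subgroup G, Nonempty (H ≃* alternatingGroup (Fin 5)) ∧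
      Nonempty (K ≃* alternatingGroup (Fin 5)) ∧ (∀ g : G, MulAut.conj g • H ≠ K) ∧
      ∀ L : Subgroup G, Nonempty (L ≃* alternatingGroup (Fin 5)) →
        ∃ g : G, MulAut.conj g • L = H ∨ MulAut.conj g • L = K := by
  classical
  obtain ⟨H1, H2, ⟨e1⟩, ⟨e2⟩, hne, V0, hV0, hV1, hV2⟩ := hex
  -- conjugates of `A₅` are `A₅`
  have hiso : ∀ (L : Subgroup G) (g : G), L ≃* alternatingGroup (Fin 5) →
      (MulAut.conj g • L : Subgroup G) ≃* alternatingGroup (Fin 5) :=
    fun L g eL => (Subgroup.equivSMul (MulAut.conj g) L).symm.trans eL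
  -- stabilizers
  have hstab : ∀ (H : Subgroup G) (e : H ≃* alternatingGroup (Fin 5)) (g : G),
      MulAut.conj g • H = H → g ∈ H := by
    intro H e g hg
    obtain ⟨V, hV, hVH⟩ := exists_klein_le H e
    apply mem_of_klein_le H e hG hK hconj V hV hVH g
    rw [hg]; exact hVH
  -- every copy is conjugate to one of the two
  have hall : ∀ L : Subgroup G, Nonempty (L ≃* alternatingGroup (Fin 5)) →
      ∃ g : G, MulAut.conj g • L = H1 ∨ MulAut.conj g • L = H2 := by
    rintro L ⟨eL⟩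
    obtain ⟨V, hV, hVL⟩ := exists_klein_le L eL
    obtain ⟨g, hg⟩ := hconj V V0 hV hV0
    refine ⟨g, ?_⟩
    by_contra hcon
    push Not at hcon
    have hV0L : V0 ≤ MulAut.conj g • L := by
      rw [hg]
      exact Subgroup.pointwise_smul_le_pointwise_smul_iff.mpr hVL
    exact at_most_two hG hK hconj hC V0 hV0 H1 H2 (MulAut.conj g • L) e1 e2 (hiso L g eL)
      hV1 hV2 hV0L hne (fun h => hcon.1 h.symm) (fun h => hcon.2 h.symm)
  -- the two are not conjugate
  have hnc : ∀ g : G, MulAut.conj g • H1 ≠ H2 := by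
    intro g hg
    have hgH : g ∈ H1 := by
      apply mem_of_klein_le H1 e1 hG hK hconj V0 hV0 hV1 g
      rw [hg]; exact hV2
    rw [Subgroup.conj_smul_eq_self_of_mem hgH] at hg
    exact hne hg
  refine ⟨?_, H1, H2, ⟨e1⟩, ⟨e2⟩, hnc, hall⟩
  -- the count
  have hstabeq : ∀ (H : Subgroup G) (e : H ≃* alternatingGroup (Fin 5)),
      MulAction.stabilizer G H = H := by
    intro H e
    ext g
    rw [MulAction.mem_stabilizer_iff]
    constructor
    · intro hg
      exact hstab H e g hg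
    · intro hg
      exact Subgroup.conj_smul_eq_self_of_mem hg
  have horb : ∀ (H : Subgroup G) (e : H ≃* alternatingGroup (Fin 5)),
      (MulAction.orbit G H).ncard = 11 := by
    intro H e
    rw [← MulAction.index_stabilizer, hstabeq H e]
    have := H.card_mul_index
    rw [card_of_A5 e, hG] at this
    omega
  have hset : {H : Subgroup G | Nonempty (H ≃* alternatingGroup (Fin 5))} =
      MulAction.orbit G H1 ∪ MulAction.orbit G H2 := by
    ext L
    constructor
    · intro hL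
      obtain ⟨g, hg | hg⟩ := hall L hL
      · left
        refine ⟨g⁻¹, ?_⟩
        show MulAut.conj g⁻¹ • H1 = L
        rw [← hg, map_inv, inv_smul_smul]
      · right
        refine ⟨g⁻¹, ?_⟩
        show MulAut.conj g⁻¹ • H2 = L
        rw [← hg, map_inv, inv_smul_smul]
    · rintro (⟨g, rfl⟩ | ⟨g, rfl⟩)
      · exact ⟨hiso H1 g e1⟩
      · exact ⟨hiso H2 g e2⟩
  have hdisj : Disjoint (MulAction.orbit G H1) (MulAction.orbit G H2) := by
    rw [Set.disjoint_left]
    rintro L ⟨g1, hg1⟩ ⟨g2, hg2⟩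
    apply hnc (g2⁻¹ * g1)
    have h1 : MulAut.conj g1 • H1 = L := hg1
    have h2 : MulAut.conj g2 • H2 = L := hg2
    rw [map_mul, mul_smul, h1, ← h2, map_inv, inv_smul_smul]
  have hcard : Nat.card {H : Subgroup G // Nonempty (H ≃* alternatingGroup (Fin 5))} =
      ({H : Subgroup G | Nonempty (H ≃* alternatingGroup (Fin 5))}).ncard :=
    Nat.card_coe_set_eq _
  rw [hcard, hset, Set.ncard_union_eq hdisj]
  rw [horb H1 e1, horb H2 e2]

end main

end Cfsg.Agent.Lib.Helper42_A5Count
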