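import Mathlib
import Cfsg.Agent.Lib.Helper21_AltFusDefs

/-!
# S5165 package AF-HCONJ (helper42, for architect helper21)

`hc ι c = bp ι (diag (c, c⁻¹))` is a product of `N(QQ) ∩ Alt`-conjugates of elements of `BB`
normalizing `QQ`:
`dg c = shear c * shearL (-c⁻¹) * shear c * shear (-1) * shearL 1 * shear (-1)` and
`shearL (-a) = rot3 * shear a * rot3⁻¹`, `rot3 ^ 3 = 1`.
-/

set_option autoImplicit false
set_option linter.unusedSectionVars false
set_option linter.unusedVariables false

open Equiv Equiv.Perm Cfsg.Agent.Lib.Helper67_SymSylow Cfsg.Agent.Lib.Helper21_AltFusDefs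

namespace Cfsg.Agent.Lib.Helper42_AF_HCONJ

variable {p : ℕ} [Fact p.Prime] {ℬ : Type} [Fintype ℬ] [DecidableEq ℬ] {r : ℕ}

/-! ### computations in the plane -/

theorem shX_apply (a : ZMod p) (v : ZMod p × ZMod p) : shX p a v = (v.1 + a, v.2) := rfl
theorem shY_apply (b : ZMod p) (v : ZMod p × ZMod p) : shY p b v = (v.1, v.2 + b) := rfl
theorem shear_apply (a : ZMod p) (v : ZMod p × ZMod p) : shear p a v = (v.1 + a * v.2, v.2) := rfl
theorem shearL_apply (b : ZMod p) (v : ZMod p × ZMod p) :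
    shearL p b v = (v.1, v.2 + b * v.1) := rfl
theorem dg_apply (c : (ZMod p)ˣ) (v : ZMod p × ZMod p) :
    dg p c v = ((c : ZMod p) * v.1, ((c⁻¹ : (ZMod p)ˣ) : ZMod p) * v.2) := rfl
theorem rot3_apply (v : ZMod p × ZMod p) : rot3 p v = (-v.2, v.1 - v.2) := rfl
theorem rot3_inv_apply (v : ZMod p × ZMod p) : (rot3 p)⁻¹ v = (v.2 - v.1, -v.1) := rfl

/-- `diag (c, c⁻¹)` as a product of six transvections -/
theorem dg_eq (c : (ZMod p)ˣ) :
    dg p c = shear p (c : ZMod p) * shearL p (-((c⁻¹ : (ZMod p)ˣ) : ZMod p)) * shear p (c : ZMod p) *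
      shear p (-1) * shearL p 1 * shear p (-1) := by
  have hcd : (c : ZMod p) * ((c⁻¹ : (ZMod p)ˣ) : ZMod p) = 1 := by
    rw [← Units.val_mul, mul_inv_cancel, Units.val_one]
  ext v
  · simp only [Perm.mul_apply, shear_apply, shearL_apply, dg_apply]
    linear_combination ((c : ZMod p) * v.1 - v.2) * hcd
  · simp only [Perm.mul_apply, shear_apply, shearL_apply, dg_apply]
    linear_combination v.1 * hcd

/-- lower transvections are `rot3`-conjugates of upper transvections -/
theorem shearL_eq (b : ZMod p) : shearL p b = rot3 p * shear p (-b) * (rot3 p)⁻¹ := by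
  ext v
  · simp only [Perm.mul_apply, shear_apply, shearL_apply, rot3_apply, rot3_inv_apply]
    ring
  · simp only [Perm.mul_apply, shear_apply, shearL_apply, rot3_apply, rot3_inv_apply]
    ring

theorem rot3_pow_three : (rot3 p) ^ 3 = 1 := by
  ext v
  · simp only [pow_succ, pow_zero, one_mul, Perm.mul_apply, rot3_apply, Perm.one_apply]
    ring
  · simp only [pow_succ, pow_zero, one_mul, Perm.mul_apply, rot3_apply, Perm.one_apply]
    ring

theorem shear_add (a : ZMod p) (v w : ZMod p × ZMod p) :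
    shear p a (v + w) = shear p a v + shear p a w := by
  ext
  · simp only [shear_apply, Prod.fst_add, Prod.snd_add]; ring
  · simp only [shear_apply, Prod.snd_add]

theorem rot3_add (v w : ZMod p × ZMod p) : rot3 p (v + w) = rot3 p v + rot3 p w := by
  ext
  · simp only [rot3_apply, Prod.fst_add, Prod.snd_add]; ring
  · simp only [rot3_apply, Prod.fst_add, Prod.snd_add]; ring

/-- the translation by `(a, b)` -/
theorem shXY_apply (a b : ZMod p) (v : ZMod p × ZMod p) :
    (shX p a * shY p b) v = v + (a, b) := by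
  ext
  · simp only [Perm.mul_apply, shX_apply, shY_apply, Prod.fst_add]
  · simp only [Perm.mul_apply, shX_apply, shY_apply, Prod.snd_add]

/-- conjugating a translation by an additive permutation -/
theorem conj_shXY (e : Perm (ZMod p × ZMod p)) (he : ∀ v w, e (v + w) = e v + e w)
    (a b : ZMod p) :
    e * (shX p a * shY p b) * e⁻¹ = shX p (e (a, b)).1 * shY p (e (a, b)).2 := by
  ext v : 1
  have h1 : e (e⁻¹ v) = v := e.apply_symm_apply v
  rw [Perm.mul_apply, Perm.mul_apply, shXY_apply, shXY_apply, he, h1]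

theorem shX_zero : shX p 0 = 1 := by
  ext v
  · simp only [shX_apply, add_zero, Perm.one_apply]
  · simp only [shX_apply, Perm.one_apply]

theorem shY_zero : shY p 0 = 1 := by
  ext v
  · simp only [shY_apply, Perm.one_apply]
  · simp only [shY_apply, add_zero, Perm.one_apply]

theorem shY_natCast (n : ℕ) : shY p (n : ZMod p) = (shY p 1) ^ n := by
  induction n with
  | zero => rw [Nat.cast_zero, shY_zero, pow_zero]
  | succ n ih =>
    rw [pow_succ, ← ih]
    ext v
    · simp only [Perm.mul_apply, shY_apply]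
    · simp only [Perm.mul_apply, shY_apply, Nat.cast_succ]; ring

/-! ### block elements in wreath coordinates -/

/-- a permutation of the plane translating each line `y = const` is, on the `p²`-block, a
translation of the base group -/
theorem bp_eq_tr (ι : ZMod p ↪ ℬ) (e : Perm (ZMod p × ZMod p)) (g : ZMod p → ZMod p)
    (he : ∀ v, e v = (v.1 + g v.2, v.2)) :
    bp r ι e = tr p ℬ r (Multiplicative.ofAdd
      (fun β => by classical exact if h : ∃ y, ι y = β then g h.choose else 0)) := by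
  classical
  ext ω
  rcases ω with ⟨β, x⟩ | i
  · by_cases h : ∃ y, ι y = β
    · obtain ⟨y, rfl⟩ := h
      have hsq : (Sum.inl (ι y, x) : Pt p ℬ r) = sq r ι (x, y) := rfl
      have hch : ∀ h' : ∃ y', ι y' = ι y, h'.choose = y := fun h' => ι.injective h'.choose_spec
      rw [hsq, bp_sq, he, sq_apply, sq_apply, tr_inl]
      simp only [toAdd_ofAdd]
      rw [dif_pos ⟨y, rfl⟩, hch]
    · rw [bp_of_notMem, tr_inl]
      · simp only [toAdd_ofAdd]
        rw [dif_neg h, add_zero]
      · rintro ⟨v, hv⟩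
        rw [sq_apply] at hv
        exact h ⟨v.2, congrArg Prod.fst (Sum.inl_injective hv)⟩
  · rw [bp_of_notMem, tr_inr]
    rintro ⟨v, hv⟩
    rw [sq_apply] at hv
    exact Sum.inl_ne_inr hv

/-- `bp (shX a)` lies in the image of the vectors constant on `range ι` (AF-HFORM `bp_shX`) -/
theorem bp_shX_mem (ι : ZMod p ↪ ℬ) (a : ZMod p) :
    bp r ι (shX p a) ∈ (VQ ι).map (tr p ℬ r) := by
  classical
  rw [bp_eq_tr ι (shX p a) (fun _ => a) (fun v => rfl)]
  refine Subgroup.mem_map_of_mem _ ?_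
  intro y y'
  simp only [toAdd_ofAdd]
  rw [dif_pos ⟨y, rfl⟩, dif_pos ⟨y', rfl⟩]

/-- `bp (shear a)` lies in the base group (AF-HFORM `bp_shear`) -/
theorem bp_shear_mem (ι : ZMod p ↪ ℬ) (a : ZMod p) : bp r ι (shear p a) ∈ BB p ℬ r := by
  rw [bp_eq_tr ι (shear p a) (fun y => a * y) (fun v => rfl)]
  exact ⟨_, rfl⟩

theorem bp_shY_mem (ι : ZMod p ↪ ℬ) (b : ZMod p) :
    bp r ι (shY p b) ∈ Subgroup.zpowers (tau r ι) := by
  have hb : b = ((b.val : ℕ) : ZMod p) := (ZMod.natCast_zmod_val b).symm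
  rw [hb, shY_natCast, map_pow]
  exact Subgroup.pow_mem _ (Subgroup.mem_zpowers _) _

/-- translations of the `p²`-block lie in `QQ` -/
theorem bp_shXY_mem (ι : ZMod p ↪ ℬ) (a b : ZMod p) :
    bp r ι (shX p a * shY p b) ∈ QQ r ι := by
  rw [map_mul]
  exact Subgroup.mul_mem_sup (bp_shX_mem ι a) (bp_shY_mem ι b)

/-- conjugates of translations of the `p²`-block by additive permutations lie in `QQ` -/
theorem bp_conj_shXY_mem (ι : ZMod p ↪ ℬ) (e : Perm (ZMod p × ZMod p))
    (he : ∀ v w, e (v + w) = e v + e w) (a b : ZMod p) :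
    bp r ι e * bp r ι (shX p a * shY p b) * (bp r ι e)⁻¹ ∈ QQ r ι := by
  rw [← map_inv, ← map_mul, ← map_mul, conj_shXY e he]
  exact bp_shXY_mem ι _ _

theorem nz_QQ_bp_linear (ι : ZMod p ↪ ℬ) (e : Perm (ZMod p × ZMod p))
    (he : ∀ v w, e (v + w) = e v + e w) : Nz (QQ r ι) (bp r ι e) := by
  classical
  have hle : QQ r ι ≤ (QQ r ι).comap (MulAut.conj (bp r ι e)).toMonoidHom := by
    refine sup_le ?_ ?_
    · rintro k ⟨f, hf, rfl⟩
      show bp r ι e * tr p ℬ r f * (bp r ι e)⁻¹ ∈ QQ r ι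
      -- split `f` into the part off `range ι` and the constant part on `range ι`
      set a : ZMod p := Multiplicative.toAdd f (ι 0) with ha
      set f₀ : Multiplicative (ℬ → ZMod p) := Multiplicative.ofAdd
        (fun β => if ∃ y, ι y = β then 0 else Multiplicative.toAdd f β) with hf₀
      set fa : Multiplicative (ℬ → ZMod p) := Multiplicative.ofAdd
        (fun β => if h : ∃ y, ι y = β then (fun _ : ZMod p => a) h.choose else 0) with hfa
      have hsplit : f = f₀ * fa := by
        apply Multiplicative.toAdd.injective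
        funext β
        show Multiplicative.toAdd f β =
          (if ∃ y, ι y = β then 0 else Multiplicative.toAdd f β) +
            (if h : ∃ y, ι y = β then (fun _ : ZMod p => a) h.choose else 0)
        by_cases h : ∃ y, ι y = β
        · rw [if_pos h, dif_pos h, zero_add]
          obtain ⟨y, rfl⟩ := h
          exact hf y 0
        · rw [if_neg h, dif_neg h, add_zero]
      have hbp : bp r ι (shX p a) = tr p ℬ r fa := by
        rw [bp_eq_tr ι (shX p a) (fun _ => a) (fun v => rfl)]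
      have hdisj : Perm.Disjoint (bp r ι e) (tr p ℬ r f₀) := by
        intro ω
        by_cases hω : ω ∈ Set.range (sq r ι)
        · right
          obtain ⟨v, rfl⟩ := hω
          rw [sq_apply, tr_inl]
          simp only [hf₀, toAdd_ofAdd]
          rw [if_pos ⟨v.2, rfl⟩, add_zero]
        · left
          exact bp_of_notMem r ι e ω hω
      have hf₀mem : tr p ℬ r f₀ ∈ QQ r ι := by
        refine Subgroup.mem_sup_left (Subgroup.mem_map_of_mem _ ?_)
        intro y y'
        simp only [hf₀, toAdd_ofAdd]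
        rw [if_pos ⟨y, rfl⟩, if_pos ⟨y', rfl⟩]
      have hconj : bp r ι e * tr p ℬ r f * (bp r ι e)⁻¹ =
          tr p ℬ r f₀ * (bp r ι e * bp r ι (shX p a * shY p 0) * (bp r ι e)⁻¹) := by
        rw [hsplit, map_mul, ← hbp, shY_zero, mul_one, ← mul_assoc, hdisj.commute.eq]
        simp only [mul_assoc]
      rw [hconj]
      exact Subgroup.mul_mem _ hf₀mem (bp_conj_shXY_mem ι e he a 0)
    · rw [Subgroup.zpowers_le]
      show bp r ι e * tau r ι * (bp r ι e)⁻¹ ∈ QQ r ι
      have : tau r ι = bp r ι (shX p 0 * shY p 1) := by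
        rw [shX_zero, one_mul]; rfl
      rw [this]
      exact bp_conj_shXY_mem ι e he 0 1
  exact fun k hk => hle hk

/-! ### `hc` as a product of conjugates -/

theorem nz_one {A : Type*} [Group A] (K : Subgroup A) : Nz K (1 : A) := by
  intro k hk
  simpa using hk

theorem bp_rot3_mem_alt (ι : ZMod p ↪ ℬ) : bp r ι (rot3 p) ∈ alternatingGroup (Pt p ℬ r) := by
  rw [Equiv.Perm.mem_alternatingGroup]
  have h3 : (bp r ι (rot3 p)) ^ 3 = 1 := by rw [← map_pow, rot3_pow_three, map_one]
  have hs : (sign (bp r ι (rot3 p))) ^ 3 = 1 := by rw [← map_pow, h3, map_one]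
  rcases Int.units_eq_one_or (sign (bp r ι (rot3 p))) with h | h
  · exact h
  · rw [h] at hs
    exact absurd hs (by decide)

theorem hc_mem_closure (ι : ZMod p ↪ ℬ) (c : (ZMod p)ˣ) :
    hc r ι c ∈ Subgroup.closure {z : Perm (Pt p ℬ r) | ∃ m : Perm (Pt p ℬ r),
      m ∈ alternatingGroup (Pt p ℬ r) ∧ Nz (QQ r ι) m ∧
      ∃ s ∈ BB p ℬ r, Nz (QQ r ι) s ∧ z = m * s * m⁻¹} := by
  set S : Set (Perm (Pt p ℬ r)) := {z : Perm (Pt p ℬ r) | ∃ m : Perm (Pt p ℬ r),
      m ∈ alternatingGroup (Pt p ℬ r) ∧ Nz (QQ r ι) m ∧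
      ∃ s ∈ BB p ℬ r, Nz (QQ r ι) s ∧ z = m * s * m⁻¹} with hS
  have hA : ∀ a : ZMod p, bp r ι (shear p a) ∈ Subgroup.closure S := by
    intro a
    refine Subgroup.subset_closure ⟨1, Subgroup.one_mem _, nz_one _, bp r ι (shear p a),
      bp_shear_mem ι a, nz_QQ_bp_linear ι _ (shear_add a), ?_⟩
    rw [one_mul, inv_one, mul_one]
  have hB : ∀ b : ZMod p, bp r ι (shearL p b) ∈ Subgroup.closure S := by
    intro b
    refine Subgroup.subset_closure ⟨bp r ι (rot3 p), bp_rot3_mem_alt ι,
      nz_QQ_bp_linear ι _ rot3_add, bp r ι (shear p (-b)),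
      bp_shear_mem ι (-b), nz_QQ_bp_linear ι _ (shear_add (-b)), ?_⟩
    rw [shearL_eq, map_mul, map_mul, map_inv]
  show bp r ι (dg p c) ∈ Subgroup.closure S
  rw [dg_eq, map_mul, map_mul, map_mul, map_mul, map_mul]
  exact Subgroup.mul_mem _ (Subgroup.mul_mem _ (Subgroup.mul_mem _ (Subgroup.mul_mem _
    (Subgroup.mul_mem _ (hA _) (hB _)) (hA _)) (hA _)) (hB _)) (hA _)

end Cfsg.Agent.Lib.Helper42_AF_HCONJ
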