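import Mathlib

set_option autoImplicit false

namespace Cfsg.Agent.Lib.Helper42_AbelianPerm

open Equiv MulAction

/-! ### Restriction of an abelian permutation group to the complement of an orbit -/

section Reduce

variable {Ω : Type*} [DecidableEq Ω] [Fintype Ω]

/-- elementwise commutativity of a permutation group -/
def Comm (A : Subgroup (Perm Ω)) : Prop := ∀ a ∈ A, ∀ b ∈ A, a * b = b * a

variable (A : Subgroup (Perm Ω)) (x : Ω)

theorem smul_eq (a : A) (y : Ω) : a • y = (a : Perm Ω) y := rfl

theorem apply_mem_orbit_iff (a : A) (y : Ω) :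
    (a : Perm Ω) y ∈ orbit A x ↔ y ∈ orbit A x := by
  rw [← smul_eq, ← orbit_eq_iff, orbit_smul, orbit_eq_iff]

/-- restriction to the complement of the orbit of `x` -/
def rho : A →* Perm {y : Ω // y ∉ orbit A x} where
  toFun a := (a : Perm Ω).subtypePerm (fun y => not_congr (apply_mem_orbit_iff A x a y))
  map_one' := by ext y; simp
  map_mul' a b := by ext y; rfl

theorem rho_apply (a : A) (y : {y : Ω // y ∉ orbit A x}) :
    ((rho A x a y : {y : Ω // y ∉ orbit A x}) : Ω) = (a : Perm Ω) y := rfl

variable {A}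

/-- in an abelian group, the stabilizer of `x` fixes the orbit of `x` pointwise -/
theorem stab_fixes (hA : Comm A) (k : A) (hk : k ∈ stabilizer A x) (y : Ω) (hy : y ∈ orbit A x) :
    (k : Perm Ω) y = y := by
  obtain ⟨a, rfl⟩ := hy
  change (k : Perm Ω) ((a : Perm Ω) x) = (a : Perm Ω) x
  have h1 : (k : Perm Ω) x = x := hk
  have h2 := hA _ k.2 _ a.2
  calc (k : Perm Ω) ((a : Perm Ω) x) = ((k : Perm Ω) * (a : Perm Ω)) x := rfl
    _ = ((a : Perm Ω) * (k : Perm Ω)) x := by rw [h2]
    _ = (a : Perm Ω) x := by rw [Perm.mul_apply, h1]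

theorem eq_one_of_rho_eq_one (a : A) (ha : rho A x a = 1)
    (hfix : ∀ y ∈ orbit A x, (a : Perm Ω) y = y) : a = 1 := by
  apply Subtype.ext
  ext y
  by_cases hy : y ∈ orbit A x
  · simpa using hfix y hy
  · have := congrArg (fun e : Perm {y : Ω // y ∉ orbit A x} => ((e ⟨y, hy⟩ : _) : Ω)) ha
    simpa [rho_apply] using this

theorem rho_stab_injective (hA : Comm A) :
    Function.Injective ((rho A x).comp (stabilizer A x).subtype) := by
  rw [injective_iff_map_eq_one]
  intro k hk
  apply Subtype.ext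
  exact eq_one_of_rho_eq_one x k.1 hk (fun y hy => stab_fixes x hA k.1 k.2 y hy)

theorem sign_rho_of_fixes [DecidablePred fun y => y ∈ orbit A x] (a : A) (hfix : ∀ y ∈ orbit A x, (a : Perm Ω) y = y) :
    Perm.sign (rho A x a) = Perm.sign (a : Perm Ω) := by
  change Perm.sign ((a : Perm Ω).subtypePerm
    (fun y => not_congr (apply_mem_orbit_iff A x a y))) = _
  refine Perm.sign_subtypePerm _ _ ?_
  intro y hy hmem
  exact hy (hfix y hmem)

variable (A)

/-- the image of the stabilizer in the symmetric group of the complement of the orbit -/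
def K' : Subgroup (Perm {y : Ω // y ∉ orbit A x}) :=
  ((rho A x).comp (stabilizer A x).subtype).range

variable {A}

theorem K'_comm (hA : Comm A) : Comm (K' A x) := by
  rintro _ ⟨a, rfl⟩ _ ⟨b, rfl⟩
  rw [← map_mul, ← map_mul]
  congr 1
  apply Subtype.ext
  apply Subtype.ext
  exact hA _ a.1.2 _ b.1.2

theorem card_K' (hA : Comm A) : Nat.card (K' A x) = Nat.card (stabilizer A x) :=
  (Nat.card_congr (MonoidHom.ofInjective (rho_stab_injective x hA)).toEquiv).symm

theorem card_eq (hA : Comm A) : Nat.card A = Nat.card (orbit A x) * Nat.card (K' A x) := by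
  rw [card_K' x hA, ← Nat.card_prod]
  exact (Nat.card_congr (orbitProdStabilizerEquivGroup A x)).symm

theorem K'_sign [DecidablePred fun y => y ∈ orbit A x] (hA : Comm A) (heven : ∀ a ∈ A, Perm.sign a = 1) :
    ∀ b ∈ K' A x, Perm.sign b = 1 := by
  rintro _ ⟨k, rfl⟩
  change Perm.sign (rho A x k.1) = 1
  rw [sign_rho_of_fixes x k.1 (fun y hy => stab_fixes x hA k.1 k.2 y hy)]
  exact heven _ k.1.2

theorem card_orbit_pos : 0 < Nat.card (orbit A x) := by
  have : Nonempty (orbit A x) := ⟨⟨x, mem_orbit_self x⟩⟩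
  exact Nat.card_pos

theorem card_compl [DecidablePred fun y => y ∈ orbit A x] : Fintype.card {y : Ω // y ∉ orbit A x} + Nat.card (orbit A x) =
    Fintype.card Ω := by
  rw [Nat.card_eq_fintype_card, Fintype.card_subtype_compl]
  have h : Fintype.card {y // y ∈ orbit A x} ≤ Fintype.card Ω := Fintype.card_subtype_le _
  have e : Fintype.card {y // y ∈ orbit A x} = Fintype.card (orbit A x) := by
    apply Fintype.card_congr; exact Equiv.refl _
  omega

end Reduce

/-! ### The bound function for symmetric groups -/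

/-- the largest order of an abelian subgroup of `S_n` -/
def c : ℕ → ℕ
  | 0 => 1
  | 1 => 1
  | 2 => 2
  | 3 => 3
  | 4 => 4
  | (n + 5) => 3 * c (n + 2)

theorem c_add5 (n : ℕ) : c (n + 5) = 3 * c (n + 2) := by rw [c]

theorem c_step (m : ℕ) (hm : 2 ≤ m) : c (m + 3) = 3 * c m := by
  obtain ⟨k, rfl⟩ : ∃ k, m = k + 2 := ⟨m - 2, by omega⟩
  exact c_add5 k

theorem c_pos (m : ℕ) : 0 < c m := by
  induction m using Nat.strong_induction_on with
  | _ m ih =>
    by_cases hm : m < 5
    · interval_cases m <;> simp [c]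
    · obtain ⟨k, rfl⟩ : ∃ k, m = k + 5 := ⟨m - 5, by omega⟩
      rw [c_add5]
      have := ih (k + 2) (by omega)
      omega

theorem c_mul_small (j : ℕ) (hj1 : 1 ≤ j) (hj : j ≤ 4) (m : ℕ) : j * c m ≤ c (m + j) := by
  induction m using Nat.strong_induction_on with
  | _ m ih =>
    by_cases hm : m < 5
    · interval_cases m <;> interval_cases j <;> simp [c]
    · obtain ⟨k, rfl⟩ : ∃ k, m = k + 5 := ⟨m - 5, by omega⟩
      have e : k + 5 + j = (k + j) + 5 := by omega
      rw [e, c_add5, c_add5]
      have := ih (k + 2) (by omega)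
      have e2 : k + 2 + j = k + j + 2 := by omega
      rw [e2] at this
      calc j * (3 * c (k + 2)) = 3 * (j * c (k + 2)) := by ring
        _ ≤ 3 * c (k + j + 2) := Nat.mul_le_mul_left 3 this

theorem c_mul (d : ℕ) (hd : 1 ≤ d) (m : ℕ) : d * c m ≤ c (m + d) := by
  induction d using Nat.strong_induction_on generalizing m with
  | _ d ih =>
    by_cases h4 : d ≤ 4
    · exact c_mul_small d hd h4 m
    · have h1 := ih (d - 3) (by omega) (by omega) m
      have h2 := c_mul_small 3 (by omega) (by omega) (m + (d - 3))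
      have e : m + (d - 3) + 3 = m + d := by omega
      rw [e] at h2
      have h3 : d ≤ 3 * (d - 3) := by omega
      calc d * c m ≤ 3 * (d - 3) * c m := Nat.mul_le_mul_right _ h3
        _ = 3 * ((d - 3) * c m) := by ring
        _ ≤ 3 * c (m + (d - 3)) := Nat.mul_le_mul_left 3 h1
        _ ≤ c (m + d) := h2

theorem c_three_mul (k : ℕ) : c (3 * k) = 3 ^ k := by
  induction k with
  | zero => simp [c]
  | succ k ih =>
    rcases Nat.eq_zero_or_pos k with rfl | hk
    · simp [c]
    · rw [show 3 * (k + 1) = 3 * k + 3 by ring, c_step _ (by omega), ih, pow_succ]; ring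

theorem c_three_mul_add_one (k : ℕ) (hk : 1 ≤ k) : c (3 * k + 1) = 4 * 3 ^ (k - 1) := by
  induction k, hk using Nat.le_induction with
  | base => simp [c]
  | succ k hk ih =>
    rw [show 3 * (k + 1) + 1 = (3 * k + 1) + 3 by ring, c_step _ (by omega), ih]
    obtain ⟨j, rfl⟩ : ∃ j, k = j + 1 := ⟨k - 1, by omega⟩
    simp only [Nat.add_sub_cancel]
    rw [pow_succ]; ring

theorem c_three_mul_add_two (k : ℕ) : c (3 * k + 2) = 2 * 3 ^ k := by
  induction k with
  | zero => simp [c]
  | succ k ih =>
    rw [show 3 * (k + 1) + 2 = (3 * k + 2) + 3 by ring, c_step _ (by omega), ih, pow_succ]; ring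

/-! ### The upper bound for symmetric groups -/

universe u

theorem card_le_c : ∀ (n : ℕ) (Ω : Type u) [DecidableEq Ω] [Fintype Ω], Fintype.card Ω = n →
    ∀ A : Subgroup (Perm Ω), Comm A → Nat.card A ≤ c n := by
  intro n
  induction n using Nat.strong_induction_on with
  | _ n ih =>
    intro Ω _ _ hcard A hA
    classical
    rcases isEmpty_or_nonempty Ω with hΩ | ⟨⟨x⟩⟩
    · have : Subsingleton (Perm Ω) := inferInstance
      have h1 : Nat.card A = 1 := Nat.card_unique
      rw [h1]
      exact c_pos n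
    · have h1 := card_eq x hA
      have h2 := card_compl (A := A) (x := x)
      have h3 := card_orbit_pos (A := A) (x := x)
      set d := Nat.card (orbit A x) with hd
      have hlt : Fintype.card {y : Ω // y ∉ orbit A x} < n := by omega
      have h4 := ih _ hlt {y : Ω // y ∉ orbit A x} rfl (K' A x) (K'_comm x hA)
      rw [h1]
      have h5 := c_mul d h3 (Fintype.card {y : Ω // y ∉ orbit A x})
      have e : Fintype.card {y : Ω // y ∉ orbit A x} + d = n := by omega
      rw [e] at h5
      exact (Nat.mul_le_mul_left d h4).trans h5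

/-! ### Existence of large abelian subgroups -/

/-- there is an abelian subgroup of `S_n` of order `c`; when `ev` is true it consists of even
permutations -/
def E (ev : Bool) (n c : ℕ) : Prop :=
  ∃ A : Subgroup (Perm (Fin n)), Comm A ∧ Nat.card A = c ∧ (ev = true → ∀ a ∈ A, Perm.sign a = 1)

/-- the embedding `S_a × S_b → S_(a+b)` -/
def sumHom (a b : ℕ) : Perm (Fin a) × Perm (Fin b) →* Perm (Fin (a + b)) :=
  (finSumFinEquiv.permCongrHom : Perm (Fin a ⊕ Fin b) ≃* Perm (Fin (a + b))).toMonoidHom.comp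
    (Perm.sumCongrHom (Fin a) (Fin b))

theorem sumHom_injective (a b : ℕ) : Function.Injective (sumHom a b) := by
  unfold sumHom
  rw [MonoidHom.coe_comp]
  exact (MulEquiv.injective _).comp Perm.sumCongrHom_injective

theorem sign_sumHom (a b : ℕ) (p : Perm (Fin a) × Perm (Fin b)) :
    Perm.sign (sumHom a b p) = Perm.sign p.1 * Perm.sign p.2 := by
  change Perm.sign (finSumFinEquiv.permCongr (sumCongr p.1 p.2)) = _
  rw [Perm.sign_permCongr, Perm.sign_sumCongr]

theorem E_add {ev : Bool} {a b c₁ c₂ : ℕ} (h₁ : E ev a c₁) (h₂ : E ev b c₂) :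
    E ev (a + b) (c₁ * c₂) := by
  obtain ⟨A₁, hc₁, hn₁, he₁⟩ := h₁
  obtain ⟨A₂, hc₂, hn₂, he₂⟩ := h₂
  refine ⟨(A₁.prod A₂).map (sumHom a b), ?_, ?_, ?_⟩
  · rintro _ ⟨p, hp, rfl⟩ _ ⟨q, hq, rfl⟩
    rw [← map_mul, ← map_mul]
    congr 1
    rw [SetLike.mem_coe, Subgroup.mem_prod] at hp hq
    exact Prod.ext (hc₁ _ hp.1 _ hq.1) (hc₂ _ hp.2 _ hq.2)
  · rw [Subgroup.card_map_of_injective (sumHom_injective a b),
      Nat.card_congr (Subgroup.prodEquiv A₁ A₂).toEquiv, Nat.card_prod, hn₁, hn₂]
  · rintro hev _ ⟨p, hp, rfl⟩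
    rw [SetLike.mem_coe, Subgroup.mem_prod] at hp
    rw [sign_sumHom, he₁ hev _ hp.1, he₂ hev _ hp.2, one_mul]

theorem E_cast {ev : Bool} {n n' c c' : ℕ} (h : E ev n c) (hn : n = n') (hc : c = c') :
    E ev n' c' := by
  subst hn; subst hc; exact h

theorem E_zero (ev : Bool) : E ev 0 1 :=
  ⟨⊥, by rintro a ha b hb; rw [Subgroup.mem_bot] at ha hb; rw [ha, hb], Subgroup.card_bot,
    by rintro _ a ha; rw [Subgroup.mem_bot] at ha; rw [ha]; simp⟩

theorem zpowers_comm {n : ℕ} (g : Perm (Fin n)) : Comm (Subgroup.zpowers g) := by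
  rintro _ ⟨i, rfl⟩ _ ⟨j, rfl⟩
  rw [← zpow_add, ← zpow_add, add_comm]

/-- a cycle of length `d ≥ 2` generates an abelian subgroup of order `d` of `S_d` -/
theorem E_cycle (d : ℕ) (hd : 2 ≤ d) : E false d d := by
  refine ⟨Subgroup.zpowers (finRotate d), zpowers_comm _, ?_, by simp⟩
  rw [Nat.card_zpowers, (isCycle_finRotate_of_le hd).orderOf, support_finRotate_of_le hd,
    Finset.card_univ, Fintype.card_fin]

/-- a 3-cycle generates an abelian subgroup of order 3 of `A_3` -/
theorem E_three : E true 3 3 := by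
  refine ⟨Subgroup.zpowers (finRotate 3), zpowers_comm _, ?_, ?_⟩
  · rw [Nat.card_zpowers, (isCycle_finRotate_of_le (by norm_num)).orderOf,
      support_finRotate_of_le (by norm_num), Finset.card_univ, Fintype.card_fin]
  · rintro - _ ⟨i, rfl⟩
    rw [map_zpow, sign_finRotate]
    simp

theorem E_pow_three (ev : Bool) (k : ℕ) : E ev (3 * k) (3 ^ k) := by
  induction k with
  | zero => exact E_zero ev
  | succ k ih =>
    have h3 : E ev 3 3 := by
      cases ev
      · exact E_cycle 3 (by norm_num)
      · exact E_three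
    exact E_cast (E_add ih h3) (by ring) (by rw [pow_succ])

theorem comm_of_isMulCommutative {Ω : Type*} (A : Subgroup (Perm Ω)) (hA : IsMulCommutative A) :
    Comm A := fun _ ha _ hb => setLike_mul_comm ha hb

theorem isMulCommutative_of_comm {Ω : Type*} (A : Subgroup (Perm Ω)) (hA : Comm A) :
    IsMulCommutative A := IsMulCommutative.of_setLike_mul_comm fun a ha b hb => hA a ha b hb

/-- the largest order of an abelian subgroup of `S_n` is `c n`, provided one exists -/
theorem isGreatest_perm (n m : ℕ) (hm : m = c n) (h : E false n m) :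
    IsGreatest {c' : ℕ | ∃ A : Subgroup (Perm (Fin n)), IsMulCommutative A ∧ Nat.card A = c'} m := by
  constructor
  · obtain ⟨A, hA, hcard, -⟩ := h
    exact ⟨A, isMulCommutative_of_comm A hA, hcard⟩
  · rintro c' ⟨A, hA, rfl⟩
    rw [hm]
    exact card_le_c n (Fin n) (Fintype.card_fin n) A (comm_of_isMulCommutative A hA)

/-! ### Alternating groups -/

/-- the largest order of an abelian subgroup of `A_n` -/
def α : ℕ → ℕ
  | 0 => 1
  | 1 => 1
  | 2 => 1
  | 3 => 3
  | 4 => 4
  | 5 => 5
  | 6 => 9
  | 7 => 12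
  | 8 => 16
  | (n + 9) => 3 * α (n + 6)

theorem α_add9 (n : ℕ) : α (n + 9) = 3 * α (n + 6) := by rw [α]

theorem α_step (m : ℕ) (hm : 6 ≤ m) : α (m + 3) = 3 * α m := by
  obtain ⟨k, rfl⟩ : ∃ k, m = k + 6 := ⟨m - 6, by omega⟩
  exact α_add9 k

theorem α_pos (m : ℕ) : 0 < α m := by
  induction m using Nat.strong_induction_on with
  | _ m ih =>
    by_cases hm : m < 9
    · interval_cases m <;> simp [α]
    · obtain ⟨k, rfl⟩ : ∃ k, m = k + 9 := ⟨m - 9, by omega⟩
      rw [α_add9]
      have := ih (k + 6) (by omega)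
      omega

theorem c_le_α (m : ℕ) : c m ≤ α (m + 2) := by
  induction m using Nat.strong_induction_on with
  | _ m ih =>
    by_cases hm : m < 7
    · interval_cases m <;> simp [c, α]
    · obtain ⟨k, rfl⟩ : ∃ k, m = k + 7 := ⟨m - 7, by omega⟩
      have h1 : c (k + 7) = 3 * c (k + 4) := c_step (k + 4) (by omega)
      have h2 : α (k + 7 + 2) = 3 * α (k + 4 + 2) := α_add9 k
      rw [h1, h2]
      exact Nat.mul_le_mul_left 3 (ih (k + 4) (by omega))

theorem α_mul_small (j : ℕ) (hj : j = 1 ∨ j = 3 ∨ j = 4 ∨ j = 5) (m : ℕ) :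
    j * α m ≤ α (m + j) := by
  induction m using Nat.strong_induction_on with
  | _ m ih =>
    by_cases hm : m < 9
    · interval_cases m <;> rcases hj with rfl | rfl | rfl | rfl <;> simp [α]
    · obtain ⟨k, rfl⟩ : ∃ k, m = k + 9 := ⟨m - 9, by omega⟩
      have e : k + 9 + j = (k + j) + 9 := by omega
      rw [e, α_add9, α_add9]
      have := ih (k + 6) (by omega)
      have e2 : k + 6 + j = k + j + 6 := by omega
      rw [e2] at this
      calc j * (3 * α (k + 6)) = 3 * (j * α (k + 6)) := by ring
        _ ≤ 3 * α (k + j + 6) := Nat.mul_le_mul_left 3 this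

theorem α_mul (d : ℕ) (hd : 1 ≤ d) (hd2 : d ≠ 2) (m : ℕ) : d * α m ≤ α (m + d) := by
  induction d using Nat.strong_induction_on generalizing m with
  | _ d ih =>
    by_cases h5 : d ≤ 5
    · exact α_mul_small d (by omega) m
    · have h1 := ih (d - 3) (by omega) (by omega) (by omega) m
      have h2 := α_mul_small 3 (by omega) (m + (d - 3))
      have e : m + (d - 3) + 3 = m + d := by omega
      rw [e] at h2
      have h3 : d ≤ 3 * (d - 3) := by omega
      calc d * α m ≤ 3 * (d - 3) * α m := Nat.mul_le_mul_right _ h3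
        _ = 3 * ((d - 3) * α m) := by ring
        _ ≤ 3 * α (m + (d - 3)) := Nat.mul_le_mul_left 3 h1
        _ ≤ α (m + d) := h2

theorem α_three_mul (k : ℕ) (hk : 2 ≤ k) : α (3 * k) = 3 ^ k := by
  induction k, hk using Nat.le_induction with
  | base => simp [α]
  | succ k hk ih =>
    rw [show 3 * (k + 1) = 3 * k + 3 by ring, α_step _ (by omega), ih, pow_succ]; ring

theorem α_three_mul_add_one (k : ℕ) (hk : 2 ≤ k) : α (3 * k + 1) = 4 * 3 ^ (k - 1) := by
  induction k, hk using Nat.le_induction with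
  | base => simp [α]
  | succ k hk ih =>
    rw [show 3 * (k + 1) + 1 = (3 * k + 1) + 3 by ring, α_step _ (by omega), ih]
    obtain ⟨j, rfl⟩ : ∃ j, k = j + 1 := ⟨k - 1, by omega⟩
    simp only [Nat.add_sub_cancel]
    rw [pow_succ]; ring

theorem α_three_mul_add_two (k : ℕ) (hk : 2 ≤ k) : α (3 * k + 2) = 16 * 3 ^ (k - 2) := by
  induction k, hk using Nat.le_induction with
  | base => simp [α]
  | succ k hk ih =>
    rw [show 3 * (k + 1) + 2 = (3 * k + 2) + 3 by ring, α_step _ (by omega), ih]
    obtain ⟨j, rfl⟩ : ∃ j, k = j + 2 := ⟨k - 2, by omega⟩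
    rw [show j + 2 + 1 - 2 = j + 1 by omega, show j + 2 - 2 = j by omega, pow_succ]; ring

section Two

variable {Ω : Type*} [DecidableEq Ω] [Fintype Ω] {A : Subgroup (Perm Ω)} (x : Ω)

/-- if the orbit of `x` has two points and `A` consists of even permutations, then restriction to
the complement of the orbit is injective -/
theorem rho_injective_of_two (heven : ∀ a ∈ A, Perm.sign a = 1)
    (h2 : Nat.card (orbit A x) = 2) : Function.Injective (rho A x) := by
  classical
  rw [injective_iff_map_eq_one]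
  intro a ha
  apply eq_one_of_rho_eq_one x a ha
  by_contra hcon
  push Not at hcon
  obtain ⟨y, hy, hay⟩ := hcon
  -- the support of `a` lies in the orbit
  have hsupp : (a : Perm Ω).support ⊆ (orbit A x).toFinset := by
    intro z hz
    rw [Set.mem_toFinset]
    by_contra hzO
    have := congrArg (fun e : Perm {y : Ω // y ∉ orbit A x} => ((e ⟨z, hzO⟩ : _) : Ω)) ha
    simp only [rho_apply, Perm.coe_one, id_eq] at this
    exact (Perm.mem_support.mp hz) this
  have hne : (a : Perm Ω) ≠ 1 := by
    intro h1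
    apply hay
    rw [h1]; rfl
  have hle : (a : Perm Ω).support.card ≤ 2 := by
    have := Finset.card_le_card hsupp
    rw [Set.toFinset_card, ← Nat.card_eq_fintype_card, h2] at this
    exact this
  have hge := Perm.two_le_card_support_of_ne_one hne
  have hswap : (a : Perm Ω).IsSwap := Perm.card_support_eq_two.mp (le_antisymm hle hge)
  have h1 := heven _ a.2
  rw [hswap.sign_eq] at h1
  exact absurd h1 (by decide)

theorem range_rho_comm (hA : Comm A) : Comm (rho A x).range := by
  rintro _ ⟨a, rfl⟩ _ ⟨b, rfl⟩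
  rw [← map_mul, ← map_mul]
  congr 1
  apply Subtype.ext
  exact hA _ a.2 _ b.2

end Two

theorem card_le_α : ∀ (n : ℕ) (Ω : Type u) [DecidableEq Ω] [Fintype Ω], Fintype.card Ω = n →
    ∀ A : Subgroup (Perm Ω), Comm A → (∀ a ∈ A, Perm.sign a = 1) → Nat.card A ≤ α n := by
  intro n
  induction n using Nat.strong_induction_on with
  | _ n ih =>
    intro Ω _ _ hcard A hA heven
    classical
    rcases isEmpty_or_nonempty Ω with hΩ | ⟨⟨x₀⟩⟩
    · have : Subsingleton (Perm Ω) := inferInstance
      have h1 : Nat.card A = 1 := Nat.card_unique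
      rw [h1]
      exact α_pos n
    · by_cases hex : ∃ x : Ω, Nat.card (orbit A x) = 2
      · obtain ⟨x, hx⟩ := hex
        have h2 := card_compl (A := A) (x := x)
        have hinj := rho_injective_of_two x heven hx
        have h1 : Nat.card A = Nat.card (rho A x).range :=
          Nat.card_congr (MonoidHom.ofInjective hinj).toEquiv
        have h3 := card_le_c _ {y : Ω // y ∉ orbit A x} rfl (rho A x).range (range_rho_comm x hA)
        have h4 := c_le_α (Fintype.card {y : Ω // y ∉ orbit A x})
        have e : Fintype.card {y : Ω // y ∉ orbit A x} + 2 = n := by omega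
        rw [e] at h4
        rw [h1]
        exact h3.trans h4
      · push Not at hex
        have h1 := card_eq x₀ hA
        have h2 := card_compl (A := A) (x := x₀)
        have h3 := card_orbit_pos (A := A) (x := x₀)
        have hd2 := hex x₀
        set d := Nat.card (orbit A x₀) with hd
        have hlt : Fintype.card {y : Ω // y ∉ orbit A x₀} < n := by omega
        have h4 := ih _ hlt {y : Ω // y ∉ orbit A x₀} rfl (K' A x₀) (K'_comm x₀ hA)
          (K'_sign x₀ hA heven)
        rw [h1]
        have h5 := α_mul d h3 hd2 (Fintype.card {y : Ω // y ∉ orbit A x₀})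
        have e : Fintype.card {y : Ω // y ∉ orbit A x₀} + d = n := by omega
        rw [e] at h5
        exact (Nat.mul_le_mul_left d h4).trans h5

/-- the Klein four-group inside `A_4` -/
def V4 : Subgroup (Perm (Fin 4)) where
  carrier := {σ | σ = 1 ∨ σ = swap 0 1 * swap 2 3 ∨ σ = swap 0 2 * swap 1 3 ∨
    σ = swap 0 3 * swap 1 2}
  one_mem' := Or.inl rfl
  mul_mem' := by
    rintro a b (rfl | rfl | rfl | rfl) (rfl | rfl | rfl | rfl) <;> decide
  inv_mem' := by
    rintro a (rfl | rfl | rfl | rfl) <;> decide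

instance decMemV4 (σ : Perm (Fin 4)) : Decidable (σ ∈ V4) :=
  inferInstanceAs (Decidable (σ = 1 ∨ σ = swap 0 1 * swap 2 3 ∨ σ = swap 0 2 * swap 1 3 ∨
    σ = swap 0 3 * swap 1 2))

theorem E_four : E true 4 4 := by
  refine ⟨V4, ?_, ?_, ?_⟩
  · rintro a (rfl | rfl | rfl | rfl) b (rfl | rfl | rfl | rfl) <;> decide
  · rw [Nat.card_eq_fintype_card, Fintype.card_subtype]
    decide
  · rintro - a (rfl | rfl | rfl | rfl) <;> decide

/-- the largest order of an abelian subgroup of `A_n` is `α n`, provided one exists -/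
theorem isGreatest_alt (n m : ℕ) (hm : m = α n) (h : E true n m) :
    IsGreatest {c' : ℕ | ∃ A : Subgroup (alternatingGroup (Fin n)),
      IsMulCommutative A ∧ Nat.card A = c'} m := by
  constructor
  · obtain ⟨A, hA, hcard, heven⟩ := h
    have hle : A ≤ alternatingGroup (Fin n) := fun a ha =>
      Perm.mem_alternatingGroup.mpr (heven rfl a ha)
    have : IsMulCommutative A := isMulCommutative_of_comm A hA
    refine ⟨A.subgroupOf (alternatingGroup (Fin n)), inferInstance, ?_⟩
    rw [Nat.card_congr (Subgroup.subgroupOfEquivOfLe hle).toEquiv, hcard]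
  · rintro c' ⟨A, hA, rfl⟩
    rw [hm]
    have h1 : Nat.card (A.map (alternatingGroup (Fin n)).subtype) = Nat.card A :=
      Subgroup.card_map_of_injective (Subgroup.subtype_injective _)
    rw [← h1]
    apply card_le_α n (Fin n) (Fintype.card_fin n)
    · exact comm_of_isMulCommutative _ inferInstance
    · rintro _ ⟨a, -, rfl⟩
      exact Perm.mem_alternatingGroup.mp a.2

end Cfsg.Agent.Lib.Helper42_AbelianPerm
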