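import Mathlib
import Cfsg.Agent.Lib.Helper75_BRDefs
import Cfsg.Agent.Lib.Helper78_CentralNilp
import Cfsg.Agent.Lib.Helper78_CharFacts
import Cfsg.Agent.Lib.Helper57_HeightZero
import Cfsg.Agent.Lib.Helper77_BlockBasics
import Cfsg.Agent.S0907
import Cfsg.Agent.S0874
import Cfsg.Agent.S4494

/-!
# brandt_packages C1-ARITH (helper75's S4607 market)

For a `p`-block `B = {χ₁, χ₂}` with degrees `f₁, f₂`: `(f₁² + f₂²) ∣ p^a · gcd(f₁,f₂)²`.

Weak block orthogonality (S0907) gives `f₁ conj χ₁(y) + f₂ conj χ₂(y) = 0` on `p`-singular `y` and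
`f₂ χ₁(x) = f₁ χ₂(x)` on `p`-regular `x` (unless both characters vanish on the `p`-singular elements,
which forces defect `0` and contradicts the Brauer–Feit bound S4494).  The two orthogonality relations
then give `(f₁² + f₂²) · Σ_{reg} |χ₁|² = f₁² |G|`, and `p^a |G|⁻¹ Σ_{reg} |χ₁|²` is an integer
(`Helper57_HeightZero.RegInt`, from S0874).
-/

set_option autoImplicit false

namespace Cfsg.Agent.Lib.Helper42_BR_C1ARITH

open Cfsg Cfsg.Agent.Lib.Helper78_LocalRing Cfsg.Agent.Lib.Helper78_GroupRing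
  Cfsg.Agent.Lib.Helper79_Residue Cfsg.Agent.Lib.Helper75_BRDefs

open scoped ComplexConjugate

universe u v w

section C

variable {G : Type u} [Group G] [Finite G]

/-- the one-sided divisibility `(f₁² + f₂²) ∣ p^a f₁²` -/
theorem two_chars_dvd_left (p : ℕ) [Fact p.Prime] (M : Ideal AlgInt) (hM : IsPModular p M)
    (B : Set (IrrCharacter G)) (hB : IsPBlock M B) (χ₁ χ₂ : IrrCharacter G) (h12 : χ₁ ≠ χ₂)
    (hBeq : B = {χ₁, χ₂}) :
    (charDegree (χ₁ : G → ℂ) ^ 2 + charDegree (χ₂ : G → ℂ) ^ 2) ∣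
      p ^ (Nat.card G).factorization p * charDegree (χ₁ : G → ℂ) ^ 2 := by
  classical
  have hp : p.Prime := Fact.out
  have := Fintype.ofFinite G
  set f₁ := charDegree (χ₁ : G → ℂ) with hf₁
  set f₂ := charDegree (χ₂ : G → ℂ) with hf₂
  set a := (Nat.card G).factorization p with ha
  have h1 : (χ₁ : G → ℂ) 1 = (f₁ : ℂ) := Helper77_BlockBasics.apply_one_eq_charDegree χ₁
  have h2 : (χ₂ : G → ℂ) 1 = (f₂ : ℂ) := Helper77_BlockBasics.apply_one_eq_charDegree χ₂
  have hf₁pos : 0 < f₁ := Helper77_BlockBasics.charDegree_pos χ₁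
  have hf₂pos : 0 < f₂ := Helper77_BlockBasics.charDegree_pos χ₂
  have hf₁ne : (f₁ : ℂ) ≠ 0 := by exact_mod_cast hf₁pos.ne'
  have hf₂ne : (f₂ : ℂ) ≠ 0 := by exact_mod_cast hf₂pos.ne'
  -- weak block orthogonality for the pair
  have hwo : ∀ x y : G, ¬ p ∣ orderOf x → p ∣ orderOf y →
      (χ₁ : G → ℂ) x * conj ((χ₁ : G → ℂ) y) + (χ₂ : G → ℂ) x * conj ((χ₂ : G → ℂ) y) = 0 := by
    intro x y hx hy
    have h := Cfsg.Agent.S0907.result p M hM B hB x y hx hy
    rw [hBeq, finsum_mem_pair h12] at h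
    exact h
  -- (A): on `p`-singular elements
  have hA : ∀ y : G, p ∣ orderOf y →
      (f₁ : ℂ) * conj ((χ₁ : G → ℂ) y) + (f₂ : ℂ) * conj ((χ₂ : G → ℂ) y) = 0 := by
    intro y hy
    have h := hwo 1 y (by rw [orderOf_one]; exact hp.not_dvd_one) hy
    rwa [h1, h2] at h
  -- the dichotomy
  by_cases hex : ∃ y₀ : G, p ∣ orderOf y₀ ∧ (χ₁ : G → ℂ) y₀ ≠ 0
  · obtain ⟨y₀, hy₀, hne₀⟩ := hex
    have hc₀ : conj ((χ₁ : G → ℂ) y₀) ≠ 0 := by
      intro h
      apply hne₀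
      have := congrArg conj h
      simpa using this
    -- (C): on `p`-regular elements
    have hC : ∀ x : G, ¬ p ∣ orderOf x →
        (f₂ : ℂ) * (χ₁ : G → ℂ) x = (f₁ : ℂ) * (χ₂ : G → ℂ) x := by
      intro x hx
      have hB' := hwo x y₀ hx hy₀
      have hA' := hA y₀ hy₀
      have h3 : ((f₂ : ℂ) * (χ₁ : G → ℂ) x - (f₁ : ℂ) * (χ₂ : G → ℂ) x) *
          conj ((χ₁ : G → ℂ) y₀) = 0 := by
        linear_combination (f₂ : ℂ) * hB' - (χ₂ : G → ℂ) x * hA'
      rcases mul_eq_zero.1 h3 with h4 | h4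
      · exact sub_eq_zero.1 h4
      · exact absurd h4 hc₀
    -- conjugated versions (the degrees are real)
    have hCc : ∀ x : G, ¬ p ∣ orderOf x →
        (f₂ : ℂ) * conj ((χ₁ : G → ℂ) x) = (f₁ : ℂ) * conj ((χ₂ : G → ℂ) x) := by
      intro x hx
      have := congrArg conj (hC x hx)
      simpa [map_mul] using this
    -- orthogonality relations
    have hCF := Cfsg.Agent.Lib.Helper78_CharFacts.charFacts (G := G)
    have hGne : (Nat.card G : ℂ) ≠ 0 := by
      exact_mod_cast (Nat.card_pos (α := G)).ne'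
    have ho11 : ∑ g : G, (χ₁ : G → ℂ) g * conj ((χ₁ : G → ℂ) g) = (Nat.card G : ℂ) := by
      have h := hCF.orth χ₁ χ₁
      rw [if_pos rfl] at h
      unfold classInner at h
      field_simp at h
      linear_combination h
    have ho12 : ∑ g : G, (χ₁ : G → ℂ) g * conj ((χ₂ : G → ℂ) g) = 0 := by
      have h := hCF.orth χ₁ χ₂
      rw [if_neg h12] at h
      unfold classInner at h
      rcases mul_eq_zero.1 h with h' | h'
      · exact absurd h' (inv_ne_zero hGne)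
      · exact h'
    -- pointwise identity
    have hpt : ∀ g : G, (f₁ : ℂ) * (f₂ : ℂ) * ((χ₁ : G → ℂ) g * conj ((χ₂ : G → ℂ) g)) =
        ((f₁ : ℂ) ^ 2 + (f₂ : ℂ) ^ 2) *
          (Helper57_PRegInt.regPart p (χ₁ : G → ℂ) g * conj ((χ₁ : G → ℂ) g)) -
        (f₁ : ℂ) ^ 2 * ((χ₁ : G → ℂ) g * conj ((χ₁ : G → ℂ) g)) := by
      intro g
      by_cases hg : p ∣ orderOf g
      · rw [Helper57_PRegInt.regPart_of_dvd _ hg]
        have := hA g hg
        linear_combination (f₁ : ℂ) * (χ₁ : G → ℂ) g * this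
      · rw [Helper57_PRegInt.regPart_of_not_dvd _ hg]
        have := hCc g hg
        linear_combination (-(f₂ : ℂ)) * (χ₁ : G → ℂ) g * this
    have hsum : ((f₁ : ℂ) ^ 2 + (f₂ : ℂ) ^ 2) *
        (∑ g : G, Helper57_PRegInt.regPart p (χ₁ : G → ℂ) g * conj ((χ₁ : G → ℂ) g)) =
        (f₁ : ℂ) ^ 2 * (Nat.card G : ℂ) := by
      have h := Finset.sum_congr (s₁ := (Finset.univ : Finset G)) rfl (fun g _ => hpt g)
      rw [← Finset.mul_sum, Finset.sum_sub_distrib, ← Finset.mul_sum, ← Finset.mul_sum, ho12,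
        ho11, mul_zero] at h
      linear_combination -h
    -- integrality
    have hRI : Helper57_HeightZero.RegInt G p :=
      Helper57_HeightZero.regInt_of_brauerLocal hp (fun q hq _ => Cfsg.Agent.S0874.result q hq)
    obtain ⟨n, hn⟩ := hRI χ₁ χ₁
    unfold classInner at hn
    have hkey : (((f₁ ^ 2 + f₂ ^ 2 : ℕ) : ℤ) * n : ℤ) = ((p ^ a * f₁ ^ 2 : ℕ) : ℤ) := by
      have hC' : ((((f₁ ^ 2 + f₂ ^ 2 : ℕ) : ℤ) * n : ℤ) : ℂ) = (((p ^ a * f₁ ^ 2 : ℕ) : ℤ) : ℂ) := by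
        push_cast
        rw [← hn]
        push_cast
        field_simp
        linear_combination ((p : ℂ) ^ a) * hsum
      exact_mod_cast hC'
    have hdvd : ((f₁ ^ 2 + f₂ ^ 2 : ℕ) : ℤ) ∣ ((p ^ a * f₁ ^ 2 : ℕ) : ℤ) := ⟨n, hkey.symm⟩
    exact Int.natCast_dvd_natCast.1 hdvd
  · -- both characters vanish on the `p`-singular elements: defect zero, impossible
    exfalso
    push Not at hex
    have hv1 : ∀ y : G, p ∣ orderOf y → (χ₁ : G → ℂ) y = 0 := hex
    have hv2 : ∀ y : G, p ∣ orderOf y → (χ₂ : G → ℂ) y = 0 := by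
      intro y hy
      have h := hA y hy
      rw [hv1 y hy, map_zero, mul_zero, zero_add] at h
      rcases mul_eq_zero.1 h with h' | h'
      · exact absurd h' hf₂ne
      · have := congrArg conj h'
        simpa using this
    have hd1 : p ^ a ∣ f₁ :=
      Helper77_BlockBasics.pow_dvd_of_vanish hp (χ₁ : G → ℂ)
        (Cfsg.Agent.Lib.Helper3_CharBridge.isCharacter_of_isIrrCharacter χ₁.2) f₁ h1 hv1
    have hd2 : p ^ a ∣ f₂ :=
      Helper77_BlockBasics.pow_dvd_of_vanish hp (χ₂ : G → ℂ)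
        (Cfsg.Agent.Lib.Helper3_CharBridge.isCharacter_of_isIrrCharacter χ₂.2) f₂ h2 hv2
    have hBne : B.Nonempty := ⟨χ₁, by rw [hBeq]; exact Set.mem_insert _ _⟩
    have hdef : blockDefect p B = 0 := by
      rw [Helper77_BlockBasics.blockDefect_eq_zero_iff p B hBne]
      intro χ hχ
      rw [hBeq] at hχ
      rcases hχ with rfl | hχ
      · exact (Nat.Prime.pow_dvd_iff_le_factorization hp hf₁pos.ne').1 hd1
      · rw [Set.mem_singleton_iff] at hχ
        subst hχ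
        exact (Nat.Prime.pow_dvd_iff_le_factorization hp hf₂pos.ne').1 hd2
    have hBF := Cfsg.Agent.S4494.result p M hM B hB
    rw [hdef, mul_zero, pow_zero] at hBF
    have hcard : Nat.card B = 2 := by
      rw [hBeq, _root_.Nat.card_coe_set_eq, Set.ncard_pair h12]
    rw [hcard] at hBF
    omega

/-- **C1 (ARITH)**. Weak block orthogonality + `p^a χ 1_{p-reg}` is a generalized character. -/
theorem two_chars_dvd (p : ℕ) [Fact p.Prime] (M : Ideal AlgInt) (hM : IsPModular p M)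
    (B : Set (IrrCharacter G)) (hB : IsPBlock M B) (χ₁ χ₂ : IrrCharacter G) (h12 : χ₁ ≠ χ₂)
    (hBeq : B = {χ₁, χ₂}) :
    (charDegree (χ₁ : G → ℂ) ^ 2 + charDegree (χ₂ : G → ℂ) ^ 2) ∣
      p ^ (Nat.card G).factorization p *
        (Nat.gcd (charDegree (χ₁ : G → ℂ)) (charDegree (χ₂ : G → ℂ))) ^ 2 := by
  have hL := two_chars_dvd_left p M hM B hB χ₁ χ₂ h12 hBeq
  have hR := two_chars_dvd_left p M hM B hB χ₂ χ₁ h12.symm (by rw [hBeq, Set.pair_comm])
  rw [add_comm] at hR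
  have h := Nat.dvd_gcd hL hR
  rwa [Nat.gcd_mul_left, Nat.pow_gcd_pow] at h

end C

end Cfsg.Agent.Lib.Helper42_BR_C1ARITH
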