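import Mathlib

/-!
# Bruhat decomposition of `SL_n(F_2)` (helper42)

`U0 n` = upper triangular matrices in `SL_n(F_2)` (a 2-group, `isPGroup_U0`),
`W σ` permutation matrices, `bruhat : g = u * W σ * b`, `self_normalizing` (`N(U0) = U0`),
`big_cell` (`U0 ∩ gU0g⁻¹ = 1 → g ∈ U0 w0 U0`).
-/

namespace Cfsg.Agent.Helper42BruhatF2

open Matrix

variable {n : ℕ}

theorem zmod2_eq_one {a : ZMod 2} (h : a ≠ 0) : a = 1 := by
  revert h; revert a; decide

theorem zmod2_add_self (a : ZMod 2) : a + a = 0 := by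
  revert a; decide

/-- The upper triangular subgroup of `SL_n(F_2)`. -/
def U0 (n : ℕ) : Subgroup (Matrix.SpecialLinearGroup (Fin n) (ZMod 2)) where
  carrier := {g | (g : Matrix (Fin n) (Fin n) (ZMod 2)).BlockTriangular id}
  mul_mem' := fun {a b} ha hb => by
    show ((a * b : Matrix.SpecialLinearGroup (Fin n) (ZMod 2)) : Matrix (Fin n) (Fin n) (ZMod 2)).BlockTriangular id
    rw [Matrix.SpecialLinearGroup.coe_mul]
    exact Matrix.BlockTriangular.mul ha hb
  one_mem' := by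
    show ((1 : Matrix.SpecialLinearGroup (Fin n) (ZMod 2)) : Matrix (Fin n) (Fin n) (ZMod 2)).BlockTriangular id
    rw [Matrix.SpecialLinearGroup.coe_one]
    exact Matrix.blockTriangular_one
  inv_mem' := fun {a} ha => by
    show ((a⁻¹ : Matrix.SpecialLinearGroup (Fin n) (ZMod 2)) : Matrix (Fin n) (Fin n) (ZMod 2)).BlockTriangular id
    have hinv : ((a⁻¹ : Matrix.SpecialLinearGroup (Fin n) (ZMod 2)) : Matrix (Fin n) (Fin n) (ZMod 2))
        = (a : Matrix (Fin n) (Fin n) (ZMod 2))⁻¹ := by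
      rw [Matrix.SpecialLinearGroup.coe_inv, Matrix.inv_def, a.det_coe]
      simp
    rw [hinv]
    let _ : Invertible (a : Matrix (Fin n) (Fin n) (ZMod 2)) :=
      Matrix.invertibleOfIsUnitDet _ (by rw [a.det_coe]; exact isUnit_one)
    exact Matrix.blockTriangular_inv_of_blockTriangular ha

theorem mem_U0 {g : Matrix.SpecialLinearGroup (Fin n) (ZMod 2)} :
    g ∈ U0 n ↔ ∀ i j : Fin n, j < i → (g : Matrix (Fin n) (Fin n) (ZMod 2)) i j = 0 := by
  constructor
  · intro h i j hij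
    exact h hij
  · intro h i j hij
    exact h i j hij

theorem diag_eq_one {g : Matrix.SpecialLinearGroup (Fin n) (ZMod 2)} (hg : g ∈ U0 n) (i : Fin n) :
    (g : Matrix (Fin n) (Fin n) (ZMod 2)) i i = 1 := by
  apply zmod2_eq_one
  intro h0
  have hdet := Matrix.det_of_isUpperTriangular (M := (g : Matrix (Fin n) (Fin n) (ZMod 2))) hg
  have hz : ∏ j, (g : Matrix (Fin n) (Fin n) (ZMod 2)) j j = 0 :=
    Finset.prod_eq_zero (Finset.mem_univ i) h0
  rw [g.det_coe, hz] at hdet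
  exact one_ne_zero hdet

theorem isPGroup_U0 : IsPGroup 2 (U0 n) := by
  intro ⟨g, hg⟩
  refine ⟨n, ?_⟩
  apply Subtype.ext
  apply Subtype.ext
  show ((g ^ 2 ^ n : Matrix.SpecialLinearGroup (Fin n) (ZMod 2)) : Matrix (Fin n) (Fin n) (ZMod 2)) = 1
  rcases Nat.eq_zero_or_pos n with h0 | hpos
  · subst h0
    exact Subsingleton.elim _ _
  have : Nonempty (Fin n) := ⟨⟨0, hpos⟩⟩
  have : Fact (Nat.Prime 2) := ⟨Nat.prime_two⟩
  -- (g - 1)^n = 0 by Cayley-Hamilton
  have hd : ∀ i, (g : Matrix (Fin n) (Fin n) (ZMod 2)) i i = 1 := fun i => diag_eq_one hg i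
  have hcp : (g : Matrix (Fin n) (Fin n) (ZMod 2)).charpoly
      = (Polynomial.X - Polynomial.C (1 : ZMod 2)) ^ n := by
    rw [Matrix.charpoly_of_isUpperTriangular _ hg]
    simp [hd]
  have hCH := Matrix.aeval_self_charpoly (g : Matrix (Fin n) (Fin n) (ZMod 2))
  rw [hcp] at hCH
  simp only [map_pow, map_sub, Polynomial.aeval_X, Polynomial.aeval_C, map_one] at hCH
  rw [Matrix.SpecialLinearGroup.coe_pow]
  have h1 : ((g : Matrix (Fin n) (Fin n) (ZMod 2)) - 1) ^ 2 ^ n = 0 := by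
    have : n ≤ 2 ^ n := Nat.lt_two_pow_self.le
    rw [← Nat.sub_add_cancel this, pow_add, hCH, mul_zero]
  have h2 : ((g : Matrix (Fin n) (Fin n) (ZMod 2)) - 1) ^ 2 ^ n
      = (g : Matrix (Fin n) (Fin n) (ZMod 2)) ^ 2 ^ n - 1 ^ 2 ^ n :=
    sub_pow_char_pow_of_commute 2 n (Commute.one_right _)
  rw [h2, one_pow, sub_eq_zero] at h1
  exact h1

/-- permutation matrix in `SL_n(F_2)`; `(W σ * M) i j = M (σ i) j`. -/
def W (σ : Equiv.Perm (Fin n)) : Matrix.SpecialLinearGroup (Fin n) (ZMod 2) :=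
  ⟨σ.permMatrix (ZMod 2), by
    rw [Matrix.det_permutation]
    rcases Int.units_eq_one_or (Equiv.Perm.sign σ) with h | h <;> rw [h] <;> decide⟩

theorem W_mul_apply (σ : Equiv.Perm (Fin n)) (g : Matrix.SpecialLinearGroup (Fin n) (ZMod 2))
    (i j : Fin n) :
    ((W σ * g : Matrix.SpecialLinearGroup (Fin n) (ZMod 2)) : Matrix (Fin n) (Fin n) (ZMod 2)) i j
      = (g : Matrix (Fin n) (Fin n) (ZMod 2)) (σ i) j := by
  rw [Matrix.SpecialLinearGroup.coe_mul]
  show ((σ.toPEquiv.toMatrix : Matrix (Fin n) (Fin n) (ZMod 2)) * (g : Matrix (Fin n) (Fin n) (ZMod 2))) i j = _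
  rw [PEquiv.toMatrix_toPEquiv_mul]
  rfl

theorem mul_W_apply (σ : Equiv.Perm (Fin n)) (g : Matrix.SpecialLinearGroup (Fin n) (ZMod 2))
    (i j : Fin n) :
    ((g * W σ : Matrix.SpecialLinearGroup (Fin n) (ZMod 2)) : Matrix (Fin n) (Fin n) (ZMod 2)) i j
      = (g : Matrix (Fin n) (Fin n) (ZMod 2)) i (σ.symm j) := by
  rw [Matrix.SpecialLinearGroup.coe_mul]
  show ((g : Matrix (Fin n) (Fin n) (ZMod 2)) * (σ.toPEquiv.toMatrix : Matrix (Fin n) (Fin n) (ZMod 2))) i j = _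
  rw [PEquiv.mul_toMatrix_toPEquiv]
  rfl

theorem W_apply (σ : Equiv.Perm (Fin n)) (i j : Fin n) :
    (W σ : Matrix (Fin n) (Fin n) (ZMod 2)) i j = if σ i = j then 1 else 0 := by
  show (σ.toPEquiv.toMatrix : Matrix (Fin n) (Fin n) (ZMod 2)) i j = _
  simp [PEquiv.toMatrix_apply, Equiv.toPEquiv_apply]

theorem W_inv (σ : Equiv.Perm (Fin n)) : (W σ)⁻¹ = W σ⁻¹ := by
  rw [inv_eq_iff_mul_eq_one]
  apply Subtype.ext
  ext i j
  rw [W_mul_apply, W_apply, Matrix.SpecialLinearGroup.coe_one, Matrix.one_apply]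
  simp

theorem W_one : W (1 : Equiv.Perm (Fin n)) = 1 := by
  apply Subtype.ext
  ext i j
  rw [W_apply, Matrix.SpecialLinearGroup.coe_one, Matrix.one_apply]
  by_cases h : i = j <;> simp [h]

theorem W_conj_apply (σ : Equiv.Perm (Fin n)) (g : Matrix.SpecialLinearGroup (Fin n) (ZMod 2))
    (i j : Fin n) :
    ((W σ * g * (W σ)⁻¹ : Matrix.SpecialLinearGroup (Fin n) (ZMod 2)) :
        Matrix (Fin n) (Fin n) (ZMod 2)) i j
      = (g : Matrix (Fin n) (Fin n) (ZMod 2)) (σ i) (σ j) := by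
  rw [W_inv, mul_W_apply, W_mul_apply]
  rfl

/-- elementary transvections -/
def X (i j : Fin n) (h : i ≠ j) : Matrix.SpecialLinearGroup (Fin n) (ZMod 2) :=
  ⟨Matrix.transvection i j 1, Matrix.det_transvection_of_ne i j h 1⟩

theorem X_apply (i j : Fin n) (h : i ≠ j) (a b : Fin n) :
    (X i j h : Matrix (Fin n) (Fin n) (ZMod 2)) a b
      = (if a = b then 1 else 0) + (if i = a ∧ j = b then 1 else 0) := by
  show (Matrix.transvection i j (1 : ZMod 2)) a b = _
  rw [Matrix.transvection, Matrix.add_apply, Matrix.one_apply, Matrix.single_apply]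

theorem X_mul_apply_same (i j : Fin n) (h : i ≠ j)
    (g : Matrix.SpecialLinearGroup (Fin n) (ZMod 2)) (b : Fin n) :
    ((X i j h * g : Matrix.SpecialLinearGroup (Fin n) (ZMod 2)) :
        Matrix (Fin n) (Fin n) (ZMod 2)) i b
      = (g : Matrix (Fin n) (Fin n) (ZMod 2)) i b + (g : Matrix (Fin n) (Fin n) (ZMod 2)) j b := by
  rw [Matrix.SpecialLinearGroup.coe_mul]
  show (Matrix.transvection i j (1 : ZMod 2) * (g : Matrix (Fin n) (Fin n) (ZMod 2))) i b = _
  rw [Matrix.transvection_mul_apply_same, one_mul]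

theorem X_mul_apply_of_ne (i j : Fin n) (h : i ≠ j)
    (g : Matrix.SpecialLinearGroup (Fin n) (ZMod 2)) (a b : Fin n) (ha : a ≠ i) :
    ((X i j h * g : Matrix.SpecialLinearGroup (Fin n) (ZMod 2)) :
        Matrix (Fin n) (Fin n) (ZMod 2)) a b
      = (g : Matrix (Fin n) (Fin n) (ZMod 2)) a b := by
  rw [Matrix.SpecialLinearGroup.coe_mul]
  show (Matrix.transvection i j (1 : ZMod 2) * (g : Matrix (Fin n) (Fin n) (ZMod 2))) a b = _
  rw [Matrix.transvection_mul_apply_of_ne _ _ _ _ ha]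

theorem X_ne_one (i j : Fin n) (h : i ≠ j) : X i j h ≠ 1 := by
  intro h1
  have := congrArg (fun g : Matrix.SpecialLinearGroup (Fin n) (ZMod 2) =>
    (g : Matrix (Fin n) (Fin n) (ZMod 2)) i j) h1
  simp only [X_apply, Matrix.SpecialLinearGroup.coe_one, Matrix.one_apply, if_neg h] at this
  simp at this

theorem W_conj_X (σ : Equiv.Perm (Fin n)) (a b : Fin n) (h : a ≠ b) :
    W σ * X a b h * (W σ)⁻¹ = X (σ.symm a) (σ.symm b) (by simpa using h) := by
  apply Subtype.ext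
  ext i j
  rw [W_conj_apply, X_apply, X_apply]
  congr 1
  · simp
  · simp [Equiv.symm_apply_eq]

theorem X_mem_iff (i j : Fin n) (h : i ≠ j) : X i j h ∈ U0 n ↔ i < j := by
  rw [mem_U0]
  constructor
  · intro hU
    by_contra hlt
    have hji : j < i := lt_of_le_of_ne (not_lt.1 hlt) (Ne.symm h)
    have := hU i j hji
    rw [X_apply] at this
    simp [h] at this
  · intro hlt a b hba
    rw [X_apply, if_neg hba.ne', if_neg, add_zero]
    rintro ⟨rfl, rfl⟩
    exact absurd hlt (not_lt.2 hba.le)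

theorem exists_ne_zero (g : Matrix.SpecialLinearGroup (Fin n) (ZMod 2)) (i : Fin n) :
    ∃ c, (g : Matrix (Fin n) (Fin n) (ZMod 2)) i c ≠ 0 := by
  by_contra h
  push Not at h
  have := Matrix.det_eq_zero_of_row_eq_zero i h
  rw [g.det_coe] at this
  exact one_ne_zero this

/-- pivot (first nonzero column) of row `i`. -/
noncomputable def piv (g : Matrix.SpecialLinearGroup (Fin n) (ZMod 2)) (i : Fin n) : Fin n :=
  (Finset.univ.filter (fun c => (g : Matrix (Fin n) (Fin n) (ZMod 2)) i c ≠ 0)).min' (by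
    obtain ⟨c, hc⟩ := exists_ne_zero g i
    exact ⟨c, by simp [hc]⟩)

theorem piv_ne (g : Matrix.SpecialLinearGroup (Fin n) (ZMod 2)) (i : Fin n) :
    (g : Matrix (Fin n) (Fin n) (ZMod 2)) i (piv g i) ≠ 0 := by
  have := Finset.min'_mem (Finset.univ.filter (fun c => (g : Matrix (Fin n) (Fin n) (ZMod 2)) i c ≠ 0)) (by
    obtain ⟨c, hc⟩ := exists_ne_zero g i
    exact ⟨c, by simp [hc]⟩)
  exact (Finset.mem_filter.1 this).2

theorem piv_le (g : Matrix.SpecialLinearGroup (Fin n) (ZMod 2)) (i c : Fin n)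
    (hc : (g : Matrix (Fin n) (Fin n) (ZMod 2)) i c ≠ 0) : piv g i ≤ c :=
  Finset.min'_le _ _ (by simp [hc])

theorem lt_piv (g : Matrix.SpecialLinearGroup (Fin n) (ZMod 2)) (i c : Fin n)
    (hc : c < piv g i) : (g : Matrix (Fin n) (Fin n) (ZMod 2)) i c = 0 := by
  by_contra h
  exact absurd (piv_le g i c h) (not_le.2 hc)

theorem piv_congr (g g' : Matrix.SpecialLinearGroup (Fin n) (ZMod 2)) (i : Fin n)
    (h : ∀ c, (g' : Matrix (Fin n) (Fin n) (ZMod 2)) i c = (g : Matrix (Fin n) (Fin n) (ZMod 2)) i c) :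
    piv g' i = piv g i := by
  apply le_antisymm
  · apply piv_le
    rw [h]
    exact piv_ne g i
  · apply piv_le
    rw [← h]
    exact piv_ne g' i

theorem piv_X_mul_gt (m : Matrix.SpecialLinearGroup (Fin n) (ZMod 2)) (i j : Fin n) (hlt : i < j)
    (heq : piv m i = piv m j) : piv m i < piv (X i j hlt.ne * m) i := by
  by_contra h
  rw [not_lt] at h
  apply piv_ne (X i j hlt.ne * m) i
  rw [X_mul_apply_same]
  rcases lt_or_eq_of_le h with h1 | h1
  · rw [lt_piv m i _ h1, lt_piv m j _ (heq ▸ h1), add_zero]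
  · rw [h1]
    have e1 := zmod2_eq_one (piv_ne m i)
    have e2 := zmod2_eq_one (piv_ne m j)
    rw [← heq] at e2
    rw [e1, e2]
    decide

/-- **Bruhat decomposition** of `SL_n(F_2)`. -/
theorem bruhat (g : Matrix.SpecialLinearGroup (Fin n) (ZMod 2)) :
    ∃ u ∈ U0 n, ∃ b ∈ U0 n, ∃ σ : Equiv.Perm (Fin n), g = u * W σ * b := by
  classical
  obtain ⟨u0, hu0⟩ := Finite.exists_max
    (fun u : U0 n => ∑ i, ((piv ((u : Matrix.SpecialLinearGroup (Fin n) (ZMod 2)) * g) i : Fin n) : ℕ))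
  set m := (u0 : Matrix.SpecialLinearGroup (Fin n) (ZMod 2)) * g with hm
  have key : ∀ i j : Fin n, i < j → piv m i ≠ piv m j := by
    intro i j hlt heq
    have hx : X i j hlt.ne ∈ U0 n := (X_mem_iff i j hlt.ne).2 hlt
    have h1 := hu0 ⟨X i j hlt.ne * u0, mul_mem hx u0.2⟩
    simp only [mul_assoc] at h1
    rw [← hm] at h1
    apply absurd h1
    rw [not_le]
    apply Finset.sum_lt_sum
    · intro a _
      by_cases ha : a = i
      · subst ha
        exact (piv_X_mul_gt m a j hlt heq).le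
      · rw [piv_congr m (X i j hlt.ne * m) a (fun c => X_mul_apply_of_ne i j hlt.ne m a c ha)]
    · exact ⟨i, Finset.mem_univ _, piv_X_mul_gt m i j hlt heq⟩
  have hinj : Function.Injective (piv m) := by
    intro i j hij
    by_contra hne
    rcases lt_or_gt_of_ne hne with h | h
    · exact key i j h hij
    · exact key j i h hij.symm
  let σ : Equiv.Perm (Fin n) := Equiv.ofBijective (piv m) (Finite.injective_iff_bijective.1 hinj)
  have hσ : ∀ i, σ i = piv m i := fun i => rfl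
  refine ⟨(u0 : Matrix.SpecialLinearGroup (Fin n) (ZMod 2))⁻¹, inv_mem u0.2, (W σ)⁻¹ * m, ?_, σ, ?_⟩
  · rw [mem_U0]
    intro c k hkc
    rw [W_inv, W_mul_apply]
    apply lt_piv
    rw [← hσ]
    simpa using hkc
  · rw [hm]; group

/-- the longest element -/
def w0 (n : ℕ) : Matrix.SpecialLinearGroup (Fin n) (ZMod 2) := W Fin.revPerm

theorem self_normalizing (g : Matrix.SpecialLinearGroup (Fin n) (ZMod 2))
    (h : ∀ y ∈ U0 n, g * y * g⁻¹ ∈ U0 n) : g ∈ U0 n := by
  obtain ⟨u, hu, b, hb, σ, rfl⟩ := bruhat g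
  have hW : ∀ y ∈ U0 n, W σ * y * (W σ)⁻¹ ∈ U0 n := by
    intro y hy
    have h1 := h (b⁻¹ * y * b) (mul_mem (mul_mem (inv_mem hb) hy) hb)
    have h2 : W σ * y * (W σ)⁻¹
        = u⁻¹ * (u * W σ * b * (b⁻¹ * y * b) * (u * W σ * b)⁻¹) * u := by group
    rw [h2]
    exact mul_mem (mul_mem (inv_mem hu) h1) hu
  have hsm : StrictMono (σ.symm : Fin n → Fin n) := by
    intro a b hab
    have := hW (X a b hab.ne) ((X_mem_iff a b hab.ne).2 hab)
    rw [W_conj_X, X_mem_iff] at this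
    exact this
  have h1 : (σ.symm : Fin n → Fin n) = id := by
    rw [← StrictMono.range_inj hsm strictMono_id]
    simp
  have h2 : σ = 1 := by
    ext i
    have := congrFun h1 (σ i)
    simp at this
    simp [← this]
  rw [h2, W_one, mul_one]
  exact mul_mem hu hb

theorem big_cell (g : Matrix.SpecialLinearGroup (Fin n) (ZMod 2))
    (h : ∀ y ∈ U0 n, g * y * g⁻¹ ∈ U0 n → y = 1) :
    ∃ u ∈ U0 n, ∃ u' ∈ U0 n, g = u * w0 n * u' := by
  obtain ⟨u, hu, b, hb, σ, rfl⟩ := bruhat g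
  have hW : ∀ y ∈ U0 n, W σ * y * (W σ)⁻¹ ∈ U0 n → y = 1 := by
    intro y hy hy'
    have h1 := h (b⁻¹ * y * b) (mul_mem (mul_mem (inv_mem hb) hy) hb) (by
      have h2 : u * W σ * b * (b⁻¹ * y * b) * (u * W σ * b)⁻¹
          = u * (W σ * y * (W σ)⁻¹) * u⁻¹ := by group
      rw [h2]
      exact mul_mem (mul_mem hu hy') (inv_mem hu))
    have h3 : y = b * (b⁻¹ * y * b) * b⁻¹ := by group
    rw [h3, h1]; group
  have hsa : StrictAnti (σ.symm : Fin n → Fin n) := by
    intro a b hab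
    have h1 : ¬ (W σ * X a b hab.ne * (W σ)⁻¹ ∈ U0 n) := fun h2 =>
      X_ne_one a b hab.ne (hW _ ((X_mem_iff a b hab.ne).2 hab) h2)
    rw [W_conj_X, X_mem_iff, not_lt] at h1
    exact lt_of_le_of_ne h1 (by simpa using hab.ne')
  have h1 : (σ.symm : Fin n → Fin n) = Fin.rev := by
    rw [← StrictAnti.range_inj hsa Fin.rev_strictAnti]
    simp
  have h2 : σ = Fin.revPerm := by
    ext i
    have := congrFun h1 (σ i)
    simp at this
    rw [Fin.revPerm_apply]
    have h3 : σ i = i.rev := by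
      calc σ i = (σ i).rev.rev := (Fin.rev_rev _).symm
        _ = i.rev := by rw [← this]
    rw [h3]
  exact ⟨u, hu, b, hb, by rw [h2]; rfl⟩

end Cfsg.Agent.Helper42BruhatF2
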