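import Mathlib

set_option autoImplicit false

/-!
# 3 × 3 matrices with scalar cube: Cayley–Hamilton by hand, normal forms, `SL₃`-conjugacy

(helper42) Used for S5971.
-/

namespace Cfsg.Agent.Helper42CubeNF

open Matrix

variable {F : Type*} [Field F]

/-- second coefficient of the characteristic polynomial of a 3 × 3 matrix -/
def s2 (M : Matrix (Fin 3) (Fin 3) F) : F :=
  M 0 0 * M 1 1 - M 0 1 * M 1 0 + (M 0 0 * M 2 2 - M 0 2 * M 2 0) + (M 1 1 * M 2 2 - M 1 2 * M 2 1)

/-- Cayley–Hamilton for 3 × 3 matrices. -/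
theorem ch3 (M : Matrix (Fin 3) (Fin 3) F) :
    M * M * M - trace M • (M * M) + s2 M • M - det M • (1 : Matrix (Fin 3) (Fin 3) F) = 0 := by
  ext i j
  fin_cases i <;> fin_cases j <;>
    simp [Matrix.mul_apply, Fin.sum_univ_three, Matrix.det_fin_three, Matrix.trace_fin_three, s2] <;>
    ring

theorem det_smul_one_sub (M : Matrix (Fin 3) (Fin 3) F) (l : F) :
    det (l • (1 : Matrix (Fin 3) (Fin 3) F) - M) = l ^ 3 - trace M * l ^ 2 + s2 M * l - det M := by
  simp [Matrix.det_fin_three, Matrix.trace_fin_three, s2]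
  ring


/-- `M³ = 1`, `det M = 1`, `M` non-scalar: the characteristic polynomial is `X³ − 1`. -/
theorem trace_s2_of_cube_one (M : Matrix (Fin 3) (Fin 3) F) (h3 : M * M * M = 1) (hd : det M = 1)
    (hns : ∀ c : F, M ≠ c • (1 : Matrix (Fin 3) (Fin 3) F)) : trace M = 0 ∧ s2 M = 0 := by
  have h := ch3 M
  rw [h3, hd, one_smul] at h
  have h1 : s2 M • M = trace M • (M * M) := by
    have : s2 M • M - trace M • (M * M) = 0 := by rw [← h]; abel
    exact sub_eq_zero.mp this
  have h2 : s2 M • (1 : Matrix (Fin 3) (Fin 3) F) = trace M • M := by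
    have := congrArg (fun X => X * (M * M)) h1
    simp only [smul_mul_assoc] at this
    rw [← mul_assoc, h3, show M * M * (M * M) = M * M * M * M by simp only [mul_assoc], h3, one_mul] at this
    exact this
  have ht : trace M = 0 := by
    by_contra ht
    apply hns ((trace M)⁻¹ * s2 M)
    have := congrArg (fun X => (trace M)⁻¹ • X) h2
    simp only [smul_smul, inv_mul_cancel₀ ht, one_smul] at this
    exact this.symm
  refine ⟨ht, ?_⟩
  rw [ht, zero_smul] at h2
  have := congrFun (congrFun h2 0) 0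
  simpa using this

theorem exists_eigen_of_cube_one (M : Matrix (Fin 3) (Fin 3) F) (h3 : M * M * M = 1) (hd : det M = 1)
    (hns : ∀ c : F, M ≠ c • (1 : Matrix (Fin 3) (Fin 3) F)) (l : F) (hl : l ^ 3 = 1) :
    ∃ v : Fin 3 → F, v ≠ 0 ∧ M *ᵥ v = l • v := by
  obtain ⟨ht, hs⟩ := trace_s2_of_cube_one M h3 hd hns
  have hdet : det (l • (1 : Matrix (Fin 3) (Fin 3) F) - M) = 0 := by
    rw [det_smul_one_sub, ht, hs, hd, hl]; ring
  obtain ⟨v, hv, hv0⟩ := Matrix.exists_mulVec_eq_zero_iff.mpr hdet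
  refine ⟨v, hv, ?_⟩
  rw [Matrix.sub_mulVec, Matrix.smul_mulVec, Matrix.one_mulVec, sub_eq_zero] at hv0
  exact hv0.symm

/-- `M³ = z`, `det M = 1`, `M` non-scalar: `z = 1` or `z` is a cube in `F`. -/
theorem cube_scalar_cases (M : Matrix (Fin 3) (Fin 3) F) (z : F)
    (h3 : M * M * M = z • (1 : Matrix (Fin 3) (Fin 3) F)) (hd : det M = 1)
    (hns : ∀ c : F, M ≠ c • (1 : Matrix (Fin 3) (Fin 3) F)) : z = 1 ∨ ∃ c : F, c ^ 3 = z := by
  have h := ch3 M
  rw [h3, hd, one_smul] at h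
  -- t M² = s M + (z - 1)
  have h1 : trace M • (M * M) = s2 M • M + (z - 1) • (1 : Matrix (Fin 3) (Fin 3) F) := by
    have : trace M • (M * M) - (s2 M • M + (z - 1) • (1 : Matrix (Fin 3) (Fin 3) F)) = 0 := by
      rw [← neg_eq_zero, ← h, sub_smul, one_smul]; abel
    exact sub_eq_zero.mp this
  by_cases ht : trace M = 0
  · rw [ht, zero_smul] at h1
    by_cases hs : s2 M = 0
    · rw [hs, zero_smul, zero_add] at h1
      left
      have := congrFun (congrFun h1 0) 0
      simp at this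
      exact (sub_eq_zero.mp this.symm)
    · exfalso
      apply hns (-(s2 M)⁻¹ * (z - 1))
      have h2 : s2 M • M = (-(z - 1)) • (1 : Matrix (Fin 3) (Fin 3) F) := by
        rw [neg_smul, eq_neg_iff_add_eq_zero]; exact h1.symm
      have := congrArg (fun X => (s2 M)⁻¹ • X) h2
      simp only [smul_smul, inv_mul_cancel₀ hs, one_smul] at this
      refine this.trans ?_
      congr 1; ring
  · right
    set a := (trace M)⁻¹ * s2 M with ha
    set b := (trace M)⁻¹ * (z - 1) with hb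
    have h2 : M * M = a • M + b • (1 : Matrix (Fin 3) (Fin 3) F) := by
      have := congrArg (fun X => (trace M)⁻¹ • X) h1
      simp only [smul_smul, inv_mul_cancel₀ ht, one_smul, smul_add] at this
      exact this
    -- M³ = (a² + b) M + ab
    have h4 : z • (1 : Matrix (Fin 3) (Fin 3) F) = (a * a + b) • M + (a * b) • (1 : Matrix (Fin 3) (Fin 3) F) := by
      rw [← h3, h2, add_mul, smul_mul_assoc, h2, smul_mul_assoc, one_mul, smul_add, smul_smul, smul_smul,
        add_smul]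
      abel
    by_cases hab : a * a + b = 0
    · rw [hab, zero_smul, zero_add] at h4
      have hz : z = a * b := by
        have := congrFun (congrFun h4 0) 0
        simpa using this
      refine ⟨-a, ?_⟩
      have hb' : b = -(a * a) := by
        rw [eq_neg_iff_add_eq_zero, add_comm]; exact hab
      rw [hz, hb']; ring
    · exfalso
      apply hns ((a * a + b)⁻¹ * (z - a * b))
      have h5 : (a * a + b) • M = (z - a * b) • (1 : Matrix (Fin 3) (Fin 3) F) := by
        rw [sub_smul, h4]; abel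
      have := congrArg (fun X => (a * a + b)⁻¹ • X) h5
      simp only [smul_smul, inv_mul_cancel₀ hab, one_smul] at this
      exact this


/-! ### matrices with prescribed columns -/

/-- the matrix with columns `v0 v1 v2` -/
def cols (v0 v1 v2 : Fin 3 → F) : Matrix (Fin 3) (Fin 3) F :=
  Matrix.of fun i j => (![v0, v1, v2] j) i

theorem cols_mulVec (v0 v1 v2 c : Fin 3 → F) :
    cols v0 v1 v2 *ᵥ c = c 0 • v0 + c 1 • v1 + c 2 • v2 := by
  ext i
  simp [cols, Matrix.mulVec, dotProduct, Fin.sum_univ_three]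
  ring

theorem mul_cols (M : Matrix (Fin 3) (Fin 3) F) (v0 v1 v2 : Fin 3 → F) :
    M * cols v0 v1 v2 = cols (M *ᵥ v0) (M *ᵥ v1) (M *ᵥ v2) := by
  ext i j
  fin_cases j <;> simp [cols, Matrix.mul_apply, Matrix.mulVec, dotProduct]

theorem cols_mul (v0 v1 v2 : Fin 3 → F) (N : Matrix (Fin 3) (Fin 3) F) :
    cols v0 v1 v2 * N = cols (cols v0 v1 v2 *ᵥ (fun i => N i 0)) (cols v0 v1 v2 *ᵥ (fun i => N i 1))
      (cols v0 v1 v2 *ᵥ (fun i => N i 2)) := by
  ext i j
  fin_cases j <;> simp [cols, Matrix.mul_apply, Matrix.mulVec, dotProduct]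

theorem det_cols_ne_zero (v0 v1 v2 : Fin 3 → F)
    (h : ∀ c : Fin 3 → F, c 0 • v0 + c 1 • v1 + c 2 • v2 = 0 → c = 0) : det (cols v0 v1 v2) ≠ 0 := by
  intro hdet
  obtain ⟨c, hc, hc0⟩ := Matrix.exists_mulVec_eq_zero_iff.mpr hdet
  rw [cols_mulVec] at hc0
  exact hc (h c hc0)

/-! ### normal forms -/

/-- normal form when `F` contains a primitive cube root of unity `w` -/
def nfD (w : F) : Matrix (Fin 3) (Fin 3) F := Matrix.diagonal ![1, w, w ^ 2]

/-- normal form when `F` contains no primitive cube root of unity -/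
def nfC : Matrix (Fin 3) (Fin 3) F := !![1, 0, 0; 0, 0, -1; 0, 1, -1]

/-- the matrices `diag(α, 1, 1)` used to adjust determinants -/
def zd (α : F) : Matrix (Fin 3) (Fin 3) F := Matrix.diagonal ![α, 1, 1]

theorem det_zd (α : F) : det (zd α) = α := by
  simp [zd, Matrix.det_diagonal, Fin.prod_univ_three]

theorem zd_mul_nfD (w α : F) : zd α * nfD w = nfD w * zd α := by
  simp only [zd, nfD, Matrix.diagonal_mul_diagonal]
  congr 1
  ext i
  fin_cases i <;> simp [mul_comm]

theorem zd_mul_nfC (α : F) : zd α * (nfC : Matrix (Fin 3) (Fin 3) F) = nfC * zd α := by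
  ext i j
  fin_cases i <;> fin_cases j <;> simp [zd, nfC, Matrix.mul_apply, Fin.sum_univ_three, Matrix.diagonal_apply]

/-- If `M₁ P₁ = P₁ N₀`, `M₂ P₂ = P₂ N₀` with `P₁ P₂` invertible and `N₀` commuting with all
`diag(α,1,1)`, then `M₁` and `M₂` are conjugate by a matrix of determinant one. -/
theorem exists_sl_conj (N0 : Matrix (Fin 3) (Fin 3) F) (hZ : ∀ α : F, zd α * N0 = N0 * zd α)
    (M1 M2 P1 P2 : Matrix (Fin 3) (Fin 3) F) (hP1 : det P1 ≠ 0) (hP2 : det P2 ≠ 0)
    (h1 : M1 * P1 = P1 * N0) (h2 : M2 * P2 = P2 * N0) :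
    ∃ R : Matrix (Fin 3) (Fin 3) F, det R = 1 ∧ M1 * R = R * M2 := by
  have hu2 : IsUnit (det P2) := isUnit_iff_ne_zero.mpr hP2
  have h22 : P2 * P2⁻¹ = 1 := Matrix.mul_nonsing_inv P2 hu2
  have h22' : P2⁻¹ * P2 = 1 := Matrix.nonsing_inv_mul P2 hu2
  refine ⟨P1 * zd ((det P1)⁻¹ * det P2) * P2⁻¹, ?_, ?_⟩
  · rw [Matrix.det_mul, Matrix.det_mul, det_zd, Matrix.det_nonsing_inv, Ring.inverse_eq_inv']
    field_simp
  · have h3 : N0 * P2⁻¹ = P2⁻¹ * M2 := by
      have : P2⁻¹ * (M2 * P2) * P2⁻¹ = P2⁻¹ * (P2 * N0) * P2⁻¹ := by rw [h2]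
      rw [← mul_assoc _ P2 N0, h22', one_mul, mul_assoc, mul_assoc, h22, mul_one] at this
      exact this.symm
    calc M1 * (P1 * zd ((det P1)⁻¹ * det P2) * P2⁻¹)
        = (M1 * P1) * zd ((det P1)⁻¹ * det P2) * P2⁻¹ := by simp only [mul_assoc]
      _ = P1 * (N0 * zd ((det P1)⁻¹ * det P2)) * P2⁻¹ := by rw [h1]; simp only [mul_assoc]
      _ = P1 * zd ((det P1)⁻¹ * det P2) * (N0 * P2⁻¹) := by rw [← hZ]; simp only [mul_assoc]
      _ = P1 * zd ((det P1)⁻¹ * det P2) * P2⁻¹ * M2 := by rw [h3]; simp only [mul_assoc]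


theorem cols_mul_nfD (v0 v1 v2 : Fin 3 → F) (w : F) :
    cols v0 v1 v2 * nfD w = cols v0 (w • v1) (w ^ 2 • v2) := by
  ext i j
  fin_cases j <;> simp [cols, nfD, Matrix.mul_apply, Fin.sum_univ_three, Matrix.diagonal_apply, mul_comm]

theorem cols_mul_nfC (v0 v1 v2 : Fin 3 → F) :
    cols v0 v1 v2 * nfC = cols v0 v2 (-v1 - v2) := by
  ext i j
  fin_cases j <;> simp [cols, nfC, Matrix.mul_apply, Fin.sum_univ_three]
  ring

/-- Normal form, split case: `w` a primitive cube root of unity in `F`. -/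
theorem exists_nfD (w : F) (hw : w ^ 2 + w + 1 = 0) (h3ne : (3 : F) ≠ 0)
    (M : Matrix (Fin 3) (Fin 3) F) (h3 : M * M * M = 1) (hd : det M = 1)
    (hns : ∀ c : F, M ≠ c • (1 : Matrix (Fin 3) (Fin 3) F)) :
    ∃ P : Matrix (Fin 3) (Fin 3) F, det P ≠ 0 ∧ M * P = P * nfD w := by
  have hw3 : w ^ 3 = 1 := by linear_combination (w - 1) * hw
  have hw1 : w ≠ 1 := by
    rintro rfl
    apply h3ne; linear_combination hw
  have hw2 : w ^ 2 ≠ 1 := by
    intro h
    apply hw1
    have : w * w ^ 2 = 1 := by rw [← hw3]; ring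
    rw [h, mul_one] at this; exact this
  have hw12 : w ≠ w ^ 2 := by
    intro h
    apply hw1
    have h' : w * (w - 1) = 0 := by linear_combination -h
    rcases mul_eq_zero.mp h' with h0 | h0
    · exfalso; rw [h0] at hw3; simp at hw3
    · exact sub_eq_zero.mp h0
  obtain ⟨v0, hv0, he0⟩ := exists_eigen_of_cube_one M h3 hd hns 1 (by simp)
  obtain ⟨v1, hv1, he1⟩ := exists_eigen_of_cube_one M h3 hd hns w hw3
  obtain ⟨v2, hv2, he2⟩ := exists_eigen_of_cube_one M h3 hd hns (w ^ 2) (by linear_combination (w ^ 3 + 1) * hw3)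
  rw [one_smul] at he0
  refine ⟨cols v0 v1 v2, ?_, ?_⟩
  · apply det_cols_ne_zero
    intro c hc
    have hli : LinearIndependent F ![v0, v1, v2] := by
      apply Module.End.eigenvectors_linearIndependent' (Matrix.toLin' M) ![1, w, w ^ 2]
      · intro i j hij
        fin_cases i <;> fin_cases j
        · rfl
        · exact absurd (show (1 : F) = w from hij).symm hw1
        · exact absurd (show (1 : F) = w ^ 2 from hij).symm hw2
        · exact absurd (show w = 1 from hij) hw1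
        · rfl
        · exact absurd (show w = w ^ 2 from hij) hw12
        · exact absurd (show w ^ 2 = 1 from hij) hw2
        · exact absurd (show w ^ 2 = w from hij).symm hw12
        · rfl
      · intro i
        fin_cases i
        · exact Module.End.hasEigenvector_iff.mpr ⟨Module.End.mem_eigenspace_iff.mpr (by simpa using he0), hv0⟩
        · exact Module.End.hasEigenvector_iff.mpr ⟨Module.End.mem_eigenspace_iff.mpr (by simpa using he1), hv1⟩
        · exact Module.End.hasEigenvector_iff.mpr ⟨Module.End.mem_eigenspace_iff.mpr (by simpa using he2), hv2⟩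
    have := Fintype.linearIndependent_iff.mp hli c (by simpa [Fin.sum_univ_three, add_assoc] using hc)
    ext i; exact this i
  · rw [mul_cols, cols_mul_nfD, he0, he1, he2]


/-- Normal form, non-split case: `F` has no primitive cube root of unity. -/
theorem exists_nfC (hno : ∀ l : F, l ^ 2 + l + 1 ≠ 0) (h3ne : (3 : F) ≠ 0)
    (M : Matrix (Fin 3) (Fin 3) F) (h3 : M * M * M = 1) (hd : det M = 1)
    (hns : ∀ c : F, M ≠ c • (1 : Matrix (Fin 3) (Fin 3) F)) :
    ∃ P : Matrix (Fin 3) (Fin 3) F, det P ≠ 0 ∧ M * P = P * nfC := by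
  obtain ⟨u, hu, heu⟩ := exists_eigen_of_cube_one M h3 hd hns 1 (by simp)
  rw [one_smul] at heu
  have hM1 : M ≠ 1 := fun h => hns 1 (by rw [h, one_smul])
  obtain ⟨w', hw'⟩ : ∃ w' : Fin 3 → F, M *ᵥ w' ≠ w' := by
    by_contra hcon
    push Not at hcon
    apply hM1
    apply Matrix.mulVec_injective
    funext v
    rw [hcon v, Matrix.one_mulVec]
  set w := M *ᵥ w' - w' with hwdef
  have hw : w ≠ 0 := sub_ne_zero.mpr hw'
  have hS : M *ᵥ (M *ᵥ w) = -w - M *ᵥ w := by
    have h3' : M *ᵥ (M *ᵥ (M *ᵥ w')) = w' := by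
      rw [Matrix.mulVec_mulVec, Matrix.mulVec_mulVec, h3, Matrix.one_mulVec]
    rw [hwdef, Matrix.mulVec_sub, Matrix.mulVec_sub, h3']
    abel
  refine ⟨cols u w (M *ᵥ w), ?_, ?_⟩
  · apply det_cols_ne_zero
    intro c hc
    -- apply S = M² + M + 1
    have hSu : M *ᵥ (M *ᵥ u) + M *ᵥ u + u = (3 : F) • u := by
      rw [heu, heu]
      ext i; simp; ring
    have hSw : M *ᵥ (M *ᵥ w) + M *ᵥ w + w = 0 := by rw [hS]; abel
    have hSMw : M *ᵥ (M *ᵥ (M *ᵥ w)) + M *ᵥ (M *ᵥ w) + M *ᵥ w = 0 := by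
      rw [← Matrix.mulVec_add, ← Matrix.mulVec_add, hSw, Matrix.mulVec_zero]
    have hE1 : M *ᵥ (c 0 • u + c 1 • w + c 2 • M *ᵥ w) = 0 := by rw [hc, Matrix.mulVec_zero]
    have hE2 : M *ᵥ (M *ᵥ (c 0 • u + c 1 • w + c 2 • M *ᵥ w)) = 0 := by
      rw [hc, Matrix.mulVec_zero, Matrix.mulVec_zero]
    simp only [Matrix.mulVec_add, Matrix.mulVec_smul] at hE1 hE2
    have h0 : (c 0 * 3) • u = 0 := by
      have : c 0 • (M *ᵥ (M *ᵥ u) + M *ᵥ u + u) + c 1 • (M *ᵥ (M *ᵥ w) + M *ᵥ w + w)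
          + c 2 • (M *ᵥ (M *ᵥ (M *ᵥ w)) + M *ᵥ (M *ᵥ w) + M *ᵥ w) = 0 := by
        have h := congrArg₂ (· + ·) (congrArg₂ (· + ·) hE2 hE1) hc
        simp only [add_zero] at h
        rw [← h]
        simp only [smul_add]
        abel
      rw [hSu, hSw, hSMw, smul_zero, smul_zero, add_zero, add_zero, smul_smul] at this
      exact this
    have hc0 : c 0 = 0 := by
      rcases smul_eq_zero.mp h0 with h | h
      · rcases mul_eq_zero.mp h with h | h
        · exact h
        · exact absurd h h3ne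
      · exact absurd h hu
    rw [hc0, zero_smul, zero_add] at hc
    have hc2 : c 2 = 0 := by
      by_contra hc2
      have hMw : M *ᵥ w = (-(c 2)⁻¹ * c 1) • w := by
        have h := congrArg (fun x => (c 2)⁻¹ • x) hc
        simp only [smul_add, smul_smul, inv_mul_cancel₀ hc2, one_smul, smul_zero] at h
        rw [neg_mul, neg_smul, eq_neg_iff_add_eq_zero, add_comm]
        exact h
      set l := -(c 2)⁻¹ * c 1 with hl
      have : (l ^ 2 + l + 1) • w = 0 := by
        rw [hMw, Matrix.mulVec_smul, hMw, smul_smul] at hSw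
        rw [add_smul, add_smul, one_smul, sq]
        exact hSw
      rcases smul_eq_zero.mp this with h | h
      · exact hno l h
      · exact hw h
    rw [hc2, zero_smul, add_zero] at hc
    have hc1 : c 1 = 0 := by
      rcases smul_eq_zero.mp hc with h | h
      · exact h
      · exact absurd h hw
    ext i
    fin_cases i
    · exact hc0
    · exact hc1
    · exact hc2
  · rw [mul_cols, cols_mul_nfC, heu, hS]


/-- In characteristic `≠ 3`, any two non-scalar 3 × 3 matrices of determinant one and cube one are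
conjugate by a matrix of determinant one. -/
theorem exists_sl_conj_of_cube_one (h3ne : (3 : F) ≠ 0)
    (M1 M2 : Matrix (Fin 3) (Fin 3) F) (h1 : M1 * M1 * M1 = 1) (hd1 : det M1 = 1)
    (hns1 : ∀ c : F, M1 ≠ c • (1 : Matrix (Fin 3) (Fin 3) F))
    (h2 : M2 * M2 * M2 = 1) (hd2 : det M2 = 1)
    (hns2 : ∀ c : F, M2 ≠ c • (1 : Matrix (Fin 3) (Fin 3) F)) :
    ∃ R : Matrix (Fin 3) (Fin 3) F, det R = 1 ∧ M1 * R = R * M2 := by
  by_cases hw : ∃ w : F, w ^ 2 + w + 1 = 0
  · obtain ⟨w, hw⟩ := hw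
    obtain ⟨P1, hP1, hc1⟩ := exists_nfD w hw h3ne M1 h1 hd1 hns1
    obtain ⟨P2, hP2, hc2⟩ := exists_nfD w hw h3ne M2 h2 hd2 hns2
    exact exists_sl_conj (nfD w) (zd_mul_nfD w) M1 M2 P1 P2 hP1 hP2 hc1 hc2
  · push Not at hw
    obtain ⟨P1, hP1, hc1⟩ := exists_nfC hw h3ne M1 h1 hd1 hns1
    obtain ⟨P2, hP2, hc2⟩ := exists_nfC hw h3ne M2 h2 hd2 hns2
    exact exists_sl_conj nfC zd_mul_nfC M1 M2 P1 P2 hP1 hP2 hc1 hc2

end Cfsg.Agent.Helper42CubeNF
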