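import Mathlib
import Cfsg.Agent.Lib.Helper99_PrimeGraphL

set_option autoImplicit false

/-!
# Cyclic vectors for matrices of prime order `n` when `q` is a primitive root mod `n`

(helper42) If `ord_n(q) = n - 1` then every `M ∈ M_n(F_q)` with `M^n = 1`, `M ≠ 1` has a cyclic
vector, hence is conjugate to the cyclic shift; any two such are conjugate by a matrix of
determinant one.  For S5970.
-/

namespace Cfsg.Agent.Helper42CyclicConj

open Matrix
open Cfsg.Agent.Lib.Helper99_Singer Cfsg.Agent.Lib.Helper99_PrimeGraphL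

variable {F : Type*} [Field F] {n : ℕ}

/-- the matrix with columns `v, Mv, …, M^(n-1) v` -/
def Pmat (M : Matrix (Fin n) (Fin n) F) (v : Fin n → F) : Matrix (Fin n) (Fin n) F :=
  Matrix.of fun i j => ((M ^ (j : ℕ)) *ᵥ v) i

/-- the cyclic shift matrix -/
def Cmat (F : Type*) [Field F] (n : ℕ) : Matrix (Fin n) (Fin n) F :=
  Matrix.of fun i k => if (finRotate n).symm i = k then 1 else 0

theorem mul_Pmat (M : Matrix (Fin n) (Fin n) F) (v : Fin n → F) (hM : M ^ n = 1) :
    M * Pmat M v = Pmat M v * Cmat F n := by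
  ext i j
  have hR : (Pmat M v * Cmat F n) i j = Pmat M v i (finRotate n j) := by
    rw [Matrix.mul_apply]
    have : ∀ k, Pmat M v i k * Cmat F n k j = if k = finRotate n j then Pmat M v i k else 0 := by
      intro k
      simp only [Cmat, Matrix.of_apply]
      by_cases hk : k = finRotate n j
      · rw [if_pos hk, if_pos (by rw [hk, Equiv.symm_apply_apply]), mul_one]
      · rw [if_neg hk, if_neg (by intro h; apply hk; rw [← h, Equiv.apply_symm_apply]), mul_zero]
    simp only [this]
    rw [Finset.sum_ite_eq' Finset.univ (finRotate n j)]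
    simp
  have hL : (M * Pmat M v) i j = ((M ^ ((j : ℕ) + 1)) *ᵥ v) i := by
    rw [pow_succ', ← Matrix.mulVec_mulVec]
    rfl
  have hpow : M ^ ((j : ℕ) + 1) = M ^ ((finRotate n j : Fin n) : ℕ) := by
    obtain ⟨m, rfl⟩ : ∃ m, n = m + 1 := ⟨n - 1, by have := j.pos; omega⟩
    rw [coe_finRotate]
    by_cases hj : j = Fin.last m
    · rw [if_pos hj, hj, Fin.val_last, hM, pow_zero]
    · rw [if_neg hj]
  rw [hR, hL, hpow]
  rfl

/-- all-ones matrix -/
def Jmat (F : Type*) [Field F] (n : ℕ) : Matrix (Fin n) (Fin n) F := Matrix.of fun _ _ => 1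

/-- `1 + c J` -/
def Zmat (n : ℕ) (c : F) : Matrix (Fin n) (Fin n) F := 1 + c • Jmat F n

theorem Jmat_mul_Cmat : Jmat F n * Cmat F n = Jmat F n := by
  ext i j
  rw [Matrix.mul_apply]
  simp only [Jmat, Cmat, Matrix.of_apply, one_mul]
  have : ∀ k, (if (finRotate n).symm k = j then (1 : F) else 0) = if k = finRotate n j then 1 else 0 := by
    intro k
    by_cases hk : k = finRotate n j
    · rw [if_pos hk, if_pos (by rw [hk, Equiv.symm_apply_apply])]
    · rw [if_neg hk, if_neg (by intro h; apply hk; rw [← h, Equiv.apply_symm_apply])]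
  simp only [this]
  rw [Finset.sum_ite_eq' Finset.univ (finRotate n j)]
  simp

theorem Cmat_mul_Jmat : Cmat F n * Jmat F n = Jmat F n := by
  ext i j
  rw [Matrix.mul_apply]
  simp only [Jmat, Cmat, Matrix.of_apply, mul_one]
  rw [Finset.sum_ite_eq Finset.univ ((finRotate n).symm i)]
  simp

theorem Zmat_mul_Cmat (c : F) : Zmat n c * Cmat F n = Cmat F n * Zmat n c := by
  simp only [Zmat, add_mul, mul_add, one_mul, mul_one, Matrix.smul_mul, Matrix.mul_smul,
    Jmat_mul_Cmat, Cmat_mul_Jmat]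

theorem det_Zmat (c : F) : det (Zmat n c) = 1 + n * c := by
  have h : Zmat n c = 1 + Matrix.replicateCol Unit (fun _ : Fin n => c) * Matrix.replicateRow Unit (fun _ : Fin n => (1 : F)) := by
    ext i j
    simp [Zmat, Jmat, Matrix.mul_apply]
  rw [h, Matrix.det_one_add_replicateCol_mul_replicateRow]
  simp [dotProduct]

/-- Two matrices of order dividing `n` with cyclic vectors are conjugate by a matrix of determinant one
(when `n ≠ 0` in `F`). -/
theorem exists_sl_conj_of_cyclic (hn0 : (n : F) ≠ 0) (M1 M2 : Matrix (Fin n) (Fin n) F)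
    (h1 : M1 ^ n = 1) (h2 : M2 ^ n = 1) (v1 v2 : Fin n → F)
    (hv1 : det (Pmat M1 v1) ≠ 0) (hv2 : det (Pmat M2 v2) ≠ 0) :
    ∃ R : Matrix (Fin n) (Fin n) F, det R = 1 ∧ M1 * R = R * M2 := by
  set P1 := Pmat M1 v1 with hP1
  set P2 := Pmat M2 v2 with hP2
  have hc1 : M1 * P1 = P1 * Cmat F n := mul_Pmat M1 v1 h1
  have hc2 : M2 * P2 = P2 * Cmat F n := mul_Pmat M2 v2 h2
  have hu2 : IsUnit (det P2) := isUnit_iff_ne_zero.mpr hv2
  have h22 : P2 * P2⁻¹ = 1 := Matrix.mul_nonsing_inv P2 hu2
  have h22' : P2⁻¹ * P2 = 1 := Matrix.nonsing_inv_mul P2 hu2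
  set c : F := ((det P1)⁻¹ * det P2 - 1) / n with hc
  refine ⟨P1 * Zmat n c * P2⁻¹, ?_, ?_⟩
  · rw [Matrix.det_mul, Matrix.det_mul, det_Zmat, Matrix.det_nonsing_inv, Ring.inverse_eq_inv', hc]
    field_simp
    ring
  · have h3 : Cmat F n * P2⁻¹ = P2⁻¹ * M2 := by
      have : P2⁻¹ * (M2 * P2) * P2⁻¹ = P2⁻¹ * (P2 * Cmat F n) * P2⁻¹ := by rw [hc2]
      rw [← mul_assoc _ P2 (Cmat F n), h22', one_mul, mul_assoc, mul_assoc, h22, mul_one] at this
      exact this.symm
    calc M1 * (P1 * Zmat n c * P2⁻¹)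
        = (M1 * P1) * Zmat n c * P2⁻¹ := by simp only [mul_assoc]
      _ = P1 * (Cmat F n * Zmat n c) * P2⁻¹ := by rw [hc1]; simp only [mul_assoc]
      _ = P1 * Zmat n c * (Cmat F n * P2⁻¹) := by rw [← Zmat_mul_Cmat]; simp only [mul_assoc]
      _ = P1 * Zmat n c * P2⁻¹ * M2 := by rw [h3]; simp only [mul_assoc]


/-- If `q` has order `n - 1` modulo the prime `n ≥ 3`, every `M ≠ 1` with `M^n = 1` in `M_n(F_q)` has a
cyclic vector. -/
theorem exists_cyclic [Fintype F] (hn : n.Prime) (hn3 : 3 ≤ n) (hn0 : (n : F) ≠ 0)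
    (hq : ¬ n ∣ Fintype.card F) (hord : orderOf ((Fintype.card F : ℕ) : ZMod n) = n - 1)
    (M : Matrix (Fin n) (Fin n) F) (hM : M ^ n = 1) (hM1 : M ≠ 1) :
    ∃ v : Fin n → F, det (Pmat M v) ≠ 0 := by
  classical
  set T : Module.End F (Fin n → F) := Matrix.toLinAlgEquiv' M with hTdef
  have hTv : ∀ v, T v = M *ᵥ v := fun v => Matrix.toLinAlgEquiv'_apply M v
  have hT : T ^ n = 1 := by rw [hTdef, ← map_pow, hM, map_one]
  have hT1 : T ≠ 1 := by
    intro h
    apply hM1
    apply (Matrix.toLinAlgEquiv' (R := F) (n := Fin n)).injective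
    rw [map_one]; exact h
  have hTpow : ∀ (j : ℕ) v, (T ^ j) v = (M ^ j) *ᵥ v := by
    intro j v
    rw [hTdef, ← map_pow, Matrix.toLinAlgEquiv'_apply]
  -- the fixed space is a line
  have hfixtop : fixSpace T ≠ ⊤ := fixSpace_ne_top hT1
  have hfix1 : Module.finrank F (fixSpace T) = 1 := by
    have h1 := orderOf_dvd_finrank_sub T hn hq hT ⊤ (fun w _ => Submodule.mem_top)
    rw [hord, finrank_top, top_inf_eq, Module.finrank_fin_fun] at h1
    have h2 : Module.finrank F (fixSpace T) ≤ n := by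
      have := Submodule.finrank_le (fixSpace T)
      rwa [Module.finrank_fin_fun] at this
    have h3 : Module.finrank F (fixSpace T) ≠ n := by
      intro h
      apply hfixtop
      apply Submodule.eq_top_of_finrank_eq
      rw [h, Module.finrank_fin_fun]
    obtain ⟨k, hk⟩ := h1
    have hk1 : k = 1 := by
      rcases Nat.lt_or_ge k 1 with h | h
      · have : k = 0 := by omega
        rw [this, mul_zero] at hk
        omega
      · rcases Nat.lt_or_ge 1 k with h' | h'
        · exfalso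
          have : (n - 1) * 2 ≤ (n - 1) * k := Nat.mul_le_mul_left _ h'
          omega
        · omega
    rw [hk1, mul_one] at hk
    omega
  obtain ⟨u, huF, hu0⟩ : ∃ u ∈ fixSpace T, u ≠ 0 := by
    have : fixSpace T ≠ ⊥ := by
      intro h
      rw [h, finrank_bot] at hfix1
      omega
    exact Submodule.exists_mem_ne_zero_of_ne_bot this
  obtain ⟨y, hyF⟩ : ∃ y, y ∉ fixSpace T := by
    by_contra hcon
    push Not at hcon
    exact hfixtop (Submodule.eq_top_iff'.mpr hcon)
  -- the norm element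
  set E : Module.End F (Fin n → F) := ∑ j ∈ Finset.range n, T ^ j with hE
  have hTE : T * E = E := by
    rw [hE, Finset.mul_sum]
    have h1 : ∑ j ∈ Finset.range n, T * T ^ j = ∑ j ∈ Finset.range n, T ^ (j + 1) := by
      apply Finset.sum_congr rfl
      intro j _
      rw [pow_succ']
    rw [h1]
    have h2 := Finset.sum_range_succ' (fun j => T ^ j) n
    have h3 := Finset.sum_range_succ (fun j => T ^ j) n
    rw [h3, hT, pow_zero] at h2
    exact (add_right_cancel h2).symm
  have hEu : E u = (n : F) • u := by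
    have huj : ∀ j : ℕ, (T ^ j) u = u := by
      intro j
      induction j with
      | zero => simp
      | succ j ih => rw [pow_succ, Module.End.mul_apply, (mem_fixSpace T u).mp huF, ih]
    rw [hE, LinearMap.sum_apply]
    simp only [huj]
    rw [Finset.sum_const, Finset.card_range, Nat.cast_smul_eq_nsmul]
  have hEu0 : E u ≠ 0 := by
    rw [hEu]
    exact smul_ne_zero hn0 hu0
  obtain ⟨v, hvF, hEv⟩ : ∃ v, v ∉ fixSpace T ∧ E v ≠ 0 := by
    by_cases hEy : E y = 0
    · refine ⟨u + y, ?_, ?_⟩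
      · intro h
        apply hyF
        have := (fixSpace T).sub_mem h huF
        simpa using this
      · rw [map_add, hEy, add_zero]; exact hEu0
    · exact ⟨y, hyF, hEy⟩
  refine ⟨v, ?_⟩
  set P := Pmat M v with hP
  set S : Submodule F (Fin n → F) := LinearMap.range P.mulVecLin with hS
  have hSinv : ∀ w ∈ S, T w ∈ S := by
    rintro w ⟨c, rfl⟩
    refine ⟨(Cmat F n) *ᵥ c, ?_⟩
    rw [Matrix.mulVecLin_apply, Matrix.mulVecLin_apply, hTv, Matrix.mulVec_mulVec, Matrix.mulVec_mulVec,
      mul_Pmat M v hM]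
  have hvS : v ∈ S := by
    have h0 : 0 < n := hn.pos
    refine ⟨Pi.single ⟨0, h0⟩ 1, ?_⟩
    rw [Matrix.mulVecLin_apply, Matrix.mulVec_single_one]
    ext i
    simp [hP, Pmat]
  have hEvS : E v ∈ S := by
    rw [hE, LinearMap.sum_apply]
    apply Submodule.sum_mem
    intro j _
    exact pow_apply_mem T S hSinv j v hvS
  have hEvF : E v ∈ fixSpace T := by
    rw [mem_fixSpace, ← Module.End.mul_apply, hTE]
  have hinf : 1 ≤ Module.finrank F ↥(S ⊓ fixSpace T) := by
    have : S ⊓ fixSpace T ≠ ⊥ := by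
      intro h
      have hmem : E v ∈ S ⊓ fixSpace T := ⟨hEvS, hEvF⟩
      rw [h, Submodule.mem_bot] at hmem
      exact hEv hmem
    have hpos : 0 < Module.finrank F ↥(S ⊓ fixSpace T) := by
      rw [Nat.pos_iff_ne_zero, Ne, Submodule.finrank_eq_zero]; exact this
    exact hpos
  have hdvd := orderOf_dvd_finrank_sub T hn hq hT S hSinv
  rw [hord] at hdvd
  have hle : Module.finrank F ↥(S ⊓ fixSpace T) ≤ Module.finrank F S := Submodule.finrank_mono inf_le_left
  have hne : Module.finrank F ↥(S ⊓ fixSpace T) ≠ Module.finrank F S := by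
    intro h
    have : S ⊓ fixSpace T = S := Submodule.eq_of_le_of_finrank_eq inf_le_left h
    apply hvF
    have hv' : v ∈ S ⊓ fixSpace T := by rw [this]; exact hvS
    exact hv'.2
  have hSn : Module.finrank F S ≤ n := by
    have := Submodule.finrank_le S
    rwa [Module.finrank_fin_fun] at this
  have hStop : S = ⊤ := by
    apply Submodule.eq_top_of_finrank_eq
    rw [Module.finrank_fin_fun]
    obtain ⟨k, hk⟩ := hdvd
    have hk0 : k ≠ 0 := by
      rintro rfl
      rw [mul_zero] at hk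
      omega
    have : n - 1 ≤ (n - 1) * k := Nat.le_mul_of_pos_right _ (Nat.pos_of_ne_zero hk0)
    omega
  have hsurj : Function.Surjective P.mulVec := by
    intro w
    have : w ∈ S := by rw [hStop]; trivial
    obtain ⟨c, hc⟩ := this
    exact ⟨c, hc⟩
  have hunit := Matrix.mulVec_surjective_iff_isUnit.mp hsurj
  exact ((Matrix.isUnit_iff_isUnit_det P).mp hunit).ne_zero

end Cfsg.Agent.Helper42CyclicConj
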