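import Mathlib
import Cfsg.Agent.Lib.Helper42_E64

/-!
# Three automorphisms of `E64 = 4 ∘ 2^{1+4}` (helper42)

`aut5` of order 5 (fixed points: the centre), `aut3a` of order 3 (fixed points: the centre) and `aut3b`
of order 3 (16 fixed points), all fixing the centre pointwise; everything is checked by `decide`.
-/

set_option autoImplicit false

namespace Cfsg.Agent.Lib.Helper42_E64Aut

open Cfsg.Agent.Lib.Helper42_E64 Cfsg.Agent.Lib.Helper42_E64.E64

/-- `g ^ e` for an exponent in `ZMod 2` -/
def gp (g : E64) (e : ZMod 2) : E64 := if e = 0 then 1 else g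

/-- the endomorphism with prescribed images of the generators `a, b, c, d` (fixing `ι` and `z`) -/
def mk (A B C D : E64) (x : E64) : E64 :=
  gp fT x.t * gp fZ x.s * (gp A x.i * gp B x.j * (gp C x.k * gp D x.l))

theorem normal_form : ∀ x : E64, mk fA fB fC fD x = x := by decide +kernel

/-- order 5 -/
def f5 : E64 → E64 := mk ⟨0, 0, 0, 1, 1, 0⟩ ⟨0, 0, 1, 0, 1, 0⟩ ⟨0, 1, 0, 1, 1, 0⟩ ⟨0, 1, 1, 1, 1, 0⟩

/-- order 3, fixed-point-free modulo the centre -/
def f3a : E64 → E64 := mk fB (fA * fB) fD (fT * fC * fD)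

/-- order 3, with 16 fixed points -/
def f3b : E64 → E64 := mk fB (fA * fB) fC fD

theorem f5_mul : ∀ x y : E64, f5 (x * y) = f5 x * f5 y := by decide +kernel
theorem f3a_mul : ∀ x y : E64, f3a (x * y) = f3a x * f3a y := by decide +kernel
theorem f3b_mul : ∀ x y : E64, f3b (x * y) = f3b x * f3b y := by decide +kernel

def aut5 : E64 →* E64 where
  toFun := f5
  map_one' := by decide +kernel
  map_mul' := f5_mul

def aut3a : E64 →* E64 where
  toFun := f3a
  map_one' := by decide +kernel
  map_mul' := f3a_mul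

def aut3b : E64 →* E64 where
  toFun := f3b
  map_one' := by decide +kernel
  map_mul' := f3b_mul

theorem aut5_apply (x : E64) : aut5 x = f5 x := rfl
theorem aut3a_apply (x : E64) : aut3a x = f3a x := rfl
theorem aut3b_apply (x : E64) : aut3b x = f3b x := rfl

theorem aut5_iter : ∀ x : E64, aut5^[5] x = x := by decide +kernel
theorem aut3a_iter : ∀ x : E64, aut3a^[3] x = x := by decide +kernel
theorem aut3b_iter : ∀ x : E64, aut3b^[3] x = x := by decide +kernel

theorem aut5_cen : ∀ x : E64, IsCen (aut5 x * x⁻¹) → aut5 x = x := by decide +kernel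
theorem aut3a_cen : ∀ x : E64, IsCen (aut3a x * x⁻¹) → aut3a x = x := by decide +kernel
theorem aut3b_cen : ∀ x : E64, IsCen (aut3b x * x⁻¹) → aut3b x = x := by decide +kernel

theorem aut5_card_fix : Fintype.card {x : E64 // aut5 x = x} = 4 := by decide +kernel
theorem aut3a_card_fix : Fintype.card {x : E64 // aut3a x = x} = 4 := by decide +kernel
theorem aut3b_card_fix : Fintype.card {x : E64 // aut3b x = x} = 16 := by decide +kernel

end Cfsg.Agent.Lib.Helper42_E64Aut
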