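import Mathlib
import Cfsg.Agent.Lib.Helper42_E64

/-!
# The commutator pairing of `E64 = 4 ∘ 2^{1+4}` (helper42)

`bet x y ∈ ZMod 2` with `x * y = fZ ^ (bet x y) * (y * x)`; it is bimultiplicative and its radical
is the centre.  An endomorphism all of whose commutators `θ(e)⁻¹ e` commute pairwise is an involution
modulo the centre.
-/

set_option autoImplicit false

namespace Cfsg.Agent.Lib.Helper42_E64Pair

open Cfsg.Agent.Lib.Helper42_E64 Cfsg.Agent.Lib.Helper42_E64.E64

/-- the commutator pairing -/
def bet (x y : E64) : ZMod 2 := x.i * y.j + x.j * y.i + x.k * y.l + x.l * y.k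

theorem comm_iff : ∀ x y : E64, x * y = y * x ↔ bet x y = 0 := by decide +kernel

theorem bet_mul_left (x y z : E64) : bet (x * y) z = bet x z + bet y z := by
  simp only [bet, mul_def]; ring

theorem bet_mul_right (x y z : E64) : bet x (y * z) = bet x y + bet x z := by
  simp only [bet, mul_def]; ring

theorem bet_inv_left (x y : E64) : bet x⁻¹ y = bet x y := by
  simp only [bet, inv_def]

theorem bet_inv_right (x y : E64) : bet x y⁻¹ = bet x y := by
  simp only [bet, inv_def]

theorem isCen_of_bet : ∀ x : E64, (∀ y, bet x y = 0) → IsCen x := by decide +kernel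

theorem isCen_mul : ∀ x y : E64, IsCen x → IsCen y → IsCen (x * y) := by
  intro x y hx hy
  obtain ⟨h1, h2, h3, h4⟩ := hx
  obtain ⟨k1, k2, k3, k4⟩ := hy
  simp only [IsCen, mul_def, h1, h2, h3, h4, k1, k2, k3, k4, add_zero, and_self]

theorem isCen_one : IsCen (1 : E64) := by decide

theorem zmod2_eq_of_iff : ∀ a b : ZMod 2, (a = 0 ↔ b = 0) → a = b := by decide

theorem zmod2_cancel : ∀ a b c d : ZMod 2, a + b + (c + d) = 0 → a = d → b = c := by decide

theorem zmod2_add_self : ∀ a : ZMod 2, a + a = 0 := by decide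

/-- pairwise commuting commutators force `θ² ≡ id` modulo the centre -/
theorem cen_of_comm (θ : E64 → E64) (hmul : ∀ x y, θ (x * y) = θ x * θ y)
    (hinj : Function.Injective θ)
    (hcomm : ∀ e e' : E64, ((θ e)⁻¹ * e) * ((θ e')⁻¹ * e') = ((θ e')⁻¹ * e') * ((θ e)⁻¹ * e)) :
    ∀ e, IsCen (θ (θ e) * e⁻¹) := by
  have hsurj : Function.Surjective θ := Finite.surjective_of_injective hinj
  -- `θ` preserves the pairing
  have hpres : ∀ x y, bet (θ x) (θ y) = bet x y := by
    intro x y
    apply zmod2_eq_of_iff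
    rw [← comm_iff, ← comm_iff, ← hmul, ← hmul]
    exact hinj.eq_iff
  -- the adjoint property
  have hadj : ∀ e e', bet (θ e) e' = bet e (θ e') := by
    intro e e'
    have h := (comm_iff _ _).mp (hcomm e e')
    rw [bet_mul_left, bet_mul_right, bet_mul_right, bet_inv_left, bet_inv_left, bet_inv_right] at h
    exact zmod2_cancel _ _ _ _ h (hpres e e')
  intro e
  apply isCen_of_bet
  intro y
  obtain ⟨e', rfl⟩ := hsurj y
  rw [bet_mul_left, bet_inv_left, hpres, hadj]
  exact zmod2_add_self _

end Cfsg.Agent.Lib.Helper42_E64Pair
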