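import Mathlib
import Cfsg.Prelude.Def_GeometricClasses
import Cfsg.Agent.Lib.Helper42_E64
import Cfsg.Agent.Lib.Helper99_Singer

/-!
# The group `4 ∘ 2^{1+4}` inside `GL_4(F)`: traces, averaging, normalizing elements (helper42)

Port of `Helper42_ES32Mat` to `E64`.  Throughout `ψ : E64 →* GL (Fin 4) F` is injective with
`ψ fT = ι • 1`, `ι * ι = -1`.
-/

set_option autoImplicit false
set_option linter.unusedSimpArgs false
set_option linter.unusedSectionVars false
open scoped MatrixGroups

namespace Cfsg.Agent.Lib.Helper42_ES64Mat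

open Cfsg.Agent.Lib.Helper42_E64 Cfsg.Agent.Lib.Helper42_E64.E64

variable {F : Type*} [Field F]

abbrev J4 := Fin 4

section trace

variable {ψ : E64 →* GL J4 F} (hψ : Function.Injective ψ) {ι : F} (hι : ι * ι = -1)
  (hT : ((ψ fT : GL J4 F) : Matrix J4 J4 F) = ι • (1 : Matrix J4 J4 F))

include hι hT in
theorem psi_fZ : ψ fZ = -1 := by
  apply Units.ext
  rw [← fT_mul_self, map_mul, Units.val_mul, hT, Matrix.smul_mul, Matrix.one_mul, smul_smul, hι]
  simp

include hι hT in
/-- central elements go to scalars -/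
theorem psi_cen {x : E64} (hx : IsCen x) :
    ∃ c : F, ((ψ x : GL J4 F) : Matrix J4 J4 F) = c • (1 : Matrix J4 J4 F) := by
  have hZ := psi_fZ hι hT
  rcases isCen_cases x hx with h | h | h | h
  · exact ⟨1, by rw [h, map_one, one_smul, Units.val_one]⟩
  · exact ⟨ι, by rw [h, hT]⟩
  · exact ⟨-1, by rw [h, hZ]; simp⟩
  · exact ⟨-ι, by rw [h, map_mul, Units.val_mul, hT, hZ]; simp⟩

include hι hT in
theorem trace_psi_eq_zero (h2 : (2 : F) ≠ 0) {x : E64} (hx : ¬ IsCen x) :
    Matrix.trace ((ψ x : GL J4 F) : Matrix J4 J4 F) = 0 := by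
  have hz := psi_fZ hι hT
  rcases E64.center_or x with h | ⟨y, hy⟩
  · exact absurd h hx
  · have e1 := congrArg ψ hy
    rw [map_mul, map_mul, map_mul, hz] at e1
    have e2 : ψ x = -1 * (ψ y * ψ x * (ψ y)⁻¹) := by
      calc ψ x = (ψ x * ψ y) * (ψ y)⁻¹ := by group
        _ = (-1 * (ψ y * ψ x)) * (ψ y)⁻¹ := by rw [e1]
        _ = -1 * (ψ y * ψ x * (ψ y)⁻¹) := by group
    have e3 := congrArg (fun u : GL J4 F => Matrix.trace (u : Matrix J4 J4 F)) e2
    simp only [Units.val_mul, Units.val_neg, Units.val_one, neg_mul, one_mul, Matrix.trace_neg] at e3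
    rw [Matrix.trace_mul_cycle, ← Units.val_mul, inv_mul_cancel, Units.val_one, one_mul] at e3
    have : (2 : F) * Matrix.trace ((ψ x : GL J4 F) : Matrix J4 J4 F) = 0 := by linear_combination e3
    rcases mul_eq_zero.mp this with h | h
    · exact absurd h h2
    · exact h

theorem trace_one_J4 : Matrix.trace (1 : Matrix J4 J4 F) = 4 := by
  simp [Matrix.trace, Fin.sum_univ_four]

theorem trace_psi_one : Matrix.trace ((ψ 1 : GL J4 F) : Matrix J4 J4 F) = 4 := by
  rw [map_one, Units.val_one, trace_one_J4]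

/-- the averaging operator -/
noncomputable def avg (ψ : E64 →* GL J4 F) (M : Matrix J4 J4 F) : Matrix J4 J4 F :=
  ∑ x : E64, ((ψ x : GL J4 F) : Matrix J4 J4 F) * M * (((ψ x)⁻¹ : GL J4 F) : Matrix J4 J4 F)

theorem avg_comm (M : Matrix J4 J4 F) (y : E64) :
    ((ψ y : GL J4 F) : Matrix J4 J4 F) * avg ψ M = avg ψ M * ((ψ y : GL J4 F) : Matrix J4 J4 F) := by
  unfold avg
  rw [Finset.mul_sum, Finset.sum_mul]
  apply Fintype.sum_equiv (Equiv.mulLeft y)
  intro x
  simp only [Equiv.coe_mulLeft, map_mul, mul_inv_rev, Units.val_mul]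
  have : ((ψ y)⁻¹ : GL J4 F).val * (ψ y : GL J4 F).val = 1 := by
    rw [← Units.val_mul, inv_mul_cancel, Units.val_one]
  simp only [Matrix.mul_assoc, this, Matrix.mul_one]

theorem trace_avg (M : Matrix J4 J4 F) : Matrix.trace (avg ψ M) = 64 * Matrix.trace M := by
  unfold avg
  rw [Matrix.trace_sum]
  have : ∀ x : E64, Matrix.trace (((ψ x : GL J4 F) : Matrix J4 J4 F) * M *
      (((ψ x)⁻¹ : GL J4 F) : Matrix J4 J4 F)) = Matrix.trace M := by
    intro x
    rw [Matrix.trace_mul_cycle, ← Units.val_mul, inv_mul_cancel, Units.val_one, Matrix.one_mul]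
  simp only [this, Finset.sum_const, Finset.card_univ, E64.card_eq]
  simp

theorem avg_eq (R : Subgroup (GL J4 F))
    (hRi : Cfsg.Geo.ActsAbsolutelyIrreducibly (Cfsg.Geo.matrixSet R)) (hR : ψ.range = R)
    (h2 : (2 : F) ≠ 0) (M : Matrix J4 J4 F) :
    avg ψ M = (16 * Matrix.trace M) • (1 : Matrix J4 J4 F) := by
  obtain ⟨c, hc⟩ := hRi.2 (avg ψ M) (by
    rintro s ⟨g, hg, rfl⟩
    rw [SetLike.mem_coe, ← hR] at hg
    obtain ⟨y, rfl⟩ := hg
    exact (avg_comm M y).symm)
  have h1 := trace_avg (ψ := ψ) M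
  rw [hc, Matrix.trace_smul, trace_one_J4, smul_eq_mul] at h1
  have h40 : (4 : F) ≠ 0 := by
    have : (4 : F) = 2 * 2 := by norm_num
    rw [this]; exact mul_ne_zero h2 h2
  have : c = 16 * Matrix.trace M := by
    apply mul_right_cancel₀ h40
    linear_combination h1
  rw [hc, this]

end trace

section norm

variable {ψ : E64 →* GL J4 F} (hψ : Function.Injective ψ) {ι : F} (hι : ι * ι = -1)
  (hT : ((ψ fT : GL J4 F) : Matrix J4 J4 F) = ι • (1 : Matrix J4 J4 F))
variable (n : GL J4 F) (hn : ∀ x : E64, ∃ y : E64, n * ψ x * n⁻¹ = ψ y)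

/-- the automorphism of `E64` induced by a normalizing element -/
noncomputable def theta : E64 → E64 := fun x => Classical.choose (hn x)

theorem psi_theta (x : E64) : ψ (theta n hn x) = n * ψ x * n⁻¹ :=
  (Classical.choose_spec (hn x)).symm

include hψ in
theorem theta_mul (x y : E64) : theta n hn (x * y) = theta n hn x * theta n hn y := by
  apply hψ
  rw [map_mul, psi_theta, psi_theta, psi_theta, map_mul]
  group

include hψ in
theorem theta_one : theta n hn 1 = 1 := by
  apply hψ
  rw [psi_theta, map_one]; group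

include hψ hι hT in
/-- central elements are fixed -/
theorem theta_cen {x : E64} (hx : IsCen x) : theta n hn x = x := by
  apply hψ
  rw [psi_theta]
  obtain ⟨c, hc⟩ := psi_cen hι hT hx
  have hcomm : n * ψ x = ψ x * n := by
    apply Units.ext
    rw [Units.val_mul, Units.val_mul, hc]
    simp
  rw [hcomm]; group

include hψ in
theorem theta_injective : Function.Injective (theta n hn) := by
  intro x y h
  have := congrArg ψ h
  rw [psi_theta, psi_theta] at this
  apply hψ
  have h2 : n⁻¹ * (n * ψ x * n⁻¹) * n = n⁻¹ * (n * ψ y * n⁻¹) * n := by rw [this]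
  simpa [mul_assoc] using h2

/-- the permutation of `E64` induced by a normalizing element -/
noncomputable def sigma : Equiv.Perm E64 :=
  Equiv.ofBijective (theta n hn) (Finite.injective_iff_bijective.mp (theta_injective hψ n hn))

theorem sigma_apply (x : E64) : sigma hψ n hn x = theta n hn x := rfl

theorem psi_sigma_pow (k : ℕ) (x : E64) :
    ψ ((sigma hψ n hn ^ k) x) = n ^ k * ψ x * (n ^ k)⁻¹ := by
  induction k generalizing x with
  | zero => simp
  | succ k ih =>
    rw [pow_succ', Equiv.Perm.mul_apply, sigma_apply, psi_theta, ih, pow_succ']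
    group

theorem sigma_pow_eq_one {r : ℕ} {c : F}
    (hc : ((n ^ r : GL J4 F) : Matrix J4 J4 F) = c • (1 : Matrix J4 J4 F)) :
    sigma hψ n hn ^ r = 1 := by
  apply Equiv.ext
  intro x
  rw [Equiv.Perm.one_apply]
  apply hψ
  rw [psi_sigma_pow]
  have hcomm : n ^ r * ψ x = ψ x * n ^ r := by
    apply Units.ext
    rw [Units.val_mul, Units.val_mul, hc]
    simp
  rw [hcomm]; group

theorem sigma_eq_iff (x : E64) : sigma hψ n hn x = x ↔ n * ψ x * n⁻¹ = ψ x := by
  rw [sigma_apply]
  constructor
  · intro h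
    rw [← psi_theta n hn x, h]
  · intro h
    apply hψ
    rw [psi_theta, h]

/-- the fixed points as a subgroup -/
noncomputable def fixSub : Subgroup E64 where
  carrier := {x | theta n hn x = x}
  mul_mem' {a b} ha hb := by
    simp only [Set.mem_ofPred_eq] at *
    rw [theta_mul hψ, ha, hb]
  one_mem' := theta_one hψ n hn
  inv_mem' {a} ha := by
    simp only [Set.mem_ofPred_eq] at *
    have h1 : theta n hn a⁻¹ * theta n hn a = 1 := by
      rw [← theta_mul hψ, inv_mul_cancel, theta_one hψ]
    rw [ha] at h1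
    exact eq_inv_of_mul_eq_one_left h1

/-- the centralizer of an element as a subgroup -/
def centSub (v : E64) : Subgroup E64 where
  carrier := {x | x * v = v * x}
  mul_mem' {a b} ha hb := by
    simp only [Set.mem_ofPred_eq] at *
    rw [mul_assoc, hb, ← mul_assoc, ha, mul_assoc]
  one_mem' := by simp
  inv_mem' {a} ha := by
    simp only [Set.mem_ofPred_eq] at *
    calc a⁻¹ * v = a⁻¹ * (v * a) * a⁻¹ := by group
      _ = a⁻¹ * (a * v) * a⁻¹ := by rw [ha]
      _ = v * a⁻¹ := by group

theorem mem_centSub (v x : E64) : x ∈ centSub v ↔ x * v = v * x := Iff.rfl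

theorem mem_fixSub (x : E64) : x ∈ fixSub hψ n hn ↔ theta n hn x = x := Iff.rfl

theorem orderOf_fT : orderOf fT = 4 := by
  have h4 : fT ^ 4 = 1 := by decide
  have h2 : fT ^ 2 ≠ 1 := by decide
  have hd : orderOf fT ∣ 4 := orderOf_dvd_of_pow_eq_one h4
  have hnd : ¬ orderOf fT ∣ 2 := fun h => h2 (orderOf_dvd_iff_pow_eq_one.mp h)
  have hle := Nat.le_of_dvd (by norm_num) hd
  interval_cases h : orderOf fT
  · simp at hd
  · exact absurd (one_dvd 2) hnd
  · exact absurd (dvd_refl 2) hnd
  · norm_num at hd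
  · rfl

include hι hT in
/-- a subgroup of `E64` of fixed points containing `H0` has order divisible by 4 -/
theorem four_dvd_card_of_le (H : Subgroup E64) (hH : ∀ x, IsCen x → x ∈ H) : 4 ∣ Nat.card H := by
  have h1 : Subgroup.zpowers fT ≤ H := by
    rw [Subgroup.zpowers_le]
    exact hH fT (by decide)
  have h2 := Subgroup.card_dvd_of_le h1
  rwa [Nat.card_zpowers, orderOf_fT] at h2

open Classical in
theorem card_fix_eq : Nat.card (fixSub hψ n hn) = Fintype.card {x : E64 // sigma hψ n hn x = x} := by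
  rw [← Nat.card_eq_fintype_card]
  rfl

open Classical in
theorem card_fix_dvd : Fintype.card {x : E64 // sigma hψ n hn x = x} ∣ 64 := by
  have h1 := Subgroup.card_subgroup_dvd_card (fixSub hψ n hn)
  rw [Nat.card_eq_fintype_card (α := E64), E64.card_eq] at h1
  rwa [card_fix_eq] at h1

include hι hT in
open Classical in
theorem four_dvd_card_fix : 4 ∣ Fintype.card {x : E64 // sigma hψ n hn x = x} := by
  rw [← card_fix_eq]
  exact four_dvd_card_of_le hι hT _ (fun x hx => theta_cen hψ hι hT n hn hx)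

open Classical in
/-- orbit counting -/
theorem card_fix_modEq {r : ℕ} (hr : r.Prime) {c : F}
    (hc : ((n ^ r : GL J4 F) : Matrix J4 J4 F) = c • (1 : Matrix J4 J4 F)) :
    64 ≡ Fintype.card {x : E64 // sigma hψ n hn x = x} [MOD r] := by
  have hσ := sigma_pow_eq_one hψ n hn hc
  have := Cfsg.Agent.Lib.Helper99_Singer.card_modEq_card_fixed (sigma hψ n hn) hr hσ
  rwa [Nat.card_eq_fintype_card, E64.card_eq, Nat.card_eq_fintype_card] at this

include hι hT in
open Classical in
/-- orbit counting inside the centralizer of a fixed non-central element -/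
theorem card_fix_centralizer {r : ℕ} (hr : r.Prime) {c : F}
    (hc : ((n ^ r : GL J4 F) : Matrix J4 J4 F) = c • (1 : Matrix J4 J4 F))
    {v : E64} (hv : ¬ IsCen v) (hfix : theta n hn v = v) :
    ∃ k, 32 ≡ k [MOD r] ∧ 8 ≤ k ∧ k ≤ Fintype.card {x : E64 // sigma hψ n hn x = x} := by
  have hσ := sigma_pow_eq_one hψ n hn hc
  have hp : ∀ x : E64, (sigma hψ n hn x) * v = v * (sigma hψ n hn x) ↔ x * v = v * x := by
    intro x
    rw [sigma_apply]
    nth_rewrite 1 [← hfix]
    nth_rewrite 2 [← hfix]
    rw [← theta_mul hψ, ← theta_mul hψ]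
    exact (theta_injective hψ n hn).eq_iff
  set τ : Equiv.Perm {x : E64 // x * v = v * x} := (sigma hψ n hn).subtypePerm hp with hτ
  have hτr : τ ^ r = 1 := by
    apply Equiv.ext
    intro t
    apply Subtype.ext
    rw [hτ, Equiv.Perm.subtypePerm_pow, Equiv.Perm.subtypePerm_apply]
    show (sigma hψ n hn ^ r) ↑t = ↑t
    rw [hσ]; rfl
  have h1 := Cfsg.Agent.Lib.Helper99_Singer.card_modEq_card_fixed τ hr hτr
  rw [Nat.card_eq_fintype_card, Nat.card_eq_fintype_card] at h1
  have h32 : Fintype.card {x : E64 // x * v = v * x} = 32 := by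
    rw [← E64.card_centralizer v hv]
  rw [h32] at h1
  refine ⟨_, h1, ?_, ?_⟩
  · -- the subgroup of fixed points commuting with `v`
    set H : Subgroup E64 := fixSub hψ n hn ⊓ centSub v with hH
    have hcard : Nat.card H = Fintype.card {t : {x : E64 // x * v = v * x} // τ t = t} := by
      rw [← Nat.card_eq_fintype_card]
      apply Nat.card_congr
      refine ⟨fun x => ⟨⟨x.1, (Subgroup.mem_inf.mp x.2).2⟩, ?_⟩,
        fun t => ⟨t.1.1, Subgroup.mem_inf.mpr ⟨?_, t.1.2⟩⟩, fun x => rfl, fun t => rfl⟩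
      · apply Subtype.ext
        rw [hτ, Equiv.Perm.subtypePerm_apply]
        exact (Subgroup.mem_inf.mp x.2).1
      · have := congrArg Subtype.val t.2
        exact this
    rw [← hcard]
    have h4 : 4 ∣ Nat.card H := by
      apply four_dvd_card_of_le hι hT
      intro x hx
      exact Subgroup.mem_inf.mpr ⟨theta_cen hψ hι hT n hn hx, isCen_comm x v hx⟩
    have hvH : v ∈ H := Subgroup.mem_inf.mpr ⟨hfix, rfl⟩
    have hlt : 4 < Nat.card H := by
      have hle : Subgroup.zpowers fT ≤ H := by
        rw [Subgroup.zpowers_le]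
        exact Subgroup.mem_inf.mpr ⟨theta_cen hψ hι hT n hn (by decide), (fT_central v).symm⟩
      have hne : Subgroup.zpowers fT ≠ H := by
        intro h
        have : v ∈ Subgroup.zpowers fT := by rw [h]; exact hvH
        apply hv
        obtain ⟨k, hk⟩ := Subgroup.mem_zpowers_iff.mp this
        have hcen : ∀ k : ℤ, IsCen (fT ^ k) := by
          intro k
          have h4 : ∀ m : ℕ, IsCen (fT ^ m) := by
            intro m
            induction m with
            | zero => decide
            | succ m ih =>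
              rw [pow_succ]
              revert ih
              generalize fT ^ m = y
              revert y
              decide +kernel
          cases k with
          | ofNat m => simpa using h4 m
          | negSucc m =>
            rw [zpow_negSucc]
            have := h4 (m + 1)
            revert this
            generalize fT ^ (m + 1) = y
            revert y
            decide +kernel
        rw [← hk]
        exact hcen k
      by_contra hcon
      push Not at hcon
      exact hne (Subgroup.eq_of_le_of_card_ge hle (by rw [Nat.card_zpowers, orderOf_fT]; exact hcon))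
    obtain ⟨m, hm⟩ := h4
    omega
  · apply Fintype.card_le_of_injective
      (fun t : {t : {x : E64 // x * v = v * x} // τ t = t} =>
        (⟨((t : {x : E64 // x * v = v * x}) : E64), by
          have := congrArg Subtype.val t.2
          exact this⟩ : {x : E64 // sigma hψ n hn x = x}))
    intro t t' h
    have h' : ((t : {x : E64 // x * v = v * x}) : E64) = ((t' : {x : E64 // x * v = v * x}) : E64) := by
      simpa using congrArg Subtype.val h
    exact Subtype.ext (Subtype.ext h')

include hψ hι hT in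
/-- for odd `r`, `θ x = ζ x` with `ζ` central forces `θ x = x` -/
theorem theta_eq_of_cen {r : ℕ} (hodd : Odd r) {c : F}
    (hc : ((n ^ r : GL J4 F) : Matrix J4 J4 F) = c • (1 : Matrix J4 J4 F)) (x : E64)
    (h : IsCen (x * (theta n hn x)⁻¹)) : theta n hn x = x := by
  have hσ := sigma_pow_eq_one hψ n hn hc
  obtain ⟨ζ, hζ⟩ : ∃ ζ : E64, ζ = (theta n hn x) * x⁻¹ := ⟨_, rfl⟩
  have hζc : IsCen ζ := by
    have : ζ = (x * (theta n hn x)⁻¹)⁻¹ := by rw [hζ]; group
    rw [this]
    revert h
    generalize x * (theta n hn x)⁻¹ = y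
    revert y
    decide +kernel
  have hθx : theta n hn x = ζ * x := by rw [hζ]; group
  have hθζ : ∀ k : ℕ, theta n hn (ζ ^ k) = ζ ^ k := by
    intro k
    induction k with
    | zero => simpa using theta_one hψ n hn
    | succ k ih => rw [pow_succ, theta_mul hψ, ih, theta_cen hψ hι hT n hn hζc]
  have key : ∀ k : ℕ, (sigma hψ n hn ^ k) x = ζ ^ k * x := by
    intro k
    induction k with
    | zero => simp
    | succ k ih =>
      rw [pow_succ', Equiv.Perm.mul_apply, ih, sigma_apply, theta_mul hψ, hθζ, hθx, pow_succ,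
        mul_assoc]
  have h1 := key r
  rw [hσ, Equiv.Perm.one_apply] at h1
  have hζr : ζ ^ r = 1 := by
    have : (1 : E64) * x = ζ ^ r * x := by rw [one_mul]; exact h1
    exact (mul_right_cancel this).symm
  have hζ4 : ζ ^ 4 = 1 := by
    revert hζc
    generalize ζ = y
    revert y
    decide +kernel
  have hζ1 : ζ = 1 := by
    have h1 : orderOf ζ ∣ r := orderOf_dvd_of_pow_eq_one hζr
    have h2 : orderOf ζ ∣ 4 := orderOf_dvd_of_pow_eq_one hζ4
    have h3 : orderOf ζ ∣ Nat.gcd r 4 := Nat.dvd_gcd h1 h2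
    have h4 : Nat.gcd r 4 = 1 := by
      have : Nat.Coprime r 2 := Nat.coprime_two_right.mpr hodd
      exact Nat.Coprime.pow_right 2 this
    rw [h4, Nat.dvd_one, orderOf_eq_one_iff] at h3
    exact h3
  rw [hθx, hζ1, one_mul]

include hι hT in
open Classical in
/-- the trace formula -/
theorem trace_formula (R : Subgroup (GL J4 F))
    (hRi : Cfsg.Geo.ActsAbsolutelyIrreducibly (Cfsg.Geo.matrixSet R)) (hR : ψ.range = R)
    (h2 : (2 : F) ≠ 0) (hcen : ∀ x, IsCen (x * (theta n hn x)⁻¹) → theta n hn x = x) :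
    4 * Matrix.trace (n : Matrix J4 J4 F) * Matrix.trace ((n⁻¹ : GL J4 F) : Matrix J4 J4 F) =
      (Fintype.card {x : E64 // sigma hψ n hn x = x} : F) := by
  have h1 := avg_eq R hRi hR h2 (n : Matrix J4 J4 F)
  have h3 := congrArg (fun M : Matrix J4 J4 F => Matrix.trace (M * ((n⁻¹ : GL J4 F) : Matrix J4 J4 F))) h1
  simp only [Matrix.smul_mul, Matrix.one_mul, Matrix.trace_smul, smul_eq_mul] at h3
  have hterm : ∀ x : E64, Matrix.trace (((ψ x : GL J4 F) : Matrix J4 J4 F) * (n : Matrix J4 J4 F) *
      (((ψ x)⁻¹ : GL J4 F) : Matrix J4 J4 F) * ((n⁻¹ : GL J4 F) : Matrix J4 J4 F)) =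
      if sigma hψ n hn x = x then 4 else 0 := by
    intro x
    have e1 : ((ψ x : GL J4 F) : Matrix J4 J4 F) * (n : Matrix J4 J4 F) *
        (((ψ x)⁻¹ : GL J4 F) : Matrix J4 J4 F) * ((n⁻¹ : GL J4 F) : Matrix J4 J4 F)
        = ((ψ (x * (theta n hn x)⁻¹) : GL J4 F) : Matrix J4 J4 F) := by
      rw [map_mul, map_inv, psi_theta]
      simp only [Units.val_mul, mul_inv_rev, inv_inv, Matrix.mul_assoc]
    rw [e1]
    by_cases hx : sigma hψ n hn x = x
    · rw [if_pos hx]
      rw [sigma_apply] at hx
      rw [hx, mul_inv_cancel]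
      exact trace_psi_one
    · rw [if_neg hx]
      apply trace_psi_eq_zero hι hT h2
      intro h
      exact hx (hcen x h)
  have hsum : Matrix.trace (avg ψ (n : Matrix J4 J4 F) * ((n⁻¹ : GL J4 F) : Matrix J4 J4 F)) =
      4 * (Fintype.card {x : E64 // sigma hψ n hn x = x} : F) := by
    unfold avg
    rw [Finset.sum_mul, Matrix.trace_sum]
    simp only [hterm]
    rw [Finset.sum_ite, Finset.sum_const_zero, add_zero, Finset.sum_const, nsmul_eq_mul,
      Fintype.card_subtype]
    ring
  rw [hsum] at h3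
  have h40 : (4 : F) ≠ 0 := by
    have : (4 : F) = 2 * 2 := by norm_num
    rw [this]; exact mul_ne_zero h2 h2
  apply mul_left_cancel₀ h40
  linear_combination -h3

open Classical in
/-- if all of `E64` is fixed, the element is a scalar -/
theorem scalar_of_card_fix (R : Subgroup (GL J4 F))
    (hRi : Cfsg.Geo.ActsAbsolutelyIrreducibly (Cfsg.Geo.matrixSet R)) (hR : ψ.range = R)
    (h64 : Fintype.card {x : E64 // sigma hψ n hn x = x} = 64) :
    ∃ c : F, (n : Matrix J4 J4 F) = c • (1 : Matrix J4 J4 F) := by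
  have hall : ∀ x : E64, sigma hψ n hn x = x := by
    have h1 : Fintype.card {x : E64 // sigma hψ n hn x = x} = Fintype.card E64 := by
      rw [h64, E64.card_eq]
    intro x
    by_contra hx
    have := Fintype.card_subtype_lt (p := fun x : E64 => sigma hψ n hn x = x) hx
    omega
  apply hRi.2
  rintro s ⟨g, hg, rfl⟩
  rw [SetLike.mem_coe, ← hR] at hg
  obtain ⟨x, rfl⟩ := hg
  have := (sigma_eq_iff hψ n hn x).mp (hall x)
  have h2 : n * ψ x = ψ x * n := by
    calc n * ψ x = (n * ψ x * n⁻¹) * n := by group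
      _ = ψ x * n := by rw [this]
  have := congrArg (fun u : GL J4 F => (u : Matrix J4 J4 F)) h2
  simpa using this

end norm

end Cfsg.Agent.Lib.Helper42_ES64Mat
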