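import Mathlib
import Cfsg.Prelude.Def_Characters
import Cfsg.Agent.Lib.Helper80_CharBasic
import Cfsg.Agent.Lib.Helper6_GL23Defs

/-!
S0197 package SYL (architect helper6): a Sylow 2-subgroup containing `a` has order 16.
-/

set_option autoImplicit false
set_option linter.unusedSectionVars false
open scoped ComplexConjugate

namespace Cfsg.Agent.Lib.Helper53_GL23_SYL

open Cfsg Cfsg.Agent.Lib.Helper80_CharBasic Cfsg.Agent.Lib.Helper6_GL23Defs

section grp
variable {G : Type*} [Group G] [Finite G]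

variable {t a s : G}

/-- the centralizer of `a` is `⟨a⟩` -/
theorem centralizer_a_eq (h : Loc G t a s) :
    Subgroup.centralizer ({a} : Set G) = Subgroup.zpowers a := by
  have hle : Subgroup.zpowers a ≤ Subgroup.centralizer ({a} : Set G) := by
    rw [Subgroup.zpowers_le]
    exact Subgroup.mem_centralizer_singleton_iff.mpr rfl
  have hcard : Nat.card (Subgroup.centralizer ({a} : Set G)) ≤ Nat.card (Subgroup.zpowers a) := by
    rw [h.ca, Nat.card_zpowers, h.oa]
  exact (Subgroup.eq_of_le_of_card_ge hle hcard).symm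

/-- a non-trivial power of `a` has a power equal to `t` -/
theorem exists_pow_eq_t (h : Loc G t a s) {z : G} (hz : z ∈ Subgroup.zpowers a) (hz1 : z ≠ 1) :
    ∃ m : ℕ, z ^ m = t := by
  classical
  have ha8 : a ^ 8 = 1 := by rw [← h.oa]; exact pow_orderOf_eq_one a
  have hpw : z ∈ Submonoid.powers a := (mem_powers_iff_mem_zpowers).mpr hz
  rw [mem_powers_iff_mem_range_orderOf, h.oa] at hpw
  obtain ⟨k, hk, rfl⟩ := Finset.mem_image.mp hpw
  rw [Finset.mem_range] at hk
  have e12 : a ^ 12 = a ^ 4 := by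
    rw [show 12 = 8 + 4 from rfl, pow_add, ha8, one_mul]
  have e20 : a ^ 20 = a ^ 4 := by
    rw [show 20 = 8 + 12 from rfl, pow_add, ha8, one_mul, e12]
  have e28 : a ^ 28 = a ^ 4 := by
    rw [show 28 = 8 + 20 from rfl, pow_add, ha8, one_mul, e20]
  interval_cases k
  · exact absurd (pow_zero a) hz1
  · exact ⟨4, by rw [pow_one]; exact h.a4⟩
  · exact ⟨2, by rw [← pow_mul]; exact h.a4⟩
  · exact ⟨4, by rw [← pow_mul, show 3 * 4 = 12 from rfl, e12]; exact h.a4⟩
  · exact ⟨1, by rw [pow_one]; exact h.a4⟩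
  · exact ⟨4, by rw [← pow_mul, show 5 * 4 = 20 from rfl, e20]; exact h.a4⟩
  · exact ⟨2, by rw [← pow_mul, show 6 * 2 = 12 from rfl, e12]; exact h.a4⟩
  · exact ⟨4, by rw [← pow_mul, show 7 * 4 = 28 from rfl, e28]; exact h.a4⟩

/-! ### SYL -/
theorem sylow_card (h : Loc G t a s) (S : Sylow 2 G) (ha : a ∈ (S : Subgroup G)) :
    Nat.card (S : Subgroup G) = 16 := by
  classical
  have ha1 : a ≠ 1 := by
    intro h1
    have := h.oa
    rw [h1, orderOf_one] at this
    omega
  -- the centre of `S` is non-trivial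
  have : Nontrivial ↥(S : Subgroup G) :=
    ⟨⟨⟨a, ha⟩, 1, fun h1 => ha1 (congrArg Subtype.val h1)⟩⟩
  have : Fact (Nat.Prime 2) := ⟨Nat.prime_two⟩
  have := IsPGroup.center_nontrivial (S.isPGroup')
  obtain ⟨z, hz1⟩ := exists_ne (1 : ↥(Subgroup.center ↥(S : Subgroup G)))
  have hzc : ∀ g : ↥(S : Subgroup G), g * (z : ↥(S : Subgroup G)) = (z : ↥(S : Subgroup G)) * g :=
    fun g => Subgroup.mem_center_iff.mp z.2 g
  set z' : G := ((z : ↥(S : Subgroup G)) : G) with hz'
  have hz'1 : z' ≠ 1 := by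
    intro h1
    apply hz1
    apply Subtype.ext
    apply Subtype.ext
    exact h1
  have hz'c : ∀ g ∈ (S : Subgroup G), g * z' = z' * g := by
    intro g hg
    have := hzc ⟨g, hg⟩
    exact congrArg Subtype.val this
  have hz'a : z' ∈ Subgroup.zpowers a := by
    rw [← centralizer_a_eq h, Subgroup.mem_centralizer_singleton_iff]
    exact (hz'c a ha).symm
  obtain ⟨m, hm⟩ := exists_pow_eq_t h hz'a hz'1
  -- `S ≤ C_G(t)`
  have hSle : (S : Subgroup G) ≤ Subgroup.centralizer ({t} : Set G) := by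
    intro g hg
    rw [Subgroup.mem_centralizer_singleton_iff, ← hm]
    have hc : Commute g z' := hz'c g hg
    exact (hc.pow_right m).eq
  have hdvd48 : Nat.card (S : Subgroup G) ∣ 48 := by
    rw [← h.ct]
    exact Subgroup.card_dvd_of_le hSle
  have h48 : 48 ∣ Nat.card G := by
    rw [← h.ct]
    exact Subgroup.card_subgroup_dvd_card _
  have hcard := S.card_eq_multiplicity
  have hGpos : Nat.card G ≠ 0 := Nat.card_pos.ne'
  have h4 : 4 ≤ (Nat.card G).factorization 2 := by
    apply (Nat.Prime.pow_dvd_iff_le_factorization Nat.prime_two hGpos).mp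
    exact Dvd.dvd.trans (by norm_num) h48
  have h5 : (Nat.card G).factorization 2 ≤ 4 := by
    by_contra hcon
    push Not at hcon
    have h32 : 2 ^ 5 ∣ Nat.card (S : Subgroup G) := by
      rw [hcard]
      exact pow_dvd_pow 2 hcon
    have := Dvd.dvd.trans h32 hdvd48
    norm_num at this
  have h6 : (Nat.card G).factorization 2 = 4 := le_antisymm h5 h4
  rw [hcard, h6]
  norm_num

end grp

end Cfsg.Agent.Lib.Helper53_GL23_SYL
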