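import Mathlib
import Cfsg.Prelude.Def_Characters
import Cfsg.Agent.Lib.Helper80_CharBasic
import Cfsg.Agent.Lib.Helper6_GL23Defs
import Cfsg.Agent.Lib.Helper55_TransferGen
import Cfsg.Agent.Lib.Helper53_GL23_SYL

/-!
# S0197 package FUS (helper42, for architect helper6)

In a simple group with the local data `Loc G t a s` all involutions are conjugate to `t`
(generalized Thompson transfer with `M = ⟨a⟩` of index 2 in a Sylow 2-subgroup of order 16).
-/

set_option autoImplicit false
set_option linter.unusedSectionVars false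
open scoped ComplexConjugate

namespace Cfsg.Agent.Lib.Helper42_GL23_FUS

open Cfsg Cfsg.Agent.Lib.Helper80_CharBasic Cfsg.Agent.Lib.Helper6_GL23Defs

section grp
variable {G : Type*} [Group G] [Finite G]
variable {t a s : G}

/-- the only involution of `⟨a⟩` (`a` of order 8) is `a ^ 4` -/
theorem inv_of_mem_zpowers (ha : orderOf a = 8) {z : G} (hz : z ∈ Subgroup.zpowers a)
    (hz2 : orderOf z = 2) : z = a ^ 4 := by
  obtain ⟨k, rfl⟩ := Subgroup.mem_zpowers_iff.mp hz
  have hmod : a ^ (k % ((orderOf a : ℕ) : ℤ)) = a ^ k := zpow_mod_orderOf a k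
  rw [ha] at hmod
  have hnn : 0 ≤ k % 8 := Int.emod_nonneg _ (by norm_num)
  have hlt : k % 8 < 8 := Int.emod_lt_of_pos _ (by norm_num)
  obtain ⟨m, hm⟩ : ∃ m : ℕ, (m : ℤ) = k % 8 := ⟨(k % 8).toNat, Int.toNat_of_nonneg hnn⟩
  have hm8 : m < 8 := by omega
  have hkm : a ^ k = a ^ m := by
    rw [← hmod]
    norm_num
    rw [← hm, zpow_natCast]
  rw [hkm] at hz2 ⊢
  have h2 : (a ^ m) ^ 2 = 1 := by rw [← hz2]; exact pow_orderOf_eq_one _
  rw [← pow_mul] at h2
  have hdvd : 8 ∣ m * 2 := by rw [← ha]; exact orderOf_dvd_of_pow_eq_one h2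
  have hm04 : m = 0 ∨ m = 4 := by omega
  rcases hm04 with rfl | rfl
  · rw [pow_zero, orderOf_one] at hz2
    exact absurd hz2 (by norm_num)
  · rfl

/-- FUS with the statement of SYL as a hypothesis -/
theorem inv_conj_aux [IsSimpleGroup G] (h : Loc G t a s)
    (hsyl : ∀ S : Sylow 2 G, a ∈ (S : Subgroup G) → Nat.card (S : Subgroup G) = 16) :
    ∀ x : G, orderOf x = 2 → IsConj t x := by
  classical
  intro x hx
  by_contra hnc
  have : Fact (Nat.Prime 2) := ⟨Nat.prime_two⟩
  -- a Sylow 2-subgroup containing `a`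
  have hpg : IsPGroup 2 (Subgroup.zpowers a) := by
    rw [IsPGroup.iff_card]
    exact ⟨3, by rw [Nat.card_zpowers, h.oa]; norm_num⟩
  obtain ⟨S, hS⟩ := hpg.exists_le_sylow
  have haS : a ∈ (S : Subgroup G) := hS (Subgroup.mem_zpowers a)
  have hcardS := hsyl S haS
  have hMi : (Subgroup.zpowers a).relIndex (S : Subgroup G) = 2 := by
    have h1 := ((Subgroup.zpowers a).subgroupOf (S : Subgroup G)).card_mul_index
    rw [Nat.card_congr (Subgroup.subgroupOfEquivOfLe hS).toEquiv, hcardS, Nat.card_zpowers,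
      h.oa] at h1
    unfold Subgroup.relIndex
    omega
  have hx2 : x ^ 2 = 1 := by rw [← hx]; exact pow_orderOf_eq_one x
  obtain ⟨K, hKn, hKi, -⟩ := Cfsg.Agent.Lib.Helper55_TransferGen.exists_normal_index_two S
    (Subgroup.zpowers a) hMi x (by
      intro y n hyS
      constructor
      · intro hyM
        by_contra hodd
        rw [Nat.not_even_iff_odd] at hodd
        obtain ⟨j, rfl⟩ := hodd
        have hxn : x ^ (2 * j + 1) = x := by
          rw [pow_succ, pow_mul, hx2, one_pow, one_mul]
        rw [hxn] at hyM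
        have hord : orderOf (y⁻¹ * x * y) = 2 := by
          have hsc : SemiconjBy y⁻¹ x (y⁻¹ * x * y) := by
            unfold SemiconjBy
            group
          rw [← hsc.orderOf_eq, hx]
        have := inv_of_mem_zpowers h.oa hyM hord
        rw [h.a4] at this
        apply hnc
        rw [isConj_iff]
        refine ⟨y, ?_⟩
        rw [← this]
        group
      · rintro ⟨j, rfl⟩
        have hxn : x ^ (j + j) = 1 := by
          rw [← two_mul, pow_mul, hx2, one_pow]
        rw [hxn, mul_one, inv_mul_cancel]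
        exact Subgroup.one_mem _)
  -- contradiction with simplicity
  have h48 : 48 ∣ Nat.card G := by
    rw [← h.ct]
    exact Subgroup.card_subgroup_dvd_card _
  rcases hKn.eq_bot_or_eq_top with hK | hK
  · rw [hK, Subgroup.index_bot] at hKi
    rw [hKi] at h48
    omega
  · rw [hK, Subgroup.index_top] at hKi
    omega

/-! ### FUS -/
theorem inv_conj [IsSimpleGroup G] (h : Loc G t a s) :
    ∀ x : G, orderOf x = 2 → IsConj t x :=
  inv_conj_aux h (fun S ha => Cfsg.Agent.Lib.Helper53_GL23_SYL.sylow_card h S ha)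

end grp

end Cfsg.Agent.Lib.Helper42_GL23_FUS
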