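import Mathlib
import Cfsg.Agent.Lib.Helper42_CubeNF

set_option autoImplicit false

/-!
# The Heisenberg group `3^{1+2}` inside `GL₃(F)`: eigenbasis frame

(helper42) For S5998: matrices `A B C` with `A³ = B³ = C³ = 1`, `C ≠ 1` central, `AB = CBA` are
simultaneously conjugate to `λ·diag(1, μ, μ²)`, the cyclic shift and the scalar `μ`.
-/

namespace Cfsg.Agent.Helper42Heis3

open Matrix Cfsg.Agent.Helper42CubeNF

variable {F : Type*} [Field F]

/-- the cyclic shift `e₀ ↦ e₁ ↦ e₂ ↦ e₀` -/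
def Smat : Matrix (Fin 3) (Fin 3) F := !![0, 0, 1; 1, 0, 0; 0, 1, 0]

theorem cols_mul_Smat (v0 v1 v2 : Fin 3 → F) : cols v0 v1 v2 * Smat = cols v1 v2 v0 := by
  ext i j
  fin_cases j <;> simp [cols, Smat, Matrix.mul_apply, Fin.sum_univ_three]

theorem cols_mul_smul_nfD (v0 v1 v2 : Fin 3 → F) (l w : F) :
    cols v0 v1 v2 * (l • nfD w) = cols (l • v0) ((l * w) • v1) ((l * w ^ 2) • v2) := by
  rw [Matrix.mul_smul, cols_mul_nfD]
  ext i j
  fin_cases j <;> simp [cols, mul_assoc]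

theorem smul_cols (c : F) (v0 v1 v2 : Fin 3 → F) : c • cols v0 v1 v2 = cols (c • v0) (c • v1) (c • v2) := by
  ext i j
  fin_cases j <;> simp [cols]

/-- a non-identity matrix of cube one has an eigenvector for a primitive cube root of unity -/
theorem exists_eigen_prim (w : F) (hw : w ^ 2 + w + 1 = 0) (C : Matrix (Fin 3) (Fin 3) F)
    (hC3 : C * C * C = 1) (hC1 : C ≠ 1) :
    ∃ μ : F, μ ^ 2 + μ + 1 = 0 ∧ ∃ v : Fin 3 → F, v ≠ 0 ∧ C *ᵥ v = μ • v := by
  obtain ⟨u, hu⟩ : ∃ u : Fin 3 → F, C *ᵥ u ≠ u := by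
    by_contra hcon
    push Not at hcon
    apply hC1
    apply Matrix.mulVec_injective
    funext v
    rw [hcon v, Matrix.one_mulVec]
  set u' := C *ᵥ u - u with hu'
  have hu'0 : u' ≠ 0 := sub_ne_zero.mpr hu
  have hS : C *ᵥ (C *ᵥ u') = -u' - C *ᵥ u' := by
    have h3' : C *ᵥ (C *ᵥ (C *ᵥ u)) = u := by
      rw [Matrix.mulVec_mulVec, Matrix.mulVec_mulVec, hC3, Matrix.one_mulVec]
    rw [hu', Matrix.mulVec_sub, Matrix.mulVec_sub, h3']
    abel
  by_cases hy : C *ᵥ u' - w ^ 2 • u' = 0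
  · refine ⟨w ^ 2, by linear_combination (w ^ 2 - w + 1) * hw, u', hu'0, sub_eq_zero.mp hy⟩
  · refine ⟨w, hw, C *ᵥ u' - w ^ 2 • u', hy, ?_⟩
    rw [Matrix.mulVec_sub, Matrix.mulVec_smul, hS, smul_sub, smul_smul]
    have h1 : w * w ^ 2 = 1 := by linear_combination (w - 1) * hw
    have h2 : -(1 : F) - w ^ 2 = w := by linear_combination -hw
    rw [h1, one_smul]
    have : -u' - C *ᵥ u' - w ^ 2 • C *ᵥ u' = (-(1 : F) - w ^ 2) • C *ᵥ u' - u' := by
      rw [sub_smul, neg_smul, one_smul]; abel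
    rw [this, h2]

/-- inside an eigenspace of a commuting matrix, a matrix of cube one has an eigenvector -/
theorem exists_common_eigen (w : F) (hw : w ^ 2 + w + 1 = 0) (h3ne : (3 : F) ≠ 0)
    (A C : Matrix (Fin 3) (Fin 3) F) (hA : A * A * A = 1) (hCA : C * A = A * C) (μ : F)
    (v : Fin 3 → F) (hv : v ≠ 0) (hCv : C *ᵥ v = μ • v) :
    ∃ l : F, l ^ 3 = 1 ∧ ∃ v0 : Fin 3 → F, v0 ≠ 0 ∧ A *ᵥ v0 = l • v0 ∧ C *ᵥ v0 = μ • v0 := by
  have hw3 : w ^ 3 = 1 := by linear_combination (w - 1) * hw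
  have hA3 : A *ᵥ (A *ᵥ (A *ᵥ v)) = v := by
    rw [Matrix.mulVec_mulVec, Matrix.mulVec_mulVec, hA, Matrix.one_mulVec]
  have hCAv : C *ᵥ (A *ᵥ v) = μ • (A *ᵥ v) := by
    rw [Matrix.mulVec_mulVec, hCA, ← Matrix.mulVec_mulVec, hCv, Matrix.mulVec_smul]
  have hCAAv : C *ᵥ (A *ᵥ (A *ᵥ v)) = μ • (A *ᵥ (A *ᵥ v)) := by
    rw [Matrix.mulVec_mulVec, hCA, ← Matrix.mulVec_mulVec, hCAv, Matrix.mulVec_smul]
  -- the three candidates
  have key : ∀ l : F, l ^ 3 = 1 → v + l ^ 2 • (A *ᵥ v) + l • (A *ᵥ (A *ᵥ v)) ≠ 0 →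
      ∃ l : F, l ^ 3 = 1 ∧ ∃ v0 : Fin 3 → F, v0 ≠ 0 ∧ A *ᵥ v0 = l • v0 ∧ C *ᵥ v0 = μ • v0 := by
    intro l hl hne
    refine ⟨l, hl, _, hne, ?_, ?_⟩
    · rw [Matrix.mulVec_add, Matrix.mulVec_add, Matrix.mulVec_smul, Matrix.mulVec_smul, hA3,
        smul_add, smul_add, smul_smul, smul_smul]
      have h1 : l * l ^ 2 = 1 := by rw [← hl]; ring
      rw [h1, one_smul, ← sq]
      abel
    · rw [Matrix.mulVec_add, Matrix.mulVec_add, Matrix.mulVec_smul, Matrix.mulVec_smul, hCv, hCAv, hCAAv,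
        smul_add, smul_add, smul_comm μ (l ^ 2), smul_comm μ l]
  by_cases h1 : v + (1 : F) ^ 2 • (A *ᵥ v) + (1 : F) • (A *ᵥ (A *ᵥ v)) = 0
  · by_cases h2 : v + w ^ 2 • (A *ᵥ v) + w • (A *ᵥ (A *ᵥ v)) = 0
    · apply key (w ^ 2) (by linear_combination (w ^ 3 + 1) * hw3)
      intro h3
      apply hv
      have hsum : (3 : F) • v = 0 := by
        have h4 : (w ^ 2) ^ 2 = w := by linear_combination w * hw3
        rw [h4] at h3
        have := congrArg₂ (· + ·) (congrArg₂ (· + ·) h1 h2) h3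
        simp only [add_zero, one_pow, one_smul] at this
        have h5 : v + A *ᵥ v + A *ᵥ (A *ᵥ v) + (v + w ^ 2 • A *ᵥ v + w • A *ᵥ (A *ᵥ v)) +
            (v + w • A *ᵥ v + w ^ 2 • A *ᵥ (A *ᵥ v)) =
            (3 : F) • v + (w ^ 2 + w + 1) • (A *ᵥ v) + (w ^ 2 + w + 1) • (A *ᵥ (A *ᵥ v)) := by
          simp only [add_smul, one_smul]
          rw [show (3 : F) = 1 + 1 + 1 by norm_num]
          simp only [add_smul, one_smul]
          abel
        rw [h5, hw, zero_smul, zero_smul, add_zero, add_zero] at this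
        exact this
      rcases smul_eq_zero.mp hsum with h | h
      · exact absurd h h3ne
      · exact h
    · exact key w hw3 h2
  · exact key 1 (by simp) h1

/-- **Frame**: simultaneous normal form for a Heisenberg triple. -/
theorem exists_frame (w : F) (hw : w ^ 2 + w + 1 = 0) (h3ne : (3 : F) ≠ 0)
    (A B C : Matrix (Fin 3) (Fin 3) F) (hA : A * A * A = 1) (hB : B * B * B = 1)
    (hC3 : C * C * C = 1) (hC1 : C ≠ 1) (hAB : A * B = C * B * A) (hCA : C * A = A * C)
    (hCB : C * B = B * C) :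
    ∃ (μ l : F) (P : Matrix (Fin 3) (Fin 3) F), μ ^ 2 + μ + 1 = 0 ∧ l ^ 3 = 1 ∧ det P ≠ 0 ∧
      A * P = P * (l • nfD μ) ∧ B * P = P * Smat ∧ C = μ • (1 : Matrix (Fin 3) (Fin 3) F) := by
  obtain ⟨μ, hμ, v, hv, hCv⟩ := exists_eigen_prim w hw C hC3 hC1
  obtain ⟨l, hl, v0, hv0, hAv0, hCv0⟩ := exists_common_eigen w hw h3ne A C hA hCA μ v hv hCv
  have hμ3 : μ ^ 3 = 1 := by linear_combination (μ - 1) * hμ
  have hμ1 : μ ≠ 1 := by
    rintro rfl
    apply h3ne; linear_combination hμ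
  have hl0 : l ≠ 0 := by
    rintro rfl
    simp at hl
  set v1 := B *ᵥ v0 with hv1
  set v2 := B *ᵥ v1 with hv2
  have hBv2 : B *ᵥ v2 = v0 := by
    rw [hv2, hv1, Matrix.mulVec_mulVec, Matrix.mulVec_mulVec, hB, Matrix.one_mulVec]
  have hCv1 : C *ᵥ v1 = μ • v1 := by
    rw [hv1, Matrix.mulVec_mulVec, hCB, ← Matrix.mulVec_mulVec, hCv0, Matrix.mulVec_smul]
  have hCv2 : C *ᵥ v2 = μ • v2 := by
    rw [hv2, Matrix.mulVec_mulVec, hCB, ← Matrix.mulVec_mulVec, hCv1, Matrix.mulVec_smul]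
  have hAv1 : A *ᵥ v1 = (l * μ) • v1 := by
    rw [hv1, Matrix.mulVec_mulVec, hAB, ← Matrix.mulVec_mulVec, hAv0, Matrix.mulVec_smul,
      ← Matrix.mulVec_mulVec, ← hv1, hCv1, smul_smul]
  have hAv2 : A *ᵥ v2 = (l * μ ^ 2) • v2 := by
    rw [hv2, Matrix.mulVec_mulVec, hAB, ← Matrix.mulVec_mulVec, hAv1, Matrix.mulVec_smul,
      ← Matrix.mulVec_mulVec, ← hv2, hCv2, smul_smul]
    congr 1; ring
  have hv1ne : v1 ≠ 0 := by
    intro h
    apply hv0
    rw [← hBv2, hv2, h, Matrix.mulVec_zero, Matrix.mulVec_zero]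
  have hv2ne : v2 ≠ 0 := by
    intro h
    apply hv0
    rw [← hBv2, h, Matrix.mulVec_zero]
  have hdet : det (cols v0 v1 v2) ≠ 0 := by
    apply det_cols_ne_zero
    intro c hc
    have hli : LinearIndependent F ![v0, v1, v2] := by
      apply Module.End.eigenvectors_linearIndependent' (Matrix.toLin' A) ![l, l * μ, l * μ ^ 2]
      · intro i j hij
        have e1 : l ≠ l * μ := by
          intro h
          apply hμ1
          have : l * (μ - 1) = 0 := by linear_combination -h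
          rcases mul_eq_zero.mp this with h0 | h0
          · exact absurd h0 hl0
          · exact sub_eq_zero.mp h0
        have e2 : l ≠ l * μ ^ 2 := by
          intro h
          have : l * ((μ - 1) * (μ + 1)) = 0 := by linear_combination -h
          rcases mul_eq_zero.mp this with h0 | h0
          · exact absurd h0 hl0
          · rcases mul_eq_zero.mp h0 with h1 | h1
            · exact hμ1 (sub_eq_zero.mp h1)
            · have hm : μ = -1 := by linear_combination h1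
              rw [hm] at hμ
              norm_num at hμ
        have e3 : l * μ ≠ l * μ ^ 2 := by
          intro h
          have : l * μ * (μ - 1) = 0 := by linear_combination -h
          rcases mul_eq_zero.mp this with h0 | h0
          · rcases mul_eq_zero.mp h0 with h1 | h1
            · exact absurd h1 hl0
            · rw [h1] at hμ3; simp at hμ3
          · exact hμ1 (sub_eq_zero.mp h0)
        fin_cases i <;> fin_cases j
        · rfl
        · exact absurd (show l = l * μ from hij) e1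
        · exact absurd (show l = l * μ ^ 2 from hij) e2
        · exact absurd (show l * μ = l from hij).symm e1
        · rfl
        · exact absurd (show l * μ = l * μ ^ 2 from hij) e3
        · exact absurd (show l * μ ^ 2 = l from hij).symm e2
        · exact absurd (show l * μ ^ 2 = l * μ from hij).symm e3
        · rfl
      · intro i
        fin_cases i
        · exact Module.End.hasEigenvector_iff.mpr ⟨Module.End.mem_eigenspace_iff.mpr (by simpa using hAv0), hv0⟩
        · exact Module.End.hasEigenvector_iff.mpr ⟨Module.End.mem_eigenspace_iff.mpr (by simpa using hAv1), hv1ne⟩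
        · exact Module.End.hasEigenvector_iff.mpr ⟨Module.End.mem_eigenspace_iff.mpr (by simpa using hAv2), hv2ne⟩
    have := Fintype.linearIndependent_iff.mp hli c (by simpa [Fin.sum_univ_three, add_assoc] using hc)
    ext i; exact this i
  refine ⟨μ, l, cols v0 v1 v2, hμ, hl, hdet, ?_, ?_, ?_⟩
  · rw [mul_cols, cols_mul_smul_nfD, hAv0, hAv1, hAv2]
  · rw [mul_cols, cols_mul_Smat, hBv2]
  · have hCP : C * cols v0 v1 v2 = (μ • (1 : Matrix (Fin 3) (Fin 3) F)) * cols v0 v1 v2 := by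
      rw [mul_cols, hCv0, hCv1, hCv2, Matrix.smul_mul, one_mul, smul_cols]
    have hu : IsUnit (det (cols v0 v1 v2)) := isUnit_iff_ne_zero.mpr hdet
    have := congrArg (fun X => X * (cols v0 v1 v2)⁻¹) hCP
    simp only [mul_assoc, Matrix.mul_nonsing_inv _ hu, mul_one] at this
    exact this

end Cfsg.Agent.Helper42Heis3
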