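import Mathlib
import Cfsg.Agent.Lib.Helper42_CubeNF

set_option autoImplicit false

/-!
# 3 × 3 matrices with a quadratic minimal polynomial `(X - κ₁)(X - κ₂)`

(helper42) Normal form `diag(κ₂, κ₁, κ₁)` detected by `s2 (M - κ₂) ≠ 0`; involutions of `SL₃`; elements
`M` with `M³ = 1` and `det M` a primitive cube root of unity.  For S5998.
-/

namespace Cfsg.Agent.Helper42QuadNF

open Matrix Cfsg.Agent.Helper42CubeNF

variable {F : Type*} [Field F]

theorem s2_sub_smul (M : Matrix (Fin 3) (Fin 3) F) (c : F) :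
    s2 (M - c • (1 : Matrix (Fin 3) (Fin 3) F)) = s2 M - 2 * c * trace M + 3 * c ^ 2 := by
  simp [s2, Matrix.trace_fin_three]
  ring

theorem indep_of_minor (B : Matrix (Fin 3) (Fin 3) F) (i j : Fin 3)
    (hm : B i i * B j j - B i j * B j i ≠ 0) (b c : F)
    (h : b • (fun k => B k i) + c • (fun k => B k j) = 0) : b = 0 ∧ c = 0 := by
  have hi := congrFun h i
  have hj := congrFun h j
  simp only [Pi.add_apply, Pi.smul_apply, smul_eq_mul, Pi.zero_apply] at hi hj
  constructor
  · have : b * (B i i * B j j - B i j * B j i) = 0 := by linear_combination B j j * hi - B i j * hj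
    rcases mul_eq_zero.mp this with h0 | h0
    · exact h0
    · exact absurd h0 hm
  · have : c * (B i i * B j j - B i j * B j i) = 0 := by linear_combination B i i * hj - B j i * hi
    rcases mul_eq_zero.mp this with h0 | h0
    · exact h0
    · exact absurd h0 hm

theorem cols_mul_diagonal (v0 v1 v2 : Fin 3 → F) (d : Fin 3 → F) :
    cols v0 v1 v2 * Matrix.diagonal d = cols (d 0 • v0) (d 1 • v1) (d 2 • v2) := by
  ext i j
  fin_cases j <;> simp [cols, Matrix.mul_apply, Matrix.diagonal_apply, Fin.sum_univ_three, mul_comm]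

/-- Normal form `diag(κ₂, κ₁, κ₁)`. -/
theorem exists_nf_quad (M : Matrix (Fin 3) (Fin 3) F) (k1 k2 : F) (hk : k1 ≠ k2)
    (hq : (M - k1 • (1 : Matrix (Fin 3) (Fin 3) F)) * (M - k2 • (1 : Matrix (Fin 3) (Fin 3) F)) = 0)
    (hs : s2 (M - k2 • (1 : Matrix (Fin 3) (Fin 3) F)) ≠ 0)
    (hd : det (M - k2 • (1 : Matrix (Fin 3) (Fin 3) F)) = 0) :
    ∃ P : Matrix (Fin 3) (Fin 3) F, det P ≠ 0 ∧ M * P = P * Matrix.diagonal ![k2, k1, k1] := by
  set B := M - k2 • (1 : Matrix (Fin 3) (Fin 3) F) with hB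
  obtain ⟨u, hu, hBu⟩ := Matrix.exists_mulVec_eq_zero_iff.mpr hd
  have hMu : M *ᵥ u = k2 • u := by
    rw [hB, Matrix.sub_mulVec, Matrix.smul_mulVec, Matrix.one_mulVec, sub_eq_zero] at hBu
    exact hBu
  have hcol : ∀ y : Fin 3 → F, M *ᵥ (B *ᵥ y) = k1 • (B *ᵥ y) := by
    intro y
    have := congrArg (fun X => X *ᵥ y) hq
    simp only [Matrix.zero_mulVec, ← Matrix.mulVec_mulVec, Matrix.sub_mulVec, Matrix.smul_mulVec,
      Matrix.one_mulVec] at this
    exact sub_eq_zero.mp this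
  have hcolj : ∀ j : Fin 3, B *ᵥ (Pi.single j 1) = fun k => B k j := by
    intro j
    rw [Matrix.mulVec_single_one]
    rfl
  have main : ∀ i j : Fin 3, B i i * B j j - B i j * B j i ≠ 0 →
      ∃ P : Matrix (Fin 3) (Fin 3) F, det P ≠ 0 ∧ M * P = P * Matrix.diagonal ![k2, k1, k1] := by
    intro i j hm
    refine ⟨cols u (fun k => B k i) (fun k => B k j), ?_, ?_⟩
    · apply det_cols_ne_zero
      intro c hc
      have h1 := congrArg (fun y => M *ᵥ y - k1 • y) hc
      simp only [Matrix.mulVec_add, Matrix.mulVec_smul, Matrix.mulVec_zero, smul_zero, sub_zero] at h1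
      rw [hMu, ← hcolj i, ← hcolj j, hcol, hcol] at h1
      have h2 : (c 0 * (k2 - k1)) • u = 0 := by
        rw [← h1]
        simp only [smul_add, smul_smul, sub_smul, mul_sub]
        rw [mul_comm k1 (c 0), mul_comm k1 (c 1), mul_comm k1 (c 2)]
        abel
      have hc0 : c 0 = 0 := by
        rcases smul_eq_zero.mp h2 with h | h
        · rcases mul_eq_zero.mp h with h | h
          · exact h
          · exact absurd (sub_eq_zero.mp h).symm hk
        · exact absurd h hu
      rw [hc0, zero_smul, zero_add] at hc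
      obtain ⟨hc1, hc2⟩ := indep_of_minor B i j hm (c 1) (c 2) hc
      ext k
      fin_cases k
      · exact hc0
      · exact hc1
      · exact hc2
    · rw [mul_cols, cols_mul_diagonal, hMu, ← hcolj i, ← hcolj j, hcol, hcol]
      rfl
  by_cases h01 : B 0 0 * B 1 1 - B 0 1 * B 1 0 ≠ 0
  · exact main 0 1 h01
  · by_cases h02 : B 0 0 * B 2 2 - B 0 2 * B 2 0 ≠ 0
    · exact main 0 2 h02
    · by_cases h12 : B 1 1 * B 2 2 - B 1 2 * B 2 1 ≠ 0
      · exact main 1 2 h12
      · exfalso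
        push Not at h01 h02 h12
        apply hs
        simp only [s2]
        rw [h01, h02, h12]
        ring


theorem zd_mul_diagonal (α : F) (d : Fin 3 → F) :
    zd α * Matrix.diagonal d = Matrix.diagonal d * zd α := by
  simp only [zd, Matrix.diagonal_mul_diagonal]
  congr 1
  ext i
  exact mul_comm _ _

/-- Involutions of `SL₃`: normal form `diag(1, -1, -1)`. -/
theorem exists_nf_involution (h2 : (2 : F) ≠ 0) (M : Matrix (Fin 3) (Fin 3) F) (hM : M * M = 1)
    (hd : det M = 1) (hns : ∀ c : F, M ≠ c • (1 : Matrix (Fin 3) (Fin 3) F)) :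
    ∃ P : Matrix (Fin 3) (Fin 3) F, det P ≠ 0 ∧ M * P = P * Matrix.diagonal ![1, -1, -1] := by
  have h := ch3 M
  rw [hM, one_mul, hd, one_smul] at h
  -- (1 + s) M = (1 + t) 1
  have h1 : (1 + s2 M) • M = (1 + trace M) • (1 : Matrix (Fin 3) (Fin 3) F) := by
    have : (1 + s2 M) • M - (1 + trace M) • (1 : Matrix (Fin 3) (Fin 3) F) = 0 := by
      rw [← h, add_smul, add_smul, one_smul, one_smul]; abel
    exact sub_eq_zero.mp this
  have hs : s2 M = -1 := by
    by_contra hs
    have hs' : 1 + s2 M ≠ 0 := by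
      intro h0; apply hs; linear_combination h0
    apply hns ((1 + s2 M)⁻¹ * (1 + trace M))
    have := congrArg (fun X => (1 + s2 M)⁻¹ • X) h1
    simp only [smul_smul, inv_mul_cancel₀ hs', one_smul] at this
    exact this
  have ht : trace M = -1 := by
    rw [hs, add_neg_cancel, zero_smul] at h1
    have := congrFun (congrFun h1 0) 0
    simp at this
    linear_combination -this
  apply exists_nf_quad M (-1) 1 (by
    intro h
    apply h2
    linear_combination -h)
  · rw [one_smul, neg_smul, one_smul, sub_neg_eq_add, add_mul, mul_sub, mul_sub, hM]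
    simp
  · rw [s2_sub_smul, hs, ht]
    intro h
    apply h2
    have h4 : (2 : F) * 2 = 0 := by linear_combination h
    rcases mul_eq_zero.mp h4 with h0 | h0 <;> exact h0
  · have h3 := det_smul_one_sub M 1
    rw [ht, hs, hd] at h3
    have h4 : M - (1 : F) • (1 : Matrix (Fin 3) (Fin 3) F) = -((1 : F) • (1 : Matrix (Fin 3) (Fin 3) F) - M) := by
      abel
    rw [h4, Matrix.det_neg, h3]
    simp

/-- Two non-scalar involutions of determinant one are conjugate by a matrix of determinant one. -/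
theorem exists_sl_conj_involution (h2 : (2 : F) ≠ 0) (M1 M2 : Matrix (Fin 3) (Fin 3) F)
    (h1 : M1 * M1 = 1) (hd1 : det M1 = 1) (hns1 : ∀ c : F, M1 ≠ c • (1 : Matrix (Fin 3) (Fin 3) F))
    (h2' : M2 * M2 = 1) (hd2 : det M2 = 1) (hns2 : ∀ c : F, M2 ≠ c • (1 : Matrix (Fin 3) (Fin 3) F)) :
    ∃ R : Matrix (Fin 3) (Fin 3) F, det R = 1 ∧ M1 * R = R * M2 := by
  obtain ⟨P1, hP1, hc1⟩ := exists_nf_involution h2 M1 h1 hd1 hns1
  obtain ⟨P2, hP2, hc2⟩ := exists_nf_involution h2 M2 h2' hd2 hns2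
  exact exists_sl_conj _ (fun α => zd_mul_diagonal α _) M1 M2 P1 P2 hP1 hP2 hc1 hc2

/-- `M³ = 1` with `det M = ζ` a primitive cube root of unity: normal form `ε·diag(ζ, 1, 1)`. -/
theorem exists_nf_cube_det (h3ne : (3 : F) ≠ 0) (ζ : F) (hζ : ζ ^ 2 + ζ + 1 = 0)
    (M : Matrix (Fin 3) (Fin 3) F) (hM : M * M * M = 1) (hd : det M = ζ) :
    ∃ e : F, e ^ 3 = 1 ∧ ∃ P : Matrix (Fin 3) (Fin 3) F, det P ≠ 0 ∧
      M * P = P * Matrix.diagonal ![e * ζ, e, e] := by
  have hζ3 : ζ ^ 3 = 1 := by linear_combination (ζ - 1) * hζ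
  have hζ1 : ζ ≠ 1 := by
    rintro rfl
    apply h3ne; linear_combination hζ
  have hns : ∀ c : F, M ≠ c • (1 : Matrix (Fin 3) (Fin 3) F) := by
    intro c hc
    have h1 : c ^ 3 = 1 := by
      rw [hc] at hM
      have := congrFun (congrFun hM 0) 0
      simp [Matrix.mul_apply, Fin.sum_univ_three] at this
      rw [← this]; ring
    rw [hc, Matrix.det_smul, Matrix.det_one, Fintype.card_fin, mul_one, h1] at hd
    exact hζ1 hd.symm
  have h := ch3 M
  rw [hM, hd] at h
  -- t M² = s M + (1 - ζ)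
  have h1 : trace M • (M * M) = s2 M • M + (1 - ζ) • (1 : Matrix (Fin 3) (Fin 3) F) := by
    have : trace M • (M * M) - (s2 M • M + (1 - ζ) • (1 : Matrix (Fin 3) (Fin 3) F)) = 0 := by
      rw [← neg_eq_zero, ← h, sub_smul, one_smul]; abel
    exact sub_eq_zero.mp this
  have h1ζ : (1 : F) - ζ ≠ 0 := fun h0 => hζ1 (by linear_combination -h0)
  have ht : trace M ≠ 0 := by
    intro ht
    rw [ht, zero_smul] at h1
    by_cases hs : s2 M = 0
    · rw [hs, zero_smul, zero_add] at h1
      have := congrFun (congrFun h1 0) 0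
      simp at this
      exact h1ζ this.symm
    · apply hns (-(s2 M)⁻¹ * (1 - ζ))
      have h2 : s2 M • M = (-(1 - ζ)) • (1 : Matrix (Fin 3) (Fin 3) F) := by
        rw [neg_smul, eq_neg_iff_add_eq_zero]; exact h1.symm
      have := congrArg (fun X => (s2 M)⁻¹ • X) h2
      simp only [smul_smul, inv_mul_cancel₀ hs, one_smul] at this
      refine this.trans ?_
      congr 1; ring
  set a := (trace M)⁻¹ * s2 M with ha
  set b := (trace M)⁻¹ * (1 - ζ) with hb
  have h2 : M * M = a • M + b • (1 : Matrix (Fin 3) (Fin 3) F) := by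
    have := congrArg (fun X => (trace M)⁻¹ • X) h1
    simp only [smul_smul, inv_mul_cancel₀ ht, one_smul, smul_add] at this
    exact this
  have h4' : M * M * M = (a * a + b) • M + (a * b) • (1 : Matrix (Fin 3) (Fin 3) F) := by
    rw [h2, add_mul, smul_mul_assoc, h2, smul_mul_assoc, one_mul, smul_add, smul_smul, smul_smul,
      add_smul]
    abel
  have h4 : (1 : Matrix (Fin 3) (Fin 3) F) = (a * a + b) • M + (a * b) • (1 : Matrix (Fin 3) (Fin 3) F) := by
    rw [← h4', hM]
  have hab : a * a + b = 0 := by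
    by_contra hab
    apply hns ((a * a + b)⁻¹ * (1 - a * b))
    have h5 : (a * a + b) • M = (1 - a * b) • (1 : Matrix (Fin 3) (Fin 3) F) := by
      rw [sub_smul, one_smul, eq_sub_iff_add_eq]
      exact h4.symm
    have := congrArg (fun X => (a * a + b)⁻¹ • X) h5
    simp only [smul_smul, inv_mul_cancel₀ hab, one_smul] at this
    exact this
  have hab1 : a * b = 1 := by
    rw [hab, zero_smul, zero_add] at h4
    have := congrFun (congrFun h4 0) 0
    simp at this
    exact this.symm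
  have hbv : b = -(a * a) := by linear_combination hab
  -- e₃ = -a
  have ha3 : (-a) ^ 3 = 1 := by
    have : a * (-(a * a)) = 1 := by rw [← hbv]; exact hab1
    linear_combination this
  have ha0 : a ≠ 0 := by
    rintro h0
    rw [h0] at ha3
    simp at ha3
  -- t and s in terms of a and ζ
  have htv : trace M * b = 1 - ζ := by
    rw [hb, ← mul_assoc, mul_inv_cancel₀ ht, one_mul]
  have hsv : s2 M = a * trace M := by
    rw [ha]; field_simp
  -- from b = -a² and a b = 1: 1/b = -a (as a³ = -1 ... ) so t = (1 - ζ) * (-a)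
  have htv' : trace M = (1 - ζ) * a := by
    have hb0 : b ≠ 0 := by
      intro h0; rw [h0, mul_zero] at hab1; exact zero_ne_one hab1
    have : trace M * b = ((1 - ζ) * a) * b := by
      rw [htv]
      linear_combination (-(1 - ζ)) * hab1
    exact mul_right_cancel₀ hb0 this
  refine ⟨(-a) * ζ, by rw [mul_pow, ha3, hζ3, one_mul], ?_⟩
  have hk : (-a) * ζ ≠ (-a) * ζ * ζ := by
    intro h0
    have : a * ζ * (ζ - 1) = 0 := by linear_combination h0
    rcases mul_eq_zero.mp this with h5 | h5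
    · rcases mul_eq_zero.mp h5 with h6 | h6
      · exact ha0 h6
      · rw [h6] at hζ3; simp at hζ3
    · exact hζ1 (sub_eq_zero.mp h5)
  apply exists_nf_quad M ((-a) * ζ) ((-a) * ζ * ζ) hk
  · -- (M - k1)(M - k2) = M² - (k1 + k2) M + k1 k2 = M² - a M + a² ... = 0
    have hk12 : (-a) * ζ + (-a) * ζ * ζ = a := by linear_combination (-a) * hζ
    have hkk : (-a) * ζ * ((-a) * ζ * ζ) = a * a := by linear_combination (a * a) * hζ3
    rw [sub_mul, mul_sub, mul_sub, h2, Matrix.mul_smul, Matrix.smul_mul, Matrix.smul_mul, Matrix.mul_smul,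
      mul_one, one_mul, mul_one, smul_smul, hbv]
    have : a • M + -(a * a) • (1 : Matrix (Fin 3) (Fin 3) F) - (-a * ζ * ζ) • M -
        ((-a * ζ) • M - (-a * ζ * (-a * ζ * ζ)) • (1 : Matrix (Fin 3) (Fin 3) F)) =
        (a - ((-a) * ζ + (-a) * ζ * ζ)) • M + (-(a * a) + (-a) * ζ * ((-a) * ζ * ζ)) • (1 : Matrix (Fin 3) (Fin 3) F) := by
      simp only [sub_smul, add_smul, neg_smul]
      abel
    rw [this, hk12, hkk]
    simp
  · rw [s2_sub_smul, hsv, htv']
    intro h0
    apply h3ne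
    have h6 : a ^ 2 * 3 = 0 := by
      linear_combination (-1 : F) * h0 + a ^ 2 * (3 * ζ ^ 2 - 5 * ζ + 4) * hζ
    rcases mul_eq_zero.mp h6 with h7 | h7
    · exact absurd (pow_eq_zero_iff (by norm_num) |>.mp h7) ha0
    · exact h7
  · have h3 := det_smul_one_sub M ((-a) * ζ * ζ)
    rw [hsv, htv', hd] at h3
    have h4 : M - ((-a) * ζ * ζ) • (1 : Matrix (Fin 3) (Fin 3) F) =
        -(((-a) * ζ * ζ) • (1 : Matrix (Fin 3) (Fin 3) F) - M) := by abel
    rw [h4, Matrix.det_neg, h3]
    have h5 : (-a * ζ * ζ) ^ 3 - (1 - ζ) * a * (-a * ζ * ζ) ^ 2 + a * ((1 - ζ) * a) * (-a * ζ * ζ) - ζ = 0 := by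
      have ha3' : a ^ 3 = -1 := by linear_combination -ha3
      linear_combination (-(ζ ^ 6 - ζ ^ 5 + ζ ^ 4 - ζ ^ 3 + ζ ^ 2)) * ha3' +
        (ζ ^ 4 - 2 * ζ ^ 3 + 2 * ζ ^ 2 - ζ) * hζ
    rw [h5, mul_zero]


/-- `M³ = 1`, `det M = ζ` primitive: `M` is conjugate by a determinant-one matrix to `e·diag(ζ,1,1)`
for a cube root of unity `e`. -/
theorem exists_sl_conj_cube_det (h3ne : (3 : F) ≠ 0) (ζ : F) (hζ : ζ ^ 2 + ζ + 1 = 0)
    (M : Matrix (Fin 3) (Fin 3) F) (hM : M * M * M = 1) (hd : det M = ζ) :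
    ∃ e : F, e ^ 3 = 1 ∧ ∃ R : Matrix (Fin 3) (Fin 3) F, det R = 1 ∧
      M * R = R * (e • Matrix.diagonal ![ζ, 1, 1]) := by
  obtain ⟨e, he, P, hP, hMP⟩ := exists_nf_cube_det h3ne ζ hζ M hM hd
  refine ⟨e, he, ?_⟩
  have hN : e • Matrix.diagonal ![ζ, 1, 1] = Matrix.diagonal ![e * ζ, e, e] := by
    ext i j
    fin_cases i <;> fin_cases j <;> simp [Matrix.diagonal_apply]
  rw [hN]
  exact exists_sl_conj (Matrix.diagonal ![e * ζ, e, e]) (fun α => zd_mul_diagonal α _) M
    (Matrix.diagonal ![e * ζ, e, e]) P 1 hP (by simp) hMP (by simp)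

end Cfsg.Agent.Helper42QuadNF
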