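import Mathlib
import Cfsg.Prelude.Def_GeometricClasses
import Cfsg.Agent.Lib.Helper42_Heis3
import Cfsg.Agent.Lib.Helper42_QuadNF
import Cfsg.Agent.Lib.Helper99_Singer

set_option autoImplicit false

/-!
# Subgroups `3^{1+2}` of `GL₃(F)` and their normalizers

(helper42) For S5998 (and S5999).
-/

namespace Cfsg.Agent.Helper42Heis3Grp

open Matrix Cfsg.Agent.Helper42CubeNF Cfsg.Agent.Helper42Heis3 Cfsg.Agent.Helper42QuadNF

variable {F : Type*} [Field F]

/-! ### matrix identities in the standard frame -/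

/-- the involution `-P_{(12)}` -/
def Tmat : Matrix (Fin 3) (Fin 3) F := !![-1, 0, 0; 0, 0, -1; 0, -1, 0]

theorem det_Smat : det (Smat : Matrix (Fin 3) (Fin 3) F) = 1 := by
  simp [Smat, Matrix.det_fin_three]

theorem det_Tmat : det (Tmat : Matrix (Fin 3) (Fin 3) F) = 1 := by
  simp [Tmat, Matrix.det_fin_three]

theorem det_nfD (w : F) (hw : w ^ 3 = 1) : det (nfD w) = 1 := by
  simp [nfD, Matrix.det_diagonal, Fin.prod_univ_three]
  linear_combination hw

theorem Tmat_mul_Tmat : (Tmat : Matrix (Fin 3) (Fin 3) F) * Tmat = 1 := by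
  ext i j
  fin_cases i <;> fin_cases j <;> simp [Tmat, Matrix.mul_apply, Fin.sum_univ_three]

theorem Smat_cube : (Smat : Matrix (Fin 3) (Fin 3) F) * Smat * Smat = 1 := by
  ext i j
  fin_cases i <;> fin_cases j <;> simp [Smat, Matrix.mul_apply, Fin.sum_univ_three]

theorem nfD_cube (w : F) (hw : w ^ 3 = 1) : nfD w * nfD w * nfD w = 1 := by
  simp only [nfD, Matrix.diagonal_mul_diagonal]
  rw [← Matrix.diagonal_one]
  congr 1
  ext i
  fin_cases i
  · simp
  · simp; linear_combination hw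
  · simp; linear_combination (w ^ 3 + 1) * hw

theorem Tmat_mul_nfD (w : F) (hw : w ^ 3 = 1) : Tmat * nfD w = nfD w * nfD w * Tmat := by
  ext i j
  fin_cases i <;> fin_cases j <;>
    simp [Tmat, nfD, Matrix.mul_apply, Fin.sum_univ_three, Matrix.diagonal_apply]
  · ring
  · linear_combination (-w) * hw

theorem Tmat_mul_Smat : (Tmat : Matrix (Fin 3) (Fin 3) F) * Smat = Smat * Smat * Tmat := by
  ext i j
  fin_cases i <;> fin_cases j <;> simp [Tmat, Smat, Matrix.mul_apply, Fin.sum_univ_three]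

/-- `diag(ζ,1,1)` -/
def Emat (z : F) : Matrix (Fin 3) (Fin 3) F := Matrix.diagonal ![z, 1, 1]

theorem det_Emat (z : F) : det (Emat z) = z := by
  simp [Emat, Matrix.det_diagonal, Fin.prod_univ_three]

theorem Emat_mul_nfD (z w : F) : Emat z * nfD w = nfD w * Emat z := by
  simp only [Emat, nfD, Matrix.diagonal_mul_diagonal]
  congr 1
  ext i
  exact mul_comm _ _

theorem Emat_mul_Smat (z : F) (hz : z ^ 3 = 1) :
    Emat z * Smat = (z ^ 2) • (Smat * nfD z) * Emat z := by
  ext i j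
  simp only [Emat, nfD, Matrix.diagonal_mul, Matrix.mul_diagonal, Matrix.smul_apply,
    Matrix.smul_mul, smul_eq_mul]
  fin_cases i <;> fin_cases j <;> simp [Smat]
  · linear_combination (-z) * hz
  · linear_combination (-1 : F) * hz
  · linear_combination (-1 : F) * hz

theorem nfD_mul_Smat_ne (w : F) (hw1 : w ≠ 1) : nfD w * Smat ≠ Smat * nfD w := by
  intro h
  have := congrFun (congrFun h 1) 0
  simp [nfD, Smat, Matrix.mul_apply, Fin.sum_univ_three, Matrix.diagonal_apply] at this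
  exact hw1 this

theorem nfD_sq (w : F) : nfD (w ^ 2) = nfD w * nfD w := by
  simp only [nfD, Matrix.diagonal_mul_diagonal]
  congr 1
  ext i
  fin_cases i <;> simp <;> ring

/-- a matrix commuting with `diag(1,w,w²)` (`w` primitive) and the shift is scalar -/
theorem scalar_of_commute (w : F) (hw : w ^ 2 + w + 1 = 0) (h3ne : (3 : F) ≠ 0)
    (X : Matrix (Fin 3) (Fin 3) F) (hD : X * nfD w = nfD w * X) (hS : X * Smat = Smat * X) :
    X = X 0 0 • (1 : Matrix (Fin 3) (Fin 3) F) := by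
  have hw1 : w ≠ 1 := by
    rintro rfl
    apply h3ne; linear_combination hw
  have hw3 : w ^ 3 = 1 := by linear_combination (w - 1) * hw
  have hw0 : w ≠ 0 := by
    rintro rfl
    simp at hw3
  have hw21 : w ^ 2 ≠ 1 := by
    intro h
    apply hw1
    have : w * w ^ 2 = 1 := by rw [← hw3]; ring
    rw [h, mul_one] at this; exact this
  have hw2w : w ^ 2 ≠ w := by
    intro h
    apply hw1
    have : w * (w - 1) = 0 := by linear_combination h
    rcases mul_eq_zero.mp this with h0 | h0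
    · exact absurd h0 hw0
    · exact sub_eq_zero.mp h0
  -- off-diagonal entries vanish
  have e := fun i j => congrFun (congrFun hD i) j
  have e01 := e 0 1
  have e02 := e 0 2
  have e10 := e 1 0
  have e12 := e 1 2
  have e20 := e 2 0
  have e21 := e 2 1
  simp [nfD, Matrix.mul_apply, Fin.sum_univ_three, Matrix.diagonal_apply] at e01 e02 e10 e12 e20 e21
  have f := fun i j => congrFun (congrFun hS i) j
  have f00 := f 1 0
  have f11 := f 2 1
  simp [Smat, Matrix.mul_apply, Fin.sum_univ_three] at f00 f11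
  have h01 : X 0 1 = 0 := by
    have : X 0 1 * (w - 1) = 0 := by linear_combination e01
    rcases mul_eq_zero.mp this with h | h
    · exact h
    · exact absurd (sub_eq_zero.mp h) hw1
  have h02 : X 0 2 = 0 := by
    have : X 0 2 * (w ^ 2 - 1) = 0 := by linear_combination e02
    rcases mul_eq_zero.mp this with h | h
    · exact h
    · exact absurd (sub_eq_zero.mp h) hw21
  have h10 : X 1 0 = 0 := by
    have : X 1 0 * (1 - w) = 0 := by linear_combination e10
    rcases mul_eq_zero.mp this with h | h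
    · exact h
    · exact absurd (sub_eq_zero.mp h).symm hw1
  have h12 : X 1 2 = 0 := by
    have : X 1 2 * (w ^ 2 - w) = 0 := by linear_combination e12
    rcases mul_eq_zero.mp this with h | h
    · exact h
    · exact absurd (sub_eq_zero.mp h) hw2w
  have h20 : X 2 0 = 0 := by
    have : X 2 0 * (1 - w ^ 2) = 0 := by linear_combination e20
    rcases mul_eq_zero.mp this with h | h
    · exact h
    · exact absurd (sub_eq_zero.mp h).symm hw21
  have h21 : X 2 1 = 0 := by
    have : X 2 1 * (w - w ^ 2) = 0 := by linear_combination e21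
    rcases mul_eq_zero.mp this with h | h
    · exact h
    · exact absurd (sub_eq_zero.mp h).symm hw2w
  ext i j
  fin_cases i <;> fin_cases j <;> simp [h01, h02, h10, h12, h20, h21]
  · exact f00
  · rw [f11, f00]


/-! ### elements of `GL₃(F)` in the standard frame -/

/-- the unit with a given cube-one matrix -/
def glOfCube (M : Matrix (Fin 3) (Fin 3) F) (h : M * M * M = 1) : GL (Fin 3) F :=
  ⟨M, M * M, by rw [← mul_assoc]; exact h, h⟩

@[simp] theorem coe_glOfCube (M : Matrix (Fin 3) (Fin 3) F) (h : M * M * M = 1) :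
    ((glOfCube M h : GL (Fin 3) F) : Matrix (Fin 3) (Fin 3) F) = M := rfl

/-- `diag(1, μ, μ²)` as a unit -/
def gD (μ : F) (h : μ ^ 3 = 1) : GL (Fin 3) F := glOfCube (nfD μ) (nfD_cube μ h)

/-- the cyclic shift as a unit -/
def gS : GL (Fin 3) F := glOfCube Smat Smat_cube

/-- the involution `Tmat` as a unit -/
def gT : GL (Fin 3) F := ⟨Tmat, Tmat, Tmat_mul_Tmat, Tmat_mul_Tmat⟩

/-- scalars as units -/
def gZ (z : F) (h : z ≠ 0) : GL (Fin 3) F :=
  ⟨z • 1, z⁻¹ • 1, by simp [smul_smul, h], by simp [smul_smul, h]⟩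

theorem Emat_mul_Emat (z z' : F) : Emat z * Emat z' = Emat (z * z') := by
  simp only [Emat, Matrix.diagonal_mul_diagonal]
  congr 1
  ext i
  fin_cases i <;> simp

theorem Emat_one : Emat (1 : F) = 1 := by
  rw [Emat, ← Matrix.diagonal_one]
  congr 1
  ext i
  fin_cases i <;> simp

/-- `diag(z, 1, 1)` as a unit -/
def gE (z : F) (h : z ≠ 0) : GL (Fin 3) F :=
  ⟨Emat z, Emat z⁻¹, by rw [Emat_mul_Emat, mul_inv_cancel₀ h, Emat_one],
    by rw [Emat_mul_Emat, inv_mul_cancel₀ h, Emat_one]⟩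

@[simp] theorem coe_gD (μ : F) (h : μ ^ 3 = 1) :
    ((gD μ h : GL (Fin 3) F) : Matrix (Fin 3) (Fin 3) F) = nfD μ := rfl
@[simp] theorem coe_gS : ((gS : GL (Fin 3) F) : Matrix (Fin 3) (Fin 3) F) = Smat := rfl
@[simp] theorem coe_gT : ((gT : GL (Fin 3) F) : Matrix (Fin 3) (Fin 3) F) = Tmat := rfl
@[simp] theorem coe_gZ (z : F) (h : z ≠ 0) :
    ((gZ z h : GL (Fin 3) F) : Matrix (Fin 3) (Fin 3) F) = z • 1 := rfl
@[simp] theorem coe_gE (z : F) (h : z ≠ 0) :
    ((gE z h : GL (Fin 3) F) : Matrix (Fin 3) (Fin 3) F) = Emat z := rfl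

theorem gT_mul_gD (μ : F) (h : μ ^ 3 = 1) : gT * gD μ h = gD μ h * gD μ h * gT :=
  Units.ext (by simpa using Tmat_mul_nfD μ h)

theorem gT_mul_gS : (gT : GL (Fin 3) F) * gS = gS * gS * gT :=
  Units.ext (by simpa using Tmat_mul_Smat)

theorem gE_mul_gD (z : F) (hz : z ≠ 0) (μ : F) (h : μ ^ 3 = 1) :
    gE z hz * gD μ h = gD μ h * gE z hz :=
  Units.ext (by simpa using Emat_mul_nfD z μ)

theorem gE_mul_gS (z : F) (hz : z ≠ 0) (h : z ^ 3 = 1) :
    gE z hz * gS = gZ (z ^ 2) (pow_ne_zero 2 hz) * gS * gD z h * gE z hz :=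
  Units.ext (by
    simp only [Units.val_mul, coe_gE, coe_gS, coe_gZ, coe_gD]
    rw [Emat_mul_Smat z h]
    simp only [Matrix.smul_mul, Matrix.one_mul, Matrix.mul_assoc])

theorem nfD_mul_Smat (μ : F) (h : μ ^ 3 = 1) : nfD μ * Smat = μ • (Smat * nfD μ) := by
  ext i j
  simp only [nfD, Matrix.diagonal_mul, Matrix.mul_diagonal, Matrix.smul_apply, smul_eq_mul]
  fin_cases i <;> fin_cases j <;> simp [Smat]
  · linear_combination (-1 : F) * h
  · ring

theorem gD_mul_gS (μ : F) (hμ0 : μ ≠ 0) (h : μ ^ 3 = 1) :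
    gD μ h * gS = gZ μ hμ0 * gS * gD μ h :=
  Units.ext (by
    simp only [Units.val_mul, coe_gS, coe_gZ, coe_gD]
    rw [nfD_mul_Smat μ h]
    simp only [Matrix.smul_mul, Matrix.one_mul, Matrix.mul_assoc])

theorem gZ_comm (z : F) (h : z ≠ 0) (g : GL (Fin 3) F) : gZ z h * g = g * gZ z h :=
  Units.ext (by simp)

theorem gZ_mul_gZ (z z' : F) (h : z ≠ 0) (h' : z' ≠ 0) :
    gZ z h * gZ z' h' = gZ (z * z') (mul_ne_zero h h') :=
  Units.ext (by simp [smul_smul, mul_comm])

theorem gZ_one : gZ (1 : F) one_ne_zero = 1 := Units.ext (by simp)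

theorem gD_sq (μ : F) (h : μ ^ 3 = 1) (h' : (μ ^ 2) ^ 3 = 1) :
    gD (μ ^ 2) h' = gD μ h * gD μ h :=
  Units.ext (by simpa using nfD_sq μ)

theorem gD_ne_comm (μ : F) (h : μ ^ 3 = 1) (h1 : μ ≠ 1) : gD μ h * gS ≠ gS * gD μ h := by
  intro e
  apply nfD_mul_Smat_ne μ h1
  have := congrArg (fun g : GL (Fin 3) F => (g : Matrix (Fin 3) (Fin 3) F)) e
  simpa using this

theorem det_gD (μ : F) (h : μ ^ 3 = 1) : Matrix.GeneralLinearGroup.det (gD μ h) = 1 :=
  Units.ext (by simpa using det_nfD μ h)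

theorem det_gS : Matrix.GeneralLinearGroup.det (gS : GL (Fin 3) F) = 1 :=
  Units.ext (by simpa using det_Smat)

theorem det_gT : Matrix.GeneralLinearGroup.det (gT : GL (Fin 3) F) = 1 :=
  Units.ext (by simpa using det_Tmat)

theorem gT_mul_gT : (gT : GL (Fin 3) F) * gT = 1 := Units.ext Tmat_mul_Tmat

theorem gD_cube (μ : F) (h : μ ^ 3 = 1) : gD μ h * gD μ h * gD μ h = 1 :=
  Units.ext (nfD_cube μ h)

theorem det_conj (Q m : GL (Fin 3) F) :
    det ((Q * m * Q⁻¹ : GL (Fin 3) F) : Matrix (Fin 3) (Fin 3) F) =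
      det (m : Matrix (Fin 3) (Fin 3) F) := by
  have h1 : det (Q : Matrix (Fin 3) (Fin 3) F) *
      det ((Q⁻¹ : GL (Fin 3) F) : Matrix (Fin 3) (Fin 3) F) = 1 := by
    rw [← Matrix.det_mul, ← Units.val_mul, mul_inv_cancel]
    simp
  simp only [Units.val_mul, Matrix.det_mul]
  linear_combination det (m : Matrix (Fin 3) (Fin 3) F) * h1

theorem det_coe_ne_zero (Q : GL (Fin 3) F) : det (Q : Matrix (Fin 3) (Fin 3) F) ≠ 0 := by
  rw [← Matrix.GeneralLinearGroup.val_det_apply]
  exact Units.ne_zero _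


/-! ### subgroups of order 27 in standard position -/

/-- A subgroup `R₀` of order 27 containing `diag(1, μ, μ²)` and the cyclic shift. -/
structure Std (R₀ : Subgroup (GL (Fin 3) F)) (μ : F) : Prop where
  prim : μ ^ 2 + μ + 1 = 0
  card : Nat.card R₀ = 27
  memD : ∀ h : μ ^ 3 = 1, gD μ h ∈ R₀
  memS : gS ∈ R₀

namespace Std

variable {R₀ : Subgroup (GL (Fin 3) F)} {μ : F}

theorem cube (h : Std R₀ μ) : μ ^ 3 = 1 := by linear_combination (μ - 1) * h.prim

theorem ne_one (h : Std R₀ μ) (h3ne : (3 : F) ≠ 0) : μ ≠ 1 := by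
  rintro rfl
  apply h3ne
  linear_combination h.prim

theorem ne_zero (h : Std R₀ μ) : μ ≠ 0 := by
  rintro rfl
  have := h.cube
  simp at this

theorem finite (h : Std R₀ μ) : Finite R₀ :=
  Nat.finite_of_card_ne_zero (by rw [h.card]; norm_num)

theorem closure_eq (h : Std R₀ μ) (h3ne : (3 : F) ≠ 0) :
    Subgroup.closure ({gD μ h.cube, gS} : Set (GL (Fin 3) F)) = R₀ := by
  set K := Subgroup.closure ({gD μ h.cube, gS} : Set (GL (Fin 3) F)) with hK
  have hle : K ≤ R₀ := by
    rw [hK, Subgroup.closure_le]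
    rintro x (rfl | rfl)
    · exact h.memD _
    · exact h.memS
  have hfin : Finite R₀ := h.finite
  have hdvd : Nat.card K ∣ 27 := h.card ▸ Subgroup.card_dvd_of_le hle
  have hDK : gD μ h.cube ∈ K := Subgroup.subset_closure (by simp)
  have hSK : gS ∈ K := Subgroup.subset_closure (by simp)
  have hnc : ¬ ∀ x y : K, x * y = y * x := by
    intro hc
    have := hc ⟨_, hDK⟩ ⟨_, hSK⟩
    exact gD_ne_comm μ h.cube (h.ne_one h3ne) (congrArg Subtype.val this)
  have hcard : Nat.card K = 27 := by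
    have hmem : Nat.card K ∈ Nat.divisors 27 := by simp [hdvd]
    have hdiv : Nat.divisors 27 = {1, 3, 9, 27} := by decide
    rw [hdiv] at hmem
    simp only [Finset.mem_insert, Finset.mem_singleton] at hmem
    rcases hmem with h1 | h3 | h9 | h27
    · exfalso; apply hnc
      have : Subsingleton K := (Nat.card_eq_one_iff_unique.mp h1).1
      intro x y; exact Subsingleton.elim _ _
    · exfalso; apply hnc
      have : Fact (Nat.Prime 3) := ⟨by norm_num⟩
      have hcyc : IsCyclic K := isCyclic_of_prime_card (p := 3) h3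
      have := IsCyclic.isMulCommutative (α := K)
      exact isMulCommutative_iff.mp this
    · exfalso; apply hnc
      have : Fact (Nat.Prime 3) := ⟨by norm_num⟩
      exact IsPGroup.commutative_of_card_eq_prime_sq (p := 3) (by rw [h9]; norm_num)
    · exact h27
  exact Subgroup.eq_of_le_of_card_ge hle (by rw [hcard, h.card])

/-- membership in the normalizer can be tested on the two generators -/
theorem mem_normalizer_of (h : Std R₀ μ) (h3ne : (3 : F) ≠ 0) (g : GL (Fin 3) F)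
    (hD : g * gD μ h.cube * g⁻¹ ∈ R₀) (hS : g * gS * g⁻¹ ∈ R₀) :
    g ∈ Cfsg.Geo.subgroupNormalizer R₀ := by
  have hfin : Finite R₀ := h.finite
  have hmap : ∀ x ∈ R₀, g * x * g⁻¹ ∈ R₀ := by
    intro x hx
    rw [← h.closure_eq h3ne] at hx
    have hle : Subgroup.closure ({gD μ h.cube, gS} : Set (GL (Fin 3) F)) ≤
        R₀.comap (MulAut.conj g).toMonoidHom := by
      rw [Subgroup.closure_le]
      rintro y (rfl | rfl)
      · simpa [Subgroup.mem_comap, MulAut.conj_apply] using hD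
      · simpa [Subgroup.mem_comap, MulAut.conj_apply] using hS
    have := hle hx
    simpa [Subgroup.mem_comap, MulAut.conj_apply] using this
  unfold Cfsg.Geo.subgroupNormalizer
  rw [Subgroup.mem_set_normalizer_iff]
  intro x
  refine ⟨hmap x, fun hx => ?_⟩
  let f : R₀ → R₀ := fun y => ⟨g * y * g⁻¹, hmap y y.2⟩
  have hinj : Function.Injective f := by
    intro y y' e
    have e' : g * (y : GL (Fin 3) F) * g⁻¹ = g * (y' : GL (Fin 3) F) * g⁻¹ := congrArg Subtype.val e
    apply Subtype.ext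
    have := mul_right_cancel e'
    exact mul_left_cancel this
  have hsurj := Finite.surjective_of_injective hinj
  obtain ⟨y, hy⟩ := hsurj ⟨g * x * g⁻¹, hx⟩
  have e' : g * (y : GL (Fin 3) F) * g⁻¹ = g * x * g⁻¹ := congrArg Subtype.val hy
  have : (y : GL (Fin 3) F) = x := mul_left_cancel (mul_right_cancel e')
  rw [← this]
  exact y.2

theorem gZ_mem (h : Std R₀ μ) : gZ μ h.ne_zero ∈ R₀ := by
  have e : gZ μ h.ne_zero = gD μ h.cube * gS * (gD μ h.cube)⁻¹ * gS⁻¹ := by
    rw [gD_mul_gS μ h.ne_zero h.cube]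
    group
  rw [e]
  exact R₀.mul_mem (R₀.mul_mem (R₀.mul_mem (h.memD _) h.memS) (R₀.inv_mem (h.memD _)))
    (R₀.inv_mem h.memS)

theorem gZ_sq_mem (h : Std R₀ μ) : gZ (μ ^ 2) (pow_ne_zero 2 h.ne_zero) ∈ R₀ := by
  have e : gZ (μ ^ 2) (pow_ne_zero 2 h.ne_zero) = gZ μ h.ne_zero * gZ μ h.ne_zero :=
    Units.ext (by simp [smul_smul, pow_two])
  rw [e]
  exact R₀.mul_mem h.gZ_mem h.gZ_mem

theorem gZ_mem_normalizer (R : Subgroup (GL (Fin 3) F)) (z : F) (hz : z ≠ 0) :
    gZ z hz ∈ Cfsg.Geo.subgroupNormalizer R := by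
  unfold Cfsg.Geo.subgroupNormalizer
  rw [Subgroup.mem_set_normalizer_iff]
  intro x
  rw [gZ_comm, mul_assoc, mul_inv_cancel, mul_one]

theorem gT_mem_normalizer (h : Std R₀ μ) (h3ne : (3 : F) ≠ 0) :
    gT ∈ Cfsg.Geo.subgroupNormalizer R₀ := by
  apply h.mem_normalizer_of h3ne
  · rw [gT_mul_gD, mul_assoc, mul_inv_cancel, mul_one]
    exact R₀.mul_mem (h.memD _) (h.memD _)
  · rw [gT_mul_gS, mul_assoc, mul_inv_cancel, mul_one]
    exact R₀.mul_mem h.memS h.memS

theorem gE_mem_normalizer (h : Std R₀ μ) (h3ne : (3 : F) ≠ 0) :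
    gE μ h.ne_zero ∈ Cfsg.Geo.subgroupNormalizer R₀ := by
  apply h.mem_normalizer_of h3ne
  · rw [gE_mul_gD, mul_assoc, mul_inv_cancel, mul_one]
    exact h.memD _
  · rw [gE_mul_gS μ h.ne_zero h.cube, mul_assoc, mul_inv_cancel, mul_one]
    exact R₀.mul_mem (R₀.mul_mem h.gZ_sq_mem h.memS) (h.memD _)

theorem sq (h : Std R₀ μ) : Std R₀ (μ ^ 2) where
  prim := by linear_combination (μ ^ 2 - μ + 1) * h.prim
  card := h.card
  memD := fun h' => by
    rw [gD_sq μ h.cube h']
    exact R₀.mul_mem (h.memD _) (h.memD _)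
  memS := h.memS

theorem of_prim (h : Std R₀ μ) (ζ : F) (hζ : ζ ^ 2 + ζ + 1 = 0) : Std R₀ ζ := by
  have : (ζ - μ) * (ζ - μ ^ 2) = 0 := by
    linear_combination hζ - ζ * h.prim + (μ - 1) * h.prim
  rcases mul_eq_zero.mp this with e | e
  · have : ζ = μ := sub_eq_zero.mp e
    rw [this]; exact h
  · have : ζ = μ ^ 2 := sub_eq_zero.mp e
    rw [this]; exact h.sq

theorem le_specialLinear (h : Std R₀ μ) (h3ne : (3 : F) ≠ 0) :
    R₀ ≤ Cfsg.Geo.specialLinear (Fin 3) F := by
  rw [← h.closure_eq h3ne, Subgroup.closure_le]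
  rintro x (rfl | rfl)
  · exact MonoidHom.mem_ker.mpr (det_gD μ h.cube)
  · exact MonoidHom.mem_ker.mpr det_gS


/-- an element of the normalizer whose `r`-th power is scalar, `r ≥ 5` prime, is scalar -/
theorem scalar_of_pow_scalar (h : Std R₀ μ) (h3ne : (3 : F) ≠ 0) (r : ℕ) (hr : r.Prime)
    (hr5 : 5 ≤ r) (g : GL (Fin 3) F) (hg : g ∈ Cfsg.Geo.subgroupNormalizer R₀)
    (z : F) (hz : ((g ^ r : GL (Fin 3) F) : Matrix (Fin 3) (Fin 3) F) = z • 1) :
    (g : Matrix (Fin 3) (Fin 3) F) = (g : Matrix (Fin 3) (Fin 3) F) 0 0 • 1 := by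
  have hfin : Finite R₀ := h.finite
  have hN : ∀ x, x ∈ R₀ ↔ g * x * g⁻¹ ∈ R₀ := Subgroup.mem_set_normalizer_iff.mp hg
  have hN' : ∀ x, x ∈ R₀ ↔ g⁻¹ * x * g ∈ R₀ := Subgroup.mem_set_normalizer_iff''.mp hg
  let σ : Equiv.Perm R₀ :=
    { toFun := fun y => ⟨g * y * g⁻¹, (hN y).mp y.2⟩
      invFun := fun y => ⟨g⁻¹ * y * g, (hN' y).mp y.2⟩
      left_inv := fun y => Subtype.ext (by simp [mul_assoc])
      right_inv := fun y => Subtype.ext (by simp [mul_assoc]) }
  have hσ1 : ∀ y : R₀, ((σ y : R₀) : GL (Fin 3) F) = g * y * g⁻¹ := fun y => rfl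
  have hσk : ∀ (k : ℕ) (y : R₀),
      (((σ ^ k) y : R₀) : GL (Fin 3) F) = g ^ k * y * (g ^ k)⁻¹ := by
    intro k
    induction k with
    | zero => intro y; simp
    | succ k ih =>
      intro y
      rw [pow_succ, Equiv.Perm.mul_apply, ih, hσ1, pow_succ, _root_.mul_inv_rev]
      simp only [mul_assoc]
  have hcentral : ∀ y : GL (Fin 3) F, g ^ r * y = y * g ^ r := by
    intro y
    apply Units.ext
    rw [Units.val_mul, Units.val_mul, hz]
    simp
  have hσ : σ ^ r = 1 := by
    ext y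
    rw [hσk, hcentral, mul_assoc, mul_inv_cancel, mul_one]
    rfl
  have hmod := Cfsg.Agent.Lib.Helper99_Singer.card_modEq_card_fixed σ hr hσ
  let K : Subgroup R₀ := (Subgroup.centralizer {g}).subgroupOf R₀
  have hKmem : ∀ y : R₀, y ∈ K ↔ σ y = y := by
    intro y
    rw [Subgroup.mem_subgroupOf, Subgroup.mem_centralizer_iff]
    constructor
    · intro hy
      apply Subtype.ext
      rw [hσ1, hy g rfl]
      group
    · intro hy m hm
      rw [Set.mem_singleton_iff] at hm
      subst hm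
      have e : m * (y : GL (Fin 3) F) * m⁻¹ = y := by rw [← hσ1, hy]
      calc m * (y : GL (Fin 3) F) = m * y * m⁻¹ * m := by group
        _ = y * m := by rw [e]
  have hcardK : Nat.card {a // σ a = a} = Nat.card K :=
    Nat.card_congr (Equiv.subtypeEquivRight (fun y => (hKmem y).symm))
  have hKdvd : Nat.card K ∣ 27 := h.card ▸ Subgroup.card_subgroup_dvd_card K
  have hZK : (⟨gZ μ h.ne_zero, h.gZ_mem⟩ : R₀) ∈ K := by
    rw [hKmem]
    apply Subtype.ext
    rw [hσ1]
    show g * gZ μ h.ne_zero * g⁻¹ = gZ μ h.ne_zero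
    rw [← gZ_comm, mul_assoc, mul_inv_cancel, mul_one]
  have hKne1 : Nat.card K ≠ 1 := by
    intro h1
    have hsub : Subsingleton K := (Nat.card_eq_one_iff_unique.mp h1).1
    have e := Subsingleton.elim (⟨_, hZK⟩ : K) 1
    have e2 : gZ μ h.ne_zero = 1 := congrArg (fun k : K => ((k : R₀) : GL (Fin 3) F)) e
    have e3 := congrArg (fun u : GL (Fin 3) F => (u : Matrix (Fin 3) (Fin 3) F) 0 0) e2
    simp at e3
    exact h.ne_one h3ne e3
  have hK27 : Nat.card K = 27 := by
    rw [hcardK, h.card] at hmod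
    have hmem : Nat.card K ∈ Nat.divisors 27 := by simp [hKdvd]
    have hdiv : Nat.divisors 27 = {1, 3, 9, 27} := by decide
    rw [hdiv] at hmem
    simp only [Finset.mem_insert, Finset.mem_singleton] at hmem
    rcases hmem with h1 | h3 | h9 | h27
    · exact absurd h1 hKne1
    · exfalso
      rw [h3] at hmod
      have hd : r ∣ 24 := (Nat.modEq_iff_dvd' (by norm_num)).mp hmod.symm
      have hle := Nat.le_of_dvd (by norm_num) hd
      interval_cases r <;> first | omega | (revert hr; decide)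
    · exfalso
      rw [h9] at hmod
      have hd : r ∣ 18 := (Nat.modEq_iff_dvd' (by norm_num)).mp hmod.symm
      have hle := Nat.le_of_dvd (by norm_num) hd
      interval_cases r <;> first | omega | (revert hr; decide)
    · exact h27
  have hKtop : K = ⊤ := by
    rw [← Subgroup.card_eq_iff_eq_top, hK27, h.card]
  have hfix : ∀ y : R₀, g * (y : GL (Fin 3) F) = y * g := by
    intro y
    have hy : y ∈ K := by rw [hKtop]; trivial
    rw [Subgroup.mem_subgroupOf, Subgroup.mem_centralizer_iff] at hy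
    exact hy g rfl
  have hD := congrArg (fun u : GL (Fin 3) F => (u : Matrix (Fin 3) (Fin 3) F))
    (hfix ⟨_, h.memD h.cube⟩)
  have hS := congrArg (fun u : GL (Fin 3) F => (u : Matrix (Fin 3) (Fin 3) F))
    (hfix ⟨_, h.memS⟩)
  simp only [Units.val_mul, coe_gD, coe_gS] at hD hS
  exact scalar_of_commute μ h.prim h3ne _ hD hS

end Std


/-! ### conjugating a subgroup -/

/-- the conjugated subgroup `Q⁻¹ R Q` -/
def conjSub (R : Subgroup (GL (Fin 3) F)) (Q : GL (Fin 3) F) : Subgroup (GL (Fin 3) F) :=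
  R.comap (MulAut.conj Q).toMonoidHom

theorem mem_conjSub {R : Subgroup (GL (Fin 3) F)} {Q x : GL (Fin 3) F} :
    x ∈ conjSub R Q ↔ Q * x * Q⁻¹ ∈ R := by
  simp [conjSub, Subgroup.mem_comap, MulAut.conj_apply]

theorem card_conjSub (R : Subgroup (GL (Fin 3) F)) (Q : GL (Fin 3) F) :
    Nat.card (conjSub R Q) = Nat.card R :=
  Nat.card_congr
    { toFun := fun y => ⟨Q * y * Q⁻¹, mem_conjSub.mp y.2⟩
      invFun := fun y => ⟨Q⁻¹ * y * Q, mem_conjSub.mpr (by
        have e : Q * (Q⁻¹ * (y : GL (Fin 3) F) * Q) * Q⁻¹ = y := by group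
        rw [e]; exact y.2)⟩
      left_inv := fun y => Subtype.ext (by simp [mul_assoc])
      right_inv := fun y => Subtype.ext (by simp [mul_assoc]) }

theorem mem_normalizer_conjSub {R : Subgroup (GL (Fin 3) F)} {Q m : GL (Fin 3) F} :
    m ∈ Cfsg.Geo.subgroupNormalizer (conjSub R Q) ↔
      Q * m * Q⁻¹ ∈ Cfsg.Geo.subgroupNormalizer R := by
  unfold Cfsg.Geo.subgroupNormalizer
  rw [Subgroup.mem_set_normalizer_iff, Subgroup.mem_set_normalizer_iff]
  constructor
  · intro h x
    have h1 := h (Q⁻¹ * x * Q)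
    simp only [SetLike.mem_coe, mem_conjSub] at h1
    have e1 : Q * (Q⁻¹ * x * Q) * Q⁻¹ = x := by group
    have e2 : Q * (m * (Q⁻¹ * x * Q) * m⁻¹) * Q⁻¹ = Q * m * Q⁻¹ * x * (Q * m * Q⁻¹)⁻¹ := by group
    rw [e1, e2] at h1
    exact h1
  · intro h x
    have h1 := h (Q * x * Q⁻¹)
    simp only [SetLike.mem_coe, mem_conjSub]
    have e2 : Q * m * Q⁻¹ * (Q * x * Q⁻¹) * (Q * m * Q⁻¹)⁻¹ = Q * (m * x * m⁻¹) * Q⁻¹ := by group
    rw [e2] at h1
    exact h1

/-- a conjugate of `m` is scalar only if `m` is -/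
theorem scalar_of_conj_scalar (Q m : GL (Fin 3) F) (c : F)
    (h : ((Q * m * Q⁻¹ : GL (Fin 3) F) : Matrix (Fin 3) (Fin 3) F) = c • 1) :
    (m : Matrix (Fin 3) (Fin 3) F) = c • 1 := by
  have e : m = Q⁻¹ * (Q * m * Q⁻¹) * Q := by group
  rw [e, Units.val_mul, Units.val_mul, h]
  rw [Matrix.mul_smul, Matrix.mul_one, Matrix.smul_mul, ← Units.val_mul, inv_mul_cancel]
  rfl

theorem comm_mem_center_of_card_cube {G : Type*} [Group G] {p : ℕ} [hp : Fact p.Prime]
    (hG : Nat.card G = p ^ 3) (a b : G) : a * b * a⁻¹ * b⁻¹ ∈ Subgroup.center G := by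
  classical
  have hfin : Finite G := Nat.finite_of_card_ne_zero (by rw [hG]; exact pow_ne_zero _ hp.out.ne_zero)
  have hpG : IsPGroup p G := IsPGroup.of_card hG
  have hnt : Nontrivial G := by
    rw [← Finite.one_lt_card_iff_nontrivial, hG]
    exact Nat.one_lt_pow (by norm_num) hp.out.one_lt
  have hZnt : Nontrivial (Subgroup.center G) := hpG.center_nontrivial
  have hlag := Subgroup.card_eq_card_quotient_mul_card_subgroup (Subgroup.center G)
  obtain ⟨k, hk3, hk⟩ := (Nat.dvd_prime_pow hp.out).mp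
    (hG ▸ Subgroup.card_subgroup_dvd_card (Subgroup.center G))
  have hk0 : k ≠ 0 := by
    rintro rfl
    rw [pow_zero] at hk
    have := (Finite.one_lt_card_iff_nontrivial (α := Subgroup.center G)).mpr hZnt
    omega
  have hquot : Nat.card (G ⧸ Subgroup.center G) = p ^ (3 - k) := by
    rw [hG, hk] at hlag
    have hpos : 0 < p ^ k := pow_pos hp.out.pos _
    have : p ^ 3 = p ^ (3 - k) * p ^ k := by rw [← pow_add]; congr 1; omega
    rw [this] at hlag
    exact (Nat.eq_of_mul_eq_mul_right hpos hlag).symm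
  have hcomm_of : (∀ x y : G ⧸ Subgroup.center G, x * y = y * x) →
      a * b * a⁻¹ * b⁻¹ ∈ Subgroup.center G := by
    intro h
    rw [← QuotientGroup.eq_one_iff]
    simp only [QuotientGroup.mk_mul, QuotientGroup.mk_inv]
    rw [h (a : G ⧸ Subgroup.center G) b]
    group
  have hk' : k = 1 ∨ k = 2 ∨ k = 3 := by omega
  rcases hk' with rfl | rfl | rfl
  · apply hcomm_of
    exact IsPGroup.commutative_of_card_eq_prime_sq (p := p) (by rw [hquot])
  · have hcyc : IsCyclic (G ⧸ Subgroup.center G) :=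
      isCyclic_of_prime_card (p := p) (by rw [hquot]; simp)
    have hab := commutative_of_cyclic_center_quotient (QuotientGroup.mk' (Subgroup.center G))
      (by rw [QuotientGroup.ker_mk'])
    have : a * b = b * a := hab a b
    rw [this]
    simp
  · apply hcomm_of
    have : Nat.card (G ⧸ Subgroup.center G) = 1 := by rw [hquot]; simp
    have hsub : Subsingleton (G ⧸ Subgroup.center G) := (Nat.card_eq_one_iff_unique.mp this).1
    intro x y
    exact Subsingleton.elim _ _

/-- **Frame**: a non-abelian subgroup of `GL₃(F)` of order 27 and exponent 3 is conjugate to one in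
standard position (when `F` has a primitive cube root of unity and characteristic `≠ 3`). -/
theorem exists_std (w : F) (hw : w ^ 2 + w + 1 = 0) (h3ne : (3 : F) ≠ 0)
    (R : Subgroup (GL (Fin 3) F)) (hR : Nat.card R = 27) (hRe : Monoid.exponent R = 3)
    (hRna : ¬ IsMulCommutative R) :
    ∃ (μ : F) (Q : GL (Fin 3) F), Std (conjSub R Q) μ := by
  rw [isMulCommutative_iff] at hRna
  push Not at hRna
  obtain ⟨x, y, hxy⟩ := hRna
  have hcube : ∀ u : R, u ^ 3 = 1 := fun u => by
    have := Monoid.pow_exponent_eq_one u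
    rwa [hRe] at this
  have hcubeM : ∀ u : R, ((u : GL (Fin 3) F) : Matrix (Fin 3) (Fin 3) F) *
      ((u : GL (Fin 3) F) : Matrix (Fin 3) (Fin 3) F) *
      ((u : GL (Fin 3) F) : Matrix (Fin 3) (Fin 3) F) = 1 := by
    intro u
    have := congrArg (fun v : R => ((v : GL (Fin 3) F) : Matrix (Fin 3) (Fin 3) F)) (hcube u)
    simpa [pow_succ] using this
  have : Fact (Nat.Prime 3) := ⟨by norm_num⟩
  set c : R := x * y * x⁻¹ * y⁻¹ with hc
  have hcZ : c ∈ Subgroup.center R :=
    comm_mem_center_of_card_cube (p := 3) (by rw [hR]; norm_num) x y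
  have hxyc : x * y = c * y * x := by rw [hc]; group
  have hc1 : c ≠ 1 := by
    intro h1
    apply hxy
    rw [hxyc, h1, one_mul]
  have hcx : c * x = x * c := (Subgroup.mem_center_iff.mp hcZ x).symm
  have hcy : c * y = y * c := (Subgroup.mem_center_iff.mp hcZ y).symm
  have toM : ∀ {u v : R}, u = v → ((u : GL (Fin 3) F) : Matrix (Fin 3) (Fin 3) F) =
      ((v : GL (Fin 3) F) : Matrix (Fin 3) (Fin 3) F) := fun h => by rw [h]
  have hAB := toM hxyc
  have hCA := toM hcx
  have hCB := toM hcy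
  simp only [Subgroup.coe_mul, Units.val_mul] at hAB hCA hCB
  have hC1 : ((c : GL (Fin 3) F) : Matrix (Fin 3) (Fin 3) F) ≠ 1 := by
    intro h1
    apply hc1
    apply Subtype.ext
    apply Units.ext
    rw [h1]; rfl
  obtain ⟨μ, l, P, hμ, hl, hP, hAP, hBP, hC⟩ := exists_frame w hw h3ne _ _ _ (hcubeM x) (hcubeM y)
    (hcubeM c) hC1 hAB hCA hCB
  have hμ3 : μ ^ 3 = 1 := by linear_combination (μ - 1) * hμ
  have hμ0 : μ ≠ 0 := by
    rintro rfl
    simp at hμ3
  have hl0 : l ≠ 0 := by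
    rintro rfl
    simp at hl
  let Q : GL (Fin 3) F := Matrix.GeneralLinearGroup.mkOfDetNeZero P hP
  have hQ : (Q : Matrix (Fin 3) (Fin 3) F) = P := rfl
  have hcZ' : (c : GL (Fin 3) F) = gZ μ hμ0 := Units.ext (by rw [hC]; rfl)
  have hZl : gZ l hl0 ∈ R := by
    have hcases : (l - 1) * ((l - μ) * (l - μ ^ 2)) = 0 := by
      linear_combination hl + (l - 1) * (μ - 1 - l) * hμ
    rcases mul_eq_zero.mp hcases with e | e
    · have : l = 1 := sub_eq_zero.mp e
      subst this
      rw [gZ_one]; exact R.one_mem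
    rcases mul_eq_zero.mp e with e | e
    · have : l = μ := sub_eq_zero.mp e
      subst this
      rw [← hcZ']; exact c.2
    · have : l = μ ^ 2 := sub_eq_zero.mp e
      subst this
      have e2 : gZ (μ ^ 2) hl0 = c * c := by
        rw [hcZ']
        exact Units.ext (by simp [smul_smul, pow_two])
      rw [e2]; exact R.mul_mem c.2 c.2
  refine ⟨μ, Q, ⟨hμ, by rw [card_conjSub, hR], fun h' => ?_, ?_⟩⟩
  · rw [mem_conjSub]
    have e1 : (x : GL (Fin 3) F) * Q = Q * (gZ l hl0 * gD μ h') := by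
      apply Units.ext
      simp only [Units.val_mul, coe_gZ, coe_gD, hQ]
      rw [hAP, Matrix.smul_mul, Matrix.one_mul]
    have e3 : Q * gD μ h' = (gZ l hl0)⁻¹ * ((x : GL (Fin 3) F) * Q) := by
      calc Q * gD μ h' = (gZ l hl0)⁻¹ * (gZ l hl0 * Q * gD μ h') := by group
        _ = (gZ l hl0)⁻¹ * (Q * gZ l hl0 * gD μ h') := by rw [gZ_comm]
        _ = (gZ l hl0)⁻¹ * (Q * (gZ l hl0 * gD μ h')) := by rw [mul_assoc Q]
        _ = (gZ l hl0)⁻¹ * ((x : GL (Fin 3) F) * Q) := by rw [e1]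
    have e2 : Q * gD μ h' * Q⁻¹ = (gZ l hl0)⁻¹ * x := by
      rw [e3]; group
    rw [e2]
    exact R.mul_mem (R.inv_mem hZl) x.2
  · rw [mem_conjSub]
    have e1 : Q * gS * Q⁻¹ = (y : GL (Fin 3) F) := by
      rw [mul_inv_eq_iff_eq_mul]
      apply Units.ext
      simp only [Units.val_mul, coe_gS, hQ]
      exact hBP.symm
    rw [e1]; exact y.2

end Cfsg.Agent.Helper42Heis3Grp
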