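import Cfsg.Agent.Lib.Helper43_HermRoot
import Cfsg.Agent.Lib.Helper13_HermBridge

set_option autoImplicit false

/-!
Unitary matrices (with respect to an involutive automorphism of a finite field) that are conjugate
by an invertible matrix are conjugate by a unitary matrix.
-/

namespace Cfsg.Agent.Lib.Helper43_GUConj

open Matrix
open Cfsg.Agent.Lib.Helper43_HermRoot

section abstract

variable {K : Type*} [Field K] [Fintype K] {n : Type*} [Fintype n] [DecidableEq n]

omit [Fintype K] in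
theorem det_starM (σ : K →+* K) (X : Matrix n n K) : (starM σ X).det = σ X.det := by
  unfold starM
  rw [Matrix.det_transpose]
  exact (RingHom.map_det σ X).symm

/-- a conjugating matrix between unitary matrices can be replaced by a unitary one -/
theorem exists_unitary_conj (σ : K →+* K) (hσ : ∀ x, σ (σ x) = x) (hne : ∃ l, σ l ≠ l)
    (Am Bm Pm : Matrix n n K) (hA : starM σ Am * Am = 1) (hB : starM σ Bm * Bm = 1)
    (hPdet : Pm.det ≠ 0) (hP : Pm * Am = Bm * Pm) :
    ∃ Q : Matrix n n K, starM σ Q * Q = 1 ∧ Q * Am = Bm * Q := by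
  set H : Matrix n n K := starM σ Pm * Pm with hHdef
  have hHs : starM σ H = H := by
    rw [hHdef, starM_mul, starM_starM σ hσ]
  have hHdet : H.det ≠ 0 := by
    rw [hHdef, Matrix.det_mul, det_starM]
    exact mul_ne_zero ((map_ne_zero σ).2 hPdet) hPdet
  have hA' : Am * starM σ Am = 1 := mul_eq_one_comm.1 hA
  have hsP : starM σ Am * starM σ Pm = starM σ Pm * starM σ Bm := by
    rw [← starM_mul, ← starM_mul, hP]
  have hinv : starM σ Am * H * Am = H := by
    calc starM σ Am * H * Am = (starM σ Am * starM σ Pm) * (Pm * Am) := by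
          rw [hHdef]; simp only [Matrix.mul_assoc]
      _ = starM σ Pm * (starM σ Bm * Bm) * Pm := by
          rw [hsP, hP]; simp only [Matrix.mul_assoc]
      _ = H := by rw [hB, Matrix.mul_one]
  have hcomm : Am * H = H * Am := by
    calc Am * H = Am * (starM σ Am * H * Am) := by rw [hinv]
      _ = (Am * starM σ Am) * H * Am := by simp only [Matrix.mul_assoc]
      _ = H * Am := by rw [hA', Matrix.one_mul]
  obtain ⟨R, hRc, hRH⟩ := exists_root σ hσ hne H hHs hHdet
  have hRdet : R.det ≠ 0 := by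
    intro h
    apply hHdet
    rw [← hRH, Matrix.det_mul, h, mul_zero]
  have hRu : IsUnit R.det := isUnit_iff_ne_zero.2 hRdet
  have hR1 : R * R⁻¹ = 1 := Matrix.mul_nonsing_inv R hRu
  have hR2 : R⁻¹ * R = 1 := Matrix.nonsing_inv_mul R hRu
  have hAR : Am * R = R * Am := hRc Am hcomm
  have hARi : R⁻¹ * Am = Am * R⁻¹ := by
    calc R⁻¹ * Am = R⁻¹ * Am * (R * R⁻¹) := by rw [hR1, Matrix.mul_one]
      _ = R⁻¹ * (Am * R) * R⁻¹ := by simp only [Matrix.mul_assoc]
      _ = (R⁻¹ * R) * Am * R⁻¹ := by rw [hAR]; simp only [Matrix.mul_assoc]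
      _ = Am * R⁻¹ := by rw [hR2, Matrix.one_mul]
  have hsRi : starM σ R⁻¹ * starM σ R = 1 := by
    rw [← starM_mul, hR1, starM_one]
  refine ⟨Pm * R⁻¹, ?_, ?_⟩
  · calc starM σ (Pm * R⁻¹) * (Pm * R⁻¹) = starM σ R⁻¹ * (starM σ Pm * Pm) * R⁻¹ := by
          rw [starM_mul]; simp only [Matrix.mul_assoc]
      _ = starM σ R⁻¹ * (starM σ R * R) * R⁻¹ := by rw [← hHdef, hRH]
      _ = (starM σ R⁻¹ * starM σ R) * (R * R⁻¹) := by simp only [Matrix.mul_assoc]
      _ = 1 := by rw [hsRi, hR1, Matrix.one_mul]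
  · calc Pm * R⁻¹ * Am = Pm * (R⁻¹ * Am) := by rw [Matrix.mul_assoc]
      _ = (Pm * Am) * R⁻¹ := by rw [hARi, Matrix.mul_assoc]
      _ = Bm * (Pm * R⁻¹) := by rw [hP, Matrix.mul_assoc]

end abstract

section GU

open Cfsg.Agent.Lib.Helper13_HermBridge

variable {K : Type*} [Field K] [Fintype K] {q n : ℕ}

theorem mem_GU_iff_star (hK : Fintype.card K = q ^ 2) (g : GL (Fin n) K) :
    g ∈ Cfsg.GU n K q ↔
      starM (frobQ hK) (g : Matrix (Fin n) (Fin n) K) * (g : Matrix (Fin n) (Fin n) K) = 1 := by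
  rw [mem_GU_iff_gram hK]
  have h1 : starM (frobQ hK) (g : Matrix (Fin n) (Fin n) K) * (g : Matrix (Fin n) (Fin n) K) =
      ((g.1)ᵀ * (g.1).map (fun x => x ^ q))ᵀ := by
    rw [Matrix.transpose_mul, Matrix.transpose_transpose]
    rfl
  rw [h1]
  constructor
  · intro h
    rw [h, Matrix.transpose_one]
  · intro h
    have := congrArg Matrix.transpose h
    rwa [Matrix.transpose_transpose, Matrix.transpose_one] at this

/-- elements of `GU_n(q)` conjugate in `GL_n(q²)` are conjugate in `GU_n(q)` -/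
theorem isConj_GU (hK : Fintype.card K = q ^ 2) (A B : ↥(Cfsg.GU n K q))
    (h : IsConj (A : GL (Fin n) K) (B : GL (Fin n) K)) : IsConj A B := by
  obtain ⟨P, hP⟩ := isConj_iff.1 h
  have hPm : (P : Matrix (Fin n) (Fin n) K) * (A : GL (Fin n) K).1 =
      (B : GL (Fin n) K).1 * (P : Matrix (Fin n) (Fin n) K) := by
    have h1 : P * (A : GL (Fin n) K) = (B : GL (Fin n) K) * P := by
      rw [← hP]
      group
    exact congrArg (fun x : GL (Fin n) K => (x : Matrix (Fin n) (Fin n) K)) h1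
  have hne : ∃ l, frobQ hK l ≠ l := by
    by_contra hcon
    push Not at hcon
    apply frobQ_ne_id hK
    ext x
    exact hcon x
  have hPdet : (P : Matrix (Fin n) (Fin n) K).det ≠ 0 :=
    ((Matrix.isUnit_iff_isUnit_det _).1 P.isUnit).ne_zero
  obtain ⟨Q, hQ1, hQ2⟩ := exists_unitary_conj (frobQ hK) (frobQ_frobQ hK) hne
    (A : GL (Fin n) K).1 (B : GL (Fin n) K).1 (P : Matrix (Fin n) (Fin n) K)
    ((mem_GU_iff_star hK _).1 A.2) ((mem_GU_iff_star hK _).1 B.2) hPdet hPm
  have hQdet : IsUnit Q.det := by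
    have h1 := congrArg Matrix.det hQ1
    rw [Matrix.det_mul, Matrix.det_one] at h1
    exact IsUnit.of_mul_eq_one _ (by rw [mul_comm]; exact h1)
  let Qg : GL (Fin n) K := Matrix.GeneralLinearGroup.mk'' Q hQdet
  have hQg : (Qg : Matrix (Fin n) (Fin n) K) = Q := rfl
  have hmem : Qg ∈ Cfsg.GU n K q := by
    rw [mem_GU_iff_star hK, hQg]
    exact hQ1
  rw [isConj_iff]
  refine ⟨⟨Qg, hmem⟩, ?_⟩
  apply Subtype.ext
  show Qg * (A : GL (Fin n) K) * Qg⁻¹ = (B : GL (Fin n) K)
  rw [mul_inv_eq_iff_eq_mul]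
  apply Units.ext
  show (Qg : Matrix (Fin n) (Fin n) K) * (A : GL (Fin n) K).1 =
    (B : GL (Fin n) K).1 * (Qg : Matrix (Fin n) (Fin n) K)
  rw [hQg]
  exact hQ2

end GU

end Cfsg.Agent.Lib.Helper43_GUConj
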