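import Mathlib
import Cfsg.Agent.Lib.Helper42_Heis3Grp
import Cfsg.Agent.Lib.Helper43_GUConj
import Cfsg.Agent.Lib.Helper5_SUOrder

set_option autoImplicit false

/-!
# Subgroups `3^{1+2}` of `GU₃` and unitary conjugacy

(helper42) For S5999.
-/

namespace Cfsg.Agent.Helper42Heis3U

open Matrix Cfsg.Agent.Helper42CubeNF Cfsg.Agent.Helper42Heis3 Cfsg.Agent.Helper42QuadNF
  Cfsg.Agent.Helper42Heis3Grp Cfsg.Agent.Lib.Helper43_HermRoot Cfsg.Agent.Lib.Helper43_GUConj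

section abstract

variable {K : Type*} [Field K] [Fintype K] {n : Type*} [Fintype n] [DecidableEq n]

/-- an invertible matrix can be replaced by a unitary one conjugating in the same way all pairs of
unitary matrices that it conjugates -/
theorem exists_unitary_of_gl (σ : K →+* K) (hσ : ∀ x, σ (σ x) = x) (hne : ∃ l, σ l ≠ l)
    (Pm : Matrix n n K) (hPdet : Pm.det ≠ 0) :
    ∃ Q : Matrix n n K, starM σ Q * Q = 1 ∧ ∀ Am Bm : Matrix n n K, starM σ Am * Am = 1 →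
      starM σ Bm * Bm = 1 → Pm * Am = Bm * Pm → Q * Am = Bm * Q := by
  set H : Matrix n n K := starM σ Pm * Pm with hHdef
  have hHs : starM σ H = H := by
    rw [hHdef, starM_mul, starM_starM σ hσ]
  have hHdet : H.det ≠ 0 := by
    rw [hHdef, Matrix.det_mul, det_starM]
    exact mul_ne_zero ((map_ne_zero σ).2 hPdet) hPdet
  obtain ⟨R, hRc, hRH⟩ := exists_root σ hσ hne H hHs hHdet
  have hRdet : R.det ≠ 0 := by
    intro h
    apply hHdet
    rw [← hRH, Matrix.det_mul, h, mul_zero]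
  have hRu : IsUnit R.det := isUnit_iff_ne_zero.2 hRdet
  have hR1 : R * R⁻¹ = 1 := Matrix.mul_nonsing_inv R hRu
  have hR2 : R⁻¹ * R = 1 := Matrix.nonsing_inv_mul R hRu
  have hsRi : starM σ R⁻¹ * starM σ R = 1 := by
    rw [← starM_mul, hR1, starM_one]
  refine ⟨Pm * R⁻¹, ?_, ?_⟩
  · calc starM σ (Pm * R⁻¹) * (Pm * R⁻¹) = starM σ R⁻¹ * (starM σ Pm * Pm) * R⁻¹ := by
          rw [starM_mul]; simp only [Matrix.mul_assoc]
      _ = starM σ R⁻¹ * (starM σ R * R) * R⁻¹ := by rw [← hHdef, hRH]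
      _ = (starM σ R⁻¹ * starM σ R) * (R * R⁻¹) := by simp only [Matrix.mul_assoc]
      _ = 1 := by rw [hsRi, hR1, Matrix.one_mul]
  · intro Am Bm hA hB hP
    have hA' : Am * starM σ Am = 1 := mul_eq_one_comm.1 hA
    have hsP : starM σ Am * starM σ Pm = starM σ Pm * starM σ Bm := by
      rw [← starM_mul, ← starM_mul, hP]
    have hinv : starM σ Am * H * Am = H := by
      calc starM σ Am * H * Am = (starM σ Am * starM σ Pm) * (Pm * Am) := by
            rw [hHdef]; simp only [Matrix.mul_assoc]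
        _ = starM σ Pm * (starM σ Bm * Bm) * Pm := by
            rw [hsP, hP]; simp only [Matrix.mul_assoc]
        _ = H := by rw [hB, Matrix.mul_one]
    have hcomm : Am * H = H * Am := by
      calc Am * H = Am * (starM σ Am * H * Am) := by rw [hinv]
        _ = (Am * starM σ Am) * H * Am := by simp only [Matrix.mul_assoc]
        _ = H * Am := by rw [hA', Matrix.one_mul]
    have hAR : Am * R = R * Am := hRc Am hcomm
    have hARi : R⁻¹ * Am = Am * R⁻¹ := by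
      calc R⁻¹ * Am = R⁻¹ * Am * (R * R⁻¹) := by rw [hR1, Matrix.mul_one]
        _ = R⁻¹ * (Am * R) * R⁻¹ := by simp only [Matrix.mul_assoc]
        _ = (R⁻¹ * R) * Am * R⁻¹ := by rw [hAR]; simp only [Matrix.mul_assoc]
        _ = Am * R⁻¹ := by rw [hR2, Matrix.one_mul]
    calc Pm * R⁻¹ * Am = Pm * (R⁻¹ * Am) := by rw [Matrix.mul_assoc]
      _ = (Pm * Am) * R⁻¹ := by rw [hARi, Matrix.mul_assoc]
      _ = Bm * (Pm * R⁻¹) := by rw [hP, Matrix.mul_assoc]

end abstract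

section three

variable {F : Type*} [Field F] [Fintype F]

/-- unitary matrices -/
def IsUn (σ : F →+* F) (X : Matrix (Fin 3) (Fin 3) F) : Prop := starM σ X * X = 1

theorem IsUn.mul {σ : F →+* F} {X Y : Matrix (Fin 3) (Fin 3) F} (hX : IsUn σ X) (hY : IsUn σ Y) :
    IsUn σ (X * Y) := by
  unfold IsUn at *
  rw [starM_mul]
  calc starM σ Y * starM σ X * (X * Y) = starM σ Y * (starM σ X * X) * Y := by
        simp only [Matrix.mul_assoc]
    _ = 1 := by rw [hX, Matrix.mul_one, hY]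

theorem IsUn.mul_star {σ : F →+* F} {X : Matrix (Fin 3) (Fin 3) F} (hX : IsUn σ X) :
    X * starM σ X = 1 := mul_eq_one_comm.1 hX

theorem IsUn.star {σ : F →+* F} (hσ : ∀ x, σ (σ x) = x) {X : Matrix (Fin 3) (Fin 3) F}
    (hX : IsUn σ X) : IsUn σ (starM σ X) := by
  unfold IsUn
  rw [starM_starM σ hσ]
  exact hX.mul_star

theorem IsUn.det_norm {σ : F →+* F} {X : Matrix (Fin 3) (Fin 3) F} (hX : IsUn σ X) :
    σ X.det * X.det = 1 := by
  have h := congrArg Matrix.det hX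
  rwa [Matrix.det_mul, det_starM, Matrix.det_one] at h

theorem isUn_diagonal (σ : F →+* F) (d : Fin 3 → F) (hd : ∀ i, σ (d i) * d i = 1) :
    IsUn σ (Matrix.diagonal d) := by
  unfold IsUn starM
  rw [Matrix.diagonal_map (map_zero σ), Matrix.diagonal_transpose, Matrix.diagonal_mul_diagonal,
    ← Matrix.diagonal_one]
  congr 1
  ext i
  exact hd i

theorem isUn_smul (σ : F →+* F) (c : F) (hc : σ c * c = 1) {X : Matrix (Fin 3) (Fin 3) F}
    (hX : IsUn σ X) : IsUn σ (c • X) := by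
  unfold IsUn at *
  rw [starM_smul, Matrix.smul_mul, Matrix.mul_smul, smul_smul, hX]
  have : c * σ c = 1 := by rw [mul_comm]; exact hc
  first | rw [hc, one_smul] | rw [this, one_smul]

theorem isUn_nfD (σ : F →+* F) (μ : F) (hμ : σ μ * μ = 1) : IsUn σ (nfD μ) := by
  apply isUn_diagonal
  intro i
  fin_cases i
  · simp
  · simpa using hμ
  · simp only [Fin.reduceFinMk, Matrix.cons_val, map_pow]
    rw [← mul_pow, hμ, one_pow]

theorem isUn_zd (σ : F →+* F) (α : F) (hα : σ α * α = 1) : IsUn σ (zd α) := by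
  apply isUn_diagonal
  intro i
  fin_cases i
  · simpa using hα
  · simp
  · simp

theorem isUn_Emat (σ : F →+* F) (α : F) (hα : σ α * α = 1) : IsUn σ (Emat α) :=
  isUn_zd σ α hα

theorem isUn_Smat (σ : F →+* F) : IsUn σ (Smat : Matrix (Fin 3) (Fin 3) F) := by
  unfold IsUn starM
  ext i j
  fin_cases i <;> fin_cases j <;>
    simp [Smat, Matrix.mul_apply, Fin.sum_univ_three, Matrix.transpose_apply, Matrix.map_apply]

theorem isUn_Tmat (σ : F →+* F) : IsUn σ (Tmat : Matrix (Fin 3) (Fin 3) F) := by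
  unfold IsUn starM
  ext i j
  fin_cases i <;> fin_cases j <;>
    simp [Tmat, Matrix.mul_apply, Fin.sum_univ_three, Matrix.transpose_apply, Matrix.map_apply]

/-- **unitary conjugacy with determinant one**: two unitary matrices conjugate in `GL₃`, the second
being `Q N₀ Q⁻¹` with `Q` unitary and `N₀` commuting with all `diag(α,1,1)`, are conjugate by a
unitary matrix of determinant one. -/
theorem exists_su_conj (σ : F →+* F) (hσ : ∀ x, σ (σ x) = x) (hne : ∃ l, σ l ≠ l)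
    (M1 M2 N0 Qm P : Matrix (Fin 3) (Fin 3) F) (hM1 : IsUn σ M1) (hM2 : IsUn σ M2)
    (hQ : IsUn σ Qm) (hZ : ∀ α : F, zd α * N0 = N0 * zd α) (hM2Q : M2 * Qm = Qm * N0)
    (hP : P.det ≠ 0) (hc : M1 * P = P * M2) :
    ∃ S : Matrix (Fin 3) (Fin 3) F, IsUn σ S ∧ S.det = 1 ∧ M1 * S = S * M2 := by
  obtain ⟨U, hU, hUc⟩ := exists_unitary_conj σ hσ hne M2 M1 P hM2 hM1 hP hc.symm
  have hUn : IsUn σ U := hU
  set δ := U.det with hδ
  have hδn : σ δ * δ = 1 := hUn.det_norm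
  have hδ0 : δ ≠ 0 := by
    rintro h
    rw [h, mul_zero] at hδn
    exact zero_ne_one hδn
  have hδi : σ δ⁻¹ * δ⁻¹ = 1 := by
    rw [map_inv₀, ← mul_inv, mul_comm, inv_eq_one]
    rw [mul_comm]; exact hδn
  have hQ' : Qm * starM σ Qm = 1 := hQ.mul_star
  set C := Qm * zd δ⁻¹ * starM σ Qm with hC
  have hCun : IsUn σ C := (hQ.mul (isUn_zd σ _ hδi)).mul (hQ.star hσ)
  have hM2eq : M2 = Qm * N0 * starM σ Qm := by
    calc M2 = M2 * (Qm * starM σ Qm) := by rw [hQ', Matrix.mul_one]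
      _ = (M2 * Qm) * starM σ Qm := by rw [Matrix.mul_assoc]
      _ = Qm * N0 * starM σ Qm := by rw [hM2Q]
  have hCM : M2 * C = C * M2 := by
    have hq : starM σ Qm * Qm = 1 := hQ
    calc M2 * C = Qm * N0 * (starM σ Qm * Qm) * zd δ⁻¹ * starM σ Qm := by
          rw [hM2eq, hC]; simp only [Matrix.mul_assoc]
      _ = Qm * (N0 * zd δ⁻¹) * starM σ Qm := by rw [hq]; simp only [Matrix.mul_assoc, Matrix.mul_one]
      _ = Qm * (zd δ⁻¹ * N0) * starM σ Qm := by rw [hZ]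
      _ = Qm * zd δ⁻¹ * (starM σ Qm * Qm) * N0 * starM σ Qm := by
          rw [hq]; simp only [Matrix.mul_assoc, Matrix.mul_one]
      _ = C * M2 := by rw [hM2eq, hC]; simp only [Matrix.mul_assoc]
  have hdetC : C.det = δ⁻¹ := by
    have h1 : Qm.det * (starM σ Qm).det = 1 := by
      rw [← Matrix.det_mul, hQ', Matrix.det_one]
    rw [hC, Matrix.det_mul, Matrix.det_mul, det_zd]
    calc Qm.det * δ⁻¹ * (starM σ Qm).det = δ⁻¹ * (Qm.det * (starM σ Qm).det) := by ring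
      _ = δ⁻¹ := by rw [h1, mul_one]
  refine ⟨U * C, hUn.mul hCun, ?_, ?_⟩
  · rw [Matrix.det_mul, hdetC, ← hδ, mul_inv_cancel₀ hδ0]
  · calc M1 * (U * C) = (M1 * U) * C := by rw [Matrix.mul_assoc]
      _ = U * (M2 * C) := by rw [← hUc, Matrix.mul_assoc]
      _ = U * (C * M2) := by rw [hCM]
      _ = U * C * M2 := (Matrix.mul_assoc U C M2).symm

end three


section GU

open Cfsg.Agent.Lib.Helper13_HermBridge

variable {F : Type*} [Field F] [Fintype F] {q : ℕ}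

theorem frob_cube (hF : Fintype.card F = q ^ 2) (h3 : 3 ∣ q + 1) (t : F) (ht : t ^ 3 = 1) :
    frobQ hF t * t = 1 := by
  obtain ⟨k, hk⟩ := h3
  rw [frobQ_apply, ← pow_succ, hk, pow_mul, ht, one_pow]

theorem frob_ne (hF : Fintype.card F = q ^ 2) : ∃ l, frobQ hF l ≠ l := by
  by_contra hcon
  push Not at hcon
  apply frobQ_ne_id hF
  ext x
  exact hcon x

theorem mem_GU_iff_isUn (hF : Fintype.card F = q ^ 2) (g : GL (Fin 3) F) :
    g ∈ Cfsg.GU 3 F q ↔ IsUn (frobQ hF) (g : Matrix (Fin 3) (Fin 3) F) :=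
  mem_GU_iff_star hF g

theorem gD_mem_GU (hF : Fintype.card F = q ^ 2) (h3 : 3 ∣ q + 1) (μ : F) (h : μ ^ 3 = 1) :
    gD μ h ∈ Cfsg.GU 3 F q := by
  rw [mem_GU_iff_isUn hF]
  exact isUn_nfD _ μ (frob_cube hF h3 μ h)

theorem gS_mem_GU (hF : Fintype.card F = q ^ 2) : (gS : GL (Fin 3) F) ∈ Cfsg.GU 3 F q := by
  rw [mem_GU_iff_isUn hF]
  exact isUn_Smat _

theorem gT_mem_GU (hF : Fintype.card F = q ^ 2) : (gT : GL (Fin 3) F) ∈ Cfsg.GU 3 F q := by
  rw [mem_GU_iff_isUn hF]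
  exact isUn_Tmat _

theorem gE_mem_GU (hF : Fintype.card F = q ^ 2) (z : F) (hz : z ≠ 0) (hn : frobQ hF z * z = 1) :
    gE z hz ∈ Cfsg.GU 3 F q := by
  rw [mem_GU_iff_isUn hF]
  exact isUn_Emat _ z hn

theorem isUn_one (σ : F →+* F) : IsUn σ (1 : Matrix (Fin 3) (Fin 3) F) := by
  unfold IsUn
  rw [starM_one, Matrix.one_mul]

theorem gZ_mem_GU (hF : Fintype.card F = q ^ 2) (z : F) (hz : z ≠ 0) (hn : frobQ hF z * z = 1) :
    gZ z hz ∈ Cfsg.GU 3 F q := by
  rw [mem_GU_iff_isUn hF]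
  exact isUn_smul _ z hn (isUn_one _)

/-- **Unitary frame**: a non-abelian subgroup of `GU₃(q)` (`3 ∣ q + 1`) of order 27 and exponent 3 is
conjugate under `GU₃(q)` to one in standard position. -/
theorem exists_std_unitary (hF : Fintype.card F = q ^ 2) (h3 : 3 ∣ q + 1)
    (w : F) (hw : w ^ 2 + w + 1 = 0) (h3ne : (3 : F) ≠ 0)
    (R : Subgroup (GL (Fin 3) F)) (hRU : R ≤ Cfsg.GU 3 F q) (hR : Nat.card R = 27)
    (hRe : Monoid.exponent R = 3) (hRna : ¬ IsMulCommutative R) :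
    ∃ (μ : F) (Q : GL (Fin 3) F), Q ∈ Cfsg.GU 3 F q ∧ Std (conjSub R Q) μ := by
  obtain ⟨μ, Q₀, hstd⟩ := exists_std w hw h3ne R hR hRe hRna
  have hx : Q₀ * gD μ hstd.cube * Q₀⁻¹ ∈ R := mem_conjSub.mp (hstd.memD _)
  have hy : Q₀ * gS * Q₀⁻¹ ∈ R := mem_conjSub.mp hstd.memS
  obtain ⟨Qm, hQm, hQc⟩ := exists_unitary_of_gl (frobQ hF) (frobQ_frobQ hF) (frob_ne hF)
    (Q₀ : Matrix (Fin 3) (Fin 3) F) (det_coe_ne_zero Q₀)
  have hQdet : IsUnit Qm.det := by
    have h1 := congrArg Matrix.det hQm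
    rw [Matrix.det_mul, Matrix.det_one] at h1
    exact IsUnit.of_mul_eq_one _ (by rw [mul_comm]; exact h1)
  let Q : GL (Fin 3) F := Matrix.GeneralLinearGroup.mk'' Qm hQdet
  have hQ : (Q : Matrix (Fin 3) (Fin 3) F) = Qm := rfl
  have hQU : Q ∈ Cfsg.GU 3 F q := by
    rw [mem_GU_iff_isUn hF, hQ]; exact hQm
  have hconj : ∀ (g₀ : GL (Fin 3) F), g₀ ∈ Cfsg.GU 3 F q → Q₀ * g₀ * Q₀⁻¹ ∈ R →
      Q * g₀ * Q⁻¹ = Q₀ * g₀ * Q₀⁻¹ := by
    intro g₀ hg₀ hmem
    rw [mul_inv_eq_iff_eq_mul]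
    apply Units.ext
    rw [Units.val_mul, Units.val_mul, hQ]
    apply hQc _ _ ((mem_GU_iff_isUn hF g₀).mp hg₀) ((mem_GU_iff_isUn hF _).mp (hRU hmem))
    rw [← Units.val_mul, ← Units.val_mul]
    congr 1
    group
  refine ⟨μ, Q, hQU, ⟨hstd.prim, by rw [card_conjSub, hR], fun h' => ?_, ?_⟩⟩
  · rw [mem_conjSub, hconj _ (gD_mem_GU hF h3 μ h') hx]
    exact hx
  · rw [mem_conjSub, hconj _ (gS_mem_GU hF) hy]
    exact hy

/-- the special unitary group inside `GL` has the order of `SU` -/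
theorem card_GU_inf_SL (n : ℕ) :
    Nat.card ↥(Cfsg.GU n F q ⊓ Cfsg.Geo.specialLinear (Fin n) F) = Nat.card (Cfsg.SU n F q) := by
  rw [← Nat.card_congr (Cfsg.Agent.Lib.Helper5_SUOrder.kerEquiv (F := F) (q := q) n)]
  refine Nat.card_congr
    { toFun := fun g => ⟨⟨g.1, g.2.1⟩, ?_⟩
      invFun := fun g => ⟨g.1.1, ⟨g.1.2, ?_⟩⟩
      left_inv := fun g => rfl
      right_inv := fun g => rfl }
  · rw [MonoidHom.mem_ker]
    exact MonoidHom.mem_ker.mp g.2.2
  · have := MonoidHom.mem_ker.mp g.2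
    exact MonoidHom.mem_ker.mpr this

end GU

end Cfsg.Agent.Helper42Heis3U
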