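import Cfsg.Agent.Lib.Helper47_IsoBase

/-!
# S3044 / S3045 package GEN (helper42, for architect helper47)

`Y = (P ∩ Y)(L ∩ Y)` for `Y = ⟨O^p(P)^G⟩`.
-/

set_option autoImplicit false

open Cfsg
open Cfsg.Agent.Lib.Helper47_IsoBase Cfsg.Agent.Lib.Helper47_SubAPI Cfsg.Agent.Lib.Helper48_Op
open scoped commutatorElement Pointwise

namespace Cfsg.Agent.Lib.Helper42_Iso_GEN

universe u

variable {G : Type u} [Group G] [Finite G] {p : ℕ} [Fact p.Prime] {S : Sylow p G} {P L : Subgroup G}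

omit [Finite G] in
/-- A subgroup `X` normalizes `A ⊓ Y` when it normalizes `A` and `Y` is normal. -/
theorem le_normalizer_inf_normal {X A Y : Subgroup G} (hY : Y.Normal)
    (hA : X ≤ Subgroup.normalizer (A : Set G)) :
    X ≤ Subgroup.normalizer ((A ⊓ Y : Subgroup G) : Set G) := by
  intro x hx
  rw [Subgroup.mem_normalizer_iff]
  intro g
  have hxA := Subgroup.mem_normalizer_iff.mp (hA hx) g
  constructor
  · rintro ⟨hgA, hgY⟩
    exact ⟨hxA.mp hgA, hY.conj_mem g hgY x⟩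
  · rintro ⟨hgA, hgY⟩
    refine ⟨hxA.mpr hgA, ?_⟩
    have h1 := hY.conj_mem _ hgY x⁻¹
    have e : x⁻¹ * (x * g * x⁻¹) * x⁻¹⁻¹ = g := by group
    rw [e] at h1
    exact h1

theorem gen (h : IsoHyp p S P L) :
    Subgroup.normalClosure ((Op p P : Subgroup G) : Set G) ≤
      (P ⊓ Subgroup.normalClosure ((Op p P : Subgroup G) : Set G)) ⊔
        (L ⊓ Subgroup.normalClosure ((Op p P : Subgroup G) : Set G)) := by
  have hWY : Op p P ≤ Subgroup.normalClosure ((Op p P : Subgroup G) : Set G) :=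
    Subgroup.subset_normalClosure
  obtain ⟨Y, hY⟩ : ∃ Y : Subgroup G, Y = Subgroup.normalClosure ((Op p P : Subgroup G) : Set G) :=
    ⟨_, rfl⟩
  rw [← hY] at hWY ⊢
  have hYn : Y.Normal := by rw [hY]; exact Subgroup.normalClosure_normal
  have hSL : (S : Subgroup G) ≤ L := h.S_le_L
  have hSP : (S : Subgroup G) ≤ P := h.hSP
  -- `S` normalizes `B`
  have hSB : (S : Subgroup G) ≤ Subgroup.normalizer (((P ⊓ Y) ⊔ (L ⊓ Y) : Subgroup G) : Set G) :=
    le_normalizer_sup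
      (le_normalizer_inf_normal hYn (hSP.trans Subgroup.le_normalizer))
      (le_normalizer_inf_normal hYn (hSL.trans Subgroup.le_normalizer))
  -- `L ⊓ (Y ⊔ S) ≤ (L ⊓ Y) ⊔ S`
  have hLYS : L ⊓ (Y ⊔ (S : Subgroup G)) ≤ (L ⊓ Y) ⊔ (S : Subgroup G) := by
    rintro g ⟨hgL, hgYS⟩
    have hSY : (S : Subgroup G) ≤ Subgroup.normalizer (Y : Set G) := by
      rw [Subgroup.normalizer_eq_top_iff.mpr hYn]; exact le_top
    obtain ⟨y, hy, s, hs, e⟩ :=
      Cfsg.Agent.Lib.Helper24_CoprimeAction.exists_mul_of_mem_sup (S : Subgroup G) Y hSY hgYS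
    have hyL : y ∈ L := by
      have e2 : y = g * s⁻¹ := by rw [e]; group
      rw [e2]
      exact L.mul_mem hgL (L.inv_mem (hSL hs))
    rw [e]
    exact Subgroup.mul_mem _ (Subgroup.mem_sup_left ⟨hyL, hy⟩) (Subgroup.mem_sup_right hs)
  -- `Y ⊔ S ≤ B ⊔ S`
  have hmain : Y ⊔ (S : Subgroup G) ≤ ((P ⊓ Y) ⊔ (L ⊓ Y)) ⊔ (S : Subgroup G) := by
    refine (gen_claim S _ (Y ⊔ (S : Subgroup G)) rfl le_sup_right).trans (sup_le ?_ ?_)
    · refine (inf_le_inf_right _ h.normalizer_le).trans (hLYS.trans ?_)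
      exact sup_le_sup_right le_sup_right _
    · apply iSup_le
      rintro ⟨P', hSP', hP'le, hmin⟩
      by_cases hP' : P' = P
      · show P' ≤ _
        rw [hP']
        refine h.P_le.trans (sup_le_sup_right ?_ _)
        exact (le_inf (Op_le p P) hWY).trans le_sup_left
      · have h1 : P' ≤ L ⊓ (Y ⊔ (S : Subgroup G)) := le_inf (h.le_L hSP' hmin hP') hP'le
        exact h1.trans (hLYS.trans (sup_le_sup_right le_sup_right _))
  -- conclude
  intro y hy
  have hy' : y ∈ ((P ⊓ Y) ⊔ (L ⊓ Y)) ⊔ (S : Subgroup G) := hmain (Subgroup.mem_sup_left hy)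
  obtain ⟨b, hb, s, hs, e⟩ :=
    Cfsg.Agent.Lib.Helper24_CoprimeAction.exists_mul_of_mem_sup (S : Subgroup G) _ hSB hy'
  have hBY : (P ⊓ Y) ⊔ (L ⊓ Y) ≤ Y := sup_le inf_le_right inf_le_right
  have hsY : s ∈ Y := by
    have e2 : s = b⁻¹ * y := by rw [e]; group
    rw [e2]
    exact Y.mul_mem (Y.inv_mem (hBY hb)) hy
  rw [e]
  exact Subgroup.mul_mem _ hb (Subgroup.mem_sup_right ⟨hSL hs, hsY⟩)

end Cfsg.Agent.Lib.Helper42_Iso_GEN
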