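import Cfsg.Agent.Lib.Helper47_IsoBase

/-!
# S3044 / S3045 package SPLIT (helper42, for architect helper47)

`Y ≤ (P ∩ Y) Y' Q` for `Y = ⟨O^p(P)^G⟩`, given `Y = (P ∩ Y)(L ∩ Y)` (package GEN).
-/

set_option autoImplicit false

open Cfsg
open Cfsg.Agent.Lib.Helper47_IsoBase Cfsg.Agent.Lib.Helper47_SubAPI Cfsg.Agent.Lib.Helper48_Op
open scoped commutatorElement Pointwise

namespace Cfsg.Agent.Lib.Helper42_Iso_SPLIT

universe u

variable {G : Type u} [Group G] [Finite G] {p : ℕ} [Fact p.Prime] {S : Sylow p G} {P L : Subgroup G}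

theorem split (h : IsoHyp p S P L)
    (hgen : Subgroup.normalClosure ((Op p P : Subgroup G) : Set G) ≤
      (P ⊓ Subgroup.normalClosure ((Op p P : Subgroup G) : Set G)) ⊔
        (L ⊓ Subgroup.normalClosure ((Op p P : Subgroup G) : Set G))) :
    Subgroup.normalClosure ((Op p P : Subgroup G) : Set G) ≤
      ((P ⊓ Subgroup.normalClosure ((Op p P : Subgroup G) : Set G)) ⊔
        ⁅Subgroup.normalClosure ((Op p P : Subgroup G) : Set G),
          Subgroup.normalClosure ((Op p P : Subgroup G) : Set G)⁆) ⊔ Cfsg.pCore p G := by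
  have hYle := h.Y_le
  obtain ⟨Y, hY⟩ : ∃ Y : Subgroup G, Y = Subgroup.normalClosure ((Op p P : Subgroup G) : Set G) :=
    ⟨_, rfl⟩
  rw [← hY] at hgen hYle ⊢
  have hYn : Y.Normal := by rw [hY]; exact Subgroup.normalClosure_normal
  have hQn : (Cfsg.pCore p G).Normal := inferInstance
  have hYYn : (⁅Y, Y⁆ : Subgroup G).Normal := Subgroup.commutator_normal Y Y
  -- commutators of elements of `Y` with anything lie in `Y`
  have hcommY : ∀ a ∈ Y, ∀ c : G, ⁅a, c⁆ ∈ Y := by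
    intro a ha c
    have e : ⁅a, c⁆ = a * (c * a⁻¹ * c⁻¹) := by
      simp only [commutatorElement_def]; group
    rw [e]
    exact Y.mul_mem ha (hYn.conj_mem _ (Y.inv_mem ha) c)
  -- `Y` normalizes `Y₀`
  have hYN : Y ≤ Subgroup.normalizer
      ((((P ⊓ Y) ⊔ ⁅Y, Y⁆) ⊔ Cfsg.pCore p G : Subgroup G) : Set G) := by
    apply Cfsg.Agent.Lib.Helper47_PClosed.le_normalizer_of_forall_map_conj_le
    intro y hy
    rw [Subgroup.map_sup, Subgroup.map_sup]
    refine sup_le (sup_le ?_ ?_) ?_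
    · rintro _ ⟨x, hx, rfl⟩
      have e : (MulAut.conj y).toMonoidHom x = ⁅y, x⁆ * x := by
        simp only [MulEquiv.coe_toMonoidHom, MulAut.conj_apply, commutatorElement_def]; group
      rw [e]
      exact Subgroup.mul_mem _
        (Subgroup.mem_sup_left (Subgroup.mem_sup_right (Subgroup.commutator_mem_commutator hy hx.2)))
        (Subgroup.mem_sup_left (Subgroup.mem_sup_left hx))
    · rintro _ ⟨x, hx, rfl⟩
      exact Subgroup.mem_sup_left (Subgroup.mem_sup_right (hYYn.conj_mem x hx y))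
    · rintro _ ⟨x, hx, rfl⟩
      exact Subgroup.mem_sup_right (hQn.conj_mem x hx y)
  -- the two commutator inclusions
  have h1 : ⁅P ⊓ Y, Cfsg.pCoreOf p L⁆ ≤ ((P ⊓ Y) ⊔ ⁅Y, Y⁆) ⊔ Cfsg.pCore p G := by
    rw [Subgroup.commutator_le]
    intro a ha c hc
    refine Subgroup.mem_sup_left (Subgroup.mem_sup_left ⟨?_, hcommY a ha.2 c⟩)
    have hcP : c ∈ P := h.C_le_P hc
    rw [commutatorElement_def]
    exact P.mul_mem (P.mul_mem (P.mul_mem ha.1 hcP) (P.inv_mem ha.1)) (P.inv_mem hcP)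
  have h2 : ⁅L ⊓ Y, Cfsg.pCoreOf p L⁆ ≤ ((P ⊓ Y) ⊔ ⁅Y, Y⁆) ⊔ Cfsg.pCore p G := by
    rw [Subgroup.commutator_le]
    intro a ha c hc
    refine Subgroup.mem_sup_left (Subgroup.mem_sup_left ⟨?_, hcommY a ha.2 c⟩)
    apply h.C_le_P
    have han := h.L_le_normalizer_C ha.1
    have h3 : a * c * a⁻¹ ∈ Cfsg.pCoreOf p L := (Subgroup.mem_normalizer_iff.mp han c).mp hc
    rw [commutatorElement_def]
    exact Subgroup.mul_mem _ h3 (Subgroup.inv_mem _ hc)
  have hn : (P ⊓ Y) ⊔ (L ⊓ Y) ≤ Subgroup.normalizer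
      ((((P ⊓ Y) ⊔ ⁅Y, Y⁆) ⊔ Cfsg.pCore p G : Subgroup G) : Set G) :=
    (sup_le inf_le_right inf_le_right).trans hYN
  have h3 := commutator_sup_le h1 h2 hn
  have h4 : ⁅Y, Cfsg.pCoreOf p L⁆ ≤ ((P ⊓ Y) ⊔ ⁅Y, Y⁆) ⊔ Cfsg.pCore p G :=
    (Subgroup.commutator_mono hgen le_rfl).trans h3
  exact hYle.trans (sup_le h4 le_sup_right)

end Cfsg.Agent.Lib.Helper42_Iso_SPLIT
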