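import Mathlib

/-!
# Uniqueness of the simple group of order 7920: shared vocabulary (helper74)

The graph on the 55 Sylow 3-subgroups of a group `G` with the local structure of a simple group of
order `7920`: `P` and `Q` are adjacent when some involution inverts both.  The structures below
bundle the facts proved by the packages of the S0420 market, so that every package can be proved
independently of the others.
-/

set_option autoImplicit false

namespace Cfsg.Agent.Lib.Helper74_M11UDefs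

variable {G : Type*} [Group G]

/-- `z` is an involution inverting every element of `P`. -/
def Inverts (z : G) (P : Subgroup G) : Prop :=
  orderOf z = 2 ∧ ∀ y ∈ P, z * y * z⁻¹ = y⁻¹

/-- the normalizer of a Sylow 3-subgroup -/
abbrev NN (P : Sylow 3 G) : Subgroup G := Subgroup.normalizer ((P : Subgroup G) : Set G)

/-- the centralizer of an element -/
abbrev CC (z : G) : Subgroup G := Subgroup.centralizer ({z} : Set G)

/-- two Sylow 3-subgroups are adjacent when they are distinct and inverted by a common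
involution -/
def Adj3 (P Q : Sylow 3 G) : Prop :=
  P ≠ Q ∧ ∃ z : G, Inverts z (P : Subgroup G) ∧ Inverts z (Q : Subgroup G)

/-- three distinct Sylow 3-subgroups inverted by a common involution -/
def Tri (P Q T : Sylow 3 G) : Prop :=
  P ≠ Q ∧ P ≠ T ∧ Q ≠ T ∧
    ∃ z : G, Inverts z (P : Subgroup G) ∧ Inverts z (Q : Subgroup G) ∧ Inverts z (T : Subgroup G)

theorem Adj3.symm {P Q : Sylow 3 G} (h : Adj3 P Q) : Adj3 Q P :=
  ⟨h.1.symm, h.2.imp fun _ hz => ⟨hz.2, hz.1⟩⟩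

theorem Adj3.ne {P Q : Sylow 3 G} (h : Adj3 P Q) : P ≠ Q := h.1

theorem not_adj3_self (P : Sylow 3 G) : ¬ Adj3 P P := fun h => h.1 rfl

/-- the graph on the Sylow 3-subgroups -/
def gr3 (G : Type*) [Group G] : SimpleGraph (Sylow 3 G) where
  Adj := Adj3
  symm := ⟨fun _ _ h => h.symm⟩
  loopless := ⟨fun P h => not_adj3_self P h⟩

@[simp] theorem gr3_adj {P Q : Sylow 3 G} : (gr3 G).Adj P Q ↔ Adj3 P Q := Iff.rfl

theorem Tri.adj12 {P Q T : Sylow 3 G} (h : Tri P Q T) : Adj3 P Q :=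
  ⟨h.1, h.2.2.2.imp fun _ hz => ⟨hz.1, hz.2.1⟩⟩

theorem Tri.adj13 {P Q T : Sylow 3 G} (h : Tri P Q T) : Adj3 P T :=
  ⟨h.2.1, h.2.2.2.imp fun _ hz => ⟨hz.1, hz.2.2⟩⟩

theorem Tri.adj23 {P Q T : Sylow 3 G} (h : Tri P Q T) : Adj3 Q T :=
  ⟨h.2.2.1, h.2.2.2.imp fun _ hz => ⟨hz.2.1, hz.2.2⟩⟩

/-- `Tri` is symmetric in the first two arguments -/
theorem Tri.swap12 {P Q T : Sylow 3 G} (h : Tri P Q T) : Tri Q P T :=
  ⟨h.1.symm, h.2.2.1, h.2.1, h.2.2.2.imp fun _ hz => ⟨hz.2.1, hz.1, hz.2.2⟩⟩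

/-- `Tri` is symmetric in the last two arguments -/
theorem Tri.swap23 {P Q T : Sylow 3 G} (h : Tri P Q T) : Tri P T Q :=
  ⟨h.2.1, h.1, h.2.2.1.symm, h.2.2.2.imp fun _ hz => ⟨hz.1, hz.2.2, hz.2.1⟩⟩

/-- conjugation transports inverting involutions -/
theorem Inverts.conj {z : G} {P : Sylow 3 G} (h : Inverts z (P : Subgroup G)) (g : G) :
    Inverts (g * z * g⁻¹) ((g • P : Sylow 3 G) : Subgroup G) := by
  refine ⟨?_, ?_⟩
  · have : g * z * g⁻¹ = MulAut.conj g z := rfl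
    rw [this, MulEquiv.orderOf_eq]
    exact h.1
  · intro y hy
    rw [Sylow.coe_subgroup_smul] at hy
    obtain ⟨x, hx, rfl⟩ := hy
    have hx' := h.2 x hx
    show g * z * g⁻¹ * (g * x * g⁻¹) * (g * z * g⁻¹)⁻¹ = (g * x * g⁻¹)⁻¹
    have : g * z * g⁻¹ * (g * x * g⁻¹) * (g * z * g⁻¹)⁻¹ = g * (z * x * z⁻¹) * g⁻¹ := by group
    rw [this, hx']
    group

theorem Inverts.of_conj {z : G} {P : Sylow 3 G} {g : G}
    (h : Inverts (g * z * g⁻¹) ((g • P : Sylow 3 G) : Subgroup G)) :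
    Inverts z (P : Subgroup G) := by
  have := h.conj g⁻¹
  rw [inv_smul_smul] at this
  have e : g⁻¹ * (g * z * g⁻¹) * g⁻¹⁻¹ = z := by group
  rwa [e] at this

/-- the graph is invariant under conjugation -/
theorem adj3_smul_iff (g : G) (P Q : Sylow 3 G) : Adj3 (g • P) (g • Q) ↔ Adj3 P Q := by
  constructor
  · rintro ⟨hne, z, hz1, hz2⟩
    refine ⟨fun h => hne (by rw [h]), g⁻¹ * z * g⁻¹⁻¹, ?_, ?_⟩
    · have := hz1.conj g⁻¹
      rwa [inv_smul_smul] at this
    · have := hz2.conj g⁻¹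
      rwa [inv_smul_smul] at this
  · rintro ⟨hne, z, hz1, hz2⟩
    exact ⟨fun h => hne (smul_left_cancel g h), g * z * g⁻¹, hz1.conj g, hz2.conj g⟩

theorem tri_smul_iff (g : G) (P Q T : Sylow 3 G) : Tri (g • P) (g • Q) (g • T) ↔ Tri P Q T := by
  constructor
  · rintro ⟨h1, h2, h3, z, hz1, hz2, hz3⟩
    refine ⟨fun h => h1 (by rw [h]), fun h => h2 (by rw [h]), fun h => h3 (by rw [h]),
      g⁻¹ * z * g⁻¹⁻¹, ?_, ?_, ?_⟩
    · have := hz1.conj g⁻¹
      rwa [inv_smul_smul] at this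
    · have := hz2.conj g⁻¹
      rwa [inv_smul_smul] at this
    · have := hz3.conj g⁻¹
      rwa [inv_smul_smul] at this
  · rintro ⟨h1, h2, h3, z, hz1, hz2, hz3⟩
    exact ⟨fun h => h1 (smul_left_cancel g h), fun h => h2 (smul_left_cancel g h),
      fun h => h3 (smul_left_cancel g h), g * z * g⁻¹, hz1.conj g, hz2.conj g, hz3.conj g⟩

/-- membership in the normalizer in terms of the action on Sylow subgroups -/
theorem mem_NN_iff {g : G} {P : Sylow 3 G} : g ∈ NN P ↔ g • P = P :=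
  Sylow.smul_eq_iff_mem_normalizer.symm

section bundles

variable (G : Type*) [Group G] [Finite G]

/-- The local facts about a simple group of order `7920` proved by the helper53 cluster. -/
structure Loc : Prop where
  card : Nat.card G = 7920
  n3 : ∀ P : Sylow 3 G, Nat.card ↥(NN P) = 144
  c3 : ∀ y : G, orderOf y = 3 → Nat.card ↥(CC y) = 18
  no9 : ∀ g : G, orderOf g ≠ 9
  c2 : ∀ x : G, orderOf x = 2 → Nat.card ↥(CC x) = 48
  t3a : ∀ (P : Sylow 3 G) (q : G), orderOf q = 2 →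
    q ∉ Subgroup.centralizer ((P : Subgroup G) : Set G)

/-- Package A1: the Sylow 3-subgroups. -/
structure LocP : Prop where
  cardP : ∀ P : Sylow 3 G, Nat.card ↥(P : Subgroup G) = 9
  comm : ∀ P : Sylow 3 G, ∀ a ∈ (P : Subgroup G), ∀ b ∈ (P : Subgroup G), a * b = b * a
  exp3 : ∀ P : Sylow 3 G, ∀ a ∈ (P : Subgroup G), a ^ 3 = 1
  cent : ∀ P : Sylow 3 G, Subgroup.centralizer ((P : Subgroup G) : Set G) = (P : Subgroup G)
  ti : ∀ P Q : Sylow 3 G, P ≠ Q → ∀ y : G, y ∈ (P : Subgroup G) → y ∈ (Q : Subgroup G) → y = 1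
  mem_of_norm : ∀ (P : Sylow 3 G) (g : G), g ^ 3 = 1 → g ∈ NN P → g ∈ (P : Subgroup G)
  card_syl : Nat.card (Sylow 3 G) = 55

/-- Package LINV (statement): a central involution of a 2-subgroup of order at least 8 of `N(P)`
inverts `P`. -/
def LInvStmt : Prop :=
  ∀ (P : Sylow 3 G) (D : Subgroup G), D ≤ NN P → (∃ n : ℕ, Nat.card ↥D = 2 ^ n) →
    8 ≤ Nat.card ↥D → ∀ w ∈ D, orderOf w = 2 → (∀ g ∈ D, g * w = w * g) →
    Inverts w (P : Subgroup G)

/-- Package A2: the involutions inverting a Sylow 3-subgroup. -/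
structure InvP : Prop where
  ex : ∀ P : Sylow 3 G, ∃ z : G, Inverts z (P : Subgroup G)
  conj : ∀ (P : Sylow 3 G) (z z' : G), Inverts z (P : Subgroup G) → Inverts z' (P : Subgroup G) →
    ∃ y ∈ (P : Subgroup G), z' = y * z * y⁻¹
  cardS : ∀ (P : Sylow 3 G) (z : G), Inverts z (P : Subgroup G) → Nat.card ↥(NN P ⊓ CC z) = 16
  uniq : ∀ (P Q : Sylow 3 G) (z z' : G), P ≠ Q → Inverts z (P : Subgroup G) →
    Inverts z (Q : Subgroup G) → Inverts z' (P : Subgroup G) → Inverts z' (Q : Subgroup G) → z = z'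

/-- Package A4a: an involution inverts exactly three Sylow 3-subgroups, permuted transitively by
its centralizer. -/
structure TriA : Prop where
  transC : ∀ (z : G) (P Q : Sylow 3 G), Inverts z (P : Subgroup G) → Inverts z (Q : Subgroup G) →
    ∃ c ∈ CC z, c • P = Q
  three : ∀ (P : Sylow 3 G) (z : G), Inverts z (P : Subgroup G) →
    ∃ Q T : Sylow 3 G, P ≠ Q ∧ P ≠ T ∧ Q ≠ T ∧ Inverts z (Q : Subgroup G) ∧
      Inverts z (T : Subgroup G) ∧
      ∀ X : Sylow 3 G, Inverts z (X : Subgroup G) → X = P ∨ X = Q ∨ X = T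

/-- Package A4b: the stabiliser of an edge has order 8, and the stabiliser of a vertex of a
triangle swaps the other two. -/
structure TriB : Prop where
  cardK : ∀ P Q : Sylow 3 G, Adj3 P Q → Nat.card ↥(NN P ⊓ NN Q) = 8
  swap : ∀ P Q T : Sylow 3 G, Tri P Q T → ∃ s ∈ NN P, s • Q = T

/-- Package A4c: the stabiliser of an edge has a unique involution and acts semiregularly on the
nonidentity elements of `P`. -/
structure TriC : Prop where
  invK : ∀ (P Q : Sylow 3 G) (z : G), P ≠ Q → Inverts z (P : Subgroup G) →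
    Inverts z (Q : Subgroup G) → ∀ w ∈ NN P ⊓ NN Q, orderOf w = 2 → w = z
  freeK : ∀ P Q : Sylow 3 G, Adj3 P Q → ∀ k ∈ NN P ⊓ NN Q, ∀ y ∈ (P : Subgroup G), y ≠ 1 →
    k * y = y * k → k = 1

/-- Package A5: the stabiliser of a non-edge has order at most 4. -/
def NonAdjStmt : Prop :=
  ∀ P X : Sylow 3 G, P ≠ X → ¬ Adj3 P X → Nat.card ↥(NN P ⊓ NN X) ≤ 4

/-- Package A6: valency 18 and transitivity of `N(P)` on the neighbours of `P`. -/
structure Val : Prop where
  deg : ∀ P : Sylow 3 G, {X : Sylow 3 G | Adj3 P X}.ncard = 18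
  transN : ∀ P X X' : Sylow 3 G, Adj3 P X → Adj3 P X' → ∃ g ∈ NN P, g • X = X'
  triEx : ∀ P Q : Sylow 3 G, Adj3 P Q → ∃ T : Sylow 3 G, Tri P Q T

/-- Package A7: the structure of the neighbourhood of `P` relative to a triangle `P, Q, T`. -/
structure Link : Prop where
  nbr : ∀ P Q T : Sylow 3 G, Tri P Q T → ∀ X : Sylow 3 G,
    Adj3 P X ↔ (∃ y ∈ (P : Subgroup G), X = y • Q) ∨ (∃ y ∈ (P : Subgroup G), X = y • T)
  disj : ∀ P Q T : Sylow 3 G, Tri P Q T → ∀ y ∈ (P : Subgroup G), ∀ y' ∈ (P : Subgroup G),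
    y • Q ≠ y' • T
  free : ∀ P Q : Sylow 3 G, P ≠ Q → ∀ y ∈ (P : Subgroup G), y • Q = Q → y = 1
  orb : ∀ P Q T : Sylow 3 G, Tri P Q T → ∀ y ∈ (P : Subgroup G), y ≠ 1 →
    ∀ y' ∈ (P : Subgroup G), y' ≠ 1 →
      (Adj3 Q (y • Q) ↔ Adj3 Q (y' • Q)) ∧ (Adj3 Q (y • T) ↔ Adj3 Q (y' • T))

/-- Package A8 (statement): the 10-clique of an edge `P, Q` is the same seen from `P` or from `Q`. -/
def CliqueStmt : Prop :=
  ∀ P Q : Sylow 3 G, Adj3 P Q → ∀ X : Sylow 3 G,
    (X = P ∨ ∃ y ∈ (P : Subgroup G), X = y • Q) ↔ (X = Q ∨ ∃ y ∈ (Q : Subgroup G), X = y • P)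

end bundles

end Cfsg.Agent.Lib.Helper74_M11UDefs
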