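import Mathlib
import Cfsg.Agent.Lib.Helper74_M11UDefs

/-!
# S0420 package A5 (helper42): stabilisers of non-edges of the Sylow-3 graph have order at most 4
-/

set_option autoImplicit false
set_option linter.unusedSectionVars false
set_option linter.unusedVariables false

open Cfsg.Agent.Lib.Helper74_M11UDefs
open scoped Pointwise

namespace Cfsg.Agent.Lib.Helper42_M11U_A5

universe u

variable {G : Type u} [Group G] [Finite G]

/-- a subgroup whose order is a power of two at least 8 (indeed at least 2) has a central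
involution -/
theorem exists_central_involution (D : Subgroup G) {n : ℕ} (hn : Nat.card ↥D = 2 ^ n)
    (h2 : 2 ≤ Nat.card ↥D) :
    ∃ w ∈ D, orderOf w = 2 ∧ ∀ g ∈ D, g * w = w * g := by
  classical
  have : Fact (Nat.Prime 2) := ⟨Nat.prime_two⟩
  have hpg : IsPGroup 2 ↥D := IsPGroup.of_card hn
  have : Nontrivial ↥D := by
    rw [← Finite.one_lt_card_iff_nontrivial]
    omega
  have : Nontrivial ↥(Subgroup.center ↥D) := hpg.center_nontrivial
  have hc : IsPGroup 2 ↥(Subgroup.center ↥D) := hpg.to_subgroup _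
  obtain ⟨k, hk⟩ := (IsPGroup.iff_card).1 hc
  have hk1 : 1 < Nat.card ↥(Subgroup.center ↥D) := Finite.one_lt_card
  have hk0 : k ≠ 0 := by
    rintro rfl
    rw [hk] at hk1
    simp at hk1
  have hdvd : 2 ∣ Nat.card ↥(Subgroup.center ↥D) := by
    rw [hk]
    exact dvd_pow_self 2 hk0
  obtain ⟨w, hw⟩ := exists_prime_orderOf_dvd_card' 2 hdvd
  refine ⟨((w : ↥D) : G), (w : ↥D).2, ?_, ?_⟩
  · rw [Subgroup.orderOf_coe, Subgroup.orderOf_coe]
    exact hw
  · intro g hg
    have := (Subgroup.mem_center_iff.1 w.2) ⟨g, hg⟩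
    have h2 := congrArg (fun x : ↥D => (x : G)) this
    simpa using h2

theorem A5 (h : Loc G) (hp : LocP G) (hL : LInvStmt G) : NonAdjStmt G := by
  classical
  intro P X hPX hnadj
  by_contra hlt
  push Not at hlt
  set D : Subgroup G := NN P ⊓ NN X with hD
  -- |D| divides 144
  have hdvd : Nat.card ↥D ∣ 144 := by
    rw [← h.n3 P]
    exact Subgroup.card_dvd_of_le inf_le_left
  -- 3 does not divide |D|
  have h3 : ¬ 3 ∣ Nat.card ↥D := by
    intro h3
    have : Fact (Nat.Prime 3) := ⟨Nat.prime_three⟩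
    obtain ⟨g, hg⟩ := exists_prime_orderOf_dvd_card' 3 h3
    have hg3 : ((g : ↥D) : G) ^ 3 = 1 := by
      have : (g : ↥D) ^ 3 = 1 := by
        rw [← hg]; exact pow_orderOf_eq_one g
      have h2 := congrArg (fun x : ↥D => (x : G)) this
      simpa using h2
    have hgD : ((g : ↥D) : G) ∈ D := g.2
    have hgP : ((g : ↥D) : G) ∈ (P : Subgroup G) := hp.mem_of_norm P _ hg3 hgD.1
    have hgX : ((g : ↥D) : G) ∈ (X : Subgroup G) := hp.mem_of_norm X _ hg3 hgD.2
    have h1 : ((g : ↥D) : G) = 1 := hp.ti P X hPX _ hgP hgX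
    have : g = 1 := by
      apply Subtype.ext
      simpa using h1
    rw [this, orderOf_one] at hg
    omega
  have hcop : Nat.Coprime (Nat.card ↥D) 9 := by
    have : Nat.Coprime (Nat.card ↥D) 3 :=
      (Nat.Coprime.symm ((Nat.Prime.coprime_iff_not_dvd Nat.prime_three).2 h3))
    have h9 : (9 : ℕ) = 3 ^ 2 := by norm_num
    rw [h9]
    exact Nat.Coprime.pow_right 2 this
  have h16 : Nat.card ↥D ∣ 2 ^ 4 := by
    have : Nat.card ↥D ∣ 9 * 16 := by norm_num; exact hdvd
    have := hcop.dvd_of_dvd_mul_left this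
    simpa using this
  obtain ⟨n, hn4, hn⟩ := (Nat.dvd_prime_pow Nat.prime_two).1 h16
  have h8 : 8 ≤ Nat.card ↥D := by
    rw [hn] at hlt ⊢
    interval_cases n <;> simp_all
  obtain ⟨w, hwD, hw2, hwc⟩ := exists_central_involution D hn (by omega)
  have i1 : Inverts w (P : Subgroup G) :=
    hL P D inf_le_left ⟨n, hn⟩ h8 w hwD hw2 hwc
  have i2 : Inverts w (X : Subgroup G) :=
    hL X D inf_le_right ⟨n, hn⟩ h8 w hwD hw2 hwc
  exact hnadj ⟨hPX, w, i1, i2⟩

end Cfsg.Agent.Lib.Helper42_M11U_A5
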