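import Mathlib
import Cfsg.Agent.Lib.Helper74_M11UDefs

/-!
# S0420 package ASRG (helper42): the Sylow-3 graph is strongly regular srg(55,18,l,m)
-/

set_option autoImplicit false
set_option linter.unusedSectionVars false
set_option linter.unusedVariables false

open Cfsg.Agent.Lib.Helper74_M11UDefs
open scoped Pointwise

namespace Cfsg.Agent.Lib.Helper42_M11U_ASRG

universe u

variable {G : Type u} [Group G] [Finite G]

/-- common neighbours are transported by conjugation -/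
theorem commonNeighbors_smul (g : G) (P Q : Sylow 3 G) :
    (gr3 G).commonNeighbors (g • P) (g • Q) = (fun X : Sylow 3 G => g • X) '' (gr3 G).commonNeighbors P Q := by
  ext X
  simp only [SimpleGraph.mem_commonNeighbors, gr3_adj, Set.mem_image]
  constructor
  · rintro ⟨h1, h2⟩
    refine ⟨g⁻¹ • X, ⟨?_, ?_⟩, smul_inv_smul g X⟩
    · rw [← adj3_smul_iff g, smul_inv_smul]; exact h1
    · rw [← adj3_smul_iff g, smul_inv_smul]; exact h2
  · rintro ⟨Y, ⟨h1, h2⟩, rfl⟩
    exact ⟨(adj3_smul_iff g P Y).2 h1, (adj3_smul_iff g Q Y).2 h2⟩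

theorem ncard_commonNeighbors_smul (g : G) (P Q : Sylow 3 G) :
    ((gr3 G).commonNeighbors (g • P) (g • Q)).ncard = ((gr3 G).commonNeighbors P Q).ncard := by
  rw [commonNeighbors_smul]
  exact Set.ncard_image_of_injective _ (MulAction.injective g)

/-- `G` is transitive on ordered edges -/
theorem exists_smul_edge (hv : Val G) {P Q P' Q' : Sylow 3 G} (h1 : Adj3 P Q) (h2 : Adj3 P' Q') :
    ∃ g : G, g • P = P' ∧ g • Q = Q' := by
  have : Fact (Nat.Prime 3) := ⟨Nat.prime_three⟩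
  obtain ⟨g1, hg1⟩ := MulAction.exists_smul_eq G P P'
  have h3 : Adj3 P' (g1 • Q) := by
    rw [← hg1]; exact (adj3_smul_iff g1 P Q).2 h1
  obtain ⟨g2, hg2, hg2'⟩ := hv.transN P' (g1 • Q) Q' h3 h2
  refine ⟨g2 * g1, ?_, ?_⟩
  · rw [mul_smul, hg1]; exact mem_NN_iff.1 hg2
  · rw [mul_smul]; exact hg2'

/-- the non-neighbours of `P` -/
def nonNbr (P : Sylow 3 G) : Set (Sylow 3 G) := {X | X ≠ P ∧ ¬ Adj3 P X}

theorem ncard_nonNbr (hp : LocP G) (hv : Val G) (P : Sylow 3 G) : (nonNbr P).ncard = 36 := by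
  classical
  have hfin : Finite (Sylow 3 G) := inferInstance
  have h1 : (insert P {X : Sylow 3 G | Adj3 P X}).ncard = 19 := by
    have hnot : P ∉ {X : Sylow 3 G | Adj3 P X} := fun h => not_adj3_self P h
    rw [Set.ncard_insert_of_notMem hnot (Set.toFinite _), hv.deg P]
  have h2 : nonNbr P = (insert P {X : Sylow 3 G | Adj3 P X})ᶜ := by
    ext X
    simp only [nonNbr, Set.mem_ofPred_eq, Set.mem_compl_iff, Set.mem_insert_iff, not_or]
  have h3 := Set.ncard_add_ncard_compl (insert P {X : Sylow 3 G | Adj3 P X})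
  rw [hp.card_syl, h1, ← h2] at h3
  omega

/-- `N(P)` is transitive on the non-neighbours of `P` -/
theorem exists_smul_nonNbr (h : Loc G) (hp : LocP G) (hv : Val G) (hn : NonAdjStmt G)
    (P : Sylow 3 G) {X X' : Sylow 3 G} (hX : X ∈ nonNbr P) (hX' : X' ∈ nonNbr P) :
    ∃ g ∈ NN P, g • X = X' := by
  classical
  -- the orbit of X under N(P)
  set O : Set (Sylow 3 G) := MulAction.orbit ↥(NN P) X with hO
  have hsub : O ⊆ nonNbr P := by
    rintro Y ⟨g, rfl⟩
    obtain ⟨g0, hg0⟩ : ∃ g0 : G, g0 = (g : G) := ⟨_, rfl⟩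
    have hgP : g0 • P = P := by rw [hg0]; exact mem_NN_iff.1 g.2
    change (g : G) • X ∈ nonNbr P
    rw [← hg0]
    constructor
    · intro hY
      apply hX.1
      have : g0 • X = g0 • P := by rw [hY, hgP]
      exact smul_left_cancel _ this
    · intro hY
      apply hX.2
      have hY' : Adj3 (g0 • P) (g0 • X) := by rw [hgP]; exact hY
      exact (adj3_smul_iff g0 P X).1 hY'
  -- orbit-stabiliser
  have hstab : Nat.card ↥(MulAction.stabilizer ↥(NN P) X) ≤ 4 := by
    have hle := hn P X (Ne.symm hX.1) hX.2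
    refine le_trans ?_ hle
    let f : ↥(MulAction.stabilizer ↥(NN P) X) → ↥(NN P ⊓ NN X) := fun s =>
      ⟨((s : ↥(NN P)) : G), ⟨(s : ↥(NN P)).2, mem_NN_iff.2 (by
        have := s.2
        rw [MulAction.mem_stabilizer_iff] at this
        exact this)⟩⟩
    have hf : Function.Injective f := by
      intro a b hab
      have : ((a : ↥(NN P)) : G) = ((b : ↥(NN P)) : G) := congrArg (fun t : ↥(NN P ⊓ NN X) => (t : G)) hab
      exact Subtype.ext (Subtype.ext this)
    exact Nat.card_le_card_of_injective f hf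
  have hos : Nat.card ↥O * Nat.card ↥(MulAction.stabilizer ↥(NN P) X) = 144 := by
    rw [← h.n3 P, ← Nat.card_prod]
    exact Nat.card_congr (MulAction.orbitProdStabilizerEquivGroup ↥(NN P) X)
  have hO36 : 36 ≤ O.ncard := by
    rw [← Nat.card_coe_set_eq]
    by_contra hlt
    push Not at hlt
    have : Nat.card ↥O * Nat.card ↥(MulAction.stabilizer ↥(NN P) X) ≤ 35 * 4 :=
      Nat.mul_le_mul (by omega) hstab
    omega
  have heq : O = nonNbr P :=
    Set.eq_of_subset_of_ncard_le hsub (by rw [ncard_nonNbr hp hv P]; exact hO36) (Set.toFinite _)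
  have : X' ∈ O := by rw [heq]; exact hX'
  obtain ⟨g, hg⟩ := this
  exact ⟨(g : G), g.2, hg⟩

/-- `G` is transitive on ordered non-edges -/
theorem exists_smul_nonedge (h : Loc G) (hp : LocP G) (hv : Val G) (hn : NonAdjStmt G)
    {P X P' X' : Sylow 3 G} (h1 : X ∈ nonNbr P) (h2 : X' ∈ nonNbr P') :
    ∃ g : G, g • P = P' ∧ g • X = X' := by
  have : Fact (Nat.Prime 3) := ⟨Nat.prime_three⟩
  obtain ⟨g1, hg1⟩ := MulAction.exists_smul_eq G P P'
  have h3 : g1 • X ∈ nonNbr P' := by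
    constructor
    · intro hY
      apply h1.1
      rw [← hg1] at hY
      exact smul_left_cancel _ hY
    · intro hY
      apply h1.2
      rw [← hg1] at hY
      exact (adj3_smul_iff g1 P X).1 hY
  obtain ⟨g2, hg2, hg2'⟩ := exists_smul_nonNbr h hp hv hn P' h3 h2
  refine ⟨g2 * g1, ?_, ?_⟩
  · rw [mul_smul, hg1]; exact mem_NN_iff.1 hg2
  · rw [mul_smul]; exact hg2'

theorem ASRG [Fintype (Sylow 3 G)] [DecidableEq (Sylow 3 G)] [DecidableRel (gr3 G).Adj]
    (h : Loc G) (hp : LocP G) (hv : Val G) (hn : NonAdjStmt G) :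
    ∃ l m : ℕ, (gr3 G).IsSRGWith 55 18 l m := by
  classical
  -- a candidate for l and for m
  let cn : Sylow 3 G → Sylow 3 G → ℕ := fun P Q => ((gr3 G).commonNeighbors P Q).ncard
  have hcard : ∀ P Q : Sylow 3 G,
      Fintype.card ↥((gr3 G).commonNeighbors P Q) = cn P Q := by
    intro P Q
    rw [Fintype.card_eq_nat_card, Nat.card_coe_set_eq]
  have hl : ∃ l : ℕ, ∀ P Q : Sylow 3 G, Adj3 P Q → cn P Q = l := by
    by_cases hex : ∃ P Q : Sylow 3 G, Adj3 P Q
    · obtain ⟨P0, Q0, h0⟩ := hex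
      refine ⟨cn P0 Q0, fun P Q hPQ => ?_⟩
      obtain ⟨g, hg1, hg2⟩ := exists_smul_edge hv h0 hPQ
      show ((gr3 G).commonNeighbors P Q).ncard = ((gr3 G).commonNeighbors P0 Q0).ncard
      rw [← hg1, ← hg2]
      exact ncard_commonNeighbors_smul g P0 Q0
    · exact ⟨0, fun P Q hPQ => (hex ⟨P, Q, hPQ⟩).elim⟩
  have hm : ∃ m : ℕ, ∀ P X : Sylow 3 G, X ∈ nonNbr P → cn P X = m := by
    by_cases hex : ∃ P X : Sylow 3 G, X ∈ nonNbr P
    · obtain ⟨P0, X0, h0⟩ := hex
      refine ⟨cn P0 X0, fun P X hPX => ?_⟩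
      obtain ⟨g, hg1, hg2⟩ := exists_smul_nonedge h hp hv hn h0 hPX
      show ((gr3 G).commonNeighbors P X).ncard = ((gr3 G).commonNeighbors P0 X0).ncard
      rw [← hg1, ← hg2]
      exact ncard_commonNeighbors_smul g P0 X0
    · exact ⟨0, fun P X hPX => (hex ⟨P, X, hPX⟩).elim⟩
  obtain ⟨l, hl⟩ := hl
  obtain ⟨m, hm⟩ := hm
  refine ⟨l, m, ⟨?_, ?_, ?_, ?_⟩⟩
  · rw [Fintype.card_eq_nat_card]; exact hp.card_syl
  · intro P
    have h18 := hv.deg P
    have : (gr3 G).neighborSet P = {X : Sylow 3 G | Adj3 P X} := rfl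
    rw [← this, Set.ncard_eq_toFinset_card'] at h18
    exact h18
  · intro P Q hPQ
    rw [hcard]
    exact hl P Q hPQ
  · intro P X hne hnadj
    rw [hcard]
    exact hm P X ⟨Ne.symm hne, hnadj⟩

end Cfsg.Agent.Lib.Helper42_M11U_ASRG
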