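import Mathlib
import Cfsg.Agent.Lib.Helper44_MI3Defs

set_option autoImplicit false

/-!
MI3-ANISO (helper44's S2144 market): a subspace all of whose nonzero vectors have the same nonzero
norm has dimension at most one (characteristic not two).
-/

namespace Cfsg.Agent.Lib.Helper42_MI3_ANISO

open Module Cfsg.Agent.Lib.Helper14_OmegaSimple Cfsg.Agent.Lib.Helper22_MI2Defs
  Cfsg.Agent.Lib.Helper44_MI3Defs

variable {F V : Type*} [Field F] [AddCommGroup V] [Module F V]

theorem finrank_le_one_of_const [FiniteDimensional F V] (Q : QuadraticForm F V) (h2 : (2 : F) ≠ 0)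
    (C : Submodule F V) (c : F) (hc : c ≠ 0) (h : ∀ x ∈ C, x ≠ 0 → Q x = c) : finrank F C ≤ 1 := by
  rw [finrank_le_one_iff]
  by_cases hbot : ∀ x ∈ C, x = 0
  · refine ⟨0, fun w => ⟨0, ?_⟩⟩
    apply Subtype.ext
    simp [hbot w.1 w.2]
  · push Not at hbot
    obtain ⟨x, hxC, hx0⟩ := hbot
    refine ⟨⟨x, hxC⟩, fun w => ?_⟩
    by_contra hno
    push Not at hno
    have hw0 : (w : V) ≠ 0 := by
      intro h0
      apply hno 0
      apply Subtype.ext
      simp [h0]
    have hadd : x + (w : V) ≠ 0 := by
      intro h0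
      apply hno (-1)
      apply Subtype.ext
      have : (w : V) = -x := by
        rw [eq_neg_iff_add_eq_zero, add_comm]; exact h0
      simp [this]
    have hsub : x - (w : V) ≠ 0 := by
      intro h0
      apply hno 1
      apply Subtype.ext
      have : (w : V) = x := (sub_eq_zero.mp h0).symm
      simp [this]
    have e1 := h x hxC hx0
    have e2 := h w w.2 hw0
    have e3 := h _ (C.add_mem hxC w.2) hadd
    have e4 := h _ (C.sub_mem hxC w.2) hsub
    have p1 : Q (x + (w : V)) = Q x + Q (w : V) + QuadraticMap.polar (⇑Q) x w := by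
      unfold QuadraticMap.polar; ring
    have p2 : Q (x - (w : V)) = Q x + Q (w : V) - QuadraticMap.polar (⇑Q) x w :=
      Cfsg.Agent.Lib.Helper14_OmegaSimple.map_sub' Q x w
    rw [e1, e2, e3] at p1
    rw [e1, e2, e4] at p2
    have : (2 : F) * c = 0 := by linear_combination (-1 : F) * p1 - p2
    rcases mul_eq_zero.mp this with h' | h'
    · exact h2 h'
    · exact hc h'

end Cfsg.Agent.Lib.Helper42_MI3_ANISO
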