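import Mathlib
import Cfsg.Agent.Lib.Helper44_MI3Defs

set_option autoImplicit false

/-!
MI3-PERP (helper44's S2144 market): passing to the orthogonal complement preserves the size of the
`T Q`-orbit of a subspace; `|V ⧸ S| = |S^⟂|`.
-/

namespace Cfsg.Agent.Lib.Helper42_MI3_PERP

open Module Cfsg.Agent.Lib.Helper14_OmegaSimple Cfsg.Agent.Lib.Helper22_MI2Defs
  Cfsg.Agent.Lib.Helper44_MI3Defs Cfsg.Agent.Lib.Helper94_OrthSmall

variable {F V : Type*} [Field F] [AddCommGroup V] [Module F V]

theorem polarBilin_isRefl (Q : QuadraticForm F V) : (QuadraticMap.polarBilin Q).IsRefl := by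
  intro x y hxy
  have : QuadraticMap.polar (⇑Q) x y = 0 := hxy
  show QuadraticMap.polar (⇑Q) y x = 0
  rw [QuadraticMap.polar_comm]; exact this

/-- the orthogonal complement of the image under an isometry is the image of the orthogonal. -/
theorem orthogonal_map (Q : QuadraticForm F V) {g : V ≃ₗ[F] V} (hg : g ∈ oG (⇑Q))
    (S : Submodule F V) :
    LinearMap.BilinForm.orthogonal (QuadraticMap.polarBilin Q) (S.map (g : V →ₗ[F] V)) =
      (LinearMap.BilinForm.orthogonal (QuadraticMap.polarBilin Q) S).map (g : V →ₗ[F] V) := by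
  ext x
  rw [LinearMap.BilinForm.mem_orthogonal_iff, Submodule.mem_map]
  constructor
  · intro hx
    refine ⟨g.symm x, ?_, by simp⟩
    rw [LinearMap.BilinForm.mem_orthogonal_iff]
    intro s hs
    have h1 := hx (g s) (Submodule.mem_map_of_mem hs)
    have h2 : QuadraticMap.polar (⇑Q) (g s) x = 0 := h1
    show QuadraticMap.polar (⇑Q) s (g.symm x) = 0
    rw [← oG_polar Q hg s (g.symm x)]
    simpa using h2
  · rintro ⟨y, hy, rfl⟩
    rw [LinearMap.BilinForm.mem_orthogonal_iff] at hy
    rintro n ⟨s, hs, rfl⟩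
    have h1 : QuadraticMap.polar (⇑Q) s y = 0 := hy s hs
    show QuadraticMap.polar (⇑Q) (g s) (g y) = 0
    rw [oG_polar Q hg]; exact h1

theorem perp_orbit [Finite F] [FiniteDimensional F V] (Q : QuadraticForm F V)
    (hQ : (QuadraticMap.polarBilin Q).Nondegenerate) (S : Submodule F V) :
    Nat.card (V ⧸ S) = Nat.card ↥(LinearMap.BilinForm.orthogonal (QuadraticMap.polarBilin Q) S) ∧
    (subOrbit Q (LinearMap.BilinForm.orthogonal (QuadraticMap.polarBilin Q) S)).ncard =
      (subOrbit Q S).ncard ∧
    finrank F ↥(LinearMap.BilinForm.orthogonal (QuadraticMap.polarBilin Q) S) + finrank F S =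
      finrank F V := by
  have hrefl := polarBilin_isRefl Q
  have hfin := LinearMap.BilinForm.finrank_orthogonal hQ S
  have hle : finrank F S ≤ finrank F V := Submodule.finrank_le S
  have h3 : finrank F ↥(LinearMap.BilinForm.orthogonal (QuadraticMap.polarBilin Q) S) + finrank F S =
      finrank F V := by omega
  refine ⟨?_, ?_, h3⟩
  · have hq := Submodule.finrank_quotient_add_finrank S
    rw [Module.natCard_eq_pow_finrank (K := F) (V := V ⧸ S),
      Module.natCard_eq_pow_finrank (K := F)
        (V := ↥(LinearMap.BilinForm.orthogonal (QuadraticMap.polarBilin Q) S))]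
    congr 1
    omega
  · have himg : subOrbit Q (LinearMap.BilinForm.orthogonal (QuadraticMap.polarBilin Q) S) =
        (fun C : Submodule F V => LinearMap.BilinForm.orthogonal (QuadraticMap.polarBilin Q) C) ''
          (subOrbit Q S) := by
      ext D
      constructor
      · rintro ⟨g, hg, rfl⟩
        exact ⟨S.map (g : V →ₗ[F] V), ⟨g, hg, rfl⟩, orthogonal_map Q (T_le_oG Q hg) S⟩
      · rintro ⟨C, ⟨g, hg, rfl⟩, rfl⟩
        exact ⟨g, hg, orthogonal_map Q (T_le_oG Q hg) S⟩
    rw [himg]
    apply Set.ncard_image_of_injective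
    intro C D hCD
    have hCD' : LinearMap.BilinForm.orthogonal (QuadraticMap.polarBilin Q) C =
        LinearMap.BilinForm.orthogonal (QuadraticMap.polarBilin Q) D := hCD
    rw [← LinearMap.BilinForm.orthogonal_orthogonal hQ hrefl C,
      ← LinearMap.BilinForm.orthogonal_orthogonal hQ hrefl D, hCD']

end Cfsg.Agent.Lib.Helper42_MI3_PERP
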