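import Mathlib
import Cfsg.Agent.Lib.Helper66_MI_SpDefs
import Cfsg.Agent.Lib.Helper94_MI_SpKiso
import Cfsg.Agent.Lib.Helper94_MI_SpDecomp

set_option autoImplicit false

/-!
# S2141 package C2 (architect helper66): the stabiliser of a nondegenerate subspace `U ≠ 0` with
`2 dim U ≤ dim V` has index at least `m N_m` in `Sp_{2m}(q)`, `q ≥ 3`.

Double counting with the stabiliser of a *vector* `v ∈ U` (instead of the point `⟨v⟩`):
`[G : G_U] [G_U : G_U ∩ G_v] = [G : G_v] [G_v : G_v ∩ G_U]`, `[G : G_v] = q^(2m) - 1`,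
`[G_U : G_U ∩ G_v] ≤ |U| - 1`, and `[G_v : G_v ∩ G_U]` is bounded below through `Q_v` (if
`U ∩ W = 0`) or through `K_v ≅ Sp(W)` and the induction hypothesis.
-/

namespace Cfsg.Agent.Lib.Helper42_MISp_C2

open Module MulAction Cfsg.Agent.Lib.Helper94_Symp Cfsg.Agent.Lib.Helper94_SympTI
  Cfsg.Agent.Lib.Helper94_SympPerfect Cfsg.Agent.Lib.Helper66_MI_SpDefs
  Cfsg.Agent.Lib.Helper94_MI_SpKiso Cfsg.Agent.Lib.Helper94_MI_SpDecomp

universe u

section generic

/-- orbit-stabiliser for a subgroup `G` of an acting group `A` -/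
theorem relIndex_stabilizer_eq {A X : Type*} [Group A] [MulAction A X] (G : Subgroup A) (x : X) :
    (stabilizer A x).relIndex G = (orbit G x).ncard := by
  have h : stabilizer G x = (stabilizer A x).subgroupOf G := by
    ext g
    simp [Subgroup.mem_subgroupOf, mem_stabilizer_iff, Subgroup.smul_def]
  rw [Subgroup.relIndex, ← h, index_stabilizer]

/-- the double-counting chain -/
theorem chain {A : Type*} [Group A] (G P C : Subgroup A) (hP : P ≤ G) :
    C.relIndex P * P.relIndex G = P.relIndex (C ⊓ G) * C.relIndex G := by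
  have h1 : (P ⊓ C).relIndex P * P.relIndex G = (P ⊓ C).relIndex G :=
    Subgroup.relIndex_mul_relIndex _ _ _ inf_le_left hP
  have h2 : (P ⊓ (C ⊓ G)).relIndex (C ⊓ G) * (C ⊓ G).relIndex G = (P ⊓ (C ⊓ G)).relIndex G :=
    Subgroup.relIndex_mul_relIndex _ _ _ inf_le_right inf_le_right
  have e : P ⊓ (C ⊓ G) = P ⊓ C := by
    rw [← inf_assoc, inf_right_comm, inf_eq_left.mpr hP]
  rw [Subgroup.inf_relIndex_left] at h1
  rw [Subgroup.inf_relIndex_right, Subgroup.inf_relIndex_right, e] at h2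
  rw [h1, h2]

/-- the final arithmetic -/
theorem final_arith (m q k X a b : ℕ) (hq : 2 ≤ q) (ha : 0 < a) (hak : a ≤ q ^ k - 1)
    (hchain : a * X = b * (q ^ (2 * m) - 1)) (hb : m * (q ^ k - 1) ≤ b * (q - 1)) :
    m * Npts m q ≤ X := by
  have hdvd : q - 1 ∣ q ^ (2 * m) - 1 := Nat.sub_one_dvd_pow_sub_one q (2 * m)
  have hN : Npts m q * (q - 1) = q ^ (2 * m) - 1 := Nat.div_mul_cancel hdvd
  have hq1 : 0 < q - 1 := by omega
  have h1 : a * (m * Npts m q) * (q - 1) ≤ a * X * (q - 1) := by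
    calc a * (m * Npts m q) * (q - 1) = (m * a) * (Npts m q * (q - 1)) := by ring
      _ = (m * a) * (q ^ (2 * m) - 1) := by rw [hN]
      _ ≤ (m * (q ^ k - 1)) * (q ^ (2 * m) - 1) :=
          Nat.mul_le_mul_right _ (Nat.mul_le_mul_left _ hak)
      _ ≤ (b * (q - 1)) * (q ^ (2 * m) - 1) := Nat.mul_le_mul_right _ hb
      _ = b * (q ^ (2 * m) - 1) * (q - 1) := by ring
      _ = a * X * (q - 1) := by rw [hchain]
  have h2 : a * (m * Npts m q) ≤ a * X := Nat.le_of_mul_le_mul_right h1 hq1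
  exact Nat.le_of_mul_le_mul_left h2 ha

/-- `q^(2m-2) ≥ m (q+1)` for `q ≥ 3`, `m ≥ 2` -/
theorem pow_ge (q m : ℕ) (hq : 3 ≤ q) (hm : 2 ≤ m) : m * (q + 1) ≤ q ^ (2 * m - 2) := by
  induction m, hm using Nat.le_induction with
  | base =>
    show 2 * (q + 1) ≤ q ^ 2
    nlinarith
  | succ n hn ih =>
    have e : 2 * (n + 1) - 2 = (2 * n - 2) + 2 := by omega
    rw [e, pow_add]
    have h9 : 9 ≤ q ^ 2 := by nlinarith
    have : (n + 1) * (q + 1) ≤ (n * (q + 1)) * 9 := by nlinarith
    calc (n + 1) * (q + 1) ≤ (n * (q + 1)) * 9 := this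
      _ ≤ q ^ (2 * n - 2) * q ^ 2 := Nat.mul_le_mul ih h9

/-- `(n+1)(q^k - 1) ≤ n (q^(2n) - 1)` for `q ≥ 3`, `n ≥ 2`, `k ≤ n + 1` -/
theorem arith_ge3 (q n k : ℕ) (hq : 3 ≤ q) (hn : 2 ≤ n) (hk : k ≤ n + 1) :
    (n + 1) * (q ^ k - 1) ≤ n * (q ^ (2 * n) - 1) := by
  have h1 : q ^ (k + 1) ≤ q ^ (2 * n) := Nat.pow_le_pow_right (by omega) (by omega)
  have h2 : 3 * q ^ k ≤ q ^ (k + 1) := by
    rw [pow_succ, mul_comm]
    exact Nat.mul_le_mul_left _ hq
  have hx : 1 ≤ q ^ k := Nat.one_le_pow _ _ (by omega)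
  obtain ⟨x, hx'⟩ : ∃ x, q ^ k = x + 1 := ⟨q ^ k - 1, by omega⟩
  obtain ⟨y, hy'⟩ : ∃ y, q ^ (2 * n) = y + 1 := ⟨q ^ (2 * n) - 1, by omega⟩
  rw [hx', hy']
  simp only [Nat.add_sub_cancel]
  have : 3 * x + 2 ≤ y := by omega
  nlinarith

/-- card / relIndex for `H ≤ K` -/
theorem relIndex_mul_card' {A : Type*} [Group A] {H K : Subgroup A} (h : H ≤ K) :
    H.relIndex K * Nat.card H = Nat.card K := by
  have := (H.subgroupOf K).card_mul_index
  rw [Nat.card_congr (Subgroup.subgroupOfEquivOfLe h).toEquiv] at this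
  rw [Subgroup.relIndex, mul_comm]
  exact this

end generic

section symp

variable {F : Type*} [Field F] {V : Type*} [AddCommGroup V] [Module F V]
variable (B : LinearMap.BilinForm F V)

theorem finite_linearEquiv [Finite F] [FiniteDimensional F V] : Finite (V ≃ₗ[F] V) := by
  have : Finite V := Module.finite_of_finite F
  exact Finite.of_injective (fun g : V ≃ₗ[F] V => (g : V → V)) DFunLike.coe_injective

theorem orbit_iso (hB : B.IsAlt) (hN : B.Nondegenerate) {v : V} (hv : v ≠ 0) :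
    orbit ↥(isoGroup B) v = {x : V | x ≠ 0} := by
  ext x
  constructor
  · rintro ⟨g, rfl⟩
    show (g : V ≃ₗ[F] V) v ≠ 0
    intro h
    exact hv ((map_eq_zero_iff _ (g : V ≃ₗ[F] V).injective).mp h)
  · intro hx
    obtain ⟨g, hg, hgv⟩ := exists_iso_move B hB hN hv hx
    exact ⟨⟨g, hg⟩, hgv⟩

/-- `[G : G_v] = q^(2m) - 1` -/
theorem relIndex_stab_vec [Finite F] [FiniteDimensional F V] {m q : ℕ} (S : Setting B m q)
    {v : V} (hv : v ≠ 0) :
    (stabilizer (V ≃ₗ[F] V) v).relIndex (isoGroup B) = q ^ (2 * m) - 1 := by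
  have : Finite V := Module.finite_of_finite F
  rw [relIndex_stabilizer_eq, orbit_iso B S.alt S.nondeg hv]
  have : {x : V | x ≠ 0} = ({0} : Set V)ᶜ := by ext; simp
  rw [this, Set.ncard_compl, Set.ncard_singleton, Module.natCard_eq_pow_finrank (K := F),
    S.card, S.dim]

/-- `0 < [G_U : G_U ∩ G_v] ≤ |U| - 1` -/
theorem relIndex_stab_vec_le [Finite F] [FiniteDimensional F V] {q : ℕ} (hq : Nat.card F = q)
    (U : Submodule F V) {v : V} (hvU : v ∈ U) (hv : v ≠ 0) :
    0 < (stabilizer (V ≃ₗ[F] V) v).relIndex (stab U ⊓ isoGroup B) ∧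
    (stabilizer (V ≃ₗ[F] V) v).relIndex (stab U ⊓ isoGroup B) ≤ q ^ finrank F U - 1 := by
  have : Finite V := Module.finite_of_finite F
  rw [relIndex_stabilizer_eq]
  have hsub : orbit ↥(stab U ⊓ isoGroup B) v ⊆ (U : Set V) \ {0} := by
    rintro _ ⟨g, rfl⟩
    refine ⟨?_, ?_⟩
    · exact ((mem_stab.mp (Subgroup.mem_inf.mp g.2).1) v).mp hvU
    · show (g : V ≃ₗ[F] V) v ∉ ({0} : Set V)
      rw [Set.mem_singleton_iff]
      intro h
      exact hv ((map_eq_zero_iff _ (g : V ≃ₗ[F] V).injective).mp h)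
  constructor
  · rw [Set.ncard_pos (Set.toFinite _)]
    exact ⟨v, mem_orbit_self v⟩
  · calc (orbit ↥(stab U ⊓ isoGroup B) v).ncard ≤ ((U : Set V) \ {0}).ncard :=
          Set.ncard_le_ncard hsub (Set.toFinite _)
      _ = (U : Set V).ncard - 1 := Set.ncard_sdiff_singleton_of_mem U.zero_mem
      _ = q ^ finrank F U - 1 := by
          have := Module.natCard_eq_pow_finrank (K := F) (V := ↥U)
          rw [hq] at this
          rw [← this, ← Nat.card_coe_set_eq]
          rfl

theorem exists_pair (hB : B.IsAlt) {U : Submodule F V} (hU : U ≠ ⊥) (hND : NondegOn B U) :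
    ∃ v ∈ U, ∃ v' ∈ U, B v v' = 1 := by
  obtain ⟨v, hvU, hv0⟩ := Submodule.exists_mem_ne_zero_of_ne_bot hU
  obtain ⟨x, hxU, hx⟩ := hND v hvU hv0
  have hc : B v x ≠ 0 := alt_ne_zero_comm B hB hx
  refine ⟨v, hvU, (B v x)⁻¹ • x, U.smul_mem _ hxU, ?_⟩
  rw [map_smul, smul_eq_mul, inv_mul_cancel₀ hc]

/-- `dim (U ∩ W) + 2 = dim U` when `v, v' ∈ U` -/
theorem finrank_inf_Wsub [FiniteDimensional F V] (hB : B.IsAlt) {U : Submodule F V} {v v' : V}
    (hvU : v ∈ U) (hv'U : v' ∈ U) (hvv : B v v' = 1) :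
    finrank F ↥(U ⊓ Wsub B v v') + 2 = finrank F ↥U := by
  have hB' : (B.restrict U).IsAlt := fun x => hB _
  have hvv' : (B.restrict U) ⟨v, hvU⟩ ⟨v', hv'U⟩ = 1 := hvv
  have h := finrank_Wsub_add_two (B.restrict U) hB' hvv'
  let e : ↥(Wsub (B.restrict U) ⟨v, hvU⟩ ⟨v', hv'U⟩) ≃ₗ[F] ↥(U ⊓ Wsub B v v') :=
    { toFun := fun x => ⟨((x : ↥U) : V), ⟨(x : ↥U).2, x.2⟩⟩
      map_add' := fun _ _ => rfl
      map_smul' := fun _ _ => rfl
      invFun := fun y => ⟨⟨(y : V), y.2.1⟩, y.2.2⟩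
      left_inv := fun _ => rfl
      right_inv := fun _ => rfl }
  rw [← e.finrank_eq]
  exact h

theorem finrank_comap_Wsub (U : Submodule F V) (v v' : V) :
    finrank F ↥(U.comap (Wsub B v v').subtype) = finrank F ↥(U ⊓ Wsub B v v') := by
  have h1 := (Submodule.comapSubtypeEquivOfLe (inf_le_right : U ⊓ Wsub B v v' ≤ Wsub B v v')).finrank_eq
  have h2 : (U ⊓ Wsub B v v').comap (Wsub B v v').subtype = U.comap (Wsub B v v').subtype := by
    ext x
    simp [Submodule.mem_comap]
  rw [← h2]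
  exact h1

/-- if `U ∩ W = 0` then `[Q_v : Q_v ∩ G_U] ≥ q^(2m-2)` -/
theorem Qv_bound [Finite F] [FiniteDimensional F V] {m q : ℕ} (S : Setting B m q) (hm : 1 ≤ m)
    {U : Submodule F V} {v v' : V} (hv'U : v' ∈ U) (hvU : v ∈ U) (hvv : B v v' = 1)
    (hUW : U ⊓ Wsub B v v' = ⊥) :
    q ^ (2 * m - 2) ≤ (stab U ⊓ isoGroup B).relIndex (Qv B v) := by
  have : Finite V := Module.finite_of_finite F
  have : Finite (V ≃ₗ[F] V) := finite_linearEquiv
  have hB := S.alt
  have hle : (stab U ⊓ isoGroup B) ⊓ Qv B v ≤ Xv B hB v := by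
    intro g hg
    obtain ⟨hgP, hgQ⟩ := Subgroup.mem_inf.mp hg
    obtain ⟨w, hw, t, rfl⟩ := Qv_param B hB hvv hgQ
    have hgU := (mem_stab.mp (Subgroup.mem_inf.mp hgP).1 v').mp hv'U
    rw [gv_v' B hB hvv hw] at hgU
    have hwU : w ∈ U := by
      have : w = v' - t • v - (v' - w - t • v) := by abel
      rw [this]
      exact U.sub_mem (U.sub_mem hv'U (U.smul_mem _ hvU)) hgU
    have hw0 : w = 0 := by
      have : w ∈ U ⊓ Wsub B v v' := ⟨hwU, hw⟩
      rw [hUW] at this
      exact (Submodule.mem_bot F).mp this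
    rw [hw0, gv_zero]
    exact stv_mem_Xv B hB v t
  have hXcard : Nat.card ↥(Xv B hB v) ≤ q := by
    rw [← S.card]
    apply Nat.card_le_card_of_surjective (fun t : F => (⟨stv B hB v t, stv_mem_Xv B hB v t⟩ : ↥(Xv B hB v)))
    rintro ⟨g, t, rfl⟩
    exact ⟨t, rfl⟩
  have hcard : Nat.card ↥((stab U ⊓ isoGroup B) ⊓ Qv B v) ≤ q :=
    le_trans (Subgroup.card_le_of_le hle) hXcard
  have hmul := relIndex_mul_card' (inf_le_right : (stab U ⊓ isoGroup B) ⊓ Qv B v ≤ Qv B v)
  rw [Subgroup.inf_relIndex_right, card_Qv B hB hvv, S.card] at hmul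
  have hW : Nat.card ↥(Wsub B v v') = q ^ (2 * m - 2) := by
    rw [Module.natCard_eq_pow_finrank (K := F), S.card]
    have := finrank_Wsub_add_two B hB hvv
    rw [S.dim] at this
    congr 1
    omega
  rw [hW] at hmul
  have hq0 : 0 < q := by
    rw [← S.card]; exact Nat.card_pos
  have : q ^ (2 * m - 2) * q ≤ (stab U ⊓ isoGroup B).relIndex (Qv B v) * q := by
    rw [← hmul]
    exact Nat.mul_le_mul_left _ hcard
  exact Nat.le_of_mul_le_mul_right this hq0

/-- transport along `K_v ≅ Sp(W)` -/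
theorem Kv_relIndex [FiniteDimensional F V] (hB : B.IsAlt) {U : Submodule F V} {v v' : V}
    (hvU : v ∈ U) (hv'U : v' ∈ U) (hvv : B v v' = 1) :
    (stab U ⊓ isoGroup B).relIndex (Kv B v v') =
      (stab (U.comap (Wsub B v v').subtype) ⊓ isoGroup (B.restrict (Wsub B v v'))).relIndex
        (isoGroup (B.restrict (Wsub B v v'))) := by
  obtain ⟨e, he⟩ := Kiso B hB hvv
  have key : ∀ g : ↥(Kv B v v'), (g : V ≃ₗ[F] V) ∈ stab U ↔
      ((e g : ↥(isoGroup (B.restrict (Wsub B v v')))) :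
        ↥(Wsub B v v') ≃ₗ[F] ↥(Wsub B v v')) ∈ stab (U.comap (Wsub B v v').subtype) := by
    intro g
    constructor
    · intro h
      rw [mem_stab]
      intro w
      rw [Submodule.mem_comap, Submodule.mem_comap]
      show (w : V) ∈ U ↔ (((e g : ↥(isoGroup (B.restrict (Wsub B v v')))) :
        ↥(Wsub B v v') ≃ₗ[F] ↥(Wsub B v v')) w : V) ∈ U
      rw [he g w]
      exact (mem_stab.mp h) (w : V)
    · intro h
      apply mem_stab_of_forall_mem
      intro x hxU
      have hpU : piV B v v' x ∈ U := by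
        rw [piV_apply]
        exact U.add_mem (U.sub_mem hxU (U.smul_mem _ hvU)) (U.smul_mem _ hv'U)
      have hpW : piV B v v' x ∈ Wsub B v v' := piV_mem B hB hvv x
      have h1 := (mem_stab.mp h ⟨piV B v v' x, hpW⟩).mp (by
        rw [Submodule.mem_comap]; exact hpU)
      rw [Submodule.mem_comap] at h1
      have h2 : (g : V ≃ₗ[F] V) (piV B v v' x) ∈ U := by
        have := he g ⟨piV B v v' x, hpW⟩
        rw [← this]
        exact h1
      have hx := decomp B v v' x
      rw [hx, map_add, map_sub, map_smul, map_smul, g.2.2.1, g.2.2.2]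
      exact U.add_mem (U.sub_mem (U.smul_mem _ hvU) (U.smul_mem _ hv'U)) h2
  have hsub : (stab U ⊓ isoGroup B).subgroupOf (Kv B v v') =
      ((stab (U.comap (Wsub B v v').subtype) ⊓ isoGroup (B.restrict (Wsub B v v'))).subgroupOf
        (isoGroup (B.restrict (Wsub B v v')))).comap e.toMonoidHom := by
    ext g
    rw [Subgroup.mem_comap, Subgroup.mem_subgroupOf, Subgroup.mem_subgroupOf, Subgroup.mem_inf,
      Subgroup.mem_inf]
    constructor
    · rintro ⟨h1, -⟩
      exact ⟨(key g).mp h1, (e g).2⟩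
    · rintro ⟨h1, -⟩
      exact ⟨(key g).mpr h1, g.2.1⟩
  rw [Subgroup.relIndex, Subgroup.relIndex, hsub,
    Subgroup.index_comap_of_surjective _ e.surjective]

end symp

/-! ### Package C2 (L): the stabiliser of a nondegenerate subspace `U ≠ 0`, `2 dim U ≤ dim V`, has
index `≥ m N_m` -/

theorem C2 {F : Type*} [Field F] [Finite F] (q : ℕ) (hq : 3 ≤ q) :
    ∀ m : ℕ, 2 ≤ m → ∀ (V : Type u) [AddCommGroup V] [Module F V] [FiniteDimensional F V]
      (B : LinearMap.BilinForm F V), Setting B m q → ∀ U : Submodule F V, U ≠ ⊥ →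
        NondegOn B U → 2 * Module.finrank F U ≤ Module.finrank F V →
        m * Npts m q ≤ (stab U ⊓ isoGroup B).relIndex (isoGroup B) := by
  intro m
  induction m with
  | zero => intro h; omega
  | succ n ih =>
    intro hm V _ _ _ B S U hU hND hdim
    have : Finite V := Module.finite_of_finite F
    have : Finite (V ≃ₗ[F] V) := finite_linearEquiv
    have hB := S.alt
    obtain ⟨v, hvU, v', hv'U, hvv⟩ := exists_pair B hB hU hND
    have hv0 : v ≠ 0 := by
      rintro rfl
      simp at hvv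
    have hchain := chain (isoGroup B) (stab U ⊓ isoGroup B) (stabilizer (V ≃ₗ[F] V) v) inf_le_right
    have hA := relIndex_stab_vec B S hv0
    obtain ⟨ha_pos, ha_le⟩ := relIndex_stab_vec_le B S.card U hvU hv0
    have hb0 : (stab U ⊓ isoGroup B).relIndex (stabilizer (V ≃ₗ[F] V) v ⊓ isoGroup B) ≠ 0 := by
      unfold Subgroup.relIndex
      exact Subgroup.index_ne_zero_of_finite
    apply final_arith (n + 1) q (finrank F U) _ _
      ((stab U ⊓ isoGroup B).relIndex (stabilizer (V ≃ₗ[F] V) v ⊓ isoGroup B)) (by omega) ha_pos ha_le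
    · rw [hchain, hA]
    · have hfr := finrank_inf_Wsub B hB hvU hv'U hvv
      by_cases hUW : U ⊓ Wsub B v v' = ⊥
      · -- `dim U = 2`
        have hk : finrank F U = 2 := by
          rw [← hfr, hUW, finrank_bot]
        have hQ := Qv_bound B S (by omega) hv'U hvU hvv hUW
        have hQle : Qv B v ≤ stabilizer (V ≃ₗ[F] V) v ⊓ isoGroup B := by
          intro g hg
          exact Subgroup.mem_inf.mpr ⟨hg.2.1, hg.1⟩
        have hb := Subgroup.relIndex_le_of_le_right hQle hb0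
        have hp := pow_ge q (n + 1) hq hm
        rw [hk]
        have e : q ^ 2 - 1 = (q + 1) * (q - 1) := by
          obtain ⟨r, rfl⟩ : ∃ r, q = r + 1 := ⟨q - 1, by omega⟩
          simp only [Nat.add_sub_cancel]
          have : (r + 1) ^ 2 = (r + 1 + 1) * r + 1 := by ring
          rw [this, Nat.add_sub_cancel]
        rw [e]
        calc (n + 1) * ((q + 1) * (q - 1)) = ((n + 1) * (q + 1)) * (q - 1) := by ring
          _ ≤ q ^ (2 * (n + 1) - 2) * (q - 1) := Nat.mul_le_mul_right _ hp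
          _ ≤ _ := Nat.mul_le_mul_right _ (le_trans hQ hb)
      · -- `dim U ≥ 3`: induction through `K_v ≅ Sp(W)`
        have hpos : 0 < finrank F ↥(U ⊓ Wsub B v v') := by
          rw [Nat.pos_iff_ne_zero]
          intro h0
          exact hUW (Submodule.finrank_eq_zero.mp h0)
        have hn2 : 2 ≤ n := by
          rw [S.dim] at hdim
          omega
        have hSW : Setting (B.restrict (Wsub B v v')) n q := by
          refine ⟨restrict_isAlt B hB v v', Wsub_restrict_nondeg B hB hvv S.nondeg, S.card, ?_⟩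
          have := finrank_Wsub_add_two B hB hvv
          rw [S.dim] at this
          omega
        have hfc := finrank_comap_Wsub B U v v'
        have hU1 : U.comap (Wsub B v v').subtype ≠ ⊥ := by
          intro h0
          rw [h0, finrank_bot] at hfc
          omega
        have hND1 : NondegOn (B.restrict (Wsub B v v')) (U.comap (Wsub B v v').subtype) := by
          intro w hw hw0
          have hwU : (w : V) ∈ U := hw
          have hw0' : (w : V) ≠ 0 := fun h => hw0 (Subtype.ext h)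
          obtain ⟨x, hxU, hx⟩ := hND (w : V) hwU hw0'
          have hpU : piV B v v' x ∈ U := by
            rw [piV_apply]
            exact U.add_mem (U.sub_mem hxU (U.smul_mem _ hvU)) (U.smul_mem _ hv'U)
          refine ⟨⟨piV B v v' x, piV_mem B hB hvv x⟩, hpU, ?_⟩
          show B (piV B v v' x) (w : V) ≠ 0
          have hsw := W_swap B hB w.2
          rw [piV_apply, map_add, map_sub, map_smul, map_smul, LinearMap.add_apply,
            LinearMap.sub_apply, LinearMap.smul_apply, LinearMap.smul_apply, hsw.1, hsw.2]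
          simpa using hx
        have hdim1 : 2 * finrank F ↥(U.comap (Wsub B v v').subtype) ≤
            finrank F ↥(Wsub B v v') := by
          rw [hfc, hSW.dim]
          rw [S.dim] at hdim
          omega
        have hIH := ih hn2 ↥(Wsub B v v') (B.restrict (Wsub B v v')) hSW _ hU1 hND1 hdim1
        rw [← Kv_relIndex B hB hvU hv'U hvv] at hIH
        have hKle : Kv B v v' ≤ stabilizer (V ≃ₗ[F] V) v ⊓ isoGroup B := by
          intro g hg
          exact Subgroup.mem_inf.mpr ⟨hg.2.1, hg.1⟩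
        have hb := Subgroup.relIndex_le_of_le_right hKle hb0
        have hk : finrank F U ≤ n + 1 := by
          rw [S.dim] at hdim
          omega
        have har := arith_ge3 q n (finrank F U) hq hn2 hk
        have hdvd : q - 1 ∣ q ^ (2 * n) - 1 := Nat.sub_one_dvd_pow_sub_one q (2 * n)
        have hN : Npts n q * (q - 1) = q ^ (2 * n) - 1 := Nat.div_mul_cancel hdvd
        calc (n + 1) * (q ^ finrank F U - 1) ≤ n * (q ^ (2 * n) - 1) := har
          _ = (n * Npts n q) * (q - 1) := by rw [← hN]; ring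
          _ ≤ _ := Nat.mul_le_mul_right _ (le_trans hIH hb)

end Cfsg.Agent.Lib.Helper42_MISp_C2
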