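import Mathlib

/-!
# S4017 (mixed subgroups, Mersenne case): shared definitions

`Ctx G p a Q x` is the "minimal counterexample" context of the Mersenne case of S4017:
`G` is a finite simple group, `p = 2 ^ a - 1` an odd prime, `Q` a Sylow 2-subgroup of order `2 ^ a`,
`x` a `p`-element normalizing `Q` and acting fixed point freely on it, every proper subgroup of even
order is a `{2,p}`-group, `p`-subgroups are abelian, and `G` itself is not a `{2,p}`-group.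
The goal of the whole development is `Ctx G p a Q x → False`.
-/

set_option autoImplicit false

namespace Cfsg.Agent.Lib.Helper6_MXDefs

variable {G : Type*} [Group G]

/-- `g` is a `p`-element. -/
def IsPEl (p : ℕ) (g : G) : Prop := ∃ k : ℕ, g ^ p ^ k = 1

/-- every prime divisor of `n` is `2` or `p` -/
def TwoP (p n : ℕ) : Prop := ∀ r : ℕ, r.Prime → r ∣ n → r = 2 ∨ r = p

/-- `g` centralizes the subgroup `Q` -/
def CentQ (Q : Subgroup G) (g : G) : Prop := ∀ v ∈ Q, g * v = v * g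

/-- the normalizer of `Q` -/
abbrev NQ (Q : Subgroup G) : Subgroup G := Subgroup.normalizer (Q : Set G)

/-- the subgroup generated by the `p`-elements of `C_G(t)` -/
def Op (p : ℕ) (t : G) : Subgroup G := Subgroup.closure {g : G | g * t = t * g ∧ IsPEl p g}

/-- the "local" part of the context (no global hypotheses on `G`) -/
structure Ctx0 (G : Type*) [Group G] [Finite G] (p a : ℕ) (Q : Subgroup G) (x : G) : Prop where
  hp : p.Prime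
  hp2 : p ≠ 2
  ha : 2 ≤ a
  hpa : p + 1 = 2 ^ a
  cardQ : Nat.card Q = 2 ^ a
  sylQ : (Nat.card G).factorization 2 = a
  xN : x ∈ NQ Q
  xp : IsPEl p x
  xfree : ∀ v ∈ Q, x * v * x⁻¹ = v → v = 1

/-- the full context -/
structure Ctx (G : Type*) [Group G] [Finite G] (p a : ℕ) (Q : Subgroup G) (x : G) : Prop
    extends Ctx0 G p a Q x where
  simple : ∀ N : Subgroup G, N.Normal → N = ⊥ ∨ N = ⊤
  even : ∀ H : Subgroup G, H ≠ ⊤ → 2 ∣ Nat.card H → TwoP p (Nat.card H)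
  abel : ∀ H : Subgroup G, IsPGroup p H → ∀ g ∈ H, ∀ h ∈ H, g * h = h * g
  big : ¬ TwoP p (Nat.card G)

/-- `x` is transitive on `Q \ {1}` -/
def PTrans (Q : Subgroup G) (x : G) : Prop :=
  ∀ v ∈ Q, v ≠ 1 → ∀ w ∈ Q, w ≠ 1 → ∃ j : ℕ, x ^ j * v * (x ^ j)⁻¹ = w

/-- `Q` is elementary abelian -/
def PElem (Q : Subgroup G) : Prop :=
  (∀ v ∈ Q, v * v = 1) ∧ ∀ v ∈ Q, ∀ w ∈ Q, v * w = w * v

/-- every 2-element is conjugate into `Q` -/
def PSyl (Q : Subgroup G) : Prop :=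
  ∀ g : G, (∃ k : ℕ, g ^ 2 ^ k = 1) → ∃ c : G, c * g * c⁻¹ ∈ Q

/-- 2-elements of `N(Q)` lie in `Q` -/
def PTwoN (Q : Subgroup G) : Prop :=
  ∀ g ∈ NQ Q, (∃ k : ℕ, g ^ 2 ^ k = 1) → g ∈ Q

/-- point stabilizers in `N(Q)` centralize `Q` -/
def PStab (Q : Subgroup G) : Prop :=
  ∀ g ∈ NQ Q, ∀ t ∈ Q, t ≠ 1 → g * t * g⁻¹ = t → CentQ Q g

/-- `N(Q) = ⟨x⟩ C(Q)` -/
def PDec (Q : Subgroup G) (x : G) : Prop :=
  ∀ n ∈ NQ Q, ∃ j : ℕ, ∃ c : G, CentQ Q c ∧ n = x ^ j * c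

/-- Lemma T: a proper subgroup containing `Q` and `x` normalizes `Q` -/
def PLemT (Q : Subgroup G) (x : G) : Prop :=
  ∀ H : Subgroup G, H ≠ ⊤ → Q ≤ H → x ∈ H → H ≤ NQ Q

/-- structure of involution centralizers: `C(t) = O_p(C(t)) Q` -/
def POt (p : ℕ) (Q : Subgroup G) : Prop :=
  ∀ t ∈ Q, t ≠ 1 → IsPGroup p (Op p t) ∧ ∀ g : G, g * t = t * g → ∃ o ∈ Op p t, ∃ v ∈ Q, g = o * v

/-- Case I hypothesis: some nontrivial `p`-element centralizes `Q` -/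
def HI (p : ℕ) (Q : Subgroup G) : Prop := ∃ w : G, w ≠ 1 ∧ IsPEl p w ∧ CentQ Q w

/-- Case II hypothesis: no nontrivial `p`-element centralizes `Q` -/
def HII (p : ℕ) (Q : Subgroup G) : Prop := ∀ w : G, IsPEl p w → CentQ Q w → w = 1

end Cfsg.Agent.Lib.Helper6_MXDefs

namespace Cfsg.Agent.Lib.Helper6_MXDefs

variable {G : Type*} [Group G]

/-- all `p`-elements centralizing `F` are trivial -/
def ClaimF (p : ℕ) (F : Subgroup G) : Prop :=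
  ∀ g : G, (∀ v ∈ F, g * v = v * g) → IsPEl p g → g = 1

/-- CIT hypothesis: `C(t) = Q` for `t ∈ Q \ {1}` -/
def HCit (Q : Subgroup G) : Prop := ∀ t ∈ Q, t ≠ 1 → ∀ g : G, g * t = t * g → g ∈ Q

/-- the basic facts valid in every context -/
structure Facts (G : Type*) [Group G] [Finite G] (p a : ℕ) (Q : Subgroup G) (x : G) : Prop where
  trans : PTrans Q x
  elem : PElem Q
  syl : PSyl Q
  twoN : PTwoN Q
  stab : PStab Q
  dec : PDec Q x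
  lemT : PLemT Q x
  ot : POt p Q
  nq_ne : NQ Q ≠ ⊤
  nq_twoP : TwoP p (Nat.card (NQ Q))
  ctr : ∀ g : G, (∀ k : G, g * k = k * g) → g = 1
  norm_ne : ∀ K : Subgroup G, K ≠ ⊥ → K ≠ ⊤ → Subgroup.normalizer (K : Set G) ≠ ⊤
  pgrp_ne : ∀ K : Subgroup G, IsPGroup p K → K ≠ ⊤
  cent_ne : ∀ g : G, g ≠ 1 → Subgroup.centralizer ({g} : Set G) ≠ ⊤
  pdvd : p ∣ Nat.card G
  q_ne : ∃ t ∈ Q, t ≠ 1
  swap : ∀ z ∈ NQ Q, IsPEl p z → ¬ CentQ Q z → Ctx G p a Q z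

/-- the basic facts hold in every context -/
def UFacts (G : Type*) [Group G] [Finite G] (p a : ℕ) : Prop :=
  ∀ (Q : Subgroup G) (x : G), Ctx G p a Q x → Facts G p a Q x

/-- contexts are stable under conjugation -/
def UConj (G : Type*) [Group G] [Finite G] (p a : ℕ) : Prop :=
  ∀ (Q : Subgroup G) (x : G), Ctx G p a Q x → ∀ c : G,
    Ctx G p a (Q.map (MulAut.conj c).toMonoidHom) (c * x * c⁻¹)

/-! ### Case I -/

def D1Prop (G : Type*) [Group G] [Finite G] (p a : ℕ) : Prop :=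
  ∀ (Q : Subgroup G) (x : G), Ctx G p a Q x → HI p Q →
    ∀ t ∈ Q, t ≠ 1 → ∀ g : G, g * t = t * g → CentQ Q g

def D2Prop (G : Type*) [Group G] [Finite G] (p a : ℕ) : Prop :=
  ∀ (Q : Subgroup G) (x : G), Ctx G p a Q x → HI p Q →
    ∀ c : G, ∀ t ∈ Q, t ≠ 1 → c * t * c⁻¹ ∈ Q → c ∈ NQ Q

def D3Prop (G : Type*) [Group G] [Finite G] (p a : ℕ) : Prop :=
  ∀ (Q : Subgroup G) (x : G), Ctx G p a Q x → HI p Q →
    ∀ w : G, IsPEl p w → CentQ Q w → ∀ n ∈ NQ Q, n * w = w * n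

def D4Prop (G : Type*) [Group G] [Finite G] (p a : ℕ) : Prop :=
  ∀ (Q : Subgroup G) (x : G), Ctx G p a Q x → HI p Q →
    ∀ w : G, w ≠ 1 → IsPEl p w → CentQ Q w → ∀ g : G, g * w = w * g → g ∈ NQ Q

def D5aProp (G : Type*) [Group G] [Finite G] (p a : ℕ) : Prop :=
  ∀ (Q : Subgroup G) (x : G), Ctx G p a Q x → HI p Q →
    ∀ t ∈ Q, t ≠ 1 → ∀ u : G, orderOf u = 2 → u ∉ NQ Q → IsPEl p (t * u)

def D5b1Prop (G : Type*) [Group G] [Finite G] (p a : ℕ) : Prop :=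
  ∀ (Q : Subgroup G) (x : G), Ctx G p a Q x → HI p Q →
    ∀ y : G, y ≠ 1 → IsPEl p y → CentQ Q y → ∀ t : G, t * y * t⁻¹ = y⁻¹ → False

def D5b2Prop (G : Type*) [Group G] [Finite G] (p a : ℕ) : Prop :=
  ∀ (Q : Subgroup G) (x : G), Ctx G p a Q x → HI p Q →
    ∀ t ∈ Q, t ≠ 1 → ∀ y : G, IsPEl p y → t * y * t⁻¹ = y⁻¹ → y ∈ NQ Q

def CaseIProp (G : Type*) [Group G] [Finite G] (p a : ℕ) : Prop :=
  ∀ (Q : Subgroup G) (x : G), Ctx G p a Q x → HI p Q → False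

/-! ### Case II -/

def RStarProp (G : Type*) [Group G] [Finite G] (p a : ℕ) : Prop :=
  ∀ (Q : Subgroup G) (x : G), Ctx G p a Q x → ∀ S : Set G, (∀ g ∈ S, IsPEl p g) →
    (∀ g ∈ S, ∀ g' ∈ S, g * g' = g' * g) → (∀ n ∈ NQ Q, ∀ g ∈ S, n * g * n⁻¹ ∈ S) →
    ∀ g ∈ S, g ∈ NQ Q

def HyperProp (G : Type*) [Group G] [Finite G] (p a : ℕ) : Prop :=
  ∀ (Q : Subgroup G) (x : G), Ctx G p a Q x → HII p Q → 3 ≤ a →
    ∀ U : Subgroup G, U ≤ Q → 2 * Nat.card U = Nat.card Q → ClaimF p U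

def VFourProp (G : Type*) [Group G] [Finite G] (p a : ℕ) : Prop :=
  ∀ (Q : Subgroup G) (x : G), Ctx G p a Q x →
    ∀ F : Subgroup G, F ≤ Q → F ≠ ⊥ → 4 * Nat.card F ≤ Nat.card Q →
      (∀ F' : Subgroup G, F' ≤ Q → F < F' → ClaimF p F') → ClaimF p F

/-- conclusion of the case `a ≥ 3`: involution centralizers have no `p`-elements -/
def BigAProp (G : Type*) [Group G] [Finite G] (p a : ℕ) : Prop :=
  ∀ (Q : Subgroup G) (x : G), Ctx G p a Q x → HII p Q → 3 ≤ a →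
    ∀ t ∈ Q, t ≠ 1 → ∀ g : G, g * t = t * g → IsPEl p g → g = 1

def InvProp (G : Type*) [Group G] [Finite G] (p a : ℕ) : Prop :=
  ∀ (Q : Subgroup G) (x : G), Ctx G p a Q x → HII p Q → a = 2 →
    ∀ t ∈ Q, t ≠ 1 → ∀ u ∈ Q, u ≠ 1 → u ≠ t → ∀ y ∈ Op p t, u * y * u⁻¹ = y⁻¹

def NYStructProp (G : Type*) [Group G] [Finite G] (p a : ℕ) : Prop :=
  ∀ (Q : Subgroup G) (x : G), Ctx G p a Q x → HII p Q → a = 2 →
    ∀ t ∈ Q, t ≠ 1 → ∀ y ∈ Op p t, y ≠ 1 → ∃ R : Subgroup G, IsPGroup p R ∧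
      (∀ g : G, IsPEl p g → g * y * g⁻¹ ∈ Subgroup.zpowers y → g ∈ R) ∧
      (∀ g : G, g * y * g⁻¹ ∈ Subgroup.zpowers y → ∃ r ∈ R, ∃ v ∈ Q, g = r * v) ∧
      (∀ r ∈ R, ∀ v ∈ Q, v * r * v⁻¹ ∈ R)

def CommProp (G : Type*) [Group G] [Finite G] (p a : ℕ) : Prop :=
  ∀ (Q : Subgroup G) (x : G), Ctx G p a Q x → HII p Q → a = 2 →
    ∀ t ∈ Q, t ≠ 1 → ∀ u ∈ Q, u ≠ 1 → u ≠ t →
      (∃ y ∈ Op p t, y ≠ 1 ∧ ∃ y' ∈ Op p u, y' ≠ 1 ∧ y * y' = y' * y) →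
      ∀ z ∈ Op p t, ∀ z' ∈ Op p u, z * z' = z' * z

def NoCommProp (G : Type*) [Group G] [Finite G] (p a : ℕ) : Prop :=
  ∀ (Q : Subgroup G) (x : G), Ctx G p a Q x → HII p Q → a = 2 →
    ∀ t ∈ Q, t ≠ 1 → ∀ u ∈ Q, u ≠ 1 → u ≠ t →
      (∀ z ∈ Op p t, ∀ z' ∈ Op p u, z * z' = z' * z) → ∀ y ∈ Op p t, y = 1

def NYProp (G : Type*) [Group G] [Finite G] (p a : ℕ) : Prop :=
  ∀ (Q : Subgroup G) (x : G), Ctx G p a Q x → HII p Q → a = 2 →
    ∀ t ∈ Q, t ≠ 1 → ∀ y ∈ Op p t, y ≠ 1 →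
      ∀ g : G, g * y * g⁻¹ ∈ Subgroup.zpowers y → g * t = t * g

def TIProp (G : Type*) [Group G] [Finite G] (p a : ℕ) : Prop :=
  ∀ (Q : Subgroup G) (x : G), Ctx G p a Q x → HII p Q → a = 2 →
    ∀ t ∈ Q, t ≠ 1 → (∃ y ∈ Op p t, y ≠ 1) → ∀ c : G,
      (∃ k : G, k ≠ 1 ∧ k ∈ Op p t ⊔ Subgroup.zpowers t ∧
        c⁻¹ * k * c ∈ Op p t ⊔ Subgroup.zpowers t) → c * t = t * c

/-- the conclusion of the abstract Brauer-Suzuki-Wall theorem S3282 -/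
def BSWConcl (G : Type*) [Group G] : Prop :=
  ∃ Q D : Subgroup G, 2 * Nat.card G = Nat.card ↥Q * (Nat.card ↥Q + 1) * (Nat.card ↥Q - 1) ∧
    (∀ x ∈ Q, x ≠ 1 → Subgroup.centralizer ({x} : Set G) = Q) ∧
    IsMulCommutative ↥D ∧ 2 * Nat.card ↥D + 1 = Nat.card ↥Q ∧ Q ⊓ D = ⊥ ∧
    Subgroup.normalizer (Q : Set G) = Q ⊔ D ∧
    ∀ X : Subgroup G, X ≤ D → X ≠ ⊥ →
      Subgroup.normalizer (X : Set G) = Subgroup.normalizer (D : Set G) ∧
      ∃ u : G, orderOf u = 2 ∧ u ∉ D ∧ (∀ d ∈ D, u * d * u⁻¹ = d⁻¹) ∧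
        Subgroup.normalizer (D : Set G) = D ⊔ Subgroup.zpowers u

def BSWApplyProp (G : Type*) [Group G] [Finite G] (p a : ℕ) : Prop :=
  ∀ (Q : Subgroup G) (x : G), Ctx G p a Q x → HII p Q → a = 2 →
    (∃ t ∈ Q, t ≠ 1 ∧ ∃ y ∈ Op p t, y ≠ 1) → BSWConcl G

def BSWArithProp (G : Type*) [Group G] [Finite G] (p a : ℕ) : Prop :=
  ∀ (Q : Subgroup G) (x : G), Ctx G p a Q x → a = 2 →
    (∃ t ∈ Q, t ≠ 1 ∧ ∃ y ∈ Op p t, y ≠ 1) → BSWConcl G → False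

/-! ### CIT case -/

/-- global facts in the CIT case -/
structure CitG (G : Type*) [Group G] (p : ℕ) : Prop where
  sq : ∀ v : G, orderOf v = 2 → ∀ g : G, g * v = v * g → g * g = 1
  card : ∀ v : G, orderOf v = 2 → Nat.card (Subgroup.centralizer ({v} : Set G)) = p + 1
  conj : ∀ u v : G, orderOf u = 2 → orderOf v = 2 → ∃ c : G, c * u * c⁻¹ = v

/-- the nontrivial real `p`-elements -/
def RealP (G : Type*) [Group G] (p : ℕ) : Set G :=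
  {y : G | y ≠ 1 ∧ IsPEl p y ∧ ∃ t : G, orderOf t = 2 ∧ t * y * t⁻¹ = y⁻¹}

/-- the involutions -/
def Invs (G : Type*) [Group G] : Set G := {v : G | orderOf v = 2}

/-- the order of a Sylow `p`-subgroup -/
noncomputable def ppart (G : Type*) [Group G] (p : ℕ) : ℕ := p ^ (Nat.card G).factorization p

def CitGProp (G : Type*) [Group G] [Finite G] (p a : ℕ) : Prop :=
  ∀ (Q : Subgroup G) (x : G), Ctx G p a Q x → HCit Q → CitG G p

def CitProdProp (G : Type*) [Group G] [Finite G] (p a : ℕ) : Prop :=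
  ∀ (Q : Subgroup G) (x : G), Ctx G p a Q x → CitG G p →
    ∀ t u : G, orderOf t = 2 → orderOf u = 2 → t * u = u * t ∨ IsPEl p (t * u)

def CitRealProp (G : Type*) [Group G] [Finite G] (p a : ℕ) : Prop :=
  ∀ (Q : Subgroup G) (x : G), Ctx G p a Q x → CitG G p →
    ∀ y : G, y ≠ 1 → IsPEl p y → ∀ t : G, orderOf t = 2 → t * y * t⁻¹ = y⁻¹ →
      (∀ z : G, z * y = y * z → IsPEl p z) ∧
      Nat.card (Subgroup.centralizer ({y} : Set G)) = ppart G p ∧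
      (∀ z : G, z * y = y * z → t * z * t⁻¹ = z⁻¹)

def CitInvCountProp (G : Type*) [Group G] [Finite G] (p a : ℕ) : Prop :=
  ∀ (Q : Subgroup G) (x : G), Ctx G p a Q x → CitG G p →
    ∀ y ∈ RealP G p, Set.ncard {v : G | orderOf v = 2 ∧ v * y * v⁻¹ = y⁻¹} = ppart G p

def CitICardProp (G : Type*) [Group G] [Finite G] (p a : ℕ) : Prop :=
  ∀ (Q : Subgroup G) (x : G), Ctx G p a Q x → CitG G p →
    (Invs G).ncard * (p + 1) = Nat.card G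

def CitPairsProp (G : Type*) [Group G] [Finite G] (p a : ℕ) : Prop :=
  ∀ (Q : Subgroup G) (x : G), Ctx G p a Q x → CitG G p →
    (Invs G).ncard * (Invs G).ncard = (Invs G).ncard * p + (RealP G p).ncard * ppart G p

def CitYProp (G : Type*) [Group G] [Finite G] (p a : ℕ) : Prop :=
  ∀ (Q : Subgroup G) (x : G), Ctx G p a Q x → CitG G p → (RealP G p).Nonempty →
    (RealP G p).ncard * (2 * ppart G p) = (ppart G p - 1) * Nat.card G

def CitProp (G : Type*) [Group G] [Finite G] (p a : ℕ) : Prop :=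
  ∀ (Q : Subgroup G) (x : G), Ctx G p a Q x → HCit Q → False

end Cfsg.Agent.Lib.Helper6_MXDefs

namespace Cfsg.Agent.Lib.Helper6_MXDefs

/-- the hypotheses of S4017 on a group -/
def Hyp (G : Type*) [Group G] (p q : ℕ) : Prop :=
  p ∣ Nat.card G ∧ q ∣ Nat.card G ∧
  (∀ H : Subgroup G, H ≠ ⊤ → ¬ IsPGroup q H → q ∣ Nat.card H → p ∣ Nat.card H) ∧
  (q ^ (Nat.card G).factorization q - 1 < p ∨
      (p = q ^ (Nat.card G).factorization q - 1 ∧ ∀ P : Sylow p G, IsMulCommutative P))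

end Cfsg.Agent.Lib.Helper6_MXDefs
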