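import Mathlib
import Cfsg.Agent.Lib.Helper6_MXDefs

/-!
# S4017 package MX-F2A (architect helper6): `no_compl`

No normal `q`-complement when a third prime `r` divides `|G|`: Frattini's argument for a Sylow
`r`-subgroup `R` of the complement `N` shows that `q` divides `|N_G(R)|`, so a subgroup of order
`q` normalizes the `r`-group `R`, which `hrs` forbids.
-/

set_option autoImplicit false
open Cfsg.Agent.Lib.Helper6_MXDefs

namespace Cfsg.Agent.Lib.Helper42_MX_F2A

theorem no_compl {G : Type*} [Group G] [Finite G] {p q : ℕ} (hp : p.Prime) [Fact q.Prime]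
    (hpq : p ≠ q) (hpG : p ∣ Nat.card G) (hqG : q ∣ Nat.card G)
    (hrs : ∀ (U R : Subgroup G) (r : ℕ), r.Prime → r ≠ p → r ≠ q → IsPGroup q U → U ≠ ⊥ →
      IsPGroup r R → R ≠ ⊥ →
      (U ≤ Subgroup.normalizer (R : Set G) ∨ R ≤ Subgroup.normalizer (U : Set G)) → False)
    (r : ℕ) (hr : r.Prime) (hrG : r ∣ Nat.card G) (hrp : r ≠ p) (hrq : r ≠ q)
    (Qs : Sylow q G) (N : Subgroup G) (hN : N.Normal) (hc : N.IsComplement' (Qs : Subgroup G)) :
    False := by
  have _ := hp
  have _ := hpq
  have _ := hpG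
  have hq : q.Prime := Fact.out
  have hrF : Fact r.Prime := ⟨hr⟩
  have hNn : N.Normal := hN
  -- `|N| * |Qs| = |G|`
  have hcard : Nat.card N * Nat.card (Qs : Subgroup G) = Nat.card G := hc.card_mul_card
  -- `N.index = |Qs|`
  have hidx : N.index = Nat.card (Qs : Subgroup G) := by
    have h1 : Nat.card N * N.index = Nat.card G := N.card_mul_index
    have hpos : 0 < Nat.card N := Nat.card_pos
    exact Nat.eq_of_mul_eq_mul_left hpos (h1.trans hcard.symm)
  have hqQ : q ∣ Nat.card (Qs : Subgroup G) := Qs.dvd_card_of_dvd_card hqG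
  -- `r ∣ |N|`
  have hrN : r ∣ Nat.card N := by
    rw [← hcard] at hrG
    rcases (Nat.Prime.dvd_mul hr).mp hrG with h | h
    · exact h
    · exfalso
      obtain ⟨n, hn⟩ := IsPGroup.iff_card.mp Qs.isPGroup'
      rw [hn] at h
      exact hrq ((Nat.prime_dvd_prime_iff_eq hr hq).mp (hr.dvd_of_dvd_pow h))
  -- a Sylow `r`-subgroup of `N`
  obtain ⟨R0⟩ : Nonempty (Sylow r N) := inferInstance
  set R : Subgroup G := (R0 : Subgroup N).map N.subtype with hR
  have hRcard : Nat.card R = Nat.card (R0 : Subgroup N) :=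
    Subgroup.card_map_of_injective N.subtype_injective
  have hRp : IsPGroup r R := R0.isPGroup'.map _
  have hR1 : R ≠ ⊥ := by
    intro hbot
    have h1 : Nat.card R = 1 := by rw [hbot]; exact Subgroup.card_bot
    have h2 : r ∣ Nat.card (R0 : Subgroup N) := R0.dvd_card_of_dvd_card hrN
    rw [← hRcard, h1] at h2
    exact hr.one_lt.ne' (Nat.dvd_one.mp h2)
  -- Frattini
  have hfr : Subgroup.normalizer (R : Set G) ⊔ N = ⊤ := Sylow.normalizer_sup_eq_top R0
  have hrel : N.relIndex (Subgroup.normalizer (R : Set G)) = N.index := by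
    rw [← Subgroup.relIndex_sup_right, hfr, Subgroup.relIndex_top_right]
  have hqH : q ∣ Nat.card (Subgroup.normalizer (R : Set G)) := by
    refine dvd_trans ?_ (Subgroup.relIndex_dvd_card N (Subgroup.normalizer (R : Set G)))
    rw [hrel, hidx]
    exact hqQ
  -- Cauchy
  obtain ⟨u, hu⟩ := exists_prime_orderOf_dvd_card' (G := Subgroup.normalizer (R : Set G)) q hqH
  have huo : orderOf (u : G) = q := by rw [Subgroup.orderOf_coe, hu]
  set U : Subgroup G := Subgroup.zpowers (u : G) with hU
  have hUcard : Nat.card U = q := by rw [hU, Nat.card_zpowers, huo]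
  have hUq : IsPGroup q U := IsPGroup.of_card (n := 1) (by rw [hUcard, pow_one])
  have hU1 : U ≠ ⊥ := by
    intro hbot
    rw [hbot, Subgroup.card_bot] at hUcard
    exact hq.one_lt.ne' hUcard.symm
  have hUle : U ≤ Subgroup.normalizer (R : Set G) := Subgroup.zpowers_le.mpr u.2
  exact hrs U R r hr hrp hrq hUq hU1 hRp hR1 (Or.inl hUle)

end Cfsg.Agent.Lib.Helper42_MX_F2A
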