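import Mathlib
import Cfsg.Agent.Lib.Helper6_MXDefs

/-!
# S4017 package MX-F3 (architect helper6): `arith_step`

A `p`-element `g` normalizing but not centralizing a `q`-group `U` of order `q ^ k`, `k ≤ A`,
`q ^ A - 1 ≤ p`: then `p = q ^ A - 1`, `k = A` and `g` acts fixed point freely on `U`.
-/

set_option autoImplicit false
open Cfsg.Agent.Lib.Helper6_MXDefs

namespace Cfsg.Agent.Lib.Helper42_MX_F3

/-- the conjugation action of `⟨g⟩` on `U` for `g ∈ N(U)` -/
@[reducible] def conjAct {G : Type*} [Group G] (U : Subgroup G) (g : G)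
    (hgN : g ∈ Subgroup.normalizer (U : Set G)) : MulAction (Subgroup.zpowers g) U where
  smul h u := ⟨(h : G) * u * (h : G)⁻¹,
    (Subgroup.mem_normalizer_iff.mp ((Subgroup.zpowers_le.mpr hgN) h.2) u).mp u.2⟩
  one_smul u := Subtype.ext (by
    show ((1 : Subgroup.zpowers g) : G) * u * ((1 : Subgroup.zpowers g) : G)⁻¹ = u
    simp)
  mul_smul a b u := Subtype.ext (by
    show ((a * b : Subgroup.zpowers g) : G) * u * ((a * b : Subgroup.zpowers g) : G)⁻¹ =
      (a : G) * ((b : G) * u * (b : G)⁻¹) * (a : G)⁻¹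
    simp [mul_assoc])

theorem isPGroup_zpowers {G : Type*} [Group G] {p : ℕ} {g : G} (hgp : IsPEl p g) :
    IsPGroup p (Subgroup.zpowers g) := by
  obtain ⟨n, hn⟩ := hgp
  rintro ⟨h, hh⟩
  obtain ⟨i, rfl⟩ := Subgroup.mem_zpowers_iff.mp hh
  refine ⟨n, Subtype.ext ?_⟩
  show (g ^ i) ^ p ^ n = 1
  rw [← zpow_natCast, ← zpow_mul, mul_comm, zpow_mul, zpow_natCast, hn, one_zpow]

theorem arith_step {G : Type*} [Group G] [Finite G] {p q : ℕ} (hp : p.Prime) (hq : q.Prime)
    (hpq : p ≠ q) (U : Subgroup G) (k : ℕ) (hU : Nat.card U = q ^ k) (g : G)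
    (hgN : g ∈ Subgroup.normalizer (U : Set G)) (hgp : IsPEl p g)
    (hgC : ¬ ∀ u ∈ U, g * u = u * g) (A : ℕ) (hkA : k ≤ A) (hpA : q ^ A - 1 ≤ p) :
    p = q ^ A - 1 ∧ k = A ∧ ∀ u ∈ U, g * u * g⁻¹ = u → u = 1 := by
  classical
  have hpF : Fact p.Prime := ⟨hp⟩
  -- the fixed subgroup
  set C : Subgroup G := U ⊓ Subgroup.centralizer ({g} : Set G) with hC
  have hCmem : ∀ u : G, u ∈ C ↔ u ∈ U ∧ g * u = u * g := by
    intro u
    rw [hC, Subgroup.mem_inf, Subgroup.mem_centralizer_singleton_iff]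
    constructor
    · rintro ⟨h1, h2⟩
      exact ⟨h1, h2.symm⟩
    · rintro ⟨h1, h2⟩
      exact ⟨h1, h2.symm⟩
  have hCU : C ≤ U := inf_le_left
  obtain ⟨j, hjk, hj⟩ := (Nat.dvd_prime_pow hq).mp (hU ▸ Subgroup.card_dvd_of_le hCU)
  have hjlt : j < k := by
    rcases Nat.lt_or_ge j k with h | h
    · exact h
    · exfalso
      have hjk' : j = k := le_antisymm hjk h
      have hCeq : C = U := by
        apply Subgroup.eq_of_le_of_card_ge hCU
        rw [hj, hU, hjk']
      apply hgC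
      intro u hu
      exact ((hCmem u).mp (hCeq ▸ hu)).2
  -- the action
  let act : MulAction (Subgroup.zpowers g) U := conjAct U g hgN
  have hsmul : ∀ (h : Subgroup.zpowers g) (u : U), ((h • u : U) : G) = (h : G) * u * (h : G)⁻¹ :=
    fun _ _ => rfl
  have hmod := (isPGroup_zpowers hgp).card_modEq_card_fixedPoints (U : Type _)
  -- the fixed points are `C`
  have hfix : Nat.card (MulAction.fixedPoints (Subgroup.zpowers g) U) = Nat.card C := by
    refine Nat.card_congr
      { toFun := fun u => ⟨u.1.1, (hCmem _).mpr ⟨u.1.2, ?_⟩⟩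
        invFun := fun c => ⟨⟨c.1, hCU c.2⟩, ?_⟩
        left_inv := fun u => rfl
        right_inv := fun c => rfl }
    · have h1 := u.2 ⟨g, Subgroup.mem_zpowers g⟩
      have h2 := congrArg Subtype.val h1
      rw [hsmul] at h2
      have h3 : g * (u.1 : G) * g⁻¹ = (u.1 : G) := h2
      calc g * (u.1 : G) = g * (u.1 : G) * g⁻¹ * g := by group
        _ = (u.1 : G) * g := by rw [h3]
    · rintro ⟨h, hh⟩
      apply Subtype.ext
      rw [hsmul]
      obtain ⟨i, rfl⟩ := Subgroup.mem_zpowers_iff.mp hh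
      have hcg : g * (c : G) = (c : G) * g := ((hCmem _).mp c.2).2
      have hcomm : Commute (g ^ i) (c : G) := (Commute.zpow_left hcg i)
      show g ^ i * (c : G) * (g ^ i)⁻¹ = (c : G)
      rw [hcomm.eq, mul_assoc, mul_inv_cancel, mul_one]
  rw [hfix, hU, hj] at hmod
  -- arithmetic
  have hq2 : 2 ≤ q := hq.two_le
  have hle : q ^ j ≤ q ^ k := Nat.pow_le_pow_right (by omega) hjk
  have hdvd : p ∣ q ^ k - q ^ j := (Nat.modEq_iff_dvd' hle).mp hmod.symm
  have hfac : q ^ k - q ^ j = q ^ j * (q ^ (k - j) - 1) := by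
    have : q ^ k = q ^ j * q ^ (k - j) := by
      rw [← pow_add]
      congr 1
      omega
    rw [this, Nat.mul_sub, mul_one]
  rw [hfac] at hdvd
  have hcop : Nat.Coprime p (q ^ j) :=
    Nat.Coprime.pow_right j ((Nat.coprime_primes hp hq).mpr hpq)
  have hdvd2 : p ∣ q ^ (k - j) - 1 := hcop.dvd_of_dvd_mul_left hdvd
  have hpos : 0 < q ^ (k - j) - 1 := by
    have : q ^ 1 ≤ q ^ (k - j) := Nat.pow_le_pow_right (by omega) (by omega)
    rw [pow_one] at this
    omega
  have hple : p ≤ q ^ (k - j) - 1 := Nat.le_of_dvd hpos hdvd2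
  have hmono : q ^ (k - j) ≤ q ^ A := Nat.pow_le_pow_right (by omega) (by omega)
  have hpow : q ^ (k - j) = q ^ A := by omega
  have hkjA : k - j = A := Nat.pow_right_injective hq2 hpow
  have hkA' : k = A := by omega
  have hj0 : j = 0 := by omega
  refine ⟨by omega, hkA', ?_⟩
  intro u hu hgu
  have huC : u ∈ C := by
    rw [hCmem]
    refine ⟨hu, ?_⟩
    calc g * u = g * u * g⁻¹ * g := by group
      _ = u * g := by rw [hgu]
  have hC1 : Nat.card C = 1 := by rw [hj, hj0, pow_zero]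
  have hCbot : C = ⊥ := Subgroup.card_eq_one.mp hC1
  rw [hCbot] at huC
  exact Subgroup.mem_bot.mp huC

end Cfsg.Agent.Lib.Helper42_MX_F3
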