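import Mathlib
import Cfsg.Agent.Lib.Helper95_OPDefs
import Cfsg.Agent.Lib.Helper95_OPBasic
import Cfsg.Agent.Lib.Helper48_OODefs
import Cfsg.Agent.Lib.Helper87_OO2Defs

/-!
# S2344 package OO2-FRAME (helper42, for cutter helper87 / assembler helper48)

Action of `x_ab(s) = xr Q a b' s`, `n_ab(t) = nw Q a a' b b' t`, `h_ab(t) = hh Q a a' b b' t` on the frame
`a, a', b, b'` of two orthogonal hyperbolic pairs and on its orthogonal complement.
-/

set_option autoImplicit false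
set_option linter.unusedSimpArgs false

namespace Cfsg.Agent.Lib.Helper42_OO2_FRAME

open Module Cfsg.Agent.Lib.Helper94_OrthSmall Cfsg.Agent.Lib.Helper44_QuadClass
  Cfsg.Agent.Lib.Helper14_OmegaSimple Cfsg.Agent.Lib.Helper38_MIODefs
  Cfsg.Agent.Lib.Helper95_OPDefs Cfsg.Agent.Lib.Helper95_OPBasic Cfsg.Agent.Lib.Helper48_OODefs
  Cfsg.Agent.Lib.Helper87_OO2Defs

section partA

variable {F V : Type*} [Field F] [AddCommGroup V] [Module F V] {Q : QuadraticForm F V}

theorem xr_apply {a b' : V} (ha : Q a = 0) (hb' : Q b' = 0)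
    (hab' : QuadraticMap.polar (⇑Q) a b' = 0) (s : F) (x : V) :
    xr Q a b' s x = x + (s * QuadraticMap.polar (⇑Q) x a) • b' -
      (s * QuadraticMap.polar (⇑Q) x b') • a := by
  unfold xr
  have huz : QuadraticMap.polar (⇑Q) a (s • b') = 0 := by
    rw [QuadraticMap.polar_smul_right, hab', smul_zero]
  rw [E_apply Q ha huz x, QuadraticMap.map_smul, hb', QuadraticMap.polar_smul_right]
  simp only [smul_eq_mul, mul_zero, zero_mul, zero_smul, sub_zero]
  module

theorem polar_self_of_zero {a : V} (ha : Q a = 0) : QuadraticMap.polar (⇑Q) a a = 0 := by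
  rw [QuadraticMap.polar_self, ha, smul_zero]

/-! ### the action of `xr Q a b' s` on the frame -/

theorem xr_a {a a' b b' : V} (h : HQuad Q a a' b b') (s : F) : xr Q a b' s a = a := by
  rw [xr_apply h.pa.qa h.pb.qa' h.ab', polar_self_of_zero h.pa.qa, h.ab']
  simp

theorem xr_b' {a a' b b' : V} (h : HQuad Q a a' b b') (s : F) : xr Q a b' s b' = b' := by
  rw [xr_apply h.pa.qa h.pb.qa' h.ab', polar_self_of_zero h.pb.qa', QuadraticMap.polar_comm (⇑Q) b' a,
    h.ab']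
  simp

theorem xr_b {a a' b b' : V} (h : HQuad Q a a' b b') (s : F) : xr Q a b' s b = b - s • a := by
  rw [xr_apply h.pa.qa h.pb.qa' h.ab', QuadraticMap.polar_comm (⇑Q) b a, h.ab, h.pb.aa']
  simp

theorem xr_a' {a a' b b' : V} (h : HQuad Q a a' b b') (s : F) : xr Q a b' s a' = a' + s • b' := by
  rw [xr_apply h.pa.qa h.pb.qa' h.ab', QuadraticMap.polar_comm (⇑Q) a' a, h.pa.aa', h.a'b']
  simp

theorem xr_perp {a b' : V} (ha : Q a = 0) (hb' : Q b' = 0)
    (hab' : QuadraticMap.polar (⇑Q) a b' = 0) (s : F) (w : V)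
    (h1 : QuadraticMap.polar (⇑Q) w a = 0) (h4 : QuadraticMap.polar (⇑Q) w b' = 0) :
    xr Q a b' s w = w := by
  rw [xr_apply ha hb' hab', h1, h4]
  simp

/-! ### the action of `nw` -/

theorem nw_a {a a' b b' : V} (h : HQuad Q a a' b b') (t : F) (ht : t ≠ 0) :
    nw Q a a' b b' t a = t⁻¹ • b := by
  unfold nw
  have hs := h.symm
  rw [LinearEquiv.mul_apply, LinearEquiv.mul_apply, xr_a h, xr_b hs, map_sub, map_smul, xr_a h, xr_b h]
  simp only [smul_add, smul_sub, smul_neg, neg_smul, smul_smul, mul_neg, neg_mul, neg_neg, mul_assoc,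
    mul_inv_cancel₀ ht, inv_mul_cancel₀ ht, mul_inv_cancel_left₀ ht, inv_mul_cancel_left₀ ht, one_smul,
    mul_one, sub_neg_eq_add]
  abel

theorem nw_b {a a' b b' : V} (h : HQuad Q a a' b b') (t : F) (ht : t ≠ 0) :
    nw Q a a' b b' t b = -(t • a) := by
  unfold nw
  have hs := h.symm
  rw [LinearEquiv.mul_apply, LinearEquiv.mul_apply, xr_b h, map_sub, map_smul, xr_a hs, xr_b hs,
    map_sub, map_smul, map_sub, map_smul, xr_a h, xr_b h]
  simp only [smul_add, smul_sub, smul_neg, neg_smul, smul_smul, mul_neg, neg_mul, neg_neg, mul_assoc,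
    mul_inv_cancel₀ ht, inv_mul_cancel₀ ht, mul_inv_cancel_left₀ ht, inv_mul_cancel_left₀ ht, one_smul,
    mul_one, sub_neg_eq_add]
  abel

theorem nw_a' {a a' b b' : V} (h : HQuad Q a a' b b') (t : F) (ht : t ≠ 0) :
    nw Q a a' b b' t a' = t • b' := by
  unfold nw
  have hs := h.symm
  rw [LinearEquiv.mul_apply, LinearEquiv.mul_apply, xr_a' h, map_add, map_smul, xr_b' hs, xr_a' hs,
    map_add, map_smul, map_add, map_smul, xr_a' h, xr_b' h]
  simp only [smul_add, smul_sub, smul_neg, neg_smul, smul_smul, mul_neg, neg_mul, neg_neg, mul_assoc,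
    mul_inv_cancel₀ ht, inv_mul_cancel₀ ht, mul_inv_cancel_left₀ ht, inv_mul_cancel_left₀ ht, one_smul,
    mul_one, sub_neg_eq_add]
  abel

theorem nw_b' {a a' b b' : V} (h : HQuad Q a a' b b') (t : F) (ht : t ≠ 0) :
    nw Q a a' b b' t b' = -(t⁻¹ • a') := by
  unfold nw
  have hs := h.symm
  rw [LinearEquiv.mul_apply, LinearEquiv.mul_apply, xr_b' h, xr_a' hs, map_add, map_smul, xr_b' h,
    xr_a' h]
  simp only [smul_add, smul_sub, smul_neg, neg_smul, smul_smul, mul_neg, neg_mul, neg_neg, mul_assoc,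
    mul_inv_cancel₀ ht, inv_mul_cancel₀ ht, mul_inv_cancel_left₀ ht, inv_mul_cancel_left₀ ht, one_smul,
    mul_one, sub_neg_eq_add]
  abel

theorem nw_perp {a a' b b' : V} (h : HQuad Q a a' b b') (t : F) (w : V)
    (h1 : QuadraticMap.polar (⇑Q) w a = 0) (h2 : QuadraticMap.polar (⇑Q) w a' = 0)
    (h3 : QuadraticMap.polar (⇑Q) w b = 0) (h4 : QuadraticMap.polar (⇑Q) w b' = 0) :
    nw Q a a' b b' t w = w := by
  unfold nw
  have hs := h.symm
  rw [LinearEquiv.mul_apply, LinearEquiv.mul_apply, xr_perp h.pa.qa h.pb.qa' h.ab' t w h1 h4,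
    xr_perp hs.pa.qa hs.pb.qa' hs.ab' _ w h3 h2, xr_perp h.pa.qa h.pb.qa' h.ab' t w h1 h4]

/-! ### the action of `hh` -/

theorem inv_apply_eq_of_apply_eq (g : V ≃ₗ[F] V) {x y : V} (h : g x = y) : g⁻¹ y = x := by
  rw [← h, ← LinearEquiv.mul_apply, inv_mul_cancel]
  rfl

theorem hh_a {a a' b b' : V} (h : HQuad Q a a' b b') (t : F) (ht : t ≠ 0) :
    hh Q a a' b b' t a = t • a := by
  unfold hh
  have h1 : nw Q a a' b b' 1 (-b) = a := by
    rw [map_neg, nw_b h 1 one_ne_zero, one_smul, neg_neg]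
  rw [LinearEquiv.mul_apply, inv_apply_eq_of_apply_eq _ h1, map_neg, nw_b h t ht, neg_neg]

theorem hh_b {a a' b b' : V} (h : HQuad Q a a' b b') (t : F) (ht : t ≠ 0) :
    hh Q a a' b b' t b = t⁻¹ • b := by
  unfold hh
  have h1 : nw Q a a' b b' 1 a = b := by
    rw [nw_a h 1 one_ne_zero, inv_one, one_smul]
  rw [LinearEquiv.mul_apply, inv_apply_eq_of_apply_eq _ h1, nw_a h t ht]

theorem hh_a' {a a' b b' : V} (h : HQuad Q a a' b b') (t : F) (ht : t ≠ 0) :
    hh Q a a' b b' t a' = t⁻¹ • a' := by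
  unfold hh
  have h1 : nw Q a a' b b' 1 (-b') = a' := by
    rw [map_neg, nw_b' h 1 one_ne_zero, inv_one, one_smul, neg_neg]
  rw [LinearEquiv.mul_apply, inv_apply_eq_of_apply_eq _ h1, map_neg, nw_b' h t ht, neg_neg]

theorem hh_b' {a a' b b' : V} (h : HQuad Q a a' b b') (t : F) (ht : t ≠ 0) :
    hh Q a a' b b' t b' = t • b' := by
  unfold hh
  have h1 : nw Q a a' b b' 1 a' = b' := by
    rw [nw_a' h 1 one_ne_zero, one_smul]
  rw [LinearEquiv.mul_apply, inv_apply_eq_of_apply_eq _ h1, nw_a' h t ht]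

theorem hh_perp {a a' b b' : V} (h : HQuad Q a a' b b') (t : F) (w : V)
    (h1 : QuadraticMap.polar (⇑Q) w a = 0) (h2 : QuadraticMap.polar (⇑Q) w a' = 0)
    (h3 : QuadraticMap.polar (⇑Q) w b = 0) (h4 : QuadraticMap.polar (⇑Q) w b' = 0) :
    hh Q a a' b b' t w = w := by
  unfold hh
  rw [LinearEquiv.mul_apply, inv_apply_eq_of_apply_eq _ (nw_perp h 1 w h1 h2 h3 h4),
    nw_perp h t w h1 h2 h3 h4]

end partA

end Cfsg.Agent.Lib.Helper42_OO2_FRAME
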