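import Mathlib

/-!
# Element orders of direct powers: regrouping lemma (helper42)

`regroup`: if in a group `L` every element of odd prime power order `r^a` has `r^a ∣ 2^d - 1` for
some `n/2 < d ≤ n`, and `L` has elements of order `2^d - 1` for all such `d`, then every element
order of `L^k` is an element order of `L^((n+3)/2)`.
-/

namespace Cfsg.Agent.Helper42OmegaPow

theorem orderOf_pi_dvd_iff {ι : Type*} {L : Type*} [Group L] (f : ι → L) (N : ℕ) :
    orderOf f ∣ N ↔ ∀ i, orderOf (f i) ∣ N := by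
  rw [orderOf_dvd_iff_pow_eq_one]
  constructor
  · intro h i
    rw [orderOf_dvd_iff_pow_eq_one]
    have := congrFun h i
    simpa using this
  · intro h
    funext i
    simp only [Pi.pow_apply, Pi.one_apply]
    exact orderOf_dvd_iff_pow_eq_one.1 (h i)

theorem eq_of_dvd_iff {a b : ℕ} (h : ∀ N, a ∣ N ↔ b ∣ N) : a = b :=
  Nat.dvd_antisymm ((h b).2 dvd_rfl) ((h a).1 dvd_rfl)

theorem orderOf_pow_div {L : Type*} [Group L] (x : L) (hx : 0 < orderOf x) (c : ℕ)
    (hc : c ∣ orderOf x) : orderOf (x ^ (orderOf x / c)) = c := by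
  have hc0 : 0 < c := Nat.pos_of_dvd_of_pos hc hx
  have h1 : orderOf x / c ∣ orderOf x := Nat.div_dvd_of_dvd hc
  have h2 : orderOf x / c ≠ 0 := by
    intro h
    rw [Nat.div_eq_zero_iff] at h
    rcases h with h | h
    · omega
    · exact absurd (Nat.le_of_dvd hx hc) (not_le.2 h)
  rw [orderOf_pow_of_dvd h2 h1]
  exact Nat.div_div_self hc hx.ne'

theorem regroup {L : Type*} [Group L] [Finite L] (n : ℕ)
    (hA : ∀ h : L, ∀ r a : ℕ, r.Prime → r ≠ 2 → 0 < a → orderOf h = r ^ a →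
      ∃ d, n / 2 < d ∧ d ≤ n ∧ r ^ a ∣ 2 ^ d - 1)
    (hB : ∀ d, n / 2 < d → d ≤ n → ∃ g : L, orderOf g = 2 ^ d - 1)
    (k : ℕ) (hk : 0 < k) (f : Fin k → L) :
    ∃ g : Fin ((n + 3) / 2) → L, orderOf g = orderOf f := by
  classical
  have hpos : ∀ x : L, 0 < orderOf x := fun x => orderOf_pos x
  set m := orderOf f with hm
  have hfm : ∀ i, orderOf (f i) ∣ m := (orderOf_pi_dvd_iff f m).1 dvd_rfl
  -- 2-part
  obtain ⟨i0, -, hi0⟩ := Finset.exists_max_image Finset.univ
    (fun i : Fin k => (orderOf (f i)).factorization 2) ⟨⟨0, hk⟩, Finset.mem_univ _⟩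
  set t := (orderOf (f i0)).factorization 2 with ht
  have h2t : 2 ^ t ∣ orderOf (f i0) := Nat.ordProj_dvd _ _
  set y := (f i0) ^ (orderOf (f i0) / 2 ^ t) with hy
  have hyo : orderOf y = 2 ^ t := orderOf_pow_div _ (hpos _) _ h2t
  -- odd parts
  have hxs : ∀ d, ∃ x : L, n / 2 < d → d ≤ n → orderOf x = Nat.gcd m (2 ^ d - 1) := by
    intro d
    by_cases h : n / 2 < d ∧ d ≤ n
    · obtain ⟨s, hs⟩ := hB d h.1 h.2
      refine ⟨s ^ (orderOf s / Nat.gcd m (2 ^ d - 1)), fun _ _ => ?_⟩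
      apply orderOf_pow_div _ (hpos _)
      rw [hs]
      exact Nat.gcd_dvd_right _ _
    · exact ⟨1, fun h1 h2 => absurd ⟨h1, h2⟩ h⟩
  choose xs hxs using hxs
  refine ⟨fun i => if i.val = 0 then y else xs (n / 2 + i.val), ?_⟩
  apply eq_of_dvd_iff
  intro N
  rw [orderOf_pi_dvd_iff]
  constructor
  · intro hN
    rw [hm, orderOf_pi_dvd_iff]
    intro i
    rw [Nat.dvd_iff_prime_pow_dvd_dvd]
    intro p c hp hpc
    rcases Nat.eq_zero_or_pos c with hc | hc
    · subst hc; simp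
    by_cases hp2 : p = 2
    · subst hp2
      have h1 : c ≤ (orderOf (f i)).factorization 2 :=
        (hp.pow_dvd_iff_le_factorization (hpos _).ne').1 hpc
      have h2 : c ≤ t := h1.trans (hi0 i (Finset.mem_univ _))
      have h3 := hN ⟨0, by omega⟩
      simp only [if_true] at h3
      rw [hyo] at h3
      exact (pow_dvd_pow 2 h2).trans h3
    · have hho : orderOf ((f i) ^ (orderOf (f i) / p ^ c)) = p ^ c :=
        orderOf_pow_div _ (hpos _) _ hpc
      obtain ⟨d, hd1, hd2, hd3⟩ := hA _ p c hp hp2 hc hho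
      have h1 : p ^ c ∣ Nat.gcd m (2 ^ d - 1) := Nat.dvd_gcd (hpc.trans (hfm i)) hd3
      have h3 := hN ⟨d - n / 2, by omega⟩
      have h4 : ¬ (d - n / 2 = 0) := by omega
      simp only [h4, if_false] at h3
      have h5 : n / 2 + (d - n / 2) = d := by omega
      rw [h5, hxs d hd1 hd2] at h3
      exact h1.trans h3
  · intro hN i
    by_cases hi : i.val = 0
    · simp only [hi, if_true]
      rw [hyo]
      exact (h2t.trans (hfm i0)).trans hN
    · simp only [hi, if_false]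
      have h1 : n / 2 < n / 2 + i.val := by omega
      have h2 : n / 2 + i.val ≤ n := by
        have := i.isLt
        omega
      rw [hxs _ h1 h2]
      exact (Nat.gcd_dvd_left _ _).trans hN

/-- The spectrum of `L^k` stabilises at `k₀ = (n+3)/2`. -/
theorem range_eq {L : Type*} [Group L] [Finite L] (n : ℕ)
    (hA : ∀ h : L, ∀ r a : ℕ, r.Prime → r ≠ 2 → 0 < a → orderOf h = r ^ a →
      ∃ d, n / 2 < d ∧ d ≤ n ∧ r ^ a ∣ 2 ^ d - 1)
    (hB : ∀ d, n / 2 < d → d ≤ n → ∃ g : L, orderOf g = 2 ^ d - 1)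
    (k : ℕ) (hk : (n + 3) / 2 ≤ k) :
    Set.range (orderOf : (Fin k → L) → ℕ) = Set.range (orderOf : (Fin ((n + 3) / 2) → L) → ℕ) := by
  classical
  apply Set.eq_of_subset_of_subset
  · rintro _ ⟨f, rfl⟩
    have hk0 : 0 < k := by omega
    obtain ⟨g, hg⟩ := regroup n hA hB k hk0 f
    exact ⟨g, hg⟩
  · rintro _ ⟨g, rfl⟩
    refine ⟨fun i => if h : i.val < (n + 3) / 2 then g ⟨i.val, h⟩ else 1, ?_⟩
    apply eq_of_dvd_iff
    intro N
    rw [orderOf_pi_dvd_iff, orderOf_pi_dvd_iff]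
    constructor
    · intro h j
      have := h ⟨j.val, lt_of_lt_of_le j.isLt hk⟩
      simpa using this
    · intro h i
      by_cases hi : i.val < (n + 3) / 2
      · simp only [hi, dif_pos]
        exact h _
      · simp only [hi, dif_neg, not_false_eq_true, orderOf_one, one_dvd]

end Cfsg.Agent.Helper42OmegaPow
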