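/-
helper42: package PL2 of helper85's row `Ω₁₂⁺(q)` (S5871):
in a plus-type space of dimension `2k`, `k` even, a non-degenerate `k`-space `W` and `W^⊥` form an isometric orthogonal
decomposition, preserved by the isometries fixing `W`.
-/
import Mathlib
import Cfsg.Prelude.Def_GeometricClasses
import Cfsg.Agent.Lib.Helper22_OrthEven_Basic
import Cfsg.Agent.Lib.Helper85_OrthEven_EV5
import Cfsg.Agent.Lib.Helper43_OrthTS_OQ2
import Cfsg.Agent.Lib.Helper29_OrthOddDefs

set_option autoImplicit false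

namespace Cfsg.Agent.Lib.Helper42_OrthEven_PL2

open Cfsg Cfsg.Geo Matrix Module
open Cfsg.Agent.Lib.Helper22_OrthEven_Basic
  Cfsg.Agent.Lib.Helper85_OrthEven_EV5 Cfsg.Agent.Lib.Helper43_OrthTS_OQ2
  Cfsg.Agent.Lib.Helper40_QuadIso Cfsg.Agent.Lib.Helper40_QuadStd Cfsg.Agent.Lib.Helper99_OrthTSDefs
  Cfsg.Agent.Lib.Helper40_OConj Cfsg.Agent.Lib.Helper40_SpBasic Cfsg.Agent.Lib.Helper94_OrthGenBridge
  Cfsg.Agent.Lib.Helper29_OrthOddDefs

universe u

section iso

variable {F : Type u} [Field F] [Fintype F]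
variable {V₁ V₂ : Type u} [AddCommGroup V₁] [Module F V₁] [FiniteDimensional F V₁]
  [AddCommGroup V₂] [Module F V₂] [FiniteDimensional F V₂]

/-- two non-degenerate quadratic spaces of the same even dimension and the same type are isometric -/
theorem iso_of_same_type (j : ℕ) (hj : 1 ≤ j) (h₁ : finrank F V₁ = 2 * j) (h₂ : finrank F V₂ = 2 * j)
    (Q₁ : QuadraticForm F V₁) (Q₂ : QuadraticForm F V₂)
    (hQ₁ : (QuadraticMap.polarBilin Q₁).Nondegenerate) (hQ₂ : (QuadraticMap.polarBilin Q₂).Nondegenerate)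
    (h : IsHyp Q₁ ↔ IsHyp Q₂) : Iso Q₁ Q₂ := by
  obtain ⟨ζ, hζ⟩ := exists_aniso (F := F)
  by_cases hh : IsHyp Q₁
  · exact (iso_plus_of_isHyp j hj h₁ Q₁ hQ₁ hh).trans (iso_plus_of_isHyp j hj h₂ Q₂ hQ₂ (h.1 hh)).symm
  · exact (iso_minus_of_not_isHyp j hj h₁ Q₁ hQ₁ hh 1 ζ hζ).trans
      (iso_minus_of_not_isHyp j hj h₂ Q₂ hQ₂ (fun h' => hh (h.2 h')) 1 ζ hζ).symm

end iso

variable {ι : Type} [Fintype ι] [DecidableEq ι] {F : Type u} [Field F]

/-! the next three lemmas are verbatim copies of `Helper22_OrthEven_Row10.isometric_refl / isometric_symm / two_decomp`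
(copied to keep the import closure of this file small) -/

omit [Fintype ι] [DecidableEq ι] in
lemma isometric_refl (Q : (ι → F) → F) (W : Submodule F (ι → F)) : AreIsometricFor Q W W :=
  ⟨LinearEquiv.refl F W, fun _ => rfl⟩

omit [Fintype ι] [DecidableEq ι] in
lemma isometric_symm (Q : (ι → F) → F) {W W' : Submodule F (ι → F)} (h : AreIsometricFor Q W W') :
    AreIsometricFor Q W' W := by
  obtain ⟨e, he⟩ := h
  refine ⟨e.symm, fun w => ?_⟩
  have := he (e.symm w)
  rw [LinearEquiv.apply_symm_apply] at this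
  exact this.symm

/-- two complementary, mutually orthogonal non-degenerate subspaces of the same dimension form a non-degenerate
decomposition, stabilised by whatever stabilises both -/
lemma two_decomp (f : (ι → F) → (ι → F) → F) (k : ℕ) (hk : 0 < k) (W W' : Submodule F (ι → F))
    (hinf : W ⊓ W' = ⊥) (hsup : W ⊔ W' = ⊤) (hW : IsNondegenerateOn f W) (hW' : IsNondegenerateOn f W')
    (ho : AreOrthogonalFor f W W') (ho' : AreOrthogonalFor f W' W)
    (hd : Module.finrank F W = k) (hd' : Module.finrank F W' = k) :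
    IsNondegenerateMDecomposition f k ![W, W'] ∧
      subspaceStabilizer W ⊓ subspaceStabilizer W' ≤ decompositionStabilizer ![W, W'] := by
  refine ⟨⟨⟨le_rfl, hk, ?_, ?_, ?_⟩, ?_, ?_⟩, ?_⟩
  · intro i
    fin_cases i
    · exact hd
    · exact hd'
  · rw [iSupIndep_pair (i := (0 : Fin 2)) (j := 1) (by decide) (by intro k; fin_cases k <;> simp)]
    exact disjoint_iff.mpr hinf
  · rw [← hsup]
    apply le_antisymm
    · apply iSup_le
      intro i
      fin_cases i
      · exact le_sup_left
      · exact le_sup_right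
    · exact sup_le (le_iSup (![W, W']) 0) (le_iSup (![W, W']) 1)
  · intro i
    fin_cases i
    · exact hW
    · exact hW'
  · intro i j hij
    fin_cases i <;> fin_cases j
    · exact absurd rfl hij
    · exact ho
    · exact ho'
    · exact absurd rfl hij
  · intro g hg
    refine ⟨1, fun i => ?_⟩
    have key : ∀ U : Submodule F (ι → F), g ∈ subspaceStabilizer U →
        U.map (Matrix.toLin' (g : Matrix ι ι F)) = U := by
      intro U hU
      rw [mem_subspaceStabilizer_iff] at hU
      ext v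
      constructor
      · rintro ⟨u, hu, rfl⟩
        rw [Matrix.toLin'_apply]
        exact (hU u).mp hu
      · intro hv
        refine ⟨((g⁻¹ : GL ι F) : Matrix ι ι F) *ᵥ v, ?_, ?_⟩
        · rw [SetLike.mem_coe, hU, Matrix.mulVec_mulVec, ← Units.val_mul, mul_inv_cancel, Units.val_one,
            Matrix.one_mulVec]
          exact hv
        · rw [Matrix.toLin'_apply, Matrix.mulVec_mulVec, ← Units.val_mul, mul_inv_cancel, Units.val_one,
            Matrix.one_mulVec]
    fin_cases i
    · exact key W hg.1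
    · exact key W' hg.2


/-- PL2: in a plus-type space of dimension `2k`, `k` even, a non-degenerate `k`-space and its orthogonal complement form
an isometric orthogonal decomposition, preserved by the isometries fixing the `k`-space -/
theorem PL2 [Fintype F] (Q : (ι → F) → F) (hQ : IsNondegenerateQuadraticForm Q) (hplus : IsPlusTypeOn Q ⊤)
    (k : ℕ) (hk : Even k) (hk0 : 0 < k) (hcard : Fintype.card ι = 2 * k)
    (W : Submodule F (ι → F)) (hdim : Module.finrank F W = k)
    (hW : IsNondegenerateOn (QuadraticMap.polar Q) W) :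
    ∃ D : Fin 2 → Submodule F (ι → F), IsOrthogonalMDecomposition Q k D ∧
      subspaceStabilizer W ⊓ isometryGroup F Q ≤ decompositionStabilizer D := by
  classical
  have hb := hQ.polar_bilinear
  have hsymm : ∀ u v, QuadraticMap.polar Q u v = QuadraticMap.polar Q v u :=
    fun u v => QuadraticMap.polar_comm Q u v
  obtain ⟨Qf, hQf⟩ : ∃ Qf : QuadraticForm F (ι → F), Qf = qfOf Q hQ := ⟨_, rfl⟩
  have hpol : ∀ u v, pol Qf u v = QuadraticMap.polar Q u v := by
    intro u v; rw [hQf]; rfl
  -- the orthogonal complement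
  obtain ⟨W', hW'def⟩ : ∃ W' : Submodule F (ι → F), W' = perpSub Qf W := ⟨_, rfl⟩
  have hmemW' : ∀ v, v ∈ W' ↔ ∀ u ∈ W, QuadraticMap.polar Q u v = 0 := by
    intro v
    rw [hW'def, mem_perpSub]
    constructor
    · intro h u hu; rw [← hpol]; exact h u hu
    · intro h u hu; rw [hpol]; exact h u hu
  have hinf : W ⊓ W' = ⊥ := by
    rw [eq_bot_iff]
    rintro x ⟨hxW, hxW'⟩
    rw [Submodule.mem_bot]
    by_contra hx0
    obtain ⟨y, hy, hy1⟩ := (hW x hxW hx0).1
    exact hy1 ((hmemW' x).1 hxW' y hy)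
  obtain ⟨B, hBdef⟩ : ∃ B : LinearMap.BilinForm F (ι → F), B = polarBil Q hQ := ⟨_, rfl⟩
  have hBa : ∀ u v, B u v = QuadraticMap.polar Q u v := fun u v => by rw [hBdef]; rfl
  have hBnd : B.Nondegenerate := by
    refine ⟨?_, ?_⟩
    · intro x hx
      by_contra hx0
      obtain ⟨y, hy⟩ := (hQ.nondegenerate x hx0).2
      exact hy (by rw [← hBa]; exact hx y)
    · intro x hx
      by_contra hx0
      obtain ⟨y, hy⟩ := (hQ.nondegenerate x hx0).1
      exact hy (by rw [← hBa]; exact hx y)
  have hW'orth : W' = B.orthogonal W := by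
    ext v
    rw [hmemW', LinearMap.BilinForm.mem_orthogonal_iff]
    constructor
    · intro h n hn
      change B n v = 0
      rw [hBa]; exact h n hn
    · intro h u hu
      have := h u hu
      change B u v = 0 at this
      rw [← hBa]; exact this
  have hdim' : finrank F W' = k := by
    rw [hW'orth, LinearMap.BilinForm.finrank_orthogonal hBnd, Module.finrank_fintype_fun_eq_card, hcard, hdim]
    omega
  have hsup : W ⊔ W' = ⊤ := by
    apply Submodule.eq_top_of_finrank_eq
    have h := Submodule.finrank_sup_add_finrank_inf_eq W W'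
    rw [hinf, finrank_bot, add_zero, hdim, hdim'] at h
    rw [h, Module.finrank_fintype_fun_eq_card, hcard]
    ring
  have horth : ∀ u ∈ W, ∀ v ∈ W', QuadraticMap.polar Q u v = 0 := fun u hu v hv => (hmemW' v).1 hv u hu
  have hW'nd : IsNondegenerateOn (QuadraticMap.polar Q) W' := by
    intro w hw hw0
    obtain ⟨y, hy⟩ := (hQ.nondegenerate w hw0).1
    have hytop : y ∈ W ⊔ W' := by rw [hsup]; exact Submodule.mem_top
    obtain ⟨a, ha, b, hbW', rfl⟩ := Submodule.mem_sup.1 hytop
    rw [hb.add_left, horth a ha w hw, zero_add] at hy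
    exact ⟨⟨b, hbW', hy⟩, ⟨b, hbW', by rw [hsymm]; exact hy⟩⟩
  -- types
  have hndW : NDOn (pol Qf) W := by rw [hQf]; exact ndOn_of_geo Q hQ W hW
  have hndW' : NDOn (pol Qf) W' := by rw [hQf]; exact ndOn_of_geo Q hQ W' hW'nd
  have horth' : ∀ u ∈ W, ∀ v ∈ W', pol Qf u v = 0 := by
    intro u hu v hv; rw [hpol]; exact horth u hu v hv
  have htop : OHypOn Qf (⊤ : Submodule F (ι → F)) := by
    rw [hQf]; exact oHypOn_of_isPlusTypeOn Q hQ hplus
  have htype : OHypOn Qf W ↔ OHypOn Qf W' := by
    have h := OQ2 (Q := Qf) hndW hndW' horth' (by rw [hdim]; exact hk) (by rw [hdim']; exact hk)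
    rw [hsup] at h
    exact h.1 htop
  obtain ⟨j, hj⟩ := hk
  have hj1 : 1 ≤ j := by omega
  have hiso : Iso (resQ Qf W) (resQ Qf W') := by
    apply iso_of_same_type j hj1 (by rw [hdim, hj]; ring) (by rw [hdim', hj]; ring) _ _
      (nondegenerate_resQ hndW) (nondegenerate_resQ hndW')
    rw [← oHypOn_iff_isHyp, ← oHypOn_iff_isHyp]
    exact htype
  have hisoWW' : AreIsometricFor Q W W' := by
    obtain ⟨φ, hφ⟩ := hiso
    refine ⟨φ, fun w => ?_⟩
    have := hφ w
    rw [hQf] at this
    exact this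
  -- the decomposition
  obtain ⟨hdec, hstab⟩ := two_decomp (QuadraticMap.polar Q) k hk0 W W' hinf hsup hW hW'nd horth
    (fun u hu v hv => by rw [hsymm]; exact horth v hv u hu) hdim hdim'
  refine ⟨![W, W'], ⟨hdec, ?_⟩, ?_⟩
  · intro i j
    fin_cases i <;> fin_cases j
    · exact isometric_refl Q W
    · exact hisoWW'
    · exact isometric_symm Q hisoWW'
    · exact isometric_refl Q W'
  · intro g hg
    apply hstab
    have hgW := (mem_subspaceStabilizer_iff W g).1 hg.1
    refine ⟨hg.1, (mem_subspaceStabilizer_iff W' g).2 ?_⟩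
    intro v
    rw [hmemW', hmemW']
    constructor
    · intro h u hu
      have hu' : ((g⁻¹ : GL ι F) : Matrix ι ι F) *ᵥ u ∈ W := by
        rw [hgW, Matrix.mulVec_mulVec, ← Units.val_mul, mul_inv_cancel, Units.val_one, Matrix.one_mulVec]
        exact hu
      have h1 := polar_mulVec_of_mem Q hg.2 (((g⁻¹ : GL ι F) : Matrix ι ι F) *ᵥ u) v
      rw [Matrix.mulVec_mulVec, ← Units.val_mul, mul_inv_cancel, Units.val_one, Matrix.one_mulVec] at h1
      rw [h1]
      exact h _ hu'
    · intro h u hu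
      rw [← polar_mulVec_of_mem Q hg.2 u v]
      exact h _ ((hgW u).1 hu)

end Cfsg.Agent.Lib.Helper42_OrthEven_PL2
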