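import Mathlib
import Cfsg.Prelude.Def_Characters
import Cfsg.Prelude.Def_Blocks
import Cfsg.Agent.Lib.Helper3_P2Defs
import Cfsg.Agent.Lib.Helper16_GenSetup
import Cfsg.Agent.Lib.Helper3_CharEigen

/-!
# S4705 package P2-LOC3A (helper42, for architect helper3)

If `‖ζ v‖ = ‖ζ 1‖` on the `p`-complement `V` of `C_G(P)` (`ζ` faithful irreducible, `P` of order `p`
not normal) then `V = Z(G)`.
-/

set_option autoImplicit false
set_option linter.unusedSectionVars false
set_option linter.unusedVariables false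

namespace Cfsg.Agent.Lib.Helper42_P2_LOC3A

open Cfsg Cfsg.Agent.Lib.Helper3_P2Defs Cfsg.Agent.Lib.Helper16_GenSetup
open scoped ComplexConjugate

universe u

/-- An element on which a faithful irreducible character has absolute value the degree is central
(same proof as `Helper16_SmallDeg.mem_center_of_norm_eq`, repeated here to keep the imports light). -/
theorem mem_center_of_norm_eq' {G : Type*} [Group G] [Finite G] (z : IrrCharacter G)
    (hfaith : ∀ g : G, (z : G → ℂ) g = (z : G → ℂ) 1 → g = 1) (y : G)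
    (hy : ‖(z : G → ℂ) y‖ = ‖(z : G → ℂ) 1‖) : y ∈ Subgroup.center G := by
  obtain ⟨n, ρ, hirr, hρ⟩ := z.2
  have h1 : ρ.character 1 = (Module.finrank ℂ (Fin n → ℂ) : ℂ) := Representation.char_one ρ
  have h2 : ‖ρ.character y‖ = (Module.finrank ℂ (Fin n → ℂ) : ℝ) := by
    rw [hρ, hy, ← hρ, h1]
    simp
  obtain ⟨ω, hω⟩ := (Cfsg.Agent.Lib.Helper3_CharEigen.norm_char_eq_iff ρ y).mp h2
  rw [Subgroup.mem_center_iff]
  intro g
  have h3 : ρ (g * y * g⁻¹ * y⁻¹) = 1 := by
    have hy1 : ρ y * ρ y⁻¹ = 1 := by rw [← map_mul, mul_inv_cancel, map_one]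
    have hg1 : ρ g * ρ g⁻¹ = 1 := by rw [← map_mul, mul_inv_cancel, map_one]
    rw [map_mul, map_mul, map_mul]
    have hc : ρ g * ρ y = ρ y * ρ g := by
      rw [hω]
      ext v
      simp
    rw [hc, mul_assoc (ρ y), hg1, mul_one, hy1]
  have h4 : (z : G → ℂ) (g * y * g⁻¹ * y⁻¹) = (z : G → ℂ) 1 := by
    rw [← hρ]
    show LinearMap.trace ℂ (Fin n → ℂ) (ρ (g * y * g⁻¹ * y⁻¹)) = LinearMap.trace ℂ (Fin n → ℂ) (ρ 1)
    rw [h3, (map_one ρ : ρ 1 = 1)]
  have h5 := hfaith _ h4
  have : g * y = (g * y * g⁻¹ * y⁻¹) * (y * g) := by group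
  rw [this, h5, one_mul]

section partA2

variable {G : Type u} [Group G] [Finite G] {p : ℕ} [hp : Fact p.Prime] {P : Sylow p G}
  {V : Subgroup G} {ζ : G → ℂ}

/-- the centre of `G` is a `p'`-group when the Sylow `p`-subgroup `P` of order `p` is not normal -/
theorem not_dvd_orderOf_of_mem_center (hP : Nat.card P = p) (hnn : ¬ (P : Subgroup G).Normal)
    {w : G} (hw : w ∈ Subgroup.center G) : ¬ p ∣ orderOf w := by
  intro hdvd
  have hpp : p.Prime := hp.out
  -- an element of order `p` in the centre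
  have hdvd' : p ∣ Nat.card (Subgroup.center G) := by
    have h1 : orderOf (⟨w, hw⟩ : Subgroup.center G) = orderOf w := Subgroup.orderOf_mk w hw
    exact dvd_trans hdvd (h1 ▸ orderOf_dvd_natCard _)
  obtain ⟨x, hx⟩ := exists_prime_orderOf_dvd_card' p hdvd'
  have hx' : orderOf (x : G) = p := by rw [Subgroup.orderOf_coe]; exact hx
  -- `⟨x⟩` is a normal subgroup of order `p`
  have hnormal : (Subgroup.zpowers (x : G)).Normal := by
    constructor
    intro n hn g
    obtain ⟨k, rfl⟩ := Subgroup.mem_zpowers_iff.mp hn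
    have hc : (x : G) ^ k ∈ Subgroup.center G := Subgroup.zpow_mem _ x.2 k
    have : g * (x : G) ^ k * g⁻¹ = (x : G) ^ k := by
      rw [(Subgroup.mem_center_iff.mp hc g), mul_assoc, mul_inv_cancel, mul_one]
    rw [this]
    exact hn
  have hpg : IsPGroup p (Subgroup.zpowers (x : G)) := by
    rw [IsPGroup.iff_card]
    exact ⟨1, by rw [Nat.card_zpowers, hx', pow_one]⟩
  obtain ⟨Q, hQ⟩ := hpg.exists_le_sylow
  have hcardQ : Nat.card (Q : Subgroup G) = p := by
    have h1 := Q.card_eq_multiplicity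
    have h2 := P.card_eq_multiplicity
    rw [h1, ← h2]
    exact hP
  have hQeq : Subgroup.zpowers (x : G) = (Q : Subgroup G) := by
    apply Subgroup.eq_of_le_of_card_ge hQ
    rw [hcardQ, Nat.card_zpowers, hx']
  have hQn : (Q : Subgroup G).Normal := hQeq ▸ hnormal
  obtain ⟨g, hg⟩ := MulAction.exists_smul_eq G Q P
  have hgQ : g • Q = Q := Sylow.smul_eq_of_normal
  apply hnn
  rw [← hg, hgQ]
  exact hQn

/-- **P2-LOC3A** (S/M).  `V ≤ Z(G)` by `Helper16_SmallDeg.mem_center_of_norm_eq`; `Z(G) ≤ C_G(P)` is a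
`p'`-group (an element of order `p` in `Z(G)` generates a normal Sylow subgroup `= P`), so `Z(G) ≤ V`
by `hV.reg`. -/
theorem loc3a (h : Hyp G p P ζ) (hV : IsPCompl P V) (hnorm : ∀ v ∈ V, ‖ζ v‖ = ‖ζ 1‖) :
    V = Subgroup.center G := by
  apply le_antisymm
  · intro v hv
    exact mem_center_of_norm_eq' ⟨ζ, h.irr⟩ h.faith v (hnorm v hv)
  · intro w hw
    apply hV.reg w
    · exact Subgroup.center_le_centralizer _ hw
    · exact not_dvd_orderOf_of_mem_center h.cardP h.nn hw

end partA2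

end Cfsg.Agent.Lib.Helper42_P2_LOC3A
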