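import Mathlib
import Cfsg.Agent.S3377
import Cfsg.Agent.Lib.Helper42_SL2Class
import Cfsg.Agent.Lib.Helper42_PSL2Klein
import Cfsg.Agent.Lib.Helper42_KleinConj

set_option autoImplicit false

/-!
Two distinct subgroups of `PSL₂(ZMod 11)` isomorphic to `A₅` sharing a Klein four-subgroup.
-/

namespace Cfsg.Agent.Lib.Helper42_PSL211Ex

open Matrix Cfsg.Agent.Lib.Helper42_SL2Class Cfsg.Agent.Lib.Helper42_PSL2Klein
open Cfsg.Agent.Lib.Helper42_KleinCount

/-- von Dyck: elements satisfying the `(3,5,2)` relations with `g₁ ≠ 1` generate a copy of `A₅` -/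
theorem exists_A5_of_rel {G : Type*} [Group G] (g₀ g₁ : G) (r0 : g₀ ^ 3 = 1) (r1 : g₁ ^ 5 = 1)
    (r2 : (g₀ * g₁) ^ 2 = 1) (hg1ne : g₁ ≠ 1) :
    ∃ φ : alternatingGroup (Fin 5) →* G, Function.Injective φ ∧ g₀ ∈ φ.range ∧ g₁ ∈ φ.range := by
  obtain ⟨e⟩ := Cfsg.Agent.S3377.result
  let f : Fin 2 → G := ![g₀, g₁]
  have hrel : ∀ r ∈ ({FreeGroup.of (0 : Fin 2) ^ 3, FreeGroup.of (1 : Fin 2) ^ 5,
      (FreeGroup.of (0 : Fin 2) * FreeGroup.of 1) ^ 2} : Set (FreeGroup (Fin 2))),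
      FreeGroup.lift f r = 1 := by
    intro r hr
    simp only [Set.mem_insert_iff, Set.mem_singleton_iff] at hr
    rcases hr with rfl | rfl | rfl
    · rw [map_pow, FreeGroup.lift_apply_of]; exact r0
    · rw [map_pow, FreeGroup.lift_apply_of]; exact r1
    · rw [map_pow, map_mul, FreeGroup.lift_apply_of, FreeGroup.lift_apply_of]; exact r2
  let ψ := PresentedGroup.toGroup hrel
  let φ : alternatingGroup (Fin 5) →* G := ψ.comp e.symm.toMonoidHom
  have h0 : φ (e (PresentedGroup.of (0 : Fin 2))) = g₀ := by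
    show ψ (e.symm (e (PresentedGroup.of (0 : Fin 2)))) = g₀
    rw [MulEquiv.symm_apply_apply]
    show PresentedGroup.toGroup hrel (PresentedGroup.of (0 : Fin 2)) = g₀
    rw [PresentedGroup.toGroup.of]
    rfl
  have h1 : φ (e (PresentedGroup.of (1 : Fin 2))) = g₁ := by
    show ψ (e.symm (e (PresentedGroup.of (1 : Fin 2)))) = g₁
    rw [MulEquiv.symm_apply_apply]
    show PresentedGroup.toGroup hrel (PresentedGroup.of (1 : Fin 2)) = g₁
    rw [PresentedGroup.toGroup.of]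
    rfl
  have hinj : Function.Injective φ := by
    rw [← MonoidHom.ker_eq_bot_iff]
    have : IsSimpleGroup (alternatingGroup (Fin 5)) := alternatingGroup.isSimpleGroup (by simp)
    rcases (MonoidHom.normal_ker φ).eq_bot_or_eq_top with h | h
    · exact h
    · exfalso
      apply hg1ne
      have hx : e (PresentedGroup.of (1 : Fin 2)) ∈ φ.ker := by rw [h]; trivial
      rw [MonoidHom.mem_ker] at hx
      rw [← h1, hx]
  exact ⟨φ, hinj, ⟨_, h0⟩, ⟨_, h1⟩⟩

set_option maxRecDepth 100000 in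
/-- `A₅` has no element of order six -/
theorem perm5_no_order_six : ∀ x : Equiv.Perm (Fin 5), Equiv.Perm.sign x = 1 →
    x * x * x * x * x * x = 1 → x * x = 1 ∨ x * x * x = 1 := by decide

instance fact11 : Fact (Nat.Prime 11) := ⟨by norm_num⟩

abbrev S11 := Matrix.SpecialLinearGroup (Fin 2) (ZMod 11)
abbrev P11 := Matrix.ProjectiveSpecialLinearGroup (Fin 2) (ZMod 11)

def X1 : S11 := ⟨!![2,10;7,8], by decide⟩
def Y1 : S11 := ⟨!![0,4;8,3], by decide⟩
def X2 : S11 := ⟨!![2,4;1,8], by decide⟩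
def Y2 : S11 := ⟨!![0,3;7,3], by decide⟩
def A0 : S11 := ⟨!![5,10;4,6], by decide⟩
def C0 : S11 := ⟨!![5,7;1,6], by decide⟩
def W0 : S11 := ⟨!![4,3;1,1], by decide⟩

set_option maxRecDepth 100000 in
theorem X1_pow : X1 * X1 * X1 = 1 := by decide
set_option maxRecDepth 100000 in
theorem Y1_pow : Y1 * Y1 * Y1 * Y1 * Y1 = 1 := by decide
set_option maxRecDepth 100000 in
theorem XY1_pow : X1 * Y1 * (X1 * Y1) = negS 1 := by decide
set_option maxRecDepth 100000 in
theorem X2_pow : X2 * X2 * X2 = 1 := by decide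
set_option maxRecDepth 100000 in
theorem Y2_pow : Y2 * Y2 * Y2 * Y2 * Y2 = 1 := by decide
set_option maxRecDepth 100000 in
theorem XY2_pow : X2 * Y2 * (X2 * Y2) = negS 1 := by decide
set_option maxRecDepth 100000 in
theorem A0_eq1 : X1 * (Y1 * Y1 * Y1 * Y1) * X1 = A0 := by decide
set_option maxRecDepth 100000 in
theorem A0_eq2 : Y2 * Y2 * (X2 * X2) * (Y2 * Y2) = negS A0 := by decide
set_option maxRecDepth 100000 in
theorem C0_eq1 : Y1 * Y1 * (X1 * X1) * (Y1 * Y1) = negS C0 := by decide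
set_option maxRecDepth 100000 in
theorem C0_eq2 : X2 * (Y2 * Y2 * Y2 * Y2) * X2 = C0 := by decide
set_option maxRecDepth 100000 in
theorem A0_sq : A0 * A0 = negS 1 := by decide
set_option maxRecDepth 100000 in
theorem C0_sq : C0 * C0 = negS 1 := by decide
set_option maxRecDepth 100000 in
theorem A0_C0 : A0 * C0 = negS (C0 * A0) := by decide
set_option maxRecDepth 100000 in
theorem W0_eq : X1 * Y2 = W0 := by decide
set_option maxRecDepth 100000 in
theorem W0_pow : W0 * W0 * W0 * W0 * W0 * W0 = negS 1 ∨ W0 * W0 * W0 * W0 * W0 * W0 = 1 := by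
  decide
set_option maxRecDepth 100000 in
theorem ne_facts : (1 : S11) ≠ Y1 ∧ negS (1 : S11) ≠ Y1 ∧ (1 : S11) ≠ Y2 ∧ negS (1 : S11) ≠ Y2 ∧
    (1 : S11) ≠ A0 ∧ negS (1 : S11) ≠ A0 ∧ (1 : S11) ≠ C0 ∧ negS (1 : S11) ≠ C0 ∧
    C0 ≠ A0 ∧ C0 ≠ negS A0 ∧
    (1 : S11) ≠ W0 * W0 ∧ negS (1 : S11) ≠ W0 * W0 ∧
    (1 : S11) ≠ W0 * W0 * W0 ∧ negS (1 : S11) ≠ W0 * W0 * W0 := by decide

theorem proj_ne_one {u : S11} (h1 : (1 : S11) ≠ u) (h2 : negS (1 : S11) ≠ u) :
    proj u ≠ 1 := by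
  intro h
  rw [← map_one (proj (F := ZMod 11))] at h
  rcases (proj_eq_iff u 1).mp h with h | h
  · exact h1 h
  · -- 1 = negS u, so u = negS 1
    apply h2
    rw [h, negS_negS]

/-- two distinct copies of `A₅` in `PSL₂(11)` sharing a Klein four-subgroup -/
theorem exists_two : ∃ H1 H2 : Subgroup P11, Nonempty (H1 ≃* alternatingGroup (Fin 5)) ∧
    Nonempty (H2 ≃* alternatingGroup (Fin 5)) ∧ H1 ≠ H2 ∧
    ∃ V : Subgroup P11, IsKleinFour V ∧ V ≤ H1 ∧ V ≤ H2 := by
  obtain ⟨n1, n2, n3, n4, n5, n6, n7, n8, n9, n10, n11, n12, n13, n14⟩ := ne_facts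
  have hπ1 : proj (negS (1 : S11)) = 1 := proj_negS_one
  -- the first copy
  have r0 : (proj X1) ^ 3 = 1 := by
    have : (proj X1) ^ 3 = proj (X1 * X1 * X1) := by
      simp only [pow_succ, pow_zero, one_mul, map_mul]
    rw [this, X1_pow, map_one]
  have r1 : (proj Y1) ^ 5 = 1 := by
    have : (proj Y1) ^ 5 = proj (Y1 * Y1 * Y1 * Y1 * Y1) := by
      simp only [pow_succ, pow_zero, one_mul, map_mul]
    rw [this, Y1_pow, map_one]
  have r2 : (proj X1 * proj Y1) ^ 2 = 1 := by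
    have : (proj X1 * proj Y1) ^ 2 = proj (X1 * Y1 * (X1 * Y1)) := by
      simp only [pow_succ, pow_zero, one_mul, map_mul]
    rw [this, XY1_pow, hπ1]
  obtain ⟨φ1, hinj1, hx1, hy1⟩ := exists_A5_of_rel (proj X1) (proj Y1) r0 r1 r2 (proj_ne_one n1 n2)
  -- the second copy
  have s0 : (proj X2) ^ 3 = 1 := by
    have : (proj X2) ^ 3 = proj (X2 * X2 * X2) := by
      simp only [pow_succ, pow_zero, one_mul, map_mul]
    rw [this, X2_pow, map_one]
  have s1 : (proj Y2) ^ 5 = 1 := by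
    have : (proj Y2) ^ 5 = proj (Y2 * Y2 * Y2 * Y2 * Y2) := by
      simp only [pow_succ, pow_zero, one_mul, map_mul]
    rw [this, Y2_pow, map_one]
  have s2 : (proj X2 * proj Y2) ^ 2 = 1 := by
    have : (proj X2 * proj Y2) ^ 2 = proj (X2 * Y2 * (X2 * Y2)) := by
      simp only [pow_succ, pow_zero, one_mul, map_mul]
    rw [this, XY2_pow, hπ1]
  obtain ⟨φ2, hinj2, hx2, hy2⟩ := exists_A5_of_rel (proj X2) (proj Y2) s0 s1 s2 (proj_ne_one n3 n4)
  refine ⟨φ1.range, φ2.range, ⟨(MonoidHom.ofInjective hinj1).symm⟩,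
    ⟨(MonoidHom.ofInjective hinj2).symm⟩, ?_, ?_⟩
  · -- distinct: `x₁ y₂` has order six
    intro heq
    have hw : proj W0 ∈ φ1.range := by
      rw [← W0_eq, map_mul]
      exact mul_mem hx1 (heq ▸ hy2)
    obtain ⟨σ, hσ⟩ := hw
    have hw6 : proj (W0 * W0 * W0 * W0 * W0 * W0) = 1 := by
      rcases W0_pow with h | h
      · rw [h, hπ1]
      · rw [h, map_one]
    have hσ6 : σ * σ * σ * σ * σ * σ = 1 := by
      apply hinj1
      rw [map_one, map_mul, map_mul, map_mul, map_mul, map_mul, hσ, ← hw6]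
      simp only [map_mul]
    have hsign : Equiv.Perm.sign σ.1 = 1 := Equiv.Perm.mem_alternatingGroup.mp σ.2
    have hσ6' : σ.1 * σ.1 * σ.1 * σ.1 * σ.1 * σ.1 = 1 := congrArg Subtype.val hσ6
    rcases perm5_no_order_six σ.1 hsign hσ6' with h | h
    · have h' : σ * σ = 1 := Subtype.ext h
      have : proj (W0 * W0) = 1 := by
        rw [map_mul, ← hσ, ← map_mul, h', map_one]
      exact proj_ne_one n11 n12 this
    · have h' : σ * σ * σ = 1 := Subtype.ext h
      have : proj (W0 * W0 * W0) = 1 := by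
        rw [map_mul, map_mul, ← hσ, ← map_mul, ← map_mul, h', map_one]
      exact proj_ne_one n13 n14 this
  · -- the common four-group
    have ha1 : proj A0 ∈ φ1.range := by
      rw [← A0_eq1]
      simp only [map_mul]
      exact mul_mem (mul_mem hx1 (mul_mem (mul_mem (mul_mem hy1 hy1) hy1) hy1)) hx1
    have ha2 : proj A0 ∈ φ2.range := by
      rw [← proj_negS, ← A0_eq2]
      simp only [map_mul]
      exact mul_mem (mul_mem (mul_mem hy2 hy2) (mul_mem hx2 hx2)) (mul_mem hy2 hy2)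
    have hc1 : proj C0 ∈ φ1.range := by
      rw [← proj_negS, ← C0_eq1]
      simp only [map_mul]
      exact mul_mem (mul_mem (mul_mem hy1 hy1) (mul_mem hx1 hx1)) (mul_mem hy1 hy1)
    have hc2 : proj C0 ∈ φ2.range := by
      rw [← C0_eq2]
      simp only [map_mul]
      exact mul_mem (mul_mem hx2 (mul_mem (mul_mem (mul_mem hy2 hy2) hy2) hy2)) hx2
    have hp : (proj A0, proj C0) ∈ Pairs P11 := by
      refine ⟨proj_ne_one n5 n6, proj_ne_one n7 n8, ?_, ?_, ?_, ?_⟩
      · intro h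
        rcases (proj_eq_iff A0 C0).mp h with h | h
        · exact n9 h
        · exact n10 h
      · show proj A0 * proj A0 = 1
        rw [← map_mul, A0_sq, hπ1]
      · show proj C0 * proj C0 = 1
        rw [← map_mul, C0_sq, hπ1]
      · show proj A0 * proj C0 = proj C0 * proj A0
        rw [← map_mul, A0_C0, proj_negS, map_mul]
    refine ⟨K (proj A0) (proj C0), K_isKleinFour hp, ?_, ?_⟩
    · unfold K
      rw [Subgroup.closure_le]
      rintro g (rfl | rfl)
      · exact ha1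
      · exact hc1
    · unfold K
      rw [Subgroup.closure_le]
      rintro g (rfl | rfl)
      · exact ha2
      · exact hc2

end Cfsg.Agent.Lib.Helper42_PSL211Ex
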