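/-
helper79 — package TORHYP of helper37's REEHALL market (S1158, S1159, S2357, S2358, S2361):
the hypotheses of helper26's abstract theory of `π`-tori, from `RH G Ω m`
(`Helper79_RH_TORHYPaux.torHyp_of` + helper92's PICENT `cent_pi`).
-/
import Mathlib
import Cfsg.Agent.Lib.Helper37_RHDefs
import Cfsg.Agent.Lib.Helper26_RHTorDefs
import Cfsg.Agent.Lib.Helper79_RH_TORHYPaux
import Cfsg.Agent.Lib.Helper92_RH_PICENT

set_option autoImplicit false

namespace Cfsg.Agent.Lib.Helper79_RH_TORHYP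

open MulAction Subgroup Cfsg.Agent.Lib.Helper37_RHDefs Cfsg.Agent.Lib.Helper26_RHTorDefs

variable {G : Type*} [Group G] [Finite G] {Ω : Type*} [MulAction G Ω] {m : ℕ}

/-- PK TORHYP. -/
theorem torHyp (h : RH G Ω m) :
    TorHyp G ((3 ^ (2 * m + 1)) ^ 2 - 3 ^ (2 * m + 1) + 1)
      ((3 ^ (2 * m + 1)) ^ 3 * (3 ^ (2 * m + 1) + 1) * (3 ^ (2 * m + 1) - 1)) :=
  Cfsg.Agent.Lib.Helper79_RH_TORHYPaux.torHyp_of h
    (fun x hx g hg hg1 => Cfsg.Agent.Lib.Helper92_RH_PICENT.cent_pi h x hx g hg hg1)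

end Cfsg.Agent.Lib.Helper79_RH_TORHYP
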