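import Mathlib
import Cfsg.Agent.Lib.Helper37_RHDefs
import Cfsg.Agent.Lib.Helper26_RHTorDefs
import Cfsg.Agent.Lib.Helper42_RH_F2358aux
import Cfsg.Agent.Lib.Helper91_RH_INH
import Cfsg.Agent.Lib.Helper60_RH_TORT
import Cfsg.Agent.Lib.Helper91_RH_SIGCONJ
import Cfsg.Agent.Lib.Helper79_RH_TORHYP
import Cfsg.Agent.Lib.Helper26_RH_CARDPI
import Cfsg.Agent.Lib.Helper39_RH_TOR8B

/-!
# REEHALL package F2358 (architect helper37), verbatim: the statement of S2358 for an abstract `G`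
-/

set_option autoImplicit false

namespace Cfsg.Agent.Lib.Helper42_RH_F2358

open MulAction Subgroup Cfsg.Agent.Lib.Helper37_RHDefs
open scoped Pointwise

variable {G : Type*} [Group G] [Finite G] {Ω : Type*} [MulAction G Ω] {m : ℕ}

/-- PK F2358.  The statement of S2358 for an abstract `G`.
(`d = 1`: both are `⊥`.  `d ∣ (q-1)/2`, `d > 1`: generators fix two points each (`mem_stab2_of_order`); move one pair to
the other (`h.two_trans`); a cyclic group has one subgroup of order `d`.  `d ∣ (q+1)/4`: `sig_conj` into the cyclic `T`.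
`d ∣ q ∓ r + 1`: `Helper39_RH_TOR8B.cyclic_conj`.) -/
theorem f2358 (h : RH G Ω m) (d : ℕ)
    (hd : d ∣ (3 ^ (2 * m + 1) - 1) / 2 ∨ d ∣ (3 ^ (2 * m + 1) + 1) / 4 ∨
      d ∣ 3 ^ (2 * m + 1) - 3 ^ (m + 1) + 1 ∨ d ∣ 3 ^ (2 * m + 1) + 3 ^ (m + 1) + 1)
    (A B : Subgroup G) (hA : IsCyclic A) (hB : IsCyclic B) (hAd : Nat.card A = d) (hBd : Nat.card B = d) :
    ∃ g : G, B = A.map (MulAut.conj g).toMonoidHom :=
  Cfsg.Agent.Lib.Helper42_RH_F2358aux.f2358_of h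
    (Cfsg.Agent.Lib.Helper91_RH_INH.mem_stab2_of_order h)
    (Cfsg.Agent.Lib.Helper60_RH_TORT.exists_torT h)
    (Cfsg.Agent.Lib.Helper91_RH_SIGCONJ.sig_conj h)
    (Cfsg.Agent.Lib.Helper39_RH_TOR8B.cyclic_conj h.hm
      (Cfsg.Agent.Lib.Helper79_RH_TORHYP.torHyp h) (Cfsg.Agent.Lib.Helper26_RH_CARDPI.card_pi h))
    d hd A B hA hB hAd hBd

end Cfsg.Agent.Lib.Helper42_RH_F2358
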