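import Mathlib
import Cfsg.Agent.Lib.Helper56_RuDefs
import Cfsg.Agent.Lib.Helper56_RuBasic

/-!
# ru_packages EXP (helper56's S3174 market): `Z_3` has exponent 2, with `W' = Z_3` (package COMM) as a hypothesis.
-/

set_option autoImplicit false

open scoped commutatorElement
open Cfsg.Agent.Lib.Helper56_RuDefs Cfsg.Agent.Lib.Helper56_RuBasic

namespace Cfsg.Agent.Lib.Helper42_RU_EXPaux

variable {T : Type*} [Group T]

/-- the square of a commutator of two elements of `W` is trivial. -/
theorem comm_sq (h : Str T) : ∀ a ∈ Wc T, ∀ b ∈ Wc T, ⁅a, b⁆ ^ 2 = 1 := by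
  intro a ha b hb
  have h1 := comm_mul_left h a ha a ha b hb
  have h2 : a * a ∈ Subgroup.upperCentralSeries T 3 := by
    have := sq_mem h a ha
    rwa [pow_two] at this
  have h3 : b * (a * a) = (a * a) * b := commute_Z3 b hb _ h2
  have h4 : ⁅a * a, b⁆ = 1 := by
    rw [commutatorElement_def, ← h3]
    group
  rw [pow_two, ← h1, h4]

/-- EXP with the statement of COMM as a hypothesis. -/
theorem exp_Z3_of (h : Str T)
    (hc : (_root_.commutator ↥(Wc T)).map (Wc T).subtype = Subgroup.upperCentralSeries T 3) :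
    ∀ z ∈ Subgroup.upperCentralSeries T 3, z ^ 2 = 1 := by
  intro z hz
  rw [← hc] at hz
  obtain ⟨y, hy, rfl⟩ := Subgroup.mem_map.1 hz
  have key : ∀ y ∈ _root_.commutator ↥(Wc T), ((y : ↥(Wc T)) : T) ^ 2 = 1 := by
    intro y hy
    have hmem : ∀ y ∈ _root_.commutator ↥(Wc T), ((y : ↥(Wc T)) : T) ∈ Subgroup.upperCentralSeries T 3 := by
      intro y hy
      rw [← hc]
      exact Subgroup.mem_map.2 ⟨y, hy, rfl⟩
    rw [commutator_def, Subgroup.commutator_def] at hy
    induction hy using Subgroup.closure_induction with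
    | mem x hx =>
      obtain ⟨a, _, b, _, rfl⟩ := hx
      have := comm_sq h a.1 a.2 b.1 b.2
      simpa [commutatorElement_def] using this
    | one => simp
    | mul x y hx hy ihx ihy =>
      have hy3 : (y : T) ∈ Subgroup.upperCentralSeries T 3 := by
        apply hmem
        rw [commutator_def, Subgroup.commutator_def]
        exact hy
      have hcomm : (x : T) * (y : T) = (y : T) * (x : T) := commute_Z3 x.1 x.2 _ hy3
      have : ((x * y : ↥(Wc T)) : T) ^ 2 = (x : T) ^ 2 * (y : T) ^ 2 := by
        rw [Subgroup.coe_mul, (show Commute (x : T) (y : T) from hcomm).mul_pow]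
      rw [this, ihx, ihy, one_mul]
    | inv x hx ihx =>
      rw [Subgroup.coe_inv, inv_pow, ihx, inv_one]
  exact key y hy

end Cfsg.Agent.Lib.Helper42_RU_EXPaux
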