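import Mathlib
import Cfsg.Agent.Lib.Helper56_RuDefs

/-!
# ru market (S3174) package HYPER (architect helper56; formalised by helper79)

In an elementary abelian section `E/H` a subgroup `Z/H` of order 2 is avoided by a hyperplane.
-/

set_option autoImplicit false

open scoped commutatorElement

namespace Cfsg.Agent.Lib.Helper79_RU_HYPER

section abs
variable {G : Type*} [Group G]

/-- if `G/H` is abelian, every subgroup containing `H` is normal. -/
theorem normal_of_comm_le {H U : Subgroup G} (hab : ∀ x y : G, ⁅x, y⁆ ∈ H) (hHU : H ≤ U) :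
    U.Normal := by
  refine ⟨fun u hu g => ?_⟩
  have e : g * u * g⁻¹ = ⁅g, u⁆ * u := by
    rw [commutatorElement_def]
    group
  rw [e]
  exact U.mul_mem (hHU (hab g u)) hu

/-- integer powers of `y` are in `H` or in `H y`. -/
theorem zpow_cases {H : Subgroup G} {y : G} (hy : y ^ 2 ∈ H) (n : ℤ) :
    y ^ n ∈ H ∨ ∃ h ∈ H, y ^ n = h * y := by
  rcases Int.even_or_odd' n with ⟨k, hk | hk⟩
  · left
    rw [hk, zpow_mul, zpow_two, ← pow_two]
    exact H.zpow_mem hy k
  · right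
    refine ⟨(y ^ 2) ^ k, H.zpow_mem hy k, ?_⟩
    rw [hk, zpow_add, zpow_mul, zpow_one, zpow_two, ← pow_two]

/-- abstract form: `G/H` elementary abelian, `z ∉ H`: some subgroup of index 2 containing `H` avoids `z`. -/
theorem exists_hyperplane_abs [Finite G] (H : Subgroup G) (hsq : ∀ x : G, x ^ 2 ∈ H)
    (hab : ∀ x y : G, ⁅x, y⁆ ∈ H) (z : G) (hz : z ∉ H) :
    ∃ U : Subgroup G, H ≤ U ∧ z ∉ U ∧ U.index = 2 := by
  have hne : Nonempty {U : Subgroup G // H ≤ U ∧ z ∉ U} := ⟨⟨H, le_rfl, hz⟩⟩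
  obtain ⟨⟨U, hHU, hzU⟩, hmax⟩ :=
    Finite.exists_max (α := {U : Subgroup G // H ≤ U ∧ z ∉ U}) (fun U => Nat.card U.1)
  have hUn : U.Normal := normal_of_comm_le hab hHU
  -- every element lies in `U ⊔ ⟨z⟩`
  have hall : ∀ y : G, y ∈ U ⊔ Subgroup.zpowers z := by
    intro y
    by_contra hy
    have hzU' : z ∉ U ⊔ Subgroup.zpowers y := by
      intro hzm
      rw [Subgroup.mem_sup_of_normal_left] at hzm
      obtain ⟨u, hu, k, hk, hukz⟩ := hzm
      obtain ⟨n, rfl⟩ := Subgroup.mem_zpowers_iff.1 hk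
      rcases zpow_cases (hHU (hsq y)) n with h1 | ⟨h, hh, h1⟩
      · apply hzU
        rw [← hukz]
        exact U.mul_mem hu h1
      · apply hy
        have e : y = (u * h)⁻¹ * z := by
          rw [← hukz, h1]
          group
        rw [e]
        exact Subgroup.mul_mem _
          (Subgroup.mem_sup_left (U.inv_mem (U.mul_mem hu hh)))
          (Subgroup.mem_sup_right (Subgroup.mem_zpowers z))
    have hle : Nat.card (U ⊔ Subgroup.zpowers y : Subgroup G) ≤ Nat.card U :=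
      hmax ⟨U ⊔ Subgroup.zpowers y, hHU.trans le_sup_left, hzU'⟩
    have heq : U = U ⊔ Subgroup.zpowers y := Subgroup.eq_of_le_of_card_ge le_sup_left hle
    apply hy
    apply Subgroup.mem_sup_left
    rw [heq]
    exact Subgroup.mem_sup_right (Subgroup.mem_zpowers y)
  refine ⟨U, hHU, hzU, ?_⟩
  rw [Subgroup.index_eq_two_iff]
  refine ⟨z, fun b => ?_⟩
  have hb := hall b
  rw [Subgroup.mem_sup_of_normal_left] at hb
  obtain ⟨u, hu, k, hk, rfl⟩ := hb
  obtain ⟨n, rfl⟩ := Subgroup.mem_zpowers_iff.1 hk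
  rcases zpow_cases (hHU (hsq z)) n with h1 | ⟨h, hh, h1⟩
  · right
    refine ⟨U.mul_mem hu h1, ?_⟩
    intro hc
    apply hzU
    have e : z = (u * z ^ n)⁻¹ * (u * z ^ n * z) := by group
    rw [e]
    exact U.mul_mem (U.inv_mem (U.mul_mem hu h1)) hc
  · left
    refine ⟨?_, ?_⟩
    · rw [h1]
      have e : u * (h * z) * z = u * h * z ^ 2 := by
        rw [pow_two]
        group
      rw [e]
      exact U.mul_mem (U.mul_mem hu hh) (hHU (hsq z))
    · intro hc
      apply hzU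
      have e : z = (u * h)⁻¹ * (u * z ^ n) := by
        rw [h1]
        group
      rw [e]
      exact U.mul_mem (U.inv_mem (U.mul_mem hu hh)) hc

end abs

variable {T : Type*} [Group T]

/-- HYPER. In an elementary abelian section `E/H` a subgroup `Z/H` of order 2 is avoided by a hyperplane. -/
theorem exists_hyperplane [Finite T] (E H Z : Subgroup T) (hHZ : H ≤ Z) (hZE : Z ≤ E)
    (hidx : H.relIndex Z = 2) (hsq : ∀ x ∈ E, x ^ 2 ∈ H) (hab : ∀ x ∈ E, ∀ y ∈ E, ⁅x, y⁆ ∈ H) :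
    ∃ U : Subgroup T, H ≤ U ∧ U ≤ E ∧ ¬ Z ≤ U ∧ U.relIndex E = 2 := by
  have hZH : ¬ Z ≤ H := by
    intro hle
    have := Subgroup.relIndex_eq_one.2 hle
    omega
  obtain ⟨z, hzZ, hzH⟩ := SetLike.not_le_iff_exists.1 hZH
  have hsq' : ∀ x : ↥E, x ^ 2 ∈ H.subgroupOf E := by
    intro x
    rw [Subgroup.mem_subgroupOf]
    exact hsq x x.2
  have hab' : ∀ x y : ↥E, ⁅x, y⁆ ∈ H.subgroupOf E := by
    intro x y
    rw [Subgroup.mem_subgroupOf]
    exact hab x x.2 y y.2
  have hz' : (⟨z, hZE hzZ⟩ : ↥E) ∉ H.subgroupOf E := by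
    rw [Subgroup.mem_subgroupOf]
    exact hzH
  obtain ⟨U', hHU', hzU', hU'2⟩ :=
    exists_hyperplane_abs (H.subgroupOf E) hsq' hab' ⟨z, hZE hzZ⟩ hz'
  refine ⟨U'.map E.subtype, ?_, Subgroup.map_subtype_le U', ?_, ?_⟩
  · intro h hh
    have hhE : h ∈ E := hZE (hHZ hh)
    have : (⟨h, hhE⟩ : ↥E) ∈ U' := hHU' (Subgroup.mem_subgroupOf.2 hh)
    exact ⟨⟨h, hhE⟩, this, rfl⟩
  · intro hle
    obtain ⟨e, he, hez⟩ := hle hzZ
    apply hzU'
    have : e = ⟨z, hZE hzZ⟩ := Subtype.ext hez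
    rw [← this]
    exact he
  · unfold Subgroup.relIndex Subgroup.subgroupOf
    rw [Subgroup.comap_map_eq_self_of_injective E.subtype_injective U']
    exact hU'2

end Cfsg.Agent.Lib.Helper79_RU_HYPER
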