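import Mathlib
import Cfsg.Agent.Lib.Helper56_RuDefs
import Cfsg.Agent.Lib.Helper56_RuBasic

/-!
# S3174 market (helper56), package COMM, auxiliary file: `W' = Z_3` from the statement of package HYPER.
Paper proof: `pending/helper56/S3174_proof.md`, COMM.
-/

set_option autoImplicit false

open scoped commutatorElement
open Cfsg.Agent.Lib.Helper56_RuDefs Cfsg.Agent.Lib.Helper56_RuBasic

namespace Cfsg.Agent.Lib.Helper86_RU_COMMaux

variable {T : Type*} [Group T]

/-- the statement of package HYPER (`exists_hyperplane`). -/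
def HyperStmt (T : Type*) [Group T] : Prop :=
  ∀ (E H Z : Subgroup T), H ≤ Z → Z ≤ E → H.relIndex Z = 2 → (∀ x ∈ E, x ^ 2 ∈ H) →
    (∀ x ∈ E, ∀ y ∈ E, ⁅x, y⁆ ∈ H) →
    ∃ U : Subgroup T, H ≤ U ∧ U ≤ E ∧ ¬ Z ≤ U ∧ U.relIndex E = 2

/-- `W' ≤ Z_3`. -/
theorem comm_map_le (h : Str T) :
    (_root_.commutator ↥(Wc T)).map (Wc T).subtype ≤ Subgroup.upperCentralSeries T 3 := by
  rw [Subgroup.map_le_iff_le_comap, commutator_def, Subgroup.commutator_le]
  intro a _ b _
  rw [Subgroup.mem_comap]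
  have := comm_mem h a a.2 b b.2
  simpa [commutatorElement_def] using this

/-- commutators of elements of `W` lie in `W'`. -/
theorem comm_mem_map {a b : T} (ha : a ∈ Wc T) (hb : b ∈ Wc T) :
    ⁅a, b⁆ ∈ (_root_.commutator ↥(Wc T)).map (Wc T).subtype := by
  refine Subgroup.mem_map.2 ⟨⁅(⟨a, ha⟩ : ↥(Wc T)), ⟨b, hb⟩⁆,
    Subgroup.commutator_mem_commutator (Subgroup.mem_top _) (Subgroup.mem_top _), ?_⟩
  simp [commutatorElement_def]

/-- a proper subgroup of a group of order 8 lies in a subgroup of index 2. -/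
theorem exists_index_two_of_lt (Z A : Subgroup T) (hZ : Nat.card Z = 2 ^ 3) (hAZ : A ≤ Z)
    (hne : A ≠ Z) : ∃ H : Subgroup T, A ≤ H ∧ H ≤ Z ∧ H.relIndex Z = 2 := by
  have : Fact (2 : ℕ).Prime := ⟨Nat.prime_two⟩
  have hfin : Finite Z := Nat.finite_of_card_ne_zero (by rw [hZ]; norm_num)
  have hZp : IsPGroup 2 Z := IsPGroup.of_card hZ
  obtain ⟨n, hn⟩ := (hZp.to_subgroup (A.subgroupOf Z)).exists_card_eq
  have hdvd : Nat.card (A.subgroupOf Z) ∣ Nat.card Z := Subgroup.card_subgroup_dvd_card _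
  rw [hn, hZ] at hdvd
  have hn3 : n ≤ 3 := (Nat.pow_dvd_pow_iff_le_right (by norm_num)).1 hdvd
  have hn2 : n ≤ 2 := by
    rcases Nat.lt_or_ge n 3 with h | h
    · omega
    · exfalso
      have hn' : n = 3 := le_antisymm hn3 h
      have htop : A.subgroupOf Z = ⊤ := by
        apply Subgroup.eq_top_of_card_eq
        rw [hn, hn', hZ]
      apply hne
      apply le_antisymm hAZ
      rw [← Subgroup.subgroupOf_eq_top]
      exact htop
  obtain ⟨K, hK, hAK⟩ := Sylow.exists_subgroup_card_pow_prime_le 2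
    (show 2 ^ 2 ∣ Nat.card Z by rw [hZ]; norm_num) (A.subgroupOf Z) hn hn2
  refine ⟨K.map Z.subtype, ?_, Subgroup.map_subtype_le _, ?_⟩
  · intro x hx
    refine Subgroup.mem_map.2 ⟨⟨x, hAZ hx⟩, hAK ?_, rfl⟩
    rw [Subgroup.mem_subgroupOf]
    exact hx
  · have h1 := card_mul_relIndex (Subgroup.map_subtype_le K)
    have h2 : Nat.card (K.map Z.subtype) = Nat.card K :=
      Subgroup.card_map_of_injective Z.subtype_injective
    rw [h2, hK, hZ] at h1
    omega

/-- in a subgroup `H` of relative index 2 in `Z`, the product of two elements of `Z` outside `H` is in `H`. -/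
theorem mul_mem_of_relIndex_two {H Z : Subgroup T} (hidx : H.relIndex Z = 2) {x y : T}
    (hx : x ∈ Z) (hy : y ∈ Z) (hxH : x ∉ H) (hyH : y ∉ H) : x * y ∈ H := by
  have h1 := @Subgroup.mul_mem_iff_of_index_two _ _ (H.subgroupOf Z) hidx ⟨x, hx⟩ ⟨y, hy⟩
  have h2 : (⟨x, hx⟩ : Z) * ⟨y, hy⟩ ∈ H.subgroupOf Z := by
    rw [h1]
    simp only [Subgroup.mem_subgroupOf]
    exact ⟨fun h => absurd h hxH, fun h => absurd h hyH⟩
  simpa [Subgroup.mem_subgroupOf] using h2

theorem sq_mem_of_relIndex_two {H Z : Subgroup T} (hidx : H.relIndex Z = 2) {x : T}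
    (hx : x ∈ Z) : x ^ 2 ∈ H := by
  have h1 := @Subgroup.sq_mem_of_index_two _ _ (H.subgroupOf Z) hidx ⟨x, hx⟩
  simpa [Subgroup.mem_subgroupOf] using h1

/-- `E = {w ∈ W | w² ∈ H}` for `W' ≤ H`. -/
def sqSub (h : Str T) (H : Subgroup T)
    (hH : (_root_.commutator ↥(Wc T)).map (Wc T).subtype ≤ H) : Subgroup T where
  carrier := {w | w ∈ Wc T ∧ w ^ 2 ∈ H}
  one_mem' := ⟨(Wc T).one_mem, by simp [H.one_mem]⟩
  mul_mem' := by
    rintro a b ⟨ha, ha2⟩ ⟨hb, hb2⟩
    refine ⟨(Wc T).mul_mem ha hb, ?_⟩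
    rw [mul_sq h a ha b hb]
    exact H.mul_mem (H.mul_mem ha2 hb2) (hH (comm_mem_map hb ha))
  inv_mem' := by
    rintro a ⟨ha, ha2⟩
    refine ⟨(Wc T).inv_mem ha, ?_⟩
    rw [inv_pow]
    exact H.inv_mem ha2

theorem mem_sqSub (h : Str T) (H : Subgroup T)
    (hH : (_root_.commutator ↥(Wc T)).map (Wc T).subtype ≤ H) {w : T} :
    w ∈ sqSub h H hH ↔ w ∈ Wc T ∧ w ^ 2 ∈ H := Iff.rfl

/-- `|W : E| ≤ 2`. -/
theorem relIndex_sqSub_le (h : Str T) (H : Subgroup T)
    (hH : (_root_.commutator ↥(Wc T)).map (Wc T).subtype ≤ H)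
    (hidx : H.relIndex (Subgroup.upperCentralSeries T 3) = 2) :
    (sqSub h H hH).relIndex (Wc T) ≤ 2 := by
  by_cases hall : ∀ a ∈ Wc T, a ∈ sqSub h H hH
  · have : Wc T ≤ sqSub h H hH := hall
    rw [Subgroup.relIndex_eq_one.2 this]
    norm_num
  · push Not at hall
    obtain ⟨a, haW, haE⟩ := hall
    have ha2 : a ^ 2 ∉ H := fun hc => haE ⟨haW, hc⟩
    have key : ((sqSub h H hH).subgroupOf (Wc T)).index = 2 := by
      rw [Subgroup.index_eq_two_iff]
      refine ⟨⟨a, haW⟩, fun b => ?_⟩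
      by_cases hb : (b : T) ∈ sqSub h H hH
      · right
        refine ⟨by rw [Subgroup.mem_subgroupOf]; exact hb, ?_⟩
        intro hba
        rw [Subgroup.mem_subgroupOf] at hba
        apply haE
        have : a = (b : T)⁻¹ * ((b : T) * a) := by group
        rw [this]
        exact (sqSub h H hH).mul_mem ((sqSub h H hH).inv_mem hb) hba
      · left
        refine ⟨?_, by rw [Subgroup.mem_subgroupOf]; exact hb⟩
        rw [Subgroup.mem_subgroupOf]
        have hb2 : (b : T) ^ 2 ∉ H := fun hc => hb ⟨b.2, hc⟩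
        refine ⟨(Wc T).mul_mem b.2 haW, ?_⟩
        show ((b : T) * a) ^ 2 ∈ H
        rw [mul_sq h b b.2 a haW]
        refine H.mul_mem ?_ (hH (comm_mem_map haW b.2))
        exact mul_mem_of_relIndex_two hidx (sq_mem h b b.2) (sq_mem h a haW) hb2 ha2
    exact key.le

/-- COMM from HYPER: `W' = Z_3`. -/
theorem comm_eq_of (hyper : HyperStmt T) (h : Str T) :
    (_root_.commutator ↥(Wc T)).map (Wc T).subtype = Subgroup.upperCentralSeries T 3 := by
  by_contra hne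
  obtain ⟨H, hWH, hHZ, hidx⟩ := exists_index_two_of_lt (Subgroup.upperCentralSeries T 3) _
    (h.cardZ 3 (by norm_num)) (comm_map_le h) hne
  have hZE : Subgroup.upperCentralSeries T 3 ≤ sqSub h H hWH := fun z hz =>
    ⟨Z3_le_W h hz, sq_mem_of_relIndex_two hidx hz⟩
  obtain ⟨U, hHU, hUE, hZU, hUidx⟩ := hyper (sqSub h H hWH) H (Subgroup.upperCentralSeries T 3)
    hHZ hZE hidx (fun x hx => hx.2) (fun x hx y hy => hWH (comm_mem_map hx.1 hy.1))
  have hEW : sqSub h H hWH ≤ Wc T := fun x hx => hx.1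
  apply hZU
  apply h.hd U (hUE.trans hEW)
  rw [← Subgroup.relIndex_mul_relIndex U _ _ hUE hEW, hUidx]
  have := relIndex_sqSub_le h H hWH hidx
  omega

end Cfsg.Agent.Lib.Helper86_RU_COMMaux
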