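import Mathlib
import Cfsg.Agent.Lib.Helper56_RuDefs
import Cfsg.Agent.Lib.Helper56_RuBasic
import Cfsg.Agent.Lib.Helper79_RU_HYPER
import Cfsg.Agent.Lib.Helper86_RU_COMMaux

/-!
# S3174 market (helper56), package COMM: `W' = Z_3` (verbatim wrapper of `Helper86_RU_COMMaux.comm_eq_of`
over helper79's `exists_hyperplane`).
-/

set_option autoImplicit false

open scoped commutatorElement
open Cfsg.Agent.Lib.Helper56_RuDefs Cfsg.Agent.Lib.Helper56_RuBasic

namespace Cfsg.Agent.Lib.Helper86_RU_COMM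

variable {T : Type*} [Group T]

/-- COMM. `W' = Z_3`. -/
theorem comm_eq (h : Str T) :
    (_root_.commutator ↥(Wc T)).map (Wc T).subtype = Subgroup.upperCentralSeries T 3 := by
  have := h.fin
  exact Cfsg.Agent.Lib.Helper86_RU_COMMaux.comm_eq_of
    (fun E H Z hHZ hZE hidx hsq hab =>
      Cfsg.Agent.Lib.Helper79_RU_HYPER.exists_hyperplane E H Z hHZ hZE hidx hsq hab) h

end Cfsg.Agent.Lib.Helper86_RU_COMM
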