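import Mathlib
import Cfsg.Agent.Lib.Helper56_RuDefs
import Cfsg.Agent.Lib.Helper56_RuBasic
import Cfsg.Agent.Lib.Helper86_RU_COMM
import Cfsg.Agent.Lib.Helper42_RU_EXPaux

/-!
# ru_packages EXP (helper56's S3174 market): `Z_3` has exponent 2
(verbatim wrapper of `Helper42_RU_EXPaux.exp_Z3_of` over helper86's `comm_eq`).
-/

set_option autoImplicit false

open scoped commutatorElement
open Cfsg.Agent.Lib.Helper56_RuDefs Cfsg.Agent.Lib.Helper56_RuBasic

namespace Cfsg.Agent.Lib.Helper42_RU_EXP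

variable {T : Type*} [Group T]

/-- EXP. `Z_3` has exponent 2. -/
theorem exp_Z3 (h : Str T) : ∀ z ∈ Subgroup.upperCentralSeries T 3, z ^ 2 = 1 :=
  Helper42_RU_EXPaux.exp_Z3_of h (Helper86_RU_COMM.comm_eq h)

end Cfsg.Agent.Lib.Helper42_RU_EXP
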