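import Mathlib
import Cfsg.Agent.Lib.Helper56_RuDefs
import Cfsg.Agent.Lib.Helper56_RuBasic

/-!
# ru_packages QUAD (helper56's S3174 market): `⁅⁅w,k⁆,k⁆, ⁅⁅w,k⁆,k⁻¹⁆ ∈ Z_3`, with `k ^ 2 ∈ W`
(package NHAT, `Nc_sq`) as a hypothesis on the element `k`.
-/

set_option autoImplicit false

open scoped commutatorElement
open Cfsg.Agent.Lib.Helper56_RuDefs Cfsg.Agent.Lib.Helper56_RuBasic

namespace Cfsg.Agent.Lib.Helper42_RU_QUADaux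

variable {T : Type*} [Group T]

theorem conj_mem_W {w : T} (hw : w ∈ Wc T) (k : T) : k * w * k⁻¹ ∈ Wc T :=
  (inferInstance : (Wc T).Normal).conj_mem w hw k

/-- conjugation by an element of `W` moves an element of `W` by an element of `Z_3`. -/
theorem conj_eq (h : Str T) {s w : T} (hs : s ∈ Wc T) (hw : w ∈ Wc T) :
    ∃ z ∈ Subgroup.upperCentralSeries T 3, s * w * s⁻¹ = z * w :=
  ⟨⁅s, w⁆, comm_mem h s hs w hw, by rw [commutatorElement_def]; group⟩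

/-- the core: for `w ∈ W` and `k` with `k ^ 2 ∈ W`. -/
theorem quad_core (h : Str T) {w k : T} (hw : w ∈ Wc T) (hk2 : k ^ 2 ∈ Wc T) :
    ⁅⁅w, k⁆, k⁆ ∈ Subgroup.upperCentralSeries T 3 ∧ ⁅⁅w, k⁆, k⁻¹⁆ ∈ Subgroup.upperCentralSeries T 3 := by
  set Z := Subgroup.upperCentralSeries T 3 with hZ
  have hb : k * w * k⁻¹ ∈ Wc T := conj_mem_W hw k
  have hd : k⁻¹ * w * k ∈ Wc T := by
    have := conj_mem_W hw k⁻¹
    rwa [inv_inv] at this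
  have hu : w * (k * w * k⁻¹)⁻¹ ∈ Wc T := (Wc T).mul_mem hw ((Wc T).inv_mem hb)
  have hu2 : (w * (k * w * k⁻¹)⁻¹) ^ 2 ∈ Z := sq_mem h _ hu
  constructor
  · -- ⁅u,k⁆ = a b⁻¹ c b⁻¹ with c = k² w k⁻² = z a
    obtain ⟨z, hz, hzc⟩ := conj_eq h hk2 hw
    have h1 : ⁅⁅w, k⁆, k⁆ = w * (k * w * k⁻¹)⁻¹ * (k ^ 2 * w * (k ^ 2)⁻¹) * (k * w * k⁻¹)⁻¹ := by
      simp only [commutatorElement_def, pow_two]; group
    have h2 : w * (k * w * k⁻¹)⁻¹ * z = z * (w * (k * w * k⁻¹)⁻¹) := commute_Z3 _ hu z hz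
    have h3 : ⁅⁅w, k⁆, k⁆ = z * (w * (k * w * k⁻¹)⁻¹) ^ 2 := by
      rw [h1, hzc, pow_two]
      calc w * (k * w * k⁻¹)⁻¹ * (z * w) * (k * w * k⁻¹)⁻¹
          = (w * (k * w * k⁻¹)⁻¹ * z) * (w * (k * w * k⁻¹)⁻¹) := by group
        _ = z * (w * (k * w * k⁻¹)⁻¹) * (w * (k * w * k⁻¹)⁻¹) := by rw [h2]
        _ = z * (w * (k * w * k⁻¹)⁻¹ * (w * (k * w * k⁻¹)⁻¹)) := by group
    rw [h3]
    exact Z.mul_mem hz hu2
  · -- ⁅u,k⁻¹⁆ = a b⁻¹ a d⁻¹, b = k² d k⁻² = z d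
    obtain ⟨z, hz, hzc⟩ := conj_eq h hk2 hd
    have hbd : k * w * k⁻¹ = z * (k⁻¹ * w * k) := by
      rw [← hzc, pow_two]; group
    have h1 : ⁅⁅w, k⁆, k⁻¹⁆ = w * (k * w * k⁻¹)⁻¹ * w * (k⁻¹ * w * k)⁻¹ := by
      simp only [commutatorElement_def]; group
    have hd' : (k⁻¹ * w * k)⁻¹ = (k * w * k⁻¹)⁻¹ * z := by
      rw [hbd]; group
    have h3 : ⁅⁅w, k⁆, k⁻¹⁆ = (w * (k * w * k⁻¹)⁻¹) ^ 2 * z := by
      rw [h1, hd', pow_two]; group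
    rw [h3]
    exact Z.mul_mem hu2 hz

/-- QUAD with the statement of `Nc_sq` (package NHAT) as a hypothesis. -/
theorem quad_of (h : Str T) (hsq : ∀ k ∈ Nc T, k ^ 2 ∈ Wc T) : ∀ w ∈ Wc T, ∀ k ∈ Nc T,
    ⁅⁅w, k⁆, k⁆ ∈ Subgroup.upperCentralSeries T 3 ∧ ⁅⁅w, k⁆, k⁻¹⁆ ∈ Subgroup.upperCentralSeries T 3 :=
  fun _ hw k hk => quad_core h hw (hsq k hk)

end Cfsg.Agent.Lib.Helper42_RU_QUADaux
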