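import Mathlib
import Cfsg.Agent.Lib.Helper56_RuDefs
import Cfsg.Agent.Lib.Helper56_RuBasic

/-!
# S3174 / S3175 packages NHAT + F1 (architect helper56), EXP-free part: facts on `N = C_T(Z_2)`;
the statements needing `exp_Z3` are given with the exponent of `Z_3` as a hypothesis (`*_aux`).
-/

set_option autoImplicit false

open scoped commutatorElement
open Cfsg.Agent.Lib.Helper56_RuDefs Cfsg.Agent.Lib.Helper56_RuBasic

namespace Cfsg.Agent.Lib.Helper8_RU_NHATa

variable {T : Type*} [Group T]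

/-! ### generic facts -/

/-- a subgroup of order 2: its non-trivial element. -/
theorem card_two (R : Subgroup T) (hR : Nat.card R = 2) :
    ∃ r, r ≠ 1 ∧ r ∈ R ∧ r ^ 2 = 1 ∧ ∀ c ∈ R, c = 1 ∨ c = r := by
  obtain ⟨r, hr1, hr2⟩ := (Nat.card_eq_two_iff' (1 : R)).1 hR
  have hall : ∀ c ∈ R, c = 1 ∨ c = (r : T) := by
    intro c hc
    by_cases h1 : c = 1
    · exact Or.inl h1
    · right
      have : (⟨c, hc⟩ : R) = r := hr2 _ (fun h => h1 (by simpa using congrArg Subtype.val h))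
      exact (congrArg Subtype.val this)
  have hrne : (r : T) ≠ 1 := fun h => hr1 (Subtype.ext h)
  have hsq : (r : T) ^ 2 = 1 := by
    rcases hall _ (R.pow_mem r.2 2) with h | h
    · exact h
    · exfalso
      apply hrne
      have : (r : T) * (r : T) = (r : T) * 1 := by rw [← pow_two, h, mul_one]
      exact mul_left_cancel this
  exact ⟨r, hrne, r.2, hsq, hall⟩

/-- a subgroup of relative index 2: the two cosets. -/
theorem mem_or_of_relIndex_two {A B : Subgroup T} (hidx : A.relIndex B = 2) {z : T}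
    (hzB : z ∈ B) (hzA : z ∉ A) : ∀ y ∈ B, y ∈ A ∨ y * z⁻¹ ∈ A := by
  intro y hy
  by_cases hyA : y ∈ A
  · exact Or.inl hyA
  · right
    have hidx' : (A.subgroupOf B).index = 2 := hidx
    have := Subgroup.mul_mem_iff_of_index_two hidx' (a := (⟨y, hy⟩ : B))
      (b := (⟨z⁻¹, B.inv_mem hzB⟩ : B))
    rw [Subgroup.mem_subgroupOf, Subgroup.mem_subgroupOf, Subgroup.mem_subgroupOf] at this
    apply this.2
    constructor
    · intro hh; exact absurd hh hyA
    · intro hh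
      exfalso
      apply hzA
      have h1 : z⁻¹ ∈ A := hh
      simpa using A.inv_mem h1

/-- an element commuting with `A` and with `z ∈ B \ A`, `|B : A| = 2`, commutes with `B`. -/
theorem commute_of_relIndex_two {A B : Subgroup T} (hidx : A.relIndex B = 2) {z : T}
    (hzB : z ∈ B) (hzA : z ∉ A) {k : T} (hkA : ∀ a ∈ A, k * a = a * k) (hkz : k * z = z * k) :
    ∀ y ∈ B, k * y = y * k := by
  intro y hy
  rcases mem_or_of_relIndex_two hidx hzB hzA y hy with h | h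
  · exact hkA y h
  · have h1 := hkA _ h
    calc k * y = k * (y * z⁻¹) * z := by group
      _ = (y * z⁻¹) * k * z := by rw [h1]
      _ = (y * z⁻¹) * (k * z) := by group
      _ = (y * z⁻¹) * (z * k) := by rw [hkz]
      _ = y * k := by group

/-! ### the upper central series of `T` -/

theorem ucs_le_succ (i : ℕ) :
    Subgroup.upperCentralSeries T i ≤ Subgroup.upperCentralSeries T (i + 1) :=
  Subgroup.upperCentralSeries_mono T (Nat.le_succ i)

/-- `|Z_{i+1} : Z_i| = 2` for `i ≤ 3`. -/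
theorem relIndex_ucs (h : Str T) (i : ℕ) (hi : i + 1 ≤ 4) :
    (Subgroup.upperCentralSeries T i).relIndex (Subgroup.upperCentralSeries T (i + 1)) = 2 := by
  have h1 := card_mul_relIndex (ucs_le_succ (T := T) i)
  rw [h.cardZ i (by omega), h.cardZ (i + 1) hi, pow_succ] at h1
  exact Nat.eq_of_mul_eq_mul_left (by positivity) h1

theorem exists_mem_not_mem (h : Str T) (i : ℕ) (hi : i + 1 ≤ 4) :
    ∃ z ∈ Subgroup.upperCentralSeries T (i + 1), z ∉ Subgroup.upperCentralSeries T i := by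
  by_contra hcon
  push Not at hcon
  have h1 : (Subgroup.upperCentralSeries T i).relIndex (Subgroup.upperCentralSeries T (i + 1)) = 1 :=
    Subgroup.relIndex_eq_one.2 hcon
  rw [relIndex_ucs h i hi] at h1
  omega

/-- `⁅t, z⁆ ∈ Z_i` for `z ∈ Z_{i+1}`. -/
theorem comm_ucs' (i : ℕ) : ∀ z ∈ Subgroup.upperCentralSeries T (i + 1), ∀ t : T,
    ⁅t, z⁆ ∈ Subgroup.upperCentralSeries T i := by
  intro z hz t
  rw [← commutatorElement_inv]
  exact inv_mem (comm_ucs i z hz t)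

/-! ### NHAT -/

/-- NHAT. Facts on `N = C_T(Z_2)`. -/
theorem Wc_le_Nc : Wc T ≤ Nc T := by
  apply Subgroup.centralizer_le
  exact SetLike.coe_subset_coe.2 (Subgroup.upperCentralSeries_mono T (by norm_num : 2 ≤ 3))

theorem Nc_index (h : Str T) : (Nc T).index = 2 := by
  obtain ⟨z2, hz2, hz21⟩ := exists_mem_not_mem h 1 (by norm_num)
  have hZ1 : Subgroup.upperCentralSeries T 1 = Subgroup.center T := Subgroup.upperCentralSeries_one T
  obtain ⟨z1, hz1ne, hz1mem, hz1sq, hz1all⟩ :=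
    card_two (Subgroup.upperCentralSeries T 1) (h.cardZ 1 (by norm_num))
  have hcen : ∀ c ∈ Subgroup.upperCentralSeries T 1, ∀ t : T, t * c = c * t := by
    intro c hc t
    rw [hZ1] at hc
    exact Subgroup.mem_center_iff.1 hc t
  have hN : ∀ t : T, t ∈ Nc T ↔ t * z2 = z2 * t := by
    intro t
    constructor
    · intro ht
      exact (Subgroup.mem_centralizer_iff.1 ht z2 hz2).symm
    · intro ht
      rw [Subgroup.mem_centralizer_iff]
      intro y hy
      exact (commute_of_relIndex_two (relIndex_ucs h 1 (by norm_num)) hz2 hz21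
        (fun a ha => hcen a ha t) ht y hy).symm
  have hd : ∀ t : T, ⁅t, z2⁆ = 1 ∨ ⁅t, z2⁆ = z1 := fun t => hz1all _ (comm_ucs' 1 z2 hz2 t)
  have hd1 : ∀ t : T, t ∈ Nc T ↔ ⁅t, z2⁆ = 1 := by
    intro t
    rw [hN, commutatorElement_eq_one_iff_mul_comm]
  obtain ⟨a, ha⟩ : ∃ a : T, a * z2 ≠ z2 * a := by
    by_contra hcon
    push Not at hcon
    apply hz21
    rw [hZ1, Subgroup.mem_center_iff]
    exact hcon
  have haz : ⁅a, z2⁆ = z1 := by
    rcases hd a with h1 | h1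
    · exact absurd (commutatorElement_eq_one_iff_mul_comm.1 h1) ha
    · exact h1
  rw [Subgroup.index_eq_two_iff]
  refine ⟨a, fun b => ?_⟩
  have hmul : ⁅b * a, z2⁆ = ⁅a, z2⁆ * ⁅b, z2⁆ := by
    have h1 : ⁅b * a, z2⁆ = b * ⁅a, z2⁆ * b⁻¹ * ⁅b, z2⁆ := by
      simp only [commutatorElement_def]; group
    have h2 : b * ⁅a, z2⁆ = ⁅a, z2⁆ * b := hcen _ (comm_ucs' 1 z2 hz2 a) b
    rw [h1, h2, mul_assoc _ b b⁻¹, mul_inv_cancel, mul_one]
  by_cases hb : b ∈ Nc T
  · right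
    refine ⟨hb, ?_⟩
    rw [hd1, hmul, haz, (hd1 b).1 hb, mul_one]
    exact hz1ne
  · left
    refine ⟨?_, hb⟩
    have hbz : ⁅b, z2⁆ = z1 := by
      rcases hd b with h1 | h1
      · exact absurd ((hd1 b).2 h1) hb
      · exact h1
    rw [hd1, hmul, haz, hbz, ← pow_two, hz1sq]

/-- `Nc_sq` from the exponent of `Z_3`. -/
theorem Nc_sq_aux (hexp : ∀ z ∈ Subgroup.upperCentralSeries T 3, z ^ 2 = 1) :
    ∀ k ∈ Nc T, k ^ 2 ∈ Wc T := by
  intro k hk
  rw [Subgroup.mem_centralizer_iff]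
  intro z hz
  obtain ⟨c, hc⟩ : ∃ c, c = ⁅k, z⁆ := ⟨_, rfl⟩
  have hcZ2 : c ∈ Subgroup.upperCentralSeries T 2 := by
    rw [hc]
    exact comm_ucs' 2 z hz k
  have hkc : k * c = c * k := (Subgroup.mem_centralizer_iff.1 hk c hcZ2).symm
  have hc2 : c ^ 2 = 1 :=
    hexp c (Subgroup.upperCentralSeries_mono T (by norm_num : 2 ≤ 3) hcZ2)
  have hkz : k * z = c * z * k := by
    rw [hc, commutatorElement_def]; group
  have : k ^ 2 * z = z * k ^ 2 := by
    calc k ^ 2 * z = k * (k * z) := by rw [pow_two, mul_assoc]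
      _ = k * (c * z * k) := by rw [hkz]
      _ = (k * c) * z * k := by simp only [mul_assoc]
      _ = c * (k * z) * k := by rw [hkc]; simp only [mul_assoc]
      _ = c * (c * z * k) * k := by rw [hkz]
      _ = c ^ 2 * z * k ^ 2 := by simp only [pow_two, mul_assoc]
      _ = z * k ^ 2 := by rw [hc2, one_mul]
  exact this.symm

theorem Nc_fix (h : Str T) : ∀ k ∈ Nc T, k ∉ Wc T → ∀ z ∈ Subgroup.upperCentralSeries T 3,
    k * z = z * k → z ∈ Subgroup.upperCentralSeries T 2 := by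
  intro k hk hkW z hz hkz
  by_contra hz2
  apply hkW
  rw [Subgroup.mem_centralizer_iff]
  intro y hy
  exact (commute_of_relIndex_two (relIndex_ucs h 2 (by norm_num)) hz hz2
    (fun a ha => (Subgroup.mem_centralizer_iff.1 hk a ha).symm) hkz y hy).symm

/-- `Nc_choice` from `Nc_sq`. -/
theorem Nc_choice_aux (h : Str T) (hsq : ∀ k ∈ Nc T, k ^ 2 ∈ Wc T) :
    ∃ n' ∈ Nc T, ∃ n ∈ Nc T, n' ∉ Wc T ∧ n ∉ Wc T ⊔ Subgroup.zpowers n' := by
  have := h.fin
  have hWN : Wc T ≤ Nc T := Wc_le_Nc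
  have hcardN : Nat.card (Nc T) = 2 ^ 13 := by
    have h1 := (Nc T).card_mul_index
    rw [Nc_index h, h.cardT] at h1
    omega
  have hrel : (Wc T).relIndex (Nc T) = 4 := by
    have h1 := card_mul_relIndex hWN
    rw [card_W h, hcardN] at h1
    omega
  obtain ⟨n', hn', hn'W⟩ : ∃ n' ∈ Nc T, n' ∉ Wc T := by
    by_contra hcon
    push Not at hcon
    have : (Wc T).relIndex (Nc T) = 1 := Subgroup.relIndex_eq_one.2 hcon
    omega
  by_contra hcon
  push Not at hcon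
  have hall : ∀ n ∈ Nc T, n ∈ Wc T ⊔ Subgroup.zpowers n' := fun n hn => hcon n' hn' n hn hn'W
  have hn'2 : n' ^ 2 ∈ Wc T := hsq n' hn'
  have hcos : ∀ n ∈ Nc T, n ∈ Wc T ∨ n * n'⁻¹ ∈ Wc T := by
    intro n hn
    have h1 : n ∈ ((Wc T ⊔ Subgroup.zpowers n' : Subgroup T) : Set T) := hall n hn
    rw [Subgroup.normal_mul, Set.mem_mul] at h1
    obtain ⟨w, hw, y, hy, rfl⟩ := h1
    obtain ⟨j, rfl⟩ := Subgroup.mem_zpowers_iff.1 hy
    have hev : ∀ m : ℤ, n' ^ (2 * m) ∈ Wc T := by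
      intro m
      rw [zpow_mul]
      apply Subgroup.zpow_mem
      have : n' ^ (2 : ℤ) = n' ^ 2 := zpow_ofNat n' 2
      rw [this]
      exact hn'2
    obtain ⟨m, hm | hm⟩ := Int.even_or_odd' j
    · left
      rw [hm]
      exact (Wc T).mul_mem hw (hev m)
    · right
      rw [hm, zpow_add_one]
      have : w * (n' ^ (2 * m) * n') * n'⁻¹ = w * n' ^ (2 * m) := by group
      rw [this]
      exact (Wc T).mul_mem hw (hev m)
  have hidx : ((Wc T).subgroupOf (Nc T)).index = 2 := by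
    rw [Subgroup.index_eq_two_iff]
    refine ⟨⟨n', hn'⟩, fun b => ?_⟩
    rw [Subgroup.mem_subgroupOf, Subgroup.mem_subgroupOf]
    by_cases hb : (b : T) ∈ Wc T
    · right
      refine ⟨hb, fun hbn => hn'W ?_⟩
      have h1 : (b : T) * n' ∈ Wc T := hbn
      have h2 : n' = (b : T)⁻¹ * ((b : T) * n') := by group
      rw [h2]
      exact (Wc T).mul_mem ((Wc T).inv_mem hb) h1
    · left
      refine ⟨?_, hb⟩
      rcases hcos b b.2 with h1 | h1
      · exact absurd h1 hb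
      · show (b : T) * n' ∈ Wc T
        have h2 : (b : T) * n' = (b : T) * n'⁻¹ * n' ^ 2 := by group
        rw [h2]
        exact (Wc T).mul_mem h1 hn'2
  have : (Wc T).relIndex (Nc T) = 2 := hidx
  omega

/-- `F1` from the exponent of `Z_3`. -/
theorem F1_aux (h : Str T) (hexp : ∀ z ∈ Subgroup.upperCentralSeries T 3, z ^ 2 = 1) :
    ∀ w ∈ Wc T, ∀ k ∈ Nc T, ⁅w, k * w * k⁻¹⁆ ∈ Subgroup.upperCentralSeries T 2 := by
  intro w hw k hk
  have hnorm : (Wc T).Normal := inferInstance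
  have hu : k * w * k⁻¹ ∈ Wc T := hnorm.conj_mem w hw k
  have hc3 : ⁅w, k * w * k⁻¹⁆ ∈ Subgroup.upperCentralSeries T 3 := comm_mem h w hw _ hu
  by_cases hkW : k ∈ Wc T
  · have hz : ⁅k, w⁆ ∈ Subgroup.upperCentralSeries T 3 := comm_mem h k hkW w hw
    have h1 : k * w * k⁻¹ = ⁅k, w⁆ * w := by rw [commutatorElement_def]; group
    have h2 : w * ⁅k, w⁆ = ⁅k, w⁆ * w := commute_Z3 w hw _ hz
    have h3 : ⁅w, k * w * k⁻¹⁆ = 1 := by
      rw [commutatorElement_eq_one_iff_mul_comm, h1, ← mul_assoc, h2, mul_assoc]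
    rw [h3]
    exact one_mem _
  · apply Nc_fix h k hk hkW _ hc3
    have hq : k ^ 2 ∈ Wc T := Nc_sq_aux hexp k hk
    have hz' : ⁅k ^ 2, w⁆ ∈ Subgroup.upperCentralSeries T 3 := comm_mem h _ hq w hw
    have e1 : k * ⁅w, k * w * k⁻¹⁆ * k⁻¹ = ⁅k * w * k⁻¹, ⁅k ^ 2, w⁆ * w⁆ := by
      simp only [commutatorElement_def, pow_two]; group
    have e2 : ⁅k * w * k⁻¹, ⁅k ^ 2, w⁆ * w⁆ = ⁅k * w * k⁻¹, ⁅k ^ 2, w⁆⁆ * ⁅k * w * k⁻¹, w⁆ :=
      comm_mul_right h _ hu _ (Z3_le_W h hz') w hw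
    have e3 : ⁅k * w * k⁻¹, ⁅k ^ 2, w⁆⁆ = 1 := by
      rw [commutatorElement_eq_one_iff_mul_comm]
      exact commute_Z3 _ hu _ hz'
    have e4 : ⁅k * w * k⁻¹, w⁆ = ⁅w, k * w * k⁻¹⁆⁻¹ := (commutatorElement_inv _ _).symm
    have e5 : ⁅w, k * w * k⁻¹⁆⁻¹ = ⁅w, k * w * k⁻¹⁆ := by
      have := hexp _ hc3
      rw [inv_eq_iff_mul_eq_one, ← pow_two]
      exact this
    have e6 : k * ⁅w, k * w * k⁻¹⁆ * k⁻¹ = ⁅w, k * w * k⁻¹⁆ := by
      rw [e1, e2, e3, one_mul, e4, e5]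
    calc k * ⁅w, k * w * k⁻¹⁆ = k * ⁅w, k * w * k⁻¹⁆ * k⁻¹ * k := by group
      _ = ⁅w, k * w * k⁻¹⁆ * k := by rw [e6]

end Cfsg.Agent.Lib.Helper8_RU_NHATa
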