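import Mathlib
import Cfsg.Agent.Lib.Helper56_RuDefs
import Cfsg.Agent.Lib.Helper56_RuBasic
import Cfsg.Agent.Lib.Helper8_RU_NHATa
import Cfsg.Agent.Lib.Helper42_RU_EXP
import Cfsg.Agent.Lib.Helper42_RU_QUADaux

/-!
# ru_packages QUAD (helper56's S3174 market): `⁅⁅w,k⁆,k⁆, ⁅⁅w,k⁆,k⁻¹⁆ ∈ Z_3` for `w ∈ W`, `k ∈ N`
(verbatim wrapper of `Helper42_RU_QUADaux.quad_of` over helper8's `Nc_sq_aux` and `exp_Z3`).
-/

set_option autoImplicit false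

open scoped commutatorElement
open Cfsg.Agent.Lib.Helper56_RuDefs Cfsg.Agent.Lib.Helper56_RuBasic

namespace Cfsg.Agent.Lib.Helper42_RU_QUAD

variable {T : Type*} [Group T]

/-- QUAD. -/
theorem quad (h : Str T) : ∀ w ∈ Wc T, ∀ k ∈ Nc T,
    ⁅⁅w, k⁆, k⁆ ∈ Subgroup.upperCentralSeries T 3 ∧ ⁅⁅w, k⁆, k⁻¹⁆ ∈ Subgroup.upperCentralSeries T 3 :=
  Helper42_RU_QUADaux.quad_of h (Helper8_RU_NHATa.Nc_sq_aux (Helper42_RU_EXP.exp_Z3 h))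

end Cfsg.Agent.Lib.Helper42_RU_QUAD
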