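import Mathlib
import Cfsg.Agent.Lib.Helper99_SingerEmb
import Cfsg.Agent.Lib.Helper99_Singer

/-!
# S2496-BLK

A matrix commuting with an irreducible element of prime order `r` of `GL_m(q²)` lies in a field of
order `q^(2m)`; if the `(q-1)`-th power of its determinant is `1`, its `(M/d)`-th power is a scalar
of order dividing `d`.  Adapted from helper99's `lt_of_exists` in `Cfsg/Agent/S2495.lean`.
-/

set_option autoImplicit false

namespace Cfsg.Agent.Lib.Helper42_S2496_BLK

open Matrix Cfsg.Agent.Lib.Helper99_SingerEmb Cfsg.Agent.Lib.Helper99_Singer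

theorem BLK {F : Type*} [Field F] [Fintype F] {q : ℕ} (hF : Fintype.card F = q ^ 2) {m : ℕ}
    (hm : 0 < m) (r : ℕ) (hr : r.Prime)
    (hord : orderOf ((q ^ 2 : ℕ) : ZMod r) = m)
    (Y A : Matrix (Fin m) (Fin m) F) (hYr : Y ^ r = 1) (hY1 : Y ≠ 1) (hcomm : A * Y = Y * A)
    (hdet : A.det ^ (q - 1) = 1) (d M' : ℕ) (hd : d ∣ q + 1)
    (hM : (q + 1) * (d * M') = q ^ (2 * m) - 1) :
    ∃ c : F, A ^ M' = c • (1 : Matrix (Fin m) (Fin m) F) ∧ c ^ d = 1 := by
  classical
  have hq2 : 2 ≤ q := by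
    by_contra hlt
    have h1 : q ≤ 1 := by omega
    have h2 : Fintype.card F ≤ 1 := by
      rw [hF]
      calc q ^ 2 ≤ 1 ^ 2 := Nat.pow_le_pow_left h1 2
        _ = 1 := one_pow 2
    have := Fintype.one_lt_card (α := F)
    omega
  set Ty : Module.End F (Fin m → F) := Matrix.toLinAlgEquiv' Y with hTy
  set Tg : Module.End F (Fin m → F) := Matrix.toLinAlgEquiv' A with hTg
  have hTyr : Ty ^ r = 1 := by rw [hTy, ← map_pow, hYr, map_one]
  have hTy1 : Ty ≠ 1 := fun h => hY1 (Matrix.toLinAlgEquiv'.injective (h.trans (map_one _).symm))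
  have hfr : Module.finrank F (Fin m → F) = m := Module.finrank_fin_fun F
  have hirr : ∀ W : Submodule F (Fin m → F), (∀ w ∈ W, Ty w ∈ W) → W ≠ ⊥ → W = ⊤ :=
    irreducible_of_ppd Ty hr hTyr hTy1 (by rw [hF, hord, hfr])
  have hTgC : Tg ∈ centAlg Ty := by
    rw [mem_centAlg, hTy, hTg, ← map_mul, ← map_mul, hcomm]
  set v₀ : Fin m → F := Pi.single ⟨0, hm⟩ 1 with hv₀def
  have hv₀ : v₀ ≠ 0 := by
    intro h
    have := congrFun h ⟨0, hm⟩
    simp [hv₀def] at this
  obtain ⟨hcomm', hinj, hsurj⟩ := centAlg_structure Ty hirr v₀ hv₀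
  obtain ⟨p, hp⟩ := CharP.exists F
  have : Fact p.Prime := ⟨CharP.char_is_prime F p⟩
  have : NeZero m := ⟨hm.ne'⟩
  have hrankE : Module.finrank F (FiniteField.Extension F p m) = m :=
    FiniteField.finrank_extension F p m
  obtain ⟨ψ, hψ⟩ := exists_algHom_to_centAlg Ty hirr v₀ hv₀ hcomm' hinj hsurj
    (K := FiniteField.Extension F p m) (by rw [hrankE, hfr])
  set θ : FiniteField.Extension F p m →ₗ[F] (Fin m → F) :=
    (evLin v₀).comp ψ.toLinearMap with hθ
  have hθapp : ∀ y, θ y = ψ y v₀ := fun y => rfl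
  have hψinj : Function.Injective ψ := by
    have hnt : Nontrivial (Module.End F (Fin m → F)) := by
      refine ⟨⟨0, 1, ?_⟩⟩
      intro h
      have := LinearMap.congr_fun h v₀
      simp only [LinearMap.zero_apply, Module.End.one_apply] at this
      exact hv₀ this.symm
    exact ψ.toRingHom.injective
  have hθinj : Function.Injective θ := by
    rw [← LinearMap.ker_eq_bot, LinearMap.ker_eq_bot']
    intro y hy
    rw [hθapp] at hy
    have := hinj _ (hψ y) hy
    exact hψinj (this.trans (map_zero ψ).symm)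
  have hθsurj : Function.Surjective θ :=
    (LinearMap.injective_iff_surjective_of_finrank_eq_finrank (by rw [hrankE, hfr])).1 hθinj
  obtain ⟨x, hx⟩ := hθsurj (Tg v₀)
  have hψx : ψ x = Tg := by
    have h0 : (Tg - ψ x) v₀ = 0 := by
      rw [LinearMap.sub_apply, ← hθapp, hx, sub_self]
    have := hinj _ ((centAlg Ty).sub_mem hTgC (hψ x)) h0
    exact (sub_eq_zero.1 this).symm
  set θe : FiniteField.Extension F p m ≃ₗ[F] (Fin m → F) :=
    LinearEquiv.ofBijective θ ⟨hθinj, hθsurj⟩ with hθe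
  have hconj : ψ x = θe.conj (Algebra.lmul F (FiniteField.Extension F p m) x) := by
    apply LinearMap.ext
    intro v
    obtain ⟨y, rfl⟩ := hθsurj v
    rw [LinearEquiv.conj_apply]
    simp only [LinearMap.comp_apply, LinearEquiv.coe_coe]
    have h1 : θe.symm (θ y) = y := by
      apply θe.injective
      rw [LinearEquiv.apply_symm_apply]
      rfl
    rw [h1]
    change ψ x (ψ y v₀) = ψ (x * y) v₀
    rw [map_mul]
    rfl
  have hnorm : Algebra.norm F x = A.det := by
    have hdet' : LinearMap.det (ψ x) =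
        LinearMap.det (Algebra.lmul F (FiniteField.Extension F p m) x) := by
      rw [hconj, LinearEquiv.conj_apply, LinearMap.comp_assoc]
      exact LinearMap.det_conj _ θe
    rw [Algebra.norm_apply, ← hdet', hψx]
    change LinearMap.det (Matrix.toLin' A) = A.det
    rw [LinearMap.det_toLin']
  -- the exponent of the norm
  obtain ⟨L, hL⟩ : ∃ L, L = ((q ^ 2) ^ m - 1) / (q ^ 2 - 1) := ⟨_, rfl⟩
  have hLmul : (q ^ 2 - 1) * L = (q ^ 2) ^ m - 1 := by
    rw [hL]
    exact sub_one_mul_div (q ^ 2) m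
  have hxL : x ^ L = algebraMap F (FiniteField.Extension F p m) A.det := by
    have := FiniteField.algebraMap_norm_eq_pow (K := F) (K' := FiniteField.Extension F p m)
      (x := x)
    rw [hnorm, FiniteField.natCard_extension, Nat.card_eq_fintype_card, hF, ← hL] at this
    exact this.symm
  have hsq : q ^ 2 - 1 = (q + 1) * (q - 1) := by
    obtain ⟨z, rfl⟩ : ∃ z, q = z + 1 := ⟨q - 1, by omega⟩
    simp only [Nat.add_sub_cancel]
    have : (z + 1) ^ 2 = (z + 1 + 1) * z + 1 := by ring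
    rw [this, Nat.add_sub_cancel]
  have hdM : d * M' = (q - 1) * L := by
    have h1 : (q + 1) * (d * M') = (q + 1) * ((q - 1) * L) := by
      rw [hM, ← mul_assoc, ← hsq, hLmul, pow_mul]
    exact Nat.eq_of_mul_eq_mul_left (by omega) h1
  have hxd : (x ^ M') ^ d = 1 := by
    rw [← pow_mul, mul_comm M' d, hdM, mul_comm, pow_mul, hxL, ← map_pow, hdet, map_one]
  have hx'q : (x ^ M') ^ Fintype.card F = x ^ M' := by
    obtain ⟨u, hu⟩ := hd
    have h1 : (x ^ M') ^ (q ^ 2 - 1) = 1 := by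
      rw [hsq, hu, mul_assoc, pow_mul, hxd, one_pow]
    have h2 : q ^ 2 = (q ^ 2 - 1) + 1 := by
      have : 4 ≤ q ^ 2 := by
        calc 4 = 2 ^ 2 := by norm_num
          _ ≤ q ^ 2 := Nat.pow_le_pow_left hq2 2
      omega
    rw [hF, h2, pow_succ, h1, one_mul]
  obtain ⟨c, hc⟩ := (mem_range_iff_pow_card (F := F) (x ^ M')).2 hx'q
  refine ⟨c, ?_, ?_⟩
  · apply Matrix.toLinAlgEquiv'.injective
    rw [map_pow, ← hTg, ← hψx, ← map_pow, ← hc, AlgHom.commutes, Algebra.algebraMap_eq_smul_one,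
      map_smul, map_one]
  · apply (algebraMap F (FiniteField.Extension F p m)).injective
    rw [map_pow, hc, hxd, map_one]

end Cfsg.Agent.Lib.Helper42_S2496_BLK
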