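import Mathlib
import Cfsg.Prelude.Def_Classical
import Cfsg.Agent.Lib.Helper99_SUNDDefs
import Cfsg.Agent.Lib.Helper40_UCases
import Cfsg.Agent.Lib.Helper40_UMatrix
import Cfsg.Agent.Lib.Helper40_UExistMatrix
import Cfsg.Agent.Lib.Helper40_UPrimeOrder
import Cfsg.Agent.Lib.Helper99_SpAtoms
import Cfsg.Agent.Lib.Helper94_HermBridge

set_option autoImplicit false

/-!
Package PU1 of S5954-UD2 (for helper99): extraction of a minimal nondegenerate invariant
subspace ("atom") of a semisimple unitary isometry of odd prime order, outside the fixed space.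
Port of `Helper99_SpAtoms.exists_atom` to the hermitian series of helper40.
-/

namespace Cfsg.Agent.Lib.Helper55_SUND_PU1

open Polynomial Module Matrix
open Cfsg.Agent.Lib.Helper40_SpBasic Cfsg.Agent.Lib.Helper40_UBasic Cfsg.Agent.Lib.Helper99_SUNDDefs
open Cfsg.Agent.Lib.Helper40_Semisimple Cfsg.Agent.Lib.Helper40_SpCyclic
  Cfsg.Agent.Lib.Helper40_UCyclic Cfsg.Agent.Lib.Helper40_UMatch
  Cfsg.Agent.Lib.Helper40_UHyperbolic Cfsg.Agent.Lib.Helper40_UCases
  Cfsg.Agent.Lib.Helper40_Palindromic Cfsg.Agent.Lib.Helper40_SpExist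
  Cfsg.Agent.Lib.Helper40_UExist Cfsg.Agent.Lib.Helper40_UPrimeOrder
  Cfsg.Agent.Lib.Helper40_SpPrimeOrder Cfsg.Agent.Lib.Helper40_PolyFactors
  Cfsg.Agent.Lib.Helper40_PrimeOrderClasses
open Cfsg.Agent.Lib.Helper99_InvSub Cfsg.Agent.Lib.Helper99_PrimeOrderSL

universe u

section link

variable {K : Type u} [Field K] (σ : K →+* K)

/-- for a monic irreducible factor `w` of `X ^ N - 1`: `w` divides its adjoint polynomial iff `w`
is self-dual. -/
theorem dvd_pstar_iff_udual_eq (hinv : ∀ c, σ (σ c) = c) (N : ℕ) (hN : 0 < N) (w : K[X])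
    (hwm : w.Monic) (hwi : Irreducible w) (hwd : w ∣ X ^ N - 1) :
    w ∣ pstar σ N w ↔ udual σ w = w := by
  have : Fact (Irreducible w) := ⟨hwi⟩
  have hw0 : w.coeff 0 ≠ 0 := coeff_zero_ne_zero_of_dvd N hN w hwd
  obtain ⟨ρ, hρ⟩ : ∃ ρ, ρ = AdjoinRoot.root w := ⟨_, rfl⟩
  have hρ0 : ρ ≠ 0 := by rw [hρ]; exact root_ne_zero w hw0
  have hρN : ρ ^ N = 1 := by
    have h1 : aeval ρ (X ^ N - 1 : K[X]) = 0 := by
      rw [hρ, AdjoinRoot.aeval_eq, AdjoinRoot.mk_eq_zero]
      exact hwd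
    rw [map_sub, map_pow, aeval_X, map_one, sub_eq_zero] at h1
    exact h1
  have hρinv : ρ ^ (N - 1) = ρ⁻¹ := by
    apply eq_inv_of_mul_eq_one_left
    rw [← pow_succ, Nat.sub_add_cancel hN, hρN]
  have hkey : w ∣ pstar σ N w ↔ aeval ρ⁻¹ (w.map σ) = 0 := by
    rw [← hρinv, ← expand_aeval, hρ, AdjoinRoot.aeval_eq, AdjoinRoot.mk_eq_zero]
  rw [hkey]
  have hroot'' : aeval ρ w = 0 := by rw [hρ, AdjoinRoot.aeval_eq, AdjoinRoot.mk_self]
  constructor
  · intro h
    have hroot' : aeval ρ (udual σ w) = 0 := aeval_recip_of_aeval_inv _ ρ hρ0 h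
    exact (minpoly.eq_of_irreducible_of_monic (udual_irreducible σ hinv w hwi hw0) hroot'
      (udual_monic σ w hw0)).trans (minpoly.eq_of_irreducible_of_monic hwi hroot'' hwm).symm
  · intro h
    rw [map_eq_recip_of_udual_eq σ w hwm hw0 h, hρ]
    exact aeval_inv_root_recip w hw0

end link

section basic

variable {K : Type*} [Field K] {σ : K →+* K} {V : Type*} [AddCommGroup V] [Module K V]

/-- the range of `T - 1` is orthogonal to the fixed space of an isometry. -/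
theorem range_orth_fix {B : V →ₗ[K] V →ₛₗ[σ] K} {T : Module.End K V}
    (hiso : ∀ x y, B (T x) (T y) = B x y) {u v : V} (hu : u ∈ LinearMap.range (T - 1))
    (hv : T v = v) : B u v = 0 := by
  obtain ⟨x, rfl⟩ := hu
  rw [LinearMap.sub_apply, Module.End.one_apply, map_sub, LinearMap.sub_apply]
  nth_rewrite 1 [← hv]
  rw [hiso, sub_self]

end basic

/-- the degree of the irreducible factors of `X ^ r - 1` over the field with `q ^ 2` elements, in
terms of `uAtomDim`. -/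
theorem degree_cases (q r : ℕ) (d : ℕ) (hd : d = orderOf (((q ^ 2 : ℕ) : ℕ) : ZMod r)) :
    (orderOf ((q : ℕ) : ZMod r) % 4 = 2 → uAtomDim q r = d) ∧
    (orderOf ((q : ℕ) : ZMod r) % 4 ≠ 2 → uAtomDim q r = d + d) := by
  have h1 : d = orderOf ((q : ℕ) : ZMod r) / Nat.gcd (orderOf ((q : ℕ) : ZMod r)) 2 := by
    rw [hd, Nat.cast_pow, orderOf_pow' _ two_ne_zero]
  obtain ⟨i, hi⟩ : ∃ i, i = orderOf ((q : ℕ) : ZMod r) := ⟨_, rfl⟩
  rw [uAtomDim_def, ← hi]
  rw [← hi] at h1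
  constructor
  · intro h4
    have hg : Nat.gcd i 2 = 2 := by
      have h2 : 2 ∣ i := by omega
      exact Nat.gcd_eq_right h2
    rw [hg] at h1
    rw [if_neg (by omega), if_pos h4, h1]
  · intro h4
    by_cases h0 : i % 4 = 0
    · have hg : Nat.gcd i 2 = 2 := by
        have h2 : 2 ∣ i := by omega
        exact Nat.gcd_eq_right h2
      rw [hg] at h1
      rw [if_pos h0, h1]
      omega
    · have hg : Nat.gcd i 2 = 1 := by
        have h2 : ¬ 2 ∣ i := by omega
        exact (Nat.Coprime.symm ((Nat.Prime.coprime_iff_not_dvd Nat.prime_two).2 h2))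
      rw [hg, Nat.div_one] at h1
      rw [if_neg h0, if_neg h4, h1, two_mul]

/-- PU1: extraction of a minimal nondegenerate invariant subspace ("atom") outside the fixed space
(port of `Helper99_SpAtoms.exists_atom` to the U-series). -/
theorem PU1 {K : Type u} [Field K] [Fintype K] {p : ℕ} [Fact p.Prime] [CharP K p] {q : ℕ}
    (hK : Fintype.card K = q ^ 2) {σ : K →+* K} (hσq : ∀ x, σ x = x ^ q)
    {V : Type u} [AddCommGroup V] [Module K V] [FiniteDimensional K V]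
    {B : V →ₗ[K] V →ₛₗ[σ] K} {T : Module.End K V} {r : ℕ}
    (h : UData B T r) (hB : UND B) (hr : r.Prime) (hr2 : r ≠ 2) (hrp : r ≠ p)
    (hC : LinearMap.range (T - 1) ≠ ⊥) :
    ∃ Z : Submodule K V, Inv T Z ∧ UNDOn B Z ∧ finrank K Z = uAtomDim q r ∧
      Z ≤ LinearMap.range (T - 1) := by
  classical
  have hinv : ∀ c, σ (σ c) = c := h.invol
  have hσne : ∃ θ, σ θ ≠ θ := by
    obtain ⟨σ', hσ', hI⟩ := Cfsg.Agent.Lib.Helper94_HermBridge.exists_frob hK
    have : σ = σ' := RingHom.ext (fun x => by rw [hσq, hσ'])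
    rw [this]
    exact hI.ne_id
  have hrF : ((r : ℕ) : K) ≠ 0 := natCast_ne_zero hr hrp
  have hTr : T ^ r = 1 := h.pow
  have hss : T.IsSemisimple := isSemisimple_of_pow_eq_one T r hrF hTr
  obtain ⟨hipos, W, -, hW1, hW2⟩ := exists_cyclotomic_factors (F := K) p r hr hrp
  obtain ⟨i, hi⟩ : ∃ i, i = orderOf ((q : ℕ) : ZMod r) := ⟨_, rfl⟩
  obtain ⟨d, hd⟩ : ∃ d, d = orderOf ((Fintype.card K : ℕ) : ZMod r) := ⟨_, rfl⟩
  have hd' : d = orderOf (((q ^ 2 : ℕ) : ℕ) : ZMod r) := by rw [hd, hK]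
  obtain ⟨hdeg2, hdegn⟩ := degree_cases q r d hd'
  obtain ⟨v, hvC, hv0⟩ := Submodule.exists_mem_ne_zero_of_ne_bot hC
  have hP0 : (X ^ r - 1 : K[X]) ≠ 0 := by
    have : (X ^ r - 1 : K[X]) = X ^ r - C 1 := by rw [map_one]
    rw [this]; exact X_pow_sub_C_ne_zero hr.pos 1
  have hPT : aeval T (X ^ r - 1 : K[X]) = 0 := by
    rw [map_sub, map_pow, aeval_X, map_one, hTr, sub_self]
  obtain ⟨w, hwm, hwi, hwd, Q, hQ1, hQ2⟩ :=
    exists_irreducible_factor_vec T _ (X ^ r - 1) rfl hP0 v hv0 (by rw [hPT]; rfl)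
  obtain ⟨u, hu⟩ : ∃ u, u = aeval T Q v := ⟨_, rfl⟩
  rw [← hu] at hQ1 hQ2
  have hCinv : Inv T (LinearMap.range (T - 1)) := Cfsg.Agent.Lib.Helper99_SpAtoms.inv_range_sub_one T
  have huC : u ∈ LinearMap.range (T - 1) := by rw [hu]; exact hCinv.aeval_mem Q hvC
  have hdisjFC := Cfsg.Agent.Lib.Helper99_SpAtoms.disjoint_fix_range hrF hTr
  have hw1 : w ≠ X - 1 := by
    intro h'
    rw [h', map_sub, aeval_X, map_one, LinearMap.sub_apply, Module.End.one_apply, sub_eq_zero]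
      at hQ2
    apply hQ1
    apply Submodule.disjoint_def.1 hdisjFC u _ huC
    rw [Module.End.mem_eigenspace_iff, one_smul]
    exact hQ2
  have hwW : w ∈ W := (hW2 w hwm hwi hwd).resolve_left hw1
  have hwdeg : w.natDegree = d := by rw [hd]; exact (hW1 w hwW).2.2.2.2
  have hw0 : w.coeff 0 ≠ 0 := coeff_zero_ne_zero_of_dvd r hr.pos w hwd
  have hw11 : w.eval 1 ≠ 0 := eval_one_ne_zero w hwm hwi hw1
  -- vectors killed by `w(T)` lie in the range of `T - 1`
  have hkerC : ∀ u' : V, aeval T w u' = 0 → u' ∈ LinearMap.range (T - 1) := by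
    intro u' hu'
    have hZinv : Inv T (LinearMap.ker (aeval T w)) := by
      intro x hx
      rw [LinearMap.mem_ker] at hx ⊢
      have : aeval T w (T x) = T (aeval T w x) := by
        rw [← Module.End.mul_apply, ← Module.End.mul_apply]
        congr 1
        have h1 : aeval T (w * X) = aeval T (X * w) := by rw [mul_comm]
        rwa [map_mul, map_mul, aeval_X] at h1
      rw [this, hx, map_zero]
    have hZdisj : Disjoint (LinearMap.ker (aeval T w)) (Module.End.eigenspace T 1) := by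
      rw [Submodule.disjoint_def]
      intro x hx1 hx2
      rw [LinearMap.mem_ker] at hx1
      rw [Module.End.mem_eigenspace_iff, one_smul] at hx2
      rw [Cfsg.Agent.Lib.Helper99_SpAtoms.aeval_apply_of_fix T hx2] at hx1
      exact (smul_eq_zero.1 hx1).resolve_left hw11
    exact Cfsg.Agent.Lib.Helper99_SpAtoms.le_range_of_disjoint_fix hr.pos hrF hTr hZinv hZdisj
      (LinearMap.mem_ker.2 hu')
  have hcycC : ∀ u' : V, aeval T w u' = 0 → cyc T u' ≤ LinearMap.range (T - 1) := by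
    intro u' hu'
    rintro _ ⟨q', rfl⟩
    rw [orbitMap_apply]
    exact hCinv.aeval_mem q' (hkerC u' hu')
  by_cases hi4 : orderOf ((q : ℕ) : ZMod r) % 4 = 2
  · -- self-dual case
    have hdual : udual σ w = w :=
      udual_eq_of_mod4 σ p hK hσq r i hr hi (by rw [hi]; exact hi4) w hwm hwi hw1 hwd
    have hdvd : w ∣ pstar σ r w :=
      (dvd_pstar_iff_udual_eq σ hinv r hr.pos w hwm hwi hwd).2 hdual
    have hex : ∃ u₁ : V, aeval T w u₁ = 0 ∧ ∃ q' : K[X], B (aeval T q' u₁) u₁ ≠ 0 := by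
      by_contra hcon
      apply caseB_false hσne h hB hss u hQ1 w hwi hQ2 _ hdvd
      intro u' hu' q'
      by_contra hne
      exact hcon ⟨u', hu', q', hne⟩
    obtain ⟨u₁, hu₁, q', hq'⟩ := hex
    have hu₁0 : u₁ ≠ 0 := by
      rintro rfl
      apply hq'
      simp
    refine ⟨cyc T u₁, inv_range_orbitMap T u₁, undOn_cyc h u₁ w hwi hu₁ q' hq', ?_,
      hcycC u₁ hu₁⟩
    rw [Cfsg.Agent.Lib.Helper99_SpAtoms.finrank_cyc T u₁ hu₁0 w hwi hu₁, hwdeg, hdeg2 hi4]
  · -- the hyperbolic case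
    have hcase : ∀ u' : V, aeval T w u' = 0 → ∀ q' : K[X], B (aeval T q' u') u' = 0 := by
      intro u' hu' q'
      by_contra hne
      have h1 := dvd_pstar_of_moment h u' w hwi hu' q' hne
      have h2 := (dvd_pstar_iff_udual_eq σ hinv r hr.pos w hwm hwi hwd).1 h1
      have h3 := mod4_of_udual_eq σ p hK hσq hσne r i hr hr2 hi w hwm hwi hw1 hwd h2
      rw [hi] at h3
      exact hi4 h3
    obtain ⟨Z₁, hZ₁inv, hcompl, hiso1⟩ := exists_hyperbolic h hB hss u hQ1 w hwi hQ2 hcase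
    have hiso0 : UIsoOn B (cyc T u) := uIsoOn_cyc h u (hcase u hQ2)
    have hp : UHypPair B T (cyc T u) Z₁ :=
      ⟨inv_range_orbitMap T u, hZ₁inv, hiso0, hiso1, hcompl⟩
    have hZ₀C : cyc T u ≤ LinearMap.range (T - 1) := hcycC u hQ2
    have hZ₁C : Z₁ ≤ LinearMap.range (T - 1) := by
      apply Cfsg.Agent.Lib.Helper99_SpAtoms.le_range_of_disjoint_fix hr.pos hrF hTr hZ₁inv
      rw [Submodule.disjoint_def]
      intro x hx1 hx2
      rw [Module.End.mem_eigenspace_iff, one_smul] at hx2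
      apply hp.pairing_injective hx1
      intro z0 hz0
      exact range_orth_fix h.iso (hZ₀C hz0) hx2
    refine ⟨cyc T u ⊔ Z₁, hp.inv_sup, hp.undOn_sup h hB, ?_, sup_le hZ₀C hZ₁C⟩
    rw [finrank_sup_of_disjoint hp.disjoint, hp.finrank_eq h hB,
      Cfsg.Agent.Lib.Helper99_SpAtoms.finrank_cyc T u hQ1 w hwi hQ2, hwdeg, hdegn hi4]

end Cfsg.Agent.Lib.Helper55_SUND_PU1
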