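import Mathlib
import Cfsg.Prelude.Def_Classical
import Cfsg.Agent.Lib.Helper55_SUND_PU1
import Cfsg.Agent.Lib.Helper40_UClasses
import Cfsg.Agent.Lib.Helper5_SUOrder
import Cfsg.Agent.Lib.Helper40_UMatrix

/-!
# S2496-DEC

A unitary matrix `Y` of prime order `r` on the standard hermitian space of dimension `2m`, where
`ord_r(q²) = m` and `ord_r(q) ≢ 2 (mod 4)`: the space is the direct sum of two totally singular
`m`-spaces (the two primary components), each invariant under the commutant of `Y`.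
Follows the hyperbolic case of helper55's `Helper55_SUND_PU1.PU1`.
-/

set_option autoImplicit false

namespace Cfsg.Agent.Lib.Helper42_S2496_DEC

open Polynomial Module Matrix
open Cfsg.Agent.Lib.Helper40_SpBasic Cfsg.Agent.Lib.Helper40_UBasic
open Cfsg.Agent.Lib.Helper40_Semisimple Cfsg.Agent.Lib.Helper40_SpCyclic
  Cfsg.Agent.Lib.Helper40_UCyclic Cfsg.Agent.Lib.Helper40_UMatch
  Cfsg.Agent.Lib.Helper40_UHyperbolic Cfsg.Agent.Lib.Helper40_UCases
  Cfsg.Agent.Lib.Helper40_Palindromic Cfsg.Agent.Lib.Helper40_SpExist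
  Cfsg.Agent.Lib.Helper40_UExist Cfsg.Agent.Lib.Helper40_UPrimeOrder
  Cfsg.Agent.Lib.Helper40_SpPrimeOrder Cfsg.Agent.Lib.Helper40_PolyFactors
  Cfsg.Agent.Lib.Helper40_PrimeOrderClasses Cfsg.Agent.Lib.Helper55_SUND_PU1
open Cfsg.Agent.Lib.Helper99_InvSub Cfsg.Agent.Lib.Helper99_PrimeOrderSL

universe u

section abs

variable {K : Type u} [Field K] {σ : K →+* K} {V : Type u} [AddCommGroup V] [Module K V]
variable {B : V →ₗ[K] V →ₛₗ[σ] K} {T : Module.End K V} {N : ℕ}

/-- polarisation: a subspace all of whose vectors are isotropic is totally isotropic -/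
theorem uIsoOn_of_self (h : UData B T N) (hσne : ∃ θ, σ θ ≠ θ) (Z : Submodule K V)
    (hZ : ∀ x ∈ Z, B x x = 0) : UIsoOn B Z := by
  have hsum : ∀ x ∈ Z, ∀ y ∈ Z, B x y + σ (B x y) = 0 := by
    intro x hx y hy
    have h1 := hZ (x + y) (Z.add_mem hx hy)
    simp only [map_add, LinearMap.add_apply] at h1
    rw [hZ x hx, hZ y hy, zero_add, add_zero, h.herm x y] at h1
    rw [add_comm]
    exact h1
  intro x hx y hy
  obtain ⟨t, ht⟩ := hσne
  have h1 := hsum x hx y hy
  have h2 := hsum (t • x) (Z.smul_mem t hx) y hy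
  rw [map_smul, LinearMap.smul_apply, smul_eq_mul, map_mul] at h2
  have h3 : σ (B x y) = - B x y := by
    rw [eq_neg_iff_add_eq_zero, add_comm]
    exact h1
  rw [h3] at h2
  have h4 : (t - σ t) * B x y = 0 := by
    rw [sub_mul, sub_eq_add_neg, ← mul_neg]
    exact h2
  rcases mul_eq_zero.1 h4 with h5 | h5
  · exact absurd (sub_eq_zero.1 h5).symm ht
  · exact h5

/-- a totally isotropic subspace has at most half the dimension -/
theorem finrank_le_of_uIsoOn [Finite K] [FiniteDimensional K V] (h : UData B T N) (hB : UND B)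
    (Z : Submodule K V) (hZ : UIsoOn B Z) : 2 * finrank K Z ≤ finrank K V := by
  have h1 := finrank_orth h hB Z
  have h2 : Z ≤ orth B Z := by
    intro y hy
    rw [mem_orth]
    intro x hx
    exact hZ x hx y hy
  have h3 := Submodule.finrank_mono h2
  omega

theorem commute_aeval (S T : Module.End K V) (hST : Commute S T) (p : K[X]) :
    Commute S (aeval T p) := by
  induction p using Polynomial.induction_on' with
  | add p q hp hq =>
    rw [map_add]
    exact hp.add_right hq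
  | monomial n c =>
    rw [← C_mul_X_pow_eq_monomial, map_mul, aeval_C, map_pow, aeval_X]
    exact (Algebra.commute_algebraMap_right c S).mul_right (hST.pow_right n)

theorem cyc_le_ker (T : Module.End K V) (w : K[X]) (u : V) (hu : aeval T w u = 0) :
    cyc T u ≤ LinearMap.ker (aeval T w) := by
  rintro _ ⟨q', rfl⟩
  rw [orbitMap_apply, LinearMap.mem_ker, ← Module.End.mul_apply, ← map_mul, mul_comm, map_mul,
    Module.End.mul_apply, hu, map_zero]

end abs

/-- the abstract decomposition -/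
theorem dec_abs {K : Type u} [Field K] [Fintype K] {p : ℕ} [Fact p.Prime] [CharP K p] {q : ℕ}
    (hK : Fintype.card K = q ^ 2) {σ : K →+* K} (hσq : ∀ x, σ x = x ^ q)
    {V : Type u} [AddCommGroup V] [Module K V] [FiniteDimensional K V]
    {B : V →ₗ[K] V →ₛₗ[σ] K} {T : Module.End K V} {r : ℕ}
    (h : UData B T r) (hB : UND B) (hr : r.Prime) (hr2 : r ≠ 2) (hrp : r ≠ p)
    (hT1 : T ≠ 1) (m : ℕ) (hord : orderOf ((q ^ 2 : ℕ) : ZMod r) = m)
    (hmod4 : orderOf ((q : ℕ) : ZMod r) % 4 ≠ 2) (hdim : finrank K V = m + m)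
    (hchar : udual σ T.charpoly = T.charpoly) :
    ∃ w w' : K[X],
      IsCompl (LinearMap.ker (aeval T w)) (LinearMap.ker (aeval T w')) ∧
      finrank K (LinearMap.ker (aeval T w)) = m ∧ finrank K (LinearMap.ker (aeval T w')) = m ∧
      UIsoOn B (LinearMap.ker (aeval T w)) ∧ UIsoOn B (LinearMap.ker (aeval T w')) := by
  classical
  have hinv : ∀ c, σ (σ c) = c := h.invol
  have hσne : ∃ θ, σ θ ≠ θ := by
    obtain ⟨σ', hσ', hI⟩ := Cfsg.Agent.Lib.Helper94_HermBridge.exists_frob hK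
    have : σ = σ' := RingHom.ext (fun x => by rw [hσq, hσ'])
    rw [this]
    exact hI.ne_id
  have hrF : ((r : ℕ) : K) ≠ 0 := natCast_ne_zero hr hrp
  have hTr : T ^ r = 1 := h.pow
  obtain ⟨hipos, W, -, hW1, hW2⟩ := exists_cyclotomic_factors (F := K) p r hr hrp
  obtain ⟨i, hi⟩ : ∃ i, i = orderOf ((q : ℕ) : ZMod r) := ⟨_, rfl⟩
  have hd : orderOf ((Fintype.card K : ℕ) : ZMod r) = m := by rw [hK, hord]
  -- a nonzero vector in the range of `T - 1`
  have hC : LinearMap.range (T - 1) ≠ ⊥ := by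
    intro h0
    apply hT1
    apply LinearMap.ext
    intro x
    have : (T - 1) x ∈ LinearMap.range (T - 1) := ⟨x, rfl⟩
    rw [h0, Submodule.mem_bot, LinearMap.sub_apply, Module.End.one_apply, sub_eq_zero] at this
    rw [this, Module.End.one_apply]
  obtain ⟨v, hvC, hv0⟩ := Submodule.exists_mem_ne_zero_of_ne_bot hC
  have hP0 : (X ^ r - 1 : K[X]) ≠ 0 := by
    have : (X ^ r - 1 : K[X]) = X ^ r - C 1 := by rw [map_one]
    rw [this]; exact X_pow_sub_C_ne_zero hr.pos 1
  have hPT : aeval T (X ^ r - 1 : K[X]) = 0 := by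
    rw [map_sub, map_pow, aeval_X, map_one, hTr, sub_self]
  obtain ⟨w, hwm, hwi, hwd, Q, hQ1, hQ2⟩ :=
    exists_irreducible_factor_vec T _ (X ^ r - 1) rfl hP0 v hv0 (by rw [hPT]; rfl)
  obtain ⟨u, hu⟩ : ∃ u, u = aeval T Q v := ⟨_, rfl⟩
  rw [← hu] at hQ1 hQ2
  have hCinv : Inv T (LinearMap.range (T - 1)) :=
    Cfsg.Agent.Lib.Helper99_SpAtoms.inv_range_sub_one T
  have huC : u ∈ LinearMap.range (T - 1) := by rw [hu]; exact hCinv.aeval_mem Q hvC
  have hdisjFC := Cfsg.Agent.Lib.Helper99_SpAtoms.disjoint_fix_range hrF hTr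
  have hw1 : w ≠ X - 1 := by
    intro h'
    rw [h', map_sub, aeval_X, map_one, LinearMap.sub_apply, Module.End.one_apply, sub_eq_zero]
      at hQ2
    apply hQ1
    apply Submodule.disjoint_def.1 hdisjFC u _ huC
    rw [Module.End.mem_eigenspace_iff, one_smul]
    exact hQ2
  have hwW : w ∈ W := (hW2 w hwm hwi hwd).resolve_left hw1
  have hwdeg : w.natDegree = m := by rw [← hd]; exact (hW1 w hwW).2.2.2.2
  have hw0 : w.coeff 0 ≠ 0 := coeff_zero_ne_zero_of_dvd r hr.pos w hwd
  -- the dual polynomial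
  obtain ⟨w', hw'⟩ : ∃ w', w' = udual σ w := ⟨_, rfl⟩
  have hw'm : w'.Monic := by rw [hw']; exact udual_monic σ w hw0
  have hw'i : Irreducible w' := by rw [hw']; exact udual_irreducible σ hinv w hwi hw0
  have hw'd : w' ∣ X ^ r - 1 := by
    have := udual_dvd σ hwd
    rwa [udual_X_pow_sub_one σ r hr.pos, ← hw'] at this
  have hw'1 : w' ≠ X - 1 := by
    intro h'
    apply hw1
    rw [← udual_udual σ hinv w hwm hw0, ← hw', h', udual_X_sub_one]
  have hw'W : w' ∈ W := (hW2 w' hw'm hw'i hw'd).resolve_left hw'1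
  have hw'deg : w'.natDegree = m := by rw [← hd]; exact (hW1 w' hw'W).2.2.2.2
  have hne : w ≠ w' := by
    intro heq
    have h2 : udual σ w = w := by rw [← hw', ← heq]
    have h3 := mod4_of_udual_eq σ p hK hσq hσne r i hr hr2 hi w hwm hwi hw1 hwd h2
    rw [hi] at h3
    exact hmod4 h3
  have hne' : udual σ w' ≠ w' := by
    rw [hw', udual_udual σ hinv w hwm hw0, ← hw']
    exact hne
  -- isotropy of the kernels
  have hcase : ∀ (f : K[X]), f.Monic → Irreducible f → f ≠ X - 1 → f ∣ X ^ r - 1 →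
      udual σ f ≠ f → ∀ u' : V, aeval T f u' = 0 → B u' u' = 0 := by
    intro f hfm hfi hf1 hfd hfne u' hu'
    by_contra hne0
    have h1 := dvd_pstar_of_moment h u' f hfi hu' 1 (by rwa [map_one, Module.End.one_apply])
    have h2 := (dvd_pstar_iff_udual_eq σ hinv r hr.pos f hfm hfi hfd).1 h1
    exact hfne h2
  have hiso0 : UIsoOn B (LinearMap.ker (aeval T w)) := by
    apply uIsoOn_of_self h hσne
    intro x hx
    exact hcase w hwm hwi hw1 hwd (by rw [← hw']; exact hne.symm) x (LinearMap.mem_ker.1 hx)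
  have hiso1 : UIsoOn B (LinearMap.ker (aeval T w')) := by
    apply uIsoOn_of_self h hσne
    intro x hx
    exact hcase w' hw'm hw'i hw'1 hw'd hne' x (LinearMap.mem_ker.1 hx)
  have hle0 := finrank_le_of_uIsoOn h hB _ hiso0
  have hle1 := finrank_le_of_uIsoOn h hB _ hiso1
  -- lower bounds
  have hge0 : m ≤ finrank K (LinearMap.ker (aeval T w)) := by
    have h1 := Submodule.finrank_mono (cyc_le_ker T w u hQ2)
    rwa [Cfsg.Agent.Lib.Helper99_SpAtoms.finrank_cyc T u hQ1 w hwi hQ2, hwdeg] at h1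
  -- `w` divides the characteristic polynomial
  have hwc : w ∣ T.charpoly := by
    have h1 : w ∣ minpoly K T := by
      by_contra hnd
      have hcop : IsCoprime w (minpoly K T) := (hwi.coprime_iff_not_dvd).2 hnd
      obtain ⟨a, b, hab⟩ := hcop
      apply hQ1
      have h2 := congrArg (fun f => aeval T f u) hab
      simp only [map_add, map_mul, map_one, minpoly.aeval, mul_zero, add_zero,
        Module.End.mul_apply, Module.End.one_apply, hQ2, map_zero] at h2
      exact h2.symm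
    exact h1.trans (LinearMap.minpoly_dvd_charpoly T)
  have hw'c : w' ∣ T.charpoly := by
    have := udual_dvd σ hwc
    rwa [hchar, ← hw'] at this
  obtain ⟨u', hu'0, hu'⟩ := exists_ne_zero_aeval_eq_zero T w' hw'i hw'c
  have hge1 : m ≤ finrank K (LinearMap.ker (aeval T w')) := by
    have h1 := Submodule.finrank_mono (cyc_le_ker T w' u' hu')
    rwa [Cfsg.Agent.Lib.Helper99_SpAtoms.finrank_cyc T u' hu'0 w' hw'i hu', hw'deg] at h1
  have hf0 : finrank K (LinearMap.ker (aeval T w)) = m := by omega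
  have hf1 : finrank K (LinearMap.ker (aeval T w')) = m := by omega
  -- complementarity
  have hdisj : Disjoint (LinearMap.ker (aeval T w)) (LinearMap.ker (aeval T w')) := by
    rw [Submodule.disjoint_def]
    intro x hx hx'
    rw [LinearMap.mem_ker] at hx hx'
    obtain ⟨a, b, hab⟩ := isCoprime_of_monic_irreducible_ne hwi hwm hw'i hw'm hne
    have h2 := congrArg (fun f => aeval T f x) hab
    simp only [map_add, map_mul, map_one, Module.End.mul_apply, Module.End.one_apply,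
      LinearMap.add_apply, hx, hx', map_zero, add_zero] at h2
    exact h2.symm
  refine ⟨w, w', ⟨hdisj, ?_⟩, hf0, hf1, hiso0, hiso1⟩
  rw [codisjoint_iff]
  apply Submodule.eq_top_of_finrank_eq
  have h1 := Submodule.finrank_sup_add_finrank_inf_eq (LinearMap.ker (aeval T w))
    (LinearMap.ker (aeval T w'))
  rw [hdisj.eq_bot, finrank_bot, hf0, hf1, add_zero] at h1
  rw [h1, hdim]

/-- **S2496-DEC**. -/
theorem DEC {F : Type*} [Field F] [Fintype F] {q : ℕ} (hF : Fintype.card F = q ^ 2) {m : ℕ}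
    (hm : 0 < m) (r : ℕ) (hr : r.Prime) (hr2 : r ≠ 2) (hrq : ¬ r ∣ q)
    (hord : orderOf ((q ^ 2 : ℕ) : ZMod r) = m)
    (hmod4 : orderOf ((q : ℕ) : ZMod r) % 4 ≠ 2)
    (Y : Matrix (Fin (m + m)) (Fin (m + m)) F)
    (hU : ∀ u v, Cfsg.hermForm (m + m) F q (Y *ᵥ u) (Y *ᵥ v) = Cfsg.hermForm (m + m) F q u v)
    (hYr : Y ^ r = 1) (hY1 : Y ≠ 1) :
    ∃ D₀ D₁ : Submodule F (Fin (m + m) → F),
      IsCompl D₀ D₁ ∧ Module.finrank F D₀ = m ∧ Module.finrank F D₁ = m ∧
      (∀ u ∈ D₀, ∀ v ∈ D₀, Cfsg.hermForm (m + m) F q u v = 0) ∧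
      (∀ u ∈ D₁, ∀ v ∈ D₁, Cfsg.hermForm (m + m) F q u v = 0) ∧
      (∀ A : Matrix (Fin (m + m)) (Fin (m + m)) F, A * Y = Y * A →
        (∀ v ∈ D₀, A *ᵥ v ∈ D₀) ∧ (∀ v ∈ D₁, A *ᵥ v ∈ D₁)) := by
  classical
  obtain ⟨p, hp⟩ := CharP.exists F
  have hpp : Fact p.Prime := ⟨CharP.char_is_prime F p⟩
  have hrp : r ≠ p := by
    rintro rfl
    apply hrq
    obtain ⟨k, hk⟩ := exists_q_eq_pow (K := F) r hF
    rw [hk]
    have hk0 : k ≠ 0 := by
      rintro rfl
      rw [pow_zero] at hk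
      have h1 : Fintype.card F = 1 := by rw [hF, hk, one_pow]
      have := Fintype.one_lt_card (α := F)
      omega
    exact dvd_pow_self r hk0
  obtain ⟨σ, hσq, hI⟩ := Cfsg.Agent.Lib.Helper94_HermBridge.exists_frob hF
  have h := Cfsg.Agent.Lib.Helper40_UMatrix.uData_of_mem σ hσq hI Y hU r hr.pos hYr
  have hB := Cfsg.Agent.Lib.Helper40_UMatrix.und_hermB (n := m + m) σ hσq
  obtain ⟨T, hT⟩ : ∃ T : Module.End F (Fin (m + m) → F), T = Matrix.toLin' Y := ⟨_, rfl⟩
  rw [← hT] at h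
  have hT1 : T ≠ 1 := by
    intro h1
    apply hY1
    apply Matrix.toLin'.injective
    rw [← hT, h1, Matrix.toLin'_one]
    rfl
  have hdim : finrank F (Fin (m + m) → F) = m + m := Module.finrank_fin_fun F
  have hchar : udual σ T.charpoly = T.charpoly := by
    rw [hT, Matrix.charpoly_toLin']
    exact Cfsg.Agent.Lib.Helper40_UClasses.udual_charpoly_of_isU σ hσq hF hI Y hU
  obtain ⟨w, w', hc, hf0, hf1, hiso0, hiso1⟩ :=
    dec_abs hF hσq h hB hr hr2 hrp hT1 m hord hmod4 hdim hchar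
  refine ⟨LinearMap.ker (aeval T w), LinearMap.ker (aeval T w'), hc, hf0, hf1,
    fun u hu v hv => hiso0 u hu v hv, fun u hu v hv => hiso1 u hu v hv, ?_⟩
  intro A hA
  have hST : Commute (Matrix.toLin' A) T := by
    rw [hT]
    show Matrix.toLin' A * Matrix.toLin' Y = Matrix.toLin' Y * Matrix.toLin' A
    rw [Module.End.mul_eq_comp, Module.End.mul_eq_comp, ← Matrix.toLin'_mul, ← Matrix.toLin'_mul,
      hA]
  have key : ∀ f : F[X], ∀ v ∈ LinearMap.ker (aeval T f), A *ᵥ v ∈ LinearMap.ker (aeval T f) := by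
    intro f v hv
    rw [LinearMap.mem_ker] at hv ⊢
    rw [← Matrix.toLin'_apply, ← Module.End.mul_apply, ← (commute_aeval _ T hST f).eq,
      Module.End.mul_apply, hv, map_zero]
  exact ⟨key w, key w'⟩

end Cfsg.Agent.Lib.Helper42_S2496_DEC
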