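import Cfsg.Agent.S2636
import Cfsg.Agent.Lib.Helper13_HermBridge
import Cfsg.Agent.Lib.Helper5_GUOrder

set_option autoImplicit false

/-!
Elements of `GU_n(q)` that a field automorphism `σ` of odd prime order `r` (`q = q₀ ^ r`) maps to a
scalar multiple of themselves: they are the products (norm one scalar) · (element of `GU_n(q₀)` over
the fixed field).
-/

namespace Cfsg.Agent.Lib.Helper43_GUField

open Matrix
open Cfsg.Agent.S2636 Cfsg.Agent.Lib.Helper13_HermBridge Cfsg.Agent.Lib.Helper13_GU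

section norm

variable {K : Type*} [Field K]

/-- the norm one subgroup of the multiplicative group -/
def N1 (K : Type*) [Field K] (q : ℕ) : Subgroup Kˣ := (powMonoidHom (q + 1) : Kˣ →* Kˣ).ker

theorem mem_N1 {q : ℕ} (a : Kˣ) : a ∈ N1 K q ↔ a ^ (q + 1) = 1 := by
  unfold N1
  rw [MonoidHom.mem_ker, powMonoidHom_apply]

theorem sq_eq (q : ℕ) (hq : 1 ≤ q) : q ^ 2 - 1 = (q + 1) * (q - 1) := by
  obtain ⟨r, rfl⟩ : ∃ r, q = r + 1 := ⟨q - 1, by omega⟩
  simp only [Nat.add_sub_cancel]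
  have : (r + 1) ^ 2 = (r + 1 + 1) * r + 1 := by ring
  omega

theorem one_le_of_card [Finite K] {q : ℕ} (hK : Nat.card K = q ^ 2) : 1 ≤ q := by
  rcases Nat.eq_zero_or_pos q with h | h
  · subst h
    have : 0 < Nat.card K := Nat.card_pos
    rw [hK] at this
    simp at this
  · exact h

theorem card_N1 [Finite K] {q : ℕ} (hK : Nat.card K = q ^ 2) : Nat.card ↥(N1 K q) = q + 1 := by
  unfold N1
  rw [IsCyclic.card_powMonoidHom_ker, Nat.card_units, hK]
  apply Nat.gcd_eq_right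
  exact ⟨q - 1, sq_eq q (one_le_of_card hK)⟩

/-- surjectivity of the norm: an element fixed by `x ↦ x ^ q` is a `(q + 1)`-th power -/
theorem exists_pow_eq [Finite K] {q : ℕ} (hK : Nat.card K = q ^ 2) (ν : Kˣ) (hν : ν ^ q = ν) :
    ∃ e : Kˣ, e ^ (q + 1) = ν := by
  have hq := one_le_of_card hK
  let A : Subgroup Kˣ := (powMonoidHom (q + 1) : Kˣ →* Kˣ).range
  let B : Subgroup Kˣ := (powMonoidHom (q - 1) : Kˣ →* Kˣ).ker
  have hcardU : Nat.card Kˣ = (q + 1) * (q - 1) := by rw [Nat.card_units, hK, sq_eq q hq]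
  have hAB : A ≤ B := by
    rintro _ ⟨e, rfl⟩
    show (powMonoidHom (q - 1) : Kˣ →* Kˣ) (powMonoidHom (q + 1) e) = 1
    rw [powMonoidHom_apply, powMonoidHom_apply, ← pow_mul, ← hcardU]
    exact pow_card_eq_one'
  have hA : Nat.card A = q - 1 := by
    show Nat.card (powMonoidHom (q + 1) : Kˣ →* Kˣ).range = q - 1
    rw [IsCyclic.card_powMonoidHom_range, hcardU,
      Nat.gcd_eq_right (⟨q - 1, rfl⟩ : q + 1 ∣ (q + 1) * (q - 1))]
    exact Nat.mul_div_cancel_left _ (by omega)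
  have hB : Nat.card B = q - 1 := by
    show Nat.card (powMonoidHom (q - 1) : Kˣ →* Kˣ).ker = q - 1
    rw [IsCyclic.card_powMonoidHom_ker, hcardU]
    exact Nat.gcd_eq_right ⟨q + 1, by ring⟩
  have hEq : A = B := Subgroup.eq_of_le_of_card_ge hAB (by rw [hA, hB])
  have hνB : ν ∈ B := by
    show (powMonoidHom (q - 1) : Kˣ →* Kˣ) ν = 1
    rw [powMonoidHom_apply]
    have h1 : ν ^ (q - 1) * ν = ν := by
      rw [← pow_succ, Nat.sub_add_cancel hq, hν]
    exact mul_eq_right.1 h1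
  rw [← hEq] at hνB
  obtain ⟨e, he⟩ := hνB
  exact ⟨e, he⟩

end norm

section fixed

variable {K : Type*} [Field K] {q₀ q r n : ℕ}

/-- on the fixed field of order `q₀ ^ 2`, the map `x ↦ x ^ q` with `q = q₀ ^ r`, `r` odd, is
`x ↦ x ^ q₀` -/
theorem pow_q_eq (σ : K ≃+* K) [Fintype (Kf σ)] (hk : Fintype.card (Kf σ) = q₀ ^ 2) (hr : Odd r)
    (hq : q = q₀ ^ r) (x : Kf σ) : x ^ q = x ^ q₀ := by
  have h1 : x ^ (q₀ ^ 2) = x := by rw [← hk]; exact FiniteField.pow_card x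
  have h2 : ∀ t : ℕ, x ^ ((q₀ ^ 2) ^ t) = x := by
    intro t
    induction t with
    | zero => rw [pow_zero, pow_one]
    | succ t ih => rw [pow_succ, pow_mul, ih, h1]
  obtain ⟨t, rfl⟩ := hr
  rw [hq, pow_succ, pow_mul, pow_mul, h2 t]

theorem iot_pow_q (σ : K ≃+* K) [Fintype (Kf σ)] (hk : Fintype.card (Kf σ) = q₀ ^ 2) (hr : Odd r)
    (hq : q = q₀ ^ r) (x : Kf σ) : (iot σ x) ^ q = iot σ (x ^ q₀) := by
  rw [← map_pow, pow_q_eq σ hk hr hq]

/-- the Gram matrix of a matrix over the fixed field -/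
theorem gram_map (σ : K ≃+* K) [Fintype (Kf σ)] (hk : Fintype.card (Kf σ) = q₀ ^ 2) (hr : Odd r)
    (hq : q = q₀ ^ r) (M : Matrix (Fin n) (Fin n) (Kf σ)) :
    (M.map (iot σ))ᵀ * (M.map (iot σ)).map (fun x => x ^ q) =
      (Mᵀ * M.map (fun x => x ^ q₀)).map (iot σ) := by
  rw [Matrix.map_mul, Matrix.transpose_map]
  congr 1
  ext i j
  simp only [Matrix.map_apply]
  exact iot_pow_q σ hk hr hq (M i j)

variable [Fintype K]

theorem map_mem_GU_iff (hK : Fintype.card K = q ^ 2) (σ : K ≃+* K) [Fintype (Kf σ)]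
    (hk : Fintype.card (Kf σ) = q₀ ^ 2) (hr : Odd r) (hq : q = q₀ ^ r)
    (h : GL (Fin n) (Kf σ)) :
    GeneralLinearGroup.map (iot σ) h ∈ Cfsg.GU n K q ↔ h ∈ Cfsg.GU n (Kf σ) q₀ := by
  rw [mem_GU_iff_gram hK, mem_GU_iff_gram hk]
  have h1 : ((GeneralLinearGroup.map (iot σ) h : GL (Fin n) K) : Matrix (Fin n) (Fin n) K) =
      (h : Matrix (Fin n) (Fin n) (Kf σ)).map (iot σ) := by
    ext i j
    rw [GeneralLinearGroup.map_apply, Matrix.map_apply]
  rw [h1, gram_map σ hk hr hq]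
  constructor
  · intro h2
    apply Matrix.map_injective (iot_injective σ)
    show ((h : Matrix (Fin n) (Fin n) (Kf σ))ᵀ *
      (h : Matrix (Fin n) (Fin n) (Kf σ)).map (fun x => x ^ q₀)).map (iot σ) =
      (1 : Matrix (Fin n) (Fin n) (Kf σ)).map (iot σ)
    rw [h2, Matrix.map_one _ (map_zero _) (map_one _)]
  · intro h2
    rw [h2, Matrix.map_one _ (map_zero _) (map_one _)]

omit [Fintype K] in
theorem scalar_mem_GU (d : Kˣ) (hd : d ∈ N1 K q) :
    GeneralLinearGroup.scalar (Fin n) d ∈ Cfsg.GU n K q := by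
  have h1 : GeneralLinearGroup.scalar (Fin n) d = diagGL (fun _ => d) := by
    apply Units.ext
    rw [GeneralLinearGroup.coe_scalar, diagGL_val]
    rfl
  rw [h1]
  exact diagGL_mem _ (fun _ => (mem_N1 d).1 hd)

end fixed

section hom

variable {K : Type*} [Field K] {q₀ q r n : ℕ}

/-- the homomorphism `(d, h) ↦ d • h` on norm one scalars and unitary matrices over the fixed
field -/
def Psi (σ : K ≃+* K) (n q₀ q : ℕ) : ↥(N1 K q) × ↥(Cfsg.GU n (Kf σ) q₀) →* GL (Fin n) K :=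
  (Phi σ n).comp (MonoidHom.prodMap (N1 K q).subtype (Cfsg.GU n (Kf σ) q₀).subtype)

theorem Psi_apply (σ : K ≃+* K) (x : ↥(N1 K q) × ↥(Cfsg.GU n (Kf σ) q₀)) :
    Psi σ n q₀ q x = GeneralLinearGroup.scalar (Fin n) (x.1 : Kˣ) *
      GeneralLinearGroup.map (iot σ) (x.2 : GL (Fin n) (Kf σ)) := rfl

theorem Phi_eq (σ : K ≃+* K) (d : Kˣ) (h : GL (Fin n) (Kf σ)) :
    Phi σ n (d, h) = GeneralLinearGroup.scalar (Fin n) d * GeneralLinearGroup.map (iot σ) h := rfl

/-- the set we count, inside `GL` -/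
def T (σ : K ≃+* K) (n q : ℕ) : Set (GL (Fin n) K) :=
  {g | g ∈ Cfsg.GU n K q ∧ g ∈ S σ n}

variable [Fintype K]

omit [Fintype K] in
theorem iot_pow_succ (σ : K ≃+* K) [Fintype (Kf σ)] (hk : Fintype.card (Kf σ) = q₀ ^ 2)
    (hr : Odd r) (hq : q = q₀ ^ r) (x : Kf σ) : (iot σ x) ^ (q + 1) = iot σ (x ^ (q₀ + 1)) := by
  rw [pow_succ, iot_pow_q σ hk hr hq, pow_succ, map_mul]

theorem range_Psi (hK : Fintype.card K = q ^ 2) (σ : K ≃+* K) [Fintype (Kf σ)]
    (hk : Fintype.card (Kf σ) = q₀ ^ 2) (hr : Odd r) (hq : q = q₀ ^ r) (hn : 1 ≤ n) :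
    ((Psi σ n q₀ q).range : Set (GL (Fin n) K)) = T σ n q := by
  ext g
  constructor
  · rintro ⟨⟨d, h⟩, rfl⟩
    refine ⟨?_, ?_⟩
    · rw [Psi_apply]
      exact mul_mem (scalar_mem_GU _ d.2) ((map_mem_GU_iff hK σ hk hr hq _).2 h.2)
    · rw [← range_Phi σ hn]
      exact ⟨((d : Kˣ), (h : GL (Fin n) (Kf σ))), rfl⟩
  · rintro ⟨hgU, hgS⟩
    rw [← range_Phi σ hn] at hgS
    obtain ⟨⟨d₀, h₀⟩, rfl⟩ := hgS
    let i₀ : Fin n := ⟨0, hn⟩
    set M₀ : Matrix (Fin n) (Fin n) (Kf σ) := (h₀ : Matrix (Fin n) (Fin n) (Kf σ)) with hM₀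
    have hmat : ((Phi σ n (d₀, h₀) : GL (Fin n) K) : Matrix (Fin n) (Fin n) K) =
        (d₀ : K) • M₀.map (iot σ) := by
      ext i j
      rw [Phi_apply, Matrix.smul_apply, Matrix.map_apply, smul_eq_mul]
    have hgram := (mem_GU_iff_gram hK _).1 hgU
    rw [hmat] at hgram
    have hgram2 : ((d₀ : K) ^ (q + 1)) • (M₀ᵀ * M₀.map (fun x => x ^ q₀)).map (iot σ) = 1 := by
      rw [← gram_map σ hk hr hq, ← hgram, Matrix.transpose_smul]
      have h1 : ((d₀ : K) • M₀.map (iot σ)).map (fun x => x ^ q) =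
          ((d₀ : K) ^ q) • (M₀.map (iot σ)).map (fun x => x ^ q) := by
        ext i j
        simp only [Matrix.map_apply, Matrix.smul_apply, smul_eq_mul, mul_pow]
      rw [h1, Matrix.smul_mul, Matrix.mul_smul, smul_smul, pow_succ, mul_comm]
    set γ : Kf σ := (M₀ᵀ * M₀.map (fun x => x ^ q₀)) i₀ i₀ with hγ
    have hγ1 : (d₀ : K) ^ (q + 1) * iot σ γ = 1 := by
      have := congrFun (congrFun hgram2 i₀) i₀
      rwa [Matrix.smul_apply, Matrix.map_apply, Matrix.one_apply_eq, smul_eq_mul] at this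
    have hγ0 : γ ≠ 0 := by
      intro h0
      rw [h0, map_zero, mul_zero] at hγ1
      exact zero_ne_one hγ1
    set ν : (Kf σ)ˣ := (Units.mk0 γ hγ0)⁻¹ with hν
    have hνγ : (ν : Kf σ) * γ = 1 := by
      rw [hν, Units.val_inv_eq_inv_val, Units.val_mk0, inv_mul_cancel₀ hγ0]
    have hiν : iot σ (ν : Kf σ) = (d₀ : K) ^ (q + 1) := by
      have h1 : iot σ (ν : Kf σ) * iot σ γ = 1 := by rw [← map_mul, hνγ, map_one]
      have hγi : iot σ γ ≠ 0 := by
        intro h0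
        rw [h0, mul_zero] at h1
        exact zero_ne_one h1
      exact mul_right_cancel₀ hγi (h1.trans hγ1.symm)
    have hd₀ : (d₀ : K) ^ (q ^ 2) = d₀ := by rw [← hK]; exact FiniteField.pow_card _
    have hνq : ν ^ q₀ = ν := by
      apply Units.ext
      rw [Units.val_pow_eq_pow_val]
      apply iot_injective σ
      rw [← iot_pow_q σ hk hr hq, hiν, ← pow_mul]
      have : (q + 1) * q = q ^ 2 + q := by ring
      rw [this, pow_add, hd₀, pow_succ, mul_comm]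
    have hkN : Nat.card (Kf σ) = q₀ ^ 2 := by rw [Nat.card_eq_fintype_card, hk]
    obtain ⟨e, he⟩ := exists_pow_eq hkN ν hνq
    have hie : (iot σ (e : Kf σ)) ^ (q + 1) = (d₀ : K) ^ (q + 1) := by
      rw [iot_pow_succ σ hk hr hq, ← Units.val_pow_eq_pow_val, he, hiν]
    let eK : Kˣ := Units.map (iot σ : Kf σ →* K) e
    have heK : (eK : K) = iot σ (e : Kf σ) := rfl
    have hdN : d₀ * eK⁻¹ ∈ N1 K q := by
      rw [mem_N1, mul_pow, inv_pow]
      apply Units.ext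
      rw [Units.val_mul, Units.val_pow_eq_pow_val, Units.val_inv_eq_inv_val,
        Units.val_pow_eq_pow_val, heK, hie, Units.val_one]
      exact mul_inv_cancel₀ (pow_ne_zero _ d₀.ne_zero)
    set h : GL (Fin n) (Kf σ) := GeneralLinearGroup.scalar (Fin n) e * h₀ with hh
    have hPhi : Phi σ n (d₀ * eK⁻¹, h) = Phi σ n (d₀, h₀) := by
      rw [Phi_eq, Phi_eq, hh, map_mul, map_mul, GeneralLinearGroup.map_scalar]
      have h1 : GeneralLinearGroup.scalar (Fin n) eK⁻¹ * GeneralLinearGroup.scalar (Fin n)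
          (Units.map (iot σ : Kf σ →* K) e) = 1 := by
        rw [← map_mul]
        show GeneralLinearGroup.scalar (Fin n) (eK⁻¹ * eK) = 1
        rw [inv_mul_cancel, map_one]
      rw [mul_assoc, ← mul_assoc (GeneralLinearGroup.scalar (Fin n) eK⁻¹), h1, one_mul]
    have hhU : h ∈ Cfsg.GU n (Kf σ) q₀ := by
      rw [← map_mem_GU_iff hK σ hk hr hq]
      have h1 : GeneralLinearGroup.map (iot σ) h =
          (GeneralLinearGroup.scalar (Fin n) (d₀ * eK⁻¹))⁻¹ * Phi σ n (d₀, h₀) := by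
        rw [← hPhi, Phi_eq, inv_mul_cancel_left]
      rw [h1]
      exact mul_mem (inv_mem (scalar_mem_GU _ hdN)) hgU
    exact ⟨(⟨d₀ * eK⁻¹, hdN⟩, ⟨h, hhU⟩), hPhi⟩

theorem card_ker_Psi (σ : K ≃+* K) [Fintype (Kf σ)]
    (hk : Fintype.card (Kf σ) = q₀ ^ 2) (hr : Odd r) (hq : q = q₀ ^ r) (hn : 1 ≤ n) :
    Nat.card (Psi σ n q₀ q).ker = q₀ + 1 := by
  have hkN : Nat.card (Kf σ) = q₀ ^ 2 := by rw [Nat.card_eq_fintype_card, hk]
  rw [← card_N1 hkN]
  symm
  let i₀ : Fin n := ⟨0, hn⟩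
  have hinvN : ∀ e : (Kf σ)ˣ, e ∈ N1 (Kf σ) q₀ →
      (Units.map (iot σ : Kf σ →* K) e)⁻¹ ∈ N1 K q := by
    intro e he
    rw [mem_N1, inv_pow, inv_eq_one]
    apply Units.ext
    rw [Units.val_pow_eq_pow_val, Units.val_one]
    show (iot σ (e : Kf σ)) ^ (q + 1) = 1
    rw [iot_pow_succ σ hk hr hq, ← Units.val_pow_eq_pow_val, (mem_N1 e).1 he, Units.val_one,
      map_one]
  have hmem : ∀ e : ↥(N1 (Kf σ) q₀),
      ((⟨(Units.map (iot σ : Kf σ →* K) e.1)⁻¹, hinvN e.1 e.2⟩ : ↥(N1 K q)),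
        (⟨GeneralLinearGroup.scalar (Fin n) e.1, scalar_mem_GU e.1 e.2⟩ :
          ↥(Cfsg.GU n (Kf σ) q₀))) ∈ (Psi σ n q₀ q).ker := by
    intro e
    rw [MonoidHom.mem_ker, Psi_apply]
    show GeneralLinearGroup.scalar (Fin n) (Units.map (iot σ : Kf σ →* K) e.1)⁻¹ *
      GeneralLinearGroup.map (iot σ) (GeneralLinearGroup.scalar (Fin n) e.1) = 1
    rw [GeneralLinearGroup.map_scalar, ← map_mul]
    have : (Units.map (iot σ : Kf σ →* K) e.1)⁻¹ * Units.map (iot σ) e.1 = 1 := inv_mul_cancel _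
    rw [this, map_one]
  apply Nat.card_eq_of_bijective (fun e => (⟨_, hmem e⟩ : (Psi σ n q₀ q).ker))
  constructor
  · intro e e' h
    have h1 := congrArg (fun x : (Psi σ n q₀ q).ker => (x.1.1 : Kˣ)) h
    apply Subtype.ext
    exact Units.map_injective (iot_injective σ) (_root_.inv_inj.1 h1)
  · rintro ⟨⟨⟨d, hd⟩, ⟨h, hhU⟩⟩, hdh⟩
    rw [MonoidHom.mem_ker] at hdh
    have hdh' : Phi σ n (d, h) = 1 := hdh
    have hent : ∀ i j, (d : K) * iot σ (h i j) = if i = j then 1 else 0 := by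
      intro i j
      rw [← Phi_apply, hdh', Units.val_one, Matrix.one_apply]
    have h00 := hent i₀ i₀
    rw [if_pos rfl] at h00
    have hk0 : h i₀ i₀ ≠ 0 := by
      intro h0
      rw [h0, map_zero, mul_zero] at h00
      exact zero_ne_one h00
    have hd_eq : (Units.map (iot σ : Kf σ →* K) (Units.mk0 (h i₀ i₀) hk0))⁻¹ = d := by
      rw [inv_eq_iff_eq_inv]
      apply Units.ext
      rw [Units.val_inv_eq_inv_val]
      show iot σ (h i₀ i₀) = (d : K)⁻¹
      exact eq_inv_of_mul_eq_one_right h00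
    have heN : Units.mk0 (h i₀ i₀) hk0 ∈ N1 (Kf σ) q₀ := by
      rw [mem_N1]
      apply Units.ext
      rw [Units.val_pow_eq_pow_val, Units.val_one, Units.val_mk0]
      apply iot_injective σ
      rw [← iot_pow_succ σ hk hr hq, map_one]
      have h1 : (iot σ (h i₀ i₀)) = (d : K)⁻¹ := eq_inv_of_mul_eq_one_right h00
      rw [h1, inv_pow, inv_eq_one, ← Units.val_pow_eq_pow_val, (mem_N1 d).1 hd, Units.val_one]
    refine ⟨⟨Units.mk0 (h i₀ i₀) hk0, heN⟩, ?_⟩
    apply Subtype.ext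
    apply Prod.ext
    · apply Subtype.ext
      exact hd_eq
    · apply Subtype.ext
      show GeneralLinearGroup.scalar (Fin n) (Units.mk0 (h i₀ i₀) hk0) = h
      apply GeneralLinearGroup.ext
      intro i j
      rw [GeneralLinearGroup.coe_scalar, Matrix.scalar_apply, Matrix.diagonal_apply]
      apply iot_injective σ
      have hd0 : (d : K) ≠ 0 := d.ne_zero
      apply mul_left_cancel₀ hd0
      rw [hent i j]
      by_cases hij : i = j
      · rw [if_pos hij, if_pos hij]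
        exact h00
      · rw [if_neg hij, if_neg hij, map_zero, mul_zero]

end hom

section count

variable {K : Type*} [Field K] [Fintype K] {q₀ q r n : ℕ}

theorem card_T (hr : r.Prime) (hr2 : r ≠ 2) (hn : 1 ≤ n) (hq : q = q₀ ^ r)
    (hK : Fintype.card K = q ^ 2) (σ : K ≃+* K) (hσ : orderOf σ = r) :
    Nat.card (T σ n q) = (q + 1) / (q₀ + 1) *
      (q₀ ^ (n * (n - 1) / 2) *
        ∏ i ∈ Finset.range n, (if Even i then q₀ ^ (i + 1) + 1 else q₀ ^ (i + 1) - 1)) := by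
  classical
  have hodd : Odd r := hr.odd_of_ne_two hr2
  have hF' : Nat.card K = (q₀ ^ 2) ^ r := by
    rw [Nat.card_eq_fintype_card, hK, hq, ← pow_mul, ← pow_mul, mul_comm]
  have hkN : Nat.card (Kf σ) = q₀ ^ 2 := card_Kf hr.ne_zero hF' σ hσ
  have := Fintype.ofFinite (Kf σ)
  have hk : Fintype.card (Kf σ) = q₀ ^ 2 := by rw [← Nat.card_eq_fintype_card, hkN]
  have hKN : Nat.card K = q ^ 2 := by rw [Nat.card_eq_fintype_card, hK]
  have h1 : Nat.card (T σ n q) = Nat.card (Psi σ n q₀ q).range := by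
    have := range_Psi hK σ hk hodd hq hn
    show Nat.card ↥(T σ n q) = Nat.card ↥((Psi σ n q₀ q).range : Set (GL (Fin n) K))
    rw [this]
  have h2 := Subgroup.card_mul_index (Psi σ n q₀ q).ker
  rw [Subgroup.index_ker, card_ker_Psi σ hk hodd hq hn, Nat.card_prod, card_N1 hKN,
    Cfsg.Agent.Lib.Helper5_GUOrder.card_GU hk n] at h2
  rw [h1]
  have hdvd : q₀ + 1 ∣ q + 1 := by
    have := Odd.nat_add_dvd_pow_add_pow q₀ 1 hodd
    rwa [one_pow, ← hq] at this
  obtain ⟨t, ht⟩ := hdvd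
  have hpos : 0 < q₀ + 1 := by omega
  rw [ht, Nat.mul_div_cancel_left _ hpos]
  rw [ht, mul_assoc] at h2
  exact Nat.eq_of_mul_eq_mul_left hpos h2

end count

end Cfsg.Agent.Lib.Helper43_GUField
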