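import Mathlib
import Cfsg.Prelude.Def_LieClassical
import Cfsg.Prelude.Def_GeometricClasses
import Cfsg.Agent.Lib.Helper13_HermBridge

set_option autoImplicit false
set_option linter.unusedSectionVars false

/-!
# Pairs of complementary totally singular subspaces of a unitary space (helper43)

A *frame* for a pair of complementary totally singular `m`-spaces `D₀`, `D₁` of the standard
hermitian space `K^(m+m)` consists of two `(m+m) × m` matrices `E`, `G` whose columns are dual
bases of `D₀` and `D₁`.  `frameMat E G A B = E A L + G B L'` is the matrix acting as `A` on `D₀`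
and as `B` on `D₁`.
-/

namespace Cfsg.Agent.Lib.Helper43_PolarPair1

open Matrix Cfsg.Agent.Lib.Helper13_Herm Cfsg.Agent.Lib.Helper13_HermBridge

variable {K : Type*} [Field K] [Fintype K] {q m : ℕ}

/-- entrywise `q`-th power -/
def fr (q : ℕ) {α β : Type*} (M : Matrix α β K) : Matrix α β K := M.map (fun x => x ^ q)

theorem fr_apply {α β : Type*} (M : Matrix α β K) (i : α) (j : β) : fr q M i j = M i j ^ q := rfl

theorem fr_mul (hK : Fintype.card K = q ^ 2) {α β γ : Type*} [Fintype β] (M : Matrix α β K)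
    (N : Matrix β γ K) : fr q (M * N) = fr q M * fr q N := by
  ext i j
  simp only [fr_apply, Matrix.mul_apply]
  rw [sum_pow_q hK]
  apply Finset.sum_congr rfl
  intro k _
  rw [mul_pow]

theorem fr_add (hK : Fintype.card K = q ^ 2) {α β : Type*} (M N : Matrix α β K) :
    fr q (M + N) = fr q M + fr q N := by
  ext i j
  simp only [fr_apply, Matrix.add_apply]
  exact add_pow_q hK _ _

theorem fr_fr (hK : Fintype.card K = q ^ 2) {α β : Type*} (M : Matrix α β K) :
    fr q (fr q M) = M := by
  ext i j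
  simp only [fr_apply]
  exact pow_q_pow_q hK _

theorem fr_transpose {α β : Type*} (M : Matrix α β K) : fr q Mᵀ = (fr q M)ᵀ := rfl

theorem fr_one (hK : Fintype.card K = q ^ 2) {α : Type*} [DecidableEq α] :
    fr q (1 : Matrix α α K) = 1 := by
  have hq : q ≠ 0 := by have := two_le_q hK; omega
  ext i j
  simp only [fr_apply, Matrix.one_apply]
  split_ifs
  · exact one_pow q
  · exact zero_pow hq

theorem fr_zero (hK : Fintype.card K = q ^ 2) {α β : Type*} :
    fr q (0 : Matrix α β K) = 0 := by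
  have hq : q ≠ 0 := by have := two_le_q hK; omega
  ext i j
  simp only [fr_apply, Matrix.zero_apply]
  exact zero_pow hq

/-- the Gram relations of a frame -/
structure IsFrame (q : ℕ) (E G : Matrix (Fin (m + m)) (Fin m) K) : Prop where
  ee : Eᵀ * fr q E = 0
  gg : Gᵀ * fr q G = 0
  eg : Eᵀ * fr q G = 1
  ge : Gᵀ * fr q E = 1

/-- the left inverse rows -/
def rowL (q : ℕ) (G : Matrix (Fin (m + m)) (Fin m) K) : Matrix (Fin m) (Fin (m + m)) K :=
  (fr q G)ᵀ

variable {E G : Matrix (Fin (m + m)) (Fin m) K}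

theorem IsFrame.LE (h : IsFrame q E G) : rowL q G * E = 1 := by
  have := congrArg Matrix.transpose h.eg
  rwa [Matrix.transpose_mul, Matrix.transpose_transpose, Matrix.transpose_one] at this

theorem IsFrame.LG (h : IsFrame q E G) : rowL q G * G = 0 := by
  have := congrArg Matrix.transpose h.gg
  rwa [Matrix.transpose_mul, Matrix.transpose_transpose, Matrix.transpose_zero] at this

theorem IsFrame.L'E (h : IsFrame q E G) : rowL q E * E = 0 := by
  have := congrArg Matrix.transpose h.ee
  rwa [Matrix.transpose_mul, Matrix.transpose_transpose, Matrix.transpose_zero] at this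

theorem IsFrame.L'G (h : IsFrame q E G) : rowL q E * G = 1 := by
  have := congrArg Matrix.transpose h.ge
  rwa [Matrix.transpose_mul, Matrix.transpose_transpose, Matrix.transpose_one] at this

/-- completeness -/
theorem IsFrame.complete (h : IsFrame q E G) : E * rowL q G + G * rowL q E = 1 := by
  rw [← Matrix.fromCols_mul_fromRows]
  rw [Matrix.fromCols_mul_fromRows_eq_one_comm finSumFinEquiv.symm]
  rw [Matrix.fromRows_mul_fromCols, h.LE, h.LG, h.L'E, h.L'G, Matrix.fromBlocks_one]

/-- the matrix acting as `A` on the first and `B` on the second member -/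
def frameMat (q : ℕ) (E G : Matrix (Fin (m + m)) (Fin m) K) (A B : Matrix (Fin m) (Fin m) K) :
    Matrix (Fin (m + m)) (Fin (m + m)) K :=
  E * A * rowL q G + G * B * rowL q E

theorem frameMat_mul (h : IsFrame q E G) (A B A' B' : Matrix (Fin m) (Fin m) K) :
    frameMat q E G A B * frameMat q E G A' B' = frameMat q E G (A * A') (B * B') := by
  unfold frameMat
  rw [Matrix.add_mul, Matrix.mul_add, Matrix.mul_add]
  have e1 : E * A * rowL q G * (E * A' * rowL q G) = E * (A * A') * rowL q G := by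
    calc E * A * rowL q G * (E * A' * rowL q G)
        = E * A * (rowL q G * E) * A' * rowL q G := by simp only [Matrix.mul_assoc]
      _ = E * (A * A') * rowL q G := by rw [h.LE, Matrix.mul_one]; simp only [Matrix.mul_assoc]
  have e2 : E * A * rowL q G * (G * B' * rowL q E) = 0 := by
    calc E * A * rowL q G * (G * B' * rowL q E)
        = E * A * (rowL q G * G) * B' * rowL q E := by simp only [Matrix.mul_assoc]
      _ = 0 := by rw [h.LG]; simp
  have e3 : G * B * rowL q E * (E * A' * rowL q G) = 0 := by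
    calc G * B * rowL q E * (E * A' * rowL q G)
        = G * B * (rowL q E * E) * A' * rowL q G := by simp only [Matrix.mul_assoc]
      _ = 0 := by rw [h.L'E]; simp
  have e4 : G * B * rowL q E * (G * B' * rowL q E) = G * (B * B') * rowL q E := by
    calc G * B * rowL q E * (G * B' * rowL q E)
        = G * B * (rowL q E * G) * B' * rowL q E := by simp only [Matrix.mul_assoc]
      _ = G * (B * B') * rowL q E := by rw [h.L'G, Matrix.mul_one]; simp only [Matrix.mul_assoc]
  rw [e1, e2, e3, e4, add_zero, zero_add]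

theorem frameMat_one (h : IsFrame q E G) : frameMat q E G 1 1 = 1 := by
  unfold frameMat
  rw [Matrix.mul_one, Matrix.mul_one]
  exact h.complete

theorem frameMat_mul_E (h : IsFrame q E G) (A B : Matrix (Fin m) (Fin m) K) :
    frameMat q E G A B * E = E * A := by
  unfold frameMat
  rw [Matrix.add_mul, Matrix.mul_assoc (E * A), h.LE, Matrix.mul_one, Matrix.mul_assoc (G * B),
    h.L'E, Matrix.mul_zero, add_zero]

theorem frameMat_mul_G (h : IsFrame q E G) (A B : Matrix (Fin m) (Fin m) K) :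
    frameMat q E G A B * G = G * B := by
  unfold frameMat
  rw [Matrix.add_mul, Matrix.mul_assoc (E * A), h.LG, Matrix.mul_zero, Matrix.mul_assoc (G * B),
    h.L'G, Matrix.mul_one, zero_add]

/-- recovering the blocks -/
theorem L_mul_frameMat_mul_E (h : IsFrame q E G) (A B : Matrix (Fin m) (Fin m) K) :
    rowL q G * frameMat q E G A B * E = A := by
  rw [Matrix.mul_assoc, frameMat_mul_E h, ← Matrix.mul_assoc, h.LE, Matrix.one_mul]

/-- every matrix mapping the column spaces of `E` and `G` to themselves is a `frameMat` -/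
theorem eq_frameMat (h : IsFrame q E G) (g : Matrix (Fin (m + m)) (Fin (m + m)) K)
    (A B : Matrix (Fin m) (Fin m) K) (hA : g * E = E * A) (hB : g * G = G * B) :
    g = frameMat q E G A B := by
  unfold frameMat
  rw [← hA, ← hB, Matrix.mul_assoc, Matrix.mul_assoc, ← Matrix.mul_add, h.complete, Matrix.mul_one]

theorem fr_rowL (hK : Fintype.card K = q ^ 2) (M : Matrix (Fin (m + m)) (Fin m) K) :
    fr q (rowL q M) = Mᵀ := by
  unfold rowL
  rw [fr_transpose, fr_fr hK]

theorem rowL_transpose (M : Matrix (Fin (m + m)) (Fin m) K) : (rowL q M)ᵀ = fr q M := by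
  unfold rowL
  rw [Matrix.transpose_transpose]

/-- the Gram matrix of a `frameMat` -/
theorem frameMat_gram (hK : Fintype.card K = q ^ 2) (h : IsFrame q E G)
    (A B : Matrix (Fin m) (Fin m) K) :
    (frameMat q E G A B)ᵀ * fr q (frameMat q E G A B) =
      fr q G * (Aᵀ * fr q B) * Eᵀ + fr q E * (Bᵀ * fr q A) * Gᵀ := by
  unfold frameMat
  rw [fr_add hK, fr_mul hK, fr_mul hK, fr_mul hK, fr_mul hK, fr_rowL hK, fr_rowL hK,
    Matrix.transpose_add, Matrix.transpose_mul, Matrix.transpose_mul,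
    Matrix.transpose_mul, Matrix.transpose_mul, rowL_transpose, rowL_transpose,
    Matrix.add_mul, Matrix.mul_add, Matrix.mul_add]
  have e1 : fr q G * (Aᵀ * Eᵀ) * (fr q E * fr q A * Gᵀ) = 0 := by
    calc fr q G * (Aᵀ * Eᵀ) * (fr q E * fr q A * Gᵀ)
        = fr q G * Aᵀ * (Eᵀ * fr q E) * fr q A * Gᵀ := by simp only [Matrix.mul_assoc]
      _ = 0 := by rw [h.ee]; simp
  have e2 : fr q G * (Aᵀ * Eᵀ) * (fr q G * fr q B * Eᵀ) = fr q G * (Aᵀ * fr q B) * Eᵀ := by
    calc fr q G * (Aᵀ * Eᵀ) * (fr q G * fr q B * Eᵀ)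
        = fr q G * Aᵀ * (Eᵀ * fr q G) * fr q B * Eᵀ := by simp only [Matrix.mul_assoc]
      _ = fr q G * (Aᵀ * fr q B) * Eᵀ := by
        rw [h.eg, Matrix.mul_one]; simp only [Matrix.mul_assoc]
  have e3 : fr q E * (Bᵀ * Gᵀ) * (fr q E * fr q A * Gᵀ) = fr q E * (Bᵀ * fr q A) * Gᵀ := by
    calc fr q E * (Bᵀ * Gᵀ) * (fr q E * fr q A * Gᵀ)
        = fr q E * Bᵀ * (Gᵀ * fr q E) * fr q A * Gᵀ := by simp only [Matrix.mul_assoc]
      _ = fr q E * (Bᵀ * fr q A) * Gᵀ := by
        rw [h.ge, Matrix.mul_one]; simp only [Matrix.mul_assoc]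
  have e4 : fr q E * (Bᵀ * Gᵀ) * (fr q G * fr q B * Eᵀ) = 0 := by
    calc fr q E * (Bᵀ * Gᵀ) * (fr q G * fr q B * Eᵀ)
        = fr q E * Bᵀ * (Gᵀ * fr q G) * fr q B * Eᵀ := by simp only [Matrix.mul_assoc]
      _ = 0 := by rw [h.gg]; simp
  rw [e1, e2, e3, e4, zero_add, add_zero]

/-- transposed completeness -/
theorem IsFrame.complete' (h : IsFrame q E G) : fr q G * Eᵀ + fr q E * Gᵀ = 1 := by
  have := congrArg Matrix.transpose h.complete
  rw [Matrix.transpose_add, Matrix.transpose_mul, Matrix.transpose_mul, Matrix.transpose_one,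
    rowL_transpose, rowL_transpose] at this
  exact this

/-- `frameMat A B` is unitary when `Aᵀ B^(q) = 1` -/
theorem frameMat_unitary (hK : Fintype.card K = q ^ 2) (h : IsFrame q E G)
    (A B : Matrix (Fin m) (Fin m) K) (hAB : Aᵀ * fr q B = 1) :
    (frameMat q E G A B)ᵀ * fr q (frameMat q E G A B) = 1 := by
  have hBA : Bᵀ * fr q A = 1 := by
    have h1 : fr q (Aᵀ * fr q B) = 1 := by rw [hAB, fr_one hK]
    rw [fr_mul hK, fr_fr hK] at h1
    have h2 := congrArg Matrix.transpose h1
    rw [Matrix.transpose_mul, Matrix.transpose_one] at h2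
    exact h2
  rw [frameMat_gram hK h, hAB, hBA, Matrix.mul_one, Matrix.mul_one]
  exact h.complete'

/-- conversely, a unitary `frameMat` has `Aᵀ B^(q) = 1` -/
theorem of_frameMat_unitary (hK : Fintype.card K = q ^ 2) (h : IsFrame q E G)
    (A B : Matrix (Fin m) (Fin m) K)
    (hU : (frameMat q E G A B)ᵀ * fr q (frameMat q E G A B) = 1) : Aᵀ * fr q B = 1 := by
  rw [frameMat_gram hK h] at hU
  -- multiply by `Eᵀ` on the left ... use `Eᵀ fr G = 1`, `Eᵀ fr E = 0` and on the right by `fr G`
  have h1 : Eᵀ * (fr q G * (Aᵀ * fr q B) * Eᵀ + fr q E * (Bᵀ * fr q A) * Gᵀ) * fr q G =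
      Eᵀ * (1 : Matrix (Fin (m + m)) (Fin (m + m)) K) * fr q G := by rw [hU]
  rw [Matrix.mul_add, Matrix.add_mul] at h1
  have e1 : Eᵀ * (fr q G * (Aᵀ * fr q B) * Eᵀ) * fr q G = Aᵀ * fr q B := by
    calc Eᵀ * (fr q G * (Aᵀ * fr q B) * Eᵀ) * fr q G
        = (Eᵀ * fr q G) * (Aᵀ * fr q B) * (Eᵀ * fr q G) := by simp only [Matrix.mul_assoc]
      _ = Aᵀ * fr q B := by rw [h.eg, Matrix.one_mul, Matrix.mul_one]
  have e2 : Eᵀ * (fr q E * (Bᵀ * fr q A) * Gᵀ) * fr q G = 0 := by
    calc Eᵀ * (fr q E * (Bᵀ * fr q A) * Gᵀ) * fr q G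
        = (Eᵀ * fr q E) * (Bᵀ * fr q A) * (Gᵀ * fr q G) := by simp only [Matrix.mul_assoc]
      _ = 0 := by rw [h.ee]; simp
  rw [e1, e2, add_zero, Matrix.mul_one, h.eg] at h1
  exact h1

end Cfsg.Agent.Lib.Helper43_PolarPair1
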