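import Mathlib
import Cfsg.Agent.Lib.Helper43_PolarPair1
import Cfsg.Agent.Lib.Helper43_GUUnip

set_option autoImplicit false
set_option linter.unusedSectionVars false

/-!
# Existence of frames for polar pairs, stabilizer and determinant of `frameMat` (helper43)
-/

namespace Cfsg.Agent.Lib.Helper43_PolarPair2

open Matrix Module Cfsg.Agent.Lib.Helper13_Herm Cfsg.Agent.Lib.Helper13_HermBridge
  Cfsg.Agent.Lib.Helper43_PolarPair1

variable {K : Type*} [Field K] [Fintype K] {q m : ℕ}

/-- entries of `Mᵀ * N^(q)` are values of the hermitian form on columns -/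
theorem gram_apply {n : ℕ} {α β : Type*} (M : Matrix (Fin n) α K) (N : Matrix (Fin n) β K)
    (i : α) (j : β) :
    (Mᵀ * fr q N) i j = Cfsg.hermForm n K q (fun k => M k i) (fun k => N k j) := by
  rw [Matrix.mul_apply]
  rfl

/-- the hermitian form is non-degenerate on the right -/
theorem eq_of_hermForm_eq (hK : Fintype.card K = q ^ 2) {n : ℕ} (w w' : Fin n → K)
    (h : ∀ v, Cfsg.hermForm n K q v w = Cfsg.hermForm n K q v w') : w = w' := by
  funext i
  have h1 := h (Pi.single i 1)
  rw [hermForm_single_left, hermForm_single_left] at h1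
  have h2 : (w i ^ q) ^ q = (w' i ^ q) ^ q := by rw [h1]
  rwa [pow_q_pow_q hK, pow_q_pow_q hK] at h2

/-- left linearity over finite sums -/
theorem hermForm_sum_left {n : ℕ} {ι : Type*} (s : Finset ι) (c : ι → K) (u : ι → Fin n → K)
    (v : Fin n → K) :
    Cfsg.hermForm n K q (∑ j ∈ s, c j • u j) v = ∑ j ∈ s, c j * Cfsg.hermForm n K q (u j) v := by
  classical
  induction s using Finset.induction_on with
  | empty =>
    simp only [Finset.sum_empty]
    unfold Cfsg.hermForm
    simp
  | insert a s ha ih =>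
    rw [Finset.sum_insert ha, Finset.sum_insert ha, hermForm_add_left, hermForm_smul_left, ih]

/-- existence of a frame for a pair of complementary totally singular subspaces -/
theorem exists_frame (hK : Fintype.card K = q ^ 2)
    (D₀ D₁ : Submodule K (Fin (m + m) → K)) (hc : IsCompl D₀ D₁)
    (h0 : finrank K D₀ = m) (h1 : finrank K D₁ = m)
    (hs0 : ∀ u ∈ D₀, ∀ v ∈ D₀, Cfsg.hermForm (m + m) K q u v = 0)
    (hs1 : ∀ u ∈ D₁, ∀ v ∈ D₁, Cfsg.hermForm (m + m) K q u v = 0) :
    ∃ E G : Matrix (Fin (m + m)) (Fin m) K, IsFrame q E G ∧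
      LinearMap.range E.mulVecLin = D₀ ∧ LinearMap.range G.mulVecLin = D₁ := by
  classical
  have hq0 : q ≠ 0 := by have := two_le_q hK; omega
  let b : Basis (Fin m) K D₀ := Module.finBasisOfFinrankEq K D₀ h0
  -- the semilinear evaluation map on `D₁`
  let φ : D₁ → (Fin m → K) := fun w j => Cfsg.hermForm (m + m) K q (b j : Fin (m + m) → K) w
  have hφinj : Function.Injective φ := by
    intro w w' hww
    apply Subtype.ext
    apply eq_of_hermForm_eq hK
    intro v
    have hv : v ∈ D₀ ⊔ D₁ := by rw [hc.sup_eq_top]; trivial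
    obtain ⟨u, hu, u', hu', rfl⟩ := Submodule.mem_sup.1 hv
    rw [hermForm_add_left, hermForm_add_left, hs1 u' hu' w w.2, hs1 u' hu' w' w'.2]
    congr 1
    have hrep : u = ∑ j, (b.repr ⟨u, hu⟩ j) • (b j : Fin (m + m) → K) := by
      have := b.sum_repr ⟨u, hu⟩
      have h2 := congrArg (fun x : D₀ => (x : Fin (m + m) → K)) this
      simp only [Submodule.coe_sum, Submodule.coe_smul] at h2
      exact h2.symm
    rw [hrep, hermForm_sum_left, hermForm_sum_left]
    apply Finset.sum_congr rfl
    intro j _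
    have := congrFun hww j
    simp only [φ] at this
    rw [this]
  have hcard : Nat.card (Fin m → K) ≤ Nat.card D₁ := by
    rw [Module.natCard_eq_pow_finrank (K := K) (V := D₁), h1,
      Module.natCard_eq_pow_finrank (K := K) (V := Fin m → K), Module.finrank_fin_fun]
  have hφbij : Function.Bijective φ := hφinj.bijective_of_nat_card_le hcard
  choose g hg using fun j : Fin m => hφbij.surjective (Pi.single j 1)
  let E : Matrix (Fin (m + m)) (Fin m) K := Matrix.of fun i j => (b j : Fin (m + m) → K) i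
  let G : Matrix (Fin (m + m)) (Fin m) K := Matrix.of fun i j => (g j : Fin (m + m) → K) i
  have hEcol : ∀ j, (fun k => E k j) = (b j : Fin (m + m) → K) := fun j => rfl
  have hGcol : ∀ j, (fun k => G k j) = (g j : Fin (m + m) → K) := fun j => rfl
  have hbg : ∀ i j, Cfsg.hermForm (m + m) K q (b i : Fin (m + m) → K) (g j : Fin (m + m) → K) =
      if i = j then 1 else 0 := by
    intro i j
    have := congrFun (hg j) i
    simp only [φ] at this
    rw [this, Pi.single_apply]
  have hframe : IsFrame q E G := by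
    refine ⟨?_, ?_, ?_, ?_⟩
    · ext i j
      rw [gram_apply, hEcol, hEcol, Matrix.zero_apply]
      exact hs0 _ (b i).2 _ (b j).2
    · ext i j
      rw [gram_apply, hGcol, hGcol, Matrix.zero_apply]
      exact hs1 _ (g i).2 _ (g j).2
    · ext i j
      rw [gram_apply, hEcol, hGcol, hbg, Matrix.one_apply]
    · ext i j
      rw [gram_apply, hGcol, hEcol, ← hermForm_pow_q _ hK, hbg, Matrix.one_apply]
      by_cases hij : i = j
      · subst hij
        simp
      · rw [if_neg hij, if_neg (Ne.symm hij), zero_pow hq0]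
  refine ⟨E, G, hframe, ?_, ?_⟩
  · rw [Matrix.range_mulVecLin]
    have h2 : Set.range E.col = (D₀.subtype) '' (Set.range b) := by
      ext v
      constructor
      · rintro ⟨j, rfl⟩
        exact ⟨b j, ⟨j, rfl⟩, rfl⟩
      · rintro ⟨_, ⟨j, rfl⟩, rfl⟩
        exact ⟨j, rfl⟩
    rw [h2, ← Submodule.map_span, b.span_eq, Submodule.map_top, Submodule.range_subtype]
  · have hle : LinearMap.range G.mulVecLin ≤ D₁ := by
      rw [Matrix.range_mulVecLin, Submodule.span_le]
      rintro _ ⟨j, rfl⟩
      exact (g j).2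
    apply Submodule.eq_of_le_of_finrank_eq hle
    rw [h1]
    have hinj : Function.Injective G.mulVecLin := by
      intro c c' hcc
      have h3 : rowL q E *ᵥ (G *ᵥ c) = rowL q E *ᵥ (G *ᵥ c') := by
        rw [← Matrix.mulVecLin_apply G c, ← Matrix.mulVecLin_apply G c', hcc]
      rwa [Matrix.mulVec_mulVec, Matrix.mulVec_mulVec, hframe.L'G, Matrix.one_mulVec,
        Matrix.one_mulVec] at h3
    rw [LinearMap.finrank_range_of_inj hinj, Module.finrank_fin_fun]


section stab

variable {E G : Matrix (Fin (m + m)) (Fin m) K}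

/-- a `frameMat` with invertible first block maps the column space of `E` onto itself -/
theorem map_range_E (h : IsFrame q E G) (A B : Matrix (Fin m) (Fin m) K) (hA : IsUnit A) :
    (LinearMap.range E.mulVecLin).map (Matrix.toLin' (frameMat q E G A B)) =
      LinearMap.range E.mulVecLin := by
  rw [Matrix.toLin'_apply', ← LinearMap.range_comp, ← Matrix.mulVecLin_mul, frameMat_mul_E h,
    Matrix.mulVecLin_mul]
  apply LinearMap.range_comp_of_range_eq_top
  rw [LinearMap.range_eq_top]
  intro v
  obtain ⟨c, hc⟩ := (Matrix.mulVec_surjective_iff_isUnit.2 hA) v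
  exact ⟨c, hc⟩

theorem map_range_G (h : IsFrame q E G) (A B : Matrix (Fin m) (Fin m) K) (hB : IsUnit B) :
    (LinearMap.range G.mulVecLin).map (Matrix.toLin' (frameMat q E G A B)) =
      LinearMap.range G.mulVecLin := by
  rw [Matrix.toLin'_apply', ← LinearMap.range_comp, ← Matrix.mulVecLin_mul, frameMat_mul_G h,
    Matrix.mulVecLin_mul]
  apply LinearMap.range_comp_of_range_eq_top
  rw [LinearMap.range_eq_top]
  intro v
  obtain ⟨c, hc⟩ := (Matrix.mulVec_surjective_iff_isUnit.2 hB) v
  exact ⟨c, hc⟩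

/-- a matrix mapping the column space of `X` into the column space of `Y` factors -/
theorem exists_factor {n : ℕ} (X Y : Matrix (Fin n) (Fin m) K) (g : Matrix (Fin n) (Fin n) K)
    (hg : (LinearMap.range X.mulVecLin).map (Matrix.toLin' g) ≤ LinearMap.range Y.mulVecLin) :
    ∃ A : Matrix (Fin m) (Fin m) K, g * X = Y * A := by
  have h1 : ∀ j : Fin m, ∃ c : Fin m → K, Y *ᵥ c = g *ᵥ X.col j := by
    intro j
    have h2 : g *ᵥ X.col j ∈ LinearMap.range Y.mulVecLin := by
      apply hg
      refine ⟨X.col j, ⟨Pi.single j 1, ?_⟩, ?_⟩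
      · rw [Matrix.mulVecLin_apply, Matrix.mulVec_single_one]
      · rw [Matrix.toLin'_apply]
    obtain ⟨c, hc⟩ := h2
    exact ⟨c, by rw [← hc, Matrix.mulVecLin_apply]⟩
  choose c hc using h1
  refine ⟨Matrix.of fun i j => c j i, ?_⟩
  ext i j
  have h3 := congrFun (hc j) i
  rw [Matrix.mul_apply]
  rw [Matrix.mulVec, Matrix.mulVec] at h3
  simp only [dotProduct, Matrix.col_apply] at h3
  rw [← h3, Matrix.mul_apply]
  rfl

/-- the determinant of a `frameMat` -/
theorem det_frameMat (h : IsFrame q E G) (A B : Matrix (Fin m) (Fin m) K) :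
    (frameMat q E G A B).det = A.det * B.det := by
  have h1 : frameMat q E G A B =
      Matrix.fromCols E G * Matrix.fromBlocks A 0 0 B * Matrix.fromRows (rowL q G) (rowL q E) := by
    rw [Matrix.fromCols_mul_fromBlocks, Matrix.fromCols_mul_fromRows]
    unfold frameMat
    simp
  have hQP : Matrix.fromRows (rowL q G) (rowL q E) * Matrix.fromCols E G = 1 := by
    rw [Matrix.fromRows_mul_fromCols, h.LE, h.LG, h.L'E, h.L'G, Matrix.fromBlocks_one]
  have hPQ : Matrix.fromCols E G * Matrix.fromRows (rowL q G) (rowL q E) = 1 := by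
    rw [Matrix.fromCols_mul_fromRows]
    exact h.complete
  rw [h1, Matrix.det_conj_of_mul_eq_one hPQ hQP, Matrix.det_fromBlocks_zero₂₁]

theorem frameMat_sub (A B A' B' : Matrix (Fin m) (Fin m) K) :
    frameMat q E G A B - frameMat q E G A' B' = frameMat q E G (A - A') (B - B') := by
  unfold frameMat
  rw [Matrix.mul_sub, Matrix.mul_sub, Matrix.sub_mul, Matrix.sub_mul]
  abel

/-- rank of `X * M` for `X` with a left inverse -/
theorem rank_mul_of_leftInv {n : ℕ} (X : Matrix (Fin n) (Fin m) K) (L : Matrix (Fin m) (Fin n) K)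
    (hLX : L * X = 1) (M : Matrix (Fin m) (Fin m) K) : (X * M).rank = M.rank := by
  apply le_antisymm (Matrix.rank_mul_le_right _ _)
  calc M.rank = (L * (X * M)).rank := by rw [← Matrix.mul_assoc, hLX, Matrix.one_mul]
    _ ≤ (X * M).rank := Matrix.rank_mul_le_right _ _

/-- the rank of a `frameMat` is the sum of the ranks of its blocks -/
theorem rank_frameMat (h : IsFrame q E G) (A B : Matrix (Fin m) (Fin m) K) :
    (frameMat q E G A B).rank = A.rank + B.rank := by
  set T := frameMat q E G A B with hT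
  have hTE : T * E = E * A := frameMat_mul_E h A B
  have hTG : T * G = G * B := frameMat_mul_G h A B
  have hsup : LinearMap.range T.mulVecLin =
      LinearMap.range (E * A).mulVecLin ⊔ LinearMap.range (G * B).mulVecLin := by
    apply le_antisymm
    · rintro _ ⟨v, rfl⟩
      rw [Matrix.mulVecLin_apply]
      have h1 : T *ᵥ v = (E * A) *ᵥ (rowL q G *ᵥ v) + (G * B) *ᵥ (rowL q E *ᵥ v) := by
        rw [Matrix.mulVec_mulVec, Matrix.mulVec_mulVec, ← Matrix.add_mulVec]
        rfl
      rw [h1]
      exact Submodule.add_mem_sup ⟨_, Matrix.mulVecLin_apply _ _⟩ ⟨_, Matrix.mulVecLin_apply _ _⟩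
    · apply sup_le
      · rintro _ ⟨c, rfl⟩
        rw [Matrix.mulVecLin_apply, ← hTE, ← Matrix.mulVec_mulVec]
        exact ⟨E *ᵥ c, Matrix.mulVecLin_apply _ _⟩
      · rintro _ ⟨c, rfl⟩
        rw [Matrix.mulVecLin_apply, ← hTG, ← Matrix.mulVec_mulVec]
        exact ⟨G *ᵥ c, Matrix.mulVecLin_apply _ _⟩
  have hdisj : LinearMap.range (E * A).mulVecLin ⊓ LinearMap.range (G * B).mulVecLin = ⊥ := by
    rw [Submodule.eq_bot_iff]
    rintro v ⟨⟨c, hc⟩, ⟨c', hc'⟩⟩
    rw [Matrix.mulVecLin_apply] at hc hc'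
    have h1 : rowL q G *ᵥ v = A *ᵥ c := by
      rw [← hc, Matrix.mulVec_mulVec, ← Matrix.mul_assoc, h.LE, Matrix.one_mul]
    have h2 : rowL q G *ᵥ v = 0 := by
      rw [← hc', Matrix.mulVec_mulVec, ← Matrix.mul_assoc, h.LG, Matrix.zero_mul,
        Matrix.zero_mulVec]
    rw [← hc, ← Matrix.mulVec_mulVec, ← h1, h2, Matrix.mulVec_zero]
  have hrank : T.rank = Module.finrank K (LinearMap.range T.mulVecLin) := rfl
  rw [hrank, hsup]
  have h3 := Submodule.finrank_sup_add_finrank_inf_eq (LinearMap.range (E * A).mulVecLin)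
    (LinearMap.range (G * B).mulVecLin)
  rw [hdisj, finrank_bot, add_zero] at h3
  rw [h3]
  have h4 : Module.finrank K (LinearMap.range (E * A).mulVecLin) = (E * A).rank := rfl
  have h5 : Module.finrank K (LinearMap.range (G * B).mulVecLin) = (G * B).rank := rfl
  rw [h4, h5, rank_mul_of_leftInv E _ h.LE, rank_mul_of_leftInv G _ h.L'G]

theorem rank_neg' {n : ℕ} (M : Matrix (Fin n) (Fin n) K) : (-M).rank = M.rank := by
  have h1 : -M = M * (-1 : Matrix (Fin n) (Fin n) K) := by rw [Matrix.mul_neg, Matrix.mul_one]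
  rw [h1]
  apply Matrix.rank_mul_eq_left_of_isUnit_det
  rw [Matrix.det_neg, Matrix.det_one, mul_one]
  exact (isUnit_one.neg).pow _

/-- if `Aᵀ B^(q) = 1` then `A - 1` and `B - 1` have the same rank -/
theorem rank_sub_one_eq (hK : Fintype.card K = q ^ 2) (A B : Matrix (Fin m) (Fin m) K)
    (hAB : Aᵀ * fr q B = 1) : (B - 1).rank = (A - 1).rank := by
  have hBA : fr q B * Aᵀ = 1 := mul_eq_one_comm.1 hAB
  have h1 : (B - 1).rank = (fr q B - 1).rank := by
    have h2 : fr q B - 1 = (B - 1).map (frobQ hK) := by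
      ext i j
      rw [Matrix.map_apply, Matrix.sub_apply, Matrix.sub_apply, fr_apply, map_sub, frobQ_apply]
      congr 1
      rw [Matrix.one_apply]
      split_ifs
      · rw [frobQ_apply, one_pow]
      · rw [map_zero]
    rw [h2, Cfsg.Agent.Lib.Helper43_GUUnip.rank_map_ringHom]
  have h3 : (fr q B - 1).rank = (1 - Aᵀ).rank := by
    apply le_antisymm
    · calc (fr q B - 1).rank = (fr q B * (1 - Aᵀ)).rank := by
            rw [Matrix.mul_sub, Matrix.mul_one, hBA]
        _ ≤ (1 - Aᵀ).rank := Matrix.rank_mul_le_right _ _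
    · calc (1 - Aᵀ).rank = (Aᵀ * (fr q B - 1)).rank := by
            rw [Matrix.mul_sub, Matrix.mul_one, hAB]
        _ ≤ (fr q B - 1).rank := Matrix.rank_mul_le_right _ _
  have h4 : (1 - Aᵀ : Matrix (Fin m) (Fin m) K) = (-(A - 1))ᵀ := by
    rw [Matrix.transpose_neg, Matrix.transpose_sub, Matrix.transpose_one]
    abel
  rw [h1, h3, h4, Matrix.rank_transpose, rank_neg']

/-- **Rank parity**: a unitary matrix mapping both column spaces to themselves has `g - 1` of even
rank -/
theorem rank_sub_one_even (hK : Fintype.card K = q ^ 2) (h : IsFrame q E G)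
    (g : Matrix (Fin (m + m)) (Fin (m + m)) K) (hg : gᵀ * fr q g = 1)
    (h0 : (LinearMap.range E.mulVecLin).map (Matrix.toLin' g) ≤ LinearMap.range E.mulVecLin)
    (h1 : (LinearMap.range G.mulVecLin).map (Matrix.toLin' g) ≤ LinearMap.range G.mulVecLin) :
    Even (g - 1).rank := by
  obtain ⟨A, hA⟩ := exists_factor E E g h0
  obtain ⟨B, hB⟩ := exists_factor G G g h1
  have hgf : g = frameMat q E G A B := eq_frameMat h g A B hA hB
  have hAB : Aᵀ * fr q B = 1 := by
    apply of_frameMat_unitary hK h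
    rw [← hgf]
    exact hg
  have h2 : g - 1 = frameMat q E G (A - 1) (B - 1) := by
    rw [← frameMat_sub, ← hgf, frameMat_one h]
  rw [h2, rank_frameMat h, rank_sub_one_eq hK A B hAB]
  exact ⟨_, rfl⟩

end stab

end Cfsg.Agent.Lib.Helper43_PolarPair2
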