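import Mathlib
import Cfsg.Agent.Lib.Helper43_PolarPair2
import Cfsg.Agent.Lib.Helper43_GUField
import Cfsg.Agent.Lib.Helper5_SUOrder

set_option autoImplicit false
set_option linter.unusedSectionVars false

/-!
# The stabilizer of a polar pair in `GU_{2m}(q)`: rank parity and index (helper43)
-/

namespace Cfsg.Agent.Lib.Helper43_PolarPair3

open Matrix Module Cfsg.Agent.Lib.Helper13_Herm Cfsg.Agent.Lib.Helper13_HermBridge
  Cfsg.Agent.Lib.Helper43_PolarPair1 Cfsg.Agent.Lib.Helper43_PolarPair2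
open scoped MatrixGroups

variable {K : Type*} [Field K] [Fintype K] {q m : ℕ}

section decomp

variable {D : Fin 2 → Submodule K (Fin (m + m) → K)}

theorem isCompl_of_decomp (hD : Cfsg.Geo.IsMDecomposition m D) : IsCompl (D 0) (D 1) := by
  constructor
  · exact hD.indep.pairwiseDisjoint (by decide : (0 : Fin 2) ≠ 1)
  · rw [codisjoint_iff, eq_top_iff, ← hD.iSup_eq_top]
    apply iSup_le
    intro i
    fin_cases i
    · exact le_sup_left
    · exact le_sup_right

theorem D_zero_ne_one (hD : Cfsg.Geo.IsMDecomposition m D) : D 0 ≠ D 1 := by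
  intro h
  have h1 := (isCompl_of_decomp hD).disjoint
  rw [h, disjoint_self] at h1
  have h2 := hD.finrank_eq 1
  rw [h1, finrank_bot] at h2
  have := hD.pos
  omega

/-- frames for a decomposition -/
theorem exists_frame_of_decomp (hK : Fintype.card K = q ^ 2)
    (hD : Cfsg.Geo.IsMDecomposition m D)
    (hDs : ∀ i, Cfsg.Geo.IsTotallySingularFor (Cfsg.hermForm (m + m) K q) (D i)) :
    ∃ E G : Matrix (Fin (m + m)) (Fin m) K, IsFrame q E G ∧
      LinearMap.range E.mulVecLin = D 0 ∧ LinearMap.range G.mulVecLin = D 1 :=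
  exists_frame hK (D 0) (D 1) (isCompl_of_decomp hD) (hD.finrank_eq 0) (hD.finrank_eq 1)
    (hDs 0) (hDs 1)

theorem gram_of_mem_GU (hK : Fintype.card K = q ^ 2) {n : ℕ} (g : GL (Fin n) K)
    (hg : g ∈ Cfsg.GU n K q) : (g.1)ᵀ * fr q g.1 = 1 :=
  (mem_GU_iff_gram hK g).1 hg

/-- **Rank dichotomy** for unitary elements of the stabilizer of a polar pair -/
theorem rank_of_mem_stab (hK : Fintype.card K = q ^ 2)
    (hD : Cfsg.Geo.IsMDecomposition m D)
    (hDs : ∀ i, Cfsg.Geo.IsTotallySingularFor (Cfsg.hermForm (m + m) K q) (D i))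
    (g : GL (Fin (m + m)) K) (hg : g ∈ Cfsg.GU (m + m) K q)
    (hgD : g ∈ Cfsg.Geo.decompositionStabilizer D) :
    Even (g.1 - 1).rank ∨ m ≤ (g.1 - 1).rank := by
  obtain ⟨σ, hσ⟩ := hgD
  obtain ⟨E, G, hfr, hE, hG⟩ := exists_frame_of_decomp hK hD hDs
  by_cases h0 : σ 0 = 0
  · left
    have h1 : σ 1 = 1 := by
      have hinj := σ.injective
      have h2 : σ 1 ≠ 0 := by
        intro h3
        have := hinj (h3.trans h0.symm)
        exact absurd this (by decide)
      omega
    apply rank_sub_one_even hK hfr g.1 (gram_of_mem_GU hK g hg)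
    · rw [hE, hσ 0, h0]
    · rw [hG, hσ 1, h1]
  · right
    have h1 : σ 0 = 1 := by omega
    have hmap := hσ 0
    rw [h1] at hmap
    let f : D 0 →ₗ[K] (Fin (m + m) → K) := (Matrix.toLin' (g.1 - 1)).domRestrict (D 0)
    have hf : Function.Injective f := by
      rw [← LinearMap.ker_eq_bot, Submodule.eq_bot_iff]
      intro u hu
      rw [LinearMap.mem_ker] at hu
      have h2 : Matrix.toLin' (g.1 - 1) (u : Fin (m + m) → K) = 0 := hu
      rw [Matrix.toLin'_apply, Matrix.sub_mulVec, Matrix.one_mulVec, sub_eq_zero] at h2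
      have h3 : (u : Fin (m + m) → K) ∈ D 1 := by
        rw [← hmap]
        exact ⟨u, u.2, by rw [Matrix.toLin'_apply, h2]⟩
      have h4 : (u : Fin (m + m) → K) ∈ D 0 ⊓ D 1 := ⟨u.2, h3⟩
      rw [(isCompl_of_decomp hD).disjoint.eq_bot, Submodule.mem_bot] at h4
      exact Subtype.ext h4
    have h5 : finrank K (LinearMap.range f) = m := by
      rw [LinearMap.finrank_range_of_inj hf, hD.finrank_eq 0]
    have h6 : LinearMap.range f ≤ LinearMap.range (g.1 - 1).mulVecLin := by
      rintro _ ⟨u, rfl⟩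
      exact ⟨u, by rw [Matrix.mulVecLin_apply]; rfl⟩
    calc m = finrank K (LinearMap.range f) := h5.symm
      _ ≤ finrank K (LinearMap.range (g.1 - 1).mulVecLin) := Submodule.finrank_mono h6
      _ = (g.1 - 1).rank := rfl

/-- for elements of odd order the rank is even -/
theorem rank_even_of_odd_order (hK : Fintype.card K = q ^ 2)
    (hD : Cfsg.Geo.IsMDecomposition m D)
    (hDs : ∀ i, Cfsg.Geo.IsTotallySingularFor (Cfsg.hermForm (m + m) K q) (D i))
    (g : GL (Fin (m + m)) K) (hg : g ∈ Cfsg.GU (m + m) K q)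
    (hgD : g ∈ Cfsg.Geo.decompositionStabilizer D) (r : ℕ) (hr : Odd r) (hgr : g ^ r = 1) :
    Even (g.1 - 1).rank := by
  obtain ⟨σ, hσ⟩ := hgD
  obtain ⟨E, G, hfr, hE, hG⟩ := exists_frame_of_decomp hK hD hDs
  have hpow : ∀ k : ℕ, ∀ i, (D i).map (Matrix.toLin' ((g ^ k : GL (Fin (m + m)) K) :
      Matrix (Fin (m + m)) (Fin (m + m)) K)) = D ((σ ^ k) i) := by
    intro k
    induction k with
    | zero =>
      intro i
      simp
    | succ k ih =>
      intro i
      rw [pow_succ, Units.val_mul, Matrix.toLin'_mul, Submodule.map_comp, hσ, ih, pow_succ,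
        Equiv.Perm.mul_apply]
  have hσr : σ ^ r = 1 := by
    ext i
    have h1 := hpow r i
    rw [hgr, Units.val_one, Matrix.toLin'_one, Submodule.map_id] at h1
    have hne := D_zero_ne_one hD
    have h2 : ∀ a b : Fin 2, D a = D b → a = b := by
      intro a b hab
      fin_cases a <;> fin_cases b
      · rfl
      · exact absurd hab hne
      · exact absurd hab.symm hne
      · rfl
    rw [Equiv.Perm.one_apply]
    exact congrArg Fin.val (h2 _ _ h1).symm
  have hσ2 : σ ^ 2 = 1 := by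
    have : ∀ τ : Equiv.Perm (Fin 2), τ ^ 2 = 1 := by decide
    exact this σ
  have hσ1 : σ = 1 := by
    obtain ⟨k, rfl⟩ := hr
    rw [pow_succ, pow_mul, hσ2, one_pow, one_mul] at hσr
    exact hσr
  apply rank_sub_one_even hK hfr g.1 (gram_of_mem_GU hK g hg)
  · rw [hE, hσ 0, hσ1, Equiv.Perm.one_apply]
  · rw [hG, hσ 1, hσ1, Equiv.Perm.one_apply]

end decomp


section arith

theorem prod_pow_sub' (q n : ℕ) :
    ∏ i ∈ Finset.range n, (q ^ n - q ^ i) =
      q ^ (∑ i ∈ Finset.range n, i) * ∏ i ∈ Finset.range n, (q ^ (i + 1) - 1) := by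
  have h1 : ∀ i ∈ Finset.range n, q ^ n - q ^ i = q ^ i * (q ^ (n - i) - 1) := by
    intro i hi
    rw [Finset.mem_range] at hi
    rw [Nat.mul_sub, mul_one, ← pow_add, Nat.add_sub_cancel' hi.le]
  rw [Finset.prod_congr rfl h1, Finset.prod_mul_distrib, Finset.prod_pow_eq_pow_sum]
  congr 1
  rw [← Finset.prod_range_reflect (fun j => q ^ (j + 1) - 1) n]
  apply Finset.prod_congr rfl
  intro i hi
  rw [Finset.mem_range] at hi
  have : n - 1 - i + 1 = n - i := by omega
  show q ^ (n - i) - 1 = q ^ (n - 1 - i + 1) - 1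
  rw [this]

theorem prod_unitary_split (q m : ℕ) :
    ∏ i ∈ Finset.range (m + m), (if Even i then q ^ (i + 1) + 1 else q ^ (i + 1) - 1) =
      (∏ j ∈ Finset.range m, (q ^ (2 * j + 1) + 1)) *
        ∏ j ∈ Finset.range m, ((q ^ 2) ^ (j + 1) - 1) := by
  induction m with
  | zero => simp
  | succ k ih =>
    have h1 : k + 1 + (k + 1) = k + k + 1 + 1 := by ring
    rw [h1, Finset.prod_range_succ, Finset.prod_range_succ, ih, Finset.prod_range_succ,
      Finset.prod_range_succ]
    have he : Even (k + k) := ⟨k, rfl⟩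
    have ho : ¬ Even (k + k + 1) := by
      rw [Nat.not_even_iff_odd]
      exact ⟨k, by ring⟩
    rw [if_pos he, if_neg ho]
    have h2 : k + k + 1 = 2 * k + 1 := by ring
    have h3 : q ^ (k + k + 1 + 1) = (q ^ 2) ^ (k + 1) := by
      rw [← pow_mul]
      congr 1
      ring
    rw [h3, h2]
    ring

theorem arith_index (q m R t N r : ℕ) (hq : 2 ≤ q) (hr : r.Prime) (hrR : r ∣ R)
    (h : R * t * ∏ i ∈ Finset.range m, ((q ^ 2) ^ m - (q ^ 2) ^ i) =
      q ^ N * ∏ i ∈ Finset.range (m + m),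
        (if Even i then q ^ (i + 1) + 1 else q ^ (i + 1) - 1)) :
    r ∣ q ∨ ∃ j, j < m ∧ r ∣ q ^ (2 * j + 1) + 1 := by
  rw [prod_pow_sub', prod_unitary_split] at h
  set C := ∏ j ∈ Finset.range m, ((q ^ 2) ^ (j + 1) - 1) with hC
  set B := ∏ j ∈ Finset.range m, (q ^ (2 * j + 1) + 1) with hB
  have hCpos : 0 < C := by
    apply Finset.prod_pos
    intro i _
    have : 1 < (q ^ 2) ^ (i + 1) := Nat.one_lt_pow (by omega) (Nat.one_lt_pow (by omega) (by omega))
    omega
  have h2 : (R * t * (q ^ 2) ^ (∑ i ∈ Finset.range m, i)) * C = (q ^ N * B) * C := by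
    calc (R * t * (q ^ 2) ^ (∑ i ∈ Finset.range m, i)) * C
        = R * t * ((q ^ 2) ^ (∑ i ∈ Finset.range m, i) * C) := by ring
      _ = q ^ N * (B * C) := h
      _ = (q ^ N * B) * C := by ring
  have h3 := Nat.eq_of_mul_eq_mul_right hCpos h2
  have hdvd : r ∣ q ^ N * B := by
    rw [← h3]
    exact Dvd.dvd.mul_right (Dvd.dvd.mul_right hrR _) _
  rcases (Nat.Prime.dvd_mul hr).1 hdvd with h1 | h1
  · left
    exact hr.dvd_of_dvd_pow h1
  · right
    rw [hB, Prime.dvd_finsetProd_iff hr.prime] at h1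
    obtain ⟨j, hj, hrj⟩ := h1
    rw [Finset.mem_range] at hj
    exact ⟨j, hj, hrj⟩

end arith


section embed

variable {E G : Matrix (Fin (m + m)) (Fin m) K}

/-- the conjugate inverse transpose -/
def starInv (q : ℕ) (A : GL (Fin m) K) : Matrix (Fin m) (Fin m) K := (fr q (A⁻¹).1)ᵀ

theorem starInv_mul (hK : Fintype.card K = q ^ 2) (A B : GL (Fin m) K) :
    starInv q (A * B) = starInv q A * starInv q B := by
  unfold starInv
  rw [_root_.mul_inv_rev, Units.val_mul, fr_mul hK, Matrix.transpose_mul]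

theorem starInv_one (hK : Fintype.card K = q ^ 2) : starInv q (1 : GL (Fin m) K) = 1 := by
  unfold starInv
  rw [inv_one, Units.val_one, fr_one hK, Matrix.transpose_one]

theorem transpose_mul_fr_starInv (hK : Fintype.card K = q ^ 2) (A : GL (Fin m) K) :
    (A.1)ᵀ * fr q (starInv q A) = 1 := by
  unfold starInv
  rw [fr_transpose, fr_fr hK, ← Matrix.transpose_mul, ← Units.val_mul, inv_mul_cancel,
    Units.val_one, Matrix.transpose_one]

theorem isUnit_starInv (hK : Fintype.card K = q ^ 2) (A : GL (Fin m) K) :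
    IsUnit (starInv q A) := by
  have h1 : starInv q A * starInv q A⁻¹ = 1 := by
    rw [← starInv_mul hK, mul_inv_cancel, starInv_one hK]
  have h2 : starInv q A⁻¹ * starInv q A = 1 := by
    rw [← starInv_mul hK, inv_mul_cancel, starInv_one hK]
  exact (⟨starInv q A, starInv q A⁻¹, h1, h2⟩ : (Matrix (Fin m) (Fin m) K)ˣ).isUnit

theorem det_starInv (hK : Fintype.card K = q ^ 2) (A : GL (Fin m) K) :
    (starInv q A).det = ((A⁻¹).1.det) ^ q := by
  unfold starInv
  rw [Matrix.det_transpose]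
  have h1 : fr q (A⁻¹).1 = (frobQ hK).mapMatrix (A⁻¹).1 := rfl
  rw [h1, ← RingHom.map_det, frobQ_apply]

/-- the embedding of `GL_m(q²)` into the stabilizer of the polar pair -/
def embGL (hK : Fintype.card K = q ^ 2) (h : IsFrame q E G) :
    GL (Fin m) K →* GL (Fin (m + m)) K :=
  MonoidHom.mk' (fun A => ⟨frameMat q E G A.1 (starInv q A),
      frameMat q E G (A⁻¹).1 (starInv q A⁻¹), by
        rw [frameMat_mul h, ← Units.val_mul, mul_inv_cancel, ← starInv_mul hK, mul_inv_cancel,
          starInv_one hK, Units.val_one, frameMat_one h], by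
        rw [frameMat_mul h, ← Units.val_mul, inv_mul_cancel, ← starInv_mul hK, inv_mul_cancel,
          starInv_one hK, Units.val_one, frameMat_one h]⟩)
    (by
      intro A B
      apply Units.ext
      show frameMat q E G (A * B).1 (starInv q (A * B)) =
        frameMat q E G A.1 (starInv q A) * frameMat q E G B.1 (starInv q B)
      rw [frameMat_mul h, starInv_mul hK, Units.val_mul])

theorem embGL_val (hK : Fintype.card K = q ^ 2) (h : IsFrame q E G) (A : GL (Fin m) K) :
    (embGL hK h A).1 = frameMat q E G A.1 (starInv q A) := rfl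

theorem embGL_mem_GU (hK : Fintype.card K = q ^ 2) (h : IsFrame q E G) (A : GL (Fin m) K) :
    embGL hK h A ∈ Cfsg.GU (m + m) K q := by
  rw [mem_GU_iff_gram hK, embGL_val]
  exact frameMat_unitary hK h _ _ (transpose_mul_fr_starInv hK A)

theorem embGL_mem_stab (hK : Fintype.card K = q ^ 2) (h : IsFrame q E G)
    {D : Fin 2 → Submodule K (Fin (m + m) → K)}
    (hE : LinearMap.range E.mulVecLin = D 0) (hG : LinearMap.range G.mulVecLin = D 1)
    (A : GL (Fin m) K) : embGL hK h A ∈ Cfsg.Geo.decompositionStabilizer D := by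
  refine ⟨1, fun i => ?_⟩
  rw [Equiv.Perm.one_apply, embGL_val]
  fin_cases i
  · show (D 0).map _ = D 0
    rw [← hE]
    exact map_range_E h _ _ A.isUnit
  · show (D 1).map _ = D 1
    rw [← hG]
    exact map_range_G h _ _ (isUnit_starInv hK A)

theorem embGL_injective (hK : Fintype.card K = q ^ 2) (h : IsFrame q E G) :
    Function.Injective (embGL hK h) := by
  intro A B hAB
  apply Units.ext
  have h1 := congrArg (fun g : GL (Fin (m + m)) K => rowL q G * g.1 * E) hAB
  simp only [embGL_val] at h1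
  rwa [L_mul_frameMat_mul_E h, L_mul_frameMat_mul_E h] at h1

theorem det_embGL (hK : Fintype.card K = q ^ 2) (h : IsFrame q E G) (A : GL (Fin m) K) :
    (embGL hK h A).1.det = A.1.det * ((A⁻¹).1.det) ^ q := by
  rw [embGL_val, det_frameMat h, det_starInv hK]

/-- the `(q - 1)`-th power of the determinant -/
def detq (q m : ℕ) (K : Type*) [Field K] : GL (Fin m) K →* Kˣ :=
  (powMonoidHom (q - 1)).comp Matrix.GeneralLinearGroup.det

theorem det_embGL_of_mem_ker (hK : Fintype.card K = q ^ 2) (h : IsFrame q E G)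
    (A : GL (Fin m) K) (hA : A ∈ (detq q m K).ker) : (embGL hK h A).1.det = 1 := by
  have hq : 1 ≤ q := by have := two_le_q hK; omega
  rw [det_embGL hK h]
  rw [MonoidHom.mem_ker] at hA
  have h1 : (Matrix.GeneralLinearGroup.det A) ^ (q - 1) = 1 := hA
  have h2 : (A.1.det) ^ (q - 1) = 1 := by
    have := congrArg Units.val h1
    rwa [Units.val_pow_eq_pow_val, Units.val_one] at this
  have h3 : A.1.det ^ q = A.1.det := by
    have : q = (q - 1) + 1 := by omega
    rw [this, pow_succ, h2, one_mul]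
  have h4 : A.1.det * (A⁻¹).1.det = 1 := by
    rw [← Matrix.det_mul, ← Units.val_mul, mul_inv_cancel, Units.val_one, Matrix.det_one]
  have h5 : (A.1.det * (A⁻¹).1.det) ^ q = 1 := by rw [h4, one_pow]
  rw [mul_pow, h3] at h5
  exact h5

theorem index_ker_detq_dvd (hK : Fintype.card K = q ^ 2) : (detq q m K).ker.index ∣ q + 1 := by
  rw [Subgroup.index_ker]
  have hK' : Nat.card K = q ^ 2 := by rw [Nat.card_eq_fintype_card, hK]
  rw [← Cfsg.Agent.Lib.Helper43_GUField.card_N1 hK']
  apply Subgroup.card_dvd_of_le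
  rintro _ ⟨A, rfl⟩
  rw [Cfsg.Agent.Lib.Helper43_GUField.mem_N1]
  show ((Matrix.GeneralLinearGroup.det A) ^ (q - 1)) ^ (q + 1) = 1
  rw [← pow_mul]
  have hq := Cfsg.Agent.Lib.Helper43_GUField.one_le_of_card hK'
  have h1 : (q - 1) * (q + 1) = Nat.card Kˣ := by
    rw [Nat.card_units, hK', Cfsg.Agent.Lib.Helper43_GUField.sq_eq q hq, mul_comm]
  rw [h1]
  exact pow_card_eq_one'

end embed

section index

open Cfsg.Agent.Lib.Helper5_SUOrder Cfsg.Agent.Lib.Helper5_GUOrder

/-- `GU ⊓ SL` inside `GL` has the cardinality of `SU` -/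
noncomputable def suEquiv (n q : ℕ) (K : Type*) [Field K] [Fintype K] :
    ↥(Cfsg.GU n K q ⊓ Cfsg.Geo.specialLinear (Fin n) K) ≃ Cfsg.SU n K q where
  toFun g := ⟨⟨(g.1 : Matrix (Fin n) (Fin n) K), by
      have h := g.2.2
      have h2 : Matrix.GeneralLinearGroup.det g.1 = 1 := h
      have h3 := congrArg Units.val h2
      exact h3⟩, (mem_SU_iff _).mpr ((mem_GU_iff g.1).mp g.2.1)⟩
  invFun s := ⟨Matrix.SpecialLinearGroup.toGL s.1,
    ⟨(mem_GU_iff _).mpr ((mem_SU_iff s.1).mp s.2), by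
      show Matrix.GeneralLinearGroup.det (Matrix.SpecialLinearGroup.toGL s.1) = 1
      apply Units.ext
      exact s.1.2⟩⟩
  left_inv g := by
    apply Subtype.ext
    apply Units.ext
    rfl
  right_inv s := by
    apply Subtype.ext
    apply Subtype.ext
    rfl

/-- a prime dividing the index of the stabilizer of a polar pair in `SU_{2m}(q)` divides `q` or
`q ^ j + 1` for some odd `j < 2 m` -/
theorem dvd_of_dvd_relIndex (hK : Fintype.card K = q ^ 2) (hm : 1 ≤ m)
    {D : Fin 2 → Submodule K (Fin (m + m) → K)}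
    (hD : Cfsg.Geo.IsMDecomposition m D)
    (hDs : ∀ i, Cfsg.Geo.IsTotallySingularFor (Cfsg.hermForm (m + m) K q) (D i))
    (r : ℕ) (hr : r.Prime)
    (hΩ : r ∣ (Cfsg.Geo.decompositionStabilizer D).relIndex
      (Cfsg.GU (m + m) K q ⊓ Cfsg.Geo.specialLinear (Fin (m + m)) K)) :
    r ∣ q ∨ ∃ j, j < m ∧ r ∣ q ^ (2 * j + 1) + 1 := by
  classical
  obtain ⟨E, G, hfr, hE, hG⟩ := exists_frame_of_decomp hK hD hDs
  set S := Cfsg.GU (m + m) K q ⊓ Cfsg.Geo.specialLinear (Fin (m + m)) K with hS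
  set H := Cfsg.Geo.decompositionStabilizer D with hH
  set G₀ := (detq q m K).ker with hG₀
  have hmemS : ∀ A : G₀, embGL hK hfr A.1 ∈ S := by
    intro A
    refine ⟨embGL_mem_GU hK hfr A.1, ?_⟩
    show Matrix.GeneralLinearGroup.det (embGL hK hfr A.1) = 1
    apply Units.ext
    exact det_embGL_of_mem_ker hK hfr A.1 A.2
  let ψ₁ : G₀ →* S := ((embGL hK hfr).comp G₀.subtype).codRestrict S hmemS
  have hmemH : ∀ A : G₀, ψ₁ A ∈ H.subgroupOf S := by
    intro A
    rw [Subgroup.mem_subgroupOf]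
    exact embGL_mem_stab hK hfr hE hG A.1
  let ψ₂ : G₀ →* ↥(H.subgroupOf S) := ψ₁.codRestrict (H.subgroupOf S) hmemH
  have hinj : Function.Injective ψ₂ := by
    intro A B hAB
    have h1 : (ψ₂ A : S) = (ψ₂ B : S) := congrArg Subtype.val hAB
    have h2 : ((ψ₂ A : S) : GL (Fin (m + m)) K) = ((ψ₂ B : S) : GL (Fin (m + m)) K) :=
      congrArg Subtype.val h1
    exact Subtype.ext (embGL_injective hK hfr h2)
  obtain ⟨t, ht⟩ := Subgroup.card_dvd_of_injective ψ₂ hinj
  have h1 : (H.subgroupOf S).index * Nat.card ↥(H.subgroupOf S) = Nat.card S :=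
    Subgroup.index_mul_card _
  have h2 : Nat.card S = Nat.card (Cfsg.SU (m + m) K q) := Nat.card_congr (suEquiv (m + m) q K)
  have h3 := card_SU hK (m + m) (by omega)
  have h4 : Nat.card G₀ * G₀.index = Nat.card (GL (Fin m) K) := Subgroup.card_mul_index G₀
  have h5 : Nat.card (GL (Fin m) K) = ∏ i ∈ Finset.range m, ((q ^ 2) ^ m - (q ^ 2) ^ i) := by
    rw [Matrix.card_GL_field, hK, Fin.prod_univ_eq_prod_range (fun i => (q ^ 2) ^ m - (q ^ 2) ^ i)]
  obtain ⟨s, hs⟩ := index_ker_detq_dvd (m := m) hK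
  have hq2 := two_le_q hK
  apply arith_index q m ((Cfsg.Geo.decompositionStabilizer D).relIndex S) (t * s)
    ((m + m) * (m + m - 1) / 2) r hq2 hr hΩ
  rw [← h3, ← h2, ← h1, ← h5, ← h4, hs, ht]
  show (H.subgroupOf S).index * (t * s) * (Nat.card G₀ * G₀.index) =
    G₀.index * s * ((H.subgroupOf S).index * (Nat.card G₀ * t))
  ring

end index

end Cfsg.Agent.Lib.Helper43_PolarPair3
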