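import Mathlib
import Cfsg.Prelude.Def_Classical
import Cfsg.Agent.Lib.Helper5_SUCenter

/-!
helper63: package S2496-PSU (helper42's market): a power of the class of `g ∈ SU_n(q)` in `PSU_n(q)` is trivial iff
that power of `g` is a scalar matrix.  Also the `orderOf` consequence.
-/

set_option autoImplicit false

namespace Cfsg.Agent.Lib.Helper63_S2496_PSU

open Matrix

/-- **S2496-PSU**. -/
theorem PSU_pow {F : Type*} [Field F] [Fintype F] {q n : ℕ} (hF : Fintype.card F = q ^ 2)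
    (hn : 0 < n) (g : Cfsg.SU n F q) (j : ℕ) :
    ((QuotientGroup.mk g : Cfsg.PSU n F q) ^ j = 1) ↔
      ∃ c : F, (((g ^ j : Cfsg.SU n F q) : Matrix.SpecialLinearGroup (Fin n) F) :
        Matrix (Fin n) (Fin n) F) = c • (1 : Matrix (Fin n) (Fin n) F) := by
  rw [← QuotientGroup.mk_pow, QuotientGroup.eq_one_iff]
  constructor
  · intro h
    exact ⟨_, Cfsg.Agent.Lib.Helper5_SUCenter.center_eq_smul hF (g ^ j) h ⟨0, hn⟩⟩
  · rintro ⟨c, hc⟩
    rw [Subgroup.mem_center_iff]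
    intro h
    apply Subtype.ext
    apply Subtype.ext
    show ((h : Matrix.SpecialLinearGroup (Fin n) F) : Matrix (Fin n) (Fin n) F) *
        (((g ^ j : Cfsg.SU n F q) : Matrix.SpecialLinearGroup (Fin n) F) : Matrix (Fin n) (Fin n) F) =
      (((g ^ j : Cfsg.SU n F q) : Matrix.SpecialLinearGroup (Fin n) F) : Matrix (Fin n) (Fin n) F) *
        ((h : Matrix.SpecialLinearGroup (Fin n) F) : Matrix (Fin n) (Fin n) F)
    rw [hc, Matrix.mul_smul, Matrix.smul_mul, Matrix.mul_one, Matrix.one_mul]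

/-- package name alias -/
theorem PSU {F : Type*} [Field F] [Fintype F] {q n : ℕ} (hF : Fintype.card F = q ^ 2)
    (hn : 0 < n) (g : Cfsg.SU n F q) (j : ℕ) :
    ((QuotientGroup.mk g : Cfsg.PSU n F q) ^ j = 1) ↔
      ∃ c : F, (((g ^ j : Cfsg.SU n F q) : Matrix.SpecialLinearGroup (Fin n) F) :
        Matrix (Fin n) (Fin n) F) = c • (1 : Matrix (Fin n) (Fin n) F) :=
  PSU_pow hF hn g j

/-- the order of the class of `g` in `PSU_n(q)` from the scalar powers of `g` -/
theorem orderOf_mk_eq {F : Type*} [Field F] [Fintype F] {q n : ℕ} (hF : Fintype.card F = q ^ 2)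
    (hn : 0 < n) (g : Cfsg.SU n F q) (N : ℕ)
    (h : ∀ j : ℕ, (∃ c : F, (((g ^ j : Cfsg.SU n F q) : Matrix.SpecialLinearGroup (Fin n) F) :
        Matrix (Fin n) (Fin n) F) = c • (1 : Matrix (Fin n) (Fin n) F)) ↔ N ∣ j) :
    orderOf (QuotientGroup.mk g : Cfsg.PSU n F q) = N := by
  apply Nat.dvd_antisymm
  · apply orderOf_dvd_of_pow_eq_one
    rw [PSU_pow hF hn, h]
  · rw [← h, ← PSU_pow hF hn]
    exact pow_orderOf_eq_one _

end Cfsg.Agent.Lib.Helper63_S2496_PSU
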