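import Mathlib
import Cfsg.Prelude.Def_Classical
import Cfsg.Agent.Lib.Helper43_PolarPair3
import Cfsg.Agent.Lib.Helper5_SUCenter
import Cfsg.Agent.Lib.Helper42_S2496_DEC
import Cfsg.Agent.Lib.Helper42_S2496_BLK
import Cfsg.Agent.Lib.Helper63_S2496_PSU
import Cfsg.Agent.Lib.Helper35_S2496_PRIME
import Cfsg.Agent.Lib.Helper35_S2496_ARITH

/-!
# S2496, forward direction

An element of order `q^m + (-1)^m` of `PSU_{2m}(q)`, `q` odd, forces `v₂(q+1) < v₂(2m)`.
-/

set_option autoImplicit false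

namespace Cfsg.Agent.Lib.Helper42_S2496Fwd

open Matrix Cfsg.Agent.Lib.Helper43_PolarPair1 Cfsg.Agent.Lib.Helper43_PolarPair2
  Cfsg.Agent.Lib.Helper43_PolarPair3 Cfsg.Agent.Lib.Helper5_GUOrder Cfsg.Agent.Lib.Helper5_SUOrder
  Cfsg.Agent.Lib.Helper5_SUCenter Cfsg.Agent.Lib.Helper13_Herm Cfsg.Agent.Lib.Helper13_HermBridge
  Cfsg.Agent.Lib.Helper42_S2496_DEC Cfsg.Agent.Lib.Helper42_S2496_BLK Cfsg.Agent.Lib.Helper63_S2496_PSU
  Cfsg.Agent.Lib.Helper35_S2496_PRIME Cfsg.Agent.Lib.Helper35_S2496_ARITH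

section frames

variable {K : Type*} [Field K] [Fintype K] {q m : ℕ}
variable {E G : Matrix (Fin (m + m)) (Fin m) K}

theorem frameMat_smul (c : K) (A B : Matrix (Fin m) (Fin m) K) :
    frameMat q E G (c • A) (c • B) = c • frameMat q E G A B := by
  unfold frameMat
  rw [Matrix.mul_smul, Matrix.smul_mul, Matrix.mul_smul, Matrix.smul_mul, smul_add]

theorem frameMat_pow (h : IsFrame q E G) (A B : Matrix (Fin m) (Fin m) K) (k : ℕ) :
    frameMat q E G A B ^ k = frameMat q E G (A ^ k) (B ^ k) := by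
  induction k with
  | zero => rw [pow_zero, pow_zero, pow_zero, frameMat_one h]
  | succ k ih => rw [pow_succ, ih, frameMat_mul h, ← pow_succ, ← pow_succ]

theorem L'_mul_frameMat_mul_G (h : IsFrame q E G) (A B : Matrix (Fin m) (Fin m) K) :
    rowL q E * frameMat q E G A B * G = B := by
  rw [Matrix.mul_assoc, frameMat_mul_G h, ← Matrix.mul_assoc, h.L'G, Matrix.one_mul]

theorem frameMat_inj (h : IsFrame q E G) {A B A' B' : Matrix (Fin m) (Fin m) K}
    (heq : frameMat q E G A B = frameMat q E G A' B') : A = A' ∧ B = B' := by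
  constructor
  · have h1 := congrArg (fun g => rowL q G * g * E) heq
    simp only [L_mul_frameMat_mul_E h] at h1
    exact h1
  · have h1 := congrArg (fun g => rowL q E * g * G) heq
    simp only [L'_mul_frameMat_mul_G h] at h1
    exact h1

theorem frameMat_scalar (h : IsFrame q E G) (c : K) :
    frameMat q E G (c • (1 : Matrix (Fin m) (Fin m) K)) (c • (1 : Matrix (Fin m) (Fin m) K)) =
      c • (1 : Matrix (Fin (m + m)) (Fin (m + m)) K) := by
  rw [frameMat_smul, frameMat_one h]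

theorem isU_pow {n : ℕ} {M : Matrix (Fin n) (Fin n) K} (hM : IsU n q M) (k : ℕ) :
    IsU n q (M ^ k) := by
  induction k with
  | zero =>
    intro u v
    rw [pow_zero, Matrix.one_mulVec, Matrix.one_mulVec]
  | succ k ih =>
    intro u v
    rw [pow_succ, ← Matrix.mulVec_mulVec, ← Matrix.mulVec_mulVec, ih, hM]

theorem gram_of_isU (hK : Fintype.card K = q ^ 2) {n : ℕ} {M : Matrix (Fin n) (Fin n) K}
    (hM : IsU n q M) : Mᵀ * fr q M = 1 :=
  gram_of_preserves (by have := two_le_q hK; omega) M hM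

theorem det_fr (hK : Fintype.card K = q ^ 2) (B : Matrix (Fin m) (Fin m) K) :
    (fr q B).det = B.det ^ q := by
  have h1 : fr q B = (frobQ hK).mapMatrix B := rfl
  rw [h1, ← RingHom.map_det, frobQ_apply]

theorem fr_smul_one (hK : Fintype.card K = q ^ 2) (c : K) :
    fr q (c • (1 : Matrix (Fin m) (Fin m) K)) = c ^ q • (1 : Matrix (Fin m) (Fin m) K) := by
  have hq : q ≠ 0 := by have := two_le_q hK; omega
  ext i j
  rw [fr_apply, Matrix.smul_apply, Matrix.smul_apply, Matrix.one_apply]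
  by_cases hij : i = j
  · simp [hij]
  · simp [hij, hq]

end frames

/-- `gcd(2m, Q) ∣ m` iff the 2-part of `Q` is smaller than that of `2m` -/
theorem gcd_dvd_iff (m Q : ℕ) (hm : 0 < m) (hQ : 0 < Q) :
    Nat.gcd (2 * m) Q ∣ m ↔ padicValNat 2 Q < padicValNat 2 (2 * m) := by
  have h2m : padicValNat 2 (2 * m) = padicValNat 2 m + 1 := by
    rw [padicValNat.mul (by norm_num) hm.ne', padicValNat.self (by norm_num), add_comm]
  constructor
  · intro h
    by_contra hlt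
    push Not at hlt
    have h1 : 2 ^ padicValNat 2 (2 * m) ∣ 2 * m := pow_padicValNat_dvd
    have h2 : 2 ^ padicValNat 2 (2 * m) ∣ Q :=
      dvd_trans (pow_dvd_pow 2 hlt) pow_padicValNat_dvd
    have h3 : 2 ^ padicValNat 2 (2 * m) ∣ m := dvd_trans (Nat.dvd_gcd h1 h2) h
    have h4 := (padicValNat_dvd_iff_le (p := 2) hm.ne').1 h3
    omega
  · intro hlt
    set D := Nat.gcd (2 * m) Q with hD
    have hDpos : 0 < D := Nat.gcd_pos_of_pos_right _ hQ
    obtain ⟨v, D', hD'odd, hDeq⟩ := Nat.exists_eq_two_pow_mul_odd hDpos.ne'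
    have hD2m : D ∣ 2 * m := Nat.gcd_dvd_left _ _
    have hDQ : D ∣ Q := Nat.gcd_dvd_right _ _
    have h1 : D' ∣ m := by
      have : D' ∣ 2 * m := dvd_trans (hDeq ▸ dvd_mul_left D' (2 ^ v)) hD2m
      exact (Nat.Coprime.dvd_of_dvd_mul_left (Nat.Coprime.symm
        (Nat.coprime_two_left.2 hD'odd)) this)
    have h2 : 2 ^ v ∣ Q := dvd_trans (hDeq ▸ dvd_mul_right (2 ^ v) D') hDQ
    have h3 : v ≤ padicValNat 2 Q := (padicValNat_dvd_iff_le (p := 2) hQ.ne').1 h2
    have h4 : 2 ^ v ∣ m := (padicValNat_dvd_iff_le (p := 2) hm.ne').2 (by omega)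
    rw [hDeq]
    exact Nat.Coprime.mul_dvd_of_dvd_of_dvd
      (Nat.Coprime.pow_left v (Nat.coprime_two_left.2 hD'odd)) h4 h1

/-- **Necessity**. -/
theorem forward {F : Type*} [Field F] [Fintype F] {q : ℕ} (hF : Fintype.card F = q ^ 2)
    (hodd : Odd q) {m : ℕ} (hm : 2 ≤ m) (g : Cfsg.PSU (m + m) F q)
    (hg : orderOf g = if Even m then q ^ m + 1 else q ^ m - 1) :
    padicValNat 2 (q + 1) < padicValNat 2 (m + m) := by
  classical
  have hq2 : 2 ≤ q := two_le_q hF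
  have hq3 : 3 ≤ q := by
    obtain ⟨z, hz⟩ := hodd
    omega
  have hq0 : q ≠ 0 := by omega
  have hqm : 4 ≤ q ^ m := by
    calc 4 = 2 ^ 2 := by norm_num
      _ ≤ q ^ 2 := Nat.pow_le_pow_left hq2 2
      _ ≤ q ^ m := Nat.pow_le_pow_right (by omega) hm
  obtain ⟨N, hN⟩ : ∃ N, N = if Even m then q ^ m + 1 else q ^ m - 1 := ⟨_, rfl⟩
  rw [← hN] at hg
  have hNpos : 0 < N := by
    rw [hN]
    split_ifs <;> omega
  obtain ⟨r, hr, hr2, hrq, hrq1, hrN, hord, hmod4⟩ := PRIME q m hodd hq3 hm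
  rw [← hN] at hrN
  obtain ⟨T, M, hTpos, hM, hMNT, hdM, hdT⟩ := ARITH q m hq2 (by omega)
  rw [← hN] at hMNT
  obtain ⟨g', rfl⟩ := QuotientGroup.mk_surjective g
  obtain ⟨Mg, hMgdef⟩ : ∃ Mg : Matrix (Fin (m + m)) (Fin (m + m)) F,
    Mg = ((g' : Matrix.SpecialLinearGroup (Fin (m + m)) F) :
      Matrix (Fin (m + m)) (Fin (m + m)) F) := ⟨_, rfl⟩
  have hpow : ∀ j : ℕ, (((g' ^ j : Cfsg.SU (m + m) F q) :
      Matrix.SpecialLinearGroup (Fin (m + m)) F) : Matrix (Fin (m + m)) (Fin (m + m)) F) =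
      Mg ^ j := by
    intro j
    rw [hMgdef, Subgroup.coe_pow, Matrix.SpecialLinearGroup.coe_pow]
  have hMgU : IsU (m + m) q Mg := by
    rw [hMgdef]
    exact (mem_SU_iff g'.1).1 g'.2
  have hMgdet : Mg.det = 1 := by
    rw [hMgdef]
    exact g'.1.2
  have hUpow : ∀ j, IsU (m + m) q (Mg ^ j) := fun j => isU_pow hMgU j
  have hmm : 0 < m + m := by omega
  -- the scalar `Mg ^ N`
  have h1 : (QuotientGroup.mk g' : Cfsg.PSU (m + m) F q) ^ N = 1 := by
    rw [← hg]
    exact pow_orderOf_eq_one _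
  rw [PSU_pow hF hmm, hpow] at h1
  obtain ⟨c, hc⟩ := h1
  have hcq : c ^ (q + 1) = 1 := by
    have hU := hUpow N
    rw [hc] at hU
    have hdet : (c • (1 : Matrix (Fin (m + m)) (Fin (m + m)) F)).det = 1 := by
      rw [← hc, Matrix.det_pow, hMgdet, one_pow]
    exact (smul_one_props hF ⟨0, hmm⟩ c hU hdet).2
  obtain ⟨e, he⟩ := hrN
  have he0 : 0 < e := by
    rcases Nat.eq_zero_or_pos e with h | h
    · rw [h, mul_zero] at he
      omega
    · exact h
  obtain ⟨Y, hY⟩ : ∃ Y, Y = Mg ^ ((q + 1) * e) := ⟨_, rfl⟩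
  have hYr : Y ^ r = 1 := by
    rw [hY, ← pow_mul]
    have : (q + 1) * e * r = N * (q + 1) := by
      rw [he]
      ring
    rw [this, pow_mul, hc, smul_pow, one_pow, hcq, one_smul]
  have hY1 : Y ≠ 1 := by
    intro h
    have h2 : (QuotientGroup.mk g' : Cfsg.PSU (m + m) F q) ^ ((q + 1) * e) = 1 := by
      rw [PSU_pow hF hmm, hpow]
      exact ⟨1, by rw [one_smul, ← hY]; exact h⟩
    have h3 := orderOf_dvd_of_pow_eq_one h2
    rw [hg, he] at h3
    exact hrq1 ((Nat.mul_dvd_mul_iff_right he0).1 h3)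
  have hYU : IsU (m + m) q Y := by
    rw [hY]
    exact hUpow _
  obtain ⟨D₀, D₁, hcompl, hf0, hf1, hs0, hs1, hinv⟩ :=
    DEC hF (by omega) r hr hr2 hrq hord hmod4 Y hYU hYr hY1
  obtain ⟨E, G, hfr, hE, hG⟩ := exists_frame hF D₀ D₁ hcompl hf0 hf1 hs0 hs1
  have hMgY : Mg * Y = Y * Mg := by
    rw [hY]
    exact ((Commute.refl Mg).pow_right _).eq
  obtain ⟨hMg0, hMg1⟩ := hinv Mg hMgY
  obtain ⟨hY0, hY1'⟩ := hinv Y rfl
  have hfac : ∀ (X : Matrix (Fin (m + m)) (Fin m) F) (D : Submodule F (Fin (m + m) → F))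
      (hX : LinearMap.range X.mulVecLin = D) (Z : Matrix (Fin (m + m)) (Fin (m + m)) F)
      (hZ : ∀ v ∈ D, Z *ᵥ v ∈ D), ∃ A : Matrix (Fin m) (Fin m) F, Z * X = X * A := by
    intro X D hX Z hZ
    apply exists_factor X X Z
    rw [hX]
    rintro _ ⟨v, hv, rfl⟩
    rw [Matrix.toLin'_apply]
    exact hZ v hv
  obtain ⟨A, hA⟩ := hfac E D₀ hE Mg hMg0
  obtain ⟨B, hB⟩ := hfac G D₁ hG Mg hMg1
  obtain ⟨YA, hYA⟩ := hfac E D₀ hE Y hY0
  obtain ⟨YB, hYB⟩ := hfac G D₁ hG Y hY1'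
  have hMgf : Mg = frameMat q E G A B := eq_frameMat hfr Mg A B hA hB
  have hYf : Y = frameMat q E G YA YB := eq_frameMat hfr Y YA YB hYA hYB
  -- the blocks of `Y`
  have hYAr : YA ^ r = 1 := by
    have h2 := hYr
    rw [hYf, frameMat_pow hfr, ← frameMat_one hfr] at h2
    exact (frameMat_inj hfr h2).1
  have hYgram : YAᵀ * fr q YB = 1 := by
    apply of_frameMat_unitary hF hfr
    rw [← hYf]
    exact gram_of_isU hF hYU
  have hYA1 : YA ≠ 1 := by
    intro h
    rw [h, Matrix.transpose_one, Matrix.one_mul] at hYgram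
    have h2 : YB = 1 := by
      have := congrArg (fr q) hYgram
      rwa [fr_fr hF, fr_one hF] at this
    apply hY1
    rw [hYf, h, h2, frameMat_one hfr]
  have hcomm : A * YA = YA * A := by
    have h2 := hMgY
    rw [hMgf, hYf, frameMat_mul hfr, frameMat_mul hfr] at h2
    exact (frameMat_inj hfr h2).1
  -- determinants
  have hgram : Aᵀ * fr q B = 1 := by
    apply of_frameMat_unitary hF hfr
    rw [← hMgf]
    exact gram_of_isU hF hMgU
  have hdetAB : A.det * B.det = 1 := by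
    rw [← det_frameMat hfr, ← hMgf, hMgdet]
  have hdetAB' : A.det * B.det ^ q = 1 := by
    have := congrArg Matrix.det hgram
    rwa [Matrix.det_mul, Matrix.det_transpose, det_fr hF, Matrix.det_one] at this
  have hA0 : A.det ≠ 0 := by
    intro h
    rw [h, zero_mul] at hdetAB
    exact zero_ne_one hdetAB
  have hB0 : B.det ≠ 0 := by
    intro h
    rw [h, mul_zero] at hdetAB
    exact zero_ne_one hdetAB
  have hBq : B.det ^ (q - 1) = 1 := by
    have h2 : B.det ^ q = B.det := mul_left_cancel₀ hA0 (hdetAB'.trans hdetAB.symm)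
    have h3 : B.det ^ (q - 1) * B.det = 1 * B.det := by
      rw [← pow_succ, Nat.sub_add_cancel (by omega), h2, one_mul]
    exact mul_right_cancel₀ hB0 h3
  have hAq : A.det ^ (q - 1) = 1 := by
    have h2 : (A.det * B.det) ^ (q - 1) = 1 := by rw [hdetAB, one_pow]
    rwa [mul_pow, hBq, mul_one] at h2
  -- the block lemma
  obtain ⟨d, hd⟩ : ∃ d, d = Nat.gcd (2 * m) (q + 1) := ⟨_, rfl⟩
  rw [← hd] at hdM hdT
  have hdq : d ∣ q + 1 := by
    rw [hd]
    exact Nat.gcd_dvd_right _ _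
  obtain ⟨M', hM'⟩ := hdM
  obtain ⟨c', hc', hc'd⟩ := BLK hF (by omega : 0 < m) r hr hord YA A hYAr hYA1 hcomm hAq d M' hdq
    (by rw [← hM', hM])
  have hc'q : c' ^ (q + 1) = 1 := by
    obtain ⟨u, hu⟩ := hdq
    rw [hu, pow_mul, hc'd, one_pow]
  have hc'0 : c' ≠ 0 := by
    rintro rfl
    rw [zero_pow (by omega)] at hc'q
    exact zero_ne_one hc'q
  have hc'inv : c' ^ q * c' = 1 := by rw [← pow_succ]; exact hc'q
  -- the second block
  have hBM' : B ^ M' = c' • (1 : Matrix (Fin m) (Fin m) F) := by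
    have h2 : (A ^ M')ᵀ * fr q (B ^ M') = 1 := by
      apply of_frameMat_unitary hF hfr
      rw [← frameMat_pow hfr, ← hMgf]
      exact gram_of_isU hF (hUpow M')
    rw [hc', Matrix.transpose_smul, Matrix.transpose_one, Matrix.smul_mul, Matrix.one_mul] at h2
    have h3 : fr q (B ^ M') = c' ^ q • (1 : Matrix (Fin m) (Fin m) F) := by
      have h4 := congrArg (fun X => c' ^ q • X) h2
      simp only [smul_smul, hc'inv, one_smul] at h4
      exact h4
    have h5 := congrArg (fr q) h3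
    rw [fr_fr hF, fr_smul_one hF, ← pow_mul, ← sq] at h5
    rw [h5]
    congr 1
    rw [← hF]
    exact FiniteField.pow_card c'
  have hMgM' : Mg ^ M' = c' • (1 : Matrix (Fin (m + m)) (Fin (m + m)) F) := by
    rw [hMgf, frameMat_pow hfr, hc', hBM', frameMat_scalar hfr]
  have hNM' : N ∣ M' := by
    have h2 : (QuotientGroup.mk g' : Cfsg.PSU (m + m) F q) ^ M' = 1 := by
      rw [PSU_pow hF hmm, hpow]
      exact ⟨c', hMgM'⟩
    rw [← hg]
    exact orderOf_dvd_of_pow_eq_one h2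
  obtain ⟨k', hk'⟩ := hNM'
  have hdT' : d ∣ T := by
    refine ⟨k', ?_⟩
    have : N * T = N * (d * k') := by
      rw [← hMNT, hM', hk']
      ring
    exact Nat.eq_of_mul_eq_mul_left hNpos this
  have hdm : d ∣ m := hdT.1 hdT'
  rw [hd] at hdm
  have h2m : m + m = 2 * m := by ring
  rw [h2m]
  exact (gcd_dvd_iff m (q + 1) (by omega) (by omega)).1 hdm

end Cfsg.Agent.Lib.Helper42_S2496Fwd
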