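import Mathlib
import Cfsg.Prelude.Def_Classical

/-!
# Helper49_S2933Defs

Shared definitions and basic lemmas for the S2933 packages (a 2-group `T` with commuting
automorphisms `ρ` (order 3, fixed-point-free) and `τ` (order dividing 2) whose fixed points form a
four-group).

* `prod3`, `comm_rho`, `rho_rho` : the classical identities `t * ρ t * ρ (ρ t) = 1`,
  `t * ρ t = ρ t * t`, `ρ (ρ t) = (t * ρ t)⁻¹` for a fixed-point-free automorphism with `ρ³ = 1`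
  of a finite group.
* `PC64` : the power-commutator relations of a Sylow 2-subgroup of `PSU₃(4)` on six generators.
* `Canon ρ x y a` : canonical generators in the case where all involutions are central.
* `Concl T` : the conclusion of S2933 for an abstract group `T`.
-/

set_option autoImplicit false

open scoped commutatorElement

namespace Cfsg.Agent.Lib.Helper49_S2933Defs

variable {T : Type*} [Group T]

/-- `s ↦ s⁻¹ * ρ s` is injective for a fixed-point-free automorphism. -/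
theorem lang_injective (ρ : MulAut T) (hfp : ∀ t : T, ρ t = t → t = 1) :
    Function.Injective (fun s : T => s⁻¹ * ρ s) := by
  intro s u h
  simp only at h
  have h1 : ρ (u * s⁻¹) = u * s⁻¹ := by
    rw [map_mul, map_inv]
    have h2 : ρ u = u * (s⁻¹ * ρ s) := by rw [h]; group
    rw [h2]; group
  have h3 := hfp _ h1
  have : u = s := by
    have := congrArg (· * s) h3
    simpa using this
  exact this.symm

/-- `t * ρ t * ρ (ρ t) = 1` for a fixed-point-free automorphism with `ρ³ = 1` of a finite group. -/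
theorem prod3 [Finite T] (ρ : MulAut T) (hρ3 : ∀ t : T, ρ (ρ (ρ t)) = t)
    (hfp : ∀ t : T, ρ t = t → t = 1) (t : T) : t * ρ t * ρ (ρ t) = 1 := by
  obtain ⟨s, hs⟩ := (Finite.injective_iff_surjective.mp (lang_injective ρ hfp)) t
  simp only at hs
  subst hs
  simp only [map_mul, map_inv, hρ3]
  group

/-- `ρ t * ρ (ρ t) = ρ (ρ t) * ρ t`. -/
theorem comm_rho_aux [Finite T] (ρ : MulAut T) (hρ3 : ∀ t : T, ρ (ρ (ρ t)) = t)
    (hfp : ∀ t : T, ρ t = t → t = 1) (t : T) : ρ t * ρ (ρ t) = ρ (ρ t) * ρ t := by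
  have h1 := prod3 ρ hρ3 hfp (ρ t)
  rw [hρ3] at h1
  -- h1 : ρ t * ρ (ρ t) * t = 1
  have h2 := prod3 ρ hρ3 hfp t⁻¹
  simp only [map_inv] at h2
  -- h2 : t⁻¹ * (ρ t)⁻¹ * (ρ (ρ t))⁻¹ = 1
  have h3 : ρ (ρ t) * ρ t * t = 1 := by
    have := congrArg (·⁻¹) h2
    simpa [mul_assoc] using this
  have h4 : ρ t * ρ (ρ t) = t⁻¹ := eq_inv_of_mul_eq_one_left h1
  have h5 : ρ (ρ t) * ρ t = t⁻¹ := eq_inv_of_mul_eq_one_left h3
  rw [h4, h5]

/-- `t * ρ t = ρ t * t`. -/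
theorem comm_rho [Finite T] (ρ : MulAut T) (hρ3 : ∀ t : T, ρ (ρ (ρ t)) = t)
    (hfp : ∀ t : T, ρ t = t → t = 1) (t : T) : t * ρ t = ρ t * t := by
  have h := comm_rho_aux ρ hρ3 hfp (ρ (ρ t))
  rw [hρ3] at h
  exact h

/-- `ρ (ρ t) = (t * ρ t)⁻¹`. -/
theorem rho_rho [Finite T] (ρ : MulAut T) (hρ3 : ∀ t : T, ρ (ρ (ρ t)) = t)
    (hfp : ∀ t : T, ρ t = t → t = 1) (t : T) : ρ (ρ t) = (t * ρ t)⁻¹ :=
  eq_inv_of_mul_eq_one_right (prod3 ρ hρ3 hfp t)

/-- The power-commutator relations of a Sylow 2-subgroup of `PSU₃(4)` (order 64) on the six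
generators `x₁, x₂ = ρ x₁, y₁, y₂ = ρ y₁, a₁, a₂ = ρ a₁`. -/
structure PC64 (x₁ x₂ y₁ y₂ a₁ a₂ : T) : Prop where
  a1_sq : a₁ * a₁ = 1
  a2_sq : a₂ * a₂ = 1
  a1_c : ∀ t : T, a₁ * t = t * a₁
  a2_c : ∀ t : T, a₂ * t = t * a₂
  x1_sq : x₁ * x₁ = a₁
  x2_sq : x₂ * x₂ = a₂
  y1_sq : y₁ * y₁ = a₁ * a₂
  y2_sq : y₂ * y₂ = a₁
  x12 : x₂ * x₁ = x₁ * x₂
  y12 : y₂ * y₁ = y₁ * y₂
  xy11 : y₁ * x₁ = x₁ * y₁ * a₁
  xy12 : y₂ * x₁ = x₁ * y₂ * (a₁ * a₂)
  xy21 : y₁ * x₂ = x₂ * y₁ * (a₁ * a₂)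
  xy22 : y₂ * x₂ = x₂ * y₂ * a₂

/-- Canonical generators in the case where every involution is central. -/
def Canon (ρ : MulAut T) (x y a : T) : Prop :=
  a ≠ 1 ∧ x ^ 2 = a ∧ ⁅x, y⁆ = a ∧ y ^ 2 = ρ (ρ a)

/-- The conclusion of S2933 for an abstract group `T`. -/
def Concl (T : Type*) [Group T] : Prop :=
  (Nat.card T = 16 ∧ ∀ x : T, x ^ 2 = 1) ∨
  (∃ n : ℕ, 1 ≤ n ∧
    Nonempty (T ≃* Multiplicative (ZMod (2 ^ n)) × Multiplicative (ZMod (2 ^ n)))) ∨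
  (∃ (F : Type) (_ : Field F) (_ : Fintype F), Fintype.card F = 4 ∧
    ∀ P : Sylow 2 (Matrix.ProjectiveSpecialLinearGroup (Fin 3) F),
      Nonempty (T ≃* ↥(P : Subgroup (Matrix.ProjectiveSpecialLinearGroup (Fin 3) F)))) ∨
  (∃ (F : Type) (_ : Field F) (_ : Fintype F), Fintype.card F = 16 ∧
    ∀ P : Sylow 2 (Cfsg.PSU 3 F 4), Nonempty (T ≃* ↥(P : Subgroup (Cfsg.PSU 3 F 4))))

end Cfsg.Agent.Lib.Helper49_S2933Defs
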