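import Mathlib
import Cfsg.Agent.Lib.Helper76_S3157Defs

/-!
# Helper76_S3157_RHO

S3157, package RHO: from the structure of `T` (special of type `2^{2+4}`) to `HypR`: the
commutator identities `⁅ρ a, b⁆ = ⁅a, ρ b⁆ = ρ⁻¹ ⁅a, b⁆`.
-/

set_option autoImplicit false

open scoped commutatorElement
open Cfsg.Agent.Lib.Helper76_S3157Defs

namespace Cfsg.Agent.Lib.Helper76_S3157_RHO

/-- the linear algebra over `F₄` behind the commutator identities -/
theorem solve {M : Type*} [Group M] (r : M →* M) (h2 : ∀ w : M, w * w = 1)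
    (h3 : ∀ w : M, r (r (r w)) = w) (hp : ∀ w : M, w * r w * r (r w) = 1) (β f g : M)
    (e1 : β * f = r (r g)) (e2 : β * g = r (r f)) : g = r (r β) ∧ f = r (r β) := by
  have hinv : ∀ u : M, u⁻¹ = u := fun u => inv_eq_of_mul_eq_one_left (h2 u)
  have E2 : ∀ w : M, r (r w) = w * r w := by
    intro w
    have h := hp w
    have h1 : r (r w) = (w * r w)⁻¹ := eq_inv_of_mul_eq_one_right h
    rw [h1, hinv]
  have E3 : ∀ w : M, w * r (r w) = r w := by
    intro w
    rw [E2, ← mul_assoc, h2, one_mul]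
  have hf : f = β * r (r g) := by
    rw [← e1, ← mul_assoc, h2, one_mul]
  have e3 : β * g = r (r β) * r g := by
    rw [e2, hf, map_mul, map_mul, h3]
  have e4 : g * r g = β * r (r β) := by
    have h5 : g = β * (r (r β) * r g) := by
      rw [← e3, ← mul_assoc, h2, one_mul]
    calc g * r g = β * (r (r β) * r g) * r g := by rw [← h5]
      _ = β * r (r β) * (r g * r g) := by
          simp only [mul_assoc]
      _ = β * r (r β) := by rw [h2, mul_one]
  have e5 : r (r g) = r β := by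
    rw [E2 g, e4, E3]
  have hg : g = r (r β) := by
    have := congrArg r e5
    rw [h3] at this
    exact this
  refine ⟨hg, ?_⟩
  rw [hf, e5, ← E2]

variable {T : Type*} [Group T]

theorem comm_mul_left (hcl : ∀ a b : T, ⁅a, b⁆ ∈ Subgroup.center T) (a b c : T) :
    ⁅a * b, c⁆ = ⁅a, c⁆ * ⁅b, c⁆ := by
  have h1 := Subgroup.mem_center_iff.mp (hcl b c) a
  have h2 : ⁅a * b, c⁆ = a * ⁅b, c⁆ * a⁻¹ * ⁅a, c⁆ := by
    simp only [commutatorElement_def]; group
  rw [h2, h1]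
  have h3 := Subgroup.mem_center_iff.mp (hcl a c) ⁅b, c⁆
  rw [mul_inv_cancel_right, h3]

theorem comm_mul_right (hcl : ∀ a b : T, ⁅a, b⁆ ∈ Subgroup.center T) (a b c : T) :
    ⁅a, b * c⁆ = ⁅a, b⁆ * ⁅a, c⁆ := by
  have h1 := Subgroup.mem_center_iff.mp (hcl a c) b
  have h2 : ⁅a, b * c⁆ = ⁅a, b⁆ * (b * ⁅a, c⁆ * b⁻¹) := by
    simp only [commutatorElement_def]; group
  rw [h2, h1, mul_inv_cancel_right]

theorem comm_central_left {z : T} (hz : z ∈ Subgroup.center T) (b : T) : ⁅z, b⁆ = 1 := by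
  have := Subgroup.mem_center_iff.mp hz b
  rw [commutatorElement_eq_one_iff_mul_comm]
  exact this.symm

theorem comm_central_right {z : T} (hz : z ∈ Subgroup.center T) (a : T) : ⁅a, z⁆ = 1 := by
  have := Subgroup.mem_center_iff.mp hz a
  rw [commutatorElement_eq_one_iff_mul_comm]
  exact this

theorem hypR_of_structure [Finite T] (hT : Nat.card T = 64) (hna : ∃ a b : T, a * b ≠ b * a)
    (ρ : MulAut T) (hρ3 : ∀ t : T, ρ (ρ (ρ t)) = t) (hfp : ∀ y : T, ρ y = y → y = 1)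
    (hZ : Nat.card (Subgroup.center T) = 4) (hcl : ∀ a b : T, ⁅a, b⁆ ∈ Subgroup.center T)
    (hsq : ∀ a : T, a ^ 2 ∈ Subgroup.center T) (hz2 : ∀ z ∈ Subgroup.center T, z ^ 2 = 1) :
    HypR T ρ := by
  have hrhoZ : ∀ z ∈ Subgroup.center T, ρ z ∈ Subgroup.center T := by
    intro z hz
    rw [Subgroup.mem_center_iff]
    intro g
    have h1 := Subgroup.mem_center_iff.mp hz (ρ.symm g)
    have h2 := congrArg ρ h1
    rw [map_mul, map_mul, MulEquiv.apply_symm_apply] at h2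
    exact h2
  have hcomm : ∀ z ∈ Subgroup.center T, ∀ g : T, g * z = z * g :=
    fun z hz g => Subgroup.mem_center_iff.mp hz g
  have hzprod : ∀ z ∈ Subgroup.center T, z * ρ z * ρ (ρ z) = 1 := by
    intro z hz
    apply hfp
    rw [map_mul, map_mul, hρ3]
    have h1 := hcomm z hz (ρ z * ρ (ρ z))
    rw [h1, mul_assoc]
  have hzz : ∀ z ∈ Subgroup.center T, z * z = 1 := by
    intro z hz
    rw [← pow_two]; exact hz2 z hz
  have hzinv : ∀ z ∈ Subgroup.center T, z⁻¹ = z :=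
    fun z hz => inv_eq_of_mul_eq_one_left (hzz z hz)
  have hfpfZ : ∀ t : T, t⁻¹ * ρ t ∈ Subgroup.center T → t ∈ Subgroup.center T := by
    intro t ht
    set z := t⁻¹ * ρ t with hzdef
    have hρt : ρ t = t * z := by rw [hzdef]; group
    have hρz := hrhoZ z ht
    have hρρz := hrhoZ _ hρz
    have h1 : ρ (t * ρ z) = t * ρ z := by
      rw [map_mul, hρt]
      -- z * ρ² z = ρ z
      have h2 : z * ρ (ρ z) = ρ z := by
        have h3 := hzprod z ht
        have h4 : z * ρ (ρ z) * ρ z = 1 := by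
          rw [mul_assoc, ← hcomm _ hρρz (ρ z), ← mul_assoc]; exact h3
        have h5 : z * ρ (ρ z) = (ρ z)⁻¹ := eq_inv_of_mul_eq_one_left h4
        rw [h5, hzinv _ hρz]
      rw [mul_assoc, h2]
    have h3 := hfp _ h1
    have h4 : t = (ρ z)⁻¹ := eq_inv_of_mul_eq_one_left h3
    rw [h4]
    exact (Subgroup.center T).inv_mem hρz
  -- a * ρ a * ρ² a is central
  have hnorm : ∀ a : T, a * ρ a * ρ (ρ a) ∈ Subgroup.center T := by
    intro a
    apply hfpfZ
    have h1 : (a * ρ a * ρ (ρ a))⁻¹ * ρ (a * ρ a * ρ (ρ a)) = ⁅(a * ρ a * ρ (ρ a))⁻¹, a⁻¹⁆ := by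
      rw [map_mul, map_mul, hρ3, commutatorElement_def]
      group
    rw [h1]
    exact hcl _ _
  -- the restriction of ρ to the centre
  let r : Subgroup.center T →* Subgroup.center T :=
    { toFun := fun z => ⟨ρ z, hrhoZ z z.2⟩
      map_one' := by apply Subtype.ext; simp
      map_mul' := by intro u v; apply Subtype.ext; simp }
  have hr : ∀ z : Subgroup.center T, ((r z : Subgroup.center T) : T) = ρ z := fun z => rfl
  have h2M : ∀ w : Subgroup.center T, w * w = 1 := by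
    intro w; apply Subtype.ext; simpa using hzz w w.2
  have h3M : ∀ w : Subgroup.center T, r (r (r w)) = w := by
    intro w; apply Subtype.ext
    simp only [hr]
    exact hρ3 w
  have hpM : ∀ w : Subgroup.center T, w * r w * r (r w) = 1 := by
    intro w; apply Subtype.ext
    simp only [Subgroup.coe_mul, hr, Subgroup.coe_one]
    exact hzprod w w.2
  have key : ∀ a b : T, ⁅a, ρ b⁆ = ρ (ρ ⁅a, b⁆) ∧ ⁅ρ a, b⁆ = ρ (ρ ⁅a, b⁆) := by
    intro a b
    -- ⁅ρ² a, b⁆ = ⁅a, b⁆ * ⁅ρ a, b⁆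
    have hsum_l : ∀ a b : T, ⁅a, b⁆ * ⁅ρ a, b⁆ * ⁅ρ (ρ a), b⁆ = 1 := by
      intro a b
      rw [← comm_mul_left hcl, ← comm_mul_left hcl]
      exact comm_central_left (hnorm a) b
    have hsum_r : ∀ a b : T, ⁅a, b⁆ * ⁅a, ρ b⁆ * ⁅a, ρ (ρ b)⁆ = 1 := by
      intro a b
      rw [← comm_mul_right hcl, ← comm_mul_right hcl]
      exact comm_central_right (hnorm b) a
    have hl : ⁅ρ (ρ a), b⁆ = ⁅a, b⁆ * ⁅ρ a, b⁆ := by
      have h1 : ⁅ρ (ρ a), b⁆ = (⁅a, b⁆ * ⁅ρ a, b⁆)⁻¹ := eq_inv_of_mul_eq_one_right (hsum_l a b)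
      rw [h1, hzinv _ ((Subgroup.center T).mul_mem (hcl _ _) (hcl _ _))]
    have hrr : ⁅a, ρ (ρ b)⁆ = ⁅a, b⁆ * ⁅a, ρ b⁆ := by
      have h1 : ⁅a, ρ (ρ b)⁆ = (⁅a, b⁆ * ⁅a, ρ b⁆)⁻¹ := eq_inv_of_mul_eq_one_right (hsum_r a b)
      rw [h1, hzinv _ ((Subgroup.center T).mul_mem (hcl _ _) (hcl _ _))]
    -- ⁅ρ² a, b⁆ = ρ² ⁅a, ρ b⁆
    have hl2 : ⁅ρ (ρ a), b⁆ = ρ (ρ ⁅a, ρ b⁆) := by
      rw [map_commutatorElement, map_commutatorElement, hρ3]
    have hr2 : ⁅a, ρ (ρ b)⁆ = ρ (ρ ⁅ρ a, b⁆) := by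
      rw [map_commutatorElement, map_commutatorElement, hρ3]
    let β : Subgroup.center T := ⟨⁅a, b⁆, hcl _ _⟩
    let f : Subgroup.center T := ⟨⁅ρ a, b⁆, hcl _ _⟩
    let g : Subgroup.center T := ⟨⁅a, ρ b⁆, hcl _ _⟩
    have e1 : β * f = r (r g) := by
      apply Subtype.ext
      simp only [Subgroup.coe_mul, hr]
      change ⁅a, b⁆ * ⁅ρ a, b⁆ = ρ (ρ ⁅a, ρ b⁆)
      rw [← hl, hl2]
    have e2 : β * g = r (r f) := by
      apply Subtype.ext
      simp only [Subgroup.coe_mul, hr]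
      change ⁅a, b⁆ * ⁅a, ρ b⁆ = ρ (ρ ⁅ρ a, b⁆)
      rw [← hrr, hr2]
    obtain ⟨hg, hf⟩ := solve r h2M h3M hpM β f g e1 e2
    constructor
    · have := congrArg Subtype.val hg
      exact this
    · have := congrArg Subtype.val hf
      exact this
  exact
    { card := hT
      rho3 := hρ3
      fpf := hfp
      nonab := hna
      cardZ := hZ
      cl2 := hcl
      sq := hsq
      z2 := hz2
      rhoZ := hrhoZ
      zprod := hzprod
      fpfZ := hfpfZ
      comm_l := fun a b => (key a b).2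
      comm_r := fun a b => (key a b).1 }

end Cfsg.Agent.Lib.Helper76_S3157_RHO
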