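import Mathlib
import Cfsg.Agent.Lib.Helper49_S2933Defs
import Cfsg.Agent.Lib.Helper76_S3157Defs
import Cfsg.Agent.Lib.Helper76_S3157_RHO

/-!
# S2933 package CAN (helper49's market): canonical generators when all involutions are central.
-/

set_option autoImplicit false

open scoped commutatorElement
open Cfsg.Agent.Lib.Helper49_S2933Defs Cfsg.Agent.Lib.Helper76_S3157Defs
  Cfsg.Agent.Lib.Helper76_S3157_RHO

namespace Cfsg.Agent.Lib.Helper42_S2933_CAN

variable {T : Type*} [Group T]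

/-- The centre is `{1, c, ρ c, ρ (ρ c)}` for any nonidentity central `c`. -/
theorem center_enum [Finite T] {ρ : MulAut T} (h : HypR T ρ) (c : T)
    (hc : c ∈ Subgroup.center T) (hc1 : c ≠ 1) (z : T) (hz : z ∈ Subgroup.center T) :
    z = 1 ∨ z = c ∨ z = ρ c ∨ z = ρ (ρ c) := by
  classical
  by_contra hcon
  push Not at hcon
  obtain ⟨hz1, hzc, hzρ, hzρρ⟩ := hcon
  have hρc : ρ c ≠ c := fun e => hc1 (h.fpf c e)
  have hρρc : ρ (ρ c) ≠ c := by
    intro e
    apply hρc
    have := congrArg ρ e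
    rw [h.rho3] at this
    exact this.symm
  have hρρρ : ρ (ρ c) ≠ ρ c := fun e => hρc (ρ.injective e)
  have hρ1 : ρ c ≠ 1 := by
    intro e
    apply hc1
    have : ρ c = ρ 1 := by rw [e, map_one]
    exact ρ.injective this
  have hρρ1 : ρ (ρ c) ≠ 1 := by
    intro e
    apply hρ1
    have : ρ (ρ c) = ρ 1 := by rw [e, map_one]
    exact ρ.injective this
  obtain ⟨S, hSdef⟩ : ∃ S : Finset T, S = {1, c, ρ c, ρ (ρ c), z} := ⟨_, rfl⟩
  have hS : S.card = 5 := by
    rw [hSdef, Finset.card_insert_of_notMem, Finset.card_insert_of_notMem,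
      Finset.card_insert_of_notMem, Finset.card_insert_of_notMem, Finset.card_singleton]
    · simp only [Finset.mem_singleton]
      exact fun e => hzρρ e.symm
    · simp only [Finset.mem_insert, Finset.mem_singleton, not_or]
      exact ⟨fun e => hρρρ e.symm, fun e => hzρ e.symm⟩
    · simp only [Finset.mem_insert, Finset.mem_singleton, not_or]
      exact ⟨fun e => hρc e.symm, fun e => hρρc e.symm, fun e => hzc e.symm⟩
    · simp only [Finset.mem_insert, Finset.mem_singleton, not_or]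
      exact ⟨fun e => hc1 e.symm, fun e => hρ1 e.symm, fun e => hρρ1 e.symm,
        fun e => hz1 e.symm⟩
  have hsub : (S : Set T) ⊆ ((Subgroup.center T : Subgroup T) : Set T) := by
    intro w hw
    rw [hSdef] at hw
    simp only [Finset.coe_insert, Finset.coe_singleton, Set.mem_insert_iff,
      Set.mem_singleton_iff] at hw
    rcases hw with rfl | rfl | rfl | rfl | rfl
    · exact (Subgroup.center T).one_mem
    · exact hc
    · exact h.rhoZ _ hc
    · exact h.rhoZ _ (h.rhoZ _ hc)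
    · exact hz
  have h5 := Set.ncard_le_ncard hsub (Set.toFinite _)
  rw [Set.ncard_coe_finset, hS] at h5
  have h4 : (((Subgroup.center T : Subgroup T) : Set T)).ncard = 4 := by
    rw [← h.cardZ]
    exact (Nat.card_coe_set_eq _).symm
  omega

/-- `(g k)² = g² k² ⁅k, g⁆` in class 2. -/
theorem sq_mul_of_class_two (hcl : ∀ a b : T, ⁅a, b⁆ ∈ Subgroup.center T) (g k : T) :
    (g * k) ^ 2 = g ^ 2 * k ^ 2 * ⁅k, g⁆ := by
  have hc := Subgroup.mem_center_iff.mp (hcl k g)
  calc (g * k) ^ 2 = g * ⁅k, g⁆ * g * k * k := by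
        rw [commutatorElement_def, pow_two]; group
    _ = g * (⁅k, g⁆ * (g * k * k)) := by simp only [mul_assoc]
    _ = g * ((g * k * k) * ⁅k, g⁆) := by rw [hc]
    _ = g ^ 2 * k ^ 2 * ⁅k, g⁆ := by simp only [pow_two, mul_assoc]

/-- **CAN** (M). Canonical generators when all involutions are central. -/
theorem exists_canon {T : Type*} [Group T] [Finite T] {ρ : MulAut T} (h : HypR T ρ)
    (hell : ∀ u : T, u ^ 2 = 1 → u ∈ Subgroup.center T) : ∃ x y a : T, Canon ρ x y a := by
  have hcl := h.cl2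
  have hcomm' : ∀ w ∈ Subgroup.center T, ∀ g : T, g * w = w * g :=
    fun w hw g => Subgroup.mem_center_iff.mp hw g
  have hzz : ∀ w ∈ Subgroup.center T, w * w = 1 := by
    intro w hw
    rw [← pow_two]
    exact h.z2 w hw
  -- a non-central element
  obtain ⟨x, b0, hxb⟩ := h.nonab
  have hxZ : x ∉ Subgroup.center T := by
    intro hx
    exact hxb ((hcomm' x hx b0).symm)
  obtain ⟨a, ha⟩ : ∃ a : T, a = x ^ 2 := ⟨_, rfl⟩
  have haZ : a ∈ Subgroup.center T := ha ▸ h.sq x
  have ha1 : a ≠ 1 := by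
    intro e
    apply hxZ
    apply hell
    rw [← ha, e]
  -- some commutator with x is nontrivial
  have hex : ∃ b : T, ⁅x, b⁆ ≠ 1 := by
    by_contra hcon
    push Not at hcon
    apply hxZ
    rw [Subgroup.mem_center_iff]
    intro g
    have := hcon g
    rw [commutatorElement_eq_one_iff_mul_comm] at this
    exact this.symm
  obtain ⟨b, hb⟩ := hex
  obtain ⟨c, hcdef⟩ : ∃ c : T, c = ⁅x, b⁆ := ⟨_, rfl⟩
  have hcZ : c ∈ Subgroup.center T := hcdef ▸ hcl x b
  have hc1 : c ≠ 1 := hcdef ▸ hb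
  -- every central element is a commutator with x
  have hsurj : ∀ z ∈ Subgroup.center T, ∃ y : T, ⁅x, y⁆ = z := by
    intro z hz
    rcases center_enum h c hcZ hc1 z hz with e | e | e | e
    · exact ⟨1, by rw [e, commutatorElement_one_right]⟩
    · exact ⟨b, by rw [e, hcdef]⟩
    · refine ⟨ρ (ρ b), ?_⟩
      rw [e, h.comm_r, h.comm_r, ← hcdef, h.rho3]
    · exact ⟨ρ b, by rw [e, h.comm_r, ← hcdef]⟩
  obtain ⟨y₀, hy₀⟩ := hsurj a haZ
  have hy₀Z : y₀ ∉ Subgroup.center T := by
    intro hy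
    apply ha1
    rw [← hy₀]
    exact comm_central_right hy x
  -- the commutator of x with y₀ * ρ x
  have hcomm2 : ⁅x, y₀ * ρ x⁆ = a := by
    rw [comm_mul_right hcl, hy₀, h.comm_r, commutatorElement_self, map_one, map_one, mul_one]
  have hρa : (ρ x) ^ 2 = ρ a := by rw [ha, map_pow]
  have hρρa : ⁅ρ x, y₀⁆ = ρ (ρ a) := by rw [h.comm_l, hy₀]
  have hsq2 : (y₀ * ρ x) ^ 2 = y₀ ^ 2 * ρ a * ρ (ρ a) := by
    rw [sq_mul_of_class_two hcl, hρa, hρρa]
  rcases center_enum h a haZ ha1 (y₀ ^ 2) (h.sq y₀) with e | e | e | e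
  · exact absurd (hell y₀ e) hy₀Z
  · exfalso
    have hw2 : (y₀ * ρ x) ^ 2 = 1 := by
      rw [hsq2, e]
      exact h.zprod a haZ
    have hwZ := hell _ hw2
    apply ha1
    rw [← hcomm2]
    exact comm_central_right hwZ x
  · refine ⟨x, y₀ * ρ x, a, ha1, ha.symm, hcomm2, ?_⟩
    rw [hsq2, e, hzz _ (h.rhoZ a haZ), one_mul]
  · exact ⟨x, y₀, a, ha1, ha.symm, hy₀, e⟩

end Cfsg.Agent.Lib.Helper42_S2933_CAN
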