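import Mathlib

/-!
# S2933 package FPF (helper49's market): `r` is fixed-point-free if `r`, `s` have no common
nonidentity fixed point, `s² = 1`, `rs = sr`, on a finite 2-group.
-/

set_option autoImplicit false

namespace Cfsg.Agent.Lib.Helper42_S2933_FPF

/-- **FPF** (S). The fixed points `C` of `r` form an `s`-invariant subgroup;
`s` acts on the 2-group `C` as a permutation of order dividing 2 whose only fixed point is `1`, so
`|C| ≡ 1 mod 2` and `|C|` is a power of 2: `C = 1`. -/
theorem fpf_of_fix {T : Type*} [Group T] [Finite T] (hT : IsPGroup 2 T) (r s : MulAut T)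
    (h2 : ∀ x, s (s x) = x) (hc : ∀ x, r (s x) = s (r x))
    (hfix : ∀ x, s x = x → r x = x → x = 1) : ∀ x, r x = x → x = 1 := by
  classical
  intro x hx
  obtain ⟨C, hC⟩ : ∃ C : Subgroup T, ∀ y, y ∈ C ↔ r y = y :=
    ⟨(r.toMonoidHom).eqLocus (MonoidHom.id T), fun y => Iff.rfl⟩
  have hsC : ∀ y : C, s (y : T) ∈ C := by
    intro y
    rw [hC, hc, (hC y).mp y.2]
  let f : Function.End C := fun y => ⟨s (y : T), hsC y⟩
  have hf : f ^ 2 ^ 1 = 1 := by
    rw [pow_one, pow_two]
    funext y
    apply Subtype.ext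
    show s (s (y : T)) = (y : T)
    exact h2 _
  have : Fintype C := Fintype.ofFinite C
  have h2p : Fact (Nat.Prime 2) := ⟨Nat.prime_two⟩
  have hmod := Equiv.Perm.card_fixedPoints_modEq (p := 2) (n := 1) hf
  have hfp : Fintype.card (Function.fixedPoints f) = 1 := by
    rw [Fintype.card_eq_one_iff]
    refine ⟨⟨1, ?_⟩, ?_⟩
    · show f 1 = 1
      apply Subtype.ext
      show s ((1 : C) : T) = ((1 : C) : T)
      simp
    · rintro ⟨y, hy⟩
      apply Subtype.ext
      apply Subtype.ext
      have hy' : f y = y := hy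
      have h1 : s (y : T) = (y : T) := congrArg Subtype.val hy'
      have h3 : (y : T) = 1 := hfix _ h1 ((hC _).mp y.2)
      simpa using h3
  rw [hfp] at hmod
  obtain ⟨k, hk⟩ := IsPGroup.iff_card.mp (hT.to_subgroup C)
  rw [Nat.card_eq_fintype_card] at hk
  rw [hk] at hmod
  have hk0 : k = 0 := by
    by_contra hne
    obtain ⟨m, rfl⟩ := Nat.exists_eq_succ_of_ne_zero hne
    have : (2 ^ (m + 1)) % 2 = 1 % 2 := hmod
    rw [pow_succ, Nat.mul_mod_left] at this
    omega
  have hcard : Nat.card C = 1 := by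
    rw [Nat.card_eq_fintype_card, hk, hk0, pow_zero]
  have hbot : C = ⊥ := Subgroup.card_eq_one.mp hcard
  have hxC : x ∈ C := (hC x).mpr hx
  rw [hbot, Subgroup.mem_bot] at hxC
  exact hxC

end Cfsg.Agent.Lib.Helper42_S2933_FPF
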