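import Mathlib

/-!
# S2933 package NAR (helper49's market): `T = ⟨x, r x⟩ T'` with `T'` central and `x`, `r x`
commuting is abelian.
-/

set_option autoImplicit false

open scoped commutatorElement

namespace Cfsg.Agent.Lib.Helper42_S2933_NAR

/-- If all commutators are central, `commutator T ≤ center T`. -/
theorem commutator_le_center {T : Type*} [Group T]
    (hcl : ∀ a b : T, ⁅a, b⁆ ∈ Subgroup.center T) : commutator T ≤ Subgroup.center T := by
  rw [commutator_def, Subgroup.commutator_le]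
  intro a _ b _
  exact hcl a b

/-- **NAR** (S). `T = ⟨x, r x⟩ T'` with `T'` central and `x, r x` commuting: `T` is
abelian (every `a` is `x^i * (r x)^j * c`, `c ∈ commutator T ≤ center`). -/
theorem comm_of_rank_two {T : Type*} [Group T] (r : MulAut T)
    (hcl : ∀ a b : T, ⁅a, b⁆ ∈ Subgroup.center T) (x : T) (hx : x * r x = r x * x)
    (hgen : ∀ a : Abelianization T, ∃ i j : ℕ,
      a = Abelianization.of x ^ i * Abelianization.of (r x) ^ j) :
    ∀ a b : T, a * b = b * a := by
  obtain ⟨y, hy⟩ : ∃ y : T, y = r x := ⟨_, rfl⟩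
  rw [← hy] at hx hgen
  have hxy : Commute x y := hx
  have hdec : ∀ a : T, ∃ i j : ℕ, ∃ c ∈ Subgroup.center T, a = x ^ i * y ^ j * c := by
    intro a
    obtain ⟨i, j, hij⟩ := hgen (Abelianization.of a)
    refine ⟨i, j, (x ^ i * y ^ j)⁻¹ * a, ?_, by group⟩
    apply commutator_le_center hcl
    rw [← Abelianization.ker_of, MonoidHom.mem_ker, map_mul, map_inv, hij, map_mul, map_pow,
      map_pow]
    group
  intro a b
  obtain ⟨i, j, c, hc, rfl⟩ := hdec a
  obtain ⟨k, l, d, hd, rfl⟩ := hdec b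
  have hc' : ∀ g : T, g * c = c * g := fun g => (Subgroup.mem_center_iff.mp hc g)
  have hd' : ∀ g : T, g * d = d * g := fun g => (Subgroup.mem_center_iff.mp hd g)
  have h1 : Commute (x ^ i * y ^ j) (x ^ k * y ^ l) := by
    apply Commute.mul_left
    · exact Commute.mul_right (Commute.pow_pow_self x i k) (hxy.pow_pow i l)
    · exact Commute.mul_right ((hxy.pow_pow k j).symm) (Commute.pow_pow_self y j l)
  calc x ^ i * y ^ j * c * (x ^ k * y ^ l * d)
      = (x ^ i * y ^ j) * (c * (x ^ k * y ^ l)) * d := by simp only [mul_assoc]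
    _ = (x ^ i * y ^ j) * ((x ^ k * y ^ l) * c) * d := by rw [hc']
    _ = ((x ^ i * y ^ j) * (x ^ k * y ^ l)) * (c * d) := by simp only [mul_assoc]
    _ = ((x ^ k * y ^ l) * (x ^ i * y ^ j)) * (d * c) := by rw [h1.eq, hd' c]
    _ = (x ^ k * y ^ l) * ((x ^ i * y ^ j) * d) * c := by simp only [mul_assoc]
    _ = (x ^ k * y ^ l) * (d * (x ^ i * y ^ j)) * c := by rw [hd']
    _ = x ^ k * y ^ l * d * (x ^ i * y ^ j * c) := by simp only [mul_assoc]

end Cfsg.Agent.Lib.Helper42_S2933_NAR
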