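import Mathlib
import Cfsg.Agent.Lib.Helper56_S3390Defs

/-!
# S3390 package FROBB2 (helper42, for architect helper56)

No involution fixes two points of one `N`-orbit.
-/

set_option autoImplicit false

open Cfsg.Agent.Lib.Helper56_S3390Defs

namespace Cfsg.Agent.Lib.Helper42_S3390_FROBB2

variable {G : Type*} [Group G] {Ω : Type*} [MulAction G Ω]

/-- a 2-element is conjugate into a given Sylow 2-subgroup -/
theorem exists_conj_mem_sylow [Finite G] (S : Sylow 2 G) (x : G) (hx : orderOf x = 2) :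
    ∃ c : G, c * x * c⁻¹ ∈ (S : Subgroup G) := by
  have hp : IsPGroup 2 ↥(Subgroup.zpowers x) := by
    apply IsPGroup.of_card (n := 1)
    rw [Nat.card_zpowers, hx, pow_one]
  obtain ⟨Q, hQ⟩ := hp.exists_le_sylow
  obtain ⟨c, hc⟩ := MulAction.exists_smul_eq G Q S
  refine ⟨c, ?_⟩
  have hxQ : x ∈ (Q : Subgroup G) := hQ (Subgroup.mem_zpowers x)
  have h1 : c * x * c⁻¹ ∈ ((c • Q : Sylow 2 G) : Subgroup G) := by
    rw [Sylow.coe_subgroup_smul]
    exact ⟨x, hxQ, by simp [MulAut.smul_def]⟩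
  rw [hc] at h1
  exact h1

theorem no_two_fixed_two [Finite G] (S : Sylow 2 G) (α β : Ω)
    (hP : Pic (S : Subgroup G) α β)
    (hchar : ∀ y ∈ (S : Subgroup G),
      (y ∈ stabIn (S : Subgroup G) α ↔ (y = 1 ∨ ∃ ω : Ω, y • ω = ω)))
    (N : Subgroup G) (hN : N.Normal) (hstab : ∀ x : G, ∀ ω : Ω, x • ω = ω → x ∈ N)
    (s : G) (hsN : s ∉ N) (hsα : s • α = β)
    (x : G) (hx : orderOf x = 2) (ω : Ω) (g : G) (hg : g ∈ N) (hgω : g • ω ≠ ω)
    (hxω : x • ω = ω) (hxg : x • (g • ω) = g • ω) : False := by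
  obtain ⟨c, hc⟩ := exists_conj_mem_sylow S x hx
  have hx1 : x ≠ 1 := by
    intro h
    rw [h, orderOf_one] at hx
    omega
  have hy1 : c * x * c⁻¹ ≠ 1 := by
    intro h
    apply hx1
    have : x = c⁻¹ * (c * x * c⁻¹) * c := by group
    rw [this, h]; group
  have hfix1 : (c * x * c⁻¹) • (c • ω) = c • ω := by
    rw [mul_smul, mul_smul, inv_smul_smul, hxω]
  have hfix2 : (c * x * c⁻¹) • (c • (g • ω)) = c • (g • ω) := by
    rw [mul_smul, mul_smul, inv_smul_smul, hxg]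
  have hyT : c * x * c⁻¹ ∈ stabIn (S : Subgroup G) α := (hchar _ hc).mpr (Or.inr ⟨_, hfix1⟩)
  have h1 := hP.fixT _ hyT hy1 _ hfix1
  have h2 := hP.fixT _ hyT hy1 _ hfix2
  have hne : c • (g • ω) ≠ c • ω := fun h => hgω (smul_left_cancel c h)
  have hs' : s⁻¹ • β = α := by rw [← hsα, inv_smul_smul]
  rcases h1 with h1 | h1 <;> rcases h2 with h2 | h2
  · exact hne (h2.trans h1.symm)
  · -- `cω = α`, `cgω = β`
    have hfix : (c⁻¹ * s⁻¹ * c * g) • ω = ω := by
      rw [mul_smul, mul_smul, mul_smul, h2, hs', ← h1, inv_smul_smul]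
    have hmem := hstab _ _ hfix
    have h3 : c⁻¹ * s⁻¹ * c ∈ N := by
      have : c⁻¹ * s⁻¹ * c = (c⁻¹ * s⁻¹ * c * g) * g⁻¹ := by group
      rw [this]
      exact N.mul_mem hmem (N.inv_mem hg)
    have h4 : s⁻¹ ∈ N := by
      have := hN.conj_mem _ h3 c
      have e : c * (c⁻¹ * s⁻¹ * c) * c⁻¹ = s⁻¹ := by group
      rwa [e] at this
    exact hsN (by simpa using N.inv_mem h4)
  · -- `cω = β`, `cgω = α`
    have hfix : (c⁻¹ * s * c * g) • ω = ω := by
      rw [mul_smul, mul_smul, mul_smul, h2, hsα, ← h1, inv_smul_smul]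
    have hmem := hstab _ _ hfix
    have h3 : c⁻¹ * s * c ∈ N := by
      have : c⁻¹ * s * c = (c⁻¹ * s * c * g) * g⁻¹ := by group
      rw [this]
      exact N.mul_mem hmem (N.inv_mem hg)
    have h4 : s ∈ N := by
      have := hN.conj_mem _ h3 c
      have e : c * (c⁻¹ * s * c) * c⁻¹ = s := by group
      rwa [e] at this
    exact hsN h4
  · exact hne (h2.trans h1.symm)

end Cfsg.Agent.Lib.Helper42_S3390_FROBB2
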