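import Mathlib
import Cfsg.Agent.Lib.Helper56_S3390Defs

/-!
# S3390 package FROBC (helper42, for architect helper56)

The point stabilizer `G_α ∩ N` is a Frobenius complement in `N`.
-/

set_option autoImplicit false

open Cfsg.Agent.Lib.Helper56_S3390Defs
open scoped Pointwise

namespace Cfsg.Agent.Lib.Helper42_S3390_FROBC

variable {G : Type*} [Group G] {Ω : Type*} [MulAction G Ω]

/-- a nontrivial element of a finite group has a power of prime order fixing everything it fixes -/
theorem exists_prime_order_pow [Finite G] (y : G) (hy : y ≠ 1) :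
    ∃ p : ℕ, p.Prime ∧ ∃ k : ℕ, orderOf (y ^ k) = p := by
  have h1 : orderOf y ≠ 1 := fun h => hy (orderOf_eq_one_iff.mp h)
  obtain ⟨p, hp, hpd⟩ := Nat.exists_prime_and_dvd h1
  refine ⟨p, hp, orderOf y / p, ?_⟩
  have hpos : 0 < orderOf y := orderOf_pos y
  exact orderOf_pow_orderOf_div hpos.ne' hpd

theorem pow_smul_eq_of_smul_eq (y : G) (ω : Ω) (h : y • ω = ω) (k : ℕ) : (y ^ k) • ω = ω := by
  induction k with
  | zero => simp
  | succ k ih => rw [pow_succ, mul_smul, h, ih]

set_option linter.unusedVariables false in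
theorem exists_frobenius [Finite G] [FaithfulSMul G Ω] (htr : MulAction.IsPretransitive G Ω)
    (α : Ω) (N : Subgroup G) (hN : N.Normal)
    (hne : ∃ t ∈ N, t ≠ 1 ∧ t • α = α)
    (hstab : ∀ x : G, ∀ ω : Ω, x • ω = ω → x ∈ N)
    (hno : ∀ (p : ℕ), p.Prime → ∀ x : G, orderOf x = p → ∀ ω : Ω, ∀ g ∈ N, g • ω ≠ ω →
      x • ω = ω → x • (g • ω) = g • ω → False) :
    ∃ H : Subgroup ↥N, Cfsg.IsFrobeniusComplement H := by
  obtain ⟨t, htN, ht1, htα⟩ := hne
  have hmemH : ∀ n : ↥N, n ∈ (MulAction.stabilizer G α).subgroupOf N ↔ (n : G) • α = α := by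
    intro n
    rw [Subgroup.mem_subgroupOf, MulAction.mem_stabilizer_iff]
  refine ⟨(MulAction.stabilizer G α).subgroupOf N, ?_, ?_, ?_⟩
  · -- `H ≠ ⊥`
    intro h
    have h1 : (⟨t, htN⟩ : ↥N) ∈ (MulAction.stabilizer G α).subgroupOf N := (hmemH _).mpr htα
    rw [h, Subgroup.mem_bot] at h1
    exact ht1 (congrArg Subtype.val h1)
  · -- `H ≠ ⊤`
    intro h
    have hall : ∀ n ∈ N, n • α = α := by
      intro n hn
      have h1 : (⟨n, hn⟩ : ↥N) ∈ (MulAction.stabilizer G α).subgroupOf N := by rw [h]; trivial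
      exact (hmemH _).mp h1
    apply ht1
    apply FaithfulSMul.eq_of_smul_eq_smul (α := Ω)
    intro ω
    obtain ⟨g, rfl⟩ := MulAction.exists_smul_eq G α ω
    rw [one_smul]
    have h1 : g⁻¹ * t * g⁻¹⁻¹ ∈ N := hN.conj_mem t htN g⁻¹
    have h2 := hall _ h1
    rw [inv_inv, mul_smul, mul_smul] at h2
    have h3 := congrArg (fun z => g • z) h2
    simpa using h3
  · -- the trivial intersection property
    intro g hg
    rw [eq_bot_iff]
    intro y hy
    rw [Subgroup.mem_bot]
    by_contra hy1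
    obtain ⟨hyH, hyc⟩ := hy
    have hgα : (g : G) • α ≠ α := fun h => hg ((hmemH g).mpr h)
    have hyα : (y : G) • α = α := (hmemH y).mp hyH
    have hyg : (y : G) • ((g : G) • α) = (g : G) • α := by
      have hyc' : y ∈ MulAut.conj g • (MulAction.stabilizer G α).subgroupOf N := hyc
      rw [Subgroup.mem_pointwise_smul_iff_inv_smul_mem] at hyc'
      have h1 := (hmemH _).mp hyc'
      rw [MulAut.smul_def, MulAut.conj_inv_apply] at h1
      simp only [Subgroup.coe_mul, Subgroup.coe_inv, mul_smul] at h1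
      have h3 := congrArg (fun z => (g : G) • z) h1
      simpa using h3
    have hy1' : (y : G) ≠ 1 := fun h => hy1 (Subtype.ext h)
    obtain ⟨p, hp, k, hk⟩ := exists_prime_order_pow (y : G) hy1'
    exact hno p hp _ hk α g g.2 hgα (pow_smul_eq_of_smul_eq _ _ hyα k)
      (pow_smul_eq_of_smul_eq _ _ hyg k)

end Cfsg.Agent.Lib.Helper42_S3390_FROBC
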