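import Mathlib
import Cfsg.Prelude.Def_Characters
import Cfsg.Agent.Lib.Helper75_Induced

/-!
# S4472 package INDPOW (helper42, for architect helper74)

An induced function `Ind_S^T f` is invariant under the power map `x ↦ x ^ k` (`k` coprime to `|T|`)
as soon as `f` is.
-/

set_option autoImplicit false
open Cfsg

universe u

namespace Cfsg.Agent.Lib.Helper42_S4472_INDPOW

open Cfsg.Agent.Lib.Helper75_Induced

theorem indFun_pow {T : Type*} [Group T] [Fintype T] (S : Subgroup T) (f : S → ℂ) (k : ℕ)
    (hk : k.Coprime (Nat.card T)) (hf : ∀ s : S, f (s ^ k) = f s) (x : T) :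
    Cfsg.indFun S f (x ^ k) = Cfsg.indFun S f x := by
  rw [indFun_apply, indFun_apply]
  congr 1
  apply Finset.sum_congr rfl
  intro y _
  have hconj : y⁻¹ * x ^ k * y = (y⁻¹ * x * y) ^ k := by
    have h := conj_pow (a := y⁻¹) (b := x) (i := k)
    rw [inv_inv] at h
    exact h.symm
  rw [hconj]
  by_cases hz : y⁻¹ * x * y ∈ S
  · rw [extendByZero_of_mem S f hz, extendByZero_of_mem S f (S.pow_mem hz k)]
    exact hf ⟨y⁻¹ * x * y, hz⟩
  · have hzk : (y⁻¹ * x * y) ^ k ∉ S := by
      intro h
      have hcop : k.Coprime (orderOf (y⁻¹ * x * y)) :=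
        Nat.Coprime.coprime_dvd_right (orderOf_dvd_natCard _) hk
      obtain ⟨l, hl⟩ := exists_pow_eq_self_of_coprime hcop
      apply hz
      rw [← hl]
      exact S.pow_mem h l
    rw [extendByZero_of_not_mem S f hz, extendByZero_of_not_mem S f hzk]

end Cfsg.Agent.Lib.Helper42_S4472_INDPOW
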