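import Mathlib
import Cfsg.Prelude.Def_Characters
import Cfsg.Agent.Lib.Helper75_Clifford

/-!
# S4472 package SUB (helper42, for architect helper74)

`ξ` a `T`-invariant character of the normal subgroup `N`, `θ` an irreducible constituent of `ξ`,
`φ ∈ Irr T` with `[φ|_N, θ] = 1`: then `ξ - φ|_N` is a character of `N`.
-/

set_option autoImplicit false
open Cfsg Cfsg.Agent.Lib.Helper75_Clifford

universe u

namespace Cfsg.Agent.Lib.Helper42_S4472_SUB

open Cfsg.Agent.Lib.Helper75_Induced Cfsg.Agent.Lib.Helper75_CharArith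
  Cfsg.Agent.Lib.Helper75_IndChar
open Cfsg.Agent.Lib.Helper3_CharBridge Cfsg.Agent.Lib.Helper3_CharOrtho
  Cfsg.Agent.Lib.Helper3_CharComplete

theorem sub_isCharacter {T : Type*} [Group T] [Fintype T] (N : Subgroup T) (hN : N.Normal)
    [Fintype N] {ξ : N → ℂ} (hξ : Cfsg.IsCharacter N ξ) (hinv : ∀ t : T, Cfsg.Agent.Lib.Helper75_Clifford.conjFun N hN ξ t = ξ)
    {θ : N → ℂ} (hθ : Cfsg.IsIrrCharacter N θ) (hθξ : Cfsg.classInner ξ θ ≠ 0)
    {φ : T → ℂ} (hφ : Cfsg.IsIrrCharacter T φ) (h1 : Cfsg.classInner (res N φ) θ = 1) :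
    Cfsg.IsCharacter N (ξ - res N φ) := by
  have hφc : Cfsg.IsCharacter T φ := isCharacter_of_isIrrCharacter hφ
  have hφcf : Cfsg.IsClassFunction T φ := isClassFunction_of_isIrrCharacter hφ
  have hres : Cfsg.IsCharacter N (res N φ) := isCharacter_res N hφc
  apply isCharacter_of_classInner_nat
  · exact isClassFunction_sub (isClassFunction_of_isCharacter hξ)
      (isClassFunction_of_isCharacter hres)
  · intro η
    obtain ⟨a, ha⟩ := classInner_isCharacter_nat hξ (isCharacter_of_isIrrCharacter η.2)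
    obtain ⟨b, hb⟩ := classInner_isCharacter_nat hres (isCharacter_of_isIrrCharacter η.2)
    rw [classInner_sub_left, ha, hb]
    by_cases hb0 : b = 0
    · refine ⟨a, ?_⟩
      rw [hb0, Nat.cast_zero, sub_zero]
    · have hbne : Cfsg.classInner (res N φ) (η : N → ℂ) ≠ 0 := by
        rw [hb]
        exact_mod_cast hb0
      have hθne : Cfsg.classInner (res N φ) θ ≠ 0 := by
        rw [h1]
        exact one_ne_zero
      obtain ⟨g, hg⟩ := exists_conj_of_constituent N hN hφ hθ η.2 hθne hbne
      have hb1 : (b : ℂ) = 1 := by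
        rw [← hb, hg, classInner_res_conjFun N hN hφcf, h1]
      have ha' : Cfsg.classInner ξ (η : N → ℂ) = Cfsg.classInner ξ θ := by
        rw [hg]
        conv_lhs => rw [← hinv g]
        exact classInner_conjFun N hN ξ θ g
      have ha0 : a ≠ 0 := by
        intro h0
        apply hθξ
        rw [← ha', ha, h0, Nat.cast_zero]
      refine ⟨a - 1, ?_⟩
      rw [hb1, Nat.cast_sub (Nat.one_le_iff_ne_zero.mpr ha0), Nat.cast_one]

end Cfsg.Agent.Lib.Helper42_S4472_SUB
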