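import Mathlib
import Cfsg.Agent.Lib.Helper80_S4756Defs
import Cfsg.Agent.Lib.Helper24_CoprimeAction

/-!
# S4756 package S2A (helper80's market): `P = C_P(x) × G'`-type decomposition for `x ∈ H` of prime
order, and `[P, x] = G'`.
-/

set_option autoImplicit false

namespace Cfsg.Agent.Lib.Helper42_S4756_S2A

open Cfsg.Agent.Lib.Helper80_S4756Defs

/-- `|K ⊓ L| * |L : K ⊓ L| = |L|`. -/
theorem card_inf_mul_relIndex {G : Type*} [Group G] (K L : Subgroup G) :
    Nat.card (K ⊓ L : Subgroup G) * K.relIndex L = Nat.card L := by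
  have h := Subgroup.relIndex_inf_mul_relIndex (⊥ : Subgroup G) K L
  rw [Subgroup.relIndex_bot_left, bot_inf_eq, Subgroup.relIndex_bot_left] at h
  exact h

/-- Product formula: `|A ⊔ N| * |A ⊓ N| = |A| * |N|` for `N` normal. -/
theorem card_sup_mul_card_inf {G : Type*} [Group G] (A N : Subgroup G) [N.Normal] :
    Nat.card (A ⊔ N : Subgroup G) * Nat.card (A ⊓ N : Subgroup G) = Nat.card A * Nat.card N := by
  have h1 : Nat.card (N ⊓ (A ⊔ N) : Subgroup G) * N.relIndex (A ⊔ N) = Nat.card (A ⊔ N : Subgroup G) :=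
    card_inf_mul_relIndex N (A ⊔ N)
  have h2 : Nat.card (N ⊓ A : Subgroup G) * N.relIndex A = Nat.card A := card_inf_mul_relIndex N A
  rw [Subgroup.relIndex_sup_right] at h1
  rw [inf_eq_left.mpr (le_sup_right : N ≤ A ⊔ N)] at h1
  rw [inf_comm] at h2
  rw [← h1, ← h2]
  ring

/-- `centralizer (zpowers x) = centralizer {x}`. -/
theorem centralizer_zpowers_eq {G : Type*} [Group G] (x : G) :
    Subgroup.centralizer ((Subgroup.zpowers x : Subgroup G) : Set G) =
      Subgroup.centralizer ({x} : Set G) := by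
  apply le_antisymm
  · exact Subgroup.centralizer_le (Set.singleton_subset_iff.mpr (Subgroup.mem_zpowers x))
  · intro g hg
    rw [Subgroup.mem_centralizer_iff] at hg ⊢
    intro z hz
    obtain ⟨k, rfl⟩ := Subgroup.mem_zpowers_iff.mp hz
    have hxg : Commute x g := hg x (Set.mem_singleton x)
    exact (hxg.zpow_left k).eq

/-- **S2A** (M/L). -/
theorem s2a {G : Type*} [Group G] [Finite G] (p : ℕ) [Fact p.Prime] (hc : CentCond G p)
    (P : Sylow p G) (H : Subgroup G) (hPn : (P : Subgroup G).Normal)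
    (hDP : commutator G ≤ (P : Subgroup G))
    (hPH : Subgroup.IsComplement' (P : Subgroup G) H) (hHab : ∀ a ∈ H, ∀ b ∈ H, a * b = b * a)
    (hHcop : (Nat.card H).Coprime p) (x : G) (hxH : x ∈ H) (q : ℕ) (hq : q.Prime)
    (hxo : orderOf x = q) :
    ((P : Subgroup G) ⊓ Subgroup.centralizer ({x} : Set G)) ⊔ commutator G = (P : Subgroup G) ∧
    ((P : Subgroup G) ⊓ Subgroup.centralizer ({x} : Set G)) ⊓ commutator G = ⊥ ∧
    ⁅(P : Subgroup G), Subgroup.zpowers x⁆ = commutator G := by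
  have hp : p.Prime := Fact.out
  have hx1 : x ≠ 1 := by
    intro h
    rw [h, orderOf_one] at hxo
    exact hq.one_lt.ne hxo
  -- q ≠ p
  have hqp : q ≠ p := by
    intro h
    have h1 : orderOf x ∣ Nat.card H := by
      have := orderOf_dvd_natCard (⟨x, hxH⟩ : H)
      rwa [Subgroup.orderOf_mk] at this
    rw [hxo, h] at h1
    have h2 : p ∣ Nat.gcd (Nat.card H) p := Nat.dvd_gcd h1 dvd_rfl
    rw [hHcop] at h2
    exact hp.one_lt.ne' (Nat.dvd_one.mp h2)
  -- the centralizer condition at x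
  have hcx : Nat.card (Subgroup.centralizer ({x} : Set G)) = (commutator G).index :=
    hc x q 1 hx1 hq hqp (by rw [hxo, pow_one])
  -- notation
  obtain ⟨Z, hZ⟩ : ∃ Z : Subgroup G, Z = Subgroup.centralizer ({x} : Set G) := ⟨_, rfl⟩
  obtain ⟨D, hD⟩ : ∃ D : Subgroup G, D = commutator G := ⟨_, rfl⟩
  obtain ⟨E, hE⟩ : ∃ E : Subgroup G, E = ⁅(P : Subgroup G), Subgroup.zpowers x⁆ := ⟨_, rfl⟩
  rw [← hZ, ← hD, ← hE]
  rw [← hZ, ← hD] at hcx
  rw [← hD] at hDP
  have hDn : D.Normal := by rw [hD]; infer_instance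
  -- H ≤ Z
  have hHZ : H ≤ Z := by
    intro h hh
    rw [hZ, Subgroup.mem_centralizer_iff]
    intro y hy
    rw [Set.mem_singleton_iff] at hy
    subst hy
    exact hHab y hxH h hh
  -- |Z| = |P ⊓ Z| * |H|
  have hcardZ : Nat.card Z = Nat.card ((P : Subgroup G) ⊓ Z : Subgroup G) * Nat.card H := by
    have h1 := card_inf_mul_relIndex (P : Subgroup G) Z
    have h2 : (P : Subgroup G).relIndex Z = Nat.card H := by
      have h3 : (P : Subgroup G).relIndex (Z ⊔ (P : Subgroup G)) = (P : Subgroup G).relIndex Z :=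
        Subgroup.relIndex_sup_right Z (P : Subgroup G)
      have h4 : Z ⊔ (P : Subgroup G) = ⊤ := by
        apply top_le_iff.mp
        rw [← hPH.sup_eq_top]
        exact sup_le le_sup_right (le_trans hHZ le_sup_left)
      rw [h4, Subgroup.relIndex_top_right] at h3
      rw [← h3]
      exact hPH.symm.index_eq_card
    rw [h2] at h1
    exact h1.symm
  -- |P ⊓ Z| * |D| = |P|
  have hcardP : Nat.card ((P : Subgroup G) ⊓ Z : Subgroup G) * Nat.card D =
      Nat.card (P : Subgroup G) := by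
    have h1 : D.index * Nat.card D = Nat.card G := Subgroup.index_mul_card D
    have h2 : Nat.card (P : Subgroup G) * Nat.card H = Nat.card G := hPH.card_mul_card
    have hH0 : 0 < Nat.card H := Nat.card_pos
    have h3 : Nat.card ((P : Subgroup G) ⊓ Z : Subgroup G) * Nat.card D * Nat.card H =
        Nat.card (P : Subgroup G) * Nat.card H := by
      rw [h2, ← h1, ← hcx, hcardZ]; ring
    exact Nat.eq_of_mul_eq_mul_right hH0 h3
  -- coprime action
  have hnorm : Subgroup.zpowers x ≤ Subgroup.normalizer ((P : Subgroup G) : Set G) := by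
    rw [Subgroup.normalizer_eq_top]; exact le_top
  have hcop : (Nat.card (Subgroup.zpowers x)).Coprime (Nat.card (P : Subgroup G)) := by
    rw [Nat.card_zpowers, hxo]
    obtain ⟨n, hn⟩ := IsPGroup.iff_card.mp P.isPGroup'
    rw [hn]
    exact Nat.Coprime.pow_right n ((Nat.coprime_primes hq hp).mpr hqp)
  have hsolv : Group.IsSolvable (Subgroup.zpowers x) ∨ Group.IsSolvable (P : Subgroup G) := by
    left
    apply Group.isSolvable_of_comm
    rintro ⟨a, ha⟩ ⟨b, hb⟩
    obtain ⟨i, rfl⟩ := Subgroup.mem_zpowers_iff.mp ha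
    obtain ⟨j, rfl⟩ := Subgroup.mem_zpowers_iff.mp hb
    apply Subtype.ext
    exact (Commute.zpow_zpow_self x i j).eq
  have hED : E ≤ D := by
    rw [hE, hD, commutator_def]
    exact Subgroup.commutator_mono le_top le_top
  have hdecomp : ∀ k ∈ (P : Subgroup G), ∃ d ∈ E, ∃ c ∈ (P : Subgroup G) ⊓ Z, k = d * c := by
    intro k hk
    obtain ⟨d, hd, c, hcc, hkdc⟩ := Cfsg.Agent.Lib.Helper24_CoprimeAction.coprime_decomp
      (Subgroup.zpowers x) (P : Subgroup G) hnorm hcop hsolv hk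
    rw [centralizer_zpowers_eq, ← hZ] at hcc
    rw [← hE] at hd
    exact ⟨d, hd, c, hcc, hkdc⟩
  -- first claim
  have hsup : ((P : Subgroup G) ⊓ Z) ⊔ D = (P : Subgroup G) := by
    apply le_antisymm
    · exact sup_le inf_le_left hDP
    · intro k hk
      obtain ⟨d, hd, c, hcc, rfl⟩ := hdecomp k hk
      exact Subgroup.mul_mem _ (Subgroup.mem_sup_right (hED hd)) (Subgroup.mem_sup_left hcc)
  -- second claim
  have hinf : ((P : Subgroup G) ⊓ Z) ⊓ D = ⊥ := by
    have h1 := card_sup_mul_card_inf ((P : Subgroup G) ⊓ Z) D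
    rw [hsup, hcardP] at h1
    have hP0 : 0 < Nat.card (P : Subgroup G) := Nat.card_pos
    have h2 : Nat.card (((P : Subgroup G) ⊓ Z) ⊓ D : Subgroup G) = 1 := by
      have : Nat.card (P : Subgroup G) * Nat.card (((P : Subgroup G) ⊓ Z) ⊓ D : Subgroup G) =
          Nat.card (P : Subgroup G) * 1 := by rw [h1, mul_one]
      exact Nat.eq_of_mul_eq_mul_left hP0 this
    exact Subgroup.card_eq_one.mp h2
  refine ⟨hsup, hinf, ?_⟩
  -- third claim
  apply le_antisymm hED
  intro d hd
  obtain ⟨e, he, c, hcc, hdec⟩ := hdecomp d (hDP hd)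
  have hcD : c ∈ D := by
    have : c = e⁻¹ * d := by rw [hdec]; group
    rw [this]
    exact D.mul_mem (D.inv_mem (hED he)) hd
  have hc1 : c ∈ ((P : Subgroup G) ⊓ Z) ⊓ D := Subgroup.mem_inf.mpr ⟨hcc, hcD⟩
  rw [hinf, Subgroup.mem_bot] at hc1
  rw [hdec, hc1, mul_one]
  exact he

end Cfsg.Agent.Lib.Helper42_S4756_S2A
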