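import Mathlib
import Cfsg.Agent.Lib.Helper80_S4756Defs

/-!
# S4756 package S2C (helper80's market): `C_P(x) = C_P(H)`.
-/

set_option autoImplicit false

namespace Cfsg.Agent.Lib.Helper42_S4756_S2C

open Cfsg.Agent.Lib.Helper80_S4756Defs

/-- **S2C** (S).  `⊇`: `x ∈ H`.  `⊆`: `c ∈ P ⊓ C{x}`, `h ∈ H`: `h c h⁻¹ ∈ P ⊓ C{x}` (`P` normal; `h`, `h⁻¹`
commute with `x`), so `h c h⁻¹ c⁻¹ ∈ (P ⊓ C{x}) ⊓ commutator G = ⊥`. -/
theorem s2c {G : Type*} [Group G] (P H : Subgroup G) (hPn : P.Normal)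
    (hHab : ∀ a ∈ H, ∀ b ∈ H, a * b = b * a) (x : G) (hxH : x ∈ H)
    (hinf : (P ⊓ Subgroup.centralizer ({x} : Set G)) ⊓ commutator G = ⊥) :
    P ⊓ Subgroup.centralizer ({x} : Set G) = P ⊓ Subgroup.centralizer (H : Set G) := by
  apply le_antisymm
  · intro c hc
    obtain ⟨hcP, hcx⟩ := Subgroup.mem_inf.mp hc
    refine Subgroup.mem_inf.mpr ⟨hcP, ?_⟩
    rw [Subgroup.mem_centralizer_iff]
    intro h hh
    have hxc : x * c = c * x := (Subgroup.mem_centralizer_iff.mp hcx) x (Set.mem_singleton x)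
    have hxh : x * h = h * x := hHab x hxH h hh
    have hxh' : x * h⁻¹ = h⁻¹ * x := by
      have : h⁻¹ * (x * h) * h⁻¹ = h⁻¹ * (h * x) * h⁻¹ := by rw [hxh]
      simpa [mul_assoc] using this.symm
    have hconjP : h * c * h⁻¹ ∈ P := hPn.conj_mem c hcP h
    have hconjx : h * c * h⁻¹ ∈ Subgroup.centralizer ({x} : Set G) := by
      rw [Subgroup.mem_centralizer_iff]
      intro y hy
      rw [Set.mem_singleton_iff] at hy
      subst hy
      calc y * (h * c * h⁻¹) = (y * h) * c * h⁻¹ := by group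
        _ = h * (y * c) * h⁻¹ := by rw [hxh]; group
        _ = h * c * (y * h⁻¹) := by rw [hxc]; group
        _ = h * c * h⁻¹ * y := by rw [hxh']; group
    have hcinv : c⁻¹ ∈ P ⊓ Subgroup.centralizer ({x} : Set G) :=
      Subgroup.inv_mem _ (Subgroup.mem_inf.mpr ⟨hcP, hcx⟩)
    have h1 : h * c * h⁻¹ * c⁻¹ ∈ P ⊓ Subgroup.centralizer ({x} : Set G) :=
      Subgroup.mul_mem _ (Subgroup.mem_inf.mpr ⟨hconjP, hconjx⟩) hcinv
    have h2 : h * c * h⁻¹ * c⁻¹ ∈ commutator G := by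
      rw [commutator_def]
      have := Subgroup.commutator_mem_commutator (Subgroup.mem_top h) (Subgroup.mem_top c)
      rwa [commutatorElement_def] at this
    have h3 : h * c * h⁻¹ * c⁻¹ ∈ (P ⊓ Subgroup.centralizer ({x} : Set G)) ⊓ commutator G :=
      Subgroup.mem_inf.mpr ⟨h1, h2⟩
    rw [hinf, Subgroup.mem_bot] at h3
    have : h * c = c * h := by
      have h4 : h * c * h⁻¹ * c⁻¹ * (c * h) = 1 * (c * h) := by rw [h3]
      simpa [mul_assoc] using h4
    exact this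
  · intro c hc
    obtain ⟨hcP, hcH⟩ := Subgroup.mem_inf.mp hc
    refine Subgroup.mem_inf.mpr ⟨hcP, ?_⟩
    exact Subgroup.centralizer_le (Set.singleton_subset_iff.mpr hxH) hcH

end Cfsg.Agent.Lib.Helper42_S4756_S2C
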