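import Mathlib
import Cfsg.Agent.Lib.Helper76_S5320Defs
import Cfsg.Agent.Lib.Helper76_S5320Bas

set_option autoImplicit false

/-!
S5320-SLCENT (helper76's market): in `SL₂(F)`, `2 ≠ 0`, `X = [a b; b -a]` (`a² + b² = -1`), `Y = [0 -1; 1 0]`:
an element commuting with `X` and `Y` is `±1`; an element conjugating `X` to `±X` and `Y` to `±Y` is one of
`±1, ±X, ±Y, ±XY`.
-/

open Matrix Cfsg.Agent.Lib.Helper42_SL2Class Cfsg.Agent.Lib.Helper76_S5320Defs
  Cfsg.Agent.Lib.Helper76_S5320Bas

namespace Cfsg.Agent.Lib.Helper42_S5320_SLCENT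

variable {F : Type*} [Field F]

theorem ext_entries (n m : SL2 F) (h00 : n.1 0 0 = m.1 0 0) (h01 : n.1 0 1 = m.1 0 1)
    (h10 : n.1 1 0 = m.1 1 0) (h11 : n.1 1 1 = m.1 1 1) : n = m := by
  apply Subtype.ext
  ext i j
  fin_cases i <;> fin_cases j <;> assumption

/-- entrywise form of `n * X = ± X * n` (`e = 1` or `e = -1`) -/
theorem X_entries (a b : F) (h : a * a + b * b = -1) (n : SL2 F) (e : F)
    (hX : n.1 * (X a b h).1 = e • ((X a b h).1 * n.1)) :
    n.1 0 0 * a + n.1 0 1 * b = e * (a * n.1 0 0 + b * n.1 1 0) ∧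
    n.1 0 0 * b - n.1 0 1 * a = e * (a * n.1 0 1 + b * n.1 1 1) := by
  have h00 := congrFun (congrFun hX 0) 0
  have h01 := congrFun (congrFun hX 0) 1
  simp only [X, Matrix.mul_apply, Fin.sum_univ_two, Matrix.smul_apply, smul_eq_mul,
    Matrix.of_apply, Matrix.cons_val', Matrix.cons_val_zero, Matrix.cons_val_one,
    Matrix.cons_val_fin_one] at h00 h01
  constructor
  · linear_combination h00
  · linear_combination h01

/-- entrywise form of `n * Y = ± Y * n` -/
theorem Y_entries (n : SL2 F) (e : F) (hY : n.1 * (Y : SL2 F).1 = e • ((Y : SL2 F).1 * n.1)) :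
    n.1 0 1 = -e * n.1 1 0 ∧ n.1 0 0 = e * n.1 1 1 := by
  have h00 := congrFun (congrFun hY 0) 0
  have h01 := congrFun (congrFun hY 0) 1
  simp only [Y, Matrix.mul_apply, Fin.sum_univ_two, Matrix.smul_apply, smul_eq_mul,
    Matrix.of_apply, Matrix.cons_val', Matrix.cons_val_zero, Matrix.cons_val_one,
    Matrix.cons_val_fin_one] at h00 h01
  constructor
  · linear_combination h00
  · linear_combination -h01

theorem conj_eq_iff (n x z : SL2 F) : n * x * n⁻¹ = z ↔ n.1 * x.1 = z.1 * n.1 := by
  rw [mul_inv_eq_iff_eq_mul]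
  constructor
  · intro h
    exact congrArg Subtype.val h
  · intro h
    exact Subtype.ext h

theorem pm_one_of_sq {x : F} (h : x * x = 1) : x = 1 ∨ x = -1 := by
  have : (x - 1) * (x + 1) = 0 := by linear_combination h
  rcases mul_eq_zero.mp this with h1 | h1
  · left; linear_combination h1
  · right; linear_combination h1

/-- an element of `SL₂` commuting with `X` and `Y` is `±1` -/
theorem comm_XY (h2 : (2 : F) ≠ 0) (a b : F) (h : a * a + b * b = -1) (n : SL2 F)
    (hX : n * X a b h = X a b h * n) (hY : n * Y = Y * n) : n = 1 ∨ n = negS 1 := by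
  have hX' : n.1 * (X a b h).1 = (1 : F) • ((X a b h).1 * n.1) := by
    rw [one_smul]; exact congrArg Subtype.val hX
  have hY' : n.1 * (Y : SL2 F).1 = (1 : F) • ((Y : SL2 F).1 * n.1) := by
    rw [one_smul]; exact congrArg Subtype.val hY
  obtain ⟨x1, x2⟩ := X_entries a b h n 1 hX'
  obtain ⟨y1, y2⟩ := Y_entries n 1 hY'
  have hdet := n.2
  rw [Matrix.det_fin_two] at hdet
  have hr0 : n.1 1 0 = -n.1 0 1 := by linear_combination y1
  have hps : n.1 1 1 = n.1 0 0 := by linear_combination -y2
  have hqb : n.1 0 1 * b = 0 := by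
    have : (2 : F) * (n.1 0 1 * b) = 0 := by linear_combination x1 + b * hr0
    rcases mul_eq_zero.mp this with h' | h'
    · exact absurd h' h2
    · exact h'
  have hqa : n.1 0 1 * a = 0 := by
    have : (2 : F) * (n.1 0 1 * a) = 0 := by linear_combination -x2 - b * hps
    rcases mul_eq_zero.mp this with h' | h'
    · exact absurd h' h2
    · exact h'
  have hq : n.1 0 1 = 0 := by linear_combination (n.1 0 1) * h - a * hqa - b * hqb
  have hr : n.1 1 0 = 0 := by rw [hr0, hq, neg_zero]
  have hpp : n.1 0 0 * n.1 0 0 = 1 := by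
    rw [hps, hq] at hdet; linear_combination hdet
  rcases pm_one_of_sq hpp with hp | hp
  · left
    apply ext_entries
    · rw [hp]; simp
    · rw [hq]; simp
    · rw [hr]; simp
    · rw [hps, hp]; simp
  · right
    apply ext_entries
    · rw [hp]; simp [negS]
    · rw [hq]; simp [negS]
    · rw [hr]; simp [negS]
    · rw [hps, hp]; simp [negS]

/-- an element of `SL₂` conjugating `X` to `±X` and `Y` to `±Y` is one of `±1, ±X, ±Y, ±XY` -/
theorem pm_XY (h2 : (2 : F) ≠ 0) (a b : F) (h : a * a + b * b = -1) (n : SL2 F)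
    (hX : n * X a b h * n⁻¹ = X a b h ∨ n * X a b h * n⁻¹ = negS (X a b h))
    (hY : n * Y * n⁻¹ = Y ∨ n * Y * n⁻¹ = negS Y) : E8 a b h n := by
  have hdet := n.2
  rw [Matrix.det_fin_two] at hdet
  have hXY : (X a b h * Y).1 = !![b, -a; -a, -b] := by
    show (X a b h).1 * (Y : SL2 F).1 = _
    ext i j
    fin_cases i <;> fin_cases j <;> simp [X, Y, Matrix.mul_apply, Fin.sum_univ_two]
  have cancel2 : ∀ t : F, (2 : F) * t = 0 → t = 0 := by
    intro t ht
    rcases mul_eq_zero.mp ht with h' | h'
    · exact absurd h' h2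
    · exact h'
  rcases hX with hX | hX <;> rcases hY with hY | hY
  · -- (+, +)
    have h1 : n * X a b h = X a b h * n := mul_inv_eq_iff_eq_mul.mp hX
    have h3 : n * Y = Y * n := mul_inv_eq_iff_eq_mul.mp hY
    rcases comm_XY h2 a b h n h1 h3 with h' | h'
    · left; exact h'
    · right; left; exact h'
  · -- (+X, -Y): n = ± X
    rw [conj_eq_iff] at hX hY
    have hX' : n.1 * (X a b h).1 = (1 : F) • ((X a b h).1 * n.1) := by rw [one_smul]; exact hX
    have hY' : n.1 * (Y : SL2 F).1 = (-1 : F) • ((Y : SL2 F).1 * n.1) := by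
      rw [hY, negS_coe, neg_one_smul, Matrix.neg_mul]
    obtain ⟨x1, x2⟩ := X_entries a b h n 1 hX'
    obtain ⟨y1, y2⟩ := Y_entries n (-1) hY'
    -- r = q, s = -p, p b = a q
    have hr : n.1 1 0 = n.1 0 1 := by linear_combination -y1
    have hs : n.1 1 1 = -n.1 0 0 := by linear_combination y2
    have hpb : n.1 0 0 * b = n.1 0 1 * a := by
      apply sub_eq_zero.mp
      apply cancel2
      linear_combination x2 + b * hs
    have hdet' : n.1 0 0 * n.1 0 0 + n.1 0 1 * n.1 0 1 = -1 := by
      rw [hr, hs] at hdet; linear_combination -hdet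
    set α : F := -(n.1 0 0 * a + n.1 0 1 * b) with hα
    have hp : n.1 0 0 = α * a := by
      rw [hα]; linear_combination (n.1 0 0) * h - b * hpb
    have hq : n.1 0 1 = α * b := by
      rw [hα]; linear_combination (n.1 0 1) * h + a * hpb
    have hαα : α * α = 1 := by
      have hdet'' : (α * a) * (α * a) + (α * b) * (α * b) = -1 := by
        rw [← hp, ← hq]; exact hdet'
      linear_combination (α * α) * h - hdet''
    rcases pm_one_of_sq hαα with h1 | h1
    · right; right; left
      apply ext_entries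
      · rw [hp, h1]; simp [X]
      · rw [hq, h1]; simp [X]
      · rw [hr, hq, h1]; simp [X]
      · rw [hs, hp, h1]; simp [X]
    · right; right; right; left
      apply ext_entries
      · rw [hp, h1]; simp [X, negS]
      · rw [hq, h1]; simp [X, negS]
      · rw [hr, hq, h1]; simp [X, negS]
      · rw [hs, hp, h1]; simp [X, negS]
  · -- (-X, +Y): n = ± Y
    rw [conj_eq_iff] at hX hY
    have hX' : n.1 * (X a b h).1 = (-1 : F) • ((X a b h).1 * n.1) := by
      rw [hX, negS_coe, neg_one_smul, Matrix.neg_mul]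
    have hY' : n.1 * (Y : SL2 F).1 = (1 : F) • ((Y : SL2 F).1 * n.1) := by rw [one_smul]; exact hY
    obtain ⟨x1, x2⟩ := X_entries a b h n (-1) hX'
    obtain ⟨y1, y2⟩ := Y_entries n 1 hY'
    have hr : n.1 1 0 = -n.1 0 1 := by linear_combination y1
    have hs : n.1 1 1 = n.1 0 0 := by linear_combination -y2
    have hpa : n.1 0 0 * a = 0 := by
      apply cancel2
      linear_combination x1 - b * hr
    have hpb : n.1 0 0 * b = 0 := by
      apply cancel2
      linear_combination x2 - b * hs
    have hp : n.1 0 0 = 0 := by linear_combination (n.1 0 0) * h - a * hpa - b * hpb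
    have hqq : n.1 0 1 * n.1 0 1 = 1 := by
      rw [hr, hs, hp] at hdet; linear_combination hdet
    rcases pm_one_of_sq hqq with h1 | h1
    · right; right; right; right; right; left
      apply ext_entries
      · rw [hp]; simp [Y, negS]
      · rw [h1]; simp [Y, negS]
      · rw [hr, h1]; simp [Y, negS]
      · rw [hs, hp]; simp [Y, negS]
    · right; right; right; right; left
      apply ext_entries
      · rw [hp]; simp [Y]
      · rw [h1]; simp [Y]
      · rw [hr, h1]; simp [Y]
      · rw [hs, hp]; simp [Y]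
  · -- (-X, -Y): n = ± XY
    rw [conj_eq_iff] at hX hY
    have hX' : n.1 * (X a b h).1 = (-1 : F) • ((X a b h).1 * n.1) := by
      rw [hX, negS_coe, neg_one_smul, Matrix.neg_mul]
    have hY' : n.1 * (Y : SL2 F).1 = (-1 : F) • ((Y : SL2 F).1 * n.1) := by
      rw [hY, negS_coe, neg_one_smul, Matrix.neg_mul]
    obtain ⟨x1, x2⟩ := X_entries a b h n (-1) hX'
    obtain ⟨y1, y2⟩ := Y_entries n (-1) hY'
    have hr : n.1 1 0 = n.1 0 1 := by linear_combination -y1
    have hs : n.1 1 1 = -n.1 0 0 := by linear_combination y2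
    have hpa : n.1 0 0 * a + n.1 0 1 * b = 0 := by
      apply cancel2
      linear_combination x1 - b * hr
    have hdet' : n.1 0 0 * n.1 0 0 + n.1 0 1 * n.1 0 1 = -1 := by
      rw [hr, hs] at hdet; linear_combination -hdet
    set β : F := -(n.1 0 0 * b - n.1 0 1 * a) with hβ
    have hp : n.1 0 0 = β * b := by
      rw [hβ]; linear_combination (n.1 0 0) * h - a * hpa
    have hq : n.1 0 1 = -β * a := by
      rw [hβ]; linear_combination (n.1 0 1) * h - b * hpa
    have hββ : β * β = 1 := by
      have hdet'' : (β * b) * (β * b) + (-β * a) * (-β * a) = -1 := by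
        rw [← hp, ← hq]; exact hdet'
      linear_combination (β * β) * h - hdet''
    rcases pm_one_of_sq hββ with h1 | h1
    · right; right; right; right; right; right; left
      apply ext_entries
      · rw [hXY, hp, h1]; simp
      · rw [hXY, hq, h1]; simp
      · rw [hXY, hr, hq, h1]; simp
      · rw [hXY, hs, hp, h1]; simp
    · right; right; right; right; right; right; right
      apply ext_entries
      · rw [negS_coe, hXY, hp, h1]; simp
      · rw [negS_coe, hXY, hq, h1]; simp
      · rw [negS_coe, hXY, hr, hq, h1]; simp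
      · rw [negS_coe, hXY, hs, hp, h1]; simp

end Cfsg.Agent.Lib.Helper42_S5320_SLCENT
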