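import Mathlib
import Cfsg.Agent.Lib.Helper76_S5320Defs
import Cfsg.Agent.Lib.Helper76_S5320Bas
import Cfsg.Agent.Lib.Helper42_PSL2Syl2

set_option autoImplicit false

/-!
Shared lemmas for S5320-SLGEN / S5320-SLN1 (helper76's market): a Sylow 2-subgroup `Q` of `SL₂(F)` contains
`-1`, and corresponds to the Sylow 2-subgroup `Q.map proj` of `PSL₂(F)`.
-/

open Matrix Cfsg.Agent.Lib.Helper42_SL2Class Cfsg.Agent.Lib.Helper76_S5320Defs
  Cfsg.Agent.Lib.Helper76_S5320Bas Cfsg.Agent.Lib.Helper42_PSL2Klein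

namespace Cfsg.Agent.Lib.Helper42_S5320_SLProj

variable {F : Type*} [Field F] [Fintype F]

omit [Fintype F] in
theorem negS_one_mem (Q : Sylow 2 (SL2 F)) : negS 1 ∈ Q := by
  have hcomm : ∀ g : SL2 F, g * negS 1 = negS 1 * g := fun g => (negS_one_comm g).symm
  have hN : (Subgroup.zpowers (negS (1 : SL2 F))).Normal := by
    constructor
    intro x hx g
    obtain ⟨k, rfl⟩ := Subgroup.mem_zpowers_iff.mp hx
    have : g * negS 1 ^ k * g⁻¹ = negS 1 ^ k := by
      have hc : Commute g (negS 1 ^ k) := (Commute.zpow_right (hcomm g) k)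
      rw [hc.eq, mul_assoc, mul_inv_cancel, mul_one]
    rw [this]
    exact Subgroup.zpow_mem_zpowers _ k
  have hp : IsPGroup 2 (Subgroup.zpowers (negS (1 : SL2 F))) := by
    rintro ⟨x, hx⟩
    obtain ⟨k, rfl⟩ := Subgroup.mem_zpowers_iff.mp hx
    refine ⟨1, ?_⟩
    apply Subtype.ext
    show (negS (1 : SL2 F) ^ k) ^ 2 ^ 1 = 1
    rw [pow_one, ← zpow_natCast, ← _root_.zpow_mul, mul_comm, _root_.zpow_mul, zpow_natCast, pow_two,
      negS_mul_negS, _root_.one_zpow]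
  exact (hp.le_sylow_of_normal Q) (Subgroup.mem_zpowers _)

/-- the Sylow 2-subgroup of `PSL₂` below `Q` -/
noncomputable def Sbar (Q : Sylow 2 (SL2 F)) : Sylow 2 (ProjectiveSpecialLinearGroup (Fin 2) F) :=
  Q.mapSurjective proj_surjective

theorem proj_mem_iff (Q : Sylow 2 (SL2 F)) (c : SL2 F) : proj c ∈ Sbar Q ↔ c ∈ Q := by
  constructor
  · rintro ⟨c', hc', h⟩
    rcases (proj_eq_iff c' c).mp h with h1 | h1
    · rw [h1]; exact hc'
    · rw [h1, negS_eq_mul]
      exact (Q : Subgroup (SL2 F)).mul_mem (negS_one_mem Q) hc'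
  · intro hc
    exact ⟨c, hc, rfl⟩

end Cfsg.Agent.Lib.Helper42_S5320_SLProj
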