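import Mathlib
import Cfsg.Agent.Lib.Helper76_S5320Defs
import Cfsg.Agent.Lib.Helper76_S5320Bas
import Cfsg.Agent.Lib.Helper42_PSL2Syl2

set_option autoImplicit false

/-!
S5320-SLTR (helper76's market): elements of `SL₂(F)` (`|F|` odd) with square `-1` have trace zero and are
all conjugate.
-/

open Matrix Cfsg.Agent.Lib.Helper42_SL2Class Cfsg.Agent.Lib.Helper76_S5320Defs
  Cfsg.Agent.Lib.Helper76_S5320Bas

namespace Cfsg.Agent.Lib.Helper42_S5320_SLTR

/-- `c² = -1` forces trace zero (any field) -/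
theorem trace_zero_of_sq {F : Type*} [Field F] (c : SL2 F) (hc : c * c = negS 1) :
    Matrix.trace c.1 = 0 := by
  have h1 : c.1 * c.1 = -(1 : Matrix (Fin 2) (Fin 2) F) := congrArg Subtype.val hc
  have hdet := c.2
  rw [Matrix.det_fin_two] at hdet
  have h00 := congrFun (congrFun h1 0) 0
  have h01 := congrFun (congrFun h1 0) 1
  simp only [Matrix.mul_apply, Fin.sum_univ_two, Matrix.neg_apply, Matrix.one_apply_eq,
    Matrix.one_apply_ne, ne_eq, zero_ne_one, not_false_eq_true, neg_zero] at h00 h01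
  rw [Matrix.trace_fin_two]
  linear_combination (c.1 1 1) * h00 + (c.1 1 1) * hdet - (c.1 1 0) * h01 -
    (c.1 0 0 + c.1 1 1) * hdet

/-- trace zero forces `c² = -1` -/
theorem sq_of_trace_zero {F : Type*} [Field F] (c : SL2 F) (hc : Matrix.trace c.1 = 0) :
    c * c = negS 1 := by
  apply Subtype.ext
  show c.1 * c.1 = -(1 : Matrix (Fin 2) (Fin 2) F)
  have hdet := c.2
  rw [Matrix.det_fin_two] at hdet
  rw [Matrix.trace_fin_two] at hc
  have hs : c.1 1 1 = -c.1 0 0 := by linear_combination hc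
  ext i j
  fin_cases i <;> fin_cases j <;>
    simp only [Fin.zero_eta, Fin.mk_one, Fin.isValue, Matrix.mul_apply, Fin.sum_univ_two,
      Matrix.neg_apply, Matrix.one_apply_eq, Matrix.one_apply_ne, ne_eq, zero_ne_one,
      one_ne_zero, not_false_eq_true, neg_zero]
  · rw [hs] at hdet; linear_combination -hdet
  · rw [hs]; ring
  · rw [hs]; ring
  · rw [hs] at hdet ⊢; linear_combination -hdet

variable {F : Type*} [Field F] [Fintype F]

theorem conj_of_sq (hodd : Fintype.card F % 2 = 1) (c d : SL2 F) (hc : c * c = negS 1)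
    (hd : d * d = negS 1) : ∃ u : SL2 F, u * c * u⁻¹ = d := by
  classical
  have h2 := Cfsg.Agent.Lib.Helper42_PSL2Syl2.two_ne_zero_of_odd hodd
  have htc := trace_zero_of_sq c hc
  have htd := trace_zero_of_sq d hd
  have hconj : IsConj c d := by
    rw [isConj_iff_trace _ _ (by rw [htc]; exact Cfsg.Agent.Lib.Helper42_PSL2Klein.zero_sq_ne_four h2),
      htc, htd]
  exact isConj_iff.mp hconj

end Cfsg.Agent.Lib.Helper42_S5320_SLTR
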