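import Mathlib
import Cfsg.Agent.Lib.Helper76_S5320Defs
import Cfsg.Agent.Lib.Helper76_S5320Bas
import Cfsg.Agent.Lib.Helper42_S5320_SLProj
import Cfsg.Agent.Lib.Helper42_S5320_SLTR

set_option autoImplicit false

/-!
S5320-SLGEN (helper76's market): a Sylow 2-subgroup of `SL₂(q)`, `q` odd, is generated by its elements of
square `-1` (lift of the fact that a Sylow 2-subgroup of `PSL₂(q)` is generated by involutions).
-/

open Matrix Cfsg.Agent.Lib.Helper42_SL2Class Cfsg.Agent.Lib.Helper76_S5320Defs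
  Cfsg.Agent.Lib.Helper76_S5320Bas Cfsg.Agent.Lib.Helper42_S5320_SLProj
  Cfsg.Agent.Lib.Helper42_PSL2Klein Cfsg.Agent.Lib.Helper42_PSL2Syl2 Cfsg.Agent.Lib.Helper42_DihSyl

namespace Cfsg.Agent.Lib.Helper42_S5320_SLGEN

variable {F : Type*} [Field F] [Fintype F]

omit [Fintype F] in
/-- `PSL₂(F)` has even order (odd characteristic) -/
theorem two_dvd_card (h2 : (2 : F) ≠ 0) :
    2 ∣ Nat.card (ProjectiveSpecialLinearGroup (Fin 2) F) := by
  have ht : Matrix.trace ((Y : SL2 F) : Matrix (Fin 2) (Fin 2) F) = 0 := by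
    simp [Y, Matrix.trace_fin_two]
  obtain ⟨h1, hsq⟩ := (involution_iff h2 (Y : SL2 F)).mpr ht
  have ho : orderOf (proj (Y : SL2 F)) = 2 :=
    orderOf_eq_prime (by rw [pow_two]; exact hsq) h1
  have := orderOf_dvd_natCard (proj (Y : SL2 F))
  rwa [ho] at this

/-- a central involution of a Sylow 2-subgroup of `PSL₂(F)` -/
theorem exists_central_invol' (h2 : (2 : F) ≠ 0)
    (S : Sylow 2 (ProjectiveSpecialLinearGroup (Fin 2) F)) :
    ∃ z : ProjectiveSpecialLinearGroup (Fin 2) F, z ∈ S ∧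
      (∀ s ∈ S, s * z = z * s) ∧ z ≠ 1 ∧ z * z = 1 := by
  have hne : (S : Subgroup (ProjectiveSpecialLinearGroup (Fin 2) F)) ≠ ⊥ :=
    S.ne_bot_of_dvd_card (two_dvd_card h2)
  have hnt : Nontrivial S := (Subgroup.nontrivial_iff_ne_bot _).mpr hne
  have hp : IsPGroup 2 S := S.2
  have hcnt : Nontrivial (Subgroup.center S) := hp.center_nontrivial
  have hpc : IsPGroup 2 (Subgroup.center S) := hp.to_subgroup _
  obtain ⟨n, hn0, hn⟩ := hpc.nontrivial_iff_card.mp hcnt
  have hdvd : 2 ∣ Nat.card (Subgroup.center S) := by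
    rw [hn]; exact dvd_pow_self 2 (by omega)
  obtain ⟨c, hc⟩ := exists_prime_orderOf_dvd_card' 2 hdvd
  refine ⟨((c : S) : ProjectiveSpecialLinearGroup (Fin 2) F), (c : S).2, ?_, ?_, ?_⟩
  · intro s hs
    have := Subgroup.mem_center_iff.mp c.2 ⟨s, hs⟩
    exact congrArg Subtype.val this
  · intro h1
    have : c = 1 := by
      apply Subtype.ext; apply Subtype.ext; exact h1
    rw [this, orderOf_one] at hc
    omega
  · have : c ^ 2 = 1 := by
      have := pow_orderOf_eq_one c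
      rwa [hc] at this
    have h3 := congrArg (fun w : Subgroup.center S => ((w : S) : ProjectiveSpecialLinearGroup (Fin 2) F)) this
    simpa [pow_two] using h3

theorem gen (hodd : Fintype.card F % 2 = 1) (Q : Sylow 2 (SL2 F)) :
    (Q : Subgroup (SL2 F)) ≤ Subgroup.closure {c | c ∈ Q ∧ c * c = negS 1} := by
  classical
  have h2 := two_ne_zero_of_odd hodd
  obtain ⟨z, hzS, hzc, hz1, hz2⟩ := exists_central_invol' h2 (Sbar Q)
  obtain ⟨a, rfl⟩ := proj_surjective z
  have ha := (involution_iff h2 a).mp ⟨hz1, hz2⟩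
  have hcl := (dihCent h2 a ha).le_closure (Sbar Q) hzc
  -- `-1` lies in the closure
  have haQ : a ∈ Q := (proj_mem_iff Q a).mp hzS
  have haa : a * a = negS 1 := Cfsg.Agent.Lib.Helper42_S5320_SLTR.sq_of_trace_zero a ha
  have hneg : negS 1 ∈ Subgroup.closure {c : SL2 F | c ∈ Q ∧ c * c = negS 1} := by
    have : a ∈ Subgroup.closure {c : SL2 F | c ∈ Q ∧ c * c = negS 1} :=
      Subgroup.subset_closure ⟨haQ, haa⟩
    have h3 := Subgroup.mul_mem _ this this
    rwa [haa] at h3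
  -- the image of the closure contains `Sbar Q`
  have himg : ((Sbar Q : Sylow 2 (ProjectiveSpecialLinearGroup (Fin 2) F)) :
      Subgroup (ProjectiveSpecialLinearGroup (Fin 2) F)) ≤
      (Subgroup.closure {c : SL2 F | c ∈ Q ∧ c * c = negS 1}).map proj := by
    refine le_trans hcl ?_
    rw [Subgroup.closure_le]
    rintro s ⟨hsS, hs1, hs2⟩
    obtain ⟨c, rfl⟩ := proj_surjective s
    have hc := (involution_iff h2 c).mp ⟨hs1, hs2⟩
    have hcQ : c ∈ Q := (proj_mem_iff Q c).mp hsS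
    exact ⟨c, Subgroup.subset_closure
      ⟨hcQ, Cfsg.Agent.Lib.Helper42_S5320_SLTR.sq_of_trace_zero c hc⟩, rfl⟩
  intro x hx
  have hx' : proj x ∈ Sbar Q := (proj_mem_iff Q x).mpr hx
  obtain ⟨y, hy, hyx⟩ := himg hx'
  rcases (proj_eq_iff y x).mp hyx with h1 | h1
  · rw [h1]; exact hy
  · have h3 := Subgroup.mul_mem _ hneg hy
    rwa [← negS_eq_mul, ← h1] at h3

end Cfsg.Agent.Lib.Helper42_S5320_SLGEN
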