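import Mathlib
import Cfsg.Agent.Lib.Helper76_S5320Defs
import Cfsg.Agent.Lib.Helper76_S5320Bas
import Cfsg.Agent.Lib.Helper42_S5320_SLProj

set_option autoImplicit false

/-!
S5320-SLN1 (helper76's market): for `16 ∣ q² - 1` a Sylow 2-subgroup of `SL₂(q)` is self-normalizing
(lift of `Helper42_PSL2Syl2.normalizer_le`).
-/

open Matrix Cfsg.Agent.Lib.Helper42_SL2Class Cfsg.Agent.Lib.Helper76_S5320Defs
  Cfsg.Agent.Lib.Helper76_S5320Bas Cfsg.Agent.Lib.Helper42_S5320_SLProj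

namespace Cfsg.Agent.Lib.Helper42_S5320_SLN1

variable {F : Type*} [Field F] [Fintype F]

theorem norm1 (hodd : Fintype.card F % 2 = 1) (h16 : 16 ∣ Fintype.card F ^ 2 - 1)
    (Q : Sylow 2 (SL2 F)) (n : SL2 F) (hn : ∀ c ∈ Q, n * c * n⁻¹ ∈ Q) : n ∈ Q := by
  classical
  have hnorm : proj n ∈ Subgroup.normalizer
      (((Sbar Q : Sylow 2 (ProjectiveSpecialLinearGroup (Fin 2) F)) :
        Subgroup (ProjectiveSpecialLinearGroup (Fin 2) F)) :
        Set (ProjectiveSpecialLinearGroup (Fin 2) F)) := by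
    apply Subgroup.mem_normalizer_fintype
    intro s hs
    obtain ⟨c, rfl⟩ := proj_surjective s
    have hc : c ∈ Q := (proj_mem_iff Q c).mp hs
    have := hn c hc
    rw [← map_inv, ← map_mul, ← map_mul]
    exact (proj_mem_iff Q _).mpr this
  exact (proj_mem_iff Q n).mp
    (Cfsg.Agent.Lib.Helper42_PSL2Syl2.normalizer_le hodd h16 (Sbar Q) hnorm)

end Cfsg.Agent.Lib.Helper42_S5320_SLN1
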