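import Mathlib
import Cfsg.Agent.Lib.Helper42_ES64Mat

/-!
# S6000, the master lemma on normalizing elements of odd prime order (helper42)

`R = ψ(E64) ≤ GL_4(F)`; an element `n` of the normalizer with `n ^ r` scalar, `r` an odd prime,
`n` not scalar: the number `cC` of fixed points of the induced automorphism of `E64`.
-/

set_option autoImplicit false
set_option linter.unusedSimpArgs false
set_option linter.unusedSectionVars false
open scoped MatrixGroups
open Matrix

namespace Cfsg.Agent.Lib.Helper42_S6000Fwd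

open Cfsg.Agent.Lib.Helper42_E64 Cfsg.Agent.Lib.Helper42_E64.E64 Cfsg.Agent.Lib.Helper42_ES64Mat

variable {F : Type*} [Field F]

theorem hn_of_mem_normalizer {R : Subgroup (GL J4 F)} {ψ : E64 →* GL J4 F} (hR : ψ.range = R)
    {n : GL J4 F} (hn : n ∈ Cfsg.Geo.subgroupNormalizer R) :
    ∀ x : E64, ∃ y : E64, n * ψ x * n⁻¹ = ψ y := by
  intro x
  have h1 : ψ x ∈ (R : Set (GL J4 F)) := by
    rw [SetLike.mem_coe, ← hR]; exact ⟨x, rfl⟩
  have h2 := (Subgroup.mem_set_normalizer_iff.mp hn (ψ x)).mp h1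
  rw [SetLike.mem_coe, ← hR] at h2
  obtain ⟨y, hy⟩ := h2
  exact ⟨y, hy.symm⟩

/-! ### elements fixing a hyperplane pointwise -/

/-- `n` fixes the kernel of a linear functional pointwise -/
def FixesHyp (n : GL J4 F) : Prop :=
  ∃ f : (J4 → F) →ₗ[F] F, ∀ v, f v = 0 → (n : Matrix J4 J4 F) *ᵥ v = v

theorem conj_fixesHyp {n : GL J4 F} (g : GL J4 F) (h : FixesHyp n) : FixesHyp (g⁻¹ * n * g) := by
  obtain ⟨f, hf⟩ := h
  refine ⟨f.comp (Matrix.toLin' (g : Matrix J4 J4 F)), ?_⟩
  intro v hv
  rw [LinearMap.comp_apply, Matrix.toLin'_apply] at hv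
  have := hf _ hv
  rw [Units.val_mul, Units.val_mul, ← Matrix.mulVec_mulVec, ← Matrix.mulVec_mulVec, this,
    Matrix.mulVec_mulVec, ← Units.val_mul, inv_mul_cancel, Units.val_one, Matrix.one_mulVec]

theorem inv_fixesHyp {n : GL J4 F} (h : FixesHyp n) : FixesHyp n⁻¹ := by
  obtain ⟨f, hf⟩ := h
  refine ⟨f, ?_⟩
  intro v hv
  have := hf v hv
  nth_rewrite 1 [← this]
  rw [Matrix.mulVec_mulVec, ← Units.val_mul, inv_mul_cancel, Units.val_one, Matrix.one_mulVec]

/-- the product of two elements fixing hyperplanes has a nonzero fixed vector -/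
theorem exists_fixed_of_fixesHyp {a b : GL J4 F} (ha : FixesHyp a) (hb : FixesHyp b) :
    ∃ v : J4 → F, v ≠ 0 ∧ ((a * b : GL J4 F) : Matrix J4 J4 F) *ᵥ v = v := by
  obtain ⟨f, hf⟩ := ha
  obtain ⟨k, hk⟩ := hb
  have hker : LinearMap.ker (f.prod k) ≠ ⊥ := by
    apply LinearMap.ker_ne_bot_of_finrank_lt
    rw [Module.finrank_prod, Module.finrank_self, Module.finrank_pi,
      Fintype.card_fin]
    norm_num
  obtain ⟨v, hv, hv0⟩ := (Submodule.ne_bot_iff _).mp hker
  refine ⟨v, hv0, ?_⟩
  rw [LinearMap.mem_ker, LinearMap.prod_apply] at hv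
  have hv := Prod.mk_eq_zero.mp hv
  rw [Units.val_mul, ← Matrix.mulVec_mulVec, hk v hv.2, hf v hv.1]

/-- an element of `ψ(E64)` with a nonzero fixed vector is singular -/
theorem sing_of_fixed {ψ : E64 →* GL J4 F} (hz : ψ fZ = -1) (h2 : (2 : F) ≠ 0) {w : E64}
    {v : J4 → F} (hv : v ≠ 0) (hfix : ((ψ w : GL J4 F) : Matrix J4 J4 F) *ᵥ v = v) : Sing w := by
  have hneg : ∀ u : J4 → F, u = -u → u = 0 := by
    intro u hu
    have h3 : (2 : F) • u = 0 := by
      rw [two_smul]
      nth_rewrite 2 [hu]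
      exact add_neg_cancel u
    rcases smul_eq_zero.mp h3 with h | h
    · exact absurd h h2
    · exact h
  have hZv : ((ψ fZ : GL J4 F) : Matrix J4 J4 F) *ᵥ v = -v := by
    rw [hz, Units.val_neg, Units.val_one, Matrix.neg_mulVec, Matrix.one_mulVec]
  constructor
  · rcases sq_cases w with h | h
    · exact h
    · exfalso
      have h3 : ((ψ (w * w) : GL J4 F) : Matrix J4 J4 F) *ᵥ v = v := by
        rw [map_mul, Units.val_mul, ← Matrix.mulVec_mulVec, hfix, hfix]
      rw [h, hZv] at h3
      exact hv (hneg v h3.symm)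
  · intro h
    rw [h, hZv] at hfix
    exact hv (hneg v hfix.symm)

/-! ### the counting lemma in `E64` -/

theorem card_isCen : Fintype.card {x : E64 // IsCen x} = 4 := by decide +kernel

theorem conj_cases : ∀ w e : E64, e⁻¹ * w * e = w ∨ e⁻¹ * w * e = fZ * w := by decide +kernel

theorem fZ_mul_fZ_mul : ∀ x : E64, fZ * (fZ * x) = x := by decide +kernel

open Classical in
/-- an endomorphism of `E64` all of whose commutators `θ(e)⁻¹ e` are singular, not the identity,
has at least `64 / 15` fixed points -/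
theorem card_fix_of_sing (θ : E64 → E64) (hmul : ∀ x y, θ (x * y) = θ x * θ y)
    (hsing : ∀ e : E64, Sing ((θ e)⁻¹ * e)) (hne : ∃ e, θ e ≠ e) :
    64 ≤ 15 * Fintype.card {x : E64 // θ x = x} := by
  obtain ⟨w, hw⟩ : ∃ w : E64 → E64, ∀ e, w e = (θ e)⁻¹ * e := ⟨_, fun _ => rfl⟩
  have hθ1 : θ 1 = 1 := by
    have := hmul 1 1
    rw [mul_one] at this
    exact (mul_eq_left.mp this.symm)
  have hθinv : ∀ x, θ x⁻¹ = (θ x)⁻¹ := by
    intro x
    have := hmul x x⁻¹
    rw [mul_inv_cancel, hθ1] at this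
    exact (eq_inv_of_mul_eq_one_right this.symm)
  have hsw : ∀ e, Sing (w e) := fun e => by rw [hw]; exact hsing e
  -- the cocycle identity
  have hcoc : ∀ e e' : E64, w (e * e') = w e' * (e'⁻¹ * w e * e') := by
    intro e e'
    simp only [hw, hmul]
    group
  have hcomm : ∀ e e' : E64, w e' * w e = w e * w e' := by
    intro e e'
    apply sing_comm _ _ (hsw e') (hsw e)
    have h1 := hsw (e * e')
    rw [hcoc] at h1
    rcases conj_cases (w e) e' with h | h
    · rw [h] at h1
      exact Or.inl h1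
    · rw [h] at h1
      right
      have : w e' * (fZ * w e) = fZ * (w e' * w e) := by
        rw [← mul_assoc, fZ_central, mul_assoc]
      rw [this] at h1
      exact h1
  obtain ⟨e0, he0⟩ := hne
  have ha1 : w e0 ≠ 1 := by
    intro h
    rw [hw] at h
    apply he0
    have := inv_mul_eq_one.mp h
    exact this
  -- the image is small
  have himg : (Finset.univ.image w).card ≤ 15 := by
    have hsub : Finset.univ.image w ⊆ Finset.univ.filter (fun b : E64 => Sing b ∧ w e0 * b = b * w e0) := by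
      intro b hb
      rw [Finset.mem_image] at hb
      obtain ⟨e, -, rfl⟩ := hb
      rw [Finset.mem_filter]
      exact ⟨Finset.mem_univ _, hsw e, (hcomm e0 e).symm⟩
    have h15 := card_sing_comm (w e0) (hsw e0) ha1
    rw [Fintype.card_subtype] at h15
    calc (Finset.univ.image w).card ≤ _ := Finset.card_le_card hsub
      _ = 15 := h15
  -- the fibres are small
  have hfib : ∀ b ∈ Finset.univ.image w, (Finset.univ.filter (fun x => w x = b)).card ≤
      Fintype.card {x : E64 // θ x = x} := by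
    intro b hb
    rw [Finset.mem_image] at hb
    obtain ⟨e, -, rfl⟩ := hb
    rw [Fintype.card_subtype]
    apply Finset.card_le_card_of_injOn (fun x => x * e⁻¹)
    · intro x hx
      rw [Finset.mem_coe, Finset.mem_filter] at hx
      rw [Finset.mem_coe, Finset.mem_filter]
      refine ⟨Finset.mem_univ _, ?_⟩
      have h1 := hx.2
      rw [hw, hw] at h1
      rw [hmul, hθinv]
      have : θ x = x * e⁻¹ * θ e := by
        have h2 : x = θ x * ((θ e)⁻¹ * e) := by rw [← h1]; group
        calc θ x = θ x * ((θ e)⁻¹ * e) * e⁻¹ * θ e := by group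
          _ = x * e⁻¹ * θ e := by rw [← h2]
      rw [this]; group
    · intro x _ y _ hxy
      exact mul_right_cancel hxy
  have := Finset.card_le_mul_card_image (f := w) Finset.univ _ hfib
  rw [Finset.card_univ, E64.card_eq] at this
  calc 64 ≤ Fintype.card {x : E64 // θ x = x} * (Finset.univ.image w).card := this
    _ ≤ Fintype.card {x : E64 // θ x = x} * 15 := Nat.mul_le_mul_left _ himg
    _ = 15 * Fintype.card {x : E64 // θ x = x} := Nat.mul_comm _ _

section master

variable (R : Subgroup (GL J4 F))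
  (hRi : Cfsg.Geo.ActsAbsolutelyIrreducibly (Cfsg.Geo.matrixSet R))
  {ψ : E64 →* GL J4 F} (hψ : Function.Injective ψ) (hR : ψ.range = R) {ι : F} (hι : ι * ι = -1)
  (hT : ((ψ fT : GL J4 F) : Matrix J4 J4 F) = ι • (1 : Matrix J4 J4 F))
  (h2 : (2 : F) ≠ 0)

include hRi hψ hR hι hT h2 in
/-- the master lemma -/
theorem master {n : GL J4 F} (hnN : n ∈ Cfsg.Geo.subgroupNormalizer R)
    {r : ℕ} (hr : r.Prime) (hodd : Odd r) {c : F}
    (hc : ((n ^ r : GL J4 F) : Matrix J4 J4 F) = c • (1 : Matrix J4 J4 F))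
    (hns : ∀ z : F, (n : Matrix J4 J4 F) ≠ z • (1 : Matrix J4 J4 F)) :
    ∃ cC : ℕ, cC ∣ 64 ∧ 4 ∣ cC ∧ cC ≠ 64 ∧ 64 ≡ cC [MOD r] ∧
      (4 < cC → ∃ k, 32 ≡ k [MOD r] ∧ 8 ≤ k ∧ k ≤ cC) ∧
      4 * Matrix.trace (n : Matrix J4 J4 F) * Matrix.trace ((n⁻¹ : GL J4 F) : Matrix J4 J4 F) =
        (cC : F) ∧ (FixesHyp n → 64 ≤ 15 * cC) := by
  classical
  have hn := hn_of_mem_normalizer hR hnN
  have hz : ψ fZ = -1 := psi_fZ hι hT
  have hne64 : Fintype.card {x : E64 // Helper42_ES64Mat.sigma hψ n hn x = x} ≠ 64 := by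
    intro h64
    obtain ⟨c', hc'⟩ := scalar_of_card_fix hψ n hn R hRi hR h64
    exact hns c' hc'
  have hcen : ∀ x, IsCen (x * (theta n hn x)⁻¹) → theta n hn x = x :=
    fun x h => theta_eq_of_cen hψ hι hT n hn hodd hc x h
  refine ⟨Fintype.card {x : E64 // Helper42_ES64Mat.sigma hψ n hn x = x}, card_fix_dvd hψ n hn,
    four_dvd_card_fix hψ hι hT n hn, hne64, card_fix_modEq hψ n hn hr hc, ?_,
    trace_formula hψ hι hT n hn R hRi hR h2 hcen, ?_⟩
  · intro h4
    -- a fixed non-central element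
    have hex : ∃ v : E64, ¬ IsCen v ∧ theta n hn v = v := by
      by_contra hcon
      push Not at hcon
      have hle : Fintype.card {x : E64 // Helper42_ES64Mat.sigma hψ n hn x = x} ≤
          Fintype.card {x : E64 // IsCen x} := by
        apply Fintype.card_subtype_mono
        intro x hx
        by_contra hxc
        exact hcon x hxc hx
      rw [card_isCen] at hle
      omega
    obtain ⟨v, hv, hfix⟩ := hex
    exact card_fix_centralizer hψ hι hT n hn hr hc hv hfix
  · intro hfh
    have hsing : ∀ e : E64, Sing ((theta n hn e)⁻¹ * e) := by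
      intro e
      have hb : FixesHyp ((ψ e)⁻¹ * n⁻¹ * ψ e) := conj_fixesHyp (ψ e) (inv_fixesHyp hfh)
      obtain ⟨v, hv, hfix⟩ := exists_fixed_of_fixesHyp hfh hb
      have heq : ψ ((theta n hn e)⁻¹ * e) = n * ((ψ e)⁻¹ * n⁻¹ * ψ e) := by
        rw [map_mul, map_inv, psi_theta]
        group
      rw [← heq] at hfix
      exact sing_of_fixed hz h2 hv hfix
    have hne : ∃ e, theta n hn e ≠ e := by
      by_contra hcon
      push Not at hcon
      apply hne64
      rw [← E64.card_eq]
      exact Fintype.card_of_subtype Finset.univ (fun x => by simp [sigma_apply, hcon x])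
    have := card_fix_of_sing (theta n hn) (theta_mul hψ n hn) hsing hne
    have hcard : Fintype.card {x : E64 // Helper42_ES64Mat.sigma hψ n hn x = x} =
        Fintype.card {x : E64 // theta n hn x = x} :=
      Fintype.card_congr (Equiv.subtypeEquivRight (fun x => by rw [sigma_apply]))
    rw [hcard]
    exact this

end master

end Cfsg.Agent.Lib.Helper42_S6000Fwd
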