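import Mathlib
import Cfsg.Agent.Lib.Helper42_S6000Fwd
import Cfsg.Agent.Lib.Helper27_S6000_ELTS
import Cfsg.Agent.Lib.Helper42_S6002Fwd

/-!
# S6000, the negative cases (helper42)

Elements of prime order `r` of `SL_4(p)` with no conjugate in `N(R)`: `r ≥ 7`, `r = 3` with
`p ≡ 1 (mod 3)`, `r = 5` with `p` not of order 4 modulo 5.
-/

set_option autoImplicit false
set_option linter.unusedSimpArgs false
set_option linter.unusedSectionVars false
open scoped MatrixGroups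
open Matrix

namespace Cfsg.Agent.Lib.Helper42_S6000Neg

open Cfsg.Agent.Lib.Helper42_E64 Cfsg.Agent.Lib.Helper42_E64.E64 Cfsg.Agent.Lib.Helper42_ES64Mat
  Cfsg.Agent.Lib.Helper42_S6000Fwd Cfsg.Agent.Lib.Helper27_S6000_ELTS

variable {F : Type*} [Field F]

section conj

theorem conj_pow_scalar {x g : GL J4 F} {r : ℕ} {c : F}
    (hc : ((x ^ r : GL J4 F) : Matrix J4 J4 F) = c • (1 : Matrix J4 J4 F)) :
    (((g⁻¹ * x * g) ^ r : GL J4 F) : Matrix J4 J4 F) = c • (1 : Matrix J4 J4 F) := by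
  have h1 : (g⁻¹ * x * g) ^ r = g⁻¹ * x ^ r * g := by
    have := conj_pow (a := g⁻¹) (b := x) (i := r)
    rw [inv_inv] at this
    exact this
  rw [h1, Units.val_mul, Units.val_mul, hc, Matrix.mul_smul, Matrix.mul_one, Matrix.smul_mul,
    ← Units.val_mul, inv_mul_cancel, Units.val_one]

theorem conj_not_scalar {x g : GL J4 F}
    (hns : ∀ z : F, (x : Matrix J4 J4 F) ≠ z • (1 : Matrix J4 J4 F)) :
    ∀ z : F, ((g⁻¹ * x * g : GL J4 F) : Matrix J4 J4 F) ≠ z • (1 : Matrix J4 J4 F) := by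
  intro z hz
  apply hns z
  have h1 : x = g * (g⁻¹ * x * g) * g⁻¹ := by group
  rw [h1, Units.val_mul, Units.val_mul, hz, Matrix.mul_smul, Matrix.mul_one, Matrix.smul_mul,
    ← Units.val_mul, mul_inv_cancel, Units.val_one]

theorem trace_conj (x g : GL J4 F) :
    Matrix.trace ((g⁻¹ * x * g : GL J4 F) : Matrix J4 J4 F) = Matrix.trace (x : Matrix J4 J4 F) := by
  rw [Units.val_mul, Units.val_mul]
  exact Matrix.trace_units_conj' g _

theorem trace_conj_inv (x g : GL J4 F) :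
    Matrix.trace (((g⁻¹ * x * g)⁻¹ : GL J4 F) : Matrix J4 J4 F) =
      Matrix.trace ((x⁻¹ : GL J4 F) : Matrix J4 J4 F) := by
  have : (g⁻¹ * x * g)⁻¹ = g⁻¹ * x⁻¹ * g := by group
  rw [this]
  exact trace_conj _ _

end conj

section arith

theorem arith_ge7 (r cC : ℕ) (hr : r.Prime) (h7 : 7 ≤ r) (hd : cC ∣ 64) (h4 : 4 ∣ cC)
    (hne : cC ≠ 64) (h1 : 64 ≡ cC [MOD r])
    (hk : 4 < cC → ∃ k, 32 ≡ k [MOD r] ∧ 8 ≤ k ∧ k ≤ cC) : False := by
  have hc64 : cC ≤ 64 := Nat.le_of_dvd (by norm_num) hd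
  have h1' : r ∣ 64 - cC := (Nat.modEq_iff_dvd' hc64).mp h1.symm
  obtain ⟨m, rfl⟩ := h4
  have hm : m ≤ 16 := by omega
  interval_cases m <;> try omega
  · -- cC = 4
    have := Nat.le_of_dvd (by norm_num) h1'
    interval_cases r <;> first | omega | (exfalso; norm_num at hr)
  · -- cC = 8
    have := Nat.le_of_dvd (by norm_num) h1'
    have hr7 : r = 7 := by
      interval_cases r <;> first | omega | (exfalso; norm_num at hr)
    subst hr7
    obtain ⟨k, hk1, hk2, hk3⟩ := hk (by norm_num)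
    unfold Nat.ModEq at hk1
    omega
  · have := Nat.le_of_dvd (by norm_num) h1'
    interval_cases r <;> first | omega | (exfalso; norm_num at hr)
  · have := Nat.le_of_dvd (by norm_num) h1'
    interval_cases r <;> first | omega | (exfalso; norm_num at hr)

theorem arith_3 (cC : ℕ) (hd : cC ∣ 64) (h4 : 4 ∣ cC) (hne : cC ≠ 64)
    (h1 : 64 ≡ cC [MOD 3]) : cC = 4 ∨ cC = 16 := by
  have hc64 : cC ≤ 64 := Nat.le_of_dvd (by norm_num) hd
  unfold Nat.ModEq at h1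
  obtain ⟨m, rfl⟩ := h4
  have hm : m ≤ 16 := by omega
  interval_cases m <;> omega

theorem arith_5 (cC : ℕ) (hd : cC ∣ 64) (h4 : 4 ∣ cC) (hne : cC ≠ 64)
    (h1 : 64 ≡ cC [MOD 5]) : cC = 4 := by
  have hc64 : cC ≤ 64 := Nat.le_of_dvd (by norm_num) hd
  unfold Nat.ModEq at h1
  obtain ⟨m, rfl⟩ := h4
  have hm : m ≤ 16 := by omega
  interval_cases m <;> omega

end arith

section cases

variable [Fintype F] {p : ℕ} [Fact p.Prime] [CharP F p]
  (R : Subgroup (GL J4 F))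
  (hRi : Cfsg.Geo.ActsAbsolutelyIrreducibly (Cfsg.Geo.matrixSet R))
  {ψ : E64 →* GL J4 F} (hψ : Function.Injective ψ) (hR : ψ.range = R) {ι : F} (hι : ι * ι = -1)
  (hT : ((ψ fT : GL J4 F) : Matrix J4 J4 F) = ι • (1 : Matrix J4 J4 F))

omit [Fintype F] in
theorem natCast_ne_zero {m : ℕ} (hm : 0 < m) (hlt : ∀ q : ℕ, q.Prime → q ∣ m → q ≠ p) :
    ((m : ℕ) : F) ≠ 0 := by
  intro h
  rw [CharP.cast_eq_zero_iff F p] at h
  exact hlt p Fact.out h rfl

include hRi hψ hR hι hT in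
/-- primes at least 7 -/
theorem ge7_case (h2 : (2 : F) ≠ 0) {r : ℕ} (hr : r.Prime) (h7 : 7 ≤ r)
    (hdvd : r ∣ Nat.card (Cfsg.Geo.specialLinear (Fin 4) F)) :
    ∃ x ∈ Cfsg.Geo.specialLinear (Fin 4) F,
      (∃ z : F, ((x ^ r : GL J4 F) : Matrix J4 J4 F) = z • (1 : Matrix J4 J4 F)) ∧
      (∀ z : F, (x : Matrix J4 J4 F) ≠ z • (1 : Matrix J4 J4 F)) ∧
      ∀ g : GL J4 F, g⁻¹ * x * g ∉ Cfsg.Geo.subgroupNormalizer R := by
  haveI : Fact r.Prime := ⟨hr⟩
  have hfin : Finite (GL J4 F) := inferInstance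
  obtain ⟨x, hx⟩ := exists_prime_orderOf_dvd_card' (G := ↥(Cfsg.Geo.specialLinear (Fin 4) F)) r hdvd
  have hxr : ((x : GL J4 F) ^ r : GL J4 F) = 1 := by
    have := pow_orderOf_eq_one x
    rw [hx] at this
    have h3 := congrArg (fun y : ↥(Cfsg.Geo.specialLinear (Fin 4) F) => (y : GL J4 F)) this
    simpa using h3
  have hc : (((x : GL J4 F) ^ r : GL J4 F) : Matrix J4 J4 F) = (1 : F) • (1 : Matrix J4 J4 F) := by
    rw [hxr, one_smul, Units.val_one]
  have hns : ∀ z : F, ((x : GL J4 F) : Matrix J4 J4 F) ≠ z • (1 : Matrix J4 J4 F) := by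
    intro z hzz
    have hdet := (mem_specialLinear_iff (x : GL J4 F)).mp x.2
    rw [hzz, Matrix.det_smul, Matrix.det_one, mul_one, Fintype.card_fin] at hdet
    have h4 : (x : GL J4 F) ^ 4 = 1 := by
      apply Units.ext
      rw [Units.val_pow_eq_pow_val, hzz, smul_pow, one_pow, hdet, one_smul, Units.val_one]
    have h4' : x ^ 4 = 1 := by
      apply Subtype.ext
      simpa using h4
    have := orderOf_dvd_of_pow_eq_one h4'
    rw [hx] at this
    have := Nat.le_of_dvd (by norm_num) this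
    omega
  refine ⟨x, x.2, ⟨1, hc⟩, hns, ?_⟩
  intro g hmem
  have hodd' : Odd r := hr.odd_of_ne_two (by omega)
  obtain ⟨cC, hd, h4, hne, h64, hk, -, -⟩ := master R hRi hψ hR hι hT h2 hmem
    hr hodd' (conj_pow_scalar (g := g) hc) (conj_not_scalar hns)
  exact arith_ge7 r cC hr h7 hd h4 hne h64 hk

include hRi hψ hR hι hT in
/-- a transvection has no conjugate in the normalizer, `p = 5` -/
theorem tv_case (h2 : (2 : F) ≠ 0) (hp5 : p = 5) :
    ∃ x ∈ Cfsg.Geo.specialLinear (Fin 4) F,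
      (∃ z : F, ((x ^ 5 : GL J4 F) : Matrix J4 J4 F) = z • (1 : Matrix J4 J4 F)) ∧
      (∀ z : F, (x : Matrix J4 J4 F) ≠ z • (1 : Matrix J4 J4 F)) ∧
      ∀ g : GL J4 F, g⁻¹ * x * g ∉ Cfsg.Geo.subgroupNormalizer R := by
  obtain ⟨t, htS, htp, htns, htf⟩ := exists_transvection (F := F) p
  rw [hp5] at htp
  have hc : ((t ^ 5 : GL J4 F) : Matrix J4 J4 F) = (1 : F) • (1 : Matrix J4 J4 F) := by
    rw [htp, one_smul, Units.val_one]
  refine ⟨t, htS, ⟨1, hc⟩, htns, ?_⟩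
  intro g hmem
  obtain ⟨cC, hd, h4, hne, h64, -, -, hfh⟩ := master R hRi hψ hR hι hT h2 hmem
    (by norm_num : Nat.Prime 5) (by decide) (conj_pow_scalar (g := g) hc) (conj_not_scalar htns)
  have hcC := arith_5 cC hd h4 hne h64
  have := hfh (conj_fixesHyp g htf)
  omega

include hRi hψ hR hι hT in
/-- the order 3 element `diag(ω, ω, ω, 1)` -/
theorem three_case (h2 : (2 : F) ≠ 0) (h3 : (3 : F) ≠ 0) {ω : F} (hω : ω ^ 2 + ω + 1 = 0) :
    ∃ x ∈ Cfsg.Geo.specialLinear (Fin 4) F,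
      (∃ z : F, ((x ^ 3 : GL J4 F) : Matrix J4 J4 F) = z • (1 : Matrix J4 J4 F)) ∧
      (∀ z : F, (x : Matrix J4 J4 F) ≠ z • (1 : Matrix J4 J4 F)) ∧
      ∀ g : GL J4 F, g⁻¹ * x * g ∉ Cfsg.Geo.subgroupNormalizer R := by
  obtain ⟨x, hxS, hx3, hxns, hxtr⟩ := exists_order3 h3 ω hω
  have hc : ((x ^ 3 : GL J4 F) : Matrix J4 J4 F) = (1 : F) • (1 : Matrix J4 J4 F) := by
    rw [hx3, one_smul, Units.val_one]
  refine ⟨x, hxS, ⟨1, hc⟩, hxns, ?_⟩
  intro g hmem
  obtain ⟨cC, hd, h4, hne, h64, -, htr, -⟩ := master R hRi hψ hR hι hT h2 hmem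
    Nat.prime_three (by decide) (conj_pow_scalar (g := g) hc) (conj_not_scalar hxns)
  rw [trace_conj, trace_conj_inv, mul_assoc, hxtr] at htr
  rcases arith_3 cC hd h4 hne h64 with h | h
  · rw [h] at htr
    have : (2 : F) * 2 * 2 * 3 = 0 := by
      push_cast at htr
      linear_combination htr
    simp [h2, h3] at this
  · rw [h] at htr
    have : (2 : F) * 2 * 3 = 0 := by
      push_cast at htr
      linear_combination htr
    simp [h2, h3] at this

include hRi hψ hR hι hT in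
/-- the order 5 element -/
theorem five_case (h2 : (2 : F) ≠ 0) (h5 : (5 : F) ≠ 0) {τ : F} (hτ : τ ^ 2 + τ - 1 = 0) :
    ∃ x ∈ Cfsg.Geo.specialLinear (Fin 4) F,
      (∃ z : F, ((x ^ 5 : GL J4 F) : Matrix J4 J4 F) = z • (1 : Matrix J4 J4 F)) ∧
      (∀ z : F, (x : Matrix J4 J4 F) ≠ z • (1 : Matrix J4 J4 F)) ∧
      ∀ g : GL J4 F, g⁻¹ * x * g ∉ Cfsg.Geo.subgroupNormalizer R := by
  obtain ⟨x, hxS, hx5, hxns, hxtr, hxtr'⟩ := exists_order5 τ hτ
  have hc : ((x ^ 5 : GL J4 F) : Matrix J4 J4 F) = (1 : F) • (1 : Matrix J4 J4 F) := by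
    rw [hx5, one_smul, Units.val_one]
  refine ⟨x, hxS, ⟨1, hc⟩, hxns, ?_⟩
  intro g hmem
  obtain ⟨cC, hd, h4, hne, h64, -, htr, -⟩ := master R hRi hψ hR hι hT h2 hmem
    (by norm_num : Nat.Prime 5) (by decide) (conj_pow_scalar (g := g) hc) (conj_not_scalar hxns)
  rw [trace_conj, trace_conj_inv, hxtr, hxtr'] at htr
  rw [arith_5 cC hd h4 hne h64] at htr
  have hA : (τ + 2) ^ 2 - 1 = 0 := by
    have : (2 : F) * 2 * ((τ + 2) ^ 2 - 1) = 0 := by
      push_cast at htr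
      linear_combination htr
    simpa [h2] using this
  apply h5
  linear_combination (3 * τ - 1) * (hA - hτ) - 9 * hτ

include hRi hψ hR hι hT in
/-- the negative cases of S6000 -/
theorem forward (hF : Fintype.card F = p) (hp4 : p % 4 = 1) {r : ℕ} (hr : r.Prime)
    (hdvd : r ∣ Nat.card (Cfsg.Geo.specialLinear (Fin 4) F)) (hr2 : r ≠ 2)
    (hr3 : ¬ (r = 3 ∧ p % 3 = 2))
    (hr5 : ¬ (r = 5 ∧ orderOf (p : ZMod 5) = 4)) :
    ∃ x ∈ Cfsg.Geo.specialLinear (Fin 4) F,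
      (∃ z : F, ((x ^ r : GL J4 F) : Matrix J4 J4 F) = z • (1 : Matrix J4 J4 F)) ∧
      (∀ z : F, (x : Matrix J4 J4 F) ≠ z • (1 : Matrix J4 J4 F)) ∧
      ∀ g : GL J4 F, g⁻¹ * x * g ∉ Cfsg.Geo.subgroupNormalizer R := by
  have hp : p.Prime := Fact.out
  have hr2' := hr.two_le
  have hodd : Odd p := by
    rw [Nat.odd_iff]; omega
  have h2 : (2 : F) ≠ 0 := Cfsg.Agent.Lib.Helper42_S6002Fwd.two_ne_zero_of_odd (F := F) hodd
  have hp3 : p ≠ 3 := by omega
  have h3 : (3 : F) ≠ 0 := by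
    intro h
    have h1 : ((3 : ℕ) : F) = 0 := by exact_mod_cast h
    rw [CharP.cast_eq_zero_iff F p] at h1
    exact hp3 ((Nat.prime_dvd_prime_iff_eq hp Nat.prime_three).mp h1)
  by_cases h3r : r = 3
  · subst h3r
    have hp31 : p % 3 = 1 := by
      have h0 : p % 3 ≠ 0 := by
        intro h0
        have : 3 ∣ p := Nat.dvd_of_mod_eq_zero h0
        exact hp3 ((Nat.prime_dvd_prime_iff_eq Nat.prime_three hp).mp this).symm
      have h2' : p % 3 ≠ 2 := fun h => hr3 ⟨rfl, h⟩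
      omega
    obtain ⟨ω, hω⟩ := exists_omega (F := F) hF hp31
    exact three_case R hRi hψ hR hι hT h2 h3 hω
  by_cases h5r : r = 5
  · subst h5r
    by_cases hp5 : p = 5
    · exact tv_case R hRi hψ hR hι hT h2 hp5
    · have hord : orderOf (p : ZMod 5) ≠ 4 := fun h => hr5 ⟨rfl, h⟩
      obtain ⟨τ, hτ⟩ := Cfsg.Agent.Lib.Helper42_S6002Fwd.exists_tau (F := F) hodd hp5 hord
      have h5 : (5 : F) ≠ 0 := by
        intro h
        have h1 : ((5 : ℕ) : F) = 0 := by exact_mod_cast h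
        rw [CharP.cast_eq_zero_iff F p] at h1
        exact hp5 ((Nat.prime_dvd_prime_iff_eq hp (by norm_num)).mp h1)
      exact five_case R hRi hψ hR hι hT h2 h5 hτ
  have h7 : 7 ≤ r := by
    by_contra hlt
    push Not at hlt
    interval_cases r <;> first | omega | (exfalso; norm_num at hr)
  exact ge7_case R hRi hψ hR hι hT h2 hr h7 hdvd

end cases

end Cfsg.Agent.Lib.Helper42_S6000Neg
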