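import Mathlib
import Cfsg.Agent.Lib.Helper42_ES64Mat

/-!
# Normalizing elements of `R = ψ(E64)` from automorphisms of `E64` (helper42)

For an automorphism `α` of `E64` of odd prime order `k` fixing the centre, the intertwiner
`y0 = ∑ ψ(α e) ψ(e)⁻¹` is invertible; a scalar multiple `y` has `y ^ k = 1`.
-/

set_option autoImplicit false
set_option linter.unusedSimpArgs false
set_option linter.unusedSectionVars false
open scoped MatrixGroups
open Matrix

namespace Cfsg.Agent.Lib.Helper42_S6000Target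

open Cfsg.Agent.Lib.Helper42_E64 Cfsg.Agent.Lib.Helper42_E64.E64 Cfsg.Agent.Lib.Helper42_ES64Mat

variable {F : Type*} [Field F]

/-- the intertwiner -/
noncomputable def y0 (ψ : E64 →* GL J4 F) (α : E64 →* E64) : Matrix J4 J4 F :=
  ∑ e : E64, ((ψ (α e) : GL J4 F) : Matrix J4 J4 F) * (((ψ e)⁻¹ : GL J4 F) : Matrix J4 J4 F)

/-- the adjoint intertwiner -/
noncomputable def y0' (ψ : E64 →* GL J4 F) (α : E64 →* E64) : Matrix J4 J4 F :=
  ∑ e : E64, ((ψ e : GL J4 F) : Matrix J4 J4 F) * (((ψ (α e))⁻¹ : GL J4 F) : Matrix J4 J4 F)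

variable {ψ : E64 →* GL J4 F} {α : E64 →* E64}

theorem y0_intertwine (h : E64) :
    ((ψ (α h) : GL J4 F) : Matrix J4 J4 F) * y0 ψ α = y0 ψ α * ((ψ h : GL J4 F) : Matrix J4 J4 F) := by
  unfold y0
  rw [Finset.mul_sum, Finset.sum_mul]
  apply Fintype.sum_equiv (Equiv.mulLeft h)
  intro e
  simp only [Equiv.coe_mulLeft, ← Units.val_mul]
  congr 1
  simp only [map_mul]
  group

theorem y0_intertwine_inv (h : E64) :
    (((ψ (α h))⁻¹ : GL J4 F) : Matrix J4 J4 F) * y0 ψ α =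
      y0 ψ α * (((ψ h)⁻¹ : GL J4 F) : Matrix J4 J4 F) := by
  have h1 := y0_intertwine (ψ := ψ) (α := α) h
  have h2 : (((ψ (α h))⁻¹ : GL J4 F) : Matrix J4 J4 F) *
      (((ψ (α h) : GL J4 F) : Matrix J4 J4 F) * y0 ψ α) * (((ψ h)⁻¹ : GL J4 F) : Matrix J4 J4 F) =
      (((ψ (α h))⁻¹ : GL J4 F) : Matrix J4 J4 F) *
      (y0 ψ α * ((ψ h : GL J4 F) : Matrix J4 J4 F)) * (((ψ h)⁻¹ : GL J4 F) : Matrix J4 J4 F) := by
    rw [h1]
  rw [← Matrix.mul_assoc, ← Units.val_mul, inv_mul_cancel, Units.val_one, Matrix.one_mul,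
    Matrix.mul_assoc, Matrix.mul_assoc, ← Units.val_mul, mul_inv_cancel, Units.val_one,
    Matrix.mul_one] at h2
  exact h2.symm

open Classical in
theorem trace_y0 {ι : F} (hι : ι * ι = -1)
    (hT : ((ψ fT : GL J4 F) : Matrix J4 J4 F) = ι • (1 : Matrix J4 J4 F)) (h2 : (2 : F) ≠ 0)
    (hcen : ∀ x, IsCen (α x * x⁻¹) → α x = x) :
    Matrix.trace (y0 ψ α) = 4 * (Fintype.card {x : E64 // α x = x} : F) := by
  unfold y0
  rw [Matrix.trace_sum]
  have hterm : ∀ e : E64, Matrix.trace (((ψ (α e) : GL J4 F) : Matrix J4 J4 F) *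
      (((ψ e)⁻¹ : GL J4 F) : Matrix J4 J4 F)) = if α e = e then (4 : F) else 0 := by
    intro e
    have heq : ((ψ (α e) : GL J4 F) : Matrix J4 J4 F) * (((ψ e)⁻¹ : GL J4 F) : Matrix J4 J4 F) =
        ((ψ (α e * e⁻¹) : GL J4 F) : Matrix J4 J4 F) := by
      rw [map_mul, map_inv, Units.val_mul]
    rw [heq]
    by_cases h1 : α e = e
    · rw [if_pos h1, h1, mul_inv_cancel, trace_psi_one]
    · rw [if_neg h1]
      apply trace_psi_eq_zero hι hT h2
      intro h
      exact h1 (hcen e h)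
  simp only [hterm]
  rw [Finset.sum_ite, Finset.sum_const_zero, add_zero, Finset.sum_const, nsmul_eq_mul,
    Fintype.card_subtype]
  ring

theorem y0'_mul_y0 : y0' ψ α * y0 ψ α = avg ψ (y0 ψ α) := by
  unfold y0' avg
  rw [Finset.sum_mul]
  apply Finset.sum_congr rfl
  intro e _
  rw [Matrix.mul_assoc, y0_intertwine_inv, ← Matrix.mul_assoc]

section main

variable [Fintype F] (R : Subgroup (GL J4 F))
  (hRi : Cfsg.Geo.ActsAbsolutelyIrreducibly (Cfsg.Geo.matrixSet R))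
  (hψ : Function.Injective ψ) (hR : ψ.range = R) {ι : F} (hι : ι * ι = -1)
  (hT : ((ψ fT : GL J4 F) : Matrix J4 J4 F) = ι • (1 : Matrix J4 J4 F)) (h2 : (2 : F) ≠ 0)

include hRi hψ hR hι hT h2 in
open Classical in
/-- the target element attached to an automorphism of odd prime order -/
theorem exists_target {k : ℕ} (hiter : ∀ x, α^[k] x = x)
    (hcen : ∀ x, IsCen (α x * x⁻¹) → α x = x)
    (hf0 : ((Fintype.card {x : E64 // α x = x} : ℕ) : F) ≠ 0)
    (hne : ∃ x, α x ≠ x)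
    (hcop : k.Coprime (Fintype.card F - 1)) :
    ∃ y : GL J4 F, (∀ e, ψ (α e) * y = y * ψ e) ∧ y ^ k = 1 ∧ y ≠ 1 := by
  -- `y0` is invertible
  have h4 : (4 : F) ≠ 0 := by
    have : (4 : F) = 2 * 2 := by norm_num
    rw [this]; exact mul_ne_zero h2 h2
  have h16 : (16 : F) ≠ 0 := by
    have : (16 : F) = 4 * 4 := by norm_num
    rw [this]; exact mul_ne_zero h4 h4
  set d : F := 16 * (4 * (Fintype.card {x : E64 // α x = x} : F)) with hd
  have hd0 : d ≠ 0 := mul_ne_zero h16 (mul_ne_zero h4 hf0)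
  have hprod : y0' ψ α * y0 ψ α = d • (1 : Matrix J4 J4 F) := by
    rw [y0'_mul_y0, avg_eq R hRi hR h2, trace_y0 hι hT h2 hcen]
  have hleft : (d⁻¹ • y0' ψ α) * y0 ψ α = 1 := by
    rw [Matrix.smul_mul, hprod, smul_smul, inv_mul_cancel₀ hd0, one_smul]
  have hright : y0 ψ α * (d⁻¹ • y0' ψ α) = 1 := mul_eq_one_comm.mp hleft
  set Y : GL J4 F := ⟨y0 ψ α, d⁻¹ • y0' ψ α, hright, hleft⟩ with hY
  have hYint : ∀ e, ψ (α e) * Y = Y * ψ e := by
    intro e
    apply Units.ext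
    rw [Units.val_mul, Units.val_mul]
    exact y0_intertwine e
  -- powers
  have hpow : ∀ m : ℕ, ∀ e, ψ (α^[m] e) * Y ^ m = Y ^ m * ψ e := by
    intro m
    induction m with
    | zero => intro e; simp
    | succ m ih =>
      intro e
      rw [Function.iterate_succ_apply, pow_succ, ← mul_assoc, ih, mul_assoc, hYint, ← mul_assoc]
  obtain ⟨c, hc⟩ := hRi.2 ((Y ^ k : GL J4 F) : Matrix J4 J4 F) (by
    rintro s ⟨g, hg, rfl⟩
    rw [SetLike.mem_coe, ← hR] at hg
    obtain ⟨e, rfl⟩ := hg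
    have := hpow k e
    rw [hiter] at this
    have h7 := congrArg (fun u : GL J4 F => (u : Matrix J4 J4 F)) this
    simp only [Units.val_mul] at h7
    exact h7.symm)
  have hc0 : c ≠ 0 := by
    intro h
    rw [h, zero_smul] at hc
    have hu : IsUnit ((Y ^ k : GL J4 F) : Matrix J4 J4 F) := (Y ^ k).isUnit
    rw [hc] at hu
    exact not_isUnit_zero hu
  -- a `k`-th root of `c`
  have hcop' : (Nat.card Fˣ).Coprime k := by
    rw [Nat.card_eq_fintype_card, Fintype.card_units]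
    exact hcop.symm
  obtain ⟨μ, hμ⟩ : ∃ μ : Fˣ, μ ^ k = Units.mk0 c hc0 :=
    (powCoprime hcop').surjective (Units.mk0 c hc0)
  have hμ' : (μ : F) ^ k = c := by
    have := congrArg Units.val hμ
    simpa using this
  -- the scalar matrix of `μ⁻¹`
  set S : GL J4 F := ⟨(μ⁻¹ : Fˣ).val • (1 : Matrix J4 J4 F), (μ : F) • (1 : Matrix J4 J4 F),
    by rw [Matrix.smul_mul, Matrix.one_mul, smul_smul]; simp,
    by rw [Matrix.smul_mul, Matrix.one_mul, smul_smul]; simp⟩ with hS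
  have hScomm : ∀ g : GL J4 F, S * g = g * S := by
    intro g
    apply Units.ext
    rw [Units.val_mul, Units.val_mul]
    show ((μ⁻¹ : Fˣ).val • (1 : Matrix J4 J4 F)) * g.val = g.val * ((μ⁻¹ : Fˣ).val • (1 : Matrix J4 J4 F))
    simp
  refine ⟨S * Y, ?_, ?_, ?_⟩
  · intro e
    rw [← mul_assoc, ← hScomm, mul_assoc, hYint, ← mul_assoc]
  · have hcomm : Commute S Y := hScomm Y
    rw [hcomm.mul_pow]
    apply Units.ext
    rw [Units.val_mul, hc, Units.val_pow_eq_pow_val]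
    show ((μ⁻¹ : Fˣ).val • (1 : Matrix J4 J4 F)) ^ k * (c • (1 : Matrix J4 J4 F)) = 1
    rw [smul_pow, one_pow, Matrix.smul_mul, Matrix.one_mul, smul_smul, ← hμ']
    have : ((μ⁻¹ : Fˣ) : F) ^ k * (μ : F) ^ k = 1 := by
      rw [← mul_pow]; simp
    rw [this, one_smul]
  · intro h1
    obtain ⟨x, hx⟩ := hne
    apply hx
    apply hψ
    have h3 : ψ (α x) * (S * Y) = (S * Y) * ψ x := by
      rw [← mul_assoc, ← hScomm, mul_assoc, hYint, ← mul_assoc]
    rw [h1, mul_one, one_mul] at h3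
    exact h3

include hR in
/-- an intertwiner for `α` normalizes `R` -/
theorem mem_normalizer_of_intertwine {k : ℕ} (hiter : ∀ x, α^[k + 1] x = x) {y : GL J4 F}
    (hy : ∀ h : E64, ψ (α h) * y = y * ψ h) : y ∈ Cfsg.Geo.subgroupNormalizer R := by
  unfold Cfsg.Geo.subgroupNormalizer
  rw [Subgroup.mem_set_normalizer_iff]
  have hconj : ∀ e : E64, y * ψ e * y⁻¹ = ψ (α e) := by
    intro e
    rw [← hy e]; group
  have hmem : ∀ e : E64, ψ e ∈ R := fun e => by rw [← hR]; exact ⟨e, rfl⟩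
  intro g
  constructor
  · intro hg
    rw [SetLike.mem_coe, ← hR] at hg
    obtain ⟨e, rfl⟩ := hg
    rw [hconj, SetLike.mem_coe]
    exact hmem _
  · intro hg
    rw [SetLike.mem_coe, ← hR] at hg
    obtain ⟨e', he'⟩ := hg
    have h5 : α (α^[k] e') = e' := by
      rw [← Function.iterate_succ_apply' α k e']
      exact hiter e'
    have h1 : y * g * y⁻¹ = y * ψ (α^[k] e') * y⁻¹ := by rw [hconj, h5, he']
    have h2 : g = ψ (α^[k] e') := by
      have := mul_right_cancel h1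
      exact mul_left_cancel this
    rw [SetLike.mem_coe, h2]
    exact hmem _

include hRi hψ hR hι hT h2 in
open Classical in
/-- the trace formula for an intertwiner -/
theorem trace_of_intertwine (hcen : ∀ x, IsCen (α x * x⁻¹) → α x = x) {y : GL J4 F}
    (hy : ∀ h : E64, ψ (α h) * y = y * ψ h) :
    4 * Matrix.trace (y : Matrix J4 J4 F) * Matrix.trace ((y⁻¹ : GL J4 F) : Matrix J4 J4 F) =
      ((Fintype.card {x : E64 // α x = x} : ℕ) : F) := by
  have hn : ∀ x : E64, ∃ x' : E64, y * ψ x * y⁻¹ = ψ x' := fun x => ⟨α x, by rw [← hy]; group⟩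
  have hθ : ∀ x, theta y hn x = α x := by
    intro x
    apply hψ
    rw [psi_theta, ← hy]; group
  have hcen' : ∀ x, IsCen (x * (theta y hn x)⁻¹) → theta y hn x = x := by
    intro x hx
    rw [hθ] at hx ⊢
    apply hcen
    have : α x * x⁻¹ = (x * (α x)⁻¹)⁻¹ := by group
    rw [this]
    revert hx
    generalize x * (α x)⁻¹ = w
    revert w
    decide +kernel
  rw [trace_formula hψ hι hT y hn R hRi hR h2 hcen']
  congr 1
  apply Fintype.card_congr
  apply Equiv.subtypeEquivRight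
  intro x
  rw [sigma_apply, hθ]

end main


end Cfsg.Agent.Lib.Helper42_S6000Target
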