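import Mathlib
import Cfsg.Prelude.Def_GeometricClasses
import Cfsg.Agent.Lib.Helper40_PrimeOrderClasses
import Cfsg.Agent.Lib.Helper40_PGLInvol
import Cfsg.Agent.Lib.Helper40_SemisimpleGL
import Cfsg.Agent.Lib.Helper40_SemisimpleCentralizer

/-!
# S6000 package R3 (helper58, for helper42)

Elements of order 3 of `SL_4(p)`, `p ≡ 2 mod 3`: the characteristic polynomial is
`Φ₃ ^ 2` or `(X - 1) ^ 2 * Φ₃`, the trace is `-2` or `1`, and the `SL_4`-conjugacy statement.
-/

set_option autoImplicit false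
set_option linter.unusedVariables false
set_option linter.style.haveILetI false
set_option linter.unusedSimpArgs false
open scoped MatrixGroups
open Matrix Polynomial

namespace Cfsg.Agent.Lib.Helper58_S6000_R3

open Cfsg.Agent.Lib.Helper40_SemisimpleGL Cfsg.Agent.Lib.Helper40_SemisimpleCentralizer

section aux

variable {F : Type*} [Field F]

theorem three_ne_zero_of_mod {p : ℕ} [Fact p.Prime] [CharP F p] (hp3 : p % 3 = 2) :
    (3 : F) ≠ 0 := by
  intro h
  have h1 : ((3 : ℕ) : F) = 0 := by exact_mod_cast h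
  rw [CharP.cast_eq_zero_iff F p 3] at h1
  have hp : p.Prime := Fact.out
  have : p = 3 := (Nat.prime_dvd_prime_iff_eq hp (by norm_num)).1 h1
  omega

/-- `Φ₃` is irreducible over the prime field when `p ≡ 2 mod 3`. -/
theorem irreducible_cyclotomic_three [Fintype F] {p : ℕ} [Fact p.Prime]
    (hF : Fintype.card F = p) (hp3 : p % 3 = 2) : Irreducible (cyclotomic 3 F) := by
  have hp : p.Prime := Fact.out
  have hp3' : p ≠ 3 := by omega
  have hcop : p.Coprime 3 := (Nat.coprime_primes hp (by norm_num)).mpr hp3'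
  have hord : orderOf ((p : ℕ) : ZMod 3) = 2 := by
    have h2 : ((p : ℕ) : ZMod 3) = 2 := by
      rw [← ZMod.natCast_mod p 3, hp3]; rfl
    rw [h2]
    haveI : Fact (Nat.Prime 2) := ⟨Nat.prime_two⟩
    exact orderOf_eq_prime (by decide) (by decide)
  apply Polynomial.irreducible_of_dvd_cyclotomic_of_natDegree (p := p) (f := 1) (n := 3)
    (by rw [hF, pow_one]) hcop dvd_rfl
  rw [Polynomial.natDegree_cyclotomic, ← orderOf_units, ZMod.coe_unitOfCoprime]
  simp only [pow_one]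
  rw [hord]
  rfl

theorem coprime_card_units [Fintype F] {p : ℕ} (hF : Fintype.card F = p) (hp3 : p % 3 = 2) :
    (Nat.card Fˣ).Coprime 3 := by
  rw [Nat.card_units, Nat.card_eq_fintype_card, hF, Nat.coprime_comm,
    Nat.Prime.coprime_iff_not_dvd (by norm_num)]
  omega

theorem eq_one_of_cube_eq_one [Fintype F] {p : ℕ} (hF : Fintype.card F = p) (hp3 : p % 3 = 2)
    (c : F) (hc : c ^ 3 = 1) : c = 1 := by
  have hc0 : c ≠ 0 := by
    intro h
    rw [h] at hc
    simp at hc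
  have h := coprime_card_units hF hp3
  have h1 : (powCoprime h) (Units.mk0 c hc0) = (powCoprime h) 1 := by
    rw [powCoprime_apply, powCoprime_apply, one_pow]
    ext
    simp [hc]
  have h2 := (powCoprime h).injective h1
  have := congrArg Units.val h2
  simpa using this

theorem exists_cube_root [Fintype F] {p : ℕ} (hF : Fintype.card F = p) (hp3 : p % 3 = 2)
    (z : F) (hz : z ≠ 0) : ∃ μ : F, μ ≠ 0 ∧ μ ^ 3 = z := by
  have h := coprime_card_units hF hp3
  refine ⟨(((powCoprime h).symm (Units.mk0 z hz) : Fˣ) : F), Units.ne_zero _, ?_⟩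
  have h1 : (powCoprime h) ((powCoprime h).symm (Units.mk0 z hz)) = Units.mk0 z hz :=
    (powCoprime h).apply_symm_apply _
  rw [powCoprime_apply] at h1
  have := congrArg Units.val h1
  simpa using this

/-- the characteristic polynomial of an element of order 3 of `M_4(F_p)`, `p ≡ 2 mod 3` -/
theorem charpoly_of_order3 [Fintype F] {p : ℕ} [Fact p.Prime] [CharP F p]
    (hF : Fintype.card F = p) (hp3 : p % 3 = 2)
    (A : Matrix (Fin 4) (Fin 4) F) (h3 : A ^ 3 = 1) (h1 : A ≠ 1) :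
    A.charpoly = cyclotomic 3 F ^ 2 ∨ A.charpoly = (X - 1) ^ 2 * cyclotomic 3 F := by
  have hQi := irreducible_cyclotomic_three hF hp3
  have hQm : (cyclotomic 3 F).Monic := cyclotomic.monic 3 F
  have hQd : (cyclotomic 3 F).natDegree = 2 := by
    rw [natDegree_cyclotomic]; rfl
  haveI : Fact (Nat.Prime 3) := ⟨by norm_num⟩
  have hfac : cyclotomic 3 F * (X - 1) = X ^ 3 - 1 := cyclotomic_prime_mul_X_sub_one F 3
  have haev : aeval A ((X : F[X]) ^ 3 - 1) = 0 := by
    rw [map_sub, map_pow, aeval_X, map_one, h3, sub_self]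
  have hcm : A.charpoly.Monic := Matrix.charpoly_monic A
  have hcd : A.charpoly.natDegree = 4 := by
    rw [Matrix.charpoly_natDegree_eq_dim]; simp
  have hc0 : A.charpoly ≠ 0 := hcm.ne_zero
  obtain ⟨c', hc', hnd⟩ := exists_eq_pow_rootMultiplicity_mul_and_not_dvd A.charpoly hc0 (1 : F)
  rw [C_1] at hc' hnd
  obtain ⟨hXm, hXi⟩ := Cfsg.Agent.Lib.Helper40_PrimeOrderClasses.X_sub_one_props (F := F)
  have hXd : ((X : F[X]) - 1).natDegree = 1 :=
    Cfsg.Agent.Lib.Helper40_PrimeOrderClasses.natDegree_X_sub_one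
  obtain ⟨a, ha⟩ : ∃ a : ℕ, a = rootMultiplicity (1 : F) A.charpoly := ⟨_, rfl⟩
  rw [← ha] at hc'
  have hc'm : c'.Monic := (hXm.pow a).of_mul_monic_left (by rw [← hc']; exact hcm)
  have hall : ∀ f, Irreducible f → f ∣ c' → f ∣ cyclotomic 3 F := by
    intro f hf hfc
    have h4 : f ∣ A.charpoly := by
      rw [hc']; exact dvd_mul_of_dvd_right hfc _
    have h5 : f ∣ X ^ 3 - 1 :=
      Cfsg.Agent.Lib.Helper40_PrimeOrderClasses.dvd_of_irreducible_of_dvd_charpoly A _ haev f hf h4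
    rw [← hfac] at h5
    rcases hf.prime.dvd_or_dvd h5 with h6 | h6
    · exact h6
    · exfalso
      have h7 : Associated f (X - 1) := hf.associated_of_dvd hXi h6
      exact hnd (h7.symm.dvd.trans hfc)
  obtain ⟨b, hb⟩ := Cfsg.Agent.Lib.Helper40_PGLInvol.eq_pow_of_forall_irreducible_dvd
    (cyclotomic 3 F) hQm hQi c'.natDegree c' hc'm rfl hall
  have hdeg : a + 2 * b = 4 := by
    have h8 : A.charpoly.natDegree = a * 1 + b * 2 := by
      rw [hc', hb, (hXm.pow a).natDegree_mul (hQm.pow b), hXm.natDegree_pow, hQm.natDegree_pow,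
        hXd, hQd]
    rw [hcd] at h8
    omega
  have hb2 : b ≤ 2 := by omega
  interval_cases b
  · exfalso
    have ha4 : a = 4 := by omega
    apply h1
    apply Cfsg.Agent.Lib.Helper40_PrimeOrderClasses.eq_one_of_isSS_of_charpoly A
    · exact isSS_of_pow_eq_one A 3 (by exact_mod_cast three_ne_zero_of_mod (F := F) hp3) h3
    · rw [hc', hb, ha4, pow_zero, mul_one]
  · right
    have ha2 : a = 2 := by omega
    rw [hc', hb, ha2, pow_one]
  · left
    have ha0 : a = 0 := by omega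
    rw [hc', hb, ha0, pow_zero, one_mul]

theorem trace_eq_neg_coeff_three (A : Matrix (Fin 4) (Fin 4) F) :
    Matrix.trace A = -A.charpoly.coeff 3 := by
  have := Matrix.trace_eq_neg_charpoly_coeff A
  rw [Fintype.card_fin] at this
  exact this

theorem cyc3_sq : (cyclotomic 3 F) ^ 2 =
    X ^ 4 + C 2 * X ^ 3 + C 3 * X ^ 2 + C 2 * X + C 1 := by
  rw [cyclotomic_three]
  simp only [map_ofNat, map_one]
  ring

theorem cyc3_mix : ((X : F[X]) - 1) ^ 2 * cyclotomic 3 F =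
    X ^ 4 + C (-1) * X ^ 3 + C (-1) * X + C 1 := by
  rw [cyclotomic_three]
  simp only [map_neg, map_one]
  ring

theorem trace_of_charpoly_sq (A : Matrix (Fin 4) (Fin 4) F)
    (h : A.charpoly = cyclotomic 3 F ^ 2) : Matrix.trace A = -2 := by
  rw [trace_eq_neg_coeff_three, h, cyc3_sq]
  simp [coeff_X_pow, coeff_X, coeff_C_mul, coeff_C, coeff_one]

theorem trace_of_charpoly_mix (A : Matrix (Fin 4) (Fin 4) F)
    (h : A.charpoly = (X - 1) ^ 2 * cyclotomic 3 F) : Matrix.trace A = 1 := by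
  rw [trace_eq_neg_coeff_three, h, cyc3_mix]
  simp [coeff_X_pow, coeff_X, coeff_C_mul, coeff_C, coeff_one]

theorem charpoly_eq_of_trace_eq [Fintype F] {p : ℕ} [Fact p.Prime] [CharP F p]
    (hF : Fintype.card F = p) (hp3 : p % 3 = 2)
    (A B : Matrix (Fin 4) (Fin 4) F) (hA3 : A ^ 3 = 1) (hA1 : A ≠ 1) (hB3 : B ^ 3 = 1)
    (hB1 : B ≠ 1) (ht : Matrix.trace A = Matrix.trace B) : A.charpoly = B.charpoly := by
  have h3 : (3 : F) ≠ 0 := three_ne_zero_of_mod hp3
  rcases charpoly_of_order3 hF hp3 A hA3 hA1 with hA | hA <;>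
  rcases charpoly_of_order3 hF hp3 B hB3 hB1 with hB | hB
  · rw [hA, hB]
  · exfalso
    rw [trace_of_charpoly_sq A hA, trace_of_charpoly_mix B hB] at ht
    apply h3
    linear_combination -ht
  · exfalso
    rw [trace_of_charpoly_mix A hA, trace_of_charpoly_sq B hB] at ht
    apply h3
    linear_combination ht
  · rw [hA, hB]

/-- conjugating a scalar multiple of an element of order 3 into `N` -/
theorem key [Fintype F] {p : ℕ} [Fact p.Prime] [CharP F p]
    (hF : Fintype.card F = p) (hp3 : p % 3 = 2) (N : Subgroup (GL (Fin 4) F))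
    (hscal : ∀ g ∈ N, ∀ g' : GL (Fin 4) F, (∃ c : F, (g' : Matrix (Fin 4) (Fin 4) F) =
      c • (g : Matrix (Fin 4) (Fin 4) F)) → g' ∈ N)
    (y : GL (Fin 4) F) (hyN : y ∈ N) (hy3 : y ^ 3 = 1)
    (hy1 : (y : Matrix (Fin 4) (Fin 4) F) ≠ 1)
    (x : GL (Fin 4) F) (μ : F) (X' : Matrix (Fin 4) (Fin 4) F)
    (hxX : (x : Matrix (Fin 4) (Fin 4) F) = μ • X') (hX3 : X' ^ 3 = 1) (hX1 : X' ≠ 1)
    (htr : Matrix.trace X' = Matrix.trace (y : Matrix (Fin 4) (Fin 4) F)) :
    ∃ g ∈ Cfsg.Geo.specialLinear (Fin 4) F, g⁻¹ * x * g ∈ N := by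
  have h3 : (3 : F) ≠ 0 := three_ne_zero_of_mod hp3
  have h3' : ((3 : ℕ) : F) ≠ 0 := by exact_mod_cast h3
  obtain ⟨Y, hY⟩ : ∃ Y : Matrix (Fin 4) (Fin 4) F, Y = (y : Matrix (Fin 4) (Fin 4) F) := ⟨_, rfl⟩
  have hY3 : Y ^ 3 = 1 := by
    have := congrArg (fun g : GL (Fin 4) F => (g : Matrix (Fin 4) (Fin 4) F)) hy3
    rw [hY]
    simpa using this
  have hdetY : Y.det = 1 := by
    apply eq_one_of_cube_eq_one hF hp3
    rw [← Matrix.det_pow, hY3, Matrix.det_one]
  have hdetX : X'.det = 1 := by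
    apply eq_one_of_cube_eq_one hF hp3
    rw [← Matrix.det_pow, hX3, Matrix.det_one]
  obtain ⟨xs, hxs⟩ : ∃ xs : Matrix.SpecialLinearGroup (Fin 4) F,
      (xs : Matrix (Fin 4) (Fin 4) F) = X' := ⟨⟨X', hdetX⟩, rfl⟩
  obtain ⟨ys, hys⟩ : ∃ ys : Matrix.SpecialLinearGroup (Fin 4) F,
      (ys : Matrix (Fin 4) (Fin 4) F) = Y := ⟨⟨Y, hdetY⟩, rfl⟩
  have hconj : IsConj xs ys := by
    apply sl_isConj_of_charpoly_eq
    · rw [hxs]; exact isSS_of_pow_eq_one X' 3 h3' hX3
    · rw [hys]; exact isSS_of_pow_eq_one Y 3 h3' hY3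
    · rw [hxs, hys]
      exact charpoly_eq_of_trace_eq hF hp3 X' Y hX3 hX1 hY3 (by rw [hY]; exact hy1)
        (by rw [hY]; exact htr)
  obtain ⟨c, hc⟩ := isConj_iff.1 hconj
  have hc' : (c : Matrix (Fin 4) (Fin 4) F) * X' *
      ((c⁻¹ : Matrix.SpecialLinearGroup (Fin 4) F) : Matrix (Fin 4) (Fin 4) F) = Y := by
    have := congrArg
      (fun g : Matrix.SpecialLinearGroup (Fin 4) F => (g : Matrix (Fin 4) (Fin 4) F)) hc
    rw [← hxs, ← hys]
    simpa using this
  refine ⟨Matrix.SpecialLinearGroup.toGL c⁻¹, ?_, ?_⟩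
  · show Matrix.SpecialLinearGroup.toGL c⁻¹ ∈
      (Matrix.GeneralLinearGroup.det : GL (Fin 4) F →* Fˣ).ker
    rw [MonoidHom.mem_ker]
    apply Units.ext
    rw [Matrix.GeneralLinearGroup.val_det_apply, Matrix.SpecialLinearGroup.coe_GL_coe_matrix,
      Matrix.SpecialLinearGroup.det_coe]
    rfl
  · apply hscal y hyN
    refine ⟨μ, ?_⟩
    rw [← map_inv, inv_inv, Units.val_mul, Units.val_mul,
      Matrix.SpecialLinearGroup.coe_GL_coe_matrix, Matrix.SpecialLinearGroup.coe_GL_coe_matrix,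
      hxX, Matrix.mul_smul, Matrix.smul_mul, hc', hY]

end aux

theorem trace_of_order3 {F : Type*} [Field F] [Fintype F] {p : ℕ} [Fact p.Prime] [CharP F p]
    (hF : Fintype.card F = p) (hp3 : p % 3 = 2) (h2 : (2 : F) ≠ 0)
    (A : Matrix (Fin 4) (Fin 4) F) (h3 : A ^ 3 = 1)
    (h1 : A ≠ 1) : Matrix.trace A = -2 ∨ Matrix.trace A = 1 := by
  rcases charpoly_of_order3 hF hp3 A h3 h1 with h | h
  · exact Or.inl (trace_of_charpoly_sq A h)
  · exact Or.inr (trace_of_charpoly_mix A h)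

theorem three_case_SL {F : Type*} [Field F] [Fintype F] {p : ℕ} [Fact p.Prime] [CharP F p]
    (hF : Fintype.card F = p) (hp3 : p % 3 = 2) (h2 : (2 : F) ≠ 0) (N : Subgroup (GL (Fin 4) F))
    (hscal : ∀ g ∈ N, ∀ g' : GL (Fin 4) F, (∃ c : F, (g' : Matrix (Fin 4) (Fin 4) F) =
      c • (g : Matrix (Fin 4) (Fin 4) F)) → g' ∈ N)
    (y₁ : GL (Fin 4) F) (h1N : y₁ ∈ N) (h13 : y₁ ^ 3 = 1)
    (h1tr : Matrix.trace (y₁ : Matrix (Fin 4) (Fin 4) F) = -2)
    (y₂ : GL (Fin 4) F) (h2N : y₂ ∈ N) (h23 : y₂ ^ 3 = 1)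
    (h2tr : Matrix.trace (y₂ : Matrix (Fin 4) (Fin 4) F) = 1)
    (x : GL (Fin 4) F) (hx : x ∈ Cfsg.Geo.specialLinear (Fin 4) F) (z : F)
    (hxz : ((x ^ 3 : GL (Fin 4) F) : Matrix (Fin 4) (Fin 4) F) = z • (1 : Matrix (Fin 4) (Fin 4) F))
    (hns : ∀ c : F, (x : Matrix (Fin 4) (Fin 4) F) ≠ c • (1 : Matrix (Fin 4) (Fin 4) F)) :
    ∃ g ∈ Cfsg.Geo.specialLinear (Fin 4) F, g⁻¹ * x * g ∈ N := by
  have h3 : (3 : F) ≠ 0 := three_ne_zero_of_mod hp3
  have hdetx : (x : Matrix (Fin 4) (Fin 4) F).det = 1 := by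
    have h : Matrix.GeneralLinearGroup.det x = 1 := hx
    have := congrArg Units.val h
    rw [Matrix.GeneralLinearGroup.val_det_apply] at this
    simpa using this
  have hx3 : (x : Matrix (Fin 4) (Fin 4) F) ^ 3 = z • (1 : Matrix (Fin 4) (Fin 4) F) := by
    rw [← hxz]; simp
  have hz4 : z ^ 4 = 1 := by
    have := congrArg Matrix.det hx3
    rw [Matrix.det_pow, hdetx, one_pow, Matrix.det_smul, Matrix.det_one, mul_one,
      Fintype.card_fin] at this
    exact this.symm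
  have hz : z ≠ 0 := by
    intro h
    rw [h] at hz4
    simp at hz4
  obtain ⟨μ, hμ0, hμ⟩ := exists_cube_root hF hp3 z hz
  obtain ⟨X', hX'⟩ : ∃ X' : Matrix (Fin 4) (Fin 4) F,
      X' = μ⁻¹ • (x : Matrix (Fin 4) (Fin 4) F) := ⟨_, rfl⟩
  have hxX : (x : Matrix (Fin 4) (Fin 4) F) = μ • X' := by
    rw [hX', smul_smul, mul_inv_cancel₀ hμ0, one_smul]
  have hX3 : X' ^ 3 = 1 := by
    rw [hX', _root_.smul_pow, hx3, smul_smul, inv_pow, hμ, inv_mul_cancel₀ hz, one_smul]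
  have hX1 : X' ≠ 1 := by
    intro h
    apply hns μ
    rw [hxX, h]
  rcases trace_of_order3 hF hp3 h2 X' hX3 hX1 with ht | ht
  · refine key hF hp3 N hscal y₁ h1N h13 ?_ x μ X' hxX hX3 hX1 (by rw [ht, h1tr])
    intro h
    rw [h, Matrix.trace_one, Fintype.card_fin] at h1tr
    have h6 : (2 : F) * 3 = 0 := by
      push_cast at h1tr
      linear_combination h1tr
    rcases mul_eq_zero.1 h6 with h | h
    · exact h2 h
    · exact h3 h
  · refine key hF hp3 N hscal y₂ h2N h23 ?_ x μ X' hxX hX3 hX1 (by rw [ht, h2tr])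
    intro h
    rw [h, Matrix.trace_one, Fintype.card_fin] at h2tr
    apply h3
    push_cast at h2tr
    linear_combination h2tr

end Cfsg.Agent.Lib.Helper58_S6000_R3
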