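import Mathlib
import Cfsg.Prelude.Def_GeometricClasses
import Cfsg.Agent.Lib.Helper42_S6000Target
import Cfsg.Agent.Lib.Helper42_E64Aut
import Cfsg.Agent.Lib.Helper58_S6000_R3

/-!
# S6000-PKG-TGT (helper42, round 2): the elements of order 3 and 5 of `N = N(R)`, `R = ψ(E64)`

Pure glue of `Helper42_S6000Target` (`exists_target`, `mem_normalizer_of_intertwine`,
`trace_of_intertwine`), `Helper42_E64Aut` (`aut5`, `aut3a`, `aut3b`) and
`Helper58_S6000_R3.trace_of_order3`.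
-/

set_option autoImplicit false

open scoped MatrixGroups

namespace Cfsg.Agent.Lib.Helper4_S6000_TGT

open Cfsg.Agent.Lib.Helper42_E64 Cfsg.Agent.Lib.Helper42_E64.E64 Cfsg.Agent.Lib.Helper42_E64Aut
  Cfsg.Agent.Lib.Helper42_S6000Target

/-- a natural number `0 < n < p` is nonzero in a field of characteristic `p` -/
lemma natCast_ne_zero_of_lt {F : Type*} [Field F] {p : ℕ} [CharP F p] {n : ℕ} (h0 : 0 < n)
    (hn : n < p) : ((n : ℕ) : F) ≠ 0 := by
  intro h
  have hd : p ∣ n := (CharP.cast_eq_zero_iff F p n).1 h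
  have := Nat.le_of_dvd h0 hd
  omega

/-- the traces of an element of order 3 and its inverse, given `4 * a * b = m` -/
lemma trace_case {F : Type*} [Field F] (h2 : (2 : F) ≠ 0) (h3 : (3 : F) ≠ 0) {a b : F}
    (ha : a = -2 ∨ a = 1) (hb : b = -2 ∨ b = 1) :
    (4 * a * b = 16 → a = -2) ∧ (4 * a * b = 4 → a = 1) := by
  have h12 : (12 : F) ≠ 0 := by
    have : (12 : F) = 2 * 2 * 3 := by norm_num
    rw [this]; exact mul_ne_zero (mul_ne_zero h2 h2) h3
  have h24 : (24 : F) ≠ 0 := by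
    have : (24 : F) = 2 * 12 := by norm_num
    rw [this]; exact mul_ne_zero h2 h12
  rcases ha with rfl | rfl <;> rcases hb with rfl | rfl
  · refine ⟨fun _ => rfl, fun h => ?_⟩
    exfalso; apply h12
    have : (12 : F) = 4 * -2 * -2 - 4 := by norm_num
    rw [this, h, sub_self]
  · refine ⟨fun _ => rfl, fun h => ?_⟩
    exfalso; apply h12
    have : (12 : F) = -(4 * -2 * 1 - 4) := by norm_num
    rw [this, h, sub_self, neg_zero]
  · refine ⟨fun h => ?_, fun _ => rfl⟩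
    exfalso; apply h24
    have : (24 : F) = -(4 * 1 * -2 - 16) := by norm_num
    rw [this, h, sub_self, neg_zero]
  · refine ⟨fun h => ?_, fun _ => rfl⟩
    exfalso; apply h12
    have : (12 : F) = -(4 * 1 * 1 - 16) := by norm_num
    rw [this, h, sub_self, neg_zero]

theorem exists_targets {F : Type*} [Field F] [Fintype F] {p : ℕ} [Fact p.Prime] [CharP F p]
    (hF : Fintype.card F = p) (hp4 : p % 4 = 1) (R : Subgroup (GL (Fin 4) F))
    (hRi : Cfsg.Geo.ActsAbsolutelyIrreducibly (Cfsg.Geo.matrixSet R))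
    (ψ : E64 →* GL (Fin 4) F) (ι : F) (hψ : Function.Injective ψ) (hR : ψ.range = R)
    (hι : ι * ι = -1)
    (hT : ((ψ fT : GL (Fin 4) F) : Matrix (Fin 4) (Fin 4) F) = ι • (1 : Matrix (Fin 4) (Fin 4) F)) :
    (p % 3 = 2 → ∃ y₁ y₂ : GL (Fin 4) F,
      y₁ ∈ Cfsg.Geo.subgroupNormalizer R ∧ y₁ ^ 3 = 1 ∧
        Matrix.trace (y₁ : Matrix (Fin 4) (Fin 4) F) = -2 ∧
      y₂ ∈ Cfsg.Geo.subgroupNormalizer R ∧ y₂ ^ 3 = 1 ∧
        Matrix.trace (y₂ : Matrix (Fin 4) (Fin 4) F) = 1) ∧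
    (orderOf (p : ZMod 5) = 4 → ∃ y : GL (Fin 4) F,
      y ∈ Cfsg.Geo.subgroupNormalizer R ∧ y ^ 5 = 1 ∧ y ≠ 1) := by
  classical
  have hp : p.Prime := Fact.out
  have hp5 : 5 ≤ p := by
    have := hp.two_le
    by_contra hlt
    push Not at hlt
    interval_cases p <;> omega
  have h2 : (2 : F) ≠ 0 := by
    have := natCast_ne_zero_of_lt (F := F) (p := p) (n := 2) (by norm_num) (by omega)
    exact_mod_cast this
  have h3 : (3 : F) ≠ 0 := by
    have := natCast_ne_zero_of_lt (F := F) (p := p) (n := 3) (by norm_num) (by omega)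
    exact_mod_cast this
  have h4 : (4 : F) ≠ 0 := by
    have : (4 : F) = 2 * 2 := by norm_num
    rw [this]; exact mul_ne_zero h2 h2
  have h16 : (16 : F) ≠ 0 := by
    have : (16 : F) = 4 * 4 := by norm_num
    rw [this]; exact mul_ne_zero h4 h4
  have hc5 : Fintype.card {x : E64 // aut5 x = x} = 4 := by convert aut5_card_fix
  have hc3a : Fintype.card {x : E64 // aut3a x = x} = 4 := by convert aut3a_card_fix
  have hc3b : Fintype.card {x : E64 // aut3b x = x} = 16 := by convert aut3b_card_fix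
  refine ⟨fun hp3 => ?_, fun h5 => ?_⟩
  · have hcop : Nat.Coprime 3 (Fintype.card F - 1) := by
      rw [hF, Nat.Prime.coprime_iff_not_dvd Nat.prime_three]
      omega
    -- the element with 16 fixed points
    obtain ⟨y₁, hy₁, hy₁3, hy₁1⟩ := exists_target R hRi hψ hR hι hT h2 (α := aut3b) (k := 3)
      aut3b_iter aut3b_cen (by rw [hc3b]; exact_mod_cast h16)
      ⟨fA, by decide +kernel⟩ hcop
    obtain ⟨y₂, hy₂, hy₂3, hy₂1⟩ := exists_target R hRi hψ hR hι hT h2 (α := aut3a) (k := 3)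
      aut3a_iter aut3a_cen (by rw [hc3a]; exact_mod_cast h4)
      ⟨fA, by decide +kernel⟩ hcop
    have htr : ∀ y : GL (Fin 4) F, y ^ 3 = 1 → y ≠ 1 →
        (Matrix.trace (y : Matrix (Fin 4) (Fin 4) F) = -2 ∨
          Matrix.trace (y : Matrix (Fin 4) (Fin 4) F) = 1) := by
      intro y hy3 hy1
      apply Cfsg.Agent.Lib.Helper58_S6000_R3.trace_of_order3 hF hp3 h2
      · rw [← Units.val_pow_eq_pow_val, hy3, Units.val_one]
      · intro h
        apply hy1
        exact Units.ext h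
    have hinv3 : ∀ y : GL (Fin 4) F, y ^ 3 = 1 → y⁻¹ ^ 3 = 1 := by
      intro y hy; rw [inv_pow, hy, inv_one]
    have hinv1 : ∀ y : GL (Fin 4) F, y ≠ 1 → y⁻¹ ≠ 1 := by
      intro y hy h; exact hy (inv_eq_one.1 h)
    have ht1 := trace_of_intertwine R hRi hψ hR hι hT h2 aut3b_cen hy₁
    have ht2 := trace_of_intertwine R hRi hψ hR hι hT h2 aut3a_cen hy₂
    rw [hc3b] at ht1
    rw [hc3a] at ht2
    have ht1' : 4 * Matrix.trace (y₁ : Matrix (Fin 4) (Fin 4) F) *
        Matrix.trace ((y₁⁻¹ : GL (Fin 4) F) : Matrix (Fin 4) (Fin 4) F) = 16 := by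
      rw [ht1]; norm_num
    have ht2' : 4 * Matrix.trace (y₂ : Matrix (Fin 4) (Fin 4) F) *
        Matrix.trace ((y₂⁻¹ : GL (Fin 4) F) : Matrix (Fin 4) (Fin 4) F) = 4 := by
      rw [ht2]; norm_num
    refine ⟨y₁, y₂, mem_normalizer_of_intertwine R hR (k := 2) aut3b_iter hy₁, hy₁3, ?_,
      mem_normalizer_of_intertwine R hR (k := 2) aut3a_iter hy₂, hy₂3, ?_⟩
    · exact (trace_case h2 h3 (htr y₁ hy₁3 hy₁1) (htr y₁⁻¹ (hinv3 y₁ hy₁3) (hinv1 y₁ hy₁1))).1 ht1'
    · exact (trace_case h2 h3 (htr y₂ hy₂3 hy₂1) (htr y₂⁻¹ (hinv3 y₂ hy₂3) (hinv1 y₂ hy₂1))).2 ht2'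
  · have hcop : Nat.Coprime 5 (Fintype.card F - 1) := by
      rw [hF, Nat.Prime.coprime_iff_not_dvd (by norm_num : Nat.Prime 5)]
      intro hd
      have h1 : ((p : ℕ) : ZMod 5) = 1 := by
        have hpe : p = (p - 1) + 1 := by omega
        rw [hpe, Nat.cast_add, (ZMod.natCast_eq_zero_iff (p - 1) 5).2 hd]
        simp
      rw [h1, orderOf_one] at h5
      omega
    obtain ⟨y, hy, hy5, hy1⟩ := exists_target R hRi hψ hR hι hT h2 (α := aut5) (k := 5)
      aut5_iter aut5_cen (by rw [hc5]; exact_mod_cast h4)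
      ⟨fA, by decide +kernel⟩ hcop
    exact ⟨y, mem_normalizer_of_intertwine R hR (k := 4) aut5_iter hy, hy5, hy1⟩

end Cfsg.Agent.Lib.Helper4_S6000_TGT
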