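import Mathlib
import Cfsg.Prelude.Def_GeometricClasses
import Cfsg.Agent.Lib.Helper42_E64
import Cfsg.Agent.Lib.Helper42_ES32
import Cfsg.Agent.Lib.Helper42_SympTypeQ

/-!
# S6000 package PKG-REC (helper42's vein; proved by helper97)

Recognition of `R = 4 ∘ 2^{1+4}` (order 64, centre of order 4, symplectic type, absolutely irreducible in
`GL_4(F)`) as the image of an injective homomorphism from the explicit group `E64`.

* `WHyp R z` : squares and commutators of `R` lie in `{1, z}` (no condition on the centre), and the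
  `kap`/`qq` calculus of `Helper42_ES32` under this weaker hypothesis;
* `exists_psi_abstract` : the abstract recognition theorem;
* `exists_psi` : the package statement.
-/

set_option autoImplicit false
set_option linter.unusedSimpArgs false
open scoped MatrixGroups

namespace Cfsg.Agent.Lib.Helper97_S6000_REC

open Cfsg.Agent.Lib.Helper42_E32 Cfsg.Agent.Lib.Helper42_E32.E32 Cfsg.Agent.Lib.Helper42_ES32
  Cfsg.Agent.Lib.Helper42_E64

section abstract

variable {G : Type*} [Group G]

/-- squares and commutators of `R` lie in `{1, z}`, `z` a central involution of `R` -/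
structure WHyp (R : Subgroup G) (z : G) : Prop where
  z_mem : z ∈ R
  z_ne : z ≠ 1
  z_sq : z * z = 1
  z_comm : ∀ g ∈ R, g * z = z * g
  sq : ∀ g ∈ R, g * g = 1 ∨ g * g = z
  comm : ∀ g ∈ R, ∀ h ∈ R, g * h = h * g ∨ g * h = z * (h * g)

variable {R : Subgroup G} {z : G}

theorem gpow_comm' (H : WHyp R z) {g : G} (hg : g ∈ R) (e : ZMod 2) :
    g * gpow z e = gpow z e * g := by
  rcases zmod2_cases e with rfl | rfl
  · simp
  · simpa using H.z_comm g hg

theorem kap_spec' (H : WHyp R z) {g h : G} (hg : g ∈ R) (hh : h ∈ R) :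
    g * h = gpow z (kap g h) * (h * g) := by
  unfold kap
  split_ifs with hc
  · simpa using hc
  · rcases H.comm g hg h hh with h1 | h1
    · exact absurd h1 hc
    · simpa using h1

theorem qq_spec' (H : WHyp R z) {g : G} (hg : g ∈ R) : g * g = gpow z (qq g) := by
  unfold qq
  split_ifs with hc
  · simpa using hc
  · rcases H.sq g hg with h1 | h1
    · exact absurd h1 hc
    · simpa using h1

theorem kap_unique' (H : WHyp R z) {g h : G} (hg : g ∈ R) (hh : h ∈ R) (e : ZMod 2)
    (he : g * h = gpow z e * (h * g)) : kap g h = e := by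
  have h1 := kap_spec' H hg hh
  rw [he] at h1
  exact (gpow_inj H.z_ne (mul_right_cancel h1)).symm

theorem qq_unique' (H : WHyp R z) {g : G} (hg : g ∈ R) (e : ZMod 2)
    (he : g * g = gpow z e) : qq g = e := by
  have h1 := qq_spec' H hg
  rw [he] at h1
  exact (gpow_inj H.z_ne h1).symm

theorem gpow_gpow_comm {z : G} (e e' : ZMod 2) :
    gpow z e * gpow z e' = gpow z e' * gpow z e := by
  rcases zmod2_cases e with rfl | rfl <;> rcases zmod2_cases e' with rfl | rfl <;> simp

theorem kap_mul_left' (H : WHyp R z) {g g' h : G} (hg : g ∈ R) (hg' : g' ∈ R) (hh : h ∈ R) :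
    kap (g * g') h = kap g h + kap g' h := by
  apply kap_unique' H (R.mul_mem hg hg') hh
  have h1 := kap_spec' H hg hh
  have h2 := kap_spec' H hg' hh
  calc g * g' * h = g * (g' * h) := by rw [mul_assoc]
    _ = g * (gpow z (kap g' h) * (h * g')) := by rw [h2]
    _ = gpow z (kap g' h) * (g * h) * g' := by
        rw [← mul_assoc g, gpow_comm' H hg, mul_assoc, mul_assoc, mul_assoc]
    _ = gpow z (kap g' h) * (gpow z (kap g h) * (h * g)) * g' := by rw [h1]
    _ = gpow z (kap g h + kap g' h) * (h * (g * g')) := by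
        rw [gpow_add H.z_sq, gpow_gpow_comm (kap g h)]
        simp only [mul_assoc]

theorem kap_symm' (H : WHyp R z) {g h : G} (hg : g ∈ R) (hh : h ∈ R) : kap g h = kap h g := by
  apply kap_unique' H hg hh
  have h1 := kap_spec' H hh hg
  calc g * h = gpow z (kap h g) * (gpow z (kap h g) * (g * h)) := by
        rw [← mul_assoc, ← gpow_add H.z_sq, two_mul_zmod]; simp
    _ = gpow z (kap h g) * (h * g) := by rw [← h1]

theorem kap_mul_right' (H : WHyp R z) {g h h' : G} (hg : g ∈ R) (hh : h ∈ R) (hh' : h' ∈ R) :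
    kap g (h * h') = kap g h + kap g h' := by
  rw [kap_symm' H hg (R.mul_mem hh hh'), kap_mul_left' H hh hh' hg, kap_symm' H hh hg,
    kap_symm' H hh' hg]

theorem qq_mul' (H : WHyp R z) {g h : G} (hg : g ∈ R) (hh : h ∈ R) :
    qq (g * h) = qq g + qq h + kap g h := by
  apply qq_unique' H (R.mul_mem hg hh)
  have h1 := kap_spec' H hh hg
  have h2 := qq_spec' H hg
  have h3 := qq_spec' H hh
  calc g * h * (g * h) = g * (h * g) * h := by simp only [mul_assoc]
    _ = g * (gpow z (kap h g) * (g * h)) * h := by rw [h1]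
    _ = gpow z (kap h g) * ((g * g) * (h * h)) := by
        rw [← mul_assoc g, gpow_comm' H hg]; simp only [mul_assoc]
    _ = gpow z (qq g + qq h + kap g h) := by
        rw [h2, h3, kap_symm' H hh hg, ← gpow_add H.z_sq, ← gpow_add H.z_sq]
        congr 1; ring

theorem kap_corr' (H : WHyp R z) {g1 g2 h w : G} (h1 : g1 ∈ R) (h2 : g2 ∈ R) (hh : h ∈ R)
    (hw : w ∈ R) :
    kap (corr g1 g2 h) w = kap h w + kap h g1 * kap g2 w + kap h g2 * kap g1 w := by
  unfold corr
  rw [kap_mul_left' H hh (R.mul_mem (gpow_mem h2 _) (gpow_mem h1 _)) hw,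
    kap_mul_left' H (gpow_mem h2 _) (gpow_mem h1 _) hw, kap_gpow_left, kap_gpow_left]
  ring

theorem kap_corr_left' (H : WHyp R z) {g1 g2 h : G} (h1 : g1 ∈ R) (h2 : g2 ∈ R)
    (h12 : kap g1 g2 = 1) (hh : h ∈ R) : kap (corr g1 g2 h) g1 = 0 := by
  rw [kap_corr' H h1 h2 hh h1, kap_symm' H h2 h1, h12, kap_self]
  have := two_mul_zmod (kap h g1)
  linear_combination this

theorem kap_corr_right' (H : WHyp R z) {g1 g2 h : G} (h1 : g1 ∈ R) (h2 : g2 ∈ R)
    (h12 : kap g1 g2 = 1) (hh : h ∈ R) : kap (corr g1 g2 h) g2 = 0 := by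
  rw [kap_corr' H h1 h2 hh h2, h12, kap_self]
  have := two_mul_zmod (kap h g2)
  linear_combination this

theorem rel_of_gens' (H : WHyp R z) {a b c d : G} (g : Gens R a b c d) : Rel z a b c d := by
  have k1 : ∀ {u v : G}, u ∈ R → v ∈ R → kap u v = 1 → v * u = z * (u * v) := by
    intro u v hu hv h
    have := kap_spec' H hv hu
    rw [kap_symm' H hv hu, h] at this
    simpa using this
  have k0 : ∀ {u v : G}, kap u v = 0 → v * u = u * v := fun h => (kap_eq_zero_iff.mp h).symm
  have q1 : ∀ {u : G}, u ∈ R → qq u = 1 → u * u = z := by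
    intro u hu h
    have := qq_spec' H hu
    rw [h] at this
    simpa using this
  exact ⟨H.z_sq, H.z_comm a g.ha, H.z_comm b g.hb, H.z_comm c g.hc, H.z_comm d g.hd,
    q1 g.ha g.qa, q1 g.hb g.qb, k1 g.ha g.hb g.kab, qq_eq_zero_iff.mp g.qc, qq_eq_zero_iff.mp g.qd,
    k1 g.hc g.hd g.kcd, k0 g.kac, k0 g.kbc, k0 g.kad, k0 g.kbd⟩

theorem phi_mem' (H : WHyp R z) {a b c d : G} (g : Gens R a b c d) (x : E32) :
    phi z a b c d x ∈ R := by
  unfold phi qa
  exact R.mul_mem (gpow_mem H.z_mem _) (R.mul_mem (R.mul_mem (gpow_mem g.ha _) (gpow_mem g.hb _))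
    (R.mul_mem (gpow_mem g.hc _) (gpow_mem g.hd _)))

/-- an element of `R` outside a small family -/
theorem exists_not_range' {ι : Type*} [Finite ι] (hlt : Nat.card ι < Nat.card R) (f : ι → G) :
    ∃ h ∈ R, ∀ t, h ≠ f t := by
  by_contra hcon
  push Not at hcon
  have hex : ∀ h : R, ∃ t, (h : G) = f t := fun h => hcon h.1 h.2
  have hinj : Function.Injective (fun h : R => Classical.choose (hex h)) := by
    intro h h' hhh
    apply Subtype.ext
    rw [Classical.choose_spec (hex h), Classical.choose_spec (hex h')]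
    exact congrArg f hhh
  have h1 := Nat.card_le_card_of_injective _ hinj
  omega

/-! ### central twists -/

theorem kap_congr {g h g' h' : G} (hiff : g * h = h * g ↔ g' * h' = h' * g') :
    kap g h = kap g' h' := by
  unfold kap
  by_cases hc : g * h = h * g
  · rw [if_pos hc, if_pos (hiff.mp hc)]
  · rw [if_neg hc, if_neg (fun h' => hc (hiff.mpr h'))]

theorem kap_mul_cen_left {T : G} (hT : ∀ g : G, g * T = T * g) (g h : G) (e : ZMod 2) :
    kap (g * gpow T e) h = kap g h := by
  rcases zmod2_cases e with rfl | rfl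
  · simp
  · simp only [gpow_one]
    apply kap_congr
    rw [mul_assoc, ← hT h, ← mul_assoc, ← mul_assoc]
    exact mul_left_inj T

theorem kap_mul_cen_right {T : G} (hT : ∀ g : G, g * T = T * g) (g h : G) (e : ZMod 2) :
    kap g (h * gpow T e) = kap g h := by
  rcases zmod2_cases e with rfl | rfl
  · simp
  · simp only [gpow_one]
    apply kap_congr
    rw [mul_assoc h, ← hT g, ← mul_assoc, ← mul_assoc]
    exact mul_left_inj T

theorem qq_mul_cen (H : WHyp R z) {T : G} (hTR : T ∈ R) (hTT : T * T = z)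
    (hT : ∀ g : G, g * T = T * g) {g : G} (hg : g ∈ R) (e : ZMod 2) :
    qq (g * gpow T e) = qq g + e := by
  rcases zmod2_cases e with rfl | rfl
  · simp
  · simp only [gpow_one]
    rw [qq_mul' H hg hTR]
    have h1 : qq T = 1 := qq_unique' H hTR 1 (by simpa using hTT)
    have h2 : kap g T = 0 := kap_eq_zero_iff.mpr (hT g)
    rw [h1, h2, add_zero]

/-! ### the homomorphism from `E64` -/

/-- projection `E64 → E32` forgetting the `t`-coordinate (not a homomorphism) -/
def proj (x : E64) : E32 := ⟨x.i, x.j, x.k, x.l, x.s⟩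

theorem proj_mul : ∀ x y : E64, proj (x * y) = gpow eZ (x.t * y.t) * (proj x * proj y) := by
  decide +kernel

theorem proj_one : proj 1 = 1 := rfl

theorem gpow_T_add {T z : G} (hTT : T * T = z) (e e' : ZMod 2) :
    gpow T (e + e') * gpow z (e * e') = gpow T e * gpow T e' := by
  rcases zmod2_cases e with rfl | rfl <;> rcases zmod2_cases e' with rfl | rfl
  · simp
  · simp
  · simp
  · have : (1 : ZMod 2) + 1 = 0 := by decide
    rw [this]; simp [hTT]

/-- the map `E64 → G` -/
def psiFun (T : G) (φ : E32 →* G) (x : E64) : G := gpow T x.t * φ (proj x)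

theorem psiFun_mul {T z : G} (hT : ∀ g : G, g * T = T * g) {φ : E32 →* G} (hφz : φ eZ = z)
    (hTT : T * T = z) (x y : E64) :
    psiFun T φ (x * y) = psiFun T φ x * psiFun T φ y := by
  unfold psiFun
  rw [proj_mul, map_mul, map_mul]
  have h1 : φ (gpow eZ (x.t * y.t)) = gpow z (x.t * y.t) := by
    rcases zmod2_cases (x.t * y.t) with h | h <;> rw [h] <;> simp [hφz]
  have h2 : (x * y).t = x.t + y.t := rfl
  rw [h1, h2]
  have h3 : ∀ (e : ZMod 2) (g : G), g * gpow T e = gpow T e * g := by
    intro e g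
    rcases zmod2_cases e with rfl | rfl
    · simp
    · simpa using hT g
  calc gpow T (x.t + y.t) * (gpow z (x.t * y.t) * (φ (proj x) * φ (proj y)))
      = (gpow T (x.t + y.t) * gpow z (x.t * y.t)) * (φ (proj x) * φ (proj y)) := by rw [mul_assoc]
    _ = (gpow T x.t * gpow T y.t) * (φ (proj x) * φ (proj y)) := by rw [gpow_T_add hTT]
    _ = gpow T x.t * φ (proj x) * (gpow T y.t * φ (proj y)) := by
        rw [mul_assoc (gpow T x.t) (φ (proj x)), ← mul_assoc (φ (proj x)), h3 y.t (φ (proj x))]
        simp only [mul_assoc]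

/-- the homomorphism `E64 →* G` -/
def psiHom {T z : G} (hT : ∀ g : G, g * T = T * g) {φ : E32 →* G} (hφz : φ eZ = z)
    (hTT : T * T = z) : E64 →* G where
  toFun := psiFun T φ
  map_one' := by
    show gpow T (0 : ZMod 2) * φ (proj 1) = 1
    rw [proj_one, map_one]; simp
  map_mul' := psiFun_mul hT hφz hTT

theorem psiHom_apply {T z : G} (hT : ∀ g : G, g * T = T * g) {φ : E32 →* G} (hφz : φ eZ = z)
    (hTT : T * T = z) (x : E64) : psiHom hT hφz hTT x = gpow T x.t * φ (proj x) := rfl

/-- The abstract recognition theorem for `4 ∘ 2^{1+4}`. -/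
theorem exists_psi_abstract [Finite G] (H : WHyp R z) (hcard : Nat.card R = 64) {T : G}
    (hTR : T ∈ R) (hTT : T * T = z) (hT : ∀ g : G, g * T = T * g)
    (hcen : ∀ g ∈ R, (∀ h ∈ R, g * h = h * g) → ∃ e e' : ZMod 2, g = gpow z e * gpow T e') :
    ∃ ψ : E64 →* G, Function.Injective ψ ∧ ψ.range = R ∧ ψ E64.fT = T := by
  -- non-central elements have a non-commuting partner
  have hpartner : ∀ g ∈ R, (∀ e e' : ZMod 2, g ≠ gpow z e * gpow T e') →
      ∃ h ∈ R, kap g h = 1 := by
    intro g hg hne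
    by_contra hcon
    push Not at hcon
    obtain ⟨e, e', he⟩ := hcen g hg (fun h hh => by
      rcases zmod2_cases (kap g h) with h0 | h0
      · exact kap_eq_zero_iff.mp h0
      · exact absurd h0 (hcon h hh))
    exact hne e e' he
  -- first pair
  obtain ⟨u, hu, huF⟩ := exists_not_range' (R := R) (ι := ZMod 2 × ZMod 2)
    (by rw [hcard, Nat.card_eq_fintype_card]; decide) (fun t => gpow z t.1 * gpow T t.2)
  obtain ⟨v, hv, huv⟩ := hpartner u hu (fun e e' => huF (e, e'))
  obtain ⟨a, ha⟩ : ∃ a, a = u * gpow T (qq u + 1) := ⟨_, rfl⟩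
  obtain ⟨b, hb⟩ : ∃ b, b = v * gpow T (qq v + 1) := ⟨_, rfl⟩
  have haR : a ∈ R := ha ▸ R.mul_mem hu (gpow_mem hTR _)
  have hbR : b ∈ R := hb ▸ R.mul_mem hv (gpow_mem hTR _)
  have hqa : qq a = 1 := by
    rw [ha, qq_mul_cen H hTR hTT hT hu]
    have := two_mul_zmod (qq u)
    linear_combination this
  have hqb : qq b = 1 := by
    rw [hb, qq_mul_cen H hTR hTT hT hv]
    have := two_mul_zmod (qq v)
    linear_combination this
  have hab : kap a b = 1 := by rw [ha, hb, kap_mul_cen_left hT, kap_mul_cen_right hT, huv]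
  -- second pair
  obtain ⟨x, hx, hxF⟩ := exists_not_range' (R := R) (ι := (ZMod 2 × ZMod 2) × (ZMod 2 × ZMod 2))
    (by rw [hcard, Nat.card_eq_fintype_card]; decide)
    (fun t => gpow z t.1.1 * gpow T t.1.2 * (gpow b t.2.1 * gpow a t.2.2)⁻¹)
  obtain ⟨c0, hc0⟩ : ∃ c0, c0 = corr a b x := ⟨_, rfl⟩
  have hc0R : c0 ∈ R := hc0 ▸ corr_mem haR hbR hx
  have hc0a : kap c0 a = 0 := hc0 ▸ kap_corr_left' H haR hbR hab hx
  have hc0b : kap c0 b = 0 := hc0 ▸ kap_corr_right' H haR hbR hab hx
  obtain ⟨y, hy, hc0y⟩ := hpartner c0 hc0R (by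
    intro e e' he
    apply hxF ((e, e'), (kap x a, kap x b))
    rw [eq_mul_inv_iff_mul_eq, ← he, hc0]
    rfl)
  obtain ⟨d0, hd0⟩ : ∃ d0, d0 = corr a b y := ⟨_, rfl⟩
  have hd0R : d0 ∈ R := hd0 ▸ corr_mem haR hbR hy
  have hd0a : kap d0 a = 0 := hd0 ▸ kap_corr_left' H haR hbR hab hy
  have hd0b : kap d0 b = 0 := hd0 ▸ kap_corr_right' H haR hbR hab hy
  have hc0d0 : kap c0 d0 = 1 := by
    rw [kap_symm' H hc0R hd0R, hd0, kap_corr' H haR hbR hy hc0R, kap_symm' H hbR hc0R,
      kap_symm' H haR hc0R, hc0a, hc0b, kap_symm' H hy hc0R, hc0y]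
    ring
  obtain ⟨c, hc⟩ : ∃ c, c = c0 * gpow T (qq c0) := ⟨_, rfl⟩
  obtain ⟨d, hd⟩ : ∃ d, d = d0 * gpow T (qq d0) := ⟨_, rfl⟩
  have hcR : c ∈ R := hc ▸ R.mul_mem hc0R (gpow_mem hTR _)
  have hdR : d ∈ R := hd ▸ R.mul_mem hd0R (gpow_mem hTR _)
  have hqc : qq c = 0 := by
    rw [hc, qq_mul_cen H hTR hTT hT hc0R]
    exact two_mul_zmod (qq c0)
  have hqd : qq d = 0 := by
    rw [hd, qq_mul_cen H hTR hTT hT hd0R]
    exact two_mul_zmod (qq d0)
  have hcd : kap c d = 1 := by rw [hc, hd, kap_mul_cen_left hT, kap_mul_cen_right hT, hc0d0]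
  have hac : kap a c = 0 := by rw [hc, kap_mul_cen_right hT, kap_symm' H haR hc0R, hc0a]
  have had : kap a d = 0 := by rw [hd, kap_mul_cen_right hT, kap_symm' H haR hd0R, hd0a]
  have hbc : kap b c = 0 := by rw [hc, kap_mul_cen_right hT, kap_symm' H hbR hc0R, hc0b]
  have hbd : kap b d = 0 := by rw [hd, kap_mul_cen_right hT, kap_symm' H hbR hd0R, hd0b]
  have gens : Gens R a b c d :=
    ⟨haR, hbR, hcR, hdR, hqa, hqb, hab, hqc, hqd, hcd, hac, had, hbc, hbd⟩
  have hrel := rel_of_gens' H gens
  obtain ⟨φ, hφ⟩ : ∃ φ, φ = phiHom hrel := ⟨_, rfl⟩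
  have hφz : φ eZ = z := hφ ▸ phiHom_eZ hrel
  have hφR : ∀ x, φ x ∈ R := fun x => hφ ▸ phi_mem' H gens x
  have hψT : psiHom hT hφz hTT E64.fT = T := by
    rw [psiHom_apply]
    show gpow T (1 : ZMod 2) * φ 1 = T
    rw [map_one]; simp
  have hψZ : psiHom hT hφz hTT E64.fZ = z := by
    rw [psiHom_apply]
    show gpow T (0 : ZMod 2) * φ eZ = z
    rw [hφz]; simp
  have hTne : T ≠ 1 := by
    intro h1
    apply H.z_ne
    rw [← hTT, h1, one_mul]
  have hTzne : T * z ≠ 1 := by
    intro h1
    apply H.z_ne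
    have h2 : T = z := by
      have := mul_eq_one_iff_eq_inv.mp h1
      rw [this]
      exact (eq_inv_of_mul_eq_one_left H.z_sq).symm
    rw [← hTT, h2, H.z_sq]
  have hinj : Function.Injective (psiHom hT hφz hTT) := by
    rw [injective_iff_map_eq_one]
    intro w hw
    rcases E64.center_or w with h1 | ⟨y', hy'⟩
    · rcases E64.isCen_cases w h1 with h2 | h2 | h2 | h2
      · exact h2
      · exfalso; rw [h2, hψT] at hw; exact hTne hw
      · exfalso; rw [h2, hψZ] at hw; exact H.z_ne hw
      · exfalso; rw [h2, map_mul, hψT, hψZ] at hw; exact hTzne hw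
    · exfalso
      have := congrArg (psiHom hT hφz hTT) hy'
      rw [map_mul, map_mul, map_mul, hw, hψZ, one_mul, mul_one] at this
      apply H.z_ne
      have h2 : z * psiHom hT hφz hTT y' = 1 * psiHom hT hφz hTT y' := by
        rw [one_mul]; exact this.symm
      exact mul_right_cancel h2
  refine ⟨psiHom hT hφz hTT, hinj, ?_, hψT⟩
  have hle : (psiHom hT hφz hTT).range ≤ R := by
    rintro _ ⟨w, rfl⟩
    rw [psiHom_apply]
    exact R.mul_mem (gpow_mem hTR _) (hφR _)
  apply Subgroup.eq_of_le_of_card_ge hle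
  rw [hcard]
  have : Nat.card (psiHom hT hφz hTT).range = Nat.card E64 :=
    (Nat.card_congr (Equiv.ofInjective _ hinj)).symm
  rw [this, Nat.card_eq_fintype_card, E64.card_eq]

end abstract

section matrix

variable {F : Type*} [Field F]

theorem sign_cases {c : F} (h : c * c = 1) : c = 1 ∨ c = -1 := by
  have : (c - 1) * (c + 1) = 0 := by linear_combination h
  rcases mul_eq_zero.mp this with h | h
  · left; linear_combination h
  · right; linear_combination h

theorem scalar_comm {g : GL (Fin 4) F} {c : F}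
    (hc : (g : Matrix (Fin 4) (Fin 4) F) = c • (1 : Matrix (Fin 4) (Fin 4) F)) (m : GL (Fin 4) F) :
    m * g = g * m := by
  apply Units.ext
  rw [Units.val_mul, Units.val_mul, hc]
  simp

theorem scalar_entry {c d : F}
    (h : c • (1 : Matrix (Fin 4) (Fin 4) F) = d • (1 : Matrix (Fin 4) (Fin 4) F)) : c = d := by
  have := congrFun (congrFun h 0) 0
  simpa using this

/-- The package statement. -/
theorem exists_psi [Finite F] (h2 : (2 : F) ≠ 0) (R : Subgroup (GL (Fin 4) F))
    (hRs : Cfsg.Geo.IsSymplecticTypeGroup 2 R)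
    (hRi : Cfsg.Geo.ActsAbsolutelyIrreducibly (Cfsg.Geo.matrixSet R))
    (hR6 : Nat.card R = 64) (hRZ : Nat.card (Subgroup.center R) = 4) :
    ∃ (ψ : E64 →* GL (Fin 4) F) (ι : F), Function.Injective ψ ∧ ψ.range = R ∧ ι * ι = -1 ∧
      ((ψ E64.fT : GL (Fin 4) F) : Matrix (Fin 4) (Fin 4) F) =
        ι • (1 : Matrix (Fin 4) (Fin 4) F) := by
  classical
  have hfin : Finite (GL (Fin 4) F) := inferInstance
  have hexp : ∀ g : R, g ^ 4 = 1 := by
    intro g
    have := Monoid.pow_exponent_eq_one g
    rwa [hRs.exponent_eq] at this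
  obtain ⟨hsq, hcm⟩ := Cfsg.Agent.Lib.Helper42_SympTypeQ.sq_comm_mem_center hRs.pGroup
    hRs.cyclic_of_characteristic hexp
  have hexp' : ∀ g ∈ R, g ^ 4 = 1 := by
    intro g hg
    have := congrArg Subtype.val (hexp ⟨g, hg⟩)
    simpa using this
  -- central elements are scalar
  have hscal : ∀ g ∈ R, (∀ h ∈ R, g * h = h * g) →
      ∃ c : F, (g : Matrix (Fin 4) (Fin 4) F) = c • (1 : Matrix (Fin 4) (Fin 4) F) := by
    intro g hg hc
    exact hRi.2 (g : Matrix (Fin 4) (Fin 4) F) (by
      rintro s ⟨h, hh, rfl⟩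
      have := congrArg (fun u : GL (Fin 4) F => (u : Matrix (Fin 4) (Fin 4) F)) (hc h hh)
      simpa using this)
  have hcenmem : ∀ c : R, c ∈ Subgroup.center R → ∀ h ∈ R, (c : GL (Fin 4) F) * h = h * c := by
    intro c hc h hh
    rw [Subgroup.mem_center_iff] at hc
    have := hc ⟨h, hh⟩
    exact (congrArg Subtype.val this).symm
  -- scalars of central elements are fourth roots of unity
  have hfour : ∀ g ∈ R, ∀ c : F,
      (g : Matrix (Fin 4) (Fin 4) F) = c • (1 : Matrix (Fin 4) (Fin 4) F) → c ^ 4 = 1 := by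
    intro g hg c hc
    have h1 := congrArg (fun u : GL (Fin 4) F => (u : Matrix (Fin 4) (Fin 4) F)) (hexp' g hg)
    simp only [Units.val_pow_eq_pow_val, Units.val_one] at h1
    rw [hc, smul_pow, one_pow] at h1
    have h3 : c ^ 4 • (1 : Matrix (Fin 4) (Fin 4) F) = (1 : F) • (1 : Matrix (Fin 4) (Fin 4) F) := by
      rw [h1, one_smul]
    exact scalar_entry h3
  -- a central element different from `±1`
  have hex : ∃ g ∈ R, (∀ h ∈ R, g * h = h * g) ∧ g ≠ 1 ∧ g ≠ -1 := by
    by_contra hcon
    push Not at hcon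
    have hall : ∀ c : Subgroup.center R, ((c : R) : GL (Fin 4) F) ≠ 1 →
        ((c : R) : GL (Fin 4) F) = -1 := by
      intro c hc1
      exact hcon _ c.1.2 (hcenmem c.1 c.2) hc1
    have hinj : Function.Injective
        (fun c : Subgroup.center R => decide (((c : R) : GL (Fin 4) F) = 1)) := by
      intro c c' hcc
      apply Subtype.ext
      apply Subtype.ext
      by_cases h1 : ((c : R) : GL (Fin 4) F) = 1
      · have h1' : ((c' : R) : GL (Fin 4) F) = 1 := by
          have : decide (((c' : R) : GL (Fin 4) F) = 1) = true := by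
            rw [← show decide (((c : R) : GL (Fin 4) F) = 1) = decide (((c' : R) : GL (Fin 4) F) = 1)
              from hcc]
            exact decide_eq_true h1
          exact of_decide_eq_true this
        rw [h1, h1']
      · have h1' : ((c' : R) : GL (Fin 4) F) ≠ 1 := by
          intro h1'
          apply h1
          have : decide (((c : R) : GL (Fin 4) F) = 1) = true := by
            rw [show decide (((c : R) : GL (Fin 4) F) = 1) = decide (((c' : R) : GL (Fin 4) F) = 1)
              from hcc]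
            exact decide_eq_true h1'
          exact of_decide_eq_true this
        rw [hall c h1, hall c' h1']
    have h3 := Nat.card_le_card_of_injective _ hinj
    rw [hRZ, Nat.card_eq_fintype_card, Fintype.card_bool] at h3
    omega
  obtain ⟨T, hTR, hTc, hT1, hTm1⟩ := hex
  obtain ⟨ι, hTι⟩ := hscal T hTR hTc
  have hι4 := hfour T hTR ι hTι
  have hι1 : ι ≠ 1 := by
    rintro rfl
    apply hT1
    apply Units.ext
    rw [hTι, one_smul]; rfl
  have hιm1 : ι ≠ -1 := by
    rintro rfl
    apply hTm1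
    apply Units.ext
    rw [hTι]; simp
  have hι : ι * ι = -1 := by
    have h5 : (ι * ι - 1) * (ι * ι + 1) = 0 := by linear_combination hι4
    rcases mul_eq_zero.mp h5 with h6 | h6
    · exfalso
      rcases sign_cases (c := ι) (by linear_combination h6) with h7 | h7
      · exact hι1 h7
      · exact hιm1 h7
    · linear_combination h6
  have hTT : T * T = -1 := by
    apply Units.ext
    rw [Units.val_mul, hTι, smul_mul_smul_comm, mul_one, hι]
    simp
  have hT : ∀ g : GL (Fin 4) F, g * T = T * g := fun g => scalar_comm hTι g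
  have hz1 : (-1 : GL (Fin 4) F) ≠ 1 := by
    intro h
    have := congrArg (fun u : GL (Fin 4) F => (u : Matrix (Fin 4) (Fin 4) F) 0 0) h
    simp at this
    apply h2
    linear_combination -this
  -- scalar elements of `R`
  have hscal4 : ∀ g : GL (Fin 4) F, ∀ d : F, d ^ 4 = 1 →
      (g : Matrix (Fin 4) (Fin 4) F) = d • (1 : Matrix (Fin 4) (Fin 4) F) →
      ∃ e e' : ZMod 2, g = gpow (-1 : GL (Fin 4) F) e * gpow T e' := by
    intro g d hd hg
    have h5 : (d * d - 1) * (d * d + 1) = 0 := by linear_combination hd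
    rcases mul_eq_zero.mp h5 with h6 | h6
    · rcases sign_cases (c := d) (by linear_combination h6) with h7 | h7
      · refine ⟨0, 0, ?_⟩
        apply Units.ext
        rw [hg, h7]; simp
      · refine ⟨1, 0, ?_⟩
        apply Units.ext
        rw [hg, h7]; simp
    · have h8 : (d - ι) * (d + ι) = 0 := by linear_combination h6 - hι
      rcases mul_eq_zero.mp h8 with h9 | h9
      · refine ⟨0, 1, ?_⟩
        apply Units.ext
        have : d = ι := by linear_combination h9
        rw [hg, this]; simp [hTι]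
      · refine ⟨1, 1, ?_⟩
        apply Units.ext
        have : d = -ι := by linear_combination h9
        rw [hg, this]; simp [hTι]
  have H : WHyp R (-1 : GL (Fin 4) F) := by
    refine ⟨?_, hz1, by simp, fun g _ => by simp, ?_, ?_⟩
    · rw [← hTT]; exact R.mul_mem hTR hTR
    · intro g hg
      have hc := hcenmem _ (hsq ⟨g, hg⟩)
      obtain ⟨c, hcc⟩ := hscal (g * g) (R.mul_mem hg hg) hc
      have h4 : (g * g) * (g * g) = 1 := by
        have := hexp' g hg
        rw [← this]; simp only [pow_succ, pow_zero, one_mul, mul_assoc]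
      have h5 := congrArg (fun u : GL (Fin 4) F => (u : Matrix (Fin 4) (Fin 4) F)) h4
      simp only [Units.val_mul, Units.val_one] at h5
      rw [← Units.val_mul, hcc, smul_mul_smul_comm, mul_one] at h5
      have h6 : (c * c) • (1 : Matrix (Fin 4) (Fin 4) F) = (1 : F) • (1 : Matrix (Fin 4) (Fin 4) F) := by
        rw [h5, one_smul]
      rcases sign_cases (scalar_entry h6) with h7 | h7
      · left
        apply Units.ext
        rw [hcc, h7]; simp
      · right
        apply Units.ext
        rw [hcc, h7]; simp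
    · intro g hg h hh
      obtain ⟨k, hk⟩ : ∃ k, k = g * h * g⁻¹ * h⁻¹ := ⟨_, rfl⟩
      have hkR : k ∈ R := hk ▸ R.mul_mem (R.mul_mem (R.mul_mem hg hh) (R.inv_mem hg)) (R.inv_mem hh)
      have hkc : ∀ m ∈ R, k * m = m * k := by
        have := hcenmem _ (hcm ⟨g, hg⟩ ⟨h, hh⟩)
        intro m hm
        rw [hk]
        exact this m hm
      obtain ⟨c, hcc⟩ := hscal k hkR hkc
      have hkall : ∀ m : GL (Fin 4) F, m * k = k * m := fun m => scalar_comm hcc m
      have hgh : g * h = k * (h * g) := by rw [hk]; group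
      have hgg := hcenmem _ (hsq ⟨g, hg⟩) h hh
      have hgg' : g * g * h = h * (g * g) := hgg
      have hkk : k * k = 1 := by
        have h1 : g * g * h = k * k * (h * (g * g)) := by
          calc g * g * h = g * (g * h) := by rw [mul_assoc]
            _ = g * (k * (h * g)) := by rw [hgh]
            _ = k * (g * h * g) := by rw [← mul_assoc g k, hkall g]; simp only [mul_assoc]
            _ = k * (k * (h * g) * g) := by rw [hgh]
            _ = k * k * (h * (g * g)) := by simp only [mul_assoc]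
        rw [hgg'] at h1
        have h3 : 1 * (h * (g * g)) = k * k * (h * (g * g)) := by rw [one_mul]; exact h1
        exact (mul_right_cancel h3).symm
      have h5 := congrArg (fun u : GL (Fin 4) F => (u : Matrix (Fin 4) (Fin 4) F)) hkk
      simp only [Units.val_mul, Units.val_one] at h5
      rw [hcc, smul_mul_smul_comm, mul_one] at h5
      have h6 : (c * c) • (1 : Matrix (Fin 4) (Fin 4) F) = (1 : F) • (1 : Matrix (Fin 4) (Fin 4) F) := by
        rw [h5, one_smul]
      rcases sign_cases (scalar_entry h6) with h7 | h7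
      · left
        have hk1 : k = 1 := by
          apply Units.ext
          rw [hcc, h7]; simp
        rw [hgh, hk1, one_mul]
      · right
        have hk1 : k = -1 := by
          apply Units.ext
          rw [hcc, h7]; simp
        rw [hgh, hk1]
  have hcen : ∀ g ∈ R, (∀ h ∈ R, g * h = h * g) →
      ∃ e e' : ZMod 2, g = gpow (-1 : GL (Fin 4) F) e * gpow T e' := by
    intro g hg hc
    obtain ⟨d, hd⟩ := hscal g hg hc
    exact hscal4 g d (hfour g hg d hd) hd
  obtain ⟨ψ, hinj, hrange, hψT⟩ := exists_psi_abstract H hR6 hTR hTT hT hcen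
  exact ⟨ψ, ι, hinj, hrange, hι, by rw [hψT]; exact hTι⟩

end matrix

end Cfsg.Agent.Lib.Helper97_S6000_REC
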