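import Mathlib
import Cfsg.Agent.Lib.Helper42_S6000Neg
import Cfsg.Agent.Lib.Helper97_S6000_REC
import Cfsg.Agent.Lib.Helper31_S6000_REFL
import Cfsg.Agent.Lib.Helper35_S6000_R2
import Cfsg.Agent.Lib.Helper35_S6000_R5
import Cfsg.Agent.Lib.Helper58_S6000_R3
import Cfsg.Agent.Lib.Helper4_S6000_TGT

/-!
# S6000, the positive cases and the assembly (helper42)
-/

set_option autoImplicit false
set_option linter.unusedSimpArgs false
set_option linter.unusedSectionVars false
open scoped MatrixGroups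
open Matrix

namespace Cfsg.Agent.Lib.Helper42_S6000Bwd

open Cfsg.Agent.Lib.Helper42_E64 Cfsg.Agent.Lib.Helper42_E64.E64 Cfsg.Agent.Lib.Helper42_ES64Mat

variable {F : Type*} [Field F]

/-- scalar multiples of normalizing elements normalize -/
theorem hscal_normalizer (R : Subgroup (GL J4 F)) :
    ∀ g ∈ Cfsg.Geo.subgroupNormalizer R, ∀ g' : GL J4 F,
      (∃ c : F, (g' : Matrix J4 J4 F) = c • (g : Matrix J4 J4 F)) →
      g' ∈ Cfsg.Geo.subgroupNormalizer R := by
  intro g hg g' ⟨c, hc⟩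
  unfold Cfsg.Geo.subgroupNormalizer at hg ⊢
  rw [Subgroup.mem_set_normalizer_iff] at hg ⊢
  intro h
  have key : g' * h * g'⁻¹ = g * h * g⁻¹ := by
    have h1 : g * h * g⁻¹ * g' = g' * h := by
      apply Units.ext
      have e1 : ((g * h * g⁻¹ * g' : GL J4 F) : Matrix J4 J4 F) =
          (g * h : GL J4 F).val * ((g⁻¹ : GL J4 F).val * g'.val) := by
        simp only [Units.val_mul, Matrix.mul_assoc]
      have e2 : ((g' * h : GL J4 F) : Matrix J4 J4 F) = g'.val * h.val := Units.val_mul _ _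
      rw [e1, e2, hc, Matrix.mul_smul, ← Units.val_mul g⁻¹ g, inv_mul_cancel, Units.val_one,
        Matrix.mul_smul, Matrix.mul_one, Matrix.smul_mul, Units.val_mul]
    rw [← h1]; group
  rw [key]
  exact hg h

theorem le_normalizer (R : Subgroup (GL J4 F)) : R ≤ Cfsg.Geo.subgroupNormalizer R := by
  intro u hu
  unfold Cfsg.Geo.subgroupNormalizer
  rw [Subgroup.mem_set_normalizer_iff]
  intro h
  simp only [SetLike.mem_coe]
  constructor
  · intro hh
    exact R.mul_mem (R.mul_mem hu hh) (R.inv_mem hu)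
  · intro hh
    have : h = u⁻¹ * (u * h * u⁻¹) * u := by group
    rw [this]
    exact R.mul_mem (R.mul_mem (R.inv_mem hu) hh) hu

section main

variable [Fintype F] {p : ℕ} [Fact p.Prime] [CharP F p]

/-- the statement S6000 from the recognition data -/
theorem main (hF : Fintype.card F = p) (hp4 : p % 4 = 1)
    (R : Subgroup (GL (Fin 4) F))
    (hRi : Cfsg.Geo.ActsAbsolutelyIrreducibly (Cfsg.Geo.matrixSet R))
    (ψ : E64 →* GL (Fin 4) F) (ι : F) (hψ : Function.Injective ψ) (hR : ψ.range = R)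
    (hι : ι * ι = -1)
    (hT : ((ψ fT : GL (Fin 4) F) : Matrix (Fin 4) (Fin 4) F) = ι • (1 : Matrix (Fin 4) (Fin 4) F))
    (r : ℕ) (hr : r.Prime)
    (hdvd : r ∣ Nat.card (Cfsg.Geo.specialLinear (Fin 4) F)) :
    (∀ x ∈ Cfsg.Geo.specialLinear (Fin 4) F,
      (∃ z : F, ((x ^ r : GL (Fin 4) F) : Matrix (Fin 4) (Fin 4) F) =
        z • (1 : Matrix (Fin 4) (Fin 4) F)) →
      (∀ z : F, (x : Matrix (Fin 4) (Fin 4) F) ≠ z • (1 : Matrix (Fin 4) (Fin 4) F)) →
      ∃ g ∈ Cfsg.Geo.specialLinear (Fin 4) F, g⁻¹ * x * g ∈ Cfsg.Geo.subgroupNormalizer R) ↔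
    (r = 2 ∨ (r = 3 ∧ p % 3 = 2) ∨ (r = 5 ∧ orderOf (p : ZMod 5) = 4)) := by
  have hp : p.Prime := Fact.out
  have hodd : Odd p := by
    rw [Nat.odd_iff]; omega
  have h2 : (2 : F) ≠ 0 := Cfsg.Agent.Lib.Helper42_S6002Fwd.two_ne_zero_of_odd (F := F) hodd
  have hp3 : p ≠ 3 := by omega
  have h3 : (3 : F) ≠ 0 := by
    intro h
    have h1 : ((3 : ℕ) : F) = 0 := by exact_mod_cast h
    rw [CharP.cast_eq_zero_iff F p] at h1
    exact hp3 ((Nat.prime_dvd_prime_iff_eq hp Nat.prime_three).mp h1)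
  have hscal := hscal_normalizer R
  constructor
  · intro H
    by_contra hcon
    push Not at hcon
    obtain ⟨hr2, hr3, hr5⟩ := hcon
    obtain ⟨x, hxS, hxr, hxns, hxg⟩ := Cfsg.Agent.Lib.Helper42_S6000Neg.forward R hRi hψ hR hι hT
      hF hp4 hr hdvd hr2 (fun h => hr3 h.1 h.2) (fun h => hr5 h.1 h.2)
    obtain ⟨g, -, hg⟩ := H x hxS hxr hxns
    exact hxg g hg
  · intro hcase x hx ⟨z, hxz⟩ hns
    rcases hcase with h | ⟨h, hp32⟩ | ⟨h, hord⟩
    · subst h
      -- involutions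
      obtain ⟨s, hsN, hs2, hstr⟩ :=
        Cfsg.Agent.Lib.Helper31_S6000_REFL.exists_reflection h2 R ψ ι hψ hR hι hT
      have huN : ψ fC ∈ Cfsg.Geo.subgroupNormalizer R :=
        le_normalizer R (by rw [← hR]; exact ⟨fC, rfl⟩)
      have hu2 : ((ψ fC : GL J4 F) : Matrix J4 J4 F) * ((ψ fC : GL J4 F) : Matrix J4 J4 F) = 1 := by
        rw [← Units.val_mul, ← map_mul]
        have : fC * fC = (1 : E64) := by decide
        rw [this, map_one, Units.val_one]
      have hutr : Matrix.trace ((ψ fC : GL J4 F) : Matrix J4 J4 F) = 0 :=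
        trace_psi_eq_zero hι hT h2 (by decide)
      have hsns : ∀ c : F, (s : Matrix J4 J4 F) ≠ c • (1 : Matrix J4 J4 F) := by
        intro c hc
        rw [hc] at hs2 hstr
        rw [Matrix.trace_smul, trace_one_J4, smul_eq_mul] at hstr
        rw [Matrix.smul_mul, Matrix.one_mul, smul_smul] at hs2
        have h00 := congrFun (congrFun hs2 0) 0
        simp only [Matrix.smul_apply, Matrix.one_apply_eq, smul_eq_mul, mul_one] at h00
        apply h3
        have h5 : (c * 4) * (c * 4) = 2 * 2 := by rw [hstr]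
        have h6 : (2 : F) * 2 * 3 = 0 := by linear_combination h5 - 16 * h00
        simpa [h2] using h6
      exact Cfsg.Agent.Lib.Helper35_S6000_R2.two_case_SL p h2 _ hscal ι hι (ψ fC) huN hu2 hutr
        s hsN hs2 hstr hsns x hx z hxz hns
    · subst h
      obtain ⟨y₁, y₂, h1N, h13, h1tr, h2N, h23, h2tr⟩ :=
        (Cfsg.Agent.Lib.Helper4_S6000_TGT.exists_targets hF hp4 R hRi ψ ι hψ hR hι hT).1 hp32
      exact Cfsg.Agent.Lib.Helper58_S6000_R3.three_case_SL hF hp32 h2 _ hscal y₁ h1N h13 h1tr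
        y₂ h2N h23 h2tr x hx z hxz hns
    · subst h
      obtain ⟨y, hyN, hy5, hy1⟩ :=
        (Cfsg.Agent.Lib.Helper4_S6000_TGT.exists_targets hF hp4 R hRi ψ ι hψ hR hι hT).2 hord
      exact Cfsg.Agent.Lib.Helper35_S6000_R5.five_case_SL hF hord _ hscal y hyN hy5 hy1
        x hx z hxz hns

end main

end Cfsg.Agent.Lib.Helper42_S6000Bwd
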