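import Mathlib
import Cfsg.Agent.Lib.Helper42_S6000Fwd
import Cfsg.Agent.Lib.Helper42_E64Pair

/-!
# No element of odd prime order modulo scalars of `N(R)` fixes a hyperplane pointwise (helper42)

Strengthening of `Helper42_S6000Fwd.master` needed for the unitary twin S6001 with `p = 3`.
-/

set_option autoImplicit false
set_option linter.unusedSimpArgs false
set_option linter.unusedSectionVars false
open scoped MatrixGroups
open Matrix

namespace Cfsg.Agent.Lib.Helper42_S6000Hyp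

open Cfsg.Agent.Lib.Helper42_E64 Cfsg.Agent.Lib.Helper42_E64.E64 Cfsg.Agent.Lib.Helper42_ES64Mat
  Cfsg.Agent.Lib.Helper42_S6000Fwd Cfsg.Agent.Lib.Helper42_E64Pair

variable {F : Type*} [Field F]

/-- singular commutators commute pairwise -/
theorem comm_of_sing (θ : E64 → E64) (hmul : ∀ x y, θ (x * y) = θ x * θ y)
    (hsing : ∀ e : E64, Sing ((θ e)⁻¹ * e)) :
    ∀ e e' : E64, ((θ e)⁻¹ * e) * ((θ e')⁻¹ * e') = ((θ e')⁻¹ * e') * ((θ e)⁻¹ * e) := by
  obtain ⟨w, hw⟩ : ∃ w : E64 → E64, ∀ e, w e = (θ e)⁻¹ * e := ⟨_, fun _ => rfl⟩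
  have hsw : ∀ e, Sing (w e) := fun e => by rw [hw]; exact hsing e
  have hcoc : ∀ e e' : E64, w (e * e') = w e' * (e'⁻¹ * w e * e') := by
    intro e e'
    simp only [hw, hmul]
    group
  intro e' e
  rw [← hw, ← hw]
  apply sing_comm _ _ (hsw e') (hsw e)
  have h1 := hsw (e * e')
  rw [hcoc] at h1
  rcases conj_cases (w e) e' with h | h
  · rw [h] at h1
    exact Or.inl h1
  · rw [h] at h1
    right
    have : w e' * (fZ * w e) = fZ * (w e' * w e) := by
      rw [← mul_assoc, fZ_central, mul_assoc]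
    rw [this] at h1
    exact h1

/-- an involution modulo the centre of odd order is trivial modulo the centre -/
theorem cen_of_sq_of_odd (Θ : E64 →* E64) (hfix : ∀ x, IsCen x → Θ x = x)
    (hsq : ∀ e, IsCen (Θ (Θ e) * e⁻¹)) {r : ℕ} (hodd : Odd r) (hiter : ∀ x, Θ^[r] x = x) :
    ∀ e, IsCen (e * (Θ e)⁻¹) := by
  have hP : ∀ k : ℕ, ∀ e, IsCen (Θ^[2 * k] e * e⁻¹) := by
    intro k
    induction k with
    | zero =>
      intro e
      simp only [Nat.mul_zero, Function.iterate_zero, id_eq, mul_inv_cancel]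
      exact isCen_one
    | succ k ih =>
      intro e
      have h1 : Θ^[2 * (k + 1)] e = Θ^[2 * k] (Θ (Θ e)) := by
        have : 2 * (k + 1) = 2 * k + 2 := by ring
        rw [this, Function.iterate_add_apply]
        rfl
      have h2 : Θ (Θ e) = (Θ (Θ e) * e⁻¹) * e := by group
      rw [h1, h2, iterate_map_mul, Function.iterate_fixed (hfix _ (hsq e))]
      have : Θ (Θ e) * e⁻¹ * Θ^[2 * k] e * e⁻¹ = (Θ (Θ e) * e⁻¹) * (Θ^[2 * k] e * e⁻¹) := by group
      rw [this]
      exact isCen_mul _ _ (hsq e) (ih e)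
  obtain ⟨k, rfl⟩ := hodd
  intro e
  have h1 : Θ (Θ^[2 * k] e) = e := by
    rw [← Function.iterate_succ_apply' (⇑Θ) (2 * k) e]
    exact hiter e
  have h2 : Θ^[2 * k] e = (Θ^[2 * k] e * e⁻¹) * e := by group
  rw [h2, map_mul, hfix _ (hP k e)] at h1
  have h3 : e * (Θ e)⁻¹ = Θ^[2 * k] e * e⁻¹ := by
    nth_rewrite 1 [← h1]
    group
  rw [h3]
  exact hP k e

section main

variable (R : Subgroup (GL J4 F))
  (hRi : Cfsg.Geo.ActsAbsolutelyIrreducibly (Cfsg.Geo.matrixSet R))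
  {ψ : E64 →* GL J4 F} (hψ : Function.Injective ψ) (hR : ψ.range = R) {ι : F} (hι : ι * ι = -1)
  (hT : ((ψ fT : GL J4 F) : Matrix J4 J4 F) = ι • (1 : Matrix J4 J4 F))
  (h2 : (2 : F) ≠ 0)

include hRi hψ hR hι hT h2 in
/-- no hyperplane-fixing element of odd prime order modulo scalars in `N(R)` -/
theorem not_fixesHyp {n : GL J4 F} (hnN : n ∈ Cfsg.Geo.subgroupNormalizer R)
    {r : ℕ} (hr : r.Prime) (hodd : Odd r) {c : F}
    (hc : ((n ^ r : GL J4 F) : Matrix J4 J4 F) = c • (1 : Matrix J4 J4 F))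
    (hns : ∀ z : F, (n : Matrix J4 J4 F) ≠ z • (1 : Matrix J4 J4 F)) : ¬ FixesHyp n := by
  classical
  intro hfh
  have hn := hn_of_mem_normalizer hR hnN
  have hz : ψ fZ = -1 := psi_fZ hι hT
  have hsing : ∀ e : E64, Sing ((theta n hn e)⁻¹ * e) := by
    intro e
    have hb : FixesHyp ((ψ e)⁻¹ * n⁻¹ * ψ e) := conj_fixesHyp (ψ e) (inv_fixesHyp hfh)
    obtain ⟨v, hv, hfix⟩ := exists_fixed_of_fixesHyp hfh hb
    have heq : ψ ((theta n hn e)⁻¹ * e) = n * ((ψ e)⁻¹ * n⁻¹ * ψ e) := by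
      rw [map_mul, map_inv, psi_theta]
      group
    rw [← heq] at hfix
    exact sing_of_fixed hz h2 hv hfix
  have hcomm := comm_of_sing (theta n hn) (theta_mul hψ n hn) hsing
  have hsq := cen_of_comm (theta n hn) (theta_mul hψ n hn) (theta_injective hψ n hn) hcomm
  let Θ : E64 →* E64 :=
    { toFun := theta n hn, map_one' := theta_one hψ n hn, map_mul' := theta_mul hψ n hn }
  have hΘ : ∀ x, Θ x = theta n hn x := fun _ => rfl
  have hσ := sigma_pow_eq_one hψ n hn hc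
  have hiter : ∀ x, Θ^[r] x = x := by
    intro x
    have h1 : (⇑Θ) = ⇑(Helper42_ES64Mat.sigma hψ n hn) := by
      funext y
      rw [hΘ, sigma_apply]
    rw [h1, Equiv.Perm.iterate_eq_pow, hσ, Equiv.Perm.one_apply]
  have hall := cen_of_sq_of_odd Θ (fun x hx => theta_cen hψ hι hT n hn hx) hsq hodd hiter
  have hid : ∀ x, theta n hn x = x := fun x => theta_eq_of_cen hψ hι hT n hn hodd hc x (hall x)
  have h64 : Fintype.card {x : E64 // Helper42_ES64Mat.sigma hψ n hn x = x} = 64 := by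
    rw [← E64.card_eq]
    exact Fintype.card_of_subtype Finset.univ (fun x => by simp [sigma_apply, hid x])
  obtain ⟨c', hc'⟩ := scalar_of_card_fix hψ n hn R hRi hR h64
  exact hns c' hc'

end main

end Cfsg.Agent.Lib.Helper42_S6000Hyp
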