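import Mathlib
import Cfsg.Agent.Lib.Helper42_S6000Target
import Cfsg.Agent.Lib.Helper40_UProj
import Cfsg.Agent.S0754

/-!
# Unitary normalizing elements of `R = ψ(E64) ≤ GU_4(p)` from automorphisms of `E64` (helper42)

The unitary version of `Helper42_S6000Target.exists_target`: the intertwiner `y0` satisfies
`y0^* y0 = d`, `d` in the prime field, so a scalar multiple is unitary, and a further scalar of
norm one gives `y ^ k = 1` when `k` is prime to `p + 1`.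
-/

set_option autoImplicit false
set_option linter.unusedSimpArgs false
set_option linter.unusedSectionVars false
open scoped MatrixGroups
open Matrix

namespace Cfsg.Agent.Lib.Helper42_S6001Target

open Cfsg.Agent.Lib.Helper42_E64 Cfsg.Agent.Lib.Helper42_E64.E64 Cfsg.Agent.Lib.Helper42_ES64Mat
  Cfsg.Agent.Lib.Helper42_S6000Target Cfsg.Agent.Lib.Helper40_UProj
  Cfsg.Agent.Lib.Helper5_GUOrder Cfsg.Agent.Lib.Helper5_SUOrder

variable {F : Type*} [Field F] [Fintype F] {p : ℕ}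

theorem ctr_sum {κ : Type*} (σ : F →+* F) (s : Finset κ) (A : κ → Matrix J4 J4 F) :
    ctr σ (∑ e ∈ s, A e) = ∑ e ∈ s, ctr σ (A e) := by
  classical
  induction s using Finset.induction_on with
  | empty => simp [ctr_zero]
  | insert a s ha ih => rw [Finset.sum_insert ha, Finset.sum_insert ha, ctr_add, ih]

/-- the conjugate transpose of a unitary element is its inverse -/
theorem ctr_eq_inv (hF : Fintype.card F = p ^ 2) {g : GL J4 F} (hg : g ∈ Cfsg.GU 4 F p) :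
    ctr (powQ hF) (g : Matrix J4 J4 F) = ((g⁻¹ : GL J4 F) : Matrix J4 J4 F) := by
  have h1 : IsUM (powQ hF) (g : Matrix J4 J4 F) :=
    isUM_of_isU (powQ hF) (fun _ => rfl) hF ((mem_GU_iff g).mp hg)
  unfold IsUM at h1
  calc ctr (powQ hF) (g : Matrix J4 J4 F)
      = ctr (powQ hF) (g : Matrix J4 J4 F) * ((g : Matrix J4 J4 F) * ((g⁻¹ : GL J4 F) : Matrix J4 J4 F)) := by
        rw [← Units.val_mul, mul_inv_cancel, Units.val_one, Matrix.mul_one]
    _ = ((g⁻¹ : GL J4 F) : Matrix J4 J4 F) := by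
        rw [← Matrix.mul_assoc, h1, Matrix.one_mul]

theorem mem_GU_of_isUM (hF : Fintype.card F = p ^ 2) {g : GL J4 F}
    (hg : IsUM (powQ hF) (g : Matrix J4 J4 F)) : g ∈ Cfsg.GU 4 F p :=
  (mem_GU_iff g).mpr (isU_of_isUM (powQ hF) (fun _ => rfl) hg)

theorem powQ_natCast (hF : Fintype.card F = p ^ 2) (m : ℕ) : ((m : F)) ^ p = (m : F) :=
  map_natCast (powQ hF) m

/-- norms are surjective onto the fixed field -/
theorem exists_norm (hF : Fintype.card F = p ^ 2) {c : F} (hc : c ≠ 0) (hcp : c ^ p = c) :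
    ∃ ν : F, ν ^ p * ν = c := by
  have h := Cfsg.Agent.S0754.result hF c hc hcp
  have hpos : 0 < Nat.card {x : F // x ^ (p + 1) = c} := by rw [h]; omega
  obtain ⟨⟨ν, hν⟩⟩ := (Nat.card_pos_iff.mp hpos).1
  exact ⟨ν, by rw [← pow_succ]; exact hν⟩

variable {ψ : E64 →* GL J4 F} {α : E64 →* E64}

/-- the adjoint of the intertwiner -/
theorem ctr_y0 (hF : Fintype.card F = p ^ 2) (hU : ∀ e, ψ e ∈ Cfsg.GU 4 F p) :
    ctr (powQ hF) (y0 ψ α) = y0' ψ α := by
  unfold y0 y0'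
  rw [ctr_sum]
  apply Finset.sum_congr rfl
  intro e _
  rw [ctr_mul, ctr_eq_inv hF (hU (α e))]
  have h1 : ((ψ e)⁻¹ : GL J4 F) ∈ Cfsg.GU 4 F p := (Cfsg.GU 4 F p).inv_mem (hU e)
  rw [ctr_eq_inv hF h1, inv_inv]

section main

variable [Fact p.Prime] [CharP F p] (hF : Fintype.card F = p ^ 2) (R : Subgroup (GL J4 F))
  (hRi : Cfsg.Geo.ActsAbsolutelyIrreducibly (Cfsg.Geo.matrixSet R))
  (hψ : Function.Injective ψ) (hR : ψ.range = R) {ι : F} (hι : ι * ι = -1)
  (hT : ((ψ fT : GL J4 F) : Matrix J4 J4 F) = ι • (1 : Matrix J4 J4 F)) (h2 : (2 : F) ≠ 0)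
  (hU : ∀ e, ψ e ∈ Cfsg.GU 4 F p)

include hF hRi hψ hR hι hT h2 hU in
open Classical in
/-- the unitary target element attached to an automorphism of odd prime order -/
theorem exists_target_U {k : ℕ} (hiter : ∀ x, α^[k] x = x)
    (hcen : ∀ x, IsCen (α x * x⁻¹) → α x = x)
    (hf0 : ((Fintype.card {x : E64 // α x = x} : ℕ) : F) ≠ 0)
    (hne : ∃ x, α x ≠ x)
    (hcop : k.Coprime (p + 1)) :
    ∃ y : GL J4 F, y ∈ Cfsg.GU 4 F p ∧ (∀ e, ψ (α e) * y = y * ψ e) ∧ y ^ k = 1 ∧ y ≠ 1 := by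
  have hp : p.Prime := Fact.out
  have h4 : (4 : F) ≠ 0 := by
    have : (4 : F) = 2 * 2 := by norm_num
    rw [this]; exact mul_ne_zero h2 h2
  have h16 : (16 : F) ≠ 0 := by
    have : (16 : F) = 4 * 4 := by norm_num
    rw [this]; exact mul_ne_zero h4 h4
  obtain ⟨f, hf⟩ : ∃ f : ℕ, f = Fintype.card {x : E64 // α x = x} := ⟨_, rfl⟩
  rw [← hf] at hf0
  obtain ⟨d, hd⟩ : ∃ d : F, d = ((64 * f : ℕ) : F) := ⟨_, rfl⟩
  have hd' : d = 16 * (4 * (f : F)) := by rw [hd]; push_cast; ring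
  have hd0 : d ≠ 0 := by rw [hd']; exact mul_ne_zero h16 (mul_ne_zero h4 hf0)
  have hdp : d ^ p = d := by rw [hd]; exact powQ_natCast hF _
  have hprod : y0' ψ α * y0 ψ α = d • (1 : Matrix J4 J4 F) := by
    rw [y0'_mul_y0, avg_eq R hRi hR h2, trace_y0 hι hT h2 hcen, hd', hf]
  -- the scalar making `y0` unitary
  have hdi0 : d⁻¹ ≠ 0 := inv_ne_zero hd0
  have hdip : (d⁻¹) ^ p = d⁻¹ := by rw [inv_pow, hdp]
  obtain ⟨ν, hν⟩ := exists_norm hF hdi0 hdip
  have hUM1 : IsUM (powQ hF) (ν • y0 ψ α) := by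
    unfold IsUM
    rw [ctr_smul, ctr_y0 hF hU, smul_mul_smul_comm, hprod, smul_smul]
    have : (powQ hF) ν * ν * d = 1 := by
      show ν ^ p * ν * d = 1
      rw [hν, inv_mul_cancel₀ hd0]
    rw [this, one_smul]
  have hleft : ctr (powQ hF) (ν • y0 ψ α) * (ν • y0 ψ α) = 1 := hUM1
  have hright : (ν • y0 ψ α) * ctr (powQ hF) (ν • y0 ψ α) = 1 := mul_eq_one_comm.mp hleft
  obtain ⟨Y, hY⟩ : ∃ Y : GL J4 F, (Y : Matrix J4 J4 F) = ν • y0 ψ α :=
    ⟨⟨ν • y0 ψ α, ctr (powQ hF) (ν • y0 ψ α), hright, hleft⟩, rfl⟩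
  have hYint : ∀ e, ψ (α e) * Y = Y * ψ e := by
    intro e
    apply Units.ext
    rw [Units.val_mul, Units.val_mul, hY, Matrix.mul_smul, Matrix.smul_mul, y0_intertwine e]
  have hYU : IsUM (powQ hF) (Y : Matrix J4 J4 F) := by rw [hY]; exact hUM1
  -- powers
  have hpow : ∀ m : ℕ, ∀ e, ψ (α^[m] e) * Y ^ m = Y ^ m * ψ e := by
    intro m
    induction m with
    | zero => intro e; simp
    | succ m ih =>
      intro e
      rw [Function.iterate_succ_apply, pow_succ, ← mul_assoc, ih, mul_assoc, hYint, ← mul_assoc]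
  obtain ⟨c, hc⟩ := hRi.2 ((Y ^ k : GL J4 F) : Matrix J4 J4 F) (by
    rintro s ⟨g, hg, rfl⟩
    rw [SetLike.mem_coe, ← hR] at hg
    obtain ⟨e, rfl⟩ := hg
    have := hpow k e
    rw [hiter] at this
    have h7 := congrArg (fun u : GL J4 F => (u : Matrix J4 J4 F)) this
    simp only [Units.val_mul] at h7
    exact h7.symm)
  -- `c` has norm one
  have hcN : c ^ p * c = 1 := by
    have h1 : IsUM (powQ hF) ((Y : Matrix J4 J4 F) ^ k) := hYU.pow k
    rw [← Units.val_pow_eq_pow_val, hc] at h1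
    unfold IsUM at h1
    rw [ctr_smul, ctr_one, smul_mul_smul_comm, Matrix.one_mul] at h1
    have h00 := congrFun (congrFun h1 0) 0
    have h01 : (powQ hF) c * c = 1 := by simpa using h00
    exact h01
  have hcpow : c ^ (p + 1) = 1 := by rw [pow_succ]; exact hcN
  -- a `k`-th root of `c⁻¹` of norm one
  obtain ⟨m, -, hm⟩ : ∃ m < p + 1, k * m % (p + 1) = 1 :=
    Nat.exists_mul_mod_eq_one_of_coprime hcop (by have := hp.two_le; omega)
  have hckm : (c ^ m) ^ k = c := by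
    rw [← pow_mul, mul_comm m k, ← Nat.div_add_mod (k * m) (p + 1), hm, pow_add, pow_mul, hcpow,
      one_pow, one_mul, pow_one]
  have hc0 : c ≠ 0 := by
    intro h
    rw [h] at hcN
    simp at hcN
  obtain ⟨μ, hμ⟩ : ∃ μ : F, μ = (c ^ m)⁻¹ := ⟨_, rfl⟩
  have hμk : μ ^ k * c = 1 := by
    rw [hμ, inv_pow, hckm, inv_mul_cancel₀ hc0]
  have hμN : (powQ hF) μ * μ = 1 := by
    show μ ^ p * μ = 1
    rw [hμ, inv_pow, ← mul_inv, ← pow_mul, mul_comm m p, pow_mul, ← mul_pow, hcN, one_pow, inv_one]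
  have hμ0 : μ ≠ 0 := by
    intro h
    rw [h] at hμN
    simp at hμN
  -- the scalar matrix of `μ`
  obtain ⟨S, hS⟩ : ∃ S : GL J4 F, (S : Matrix J4 J4 F) = μ • (1 : Matrix J4 J4 F) :=
    ⟨⟨μ • (1 : Matrix J4 J4 F), μ⁻¹ • (1 : Matrix J4 J4 F),
      by rw [Matrix.smul_mul, Matrix.one_mul, smul_smul, mul_inv_cancel₀ hμ0, one_smul],
      by rw [Matrix.smul_mul, Matrix.one_mul, smul_smul, inv_mul_cancel₀ hμ0, one_smul]⟩, rfl⟩
  have hScomm : ∀ g : GL J4 F, S * g = g * S := by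
    intro g
    apply Units.ext
    rw [Units.val_mul, Units.val_mul, hS]
    simp
  refine ⟨S * Y, ?_, ?_, ?_, ?_⟩
  · apply mem_GU_of_isUM hF
    rw [Units.val_mul, hS, Matrix.smul_mul, Matrix.one_mul]
    exact hYU.smul hμN
  · intro e
    rw [← mul_assoc, ← hScomm, mul_assoc, hYint, ← mul_assoc]
  · have hcomm : Commute S Y := hScomm Y
    rw [hcomm.mul_pow]
    apply Units.ext
    rw [Units.val_mul, hc, Units.val_pow_eq_pow_val, hS, smul_pow, one_pow, Matrix.smul_mul,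
      Matrix.one_mul, smul_smul, hμk, one_smul, Units.val_one]
  · intro h1
    obtain ⟨x, hx⟩ := hne
    apply hx
    apply hψ
    have h3 : ψ (α x) * (S * Y) = (S * Y) * ψ x := by
      rw [← mul_assoc, ← hScomm, mul_assoc, hYint, ← mul_assoc]
    rw [h1, mul_one, one_mul] at h3
    exact h3

end main

end Cfsg.Agent.Lib.Helper42_S6001Target
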