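import Mathlib
import Cfsg.Agent.Lib.Helper58_S5982Defs
import Cfsg.Agent.Lib.Helper40_UProj3
import Cfsg.Agent.Lib.Helper40_UPrimeOrder
import Cfsg.Agent.Lib.Helper40_ScalePoly

set_option autoImplicit false

/-!
Helpers for the packages D1, D3 of S5982: products of linear factors, their `udual` and the
scaled self-duality condition in terms of root multisets.
-/

namespace Cfsg.Agent.Lib.Helper68_S5982_Lin

open Polynomial Cfsg.Agent.Lib.Helper58_S5982Defs Cfsg.Agent.Lib.Helper40_UExist

universe v

variable {F : Type v} [Field F] (σ : F →+* F)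

theorem udual_X_sub_C (s : F) (hs : s ≠ 0) : udual σ (X - C s : F[X]) = X - C (σ s)⁻¹ := by
  have h := Cfsg.Agent.Lib.Helper40_UProj3.udual_X_pow_sub_C σ 1 one_pos s hs
  rwa [pow_one] at h

theorem udual_multiset_prod (M : Multiset F[X]) : udual σ M.prod = (M.map (udual σ)).prod := by
  induction M using Multiset.induction_on with
  | empty =>
    rw [Multiset.prod_zero, Multiset.map_zero, Multiset.prod_zero]
    exact Cfsg.Agent.Lib.Helper40_UPrimeOrder.udual_one σ
  | cons a M ih =>
    rw [Multiset.prod_cons, udual_mul, ih, Multiset.map_cons, Multiset.prod_cons]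

theorem udual_prod_X_sub_C (M : Multiset F) (h0 : ∀ a ∈ M, a ≠ 0) :
    udual σ (M.map (fun a => X - C a)).prod = (M.map (fun a => X - C (σ a)⁻¹)).prod := by
  rw [udual_multiset_prod, Multiset.map_map]
  congr 1
  apply Multiset.map_congr rfl
  intro a ha
  exact udual_X_sub_C σ a (h0 a ha)

theorem scaleRoots_prod_X_sub_C' (M : Multiset F) (s : F) :
    ((M.map (fun a => X - C a)).prod).scaleRoots s = (M.map (fun a => X - C (a * s))).prod := by
  induction M using Multiset.induction_on with
  | empty => simp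
  | cons a M ih =>
    rw [Multiset.map_cons, Multiset.prod_cons, Multiset.map_cons, Multiset.prod_cons,
      mul_scaleRoots_of_noZeroDivisors, ih]
    congr 1
    have h := Cfsg.Agent.Lib.Helper40_ScalePoly.scaleRoots_X_pow_sub_C (K := F) 1 one_pos a s
    rw [pow_one, pow_one] at h
    exact h

/-- scaled self-duality of a product of linear factors in terms of the multiset of roots -/
theorem multiset_of_ssd (M : Multiset F) (h0 : ∀ a ∈ M, a ≠ 0)
    (h : SSD σ (M.map (fun a => X - C a)).prod) :
    ∃ μ : F, μ ≠ 0 ∧ (M.map (fun a => a * μ)).map (fun b => (σ b)⁻¹) = M.map (fun a => a * μ) := by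
  classical
  obtain ⟨μ, hμ, hd⟩ := h
  refine ⟨μ, hμ, ?_⟩
  rw [scaleRoots_prod_X_sub_C'] at hd
  have h1 : (M.map (fun a => X - C (a * μ))).prod =
      ((M.map (fun a => a * μ)).map (fun b => X - C b)).prod := by
    simp only [Multiset.map_map, Function.comp_def]
  rw [h1, udual_prod_X_sub_C σ] at hd
  · have h2 : ((M.map (fun a => a * μ)).map (fun b => X - C (σ b)⁻¹)).prod =
        (((M.map (fun a => a * μ)).map (fun b => (σ b)⁻¹)).map (fun b => X - C b)).prod := by
      simp only [Multiset.map_map, Function.comp_def]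
    rw [h2] at hd
    have h3 := congrArg Polynomial.roots hd
    rwa [roots_multiset_prod_X_sub_C, roots_multiset_prod_X_sub_C] at h3
  · intro b hb
    rw [Multiset.mem_map] at hb
    obtain ⟨a, ha, rfl⟩ := hb
    exact mul_ne_zero (h0 a ha) hμ

/-- an invariant multiset: multiplicities are preserved by `b ↦ (σ b)⁻¹` -/
theorem count_of_invariant [DecidableEq F] (M' : Multiset F)
    (h : M'.map (fun b => (σ b)⁻¹) = M') (b : F) :
    M'.count ((σ b)⁻¹) = M'.count b := by
  have hinj : Function.Injective (fun b : F => (σ b)⁻¹) := by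
    intro x y hxy
    exact σ.injective (inv_injective hxy)
  conv_lhs => rw [← h]
  exact Multiset.count_map_eq_count' _ _ hinj b

/-- admissibility of a product of linear factors -/
theorem adm_of_multiset (n r : ℕ) (M : Multiset F) (hcard : Multiset.card M = n)
    (hprod : M.prod = 1) (z : F) (hz0 : z ≠ 0) (hz : ∀ a ∈ M, a ^ r = z)
    (a b : F) (ha : a ∈ M) (hb : b ∈ M) (hab : a ≠ b) :
    Adm n r (M.map (fun a => X - C a)).prod := by
  classical
  refine ⟨monic_multiset_prod_of_monic _ _ (fun a _ => monic_X_sub_C a), ?_, ?_, ⟨z, hz0, ?_⟩, ?_⟩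
  · rw [natDegree_multiset_prod_X_sub_C_eq_card, hcard]
  · rw [coeff_zero_eq_eval_zero, eval_multiset_prod, Multiset.map_map]
    have h1 : (M.map (eval 0 ∘ fun a => X - C a)) = (M.map Neg.neg) := by
      apply Multiset.map_congr rfl
      intro a _
      simp
    rw [h1, Multiset.prod_map_neg, hcard, hprod, mul_one]
  · intro g hg hgc
    obtain ⟨f, hf, hgf⟩ := hg.prime.exists_mem_multiset_dvd hgc
    rw [Multiset.mem_map] at hf
    obtain ⟨d, hd, rfl⟩ := hf
    apply hgf.trans
    have h2 := sub_dvd_pow_sub_pow (X : F[X]) (C d) r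
    rwa [← C_pow, hz d hd] at h2
  · intro d hd
    have h3 := congrArg Polynomial.roots hd
    rw [roots_multiset_prod_X_sub_C, roots_pow, roots_X_sub_C] at h3
    have hmem : ∀ x ∈ M, x = d := by
      intro x hx
      rw [h3] at hx
      rw [Multiset.mem_nsmul] at hx
      exact Multiset.mem_singleton.1 hx.2
    exact hab ((hmem a ha).trans (hmem b hb).symm)

/-- `σ` fixes `r`-th roots of unity when `r ∣ q₀ - 1` -/
theorem sigma_fix {q₀ : ℕ} (hσq : ∀ x, σ x = x ^ q₀) (q₀pos : 0 < q₀) (r : ℕ) (hrq : r ∣ q₀ - 1) (l : F) (hl : l ^ r = 1) :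
    σ l = l := by
  obtain ⟨k, hk⟩ := hrq
  have h1 : q₀ = r * k + 1 := by omega
  rw [hσq, h1, pow_succ, pow_mul, hl, one_pow, one_mul]

/-- an `r`-th root of unity with `l * l = 1`, `r` odd, is `1` -/
theorem eq_one_of_sq (r : ℕ) (hodd : Odd r) (l : F) (hl : l ^ r = 1) (h2 : l * l = 1) : l = 1 := by
  obtain ⟨k, hk⟩ := hodd
  rw [hk, pow_succ, pow_mul, sq, h2, one_pow, one_mul] at hl
  exact hl

end Cfsg.Agent.Lib.Helper68_S5982_Lin
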