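import Mathlib
import Cfsg.Prelude.Def_GeometricClasses
import Cfsg.Prelude.Def_LieClassical
import Cfsg.Agent.Lib.Helper58_S6000_R3
import Cfsg.Agent.Lib.Helper58_S6001_UCONJ
import Cfsg.Agent.Lib.Helper40_UClasses
import Cfsg.Agent.Lib.Helper68_S5982_Lin
import Cfsg.Agent.Lib.Helper5_SUOrder

/-!
# S6001 package UR3 (helper58, for helper42)

Elements of order 3 of `GU_4(p)`, `p ≡ 1 mod 3`: the characteristic polynomial is self-dual, the
two primitive cube roots of unity lie in the prime field and are swapped by the duality, so the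
characteristic polynomial is `Φ₃ ^ 2` or `(X - 1) ^ 2 * Φ₃`, the trace is `-2` or `1`, and the
`SU_4`-conjugacy statement.
-/

set_option autoImplicit false
set_option linter.unusedVariables false
set_option linter.style.haveILetI false
set_option linter.unusedSimpArgs false
open scoped MatrixGroups
open Matrix Polynomial

namespace Cfsg.Agent.Lib.Helper58_S6001_UR3

open Cfsg.Agent.Lib.Helper40_SemisimpleGL Cfsg.Agent.Lib.Helper40_UExist
  Cfsg.Agent.Lib.Helper58_S6000_R3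

section aux

variable {F : Type*} [Field F]

theorem three_ne_zero_of_mod' {p : ℕ} [Fact p.Prime] [CharP F p] (hp3 : p % 3 = 1) :
    (3 : F) ≠ 0 := by
  intro h
  have h1 : ((3 : ℕ) : F) = 0 := by exact_mod_cast h
  rw [CharP.cast_eq_zero_iff F p 3] at h1
  have hp : p.Prime := Fact.out
  have : p = 3 := (Nat.prime_dvd_prime_iff_eq hp (by norm_num)).1 h1
  omega

theorem two_ne_zero_of_mod {p : ℕ} [Fact p.Prime] [CharP F p] (hp4 : p % 4 = 3) :
    (2 : F) ≠ 0 := by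
  intro h
  have h1 : ((2 : ℕ) : F) = 0 := by exact_mod_cast h
  rw [CharP.cast_eq_zero_iff F p 2] at h1
  have hp : p.Prime := Fact.out
  have : p = 2 := (Nat.prime_dvd_prime_iff_eq hp (by norm_num)).1 h1
  omega

/-- a primitive cube root of unity fixed by the Frobenius `x ↦ x ^ p` -/
theorem exists_omega [Fintype F] {p : ℕ} (hF : Fintype.card F = p ^ 2) (hp3 : p % 3 = 1) :
    ∃ ω : F, ω ^ 2 + ω + 1 = 0 ∧ ω ^ p = ω := by
  classical
  obtain ⟨k, hk⟩ : ∃ k, p = 3 * k + 1 := ⟨p / 3, by omega⟩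
  haveI : Fact (Nat.Prime 3) := ⟨by norm_num⟩
  have hdvd : 3 ∣ Fintype.card Fˣ := by
    rw [Fintype.card_units, hF, hk]
    refine ⟨3 * k ^ 2 + 2 * k, ?_⟩
    apply Nat.sub_eq_of_eq_add
    ring
  obtain ⟨w, hw⟩ := exists_prime_orderOf_dvd_card 3 hdvd
  have hw3 : w ^ 3 = 1 := by rw [← hw]; exact pow_orderOf_eq_one w
  have hw1 : w ≠ 1 := by
    intro h
    rw [h, orderOf_one] at hw
    omega
  have hw3' : (w : F) ^ 3 = 1 := by
    have := congrArg Units.val hw3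
    simpa using this
  have hw1' : (w : F) ≠ 1 := by
    intro h
    apply hw1
    ext
    simpa using h
  refine ⟨(w : F), ?_, ?_⟩
  · have h : ((w : F) - 1) * ((w : F) ^ 2 + (w : F) + 1) = 0 := by
      linear_combination hw3'
    rcases mul_eq_zero.1 h with h | h
    · exact absurd (sub_eq_zero.1 h) hw1'
    · exact h
  · rw [hk, pow_succ, pow_mul, hw3', one_pow, one_mul]

theorem cyc3_factor (ω : F) (hω : ω ^ 2 + ω + 1 = 0) :
    cyclotomic 3 F = (X - C ω) * (X - C (ω ^ 2)) := by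
  have hC : (C ω : F[X]) ^ 2 + C ω + 1 = 0 := by
    have := congrArg (C : F → F[X]) hω
    simpa using this
  rw [cyclotomic_three, C_pow]
  linear_combination (X + 1 - C ω) * hC

theorem rootMult_pair (u v : F) (huv : u ≠ v) (m n : ℕ) :
    rootMultiplicity u ((X - C u) ^ m * (X - C v) ^ n) = m := by
  have h0 : (X - C u) ^ m * (X - C v) ^ n ≠ 0 :=
    mul_ne_zero (pow_ne_zero _ (X_sub_C_ne_zero u)) (pow_ne_zero _ (X_sub_C_ne_zero v))
  rw [rootMultiplicity_mul h0, rootMultiplicity_X_sub_C_pow, rootMultiplicity_eq_zero, add_zero]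
  rw [IsRoot.def, eval_pow, eval_sub, eval_X, eval_C]
  exact pow_ne_zero _ (sub_ne_zero.2 huv)

/-- the characteristic polynomial of an element of order 3 of `M_4(F)` with self-dual
characteristic polynomial, when the duality swaps the two primitive cube roots of unity -/
theorem charpoly_of_selfdual (σ : F →+* F) (ω : F) (hω : ω ^ 2 + ω + 1 = 0) (hσω : σ ω = ω)
    (h3F : (3 : F) ≠ 0)
    (A : Matrix (Fin 4) (Fin 4) F) (h3 : A ^ 3 = 1) (h1 : A ≠ 1)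
    (hsd : udual σ A.charpoly = A.charpoly) :
    A.charpoly = cyclotomic 3 F ^ 2 ∨ A.charpoly = (X - 1) ^ 2 * cyclotomic 3 F := by
  have hω3 : ω ^ 3 = 1 := by linear_combination (ω - 1) * hω
  have hω1 : ω ≠ 1 := by
    intro h
    rw [h] at hω
    apply h3F
    linear_combination hω
  have hω0 : ω ≠ 0 := by
    intro h
    rw [h] at hω3
    simp at hω3
  have hω2ω : ω ^ 2 ≠ ω := by
    intro h
    have : ω * (ω - 1) = 0 := by linear_combination h
    rcases mul_eq_zero.1 this with h' | h'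
    · exact hω0 h'
    · exact hω1 (sub_eq_zero.1 h')
  have hω21 : ω ^ 2 ≠ 1 := by
    intro h
    apply hω1
    have : ω * ω ^ 2 = 1 := by rw [← hω3]; ring
    rw [h, mul_one] at this
    exact this
  have hωinv : ω⁻¹ = ω ^ 2 := by
    rw [inv_eq_iff_eq_inv, eq_comm, inv_eq_of_mul_eq_one_left]
    rw [← hω3]; ring
  have hω2inv : (ω ^ 2)⁻¹ = ω := by
    rw [← hωinv, inv_inv]
  have hQ := cyc3_factor ω hω
  haveI : Fact (Nat.Prime 3) := ⟨by norm_num⟩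
  have hfac : (X - C ω) * (X - C (ω ^ 2)) * (X - C 1) = (X : F[X]) ^ 3 - 1 := by
    rw [← hQ, C_1]
    exact cyclotomic_prime_mul_X_sub_one F 3
  have haev : aeval A ((X : F[X]) ^ 3 - 1) = 0 := by
    rw [map_sub, map_pow, aeval_X, map_one, h3, sub_self]
  have hcm : A.charpoly.Monic := Matrix.charpoly_monic A
  have hcd : A.charpoly.natDegree = 4 := by
    rw [Matrix.charpoly_natDegree_eq_dim]; simp
  have hc0 : A.charpoly ≠ 0 := hcm.ne_zero
  -- extract the powers of `X - 1` and of `X - ω`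
  obtain ⟨c₁, hc₁, hnd₁⟩ := exists_eq_pow_rootMultiplicity_mul_and_not_dvd A.charpoly hc0 (1 : F)
  obtain ⟨a, ha⟩ : ∃ a : ℕ, a = rootMultiplicity (1 : F) A.charpoly := ⟨_, rfl⟩
  rw [← ha] at hc₁
  have hc₁m : c₁.Monic :=
    ((monic_X_sub_C (1 : F)).pow a).of_mul_monic_left (by rw [← hc₁]; exact hcm)
  obtain ⟨c₂, hc₂, hnd₂⟩ := exists_eq_pow_rootMultiplicity_mul_and_not_dvd c₁ hc₁m.ne_zero ω
  obtain ⟨b₁, hb₁⟩ : ∃ b₁ : ℕ, b₁ = rootMultiplicity ω c₁ := ⟨_, rfl⟩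
  rw [← hb₁] at hc₂
  have hc₂m : c₂.Monic :=
    ((monic_X_sub_C ω).pow b₁).of_mul_monic_left (by rw [← hc₂]; exact hc₁m)
  have hc₂c₁ : c₂ ∣ c₁ := ⟨(X - C ω) ^ b₁, by rw [hc₂]; ring⟩
  have hc₁c : c₁ ∣ A.charpoly := ⟨(X - C 1) ^ a, by rw [hc₁]; ring⟩
  have hall : ∀ f, Irreducible f → f ∣ c₂ → f ∣ (X - C (ω ^ 2) : F[X]) := by
    intro f hf hfc
    have h4 : f ∣ A.charpoly := hfc.trans (hc₂c₁.trans hc₁c)
    have h5 : f ∣ X ^ 3 - 1 :=
      Cfsg.Agent.Lib.Helper40_PrimeOrderClasses.dvd_of_irreducible_of_dvd_charpoly A _ haev f hf h4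
    rw [← hfac] at h5
    rcases hf.prime.dvd_or_dvd h5 with h6 | h6
    · rcases hf.prime.dvd_or_dvd h6 with h7 | h7
      · exfalso
        have h8 : Associated f (X - C ω) := hf.associated_of_dvd (irreducible_X_sub_C ω) h7
        exact hnd₂ (h8.symm.dvd.trans hfc)
      · exact h7
    · exfalso
      have h8 : Associated f (X - C 1) := hf.associated_of_dvd (irreducible_X_sub_C 1) h6
      exact hnd₁ (h8.symm.dvd.trans (hfc.trans hc₂c₁))
  obtain ⟨b₂, hb₂⟩ := Cfsg.Agent.Lib.Helper40_PGLInvol.eq_pow_of_forall_irreducible_dvd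
    (X - C (ω ^ 2)) (monic_X_sub_C _) (irreducible_X_sub_C _) c₂.natDegree c₂ hc₂m rfl hall
  have hform : A.charpoly =
      (X - C 1) ^ a * ((X - C ω) ^ b₁ * (X - C (ω ^ 2)) ^ b₂) := by
    rw [hc₁, hc₂, hb₂]
  have hdeg : a + b₁ + b₂ = 4 := by
    have h8 : A.charpoly.natDegree = a * 1 + (b₁ * 1 + b₂ * 1) := by
      rw [hform, ((monic_X_sub_C (1 : F)).pow a).natDegree_mul
        (((monic_X_sub_C ω).pow b₁).mul ((monic_X_sub_C (ω ^ 2)).pow b₂)),
        ((monic_X_sub_C ω).pow b₁).natDegree_mul ((monic_X_sub_C (ω ^ 2)).pow b₂),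
        (monic_X_sub_C (1 : F)).natDegree_pow, (monic_X_sub_C ω).natDegree_pow,
        (monic_X_sub_C (ω ^ 2)).natDegree_pow, natDegree_X_sub_C, natDegree_X_sub_C,
        natDegree_X_sub_C]
    rw [hcd] at h8
    omega
  -- the dual
  have hdual : udual σ A.charpoly =
      (X - C 1) ^ a * ((X - C (ω ^ 2)) ^ b₁ * (X - C ω) ^ b₂) := by
    rw [hform, udual_mul, udual_mul, Cfsg.Agent.Lib.Helper40_UPrimeOrder.udual_pow,
      Cfsg.Agent.Lib.Helper40_UPrimeOrder.udual_pow,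
      Cfsg.Agent.Lib.Helper40_UPrimeOrder.udual_pow,
      Cfsg.Agent.Lib.Helper68_S5982_Lin.udual_X_sub_C σ 1 one_ne_zero,
      Cfsg.Agent.Lib.Helper68_S5982_Lin.udual_X_sub_C σ ω hω0,
      Cfsg.Agent.Lib.Helper68_S5982_Lin.udual_X_sub_C σ (ω ^ 2) (pow_ne_zero 2 hω0),
      map_one, inv_one, map_pow, hσω, hωinv, hω2inv]
  have hbb : b₁ = b₂ := by
    have h9 : (X - C 1 : F[X]) ^ a * ((X - C (ω ^ 2)) ^ b₁ * (X - C ω) ^ b₂) =
        (X - C 1) ^ a * ((X - C ω) ^ b₁ * (X - C (ω ^ 2)) ^ b₂) := by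
      rw [← hdual, ← hform, hsd]
    have h10 := mul_left_cancel₀ (pow_ne_zero a (X_sub_C_ne_zero (1 : F))) h9
    have h11 := congrArg (rootMultiplicity ω) h10
    rw [mul_comm ((X - C (ω ^ 2)) ^ b₁), rootMult_pair ω (ω ^ 2) (Ne.symm hω2ω),
      rootMult_pair ω (ω ^ 2) (Ne.symm hω2ω)] at h11
    exact h11.symm
  subst hbb
  have hform' : A.charpoly = (X - 1) ^ a * cyclotomic 3 F ^ b₁ := by
    rw [hform, hQ, mul_pow, C_1]
  have hb2 : b₁ ≤ 2 := by omega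
  interval_cases b₁
  · exfalso
    have ha4 : a = 4 := by omega
    apply h1
    apply Cfsg.Agent.Lib.Helper40_PrimeOrderClasses.eq_one_of_isSS_of_charpoly A
    · exact isSS_of_pow_eq_one A 3 (by exact_mod_cast h3F) h3
    · rw [hform', ha4, pow_zero, mul_one]
  · right
    have ha2 : a = 2 := by omega
    rw [hform', ha2, pow_one]
  · left
    have ha0 : a = 0 := by omega
    rw [hform', ha0, pow_zero, one_mul]

/-- the characteristic polynomial of an element of order 3 of `GU_4(p)`, `p ≡ 1 mod 3` -/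
theorem charpoly_of_order3_U [Fintype F] {p : ℕ} [Fact p.Prime] [CharP F p]
    (hF : Fintype.card F = p ^ 2) (hp3 : p % 3 = 1)
    (A : Matrix (Fin 4) (Fin 4) F) (hU : Cfsg.Agent.Lib.Helper5_GUOrder.IsU 4 p A) (h3 : A ^ 3 = 1) (h1 : A ≠ 1) :
    A.charpoly = cyclotomic 3 F ^ 2 ∨ A.charpoly = (X - 1) ^ 2 * cyclotomic 3 F := by
  obtain ⟨σ, hσq, hσ⟩ := Cfsg.Agent.Lib.Helper94_HermBridge.exists_frob hF
  obtain ⟨ω, hω, hωp⟩ := exists_omega hF hp3
  exact charpoly_of_selfdual σ ω hω (by rw [hσq, hωp]) (three_ne_zero_of_mod' hp3) A h3 h1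
    (Cfsg.Agent.Lib.Helper40_UClasses.udual_charpoly_of_isU σ hσq hF hσ A hU)

theorem charpoly_eq_of_trace_eq_U [Fintype F] {p : ℕ} [Fact p.Prime] [CharP F p]
    (hF : Fintype.card F = p ^ 2) (hp3 : p % 3 = 1)
    (A B : Matrix (Fin 4) (Fin 4) F) (hAU : Cfsg.Agent.Lib.Helper5_GUOrder.IsU 4 p A) (hBU : Cfsg.Agent.Lib.Helper5_GUOrder.IsU 4 p B)
    (hA3 : A ^ 3 = 1) (hA1 : A ≠ 1) (hB3 : B ^ 3 = 1)
    (hB1 : B ≠ 1) (ht : Matrix.trace A = Matrix.trace B) : A.charpoly = B.charpoly := by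
  have h3 : (3 : F) ≠ 0 := three_ne_zero_of_mod' hp3
  rcases charpoly_of_order3_U hF hp3 A hAU hA3 hA1 with hA | hA <;>
  rcases charpoly_of_order3_U hF hp3 B hBU hB3 hB1 with hB | hB
  · rw [hA, hB]
  · exfalso
    rw [trace_of_charpoly_sq A hA, trace_of_charpoly_mix B hB] at ht
    apply h3
    linear_combination -ht
  · exfalso
    rw [trace_of_charpoly_mix A hA, trace_of_charpoly_sq B hB] at ht
    apply h3
    linear_combination ht
  · rw [hA, hB]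

theorem coe_pow_three (g : GL (Fin 4) F) (h : g ^ 3 = 1) :
    (g : Matrix (Fin 4) (Fin 4) F) ^ 3 = 1 := by
  have := congrArg (fun g : GL (Fin 4) F => (g : Matrix (Fin 4) (Fin 4) F)) h
  simpa using this

theorem coe_ne_one (g : GL (Fin 4) F) (h : g ≠ 1) : (g : Matrix (Fin 4) (Fin 4) F) ≠ 1 := by
  intro h'
  apply h
  ext i j
  rw [h']
  rfl

end aux

theorem trace_of_order3_U {F : Type*} [Field F] [Fintype F] {p : ℕ} [Fact p.Prime] [CharP F p]
    (hF : Fintype.card F = p ^ 2) (hp4 : p % 4 = 3) (hp3 : p % 3 = 1)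
    (A : GL (Fin 4) F) (hA : A ∈ Cfsg.GU 4 F p) (h3 : A ^ 3 = 1) (h1 : A ≠ 1) :
    Matrix.trace (A : Matrix (Fin 4) (Fin 4) F) = -2 ∨
      Matrix.trace (A : Matrix (Fin 4) (Fin 4) F) = 1 := by
  rcases charpoly_of_order3_U hF hp3 (A : Matrix (Fin 4) (Fin 4) F) hA (coe_pow_three A h3)
    (coe_ne_one A h1) with h | h
  · exact Or.inl (trace_of_charpoly_sq _ h)
  · exact Or.inr (trace_of_charpoly_mix _ h)

/-- conjugating a scalar multiple of an element of order 3 of `GU_4(p)` into `N` -/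
theorem key_U {F : Type*} [Field F] [Fintype F] {p : ℕ} [Fact p.Prime] [CharP F p]
    (hF : Fintype.card F = p ^ 2) (hp3 : p % 3 = 1) (N : Subgroup (GL (Fin 4) F))
    (hscal : ∀ g ∈ N, ∀ g' : GL (Fin 4) F, (∃ c : F, (g' : Matrix (Fin 4) (Fin 4) F) =
      c • (g : Matrix (Fin 4) (Fin 4) F)) → g' ∈ N)
    (y : GL (Fin 4) F) (hyN : y ∈ N) (hyU : y ∈ Cfsg.GU 4 F p) (hy3 : y ^ 3 = 1) (hy1 : y ≠ 1)
    (x x' : GL (Fin 4) F) (μ : F)
    (hxX : (x : Matrix (Fin 4) (Fin 4) F) = μ • (x' : Matrix (Fin 4) (Fin 4) F))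
    (hx'U : x' ∈ Cfsg.GU 4 F p) (hX3 : x' ^ 3 = 1) (hX1 : x' ≠ 1)
    (htr : Matrix.trace (x' : Matrix (Fin 4) (Fin 4) F) =
      Matrix.trace (y : Matrix (Fin 4) (Fin 4) F)) :
    ∃ g ∈ Cfsg.GU 4 F p ⊓ Cfsg.Geo.specialLinear (Fin 4) F, g⁻¹ * x * g ∈ N := by
  have hp : p.Prime := Fact.out
  have hp3' : p ≠ 3 := by omega
  have hcop : Nat.Coprime 3 p := (Nat.coprime_primes (by norm_num) hp).2 (Ne.symm hp3')
  haveI : Fact (Nat.Prime 3) := ⟨by norm_num⟩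
  have hox : orderOf x' = 3 := orderOf_eq_prime hX3 hX1
  have hoy : orderOf y = 3 := orderOf_eq_prime hy3 hy1
  have hc : (x' : Matrix (Fin 4) (Fin 4) F).charpoly = (y : Matrix (Fin 4) (Fin 4) F).charpoly :=
    charpoly_eq_of_trace_eq_U hF hp3 _ _ hx'U hyU (coe_pow_three x' hX3) (coe_ne_one x' hX1)
      (coe_pow_three y hy3) (coe_ne_one y hy1) htr
  obtain ⟨g, hg, hgxy⟩ := Cfsg.Agent.Lib.Helper58_S6001_UCONJ.exists_SU_conj hF x' y hx'U hyU
    (by rw [hox]; exact hcop) (by rw [hoy]; exact hcop) hc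
  refine ⟨g, hg, ?_⟩
  apply hscal y hyN
  refine ⟨μ, ?_⟩
  rw [← hgxy, Units.val_mul, Units.val_mul, Units.val_mul, Units.val_mul, hxX, Matrix.mul_smul,
    Matrix.smul_mul]

theorem three_case_SU {F : Type*} [Field F] [Fintype F] {p : ℕ} [Fact p.Prime] [CharP F p]
    (hF : Fintype.card F = p ^ 2) (hp4 : p % 4 = 3) (hp3 : p % 3 = 1)
    (N : Subgroup (GL (Fin 4) F))
    (hscal : ∀ g ∈ N, ∀ g' : GL (Fin 4) F, (∃ c : F, (g' : Matrix (Fin 4) (Fin 4) F) =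
      c • (g : Matrix (Fin 4) (Fin 4) F)) → g' ∈ N)
    (y₁ : GL (Fin 4) F) (h1N : y₁ ∈ N) (h1U : y₁ ∈ Cfsg.GU 4 F p) (h13 : y₁ ^ 3 = 1)
    (h1tr : Matrix.trace (y₁ : Matrix (Fin 4) (Fin 4) F) = -2)
    (y₂ : GL (Fin 4) F) (h2N : y₂ ∈ N) (h2U : y₂ ∈ Cfsg.GU 4 F p) (h23 : y₂ ^ 3 = 1)
    (h2tr : Matrix.trace (y₂ : Matrix (Fin 4) (Fin 4) F) = 1)
    (x : GL (Fin 4) F) (hx : x ∈ Cfsg.GU 4 F p ⊓ Cfsg.Geo.specialLinear (Fin 4) F) (z : F)
    (hxz : ((x ^ 3 : GL (Fin 4) F) : Matrix (Fin 4) (Fin 4) F) = z • (1 : Matrix (Fin 4) (Fin 4) F))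
    (hns : ∀ c : F, (x : Matrix (Fin 4) (Fin 4) F) ≠ c • (1 : Matrix (Fin 4) (Fin 4) F)) :
    ∃ g ∈ Cfsg.GU 4 F p ⊓ Cfsg.Geo.specialLinear (Fin 4) F, g⁻¹ * x * g ∈ N := by
  have hp : p.Prime := Fact.out
  have hp0 : p ≠ 0 := hp.ne_zero
  have h3 : (3 : F) ≠ 0 := three_ne_zero_of_mod' hp3
  have h2 : (2 : F) ≠ 0 := two_ne_zero_of_mod hp4
  have hxU : x ∈ Cfsg.GU 4 F p := (Subgroup.mem_inf.1 hx).1
  -- the norm of `z` is one
  have hzU : Cfsg.Agent.Lib.Helper5_GUOrder.IsU 4 p (z • (1 : Matrix (Fin 4) (Fin 4) F)) := by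
    rw [← hxz]
    exact (Cfsg.GU 4 F p).pow_mem hxU 3
  have hzz : z * z ^ p = 1 := by
    have h := hzU (Pi.single 0 1) (Pi.single 0 1)
    rw [Matrix.smul_mulVec, Matrix.one_mulVec, Cfsg.Agent.Lib.Helper13_Herm.hermForm_smul_left,
      Cfsg.Agent.Lib.Helper13_Herm.hermForm_smul_right,
      Cfsg.Agent.Lib.Helper13_Herm.hermForm_single_left, Pi.single_eq_same, one_pow, mul_one]
      at h
    exact h
  have hz : z ≠ 0 := by
    intro h
    rw [h, zero_mul] at hzz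
    exact zero_ne_one hzz
  have hzp1 : z ^ (p + 1) = 1 := by
    rw [pow_succ, mul_comm]; exact hzz
  -- a cube root of `z` of norm one
  have hcop : Nat.Coprime 3 (p + 1) := by
    rw [Nat.Prime.coprime_iff_not_dvd (by norm_num)]
    omega
  obtain ⟨m, -, hm⟩ := Nat.exists_mul_mod_eq_one_of_coprime hcop (by have := hp.two_le; omega)
  obtain ⟨μ, hμdef⟩ : ∃ μ : F, μ = z ^ m := ⟨_, rfl⟩
  have hμ3 : μ ^ 3 = z := by
    have h := Nat.div_add_mod (3 * m) (p + 1)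
    rw [hm] at h
    rw [hμdef, ← pow_mul, mul_comm m 3, ← h, pow_succ, pow_mul, hzp1, one_pow, one_mul]
  have hμ0 : μ ≠ 0 := by
    rw [hμdef]; exact pow_ne_zero _ hz
  have hμμ : μ * μ ^ p = 1 := by
    rw [hμdef, ← pow_mul, ← pow_add]
    have h : m + m * p = (p + 1) * m := by ring
    rw [h, pow_mul, hzp1, one_pow]
  have hμinv : μ⁻¹ * μ⁻¹ ^ p = 1 := by
    rw [inv_pow, ← mul_inv, hμμ, inv_one]
  -- the scalar `μ⁻¹` in `GU`
  obtain ⟨s, hsU, hsval⟩ : ∃ s : GL (Fin 4) F, s ∈ Cfsg.GU 4 F p ∧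
      (s : Matrix (Fin 4) (Fin 4) F) = μ⁻¹ • (1 : Matrix (Fin 4) (Fin 4) F) :=
    ⟨((Cfsg.Agent.Lib.Helper5_GUOrder.mkGU hp0 (μ⁻¹ • (1 : Matrix (Fin 4) (Fin 4) F)) (Cfsg.Agent.Lib.Helper5_GUOrder.isU_smul hF μ⁻¹ hμinv) :
      Cfsg.GU 4 F p) : GL (Fin 4) F), Subtype.property _, rfl⟩
  obtain ⟨x', hx'def⟩ : ∃ x' : GL (Fin 4) F, x' = s * x := ⟨_, rfl⟩
  have hx'U : x' ∈ Cfsg.GU 4 F p := by
    rw [hx'def]; exact (Cfsg.GU 4 F p).mul_mem hsU hxU
  have hx'val : (x' : Matrix (Fin 4) (Fin 4) F) = μ⁻¹ • (x : Matrix (Fin 4) (Fin 4) F) := by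
    rw [hx'def, Units.val_mul, hsval, Matrix.smul_mul, Matrix.one_mul]
  have hxX : (x : Matrix (Fin 4) (Fin 4) F) = μ • (x' : Matrix (Fin 4) (Fin 4) F) := by
    rw [hx'val, smul_smul, mul_inv_cancel₀ hμ0, one_smul]
  have hx3 : (x : Matrix (Fin 4) (Fin 4) F) ^ 3 = z • (1 : Matrix (Fin 4) (Fin 4) F) := by
    rw [← hxz]; simp
  have hX3 : x' ^ 3 = 1 := by
    apply Units.ext
    rw [Units.val_pow_eq_pow_val, hx'val, _root_.smul_pow, hx3, smul_smul, inv_pow, hμ3,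
      inv_mul_cancel₀ hz, one_smul]
    rfl
  have hX1 : x' ≠ 1 := by
    intro h
    apply hns μ
    rw [hxX, h]
    rfl
  have hy₁1 : y₁ ≠ 1 := by
    intro h
    rw [h] at h1tr
    have h4 : Matrix.trace (1 : Matrix (Fin 4) (Fin 4) F) = -2 := h1tr
    rw [Matrix.trace_one, Fintype.card_fin] at h4
    have h6 : (2 : F) * 3 = 0 := by
      push_cast at h4
      linear_combination h4
    rcases mul_eq_zero.1 h6 with h | h
    · exact h2 h
    · exact h3 h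
  have hy₂1 : y₂ ≠ 1 := by
    intro h
    rw [h] at h2tr
    have h4 : Matrix.trace (1 : Matrix (Fin 4) (Fin 4) F) = 1 := h2tr
    rw [Matrix.trace_one, Fintype.card_fin] at h4
    apply h3
    push_cast at h4
    linear_combination h4
  rcases trace_of_order3_U hF hp4 hp3 x' hx'U hX3 hX1 with ht | ht
  · exact key_U hF hp3 N hscal y₁ h1N h1U h13 hy₁1 x x' μ hxX hx'U hX3 hX1 (by rw [ht, h1tr])
  · exact key_U hF hp3 N hscal y₂ h2N h2U h23 hy₂1 x x' μ hxX hx'U hX3 hX1 (by rw [ht, h2tr])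

end Cfsg.Agent.Lib.Helper58_S6001_UR3
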