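import Mathlib
import Cfsg.Agent.Lib.Helper42_S6001Target
import Cfsg.Agent.Lib.Helper42_E64Aut
import Cfsg.Agent.Lib.Helper4_S6000_TGT
import Cfsg.Agent.Lib.Helper58_S6001_UR3

/-!
# S6001: the unitary elements of order 3 and 5 of `N = N(R)`, `R = ψ(E64) ≤ GU_4(p)` (helper42)
-/

set_option autoImplicit false

open scoped MatrixGroups

namespace Cfsg.Agent.Lib.Helper42_S6001TGT

open Cfsg.Agent.Lib.Helper42_E64 Cfsg.Agent.Lib.Helper42_E64.E64 Cfsg.Agent.Lib.Helper42_E64Aut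
  Cfsg.Agent.Lib.Helper42_S6000Target Cfsg.Agent.Lib.Helper42_S6001Target
  Cfsg.Agent.Lib.Helper4_S6000_TGT

theorem exists_targets_U {F : Type*} [Field F] [Fintype F] {p : ℕ} [Fact p.Prime] [CharP F p]
    (hF : Fintype.card F = p ^ 2) (hp4 : p % 4 = 3) (R : Subgroup (GL (Fin 4) F))
    (hRi : Cfsg.Geo.ActsAbsolutelyIrreducibly (Cfsg.Geo.matrixSet R))
    (hRU : R ≤ Cfsg.GU 4 F p)
    (ψ : E64 →* GL (Fin 4) F) (ι : F) (hψ : Function.Injective ψ) (hR : ψ.range = R)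
    (hι : ι * ι = -1)
    (hT : ((ψ fT : GL (Fin 4) F) : Matrix (Fin 4) (Fin 4) F) = ι • (1 : Matrix (Fin 4) (Fin 4) F)) :
    (p % 3 = 1 → ∃ y₁ y₂ : GL (Fin 4) F,
      y₁ ∈ Cfsg.Geo.subgroupNormalizer R ∧ y₁ ∈ Cfsg.GU 4 F p ∧ y₁ ^ 3 = 1 ∧
        Matrix.trace (y₁ : Matrix (Fin 4) (Fin 4) F) = -2 ∧
      y₂ ∈ Cfsg.Geo.subgroupNormalizer R ∧ y₂ ∈ Cfsg.GU 4 F p ∧ y₂ ^ 3 = 1 ∧
        Matrix.trace (y₂ : Matrix (Fin 4) (Fin 4) F) = 1) ∧
    (orderOf (p : ZMod 5) = 4 → ∃ y : GL (Fin 4) F,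
      y ∈ Cfsg.Geo.subgroupNormalizer R ∧ y ∈ Cfsg.GU 4 F p ∧ y ^ 5 = 1 ∧ y ≠ 1) := by
  classical
  have hp : p.Prime := Fact.out
  have hU : ∀ e, ψ e ∈ Cfsg.GU 4 F p := fun e => hRU (by rw [← hR]; exact ⟨e, rfl⟩)
  have h2 : (2 : F) ≠ 0 := by
    have := natCast_ne_zero_of_lt (F := F) (p := p) (n := 2) (by norm_num) (by omega)
    exact_mod_cast this
  have h4 : (4 : F) ≠ 0 := by
    have : (4 : F) = 2 * 2 := by norm_num
    rw [this]; exact mul_ne_zero h2 h2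
  have h16 : (16 : F) ≠ 0 := by
    have : (16 : F) = 4 * 4 := by norm_num
    rw [this]; exact mul_ne_zero h4 h4
  have hc5 : Fintype.card {x : E64 // aut5 x = x} = 4 := by convert aut5_card_fix
  have hc3a : Fintype.card {x : E64 // aut3a x = x} = 4 := by convert aut3a_card_fix
  have hc3b : Fintype.card {x : E64 // aut3b x = x} = 16 := by convert aut3b_card_fix
  refine ⟨fun hp3 => ?_, fun h5 => ?_⟩
  · have hp7 : 7 ≤ p := by
      by_contra hlt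
      push Not at hlt
      interval_cases p <;> omega
    have h3 : (3 : F) ≠ 0 := by
      have := natCast_ne_zero_of_lt (F := F) (p := p) (n := 3) (by norm_num) (by omega)
      exact_mod_cast this
    have hcop : Nat.Coprime 3 (p + 1) := by
      rw [Nat.Prime.coprime_iff_not_dvd Nat.prime_three]
      omega
    obtain ⟨y₁, hy₁U, hy₁, hy₁3, hy₁1⟩ := exists_target_U hF R hRi hψ hR hι hT h2 hU
      (α := aut3b) (k := 3) aut3b_iter aut3b_cen (by rw [hc3b]; exact_mod_cast h16)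
      ⟨fA, by decide +kernel⟩ hcop
    obtain ⟨y₂, hy₂U, hy₂, hy₂3, hy₂1⟩ := exists_target_U hF R hRi hψ hR hι hT h2 hU
      (α := aut3a) (k := 3) aut3a_iter aut3a_cen (by rw [hc3a]; exact_mod_cast h4)
      ⟨fA, by decide +kernel⟩ hcop
    have htr : ∀ y : GL (Fin 4) F, y ∈ Cfsg.GU 4 F p → y ^ 3 = 1 → y ≠ 1 →
        (Matrix.trace (y : Matrix (Fin 4) (Fin 4) F) = -2 ∨
          Matrix.trace (y : Matrix (Fin 4) (Fin 4) F) = 1) := fun y hyU hy3 hy1 =>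
      Cfsg.Agent.Lib.Helper58_S6001_UR3.trace_of_order3_U hF hp4 hp3 y hyU hy3 hy1
    have hinv3 : ∀ y : GL (Fin 4) F, y ^ 3 = 1 → y⁻¹ ^ 3 = 1 := by
      intro y hy; rw [inv_pow, hy, inv_one]
    have hinv1 : ∀ y : GL (Fin 4) F, y ≠ 1 → y⁻¹ ≠ 1 := by
      intro y hy h; exact hy (inv_eq_one.1 h)
    have ht1 := trace_of_intertwine R hRi hψ hR hι hT h2 aut3b_cen hy₁
    have ht2 := trace_of_intertwine R hRi hψ hR hι hT h2 aut3a_cen hy₂
    rw [hc3b] at ht1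
    rw [hc3a] at ht2
    have ht1' : 4 * Matrix.trace (y₁ : Matrix (Fin 4) (Fin 4) F) *
        Matrix.trace ((y₁⁻¹ : GL (Fin 4) F) : Matrix (Fin 4) (Fin 4) F) = 16 := by
      rw [ht1]; norm_num
    have ht2' : 4 * Matrix.trace (y₂ : Matrix (Fin 4) (Fin 4) F) *
        Matrix.trace ((y₂⁻¹ : GL (Fin 4) F) : Matrix (Fin 4) (Fin 4) F) = 4 := by
      rw [ht2]; norm_num
    refine ⟨y₁, y₂, mem_normalizer_of_intertwine R hR (k := 2) aut3b_iter hy₁, hy₁U, hy₁3, ?_,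
      mem_normalizer_of_intertwine R hR (k := 2) aut3a_iter hy₂, hy₂U, hy₂3, ?_⟩
    · exact (trace_case h2 h3 (htr y₁ hy₁U hy₁3 hy₁1)
        (htr y₁⁻¹ ((Cfsg.GU 4 F p).inv_mem hy₁U) (hinv3 y₁ hy₁3) (hinv1 y₁ hy₁1))).1 ht1'
    · exact (trace_case h2 h3 (htr y₂ hy₂U hy₂3 hy₂1)
        (htr y₂⁻¹ ((Cfsg.GU 4 F p).inv_mem hy₂U) (hinv3 y₂ hy₂3) (hinv1 y₂ hy₂1))).2 ht2'
  · have hcop : Nat.Coprime 5 (p + 1) := by
      rw [Nat.Prime.coprime_iff_not_dvd (by norm_num : Nat.Prime 5)]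
      intro hd
      have h1 : ((p : ℕ) : ZMod 5) = -1 := by
        have h0 : ((p + 1 : ℕ) : ZMod 5) = 0 := (ZMod.natCast_eq_zero_iff (p + 1) 5).2 hd
        push_cast at h0
        exact eq_neg_of_add_eq_zero_left h0
      have h6 : ((p : ℕ) : ZMod 5) ^ 2 = 1 := by rw [h1]; decide
      have := orderOf_dvd_of_pow_eq_one h6
      rw [h5] at this
      omega
    obtain ⟨y, hyU, hy, hy5, hy1⟩ := exists_target_U hF R hRi hψ hR hι hT h2 hU
      (α := aut5) (k := 5) aut5_iter aut5_cen (by rw [hc5]; exact_mod_cast h4)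
      ⟨fA, by decide +kernel⟩ hcop
    exact ⟨y, mem_normalizer_of_intertwine R hR (k := 4) aut5_iter hy, hyU, hy5, hy1⟩

end Cfsg.Agent.Lib.Helper42_S6001TGT
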