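import Mathlib
import Cfsg.Agent.Lib.Helper42_S6001Neg
import Cfsg.Agent.Lib.Helper42_S6001TGT
import Cfsg.Agent.Lib.Helper42_S6000Bwd
import Cfsg.Agent.Lib.Helper58_S6001_UR3
import Cfsg.Agent.Lib.Helper26_S6001_UREFL
import Cfsg.Agent.Lib.Helper35_S6001_UR5
import Cfsg.Agent.Lib.Helper35_S6001_UR2

/-!
# S6001, the positive cases and the assembly (helper42)
-/

set_option autoImplicit false
set_option linter.unusedSimpArgs false
set_option linter.unusedSectionVars false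
open scoped MatrixGroups
open Matrix

namespace Cfsg.Agent.Lib.Helper42_S6001Bwd

open Cfsg.Agent.Lib.Helper42_E64 Cfsg.Agent.Lib.Helper42_E64.E64 Cfsg.Agent.Lib.Helper42_ES64Mat
  Cfsg.Agent.Lib.Helper42_S6000Bwd

variable {F : Type*} [Field F] [Fintype F] {p : ℕ} [Fact p.Prime] [CharP F p]

/-- the statement S6001 from the recognition data -/
theorem main (hF : Fintype.card F = p ^ 2) (hp4 : p % 4 = 3)
    (R : Subgroup (GL (Fin 4) F))
    (hRi : Cfsg.Geo.ActsAbsolutelyIrreducibly (Cfsg.Geo.matrixSet R))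
    (hRU : R ≤ Cfsg.GU 4 F p)
    (ψ : E64 →* GL (Fin 4) F) (ι : F) (hψ : Function.Injective ψ) (hR : ψ.range = R)
    (hι : ι * ι = -1)
    (hT : ((ψ fT : GL (Fin 4) F) : Matrix (Fin 4) (Fin 4) F) = ι • (1 : Matrix (Fin 4) (Fin 4) F))
    (r : ℕ) (hr : r.Prime)
    (hdvd : r ∣ Nat.card ↥(Cfsg.GU 4 F p ⊓ Cfsg.Geo.specialLinear (Fin 4) F)) :
    (∀ x ∈ Cfsg.GU 4 F p ⊓ Cfsg.Geo.specialLinear (Fin 4) F,
      (∃ z : F, ((x ^ r : GL (Fin 4) F) : Matrix (Fin 4) (Fin 4) F) =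
        z • (1 : Matrix (Fin 4) (Fin 4) F)) →
      (∀ z : F, (x : Matrix (Fin 4) (Fin 4) F) ≠ z • (1 : Matrix (Fin 4) (Fin 4) F)) →
      ∃ g ∈ Cfsg.GU 4 F p ⊓ Cfsg.Geo.specialLinear (Fin 4) F,
        g⁻¹ * x * g ∈ Cfsg.Geo.subgroupNormalizer R) ↔
    (r = 2 ∨ (r = 3 ∧ p % 3 = 1) ∨ (r = 5 ∧ orderOf (p : ZMod 5) = 4)) := by
  have hp : p.Prime := Fact.out
  have hodd : Odd p := by
    rw [Nat.odd_iff]; omega
  have h2 : (2 : F) ≠ 0 := Cfsg.Agent.Lib.Helper42_S6002Fwd.two_ne_zero_of_odd (F := F) hodd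
  have hscal := hscal_normalizer R
  constructor
  · intro H
    by_contra hcon
    push Not at hcon
    obtain ⟨hr2, hr3, hr5⟩ := hcon
    obtain ⟨x, hxS, hxr, hxns, hxg⟩ := Cfsg.Agent.Lib.Helper42_S6001Neg.forward_U R hRi hψ hR hι hT
      hF hp4 hr hdvd hr2 (fun h => hr3 h.1 h.2) (fun h => hr5 h.1 h.2)
    obtain ⟨g, -, hg⟩ := H x hxS hxr hxns
    exact hxg g hg
  · intro hcase x hx ⟨z, hxz⟩ hns
    rcases hcase with h | ⟨h, hp31⟩ | ⟨h, hord⟩
    · subst h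
      -- involutions
      obtain ⟨s, hsN, hsU, hs2, hstr, hsns⟩ :=
        Cfsg.Agent.Lib.Helper26_S6001_UREFL.exists_reflection_U hF h2 R hRU ψ ι hψ hR hι hT
      have huR : ψ fC ∈ R := by rw [← hR]; exact ⟨fC, rfl⟩
      have huN : ψ fC ∈ Cfsg.Geo.subgroupNormalizer R := le_normalizer R huR
      have hu2 : ((ψ fC : GL J4 F) : Matrix J4 J4 F) * ((ψ fC : GL J4 F) : Matrix J4 J4 F) = 1 := by
        rw [← Units.val_mul, ← map_mul]
        have : fC * fC = (1 : E64) := by decide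
        rw [this, map_one, Units.val_one]
      have hutr : Matrix.trace ((ψ fC : GL J4 F) : Matrix J4 J4 F) = 0 :=
        trace_psi_eq_zero hι hT h2 (by decide)
      exact Cfsg.Agent.Lib.Helper35_S6001_UR2.two_case_SU hF hp4 _ hscal ι hι (ψ fC) huN (hRU huR) hu2 hutr
        s hsN hsU hs2 hstr hsns x hx z hxz hns
    · subst h
      obtain ⟨y₁, y₂, h1N, h1U, h13, h1tr, h2N, h2U, h23, h2tr⟩ :=
        (Cfsg.Agent.Lib.Helper42_S6001TGT.exists_targets_U hF hp4 R hRi hRU ψ ι hψ hR hι hT).1 hp31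
      exact Cfsg.Agent.Lib.Helper58_S6001_UR3.three_case_SU hF hp4 hp31 _ hscal y₁ h1N h1U h13 h1tr
        y₂ h2N h2U h23 h2tr x hx z hxz hns
    · subst h
      obtain ⟨y, hyN, hyU, hy5, hy1⟩ :=
        (Cfsg.Agent.Lib.Helper42_S6001TGT.exists_targets_U hF hp4 R hRi hRU ψ ι hψ hR hι hT).2 hord
      exact Cfsg.Agent.Lib.Helper35_S6001_UR5.five_case_SU hF hp4 hord _ hscal y hyN hyU hy5 hy1
        x hx z hxz hns

end Cfsg.Agent.Lib.Helper42_S6001Bwd
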