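import Mathlib
import Cfsg.Agent.Lib.Helper42_ES32Mat
import Cfsg.Agent.Lib.Helper13_Symp
import Cfsg.Agent.S0768

/-!
# An element of order 5 in the normalizer of `2^{1+4}_-` inside `Sp_4(F)` (helper42)

The intertwining operator `y0 = ∑ φ(α e) φ(e)⁻¹` between `φ` and `φ ∘ α`, its adjoint, and the
rescaled symplectic element.
-/

set_option autoImplicit false
set_option linter.unusedSimpArgs false
open scoped MatrixGroups
open Matrix

namespace Cfsg.Agent.Lib.Helper42_S6002Five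

open Cfsg.Agent.Lib.Helper42_E32 Cfsg.Agent.Lib.Helper42_E32.E32 Cfsg.Agent.Lib.Helper42_ES32
  Cfsg.Agent.Lib.Helper42_ES32Mat

variable {F : Type*} [Field F]

/-- the intertwiner -/
noncomputable def y0 (φ : E32 →* GL I4 F) : Matrix I4 I4 F :=
  ∑ e : E32, ((φ (E32.alpha e) : GL I4 F) : Matrix I4 I4 F) * (((φ e)⁻¹ : GL I4 F) : Matrix I4 I4 F)

/-- the adjoint intertwiner -/
noncomputable def y0' (φ : E32 →* GL I4 F) : Matrix I4 I4 F :=
  ∑ e : E32, ((φ e : GL I4 F) : Matrix I4 I4 F) * (((φ (E32.alpha e))⁻¹ : GL I4 F) : Matrix I4 I4 F)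

variable {φ : E32 →* GL I4 F}

theorem y0_intertwine (h : E32) :
    ((φ (E32.alpha h) : GL I4 F) : Matrix I4 I4 F) * y0 φ = y0 φ * ((φ h : GL I4 F) : Matrix I4 I4 F) := by
  unfold y0
  rw [Finset.mul_sum, Finset.sum_mul]
  apply Fintype.sum_equiv (Equiv.mulLeft h)
  intro e
  simp only [Equiv.coe_mulLeft, ← Units.val_mul]
  congr 1
  simp only [map_mul]
  group

theorem y0_intertwine_inv (h : E32) :
    (((φ (E32.alpha h))⁻¹ : GL I4 F) : Matrix I4 I4 F) * y0 φ =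
      y0 φ * (((φ h)⁻¹ : GL I4 F) : Matrix I4 I4 F) := by
  have h1 := y0_intertwine (φ := φ) h
  have h2 : (((φ (E32.alpha h))⁻¹ : GL I4 F) : Matrix I4 I4 F) *
      (((φ (E32.alpha h) : GL I4 F) : Matrix I4 I4 F) * y0 φ) * (((φ h)⁻¹ : GL I4 F) : Matrix I4 I4 F) =
      (((φ (E32.alpha h))⁻¹ : GL I4 F) : Matrix I4 I4 F) *
      (y0 φ * ((φ h : GL I4 F) : Matrix I4 I4 F)) * (((φ h)⁻¹ : GL I4 F) : Matrix I4 I4 F) := by
    rw [h1]
  rw [← Matrix.mul_assoc, ← Units.val_mul, inv_mul_cancel, Units.val_one, Matrix.one_mul,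
    Matrix.mul_assoc, Matrix.mul_assoc, ← Units.val_mul, mul_inv_cancel, Units.val_one,
    Matrix.mul_one] at h2
  exact h2.symm

theorem trace_y0 (hz : φ eZ = -1) (h2 : (2 : F) ≠ 0) : Matrix.trace (y0 φ) = 8 := by
  unfold y0
  rw [Matrix.trace_sum]
  have hterm : ∀ e : E32, Matrix.trace (((φ (E32.alpha e) : GL I4 F) : Matrix I4 I4 F) *
      (((φ e)⁻¹ : GL I4 F) : Matrix I4 I4 F)) =
      (if e = 1 then (4 : F) else 0) + (if e = eZ then (4 : F) else 0) := by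
    intro e
    have heq : ((φ (E32.alpha e) : GL I4 F) : Matrix I4 I4 F) * (((φ e)⁻¹ : GL I4 F) : Matrix I4 I4 F) =
        ((φ (E32.alpha e * e⁻¹) : GL I4 F) : Matrix I4 I4 F) := by
      rw [map_mul, map_inv, Units.val_mul]
    rw [heq]
    by_cases h1 : e = 1
    · subst h1
      rw [map_one, inv_one, mul_one, trace_phi_one]
      have : (1 : E32) ≠ eZ := fun h => eZ_ne_one h.symm
      simp [this]
    · by_cases hZ : e = eZ
      · subst hZ
        have : E32.alpha eZ * eZ⁻¹ = 1 := by decide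
        rw [this, trace_phi_one]
        simp [h1]
      · rw [if_neg h1, if_neg hZ, add_zero]
        apply trace_phi_eq_zero hz h2
        · intro h
          rw [mul_inv_eq_one] at h
          rcases alphaFun_fix e h with h' | h'
          · exact h1 h'
          · exact hZ h'
        · intro h
          rw [mul_inv_eq_iff_eq_mul] at h
          exact alphaFun_ne_neg e h
  simp only [hterm]
  rw [Finset.sum_add_distrib, Finset.sum_ite_eq', Finset.sum_ite_eq']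
  simp
  norm_num

theorem y0'_mul_y0 : y0' φ * y0 φ = avg φ (y0 φ) := by
  unfold y0' avg
  rw [Finset.sum_mul]
  apply Finset.sum_congr rfl
  intro e _
  rw [Matrix.mul_assoc, y0_intertwine_inv, ← Matrix.mul_assoc]

theorem y0'_mul_y0_eq (R : Subgroup (GL I4 F))
    (hRi : Cfsg.Geo.ActsAbsolutelyIrreducibly (Cfsg.Geo.matrixSet R)) (hR : φ.range = R)
    (hz : φ eZ = -1) (h2 : (2 : F) ≠ 0) : y0' φ * y0 φ = (64 : F) • (1 : Matrix I4 I4 F) := by
  rw [y0'_mul_y0, avg_eq R hRi hR h2, trace_y0 hz h2]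
  norm_num

theorem transpose_mul_J {g : GL I4 F} (hg : g ∈ Cfsg.spGL 2 F) :
    (g : Matrix I4 I4 F)ᵀ * J (Fin 2) F = J (Fin 2) F * ((g⁻¹ : GL I4 F) : Matrix I4 I4 F) := by
  have h : (g : Matrix I4 I4 F)ᵀ * J (Fin 2) F * (g : Matrix I4 I4 F) = J (Fin 2) F :=
    SymplecticGroup.mem_iff'.mp
      (Cfsg.Agent.Lib.Helper13_Symp.mem_symplecticGroup_of_preserves 2 (fun u v => hg u v))
  calc (g : Matrix I4 I4 F)ᵀ * J (Fin 2) F
      = (g : Matrix I4 I4 F)ᵀ * J (Fin 2) F * ((g : Matrix I4 I4 F) * ((g⁻¹ : GL I4 F) : Matrix I4 I4 F)) := by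
        rw [← Units.val_mul, mul_inv_cancel, Units.val_one, Matrix.mul_one]
    _ = J (Fin 2) F * ((g⁻¹ : GL I4 F) : Matrix I4 I4 F) := by
        rw [← Matrix.mul_assoc, h]

theorem y0_transpose_mul_J (hRf : ∀ e, φ e ∈ Cfsg.spGL 2 F) :
    (y0 φ)ᵀ * J (Fin 2) F = J (Fin 2) F * y0' φ := by
  unfold y0 y0'
  rw [Matrix.transpose_sum, Finset.sum_mul, Finset.mul_sum]
  apply Finset.sum_congr rfl
  intro e _
  rw [Matrix.transpose_mul, Matrix.mul_assoc, transpose_mul_J (hRf _), ← Matrix.mul_assoc,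
    transpose_mul_J (Subgroup.inv_mem _ (hRf _)), inv_inv, Matrix.mul_assoc]

/-- the intertwiner can be rescaled into the symplectic group -/
theorem exists_intertwiner (R : Subgroup (GL I4 F))
    (hRi : Cfsg.Geo.ActsAbsolutelyIrreducibly (Cfsg.Geo.matrixSet R)) (hR : φ.range = R)
    (hRf : R ≤ Cfsg.spGL 2 F) (hz : φ eZ = -1) (h2 : (2 : F) ≠ 0) :
    ∃ y ∈ Cfsg.spGL 2 F, ∀ h : E32, φ (E32.alpha h) * y = y * φ h := by
  have hmem : ∀ e, φ e ∈ Cfsg.spGL 2 F := fun e => hRf (by rw [← hR]; exact ⟨e, rfl⟩)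
  have h8 : (8 : F) ≠ 0 := by
    have : (8 : F) = 2 * 2 * 2 := by norm_num
    rw [this]; exact mul_ne_zero (mul_ne_zero h2 h2) h2
  set A : Matrix I4 I4 F := (8 : F)⁻¹ • y0 φ with hA
  have hAJ : Aᵀ * J (Fin 2) F * A = J (Fin 2) F := by
    rw [hA, Matrix.transpose_smul, Matrix.smul_mul, Matrix.smul_mul, Matrix.mul_smul, smul_smul,
      y0_transpose_mul_J hmem, Matrix.mul_assoc, y0'_mul_y0_eq R hRi hR hz h2, Matrix.mul_smul,
      Matrix.mul_one, smul_smul]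
    have : (8 : F)⁻¹ * (8 : F)⁻¹ * 64 = 1 := by
      field_simp; norm_num
    rw [this, one_smul]
  have hAmem : A ∈ Matrix.symplecticGroup (Fin 2) F := SymplecticGroup.mem_iff'.mpr hAJ
  refine ⟨(Cfsg.Agent.S0768.ofSymp 2 ⟨A, hAmem⟩ : GL I4 F), (Cfsg.Agent.S0768.ofSymp 2 ⟨A, hAmem⟩).2, ?_⟩
  intro h
  apply Units.ext
  rw [Units.val_mul, Units.val_mul]
  show ((φ (E32.alpha h) : GL I4 F) : Matrix I4 I4 F) * A = A * ((φ h : GL I4 F) : Matrix I4 I4 F)
  rw [hA, Matrix.mul_smul, Matrix.smul_mul, y0_intertwine]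

end Cfsg.Agent.Lib.Helper42_S6002Five
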