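import Mathlib
import Cfsg.Agent.Lib.Helper42_ES32Mat
import Cfsg.Agent.Lib.Helper42_S6002Five
import Cfsg.Agent.Lib.Helper42_Sp4Charpoly
import Cfsg.Agent.Lib.Helper42_SpConjGL

/-!
# S6002, the positive cases (helper42)
-/

set_option autoImplicit false
set_option linter.unusedSimpArgs false
open scoped MatrixGroups
open Matrix

namespace Cfsg.Agent.Lib.Helper42_S6002Bwd

open Cfsg.Agent.Lib.Helper42_E32 Cfsg.Agent.Lib.Helper42_E32.E32 Cfsg.Agent.Lib.Helper42_ES32
  Cfsg.Agent.Lib.Helper42_ES32Mat Cfsg.Agent.Lib.Helper42_S6002Five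
  Cfsg.Agent.Lib.Helper42_SpConjGL
open Cfsg.Agent.Lib.Helper42_Sp4Charpoly hiding I4

variable {F : Type*} [Field F]

theorem neg_mem_of_mem {H : Subgroup (GL I4 F)} (h1 : (-1 : GL I4 F) ∈ H) {x : GL I4 F}
    (hx : x ∈ H) : -x ∈ H := by
  rw [← neg_one_mul]
  exact H.mul_mem h1 hx

theorem le_subgroupNormalizer (R : Subgroup (GL I4 F)) : R ≤ Cfsg.Geo.subgroupNormalizer R := by
  intro g hg
  unfold Cfsg.Geo.subgroupNormalizer
  rw [Subgroup.mem_set_normalizer_iff]
  intro h
  constructor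
  · intro hh
    exact R.mul_mem (R.mul_mem hg hh) (R.inv_mem hg)
  · intro hh
    have := R.mul_mem (R.mul_mem (R.inv_mem hg) hh) hg
    have e : g⁻¹ * (g * h * g⁻¹) * g = h := by group
    rw [e] at this
    exact this

section setup

variable (R : Subgroup (GL I4 F))
  (hRi : Cfsg.Geo.ActsAbsolutelyIrreducibly (Cfsg.Geo.matrixSet R))
  {φ : E32 →* GL I4 F} (hφ : Function.Injective φ) (hR : φ.range = R) (hz : φ eZ = -1)
  (hRf : R ≤ Cfsg.spGL 2 F)

include hR in
theorem phi_mem (e : E32) : φ e ∈ R := by rw [← hR]; exact ⟨e, rfl⟩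

include hφ in
/-- `φ a` is not scalar when `a` is not central -/
theorem phi_not_scalar {a b : E32} (hab : a * b ≠ b * a) (c : F) :
    ((φ a : GL I4 F) : Matrix I4 I4 F) ≠ c • (1 : Matrix I4 I4 F) := by
  intro h
  apply hab
  apply hφ
  rw [map_mul, map_mul]
  apply Units.ext
  rw [Units.val_mul, Units.val_mul, h]
  simp

include hφ hR hz hRf in
/-- the case `r = 2` -/
theorem two_case [Finite F] {p : ℕ} [Fact p.Prime] [CharP F p] (hodd : Odd p) (h2 : (2 : F) ≠ 0)
    {x : GL I4 F} (hx : x ∈ Cfsg.spGL 2 F) {z : F}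
    (hxz : ((x ^ 2 : GL I4 F) : Matrix I4 I4 F) = z • (1 : Matrix I4 I4 F))
    (hns : ∀ c : F, (x : Matrix I4 I4 F) ≠ c • (1 : Matrix I4 I4 F)) :
    ∃ g ∈ Cfsg.spGL 2 F, g⁻¹ * x * g ∈ Cfsg.Geo.subgroupNormalizer R := by
  have hz1 : z = 1 ∨ z = -1 := scalar_of_mem_sp (Subgroup.pow_mem _ hx 2) hxz
  -- the representative
  obtain ⟨a, b, haa, hab⟩ : ∃ a b : E32,
      ((φ (a * a) : GL I4 F) : Matrix I4 I4 F) = z • (1 : Matrix I4 I4 F) ∧ a * b ≠ b * a := by
    rcases hz1 with h | h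
    · refine ⟨eC, eD, ?_, by decide⟩
      have : eC * eC = 1 := by decide
      rw [this, map_one, h, one_smul, Units.val_one]
    · refine ⟨eA, eB, ?_, by decide⟩
      have : eA * eA = eZ := by decide
      rw [this, hz, h]
      simp
  have hyR : φ a ∈ R := phi_mem R hR a
  have hysp : φ a ∈ Cfsg.spGL 2 F := hRf hyR
  have hxx : (x : Matrix I4 I4 F) * (x : Matrix I4 I4 F) = z • (1 : Matrix I4 I4 F) := by
    rw [← Units.val_mul, ← pow_two, hxz]
  have hyy : ((φ a : GL I4 F) : Matrix I4 I4 F) * ((φ a : GL I4 F) : Matrix I4 I4 F) =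
      z • (1 : Matrix I4 I4 F) := by
    rw [← Units.val_mul, ← map_mul, haa]
  have hcx := charpoly_of_sq (x : Matrix I4 I4 F) (mem_symp_of_mem_spGL hx) h2 z hz1 hxx hns
  have hcy := charpoly_of_sq ((φ a : GL I4 F) : Matrix I4 I4 F) (mem_symp_of_mem_spGL hysp) h2 z hz1
    hyy (phi_not_scalar hφ hab)
  have hzz : z * z = 1 := by rcases hz1 with h | h <;> rw [h] <;> ring
  have hx4 : x ^ 4 = 1 := by
    apply Units.ext
    rw [show 4 = 2 + 2 from rfl, pow_add, Units.val_mul, hxz, Matrix.smul_mul, Matrix.one_mul,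
      smul_smul, hzz, one_smul, Units.val_one]
  have hy4 : (φ a) ^ 4 = 1 := by
    apply Units.ext
    rw [show 4 = 2 + 2 from rfl, pow_add, pow_two, Units.val_mul, Units.val_mul, hyy, Matrix.smul_mul,
      Matrix.one_mul, smul_smul, hzz, one_smul, Units.val_one]
  have hcop : Nat.Coprime 4 p := by
    have : Nat.Coprime 2 p := Nat.coprime_two_left.mpr hodd
    exact Nat.Coprime.pow_left 2 this
  obtain ⟨g, hg, hgx⟩ := exists_conj_of_charpoly_eq p hx hysp 4 hcop hx4 hy4 (hcx.trans hcy.symm)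
  refine ⟨g, hg, ?_⟩
  rw [hgx]
  exact le_subgroupNormalizer R hyR

include hR in
/-- an intertwiner for `α` normalizes `R` -/
theorem mem_normalizer_of_intertwine {y : GL I4 F}
    (hy : ∀ h : E32, φ (E32.alpha h) * y = y * φ h) : y ∈ Cfsg.Geo.subgroupNormalizer R := by
  unfold Cfsg.Geo.subgroupNormalizer
  rw [Subgroup.mem_set_normalizer_iff]
  have hconj : ∀ e : E32, y * φ e * y⁻¹ = φ (E32.alpha e) := by
    intro e
    rw [← hy e]; group
  intro g
  constructor
  · intro hg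
    rw [SetLike.mem_coe, ← hR] at hg
    obtain ⟨e, rfl⟩ := hg
    rw [hconj, SetLike.mem_coe]
    exact phi_mem R hR _
  · intro hg
    rw [SetLike.mem_coe, ← hR] at hg
    obtain ⟨e', he'⟩ := hg
    set e : E32 := E32.alpha (E32.alpha (E32.alpha (E32.alpha e'))) with he
    have h5 : E32.alpha e = e' := alphaFun_iter e'
    have h1 : y * g * y⁻¹ = y * φ e * y⁻¹ := by rw [hconj, h5, he']
    have h2 : g = φ e := by
      have := mul_right_cancel h1
      exact mul_left_cancel this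
    rw [SetLike.mem_coe, h2]
    exact phi_mem R hR _

theorem intertwine_pow {y : GL I4 F} (hy : ∀ h : E32, φ (E32.alpha h) * y = y * φ h) (k : ℕ) :
    ∀ h : E32, φ ((E32.alpha)^[k] h) * y ^ k = y ^ k * φ h := by
  induction k with
  | zero => intro h; simp
  | succ k ih =>
    intro h
    rw [Function.iterate_succ_apply, pow_succ, ← mul_assoc, ih, mul_assoc, hy, ← mul_assoc]

include hRi hφ hR hz hRf in
/-- an element of order 5 of the symplectic group normalizing `R` -/
theorem exists_order5 (h2 : (2 : F) ≠ 0) :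
    ∃ y ∈ Cfsg.spGL 2 F, y ∈ Cfsg.Geo.subgroupNormalizer R ∧ y ^ 5 = 1 ∧ y ≠ 1 := by
  obtain ⟨y, hysp, hy⟩ := exists_intertwiner R hRi hR hRf hz h2
  have hyN := mem_normalizer_of_intertwine R hR hy
  have hneg1R : (-1 : GL I4 F) ∈ R := by rw [← hz]; exact phi_mem R hR _
  -- `y ^ 5` is a scalar
  have h5 := intertwine_pow hy 5
  obtain ⟨c, hc⟩ := hRi.2 ((y ^ 5 : GL I4 F) : Matrix I4 I4 F) (by
    rintro s ⟨g, hg, rfl⟩
    rw [SetLike.mem_coe, ← hR] at hg
    obtain ⟨e, rfl⟩ := hg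
    have := h5 e
    have h6 : (E32.alpha)^[5] e = e := alphaFun_iter e
    rw [h6] at this
    have h7 := congrArg (fun u : GL I4 F => (u : Matrix I4 I4 F)) this
    simp only [Units.val_mul] at h7
    exact h7.symm)
  -- `y` and `-y` are not the identity
  have hne : ∀ u : GL I4 F, (∀ g : GL I4 F, u * g = g * u) → y ≠ u := by
    intro u hu hyu
    have h1 := hy eA
    rw [hyu, hu] at h1
    have h3 := hφ (mul_right_cancel h1)
    rcases alphaFun_fix eA h3 with h | h
    · exact absurd h (by decide)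
    · exact absurd h (by decide)
  rcases scalar_of_mem_sp (Subgroup.pow_mem _ hysp 5) hc with h | h
  · refine ⟨y, hysp, hyN, gl_ext_scalar hc h, hne 1 (fun g => by rw [one_mul, mul_one])⟩
  · refine ⟨-y, neg_mem_of_mem (hRf hneg1R) hysp,
      neg_mem_of_mem (le_subgroupNormalizer R hneg1R) hyN, ?_, ?_⟩
    · rw [Odd.neg_pow (by decide), gl_ext_neg hc h, neg_neg]
    · intro h1
      have : y = -1 := by rw [← h1, neg_neg]
      exact hne (-1) (fun g => by rw [neg_one_mul, mul_neg_one]) this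

include hRi hφ hR hz hRf in
/-- the case `r = 5` -/
theorem five_case [Fintype F] {p : ℕ} [Fact p.Prime] [CharP F p] (hF : Fintype.card F = p)
    (hord : orderOf (p : ZMod 5) = 4) (h2 : (2 : F) ≠ 0)
    {x : GL I4 F} (hx : x ∈ Cfsg.spGL 2 F) {z : F}
    (hxz : ((x ^ 5 : GL I4 F) : Matrix I4 I4 F) = z • (1 : Matrix I4 I4 F))
    (hns : ∀ c : F, (x : Matrix I4 I4 F) ≠ c • (1 : Matrix I4 I4 F)) :
    ∃ g ∈ Cfsg.spGL 2 F, g⁻¹ * x * g ∈ Cfsg.Geo.subgroupNormalizer R := by
  have hp : p.Prime := Fact.out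
  obtain ⟨y, hysp, hyN, hy5, hy1⟩ := exists_order5 R hRi hφ hR hz hRf h2
  have hneg1R : (-1 : GL I4 F) ∈ R := by rw [← hz]; exact phi_mem R hR _
  have hp5 : p ≠ 5 := by
    intro h
    have := pow_orderOf_eq_one (p : ZMod 5)
    rw [hord, h] at this
    exact absurd this (by decide)
  have hcop : Nat.Coprime 5 p := (Nat.coprime_primes (by norm_num) hp).mpr (Ne.symm hp5)
  have hcy : (y : Matrix I4 I4 F).charpoly = Polynomial.cyclotomic 5 F := by
    apply charpoly_of_order5 hF hord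
    · rw [← Units.val_pow_eq_pow_val, hy5, Units.val_one]
    · intro h
      exact hy1 (Units.ext h)
  -- the main step for an element of order 5
  have main : ∀ x' : GL I4 F, x' ∈ Cfsg.spGL 2 F → x' ^ 5 = 1 → x' ≠ 1 →
      ∃ g ∈ Cfsg.spGL 2 F, g⁻¹ * x' * g = y := by
    intro x' hx' hx5 hx1
    have hcx : (x' : Matrix I4 I4 F).charpoly = Polynomial.cyclotomic 5 F := by
      apply charpoly_of_order5 hF hord
      · rw [← Units.val_pow_eq_pow_val, hx5, Units.val_one]
      · intro h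
        exact hx1 (Units.ext h)
    exact exists_conj_of_charpoly_eq p hx' hysp 5 hcop hx5 hy5 (hcx.trans hcy.symm)
  rcases scalar_of_mem_sp (Subgroup.pow_mem _ hx 5) hxz with h | h
  · obtain ⟨g, hg, hgx⟩ := main x hx (gl_ext_scalar hxz h) (by
      intro h1
      apply hns 1
      rw [h1, one_smul, Units.val_one])
    exact ⟨g, hg, by rw [hgx]; exact hyN⟩
  · obtain ⟨g, hg, hgx⟩ := main (-x) (neg_mem_of_mem (hRf hneg1R) hx) (by
      rw [Odd.neg_pow (by decide), gl_ext_neg hxz h, neg_neg]) (by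
      intro h1
      apply hns (-1)
      have : x = -1 := by rw [← h1, neg_neg]
      rw [this]; simp)
    refine ⟨g, hg, ?_⟩
    have : g⁻¹ * x * g = -y := by
      rw [← hgx, mul_neg, neg_mul, neg_neg]
    rw [this]
    exact neg_mem_of_mem (le_subgroupNormalizer R hneg1R) hyN

end setup



end Cfsg.Agent.Lib.Helper42_S6002Bwd
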