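import Mathlib
import Cfsg.Agent.Lib.Helper6_S6Defs

/-!
# S3333 package FUS (architect helper6, market `s6_packages`)  (helper42)

Burnside's fusion lemma for the abelian Sylow 3-subgroup `S` of order 9: two elements of `S`
conjugate in `G` are conjugate in `N_G(S)`.  Self-contained (commutativity from `|S| = 3^2`).
-/

set_option autoImplicit false

namespace Cfsg.Agent.Lib.Helper42_S6_FUS

open Cfsg.Agent.Lib.Helper6_S6Defs Equiv Equiv.Perm

variable {G : Type*} [Group G] [Finite G] {S : Subgroup G}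

theorem fusion (D : Setup G S) (x y g : G) (hx : x ∈ S) (hy : y ∈ S) (h : g * x * g⁻¹ = y) :
    ∃ n ∈ Subgroup.normalizer (S : Set G), n * x * n⁻¹ = y := by
  have : Fact (Nat.Prime 3) := ⟨Nat.prime_three⟩
  obtain ⟨P, hP⟩ := D.syl
  subst hP
  have hcard : Nat.card (P : Subgroup G) = 3 ^ 2 := by rw [D.card]; norm_num
  have hcomm : IsMulCommutative (P : Subgroup G) :=
    IsPGroup.isMulCommutative_of_card_eq_prime_sq hcard
  have hy' : g⁻¹⁻¹ * x * g⁻¹ ∈ P := by rw [inv_inv, h]; exact hy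
  obtain ⟨n, hn, hne⟩ := P.conj_eq_normalizer_conj_of_mem x g⁻¹ hx hy'
  refine ⟨n⁻¹, Subgroup.inv_mem _ hn, ?_⟩
  rw [inv_inv, ← hne, inv_inv, h]

end Cfsg.Agent.Lib.Helper42_S6_FUS
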