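import Mathlib
import Cfsg.Agent.Lib.Helper6_S6Defs
import Cfsg.Agent.Lib.Helper31_S6_ELEM

/-!
# S3333 package ROT (architect helper6, market `s6_packages`)  (helper42, parallel seat)

An element `n` of `N_G(S)` with `π n = r 2` inverts `S`.

Proof.  Pick `w` with `π w = r 1`; `n` and `w²` act in the same way on the abelian group `S`.
Let `b` = conjugation by `w`, `c = b ∘ b`.  `c ≠ id` on `S` (else `w² ∈ C_G(S) = S`), `c ∘ c = id` on `S`
(`w⁴ ∈ S`).  `I := {x ∈ S | c x = x⁻¹}` is a subgroup.  From `c ≠ id` get `z = x (c x)⁻¹ ≠ 1` in `I`;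
`b z ∈ I`, and `b z ∉ ⟨z⟩` (else `c z = z`, so `z = z⁻¹`, `z = 1`).  Hence `3 < |I|`, `|I| ∣ 9`, `I = S`.
-/

set_option autoImplicit false
set_option linter.unusedSectionVars false

namespace Cfsg.Agent.Lib.Helper42_S6_ROT

open Cfsg.Agent.Lib.Helper6_S6Defs Equiv Equiv.Perm

variable {G : Type*} [Group G] [Finite G] {S : Subgroup G}

/-- conjugation by an element of the normalizer maps `S` to `S` -/
theorem h42_conj_mem (n : ↥(Subgroup.normalizer (S : Set G))) {x : G} (hx : x ∈ S) :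
    (n : G) * x * (n : G)⁻¹ ∈ S :=
  (Subgroup.mem_normalizer_iff.mp n.2 x).mp hx

/-- an element of order dividing 3 which is its own inverse is trivial -/
theorem h42_eq_one_of_inv {z : G} (h3 : z ^ 3 = 1) (hinv : z = z⁻¹) : z = 1 := by
  have h2 : z * z = 1 := by nth_rewrite 2 [hinv]; exact mul_inv_cancel z
  have e : z ^ 3 = z * z * z := by rw [pow_succ, pow_two]
  rw [e, h2, one_mul] at h3
  exact h3

/-- the subgroup of the elements of `S` inverted by conjugation with `g` (for abelian `S`) -/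
def invSub (S : Subgroup G) (hcomm : ∀ a ∈ S, ∀ b ∈ S, a * b = b * a) (g : G) : Subgroup G where
  carrier := {x | x ∈ S ∧ g * x * g⁻¹ = x⁻¹}
  one_mem' := ⟨S.one_mem, by simp⟩
  mul_mem' := by
    rintro x y ⟨hx, hx'⟩ ⟨hy, hy'⟩
    refine ⟨S.mul_mem hx hy, ?_⟩
    have e : g * (x * y) * g⁻¹ = (g * x * g⁻¹) * (g * y * g⁻¹) := by group
    rw [e, hx', hy', mul_inv_rev]
    exact hcomm _ (S.inv_mem hx) _ (S.inv_mem hy)
  inv_mem' := by
    rintro x ⟨hx, hx'⟩
    refine ⟨S.inv_mem hx, ?_⟩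
    have e : g * x⁻¹ * g⁻¹ = (g * x * g⁻¹)⁻¹ := by group
    rw [e, hx']

theorem rot_inv (D : Setup G S) (n : ↥(Subgroup.normalizer (S : Set G)))
    (hn : D.π n = DihedralGroup.r 2) : ∀ x ∈ S, (n : G) * x * (n : G)⁻¹ = x⁻¹ := by
  obtain ⟨hcomm, hexp⟩ := Cfsg.Agent.Lib.Helper31_S6_ELEM.elem D
  obtain ⟨w, hw⟩ := D.surj (DihedralGroup.r 1)
  have hSN : S ≤ Subgroup.normalizer (S : Set G) := Subgroup.le_normalizer
  -- `π (w²) = r 2`
  have hw2 : D.π (w ^ 2) = DihedralGroup.r 2 := by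
    rw [map_pow, hw, pow_two, DihedralGroup.r_mul_r]; rfl
  -- `n = w² s` with `s ∈ S`
  have hs : (((w ^ 2)⁻¹ * n : ↥(Subgroup.normalizer (S : Set G))) : G) ∈ S := by
    rw [← D.ker, map_mul, map_inv, hw2, hn, inv_mul_cancel]
  set g : G := ((w ^ 2 : ↥(Subgroup.normalizer (S : Set G))) : G) with hg
  have hgw : g = (w : G) * (w : G) := by rw [hg, Subgroup.coe_pow, pow_two]
  -- `n` and `w²` act in the same way on `S`
  have hsame : ∀ x ∈ S, (n : G) * x * (n : G)⁻¹ = g * x * g⁻¹ := by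
    intro x hx
    set s : G := (((w ^ 2)⁻¹ * n : ↥(Subgroup.normalizer (S : Set G))) : G) with hsdef
    have hn' : (n : G) = g * s := by
      rw [hsdef, hg, Subgroup.coe_mul, Subgroup.coe_inv]; group
    have hsx : s * x * s⁻¹ = x := by
      rw [hcomm s hs x hx]; group
    have e : (n : G) * x * (n : G)⁻¹ = g * (s * x * s⁻¹) * g⁻¹ := by
      rw [hn']; group
    rw [e, hsx]
  -- conjugation by `g` maps `S` to `S`
  have hgS : ∀ x ∈ S, g * x * g⁻¹ ∈ S := fun x hx => h42_conj_mem (w ^ 2) hx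
  have hwS : ∀ x ∈ S, (w : G) * x * (w : G)⁻¹ ∈ S := fun x hx => h42_conj_mem w hx
  -- `c ∘ c = id` on `S`
  have hw4 : (((w ^ 4 : ↥(Subgroup.normalizer (S : Set G))) : G)) ∈ S := by
    rw [← D.ker, map_pow, hw]
    decide
  have hcc : ∀ x ∈ S, g * (g * x * g⁻¹) * g⁻¹ = x := by
    intro x hx
    set t : G := ((w ^ 4 : ↥(Subgroup.normalizer (S : Set G))) : G) with ht
    have e : g * (g * x * g⁻¹) * g⁻¹ = t * x * t⁻¹ := by
      rw [ht, hg, Subgroup.coe_pow, Subgroup.coe_pow]; group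
    rw [e, hcomm t hw4 x hx]; group
  -- `c ≠ id` on `S`
  have hne : ∃ x ∈ S, g * x * g⁻¹ ≠ x := by
    by_contra hcon
    push Not at hcon
    have hgc : g ∈ Subgroup.centralizer (S : Set G) := by
      rw [Subgroup.mem_centralizer_iff]
      intro x hx
      have := hcon x hx
      calc x * g = (g * x * g⁻¹) * g := by rw [this]
        _ = g * x := by group
    rw [D.cent] at hgc
    have h1 : D.π (w ^ 2) = 1 := (D.ker _).mpr hgc
    rw [hw2] at h1
    revert h1; decide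
  obtain ⟨x₀, hx₀, hx₀ne⟩ := hne
  -- the element `z`
  set z : G := x₀ * (g * x₀ * g⁻¹)⁻¹ with hz
  have hzS : z ∈ S := S.mul_mem hx₀ (S.inv_mem (hgS x₀ hx₀))
  have hz1 : z ≠ 1 := by
    intro h
    apply hx₀ne
    rw [hz, mul_inv_eq_one] at h
    exact h.symm
  have hzI : g * z * g⁻¹ = z⁻¹ := by
    have e : g * z * g⁻¹ = (g * x₀ * g⁻¹) * (g * (g * x₀ * g⁻¹) * g⁻¹)⁻¹ := by
      rw [hz]; group
    rw [e, hcc x₀ hx₀, hz, mul_inv_rev, inv_inv]
  have hz3 : z ^ 3 = 1 := hexp z hzS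
  -- the element `b z`
  set z' : G := (w : G) * z * (w : G)⁻¹ with hz'
  have hz'S : z' ∈ S := hwS z hzS
  have hz'I : g * z' * g⁻¹ = z'⁻¹ := by
    have e : g * z' * g⁻¹ = (w : G) * (g * z * g⁻¹) * (w : G)⁻¹ := by
      rw [hz', hgw]; group
    rw [e, hzI, hz']; group
  have hbb : (w : G) * z' * (w : G)⁻¹ = z⁻¹ := by
    have e : (w : G) * z' * (w : G)⁻¹ = g * z * g⁻¹ := by
      rw [hz', hgw]; group
    rw [e, hzI]
  have hz'1 : z' ≠ 1 := by
    intro h
    apply hz1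
    have : z = (w : G)⁻¹ * z' * (w : G) := by rw [hz']; group
    rw [this, h]; group
  have hz'z : z' ≠ z := by
    intro h
    rw [h] at hbb
    -- `w z w⁻¹ = z⁻¹` and `w z w⁻¹ = z' = z`
    have : z = z⁻¹ := by
      calc z = z' := h.symm
        _ = (w : G) * z * (w : G)⁻¹ := hz'
        _ = z⁻¹ := hbb
    exact hz1 (h42_eq_one_of_inv hz3 this)
  have hz'zi : z' ≠ z⁻¹ := by
    intro h
    -- `w z' w⁻¹ = w z⁻¹ w⁻¹ = (w z w⁻¹)⁻¹ = z'⁻¹ = z`, but it is `z⁻¹`
    have e : (w : G) * z' * (w : G)⁻¹ = z := by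
      rw [h]
      have e2 : (w : G) * z⁻¹ * (w : G)⁻¹ = ((w : G) * z * (w : G)⁻¹)⁻¹ := by group
      rw [e2, ← hz', h, inv_inv]
    rw [e] at hbb
    exact hz1 (h42_eq_one_of_inv hz3 hbb)
  -- the subgroup `I`
  set I : Subgroup G := invSub S hcomm g with hI
  have hIS : I ≤ S := fun x hx => hx.1
  have hzmem : z ∈ I := ⟨hzS, hzI⟩
  have hz'mem : z' ∈ I := ⟨hz'S, hz'I⟩
  have hzo : orderOf z = 3 := by
    have hd : orderOf z ∣ 3 := orderOf_dvd_of_pow_eq_one hz3
    rcases (Nat.dvd_prime Nat.prime_three).mp hd with h1 | h1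
    · exact absurd (orderOf_eq_one_iff.mp h1) hz1
    · exact h1
  have hZI : Subgroup.zpowers z ≤ I := by rwa [Subgroup.zpowers_le]
  -- `z' ∉ ⟨z⟩`
  have hz'not : z' ∉ Subgroup.zpowers z := by
    intro hmem
    have hfin : IsOfFinOrder z := by
      rw [← orderOf_pos_iff, hzo]; norm_num
    classical
    rw [← hfin.mem_powers_iff_mem_zpowers, hfin.mem_powers_iff_mem_range_orderOf, hzo,
      Finset.mem_image] at hmem
    obtain ⟨i, hi, hi'⟩ := hmem
    rw [Finset.mem_range] at hi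
    interval_cases i
    · exact hz'1 (by rw [← hi', pow_zero])
    · exact hz'z (by rw [← hi', pow_one])
    · apply hz'zi
      rw [← hi']
      apply eq_inv_of_mul_eq_one_left
      rw [← pow_succ]; exact hz3
  -- cardinalities
  have hcZ : Nat.card (Subgroup.zpowers z) = 3 := by rw [Nat.card_zpowers, hzo]
  have h3I : 3 ∣ Nat.card I := by
    rw [← hcZ]; exact Subgroup.card_dvd_of_le hZI
  have hI9 : Nat.card I ∣ 9 := by
    rw [← D.card]; exact Subgroup.card_dvd_of_le hIS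
  have hIne3 : Nat.card I ≠ 3 := by
    intro h
    have : Subgroup.zpowers z = I :=
      Subgroup.eq_of_le_of_card_ge hZI (by rw [hcZ, h])
    exact hz'not (this ▸ hz'mem)
  have hIcard : Nat.card I = 9 := by
    have hle : Nat.card I ≤ 9 := Nat.le_of_dvd (by norm_num) hI9
    have hpos : 0 < Nat.card I := Nat.card_pos
    interval_cases h : Nat.card I <;> omega
  have hIeq : I = S := Subgroup.eq_of_le_of_card_ge hIS (by rw [hIcard, D.card])
  intro x hx
  rw [hsame x hx]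
  have : x ∈ I := hIeq ▸ hx
  exact this.2

end Cfsg.Agent.Lib.Helper42_S6_ROT
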