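import Mathlib
import Cfsg.Agent.Lib.Helper6_S6Defs

/-!
# S3333 package ROTF (architect helper6, market `s6_packages`): auxiliary form  (helper42)

`rot_free_of` = ROTF with the statement of package ROT (`rot_inv`) as the hypothesis `hrot`
(ELEM is not needed: `x = x⁻¹` and `x ^ 9 = 1` give `x = 1`).  The verbatim `rot_free` is in
`Helper42_S6_ROTF`.
-/

set_option autoImplicit false

namespace Cfsg.Agent.Lib.Helper42_S6_ROTFaux

open Cfsg.Agent.Lib.Helper6_S6Defs Equiv Equiv.Perm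

variable {G : Type*} [Group G] [Finite G] {S : Subgroup G}

omit [Finite G] in
theorem rot_free_of (D : Setup G S)
    (hrot : ∀ n : ↥(Subgroup.normalizer (S : Set G)), D.π n = DihedralGroup.r 2 →
      ∀ x ∈ S, (n : G) * x * (n : G)⁻¹ = x⁻¹)
    (n : ↥(Subgroup.normalizer (S : Set G))) (i : ZMod 4)
    (hn : D.π n = DihedralGroup.r i) (hi : i ≠ 0) :
    ∀ x ∈ S, x ≠ 1 → (n : G) * x * (n : G)⁻¹ ≠ x := by
  intro x hx hx1 hfix
  have key : ∀ m : ↥(Subgroup.normalizer (S : Set G)), D.π m = DihedralGroup.r 2 →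
      (m : G) * x * (m : G)⁻¹ = x → False := by
    intro m hm hmx
    have h1 := hrot m hm x hx
    rw [hmx] at h1
    have h2 : x * x = 1 := by
      nth_rewrite 2 [h1]; exact mul_inv_cancel x
    have h9 : x ^ 9 = 1 := by
      have h := pow_card_eq_one' (G := S) (x := ⟨x, hx⟩)
      rw [D.card] at h
      have := congrArg (Subtype.val) h
      simpa using this
    apply hx1
    have h9' : x ^ 9 = x := by
      have e : x ^ 9 = (x * x) ^ 4 * x := by
        rw [← pow_two, ← pow_mul]; exact pow_succ x 8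
      rw [e, h2, one_pow, one_mul]
    rw [← h9', h9]
  have hsq : ((n ^ 2 : ↥(Subgroup.normalizer (S : Set G))) : G) * x *
      ((n ^ 2 : ↥(Subgroup.normalizer (S : Set G))) : G)⁻¹ = x := by
    have e : ((n ^ 2 : ↥(Subgroup.normalizer (S : Set G))) : G) * x *
        ((n ^ 2 : ↥(Subgroup.normalizer (S : Set G))) : G)⁻¹ =
        (n : G) * ((n : G) * x * (n : G)⁻¹) * (n : G)⁻¹ := by
      rw [Subgroup.coe_pow, pow_two]; group
    rw [e, hfix, hfix]
  have hall : ∀ j : ZMod 4, j ≠ 0 → j = 1 ∨ j = 2 ∨ j = 3 := by decide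
  have hi' : i = 1 ∨ i = 2 ∨ i = 3 := hall i hi
  rcases hi' with rfl | rfl | rfl
  · refine key (n ^ 2) ?_ hsq
    rw [map_pow, hn, pow_two, DihedralGroup.r_mul_r]; rfl
  · exact key n hn hfix
  · refine key (n ^ 2) ?_ hsq
    rw [map_pow, hn, pow_two, DihedralGroup.r_mul_r]; rfl

end Cfsg.Agent.Lib.Helper42_S6_ROTFaux
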