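import Mathlib
import Cfsg.Agent.Lib.Helper6_S6Defs
import Cfsg.Agent.Lib.Helper42_S6_ROT
import Cfsg.Agent.Lib.Helper42_S6_ROTFaux

/-!
# S3333 package ROTF (architect helper6, market `s6_packages`): verbatim `rot_free`  (helper42)
-/

set_option autoImplicit false

namespace Cfsg.Agent.Lib.Helper42_S6_ROTF

open Cfsg.Agent.Lib.Helper6_S6Defs Equiv Equiv.Perm

variable {G : Type*} [Group G] [Finite G] {S : Subgroup G}

theorem rot_free (D : Setup G S) (n : ↥(Subgroup.normalizer (S : Set G))) (i : ZMod 4)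
    (hn : D.π n = DihedralGroup.r i) (hi : i ≠ 0) :
    ∀ x ∈ S, x ≠ 1 → (n : G) * x * (n : G)⁻¹ ≠ x :=
  Cfsg.Agent.Lib.Helper42_S6_ROTFaux.rot_free_of D
    (fun n hn => Cfsg.Agent.Lib.Helper42_S6_ROT.rot_inv D n hn) n i hn hi

end Cfsg.Agent.Lib.Helper42_S6_ROTF
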