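import Mathlib

namespace Cfsg.Agent.Helper42SLTwoOrders

open Matrix

theorem card_dvd_of_free {G X : Type*} [Group G] [MulAction G X] [Finite G] [Finite X]
    (hfree : ∀ (g : G) (x : X), g • x = x → g = 1) : Nat.card G ∣ Nat.card X := by
  classical
  have e := MulAction.selfEquivSigmaOrbitsQuotientStabilizer G X
  have : Fintype (Quotient (MulAction.orbitRel G X)) := Fintype.ofFinite _
  rw [Nat.card_congr e, Nat.card_sigma]
  apply Finset.dvd_sum
  intro ω _
  have hst : MulAction.stabilizer G (Quotient.out ω) = ⊥ := by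
    rw [eq_bot_iff]
    intro g hg
    rw [Subgroup.mem_bot]
    exact hfree g _ (MulAction.mem_stabilizer_iff.1 hg)
  rw [← Subgroup.index_eq_card, hst, Subgroup.index_bot]

variable {F : Type*} [Field F] [Fintype F] {n : ℕ}

theorem mulVec_pow_fix (M : Matrix (Fin n) (Fin n) F) (v : Fin n → F) (h : M *ᵥ v = v) (e : ℕ) :
    (M ^ e) *ᵥ v = v := by
  induction e with
  | zero => simp
  | succ e ih => rw [pow_succ, ← Matrix.mulVec_mulVec, h, ih]

/-- the action of `zpowers A` on the vectors not fixed by `B`. -/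
@[reducible]
def actX (A : Matrix.SpecialLinearGroup (Fin n) F) (B : Matrix.SpecialLinearGroup (Fin n) F)
    (hB : B ∈ Subgroup.zpowers A) :
    MulAction (Subgroup.zpowers A)
      {v : Fin n → F // ¬ ((B : Matrix (Fin n) (Fin n) F) *ᵥ v = v)} where
  smul g v := ⟨((g : Matrix.SpecialLinearGroup (Fin n) F) : Matrix (Fin n) (Fin n) F) *ᵥ v.1, by
    intro h
    apply v.2
    have hcomm : (B : Matrix.SpecialLinearGroup (Fin n) F) * g.1 = g.1 * B := by
      obtain ⟨i, hi⟩ := Subgroup.mem_zpowers_iff.1 hB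
      obtain ⟨j, hj⟩ := Subgroup.mem_zpowers_iff.1 g.2
      rw [← hi, ← hj, ← _root_.zpow_add, ← _root_.zpow_add, add_comm]
    have hcomm' : (B : Matrix (Fin n) (Fin n) F) * (g.1 : Matrix (Fin n) (Fin n) F)
        = (g.1 : Matrix (Fin n) (Fin n) F) * (B : Matrix (Fin n) (Fin n) F) := by
      rw [← Matrix.SpecialLinearGroup.coe_mul, ← Matrix.SpecialLinearGroup.coe_mul, hcomm]
    have hinv : ((g.1⁻¹ : Matrix.SpecialLinearGroup (Fin n) F) : Matrix (Fin n) (Fin n) F)
        * (g.1 : Matrix (Fin n) (Fin n) F) = 1 := by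
      rw [← Matrix.SpecialLinearGroup.coe_mul, inv_mul_cancel, Matrix.SpecialLinearGroup.coe_one]
    have h1 : (g.1 : Matrix (Fin n) (Fin n) F) *ᵥ ((B : Matrix (Fin n) (Fin n) F) *ᵥ v.1)
        = (g.1 : Matrix (Fin n) (Fin n) F) *ᵥ v.1 := by
      rw [Matrix.mulVec_mulVec, ← hcomm', ← Matrix.mulVec_mulVec, h]
    have cancel : ∀ w : Fin n → F, ((g.1⁻¹ : Matrix.SpecialLinearGroup (Fin n) F) :
        Matrix (Fin n) (Fin n) F) *ᵥ ((g.1 : Matrix (Fin n) (Fin n) F) *ᵥ w) = w := fun w => by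
      rw [Matrix.mulVec_mulVec, hinv, Matrix.one_mulVec]
    have h2 := congrArg (fun w => ((g.1⁻¹ : Matrix.SpecialLinearGroup (Fin n) F) :
      Matrix (Fin n) (Fin n) F) *ᵥ w) h1
    simp only [cancel] at h2
    exact h2⟩
  one_smul v := by
    apply Subtype.ext
    show ((1 : Matrix.SpecialLinearGroup (Fin n) F) : Matrix (Fin n) (Fin n) F) *ᵥ v.1 = v.1
    rw [Matrix.SpecialLinearGroup.coe_one, Matrix.one_mulVec]
  mul_smul g h v := by
    apply Subtype.ext
    show ((g.1 * h.1 : Matrix.SpecialLinearGroup (Fin n) F) : Matrix (Fin n) (Fin n) F) *ᵥ v.1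
      = (g.1 : Matrix (Fin n) (Fin n) F) *ᵥ ((h.1 : Matrix (Fin n) (Fin n) F) *ᵥ v.1)
    rw [Matrix.SpecialLinearGroup.coe_mul, Matrix.mulVec_mulVec]

theorem card_fix (hF : Fintype.card F = 2) (B : Matrix (Fin n) (Fin n) F) :
    ∃ u, u ≤ n ∧ Nat.card {v : Fin n → F // B *ᵥ v = v} = 2 ^ u := by
  classical
  let W : Submodule F (Fin n → F) := LinearMap.ker (Matrix.toLin' B - 1)
  have hW : ∀ v, v ∈ W ↔ B *ᵥ v = v := by
    intro v
    simp only [W, LinearMap.mem_ker, LinearMap.sub_apply, Matrix.toLin'_apply, Module.End.one_apply,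
      sub_eq_zero]
  refine ⟨Module.finrank F W, ?_, ?_⟩
  · have := Submodule.finrank_le W
    simpa using this
  · have h1 : Nat.card {v : Fin n → F // B *ᵥ v = v} = Nat.card W := by
      apply Nat.card_congr
      exact Equiv.subtypeEquivRight (fun v => (hW v).symm)
    rw [h1, Module.natCard_eq_pow_finrank (K := F) (V := W), Nat.card_eq_fintype_card, hF]

theorem odd_prime_pow_dvd (hF : Fintype.card F = 2) (A : Matrix.SpecialLinearGroup (Fin n) F)
    (r a : ℕ) (hr : r.Prime) (hr2 : r ≠ 2) (ha : 0 < a) (hA : orderOf A = r ^ a) :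
    ∃ d0, 0 < d0 ∧ d0 ≤ n ∧ r ^ a ∣ 2 ^ d0 - 1 := by
  classical
  set B : Matrix.SpecialLinearGroup (Fin n) F := A ^ (r ^ (a - 1)) with hB
  have hBmem : B ∈ Subgroup.zpowers A := Subgroup.pow_mem _ (Subgroup.mem_zpowers A) _
  have hBr : B ^ r = 1 := by
    rw [hB, ← pow_mul, ← pow_succ, Nat.sub_add_cancel ha, ← hA, pow_orderOf_eq_one]
  have hB1 : B ≠ 1 := by
    intro h
    have h1 := orderOf_dvd_of_pow_eq_one h
    rw [hA] at h1
    have h2 := (Nat.pow_dvd_pow_iff_le_right hr.one_lt).1 h1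
    omega
  have : Fact r.Prime := ⟨hr⟩
  have hBo : orderOf B = r := orderOf_eq_prime hBr hB1
  letI := actX A B hBmem
  have hfree : ∀ (g : Subgroup.zpowers A)
      (x : {v : Fin n → F // ¬ ((B : Matrix (Fin n) (Fin n) F) *ᵥ v = v)}), g • x = x → g = 1 := by
    intro g x hgx
    by_contra hg1
    have hgx' : ((g : Matrix.SpecialLinearGroup (Fin n) F) : Matrix (Fin n) (Fin n) F) *ᵥ x.1 = x.1 :=
      congrArg Subtype.val hgx
    obtain ⟨j, hj⟩ := (Submonoid.mem_powers_iff _ _).1 ((mem_powers_iff_mem_zpowers).2 g.2)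
    have hj1 : A ^ j ≠ 1 := by
      rw [hj]
      intro h
      exact hg1 (Subtype.ext h)
    have hj0 : j ≠ 0 := by
      rintro rfl
      exact hj1 (pow_zero A)
    have hndvd : ¬ r ^ a ∣ j := by
      intro h
      apply hj1
      rw [← hA] at h
      exact orderOf_dvd_iff_pow_eq_one.1 h
    set c := j.factorization r with hc
    have hca : c < a := by
      by_contra hca
      rw [not_lt] at hca
      exact hndvd ((pow_dvd_pow r hca).trans (Nat.ordProj_dvd j r))
    have hcop : Nat.Coprime (j / r ^ c) (orderOf B) := by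
      rw [hBo]
      exact (Nat.coprime_ordCompl hr hj0).symm
    obtain ⟨m, hm⟩ := exists_pow_eq_self_of_coprime hcop
    have hkey : B = (g : Matrix.SpecialLinearGroup (Fin n) F) ^ (r ^ (a - 1 - c) * m) := by
      rw [← hj, pow_mul, ← pow_mul A]
      have h1 : j * r ^ (a - 1 - c) = r ^ (a - 1) * (j / r ^ c) := by
        have h2 : r ^ c * (j / r ^ c) = j := Nat.ordProj_mul_ordCompl_eq_self j r
        have h3 : r ^ (a - 1) = r ^ c * r ^ (a - 1 - c) := by
          rw [← pow_add]
          congr 1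
          omega
        rw [h3]
        nth_rewrite 1 [← h2]
        ring
      rw [h1, pow_mul, ← hB, hm]
    apply x.2
    have hkey' : (B : Matrix (Fin n) (Fin n) F)
        = ((g : Matrix.SpecialLinearGroup (Fin n) F) : Matrix (Fin n) (Fin n) F)
          ^ (r ^ (a - 1 - c) * m) := by
      rw [← Matrix.SpecialLinearGroup.coe_pow]
      exact congrArg (fun M : Matrix.SpecialLinearGroup (Fin n) F =>
        (M : Matrix (Fin n) (Fin n) F)) hkey
    have h5 := mulVec_pow_fix _ _ hgx' (r ^ (a - 1 - c) * m)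
    rw [← hkey'] at h5
    exact h5
  have hdvd := card_dvd_of_free hfree
  rw [Nat.card_zpowers, hA] at hdvd
  obtain ⟨u, hu, hcard⟩ := card_fix hF (B : Matrix (Fin n) (Fin n) F)
  have hX : Nat.card {v : Fin n → F // ¬ ((B : Matrix (Fin n) (Fin n) F) *ᵥ v = v)}
      = 2 ^ n - 2 ^ u := by
    rw [Nat.card_eq_fintype_card, Fintype.card_subtype_compl, ← Nat.card_eq_fintype_card,
      ← Nat.card_eq_fintype_card, hcard, Nat.card_eq_fintype_card, Fintype.card_fun, hF,
      Fintype.card_fin]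
  have hne : ∃ v : Fin n → F, ¬ ((B : Matrix (Fin n) (Fin n) F) *ᵥ v = v) := by
    by_contra hall
    push Not at hall
    apply hB1
    apply Subtype.ext
    rw [Matrix.SpecialLinearGroup.coe_one]
    apply Matrix.toLin'.injective
    apply LinearMap.ext
    intro v
    rw [Matrix.toLin'_apply, hall v, Matrix.toLin'_one]
    rfl
  have hXpos : 0 < Nat.card {v : Fin n → F // ¬ ((B : Matrix (Fin n) (Fin n) F) *ᵥ v = v)} := by
    obtain ⟨v, hv⟩ := hne
    haveI : Nonempty {v : Fin n → F // ¬ ((B : Matrix (Fin n) (Fin n) F) *ᵥ v = v)} := ⟨⟨v, hv⟩⟩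
    exact Nat.card_pos
  rw [hX] at hXpos hdvd
  have hun : u < n := by
    by_contra h
    rw [not_lt] at h
    have := Nat.pow_le_pow_right (show 0 < 2 by norm_num) h
    omega
  refine ⟨n - u, by omega, by omega, ?_⟩
  have h1 : 2 ^ n - 2 ^ u = 2 ^ u * (2 ^ (n - u) - 1) := by
    rw [Nat.mul_sub, ← pow_add, mul_one]
    congr 2
    omega
  rw [h1] at hdvd
  have hcop : Nat.Coprime (r ^ a) (2 ^ u) := by
    apply Nat.Coprime.pow
    exact (Nat.coprime_primes hr Nat.prime_two).2 hr2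
  exact hcop.dvd_of_dvd_mul_left hdvd


/-! ## Singer-type elements -/

theorem eq_one_of_ne_zero (hF : Fintype.card F = 2) {x : F} (hx : x ≠ 0) : x = 1 := by
  classical
  have h1 : Fintype.card Fˣ = 1 := by rw [Fintype.card_units, hF]
  have h2 : Subsingleton Fˣ := Fintype.card_le_one_iff_subsingleton.1 h1.le
  have h3 : Units.mk0 x hx = 1 := Subsingleton.elim _ _
  exact congrArg Units.val h3

/-- the monoid hom `K →* End_F(K × W)`, `x ↦ (x·) × id` -/
noncomputable def psi (K W : Type*) [Field K] [Algebra F K] [AddCommGroup W] [Module F W] :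
    K →* Module.End F (K × W) where
  toFun x := LinearMap.prodMap (LinearMap.mulLeft F x) LinearMap.id
  map_one' := by
    apply LinearMap.ext
    intro v
    apply Prod.ext <;> simp
  map_mul' x y := by
    apply LinearMap.ext
    intro v
    apply Prod.ext <;> simp

theorem psi_injective (K W : Type*) [Field K] [Algebra F K] [AddCommGroup W] [Module F W] :
    Function.Injective (psi (F := F) K W) := by
  intro x y h
  have := congrArg (fun T : Module.End F (K × W) => (T (1, 0)).1) h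
  simpa [psi] using this

theorem exists_singer (hF : Fintype.card F = 2) (d : ℕ) (hd : 0 < d) (hdn : d ≤ n) :
    ∃ g : Matrix.SpecialLinearGroup (Fin n) F, orderOf g = 2 ^ d - 1 := by
  classical
  haveI : Fact (Nat.Prime 2) := ⟨Nat.prime_two⟩
  haveI : CharP F 2 := charP_of_card_eq_prime hF
  haveI : NeZero d := ⟨hd.ne'⟩
  let K := FiniteField.Extension F 2 d
  have hKcard : Nat.card K = 2 ^ d := by
    rw [FiniteField.natCard_extension, Nat.card_eq_fintype_card, hF]
  obtain ⟨ζ, hζ⟩ := IsCyclic.exists_ofOrder_eq_natCard (α := Kˣ)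
  rw [Nat.card_units, hKcard] at hζ
  have hζ' : orderOf (ζ : K) = 2 ^ d - 1 := by rw [orderOf_units, hζ]
  let W := Fin (n - d) → F
  have hψ : orderOf (psi (F := F) K W (ζ : K)) = 2 ^ d - 1 := by
    rw [orderOf_injective _ (psi_injective K W), hζ']
  have hfin : Module.finrank F (K × W) = n := by
    rw [Module.finrank_prod, FiniteField.finrank_extension, Module.finrank_fin_fun]
    omega
  let b := Module.finBasisOfFinrankEq F (K × W) hfin
  let e := LinearMap.toMatrixAlgEquiv b
  set M : Matrix (Fin n) (Fin n) F := e (psi (F := F) K W (ζ : K)) with hM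
  have hMo : orderOf M = 2 ^ d - 1 := by
    rw [← hψ]
    apply orderOf_eq_orderOf_iff.2
    intro k
    rw [hM, ← map_pow]
    constructor
    · intro h
      apply e.injective
      rw [h, map_one]
    · intro h
      rw [h, map_one]
  have hpos : 0 < 2 ^ d - 1 := by
    have : 2 ^ 1 ≤ 2 ^ d := Nat.pow_le_pow_right (by norm_num) hd
    omega
  have hMpow : M ^ (2 ^ d - 1) = 1 := by rw [← hMo, pow_orderOf_eq_one]
  have hdet : M.det = 1 := by
    apply eq_one_of_ne_zero hF
    intro h0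
    have := congrArg Matrix.det hMpow
    rw [Matrix.det_pow, h0, zero_pow hpos.ne', Matrix.det_one] at this
    exact zero_ne_one this
  let g : Matrix.SpecialLinearGroup (Fin n) F := ⟨M, hdet⟩
  refine ⟨g, ?_⟩
  rw [← hMo]
  apply orderOf_eq_orderOf_iff.2
  intro k
  have hk : ((g ^ k : Matrix.SpecialLinearGroup (Fin n) F) : Matrix (Fin n) (Fin n) F) = M ^ k :=
    Matrix.SpecialLinearGroup.coe_pow _ _
  constructor
  · intro h
    rw [← hk, h, Matrix.SpecialLinearGroup.coe_one]
  · intro h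
    apply Subtype.ext
    rw [hk, h, Matrix.SpecialLinearGroup.coe_one]

/-! ## `PSL_n(F_2) = SL_n(F_2)` -/

theorem center_eq_bot (hF : Fintype.card F = 2) (hn : 0 < n) :
    Subgroup.center (Matrix.SpecialLinearGroup (Fin n) F) = ⊥ := by
  classical
  rw [eq_bot_iff]
  intro A hA
  rw [Matrix.SpecialLinearGroup.mem_center_iff] at hA
  obtain ⟨r, hr, hrA⟩ := hA
  rw [Subgroup.mem_bot]
  have hr0 : r ≠ 0 := by
    intro h0
    rw [h0, Fintype.card_fin, zero_pow hn.ne'] at hr
    exact zero_ne_one hr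
  have hr1 : r = 1 := eq_one_of_ne_zero hF hr0
  apply Subtype.ext
  rw [← hrA, hr1, map_one, Matrix.SpecialLinearGroup.coe_one]

theorem mk_injective (hF : Fintype.card F = 2) (hn : 0 < n) :
    Function.Injective
      (QuotientGroup.mk' (Subgroup.center (Matrix.SpecialLinearGroup (Fin n) F))) := by
  rw [← MonoidHom.ker_eq_bot_iff, QuotientGroup.ker_mk', center_eq_bot hF hn]

theorem exists_large_mult (n d0 : ℕ) (h0 : 0 < d0) (h1 : d0 ≤ n) :
    ∃ d, n / 2 < d ∧ d ≤ n ∧ d0 ∣ d := by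
  refine ⟨d0 * (n / d0), ?_, Nat.mul_div_le n d0, dvd_mul_right _ _⟩
  have h2 : 0 < n / d0 := Nat.div_pos h1 h0
  have h3 := Nat.div_add_mod n d0
  have h4 := Nat.mod_lt n h0
  have h5 : d0 ≤ d0 * (n / d0) := Nat.le_mul_of_pos_right _ h2
  omega

/-- element orders of odd prime power order in `PSL_n(F_2)` divide `2^d - 1` for some
`n/2 < d ≤ n`. -/
theorem psl_odd_prime_pow_dvd (hF : Fintype.card F = 2) (hn : 0 < n)
    (h : Matrix.ProjectiveSpecialLinearGroup (Fin n) F) (r a : ℕ) (hr : r.Prime) (hr2 : r ≠ 2)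
    (ha : 0 < a) (ho : orderOf h = r ^ a) : ∃ d, n / 2 < d ∧ d ≤ n ∧ r ^ a ∣ 2 ^ d - 1 := by
  obtain ⟨A, rfl⟩ := QuotientGroup.mk'_surjective
    (Subgroup.center (Matrix.SpecialLinearGroup (Fin n) F)) h
  rw [orderOf_injective _ (mk_injective hF hn)] at ho
  obtain ⟨d0, h0, h1, h2⟩ := odd_prime_pow_dvd hF A r a hr hr2 ha ho
  obtain ⟨d, hd1, hd2, hd3⟩ := exists_large_mult n d0 h0 h1
  exact ⟨d, hd1, hd2, h2.trans (Nat.pow_sub_one_dvd_pow_sub_one 2 hd3)⟩

theorem psl_exists_singer (hF : Fintype.card F = 2) (hn : 0 < n) (d : ℕ) (hd : 0 < d)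
    (hdn : d ≤ n) :
    ∃ g : Matrix.ProjectiveSpecialLinearGroup (Fin n) F, orderOf g = 2 ^ d - 1 := by
  obtain ⟨g, hg⟩ := exists_singer (F := F) (n := n) hF d hd hdn
  refine ⟨QuotientGroup.mk' (Subgroup.center (Matrix.SpecialLinearGroup (Fin n) F)) g, ?_⟩
  rw [orderOf_injective _ (mk_injective hF hn), hg]

end Cfsg.Agent.Helper42SLTwoOrders
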