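import Mathlib
import Cfsg.Statements.S5971
import Cfsg.Agent.Lib.Helper42_CubeNF
import Cfsg.Agent.Lib.Helper42_FieldSub

set_option autoImplicit false

/-!
# Elements of order 3 of `SL₃(F)` and the normalizer of a Singer cycle

(helper42) For S5971.
-/

namespace Cfsg.Agent.Helper42Singer3

open Matrix Cfsg
open Cfsg.Agent.Helper42CubeNF Cfsg.Agent.Helper42FieldSub
open scoped MatrixGroups

variable {F : Type*} [Field F]

/-- the subgroup `H` of the statement -/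
abbrev HH (K : Subalgebra F (Matrix (Fin 3) (Fin 3) F)) : Subgroup (Matrix.SpecialLinearGroup (Fin 3) F) :=
  (Cfsg.Geo.subalgebraNormalizer K).comap
    (Matrix.SpecialLinearGroup.toGL : Matrix.SpecialLinearGroup (Fin 3) F →* GL (Fin 3) F)

/-- An element of `SL₃` with two independent eigenvectors for one eigenvalue, not scalar, has no
conjugate in `H`. -/
theorem not_conj_of_double_eigen (K : Subalgebra F (Matrix (Fin 3) (Fin 3) F))
    (hK : Cfsg.Geo.IsFieldSubalgebra 3 K) (x : Matrix.SpecialLinearGroup (Fin 3) F) (l : F)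
    (v w : Fin 3 → F) (hv : v ≠ 0) (hw : ∀ c : F, w ≠ c • v)
    (hxv : (x : Matrix (Fin 3) (Fin 3) F) *ᵥ v = l • v) (hxw : (x : Matrix (Fin 3) (Fin 3) F) *ᵥ w = l • w)
    (hns : ∀ z : F, (x : Matrix (Fin 3) (Fin 3) F) ≠ z • (1 : Matrix (Fin 3) (Fin 3) F))
    (P : Matrix.SpecialLinearGroup (Fin 3) F) : P⁻¹ * x * P ∉ HH K := by
  intro hmem
  rw [Subgroup.mem_comap] at hmem
  set y : Matrix.SpecialLinearGroup (Fin 3) F := P⁻¹ * x * P with hy
  have hPP : (P : Matrix (Fin 3) (Fin 3) F) * ((P⁻¹ : Matrix.SpecialLinearGroup (Fin 3) F) : Matrix (Fin 3) (Fin 3) F) = 1 := by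
    rw [← Matrix.SpecialLinearGroup.coe_mul, mul_inv_cancel, Matrix.SpecialLinearGroup.coe_one]
  have hPP' : ((P⁻¹ : Matrix.SpecialLinearGroup (Fin 3) F) : Matrix (Fin 3) (Fin 3) F) * (P : Matrix (Fin 3) (Fin 3) F) = 1 := by
    rw [← Matrix.SpecialLinearGroup.coe_mul, inv_mul_cancel, Matrix.SpecialLinearGroup.coe_one]
  have hyv : ∀ u : Fin 3 → F, (x : Matrix (Fin 3) (Fin 3) F) *ᵥ u = l • u →
      ((Matrix.SpecialLinearGroup.toGL y : GL (Fin 3) F) : Matrix (Fin 3) (Fin 3) F) *ᵥ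
        (((P⁻¹ : Matrix.SpecialLinearGroup (Fin 3) F) : Matrix (Fin 3) (Fin 3) F) *ᵥ u) =
        l • (((P⁻¹ : Matrix.SpecialLinearGroup (Fin 3) F) : Matrix (Fin 3) (Fin 3) F) *ᵥ u) := by
    intro u hu
    rw [Matrix.SpecialLinearGroup.coe_GL_coe_matrix, hy, Matrix.SpecialLinearGroup.coe_mul,
      Matrix.SpecialLinearGroup.coe_mul, Matrix.mulVec_mulVec, mul_assoc, mul_assoc, hPP, mul_one,
      ← Matrix.mulVec_mulVec, hu, Matrix.mulVec_smul]
  have hinj : ∀ u : Fin 3 → F,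
      (P : Matrix (Fin 3) (Fin 3) F) *ᵥ (((P⁻¹ : Matrix.SpecialLinearGroup (Fin 3) F) : Matrix (Fin 3) (Fin 3) F) *ᵥ u) = u := by
    intro u
    rw [Matrix.mulVec_mulVec, hPP, Matrix.one_mulVec]
  have hsc := scalar_of_two_eigen K (by norm_num) hK (Matrix.SpecialLinearGroup.toGL y) hmem l
    (((P⁻¹ : Matrix.SpecialLinearGroup (Fin 3) F) : Matrix (Fin 3) (Fin 3) F) *ᵥ v)
    (((P⁻¹ : Matrix.SpecialLinearGroup (Fin 3) F) : Matrix (Fin 3) (Fin 3) F) *ᵥ w)
    (by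
      intro h
      apply hv
      rw [← hinj v, h, Matrix.mulVec_zero])
    (by
      intro c h
      apply hw c
      rw [← hinj w, h, Matrix.mulVec_smul, hinj])
    (hyv v hxv) (hyv w hxw)
  apply hns l
  rw [Matrix.SpecialLinearGroup.coe_GL_coe_matrix, hy, Matrix.SpecialLinearGroup.coe_mul,
    Matrix.SpecialLinearGroup.coe_mul] at hsc
  calc (x : Matrix (Fin 3) (Fin 3) F)
      = (P : Matrix (Fin 3) (Fin 3) F) * (((P⁻¹ : Matrix.SpecialLinearGroup (Fin 3) F) : Matrix (Fin 3) (Fin 3) F) * x * P) *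
          ((P⁻¹ : Matrix.SpecialLinearGroup (Fin 3) F) : Matrix (Fin 3) (Fin 3) F) := by
        rw [← mul_assoc, ← mul_assoc, hPP, one_mul, mul_assoc, hPP, mul_one]
    _ = l • (1 : Matrix (Fin 3) (Fin 3) F) := by
        rw [hsc, Matrix.mul_smul, Matrix.smul_mul, mul_one, hPP]

/-- `H` contains a non-scalar element of cube one. -/
theorem exists_std_mem [Fintype F] (K : Subalgebra F (Matrix (Fin 3) (Fin 3) F))
    (hK : Cfsg.Geo.IsFieldSubalgebra 3 K) :
    ∃ y : Matrix.SpecialLinearGroup (Fin 3) F, y ∈ HH K ∧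
      (y : Matrix (Fin 3) (Fin 3) F) * (y : Matrix (Fin 3) (Fin 3) F) * (y : Matrix (Fin 3) (Fin 3) F) = 1 ∧
      ∀ c : F, (y : Matrix (Fin 3) (Fin 3) F) ≠ c • (1 : Matrix (Fin 3) (Fin 3) F) := by
  obtain ⟨g, hgN, hg3, hgdet, k, hk, hgk⟩ := exists_frobenius K (by norm_num) hK
  have hdet : (g : Matrix (Fin 3) (Fin 3) F).det = 1 := by
    rw [hgdet]; norm_num
  let y : Matrix.SpecialLinearGroup (Fin 3) F := ⟨(g : Matrix (Fin 3) (Fin 3) F), hdet⟩
  have hyval : (y : Matrix (Fin 3) (Fin 3) F) = (g : Matrix (Fin 3) (Fin 3) F) := rfl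
  refine ⟨y, ?_, ?_, ?_⟩
  · rw [Subgroup.mem_comap]
    have : Matrix.SpecialLinearGroup.toGL y = g := by
      apply Units.ext
      rfl
    rw [this]
    exact hgN
  · have := congrArg (fun u : GL (Fin 3) F => (u : Matrix (Fin 3) (Fin 3) F)) hg3
    simp only [Units.val_pow_eq_pow_val, Units.val_one] at this
    rw [hyval, ← this, pow_succ, pow_two]
  · intro c hc
    apply hgk
    rw [hyval] at hc
    have hgi : (g : Matrix (Fin 3) (Fin 3) F) * ((g⁻¹ : GL (Fin 3) F) : Matrix (Fin 3) (Fin 3) F) = 1 := by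
      rw [← Units.val_mul, mul_inv_cancel, Units.val_one]
    have hcomm : (g : Matrix (Fin 3) (Fin 3) F) * k = k * (g : Matrix (Fin 3) (Fin 3) F) := by
      rw [hc, Matrix.smul_mul, one_mul, Matrix.mul_smul, mul_one]
    rw [hcomm, mul_assoc, hgi, mul_one]

/-- In characteristic `≠ 3` every non-scalar element of `SL₃(F)` of cube one is conjugate into `H`. -/
theorem exists_conj_mem [Fintype F] (K : Subalgebra F (Matrix (Fin 3) (Fin 3) F))
    (hK : Cfsg.Geo.IsFieldSubalgebra 3 K) (h3ne : (3 : F) ≠ 0)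
    (x : Matrix.SpecialLinearGroup (Fin 3) F)
    (hx3 : (x : Matrix (Fin 3) (Fin 3) F) * (x : Matrix (Fin 3) (Fin 3) F) * (x : Matrix (Fin 3) (Fin 3) F) = 1)
    (hns : ∀ c : F, (x : Matrix (Fin 3) (Fin 3) F) ≠ c • (1 : Matrix (Fin 3) (Fin 3) F)) :
    ∃ P : Matrix.SpecialLinearGroup (Fin 3) F, P⁻¹ * x * P ∈ HH K := by
  obtain ⟨y, hyH, hy3, hyns⟩ := exists_std_mem K hK
  obtain ⟨R, hRdet, hR⟩ := exists_sl_conj_of_cube_one h3ne (x : Matrix (Fin 3) (Fin 3) F)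
    (y : Matrix (Fin 3) (Fin 3) F) hx3 x.2 hns hy3 y.2 hyns
  let P : Matrix.SpecialLinearGroup (Fin 3) F := ⟨R, hRdet⟩
  have hPval : (P : Matrix (Fin 3) (Fin 3) F) = R := rfl
  refine ⟨P, ?_⟩
  have : P⁻¹ * x * P = y := by
    rw [mul_assoc, inv_mul_eq_iff_eq_mul]
    apply Subtype.ext
    simp only [Matrix.SpecialLinearGroup.coe_mul]
    rw [hPval]
    exact hR
  rw [this]
  exact hyH

end Cfsg.Agent.Helper42Singer3
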