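import Mathlib
import Cfsg.Statements.S5970
import Cfsg.Agent.Lib.Helper42_FieldSub
import Cfsg.Agent.Lib.Helper42_CyclicConj
import Cfsg.Agent.Lib.Helper99_SingerEmb

set_option autoImplicit false

/-!
# Elements of prime order `n` of `SL_n(F)` and the normalizer of a Singer cycle

(helper42) For S5970.
-/

namespace Cfsg.Agent.Helper42SingerN

open Matrix Cfsg
open Cfsg.Agent.Helper42FieldSub Cfsg.Agent.Helper42CyclicConj Cfsg.Agent.Lib.Helper99_SingerEmb
open scoped MatrixGroups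

variable {F : Type*} [Field F] {n : ℕ}

/-- the subgroup `H` of the statement -/
abbrev HH (K : Subalgebra F (Matrix (Fin n) (Fin n) F)) : Subgroup (Matrix.SpecialLinearGroup (Fin n) F) :=
  (Cfsg.Geo.subalgebraNormalizer K).comap
    (Matrix.SpecialLinearGroup.toGL : Matrix.SpecialLinearGroup (Fin n) F →* GL (Fin n) F)

/-- An element of `SL_n` with two independent eigenvectors for one eigenvalue, not scalar, has no
conjugate in `H`. -/
theorem not_conj_of_double_eigen (K : Subalgebra F (Matrix (Fin n) (Fin n) F)) (hn : n.Prime)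
    (hK : Cfsg.Geo.IsFieldSubalgebra n K) (x : Matrix.SpecialLinearGroup (Fin n) F) (l : F)
    (v w : Fin n → F) (hv : v ≠ 0) (hw : ∀ c : F, w ≠ c • v)
    (hxv : (x : Matrix (Fin n) (Fin n) F) *ᵥ v = l • v) (hxw : (x : Matrix (Fin n) (Fin n) F) *ᵥ w = l • w)
    (hns : ∀ z : F, (x : Matrix (Fin n) (Fin n) F) ≠ z • (1 : Matrix (Fin n) (Fin n) F))
    (P : Matrix.SpecialLinearGroup (Fin n) F) : P⁻¹ * x * P ∉ HH K := by
  intro hmem
  rw [Subgroup.mem_comap] at hmem
  set y : Matrix.SpecialLinearGroup (Fin n) F := P⁻¹ * x * P with hy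
  have hPP : (P : Matrix (Fin n) (Fin n) F) * ((P⁻¹ : Matrix.SpecialLinearGroup (Fin n) F) : Matrix (Fin n) (Fin n) F) = 1 := by
    rw [← Matrix.SpecialLinearGroup.coe_mul, mul_inv_cancel, Matrix.SpecialLinearGroup.coe_one]
  have hyv : ∀ u : Fin n → F, (x : Matrix (Fin n) (Fin n) F) *ᵥ u = l • u →
      ((Matrix.SpecialLinearGroup.toGL y : GL (Fin n) F) : Matrix (Fin n) (Fin n) F) *ᵥ
        (((P⁻¹ : Matrix.SpecialLinearGroup (Fin n) F) : Matrix (Fin n) (Fin n) F) *ᵥ u) =
        l • (((P⁻¹ : Matrix.SpecialLinearGroup (Fin n) F) : Matrix (Fin n) (Fin n) F) *ᵥ u) := by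
    intro u hu
    rw [Matrix.SpecialLinearGroup.coe_GL_coe_matrix, hy, Matrix.SpecialLinearGroup.coe_mul,
      Matrix.SpecialLinearGroup.coe_mul, Matrix.mulVec_mulVec, mul_assoc, mul_assoc, hPP, mul_one,
      ← Matrix.mulVec_mulVec, hu, Matrix.mulVec_smul]
  have hinj : ∀ u : Fin n → F,
      (P : Matrix (Fin n) (Fin n) F) *ᵥ (((P⁻¹ : Matrix.SpecialLinearGroup (Fin n) F) : Matrix (Fin n) (Fin n) F) *ᵥ u) = u := by
    intro u
    rw [Matrix.mulVec_mulVec, hPP, Matrix.one_mulVec]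
  have hsc := scalar_of_two_eigen K hn hK (Matrix.SpecialLinearGroup.toGL y) hmem l
    (((P⁻¹ : Matrix.SpecialLinearGroup (Fin n) F) : Matrix (Fin n) (Fin n) F) *ᵥ v)
    (((P⁻¹ : Matrix.SpecialLinearGroup (Fin n) F) : Matrix (Fin n) (Fin n) F) *ᵥ w)
    (by
      intro h
      apply hv
      rw [← hinj v, h, Matrix.mulVec_zero])
    (by
      intro c h
      apply hw c
      rw [← hinj w, h, Matrix.mulVec_smul, hinj])
    (hyv v hxv) (hyv w hxw)
  apply hns l
  rw [Matrix.SpecialLinearGroup.coe_GL_coe_matrix, hy, Matrix.SpecialLinearGroup.coe_mul,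
    Matrix.SpecialLinearGroup.coe_mul] at hsc
  calc (x : Matrix (Fin n) (Fin n) F)
      = (P : Matrix (Fin n) (Fin n) F) * (((P⁻¹ : Matrix.SpecialLinearGroup (Fin n) F) : Matrix (Fin n) (Fin n) F) * x * P) *
          ((P⁻¹ : Matrix.SpecialLinearGroup (Fin n) F) : Matrix (Fin n) (Fin n) F) := by
        rw [← mul_assoc, ← mul_assoc, hPP, one_mul, mul_assoc, hPP, mul_one]
    _ = l • (1 : Matrix (Fin n) (Fin n) F) := by
        rw [hsc, Matrix.mul_smul, Matrix.smul_mul, mul_one, hPP]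

/-- `H` contains a non-scalar element of order `n` (for `n` odd). -/
theorem exists_std_mem [Fintype F] (K : Subalgebra F (Matrix (Fin n) (Fin n) F)) (hn3 : 3 ≤ n)
    (hodd : Odd n) (hK : Cfsg.Geo.IsFieldSubalgebra n K) :
    ∃ y : Matrix.SpecialLinearGroup (Fin n) F, y ∈ HH K ∧
      (y : Matrix (Fin n) (Fin n) F) ^ n = 1 ∧
      ∀ c : F, (y : Matrix (Fin n) (Fin n) F) ≠ c • (1 : Matrix (Fin n) (Fin n) F) := by
  obtain ⟨g, hgN, hg3, hgdet, k, hk, hgk⟩ := exists_frobenius K (by omega) hK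
  have hdet : (g : Matrix (Fin n) (Fin n) F).det = 1 := by
    rw [hgdet]
    exact Even.neg_one_pow (Odd.add_one hodd)
  let y : Matrix.SpecialLinearGroup (Fin n) F := ⟨(g : Matrix (Fin n) (Fin n) F), hdet⟩
  have hyval : (y : Matrix (Fin n) (Fin n) F) = (g : Matrix (Fin n) (Fin n) F) := rfl
  refine ⟨y, ?_, ?_, ?_⟩
  · rw [Subgroup.mem_comap]
    have : Matrix.SpecialLinearGroup.toGL y = g := by
      apply Units.ext
      rfl
    rw [this]
    exact hgN
  · have := congrArg (fun u : GL (Fin n) F => (u : Matrix (Fin n) (Fin n) F)) hg3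
    simp only [Units.val_pow_eq_pow_val, Units.val_one] at this
    rw [hyval, this]
  · intro c hc
    apply hgk
    rw [hyval] at hc
    have hgi : (g : Matrix (Fin n) (Fin n) F) * ((g⁻¹ : GL (Fin n) F) : Matrix (Fin n) (Fin n) F) = 1 := by
      rw [← Units.val_mul, mul_inv_cancel, Units.val_one]
    have hcomm : (g : Matrix (Fin n) (Fin n) F) * k = k * (g : Matrix (Fin n) (Fin n) F) := by
      rw [hc, Matrix.smul_mul, one_mul, Matrix.mul_smul, mul_one]
    rw [hcomm, mul_assoc, hgi, mul_one]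

/-- If `q` has order `n - 1` modulo the prime `n`, every element of order `n` of `SL_n(F)` is conjugate
into `H`. -/
theorem exists_conj_mem [Fintype F] (K : Subalgebra F (Matrix (Fin n) (Fin n) F)) (hn : n.Prime)
    (hn3 : 3 ≤ n) (hK : Cfsg.Geo.IsFieldSubalgebra n K) (hn0 : (n : F) ≠ 0)
    (hq : ¬ n ∣ Fintype.card F) (hord : orderOf ((Fintype.card F : ℕ) : ZMod n) = n - 1)
    (x : Matrix.SpecialLinearGroup (Fin n) F)
    (hx : (x : Matrix (Fin n) (Fin n) F) ^ n = 1) (hx1 : (x : Matrix (Fin n) (Fin n) F) ≠ 1) :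
    ∃ P : Matrix.SpecialLinearGroup (Fin n) F, P⁻¹ * x * P ∈ HH K := by
  have hodd : Odd n := hn.odd_of_ne_two (by omega)
  obtain ⟨y, hyH, hyn, hyns⟩ := exists_std_mem K hn3 hodd hK
  have hy1 : (y : Matrix (Fin n) (Fin n) F) ≠ 1 := fun h => hyns 1 (by rw [h, one_smul])
  obtain ⟨v1, hv1⟩ := exists_cyclic hn hn3 hn0 hq hord (x : Matrix (Fin n) (Fin n) F) hx hx1
  obtain ⟨v2, hv2⟩ := exists_cyclic hn hn3 hn0 hq hord (y : Matrix (Fin n) (Fin n) F) hyn hy1
  obtain ⟨R, hRdet, hR⟩ := exists_sl_conj_of_cyclic hn0 (x : Matrix (Fin n) (Fin n) F)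
    (y : Matrix (Fin n) (Fin n) F) hx hyn v1 v2 hv1 hv2
  let P : Matrix.SpecialLinearGroup (Fin n) F := ⟨R, hRdet⟩
  have hPval : (P : Matrix (Fin n) (Fin n) F) = R := rfl
  refine ⟨P, ?_⟩
  have : P⁻¹ * x * P = y := by
    rw [mul_assoc, inv_mul_eq_iff_eq_mul]
    apply Subtype.ext
    simp only [Matrix.SpecialLinearGroup.coe_mul]
    rw [hPval]
    exact hR
  rw [this]
  exact hyH

theorem blk_apply_inl_inr {R : Type*} [CommRing R] {α β γ ι : Type*} [Fintype α] [Fintype β] [Fintype γ]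
    [Fintype ι] [DecidableEq α] [DecidableEq β] [DecidableEq γ] [DecidableEq ι]
    (e : (α ⊕ β) ⊕ γ ≃ ι) (A : Matrix α α R) (B : Matrix β β R) (s : α ⊕ β) (k : γ) :
    blk e A B (e (Sum.inl s)) (e (Sum.inr k)) = 0 := by
  simp [blk, Matrix.coe_reindexAlgEquiv, Matrix.reindex_apply]

/-- A block element `diag(A, 1_c)` with `c ≥ 2`, `A ≠ 1`, `A^n = 1`, `det A = 1` has no conjugate in `H`. -/
theorem exists_bad (K : Subalgebra F (Matrix (Fin n) (Fin n) F)) (hn : n.Prime)
    (hK : Cfsg.Geo.IsFieldSubalgebra n K) (a c : ℕ) (h : a + 0 + c = n) (hc : 2 ≤ c)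
    (A : Matrix (Fin a) (Fin a) F) (hAn : A ^ n = 1) (hdet : A.det = 1) (hA1 : A ≠ 1) :
    ∃ x : Matrix.SpecialLinearGroup (Fin n) F,
      (x : Matrix (Fin n) (Fin n) F) ^ n = 1 ∧
      (∀ z : F, (x : Matrix (Fin n) (Fin n) F) ≠ z • (1 : Matrix (Fin n) (Fin n) F)) ∧
      ∀ P : Matrix.SpecialLinearGroup (Fin n) F, P⁻¹ * x * P ∉ HH K := by
  classical
  set e := blkEquiv h with he
  set X : Matrix (Fin n) (Fin n) F := blk e A (1 : Matrix (Fin 0) (Fin 0) F) with hX
  have hXdet : X.det = 1 := by rw [hX, det_blk, hdet, Matrix.det_one, mul_one]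
  let x : Matrix.SpecialLinearGroup (Fin n) F := ⟨X, hXdet⟩
  have hxval : (x : Matrix (Fin n) (Fin n) F) = X := rfl
  have hfix : ∀ k : Fin c, X *ᵥ (Pi.single (e (Sum.inr k)) 1) = (1 : F) • Pi.single (e (Sum.inr k)) 1 := by
    intro k
    rw [Matrix.mulVec_single_one, one_smul]
    ext i
    obtain ⟨s, rfl⟩ := e.surjective i
    rcases s with s | k'
    · rw [Matrix.col_apply, hX, blk_apply_inl_inr, Pi.single_apply, if_neg]
      intro h'
      have := e.injective h'
      simp at this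
    · rw [Matrix.col_apply, hX, blk_apply_inr, Matrix.one_apply, Pi.single_apply]
      by_cases hk : k' = k
      · rw [if_pos hk, if_pos (by rw [hk])]
      · rw [if_neg hk, if_neg]
        intro h'
        have := e.injective h'
        simp at this
        exact hk this
  have hns : ∀ z : F, (x : Matrix (Fin n) (Fin n) F) ≠ z • (1 : Matrix (Fin n) (Fin n) F) := by
    intro z hz
    rw [hxval] at hz
    have h1 := congrFun (congrFun hz (e (Sum.inr ⟨0, by omega⟩))) (e (Sum.inr ⟨0, by omega⟩))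
    rw [hX, blk_apply_inr] at h1
    simp at h1
    rw [← h1, one_smul] at hz
    exact hA1 ((blk_eq_one_iff e A 1).mp hz).1
  refine ⟨x, ?_, hns, ?_⟩
  · rw [hxval, hX, blk_pow, hAn, one_pow, blk_one]
  · intro P
    refine not_conj_of_double_eigen K hn hK x 1 (Pi.single (e (Sum.inr ⟨0, by omega⟩)) 1)
      (Pi.single (e (Sum.inr ⟨1, by omega⟩)) 1) ?_ ?_ (hfix _) (hfix _) hns P
    · intro h'
      have := congrFun h' (e (Sum.inr ⟨0, by omega⟩))
      simp at this
    · intro z h'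
      have := congrFun h' (e (Sum.inr ⟨1, by omega⟩))
      rw [Pi.single_eq_same, Pi.smul_apply, Pi.single_apply, if_neg, smul_zero] at this
      · exact one_ne_zero this
      · intro h''
        have := e.injective h''
        simp at this

end Cfsg.Agent.Helper42SingerN
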