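import Mathlib

/-!
# Sylow 2-intersections in an index-2 extension (helper42)

Abstract lemma: `N ⊴ G` of index 2, `U ≤ N` a self-normalizing (in `N`) 2-subgroup, `w ∈ N`
such that every `g ∈ N` with `U ∩ gUg⁻¹ = 1` lies in `U w U`.  Then any two Sylow 2-subgroups
of `G` meet nontrivially.
-/

namespace Cfsg.Agent.Helper42SylInter

open Subgroup
open scoped Pointwise

variable {G : Type*} [Group G] [Finite G]

/-- `U` is a maximal 2-subgroup of `N`. -/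
theorem eq_of_le_pgroup (N : Subgroup G) (U : Subgroup G)
    (hP2 : ∀ g ∈ N, (∀ y ∈ U, g * y * g⁻¹ ∈ U) → g ∈ U)
    (P : Subgroup G) (hP : IsPGroup 2 P) (hPN : P ≤ N) (hUP : U ≤ P) : P = U := by
  classical
  by_contra hne
  have : Fact (Nat.Prime 2) := ⟨Nat.prime_two⟩
  have : Group.IsNilpotent P := hP.isNilpotent
  have hnc : NormalizerCondition P := Group.normalizerCondition_of_isNilpotent
  have hlt : U.subgroupOf P < ⊤ := by
    rw [lt_top_iff_ne_top]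
    intro h
    rw [Subgroup.subgroupOf_eq_top] at h
    exact hne (le_antisymm h hUP)
  have h2 := hnc _ hlt
  obtain ⟨g, hgn, hgU⟩ := SetLike.exists_of_lt h2
  apply hgU
  rw [Subgroup.mem_subgroupOf]
  apply hP2 _ (hPN g.2)
  intro y hy
  have hyP : y ∈ P := hUP hy
  rw [Subgroup.mem_normalizer_iff] at hgn
  have := (hgn ⟨y, hyP⟩).1 (by rw [Subgroup.mem_subgroupOf]; exact hy)
  rw [Subgroup.mem_subgroupOf] at this
  simpa using this

theorem core (N : Subgroup G) [N.Normal] (hidx : N.index = 2)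
    (U : Subgroup G) (hUN : U ≤ N)
    (hP2 : ∀ g ∈ N, (∀ y ∈ U, g * y * g⁻¹ ∈ U) → g ∈ U)
    (w : G) (hw : w ∈ N)
    (hB : ∀ g ∈ N, (∀ y ∈ U, g * y * g⁻¹ ∈ U → y = 1) → ∃ u ∈ U, ∃ u' ∈ U, g = u * w * u')
    (H0 : Sylow 2 G) (hUH : U ≤ H0) (n : G) (hn : n ∈ N) :
    ∃ k ∈ (H0 : Subgroup G), k ≠ 1 ∧ n⁻¹ * k * n ∈ (H0 : Subgroup G) := by
  classical
  have : Fact (Nat.Prime 2) := ⟨Nat.prime_two⟩
  -- H0 ⊓ N = U
  have hHN : (H0 : Subgroup G) ⊓ N = U :=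
    eq_of_le_pgroup N U hP2 _ (H0.2.to_le inf_le_left) inf_le_right (le_inf hUH hUN)
  -- an element of H0 outside N
  obtain ⟨h0, hh0, hh0N⟩ : ∃ h0 ∈ (H0 : Subgroup G), h0 ∉ N := by
    by_contra hcon
    push Not at hcon
    have hle : (H0 : Subgroup G) ≤ N := hcon
    have hdvd := Subgroup.index_dvd_of_le hle
    rw [hidx] at hdvd
    exact H0.not_dvd_index hdvd
  -- h0 normalizes U
  have hnorm : ∀ h ∈ (H0 : Subgroup G), ∀ y ∈ U, h * y * h⁻¹ ∈ U := by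
    intro h hh y hy
    rw [← hHN]
    refine Subgroup.mem_inf.2 ⟨?_, ?_⟩
    · exact mul_mem (mul_mem hh (hUH hy)) (inv_mem hh)
    · exact (inferInstance : N.Normal).conj_mem y (hUN hy) h
  have hnorm' : ∀ h ∈ (H0 : Subgroup G), ∀ y ∈ U, h⁻¹ * y * h ∈ U := by
    intro h hh y hy
    have := hnorm h⁻¹ (inv_mem hh) y hy
    simpa using this
  by_contra hcon
  push Not at hcon
  -- hcon : ∀ k ∈ H0, k ≠ 1 → n⁻¹ * k * n ∉ H0
  have h1 : ∀ y ∈ U, n * y * n⁻¹ ∈ U → y = 1 := by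
    intro y hy hy'
    by_contra hy1
    have hk1 : n * y * n⁻¹ ≠ 1 := by
      intro h
      apply hy1
      have : y = n⁻¹ * (n * y * n⁻¹) * n := by group
      rw [this, h]; group
    apply hcon (n * y * n⁻¹) (hUH hy') hk1
    have : n⁻¹ * (n * y * n⁻¹) * n = y := by group
    rw [this]
    exact hUH hy
  obtain ⟨u, hu, u', hu', hnu⟩ := hB n hn h1
  have h2 : ∀ y ∈ U, w * y * w⁻¹ ∈ U → y = 1 := by
    intro y hy hy'
    have hy2 : u'⁻¹ * y * u' ∈ U := mul_mem (mul_mem (inv_mem hu') hy) hu'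
    have := h1 _ hy2 (by
      have : n * (u'⁻¹ * y * u') * n⁻¹ = u * (w * y * w⁻¹) * u⁻¹ := by
        rw [hnu]; group
      rw [this]
      exact mul_mem (mul_mem hu hy') (inv_mem hu))
    have h3 : y = u' * (u'⁻¹ * y * u') * u'⁻¹ := by group
    rw [h3, this]; group
  have hn'N : h0 * w * h0⁻¹ ∈ N := (inferInstance : N.Normal).conj_mem w hw h0
  have h3 : ∀ y ∈ U, (h0 * w * h0⁻¹) * y * (h0 * w * h0⁻¹)⁻¹ ∈ U → y = 1 := by
    intro y hy hy'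
    have hy2 : h0⁻¹ * y * h0 ∈ U := hnorm' h0 hh0 y hy
    have h4 : w * (h0⁻¹ * y * h0) * w⁻¹ ∈ U := by
      have := hnorm' h0 hh0 _ hy'
      have h5 : h0⁻¹ * ((h0 * w * h0⁻¹) * y * (h0 * w * h0⁻¹)⁻¹) * h0 = w * (h0⁻¹ * y * h0) * w⁻¹ := by
        group
      rwa [h5] at this
    have := h2 _ hy2 h4
    have h6 : y = h0 * (h0⁻¹ * y * h0) * h0⁻¹ := by group
    rw [h6, this]; group
  obtain ⟨u2, hu2, u3, hu3, hn'⟩ := hB _ hn'N h3
  -- k = u2⁻¹ h0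
  have hk : u2⁻¹ * h0 ∈ (H0 : Subgroup G) := mul_mem (inv_mem (hUH hu2)) hh0
  have hk1 : u2⁻¹ * h0 ≠ 1 := by
    intro h
    apply hh0N
    have : h0 = u2 := by
      have := congrArg (fun t => u2 * t) h
      simpa using this
    rw [this]; exact hUN hu2
  have hkw : w⁻¹ * (u2⁻¹ * h0) * w = u3 * h0 := by
    have : h0 * w = u2 * w * u3 * h0 := by
      rw [← hn']; group
    calc w⁻¹ * (u2⁻¹ * h0) * w = w⁻¹ * u2⁻¹ * (h0 * w) := by group
      _ = w⁻¹ * u2⁻¹ * (u2 * w * u3 * h0) := by rw [this]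
      _ = u3 * h0 := by group
  -- the element u k u⁻¹
  apply hcon (u * (u2⁻¹ * h0) * u⁻¹) (mul_mem (mul_mem (hUH hu) hk) (inv_mem (hUH hu)))
  · intro h
    apply hk1
    have : u2⁻¹ * h0 = u⁻¹ * (u * (u2⁻¹ * h0) * u⁻¹) * u := by group
    rw [this, h]; group
  · have : n⁻¹ * (u * (u2⁻¹ * h0) * u⁻¹) * n = u'⁻¹ * (w⁻¹ * (u2⁻¹ * h0) * w) * u' := by
      rw [hnu]; group
    rw [this, hkw]
    exact mul_mem (mul_mem (inv_mem (hUH hu')) (mul_mem (hUH hu3) hh0)) (hUH hu')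

theorem core2 (N : Subgroup G) [N.Normal] (hidx : N.index = 2)
    (U : Subgroup G) (hUN : U ≤ N)
    (hP2 : ∀ g ∈ N, (∀ y ∈ U, g * y * g⁻¹ ∈ U) → g ∈ U)
    (w : G) (hw : w ∈ N)
    (hB : ∀ g ∈ N, (∀ y ∈ U, g * y * g⁻¹ ∈ U → y = 1) → ∃ u ∈ U, ∃ u' ∈ U, g = u * w * u')
    (H0 : Sylow 2 G) (hUH : U ≤ H0) (z : G) :
    ∃ k ∈ (H0 : Subgroup G), k ≠ 1 ∧ z⁻¹ * k * z ∈ (H0 : Subgroup G) := by
  classical
  have : Fact (Nat.Prime 2) := ⟨Nat.prime_two⟩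
  by_cases hz : z ∈ N
  · exact core N hidx U hUN hP2 w hw hB H0 hUH z hz
  · obtain ⟨h0, hh0, hh0N⟩ : ∃ h0 ∈ (H0 : Subgroup G), h0 ∉ N := by
      by_contra hcon
      push Not at hcon
      have hle : (H0 : Subgroup G) ≤ N := hcon
      have hdvd := Subgroup.index_dvd_of_le hle
      rw [hidx] at hdvd
      exact H0.not_dvd_index hdvd
    have hn : z * h0⁻¹ ∈ N := by
      rw [Subgroup.mul_mem_iff_of_index_two hidx]
      constructor
      · intro h; exact absurd h hz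
      · intro h; exact absurd ((inv_mem_iff (H := N)).1 h) hh0N
    obtain ⟨k, hk, hk1, hk2⟩ := core N hidx U hUN hP2 w hw hB H0 hUH _ hn
    refine ⟨k, hk, hk1, ?_⟩
    have : z⁻¹ * k * z = h0⁻¹ * ((z * h0⁻¹)⁻¹ * k * (z * h0⁻¹)) * h0 := by group
    rw [this]
    exact mul_mem (mul_mem (inv_mem hh0) hk2) hh0

/-- **Main abstract lemma.** -/
theorem sylow_inter_ne_bot (N : Subgroup G) [N.Normal] (hidx : N.index = 2)
    (U : Subgroup G) (hUN : U ≤ N) (hP1 : IsPGroup 2 U)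
    (hP2 : ∀ g ∈ N, (∀ y ∈ U, g * y * g⁻¹ ∈ U) → g ∈ U)
    (w : G) (hw : w ∈ N)
    (hB : ∀ g ∈ N, (∀ y ∈ U, g * y * g⁻¹ ∈ U → y = 1) → ∃ u ∈ U, ∃ u' ∈ U, g = u * w * u')
    (H : Sylow 2 G) (x : G) :
    (H : Subgroup G) ⊓ MulAut.conj x • (H : Subgroup G) ≠ ⊥ := by
  classical
  have : Fact (Nat.Prime 2) := ⟨Nat.prime_two⟩
  obtain ⟨H0, hUH⟩ := hP1.exists_le_sylow
  obtain ⟨y, hy⟩ := MulAction.exists_smul_eq G H0 H
  have hH : (H : Subgroup G) = MulAut.conj y • (H0 : Subgroup G) := by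
    rw [← hy]; rfl
  have hmem : ∀ t, t ∈ (H : Subgroup G) ↔ y⁻¹ * t * y ∈ (H0 : Subgroup G) := by
    intro t
    rw [hH, Subgroup.mem_pointwise_smul_iff_inv_smul_mem]
    simp [MulAut.smul_def]
  obtain ⟨k, hk, hk1, hk2⟩ := core2 N hidx U hUN hP2 w hw hB H0 hUH (y⁻¹ * x * y)
  intro hbot
  have hmem2 : y * k * y⁻¹ ∈ (H : Subgroup G) ⊓ MulAut.conj x • (H : Subgroup G) := by
    refine Subgroup.mem_inf.2 ⟨?_, ?_⟩
    · rw [hmem]
      have : y⁻¹ * (y * k * y⁻¹) * y = k := by group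
      rw [this]; exact hk
    · rw [Subgroup.mem_pointwise_smul_iff_inv_smul_mem]
      simp only [MulAut.smul_def, map_inv, MulAut.conj_inv_apply]
      rw [hmem]
      have : y⁻¹ * (x⁻¹ * (y * k * y⁻¹) * x) * y = (y⁻¹ * x * y)⁻¹ * k * (y⁻¹ * x * y) := by group
      rw [this]; exact hk2
  rw [hbot, Subgroup.mem_bot] at hmem2
  apply hk1
  have : k = y⁻¹ * (y * k * y⁻¹) * y := by group
  rw [this, hmem2]; group

end Cfsg.Agent.Helper42SylInter
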