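import Mathlib
import Cfsg.Agent.Lib.Helper36_TD4Struct
import Cfsg.Agent.Lib.Helper36_TwistOrderD4
import Cfsg.Agent.Lib.Helper23_TD4InvMul

/-!
# S2183 market `inv_packages` (architect helper23), package NF  (helper42)

The normal form of the elements of `U = posUnipotent ⊓ twistedD4`: every fixed element of `U` is `Phi f x` with
`Good f x` (`exists_phi`, by iterating `Helper36_TwistU.decomp` along `cls`), and the coordinates are unique
(`phi_eq_one`, by iterating `Helper36_TwistU.recomp`).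
-/

set_option autoImplicit false

namespace Cfsg.Agent.Lib.Helper42_TD4Inv_NF

open Cfsg Cfsg.Lie Cfsg.Agent.Lib.Helper18_ChevGL Cfsg.Agent.Lib.Helper18_ChevUni
  Cfsg.Agent.Lib.Helper18_ChevN
  Cfsg.Agent.Lib.Helper36_TwistU Cfsg.Agent.Lib.Helper36_TwistW
  Cfsg.Agent.Lib.Helper36_TwistTabD4 Cfsg.Agent.Lib.Helper36_TwistD4 Cfsg.Agent.Lib.Helper18_TD4Swap
  Cfsg.Agent.Lib.Helper18_TD4Struct Cfsg.Agent.Lib.Helper23_TD4InvDefs Cfsg.Agent.Lib.Helper23_TD4InvMul

section

variable {K : Type*} [Field K] [Fintype K] {q : ℕ} (hK : Fintype.card K = q ^ 3)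
  (f : K →+* K) (hf : ∀ x : K, f x = x ^ q)

/-- admissible parameters of a class of size one -/
theorem h42_closes_single (p : ℕ × ℕ) (hp : p ∈ cls) (h1 : p.2 = 1) (x : K) :
    Closes pi eps f p x ↔ f x = x := by
  rw [closes_iff p (classesOK p hp).2.2.2.2.2.1, h1, Function.iterate_one]

include hK hf in
/-- every parameter of a class of size three is admissible -/
theorem h42_closes_triple (p : ℕ × ℕ) (hp : p ∈ cls) (h3 : p.2 = 3) (x : K) : Closes pi eps f p x := by
  rw [closes_iff p (classesOK p hp).2.2.2.2.2.1, h3, iterate_pow hf]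
  exact Cfsg.Agent.Lib.Helper36_TwistF.pow_card' hK x

/-- the element of a class of size one -/
theorem h42_yS_one (r : ℕ) (x : K) : yS (K := K) dc pi eps f (r, 1) x = X r x := by
  rw [yS_single, wordGL_single]

include hK hf in
/-- every fixed element of `U` is a `Phi f x` -/
theorem exists_phi (g : GL chevD4.Idx K) (hgU : g ∈ chevD4.posUnipotent K) (hgG : g ∈ twistedD4 K q) :
    ∃ x : T6 K, Good f x ∧ Phi f x = g := by
  have hσ : sig f g = g := fixed hK f hf g hgG
  have hz0 : g ∈ Zset dc (sig f) (rootsOf pi []) :=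
    ⟨hgU, hσ, fun r hr => by simp [rootsOf] at hr⟩
  obtain ⟨c1, hz1⟩ := decomp certs (twist f) clsOK (pre := []) (p := (14, 1))
    (post := [(18, 3), (15, 3), (17, 3), (22, 1), (23, 1)]) rfl g hz0
  obtain ⟨c2, hz2⟩ := decomp certs (twist f) clsOK (pre := [] ++ [(14, 1)]) (p := (18, 3))
    (post := [(15, 3), (17, 3), (22, 1), (23, 1)]) rfl _ hz1
  obtain ⟨c3, hz3⟩ := decomp certs (twist f) clsOK (pre := [] ++ [(14, 1)] ++ [(18, 3)]) (p := (15, 3))
    (post := [(17, 3), (22, 1), (23, 1)]) rfl _ hz2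
  obtain ⟨c4, hz4⟩ := decomp certs (twist f) clsOK (pre := [] ++ [(14, 1)] ++ [(18, 3)] ++ [(15, 3)])
    (p := (17, 3)) (post := [(22, 1), (23, 1)]) rfl _ hz3
  obtain ⟨c5, hz5⟩ := decomp certs (twist f) clsOK
    (pre := [] ++ [(14, 1)] ++ [(18, 3)] ++ [(15, 3)] ++ [(17, 3)])
    (p := (22, 1)) (post := [(23, 1)]) rfl _ hz4
  obtain ⟨c6, hz6⟩ := decomp certs (twist f) clsOK
    (pre := [] ++ [(14, 1)] ++ [(18, 3)] ++ [(15, 3)] ++ [(17, 3)] ++ [(22, 1)])
    (p := (23, 1)) (post := []) rfl _ hz5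
  have h6 := eq_one_of_tOf certs _ hz6.1 (fun r hr => hz6.2.2 r (clsOK.cover r hr))
  -- name the pieces
  set x1 : K := tOf dc g 14 with hx1
  set g1 : GL chevD4.Idx K := (yS dc pi eps f (14, 1) x1)⁻¹ * g with hg1
  set x2 : K := tOf dc g1 18 with hx2
  set g2 : GL chevD4.Idx K := (yS dc pi eps f (18, 3) x2)⁻¹ * g1 with hg2
  set x3 : K := tOf dc g2 15 with hx3
  set g3 : GL chevD4.Idx K := (yS dc pi eps f (15, 3) x3)⁻¹ * g2 with hg3
  set x4 : K := tOf dc g3 17 with hx4
  set g4 : GL chevD4.Idx K := (yS dc pi eps f (17, 3) x4)⁻¹ * g3 with hg4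
  set x5 : K := tOf dc g4 22 with hx5
  set g5 : GL chevD4.Idx K := (yS dc pi eps f (22, 1) x5)⁻¹ * g4 with hg5
  set x6 : K := tOf dc g5 23 with hx6
  have e6 : g5 = yS dc pi eps f (23, 1) x6 := (inv_mul_eq_one.mp h6).symm
  have e5 : g4 = yS dc pi eps f (22, 1) x5 * g5 := by rw [hg5, mul_inv_cancel_left]
  have e4 : g3 = yS dc pi eps f (17, 3) x4 * g4 := by rw [hg4, mul_inv_cancel_left]
  have e3 : g2 = yS dc pi eps f (15, 3) x3 * g3 := by rw [hg3, mul_inv_cancel_left]
  have e2 : g1 = yS dc pi eps f (18, 3) x2 * g2 := by rw [hg2, mul_inv_cancel_left]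
  have e1 : g = yS dc pi eps f (14, 1) x1 * g1 := by rw [hg1, mul_inv_cancel_left]
  refine ⟨⟨x1, x2, x3, x4, x5, x6⟩,
    ⟨(h42_closes_single f (14, 1) (by decide) rfl x1).mp c1,
      (h42_closes_single f (22, 1) (by decide) rfl x5).mp c5,
      (h42_closes_single f (23, 1) (by decide) rfl x6).mp c6⟩, ?_⟩
  unfold Phi
  simp only []
  rw [e1, e2, e3, e4, e5, e6, h42_yS_one, h42_yS_one, h42_yS_one]
  simp only [mul_assoc]

include hK hf in
/-- the coordinates are unique -/
theorem phi_eq_one (x : T6 K) (hx : Good f x) (h : Phi f x = 1) : x = 0 := by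
  have c1 : Closes pi eps f (14, 1) x.s := (h42_closes_single f (14, 1) (by decide) rfl x.s).mpr hx.1
  have c2 : Closes pi eps f (18, 3) x.t := h42_closes_triple hK f hf (18, 3) (by decide) rfl x.t
  have c3 : Closes pi eps f (15, 3) x.u := h42_closes_triple hK f hf (15, 3) (by decide) rfl x.u
  have c4 : Closes pi eps f (17, 3) x.v := h42_closes_triple hK f hf (17, 3) (by decide) rfl x.v
  have c5 : Closes pi eps f (22, 1) x.m := (h42_closes_single f (22, 1) (by decide) rfl x.m).mpr hx.2.1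
  have c6 : Closes pi eps f (23, 1) x.n := (h42_closes_single f (23, 1) (by decide) rfl x.n).mpr hx.2.2
  have hone : (1 : GL chevD4.Idx K) ∈ Zset dc (sig f)
      (rootsOf pi ([] ++ [(14, 1)] ++ [(18, 3)] ++ [(15, 3)] ++ [(17, 3)] ++ [(22, 1)] ++ [(23, 1)])) :=
    ⟨Subgroup.one_mem _, map_one _, fun r _ => tOf_one certs r⟩
  obtain ⟨z6, t6⟩ := recomp certs (twist f) clsOK
    (pre := [] ++ [(14, 1)] ++ [(18, 3)] ++ [(15, 3)] ++ [(17, 3)] ++ [(22, 1)])
    (p := (23, 1)) (post := []) rfl x.n c6 1 hone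
  obtain ⟨z5, t5⟩ := recomp certs (twist f) clsOK
    (pre := [] ++ [(14, 1)] ++ [(18, 3)] ++ [(15, 3)] ++ [(17, 3)])
    (p := (22, 1)) (post := [(23, 1)]) rfl x.m c5 _ z6
  obtain ⟨z4, t4⟩ := recomp certs (twist f) clsOK (pre := [] ++ [(14, 1)] ++ [(18, 3)] ++ [(15, 3)])
    (p := (17, 3)) (post := [(22, 1), (23, 1)]) rfl x.v c4 _ z5
  obtain ⟨z3, t3⟩ := recomp certs (twist f) clsOK (pre := [] ++ [(14, 1)] ++ [(18, 3)]) (p := (15, 3))
    (post := [(17, 3), (22, 1), (23, 1)]) rfl x.u c3 _ z4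
  obtain ⟨z2, t2⟩ := recomp certs (twist f) clsOK (pre := [] ++ [(14, 1)]) (p := (18, 3))
    (post := [(15, 3), (17, 3), (22, 1), (23, 1)]) rfl x.t c2 _ z3
  obtain ⟨z1, t1⟩ := recomp certs (twist f) clsOK (pre := []) (p := (14, 1))
    (post := [(18, 3), (15, 3), (17, 3), (22, 1), (23, 1)]) rfl x.s c1 _ z2
  -- the nested product is `Phi f x`
  have hPhi : Phi f x = yS dc pi eps f (14, 1) x.s * (yS dc pi eps f (18, 3) x.t *
      (yS dc pi eps f (15, 3) x.u * (yS dc pi eps f (17, 3) x.v *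
      (yS dc pi eps f (22, 1) x.m * (yS dc pi eps f (23, 1) x.n * 1))))) := by
    unfold Phi
    rw [h42_yS_one, h42_yS_one, h42_yS_one, mul_one]
    simp only [mul_assoc]
  have hs : x.s = 0 := by
    have := t1
    rw [← hPhi, h] at this
    rw [← this]; exact tOf_one certs 14
  have h2 : yS dc pi eps f (18, 3) x.t *
      (yS dc pi eps f (15, 3) x.u * (yS dc pi eps f (17, 3) x.v *
      (yS dc pi eps f (22, 1) x.m * (yS dc pi eps f (23, 1) x.n * 1)))) = 1 := by
    have := hPhi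
    rw [h, hs, h42_yS_one, X_zero, one_mul] at this
    exact this.symm
  have ht : x.t = 0 := by
    have := t2
    rw [h2] at this
    rw [← this]; exact tOf_one certs 18
  have h3 : yS dc pi eps f (15, 3) x.u * (yS dc pi eps f (17, 3) x.v *
      (yS dc pi eps f (22, 1) x.m * (yS dc pi eps f (23, 1) x.n * 1))) = 1 := by
    have := h2
    rw [ht, yS_zero f (18, 3) (Or.inl rfl), one_mul] at this
    exact this
  have hu : x.u = 0 := by
    have := t3
    rw [h3] at this
    rw [← this]; exact tOf_one certs 15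
  have h4 : yS dc pi eps f (17, 3) x.v *
      (yS dc pi eps f (22, 1) x.m * (yS dc pi eps f (23, 1) x.n * 1)) = 1 := by
    have := h3
    rw [hu, yS_zero f (15, 3) (Or.inr (Or.inl rfl)), one_mul] at this
    exact this
  have hv : x.v = 0 := by
    have := t4
    rw [h4] at this
    rw [← this]; exact tOf_one certs 17
  have h5 : yS dc pi eps f (22, 1) x.m * (yS dc pi eps f (23, 1) x.n * 1) = 1 := by
    have := h4
    rw [hv, yS_zero f (17, 3) (Or.inr (Or.inr rfl)), one_mul] at this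
    exact this
  have hm : x.m = 0 := by
    have := t5
    rw [h5] at this
    rw [← this]; exact tOf_one certs 22
  have h6 : yS dc pi eps f (23, 1) x.n * 1 = 1 := by
    have := h5
    rw [hm, h42_yS_one, X_zero, one_mul] at this
    exact this
  have hn : x.n = 0 := by
    have := t6
    rw [h6] at this
    rw [← this]; exact tOf_one certs 23
  ext
  · exact hs
  · exact ht
  · exact hu
  · exact hv
  · exact hm
  · exact hn

end

end Cfsg.Agent.Lib.Helper42_TD4Inv_NF
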