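import Mathlib

/-!
# S2183 market `inv_packages` (architect helper23), package PRIME  (helper42)

A field of characteristic two with `q ^ 3` elements: `q` is an even prime power.
-/

set_option autoImplicit false

namespace Cfsg.Agent.Lib.Helper42_TD4Inv_PRIME

theorem isPrimePow_of_card {K : Type*} [Field K] [Fintype K] [CharP K 2] {q : ℕ} (hK : Fintype.card K = q ^ 3) :
    IsPrimePow q ∧ Even q := by
  obtain ⟨n, -, hn⟩ := FiniteField.card K 2
  have hq : q ^ 3 = 2 ^ (n : ℕ) := by rw [← hK, hn]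
  have hdvd : q ∣ 2 ^ (n : ℕ) := by
    rw [← hq]; exact dvd_pow_self q (by norm_num)
  obtain ⟨k, -, rfl⟩ := (Nat.dvd_prime_pow Nat.prime_two).mp hdvd
  have hk : 0 < k := by
    rcases Nat.eq_zero_or_pos k with rfl | h
    · exfalso
      rw [pow_zero, one_pow] at hq
      have : 2 ≤ 2 ^ (n : ℕ) := by
        calc 2 = 2 ^ 1 := by norm_num
          _ ≤ 2 ^ (n : ℕ) := Nat.pow_le_pow_right (by norm_num) n.pos
      omega
    · exact h
  refine ⟨⟨2, k, Nat.prime_two.prime, hk, rfl⟩, ?_⟩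
  rw [even_iff_two_dvd]
  exact dvd_pow_self 2 hk.ne'

end Cfsg.Agent.Lib.Helper42_TD4Inv_PRIME
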