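import Mathlib
import Cfsg.Agent.Lib.Helper81_TZW_Defs

/-!
# S2524 part W (architect helper81), former package DIM (v1 of the market; superseded by W4c in v2):
the dimensions of the even / odd functions `Wp (par k F K)`, `Wm (par k F K)`
-/

set_option autoImplicit false
set_option linter.unusedSectionVars false
namespace Cfsg.Agent.Lib.Helper42_TZW_DIM
open Matrix Module
open Cfsg.Agent.Lib.Helper5_SpPerfect Cfsg.Agent.Lib.Helper81_SpWeights
  Cfsg.Agent.Lib.Helper81_Heis Cfsg.Agent.Lib.Helper81_WeilLin Cfsg.Agent.Lib.Helper81_Schrodinger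
  Cfsg.Agent.Lib.Helper75_TZ Cfsg.Agent.Lib.Helper81_TZW
variable {F : Type*} [Field F] [Fintype F] [DecidableEq F] {K : Type*} [Field K] [IsAlgClosed K]
  [CharZero K]

/-- `2 dim Wm + 1 = q ^ k` -/
theorem two_mul_finrank_Wm_add_one (h2 : (2 : F) ≠ 0) (k : ℕ) :
    2 * finrank K ↥(Wm (par k F K)) + 1 = Fintype.card F ^ k := by
  have h1 := finrank_add_eq (J := par k F K) par_mul_par (trace_par h2)
  rw [Module.finrank_fintype_fun_eq_card, Fintype.card_fun, Fintype.card_fin] at h1
  exact h1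

theorem finrank_Wp (h2 : (2 : F) ≠ 0) (k : ℕ) :
    finrank K ↥(Wp (par k F K)) = (Fintype.card F ^ k + 1) / 2 := by
  have h1 := finrank_Wp_eq (J := par k F K) par_mul_par (trace_par h2)
  have h3 := two_mul_finrank_Wm_add_one (K := K) h2 k
  omega

theorem finrank_Wm (h2 : (2 : F) ≠ 0) (k : ℕ) :
    finrank K ↥(Wm (par k F K)) = (Fintype.card F ^ k - 1) / 2 := by
  have h3 := two_mul_finrank_Wm_add_one (K := K) h2 k
  omega

end Cfsg.Agent.Lib.Helper42_TZW_DIM
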