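import Mathlib
import Cfsg.Agent.Lib.Helper41_SL2
import Cfsg.Agent.S2475

/-!
# A group with the truncated Ree spectrum (helper42)

`H = M₂(F_q) ⋊ (C₂ × PSL₂(q))`, `q = 3^α`, `α` odd: `SL₂(q) × {±1}` acts on `2 × 2` matrices by
`M ↦ ± g M (g^(3))ᵀ` (twisted tensor product of the natural module with its Frobenius twist).
A nonzero fixed point forces `tr g ∈ F₃`.
-/

namespace Cfsg.Agent.Helper42TruncRee

open Matrix



section mat
variable {F : Type*} [Field F]

theorem add_adjugate (A : Matrix (Fin 2) (Fin 2) F) :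
    A + adjugate A = trace A • (1 : Matrix (Fin 2) (Fin 2) F) := by
  rw [Matrix.adjugate_fin_two]
  ext i j
  fin_cases i <;> fin_cases j <;> simp [Matrix.trace_fin_two] <;> ring

/-- a nonzero fixed point of `M ↦ A M Bᵀ` forces equal traces (`det A = det B = 1`). -/
theorem trace_eq_of_fixed {A B M : Matrix (Fin 2) (Fin 2) F} (hA : A.det = 1) (hB : B.det = 1)
    (hM : M ≠ 0) (h : A * M * Bᵀ = M) : trace A = trace B := by
  have h1 : M * Bᵀ = adjugate A * M := by
    have := congrArg (fun X => adjugate A * X) h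
    beta_reduce at this
    rw [← Matrix.mul_assoc, ← Matrix.mul_assoc, Matrix.adjugate_mul, hA, one_smul, Matrix.one_mul]
      at this
    exact this
  have hBt : (Bᵀ).det = 1 := by rw [Matrix.det_transpose, hB]
  have h2 : A * M = M * adjugate Bᵀ := by
    have := congrArg (fun X => X * adjugate Bᵀ) h
    beta_reduce at this
    rw [Matrix.mul_assoc, Matrix.mul_adjugate, hBt, one_smul, Matrix.mul_one] at this
    exact this
  have h3 : trace A • M = trace B • M := by
    calc trace A • M = (A + adjugate A) * M := by rw [add_adjugate, Matrix.smul_mul, Matrix.one_mul]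
      _ = A * M + adjugate A * M := Matrix.add_mul _ _ _
      _ = M * adjugate Bᵀ + M * Bᵀ := by rw [h2, h1]
      _ = M * (Bᵀ + adjugate Bᵀ) := by rw [Matrix.mul_add, add_comm]
      _ = trace B • M := by
        rw [add_adjugate, Matrix.mul_smul, Matrix.mul_one, Matrix.trace_transpose]
  by_contra hne
  apply hM
  have h4 : (trace A - trace B) • M = 0 := by rw [sub_smul, h3, sub_self]
  rcases smul_eq_zero.1 h4 with h5 | h5
  · exact absurd (sub_eq_zero.1 h5) hne
  · exact h5

end mat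




section rep
variable {F : Type*} [Field F] [CharP F 3]

/-- Frobenius twist on `SL₂`. -/
noncomputable def tw : Matrix.SpecialLinearGroup (Fin 2) F →* Matrix.SpecialLinearGroup (Fin 2) F :=
  Matrix.SpecialLinearGroup.map (frobenius F 3)

theorem tw_coe (g : Matrix.SpecialLinearGroup (Fin 2) F) :
    ((tw g : Matrix.SpecialLinearGroup (Fin 2) F) : Matrix (Fin 2) (Fin 2) F) =
      (g : Matrix (Fin 2) (Fin 2) F).map (fun x => x ^ 3) := by
  rfl

/-- the sign of a unit of `ℤ` in `F`. -/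
def sgn (F : Type*) [Field F] (ε : ℤˣ) : F := ((ε : ℤ) : F)

omit [CharP F 3] in
theorem sgn_one : sgn F 1 = 1 := by simp [sgn]
omit [CharP F 3] in
theorem sgn_neg_one : sgn F (-1) = -1 := by simp [sgn]
omit [CharP F 3] in
theorem sgn_mul (a b : ℤˣ) : sgn F (a * b) = sgn F a * sgn F b := by simp [sgn]
omit [CharP F 3] in
theorem sgn_mul_self (a : ℤˣ) : sgn F a * sgn F a = 1 := by
  rcases Int.units_eq_one_or a with h | h <;> simp [h, sgn]

/-- the twisted tensor action on `2 × 2` matrices: `M ↦ ± g M (g^(3))ᵀ`. -/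
noncomputable def act (x : Matrix.SpecialLinearGroup (Fin 2) F × ℤˣ) (M : Matrix (Fin 2) (Fin 2) F) :
    Matrix (Fin 2) (Fin 2) F :=
  sgn F x.2 • ((x.1 : Matrix (Fin 2) (Fin 2) F) * M *
    ((tw x.1 : Matrix.SpecialLinearGroup (Fin 2) F) : Matrix (Fin 2) (Fin 2) F)ᵀ)

theorem act_one (M : Matrix (Fin 2) (Fin 2) F) : act 1 M = M := by
  simp [act, sgn_one]

theorem act_mul (x y : Matrix.SpecialLinearGroup (Fin 2) F × ℤˣ) (M : Matrix (Fin 2) (Fin 2) F) :
    act (x * y) M = act x (act y M) := by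
  simp only [act, Prod.fst_mul, Prod.snd_mul, map_mul, Matrix.SpecialLinearGroup.coe_mul,
    Matrix.transpose_mul, sgn_mul, Matrix.mul_smul, Matrix.smul_mul, smul_smul, Matrix.mul_assoc]

theorem act_add (x : Matrix.SpecialLinearGroup (Fin 2) F × ℤˣ) (M N : Matrix (Fin 2) (Fin 2) F) :
    act x (M + N) = act x M + act x N := by
  simp only [act, Matrix.mul_add, Matrix.add_mul, smul_add]

theorem act_zero (x : Matrix.SpecialLinearGroup (Fin 2) F × ℤˣ) :
    act x (0 : Matrix (Fin 2) (Fin 2) F) = 0 := by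
  simp [act]

theorem act_neg (x : Matrix.SpecialLinearGroup (Fin 2) F × ℤˣ) (M : Matrix (Fin 2) (Fin 2) F) :
    act x (-M) = - act x M := by
  simp [act]

/-- the action as an automorphism of the additive group of matrices. -/
noncomputable def rhoAut (x : Matrix.SpecialLinearGroup (Fin 2) F × ℤˣ) :
    MulAut (Multiplicative (Matrix (Fin 2) (Fin 2) F)) where
  toFun m := Multiplicative.ofAdd (act x m.toAdd)
  invFun m := Multiplicative.ofAdd (act x⁻¹ m.toAdd)
  left_inv m := by
    show Multiplicative.ofAdd (act x⁻¹ (act x m.toAdd)) = m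
    rw [← act_mul, inv_mul_cancel, act_one]
    rfl
  right_inv m := by
    show Multiplicative.ofAdd (act x (act x⁻¹ m.toAdd)) = m
    rw [← act_mul, mul_inv_cancel, act_one]
    rfl
  map_mul' m n := by
    show Multiplicative.ofAdd (act x (m.toAdd + n.toAdd)) = _
    rw [act_add]
    rfl

theorem rhoAut_apply (x : Matrix.SpecialLinearGroup (Fin 2) F × ℤˣ)
    (m : Multiplicative (Matrix (Fin 2) (Fin 2) F)) :
    rhoAut x m = Multiplicative.ofAdd (act x m.toAdd) := rfl

/-- the representation. -/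
noncomputable def rho : Matrix.SpecialLinearGroup (Fin 2) F × ℤˣ →*
    MulAut (Multiplicative (Matrix (Fin 2) (Fin 2) F)) where
  toFun := rhoAut
  map_one' := by
    ext m
    rw [rhoAut_apply, act_one]
    rfl
  map_mul' x y := by
    ext m
    rw [MulAut.mul_apply, rhoAut_apply, rhoAut_apply, rhoAut_apply, act_mul]
    rfl

theorem rho_apply (x : Matrix.SpecialLinearGroup (Fin 2) F × ℤˣ)
    (m : Multiplicative (Matrix (Fin 2) (Fin 2) F)) :
    rho x m = Multiplicative.ofAdd (act x m.toAdd) := rfl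

end rep



section sd
variable {N G : Type*} [CommGroup N] [Group G] (φ : G →* MulAut N)

theorem pow_right (x : N ⋊[φ] G) (d : ℕ) : (x ^ d).right = x.right ^ d := by
  have := map_pow (SemidirectProduct.rightHom : N ⋊[φ] G →* G) x d
  simpa [SemidirectProduct.rightHom_eq_right] using this

theorem pow_eq_inl (x : N ⋊[φ] G) (d : ℕ) (hd : x.right ^ d = 1) :
    x ^ d = SemidirectProduct.inl (x ^ d).left := by
  apply SemidirectProduct.ext
  · simp
  · rw [pow_right, hd]; simp

theorem left_fixed (x : N ⋊[φ] G) (d : ℕ) (hd : x.right ^ d = 1) :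
    φ x.right (x ^ d).left = (x ^ d).left := by
  have hr : (x ^ d).right = 1 := by rw [pow_right, hd]
  have h1 : x * x ^ d = x ^ d * x := by rw [← pow_succ', ← pow_succ]
  have h2 := congrArg SemidirectProduct.left h1
  rw [SemidirectProduct.mul_left, SemidirectProduct.mul_left, hr, map_one, MulAut.one_apply] at h2
  rw [mul_comm] at h2
  exact mul_right_cancel h2

theorem pow_eq_one_of_fpf (x : N ⋊[φ] G) (d : ℕ) (hd : x.right ^ d = 1)
    (hfpf : ∀ w : N, φ x.right w = w → w = 1) : x ^ d = 1 := by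
  rw [pow_eq_inl φ x d hd, hfpf _ (left_fixed φ x d hd), map_one]

theorem pow_mul_eq_one (x : N ⋊[φ] G) (d e : ℕ) (hd : x.right ^ d = 1) (hN : ∀ w : N, w ^ e = 1) :
    x ^ (d * e) = 1 := by
  rw [pow_mul, pow_eq_inl φ x d hd, ← map_pow, hN, map_one]

theorem sq_eq_one_of_inv (y : N ⋊[φ] G) (h2 : y.right ^ 2 = 1) (hinv : ∀ w : N, φ y.right w = w⁻¹) :
    y ^ 2 = 1 := by
  apply SemidirectProduct.ext
  · rw [pow_two, SemidirectProduct.mul_left, hinv, mul_inv_cancel, SemidirectProduct.one_left]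
  · rw [pow_right, h2, SemidirectProduct.one_right]

theorem orderOf_inr (g : G) : orderOf (SemidirectProduct.inr g : N ⋊[φ] G) = orderOf g :=
  orderOf_injective (SemidirectProduct.inr : G →* N ⋊[φ] G) SemidirectProduct.inr_injective g

end sd

section ana
variable {F : Type*} [Field F] [CharP F 3]

theorem map_cube_smul_one (c : F) :
    ((c • (1 : Matrix (Fin 2) (Fin 2) F)).map (fun x => x ^ 3)) = (c ^ 3) • 1 := by
  ext i j
  fin_cases i <;> fin_cases j <;> simp

theorem act_of_scalar (y : Matrix.SpecialLinearGroup (Fin 2) F × ℤˣ) (c : F)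
    (hc : (y.1 : Matrix (Fin 2) (Fin 2) F) = c • 1) (M : Matrix (Fin 2) (Fin 2) F) :
    act y M = sgn F y.2 • M := by
  have hdet : c ^ 2 = 1 := by
    have := y.1.2
    rw [hc, Matrix.det_smul, Matrix.det_one, Fintype.card_fin, mul_one] at this
    exact this
  have hc4 : c * c ^ 3 = 1 := by
    have : c * c ^ 3 = (c ^ 2) ^ 2 := by ring
    rw [this, hdet, one_pow]
  unfold act
  rw [tw_coe, hc, map_cube_smul_one, Matrix.transpose_smul, Matrix.transpose_one, Matrix.smul_mul,
    Matrix.one_mul, Matrix.mul_smul, Matrix.mul_one, smul_smul, smul_smul, mul_assoc,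
    mul_comm (c ^ 3) c, hc4, mul_one]

theorem rho_pow_apply (y : Matrix.SpecialLinearGroup (Fin 2) F × ℤˣ) (n : ℕ) (c : F)
    (hc : (y.1 : Matrix (Fin 2) (Fin 2) F) ^ n = c • 1)
    (m : Multiplicative (Matrix (Fin 2) (Fin 2) F)) :
    ((rho y) ^ n) m = Multiplicative.ofAdd (sgn F (y.2 ^ n) • m.toAdd) := by
  rw [← map_pow, rho_apply, act_of_scalar (y ^ n) c
    (by rw [Prod.pow_fst, Matrix.SpecialLinearGroup.coe_pow]; exact hc)]
  rfl

theorem trace_tw (g : Matrix.SpecialLinearGroup (Fin 2) F) :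
    trace ((tw g : Matrix.SpecialLinearGroup (Fin 2) F) : Matrix (Fin 2) (Fin 2) F) =
      (trace (g : Matrix (Fin 2) (Fin 2) F)) ^ 3 := by
  rw [tw_coe, Matrix.trace_fin_two, Matrix.trace_fin_two, add_pow_char]
  rfl

theorem trace_of_fixed (y : Matrix.SpecialLinearGroup (Fin 2) F × ℤˣ)
    (M : Matrix (Fin 2) (Fin 2) F) (hM : M ≠ 0) (h : act y M = M) :
    sgn F y.2 * trace (y.1 : Matrix (Fin 2) (Fin 2) F) =
      (trace (y.1 : Matrix (Fin 2) (Fin 2) F)) ^ 3 := by
  have hA : (sgn F y.2 • (y.1 : Matrix (Fin 2) (Fin 2) F)).det = 1 := by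
    rw [Matrix.det_smul, Fintype.card_fin, y.1.2, mul_one, pow_two, sgn_mul_self]
  have hB : ((tw y.1 : Matrix.SpecialLinearGroup (Fin 2) F) : Matrix (Fin 2) (Fin 2) F).det = 1 :=
    (tw y.1).2
  have h' : (sgn F y.2 • (y.1 : Matrix (Fin 2) (Fin 2) F)) * M *
      ((tw y.1 : Matrix.SpecialLinearGroup (Fin 2) F) : Matrix (Fin 2) (Fin 2) F)ᵀ = M := by
    rw [Matrix.smul_mul, Matrix.smul_mul]
    exact h
  have := trace_eq_of_fixed hA hB hM h'
  rw [Matrix.trace_smul, trace_tw, smul_eq_mul] at this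
  exact this

theorem sl2_pow_two_of_trace_zero (g : Matrix.SpecialLinearGroup (Fin 2) F)
    (h : trace (g : Matrix (Fin 2) (Fin 2) F) = 0) :
    (g : Matrix (Fin 2) (Fin 2) F) ^ 2 = (-1 : F) • 1 := by
  rw [pow_two, Cfsg.Agent.Lib.Helper41_SL2.sl2_mul_self, h, zero_smul, add_zero]

theorem sl2_pow_three_of_trace_sq (g : Matrix.SpecialLinearGroup (Fin 2) F)
    (h : trace (g : Matrix (Fin 2) (Fin 2) F) ^ 2 = 1) :
    (g : Matrix (Fin 2) (Fin 2) F) ^ 3 = (-trace (g : Matrix (Fin 2) (Fin 2) F)) • 1 := by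
  set A := (g : Matrix (Fin 2) (Fin 2) F) with hA
  set s := trace A with hs
  have h2 : A * A = (-1 : F) • 1 + s • A := Cfsg.Agent.Lib.Helper41_SL2.sl2_mul_self g
  have h3 : A ^ 3 = A * (A * A) := by rw [pow_succ, pow_two, Matrix.mul_assoc]
  rw [h3, h2, Matrix.mul_add, Matrix.mul_smul, Matrix.mul_smul, Matrix.mul_one, h2, smul_add,
    smul_smul, smul_smul, ← pow_two, h]
  simp only [neg_smul, one_smul, mul_neg, mul_one]
  abel

end ana


section grp
variable (F : Type*) [Field F] [CharP F 3]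

/-- the complement `≅ C₂ × PSL₂(F)`: the image of `rho`. -/
noncomputable abbrev G0 : Subgroup (MulAut (Multiplicative (Matrix (Fin 2) (Fin 2) F))) :=
  (rho (F := F)).range

/-- the group `M₂(F) ⋊ (C₂ × PSL₂(F))`. -/
noncomputable abbrev TR : Type _ :=
  Multiplicative (Matrix (Fin 2) (Fin 2) F) ⋊[(G0 F).subtype] (G0 F)

end grp

section bound
variable {F : Type*} [Field F] [CharP F 3]

theorem vm_pow_three (w : Multiplicative (Matrix (Fin 2) (Fin 2) F)) : w ^ 3 = 1 := by
  have h3 : (3 : F) = 0 := by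
    have := CharP.cast_eq_zero F 3
    exact_mod_cast this
  have : (3 : ℕ) • w.toAdd = 0 := by
    rw [← Nat.cast_smul_eq_nsmul F, Nat.cast_ofNat, h3, zero_smul]
  calc w ^ 3 = Multiplicative.ofAdd ((3 : ℕ) • w.toAdd) := rfl
    _ = 1 := by rw [this]; rfl

theorem units_pow_even (ε : ℤˣ) (n : ℕ) (hn : Even n) : ε ^ n = 1 := by
  obtain ⟨k, rfl⟩ := hn
  rw [← two_mul, pow_mul, Int.units_sq, one_pow]

/-- `x.right = rho y` has `n`-th power the sign `ε^n` whenever `g^n` is scalar. -/
theorem right_pow_eq_one (x : TR F) (y : Matrix.SpecialLinearGroup (Fin 2) F × ℤˣ)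
    (hy : rho y = (x.right : MulAut (Multiplicative (Matrix (Fin 2) (Fin 2) F))))
    (n : ℕ) (c : F) (hc : (y.1 : Matrix (Fin 2) (Fin 2) F) ^ n = c • 1) (hε : y.2 ^ n = 1) :
    x.right ^ n = 1 := by
  apply Subtype.ext
  rw [Subgroup.coe_pow, ← hy, Subgroup.coe_one]
  ext m
  rw [rho_pow_apply y n c hc, hε, sgn_one, one_smul]
  rfl

theorem pow_cases [Fintype F] (hq4 : Fintype.card F % 4 = 3) (x : TR F) :
    x ^ 6 = 1 ∨ x ^ 9 = 1 ∨ x ^ (Fintype.card F - 1) = 1 ∨ x ^ ((Fintype.card F + 1) / 2) = 1 := by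
  obtain ⟨y, hy⟩ := x.right.2
  set s := trace (y.1 : Matrix (Fin 2) (Fin 2) F) with hs
  have hneg : ∀ z : F, z ^ 2 ≠ -1 := by
    intro z hz
    have : IsSquare (-1 : F) := ⟨z, by rw [← hz, pow_two]⟩
    rw [FiniteField.isSquare_neg_one_iff] at this
    exact this hq4
  by_cases h0 : s = 0
  · left
    have h2 : x.right ^ 2 = 1 :=
      right_pow_eq_one x y hy 2 (-1) (sl2_pow_two_of_trace_zero y.1 h0) (Int.units_sq _)
    exact pow_mul_eq_one _ x 2 3 h2 vm_pow_three
  by_cases h1 : s ^ 2 = 1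
  · have hA3 := sl2_pow_three_of_trace_sq y.1 h1
    rcases Int.units_eq_one_or y.2 with hε | hε
    · right; left
      have h3 : x.right ^ 3 = 1 := right_pow_eq_one x y hy 3 _ hA3 (by rw [hε, one_pow])
      exact pow_mul_eq_one _ x 3 3 h3 vm_pow_three
    · left
      have h6 : (x ^ 3) ^ 2 = 1 := by
        apply sq_eq_one_of_inv
        · rw [pow_right, ← pow_mul]
          exact right_pow_eq_one x y hy 6 1 (by
            have : (y.1 : Matrix (Fin 2) (Fin 2) F) ^ 6 = ((y.1 : Matrix (Fin 2) (Fin 2) F) ^ 3) ^ 2 := by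
              rw [← pow_mul]
            rw [this, hA3, smul_pow, one_pow, neg_sq, h1])
            (units_pow_even _ 6 (by decide))
        · intro w
          rw [pow_right]
          show ((x.right ^ 3 : G0 F) : MulAut _) w = w⁻¹
          rw [Subgroup.coe_pow, ← hy, rho_pow_apply y 3 _ hA3, hε]
          have : ((-1 : ℤˣ) ^ 3) = -1 := by decide
          rw [this, sgn_neg_one, neg_smul, one_smul]
          rfl
      rw [← pow_mul] at h6
      exact h6
  · -- fixed point free case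
    have hfpf : ∀ w : Multiplicative (Matrix (Fin 2) (Fin 2) F),
        (G0 F).subtype x.right w = w → w = 1 := by
      intro w hw
      by_contra hw1
      have hM : w.toAdd ≠ 0 := fun h => hw1 (by
        have : w = Multiplicative.ofAdd w.toAdd := rfl
        rw [this, h]; rfl)
      have hfix : act y w.toAdd = w.toAdd := by
        have : rho y w = w := by rw [hy]; exact hw
        rw [rho_apply] at this
        exact congrArg Multiplicative.toAdd this
      have ht := trace_of_fixed y _ hM hfix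
      rw [← hs] at ht
      rcases Int.units_eq_one_or y.2 with hε | hε
      · rw [hε, sgn_one, one_mul] at ht
        have : s * (s ^ 2 - 1) = 0 := by linear_combination -ht
        rcases mul_eq_zero.1 this with h | h
        · exact h0 h
        · exact h1 (sub_eq_zero.1 h)
      · rw [hε, sgn_neg_one] at ht
        have : s * (s ^ 2 + 1) = 0 := by linear_combination -ht
        rcases mul_eq_zero.1 this with h | h
        · exact h0 h
        · exact hneg s (eq_neg_of_add_eq_zero_left h)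
    have hqodd : Fintype.card F % 2 = 1 := by omega
    have hgcd : Nat.gcd 2 (Fintype.card F - 1) = 2 := by
      apply Nat.gcd_eq_left
      omega
    have hcases := Cfsg.Agent.Lib.Helper41_SL2.psl2_pow_cases 3 y.1
    simp only [Cfsg.Agent.Lib.Helper41_SL2.psl_pow_eq_one_iff, hgcd] at hcases
    rcases hcases with ⟨c, hc⟩ | ⟨c, hc⟩ | ⟨c, hc⟩
    · left
      have h6 : x.right ^ 6 = 1 := by
        refine right_pow_eq_one x y hy 6 (c ^ 2) ?_ (units_pow_even _ 6 (by decide))
        have : (y.1 : Matrix (Fin 2) (Fin 2) F) ^ 6 = ((y.1 : Matrix (Fin 2) (Fin 2) F) ^ 3) ^ 2 := by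
          rw [← pow_mul]
        rw [this, hc, smul_pow, one_pow]
      exact pow_eq_one_of_fpf _ x 6 h6 hfpf
    · right; right; left
      have hq1 : Fintype.card F - 1 = (Fintype.card F - 1) / 2 * 2 := by omega
      have h6 : x.right ^ (Fintype.card F - 1) = 1 := by
        refine right_pow_eq_one x y hy _ (c ^ 2) ?_ (units_pow_even _ _ ?_)
        · rw [hq1, pow_mul, hc, smul_pow, one_pow]
        · rw [Nat.even_iff]; omega
      exact pow_eq_one_of_fpf _ x _ h6 hfpf
    · right; right; right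
      have h6 : x.right ^ ((Fintype.card F + 1) / 2) = 1 := by
        refine right_pow_eq_one x y hy _ c hc (units_pow_even _ _ ?_)
        rw [Nat.even_iff]; omega
      exact pow_eq_one_of_fpf _ x _ h6 hfpf

end bound


section exist
variable {F : Type*} [Field F] [CharP F 3]

/-- element of the complement -/
noncomputable def mkR (y : Matrix.SpecialLinearGroup (Fin 2) F × ℤˣ) : G0 F := ⟨rho y, ⟨y, rfl⟩⟩

theorem orderOf_mkR (y : Matrix.SpecialLinearGroup (Fin 2) F × ℤˣ) :
    orderOf (mkR y) = orderOf (rho y) :=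
  (orderOf_injective (G0 F).subtype (Subgroup.subtype_injective _) (mkR y)).symm

theorem neg_one_ne_one : (-1 : F) ≠ 1 := by
  intro h
  have h2 : (2 : F) = 0 := by linear_combination -h
  have : ((2 : ℕ) : F) = 0 := by exact_mod_cast h2
  rw [CharP.cast_eq_zero_iff F 3] at this
  omega

theorem two_ne_zero' : (2 : F) ≠ 0 := by
  intro h2
  have : ((2 : ℕ) : F) = 0 := by exact_mod_cast h2
  rw [CharP.cast_eq_zero_iff F 3] at this
  omega

theorem tw_unip_pow (n : ℕ) :
    ((tw (Cfsg.Agent.Lib.Helper41_SL2.unip F ^ n) : Matrix.SpecialLinearGroup (Fin 2) F) :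
      Matrix (Fin 2) (Fin 2) F) = !![1, ((n : F)) ^ 3; 0, 1] := by
  rw [tw_coe, Cfsg.Agent.Lib.Helper41_SL2.unip_pow]
  ext i j
  fin_cases i <;> fin_cases j <;> simp

theorem act_unip_pow (n : ℕ) (ε : ℤˣ) (M : Matrix (Fin 2) (Fin 2) F) :
    act (Cfsg.Agent.Lib.Helper41_SL2.unip F ^ n, ε) M =
      sgn F ε • (!![1, (n : F); 0, 1] * M * !![1, 0; ((n : F)) ^ 3, 1]) := by
  unfold act
  rw [tw_unip_pow, Cfsg.Agent.Lib.Helper41_SL2.unip_pow]
  congr 2
  ext i j
  fin_cases i <;> fin_cases j <;> simp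

theorem act_unip_pow_E22 (n : ℕ) (ε : ℤˣ) :
    act (Cfsg.Agent.Lib.Helper41_SL2.unip F ^ n, ε) !![0, 0; 0, 1] =
      sgn F ε • !![(n : F) * (n : F) ^ 3, (n : F); (n : F) ^ 3, 1] := by
  rw [act_unip_pow]
  congr 1
  ext i j
  fin_cases i <;> fin_cases j <;> simp [Matrix.mul_apply, Fin.sum_univ_two]

end exist


section sd2
variable {N G : Type*} [CommGroup N] [Group G] (φ : G →* MulAut N)

theorem pow_three_left (x : N ⋊[φ] G) :
    (x ^ 3).left = x.left * φ x.right x.left * φ x.right (φ x.right x.left) := by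
  rw [pow_succ, pow_two, SemidirectProduct.mul_left, SemidirectProduct.mul_left,
    SemidirectProduct.mul_right, map_mul, MulAut.mul_apply]

end sd2

section exist2
variable {F : Type*} [Field F] [CharP F 3]

omit [CharP F 3] in
theorem unip_pow_of_cast_zero (n : ℕ) (hn : ((n : ℕ) : F) = 0) :
    ((Cfsg.Agent.Lib.Helper41_SL2.unip F : Matrix.SpecialLinearGroup (Fin 2) F) :
      Matrix (Fin 2) (Fin 2) F) ^ n = (1 : F) • 1 := by
  rw [← Matrix.SpecialLinearGroup.coe_pow, Cfsg.Agent.Lib.Helper41_SL2.unip_pow, hn, one_smul]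
  ext i j
  fin_cases i <;> fin_cases j <;> simp

/-- an element of order `9`. -/
noncomputable def x9 : TR F :=
  ⟨Multiplicative.ofAdd !![0, 0; 0, 1], mkR (Cfsg.Agent.Lib.Helper41_SL2.unip F, 1)⟩

theorem rho_unip_pow_apply_E22 (n : ℕ) (ε : ℤˣ) :
    (rho (Cfsg.Agent.Lib.Helper41_SL2.unip F, ε) ^ n)
      (Multiplicative.ofAdd (!![0, 0; 0, 1] : Matrix (Fin 2) (Fin 2) F)) =
      Multiplicative.ofAdd (sgn F (ε ^ n) • !![(n : F) * (n : F) ^ 3, (n : F); (n : F) ^ 3, 1]) := by
  rw [← map_pow, Prod.pow_mk, rho_apply, toAdd_ofAdd, act_unip_pow_E22]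

theorem x9_right : ((x9 : TR F).right : MulAut (Multiplicative (Matrix (Fin 2) (Fin 2) F))) =
    rho (Cfsg.Agent.Lib.Helper41_SL2.unip F, 1) := rfl

theorem orderOf_x9 : orderOf (x9 : TR F) = 9 := by
  have h3 : (x9 : TR F).right ^ 3 = 1 := by
    have hε : ((Cfsg.Agent.Lib.Helper41_SL2.unip F, (1 : ℤˣ)) :
        Matrix.SpecialLinearGroup (Fin 2) F × ℤˣ).2 ^ 3 = 1 := one_pow 3
    exact right_pow_eq_one x9 (Cfsg.Agent.Lib.Helper41_SL2.unip F, 1) x9_right.symm 3 1
      (unip_pow_of_cast_zero 3 (CharP.cast_eq_zero F 3)) hε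
  have h9 : (x9 : TR F) ^ 9 = 1 := by
    have h := pow_mul_eq_one _ (x9 : TR F) 3 3 h3 vm_pow_three
    have e : 3 * 3 = 9 := by norm_num
    rw [e] at h
    exact h
  refine orderOf_eq_of_pow_and_pow_div_prime (by norm_num) h9 ?_
  intro p hp hp9
  have hp3 : p = 3 := by
    have : p ∣ 3 ^ 2 := by norm_num; exact hp9
    exact (Nat.prime_dvd_prime_iff_eq hp Nat.prime_three).1 (hp.dvd_of_dvd_pow this)
  subst hp3
  norm_num
  intro h
  have hl := congrArg SemidirectProduct.left h
  rw [pow_three_left, SemidirectProduct.one_left] at hl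
  have e1 : (G0 F).subtype (x9 : TR F).right = rho (Cfsg.Agent.Lib.Helper41_SL2.unip F, 1) := rfl
  have e0 : (x9 : TR F).left = Multiplicative.ofAdd !![0, 0; 0, 1] := rfl
  have r1 := rho_unip_pow_apply_E22 (F := F) 1 1
  have r2 := rho_unip_pow_apply_E22 (F := F) 2 1
  rw [pow_one] at r1
  rw [pow_two, MulAut.mul_apply] at r2
  rw [e1, e0, r2, r1] at hl
  have hl' := congrArg Multiplicative.toAdd hl
  rw [toAdd_mul, toAdd_mul, toAdd_ofAdd, toAdd_ofAdd, toAdd_ofAdd, toAdd_one] at hl'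
  have h00 := congrFun (congrFun hl' 0) 0
  simp [sgn_one] at h00
  have h17 : ((17 : ℕ) : F) = 0 := by
    push_cast
    linear_combination h00
  rw [CharP.cast_eq_zero_iff F 3] at h17
  omega

/-- an element of order `6`. -/
noncomputable def x6 : TR F :=
  SemidirectProduct.inr (mkR (Cfsg.Agent.Lib.Helper41_SL2.unip F, -1))

theorem orderOf_x6 : orderOf (x6 : TR F) = 6 := by
  unfold x6
  rw [orderOf_inr, orderOf_mkR]
  have h6 : rho (Cfsg.Agent.Lib.Helper41_SL2.unip F, (-1 : ℤˣ)) ^ 6 = 1 := by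
    ext m
    rw [rho_pow_apply _ 6 1]
    · have : ((-1 : ℤˣ) ^ 6) = 1 := by decide
      rw [this, sgn_one, one_smul]; rfl
    · exact unip_pow_of_cast_zero 6 (by rw [CharP.cast_eq_zero_iff F 3]; norm_num)
  refine orderOf_eq_of_pow_and_pow_div_prime (by norm_num) h6 ?_
  intro p hp hp6
  have hp23 : p = 2 ∨ p = 3 := by
    have : p ∣ 2 * 3 := by norm_num; exact hp6
    rcases (Nat.Prime.dvd_mul hp).1 this with h | h
    · exact Or.inl ((Nat.prime_dvd_prime_iff_eq hp Nat.prime_two).1 h)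
    · exact Or.inr ((Nat.prime_dvd_prime_iff_eq hp Nat.prime_three).1 h)
  rcases hp23 with rfl | rfl
  · norm_num
    intro h
    have r := rho_unip_pow_apply_E22 (F := F) 3 (-1)
    rw [h, MulAut.one_apply] at r
    have r' := congrArg Multiplicative.toAdd r
    rw [toAdd_ofAdd, toAdd_ofAdd] at r'
    have h11 := congrFun (congrFun r' 1) 1
    have : ((-1 : ℤˣ) ^ 3) = -1 := by decide
    rw [this, sgn_neg_one] at h11
    simp at h11
    exact neg_one_ne_one h11.symm
  · norm_num
    intro h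
    have r := rho_unip_pow_apply_E22 (F := F) 2 (-1)
    rw [h, MulAut.one_apply] at r
    have r' := congrArg Multiplicative.toAdd r
    rw [toAdd_ofAdd, toAdd_ofAdd] at r'
    have h01 := congrFun (congrFun r' 0) 1
    have : ((-1 : ℤˣ) ^ 2) = 1 := by decide
    rw [this, sgn_one] at h01
    simp at h01
    exact two_ne_zero' h01.symm

end exist2


section exist3
variable {F : Type*} [Field F] [CharP F 3]

open Cfsg.Agent.Lib.Helper41_SL2 in
theorem diagElt_pow' (a : Fˣ) (n : ℕ) : diagElt a ^ n = diagElt (a ^ n) := by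
  apply Subtype.ext
  rw [diagElt_pow]
  rfl

open Cfsg.Agent.Lib.Helper41_SL2 in
theorem act_diag (b : Fˣ) (ε : ℤˣ) (M : Matrix (Fin 2) (Fin 2) F) :
    act (diagElt b, ε) M =
      sgn F ε • (!![(b : F), 0; 0, (b : F)⁻¹] * M * !![(b : F) ^ 3, 0; 0, ((b : F)⁻¹) ^ 3]) := by
  unfold act
  rw [tw_coe]
  have h1 : ((diagElt b : Matrix.SpecialLinearGroup (Fin 2) F) : Matrix (Fin 2) (Fin 2) F) =
      !![(b : F), 0; 0, (b : F)⁻¹] := by
    ext i j
    fin_cases i <;> fin_cases j <;> simp [diagElt]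
  rw [h1]
  congr 2
  ext i j
  fin_cases i <;> fin_cases j <;> simp

theorem act_diag_E11 (b : Fˣ) (ε : ℤˣ) :
    (act (Cfsg.Agent.Lib.Helper41_SL2.diagElt b, ε) !![1, 0; 0, 0]) 0 0 =
      sgn F ε * ((b : F) * (b : F) ^ 3) := by
  rw [act_diag]
  simp [Matrix.mul_apply, Fin.sum_univ_two]

theorem act_diag_E12 (b : Fˣ) (ε : ℤˣ) :
    (act (Cfsg.Agent.Lib.Helper41_SL2.diagElt b, ε) !![0, 1; 0, 0]) 0 1 =
      sgn F ε * ((b : F) * ((b : F)⁻¹) ^ 3) := by
  rw [act_diag]
  simp [Matrix.mul_apply, Fin.sum_univ_two]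

open Cfsg.Agent.Lib.Helper41_SL2 in
/-- `rho (diag(a, a⁻¹), -1) ^ n = 1` forces `n` even and `a ^ (2 n) = 1`. -/
theorem diag_pow_eq_one (a : Fˣ) (n : ℕ) (h : rho (diagElt a, (-1 : ℤˣ)) ^ n = 1) :
    Even n ∧ a ^ (2 * n) = 1 := by
  rw [← map_pow, Prod.pow_mk, diagElt_pow'] at h
  set b := a ^ n with hb
  set ε := (-1 : ℤˣ) ^ n with hε
  have h1 : act (diagElt b, ε) !![1, 0; 0, 0] = !![1, 0; 0, 0] := by
    have := congrArg (fun f => f (Multiplicative.ofAdd (!![1, 0; 0, 0] : Matrix (Fin 2) (Fin 2) F))) h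
    simp only [rho_apply, MulAut.one_apply, toAdd_ofAdd] at this
    exact congrArg Multiplicative.toAdd this
  have h2 : act (diagElt b, ε) !![0, 1; 0, 0] = !![0, 1; 0, 0] := by
    have := congrArg (fun f => f (Multiplicative.ofAdd (!![0, 1; 0, 0] : Matrix (Fin 2) (Fin 2) F))) h
    simp only [rho_apply, MulAut.one_apply, toAdd_ofAdd] at this
    exact congrArg Multiplicative.toAdd this
  have e1 := act_diag_E11 (F := F) b ε
  have e2 := act_diag_E12 (F := F) b ε
  rw [h1] at e1
  rw [h2] at e2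
  simp only [Matrix.of_apply, Matrix.cons_val', Matrix.cons_val_zero, Matrix.cons_val_one,
    Matrix.cons_val_fin_one] at e1 e2
  have hb0 : (b : F) ≠ 0 := b.ne_zero
  set β := (b : F) with hβ
  set σ := sgn F ε with hσ
  have hσ2 : σ * σ = 1 := sgn_mul_self ε
  have hββ : β * β⁻¹ = 1 := mul_inv_cancel₀ hb0
  have hsig : σ = β ^ 2 := by
    have : σ * (β * β⁻¹) ^ 3 = β ^ 2 * (σ * (β * β⁻¹ ^ 3)) := by ring
    rw [hββ, ← e2] at this
    simpa using this
  have hσ1 : σ = 1 := by
    have : σ * (β ^ 2) ^ 2 = 1 := by rw [e1]; ring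
    rw [← hsig] at this
    calc σ = σ * (σ * σ) := by rw [hσ2, mul_one]
      _ = σ * σ ^ 2 := by ring
      _ = 1 := this
  constructor
  · by_contra hodd
    have : ε = -1 := by
      rw [hε]
      exact Odd.neg_one_pow (Nat.not_even_iff_odd.1 hodd)
    rw [hσ, this, sgn_neg_one] at hσ1
    exact neg_one_ne_one hσ1
  · have : (b : F) ^ 2 = 1 := by rw [← hβ, ← hsig, hσ1]
    rw [mul_comm, pow_mul, ← hb]
    apply Units.ext
    rw [Units.val_pow_eq_pow_val, this, Units.val_one]

theorem scalar_of_act_eq (h : Matrix.SpecialLinearGroup (Fin 2) F)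
    (hh : ∀ M : Matrix (Fin 2) (Fin 2) F, act (h, 1) M = M) :
    ∃ c : F, (h : Matrix (Fin 2) (Fin 2) F) = c • 1 := by
  set A := (h : Matrix (Fin 2) (Fin 2) F) with hA
  set B := ((tw h : Matrix.SpecialLinearGroup (Fin 2) F) : Matrix (Fin 2) (Fin 2) F)ᵀ with hB
  have hact : ∀ M, A * M * B = M := by
    intro M
    have := hh M
    unfold act at this
    rw [sgn_one, one_smul] at this
    exact this
  have hAB : A * B = 1 := by
    have := hact 1
    rwa [Matrix.mul_one] at this
  have hBA : B * A = 1 := mul_eq_one_comm.1 hAB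
  have hcomm : ∀ M, A * M = M * A := by
    intro M
    calc A * M = A * M * (B * A) := by rw [hBA, Matrix.mul_one]
      _ = (A * M * B) * A := by rw [Matrix.mul_assoc, Matrix.mul_assoc, Matrix.mul_assoc]
      _ = M * A := by rw [hact]
  have c1 := hcomm !![1, 0; 0, 0]
  have c2 := hcomm !![0, 1; 0, 0]
  have e01 := congrFun (congrFun c1 0) 1
  have e10 := congrFun (congrFun c1 1) 0
  have e00 := congrFun (congrFun c2 0) 1
  simp [Matrix.mul_apply, Fin.sum_univ_two] at e01 e10 e00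
  refine ⟨A 0 0, ?_⟩
  ext i j
  fin_cases i <;> fin_cases j
  · simp
  · simpa using e01.symm
  · simpa using e10
  · simpa using e00.symm

end exist3


section fin
variable {F : Type*} [Field F] [CharP F 3]

theorem finite_TR [Finite F] : Finite (TR F) := by
  have : Finite (G0 F) := inferInstance
  exact Finite.of_equiv _ (SemidirectProduct.equivProd (φ := (G0 F).subtype)).symm

open Cfsg.Agent.Lib.Helper41_SL2 in
/-- the order of `rho (diag(a, a⁻¹), -1)` for a generator `a`. -/
theorem orderOf_rho_diag [Fintype F] (hq4 : Fintype.card F % 4 = 3) (a : Fˣ)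
    (ha : orderOf a = Fintype.card F - 1) :
    orderOf (rho (diagElt a, (-1 : ℤˣ))) = Fintype.card F - 1 := by
  set q := Fintype.card F with hq
  apply Nat.dvd_antisymm
  · apply orderOf_dvd_of_pow_eq_one
    ext m
    rw [rho_pow_apply _ (q - 1) 1]
    · rw [units_pow_even _ _ (by rw [Nat.even_iff]; omega), sgn_one, one_smul]
      rfl
    · show ((diagElt a : Matrix.SpecialLinearGroup (Fin 2) F) : Matrix (Fin 2) (Fin 2) F) ^ (q - 1) = _
      rw [← Matrix.SpecialLinearGroup.coe_pow, diagElt_pow, ← ha, pow_orderOf_eq_one, one_smul]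
      ext i j
      fin_cases i <;> fin_cases j <;> simp
  · obtain ⟨he, h2⟩ := diag_pow_eq_one a _ (pow_orderOf_eq_one (rho (diagElt a, (-1 : ℤˣ))))
    set n := orderOf (rho (diagElt a, (-1 : ℤˣ))) with hn
    have h3 : q - 1 ∣ 2 * n := by rw [← ha]; exact orderOf_dvd_of_pow_eq_one h2
    have hq1 : q - 1 = 2 * ((q - 1) / 2) := by omega
    have hm : (q - 1) / 2 ∣ n := by
      rw [hq1] at h3
      exact (Nat.mul_dvd_mul_iff_left (by norm_num)).1 h3
    have hodd : ¬ 2 ∣ (q - 1) / 2 := by omega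
    have hcop : Nat.Coprime 2 ((q - 1) / 2) := (Nat.Prime.coprime_iff_not_dvd Nat.prime_two).2 hodd
    rw [hq1]
    exact Nat.Coprime.mul_dvd_of_dvd_of_dvd hcop he.two_dvd hm

open Cfsg.Agent.Lib.Helper41_SL2 in
/-- `rho (g, 1)` has the order of the image of `g` in `PSL₂`. -/
theorem orderOf_rho_eq_psl (g : Matrix.SpecialLinearGroup (Fin 2) F) :
    orderOf (rho (g, (1 : ℤˣ))) =
      orderOf (QuotientGroup.mk g : Matrix.ProjectiveSpecialLinearGroup (Fin 2) F) := by
  rw [orderOf_eq_orderOf_iff]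
  intro n
  rw [psl_pow_eq_one_iff]
  constructor
  · intro h
    rw [← map_pow, Prod.pow_mk, one_pow] at h
    have := scalar_of_act_eq (g ^ n) (fun M => by
      have := congrArg (fun f => f (Multiplicative.ofAdd M)) h
      simp only [rho_apply, MulAut.one_apply, toAdd_ofAdd] at this
      exact congrArg Multiplicative.toAdd this)
    rwa [Matrix.SpecialLinearGroup.coe_pow] at this
  · rintro ⟨c, hc⟩
    ext m
    rw [rho_pow_apply (g, 1) n c hc, one_pow, sgn_one, one_smul]
    rfl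

end fin

section final

/-- maximal elements of a set of naturals dominated by a finite antichain contained in it. -/
theorem maximal_eq (ω S : Set ℕ) (h1 : ∀ n ∈ ω, ∃ s ∈ S, n ∣ s) (h2 : S ⊆ ω)
    (h3 : ∀ s ∈ S, ∀ t ∈ S, s ∣ t → s = t) :
    {n | n ∈ ω ∧ ∀ m ∈ ω, n ∣ m → m = n} = S := by
  ext n
  constructor
  · rintro ⟨hn, hmax⟩
    obtain ⟨s, hs, hns⟩ := h1 n hn
    rw [← hmax s (h2 hs) hns]
    exact hs
  · intro hn
    refine ⟨h2 hn, ?_⟩
    intro m hm hnm
    obtain ⟨t, ht, hmt⟩ := h1 m hm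
    have : n = t := h3 n hn t ht (hnm.trans hmt)
    rw [← this] at hmt
    exact Nat.dvd_antisymm hmt hnm

theorem antichain (q : ℕ) (hq3 : q % 3 = 0) (hq4 : q % 4 = 3) (hq27 : 27 ≤ q) :
    ∀ s ∈ ({6, 9, q - 1, (q + 1) / 2} : Set ℕ), ∀ t ∈ ({6, 9, q - 1, (q + 1) / 2} : Set ℕ),
      s ∣ t → s = t := by
  have k3 : ∀ m : ℕ, 3 ∣ m → ¬ m ∣ q - 1 := by
    intro m h3 hm
    have := h3.trans hm
    omega
  have k3' : ∀ m : ℕ, 3 ∣ m → ¬ m ∣ (q + 1) / 2 := by
    intro m h3 hm
    have := h3.trans hm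
    omega
  have kle : ∀ a b : ℕ, 0 < b → b < a → ¬ a ∣ b := by
    intro a b hb hab hdvd
    exact absurd (Nat.le_of_dvd hb hdvd) (not_le.2 hab)
  intro s hs t ht hst
  simp only [Set.mem_insert_iff, Set.mem_singleton_iff] at hs ht
  rcases hs with rfl | rfl | rfl | rfl <;> rcases ht with rfl | rfl | rfl | rfl
  · rfl
  · omega
  · exact absurd hst (k3 6 (by norm_num))
  · exact absurd hst (k3' 6 (by norm_num))
  · omega
  · rfl
  · exact absurd hst (k3 9 (by norm_num))
  · exact absurd hst (k3' 9 (by norm_num))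
  · exact absurd hst (kle _ _ (by norm_num) (by omega))
  · exact absurd hst (kle _ _ (by norm_num) (by omega))
  · rfl
  · exact absurd hst (kle _ _ (by omega) (by omega))
  · exact absurd hst (kle _ _ (by norm_num) (by omega))
  · exact absurd hst (kle _ _ (by norm_num) (by omega))
  · exfalso
    obtain ⟨c, hc⟩ := hst
    rcases c with _ | _ | c
    · omega
    · omega
    · have : (q + 1) / 2 * 2 ≤ (q + 1) / 2 * (c + 1 + 1) := Nat.mul_le_mul_left _ (by omega)
      omega
  · rfl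

end final


theorem three_pow_mod_four (α : ℕ) (hodd : Odd α) : 3 ^ α % 4 = 3 := by
  obtain ⟨k, rfl⟩ := hodd
  rw [pow_succ, pow_mul, Nat.mul_mod, Nat.pow_mod]
  norm_num

section P
variable {F : Type*} [Field F] [CharP F 3]

theorem exists_normal_three :
    ∃ P : Subgroup (TR F), P.Normal ∧ P ≠ ⊥ ∧ IsPGroup 3 ↥P := by
  refine ⟨(SemidirectProduct.inl : Multiplicative (Matrix (Fin 2) (Fin 2) F) →* TR F).range,
    ?_, ?_, ?_⟩
  · rw [SemidirectProduct.range_inl_eq_ker_rightHom]
    exact MonoidHom.normal_ker _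
  · intro h
    have hmem : (SemidirectProduct.inl (Multiplicative.ofAdd (!![0, 0; 0, 1] :
        Matrix (Fin 2) (Fin 2) F)) : TR F) ∈
        (SemidirectProduct.inl : Multiplicative (Matrix (Fin 2) (Fin 2) F) →* TR F).range :=
      ⟨_, rfl⟩
    rw [h, Subgroup.mem_bot] at hmem
    have h1 := SemidirectProduct.inl_injective (hmem.trans (map_one _).symm)
    have h2 := congrArg Multiplicative.toAdd h1
    rw [toAdd_ofAdd, toAdd_one] at h2
    have h3 := congrFun (congrFun h2 1) 1
    simp at h3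
  · intro g
    refine ⟨1, ?_⟩
    obtain ⟨w, hw⟩ := g.2
    apply Subtype.ext
    rw [pow_one, Subgroup.coe_pow, ← hw, ← map_pow, vm_pow_three, map_one]
    rfl

end P

theorem exists_group (α : ℕ) (hα : 3 ≤ α) (hodd : Odd α) :
    ∃ (H : Type) (_ : Group H) (_ : Fintype H),
      (∃ P : Subgroup H, P.Normal ∧ P ≠ ⊥ ∧ IsPGroup 3 ↥P) ∧
      {n : ℕ | n ∈ Set.range (orderOf : H → ℕ) ∧
        ∀ m ∈ Set.range (orderOf : H → ℕ), n ∣ m → m = n} =
        ({6, 9, 3 ^ α - 1, (3 ^ α + 1) / 2} : Set ℕ) := by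
  classical
  let F : Type := GaloisField 3 α
  haveI : Fintype F := Fintype.ofFinite F
  have hcard : Fintype.card F = 3 ^ α := by
    rw [← Nat.card_eq_fintype_card]
    exact GaloisField.card 3 α (by omega)
  have hq4 : Fintype.card F % 4 = 3 := by rw [hcard]; exact three_pow_mod_four α hodd
  have hq27 : 27 ≤ Fintype.card F := by
    rw [hcard]
    calc 27 = 3 ^ 3 := by norm_num
      _ ≤ 3 ^ α := Nat.pow_le_pow_right (by norm_num) hα
  have hq3 : Fintype.card F % 3 = 0 := by
    rw [hcard]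
    obtain ⟨k, rfl⟩ : ∃ k, α = k + 1 := ⟨α - 1, by omega⟩
    rw [pow_succ]; omega
  haveI : Finite (TR F) := finite_TR
  refine ⟨TR F, inferInstance, Fintype.ofFinite _, exists_normal_three, ?_⟩
  rw [← hcard]
  apply maximal_eq
  · rintro n ⟨x, rfl⟩
    rcases pow_cases hq4 x with h | h | h | h
    · exact ⟨6, by simp, orderOf_dvd_of_pow_eq_one h⟩
    · exact ⟨9, by simp, orderOf_dvd_of_pow_eq_one h⟩
    · exact ⟨_, by simp, orderOf_dvd_of_pow_eq_one h⟩
    · exact ⟨_, by simp, orderOf_dvd_of_pow_eq_one h⟩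
  · intro s hs
    simp only [Set.mem_insert_iff, Set.mem_singleton_iff] at hs
    rcases hs with rfl | rfl | rfl | rfl
    · exact ⟨x6, orderOf_x6⟩
    · exact ⟨x9, orderOf_x9⟩
    · obtain ⟨a, ha⟩ := IsCyclic.exists_ofOrder_eq_natCard (α := Fˣ)
      rw [Nat.card_units, Nat.card_eq_fintype_card] at ha
      refine ⟨SemidirectProduct.inr (mkR (Cfsg.Agent.Lib.Helper41_SL2.diagElt a, -1)), ?_⟩
      rw [orderOf_inr, orderOf_mkR, orderOf_rho_diag hq4 a ha]
    · have hres := Cfsg.Agent.S2475.result (F := F) 3 (by omega)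
      have hgcd : Nat.gcd 2 (Fintype.card F - 1) = 2 := by
        apply Nat.gcd_eq_left
        omega
      have hmem : (Fintype.card F + 1) / 2 ∈
          Set.range (orderOf : Matrix.ProjectiveSpecialLinearGroup (Fin 2) F → ℕ) := by
        rw [hres]
        right; right
        rw [hgcd]
      obtain ⟨gbar, hg⟩ := hmem
      obtain ⟨g, rfl⟩ := QuotientGroup.mk_surjective gbar
      refine ⟨SemidirectProduct.inr (mkR (g, 1)), ?_⟩
      rw [orderOf_inr, orderOf_mkR, orderOf_rho_eq_psl, hg]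
  · exact antichain _ hq3 hq4 hq27


end Cfsg.Agent.Helper42TruncRee
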