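import Mathlib
import Cfsg.Prelude.Def_Solvable
import Cfsg.Prelude.Def_CaseTheorems
import Cfsg.Agent.Lib.Helper84_TutteDefs
import Cfsg.Agent.Lib.Helper84_TutteAPI

/-!
# S4385 package C-BOT (helper42, for architect helper84)

Paper (1.9): `R_s = ⊥`.  Each `Y_l = RI (-l) (s-1-l)` (`l < s`) contains `R_s = cj (g^(-l)) R_s` with index 2, so normalises it;
hence `H = ⟨Y_l⟩` does, `g` does, so `cj g H` does; `R_s ≤ H ⊓ cj g H`; core-freeness.
-/

set_option autoImplicit false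

open scoped commutatorElement
open Cfsg.Agent.Lib.Helper84_TutteDefs

namespace Cfsg.Agent.Lib.Helper42_Tutte_CBOT

variable {G : Type*} [Group G] {H : Subgroup G} {g x0 : G} {s lam : ℕ}

theorem mem_RS' {A : Set ℤ} {x : G} : x ∈ RS H g A ↔ ∀ l ∈ A, g ^ (-l) * x * g ^ l ∈ H := by
  unfold RS
  simp only [Subgroup.mem_iInf, mem_cj, zpow_neg]

theorem RI_anti' {i j i' j' : ℤ} (h1 : i' ≤ i) (h2 : j ≤ j') : RI H g i' j' ≤ RI H g i j := by
  intro x hx
  unfold RI at hx ⊢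
  rw [mem_RS'] at hx ⊢
  intro l hl
  exact hx l ⟨h1.trans hl.1, hl.2.trans h2⟩

theorem cj_zpow_RI' (k i j : ℤ) : cj (g ^ k) (RI H g i j) = RI H g (i + k) (j + k) := by
  ext x
  rw [mem_cj]
  unfold RI
  rw [mem_RS', mem_RS']
  have key : ∀ m : ℤ, g ^ (-(m - k)) * ((g ^ k)⁻¹ * x * g ^ k) * g ^ (m - k) = g ^ (-m) * x * g ^ m := by
    intro m
    have e1 : g ^ (-(m - k)) * (g ^ k)⁻¹ = g ^ (-m) := by
      rw [← zpow_neg, ← zpow_add]; congr 1; ring
    have e2 : g ^ k * g ^ (m - k) = g ^ m := by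
      rw [← zpow_add]; congr 1; ring
    calc g ^ (-(m - k)) * ((g ^ k)⁻¹ * x * g ^ k) * g ^ (m - k)
        = (g ^ (-(m - k)) * (g ^ k)⁻¹) * x * (g ^ k * g ^ (m - k)) := by group
      _ = g ^ (-m) * x * g ^ m := by rw [e1, e2]
  constructor
  · intro h m hm
    have h1 := h (m - k) ⟨by linarith [hm.1], by linarith [hm.2]⟩
    rwa [key] at h1
  · intro h l hl
    have h1 := h (l + k) ⟨by linarith [hl.1], by linarith [hl.2]⟩
    rw [← key] at h1
    have e : l + k - k = l := by ring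
    rwa [e] at h1

theorem RI_le_H {i j : ℤ} (hi : i ≤ 0) (hj : 0 ≤ j) : RI H g i j ≤ H := by
  intro x hx
  unfold RI at hx
  rw [mem_RS'] at hx
  have := hx 0 ⟨hi, hj⟩
  simpa using this

theorem RI_le_cj {i j : ℤ} (hi : i ≤ 1) (hj : 1 ≤ j) : RI H g i j ≤ cj g H := by
  intro x hx
  unfold RI at hx
  rw [mem_RS'] at hx
  have := hx 1 ⟨hi, hj⟩
  rw [mem_cj]
  simpa using this

theorem chain_bot (hc : ChainHyp H g) (hd : ChainData H g s)
    (hgen : ⨆ l ∈ Finset.range s, RI H g (-(l : ℤ)) ((s : ℤ) - 1 - l) = H) : RI H g 0 s = ⊥ := by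
  have hfin : Finite ↥H := hc.fin
  have hs2 : 2 ≤ s := hd.two_le
  obtain ⟨R, hR⟩ : ∃ R : Subgroup G, R = RI H g 0 s := ⟨_, rfl⟩
  rw [← hR]
  have hRH : R ≤ H := by rw [hR]; exact RI_le_H le_rfl (by positivity)
  have hRfin : Finite ↥R := Finite.of_injective (Subgroup.inclusion hRH) (Subgroup.inclusion_injective hRH)
  -- `g` normalises `R`
  have hgN : g ∈ Subgroup.normalizer (R : Set G) := by
    rw [Subgroup.mem_normalizer_iff_map_conj_eq, hR]
    exact hd.inv
  have hgk : ∀ k : ℤ, cj (g ^ k) R = R := by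
    intro k
    exact (Subgroup.mem_normalizer_iff_map_conj_eq).mp (Subgroup.zpow_mem _ hgN k)
  -- the index of `R_s` in `R_{s-1}`
  have hidx : (RI H g 0 s).relIndex (RI H g 0 ((s : ℤ) - 1)) = 2 := by
    have h1 := hd.idx (s - 1) (by omega) (by omega)
    have e1 : ((s - 1 : ℕ) : ℤ) + 1 = (s : ℤ) := by
      have : 1 ≤ s := by omega
      push_cast [this]; ring
    have e2 : ((s - 1 : ℕ) : ℤ) = (s : ℤ) - 1 := by
      have : 1 ≤ s := by omega
      push_cast [this]; ring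
    rw [e1, e2] at h1
    exact h1
  have hle1 : RI H g 0 s ≤ RI H g 0 ((s : ℤ) - 1) := RI_anti' le_rfl (by linarith)
  have hcard1 : Nat.card ↥R * 2 = Nat.card ↥(RI H g 0 ((s : ℤ) - 1)) := by
    have := card_mul_relIndex' hle1
    rw [hidx, ← hR] at this
    exact this
  -- every `Y_l` normalises `R`
  have hY : ∀ l : ℕ, l < s →
      RI H g (-(l : ℤ)) ((s : ℤ) - 1 - l) ≤ Subgroup.normalizer (R : Set G) := by
    intro l hl
    have hRl : R = RI H g (-(l : ℤ)) ((s : ℤ) - l) := by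
      have h1 := hgk (-(l : ℤ))
      rw [hR, cj_zpow_RI'] at h1
      rw [hR, ← h1]
      congr 1
      ring
    have hYl : RI H g (-(l : ℤ)) ((s : ℤ) - 1 - l) = cj (g ^ (-(l : ℤ))) (RI H g 0 ((s : ℤ) - 1)) := by
      rw [cj_zpow_RI']
      congr 1
      ring
    have hle : R ≤ RI H g (-(l : ℤ)) ((s : ℤ) - 1 - l) := by
      rw [hRl]
      exact RI_anti' le_rfl (by linarith)
    have hcardY : Nat.card ↥(RI H g (-(l : ℤ)) ((s : ℤ) - 1 - l)) = Nat.card ↥R * 2 := by
      rw [hYl, card_cj, hcard1]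
    have hrel : R.relIndex (RI H g (-(l : ℤ)) ((s : ℤ) - 1 - l)) = 2 := by
      have h1 := card_mul_relIndex' hle
      rw [hcardY] at h1
      have hpos : 0 < Nat.card ↥R := Nat.card_pos
      exact Nat.eq_of_mul_eq_mul_left hpos h1
    have hnorm : (R.subgroupOf (RI H g (-(l : ℤ)) ((s : ℤ) - 1 - l))).Normal :=
      Subgroup.normal_of_index_eq_two hrel
    exact (Subgroup.normal_subgroupOf_iff_le_normalizer hle).mp hnorm
  have hHN : H ≤ Subgroup.normalizer (R : Set G) := by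
    rw [← hgen]
    apply iSup_le
    intro l
    apply iSup_le
    intro hl
    exact hY l (Finset.mem_range.mp hl)
  apply hc.core R
  · rw [hR]
    exact le_inf (RI_le_H le_rfl (by positivity)) (RI_le_cj (by norm_num) (by exact_mod_cast (by omega : 1 ≤ s)))
  · intro h hh
    exact (Subgroup.mem_normalizer_iff_map_conj_eq).mp (hHN hh)
  · intro h hh
    rw [mem_cj] at hh
    have h1 : g * (g⁻¹ * h * g) * g⁻¹ ∈ Subgroup.normalizer (R : Set G) :=
      Subgroup.mul_mem _ (Subgroup.mul_mem _ hgN (hHN hh)) (Subgroup.inv_mem _ hgN)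
    have e : g * (g⁻¹ * h * g) * g⁻¹ = h := by group
    rw [e] at h1
    exact (Subgroup.mem_normalizer_iff_map_conj_eq).mp h1

end Cfsg.Agent.Lib.Helper42_Tutte_CBOT
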