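import Cfsg.Agent.Lib.Helper48_Trans
import Cfsg.Agent.Lib.Helper48_Op
import Cfsg.Agent.Lib.Helper47_PClosed
import Cfsg.Agent.Lib.Helper47_Quot
import Cfsg.Agent.Lib.Helper47_SubAPI
import Cfsg.Agent.Lib.Helper47_PLocal
import Cfsg.Agent.Lib.Helper22_Cores

/-!
# `p`-irreducibility from a transitive family of strongly `p`-irreducible subgroups (helper48)
-/

set_option autoImplicit false
open Cfsg
open scoped Pointwise commutatorElement
open Cfsg.Agent.Lib.Helper48_SPE Cfsg.Agent.Lib.Helper48_PMinimal Cfsg.Agent.Lib.Helper48_Tight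
open Cfsg.Agent.Lib.Helper48_Trans Cfsg.Agent.Lib.Helper48_Op
open Cfsg.Agent.Lib.Lead_Subnormal

namespace Cfsg.Agent.Lib.Helper48_Trans2

/-- A strongly `p`-irreducible group has no nontrivial `p'`-quotient. -/
theorem hom_trivial_of_stronglyPIrreducible {E B : Type*} [Group E] [Finite E] [Group B] {p : ℕ}
    [Fact p.Prime] (hE : IsStronglyPIrreducible p E) (ψ : E →* B)
    (hψ : ∀ e, (orderOf (ψ e)).Coprime p) : ∀ e, ψ e = 1 := by
  have hker : ∀ e : E, ∀ k : ℕ, e ^ (p ^ k) ∈ ψ.ker → ψ e = 1 := by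
    intro e k hk
    rw [MonoidHom.mem_ker, map_pow] at hk
    have h1 : orderOf (ψ e) ∣ p ^ k := orderOf_dvd_of_pow_eq_one hk
    have h2 : (orderOf (ψ e)).Coprime (p ^ k) := Nat.Coprime.pow_right k (hψ e)
    have h3 : orderOf (ψ e) = 1 := Nat.Coprime.eq_one_of_dvd h2 h1
    exact orderOf_eq_one_iff.mp h3
  by_cases hc : ⁅ψ.ker, (⊤ : Subgroup E)⁆ ≤ pCore p E
  · exfalso
    apply hE.1
    intro T
    have hTk : (T : Subgroup E) ≤ ψ.ker := by
      intro t ht
      obtain ⟨k, hk⟩ := Cfsg.Agent.Lib.Helper47_PClosed.exists_pow_eq_one_of_mem T.isPGroup' ht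
      rw [MonoidHom.mem_ker]
      exact hker t k (by rw [hk]; exact Subgroup.one_mem _)
    constructor
    intro t ht e
    have h1 : ⁅e, t⁆ ∈ pCore p E := by
      have h0 : ⁅t, e⁆ ∈ ⁅ψ.ker, (⊤ : Subgroup E)⁆ :=
        Subgroup.commutator_mem_commutator (hTk ht) (Subgroup.mem_top e)
      have h2 := hc h0
      rw [← commutatorElement_inv]
      exact Subgroup.inv_mem _ h2
    have h2 : ⁅e, t⁆ ∈ (T : Subgroup E) := Cfsg.Agent.Lib.Helper1_Cores.pCore_le_sylow p T h1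
    have h3 : e * t * e⁻¹ = ⁅e, t⁆ * t := by
      rw [commutatorElement_def]; group
    rw [h3]
    exact Subgroup.mul_mem _ h2 ht
  · have hle := hE.2 ψ.ker inferInstance hc
    intro e
    obtain ⟨k, hk⟩ := Cfsg.Agent.Lib.Helper47_PClosed.exists_pow_mem_pResidual (p := p) e
    exact hker e k (hle hk)

/-- In a group with trivial `O_p`, a commutative subgroup normalized by a subnormal subgroup
containing it consists of `p'`-elements. -/
theorem coprime_orderOf_of_comm {G : Type*} [Group G] [Finite G] {p : ℕ} [Fact p.Prime]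
    (hO : pCore p G = ⊥) {Z R : Subgroup G} (hR : R.IsSubnormal) (hZR : Z ≤ R)
    (hRZ : R ≤ Subgroup.normalizer (Z : Set G)) (hcomm : ∀ a ∈ Z, ∀ b ∈ Z, a * b = b * a) :
    ∀ z ∈ Z, (orderOf z).Coprime p := by
  have hp : p.Prime := Fact.out
  let P : Subgroup G :=
    { carrier := {z | z ∈ Z ∧ ∃ k : ℕ, z ^ (p ^ k) = 1}
      one_mem' := ⟨Z.one_mem, 0, by simp⟩
      mul_mem' := by
        rintro a b ⟨ha, j, hj⟩ ⟨hb, k, hk⟩
        refine ⟨Z.mul_mem ha hb, j + k, ?_⟩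
        have hab : Commute a b := hcomm a ha b hb
        rw [hab.mul_pow, pow_add, pow_mul, hj, one_pow, one_mul, mul_comm (p ^ j), pow_mul, hk,
          one_pow]
      inv_mem' := by
        rintro a ⟨ha, j, hj⟩
        exact ⟨Z.inv_mem ha, j, by rw [inv_pow, hj, inv_one]⟩ }
  have hPZ : P ≤ Z := fun z hz => hz.1
  have hPp : IsPGroup p P := by
    rintro ⟨z, hz⟩
    obtain ⟨k, hk⟩ := hz.2
    exact ⟨k, Subtype.ext (by simpa using hk)⟩
  have hRP : R ≤ Subgroup.normalizer (P : Set G) := by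
    apply Cfsg.Agent.Lib.Helper47_PClosed.le_normalizer_of_forall_map_conj_le
    intro g hg
    rintro _ ⟨z, hz, rfl⟩
    have hz' : z ∈ Z ∧ ∃ k : ℕ, z ^ (p ^ k) = 1 := hz
    refine ⟨?_, ?_⟩
    · have := (Subgroup.mem_normalizer_iff.mp (hRZ hg) z).mp hz'.1
      simpa using this
    · obtain ⟨k, hk⟩ := hz'.2
      refine ⟨k, ?_⟩
      rw [← map_pow, hk, map_one]
  have hP : P = ⊥ := by
    rw [← le_bot_iff, ← hO]
    exact Cfsg.Agent.Lib.Helper22_Cores.le_pCore_of_le_isSubnormal p hR (hPZ.trans hZR) hRP hPp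
  intro z hz
  rw [Nat.coprime_comm, Nat.Prime.coprime_iff_not_dvd hp]
  intro hdvd
  have hpos : 0 < orderOf z := orderOf_pos z
  have hw : z ^ (orderOf z / p) ∈ P := by
    refine ⟨Z.pow_mem hz _, 1, ?_⟩
    rw [pow_one, ← pow_mul, Nat.div_mul_cancel hdvd, pow_orderOf_eq_one]
  rw [hP, Subgroup.mem_bot] at hw
  have h1 : orderOf z ∣ orderOf z / p := orderOf_dvd_of_pow_eq_one hw
  have h2 : 0 < orderOf z / p := Nat.div_pos (Nat.le_of_dvd hpos hdvd) hp.pos
  have h3 : orderOf z / p < orderOf z := Nat.div_lt_self hpos hp.one_lt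
  exact absurd (Nat.le_of_dvd h2 h1) (not_le.mpr h3)

/-- If the commutators `[x, π e]` (`e ∈ E`) lie in a subgroup of `p'`-elements centralized by
`π E`, and `E` is strongly `p`-irreducible, then `x` centralizes `π E`. -/
theorem commute_of_commutator_mem {H Hb : Type*} [Group H] [Group Hb] {p : ℕ} [Fact p.Prime]
    (π : H →* Hb) (E : Subgroup H) [Finite E] (hE : IsStronglyPIrreducible p ↥E) (x : Hb)
    (Z : Subgroup Hb) (h1 : ∀ e ∈ E, ⁅x, π e⁆ ∈ Z) (h2 : ∀ e ∈ E, ∀ z ∈ Z, π e * z = z * π e)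
    (h3 : ∀ z ∈ Z, (orderOf z).Coprime p) : ∀ e ∈ E, x * π e = π e * x := by
  let ψ : ↥E →* Hb := MonoidHom.mk' (fun e => ⁅x, π (e : H)⁆) (by
    intro a b
    have hc : Commute (π (a : H)) ⁅x, π (b : H)⁆ := h2 a a.2 _ (h1 b b.2)
    have hc' : (π (a : H))⁻¹ * ⁅x, π (b : H)⁆ = ⁅x, π (b : H)⁆ * (π (a : H))⁻¹ := hc.inv_left.eq
    show ⁅x, π ((a * b : ↥E) : H)⁆ = ⁅x, π (a : H)⁆ * ⁅x, π (b : H)⁆
    rw [Subgroup.coe_mul, map_mul]
    have e1 : ⁅x, π (a : H) * π (b : H)⁆ =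
        x * π (a : H) * x⁻¹ * (⁅x, π (b : H)⁆ * (π (a : H))⁻¹) := by
      rw [commutatorElement_def, commutatorElement_def]; group
    rw [e1, ← hc', commutatorElement_def x (π (a : H))]
    group)
  have hψ : ∀ e, ψ e = 1 :=
    hom_trivial_of_stronglyPIrreducible hE ψ (fun e => h3 _ (h1 e e.2))
  intro e he
  have h := hψ ⟨e, he⟩
  have h' : ⁅x, π e⁆ = 1 := h
  exact (commutatorElement_eq_one_iff_commute.mp h').eq


/-- Strong `p`-irreducibility of a subgroup `E`, stated in the ambient group. -/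
theorem Op_le_or_commutator_mem {H : Type*} [Group H] {p : ℕ} {E : Subgroup H}
    (hE : IsStronglyPIrreducible p ↥E) (X : Subgroup H)
    (hEX : E ≤ Subgroup.normalizer (X : Set H)) :
    Op p E ≤ X ∨ ∀ a ∈ X ⊓ E, ∀ b ∈ E, ⁅a, b⁆ ∈ pCoreOf p E := by
  have : (X.subgroupOf E).Normal := Subgroup.normal_subgroupOf_of_le_normalizer hEX
  by_cases hc : ⁅X.subgroupOf E, (⊤ : Subgroup ↥E)⁆ ≤ pCore p ↥E
  · right
    intro a ha b hb
    have h1 : ⁅(⟨a, ha.2⟩ : ↥E), ⟨b, hb⟩⁆ ∈ ⁅X.subgroupOf E, (⊤ : Subgroup ↥E)⁆ :=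
      Subgroup.commutator_mem_commutator (Subgroup.mem_subgroupOf.mpr ha.1) (Subgroup.mem_top _)
    have h2 := hc h1
    exact Subgroup.mem_map.mpr ⟨_, h2, rfl⟩
  · left
    have h := hE.2 _ inferInstance hc
    rw [Op_eq_map_pResidual]
    refine (Subgroup.map_mono h).trans ?_
    rw [Subgroup.subgroupOf_map_subtype]
    exact inf_le_left

/-- `O_p(E) ≤ O_p(H)` when `E·O_p(H)` is subnormal. -/
theorem pCoreOf_le_pCore_of_sup_isSubnormal {H : Type*} [Group H] [Finite H] {p : ℕ}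
    [Fact p.Prime] {E : Subgroup H} (hsub : (E ⊔ pCore p H).IsSubnormal) :
    pCoreOf p E ≤ pCore p H := by
  have hQp : IsPGroup p (pCore p H) := Cfsg.Agent.Lib.Helper1_Cores.pCore_isPGroup p
  have hX : pCoreOf p E ⊔ pCore p H ≤ pCore p H := by
    apply Cfsg.Agent.Lib.Helper22_Cores.le_pCore_of_le_isSubnormal p hsub
      (sup_le_sup_right (Cfsg.Agent.Lib.Helper47_SubAPI.pCoreOf_le E) _)
    · apply sup_le
      · intro e he
        apply mem_normalizer_of_conj_smul_eq_self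
        rw [Subgroup.smul_sup, Subgroup.Normal.conj_smul_eq_self e (pCore p H),
          conj_smul_eq_self_of_mem_normalizer
            (Cfsg.Agent.Lib.Helper47_SubAPI.le_normalizer_pCoreOf (p := p) E he)]
      · exact le_sup_right.trans Subgroup.le_normalizer
    · exact (Cfsg.Agent.Lib.Helper47_SubAPI.isPGroup_pCoreOf E).to_sup_of_normal_right hQp
  exact le_sup_left.trans hX

/-! ### Passing to a quotient with kernel `O_p(H)` -/

section Family

variable {H Hb : Type*} [Group H] [Group Hb] [Finite H] [Finite Hb] {p : ℕ} [Fact p.Prime]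
  {𝒦 : Set (Subgroup H)} (π : H →* Hb)

omit [Finite H] [Finite Hb] [Fact p.Prime] in
theorem map_sup_pCore (hker : π.ker = pCore p H) (E : Subgroup H) :
    (E ⊔ pCore p H).map π = E.map π := by
  rw [Subgroup.map_sup, (Subgroup.map_eq_bot_iff _).mpr hker.ge, sup_bot_eq]

omit [Finite H] [Finite Hb] [Fact p.Prime] in
theorem commute_map_iff (hker : π.ker = pCore p H) (x y : H) :
    π x * π y = π y * π x ↔ ⁅x, y⁆ ∈ pCore p H := by
  rw [← hker, MonoidHom.mem_ker, map_commutatorElement, commutatorElement_eq_one_iff_commute]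
  exact Iff.rfl

omit [Finite H] [Finite Hb] [Fact p.Prime] in
theorem mem_of_map_mem (hker : π.ker = pCore p H) {X : Subgroup H} (hQX : pCore p H ≤ X) {x : H}
    (hx : π x ∈ X.map π) : x ∈ X := by
  have h : x ∈ (X.map π).comap π := hx
  rw [Subgroup.comap_map_eq, hker, sup_eq_left.mpr hQX] at h
  exact h

omit [Finite H] [Finite Hb] [Fact p.Prime] in
theorem map_sSup_le_normalizer (hker : π.ker = pCore p H)
    (hnorm : ∀ E ∈ 𝒦, sSup 𝒦 ⊔ pCore p H ≤
      Subgroup.normalizer ((E ⊔ pCore p H : Subgroup H) : Set H))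
    {E : Subgroup H} (hE : E ∈ 𝒦) :
    (sSup 𝒦).map π ≤ Subgroup.normalizer ((E.map π : Subgroup Hb) : Set Hb) := by
  have h1 := Subgroup.map_mono (f := π) (le_sup_left.trans (hnorm E hE))
  have h2 := Subgroup.le_normalizer_map (H := E ⊔ pCore p H) π
  rw [map_sup_pCore π hker] at h2
  exact h1.trans h2

theorem key_commute (hπ : Function.Surjective π) (hO : pCore p Hb = ⊥)
    (hinv : ∀ h : H, ∀ E ∈ 𝒦, MulAut.conj h • E ∈ 𝒦)
    {E : Subgroup H} (hirr : IsStronglyPIrreducible p ↥E) (I : Subgroup Hb)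
    (hIR : I ≤ (sSup 𝒦).map π)
    (hRI : (sSup 𝒦).map π ≤ Subgroup.normalizer (I : Set Hb))
    (hcomm : ∀ a ∈ I, ∀ b ∈ I, a * b = b * a)
    (hcent : ∀ e ∈ E, ∀ z ∈ I, π e * z = z * π e)
    (x : Hb) (hx : ∀ e ∈ E, ⁅x, π e⁆ ∈ I) : ∀ e ∈ E, x * π e = π e * x := by
  have := sSup_normal_of_conj hinv
  have hsub : ((sSup 𝒦).map π).IsSubnormal :=
    (Subgroup.Normal.map inferInstance π hπ).isSubnormal
  have hcop := coprime_orderOf_of_comm hO hsub hIR hRI hcomm
  exact commute_of_commutator_mem π E hirr x I hx hcent hcop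

omit [Finite H] [Finite Hb] [Fact p.Prime] in
theorem commutator_mem_of_mem_normal {G : Type*} [Group G] {N : Subgroup G} [hN : N.Normal]
    {x : G} (hx : x ∈ N) (y : G) : ⁅x, y⁆ ∈ N :=
  Subgroup.commutator_le_left N ⊤ (Subgroup.commutator_mem_commutator hx (Subgroup.mem_top y))

omit [Finite H] [Finite Hb] [Fact p.Prime] in
theorem commutator_mem_of_mem_normal' {G : Type*} [Group G] {N : Subgroup G} [hN : N.Normal]
    (x : G) {y : G} (hy : y ∈ N) : ⁅x, y⁆ ∈ N :=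
  Subgroup.commutator_le_right ⊤ N (Subgroup.commutator_mem_commutator (Subgroup.mem_top x) hy)

omit [Finite H] [Finite Hb] [Fact p.Prime] in
theorem commutator_mem_of_mem_normalizer {G : Type*} [Group G] {N : Subgroup G}
    {x : G} (hx : x ∈ Subgroup.normalizer (N : Set G)) {y : G} (hy : y ∈ N) : ⁅x, y⁆ ∈ N := by
  rw [commutatorElement_def]
  exact N.mul_mem ((Subgroup.mem_normalizer_iff.mp hx y).mp hy) (N.inv_mem hy)

/-- Case 2: if `N' ∩ E` is central in `E` modulo `O_p(H)` for all `E`, then `N'` centralizes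
all `E` modulo `O_p(H)`. -/
theorem commutator_mem_of_central (hπ : Function.Surjective π) (hker : π.ker = pCore p H)
    (hO : pCore p Hb = ⊥)
    (hinv : ∀ h : H, ∀ E ∈ 𝒦, MulAut.conj h • E ∈ 𝒦)
    (hnorm : ∀ E ∈ 𝒦, sSup 𝒦 ⊔ pCore p H ≤
      Subgroup.normalizer ((E ⊔ pCore p H : Subgroup H) : Set H))
    (hirr : ∀ E ∈ 𝒦, IsStronglyPIrreducible p ↥E)
    (N' : Subgroup H) [N'.Normal] (hQN : pCore p H ≤ N')
    (h2 : ∀ E ∈ 𝒦, ∀ a ∈ N' ⊓ E, ∀ b ∈ E, ⁅a, b⁆ ∈ pCore p H) :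
    ∀ n ∈ N', ∀ E ∈ 𝒦, ∀ e ∈ E, ⁅n, e⁆ ∈ pCore p H := by
  have hRn := sSup_normal_of_conj hinv
  have hNb : (N'.map π).Normal := Subgroup.Normal.map inferInstance π hπ
  have hRb : ((sSup 𝒦).map π).Normal := Subgroup.Normal.map inferInstance π hπ
  -- Step A
  have hA : ∀ E ∈ 𝒦, ∀ e ∈ E, ∀ z ∈ N'.map π ⊓ E.map π, π e * z = z * π e := by
    intro E hE e he z hz
    obtain ⟨f, hf, rfl⟩ := hz.2
    have hfN : f ∈ N' := mem_of_map_mem π hker hQN hz.1
    have := h2 E hE f ⟨hfN, hf⟩ e he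
    exact ((commute_map_iff π hker f e).mpr this).symm
  -- Step B
  have hB : ∀ x ∈ N'.map π ⊓ (sSup 𝒦).map π, ∀ E ∈ 𝒦, ∀ e ∈ E, x * π e = π e * x := by
    intro x hx E hE
    apply key_commute π hπ hO hinv (hirr E hE) (N'.map π ⊓ E.map π)
    · exact inf_le_right.trans (Subgroup.map_mono (le_sSup hE))
    · refine le_trans (le_inf ?_ (map_sSup_le_normalizer π hker hnorm hE))
        (Cfsg.Agent.Lib.Helper47_SubAPI.normalizer_inf_le_normalizer_inf _ _)
      rw [Subgroup.normalizer_eq_top_iff.mpr hNb]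
      exact le_top
    · intro a ha b hb
      obtain ⟨f, hf, rfl⟩ := hb.2
      exact (hA E hE f hf a ha).symm
    · exact hA E hE
    · intro e he
      exact ⟨commutator_mem_of_mem_normal hx.1 _,
        commutator_mem_of_mem_normalizer (map_sSup_le_normalizer π hker hnorm hE hx.2)
          (Subgroup.mem_map_of_mem π he)⟩
  have hB' : ∀ x ∈ N'.map π ⊓ (sSup 𝒦).map π, ∀ y ∈ (sSup 𝒦).map π, x * y = y * x := by
    intro x hx y hy
    obtain ⟨r, hr, rfl⟩ := hy
    have hle : sSup 𝒦 ≤ (Subgroup.centralizer ({x} : Set Hb)).comap π := by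
      apply sSup_le
      intro E hE e he
      rw [Subgroup.mem_comap, Subgroup.mem_centralizer_iff]
      intro z hz
      rw [Set.mem_singleton_iff] at hz
      rw [hz]
      exact hB x hx E hE e he
    have h := hle hr
    rw [Subgroup.mem_comap, Subgroup.mem_centralizer_iff] at h
    exact h x rfl
  -- Step D
  have hD : ∀ x ∈ N'.map π, ∀ E ∈ 𝒦, ∀ e ∈ E, x * π e = π e * x := by
    intro x hx E hE
    apply key_commute π hπ hO hinv (hirr E hE) (N'.map π ⊓ (sSup 𝒦).map π)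
    · exact inf_le_right
    · have hn : (N'.map π ⊓ (sSup 𝒦).map π).Normal := inferInstance
      rw [Subgroup.normalizer_eq_top_iff.mpr hn]
      exact le_top
    · intro a ha b hb
      exact hB' a ha b hb.2
    · intro e he z hz
      exact (hB z hz E hE e he).symm
    · intro e he
      exact ⟨commutator_mem_of_mem_normal hx _,
        commutator_mem_of_mem_normal' _ (Subgroup.mem_map_of_mem π (le_sSup hE he))⟩
  intro n hn E hE e he
  exact (commute_map_iff π hker n e).mp (hD (π n) (Subgroup.mem_map_of_mem π hn) E hE e he)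


omit [Finite H] [Finite Hb] [Fact p.Prime] in
theorem commutator_mem_of_mem_normalizer' {G : Type*} [Group G] {N : Subgroup G}
    {x : G} (hx : x ∈ N) {y : G} (hy : y ∈ Subgroup.normalizer (N : Set G)) : ⁅x, y⁆ ∈ N := by
  have h : ⁅x, y⁆ = x * (y * x⁻¹ * y⁻¹) := by rw [commutatorElement_def]; group
  rw [h]
  exact N.mul_mem hx ((Subgroup.mem_normalizer_iff.mp hy x⁻¹).mp (N.inv_mem hx))

/-- If `K·O_p(H) ∩ E` is central in `E` modulo `O_p(H)`, then `[K, E] ≤ O_p(H)`. -/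
theorem commutator_le_of_central (hπ : Function.Surjective π) (hker : π.ker = pCore p H)
    (hO : pCore p Hb = ⊥)
    (hinv : ∀ h : H, ∀ E ∈ 𝒦, MulAut.conj h • E ∈ 𝒦)
    (hnorm : ∀ E ∈ 𝒦, sSup 𝒦 ⊔ pCore p H ≤
      Subgroup.normalizer ((E ⊔ pCore p H : Subgroup H) : Set H))
    {E K : Subgroup H} (hE : E ∈ 𝒦) (hK : K ∈ 𝒦) (hirr : IsStronglyPIrreducible p ↥E)
    (h2 : ∀ a ∈ (K ⊔ pCore p H) ⊓ E, ∀ b ∈ E, ⁅a, b⁆ ∈ pCore p H) :
    ⁅K, E⁆ ≤ pCore p H := by
  have hRE := map_sSup_le_normalizer π hker hnorm hE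
  have hRK := map_sSup_le_normalizer π hker hnorm hK
  have hcent : ∀ e ∈ E, ∀ z ∈ K.map π ⊓ E.map π, π e * z = z * π e := by
    intro e he z hz
    obtain ⟨f, hf, rfl⟩ := hz.2
    have hfK : f ∈ K ⊔ pCore p H := by
      apply mem_of_map_mem π hker le_sup_right
      rw [map_sup_pCore π hker]
      exact hz.1
    have := h2 f ⟨hfK, hf⟩ e he
    exact ((commute_map_iff π hker f e).mpr this).symm
  have hD : ∀ x ∈ K.map π, ∀ e ∈ E, x * π e = π e * x := by
    intro x hx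
    apply key_commute π hπ hO hinv hirr (K.map π ⊓ E.map π)
    · exact inf_le_right.trans (Subgroup.map_mono (le_sSup hE))
    · exact le_trans (le_inf hRK hRE)
        (Cfsg.Agent.Lib.Helper47_SubAPI.normalizer_inf_le_normalizer_inf _ _)
    · intro a ha b hb
      obtain ⟨f, hf, rfl⟩ := hb.2
      exact (hcent f hf a ha).symm
    · exact hcent
    · intro e he
      refine ⟨commutator_mem_of_mem_normalizer' hx
          (hRK (Subgroup.mem_map_of_mem π (le_sSup hE he))),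
        commutator_mem_of_mem_normalizer (hRE (Subgroup.map_mono (le_sSup hK) hx))
          (Subgroup.mem_map_of_mem π he)⟩
  rw [Subgroup.commutator_le]
  intro k hk e he
  exact (commute_map_iff π hker k e).mp (hD (π k) (Subgroup.mem_map_of_mem π hk) e he)

end Family

/-! ### The main results, in the ambient group -/

section Main

variable {H : Type*} [Group H] [Finite H] {p : ℕ} [Fact p.Prime] {𝒦 : Set (Subgroup H)}

omit [Finite H] in
theorem pCore_quotient_pCore : pCore p (H ⧸ pCore p H) = ⊥ := by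
  have h := Cfsg.Agent.Lib.Helper47_Quot.comap_pCore_quotient (pCore p H)
    (Cfsg.Agent.Lib.Helper1_Cores.pCore_isPGroup p)
  have h2 := congrArg (Subgroup.map (QuotientGroup.mk' (pCore p H))) h
  rw [Subgroup.map_comap_eq_self_of_surjective (QuotientGroup.mk'_surjective _),
    QuotientGroup.map_mk'_self] at h2
  exact h2

omit [Finite H] in
theorem pCore_inf_le_pCoreOf (X : Subgroup H) : pCore p H ⊓ X ≤ pCoreOf p X := by
  apply Cfsg.Agent.Lib.Helper47_SubAPI.le_pCoreOf inf_le_right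
  · refine le_trans (le_inf ?_ Subgroup.le_normalizer)
      (Cfsg.Agent.Lib.Helper47_SubAPI.normalizer_inf_le_normalizer_inf _ _)
    rw [Subgroup.normalizer_eq_top_iff.mpr inferInstance]
    exact le_top
  · exact (Cfsg.Agent.Lib.Helper1_Cores.pCore_isPGroup p).to_le inf_le_left

theorem not_isPClosed_of_family (hne : 𝒦.Nonempty)
    (hirr : ∀ E ∈ 𝒦, IsStronglyPIrreducible p ↥E) : ¬ IsPClosed p H := by
  intro hH
  obtain ⟨E, hE⟩ := hne
  apply (hirr E hE).1
  rw [Cfsg.Agent.Lib.Helper47_PClosed.isPClosed_iff_forall_mem_pCore] at hH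
  rw [Cfsg.Agent.Lib.Helper47_PClosed.isPClosed_subgroup_iff]
  intro g hgE hg
  exact pCore_inf_le_pCoreOf E ⟨hH g hg, hgE⟩

theorem sylow_inf_le_pCore (hres : pResidual p H ≤ sSup 𝒦) (N' : Subgroup H) [hN' : N'.Normal]
    (hQN : pCore p H ≤ N')
    (hc : ∀ n ∈ N', ∀ E ∈ 𝒦, ∀ e ∈ E, ⁅n, e⁆ ∈ pCore p H) (S : Sylow p H) :
    (S : Subgroup H) ⊓ N' ≤ pCore p H := by
  have hQS : pCore p H ≤ (S : Subgroup H) := Cfsg.Agent.Lib.Helper1_Cores.pCore_le_sylow p S
  have hSn : (S : Subgroup H) ≤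
      Subgroup.normalizer (((S : Subgroup H) ⊓ N' : Subgroup H) : Set H) := by
    refine le_trans (le_inf Subgroup.le_normalizer ?_)
      (Cfsg.Agent.Lib.Helper47_SubAPI.normalizer_inf_le_normalizer_inf _ _)
    rw [Subgroup.normalizer_eq_top_iff.mpr hN']
    exact le_top
  have hRn : sSup 𝒦 ≤ Subgroup.normalizer (((S : Subgroup H) ⊓ N' : Subgroup H) : Set H) := by
    apply sSup_le
    intro E hE
    apply Cfsg.Agent.Lib.Helper47_PClosed.le_normalizer_of_forall_map_conj_le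
    intro e he
    rintro _ ⟨t, ht, rfl⟩
    have h1 : ⁅t, e⁆ ∈ pCore p H := hc t ht.2 E hE e he
    have h2 : ⁅e, t⁆ ∈ pCore p H := by
      rw [← commutatorElement_inv]
      exact Subgroup.inv_mem _ h1
    have h3 : (MulAut.conj e).toMonoidHom t = ⁅e, t⁆ * t := by
      simp only [MulEquiv.coe_toMonoidHom, MulAut.conj_apply, commutatorElement_def]
      group
    rw [h3]
    exact Subgroup.mul_mem _ (le_inf hQS hQN h2) ht
  have htop : Subgroup.normalizer (((S : Subgroup H) ⊓ N' : Subgroup H) : Set H) = ⊤ := by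
    rw [eq_top_iff, ← sylow_sup_sSup_eq_top hres S]
    exact sup_le hSn hRn
  exact Cfsg.Agent.Lib.Helper1_Cores.le_pCore (Subgroup.normalizer_eq_top_iff.mp htop)
    (S.isPGroup'.to_le inf_le_left)

/-- **`O^p(H)` lies in every normal subgroup that is not `p`-closed.** -/
theorem pResidual_le_of_not_isPClosed
    (hinv : ∀ h : H, ∀ E ∈ 𝒦, MulAut.conj h • E ∈ 𝒦)
    (htr : ∀ E ∈ 𝒦, ∀ K ∈ 𝒦, ∃ h : H, K = MulAut.conj h • E)
    (hres : pResidual p H ≤ sSup 𝒦)
    (hnorm : ∀ E ∈ 𝒦, sSup 𝒦 ⊔ pCore p H ≤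
      Subgroup.normalizer ((E ⊔ pCore p H : Subgroup H) : Set H))
    (hirr : ∀ E ∈ 𝒦, IsStronglyPIrreducible p ↥E)
    (N : Subgroup H) [hN : N.Normal] (hNc : ¬ IsPClosed p ↥N) : pResidual p H ≤ N := by
  have hRn := sSup_normal_of_conj hinv
  have hQp : IsPGroup p (pCore p H) := Cfsg.Agent.Lib.Helper1_Cores.pCore_isPGroup p
  obtain ⟨N', hN'⟩ : ∃ N' : Subgroup H, N' = N ⊔ pCore p H := ⟨_, rfl⟩
  have hN'n : N'.Normal := by
    rw [hN']
    infer_instance
  have hQN : pCore p H ≤ N' := by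
    rw [hN']
    exact le_sup_right
  have hNN' : N ≤ N' := by
    rw [hN']
    exact le_sup_left
  obtain ⟨S⟩ : Nonempty (Sylow p H) := inferInstance
  have hQS : pCore p H ≤ (S : Subgroup H) := Cfsg.Agent.Lib.Helper1_Cores.pCore_le_sylow p S
  by_cases h : ∃ E ∈ 𝒦, Op p E ≤ N'
  · obtain ⟨E₀, hE₀, hle₀⟩ := h
    have hall : ∀ E ∈ 𝒦, Op p E ≤ N' := by
      intro E hE
      obtain ⟨g, rfl⟩ := htr E₀ hE₀ E hE
      have h1 : MulAut.conj g • Op p E₀ ≤ MulAut.conj g • N' :=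
        Subgroup.pointwise_smul_le_pointwise_smul_iff.mpr hle₀
      rw [Op_conj_smul, Subgroup.Normal.conj_smul_eq_self g N'] at h1
      exact h1
    have hE_le : ∀ E ∈ 𝒦, E ≤ N' ⊔ (S : Subgroup H) := by
      intro E hE
      have hsyl : IsSylowIn p ((S : Subgroup H) ⊓ (E ⊔ pCore p H)) (E ⊔ pCore p H) :=
        isSylowIn_inf_of_isSubnormal S (isSubnormal_sup_pCore hinv hnorm hE)
      have hT := isSylowIn_inf_of_sup hQp hsyl
      have h1 := Op_sup_isSylowIn hT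
      calc E = Op p E ⊔ ((S : Subgroup H) ⊓ (E ⊔ pCore p H) ⊓ E) := h1.symm
        _ ≤ N' ⊔ (S : Subgroup H) := sup_le_sup (hall E hE) (inf_le_left.trans inf_le_left)
    have h1 : pResidual p H ≤ N ⊔ (S : Subgroup H) := by
      refine hres.trans ((sSup_le hE_le).trans ?_)
      rw [hN', sup_assoc, sup_eq_right.mpr hQS]
    exact Cfsg.Agent.Lib.Helper47_PClosed.pResidual_le_of_le_sup S.isPGroup' h1
  · exfalso
    apply hNc
    have h : ∀ E ∈ 𝒦, ¬ Op p E ≤ N' := fun E hE hle => h ⟨E, hE, hle⟩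
    have h2 : ∀ E ∈ 𝒦, ∀ a ∈ N' ⊓ E, ∀ b ∈ E, ⁅a, b⁆ ∈ pCore p H := by
      intro E hE a ha b hb
      have hEN : E ≤ Subgroup.normalizer (N' : Set H) := by
        rw [Subgroup.normalizer_eq_top_iff.mpr hN'n]
        exact le_top
      rcases Op_le_or_commutator_mem (hirr E hE) N' hEN with h3 | h3
      · exact absurd h3 (h E hE)
      · exact pCoreOf_le_pCore_of_sup_isSubnormal (isSubnormal_sup_pCore hinv hnorm hE)
          (h3 a ha b hb)
    have hc := commutator_mem_of_central (QuotientGroup.mk' (pCore p H))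
      (QuotientGroup.mk'_surjective _) (QuotientGroup.ker_mk' _) pCore_quotient_pCore
      hinv hnorm hirr N' hQN h2
    rw [Cfsg.Agent.Lib.Helper47_PClosed.isPClosed_subgroup_iff]
    intro g hgN hg
    obtain ⟨k, hk⟩ := hg
    obtain ⟨S', hS'⟩ := Cfsg.Agent.Lib.Helper47_PClosed.exists_sylow_mem_of_pow_eq_one hk
    have hgQ : g ∈ pCore p H := sylow_inf_le_pCore hres N' hQN hc S' ⟨hS', hNN' hgN⟩
    exact pCore_inf_le_pCoreOf N ⟨hgQ, hgN⟩

theorem Op_sup_pCore_le_of_Op_le {E K : Subgroup H} (hle : Op p E ≤ K ⊔ pCore p H) :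
    Op p (E ⊔ pCore p H) ≤ Op p (K ⊔ pCore p H) := by
  have h0 : Op p (E ⊔ pCore p H) ≤ K ⊔ pCore p H := by
    rw [Op_le_iff]
    intro x hx hc
    obtain ⟨e, he, q, hq, rfl⟩ := Subgroup.mem_sup_of_normal_right.mp hx
    obtain ⟨k, hk⟩ := exists_pow_mem_Op (p := p) he
    have h1 : (e * q) ^ (p ^ k) ∈ K ⊔ pCore p H := by
      have hen : e ∈ Subgroup.normalizer ((pCore p H : Subgroup H) : Set H) := by
        rw [Subgroup.normalizer_eq_top_iff.mpr inferInstance]
        exact Subgroup.mem_top e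
      have h2 := Cfsg.Agent.Lib.Helper47_SubAPI.mul_pow_mul_inv_mem hen hq (p ^ k)
      have h3 : (e * q) ^ (p ^ k) = ((e * q) ^ (p ^ k) * (e ^ (p ^ k))⁻¹) * e ^ (p ^ k) := by
        group
      rw [h3]
      exact Subgroup.mul_mem _ (Subgroup.mem_sup_right h2) (hle hk)
    exact Cfsg.Agent.Lib.Helper47_PClosed.mem_of_pow_mem_of_pow_mem_of_coprime
      (a := p ^ k) (b := orderOf (e * q)) (Nat.Coprime.pow_left k hc.symm) h1
      (by rw [pow_orderOf_eq_one]; exact Subgroup.one_mem _)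
  calc Op p (E ⊔ pCore p H) = Op p (Op p (E ⊔ pCore p H)) := (Op_Op p _).symm
    _ ≤ Op p (K ⊔ pCore p H) := Op_mono h0

/-- **The dichotomy for two members of the family.** -/
theorem Op_eq_or_commutator_le
    (hinv : ∀ h : H, ∀ E ∈ 𝒦, MulAut.conj h • E ∈ 𝒦)
    (hnorm : ∀ E ∈ 𝒦, sSup 𝒦 ⊔ pCore p H ≤
      Subgroup.normalizer ((E ⊔ pCore p H : Subgroup H) : Set H))
    (hirr : ∀ E ∈ 𝒦, IsStronglyPIrreducible p ↥E)
    {E K : Subgroup H} (hE : E ∈ 𝒦) (hK : K ∈ 𝒦) :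
    Op p (E ⊔ pCore p H) = Op p (K ⊔ pCore p H) ∨ ⁅E, K⁆ ≤ pCore p H := by
  have hEK : E ≤ Subgroup.normalizer ((K ⊔ pCore p H : Subgroup H) : Set H) :=
    ((le_sSup hE).trans le_sup_left).trans (hnorm K hK)
  have hKE : K ≤ Subgroup.normalizer ((E ⊔ pCore p H : Subgroup H) : Set H) :=
    ((le_sSup hK).trans le_sup_left).trans (hnorm E hE)
  have hcen : ∀ {E K : Subgroup H}, E ∈ 𝒦 → K ∈ 𝒦 →
      (∀ a ∈ (K ⊔ pCore p H) ⊓ E, ∀ b ∈ E, ⁅a, b⁆ ∈ pCoreOf p E) → ⁅K, E⁆ ≤ pCore p H := by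
    intro E K hE hK h
    apply commutator_le_of_central (QuotientGroup.mk' (pCore p H))
      (QuotientGroup.mk'_surjective _) (QuotientGroup.ker_mk' _) pCore_quotient_pCore
      hinv hnorm hE hK (hirr E hE)
    intro a ha b hb
    exact pCoreOf_le_pCore_of_sup_isSubnormal (isSubnormal_sup_pCore hinv hnorm hE) (h a ha b hb)
  rcases Op_le_or_commutator_mem (hirr E hE) (K ⊔ pCore p H) hEK with h1 | h1
  · rcases Op_le_or_commutator_mem (hirr K hK) (E ⊔ pCore p H) hKE with h2 | h2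
    · left
      exact le_antisymm (Op_sup_pCore_le_of_Op_le h1) (Op_sup_pCore_le_of_Op_le h2)
    · right
      exact hcen hK hE h2
  · right
    rw [Subgroup.commutator_comm]
    exact hcen hE hK h1

/-- **`p`-irreducibility from a transitive family of strongly `p`-irreducible subgroups.** -/
theorem isPIrreducible_of_family (hne : 𝒦.Nonempty)
    (hinv : ∀ h : H, ∀ E ∈ 𝒦, MulAut.conj h • E ∈ 𝒦)
    (htr : ∀ E ∈ 𝒦, ∀ K ∈ 𝒦, ∃ h : H, K = MulAut.conj h • E)
    (hres : pResidual p H ≤ sSup 𝒦)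
    (hnorm : ∀ E ∈ 𝒦, sSup 𝒦 ⊔ pCore p H ≤
      Subgroup.normalizer ((E ⊔ pCore p H : Subgroup H) : Set H))
    (hirr : ∀ E ∈ 𝒦, IsStronglyPIrreducible p ↥E) : IsPIrreducible p H :=
  ⟨not_isPClosed_of_family hne hirr, fun N hN hNc =>
    haveI := hN
    pResidual_le_of_not_isPClosed hinv htr hres hnorm hirr N hNc⟩

end Main

end Cfsg.Agent.Lib.Helper48_Trans2
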