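import Mathlib
import Cfsg.Prelude.Def_Solvable
import Cfsg.Prelude.Def_CaseTheorems
import Cfsg.Agent.Lib.Helper84_TutteDefs
import Cfsg.Agent.Lib.Helper84_TutteAPI
import Cfsg.Agent.Lib.Helper48_Trans2

/-!
# S4385 package S-ODD (helper42, for architect helper84)

Paper (0.1): if `X / O_2(X) ≅ D_{2n}` (`n ≥ 2`) then `n` is odd: for `n` even the rotation `r (n/2)` generates a central
(hence normal) subgroup of order `2` of `DihedralGroup n`, but `O_2(X / O_2(X)) = 1`.
-/

set_option autoImplicit false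

open scoped commutatorElement
open Cfsg.Agent.Lib.Helper84_TutteDefs

namespace Cfsg.Agent.Lib.Helper42_Tutte_SODD

variable {G : Type*} [Group G] {H : Subgroup G} {g x0 : G} {s lam : ℕ}

/-- for `n = m + m` the rotation `r m` is central in `DihedralGroup n` -/
theorem r_half_central (n m : ℕ) (hm : n = m + m) (x : DihedralGroup n) :
    x * DihedralGroup.r (m : ZMod n) = DihedralGroup.r (m : ZMod n) * x := by
  have h2 : (m : ZMod n) + (m : ZMod n) = 0 := by
    rw [← Nat.cast_add, ← hm, ZMod.natCast_self]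
  cases x with
  | r i =>
    rw [DihedralGroup.r_mul_r, DihedralGroup.r_mul_r, add_comm]
  | sr i =>
    rw [DihedralGroup.sr_mul_r, DihedralGroup.r_mul_sr]
    congr 1
    have : (m : ZMod n) = -(m : ZMod n) := eq_neg_of_add_eq_zero_left h2
    rw [sub_eq_add_neg, ← this]

theorem odd_of_dihedral {X : Type*} [Group X] [Finite X] (n : ℕ) (hn : 2 ≤ n)
    (hdih : Nonempty (X ⧸ Cfsg.pCore 2 X ≃* DihedralGroup n)) : Odd n := by
  have hp2 : Fact (Nat.Prime 2) := ⟨Nat.prime_two⟩
  obtain ⟨e⟩ := hdih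
  by_contra hodd
  rw [Nat.not_odd_iff_even] at hodd
  obtain ⟨m, hm⟩ := hodd
  have hm0 : (m : ZMod n) ≠ 0 := by
    intro h
    rw [ZMod.natCast_eq_zero_iff] at h
    have := Nat.le_of_dvd (by omega) h
    omega
  have h2 : (m : ZMod n) + (m : ZMod n) = 0 := by
    rw [← Nat.cast_add, ← hm, ZMod.natCast_self]
  obtain ⟨z, hz⟩ : ∃ z : DihedralGroup n, z = DihedralGroup.r (m : ZMod n) := ⟨_, rfl⟩
  have hz1 : z ≠ 1 := by
    rw [hz, DihedralGroup.one_def]
    intro h
    exact hm0 (DihedralGroup.r.inj h)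
  have hzz : z ^ 2 = 1 := by
    rw [hz, pow_two, DihedralGroup.r_mul_r, h2, DihedralGroup.one_def]
  have hord : orderOf z = 2 := orderOf_eq_prime hzz hz1
  have hcomm : ∀ x : DihedralGroup n, x * z = z * x := by
    intro x
    rw [hz]
    exact r_half_central n m hm x
  have hZn : (Subgroup.zpowers z).Normal := by
    constructor
    intro y hy x
    obtain ⟨k, rfl⟩ := hy
    have h1 : Commute x (z ^ k) := Commute.zpow_right (hcomm x) k
    have h3 : x * z ^ k * x⁻¹ = z ^ k := by
      rw [h1.eq, mul_assoc, mul_inv_cancel, mul_one]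
    rw [h3]
    exact ⟨k, rfl⟩
  have hZ2 : IsPGroup 2 ↥(Subgroup.zpowers z) := by
    apply IsPGroup.of_card (n := 1)
    rw [Nat.card_zpowers, hord, pow_one]
  -- pull back to `X ⧸ O_2(X)`
  have hNn : ((Subgroup.zpowers z).comap e.toMonoidHom).Normal := hZn.comap _
  have hN2 : IsPGroup 2 ↥((Subgroup.zpowers z).comap e.toMonoidHom) :=
    hZ2.comap_of_injective e.toMonoidHom e.injective
  have hle := Cfsg.Agent.Lib.Helper1_Cores.le_pCore hNn hN2
  rw [Cfsg.Agent.Lib.Helper48_Trans2.pCore_quotient_pCore] at hle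
  have hmem : e.symm z ∈ (Subgroup.zpowers z).comap e.toMonoidHom := by
    rw [Subgroup.mem_comap]
    show e (e.symm z) ∈ _
    rw [MulEquiv.apply_symm_apply]
    exact Subgroup.mem_zpowers z
  have h1 := hle hmem
  rw [Subgroup.mem_bot] at h1
  apply hz1
  have := congrArg e h1
  rwa [MulEquiv.apply_symm_apply, map_one] at this

end Cfsg.Agent.Lib.Helper42_Tutte_SODD
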