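/-
U3A market (S2148 abstract half, architect helper65), package FLD-D: over the field with 81 elements, an additive
subgroup on which the form `a * a' ^ 9 - a ^ 9 * a'` takes its values in a subgroup of order three has at most nine
elements.
-/
import Mathlib

set_option autoImplicit false
set_option linter.unusedSectionVars false
set_option linter.unusedVariables false

namespace Cfsg.Agent.Lib.Helper81_U3A_FLD_D

variable {F : Type*} [Field F] [Finite F] {p : ℕ} [Fact p.Prime] [CharP F p]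

omit [Finite F] [Fact p.Prime] [CharP F p] in
/-- A set on which `a * x ^ 9 - a ^ 9 * x` vanishes (`a ≠ 0`) has at most nine elements. -/
theorem card_le_of_comm_zero {a : F} (ha : a ≠ 0) (S : Set F)
    (hS : ∀ x ∈ S, a * x ^ 9 - a ^ 9 * x = 0) : Nat.card ↥S ≤ 9 := by
  classical
  set P : Polynomial F := Polynomial.C a * Polynomial.X ^ 9 - Polynomial.C (a ^ 9) * Polynomial.X with hP
  have hdeg : P.natDegree ≤ 9 := by
    rw [hP]
    compute_degree
  have hP0 : P ≠ 0 := by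
    intro h
    have h9 : P.coeff 9 = a := by
      rw [hP, Polynomial.coeff_sub, Polynomial.coeff_C_mul, Polynomial.coeff_C_mul, Polynomial.coeff_X_pow,
        Polynomial.coeff_X]
      norm_num
    rw [h, Polynomial.coeff_zero] at h9
    exact ha h9.symm
  have hsub : S ⊆ ↑P.roots.toFinset := by
    intro x hx
    rw [Finset.mem_coe, Multiset.mem_toFinset, Polynomial.mem_roots hP0, Polynomial.IsRoot.def, hP]
    simp only [Polynomial.eval_sub, Polynomial.eval_mul, Polynomial.eval_C, Polynomial.eval_pow, Polynomial.eval_X]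
    exact hS x hx
  rw [Nat.card_coe_set_eq]
  calc S.ncard ≤ (↑P.roots.toFinset : Set F).ncard := Set.ncard_le_ncard hsub (Finset.finite_toSet _)
    _ = P.roots.toFinset.card := Set.ncard_coe_finset _
    _ ≤ P.roots.card := Multiset.toFinset_card_le _
    _ ≤ P.natDegree := Polynomial.card_roots' P
    _ ≤ 9 := hdeg

omit [Finite F] [Fact p.Prime] [CharP F p] in
/-- The zero set of `a * x ^ 9 - a ^ 9 * x` (`a ≠ 0`) is totally isotropic. -/
theorem comm_zero_of_comm_zero {a x y : F} (ha : a ≠ 0) (hx : a * x ^ 9 - a ^ 9 * x = 0)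
    (hy : a * y ^ 9 - a ^ 9 * y = 0) : x * y ^ 9 - x ^ 9 * y = 0 := by
  have h10 : a * a ^ 9 ≠ 0 := mul_ne_zero ha (pow_ne_zero _ ha)
  have : a * a ^ 9 * (x * y ^ 9 - x ^ 9 * y) = 0 := by
    linear_combination (a ^ 9 * x) * hy - (a ^ 9 * y) * hx
  rcases mul_eq_zero.mp this with h | h
  · exact absurd h h10
  · exact h

/-- **FLD-D** (M; Step 4B). -/
theorem card_le_nine_of_comm (hF : Nat.card F = 9 ^ 2) (hp : p = 3) (A Y0 : AddSubgroup F)
    (hY0 : Nat.card ↥Y0 = 3) (hY0t : ∀ c ∈ Y0, c + c ^ 9 = 0)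
    (hA : ∀ a ∈ A, ∀ a' ∈ A, a * a' ^ 9 - a ^ 9 * a' ∈ Y0) : Nat.card ↥A ≤ 9 := by
  classical
  subst hp
  have hsub : ∀ x y : F, (x - y) ^ 9 = x ^ 9 - y ^ 9 := by
    intro x y
    have := sub_pow_char_pow (R := F) (p := 3) (n := 2) x y
    norm_num at this
    exact this
  by_cases hA0 : ∀ a ∈ A, a = 0
  · have : Subsingleton ↥A := ⟨fun x y => Subtype.ext ((hA0 x x.2).trans (hA0 y y.2).symm)⟩
    rw [Nat.card_of_subsingleton (⟨0, A.zero_mem⟩ : ↥A)]
    norm_num
  push Not at hA0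
  obtain ⟨a1, ha1, ha10⟩ := hA0
  by_cases h2 : ∀ a ∈ A, a1 * a ^ 9 - a1 ^ 9 * a = 0
  · exact card_le_of_comm_zero ha10 (↑A) h2
  push Not at h2
  obtain ⟨a2, ha2, h12⟩ := h2
  -- the map to `Y0 × Y0`
  let f : ↥A → ↥Y0 × ↥Y0 := fun a =>
    (⟨a1 * (a : F) ^ 9 - a1 ^ 9 * a, hA a1 ha1 a a.2⟩, ⟨a2 * (a : F) ^ 9 - a2 ^ 9 * a, hA a2 ha2 a a.2⟩)
  have hf : Function.Injective f := by
    intro a a' h
    have e1 : a1 * (a : F) ^ 9 - a1 ^ 9 * a = a1 * (a' : F) ^ 9 - a1 ^ 9 * a' :=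
      congrArg (fun z : ↥Y0 × ↥Y0 => (z.1 : F)) h
    have e2 : a2 * (a : F) ^ 9 - a2 ^ 9 * a = a2 * (a' : F) ^ 9 - a2 ^ 9 * a' :=
      congrArg (fun z : ↥Y0 × ↥Y0 => (z.2 : F)) h
    by_contra hne
    have hd : (a : F) - a' ≠ 0 := fun h0 => hne (Subtype.ext (sub_eq_zero.mp h0))
    have k1 : a1 * ((a : F) - a') ^ 9 - a1 ^ 9 * ((a : F) - a') = 0 := by
      rw [hsub]
      linear_combination e1
    have k2 : a2 * ((a : F) - a') ^ 9 - a2 ^ 9 * ((a : F) - a') = 0 := by
      rw [hsub]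
      linear_combination e2
    -- `a1`, `a2` lie in the zero set of `a - a'`
    have k1' : ((a : F) - a') * a1 ^ 9 - ((a : F) - a') ^ 9 * a1 = 0 := by linear_combination -k1
    have k2' : ((a : F) - a') * a2 ^ 9 - ((a : F) - a') ^ 9 * a2 = 0 := by linear_combination -k2
    exact h12 (comm_zero_of_comm_zero hd k1' k2')
  have hfin : Finite ↥Y0 := Nat.finite_of_card_ne_zero (by rw [hY0]; norm_num)
  calc Nat.card ↥A ≤ Nat.card (↥Y0 × ↥Y0) := Nat.card_le_card_of_injective f hf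
    _ = 9 := by rw [Nat.card_prod, hY0]

end Cfsg.Agent.Lib.Helper81_U3A_FLD_D
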