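import Mathlib
import Cfsg.Agent.Lib.Helper65_U3Defs
import Cfsg.Agent.Lib.Helper65_U3A_BAS1
import Cfsg.Agent.Lib.Helper65_U3A_BAS2
import Cfsg.Agent.Lib.Helper27_U3A_BAS4
import Cfsg.Agent.Lib.Helper27_U3A_BAS5
import Cfsg.Agent.Lib.Helper81_U3A_FLD_D

set_option autoImplicit false
set_option linter.unusedSectionVars false
set_option linter.unusedVariables false

/-!
# U3A-S4BN (helper65's S2148 market): `q = 9`, `|H ⊓ Z| = 3`: `|H ⊓ Q| ≤ 27` and `|H ⊓ T| ∣ 20`.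
-/

open Cfsg.Agent.Lib.Helper65_U3Defs
open Cfsg.Agent.Lib.Helper65_U3A_BAS1 Cfsg.Agent.Lib.Helper65_U3A_BAS2
  Cfsg.Agent.Lib.Helper27_U3A_BAS4 Cfsg.Agent.Lib.Helper27_U3A_BAS5
  Cfsg.Agent.Lib.Helper81_U3A_FLD_D

namespace Cfsg.Agent.Lib.Helper42_U3A_S4BN

variable {p q : ℕ} {F G U : Type*} [Field F] [Group G] [MulAction G U]

/-- The `a`-coordinates of `H ⊓ Q`. -/
def Aset (D : U3Data p q F G U) (H : Subgroup G) : AddSubgroup F where
  carrier := {a | ∃ b, Rel q a b ∧ D.x a b ∈ H}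
  zero_mem' := ⟨0, D.rel_zero_zero, by rw [D.x_zero_zero]; exact H.one_mem⟩
  add_mem' := by
    rintro a a' ⟨b, hr, hh⟩ ⟨b', hr', hh'⟩
    exact ⟨b + b' - a ^ q * a', D.rel_mul hr hr',
      by rw [← D.x_mul a b a' b' hr hr']; exact H.mul_mem hh hh'⟩
  neg_mem' := by
    rintro a ⟨b, hr, hh⟩
    exact ⟨b ^ q, D.rel_inv hr, by rw [← D.x_inv hr]; exact H.inv_mem hh⟩

/-- The parameters of `H ⊓ Z`. -/
def Yset (D : U3Data p q F G U) (H : Subgroup G) : AddSubgroup F where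
  carrier := {b | b + b ^ q = 0 ∧ D.x 0 b ∈ H}
  zero_mem' := ⟨by rw [zero_pow D.q_pos.ne', add_zero], by rw [D.x_zero_zero]; exact H.one_mem⟩
  add_mem' := by
    rintro b b' ⟨hr, hh⟩ ⟨hr', hh'⟩
    have h1 := D.rel_mul ((D.rel_zero_iff b).mpr hr) ((D.rel_zero_iff b').mpr hr')
    have h2 := D.x_mul 0 b 0 b' ((D.rel_zero_iff b).mpr hr) ((D.rel_zero_iff b').mpr hr')
    rw [add_zero, zero_pow D.q_pos.ne', zero_mul, sub_zero] at h1 h2
    exact ⟨(D.rel_zero_iff _).mp h1, by rw [← h2]; exact H.mul_mem hh hh'⟩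
  neg_mem' := by
    rintro b ⟨hr, hh⟩
    have hneg : -b = b ^ q := by linear_combination -hr
    have h1 := D.x_inv ((D.rel_zero_iff b).mpr hr)
    rw [neg_zero] at h1
    refine ⟨?_, ?_⟩
    · rw [hneg, D.frob_sq]; linear_combination hr
    · rw [hneg, ← h1]; exact H.inv_mem hh

theorem mem_Aset {D : U3Data p q F G U} {H : Subgroup G} {a : F} :
    a ∈ Aset D H ↔ ∃ b, Rel q a b ∧ D.x a b ∈ H := Iff.rfl

theorem mem_Yset {D : U3Data p q F G U} {H : Subgroup G} {b : F} :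
    b ∈ Yset D H ↔ b + b ^ q = 0 ∧ D.x 0 b ∈ H := Iff.rfl

/-- `|Y0| = |H ⊓ Z|`. -/
theorem card_Yset (D : U3Data p q F G U) (H : Subgroup G) :
    Nat.card ↥(Yset D H) = Nat.card ↥(H ⊓ D.Z) := by
  let f : ↥(Yset D H) → ↥(H ⊓ D.Z) := fun b =>
    ⟨D.x 0 b.1, Subgroup.mem_inf.mpr ⟨b.2.2, D.mem_Z.mpr ⟨b.1, b.2.1, rfl⟩⟩⟩
  apply Nat.card_congr (Equiv.ofBijective f ⟨?_, ?_⟩)
  · intro b b' e
    have e' : D.x 0 b.1 = D.x 0 b'.1 := congrArg Subtype.val e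
    exact Subtype.ext (x_inj D ((D.rel_zero_iff _).mpr b.2.1) ((D.rel_zero_iff _).mpr b'.2.1) e').2
  · rintro ⟨g, hg⟩
    obtain ⟨hgH, hgZ⟩ := Subgroup.mem_inf.mp hg
    obtain ⟨b, hb, rfl⟩ := D.mem_Z.mp hgZ
    exact ⟨⟨b, hb, hgH⟩, rfl⟩

/-- Two elements of `H ⊓ Q` with the same `a`-coordinate differ by an element of `Y0`. -/
theorem sub_mem_Yset (D : U3Data p q F G U) (H : Subgroup G) {a b b' : F} (hr : Rel q a b)
    (hh : D.x a b ∈ H) (hr' : Rel q a b') (hh' : D.x a b' ∈ H) : b - b' ∈ Yset D H := by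
  have h1 := D.rel_mul hr (D.rel_inv hr')
  have h2 := D.x_mul a b (-a) (b' ^ q) hr (D.rel_inv hr')
  have h3 : b + b' ^ q - a ^ q * -a = b - b' := by
    unfold Cfsg.Agent.Lib.Helper65_U3Defs.Rel at hr'
    linear_combination hr'
  rw [add_neg_cancel, h3] at h1 h2
  refine ⟨(D.rel_zero_iff _).mp h1, ?_⟩
  rw [← h2, ← D.x_inv hr']
  exact H.mul_mem hh (H.inv_mem hh')

/-- `|H ⊓ Q| ≤ |A| * |Y0|`. -/
theorem card_inf_Q_le (D : U3Data p q F G U) (H : Subgroup G) :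
    Nat.card ↥(H ⊓ D.Q) ≤ Nat.card ↥(Aset D H) * Nat.card ↥(Yset D H) := by
  classical
  have hfinF : Finite F := D.finiteF
  -- coordinates
  have hco : ∀ g : ↥(H ⊓ D.Q), ∃ ab : F × F, Rel q ab.1 ab.2 ∧ (g : G) = D.x ab.1 ab.2 := by
    intro g
    obtain ⟨a, b, hr, e⟩ := D.mem_Q.mp (Subgroup.mem_inf.mp g.2).2
    exact ⟨(a, b), hr, e⟩
  choose co hco1 hco2 using hco
  have hcoH : ∀ g : ↥(H ⊓ D.Q), D.x (co g).1 (co g).2 ∈ H := by
    intro g
    rw [← hco2 g]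
    exact (Subgroup.mem_inf.mp g.2).1
  have hcoA : ∀ g : ↥(H ⊓ D.Q), (co g).1 ∈ Aset D H := fun g => ⟨(co g).2, hco1 g, hcoH g⟩
  -- representatives
  have hrep : ∀ a : ↥(Aset D H), ∃ b, Rel q a.1 b ∧ D.x a.1 b ∈ H := fun a => a.2
  choose β hβ1 hβ2 using hrep
  let f : ↥(H ⊓ D.Q) → ↥(Aset D H) × ↥(Yset D H) := fun g =>
    (⟨(co g).1, hcoA g⟩, ⟨(co g).2 - β ⟨(co g).1, hcoA g⟩,
      sub_mem_Yset D H (hco1 g) (hcoH g) (hβ1 ⟨(co g).1, hcoA g⟩) (hβ2 ⟨(co g).1, hcoA g⟩)⟩)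
  have hf : Function.Injective f := by
    intro g g' e
    have e1 : (co g).1 = (co g').1 := congrArg (fun t => (t.1 : F)) e
    have e2 : (co g).2 - β ⟨(co g).1, hcoA g⟩ = (co g').2 - β ⟨(co g').1, hcoA g'⟩ :=
      congrArg (fun t => (t.2 : F)) e
    have e3 : (⟨(co g).1, hcoA g⟩ : ↥(Aset D H)) = ⟨(co g').1, hcoA g'⟩ := Subtype.ext e1
    rw [e3] at e2
    have e4 : (co g).2 = (co g').2 := by linear_combination e2
    apply Subtype.ext
    rw [hco2 g, hco2 g', e1, e4]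
  have h1 := Nat.card_le_card_of_injective f hf
  rwa [Nat.card_prod] at h1

/-- The commutator form of `A` takes values in `Y0`. -/
theorem comm_mem_Yset (D : U3Data p q F G U) (H : Subgroup G) {a a' : F} (ha : a ∈ Aset D H)
    (ha' : a' ∈ Aset D H) : a * a' ^ q - a ^ q * a' ∈ Yset D H := by
  obtain ⟨b, hr, hh⟩ := ha
  obtain ⟨b', hr', hh'⟩ := ha'
  have hcharF := D.charF
  have hpp : Fact p.Prime := ⟨D.hp⟩
  have hsub : ∀ c d : F, (c - d) ^ q = c ^ q - d ^ q := by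
    intro c d
    rw [D.hq]
    exact sub_pow_char_pow c d D.k
  have hc0 : (a * a' ^ q - a ^ q * a') + (a * a' ^ q - a ^ q * a') ^ q = 0 := by
    rw [hsub, mul_pow, mul_pow, D.frob_sq, D.frob_sq]
    ring
  refine ⟨hc0, ?_⟩
  have h1 := x_comm D hr hr'
  have h2 : D.x 0 (a * a' ^ q - a ^ q * a') =
      (D.x a' b' * D.x a b)⁻¹ * (D.x a b * D.x a' b') := by
    rw [h1]; group
  rw [h2]
  exact H.mul_mem (H.inv_mem (H.mul_mem hh' hh)) (H.mul_mem hh hh')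

/-- The torus part: a subgroup `L` of `T` normalising a subgroup `N` of order `3` of `Z` has order
dividing `2 |T1|`. -/
theorem card_dvd_of_normalizes (D : U3Data p q F G U) (N L : Subgroup G) (hNZ : N ≤ D.Z)
    (hLT : L ≤ D.T) (hy : Nat.card ↥N = 3) (hconj : ∀ s ∈ L, ∀ z ∈ N, s * z * s⁻¹ ∈ N) :
    Nat.card ↥L ∣ Nat.card ↥D.T1 * 2 := by
  have hfinG : Finite G := D.finG
  have hLN : L ≤ Subgroup.normalizer (N : Set G) := by
    intro s hs
    rw [Subgroup.mem_normalizer_iff]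
    intro z
    constructor
    · exact hconj s hs z
    · intro h
      have := hconj s⁻¹ (L.inv_mem hs) _ h
      simpa [mul_assoc] using this
  -- the action on N
  let φ : ↥L →* MulAut ↥N := N.normalizerMonoidHom.comp (Subgroup.inclusion hLN)
  have hcycN : IsCyclic ↥N := by
    have : Fact (Nat.Prime 3) := ⟨Nat.prime_three⟩
    exact isCyclic_of_prime_card hy
  have hAut : Nat.card (MulAut ↥N) = 2 := by
    rw [IsCyclic.card_mulAut, hy]
    rfl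
  have hrange : Nat.card φ.range ∣ 2 := by
    rw [← hAut]
    exact Subgroup.card_subgroup_dvd_card _
  -- the kernel lies in T1
  obtain ⟨z, hzN, hz1⟩ : ∃ z ∈ N, z ≠ 1 := by
    by_contra hcon
    push Not at hcon
    have : N = ⊥ := by
      rw [Subgroup.eq_bot_iff_forall]
      exact hcon
    rw [this, Subgroup.card_bot] at hy
    omega
  have hker : ∀ s : ↥L, s ∈ φ.ker → (s : G) ∈ D.T1 := by
    intro s hs
    rw [MonoidHom.mem_ker] at hs
    have h1 : φ s ⟨z, hzN⟩ = ⟨z, hzN⟩ := by rw [hs]; rfl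
    have h2 : (s : G) * z * (s : G)⁻¹ = z := congrArg Subtype.val h1
    exact T_stab_Z D (hLT s.2) (hNZ hzN) hz1 h2
  have hkerdvd : Nat.card φ.ker ∣ Nat.card ↥D.T1 := by
    have hle : (φ.ker).map L.subtype ≤ D.T1 := by
      rintro _ ⟨s, hs, rfl⟩
      exact hker s hs
    have h1 := Subgroup.card_dvd_of_le hle
    rwa [Subgroup.card_map_of_injective (Subgroup.subtype_injective L)] at h1
  have hcard : Nat.card ↥L = Nat.card φ.ker * Nat.card φ.range := by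
    rw [← Subgroup.index_ker, Subgroup.card_mul_index]
  rw [hcard]
  exact Nat.mul_dvd_mul hkerdvd hrange

/-- **S4BN**. -/
theorem step4B_num {D : U3Data p q F G U} {H : Subgroup G} (hG : Good D H) (hq : q = 9)
    (hy : Nat.card ↥(H ⊓ D.Z) = 3) :
    Nat.card ↥(H ⊓ D.Q) ≤ 27 ∧ Nat.card ↥(H ⊓ D.T) ∣ 20 := by
  subst hq
  have hfinG : Finite G := D.finG
  have hfinF : Finite F := D.finiteF
  have hpp : Fact p.Prime := ⟨D.hp⟩
  have hcharF : CharP F p := D.charF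
  have hp3 : p = 3 := by
    have h1 : p ∣ 3 ^ 2 := by
      have h2 : p ∣ p ^ D.k := dvd_pow_self p D.hk.ne'
      rw [← D.hq] at h2
      exact h2
    exact (Nat.prime_dvd_prime_iff_eq D.hp Nat.prime_three).mp (D.hp.dvd_of_dvd_pow h1)
  constructor
  · -- |H ⊓ Q| ≤ 27
    have hF : Nat.card F = 9 ^ 2 := D.cardF
    have hY0 : Nat.card ↥(Yset D H) = 3 := by rw [card_Yset, hy]
    have hY0t : ∀ c ∈ Yset D H, c + c ^ 9 = 0 := fun c hc => hc.1
    have hA : ∀ a ∈ Aset D H, ∀ a' ∈ Aset D H, a * a' ^ 9 - a ^ 9 * a' ∈ Yset D H :=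
      fun a ha a' ha' => comm_mem_Yset D H ha ha'
    have h9 := card_le_nine_of_comm hF hp3 (Aset D H) (Yset D H) hY0 hY0t hA
    have h1 := card_inf_Q_le D H
    rw [hY0] at h1
    omega
  · -- |H ⊓ T| ∣ 20
    have hT1 : Nat.card ↥D.T1 = 10 := by
      have h := card_T1 D
      have hg : Nat.gcd 3 (9 + 1) = 1 := by decide
      rw [hg, mul_one] at h
      exact h
    have hconj : ∀ s ∈ H ⊓ D.T, ∀ z ∈ H ⊓ D.Z, s * z * s⁻¹ ∈ H ⊓ D.Z := by
      intro s hs z hz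
      obtain ⟨hsH, hsT⟩ := Subgroup.mem_inf.mp hs
      obtain ⟨hzH, hzZ⟩ := Subgroup.mem_inf.mp hz
      exact Subgroup.mem_inf.mpr ⟨H.mul_mem (H.mul_mem hsH hzH) (H.inv_mem hsH),
        conj_Z_of_mem_B D (D.T_le_B hsT) hzZ⟩
    have h := card_dvd_of_normalizes D (H ⊓ D.Z) (H ⊓ D.T) inf_le_right inf_le_right hy hconj
    rw [hT1] at h
    exact h

end Cfsg.Agent.Lib.Helper42_U3A_S4BN
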