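import Mathlib
import Cfsg.Agent.Lib.Helper65_U3Defs

set_option autoImplicit false
set_option linter.unusedSectionVars false
set_option linter.unusedVariables false

/-!
# U3A-S5A (helper65's S2148 market): for odd `q` the order of `H ⊓ B` is even.
-/

open Cfsg.Agent.Lib.Helper65_U3Defs

namespace Cfsg.Agent.Lib.Helper42_U3A_S5A

variable {p q : ℕ} {F G U : Type*} [Field F] [Group G] [MulAction G U]
variable {D : U3Data p q F G U} {H : Subgroup G}

/-- A subgroup transitive on `U` has order divisible by `q^3 + 1`. -/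
theorem card_U_dvd_card (D : U3Data p q F G U) (htr : ∀ a b : U, ∃ h ∈ H, h • a = b) :
    q ^ 3 + 1 ∣ Nat.card ↥H := by
  have : MulAction.IsPretransitive ↥H U := by
    refine ⟨fun a b => ?_⟩
    obtain ⟨h, hh, e⟩ := htr a b
    exact ⟨⟨h, hh⟩, e⟩
  have h1 := MulAction.index_stabilizer_of_transitive ↥H D.u
  rw [D.cardU] at h1
  rw [← h1]
  exact Subgroup.index_dvd_card _

/-- **S5A**. -/
theorem step5A (hG : Good D H) (hp2 : p ≠ 2) (hodd : Odd (Nat.card ↥(H ⊓ D.B))) : False := by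
  have hfin : Finite G := D.finG
  -- q is odd
  have hpodd : Odd p := D.hp.odd_of_ne_two hp2
  have hqodd : Odd q := by rw [D.hq]; exact hpodd.pow
  have heven : 2 ∣ q ^ 3 + 1 := by
    have : Odd (q ^ 3) := hqodd.pow
    exact even_iff_two_dvd.mp (this.add_odd odd_one)
  have h2H : 2 ∣ Nat.card ↥H := dvd_trans heven (card_U_dvd_card D hG.trans)
  have hf2 : Fact (Nat.Prime 2) := ⟨Nat.prime_two⟩
  obtain ⟨g, hg⟩ := exists_prime_orderOf_dvd_card' (G := ↥H) 2 h2H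
  have hg2 : orderOf (g : G) = 2 := by rw [Subgroup.orderOf_coe]; exact hg
  obtain ⟨w, hw⟩ := D.inv_fix hp2 (g : G) hg2
  obtain ⟨h, hh, hhu⟩ := hG.trans D.u w
  -- k := h⁻¹ g h ∈ H ⊓ B
  have hkH : h⁻¹ * (g : G) * h ∈ H := H.mul_mem (H.mul_mem (H.inv_mem hh) g.2) hh
  have hkB : h⁻¹ * (g : G) * h ∈ D.B := by
    rw [D.mem_B, mul_smul, mul_smul, hhu, hw, ← hhu, inv_smul_smul]
  have hk : h⁻¹ * (g : G) * h ∈ H ⊓ D.B := Subgroup.mem_inf.mpr ⟨hkH, hkB⟩
  have hko : orderOf (h⁻¹ * (g : G) * h) = 2 := by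
    have := MulEquiv.orderOf_eq (MulAut.conj h⁻¹) (g : G)
    rw [MulAut.conj_apply, inv_inv] at this
    rw [this, hg2]
  have hdvd : 2 ∣ Nat.card ↥(H ⊓ D.B) := by
    have := orderOf_dvd_natCard (⟨_, hk⟩ : ↥(H ⊓ D.B))
    rwa [Subgroup.orderOf_mk, hko] at this
  exact (Nat.not_even_iff_odd.mpr hodd) (even_iff_two_dvd.mpr hdvd)

end Cfsg.Agent.Lib.Helper42_U3A_S5A
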