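import Mathlib
import Cfsg.Agent.Lib.Helper94_UQInst
import Cfsg.Agent.Lib.Helper95_UQ_A1
import Cfsg.Agent.Lib.Helper27_UQ_TOR2
import Cfsg.Agent.Lib.Helper27_UQ_CARD
import Cfsg.Agent.Lib.Helper5_UQ_HPBRIDGE
import Cfsg.Agent.Lib.Helper91_UQ_FROB

set_option autoImplicit false
set_option linter.unusedSectionVars false
set_option linter.unusedVariables false

/-!
# S2150 local side, package U4-CARDL (helper42, for helper27)

`|L| = q (q ^ 2 - 1) ^ 2`: `|K| = q (q ^ 2 - 1)` (HPBRIDGE) and `L / K ≅ Fˣ` via the multiplier map.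
-/

open Module Cfsg.Agent.Lib.Helper94_Symp Cfsg.Agent.Lib.Helper94_Herm
  Cfsg.Agent.Lib.Helper94_HermEich Cfsg.Agent.Lib.Helper94_HermPara
  Cfsg.Agent.Lib.Helper94_HermTrans
  Cfsg.Agent.Lib.Helper13_SUGen Cfsg.Agent.Lib.Helper13_PSUSimple
  Cfsg.Agent.Lib.Helper46_U3TI Cfsg.Agent.Lib.Helper14_PSULocal1
  Cfsg.Agent.Lib.Helper27_UQDefs Cfsg.Agent.Lib.Helper50_UQAbsDefs
  Cfsg.Agent.Lib.Helper94_UQInst

namespace Cfsg.Agent.Lib.Helper42_U4_CARDL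

variable {F V : Type*} [Field F] [AddCommGroup V] [Module F V] {σ : F →+* F}
variable {B : V →ₗ[F] V →ₛₗ[σ] F}

theorem CARDL [Finite F] [FiniteDimensional F V] (hσ : Invol σ) (hB : IsHerm B)
    (hN : NondegOn B ⊤) {q : ℕ} (hF : Nat.card F = q ^ 2) {v v' : V} (h : HypPair B v v')
    (h4 : finrank F V = 4) :
    Nat.card (udat hσ hB h).L = q * (q ^ 2 - 1) * (q ^ 2 - 1) := by
  classical
  have : Fintype F := Fintype.ofFinite F
  have hF' : Fintype.card F = q ^ 2 := by rw [← Nat.card_eq_fintype_card]; exact hF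
  have hfrob := Cfsg.Agent.Lib.Helper91_UQ_FROB.FROB hσ hF
  have hK := (Cfsg.Agent.Lib.Helper5_UQ_HPBRIDGE.HPBRIDGE hσ hB hN hF' hfrob h h4).1
  -- an anisotropic vector of `W`
  have hfr : finrank F ↥(Wsub B v v') = 2 := by
    have := Cfsg.Agent.Lib.Helper27_UQ_CARD.finrank_Wsub (B := B) h
    omega
  obtain ⟨x, hx, hxx⟩ :=
    Cfsg.Agent.Lib.Helper27_UQ_TOR2.exists_aniso_Wsub hσ hB hN h (by omega)
  have hsurj := Cfsg.Agent.Lib.Helper27_UQ_TOR2.lamHom_surj hσ hB hN h hx hxx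
  have hker := Cfsg.Agent.Lib.Helper27_UQ_TOR2.lamHom_ker hσ hB h
  have e1 : ↥(udat hσ hB h).L ≃* ↥(Lv B v v') := Subgroup.subgroupOfEquivOfLe (Lv_le B v v')
  have e2 : ↥(udat hσ hB h).K ≃* ↥(Kv B v v') := Subgroup.subgroupOfEquivOfLe (Kv_le B v v')
  have e3 : ↥((Kv B v v').subgroupOf (Lv B v v')) ≃* ↥(Kv B v v') :=
    Subgroup.subgroupOfEquivOfLe (Kv_le_Lv B v v')
  have hcardker : Nat.card (Cfsg.Agent.Lib.Helper27_UQ_TOR2.lamHom h).ker = q * (q ^ 2 - 1) := by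
    rw [hker, Nat.card_congr e3.toEquiv, ← Nat.card_congr e2.toEquiv, hK]
  have hidx : (Cfsg.Agent.Lib.Helper27_UQ_TOR2.lamHom h).ker.index = q ^ 2 - 1 := by
    rw [Subgroup.index_ker, MonoidHom.range_eq_top.mpr hsurj, Subgroup.card_top, Nat.card_units,
      hF]
  rw [Nat.card_congr e1.toEquiv,
    ← Subgroup.card_mul_index (Cfsg.Agent.Lib.Helper27_UQ_TOR2.lamHom h).ker, hcardker, hidx]

end Cfsg.Agent.Lib.Helper42_U4_CARDL
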