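import Mathlib
import Cfsg.Agent.Lib.Helper94_UQInst
import Cfsg.Agent.Lib.Helper95_UQ_A1
import Cfsg.Agent.Lib.Helper27_UQ_TOR2
import Cfsg.Agent.Lib.Helper26_UQ_HPFREE
import Cfsg.Agent.Lib.Helper91_UQ_FROB

set_option autoImplicit false
set_option linter.unusedSectionVars false
set_option linter.unusedVariables false

/-!
# S2150 local side, package U4-STABL (helper42, for helper27)

The stabiliser in `L` (twisted action `ρ`) of an anisotropic vector `w` of the hermitian plane `W`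
has at most `q + 1` elements: the multiplier `λ` of such an element has norm one, and two elements
with the same multiplier differ by an element of `K` fixing `w`, which is trivial.
-/

open Module Cfsg.Agent.Lib.Helper94_Symp Cfsg.Agent.Lib.Helper94_Herm
  Cfsg.Agent.Lib.Helper94_HermEich Cfsg.Agent.Lib.Helper94_HermPara
  Cfsg.Agent.Lib.Helper94_HermTrans
  Cfsg.Agent.Lib.Helper13_SUGen Cfsg.Agent.Lib.Helper13_PSUSimple
  Cfsg.Agent.Lib.Helper46_U3TI Cfsg.Agent.Lib.Helper14_PSULocal1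
  Cfsg.Agent.Lib.Helper27_UQDefs Cfsg.Agent.Lib.Helper50_UQAbsDefs
  Cfsg.Agent.Lib.Helper94_UQInst

namespace Cfsg.Agent.Lib.Helper42_U4_STABL

variable {F V : Type*} [Field F] [AddCommGroup V] [Module F V] {σ : F →+* F}
variable {B : V →ₗ[F] V →ₛₗ[σ] F}

/-- the norm one elements of a field with `q ^ 2` elements -/
theorem card_norm_one [Finite F] {q : ℕ} (hF : Nat.card F = q ^ 2) :
    Nat.card ↥(powMonoidHom (q + 1) : Fˣ →* Fˣ).ker = q + 1 := by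
  have hq : 1 ≤ q := by
    rcases Nat.eq_zero_or_pos q with h0 | h0
    · subst h0
      have : 0 < Nat.card F := Nat.card_pos
      rw [hF] at this
      simp at this
    · exact h0
  rw [IsCyclic.card_powMonoidHom_ker, Nat.card_units, hF]
  apply Nat.gcd_eq_right
  refine ⟨q - 1, ?_⟩
  obtain ⟨s, rfl⟩ : ∃ s, q = s + 1 := ⟨q - 1, by omega⟩
  simp only [Nat.add_sub_cancel]
  have : (s + 1) ^ 2 = (s + 1 + 1) * s + 1 := by ring
  omega

/-- an element of `L` fixing (for the twisted action) an anisotropic `w`: its multiplier has norm one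
and it acts on `w` by the scalar `(σ λ)⁻¹` -/
theorem stab_data (hσ : Invol σ) (hB : IsHerm B) {v v' : V} (h : HypPair B v v')
    (w : ↥(Wsub B v v')) (hw : B (w : V) (w : V) ≠ 0) (l : ↥(SUg B))
    (hl : l ∈ (udat hσ hB h).L) (hfix : (udat hσ hB h).ρ l w = w) :
    Cfsg.Agent.Lib.Helper27_UQ_TOR2.lamOf B v v' (l : V ≃ₗ[F] V) ≠ 0 ∧
    Cfsg.Agent.Lib.Helper27_UQ_TOR2.lamOf B v v' (l : V ≃ₗ[F] V) *
      σ (Cfsg.Agent.Lib.Helper27_UQ_TOR2.lamOf B v v' (l : V ≃ₗ[F] V)) = 1 ∧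
    (l : V ≃ₗ[F] V) (w : V) =
      (σ (Cfsg.Agent.Lib.Helper27_UQ_TOR2.lamOf B v v' (l : V ≃ₗ[F] V)))⁻¹ • (w : V) := by
  have hl' : (l : V ≃ₗ[F] V) ∈ Lv B v v' := (mem_L hσ hB h).mp hl
  set lam := Cfsg.Agent.Lib.Helper27_UQ_TOR2.lamOf B v v' (l : V ≃ₗ[F] V) with hlam
  have hlv : (l : V ≃ₗ[F] V) v = lam • v := Cfsg.Agent.Lib.Helper27_UQ_TOR2.Lv_apply_v h hl'
  have hlam0 : lam ≠ 0 := Cfsg.Agent.Lib.Helper27_UQ_TOR2.lamOf_ne_zero h hl'
  have hσlam0 : σ lam ≠ 0 := by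
    rw [Ne, map_eq_zero]; exact hlam0
  have hρ : σ lam • (l : V ≃ₗ[F] V) (w : V) = (w : V) := by
    rw [← ρ_of_mem hσ hB h hl' hlv w, hfix]
  have hiso : ∀ x y : V, B ((l : V ≃ₗ[F] V) x) ((l : V ≃ₗ[F] V) y) = B x y :=
    (mem_SUg.mp l.2).1
  have hnorm : lam * σ lam * B (w : V) (w : V) = B (w : V) (w : V) := by
    have h1 : B (σ lam • (l : V ≃ₗ[F] V) (w : V)) (σ lam • (l : V ≃ₗ[F] V) (w : V)) =
        σ lam * (σ (σ lam) * B (w : V) (w : V)) := by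
      rw [LinearMap.map_smul₂, LinearMap.map_smulₛₗ, hiso, smul_eq_mul, smul_eq_mul]
    rw [hρ, hσ.invol] at h1
    linear_combination (-1 : F) * h1
  refine ⟨hlam0, ?_, ?_⟩
  · have : (lam * σ lam - 1) * B (w : V) (w : V) = 0 := by
      rw [sub_mul, hnorm, one_mul, sub_self]
    rcases mul_eq_zero.mp this with h1 | h1
    · exact sub_eq_zero.mp h1
    · exact absurd h1 hw
  · have h2 : (σ lam)⁻¹ • (σ lam • (l : V ≃ₗ[F] V) (w : V)) = (l : V ≃ₗ[F] V) (w : V) := by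
      rw [smul_smul, inv_mul_cancel₀ hσlam0, one_smul]
    rw [hρ] at h2
    exact h2.symm

theorem STABL [Finite F] [FiniteDimensional F V] (hσ : Invol σ) (hB : IsHerm B)
    (hN : NondegOn B ⊤) {q : ℕ} (hF : Nat.card F = q ^ 2) {v v' : V} (h : HypPair B v v')
    (h4 : finrank F V = 4) (w : ↥(Wsub B v v')) (hw : B (w : V) (w : V) ≠ 0) :
    Nat.card {l : ↥(SUg B) // l ∈ (udat hσ hB h).L ∧ (udat hσ hB h).ρ l w = w} ≤ q + 1 := by
  classical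
  have hfrob := Cfsg.Agent.Lib.Helper91_UQ_FROB.FROB hσ hF
  -- the multiplier map into the norm one group
  let φ : {l : ↥(SUg B) // l ∈ (udat hσ hB h).L ∧ (udat hσ hB h).ρ l w = w} →
      ↥(powMonoidHom (q + 1) : Fˣ →* Fˣ).ker := fun l =>
    ⟨Units.mk0 (Cfsg.Agent.Lib.Helper27_UQ_TOR2.lamOf B v v' ((l : ↥(SUg B)) : V ≃ₗ[F] V))
      (stab_data hσ hB h w hw l.1 l.2.1 l.2.2).1, by
      rw [MonoidHom.mem_ker, powMonoidHom_apply]
      apply Units.ext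
      rw [Units.val_pow_eq_pow_val, Units.val_mk0, Units.val_one, pow_succ', ← hfrob]
      exact (stab_data hσ hB h w hw l.1 l.2.1 l.2.2).2.1⟩
  have hφ : Function.Injective φ := by
    intro l l' hll
    have hlam : Cfsg.Agent.Lib.Helper27_UQ_TOR2.lamOf B v v' ((l : ↥(SUg B)) : V ≃ₗ[F] V) =
        Cfsg.Agent.Lib.Helper27_UQ_TOR2.lamOf B v v' ((l' : ↥(SUg B)) : V ≃ₗ[F] V) := by
      have := congrArg (fun u : ↥(powMonoidHom (q + 1) : Fˣ →* Fˣ).ker => ((u : Fˣ) : F)) hll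
      exact this
    have hL : ((l : ↥(SUg B)) : V ≃ₗ[F] V) ∈ Lv B v v' := (mem_L hσ hB h).mp l.2.1
    have hL' : ((l' : ↥(SUg B)) : V ≃ₗ[F] V) ∈ Lv B v v' := (mem_L hσ hB h).mp l'.2.1
    -- `l` and `l'` agree on `v`, `v'`, `w`
    have hv : ((l : ↥(SUg B)) : V ≃ₗ[F] V) v = ((l' : ↥(SUg B)) : V ≃ₗ[F] V) v := by
      rw [Cfsg.Agent.Lib.Helper27_UQ_TOR2.Lv_apply_v h hL,
        Cfsg.Agent.Lib.Helper27_UQ_TOR2.Lv_apply_v h hL', hlam]
    have hv' : ((l : ↥(SUg B)) : V ≃ₗ[F] V) v' = ((l' : ↥(SUg B)) : V ≃ₗ[F] V) v' := by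
      rw [Cfsg.Agent.Lib.Helper27_UQ_TOR2.Lv_apply_v' hσ hB h hL,
        Cfsg.Agent.Lib.Helper27_UQ_TOR2.Lv_apply_v' hσ hB h hL', hlam]
    have hww : ((l : ↥(SUg B)) : V ≃ₗ[F] V) (w : V) = ((l' : ↥(SUg B)) : V ≃ₗ[F] V) (w : V) := by
      rw [(stab_data hσ hB h w hw l.1 l.2.1 l.2.2).2.2,
        (stab_data hσ hB h w hw l'.1 l'.2.1 l'.2.2).2.2, hlam]
    -- so `k = l⁻¹ l'` fixes them
    have hfixk : ∀ x : V, ((l : ↥(SUg B)) : V ≃ₗ[F] V) x = ((l' : ↥(SUg B)) : V ≃ₗ[F] V) x →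
        ((((l : ↥(SUg B))⁻¹ * (l' : ↥(SUg B)) : ↥(SUg B)) : V ≃ₗ[F] V)) x = x := by
      intro x hx
      show (((l : ↥(SUg B)) : V ≃ₗ[F] V)⁻¹ * ((l' : ↥(SUg B)) : V ≃ₗ[F] V)) x = x
      rw [LinearEquiv.mul_apply, ← hx]
      exact ((l : ↥(SUg B)) : V ≃ₗ[F] V).symm_apply_apply x
    obtain ⟨hkU, hkdet⟩ := mem_SUg.mp ((l : ↥(SUg B))⁻¹ * (l' : ↥(SUg B)) : ↥(SUg B)).2
    have hk1 := Cfsg.Agent.Lib.Helper26_UQ_HPFREE.eq_one_of_fix hB hN h h4 w.2 hw _ hkU hkdet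
      (hfixk v hv) (hfixk v' hv') (hfixk (w : V) hww)
    have hk1' : (l : ↥(SUg B))⁻¹ * (l' : ↥(SUg B)) = 1 := Subtype.ext hk1
    apply Subtype.ext
    exact (inv_mul_eq_one.mp hk1')
  calc Nat.card {l : ↥(SUg B) // l ∈ (udat hσ hB h).L ∧ (udat hσ hB h).ρ l w = w}
      ≤ Nat.card ↥(powMonoidHom (q + 1) : Fˣ →* Fˣ).ker := Nat.card_le_card_of_injective φ hφ
    _ = q + 1 := card_norm_one hF

end Cfsg.Agent.Lib.Helper42_U4_STABL
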