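import Mathlib
import Cfsg.Agent.Lib.Helper94_Herm

set_option autoImplicit false

/-!
UQ-NORM1 (helper50's S2152 market, part B): an additive subgroup all of whose nonzero vectors have the same
nonzero norm has at most four elements.
-/

open Module Cfsg.Agent.Lib.Helper94_Herm

namespace Cfsg.Agent.Lib.Helper42_UQ_NORM1

variable {F V : Type*} [Field F] [AddCommGroup V] [Module F V] {σ : F →+* F}
  {B : V →ₗ[F] V →ₛₗ[σ] F}

theorem norm_add (a b : V) : B (a + b) (a + b) = B a a + B b b + (B a b + B b a) := by
  simp only [map_add, LinearMap.add_apply]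
  ring

theorem norm_sub (a b : V) : B (a - b) (a - b) = B a a + B b b - (B a b + B b a) := by
  simp only [map_sub, LinearMap.sub_apply]
  ring

theorem card_le_of_subset_finset {I : AddSubgroup V} (S : Finset V) (hS : ∀ w ∈ I, w ∈ S) :
    Nat.card I ≤ S.card := by
  have hinj : Function.Injective (fun w : I => (⟨w.1, hS w.1 w.2⟩ : S)) := by
    intro x y h
    apply Subtype.ext
    exact congrArg (fun z : S => (z : V)) h
  have := Nat.card_le_card_of_injective _ hinj
  rwa [Nat.card_eq_finsetCard] at this

theorem NORM1 (hB : IsHerm B) (I : AddSubgroup V) (c : F) (hc : c ≠ 0)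
    (hI : ∀ w ∈ I, w ≠ 0 → B w w = c) : Nat.card I ≤ 4 := by
  classical
  by_cases hbot : ∀ w ∈ I, w = 0
  · have := card_le_of_subset_finset (I := I) {0} (fun w hw => by rw [hbot w hw]; simp)
    simp at this
    omega
  push Not at hbot
  obtain ⟨a, haI, ha0⟩ := hbot
  have hca := hI a haI ha0
  by_cases h2 : (2 : F) = 0
  · -- characteristic two
    have hdbl : ∀ x : V, x + x = 0 := by
      intro x
      rw [← two_smul F x, h2, zero_smul]
    have hneg : ∀ x : V, -x = x := fun x => neg_eq_of_add_eq_zero_left (hdbl x)
    -- `t(x, y) = c` for distinct nonzero `x, y ∈ I`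
    have ht : ∀ x ∈ I, ∀ y ∈ I, x ≠ 0 → y ≠ 0 → x ≠ y → B x y + B y x = c := by
      intro x hx y hy hx0 hy0 hxy
      have hsum : x + y ≠ 0 := by
        intro h
        apply hxy
        have : x = -y := eq_neg_of_add_eq_zero_left h
        rw [this, hneg]
      have h1 := hI _ (I.add_mem hx hy) hsum
      rw [norm_add, hI x hx hx0, hI y hy hy0] at h1
      have h2c : c + c = 0 := by
        have : (2 : F) * c = 0 := by rw [h2, zero_mul]
        linear_combination this
      linear_combination h1 - h2c
    by_cases hb : ∀ w ∈ I, w = 0 ∨ w = a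
    · have := card_le_of_subset_finset (I := I) {0, a} (fun w hw => by
        rcases hb w hw with h | h <;> simp [h])
      have h3 : ({0, a} : Finset V).card ≤ 2 := Finset.card_le_two
      omega
    push Not at hb
    obtain ⟨b, hbI, hb0, hba⟩ := hb
    have key : ∀ d ∈ I, d ∈ ({0, a, b, a + b} : Finset V) := by
      intro d hd
      by_contra hnot
      simp only [Finset.mem_insert, Finset.mem_singleton, not_or] at hnot
      obtain ⟨hd0, hda, hdb, hdab⟩ := hnot
      have hsum : a + b + d ≠ 0 := by
        intro h
        apply hdab
        have : d = -(a + b) := eq_neg_of_add_eq_zero_right h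
        rw [this, hneg]
      have hab0 : a + b ≠ 0 := by
        intro h
        apply hba
        have : b = -a := eq_neg_of_add_eq_zero_right h
        rw [this, hneg]
      have h1 := hI _ (I.add_mem (I.add_mem haI hbI) hd) hsum
      have tab := ht a haI b hbI ha0 hb0 (Ne.symm hba)
      have tad := ht a haI d hd ha0 hd0 (Ne.symm hda)
      have tbd := ht b hbI d hd hb0 hd0 (Ne.symm hdb)
      rw [norm_add, norm_add, hca, hI b hbI hb0, hI d hd hd0] at h1
      simp only [map_add, LinearMap.add_apply] at h1
      have h2c : (2 : F) * c = 0 := by rw [h2, zero_mul]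
      apply hc
      linear_combination h1 - tab - tad - tbd - 2 * h2c
    have := card_le_of_subset_finset (I := I) {0, a, b, a + b} key
    have h4 : ({0, a, b, a + b} : Finset V).card ≤ 4 := Finset.card_le_four
    omega
  · -- characteristic not two
    have key : ∀ d ∈ I, d ∈ ({0, a, -a} : Finset V) := by
      intro d hd
      by_contra hnot
      simp only [Finset.mem_insert, Finset.mem_singleton, not_or] at hnot
      obtain ⟨hd0, hda, hdna⟩ := hnot
      have hsum : a + d ≠ 0 := by
        intro h
        apply hdna
        exact eq_neg_of_add_eq_zero_right h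
      have hdiff : a - d ≠ 0 := by
        intro h
        apply hda
        exact (sub_eq_zero.mp h).symm
      have h1 := hI _ (I.add_mem haI hd) hsum
      have h3 := hI _ (I.sub_mem haI hd) hdiff
      rw [norm_add, hca, hI d hd hd0] at h1
      rw [norm_sub, hca, hI d hd hd0] at h3
      have : (2 : F) * c = 0 := by linear_combination h1 + h3
      rcases mul_eq_zero.mp this with h | h
      · exact h2 h
      · exact hc h
    have := card_le_of_subset_finset (I := I) {0, a, -a} key
    have h3 : ({0, a, -a} : Finset V).card ≤ 3 := Finset.card_le_three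
    omega

end Cfsg.Agent.Lib.Helper42_UQ_NORM1
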