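import Mathlib
import Cfsg.Agent.Lib.Helper54_UTDefs
import Cfsg.Agent.Lib.Helper37_UTDefs
import Cfsg.Agent.Lib.Helper54_UTModel

set_option autoImplicit false
set_option linter.unusedSectionVars false
set_option linter.unusedVariables false

/-!
# UTENS PART I package Z3 (helper42, for helper54/helper37): conjugation of a radical element
`1 + P_x ⊗ S ∈ M` by the Kronecker element `1 ⊗ Q`, `Q ∈ SU(B)`.
-/

namespace Cfsg.Agent.Lib.Helper42_UT1_Z3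

open Module
open Cfsg.Agent.Lib.Helper94_Symp Cfsg.Agent.Lib.Helper94_Herm Cfsg.Agent.Lib.Helper13_PSUSimple
  Cfsg.Agent.Lib.Helper94_FrmDefs Cfsg.Agent.Lib.Helper94_UDDefs Cfsg.Agent.Lib.Helper67_UT2Defs
  Cfsg.Agent.Lib.Helper54_UTDefs

variable {F A B V : Type*} [Field F] [AddCommGroup A] [Module F A] [AddCommGroup B] [Module F B]
  [AddCommGroup V] [Module F V] {σ : F →+* F}
variable {α : A →ₗ[F] A →ₛₗ[σ] F} {β : B →ₗ[F] B →ₛₗ[σ] F} {f : V →ₗ[F] V →ₛₗ[σ] F}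
  {T : A →ₗ[F] B →ₗ[F] V} {M : Subgroup (V ≃ₗ[F] V)}

/-- Z3 (S): conjugation by `1 ⊗ Q`, `Q ∈ SU(B)` -/
theorem zs_conj (hC : TnCtx α β f T) (hM : TnHyp α β f T M) {x : A} (S : B →ₗ[F] B)
    (g : V ≃ₗ[F] V) (hg : g ∈ M) (hZ : IsZ α T x S g) (Q : B ≃ₗ[F] B) (hQ : Q ∈ SUg β) :
    ∃ g' ∈ M, IsZ α T x
      ((Q : B ≃ₗ[F] B).toLinearMap ∘ₗ S ∘ₗ (Q⁻¹ : B ≃ₗ[F] B).toLinearMap) g' := by
  obtain ⟨k, hk, hkT⟩ := hM.kr_mem 1 Q (SUg α).one_mem hQ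
  have hkT' : ∀ (a : A) (b : B), k (T a b) = T a (Q b) := fun a b => hkT a b
  have hQQ : ∀ b : B, Q ((Q⁻¹ : B ≃ₗ[F] B) b) = b := fun b => Q.apply_symm_apply b
  have hkinv : ∀ (a : A) (b : B), (k⁻¹ : V ≃ₗ[F] V) (T a b) = T a ((Q⁻¹ : B ≃ₗ[F] B) b) := by
    intro a b
    have h1 : k (T a ((Q⁻¹ : B ≃ₗ[F] B) b)) = T a b := by rw [hkT', hQQ]
    rw [← h1]
    exact k.symm_apply_apply _
  refine ⟨k * g * k⁻¹, M.mul_mem (M.mul_mem hk hg) (M.inv_mem hk), ?_⟩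
  intro a b
  rw [LinearEquiv.mul_apply, LinearEquiv.mul_apply, hkinv, hZ, map_add, map_smul, hkT', hkT', hQQ]
  rfl

end Cfsg.Agent.Lib.Helper42_UT1_Z3
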