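import Mathlib
import Cfsg.Agent.Lib.Helper54_UTDefs
import Cfsg.Agent.Lib.Helper37_UTDefs
import Cfsg.Agent.Lib.Helper54_UTModel

set_option autoImplicit false
set_option linter.unusedSectionVars false
set_option linter.unusedVariables false

/-!
# UTENS PART I package Z4 (helper42, for helper54/helper37): `1 + P_x ⊗ (c P_y)` is the unitary
transvection with centre `x ⊗ y`.
-/

namespace Cfsg.Agent.Lib.Helper42_UT1_Z4

open Module
open Cfsg.Agent.Lib.Helper94_Symp Cfsg.Agent.Lib.Helper94_Herm Cfsg.Agent.Lib.Helper13_PSUSimple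
  Cfsg.Agent.Lib.Helper94_FrmDefs Cfsg.Agent.Lib.Helper94_UDDefs Cfsg.Agent.Lib.Helper67_UT2Defs
  Cfsg.Agent.Lib.Helper54_UTDefs

variable {F A B V : Type*} [Field F] [AddCommGroup A] [Module F A] [AddCommGroup B] [Module F B]
  [AddCommGroup V] [Module F V] {σ : F →+* F}
variable {α : A →ₗ[F] A →ₛₗ[σ] F} {β : B →ₗ[F] B →ₛₗ[σ] F} {f : V →ₗ[F] V →ₛₗ[σ] F}
  {T : A →ₗ[F] B →ₗ[F] V} {M : Subgroup (V ≃ₗ[F] V)}

/-- Z4 (S): `1 + P_x ⊗ (c P_y)` is the unitary transvection with centre `x ⊗ y` -/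
theorem zs_utv (hC : TnCtx α β f T) {x : A} {y : B} (hxy : α x x = 0 ∨ β y y = 0) (c : F)
    (g : V ≃ₗ[F] V) (hZ : IsZ α T x (c • rk1h β y) g) : g = utv f (T x y) c := by
  have h0 : f (T x y) (T x y) = 0 := by
    rw [hC.self_T]
    rcases hxy with h | h <;> simp [h]
  apply hC.ext_equiv
  intro a b
  rw [hZ a b, utv_apply f h0, hC.hT, LinearMap.smul_apply, rk1h_apply, map_smul, map_smul,
    smul_smul, smul_smul]
  congr 2
  ring

end Cfsg.Agent.Lib.Helper42_UT1_Z4
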