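import Mathlib
import Cfsg.Agent.Lib.Helper67_UT2Defs
import Cfsg.Agent.Lib.Helper82_T2_KR

set_option autoImplicit false
set_option linter.unusedSectionVars false
set_option linter.unusedVariables false

/-!
# UTENS2 package COMMU, aux form with NEXA (`kron_quad`) as an explicit hypothesis (helper42, architect helper67)

`1 ⊗ t` (`t` a unitary transvection with isotropic centre `y ∈ DI g`) commutes with `g (ux (c • 1)) g⁻¹`.
-/

open Module
open Cfsg.Agent.Lib.Helper94_Symp Cfsg.Agent.Lib.Helper94_Herm Cfsg.Agent.Lib.Helper13_PSUSimple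
  Cfsg.Agent.Lib.Helper94_FrmDefs Cfsg.Agent.Lib.Helper94_HermEich
  Cfsg.Agent.Lib.Helper67_Tens2Defs Cfsg.Agent.Lib.Helper67_UT2Defs

namespace Cfsg.Agent.Lib.Helper42_UT2_COMMUaux

variable {F W : Type*} [Field F] [Finite F] [AddCommGroup W] [Module F W] [FiniteDimensional F W]
variable {σ : F →+* F} {β : W →ₗ[F] W →ₛₗ[σ] F}

/-- `(t - 1)² = 0` for a unitary transvection `t` -/
theorem utv_quad (y : W) (hy : β y y = 0) (s : F) (v : W) :
    utv β y s (utv β y s v) - utv β y s v = utv β y s v - v := by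
  rw [utv_apply β hy s (utv β y s v), utv_apply β hy s v]
  simp only [map_add, map_smul, LinearMap.add_apply, LinearMap.smul_apply, hy, smul_eq_mul, mul_zero,
    add_zero]
  abel

/-- the shape `(1 + N) ⊗ !![1, τ; 0, 1]` commutes with `ux (c • 1)` -/
theorem comm_of_shape (h : (W × W) ≃ₗ[F] (W × W)) (τ : F) (N : W →ₗ[F] W)
    (hform : ∀ u u' : W, h (u, u') = (u + N u + τ • (u' + N u'), u' + N u')) (c : F) :
    h * ux (c • (LinearMap.id : W →ₗ[F] W)) = ux (c • (LinearMap.id : W →ₗ[F] W)) * h := by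
  apply LinearEquiv.ext
  rintro ⟨u, u'⟩
  simp only [LinearEquiv.mul_apply, ux_apply, hform, LinearMap.smul_apply, LinearMap.id_apply]
  ext
  · simp only [map_add, map_smul, smul_add]
    abel
  · rfl

theorem commu_of (hσ : Invol σ) (hβ : IsHerm β) (hN : NondegOn β ⊤)
    (hNEXA : ∀ h : (W × W) ≃ₗ[F] (W × W), IsKron2 h →
      (∀ x ∈ (G0 : Submodule F (W × W)), h x ∈ (G0 : Submodule F (W × W))) →
      (∀ x, h (h x) - h x = h x - x) →
      ∃ (τ : F) (N : W →ₗ[F] W), (∀ u, N (N u) = 0) ∧ (∀ u, (2 * τ) • N u = 0) ∧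
        ∀ u u' : W, h (u, u') = (u + N u + τ • (u' + N u'), u' + N u'))
    (M : Subgroup ((W × W) ≃ₗ[F] (W × W))) (hM : HypU β M)
    (hST : ∀ h ∈ M, (∀ x ∈ (G0 : Submodule F (W × W)), h x ∈ (G0 : Submodule F (W × W))) →
      IsKron2 h)
    (g : (W × W) ≃ₗ[F] (W × W)) (hg : g ∈ M)
    (y : W) (hyD : y ∈ DI g) (hy : β y y = 0) (s : F) (hs : σ s = -s) (c : F) (hc : σ c = -c) :
    oE (utv β y s) * (g * ux (c • (LinearMap.id : W →ₗ[F] W)) * g⁻¹) =
      (g * ux (c • (LinearMap.id : W →ₗ[F] W)) * g⁻¹) * oE (utv β y s) := by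
  have hTW : utv β y s ∈ SUg β :=
    tvGroup_le_SUg hβ ⊤ (Cfsg.Agent.Lib.Helper94_HermTrans.utv_mem_tvGroup (U := ⊤) Submodule.mem_top hy hs)
  have hRM : oE (utv β y s) ∈ M := hM.oE_mem _ hTW
  obtain ⟨R, hR⟩ : ∃ R : (W × W) ≃ₗ[F] (W × W), R = oE (utv β y s) := ⟨_, rfl⟩
  rw [← hR] at hRM ⊢
  obtain ⟨h, hh⟩ : ∃ h : (W × W) ≃ₗ[F] (W × W), h = g⁻¹ * R * g := ⟨_, rfl⟩
  have hhM : h ∈ M := by
    rw [hh]
    exact M.mul_mem (M.mul_mem (M.inv_mem hg) hRM) hg
  have hguG : g ∈ uG (uf β) := (mem_SUg.mp (hM.le hg)).1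
  -- the second components of `Lg g` are orthogonal to `y`
  have h2nd : ∀ x ∈ Lg g, β x.2 y = 0 := by
    intro x hx
    obtain ⟨u, rfl⟩ := mem_Lg.mp hx
    obtain ⟨v, hv⟩ := mem_Lg.mp (mem_DI.mp hyD)
    have h1 := hguG (u, 0) (v, 0)
    rw [hv] at h1
    simpa using h1
  -- `R` stabilises `Lg g`
  have hRL : ∀ x ∈ Lg g, R x ∈ Lg g := by
    intro x hx
    have e : R x = x + (s * β x.1 y) • (y, (0 : W)) := by
      rw [hR, oE_apply, utv_apply β hy, utv_apply β hy, h2nd x hx]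
      ext <;> simp
    rw [e]
    exact (Lg g).add_mem hx ((Lg g).smul_mem _ (mem_DI.mp hyD))
  have hstab : ∀ x ∈ (G0 : Submodule F (W × W)), h x ∈ (G0 : Submodule F (W × W)) := by
    intro x hx
    rw [mem_G0, hh, LinearEquiv.mul_apply, LinearEquiv.mul_apply, ← mem_Lg']
    exact hRL _ ⟨x, hx, rfl⟩
  have hk : IsKron2 h := hST h hhM hstab
  have hRsq : ∀ v : W × W, R (R v) - R v = R v - v := by
    intro v
    rw [hR]
    simp only [oE_apply]
    exact Prod.ext (utv_quad y hy s v.1) (utv_quad y hy s v.2)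
  have hsq : ∀ x, h (h x) - h x = h x - x := by
    intro x
    rw [hh]
    simp only [LinearEquiv.mul_apply]
    rw [apply_inv_apply']
    have h1 := congrArg (g⁻¹ : (W × W) ≃ₗ[F] (W × W)) (hRsq (g x))
    rw [map_sub, map_sub, inv_apply_apply'] at h1
    exact h1
  obtain ⟨τ, N, -, -, hform⟩ := hNEXA h hk hstab hsq
  have hcomm := comm_of_shape h τ N hform c
  have hRg : R = g * h * g⁻¹ := by rw [hh]; group
  rw [hRg]
  calc g * h * g⁻¹ * (g * ux (c • (LinearMap.id : W →ₗ[F] W)) * g⁻¹)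
      = g * (h * ux (c • (LinearMap.id : W →ₗ[F] W))) * g⁻¹ := by group
    _ = g * (ux (c • (LinearMap.id : W →ₗ[F] W)) * h) * g⁻¹ := by rw [hcomm]
    _ = g * ux (c • (LinearMap.id : W →ₗ[F] W)) * g⁻¹ * (g * h * g⁻¹) := by group

end Cfsg.Agent.Lib.Helper42_UT2_COMMUaux
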