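import Mathlib
import Cfsg.Agent.Lib.Helper67_UT2Defs
import Cfsg.Agent.Lib.Helper82_T2_KR
import Cfsg.Agent.Lib.Helper42_UT2_COMMUaux
import Cfsg.Agent.Lib.Helper78_UT2_NEXA

set_option autoImplicit false
set_option linter.unusedSectionVars false
set_option linter.unusedVariables false

/-!
# UTENS2 package COMMU (helper42, architect helper67)

`1 ⊗ t` (`t` a unitary transvection with isotropic centre `y ∈ DI g`) commutes with `g (ux (c • 1)) g⁻¹`
(`Helper42_UT2_COMMUaux.commu_of` + helper78's NEXA `kron_quad`).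
-/

open Module
open Cfsg.Agent.Lib.Helper94_Symp Cfsg.Agent.Lib.Helper94_Herm Cfsg.Agent.Lib.Helper13_PSUSimple
  Cfsg.Agent.Lib.Helper94_FrmDefs Cfsg.Agent.Lib.Helper94_HermEich
  Cfsg.Agent.Lib.Helper67_Tens2Defs Cfsg.Agent.Lib.Helper67_UT2Defs

namespace Cfsg.Agent.Lib.Helper42_UT2_COMMU

variable {F W : Type*} [Field F] [Finite F] [AddCommGroup W] [Module F W] [FiniteDimensional F W]
variable {σ : F →+* F} {β : W →ₗ[F] W →ₛₗ[σ] F}

/-- COMMU : `1 ⊗ t` (`t` a unitary transvection with isotropic centre `y ∈ DI g`) commutes with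
`g (ux (c • 1)) g⁻¹` -/
theorem commu (hσ : Invol σ) (hβ : IsHerm β) (hN : NondegOn β ⊤)
    (M : Subgroup ((W × W) ≃ₗ[F] (W × W))) (hM : HypU β M)
    (hST : ∀ h ∈ M, (∀ x ∈ (G0 : Submodule F (W × W)), h x ∈ (G0 : Submodule F (W × W))) →
      IsKron2 h)
    (g : (W × W) ≃ₗ[F] (W × W)) (hg : g ∈ M)
    (y : W) (hyD : y ∈ DI g) (hy : β y y = 0) (s : F) (hs : σ s = -s) (c : F) (hc : σ c = -c) :
    oE (utv β y s) * (g * ux (c • (LinearMap.id : W →ₗ[F] W)) * g⁻¹) =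
      (g * ux (c • (LinearMap.id : W →ₗ[F] W)) * g⁻¹) * oE (utv β y s) :=
  Cfsg.Agent.Lib.Helper42_UT2_COMMUaux.commu_of hσ hβ hN
    (fun h hk h0 hsq => Cfsg.Agent.Lib.Helper78_UT2_NEXA.kron_quad h hk h0 hsq)
    M hM hST g hg y hyD hy s hs c hc

end Cfsg.Agent.Lib.Helper42_UT2_COMMU
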