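import Mathlib
import Cfsg.Agent.Lib.Helper67_UT2Defs
import Cfsg.Agent.Lib.Helper82_T2_KR
import Cfsg.Agent.Lib.Helper93_T2_KAP2

set_option autoImplicit false
set_option linter.unusedSectionVars false
set_option linter.unusedVariables false

/-!
# UTENS2 package KAP1U, aux form with EIGU (`eig_iso`) as an explicit hypothesis (helper42, architect helper67)

`g (ux (c • 1)) g⁻¹` acts on `DI g × DI g` as `ux ((c * ν) • 1)`.
-/

open Module
open Cfsg.Agent.Lib.Helper94_Symp Cfsg.Agent.Lib.Helper94_Herm Cfsg.Agent.Lib.Helper13_PSUSimple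
  Cfsg.Agent.Lib.Helper94_FrmDefs Cfsg.Agent.Lib.Helper94_HermEich
  Cfsg.Agent.Lib.Helper67_Tens2Defs Cfsg.Agent.Lib.Helper67_UT2Defs
open Cfsg.Agent.Lib.Helper93_T2_KAP2

namespace Cfsg.Agent.Lib.Helper42_UT2_KAP1Uaux

variable {F W : Type*} [Field F] [Finite F] [AddCommGroup W] [Module F W] [FiniteDimensional F W]
variable {σ : F →+* F} {β : W →ₗ[F] W →ₛₗ[σ] F}

theorem kap1u_of (hσ : Invol σ) (hβ : IsHerm β) (hN : NondegOn β ⊤)
    (hEIG : ∀ (D : Submodule F W), NondegOn β D → 2 ≤ finrank F D → ∀ T : W →ₗ[F] W,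
      (∀ y ∈ D, β y y = 0 → ∃ l : F, T y = l • y) → ∃ c : F, ∀ u ∈ D, T u = c • u)
    (M : Subgroup ((W × W) ≃ₗ[F] (W × W))) (hM : HypU β M)
    (g : (W × W) ≃ₗ[F] (W × W)) (hg : g ∈ M)
    (hD : NondegOn β (DI g)) (hd2 : 2 ≤ finrank F (DI g))
    (hCOMM : ∀ y ∈ DI g, β y y = 0 → ∀ s : F, σ s = -s → ∀ c : F, σ c = -c →
      oE (utv β y s) * (g * ux (c • (LinearMap.id : W →ₗ[F] W)) * g⁻¹) =
        (g * ux (c • (LinearMap.id : W →ₗ[F] W)) * g⁻¹) * oE (utv β y s)) :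
    ∃ ν : F, ∀ c : F, σ c = -c → ∀ u ∈ DI g, ∀ u' ∈ DI g,
      (g * ux (c • (LinearMap.id : W →ₗ[F] W)) * g⁻¹) (u, u') = (u + (c * ν) • u', u') := by
  obtain ⟨ζ, hζ0, hζ⟩ := exists_skew hσ
  -- `C` commutes with `1 ⊗ t`
  have hTC : ∀ y ∈ DI g, β y y = 0 → ∀ x : W × W,
      oE (utv β y ζ) (Cmap g x) = Cmap g (oE (utv β y ζ) x) := by
    intro y hy hy0 x
    have h := congrArg (fun f : (W × W) ≃ₗ[F] (W × W) => f x) (hCOMM y hy hy0 ζ hζ ζ hζ)
    simp only [LinearEquiv.mul_apply] at h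
    have e1 := conj_apply g ζ x
    have e2 := conj_apply g ζ (oE (utv β y ζ) x)
    simp only [LinearEquiv.mul_apply] at e1 e2
    rw [e1, e2, map_add, map_smul] at h
    exact smul_right_injective _ hζ0 (add_left_cancel h)
  -- `C (u, 0) = 0` for `u ∈ D`
  have hC_D0 : ∀ u ∈ DI g, Cmap g (u, 0) = 0 := fun u hu =>
    (Cmap_eq_zero_iff g (u, 0)).mpr (mem_DI.mp hu)
  -- the two components of `u' ↦ C (0, u')`
  obtain ⟨T0, hT0⟩ : ∃ T0 : W →ₗ[F] W, T0 = (LinearMap.fst F W W) ∘ₗ (Cmap g) ∘ₗ (LinearMap.inr F W W) :=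
    ⟨_, rfl⟩
  obtain ⟨T1, hT1⟩ : ∃ T1 : W →ₗ[F] W, T1 = (LinearMap.snd F W W) ∘ₗ (Cmap g) ∘ₗ (LinearMap.inr F W W) :=
    ⟨_, rfl⟩
  have hT0a : ∀ u, T0 u = (Cmap g (0, u)).1 := fun u => by rw [hT0]; rfl
  have hT1a : ∀ u, T1 u = (Cmap g (0, u)).2 := fun u => by rw [hT1]; rfl
  have key : ∀ y ∈ DI g, β y y = 0 → ∀ u' : W,
      Cmap g (0, u') + (ζ * β u' y) • Cmap g (0, y) = oE (utv β y ζ) (Cmap g (0, u')) := by
    intro y hy hy0 u'
    rw [hTC y hy hy0, ← map_smul, ← map_add]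
    congr 1
    rw [oE_apply, utv_apply β hy0, utv_apply β hy0]
    ext <;> simp
  have keyT0 : ∀ y ∈ DI g, β y y = 0 → ∀ u' : W,
      (ζ * β u' y) • T0 y = (ζ * β (T0 u') y) • y := by
    intro y hy hy0 u'
    have h1 := congrArg Prod.fst (key y hy hy0 u')
    simp only [oE_apply, Prod.fst_add, Prod.smul_fst] at h1
    rw [utv_apply β hy0, ← hT0a, ← hT0a] at h1
    exact add_left_cancel h1
  have keyT1 : ∀ y ∈ DI g, β y y = 0 → ∀ u' : W,
      (ζ * β u' y) • T1 y = (ζ * β (T1 u') y) • y := by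
    intro y hy hy0 u'
    have h1 := congrArg Prod.snd (key y hy hy0 u')
    simp only [oE_apply, Prod.snd_add, Prod.smul_snd] at h1
    rw [utv_apply β hy0, ← hT1a, ← hT1a] at h1
    exact add_left_cancel h1
  -- isotropic vectors of `D` are eigenvectors
  have heig : ∀ T : W →ₗ[F] W, (∀ y ∈ DI g, β y y = 0 → ∀ u' : W,
      (ζ * β u' y) • T y = (ζ * β (T u') y) • y) →
      ∀ y ∈ DI g, β y y = 0 → ∃ l : F, T y = l • y := by
    intro T hT y hy hy0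
    by_cases hyz : y = 0
    · exact ⟨0, by rw [hyz, map_zero, smul_zero]⟩
    · obtain ⟨u', -, hu'⟩ := hN y trivial hyz
      have hu'' : β u' y ≠ 0 := herm_ne_zero hσ hβ hu'
      have hne : ζ * β u' y ≠ 0 := mul_ne_zero hζ0 hu''
      refine ⟨(ζ * β u' y)⁻¹ * (ζ * β (T u') y), ?_⟩
      rw [mul_smul, ← hT y hy hy0 u', smul_smul, inv_mul_cancel₀ hne, one_smul]
  obtain ⟨ν, hν⟩ := hEIG (DI g) hD hd2 T0 (heig T0 keyT0)
  obtain ⟨c₁, hc₁⟩ := hEIG (DI g) hD hd2 T1 (heig T1 keyT1)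
  -- `c₁ = 0`
  have hpos : 0 < finrank F (DI g) := by omega
  obtain ⟨⟨w, hwD⟩, hw0⟩ := Module.finrank_pos_iff_exists_ne_zero.mp hpos
  have hw0' : w ≠ 0 := fun h => hw0 (Subtype.ext h)
  have hC0 : ∀ u' ∈ DI g, Cmap g (0, u') = (ν • u', c₁ • u') := by
    intro u' hu'
    ext
    · rw [← hT0a, hν u' hu']
    · rw [← hT1a, hc₁ u' hu']
  have hc₁0 : c₁ = 0 := by
    have h1 := Cmap_Cmap g (0, w)
    rw [hC0 w hwD] at h1
    have hsplit : ((ν • w, c₁ • w) : W × W) = (ν • w, 0) + c₁ • (0, w) := by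
      ext <;> simp
    rw [hsplit, map_add, map_smul, hC_D0 _ ((DI g).smul_mem ν hwD), zero_add, hC0 w hwD] at h1
    have h2 := congrArg Prod.snd h1
    simp only [Prod.smul_snd, Prod.snd_zero, smul_smul] at h2
    rcases smul_eq_zero.mp h2 with h3 | h3
    · exact mul_self_eq_zero.mp h3
    · exact absurd h3 hw0'
  refine ⟨ν, ?_⟩
  intro c hc u hu u' hu'
  rw [conj_apply]
  have hsplit : ((u, u') : W × W) = (u, 0) + (0, u') := by
    ext <;> simp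
  have hCuu : Cmap g (u, u') = (ν • u', 0) := by
    rw [hsplit, map_add, hC_D0 u hu, zero_add, hC0 u' hu', hc₁0, zero_smul]
  rw [hCuu]
  ext
  · simp [smul_smul]
  · simp

end Cfsg.Agent.Lib.Helper42_UT2_KAP1Uaux
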