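import Mathlib
import Cfsg.Agent.Lib.Helper67_UT2Defs
import Cfsg.Agent.Lib.Helper82_T2_KR
import Cfsg.Agent.Lib.Helper42_UT2_KAP1Uaux
import Cfsg.Agent.Lib.Helper30_UT2_EIGU

set_option autoImplicit false
set_option linter.unusedSectionVars false
set_option linter.unusedVariables false

/-!
# UTENS2 package KAP1U (helper42, architect helper67)

`g (ux (c • 1)) g⁻¹` acts on `DI g × DI g` as `ux ((c * ν) • 1)`
(`Helper42_UT2_KAP1Uaux.kap1u_of` + helper30's EIGU `eig_iso`).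
-/

open Module
open Cfsg.Agent.Lib.Helper94_Symp Cfsg.Agent.Lib.Helper94_Herm Cfsg.Agent.Lib.Helper13_PSUSimple
  Cfsg.Agent.Lib.Helper94_FrmDefs Cfsg.Agent.Lib.Helper94_HermEich
  Cfsg.Agent.Lib.Helper67_Tens2Defs Cfsg.Agent.Lib.Helper67_UT2Defs

namespace Cfsg.Agent.Lib.Helper42_UT2_KAP1U

variable {F W : Type*} [Field F] [Finite F] [AddCommGroup W] [Module F W] [FiniteDimensional F W]
variable {σ : F →+* F} {β : W →ₗ[F] W →ₛₗ[σ] F}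

/-- KAP1U : `g (ux (c • 1)) g⁻¹` acts on `DI g × DI g` as `ux ((c * ν) • 1)` -/
theorem kap1u (hσ : Invol σ) (hβ : IsHerm β) (hN : NondegOn β ⊤)
    (M : Subgroup ((W × W) ≃ₗ[F] (W × W))) (hM : HypU β M)
    (g : (W × W) ≃ₗ[F] (W × W)) (hg : g ∈ M)
    (hD : NondegOn β (DI g)) (hd2 : 2 ≤ finrank F (DI g))
    (hCOMM : ∀ y ∈ DI g, β y y = 0 → ∀ s : F, σ s = -s → ∀ c : F, σ c = -c →
      oE (utv β y s) * (g * ux (c • (LinearMap.id : W →ₗ[F] W)) * g⁻¹) =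
        (g * ux (c • (LinearMap.id : W →ₗ[F] W)) * g⁻¹) * oE (utv β y s)) :
    ∃ ν : F, ∀ c : F, σ c = -c → ∀ u ∈ DI g, ∀ u' ∈ DI g,
      (g * ux (c • (LinearMap.id : W →ₗ[F] W)) * g⁻¹) (u, u') = (u + (c * ν) • u', u') :=
  Cfsg.Agent.Lib.Helper42_UT2_KAP1Uaux.kap1u_of hσ hβ hN
    (fun D hDn h2 T hT => Cfsg.Agent.Lib.Helper30_UT2_EIGU.eig_iso hσ hβ D hDn h2 T hT)
    M hM g hg hD hd2 hCOMM

end Cfsg.Agent.Lib.Helper42_UT2_KAP1U
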