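import Mathlib
import Cfsg.Agent.Lib.Helper37_UTDefs
import Cfsg.Agent.Lib.Helper94_UDDefs
import Cfsg.Agent.Lib.Helper73_Tens_TP1

set_option autoImplicit false
set_option linter.unusedSectionVars false
set_option linter.unusedVariables false

/-!
# UTENS package SSU (helper42, for helper37): an additive subgroup of `F` stable under multiplication
by the squares of the fixed elements of `σ` is stable under multiplication by all fixed elements.
-/

namespace Cfsg.Agent.Lib.Helper42_UT_SSU

open Matrix Module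
open Cfsg.Agent.Lib.Helper98_ExtDefs Cfsg.Agent.Lib.Helper97_TensDefs
open Cfsg.Agent.Lib.Helper94_Herm Cfsg.Agent.Lib.Helper13_PSUSimple
open Cfsg.Agent.Lib.Helper67_UT2Defs Cfsg.Agent.Lib.Helper37_UTDefs
open Cfsg.Agent.Lib.Helper94_FrmDefs

variable {F : Type*} [Field F] {ι κ : Type*} [Fintype ι] [Fintype κ] [DecidableEq ι]
  [DecidableEq κ] {σ : F →+* F}
variable {α : (ι → F) →ₗ[F] (ι → F) →ₛₗ[σ] F} {β : (κ → F) →ₗ[F] (κ → F) →ₛₗ[σ] F}
variable {M : Subgroup (Matrix ι κ F ≃ₗ[F] Matrix ι κ F)}

/-- SSU (S): an additive subgroup of `F` stable under multiplication by squares of fixed elements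
is stable under multiplication by all fixed elements. -/
theorem ssu_abs [Finite F] (hσ : Invol σ) (C : AddSubgroup F)
    (hC : ∀ c ∈ C, ∀ k : F, σ k = k → k ^ 2 * c ∈ C) {c0 : F} (h0 : c0 ∈ C) (r : F)
    (hr : σ r = r) : r * c0 ∈ C := by
  by_cases h2 : (2 : F) = 0
  · -- characteristic two: `r` is the square of a fixed element
    have hchar : ringChar F = 2 :=
      CharP.ringChar_of_prime_eq_zero Nat.prime_two (by exact_mod_cast h2)
    obtain ⟨a, ha⟩ := FiniteField.isSquare_of_char_two hchar r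
    have hsa : σ a * σ a = a * a := by rw [← map_mul, ← ha, hr]
    have hd : (σ a - a) * (σ a - a) = 0 := by
      have : (σ a - a) * (σ a - a) = σ a * σ a + a * a - 2 * (σ a * a) := by ring
      rw [this, hsa, h2, zero_mul, sub_zero, ← two_mul, h2, zero_mul]
    have hfix : σ a = a := sub_eq_zero.mp (mul_self_eq_zero.mp hd)
    rw [ha, ← pow_two]
    exact hC c0 h0 a hfix
  · have h2' : σ 2 = 2 := map_ofNat σ 2
    have hp : σ ((r + 1) / 2) = (r + 1) / 2 := by
      rw [map_div₀, map_add, map_one, hr, h2']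
    have hm : σ ((r - 1) / 2) = (r - 1) / 2 := by
      rw [map_div₀, map_sub, map_one, hr, h2']
    have hrc : r * c0 = ((r + 1) / 2) ^ 2 * c0 - ((r - 1) / 2) ^ 2 * c0 := by
      field_simp
      ring
    rw [hrc]
    exact C.sub_mem (hC c0 h0 _ hp) (hC c0 h0 _ hm)

end Cfsg.Agent.Lib.Helper42_UT_SSU
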