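import Mathlib
import Cfsg.Agent.Lib.Helper94_Herm
import Cfsg.Agent.Lib.Helper98_ExtDefs

/-!
# UEXTm market `uxm_packages` (architect helper54), package ENDB  (helper42)

Pure `F`-linear algebra: if `M` contains, for every `a : F`, the map
`m(a e) : x ↦ x + f(x, a e) ζ - f(x, ζ) a e + s f(x, a e) a e` (`ζ, e` in a totally isotropic subspace `t`),
then `m(e) m(θ e) m((1 + θ) e)⁻¹ = utv f e c` with `c = -s (θ + σ θ) ≠ 0`, `σ c = -c`.
-/

set_option autoImplicit false
set_option linter.unusedSectionVars false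
set_option linter.unusedVariables false

open Module
open Cfsg.Agent.Lib.Helper94_Symp Cfsg.Agent.Lib.Helper94_Herm Cfsg.Agent.Lib.Helper98_ExtDefs

namespace Cfsg.Agent.Lib.Helper42_UXm_ENDB

variable {F K V : Type*} [Field F] [Field K] [Algebra F K] [AddCommGroup V] [Module F V]
  [Module K V] [IsScalarTower F K V] [Finite F] [Finite K] [Module.Finite K V]
  {σ : F →+* F} {τ : K →+* K}

/-- **ENDB** (M).  Pure `F`-linear algebra: the quadratic term of the family gives a transvection. -/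
theorem endB (hσ : Invol σ) {W : Type*} [AddCommGroup W] [Module F W]
    (f : W →ₗ[F] W →ₛₗ[σ] F) (hf : IsHerm f) (M : Subgroup (W ≃ₗ[F] W)) (t : Submodule F W)
    (hti : ∀ a ∈ t, ∀ b ∈ t, f a b = 0) (ζ e : W) (hζ : ζ ∈ t) (he : e ∈ t) (s : F) (hs0 : s ≠ 0)
    (hs : σ s = -s)
    (hfam : ∀ a : F, HasMap M
      (fun x => x + f x (a • e) • ζ - f x ζ • (a • e) + (s * f x (a • e)) • (a • e))) :
    ∃ c : F, c ≠ 0 ∧ σ c = -c ∧ utv f e c ∈ M := by
  obtain ⟨θ, hθ⟩ := exists_tr_ne_zero hσ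
  obtain ⟨g1, hg1M, hg1⟩ := hfam 1
  obtain ⟨g2, hg2M, hg2⟩ := hfam θ
  obtain ⟨g3, hg3M, hg3⟩ := hfam (1 + θ)
  have hee : f e e = 0 := hti e he e he
  have hEt : ∀ (a : F) (x : W),
      f x (a • e) • ζ - f x ζ • (a • e) + (s * f x (a • e)) • (a • e) ∈ t := by
    intro a x
    exact t.add_mem (t.sub_mem (t.smul_mem _ hζ) (t.smul_mem _ (t.smul_mem _ he)))
      (t.smul_mem _ (t.smul_mem _ he))
  have h2e : ∀ (a : F) (y : W), f y (a • e) = σ a * f y e := by
    intro a y
    rw [LinearMap.map_smulₛₗ, smul_eq_mul]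
  refine ⟨-(s * (θ + σ θ)), neg_ne_zero.mpr (mul_ne_zero hs0 hθ), ?_, ?_⟩
  · rw [map_neg, map_mul, map_add, hσ.invol, hs]; ring
  · have key : utv f e (-(s * (θ + σ θ))) * g3 = g1 * g2 := by
      apply LinearEquiv.ext
      intro x
      rw [LinearEquiv.mul_apply, LinearEquiv.mul_apply, hg3, hg2, hg1, utv_apply f hee]
      simp only []
      have e1 : f (x + f x ((1 + θ) • e) • ζ - f x ζ • ((1 + θ) • e) +
          (s * f x ((1 + θ) • e)) • ((1 + θ) • e)) e = f x e := by
        have := hti _ (hEt (1 + θ) x) e he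
        rw [add_sub_assoc, add_assoc, map_add, LinearMap.add_apply, this, add_zero]
      have e2 : ∀ b : W, b ∈ t → f (x + f x (θ • e) • ζ - f x ζ • (θ • e) +
          (s * f x (θ • e)) • (θ • e)) b = f x b := by
        intro b hb
        have := hti _ (hEt θ x) b hb
        rw [add_sub_assoc, add_assoc, map_add, LinearMap.add_apply, this, add_zero]
      rw [e1, e2 ((1 : F) • e) (t.smul_mem _ he), e2 ζ hζ]
      simp only [h2e, map_add, map_one, one_smul]
      module
    have h3 : utv f e (-(s * (θ + σ θ))) = g1 * g2 * g3⁻¹ := eq_mul_inv_of_mul_eq key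
    rw [h3]
    exact M.mul_mem (M.mul_mem hg1M hg2M) (M.inv_mem hg3M)

end Cfsg.Agent.Lib.Helper42_UXm_ENDB
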