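import Mathlib
import Cfsg.Agent.Lib.Helper75_BRDefs
import Cfsg.Agent.Lib.Helper78_CentralNilp
import Cfsg.Agent.Lib.Helper78_CharFacts

/-!
# S4607 market, package B1 (RED): the coefficientwise reduction `redG` on `Isub` (helper75)
-/

set_option autoImplicit false

namespace Cfsg.Agent.Lib.Helper75_BR_RED

open Cfsg Cfsg.Agent.Lib.Helper78_LocalRing Cfsg.Agent.Lib.Helper78_GroupRing
  Cfsg.Agent.Lib.Helper79_Residue Cfsg.Agent.Lib.Helper75_BRDefs
  Cfsg.Agent.Lib.Helper78_Osima

universe u v w

variable {G : Type u} [Group G] [Fintype G] {M : Ideal AlgInt} [hmax : M.IsMaximal]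

theorem redG_add {a b : MonoidAlgebra ℂ G} (ha : a ∈ Isub G hmax.isPrime)
    (hb : b ∈ Isub G hmax.isPrime) : redG M (a + b) = redG M a + redG M b := by
  ext g
  rw [MonoidAlgebra.coeff_add, Finsupp.add_apply, redG_coeff, redG_coeff, redG_coeff,
    MonoidAlgebra.coeff_add, Finsupp.add_apply]
  exact redFun_add (ha g) (hb g)

theorem redG_neg {a : MonoidAlgebra ℂ G} (ha : a ∈ Isub G hmax.isPrime) :
    redG M (-a) = -redG M a := by
  ext g
  rw [MonoidAlgebra.coeff_neg, Finsupp.neg_apply, redG_coeff, redG_coeff,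
    MonoidAlgebra.coeff_neg, Finsupp.neg_apply]
  exact redFun_neg (ha g)

theorem redG_sub {a b : MonoidAlgebra ℂ G} (ha : a ∈ Isub G hmax.isPrime)
    (hb : b ∈ Isub G hmax.isPrime) : redG M (a - b) = redG M a - redG M b := by
  rw [sub_eq_add_neg, redG_add ha ((Isub G hmax.isPrime).neg_mem hb), redG_neg hb,
    ← sub_eq_add_neg]

theorem redG_zero : redG M (0 : MonoidAlgebra ℂ G) = 0 := by
  ext g
  rw [redG_coeff]
  simp [redFun_zero]

theorem redG_mul {a b : MonoidAlgebra ℂ G} (ha : a ∈ Isub G hmax.isPrime)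
    (hb : b ∈ Isub G hmax.isPrime) : redG M (a * b) = redG M a * redG M b := by
  classical
  ext g
  have hs : ∀ {p : G × G}, p ∈ Finset.univ.image (fun x : G => (x, x⁻¹ * g)) ↔ p.1 * p.2 = g := by
    intro q
    simp only [Finset.mem_image, Finset.mem_univ, true_and]
    constructor
    · rintro ⟨x, rfl⟩
      simp
    · intro h
      refine ⟨q.1, ?_⟩
      rw [← h]
      ext <;> simp
  have hinj : ∀ x ∈ (Finset.univ : Finset G), ∀ y ∈ (Finset.univ : Finset G),
      (fun x : G => (x, x⁻¹ * g)) x = (fun x : G => (x, x⁻¹ * g)) y → x = y :=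
    fun x _ y _ h => congrArg Prod.fst h
  rw [redG_coeff, MonoidAlgebra.coeff_mul_antidiag a b g _ hs,
    MonoidAlgebra.coeff_mul_antidiag (redG M a) (redG M b) g _ hs,
    Finset.sum_image hinj, Finset.sum_image hinj]
  have hsum := redFun_sum (M := M) (Finset.univ : Finset G)
    (fun x : G => a.coeff x * b.coeff (x⁻¹ * g))
    (fun x _ => memLocalRing_mul hmax.isPrime (ha x) (hb _))
  refine hsum.trans (Finset.sum_congr rfl fun x _ => ?_)
  rw [redG_coeff, redG_coeff]
  exact redFun_mul (ha x) (hb _)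

theorem redG_one : redG M (1 : MonoidAlgebra ℂ G) = 1 := by
  classical
  ext g
  rw [redG_coeff, MonoidAlgebra.one_def, MonoidAlgebra.one_def, MonoidAlgebra.coeff_single,
    MonoidAlgebra.coeff_single, Finsupp.single_apply, Finsupp.single_apply]
  split_ifs
  · exact redFun_one
  · exact redFun_zero

theorem redG_smul {c : ℂ} (hc : MemLocalRing M c) {a : MonoidAlgebra ℂ G}
    (ha : a ∈ Isub G hmax.isPrime) : redG M (c • a) = redFun M c • redG M a := by
  ext g
  rw [redG_coeff, MonoidAlgebra.coeff_smul, MonoidAlgebra.coeff_smul, Finsupp.smul_apply,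
    Finsupp.smul_apply, redG_coeff, smul_eq_mul, smul_eq_mul]
  exact redFun_mul hc (ha g)

theorem redG_eq_zero_iff {a : MonoidAlgebra ℂ G} (ha : a ∈ Isub G hmax.isPrime) :
    redG M a = 0 ↔ a ∈ Zsub G hmax.isPrime := by
  constructor
  · intro h g
    have : (redG M a).coeff g = 0 := by rw [h]; simp
    rw [redG_coeff] at this
    exact (redFun_eq_zero_iff (ha g)).mp this
  · intro h
    ext g
    rw [redG_coeff]
    simp only [MonoidAlgebra.coeff_zero, Finsupp.coe_zero, Pi.zero_apply]
    exact (redFun_eq_zero_iff (ha g)).mpr (h g)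

/-- A fixed set-theoretic section of the residue map. -/
noncomputable def sec (c : ResField M) : AlgInt :=
  (Ideal.Quotient.mk_surjective (I := M) c).choose

theorem mkK_sec (c : ResField M) : mkK M (sec c) = c :=
  (Ideal.Quotient.mk_surjective (I := M) c).choose_spec

/-- The coefficientwise lift of an element of the residue group algebra. -/
noncomputable def liftG (x : MonoidAlgebra (ResField M) G) : MonoidAlgebra ℂ G :=
  ofFn (fun g => ((sec (x.coeff g) : AlgInt) : ℂ))

theorem liftG_mem (x : MonoidAlgebra (ResField M) G) : liftG x ∈ Isub G hmax.isPrime := by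
  intro g
  rw [liftG, fn_ofFn]
  exact memLocalRing_algInt hmax.isPrime _

theorem redG_liftG (x : MonoidAlgebra (ResField M) G) : redG M (liftG x) = x := by
  ext g
  have h := congrFun (fn_ofFn (fun g => ((sec (x.coeff g) : AlgInt) : ℂ))) g
  rw [redG_coeff]
  change redFun M (fn (liftG x) g) = _
  rw [liftG, h, redFun_algInt, mkK_sec]

theorem redG_surjective (x : MonoidAlgebra (ResField M) G) :
    ∃ a ∈ Isub G hmax.isPrime, redG M a = x :=
  ⟨liftG x, liftG_mem x, redG_liftG x⟩

theorem coeff_conj_of_central (x : MonoidAlgebra (ResField M) G) (hx : ∀ y, x * y = y * x)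
    (g h : G) : x.coeff (h * g * h⁻¹) = x.coeff g := by
  have h1 := hx (MonoidAlgebra.single h 1)
  have h2 : (x * MonoidAlgebra.single h 1).coeff (h * g) = x.coeff (h * g * h⁻¹) := by
    rw [MonoidAlgebra.coeff_mul_single_apply, mul_one]
  have h3 : (MonoidAlgebra.single h 1 * x).coeff (h * g) = x.coeff g := by
    rw [MonoidAlgebra.coeff_single_mul_apply, one_mul, inv_mul_cancel_left]
  rw [← h2, h1, h3]

theorem redG_surjective_central (x : MonoidAlgebra (ResField M) G) (hx : ∀ y, x * y = y * x) :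
    ∃ a ∈ Isub G hmax.isPrime, IsCentral a ∧ redG M a = x := by
  refine ⟨liftG x, liftG_mem x, ?_, redG_liftG x⟩
  unfold IsCentral
  rw [liftG, fn_ofFn]
  intro g h
  show ((sec (x.coeff (h * g * h⁻¹)) : AlgInt) : ℂ) = ((sec (x.coeff g) : AlgInt) : ℂ)
  rw [coeff_conj_of_central x hx g h]

end Cfsg.Agent.Lib.Helper75_BR_RED
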