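import Mathlib
import Cfsg.Agent.Lib.Helper75_BRDefs
import Cfsg.Agent.Lib.Helper75_BR_RED
import Cfsg.Agent.Lib.Helper78_CentralNilp
import Cfsg.Agent.Lib.Helper78_CharFacts

/-!
# S4607 market, package B2 (IDEM): the block idempotents `EB B` and `eB M B` (helper75)
-/

set_option autoImplicit false

namespace Cfsg.Agent.Lib.Helper75_BR_IDEM

open Cfsg Cfsg.Agent.Lib.Helper78_LocalRing Cfsg.Agent.Lib.Helper78_GroupRing
  Cfsg.Agent.Lib.Helper79_Residue Cfsg.Agent.Lib.Helper75_BRDefs
  Cfsg.Agent.Lib.Helper78_Osima Cfsg.Agent.Lib.Helper78_CharFacts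
  Cfsg.Agent.Lib.Helper75_BR_RED

universe u v w

variable {G : Type u} [Group G] [Fintype G] {M : Ideal AlgInt} [hmax : M.IsMaximal]

theorem EB_mem_Isub {B : Set (IrrCharacter G)} (hB : IsPBlock M B) :
    EB B ∈ Isub G hmax.isPrime := by
  intro g
  rw [EB, fn_ofFn]
  exact osima_block' hmax.isPrime hB g

theorem EB_isCentral (B : Set (IrrCharacter G)) : IsCentral (EB B) := by
  unfold IsCentral
  rw [EB, fn_ofFn]
  exact blockCoeff_isClassFunction B

open Classical in
theorem Om_EB (B : Set (IrrCharacter G)) (χ : IrrCharacter G) :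
    Om (χ : G → ℂ) (EB B) = if χ ∈ B then 1 else 0 := by
  unfold Om
  rw [EB, fn_ofFn, omega_blockCoeff charFacts B χ, Set.indicator_apply]

theorem EB_idem (B : Set (IrrCharacter G)) : EB B * EB B = EB B := by
  classical
  have hc := EB_isCentral B
  have hcc : IsCentral (EB B * EB B - EB B) := isCentral_sub (isCentral_mul hc hc) hc
  have h0 : fn (EB B * EB B - EB B) = 0 := by
    apply eq_zero_of_omega_eq_zero charFacts hcc
    intro χ
    show Om (χ : G → ℂ) (EB B * EB B - EB B) = 0
    rw [Om_sub, Om_mul χ.2 _ hc, Om_EB]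
    split_ifs <;> simp
  have h1 : EB B * EB B - EB B = 0 := by
    apply fn_injective
    rw [h0, fn_zero]
  exact sub_eq_zero.mp h1

theorem eB_idem {B : Set (IrrCharacter G)} (hB : IsPBlock M B) : IsIdempotentElem (eB M B) := by
  unfold IsIdempotentElem eB
  rw [← redG_mul (EB_mem_Isub hB) (EB_mem_Isub hB), EB_idem]

theorem eB_central {B : Set (IrrCharacter G)} (hB : IsPBlock M B)
    (x : MonoidAlgebra (ResField M) G) : eB M B * x = x * eB M B := by
  obtain ⟨a, ha, rfl⟩ := redG_surjective (M := M) x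
  unfold eB
  rw [← redG_mul (EB_mem_Isub hB) ha, ← redG_mul ha (EB_mem_Isub hB),
    commute_of_isCentral (EB_isCentral B) a]

end Cfsg.Agent.Lib.Helper75_BR_IDEM
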