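import Mathlib
import Cfsg.Agent.Lib.Helper75_BRDefs
import Cfsg.Agent.Lib.Helper75_BR_RED
import Cfsg.Agent.Lib.Helper75_BR_IDEM
import Cfsg.Agent.Lib.Helper78_CentralNilp
import Cfsg.Agent.Lib.Helper78_CharFacts

/-!
# S4607 market (architect helper75), package B5 (PRIM): the block idempotent `eB M B` of the residue group
algebra is primitive in the centre.

Lift a central idempotent `z = z ē` to a central `A = a₀ E` with local-integer coefficients; `A² - A` has
coefficients in the local ideal, so `ω_θ(A)` or `ω_θ(A) - 1` lies in the local ideal, uniformly for `θ ∈ B`;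
`Helper78_CentralNilp.central_nilpotent` applied to `A` resp. `E - A` gives `z = 0` resp. `z = ē`.
-/

set_option autoImplicit false

namespace Cfsg.Agent.Lib.Helper43_BR_B5PRIM

open Cfsg Cfsg.Agent.Lib.Helper78_LocalRing Cfsg.Agent.Lib.Helper78_GroupRing
  Cfsg.Agent.Lib.Helper79_Residue Cfsg.Agent.Lib.Helper75_BRDefs
  Cfsg.Agent.Lib.Helper78_Osima Cfsg.Agent.Lib.Helper78_CharFacts
  Cfsg.Agent.Lib.Helper75_BR_RED Cfsg.Agent.Lib.Helper75_BR_IDEM
  Cfsg.Agent.Lib.Helper78_CentralNilp Cfsg.Agent.Lib.Helper78_CentralChar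

universe u v w

variable {G : Type u} [Group G] [Fintype G] {M : Ideal AlgInt} [hmax : M.IsMaximal]

/-- a class function with values in the local ideal has central character values in the local ideal -/
theorem memLocalIdeal_Om {χ : G → ℂ} (hχ : IsIrrCharacter G χ) {a : MonoidAlgebra ℂ G}
    (hac : IsCentral a) (haZ : a ∈ Zsub G hmax.isPrime) : MemLocalIdeal M (Om χ a) := by
  classical
  have hM := hmax.isPrime
  unfold Om
  rw [omega_eq_sum_conjClasses (isIrrCharacter_isClassFunction hχ) hac]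
  refine memLocalIdeal_sum hM _ _ fun c _ => ?_
  refine memLocalIdeal_mul_right hM (haZ _) ?_
  have := memLocalRing_algInt hM (centralCharAlgInt ⟨χ, hχ⟩ c.out)
  simpa using this

theorem redG_pow {A : MonoidAlgebra ℂ G} (hAI : A ∈ Isub G hmax.isPrime) (n : ℕ) :
    redG M (A ^ n) = redG M A ^ n := by
  induction n with
  | zero => rw [pow_zero, pow_zero, redG_one]
  | succ n ih =>
    rw [pow_succ, pow_succ, redG_mul ((Isub G hmax.isPrime).pow_mem hAI n) hAI, ih]

theorem pow_succ_of_idem {R : Type*} [Monoid R] {z : R} (hz : z * z = z) (n : ℕ) :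
    z ^ (n + 1) = z := by
  induction n with
  | zero => rw [zero_add, pow_one]
  | succ n ih => rw [pow_succ, ih, hz]

/-- the key step: a central lift with idempotent reduction whose central character is in the local
ideal at one character of the block reduces to zero -/
theorem redG_eq_zero_of_Om {B : Set (IrrCharacter G)} (hB : IsPBlock M B)
    {A : MonoidAlgebra ℂ G} (hAc : IsCentral A) (hAI : A ∈ Isub G hmax.isPrime)
    (hAE : A * EB B = A) (hid : redG M A * redG M A = redG M A) {θ₀ : IrrCharacter G}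
    (hθ₀ : θ₀ ∈ B) (h0 : MemLocalIdeal M (Om (θ₀ : G → ℂ) A)) : redG M A = 0 := by
  have hM := hmax.isPrime
  have hω : ∀ θ ∈ B, MemLocalIdeal M (Om (θ : G → ℂ) A) := by
    intro θ hθ
    have h1 : MemLocalIdeal M (Om (θ : G → ℂ) A - Om (θ₀ : G → ℂ) A) :=
      memLocalIdeal_omega_sub hM (isIrrCharacter_isClassFunction θ.2)
        (isIrrCharacter_isClassFunction θ₀.2) (isPBlock_sameBlock hM hB hθ hθ₀) hAc hAI
    have h2 := memLocalIdeal_add hM h0 h1
    have e : Om (θ₀ : G → ℂ) A + (Om (θ : G → ℂ) A - Om (θ₀ : G → ℂ) A) = Om (θ : G → ℂ) A := by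
      ring
    rwa [e] at h2
  obtain ⟨n, hn⟩ := central_nilpotent hM hB hAc hAI hAE hω
  have h1 : A ^ (n + 1) ∈ Zsub G hM := by
    rw [pow_succ']
    exact Isub_mul_Zsub hM A hAI _ hn
  have h2 : redG M (A ^ (n + 1)) = 0 :=
    (redG_eq_zero_iff ((Isub G hM).pow_mem hAI (n + 1))).mpr h1
  rw [redG_pow hAI, pow_succ_of_idem hid] at h2
  exact h2

/-- **B5 (PRIM)**. The block idempotent is primitive in the centre. -/
theorem eB_primitive {B : Set (IrrCharacter G)} (hB : IsPBlock M B)
    (z : MonoidAlgebra (ResField M) G) (hzc : ∀ y, z * y = y * z) (hzz : z * z = z)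
    (hze : z * eB M B = z) : z = 0 ∨ z = eB M B := by
  have hM := hmax.isPrime
  obtain ⟨a₀, ha₀I, ha₀c, rfl⟩ := redG_surjective_central (M := M) z hzc
  have hEI : EB B ∈ Isub G hM := EB_mem_Isub hB
  have hEc : IsCentral (EB B) := EB_isCentral B
  set A : MonoidAlgebra ℂ G := a₀ * EB B with hA
  have hAI : A ∈ Isub G hM := (Isub G hM).mul_mem ha₀I hEI
  have hAc : IsCentral A := isCentral_mul ha₀c hEc
  have hAE : A * EB B = A := by rw [hA, mul_assoc, EB_idem]
  have hAz : redG M A = redG M a₀ := by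
    rw [hA, redG_mul ha₀I hEI]
    exact hze
  obtain ⟨θ₀, hθ₀⟩ := isPBlock_nonempty hM hB
  -- `A² - A` has coefficients in the local ideal
  have hDI : A * A - A ∈ Isub G hM := (Isub G hM).sub_mem ((Isub G hM).mul_mem hAI hAI) hAI
  have hDZ : A * A - A ∈ Zsub G hM := by
    rw [← redG_eq_zero_iff hDI, redG_sub ((Isub G hM).mul_mem hAI hAI) hAI, redG_mul hAI hAI, hAz,
      hzz, sub_self]
  have hDc : IsCentral (A * A - A) := isCentral_sub (isCentral_mul hAc hAc) hAc
  have hOmD := memLocalIdeal_Om (M := M) θ₀.2 hDc hDZ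
  rw [Om_sub, Om_mul θ₀.2 A hAc] at hOmD
  have hx : MemLocalRing M (Om (θ₀ : G → ℂ) A) := memLocalRing_omega hM θ₀.2 hAc hAI
  have hx1 : MemLocalRing M (Om (θ₀ : G → ℂ) A - 1) :=
    memLocalRing_sub hM hx (memLocalRing_one hM)
  have hprod : MemLocalIdeal M (Om (θ₀ : G → ℂ) A * (Om (θ₀ : G → ℂ) A - 1)) := by
    have e : Om (θ₀ : G → ℂ) A * (Om (θ₀ : G → ℂ) A - 1) =
        Om (θ₀ : G → ℂ) A * Om (θ₀ : G → ℂ) A - Om (θ₀ : G → ℂ) A := by ring
    rw [e]
    exact hOmD
  rcases (memLocalIdeal_mul_iff hM hx hx1).mp hprod with h0 | h1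
  · left
    rw [← hAz]
    exact redG_eq_zero_of_Om hB hAc hAI hAE (by rw [hAz, hzz]) hθ₀ h0
  · right
    -- apply the key step to `E - A`
    have hA'I : EB B - A ∈ Isub G hM := (Isub G hM).sub_mem hEI hAI
    have hA'c : IsCentral (EB B - A) := isCentral_sub hEc hAc
    have hA'E : (EB B - A) * EB B = EB B - A := by rw [sub_mul, EB_idem, hAE]
    have hred : redG M (EB B - A) = eB M B - redG M a₀ := by
      rw [redG_sub hEI hAI, hAz]
      rfl
    have hez : eB M B * redG M a₀ = redG M a₀ := by rw [eB_central hB, hze]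
    have hid : redG M (EB B - A) * redG M (EB B - A) = redG M (EB B - A) := by
      rw [hred, sub_mul, mul_sub, mul_sub, (eB_idem hB).eq, hez, hze, hzz]
      abel
    have hOm' : MemLocalIdeal M (Om (θ₀ : G → ℂ) (EB B - A)) := by
      classical
      rw [Om_sub, Om_EB, if_pos hθ₀]
      have := memLocalIdeal_neg h1
      rwa [neg_sub] at this
    have h := redG_eq_zero_of_Om hB hA'c hA'I hA'E hid hθ₀ hOm'
    rw [hred, sub_eq_zero] at h
    exact h.symm

end Cfsg.Agent.Lib.Helper43_BR_B5PRIM
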