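import Mathlib
import Cfsg.Agent.Lib.Helper72_CT_Certs
import Cfsg.Agent.Lib.Helper81_StTorus
import Cfsg.Agent.Lib.Helper18_ChevJCerts

/-!
# Curtis–Tits (S1164, helper72's market `ct_packages`), package COMMLIN (helper43)

A linear map `σ` of the roots carries the roots of the commutator formula of `(r, s)` into the rank two
subsystem `Φ_jk` when `σ r`, `σ s` lie there (`commTerms_mem`), and the commutator formula of `(r, s)` is
empty when `σ r = ±p_j`, `σ s = ±p_k` with `j`, `k` not joined (`commTerms_nil`).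
-/

set_option autoImplicit false

namespace Cfsg.Agent.Lib.Helper43_CT_COMMLIN

open Cfsg Cfsg.Lie Cfsg.Agent.Lib.Helper72_CT
  Cfsg.Agent.Lib.Helper18_ChevFast Cfsg.Agent.Lib.Helper18_ChevEngine
  Cfsg.Agent.Lib.Helper18_ChevR1 Cfsg.Agent.Lib.Helper18_ChevN Cfsg.Agent.Lib.Helper18_ChevR4
  Cfsg.Agent.Lib.Helper18_ChevSimple Cfsg.Agent.Lib.Helper18_ChevSimple2 Cfsg.Agent.Lib.Helper18_ChevFacts
  Cfsg.Agent.Lib.Helper18_ChevWeyl Cfsg.Agent.Lib.Helper18_ChevDiag Cfsg.Agent.Lib.Helper18_ChevCar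
  Cfsg.Agent.Lib.Helper18_ChevTorus Cfsg.Agent.Lib.Helper18_ChevGL Cfsg.Agent.Lib.Helper18_ChevComm
  Cfsg.Agent.Lib.Helper18_ChevComm2 Cfsg.Agent.Lib.Helper18_MatTri Cfsg.Agent.Lib.Helper18_ChevTri
  Cfsg.Agent.Lib.Helper18_ChevBorel Cfsg.Agent.Lib.Helper18_ChevAdd Cfsg.Agent.Lib.Helper18_ChevUni
  Cfsg.Agent.Lib.Helper18_ChevBN Cfsg.Agent.Lib.Helper18_ChevMono Cfsg.Agent.Lib.Helper18_ChevBNPair
  Cfsg.Agent.Lib.Helper18_ChevLevi Cfsg.Agent.Lib.Helper18_ChevSimp Cfsg.Agent.Lib.Helper18_ChevBruhat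
  Cfsg.Agent.Lib.Helper18_ChevJCerts

/-- `grF` only depends on the first `rank` weights -/
theorem grRoot_map_range (D : ChevalleyDatum) (w' : ℕ → ℤ) (s : ℕ) :
    grRoot D ((List.range D.rank).map w') s = grF D w' s := by
  unfold grRoot grF
  apply Finset.sum_congr rfl
  intro j hj
  have hj' : j < D.rank := Finset.mem_range.mp hj
  have e : ((List.range D.rank).map w').getD j 0 = w' j := by
    rw [List.getD_eq_getElem?_getD, List.getElem?_map, List.getElem?_range hj']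
    rfl
  rw [e]

/-- the key additivity: for a `LinMap` `σ` and every coefficient function `cf m`, the value at the image of a
root of the commutator formula is the expected combination -/
theorem cf_commTerms {D : ChevalleyDatum} {Ns : List NData} {wl : List ℤ} {ws : List (List ℤ)} {sc : ℤ}
    (c : DCert D Ns) (tc : TCert D) (ac : ACert D wl ws sc) {σ : ℕ → ℕ} (hσ : LinMap D σ) {r s : ℕ}
    (hr : r < D.nroots) (hs : s < D.nroots) {cc : ℕ × ℤ × ℕ × ℕ} (hc : cc ∈ D.commTerms r s) (m : ℕ) :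
    cc.1 < D.nroots ∧ 1 ≤ cc.2.2.1 ∧ 1 ≤ cc.2.2.2 ∧
      cf D ws m (σ cc.1) = (cc.2.2.1 : ℤ) * cf D ws m (σ r) + (cc.2.2.2 : ℤ) * cf D ws m (σ s) := by
  obtain ⟨w', hw'⟩ := hσ.2.2 (fun j => (ws.getD m []).getD j 0)
  have hg : IsGrading D (grRoot D ((List.range D.rank).map w')) := isGrading_w c tc _
  obtain ⟨h1, h2, h3, h4⟩ := commTerms_grading c.rows ac.in_range hg r s hr hs cc hc
  refine ⟨h1, h2, h3, ?_⟩
  rw [grRoot_map_range, grRoot_map_range, grRoot_map_range, ← hw' _ h1, ← hw' _ hr, ← hw' _ hs] at h4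
  exact h4

theorem commTerms_mem {D : ChevalleyDatum} {Ns : List NData} {wl : List ℤ} {ws : List (List ℤ)} {sc : ℤ}
    (c : DCert D Ns) (tc : TCert D) (ac : ACert D wl ws sc) {σ : ℕ → ℕ} (hσ : LinMap D σ) {j k r s : ℕ}
    (hr : r < D.nroots) (hs : s < D.nroots) (hσr : D.InRankTwoSub j k (σ r)) (hσs : D.InRankTwoSub j k (σ s))
    {cc : ℕ × ℤ × ℕ × ℕ} (hc : cc ∈ D.commTerms r s) : D.InRankTwoSub j k (σ cc.1) := by
  obtain ⟨hr1, hj, hk, hr2⟩ := hσr
  obtain ⟨hs1, -, -, hs2⟩ := hσs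
  have hc1 := (cf_commTerms c tc ac hσ hr hs hc 0).1
  refine ⟨hσ.1 _ hc1, hj, hk, ?_⟩
  intro m hm hmj hmk
  have h4 := (cf_commTerms c tc ac hσ hr hs hc m).2.2.2
  have e1 : cf D ws m (σ r) = 0 := (ac.cor_zero_iff _ hr1 m hm).1 (hr2 m hm hmj hmk)
  have e2 : cf D ws m (σ s) = 0 := (ac.cor_zero_iff _ hs1 m hm).1 (hs2 m hm hmj hmk)
  rw [e1, e2, mul_zero, mul_zero, add_zero] at h4
  exact (ac.cor_zero_iff _ (hσ.1 _ hc1) m hm).2 h4

/-- the coefficient of `±p_j` on `p_m` -/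
theorem cf_pm_simple {D : ChevalleyDatum} {Ns : List NData} {wl : List ℤ} {ws : List (List ℤ)} {sc : ℤ}
    (c : DCert D Ns) (tc : TCert D) (ac : ACert D wl ws sc) {j x : ℕ} (hj : j < D.rank)
    (hx : x = D.simple j ∨ x = D.neg (D.simple j)) (m : ℕ) (hm : m < D.rank) :
    (m ≠ j → cf D ws m x = 0) ∧ (cf D ws j x = sc ∨ cf D ws j x = -sc) := by
  have hp := (ac.simple j hj).1
  rcases hx with rfl | rfl
  · constructor
    · intro hmj
      rw [ac.cf_simple j hj m hm, if_neg hmj]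
    · left
      rw [ac.cf_simple j hj j hj, if_pos rfl]
  · constructor
    · intro hmj
      unfold cf
      rw [grRoot_neg c tc _ _ hp]
      have := ac.cf_simple j hj m hm
      unfold cf at this
      rw [this, if_neg hmj, neg_zero]
    · right
      unfold cf
      rw [grRoot_neg c tc _ _ hp]
      have := ac.cf_simple j hj j hj
      unfold cf at this
      rw [this, if_pos rfl]

theorem commTerms_nil {D : ChevalleyDatum} {Ns : List NData} {wl : List ℤ} {ws : List (List ℤ)} {sc : ℤ}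
    (c : DCert D Ns) (tc : TCert D) (ac : ACert D wl ws sc) (hnj : NJCert D) {σ : ℕ → ℕ} (hσ : LinMap D σ)
    {j k r s : ℕ} (hj : j < D.rank) (hk : k < D.rank) (hjk : j ≠ k) (h0 : D.cartan j (D.simple k) = 0)
    (hr : r < D.nroots) (hs : s < D.nroots)
    (hσr : σ r = D.simple j ∨ σ r = D.neg (D.simple j)) (hσs : σ s = D.simple k ∨ σ s = D.neg (D.simple k)) :
    D.commTerms r s = [] := by
  rw [List.eq_nil_iff_forall_not_mem]
  intro cc hc
  have hsc : sc ≠ 0 := ne_of_gt ac.sc_pos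
  -- `σ r`, `σ s` lie in `Φ_jk`
  have hmemr : D.InRankTwoSub j k (σ r) := by
    refine ⟨hσ.1 r hr, hj, hk, ?_⟩
    intro m hm hmj hmk
    exact (ac.cor_zero_iff _ (hσ.1 r hr) m hm).2 ((cf_pm_simple c tc ac hj hσr m hm).1 hmj)
  have hmems : D.InRankTwoSub j k (σ s) := by
    refine ⟨hσ.1 s hs, hj, hk, ?_⟩
    intro m hm hmj hmk
    exact (ac.cor_zero_iff _ (hσ.1 s hs) m hm).2 ((cf_pm_simple c tc ac hk hσs m hm).1 hmk)
  have hmem := commTerms_mem c tc ac hσ hr hs hmemr hmems hc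
  obtain ⟨hc1, hi1, hi2, -⟩ := cf_commTerms c tc ac hσ hr hs hc 0
  -- the coefficients of `σ cc.1` on `p_j` and on `p_k`
  have hcj := (cf_commTerms c tc ac hσ hr hs hc j).2.2.2
  have hck := (cf_commTerms c tc ac hσ hr hs hc k).2.2.2
  rw [(cf_pm_simple c tc ac hk hσs j hj).1 hjk, mul_zero, add_zero] at hcj
  rw [(cf_pm_simple c tc ac hj hσr k hk).1 hjk.symm, mul_zero, zero_add] at hck
  have hi1' : (cc.2.2.1 : ℤ) ≠ 0 := by
    have : (1 : ℤ) ≤ (cc.2.2.1 : ℤ) := by exact_mod_cast hi1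
    omega
  have hi2' : (cc.2.2.2 : ℤ) ≠ 0 := by
    have : (1 : ℤ) ≤ (cc.2.2.2 : ℤ) := by exact_mod_cast hi2
    omega
  have hnzj : cf D ws j (σ cc.1) ≠ 0 := by
    rw [hcj]
    rcases (cf_pm_simple c tc ac hj hσr j hj).2 with e | e
    · rw [e]; exact mul_ne_zero hi1' hsc
    · rw [e]; exact mul_ne_zero hi1' (neg_ne_zero.2 hsc)
  have hnzk : cf D ws k (σ cc.1) ≠ 0 := by
    rw [hck]
    rcases (cf_pm_simple c tc ac hk hσs k hk).2 with e | e
    · rw [e]; exact mul_ne_zero hi2' hsc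
    · rw [e]; exact mul_ne_zero hi2' (neg_ne_zero.2 hsc)
  -- but `σ cc.1` is one of `±p_j`, `±p_k`
  rcases (hnj.spec hj hk hjk h0).2.1 _ hmem with e | e | e | e
  · exact hnzk ((cf_pm_simple c tc ac hj (Or.inl e) k hk).1 hjk.symm)
  · exact hnzk ((cf_pm_simple c tc ac hj (Or.inr e) k hk).1 hjk.symm)
  · exact hnzj ((cf_pm_simple c tc ac hk (Or.inl e) j hj).1 hjk)
  · exact hnzj ((cf_pm_simple c tc ac hk (Or.inr e) j hj).1 hjk)

end Cfsg.Agent.Lib.Helper43_CT_COMMLIN
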