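import Cfsg.Agent.Lib.Helper43_Jordan3

set_option autoImplicit false

/-!
In characteristic two every unipotent isometry of an alternating bilinear form preserves a
quadratic form with that polar form.
-/

namespace Cfsg.Agent.Lib.Helper43_Char2Quad

open Module
open Cfsg.Agent.Lib.Helper43_Jordan

universe u

section ext

variable {F : Type*} [Field F] {V : Type*} [AddCommGroup V] [Module F V]

/-- quadratic forms with the same polar form that agree on a basis are equal -/
theorem quad_ext {κ : Type*} (b : Basis κ F V) (Q₁ Q₂ : QuadraticForm F V)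
    (hpol : ∀ x y, QuadraticMap.polar Q₁ x y = QuadraticMap.polar Q₂ x y)
    (hb : ∀ i, Q₁ (b i) = Q₂ (b i)) : Q₁ = Q₂ := by
  ext x
  have hx : x ∈ Submodule.span F (Set.range b) := by
    rw [b.span_eq]
    trivial
  induction hx using Submodule.span_induction with
  | mem x hx =>
    obtain ⟨i, rfl⟩ := hx
    exact hb i
  | zero => rw [map_zero, map_zero]
  | add x y _ _ hx hy =>
    rw [QuadraticMap.map_add Q₁, QuadraticMap.map_add Q₂, hx, hy, hpol]
  | smul a x _ hx =>
    rw [QuadraticMap.map_smul, QuadraticMap.map_smul, hx]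

end ext

section char2

variable {F V : Type u} [Field F] [CharP F 2] [AddCommGroup V] [Module F V]
  [FiniteDimensional F V]

theorem exists_quadratic (ω : LinearMap.BilinForm F V) (halt : ω.IsAlt) (g : End F V)
    (hiso : ∀ x y, ω (g x) (g y) = ω x y) (hnil : IsNilpotent (g - 1)) :
    ∃ Q : QuadraticForm F V, QuadraticMap.polarBilin Q = ω ∧ ∀ x, Q (g x) = Q x := by
  classical
  obtain ⟨ι, hι, d, b, hd, hb⟩ := exists_chainBasis (g - 1) hnil
  have hsymm : ∀ x y, ω x y = ω y x := by
    intro x y
    rw [← halt.neg_eq y x, CharTwo.neg_eq]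
  let σ := Fintype.equivFin (Σ i, Fin (d i))
  let b' : Basis (Fin (Fintype.card (Σ i, Fin (d i)))) F V := b.reindex σ
  have hb' : ∀ x, b' (σ x) = b x := by
    intro x
    rw [Basis.reindex_apply, Equiv.symm_apply_apply]
  let q : (Σ i, Fin (d i)) → F := fun x =>
    if h : 1 ≤ x.2.1 then ω (b ⟨x.1, ⟨x.2.1 - 1, by have := x.2.2; omega⟩⟩) (b x) else 0
  let M' : Matrix (Fin (Fintype.card (Σ i, Fin (d i)))) (Fin (Fintype.card (Σ i, Fin (d i)))) F :=
    Matrix.of fun a c => if a < c then ω (b' a) (b' c) else if a = c then q (σ.symm a) else 0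
  let B' : LinearMap.BilinForm F V := Matrix.toBilin b' M'
  have hB' : ∀ a c, B' (b' a) (b' c) = M' a c := by
    intro a c
    rw [← LinearMap.BilinForm.toMatrix_apply b' B', LinearMap.BilinForm.toMatrix_toBilin]
  let Q : QuadraticForm F V := LinearMap.BilinMap.toQuadraticMap B'
  have hpolar : QuadraticMap.polarBilin Q = ω := by
    rw [LinearMap.BilinMap.polarBilin_toQuadraticMap]
    apply LinearMap.BilinForm.ext_basis b'
    intro a c
    rw [LinearMap.add_apply, LinearMap.add_apply, LinearMap.flip_apply, hB', hB']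
    simp only [M', Matrix.of_apply]
    rcases lt_trichotomy a c with hlt | heq | hgt
    · rw [if_pos hlt, if_neg (not_lt_of_gt hlt), if_neg (ne_of_gt hlt), add_zero]
    · subst heq
      rw [if_neg (lt_irrefl a), if_pos rfl, CharTwo.add_self_eq_zero, halt]
    · rw [if_neg (not_lt_of_gt hgt), if_neg (ne_of_gt hgt), if_pos hgt, zero_add]
      exact hsymm _ _
  have hQb : ∀ x, Q (b x) = q x := by
    intro x
    show B' (b x) (b x) = q x
    rw [← hb' x, hB']
    simp only [M', Matrix.of_apply]
    rw [if_neg (lt_irrefl _), if_pos trivial, Equiv.symm_apply_apply]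
  have hpol : ∀ x y, QuadraticMap.polar Q x y = ω x y := by
    intro x y
    rw [← hpolar]
    rfl
  refine ⟨Q, hpolar, ?_⟩
  have key : Q.comp g = Q := by
    apply quad_ext b
    · intro x y
      rw [hpol]
      have h1 : QuadraticMap.polar (Q.comp g) x y = QuadraticMap.polar Q (g x) (g y) := by
        unfold QuadraticMap.polar
        rw [QuadraticMap.comp_apply, QuadraticMap.comp_apply, QuadraticMap.comp_apply, map_add]
      rw [h1, hpol, hiso]
    · rintro ⟨i, l⟩
      rw [QuadraticMap.comp_apply]
      have hg : g (b ⟨i, l⟩) = b ⟨i, l⟩ + (g - 1) (b ⟨i, l⟩) := by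
        rw [LinearMap.sub_apply, Module.End.one_apply]
        abel
      rw [hg, hb i l]
      by_cases h : l.1 + 1 < d i
      · rw [dif_pos h, QuadraticMap.map_add (⇑Q), hpol, hQb ⟨i, ⟨l.1 + 1, h⟩⟩]
        have hq : q ⟨i, ⟨l.1 + 1, h⟩⟩ = ω (b ⟨i, l⟩) (b ⟨i, ⟨l.1 + 1, h⟩⟩) := by
          simp only [q]
          rw [dif_pos (by omega)]
          congr 3
        rw [hq, add_assoc, CharTwo.add_self_eq_zero, add_zero]
      · rw [dif_neg h, add_zero]
  intro x
  have := congrArg (fun Q' : QuadraticForm F V => Q' x) key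
  exact this

end char2

end Cfsg.Agent.Lib.Helper43_Char2Quad
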