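import Mathlib

set_option autoImplicit false

/-!
Character sums of quadratic forms over the field of two elements and totally singular subspaces.
-/

namespace Cfsg.Agent.Lib.Helper43_CharSumF2

/-- the sign character of `ZMod 2` -/
def chi (x : ZMod 2) : ℤ := if x = 0 then 1 else -1

theorem chi_add (x y : ZMod 2) : chi (x + y) = chi x * chi y := by
  revert x y; decide

theorem chi_zero : chi 0 = 1 := rfl

theorem chi_one : chi 1 = -1 := rfl

theorem chi_le_one (x : ZMod 2) : chi x ≤ 1 := by
  revert x; decide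

theorem neg_one_le_chi (x : ZMod 2) : -1 ≤ chi x := by
  revert x; decide

theorem zmod2_eq_one_of_ne_zero {x : ZMod 2} (h : x ≠ 0) : x = 1 := by
  revert x; decide

/-- a non-trivial additive character sums to zero -/
theorem sum_chi_eq_zero {G : Type*} [AddGroup G] [Fintype G] (φ : G → ZMod 2)
    (hadd : ∀ u v, φ (u + v) = φ u + φ v) (u₀ : G) (hu₀ : φ u₀ = 1) :
    ∑ u, chi (φ u) = 0 := by
  have h1 : ∑ u, chi (φ u) = ∑ u, chi (φ (u + u₀)) :=
    (Fintype.sum_equiv (Equiv.addRight u₀) _ _ (fun u => rfl)).symm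
  have h2 : ∑ u, chi (φ (u + u₀)) = - ∑ u, chi (φ u) := by
    rw [← Finset.sum_neg_distrib]
    apply Finset.sum_congr rfl
    intro u _
    rw [hadd, chi_add, hu₀, chi_one]; ring
  rw [h2] at h1
  omega

open Classical in
theorem sum_chi {G : Type*} [AddGroup G] [Fintype G] (φ : G → ZMod 2)
    (hadd : ∀ u v, φ (u + v) = φ u + φ v) :
    ∑ u, chi (φ u) = if ∀ g, φ g = 0 then (Fintype.card G : ℤ) else 0 := by
  split_ifs with h
  · simp only [h, chi_zero, Finset.sum_const, Finset.card_univ, nsmul_eq_mul, mul_one]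
  · push Not at h
    obtain ⟨g₀, hg₀⟩ := h
    exact sum_chi_eq_zero φ hadd g₀ (zmod2_eq_one_of_ne_zero hg₀)

section main

variable {V : Type*} [AddCommGroup V] [Module (ZMod 2) V] [Fintype V]
variable (Q : V → ZMod 2) (B : V → V → ZMod 2)

open Classical in
/-- the vectors orthogonal to a subspace -/
noncomputable def perp (U : Submodule (ZMod 2) V) : Finset V :=
  Finset.univ.filter (fun v => ∀ u ∈ U, B v u = 0)

variable (hQ : ∀ u v, Q (u + v) = Q u + Q v + B u v)
  (hBl : ∀ u u' v, B (u + u') v = B u v + B u' v)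
  (hBr : ∀ u v v', B u (v + v') = B u v + B u v')
  (hnd : ∀ s, s ≠ 0 → ∃ u, B u s = 1)
  (U : Submodule (ZMod 2) V)

include hBr in
open Classical in
theorem inner_sum (v : V) [Fintype U] :
    ∑ u : U, chi (B v u) = if v ∈ perp B U then (Fintype.card U : ℤ) else 0 := by
  rw [sum_chi (fun u : U => B v u) (fun u u' => hBr v u u')]
  have : (∀ g : U, B v g = 0) ↔ v ∈ perp B U := by
    rw [perp, Finset.mem_filter]
    constructor
    · intro h
      exact ⟨Finset.mem_univ _, fun u hu => h ⟨u, hu⟩⟩
    · intro h g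
      exact h.2 g.1 g.2
  simp only [this]

omit [AddCommGroup V] [Module (ZMod 2) V] in
open Classical in
theorem sum_ite_mem_const (S : Finset V) (c : ℤ) :
    ∑ v : V, (if v ∈ S then c else 0) = (S.card : ℤ) * c := by
  rw [Finset.sum_ite_mem, Finset.univ_inter, Finset.sum_const, nsmul_eq_mul]

include hBl hBr hnd in
open Classical in
theorem card_perp_mul [Fintype U] :
    ((perp B U).card : ℤ) * (Fintype.card U : ℤ) = (Fintype.card V : ℤ) := by
  have h1 : ∑ v : V, ∑ u : U, chi (B v u) = ((perp B U).card : ℤ) * (Fintype.card U : ℤ) := by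
    simp only [inner_sum B hBr U]
    exact sum_ite_mem_const _ _
  have h2 : ∑ v : V, ∑ u : U, chi (B v u) = (Fintype.card V : ℤ) := by
    rw [Finset.sum_comm]
    have h3 : ∀ u : U, ∑ v : V, chi (B v u) = if u = 0 then (Fintype.card V : ℤ) else 0 := by
      intro u
      rw [sum_chi (fun v : V => B v u) (fun v v' => hBl v v' u)]
      have : (∀ g : V, B g u = 0) ↔ u = 0 := by
        constructor
        · intro h
          by_contra hu
          have hu' : (u : V) ≠ 0 := fun h0 => hu (Subtype.ext h0)
          obtain ⟨w, hw⟩ := hnd u hu'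
          rw [h w] at hw
          exact zero_ne_one hw
        · intro h g
          rw [h]
          have := hBr g 0 0
          rw [add_zero] at this
          have h4 : B g 0 + B g 0 = B g 0 + 0 := by rw [add_zero]; exact this.symm
          exact add_left_cancel h4
      simp only [this]
    simp only [h3]
    rw [Finset.sum_ite_eq' Finset.univ (0 : U)]
    simp
  rw [← h1, h2]

include hQ hBr in
open Classical in
theorem sum_chi_Q_eq (hU : ∀ u ∈ U, Q u = 0) :
    ∑ v : V, chi (Q v) = ∑ v ∈ perp B U, chi (Q v) := by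
  have : Fintype U := Fintype.ofFinite U
  have hpos : (0 : ℤ) < Fintype.card U := by
    have : 0 < Fintype.card U := Fintype.card_pos
    exact_mod_cast this
  have h1 : ∑ v : V, ∑ u : U, chi (Q (v + u)) = (Fintype.card U : ℤ) * ∑ v : V, chi (Q v) := by
    rw [Finset.sum_comm]
    have : ∀ u : U, ∑ v : V, chi (Q (v + u)) = ∑ v : V, chi (Q v) := fun u =>
      Fintype.sum_equiv (Equiv.addRight (u : V)) _ _ (fun v => rfl)
    simp only [this, Finset.sum_const, Finset.card_univ, nsmul_eq_mul]
  have h2 : ∑ v : V, ∑ u : U, chi (Q (v + u)) =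
      (Fintype.card U : ℤ) * ∑ v ∈ perp B U, chi (Q v) := by
    have : ∀ v : V, ∑ u : U, chi (Q (v + u)) =
        chi (Q v) * (if v ∈ perp B U then (Fintype.card U : ℤ) else 0) := by
      intro v
      rw [← inner_sum B hBr U v, Finset.mul_sum]
      apply Finset.sum_congr rfl
      intro u _
      rw [hQ, hU u u.2, add_zero, chi_add]
    simp only [this, mul_ite, mul_zero]
    rw [Finset.sum_ite_mem, Finset.univ_inter, Finset.mul_sum]
    apply Finset.sum_congr rfl
    intro v _
    ring
  rw [h1] at h2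
  exact mul_left_cancel₀ (ne_of_gt hpos) h2

include hQ in
open Classical in
theorem subset_perp (hU : ∀ u ∈ U, Q u = 0) : Finset.univ.filter (fun v => v ∈ U) ⊆ perp B U := by
  intro v hv
  rw [Finset.mem_filter] at hv
  rw [perp, Finset.mem_filter]
  refine ⟨Finset.mem_univ _, fun u hu => ?_⟩
  have := hQ v u
  rw [hU v hv.2, hU u hu, hU (v + u) (U.add_mem hv.2 hu), add_zero, zero_add] at this
  exact this.symm

include hQ hBl hBr hnd in
open Classical in
/-- a totally singular subspace has at most `sqrt |V|` elements -/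
theorem card_sq_le (hU : ∀ u ∈ U, Q u = 0) : Nat.card U * Nat.card U ≤ Fintype.card V := by
  have : Fintype U := Fintype.ofFinite U
  have h1 := card_perp_mul B hBl hBr hnd U
  have h2 := Finset.card_le_card (subset_perp Q B hQ U hU)
  have h3 : (Finset.univ.filter (fun v => v ∈ U)).card = Fintype.card U :=
    (Fintype.card_subtype _).symm
  rw [h3] at h2
  rw [Nat.card_eq_fintype_card]
  have h4 : (Fintype.card U : ℤ) * (Fintype.card U : ℤ) ≤ (Fintype.card V : ℤ) := by
    rw [← h1]
    apply mul_le_mul_of_nonneg_right _ (by positivity)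
    exact_mod_cast h2
  exact_mod_cast h4

include hQ hBl hBr hnd in
open Classical in
/-- lower bound for the character sum in terms of a totally singular subspace -/
theorem sum_mul_card_ge (hU : ∀ u ∈ U, Q u = 0) :
    2 * (Nat.card U : ℤ) * (Nat.card U : ℤ) - (Fintype.card V : ℤ) ≤
      (∑ v : V, chi (Q v)) * (Nat.card U : ℤ) := by
  have : Fintype U := Fintype.ofFinite U
  have h1 := card_perp_mul B hBl hBr hnd U
  have hsub := subset_perp Q B hQ U hU
  have h3 : (Finset.univ.filter (fun v => v ∈ U)).card = Fintype.card U :=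
    (Fintype.card_subtype _).symm
  rw [Nat.card_eq_fintype_card, sum_chi_Q_eq Q B hQ hBr U hU]
  have h4 : ∑ v ∈ perp B U, chi (Q v) =
      ∑ v ∈ Finset.univ.filter (fun v => v ∈ U), chi (Q v) +
        ∑ v ∈ perp B U \ Finset.univ.filter (fun v => v ∈ U), chi (Q v) := by
    rw [add_comm]
    exact (Finset.sum_sdiff hsub).symm
  have h5 : ∑ v ∈ Finset.univ.filter (fun v => v ∈ U), chi (Q v) = (Fintype.card U : ℤ) := by
    rw [← h3]
    have h8 : ∀ v ∈ Finset.univ.filter (fun v => v ∈ U), chi (Q v) = 1 := by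
      intro v hv
      rw [Finset.mem_filter] at hv
      rw [hU v hv.2, chi_zero]
    rw [Finset.sum_congr rfl h8, Finset.sum_const, nsmul_eq_mul, mul_one]
  have h6 : -(((perp B U).card : ℤ) - (Fintype.card U : ℤ)) ≤
      ∑ v ∈ perp B U \ Finset.univ.filter (fun v => v ∈ U), chi (Q v) := by
    have h7 : ∑ _v ∈ perp B U \ Finset.univ.filter (fun v => v ∈ U), (-1 : ℤ) ≤
        ∑ v ∈ perp B U \ Finset.univ.filter (fun v => v ∈ U), chi (Q v) :=
      Finset.sum_le_sum (fun v _ => neg_one_le_chi _)
    rw [Finset.sum_const, Finset.card_sdiff_of_subset hsub, h3, nsmul_eq_mul, mul_neg, mul_one,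
      Nat.cast_sub (by rw [← h3]; exact Finset.card_le_card hsub)] at h7
    exact h7
  rw [h4, h5]
  have hpos : (0 : ℤ) ≤ Fintype.card U := by positivity
  nlinarith [mul_le_mul_of_nonneg_right h6 hpos]

end main

end Cfsg.Agent.Lib.Helper43_CharSumF2
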