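import Mathlib

set_option autoImplicit false

/-!
Concrete form of the structure theorem for a single endomorphism `T` of a finite-dimensional space:
there are finitely many vectors `v i` and non-zero polynomials `f i` such that
`g ↦ ∑ i, (g i)(T) (v i)` is onto, and vanishes exactly when `f i ∣ g i` for all `i`.
-/

namespace Cfsg.Agent.Lib.Helper43_CyclicDecomp

open Polynomial DirectSum

universe u

variable {F : Type u} {V : Type u} [Field F] [AddCommGroup V] [Module F V] [FiniteDimensional F V]

theorem isTorsion_aeval (T : Module.End F V) : Module.IsTorsion F[X] (Module.AEval' T) := by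
  intro x
  refine ⟨⟨T.charpoly, ?_⟩, ?_⟩
  · exact mem_nonZeroDivisors_of_ne_zero (LinearMap.charpoly_monic T).ne_zero
  · show T.charpoly • x = 0
    obtain ⟨m, rfl⟩ := (Module.AEval'.of T).surjective x
    rw [← Module.AEval.of_aeval_smul, LinearMap.aeval_self_charpoly]
    simp

theorem exists_cyclic_decomposition (T : Module.End F V) :
    ∃ (ι : Type u) (_ : Fintype ι) (f : ι → F[X]) (v : ι → V), (∀ i, f i ≠ 0) ∧
      (∀ i, aeval T (f i) (v i) = 0) ∧
      (∀ w : V, ∃ g : ι → F[X], ∑ i, aeval T (g i) (v i) = w) ∧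
      (∀ g : ι → F[X], (∑ i, aeval T (g i) (v i)) = 0 → ∀ i, f i ∣ g i) := by
  classical
  obtain ⟨ι, hι, p, hp, e, ⟨φ⟩⟩ := Module.equiv_directSum_of_isTorsion (isTorsion_aeval T)
  let ψ : Module.AEval' T ≃ₗ[F[X]] (∀ i : ι, F[X] ⧸ F[X] ∙ p i ^ e i) :=
    φ ≪≫ₗ DirectSum.linearEquivFunOnFintype F[X] ι (fun i => F[X] ⧸ F[X] ∙ p i ^ e i)
  let o : V ≃ₗ[F] Module.AEval' T := Module.AEval'.of T
  let v : ι → V := fun i => o.symm (ψ.symm (Pi.single i (Submodule.Quotient.mk 1)))
  have hkey : ∀ g : ι → F[X], o (∑ i, aeval T (g i) (v i)) =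
      ψ.symm (fun i => (Submodule.Quotient.mk (g i) : F[X] ⧸ F[X] ∙ p i ^ e i)) := by
    intro g
    have h1 : (fun i => (Submodule.Quotient.mk (g i) : F[X] ⧸ F[X] ∙ p i ^ e i)) =
        ∑ i, g i • (Pi.single i (Submodule.Quotient.mk 1) : ∀ i : ι, F[X] ⧸ F[X] ∙ p i ^ e i) := by
      ext j
      rw [Finset.sum_apply]
      simp only [Pi.smul_apply]
      rw [Finset.sum_eq_single j]
      · rw [Pi.single_eq_same, ← Submodule.Quotient.mk_smul, smul_eq_mul, mul_one]
      · intro b _ hb
        rw [Pi.single_eq_of_ne' hb, smul_zero]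
      · intro h; exact absurd (Finset.mem_univ j) h
    rw [h1, map_sum, map_sum]
    apply Finset.sum_congr rfl
    intro i _
    rw [map_smul]
    show o (aeval T (g i) (v i)) = g i • ψ.symm (Pi.single i (Submodule.Quotient.mk 1))
    have : ψ.symm (Pi.single i (Submodule.Quotient.mk 1)) = o (v i) := by
      simp only [v, LinearEquiv.apply_symm_apply]
    rw [this]
    rfl
  refine ⟨ι, hι, fun i => p i ^ e i, v, fun i => pow_ne_zero _ (hp i).ne_zero, ?_, ?_, ?_⟩
  · intro i
    have h := hkey (Pi.single i (p i ^ e i))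
    have h0 : (fun j => (Submodule.Quotient.mk ((Pi.single i (p i ^ e i) : ι → F[X]) j) :
        F[X] ⧸ F[X] ∙ p j ^ e j)) = 0 := by
      ext j
      by_cases hj : j = i
      · subst hj
        rw [Pi.single_eq_same]
        simp only [Pi.zero_apply]
        rw [Submodule.Quotient.mk_eq_zero]
        exact Submodule.mem_span_singleton_self _
      · rw [Pi.single_eq_of_ne hj]
        simp
    rw [h0, map_zero] at h
    have h2 : ∑ j, aeval T ((Pi.single i (p i ^ e i) : ι → F[X]) j) (v j) = aeval T (p i ^ e i) (v i) := by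
      rw [Finset.sum_eq_single i]
      · rw [Pi.single_eq_same]
      · intro b _ hb
        rw [Pi.single_eq_of_ne hb, map_zero, LinearMap.zero_apply]
      · intro h; exact absurd (Finset.mem_univ i) h
    rw [h2] at h
    exact o.map_eq_zero_iff.mp h
  · intro w
    have hsurj : ∀ i, ∃ gi : F[X], (Submodule.Quotient.mk gi : F[X] ⧸ F[X] ∙ p i ^ e i) = ψ (o w) i :=
      fun i => Submodule.Quotient.mk_surjective _ _
    choose g hg using hsurj
    refine ⟨g, ?_⟩
    apply o.injective
    rw [hkey]
    have : (fun i => (Submodule.Quotient.mk (g i) : F[X] ⧸ F[X] ∙ p i ^ e i)) = ψ (o w) := by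
      ext i; exact hg i
    rw [this, LinearEquiv.symm_apply_apply]
  · intro g hg i
    have h := hkey g
    rw [hg, map_zero] at h
    have h2 := ψ.symm.map_eq_zero_iff.mp h.symm
    have h3 := congrFun h2 i
    simp only [Pi.zero_apply] at h3
    rw [Submodule.Quotient.mk_eq_zero] at h3
    exact Ideal.mem_span_singleton.mp h3

end Cfsg.Agent.Lib.Helper43_CyclicDecomp
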