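import Mathlib
import Cfsg.Prelude.Def_Characters
import Cfsg.Agent.Lib.Helper80_CharBasic
import Cfsg.Agent.Lib.Helper62_D72Defs

/-!
# S3716 package CENT (helper62's market `d72_packages`): the centralizer orders
`|C(x)| = |C(x y)| = 18` in the `Hyp` configuration (`N_G(M) = 3² : D₈` of order 72).

`M ≤ C(t) ≤ N` (`loc`), so `|C(t)| ∈ {9, 18, 36, 72}`; `s ∈ C(x) ∖ M` resp. `w ∈ C(x y) ∖ M` rules out 9,
and `(w s)²` inverts `M`, so it is a square of `N` outside `C(t)`: this rules out 72 and 36 (index 2).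
-/

set_option autoImplicit false

namespace Cfsg.Agent.Lib.Helper43_D72_CENT

open Cfsg Cfsg.Agent.Lib.Helper80_CharBasic Cfsg.Agent.Lib.Helper62_D72Defs

variable {G : Type*} [Group G]
variable {M : Subgroup G} {x y s w : G}

theorem inv_ne_self_of_orderOf_three {g : G} (hg : orderOf g = 3) : g⁻¹ ≠ g := by
  intro h
  have h2 : g ^ 2 = 1 := by
    rw [pow_two]
    calc g * g = g * g⁻¹ := by rw [h]
      _ = 1 := mul_inv_cancel g
  have := orderOf_dvd_of_pow_eq_one h2
  rw [hg] at this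
  omega

theorem ne_one_of_orderOf_three {g : G} (hg : orderOf g = 3) : g ≠ 1 := by
  intro h
  rw [h, orderOf_one] at hg
  omega

/-- every element of `M` commutes with `x` and with `y` -/
theorem commute_of_mem (h : Hyp G M x y s w) {t : G} (ht : t ∈ M) :
    Commute x t ∧ Commute y t := by
  have cxy : Commute x y := h.comm
  have cyx : Commute y x := cxy.symm
  have hx := Commute.refl x
  have hy := Commute.refl y
  rcases (h.mem t).1 ht with rfl | rfl | rfl | rfl | rfl | rfl | rfl | rfl | rfl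
  · exact ⟨Commute.one_right x, Commute.one_right y⟩
  · exact ⟨hx, cyx⟩
  · exact ⟨hx.inv_right, cyx.inv_right⟩
  · exact ⟨cxy, hy⟩
  · exact ⟨cxy.inv_right, hy.inv_right⟩
  · exact ⟨hx.mul_right cxy, cyx.mul_right hy⟩
  · exact ⟨hx.mul_right cxy.inv_right, cyx.mul_right hy.inv_right⟩
  · exact ⟨hx.inv_right.mul_right cxy, cyx.inv_right.mul_right hy⟩
  · exact ⟨hx.inv_right.mul_right cxy.inv_right, cyx.inv_right.mul_right hy.inv_right⟩

theorem x_mem (h : Hyp G M x y s w) : x ∈ M := (h.mem x).2 (Or.inr (Or.inl rfl))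

theorem y_mem (h : Hyp G M x y s w) : y ∈ M :=
  (h.mem y).2 (Or.inr (Or.inr (Or.inr (Or.inl rfl))))

theorem xy_mem (h : Hyp G M x y s w) : x * y ∈ M :=
  (h.mem (x * y)).2 (Or.inr (Or.inr (Or.inr (Or.inr (Or.inr (Or.inl rfl))))))

theorem xy_ne_one (h : Hyp G M x y s w) : x * y ≠ 1 := by
  intro hxy
  exact h.hne' (eq_inv_of_mul_eq_one_right hxy)

theorem xy_pow_three (h : Hyp G M x y s w) : (x * y) ^ 3 = 1 := by
  have cxy : Commute x y := h.comm
  rw [cxy.mul_pow, ← h.ox, pow_orderOf_eq_one, h.ox, ← h.oy, pow_orderOf_eq_one, one_mul]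

theorem xy_inv_ne (h : Hyp G M x y s w) : (x * y)⁻¹ ≠ x * y := by
  intro hinv
  have h2 : (x * y) ^ 2 = 1 := by
    rw [pow_two]
    calc (x * y) * (x * y) = (x * y) * (x * y)⁻¹ := by rw [hinv]
      _ = 1 := mul_inv_cancel _
  have h3 := xy_pow_three h
  have : x * y = 1 := by
    calc x * y = (x * y) ^ 3 * ((x * y) ^ 2)⁻¹ := by group
      _ = 1 := by rw [h2, h3]; simp
  exact xy_ne_one h this

theorem mem_cent_singleton {g n : G} :
    n ∈ Subgroup.centralizer ({g} : Set G) ↔ n * g * n⁻¹ = g := by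
  rw [Subgroup.mem_centralizer_iff]
  constructor
  · intro hn
    have := hn g (Set.mem_singleton g)
    rw [← this, mul_inv_cancel_right]
  · intro hn z hz
    rw [Set.mem_singleton_iff] at hz
    subst hz
    calc z * n = (n * z * n⁻¹) * n := by rw [hn]
      _ = n * z := by group

theorem le_cent_x (h : Hyp G M x y s w) : M ≤ Subgroup.centralizer ({x} : Set G) := by
  intro t ht
  rw [Subgroup.mem_centralizer_iff]
  intro z hz
  rw [Set.mem_singleton_iff] at hz
  subst hz
  exact (commute_of_mem h ht).1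

theorem le_cent_xy (h : Hyp G M x y s w) : M ≤ Subgroup.centralizer ({x * y} : Set G) := by
  intro t ht
  rw [Subgroup.mem_centralizer_iff]
  intro z hz
  rw [Set.mem_singleton_iff] at hz
  subst hz
  obtain ⟨h1, h2⟩ := commute_of_mem h ht
  exact (h1.mul_left h2).eq

/-- `s ∉ M` (it inverts `y`) -/
theorem s_not_mem (h : Hyp G M x y s w) : s ∉ M := by
  intro hs
  have h2 := (commute_of_mem h hs).2
  have : s * y * s⁻¹ = y := by
    rw [← h2.eq, mul_inv_cancel_right]
  rw [h.sy] at this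
  exact inv_ne_self_of_orderOf_three h.oy this

/-- `w ∉ M` (it moves `x` to `y`) -/
theorem w_not_mem (h : Hyp G M x y s w) : w ∉ M := by
  intro hw
  have h1 := (commute_of_mem h hw).1
  have : w * x * w⁻¹ = x := by
    rw [← h1.eq, mul_inv_cancel_right]
  rw [h.wx] at this
  exact h.hne this

/-- `(w s)²` inverts `x` -/
theorem sq_conj_x (h : Hyp G M x y s w) :
    (w * s * (w * s)) * x * (w * s * (w * s))⁻¹ = x⁻¹ := by
  have h1 : (w * s) * x * (w * s)⁻¹ = y := by
    calc (w * s) * x * (w * s)⁻¹ = w * (s * x * s⁻¹) * w⁻¹ := by group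
      _ = y := by rw [h.sx, h.wx]
  have h2 : (w * s) * y * (w * s)⁻¹ = x⁻¹ := by
    calc (w * s) * y * (w * s)⁻¹ = w * (s * y * s⁻¹) * w⁻¹ := by group
      _ = (w * y * w⁻¹)⁻¹ := by rw [h.sy]; group
      _ = x⁻¹ := by rw [h.wy]
  calc (w * s * (w * s)) * x * (w * s * (w * s))⁻¹
      = (w * s) * ((w * s) * x * (w * s)⁻¹) * (w * s)⁻¹ := by group
    _ = x⁻¹ := by rw [h1, h2]

/-- `(w s)²` inverts `y` -/
theorem sq_conj_y (h : Hyp G M x y s w) :
    (w * s * (w * s)) * y * (w * s * (w * s))⁻¹ = y⁻¹ := by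
  have h1 : (w * s) * x * (w * s)⁻¹ = y := by
    calc (w * s) * x * (w * s)⁻¹ = w * (s * x * s⁻¹) * w⁻¹ := by group
      _ = y := by rw [h.sx, h.wx]
  have h2 : (w * s) * y * (w * s)⁻¹ = x⁻¹ := by
    calc (w * s) * y * (w * s)⁻¹ = w * (s * y * s⁻¹) * w⁻¹ := by group
      _ = (w * y * w⁻¹)⁻¹ := by rw [h.sy]; group
      _ = x⁻¹ := by rw [h.wy]
  calc (w * s * (w * s)) * y * (w * s * (w * s))⁻¹
      = (w * s) * ((w * s) * y * (w * s)⁻¹) * (w * s)⁻¹ := by group
    _ = (w * s) * x⁻¹ * (w * s)⁻¹ := by rw [h2]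
    _ = ((w * s) * x * (w * s)⁻¹)⁻¹ := by group
    _ = y⁻¹ := by rw [h1]

variable [Finite G]

/-- counting: `M ≤ C ≤ N`, `|M| = 9`, `|N| = 72`, an element of `C ∖ M` and a square of `N` outside
`C` force `|C| = 18` -/
theorem card_eq_eighteen {A C N : Subgroup G} (hAC : A ≤ C) (hCN : C ≤ N)
    (hA : Nat.card A = 9) (hN : Nat.card N = 72) {u : G} (hu : u ∈ C) (huA : u ∉ A)
    {n : G} (hn : n ∈ N) (hnn : n * n ∉ C) : Nat.card C = 18 := by
  have h9 : 9 ∣ Nat.card C := by
    have := Subgroup.card_dvd_of_le hAC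
    rwa [hA] at this
  have h72 : Nat.card C ∣ 72 := by
    have := Subgroup.card_dvd_of_le hCN
    rwa [hN] at this
  obtain ⟨k, hk⟩ := h9
  have hk8 : k ∣ 8 := by
    have : 9 * k ∣ 9 * 8 := by rw [← hk]; simpa using h72
    exact (Nat.mul_dvd_mul_iff_left (by norm_num)).1 this
  have hkle : k ≤ 8 := Nat.le_of_dvd (by norm_num) hk8
  have hne9 : Nat.card C ≠ 9 := by
    intro hc
    have : A = C := Subgroup.eq_of_le_of_card_ge hAC (by rw [hc, hA])
    exact huA (this ▸ hu)
  have hne72 : Nat.card C ≠ 72 := by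
    intro hc
    have : C = N := Subgroup.eq_of_le_of_card_ge hCN (by rw [hc, hN])
    exact hnn (this ▸ N.mul_mem hn hn)
  have hne36 : Nat.card C ≠ 36 := by
    intro hc
    have hcard : Nat.card (C.subgroupOf N) = 36 := by
      rw [Nat.card_congr (Subgroup.subgroupOfEquivOfLe hCN).toEquiv, hc]
    have hidx : (C.subgroupOf N).index = 2 := by
      have := Subgroup.card_mul_index (C.subgroupOf N)
      rw [hcard, hN] at this
      omega
    have := Subgroup.mul_self_mem_of_index_two hidx (⟨n, hn⟩ : N)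
    rw [Subgroup.mem_subgroupOf] at this
    exact hnn this
  interval_cases k <;> omega

/-! ### CENT: the centralizer orders -/
theorem card_cent (h : Hyp G M x y s w) :
    Nat.card (Subgroup.centralizer ({x} : Set G)) = 18 ∧
    Nat.card (Subgroup.centralizer ({x * y} : Set G)) = 18 := by
  have hwsN : w * s ∈ Subgroup.normalizer (M : Set G) :=
    (Subgroup.normalizer (M : Set G)).mul_mem h.hw h.hs
  constructor
  · refine card_eq_eighteen (le_cent_x h)
      (h.loc x (x_mem h) (ne_one_of_orderOf_three h.ox)) h.card h.cardN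
      (mem_cent_singleton.2 h.sx) (s_not_mem h) hwsN ?_
    intro hc
    rw [mem_cent_singleton, sq_conj_x h] at hc
    exact inv_ne_self_of_orderOf_three h.ox hc
  · have hwxy : w * (x * y) * w⁻¹ = x * y := by
      calc w * (x * y) * w⁻¹ = (w * x * w⁻¹) * (w * y * w⁻¹) := by group
        _ = x * y := by rw [h.wx, h.wy, h.comm]
    refine card_eq_eighteen (le_cent_xy h)
      (h.loc (x * y) (xy_mem h) (xy_ne_one h)) h.card h.cardN
      (mem_cent_singleton.2 hwxy) (w_not_mem h) hwsN ?_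
    intro hc
    rw [mem_cent_singleton] at hc
    have hinv : (w * s * (w * s)) * (x * y) * (w * s * (w * s))⁻¹ = (x * y)⁻¹ := by
      calc (w * s * (w * s)) * (x * y) * (w * s * (w * s))⁻¹
          = ((w * s * (w * s)) * x * (w * s * (w * s))⁻¹) *
            ((w * s * (w * s)) * y * (w * s * (w * s))⁻¹) := by group
        _ = x⁻¹ * y⁻¹ := by rw [sq_conj_x h, sq_conj_y h]
        _ = (x * y)⁻¹ := by rw [h.comm, mul_inv_rev]
    rw [hinv] at hc
    exact xy_inv_ne h hc

end Cfsg.Agent.Lib.Helper43_D72_CENT
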