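import Mathlib
import Cfsg.Prelude.Def_Characters
import Cfsg.Agent.Lib.Helper80_CharBasic
import Cfsg.Agent.Lib.Helper62_D72Defs

/-!
# S3716 (helper62's market `d72_packages`): a GENERIC lemma for the packages REAL1 .. REAL6.

`shape_of_counts`: if every column off `o` has entries in `{0, ±1}`, the table `T : Fin n → ℤ⁴` consists of
normalized types (entries in `{0, ±1}`, first nonzero entry `+1`) and for every normalized type `τ` the
count `cnt o P Q P' Q' τ` equals the number of `j` with `T j = τ`, then `IsShape o P Q P' Q' T`.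
-/

set_option autoImplicit false

namespace Cfsg.Agent.Lib.Helper43_D72_REALGEN

open Cfsg Cfsg.Agent.Lib.Helper80_CharBasic Cfsg.Agent.Lib.Helper62_D72Defs

/-- normalized type: entries in `{0, ±1}`, nonzero, first nonzero entry `+1` -/
def Norm (p q p' q' : ℤ) : Prop :=
  (p = 0 ∨ p = 1 ∨ p = -1) ∧ (q = 0 ∨ q = 1 ∨ q = -1) ∧ (p' = 0 ∨ p' = 1 ∨ p' = -1) ∧
  (q' = 0 ∨ q' = 1 ∨ q' = -1) ∧
  (p = 1 ∨ (p = 0 ∧ (q = 1 ∨ (q = 0 ∧ (p' = 1 ∨ (p' = 0 ∧ q' = 1))))))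

/-- two normalized types that agree up to sign agree -/
theorem norm_unique {p q p' q' a b c d : ℤ} (h1 : Norm p q p' q') (h2 : Norm a b c d)
    (h : (p = a ∧ q = b ∧ p' = c ∧ q' = d) ∨ (p = -a ∧ q = -b ∧ p' = -c ∧ q' = -d)) :
    p = a ∧ q = b ∧ p' = c ∧ q' = d := by
  obtain ⟨-, -, -, -, l1⟩ := h1
  obtain ⟨-, -, -, -, l2⟩ := h2
  omega

/-- a nonzero column with entries in `{0, ±1}` is `±` a normalized type -/
theorem exists_norm {p q p' q' : ℤ} (hp : p = 0 ∨ p = 1 ∨ p = -1) (hq : q = 0 ∨ q = 1 ∨ q = -1)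
    (hp' : p' = 0 ∨ p' = 1 ∨ p' = -1) (hq' : q' = 0 ∨ q' = 1 ∨ q' = -1)
    (hne : ¬ (p = 0 ∧ q = 0 ∧ p' = 0 ∧ q' = 0)) :
    ∃ a b c d : ℤ, Norm a b c d ∧
      ((p = a ∧ q = b ∧ p' = c ∧ q' = d) ∨ (p = -a ∧ q = -b ∧ p' = -c ∧ q' = -d)) := by
  by_cases h1 : p = 1 ∨ (p = 0 ∧ (q = 1 ∨ (q = 0 ∧ (p' = 1 ∨ (p' = 0 ∧ q' = 1)))))
  · exact ⟨p, q, p', q', ⟨hp, hq, hp', hq', h1⟩, Or.inl ⟨rfl, rfl, rfl, rfl⟩⟩
  · refine ⟨-p, -q, -p', -q', ⟨?_, ?_, ?_, ?_, ?_⟩, Or.inr ⟨?_, ?_, ?_, ?_⟩⟩ <;> omega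

/-- GENERIC form of REAL1 .. REAL6 -/
theorem shape_of_counts {ι : Type*} [Finite ι] {o : ι} {P Q P' Q' : ι → ℤ} {n : ℕ}
    (T : Fin n → ℤ × ℤ × ℤ × ℤ)
    (hent : ∀ i, i ≠ o → (P i = 0 ∨ P i = 1 ∨ P i = -1) ∧ (Q i = 0 ∨ Q i = 1 ∨ Q i = -1) ∧
      (P' i = 0 ∨ P' i = 1 ∨ P' i = -1) ∧ (Q' i = 0 ∨ Q' i = 1 ∨ Q' i = -1))
    (hT : ∀ j, Norm (T j).1 (T j).2.1 (T j).2.2.1 (T j).2.2.2)
    (hcnt : ∀ p q p' q' : ℤ, Norm p q p' q' →
      cnt o P Q P' Q' p q p' q' = Nat.card {j : Fin n // T j = (p, q, p', q')}) :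
    IsShape o P Q P' Q' T := by
  classical
  have hequiv : ∀ p q p' q' : ℤ, Norm p q p' q' →
      Nonempty ({j : Fin n // T j = (p, q, p', q')} ≃
        {i : ι // i ≠ o ∧ ((P i = p ∧ Q i = q ∧ P' i = p' ∧ Q' i = q') ∨
          (P i = -p ∧ Q i = -q ∧ P' i = -p' ∧ Q' i = -q'))}) := by
    intro p q p' q' hn
    have h := hcnt p q p' q' hn
    unfold cnt at h
    exact Finite.card_eq.1 h.symm
  -- the chosen bijections
  let e : ∀ p q p' q' : ℤ, ∀ hn : Norm p q p' q', ({j : Fin n // T j = (p, q, p', q')} ≃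
        {i : ι // i ≠ o ∧ ((P i = p ∧ Q i = q ∧ P' i = p' ∧ Q' i = q') ∨
          (P i = -p ∧ Q i = -q ∧ P' i = -p' ∧ Q' i = -q'))}) :=
    fun p q p' q' hn => (hequiv p q p' q' hn).some
  let idx : Fin n → ι := fun j =>
    ((e (T j).1 (T j).2.1 (T j).2.2.1 (T j).2.2.2 (hT j)) ⟨j, rfl⟩).1
  have idx_eq : ∀ (j : Fin n) (p q p' q' : ℤ) (hτ : T j = (p, q, p', q')) (hn : Norm p q p' q'),
      idx j = ((e p q p' q' hn) ⟨j, hτ⟩).1 := by
    intro j p q p' q' hτ hn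
    have h1 : (T j).1 = p := by rw [hτ]
    have h2 : (T j).2.1 = q := by rw [hτ]
    have h3 : (T j).2.2.1 = p' := by rw [hτ]
    have h4 : (T j).2.2.2 = q' := by rw [hτ]
    subst h1 h2 h3 h4
    rfl
  have hprop : ∀ j : Fin n, idx j ≠ o ∧
      ((P (idx j) = (T j).1 ∧ Q (idx j) = (T j).2.1 ∧ P' (idx j) = (T j).2.2.1 ∧
        Q' (idx j) = (T j).2.2.2) ∨
       (P (idx j) = -(T j).1 ∧ Q (idx j) = -(T j).2.1 ∧ P' (idx j) = -(T j).2.2.1 ∧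
        Q' (idx j) = -(T j).2.2.2)) := fun j =>
    ((e (T j).1 (T j).2.1 (T j).2.2.1 (T j).2.2.2 (hT j)) ⟨j, rfl⟩).2
  let σ : Fin n → ℤ := fun j =>
    if P (idx j) = (T j).1 ∧ Q (idx j) = (T j).2.1 ∧ P' (idx j) = (T j).2.2.1 ∧
      Q' (idx j) = (T j).2.2.2 then 1 else -1
  refine ⟨idx, σ, ?_, fun j => (hprop j).1, ?_, ?_, ?_⟩
  · -- injectivity
    intro j j' hjj'
    have hj := (hprop j).2
    have hj' := (hprop j').2
    rw [hjj'] at hj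
    have hTT : (T j).1 = (T j').1 ∧ (T j).2.1 = (T j').2.1 ∧ (T j).2.2.1 = (T j').2.2.1 ∧
        (T j).2.2.2 = (T j').2.2.2 := by
      apply norm_unique (hT j) (hT j')
      rcases hj with ⟨a1, a2, a3, a4⟩ | ⟨a1, a2, a3, a4⟩ <;>
        rcases hj' with ⟨b1, b2, b3, b4⟩ | ⟨b1, b2, b3, b4⟩
      · left; exact ⟨a1.symm.trans b1, a2.symm.trans b2, a3.symm.trans b3, a4.symm.trans b4⟩
      · right; refine ⟨?_, ?_, ?_, ?_⟩ <;> omega
      · right; refine ⟨?_, ?_, ?_, ?_⟩ <;> omega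
      · left; refine ⟨?_, ?_, ?_, ?_⟩ <;> omega
    have hτ' : T j' = ((T j).1, (T j).2.1, (T j).2.2.1, (T j).2.2.2) := by
      obtain ⟨t1, t2, t3, t4⟩ := hTT
      ext
      · exact t1.symm
      · exact t2.symm
      · exact t3.symm
      · exact t4.symm
    have e1 := idx_eq j _ _ _ _ rfl (hT j)
    have e2 := idx_eq j' _ _ _ _ hτ' (hT j)
    rw [e1, e2] at hjj'
    have := (e _ _ _ _ (hT j)).injective (Subtype.ext hjj')
    exact congrArg Subtype.val this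
  · -- signs
    intro j
    show (if _ then (1 : ℤ) else -1) = 1 ∨ (if _ then (1 : ℤ) else -1) = -1
    split_ifs
    · left; rfl
    · right; rfl
  · -- columns
    intro j
    show P (idx j) = (if _ then (1 : ℤ) else -1) * _ ∧ Q (idx j) = (if _ then (1 : ℤ) else -1) * _ ∧
      P' (idx j) = (if _ then (1 : ℤ) else -1) * _ ∧ Q' (idx j) = (if _ then (1 : ℤ) else -1) * _
    split_ifs with hif
    · obtain ⟨a1, a2, a3, a4⟩ := hif
      refine ⟨?_, ?_, ?_, ?_⟩ <;> omega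
    · rcases (hprop j).2 with hh | ⟨a1, a2, a3, a4⟩
      · exact absurd hh hif
      · refine ⟨?_, ?_, ?_, ?_⟩ <;> omega
  · -- the other columns vanish
    intro i hi hnot
    by_contra hne
    obtain ⟨hp, hq, hp', hq'⟩ := hent i hi
    obtain ⟨a, b, c, d, hn, hcol⟩ := exists_norm hp hq hp' hq' hne
    set z := (e a b c d hn).symm ⟨i, hi, hcol⟩ with hz
    have h1 := idx_eq z.1 a b c d z.2 hn
    have h2 : (e a b c d hn) ⟨z.1, z.2⟩ = ⟨i, hi, hcol⟩ := by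
      rw [hz]
      exact (e a b c d hn).apply_symm_apply _
    rw [h2] at h1
    exact hnot z.1 h1.symm

end Cfsg.Agent.Lib.Helper43_D72_REALGEN
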