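import Mathlib
import Cfsg.Agent.Lib.Helper83_FrCDefs
import Cfsg.Agent.Lib.Helper8_FrC_PK13
import Cfsg.Agent.Lib.Helper2_FrC_PK11
import Cfsg.Agent.Lib.Helper2_FrC_PK14

set_option autoImplicit false
set_option linter.unusedVariables false
set_option linter.unusedSectionVars false
set_option linter.unusedSimpArgs false
set_option linter.style.haveILetI false
set_option linter.deprecated false

/-!
# FR10 (architect helper67), package FR10-ODD (formalised by helper43)

helper2's `Helper2_FrC_PK14.caseC_odd` (paper (2.6), `q` odd) for `9 ≤ n`, `4 ∤ n`: the fixed point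
of the permutation of the monomial involution `m` comes from the parity of the determinant
(`det m = sign π * ∏ w = (-1) ^ (n / 2)` when `π` has no fixed point); the rest of the argument is
helper2's, verbatim (it needs `n - 2 > 6` only).
-/

namespace Cfsg.Agent.Lib.Helper43_FR10_ODD

open Module Cfsg.Agent.Lib.Helper94_Herm Cfsg.Agent.Lib.Helper13_PSUSimple
  Cfsg.Agent.Lib.Helper94_FrmDefs Cfsg.Agent.Lib.Helper83_FrCDefs
  Cfsg.Agent.Lib.Helper8_FrC_PK13 Cfsg.Agent.Lib.Helper2_FrC_PK11
  Cfsg.Agent.Lib.Helper2_FrC_PK14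

/-- the sign of a fixed point free involution -/
theorem sign_fixfree_invol {ι : Type*} [Fintype ι] [DecidableEq ι] (π : Equiv.Perm ι)
    (hππ : ∀ r, π (π r) = r) (hfix : ∀ r, π r ≠ r) :
    ∃ k, Fintype.card ι = 2 * k ∧ Equiv.Perm.sign π = (-1) ^ k := by
  by_cases hne : Nonempty ι
  · obtain ⟨r0⟩ := hne
    have hπ1 : π ≠ 1 := by
      intro h
      apply hfix r0
      rw [h]
      rfl
    have hπ2 : π ^ 2 = 1 := by
      ext r
      rw [pow_two]
      exact hππ r
    have hord : orderOf π = 2 := orderOf_eq_prime hπ2 hπ1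
    have hpr : (orderOf π).Prime := by rw [hord]; exact Nat.prime_two
    obtain ⟨n, hn⟩ := Equiv.Perm.cycleType_prime_order hpr
    rw [hord] at hn
    have hsupp : π.support = Finset.univ := by
      ext r
      simp only [Equiv.Perm.mem_support, Finset.mem_univ, iff_true]
      exact hfix r
    have hsum := Equiv.Perm.sum_cycleType π
    rw [hn, hsupp, Finset.card_univ, Multiset.sum_replicate, smul_eq_mul] at hsum
    refine ⟨n + 1, ?_, ?_⟩
    · rw [← hsum]; ring
    · rw [Equiv.Perm.sign_of_cycleType, hn, Multiset.sum_replicate, Multiset.card_replicate,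
        smul_eq_mul]
      have : (n + 1) * 2 + (n + 1) = 2 * (n + 1) + (n + 1) := by ring
      rw [this, pow_add, pow_mul]
      simp
  · rw [not_nonempty_iff] at hne
    refine ⟨0, ?_, ?_⟩
    · rw [Fintype.card_eq_zero]
    · have : π = 1 := Subsingleton.elim _ _
      rw [this, Equiv.Perm.sign_one, pow_zero]

variable {F V ι : Type*} [Field F] [AddCommGroup V] [Module F V] [Fintype ι] [DecidableEq ι]
variable {σ : F →+* F} {B : V →ₗ[F] V →ₛₗ[σ] F} {e : ι → V}

/-- a monomial involution of determinant one has a fixed frame point when `4 ∤ n`, `2 ≠ 0` -/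
theorem exists_fixed_of_parity (hfr : OFrame B e) (hdet : HasDet F e) (h2 : (2 : F) ≠ 0)
    (h4 : ¬ 4 ∣ Fintype.card ι) {m : V ≃ₗ[F] V} (hmMono : m ∈ Mono B e) (hmsq : m * m = 1)
    (hdetm : LinearEquiv.det m = 1) : ∃ i, ∃ c : F, m (e i) = c • e i := by
  classical
  by_contra hcon
  push Not at hcon
  obtain ⟨hmuG, π, hπ⟩ := hmMono
  choose w hw0 hmw using hπ
  have hfix : ∀ r, π r ≠ r := by
    intro r hr
    apply hcon r (w r)
    rw [hmw, hr]
  have hmm : ∀ r, m (m (e r)) = e r := by
    intro r
    have := congrArg (fun f : V ≃ₗ[F] V => f (e r)) hmsq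
    exact this
  have hππ : ∀ r, π (π r) = r := by
    intro r
    have h1 := hmm r
    rw [hmw, map_smul, hmw, smul_smul] at h1
    by_contra hne
    have h3 := congrArg (fun y => B y (e r)) h1
    simp only [map_smul, LinearMap.smul_apply, hfr.orth _ _ hne, hfr.unit, smul_zero] at h3
    exact zero_ne_one h3
  have hww : ∀ r, w r * w (π r) = 1 := by
    intro r
    have h1 := hmm r
    rw [hmw, map_smul, hmw, hππ, smul_smul] at h1
    have h3 : (w r * w (π r) - 1) • e r = 0 := by rw [sub_smul, h1, one_smul, sub_self]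
    rcases smul_eq_zero.mp h3 with h5 | h5
    · exact sub_eq_zero.mp h5
    · exact absurd h5 (fr_ne_zero hfr r)
  have hprod : ∏ r, w r = 1 :=
    Finset.prod_ninvolution (fun r => π r) hww (fun a _ => hfix a) (fun a => Finset.mem_univ _) hππ
  obtain ⟨k, hk, hsign⟩ := sign_fixfree_invol π hππ hfix
  have hdz := hdet m π w hmw
  rw [hdetm, hprod, mul_one, hsign] at hdz
  rcases Nat.even_or_odd k with hev | hodd
  · apply h4
    obtain ⟨j, hj⟩ := hev
    exact ⟨j, by omega⟩
  · rw [hodd.neg_one_pow] at hdz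
    have : (1 : F) = -1 := by
      simpa using hdz
    apply h2
    linear_combination this

/-- FR10-ODD. paper (2.6) with `9 ≤ n`, `4 ∤ n`. -/
theorem caseC_odd [Finite F] (hσ : Invol σ) (hB : IsHerm B) (hfr : OFrame B e)
    (hmono : HasMono B e) (hdet : HasDet F e) (hrinv : RankLemmaInvol F e) (h2 : (2 : F) ≠ 0)
    (h9 : 9 ≤ Fintype.card ι) (h4 : ¬ 4 ∣ Fintype.card ι)
    (M : Subgroup (V ≃ₗ[F] V)) (hHM : frH B e ≤ M)
    (hMS : M ≤ SUg B) (h22 : P22 B e M) (h23 : P23 B e M) (h25 : P25 B e M) :
    M ≤ Mono B e := by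
  classical
  haveI : FiniteDimensional F V := fr_finiteDimensional hfr
  haveI : Finite V := Module.finite_of_finite F
  haveI : Finite (V ≃ₗ[F] V) :=
    Finite.of_injective (fun g : V ≃ₗ[F] V => (g : V → V)) DFunLike.coe_injective
  have hMU : M ≤ uG B := fun g hg => (mem_SUg.1 (hMS hg)).1
  intro g hg
  by_contra hgn
  have hginv : ∀ y, (g⁻¹ : V ≃ₗ[F] V) (g y) = y := fun y => g.symm_apply_apply y
  have hgg : ∀ y, g ((g⁻¹ : V ≃ₗ[F] V) y) = y := fun y => g.apply_symm_apply y
  -- the two sign elements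
  obtain ⟨S4, -, hS4⟩ := Finset.exists_subset_card_eq (s := (Finset.univ : Finset ι)) (n := 4)
    (by rw [Finset.card_univ]; omega)
  obtain ⟨S2, hS24, hS2⟩ := Finset.exists_subset_card_eq (s := S4) (n := 2) (by omega)
  obtain ⟨t2, ht2H, ht2⟩ := exists_sign_diag hmono S2 (by rw [hS2]; decide)
  obtain ⟨t4, ht4H, ht4⟩ := exists_sign_diag hmono S4 (by rw [hS4]; decide)
  have ht2sq : t2 * t2 = 1 := sign_sq hfr ht2
  have ht4sq : t4 * t4 = 1 := sign_sq hfr ht4
  have hS2ne : S2.Nonempty := Finset.card_pos.mp (by omega)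
  have hS4ne : S4.Nonempty := Finset.card_pos.mp (by omega)
  have ht2ne : t2 ≠ 1 := sign_ne_one hfr ht2 h2 hS2ne
  have ht4ne : t4 ≠ 1 := sign_ne_one hfr ht4 h2 hS4ne
  set u : V ≃ₗ[F] V := g * t4 * g⁻¹ with hu
  have husq : u * u = 1 := by
    calc u * u = g * (t4 * t4) * g⁻¹ := by rw [hu]; group
      _ = 1 := by rw [ht4sq]; group
  have huM : u ∈ M := M.mul_mem (M.mul_mem hg (hHM ht4H)) (M.inv_mem hg)
  have ht2M : t2 ∈ M := hHM ht2H
  -- the ranges
  set U : Submodule F V := US F e S2 ⊔ (US F e S4).map (g : V →ₗ[F] V) with hU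
  have hUdim : finrank F ↥U ≤ 6 := by
    have h1 := Submodule.finrank_add_le_finrank_add_finrank (US F e S2)
      ((US F e S4).map (g : V →ₗ[F] V))
    have h3 : finrank F ↥((US F e S4).map (g : V →ₗ[F] V)) = finrank F ↥(US F e S4) :=
      LinearEquiv.finrank_map_eq g (US F e S4)
    have h4 := finrank_US_le (F := F) (e := e) S2
    have h5 := finrank_US_le (F := F) (e := e) S4
    rw [hU]
    omega
  have hat2 : ∀ x, t2 x - x ∈ U := fun x =>
    Submodule.mem_sup_left (sign_range hfr ht2 x)
  have hau : ∀ x, u x - x ∈ U := by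
    intro x
    apply Submodule.mem_sup_right
    rw [Submodule.mem_map]
    refine ⟨t4 ((g⁻¹ : V ≃ₗ[F] V) x) - (g⁻¹ : V ≃ₗ[F] V) x, sign_range hfr ht4 _, ?_⟩
    rw [LinearEquiv.coe_coe, map_sub, hgg]
    rfl
  -- `t2` and `u` are not conjugate
  have hnc : ¬ ∃ k : V ≃ₗ[F] V, u = k * t2 * k⁻¹ := by
    rintro ⟨k, hk⟩
    have h1 := finrank_range_conj t2 k
    rw [← hk] at h1
    have h3 := finrank_range_conj t4 g
    rw [← hu] at h3
    have h4 : 4 ≤ finrank F ↥(LinearMap.range ((t4 : V →ₗ[F] V) - LinearMap.id)) := by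
      rw [← hS4]
      exact card_le_finrank hfr _ S4 (fun r hr => sign_mem_range hfr ht4 h2 r hr)
    have h5 : finrank F ↥(LinearMap.range ((t2 : V →ₗ[F] V) - LinearMap.id)) ≤ 2 := by
      have hle : LinearMap.range ((t2 : V →ₗ[F] V) - LinearMap.id) ≤ US F e S2 := by
        rintro _ ⟨y, rfl⟩
        exact sign_range hfr ht2 y
      have := Submodule.finrank_mono hle
      have h6 := finrank_US_le (F := F) (e := e) S2
      omega
    omega
  -- the dihedral lemma
  rcases dihedral_lemma t2 u ht2sq husq (isOfFinOrder_of_finite _) with hconj | ⟨z, hzcl, hz1, hzsq, hza, hzb⟩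
  · exact hnc hconj
  have hzM : z ∈ M := by
    have hle : Subgroup.closure {t2, u} ≤ M := by
      rw [Subgroup.closure_le]
      rintro x (rfl | rfl)
      · exact ht2M
      · exact huM
    exact hle hzcl
  have hzU : ∀ x, z x - x ∈ U := closure_range t2 u U hat2 hau z hzcl
  -- `z` is monomial
  have hzMono : z ∈ Mono B e := by
    refine h22 t2 ht2H (sign_diag ht2) ht2ne S2 (by omega) (sign_fix ht2) z hzM ?_
    have : z⁻¹ * t2 * z = t2 := by
      calc z⁻¹ * t2 * z = z⁻¹ * (t2 * z) := by group
        _ = z⁻¹ * (z * t2) := by rw [hza]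
        _ = t2 := by group
    rw [this]
    exact frH_le_Mono ht2H
  -- `m = g⁻¹ z g` is monomial
  set m : V ≃ₗ[F] V := g⁻¹ * z * g with hm
  have hmM : m ∈ M := M.mul_mem (M.mul_mem (M.inv_mem hg) hzM) hg
  have hmt4 : m * t4 = t4 * m := by
    calc m * t4 = g⁻¹ * (z * (g * t4 * g⁻¹)) * g := by rw [hm]; group
      _ = g⁻¹ * ((g * t4 * g⁻¹) * z) * g := by rw [← hu, hzb]
      _ = t4 * m := by rw [hm]; group
  have hmMono : m ∈ Mono B e := by
    refine h22 t4 ht4H (sign_diag ht4) ht4ne S4 (by omega) (sign_fix ht4) m hmM ?_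
    have : m⁻¹ * t4 * m = t4 := by
      calc m⁻¹ * t4 * m = m⁻¹ * (t4 * m) := by group
        _ = m⁻¹ * (m * t4) := by rw [hmt4]
        _ = t4 := by group
    rw [this]
    exact frH_le_Mono ht4H
  have hmsq : m * m = 1 := by
    calc m * m = g⁻¹ * (z * z) * g := by rw [hm]; group
      _ = 1 := by rw [hzsq]; group
  -- a fixed point of the permutation of `m` (parity of the determinant)
  have hdetm : LinearEquiv.det m = 1 := (mem_SUg.1 (hMS hmM)).2
  obtain ⟨i, c, hmi⟩ : ∃ i, ∃ c : F, m (e i) = c • e i :=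
    exists_fixed_of_parity hfr hdet h2 h4 hmMono hmsq hdetm
  have hcsq : c * c = 1 := by
    have h1 : m (m (e i)) = e i := by
      have := congrArg (fun f : V ≃ₗ[F] V => f (e i)) hmsq
      exact this
    rw [hmi, map_smul, hmi, smul_smul] at h1
    have h3 : (c * c - 1) • e i = 0 := by rw [sub_smul, h1, one_smul, sub_self]
    rcases smul_eq_zero.mp h3 with h4 | h4
    · exact sub_eq_zero.mp h4
    · exact absurd h4 (fr_ne_zero hfr i)
  have hc1 : c = 1 ∨ c = -1 := by
    have : (c - 1) * (c + 1) = 0 := by linear_combination hcsq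
    rcases mul_eq_zero.mp this with h | h
    · exact Or.inl (sub_eq_zero.mp h)
    · exact Or.inr (eq_neg_of_add_eq_zero_left h)
  have hσc : σ c = c := by
    rcases hc1 with rfl | rfl
    · exact map_one σ
    · rw [map_neg, map_one]
  have hc0 : c ≠ 0 := by
    rintro rfl
    rw [mul_zero] at hcsq
    exact zero_ne_one hcsq
  -- `f = g e_i` is an eigenvector of `z`
  have hzf : z (g (e i)) = c • g (e i) := by
    have h1 : g (m (e i)) = z (g (e i)) := by
      show g ((g⁻¹ : V ≃ₗ[F] V) (z (g (e i)))) = z (g (e i))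
      rw [hgg]
    rw [← h1, hmi, map_smul]
  have hfne : ∀ r, B (g (e i)) (e r) ≠ 0 := fun r => h23 g hg hgn i r
  -- the permutation of `z`
  obtain ⟨hzuG, π, hπ⟩ := hzMono
  choose w hw0 hzw using hπ
  have hwN : ∀ r, w r * σ (w r) = 1 := by
    intro r
    have h1 := hzuG (e r) (e r)
    rw [hzw, self_smul, hfr.unit, hfr.unit, mul_one] at h1
    exact h1
  have hcoord : ∀ r, c * B (g (e i)) (e (π r)) = w r * B (g (e i)) (e r) := by
    intro r
    have h1 := coord_mono hfr z π w hzw (g (e i)) r
    rw [hzf, map_smul, LinearMap.smul_apply, smul_eq_mul] at h1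
    exact h1
  have hcol : ∀ r, B (g (e i)) (e (π r)) * σ (B (g (e i)) (e (π r))) =
      B (g (e i)) (e r) * σ (B (g (e i)) (e r)) := by
    intro r
    have h1 := hcoord r
    have h3 : B (g (e i)) (e (π r)) = c * (w r * B (g (e i)) (e r)) := by
      rw [← h1, ← mul_assoc, hcsq, one_mul]
    rw [h3, map_mul, map_mul, hσc]
    calc c * (w r * B (g (e i)) (e r)) * (c * (σ (w r) * σ (B (g (e i)) (e r))))
        = (c * c) * (w r * σ (w r)) * (B (g (e i)) (e r) * σ (B (g (e i)) (e r))) := by ring
      _ = B (g (e i)) (e r) * σ (B (g (e i)) (e r)) := by rw [hcsq, hwN, one_mul, one_mul]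
  have hππ : ∀ r, π (π r) = r := by
    intro r
    have h1 : z (z (e r)) = e r := by
      have := congrArg (fun f : V ≃ₗ[F] V => f (e r)) hzsq
      exact this
    rw [hzw, map_smul, hzw, smul_smul] at h1
    by_contra hne
    have h3 := congrArg (fun y => B y (e r)) h1
    simp only [map_smul, LinearMap.smul_apply, hfr.orth _ _ hne, hfr.unit, smul_zero] at h3
    exact zero_ne_one h3
  -- at most one 2-cycle
  have hone : ∀ r r', π r ≠ r → π r' ≠ r' → r' = r ∨ r' = π r := by
    intro r r' hr hr'
    by_contra hcon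
    push Not at hcon
    obtain ⟨h1, h3⟩ := hcon
    refine h25 g hg hgn i r (π r) r' (π r') (Ne.symm hr) (Ne.symm h1) ?_ (Ne.symm h3) ?_
      (Ne.symm hr') (hcol r).symm (hcol r').symm
    · intro h
      apply h3
      rw [h, hππ]
    · intro h
      exact h1 (π.injective h).symm
  -- the fixed labels have `w = c`
  have hwfix : ∀ r, π r = r → w r = c := by
    intro r hr
    have h1 := hcoord r
    rw [hr] at h1
    exact (mul_right_cancel₀ (hfne r) h1).symm
  have hfixU : c = -1 → ∀ r, π r = r → e r ∈ U := by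
    intro hc r hr
    have h1 := hzU (e r)
    rw [hzw, hr, hwfix r hr, hc] at h1
    have h3 : (-1 : F) • e r - e r = (-2 : F) • e r := by
      rw [neg_smul, neg_smul, one_smul, two_smul]; abel
    rw [h3] at h1
    have := U.smul_mem ((-2 : F)⁻¹) h1
    rwa [smul_smul, inv_mul_cancel₀ (neg_ne_zero.mpr h2), one_smul] at this
  by_cases hall : ∀ r, π r = r
  · -- `π = 1`: `z = c`
    have hzc : ∀ x, z x = c • x := by
      intro x
      apply fr_ext_coord hfr
      intro r
      have h1 := coord_mono hfr z π w hzw x r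
      rw [hall r, hwfix r (hall r)] at h1
      rw [h1, map_smul, LinearMap.smul_apply, smul_eq_mul]
    rcases hc1 with hc | hc
    · apply hz1
      ext x
      rw [hzc x, hc, one_smul]
      rfl
    · have h1 := card_le_finrank hfr U Finset.univ (fun r _ => hfixU hc r (hall r))
      rw [Finset.card_univ] at h1
      omega
  · -- one transposition `(a b)`
    push Not at hall
    obtain ⟨a, ha⟩ := hall
    set b := π a with hb
    have hab : a ≠ b := Ne.symm ha
    have hπb : π b = a := hππ a
    have hother : ∀ r, r ≠ a → r ≠ b → π r = r := by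
      intro r hra hrb
      by_contra hr
      rcases hone a r ha hr with h | h
      · exact hra h
      · exact hrb h
    have hc : c = 1 := by
      rcases hc1 with hc | hc
      · exact hc
      · exfalso
        have h1 := card_le_finrank hfr U ((Finset.univ.erase a).erase b) (fun r hr => by
          have hrb : r ≠ b := Finset.ne_of_mem_erase hr
          have hra : r ≠ a := Finset.ne_of_mem_erase (Finset.mem_of_mem_erase hr)
          exact hfixU hc r (hother r hra hrb))
        rw [Finset.card_erase_of_mem (Finset.mem_erase.mpr ⟨Ne.symm hab, Finset.mem_univ _⟩),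
          Finset.card_erase_of_mem (Finset.mem_univ _), Finset.card_univ] at h1
        omega
    have hwo : ∀ r, r ≠ a → r ≠ b → w r = 1 := by
      intro r hra hrb
      rw [hwfix r (hother r hra hrb), hc]
    have hwab : w a * w b = 1 := by
      have h1 : z (z (e a)) = e a := by
        have := congrArg (fun f : V ≃ₗ[F] V => f (e a)) hzsq
        exact this
      rw [hzw, map_smul, ← hb, hzw, hπb, smul_smul] at h1
      have h3 : (w a * w b - 1) • e a = 0 := by rw [sub_smul, h1, one_smul, sub_self]
      rcases smul_eq_zero.mp h3 with h4 | h4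
      · exact sub_eq_zero.mp h4
      · exact absurd h4 (fr_ne_zero hfr a)
    have hπswap : π = Equiv.swap a b := by
      ext r
      by_cases hra : r = a
      · rw [hra, Equiv.swap_apply_left]
      by_cases hrb : r = b
      · rw [hrb, Equiv.swap_apply_right, hπb]
      · rw [Equiv.swap_apply_of_ne_of_ne hra hrb, hother r hra hrb]
    have hprod : ∏ r, w r = 1 := by
      rw [← Finset.mul_prod_erase Finset.univ w (Finset.mem_univ a),
        ← Finset.mul_prod_erase (Finset.univ.erase a) w
          (Finset.mem_erase.mpr ⟨Ne.symm hab, Finset.mem_univ b⟩),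
        Finset.prod_eq_one, mul_one, hwab]
      intro r hr
      have hrb : r ≠ b := Finset.ne_of_mem_erase hr
      have hra : r ≠ a := Finset.ne_of_mem_erase (Finset.mem_of_mem_erase hr)
      exact hwo r hra hrb
    have hdz := hdet z π w hzw
    have hdet1 : LinearEquiv.det z = 1 := (mem_SUg.1 (hMS hzM)).2
    rw [hdet1, hπswap, Equiv.Perm.sign_swap hab, hprod] at hdz
    have : (1 : F) = -1 := by
      simpa using hdz
    apply h2
    linear_combination this

end Cfsg.Agent.Lib.Helper43_FR10_ODD
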