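import Mathlib
import Cfsg.Prelude.Def_GeometricClasses
import Cfsg.Agent.Lib.Helper43_GSpConj
import Cfsg.Agent.Lib.Helper42_FieldSub

/-!
# Elements with scalar square and normalisers of field subalgebras of degree two

Support for S5969: `K` a field subalgebra of degree two of `M_n(F)`; generators of `K`; a matrix
`μ + (rank one)` never normalises `K` in dimension at least three; elements of `SL_n(F)` whose
square is a non-square scalar, or the square `μ ^ 2` of a scalar with `μ ^ n ≠ -1` (`n` even), are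
conjugate under `SL_n(F)` into the normaliser of `K` (`q` odd); the case `n = 2` via a Frobenius
element of the normaliser.
-/

set_option autoImplicit false

namespace Cfsg.Agent.Lib.Helper43_FieldExt2

open Matrix Module Polynomial
open Cfsg.Agent.Lib.Helper43_SubfieldSL Cfsg.Agent.Lib.Helper43_SubfieldSL2
open Cfsg.Agent.Lib.Helper43_GSpConj

section basics

variable {F : Type*} [Field F] {n : ℕ}

/-- a field subalgebra of degree two is spanned by `1` and any of its non-scalar elements, and it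
has a non-scalar element -/
theorem exists_generator (K : Subalgebra F (Matrix (Fin n) (Fin n) F))
    (hK : Cfsg.Geo.IsFieldSubalgebra 2 K) :
    ∃ κ ∈ K, (∀ c : F, κ ≠ c • (1 : Matrix (Fin n) (Fin n) F)) ∧
      ∀ k ∈ K, ∃ a b : F, k = a • (1 : Matrix (Fin n) (Fin n) F) + b • κ := by
  classical
  have hfin : Module.Finite F K :=
    Module.finite_of_finrank_pos (by rw [hK.finrank_eq]; norm_num)
  -- a non-scalar element
  have hex : ∃ κ ∈ K, ∀ c : F, κ ≠ c • (1 : Matrix (Fin n) (Fin n) F) := by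
    by_contra hcon
    push Not at hcon
    have hle : K ≤ ⊥ := by
      intro k hk
      obtain ⟨c, hc⟩ := hcon k hk
      rw [Algebra.mem_bot]
      exact ⟨c, by rw [hc, Algebra.algebraMap_eq_smul_one]⟩
    have hKbot : K = ⊥ := le_bot_iff.1 hle
    have h1 := hK.finrank_eq
    rw [hKbot] at h1
    by_cases hnt : Nontrivial (Matrix (Fin n) (Fin n) F)
    · rw [Subalgebra.finrank_bot] at h1
      norm_num at h1
    · rw [not_nontrivial_iff_subsingleton] at hnt
      have : Module.finrank F (⊥ : Subalgebra F (Matrix (Fin n) (Fin n) F)) = 0 :=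
        Module.finrank_zero_of_subsingleton
      omega
  obtain ⟨κ, hκ, hns⟩ := hex
  refine ⟨κ, hκ, hns, ?_⟩
  -- the span of `1, κ` has dimension two
  set S : Submodule F (Matrix (Fin n) (Fin n) F) :=
    Submodule.span F {(1 : Matrix (Fin n) (Fin n) F), κ} with hS
  have hSK : S ≤ Subalgebra.toSubmodule K := by
    rw [hS, Submodule.span_le]
    intro y hy
    rcases hy with rfl | rfl
    · exact K.one_mem
    · exact hκ
  have hli : LinearIndependent F ![(1 : Matrix (Fin n) (Fin n) F), κ] := by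
    rw [LinearIndependent.pair_iff]
    intro s t hst
    by_cases ht : t = 0
    · subst ht
      rw [zero_smul, add_zero] at hst
      have h1 : (1 : Matrix (Fin n) (Fin n) F) ≠ 0 := by
        intro h0
        apply hns 0
        rw [zero_smul]
        calc κ = κ * 1 := (mul_one κ).symm
          _ = 0 := by rw [h0, mul_zero]
      exact ⟨(smul_eq_zero.1 hst).resolve_right h1, rfl⟩
    · exfalso
      apply hns (-(s / t))
      have h1 : t • κ = -(s • (1 : Matrix (Fin n) (Fin n) F)) := by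
        rw [eq_neg_iff_add_eq_zero, add_comm]
        exact hst
      have h3 : κ = t⁻¹ • (t • κ) := by
        rw [smul_smul, inv_mul_cancel₀ ht, one_smul]
      rw [h3, h1, smul_neg, smul_smul, neg_smul]
      congr 2
      field_simp
  have hSfr : Module.finrank F S = 2 := by
    have h1 := finrank_span_eq_card hli
    rw [Fintype.card_fin] at h1
    have h3 : Set.range ![(1 : Matrix (Fin n) (Fin n) F), κ] = {1, κ} := by
      ext y
      simp only [Matrix.range_cons, Matrix.range_empty, Set.union_empty, Set.union_singleton,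
        Set.mem_insert_iff, Set.mem_singleton_iff]
      tauto
    rw [h3] at h1
    exact h1
  have hKfr : Module.finrank F (Subalgebra.toSubmodule K) = 2 := hK.finrank_eq
  have hfinK : Module.Finite F (Subalgebra.toSubmodule K) := hfin
  have hSeq : S = Subalgebra.toSubmodule K :=
    Submodule.eq_of_le_of_finrank_eq hSK (by rw [hSfr, hKfr])
  intro k hk
  have hkS : k ∈ S := by
    rw [hSeq]
    exact hk
  rw [hS, Submodule.mem_span_pair] at hkS
  obtain ⟨a, b, hab⟩ := hkS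
  exact ⟨a, b, hab.symm⟩

/-- an invertible matrix commuting with a generator of `K` normalises `K` -/
theorem mem_normalizer_of_commute (K : Subalgebra F (Matrix (Fin n) (Fin n) F))
    (κ : Matrix (Fin n) (Fin n) F)
    (hgen : ∀ k ∈ K, ∃ a b : F, k = a • (1 : Matrix (Fin n) (Fin n) F) + b • κ)
    (g : GL (Fin n) F) (hg : (g : Matrix (Fin n) (Fin n) F) * κ = κ * (g : Matrix (Fin n) (Fin n) F)) :
    g ∈ Cfsg.Geo.subalgebraNormalizer K := by
  have hgi : (g : Matrix (Fin n) (Fin n) F) * ((g⁻¹ : GL (Fin n) F) : Matrix (Fin n) (Fin n) F) = 1 := by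
    rw [← Units.val_mul, mul_inv_cancel, Units.val_one]
  have hconj : ∀ k ∈ K, (g : Matrix (Fin n) (Fin n) F) * k *
      ((g⁻¹ : GL (Fin n) F) : Matrix (Fin n) (Fin n) F) = k := by
    intro k hk
    obtain ⟨a, b, rfl⟩ := hgen k hk
    rw [Matrix.mul_add, Matrix.add_mul, Matrix.mul_smul, Matrix.mul_smul, Matrix.smul_mul,
      Matrix.smul_mul, Matrix.mul_one, hgi, hg, Matrix.mul_assoc, hgi, Matrix.mul_one]
  have hgi' : ((g⁻¹ : GL (Fin n) F) : Matrix (Fin n) (Fin n) F) * (g : Matrix (Fin n) (Fin n) F) = 1 := by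
    rw [← Units.val_mul, inv_mul_cancel, Units.val_one]
  intro k
  show k ∈ K ↔ (g : Matrix (Fin n) (Fin n) F) * k *
      ((g⁻¹ : GL (Fin n) F) : Matrix (Fin n) (Fin n) F) ∈ K
  constructor
  · intro hk
    rw [hconj k hk]
    exact hk
  · intro hk
    -- `k = g⁻¹ (g k g⁻¹) g` and `g⁻¹` also commutes with `κ`
    have hg' : ((g⁻¹ : GL (Fin n) F) : Matrix (Fin n) (Fin n) F) * κ =
        κ * ((g⁻¹ : GL (Fin n) F) : Matrix (Fin n) (Fin n) F) := by
      calc ((g⁻¹ : GL (Fin n) F) : Matrix (Fin n) (Fin n) F) * κ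
          = ((g⁻¹ : GL (Fin n) F) : Matrix (Fin n) (Fin n) F) * (κ * ((g : Matrix (Fin n) (Fin n) F) *
              ((g⁻¹ : GL (Fin n) F) : Matrix (Fin n) (Fin n) F))) := by rw [hgi, Matrix.mul_one]
        _ = ((g⁻¹ : GL (Fin n) F) : Matrix (Fin n) (Fin n) F) * ((g : Matrix (Fin n) (Fin n) F) * κ) *
              ((g⁻¹ : GL (Fin n) F) : Matrix (Fin n) (Fin n) F) := by
            rw [hg]
            simp only [Matrix.mul_assoc]
        _ = κ * ((g⁻¹ : GL (Fin n) F) : Matrix (Fin n) (Fin n) F) := by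
            rw [← Matrix.mul_assoc, hgi', Matrix.one_mul]
    obtain ⟨a, b, hab⟩ := hgen _ hk
    have hk2 : k = ((g⁻¹ : GL (Fin n) F) : Matrix (Fin n) (Fin n) F) *
        ((g : Matrix (Fin n) (Fin n) F) * k * ((g⁻¹ : GL (Fin n) F) : Matrix (Fin n) (Fin n) F)) *
        (g : Matrix (Fin n) (Fin n) F) := by
      calc k = (((g⁻¹ : GL (Fin n) F) : Matrix (Fin n) (Fin n) F) * (g : Matrix (Fin n) (Fin n) F)) * k *
            (((g⁻¹ : GL (Fin n) F) : Matrix (Fin n) (Fin n) F) * (g : Matrix (Fin n) (Fin n) F)) := by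
              rw [hgi', Matrix.one_mul, Matrix.mul_one]
        _ = _ := by simp only [Matrix.mul_assoc]
    rw [hk2, hab, Matrix.mul_add, Matrix.add_mul, Matrix.mul_smul, Matrix.mul_smul, Matrix.smul_mul,
      Matrix.smul_mul, Matrix.mul_one, hgi', hg', Matrix.mul_assoc, hgi', Matrix.mul_one, ← hab]
    exact hk

/-- an invertible matrix of the form `μ + (rank one)` does not normalise a field subalgebra having
a non-scalar element, in dimension at least three -/
theorem not_mem_normalizer_rank_one {r : ℕ} (hn : 3 ≤ n) (K : Subalgebra F (Matrix (Fin n) (Fin n) F))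
    (hK : Cfsg.Geo.IsFieldSubalgebra r K) (κ : Matrix (Fin n) (Fin n) F) (hκ : κ ∈ K)
    (hns : ∀ c : F, κ ≠ c • (1 : Matrix (Fin n) (Fin n) F))
    (g : GL (Fin n) F) (μ : F) (hμ : μ ≠ 0) (c : (Fin n → F) →ₗ[F] F) (w : Fin n → F) (hw : w ≠ 0)
    (hc : c ≠ 0) (hg : ∀ v, (g : Matrix (Fin n) (Fin n) F) *ᵥ v = μ • v + c v • w) :
    g ∉ Cfsg.Geo.subalgebraNormalizer K := by
  classical
  intro hmem
  set G : Matrix (Fin n) (Fin n) F := (g : Matrix (Fin n) (Fin n) F) with hG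
  set Gi : Matrix (Fin n) (Fin n) F := ((g⁻¹ : GL (Fin n) F) : Matrix (Fin n) (Fin n) F) with hGi
  have hgi : Gi * G = 1 := by
    rw [hGi, hG, ← Units.val_mul, inv_mul_cancel, Units.val_one]
  have hκ1 : G * κ * Gi ∈ K := (hmem κ).1 hκ
  set κ₁ : Matrix (Fin n) (Fin n) F := G * κ * Gi with hκ₁
  have hrel : G * κ = κ₁ * G := by
    rw [hκ₁, Matrix.mul_assoc, Matrix.mul_assoc, hgi, Matrix.mul_one]
  by_cases hcase : κ₁ = κ
  · -- `g` commutes with `κ`: the line `F w` is `κ`-invariant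
    rw [hcase] at hrel
    obtain ⟨v, hv⟩ : ∃ v, c v ≠ 0 := by
      by_contra hcon
      push Not at hcon
      exact hc (LinearMap.ext hcon)
    have h1 : G *ᵥ (κ *ᵥ v) = κ *ᵥ (G *ᵥ v) := by
      rw [Matrix.mulVec_mulVec, Matrix.mulVec_mulVec, hrel]
    rw [hg, hg, Matrix.mulVec_add, Matrix.mulVec_smul, Matrix.mulVec_smul] at h1
    have h3 : c (κ *ᵥ v) • w = c v • κ *ᵥ w := add_left_cancel h1
    have h4 : κ *ᵥ w = ((c v)⁻¹ * c (κ *ᵥ v)) • w := by
      rw [mul_smul, h3, smul_smul, inv_mul_cancel₀ hv, one_smul]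
    have h5 : (κ - ((c v)⁻¹ * c (κ *ᵥ v)) • (1 : Matrix (Fin n) (Fin n) F)) *ᵥ w = 0 := by
      rw [Matrix.sub_mulVec, Matrix.smul_mulVec, Matrix.one_mulVec, h4, sub_self]
    have h6 := Cfsg.Agent.Helper42FieldSub.eq_zero_of_mulVec_eq_zero K hK
      (K.sub_mem hκ (K.smul_mem K.one_mem _)) hw h5
    exact hns _ (sub_eq_zero.1 h6)
  · -- `g` does not commute with `κ`
    have hker : LinearMap.ker (c.prod (c.comp (Matrix.toLin' κ))) ≠ ⊥ := by
      apply LinearMap.ker_ne_bot_of_finrank_lt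
      rw [Module.finrank_prod, Module.finrank_self, Module.finrank_fin_fun]
      omega
    obtain ⟨v, hvmem, hv0⟩ := Submodule.exists_mem_ne_zero_of_ne_bot hker
    have hmem' := LinearMap.mem_ker.1 hvmem
    have hcv : c v = 0 := congrArg Prod.fst hmem'
    have hcκv : c (κ *ᵥ v) = 0 := congrArg Prod.snd hmem'
    have h1 : G *ᵥ (κ *ᵥ v) = κ₁ *ᵥ (G *ᵥ v) := by
      rw [Matrix.mulVec_mulVec, Matrix.mulVec_mulVec, hrel]
    rw [hg, hg, hcv, hcκv, zero_smul, add_zero, add_zero, Matrix.mulVec_smul] at h1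
    have h3 : κ *ᵥ v = κ₁ *ᵥ v := smul_right_injective (Fin n → F) hμ h1
    have h5 : (κ₁ - κ) *ᵥ v = 0 := by
      rw [Matrix.sub_mulVec, h3, sub_self]
    have h6 := Cfsg.Agent.Helper42FieldSub.eq_zero_of_mulVec_eq_zero K hK
      (K.sub_mem hκ1 hκ) hv0 h5
    exact hcase (sub_eq_zero.1 h6)

end basics

section oddchar

variable {F : Type*} [Field F] [Fintype F] {n : ℕ}

/-- the quotient of two non-squares of a finite field is a square -/
theorem exists_sq_mul_of_nonsquare (h2 : (2 : F) ≠ 0) (z Δ : F) (hz : ¬ IsSquare z)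
    (hΔ : ¬ IsSquare Δ) : ∃ s : F, s ≠ 0 ∧ z = s * s * Δ := by
  have hchar := ringChar_ne_two_of_two_ne_zero h2
  have hz0 : z ≠ 0 := by
    rintro rfl
    exact hz ⟨0, by simp⟩
  have hΔ0 : Δ ≠ 0 := by
    rintro rfl
    exact hΔ ⟨0, by simp⟩
  have hz1 : z ^ (Fintype.card F / 2) = -1 := by
    rcases FiniteField.pow_dichotomy hchar hz0 with h | h
    · exact absurd ((FiniteField.isSquare_iff hchar hz0).2 h) hz
    · exact h
  have hΔ1 : Δ ^ (Fintype.card F / 2) = -1 := by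
    rcases FiniteField.pow_dichotomy hchar hΔ0 with h | h
    · exact absurd ((FiniteField.isSquare_iff hchar hΔ0).2 h) hΔ
    · exact h
  have hq0 : z / Δ ≠ 0 := div_ne_zero hz0 hΔ0
  have hsq : IsSquare (z / Δ) := by
    rw [FiniteField.isSquare_iff hchar hq0, div_pow, hz1, hΔ1]
    norm_num
  obtain ⟨s, hs⟩ := hsq
  refine ⟨s, ?_, ?_⟩
  · rintro rfl
    rw [mul_zero] at hs
    exact hq0 hs
  · rw [← hs]
    field_simp

/-- in odd characteristic, a field subalgebra of degree two contains a square root of every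
non-square scalar, and is spanned by `1` and that square root -/
theorem exists_sqrt_generator (h2 : (2 : F) ≠ 0) (K : Subalgebra F (Matrix (Fin n) (Fin n) F))
    (hK : Cfsg.Geo.IsFieldSubalgebra 2 K) (z : F) (hz : ¬ IsSquare z) :
    ∃ κ ∈ K, κ * κ = z • (1 : Matrix (Fin n) (Fin n) F) ∧
      ∀ k ∈ K, ∃ a b : F, k = a • (1 : Matrix (Fin n) (Fin n) F) + b • κ := by
  classical
  obtain ⟨κ₀, hκ₀, hns, hgen⟩ := exists_generator K hK
  obtain ⟨a, b, hab⟩ := hgen (κ₀ * κ₀) (K.mul_mem hκ₀ hκ₀)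
  set κ₁ : Matrix (Fin n) (Fin n) F := (2 : F) • κ₀ - b • 1 with hκ₁
  have hκ₁K : κ₁ ∈ K := K.sub_mem (K.smul_mem hκ₀ _) (K.smul_mem K.one_mem _)
  set Δ : F := 4 * a + b * b with hΔ
  have hκ₁sq : κ₁ * κ₁ = Δ • (1 : Matrix (Fin n) (Fin n) F) := by
    rw [hκ₁, hΔ]
    simp only [Matrix.sub_mul, Matrix.mul_sub, Matrix.smul_mul, Matrix.mul_smul, Matrix.mul_one,
      Matrix.one_mul, hab]
    module
  -- `Δ` is not a square
  have hΔns : ¬ IsSquare Δ := by
    rintro ⟨s, hs⟩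
    have hprod : (κ₁ - s • 1) * (κ₁ + s • 1) = 0 := by
      simp only [Matrix.sub_mul, Matrix.mul_add, Matrix.smul_mul, Matrix.mul_smul, Matrix.mul_one,
        Matrix.one_mul, hκ₁sq, hs]
      module
    have hm1 : κ₁ - s • 1 ∈ K := K.sub_mem hκ₁K (K.smul_mem K.one_mem _)
    have hp1 : κ₁ + s • 1 ∈ K := K.add_mem hκ₁K (K.smul_mem K.one_mem _)
    have hscal : ∀ c : F, κ₁ ≠ c • (1 : Matrix (Fin n) (Fin n) F) := by
      intro c hc
      apply hns ((c + b) / 2)
      have h3 : (2 : F) • κ₀ = (c + b) • (1 : Matrix (Fin n) (Fin n) F) := by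
        rw [add_smul, ← hc, hκ₁]
        abel
      calc κ₀ = (2 : F)⁻¹ • ((2 : F) • κ₀) := by rw [smul_smul, inv_mul_cancel₀ h2, one_smul]
        _ = ((c + b) / 2) • (1 : Matrix (Fin n) (Fin n) F) := by
            rw [h3, smul_smul]
            congr 1
            field_simp
    by_cases h0 : κ₁ - s • 1 = 0
    · exact hscal s (sub_eq_zero.1 h0)
    · obtain ⟨y, hy, hxy⟩ := hK.inv _ hm1 h0
      have hyx : y * (κ₁ - s • 1) = 1 := by
        rw [← hK.comm _ hm1 y hy]
        exact hxy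
      have h5 : κ₁ + s • 1 = 0 := by
        calc κ₁ + s • 1 = (y * (κ₁ - s • 1)) * (κ₁ + s • 1) := by rw [hyx, Matrix.one_mul]
          _ = 0 := by rw [Matrix.mul_assoc, hprod, Matrix.mul_zero]
      apply hscal (-s)
      rw [neg_smul]
      exact eq_neg_of_add_eq_zero_left h5
  obtain ⟨s, hs0, hs⟩ := exists_sq_mul_of_nonsquare h2 z Δ hz hΔns
  refine ⟨s • κ₁, K.smul_mem hκ₁K _, ?_, ?_⟩
  · rw [Matrix.smul_mul, Matrix.mul_smul, hκ₁sq, smul_smul, smul_smul, hs]
  · intro k hk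
    obtain ⟨a', b', hab'⟩ := hgen k hk
    refine ⟨a' + b' * b / 2, b' / (2 * s), ?_⟩
    rw [hab', hκ₁, smul_smul]
    have h4 : b' / (2 * s) * s = b' / 2 := by
      field_simp
    rw [h4, smul_sub, smul_smul, smul_smul, add_smul]
    have h5 : b' / 2 * 2 = b' := by field_simp
    have h6 : b' / 2 * b = b' * b / 2 := by ring
    rw [h5, h6]
    abel

end oddchar

section conj

universe v

variable {F : Type v} [Field F] [Fintype F] {n : ℕ}

variable {S : Type} [Fintype S] [DecidableEq S]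

omit [Fintype F] in
/-- two matrices of the same size with the same non-square scalar square are similar -/
theorem exists_conj_of_sq_eq (h2 : (2 : F) ≠ 0) (hS : Fintype.card S = n)
    (A : Matrix (Fin n) (Fin n) F) (B : Matrix S S F) (z : F) (hz : ¬ IsSquare z)
    (hA : A * A = z • 1) (hB : B * B = z • 1) :
    ∃ ψ : (Fin n → F) ≃ₗ[F] (S → F), ∀ v, ψ (A *ᵥ v) = B *ᵥ ψ v := by
  have hz0 : z ≠ 0 := by
    rintro rfl
    exact hz ⟨0, by simp⟩
  obtain ⟨j, hj, hcpA⟩ := charpoly_of_sq_nonsquare A z hA hz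
  obtain ⟨j', hj', hcpB⟩ := charpoly_of_sq_nonsquare B z hB hz
  rw [Fintype.card_fin] at hj
  have hjj : j' = j := by omega
  rw [hjj] at hcpB
  obtain ⟨ψ, hψ⟩ := Cfsg.Agent.Lib.Helper40_Semisimple.exists_conj_of_charpoly_eq (F := F) n
    (Matrix.toLin' A : Module.End F (Fin n → F)) (Matrix.toLin' B : Module.End F (S → F))
    (Module.finrank_fin_fun F) (isSemisimple_of_sq h2 A z hz0 hA) (isSemisimple_of_sq h2 B z hz0 hB)
    (by rw [Matrix.charpoly_toLin', Matrix.charpoly_toLin', hcpA, hcpB])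
  exact ⟨ψ, fun v => hψ v⟩

omit [DecidableEq S] [Fintype S] in
/-- the centraliser of a matrix with non-square scalar square contains matrices of every non-zero
determinant -/
theorem exists_cent_det_of_sq_nonsquare (h2 : (2 : F) ≠ 0) (hn : 1 ≤ n)
    (x : Matrix (Fin n) (Fin n) F) (z : F) (hz : ¬ IsSquare z) (hx : x * x = z • 1) (δ : F) : ∃ D : Matrix (Fin n) (Fin n) F, D * x = x * D ∧ D.det = δ := by
  classical
  have hz0 : z ≠ 0 := by
    rintro rfl
    exact hz ⟨0, by simp⟩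
  obtain ⟨m, hnm, -⟩ := charpoly_of_sq_nonsquare x z hx hz
  rw [Fintype.card_fin] at hnm
  have hm : 0 < m := by omega
  set M₂ : Matrix (Fin 2) (Fin 2) F := !![0, z; 1, 0] with hM₂
  set X₀ : Matrix (Fin 2 × Fin m) (Fin 2 × Fin m) F := Matrix.blockDiagonal (fun _ => M₂) with hX₀
  have hM₂sq : M₂ * M₂ = z • 1 := by
    rw [hM₂]
    ext i j
    fin_cases i <;> fin_cases j <;> simp [Matrix.mul_apply, Fin.sum_univ_two]
  have hX₀sq : X₀ * X₀ = z • 1 := by
    rw [hX₀, ← Matrix.blockDiagonal_mul]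
    have : (fun k : Fin m => M₂ * M₂) = z • (1 : Fin m → Matrix (Fin 2) (Fin 2) F) := by
      funext k
      rw [hM₂sq]
      rfl
    rw [this, Matrix.blockDiagonal_smul, Matrix.blockDiagonal_one]
  have hcard : Fintype.card (Fin 2 × Fin m) = n := by
    rw [Fintype.card_prod, Fintype.card_fin, Fintype.card_fin, hnm]
  obtain ⟨ψ, hψ⟩ := exists_conj_of_sq_eq h2 hcard x X₀ z hz hx hX₀sq
  have hchar := ringChar_ne_two_of_two_ne_zero h2
  have hodd := FiniteField.odd_card_of_char_ne_two hchar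
  obtain ⟨α, β, hαβ⟩ := FiniteField.exists_root_sum_quadratic (R := F)
    (f := X ^ 2 - C δ) (g := - C z * X ^ 2)
    (by rw [Polynomial.degree_X_pow_sub_C (by norm_num)]; rfl)
    (by
      rw [← C_neg, Polynomial.degree_C_mul_X_pow 2 (neg_ne_zero.2 hz0)]
      rfl) hodd
  have hnorm : α ^ 2 - z * β ^ 2 = δ := by
    simp only [eval_sub, eval_pow, eval_X, eval_C, eval_mul, eval_neg] at hαβ
    linear_combination hαβ
  set k₀ : Fin m := ⟨0, hm⟩ with hk₀
  set N₂ : Matrix (Fin 2) (Fin 2) F := !![α, z * β; β, α] with hN₂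
  set D₀ : Matrix (Fin 2 × Fin m) (Fin 2 × Fin m) F :=
    Matrix.blockDiagonal (fun k => if k = k₀ then N₂ else 1) with hD₀
  have hD₀X : D₀ * X₀ = X₀ * D₀ := by
    rw [hD₀, hX₀, ← Matrix.blockDiagonal_mul, ← Matrix.blockDiagonal_mul]
    congr 1
    funext k
    by_cases hk : k = k₀
    · rw [if_pos hk, hM₂, hN₂]
      ext i j
      fin_cases i <;> fin_cases j <;> simp [Matrix.mul_apply, Fin.sum_univ_two, mul_comm]
    · rw [if_neg hk, Matrix.one_mul, Matrix.mul_one]
  have hD₀det : D₀.det = δ := by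
    rw [hD₀, Matrix.det_blockDiagonal, Finset.prod_eq_single k₀]
    · rw [if_pos rfl, hN₂, Matrix.det_fin_two_of, ← hnorm]
      ring
    · intro k _ hk
      rw [if_neg hk, Matrix.det_one]
    · intro h
      exact absurd (Finset.mem_univ k₀) h
  have hψs : ∀ v, ψ.symm (X₀ *ᵥ v) = x *ᵥ ψ.symm v := by
    intro v
    apply ψ.injective
    rw [hψ, LinearEquiv.apply_symm_apply, LinearEquiv.apply_symm_apply]
  obtain ⟨D, hD, hDdet⟩ := cent_transport ψ.symm X₀ x hψs D₀ hD₀X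
  exact ⟨D, hD, by rw [hDdet, hD₀det]⟩

omit [Fintype F] [DecidableEq S] in
/-- transfer: an element of `SL_n(F)` similar to a model matrix that commutes with a model of a
generator of `K`, and whose centraliser contains every determinant, is conjugate under `SL_n(F)`
into the normaliser of `K` -/
theorem exists_conj_into_normK (K : Subalgebra F (Matrix (Fin n) (Fin n) F))
    (κ : Matrix (Fin n) (Fin n) F)
    (hgen : ∀ k ∈ K, ∃ a b : F, k = a • (1 : Matrix (Fin n) (Fin n) F) + b • κ)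
    (x : Matrix.SpecialLinearGroup (Fin n) F) (X₀ κ' : Matrix S S F) (hcomm : X₀ * κ' = κ' * X₀)
    (ψ : (Fin n → F) ≃ₗ[F] (S → F))
    (hψ : ∀ v, ψ ((x : Matrix (Fin n) (Fin n) F) *ᵥ v) = X₀ *ᵥ ψ v)
    (ψ₀ : (Fin n → F) ≃ₗ[F] (S → F)) (hψ₀ : ∀ v, ψ₀ (κ *ᵥ v) = κ' *ᵥ ψ₀ v)
    (hcent : ∀ δ : F, δ ≠ 0 → ∃ D : Matrix (Fin n) (Fin n) F,
      D * (x : Matrix (Fin n) (Fin n) F) = (x : Matrix (Fin n) (Fin n) F) * D ∧ D.det = δ) :
    ∃ P : Matrix.SpecialLinearGroup (Fin n) F, P⁻¹ * x * P ∈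
      ((Cfsg.Geo.subalgebraNormalizer K).comap
        (Matrix.SpecialLinearGroup.toGL : Matrix.SpecialLinearGroup (Fin n) F →* GL (Fin n) F)) := by
  classical
  set θ : (Fin n → F) ≃ₗ[F] (Fin n → F) := ψ.trans ψ₀.symm with hθ
  set A : Matrix (Fin n) (Fin n) F :=
    LinearMap.toMatrix' (θ.symm : (Fin n → F) →ₗ[F] (Fin n → F)) with hA
  set A' : Matrix (Fin n) (Fin n) F :=
    LinearMap.toMatrix' (θ : (Fin n → F) →ₗ[F] (Fin n → F)) with hA'
  have hAA' : A * A' = 1 := by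
    rw [hA, hA', ← LinearMap.toMatrix'_comp]
    simp
  have hAv : ∀ u, A *ᵥ u = θ.symm u := by
    intro u
    rw [hA, ← Matrix.toLin'_apply, Matrix.toLin'_toMatrix']
    rfl
  have hA'v : ∀ u, A' *ᵥ u = θ u := by
    intro u
    rw [hA', ← Matrix.toLin'_apply, Matrix.toLin'_toMatrix']
    rfl
  have hAdet : A.det ≠ 0 := by
    intro h0
    have := congrArg Matrix.det hAA'
    rw [Matrix.det_mul, h0, zero_mul, Matrix.det_one] at this
    exact zero_ne_one this
  set X : Matrix (Fin n) (Fin n) F := (x : Matrix (Fin n) (Fin n) F) with hX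
  set g : Matrix (Fin n) (Fin n) F := A' * X * A with hg
  have hψ₀θ : ∀ u, ψ₀ (θ u) = ψ u := by
    intro u
    rw [hθ, LinearEquiv.trans_apply, LinearEquiv.apply_symm_apply]
  have hgv : ∀ u, ψ₀ (g *ᵥ u) = X₀ *ᵥ ψ₀ u := by
    intro u
    rw [hg, ← Matrix.mulVec_mulVec, ← Matrix.mulVec_mulVec, hA'v, hAv, hψ₀θ, hψ, ← hψ₀θ,
      LinearEquiv.apply_symm_apply]
  have hgκ : g * κ = κ * g := by
    apply Matrix.mulVec_injective
    funext u
    apply ψ₀.injective
    have e1 : (g * κ) *ᵥ u = g *ᵥ (κ *ᵥ u) := (Matrix.mulVec_mulVec u g κ).symm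
    have e2 : (κ * g) *ᵥ u = κ *ᵥ (g *ᵥ u) := (Matrix.mulVec_mulVec u κ g).symm
    rw [e1, e2, hgv, hψ₀, hψ₀, hgv, Matrix.mulVec_mulVec, Matrix.mulVec_mulVec, hcomm]
  obtain ⟨D, hDX, hDdet⟩ := hcent A.det⁻¹ (inv_ne_zero hAdet)
  have hPdet : (D * A).det = 1 := by
    rw [Matrix.det_mul, hDdet, inv_mul_cancel₀ hAdet]
  set P : Matrix.SpecialLinearGroup (Fin n) F := ⟨D * A, hPdet⟩ with hP
  refine ⟨P, ?_⟩
  have hPg : (P : Matrix (Fin n) (Fin n) F) * g = X * (P : Matrix (Fin n) (Fin n) F) := by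
    show D * A * (A' * X * A) = X * (D * A)
    calc D * A * (A' * X * A) = D * (A * A') * X * A := by simp only [Matrix.mul_assoc]
      _ = D * X * A := by rw [hAA', Matrix.mul_one]
      _ = X * (D * A) := by rw [hDX]; simp only [Matrix.mul_assoc]
  have hconj : ((P⁻¹ * x * P : Matrix.SpecialLinearGroup (Fin n) F) : Matrix (Fin n) (Fin n) F) =
      g := by
    rw [Matrix.SpecialLinearGroup.coe_mul, Matrix.SpecialLinearGroup.coe_mul, Matrix.mul_assoc,
      ← hX, ← hPg, ← Matrix.mul_assoc, ← Matrix.SpecialLinearGroup.coe_mul, inv_mul_cancel,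
      Matrix.SpecialLinearGroup.coe_one, Matrix.one_mul]
  rw [Subgroup.mem_comap]
  apply mem_normalizer_of_commute K κ hgen
  show ((P⁻¹ * x * P : Matrix.SpecialLinearGroup (Fin n) F) : Matrix (Fin n) (Fin n) F) * κ =
    κ * ((P⁻¹ * x * P : Matrix.SpecialLinearGroup (Fin n) F) : Matrix (Fin n) (Fin n) F)
  rw [hconj]
  exact hgκ

omit [DecidableEq S] [Fintype S] in
/-- an element of `SL_n(F)` (`q` odd) whose square is a non-square scalar is conjugate under
`SL_n(F)` into the normaliser of any field subalgebra of degree two -/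
theorem exists_conj_normK_nonsquare (h2 : (2 : F) ≠ 0) (hn : 1 ≤ n)
    (K : Subalgebra F (Matrix (Fin n) (Fin n) F)) (hK : Cfsg.Geo.IsFieldSubalgebra 2 K)
    (x : Matrix.SpecialLinearGroup (Fin n) F) (z : F) (hz : ¬ IsSquare z)
    (hx : (x : Matrix (Fin n) (Fin n) F) * (x : Matrix (Fin n) (Fin n) F) = z • 1) :
    ∃ P : Matrix.SpecialLinearGroup (Fin n) F, P⁻¹ * x * P ∈
      ((Cfsg.Geo.subalgebraNormalizer K).comap
        (Matrix.SpecialLinearGroup.toGL : Matrix.SpecialLinearGroup (Fin n) F →* GL (Fin n) F)) := by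
  classical
  obtain ⟨κ, -, hκsq, hgen⟩ := exists_sqrt_generator h2 K hK z hz
  obtain ⟨ψ, hψ⟩ := exists_conj_of_sq_eq h2 (Fintype.card_fin n)
    (x : Matrix (Fin n) (Fin n) F) κ z hz hx hκsq
  exact exists_conj_into_normK K κ hgen x κ κ rfl ψ hψ (LinearEquiv.refl F (Fin n → F))
    (fun v => rfl) (fun δ _ => exists_cent_det_of_sq_nonsquare h2 hn _ z hz hx δ)

omit [Fintype F] [DecidableEq S] [Fintype S] in
/-- on a finite type of even cardinality there is a matrix with any prescribed scalar square -/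
theorem exists_sqrt_matrix (T : Type*) [Fintype T] [DecidableEq T] (hT : Even (Fintype.card T))
    (z : F) : ∃ B : Matrix T T F, B * B = z • 1 := by
  obtain ⟨k, hk⟩ := hT
  have hcard : Fintype.card (Fin 2 × Fin k) = Fintype.card T := by
    rw [Fintype.card_prod, Fintype.card_fin, Fintype.card_fin, hk, two_mul]
  set e : Fin 2 × Fin k ≃ T := Fintype.equivOfCardEq hcard with he
  set M₂ : Matrix (Fin 2) (Fin 2) F := !![0, z; 1, 0] with hM₂
  set X₀ : Matrix (Fin 2 × Fin k) (Fin 2 × Fin k) F := Matrix.blockDiagonal (fun _ => M₂) with hX₀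
  have hM₂sq : M₂ * M₂ = z • 1 := by
    rw [hM₂]
    ext i j
    fin_cases i <;> fin_cases j <;> simp [Matrix.mul_apply, Fin.sum_univ_two]
  have hX₀sq : X₀ * X₀ = z • 1 := by
    rw [hX₀, ← Matrix.blockDiagonal_mul]
    have : (fun k' : Fin k => M₂ * M₂) = z • (1 : Fin k → Matrix (Fin 2) (Fin 2) F) := by
      funext k'
      rw [hM₂sq]
      rfl
    rw [this, Matrix.blockDiagonal_smul, Matrix.blockDiagonal_one]
  refine ⟨Matrix.reindex e e X₀, ?_⟩
  rw [Matrix.reindex_apply, Matrix.submatrix_mul_equiv, hX₀sq, Matrix.submatrix_smul]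
  show z • (Matrix.submatrix (1 : Matrix (Fin 2 × Fin k) (Fin 2 × Fin k) F) e.symm e.symm) = z • 1
  rw [Matrix.submatrix_one_equiv]

/-- an element of `SL_n(F)` (`n` even, `q` odd) whose square is the square `μ ^ 2` of a scalar
with `μ ^ n ≠ -1` is conjugate under `SL_n(F)` into the normaliser of any field subalgebra of
degree two -/
theorem exists_conj_normK_of_sq (h2 : (2 : F) ≠ 0) (hn : 1 ≤ n) (hneven : Even n)
    (K : Subalgebra F (Matrix (Fin n) (Fin n) F)) (hK : Cfsg.Geo.IsFieldSubalgebra 2 K)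
    (x : Matrix.SpecialLinearGroup (Fin n) F) (μ : F) (hμ : μ ≠ 0)
    (hx : (x : Matrix (Fin n) (Fin n) F) * (x : Matrix (Fin n) (Fin n) F) = (μ * μ) • 1)
    (hneg : μ ^ n ≠ -1) :
    ∃ P : Matrix.SpecialLinearGroup (Fin n) F, P⁻¹ * x * P ∈
      ((Cfsg.Geo.subalgebraNormalizer K).comap
        (Matrix.SpecialLinearGroup.toGL : Matrix.SpecialLinearGroup (Fin n) F →* GL (Fin n) F)) := by
  classical
  have hchar := ringChar_ne_two_of_two_ne_zero h2
  obtain ⟨z₀, hz₀⟩ := FiniteField.exists_nonsquare hchar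
  obtain ⟨κ, -, hκsq, hgen⟩ := exists_sqrt_generator h2 K hK z₀ hz₀
  set y : Matrix (Fin n) (Fin n) F := μ⁻¹ • (x : Matrix (Fin n) (Fin n) F) with hy
  have hxy : (x : Matrix (Fin n) (Fin n) F) = μ • y := by
    rw [hy, smul_smul, mul_inv_cancel₀ hμ, one_smul]
  have hyy : y * y = 1 := by
    rw [hy, Matrix.smul_mul, Matrix.mul_smul, hx, smul_smul, smul_smul]
    have : μ⁻¹ * μ⁻¹ * (μ * μ) = 1 := by field_simp
    rw [this, one_smul]
  have hydet : y.det = (μ ^ n)⁻¹ := by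
    rw [hy, Matrix.det_smul, x.2, mul_one, Fintype.card_fin, inv_pow]
  obtain ⟨C₁, ε, hC₁det, hyC⟩ := exists_eigen_conj h2 y hyy
  set sgn : Fin n → F := fun j => if ε j then (1 : F) else -1 with hsgn
  have hC₁u : IsUnit C₁.det := isUnit_iff_ne_zero.2 hC₁det
  have hCi : C₁⁻¹ * C₁ = 1 := Matrix.nonsing_inv_mul _ hC₁u
  have hCi' : C₁ * C₁⁻¹ = 1 := Matrix.mul_nonsing_inv _ hC₁u
  have hCy : C₁⁻¹ * y = Matrix.diagonal sgn * C₁⁻¹ := by
    calc C₁⁻¹ * y = C₁⁻¹ * (y * C₁) * C₁⁻¹ := by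
          rw [Matrix.mul_assoc, Matrix.mul_assoc, hCi', Matrix.mul_one]
      _ = Matrix.diagonal sgn * C₁⁻¹ := by
          rw [hyC, ← Matrix.mul_assoc, hCi, Matrix.one_mul]
  -- the number of eigenvalues `-1` is even
  set b : ℕ := (Finset.univ.filter (fun j : Fin n => ¬ ε j = true)).card with hb
  have hdetE : (Matrix.diagonal sgn).det = (-1) ^ b := by
    rw [Matrix.det_diagonal, hsgn, Finset.prod_ite, Finset.prod_const_one, one_mul,
      Finset.prod_const]
  have hbeven : Even b := by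
    by_contra hodd
    rw [Nat.not_even_iff_odd] at hodd
    have h1 := congrArg Matrix.det hyC
    rw [Matrix.det_mul, Matrix.det_mul, hdetE, hodd.neg_one_pow, hydet, mul_comm] at h1
    have h3 := mul_left_cancel₀ hC₁det h1
    apply hneg
    rw [← inv_inv (μ ^ n), h3]
    norm_num
  have hcardF : Fintype.card {j : Fin n // ¬ ε j = true} = b := by
    rw [Fintype.card_subtype]
  have hcardT : Even (Fintype.card {j : Fin n // ε j = true}) := by
    have h1 := Fintype.card_congr (Equiv.sumCompl (fun j : Fin n => ε j = true))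
    rw [Fintype.card_sum, Fintype.card_fin, hcardF] at h1
    have h3 : Fintype.card {j : Fin n // ε j = true} = n - b := by omega
    rw [h3]
    exact (Nat.even_sub (by omega)).2 ⟨fun _ => hbeven, fun _ => hneven⟩
  obtain ⟨BT, hBT⟩ := exists_sqrt_matrix (F := F) {j : Fin n // ε j = true} hcardT z₀
  obtain ⟨BF, hBF⟩ := exists_sqrt_matrix (F := F) {j : Fin n // ¬ ε j = true}
    (by rw [hcardF]; exact hbeven) z₀
  set sc := Equiv.sumCompl (fun j : Fin n => ε j = true) with hsc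
  set κ' : Matrix ({j : Fin n // ε j = true} ⊕ {j : Fin n // ¬ ε j = true})
    ({j : Fin n // ε j = true} ⊕ {j : Fin n // ¬ ε j = true}) F := Matrix.fromBlocks BT 0 0 BF
    with hκ'
  set X₀ : Matrix ({j : Fin n // ε j = true} ⊕ {j : Fin n // ¬ ε j = true})
    ({j : Fin n // ε j = true} ⊕ {j : Fin n // ¬ ε j = true}) F :=
    Matrix.fromBlocks (μ • 1) 0 0 ((-μ) • 1) with hX₀
  have hcomm : X₀ * κ' = κ' * X₀ := by
    rw [hX₀, hκ', Matrix.fromBlocks_multiply, Matrix.fromBlocks_multiply]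
    congr 1 <;> simp
  have hκ'sq : κ' * κ' = z₀ • 1 := by
    rw [hκ', Matrix.fromBlocks_multiply, hBT, hBF]
    simp only [Matrix.mul_zero, Matrix.zero_mul, add_zero, zero_add]
    rw [← Matrix.fromBlocks_one, Matrix.fromBlocks_smul, smul_zero, smul_zero]
  have hcardS : Fintype.card ({j : Fin n // ε j = true} ⊕ {j : Fin n // ¬ ε j = true}) = n :=
    (Fintype.card_congr sc).trans (Fintype.card_fin n)
  obtain ⟨ψ₀, hψ₀⟩ := exists_conj_of_sq_eq h2 hcardS κ κ' z₀ hz₀ hκsq hκ'sq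
  set ψ : (Fin n → F) ≃ₗ[F] ({j : Fin n // ε j = true} ⊕ {j : Fin n // ¬ ε j = true} → F) :=
    (Matrix.toLin'OfInv hCi' hCi).trans (LinearEquiv.funCongrLeft F F sc) with hψ
  have hψv : ∀ v, ψ v = (C₁⁻¹ *ᵥ v) ∘ sc := fun v => rfl
  refine exists_conj_into_normK K κ hgen x X₀ κ' hcomm ψ ?_ ψ₀ hψ₀ ?_
  · intro v
    have hkey : C₁⁻¹ *ᵥ (y *ᵥ v) = Matrix.diagonal sgn *ᵥ (C₁⁻¹ *ᵥ v) := by
      rw [Matrix.mulVec_mulVec, hCy, ← Matrix.mulVec_mulVec]
    rw [hψv, hψv, hxy, Matrix.smul_mulVec, Matrix.mulVec_smul, hkey]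
    funext a
    rcases a with t | t
    · have ht : sgn t.1 = 1 := by
        rw [hsgn]
        simp only
        rw [if_pos t.2]
      simp only [hX₀, hsc, Function.comp_apply, Pi.smul_apply, Matrix.mulVec_diagonal,
        Equiv.sumCompl_apply_inl, Matrix.fromBlocks_mulVec, Sum.elim_inl, Matrix.smul_mulVec,
        Matrix.one_mulVec, Matrix.zero_mulVec, add_zero, ht, one_mul, smul_eq_mul]
    · have ht : sgn t.1 = -1 := by
        rw [hsgn]
        simp only
        rw [if_neg t.2]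
      simp only [hX₀, hsc, Function.comp_apply, Pi.smul_apply, Matrix.mulVec_diagonal,
        Equiv.sumCompl_apply_inr, Matrix.fromBlocks_mulVec, Sum.elim_inr, Matrix.smul_mulVec,
        Matrix.one_mulVec, Matrix.zero_mulVec, zero_add, ht, smul_eq_mul]
      ring
  · intro δ hδ
    set Δ : Matrix (Fin n) (Fin n) F :=
      Matrix.diagonal (Function.update (1 : Fin n → F) ⟨0, hn⟩ δ) with hΔ
    have hΔE : Δ * Matrix.diagonal sgn = Matrix.diagonal sgn * Δ := by
      rw [hΔ, Matrix.diagonal_mul_diagonal, Matrix.diagonal_mul_diagonal]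
      congr 1
      funext j
      exact mul_comm _ _
    refine ⟨C₁ * Δ * C₁⁻¹, ?_, ?_⟩
    · rw [hxy, Matrix.mul_smul, Matrix.smul_mul]
      congr 1
      calc C₁ * Δ * C₁⁻¹ * y = C₁ * Δ * (C₁⁻¹ * y) := by simp only [Matrix.mul_assoc]
        _ = C₁ * (Δ * Matrix.diagonal sgn) * C₁⁻¹ := by rw [hCy]; simp only [Matrix.mul_assoc]
        _ = (C₁ * Matrix.diagonal sgn) * Δ * C₁⁻¹ := by rw [hΔE]; simp only [Matrix.mul_assoc]
        _ = y * (C₁ * Δ * C₁⁻¹) := by rw [← hyC]; simp only [Matrix.mul_assoc]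
    · rw [Matrix.det_mul, Matrix.det_mul, mul_comm, ← mul_assoc, ← Matrix.det_mul, hCi,
        Matrix.det_one, one_mul, hΔ, Matrix.det_diagonal,
        Finset.prod_update_of_mem (Finset.mem_univ _)]
      simp

end conj

section two

variable {F : Type*} [Field F]

/-- a non-scalar `2 × 2` matrix with square one is similar to the swap matrix -/
theorem exists_swap_conj (A : Matrix (Fin 2) (Fin 2) F) (hA : A * A = 1)
    (hns : ∀ c : F, A ≠ c • (1 : Matrix (Fin 2) (Fin 2) F)) :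
    ∃ C : Matrix (Fin 2) (Fin 2) F, C.det ≠ 0 ∧ A * C = C * !![0, 1; 1, 0] := by
  -- a vector `v` with `v`, `A v` independent
  have key : ∀ v : Fin 2 → F, v 0 * (A *ᵥ v) 1 - (A *ᵥ v) 0 * v 1 ≠ 0 →
      ∃ C : Matrix (Fin 2) (Fin 2) F, C.det ≠ 0 ∧ A * C = C * !![0, 1; 1, 0] := by
    intro v hv
    refine ⟨Matrix.of ![![v 0, (A *ᵥ v) 0], ![v 1, (A *ᵥ v) 1]], ?_, ?_⟩
    · rw [Matrix.det_fin_two_of]
      exact hv
    · have h2 : A *ᵥ (A *ᵥ v) = v := by
        rw [Matrix.mulVec_mulVec, hA, Matrix.one_mulVec]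
      have h20 := congrFun h2 0
      have h21 := congrFun h2 1
      simp only [Matrix.mulVec, dotProduct, Fin.sum_univ_two] at h20 h21
      ext i j
      fin_cases i <;> fin_cases j <;>
        simp [Matrix.mul_apply, Fin.sum_univ_two, Matrix.mulVec, dotProduct, h20, h21]
  by_cases hc : A 1 0 ≠ 0
  · apply key ![1, 0]
    simp [Matrix.mulVec, dotProduct, Fin.sum_univ_two, hc]
  · push Not at hc
    by_cases hb : A 0 1 ≠ 0
    · apply key ![0, 1]
      simp [Matrix.mulVec, dotProduct, Fin.sum_univ_two, hb]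
    · push Not at hb
      have had : A 0 0 ≠ A 1 1 := by
        intro h
        apply hns (A 0 0)
        ext i j
        fin_cases i <;> fin_cases j <;> simp [hb, hc, h]
      apply key ![1, 1]
      simp only [Matrix.mulVec, dotProduct, Fin.sum_univ_two, Matrix.cons_val_zero,
        Matrix.cons_val_one, hb, hc]
      intro h
      apply had
      linear_combination -h

variable [Fintype F]

/-- for `n = 2`: an element of `SL_2(F)` with non-zero square scalar square is conjugate under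
`SL_2(F)` into the normaliser of any field subalgebra of degree two -/
theorem exists_conj_normK_two (K : Subalgebra F (Matrix (Fin 2) (Fin 2) F))
    (hK : Cfsg.Geo.IsFieldSubalgebra 2 K) (x : Matrix.SpecialLinearGroup (Fin 2) F) (μ : F)
    (hμ : μ ≠ 0)
    (hx : (x : Matrix (Fin 2) (Fin 2) F) * (x : Matrix (Fin 2) (Fin 2) F) = (μ * μ) • 1)
    (hns : ∀ c : F, (x : Matrix (Fin 2) (Fin 2) F) ≠ c • (1 : Matrix (Fin 2) (Fin 2) F)) :
    ∃ P : Matrix.SpecialLinearGroup (Fin 2) F, P⁻¹ * x * P ∈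
      ((Cfsg.Geo.subalgebraNormalizer K).comap
        (Matrix.SpecialLinearGroup.toGL : Matrix.SpecialLinearGroup (Fin 2) F →* GL (Fin 2) F)) := by
  classical
  obtain ⟨g₀, hg₀N, hg₀2, -, k, hkK, hkne⟩ :=
    Cfsg.Agent.Helper42FieldSub.exists_frobenius K (le_refl 2) hK
  set G₀ : Matrix (Fin 2) (Fin 2) F := (g₀ : Matrix (Fin 2) (Fin 2) F) with hG₀
  have hG₀sq : G₀ * G₀ = 1 := by
    have := congrArg (fun u : GL (Fin 2) F => (u : Matrix (Fin 2) (Fin 2) F)) hg₀2
    simpa [pow_two] using this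
  have hG₀i : G₀ * ((g₀⁻¹ : GL (Fin 2) F) : Matrix (Fin 2) (Fin 2) F) = 1 := by
    rw [hG₀, ← Units.val_mul, mul_inv_cancel, Units.val_one]
  have hG₀ns : ∀ c : F, G₀ ≠ c • (1 : Matrix (Fin 2) (Fin 2) F) := by
    intro c hc
    apply hkne
    rw [hc, Matrix.smul_mul, Matrix.one_mul, Matrix.smul_mul, ← Matrix.mul_smul]
    have : c • ((g₀⁻¹ : GL (Fin 2) F) : Matrix (Fin 2) (Fin 2) F) = 1 := by
      rw [← hG₀i, hc, Matrix.smul_mul, Matrix.one_mul]
    rw [this, Matrix.mul_one]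
  set y : Matrix (Fin 2) (Fin 2) F := μ⁻¹ • (x : Matrix (Fin 2) (Fin 2) F) with hy
  have hxy : (x : Matrix (Fin 2) (Fin 2) F) = μ • y := by
    rw [hy, smul_smul, mul_inv_cancel₀ hμ, one_smul]
  have hyy : y * y = 1 := by
    rw [hy, Matrix.smul_mul, Matrix.mul_smul, hx, smul_smul, smul_smul]
    have : μ⁻¹ * μ⁻¹ * (μ * μ) = 1 := by field_simp
    rw [this, one_smul]
  have hyns : ∀ c : F, y ≠ c • (1 : Matrix (Fin 2) (Fin 2) F) := by
    intro c hc
    apply hns (μ * c)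
    rw [hxy, hc, smul_smul]
  obtain ⟨Cy, hCydet, hCy⟩ := exists_swap_conj y hyy hyns
  obtain ⟨Cg, hCgdet, hCg⟩ := exists_swap_conj G₀ hG₀sq hG₀ns
  set W : Matrix (Fin 2) (Fin 2) F := !![0, 1; 1, 0] with hW
  have hCyu : IsUnit Cy.det := isUnit_iff_ne_zero.2 hCydet
  have hCgu : IsUnit Cg.det := isUnit_iff_ne_zero.2 hCgdet
  have hCgi : Cg⁻¹ * Cg = 1 := Matrix.nonsing_inv_mul _ hCgu
  have hCgi' : Cg * Cg⁻¹ = 1 := Matrix.mul_nonsing_inv _ hCgu
  have hCyi : Cy⁻¹ * Cy = 1 := Matrix.nonsing_inv_mul _ hCyu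
  have hCyi' : Cy * Cy⁻¹ = 1 := Matrix.mul_nonsing_inv _ hCyu
  have hWg : W * Cg⁻¹ = Cg⁻¹ * G₀ := by
    calc W * Cg⁻¹ = Cg⁻¹ * (Cg * W) * Cg⁻¹ := by
          rw [← Matrix.mul_assoc, hCgi, Matrix.one_mul]
      _ = Cg⁻¹ * G₀ := by
          rw [← hCg, Matrix.mul_assoc, Matrix.mul_assoc, hCgi', Matrix.mul_one]
  set A₀ : Matrix (Fin 2) (Fin 2) F := Cy * Cg⁻¹ with hA₀
  have hA₀det : A₀.det ≠ 0 := by
    rw [hA₀, Matrix.det_mul]
    apply mul_ne_zero hCydet
    intro h0
    have := congrArg Matrix.det hCgi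
    rw [Matrix.det_mul, h0, zero_mul, Matrix.det_one] at this
    exact zero_ne_one this
  have hyA₀ : y * A₀ = A₀ * G₀ := by
    rw [hA₀, ← Matrix.mul_assoc, hCy, Matrix.mul_assoc, hWg, Matrix.mul_assoc]
  -- the centraliser of `y` has every determinant
  obtain ⟨a, b, hab⟩ : ∃ a b : F, a * a - b * b = A₀.det⁻¹ := by
    by_cases h2 : (2 : F) = 0
    · have hch : ringChar F = 2 := CharP.ringChar_of_prime_eq_zero Nat.prime_two (by exact_mod_cast h2)
      obtain ⟨s, hs⟩ := FiniteField.isSquare_of_char_two hch A₀.det⁻¹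
      exact ⟨s, 0, by rw [hs]; ring⟩
    · refine ⟨(A₀.det⁻¹ + 1) / 2, (A₀.det⁻¹ - 1) / 2, ?_⟩
      field_simp
      ring
  set N₂ : Matrix (Fin 2) (Fin 2) F := !![a, b; b, a] with hN₂
  have hN₂W : N₂ * W = W * N₂ := by
    rw [hN₂, hW]
    ext i j
    fin_cases i <;> fin_cases j <;> simp [Matrix.mul_apply, Fin.sum_univ_two]
  set D : Matrix (Fin 2) (Fin 2) F := Cy * N₂ * Cy⁻¹ with hD
  have hyCi : Cy⁻¹ * y = W * Cy⁻¹ := by
    calc Cy⁻¹ * y = Cy⁻¹ * (y * Cy) * Cy⁻¹ := by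
          rw [Matrix.mul_assoc, Matrix.mul_assoc, hCyi', Matrix.mul_one]
      _ = W * Cy⁻¹ := by
          rw [hCy, ← Matrix.mul_assoc, hCyi, Matrix.one_mul]
  have hDy : D * y = y * D := by
    calc D * y = Cy * N₂ * (Cy⁻¹ * y) := by rw [hD]; simp only [Matrix.mul_assoc]
      _ = Cy * (N₂ * W) * Cy⁻¹ := by rw [hyCi]; simp only [Matrix.mul_assoc]
      _ = (Cy * W) * N₂ * Cy⁻¹ := by rw [hN₂W]; simp only [Matrix.mul_assoc]
      _ = y * D := by rw [← hCy, hD]; simp only [Matrix.mul_assoc]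
  have hDdet : D.det = A₀.det⁻¹ := by
    rw [hD, Matrix.det_mul, Matrix.det_mul, mul_comm, ← mul_assoc, ← Matrix.det_mul, hCyi,
      Matrix.det_one, one_mul, hN₂, Matrix.det_fin_two_of, hab]
  have hPdet : (D * A₀).det = 1 := by
    rw [Matrix.det_mul, hDdet, inv_mul_cancel₀ hA₀det]
  set P : Matrix.SpecialLinearGroup (Fin 2) F := ⟨D * A₀, hPdet⟩ with hP
  refine ⟨P, ?_⟩
  have hPg : (P : Matrix (Fin 2) (Fin 2) F) * (μ • G₀) =
      (x : Matrix (Fin 2) (Fin 2) F) * (P : Matrix (Fin 2) (Fin 2) F) := by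
    show D * A₀ * (μ • G₀) = (x : Matrix (Fin 2) (Fin 2) F) * (D * A₀)
    rw [hxy, Matrix.mul_smul, Matrix.smul_mul]
    congr 1
    calc D * A₀ * G₀ = D * (y * A₀) := by rw [hyA₀, Matrix.mul_assoc]
      _ = y * (D * A₀) := by rw [← Matrix.mul_assoc, hDy, Matrix.mul_assoc]
  have hconj : ((P⁻¹ * x * P : Matrix.SpecialLinearGroup (Fin 2) F) : Matrix (Fin 2) (Fin 2) F) =
      μ • G₀ := by
    rw [Matrix.SpecialLinearGroup.coe_mul, Matrix.SpecialLinearGroup.coe_mul, Matrix.mul_assoc,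
      ← hPg, ← Matrix.mul_assoc, ← Matrix.SpecialLinearGroup.coe_mul, inv_mul_cancel,
      Matrix.SpecialLinearGroup.coe_one, Matrix.one_mul]
  -- the scalar `μ` as an element of the normaliser
  set s : GL (Fin 2) F := ⟨μ • 1, μ⁻¹ • 1, by
    rw [Matrix.smul_mul, Matrix.mul_smul, Matrix.one_mul, smul_smul, mul_inv_cancel₀ hμ, one_smul], by
    rw [Matrix.smul_mul, Matrix.mul_smul, Matrix.one_mul, smul_smul, inv_mul_cancel₀ hμ, one_smul]⟩
    with hs
  have hsN : s ∈ Cfsg.Geo.subalgebraNormalizer K := by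
    intro k'
    show k' ∈ K ↔ (μ • (1 : Matrix (Fin 2) (Fin 2) F)) * k' * (μ⁻¹ • 1) ∈ K
    have : (μ • (1 : Matrix (Fin 2) (Fin 2) F)) * k' * (μ⁻¹ • 1) = k' := by
      rw [Matrix.smul_mul, Matrix.one_mul, Matrix.mul_smul, Matrix.mul_one, smul_smul,
        inv_mul_cancel₀ hμ, one_smul]
    rw [this]
  rw [Subgroup.mem_comap]
  have heq : (Matrix.SpecialLinearGroup.toGL (P⁻¹ * x * P) : GL (Fin 2) F) = s * g₀ := by
    apply Units.ext
    show ((P⁻¹ * x * P : Matrix.SpecialLinearGroup (Fin 2) F) : Matrix (Fin 2) (Fin 2) F) =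
      (μ • (1 : Matrix (Fin 2) (Fin 2) F)) * G₀
    rw [hconj, Matrix.smul_mul, Matrix.one_mul]
  rw [heq]
  exact Subgroup.mul_mem _ hsN hg₀N

end two

section derange

variable {F : Type*} [Field F] {n : ℕ}

/-- an element of `SL_n(F)` of the form `μ + (rank one)` has no conjugate in the normaliser of a
field subalgebra of degree two, in dimension at least three -/
theorem not_conj_rank_one (hn : 3 ≤ n) (K : Subalgebra F (Matrix (Fin n) (Fin n) F))
    (hK : Cfsg.Geo.IsFieldSubalgebra 2 K) (x : Matrix.SpecialLinearGroup (Fin n) F) (μ a : F)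
    (hμ : μ ≠ 0) (ha : a ≠ 0) (i₀ i₁ : Fin n)
    (hx : ∀ v : Fin n → F, (x : Matrix (Fin n) (Fin n) F) *ᵥ v =
      μ • v + (a * v i₁) • (Pi.single i₀ 1 : Fin n → F))
    (P : Matrix.SpecialLinearGroup (Fin n) F) :
    P⁻¹ * x * P ∉ ((Cfsg.Geo.subalgebraNormalizer K).comap
      (Matrix.SpecialLinearGroup.toGL : Matrix.SpecialLinearGroup (Fin n) F →* GL (Fin n) F)) := by
  classical
  rw [Subgroup.mem_comap]
  obtain ⟨κ, hκK, hκns, -⟩ := exists_generator K hK
  set Pm : Matrix (Fin n) (Fin n) F := (P : Matrix (Fin n) (Fin n) F) with hPm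
  set Pi' : Matrix (Fin n) (Fin n) F := ((P⁻¹ : Matrix.SpecialLinearGroup (Fin n) F) :
    Matrix (Fin n) (Fin n) F) with hPi'
  have hPiP : Pi' * Pm = 1 := by
    rw [hPi', hPm, ← Matrix.SpecialLinearGroup.coe_mul, inv_mul_cancel,
      Matrix.SpecialLinearGroup.coe_one]
  have hPPi : Pm * Pi' = 1 := by
    rw [hPi', hPm, ← Matrix.SpecialLinearGroup.coe_mul, mul_inv_cancel,
      Matrix.SpecialLinearGroup.coe_one]
  set w : Fin n → F := Pi' *ᵥ (Pi.single i₀ 1 : Fin n → F) with hw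
  set c : (Fin n → F) →ₗ[F] F := a • ((LinearMap.proj i₁).comp (Matrix.toLin' Pm)) with hc
  have hcv : ∀ v, c v = a * (Pm *ᵥ v) i₁ := fun v => rfl
  have hw0 : w ≠ 0 := by
    intro h0
    have h1 : Pm *ᵥ w = (Pi.single i₀ 1 : Fin n → F) := by
      rw [hw, Matrix.mulVec_mulVec, hPPi, Matrix.one_mulVec]
    rw [h0, Matrix.mulVec_zero] at h1
    have := congrFun h1 i₀
    rw [Pi.single_eq_same, Pi.zero_apply] at this
    exact zero_ne_one this
  have hc0 : c ≠ 0 := by
    intro h0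
    have h1 : c (Pi' *ᵥ (Pi.single i₁ 1 : Fin n → F)) = a := by
      rw [hcv, Matrix.mulVec_mulVec, hPPi, Matrix.one_mulVec, Pi.single_eq_same, mul_one]
    rw [h0, LinearMap.zero_apply] at h1
    exact ha h1.symm
  apply not_mem_normalizer_rank_one hn K hK κ hκK hκns _ μ hμ c w hw0 hc0
  intro v
  show ((P⁻¹ * x * P : Matrix.SpecialLinearGroup (Fin n) F) : Matrix (Fin n) (Fin n) F) *ᵥ v =
    μ • v + c v • w
  rw [Matrix.SpecialLinearGroup.coe_mul, Matrix.SpecialLinearGroup.coe_mul,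
    ← Matrix.mulVec_mulVec, ← Matrix.mulVec_mulVec, hx, Matrix.mulVec_add, Matrix.mulVec_smul,
    Matrix.mulVec_smul, Matrix.mulVec_mulVec, hPiP, Matrix.one_mulVec]
  rfl

end derange

end Cfsg.Agent.Lib.Helper43_FieldExt2
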