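import Mathlib
import Cfsg.Agent.Lib.Helper34_G2InvDefs
import Cfsg.Agent.Lib.Helper34_G2InvBasic
import Cfsg.Agent.Lib.Helper25_G2I_GCOE
import Cfsg.Agent.Lib.Helper10_G2I_NCZ
import Cfsg.Agent.Lib.Helper11_G2I_NCN
import Cfsg.Agent.Lib.Helper88_G2I_NCB

/-!
# S2177 market `s2177_packages` (architect helper34), package GNC1 (formalised by helper43)

Bruhat: `g = b n u`; `z = x_11(1)` is central in `U`, so `g z g⁻¹ = b (n z n⁻¹) b⁻¹ = b x_r'(a') b⁻¹` with `r'`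
long, `a' ≠ 0`.  If `g z g⁻¹ ∈ U` then `x_r'(a') ∈ B`, so `r'` is positive (`B ⊓ V = ⊥`); `b = u₁ h₁` and `h₁`
scales `x_r'(a')`.  `GNC1_aux` takes the statements of GCOE (first item), NCZ, NCN, NCB as hypotheses.
-/

set_option autoImplicit false
set_option linter.unusedVariables false
set_option linter.unusedSectionVars false

namespace Cfsg.Agent.Lib.Helper43_G2I_GNC1

open Cfsg Cfsg.Lie Cfsg.Agent.Lib.Helper34_G2InvDefs Cfsg.Agent.Lib.Helper34_G2InvBasic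

section Concrete

variable {F : Type*} [Field F]

/-- GNC1 with GCOE (item 1), NCZ, NCN, NCB as hypotheses. -/
theorem GNC1_aux (hf : G2Facts F)
    (hcoe : ∀ r (t : F),
      ((XG F r t : GL chevG2.Idx F) : Matrix chevG2.Idx chevG2.Idx F) = chevG2.x F r t)
    (hZ : ∀ u ∈ chevG2.posUnipotent F, u * XG F 11 1 = XG F 11 1 * u)
    (hN1 : ∀ n ∈ chevG2.monomialSubgroup F, ∀ r ∈ ({0, 1, 5, 6, 10, 11} : Finset ℕ), ∀ a : F,
      a ≠ 0 → ∃ r' ∈ ({0, 1, 5, 6, 10, 11} : Finset ℕ), ∃ a' : F, a' ≠ 0 ∧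
        n * XG F r a * n⁻¹ = XG F r' a')
    (hN2 : ∀ h ∈ chevG2.diagonalSubgroup F, ∀ r < chevG2.nroots, ∀ a : F, a ≠ 0 →
      ∃ a' : F, a' ≠ 0 ∧ h * XG F r a * h⁻¹ = XG F r a')
    (hB : ∀ b ∈ chevG2.borelSubgroup F, ∃ u ∈ chevG2.posUnipotent F,
      ∃ h ∈ chevG2.diagonalSubgroup F, b = u * h)
    (g : GL chevG2.Idx F) (hg : g ∈ chevG2.group F)
    (hv : g * XG F 11 1 * g⁻¹ ∈ chevG2.posUnipotent F) :
    ∃ u ∈ chevG2.posUnipotent F, ∃ r : ℕ, (r = 6 ∨ r = 10 ∨ r = 11) ∧ ∃ a : F, a ≠ 0 ∧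
      g * XG F 11 1 * g⁻¹ = u * XG F r a * u⁻¹ := by
  obtain ⟨b, hb, n, hn, u, hu, hgbnu⟩ := hf.bruhat g hg
  -- `u ∈ U`
  have huU : u ∈ chevG2.posUnipotent F := by
    have hsub : {x : GL chevG2.Idx F | ∃ (r : ℕ) (t : F), chevG2.IsPosRoot r ∧
        (chevG2.rootSubgroup F r).map (MulAut.conj n).toMonoidHom ≤ chevG2.negUnipotent F ∧
        (x : Matrix chevG2.Idx chevG2.Idx F) = chevG2.x F r t} ⊆
        {g : GL chevG2.Idx F | ∃ (r : ℕ) (t : F), chevG2.IsPosRoot r ∧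
          (g : Matrix chevG2.Idx chevG2.Idx F) = chevG2.x F r t} := by
      rintro x ⟨r, t, h1, -, h3⟩
      exact ⟨r, t, h1, h3⟩
    exact Subgroup.closure_mono hsub hu
  have huz : u * XG F 11 1 * u⁻¹ = XG F 11 1 := by
    rw [hZ u huU, mul_assoc, mul_inv_cancel, mul_one]
  obtain ⟨r', hr', a', ha', hnz⟩ := hN1 n hn 11 (by decide) 1 one_ne_zero
  have hconj : g * XG F 11 1 * g⁻¹ = b * XG F r' a' * b⁻¹ := by
    calc g * XG F 11 1 * g⁻¹
        = b * (n * (u * XG F 11 1 * u⁻¹) * n⁻¹) * b⁻¹ := by rw [hgbnu]; group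
      _ = b * (n * XG F 11 1 * n⁻¹) * b⁻¹ := by rw [huz]
      _ = b * XG F r' a' * b⁻¹ := by rw [hnz]
  -- `x_r'(a') ∈ B`
  have hUB : chevG2.posUnipotent F ≤ chevG2.borelSubgroup F := le_sup_left
  have hxB : XG F r' a' ∈ chevG2.borelSubgroup F := by
    have h1 : XG F r' a' = b⁻¹ * (g * XG F 11 1 * g⁻¹) * b := by
      rw [hconj]
      group
    rw [h1]
    exact Subgroup.mul_mem _ (Subgroup.mul_mem _ (Subgroup.inv_mem _ hb) (hUB hv)) hb
  -- `r'` is positive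
  have hneg : ∀ r : ℕ, chevG2.IsNegRoot r → r < chevG2.nroots → r' = r → False := by
    intro r hr hlt e
    subst e
    have hxV : XG F r' a' ∈ chevG2.negUnipotent F :=
      Subgroup.subset_closure ⟨r', a', hr, hcoe r' a'⟩
    have h1 : XG F r' a' ∈ chevG2.borelSubgroup F ⊓ chevG2.negUnipotent F := ⟨hxB, hxV⟩
    rw [hf.binfv.1, Subgroup.mem_bot] at h1
    have h2 : chevG2.x F r' a' = 1 := by
      rw [← hcoe r' a', h1]
      rfl
    exact ha' ((hf.zero r' hlt a').1 h2)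
  simp only [Finset.mem_insert, Finset.mem_singleton] at hr'
  have hpos : r' = 6 ∨ r' = 10 ∨ r' = 11 := by
    rcases hr' with e | e | e | e | e | e
    · exact absurd e (fun e => hneg 0 (by decide) (by decide) e)
    · exact absurd e (fun e => hneg 1 (by decide) (by decide) e)
    · exact absurd e (fun e => hneg 5 (by decide) (by decide) e)
    · exact Or.inl e
    · exact Or.inr (Or.inl e)
    · exact Or.inr (Or.inr e)
  have hlt : r' < chevG2.nroots := by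
    rcases hpos with e | e | e <;> rw [e] <;> decide
  obtain ⟨u1, hu1, h1, hh1, hbu⟩ := hB b hb
  obtain ⟨a'', ha'', hscale⟩ := hN2 h1 hh1 r' hlt a' ha'
  refine ⟨u1, hu1, r', hpos, a'', ha'', ?_⟩
  rw [hconj, ← hscale, hbu]
  group

/-- GNC1 (M; deps GCOE, NCZ, NCN, NCB).  If an element of `G` conjugates `x_11(1)` into `U`, the
result is a `U`-conjugate of a long positive root element. -/
theorem GNC1 [CharP F 2] (hf : G2Facts F) (g : GL chevG2.Idx F) (hg : g ∈ chevG2.group F)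
    (hv : g * XG F 11 1 * g⁻¹ ∈ chevG2.posUnipotent F) :
    ∃ u ∈ chevG2.posUnipotent F, ∃ r : ℕ, (r = 6 ∨ r = 10 ∨ r = 11) ∧ ∃ a : F, a ≠ 0 ∧
      g * XG F 11 1 * g⁻¹ = u * XG F r a * u⁻¹ :=
  GNC1_aux hf (Cfsg.Agent.Lib.Helper25_G2I_GCOE.GCOE hf).1
    (Cfsg.Agent.Lib.Helper10_G2I_NCZ.NCZ hf)
    (Cfsg.Agent.Lib.Helper11_G2I_NCN.NCN hf).1 (Cfsg.Agent.Lib.Helper11_G2I_NCN.NCN hf).2
    (Cfsg.Agent.Lib.Helper88_G2I_NCB.NCB hf) g hg hv

end Concrete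

end Cfsg.Agent.Lib.Helper43_G2I_GNC1
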