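import Cfsg.Agent.Lib.Helper43_UnipCent3
import Cfsg.Agent.Lib.Helper43_JordanMatrix
import Cfsg.Agent.Lib.Helper43_HermRoot

set_option autoImplicit false

/-!
The model for centralisers of unipotent elements in unitary groups: on the index type of the
Jordan type matrix, the block exchange matrix `Hx`, the anti-automorphism `tau` (adjoint with respect
to `Hx`) and its behaviour on the commutant of the nilpotent part `N0`.
-/

namespace Cfsg.Agent.Lib.Helper43_GUCent

open Matrix Module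
open Cfsg.Agent.Lib.Helper43_Jordan Cfsg.Agent.Lib.Helper43_UnipCent
open Cfsg.Agent.Lib.Helper43_JordanMatrix Cfsg.Agent.Lib.Helper43_HermRoot

section model

variable {K : Type*} [Field K] {t : ℕ} (d : Fin t → ℕ)

/-- the index type of the Jordan type matrix -/
abbrev Idx (d : Fin t → ℕ) := (k : Fin t) × Fin (d k)

/-- the nilpotent part of the Jordan type matrix -/
def N0 (K : Type*) [Field K] : Matrix (Idx d) (Idx d) K := Cfsg.jordanTypeMatrix d K - 1

theorem N0_apply (y x : Idx d) :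
    N0 d K y x = if y.1 = x.1 ∧ (y.2 : ℕ) = (x.2 : ℕ) + 1 then 1 else 0 :=
  jordanType_sub_one_apply d x y

/-- reversal of the position inside each block -/
def flip (x : Idx d) : Idx d := ⟨x.1, ⟨d x.1 - 1 - x.2, by have := x.2.2; omega⟩⟩

theorem flip_flip (x : Idx d) : flip d (flip d x) = x := by
  obtain ⟨k, i⟩ := x
  unfold flip
  simp only
  congr 1
  apply Fin.ext
  simp only
  have := i.2
  omega

theorem flip_eq_iff (x y : Idx d) : y = flip d x ↔ x = flip d y := by
  constructor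
  · intro h
    rw [h, flip_flip]
  · intro h
    rw [h, flip_flip]

/-- the block exchange matrix -/
def Hx (K : Type*) [Field K] : Matrix (Idx d) (Idx d) K :=
  Matrix.of fun y x => if y = flip d x then 1 else 0

theorem Hx_apply (y x : Idx d) : Hx d K y x = if y = flip d x then 1 else 0 := rfl

theorem Hx_mul_apply (A : Matrix (Idx d) (Idx d) K) (y x : Idx d) :
    (Hx d K * A) y x = A (flip d y) x := by
  rw [Matrix.mul_apply, Finset.sum_eq_single (flip d y)]
  · rw [Hx_apply, flip_flip, if_pos rfl, one_mul]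
  · intro z _ hz
    rw [Hx_apply, if_neg, zero_mul]
    intro h
    exact hz ((flip_eq_iff d z y).1 h)
  · intro h
    exact absurd (Finset.mem_univ _) h

theorem mul_Hx_apply (A : Matrix (Idx d) (Idx d) K) (y x : Idx d) :
    (A * Hx d K) y x = A y (flip d x) := by
  rw [Matrix.mul_apply, Finset.sum_eq_single (flip d x)]
  · rw [Hx_apply, if_pos rfl, mul_one]
  · intro z _ hz
    rw [Hx_apply, if_neg hz, mul_zero]
  · intro h
    exact absurd (Finset.mem_univ _) h

theorem Hx_mul_Hx : Hx d K * Hx d K = 1 := by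
  ext y x
  rw [Hx_mul_apply, Hx_apply, Matrix.one_apply]
  by_cases h : y = x
  · rw [if_pos h, if_pos (by rw [h])]
  · rw [if_neg h, if_neg]
    intro h'
    apply h
    rw [← flip_flip d y, h', flip_flip]

theorem starM_Hx (σ : K →+* K) : starM σ (Hx d K) = Hx d K := by
  ext y x
  unfold starM
  rw [Matrix.transpose_apply, Matrix.map_apply, Hx_apply, Hx_apply]
  by_cases h : x = flip d y
  · rw [if_pos h, if_pos ((flip_eq_iff d y x).1 h), map_one]
  · rw [if_neg h, if_neg (fun h' => h ((flip_eq_iff d x y).1 h')), map_zero]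

theorem det_Hx_ne_zero : (Hx d K).det ≠ 0 := by
  intro h
  have := congrArg Matrix.det (Hx_mul_Hx (K := K) d)
  rw [Matrix.det_mul, h, mul_zero, Matrix.det_one] at this
  exact zero_ne_one this

/-- the adjoint with respect to the block exchange matrix -/
def tau (σ : K →+* K) (X : Matrix (Idx d) (Idx d) K) : Matrix (Idx d) (Idx d) K :=
  Hx d K * starM σ X * Hx d K

theorem tau_apply (σ : K →+* K) (X : Matrix (Idx d) (Idx d) K) (y x : Idx d) :
    tau d σ X y x = σ (X (flip d x) (flip d y)) := by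
  unfold tau
  rw [mul_Hx_apply, Hx_mul_apply]
  rfl

theorem tau_add (σ : K →+* K) (X Y : Matrix (Idx d) (Idx d) K) :
    tau d σ (X + Y) = tau d σ X + tau d σ Y := by
  unfold tau
  rw [starM_add, Matrix.mul_add, Matrix.add_mul]

theorem tau_zero (σ : K →+* K) : tau d σ (0 : Matrix (Idx d) (Idx d) K) = 0 := by
  ext y x
  rw [tau_apply]
  simp

theorem tau_neg (σ : K →+* K) (X : Matrix (Idx d) (Idx d) K) :
    tau d σ (-X) = -tau d σ X := by
  ext y x
  rw [Matrix.neg_apply, tau_apply, tau_apply, Matrix.neg_apply, map_neg]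

theorem tau_sub (σ : K →+* K) (X Y : Matrix (Idx d) (Idx d) K) :
    tau d σ (X - Y) = tau d σ X - tau d σ Y := by
  rw [sub_eq_add_neg, tau_add, tau_neg, ← sub_eq_add_neg]

theorem tau_mul (σ : K →+* K) (X Y : Matrix (Idx d) (Idx d) K) :
    tau d σ (X * Y) = tau d σ Y * tau d σ X := by
  unfold tau
  rw [starM_mul]
  calc Hx d K * (starM σ Y * starM σ X) * Hx d K
      = Hx d K * starM σ Y * 1 * starM σ X * Hx d K := by
        rw [Matrix.mul_one]; simp only [Matrix.mul_assoc]
    _ = Hx d K * starM σ Y * Hx d K * (Hx d K * starM σ X * Hx d K) := by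
        rw [← Hx_mul_Hx d]; simp only [Matrix.mul_assoc]

theorem tau_one (σ : K →+* K) : tau d σ (1 : Matrix (Idx d) (Idx d) K) = 1 := by
  unfold tau
  rw [starM_one, Matrix.mul_one, Hx_mul_Hx]

theorem tau_smul (σ : K →+* K) (c : K) (X : Matrix (Idx d) (Idx d) K) :
    tau d σ (c • X) = σ c • tau d σ X := by
  unfold tau
  rw [starM_smul, Matrix.mul_smul, Matrix.smul_mul]

theorem tau_tau (σ : K →+* K) (hσ : ∀ x, σ (σ x) = x) (X : Matrix (Idx d) (Idx d) K) :
    tau d σ (tau d σ X) = X := by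
  ext y x
  rw [tau_apply, tau_apply, flip_flip, flip_flip, hσ]

theorem tau_N0 (σ : K →+* K) : tau d σ (N0 d K) = N0 d K := by
  ext y x
  rw [tau_apply, N0_apply, N0_apply]
  obtain ⟨k, i⟩ := x
  obtain ⟨l, j⟩ := y
  unfold flip
  simp only
  by_cases hkl : k = l
  · subst hkl
    have hi := i.2
    have hj := j.2
    by_cases h : (j : ℕ) = (i : ℕ) + 1
    · rw [if_pos ⟨rfl, by omega⟩, if_pos ⟨rfl, h⟩, map_one]
    · rw [if_neg (fun h' => h (by have := h'.2; omega)), if_neg (fun h' => h h'.2), map_zero]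
  · rw [if_neg (fun h' => hkl h'.1), if_neg (fun h' => hkl h'.1.symm), map_zero]

theorem charpoly_tau (σ : K →+* K) (X : Matrix (Idx d) (Idx d) K) :
    (tau d σ X).charpoly = X.charpoly.map σ := by
  unfold tau
  rw [Matrix.mul_assoc, Matrix.charpoly_mul_comm, Matrix.mul_assoc, Hx_mul_Hx, Matrix.mul_one]
  unfold starM
  rw [Matrix.charpoly_transpose, Matrix.charpoly_map]

theorem det_tau (σ : K →+* K) (X : Matrix (Idx d) (Idx d) K) :
    (tau d σ X).det = σ X.det := by
  unfold tau
  rw [Matrix.det_mul, Matrix.det_mul, mul_comm, ← mul_assoc, ← Matrix.det_mul, Hx_mul_Hx,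
    Matrix.det_one, one_mul]
  unfold starM
  rw [Matrix.det_transpose]
  exact (RingHom.map_det σ X).symm

end model

section commutant

variable {K : Type*} [Field K] {t : ℕ} (d : Fin t → ℕ)

theorem mul_N0_apply (c : Matrix (Idx d) (Idx d) K) (y : Idx d) (k : Fin t) (j : ℕ)
    (h : j + 1 < d k) :
    (c * N0 d K) y ⟨k, ⟨j, by omega⟩⟩ = c y ⟨k, ⟨j + 1, h⟩⟩ := by
  rw [Matrix.mul_apply, Finset.sum_eq_single (⟨k, ⟨j + 1, h⟩⟩ : Idx d)]
  · rw [N0_apply, if_pos ⟨rfl, rfl⟩, mul_one]
  · intro z _ hz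
    rw [N0_apply, if_neg, mul_zero]
    rintro ⟨h1, h2⟩
    apply hz
    obtain ⟨l, i⟩ := z
    simp only at h1 h2
    subst h1
    congr 1
    exact Fin.ext h2
  · intro h'
    exact absurd (Finset.mem_univ _) h'

theorem N0_mul_apply (c : Matrix (Idx d) (Idx d) K) (x : Idx d) (l : Fin t) (i : ℕ)
    (h : i + 1 < d l) :
    (N0 d K * c) ⟨l, ⟨i + 1, h⟩⟩ x = c ⟨l, ⟨i, by omega⟩⟩ x := by
  rw [Matrix.mul_apply, Finset.sum_eq_single (⟨l, ⟨i, by omega⟩⟩ : Idx d)]
  · rw [N0_apply, if_pos ⟨rfl, rfl⟩, one_mul]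
  · intro z _ hz
    rw [N0_apply, if_neg, zero_mul]
    rintro ⟨h1, h2⟩
    apply hz
    obtain ⟨l', i'⟩ := z
    simp only at h1 h2
    subst h1
    congr 1
    apply Fin.ext
    simp only
    omega
  · intro h'
    exact absurd (Finset.mem_univ _) h'

/-- entries of a matrix commuting with `N0` are constant along the diagonals of each block -/
theorem toeplitz (hd : ∀ k, 1 ≤ d k) (c : Matrix (Idx d) (Idx d) K)
    (hc : c * N0 d K = N0 d K * c) (k l : Fin t) (m : ℕ) (hk : m < d k) (hl : m < d l) :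
    c ⟨l, ⟨m, hl⟩⟩ ⟨k, ⟨m, hk⟩⟩ = c (zidx hd l) (zidx hd k) := by
  induction m with
  | zero => rfl
  | succ m ih =>
    rw [← ih (by omega) (by omega), ← mul_N0_apply d c _ k m hk, hc, N0_mul_apply d c _ l m hl]

theorem comm_tau (σ : K →+* K) (c : Matrix (Idx d) (Idx d) K)
    (hc : c * N0 d K = N0 d K * c) : tau d σ c * N0 d K = N0 d K * tau d σ c := by
  have h1 : tau d σ c * N0 d K = tau d σ (N0 d K * c) := by
    rw [tau_mul, tau_N0]
  have h2 : N0 d K * tau d σ c = tau d σ (c * N0 d K) := by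
    rw [tau_mul, tau_N0]
  rw [h1, h2, hc]

/-- the head-to-head entries, grouped by block size -/
def hpi (hd : ∀ k, 1 ≤ d k) : Matrix (Idx d) (Idx d) K →+
    (∀ a : BlockIdx d, Matrix (BlockFib d a.1) (BlockFib d a.1) K) where
  toFun c := fun a => Matrix.of fun i j => c (zidx hd i.1) (zidx hd j.1)
  map_zero' := by
    funext a
    ext i j
    simp
  map_add' c c' := by
    funext a
    ext i j
    simp

theorem hpi_apply (hd : ∀ k, 1 ≤ d k) (c : Matrix (Idx d) (Idx d) K) (a : BlockIdx d)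
    (i j : BlockFib d a.1) : hpi d hd c a i j = c (zidx hd i.1) (zidx hd j.1) := rfl

theorem flip_zidx (hd : ∀ k, 1 ≤ d k) (k : Fin t) :
    flip d (zidx hd k) = ⟨k, ⟨d k - 1, by have := hd k; omega⟩⟩ := by
  unfold flip zidx
  simp

theorem hpi_tau (hd : ∀ k, 1 ≤ d k) (σ : K →+* K) (c : Matrix (Idx d) (Idx d) K)
    (hc : c * N0 d K = N0 d K * c) (a : BlockIdx d) :
    hpi d hd (tau d σ c) a = starM σ (hpi d hd c a) := by
  ext i j
  obtain ⟨k, hk⟩ := i
  obtain ⟨l, hl⟩ := j
  rw [hpi_apply, tau_apply]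
  unfold starM
  rw [Matrix.transpose_apply, Matrix.map_apply, hpi_apply]
  simp only
  rw [flip_zidx, flip_zidx]
  congr 1
  have h1 : d l - 1 = d k - 1 := by rw [hl, hk]
  have hk1 := hd k
  have hl1 := hd l
  have key := toeplitz d hd c hc k l (d k - 1) (by omega) (by omega)
  rw [← key]
  congr 2
  apply Fin.ext
  simp only
  exact h1

theorem hpi_smul (hd : ∀ k, 1 ≤ d k) (r : K) (c : Matrix (Idx d) (Idx d) K) (a : BlockIdx d) :
    hpi d hd (r • c) a = r • hpi d hd c a := by
  ext i j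
  rw [hpi_apply, Matrix.smul_apply, Matrix.smul_apply, hpi_apply]

end commutant

end Cfsg.Agent.Lib.Helper43_GUCent
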