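import Cfsg.Agent.Lib.Helper43_GUCent1

set_option autoImplicit false

/-!
The commutant of `N0` as an additive group of matrices: parametrisation by the images of the chain
heads, the unit criterion through the head blocks, surjectivity of the head block map and the
number of elements.
-/

namespace Cfsg.Agent.Lib.Helper43_GUCent

open Matrix Module
open Cfsg.Agent.Lib.Helper43_Jordan Cfsg.Agent.Lib.Helper43_UnipCent
open Cfsg.Agent.Lib.Helper43_JordanMatrix Cfsg.Agent.Lib.Helper43_HermRoot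

section param

variable {K : Type*} [Field K] {t : ℕ} (d : Fin t → ℕ)

/-- the commutant of `N0` -/
def Cadd (K : Type*) [Field K] : AddSubgroup (Matrix (Idx d) (Idx d) K) where
  carrier := {c | c * N0 d K = N0 d K * c}
  zero_mem' := by
    show (0 : Matrix (Idx d) (Idx d) K) * N0 d K = N0 d K * 0
    rw [Matrix.zero_mul, Matrix.mul_zero]
  add_mem' := by
    intro a b ha hb
    show (a + b) * N0 d K = N0 d K * (a + b)
    rw [Matrix.add_mul, Matrix.mul_add, ha, hb]
  neg_mem' := by
    intro a ha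
    show (-a) * N0 d K = N0 d K * (-a)
    rw [Matrix.neg_mul, Matrix.mul_neg, ha]

theorem mem_Cadd (c : Matrix (Idx d) (Idx d) K) : c ∈ Cadd d K ↔ c * N0 d K = N0 d K * c :=
  Iff.rfl

/-- the nilpotent endomorphism of the model -/
noncomputable abbrev Lin (K : Type*) [Field K] : End K (Idx d → K) := Matrix.toLin' (N0 d K)

theorem hbLin : IsChainBasis (Lin d K) d (Pi.basisFun K (Idx d)) :=
  isChainBasis_jordanType (F := K) d

theorem toLin'_comm (c : Matrix (Idx d) (Idx d) K) (hc : c * N0 d K = N0 d K * c) :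
    (Matrix.toLin' c : End K (Idx d → K)) * Lin d K = Lin d K * Matrix.toLin' c := by
  rw [Module.End.mul_eq_comp, Module.End.mul_eq_comp, ← Matrix.toLin'_mul, ← Matrix.toLin'_mul, hc]

theorem toMatrix'_comm (g : End K (Idx d → K)) (hg : g * Lin d K = Lin d K * g) :
    LinearMap.toMatrix' g * N0 d K = N0 d K * LinearMap.toMatrix' g := by
  have h1 : LinearMap.toMatrix' (Lin d K) = N0 d K := LinearMap.toMatrix'_toLin' _
  have h2 := congrArg LinearMap.toMatrix' hg
  rw [Module.End.mul_eq_comp, Module.End.mul_eq_comp, LinearMap.toMatrix'_comp,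
    LinearMap.toMatrix'_comp, h1] at h2
  exact h2

theorem heads_toLin' (hd : ∀ k, 1 ≤ d k) (c : Matrix (Idx d) (Idx d) K) (k : Fin t) :
    heads (Pi.basisFun K (Idx d)) hd (Matrix.toLin' c : End K (Idx d → K)) k =
      fun y => c y (zidx hd k) := by
  unfold heads
  rw [Pi.basisFun_apply, Matrix.toLin'_apply, Matrix.mulVec_single_one]
  rfl

theorem topc_basisFun (hd : ∀ k, 1 ≤ d k) (v : Idx d → K) (l : Fin t) :
    topc (Pi.basisFun K (Idx d)) hd v l = v (zidx hd l) := by
  rw [topc_apply, Pi.basisFun_repr]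

/-- the parametrisation of the commutant by the images of the chain heads -/
noncomputable def Phi (hd : ∀ k, 1 ≤ d k) :
    ↥(Cadd d K) ≃ (∀ k, LinearMap.ker (Lin d K ^ d k)) where
  toFun c := fun k => ⟨heads (Pi.basisFun K (Idx d)) hd (Matrix.toLin' c.1 : End K (Idx d → K)) k,
    heads_mem_ker (hbLin d) hd (toLin'_comm d c.1 c.2) k⟩
  invFun v := ⟨LinearMap.toMatrix' (ofHeads (Lin d K) (Pi.basisFun K (Idx d))
      fun k => ((v k : Idx d → K))),
    toMatrix'_comm d _ (ofHeads_comm' (hbLin d) v)⟩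
  left_inv c := by
    apply Subtype.ext
    show LinearMap.toMatrix' (ofHeads (Lin d K) (Pi.basisFun K (Idx d))
      (heads (Pi.basisFun K (Idx d)) hd (Matrix.toLin' c.1 : End K (Idx d → K)))) = c.1
    rw [ofHeads_heads (hbLin d) hd (toLin'_comm d c.1 c.2), LinearMap.toMatrix'_toLin']
  right_inv v := by
    funext k
    apply Subtype.ext
    show heads (Pi.basisFun K (Idx d)) hd (Matrix.toLin' (LinearMap.toMatrix'
      (ofHeads (Lin d K) (Pi.basisFun K (Idx d)) fun k => ((v k : Idx d → K)))) :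
        End K (Idx d → K)) k = (v k : Idx d → K)
    rw [Matrix.toLin'_toMatrix', heads_ofHeads]

theorem Phi_apply (hd : ∀ k, 1 ≤ d k) (c : ↥(Cadd d K)) (k : Fin t) :
    ((Phi d hd c k : LinearMap.ker (Lin d K ^ d k)) : Idx d → K) = fun y => c.1 y (zidx hd k) :=
  heads_toLin' d hd c.1 k

theorem blocksHom_Phi (hd : ∀ k, 1 ≤ d k) (c : ↥(Cadd d K)) :
    blocksHom (Lin d K) (Pi.basisFun K (Idx d)) hd (Phi d hd c) = hpi d hd c.1 := by
  funext a
  ext i j
  rw [blocksHom_apply, topc_basisFun, Phi_apply, hpi_apply]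

theorem Tmat_Phi (hd : ∀ k, 1 ≤ d k) (c : ↥(Cadd d K)) :
    (Tmat (Pi.basisFun K (Idx d)) hd fun k => ((Phi d hd c k : LinearMap.ker (Lin d K ^ d k)) :
      Idx d → K)) =
    Tmat (Pi.basisFun K (Idx d)) hd
      (heads (Pi.basisFun K (Idx d)) hd (Matrix.toLin' c.1 : End K (Idx d → K))) := rfl

/-- a matrix commuting with `N0` is invertible exactly when all its head blocks are -/
theorem det_ne_zero_iff (hd : ∀ k, 1 ≤ d k) (c : Matrix (Idx d) (Idx d) K)
    (hc : c * N0 d K = N0 d K * c) :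
    c.det ≠ 0 ↔ ∀ a : BlockIdx d, (hpi d hd c a).det ≠ 0 := by
  have h1 := det_Tmat_ne_zero_iff (hbLin (K := K) d) hd (Phi d hd ⟨c, hc⟩)
  rw [blocksHom_Phi] at h1
  rw [← h1, Tmat_Phi]
  constructor
  · intro hdet
    have hu : IsUnit (Matrix.toLin' c : End K (Idx d → K)) := by
      have h2 : IsUnit c := (Matrix.isUnit_iff_isUnit_det c).2 (isUnit_iff_ne_zero.2 hdet)
      exact h2.map (Matrix.toLinAlgEquiv' (R := K) (n := Idx d))
    obtain ⟨u, hu⟩ := hu
    have := det_Tmat_ne_zero (hbLin (K := K) d) hd u (by rw [hu]; exact toLin'_comm d c hc)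
    rwa [hu] at this
  · intro hT
    have hu := isUnit_of_det_Tmat (hbLin (K := K) d) hd (toLin'_comm d c hc) hT
    have h2 : IsUnit c := by
      have := hu.map (Matrix.toLinAlgEquiv' (R := K) (n := Idx d)).symm
      simpa using this
    exact ((Matrix.isUnit_iff_isUnit_det c).1 h2).ne_zero

theorem hpi_surjective (hd : ∀ k, 1 ≤ d k)
    (h : ∀ a : BlockIdx d, Matrix (BlockFib d a.1) (BlockFib d a.1) K) :
    ∃ c : Matrix (Idx d) (Idx d) K, c * N0 d K = N0 d K * c ∧ hpi d hd c = h := by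
  obtain ⟨v, hv⟩ := blocksHom_surjective (hbLin (K := K) d) hd h
  refine ⟨((Phi d hd).symm v).1, ((Phi d hd).symm v).2, ?_⟩
  rw [← blocksHom_Phi, Equiv.apply_symm_apply, hv]

theorem card_Cadd [Fintype K] (hd : ∀ k, 1 ≤ d k) :
    Nat.card ↥(Cadd d K) = Fintype.card K ^ (∑ k, ∑ l, min (d l) (d k)) := by
  rw [Nat.card_congr (Phi d hd), Nat.card_pi, ← Finset.prod_pow_eq_pow_sum]
  apply Finset.prod_congr rfl
  intro k _
  exact card_ker_pow (hbLin d) (d k)

end param

end Cfsg.Agent.Lib.Helper43_GUCent
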