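import Cfsg.Agent.Lib.Helper43_HermRoot

set_option autoImplicit false

/-!
Abstract tools for counting unitary elements of an algebra of matrices with an anti-automorphism
`τ` that is semilinear for an involutive automorphism `σ ≠ 1` of a finite field:
* square roots `τ R * R = H` of `τ`-fixed invertible matrices (`R` a polynomial in `H`);
* the number of invertible elements is the number of unitary ones times the number of invertible
  `τ`-fixed ones;
* a `τ`-stable subspace has the square of the number of its `τ`-fixed elements.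
-/

namespace Cfsg.Agent.Lib.Helper43_GUCent

open Matrix Polynomial
open Cfsg.Agent.Lib.Helper43_NormForm Cfsg.Agent.Lib.Helper43_HermRoot

section root

variable {K : Type*} [Field K] {n : Type*} [Fintype n] [DecidableEq n]

theorem tauAbs_pow (τ : Matrix n n K → Matrix n n K)
    (hmul : ∀ X Y, τ (X * Y) = τ Y * τ X) (h1 : τ 1 = 1) (X : Matrix n n K) (j : ℕ) :
    τ (X ^ j) = (τ X) ^ j := by
  induction j with
  | zero => rw [pow_zero, pow_zero, h1]
  | succ j ih => rw [pow_succ, hmul, ih, pow_succ']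

theorem tauAbs_aeval (σ : K →+* K) (τ : Matrix n n K → Matrix n n K)
    (hadd : ∀ X Y, τ (X + Y) = τ X + τ Y) (hmul : ∀ X Y, τ (X * Y) = τ Y * τ X)
    (hsmul : ∀ (c : K) X, τ (c • X) = σ c • τ X) (h1 : τ 1 = 1) (X : Matrix n n K) (P : K[X]) :
    τ (aeval X P) = aeval (τ X) (P.map σ) := by
  induction P using Polynomial.induction_on' with
  | add p q hp hq => rw [map_add, hadd, hp, hq, Polynomial.map_add, map_add]
  | monomial j c =>
    rw [Polynomial.map_monomial, aeval_monomial, aeval_monomial, hmul, tauAbs_pow τ hmul h1,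
      Algebra.algebraMap_eq_smul_one, Algebra.algebraMap_eq_smul_one, hsmul, h1]
    rw [smul_mul_assoc, one_mul, mul_smul_comm, mul_one]

variable [Fintype K]

/-- every invertible `τ`-fixed matrix whose characteristic polynomial is `σ`-invariant is
`τ R * R` with `R` a polynomial in it -/
theorem exists_root_tau (σ : K →+* K) (hσ : ∀ x, σ (σ x) = x) (hne : ∃ l, σ l ≠ l)
    (τ : Matrix n n K → Matrix n n K)
    (hadd : ∀ X Y, τ (X + Y) = τ X + τ Y) (hmul : ∀ X Y, τ (X * Y) = τ Y * τ X)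
    (hsmul : ∀ (c : K) X, τ (c • X) = σ c • τ X) (h1 : τ 1 = 1)
    (H : Matrix n n K) (hH : τ H = H) (hdet : H.det ≠ 0)
    (hcp : (H.charpoly).map σ = H.charpoly) :
    ∃ R : Matrix n n K, (∀ Y : Matrix n n K, Y * H = H * Y → Y * R = R * Y) ∧ τ R * R = H := by
  classical
  obtain ⟨l, hl⟩ := hne
  -- the fixed field
  set k : Subfield K := RingHom.eqLocusField σ (RingHom.id K) with hk
  have hmem : ∀ x : K, x ∈ k ↔ σ x = x := fun x => Iff.rfl
  let t₀ : k := ⟨l + σ l, by rw [hmem, map_add, hσ, add_comm]⟩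
  let n₀ : k := ⟨l * σ l, by rw [hmem, map_mul, hσ, mul_comm]⟩
  have hdisc : t₀ ^ 2 - 4 * n₀ ≠ 0 := by
    intro h
    have h1 := congrArg k.subtype h
    rw [map_sub, map_pow, map_mul, map_zero, map_ofNat] at h1
    have h2 : (l + σ l) ^ 2 - 4 * (l * σ l) = 0 := h1
    have h3 : (l - σ l) ^ 2 = 0 := by linear_combination h2
    have h5 : l - σ l = 0 := by simpa using h3
    exact hl (sub_eq_zero.1 h5).symm
  have hlift : H.charpoly ∈ Polynomial.lifts (algebraMap k K) := by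
    rw [Polynomial.lifts_iff_coeff_lifts]
    intro j
    have : σ (H.charpoly.coeff j) = H.charpoly.coeff j := by
      conv_rhs => rw [← hcp]
      rw [Polynomial.coeff_map]
    exact ⟨⟨H.charpoly.coeff j, this⟩, rfl⟩
  obtain ⟨m₀, hm₀⟩ := (Polynomial.mem_lifts _).1 hlift
  have hc0 : m₀.coeff 0 ≠ 0 := by
    intro h
    apply hdet
    rw [Matrix.det_eq_sign_charpoly_coeff, ← hm₀, Polynomial.coeff_map, h, map_zero, mul_zero]
  have hm₀ne : m₀ ≠ 0 := by
    rintro rfl
    exact hc0 (Polynomial.coeff_zero 0)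
  have hcop : IsCoprime (X : k[X]) m₀ := by
    refine ⟨-C (m₀.coeff 0)⁻¹ * m₀.divX, C (m₀.coeff 0)⁻¹, ?_⟩
    have h1 := Polynomial.divX_mul_X_add m₀
    have h2 : C (m₀.coeff 0)⁻¹ * C (m₀.coeff 0) = (1 : k[X]) := by
      rw [← C_mul, inv_mul_cancel₀ hc0, C_1]
    calc -C (m₀.coeff 0)⁻¹ * m₀.divX * X + C (m₀.coeff 0)⁻¹ * m₀
        = -C (m₀.coeff 0)⁻¹ * m₀.divX * X +
            C (m₀.coeff 0)⁻¹ * (m₀.divX * X + C (m₀.coeff 0)) := by rw [h1]
      _ = C (m₀.coeff 0)⁻¹ * C (m₀.coeff 0) := by ring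
      _ = 1 := h2
  obtain ⟨A, B, hAB⟩ := exists_nf_dvd t₀ n₀ hdisc m₀ hm₀ne X hcop
  -- map to K[X]
  set Am : K[X] := A.map (algebraMap k K) with hAm
  set Bm : K[X] := B.map (algebraMap k K) with hBm
  have hmapσ : ∀ P : k[X], (P.map (algebraMap k K)).map σ = P.map (algebraMap k K) := by
    intro P
    rw [Polynomial.map_map]
    congr 1
    ext x
    exact x.2
  have hdvd : H.charpoly ∣ nf (C (l + σ l)) (C (l * σ l)) Am Bm - X := by
    obtain ⟨e, he⟩ := hAB
    refine ⟨e.map (algebraMap k K), ?_⟩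
    have := congrArg (Polynomial.map (algebraMap k K)) he
    rw [Polynomial.map_mul, hm₀] at this
    rw [← this]
    unfold nf
    simp only [Polynomial.map_sub, Polynomial.map_add, Polynomial.map_mul, Polynomial.map_pow,
      Polynomial.map_C, Polynomial.map_X]
    rfl
  have hzero : aeval H (nf (C (l + σ l)) (C (l * σ l)) Am Bm - X) = 0 := by
    obtain ⟨e, he⟩ := hdvd
    rw [he, map_mul, Matrix.aeval_self_charpoly, zero_mul]
  set a : Matrix n n K := aeval H Am with ha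
  set b : Matrix n n K := aeval H Bm with hb
  have hab : a * b = b * a := by
    rw [ha, hb, ← map_mul, ← map_mul, mul_comm]
  have hHeq : a ^ 2 + (l + σ l) • (a * b) + (l * σ l) • b ^ 2 = H := by
    unfold nf at hzero
    rw [map_sub, aeval_X, sub_eq_zero] at hzero
    rw [← hzero]
    generalize l + σ l = tK
    generalize l * σ l = nK
    rw [map_add, map_add, map_mul, map_mul, map_mul, map_pow, map_pow, aeval_C, aeval_C,
      Algebra.algebraMap_eq_smul_one, Algebra.algebraMap_eq_smul_one, smul_mul_assoc,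
      smul_mul_assoc, one_mul, smul_mul_assoc, one_mul]
  have hsa : τ a = a := by
    rw [ha, tauAbs_aeval σ τ hadd hmul hsmul h1, hH, hAm, hmapσ]
  have hsb : τ b = b := by
    rw [hb, tauAbs_aeval σ τ hadd hmul hsmul h1, hH, hBm, hmapσ]
  refine ⟨a + l • b, ?_, ?_⟩
  · intro Y hY
    rw [Matrix.mul_add, Matrix.add_mul, Matrix.mul_smul, Matrix.smul_mul, ha, hb,
      commute_aeval hY, commute_aeval hY]
  · rw [hadd, hsmul, hsa, hsb, ← hHeq]
    rw [Matrix.add_mul, Matrix.mul_add, Matrix.mul_add, Matrix.smul_mul, Matrix.smul_mul,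
      Matrix.mul_smul, Matrix.mul_smul, smul_smul, ← hab, sq, sq]
    rw [add_smul, mul_comm (σ l) l]
    abel

end root

section unitsCount

variable {K : Type*} [Field K] {n : Type*} [Fintype n] [DecidableEq n]

theorem det_ne_zero_of_mul_eq_one {X Y : Matrix n n K} (h : X * Y = 1) : Y.det ≠ 0 := by
  intro h0
  have := congrArg Matrix.det h
  rw [Matrix.det_mul, h0, mul_zero, Matrix.det_one] at this
  exact zero_ne_one this

/-- in a multiplicatively closed set of matrices stable under `τ` and under inverses, in which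
every invertible `τ`-fixed element is of the form `τ c * c`, the invertible elements number the
unitary ones times the invertible `τ`-fixed ones -/
theorem card_units_eq_mul (τ : Matrix n n K → Matrix n n K)
    (hmul : ∀ X Y, τ (X * Y) = τ Y * τ X) (h1 : τ 1 = 1) (hinv : ∀ X, τ (τ X) = X)
    (S : Set (Matrix n n K)) (hSmul : ∀ X Y, X ∈ S → Y ∈ S → X * Y ∈ S)
    (hSinv : ∀ X, X ∈ S → X.det ≠ 0 → X⁻¹ ∈ S) (hSτ : ∀ X, X ∈ S → τ X ∈ S)
    (hsurj : ∀ h, h ∈ S → τ h = h → h.det ≠ 0 → ∃ c, c ∈ S ∧ τ c * c = h) :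
    Nat.card {c : Matrix n n K // c ∈ S ∧ c.det ≠ 0} =
      Nat.card {c : Matrix n n K // c ∈ S ∧ τ c * c = 1} *
        Nat.card {h : Matrix n n K // h ∈ S ∧ τ h = h ∧ h.det ≠ 0} := by
  classical
  rw [← Nat.card_prod]
  -- a section of the norm map
  have hsec : ∀ h : {h : Matrix n n K // h ∈ S ∧ τ h = h ∧ h.det ≠ 0},
      ∃ c, c ∈ S ∧ τ c * c = h.1 := fun h => hsurj h.1 h.2.1 h.2.2.1 h.2.2.2
  choose s hsS hs using hsec
  have hsdet : ∀ h, (s h).det ≠ 0 := by
    intro h hd0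
    apply h.2.2.2
    rw [← hs h, Matrix.det_mul, hd0, mul_zero]
  have hτdet : ∀ c : Matrix n n K, c.det ≠ 0 → (τ c).det ≠ 0 := by
    intro c hc
    have h2 : τ (c⁻¹) * τ c = 1 := by
      rw [← hmul, Matrix.mul_nonsing_inv c (isUnit_iff_ne_zero.2 hc), h1]
    exact det_ne_zero_of_mul_eq_one h2
  have hnorm : ∀ c : {c : Matrix n n K // c ∈ S ∧ c.det ≠ 0},
      τ c.1 * c.1 ∈ S ∧ τ (τ c.1 * c.1) = τ c.1 * c.1 ∧ (τ c.1 * c.1).det ≠ 0 := by
    intro c
    refine ⟨hSmul _ _ (hSτ _ c.2.1) c.2.1, ?_, ?_⟩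
    · rw [hmul, hinv]
    · rw [Matrix.det_mul]
      exact mul_ne_zero (hτdet c.1 c.2.2) c.2.2
  refine Nat.card_congr
    { toFun := fun c => (⟨c.1 * (s ⟨τ c.1 * c.1, hnorm c⟩)⁻¹, ?_, ?_⟩, ⟨τ c.1 * c.1, hnorm c⟩)
      invFun := fun p => ⟨p.1.1 * s p.2, ?_, ?_⟩
      left_inv := ?_
      right_inv := ?_ }
  · exact hSmul _ _ c.2.1 (hSinv _ (hsS _) (hsdet _))
  · set h : {h : Matrix n n K // h ∈ S ∧ τ h = h ∧ h.det ≠ 0} := ⟨τ c.1 * c.1, hnorm c⟩ with hh
    have hu : IsUnit (s h).det := isUnit_iff_ne_zero.2 (hsdet h)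
    have e1 : τ c.1 * c.1 = τ (s h) * s h := (hs h).symm
    calc τ (c.1 * (s h)⁻¹) * (c.1 * (s h)⁻¹)
        = τ ((s h)⁻¹) * (τ c.1 * c.1) * (s h)⁻¹ := by
          rw [hmul]; simp only [Matrix.mul_assoc]
      _ = τ ((s h)⁻¹) * (τ (s h) * s h) * (s h)⁻¹ := by rw [e1]
      _ = (τ ((s h)⁻¹) * τ (s h)) * (s h * (s h)⁻¹) := by simp only [Matrix.mul_assoc]
      _ = 1 := by
          rw [← hmul, Matrix.mul_nonsing_inv _ hu, h1, Matrix.one_mul]
  · exact hSmul _ _ p.1.2.1 (hsS _)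
  · rw [Matrix.det_mul]
    exact mul_ne_zero (det_ne_zero_of_mul_eq_one p.1.2.2) (hsdet _)
  · intro c
    apply Subtype.ext
    simp only
    have hu : IsUnit (s ⟨τ c.1 * c.1, hnorm c⟩).det := isUnit_iff_ne_zero.2 (hsdet _)
    rw [Matrix.mul_assoc, Matrix.nonsing_inv_mul _ hu, Matrix.mul_one]
  · rintro ⟨⟨w, hwS, hw⟩, h⟩
    have hu : IsUnit (s h).det := isUnit_iff_ne_zero.2 (hsdet h)
    have e1 : τ (w * s h) * (w * s h) = h.1 := by
      calc τ (w * s h) * (w * s h) = τ (s h) * (τ w * w) * s h := by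
            rw [hmul]; simp only [Matrix.mul_assoc]
        _ = h.1 := by rw [hw, Matrix.mul_one, hs]
    have e2 : (⟨τ (w * s h) * (w * s h), hnorm ⟨w * s h, hSmul _ _ hwS (hsS _), by
        rw [Matrix.det_mul]
        exact mul_ne_zero (det_ne_zero_of_mul_eq_one hw) (hsdet _)⟩⟩ :
        {h : Matrix n n K // h ∈ S ∧ τ h = h ∧ h.det ≠ 0}) = h := Subtype.ext e1
    apply Prod.ext
    · apply Subtype.ext
      simp only
      rw [e2, Matrix.mul_assoc, Matrix.mul_nonsing_inv _ hu, Matrix.mul_one]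
    · exact e2

end unitsCount

section hermCount

variable {K : Type*} [Field K] {A : Type*} [AddCommGroup A] [Module K A]

/-- a subgroup stable under scalars and under a semilinear involution `τ` has the square of the
number of its `τ`-fixed elements -/
theorem card_eq_sq_fixed (σ : K →+* K) (hσ : ∀ x, σ (σ x) = x) (l : K) (hl : σ l ≠ l)
    (τ : A → A) (hadd : ∀ x y, τ (x + y) = τ x + τ y) (hsmul : ∀ (c : K) x, τ (c • x) = σ c • τ x)
    (hinv : ∀ x, τ (τ x) = x) (W : Set A) (hWadd : ∀ x y, x ∈ W → y ∈ W → x + y ∈ W)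
    (hWsmul : ∀ (c : K) x, x ∈ W → c • x ∈ W) (hWτ : ∀ x, x ∈ W → τ x ∈ W) :
    Nat.card {x : A // x ∈ W} = Nat.card {x : A // x ∈ W ∧ τ x = x} ^ 2 := by
  rw [sq, ← Nat.card_prod]
  have hne : l - σ l ≠ 0 := fun h => hl (sub_eq_zero.1 h).symm
  have hneg : ∀ x : A, τ (-x) = -τ x := by
    intro x
    have h0 : τ 0 = 0 := by
      have := hadd 0 0
      rw [add_zero] at this
      exact left_eq_add.1 this
    have := hadd x (-x)
    rw [add_neg_cancel, h0] at this
    exact (neg_eq_of_add_eq_zero_right this.symm).symm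
  have hWneg : ∀ x, x ∈ W → -x ∈ W := by
    intro x hx
    have := hWsmul (-1) x hx
    rwa [neg_smul, one_smul] at this
  -- the `τ`-fixed element `b w`
  have hsub : ∀ x y : A, τ (x - y) = τ x - τ y := by
    intro x y
    rw [sub_eq_add_neg, hadd, hneg, ← sub_eq_add_neg]
  have hb : ∀ w : A, τ ((l - σ l)⁻¹ • (w - τ w)) = (l - σ l)⁻¹ • (w - τ w) := by
    intro w
    rw [hsmul, hsub, hinv, map_inv₀, map_sub, hσ]
    have e1 : (σ l - l)⁻¹ = -(l - σ l)⁻¹ := by
      rw [← neg_sub l (σ l), neg_inv]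
    rw [e1, neg_smul, ← smul_neg, neg_sub]
  apply Nat.card_congr
  refine
    { toFun := fun w => (⟨w.1 - l • ((l - σ l)⁻¹ • (w.1 - τ w.1)), ?_, ?_⟩,
        ⟨(l - σ l)⁻¹ • (w.1 - τ w.1), ?_, hb w.1⟩)
      invFun := fun p => ⟨p.1.1 + l • p.2.1, hWadd _ _ p.1.2.1 (hWsmul _ _ p.2.2.1)⟩
      left_inv := ?_
      right_inv := ?_ }
  · rw [sub_eq_add_neg]
    apply hWadd _ _ w.2
    apply hWneg
    apply hWsmul
    apply hWsmul
    rw [sub_eq_add_neg]
    exact hWadd _ _ w.2 (hWneg _ (hWτ _ w.2))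
  · rw [sub_eq_add_neg, hadd, hneg, hsmul, hb]
    have e2 : (l - σ l) • ((l - σ l)⁻¹ • (w.1 - τ w.1)) = w.1 - τ w.1 := by
      rw [smul_smul, mul_inv_cancel₀ hne, one_smul]
    have e3 : l • ((l - σ l)⁻¹ • (w.1 - τ w.1)) - σ l • ((l - σ l)⁻¹ • (w.1 - τ w.1)) =
        w.1 - τ w.1 := by
      rw [← sub_smul, e2]
    have e4 : τ w.1 + -(σ l • ((l - σ l)⁻¹ • (w.1 - τ w.1))) -
        (w.1 + -(l • ((l - σ l)⁻¹ • (w.1 - τ w.1)))) = 0 := by
      calc τ w.1 + -(σ l • ((l - σ l)⁻¹ • (w.1 - τ w.1))) -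
          (w.1 + -(l • ((l - σ l)⁻¹ • (w.1 - τ w.1))))
          = (l • ((l - σ l)⁻¹ • (w.1 - τ w.1)) - σ l • ((l - σ l)⁻¹ • (w.1 - τ w.1))) -
              (w.1 - τ w.1) := by abel
        _ = 0 := by rw [e3, sub_self]
    exact sub_eq_zero.1 e4
  · apply hWsmul
    rw [sub_eq_add_neg]
    exact hWadd _ _ w.2 (hWneg _ (hWτ _ w.2))
  · intro w
    apply Subtype.ext
    simp only
    abel
  · rintro ⟨⟨a, haW, ha⟩, ⟨b, hbW, hb'⟩⟩
    have e1 : (a + l • b) - τ (a + l • b) = (l - σ l) • b := by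
      rw [hadd, hsmul, ha, hb', sub_smul]
      abel
    have e2 : (l - σ l)⁻¹ • ((a + l • b) - τ (a + l • b)) = b := by
      rw [e1, smul_smul, inv_mul_cancel₀ hne, one_smul]
    apply Prod.ext
    · apply Subtype.ext
      simp only
      rw [e2]
      abel
    · apply Subtype.ext
      simp only
      exact e2

end hermCount

end Cfsg.Agent.Lib.Helper43_GUCent
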