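import Cfsg.Agent.Lib.Helper43_GUCent2
import Cfsg.Agent.Lib.Helper43_GUCent3

set_option autoImplicit false

/-!
Counting in the model: the invertible elements, the `tau`-fixed invertible elements and the radical
of the commutant of `N0`, and the resulting number of `tau`-unitary elements.
-/

namespace Cfsg.Agent.Lib.Helper43_GUCent

open Matrix Module
open Cfsg.Agent.Lib.Helper43_Jordan Cfsg.Agent.Lib.Helper43_UnipCent
open Cfsg.Agent.Lib.Helper43_JordanMatrix Cfsg.Agent.Lib.Helper43_HermRoot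

section count

variable {K : Type*} [Field K] {t : ℕ} (d : Fin t → ℕ)

/-- the product of the head blocks -/
abbrev Bty (d : Fin t → ℕ) (K : Type*) [Field K] :=
  ∀ a : BlockIdx d, Matrix (BlockFib d a.1) (BlockFib d a.1) K

/-- the head block map on the commutant -/
def piC (hd : ∀ k, 1 ≤ d k) : ↥(Cadd d K) →+ Bty d K := (hpi d hd).comp (Cadd d K).subtype

theorem piC_apply (hd : ∀ k, 1 ≤ d k) (c : ↥(Cadd d K)) : piC d hd c = hpi d hd c.1 := rfl

theorem piC_surjective (hd : ∀ k, 1 ≤ d k) : Function.Surjective (piC (K := K) d hd) := by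
  intro h
  obtain ⟨c, hc, hh⟩ := hpi_surjective d hd h
  exact ⟨⟨c, hc⟩, hh⟩

theorem smul_comm_N0 (r : K) (c : Matrix (Idx d) (Idx d) K) (hc : c * N0 d K = N0 d K * c) :
    (r • c) * N0 d K = N0 d K * (r • c) := by
  rw [Matrix.smul_mul, Matrix.mul_smul, hc]

theorem add_comm_N0 (c c' : Matrix (Idx d) (Idx d) K) (hc : c * N0 d K = N0 d K * c)
    (hc' : c' * N0 d K = N0 d K * c') : (c + c') * N0 d K = N0 d K * (c + c') := by
  rw [Matrix.add_mul, Matrix.mul_add, hc, hc']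

theorem inv_comm_N0 (c : Matrix (Idx d) (Idx d) K) (hc : c * N0 d K = N0 d K * c)
    (hdet : c.det ≠ 0) : c⁻¹ * N0 d K = N0 d K * c⁻¹ := by
  have hu : IsUnit c.det := isUnit_iff_ne_zero.2 hdet
  calc c⁻¹ * N0 d K = c⁻¹ * N0 d K * (c * c⁻¹) := by
        rw [Matrix.mul_nonsing_inv _ hu, Matrix.mul_one]
    _ = c⁻¹ * (N0 d K * c) * c⁻¹ := by simp only [Matrix.mul_assoc]
    _ = (c⁻¹ * c) * N0 d K * c⁻¹ := by rw [← hc]; simp only [Matrix.mul_assoc]
    _ = N0 d K * c⁻¹ := by rw [Matrix.nonsing_inv_mul _ hu, Matrix.one_mul]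

variable [Fintype K]

omit [Fintype K] in
/-- the invertible elements of the commutant -/
theorem card_CU (hd : ∀ k, 1 ≤ d k) :
    Nat.card {c : Matrix (Idx d) (Idx d) K // c * N0 d K = N0 d K * c ∧ c.det ≠ 0} =
      Nat.card {c : Matrix (Idx d) (Idx d) K // c * N0 d K = N0 d K * c ∧ hpi d hd c = 0} *
        ∏ a : BlockIdx d,
          Nat.card {h : Matrix (BlockFib d a.1) (BlockFib d a.1) K // h.det ≠ 0} := by
  have h := card_fiber (piC (K := K) d hd) (piC_surjective d hd)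
    (fun y => ∀ a : BlockIdx d, (y a).det ≠ 0)
  have e1 : {x : ↥(Cadd d K) // ∀ a : BlockIdx d, (piC d hd x a).det ≠ 0} ≃
      {c : Matrix (Idx d) (Idx d) K // c * N0 d K = N0 d K * c ∧ c.det ≠ 0} :=
    { toFun := fun x => ⟨x.1.1, x.1.2, (det_ne_zero_iff d hd x.1.1 x.1.2).2 x.2⟩
      invFun := fun c => ⟨⟨c.1, c.2.1⟩, (det_ne_zero_iff d hd c.1 c.2.1).1 c.2.2⟩
      left_inv := fun x => rfl
      right_inv := fun c => rfl }
  have e2 : ↥(piC (K := K) d hd).ker ≃
      {c : Matrix (Idx d) (Idx d) K // c * N0 d K = N0 d K * c ∧ hpi d hd c = 0} :=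
    { toFun := fun x => ⟨x.1.1, x.1.2, (AddMonoidHom.mem_ker).1 x.2⟩
      invFun := fun c => ⟨⟨c.1, c.2.1⟩, (AddMonoidHom.mem_ker).2 c.2.2⟩
      left_inv := fun x => rfl
      right_inv := fun c => rfl }
  have e3 : Nat.card {y : Bty d K // ∀ a : BlockIdx d, (y a).det ≠ 0} =
      ∏ a : BlockIdx d,
          Nat.card {h : Matrix (BlockFib d a.1) (BlockFib d a.1) K // h.det ≠ 0} := by
    rw [Nat.card_congr (Equiv.subtypePiEquivPi
      (p := fun (a : BlockIdx d) (M : Matrix (BlockFib d a.1) (BlockFib d a.1) K) => M.det ≠ 0)),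
      Nat.card_pi]
  rw [← Nat.card_congr e1, ← Nat.card_congr e2, ← e3]
  exact h

/-- the radical of the commutant -/
theorem card_J_mul (hd : ∀ k, 1 ≤ d k) :
    Nat.card {c : Matrix (Idx d) (Idx d) K // c * N0 d K = N0 d K * c ∧ hpi d hd c = 0} *
        ∏ a : BlockIdx d, Fintype.card K ^ (Fintype.card (BlockFib d a.1) ^ 2) =
      Fintype.card K ^ (∑ k, ∑ l, min (d l) (d k)) := by
  have h := card_eq_ker_mul (piC (K := K) d hd) (piC_surjective d hd)
  have e2 : ↥(piC (K := K) d hd).ker ≃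
      {c : Matrix (Idx d) (Idx d) K // c * N0 d K = N0 d K * c ∧ hpi d hd c = 0} :=
    { toFun := fun x => ⟨x.1.1, x.1.2, (AddMonoidHom.mem_ker).1 x.2⟩
      invFun := fun c => ⟨⟨c.1, c.2.1⟩, (AddMonoidHom.mem_ker).2 c.2.2⟩
      left_inv := fun x => rfl
      right_inv := fun c => rfl }
  have e3 : Nat.card (Bty d K) =
      ∏ a : BlockIdx d, Fintype.card K ^ (Fintype.card (BlockFib d a.1) ^ 2) := by
    rw [Nat.card_pi]
    apply Finset.prod_congr rfl
    intro a _
    exact card_matrix _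
  rw [← Nat.card_congr e2, ← e3, ← h, card_Cadd d hd]

end count

section herm

variable {K : Type*} [Field K] {t : ℕ} (d : Fin t → ℕ)

/-- the `tau`-fixed elements of the commutant -/
def HermC (σ : K →+* K) : AddSubgroup (Matrix (Idx d) (Idx d) K) where
  carrier := {c | c * N0 d K = N0 d K * c ∧ tau d σ c = c}
  zero_mem' := ⟨(Cadd d K).zero_mem, tau_zero d σ⟩
  add_mem' := by
    intro a b ha hb
    exact ⟨add_comm_N0 d a b ha.1 hb.1, by rw [tau_add, ha.2, hb.2]⟩
  neg_mem' := by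
    intro a ha
    exact ⟨(Cadd d K).neg_mem ha.1, by rw [tau_neg, ha.2]⟩

/-- the families of Hermitian head blocks -/
def HermB (σ : K →+* K) : AddSubgroup (Bty d K) where
  carrier := {h | ∀ a, starM σ (h a) = h a}
  zero_mem' := by
    intro a
    unfold starM
    ext i j
    simp
  add_mem' := by
    intro x y hx hy a
    rw [Pi.add_apply, starM_add, hx a, hy a]
  neg_mem' := by
    intro x hx a
    have : starM σ (-(x a)) = -(starM σ (x a)) := by
      unfold starM
      ext i j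
      simp
    rw [Pi.neg_apply, this, hx a]

/-- the head block map on the `tau`-fixed elements -/
def piH (hd : ∀ k, 1 ≤ d k) (σ : K →+* K) : ↥(HermC d σ) →+ ↥(HermB d σ) where
  toFun c := ⟨hpi d hd c.1, fun a => by rw [← hpi_tau d hd σ c.1 c.2.1 a, c.2.2]⟩
  map_zero' := by
    apply Subtype.ext
    exact map_zero (hpi d hd)
  map_add' x y := by
    apply Subtype.ext
    exact map_add (hpi d hd) x.1 y.1

theorem piH_apply (hd : ∀ k, 1 ≤ d k) (σ : K →+* K) (c : ↥(HermC d σ)) :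
    (piH d hd σ c).1 = hpi d hd c.1 := rfl

theorem piH_surjective (hd : ∀ k, 1 ≤ d k) (σ : K →+* K) (hσ : ∀ x, σ (σ x) = x)
    (hne : ∃ l, σ l ≠ l) : Function.Surjective (piH d hd σ) := by
  rintro ⟨y, hy⟩
  obtain ⟨l, hl⟩ := hne
  have hne' : l - σ l ≠ 0 := fun h => hl (sub_eq_zero.1 h).symm
  obtain ⟨c, hc, hcy⟩ := hpi_surjective d hd y
  set r : K := l * (l - σ l)⁻¹ with hr
  have hr1 : r + σ r = 1 := by
    rw [hr, map_mul, map_inv₀, map_sub, hσ]
    have e1 : (σ l - l)⁻¹ = -(l - σ l)⁻¹ := by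
      rw [← neg_sub l (σ l), neg_inv]
    rw [e1, mul_neg, ← sub_eq_add_neg, ← sub_mul, mul_inv_cancel₀ hne']
  have hmem : r • c + σ r • tau d σ c ∈ HermC d σ := by
    refine ⟨add_comm_N0 d _ _ (smul_comm_N0 d r c hc) (smul_comm_N0 d _ _ (comm_tau d σ c hc)), ?_⟩
    rw [tau_add, tau_smul, tau_smul, tau_tau d σ hσ, hσ, add_comm]
  refine ⟨⟨r • c + σ r • tau d σ c, hmem⟩, ?_⟩
  apply Subtype.ext
  rw [piH_apply]
  simp only
  rw [map_add]
  funext a
  rw [Pi.add_apply, hpi_smul, hpi_smul, hpi_tau d hd σ c hc, hcy, hy a, ← add_smul, hr1, one_smul]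

variable [Fintype K]

omit [Fintype K] in
/-- the invertible `tau`-fixed elements of the commutant -/
theorem card_HU (hd : ∀ k, 1 ≤ d k) (σ : K →+* K) (hσ : ∀ x, σ (σ x) = x)
    (hne : ∃ l, σ l ≠ l) :
    Nat.card {c : Matrix (Idx d) (Idx d) K //
        c * N0 d K = N0 d K * c ∧ tau d σ c = c ∧ c.det ≠ 0} =
      Nat.card {c : Matrix (Idx d) (Idx d) K //
        (c * N0 d K = N0 d K * c ∧ hpi d hd c = 0) ∧ tau d σ c = c} *
        ∏ a : BlockIdx d, Nat.card {h : Matrix (BlockFib d a.1) (BlockFib d a.1) K //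
          starM σ h = h ∧ h.det ≠ 0} := by
  have h := card_fiber (piH d hd σ) (piH_surjective d hd σ hσ hne)
    (fun y => ∀ a : BlockIdx d, (y.1 a).det ≠ 0)
  have e1 : {x : ↥(HermC d σ) // ∀ a : BlockIdx d, ((piH d hd σ x).1 a).det ≠ 0} ≃
      {c : Matrix (Idx d) (Idx d) K // c * N0 d K = N0 d K * c ∧ tau d σ c = c ∧ c.det ≠ 0} :=
    { toFun := fun x => ⟨x.1.1, x.1.2.1, x.1.2.2, (det_ne_zero_iff d hd x.1.1 x.1.2.1).2 x.2⟩
      invFun := fun c => ⟨⟨c.1, c.2.1, c.2.2.1⟩, (det_ne_zero_iff d hd c.1 c.2.1).1 c.2.2.2⟩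
      left_inv := fun x => rfl
      right_inv := fun c => rfl }
  have e2 : ↥(piH d hd σ).ker ≃
      {c : Matrix (Idx d) (Idx d) K //
        (c * N0 d K = N0 d K * c ∧ hpi d hd c = 0) ∧ tau d σ c = c} :=
    { toFun := fun x => ⟨x.1.1, ⟨x.1.2.1, congrArg Subtype.val ((AddMonoidHom.mem_ker).1 x.2)⟩,
        x.1.2.2⟩
      invFun := fun c => ⟨⟨c.1, c.2.1.1, c.2.2⟩,
        (AddMonoidHom.mem_ker).2 (Subtype.ext c.2.1.2)⟩
      left_inv := fun x => rfl
      right_inv := fun c => rfl }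
  have e3 : {y : ↥(HermB d σ) // ∀ a : BlockIdx d, (y.1 a).det ≠ 0} ≃
      ∀ a : BlockIdx d, {h : Matrix (BlockFib d a.1) (BlockFib d a.1) K //
          starM σ h = h ∧ h.det ≠ 0} :=
    { toFun := fun y a => ⟨y.1.1 a, y.1.2 a, y.2 a⟩
      invFun := fun f => ⟨⟨fun a => (f a).1, fun a => (f a).2.1⟩, fun a => (f a).2.2⟩
      left_inv := fun y => rfl
      right_inv := fun f => rfl }
  rw [← Nat.card_congr e1, ← Nat.card_congr e2, ← Nat.card_pi, ← Nat.card_congr e3]
  exact h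

omit [Fintype K] in
/-- the radical has the square of the number of its `tau`-fixed elements -/
theorem card_J_sq (hd : ∀ k, 1 ≤ d k) (σ : K →+* K) (hσ : ∀ x, σ (σ x) = x)
    (hne : ∃ l, σ l ≠ l) :
    Nat.card {c : Matrix (Idx d) (Idx d) K // c * N0 d K = N0 d K * c ∧ hpi d hd c = 0} =
      Nat.card {c : Matrix (Idx d) (Idx d) K //
        (c * N0 d K = N0 d K * c ∧ hpi d hd c = 0) ∧ tau d σ c = c} ^ 2 := by
  obtain ⟨l, hl⟩ := hne
  have := card_eq_sq_fixed σ hσ l hl (tau d σ) (tau_add d σ) (tau_smul d σ) (tau_tau d σ hσ)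
    {c : Matrix (Idx d) (Idx d) K | c * N0 d K = N0 d K * c ∧ hpi d hd c = 0}
    (by
      intro x y hx hy
      exact ⟨add_comm_N0 d x y hx.1 hy.1, by rw [map_add, hx.2, hy.2, add_zero]⟩)
    (by
      intro r x hx
      refine ⟨smul_comm_N0 d r x hx.1, ?_⟩
      funext a
      rw [hpi_smul, hx.2, Pi.zero_apply, smul_zero])
    (by
      intro x hx
      refine ⟨comm_tau d σ x hx.1, ?_⟩
      funext a
      rw [hpi_tau d hd σ x hx.1, hx.2, Pi.zero_apply]
      unfold starM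
      ext i j
      simp)
  exact this

/-- the invertible elements of the commutant number the unitary ones times the invertible
`tau`-fixed ones -/
theorem card_CU_eq (σ : K →+* K) (hσ : ∀ x, σ (σ x) = x) (hne : ∃ l, σ l ≠ l) :
    Nat.card {c : Matrix (Idx d) (Idx d) K // c * N0 d K = N0 d K * c ∧ c.det ≠ 0} =
      Nat.card {c : Matrix (Idx d) (Idx d) K // c * N0 d K = N0 d K * c ∧ tau d σ c * c = 1} *
        Nat.card {c : Matrix (Idx d) (Idx d) K //
          c * N0 d K = N0 d K * c ∧ tau d σ c = c ∧ c.det ≠ 0} := by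
  apply card_units_eq_mul (tau d σ) (tau_mul d σ) (tau_one d σ) (tau_tau d σ hσ)
    {c : Matrix (Idx d) (Idx d) K | c * N0 d K = N0 d K * c}
  · intro X Y hX hY
    show X * Y * N0 d K = N0 d K * (X * Y)
    rw [Matrix.mul_assoc, hY, ← Matrix.mul_assoc, hX, Matrix.mul_assoc]
  · intro X hX hdet
    exact inv_comm_N0 d X hX hdet
  · intro X hX
    exact comm_tau d σ X hX
  · intro h hh hτ hdet
    have hcp : h.charpoly.map σ = h.charpoly := by
      rw [← charpoly_tau, hτ]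
    obtain ⟨R, hR1, hR2⟩ := exists_root_tau σ hσ hne (tau d σ) (tau_add d σ) (tau_mul d σ)
      (tau_smul d σ) (tau_one d σ) h hτ hdet hcp
    refine ⟨R, ?_, hR2⟩
    exact (hR1 (N0 d K) hh.symm).symm

end herm

section blocks

variable {K : Type*} [Field K] [Fintype K] {m : Type*} [Fintype m] [DecidableEq m]

/-- `|GL| = |U| * |invertible Hermitian matrices|` -/
theorem card_GL_eq (σ : K →+* K) (hσ : ∀ x, σ (σ x) = x) (hne : ∃ l, σ l ≠ l) :
    Nat.card {c : Matrix m m K // c.det ≠ 0} =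
      Nat.card {c : Matrix m m K // starM σ c * c = 1} *
        Nat.card {h : Matrix m m K // starM σ h = h ∧ h.det ≠ 0} := by
  have := card_units_eq_mul (starM σ) (starM_mul σ) (starM_one σ) (starM_starM σ hσ)
    (Set.univ : Set (Matrix m m K)) (fun _ _ _ _ => Set.mem_univ _) (fun _ _ _ => Set.mem_univ _)
    (fun _ _ => Set.mem_univ _)
    (by
      intro h _ hh hdet
      obtain ⟨R, -, hR⟩ := exists_root σ hσ hne h hh hdet
      exact ⟨R, Set.mem_univ _, hR⟩)
  have e1 : {c : Matrix m m K // c ∈ (Set.univ : Set (Matrix m m K)) ∧ c.det ≠ 0} ≃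
      {c : Matrix m m K // c.det ≠ 0} :=
    Equiv.subtypeEquivRight fun c => ⟨fun h => h.2, fun h => ⟨Set.mem_univ _, h⟩⟩
  have e2 : {c : Matrix m m K // c ∈ (Set.univ : Set (Matrix m m K)) ∧ starM σ c * c = 1} ≃
      {c : Matrix m m K // starM σ c * c = 1} :=
    Equiv.subtypeEquivRight fun c => ⟨fun h => h.2, fun h => ⟨Set.mem_univ _, h⟩⟩
  have e3 : {c : Matrix m m K // c ∈ (Set.univ : Set (Matrix m m K)) ∧ starM σ c = c ∧
      c.det ≠ 0} ≃ {c : Matrix m m K // starM σ c = c ∧ c.det ≠ 0} :=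
    Equiv.subtypeEquivRight fun c => ⟨fun h => h.2, fun h => ⟨Set.mem_univ _, h⟩⟩
  rw [← Nat.card_congr e1, ← Nat.card_congr e2, ← Nat.card_congr e3]
  exact this

end blocks

section final

variable {K : Type*} [Field K] [Fintype K] {t : ℕ} (d : Fin t → ℕ)

/-- the number of `tau`-unitary elements of the commutant of `N0` -/
theorem card_model {q : ℕ} (hK : Fintype.card K = q ^ 2) (hd : ∀ k, 1 ≤ d k) (σ : K →+* K)
    (hσ : ∀ x, σ (σ x) = x) (hne : ∃ l, σ l ≠ l) :
    Nat.card {c : Matrix (Idx d) (Idx d) K // c * N0 d K = N0 d K * c ∧ tau d σ c * c = 1} *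
        q ^ (∑ a : BlockIdx d, Fintype.card (BlockFib d a.1) ^ 2) =
      q ^ (∑ k, ∑ l, min (d l) (d k)) *
        ∏ a : BlockIdx d, Nat.card {g : Matrix (BlockFib d a.1) (BlockFib d a.1) K //
          starM σ g * g = 1} := by
  classical
  have hq : 0 < q := by
    rcases Nat.eq_zero_or_pos q with h | h
    · rw [h] at hK
      have : 0 < Fintype.card K := Fintype.card_pos
      omega
    · exact h
  have L1 := card_CU (K := K) d hd
  have L2 := card_HU d hd σ hσ hne
  have L3 := card_J_sq d hd σ hσ hne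
  have L4 := card_J_mul (K := K) d hd
  have L5 := card_CU_eq d σ hσ hne
  have L6 : ∀ a : BlockIdx d,
      Nat.card {h : Matrix (BlockFib d a.1) (BlockFib d a.1) K // h.det ≠ 0} =
      Nat.card {c : Matrix (BlockFib d a.1) (BlockFib d a.1) K // starM σ c * c = 1} *
        Nat.card {h : Matrix (BlockFib d a.1) (BlockFib d a.1) K // starM σ h = h ∧ h.det ≠ 0} :=
    fun a => card_GL_eq σ hσ hne
  set U := Nat.card {c : Matrix (Idx d) (Idx d) K //
    c * N0 d K = N0 d K * c ∧ tau d σ c * c = 1} with hU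
  set HJ := Nat.card {c : Matrix (Idx d) (Idx d) K //
        (c * N0 d K = N0 d K * c ∧ hpi d hd c = 0) ∧ tau d σ c = c} with hHJ
  set Jn := Nat.card {c : Matrix (Idx d) (Idx d) K //
    c * N0 d K = N0 d K * c ∧ hpi d hd c = 0} with hJn
  set PU := ∏ a : BlockIdx d, Nat.card {g : Matrix (BlockFib d a.1) (BlockFib d a.1) K //
          starM σ g * g = 1} with hPU
  set PH := ∏ a : BlockIdx d, Nat.card {h : Matrix (BlockFib d a.1) (BlockFib d a.1) K //
          starM σ h = h ∧ h.det ≠ 0} with hPH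
  have hprod : ∏ a : BlockIdx d,
      Nat.card {h : Matrix (BlockFib d a.1) (BlockFib d a.1) K // h.det ≠ 0} = PU * PH := by
    rw [hPU, hPH, ← Finset.prod_mul_distrib]
    apply Finset.prod_congr rfl
    intro a _
    exact L6 a
  rw [hprod] at L1
  rw [L2] at L5
  rw [L5] at L1
  -- positivity
  have hHJpos : 0 < HJ := by
    rw [hHJ]
    apply Nat.card_pos_iff.2
    refine ⟨⟨⟨0, ⟨(Cadd d K).zero_mem, map_zero _⟩, tau_zero d σ⟩⟩, inferInstance⟩
  have hPHpos : 0 < PH := by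
    rw [hPH]
    apply Finset.prod_pos
    intro a _
    apply Nat.card_pos_iff.2
    refine ⟨⟨⟨1, starM_one σ, by rw [Matrix.det_one]; exact one_ne_zero⟩⟩, inferInstance⟩
  -- U = HJ * PU
  have hUeq : U = HJ * PU := by
    have h1 : U * (HJ * PH) = (HJ * PU) * (HJ * PH) := by
      rw [L1, L3]
      ring
    exact Nat.eq_of_mul_eq_mul_right (Nat.mul_pos hHJpos hPHpos) h1
  -- HJ * q ^ s = q ^ D
  have hHJeq : HJ * q ^ (∑ a : BlockIdx d, Fintype.card (BlockFib d a.1) ^ 2) =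
      q ^ (∑ k, ∑ l, min (d l) (d k)) := by
    have h2 : (HJ * q ^ (∑ a : BlockIdx d, Fintype.card (BlockFib d a.1) ^ 2)) ^ 2 =
        (q ^ (∑ k, ∑ l, min (d l) (d k))) ^ 2 := by
      rw [mul_pow, ← L3, ← pow_mul, ← pow_mul, mul_comm _ 2, mul_comm _ 2, pow_mul, pow_mul,
        ← hK, ← L4, Finset.prod_pow_eq_pow_sum]
    exact Nat.pow_left_injective (by norm_num) h2
  rw [hUeq, mul_assoc, mul_comm PU, ← mul_assoc, hHJeq]

end final

end Cfsg.Agent.Lib.Helper43_GUCent
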