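import Cfsg.Agent.Lib.Helper43_GUCent5
import Cfsg.Agent.Lib.Helper43_GUUnip

set_option autoImplicit false

/-!
Transfer of the centraliser of a unipotent element of `GU_n(q)` of given Jordan type to the
`tau`-unitary elements of the commutant of `N0` in the model.
-/

namespace Cfsg.Agent.Lib.Helper43_GUCent

open Matrix
open Cfsg.Agent.Lib.Helper43_HermRoot Cfsg.Agent.Lib.Helper43_Jordan

section general

variable {K : Type*} [Field K] {m n : Type*} [Fintype m] [DecidableEq m] [Fintype n] [DecidableEq n]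

omit [Fintype m] [Fintype n] [DecidableEq m] [DecidableEq n] in
theorem starM_reindex (σ : K →+* K) (e : m ≃ n) (X : Matrix m m K) :
    starM σ (Matrix.reindex e e X) = Matrix.reindex e e (starM σ X) := by
  unfold starM
  ext i j
  simp [Matrix.reindex_apply]

omit [DecidableEq m] [DecidableEq n] in
theorem reindex_mul' (e : m ≃ n) (X Y : Matrix m m K) :
    Matrix.reindex e e (X * Y) = Matrix.reindex e e X * Matrix.reindex e e Y := by
  simp [Matrix.reindex_apply]

theorem reindex_pow' (e : m ≃ n) (X : Matrix m m K) (k : ℕ) :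
    Matrix.reindex e e (X ^ k) = (Matrix.reindex e e X) ^ k := by
  rw [← Matrix.coe_reindexAlgEquiv K K e, map_pow]

omit [Fintype m] [Fintype n] [DecidableEq m] [DecidableEq n] in
theorem reindex_zero' (e : m ≃ n) : Matrix.reindex e e (0 : Matrix m m K) = 0 := rfl

omit [Fintype m] [Fintype n] in
theorem reindex_one' (e : m ≃ n) : Matrix.reindex e e (1 : Matrix m m K) = 1 := by
  simp [Matrix.reindex_apply]

omit [Fintype m] [Fintype n] [DecidableEq m] [DecidableEq n] in
theorem reindex_sub' (e : m ≃ n) (X Y : Matrix m m K) :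
    Matrix.reindex e e (X - Y) = Matrix.reindex e e X - Matrix.reindex e e Y := by
  ext i j
  simp [Matrix.reindex_apply]

theorem semiconj_sub_one_pow (c A B : Matrix n n K) (h : c * A = B * c) (k : ℕ) :
    c * (A - 1) ^ k = (B - 1) ^ k * c := by
  have h1 : c * (A - 1) = (B - 1) * c := by
    rw [Matrix.mul_sub, Matrix.sub_mul, h, Matrix.mul_one, Matrix.one_mul]
  induction k with
  | zero => rw [pow_zero, pow_zero, Matrix.mul_one, Matrix.one_mul]
  | succ k ih =>
    rw [pow_succ, ← Matrix.mul_assoc, ih, Matrix.mul_assoc, h1, ← Matrix.mul_assoc, ← pow_succ]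

/-- conjugate matrices have the same ranks of powers of their nilpotent parts -/
theorem rank_sub_one_pow_of_semiconj (c A B : Matrix n n K) (hc : IsUnit c.det)
    (h : c * A = B * c) (k : ℕ) : ((B - 1) ^ k).rank = ((A - 1) ^ k).rank := by
  have h2 := semiconj_sub_one_pow c A B h k
  rw [← Matrix.rank_mul_eq_left_of_isUnit_det c ((B - 1) ^ k) hc, ← h2,
    Matrix.rank_mul_eq_right_of_isUnit_det c _ hc]

theorem pow_eq_zero_of_semiconj (c A B : Matrix n n K) (hc : IsUnit c.det)
    (h : c * A = B * c) (k : ℕ) (hA : (A - 1) ^ k = 0) : (B - 1) ^ k = 0 := by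
  have h2 := semiconj_sub_one_pow c A B h k
  rw [hA, Matrix.mul_zero] at h2
  have h3 : (B - 1) ^ k * c * c⁻¹ = 0 := by rw [← h2, Matrix.zero_mul]
  rwa [Matrix.mul_assoc, Matrix.mul_nonsing_inv _ hc, Matrix.mul_one] at h3

/-- conjugation by `P` with `P* P = H1` carries the unitary matrices commuting with `u` to the
isometries of `H1` commuting with `u1` -/
theorem card_conj_transfer (σ : K →+* K) (P H1 u1 u : Matrix n n K) (hP : IsUnit P.det)
    (hPH : starM σ P * P = H1) (hPu : P * u1 = u * P) :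
    Nat.card {x : Matrix n n K // starM σ x * x = 1 ∧ x * u = u * x} =
      Nat.card {y : Matrix n n K // starM σ y * H1 * y = H1 ∧ y * u1 = u1 * y} := by
  have hPP : P * P⁻¹ = 1 := Matrix.mul_nonsing_inv _ hP
  have hPP' : P⁻¹ * P = 1 := Matrix.nonsing_inv_mul _ hP
  have hsP : starM σ P⁻¹ * starM σ P = 1 := by rw [← starM_mul, hPP, starM_one]
  have hsP' : starM σ P * starM σ P⁻¹ = 1 := by rw [← starM_mul, hPP', starM_one]
  have hu1 : u1 * P⁻¹ = P⁻¹ * u := by
    calc u1 * P⁻¹ = (P⁻¹ * P) * u1 * P⁻¹ := by rw [hPP', Matrix.one_mul]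
      _ = P⁻¹ * (P * u1) * P⁻¹ := by simp only [Matrix.mul_assoc]
      _ = P⁻¹ * u * (P * P⁻¹) := by rw [hPu]; simp only [Matrix.mul_assoc]
      _ = P⁻¹ * u := by rw [hPP, Matrix.mul_one]
  apply Nat.card_congr
  refine
    { toFun := fun x => ⟨P⁻¹ * x.1 * P, ?_, ?_⟩
      invFun := fun y => ⟨P * y.1 * P⁻¹, ?_, ?_⟩
      left_inv := ?_
      right_inv := ?_ }
  · calc starM σ (P⁻¹ * x.1 * P) * H1 * (P⁻¹ * x.1 * P)
        = starM σ P * starM σ x.1 * (starM σ P⁻¹ * starM σ P) * (P * P⁻¹) * x.1 * P := by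
          rw [← hPH, starM_mul, starM_mul]; simp only [Matrix.mul_assoc]
      _ = starM σ P * (starM σ x.1 * x.1) * P := by
          rw [hsP, hPP, Matrix.mul_one, Matrix.mul_one]; simp only [Matrix.mul_assoc]
      _ = H1 := by rw [x.2.1, Matrix.mul_one, hPH]
  · calc P⁻¹ * x.1 * P * u1 = P⁻¹ * x.1 * (P * u1) := by simp only [Matrix.mul_assoc]
      _ = P⁻¹ * (x.1 * u) * P := by rw [hPu]; simp only [Matrix.mul_assoc]
      _ = (P⁻¹ * u) * x.1 * P := by rw [x.2.2]; simp only [Matrix.mul_assoc]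
      _ = u1 * (P⁻¹ * x.1 * P) := by rw [← hu1]; simp only [Matrix.mul_assoc]
  · calc starM σ (P * y.1 * P⁻¹) * (P * y.1 * P⁻¹)
        = starM σ P⁻¹ * (starM σ y.1 * (starM σ P * P) * y.1) * P⁻¹ := by
          rw [starM_mul, starM_mul]; simp only [Matrix.mul_assoc]
      _ = starM σ P⁻¹ * (starM σ P * P) * P⁻¹ := by rw [hPH, y.2.1]
      _ = (starM σ P⁻¹ * starM σ P) * (P * P⁻¹) := by simp only [Matrix.mul_assoc]
      _ = 1 := by rw [hsP, hPP, Matrix.one_mul]
  · calc P * y.1 * P⁻¹ * u = P * y.1 * (P⁻¹ * u) := by simp only [Matrix.mul_assoc]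
      _ = P * (y.1 * u1) * P⁻¹ := by rw [← hu1]; simp only [Matrix.mul_assoc]
      _ = (P * u1) * y.1 * P⁻¹ := by rw [y.2.2]; simp only [Matrix.mul_assoc]
      _ = u * (P * y.1 * P⁻¹) := by rw [hPu]; simp only [Matrix.mul_assoc]
  · intro x
    apply Subtype.ext
    show P * (P⁻¹ * x.1 * P) * P⁻¹ = x.1
    calc P * (P⁻¹ * x.1 * P) * P⁻¹ = (P * P⁻¹) * x.1 * (P * P⁻¹) := by
          simp only [Matrix.mul_assoc]
      _ = x.1 := by rw [hPP, Matrix.one_mul, Matrix.mul_one]
  · intro y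
    apply Subtype.ext
    show P⁻¹ * (P * y.1 * P⁻¹) * P = y.1
    calc P⁻¹ * (P * y.1 * P⁻¹) * P = (P⁻¹ * P) * y.1 * (P⁻¹ * P) := by
          simp only [Matrix.mul_assoc]
      _ = y.1 := by rw [hPP', Matrix.one_mul, Matrix.mul_one]

omit [DecidableEq m] [DecidableEq n] in
/-- reindexing the isometries of a form commuting with a matrix -/
theorem card_reindex_transfer (σ : K →+* K) (e : m ≃ n) (H0 u0 : Matrix m m K) :
    Nat.card {y : Matrix n n K // starM σ y * Matrix.reindex e e H0 * y = Matrix.reindex e e H0 ∧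
        y * Matrix.reindex e e u0 = Matrix.reindex e e u0 * y} =
      Nat.card {c : Matrix m m K // starM σ c * H0 * c = H0 ∧ c * u0 = u0 * c} := by
  symm
  apply Nat.card_congr
  refine Equiv.subtypeEquiv (Matrix.reindex e e) ?_
  intro c
  rw [starM_reindex, ← reindex_mul', ← reindex_mul', ← reindex_mul', ← reindex_mul',
    (Matrix.reindex e e).injective.eq_iff, (Matrix.reindex e e).injective.eq_iff]

end general

section GU

open Cfsg.Agent.Lib.Helper13_HermBridge Cfsg.Agent.Lib.Helper43_GUConj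
  Cfsg.Agent.Lib.Helper43_GUUnip

variable {K : Type*} [Field K] [Fintype K] {q n : ℕ}

/-- the centraliser in `GU_n(q)` as a set of matrices -/
theorem card_centralizer_GU (hK : Fintype.card K = q ^ 2) (u : ↥(Cfsg.GU n K q)) :
    Nat.card ↥(Subgroup.centralizer ({u} : Set ↥(Cfsg.GU n K q))) =
      Nat.card {x : Matrix (Fin n) (Fin n) K // starM (frobQ hK) x * x = 1 ∧
        x * ((u : GL (Fin n) K) : Matrix (Fin n) (Fin n) K) =
          ((u : GL (Fin n) K) : Matrix (Fin n) (Fin n) K) * x} := by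
  apply Nat.card_congr
  refine
    { toFun := fun x => ⟨((x.1 : GL (Fin n) K) : Matrix (Fin n) (Fin n) K),
        (mem_GU_iff_star hK _).1 x.1.2, ?_⟩
      invFun := fun y => ⟨⟨Matrix.GeneralLinearGroup.mk'' y.1
        (Matrix.isUnit_det_of_left_inverse y.2.1), (mem_GU_iff_star hK _).2 y.2.1⟩, ?_⟩
      left_inv := ?_
      right_inv := ?_ }
  · have h1 := Subgroup.mem_centralizer_singleton_iff.1 x.2
    have h2 := congrArg (fun z : ↥(Cfsg.GU n K q) =>
      ((z : GL (Fin n) K) : Matrix (Fin n) (Fin n) K)) h1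
    exact h2
  · rw [Subgroup.mem_centralizer_singleton_iff]
    apply Subtype.ext
    apply Units.ext
    exact y.2.2
  · intro x
    apply Subtype.ext
    apply Subtype.ext
    apply Units.ext
    rfl
  · intro y
    rfl

/-- the centraliser in `GU_n(q)` of a unipotent element of Jordan type `d` has as many elements as
the `tau`-unitary part of the commutant of `N0` in the model -/
theorem card_centralizer_eq_model (hK : Fintype.card K = q ^ 2) {t : ℕ} (d : Fin t → ℕ)
    (e : Idx d ≃ Fin n) (u : ↥(Cfsg.GU n K q))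
    (hu : IsConj (Matrix.reindex e e (Cfsg.jordanTypeMatrix d K))
      ((u : GL (Fin n) K) : Matrix (Fin n) (Fin n) K)) :
    Nat.card ↥(Subgroup.centralizer ({u} : Set ↥(Cfsg.GU n K q))) =
      Nat.card {c : Matrix (Idx d) (Idx d) K //
        c * N0 d K = N0 d K * c ∧ tau d (frobQ hK) c * c = 1} := by
  have hσ := frobQ_frobQ hK
  have hne := frobQ_exists_ne hK
  obtain ⟨u0, hu0τ, hu0c, hu0r, hu0z⟩ := exists_model_unitary d (frobQ hK) hσ hne
  obtain ⟨kN, hkN⟩ := isNilpotent_N0 (K := K) d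
  set H1 : Matrix (Fin n) (Fin n) K := Matrix.reindex e e (Hx d K) with hH1
  set u1 : Matrix (Fin n) (Fin n) K := Matrix.reindex e e u0 with hu1
  have hH1s : starM (frobQ hK) H1 = H1 := by
    rw [hH1, starM_reindex, starM_Hx]
  have hH1det : H1.det ≠ 0 := by
    rw [hH1, Matrix.det_reindex_self]
    exact det_Hx_ne_zero d
  have hinv0 : starM (frobQ hK) u0 * Hx d K * u0 = Hx d K := by
    have h1 : Hx d K * (tau d (frobQ hK) u0 * u0) = Hx d K := by rw [hu0τ, Matrix.mul_one]
    unfold tau at h1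
    calc starM (frobQ hK) u0 * Hx d K * u0
        = (Hx d K * Hx d K) * starM (frobQ hK) u0 * Hx d K * u0 := by
          rw [Hx_mul_Hx, Matrix.one_mul]
      _ = Hx d K * (Hx d K * starM (frobQ hK) u0 * Hx d K * u0) := by
          simp only [Matrix.mul_assoc]
      _ = Hx d K := h1
  have hinv1 : starM (frobQ hK) u1 * H1 * u1 = H1 := by
    rw [hu1, hH1, starM_reindex, ← reindex_mul', ← reindex_mul', hinv0]
  obtain ⟨R1, -, hR1⟩ := exists_root (frobQ hK) hσ hne H1 hH1s hH1det
  have hR1det : IsUnit R1.det := by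
    rw [isUnit_iff_ne_zero]
    intro h
    apply hH1det
    rw [← hR1, Matrix.det_mul, h, mul_zero]
  have hRR : R1 * R1⁻¹ = 1 := Matrix.mul_nonsing_inv _ hR1det
  have hRR' : R1⁻¹ * R1 = 1 := Matrix.nonsing_inv_mul _ hR1det
  set u2 : Matrix (Fin n) (Fin n) K := R1 * u1 * R1⁻¹ with hu2
  have hsR : starM (frobQ hK) R1⁻¹ * starM (frobQ hK) R1 = 1 := by
    rw [← starM_mul, hRR, starM_one]
  have hu2u : starM (frobQ hK) u2 * u2 = 1 := by
    calc starM (frobQ hK) u2 * u2
        = starM (frobQ hK) R1⁻¹ * (starM (frobQ hK) u1 * (starM (frobQ hK) R1 * R1) * u1) *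
            R1⁻¹ := by
          rw [hu2, starM_mul, starM_mul]; simp only [Matrix.mul_assoc]
      _ = starM (frobQ hK) R1⁻¹ * (starM (frobQ hK) R1 * R1) * R1⁻¹ := by rw [hR1, hinv1]
      _ = (starM (frobQ hK) R1⁻¹ * starM (frobQ hK) R1) * (R1 * R1⁻¹) := by
          simp only [Matrix.mul_assoc]
      _ = 1 := by rw [hsR, hRR, Matrix.one_mul]
  have hR1u : R1 * u1 = u2 * R1 := by
    rw [hu2, Matrix.mul_assoc, hRR', Matrix.mul_one]
  let u2g : GL (Fin n) K := Matrix.GeneralLinearGroup.mk'' u2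
    (Matrix.isUnit_det_of_left_inverse hu2u)
  have hu2g : (u2g : Matrix (Fin n) (Fin n) K) = u2 := rfl
  have hmem : u2g ∈ Cfsg.GU n K q := by
    rw [mem_GU_iff_star hK, hu2g]
    exact hu2u
  -- ranks
  have hu1sub : ∀ k, (u1 - 1) ^ k = Matrix.reindex e e ((u0 - 1) ^ k) := by
    intro k
    rw [reindex_pow', reindex_sub', reindex_one']
  have hr2 : ∀ k, ((u2 - 1) ^ k).rank = (N0 d K ^ k).rank := by
    intro k
    rw [rank_sub_one_pow_of_semiconj R1 u1 u2 hR1det hR1u k, hu1sub, Matrix.rank_reindex, hu0r]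
  obtain ⟨c, hc⟩ := hu
  have hc' : (c : Matrix (Fin n) (Fin n) K) * Matrix.reindex e e (Cfsg.jordanTypeMatrix d K) =
      ((u : GL (Fin n) K) : Matrix (Fin n) (Fin n) K) * (c : Matrix (Fin n) (Fin n) K) := hc
  have hcdet : IsUnit (c : Matrix (Fin n) (Fin n) K).det :=
    (Matrix.isUnit_iff_isUnit_det _).1 c.isUnit
  have hJsub : ∀ k, (Matrix.reindex e e (Cfsg.jordanTypeMatrix d K) - 1) ^ k =
      Matrix.reindex e e (N0 d K ^ k) := by
    intro k
    rw [reindex_pow']
    unfold N0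
    rw [reindex_sub', reindex_one']
  have hru : ∀ k, ((((u : GL (Fin n) K) : Matrix (Fin n) (Fin n) K) - 1) ^ k).rank =
      (N0 d K ^ k).rank := by
    intro k
    rw [rank_sub_one_pow_of_semiconj _ _ _ hcdet hc' k, hJsub, Matrix.rank_reindex]
  have hnil2 : IsNilpotent (Nof u2g) := by
    refine ⟨kN, ?_⟩
    rw [Nof_pow_eq_zero_iff, hu2g]
    apply pow_eq_zero_of_semiconj R1 u1 u2 hR1det hR1u
    rw [hu1sub, hu0z kN hkN, reindex_zero']
  have hnilu : IsNilpotent (Nof (u : GL (Fin n) K)) := by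
    refine ⟨kN, ?_⟩
    rw [Nof_pow_eq_zero_iff]
    apply pow_eq_zero_of_semiconj _ _ _ hcdet hc'
    rw [hJsub, hkN, reindex_zero']
  have hconjGL : IsConj u2g (u : GL (Fin n) K) := by
    apply isConj_of_rank_eq u2g (u : GL (Fin n) K) hnil2 hnilu
    intro k
    rw [hu2g, hr2, hru]
  have hconjGU := isConj_GU hK ⟨u2g, hmem⟩ u hconjGL
  obtain ⟨g, hg⟩ := isConj_iff.1 hconjGU
  have hg1 : g * ⟨u2g, hmem⟩ = u * g := by
    rw [← hg]
    group
  have hg2 : ((g : GL (Fin n) K) : Matrix (Fin n) (Fin n) K) * u2 =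
      ((u : GL (Fin n) K) : Matrix (Fin n) (Fin n) K) *
        ((g : GL (Fin n) K) : Matrix (Fin n) (Fin n) K) := by
    have := congrArg (fun z : ↥(Cfsg.GU n K q) =>
      ((z : GL (Fin n) K) : Matrix (Fin n) (Fin n) K)) hg1
    exact this
  have hgu : starM (frobQ hK) ((g : GL (Fin n) K) : Matrix (Fin n) (Fin n) K) *
      ((g : GL (Fin n) K) : Matrix (Fin n) (Fin n) K) = 1 := (mem_GU_iff_star hK _).1 g.2
  set P : Matrix (Fin n) (Fin n) K := ((g : GL (Fin n) K) : Matrix (Fin n) (Fin n) K) * R1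
    with hP
  have hPdet : IsUnit P.det := by
    rw [hP, Matrix.det_mul]
    exact ((Matrix.isUnit_iff_isUnit_det _).1 (g : GL (Fin n) K).isUnit).mul hR1det
  have hPH : starM (frobQ hK) P * P = H1 := by
    calc starM (frobQ hK) P * P
        = starM (frobQ hK) R1 *
            (starM (frobQ hK) ((g : GL (Fin n) K) : Matrix (Fin n) (Fin n) K) *
              ((g : GL (Fin n) K) : Matrix (Fin n) (Fin n) K)) * R1 := by
          rw [hP, starM_mul]; simp only [Matrix.mul_assoc]
      _ = H1 := by rw [hgu, Matrix.mul_one, hR1]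
  have hPu : P * u1 = ((u : GL (Fin n) K) : Matrix (Fin n) (Fin n) K) * P := by
    rw [hP, Matrix.mul_assoc, hR1u, ← Matrix.mul_assoc, hg2, Matrix.mul_assoc]
  rw [card_centralizer_GU hK u, card_conj_transfer (frobQ hK) P H1 u1 _ hPdet hPH hPu, hH1, hu1,
    card_reindex_transfer (frobQ hK) e (Hx d K) u0]
  apply Nat.card_congr
  apply Equiv.subtypeEquivRight
  intro x
  rw [hu0c x]
  constructor
  · rintro ⟨h1, h2⟩
    refine ⟨h2, ?_⟩
    unfold tau
    calc Hx d K * starM (frobQ hK) x * Hx d K * x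
        = Hx d K * (starM (frobQ hK) x * Hx d K * x) := by simp only [Matrix.mul_assoc]
      _ = 1 := by rw [h1, Hx_mul_Hx]
  · rintro ⟨h1, h2⟩
    refine ⟨?_, h1⟩
    unfold tau at h2
    calc starM (frobQ hK) x * Hx d K * x
        = (Hx d K * Hx d K) * starM (frobQ hK) x * Hx d K * x := by
          rw [Hx_mul_Hx, Matrix.one_mul]
      _ = Hx d K * (Hx d K * starM (frobQ hK) x * Hx d K * x) := by
          simp only [Matrix.mul_assoc]
      _ = Hx d K := by rw [h2, Matrix.mul_one]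

end GU

end Cfsg.Agent.Lib.Helper43_GUCent
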