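import Cfsg.Agent.Lib.Helper43_UnipCent3
import Cfsg.Agent.Lib.Helper5_SLCard

set_option autoImplicit false

/-!
Primes dividing the order of the centraliser in `GL_n(q)` of a nontrivial unipotent element divide
the order of `SL_(n-2)(q)`.
-/

namespace Cfsg.Agent.Lib.Helper43_UnipCentPrimes

open Matrix Module
open Cfsg.Agent.Lib.Helper43_Jordan Cfsg.Agent.Lib.Helper43_UnipCent

section combin

theorem card_fib_le {ι : Type*} [Fintype ι] [DecidableEq ι] (d : ι → ℕ) (hd : ∀ i, 1 ≤ d i)
    (n : ℕ) (hn : 4 ≤ n) (hsum : ∑ i, d i = n) (k₀ : ι) (hk₀ : 2 ≤ d k₀) (a : ℕ) :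
    Fintype.card {k : ι // d k = a} + 2 ≤ n := by
  rw [Fintype.card_subtype]
  set S := Finset.univ.filter (fun k : ι => d k = a) with hS
  have h1 : ∑ k ∈ S, d k ≤ n := by
    rw [← hsum]
    exact Finset.sum_le_sum_of_subset (Finset.subset_univ _)
  have h2 : ∑ k ∈ S, d k = S.card * a := by
    rw [Finset.sum_congr rfl (fun k hk => (Finset.mem_filter.1 hk).2), Finset.sum_const,
      smul_eq_mul]
  by_cases ha : 2 ≤ a
  · have : S.card * 2 ≤ S.card * a := Nat.mul_le_mul_left _ ha
    omega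
  · have hk₀S : k₀ ∉ S := by
      intro h
      have := (Finset.mem_filter.1 h).2
      omega
    have hsub : S ⊆ Finset.univ.erase k₀ := by
      intro k hk
      rw [Finset.mem_erase]
      refine ⟨?_, Finset.mem_univ k⟩
      rintro rfl
      exact hk₀S hk
    have h3 : S.card ≤ ∑ k ∈ S, d k := by
      rw [Finset.card_eq_sum_ones]
      exact Finset.sum_le_sum fun k _ => hd k
    have h4 : ∑ k ∈ S, d k ≤ ∑ k ∈ Finset.univ.erase k₀, d k :=
      Finset.sum_le_sum_of_subset hsub
    have h5 : d k₀ + ∑ k ∈ Finset.univ.erase k₀, d k = n := by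
      rw [Finset.add_sum_erase _ _ (Finset.mem_univ k₀), hsum]
    omega

end combin

section main

universe u

variable {F : Type u} [Field F] [Fintype F]

/-- primes dividing the order of the centraliser of a nontrivial unipotent matrix -/
theorem prime_dvd_card_centralizer (n : ℕ) (hn : 4 ≤ n) (u : Matrix (Fin n) (Fin n) F)
    (hnil : IsNilpotent (u - 1)) (hu : u ≠ 1) (r : ℕ) (hr : r.Prime)
    (hdvd : r ∣ Nat.card {g : GL (Fin n) F //
      (g : Matrix (Fin n) (Fin n) F) * u = u * (g : Matrix (Fin n) (Fin n) F)}) :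
    r ∣ Fintype.card F ∨ ∃ e, 1 ≤ e ∧ e + 2 ≤ n ∧ r ∣ Fintype.card F ^ e - 1 := by
  classical
  have hNnil : IsNilpotent (Matrix.toLin' (u - 1)) := by
    obtain ⟨k, hk⟩ := hnil
    exact ⟨k, by rw [← Matrix.toLin'_pow, hk, map_zero]⟩
  obtain ⟨ι, hι, d, b, hd, hb, -⟩ := jtype_spec (Matrix.toLin' (u - 1)) hNnil
  -- transfer to endomorphisms
  have hcard : Nat.card {g : GL (Fin n) F //
      (g : Matrix (Fin n) (Fin n) F) * u = u * (g : Matrix (Fin n) (Fin n) F)} =
      Nat.card {w : (End F (Fin n → F))ˣ //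
        (w : End F (Fin n → F)) * Matrix.toLin' (u - 1) =
          Matrix.toLin' (u - 1) * (w : End F (Fin n → F))} := by
    apply Nat.card_congr
    refine Equiv.subtypeEquiv (Matrix.GeneralLinearGroup.toLin).toEquiv ?_
    intro g
    show _ ↔ Matrix.toLin' (g : Matrix (Fin n) (Fin n) F) * Matrix.toLin' (u - 1) =
        Matrix.toLin' (u - 1) * Matrix.toLin' (g : Matrix (Fin n) (Fin n) F)
    rw [Module.End.mul_eq_comp, Module.End.mul_eq_comp, ← Matrix.toLin'_mul, ← Matrix.toLin'_mul,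
      Matrix.toLin'.injective.eq_iff, Matrix.mul_sub, Matrix.sub_mul, Matrix.mul_one,
      Matrix.one_mul, sub_left_inj]
  rw [hcard] at hdvd
  have key := card_units_comm_mul hb hd
  have hsum : ∑ i, d i = n := by
    have := hb.finrank_eq_sum
    rw [Module.finrank_fin_fun] at this
    exact this.symm
  -- some block has size at least two
  have hex : ∃ k₀, 2 ≤ d k₀ := by
    by_contra hne
    push Not at hne
    apply hu
    have hN0 : Matrix.toLin' (u - 1) = 0 := by
      apply b.ext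
      rintro ⟨i, j⟩
      rw [hb i j, dif_neg, LinearMap.zero_apply]
      have := hne i
      have := j.2
      omega
    have : u - 1 = 0 := Matrix.toLin'.injective (by rw [hN0, map_zero])
    exact sub_eq_zero.1 this
  obtain ⟨k₀, hk₀⟩ := hex
  have hdvd2 : r ∣ Fintype.card F ^ (∑ k, ∑ l, min (d l) (d k)) *
      ∏ a : BlockIdx d, ∏ j : Fin (Fintype.card (BlockFib d a.1)),
        (Fintype.card F ^ Fintype.card (BlockFib d a.1) - Fintype.card F ^ (j : ℕ)) := by
    rw [← key]
    exact Dvd.dvd.mul_right hdvd _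
  rcases (Nat.Prime.dvd_mul hr).1 hdvd2 with h | h
  · left
    exact hr.dvd_of_dvd_pow h
  · obtain ⟨a, -, ha⟩ := (Prime.dvd_finsetProd_iff hr.prime _).1 h
    obtain ⟨j, -, hj⟩ := (Prime.dvd_finsetProd_iff hr.prime _).1 ha
    have hjlt := j.2
    have hcle : Fintype.card (BlockFib d a.1) + 2 ≤ n := card_fib_le d hd n hn hsum k₀ hk₀ a.1
    have hfac : Fintype.card F ^ Fintype.card (BlockFib d a.1) - Fintype.card F ^ (j : ℕ) =
        Fintype.card F ^ (j : ℕ) *
          (Fintype.card F ^ (Fintype.card (BlockFib d a.1) - (j : ℕ)) - 1) := by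
      rw [Nat.mul_sub, mul_one, ← pow_add]
      congr 2
      omega
    rw [hfac] at hj
    rcases (Nat.Prime.dvd_mul hr).1 hj with h' | h'
    · left
      exact hr.dvd_of_dvd_pow h'
    · right
      exact ⟨Fintype.card (BlockFib d a.1) - (j : ℕ), by omega, by omega, h'⟩

/-- such primes divide the order of `SL_m(q)` -/
theorem dvd_card_SL (m : ℕ) (hm : 2 ≤ m) (r : ℕ)
    (h : r ∣ Fintype.card F ∨ ∃ e, 1 ≤ e ∧ e ≤ m ∧ r ∣ Fintype.card F ^ e - 1) :
    r ∣ Nat.card (Matrix.SpecialLinearGroup (Fin m) F) := by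
  obtain ⟨m', rfl⟩ : ∃ m', m = m' + 1 := ⟨m - 1, by omega⟩
  have hq : 2 ≤ Fintype.card F := Fintype.one_lt_card
  have h1 := Cfsg.Agent.Lib.Helper5_SLCard.card_GL_eq_card_SL_mul (F := F) (m' + 1) (by omega)
  rw [Matrix.card_GL_field, Fin.prod_univ_castSucc] at h1
  simp only [Fin.val_castSucc, Fin.val_last] at h1
  have h2 : Fintype.card F ^ (m' + 1) - Fintype.card F ^ m' =
      Fintype.card F ^ m' * (Fintype.card F - 1) := by
    rw [Nat.mul_sub, mul_one, pow_succ]
  rw [h2, ← mul_assoc] at h1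
  have h3 : (∏ i : Fin m', (Fintype.card F ^ (m' + 1) - Fintype.card F ^ (i : ℕ))) *
      Fintype.card F ^ m' = Nat.card (Matrix.SpecialLinearGroup (Fin (m' + 1)) F) :=
    Nat.eq_of_mul_eq_mul_right (by omega) h1
  rw [← h3]
  -- the case of a divisor of q ^ e - 1 with 2 ≤ e
  have hcase : ∀ e, 2 ≤ e → e ≤ m' + 1 → r ∣ Fintype.card F ^ e - 1 →
      r ∣ (∏ i : Fin m', (Fintype.card F ^ (m' + 1) - Fintype.card F ^ (i : ℕ))) *
        Fintype.card F ^ m' := by
    intro e he1 he2 hre
    apply Dvd.dvd.mul_right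
    have hi : m' + 1 - e < m' := by omega
    apply Dvd.dvd.trans _ (Finset.dvd_prod_of_mem _ (Finset.mem_univ (⟨m' + 1 - e, hi⟩ : Fin m')))
    have hfac : Fintype.card F ^ (m' + 1) - Fintype.card F ^ (m' + 1 - e) =
        Fintype.card F ^ (m' + 1 - e) * (Fintype.card F ^ e - 1) := by
      rw [Nat.mul_sub, mul_one, ← pow_add]
      congr 2
      omega
    show r ∣ Fintype.card F ^ (m' + 1) - Fintype.card F ^ (m' + 1 - e)
    rw [hfac]
    exact Dvd.dvd.mul_left hre _
  rcases h with h | ⟨e, he1, he2, hre⟩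
  · apply Dvd.dvd.mul_left
    exact Dvd.dvd.trans h (dvd_pow_self _ (by omega))
  · rcases Nat.lt_or_ge e 2 with he | he
    · have he' : e = 1 := by omega
      subst he'
      apply hcase 2 le_rfl (by omega)
      have : Fintype.card F ^ 2 - 1 = (Fintype.card F ^ 1 - 1) * (Fintype.card F + 1) := by
        rw [pow_one, Nat.sub_mul, one_mul, Nat.mul_add, mul_one, sq]
        omega
      rw [this]
      exact Dvd.dvd.mul_right hre _
    · exact hcase e he he2 hre

end main

end Cfsg.Agent.Lib.Helper43_UnipCentPrimes
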