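import Cfsg.Agent.S2646
import Cfsg.Agent.Lib.Helper43_UnipCentPrimes
import Cfsg.Agent.Lib.Helper5_SUOrder

set_option autoImplicit false

/-!
Primes dividing the order of the centraliser in `GU_n(q)` of a nontrivial unipotent element divide
the order of `SU_(n-2)(q)`.
-/

namespace Cfsg.Agent.Lib.Helper43_GUCentPrimes

open Matrix Module
open Cfsg.Agent.Lib.Helper43_Jordan Cfsg.Agent.Lib.Helper43_JordanMatrix
open Cfsg.Agent.Lib.Helper43_UnipCentPrimes Cfsg.Agent.S2581 Cfsg.Agent.S2646

section jordan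

universe u

variable {F : Type u} [Field F]

/-- a unipotent matrix is similar to a Jordan type matrix -/
theorem exists_jordanType_conj {n : ℕ} (A : Matrix (Fin n) (Fin n) F) (hnil : IsNilpotent (A - 1)) :
    ∃ (t : ℕ) (d : Fin t → ℕ), (∀ k, 1 ≤ d k) ∧ (A ≠ 1 → ∃ k₀, 2 ≤ d k₀) ∧
      ∃ e : ((k : Fin t) × Fin (d k)) ≃ Fin n,
        IsConj (Matrix.reindex e e (Cfsg.jordanTypeMatrix d F)) A := by
  classical
  have hNnil : IsNilpotent (Matrix.toLin' (A - 1)) := by
    obtain ⟨k, hk⟩ := hnil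
    exact ⟨k, by rw [← Matrix.toLin'_pow, hk, map_zero]⟩
  obtain ⟨ι, hι, d', b', hd', hb', hj'⟩ := jtype_spec (Matrix.toLin' (A - 1)) hNnil
  set eι := Fintype.equivFin ι with heι
  set d : Fin (Fintype.card ι) → ℕ := fun k => d' (eι.symm k) with hd
  have hd1 : ∀ k, 1 ≤ d k := fun k => hd' _
  have hmap : Multiset.map d Finset.univ.val = Multiset.map d' Finset.univ.val := by
    have h1 : Multiset.map d Finset.univ.val =
        Multiset.map d' (Multiset.map eι.symm Finset.univ.val) := by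
      rw [Multiset.map_map]
      rfl
    rw [h1]
    congr 1
    exact Multiset.map_univ_val_equiv eι.symm
  have hjU : jtype (Matrix.toLin' (Cfsg.jordanTypeMatrix d F - 1)) =
      jtype (Matrix.toLin' (A - 1)) := by
    rw [jtype_jordanType d hd1, hmap, hj']
  obtain ⟨ψ, hψ⟩ := (jtype_eq_iff _ (isNilpotent_jordanType d) _ hNnil).1 hjU
  have hcard : Fintype.card ((k : Fin (Fintype.card ι)) × Fin (d k)) = Fintype.card (Fin n) := by
    have h1 := LinearEquiv.finrank_eq ψ
    rw [Module.finrank_fintype_fun_eq_card, Module.finrank_fintype_fun_eq_card] at h1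
    exact h1
  refine ⟨Fintype.card ι, d, hd1, ?_, Fintype.equivOfCardEq hcard, ?_⟩
  · intro hA
    by_contra hne
    push Not at hne
    apply hA
    have hN0 : Matrix.toLin' (A - 1) = 0 := by
      apply b'.ext
      rintro ⟨i, j⟩
      rw [hb' i j, dif_neg, LinearMap.zero_apply]
      have := hne (eι i)
      simp only [hd, Equiv.symm_apply_apply] at this
      have := j.2
      omega
    have : A - 1 = 0 := Matrix.toLin'.injective (by rw [hN0, map_zero])
    exact sub_eq_zero.1 this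
  · apply isConj_of_equiv _ _ _ ψ
    rw [sub_one_intertwine]
    exact hψ

end jordan

section count

variable {K : Type*} [Field K] [Fintype K] {q n t : ℕ}

/-- the order of the centraliser of a unipotent element of `GU_n(q)` of given Jordan type -/
theorem card_centralizer_GU_nat (hK : Fintype.card K = q ^ 2) (d : Fin t → ℕ) (hd : ∀ k, 1 ≤ d k)
    (e : ((k : Fin t) × Fin (d k)) ≃ Fin n) (u : ↥(Cfsg.GU n K q))
    (hu : IsConj (Matrix.reindex e e (Cfsg.jordanTypeMatrix d K))
      ((u : GL (Fin n) K) : Matrix (Fin n) (Fin n) K)) :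
    Nat.card ↥(Subgroup.centralizer ({u} : Set ↥(Cfsg.GU n K q))) =
      q ^ (2 * (∑ i ∈ Finset.range (Finset.univ.sup d + 1),
        ∑ j ∈ Finset.range (Finset.univ.sup d + 1), if i < j then i * cnt d i * cnt d j else 0) +
      ∑ i ∈ Finset.range (Finset.univ.sup d + 1), (i - 1) * cnt d i ^ 2) *
      ∏ i ∈ Finset.range (Finset.univ.sup d + 1), gu q (cnt d i) := by
  have hq : 1 ≤ q := by
    rcases Nat.eq_zero_or_pos q with h | h
    · rw [h] at hK
      have : 0 < Fintype.card K := Fintype.card_pos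
      omega
    · exact h
  have h := Cfsg.Agent.S2646.result hK d hd e u hu
  have h' : ((q ^ (2 * (∑ i ∈ Finset.range (Finset.univ.sup d + 1),
        ∑ j ∈ Finset.range (Finset.univ.sup d + 1), if i < j then i * cnt d i * cnt d j else 0) +
      ∑ i ∈ Finset.range (Finset.univ.sup d + 1), (i - 1) * cnt d i ^ 2) *
      ∏ i ∈ Finset.range (Finset.univ.sup d + 1), gu q (cnt d i) : ℕ) : ℤ) =
      (Nat.card ↥(Subgroup.centralizer ({u} : Set ↥(Cfsg.GU n K q))) : ℤ) := by
    rw [h]
    push_cast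
    congr 1
    apply Finset.prod_congr rfl
    intro i _
    exact cast_gu q (cnt d i) hq
  exact_mod_cast h'.symm

/-- primes dividing the order of the centraliser of a nontrivial unipotent element of `GU_n(q)` -/
theorem prime_dvd_card_centralizer_GU (hK : Fintype.card K = q ^ 2) (hn : 4 ≤ n)
    (u : ↥(Cfsg.GU n K q))
    (hnil : IsNilpotent (((u : GL (Fin n) K) : Matrix (Fin n) (Fin n) K) - 1))
    (hu1 : ((u : GL (Fin n) K) : Matrix (Fin n) (Fin n) K) ≠ 1) (r : ℕ) (hr : r.Prime)
    (hdvd : r ∣ Nat.card ↥(Subgroup.centralizer ({u} : Set ↥(Cfsg.GU n K q)))) :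
    r ∣ q ∨ ∃ j, j + 3 ≤ n ∧ r ∣ (if Even j then q ^ (j + 1) + 1 else q ^ (j + 1) - 1) := by
  classical
  obtain ⟨t, d, hd, hex, e, hconj⟩ := exists_jordanType_conj _ hnil
  obtain ⟨k₀, hk₀⟩ := hex hu1
  rw [card_centralizer_GU_nat hK d hd e u hconj] at hdvd
  have hsum : ∑ k, d k = n := by
    have h1 := Fintype.card_congr e
    rw [Fintype.card_sigma, Fintype.card_fin] at h1
    simp only [Fintype.card_fin] at h1
    exact h1
  rcases (Nat.Prime.dvd_mul hr).1 hdvd with h | h
  · left
    exact hr.dvd_of_dvd_pow h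
  · obtain ⟨i, -, hi⟩ := (Prime.dvd_finsetProd_iff hr.prime _).1 h
    unfold gu at hi
    rcases (Nat.Prime.dvd_mul hr).1 hi with h' | h'
    · left
      exact hr.dvd_of_dvd_pow h'
    · right
      obtain ⟨j, hj, hj'⟩ := (Prime.dvd_finsetProd_iff hr.prime _).1 h'
      refine ⟨j, ?_, hj'⟩
      have hcle := card_fib_le d hd n hn hsum k₀ hk₀ i
      rw [Fintype.card_subtype] at hcle
      have hjlt : j < cnt d i := Finset.mem_range.1 hj
      unfold cnt at hjlt
      omega

/-- the factors of the order of `GU_n(q)` -/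
def term (q j : ℕ) : ℕ := if Even j then q ^ (j + 1) + 1 else q ^ (j + 1) - 1

theorem term_zero (q : ℕ) : term q 0 = q + 1 := by
  unfold term
  rw [if_pos Even.zero, zero_add, pow_one]

theorem term_one (q : ℕ) : term q 1 = q ^ 2 - 1 := by
  unfold term
  rw [if_neg Nat.not_even_one]

/-- such primes divide the order of `SU_m(q)` -/
theorem dvd_card_SU (hK : Fintype.card K = q ^ 2) (m : ℕ) (hm : 2 ≤ m) (r : ℕ)
    (h : r ∣ q ∨ ∃ j, j + 1 ≤ m ∧ r ∣ term q j) :
    r ∣ Nat.card ↥(Cfsg.SU m K q) := by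
  have hq : 1 ≤ q := by
    rcases Nat.eq_zero_or_pos q with h | h
    · rw [h] at hK
      have : 0 < Fintype.card K := Fintype.card_pos
      omega
    · exact h
  have h1 : (q + 1) * Nat.card ↥(Cfsg.SU m K q) =
      q ^ (m * (m - 1) / 2) * ∏ i ∈ Finset.range m, term q i :=
    Cfsg.Agent.Lib.Helper5_SUOrder.card_SU hK m (by omega)
  obtain ⟨m', rfl⟩ : ∃ m', m = m' + 2 := ⟨m - 2, by omega⟩
  -- split off the first two factors
  rw [Finset.prod_range_succ', Finset.prod_range_succ', term_zero, zero_add, term_one] at h1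
  have h2 : (q + 1) * Nat.card ↥(Cfsg.SU (m' + 2) K q) =
      (q + 1) * (q ^ ((m' + 2) * (m' + 2 - 1) / 2) *
        ((∏ k ∈ Finset.range m', term q (k + 1 + 1)) * (q ^ 2 - 1))) := by
    rw [h1]
    ring
  have h3 := Nat.eq_of_mul_eq_mul_left (by omega : 0 < q + 1) h2
  rw [h3]
  have hq2 : q ^ 2 - 1 = (q + 1) * (q - 1) := by
    obtain ⟨s, rfl⟩ : ∃ s, q = s + 1 := ⟨q - 1, by omega⟩
    simp only [Nat.add_sub_cancel]
    have : (s + 1) ^ 2 = (s + 1 + 1) * s + 1 := by ring
    omega
  have hexp : 1 ≤ (m' + 2) * (m' + 2 - 1) / 2 := by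
    have : 2 * 1 ≤ (m' + 2) * (m' + 2 - 1) := Nat.mul_le_mul (by omega) (by omega)
    omega
  rcases h with h | ⟨j, hj, hrj⟩
  · apply Dvd.dvd.mul_right
    exact h.trans (dvd_pow_self _ (by omega))
  · apply Dvd.dvd.mul_left
    rcases Nat.lt_or_ge j 2 with hj2 | hj2
    · apply Dvd.dvd.mul_left
      interval_cases j
      · rw [term_zero] at hrj
        rw [hq2]
        exact Dvd.dvd.mul_right hrj _
      · rw [term_one] at hrj
        exact hrj
    · apply Dvd.dvd.mul_right
      obtain ⟨j', rfl⟩ : ∃ j', j = j' + 2 := ⟨j - 2, by omega⟩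
      have hmem : j' ∈ Finset.range m' := Finset.mem_range.2 (by omega)
      exact hrj.trans (Finset.dvd_prod_of_mem (fun k => term q (k + 1 + 1)) hmem)

end count

end Cfsg.Agent.Lib.Helper43_GUCentPrimes
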