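import Cfsg.Agent.Lib.Helper43_GUUnip
import Cfsg.Agent.Lib.Helper43_RegUnipotent

set_option autoImplicit false

/-!
Elements of `GU_n(q)` centralising a regular unipotent element: they are of the form (scalar of norm
one) + nilpotent, so their determinants are `n`-th powers of norm-one scalars.
-/

namespace Cfsg.Agent.Lib.Helper43_GUReg

open Matrix Module
open Cfsg.Agent.Lib.Helper43_RegUnipotent Cfsg.Agent.Lib.Helper43_RegNilpotent
  Cfsg.Agent.Lib.Helper43_HermRoot Cfsg.Agent.Lib.Helper43_GUSimilar

section general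

variable {F : Type*} [Field F] {n : ℕ}

/-- an element centralising a regular unipotent matrix is a scalar plus a nilpotent matrix -/
theorem Reg.exists_scalar {M : Matrix (Fin n) (Fin n) F} (h : Reg M) (hn : 1 ≤ n)
    (z : Matrix (Fin n) (Fin n) F) (hz : z * M = M * z) :
    ∃ a : F, (z - a • (1 : Matrix (Fin n) (Fin n) F)) ^ n = 0 ∧ z.det = a ^ n := by
  have hc : Commute (toEnd n F z) (toEnd n F (M - 1)) := by
    show toEnd n F z * toEnd n F (M - 1) = toEnd n F (M - 1) * toEnd n F z
    rw [← map_mul, ← map_mul, Matrix.mul_sub, Matrix.sub_mul, hz, mul_one, one_mul]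
  have hV : 0 < finrank F (Fin n → F) := by rw [Module.finrank_fin_fun]; omega
  obtain ⟨a, ha⟩ := exists_scalar_sub_nilpotent (toEnd n F (M - 1)) h.nil h.ker hV (toEnd n F z) hc
  refine ⟨a, ?_, ?_⟩
  · have h1 : toEnd n F z - a • (1 : Module.End F (Fin n → F)) =
        toEnd n F (z - a • (1 : Matrix (Fin n) (Fin n) F)) := by
      rw [map_sub, map_smul, map_one]
    rw [h1, ← map_pow, Module.finrank_fin_fun] at ha
    exact (map_eq_zero_iff _ (toEnd n F).injective).1 ha
  · have h2 := det_scalar_add_nilpotent a (toEnd n F z - a • (1 : Module.End F (Fin n → F)))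
      ⟨_, ha⟩
    rw [add_sub_cancel, det_toEnd, Module.finrank_fin_fun] at h2
    exact h2

theorem scalar_eq_zero_of_isNilpotent (hn : 1 ≤ n) (c : F)
    (h : IsNilpotent (c • (1 : Matrix (Fin n) (Fin n) F))) : c = 0 := by
  obtain ⟨k, hk⟩ := h
  rw [smul_pow, one_pow] at hk
  have h1 := congrFun (congrFun hk ⟨0, by omega⟩) ⟨0, by omega⟩
  rw [Matrix.smul_apply, Matrix.one_apply_eq, smul_eq_mul, mul_one, Matrix.zero_apply] at h1
  exact pow_eq_zero_iff (n := k) (by
    rintro rfl
    rw [pow_zero] at h1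
    exact one_ne_zero h1) |>.1 h1

/-- a unitary matrix of the form scalar + nilpotent has a scalar of norm one -/
theorem norm_eq_one_of_unitary (σ : F →+* F) (hn : 1 ≤ n) (z : Matrix (Fin n) (Fin n) F) (a : F)
    (k : ℕ) (hnil : (z - a • (1 : Matrix (Fin n) (Fin n) F)) ^ k = 0) (hu : starM σ z * z = 1) :
    σ a * a = 1 := by
  have hu' : z * starM σ z = 1 := mul_eq_one_comm.1 hu
  set Y := z - a • (1 : Matrix (Fin n) (Fin n) F) with hY
  set Ys := starM σ z - σ a • (1 : Matrix (Fin n) (Fin n) F) with hYs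
  have hYs' : Ys = starM σ Y := by
    rw [hY, hYs, starM_sub, starM_smul, starM_one]
  have hYn : IsNilpotent Y := ⟨k, hnil⟩
  have hYsn : IsNilpotent Ys := by
    refine ⟨k, ?_⟩
    rw [hYs', ← starM_pow, hnil]
    unfold starM
    ext i j
    simp
  have hzz : Commute z (starM σ z) := by
    show z * starM σ z = starM σ z * z
    rw [hu, hu']
  have hcomm : Commute Y Ys := by
    rw [hY, hYs]
    apply Commute.sub_left
    · apply Commute.sub_right hzz
      exact (Commute.one_right z).smul_right _
    · apply Commute.smul_left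
      exact Commute.one_left _
  have hz : z = a • (1 : Matrix (Fin n) (Fin n) F) + Y := by rw [hY]; abel
  have hzs : starM σ z = σ a • (1 : Matrix (Fin n) (Fin n) F) + Ys := by rw [hYs]; abel
  have hkey : (σ a * a - 1) • (1 : Matrix (Fin n) (Fin n) F) =
      -(σ a • Y + a • Ys + Ys * Y) := by
    have h1 : (σ a • (1 : Matrix (Fin n) (Fin n) F) + Ys) * (a • (1 : Matrix (Fin n) (Fin n) F) + Y)
        = (σ a * a) • (1 : Matrix (Fin n) (Fin n) F) + (σ a • Y + a • Ys + Ys * Y) := by
      simp only [Matrix.add_mul, Matrix.mul_add, Matrix.smul_mul, Matrix.mul_smul, Matrix.one_mul,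
        Matrix.mul_one, smul_add, smul_smul]
      rw [mul_comm a (σ a)]
      abel
    have h2 : (σ a * a) • (1 : Matrix (Fin n) (Fin n) F) + (σ a • Y + a • Ys + Ys * Y) = 1 := by
      rw [← h1, ← hzs, ← hz, hu]
    calc (σ a * a - 1) • (1 : Matrix (Fin n) (Fin n) F)
        = (σ a * a) • (1 : Matrix (Fin n) (Fin n) F) -
          ((σ a * a) • (1 : Matrix (Fin n) (Fin n) F) + (σ a • Y + a • Ys + Ys * Y)) := by
          rw [h2, sub_smul, one_smul]
      _ = -(σ a • Y + a • Ys + Ys * Y) := by abel
  have hnil2 : IsNilpotent ((σ a * a - 1) • (1 : Matrix (Fin n) (Fin n) F)) := by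
    rw [hkey]
    apply IsNilpotent.neg
    have h1 : IsNilpotent (σ a • Y) := hYn.smul _
    have h2 : IsNilpotent (a • Ys) := hYsn.smul _
    have h3 : IsNilpotent (Ys * Y) := hcomm.symm.isNilpotent_mul_right hYsn
    have c1 : Commute (σ a • Y) (a • Ys) := (hcomm.smul_left _).smul_right _
    have c2 : Commute (σ a • Y + a • Ys) (Ys * Y) := by
      apply Commute.add_left
      · apply Commute.smul_left
        exact (hcomm.mul_right (Commute.refl Y))
      · apply Commute.smul_left
        exact ((Commute.refl Ys).mul_right hcomm.symm)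
    exact c2.isNilpotent_add (c1.isNilpotent_add h1 h2) h3
  have := scalar_eq_zero_of_isNilpotent hn _ hnil2
  exact sub_eq_zero.1 this

end general

end Cfsg.Agent.Lib.Helper43_GUReg
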