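import Cfsg.Agent.Lib.Helper43_GUConj

set_option autoImplicit false

/-!
Over a finite field `K` with an involutive field automorphism `σ ≠ 1`: if an invertible matrix `S`
satisfies `A* S A = S` (where `X* = (X ^ σ)ᵀ`), then there is an invertible Hermitian `T` with
`A* T A = T`, and hence `A` is conjugate to a unitary matrix.
-/

namespace Cfsg.Agent.Lib.Helper43_GUSimilar

open Matrix Polynomial
open Cfsg.Agent.Lib.Helper43_HermRoot

section poly

variable {K : Type*} [Field K] {n : Type*} [Fintype n] [DecidableEq n]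

/-- splitting off the generalised kernel of a matrix by a polynomial whose value is stable under
the field automorphism -/
theorem exists_split (σ : K →+* K) (hσ : ∀ x, σ (σ x) = x) (N : Matrix n n K) :
    ∃ (ψ m' p p' : K[X]) (a : ℕ),
      aeval N (ψ.map σ) = aeval N ψ ∧
      N ^ a * aeval N ψ = 0 ∧
      aeval N m' * (1 - aeval N ψ) = 0 ∧
      aeval N ψ * aeval N ψ = aeval N ψ ∧
      p * X + p' * m' = 1 := by
  classical
  set χ : K[X] := N.charpoly * N.charpoly.map σ with hχ
  have hχne : χ ≠ 0 :=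
    mul_ne_zero (Matrix.charpoly_monic N).ne_zero ((Matrix.charpoly_monic N).map σ).ne_zero
  have hσσ : σ.comp σ = RingHom.id K := by
    ext x
    exact hσ x
  have hχσ : χ.map σ = χ := by
    rw [hχ, Polynomial.map_mul, Polynomial.map_map, hσσ, Polynomial.map_id, mul_comm]
  have hχN : aeval N χ = 0 := by
    rw [hχ, map_mul, Matrix.aeval_self_charpoly, zero_mul]
  obtain ⟨m', hm', hnd⟩ := Polynomial.exists_eq_pow_rootMultiplicity_mul_and_not_dvd χ hχne 0
  rw [C_0, sub_zero] at hm' hnd
  set a := rootMultiplicity 0 χ with ha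
  have hcop : IsCoprime (X : K[X]) m' := (Polynomial.irreducible_X.coprime_iff_not_dvd).2 hnd
  have hm'σ : m'.map σ = m' := by
    have h1 : χ.map σ = X ^ a * m'.map σ := by
      conv_lhs => rw [hm']
      rw [Polynomial.map_mul, Polynomial.map_pow, Polynomial.map_X]
    rw [hχσ] at h1
    have h2 : X ^ a * m'.map σ = X ^ a * m' := by rw [← h1, ← hm']
    exact mul_left_cancel₀ (pow_ne_zero a X_ne_zero) h2
  obtain ⟨p, p', hpp⟩ := hcop
  obtain ⟨u, u', huu⟩ := (IsCoprime.pow_left (m := a) (⟨p, p', hpp⟩ : IsCoprime (X : K[X]) m'))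
  have huuσ : u.map σ * X ^ a + u'.map σ * m' = 1 := by
    have := congrArg (Polynomial.map σ) huu
    rwa [Polynomial.map_add, Polynomial.map_mul, Polynomial.map_mul, Polynomial.map_pow,
      Polynomial.map_X, hm'σ, Polynomial.map_one] at this
  have hdvd : X ^ a ∣ (u'.map σ - u') := by
    apply IsCoprime.dvd_of_dvd_mul_right (IsCoprime.pow_left (m := a)
      (⟨p, p', hpp⟩ : IsCoprime (X : K[X]) m'))
    refine ⟨u - u.map σ, ?_⟩
    linear_combination huuσ - huu
  obtain ⟨w, hw⟩ := hdvd
  refine ⟨u' * m', m', p, p', a, ?_, ?_, ?_, ?_, hpp⟩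
  · have h1 : (u' * m').map σ = u' * m' + w * χ := by
      rw [Polynomial.map_mul, hm'σ]
      conv_rhs => rw [hm']
      linear_combination m' * hw
    rw [h1, map_add, map_mul (aeval N) w χ, hχN, mul_zero, add_zero]
  · have h0 : X ^ a * (u' * m') = u' * χ := by
      conv_rhs => rw [hm']
      ring
    have h1 : N ^ a * aeval N (u' * m') = aeval N (X ^ a * (u' * m')) := by
      rw [map_mul (aeval N) (X ^ a) (u' * m'), map_pow, aeval_X]
    rw [h1, h0, map_mul (aeval N) u' χ, hχN, mul_zero]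
  · have h2 : m' * ((1 : K[X]) - u' * m') = u * χ := by
      conv_rhs => rw [hm']
      linear_combination (-m') * huu
    have h3 : aeval N m' * (1 - aeval N (u' * m')) = aeval N (m' * ((1 : K[X]) - u' * m')) := by
      rw [map_mul (aeval N) m' ((1 : K[X]) - u' * m'), map_sub, map_one]
    rw [h3, h2, map_mul (aeval N) u χ, hχN, mul_zero]
  · have h2 : (u' * m') * (u' * m') = u' * m' - (u * u') * χ := by
      conv_rhs => rw [hm']
      linear_combination (u' * m') * huu
    rw [← map_mul, h2, map_sub, map_mul (aeval N) (u * u') χ, hχN, mul_zero, sub_zero]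

end poly

section cancel

variable {K : Type*} [Field K] {n : Type*} [Fintype n] [DecidableEq n]

theorem pow_mul_eigen (N Y : Matrix n n K) (κ : K) (h : N * Y = κ • Y) (j : ℕ) :
    N ^ j * Y = κ ^ j • Y := by
  induction j with
  | zero => rw [pow_zero, pow_zero, Matrix.one_mul, one_smul]
  | succ j ih =>
    rw [pow_succ, Matrix.mul_assoc, h, Matrix.mul_smul, ih, smul_smul, pow_succ, mul_comm]

/-- the matrix `e (μ + ν W) + (1 - e) (1 + W)` is left cancellable -/
theorem D_cancel (W V e M P P' Y : Matrix n n K) (μ ν : K) (a : ℕ) (hμν : μ ≠ ν) (hμ : μ ≠ 0)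
    (hν : ν ≠ 0) (hWV : W * V = 1) (hVW : V * W = 1) (heW : e * W = W * e) (hee : e * e = e)
    (hNa : ((W + 1) * (V + 1)) ^ a * e = 0) (hM : M * (1 - e) = 0)
    (hP : P * ((W + 1) * (V + 1)) + P' * M = 1)
    (hD : (e * (μ • (1 : Matrix n n K) + ν • W) + (1 - e) * (1 + W)) * Y = 0) : Y = 0 := by
  set N := (W + 1) * (V + 1) with hN
  have hN' : N = (V + 1) * (W + 1) := by
    rw [hN]
    simp only [Matrix.add_mul, Matrix.mul_add, Matrix.one_mul, Matrix.mul_one, hWV, hVW]
    abel
  have he1 : e * (1 - e) = 0 := by rw [Matrix.mul_sub, Matrix.mul_one, hee, sub_self]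
  have he2 : (1 - e) * e = 0 := by rw [Matrix.sub_mul, Matrix.one_mul, hee, sub_self]
  have he3 : (1 - e) * (1 - e) = 1 - e := by rw [Matrix.mul_sub, Matrix.mul_one, he2, sub_zero]
  -- the part on the range of `e`
  have h1 : μ • (e * Y) + ν • (W * (e * Y)) = 0 := by
    have h := congrArg (fun Z => e * Z) hD
    simp only [Matrix.mul_zero] at h
    rw [← Matrix.mul_assoc, Matrix.mul_add, ← Matrix.mul_assoc, ← Matrix.mul_assoc, hee, he1,
      Matrix.zero_mul, add_zero] at h
    rw [Matrix.mul_add, Matrix.add_mul, Matrix.mul_smul, Matrix.smul_mul, Matrix.mul_one,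
      Matrix.mul_smul, Matrix.smul_mul, heW, Matrix.mul_assoc] at h
    exact h
  set Y₁ := e * Y with hY₁
  set ω : K := -(ν⁻¹ * μ) with hω
  have hω0 : ω ≠ 0 := neg_ne_zero.2 (mul_ne_zero (inv_ne_zero hν) hμ)
  have hω1 : ω + 1 ≠ 0 := by
    intro h
    apply hμν
    have h2 : ν * (ω + 1) = ν - μ := by
      rw [hω]
      field_simp
      ring
    rw [h, mul_zero] at h2
    exact (sub_eq_zero.1 h2.symm).symm
  have hWY : W * Y₁ = ω • Y₁ := by
    have h := congrArg (fun Z => ν⁻¹ • Z) h1
    simp only [smul_zero, smul_add, smul_smul, inv_mul_cancel₀ hν, one_smul] at h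
    rw [hω, neg_smul]
    exact eq_neg_of_add_eq_zero_right h
  have hVY : V * Y₁ = ω⁻¹ • Y₁ := by
    have h := congrArg (fun Z => ω⁻¹ • (V * Z)) hWY
    simp only [Matrix.mul_smul, smul_smul, inv_mul_cancel₀ hω0, one_smul] at h
    rw [← h, ← Matrix.mul_assoc, hVW, Matrix.one_mul]
  have hNY : N * Y₁ = ((ω + 1) * (ω⁻¹ + 1)) • Y₁ := by
    have h3 : (V + 1) * Y₁ = (ω⁻¹ + 1) • Y₁ := by
      rw [Matrix.add_mul, hVY, Matrix.one_mul, add_smul, one_smul]
    have h4 : (W + 1) * Y₁ = (ω + 1) • Y₁ := by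
      rw [Matrix.add_mul, hWY, Matrix.one_mul, add_smul, one_smul]
    rw [hN, Matrix.mul_assoc, h3, Matrix.mul_smul, h4, smul_smul, mul_comm]
  have hY₁0 : Y₁ = 0 := by
    have h := pow_mul_eigen N Y₁ _ hNY a
    rw [hY₁, ← Matrix.mul_assoc, hNa, Matrix.zero_mul] at h
    have hκ : ((ω + 1) * (ω⁻¹ + 1)) ^ a ≠ 0 := by
      apply pow_ne_zero
      apply mul_ne_zero hω1
      intro h3
      apply hω1
      have : ω * (ω⁻¹ + 1) = ω + 1 := by
        rw [mul_add, mul_inv_cancel₀ hω0, mul_one, add_comm]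
      rw [← this, h3, mul_zero]
    rcases smul_eq_zero.1 h.symm with h4 | h4
    · exact absurd h4 hκ
    · exact h4
  -- the complementary part
  have h2 : (1 + W) * ((1 - e) * Y) = 0 := by
    have h := congrArg (fun Z => (1 - e) * Z) hD
    simp only [Matrix.mul_zero] at h
    rw [← Matrix.mul_assoc, Matrix.mul_add, ← Matrix.mul_assoc, ← Matrix.mul_assoc, he2, he3,
      Matrix.zero_mul, zero_add] at h
    have hc : (1 - e) * (1 + W) = (1 + W) * (1 - e) := by
      simp only [Matrix.add_mul, Matrix.mul_add, Matrix.sub_mul, Matrix.mul_sub, Matrix.one_mul,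
        Matrix.mul_one, heW]
      abel
    rw [hc, Matrix.mul_assoc] at h
    exact h
  set Y₂ := (1 - e) * Y with hY₂
  have hNY₂ : N * Y₂ = 0 := by
    rw [hN', Matrix.mul_assoc, add_comm W 1, h2, Matrix.mul_zero]
  have hMY₂ : M * Y₂ = 0 := by
    rw [hY₂, ← Matrix.mul_assoc, hM, Matrix.zero_mul]
  have hY₂0 : Y₂ = 0 := by
    calc Y₂ = (P * N + P' * M) * Y₂ := by rw [hP, Matrix.one_mul]
      _ = P * (N * Y₂) + P' * (M * Y₂) := by
        rw [Matrix.add_mul, Matrix.mul_assoc P N Y₂, Matrix.mul_assoc P' M Y₂]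
      _ = 0 := by rw [hNY₂, hMY₂, Matrix.mul_zero, Matrix.mul_zero, add_zero]
  calc Y = e * Y + (1 - e) * Y := by rw [Matrix.sub_mul, Matrix.one_mul]; abel
    _ = 0 := by rw [← hY₁, ← hY₂, hY₁0, hY₂0, add_zero]

/-- left cancellable square matrices over a field have nonzero determinant -/
theorem det_ne_zero_of_cancel (D : Matrix n n K) (h : ∀ Y : Matrix n n K, D * Y = 0 → Y = 0) :
    D.det ≠ 0 := by
  intro hdet
  obtain ⟨v, hv, hDv⟩ := Matrix.exists_mulVec_eq_zero_iff.2 hdet
  apply hv
  have hY : D * (Matrix.of fun i (_ : n) => v i) = 0 := by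
    ext i j
    have := congrFun hDv i
    simpa [Matrix.mul_apply, Matrix.mulVec, dotProduct] using this
  have h0 := h _ hY
  ext i
  have := congrFun (congrFun h0 i) i
  simpa using this

end cancel

section main

variable {K : Type*} [Field K] {n : Type*} [Fintype n] [DecidableEq n]

omit [Fintype n] [DecidableEq n] in
theorem starM_sub (σ : K →+* K) (X Y : Matrix n n K) :
    starM σ (X - Y) = starM σ X - starM σ Y := by
  unfold starM
  ext i j
  simp

theorem pow_intertwine {X Y S : Matrix n n K} (h : X * S = S * Y) (j : ℕ) :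
    X ^ j * S = S * Y ^ j := by
  induction j with
  | zero => rw [pow_zero, pow_zero, Matrix.one_mul, Matrix.mul_one]
  | succ j ih =>
    rw [pow_succ, Matrix.mul_assoc, h, ← Matrix.mul_assoc, ih, Matrix.mul_assoc, ← pow_succ]

theorem aeval_intertwine {X Y S : Matrix n n K} (h : X * S = S * Y) (P : K[X]) :
    aeval X P * S = S * aeval Y P := by
  induction P using Polynomial.induction_on' with
  | add p q hp hq => rw [map_add, map_add, Matrix.add_mul, Matrix.mul_add, hp, hq]
  | monomial j c =>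
    rw [aeval_monomial, aeval_monomial, Algebra.algebraMap_eq_smul_one]
    simp only [Matrix.smul_mul, Matrix.mul_smul, Matrix.one_mul]
    rw [pow_intertwine h j]

theorem cancel_left (M X Y : Matrix n n K) (hM : M.det ≠ 0) (h : M * X = M * Y) : X = Y := by
  have hu : IsUnit M.det := isUnit_iff_ne_zero.2 hM
  calc X = M⁻¹ * (M * X) := by rw [← Matrix.mul_assoc, Matrix.nonsing_inv_mul M hu, Matrix.one_mul]
    _ = M⁻¹ * (M * Y) := by rw [h]
    _ = Y := by rw [← Matrix.mul_assoc, Matrix.nonsing_inv_mul M hu, Matrix.one_mul]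

/-- an invariant invertible sesquilinear form can be replaced by a Hermitian one -/
theorem exists_hermitian_invariant (σ : K →+* K) (hσ : ∀ x, σ (σ x) = x) (hne : ∃ l, σ l ≠ l)
    (A S : Matrix n n K) (hS : S.det ≠ 0) (hinv : starM σ A * S * A = S) :
    ∃ T : Matrix n n K, starM σ T = T ∧ T.det ≠ 0 ∧ starM σ A * T * A = T := by
  obtain ⟨μ, hμ⟩ := hne
  have hμ0 : μ ≠ 0 := by
    rintro rfl
    exact hμ (map_zero σ)
  have hν0 : σ μ ≠ 0 := (_root_.map_ne_zero σ).2 hμ0
  have hSu : IsUnit S.det := isUnit_iff_ne_zero.2 hS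
  set Si := S⁻¹ with hSi
  have hS1 : S * Si = 1 := Matrix.mul_nonsing_inv S hSu
  have hS2 : Si * S = 1 := Matrix.nonsing_inv_mul S hSu
  set Z := starM σ S with hZ
  set Zi := starM σ Si with hZi
  have hZ1 : Z * Zi = 1 := by rw [hZ, hZi, ← starM_mul, hS2, starM_one]
  have hZ2 : Zi * Z = 1 := by rw [hZ, hZi, ← starM_mul, hS1, starM_one]
  have hZs : starM σ Z = S := starM_starM σ hσ S
  have hZis : starM σ Zi = Si := starM_starM σ hσ Si
  set W := Si * Z with hW
  set V := Zi * S with hV
  have hWV : W * V = 1 := by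
    calc W * V = Si * (Z * Zi) * S := by rw [hW, hV]; simp only [Matrix.mul_assoc]
      _ = 1 := by rw [hZ1, Matrix.mul_one, hS2]
  have hVW : V * W = 1 := by
    calc V * W = Zi * (S * Si) * Z := by rw [hW, hV]; simp only [Matrix.mul_assoc]
      _ = 1 := by rw [hS1, Matrix.mul_one, hZ2]
  have hSW : S * W = Z := by rw [hW, ← Matrix.mul_assoc, hS1, Matrix.one_mul]
  have hZV : Z * V = S := by rw [hV, ← Matrix.mul_assoc, hZ1, Matrix.one_mul]
  have hWs : starM σ W * S = S * V := by
    rw [hW, starM_mul, hZs, hV, Matrix.mul_assoc]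
  have hVs : starM σ V * S = S * W := by
    rw [hV, starM_mul, hZis, Matrix.mul_assoc, hS2, Matrix.mul_one, hSW]
  set N := (W + 1) * (V + 1) with hN
  have hNs : starM σ N * S = S * N := by
    rw [hN, starM_mul, starM_add, starM_add, starM_one]
    calc (starM σ V + 1) * (starM σ W + 1) * S = (starM σ V + 1) * (starM σ W * S + S) := by
          rw [Matrix.mul_assoc, Matrix.add_mul (starM σ W), Matrix.one_mul]
      _ = (starM σ V + 1) * S * (V + 1) := by
          rw [hWs, Matrix.mul_assoc, Matrix.mul_add S, Matrix.mul_one]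
      _ = (starM σ V * S + S) * (V + 1) := by rw [Matrix.add_mul (starM σ V), Matrix.one_mul]
      _ = S * ((W + 1) * (V + 1)) := by
          rw [hVs, ← Matrix.mul_assoc S (W + 1) (V + 1), Matrix.mul_add S W 1, Matrix.mul_one]
  -- invariance
  have hAZ : starM σ A * Z * A = Z := by
    have h := congrArg (starM σ) hinv
    rw [starM_mul, starM_mul, starM_starM σ hσ, ← Matrix.mul_assoc] at h
    exact h
  have hAdet : A.det ≠ 0 := by
    intro h
    apply hS
    rw [← hinv, Matrix.det_mul, h, mul_zero]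
  have hAsdet : (starM σ A).det ≠ 0 := by
    rw [Cfsg.Agent.Lib.Helper43_GUConj.det_starM]
    exact (_root_.map_ne_zero σ).2 hAdet
  have hZdet : Z.det ≠ 0 := by
    rw [hZ, Cfsg.Agent.Lib.Helper43_GUConj.det_starM]
    exact (_root_.map_ne_zero σ).2 hS
  have hAW : A * W = W * A := by
    apply cancel_left (starM σ A * S) _ _ (by rw [Matrix.det_mul]; exact mul_ne_zero hAsdet hS)
    calc starM σ A * S * (A * W) = (starM σ A * S * A) * W := by simp only [Matrix.mul_assoc]
      _ = starM σ A * Z * A := by rw [hinv, hSW, hAZ]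
      _ = starM σ A * S * (W * A) := by rw [← hSW]; simp only [Matrix.mul_assoc]
  have hAV : A * V = V * A := by
    apply cancel_left (starM σ A * Z) _ _ (by rw [Matrix.det_mul]; exact mul_ne_zero hAsdet hZdet)
    calc starM σ A * Z * (A * V) = (starM σ A * Z * A) * V := by simp only [Matrix.mul_assoc]
      _ = starM σ A * S * A := by rw [hAZ, hZV, hinv]
      _ = starM σ A * Z * (V * A) := by rw [← hZV]; simp only [Matrix.mul_assoc]
  have hAN : A * N = N * A := by
    have h1 : A * (W + 1) = (W + 1) * A := by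
      rw [Matrix.mul_add, Matrix.add_mul, hAW, Matrix.mul_one, Matrix.one_mul]
    have h2 : A * (V + 1) = (V + 1) * A := by
      rw [Matrix.mul_add, Matrix.add_mul, hAV, Matrix.mul_one, Matrix.one_mul]
    rw [hN, ← Matrix.mul_assoc, h1, Matrix.mul_assoc, h2, Matrix.mul_assoc]
  have hWN : W * N = N * W := by
    have h1 : W * (V + 1) = (V + 1) * W := by
      rw [Matrix.mul_add, Matrix.add_mul, hWV, hVW, Matrix.mul_one, Matrix.one_mul]
    have h2 : W * (W + 1) = (W + 1) * W := by
      rw [Matrix.mul_add, Matrix.add_mul, Matrix.mul_one, Matrix.one_mul]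
    rw [hN, ← Matrix.mul_assoc, h2, Matrix.mul_assoc, h1, Matrix.mul_assoc]
  obtain ⟨ψ, m', p, p', a, h1, h2, h3, h4, h5⟩ := exists_split σ hσ N
  set e := aeval N ψ with he
  have hes : starM σ e * S = S * e := by
    rw [he, starM_aeval, aeval_intertwine hNs, h1]
  have hAe : A * e = e * A := commute_aeval hAN ψ
  have heW : e * W = W * e := (commute_aeval hWN ψ).symm
  have hP : aeval N p * N + aeval N p' * aeval N m' = 1 := by
    have h := congrArg (aeval N) h5
    rw [map_add, map_mul, map_mul, aeval_X, map_one] at h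
    exact h
  set c := μ • e + (1 - e) with hc
  set c' := σ μ • e + (1 - e) with hc'
  have hcs : starM σ c * S = S * c' := by
    rw [hc, hc', starM_add, starM_smul, starM_sub, starM_one, Matrix.add_mul, Matrix.smul_mul,
      Matrix.sub_mul, Matrix.one_mul, hes, Matrix.mul_add, Matrix.mul_smul, Matrix.mul_sub,
      Matrix.mul_one]
  have hAc : A * c = c * A := by
    rw [hc, Matrix.mul_add, Matrix.add_mul, Matrix.mul_smul, Matrix.smul_mul, hAe, Matrix.mul_sub,
      Matrix.sub_mul, Matrix.mul_one, Matrix.one_mul, hAe]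
  set T := S * c + starM σ (S * c) with hT
  have hTs : starM σ T = T := by
    rw [hT, starM_add, starM_starM σ hσ, add_comm]
  have hTA1 : starM σ A * (S * c) * A = S * c := by
    calc starM σ A * (S * c) * A = starM σ A * S * (c * A) := by simp only [Matrix.mul_assoc]
      _ = (starM σ A * S * A) * c := by rw [← hAc]; simp only [Matrix.mul_assoc]
      _ = S * c := by rw [hinv]
  have hTA2 : starM σ A * starM σ (S * c) * A = starM σ (S * c) := by
    have h := congrArg (starM σ) hTA1
    rw [starM_mul, starM_mul, starM_starM σ hσ, ← Matrix.mul_assoc] at h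
    exact h
  have hTA : starM σ A * T * A = T := by
    rw [hT, Matrix.mul_add, Matrix.add_mul, hTA1, hTA2]
  set D := e * (μ • (1 : Matrix n n K) + σ μ • W) + (1 - e) * (1 + W) with hD
  have hTD : T = S * D := by
    have h6 : starM σ (S * c) = S * (c' * W) := by
      rw [starM_mul, ← hZ, ← hSW, ← Matrix.mul_assoc, hcs, Matrix.mul_assoc]
    rw [hT, h6, ← Matrix.mul_add]
    congr 1
    rw [hc, hc', hD]
    simp only [Matrix.mul_add, Matrix.add_mul, Matrix.mul_smul, Matrix.smul_mul, Matrix.mul_one]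
    abel
  have hDdet : D.det ≠ 0 := by
    apply det_ne_zero_of_cancel
    intro Y hY
    exact D_cancel W V e (aeval N m') (aeval N p) (aeval N p') Y μ (σ μ) a (Ne.symm hμ) hμ0 hν0
      hWV hVW heW h4 h2 h3 hP hY
  refine ⟨T, hTs, ?_, hTA⟩
  rw [hTD, Matrix.det_mul]
  exact mul_ne_zero hS hDdet

variable [Fintype K]

/-- a matrix preserving an invertible sesquilinear form is conjugate to a unitary matrix -/
theorem exists_conj_unitary (σ : K →+* K) (hσ : ∀ x, σ (σ x) = x) (hne : ∃ l, σ l ≠ l)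
    (A S : Matrix n n K) (hS : S.det ≠ 0) (hinv : starM σ A * S * A = S) :
    ∃ R : Matrix n n K, R.det ≠ 0 ∧ starM σ (R * A * R⁻¹) * (R * A * R⁻¹) = 1 := by
  obtain ⟨T, hTs, hTdet, hTA⟩ := exists_hermitian_invariant σ hσ hne A S hS hinv
  obtain ⟨R, -, hRT⟩ := exists_root σ hσ hne T hTs hTdet
  have hRdet : R.det ≠ 0 := by
    intro h
    apply hTdet
    rw [← hRT, Matrix.det_mul, h, mul_zero]
  have hRu : IsUnit R.det := isUnit_iff_ne_zero.2 hRdet
  have hR1 : R * R⁻¹ = 1 := Matrix.mul_nonsing_inv R hRu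
  have hsRi : starM σ R⁻¹ * starM σ R = 1 := by
    rw [← starM_mul, hR1, starM_one]
  refine ⟨R, hRdet, ?_⟩
  calc starM σ (R * A * R⁻¹) * (R * A * R⁻¹)
      = starM σ R⁻¹ * (starM σ A * (starM σ R * R) * A) * R⁻¹ := by
        rw [starM_mul, starM_mul]; simp only [Matrix.mul_assoc]
    _ = starM σ R⁻¹ * (starM σ R * R) * R⁻¹ := by rw [hRT, hTA]
    _ = (starM σ R⁻¹ * starM σ R) * (R * R⁻¹) := by simp only [Matrix.mul_assoc]
    _ = 1 := by rw [hsRi, hR1, Matrix.one_mul]

end main

end Cfsg.Agent.Lib.Helper43_GUSimilar
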