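import Mathlib
import Cfsg.Prelude.Def_Characters
import Cfsg.Agent.Lib.Helper80_CharBasic
import Cfsg.Agent.Lib.Helper17_H27Defs

/-!
# S3701 package BASIC27 (architect helper17): 3-elements of `N_G(T)` lie in `T`, control of fusion.
(Adaptation of `Helper91_H9_BASIC` with `36 → 108`, `9 → 27`.)
-/

set_option autoImplicit false
set_option linter.unusedSectionVars false
open scoped ComplexConjugate

namespace Cfsg.Agent.Lib.Helper53_H27_BASIC27

open Cfsg Cfsg.Agent.Lib.Helper80_CharBasic Cfsg.Agent.Lib.Helper17_H27Defs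

section grp
variable {G : Type*} [Group G] [Finite G]
variable {T : Subgroup G} {a b c u v : G}

omit [Finite G] in
/-- the index of `T` in its normalizer is `4` -/
theorem index_eq_four (h : Hyp G T a b c u v) :
    (T.subgroupOf (Subgroup.normalizer (T : Set G))).index = 4 := by
  have hle : T ≤ Subgroup.normalizer (T : Set G) := Subgroup.le_normalizer
  have h1 := Subgroup.card_mul_index (T.subgroupOf (Subgroup.normalizer (T : Set G)))
  have h2 : Nat.card (T.subgroupOf (Subgroup.normalizer (T : Set G))) = Nat.card T :=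
    Nat.card_congr (Subgroup.subgroupOfEquivOfLe hle).toEquiv
  rw [h2, h.card, h.cardN] at h1
  omega

/-- the fourth power of an element of the normalizer lies in `T` -/
theorem pow_four_mem (h : Hyp G T a b c u v) {x : G} (hx : x ∈ Subgroup.normalizer (T : Set G)) :
    x ^ 4 ∈ T := by
  have h1 := Subgroup.pow_index_mem (T.subgroupOf (Subgroup.normalizer (T : Set G))) ⟨x, hx⟩
  rw [index_eq_four h, Subgroup.mem_subgroupOf] at h1
  simpa using h1

/-- 3-elements (of order dividing `27`) of the normalizer lie in `T` -/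
theorem p27_mem (h : Hyp G T a b c u v) {x : G} (hx : x ∈ Subgroup.normalizer (T : Set G))
    (hx27 : x ^ 27 = 1) : x ∈ T := by
  have h4 := pow_four_mem h hx
  have h28 : (x ^ 4) ^ 7 ∈ T := T.pow_mem h4 7
  have : (x ^ 4) ^ 7 = x := by
    rw [← pow_mul]
    have : x ^ (4 * 7) = x ^ 27 * x := by rw [← pow_succ]
    rw [this, hx27, one_mul]
  rwa [this] at h28

theorem three_mem (h : Hyp G T a b c u v) {x : G} (hx : x ∈ Subgroup.normalizer (T : Set G))
    (hx3 : x ^ 3 = 1) : x ∈ T := by
  refine p27_mem h hx ?_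
  have : x ^ 27 = (x ^ 3) ^ 9 := by rw [← pow_mul]
  rw [this, hx3, one_pow]

theorem cent_three (h : Hyp G T a b c u v) {t x : G} (ht : t ∈ T) (ht1 : t ≠ 1)
    (hxt : x * t = t * x) (hx3 : x ^ 3 = 1) : x ∈ T := by
  refine three_mem h (h.loc t ht ht1 ?_) hx3
  rw [Subgroup.mem_centralizer_iff]
  intro s hs
  rw [Set.mem_singleton_iff] at hs
  rw [hs, hxt]

omit [Finite G] in
/-- `T` is abelian -/
theorem comm_T (h : Hyp G T a b c u v) {n t : G} (hn : n ∈ T) (ht : t ∈ T) : n * t = t * n := by
  obtain ⟨e, rfl⟩ := (h.mem n).mp hn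
  obtain ⟨f, rfl⟩ := (h.mem t).mp ht
  have hab : Commute a b := h.ab
  have hac : Commute a c := h.ac
  have hbc : Commute b c := h.bc
  have key : Commute (elt a b c e) (elt a b c f) := by
    unfold elt
    refine Commute.mul_left (Commute.mul_left ?_ ?_) ?_
    · refine Commute.mul_right (Commute.mul_right ?_ ?_) ?_
      · exact (Commute.refl a).pow_pow _ _
      · exact hab.pow_pow _ _
      · exact hac.pow_pow _ _
    · refine Commute.mul_right (Commute.mul_right ?_ ?_) ?_
      · exact hab.symm.pow_pow _ _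
      · exact (Commute.refl b).pow_pow _ _
      · exact hbc.pow_pow _ _
    · refine Commute.mul_right (Commute.mul_right ?_ ?_) ?_
      · exact hac.symm.pow_pow _ _
      · exact hbc.symm.pow_pow _ _
      · exact (Commute.refl c).pow_pow _ _
  exact key.eq

theorem fusion (h : Hyp G T a b c u v) {t g : G} (ht : t ∈ T) (ht1 : t ≠ 1)
    (hg : g * t * g⁻¹ ∈ T) : g ∈ Subgroup.normalizer (T : Set G) := by
  have hfin : Finite (T : Set G) := inferInstance
  refine Subgroup.mem_normalizer_fintype (fun n hn => ?_)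
  have hn' : n ∈ T := hn
  have hnt : n * t = t * n := comm_T h hn' ht
  have hs1 : g * t * g⁻¹ ≠ 1 := by
    intro h1
    apply ht1
    have : t = g⁻¹ * (g * t * g⁻¹) * g := by group
    rw [this, h1]; group
  have hn27 : n ^ 27 = 1 := by
    have := pow_card_eq_one' (G := T) (x := ⟨n, hn'⟩)
    rw [h.card] at this
    exact congrArg Subtype.val this
  have hc : g * n * g⁻¹ ∈ Subgroup.centralizer ({g * t * g⁻¹} : Set G) := by
    rw [Subgroup.mem_centralizer_iff]
    intro s hs
    rw [Set.mem_singleton_iff] at hs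
    rw [hs]
    have e1 : g * t * g⁻¹ * (g * n * g⁻¹) = g * (t * n) * g⁻¹ := by group
    have e2 : g * n * g⁻¹ * (g * t * g⁻¹) = g * (n * t) * g⁻¹ := by group
    rw [e1, e2, hnt]
  have hN := h.loc _ hg hs1 hc
  have h27 : (g * n * g⁻¹) ^ 27 = 1 := by
    rw [conj_pow, hn27]; group
  exact p27_mem h hN h27

end grp

end Cfsg.Agent.Lib.Helper53_H27_BASIC27
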