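import Mathlib
import Cfsg.Prelude.Def_Characters
import Cfsg.Agent.Lib.Helper80_CharBasic
import Cfsg.Agent.Lib.Helper17_H27Defs
import Cfsg.Agent.Lib.Helper53_H27_BASIC27

set_option autoImplicit false
set_option linter.unusedSectionVars false
open scoped ComplexConjugate

/-!
S3701 package FUS27 (architect helper17): fusion of the elements of `T = ⟨a⟩ × ⟨b⟩ × ⟨c⟩` in `G`.
`_aux` forms: the fusion statement of BASIC27 (`g t g⁻¹ ∈ T`, `t ∈ T ∖ 1` force `g ∈ N_G(T)`) is an explicit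
hypothesis `hfus`.
-/

namespace Cfsg.Agent.Lib.Helper43_H27_FUS27

open Cfsg Cfsg.Agent.Lib.Helper80_CharBasic Cfsg.Agent.Lib.Helper17_H27Defs

section grp
variable {G : Type*} [Group G] [Finite G]

variable {T : Subgroup G} {a b c u v : G}

/-- the fusion statement of BASIC27 -/
def Fusion (G : Type*) [Group G] (T : Subgroup G) : Prop :=
  ∀ {t g : G}, t ∈ T → t ≠ 1 → g * t * g⁻¹ ∈ T → g ∈ Subgroup.normalizer (T : Set G)

theorem a_cube (h : Hyp G T a b c u v) : a ^ 3 = 1 := by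
  rw [← h.oa]; exact pow_orderOf_eq_one a

theorem b_cube (h : Hyp G T a b c u v) : b ^ 3 = 1 := by
  rw [← h.ob]; exact pow_orderOf_eq_one b

theorem c_cube (h : Hyp G T a b c u v) : c ^ 3 = 1 := by
  rw [← h.oc]; exact pow_orderOf_eq_one c

theorem sq_eq_inv {x : G} (hx : x ^ 3 = 1) : x ^ 2 = x⁻¹ := by
  rw [pow_succ] at hx
  exact eq_inv_of_mul_eq_one_left hx

theorem elt_mem (h : Hyp G T a b c u v) (e : ZMod 3 × ZMod 3 × ZMod 3) : elt a b c e ∈ T :=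
  (h.mem _).mpr ⟨e, rfl⟩

theorem elt_ne_one (h : Hyp G T a b c u v) {e : ZMod 3 × ZMod 3 × ZMod 3} (he : e ≠ (0, 0, 0)) :
    elt a b c e ≠ 1 := by
  intro h1
  apply he
  apply h.inj
  rw [h1]
  simp [elt]

theorem elt_val (i j k : ZMod 3) : elt a b c (i, j, k) = a ^ i.val * b ^ j.val * c ^ k.val := rfl

/-! ### the twelve elements with all coordinates nonzero, and `a b` -/

theorem e111 : elt a b c (1, 1, 1) = a * b * c := by
  rw [elt_val]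
  simp [ZMod.val_one]

theorem e122 (h : Hyp G T a b c u v) : elt a b c (1, 2, 2) = a * b⁻¹ * c⁻¹ := by
  rw [elt_val]
  have h2 : (2 : ZMod 3).val = 2 := rfl
  rw [h2, ZMod.val_one, pow_one, sq_eq_inv (b_cube h), sq_eq_inv (c_cube h)]

theorem e212 (h : Hyp G T a b c u v) : elt a b c (2, 1, 2) = a⁻¹ * b * c⁻¹ := by
  rw [elt_val]
  have h2 : (2 : ZMod 3).val = 2 := rfl
  rw [h2, ZMod.val_one, pow_one, sq_eq_inv (a_cube h), sq_eq_inv (c_cube h)]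

theorem e221 (h : Hyp G T a b c u v) : elt a b c (2, 2, 1) = a⁻¹ * b⁻¹ * c := by
  rw [elt_val]
  have h2 : (2 : ZMod 3).val = 2 := rfl
  rw [h2, ZMod.val_one, pow_one, sq_eq_inv (a_cube h), sq_eq_inv (b_cube h)]

theorem e222 (h : Hyp G T a b c u v) : elt a b c (2, 2, 2) = a⁻¹ * b⁻¹ * c⁻¹ := by
  rw [elt_val]
  have h2 : (2 : ZMod 3).val = 2 := rfl
  rw [h2, sq_eq_inv (a_cube h), sq_eq_inv (b_cube h), sq_eq_inv (c_cube h)]

theorem e211 (h : Hyp G T a b c u v) : elt a b c (2, 1, 1) = a⁻¹ * b * c := by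
  rw [elt_val]
  have h2 : (2 : ZMod 3).val = 2 := rfl
  rw [h2, ZMod.val_one, pow_one, pow_one, sq_eq_inv (a_cube h)]

theorem e121 (h : Hyp G T a b c u v) : elt a b c (1, 2, 1) = a * b⁻¹ * c := by
  rw [elt_val]
  have h2 : (2 : ZMod 3).val = 2 := rfl
  rw [h2, ZMod.val_one, pow_one, pow_one, sq_eq_inv (b_cube h)]

theorem e112 (h : Hyp G T a b c u v) : elt a b c (1, 1, 2) = a * b * c⁻¹ := by
  rw [elt_val]
  have h2 : (2 : ZMod 3).val = 2 := rfl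
  rw [h2, ZMod.val_one, pow_one, pow_one, sq_eq_inv (c_cube h)]

theorem e110 : elt a b c (1, 1, 0) = a * b := by
  rw [elt_val]
  simp [ZMod.val_one]

theorem e120 (h : Hyp G T a b c u v) : elt a b c (1, 2, 0) = a * b⁻¹ := by
  rw [elt_val]
  have h2 : (2 : ZMod 3).val = 2 := rfl
  rw [h2, ZMod.val_one, pow_one, sq_eq_inv (b_cube h)]
  simp

theorem e210 (h : Hyp G T a b c u v) : elt a b c (2, 1, 0) = a⁻¹ * b := by
  rw [elt_val]
  have h2 : (2 : ZMod 3).val = 2 := rfl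
  rw [h2, ZMod.val_one, pow_one, sq_eq_inv (a_cube h)]
  simp

theorem e220 (h : Hyp G T a b c u v) : elt a b c (2, 2, 0) = a⁻¹ * b⁻¹ := by
  rw [elt_val]
  have h2 : (2 : ZMod 3).val = 2 := rfl
  rw [h2, sq_eq_inv (a_cube h), sq_eq_inv (b_cube h)]
  simp

theorem abc_inv (h : Hyp G T a b c u v) : (a * b * c)⁻¹ = a⁻¹ * b⁻¹ * c⁻¹ := by
  rw [mul_inv_rev, mul_inv_rev]
  have hab : a⁻¹ * b⁻¹ = b⁻¹ * a⁻¹ := by rw [← mul_inv_rev, ← mul_inv_rev, h.ab]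
  have hac : a⁻¹ * c⁻¹ = c⁻¹ * a⁻¹ := by rw [← mul_inv_rev, ← mul_inv_rev, h.ac]
  have hbc : b⁻¹ * c⁻¹ = c⁻¹ * b⁻¹ := by rw [← mul_inv_rev, ← mul_inv_rev, h.bc]
  calc c⁻¹ * (b⁻¹ * a⁻¹) = c⁻¹ * (a⁻¹ * b⁻¹) := by rw [hab]
    _ = (c⁻¹ * a⁻¹) * b⁻¹ := by rw [mul_assoc]
    _ = (a⁻¹ * c⁻¹) * b⁻¹ := by rw [hac]
    _ = a⁻¹ * (c⁻¹ * b⁻¹) := by rw [mul_assoc]
    _ = a⁻¹ * (b⁻¹ * c⁻¹) := by rw [hbc]
    _ = a⁻¹ * b⁻¹ * c⁻¹ := by rw [mul_assoc]

theorem abc_mem (h : Hyp G T a b c u v) : a * b * c ∈ T := by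
  rw [← e111]; exact elt_mem h _

theorem abc_ne_one (h : Hyp G T a b c u v) : a * b * c ≠ 1 := by
  rw [← e111]; exact elt_ne_one h (by decide)

theorem abc_inv_mem (h : Hyp G T a b c u v) : (a * b * c)⁻¹ ∈ T := T.inv_mem (abc_mem h)

theorem abc_inv_ne_one (h : Hyp G T a b c u v) : (a * b * c)⁻¹ ≠ 1 := by
  intro h1
  exact abc_ne_one h (inv_eq_one.mp h1)

theorem ab_mem (h : Hyp G T a b c u v) : a * b ∈ T := by
  rw [← e110]; exact elt_mem h _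

theorem ab_ne_one (h : Hyp G T a b c u v) : a * b ≠ 1 := by
  rw [← e110]; exact elt_ne_one h (by decide)

/-! ### conjugation -/

theorem conj_mul3 (g x y z : G) :
    g * (x * y * z) * g⁻¹ = (g * x * g⁻¹) * (g * y * g⁻¹) * (g * z * g⁻¹) := by group

theorem conj_mul2 (g x y : G) : g * (x * y) * g⁻¹ = (g * x * g⁻¹) * (g * y * g⁻¹) := by group

theorem conj_inv' (g x : G) : g * x⁻¹ * g⁻¹ = (g * x * g⁻¹)⁻¹ := by group

theorem conj_pow' (g x : G) (n : ℕ) : g * x ^ n * g⁻¹ = (g * x * g⁻¹) ^ n := by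
  exact map_pow (MulAut.conj g) x n

/-- conjugation by `u v`: the pattern `(+, -, -)` -/
theorem uv_a (h : Hyp G T a b c u v) : (u * v) * a * (u * v)⁻¹ = a := by
  have e : (u * v) * a * (u * v)⁻¹ = u * (v * a * v⁻¹) * u⁻¹ := by group
  rw [e, h.va, conj_inv', h.ua, inv_inv]

theorem uv_b (h : Hyp G T a b c u v) : (u * v) * b * (u * v)⁻¹ = b⁻¹ := by
  have e : (u * v) * b * (u * v)⁻¹ = u * (v * b * v⁻¹) * u⁻¹ := by group
  rw [e, h.vb, h.ub]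

theorem uv_c (h : Hyp G T a b c u v) : (u * v) * c * (u * v)⁻¹ = c⁻¹ := by
  have e : (u * v) * c * (u * v)⁻¹ = u * (v * c * v⁻¹) * u⁻¹ := by group
  rw [e, h.vc, conj_inv', h.uc]

/-! ### FUS27: `_aux` forms -/

theorem conj_z_aux (h : Hyp G T a b c u v) (hfus : Fusion G T) {t : G} (ht : t ∈ T) :
    IsConj (a * b * c) t ↔
      (t = a * b * c ∨ t = a * b⁻¹ * c⁻¹ ∨ t = a⁻¹ * b * c⁻¹ ∨ t = a⁻¹ * b⁻¹ * c) := by
  constructor
  · intro hc
    obtain ⟨g, hg⟩ := isConj_iff.mp hc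
    have hgN := hfus (abc_mem h) (abc_ne_one h) (by rw [hg]; exact ht)
    rw [conj_mul3] at hg
    rcases h.act g hgN with ⟨h1, h2, h3⟩ | ⟨h1, h2, h3⟩ | ⟨h1, h2, h3⟩ | ⟨h1, h2, h3⟩ <;>
      rw [h1, h2, h3] at hg
    · exact Or.inl hg.symm
    · exact Or.inr (Or.inr (Or.inr hg.symm))
    · exact Or.inr (Or.inr (Or.inl hg.symm))
    · exact Or.inr (Or.inl hg.symm)
  · rintro (rfl | rfl | rfl | rfl)
    · exact IsConj.refl _
    · refine isConj_iff.mpr ⟨u * v, ?_⟩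
      rw [conj_mul3, uv_a h, uv_b h, uv_c h]
    · refine isConj_iff.mpr ⟨v, ?_⟩
      rw [conj_mul3, h.va, h.vb, h.vc]
    · refine isConj_iff.mpr ⟨u, ?_⟩
      rw [conj_mul3, h.ua, h.ub, h.uc]

theorem conj_zinv_aux (h : Hyp G T a b c u v) (hfus : Fusion G T) {t : G} (ht : t ∈ T) :
    IsConj (a * b * c)⁻¹ t ↔
      (t = a⁻¹ * b⁻¹ * c⁻¹ ∨ t = a⁻¹ * b * c ∨ t = a * b⁻¹ * c ∨ t = a * b * c⁻¹) := by
  constructor
  · intro hc
    obtain ⟨g, hg⟩ := isConj_iff.mp hc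
    have hgN := hfus (abc_inv_mem h) (abc_inv_ne_one h) (by rw [hg]; exact ht)
    rw [abc_inv h, conj_mul3, conj_inv', conj_inv', conj_inv'] at hg
    rcases h.act g hgN with ⟨h1, h2, h3⟩ | ⟨h1, h2, h3⟩ | ⟨h1, h2, h3⟩ | ⟨h1, h2, h3⟩ <;>
      rw [h1, h2, h3] at hg
    · exact Or.inl hg.symm
    · rw [inv_inv, inv_inv] at hg
      exact Or.inr (Or.inr (Or.inr hg.symm))
    · rw [inv_inv, inv_inv] at hg
      exact Or.inr (Or.inr (Or.inl hg.symm))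
    · rw [inv_inv, inv_inv] at hg
      exact Or.inr (Or.inl hg.symm)
  · rintro (rfl | rfl | rfl | rfl)
    · rw [abc_inv h]
    · refine isConj_iff.mpr ⟨u * v, ?_⟩
      rw [abc_inv h, conj_mul3, conj_inv', conj_inv', conj_inv', uv_a h, uv_b h, uv_c h, inv_inv, inv_inv]
    · refine isConj_iff.mpr ⟨v, ?_⟩
      rw [abc_inv h, conj_mul3, conj_inv', conj_inv', conj_inv', h.va, h.vb, h.vc, inv_inv, inv_inv]
    · refine isConj_iff.mpr ⟨u, ?_⟩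
      rw [abc_inv h, conj_mul3, conj_inv', conj_inv', conj_inv', h.ua, h.ub, h.uc, inv_inv, inv_inv]

/-- the conjugates of `a b` in `T` -/
theorem conj_ab_aux (h : Hyp G T a b c u v) (hfus : Fusion G T) {t : G} (ht : t ∈ T)
    (hc : IsConj (a * b) t) : t = a * b ∨ t = a⁻¹ * b⁻¹ ∨ t = a⁻¹ * b ∨ t = a * b⁻¹ := by
  obtain ⟨g, hg⟩ := isConj_iff.mp hc
  have hgN := hfus (ab_mem h) (ab_ne_one h) (by rw [hg]; exact ht)
  rw [conj_mul2] at hg
  rcases h.act g hgN with ⟨h1, h2, h3⟩ | ⟨h1, h2, h3⟩ | ⟨h1, h2, h3⟩ | ⟨h1, h2, h3⟩ <;>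
    rw [h1, h2] at hg
  · exact Or.inl hg.symm
  · exact Or.inr (Or.inl hg.symm)
  · exact Or.inr (Or.inr (Or.inl hg.symm))
  · exact Or.inr (Or.inr (Or.inr hg.symm))

theorem elt_ne (h : Hyp G T a b c u v) {e e' : ZMod 3 × ZMod 3 × ZMod 3} (he : e ≠ e') :
    elt a b c e ≠ elt a b c e' := fun h1 => he (h.inj h1)

theorem not_conj_aux (h : Hyp G T a b c u v) (hfus : Fusion G T) :
    ¬ IsConj (a * b * c) (a * b * c)⁻¹ ∧ ¬ IsConj (a * b) (a * b * c) ∧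
      ¬ IsConj (a * b) (a * b * c)⁻¹ := by
  refine ⟨?_, ?_, ?_⟩
  · intro hc
    have h1 := (conj_z_aux h hfus (abc_inv_mem h)).mp hc
    rw [abc_inv h, ← e222 h, ← e111, ← e122 h, ← e212 h, ← e221 h] at h1
    rcases h1 with h1 | h1 | h1 | h1 <;> exact elt_ne h (by decide) h1
  · intro hc
    have h1 := conj_ab_aux h hfus (abc_mem h) hc
    rw [← e111, ← e110, ← e220 h, ← e210 h, ← e120 h] at h1
    rcases h1 with h1 | h1 | h1 | h1 <;> exact elt_ne h (by decide) h1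
  · intro hc
    have h1 := conj_ab_aux h hfus (abc_inv_mem h) hc
    rw [abc_inv h, ← e222 h, ← e110, ← e220 h, ← e210 h, ← e120 h] at h1
    rcases h1 with h1 | h1 | h1 | h1 <;> exact elt_ne h (by decide) h1

/-- inverting two commuting powers -/
theorem inv_mul_pow {x y : G} (hxy : x * y = y * x) (m n : ℕ) :
    (x ^ m * y ^ n)⁻¹ = (x⁻¹) ^ m * (y⁻¹) ^ n := by
  have hc : Commute (x ^ m) (y ^ n) := (Commute.pow_pow (show Commute x y from hxy) m n)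
  rw [mul_inv_rev, inv_pow, inv_pow]
  have hc' : Commute ((y ^ n)⁻¹) ((x ^ m)⁻¹) := (hc.inv_inv).symm
  exact hc'.eq

theorem real_of (h : Hyp G T a b c u v) (e : ZMod 3 × ZMod 3 × ZMod 3)
    (he : e.1 = 0 ∨ e.2.1 = 0 ∨ e.2.2 = 0) :
    IsConj (elt a b c e) (elt a b c e)⁻¹ := by
  obtain ⟨i, j, k⟩ := e
  simp only at he
  rw [elt_val]
  rcases he with rfl | rfl | rfl
  · refine isConj_iff.mpr ⟨u * v, ?_⟩
    simp only [ZMod.val_zero, pow_zero, one_mul]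
    rw [conj_mul2, conj_pow', conj_pow', uv_b h, uv_c h, inv_mul_pow h.bc]
  · refine isConj_iff.mpr ⟨v, ?_⟩
    simp only [ZMod.val_zero, pow_zero, mul_one]
    rw [conj_mul2, conj_pow', conj_pow', h.va, h.vc, inv_mul_pow h.ac]
  · refine isConj_iff.mpr ⟨u, ?_⟩
    simp only [ZMod.val_zero, pow_zero, mul_one]
    rw [conj_mul2, conj_pow', conj_pow', h.ua, h.ub, inv_mul_pow h.ab]

theorem conj_of_prod_aux (h : Hyp G T a b c u v) (hfus : Fusion G T) (e : ZMod 3 × ZMod 3 × ZMod 3) :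
    (e.1 * e.2.1 * e.2.2 = 1 → IsConj (a * b * c) (elt a b c e)) ∧
    (e.1 * e.2.1 * e.2.2 = 2 → IsConj (a * b * c)⁻¹ (elt a b c e)) := by
  obtain ⟨i, j, k⟩ := e
  constructor
  · intro he
    simp only at he
    have hcases : (i, j, k) = ((1, 1, 1) : ZMod 3 × ZMod 3 × ZMod 3) ∨ (i, j, k) = (1, 2, 2) ∨
        (i, j, k) = (2, 1, 2) ∨ (i, j, k) = (2, 2, 1) := by
      revert i j k
      decide
    rw [conj_z_aux h hfus (elt_mem h _)]
    rcases hcases with h1 | h1 | h1 | h1 <;> rw [h1]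
    · exact Or.inl e111
    · exact Or.inr (Or.inl (e122 h))
    · exact Or.inr (Or.inr (Or.inl (e212 h)))
    · exact Or.inr (Or.inr (Or.inr (e221 h)))
  · intro he
    simp only at he
    have hcases : (i, j, k) = ((2, 2, 2) : ZMod 3 × ZMod 3 × ZMod 3) ∨ (i, j, k) = (2, 1, 1) ∨
        (i, j, k) = (1, 2, 1) ∨ (i, j, k) = (1, 1, 2) := by
      revert i j k
      decide
    rw [conj_zinv_aux h hfus (elt_mem h _)]
    rcases hcases with h1 | h1 | h1 | h1 <;> rw [h1]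
    · exact Or.inl (e222 h)
    · exact Or.inr (Or.inl (e211 h))
    · exact Or.inr (Or.inr (Or.inl (e121 h)))
    · exact Or.inr (Or.inr (Or.inr (e112 h)))

/-! ### FUS27: the statements of the package (with BASIC27 `fusion` landed by helper53) -/

theorem fusion_holds (h : Hyp G T a b c u v) : Fusion G T := fun ht ht1 hg =>
  Cfsg.Agent.Lib.Helper53_H27_BASIC27.fusion h ht ht1 hg

theorem conj_z (h : Hyp G T a b c u v) {t : G} (ht : t ∈ T) :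
    IsConj (a * b * c) t ↔
      (t = a * b * c ∨ t = a * b⁻¹ * c⁻¹ ∨ t = a⁻¹ * b * c⁻¹ ∨ t = a⁻¹ * b⁻¹ * c) :=
  conj_z_aux h (fusion_holds h) ht

theorem conj_zinv (h : Hyp G T a b c u v) {t : G} (ht : t ∈ T) :
    IsConj (a * b * c)⁻¹ t ↔
      (t = a⁻¹ * b⁻¹ * c⁻¹ ∨ t = a⁻¹ * b * c ∨ t = a * b⁻¹ * c ∨ t = a * b * c⁻¹) :=
  conj_zinv_aux h (fusion_holds h) ht

theorem not_conj (h : Hyp G T a b c u v) :
    ¬ IsConj (a * b * c) (a * b * c)⁻¹ ∧ ¬ IsConj (a * b) (a * b * c) ∧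
      ¬ IsConj (a * b) (a * b * c)⁻¹ :=
  not_conj_aux h (fusion_holds h)

theorem conj_of_prod (h : Hyp G T a b c u v) (e : ZMod 3 × ZMod 3 × ZMod 3) :
    (e.1 * e.2.1 * e.2.2 = 1 → IsConj (a * b * c) (elt a b c e)) ∧
    (e.1 * e.2.1 * e.2.2 = 2 → IsConj (a * b * c)⁻¹ (elt a b c e)) :=
  conj_of_prod_aux h (fusion_holds h) e

end grp

end Cfsg.Agent.Lib.Helper43_H27_FUS27
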