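import Mathlib

set_option autoImplicit false

/-!
For an irreducible endomorphism `S` of a finite-dimensional space over a finite field, the
determinant is surjective on the commutant of `S` (norm of the finite field `F[S]`).
-/

namespace Cfsg.Agent.Lib.Helper43_IrredDet

open Module
open scoped IsMulCommutative

variable {F W : Type*} [Field F] [Finite F] [AddCommGroup W] [Module F W] [FiniteDimensional F W]

omit [Finite F] [FiniteDimensional F W] in
theorem commute_of_mem_adjoin (S : End F W) (k : Algebra.adjoin F ({S} : Set (End F W))) :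
    Commute S k.1 :=
  Algebra.commute_of_mem_adjoin_of_forall_mem_commute k.2 (by
    intro b hb
    rw [Set.mem_singleton_iff] at hb
    rw [hb]
    exact Commute.refl S)

omit [Finite F] [FiniteDimensional F W] in
theorem injective_of_ne_zero (S : End F W)
    (hirr : ∀ U : Submodule F W, (∀ u ∈ U, S u ∈ U) → U = ⊥ ∨ U = ⊤)
    (k : Algebra.adjoin F ({S} : Set (End F W))) (hk : k ≠ 0) : Function.Injective k.1 := by
  have hc := commute_of_mem_adjoin S k
  have hinv : ∀ u ∈ LinearMap.ker k.1, S u ∈ LinearMap.ker k.1 := by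
    intro u hu
    rw [LinearMap.mem_ker] at hu ⊢
    have : k.1 (S u) = S (k.1 u) := by
      rw [← Module.End.mul_apply, ← Module.End.mul_apply, hc.eq]
    rw [this, hu, map_zero]
  rcases hirr _ hinv with h | h
  · exact LinearMap.ker_eq_bot.mp h
  · exfalso
    apply hk
    apply Subtype.ext
    exact LinearMap.ker_eq_top.mp h

theorem exists_commute_det (S : End F W) [Nontrivial W]
    (hirr : ∀ U : Submodule F W, (∀ u ∈ U, S u ∈ U) → U = ⊥ ∨ U = ⊤) (lam : F) :
    ∃ a : End F W, Commute a S ∧ LinearMap.det a = lam := by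
  classical
  set A := Algebra.adjoin F ({S} : Set (End F W)) with hA
  obtain ⟨w₀, hw₀⟩ := exists_ne (0 : W)
  have hnt : Nontrivial A := by
    refine ⟨0, 1, fun h => ?_⟩
    have h1 : (0 : End F W) w₀ = (1 : End F W) w₀ := by
      have := congrArg (fun k : A => k.1 w₀) h
      exact this
    rw [LinearMap.zero_apply, Module.End.one_apply] at h1
    exact hw₀ h1.symm
  have hnzd : NoZeroDivisors A := by
    refine ⟨fun {k k'} h => ?_⟩
    by_cases hk : k = 0
    · left; exact hk
    · right
      have hinj := injective_of_ne_zero S hirr k hk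
      apply Subtype.ext
      apply LinearMap.ext
      intro w
      show k'.1 w = 0
      apply hinj
      have h1 : k.1 (k'.1 w) = (k * k').1 w := rfl
      rw [h1, h, map_zero]
      rfl
  have hdom : IsDomain A := NoZeroDivisors.to_isDomain A
  have hfinA : Finite A := Module.finite_of_finite F
  have := Fintype.ofFinite A
  let _ : Field A := Fintype.fieldOfDomain A
  obtain ⟨a, ha⟩ := FiniteField.norm_surjective F A lam
  refine ⟨a.1, (commute_of_mem_adjoin S a).symm, ?_⟩
  -- the evaluation isomorphism
  let φ : A →ₗ[F] W := (LinearMap.applyₗ w₀) ∘ₗ A.val.toLinearMap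
  have hφ : ∀ k : A, φ k = k.1 w₀ := fun k => rfl
  have hφinj : Function.Injective φ := by
    rw [← LinearMap.ker_eq_bot, LinearMap.ker_eq_bot']
    intro k hk
    by_contra hne
    have hinj := injective_of_ne_zero S hirr k hne
    apply hw₀
    apply hinj
    rw [map_zero]
    exact hk
  have hφsurj : Function.Surjective φ := by
    rw [← LinearMap.range_eq_top]
    have hinv : ∀ u ∈ LinearMap.range φ, S u ∈ LinearMap.range φ := by
      rintro _ ⟨k, rfl⟩
      exact ⟨⟨S, Algebra.subset_adjoin rfl⟩ * k, rfl⟩
    rcases hirr _ hinv with h | h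
    · exfalso
      have : w₀ ∈ LinearMap.range φ := ⟨1, by rw [hφ]; rfl⟩
      rw [h, Submodule.mem_bot] at this
      exact hw₀ this
    · exact h
  let e : A ≃ₗ[F] W := LinearEquiv.ofBijective φ ⟨hφinj, hφsurj⟩
  have hconj : a.1 = (e : A →ₗ[F] W) ∘ₗ (LinearMap.mulLeft F a) ∘ₗ (e.symm : W →ₗ[F] A) := by
    apply LinearMap.ext
    intro w
    obtain ⟨k, rfl⟩ := e.surjective w
    rw [LinearMap.comp_apply, LinearMap.comp_apply, LinearEquiv.coe_coe, LinearEquiv.coe_coe,
      LinearEquiv.symm_apply_apply, LinearMap.mulLeft_apply]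
    rfl
  rw [hconj, LinearMap.det_conj, ← ha, Algebra.norm_apply]
  rfl

omit [Finite F] in
open Polynomial in
theorem isSemisimple_of_pow_eq_one {V : Type*} [AddCommGroup V] [Module F V]
    (T : End F V) (N : ℕ) (hN : (N : F) ≠ 0) (hT : T ^ N = 1) : T.IsSemisimple := by
  apply Module.End.isSemisimple_of_squarefree_aeval_eq_zero
    (separable_X_pow_sub_C (1 : F) hN one_ne_zero).squarefree
  rw [map_sub, map_pow, aeval_X, aeval_C, map_one, hT, sub_self]

theorem exists_commute_det_of_pow_eq_one {V : Type*} [AddCommGroup V] [Module F V]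
    [FiniteDimensional F V] [Nontrivial V]
    (T : End F V) (N : ℕ) (hN : (N : F) ≠ 0) (hT : T ^ N = 1) (lam : F) :
    ∃ c : End F V, Commute c T ∧ LinearMap.det c = lam := by
  have hss := isSemisimple_of_pow_eq_one T N hN hT
  -- a minimal nonzero invariant subspace
  obtain ⟨W, ⟨hWne, hWinv⟩, hWmin⟩ := IsArtinian.set_has_minimal
    {W : Submodule F V | W ≠ ⊥ ∧ W ∈ Module.End.invtSubmodule T}
    ⟨⊤, top_ne_bot, Module.End.invtSubmodule.top_mem T⟩
  obtain ⟨W', hW'inv, hcompl⟩ := (Module.End.isSemisimple_iff.1 hss) W hWinv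
  rw [Module.End.mem_invtSubmodule] at hWinv hW'inv
  have hW1 : ∀ w ∈ W, T w ∈ W := fun w hw => hWinv hw
  have hW2 : ∀ w ∈ W', T w ∈ W' := fun w hw => hW'inv hw
  set S : End F W := T.restrict hW1 with hS
  set S' : End F W' := T.restrict hW2 with hS'
  have hnt : Nontrivial W := Submodule.nontrivial_iff_ne_bot.mpr hWne
  have hirr : ∀ U : Submodule F W, (∀ u ∈ U, S u ∈ U) → U = ⊥ ∨ U = ⊤ := by
    intro U hU
    by_cases hUb : U = ⊥
    · left; exact hUb
    · right
      have h1 : U.map W.subtype ≠ ⊥ := by
        intro h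
        apply hUb
        rw [eq_bot_iff]
        intro u hu
        have : (u : V) ∈ U.map W.subtype := ⟨u, hu, rfl⟩
        rw [h, Submodule.mem_bot] at this
        rw [Submodule.mem_bot]
        exact Subtype.ext this
      have h2 : U.map W.subtype ∈ Module.End.invtSubmodule T := by
        rw [Module.End.mem_invtSubmodule]
        rintro _ ⟨u, hu, rfl⟩
        exact ⟨S u, hU u hu, rfl⟩
      have h3 : U.map W.subtype ≤ W := by
        rintro _ ⟨u, -, rfl⟩
        exact u.2
      have h4 : U.map W.subtype = W := by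
        by_contra hne
        exact hWmin _ ⟨h1, h2⟩ (lt_of_le_of_ne h3 hne)
      rw [eq_top_iff]
      intro w _
      have : (w : V) ∈ U.map W.subtype := by rw [h4]; exact w.2
      obtain ⟨u, hu, huw⟩ := this
      have : u = w := Subtype.ext huw
      rw [← this]; exact hu
  obtain ⟨a, haS, hadet⟩ := exists_commute_det S hirr lam
  set e := Submodule.prodEquivOfIsCompl W W' hcompl with he
  have he_apply : ∀ x : W × W', e x = (x.1 : V) + (x.2 : V) := fun x =>
    Submodule.coe_prodEquivOfIsCompl' W W' hcompl x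
  refine ⟨(e : (W × W') →ₗ[F] V) ∘ₗ (a.prodMap LinearMap.id) ∘ₗ (e.symm : V →ₗ[F] (W × W')),
    ?_, ?_⟩
  · apply LinearMap.ext
    intro v
    obtain ⟨⟨w, w'⟩, rfl⟩ := e.surjective v
    have hT1 : T (e (w, w')) = e (S w, S' w') := by
      rw [he_apply, he_apply, map_add]
      rfl
    rw [Module.End.mul_apply, Module.End.mul_apply, hT1]
    simp only [LinearMap.comp_apply, LinearEquiv.coe_coe, LinearEquiv.symm_apply_apply,
      LinearMap.prodMap_apply, LinearMap.id_apply]
    have hT2 : T (e (a w, w')) = e (S (a w), S' w') := by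
      rw [he_apply, he_apply, map_add]
      rfl
    rw [hT2]
    have : a (S w) = S (a w) := by
      rw [← Module.End.mul_apply, ← Module.End.mul_apply, haS.eq]
    rw [this]
  · rw [LinearMap.det_conj, LinearMap.det_prodMap, hadet, LinearMap.det_id, mul_one]

end Cfsg.Agent.Lib.Helper43_IrredDet
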