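import Cfsg.Agent.Lib.Helper47_IsoBase
import Cfsg.Agent.Lib.Helper21_FStar
import Cfsg.Agent.Lib.Helper29_Local

/-!
# Isolated `p`-minimal subgroups: `O^p(P) ≤ F*_p(G)`, the class-two alternative (helper47, S3044 / S3045)
-/

set_option autoImplicit false
set_option linter.style.haveILetI false

open Cfsg
open Cfsg.Agent.Lib.Helper47_IsoBase Cfsg.Agent.Lib.Helper47_SubAPI Cfsg.Agent.Lib.Helper48_Op
open scoped commutatorElement Pointwise

namespace Cfsg.Agent.Lib.Helper47_IsoMain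

universe u

variable {G : Type u} [Group G] [Finite G] {p : ℕ} [Fact p.Prime] {S : Sylow p G} {P L : Subgroup G}

/-- `O^p(P)` lies in the preimage of `F*(G / O_p(G))`. -/
theorem fstar (h : IsoHyp p S P L) :
    Op p P ≤ (Cfsg.generalizedFittingSubgroup (G ⧸ Cfsg.pCore p G)).comap
      (QuotientGroup.mk' (Cfsg.pCore p G)) := by
  obtain ⟨F, hF⟩ : ∃ F : Subgroup G, F = (Cfsg.generalizedFittingSubgroup (G ⧸ Cfsg.pCore p G)).comap
      (QuotientGroup.mk' (Cfsg.pCore p G)) := ⟨_, rfl⟩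
  rw [← hF]
  have hFn : F.Normal := by
    rw [hF]
    haveI := Cfsg.Agent.Lib.Helper29_Local.generalizedFittingSubgroup_normal (G ⧸ Cfsg.pCore p G)
    infer_instance
  rcases h.normal_dich hFn with h1 | ⟨-, h2, h3, -⟩
  · exact h1
  · exfalso
    apply h.hiso
    refine le_trans ?_ h.Q_le_pCoreOf_P
    refine le_trans (le_inf ?_ le_rfl) h2
    -- `C ≤ F`
    rw [hF, ← Subgroup.map_le_iff_le_comap]
    refine le_trans ?_ Cfsg.Agent.Lib.Helper21_FStar.centralizer_generalizedFitting_le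
    rintro _ ⟨c, hc, rfl⟩
    rw [Subgroup.mem_centralizer_iff]
    intro x hx
    obtain ⟨g, rfl⟩ := QuotientGroup.mk'_surjective (Cfsg.pCore p G) x
    have hg : g ∈ F := by rw [hF]; exact hx
    have h4 : ⁅g, c⁆ ∈ Cfsg.pCore p G := h3 (Subgroup.commutator_mem_commutator hg hc)
    have h5 : (QuotientGroup.mk' (Cfsg.pCore p G)) ⁅g, c⁆ = 1 := by
      rw [QuotientGroup.mk'_apply, QuotientGroup.eq_one_iff]; exact h4
    rw [map_commutatorElement, commutatorElement_eq_one_iff_mul_comm] at h5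
    exact h5

/-- If `Ȳ` is not perfect, then `[Y', Y] ≤ O_p(G)`. -/
theorem class_three (h : IsoHyp p S P L)
    (hnp : ¬ Subgroup.normalClosure ((Op p P : Subgroup G) : Set G) ≤
      ⁅Subgroup.normalClosure ((Op p P : Subgroup G) : Set G),
        Subgroup.normalClosure ((Op p P : Subgroup G) : Set G)⁆ ⊔ Cfsg.pCore p G) :
    ⁅⁅Subgroup.normalClosure ((Op p P : Subgroup G) : Set G),
        Subgroup.normalClosure ((Op p P : Subgroup G) : Set G)⁆,
        Subgroup.normalClosure ((Op p P : Subgroup G) : Set G)⁆ ≤ Cfsg.pCore p G := by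
  obtain ⟨Y, hY⟩ : ∃ Y : Subgroup G, Y = Subgroup.normalClosure ((Op p P : Subgroup G) : Set G) :=
    ⟨_, rfl⟩
  rw [← hY] at hnp ⊢
  haveI hYn : Y.Normal := by rw [hY]; exact Subgroup.normalClosure_normal
  have hN : (⁅Y, Y⁆ ⊔ Cfsg.pCore p G).Normal := inferInstance
  rcases h.normal_dich hN with h1 | ⟨-, -, -, h4⟩
  · exfalso
    apply hnp
    have h5 : Subgroup.normalClosure ((Op p P : Subgroup G) : Set G) ≤ ⁅Y, Y⁆ ⊔ Cfsg.pCore p G :=
      Subgroup.normalClosure_le_normal h1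
    rw [← hY] at h5
    exact h5
  · rw [← hY] at h4
    exact (Subgroup.commutator_mono le_sup_left le_rfl).trans h4

/-- If `Y` is solvable then `Ȳ` is not perfect. -/
theorem not_perfect_of_solvable (h : IsoHyp p S P L)
    (hs : Group.IsSolvable ↥(Subgroup.normalClosure ((Op p P : Subgroup G) : Set G))) :
    ¬ Subgroup.normalClosure ((Op p P : Subgroup G) : Set G) ≤
      ⁅Subgroup.normalClosure ((Op p P : Subgroup G) : Set G),
        Subgroup.normalClosure ((Op p P : Subgroup G) : Set G)⁆ ⊔ Cfsg.pCore p G := by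
  obtain ⟨Y, hY⟩ : ∃ Y : Subgroup G, Y = Subgroup.normalClosure ((Op p P : Subgroup G) : Set G) :=
    ⟨_, rfl⟩
  rw [← hY] at hs ⊢
  intro hle
  apply h.not_Op_le_Q
  refine le_trans (show Op p P ≤ Y from hY ▸ Subgroup.subset_normalClosure) ?_
  -- `Ȳ` is solvable and perfect
  have hs' : Group.IsSolvable ↥(Y.map (QuotientGroup.mk' (Cfsg.pCore p G))) := by
    have hsurj : Function.Surjective ((QuotientGroup.mk' (Cfsg.pCore p G)).subgroupMap Y) :=
      (QuotientGroup.mk' (Cfsg.pCore p G)).subgroupMap_surjective Y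
    exact Group.isSolvable_of_surjective hsurj
  have hp' : Y.map (QuotientGroup.mk' (Cfsg.pCore p G)) ≤
      ⁅Y.map (QuotientGroup.mk' (Cfsg.pCore p G)), Y.map (QuotientGroup.mk' (Cfsg.pCore p G))⁆ := by
    rw [← Subgroup.map_commutator]
    refine (Subgroup.map_mono hle).trans ?_
    rw [Subgroup.map_sup, QuotientGroup.map_mk'_self, sup_bot_eq]
  have hb := eq_bot_of_isSolvable_of_le_commutator hs' hp'
  intro y hy
  have : (QuotientGroup.mk' (Cfsg.pCore p G)) y ∈ Y.map (QuotientGroup.mk' (Cfsg.pCore p G)) :=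
    Subgroup.mem_map_of_mem _ hy
  rw [hb, Subgroup.mem_bot, QuotientGroup.mk'_apply, QuotientGroup.eq_one_iff] at this
  exact this

/-- `P` is again isolated in `Y S`: for `L₀ = ⟨N_{YS}(S), P' ≤ YS, P' ≠ P⟩`, `O_p(L₀) ≰ O_p(P)`. -/
theorem iso_sub (h : IsoHyp p S P L) (Y : Subgroup G) :
    ¬ Cfsg.pCoreOf p ((Subgroup.normalizer ((S : Subgroup G) : Set G) ⊓ (Y ⊔ (S : Subgroup G))) ⊔
        ⨆ P' : {P' : Subgroup G // (S : Subgroup G) ≤ P' ∧ P' ≤ Y ⊔ (S : Subgroup G) ∧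
          Cfsg.IsPMinimal p ↥P' ∧ P' ≠ P}, (P' : Subgroup G)) ≤ Cfsg.pCoreOf p P := by
  obtain ⟨L₀, hL₀⟩ : ∃ L₀ : Subgroup G,
      L₀ = (Subgroup.normalizer ((S : Subgroup G) : Set G) ⊓ (Y ⊔ (S : Subgroup G))) ⊔
        ⨆ P' : {P' : Subgroup G // (S : Subgroup G) ≤ P' ∧ P' ≤ Y ⊔ (S : Subgroup G) ∧
          Cfsg.IsPMinimal p ↥P' ∧ P' ≠ P}, (P' : Subgroup G) := ⟨_, rfl⟩
  rw [← hL₀]
  intro hle
  apply h.hiso
  refine le_trans ?_ hle
  have hL₀L : L₀ ≤ L := by
    rw [hL₀]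
    refine sup_le (inf_le_left.trans h.normalizer_le) (iSup_le ?_)
    rintro ⟨P', hSP', -, hmin, hne⟩
    exact h.le_L hSP' hmin hne
  have hSL₀ : (S : Subgroup G) ≤ L₀ := by
    rw [hL₀]
    exact le_sup_of_le_left (le_inf Subgroup.le_normalizer le_sup_right)
  exact le_pCoreOf (h.C_le_S.trans hSL₀) (hL₀L.trans h.L_le_normalizer_C) h.isPGroup_C

end Cfsg.Agent.Lib.Helper47_IsoMain
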