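import Cfsg.Agent.Lib.Helper47_IsoBar
import Cfsg.Agent.Lib.Helper47_IsoMain
import Cfsg.Agent.Lib.Helper21_Components
import Cfsg.Agent.Lib.Helper21_FStar
import Cfsg.Agent.Lib.Helper22_Layer
import Cfsg.Agent.Lib.Helper22_Quasisimple
import Cfsg.Agent.Lib.Helper29_Local
import Cfsg.Agent.Lib.Helper48_Trans2
import Cfsg.Agent.Lib.Helper24_CoprimeAction
import Cfsg.Agent.Lib.Helper1_Cores

/-!
# S3044 package TRB1 (helper43 for helper47): back to `Ỹ = ↥Y ⧸ pCore p ↥Y`: `layer Ỹ = ⊤`.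

`φ` is injective with range `Y.map π`; for a component `K ≤ Y.map π` of `G ⧸ Q` the preimage
`K.comap φ` is a component of `Ỹ`, and `(layer Ỹ).map φ ≥ sSup … = Y.map π = (⊤ : Subgroup Ỹ).map φ`.
-/

set_option autoImplicit false

open Cfsg
open Cfsg.Agent.Lib.Helper47_IsoBase Cfsg.Agent.Lib.Helper47_IsoBar Cfsg.Agent.Lib.Helper47_SubAPI
  Cfsg.Agent.Lib.Helper48_Op
open scoped commutatorElement Pointwise

namespace Cfsg.Agent.Lib.Helper43_Iso_TRB1

universe u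

variable {H : Type u} [Group H] [Finite H] {p : ℕ} [Fact p.Prime] {Y C S W : Subgroup H}

/-- the range of a hom `φ : Ỹ →* G ⧸ Q` with `φ (mk y) = mk y` is the image of `Y` -/
theorem range_eq_map {G : Type u} [Group G] {p : ℕ} (Y : Subgroup G)
    (φ : (↥Y ⧸ Cfsg.pCore p ↥Y) →* (G ⧸ Cfsg.pCore p G))
    (hφy : ∀ y : ↥Y, φ (QuotientGroup.mk y) = QuotientGroup.mk (y : G)) :
    φ.range = Y.map (QuotientGroup.mk' (Cfsg.pCore p G)) := by
  ext x
  constructor
  · rintro ⟨z, rfl⟩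
    obtain ⟨y, rfl⟩ := QuotientGroup.mk_surjective z
    rw [hφy]
    exact ⟨(y : G), y.2, rfl⟩
  · rintro ⟨g, hg, rfl⟩
    exact ⟨QuotientGroup.mk ⟨g, hg⟩, hφy ⟨g, hg⟩⟩

/-- the preimage under an injective hom of a component inside the range is a component -/
theorem isComponent_comap_of_injective {A B : Type*} [Group A] [Group B] (φ : A →* B)
    (hinj : Function.Injective φ) {K : Subgroup B} (hK : Cfsg.IsComponent K) (hle : K ≤ φ.range) :
    Cfsg.IsComponent (K.comap φ) := by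
  refine ⟨hK.1.comap φ, ?_⟩
  have hmap : (K.comap φ).map φ = K := by
    rw [Subgroup.map_comap_eq, inf_eq_right.mpr hle]
  have e : ↥(K.comap φ) ≃* ↥K :=
    ((K.comap φ).equivMapOfInjective φ hinj).trans (MulEquiv.subgroupCongr hmap)
  exact Cfsg.Agent.Lib.Helper29_Local.isQuasisimple_of_mulEquiv e.symm hK.2

theorem trb_layer {G : Type u} [Group G] [Finite G] {p : ℕ} [Fact p.Prime] (Y : Subgroup G) [Y.Normal]
    (hφ : ∃ φ : (↥Y ⧸ Cfsg.pCore p ↥Y) →* (G ⧸ Cfsg.pCore p G), Function.Injective φ ∧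
      ∀ y : ↥Y, φ (QuotientGroup.mk y) = QuotientGroup.mk (y : G))
    (hgen : Y.map (QuotientGroup.mk' (Cfsg.pCore p G)) =
      sSup {K : Subgroup (G ⧸ Cfsg.pCore p G) | Cfsg.IsComponent K ∧
        K ≤ Y.map (QuotientGroup.mk' (Cfsg.pCore p G))}) :
    Cfsg.layer (↥Y ⧸ Cfsg.pCore p ↥Y) = ⊤ := by
  obtain ⟨φ, hinj, hφy⟩ := hφ
  have hrange : φ.range = Y.map (QuotientGroup.mk' (Cfsg.pCore p G)) := range_eq_map Y φ hφy
  have hmap : ∀ K : Subgroup (G ⧸ Cfsg.pCore p G), K ≤ φ.range → (K.comap φ).map φ = K := by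
    intro K hle
    rw [Subgroup.map_comap_eq, inf_eq_right.mpr hle]
  rw [eq_top_iff, ← Subgroup.map_le_map_iff_of_injective hinj, ← MonoidHom.range_eq_map, hrange,
    hgen]
  apply sSup_le
  rintro K ⟨hK, hle⟩
  have hle' : K ≤ φ.range := hrange ▸ hle
  have h1 : Cfsg.IsComponent (K.comap φ) := isComponent_comap_of_injective φ hinj hK hle'
  have h2 : K.comap φ ≤ Cfsg.layer (↥Y ⧸ Cfsg.pCore p ↥Y) := le_sSup h1
  calc K = (K.comap φ).map φ := (hmap K hle').symm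
    _ ≤ _ := Subgroup.map_mono h2

end Cfsg.Agent.Lib.Helper43_Iso_TRB1
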