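import Mathlib

set_option autoImplicit false

/-!
Chain bases (Jordan bases) of nilpotent endomorphisms: definition, powers, ranks of powers,
conjugacy of endomorphisms with matching block sizes.
-/

namespace Cfsg.Agent.Lib.Helper43_Jordan

open Module

variable {F : Type*} [Field F]
variable {V : Type*} [AddCommGroup V] [Module F V]
variable {V' : Type*} [AddCommGroup V'] [Module F V']

/-- `b` is a chain basis for `N` with block sizes `d`: `N` maps `b (i, j)` to `b (i, j + 1)` and the
last vector of each chain to zero. -/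
def IsChainBasis {ι : Type*} (N : End F V) (d : ι → ℕ) (b : Basis (Σ i, Fin (d i)) F V) : Prop :=
  ∀ (i : ι) (j : Fin (d i)), N (b ⟨i, j⟩) =
    if h : j.1 + 1 < d i then b ⟨i, ⟨j.1 + 1, h⟩⟩ else 0

theorem IsChainBasis.pow_apply {ι : Type*} {N : End F V} {d : ι → ℕ}
    {b : Basis (Σ i, Fin (d i)) F V} (hb : IsChainBasis N d b) (k : ℕ) (i : ι) (j : Fin (d i)) :
    (N ^ k) (b ⟨i, j⟩) = if h : j.1 + k < d i then b ⟨i, ⟨j.1 + k, h⟩⟩ else 0 := by
  induction k with
  | zero =>
    rw [pow_zero, Module.End.one_apply, dif_pos (by simp)]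
    rfl
  | succ k ih =>
    rw [pow_succ', Module.End.mul_apply, ih]
    by_cases h : j.1 + k < d i
    · rw [dif_pos h, hb i ⟨j.1 + k, h⟩]
      by_cases h' : j.1 + (k + 1) < d i
      · rw [dif_pos h', dif_pos (by simpa [add_assoc] using h')]
        rfl
      · rw [dif_neg h', dif_neg (by simpa [add_assoc] using h')]
    · rw [dif_neg h, map_zero, dif_neg (by omega)]

/-- the index set of the basis vectors spanning the range of `N ^ k` -/
def tailSet {ι : Type*} (d : ι → ℕ) (k : ℕ) : Set (Σ i, Fin (d i)) := {x | k ≤ x.2.1}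

theorem IsChainBasis.range_pow {ι : Type*} {N : End F V} {d : ι → ℕ}
    {b : Basis (Σ i, Fin (d i)) F V} (hb : IsChainBasis N d b) (k : ℕ) :
    LinearMap.range (N ^ k) =
      Submodule.span F (Set.range (fun x : tailSet d k => b x.1)) := by
  apply le_antisymm
  · rw [LinearMap.range_eq_map, ← b.span_eq, Submodule.map_span, Submodule.span_le]
    rintro _ ⟨_, ⟨⟨i, j⟩, rfl⟩, rfl⟩
    rw [hb.pow_apply]
    by_cases h : j.1 + k < d i
    · rw [dif_pos h]
      apply Submodule.subset_span
      exact ⟨⟨⟨i, ⟨j.1 + k, h⟩⟩, by show k ≤ j.1 + k; omega⟩, rfl⟩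
    · rw [dif_neg h]
      exact Submodule.zero_mem _
  · rw [Submodule.span_le]
    rintro _ ⟨⟨⟨i, j⟩, hx⟩, rfl⟩
    have hk : k ≤ j.1 := hx
    refine ⟨b ⟨i, ⟨j.1 - k, by omega⟩⟩, ?_⟩
    rw [hb.pow_apply, dif_pos (by simp only; omega)]
    congr 2
    apply Fin.ext
    simp only
    omega

theorem card_tailSet {ι : Type*} [Fintype ι] (d : ι → ℕ) (k : ℕ) [Fintype (tailSet d k)] :
    Fintype.card (tailSet d k) = ∑ i, (d i - k) := by
  classical
  have e : tailSet d k ≃ Σ i, {j : Fin (d i) // k ≤ j.1} :=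
    { toFun := fun x => ⟨x.1.1, ⟨x.1.2, x.2⟩⟩
      invFun := fun y => ⟨⟨y.1, y.2.1⟩, y.2.2⟩
      left_inv := fun _ => rfl
      right_inv := fun _ => rfl }
  rw [Fintype.card_congr e, Fintype.card_sigma]
  apply Finset.sum_congr rfl
  intro i _
  rw [Fintype.card_subtype]
  have : (Finset.univ.filter (fun j : Fin (d i) => k ≤ j.1)) =
      (Finset.univ.filter (fun j : Fin (d i) => ¬ j.1 < k)) := by
    apply Finset.filter_congr
    intro j _
    omega
  rw [this, Finset.filter_not, Finset.card_sdiff_of_subset (Finset.filter_subset _ _),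
    Finset.card_univ, Fintype.card_fin]
  rw [Fin.card_filter_val_lt]
  omega

theorem IsChainBasis.finrank_range_pow {ι : Type*} [Fintype ι] {N : End F V} {d : ι → ℕ}
    {b : Basis (Σ i, Fin (d i)) F V} (hb : IsChainBasis N d b) (k : ℕ) :
    finrank F (LinearMap.range (N ^ k)) = ∑ i, (d i - k) := by
  classical
  have : Fintype (tailSet d k) := Fintype.ofFinite _
  rw [hb.range_pow k, finrank_span_eq_card, card_tailSet]
  exact b.linearIndependent.comp _ Subtype.val_injective

/-- conjugate endomorphisms have powers of the same rank -/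
theorem finrank_range_pow_conj (N : End F V) (N' : End F V') (e : V ≃ₗ[F] V')
    (he : ∀ x, e (N x) = N' (e x)) (k : ℕ) :
    finrank F (LinearMap.range (N' ^ k)) = finrank F (LinearMap.range (N ^ k)) := by
  have hpow : ∀ x, e ((N ^ k) x) = (N' ^ k) (e x) := by
    induction k with
    | zero => intro x; simp
    | succ k ih =>
      intro x
      rw [pow_succ', pow_succ', Module.End.mul_apply, Module.End.mul_apply, he, ih]
  have : LinearMap.range (N' ^ k) = (LinearMap.range (N ^ k)).map (e : V →ₗ[F] V') := by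
    ext y
    constructor
    · rintro ⟨x, rfl⟩
      refine ⟨(N ^ k) (e.symm x), ⟨_, rfl⟩, ?_⟩
      rw [LinearEquiv.coe_coe, hpow, LinearEquiv.apply_symm_apply]
    · rintro ⟨_, ⟨x, rfl⟩, rfl⟩
      exact ⟨e x, (hpow x).symm⟩
  rw [this]
  exact (LinearEquiv.finrank_map_eq e _)

/-- the number of blocks of a given size -/
def blockCount {ι : Type*} [Fintype ι] (d : ι → ℕ) (k : ℕ) : ℕ :=
  Fintype.card {i // d i = k}

theorem sum_sub_succ {ι : Type*} [Fintype ι] (d : ι → ℕ) (k : ℕ) :
    ∑ i, (d i - k) = ∑ i, (d i - (k + 1)) + Fintype.card {i // k < d i} := by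
  classical
  rw [Fintype.card_subtype, Finset.card_filter, ← Finset.sum_add_distrib]
  apply Finset.sum_congr rfl
  intro i _
  split_ifs with h <;> omega

theorem card_gt_eq {ι : Type*} [Fintype ι] (d : ι → ℕ) (k : ℕ) :
    Fintype.card {i // k < d i} = Fintype.card {i // k + 1 < d i} + blockCount d (k + 1) := by
  classical
  unfold blockCount
  rw [Fintype.card_subtype, Fintype.card_subtype, Fintype.card_subtype, Finset.card_filter,
    Finset.card_filter, Finset.card_filter, ← Finset.sum_add_distrib]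
  apply Finset.sum_congr rfl
  intro i _
  split_ifs <;> omega

/-- the block counts are determined by the ranks of the powers -/
theorem blockCount_eq_of_sum_eq {ι ι' : Type*} [Fintype ι] [Fintype ι'] (d : ι → ℕ) (d' : ι' → ℕ)
    (h : ∀ k, ∑ i, (d i - k) = ∑ i, (d' i - k)) (k : ℕ) :
    blockCount d (k + 1) = blockCount d' (k + 1) := by
  have h1 := sum_sub_succ d k
  have h2 := sum_sub_succ d' k
  have h3 := sum_sub_succ d (k + 1)
  have h4 := sum_sub_succ d' (k + 1)
  have h5 := card_gt_eq d k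
  have h6 := card_gt_eq d' k
  have e1 := h k
  have e2 := h (k + 1)
  have e3 := h (k + 1 + 1)
  omega

/-- equal block counts give a size-preserving bijection of the index sets -/
theorem exists_equiv_of_blockCount_eq {ι ι' : Type*} [Fintype ι] [Fintype ι'] (d : ι → ℕ)
    (d' : ι' → ℕ) (h : ∀ k, blockCount d k = blockCount d' k) :
    ∃ σ : ι ≃ ι', ∀ i, d' (σ i) = d i := by
  classical
  have e : ∀ k : ℕ, {i // d i = k} ≃ {i // d' i = k} := fun k =>
    Fintype.equivOfCardEq (h k)
  exact ⟨Equiv.ofFiberEquiv e, fun i => Equiv.ofFiberEquiv_map e i⟩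

/-- endomorphisms with chain bases of matching block sizes are conjugate -/
theorem IsChainBasis.exists_conj {ι ι' : Type*} {N : End F V} {d : ι → ℕ}
    {b : Basis (Σ i, Fin (d i)) F V} (hb : IsChainBasis N d b) {N' : End F V'} {d' : ι' → ℕ}
    {b' : Basis (Σ i, Fin (d' i)) F V'} (hb' : IsChainBasis N' d' b') (σ : ι ≃ ι')
    (hσ : ∀ i, d' (σ i) = d i) :
    ∃ e : V ≃ₗ[F] V', ∀ x, e (N x) = N' (e x) := by
  let τ : (Σ i, Fin (d i)) ≃ (Σ i, Fin (d' i)) :=
    Equiv.sigmaCongr σ (fun i => finCongr (hσ i).symm)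
  have hτ : ∀ (i : ι) (j : Fin (d i)), τ ⟨i, j⟩ = ⟨σ i, ⟨j.1, by rw [hσ i]; exact j.2⟩⟩ := by
    intro i j
    rfl
  refine ⟨b.equiv b' τ, ?_⟩
  intro x
  have : (b.equiv b' τ : V →ₗ[F] V') ∘ₗ N = N' ∘ₗ (b.equiv b' τ : V →ₗ[F] V') := by
    apply b.ext
    rintro ⟨i, j⟩
    rw [LinearMap.comp_apply, LinearMap.comp_apply, LinearEquiv.coe_coe, Basis.equiv_apply, hτ,
      hb i j, hb' (σ i) ⟨j.1, by rw [hσ i]; exact j.2⟩]
    have hdi := hσ i
    by_cases hj : j.1 + 1 < d i
    · have hj' : j.1 + 1 < d' (σ i) := by omega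
      rw [dif_pos hj, dif_pos hj', Basis.equiv_apply, hτ]
    · have hj' : ¬ j.1 + 1 < d' (σ i) := by omega
      rw [dif_neg hj, dif_neg hj', map_zero]
  exact LinearMap.congr_fun this x

/-- conjugate endomorphisms with chain bases have the same block counts (for positive sizes) -/
theorem IsChainBasis.blockCount_eq_of_conj {ι ι' : Type*} [Fintype ι] [Fintype ι']
    {N : End F V} {d : ι → ℕ}
    {b : Basis (Σ i, Fin (d i)) F V} (hb : IsChainBasis N d b) {N' : End F V'} {d' : ι' → ℕ}
    {b' : Basis (Σ i, Fin (d' i)) F V'} (hb' : IsChainBasis N' d' b') (e : V ≃ₗ[F] V')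
    (he : ∀ x, e (N x) = N' (e x)) (k : ℕ) : blockCount d (k + 1) = blockCount d' (k + 1) := by
  apply blockCount_eq_of_sum_eq
  intro j
  rw [← hb.finrank_range_pow, ← hb'.finrank_range_pow, finrank_range_pow_conj N N' e he]

theorem blockCount_zero {ι : Type*} [Fintype ι] (d : ι → ℕ) (hd : ∀ i, 1 ≤ d i) :
    blockCount d 0 = 0 := by
  unfold blockCount
  rw [Fintype.card_eq_zero_iff]
  exact ⟨fun x => by have := hd x.1; have := x.2; omega⟩

end Cfsg.Agent.Lib.Helper43_Jordan
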