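import Cfsg.Agent.Lib.Helper43_Jordan1
import Cfsg.Agent.Lib.Helper43_CyclicDecomp

set_option autoImplicit false

/-!
Existence of a chain basis (Jordan basis) for a nilpotent endomorphism.
-/

namespace Cfsg.Agent.Lib.Helper43_Jordan

open Module Polynomial

universe u

variable {F V : Type u} [Field F] [AddCommGroup V] [Module F V] [FiniteDimensional F V]

omit [FiniteDimensional F V] in
theorem aeval_ofFn_apply [DecidableEq F] (N : End F V) (n : ℕ) (c : Fin n → F) (v : V) :
    aeval N (ofFn n c) v = ∑ j : Fin n, c j • (N ^ j.1) v := by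
  rw [ofFn_eq_sum_monomial, map_sum, LinearMap.sum_apply]
  apply Finset.sum_congr rfl
  intro j _
  rw [aeval_monomial, Module.End.mul_apply, Module.algebraMap_end_apply]

/-- the unfiltered version: block sizes may be zero -/
theorem exists_chainBasis_aux (N : End F V) (hN : IsNilpotent N) :
    ∃ (ι : Type u) (_ : Fintype ι) (d : ι → ℕ) (b : Basis (Σ i, Fin (d i)) F V),
      IsChainBasis N d b := by
  classical
  obtain ⟨m, hm⟩ := hN
  obtain ⟨ι, hι, f, v, hf0, hfv, hspan, hker⟩ :=
    Cfsg.Agent.Lib.Helper43_CyclicDecomp.exists_cyclic_decomposition N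
  -- each `f i` divides `X ^ m`
  have hdvd : ∀ i, f i ∣ (X : F[X]) ^ m := by
    intro i
    have h0 : ∑ j, aeval N ((Pi.single i (X ^ m) : ι → F[X]) j) (v j) = 0 := by
      rw [Finset.sum_eq_single i]
      · rw [Pi.single_eq_same, map_pow, aeval_X, hm, LinearMap.zero_apply]
      · intro j _ hj
        rw [Pi.single_eq_of_ne hj, map_zero, LinearMap.zero_apply]
      · intro h; exact absurd (Finset.mem_univ i) h
    have := hker (Pi.single i (X ^ m)) h0 i
    rwa [Pi.single_eq_same] at this
  have hd : ∀ i, ∃ k, Associated (f i) ((X : F[X]) ^ k) := by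
    intro i
    obtain ⟨k, -, hk⟩ := (dvd_prime_pow prime_X m).1 (hdvd i)
    exact ⟨k, hk⟩
  choose d hd using hd
  -- properties of the exponents
  have hP1 : ∀ i, (N ^ d i) (v i) = 0 := by
    intro i
    obtain ⟨q, hq⟩ := (hd i).dvd
    have : aeval N ((X : F[X]) ^ d i) (v i) = 0 := by
      rw [hq, mul_comm, map_mul, Module.End.mul_apply, hfv, map_zero]
    rwa [map_pow, aeval_X] at this
  have hP2 : ∀ g : ι → F[X], (∑ i, aeval N (g i) (v i)) = 0 → ∀ i, (X : F[X]) ^ d i ∣ g i :=
    fun g hg i => (hd i).symm.dvd.trans (hker g hg i)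
  -- the family of vectors
  let bf : (Σ i, Fin (d i)) → V := fun x => (N ^ x.2.1) (v x.1)
  have hli : LinearIndependent F bf := by
    rw [Fintype.linearIndependent_iff]
    intro c hc
    rw [Fintype.sum_sigma] at hc
    have h1 : ∑ i, aeval N (ofFn (d i) (fun j => c ⟨i, j⟩)) (v i) = 0 := by
      rw [← hc]
      apply Finset.sum_congr rfl
      intro i _
      rw [aeval_ofFn_apply]
    have h2 := hP2 _ h1
    rintro ⟨i, j⟩
    have h3 : ofFn (d i) (fun j => c ⟨i, j⟩) = 0 := by
      apply eq_zero_of_dvd_of_degree_lt (h2 i)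
      rw [degree_X_pow]
      exact ofFn_degree_lt _
    have h4 := ofFn_coeff_eq_val_of_lt (fun j => c ⟨i, j⟩) j.2
    rw [h3, coeff_zero] at h4
    exact h4.symm
  have hsp : ⊤ ≤ Submodule.span F (Set.range bf) := by
    intro w _
    obtain ⟨g, rfl⟩ := hspan w
    apply Submodule.sum_mem
    intro i _
    have h1 : g i = g i %ₘ (X ^ d i) + X ^ d i * (g i /ₘ (X ^ d i)) :=
      (modByMonic_add_div (g i) (X ^ d i)).symm
    have h2 : aeval N (g i) (v i) = aeval N (g i %ₘ (X ^ d i)) (v i) := by
      conv_lhs => rw [h1]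
      rw [map_add, LinearMap.add_apply, mul_comm, map_mul, Module.End.mul_apply, map_pow, aeval_X,
        hP1, map_zero, add_zero]
    rw [h2]
    by_cases hdi : d i = 0
    · have : g i %ₘ ((X : F[X]) ^ d i) = 0 := by
        rw [hdi, pow_zero, modByMonic_one]
      rw [this, map_zero, LinearMap.zero_apply]
      exact Submodule.zero_mem _
    · have hlt : (g i %ₘ ((X : F[X]) ^ d i)).natDegree < d i := by
        have := natDegree_modByMonic_lt (g i) (monic_X_pow (R := F) (d i)) (by
          intro h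
          have := congrArg natDegree h
          rw [natDegree_X_pow, natDegree_one] at this
          exact hdi this)
        rwa [natDegree_X_pow] at this
      rw [aeval_eq_sum_range' hlt, LinearMap.sum_apply]
      apply Submodule.sum_mem
      intro j hj
      rw [LinearMap.smul_apply]
      apply Submodule.smul_mem
      apply Submodule.subset_span
      exact ⟨⟨i, ⟨j, Finset.mem_range.mp hj⟩⟩, rfl⟩
  refine ⟨ι, hι, d, Basis.mk hli hsp, ?_⟩
  intro i j
  rw [Basis.mk_apply]
  show N ((N ^ j.1) (v i)) = _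
  rw [← Module.End.mul_apply, ← pow_succ']
  by_cases h : j.1 + 1 < d i
  · rw [dif_pos h, Basis.mk_apply]
  · rw [dif_neg h]
    have : j.1 + 1 = d i := by have := j.2; omega
    rw [this, hP1]

/-- every nilpotent endomorphism has a chain basis with positive block sizes -/
theorem exists_chainBasis (N : End F V) (hN : IsNilpotent N) :
    ∃ (ι : Type u) (_ : Fintype ι) (d : ι → ℕ) (b : Basis (Σ i, Fin (d i)) F V),
      (∀ i, 1 ≤ d i) ∧ IsChainBasis N d b := by
  classical
  obtain ⟨ι₀, hι₀, d₀, b₀, hb₀⟩ := exists_chainBasis_aux N hN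
  let τ : (Σ i : {i : ι₀ // 1 ≤ d₀ i}, Fin (d₀ i.1)) ≃ (Σ i : ι₀, Fin (d₀ i)) :=
    { toFun := fun x => ⟨x.1.1, x.2⟩
      invFun := fun y => ⟨⟨y.1, by have := y.2.2; omega⟩, y.2⟩
      left_inv := fun _ => rfl
      right_inv := fun _ => rfl }
  refine ⟨{i : ι₀ // 1 ≤ d₀ i}, inferInstance, fun i => d₀ i.1, b₀.reindex τ.symm,
    fun i => i.2, ?_⟩
  intro i j
  rw [Basis.reindex_apply, Equiv.symm_symm]
  have := hb₀ i.1 j
  show N (b₀ ⟨i.1, j⟩) = _
  rw [this]
  by_cases h : j.1 + 1 < d₀ i.1
  · rw [dif_pos h, dif_pos h, Basis.reindex_apply, Equiv.symm_symm]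
    rfl
  · rw [dif_neg h, dif_neg h]

end Cfsg.Agent.Lib.Helper43_Jordan
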