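import Cfsg.Agent.Lib.Helper43_Jordan2

set_option autoImplicit false

/-!
The Jordan type of a nilpotent endomorphism as a multiset of positive integers: it is a complete
conjugacy invariant, its sum is the dimension, every admissible multiset occurs, and it detects
the nilpotency index.
-/

namespace Cfsg.Agent.Lib.Helper43_Jordan

open Module

universe u

section general

variable {F : Type*} [Field F]
variable {V : Type*} [AddCommGroup V] [Module F V]
variable {V' : Type*} [AddCommGroup V'] [Module F V']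

theorem count_map_eq_blockCount {ι : Type*} [Fintype ι] (d : ι → ℕ) (k : ℕ) :
    Multiset.count k (Multiset.map d Finset.univ.val) = blockCount d k := by
  classical
  rw [Multiset.count_map, blockCount, Fintype.card_subtype, Finset.card_def, Finset.filter_val]
  congr 1
  apply Multiset.filter_congr
  intro i _
  exact eq_comm

/-- conjugate endomorphisms with chain bases of positive block sizes have the same multiset of
block sizes -/
theorem IsChainBasis.map_eq_of_conj {ι ι' : Type*} [Fintype ι] [Fintype ι']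
    {N : End F V} {d : ι → ℕ}
    {b : Basis (Σ i, Fin (d i)) F V} (hb : IsChainBasis N d b) {N' : End F V'} {d' : ι' → ℕ}
    {b' : Basis (Σ i, Fin (d' i)) F V'} (hb' : IsChainBasis N' d' b')
    (hd : ∀ i, 1 ≤ d i) (hd' : ∀ i, 1 ≤ d' i) (e : V ≃ₗ[F] V')
    (he : ∀ x, e (N x) = N' (e x)) :
    Multiset.map d Finset.univ.val = Multiset.map d' Finset.univ.val := by
  classical
  apply Multiset.ext.2
  intro k
  rw [count_map_eq_blockCount, count_map_eq_blockCount]
  cases k with
  | zero => rw [blockCount_zero d hd, blockCount_zero d' hd']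
  | succ k => exact hb.blockCount_eq_of_conj hb' e he k

/-- endomorphisms with chain bases having the same multiset of block sizes are conjugate -/
theorem IsChainBasis.exists_conj_of_map_eq {ι ι' : Type*} [Fintype ι] [Fintype ι']
    {N : End F V} {d : ι → ℕ}
    {b : Basis (Σ i, Fin (d i)) F V} (hb : IsChainBasis N d b) {N' : End F V'} {d' : ι' → ℕ}
    {b' : Basis (Σ i, Fin (d' i)) F V'} (hb' : IsChainBasis N' d' b')
    (h : Multiset.map d Finset.univ.val = Multiset.map d' Finset.univ.val) :
    ∃ e : V ≃ₗ[F] V', ∀ x, e (N x) = N' (e x) := by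
  classical
  obtain ⟨σ, hσ⟩ := exists_equiv_of_blockCount_eq d d' (fun k => by
    rw [← count_map_eq_blockCount, ← count_map_eq_blockCount, h])
  exact hb.exists_conj hb' σ hσ

theorem IsChainBasis.finrank_eq_sum {ι : Type*} [Fintype ι] {N : End F V} {d : ι → ℕ}
    {b : Basis (Σ i, Fin (d i)) F V} (_hb : IsChainBasis N d b) :
    finrank F V = (Multiset.map d Finset.univ.val).sum := by
  rw [Module.finrank_eq_card_basis b, Fintype.card_sigma]
  simp only [Fintype.card_fin]
  rfl

theorem IsChainBasis.pow_eq_zero_iff {ι : Type*} {N : End F V} {d : ι → ℕ}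
    {b : Basis (Σ i, Fin (d i)) F V} (hb : IsChainBasis N d b) (k : ℕ) :
    N ^ k = 0 ↔ ∀ i, d i ≤ k := by
  constructor
  · intro h i
    by_contra hlt
    have hlt : k < d i := by omega
    have h1 := hb.pow_apply k i ⟨0, by omega⟩
    rw [h, LinearMap.zero_apply, dif_pos (by simpa using hlt)] at h1
    exact b.ne_zero _ h1.symm
  · intro h
    apply b.ext
    rintro ⟨i, j⟩
    rw [hb.pow_apply, dif_neg (by have := h i; omega), LinearMap.zero_apply]

theorem IsChainBasis.isNilpotent {ι : Type*} [Fintype ι] {N : End F V} {d : ι → ℕ}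
    {b : Basis (Σ i, Fin (d i)) F V} (hb : IsChainBasis N d b) : IsNilpotent N := by
  refine ⟨∑ i, d i, ?_⟩
  rw [hb.pow_eq_zero_iff]
  intro i
  exact Finset.single_le_sum (f := d) (fun _ _ => Nat.zero_le _) (Finset.mem_univ i)

end general

section jtype

variable {F V V' : Type u} [Field F] [AddCommGroup V] [Module F V] [FiniteDimensional F V]
  [AddCommGroup V'] [Module F V'] [FiniteDimensional F V']

theorem exists_jtype (N : End F V) (hN : IsNilpotent N) :
    ∃ m : Multiset ℕ, ∃ (ι : Type u) (_ : Fintype ι) (d : ι → ℕ)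
      (b : Basis (Σ i, Fin (d i)) F V),
      (∀ i, 1 ≤ d i) ∧ IsChainBasis N d b ∧ m = Multiset.map d Finset.univ.val := by
  obtain ⟨ι, hι, d, b, hd, hb⟩ := exists_chainBasis N hN
  exact ⟨_, ι, hι, d, b, hd, hb, rfl⟩

open Classical in
/-- the Jordan type of a nilpotent endomorphism (and `0` for other endomorphisms) -/
noncomputable def jtype (N : End F V) : Multiset ℕ :=
  if h : IsNilpotent N then (exists_jtype N h).choose else 0

theorem jtype_spec (N : End F V) (hN : IsNilpotent N) :
    ∃ (ι : Type u) (_ : Fintype ι) (d : ι → ℕ) (b : Basis (Σ i, Fin (d i)) F V),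
      (∀ i, 1 ≤ d i) ∧ IsChainBasis N d b ∧ jtype N = Multiset.map d Finset.univ.val := by
  unfold jtype
  rw [dif_pos hN]
  exact (exists_jtype N hN).choose_spec

theorem jtype_pos (N : End F V) {a : ℕ} (ha : a ∈ jtype N) : 0 < a := by
  by_cases hN : IsNilpotent N
  · obtain ⟨ι, hι, d, b, hd, hb, hj⟩ := jtype_spec N hN
    rw [hj, Multiset.mem_map] at ha
    obtain ⟨i, -, rfl⟩ := ha
    exact hd i
  · unfold jtype at ha
    rw [dif_neg hN] at ha
    exact absurd ha (Multiset.notMem_zero a)

theorem jtype_sum (N : End F V) (hN : IsNilpotent N) : (jtype N).sum = finrank F V := by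
  obtain ⟨ι, hι, d, b, hd, hb, hj⟩ := jtype_spec N hN
  rw [hj, hb.finrank_eq_sum]

theorem jtype_eq_iff (N : End F V) (hN : IsNilpotent N) (N' : End F V') (hN' : IsNilpotent N') :
    jtype N = jtype N' ↔ ∃ e : V ≃ₗ[F] V', ∀ x, e (N x) = N' (e x) := by
  obtain ⟨ι, hι, d, b, hd, hb, hj⟩ := jtype_spec N hN
  obtain ⟨ι', hι', d', b', hd', hb', hj'⟩ := jtype_spec N' hN'
  rw [hj, hj']
  constructor
  · intro h
    exact hb.exists_conj_of_map_eq hb' h
  · rintro ⟨e, he⟩
    exact hb.map_eq_of_conj hb' hd hd' e he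

theorem pow_eq_zero_iff_jtype (N : End F V) (hN : IsNilpotent N) (k : ℕ) :
    N ^ k = 0 ↔ ∀ a ∈ jtype N, a ≤ k := by
  obtain ⟨ι, hι, d, b, hd, hb, hj⟩ := jtype_spec N hN
  rw [hj, hb.pow_eq_zero_iff]
  constructor
  · intro h a ha
    rw [Multiset.mem_map] at ha
    obtain ⟨i, -, rfl⟩ := ha
    exact h i
  · intro h i
    exact h (d i) (Multiset.mem_map_of_mem d (Finset.mem_univ_val i))

/-- every multiset of positive integers with the right sum is a Jordan type -/
theorem exists_jtype_eq (m : Multiset ℕ) (hpos : ∀ a ∈ m, 0 < a) (hsum : m.sum = finrank F V) :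
    ∃ N : End F V, IsNilpotent N ∧ jtype N = m := by
  classical
  let l := m.toList
  let d : Fin l.length → ℕ := l.get
  have hdm : Multiset.map d Finset.univ.val = m := by
    rw [Fin.univ_val_map, List.ofFn_get, Multiset.coe_toList]
  have hcard : Fintype.card (Σ i, Fin (d i)) = finrank F V := by
    rw [Fintype.card_sigma, ← hsum, ← hdm]
    simp only [Fintype.card_fin]
    rfl
  let τ : (Σ i, Fin (d i)) ≃ Fin (finrank F V) := Fintype.equivFinOfCardEq hcard
  let b : Basis (Σ i, Fin (d i)) F V := (Module.finBasis F V).reindex τ.symm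
  let N : End F V := b.constr F
    (fun x => if h : x.2.1 + 1 < d x.1 then b ⟨x.1, ⟨x.2.1 + 1, h⟩⟩ else 0)
  have hb : IsChainBasis N d b := by
    intro i j
    show b.constr F _ (b ⟨i, j⟩) = _
    rw [Basis.constr_basis]
  have hd : ∀ i, 1 ≤ d i := by
    intro i
    apply hpos
    rw [← hdm]
    exact Multiset.mem_map_of_mem d (Finset.mem_univ_val i)
  have hN : IsNilpotent N := hb.isNilpotent
  refine ⟨N, hN, ?_⟩
  obtain ⟨ι', hι', d', b', hd', hb', hj'⟩ := jtype_spec N hN
  rw [hj', ← hdm]
  exact hb'.map_eq_of_conj hb hd' hd (LinearEquiv.refl F V) (fun x => rfl)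

end jtype

end Cfsg.Agent.Lib.Helper43_Jordan
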