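import Cfsg.Agent.Lib.Helper49_KnDefs

/-!
S3687 market (helper49): the group of pairs of permutations with equal signs.
-/

namespace Cfsg.Agent.Lib.Helper49_KnDefs

/-- the group of pairs of permutations with equal signs -/
abbrev EvenPairs (d : ℕ) : Subgroup (Equiv.Perm (Fin d) × Equiv.Perm (Fin (d - 1))) :=
  ((Equiv.Perm.sign.comp (MonoidHom.fst (Equiv.Perm (Fin d)) (Equiv.Perm (Fin (d - 1))))) *
    (Equiv.Perm.sign.comp (MonoidHom.snd (Equiv.Perm (Fin d)) (Equiv.Perm (Fin (d - 1)))))).ker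

end Cfsg.Agent.Lib.Helper49_KnDefs
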