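import Mathlib
import Cfsg.Agent.Lib.Helper49_KnDefs2
import Cfsg.Agent.Lib.Helper10_Kn_FINSUB
import Cfsg.Agent.Lib.Helper99_Kn_ALTCOMM

set_option autoImplicit false
set_option linter.unusedSectionVars false

/-!
S3687 market (architect helper49), package FINEMB: a finite group `H` with subgroups `T`, `R` of index `d`, `d - 1`
(`d ≥ 6`) acting as `Alt` or `Sym` on the cosets, with cores `K`, `C` such that `K ⊓ C = ⊥` and `|H : K| = d |H : C|`,
is isomorphic to `Alt × Alt`, `Sym × Sym` or the even pairs.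

Perm level: `range_cases` (the range of `φ : H →* Perm α` with `|α|! ≤ 2 |H : ker φ|` is `Alt` or `⊤`), `prod_range`
(the range of `φ.prod π`).
-/

namespace Cfsg.Agent.Lib.Helper86_Kn_FINEMB

open Cfsg Cfsg.Agent.Lib.Helper49_KnDefs Equiv

universe u v

section PermLevel

variable {H : Type*} [Group H] [Finite H] {α : Type*} [Fintype α] [DecidableEq α]

omit [Finite H] [DecidableEq α] in
theorem ker_index_mul_range_index (φ : H →* Perm α) :
    φ.ker.index * φ.range.index = (Fintype.card α).factorial := by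
  have h1 := φ.range.card_mul_index
  rw [Nat.card_perm, ← Subgroup.index_ker, Nat.card_eq_fintype_card (α := α)] at h1
  exact h1

/-- the range of a homomorphism to `Perm α` whose kernel has index at least `|α|!/2` is `Alt` or `⊤` -/
theorem range_cases (φ : H →* Perm α) (h : (Fintype.card α).factorial ≤ 2 * φ.ker.index) :
    (2 * φ.ker.index = (Fintype.card α).factorial ∧ φ.range = alternatingGroup α) ∨
      (φ.ker.index = (Fintype.card α).factorial ∧ φ.range = ⊤) := by
  have h1 := ker_index_mul_range_index φ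
  have hk : 0 < φ.ker.index := Nat.pos_of_ne_zero Subgroup.index_ne_zero_of_finite
  have hi : 0 < φ.range.index := Nat.pos_of_ne_zero Subgroup.index_ne_zero_of_finite
  have hi2 : φ.range.index ≤ 2 := by
    by_contra hc
    push Not at hc
    have h3 : φ.ker.index * 3 ≤ φ.ker.index * φ.range.index := Nat.mul_le_mul_left _ hc
    rw [h1] at h3
    omega
  have hcases : φ.range.index = 1 ∨ φ.range.index = 2 := by omega
  rcases hcases with e | e
  · right
    rw [e, mul_one] at h1
    exact ⟨h1, Subgroup.index_eq_one.mp e⟩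
  · left
    rw [e] at h1
    exact ⟨by omega, Equiv.Perm.eq_alternatingGroup_of_index_eq_two e⟩

theorem alt_le_range (φ : H →* Perm α) (h : (Fintype.card α).factorial ≤ 2 * φ.ker.index) :
    alternatingGroup α ≤ φ.range := by
  rcases range_cases φ h with ⟨-, e⟩ | ⟨-, e⟩
  · rw [e]
  · rw [e]; exact le_top

omit [Finite H] [Fintype α] [DecidableEq α] in
/-- the image of a normal subgroup is normalized by the range -/
theorem range_le_normalizer_map (φ : H →* Perm α) (C : Subgroup H) [hC : C.Normal] :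
    φ.range ≤ Subgroup.normalizer ((C.map φ : Subgroup (Perm α)) : Set (Perm α)) := by
  rintro _ ⟨h, rfl⟩
  rw [Subgroup.mem_normalizer_iff]
  intro x
  constructor
  · rintro ⟨c, hc, rfl⟩
    exact ⟨h * c * h⁻¹, hC.conj_mem c hc h, by simp⟩
  · rintro ⟨c, hc, hx⟩
    refine ⟨h⁻¹ * c * h, ?_, ?_⟩
    · have := hC.conj_mem c hc h⁻¹
      simpa using this
    · rw [map_mul, map_mul, hx, map_inv]
      group

theorem two_mul_lt_factorial {a : ℕ} (ha : 6 ≤ a) : 2 * a < a.factorial := by
  obtain ⟨k, rfl⟩ : ∃ k, a = k + 1 := ⟨a - 1, by omega⟩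
  rw [Nat.factorial_succ]
  have h5 : (5 : ℕ).factorial ≤ k.factorial := Nat.factorial_le (by omega)
  have h120 : (5 : ℕ).factorial = 120 := by decide
  nlinarith

theorem exists_not_mem_alt (h2 : 2 ≤ Fintype.card α) : ∃ s : Perm α, s ∉ alternatingGroup α := by
  obtain ⟨a, b, hab⟩ := Fintype.exists_pair_of_one_lt_card (by omega : 1 < Fintype.card α)
  refine ⟨swap a b, fun hmem => ?_⟩
  rw [Equiv.Perm.mem_alternatingGroup, Equiv.Perm.sign_swap hab] at hmem
  exact absurd hmem (by decide)

/-- the range of `φ.prod π` -/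
theorem prod_range {β : Type*} [Fintype β] [DecidableEq β] (φ : H →* Perm α) (π : H →* Perm β)
    (hβ : 5 ≤ Fintype.card β) (hα : Fintype.card α = Fintype.card β + 1)
    (hφ : (Fintype.card α).factorial ≤ 2 * φ.ker.index)
    (hπ : (Fintype.card β).factorial ≤ 2 * π.ker.index)
    (hker : φ.ker ⊓ π.ker = ⊥)
    (hcard : φ.ker.index = Fintype.card α * π.ker.index) :
    Function.Injective (φ.prod π) ∧
      (alternatingGroup α).prod (alternatingGroup β) ≤ (φ.prod π).range ∧
      ((2 * φ.ker.index = (Fintype.card α).factorial ∧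
          (∀ x ∈ (φ.prod π).range, x.1 ∈ alternatingGroup α) ∧
          (∀ x ∈ (φ.prod π).range, x.2 ∈ alternatingGroup β)) ∨
        (φ.ker.index = (Fintype.card α).factorial ∧
          (∃ x ∈ (φ.prod π).range, x.1 ∉ alternatingGroup α) ∧
          (∃ x ∈ (φ.prod π).range, x.2 ∉ alternatingGroup β))) := by
  have hαc : 5 ≤ Nat.card α := by rw [Nat.card_eq_fintype_card]; omega
  have hβc : 5 ≤ Nat.card β := by rw [Nat.card_eq_fintype_card]; exact hβ
  have hAφ : alternatingGroup α ≤ φ.range := alt_le_range φ hφ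
  have hAπ : alternatingGroup β ≤ π.range := alt_le_range π hπ
  have hkπ : 0 < π.ker.index := Nat.pos_of_ne_zero Subgroup.index_ne_zero_of_finite
  have hH : 0 < Nat.card H := Nat.card_pos
  -- injectivity
  have hinj : Function.Injective (φ.prod π) := by
    rw [injective_iff_map_eq_one]
    intro x hx
    rw [MonoidHom.prod_apply, Prod.mk_eq_one] at hx
    have : x ∈ φ.ker ⊓ π.ker := ⟨MonoidHom.mem_ker.mpr hx.1, MonoidHom.mem_ker.mpr hx.2⟩
    rw [hker] at this
    exact Subgroup.mem_bot.mp this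
  -- `¬ C ≤ K`
  have hCK : ¬ π.ker ≤ φ.ker := by
    intro hle
    have hC : π.ker = ⊥ := by rw [← hker]; exact (inf_eq_right.mpr hle).symm
    have h1 : π.ker.index = Nat.card H := by rw [hC, Subgroup.index_bot]
    have h2 : φ.ker.index ≤ Nat.card H := Nat.le_of_dvd hH (Subgroup.index_dvd_card _)
    rw [hcard, h1] at h2
    nlinarith
  -- `¬ K ≤ C`
  have hKC : ¬ φ.ker ≤ π.ker := by
    intro hle
    have hK : φ.ker = ⊥ := by rw [← hker]; exact (inf_eq_left.mpr hle).symm
    have hinjφ : Function.Injective φ := (MonoidHom.ker_eq_bot_iff φ).mp hK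
    have h1 : φ.ker.index = Nat.card H := by rw [hK, Subgroup.index_bot]
    have h2 := π.ker.card_mul_index
    have hCcard : Nat.card π.ker = Fintype.card α := by
      rw [← h1, hcard] at h2
      exact Nat.eq_of_mul_eq_mul_right hkπ h2
    have hCne : π.ker.map φ ≠ ⊥ := by
      intro e
      rw [Subgroup.map_eq_bot_iff, hK] at e
      have : π.ker = ⊥ := le_bot_iff.mp e
      rw [this, Subgroup.card_bot] at hCcard
      omega
    have hle2 := Cfsg.Agent.Lib.Helper99_Kn_ALTCOMM.aux_alt_le hαc (π.ker.map φ) hCne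
      (hAφ.trans (range_le_normalizer_map φ π.ker))
    have hc1 := Subgroup.card_le_of_le hle2
    have hc2 : Nat.card (π.ker.map φ) = Nat.card π.ker := Subgroup.card_map_of_injective hinjφ
    have : Nontrivial α := Fintype.one_lt_card_iff_nontrivial.mp (by omega)
    have hc3 := two_mul_nat_card_alternatingGroup (α := α)
    rw [Nat.card_perm, Nat.card_eq_fintype_card (α := α)] at hc3
    have hfac := two_mul_lt_factorial (a := Fintype.card α) (by omega)
    omega
  have hA1 : alternatingGroup α ≤ π.ker.map φ :=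
    Cfsg.Agent.Lib.Helper99_Kn_ALTCOMM.aux_alt_le hαc _
      (by rw [Ne, Subgroup.map_eq_bot_iff]; exact hCK) (hAφ.trans (range_le_normalizer_map φ π.ker))
  have hA2 : alternatingGroup β ≤ φ.ker.map π :=
    Cfsg.Agent.Lib.Helper99_Kn_ALTCOMM.aux_alt_le hβc _
      (by rw [Ne, Subgroup.map_eq_bot_iff]; exact hKC) (hAπ.trans (range_le_normalizer_map π φ.ker))
  have hprod : (alternatingGroup α).prod (alternatingGroup β) ≤ (φ.prod π).range := by
    rintro ⟨s, t⟩ hst
    obtain ⟨hs, ht⟩ := Subgroup.mem_prod.mp hst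
    obtain ⟨c, hc, rfl⟩ := hA1 hs
    obtain ⟨k, hk, rfl⟩ := hA2 ht
    refine ⟨c * k, ?_⟩
    rw [MonoidHom.prod_apply, map_mul, map_mul, MonoidHom.mem_ker.mp hc, MonoidHom.mem_ker.mp hk,
      mul_one, one_mul]
  refine ⟨hinj, hprod, ?_⟩
  rcases range_cases φ hφ with ⟨e1, r1⟩ | ⟨e1, r1⟩
  · left
    have e2 : 2 * π.ker.index = (Fintype.card β).factorial := by
      rw [hcard, hα, Nat.factorial_succ] at e1
      have : (Fintype.card β + 1) * (2 * π.ker.index) = (Fintype.card β + 1) * (Fintype.card β).factorial := by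
        rw [← e1]; ring
      exact Nat.eq_of_mul_eq_mul_left (Nat.succ_pos _) this
    rcases range_cases π hπ with ⟨e3, r2⟩ | ⟨e3, r2⟩
    · refine ⟨e1, ?_, ?_⟩
      · rintro _ ⟨h, rfl⟩
        rw [MonoidHom.prod_apply]
        show φ h ∈ _
        rw [← r1]
        exact ⟨h, rfl⟩
      · rintro _ ⟨h, rfl⟩
        rw [MonoidHom.prod_apply]
        show π h ∈ _
        rw [← r2]
        exact ⟨h, rfl⟩
    · exfalso
      omega
  · right
    have e2 : π.ker.index = (Fintype.card β).factorial := by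
      rw [hcard, hα, Nat.factorial_succ] at e1
      exact Nat.eq_of_mul_eq_mul_left (Nat.succ_pos _) e1
    rcases range_cases π hπ with ⟨e3, r2⟩ | ⟨e3, r2⟩
    · exfalso
      omega
    · refine ⟨e1, ?_, ?_⟩
      · obtain ⟨s, hs⟩ := exists_not_mem_alt (α := α) (by omega)
        have hs' : s ∈ φ.range := by rw [r1]; trivial
        obtain ⟨h, rfl⟩ := hs'
        exact ⟨(φ.prod π) h, ⟨h, rfl⟩, hs⟩
      · obtain ⟨s, hs⟩ := exists_not_mem_alt (α := β) (by omega)
        have hs' : s ∈ π.range := by rw [r2]; trivial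
        obtain ⟨h, rfl⟩ := hs'
        exact ⟨(φ.prod π) h, ⟨h, rfl⟩, hs⟩

end PermLevel

/-- PACKAGE FINEMB -/
theorem fin_emb {H : Type u} [Group H] [Finite H] {d : ℕ} (hd : 6 ≤ d) (T R : Subgroup H)
    (hT : T.index = d) (hR : R.index = d - 1)
    (hTK : d.factorial ≤ 2 * T.normalCore.index)
    (hRC : (d - 1).factorial ≤ 2 * R.normalCore.index)
    (hKC : T.normalCore ⊓ R.normalCore = ⊥)
    (hcard : T.normalCore.index = d * R.normalCore.index) :
    (2 * T.normalCore.index = d.factorial ∧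
        Nonempty (H ≃* alternatingGroup (Fin d) × alternatingGroup (Fin (d - 1)))) ∨
      (T.normalCore.index = d.factorial ∧
        (Nonempty (H ≃* Equiv.Perm (Fin d) × Equiv.Perm (Fin (d - 1))) ∨
          Nonempty (H ≃* EvenPairs d))) := by
  classical
  let e₁ : (H ⧸ T) ≃ Fin d := Finite.equivFinOfCardEq hT
  let e₂ : (H ⧸ R) ≃ Fin (d - 1) := Finite.equivFinOfCardEq hR
  let φ : H →* Perm (Fin d) := e₁.permCongrHom.toMonoidHom.comp (MulAction.toPermHom H (H ⧸ T))
  let π : H →* Perm (Fin (d - 1)) :=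
    e₂.permCongrHom.toMonoidHom.comp (MulAction.toPermHom H (H ⧸ R))
  have hφk : φ.ker = T.normalCore := by
    rw [Subgroup.normalCore_eq_ker]
    ext x
    simp only [MonoidHom.mem_ker, φ, MonoidHom.comp_apply, MulEquiv.coe_toMonoidHom,
      MulEquiv.map_eq_one_iff]
  have hπk : π.ker = R.normalCore := by
    rw [Subgroup.normalCore_eq_ker]
    ext x
    simp only [MonoidHom.mem_ker, π, MonoidHom.comp_apply, MulEquiv.coe_toMonoidHom,
      MulEquiv.map_eq_one_iff]
  obtain ⟨hinj, hprod, hcase⟩ := prod_range φ π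
    (by rw [Fintype.card_fin]; omega)
    (by rw [Fintype.card_fin, Fintype.card_fin]; omega)
    (by rw [Fintype.card_fin, hφk]; exact hTK)
    (by rw [Fintype.card_fin, hπk]; exact hRC)
    (by rw [hφk, hπk]; exact hKC)
    (by rw [Fintype.card_fin, hφk, hπk]; exact hcard)
  have hsub := Cfsg.Agent.Lib.Helper10_Kn_FINSUB.fin_sub (φ.prod π).range hprod
  have eH : H ≃* (φ.prod π).range := MonoidHom.ofInjective hinj
  rw [Fintype.card_fin, hφk] at hcase
  rcases hcase with ⟨e1, h1, h2⟩ | ⟨e1, h1, h2⟩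
  · left
    refine ⟨e1, ⟨?_⟩⟩
    have hJ := hsub.1 h1 h2
    exact (eH.trans (MulEquiv.subgroupCongr hJ)).trans (Subgroup.prodEquiv _ _)
  · right
    refine ⟨e1, ?_⟩
    rcases hsub.2 h1 h2 with hJ | hJ
    · left
      exact ⟨(eH.trans (MulEquiv.subgroupCongr hJ)).trans Subgroup.topEquiv⟩
    · right
      exact ⟨eH.trans (MulEquiv.subgroupCongr hJ)⟩

end Cfsg.Agent.Lib.Helper86_Kn_FINEMB
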