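import Mathlib
import Cfsg.Agent.Lib.Helper49_KnDefs
import Cfsg.Agent.Lib.Helper49_KnDefs2
import Cfsg.Agent.Lib.Helper86_Kn_FINEMB

/-!
# S3687 market (architect helper49), package FINREL (formalised by helper43)

`fin_rel_of`: the statement `fin_rel` with the conclusion of FINEMB for the group `↥M` and its subgroups
`T.subgroupOf M`, `R.subgroupOf M` as a hypothesis.  Everything here is arithmetic with
`Subgroup.card_mul_index` and `relCore M T = ((T.subgroupOf M).normalCore).map M.subtype`.
-/

set_option autoImplicit false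
set_option linter.unusedVariables false
set_option linter.unusedSectionVars false

namespace Cfsg.Agent.Lib.Helper43_Kn_FINREL

open Cfsg Cfsg.Agent.Lib.Helper47_TW Cfsg.Agent.Lib.Helper49_KnDefs

universe u

section

variable {G : Type u} [Group G] [Finite G]

theorem card_relCore (M T : Subgroup G) :
    Nat.card (relCore M T) = Nat.card (T.subgroupOf M).normalCore := by
  unfold relCore
  exact Subgroup.card_map_of_injective (Subgroup.subtype_injective M)

theorem card_subgroupOf_of_le {M T : Subgroup G} (h : T ≤ M) :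
    Nat.card (T.subgroupOf M) = Nat.card T :=
  Nat.card_congr (Subgroup.subgroupOfEquivOfLe h).toEquiv

/-- index of `T.subgroupOf M` from `|M| = d |T|` -/
theorem index_subgroupOf_eq {d : ℕ} {M T : Subgroup G} (h : T ≤ M)
    (hd : Nat.card M = d * Nat.card T) : (T.subgroupOf M).index = d := by
  have h1 := Subgroup.card_mul_index (T.subgroupOf M)
  rw [card_subgroupOf_of_le h, hd, mul_comm] at h1
  have hpos : 0 < Nat.card T := Nat.card_pos
  exact Nat.eq_of_mul_eq_mul_right hpos h1

/-- `|relCore M T| * index of the normal core = |M|` -/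
theorem card_relCore_mul_index (M T : Subgroup G) :
    Nat.card (relCore M T) * (T.subgroupOf M).normalCore.index = Nat.card M := by
  rw [card_relCore]
  exact Subgroup.card_mul_index _

theorem normalCore_inf_eq_bot {M T R : Subgroup G} (hKC : relCore M R ⊓ relCore M T = ⊥) :
    (T.subgroupOf M).normalCore ⊓ (R.subgroupOf M).normalCore = ⊥ := by
  have hinj := Subgroup.subtype_injective M
  rw [← Subgroup.map_eq_bot_iff_of_injective _ hinj, Subgroup.map_inf _ _ _ hinj, inf_comm]
  exact hKC

/-- FINREL with the conclusion of FINEMB (for `↥M`) as a hypothesis. -/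
theorem fin_rel_of {d : ℕ} (hd : 6 ≤ d) {M T R : Subgroup G} {PA PS PE : Prop}
    (hEmb : ∀ T' R' : Subgroup ↥M, T'.index = d → R'.index = d - 1 →
      d.factorial ≤ 2 * T'.normalCore.index →
      (d - 1).factorial ≤ 2 * R'.normalCore.index →
      T'.normalCore ⊓ R'.normalCore = ⊥ →
      T'.normalCore.index = d * R'.normalCore.index →
      (2 * T'.normalCore.index = d.factorial ∧ PA) ∨
        (T'.normalCore.index = d.factorial ∧ (PS ∨ PE)))
    (hT : AS d M T) (hR : AS (d - 1) M R) (hKC : relCore M R ⊓ relCore M T = ⊥)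
    (hcard : Nat.card (relCore M R) = d * Nat.card (relCore M T)) :
    (2 * Nat.card M = d.factorial * Nat.card (relCore M T) ∧ PA) ∨
      (Nat.card M = d.factorial * Nat.card (relCore M T) ∧ (PS ∨ PE)) := by
  obtain ⟨hTM, hTd, hTf⟩ := hT
  obtain ⟨hRM, hRd, hRf⟩ := hR
  have hK := card_relCore_mul_index M T
  have hC := card_relCore_mul_index M R
  have hKpos : 0 < Nat.card (relCore M T) := Nat.card_pos
  have hCpos : 0 < Nat.card (relCore M R) := Nat.card_pos
  set k := Nat.card (relCore M T) with hk
  set c := Nat.card (relCore M R) with hc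
  set iK := (T.subgroupOf M).normalCore.index with hiK
  set iC := (R.subgroupOf M).normalCore.index with hiC
  have h1 : d.factorial ≤ 2 * iK := by
    have : d.factorial * k ≤ (2 * iK) * k := by
      calc d.factorial * k ≤ 2 * Nat.card M := hTf
        _ = (2 * iK) * k := by rw [← hK]; ring
    exact Nat.le_of_mul_le_mul_right this hKpos
  have h2 : (d - 1).factorial ≤ 2 * iC := by
    have : (d - 1).factorial * c ≤ (2 * iC) * c := by
      calc (d - 1).factorial * c ≤ 2 * Nat.card M := hRf
        _ = (2 * iC) * c := by rw [← hC]; ring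
    exact Nat.le_of_mul_le_mul_right this hCpos
  have h3 : iK = d * iC := by
    have : iK * k = (d * iC) * k := by
      calc iK * k = Nat.card M := by rw [← hK]; ring
        _ = c * iC := hC.symm
        _ = (d * iC) * k := by rw [hcard]; ring
    exact Nat.eq_of_mul_eq_mul_right hKpos this
  rcases hEmb (T.subgroupOf M) (R.subgroupOf M) (index_subgroupOf_eq hTM hTd)
      (index_subgroupOf_eq hRM hRd) h1 h2 (normalCore_inf_eq_bot hKC) h3 with ⟨h4, hA⟩ | ⟨h4, hS⟩
  · left
    refine ⟨?_, hA⟩
    rw [← hK]
    have h4' : 2 * iK = d.factorial := h4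
    calc 2 * (k * iK) = (2 * iK) * k := by ring
      _ = d.factorial * k := by rw [h4']
  · right
    refine ⟨?_, hS⟩
    have h4' : iK = d.factorial := h4
    rw [← hK, h4']
    ring

end

/-- PACKAGE FINREL (verbatim): FINEMB (helper86) applied to the subtype of `M`. -/
theorem fin_rel {G : Type u} [Group G] [Finite G] {d : ℕ} (hd : 6 ≤ d) {M T R : Subgroup G}
    (hT : AS d M T) (hR : AS (d - 1) M R) (hKC : relCore M R ⊓ relCore M T = ⊥)
    (hcard : Nat.card (relCore M R) = d * Nat.card (relCore M T)) :
    (2 * Nat.card M = d.factorial * Nat.card (relCore M T) ∧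
        Nonempty (↥M ≃* alternatingGroup (Fin d) × alternatingGroup (Fin (d - 1)))) ∨
      (Nat.card M = d.factorial * Nat.card (relCore M T) ∧
        (Nonempty (↥M ≃* Equiv.Perm (Fin d) × Equiv.Perm (Fin (d - 1))) ∨
          Nonempty (↥M ≃* EvenPairs d))) :=
  fin_rel_of hd
    (fun T' R' h1 h2 h3 h4 h5 h6 =>
      Cfsg.Agent.Lib.Helper86_Kn_FINEMB.fin_emb hd T' R' h1 h2 h3 h4 h5 h6) hT hR hKC hcard

end Cfsg.Agent.Lib.Helper43_Kn_FINREL
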