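import Mathlib
import Cfsg.Prelude.Def_GeometricClasses

set_option autoImplicit false
set_option linter.unusedSectionVars false

/-!
# Kronecker products: rank bounds and the stabilizer of a tensor decomposition (helper43)
-/

namespace Cfsg.Agent.Lib.Helper43_Kron1

open Matrix Module
open scoped Kronecker MatrixGroups

variable {F : Type*} [Field F] {a b : ℕ}

/-- a matrix all of whose nonzero vectors are eigenvectors is scalar -/
theorem scalar_of_all_eigen (M : Matrix (Fin a) (Fin a) F)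
    (h : ∀ v : Fin a → F, ∃ c : F, M *ᵥ v = c • v) : ∃ c : F, M = c • (1 : Matrix (Fin a) (Fin a) F) := by
  classical
  choose c hc using h
  by_cases ha : a = 0
  · subst ha
    exact ⟨0, by ext i; exact i.elim0⟩
  let i₀ : Fin a := ⟨0, by omega⟩
  have hcol : ∀ i j : Fin a, M j i = if j = i then c (Pi.single i 1) else 0 := by
    intro i j
    have h1 := congrFun (hc (Pi.single i 1)) j
    rw [Matrix.mulVec_single_one] at h1
    rw [Matrix.col_apply] at h1
    rw [h1, Pi.smul_apply, Pi.single_apply, smul_eq_mul]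
    split_ifs <;> simp
  have hconst : ∀ i : Fin a, c (Pi.single i 1) = c (Pi.single i₀ 1) := by
    intro i
    by_cases hi : i = i₀
    · rw [hi]
    · have h1 := hc (Pi.single i 1 + Pi.single i₀ 1)
      rw [Matrix.mulVec_add, hc (Pi.single i 1), hc (Pi.single i₀ 1)] at h1
      have h2 := congrFun h1 i
      have h3 := congrFun h1 i₀
      simp only [Pi.add_apply, Pi.smul_apply, Pi.single_apply, smul_eq_mul, if_true,
        if_neg hi, if_neg (Ne.symm hi), mul_one, mul_zero, add_zero, zero_add] at h2 h3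
      rw [h2, h3]
  refine ⟨c (Pi.single i₀ 1), ?_⟩
  ext j i
  rw [hcol i j, Matrix.smul_apply, Matrix.one_apply, smul_eq_mul, hconst i]
  split_ifs <;> simp

/-- a non-scalar matrix moves some vector off its line -/
theorem exists_indep_of_not_scalar (M : Matrix (Fin a) (Fin a) F)
    (hM : ∀ c : F, M ≠ c • (1 : Matrix (Fin a) (Fin a) F)) :
    ∃ v : Fin a → F, ∀ s t : F, s • v + t • (M *ᵥ v) = 0 → s = 0 ∧ t = 0 := by
  by_contra hcon
  push Not at hcon
  obtain ⟨c, hc⟩ := scalar_of_all_eigen M (by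
    intro v
    by_cases hv : v = 0
    · exact ⟨0, by rw [hv, Matrix.mulVec_zero, smul_zero]⟩
    obtain ⟨s, t, hst, hne⟩ := hcon v
    have ht : t ≠ 0 := by
      intro ht
      rw [ht, zero_smul, add_zero] at hst
      have hs : s = 0 := (smul_eq_zero.1 hst).resolve_right hv
      exact hne hs ht
    refine ⟨-(t⁻¹ * s), ?_⟩
    have h1 : t • (M *ᵥ v) = -(s • v) := eq_neg_of_add_eq_zero_right hst
    calc M *ᵥ v = t⁻¹ • (t • (M *ᵥ v)) := by rw [smul_smul, inv_mul_cancel₀ ht, one_smul]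
      _ = -(t⁻¹ * s) • v := by rw [h1, smul_neg, smul_smul, neg_smul])
  exact hM c hc

/-- the Kronecker product applied to a pure tensor -/
theorem kron_mulVec_tens (A : Matrix (Fin a) (Fin a) F) (B : Matrix (Fin b) (Fin b) F)
    (v : Fin a → F) (w : Fin b → F) (i : Fin a) (j : Fin b) :
    ((A ⊗ₖ B) *ᵥ (fun ij : Fin a × Fin b => v ij.1 * w ij.2)) (i, j) =
      (A *ᵥ v) i * (B *ᵥ w) j := by
  simp only [Matrix.mulVec, dotProduct, Matrix.kroneckerMap_apply, Fintype.sum_prod_type]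
  rw [Finset.sum_mul_sum]
  apply Finset.sum_congr rfl
  intro i' _
  apply Finset.sum_congr rfl
  intro j' _
  ring

/-- the pure tensor map `w ↦ v ⊗ w` -/
def tens (v : Fin a → F) : (Fin b → F) →ₗ[F] (Fin a × Fin b → F) where
  toFun w := fun ij => v ij.1 * w ij.2
  map_add' w w' := by
    funext ij
    simp only [Pi.add_apply]
    ring
  map_smul' c w := by
    funext ij
    simp only [Pi.smul_apply, smul_eq_mul, RingHom.id_apply]
    ring

/-- **rank bound**: if the first factor is not scalar, `x₁ ⊗ x₂ - λ` has rank at least `b` -/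
theorem le_rank_kron_sub (M₁ : Matrix (Fin a) (Fin a) F) (M₂ : Matrix (Fin b) (Fin b) F)
    (hM₁ : ∀ c : F, M₁ ≠ c • (1 : Matrix (Fin a) (Fin a) F))
    (hM₂ : ∀ w : Fin b → F, M₂ *ᵥ w = 0 → w = 0) (l : F) :
    b ≤ (M₁ ⊗ₖ M₂ - l • (1 : Matrix (Fin a × Fin b) (Fin a × Fin b) F)).rank := by
  obtain ⟨v, hv⟩ := exists_indep_of_not_scalar M₁ hM₁
  set N := M₁ ⊗ₖ M₂ - l • (1 : Matrix (Fin a × Fin b) (Fin a × Fin b) F) with hN
  set φ : (Fin b → F) →ₗ[F] (Fin a × Fin b → F) := N.mulVecLin ∘ₗ tens v with hφ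
  have hφapp : ∀ (w : Fin b → F) (i : Fin a) (j : Fin b),
      φ w (i, j) = (M₁ *ᵥ v) i * (M₂ *ᵥ w) j - l * (v i * w j) := by
    intro w i j
    show (N *ᵥ (fun ij : Fin a × Fin b => v ij.1 * w ij.2)) (i, j) = _
    rw [hN, Matrix.sub_mulVec, Pi.sub_apply, kron_mulVec_tens, Matrix.smul_mulVec,
      Matrix.one_mulVec, Pi.smul_apply, smul_eq_mul]
  have hinj : Function.Injective φ := by
    rw [← LinearMap.ker_eq_bot, Submodule.eq_bot_iff]
    intro w hw
    rw [LinearMap.mem_ker] at hw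
    apply hM₂
    funext j
    have h1 : (-(l * w j)) • v + ((M₂ *ᵥ w) j) • (M₁ *ᵥ v) = 0 := by
      funext i
      have h2 := congrFun hw (i, j)
      rw [hφapp] at h2
      rw [Pi.zero_apply] at h2
      simp only [Pi.add_apply, Pi.smul_apply, smul_eq_mul, Pi.zero_apply]
      linear_combination h2
    exact (hv _ _ h1).2
  have hle : LinearMap.range φ ≤ LinearMap.range N.mulVecLin := by
    rw [hφ]
    exact LinearMap.range_comp_le_range _ _
  calc b = finrank F (Fin b → F) := (Module.finrank_fin_fun F).symm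
    _ = finrank F (LinearMap.range φ) := (LinearMap.finrank_range_of_inj hinj).symm
    _ ≤ finrank F (LinearMap.range N.mulVecLin) := Submodule.finrank_mono hle
    _ = N.rank := rfl

theorem one_kron_mulVec (M : Matrix (Fin b) (Fin b) F) (u : Fin a × Fin b → F) (i : Fin a)
    (j : Fin b) :
    (((1 : Matrix (Fin a) (Fin a) F) ⊗ₖ M) *ᵥ u) (i, j) = (M *ᵥ fun j' => u (i, j')) j := by
  simp only [Matrix.mulVec, dotProduct, Matrix.kroneckerMap_apply, Fintype.sum_prod_type,
    Matrix.one_apply]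
  rw [Finset.sum_eq_single i]
  · simp
  · intro i' _ hi'
    simp [Ne.symm hi']
  · simp

/-- the rank of `1 ⊗ M` -/
theorem rank_one_kron (M : Matrix (Fin b) (Fin b) F) :
    ((1 : Matrix (Fin a) (Fin a) F) ⊗ₖ M).rank = a * M.rank := by
  set R := LinearMap.range M.mulVecLin with hR
  let Θ : (Fin a → R) →ₗ[F] (Fin a × Fin b → F) :=
    { toFun := fun w ij => (w ij.1 : Fin b → F) ij.2
      map_add' := by intros; rfl
      map_smul' := by intros; rfl }
  have hinj : Function.Injective Θ := by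
    intro w w' h
    funext i
    apply Subtype.ext
    funext j
    exact congrFun h (i, j)
  have hrange : LinearMap.range Θ =
      LinearMap.range ((1 : Matrix (Fin a) (Fin a) F) ⊗ₖ M).mulVecLin := by
    apply le_antisymm
    · rintro _ ⟨w, rfl⟩
      have hex : ∀ i, ∃ u : Fin b → F, M *ᵥ u = (w i : Fin b → F) := by
        intro i
        obtain ⟨u, hu⟩ := (w i).2
        exact ⟨u, by rw [← hu, Matrix.mulVecLin_apply]⟩
      choose u hu using hex
      refine ⟨fun ij => u ij.1 ij.2, ?_⟩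
      funext ⟨i, j⟩
      rw [Matrix.mulVecLin_apply, one_kron_mulVec]
      show (M *ᵥ u i) j = _
      rw [hu i]
      rfl
    · rintro _ ⟨u, rfl⟩
      refine ⟨fun i => ⟨M *ᵥ (fun j' => u (i, j')), ⟨_, Matrix.mulVecLin_apply _ _⟩⟩, ?_⟩
      funext ⟨i, j⟩
      rw [Matrix.mulVecLin_apply, one_kron_mulVec]
      rfl
  unfold Matrix.rank
  rw [← hrange, LinearMap.finrank_range_of_inj hinj, Module.finrank_pi_fintype]
  simp only [Finset.sum_const, Finset.card_univ, Fintype.card_fin, smul_eq_mul]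
  rfl

theorem kron_pow (A : Matrix (Fin a) (Fin a) F) (B : Matrix (Fin b) (Fin b) F) (k : ℕ) :
    (A ⊗ₖ B) ^ k = (A ^ k) ⊗ₖ (B ^ k) := by
  induction k with
  | zero => rw [pow_zero, pow_zero, pow_zero, Matrix.one_kronecker_one]
  | succ k ih => rw [pow_succ, pow_succ, pow_succ, ih, Matrix.mul_kronecker_mul]

/-- if a Kronecker product is the identity, the first factor is scalar -/
theorem kron_eq_one (ha : 1 ≤ a) (hb : 1 ≤ b) (A : Matrix (Fin a) (Fin a) F)
    (B : Matrix (Fin b) (Fin b) F) (h : A ⊗ₖ B = 1) :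
    ∃ μ : F, μ ≠ 0 ∧ A = μ • (1 : Matrix (Fin a) (Fin a) F) := by
  let i₀ : Fin a := ⟨0, ha⟩
  let j₀ : Fin b := ⟨0, hb⟩
  have h00 : A i₀ i₀ * B j₀ j₀ = 1 := by
    have := congrFun (congrFun h (i₀, j₀)) (i₀, j₀)
    rwa [Matrix.kronecker_apply, Matrix.one_apply_eq] at this
  have hB0 : B j₀ j₀ ≠ 0 := right_ne_zero_of_mul_eq_one h00
  refine ⟨(B j₀ j₀)⁻¹, inv_ne_zero hB0, ?_⟩
  ext i i'
  have h1 := congrFun (congrFun h (i, j₀)) (i', j₀)
  rw [Matrix.kronecker_apply, Matrix.one_apply] at h1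
  rw [Matrix.smul_apply, Matrix.one_apply, smul_eq_mul]
  by_cases hii : i = i'
  · subst hii
    rw [if_pos rfl] at h1
    rw [if_pos rfl, mul_one]
    exact eq_inv_of_mul_eq_one_left h1
  · rw [if_neg (by intro hc; exact hii (Prod.ext_iff.1 hc).1)] at h1
    rw [if_neg hii, mul_zero]
    exact (mul_eq_zero.1 h1).resolve_right hB0

theorem one_kron_eq_one (ha : 1 ≤ a) (M : Matrix (Fin b) (Fin b) F)
    (h : (1 : Matrix (Fin a) (Fin a) F) ⊗ₖ M = 1) : M = 1 := by
  let i₀ : Fin a := ⟨0, ha⟩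
  ext j j'
  have h1 := congrFun (congrFun h (i₀, j)) (i₀, j')
  rw [Matrix.kronecker_apply, Matrix.one_apply_eq, one_mul, Matrix.one_apply] at h1
  rw [h1, Matrix.one_apply]
  by_cases hjj : j = j'
  · subst hjj; simp
  · rw [if_neg hjj, if_neg (by intro hc; exact hjj (Prod.ext_iff.1 hc).2)]

/-- scalar first factor -/
theorem smul_one_kron (α : F) (M : Matrix (Fin b) (Fin b) F) :
    (α • (1 : Matrix (Fin a) (Fin a) F)) ⊗ₖ M = (1 : Matrix (Fin a) (Fin a) F) ⊗ₖ (α • M) := by
  rw [Matrix.smul_kronecker, Matrix.kronecker_smul]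

theorem one_kron_sub (M : Matrix (Fin b) (Fin b) F) (l : F) :
    (1 : Matrix (Fin a) (Fin a) F) ⊗ₖ M - l • (1 : Matrix (Fin a × Fin b) (Fin a × Fin b) F) =
      (1 : Matrix (Fin a) (Fin a) F) ⊗ₖ (M - l • (1 : Matrix (Fin b) (Fin b) F)) := by
  ext ⟨i, j⟩ ⟨i', j'⟩
  simp only [Matrix.sub_apply, Matrix.kronecker_apply, Matrix.smul_apply, Matrix.one_apply,
    smul_eq_mul, Prod.mk.injEq]
  by_cases hi : i = i' <;> by_cases hj : j = j' <;> simp [hi, hj]

section structure_lemma

variable {n : ℕ}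

theorem glReindex_val (e : Fin n ≃ Fin a × Fin b) (k : GL (Fin a × Fin b) F) :
    ((Cfsg.Geo.glReindex e.symm k : GL (Fin n) F) : Matrix (Fin n) (Fin n) F) =
      (k : Matrix (Fin a × Fin b) (Fin a × Fin b) F).submatrix e e := rfl

/-- the Kronecker product of two invertible matrices, as an invertible matrix -/
def kronGL (x₁ : GL (Fin a) F) (x₂ : GL (Fin b) F) : GL (Fin a × Fin b) F :=
  ⟨x₁.1 ⊗ₖ x₂.1, (x₁⁻¹).1 ⊗ₖ (x₂⁻¹).1, by
    rw [← Matrix.mul_kronecker_mul, ← Units.val_mul, ← Units.val_mul, mul_inv_cancel,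
      mul_inv_cancel, Units.val_one, Units.val_one, Matrix.one_kronecker_one], by
    rw [← Matrix.mul_kronecker_mul, ← Units.val_mul, ← Units.val_mul, inv_mul_cancel,
      inv_mul_cancel, Units.val_one, Units.val_one, Matrix.one_kronecker_one]⟩

theorem kronGL_mem (x₁ : GL (Fin a) F) (x₂ : GL (Fin b) F) :
    kronGL x₁ x₂ ∈ Cfsg.Geo.kroneckerSubgroup a b F := ⟨x₁, x₂, rfl⟩

/-- elements of the stabilizer of a tensor decomposition are similar to Kronecker products -/
theorem exists_kron_of_conj_mem (e : Fin n ≃ Fin a × Fin b) (P x g : GL (Fin n) F)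
    (h : g⁻¹ * x * g ∈ Cfsg.Geo.tensorProductSubgroup a b e P) :
    ∃ (x₁ : GL (Fin a) F) (x₂ : GL (Fin b) F) (S : Matrix (Fin n) (Fin a × Fin b) F)
      (S' : Matrix (Fin a × Fin b) (Fin n) F), S * S' = 1 ∧ S' * S = 1 ∧
      x.1 * S = S * (x₁.1 ⊗ₖ x₂.1) := by
  obtain ⟨k', ⟨k, hk, rfl⟩, hk'⟩ := h
  obtain ⟨x₁, x₂, hkx⟩ := hk
  have h1 : P * Cfsg.Geo.glReindex e.symm k * P⁻¹ = g⁻¹ * x * g := hk'
  have h2 : x * (g * P) = (g * P) * Cfsg.Geo.glReindex e.symm k := by
    have : x = g * (P * Cfsg.Geo.glReindex e.symm k * P⁻¹) * g⁻¹ := by rw [h1]; group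
    rw [this]; group
  set T : Matrix (Fin n) (Fin n) F := ((g * P : GL (Fin n) F) : Matrix (Fin n) (Fin n) F) with hT
  set Ti : Matrix (Fin n) (Fin n) F := (((g * P)⁻¹ : GL (Fin n) F) : Matrix (Fin n) (Fin n) F)
    with hTi
  have hTTi : T * Ti = 1 := by rw [hT, hTi, ← Units.val_mul, mul_inv_cancel, Units.val_one]
  have hTiT : Ti * T = 1 := by rw [hT, hTi, ← Units.val_mul, inv_mul_cancel, Units.val_one]
  have h3 : x.1 * T = T * (k.1.submatrix e e) := by
    have := congrArg (fun u : GL (Fin n) F => (u : Matrix (Fin n) (Fin n) F)) h2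
    simp only [Units.val_mul] at this
    rw [glReindex_val] at this
    rw [hT, Units.val_mul]
    exact this
  refine ⟨x₁, x₂, T.submatrix id e.symm, Ti.submatrix e.symm id, ?_, ?_, ?_⟩
  · rw [Matrix.submatrix_mul_equiv, hTTi, Matrix.submatrix_id_id]
  · have : Ti.submatrix (⇑e.symm) id * T.submatrix id (⇑e.symm) =
        (Ti * T).submatrix e.symm e.symm := by
      rw [← Matrix.submatrix_mul_equiv Ti T e.symm (Equiv.refl _) e.symm]
      rfl
    rw [this, hTiT, Matrix.submatrix_one_equiv]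
  · have h4 : x.1 * T.submatrix id e.symm = (x.1 * T).submatrix id e.symm := rfl
    have h5 : (x₁.1 ⊗ₖ x₂.1) = (k.1.submatrix e e).submatrix e.symm e.symm := by
      rw [← hkx, Matrix.submatrix_submatrix]
      simp
    rw [h4, h3, h5, Matrix.submatrix_mul_equiv]

/-- conversely, an element similar to a Kronecker product with the right determinant of the
similarity is `SL`-conjugate into the stabilizer of the tensor decomposition -/
theorem exists_conj_mem_of_kron (e : Fin n ≃ Fin a × Fin b) (P x : GL (Fin n) F)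
    (x₁ : GL (Fin a) F) (x₂ : GL (Fin b) F) (S : Matrix (Fin n) (Fin a × Fin b) F)
    (S' : Matrix (Fin a × Fin b) (Fin n) F) (hSS' : S * S' = 1) (hS'S : S' * S = 1)
    (hx : x.1 * S = S * (x₁.1 ⊗ₖ x₂.1)) (hdet : (S.submatrix id e).det = P.1.det) :
    ∃ g ∈ Cfsg.Geo.specialLinear (Fin n) F,
      g⁻¹ * x * g ∈ Cfsg.Geo.tensorProductSubgroup a b e P := by
  set T : Matrix (Fin n) (Fin n) F := S.submatrix id e with hT
  set T' : Matrix (Fin n) (Fin n) F := S'.submatrix e id with hT'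
  have hTT' : T * T' = 1 := by
    rw [hT, hT', Matrix.submatrix_mul_equiv, hSS', Matrix.submatrix_id_id]
  have hT'T : T' * T = 1 := by
    have : S'.submatrix (⇑e) id * S.submatrix id (⇑e) = (S' * S).submatrix e e := by
      rw [← Matrix.submatrix_mul_equiv S' S e (Equiv.refl _) e]
      rfl
    rw [hT, hT', this, hS'S, Matrix.submatrix_one_equiv]
  set Tu : GL (Fin n) F := ⟨T, T', hTT', hT'T⟩ with hTu
  set k : GL (Fin a × Fin b) F := kronGL x₁ x₂ with hk
  have hxT : x * Tu = Tu * Cfsg.Geo.glReindex e.symm k := by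
    apply Units.ext
    rw [Units.val_mul, Units.val_mul, glReindex_val]
    show x.1 * T = T * ((x₁.1 ⊗ₖ x₂.1).submatrix e e)
    have h4 : x.1 * S.submatrix id e = (x.1 * S).submatrix id e := rfl
    rw [hT, h4, hx, Matrix.submatrix_mul_equiv]
  refine ⟨Tu * P⁻¹, ?_, ?_⟩
  · show Matrix.GeneralLinearGroup.det (Tu * P⁻¹) = 1
    rw [map_mul, map_inv]
    apply Units.ext
    rw [Units.val_mul, Units.val_one, Units.val_inv_eq_inv_val,
      Matrix.GeneralLinearGroup.val_det_apply, Matrix.GeneralLinearGroup.val_det_apply]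
    show T.det * (P.1.det)⁻¹ = 1
    rw [hdet]
    exact mul_inv_cancel₀ ((Matrix.isUnit_iff_isUnit_det _).1 P.isUnit).ne_zero
  · refine ⟨Cfsg.Geo.glReindex e.symm k, ⟨k, kronGL_mem x₁ x₂, rfl⟩, ?_⟩
    show P * Cfsg.Geo.glReindex e.symm k * P⁻¹ = (Tu * P⁻¹)⁻¹ * x * (Tu * P⁻¹)
    have : x = Tu * Cfsg.Geo.glReindex e.symm k * Tu⁻¹ := by
      rw [← hxT]; group
    rw [this]; group

end structure_lemma

end Cfsg.Agent.Lib.Helper43_Kron1
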