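import Mathlib
import Cfsg.Agent.Lib.Helper43_PolarPair3
import Cfsg.Agent.Lib.Helper5_SUCenter
import Cfsg.Agent.Lib.Helper43_GSpConj
import Cfsg.Agent.Lib.Helper99_PrimeOrderSL

set_option autoImplicit false
set_option linter.unusedSectionVars false

/-!
# Elements of `SU_n(q)` fixing no polar pair (helper43)

Block extension `extM`, unitary transvections, quasi-reflections, and the criteria showing that
elements `x` with `rank (x - 1)` odd (and small, or of odd order) have no conjugate in the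
stabilizer of a polar pair.
-/

namespace Cfsg.Agent.Lib.Helper43_PolarPair4

open Matrix Module Cfsg.Agent.Lib.Helper13_Herm Cfsg.Agent.Lib.Helper13_HermBridge
  Cfsg.Agent.Lib.Helper43_PolarPair1 Cfsg.Agent.Lib.Helper43_PolarPair2
  Cfsg.Agent.Lib.Helper43_PolarPair3
open scoped MatrixGroups

variable {K : Type*} [Field K] [Fintype K] {q m : ℕ}

section ext

variable {α β γ : Type} [Fintype α] [DecidableEq α] [Fintype β] [DecidableEq β] [Fintype γ]
  [DecidableEq γ]

/-- block extension by the identity -/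
def extM (e : α ⊕ β ≃ γ) (y : Matrix α α K) : Matrix γ γ K :=
  (Matrix.fromBlocks y 0 0 (1 : Matrix β β K)).submatrix e.symm e.symm

theorem extM_mul (e : α ⊕ β ≃ γ) (y y' : Matrix α α K) :
    extM e (y * y') = extM e y * extM e y' := by
  unfold extM
  rw [Matrix.submatrix_mul_equiv, Matrix.fromBlocks_multiply]
  simp

theorem extM_one (e : α ⊕ β ≃ γ) : extM e (1 : Matrix α α K) = 1 := by
  unfold extM
  rw [Matrix.fromBlocks_one, Matrix.submatrix_one_equiv]

theorem extM_pow (e : α ⊕ β ≃ γ) (y : Matrix α α K) (k : ℕ) : extM e (y ^ k) = extM e y ^ k := by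
  induction k with
  | zero => rw [pow_zero, pow_zero, extM_one]
  | succ k ih => rw [pow_succ, pow_succ, extM_mul, ih]

theorem extM_transpose (e : α ⊕ β ≃ γ) (y : Matrix α α K) : (extM e y)ᵀ = extM e yᵀ := by
  unfold extM
  rw [Matrix.transpose_submatrix, Matrix.fromBlocks_transpose]
  simp only [Matrix.transpose_zero, Matrix.transpose_one]

theorem extM_fr (hK : Fintype.card K = q ^ 2) (e : α ⊕ β ≃ γ) (y : Matrix α α K) :
    fr q (extM e y) = extM e (fr q y) := by
  unfold extM fr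
  rw [← Matrix.submatrix_map, Matrix.fromBlocks_map]
  have h0 : ∀ (a b : Type) , ((0 : Matrix a b K).map fun x => x ^ q) = 0 := fun a b => fr_zero hK
  have h1 : ((1 : Matrix β β K).map fun x => x ^ q) = 1 := fr_one hK
  rw [h0, h0, h1]

theorem det_extM (e : α ⊕ β ≃ γ) (y : Matrix α α K) : (extM e y).det = y.det := by
  unfold extM
  rw [Matrix.det_submatrix_equiv_self, Matrix.det_fromBlocks_zero₂₁, Matrix.det_one, mul_one]

theorem rank_fromBlocks_zero (M : Matrix α α K) :
    (Matrix.fromBlocks M 0 0 (0 : Matrix β β K)).rank = M.rank := by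
  apply le_antisymm
  · have h1 : Matrix.fromBlocks M 0 0 (0 : Matrix β β K) =
        Matrix.fromRows (1 : Matrix α α K) (0 : Matrix β α K) * M *
          Matrix.fromCols (1 : Matrix α α K) (0 : Matrix α β K) := by
      rw [Matrix.fromRows_mul, Matrix.fromRows_mul_fromCols]
      simp
    rw [h1]
    exact (Matrix.rank_mul_le_left _ _).trans (Matrix.rank_mul_le_right _ _)
  · have h1 : M = Matrix.fromCols (1 : Matrix α α K) (0 : Matrix α β K) *
        Matrix.fromBlocks M 0 0 (0 : Matrix β β K) *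
          Matrix.fromRows (1 : Matrix α α K) (0 : Matrix β α K) := by
      rw [Matrix.fromCols_mul_fromBlocks, Matrix.fromCols_mul_fromRows]
      simp
    conv_lhs => rw [h1]
    exact (Matrix.rank_mul_le_left _ _).trans (Matrix.rank_mul_le_right _ _)

theorem rank_extM_sub_one (e : α ⊕ β ≃ γ) (y : Matrix α α K) :
    (extM e y - 1).rank = (y - 1).rank := by
  have h1 : extM e y - 1 =
      (Matrix.fromBlocks (y - 1) 0 0 (0 : Matrix β β K)).submatrix e.symm e.symm := by
    unfold extM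
    have h2 : Matrix.fromBlocks y 0 0 (1 : Matrix β β K) - 1 =
        Matrix.fromBlocks (y - 1) 0 0 (0 : Matrix β β K) := by
      have h3 : Matrix.fromBlocks y 0 0 (1 : Matrix β β K) -
          Matrix.fromBlocks (1 : Matrix α α K) 0 0 (1 : Matrix β β K) =
          Matrix.fromBlocks (y - 1) 0 0 (0 : Matrix β β K) := by
        ext (i | i) (j | j) <;>
          simp only [Matrix.sub_apply, Matrix.fromBlocks_apply₁₁, Matrix.fromBlocks_apply₁₂,
            Matrix.fromBlocks_apply₂₁, Matrix.fromBlocks_apply₂₂, Matrix.zero_apply, sub_self]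
      rwa [Matrix.fromBlocks_one] at h3
    rw [← h2]
    conv_lhs => rw [← Matrix.submatrix_one_equiv e.symm]
    rfl
  rw [h1, Matrix.rank_submatrix, rank_fromBlocks_zero]

theorem extM_gram (hK : Fintype.card K = q ^ 2) (e : α ⊕ β ≃ γ) (y : Matrix α α K)
    (hy : yᵀ * fr q y = 1) : (extM e y)ᵀ * fr q (extM e y) = 1 := by
  rw [extM_transpose, extM_fr hK, ← extM_mul, hy, extM_one]

end ext


section criteria

variable {D : Fin 2 → Submodule K (Fin (m + m) → K)}

theorem rank_conj {n : ℕ} (g x : GL (Fin n) K) :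
    ((g⁻¹ * x * g : GL (Fin n) K).1 - 1).rank = (x.1 - 1).rank := by
  have h1 : (g⁻¹ * x * g : GL (Fin n) K).1 - 1 = (g⁻¹).1 * (x.1 - 1) * g.1 := by
    rw [Matrix.mul_sub, Matrix.sub_mul, Matrix.mul_one, ← Units.val_mul, ← Units.val_mul,
      ← Units.val_mul, inv_mul_cancel, Units.val_one]
  rw [h1, Matrix.rank_mul_eq_left_of_isUnit_det _ _
      ((Matrix.isUnit_iff_isUnit_det _).1 g.isUnit),
    Matrix.rank_mul_eq_right_of_isUnit_det _ _
      ((Matrix.isUnit_iff_isUnit_det _).1 (g⁻¹).isUnit)]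

/-- unitary elements `x` with `rank (x - 1)` odd and less than `m` have no conjugate in the
stabilizer of a polar pair -/
theorem not_conj_of_rank_small (hK : Fintype.card K = q ^ 2)
    (hD : Cfsg.Geo.IsMDecomposition m D)
    (hDs : ∀ i, Cfsg.Geo.IsTotallySingularFor (Cfsg.hermForm (m + m) K q) (D i))
    (x : GL (Fin (m + m)) K) (hx : x ∈ Cfsg.GU (m + m) K q)
    (hodd : ¬ Even (x.1 - 1).rank) (hlt : (x.1 - 1).rank < m)
    (g : GL (Fin (m + m)) K) (hg : g ∈ Cfsg.GU (m + m) K q) :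
    g⁻¹ * x * g ∉ Cfsg.Geo.decompositionStabilizer D := by
  intro hmem
  have hy : g⁻¹ * x * g ∈ Cfsg.GU (m + m) K q :=
    (Cfsg.GU (m + m) K q).mul_mem ((Cfsg.GU (m + m) K q).mul_mem
      ((Cfsg.GU (m + m) K q).inv_mem hg) hx) hg
  rcases rank_of_mem_stab hK hD hDs _ hy hmem with h | h
  · rw [rank_conj] at h
    exact hodd h
  · rw [rank_conj] at h
    omega

/-- unitary elements of odd order with `rank (x - 1)` odd have no conjugate in the stabilizer -/
theorem not_conj_of_odd_order (hK : Fintype.card K = q ^ 2)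
    (hD : Cfsg.Geo.IsMDecomposition m D)
    (hDs : ∀ i, Cfsg.Geo.IsTotallySingularFor (Cfsg.hermForm (m + m) K q) (D i))
    (x : GL (Fin (m + m)) K) (hx : x ∈ Cfsg.GU (m + m) K q)
    (r : ℕ) (hr : Odd r) (hxr : x ^ r = 1)
    (hodd : ¬ Even (x.1 - 1).rank)
    (g : GL (Fin (m + m)) K) (hg : g ∈ Cfsg.GU (m + m) K q) :
    g⁻¹ * x * g ∉ Cfsg.Geo.decompositionStabilizer D := by
  intro hmem
  have hy : g⁻¹ * x * g ∈ Cfsg.GU (m + m) K q :=
    (Cfsg.GU (m + m) K q).mul_mem ((Cfsg.GU (m + m) K q).mul_mem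
      ((Cfsg.GU (m + m) K q).inv_mem hg) hx) hg
  have hyr : (g⁻¹ * x * g) ^ r = 1 := by
    have h1 : g⁻¹ * x * g = g⁻¹ * x * g⁻¹⁻¹ := by rw [inv_inv]
    rw [h1, conj_pow, hxr, mul_one, inv_inv, inv_mul_cancel]
  have h := rank_even_of_odd_order hK hD hDs _ hy hmem r hr hyr
  rw [rank_conj] at h
  exact hodd h

/-- the stabilizer is closed under non-zero scalar multiples -/
theorem smul_mem_stab {n t : ℕ} {D' : Fin t → Submodule K (Fin n → K)} (x y : GL (Fin n) K) (ζ : K)
    (hζ : ζ ≠ 0) (hxy : x.1 = ζ • y.1) (hx : x ∈ Cfsg.Geo.decompositionStabilizer D') :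
    y ∈ Cfsg.Geo.decompositionStabilizer D' := by
  obtain ⟨σ, hσ⟩ := hx
  refine ⟨σ, fun i => ?_⟩
  rw [← hσ i, hxy, map_smul, Submodule.map_smul _ _ _ hζ]

/-- scalar multiples of unitary elements `x₀` with `rank (x₀ - 1)` odd and less than `m` have no
conjugate in the stabilizer of a polar pair -/
theorem not_conj_of_smul (hK : Fintype.card K = q ^ 2)
    (hD : Cfsg.Geo.IsMDecomposition m D)
    (hDs : ∀ i, Cfsg.Geo.IsTotallySingularFor (Cfsg.hermForm (m + m) K q) (D i))
    (x x₀ : GL (Fin (m + m)) K) (ζ : K) (hζ : ζ ≠ 0) (hxx₀ : x.1 = ζ • x₀.1)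
    (hx₀ : x₀ ∈ Cfsg.GU (m + m) K q)
    (hodd : ¬ Even (x₀.1 - 1).rank) (hlt : (x₀.1 - 1).rank < m)
    (g : GL (Fin (m + m)) K) (hg : g ∈ Cfsg.GU (m + m) K q) :
    g⁻¹ * x * g ∉ Cfsg.Geo.decompositionStabilizer D := by
  intro hmem
  apply not_conj_of_rank_small hK hD hDs x₀ hx₀ hodd hlt g hg
  apply smul_mem_stab (g⁻¹ * x * g) (g⁻¹ * x₀ * g) ζ hζ _ hmem
  rw [Units.val_mul, Units.val_mul, Units.val_mul, Units.val_mul, hxx₀, Matrix.mul_smul,
    Matrix.smul_mul]

end criteria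


section constructions

open Cfsg.Agent.Lib.Helper5_GUOrder Cfsg.Agent.Lib.Helper5_SUCenter
  Cfsg.Agent.Lib.Helper5_HermCount

theorem eq_zero_of_rank_eq_zero {n : ℕ} (M : Matrix (Fin n) (Fin n) K) (h : M.rank = 0) :
    M = 0 := by
  have h1 : LinearMap.range M.mulVecLin = ⊥ := Submodule.finrank_eq_zero.1 h
  ext i j
  have h2 : M *ᵥ Pi.single j 1 ∈ LinearMap.range M.mulVecLin :=
    ⟨Pi.single j 1, Matrix.mulVecLin_apply _ _⟩
  rw [h1, Submodule.mem_bot] at h2
  have h3 := congrFun h2 i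
  rw [Matrix.mulVec_single_one] at h3
  exact h3

/-- a matrix of the form `1 + N` with `N * N = 0` in characteristic `p` has `p`-th power one -/
theorem one_add_pow_char {n : ℕ} (p : ℕ) [CharP K p] (N : Matrix (Fin n) (Fin n) K)
    (hN : N * N = 0) : (1 + N) ^ p = 1 := by
  have h1 : ∀ k : ℕ, (1 + N) ^ k = 1 + (k : K) • N := by
    intro k
    induction k with
    | zero => simp
    | succ k ih =>
      rw [pow_succ, ih, Matrix.add_mul, Matrix.mul_add, Matrix.mul_add, Matrix.one_mul,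
        Matrix.mul_one, Matrix.one_mul, Matrix.smul_mul, hN, smul_zero, add_zero]
      push_cast
      rw [add_smul, one_smul]
      abel
  rw [h1, CharP.cast_eq_zero, zero_smul, add_zero]

/-- existence of a unitary transvection of determinant one -/
theorem exists_transvection (hK : Fintype.card K = q ^ 2) (p : ℕ) [CharP K p] (k : ℕ) :
    ∃ x : GL (Fin (k + 2)) K, x ∈ Cfsg.GU (k + 2) K q ∧ x.1.det = 1 ∧ x ^ p = 1 ∧
      (x.1 - 1).rank = 1 := by
  have hq0 : q ≠ 0 := by have := two_le_q hK; omega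
  obtain ⟨a, ha0, ha⟩ := exists_trace_zero hK
  obtain ⟨c, hc⟩ := exists_norm_neg_one hK
  let w : Fin (k + 2) → K := Fin.cons 1 (Fin.cons c 0)
  have hw : Cfsg.hermForm (k + 2) K q w w = 0 := by
    show Cfsg.hermForm (k + 1 + 1) K q (Fin.cons 1 (Fin.cons c 0)) (Fin.cons 1 (Fin.cons c 0)) = 0
    rw [hermForm_cons, hermForm_cons, hc]
    have : Cfsg.hermForm k K q (0 : Fin k → K) 0 = 0 := hermForm_zero_left k 0
    rw [this]
    simp
  set T := Cfsg.unitaryTransvection (k + 2) q w a with hT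
  have hU : IsU (k + 2) q T := by
    apply isU_transvection hK
    rw [hw, mul_zero, add_zero]
    exact ha
  have hdet : T.det = 1 := by
    rw [hT, det_unitaryTransvection, hw, mul_zero, add_zero]
  set N : Matrix (Fin (k + 2)) (Fin (k + 2)) K :=
    a • Matrix.vecMulVec w (fun j => (w j) ^ q) with hN
  have hTN : T = 1 + N := rfl
  have hdot : (fun j => (w j) ^ q) ⬝ᵥ w = 0 := by
    rw [← hw]
    unfold Cfsg.hermForm dotProduct
    apply Finset.sum_congr rfl
    intro i _
    ring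
  have hNN : N * N = 0 := by
    rw [hN, Matrix.smul_mul, Matrix.mul_smul, Matrix.vecMulVec_mul_vecMulVec, hdot, zero_smul]
    ext i j
    simp
  have hpow : T ^ p = 1 := by
    rw [hTN]
    exact one_add_pow_char p N hNN
  have hrank : (T - 1).rank = 1 := by
    have h1 : T - 1 = N := by rw [hTN]; abel
    rw [h1]
    apply le_antisymm
    · rw [hN, ← Matrix.smul_vecMulVec]
      exact Matrix.rank_vecMulVec_le _ _
    · rw [Nat.one_le_iff_ne_zero]
      intro h0
      have h2 := eq_zero_of_rank_eq_zero N h0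
      have h3 := congrFun (congrFun h2 0) 0
      rw [hN] at h3
      simp only [Matrix.smul_apply, Matrix.vecMulVec_apply, Matrix.zero_apply, smul_eq_mul] at h3
      have hw0 : w 0 = 1 := rfl
      rw [hw0, one_pow, mul_one, mul_one] at h3
      exact ha0 h3
  refine ⟨(mkGU hq0 T hU).1, (mkGU hq0 T hU).2, hdet, ?_, hrank⟩
  apply Units.ext
  rw [Units.val_pow_eq_pow_val, Units.val_one]
  exact hpow

/-- Gram matrix of a diagonal matrix -/
theorem gram_diagonal (hK : Fintype.card K = q ^ 2) {ι : Type} [Fintype ι] [DecidableEq ι]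
    (d : ι → K) (hd : ∀ i, d i * (d i) ^ q = 1) :
    (Matrix.diagonal d)ᵀ * fr q (Matrix.diagonal d) = 1 := by
  have hq0 : q ≠ 0 := by have := two_le_q hK; omega
  have h1 : fr q (Matrix.diagonal d) = Matrix.diagonal (fun i => d i ^ q) := by
    ext i j
    rw [fr_apply, Matrix.diagonal_apply, Matrix.diagonal_apply]
    split_ifs
    · rfl
    · exact zero_pow hq0
  rw [h1, Matrix.diagonal_transpose, Matrix.diagonal_mul_diagonal]
  have h2 : (fun i => d i * d i ^ q) = fun _ => (1 : K) := funext hd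
  rw [h2, Matrix.diagonal_one]

/-- existence of a scalar multiple of a quasi-reflection of determinant one when
`n_2 < (q + 1)_2` -/
theorem exists_quasi_reflection (hK : Fintype.card K = q ^ 2) (h2 : (2 : K) ≠ 0) (k : ℕ)
    (hv : padicValNat 2 (k + 2) < padicValNat 2 (q + 1)) :
    ∃ (x x₀ : GL (Fin (k + 2)) K) (ζ : K), ζ ≠ 0 ∧ x.1 = ζ • x₀.1 ∧
      x₀ ∈ Cfsg.GU (k + 2) K q ∧ x ∈ Cfsg.GU (k + 2) K q ∧ x.1.det = 1 ∧
      x.1 * x.1 = (ζ * ζ) • (1 : Matrix (Fin (k + 2)) (Fin (k + 2)) K) ∧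
      (x₀.1 - 1).rank = 1 ∧ ∀ z : K, x.1 ≠ z • (1 : Matrix (Fin (k + 2)) (Fin (k + 2)) K) := by
  classical
  have hq2 := two_le_q hK
  have hq0 : q ≠ 0 := by omega
  -- `q` is odd
  have hqodd : Odd q := by
    have hchar := Cfsg.Agent.Lib.Helper43_SubfieldSL.ringChar_ne_two_of_two_ne_zero h2
    have h3 := FiniteField.odd_card_of_char_ne_two hchar
    rw [hK] at h3
    have h4 : Odd (q ^ 2) := Nat.odd_iff.2 h3
    exact Nat.Odd.of_mul_right (by rwa [pow_two] at h4)
  -- the scalar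
  have hcard1 : Fintype.card K - 1 = (q + 1) * (q - 1) := by
    rw [hK]
    exact Cfsg.Agent.Lib.Helper43_GUField.sq_eq q (by omega)
  have hv' : padicValNat 2 ((q - 1) * (k + 2)) < padicValNat 2 (Fintype.card K - 1) := by
    rw [hcard1, padicValNat.mul (by omega) (by omega), padicValNat.mul (by omega) (by omega)]
    omega
  obtain ⟨μ, hμ⟩ := Cfsg.Agent.Lib.Helper43_GSpConj.exists_pow_eq_neg_one h2 ((q - 1) * (k + 2))
    (by have : 0 < (q - 1) * (k + 2) := Nat.mul_pos (by omega) (by omega); omega) hv'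
  have hμ0 : μ ≠ 0 := by
    rintro rfl
    rw [zero_pow (by have : 0 < (q - 1) * (k + 2) := Nat.mul_pos (by omega) (by omega); omega)]
      at hμ
    have : (1 : K) = 0 := by
      have := congrArg (fun t => -t) hμ
      simpa using this.symm
    exact one_ne_zero this
  set ζ := μ ^ (q - 1) with hζ
  have hζn : ζ ^ (k + 2) = -1 := by rw [hζ, ← pow_mul]; exact hμ
  have hζ0 : ζ ≠ 0 := pow_ne_zero _ hμ0
  have hζq : ζ * ζ ^ q = 1 := by
    rw [← pow_succ', hζ, ← pow_mul]
    have : (q - 1) * (q + 1) = Fintype.card K - 1 := by rw [hcard1, mul_comm]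
    rw [this]
    exact FiniteField.pow_card_sub_one_eq_one μ hμ0
  -- the reflection
  let d₀ : Fin (k + 2) → K := Function.update (fun _ => (1 : K)) 0 (-1)
  have hd₀ : ∀ i, d₀ i * (d₀ i) ^ q = 1 := by
    intro i
    by_cases hi : i = 0
    · subst hi
      simp only [d₀, Function.update_self]
      rw [← pow_succ']
      exact Even.neg_one_pow (by
          obtain ⟨t, ht⟩ := hqodd
          exact ⟨t + 1, by omega⟩)
    · simp only [d₀, Function.update_of_ne hi, one_pow, mul_one]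
  have hd₀0 : d₀ 0 = -1 := by simp only [d₀, Function.update_self]
  have hd₀s : ∀ i : Fin (k + 1), d₀ i.succ = 1 := by
    intro i
    simp only [d₀, Function.update_of_ne (Fin.succ_ne_zero i)]
  have hd₀sq : ∀ i, d₀ i * d₀ i = 1 := by
    intro i
    by_cases hi : i = 0
    · subst hi
      rw [hd₀0]
      ring
    · simp only [d₀, Function.update_of_ne hi, mul_one]
  set X₀ : Matrix (Fin (k + 2)) (Fin (k + 2)) K := Matrix.diagonal d₀ with hX₀
  set X : Matrix (Fin (k + 2)) (Fin (k + 2)) K := Matrix.diagonal (fun i => ζ * d₀ i) with hX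
  have hXX₀ : X = ζ • X₀ := by
    rw [hX, hX₀]
    ext i j
    rw [Matrix.smul_apply, Matrix.diagonal_apply, Matrix.diagonal_apply]
    split_ifs <;> simp
  have hU₀ : IsU (k + 2) q X₀ := Cfsg.Agent.Lib.Helper5_SUOrder.isU_diagonal d₀ hd₀
  have hU : IsU (k + 2) q X := by
    apply Cfsg.Agent.Lib.Helper5_SUOrder.isU_diagonal
    intro i
    rw [mul_pow]
    calc ζ * d₀ i * (ζ ^ q * d₀ i ^ q) = (ζ * ζ ^ q) * (d₀ i * d₀ i ^ q) := by ring
      _ = 1 := by rw [hζq, hd₀ i, one_mul]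
  have hdet : X.det = 1 := by
    rw [hX, Matrix.det_diagonal, Finset.prod_mul_distrib, Finset.prod_const, Finset.card_univ,
      Fintype.card_fin, hζn, Fin.prod_univ_succ, hd₀0]
    simp only [hd₀s, Finset.prod_const_one]
    ring
  have hsq : X * X = (ζ * ζ) • (1 : Matrix (Fin (k + 2)) (Fin (k + 2)) K) := by
    rw [hX, Matrix.diagonal_mul_diagonal]
    ext i j
    rw [Matrix.smul_apply, Matrix.diagonal_apply, Matrix.one_apply]
    split_ifs
    · rw [smul_eq_mul, mul_one]
      calc ζ * d₀ i * (ζ * d₀ i) = (ζ * ζ) * (d₀ i * d₀ i) := by ring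
        _ = ζ * ζ := by rw [hd₀sq, mul_one]
    · simp
  have hrank : (X₀ - 1).rank = 1 := by
    have h1 : X₀ - 1 = Matrix.diagonal (fun i => d₀ i - 1) := by
      rw [hX₀]
      ext i j
      rw [Matrix.sub_apply, Matrix.diagonal_apply, Matrix.diagonal_apply, Matrix.one_apply]
      split_ifs <;> simp
    rw [h1, Matrix.rank_diagonal, Fintype.card_eq_one_iff]
    have h20 : d₀ 0 - 1 ≠ 0 := by
      rw [hd₀0]
      intro h
      apply h2
      have : (2 : K) = -(-1 - 1) := by ring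
      rw [this, h, neg_zero]
    refine ⟨⟨0, h20⟩, ?_⟩
    rintro ⟨i, hi⟩
    apply Subtype.ext
    show i = 0
    by_contra hne
    apply hi
    simp only [d₀, Function.update_of_ne hne, sub_self]
  have hns : ∀ z : K, X ≠ z • (1 : Matrix (Fin (k + 2)) (Fin (k + 2)) K) := by
    intro z hz
    have h0 := congrFun (congrFun hz 0) 0
    have h1 := congrFun (congrFun hz 1) 1
    rw [hX] at h0 h1
    rw [Matrix.diagonal_apply_eq, Matrix.smul_apply, Matrix.one_apply_eq, smul_eq_mul, mul_one]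
      at h0 h1
    have hd1 : d₀ 1 = 1 := hd₀s 0
    rw [hd₀0] at h0
    rw [hd1] at h1
    have h3 : (2 : K) * ζ = 0 := by
      have : ζ * -1 = ζ * 1 := by rw [h0, h1]
      linear_combination -this
    rcases mul_eq_zero.1 h3 with h | h
    · exact h2 h
    · exact hζ0 h
  refine ⟨(mkGU hq0 X hU).1, (mkGU hq0 X₀ hU₀).1, ζ, hζ0, hXX₀, (mkGU hq0 X₀ hU₀).2,
    (mkGU hq0 X hU).2, hdet, hsq, hrank, hns⟩

/-- extending a unitary block of odd size with `rank (y - 1)` maximal -/
theorem exists_of_block (hK : Fintype.card K = q ^ 2) (n b : ℕ) (hb : Odd b) (hbn : b < n)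
    (r : ℕ) (y : Matrix (Fin b) (Fin b) K) (hy : yᵀ * fr q y = 1) (hdet : y.det = 1)
    (hyr : y ^ r = 1) (hrank : (y - 1).rank = b) :
    ∃ x : GL (Fin n) K, x ∈ Cfsg.GU n K q ∧ x.1.det = 1 ∧ x ^ r = 1 ∧
      ¬ Even (x.1 - 1).rank ∧ ∀ z : K, x.1 ≠ z • (1 : Matrix (Fin n) (Fin n) K) := by
  have hq0 : q ≠ 0 := by have := two_le_q hK; omega
  let e : Fin b ⊕ Fin (n - b) ≃ Fin n :=
    finSumFinEquiv.trans (finCongr (by omega : b + (n - b) = n))
  set X : Matrix (Fin n) (Fin n) K := extM e y with hX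
  have hG : Xᵀ * fr q X = 1 := extM_gram hK e y hy
  have hU : IsU n q X := preserves_of_gram hK X hG
  have hXrank : (X - 1).rank = b := by rw [hX, rank_extM_sub_one, hrank]
  refine ⟨(mkGU hq0 X hU).1, (mkGU hq0 X hU).2, ?_, ?_, ?_, ?_⟩
  · show X.det = 1
    rw [hX, det_extM, hdet]
  · apply Units.ext
    rw [Units.val_pow_eq_pow_val, Units.val_one]
    show X ^ r = 1
    rw [hX, ← extM_pow, hyr, extM_one]
  · show ¬ Even (X - 1).rank
    rw [hXrank, Nat.not_even_iff_odd]
    exact hb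
  · intro z hz
    have hz' : X = z • (1 : Matrix (Fin n) (Fin n) K) := hz
    have h1 : X - 1 = (z - 1) • (1 : Matrix (Fin n) (Fin n) K) := by
      rw [hz', sub_smul, one_smul]
    rw [h1] at hXrank
    by_cases hz1 : z = 1
    · rw [hz1, sub_self, zero_smul, Matrix.rank_zero] at hXrank
      obtain ⟨t, ht⟩ := hb
      omega
    · have hunit : IsUnit ((z - 1) • (1 : Matrix (Fin n) (Fin n) K)) := by
        rw [Matrix.isUnit_iff_isUnit_det, Matrix.det_smul, Matrix.det_one, mul_one]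
        exact (isUnit_iff_ne_zero.2 (sub_ne_zero.2 hz1)).pow _
      rw [Matrix.rank_of_isUnit _ hunit, Fintype.card_fin] at hXrank
      omega

/-- the diagonal block for primes dividing `q + 1` -/
theorem exists_block_three (hK : Fintype.card K = q ^ 2) (r : ℕ) (hr : r.Prime) (hr2 : r ≠ 2)
    (hdvd : r ∣ q + 1) :
    ∃ y : Matrix (Fin 3) (Fin 3) K, yᵀ * fr q y = 1 ∧ y.det = 1 ∧ y ^ r = 1 ∧
      (y - 1).rank = 3 := by
  classical
  have : Fact r.Prime := ⟨hr⟩
  have hq2 := two_le_q hK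
  have hcardU : Nat.card Kˣ = (q + 1) * (q - 1) := by
    rw [Nat.card_units, Nat.card_eq_fintype_card, hK,
      Cfsg.Agent.Lib.Helper43_GUField.sq_eq q (by omega)]
  obtain ⟨u, hu⟩ := exists_prime_orderOf_dvd_card' (G := Kˣ) r
    (by rw [hcardU]; exact Dvd.dvd.mul_right hdvd _)
  set l : K := (u : K) with hl
  have hl0 : l ≠ 0 := u.ne_zero
  have hlr : l ^ r = 1 := by
    have := pow_orderOf_eq_one u
    rw [hu] at this
    have h2 := congrArg Units.val this
    rwa [Units.val_pow_eq_pow_val, Units.val_one] at h2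
  have hl1 : l ≠ 1 := by
    intro h
    have : u = 1 := Units.ext h
    rw [this, orderOf_one] at hu
    exact hr.one_lt.ne hu
  have hlq : l ^ (q + 1) = 1 := by
    have h1 : u ^ (q + 1) = 1 := by
      rw [← orderOf_dvd_iff_pow_eq_one, hu]
      exact hdvd
    have h2 := congrArg Units.val h1
    rwa [Units.val_pow_eq_pow_val, Units.val_one] at h2
  have hll0 : l * l ≠ 0 := mul_ne_zero hl0 hl0
  have hll1 : l * l ≠ 1 := by
    intro h
    apply hl1
    obtain ⟨t, ht⟩ := hr.odd_of_ne_two hr2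
    have h3 : l ^ r = l := by
      rw [ht, pow_succ, pow_mul, pow_two, h, one_pow, one_mul]
    rw [← h3, hlr]
  let d : Fin 3 → K := ![l, l, (l * l)⁻¹]
  have hdq : ∀ i, d i * (d i) ^ q = 1 := by
    intro i
    fin_cases i
    · show l * l ^ q = 1
      rw [← pow_succ', hlq]
    · show l * l ^ q = 1
      rw [← pow_succ', hlq]
    · show (l * l)⁻¹ * ((l * l)⁻¹) ^ q = 1
      rw [← pow_succ', inv_pow, mul_pow, hlq, mul_one, inv_one]
  have hdr : ∀ i, d i ^ r = 1 := by
    intro i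
    fin_cases i
    · exact hlr
    · exact hlr
    · show ((l * l)⁻¹) ^ r = 1
      rw [inv_pow, mul_pow, hlr, mul_one, inv_one]
  have hd1 : ∀ i, d i - 1 ≠ 0 := by
    intro i
    fin_cases i
    · exact sub_ne_zero.2 hl1
    · exact sub_ne_zero.2 hl1
    · show (l * l)⁻¹ - 1 ≠ 0
      rw [sub_ne_zero]
      intro h
      apply hll1
      rw [inv_eq_one] at h
      exact h
  refine ⟨Matrix.diagonal d, gram_diagonal hK d hdq, ?_, ?_, ?_⟩
  · rw [Matrix.det_diagonal, Fin.prod_univ_three]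
    show l * l * (l * l)⁻¹ = 1
    exact mul_inv_cancel₀ hll0
  · rw [Matrix.diagonal_pow]
    have : d ^ r = fun _ => (1 : K) := funext hdr
    rw [this, Matrix.diagonal_one]
  · have h1 : Matrix.diagonal d - 1 = Matrix.diagonal (fun i => d i - 1) := by
      ext i j
      rw [Matrix.sub_apply, Matrix.diagonal_apply, Matrix.diagonal_apply, Matrix.one_apply]
      split_ifs <;> simp
    rw [h1]
    have hunit : IsUnit (Matrix.diagonal (fun i => d i - 1)) := by
      rw [Matrix.isUnit_iff_isUnit_det, Matrix.det_diagonal, isUnit_iff_ne_zero]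
      exact Finset.prod_ne_zero_iff.2 (fun i _ => hd1 i)
    rw [Matrix.rank_of_isUnit _ hunit, Fintype.card_fin]

/-- the irreducible block for primes dividing `q ^ (2 j + 1) + 1` but not `q + 1` -/
theorem exists_block_cauchy (hK : Fintype.card K = q ^ 2) (p : ℕ) [Fact p.Prime] [CharP K p]
    (r : ℕ) (hr : r.Prime) (hr2 : r ≠ 2) (hrp : r ≠ p) (j : ℕ)
    (hdvd : r ∣ q ^ (2 * j + 1) + 1) (hnd : ¬ r ∣ q + 1) :
    ∃ (a : ℕ) (y : Matrix (Fin a) (Fin a) K), Odd a ∧ a ≤ 2 * j + 1 ∧ yᵀ * fr q y = 1 ∧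
      y.det = 1 ∧ y ^ r = 1 ∧ (y - 1).rank = a := by
  classical
  have : Fact r.Prime := ⟨hr⟩
  have hq2 := two_le_q hK
  set c : ZMod r := (q : ZMod r) with hc
  have hcj : c ^ (2 * j + 1) = -1 := by
    have h1 : ((q ^ (2 * j + 1) + 1 : ℕ) : ZMod r) = 0 := (ZMod.natCast_eq_zero_iff _ _).2 hdvd
    push_cast at h1
    exact eq_neg_of_add_eq_zero_left h1
  have hone : (1 : ZMod r) ≠ -1 := by
    intro h
    have h2 : ((2 : ℕ) : ZMod r) = 0 := by
      push_cast
      have : (2 : ZMod r) = 1 + 1 := by norm_num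
      rw [this]
      nth_rewrite 1 [h]
      exact neg_add_cancel 1
    rw [ZMod.natCast_eq_zero_iff] at h2
    exact hr2 ((Nat.prime_dvd_prime_iff_eq hr Nat.prime_two).1 h2)
  set a := orderOf ((Fintype.card K : ℕ) : ZMod r) with ha
  have hcard : ((Fintype.card K : ℕ) : ZMod r) = c ^ 2 := by
    rw [hK]
    push_cast
    rfl
  have ha_dvd : a ∣ 2 * j + 1 := by
    apply orderOf_dvd_of_pow_eq_one
    rw [hcard, ← pow_mul, mul_comm, pow_mul, hcj]
    norm_num
  have ha_odd : Odd a := by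
    have h1 : Odd (2 * j + 1) := ⟨j, rfl⟩
    exact Odd.of_dvd_nat h1 ha_dvd
  have ha_le : a ≤ 2 * j + 1 := Nat.le_of_dvd (by omega) ha_dvd
  have hca : c ^ a = -1 := by
    have h1 : (c ^ a) * (c ^ a) = 1 := by
      rw [← pow_add, ← two_mul, pow_mul, ← hcard]
      exact pow_orderOf_eq_one _
    rcases mul_self_eq_one_iff.1 h1 with h | h
    · exfalso
      obtain ⟨t, ht⟩ := ha_dvd
      rw [ht, pow_mul, h, one_pow] at hcj
      exact hone hcj
    · exact h
  have ha1 : a ≠ 1 := by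
    intro h
    rw [h, pow_one] at hca
    apply hnd
    rw [← ZMod.natCast_eq_zero_iff]
    push_cast
    rw [← hc, hca]
    exact neg_add_cancel 1
  have ha3 : 3 ≤ a := by
    obtain ⟨t, ht⟩ := ha_odd
    omega
  have hr_dvd : r ∣ q ^ a + 1 := by
    rw [← ZMod.natCast_eq_zero_iff]
    push_cast
    rw [← hc, hca]
    exact neg_add_cancel 1
  have hcardGU : r ∣ Nat.card (Cfsg.GU a K q) := by
    rw [Cfsg.Agent.Lib.Helper5_GUOrder.card_GU hK a]
    apply Dvd.dvd.mul_left
    have hmem : a - 1 ∈ Finset.range a := Finset.mem_range.2 (by omega)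
    refine Dvd.dvd.trans ?_ (Finset.dvd_prod_of_mem _ hmem)
    have hev : Even (a - 1) := by
      obtain ⟨t, ht⟩ := ha_odd
      exact ⟨t, by omega⟩
    rw [if_pos hev, Nat.sub_add_cancel (by omega)]
    exact hr_dvd
  obtain ⟨Y, hY⟩ := exists_prime_orderOf_dvd_card' (G := Cfsg.GU a K q) r hcardGU
  set y : Matrix (Fin a) (Fin a) K := ((Y : GL (Fin a) K) : Matrix (Fin a) (Fin a) K) with hy
  have hyr : y ^ r = 1 := by
    have h1 : Y ^ r = 1 := by rw [← hY]; exact pow_orderOf_eq_one Y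
    have h2 : ((Y ^ r : Cfsg.GU a K q) : GL (Fin a) K) = 1 := by rw [h1]; rfl
    have h3 := congrArg (fun g : GL (Fin a) K => (g : Matrix (Fin a) (Fin a) K)) h2
    simpa using h3
  have hy1 : y ≠ 1 := by
    intro h
    have h1 : Y = 1 := by
      apply Subtype.ext
      apply Units.ext
      exact h
    rw [h1, orderOf_one] at hY
    exact hr.one_lt.ne hY
  have hgram : yᵀ * fr q y = 1 := (mem_GU_iff_gram hK Y.1).1 Y.2
  have hU : IsU a q y := (mem_GU_iff Y.1).1 Y.2
  have hdet : y.det = 1 := by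
    have h1 : y.det * y.det ^ q = 1 :=
      Cfsg.Agent.Lib.Helper5_SUOrder.det_mul_det_pow_of_isU hK hU
    have h2 : y.det ^ (q + 1) = 1 := by rw [pow_succ']; exact h1
    have h3 : y.det ^ r = 1 := by rw [← Matrix.det_pow, hyr, Matrix.det_one]
    have h4 : orderOf y.det ∣ Nat.gcd (q + 1) r :=
      Nat.dvd_gcd (orderOf_dvd_of_pow_eq_one h2) (orderOf_dvd_of_pow_eq_one h3)
    have h5 : Nat.gcd (q + 1) r = 1 := by
      rw [Nat.gcd_comm]
      exact (Nat.Prime.coprime_iff_not_dvd hr).2 hnd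
    rw [h5, Nat.dvd_one, orderOf_eq_one_iff] at h4
    exact h4
  -- the rank
  set T : Module.End K (Fin a → K) := Matrix.toLin' y with hT
  have hTr : T ^ r = 1 := Cfsg.Agent.Lib.Helper99_PrimeOrderSL.toLin'_pow_eq_one y hyr
  have H := Cfsg.Agent.Lib.Helper99_PrimeOrderSL.hasBlocks_of_pow_eq_one (p := p) T hr hrp hTr
  have hss := Cfsg.Agent.Lib.Helper99_PrimeOrderSL.isSemisimple_of_pow_eq_one T r
    (Cfsg.Agent.Lib.Helper99_PrimeOrderSL.natCast_ne_zero (p := p) hr hrp) hTr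
  have hfix : ∀ v ∈ Module.End.eigenspace T 1, T v = v := by
    intro v hv
    rw [Module.End.mem_eigenspace_iff, one_smul] at hv
    exact hv
  obtain ⟨s, hs⟩ := Cfsg.Agent.Lib.Helper99_InvSub.finrank_eq_add_mul hss (by omega) H
    (Cfsg.Agent.Lib.Helper99_InvSub.invt_of_fix hfix)
  rw [Module.finrank_fin_fun, ← ha] at hs
  have hrk : (y - 1).rank + finrank K (Module.End.eigenspace T 1) = a := by
    have h1 := LinearMap.finrank_range_add_finrank_ker (T - 1)
    rw [Module.finrank_fin_fun] at h1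
    have h2 : (y - 1).rank = finrank K (LinearMap.range (T - 1)) := by
      have : (y - 1).mulVecLin = T - 1 := by
        rw [← Matrix.toLin'_apply', map_sub, Matrix.toLin'_one]
        rfl
      unfold Matrix.rank
      rw [this]
    have h3 : Module.End.eigenspace T 1 = LinearMap.ker (T - 1) := by
      rw [Module.End.eigenspace_def, one_smul]
    rw [h2, h3]
    exact h1
  have hs1 : finrank K (Module.End.eigenspace T 1) ≠ a := by
    intro h
    apply hy1
    have h1 : Module.End.eigenspace T 1 = ⊤ := by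
      apply Submodule.eq_top_of_finrank_eq
      rw [h, Module.finrank_fin_fun]
    have h2 : T = LinearMap.id := by
      apply LinearMap.ext
      intro w
      have hw : w ∈ Module.End.eigenspace T 1 := by rw [h1]; trivial
      rw [hfix w hw, LinearMap.id_apply]
    apply Matrix.toLin'.injective
    rw [← hT, h2, Matrix.toLin'_one]
  have hE0 : finrank K (Module.End.eigenspace T 1) = 0 := by
    rcases Nat.eq_zero_or_pos s with h0 | hpos
    · rw [h0, mul_zero, add_zero] at hs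
      exact absurd hs.symm hs1
    · have : a * 1 ≤ a * s := Nat.mul_le_mul_left a hpos
      omega
  refine ⟨a, y, ha_odd, ha_le, hgram, hdet, hyr, ?_⟩
  omega

/-- a matrix `x` with `0 < rank (x - 1) < n` is not scalar -/
theorem not_scalar_of_rank {n : ℕ} (X : Matrix (Fin n) (Fin n) K) (b : ℕ)
    (hXrank : (X - 1).rank = b) (hb0 : 0 < b) (hbn : b < n) (z : K) :
    X ≠ z • (1 : Matrix (Fin n) (Fin n) K) := by
  intro hz'
  have h1 : X - 1 = (z - 1) • (1 : Matrix (Fin n) (Fin n) K) := by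
    rw [hz', sub_smul, one_smul]
  rw [h1] at hXrank
  by_cases hz1 : z = 1
  · rw [hz1, sub_self, zero_smul, Matrix.rank_zero] at hXrank
    omega
  · have hunit : IsUnit ((z - 1) • (1 : Matrix (Fin n) (Fin n) K)) := by
      rw [Matrix.isUnit_iff_isUnit_det, Matrix.det_smul, Matrix.det_one, mul_one]
      exact (isUnit_iff_ne_zero.2 (sub_ne_zero.2 hz1)).pow _
    rw [Matrix.rank_of_isUnit _ hunit, Fintype.card_fin] at hXrank
    omega

/-- general `n` version of `exists_transvection` -/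
theorem exists_transvection' (hK : Fintype.card K = q ^ 2) (p : ℕ) [CharP K p] (n : ℕ)
    (hn : 3 ≤ n) :
    ∃ x : GL (Fin n) K, x ∈ Cfsg.GU n K q ∧ x.1.det = 1 ∧ x ^ p = 1 ∧
      (x.1 - 1).rank = 1 ∧ ∀ z : K, x.1 ≠ z • (1 : Matrix (Fin n) (Fin n) K) := by
  obtain ⟨k, rfl⟩ : ∃ k, n = k + 2 := ⟨n - 2, by omega⟩
  obtain ⟨x, h1, h2, h3, h4⟩ := exists_transvection hK p k
  exact ⟨x, h1, h2, h3, h4, not_scalar_of_rank x.1 1 h4 (by omega) (by omega)⟩

/-- general `n` version of `exists_quasi_reflection` -/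
theorem exists_quasi_reflection' (hK : Fintype.card K = q ^ 2) (h2 : (2 : K) ≠ 0) (n : ℕ)
    (hn : 2 ≤ n) (hv : padicValNat 2 n < padicValNat 2 (q + 1)) :
    ∃ (x x₀ : GL (Fin n) K) (ζ : K), ζ ≠ 0 ∧ x.1 = ζ • x₀.1 ∧
      x₀ ∈ Cfsg.GU n K q ∧ x ∈ Cfsg.GU n K q ∧ x.1.det = 1 ∧
      x.1 * x.1 = (ζ * ζ) • (1 : Matrix (Fin n) (Fin n) K) ∧
      (x₀.1 - 1).rank = 1 ∧ ∀ z : K, x.1 ≠ z • (1 : Matrix (Fin n) (Fin n) K) := by
  obtain ⟨k, rfl⟩ : ∃ k, n = k + 2 := ⟨n - 2, by omega⟩
  exact exists_quasi_reflection hK h2 k hv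

/-- existence of elements of odd order `r` of `SU_n(q)` with `rank (x - 1)` odd -/
theorem exists_odd_rank (hK : Fintype.card K = q ^ 2) (p : ℕ) [Fact p.Prime] [CharP K p]
    (r : ℕ) (hr : r.Prime) (hr2 : r ≠ 2) (hrp : r ≠ p) (j n : ℕ) (hjn : 2 * j + 1 < n)
    (hn : 4 ≤ n) (hdvd : r ∣ q ^ (2 * j + 1) + 1) :
    ∃ x : GL (Fin n) K, x ∈ Cfsg.GU n K q ∧ x.1.det = 1 ∧ x ^ r = 1 ∧
      ¬ Even (x.1 - 1).rank ∧ ∀ z : K, x.1 ≠ z • (1 : Matrix (Fin n) (Fin n) K) := by
  by_cases hq1 : r ∣ q + 1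
  · obtain ⟨y, hy1, hy2, hy3, hy4⟩ := exists_block_three hK r hr hr2 hq1
    exact exists_of_block hK n 3 ⟨1, rfl⟩ (by omega) r y hy1 hy2 hy3 hy4
  · obtain ⟨a, y, ha, hale, hy1, hy2, hy3, hy4⟩ :=
      exists_block_cauchy hK p r hr hr2 hrp j hdvd hq1
    exact exists_of_block hK n a ha (by omega) r y hy1 hy2 hy3 hy4

end constructions

end Cfsg.Agent.Lib.Helper43_PolarPair4
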