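import Mathlib
import Cfsg.Agent.Lib.Helper43_Kron1
import Cfsg.Agent.Lib.Helper43_PolarPair4

set_option autoImplicit false
set_option linter.unusedSectionVars false

/-!
# Derangements for the stabilizer of a tensor decomposition `GL_a ⊗ GL_b` (helper43)
-/

namespace Cfsg.Agent.Lib.Helper43_Kron2

open Matrix Module Cfsg.Agent.Lib.Helper43_Kron1 Cfsg.Agent.Lib.Helper43_PolarPair4
open scoped Kronecker MatrixGroups

variable {F : Type*} [Field F] {a b n : ℕ}

section sim

variable {ι : Type} [Fintype ι] [DecidableEq ι]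

/-- similar matrices (through a rectangular change of index type) have the same rank -/
theorem rank_eq_of_sim (A : Matrix (Fin n) (Fin n) F) (B : Matrix ι ι F)
    (S : Matrix (Fin n) ι F) (S' : Matrix ι (Fin n) F) (hSS' : S * S' = 1) (hS'S : S' * S = 1)
    (h : A * S = S * B) : A.rank = B.rank := by
  have hA : A = S * (B * S') := by
    calc A = A * (S * S') := by rw [hSS', Matrix.mul_one]
      _ = (A * S) * S' := by rw [Matrix.mul_assoc]
      _ = S * (B * S') := by rw [h, Matrix.mul_assoc]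
  have hB : B = S' * (A * S) := by
    calc B = (S' * S) * B := by rw [hS'S, Matrix.one_mul]
      _ = S' * (S * B) := by rw [Matrix.mul_assoc]
      _ = S' * (A * S) := by rw [h]
  apply le_antisymm
  · calc A.rank = (S * (B * S')).rank := by rw [← hA]
      _ ≤ (B * S').rank := Matrix.rank_mul_le_right _ _
      _ ≤ B.rank := Matrix.rank_mul_le_left _ _
  · calc B.rank = (S' * (A * S)).rank := by rw [← hB]
      _ ≤ (A * S).rank := Matrix.rank_mul_le_right _ _
      _ ≤ A.rank := Matrix.rank_mul_le_left _ _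

theorem sub_smul_of_sim (A : Matrix (Fin n) (Fin n) F) (B : Matrix ι ι F)
    (S : Matrix (Fin n) ι F) (h : A * S = S * B) (l : F) :
    (A - l • (1 : Matrix (Fin n) (Fin n) F)) * S = S * (B - l • (1 : Matrix ι ι F)) := by
  rw [Matrix.sub_mul, Matrix.mul_sub, h, Matrix.smul_mul, Matrix.mul_smul, Matrix.one_mul,
    Matrix.mul_one]

theorem pow_of_sim (A : Matrix (Fin n) (Fin n) F) (B : Matrix ι ι F)
    (S : Matrix (Fin n) ι F) (h : A * S = S * B) (k : ℕ) : A ^ k * S = S * B ^ k := by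
  induction k with
  | zero => rw [pow_zero, pow_zero, Matrix.one_mul, Matrix.mul_one]
  | succ k ih =>
    rw [pow_succ, pow_succ, Matrix.mul_assoc, h, ← Matrix.mul_assoc, ih, Matrix.mul_assoc]

theorem pow_eq_one_of_sim (A : Matrix (Fin n) (Fin n) F) (B : Matrix ι ι F)
    (S : Matrix (Fin n) ι F) (S' : Matrix ι (Fin n) F) (hS'S : S' * S = 1)
    (h : A * S = S * B) (k : ℕ) (hA : A ^ k = 1) : B ^ k = 1 := by
  have h1 := pow_of_sim A B S h k
  rw [hA, Matrix.one_mul] at h1
  calc B ^ k = (S' * S) * B ^ k := by rw [hS'S, Matrix.one_mul]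
    _ = S' * (S * B ^ k) := by rw [Matrix.mul_assoc]
    _ = 1 := by rw [← h1, hS'S]

theorem smul_sim (A : Matrix (Fin n) (Fin n) F) (B : Matrix ι ι F)
    (S : Matrix (Fin n) ι F) (h : A * S = S * B) (c : F) : (c • A) * S = S * (c • B) := by
  rw [Matrix.smul_mul, Matrix.mul_smul, h]

end sim

theorem GL_mulVec_eq_zero (x : GL (Fin b) F) (w : Fin b → F) (h : x.1 *ᵥ w = 0) : w = 0 := by
  have h1 : (x⁻¹).1 *ᵥ (x.1 *ᵥ w) = w := by
    rw [Matrix.mulVec_mulVec, ← Units.val_mul, inv_mul_cancel, Units.val_one, Matrix.one_mulVec]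
  rw [← h1, h, Matrix.mulVec_zero]

/-- **Derangement criterion 1**: a scalar multiple of `x₀` with `rank (x₀ - 1) < b` and some
`rank (x₀ - l)` not divisible by `a` has no conjugate in the stabilizer of the tensor
decomposition -/
theorem not_conj_of_rank (e : Fin n ≃ Fin a × Fin b) (P x g : GL (Fin n) F)
    (x₀ : Matrix (Fin n) (Fin n) F) (μ : F) (hμ : μ ≠ 0) (hxx₀ : x.1 = μ • x₀)
    (hlt : (x₀ - 1).rank < b) (l : F)
    (hl : ¬ a ∣ (x₀ - l • (1 : Matrix (Fin n) (Fin n) F)).rank) :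
    g⁻¹ * x * g ∉ Cfsg.Geo.tensorProductSubgroup a b e P := by
  intro hmem
  obtain ⟨x₁, x₂, S, S', hSS', hS'S, hxS⟩ := exists_kron_of_conj_mem e P x g hmem
  -- `x₀` is similar to `(μ⁻¹ x₁) ⊗ x₂`
  set M₁ : Matrix (Fin a) (Fin a) F := μ⁻¹ • x₁.1 with hM₁
  have hx₀ : x₀ = μ⁻¹ • x.1 := by rw [hxx₀, smul_smul, inv_mul_cancel₀ hμ, one_smul]
  have hsim : x₀ * S = S * (M₁ ⊗ₖ x₂.1) := by
    rw [hx₀, hM₁, Matrix.smul_kronecker]
    exact smul_sim _ _ S hxS _
  -- `M₁` is scalar
  have hM₁s : ∃ α : F, M₁ = α • (1 : Matrix (Fin a) (Fin a) F) := by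
    by_contra hcon
    push Not at hcon
    have h1 := le_rank_kron_sub M₁ x₂.1 hcon (GL_mulVec_eq_zero x₂) 1
    have h2 := rank_eq_of_sim _ _ S S' hSS' hS'S (sub_smul_of_sim _ _ S hsim 1)
    rw [one_smul] at h2
    rw [← h2] at h1
    omega
  obtain ⟨α, hα⟩ := hM₁s
  rw [hα, smul_one_kron] at hsim
  have h3 := rank_eq_of_sim _ _ S S' hSS' hS'S (sub_smul_of_sim _ _ S hsim l)
  rw [one_kron_sub, rank_one_kron] at h3
  exact hl ⟨_, h3⟩

section block

variable [Fintype F] {p : ℕ} [Fact p.Prime] [CharP F p]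

/-- for `y ^ r = 1`, `r ≠ p` prime, the rank of `y - 1` is a multiple of the order of `q` mod `r` -/
theorem rank_sub_one_eq_mul {k : ℕ} (y : Matrix (Fin k) (Fin k) F) {r : ℕ} (hr : r.Prime)
    (hrp : r ≠ p) (he1 : 1 ≤ orderOf ((Fintype.card F : ℕ) : ZMod r)) (hy : y ^ r = 1) :
    ∃ s : ℕ, (y - 1).rank = orderOf ((Fintype.card F : ℕ) : ZMod r) * s := by
  set T : Module.End F (Fin k → F) := Matrix.toLin' y with hT
  have hTr : T ^ r = 1 := Cfsg.Agent.Lib.Helper99_PrimeOrderSL.toLin'_pow_eq_one y hy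
  have H := Cfsg.Agent.Lib.Helper99_PrimeOrderSL.hasBlocks_of_pow_eq_one (p := p) T hr hrp hTr
  have hss := Cfsg.Agent.Lib.Helper99_PrimeOrderSL.isSemisimple_of_pow_eq_one T r
    (Cfsg.Agent.Lib.Helper99_PrimeOrderSL.natCast_ne_zero (p := p) hr hrp) hTr
  have hfix : ∀ v ∈ Module.End.eigenspace T 1, T v = v := by
    intro v hv
    rw [Module.End.mem_eigenspace_iff, one_smul] at hv
    exact hv
  obtain ⟨s, hs⟩ := Cfsg.Agent.Lib.Helper99_InvSub.finrank_eq_add_mul hss he1 H
    (Cfsg.Agent.Lib.Helper99_InvSub.invt_of_fix hfix)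
  rw [Module.finrank_fin_fun] at hs
  have hrk : (y - 1).rank + finrank F (Module.End.eigenspace T 1) = k := by
    have h1 := LinearMap.finrank_range_add_finrank_ker (T - 1)
    rw [Module.finrank_fin_fun] at h1
    have h2 : (y - 1).rank = finrank F (LinearMap.range (T - 1)) := by
      have : (y - 1).mulVecLin = T - 1 := by
        rw [← Matrix.toLin'_apply', map_sub, Matrix.toLin'_one]
        rfl
      unfold Matrix.rank
      rw [this]
    have h3 : Module.End.eigenspace T 1 = LinearMap.ker (T - 1) := by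
      rw [Module.End.eigenspace_def, one_smul]
    rw [h2, h3]
    exact h1
  exact ⟨s, by omega⟩

/-- **Derangement criterion 2**: an element of order `r` with `rank (x - 1) = ord_r(q) ≥ 2` has no
conjugate in the stabilizer of the tensor decomposition -/
theorem not_conj_of_block (ha : 2 ≤ a) (hab : a < b) (e : Fin n ≃ Fin a × Fin b)
    (P x g : GL (Fin n) F) {r : ℕ} (hr : r.Prime) (hrp : r ≠ p)
    (he2 : 2 ≤ orderOf ((Fintype.card F : ℕ) : ZMod r)) (hxr : x.1 ^ r = 1)
    (hrank : (x.1 - 1).rank = orderOf ((Fintype.card F : ℕ) : ZMod r)) :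
    g⁻¹ * x * g ∉ Cfsg.Geo.tensorProductSubgroup a b e P := by
  intro hmem
  obtain ⟨x₁, x₂, S, S', hSS', hS'S, hxS⟩ := exists_kron_of_conj_mem e P x g hmem
  set e' := orderOf ((Fintype.card F : ℕ) : ZMod r) with he'
  have hYr : (x₁.1 ⊗ₖ x₂.1) ^ r = 1 := pow_eq_one_of_sim _ _ S S' hS'S hxS r hxr
  have hrankY : (x₁.1 ⊗ₖ x₂.1 - (1 : F) • (1 : Matrix (Fin a × Fin b) (Fin a × Fin b) F)).rank
      = e' := by
    have h2 := rank_eq_of_sim _ _ S S' hSS' hS'S (sub_smul_of_sim _ _ S hxS 1)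
    rw [one_smul] at h2
    rw [← h2, hrank]
  have hrq : ¬ r ∣ Fintype.card F - 1 :=
    Cfsg.Agent.Lib.Helper99_PrimeOrderSL.not_dvd_card_sub_one he2
  -- `x₁` is scalar
  have hx₁s : ∃ α : F, x₁.1 = α • (1 : Matrix (Fin a) (Fin a) F) := by
    by_cases hle : e' ≤ a
    · by_contra hcon
      push Not at hcon
      have h1 := le_rank_kron_sub x₁.1 x₂.1 hcon (GL_mulVec_eq_zero x₂) 1
      rw [hrankY] at h1
      omega
    · push Not at hle
      rw [kron_pow] at hYr
      obtain ⟨μ, hμ0, hμ⟩ := kron_eq_one (by omega) (by omega) _ _ hYr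
      obtain ⟨ν, hν0, hν⟩ := Cfsg.Agent.Lib.Helper99_PrimeOrderSL.exists_pow_eq hr hrq hμ0
      set M : Matrix (Fin a) (Fin a) F := ν⁻¹ • x₁.1 with hM
      have hMr : M ^ r = 1 := by
        rw [hM, smul_pow, hμ, smul_smul, inv_pow, hν, inv_mul_cancel₀ hμ0, one_smul]
      obtain ⟨s, hs⟩ := rank_sub_one_eq_mul (p := p) M hr hrp (by omega) hMr
      rw [← he'] at hs
      have hle' : (M - 1).rank ≤ a := by
        have := Matrix.rank_le_card_width (M - 1)
        rwa [Fintype.card_fin] at this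
      have hs0 : s = 0 := by
        rcases Nat.eq_zero_or_pos s with h | h
        · exact h
        · exfalso
          have : e' * 1 ≤ e' * s := Nat.mul_le_mul_left e' h
          omega
      rw [hs0, mul_zero] at hs
      have hM1 : M - 1 = 0 := Cfsg.Agent.Lib.Helper43_PolarPair4.eq_zero_of_rank_eq_zero _ hs
      refine ⟨ν, ?_⟩
      have hM1' : M = 1 := sub_eq_zero.1 hM1
      calc x₁.1 = ν • M := by rw [hM, smul_smul, mul_inv_cancel₀ hν0, one_smul]
        _ = ν • 1 := by rw [hM1']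
  obtain ⟨α, hα⟩ := hx₁s
  rw [hα, smul_one_kron] at hYr hrankY
  set M₂ : Matrix (Fin b) (Fin b) F := α • x₂.1 with hM₂
  rw [kron_pow, one_pow] at hYr
  have hM₂r : M₂ ^ r = 1 := one_kron_eq_one (by omega) _ hYr
  rw [one_kron_sub, rank_one_kron, one_smul] at hrankY
  obtain ⟨t, ht⟩ := rank_sub_one_eq_mul (p := p) M₂ hr hrp (by omega) hM₂r
  rw [← he'] at ht
  rw [ht] at hrankY
  -- `a * (e' * t) = e'`
  have h5 : e' * (a * t) = e' * 1 := by rw [mul_one]; nlinarith [hrankY]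
  have h6 : a * t = 1 := Nat.eq_of_mul_eq_mul_left (by omega) h5
  have h7 : a = 1 := Nat.eq_one_of_mul_eq_one_right h6
  omega

end block

section elements

variable [Fintype F] {p : ℕ} [Fact p.Prime] [CharP F p]

/-- the block embedding equivalence -/
def blockEquiv (k n : ℕ) (hk : k ≤ n) : Fin k ⊕ Fin (n - k) ≃ Fin n :=
  finSumFinEquiv.trans (finCongr (by omega))

theorem exists_GL_of_block (k n : ℕ) (hk : k ≤ n) (y : Matrix (Fin k) (Fin k) F)
    (hdet : y.det = 1) : ∃ x : GL (Fin n) F, x.1 = extM (blockEquiv k n hk) y := by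
  have hu : IsUnit (extM (blockEquiv k n hk) y).det := by
    rw [det_extM, hdet]
    exact isUnit_one
  exact ⟨Matrix.nonsingInvUnit _ hu, rfl⟩

/-- a transvection of `SL_n` -/
theorem exists_transvection_sl (hn : 2 ≤ n) :
    ∃ x : GL (Fin n) F, x.1.det = 1 ∧ x.1 ^ p = 1 ∧ (x.1 - 1).rank = 1 := by
  set N : Matrix (Fin 2) (Fin 2) F := !![0, 1; 0, 0] with hN
  have hNN : N * N = 0 := by
    rw [hN]
    ext i j
    fin_cases i <;> fin_cases j <;> simp [Matrix.mul_apply, Fin.sum_univ_two]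
  set y : Matrix (Fin 2) (Fin 2) F := 1 + N with hy
  have hyp : y ^ p = 1 := one_add_pow_char p N hNN
  have hdet : y.det = 1 := by
    rw [hy, hN, Matrix.det_fin_two]
    simp
  have hrank : (y - 1).rank = 1 := by
    have h1 : y - 1 = N := by rw [hy]; abel
    rw [h1]
    apply le_antisymm
    · have h2 : N = Matrix.vecMulVec ![1, 0] ![0, 1] := by
        rw [hN]
        ext i j
        fin_cases i <;> fin_cases j <;> simp [Matrix.vecMulVec_apply]
      rw [h2]
      exact Matrix.rank_vecMulVec_le _ _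
    · rw [Nat.one_le_iff_ne_zero]
      intro h0
      have h3 := eq_zero_of_rank_eq_zero N h0
      have h4 := congrFun (congrFun h3 0) 1
      rw [hN] at h4
      simp at h4
  obtain ⟨x, hx⟩ := exists_GL_of_block 2 n hn y hdet
  refine ⟨x, ?_, ?_, ?_⟩
  · rw [hx, det_extM, hdet]
  · rw [hx, ← extM_pow, hyp, extM_one]
  · rw [hx, rank_extM_sub_one, hrank]

/-- `diag(-1, -1, 1, …, 1)` -/
theorem exists_neg_block (hn : 2 ≤ n) (h2 : (2 : F) ≠ 0) :
    ∃ x : GL (Fin n) F, x.1.det = 1 ∧ x.1 * x.1 = 1 ∧ (x.1 - 1).rank = 2 := by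
  set y : Matrix (Fin 2) (Fin 2) F := -1 with hy
  have hyy : y * y = 1 := by rw [hy]; simp
  have hdet : y.det = 1 := by
    rw [hy, Matrix.det_neg, Matrix.det_one, Fintype.card_fin]
    norm_num
  have hrank : (y - 1).rank = 2 := by
    have h1 : y - 1 = (-2 : F) • (1 : Matrix (Fin 2) (Fin 2) F) := by
      rw [hy, neg_smul, ofNat_smul_eq_nsmul, two_smul]
      abel
    have hunit : IsUnit ((-2 : F) • (1 : Matrix (Fin 2) (Fin 2) F)) := by
      rw [Matrix.isUnit_iff_isUnit_det, Matrix.det_smul, Matrix.det_one, mul_one]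
      exact (isUnit_iff_ne_zero.2 (neg_ne_zero.2 h2)).pow _
    rw [h1, Matrix.rank_of_isUnit _ hunit, Fintype.card_fin]
  obtain ⟨x, hx⟩ := exists_GL_of_block 2 n hn y hdet
  refine ⟨x, ?_, ?_, ?_⟩
  · rw [hx, det_extM, hdet]
  · rw [hx, ← extM_mul, hyy, extM_one]
  · rw [hx, rank_extM_sub_one, hrank]

/-- `ζ • diag(-1, 1, …, 1)` with `ζ ^ n = -1` -/
theorem exists_quasi_refl (hn : 1 ≤ n) (h2 : (2 : F) ≠ 0) (ζ : F) (hζ : ζ ^ n = -1) :
    ∃ (x : GL (Fin n) F) (x₀ : Matrix (Fin n) (Fin n) F), ζ ≠ 0 ∧ x.1 = ζ • x₀ ∧ x.1.det = 1 ∧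
      x.1 * x.1 = (ζ * ζ) • (1 : Matrix (Fin n) (Fin n) F) ∧ (x₀ - 1).rank = 1 := by
  have hζ0 : ζ ≠ 0 := by
    rintro rfl
    rw [zero_pow (by omega)] at hζ
    exact neg_ne_zero.2 one_ne_zero hζ.symm
  set y : Matrix (Fin 1) (Fin 1) F := -1 with hy
  have hyy : y * y = 1 := by rw [hy]; simp
  have hdety : y.det = -1 := by
    rw [hy, Matrix.det_neg, Matrix.det_one, Fintype.card_fin]
    norm_num
  have hrank : (y - 1).rank = 1 := by
    have h1 : y - 1 = (-2 : F) • (1 : Matrix (Fin 1) (Fin 1) F) := by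
      rw [hy, neg_smul, ofNat_smul_eq_nsmul, two_smul]
      abel
    have hunit : IsUnit ((-2 : F) • (1 : Matrix (Fin 1) (Fin 1) F)) := by
      rw [Matrix.isUnit_iff_isUnit_det, Matrix.det_smul, Matrix.det_one, mul_one]
      exact (isUnit_iff_ne_zero.2 (neg_ne_zero.2 h2)).pow _
    rw [h1, Matrix.rank_of_isUnit _ hunit, Fintype.card_fin]
  set x₀ : Matrix (Fin n) (Fin n) F := extM (blockEquiv 1 n hn) y with hx₀
  have hdet : (ζ • x₀).det = 1 := by
    rw [Matrix.det_smul, hx₀, det_extM, hdety, Fintype.card_fin, hζ]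
    norm_num
  have hu : IsUnit (ζ • x₀).det := by rw [hdet]; exact isUnit_one
  refine ⟨Matrix.nonsingInvUnit _ hu, x₀, hζ0, rfl, hdet, ?_, ?_⟩
  · show (ζ • x₀) * (ζ • x₀) = _
    rw [Matrix.smul_mul, Matrix.mul_smul, smul_smul, hx₀, ← extM_mul, hyy, extM_one]
  · rw [hx₀, rank_extM_sub_one, hrank]

/-- rank and fixed space -/
theorem rank_sub_one_add_finrank {k : ℕ} (y : Matrix (Fin k) (Fin k) F) :
    (y - 1).rank + finrank F (Module.End.eigenspace
      (Matrix.toLin' y : Module.End F (Fin k → F)) 1) = k := by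
  set T : Module.End F (Fin k → F) := Matrix.toLin' y with hT
  have h1 := LinearMap.finrank_range_add_finrank_ker (T - 1)
  rw [Module.finrank_fin_fun] at h1
  have h2 : (y - 1).rank = finrank F (LinearMap.range (T - 1)) := by
    have : (y - 1).mulVecLin = T - 1 := by
      rw [← Matrix.toLin'_apply', map_sub, Matrix.toLin'_one]
      rfl
    unfold Matrix.rank
    rw [this]
  have h3 : Module.End.eigenspace T 1 = LinearMap.ker (T - 1) := by
    rw [Module.End.eigenspace_def, one_smul]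
  rw [h2, h3]
  exact h1

/-- an irreducible block of order `r` -/
theorem exists_block_elt {r : ℕ} (hr : r.Prime) (hrp : r ≠ p)
    (he2 : 2 ≤ orderOf ((Fintype.card F : ℕ) : ZMod r))
    (hen : orderOf ((Fintype.card F : ℕ) : ZMod r) ≤ n) :
    ∃ x : GL (Fin n) F, x.1.det = 1 ∧ x.1 ^ r = 1 ∧
      (x.1 - 1).rank = orderOf ((Fintype.card F : ℕ) : ZMod r) := by
  set e' := orderOf ((Fintype.card F : ℕ) : ZMod r) with he'
  obtain ⟨y, hyr, hyfix⟩ :=
    Cfsg.Agent.Lib.Helper99_PrimeOrderSL.exists_extremal (p := p) (F := F) e' hr hrp he2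
  rw [← he', Nat.mod_self] at hyfix
  have hrank : ((y : Matrix (Fin e') (Fin e') F) - 1).rank = e' := by
    have := rank_sub_one_add_finrank (y : Matrix (Fin e') (Fin e') F)
    rw [hyfix, add_zero] at this
    exact this
  obtain ⟨x, hx⟩ := exists_GL_of_block e' n hen (y : Matrix (Fin e') (Fin e') F) y.2
  refine ⟨x, ?_, ?_, ?_⟩
  · rw [hx, det_extM, y.2]
  · rw [hx, ← extM_pow, hyr, extM_one]
  · rw [hx, rank_extM_sub_one, hrank]

/-- `diag(λ, λ⁻¹, 1, …, 1)` -/
theorem exists_diag_pair (hn : 3 ≤ n) (l : F) (hl0 : l ≠ 0) (r : ℕ) (hlr : l ^ r = 1) (hl1 : l ≠ 1)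
    (hl2 : l * l ≠ 1) :
    ∃ x : GL (Fin n) F, x.1.det = 1 ∧ x.1 ^ r = 1 ∧ (x.1 - 1).rank ≤ 2 ∧
      (x.1 - l • (1 : Matrix (Fin n) (Fin n) F)).rank = n - 1 := by
  classical
  let i₀ : Fin n := ⟨0, by omega⟩
  let i₁ : Fin n := ⟨1, by omega⟩
  have hi01 : i₀ ≠ i₁ := by
    intro h
    have := congrArg Fin.val h
    simp [i₀, i₁] at this
  set d : Fin n → F := fun i => if i = i₀ then l else if i = i₁ then l⁻¹ else 1 with hd
  have hd0 : d i₀ = l := by rw [hd]; simp
  have hd1 : d i₁ = l⁻¹ := by rw [hd]; simp [hi01.symm]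
  have hdo : ∀ i, i ≠ i₀ → i ≠ i₁ → d i = 1 := by
    intro i h0 h1
    rw [hd]
    simp [h0, h1]
  have hdet : (Matrix.diagonal d).det = 1 := by
    rw [Matrix.det_diagonal, Finset.prod_eq_mul i₀ i₁ hi01 (fun c _ hc => hdo c hc.1 hc.2)
      (fun h => absurd (Finset.mem_univ _) h) (fun h => absurd (Finset.mem_univ _) h), hd0, hd1]
    exact mul_inv_cancel₀ hl0
  have hu : IsUnit (Matrix.diagonal d).det := by rw [hdet]; exact isUnit_one
  refine ⟨Matrix.nonsingInvUnit _ hu, hdet, ?_, ?_, ?_⟩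
  · show (Matrix.diagonal d) ^ r = 1
    rw [Matrix.diagonal_pow, ← Matrix.diagonal_one]
    congr 1
    funext i
    show d i ^ r = 1
    by_cases h0 : i = i₀
    · rw [h0, hd0, hlr]
    · by_cases h1 : i = i₁
      · rw [h1, hd1, inv_pow, hlr, inv_one]
      · rw [hdo i h0 h1, one_pow]
  · show (Matrix.diagonal d - 1).rank ≤ 2
    have h1 : Matrix.diagonal d - 1 = Matrix.diagonal (fun i => d i - 1) := by
      rw [← Matrix.diagonal_one, ← Matrix.diagonal_sub]
    rw [h1, Matrix.rank_diagonal, Fintype.card_subtype]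
    calc (Finset.univ.filter (fun i => d i - 1 ≠ 0)).card ≤ ({i₀, i₁} : Finset (Fin n)).card := by
          apply Finset.card_le_card
          intro i hi
          rw [Finset.mem_filter] at hi
          rw [Finset.mem_insert, Finset.mem_singleton]
          by_contra hcon
          push Not at hcon
          apply hi.2
          rw [hdo i hcon.1 hcon.2, sub_self]
      _ ≤ 2 := Finset.card_le_two
  · show (Matrix.diagonal d - l • (1 : Matrix (Fin n) (Fin n) F)).rank = n - 1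
    have h1 : Matrix.diagonal d - l • (1 : Matrix (Fin n) (Fin n) F) =
        Matrix.diagonal (fun i => d i - l) := by
      ext i j
      rw [Matrix.sub_apply, Matrix.smul_apply, Matrix.diagonal_apply, Matrix.diagonal_apply,
        Matrix.one_apply]
      split_ifs <;> simp
    rw [h1, Matrix.rank_diagonal]
    have h2 : ∀ i, d i - l ≠ 0 ↔ i ≠ i₀ := by
      intro i
      constructor
      · intro h hi
        apply h
        rw [hi, hd0, sub_self]
      · intro hi h
        rw [sub_eq_zero] at h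
        by_cases h1 : i = i₁
        · rw [h1, hd1] at h
          apply hl2
          calc l * l = l⁻¹ * l := by rw [h]
            _ = 1 := inv_mul_cancel₀ hl0
        · rw [hdo i hi h1] at h
          exact hl1 h.symm
    rw [Fintype.card_congr (Equiv.subtypeEquivRight h2), Fintype.card_subtype_compl,
      Fintype.card_fin, Fintype.card_subtype_eq]

/-- a prime `r ≠ p` dividing `|SL_n(q)|` has `ord_r(q) ≤ n` -/
theorem order_le_of_dvd_card {r : ℕ} (hr : r.Prime) (hrp : r ≠ p)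
    (hdvd : r ∣ Nat.card (Cfsg.Geo.specialLinear (Fin n) F)) :
    1 ≤ orderOf ((Fintype.card F : ℕ) : ZMod r) ∧ orderOf ((Fintype.card F : ℕ) : ZMod r) ≤ n := by
  have : Fact r.Prime := ⟨hr⟩
  have hp : p.Prime := Fact.out
  have h1 : r ∣ Nat.card (GL (Fin n) F) :=
    hdvd.trans (Subgroup.card_subgroup_dvd_card _)
  rw [Matrix.card_GL_field] at h1
  have hrq : ¬ r ∣ Fintype.card F := by
    intro h
    obtain ⟨k, -, hk⟩ := FiniteField.card F p
    rw [hk] at h
    exact hrp ((Nat.prime_dvd_prime_iff_eq hr hp).1 (hr.dvd_of_dvd_pow h))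
  obtain ⟨i, -, hi⟩ := (Prime.dvd_finsetProd_iff hr.prime _).1 h1
  have hin : (i : ℕ) < n := i.2
  have h2 : Fintype.card F ^ n - Fintype.card F ^ (i : ℕ) =
      Fintype.card F ^ (i : ℕ) * (Fintype.card F ^ (n - i) - 1) := by
    rw [Nat.mul_sub, mul_one, ← pow_add, Nat.add_sub_cancel' hin.le]
  rw [h2] at hi
  have h3 : r ∣ Fintype.card F ^ (n - i) - 1 := by
    rcases (Nat.Prime.dvd_mul hr).1 hi with h | h
    · exact absurd (hr.dvd_of_dvd_pow h) hrq
    · exact h
  have hq1 : 1 ≤ Fintype.card F ^ (n - i) := Nat.one_le_pow _ _ Fintype.card_pos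
  have h4 : ((Fintype.card F : ℕ) : ZMod r) ^ (n - i) = 1 := by
    have h5 := (ZMod.natCast_eq_zero_iff _ _).2 h3
    rw [Nat.cast_sub hq1, Nat.cast_one, sub_eq_zero, Nat.cast_pow] at h5
    exact h5
  have h6 : orderOf ((Fintype.card F : ℕ) : ZMod r) ∣ n - i := orderOf_dvd_of_pow_eq_one h4
  have h7 : 0 < n - i := by omega
  have h8 := Nat.le_of_dvd h7 h6
  have h9 : 0 < orderOf ((Fintype.card F : ℕ) : ZMod r) := Nat.pos_of_dvd_of_pos h6 h7
  exact ⟨h9, by omega⟩

end elements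

end Cfsg.Agent.Lib.Helper43_Kron2
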