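import Mathlib
import Cfsg.Agent.Lib.Helper43_PolarPair4
import Cfsg.Agent.Lib.Helper43_SubfieldSL2
import Cfsg.Agent.Lib.Helper43_GUConj

set_option autoImplicit false
set_option linter.unusedSectionVars false

/-!
# Conjugating involutions (modulo scalars) of `SU_{2m}(q)` into the stabilizer of a polar pair
(helper43)
-/

namespace Cfsg.Agent.Lib.Helper43_PolarPair5

open Matrix Module Cfsg.Agent.Lib.Helper13_Herm Cfsg.Agent.Lib.Helper13_HermBridge
  Cfsg.Agent.Lib.Helper43_PolarPair1 Cfsg.Agent.Lib.Helper43_PolarPair2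
  Cfsg.Agent.Lib.Helper43_PolarPair3 Cfsg.Agent.Lib.Helper43_PolarPair4
open scoped MatrixGroups

variable {K : Type*} [Field K] [Fintype K] {q m : ℕ}

section comb

theorem card_fiber_false {α : Type*} [Fintype α] (f : α → Bool) :
    Fintype.card {a // f a = false} = Fintype.card α - Fintype.card {a // f a = true} := by
  have h := Fintype.card_subtype_compl (fun a => f a = true)
  rw [← h]
  apply Fintype.card_congr
  apply Equiv.subtypeEquivRight
  intro a
  simp

theorem card_fiber_add {α : Type*} [Fintype α] (f : α → Bool) :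
    Fintype.card {a // f a = true} + Fintype.card {a // f a = false} = Fintype.card α := by
  rw [card_fiber_false]
  have := Fintype.card_subtype_le (fun a => f a = true)
  omega

/-- two `Bool`-valued functions with the same number of `true` values on equinumerous domains
differ by a bijection -/
theorem exists_equiv_of_count {α β : Type*} [Fintype α] [Fintype β] (f : α → Bool) (g : β → Bool)
    (hcard : Fintype.card α = Fintype.card β)
    (h : Fintype.card {a // f a = true} = Fintype.card {b // g b = true}) :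
    ∃ τ : β ≃ α, ∀ b, f (τ b) = g b := by
  have hfalse : Fintype.card {a // f a = false} = Fintype.card {b // g b = false} := by
    rw [card_fiber_false, card_fiber_false, hcard, h]
  have e : ∀ c : Bool, Nonempty ({b // g b = c} ≃ {a // f a = c}) := by
    intro c
    cases c
    · exact ⟨Fintype.equivOfCardEq hfalse.symm⟩
    · exact ⟨Fintype.equivOfCardEq h.symm⟩
  exact ⟨Equiv.ofFiberEquiv (fun c => (e c).some),
    fun b => Equiv.ofFiberEquiv_map (fun c => (e c).some) b⟩

theorem exists_bool_count (m k : ℕ) (hk : k ≤ m) :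
    ∃ a : Fin m → Bool, Fintype.card {i // a i = true} = k := by
  refine ⟨fun i => decide (i.val < k), ?_⟩
  rw [Fintype.card_subtype]
  simp only [decide_eq_true_eq]
  rw [Fin.card_filter_val_lt]
  exact min_eq_right hk

theorem card_sum_elim_true {α β : Type*} [Fintype α] [Fintype β] (a : α → Bool) (b : β → Bool) :
    Fintype.card {c : α ⊕ β // Sum.elim a b c = true} =
      Fintype.card {i // a i = true} + Fintype.card {i // b i = true} := by
  rw [← Fintype.card_sum]
  exact Fintype.card_congr Equiv.subtypeSum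

end comb

section conj

/-- two matrices diagonalised with the same diagonal entries up to a bijection are similar -/
theorem conj_of_diag {n : ℕ} {ι : Type} [Fintype ι] [DecidableEq ι]
    (x y C : Matrix (Fin n) (Fin n) K) (hC : C.det ≠ 0) (dx : Fin n → K)
    (hx : x * C = C * Matrix.diagonal dx)
    (P : Matrix (Fin n) ι K) (Q : Matrix ι (Fin n) K) (hPQ : P * Q = 1) (hQP : Q * P = 1)
    (dy : ι → K) (hy : y * P = P * Matrix.diagonal dy) (τ : ι ≃ Fin n)
    (hτ : ∀ i, dx (τ i) = dy i) :
    ∃ S S' : Matrix (Fin n) (Fin n) K, S * S' = 1 ∧ x * S = S * y := by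
  have hCu : IsUnit C.det := isUnit_iff_ne_zero.2 hC
  set C' : Matrix (Fin n) ι K := C.submatrix id τ with hC'
  set Ci : Matrix ι (Fin n) K := (C⁻¹).submatrix τ id with hCi
  have h1 : C' * Ci = 1 := by
    rw [hC', hCi, Matrix.submatrix_mul_equiv, Matrix.mul_nonsing_inv _ hCu, Matrix.submatrix_id_id]
  have h2 : x * C' = C' * Matrix.diagonal dy := by
    have h3 : Matrix.diagonal dy = (Matrix.diagonal dx).submatrix τ τ := by
      rw [Matrix.submatrix_diagonal_equiv]
      congr 1
      funext i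
      exact (hτ i).symm
    have h4 : x * C.submatrix id τ = (x * C).submatrix id τ := rfl
    rw [h3, hC', Matrix.submatrix_mul_equiv, ← hx, h4]
  have h5 : Q * y = Matrix.diagonal dy * Q := by
    calc Q * y = Q * y * (P * Q) := by rw [hPQ, Matrix.mul_one]
      _ = Q * (y * P) * Q := by simp only [Matrix.mul_assoc]
      _ = (Q * P) * Matrix.diagonal dy * Q := by rw [hy]; simp only [Matrix.mul_assoc]
      _ = Matrix.diagonal dy * Q := by rw [hQP, Matrix.one_mul]
  refine ⟨C' * Q, P * Ci, ?_, ?_⟩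
  · calc C' * Q * (P * Ci) = C' * (Q * P) * Ci := by simp only [Matrix.mul_assoc]
      _ = 1 := by rw [hQP, Matrix.mul_one, h1]
  · calc x * (C' * Q) = (x * C') * Q := by rw [Matrix.mul_assoc]
      _ = C' * (Matrix.diagonal dy * Q) := by rw [h2, Matrix.mul_assoc]
      _ = C' * Q * y := by rw [← h5, Matrix.mul_assoc]

/-- rank of a diagonalised matrix -/
theorem rank_of_diag [DecidableEq K] {n : ℕ} (M C : Matrix (Fin n) (Fin n) K) (hC : C.det ≠ 0)
    (d : Fin n → K) (h : M * C = C * Matrix.diagonal d) :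
    M.rank = Fintype.card {j // d j ≠ 0} := by
  have hCu : IsUnit C.det := isUnit_iff_ne_zero.2 hC
  rw [← Matrix.rank_mul_eq_left_of_isUnit_det C M hCu, h,
    Matrix.rank_mul_eq_right_of_isUnit_det C _ hCu, Matrix.rank_diagonal]

end conj

section field

/-- Hilbert 90 for `K / F_q`: elements of norm one are `(q - 1)`-th powers -/
theorem exists_pow_sub_one_eq (hK : Fintype.card K = q ^ 2) (δ : Kˣ) (hδ : δ ^ (q + 1) = 1) :
    ∃ w : Kˣ, w ^ (q - 1) = δ := by
  have hK' : Nat.card K = q ^ 2 := by rw [Nat.card_eq_fintype_card, hK]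
  have hq2 := two_le_q hK
  have hq : 1 ≤ q := by omega
  let A : Subgroup Kˣ := (powMonoidHom (q - 1) : Kˣ →* Kˣ).range
  let B : Subgroup Kˣ := (powMonoidHom (q + 1) : Kˣ →* Kˣ).ker
  have hcardU : Nat.card Kˣ = (q + 1) * (q - 1) := by
    rw [Nat.card_units, hK', Cfsg.Agent.Lib.Helper43_GUField.sq_eq q hq]
  have hAB : A ≤ B := by
    rintro _ ⟨e, rfl⟩
    show (powMonoidHom (q + 1) : Kˣ →* Kˣ) (powMonoidHom (q - 1) e) = 1
    rw [powMonoidHom_apply, powMonoidHom_apply, ← pow_mul, mul_comm, ← hcardU]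
    exact pow_card_eq_one'
  have hA : Nat.card A = q + 1 := by
    show Nat.card (powMonoidHom (q - 1) : Kˣ →* Kˣ).range = q + 1
    rw [IsCyclic.card_powMonoidHom_range, hcardU,
      Nat.gcd_eq_right (⟨q + 1, by ring⟩ : q - 1 ∣ (q + 1) * (q - 1))]
    exact Nat.mul_div_cancel _ (by omega)
  have hB : Nat.card B = q + 1 := Cfsg.Agent.Lib.Helper43_GUField.card_N1 hK'
  have hEq : A = B := Subgroup.eq_of_le_of_card_ge hAB (by rw [hA, hB])
  have hδB : δ ∈ B := by
    show (powMonoidHom (q + 1) : Kˣ →* Kˣ) δ = 1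
    rw [powMonoidHom_apply, hδ]
  rw [← hEq] at hδB
  obtain ⟨e, he⟩ := hδB
  exact ⟨e, he⟩

end field

section detfix

variable {D : Fin 2 → Submodule K (Fin (m + m) → K)}

/-- an invertible matrix with prescribed determinant -/
theorem exists_GL_det (hm : 1 ≤ m) (w : Kˣ) : ∃ A : GL (Fin m) K, A.1.det = (w : K) := by
  classical
  let i₀ : Fin m := ⟨0, hm⟩
  let d : Fin m → K := Function.update (fun _ => (1 : K)) i₀ (w : K)
  have hdet : (Matrix.diagonal d).det = (w : K) := by
    rw [Matrix.det_diagonal]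
    show ∏ i, Function.update (fun _ => (1 : K)) i₀ (w : K) i = (w : K)
    rw [Finset.prod_update_of_mem (Finset.mem_univ i₀)]
    simp
  have hu : IsUnit (Matrix.diagonal d).det := by
    rw [hdet]
    exact w.isUnit
  exact ⟨Matrix.nonsingInvUnit _ hu, hdet⟩

/-- the conjugating element may be taken of determinant one -/
theorem exists_conj_det_one (hK : Fintype.card K = q ^ 2) (hm : 1 ≤ m)
    (hD : Cfsg.Geo.IsMDecomposition m D)
    (hDs : ∀ i, Cfsg.Geo.IsTotallySingularFor (Cfsg.hermForm (m + m) K q) (D i))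
    (x g : GL (Fin (m + m)) K) (hg : g ∈ Cfsg.GU (m + m) K q)
    (hgx : g⁻¹ * x * g ∈ Cfsg.Geo.decompositionStabilizer D) :
    ∃ g' ∈ Cfsg.GU (m + m) K q ⊓ Cfsg.Geo.specialLinear (Fin (m + m)) K,
      g'⁻¹ * x * g' ∈ Cfsg.Geo.decompositionStabilizer D := by
  have hq2 := two_le_q hK
  obtain ⟨E, G, hfr, hE, hG⟩ := exists_frame_of_decomp hK hD hDs
  set δ : Kˣ := Matrix.GeneralLinearGroup.det g with hδ
  have hδ1 : δ ^ (q + 1) = 1 := Cfsg.Agent.Lib.Helper13_GU.det_unit_pow_eq_one hK g hg
  obtain ⟨w, hw⟩ := exists_pow_sub_one_eq hK δ hδ1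
  obtain ⟨A, hA⟩ := exists_GL_det hm w
  set t : GL (Fin (m + m)) K := embGL hK hfr A with ht
  have htGU : t ∈ Cfsg.GU (m + m) K q := embGL_mem_GU hK hfr A
  have htS : t ∈ Cfsg.Geo.decompositionStabilizer D := embGL_mem_stab hK hfr hE hG A
  have htdet : t.1.det * (δ : K) = 1 := by
    rw [ht, det_embGL hK hfr, Matrix.coe_units_inv, Matrix.det_nonsing_inv, hA, ← hw,
      Units.val_pow_eq_pow_val]
    have hw0 : (w : K) ≠ 0 := w.ne_zero
    have h1 : (w : K) * (w : K) ^ (q - 1) = (w : K) ^ q := by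
      rw [← pow_succ']
      congr 1
      omega
    rw [Ring.inverse_eq_inv', inv_pow, mul_assoc, mul_comm (((w : K) ^ q)⁻¹), ← mul_assoc, h1]
    exact mul_inv_cancel₀ (pow_ne_zero _ hw0)
  refine ⟨g * t, ⟨(Cfsg.GU (m + m) K q).mul_mem hg htGU, ?_⟩, ?_⟩
  · show Matrix.GeneralLinearGroup.det (g * t) = 1
    apply Units.ext
    rw [Matrix.GeneralLinearGroup.val_det_apply, Units.val_mul, Matrix.det_mul, Units.val_one,
      mul_comm]
    have : (δ : K) = g.1.det := by rw [hδ, Matrix.GeneralLinearGroup.val_det_apply]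
    rw [← this]
    exact htdet
  · have h1 : (g * t)⁻¹ * x * (g * t) = t⁻¹ * (g⁻¹ * x * g) * t := by group
    rw [h1]
    exact (Cfsg.Geo.decompositionStabilizer D).mul_mem
      ((Cfsg.Geo.decompositionStabilizer D).mul_mem
        ((Cfsg.Geo.decompositionStabilizer D).inv_mem htS) hgx) htS

theorem fr_diagonal (hK : Fintype.card K = q ^ 2) {ι : Type} [DecidableEq ι] (d : ι → K) :
    fr q (Matrix.diagonal d) = Matrix.diagonal (fun i => d i ^ q) := by
  have hq0 : q ≠ 0 := by have := two_le_q hK; omega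
  ext i j
  rw [fr_apply, Matrix.diagonal_apply, Matrix.diagonal_apply]
  split_ifs
  · rfl
  · exact zero_pow hq0

/-- an element diagonalised with entries `± ζ` matching a sign pattern compatible with the frame
has a conjugate in the stabilizer -/
theorem exists_conj_of_signs (hK : Fintype.card K = q ^ 2) (hm : 1 ≤ m)
    (hD : Cfsg.Geo.IsMDecomposition m D)
    (hDs : ∀ i, Cfsg.Geo.IsTotallySingularFor (Cfsg.hermForm (m + m) K q) (D i))
    (x : GL (Fin (m + m)) K) (hx : x ∈ Cfsg.GU (m + m) K q) (ζ : K)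
    (C : Matrix (Fin (m + m)) (Fin (m + m)) K) (εx : Fin (m + m) → Bool) (hC : C.det ≠ 0)
    (hxC : x.1 * C = C * Matrix.diagonal (fun j => if εx j then ζ else -ζ))
    (a b : Fin m → Bool)
    (hab : ∀ i, (if a i then ζ else -ζ) * (if b i then ζ else -ζ) ^ q = 1)
    (hcount : Fintype.card {j // εx j = true} =
      Fintype.card {i // a i = true} + Fintype.card {i // b i = true}) :
    ∃ g ∈ Cfsg.GU (m + m) K q ⊓ Cfsg.Geo.specialLinear (Fin (m + m)) K,
      g⁻¹ * x * g ∈ Cfsg.Geo.decompositionStabilizer D := by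
  classical
  have hq2 := two_le_q hK
  have hq0 : q ≠ 0 := by omega
  obtain ⟨E, G, hfr, hE, hG⟩ := exists_frame_of_decomp hK hD hDs
  set dA : Fin m → K := fun i => if a i then ζ else -ζ with hdA
  set dB : Fin m → K := fun i => if b i then ζ else -ζ with hdB
  have hab' : ∀ i, dA i * dB i ^ q = 1 := hab
  have hdA0 : ∀ i, dA i ≠ 0 := fun i h0 => by
    have := hab' i
    rw [h0, zero_mul] at this
    exact zero_ne_one this
  have hdB0 : ∀ i, dB i ≠ 0 := fun i h0 => by
    have := hab' i
    rw [h0, zero_pow hq0, mul_zero] at this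
    exact zero_ne_one this
  set A : Matrix (Fin m) (Fin m) K := Matrix.diagonal dA with hA
  set B : Matrix (Fin m) (Fin m) K := Matrix.diagonal dB with hB
  have hAB : Aᵀ * fr q B = 1 := by
    rw [hA, hB, fr_diagonal hK, Matrix.diagonal_transpose, Matrix.diagonal_mul_diagonal]
    rw [← Matrix.diagonal_one]
    congr 1
    funext i
    exact hab' i
  have hAu : IsUnit A := by
    rw [Matrix.isUnit_iff_isUnit_det, hA, Matrix.det_diagonal]
    exact isUnit_iff_ne_zero.2 (Finset.prod_ne_zero_iff.2 fun i _ => hdA0 i)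
  have hBu : IsUnit B := by
    rw [Matrix.isUnit_iff_isUnit_det, hB, Matrix.det_diagonal]
    exact isUnit_iff_ne_zero.2 (Finset.prod_ne_zero_iff.2 fun i _ => hdB0 i)
  set Y : Matrix (Fin (m + m)) (Fin (m + m)) K := frameMat q E G A B with hY
  have hYgram : Yᵀ * fr q Y = 1 := frameMat_unitary hK hfr A B hAB
  have hYdet : IsUnit Y.det := by
    have := Matrix.isUnit_det_of_right_inverse hYgram
    rwa [Matrix.det_transpose] at this
  set y : GL (Fin (m + m)) K := Matrix.nonsingInvUnit Y hYdet with hy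
  have hyval : y.1 = Y := rfl
  have hyGU : y ∈ Cfsg.GU (m + m) K q := by
    rw [mem_GU_iff_gram hK, hyval]
    exact hYgram
  have hyS : y ∈ Cfsg.Geo.decompositionStabilizer D := by
    refine ⟨1, fun i => ?_⟩
    rw [Equiv.Perm.one_apply, hyval]
    fin_cases i
    · show (D 0).map _ = D 0
      rw [← hE]
      exact map_range_E hfr A B hAu
    · show (D 1).map _ = D 1
      rw [← hG]
      exact map_range_G hfr A B hBu
  -- the two diagonalisations
  set P : Matrix (Fin (m + m)) (Fin m ⊕ Fin m) K := Matrix.fromCols E G with hP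
  set Q : Matrix (Fin m ⊕ Fin m) (Fin (m + m)) K := Matrix.fromRows (rowL q G) (rowL q E) with hQ
  have hPQ : P * Q = 1 := by
    rw [hP, hQ, Matrix.fromCols_mul_fromRows]
    exact hfr.complete
  have hQP : Q * P = 1 := by
    rw [hP, hQ, Matrix.fromRows_mul_fromCols, hfr.LE, hfr.LG, hfr.L'E, hfr.L'G,
      Matrix.fromBlocks_one]
  have hYP : Y * P = P * Matrix.diagonal (Sum.elim dA dB) := by
    rw [hP, Matrix.mul_fromCols, hY, frameMat_mul_E hfr, frameMat_mul_G hfr,
      ← Matrix.fromBlocks_diagonal, Matrix.fromCols_mul_fromBlocks]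
    simp only [Matrix.mul_zero, add_zero, zero_add]
    rfl
  have hcardeq : Fintype.card (Fin (m + m)) = Fintype.card (Fin m ⊕ Fin m) := by
    rw [Fintype.card_sum, Fintype.card_fin, Fintype.card_fin]
  obtain ⟨τ, hτ⟩ := exists_equiv_of_count εx (Sum.elim a b) hcardeq
    (by rw [hcount, card_sum_elim_true])
  have hτd : ∀ i, (fun j => if εx j then ζ else -ζ) (τ i) = Sum.elim dA dB i := by
    intro i
    show (if εx (τ i) then ζ else -ζ) = Sum.elim dA dB i
    rw [hτ i]
    rcases i with i | i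
    · rfl
    · rfl
  obtain ⟨S, S', hSS', hxS⟩ := conj_of_diag x.1 Y C hC _ hxC P Q hPQ hQP _ hYP τ hτd
  have hS'S : S' * S = 1 := mul_eq_one_comm.1 hSS'
  set c : GL (Fin (m + m)) K := ⟨S, S', hSS', hS'S⟩ with hc
  have hxc : x * c = c * y := by
    apply Units.ext
    rw [Units.val_mul, Units.val_mul]
    exact hxS
  have hconj : IsConj x y := by
    rw [isConj_iff]
    refine ⟨c⁻¹, ?_⟩
    rw [inv_inv, mul_assoc, hxc, ← mul_assoc, inv_mul_cancel, one_mul]
  have hconj' := Cfsg.Agent.Lib.Helper43_GUConj.isConj_GU hK ⟨x, hx⟩ ⟨y, hyGU⟩ hconj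
  obtain ⟨c₂, hc₂⟩ := isConj_iff.1 hconj'
  have hc₂' : (c₂ : GL (Fin (m + m)) K) * x * (c₂ : GL (Fin (m + m)) K)⁻¹ = y := by
    have := congrArg (fun u : ↥(Cfsg.GU (m + m) K q) => (u : GL (Fin (m + m)) K)) hc₂
    simpa using this
  apply exists_conj_det_one hK hm hD hDs x ((c₂ : GL (Fin (m + m)) K)⁻¹)
    ((Cfsg.GU (m + m) K q).inv_mem c₂.2)
  rw [inv_inv, hc₂']
  exact hyS

theorem fr_smul {α β : Type*} (c : K) (M : Matrix α β K) : fr q (c • M) = c ^ q • fr q M := by
  ext i j
  rw [fr_apply, Matrix.smul_apply, Matrix.smul_apply, fr_apply, smul_eq_mul, smul_eq_mul, mul_pow]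

/-- `2 ≠ 0` in a field of odd order -/
theorem two_ne_zero_of_odd (hK : Fintype.card K = q ^ 2) (hqodd : Odd q) :
    ringChar K ≠ 2 ∧ (2 : K) ≠ 0 := by
  have hchar : ringChar K ≠ 2 := by
    intro hc
    have h1 := FiniteField.even_card_of_char_two hc
    rw [hK] at h1
    have h2 : Odd (q ^ 2) := hqodd.pow
    rw [Nat.odd_iff] at h2
    omega
  exact ⟨hchar, Ring.two_ne_zero hchar⟩

/-- **(⇐)**: involutions modulo scalars of `SU_{2m}(q)`, `q` odd with `(q + 1)_2 ≤ (2m)_2`,
have a conjugate in the stabilizer of a polar pair -/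
theorem exists_conj_into_stab (hK : Fintype.card K = q ^ 2) (hm : 1 ≤ m) (hqodd : Odd q)
    (hv : padicValNat 2 (q + 1) ≤ padicValNat 2 (m + m))
    (hD : Cfsg.Geo.IsMDecomposition m D)
    (hDs : ∀ i, Cfsg.Geo.IsTotallySingularFor (Cfsg.hermForm (m + m) K q) (D i))
    (x : GL (Fin (m + m)) K) (hx : x ∈ Cfsg.GU (m + m) K q) (hdet : x.1.det = 1)
    (z : K) (hxz : x.1 * x.1 = z • (1 : Matrix (Fin (m + m)) (Fin (m + m)) K)) :
    ∃ g ∈ Cfsg.GU (m + m) K q ⊓ Cfsg.Geo.specialLinear (Fin (m + m)) K,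
      g⁻¹ * x * g ∈ Cfsg.Geo.decompositionStabilizer D := by
  classical
  have hq2 := two_le_q hK
  have hq0 : q ≠ 0 := by omega
  obtain ⟨hchar, h2⟩ := two_ne_zero_of_odd hK hqodd
  have hneg1 : (-1 : K) ≠ 1 := by
    intro h
    apply h2
    have : (1 : K) + 1 = 0 := by nth_rewrite 1 [← h]; ring
    rw [← this]; norm_num
  let i₀ : Fin (m + m) := ⟨0, by omega⟩
  -- `z` has norm one
  have hzz : z * z ^ q = 1 := by
    have h1 := gram_of_mem_GU hK (x * x) ((Cfsg.GU (m + m) K q).mul_mem hx hx)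
    rw [Units.val_mul, hxz, fr_smul, fr_one hK, Matrix.transpose_smul, Matrix.transpose_one,
      Matrix.smul_mul, Matrix.mul_smul, Matrix.one_mul, smul_smul] at h1
    have h3 := congrFun (congrFun h1 i₀) i₀
    rw [Matrix.smul_apply, Matrix.one_apply_eq, smul_eq_mul, mul_one] at h3
    exact h3
  have hz0 : z ≠ 0 := by
    intro h0
    rw [h0, zero_mul] at hzz
    exact zero_ne_one hzz
  -- `z` is a square
  have hzsq : IsSquare z := by
    rw [FiniteField.isSquare_iff hchar hz0, hK]
    obtain ⟨k, hk⟩ := hqodd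
    have h3 : q ^ 2 / 2 = (q + 1) * k := by
      have : q ^ 2 = 2 * ((q + 1) * k) + 1 := by rw [hk]; ring
      omega
    rw [h3, pow_mul, pow_succ', hzz, one_pow]
  obtain ⟨ζ, hζ⟩ := hzsq
  have hζ0 : ζ ≠ 0 := by
    intro h0
    rw [h0, mul_zero] at hζ
    exact hz0 hζ
  -- the sign `ε = ζ ^ (q + 1)`
  have hεε : (ζ * ζ ^ q) * (ζ * ζ ^ q) = 1 := by
    have : (ζ * ζ ^ q) * (ζ * ζ ^ q) = (ζ * ζ) * (ζ * ζ) ^ q := by ring
    rw [this, ← hζ, hzz]
  -- the involution `x₁ = ζ⁻¹ x`
  set x₁ : Matrix (Fin (m + m)) (Fin (m + m)) K := ζ⁻¹ • x.1 with hx₁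
  have hx₁sq : x₁ * x₁ = 1 := by
    rw [hx₁, Matrix.smul_mul, Matrix.mul_smul, hxz, smul_smul, smul_smul, hζ]
    have : ζ⁻¹ * ζ⁻¹ * (ζ * ζ) = 1 := by field_simp
    rw [this, one_smul]
  have hxx₁ : x.1 = ζ • x₁ := by
    rw [hx₁, smul_smul, mul_inv_cancel₀ hζ0, one_smul]
  obtain ⟨C, εx, hC, hx₁C⟩ := Cfsg.Agent.Lib.Helper43_SubfieldSL2.exists_eigen_conj h2 x₁ hx₁sq
  have hxC : x.1 * C = C * Matrix.diagonal (fun j => if εx j then ζ else -ζ) := by
    rw [hxx₁, Matrix.smul_mul, hx₁C, ← Matrix.mul_smul]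
    congr 1
    ext i j
    rw [Matrix.smul_apply, Matrix.diagonal_apply, Matrix.diagonal_apply]
    by_cases hij : i = j
    · rw [if_pos hij, if_pos hij]
      cases εx i <;> simp
    · rw [if_neg hij, if_neg hij, smul_zero]
  set s := Fintype.card {j // εx j = true} with hs
  set s' := Fintype.card {j // εx j = false} with hs'
  have hss' : s + s' = m + m := by
    have := card_fiber_add εx
    rwa [Fintype.card_fin] at this
  rcases mul_self_eq_one_iff.1 hεε with hε | hε
  · -- `ζ ^ (q + 1) = 1`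
    have hζq : ζ ^ (q + 1) = 1 := by rw [pow_succ']; exact hε
    -- determinant
    have hprod : ζ ^ s * (-ζ) ^ s' = 1 := by
      have h1 := congrArg Matrix.det hxC
      rw [Matrix.det_mul, Matrix.det_mul, Matrix.det_diagonal, hdet, one_mul] at h1
      have h3 : (∏ j, if εx j then ζ else -ζ) = 1 := by
        have h4 : C.det * 1 = C.det * ∏ j, (if εx j then ζ else -ζ) := by rw [mul_one]; exact h1
        exact (mul_left_cancel₀ hC h4).symm
      rw [← h3, Finset.prod_ite, Finset.prod_const, Finset.prod_const, hs, hs',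
        Fintype.card_subtype, Fintype.card_subtype]
      congr 2
      · congr 1
        ext j
        simp
    have hn1 : ζ ^ (m + m) * (-1) ^ s' = 1 := by
      have h7 : ζ ^ (m + m) * (-1) ^ s' = ζ ^ s * (-ζ) ^ s' := by
        rw [← hss', pow_add, neg_pow ζ s']
        ring
      rw [h7, hprod]
    have h2n : ζ ^ (2 * (m + m)) = 1 := by
      have h5 : ζ ^ (2 * (m + m)) = (ζ ^ (m + m) * (-1) ^ s') ^ 2 := by
        rw [mul_pow, ← pow_mul, ← pow_mul, mul_comm s' 2, pow_mul (-1 : K) 2 s']
        simp [mul_comm]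
      rw [h5, hn1, one_pow]
    have hvv : padicValNat 2 (2 * (q + 1)) ≤ padicValNat 2 (2 * (m + m)) := by
      rw [padicValNat.mul (by norm_num) (by omega), padicValNat.mul (by norm_num) (by omega)]
      omega
    have hζn : ζ ^ (m + m) = 1 :=
      Cfsg.Agent.Lib.Helper43_SubfieldSL2.pow_half_eq_one h2 ζ (q + 1) (m + m) (by omega)
        (by omega) hζq h2n hvv
    have hs'even : Even s' := by
      by_contra hodd
      rw [Nat.not_even_iff_odd] at hodd
      rw [hζn, one_mul, hodd.neg_one_pow] at hn1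
      exact hneg1 hn1
    have hseven : Even s := by
      have h6 : Even (s + s') := by rw [hss']; exact ⟨m, rfl⟩
      exact (Nat.even_add.1 h6).2 hs'even
    obtain ⟨k, hk⟩ := hseven
    obtain ⟨a, ha⟩ := exists_bool_count m k (by omega)
    apply exists_conj_of_signs hK hm hD hDs x hx ζ C εx hC hxC a a
    · intro i
      cases a i
      · simp only [Bool.false_eq_true, if_false]
        have : (-ζ) * (-ζ) ^ q = (-ζ) ^ (q + 1) := by rw [pow_succ']
        rw [this, (hqodd.add_one).neg_pow, hζq]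
      · simp only [if_true]
        exact hε
    · rw [ha, ← hs, hk]
  · -- `ζ ^ (q + 1) = -1`
    have hgram := gram_of_mem_GU hK x hx
    have hx₁gram : x₁ᵀ * fr q x₁ = -1 := by
      rw [hx₁, fr_smul, Matrix.transpose_smul, Matrix.smul_mul, Matrix.mul_smul, hgram, smul_smul,
        inv_pow, ← mul_inv, hε]
      rw [inv_neg, inv_one, neg_smul, one_smul]
    have hfrx₁ : fr q x₁ = -x₁ᵀ := by
      have h1 : x₁ᵀ * x₁ᵀ = 1 := by rw [← Matrix.transpose_mul, hx₁sq, Matrix.transpose_one]
      calc fr q x₁ = (x₁ᵀ * x₁ᵀ) * fr q x₁ := by rw [h1, Matrix.one_mul]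
        _ = x₁ᵀ * (x₁ᵀ * fr q x₁) := by rw [Matrix.mul_assoc]
        _ = -x₁ᵀ := by rw [hx₁gram, Matrix.mul_neg, Matrix.mul_one]
    have hrank1 : (x₁ - 1).rank = (x₁ + 1).rank := by
      have h1 : (x₁ - 1).map (frobQ hK) = -(x₁ + 1)ᵀ := by
        have h2' : (x₁ - 1).map (frobQ hK) = fr q x₁ - 1 := by
          ext i j
          rw [Matrix.map_apply, Matrix.sub_apply, Matrix.sub_apply, fr_apply, map_sub,
            frobQ_apply]
          congr 1
          by_cases hij : i = j
          · rw [hij, Matrix.one_apply_eq, map_one]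
          · rw [Matrix.one_apply_ne hij, map_zero]
        rw [h2', hfrx₁, Matrix.transpose_add, Matrix.transpose_one]
        abel
      rw [← Cfsg.Agent.Lib.Helper43_GUUnip.rank_map_ringHom (frobQ hK) (x₁ - 1), h1, rank_neg',
        Matrix.rank_transpose]
    have hrm : (x₁ - 1).rank = s' := by
      have h1 : (x₁ - 1) * C = C * Matrix.diagonal (fun j => (if εx j then (1 : K) else -1) - 1) := by
        rw [Matrix.sub_mul, Matrix.one_mul, hx₁C]
        have : Matrix.diagonal (fun j => (if εx j then (1 : K) else -1) - 1) =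
            Matrix.diagonal (fun j => if εx j then (1 : K) else -1) - 1 := by
          rw [← Matrix.diagonal_one, Matrix.diagonal_sub]
        rw [this, Matrix.mul_sub, Matrix.mul_one]
      rw [rank_of_diag _ C hC _ h1, hs']
      apply Fintype.card_congr
      apply Equiv.subtypeEquivRight
      intro j
      cases εx j
      · simp only [Bool.false_eq_true, if_false, iff_true]
        intro h
        apply h2
        have : (2 : K) = -(-1 - 1) := by ring
        rw [this, h, neg_zero]
      · simp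
    have hrp : (x₁ + 1).rank = s := by
      have h1 : (x₁ + 1) * C = C * Matrix.diagonal (fun j => (if εx j then (1 : K) else -1) + 1) := by
        rw [Matrix.add_mul, Matrix.one_mul, hx₁C]
        have : Matrix.diagonal (fun j => (if εx j then (1 : K) else -1) + 1) =
            Matrix.diagonal (fun j => if εx j then (1 : K) else -1) + 1 := by
          rw [← Matrix.diagonal_one, Matrix.diagonal_add]
        rw [this, Matrix.mul_add, Matrix.mul_one]
      rw [rank_of_diag _ C hC _ h1, hs]
      apply Fintype.card_congr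
      apply Equiv.subtypeEquivRight
      intro j
      cases εx j
      · simp
      · simp only [if_true, iff_true]
        intro h
        apply h2
        rw [← h]; norm_num
    have hsm : s = m := by
      rw [hrm, hrp] at hrank1
      omega
    apply exists_conj_of_signs hK hm hD hDs x hx ζ C εx hC hxC (fun _ => true) (fun _ => false)
    · intro i
      simp only [if_true, Bool.false_eq_true, if_false]
      rw [hqodd.neg_pow, mul_neg, hε, neg_neg]
    · rw [← hs, hsm]
      simp [Fintype.card_subtype]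

end detfix

end Cfsg.Agent.Lib.Helper43_PolarPair5
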