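import Mathlib
import Cfsg.Agent.Lib.Helper43_Kron2
import Cfsg.Agent.Lib.Helper43_PolarPair5
import Cfsg.Agent.Lib.Helper43_FieldExt2

set_option autoImplicit false
set_option linter.unusedSectionVars false

/-!
# Conjugating elements with scalar square into the stabilizer of a tensor decomposition
`GL_2 ⊗ GL_b` (helper43)
-/

namespace Cfsg.Agent.Lib.Helper43_Kron3

open Matrix Module Cfsg.Agent.Lib.Helper43_Kron1 Cfsg.Agent.Lib.Helper43_Kron2
open scoped Kronecker MatrixGroups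

variable {F : Type*} [Field F] [Fintype F] {a b n : ℕ}

/-- fixing the determinant of a similarity with the help of the centralizer -/
theorem exists_sim_det (e : Fin n ≃ Fin a × Fin b) (x : Matrix (Fin n) (Fin n) F)
    (Y : Matrix (Fin a × Fin b) (Fin a × Fin b) F) (S : Matrix (Fin n) (Fin a × Fin b) F)
    (S' : Matrix (Fin a × Fin b) (Fin n) F) (hSS' : S * S' = 1) (hS'S : S' * S = 1)
    (hx : x * S = S * Y)
    (hcent : ∀ δ : F, δ ≠ 0 → ∃ D : Matrix (Fin n) (Fin n) F, D * x = x * D ∧ D.det = δ)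
    (δ' : F) (hδ' : δ' ≠ 0) :
    ∃ (S₁ : Matrix (Fin n) (Fin a × Fin b) F) (S₁' : Matrix (Fin a × Fin b) (Fin n) F),
      S₁ * S₁' = 1 ∧ S₁' * S₁ = 1 ∧ x * S₁ = S₁ * Y ∧ (S₁.submatrix id e).det = δ' := by
  set T : Matrix (Fin n) (Fin n) F := S.submatrix id e with hT
  set T' : Matrix (Fin n) (Fin n) F := S'.submatrix e id with hT'
  have hTT' : T * T' = 1 := by
    rw [hT, hT', Matrix.submatrix_mul_equiv, hSS', Matrix.submatrix_id_id]
  have hTdet : T.det ≠ 0 := by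
    intro h0
    have := congrArg Matrix.det hTT'
    rw [Matrix.det_mul, h0, zero_mul, Matrix.det_one] at this
    exact zero_ne_one this
  obtain ⟨D, hDx, hDdet⟩ := hcent (δ' * T.det⁻¹) (mul_ne_zero hδ' (inv_ne_zero hTdet))
  have hDu : IsUnit D.det := by
    rw [hDdet]
    exact isUnit_iff_ne_zero.2 (mul_ne_zero hδ' (inv_ne_zero hTdet))
  refine ⟨D * S, S' * D⁻¹, ?_, ?_, ?_, ?_⟩
  · calc D * S * (S' * D⁻¹) = D * (S * S') * D⁻¹ := by simp only [Matrix.mul_assoc]
      _ = 1 := by rw [hSS', Matrix.mul_one, Matrix.mul_nonsing_inv _ hDu]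
  · calc S' * D⁻¹ * (D * S) = S' * (D⁻¹ * D) * S := by simp only [Matrix.mul_assoc]
      _ = 1 := by rw [Matrix.nonsing_inv_mul _ hDu, Matrix.mul_one, hS'S]
  · calc x * (D * S) = (x * D) * S := by rw [Matrix.mul_assoc]
      _ = D * (x * S) := by rw [← hDx, Matrix.mul_assoc]
      _ = D * S * Y := by rw [hx, Matrix.mul_assoc]
  · have h1 : (D * S).submatrix id e = D * T := rfl
    rw [h1, Matrix.det_mul, hDdet, mul_assoc, inv_mul_cancel₀ hTdet, mul_one]

/-- the case of a non-square scalar -/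
theorem exists_kron_sim_nonsquare (h2 : (2 : F) ≠ 0) (hn : n = 2 * b)
    (x : Matrix (Fin n) (Fin n) F) (z : F) (hz : ¬ IsSquare z) (hx : x * x = z • 1) :
    ∃ (x₁ : GL (Fin 2) F) (x₂ : GL (Fin b) F) (S : Matrix (Fin n) (Fin 2 × Fin b) F)
      (S' : Matrix (Fin 2 × Fin b) (Fin n) F), S * S' = 1 ∧ S' * S = 1 ∧
      x * S = S * (x₁.1 ⊗ₖ x₂.1) := by
  classical
  have hz0 : z ≠ 0 := by
    rintro rfl
    exact hz ⟨0, by simp⟩
  set M₂ : Matrix (Fin 2) (Fin 2) F := !![0, z; 1, 0] with hM₂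
  have hM₂sq : M₂ * M₂ = z • 1 := by
    rw [hM₂]
    ext i j
    fin_cases i <;> fin_cases j <;> simp [Matrix.mul_apply, Fin.sum_univ_two]
  have hM₂det : M₂.det = -z := by
    rw [hM₂, Matrix.det_fin_two_of]
    ring
  have hu : IsUnit M₂.det := by
    rw [hM₂det]
    exact isUnit_iff_ne_zero.2 (neg_ne_zero.2 hz0)
  set x₁ : GL (Fin 2) F := Matrix.nonsingInvUnit M₂ hu with hx₁
  set B : Matrix (Fin 2 × Fin b) (Fin 2 × Fin b) F := M₂ ⊗ₖ (1 : Matrix (Fin b) (Fin b) F) with hB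
  have hBB : B * B = z • 1 := by
    rw [hB, ← Matrix.mul_kronecker_mul, hM₂sq, Matrix.one_mul, Matrix.smul_kronecker,
      Matrix.one_kronecker_one]
  have hcard : Fintype.card (Fin 2 × Fin b) = n := by
    rw [Fintype.card_prod, Fintype.card_fin, Fintype.card_fin, hn]
  obtain ⟨ψ, hψ⟩ := Cfsg.Agent.Lib.Helper43_FieldExt2.exists_conj_of_sq_eq h2 hcard x B z hz hx hBB
  set S : Matrix (Fin n) (Fin 2 × Fin b) F :=
    LinearMap.toMatrix' (ψ.symm : (Fin 2 × Fin b → F) →ₗ[F] (Fin n → F)) with hS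
  set S' : Matrix (Fin 2 × Fin b) (Fin n) F :=
    LinearMap.toMatrix' (ψ : (Fin n → F) →ₗ[F] (Fin 2 × Fin b → F)) with hS'
  have hSS' : S * S' = 1 := by
    rw [hS, hS', ← LinearMap.toMatrix'_comp]
    simp
  have hS'S : S' * S = 1 := by
    rw [hS, hS', ← LinearMap.toMatrix'_comp]
    simp
  have hSv : ∀ u, S *ᵥ u = ψ.symm u := by
    intro u
    rw [hS, ← Matrix.toLin'_apply, Matrix.toLin'_toMatrix']
    rfl
  refine ⟨x₁, 1, S, S', hSS', hS'S, ?_⟩
  show x * S = S * (M₂ ⊗ₖ ((1 : GL (Fin b) F) : Matrix (Fin b) (Fin b) F))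
  rw [Units.val_one, ← hB]
  apply Matrix.mulVec_injective
  funext u
  have e1 : (x * S) *ᵥ u = x *ᵥ (S *ᵥ u) := (Matrix.mulVec_mulVec u x S).symm
  have e2 : (S * B) *ᵥ u = S *ᵥ (B *ᵥ u) := (Matrix.mulVec_mulVec u S B).symm
  rw [e1, e2, hSv, hSv]
  apply ψ.injective
  rw [hψ, LinearEquiv.apply_symm_apply, LinearEquiv.apply_symm_apply]

/-- centralizer elements of arbitrary determinant for a diagonalisable matrix -/
theorem exists_cent_det_of_diag (hn : 1 ≤ n) (x C : Matrix (Fin n) (Fin n) F) (hC : C.det ≠ 0)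
    (dx : Fin n → F) (hxC : x * C = C * Matrix.diagonal dx) (δ : F) :
    ∃ D : Matrix (Fin n) (Fin n) F, D * x = x * D ∧ D.det = δ := by
  classical
  have hCu : IsUnit C.det := isUnit_iff_ne_zero.2 hC
  let j₀ : Fin n := ⟨0, hn⟩
  set u : Fin n → F := Function.update (fun _ => (1 : F)) j₀ δ with hu
  have hxeq : x = C * Matrix.diagonal dx * C⁻¹ := by
    calc x = x * (C * C⁻¹) := by rw [Matrix.mul_nonsing_inv _ hCu, Matrix.mul_one]
      _ = (x * C) * C⁻¹ := by rw [Matrix.mul_assoc]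
      _ = C * Matrix.diagonal dx * C⁻¹ := by rw [hxC]
  refine ⟨C * Matrix.diagonal u * C⁻¹, ?_, ?_⟩
  · rw [hxeq]
    calc C * Matrix.diagonal u * C⁻¹ * (C * Matrix.diagonal dx * C⁻¹)
        = C * Matrix.diagonal u * (C⁻¹ * C) * Matrix.diagonal dx * C⁻¹ := by
          simp only [Matrix.mul_assoc]
      _ = C * (Matrix.diagonal u * Matrix.diagonal dx) * C⁻¹ := by
          rw [Matrix.nonsing_inv_mul _ hCu, Matrix.mul_one]; simp only [Matrix.mul_assoc]
      _ = C * (Matrix.diagonal dx * Matrix.diagonal u) * C⁻¹ := by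
          rw [Matrix.diagonal_mul_diagonal, Matrix.diagonal_mul_diagonal]
          congr 3
          funext i
          exact mul_comm _ _
      _ = C * Matrix.diagonal dx * (C⁻¹ * C) * Matrix.diagonal u * C⁻¹ := by
          rw [Matrix.nonsing_inv_mul _ hCu, Matrix.mul_one]; simp only [Matrix.mul_assoc]
      _ = C * Matrix.diagonal dx * C⁻¹ * (C * Matrix.diagonal u * C⁻¹) := by
          simp only [Matrix.mul_assoc]
  · rw [Matrix.det_mul, Matrix.det_mul, Matrix.det_diagonal, Matrix.det_nonsing_inv,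
      Ring.inverse_eq_inv', mul_comm (C.det), mul_assoc, mul_inv_cancel₀ hC, mul_one]
    show ∏ i, Function.update (fun _ => (1 : F)) j₀ δ i = δ
    rw [Finset.prod_update_of_mem (Finset.mem_univ j₀)]
    simp

/-- the number of pairs whose second component satisfies a predicate -/
theorem card_snd_true (a₂ : Fin b → Bool) :
    Fintype.card {ij : Fin 2 × Fin b // a₂ ij.2 = true} =
      2 * Fintype.card {j // a₂ j = true} := by
  have e : {ij : Fin 2 × Fin b // a₂ ij.2 = true} ≃ Fin 2 × {j // a₂ j = true} :=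
    { toFun := fun ij => (ij.1.1, ⟨ij.1.2, ij.2⟩)
      invFun := fun ij => ⟨(ij.1, ij.2.1), ij.2.2⟩
      left_inv := fun ij => rfl
      right_inv := fun ij => rfl }
  rw [Fintype.card_congr e, Fintype.card_prod, Fintype.card_fin]

/-- the case of a square scalar -/
theorem exists_kron_sim_square (h2 : (2 : F) ≠ 0) (hn : n = 2 * b) (hb : 1 ≤ b)
    (hv : padicValNat 2 (Fintype.card F - 1) ≤ padicValNat 2 n)
    (x : Matrix (Fin n) (Fin n) F) (hdet : x.det = 1) (ζ : F) (hζ0 : ζ ≠ 0)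
    (hx : x * x = (ζ * ζ) • 1) :
    (∃ (x₁ : GL (Fin 2) F) (x₂ : GL (Fin b) F) (S : Matrix (Fin n) (Fin 2 × Fin b) F)
      (S' : Matrix (Fin 2 × Fin b) (Fin n) F), S * S' = 1 ∧ S' * S = 1 ∧
      x * S = S * (x₁.1 ⊗ₖ x₂.1)) ∧
    (∀ δ : F, δ ≠ 0 → ∃ D : Matrix (Fin n) (Fin n) F, D * x = x * D ∧ D.det = δ) := by
  classical
  have hn0 : n ≠ 0 := by omega
  have hneg1 : (-1 : F) ≠ 1 := by
    intro h
    apply h2
    have : (1 : F) + 1 = 0 := by nth_rewrite 1 [← h]; ring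
    rw [← this]; norm_num
  -- the involution `x₁ = ζ⁻¹ x`
  set x₁ : Matrix (Fin n) (Fin n) F := ζ⁻¹ • x with hx₁
  have hx₁sq : x₁ * x₁ = 1 := by
    rw [hx₁, Matrix.smul_mul, Matrix.mul_smul, hx, smul_smul, smul_smul]
    have : ζ⁻¹ * ζ⁻¹ * (ζ * ζ) = 1 := by field_simp
    rw [this, one_smul]
  have hxx₁ : x = ζ • x₁ := by
    rw [hx₁, smul_smul, mul_inv_cancel₀ hζ0, one_smul]
  obtain ⟨C, εx, hC, hx₁C⟩ := Cfsg.Agent.Lib.Helper43_SubfieldSL2.exists_eigen_conj h2 x₁ hx₁sq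
  have hxC : x * C = C * Matrix.diagonal (fun j => if εx j then ζ else -ζ) := by
    rw [hxx₁, Matrix.smul_mul, hx₁C, ← Matrix.mul_smul]
    congr 1
    ext i j
    rw [Matrix.smul_apply, Matrix.diagonal_apply, Matrix.diagonal_apply]
    by_cases hij : i = j
    · rw [if_pos hij, if_pos hij]
      cases εx i <;> simp
    · rw [if_neg hij, if_neg hij, smul_zero]
  refine ⟨?_, fun δ _ => exists_cent_det_of_diag (by omega) x C hC _ hxC δ⟩
  set s := Fintype.card {j // εx j = true} with hs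
  set s' := Fintype.card {j // εx j = false} with hs'
  have hss' : s + s' = n := by
    have := Cfsg.Agent.Lib.Helper43_PolarPair5.card_fiber_add εx
    rwa [Fintype.card_fin] at this
  have hprod : ζ ^ s * (-ζ) ^ s' = 1 := by
    have h1 := congrArg Matrix.det hxC
    rw [Matrix.det_mul, Matrix.det_mul, Matrix.det_diagonal, hdet, one_mul] at h1
    have h3 : (∏ j, if εx j then ζ else -ζ) = 1 := by
      have h4 : C.det * 1 = C.det * ∏ j, (if εx j then ζ else -ζ) := by rw [mul_one]; exact h1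
      exact (mul_left_cancel₀ hC h4).symm
    rw [← h3, Finset.prod_ite, Finset.prod_const, Finset.prod_const, hs, hs',
      Fintype.card_subtype, Fintype.card_subtype]
    congr 2
    · congr 1
      ext j
      simp
  have hn1 : ζ ^ n * (-1) ^ s' = 1 := by
    have h7 : ζ ^ n * (-1) ^ s' = ζ ^ s * (-ζ) ^ s' := by
      rw [← hss', pow_add, neg_pow ζ s']
      ring
    rw [h7, hprod]
  have hs'even : Even s' := by
    by_contra hodd
    rw [Nat.not_even_iff_odd] at hodd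
    rw [hodd.neg_one_pow, mul_neg, mul_one] at hn1
    have : ζ ^ n = -1 := by rw [← hn1, neg_neg]
    exact Cfsg.Agent.Lib.Helper43_GSpConj.pow_ne_neg_one h2 n hn0 hv ζ this
  have hseven : Even s := by
    have h6 : Even (s + s') := by rw [hss', hn]; exact even_two_mul b
    exact (Nat.even_add.1 h6).2 hs'even
  obtain ⟨k, hk⟩ := hseven
  obtain ⟨a₂, ha₂⟩ := Cfsg.Agent.Lib.Helper43_PolarPair5.exists_bool_count b k (by omega)
  set d₂ : Fin b → F := fun j => if a₂ j then ζ else -ζ with hd₂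
  have hd₂0 : ∀ j, d₂ j ≠ 0 := by
    intro j
    rw [hd₂]
    show (if a₂ j then ζ else -ζ) ≠ 0
    split_ifs
    · exact hζ0
    · exact neg_ne_zero.2 hζ0
  have hu : IsUnit (Matrix.diagonal d₂).det := by
    rw [Matrix.det_diagonal]
    exact isUnit_iff_ne_zero.2 (Finset.prod_ne_zero_iff.2 fun j _ => hd₂0 j)
  set x₂ : GL (Fin b) F := Matrix.nonsingInvUnit _ hu with hx₂
  have hY : ((1 : GL (Fin 2) F) : Matrix (Fin 2) (Fin 2) F) ⊗ₖ x₂.1 =
      Matrix.diagonal (fun ij : Fin 2 × Fin b => if a₂ ij.2 then ζ else -ζ) := by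
    rw [Units.val_one]
    show (1 : Matrix (Fin 2) (Fin 2) F) ⊗ₖ Matrix.diagonal d₂ = _
    rw [← Matrix.diagonal_one, Matrix.diagonal_kronecker_diagonal]
    congr 1
    funext ij
    rw [one_mul]
  have hcardeq : Fintype.card (Fin n) = Fintype.card (Fin 2 × Fin b) := by
    rw [Fintype.card_prod, Fintype.card_fin, Fintype.card_fin, Fintype.card_fin, hn]
  obtain ⟨τ, hτ⟩ := Cfsg.Agent.Lib.Helper43_PolarPair5.exists_equiv_of_count εx
    (fun ij : Fin 2 × Fin b => a₂ ij.2) hcardeq (by rw [card_snd_true, ha₂, ← hs, hk]; ring)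
  have hCu : IsUnit C.det := isUnit_iff_ne_zero.2 hC
  refine ⟨1, x₂, C.submatrix id τ, (C⁻¹).submatrix τ id, ?_, ?_, ?_⟩
  · rw [Matrix.submatrix_mul_equiv, Matrix.mul_nonsing_inv _ hCu, Matrix.submatrix_id_id]
  · have : (C⁻¹).submatrix (⇑τ) id * C.submatrix id (⇑τ) = (C⁻¹ * C).submatrix τ τ := by
      rw [← Matrix.submatrix_mul_equiv C⁻¹ C τ (Equiv.refl _) τ]
      rfl
    rw [this, Matrix.nonsing_inv_mul _ hCu, Matrix.submatrix_one_equiv]
  · rw [hY]
    have h3 : Matrix.diagonal (fun ij : Fin 2 × Fin b => if a₂ ij.2 then ζ else -ζ) =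
        (Matrix.diagonal (fun j => if εx j then ζ else -ζ)).submatrix τ τ := by
      rw [Matrix.submatrix_diagonal_equiv]
      congr 1
      funext ij
      show _ = if εx (τ ij) then ζ else -ζ
      rw [hτ ij]
    have h4 : x * C.submatrix id τ = (x * C).submatrix id τ := rfl
    rw [h3, Matrix.submatrix_mul_equiv, ← hxC, h4]

/-- **(⇐)** for tensor decompositions with `a = 2`: elements with scalar square are
`SL`-conjugate into the stabilizer -/
theorem exists_conj_into_tensor (h2 : (2 : F) ≠ 0) (hn : n = 2 * b) (hb : 1 ≤ b)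
    (hv : padicValNat 2 (Fintype.card F - 1) ≤ padicValNat 2 n)
    (e : Fin n ≃ Fin 2 × Fin b) (P x : GL (Fin n) F) (hdet : x.1.det = 1) (z : F)
    (hxz : x.1 * x.1 = z • (1 : Matrix (Fin n) (Fin n) F)) :
    ∃ g ∈ Cfsg.Geo.specialLinear (Fin n) F,
      g⁻¹ * x * g ∈ Cfsg.Geo.tensorProductSubgroup 2 b e P := by
  have hPdet : P.1.det ≠ 0 := ((Matrix.isUnit_iff_isUnit_det _).1 P.isUnit).ne_zero
  have key : (∃ (x₁ : GL (Fin 2) F) (x₂ : GL (Fin b) F) (S : Matrix (Fin n) (Fin 2 × Fin b) F)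
      (S' : Matrix (Fin 2 × Fin b) (Fin n) F), S * S' = 1 ∧ S' * S = 1 ∧
      x.1 * S = S * (x₁.1 ⊗ₖ x₂.1)) ∧
      (∀ δ : F, δ ≠ 0 → ∃ D : Matrix (Fin n) (Fin n) F, D * x.1 = x.1 * D ∧ D.det = δ) := by
    by_cases hz : IsSquare z
    · obtain ⟨ζ, hζ⟩ := hz
      have hζ0 : ζ ≠ 0 := by
        rintro rfl
        rw [mul_zero] at hζ
        rw [hζ, zero_smul] at hxz
        have := congrArg Matrix.det hxz
        have hne : Nonempty (Fin n) := ⟨⟨0, by omega⟩⟩
        rw [Matrix.det_mul, hdet, mul_one, Matrix.det_zero] at this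
        exact one_ne_zero this
      rw [hζ] at hxz
      exact exists_kron_sim_square h2 hn hb hv x.1 hdet ζ hζ0 hxz
    · exact ⟨exists_kron_sim_nonsquare h2 hn x.1 z hz hxz, fun δ _ =>
        Cfsg.Agent.Lib.Helper43_FieldExt2.exists_cent_det_of_sq_nonsquare h2 (by omega) x.1 z hz
          hxz δ⟩
  obtain ⟨⟨x₁, x₂, S, S', hSS', hS'S, hxS⟩, hcent⟩ := key
  obtain ⟨S₁, S₁', h1, h2', h3, h4⟩ :=
    exists_sim_det e x.1 _ S S' hSS' hS'S hxS hcent P.1.det hPdet
  exact exists_conj_mem_of_kron e P x x₁ x₂ S₁ S₁' h1 h2' h3 h4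

end Cfsg.Agent.Lib.Helper43_Kron3
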