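import Mathlib
import Cfsg.Prelude.Def_Sporadic
import Cfsg.Prelude.Def_Sporadic_a

/-!
# S0420 package C2 (architect helper74): the blocks `S ∪ {e S}` form a Steiner system `S(4,5,11)`
preserved by `K`.
-/

set_option autoImplicit false

open Cfsg
open scoped Pointwise

namespace Cfsg.Agent.Lib.Helper43_M11U_C2

/-- a `4`-subset of a `5`-set is obtained by erasing one point -/
theorem exists_erase {α : Type*} [DecidableEq α] (s b : Finset α) (hs : s.card = 4)
    (hb : b.card = 5) (hsb : s ⊆ b) : ∃ x ∈ b, s = b.erase x := by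
  have h1 : (b \ s).card = 1 := by
    rw [Finset.card_sdiff_of_subset hsb, hb, hs]
  obtain ⟨x, hx⟩ := Finset.card_eq_one.mp h1
  have hxb : x ∈ b := by
    have : x ∈ b \ s := by rw [hx]; exact Finset.mem_singleton_self x
    exact (Finset.mem_sdiff.mp this).1
  refine ⟨x, hxb, ?_⟩
  rw [← Finset.sdiff_singleton_eq_erase, ← hx, Finset.sdiff_sdiff_eq_self hsb]

/-- S0420-C2 -/
theorem C2 {α : Type*} [Fintype α] [DecidableEq α] (K : Subgroup (Equiv.Perm α)) (e : Finset α → α)
    (h1 : ∀ S : Finset α, S.card = 4 → e S ∉ S)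
    (h2 : ∀ S : Finset α, S.card = 4 → ∀ x ∈ S, e (insert (e S) (S.erase x)) = x)
    (h3 : ∀ g ∈ K, ∀ S : Finset α, S.card = 4 → e (S.image g) = g (e S)) :
    ∃ B : Set (Finset α), Cfsg.IsSteinerSystem 4 5 B ∧ K ≤ Cfsg.setSystemAut B := by
  classical
  set B : Set (Finset α) := {b | ∃ S : Finset α, S.card = 4 ∧ b = insert (e S) S} with hB
  have hcard5 : ∀ b ∈ B, b.card = 5 := by
    rintro b ⟨S, hS, rfl⟩
    rw [Finset.card_insert_of_notMem (h1 S hS), hS]
  refine ⟨B, ⟨hcard5, ?_⟩, ?_⟩
  · intro s hs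
    refine ⟨insert (e s) s, ⟨⟨s, hs, rfl⟩, Finset.subset_insert _ _⟩, ?_⟩
    rintro b' ⟨hb'B, hsb'⟩
    obtain ⟨S', hS', rfl⟩ := hb'B
    have hb5 : (insert (e S') S').card = 5 := hcard5 _ ⟨S', hS', rfl⟩
    obtain ⟨x, hx, hsx⟩ := exists_erase s _ hs hb5 hsb'
    rcases Finset.mem_insert.mp hx with hxe | hxS
    · -- the missing point is `e S'`
      have : s = S' := by
        rw [hsx, hxe, Finset.erase_insert (h1 S' hS')]
      rw [this]
    · -- the missing point lies in `S'`
      have hne : x ≠ e S' := by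
        rintro rfl
        exact h1 S' hS' hxS
      have hs' : s = insert (e S') (S'.erase x) := by
        rw [hsx, Finset.erase_insert_of_ne hne.symm]
      have hes : e s = x := by
        rw [hs']
        exact h2 S' hS' x hxS
      rw [hes, hs', Finset.insert_comm, Finset.insert_erase hxS]
  · -- invariance
    have hsub : ∀ g ∈ K, ∀ b ∈ B, g • b ∈ B := by
      rintro g hg b ⟨S, hS, rfl⟩
      refine ⟨S.image g, ?_, ?_⟩
      · rw [Finset.card_image_of_injective _ g.injective, hS]
      · rw [h3 g hg S hS]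
        show (insert (e S) S).image (fun a => g • a) = _
        rw [Finset.image_insert]
        rfl
    intro g hg
    rw [MulAction.mem_stabilizer_iff]
    apply Set.Subset.antisymm
    · rintro c ⟨b, hb, rfl⟩
      exact hsub g hg b hb
    · intro b hb
      rw [Set.mem_smul_set_iff_inv_smul_mem]
      exact hsub g⁻¹ (K.inv_mem hg) b hb

end Cfsg.Agent.Lib.Helper43_M11U_C2
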