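import Mathlib

/-!
# S0420 package SRGINT (architect helper74): there is no strongly regular graph `srg(55,18,1,8)`

With `A` the adjacency matrix and `J` the all-ones matrix, `A² = 10 - 7A + 8J`, `AJ = JA = 18J`,
`J² = 55J`.  With `t = 1/√89` the matrix
`P = ((1+7t)/2) + t A - ((1+43t)/110) J` is idempotent with trace `27 + 171 t`; the trace of an
idempotent real matrix is a natural number, so `√89` would be rational.
-/

set_option autoImplicit false

namespace Cfsg.Agent.Lib.Helper43_M11U_SRGINT

open Matrix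

section algebra

variable {V : Type*} [Fintype V] [DecidableEq V]

/-- multiplication in the span of `1, A, J` -/
theorem mul_form (A J : Matrix V V ℝ)
    (hA2 : A * A = (10 : ℝ) • (1 : Matrix V V ℝ) + (-7 : ℝ) • A + (8 : ℝ) • J)
    (hAJ : A * J = (18 : ℝ) • J) (hJA : J * A = (18 : ℝ) • J) (hJJ : J * J = (55 : ℝ) • J)
    (x y z x' y' z' : ℝ) :
    (x • (1 : Matrix V V ℝ) + y • A + z • J) * (x' • (1 : Matrix V V ℝ) + y' • A + z' • J) =
      (x * x' + 10 * (y * y')) • (1 : Matrix V V ℝ) + (x * y' + y * x' - 7 * (y * y')) • A +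
        (x * z' + z * x' + 8 * (y * y') + 18 * (y * z' + z * y') + 55 * (z * z')) • J := by
  simp only [add_mul, mul_add, smul_mul_assoc, mul_smul_comm, one_mul, mul_one, hA2, hAJ, hJA, hJJ]
  module

/-- the trace of an idempotent real matrix is a natural number -/
theorem trace_idem_nat (P : Matrix V V ℝ) (hP : P * P = P) : ∃ r : ℕ, P.trace = (r : ℝ) := by
  have hidem : IsIdempotentElem (Matrix.toLin' P) := by
    unfold IsIdempotentElem
    rw [Module.End.mul_eq_comp, ← Matrix.toLin'_mul, hP]
  refine ⟨Module.finrank ℝ (LinearMap.range (Matrix.toLin' P)), ?_⟩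
  rw [← Matrix.trace_toLin'_eq]
  exact (LinearMap.IsIdempotentElem.isProj_range _ hidem).trace

end algebra

/-- S0420-SRGINT -/
theorem SRGINT {V : Type*} [Fintype V] [DecidableEq V] (Γ : SimpleGraph V) [DecidableRel Γ.Adj] :
    ¬ Γ.IsSRGWith 55 18 1 8 := by
  intro h
  have hcard : Fintype.card V = 55 := h.card
  set A : Matrix V V ℝ := Γ.adjMatrix ℝ with hA
  set J : Matrix V V ℝ := Matrix.of (fun _ _ => (1 : ℝ)) with hJ
  have hcompl : Γᶜ.adjMatrix ℝ = J - 1 - A := by
    ext v w
    by_cases hvw : v = w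
    · subst hvw
      simp [hJ, hA]
    · by_cases ha : Γ.Adj v w <;> simp [hJ, hA, hvw, ha]
  have hA2 : A * A = (10 : ℝ) • (1 : Matrix V V ℝ) + (-7 : ℝ) • A + (8 : ℝ) • J := by
    have h1 := h.matrix_eq (α := ℝ)
    rw [pow_two, hcompl] at h1
    rw [h1]
    simp only [← Nat.cast_smul_eq_nsmul ℝ]
    push_cast
    module
  have hAJ : A * J = (18 : ℝ) • J := by
    ext v w
    rw [hA, SimpleGraph.adjMatrix_mul_apply]
    simp [hJ, h.regular.degree_eq v]
  have hJA : J * A = (18 : ℝ) • J := by
    ext v w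
    rw [hA, SimpleGraph.mul_adjMatrix_apply]
    simp [hJ, h.regular.degree_eq w]
  have hJJ : J * J = (55 : ℝ) • J := by
    ext v w
    simp [Matrix.mul_apply, hJ, hcard]
  have htrA : A.trace = 0 := SimpleGraph.trace_adjMatrix ℝ Γ
  have htrJ : J.trace = 55 := by
    simp [Matrix.trace, hJ, hcard]
  have htr1 : (1 : Matrix V V ℝ).trace = 55 := by
    rw [Matrix.trace_one, hcard]
    norm_num
  -- the irrational number
  set s : ℝ := Real.sqrt 89 with hs
  have hs2 : s * s = 89 := Real.mul_self_sqrt (by norm_num)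
  have hs0 : s ≠ 0 := by
    intro h0
    rw [h0] at hs2
    norm_num at hs2
  set t : ℝ := s⁻¹ with ht
  have htt : t * t = 1 / 89 := by
    rw [ht, ← mul_inv, hs2]
    norm_num
  have hirr : Irrational s := by
    have := Nat.Prime.irrational_sqrt (p := 89) (by norm_num)
    simpa [hs] using this
  -- the idempotent
  set P : Matrix V V ℝ :=
    ((1 + 7 * t) / 2) • (1 : Matrix V V ℝ) + t • A + (-(1 + 43 * t) / 110) • J with hP
  have hPP : P * P = P := by
    rw [hP, mul_form A J hA2 hAJ hJA hJJ]
    congr 1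
    · congr 1
      · congr 1
        linear_combination (89 / 4 : ℝ) * htt
      · congr 1
        linear_combination (0 : ℝ) * htt
    · congr 1
      linear_combination (-89 / 220 : ℝ) * htt
  obtain ⟨r, hr⟩ := trace_idem_nat P hPP
  have htrP : P.trace = 27 + 171 * t := by
    rw [hP, Matrix.trace_add, Matrix.trace_add, Matrix.trace_smul, Matrix.trace_smul,
      Matrix.trace_smul, htrA, htrJ, htr1]
    simp only [smul_eq_mul]
    ring
  rw [htrP] at hr
  -- `171 t = r - 27`, so `s = 171 / (r - 27)`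
  have h1 : 171 * t = (r : ℝ) - 27 := by linarith
  have hne : (r : ℝ) - 27 ≠ 0 := by
    intro h0
    rw [h0] at h1
    have : t = 0 := by linarith
    rw [ht, inv_eq_zero] at this
    exact hs0 this
  have h2 : s = 171 / ((r : ℝ) - 27) := by
    have h3 : t * s = 1 := inv_mul_cancel₀ hs0
    field_simp
    linear_combination (-s) * h1 + (171 : ℝ) * h3
  apply hirr
  rw [h2]
  refine ⟨(171 : ℚ) / ((r : ℚ) - 27), ?_⟩
  push_cast
  ring

end Cfsg.Agent.Lib.Helper43_M11U_SRGINT
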