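import Mathlib
import Cfsg.Agent.Lib.Helper44_M3MDefs

set_option autoImplicit false

/-!
# M3M package WITT (helper43 for helper44): a totally singular subspace of a minus-type quadratic space of Witt
index `j` over the field with three elements has dimension at most `j` (counting zeros along the cosets).
-/

namespace Cfsg.Agent.Lib.Helper43_M3M_WITT

open Module Cfsg.Agent.Lib.Helper14_OmegaSimple Cfsg.Agent.Lib.Helper22_MI2Defs
  Cfsg.Agent.Lib.Helper44_MI3Defs Cfsg.Agent.Lib.Helper44_M3MDefs

variable {F V : Type*} [Field F] [AddCommGroup V] [Module F V]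

/-- all fibres of a nonzero linear functional have `|W| / |F|` elements -/
theorem card_fiber {W : Type*} [AddCommGroup W] [Module F W] [Fintype W] [Fintype F] [DecidableEq F]
    (φ : W →ₗ[F] F) (w0 : W) (h0 : φ w0 ≠ 0) (a : F) :
    Fintype.card F * Fintype.card {w : W // φ w = a} = Fintype.card W := by
  classical
  have hfib : ∀ b : F, Fintype.card {w : W // φ w = b} = Fintype.card {w : W // φ w = a} := by
    intro b
    refine Fintype.card_congr
      { toFun := fun w => ⟨w.1 + ((a - b) / φ w0) • w0, by
          rw [map_add, map_smul, w.2, smul_eq_mul, div_mul_cancel₀ _ h0]; ring⟩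
        invFun := fun w => ⟨w.1 - ((a - b) / φ w0) • w0, by
          rw [map_sub, map_smul, w.2, smul_eq_mul, div_mul_cancel₀ _ h0]; ring⟩
        left_inv := fun w => by apply Subtype.ext; simp
        right_inv := fun w => by apply Subtype.ext; simp }
  rw [← Fintype.card_congr (Equiv.sigmaFiberEquiv φ), Fintype.card_sigma]
  simp only [hfib]
  rw [Finset.sum_const, Finset.card_univ, smul_eq_mul]

/-- the number of `c ∈ C` with `Q (x + c) = 0`, as an indicator sum -/
theorem witt_count [Fintype F] [DecidableEq F] [Fintype V] [DecidableEq V]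
    (Q : QuadraticForm F V) (C : Submodule F V) [Fintype C]
    (hts : ∀ x ∈ C, Q x = 0) (N0 : ℕ) (hN0 : Fintype.card {x : V // Q x = 0} = N0)
    (P : Submodule F V) [DecidablePred (· ∈ P)] [DecidablePred (· ∈ C)] [Fintype P]
    (hP : ∀ x, x ∈ P ↔ ∀ n ∈ C, QuadraticMap.polar (⇑Q) x n = 0) :
    Fintype.card F * Fintype.card C * Fintype.card C + Fintype.card V * Fintype.card C
      ≤ Fintype.card F * (Fintype.card C * N0) + Fintype.card P * Fintype.card C := by
  classical
  -- the double sum
  have hT : ∑ x : V, ∑ c : C, (if Q (x + c) = 0 then 1 else 0) = Fintype.card C * N0 := by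
    rw [Finset.sum_comm]
    have : ∀ c : C, ∑ x : V, (if Q (x + (c : V)) = 0 then 1 else 0) = N0 := by
      intro c
      rw [← hN0, Fintype.card_subtype, Finset.card_filter]
      exact Fintype.sum_equiv (Equiv.addRight (c : V)) _ _ (fun x => rfl)
    simp only [this]
    rw [Finset.sum_const, Finset.card_univ, smul_eq_mul]
  have hQ : ∀ (x : V) (c : C), Q (x + c) = Q x + QuadraticMap.polar (⇑Q) x c := by
    intro x c
    have h1 : QuadraticMap.polar (⇑Q) x c = Q (x + c) - Q x - Q c := rfl
    rw [h1, hts c c.2]
    ring
  -- the pointwise lower bound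
  have hpt : ∀ x : V, (if x ∈ C then Fintype.card F * Fintype.card C else 0) +
      (if x ∈ P then 0 else Fintype.card C) ≤
      Fintype.card F * ∑ c : C, (if Q (x + c) = 0 then 1 else 0) := by
    intro x
    by_cases hxP : x ∈ P
    · rw [if_pos hxP, add_zero]
      by_cases hxC : x ∈ C
      · rw [if_pos hxC]
        have : ∀ c : C, (if Q (x + c) = 0 then 1 else 0) = 1 := by
          intro c
          rw [if_pos]
          rw [hQ, hts x hxC, (hP x).1 hxP c c.2, add_zero]
        simp only [this]
        rw [Finset.sum_const, Finset.card_univ, smul_eq_mul, mul_one]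
      · rw [if_neg hxC]
        exact Nat.zero_le _
    · have hxC : x ∉ C := by
        intro hxC
        apply hxP
        rw [hP]
        intro n hn
        rw [QuadraticMap.polar, hts _ (C.add_mem hxC hn), hts x hxC, hts n hn]
        ring
      rw [if_neg hxC, if_neg hxP, zero_add]
      -- the functional
      have hex : ∃ n ∈ C, QuadraticMap.polar (⇑Q) x n ≠ 0 := by
        by_contra hcon
        push Not at hcon
        exact hxP ((hP x).2 hcon)
      obtain ⟨n, hn, hne⟩ := hex
      let φ : C →ₗ[F] F := (QuadraticMap.polarBilin Q x).comp C.subtype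
      have hφ : ∀ c : C, φ c = QuadraticMap.polar (⇑Q) x c := fun c => rfl
      have h1 := card_fiber φ ⟨n, hn⟩ (by rw [hφ]; exact hne) (- Q x)
      rw [Fintype.card_subtype, Finset.card_filter] at h1
      rw [← h1]
      apply Nat.mul_le_mul_left
      apply le_of_eq
      refine Finset.sum_congr rfl (fun c _ => ?_)
      have : (φ c = - Q x) ↔ (Q (x + c) = 0) := by
        rw [hQ, hφ]
        constructor
        · intro h; rw [h, add_neg_cancel]
        · intro h; exact eq_neg_of_add_eq_zero_right h
      simp only [this]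
  have hsum := Finset.sum_le_sum (fun x (_ : x ∈ (Finset.univ : Finset V)) => hpt x)
  rw [Finset.sum_add_distrib, ← Finset.mul_sum, hT] at hsum
  have h1 : ∑ x : V, (if x ∈ C then Fintype.card F * Fintype.card C else 0)
      = Fintype.card F * Fintype.card C * Fintype.card C := by
    rw [← Finset.sum_filter, Finset.sum_const, smul_eq_mul, ← Fintype.card_subtype]
    have : Fintype.card {x // x ∈ C} = Fintype.card C := Fintype.card_congr (Equiv.refl _)
    rw [this]
    ring
  have h2 : ∑ x : V, (if x ∈ P then 0 else Fintype.card C) + Fintype.card P * Fintype.card C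
      = Fintype.card V * Fintype.card C := by
    have h3 : ∑ x : V, (if x ∈ P then Fintype.card C else 0) = Fintype.card P * Fintype.card C := by
      rw [← Finset.sum_filter, Finset.sum_const, smul_eq_mul, ← Fintype.card_subtype]
    rw [← h3, ← Finset.sum_add_distrib]
    have : ∀ x : V, ((if x ∈ P then 0 else Fintype.card C) + if x ∈ P then Fintype.card C else 0)
        = Fintype.card C := by
      intro x
      by_cases h : x ∈ P <;> simp [h]
    simp only [this]
    rw [Finset.sum_const, Finset.card_univ, smul_eq_mul]
  rw [h1] at hsum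
  omega

theorem ts_finrank_le [Finite F] [FiniteDimensional F V] (Q : QuadraticForm F V) {j : ℕ}
    (hS : MinusSetting3 Q j) (C : Submodule F V) (hts : ∀ x ∈ C, Q x = 0) : finrank F C ≤ j := by
  classical
  by_contra hlt
  push Not at hlt
  have : Fintype F := Fintype.ofFinite F
  have hVfin : Finite V := Module.finite_of_finite F
  have : Fintype V := Fintype.ofFinite V
  have hF3 : Fintype.card F = 3 := by
    have h1 : (1 : F) ≠ -1 := by
      intro h
      apply hS.two_ne
      have e : (2 : F) = 1 + 1 := by norm_num
      rw [e]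
      nth_rewrite 2 [h]
      exact add_neg_cancel 1
    have huniv : (Finset.univ : Finset F) = {0, 1, -1} := by
      ext c
      simp only [Finset.mem_univ, Finset.mem_insert, Finset.mem_singleton, true_iff]
      exact hS.f3 c
    rw [← Finset.card_univ, huniv,
      Finset.card_insert_of_notMem (by
        simp only [Finset.mem_insert, Finset.mem_singleton, not_or]
        exact ⟨zero_ne_one, fun h => one_ne_zero (neg_eq_zero.1 h.symm)⟩),
      Finset.card_insert_of_notMem (by
        simp only [Finset.mem_singleton]
        exact h1), Finset.card_singleton]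
  set P : Submodule F V := LinearMap.BilinForm.orthogonal (QuadraticMap.polarBilin Q) C with hPdef
  have hP : ∀ x, x ∈ P ↔ ∀ n ∈ C, QuadraticMap.polar (⇑Q) x n = 0 := by
    intro x
    rw [hPdef, LinearMap.BilinForm.mem_orthogonal_iff]
    constructor
    · intro h n hn
      have h1 : (QuadraticMap.polarBilin Q) n x = 0 := h n hn
      rw [QuadraticMap.polarBilin_apply_apply] at h1
      rw [QuadraticMap.polar_comm]
      exact h1
    · intro h n hn
      show (QuadraticMap.polarBilin Q) n x = 0
      rw [QuadraticMap.polarBilin_apply_apply, QuadraticMap.polar_comm]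
      exact h n hn
  have hN0 : Fintype.card {x : V // Q x = 0} = (3 ^ (j + 1) + 1) * (3 ^ j - 1) + 1 := by
    rw [← Nat.card_eq_fintype_card]
    exact hS.nsing
  have hmain := witt_count Q C hts _ hN0 P hP
  -- cardinalities
  have hcV : Fintype.card V = 3 ^ (2 * j + 2) := by
    rw [Module.card_eq_pow_finrank (K := F) (V := V), hF3, hS.dim]
  have hcC : Fintype.card C = 3 ^ finrank F C := by
    rw [Module.card_eq_pow_finrank (K := F) (V := C), hF3]
  have hcP : Fintype.card P = 3 ^ finrank F P := by
    rw [Module.card_eq_pow_finrank (K := F) (V := P), hF3]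
  have hfP : finrank F P = finrank F V - finrank F C :=
    LinearMap.BilinForm.finrank_orthogonal hS.nondeg C
  have hCle : finrank F C ≤ finrank F V := Submodule.finrank_le C
  rw [hS.dim] at hfP hCle
  have hPle : Fintype.card P ≤ Fintype.card C := by
    rw [hcC, hcP]
    apply Nat.pow_le_pow_right (by norm_num)
    omega
  have hCpos : 0 < Fintype.card C := Fintype.card_pos
  rw [hF3, hcV] at hmain
  -- arithmetic
  obtain ⟨x, hx⟩ : ∃ x, x = 3 ^ j := ⟨_, rfl⟩
  have hx1 : 1 ≤ x := by rw [hx]; exact Nat.one_le_pow _ _ (by norm_num)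
  have e1 : 3 ^ (j + 1) = 3 * x := by rw [hx, pow_succ]; ring
  have e3 : 3 ^ (2 * j + 2) = 9 * (x * x) := by rw [hx, pow_add, pow_mul']; ring
  rw [e1, ← hx, e3] at hmain
  obtain ⟨y, rfl⟩ : ∃ y, x = y + 1 := ⟨x - 1, by omega⟩
  rw [Nat.add_sub_cancel] at hmain
  generalize Fintype.card C = c at *
  generalize Fintype.card P = p at *
  -- 3 c c + 9 (y+1)^2 c ≤ 3 c ((3(y+1)+1) y + 1) + p c, p ≤ c, c > 0
  have h3 : 3 * (c * ((3 * (y + 1) + 1) * y + 1)) + p * c ≤
      3 * (c * ((3 * (y + 1) + 1) * y + 1)) + c * c := by
    have : p * c ≤ c * c := Nat.mul_le_mul_right c hPle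
    omega
  have h4 : 3 * c * c + 9 * ((y + 1) * (y + 1)) * c ≤
      3 * (c * ((3 * (y + 1) + 1) * y + 1)) + c * c := le_trans hmain h3
  nlinarith [Nat.mul_le_mul_left c hCpos, Nat.zero_le (c * y), Nat.zero_le (c * c)]

end Cfsg.Agent.Lib.Helper43_M3M_WITT
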