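import Mathlib
import Cfsg.Agent.Lib.Helper73_MGDefs
import Cfsg.Agent.S3707

/-!
# Marggraf's theorem (S3620), helper73's market `mg_packages`, package QP-CONTRA (helper43)

If `G` induces the alternating group on the translates of a block `B` with `1 < |B|`, the kernel of
that action is trivial, and a Jordan set `Γ` is a union of translates containing one translate and
missing two others, we get a contradiction: an element `g` inducing a 3-cycle on the three translates
commutes with an element `j` of the pointwise stabiliser of `Γᶜ` moving a point `p` of the translate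
inside `Γ`; but `j` fixes `g • p ∉ Γ`.
-/

set_option autoImplicit false

namespace Cfsg.Agent.Lib.Helper43_MG_QPCONTRA

open Cfsg.Agent.Lib.Helper73_MG
open MulAction Equiv
open scoped Pointwise

universe u v
variable {G : Type u} {Ω : Type v} [Group G] [MulAction G Ω]

/-- an element fixing `S` pointwise fixes `S` as a set -/
theorem smul_set_eq_of_fix {j : G} {S : Set Ω} (h : ∀ z ∈ S, j • z = z) : j • S = S := by
  ext z
  rw [Set.mem_smul_set]
  constructor
  · rintro ⟨y, hy, rfl⟩
    rw [h y hy]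
    exact hy
  · intro hz
    exact ⟨z, hz, h z hz⟩

/-- QP-CONTRA -/
theorem contra (B : Set Ω) [Fintype (orbit G B)] [DecidableEq (orbit G B)] (hB : IsBlock G B)
    (h1B : 1 < B.ncard)
    (hker : ∀ g : G, (∀ h : G, g • (h • B) = h • B) → g = 1)
    (Γ : Set Ω) (hΓ : JS G Γ) (hun : ∀ h : G, h • B ⊆ Γ ∨ h • B ⊆ Γᶜ)
    (h₁ ha hb : G) (hh₁ : h₁ • B ⊆ Γ) (hha : ha • B ⊆ Γᶜ) (hhb : hb • B ⊆ Γᶜ)
    (hab : ha • B ≠ hb • B)
    (halt : ∀ σ : Perm (orbit G B), Perm.sign σ = 1 →
      ∃ g : G, (toPerm g : Perm (orbit G B)) = σ) : False := by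
  -- two distinct points of `B`
  have hBfin : B.Finite := Set.finite_of_ncard_pos (by omega)
  obtain ⟨b, hb', b', hb'', hbb'⟩ := (Set.one_lt_ncard hBfin).1 h1B
  have hp : h₁ • b ∈ h₁ • B := Set.smul_mem_smul_set hb'
  have hp' : h₁ • b' ∈ h₁ • B := Set.smul_mem_smul_set hb''
  -- the element `j`
  obtain ⟨j, hjfix, hjp⟩ := hΓ (h₁ • b) (hh₁ hp) (h₁ • b') (hh₁ hp')
  have hjS : ∀ S : Set Ω, S ⊆ Γᶜ → j • S = S := fun S hS =>
    smul_set_eq_of_fix (fun z hz => hjfix z (hS hz))
  have hj1 : j • (h₁ • B) = h₁ • B := by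
    rw [← mul_smul]
    apply hB.smul_eq_smul_of_nonempty
    refine ⟨h₁ • b', ?_, hp'⟩
    rw [mul_smul, ← hjp]
    exact Set.smul_mem_smul_set hp
  -- the three translates are distinct
  have h1a : h₁ • B ≠ ha • B := by
    intro h
    exact hha (h ▸ hp) (hh₁ hp)
  have h1b : h₁ • B ≠ hb • B := by
    intro h
    exact hhb (h ▸ hp) (hh₁ hp)
  -- the three points of the orbit
  set C₁ : orbit G B := ⟨h₁ • B, mem_orbit B h₁⟩ with hC₁
  set Ca : orbit G B := ⟨ha • B, mem_orbit B ha⟩ with hCa
  set Cb : orbit G B := ⟨hb • B, mem_orbit B hb⟩ with hCb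
  have n1a : C₁ ≠ Ca := fun h => h1a (congrArg Subtype.val h)
  have n1b : C₁ ≠ Cb := fun h => h1b (congrArg Subtype.val h)
  have nab : Ca ≠ Cb := fun h => hab (congrArg Subtype.val h)
  -- the 3-cycle
  obtain ⟨g, hg⟩ := halt (swap C₁ Ca * swap Ca Cb) (by
    rw [Perm.sign_mul, Perm.sign_swap n1a, Perm.sign_swap nab]
    rfl)
  have key : ∀ C : orbit G B, g • (C : Set Ω) =
      (((swap C₁ Ca * swap Ca Cb) C : orbit G B) : Set Ω) := by
    intro C
    rw [← hg]
    rfl
  have hg1 : g • (h₁ • B) = ha • B := by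
    have := key C₁
    rw [Perm.mul_apply, swap_apply_of_ne_of_ne n1a n1b, swap_apply_left] at this
    exact this
  have hga : g • (ha • B) = hb • B := by
    have := key Ca
    rw [Perm.mul_apply, swap_apply_left, swap_apply_of_ne_of_ne n1b.symm nab.symm] at this
    exact this
  have hgb : g • (hb • B) = h₁ • B := by
    have := key Cb
    rw [Perm.mul_apply, swap_apply_right, swap_apply_right] at this
    exact this
  have hgo : ∀ h : G, h • B ≠ h₁ • B → h • B ≠ ha • B → h • B ≠ hb • B →
      g • (h • B) = h • B := by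
    intro h n1 n2 n3
    have hC1 : (⟨h • B, mem_orbit B h⟩ : orbit G B) ≠ C₁ := fun e => n1 (congrArg Subtype.val e)
    have hC2 : (⟨h • B, mem_orbit B h⟩ : orbit G B) ≠ Ca := fun e => n2 (congrArg Subtype.val e)
    have hC3 : (⟨h • B, mem_orbit B h⟩ : orbit G B) ≠ Cb := fun e => n3 (congrArg Subtype.val e)
    have := key ⟨h • B, mem_orbit B h⟩
    rw [Perm.mul_apply, swap_apply_of_ne_of_ne hC2 hC3, swap_apply_of_ne_of_ne hC1 hC2] at this
    exact this
  -- `g j` and `j g` act in the same way on every translate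
  have hcomm : ∀ h : G, (g * j) • (h • B) = (j * g) • (h • B) := by
    intro h
    rw [mul_smul, mul_smul]
    by_cases e1 : h • B = h₁ • B
    · rw [e1, hj1, hg1, hjS _ hha]
    by_cases ea : h • B = ha • B
    · rw [ea, hjS _ hha, hga, hjS _ hhb]
    by_cases eb : h • B = hb • B
    · rw [eb, hjS _ hhb, hgb, hj1]
    rw [hgo h e1 ea eb]
    have e : j • (h • B) = (j * h) • B := (mul_smul j h B).symm
    rw [e]
    apply hgo
    · rw [← e, ← hj1]
      intro h'
      exact e1 (smul_left_cancel j h')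
    · rw [← e]
      intro h'
      rw [← hjS _ hha] at h'
      exact ea (smul_left_cancel j h')
    · rw [← e]
      intro h'
      rw [← hjS _ hhb] at h'
      exact eb (smul_left_cancel j h')
  have hx : (g * j) * (j * g)⁻¹ = 1 := by
    apply hker
    intro h
    have e : (j * g)⁻¹ • (h • B) = ((j * g)⁻¹ * h) • B := (mul_smul _ _ _).symm
    rw [mul_smul, e, hcomm, ← e, smul_inv_smul]
  have hgj : g * j = j * g := mul_inv_eq_one.1 hx
  -- `j` fixes `g • p`
  have hgp : g • (h₁ • b) ∈ Γᶜ := by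
    apply hha
    rw [← hg1]
    exact Set.smul_mem_smul_set hp
  have h1 : j • (g • (h₁ • b)) = g • (h₁ • b) := hjfix _ hgp
  have h2 : j • (g • (h₁ • b)) = g • (h₁ • b') := by
    rw [← mul_smul, ← hgj, mul_smul, hjp]
  rw [h1] at h2
  exact hbb' (smul_left_cancel h₁ (smul_left_cancel g h2))

end Cfsg.Agent.Lib.Helper43_MG_QPCONTRA
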