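import Mathlib
import Cfsg.Agent.Lib.Helper6_MXDefs

/-!
# S4017 (architect helper6), package MX-D5B1 (formalised by helper43)

Case I: a nontrivial `p`-element `y` centralizing `Q` is not inverted by any element `t`.
`C(y) ⊆ N(Q)` (D4), `N(Q) ⊆ C(y)` (D3); `t` normalizes `C(y)`, so `t v t⁻¹ ∈ N(Q)` for `v ∈ Q`, a
2-element, hence in `Q`; so `t ∈ N(Q) ⊆ C(y)`, `y = y⁻¹`, `y ^ 2 = 1`, `y = 1` as `p` is odd.
-/

set_option autoImplicit false
set_option linter.unusedVariables false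
set_option linter.unusedSectionVars false

open Cfsg.Agent.Lib.Helper6_MXDefs

namespace Cfsg.Agent.Lib.Helper43_MX_D5B1

variable {G : Type*} [Group G] [Finite G] {p a : ℕ} {Q : Subgroup G} {x : G}

/-- MX-D5B1. -/
theorem caseI_noinv (hF : UFacts G p a) (hD3 : D3Prop G p a) (hD4 : D4Prop G p a) :
    D5b1Prop G p a := by
  intro Q x h hI y hy1 hyp hyC t ht
  have F := hF Q x h
  have hD4' : ∀ g : G, g * y = y * g → g ∈ NQ Q := hD4 Q x h hI y hy1 hyp hyC
  have hD3' : ∀ n ∈ NQ Q, n * y = y * n := hD3 Q x h hI y hyp hyC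
  -- `t` normalizes `Q`
  have htN : t ∈ NQ Q := by
    apply Subgroup.mem_normalizer_fintype
    intro v hv
    have hvQ : v ∈ Q := hv
    have hvy : y * v = v * y := hyC v hvQ
    -- `t v t⁻¹` commutes with `y⁻¹ = t y t⁻¹`, hence with `y`
    have hc1 : (t * v * t⁻¹) * y⁻¹ = y⁻¹ * (t * v * t⁻¹) := by
      rw [← ht]
      have e1 : t * v * t⁻¹ * (t * y * t⁻¹) = t * (v * y) * t⁻¹ := by group
      have e2 : t * y * t⁻¹ * (t * v * t⁻¹) = t * (y * v) * t⁻¹ := by group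
      rw [e1, e2, hvy]
    have hc2 : (t * v * t⁻¹) * y = y * (t * v * t⁻¹) := by
      have : y * (t * v * t⁻¹ * y⁻¹) * y = y * (y⁻¹ * (t * v * t⁻¹)) * y :=
        congrArg (fun z => y * z * y) hc1
      have e3 : y * (t * v * t⁻¹ * y⁻¹) * y = y * (t * v * t⁻¹) := by group
      have e4 : y * (y⁻¹ * (t * v * t⁻¹)) * y = (t * v * t⁻¹) * y := by group
      rw [e3, e4] at this
      exact this.symm
    have hmemN : t * v * t⁻¹ ∈ NQ Q := hD4' _ hc2
    have h2el : ∃ k : ℕ, (t * v * t⁻¹) ^ 2 ^ k = 1 := by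
      refine ⟨1, ?_⟩
      rw [pow_one, pow_two]
      have hvv : v * v = 1 := F.elem.1 v hvQ
      have e5 : t * v * t⁻¹ * (t * v * t⁻¹) = t * (v * v) * t⁻¹ := by group
      rw [e5, hvv]
      group
    exact F.twoN _ hmemN h2el
  have hty : t * y = y * t := hD3' t htN
  have hyy : y = y⁻¹ := by
    rw [← ht, hty]
    group
  have hy2 : y ^ 2 = 1 := by
    rw [pow_two]
    nth_rewrite 2 [hyy]
    exact mul_inv_cancel y
  obtain ⟨k, hk⟩ := hyp
  have ho2 : orderOf y ∣ 2 := orderOf_dvd_of_pow_eq_one hy2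
  have hop : orderOf y ∣ p ^ k := orderOf_dvd_of_pow_eq_one hk
  have hcop : Nat.Coprime 2 (p ^ k) := by
    apply Nat.Coprime.pow_right
    rw [Nat.coprime_primes Nat.prime_two h.hp]
    exact fun e => h.hp2 e.symm
  have ho1 : orderOf y ∣ 1 := by
    have := Nat.dvd_gcd ho2 hop
    rwa [hcop] at this
  apply hy1
  exact orderOf_eq_one_iff.1 (Nat.dvd_one.1 ho1)

end Cfsg.Agent.Lib.Helper43_MX_D5B1
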