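import Mathlib

set_option autoImplicit false

/-!
Counting nilpotent endomorphisms (Fine-Herstein), part 1: Krylov sequences and heights.
-/

namespace Cfsg.Agent.Lib.Helper43_NilCount

open Module

variable {F : Type*} [Field F]
variable {V : Type*} [AddCommGroup V] [Module F V]

theorem pow_apply_eq_zero_of_le (N : End F V) (v : V) {a b : ℕ} (hab : a ≤ b)
    (h : (N ^ a) v = 0) : (N ^ b) v = 0 := by
  obtain ⟨t, rfl⟩ := Nat.exists_eq_add_of_le hab
  rw [add_comm, pow_add, Module.End.mul_apply, h, map_zero]

/-- the Krylov vectors `v, N v, …, N^(m-1) v` are independent when `N^(m-1) v ≠ 0 = N^m v` -/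
theorem linearIndependent_krylov (N : End F V) (v : V) (m : ℕ) (h0 : (N ^ m) v = 0)
    (h1 : m = 0 ∨ (N ^ (m - 1)) v ≠ 0) :
    LinearIndependent F (fun i : Fin m => (N ^ i.1) v) := by
  rw [Fintype.linearIndependent_iff]
  intro c hc
  have key : ∀ k : ℕ, ∀ i : Fin m, i.1 = k → c i = 0 := by
    intro k
    induction k using Nat.strong_induction_on with
    | _ k ih =>
      intro i hik
      have hm : m ≠ 0 := by have := i.2; omega
      have happ := congrArg (N ^ (m - 1 - i.1)) hc
      rw [map_sum, map_zero, Finset.sum_eq_single i] at happ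
      · rw [map_smul, ← Module.End.mul_apply, ← pow_add,
          show m - 1 - i.1 + i.1 = m - 1 by have := i.2; omega] at happ
        exact (smul_eq_zero.1 happ).resolve_right (h1.resolve_left hm)
      · intro j _ hji
        rw [map_smul]
        rcases lt_or_gt_of_ne (Fin.val_ne_of_ne hji) with hlt | hgt
        · rw [ih j.1 (by omega) j rfl, zero_smul]
        · rw [← Module.End.mul_apply, ← pow_add,
            pow_apply_eq_zero_of_le N v (a := m) (by have := i.2; omega) h0, smul_zero]
      · intro h
        exact absurd (Finset.mem_univ i) h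
  intro i
  exact key i.1 i rfl

section height

open Classical in
/-- the height of `v` under the nilpotent endomorphism `N`: the least `k` with `N^k v = 0` -/
noncomputable def ht (N : End F V) (v : V) : ℕ :=
  if h : ∃ k, (N ^ k) v = 0 then Nat.find h else 0

theorem ht_spec (N : End F V) (hN : IsNilpotent N) (v : V) : (N ^ ht N v) v = 0 := by
  classical
  have h : ∃ k, (N ^ k) v = 0 := by
    obtain ⟨k, hk⟩ := hN
    exact ⟨k, by rw [hk, LinearMap.zero_apply]⟩
  unfold ht
  rw [dif_pos h]
  exact Nat.find_spec h

theorem ht_min (N : End F V) (v : V) {k : ℕ} (hk : k < ht N v) : (N ^ k) v ≠ 0 := by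
  classical
  unfold ht at hk
  by_cases h : ∃ k, (N ^ k) v = 0
  · rw [dif_pos h] at hk
    exact Nat.find_min h hk
  · rw [dif_neg h] at hk
    omega

theorem ht_eq (N : End F V) (v : V) (m : ℕ) (h0 : (N ^ m) v = 0)
    (h1 : m = 0 ∨ (N ^ (m - 1)) v ≠ 0) : ht N v = m := by
  classical
  have h : ∃ k, (N ^ k) v = 0 := ⟨m, h0⟩
  unfold ht
  rw [dif_pos h]
  apply le_antisymm
  · exact Nat.find_min' h h0
  · by_contra hlt
    push Not at hlt
    rcases h1 with rfl | h1
    · omega
    · apply h1
      exact pow_apply_eq_zero_of_le N v (by omega) (Nat.find_spec h)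

theorem ht_pred_ne (N : End F V) (v : V) : ht N v = 0 ∨ (N ^ (ht N v - 1)) v ≠ 0 := by
  by_cases h : ht N v = 0
  · exact Or.inl h
  · exact Or.inr (ht_min N v (by omega))

theorem ht_le_finrank [FiniteDimensional F V] (N : End F V) (hN : IsNilpotent N) (v : V) :
    ht N v ≤ finrank F V := by
  have h := linearIndependent_krylov N v (ht N v) (ht_spec N hN v) (ht_pred_ne N v)
  have := h.fintype_card_le_finrank
  rwa [Fintype.card_fin] at this

theorem ht_eq_zero_iff (N : End F V) (hN : IsNilpotent N) (v : V) : ht N v = 0 ↔ v = 0 := by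
  constructor
  · intro h
    have := ht_spec N hN v
    rwa [h, pow_zero, Module.End.one_apply] at this
  · rintro rfl
    exact ht_eq N 0 0 (by simp) (Or.inl rfl)

end height

/-- counting the fibres of a function with constant fibre size -/
theorem card_fibers {α β : Type*} [Finite α] [Finite β] (f : α → β) (c : ℕ)
    (h : ∀ b, Nat.card {a // f a = b} = c) : Nat.card α = Nat.card β * c := by
  classical
  have := Fintype.ofFinite β
  rw [← Nat.card_congr (Equiv.sigmaFiberEquiv f), Nat.card_sigma]
  simp only [h, Finset.sum_const, Finset.card_univ, smul_eq_mul, Nat.card_eq_fintype_card]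

/-- splitting a finite type according to a bounded natural-valued function -/
theorem card_eq_sum_fibers {α : Type*} [Finite α] (f : α → ℕ) (d : ℕ) (hf : ∀ a, f a ≤ d) :
    Nat.card α = ∑ m ∈ Finset.range (d + 1), Nat.card {a // f a = m} := by
  classical
  let g : α → Fin (d + 1) := fun a => ⟨f a, Nat.lt_succ_of_le (hf a)⟩
  rw [← Nat.card_congr (Equiv.sigmaFiberEquiv g), Nat.card_sigma, ← Fin.sum_univ_eq_sum_range
    (fun m => Nat.card {a // f a = m})]
  apply Finset.sum_congr rfl
  intro m _
  apply Nat.card_congr
  apply Equiv.subtypeEquivRight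
  intro a
  exact Fin.ext_iff

end Cfsg.Agent.Lib.Helper43_NilCount
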