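import Cfsg.Agent.Lib.Helper43_NilCount1

set_option autoImplicit false

/-!
Counting nilpotent endomorphisms (Fine-Herstein), part 2: nilpotent endomorphisms extending a
given chain.
-/

namespace Cfsg.Agent.Lib.Helper43_NilCount

open Module

section general

variable {F : Type*} [Field F]
variable {V : Type*} [AddCommGroup V] [Module F V]

/-- `N` maps `s i` to `s (i + 1)` and the last vector to zero -/
def IsChain (N : End F V) {m : ℕ} (s : Fin m → V) : Prop :=
  ∀ i : Fin m, N (s i) = if h : i.1 + 1 < m then s ⟨i.1 + 1, h⟩ else 0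

theorem IsChain.pow_apply {N : End F V} {m : ℕ} {s : Fin m → V} (hs : IsChain N s) (k : ℕ)
    (i : Fin m) : (N ^ k) (s i) = if h : i.1 + k < m then s ⟨i.1 + k, h⟩ else 0 := by
  induction k with
  | zero =>
    rw [pow_zero, Module.End.one_apply, dif_pos (by simp)]
    rfl
  | succ k ih =>
    rw [pow_succ', Module.End.mul_apply, ih]
    by_cases h : i.1 + k < m
    · rw [dif_pos h, hs ⟨i.1 + k, h⟩]
      by_cases h' : i.1 + (k + 1) < m
      · rw [dif_pos h', dif_pos (by simpa [add_assoc] using h')]
        rfl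
      · rw [dif_neg h', dif_neg (by simpa [add_assoc] using h')]
    · rw [dif_neg h, map_zero, dif_neg (by omega)]

theorem IsChain.map_span_le {N : End F V} {m : ℕ} {s : Fin m → V} (hs : IsChain N s) :
    ∀ w ∈ Submodule.span F (Set.range s), N w ∈ Submodule.span F (Set.range s) := by
  have : Submodule.span F (Set.range s) ≤ (Submodule.span F (Set.range s)).comap N := by
    rw [Submodule.span_le]
    rintro _ ⟨i, rfl⟩
    show N (s i) ∈ Submodule.span F (Set.range s)
    rw [hs i]
    split_ifs with h
    · exact Submodule.subset_span ⟨_, rfl⟩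
    · exact Submodule.zero_mem _
  exact fun w hw => this hw

theorem IsChain.pow_span_eq_zero {N : End F V} {m : ℕ} {s : Fin m → V} (hs : IsChain N s) :
    ∀ w ∈ Submodule.span F (Set.range s), (N ^ m) w = 0 := by
  have : Submodule.span F (Set.range s) ≤ LinearMap.ker (N ^ m) := by
    rw [Submodule.span_le]
    rintro _ ⟨i, rfl⟩
    show s i ∈ LinearMap.ker (N ^ m)
    rw [LinearMap.mem_ker, hs.pow_apply, dif_neg (by omega)]
  exact fun w hw => LinearMap.mem_ker.1 (this hw)

/-- the Krylov sequence is a chain -/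
theorem isChain_krylov (N : End F V) (v : V) (m : ℕ) (h0 : (N ^ m) v = 0) :
    IsChain N (fun i : Fin m => (N ^ i.1) v) := by
  intro i
  show N ((N ^ i.1) v) = _
  rw [← Module.End.mul_apply, ← pow_succ']
  by_cases h : i.1 + 1 < m
  · rw [dif_pos h]
  · rw [dif_neg h]
    have : i.1 + 1 = m := by have := i.2; omega
    rw [this, h0]

/-- a chain is the Krylov sequence of its first vector -/
theorem IsChain.eq_krylov {N : End F V} {m : ℕ} {s : Fin m → V} (hs : IsChain N s) (i : Fin m) :
    s i = (N ^ i.1) (s ⟨0, by have := i.2; omega⟩) := by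
  rw [hs.pow_apply, dif_pos (by simp)]
  congr 1
  apply Fin.ext
  simp

variable {W C : Submodule F V} (hWC : IsCompl W C)

/-- the endomorphism of the complement `C` induced by `N` -/
noncomputable def induced (N : End F V) : End F C :=
  (Submodule.projectionOnto C W hWC.symm) ∘ₗ N ∘ₗ C.subtype

theorem proj_comm (N : End F V) (hW : ∀ w ∈ W, N w ∈ W) (x : V) :
    Submodule.projectionOnto C W hWC.symm (N x) =
      induced hWC N (Submodule.projectionOnto C W hWC.symm x) := by
  have hx : x ∈ W ⊔ C := by rw [hWC.sup_eq_top]; exact Submodule.mem_top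
  obtain ⟨w, hw, c, hc, rfl⟩ := Submodule.mem_sup.1 hx
  have h1 : Submodule.projectionOnto C W hWC.symm w = 0 :=
    Submodule.projectionOnto_apply_right hWC.symm ⟨w, hw⟩
  have h2 : Submodule.projectionOnto C W hWC.symm (N w) = 0 :=
    Submodule.projectionOnto_apply_right hWC.symm ⟨N w, hW w hw⟩
  have h3 : Submodule.projectionOnto C W hWC.symm c = ⟨c, hc⟩ :=
    Submodule.projectionOnto_apply_left hWC.symm ⟨c, hc⟩
  rw [map_add, map_add, map_add, h1, h2, h3, zero_add, zero_add]
  rfl

theorem proj_pow_comm (N : End F V) (hW : ∀ w ∈ W, N w ∈ W) (k : ℕ) (x : V) :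
    Submodule.projectionOnto C W hWC.symm ((N ^ k) x) =
      (induced hWC N ^ k) (Submodule.projectionOnto C W hWC.symm x) := by
  induction k generalizing x with
  | zero => simp
  | succ k ih =>
    rw [pow_succ, Module.End.mul_apply, ih, proj_comm hWC N hW, pow_succ, Module.End.mul_apply]

/-- nilpotency of a block-triangular endomorphism -/
theorem isNilpotent_iff_induced (N : End F V) (hW : ∀ w ∈ W, N w ∈ W) (a : ℕ)
    (ha : ∀ w ∈ W, (N ^ a) w = 0) : IsNilpotent N ↔ IsNilpotent (induced hWC N) := by
  constructor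
  · rintro ⟨k, hk⟩
    refine ⟨k, ?_⟩
    apply LinearMap.ext
    intro c
    have := proj_pow_comm hWC N hW k c
    rw [hk, LinearMap.zero_apply, map_zero,
      Submodule.projectionOnto_apply_left hWC.symm c] at this
    rw [← this, LinearMap.zero_apply]
  · rintro ⟨k, hk⟩
    refine ⟨a + k, ?_⟩
    apply LinearMap.ext
    intro x
    have h1 := proj_pow_comm hWC N hW k x
    rw [hk, LinearMap.zero_apply, Submodule.projectionOnto_apply_eq_zero_iff] at h1
    rw [pow_add, Module.End.mul_apply, ha _ h1, LinearMap.zero_apply]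

end general

section finite

variable {F : Type*} [Field F]
variable {V : Type*} [AddCommGroup V] [Module F V] [Finite V]

/-- the number of nilpotent endomorphisms -/
noncomputable def nilCount (F : Type*) [Field F] (V : Type*) [AddCommGroup V] [Module F V] : ℕ :=
  Nat.card {N : End F V // IsNilpotent N}

theorem finite_linearMap {M M' : Type*} [AddCommGroup M] [Module F M] [AddCommGroup M']
    [Module F M'] [Finite M] [Finite M'] : Finite (M →ₗ[F] M') :=
  Finite.of_injective (fun f => (f : M → M')) DFunLike.coe_injective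

/-- the maps `C → V` whose `C`-component is nilpotent: `|Hom(C, W)|` times the number of nilpotent
endomorphisms of `C` -/
theorem card_maps_nilpotent {W C : Submodule F V} (hWC : IsCompl W C) :
    Nat.card {ψ : C →ₗ[F] V // IsNilpotent ((Submodule.projectionOnto C W hWC.symm) ∘ₗ ψ)} =
      nilCount F C * Nat.card (C →ₗ[F] W) := by
  let Ψ : {ψ : C →ₗ[F] V // IsNilpotent ((Submodule.projectionOnto C W hWC.symm) ∘ₗ ψ)} →
      {N' : End F C // IsNilpotent N'} := fun ψ => ⟨_, ψ.2⟩
  have : Finite (C →ₗ[F] V) := finite_linearMap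
  have : Finite (End F C) := finite_linearMap
  apply card_fibers Ψ
  intro N'
  apply Nat.card_congr
  have hproj : ∀ B : C →ₗ[F] W, (Submodule.projectionOnto C W hWC.symm) ∘ₗ
      (W.subtype ∘ₗ B + C.subtype ∘ₗ N'.1) = N'.1 := by
    intro B
    apply LinearMap.ext
    intro c
    rw [LinearMap.comp_apply, LinearMap.add_apply, map_add, LinearMap.comp_apply,
      LinearMap.comp_apply, Submodule.subtype_apply, Submodule.subtype_apply,
      Submodule.projectionOnto_apply_right hWC.symm (B c),
      Submodule.projectionOnto_apply_left hWC.symm (N'.1 c), zero_add]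
  have hmem : ∀ x : {a // Ψ a = N'}, ∀ c, (x.1.1 - C.subtype ∘ₗ N'.1) c ∈ W := by
    intro x c
    have hx : (Submodule.projectionOnto C W hWC.symm) ∘ₗ x.1.1 = N'.1 :=
      congrArg Subtype.val x.2
    rw [← Submodule.projectionOnto_apply_eq_zero_iff hWC.symm, LinearMap.sub_apply, map_sub,
      LinearMap.comp_apply, Submodule.subtype_apply,
      Submodule.projectionOnto_apply_left hWC.symm (N'.1 c), ← hx, LinearMap.comp_apply, sub_self]
  refine
    { toFun := fun x => LinearMap.codRestrict W (x.1.1 - C.subtype ∘ₗ N'.1) (hmem x)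
      invFun := fun B => ⟨⟨W.subtype ∘ₗ B + C.subtype ∘ₗ N'.1, ?_⟩, ?_⟩
      left_inv := fun x => ?_
      right_inv := fun B => ?_ }
  · rw [hproj B]
    exact N'.2
  · apply Subtype.ext
    exact hproj B
  · apply Subtype.ext
    apply Subtype.ext
    apply LinearMap.ext
    intro c
    show ((LinearMap.codRestrict W (x.1.1 - C.subtype ∘ₗ N'.1) (hmem x) c : W) : V) +
      ((N'.1 c : C) : V) = x.1.1 c
    rw [LinearMap.codRestrict_apply, LinearMap.sub_apply, LinearMap.comp_apply,
      Submodule.subtype_apply, sub_add_cancel]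
  · apply LinearMap.ext
    intro c
    apply Subtype.ext
    rw [LinearMap.codRestrict_apply, LinearMap.sub_apply, LinearMap.add_apply, add_sub_cancel_right,
      LinearMap.comp_apply, Submodule.subtype_apply]

/-- the nilpotent endomorphisms extending a given chain -/
theorem card_chain_extensions {m : ℕ} (s : Fin m → V) (hs : LinearIndependent F s)
    (C : Submodule F V) (hWC : IsCompl (Submodule.span F (Set.range s)) C) :
    Nat.card {N : End F V // IsNilpotent N ∧ IsChain N s} =
      nilCount F C * Nat.card (C →ₗ[F] Submodule.span F (Set.range s)) := by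
  rw [← card_maps_nilpotent hWC]
  -- the chain map on `W`
  let bW := Basis.span hs
  let J : Submodule.span F (Set.range s) →ₗ[F] V :=
    bW.constr F (fun i : Fin m => if h : i.1 + 1 < m then s ⟨i.1 + 1, h⟩ else 0)
  have hJ : ∀ i : Fin m, J ⟨s i, Submodule.subset_span ⟨i, rfl⟩⟩ =
      if h : i.1 + 1 < m then s ⟨i.1 + 1, h⟩ else 0 := by
    intro i
    have h1 : bW i = ⟨s i, Submodule.subset_span ⟨i, rfl⟩⟩ := Basis.span_apply hs i
    rw [← h1]
    exact Basis.constr_basis bW F _ i
  have hwell : ∀ N : {N : End F V // IsNilpotent N ∧ IsChain N s},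
      IsNilpotent ((Submodule.projectionOnto C _ hWC.symm) ∘ₗ (N.1 ∘ₗ C.subtype)) := by
    intro N
    exact (isNilpotent_iff_induced hWC N.1 N.2.2.map_span_le m N.2.2.pow_span_eq_zero).1 N.2.1
  apply Nat.card_eq_of_bijective
    (fun N : {N : End F V // IsNilpotent N ∧ IsChain N s} =>
      (⟨N.1 ∘ₗ C.subtype, hwell N⟩ : {ψ : C →ₗ[F] V //
        IsNilpotent ((Submodule.projectionOnto C _ hWC.symm) ∘ₗ ψ)}))
  constructor
  · intro N N' h
    have hC : N.1 ∘ₗ C.subtype = N'.1 ∘ₗ C.subtype := congrArg Subtype.val h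
    apply Subtype.ext
    apply LinearMap.ext
    intro x
    have hx : x ∈ Submodule.span F (Set.range s) ⊔ C := by
      rw [hWC.sup_eq_top]; exact Submodule.mem_top
    obtain ⟨w, hw, c, hc, rfl⟩ := Submodule.mem_sup.1 hx
    have h1 : N.1 c = N'.1 c := LinearMap.congr_fun hC ⟨c, hc⟩
    have h2 : N.1 w = N'.1 w := by
      have : Set.EqOn N.1 N'.1 (Set.range s) := by
        rintro _ ⟨i, rfl⟩
        rw [N.2.2 i, N'.2.2 i]
      exact LinearMap.eqOn_span this hw
    rw [map_add, map_add, h1, h2]
  · rintro ⟨ψ, hψ⟩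
    let N : End F V := LinearMap.ofIsCompl hWC J ψ
    have hNW : ∀ w : Submodule.span F (Set.range s), N w = J w :=
      fun w => LinearMap.ofIsCompl_apply_left hWC w
    have hNC : ∀ c : C, N c = ψ c := fun c => LinearMap.ofIsCompl_apply_right hWC c
    have hchain : IsChain N s := by
      intro i
      have := hNW ⟨s i, Submodule.subset_span ⟨i, rfl⟩⟩
      rw [hJ i] at this
      exact this
    have hcomp : N ∘ₗ C.subtype = ψ := LinearMap.ext hNC
    have hnil : IsNilpotent N := by
      rw [isNilpotent_iff_induced hWC N hchain.map_span_le m hchain.pow_span_eq_zero]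
      unfold induced
      rw [hcomp]
      exact hψ
    exact ⟨⟨N, hnil, hchain⟩, Subtype.ext hcomp⟩

end finite

end Cfsg.Agent.Lib.Helper43_NilCount
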