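import Cfsg.Agent.Lib.Helper43_NilCount2

set_option autoImplicit false

/-!
Counting nilpotent endomorphisms (Fine-Herstein), part 3: the count `q ^ (d * (d - 1))`.
-/

namespace Cfsg.Agent.Lib.Helper43_NilCount

open Module

universe u v

section arithmetic

/-- `∏ i < m, (q ^ d - q ^ i)`: the number of independent `m`-sequences in dimension `d` -/
def injCount (q d m : ℕ) : ℕ := ∏ i ∈ Finset.range m, (q ^ d - q ^ i)

theorem injCount_succ (q d m : ℕ) : injCount q d (m + 1) = injCount q d m * (q ^ d - q ^ m) :=
  Finset.prod_range_succ _ _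

theorem telescoping (q d : ℕ) (hq : 1 ≤ q) (k : ℕ) (hk : k + 1 ≤ d) :
    ∑ t ∈ Finset.range (k + 1), injCount q d (d - t) * q ^ (t * (d - 1)) =
      injCount q d (d - k) * q ^ (d * k) := by
  induction k with
  | zero => simp
  | succ k ih =>
    rw [Finset.sum_range_succ, ih (by omega)]
    have h1 : d - k = (d - (k + 1)) + 1 := by omega
    rw [h1, injCount_succ]
    have hle : q ^ (d - (k + 1)) ≤ q ^ d := Nat.pow_le_pow_right hq (by omega)
    have e1 : q ^ ((k + 1) * (d - 1)) = q ^ (d - (k + 1)) * q ^ (d * k) := by
      rw [← pow_add]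
      congr 1
      obtain ⟨e, rfl⟩ : ∃ e, d = e + (k + 2) := ⟨d - (k + 2), by omega⟩
      have a1 : e + (k + 2) - 1 = e + k + 1 := by omega
      have a2 : e + (k + 2) - (k + 1) = e + 1 := by omega
      rw [a1, a2]
      ring
    have e2 : q ^ (d * (k + 1)) = q ^ d * q ^ (d * k) := by
      rw [← pow_add]
      congr 1
      ring
    rw [e1, e2]
    calc injCount q d (d - (k + 1)) * (q ^ d - q ^ (d - (k + 1))) * q ^ (d * k) +
          injCount q d (d - (k + 1)) * (q ^ (d - (k + 1)) * q ^ (d * k))
        = injCount q d (d - (k + 1)) * ((q ^ d - q ^ (d - (k + 1)) + q ^ (d - (k + 1))) *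
            q ^ (d * k)) := by ring
      _ = injCount q d (d - (k + 1)) * (q ^ d * q ^ (d * k)) := by rw [Nat.sub_add_cancel hle]

theorem sum_eq (q d : ℕ) (hq : 1 ≤ q) (hd : 1 ≤ d) :
    ∑ m ∈ Finset.range d, injCount q d (m + 1) * q ^ ((d - m - 1) * (d - 1)) =
      (q ^ d - 1) * q ^ (d * (d - 1)) := by
  have h := telescoping q d hq (d - 1) (by omega)
  rw [show d - 1 + 1 = d by omega] at h
  have h2 : injCount q d (d - (d - 1)) = q ^ d - 1 := by
    rw [show d - (d - 1) = 0 + 1 by omega, injCount_succ]
    simp [injCount]
  rw [h2] at h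
  rw [← h, ← Finset.sum_range_reflect]
  apply Finset.sum_congr rfl
  intro t ht
  rw [Finset.mem_range] at ht
  have a1 : d - 1 - t + 1 = d - t := by omega
  have a2 : d - (d - 1 - t) - 1 = t := by omega
  rw [a1, a2]

end arithmetic

section main

variable {F : Type v} [Field F] [Fintype F]

/-- the fibre of the height function over `m ≥ 1` -/
theorem card_height_fiber {V : Type u} [AddCommGroup V] [Module F V] [Finite V] (m : ℕ)
    (hm : 1 ≤ m) (hmd : m ≤ finrank F V) (c : ℕ)
    (hc : ∀ s : Fin m → V, LinearIndependent F s →
      Nat.card {N : End F V // IsNilpotent N ∧ IsChain N s} = c) :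
    Nat.card {x : {N : End F V // IsNilpotent N} × V // ht x.1.1 x.2 = m} =
      injCount (Fintype.card F) (finrank F V) m * c := by
  classical
  have : Finite (End F V) := finite_linearMap
  have hcard := card_linearIndependent (K := F) (V := V) hmd
  rw [Fin.prod_univ_eq_prod_range (fun i => Fintype.card F ^ finrank F V - Fintype.card F ^ i) m]
    at hcard
  rw [injCount, ← hcard]
  let g : {x : {N : End F V // IsNilpotent N} × V // ht x.1.1 x.2 = m} →
      {s : Fin m → V // LinearIndependent F s} := fun x =>
    ⟨fun i => (x.1.1.1 ^ i.1) x.1.2, by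
      have h1 := ht_spec x.1.1.1 x.1.1.2 x.1.2
      have h2 := ht_pred_ne x.1.1.1 x.1.2
      rw [x.2] at h1 h2
      exact linearIndependent_krylov _ _ _ h1 h2⟩
  apply card_fibers g
  intro s
  rw [← hc s.1 s.2]
  apply Nat.card_congr
  have h0 : 0 < m := hm
  refine
    { toFun := fun y => ⟨y.1.1.1.1, y.1.1.1.2, ?_⟩
      invFun := fun N => ⟨⟨(⟨N.1, N.2.1⟩, s.1 ⟨0, h0⟩), ?_⟩, ?_⟩
      left_inv := fun y => ?_
      right_inv := fun N => rfl }
  · have hy : (g y.1).1 = s.1 := congrArg Subtype.val y.2
    rw [← hy]
    apply isChain_krylov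
    have h1 := ht_spec y.1.1.1.1 y.1.1.1.2 y.1.1.2
    rw [y.1.2] at h1
    exact h1
  · apply ht_eq
    · rw [N.2.2.pow_apply, dif_neg (by simp)]
    · right
      rw [N.2.2.pow_apply, dif_pos (by simp; omega)]
      exact s.2.ne_zero _
  · apply Subtype.ext
    funext i
    exact (N.2.2.eq_krylov i).symm
  · have hy : (g y.1).1 = s.1 := congrArg Subtype.val y.2
    apply Subtype.ext
    apply Subtype.ext
    apply Prod.ext
    · rfl
    · show s.1 ⟨0, h0⟩ = y.1.1.2
      rw [← hy]
      show (y.1.1.1.1 ^ 0) y.1.1.2 = y.1.1.2
      rw [pow_zero, Module.End.one_apply]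

/-- **Fine-Herstein**: a `d`-dimensional space over the field with `q` elements has
`q ^ (d * (d - 1))` nilpotent endomorphisms. -/
theorem nilCount_eq : ∀ (d : ℕ) (V : Type u) [AddCommGroup V] [Module F V] [Finite V],
    finrank F V = d → nilCount F V = Fintype.card F ^ (d * (d - 1)) := by
  intro d
  induction d using Nat.strong_induction_on with
  | _ d ih =>
    intro V _ _ _ hd
    classical
    have hq : 1 ≤ Fintype.card F := Fintype.card_pos
    have hq2 : 2 ≤ Fintype.card F := Fintype.one_lt_card
    have hFin : Finite (End F V) := finite_linearMap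
    rcases Nat.eq_zero_or_pos d with rfl | hdpos
    · -- dimension zero
      have hsub : Subsingleton V := Module.finrank_zero_iff.1 hd
      have : Subsingleton (End F V) := ⟨fun a b => LinearMap.ext fun x => Subsingleton.elim _ _⟩
      have : Unique {N : End F V // IsNilpotent N} :=
        { default := ⟨0, IsNilpotent.zero⟩
          uniq := fun a => Subtype.ext (Subsingleton.elim _ _) }
      unfold nilCount
      rw [Nat.card_unique]
      simp
    · -- positive dimension
      have hVcard : Nat.card V = Fintype.card F ^ d := by
        rw [Module.natCard_eq_pow_finrank (K := F), hd, Nat.card_eq_fintype_card]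
      -- the constant fibre sizes
      have hchain : ∀ m, 1 ≤ m → m ≤ d → ∀ s : Fin m → V, LinearIndependent F s →
          Nat.card {N : End F V // IsNilpotent N ∧ IsChain N s} =
            Fintype.card F ^ ((d - m) * (d - 1)) := by
        intro m hm hmd s hs
        obtain ⟨C, hWC⟩ := Submodule.exists_isCompl (Submodule.span F (Set.range s))
        have hW : finrank F (Submodule.span F (Set.range s)) = m := by
          rw [finrank_span_eq_card hs, Fintype.card_fin]
        have hC : finrank F C = d - m := by
          have := Submodule.finrank_add_eq_of_isCompl hWC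
          rw [hW, hd] at this
          omega
        rw [card_chain_extensions s hs C hWC, ih (d - m) (by omega) C hC,
          Module.natCard_eq_pow_finrank (K := F), Module.finrank_linearMap, hC, hW,
          Nat.card_eq_fintype_card, ← pow_add]
        congr 1
        rcases Nat.eq_zero_or_pos (d - m) with h0 | hpos
        · rw [h0]; simp
        · have : d - m - 1 + m = d - 1 := by omega
          rw [← Nat.mul_add, this]

      -- the height decomposition
      have hsum := card_eq_sum_fibers (α := {N : End F V // IsNilpotent N} × V)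
        (fun x => ht x.1.1 x.2) d
        (fun x => by rw [← hd]; exact ht_le_finrank x.1.1 x.1.2 x.2)
      have hα : Nat.card ({N : End F V // IsNilpotent N} × V) =
          nilCount F V * Fintype.card F ^ d := by
        rw [Nat.card_prod, hVcard]; rfl
      -- fibre over 0
      have hf0 : Nat.card {x : {N : End F V // IsNilpotent N} × V // ht x.1.1 x.2 = 0} =
          nilCount F V := by
        apply Nat.card_congr
        exact
          { toFun := fun x => x.1.1
            invFun := fun N => ⟨(N, 0), (ht_eq_zero_iff N.1 N.2 0).2 rfl⟩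
            left_inv := fun x => by
              apply Subtype.ext
              exact Prod.ext rfl ((ht_eq_zero_iff x.1.1.1 x.1.1.2 x.1.2).1 x.2).symm
            right_inv := fun N => rfl }
      -- fibres over `m + 1`
      have hfm : ∀ m ∈ Finset.range d,
          Nat.card {x : {N : End F V // IsNilpotent N} × V // ht x.1.1 x.2 = m + 1} =
            injCount (Fintype.card F) d (m + 1) *
              Fintype.card F ^ ((d - m - 1) * (d - 1)) := by
        intro m hm
        rw [Finset.mem_range] at hm
        have h1 := card_height_fiber (F := F) (V := V) (m + 1) (by omega) (by rw [hd]; omega) _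
          (hchain (m + 1) (by omega) (by omega))
        rw [hd] at h1
        rw [h1, show d - (m + 1) = d - m - 1 by omega]
      rw [Finset.sum_range_succ', hf0, Finset.sum_congr rfl hfm,
        sum_eq (Fintype.card F) d hq hdpos, hα] at hsum
      have hqd : 2 ≤ Fintype.card F ^ d :=
        calc 2 = 2 ^ 1 := by norm_num
          _ ≤ 2 ^ d := Nat.pow_le_pow_right (by norm_num) hdpos
          _ ≤ Fintype.card F ^ d := Nat.pow_le_pow_left hq2 d
      have hpos : 0 < Fintype.card F ^ d - 1 := by omega
      have hsplit : Fintype.card F ^ d = (Fintype.card F ^ d - 1) + 1 := by omega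
      have hfin : nilCount F V * (Fintype.card F ^ d - 1) =
          Fintype.card F ^ (d * (d - 1)) * (Fintype.card F ^ d - 1) := by
        have h2 : nilCount F V * Fintype.card F ^ d =
            nilCount F V * (Fintype.card F ^ d - 1) + nilCount F V := by
          conv_lhs => rw [hsplit]
          ring
        rw [h2] at hsum
        have h3 := Nat.add_right_cancel hsum
        rw [h3]
        ring
      exact Nat.eq_of_mul_eq_mul_right hpos hfin

end main

end Cfsg.Agent.Lib.Helper43_NilCount
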