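import Mathlib

set_option autoImplicit false

/-!
The binary norm form `a ^ 2 + t a b + n b ^ 2` with nonzero discriminant over a finite field `k`
represents every unit of `k[X] / (m)`: for `g` coprime to `m` there are polynomials `A`, `B` with
`m ∣ A ^ 2 + t A B + n B ^ 2 - g`.  (Surjectivity of the norm from `K[X] / (m)` to `k[X] / (m)` for
a separable quadratic extension `K / k`.)
-/

namespace Cfsg.Agent.Lib.Helper43_NormForm

open Polynomial

/-- the binary norm form -/
def nf {S : Type*} [CommRing S] (t n a b : S) : S := a ^ 2 + t * a * b + n * b ^ 2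

section field

variable {B : Type*} [Field B] [Fintype B]

/-- a binary quadratic form with nonzero discriminant over a finite field is universal -/
theorem nf_universal (t n : B) (hdisc : t ^ 2 - 4 * n ≠ 0) (g : B) : ∃ a b, nf t n a b = g := by
  by_cases hchar : ringChar B = 2
  · obtain ⟨a, ha⟩ := FiniteField.isSquare_of_char_two hchar g
    refine ⟨a, 0, ?_⟩
    unfold nf
    rw [ha]
    ring
  · have hodd := FiniteField.odd_card_of_char_ne_two hchar
    have h2 : (2 : B) ≠ 0 := Ring.two_ne_zero hchar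
    have h4 : (4 : B) ≠ 0 := by
      have : (4 : B) = 2 * 2 := by norm_num
      rw [this]
      exact mul_ne_zero h2 h2
    have hf2 : degree (X ^ 2 - C (4 * g) : B[X]) = 2 := degree_X_pow_sub_C (by norm_num) _
    have hg2 : degree (C (-(t ^ 2 - 4 * n)) * X ^ 2 : B[X]) = 2 := by
      rw [degree_C_mul_X_pow 2 (neg_ne_zero.2 hdisc)]
      rfl
    obtain ⟨x, y, hxy⟩ := FiniteField.exists_root_sum_quadratic hf2 hg2 hodd
    simp only [eval_sub, eval_pow, eval_X, eval_C, eval_mul] at hxy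
    refine ⟨(x - t * y) / 2, y, ?_⟩
    unfold nf
    have h5 : 4 * (((x - t * y) / 2) ^ 2 + t * ((x - t * y) / 2) * y + n * y ^ 2) = 4 * g := by
      field_simp
      linear_combination hxy
    exact mul_left_cancel₀ h4 h5

end field

section poly

variable {k : Type*} [Field k]

theorem nf_sub_dvd (t n : k[X]) (c A B A₁ B₁ : k[X]) (hA : c ∣ A - A₁) (hB : c ∣ B - B₁) :
    c ∣ nf t n A B - nf t n A₁ B₁ := by
  obtain ⟨δ, hδ⟩ := hA
  obtain ⟨ε, hε⟩ := hB
  refine ⟨(2 * A₁ + t * B₁) * δ + (t * A₁ + 2 * n * B₁) * ε + c * nf t n δ ε, ?_⟩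
  have e1 : A = A₁ + c * δ := by rw [← hδ]; ring
  have e2 : B = B₁ + c * ε := by rw [← hε]; ring
  rw [e1, e2]
  unfold nf
  ring

/-- Chinese remainder step -/
theorem crt_step (t n : k[X]) (c a g A₁ B₁ A₂ B₂ : k[X]) (hca : IsCoprime c a)
    (h₁ : c ∣ nf t n A₁ B₁ - g) (h₂ : a ∣ nf t n A₂ B₂ - g) :
    ∃ A B, c * a ∣ nf t n A B - g := by
  obtain ⟨u, u', huu⟩ := hca
  refine ⟨A₁ * (u' * a) + A₂ * (u * c), B₁ * (u' * a) + B₂ * (u * c), ?_⟩
  apply IsCoprime.mul_dvd ⟨u, u', huu⟩
  · have hA : c ∣ A₁ * (u' * a) + A₂ * (u * c) - A₁ :=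
      ⟨u * (A₂ - A₁), by linear_combination A₁ * huu⟩
    have hB : c ∣ B₁ * (u' * a) + B₂ * (u * c) - B₁ :=
      ⟨u * (B₂ - B₁), by linear_combination B₁ * huu⟩
    have := dvd_add (nf_sub_dvd t n c _ _ A₁ B₁ hA hB) h₁
    rwa [sub_add_sub_cancel] at this
  · have hA : a ∣ A₁ * (u' * a) + A₂ * (u * c) - A₂ :=
      ⟨u' * (A₁ - A₂), by linear_combination A₂ * huu⟩
    have hB : a ∣ B₁ * (u' * a) + B₂ * (u * c) - B₂ :=
      ⟨u' * (B₁ - B₂), by linear_combination B₂ * huu⟩
    have := dvd_add (nf_sub_dvd t n a _ _ A₂ B₂ hA hB) h₂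
    rwa [sub_add_sub_cancel] at this

theorem hensel_identity {S : Type*} [CommRing S] (t n x y A B a v e g : S)
    (hxy : 2 * x + t * y = 1) (he : nf t n A B - g = a * e) :
    nf t n (A + a * (v * (x * A - n * y * B))) (B + a * (v * (y * A + x * B + t * y * B))) - g =
      a * (e + v * nf t n A B) +
        a ^ 2 * nf t n (v * (x * A - n * y * B)) (v * (y * A + x * B + t * y * B)) := by
  unfold nf at he ⊢
  linear_combination he + (a * v * (A ^ 2 + t * A * B + n * B ^ 2)) * hxy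

/-- Hensel step -/
theorem hensel_step (t n : k) (hdisc : t ^ 2 - 4 * n ≠ 0) (c a g A B : k[X]) (hca : c ∣ a)
    (hgc : IsCoprime g c) (h : a ∣ nf (C t) (C n) A B - g) :
    ∃ A' B', c * a ∣ nf (C t) (C n) A' B' - g := by
  -- constants with 2 x + t y = 1
  have hxy : ∃ x y : k, 2 * x + t * y = 1 := by
    by_cases h2 : (2 : k) = 0
    · have ht : t ≠ 0 := by
        rintro rfl
        apply hdisc
        have : (4 : k) = 2 * 2 := by norm_num
        rw [this, h2]
        ring
      exact ⟨0, t⁻¹, by rw [mul_zero, zero_add, mul_inv_cancel₀ ht]⟩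
    · exact ⟨2⁻¹, 0, by rw [mul_zero, add_zero, mul_inv_cancel₀ h2]⟩
  obtain ⟨x, y, hxy⟩ := hxy
  have hxy' : (2 : k[X]) * C x + C t * C y = 1 := by
    have := congrArg (C : k → k[X]) hxy
    rw [map_add, map_mul, map_mul, map_one, map_ofNat] at this
    exact this
  obtain ⟨e, he⟩ := h
  obtain ⟨u, u', huu⟩ := hgc
  obtain ⟨a', ha'⟩ := hca
  refine ⟨A + a * ((-e * u) * (C x * A - C n * C y * B)),
    B + a * ((-e * u) * (C y * A + C x * B + C t * C y * B)), ?_⟩
  rw [hensel_identity (C t) (C n) (C x) (C y) A B a (-e * u) e g hxy' he]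
  have hd1 : c ∣ e + (-e * u) * nf (C t) (C n) A B := by
    have h1 : nf (C t) (C n) A B = g + a * e := by rw [← he]; ring
    rw [h1]
    refine ⟨e * u' + (-e * u) * a' * e, ?_⟩
    linear_combination (-e) * huu + ((-e * u) * e) * ha'
  have hd2 : c * a ∣ a * (e + (-e * u) * nf (C t) (C n) A B) := by
    rw [mul_comm c a]
    exact mul_dvd_mul_left a hd1
  have hd3 : ∀ N : k[X], c * a ∣ a ^ 2 * N := by
    intro N
    refine ⟨a' * N, ?_⟩
    linear_combination (a * N) * ha'
  exact dvd_add hd2 (hd3 _)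

end poly

section main

variable {k : Type*} [Field k] [Fintype k]

/-- base step: modulo an irreducible polynomial -/
theorem base_step (t n : k) (hdisc : t ^ 2 - 4 * n ≠ 0) (p g : k[X]) (hp : Irreducible p) :
    ∃ A B, p ∣ nf (C t) (C n) A B - g := by
  have : Fact (Irreducible p) := ⟨hp⟩
  have hfin : Module.Finite k (AdjoinRoot p) := (AdjoinRoot.powerBasis hp.ne_zero).finite
  have hF : Finite (AdjoinRoot p) := Module.finite_of_finite k
  have : Fintype (AdjoinRoot p) := Fintype.ofFinite _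
  have hdisc' : (AdjoinRoot.of p t) ^ 2 - 4 * (AdjoinRoot.of p n) ≠ 0 := by
    have h1 : (AdjoinRoot.of p t) ^ 2 - 4 * (AdjoinRoot.of p n) =
        AdjoinRoot.of p (t ^ 2 - 4 * n) := by
      rw [map_sub, map_pow, map_mul, map_ofNat]
    rw [h1]
    exact (_root_.map_ne_zero _).2 hdisc
  obtain ⟨a, b, hab⟩ := nf_universal (AdjoinRoot.of p t) (AdjoinRoot.of p n) hdisc'
    (AdjoinRoot.mk p g)
  obtain ⟨A, rfl⟩ := AdjoinRoot.mk_surjective a
  obtain ⟨B, rfl⟩ := AdjoinRoot.mk_surjective b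
  refine ⟨A, B, ?_⟩
  rw [← AdjoinRoot.mk_eq_zero, map_sub, sub_eq_zero, ← hab]
  unfold nf
  simp only [map_add, map_mul, map_pow, AdjoinRoot.mk_C]

/-- the binary norm form represents every unit modulo every nonzero polynomial -/
theorem exists_nf_dvd (t n : k) (hdisc : t ^ 2 - 4 * n ≠ 0) (m : k[X]) :
    m ≠ 0 → ∀ g : k[X], IsCoprime g m → ∃ A B, m ∣ nf (C t) (C n) A B - g := by
  induction m using UniqueFactorizationMonoid.induction_on_prime with
  | h₁ => intro h; exact absurd rfl h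
  | h₂ x hx =>
    intro _ g _
    exact ⟨0, 0, hx.dvd⟩
  | h₃ a p ha hp ih =>
    intro _ g hg
    have hga : IsCoprime g a := hg.of_mul_right_right
    have hgp : IsCoprime g p := hg.of_mul_right_left
    obtain ⟨A₀, B₀, h₀⟩ := ih ha g hga
    by_cases hpa : p ∣ a
    · exact hensel_step t n hdisc p a g A₀ B₀ hpa hgp h₀
    · have hcop : IsCoprime p a := (hp.irreducible.coprime_iff_not_dvd).2 hpa
      obtain ⟨A₁, B₁, h₁⟩ := base_step t n hdisc p g hp.irreducible
      exact crt_step (C t) (C n) p a g A₁ B₁ A₀ B₀ hcop h₁ h₀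

end main

end Cfsg.Agent.Lib.Helper43_NormForm
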