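import Mathlib

set_option autoImplicit false

/-!
Elements of norm one in a finite commutative local algebra with involution, via the Cayley
transform `x ↦ (1 - x) / (1 + x)`.
-/

namespace Cfsg.Agent.Lib.Helper43_NormOne

open scoped IsMulCommutative
open Module

section cayley

variable {R : Type*} [Ring R] [IsMulCommutative R]

/-- the Cayley transform -/
noncomputable def cay (x : R) : R := (1 - x) * Ring.inverse (1 + x)

theorem inverse_eq_of_mul_eq_one {x b : R} (h : x * b = 1) : Ring.inverse x = b := by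
  have hx : IsUnit x := IsUnit.of_mul_eq_one b h
  calc Ring.inverse x = Ring.inverse x * (x * b) := by rw [h, mul_one]
    _ = (Ring.inverse x * x) * b := by rw [mul_assoc]
    _ = b := by rw [Ring.inverse_mul_cancel x hx, one_mul]

theorem one_add_cay {x : R} (hx : IsUnit (1 + x)) : 1 + cay x = 2 * Ring.inverse (1 + x) := by
  have h := Ring.mul_inverse_cancel (1 + x) hx
  unfold cay
  calc 1 + (1 - x) * Ring.inverse (1 + x)
      = (1 + x) * Ring.inverse (1 + x) + (1 - x) * Ring.inverse (1 + x) := by rw [h]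
    _ = 2 * Ring.inverse (1 + x) := by ring

theorem one_sub_cay {x : R} (hx : IsUnit (1 + x)) : 1 - cay x = 2 * x * Ring.inverse (1 + x) := by
  have h := Ring.mul_inverse_cancel (1 + x) hx
  unfold cay
  calc 1 - (1 - x) * Ring.inverse (1 + x)
      = (1 + x) * Ring.inverse (1 + x) - (1 - x) * Ring.inverse (1 + x) := by rw [h]
    _ = 2 * x * Ring.inverse (1 + x) := by ring

theorem isUnit_one_add_cay (h2 : IsUnit (2 : R)) {x : R} (hx : IsUnit (1 + x)) :
    IsUnit (1 + cay x) := by
  rw [one_add_cay hx]
  have h := Ring.mul_inverse_cancel (1 + x) hx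
  have : IsUnit (Ring.inverse (1 + x)) := IsUnit.of_mul_eq_one (1 + x) (by rw [mul_comm]; exact h)
  exact h2.mul this

theorem cay_cay (h2 : IsUnit (2 : R)) {x : R} (hx : IsUnit (1 + x)) : cay (cay x) = x := by
  have h := Ring.mul_inverse_cancel (1 + x) hx
  have h2' := Ring.mul_inverse_cancel (2 : R) h2
  have hinv : Ring.inverse (1 + cay x) = (1 + x) * Ring.inverse 2 := by
    apply inverse_eq_of_mul_eq_one
    rw [one_add_cay hx]
    calc 2 * Ring.inverse (1 + x) * ((1 + x) * Ring.inverse 2)
        = (2 * Ring.inverse 2) * ((1 + x) * Ring.inverse (1 + x)) := by ring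
      _ = 1 := by rw [h, h2', mul_one]
  show (1 - cay x) * Ring.inverse (1 + cay x) = x
  rw [hinv, one_sub_cay hx]
  calc 2 * x * Ring.inverse (1 + x) * ((1 + x) * Ring.inverse 2)
      = x * (2 * Ring.inverse 2) * ((1 + x) * Ring.inverse (1 + x)) := by ring
    _ = x := by rw [h, h2', mul_one, mul_one]

variable (σ : R →+* R)

theorem map_inverse {x : R} (hx : IsUnit x) : σ (Ring.inverse x) = Ring.inverse (σ x) := by
  symm
  apply inverse_eq_of_mul_eq_one
  rw [← map_mul, Ring.mul_inverse_cancel x hx, map_one]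

/-- the Cayley transform of a norm one element is skew -/
theorem cay_skew {g : R} (hg : σ g * g = 1) (hu : IsUnit (1 + g)) : σ (cay g) = -cay g := by
  have h := Ring.mul_inverse_cancel (1 + g) hu
  have hu' : IsUnit (1 + σ g) := by
    have := hu.map σ
    rwa [map_add, map_one] at this
  have hinv : Ring.inverse (1 + σ g) = g * Ring.inverse (1 + g) := by
    apply inverse_eq_of_mul_eq_one
    calc (1 + σ g) * (g * Ring.inverse (1 + g))
        = (g + σ g * g) * Ring.inverse (1 + g) := by ring
      _ = 1 := by rw [hg, add_comm, h]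
  unfold cay
  rw [map_mul, map_sub, map_one, map_inverse σ hu, map_add, map_one, hinv]
  calc (1 - σ g) * (g * Ring.inverse (1 + g))
      = (g - σ g * g) * Ring.inverse (1 + g) := by ring
    _ = -((1 - g) * Ring.inverse (1 + g)) := by rw [hg]; ring

/-- the Cayley transform of a skew element has norm one -/
theorem cay_norm {y : R} (hy : σ y = -y) (hu : IsUnit (1 + y)) :
    σ (cay y) * cay y = 1 := by
  have h := Ring.mul_inverse_cancel (1 + y) hu
  have hu' : IsUnit (1 - y) := by
    have := hu.map σ
    rwa [map_add, map_one, hy, ← sub_eq_add_neg] at this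
  have h' := Ring.mul_inverse_cancel (1 - y) hu'
  unfold cay
  rw [map_mul, map_sub, map_one, map_inverse σ hu, map_add, map_one, hy, ← sub_eq_add_neg,
    sub_neg_eq_add]
  calc (1 + y) * Ring.inverse (1 - y) * ((1 - y) * Ring.inverse (1 + y))
      = ((1 + y) * Ring.inverse (1 + y)) * ((1 - y) * Ring.inverse (1 - y)) := by ring
    _ = 1 := by rw [h, h', mul_one]

/-- the Cayley bijection -/
noncomputable def cayEquiv (h2 : IsUnit (2 : R)) :
    {g : R // σ g * g = 1 ∧ IsUnit (1 + g)} ≃ {y : R // σ y = -y ∧ IsUnit (1 + y)} where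
  toFun g := ⟨cay g.1, cay_skew σ g.2.1 g.2.2, isUnit_one_add_cay h2 g.2.2⟩
  invFun y := ⟨cay y.1, cay_norm σ y.2.1 y.2.2, isUnit_one_add_cay h2 y.2.2⟩
  left_inv g := Subtype.ext (cay_cay h2 g.2.2)
  right_inv y := Subtype.ext (cay_cay h2 y.2.2)

end cayley

section dims

variable {F R : Type*} [Field F] [Ring R] [IsMulCommutative R] [Algebra F R]
variable (σ : R →ₐ[F] R)

/-- skew elements -/
def skew : Submodule F R := LinearMap.ker (σ.toLinearMap + LinearMap.id)

/-- symmetric elements -/
def symmS : Submodule F R := LinearMap.ker (LinearMap.id - σ.toLinearMap)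

theorem mem_skew {x : R} : x ∈ skew σ ↔ σ x = -x := by
  rw [skew, LinearMap.mem_ker, LinearMap.add_apply, LinearMap.id_apply, AlgHom.toLinearMap_apply,
    add_eq_zero_iff_eq_neg]

theorem mem_symmS {x : R} : x ∈ symmS σ ↔ σ x = x := by
  rw [symmS, LinearMap.mem_ker, LinearMap.sub_apply, LinearMap.id_apply, AlgHom.toLinearMap_apply,
    sub_eq_zero, eq_comm]

variable [Module.Finite F R]

theorem finrank_symmS_add_finrank_skew (h2 : (2 : F) ≠ 0) (hσ : ∀ x, σ (σ x) = x) :
    finrank F (symmS σ) + finrank F (skew σ) = finrank F R := by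
  have h := LinearMap.finrank_range_add_finrank_ker (LinearMap.id - σ.toLinearMap)
  have hr : LinearMap.range (LinearMap.id - σ.toLinearMap) = skew σ := by
    ext y
    rw [mem_skew]
    constructor
    · rintro ⟨x, rfl⟩
      rw [LinearMap.sub_apply, LinearMap.id_apply, AlgHom.toLinearMap_apply, map_sub, hσ]
      abel
    · intro hy
      refine ⟨(2 : F)⁻¹ • y, ?_⟩
      rw [LinearMap.sub_apply, LinearMap.id_apply, AlgHom.toLinearMap_apply, map_smul, hy,
        smul_neg, sub_neg_eq_add, ← add_smul]
      have : (2 : F)⁻¹ + (2 : F)⁻¹ = 1 := by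
        rw [← two_mul, mul_inv_cancel₀ h2]
      rw [this, one_smul]
  rw [hr] at h
  rw [add_comm]
  exact h

theorem finrank_le_of_mul (z : R) (hz : finrank F (LinearMap.ker (LinearMap.mulLeft F z)) ≤ 1)
    (A B : Submodule F R) (hAB : ∀ x ∈ A, z * x ∈ B) : finrank F A ≤ finrank F B + 1 := by
  have h := LinearMap.finrank_range_add_finrank_ker ((LinearMap.mulLeft F z).domRestrict A)
  have h1 : finrank F (LinearMap.range ((LinearMap.mulLeft F z).domRestrict A)) ≤ finrank F B := by
    apply Submodule.finrank_mono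
    rintro _ ⟨x, rfl⟩
    exact hAB x.1 x.2
  have h2 : finrank F (LinearMap.ker ((LinearMap.mulLeft F z).domRestrict A)) ≤
      finrank F (LinearMap.ker (LinearMap.mulLeft F z)) := by
    rw [← Submodule.finrank_map_subtype_eq A]
    apply Submodule.finrank_mono
    rintro _ ⟨x, hx, rfl⟩
    have hx' : (LinearMap.mulLeft F z).domRestrict A x = 0 := hx
    rw [LinearMap.mem_ker]
    exact hx'
  omega

theorem finrank_skew (h2 : (2 : F) ≠ 0) (hσ : ∀ x, σ (σ x) = x) (z : R) (hzσ : σ z = -z)
    (hz : finrank F (LinearMap.ker (LinearMap.mulLeft F z)) ≤ 1) (m : ℕ)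
    (hdim : finrank F R = 2 * m) : finrank F (skew σ) = m := by
  have h1 := finrank_symmS_add_finrank_skew σ h2 hσ
  have h3 : finrank F (symmS σ) ≤ finrank F (skew σ) + 1 := by
    apply finrank_le_of_mul z hz
    intro x hx
    rw [mem_symmS] at hx
    rw [mem_skew, map_mul, hx, hzσ, neg_mul]
  have h4 : finrank F (skew σ) ≤ finrank F (symmS σ) + 1 := by
    apply finrank_le_of_mul z hz
    intro x hx
    rw [mem_skew] at hx
    rw [mem_symmS, map_mul, hx, hzσ, neg_mul_neg]
  omega

end dims

section count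

variable {F R : Type*} [Field F] [Ring R] [IsMulCommutative R] [Algebra F R] [Nontrivial R]
variable (σ : R →ₐ[F] R)

theorem scalar_eq_zero_of_isNilpotent {a : F} (h : IsNilpotent (algebraMap F R a)) : a = 0 := by
  obtain ⟨k, hk⟩ := h
  rw [← map_pow] at hk
  have : a ^ k = 0 := (algebraMap F R).injective (by rw [hk, map_zero])
  exact IsNilpotent.eq_zero ⟨k, this⟩

theorem isNilpotent_of_skew (h2 : (2 : F) ≠ 0)
    (hloc : ∀ x : R, ∃ a : F, IsNilpotent (x - algebraMap F R a)) {y : R} (hy : σ y = -y) :
    IsNilpotent y := by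
  obtain ⟨a, ha⟩ := hloc y
  have ha' : IsNilpotent (σ (y - algebraMap F R a)) := ha.map σ
  rw [map_sub, hy, AlgHom.commutes] at ha'
  have h3 : IsNilpotent ((y - algebraMap F R a) + (-y - algebraMap F R a)) :=
    Commute.isNilpotent_add (Commute.all _ _) ha ha'
  have h4 : (y - algebraMap F R a) + (-y - algebraMap F R a) = algebraMap F R (-(2 * a)) := by
    rw [map_neg, map_mul, map_ofNat]; ring
  rw [h4] at h3
  have h5 := scalar_eq_zero_of_isNilpotent h3
  have h6 : a = 0 := by
    rcases mul_eq_zero.mp (neg_eq_zero.mp h5) with h | h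
    · exact absurd h h2
    · exact h
  rw [h6, map_zero, sub_zero] at ha
  exact ha

omit [Nontrivial R] in
theorem isUnit_two (h2 : (2 : F) ≠ 0) : IsUnit (2 : R) := by
  have : (2 : R) = algebraMap F R 2 := by rw [map_ofNat]
  rw [this]
  exact (IsUnit.mk0 (2 : F) h2).map (algebraMap F R)

/-- norm one elements are `±1` plus a nilpotent -/
theorem norm_one_cases (h2 : (2 : F) ≠ 0)
    (hloc : ∀ x : R, ∃ a : F, IsNilpotent (x - algebraMap F R a)) {g : R} (hg : σ g * g = 1) :
    (IsUnit (1 + g) ∧ ¬ IsUnit (1 - g)) ∨ (¬ IsUnit (1 + g) ∧ IsUnit (1 - g)) := by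
  obtain ⟨a, ha⟩ := hloc g
  set ν := g - algebraMap F R a with hν
  have hg' : g = algebraMap F R a + ν := by rw [hν]; ring
  have ha' : IsNilpotent (σ ν) := ha.map σ
  have hσg : σ g = algebraMap F R a + σ ν := by
    rw [hg', map_add, AlgHom.commutes]
  have h3 : algebraMap F R (a ^ 2 - 1) =
      -(algebraMap F R a * ν + σ ν * algebraMap F R a + σ ν * ν) := by
    have : σ g * g - 1 = 0 := by rw [hg, sub_self]
    rw [hσg] at this
    rw [hg'] at this
    rw [map_sub, map_pow, map_one]
    have h4 : (algebraMap F R a + σ ν) * (algebraMap F R a + ν) - 1 =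
      (algebraMap F R a ^ 2 - 1) +
        (algebraMap F R a * ν + σ ν * algebraMap F R a + σ ν * ν) := by ring
    rw [h4] at this
    exact eq_neg_of_add_eq_zero_left this
  have h5 : IsNilpotent (algebraMap F R (a ^ 2 - 1)) := by
    rw [h3]
    apply IsNilpotent.neg
    apply Commute.isNilpotent_add (Commute.all _ _)
    · apply Commute.isNilpotent_add (Commute.all _ _)
      · exact Commute.isNilpotent_mul_left (Commute.all _ _) ha
      · exact Commute.isNilpotent_mul_right (Commute.all _ _) ha'
    · exact Commute.isNilpotent_mul_left (Commute.all _ _) ha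
  have h6 : a ^ 2 - 1 = 0 := scalar_eq_zero_of_isNilpotent h5
  have h7 : (a - 1) * (a + 1) = 0 := by rw [← h6]; ring
  have hu2 : IsUnit (algebraMap F R 2) := (IsUnit.mk0 (2 : F) h2).map (algebraMap F R)
  rcases mul_eq_zero.mp h7 with h8 | h8
  · have ha1 : a = 1 := sub_eq_zero.mp h8
    left
    constructor
    · have : 1 + g = algebraMap F R 2 + ν := by
        rw [hg', ha1, map_one, map_ofNat]; ring
      rw [this]
      exact ha.isUnit_add_left_of_commute hu2 (Commute.all _ _)
    · have : 1 - g = -ν := by rw [hg', ha1, map_one]; ring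
      rw [this]
      exact ha.neg.not_isUnit
  · have ha1 : a = -1 := eq_neg_of_add_eq_zero_left h8
    right
    constructor
    · have : 1 + g = ν := by rw [hg', ha1, map_neg, map_one]; ring
      rw [this]
      exact ha.not_isUnit
    · have : 1 - g = algebraMap F R 2 + -ν := by
        rw [hg', ha1, map_neg, map_one, map_ofNat]; ring
      rw [this]
      exact ha.neg.isUnit_add_left_of_commute hu2 (Commute.all _ _)

variable [Module.Finite F R] [Finite F]

/-- the number of norm one elements -/
theorem card_norm_one (h2 : (2 : F) ≠ 0) (hσ : ∀ x, σ (σ x) = x)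
    (hloc : ∀ x : R, ∃ a : F, IsNilpotent (x - algebraMap F R a))
    (z : R) (hzσ : σ z = -z)
    (hz : finrank F (LinearMap.ker (LinearMap.mulLeft F z)) ≤ 1) (m : ℕ)
    (hdim : finrank F R = 2 * m) :
    Nat.card {g : R // σ g * g = 1} = 2 * Nat.card F ^ m := by
  have hfin : Finite R := Module.finite_of_finite F
  -- the Cayley bijection
  have h1 : Nat.card {g : R // (σ : R →+* R) g * g = 1 ∧ IsUnit (1 + g)} = Nat.card F ^ m := by
    rw [Nat.card_congr (cayEquiv (σ : R →+* R) (isUnit_two h2))]
    have e : {y : R // (σ : R →+* R) y = -y ∧ IsUnit (1 + y)} ≃ skew σ :=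
      { toFun := fun y => ⟨y.1, (mem_skew σ).2 y.2.1⟩
        invFun := fun y => ⟨y.1, (mem_skew σ).1 y.2,
          (isNilpotent_of_skew σ h2 hloc ((mem_skew σ).1 y.2)).isUnit_one_add⟩
        left_inv := fun _ => rfl
        right_inv := fun _ => rfl }
    rw [Nat.card_congr e, Module.natCard_eq_pow_finrank (K := F),
      finrank_skew σ h2 hσ z hzσ hz m hdim]
  -- split according to the sign
  let S₁ := {g : R // (σ : R →+* R) g * g = 1 ∧ IsUnit (1 + g)}
  have hneg : ∀ g : R, σ g * g = 1 → σ (-g) * (-g) = 1 := by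
    intro g hg
    rw [map_neg, neg_mul_neg, hg]
  let f : S₁ ⊕ S₁ → {g : R // σ g * g = 1} :=
    Sum.elim (fun g => ⟨g.1, g.2.1⟩) (fun g => ⟨-g.1, hneg g.1 g.2.1⟩)
  have hf : Function.Bijective f := by
    constructor
    · rintro (g | g) (g' | g') h
      · have : g.1 = g'.1 := by
          have := congrArg Subtype.val h
          exact this
        rw [Subtype.ext this]
      · exfalso
        have : g.1 = -g'.1 := by
          have := congrArg Subtype.val h
          exact this
        rcases norm_one_cases σ h2 hloc g.2.1 with ⟨-, h3⟩ | ⟨h3, -⟩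
        · apply h3
          rw [this, sub_neg_eq_add]
          exact g'.2.2
        · exact h3 g.2.2
      · exfalso
        have : -g.1 = g'.1 := by
          have := congrArg Subtype.val h
          exact this
        rcases norm_one_cases σ h2 hloc g'.2.1 with ⟨-, h3⟩ | ⟨h3, -⟩
        · apply h3
          rw [← this, sub_neg_eq_add]
          exact g.2.2
        · exact h3 g'.2.2
      · have : -g.1 = -g'.1 := by
          have := congrArg Subtype.val h
          exact this
        rw [Subtype.ext (neg_injective this)]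
    · rintro ⟨g, hg⟩
      rcases norm_one_cases σ h2 hloc hg with ⟨h3, -⟩ | ⟨-, h3⟩
      · exact ⟨Sum.inl ⟨g, hg, h3⟩, rfl⟩
      · refine ⟨Sum.inr ⟨-g, hneg g hg, ?_⟩, ?_⟩
        · rw [← sub_eq_add_neg]; exact h3
        · apply Subtype.ext
          show - -g = g
          rw [neg_neg]
  rw [← Nat.card_eq_of_bijective f hf, Nat.card_sum, h1, two_mul]

end count

end Cfsg.Agent.Lib.Helper43_NormOne
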