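import Cfsg.Agent.Lib.Helper43_NormOne

set_option autoImplicit false

/-!
The scalar part of an element of a commutative local algebra whose residue field is the ground
field, and the image of the norm map `c ↦ σ c * c` of an involution on a finite such algebra in
odd characteristic: a symmetric element is a norm as soon as its scalar part is a nonzero square.
-/

namespace Cfsg.Agent.Lib.Helper43_NormSq

open scoped IsMulCommutative
open Module
open Cfsg.Agent.Lib.Helper43_NormOne

variable {F R : Type*} [Field F] [Ring R] [IsMulCommutative R] [Algebra F R] [Nontrivial R]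

/-- the scalar part of an element -/
noncomputable def eps (hloc : ∀ x : R, ∃ a : F, IsNilpotent (x - algebraMap F R a)) (x : R) : F :=
  Classical.choose (hloc x)

variable (hloc : ∀ x : R, ∃ a : F, IsNilpotent (x - algebraMap F R a))

omit [Nontrivial R] in
theorem eps_spec (x : R) : IsNilpotent (x - algebraMap F R (eps hloc x)) :=
  Classical.choose_spec (hloc x)

theorem eps_eq {x : R} {a : F} (h : IsNilpotent (x - algebraMap F R a)) : eps hloc x = a := by
  have h1 := eps_spec hloc x
  have h2 : IsNilpotent ((x - algebraMap F R a) - (x - algebraMap F R (eps hloc x))) :=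
    Commute.isNilpotent_sub (Commute.all _ _) h h1
  have h3 : (x - algebraMap F R a) - (x - algebraMap F R (eps hloc x)) =
      algebraMap F R (eps hloc x - a) := by
    rw [map_sub]; abel
  rw [h3] at h2
  exact sub_eq_zero.mp (scalar_eq_zero_of_isNilpotent h2)

theorem eps_algebraMap (a : F) : eps hloc (algebraMap F R a) = a := by
  apply eps_eq
  rw [sub_self]
  exact IsNilpotent.zero

theorem eps_one : eps hloc (1 : R) = 1 := by
  have := eps_algebraMap hloc (1 : F)
  rwa [map_one] at this

theorem eps_zero : eps hloc (0 : R) = 0 := by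
  have := eps_algebraMap hloc (0 : F)
  rwa [map_zero] at this

theorem eps_mul (x y : R) : eps hloc (x * y) = eps hloc x * eps hloc y := by
  apply eps_eq
  have h1 := eps_spec hloc x
  have h2 := eps_spec hloc y
  have h3 : x * y - algebraMap F R (eps hloc x * eps hloc y) =
      (x - algebraMap F R (eps hloc x)) * y +
        algebraMap F R (eps hloc x) * (y - algebraMap F R (eps hloc y)) := by
    rw [map_mul]; ring
  rw [h3]
  apply Commute.isNilpotent_add (Commute.all _ _)
  · exact Commute.isNilpotent_mul_right (Commute.all _ _) h1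
  · exact Commute.isNilpotent_mul_left (Commute.all _ _) h2

theorem eps_add (x y : R) : eps hloc (x + y) = eps hloc x + eps hloc y := by
  apply eps_eq
  have h1 := eps_spec hloc x
  have h2 := eps_spec hloc y
  have h3 : x + y - algebraMap F R (eps hloc x + eps hloc y) =
      (x - algebraMap F R (eps hloc x)) + (y - algebraMap F R (eps hloc y)) := by
    rw [map_add]; abel
  rw [h3]
  exact Commute.isNilpotent_add (Commute.all _ _) h1 h2

theorem eps_sigma (σ : R →ₐ[F] R) (x : R) : eps hloc (σ x) = eps hloc x := by
  apply eps_eq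
  have h1 := (eps_spec hloc x).map σ
  rwa [map_sub, AlgHom.commutes] at h1

theorem eps_smul (a : F) (x : R) : eps hloc (a • x) = a * eps hloc x := by
  rw [Algebra.smul_def, eps_mul, eps_algebraMap]

omit [Nontrivial R] in
theorem isUnit_of_eps_ne_zero {x : R} (h : eps hloc x ≠ 0) : IsUnit x := by
  have h1 := eps_spec hloc x
  have hu : IsUnit (algebraMap F R (eps hloc x)) := (IsUnit.mk0 _ h).map (algebraMap F R)
  have : x = algebraMap F R (eps hloc x) + (x - algebraMap F R (eps hloc x)) := by abel
  rw [this]
  exact h1.isUnit_add_left_of_commute hu (Commute.all _ _)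

theorem eps_ne_zero_of_isUnit {x : R} (h : IsUnit x) : eps hloc x ≠ 0 := by
  obtain ⟨y, hy⟩ := h.exists_right_inv
  intro h0
  have := congrArg (eps hloc) hy
  rw [eps_mul, eps_one, h0, zero_mul] at this
  exact zero_ne_one this

theorem eps_norm (σ : R →ₐ[F] R) (c : R) : eps hloc (σ c * c) = eps hloc c * eps hloc c := by
  rw [eps_mul, eps_sigma]

omit [Nontrivial R] in
/-- symmetric elements with scalar part one have unique square roots of the same kind -/
theorem sq_injective (h2 : (2 : F) ≠ 0) {x y : R} (hx : IsNilpotent (x - 1))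
    (hy : IsNilpotent (y - 1)) (h : x * x = y * y) : x = y := by
  have h1 : (x - y) * (x + y) = 0 := by
    have : (x - y) * (x + y) = x * x - y * y := by ring
    rw [this, h, sub_self]
  have hu : IsUnit (x + y) := by
    have h3 : x + y = 2 + ((x - 1) + (y - 1)) := by ring
    rw [h3]
    exact (Commute.isNilpotent_add (Commute.all _ _) hx hy).isUnit_add_left_of_commute
      (isUnit_two h2) (Commute.all _ _)
  exact sub_eq_zero.mp ((hu.mul_left_eq_zero).1 h1)

omit [Nontrivial R] in
/-- a symmetric element whose scalar part is a nonzero square is a norm -/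
theorem exists_norm_eq [Finite R] (σ : R →ₐ[F] R) (h2 : (2 : F) ≠ 0) {a : R} (ha : σ a = a)
    {b : F} (hb : b ≠ 0) (hab : IsNilpotent (a - algebraMap F R (b * b))) :
    ∃ c : R, σ c * c = a := by
  let P := {x : R // σ x = x ∧ IsNilpotent (x - 1)}
  have hsq : ∀ x : P, σ (x.1 * x.1) = x.1 * x.1 ∧ IsNilpotent (x.1 * x.1 - 1) := by
    intro x
    refine ⟨by rw [map_mul, x.2.1], ?_⟩
    have : x.1 * x.1 - 1 = (x.1 - 1) * (x.1 + 1) := by ring
    rw [this]
    exact Commute.isNilpotent_mul_right (Commute.all _ _) x.2.2
  let f : P → P := fun x => ⟨x.1 * x.1, hsq x⟩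
  have hf : Function.Injective f := by
    intro x y hxy
    have : x.1 * x.1 = y.1 * y.1 := congrArg Subtype.val hxy
    exact Subtype.ext (sq_injective h2 x.2.2 y.2.2 this)
  have hfs : Function.Surjective f := Finite.injective_iff_surjective.1 hf
  have hbb : b * b ≠ 0 := mul_ne_zero hb hb
  have ha' : σ ((b * b)⁻¹ • a) = (b * b)⁻¹ • a ∧ IsNilpotent ((b * b)⁻¹ • a - 1) := by
    refine ⟨by rw [map_smul, ha], ?_⟩
    have : (b * b)⁻¹ • a - 1 = (b * b)⁻¹ • (a - algebraMap F R (b * b)) := by
      rw [smul_sub, Algebra.algebraMap_eq_smul_one, smul_smul, inv_mul_cancel₀ hbb, one_smul]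
    rw [this]
    exact IsNilpotent.smul hab _
  obtain ⟨s, hs⟩ := hfs ⟨_, ha'⟩
  have hs' : s.1 * s.1 = (b * b)⁻¹ • a := congrArg Subtype.val hs
  refine ⟨b • s.1, ?_⟩
  rw [map_smul, s.2.1, smul_mul_smul_comm, hs', smul_smul, mul_inv_cancel₀ hbb, one_smul]

/-- twisted norms: if the scalar parts of two symmetric units differ by a nonzero square then one
is a twisted norm of the other -/
theorem exists_twisted_norm [Finite R] (σ : R →ₐ[F] R) (h2 : (2 : F) ≠ 0) {x x' : R}
    (hx : σ x = x) (hx' : σ x' = x') (hx'0 : eps hloc x' ≠ 0) {c : F} (hc : c ≠ 0)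
    (h : eps hloc x = c * c * eps hloc x') : ∃ d : R, σ d * x' * d = x := by
  obtain ⟨xi, hxi⟩ := (isUnit_of_eps_ne_zero hloc hx'0).exists_right_inv
  have hσxi : σ xi = xi := by
    have h1 : x' * σ xi = 1 := by
      have := congrArg σ hxi
      rwa [map_mul, hx', map_one] at this
    calc σ xi = σ xi * (x' * xi) := by rw [hxi, mul_one]
      _ = (x' * σ xi) * xi := by ring
      _ = xi := by rw [h1, one_mul]
  have hy : σ (x * xi) = x * xi := by rw [map_mul, hx, hσxi]
  have hexi : eps hloc x' * eps hloc xi = 1 := by rw [← eps_mul, hxi, eps_one]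
  have heps : eps hloc (x * xi) = c * c := by
    rw [eps_mul, h, mul_assoc, hexi, mul_one]
  have hnil : IsNilpotent (x * xi - algebraMap F R (c * c)) := by
    rw [← heps]; exact eps_spec hloc _
  obtain ⟨d, hd⟩ := exists_norm_eq σ h2 hy hc hnil
  refine ⟨d, ?_⟩
  calc σ d * x' * d = (σ d * d) * x' := by ring
    _ = x * (x' * xi) := by rw [hd]; ring
    _ = x := by rw [hxi, mul_one]

end Cfsg.Agent.Lib.Helper43_NormSq
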