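import Mathlib
import Cfsg.Agent.Lib.Helper44_Spinor
import Cfsg.Agent.Lib.Helper14_CartanDieudonne

/-!
# `Good Q g`: an element of `SO(Q) ∖ Ω(Q)` commuting with `g`, as a list of reflections (S2720)

`Good Q g` says: there is a list of an even number of non-singular vectors, with non-square product of
norms, such that the product of the reflections along them commutes with the matrix `g`.
-/

set_option autoImplicit false

namespace Cfsg.Agent.Lib.Helper45_OFus_ZDefs

open Cfsg Matrix Cfsg.Agent.Lib.Helper44_Orth Cfsg.Agent.Lib.Helper44_Refl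
  Cfsg.Agent.Lib.Helper44_Spinor

variable {ι : Type} [Fintype ι] [DecidableEq ι] {F : Type*} [Field F]

/-- An even product of reflections with non-square product of norms commuting with `g`. -/
def Good (Q : QuadraticForm F (ι → F)) (g : Matrix ι ι F) : Prop :=
  ∃ vs : List (ι → F), (∀ v ∈ vs, Q v ≠ 0) ∧ Even vs.length ∧
    ¬ IsSquare (vs.map (fun v => Q v)).prod ∧
    (vs.map (fun v => Cfsg.reflectionMatrix (⇑Q) v)).prod * g =
      g * (vs.map (fun v => Cfsg.reflectionMatrix (⇑Q) v)).prod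

/-- From an isometry of determinant one outside `Ω` commuting with `g`. -/
theorem good_of_isometry [Fintype F] (h2 : (2 : F) ≠ 0) (Q : QuadraticForm F (ι → F))
    (hQ : (QuadraticMap.polarBilin Q).Nondegenerate) (g : Matrix ι ι F)
    (z : ↥(Cfsg.isometryGroup F (⇑Q))) (hz : z ∉ Cfsg.Omega F (⇑Q))
    (hdet : ((z : Matrix.GeneralLinearGroup ι F) : Matrix ι ι F).det = 1)
    (hcomm : ((z : Matrix.GeneralLinearGroup ι F) : Matrix ι ι F) * g =
      g * ((z : Matrix.GeneralLinearGroup ι F) : Matrix ι ι F)) : Good Q g := by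
  classical
  obtain ⟨vs, hvs, hzvs⟩ := Cfsg.Agent.Lib.Helper14_CartanDieudonne.exists_list_reflT h2 Q hQ z
  have hcoe : ((z : Matrix.GeneralLinearGroup ι F) : Matrix ι ι F) =
      (vs.map (fun v => Cfsg.reflectionMatrix (⇑Q) v)).prod := by
    rw [hzvs, prod_reflT_coe Q vs hvs]
  have hmem := mem_omega_iff Q h2 z vs hvs hcoe
  have hev : Even vs.length := by
    have hd := det_prod Q vs hvs
    rw [← hcoe, hdet] at hd
    by_contra hodd
    rw [Nat.not_even_iff_odd] at hodd
    rw [hodd.neg_one_pow] at hd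
    apply h2
    linear_combination hd
  refine ⟨vs, hvs, hev, ?_, ?_⟩
  · intro hsq
    exact hz (hmem.mpr ⟨hev, hsq⟩)
  · rw [← hcoe]
    exact hcomm

/-- Conversely, `Good Q g` gives an isometry of determinant one outside `Ω` commuting with `g`. -/
theorem exists_isometry_of_good [Fintype F] (h2 : (2 : F) ≠ 0) (Q : QuadraticForm F (ι → F))
    (g : Matrix ι ι F) (hgood : Good Q g) :
    ∃ z : ↥(Cfsg.isometryGroup F (⇑Q)), z ∉ Cfsg.Omega F (⇑Q) ∧
      ((z : Matrix.GeneralLinearGroup ι F) : Matrix ι ι F).det = 1 ∧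
      ((z : Matrix.GeneralLinearGroup ι F) : Matrix ι ι F) * g =
        g * ((z : Matrix.GeneralLinearGroup ι F) : Matrix ι ι F) := by
  classical
  obtain ⟨vs, hvs, hev, hsq, hcomm⟩ := hgood
  set z : ↥(Cfsg.isometryGroup F (⇑Q)) := (vs.map (reflT Q)).prod with hz
  have hcoe : ((z : Matrix.GeneralLinearGroup ι F) : Matrix ι ι F) =
      (vs.map (fun v => Cfsg.reflectionMatrix (⇑Q) v)).prod := prod_reflT_coe Q vs hvs
  refine ⟨z, ?_, ?_, ?_⟩
  · intro hmem
    exact hsq ((mem_omega_iff Q h2 z vs hvs hcoe).mp hmem).2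
  · rw [hcoe, det_prod Q vs hvs, hev.neg_one_pow]
  · rw [hcoe]
    exact hcomm

end Cfsg.Agent.Lib.Helper45_OFus_ZDefs
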