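import Mathlib
import Cfsg.Agent.Lib.Helper45_OFus_ZDefs
import Cfsg.Agent.Lib.Helper44_StdForms
import Cfsg.Agent.Lib.Helper14_NegOne
import Cfsg.Agent.Lib.Helper43_SqDisc

/-!
# OF-GRAM (helper43, package of helper45's S2720 plan)

An isometric involution `T` is the product of the reflections along an orthogonal basis of its
`-1`-eigenspace; for a conjugate `M T M⁻¹` with `S = M* M` commuting with `T`, the product
`M T M⁻¹ T` is an even product of reflections whose norm product is `det (S | ker (T + 1))` up to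
squares.
-/

set_option autoImplicit false
set_option linter.unusedSectionVars false
set_option linter.unusedVariables false

namespace Cfsg.Agent.Lib.Helper43_OFus_GRAM

open Cfsg Matrix Module Cfsg.Agent.Lib.Helper44_StdForms Cfsg.Agent.Lib.Helper45_OFus_ZDefs
  Cfsg.Agent.Lib.Helper44_Refl Cfsg.Agent.Lib.Helper14_NegOne Cfsg.Agent.Lib.Helper43_SqDisc

variable {ι : Type} [Fintype ι] [DecidableEq ι] {F : Type*} [Field F]

/-- an isometry of `Q` preserves the polar form -/
theorem polar_of_isometry (Q : QuadraticForm F (ι → F)) (T : Matrix ι ι F)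
    (hT : ∀ x, Q (T *ᵥ x) = Q x) (x y : ι → F) :
    QuadraticMap.polar (⇑Q) (T *ᵥ x) (T *ᵥ y) = QuadraticMap.polar (⇑Q) x y := by
  unfold QuadraticMap.polar
  rw [← Matrix.mulVec_add, hT, hT, hT]

/-- the `-1`-eigenspace of an isometric involution is orthogonal to the `+1`-eigenspace -/
theorem polar_eq_zero_of_eigen (h2 : (2 : F) ≠ 0) (Q : QuadraticForm F (ι → F)) (T : Matrix ι ι F)
    (hT : ∀ x, Q (T *ᵥ x) = Q x) (x y : ι → F) (hx : T *ᵥ x = -x) (hy : T *ᵥ y = y) :
    QuadraticMap.polar (⇑Q) x y = 0 := by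
  have h := polar_of_isometry Q T hT x y
  rw [hx, hy, QuadraticMap.polar_neg_left] at h
  have h3 : (2 : F) * QuadraticMap.polar (⇑Q) x y = 0 := by linear_combination -h
  rcases mul_eq_zero.mp h3 with h4 | h4
  · exact absurd h4 h2
  · exact h4

/-- **Involutions are products of reflections**: an isometric involution is the product of the
reflections along an orthogonal basis of its `-1`-eigenspace. -/
theorem invol_prod_refl (h2 : (2 : F) ≠ 0) (Q : QuadraticForm F (ι → F))
    (hQ : (QuadraticMap.polarBilin Q).Nondegenerate)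
    (T : Matrix ι ι F) (hTT : T * T = 1) (hT : ∀ x, Q (T *ᵥ x) = Q x)
    (E : Submodule F (ι → F)) (hE : ∀ x, x ∈ E ↔ T *ᵥ x = -x) :
    ∃ e : Basis (Fin (finrank F E)) F E,
      (∀ i j, i ≠ j → QuadraticMap.polar (⇑Q) (e i : ι → F) (e j : ι → F) = 0) ∧
      (∀ i, Q (e i : ι → F) ≠ 0) ∧
      ((List.ofFn (fun i => (e i : ι → F))).map
        (fun v => Cfsg.reflectionMatrix (⇑Q) v)).prod = T := by
  classical
  have : Invertible (2 : F) := invertibleOfNonzero h2
  -- decomposition of a vector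
  have hplus : ∀ x : ι → F, T *ᵥ (x + T *ᵥ x) = x + T *ᵥ x := by
    intro x
    rw [Matrix.mulVec_add, Matrix.mulVec_mulVec, hTT, Matrix.one_mulVec, add_comm]
  have hminus : ∀ x : ι → F, T *ᵥ (x - T *ᵥ x) = -(x - T *ᵥ x) := by
    intro x
    rw [Matrix.mulVec_sub, Matrix.mulVec_mulVec, hTT, Matrix.one_mulVec, neg_sub]
  have hdecomp : ∀ x : ι → F, x = (2 : F)⁻¹ • (x + T *ᵥ x) + (2 : F)⁻¹ • (x - T *ᵥ x) := by
    intro x
    rw [← smul_add, add_add_sub_cancel, ← two_smul F x, smul_smul, inv_mul_cancel₀ h2, one_smul]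
  -- the restricted form
  set BE : LinearMap.BilinForm F E :=
    LinearMap.BilinForm.restrict (QuadraticMap.polarBilin Q) E with hBE
  have hBEapp : ∀ x y : E, BE x y = QuadraticMap.polar (⇑Q) (x : ι → F) (y : ι → F) := by
    intro x y
    rfl
  have hBEsymm : LinearMap.IsSymm BE := ⟨fun x y => by
    rw [hBEapp, hBEapp]
    simp only [RingHom.id_apply]
    exact QuadraticMap.polar_comm _ _ _⟩
  obtain ⟨v, hv⟩ := LinearMap.BilinForm.exists_orthogonal_basis hBEsymm
  have hortho : ∀ i j, i ≠ j → QuadraticMap.polar (⇑Q) (v i : ι → F) (v j : ι → F) = 0 := by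
    intro i j hij
    have := hv hij
    change BE (v i) (v j) = 0 at this
    rw [hBEapp] at this
    exact this
  have hne : ∀ i, Q (v i : ι → F) ≠ 0 := by
    intro i h0
    -- `v i` is orthogonal to everything
    have hall : ∀ z : ι → F, QuadraticMap.polar (⇑Q) (v i : ι → F) z = 0 := by
      intro z
      have hvE : T *ᵥ (v i : ι → F) = -(v i : ι → F) := (hE _).mp (v i).2
      have hE0 : ∀ w : E, QuadraticMap.polar (⇑Q) (v i : ι → F) (w : ι → F) = 0 := by
        intro w
        have hlin : (BE (v i)) = 0 := by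
          apply v.ext
          intro j
          rw [LinearMap.zero_apply, hBEapp]
          by_cases hij : i = j
          · subst hij
            rw [Helper44_Refl.polar_self, h0, mul_zero]
          · exact hortho i j hij
        have := LinearMap.congr_fun hlin w
        rw [LinearMap.zero_apply, hBEapp] at this
        exact this
      rw [hdecomp z, QuadraticMap.polar_add_right, QuadraticMap.polar_smul_right,
        QuadraticMap.polar_smul_right,
        polar_eq_zero_of_eigen h2 Q T hT _ _ hvE (hplus z),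
        hE0 ⟨z - T *ᵥ z, (hE _).mpr (hminus z)⟩]
      simp
    have hzero : (v i : ι → F) = 0 := by
      apply hQ.1
      intro z
      rw [QuadraticMap.polarBilin_apply_apply]
      exact hall z
    exact v.ne_zero i (Subtype.ext hzero)
  refine ⟨v, hortho, hne, ?_⟩
  -- the product equals `T`
  set vs : List (ι → F) := List.ofFn (fun i => (v i : ι → F)) with hvs
  set P : Matrix ι ι F := (vs.map (fun w => Cfsg.reflectionMatrix (⇑Q) w)).prod with hP
  have hmem : ∀ w ∈ vs, ∃ i, w = (v i : ι → F) := by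
    intro w hw
    obtain ⟨i, rfl⟩ := (List.mem_ofFn' _ _).mp hw
    exact ⟨i, rfl⟩
  have hPfix : ∀ x : ι → F, T *ᵥ x = x → P *ᵥ x = x := by
    intro x hx
    apply prod_refl_fix Q vs x
    intro w hw
    obtain ⟨i, rfl⟩ := hmem w hw
    exact polar_eq_zero_of_eigen h2 Q T hT _ _ ((hE _).mp (v i).2) hx
  have hPneg_basis : ∀ i, P *ᵥ (v i : ι → F) = -(v i : ι → F) := by
    intro i
    apply prod_refl_neg Q vs
    · rw [hvs, List.pairwise_ofFn]
      intro a b hab
      exact hortho a b (ne_of_lt hab)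
    · intro w hw
      obtain ⟨j, rfl⟩ := hmem w hw
      exact hne j
    · exact (List.mem_ofFn' _ _).mpr ⟨i, rfl⟩
  have hPneg : ∀ x : E, P *ᵥ (x : ι → F) = -(x : ι → F) := by
    have hlin : (Matrix.toLin' P).domRestrict E = -E.subtype := by
      apply v.ext
      intro i
      rw [LinearMap.domRestrict_apply, Matrix.toLin'_apply, LinearMap.neg_apply,
        Submodule.subtype_apply]
      exact hPneg_basis i
    intro x
    have := LinearMap.congr_fun hlin x
    rw [LinearMap.domRestrict_apply, Matrix.toLin'_apply, LinearMap.neg_apply,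
      Submodule.subtype_apply] at this
    exact this
  apply matrix_ext_mulVec
  intro x
  obtain ⟨y, z, hy, hz, rfl⟩ : ∃ y z : ι → F, T *ᵥ y = y ∧ T *ᵥ z = -z ∧ x = y + z := by
    refine ⟨(2 : F)⁻¹ • (x + T *ᵥ x), (2 : F)⁻¹ • (x - T *ᵥ x), ?_, ?_, hdecomp x⟩
    · rw [Matrix.mulVec_smul, hplus]
    · rw [Matrix.mulVec_smul, hminus, smul_neg]
  have hPz : P *ᵥ z = -z := hPneg ⟨z, (hE z).mpr hz⟩
  rw [Matrix.mulVec_add, Matrix.mulVec_add, hPfix y hy, hPz, hy, hz]

/-- Gram determinant of the restricted polar form in an orthogonal basis of a subspace -/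
theorem gram_det_sub (Q : QuadraticForm F (ι → F)) (E : Submodule F (ι → F)) {k : ℕ}
    (e : Basis (Fin k) F E)
    (hortho : ∀ i j, i ≠ j → QuadraticMap.polar (⇑Q) (e i : ι → F) (e j : ι → F) = 0) :
    (LinearMap.BilinForm.toMatrix e
      (LinearMap.BilinForm.restrict (QuadraticMap.polarBilin Q) E)).det =
      (2 : F) ^ k * ∏ i, Q (e i : ι → F) := by
  have h1 : LinearMap.BilinForm.toMatrix e
      (LinearMap.BilinForm.restrict (QuadraticMap.polarBilin Q) E) =
      Matrix.diagonal (fun i => 2 * Q (e i : ι → F)) := by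
    ext i j
    rw [LinearMap.BilinForm.toMatrix_apply]
    change QuadraticMap.polar (⇑Q) (e i : ι → F) (e j : ι → F) = _
    by_cases hij : i = j
    · subst hij
      rw [Matrix.diagonal_apply_eq, Helper44_Refl.polar_self]
    · rw [Matrix.diagonal_apply_ne _ hij, hortho i j hij]
  rw [h1, Matrix.det_diagonal, Finset.prod_mul_distrib, Finset.prod_const, Finset.card_univ,
    Fintype.card_fin]

/-- OF-GRAM. -/
theorem GRAM (h2 : (2 : F) ≠ 0) (Q : QuadraticForm F (ι → F))
    (hQ : (QuadraticMap.polarBilin Q).Nondegenerate)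
    (T M Mi S : Matrix ι ι F) (hTT : T * T = 1) (hT : ∀ x, Q (T *ᵥ x) = Q x)
    (hM : M * Mi = 1)
    (hS : ∀ x y, QuadraticMap.polar (⇑Q) (M *ᵥ x) (M *ᵥ y) = QuadraticMap.polar (⇑Q) (S *ᵥ x) y)
    (hST : S * T = T * S)
    (E : Submodule F (ι → F)) (hE : ∀ x, x ∈ E ↔ T *ᵥ x = -x)
    (s : ↥E →ₗ[F] ↥E) (hs : ∀ x : ↥E, ((s x : ↥E) : ι → F) = S *ᵥ (x : ι → F))
    (hdet : ¬ IsSquare (LinearMap.det s)) :
    ∃ vs : List (ι → F), (∀ v ∈ vs, Q v ≠ 0) ∧ Even vs.length ∧
      ¬ IsSquare (vs.map (fun v => Q v)).prod ∧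
      (vs.map (fun v => Cfsg.reflectionMatrix (⇑Q) v)).prod = M * T * Mi * T := by
  classical
  have hMi : Mi * M = 1 := mul_eq_one_comm.mp hM
  have hMiM : ∀ x : ι → F, Mi *ᵥ (M *ᵥ x) = x := by
    intro x
    rw [Matrix.mulVec_mulVec, hMi, Matrix.one_mulVec]
  have hMMi : ∀ x : ι → F, M *ᵥ (Mi *ᵥ x) = x := by
    intro x
    rw [Matrix.mulVec_mulVec, hM, Matrix.one_mulVec]
  -- the conjugate involution
  set T' : Matrix ι ι F := M * T * Mi with hT'def
  have hT'app : ∀ x : ι → F, T' *ᵥ x = M *ᵥ (T *ᵥ (Mi *ᵥ x)) := by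
    intro x
    rw [hT'def, Matrix.mulVec_mulVec, Matrix.mulVec_mulVec, Matrix.mul_assoc]
  have hT'T' : T' * T' = 1 := by
    apply matrix_ext_mulVec
    intro x
    rw [← Matrix.mulVec_mulVec, hT'app, hT'app, hMiM, Matrix.mulVec_mulVec _ T T, hTT,
      Matrix.one_mulVec, hMMi, Matrix.one_mulVec]
  have hSTv : ∀ x : ι → F, S *ᵥ (T *ᵥ x) = T *ᵥ (S *ᵥ x) := by
    intro x
    rw [Matrix.mulVec_mulVec, Matrix.mulVec_mulVec, hST]
  have hT'polar : ∀ x y : ι → F,
      QuadraticMap.polar (⇑Q) (T' *ᵥ x) (T' *ᵥ y) = QuadraticMap.polar (⇑Q) x y := by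
    intro x y
    rw [hT'app, hT'app, hS, hSTv, polar_of_isometry Q T hT, ← hS, hMMi, hMMi]
  have hT' : ∀ x, Q (T' *ᵥ x) = Q x := by
    intro x
    have h := hT'polar x x
    rw [Helper44_Refl.polar_self, Helper44_Refl.polar_self] at h
    exact mul_left_cancel₀ h2 h
  -- its `-1`-eigenspace
  have hMinj : Function.Injective (Matrix.toLin' M) := by
    intro x y hxy
    rw [Matrix.toLin'_apply, Matrix.toLin'_apply] at hxy
    rw [← hMiM x, ← hMiM y, hxy]
  set E' : Submodule F (ι → F) := E.map (Matrix.toLin' M) with hE'def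
  have hE' : ∀ x, x ∈ E' ↔ T' *ᵥ x = -x := by
    intro x
    constructor
    · intro hx
      obtain ⟨z, hz, rfl⟩ := Submodule.mem_map.mp hx
      rw [Matrix.toLin'_apply, hT'app, hMiM, (hE z).mp hz, Matrix.mulVec_neg]
    · intro hx
      refine Submodule.mem_map.mpr ⟨Mi *ᵥ x, (hE _).mpr ?_, ?_⟩
      · have h1 : Mi *ᵥ (T' *ᵥ x) = T *ᵥ (Mi *ᵥ x) := by rw [hT'app, hMiM]
        rw [← h1, hx, Matrix.mulVec_neg]
      · rw [Matrix.toLin'_apply, hMMi]
  -- the two orthogonal bases
  obtain ⟨e, heo, hen, heT⟩ := invol_prod_refl h2 Q hQ T hTT hT E hE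
  obtain ⟨f, hfo, hfn, hfT⟩ := invol_prod_refl h2 Q hQ T' hT'T' hT' E' hE'
  set mE : E ≃ₗ[F] E' := Submodule.equivMapOfInjective (Matrix.toLin' M) hMinj E with hmE
  have hk : finrank F E' = finrank F E := (LinearEquiv.finrank_eq mE).symm
  refine ⟨List.ofFn (fun i => (f i : ι → F)) ++ List.ofFn (fun i => (e i : ι → F)), ?_, ?_, ?_, ?_⟩
  · intro v hv
    rcases List.mem_append.mp hv with hv | hv
    · obtain ⟨i, rfl⟩ := (List.mem_ofFn' _ _).mp hv
      exact hfn i
    · obtain ⟨i, rfl⟩ := (List.mem_ofFn' _ _).mp hv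
      exact hen i
  · rw [List.length_append, List.length_ofFn, List.length_ofFn, hk]
    exact ⟨_, rfl⟩
  · -- the norm product
    rw [List.map_append, List.prod_append, List.map_ofFn, List.map_ofFn, List.prod_ofFn,
      List.prod_ofFn]
    simp only [Function.comp_apply]
    set A : F := ∏ i, Q (f i : ι → F) with hA
    set Bq : F := ∏ i, Q (e i : ι → F) with hBq
    have hBq0 : Bq ≠ 0 := Finset.prod_ne_zero_iff.mpr fun i _ => hen i
    -- Gram determinants
    have hG1 := gram_det_sub Q E e heo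
    have h2k' : (2 : F) ^ finrank F E' = (2 : F) ^ finrank F E := by rw [hk]
    have hG3 : (LinearMap.BilinForm.toMatrix f
        (LinearMap.BilinForm.restrict (QuadraticMap.polarBilin Q) E')).det =
        (2 : F) ^ finrank F E * A := by
      rw [gram_det_sub Q E' f hfo, h2k']
    set BE : LinearMap.BilinForm F E :=
      LinearMap.BilinForm.restrict (QuadraticMap.polarBilin Q) E with hBE
    set BE' : LinearMap.BilinForm F E' :=
      LinearMap.BilinForm.restrict (QuadraticMap.polarBilin Q) E' with hBE'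
    have hG2 : LinearMap.BilinForm.toMatrix (e.map mE) BE' =
        (LinearMap.toMatrix e e s)ᵀ * LinearMap.BilinForm.toMatrix e BE := by
      rw [← LinearMap.BilinForm.toMatrix_compLeft]
      ext i j
      rw [LinearMap.BilinForm.toMatrix_apply, LinearMap.BilinForm.toMatrix_apply,
        LinearMap.BilinForm.compLeft_apply, Basis.map_apply, Basis.map_apply]
      change QuadraticMap.polar (⇑Q) ((mE (e i) : E') : ι → F) ((mE (e j) : E') : ι → F) =
        QuadraticMap.polar (⇑Q) ((s (e i) : E) : ι → F) (e j : ι → F)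
      rw [hmE, Submodule.coe_equivMapOfInjective_apply, Submodule.coe_equivMapOfInjective_apply,
        Matrix.toLin'_apply, Matrix.toLin'_apply, hS, hs]
    have hdetG2 : (LinearMap.BilinForm.toMatrix (e.map mE) BE').det =
        LinearMap.det s * ((2 : F) ^ finrank F E * Bq) := by
      rw [hG2, Matrix.det_mul, Matrix.det_transpose, LinearMap.det_toMatrix, hG1]
    have hrel : SqRel (LinearMap.BilinForm.toMatrix f BE').det
        (LinearMap.BilinForm.toMatrix (e.map mE) BE').det :=
      (sqRel_det_disc BE' f).trans (sqRel_det_disc BE' (e.map mE)).symm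
    obtain ⟨c, hc, hceq⟩ := hrel
    rw [hG3, hdetG2] at hceq
    have h2k : (2 : F) ^ finrank F E ≠ 0 := pow_ne_zero _ h2
    have hAeq : A = LinearMap.det s * Bq * c ^ 2 := by
      apply mul_left_cancel₀ h2k
      rw [hceq]
      ring
    intro hsq
    apply hdet
    obtain ⟨r, hr⟩ := hsq
    refine ⟨r / (Bq * c), ?_⟩
    have hBc : Bq * c ≠ 0 := mul_ne_zero hBq0 hc
    field_simp
    rw [hAeq] at hr
    linear_combination hr
  · rw [List.map_append, List.prod_append, hfT, heT]

end Cfsg.Agent.Lib.Helper43_OFus_GRAM
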