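import Mathlib
import Cfsg.Agent.Lib.Helper95_OPDefs
import Cfsg.Agent.Lib.Helper95_OPBasic
import Cfsg.Agent.Lib.Helper48_OODefs
import Cfsg.Agent.Lib.Helper87_OO2Defs
import Cfsg.Agent.Lib.Helper87_OO2Defs2
import Cfsg.Agent.Lib.Helper87_OO2Defs3
import Cfsg.Agent.Lib.Helper85_OO2_RankOne
import Cfsg.Agent.Lib.Helper85_OO2_LemK
import Cfsg.Agent.Lib.Helper85_OO2_INVOL
import Cfsg.Agent.Lib.Helper42_OO2_FRAME
import Cfsg.Agent.Lib.Helper96_OO2_M2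

/-!
# S2344 wave 3, package OO2-B1 (cutter helper87; formalised by helper43)

`E(w1, s x) = n2 E(w0, s x) n2⁻¹` (`n2 = n_{w0 w1}(1)` maps `w0 ↦ w1` and fixes `x`); `n2⁻¹ y ∈ M_2` for
`y ∈ F_2 ≤ M_2` (`M_2` is `n2`-stable and finite dimensional), and `E(w0, s x)` is trivial on `M_2`.
The `_of` forms take the three OO2-M2 statements (`F2_le_M2`, `M2_n2`, `M2_fix_x`) as hypotheses.
-/

set_option autoImplicit false
set_option linter.unusedVariables false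
set_option linter.unusedSectionVars false

namespace Cfsg.Agent.Lib.Helper43_OO2_B1

open Module Cfsg.Agent.Lib.Helper94_OrthSmall Cfsg.Agent.Lib.Helper44_QuadClass
  Cfsg.Agent.Lib.Helper14_OmegaSimple Cfsg.Agent.Lib.Helper38_MIODefs
  Cfsg.Agent.Lib.Helper95_OPDefs Cfsg.Agent.Lib.Helper95_OPBasic Cfsg.Agent.Lib.Helper48_OODefs
  Cfsg.Agent.Lib.Helper87_OO2Defs Cfsg.Agent.Lib.Helper85_OO2_RankOne
  Cfsg.Agent.Lib.Helper42_OO2_FRAME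

variable {F V : Type*} [Field F] [Fintype F] [AddCommGroup V] [Module F V] [FiniteDimensional F V]
  {X : Type*} [AddCommGroup X] [Module ℂ X] [FiniteDimensional ℂ X]

local notation "P" => QuadraticMap.polar

/-- a subspace of a finite dimensional space stable under an invertible operator is stable under the
inverse -/
theorem inv_stable (g g' : Module.End ℂ X) (hgg' : g' * g = 1) (M : Submodule ℂ X)
    (hM : ∀ m ∈ M, g m ∈ M) : ∀ m ∈ M, g' m ∈ M := by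
  intro m hm
  let r : ↥M →ₗ[ℂ] ↥M := g.restrict hM
  have hinj : Function.Injective r := by
    intro a b hab
    have h1 : g (a : X) = g (b : X) := congrArg Subtype.val hab
    have h2 : g' (g (a : X)) = g' (g (b : X)) := by rw [h1]
    rw [← Module.End.mul_apply, ← Module.End.mul_apply, hgg'] at h2
    exact Subtype.ext h2
  have hsurj : Function.Surjective r := LinearMap.injective_iff_surjective.1 hinj
  obtain ⟨m', hm'⟩ := hsurj ⟨m, hm⟩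
  have h1 : g (m' : X) = m := congrArg Subtype.val hm'
  have h2 : g' m = (m' : X) := by
    rw [← h1, ← Module.End.mul_apply, hgg']
    rfl
  rw [h2]
  exact m'.2

/-- the frame with `w1`, `w1'` exchanged -/
theorem HQuad_swap (Q : QuadraticForm F V) {a a' b b' : V} (h : HQuad Q a a' b b') :
    HQuad Q a a' b' b :=
  ⟨h.pa, ⟨h.pb.qa', h.pb.qa, by rw [QuadraticMap.polar_comm]; exact h.pb.aa'⟩, h.ab', h.ab,
    h.a'b', h.a'b⟩

theorem Frame3_swap (Q : QuadraticForm F V) {v v' w0 w0' w1 w1' x : V}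
    (fr : Frame3 Q v v' w0 w0' w1 w1' x) : Frame3 Q v v' w0 w0' w1' w1 x :=
  ⟨fr.h01, HQuad_swap Q fr.h02, HQuad_swap Q fr.h12, fr.xW1, fr.xw1', fr.xw1, fr.qx⟩

/-- one half of `B1`, from the OO2-M2 facts of the frame -/
theorem B1_half_of (Q : QuadraticForm F V) (hQ : (QuadraticMap.polarBilin Q).Nondegenerate)
    (hdim : 5 ≤ finrank F V) {v v' w0 w0' w1 w1' x : V} (fr : Frame3 Q v v' w0 w0' w1 w1' x)
    (ρ : Representation ℂ ↥(T Q) X)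
    (hF : F2sp Q ρ v v' w0 w0' ≤ M2sp Q ρ v v' w0 w1)
    (hn : ∀ m ∈ M2sp Q ρ v v' w0 w1, repE Q ρ (nw Q w0 w0' w1 w1' 1) m ∈ M2sp Q ρ v v' w0 w1)
    (hx : ∀ m ∈ M2sp Q ρ v v' w0 w1, ∀ s : F, repE Q ρ (E Q w0 (s • x)) m = m)
    (y : X) (hy : y ∈ F2sp Q ρ v v' w0 w0') (s : F) :
    repE Q ρ (E Q w1 (s • x)) y = y := by
  have h12 := fr.h12
  have hnT : nw Q w0 w0' w1 w1' 1 ∈ T Q := nw_mem_T h12 1
  have hniT : (nw Q w0 w0' w1 w1' 1)⁻¹ ∈ T Q := (T Q).inv_mem hnT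
  obtain ⟨⟨_, _⟩, hw0x, hw0'x⟩ :=
    (show (P (⇑Q) v x = 0 ∧ P (⇑Q) v' x = 0) ∧ (P (⇑Q) w0 x = 0 ∧ P (⇑Q) w0' x = 0) by
      have := fr.xW1
      unfold W1 at this
      rw [Submodule.mem_inf, mem_perp, mem_perp] at this
      exact this)
  have hw0 : Q w0 = 0 := h12.pa.qa
  have hw0sx : P (⇑Q) w0 (s • x) = 0 := by
    rw [QuadraticMap.polar_smul_right, hw0x, smul_zero]
  have hET : E Q w0 (s • x) ∈ T Q := E_mem_T Q hQ hdim hw0 hw0sx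
  -- `n2 w0 = w1`, `n2 x = x`
  have e1 : nw Q w0 w0' w1 w1' 1 w0 = w1 := by
    rw [nw_a h12 1 one_ne_zero, inv_one, one_smul]
  have e2 : nw Q w0 w0' w1 w1' 1 x = x :=
    nw_perp h12 1 x (by rw [QuadraticMap.polar_comm]; exact hw0x)
      (by rw [QuadraticMap.polar_comm]; exact hw0'x) fr.xw1 fr.xw1'
  have hconj : E Q w1 (s • x) =
      nw Q w0 w0' w1 w1' 1 * E Q w0 (s • x) * (nw Q w0 w0' w1 w1' 1)⁻¹ := by
    rw [conj_E Q (T_le_oG Q hnT) hw0 hw0sx, e1, map_smul, e2]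
  have hinv : (repE Q ρ (nw Q w0 w0' w1 w1' 1)⁻¹) * (repE Q ρ (nw Q w0 w0' w1 w1' 1)) = 1 := by
    rw [← repE_mul Q ρ hniT hnT, inv_mul_cancel, repE_one]
  have hinv' : (repE Q ρ (nw Q w0 w0' w1 w1' 1)) * (repE Q ρ (nw Q w0 w0' w1 w1' 1)⁻¹) = 1 := by
    rw [← repE_mul Q ρ hnT hniT, mul_inv_cancel, repE_one]
  have hyM : repE Q ρ (nw Q w0 w0' w1 w1' 1)⁻¹ y ∈ M2sp Q ρ v v' w0 w1 :=
    inv_stable _ _ hinv _ hn y (hF hy)
  rw [hconj, repE_mul Q ρ ((T Q).mul_mem hnT hET) hniT, repE_mul Q ρ hnT hET,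
    Module.End.mul_apply, Module.End.mul_apply, hx _ hyM s, ← Module.End.mul_apply, hinv']
  rfl

/-- `B1` from the OO2-M2 facts of the frame and of the frame with `w1`, `w1'` exchanged -/
theorem B1_of (Q : QuadraticForm F V) (hQ : (QuadraticMap.polarBilin Q).Nondegenerate)
    (hdim : 5 ≤ finrank F V) {v v' w0 w0' w1 w1' x : V} (fr : Frame3 Q v v' w0 w0' w1 w1' x)
    (ρ : Representation ℂ ↥(T Q) X)
    (hF : F2sp Q ρ v v' w0 w0' ≤ M2sp Q ρ v v' w0 w1)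
    (hn : ∀ m ∈ M2sp Q ρ v v' w0 w1, repE Q ρ (nw Q w0 w0' w1 w1' 1) m ∈ M2sp Q ρ v v' w0 w1)
    (hx : ∀ m ∈ M2sp Q ρ v v' w0 w1, ∀ s : F, repE Q ρ (E Q w0 (s • x)) m = m)
    (hF' : F2sp Q ρ v v' w0 w0' ≤ M2sp Q ρ v v' w0 w1')
    (hn' : ∀ m ∈ M2sp Q ρ v v' w0 w1', repE Q ρ (nw Q w0 w0' w1' w1 1) m ∈ M2sp Q ρ v v' w0 w1')
    (hx' : ∀ m ∈ M2sp Q ρ v v' w0 w1', ∀ s : F, repE Q ρ (E Q w0 (s • x)) m = m)
    (y : X) (hy : y ∈ F2sp Q ρ v v' w0 w0') (s : F) :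
    repE Q ρ (E Q w1 (s • x)) y = y ∧ repE Q ρ (E Q w1' (s • x)) y = y :=
  ⟨B1_half_of Q hQ hdim fr ρ hF hn hx y hy s,
    B1_half_of Q hQ hdim (Frame3_swap Q fr) ρ hF' hn' hx' y hy s⟩

/-- OO2-B1 (verbatim): the OO2-M2 statements (helper96) for the frame and for the swapped frame. -/
theorem B1 (Q : QuadraticForm F V) (hq : 4 ≤ Fintype.card F) (hP : IsOddT Q 3)
    {v v' w0 w0' w1 w1' x : V} (fr : Frame3 Q v v' w0 w0' w1 w1' x)
    [DecidableEq ↥(perp Q v v')] (ρ : Representation ℂ ↥(T Q) X) (ψ : AddChar F ℂ) (hψ : ψ ≠ 1)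
    (hint : DirectSum.IsInternal (fun u : ↥(perp Q v v') => wsp Q ρ ψ v v' u))
    (f : ℕ) (hW : WData Q ρ ψ v v' 1 f) (y : X) (hy : y ∈ F2sp Q ρ v v' w0 w0') (s : F) :
    repE Q ρ (E Q w1 (s • x)) y = y ∧ repE Q ρ (E Q w1' (s • x)) y = y := by
  have fr' := Frame3_swap Q fr
  exact B1_of Q hP.nondeg (Cfsg.Agent.Lib.Helper96_OO2_M2.dim_of_P Q hP) fr ρ
    (Cfsg.Agent.Lib.Helper96_OO2_M2.F2_le_M2 Q fr ρ)
    (fun m hm => Cfsg.Agent.Lib.Helper96_OO2_M2.M2_n2 Q hP fr ρ m hm)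
    (fun m hm s => Cfsg.Agent.Lib.Helper96_OO2_M2.M2_fix_x Q hq hP fr ρ ψ hψ hint f hW m hm s)
    (Cfsg.Agent.Lib.Helper96_OO2_M2.F2_le_M2 Q fr' ρ)
    (fun m hm => Cfsg.Agent.Lib.Helper96_OO2_M2.M2_n2 Q hP fr' ρ m hm)
    (fun m hm s => Cfsg.Agent.Lib.Helper96_OO2_M2.M2_fix_x Q hq hP fr' ρ ψ hψ hint f hW m hm s)
    y hy s

end Cfsg.Agent.Lib.Helper43_OO2_B1
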