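import Mathlib
import Cfsg.Agent.Lib.Helper95_OPDefs
import Cfsg.Agent.Lib.Helper95_OPBasic
import Cfsg.Agent.Lib.Helper48_OODefs
import Cfsg.Agent.Lib.Helper87_OO2Defs
import Cfsg.Agent.Lib.Helper87_OO2Defs2
import Cfsg.Agent.Lib.Helper85_OO2_RankOne
import Cfsg.Agent.Lib.Helper85_OO2_LemK
import Cfsg.Agent.Lib.Helper42_OO2_FRAME
import Cfsg.Agent.Lib.Helper12_OO2_HEIS
import Cfsg.Agent.Lib.Helper60_S2332_LINEGEN

/-!
# S2344 wave 2, package OO2-XTRIV (cutter helper87; formalised by helper43)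

`B_z = X_{(0,z)}` is stable under `x1(s) = E(v, s w0')` and under the torus element
`ζ = h_{v w0}(t) h_{v w0'}(t)` (`v ↦ t² v`, `v' ↦ t⁻² v'`, identity on `w0, w0', W_1`).  If `B_z` is a line,
`x1(s) = [ζ, x1(s / (t² - 1))]` acts trivially on it, hence so does every `E(v, w)`, `w ∈ W = W_1 + F w0 + F w0'`.
(The torus element is built from `hh`, so no hypothesis on the commutator subgroup of the orthogonal group
is needed.)
-/

set_option autoImplicit false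
set_option linter.unusedVariables false
set_option linter.unusedSectionVars false

namespace Cfsg.Agent.Lib.Helper43_OO2_XTRIV

open Module Cfsg.Agent.Lib.Helper94_OrthSmall Cfsg.Agent.Lib.Helper44_QuadClass
  Cfsg.Agent.Lib.Helper14_OmegaSimple Cfsg.Agent.Lib.Helper38_MIODefs
  Cfsg.Agent.Lib.Helper95_OPDefs Cfsg.Agent.Lib.Helper95_OPBasic Cfsg.Agent.Lib.Helper48_OODefs
  Cfsg.Agent.Lib.Helper87_OO2Defs Cfsg.Agent.Lib.Helper42_OO2_FRAME Cfsg.Agent.Lib.Helper12_OO2_HEIS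

variable {F V : Type*} [Field F] [Fintype F] [AddCommGroup V] [Module F V] [FiniteDimensional F V]
  {X : Type*} [AddCommGroup X] [Module ℂ X] [FiniteDimensional ℂ X]

local notation "P" => QuadraticMap.polar

/-- a field with at least four elements has an element `t ≠ 0` with `t² ≠ 1` -/
theorem exists_sq_ne_one (hq : 4 ≤ Fintype.card F) : ∃ t : F, t ≠ 0 ∧ t ^ 2 ≠ 1 := by
  classical
  by_contra hcon
  push Not at hcon
  have hsub : (Finset.univ : Finset F) ⊆ {0, 1, -1} := by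
    intro t _
    simp only [Finset.mem_insert, Finset.mem_singleton]
    by_cases ht : t = 0
    · left; exact ht
    · right
      have h1 := hcon t ht
      have h2 : (t - 1) * (t + 1) = 0 := by ring_nf; rw [h1]; ring
      rcases mul_eq_zero.mp h2 with h | h
      · left; exact sub_eq_zero.mp h
      · right; exact eq_neg_of_add_eq_zero_left h
  have h3 := Finset.card_le_card hsub
  rw [Finset.card_univ] at h3
  have h4 : ({0, 1, -1} : Finset F).card ≤ 3 := Finset.card_le_three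
  omega

theorem mem_W1 (Q : QuadraticForm F V) {v v' w0 w0' w : V} :
    w ∈ W1 Q v v' w0 w0' ↔ (P (⇑Q) v w = 0 ∧ P (⇑Q) v' w = 0) ∧ (P (⇑Q) w0 w = 0 ∧ P (⇑Q) w0' w = 0) := by
  unfold W1
  rw [Submodule.mem_inf, mem_perp, mem_perp]

/-- conjugation rule at the level of the representation -/
theorem repE_E_comm (Q : QuadraticForm F V) (hQ : (QuadraticMap.polarBilin Q).Nondegenerate)
    (hdim : 5 ≤ finrank F V) (ρ : Representation ℂ ↥(T Q) X) {g : V ≃ₗ[F] V} (hg : g ∈ T Q)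
    {u w : V} (hu : Q u = 0) (huw : P (⇑Q) u w = 0) (x : X) :
    repE Q ρ (E Q u w) (repE Q ρ g x) = repE Q ρ g (repE Q ρ (E Q (g⁻¹ u) (g⁻¹ w)) x) := by
  have hgi : g⁻¹ ∈ T Q := (T Q).inv_mem hg
  have hE : E Q u w ∈ T Q := E_mem_T Q hQ hdim hu huw
  have hconj : E Q (g⁻¹ u) (g⁻¹ w) = g⁻¹ * E Q u w * g := by
    have := conj_E Q (T_le_oG Q hgi) hu huw
    rw [inv_inv] at this
    exact this.symm
  have hE' : g⁻¹ * E Q u w * g ∈ T Q := (T Q).mul_mem ((T Q).mul_mem hgi hE) hg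
  rw [hconj, ← Module.End.mul_apply, ← Module.End.mul_apply, ← repE_mul Q ρ hE hg,
    ← repE_mul Q ρ hg hE']
  congr 2
  group

theorem mem_Bsp (Q : QuadraticForm F V) (ρ : Representation ℂ ↥(T Q) X) (ψ : AddChar F ℂ)
    (v v' w0 w0' z : V) (x : X) :
    x ∈ Bsp Q ρ ψ v v' w0 w0' z ↔
      (∀ w ∈ W1 Q v v' w0 w0' ⊔ Submodule.span F {w0}, repE Q ρ (E Q v w) x = x) ∧
      (∀ w ∈ W1 Q v v' w0 w0', repE Q ρ (E Q w0 w) x = ψ (P (⇑Q) z w) • x) := by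
  unfold Bsp
  rw [Submodule.mem_inf, mem_fixE, mem_eigE]

/-- elements of `W_1 + F w0` are orthogonal to `v` -/
theorem polar_v_of_mem (Q : QuadraticForm F V) {v v' w0 w0' : V} (h : HQuad Q v v' w0 w0') {w : V}
    (hw : w ∈ W1 Q v v' w0 w0' ⊔ Submodule.span F {w0}) : P (⇑Q) v w = 0 := by
  obtain ⟨y, hy, c, hc, rfl⟩ := Submodule.mem_sup.1 hw
  obtain ⟨a, rfl⟩ := Submodule.mem_span_singleton.1 hc
  rw [QuadraticMap.polar_add_right, QuadraticMap.polar_smul_right, ((mem_W1 Q).1 hy).1.1, h.ab]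
  simp

/-- `B_z` is stable under `x1(s)` -/
theorem Bsp_x1 (Q : QuadraticForm F V) (hQ : (QuadraticMap.polarBilin Q).Nondegenerate)
    (hdim : 5 ≤ finrank F V) {v v' w0 w0' : V} (h : HQuad Q v v' w0 w0')
    (ρ : Representation ℂ ↥(T Q) X) (ψ : AddChar F ℂ) (z : V) (s : F) (x : X)
    (hx : x ∈ Bsp Q ρ ψ v v' w0 w0' z) :
    repE Q ρ (xr Q v w0' s) x ∈ Bsp Q ρ ψ v v' w0 w0' z := by
  rw [mem_Bsp] at hx ⊢
  obtain ⟨hx1, hx2⟩ := hx
  have hv := h.pa.qa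
  have hw0 := h.pb.qa
  have hvs : P (⇑Q) v (s • w0') = 0 := by
    rw [QuadraticMap.polar_smul_right, h.ab', smul_zero]
  have hxT : xr Q v w0' s ∈ T Q := xr_mem_T h.pa.qa h.pb.qa' h.ab' s
  constructor
  · intro w hw
    have hvw : P (⇑Q) v w = 0 := polar_v_of_mem Q h hw
    have hET : E Q v w ∈ T Q := E_mem_T Q hQ hdim hv hvw
    have hcomm : E Q v w * xr Q v w0' s = xr Q v w0' s * E Q v w := by
      unfold xr
      rw [E_mul Q hv hvw hvs, E_mul Q hv hvs hvw, add_comm]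
    rw [← Module.End.mul_apply, ← repE_mul Q ρ hET hxT, hcomm, repE_mul Q ρ hxT hET,
      Module.End.mul_apply, hx1 w hw]
  · intro w hw
    obtain ⟨⟨hvw, hv'w⟩, hw0w, hw0'w⟩ := (mem_W1 Q).1 hw
    rw [repE_E_comm Q hQ hdim ρ hxT hw0 hw0w]
    have hinv : (xr Q v w0' s)⁻¹ = xr Q v w0' (-s) := by
      unfold xr
      rw [E_inv Q hv hvs, neg_smul]
    have e1 : (xr Q v w0' s)⁻¹ w0 = w0 + s • v := by
      rw [hinv, xr_b h, neg_smul, sub_neg_eq_add]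
    have e2 : (xr Q v w0' s)⁻¹ w = w := by
      rw [hinv]
      apply xr_perp h.pa.qa h.pb.qa' h.ab'
      · rw [QuadraticMap.polar_comm]; exact hvw
      · rw [QuadraticMap.polar_comm]; exact hw0'w
    rw [e1, e2, E_add_left hv hw0 h.ab hvw hw0w s]
    have hT1 : E Q w0 w ∈ T Q := E_mem_T Q hQ hdim hw0 hw0w
    have hv2 : P (⇑Q) v (s • w) = 0 := by
      rw [QuadraticMap.polar_smul_right, hvw, smul_zero]
    have hT2 : E Q v (s • w) ∈ T Q := E_mem_T Q hQ hdim hv hv2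
    have hv3 : P (⇑Q) v ((s * Q w) • w0) = 0 := by
      rw [QuadraticMap.polar_smul_right, h.ab, smul_zero]
    have hT3 : E Q v ((s * Q w) • w0) ∈ T Q := E_mem_T Q hQ hdim hv hv3
    rw [repE_mul Q ρ ((T Q).mul_mem hT1 hT2) hT3, repE_mul Q ρ hT1 hT2, Module.End.mul_apply,
      Module.End.mul_apply]
    have m3 : (s * Q w) • w0 ∈ W1 Q v v' w0 w0' ⊔ Submodule.span F {w0} :=
      Submodule.mem_sup_right (Submodule.smul_mem _ _ (Submodule.mem_span_singleton_self w0))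
    have m2 : s • w ∈ W1 Q v v' w0 w0' ⊔ Submodule.span F {w0} :=
      Submodule.mem_sup_left (Submodule.smul_mem _ _ hw)
    rw [hx1 _ m3, hx1 _ m2, hx2 w hw, map_smul]

/-- the torus element `ζ = h_{v w0}(t) h_{v w0'}(t)` -/
noncomputable def zeta (Q : QuadraticForm F V) (v v' w0 w0' : V) (t : F) : V ≃ₗ[F] V :=
  hh Q v v' w0 w0' t * hh Q v v' w0' w0 t

theorem HQuad.swap' (Q : QuadraticForm F V) {v v' w0 w0' : V} (h : HQuad Q v v' w0 w0') :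
    HQuad Q v v' w0' w0 :=
  ⟨h.pa, ⟨h.pb.qa', h.pb.qa, by rw [QuadraticMap.polar_comm]; exact h.pb.aa'⟩, h.ab', h.ab,
    h.a'b', h.a'b⟩

theorem zeta_mem_T (Q : QuadraticForm F V) {v v' w0 w0' : V} (h : HQuad Q v v' w0 w0') (t : F) :
    zeta Q v v' w0 w0' t ∈ T Q :=
  (T Q).mul_mem (hh_mem_T h t) (hh_mem_T (HQuad.swap' Q h) t)

theorem zeta_v (Q : QuadraticForm F V) {v v' w0 w0' : V} (h : HQuad Q v v' w0 w0') (t : F)
    (ht : t ≠ 0) : zeta Q v v' w0 w0' t v = (t ^ 2) • v := by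
  unfold zeta
  rw [LinearEquiv.mul_apply, hh_a (HQuad.swap' Q h) t ht, map_smul, hh_a h t ht, smul_smul, sq]

theorem zeta_w0 (Q : QuadraticForm F V) {v v' w0 w0' : V} (h : HQuad Q v v' w0 w0') (t : F)
    (ht : t ≠ 0) : zeta Q v v' w0 w0' t w0 = w0 := by
  unfold zeta
  rw [LinearEquiv.mul_apply, hh_b' (HQuad.swap' Q h) t ht, map_smul, hh_b h t ht, smul_smul,
    mul_inv_cancel₀ ht, one_smul]

theorem zeta_w0' (Q : QuadraticForm F V) {v v' w0 w0' : V} (h : HQuad Q v v' w0 w0') (t : F)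
    (ht : t ≠ 0) : zeta Q v v' w0 w0' t w0' = w0' := by
  unfold zeta
  rw [LinearEquiv.mul_apply, hh_b (HQuad.swap' Q h) t ht, map_smul, hh_b' h t ht, smul_smul,
    inv_mul_cancel₀ ht, one_smul]

theorem zeta_W1 (Q : QuadraticForm F V) {v v' w0 w0' : V} (h : HQuad Q v v' w0 w0') (t : F)
    {w : V} (hw : w ∈ W1 Q v v' w0 w0') : zeta Q v v' w0 w0' t w = w := by
  obtain ⟨⟨hvw, hv'w⟩, hw0w, hw0'w⟩ := (mem_W1 Q).1 hw
  have c1 : P (⇑Q) w v = 0 := by rw [QuadraticMap.polar_comm]; exact hvw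
  have c2 : P (⇑Q) w v' = 0 := by rw [QuadraticMap.polar_comm]; exact hv'w
  have c3 : P (⇑Q) w w0 = 0 := by rw [QuadraticMap.polar_comm]; exact hw0w
  have c4 : P (⇑Q) w w0' = 0 := by rw [QuadraticMap.polar_comm]; exact hw0'w
  unfold zeta
  rw [LinearEquiv.mul_apply, hh_perp (HQuad.swap' Q h) t w c1 c2 c4 c3, hh_perp h t w c1 c2 c3 c4]

theorem zeta_sup (Q : QuadraticForm F V) {v v' w0 w0' : V} (h : HQuad Q v v' w0 w0') (t : F)
    (ht : t ≠ 0) {w : V} (hw : w ∈ W1 Q v v' w0 w0' ⊔ Submodule.span F {w0}) :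
    zeta Q v v' w0 w0' t w = w := by
  obtain ⟨y, hy, c, hc, rfl⟩ := Submodule.mem_sup.1 hw
  obtain ⟨a, rfl⟩ := Submodule.mem_span_singleton.1 hc
  rw [map_add, map_smul, zeta_W1 Q h t hy, zeta_w0 Q h t ht]

/-- `B_z` is stable under `ζ` -/
theorem Bsp_zeta (Q : QuadraticForm F V) (hQ : (QuadraticMap.polarBilin Q).Nondegenerate)
    (hdim : 5 ≤ finrank F V) {v v' w0 w0' : V} (h : HQuad Q v v' w0 w0')
    (ρ : Representation ℂ ↥(T Q) X) (ψ : AddChar F ℂ) (z : V) (t : F) (ht : t ≠ 0) (x : X)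
    (hx : x ∈ Bsp Q ρ ψ v v' w0 w0' z) :
    repE Q ρ (zeta Q v v' w0 w0' t) x ∈ Bsp Q ρ ψ v v' w0 w0' z := by
  rw [mem_Bsp] at hx ⊢
  obtain ⟨hx1, hx2⟩ := hx
  have hv := h.pa.qa
  have hw0 := h.pb.qa
  have hzT := zeta_mem_T Q h t
  have ht2 : t ^ 2 ≠ 0 := pow_ne_zero 2 ht
  have iv : (zeta Q v v' w0 w0' t)⁻¹ v = (t ^ 2)⁻¹ • v := by
    apply inv_apply_eq_of_apply_eq
    rw [map_smul, zeta_v Q h t ht, smul_smul, inv_mul_cancel₀ ht2, one_smul]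
  constructor
  · intro w hw
    have hvw : P (⇑Q) v w = 0 := polar_v_of_mem Q h hw
    have iw : (zeta Q v v' w0 w0' t)⁻¹ w = w :=
      inv_apply_eq_of_apply_eq _ (zeta_sup Q h t ht hw)
    rw [repE_E_comm Q hQ hdim ρ hzT hv hvw, iv, iw, E_smul_left Q hv hvw,
      hx1 _ (Submodule.smul_mem _ _ hw)]
  · intro w hw
    obtain ⟨⟨hvw, hv'w⟩, hw0w, hw0'w⟩ := (mem_W1 Q).1 hw
    have iw : (zeta Q v v' w0 w0' t)⁻¹ w = w :=
      inv_apply_eq_of_apply_eq _ (zeta_W1 Q h t hw)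
    have iw0 : (zeta Q v v' w0 w0' t)⁻¹ w0 = w0 :=
      inv_apply_eq_of_apply_eq _ (zeta_w0 Q h t ht)
    rw [repE_E_comm Q hQ hdim ρ hzT hw0 hw0w, iw, iw0, hx2 w hw, map_smul]

/-- `x1(s)` as a commutator of `ζ` and `x1(s / (t² - 1))` -/
theorem x1_eq_comm (Q : QuadraticForm F V) {v v' w0 w0' : V} (h : HQuad Q v v' w0 w0') (t : F)
    (ht : t ≠ 0) (ht1 : t ^ 2 ≠ 1) (s : F) :
    zeta Q v v' w0 w0' t * xr Q v w0' (s / (t ^ 2 - 1)) * (zeta Q v v' w0 w0' t)⁻¹ *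
      (xr Q v w0' (s / (t ^ 2 - 1)))⁻¹ = xr Q v w0' s := by
  have hv := h.pa.qa
  have hne : t ^ 2 - 1 ≠ 0 := sub_ne_zero.mpr ht1
  have hvs : ∀ c : F, P (⇑Q) v (c • w0') = 0 := fun c => by
    rw [QuadraticMap.polar_smul_right, h.ab', smul_zero]
  unfold xr
  rw [conj_E Q (T_le_oG Q (zeta_mem_T Q h t)) hv (hvs _), zeta_v Q h t ht, map_smul,
    zeta_w0' Q h t ht, E_inv Q hv (hvs _), E_smul_left Q hv (hvs _), ← neg_smul, smul_smul,
    E_mul Q hv (hvs _) (hvs _), ← add_smul]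
  congr 2
  field_simp
  ring

/-- if `B_z` is a line, `x1(s)` acts trivially on it -/
theorem x1_fix_of_line (Q : QuadraticForm F V) (hQ : (QuadraticMap.polarBilin Q).Nondegenerate)
    (hdim : 5 ≤ finrank F V) (hq : 4 ≤ Fintype.card F) {v v' w0 w0' : V}
    (h : HQuad Q v v' w0 w0') (ρ : Representation ℂ ↥(T Q) X) (ψ : AddChar F ℂ) (z : V)
    (hfr : finrank ℂ ↥(Bsp Q ρ ψ v v' w0 w0' z) = 1) (s : F) (x : X)
    (hx : x ∈ Bsp Q ρ ψ v v' w0 w0' z) : repE Q ρ (xr Q v w0' s) x = x := by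
  obtain ⟨t, ht, ht1⟩ := exists_sq_ne_one (F := F) hq
  have hzT := zeta_mem_T Q h t
  have hxT : xr Q v w0' (s / (t ^ 2 - 1)) ∈ T Q := xr_mem_T h.pa.qa h.pb.qa' h.ab' _
  have hc := Cfsg.Agent.Lib.Helper60_S2332_LINEGEN.comm_fixes_line ρ (Bsp Q ρ ψ v v' w0 w0' z) hfr
    (⟨zeta Q v v' w0 w0' t, hzT⟩ : ↥(T Q)) ⟨xr Q v w0' (s / (t ^ 2 - 1)), hxT⟩
    (fun w hw => by
      have := Bsp_zeta Q hQ hdim h ρ ψ z t ht w hw
      rw [repE_of_mem Q ρ hzT] at this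
      exact this)
    (fun w hw => by
      have := Bsp_x1 Q hQ hdim h ρ ψ z (s / (t ^ 2 - 1)) w hw
      rw [repE_of_mem Q ρ hxT] at this
      exact this) x hx
  have hmem : zeta Q v v' w0 w0' t * xr Q v w0' (s / (t ^ 2 - 1)) * (zeta Q v v' w0 w0' t)⁻¹ *
      (xr Q v w0' (s / (t ^ 2 - 1)))⁻¹ ∈ T Q :=
    (T Q).mul_mem ((T Q).mul_mem ((T Q).mul_mem hzT hxT) ((T Q).inv_mem hzT)) ((T Q).inv_mem hxT)
  have hrep : repE Q ρ (xr Q v w0' s) x = ρ ((⟨zeta Q v v' w0 w0' t, hzT⟩ : ↥(T Q)) *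
      ⟨xr Q v w0' (s / (t ^ 2 - 1)), hxT⟩ * (⟨zeta Q v v' w0 w0' t, hzT⟩ : ↥(T Q))⁻¹ *
      (⟨xr Q v w0' (s / (t ^ 2 - 1)), hxT⟩ : ↥(T Q))⁻¹) x := by
    rw [← x1_eq_comm Q h t ht ht1 s, repE_of_mem Q ρ hmem]
    rfl
  rw [hrep, hc]

/-! ## OO2-XTRIV (M/L) -/
theorem Bsp_le_X0 (Q : QuadraticForm F V) (hQ : (QuadraticMap.polarBilin Q).Nondegenerate)
    (hdim : 5 ≤ finrank F V) (hq : 4 ≤ Fintype.card F) {v v' w0 w0' : V}
    (h : HQuad Q v v' w0 w0') (ρ : Representation ℂ ↥(T Q) X) (ψ : AddChar F ℂ) (z : V)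
    (hz : z ∈ W1 Q v v' w0 w0') (hfr : finrank ℂ ↥(Bsp Q ρ ψ v v' w0 w0' z) ≤ 1) :
    Bsp Q ρ ψ v v' w0 w0' z ≤ X0sp Q ρ v v' := by
  rcases Nat.lt_or_ge (finrank ℂ ↥(Bsp Q ρ ψ v v' w0 w0' z)) 1 with h0 | h1
  · have : Bsp Q ρ ψ v v' w0 w0' z = ⊥ := by
      rw [← Submodule.finrank_eq_zero]
      omega
    rw [this]
    exact bot_le
  have hfr1 : finrank ℂ ↥(Bsp Q ρ ψ v v' w0 w0' z) = 1 := le_antisymm hfr h1
  intro x hx
  unfold X0sp
  rw [mem_fixE]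
  intro w hw
  have hv := h.pa.qa
  obtain ⟨hvw, hv'w⟩ := (mem_perp Q v v').1 hw
  -- decomposition `w = w₁ + a w0 + b w0'`
  set a : F := P (⇑Q) w0' w with ha
  set b : F := P (⇑Q) w0 w with hb
  set w1 : V := w - a • w0 - b • w0' with hw1
  have hw0w0 : P (⇑Q) w0 w0 = 0 := polar_self_of_zero h.pb.qa
  have hw0'w0' : P (⇑Q) w0' w0' = 0 := polar_self_of_zero h.pb.qa'
  have hw0'w0 : P (⇑Q) w0' w0 = 1 := by rw [QuadraticMap.polar_comm]; exact h.pb.aa'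
  have hw1mem : w1 ∈ W1 Q v v' w0 w0' := by
    rw [mem_W1]
    refine ⟨⟨?_, ?_⟩, ?_, ?_⟩
    · rw [hw1, QuadraticMap.polar_sub_right, QuadraticMap.polar_sub_right,
        QuadraticMap.polar_smul_right, QuadraticMap.polar_smul_right, hvw, h.ab, h.ab']
      simp
    · rw [hw1, QuadraticMap.polar_sub_right, QuadraticMap.polar_sub_right,
        QuadraticMap.polar_smul_right, QuadraticMap.polar_smul_right, hv'w, h.a'b, h.a'b']
      simp
    · rw [hw1, QuadraticMap.polar_sub_right, QuadraticMap.polar_sub_right,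
        QuadraticMap.polar_smul_right, QuadraticMap.polar_smul_right, hw0w0, h.pb.aa']
      simp [hb]
    · rw [hw1, QuadraticMap.polar_sub_right, QuadraticMap.polar_sub_right,
        QuadraticMap.polar_smul_right, QuadraticMap.polar_smul_right, hw0'w0', hw0'w0]
      simp [ha]
  have hsum : w1 + a • w0 ∈ W1 Q v v' w0 w0' ⊔ Submodule.span F {w0} :=
    Submodule.add_mem _ (Submodule.mem_sup_left hw1mem)
      (Submodule.mem_sup_right (Submodule.smul_mem _ _ (Submodule.mem_span_singleton_self w0)))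
  have hdec : w = (w1 + a • w0) + b • w0' := by
    rw [hw1]; abel
  have hv1 : P (⇑Q) v (w1 + a • w0) = 0 := polar_v_of_mem Q h hsum
  have hv2 : P (⇑Q) v (b • w0') = 0 := by
    rw [QuadraticMap.polar_smul_right, h.ab', smul_zero]
  have hT1 : E Q v (w1 + a • w0) ∈ T Q := E_mem_T Q hQ hdim hv hv1
  have hT2 : E Q v (b • w0') ∈ T Q := E_mem_T Q hQ hdim hv hv2
  have hx' := (mem_Bsp Q ρ ψ v v' w0 w0' z x).1 hx
  have hfix2 : repE Q ρ (E Q v (b • w0')) x = x :=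
    x1_fix_of_line Q hQ hdim hq h ρ ψ z hfr1 b x hx
  rw [hdec, ← E_mul Q hv hv1 hv2, repE_mul Q ρ hT1 hT2, Module.End.mul_apply, hfix2,
    hx'.1 _ hsum]

end Cfsg.Agent.Lib.Helper43_OO2_XTRIV
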