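import Mathlib
import Cfsg.Agent.Lib.Helper38_OTDefs

set_option autoImplicit false
set_option linter.unusedSectionVars false
set_option linter.unusedVariables false

/-!
# OTENS4 package OT-ALGO (architect helper38): `alg_odd`

`ω` a nondegenerate alternating form on `W`, `dim W ≥ 4`, `2 ≠ 0`.  A subspace `𝒯` of `End W` containing `1`,
stable under conjugation by isometries, with `T + T^*` scalar for `T ∈ 𝒯` and `T T'^* + T' T^*` scalar for
`T, T' ∈ 𝒯`, consists of scalars.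

Proof: `T₀ = T - l/2` is skew-adjoint; if `T₀ ≠ 0` some `ω (T₀ y) y ≠ 0`; conjugating by the transvections
`t_y(±1)` gives `P_y = ω(·, y) y ∈ 𝒯`; conjugating by `t_{y - y'}(1)` (`ω y y' = 1`) gives `P_{y'} ∈ 𝒯`;
`P_y P_{y'} + P_{y'} P_y` is the identity at `y` and zero on `⟨y, y'⟩^⊥ ≠ 0`, not a scalar.
-/

namespace Cfsg.Agent.Lib.Helper43_OT_ALGO

open Matrix Module
open Cfsg.Agent.Lib.Helper98_ExtDefs Cfsg.Agent.Lib.Helper97_TensDefs
open Cfsg.Agent.Lib.Helper94_Herm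
open Cfsg.Agent.Lib.Helper67_UT2Defs Cfsg.Agent.Lib.Helper37_UTDefs
open Cfsg.Agent.Lib.Helper37_UTPairDefs
open Cfsg.Agent.Lib.Helper94_OrthSmall Cfsg.Agent.Lib.Helper94_OrthSiegel
open Cfsg.Agent.Lib.Helper67_T2ODefs (IsAltMap aw)
open Cfsg.Agent.Lib.Helper38_OTDefs

variable {F : Type*} [Field F]

section Alg

variable {W : Type*} [AddCommGroup W] [Module F W] [FiniteDimensional F W]
  {ω : LinearMap.BilinForm F W}

/-- an alternating form is skew-symmetric -/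
theorem skew_of_alt (hω : ∀ x, ω x x = 0) (u v : W) : ω u v = - ω v u := by
  have h := hω (u + v)
  simp only [map_add, LinearMap.add_apply, hω u, hω v] at h
  linear_combination h

/-- the symplectic transvection is an isometry -/
theorem utv_mem_uG_alt (hω : ∀ x, ω x x = 0) (a : W) (c : F) : utv ω a c ∈ uG ω := by
  intro x y
  rw [utv_apply ω (hω a), utv_apply ω (hω a)]
  simp only [map_add, map_smul, LinearMap.add_apply, LinearMap.smul_apply, smul_eq_mul, hω a]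
  rw [skew_of_alt hω a y]
  ring

/-- the inverse of the symplectic transvection -/
theorem utv_inv_apply_alt (hω : ∀ x, ω x x = 0) (a : W) (c : F) (v : W) :
    (utv ω a c)⁻¹ v = v - (c * ω v a) • a := by
  have h : utv ω a c (v - (c * ω v a) • a) = v := by
    rw [utv_apply ω (hω a)]
    simp only [map_sub, map_smul, LinearMap.sub_apply, LinearMap.smul_apply, smul_eq_mul, hω a,
      mul_zero, sub_zero]
    abel
  rw [← h, Cfsg.Agent.Lib.Helper94_Symp.inv_apply_apply', h]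

/-- the rank one operator `P_y = ω(·, y) y` -/
def Pop (ω : LinearMap.BilinForm F W) (y : W) : W →ₗ[F] W := (ω.flip y).smulRight y

theorem Pop_apply (y v : W) : Pop ω y v = ω v y • y := rfl

/-- conjugation of `P_y` by an isometry -/
theorem conj_Pop {g : W ≃ₗ[F] W} (hg : g ∈ uG ω) (y : W) :
    (g : W ≃ₗ[F] W).toLinearMap ∘ₗ Pop ω y ∘ₗ (g⁻¹ : W ≃ₗ[F] W).toLinearMap = Pop ω (g y) := by
  apply LinearMap.ext
  intro v
  show g (Pop ω y (g⁻¹ v)) = Pop ω (g y) v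
  rw [Pop_apply, Pop_apply, map_smul, uG_inv_apply ω hg]

/-- characteristic `≠ 2` -/
theorem alg_odd (hω : ∀ x, ω x x = 0) (hωN : NondegOn ω ⊤) (h4 : 4 ≤ finrank F W)
    (h2 : (2 : F) ≠ 0) (𝒯 : Submodule F (W →ₗ[F] W)) (h1 : LinearMap.id ∈ 𝒯)
    (hconj : ∀ T ∈ 𝒯, ∀ g ∈ uG ω,
      (g : W ≃ₗ[F] W).toLinearMap ∘ₗ T ∘ₗ (g⁻¹ : W ≃ₗ[F] W).toLinearMap ∈ 𝒯)
    (hself : ∀ T ∈ 𝒯, ∃ l : F, ∀ u v, ω (T u) v + ω u (T v) = l * ω u v)
    (hpair : ∀ T ∈ 𝒯, ∀ T' ∈ 𝒯, ∀ Ta Ta' : W →ₗ[F] W, IsAdjO ω T Ta → IsAdjO ω T' Ta' →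
      ∃ μ : F, T ∘ₗ Ta' + T' ∘ₗ Ta = μ • LinearMap.id) :
    ∀ T ∈ 𝒯, ∃ c : F, T = c • LinearMap.id := by
  intro T hT
  obtain ⟨l, hl⟩ := hself T hT
  have hsk := skew_of_alt hω
  refine ⟨l / 2, ?_⟩
  by_contra hne
  obtain ⟨T₀, hT₀⟩ : ∃ T₀ : W →ₗ[F] W, T₀ = T - (l / 2) • LinearMap.id := ⟨_, rfl⟩
  have hT₀mem : T₀ ∈ 𝒯 := by
    rw [hT₀]
    exact 𝒯.sub_mem hT (𝒯.smul_mem _ h1)
  have hT₀ne : T₀ ≠ 0 := fun h => hne (sub_eq_zero.mp (hT₀ ▸ h))
  have hT₀app : ∀ u, T₀ u = T u - (l / 2) • u := fun u => by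
    rw [hT₀]
    rfl
  have hT₀sk : ∀ u v, ω (T₀ u) v + ω u (T₀ v) = 0 := by
    intro u v
    rw [hT₀app, hT₀app]
    simp only [map_sub, map_smul, LinearMap.sub_apply, LinearMap.smul_apply, smul_eq_mul]
    have := hl u v
    field_simp
    linear_combination 2 * this
  -- a nonzero diagonal value
  obtain ⟨y, hy⟩ : ∃ y, ω (T₀ y) y ≠ 0 := by
    by_contra hall
    push Not at hall
    apply hT₀ne
    apply LinearMap.ext
    intro u
    by_contra hu
    obtain ⟨v, -, hv⟩ := hωN (T₀ u) trivial hu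
    apply hv
    have e1 := hall (u + v)
    simp only [map_add, LinearMap.add_apply, hall u, hall v] at e1
    have e2 := hT₀sk u v
    have e3 := hsk u (T₀ v)
    have e4 : (2 : F) * ω (T₀ u) v = 0 := by linear_combination e1 + e2 - e3
    exact (mul_eq_zero.1 e4).resolve_left h2
  have hy0 : y ≠ 0 := by
    intro h0
    apply hy
    rw [h0, map_zero]
  obtain ⟨a, ha⟩ : ∃ a : F, a = ω (T₀ y) y := ⟨_, rfl⟩
  rw [← ha] at hy
  -- `P_y ∈ 𝒯`
  have hΔ : ∀ s : F, (utv ω y s : W ≃ₗ[F] W).toLinearMap ∘ₗ T₀ ∘ₗ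
      ((utv ω y s)⁻¹ : W ≃ₗ[F] W).toLinearMap ∈ 𝒯 :=
    fun s => hconj T₀ hT₀mem _ (utv_mem_uG_alt hω y s)
  have hΔapp : ∀ (s : F) (v : W), ((utv ω y s : W ≃ₗ[F] W).toLinearMap ∘ₗ T₀ ∘ₗ
      ((utv ω y s)⁻¹ : W ≃ₗ[F] W).toLinearMap) v =
      T₀ v - (s * ω v y) • T₀ y + (s * (ω (T₀ v) y - s * ω v y * a)) • y := by
    intro s v
    show utv ω y s (T₀ ((utv ω y s)⁻¹ v)) = _
    rw [utv_inv_apply_alt hω, utv_apply ω (hω y), ha]
    simp only [map_sub, map_smul, LinearMap.sub_apply, LinearMap.smul_apply, smul_eq_mul]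
  have hP : Pop ω y ∈ 𝒯 := by
    have hsum := 𝒯.add_mem (𝒯.sub_mem (hΔ 1) hT₀mem) (𝒯.sub_mem (hΔ (-1)) hT₀mem)
    have hsc := 𝒯.smul_mem (-(2 * a))⁻¹ hsum
    have e : Pop ω y = (-(2 * a))⁻¹ •
        (((utv ω y 1 : W ≃ₗ[F] W).toLinearMap ∘ₗ T₀ ∘ₗ
          ((utv ω y 1)⁻¹ : W ≃ₗ[F] W).toLinearMap - T₀) +
        ((utv ω y (-1) : W ≃ₗ[F] W).toLinearMap ∘ₗ T₀ ∘ₗ
          ((utv ω y (-1))⁻¹ : W ≃ₗ[F] W).toLinearMap - T₀)) := by
      apply LinearMap.ext
      intro v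
      simp only [LinearMap.smul_apply, LinearMap.add_apply, LinearMap.sub_apply, hΔapp, Pop_apply]
      have h2a : -(2 * a) ≠ 0 := neg_ne_zero.mpr (mul_ne_zero h2 hy)
      rw [eq_inv_smul_iff₀ h2a]
      module
    rw [e]
    exact hsc
  -- a partner `y'`
  obtain ⟨y'', -, hy''⟩ := hωN y trivial hy0
  set y' : W := (ω y y'')⁻¹ • y'' with hy'
  have hyy' : ω y y' = 1 := by
    rw [hy', map_smul, smul_eq_mul, inv_mul_cancel₀ hy'']
  have hy'y : ω y' y = -1 := by rw [hsk, hyy']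
  have hP' : Pop ω y' ∈ 𝒯 := by
    have hg := utv_mem_uG_alt hω (y - y') (1 : F)
    have h := hconj _ hP _ hg
    rw [conj_Pop hg] at h
    have e : utv ω (y - y') 1 y = y' := by
      rw [utv_apply ω (hω _)]
      simp only [map_sub, hω y, hyy', one_mul, zero_sub, neg_smul, one_smul]
      abel
    rwa [e] at h
  -- adjoints
  have hadj : ∀ z : W, IsAdjO ω (Pop ω z) (-Pop ω z) := by
    intro z u v
    rw [LinearMap.neg_apply, Pop_apply, Pop_apply]
    simp only [map_smul, map_neg, LinearMap.smul_apply, smul_eq_mul]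
    rw [hsk z v]
    ring
  obtain ⟨μ, hμ⟩ := hpair _ hP _ hP' _ _ (hadj y) (hadj y')
  -- evaluate at `y`
  have hμ1 : μ = 1 := by
    have h := congrArg (fun S : W →ₗ[F] W => S y) hμ
    simp only [LinearMap.add_apply, LinearMap.comp_apply, LinearMap.neg_apply, Pop_apply,
      LinearMap.smul_apply, LinearMap.id_apply, hω y, hyy', hy'y, zero_smul, neg_zero, map_zero,
      one_smul, map_neg, add_zero, neg_smul, neg_neg] at h
    have h' : ((1 : F) - μ) • y = 0 := by rw [sub_smul, one_smul, ← h, sub_self]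
    rcases smul_eq_zero.1 h' with h0 | h0
    · exact (sub_eq_zero.1 h0).symm
    · exact absurd h0 hy0
  -- a nonzero vector orthogonal to `y` and `y'`
  obtain ⟨w, hw0, hwy, hwy'⟩ : ∃ w : W, w ≠ 0 ∧ ω w y = 0 ∧ ω w y' = 0 := by
    let φ : W →ₗ[F] F × F := (ω.flip y).prod (ω.flip y')
    have hrk := LinearMap.finrank_range_add_finrank_ker φ
    have hle : finrank F (LinearMap.range φ) ≤ 2 := by
      have := Submodule.finrank_le (LinearMap.range φ)
      rwa [Module.finrank_prod, Module.finrank_self] at this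
    have hpos : 0 < finrank F (LinearMap.ker φ) := by omega
    obtain ⟨⟨w, hw⟩, hw0⟩ := Module.finrank_pos_iff_exists_ne_zero.1 hpos
    have hw' : φ w = 0 := hw
    refine ⟨w, fun h => hw0 (Subtype.ext h), ?_, ?_⟩
    · exact congrArg Prod.fst hw'
    · exact congrArg Prod.snd hw'
  have h := congrArg (fun S : W →ₗ[F] W => S w) hμ
  simp only [LinearMap.add_apply, LinearMap.comp_apply, LinearMap.neg_apply, Pop_apply,
    LinearMap.id_apply, hwy, hwy', zero_smul, neg_zero, map_zero,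
    add_zero, hμ1, one_smul] at h
  exact hw0 h.symm

end Alg

end Cfsg.Agent.Lib.Helper43_OT_ALGO
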