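import Mathlib
import Cfsg.Agent.Lib.Helper37_UTDefs
import Cfsg.Agent.Lib.Helper37_UTPairDefs
import Cfsg.Agent.Lib.Helper10_UT_O1B
import Cfsg.Agent.Lib.Helper31_UT_O2

set_option autoImplicit false
set_option linter.unusedSectionVars false
set_option linter.unusedVariables false

/-!
# UTENS package UT-ODDALG (architect helper37): `odd_alg`

`T` an automorphism of the nonzero finite dimensional space `J` over the finite field `F` of odd characteristic
with a nontrivial involution `σ`.  The group generated by the maps `(u, v) ↦ (u + s T v, v)` and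
`(u, v) ↦ (u, v + s u)` (`s` skew) contains a nontrivial element of the shape `(u, v) ↦ (c u, c v)`.

Proof: `R = F[T, T⁻¹] ≤ End J` is a finite commutative ring; `SL_2(R)` acts on `J × J` (twisted by a skew
`s0 ≠ 0`, so that the generators are the images of `E21(1)` and `E12(s0² T)`); modulo a maximal ideal of `R`
the group generated by these two matrices has even order (`Helper10_UT_O1B.even_card_closure`, Dickson), so it
contains an involution (Cauchy), which is a scalar matrix (`Helper31_UT_O2.inv_scalar`).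
-/

namespace Cfsg.Agent.Lib.Helper43_UT_ODDALG

open Module Matrix
open Cfsg.Agent.Lib.Helper94_Herm Cfsg.Agent.Lib.Helper13_PSUSimple
open Cfsg.Agent.Lib.Helper37_UTPairDefs
open Cfsg.Agent.Lib.Helper10_UT_O1B Cfsg.Agent.Lib.Helper31_UT_O2

section core

variable {F : Type*} [Field F] {J : Type*} [AddCommGroup J] [Module F J]
variable {R : Type*} [CommRing R]

/-- the endomorphism of `J × J` attached to four endomorphisms of `J` -/
def lin4 (a b c d : Module.End F J) : Module.End F (J × J) :=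
  LinearMap.prod (LinearMap.coprod a b) (LinearMap.coprod c d)

theorem lin4_apply (a b c d : Module.End F J) (p : J × J) :
    lin4 a b c d p = (a p.1 + b p.2, c p.1 + d p.2) := rfl

theorem lin4_mul (a b c d a' b' c' d' : Module.End F J) :
    lin4 a b c d * lin4 a' b' c' d' =
      lin4 (a * a' + b * c') (a * b' + b * d') (c * a' + d * c') (c * b' + d * d') := by
  apply LinearMap.ext
  intro p
  rw [Module.End.mul_apply, lin4_apply, lin4_apply, lin4_apply]
  simp only [map_add, LinearMap.add_apply, Module.End.mul_apply]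
  refine Prod.ext ?_ ?_
  · exact add_add_add_comm _ _ _ _
  · exact add_add_add_comm _ _ _ _

theorem lin4_one : lin4 (1 : Module.End F J) 0 0 1 = 1 := by
  apply LinearMap.ext
  intro p
  rw [lin4_apply]
  simp

/-- the twisted action of `2 × 2` matrices on `J × J` -/
def thetaHom (ι : R →+* Module.End F J) (s0 : F) (hs0 : s0 ≠ 0) :
    Matrix (Fin 2) (Fin 2) R →* Module.End F (J × J) where
  toFun M := lin4 (ι (M 0 0)) (s0⁻¹ • ι (M 0 1)) (s0 • ι (M 1 0)) (ι (M 1 1))
  map_one' := by
    simp only [Matrix.one_apply_eq, Matrix.one_apply_ne, ne_eq, zero_ne_one, one_ne_zero,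
      not_false_eq_true, map_one, map_zero, smul_zero, Fin.isValue]
    exact lin4_one
  map_mul' M N := by
    rw [lin4_mul]
    simp only [Matrix.mul_apply, Fin.sum_univ_two, map_add, map_mul, Fin.isValue]
    congr 1
    · rw [smul_mul_smul_comm, inv_mul_cancel₀ hs0, one_smul]
    · rw [smul_add, mul_smul_comm, smul_mul_assoc]
    · rw [smul_add, mul_smul_comm, smul_mul_assoc]
    · rw [smul_mul_smul_comm, mul_inv_cancel₀ hs0, one_smul]

theorem thetaHom_apply (ι : R →+* Module.End F J) (s0 : F) (hs0 : s0 ≠ 0)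
    (M : Matrix (Fin 2) (Fin 2) R) (p : J × J) :
    thetaHom ι s0 hs0 M p =
      (ι (M 0 0) p.1 + s0⁻¹ • ι (M 0 1) p.2, s0 • ι (M 1 0) p.1 + ι (M 1 1) p.2) := rfl

/-- the action of `SL_2(R)` on `J × J` -/
noncomputable def thetaSL (ι : R →+* Module.End F J) (s0 : F) (hs0 : s0 ≠ 0) :
    Matrix.SpecialLinearGroup (Fin 2) R →* ((J × J) ≃ₗ[F] (J × J)) :=
  (LinearMap.GeneralLinearGroup.generalLinearEquiv F (J × J)).toMonoidHom.comp
    ((Units.map (thetaHom ι s0 hs0)).comp Matrix.SpecialLinearGroup.toGL)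

theorem thetaSL_apply (ι : R →+* Module.End F J) (s0 : F) (hs0 : s0 ≠ 0)
    (M : Matrix.SpecialLinearGroup (Fin 2) R) (p : J × J) :
    thetaSL ι s0 hs0 M p =
      (ι (M.1 0 0) p.1 + s0⁻¹ • ι (M.1 0 1) p.2, s0 • ι (M.1 1 0) p.1 + ι (M.1 1 1) p.2) := rfl

theorem core [Finite R] [Nontrivial R] (ι : R →+* Module.End F J) (hι : Function.Injective ι)
    (h2 : IsUnit (2 : R)) (μ : R) (hμ : IsUnit μ) (s0 : F) (hs0 : s0 ≠ 0) :
    ∃ g ∈ Subgroup.closure {g : (J × J) ≃ₗ[F] (J × J) |
        (∀ p, g p = (p.1 + s0⁻¹ • ι μ p.2, p.2)) ∨ (∀ p, g p = (p.1, p.2 + s0 • p.1))},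
      g ≠ 1 ∧ ∃ c : J →ₗ[F] J, ∀ p, g p = (c p.1, c p.2) := by
  classical
  -- a maximal ideal and its residue field
  obtain ⟨𝔪, h𝔪⟩ := Ideal.exists_maximal R
  have := h𝔪
  let : Field (R ⧸ 𝔪) := Ideal.Quotient.field 𝔪
  have : Finite (R ⧸ 𝔪) := Finite.of_surjective (Ideal.Quotient.mk 𝔪) Ideal.Quotient.mk_surjective
  let : Fintype (R ⧸ 𝔪) := Fintype.ofFinite _
  let π : R →+* R ⧸ 𝔪 := Ideal.Quotient.mk 𝔪
  have h2K : (2 : R ⧸ 𝔪) ≠ 0 := by
    have h : IsUnit (π 2) := h2.map π
    rw [map_ofNat] at h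
    exact h.ne_zero
  have hlam : π μ ≠ 0 := (hμ.map π).ne_zero
  have heven := even_card_closure h2K (π μ) hlam
  -- the two generators over `R`
  let A : Matrix.SpecialLinearGroup (Fin 2) R := ⟨!![1, 0; 1, 1], by simp [Matrix.det_fin_two_of]⟩
  let B : Matrix.SpecialLinearGroup (Fin 2) R := ⟨!![1, μ; 0, 1], by simp [Matrix.det_fin_two_of]⟩
  let Γt : Subgroup (Matrix.SpecialLinearGroup (Fin 2) R) := Subgroup.closure {A, B}
  let ρ : Matrix.SpecialLinearGroup (Fin 2) R →* Matrix.SpecialLinearGroup (Fin 2) (R ⧸ 𝔪) :=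
    Matrix.SpecialLinearGroup.map π
  have hle : Subgroup.closure
      {g : Matrix.SpecialLinearGroup (Fin 2) (R ⧸ 𝔪) |
        (g : Matrix (Fin 2) (Fin 2) (R ⧸ 𝔪)) = !![1, 0; 1, 1] ∨
        (g : Matrix (Fin 2) (Fin 2) (R ⧸ 𝔪)) = !![1, π μ; 0, 1]} ≤ Γt.map ρ := by
    rw [Subgroup.closure_le]
    rintro g (hg | hg)
    · refine ⟨A, Subgroup.subset_closure (Set.mem_insert _ _), ?_⟩
      apply Subtype.ext
      rw [hg]
      show π.mapMatrix !![1, 0; 1, 1] = _
      ext i k
      fin_cases i <;> fin_cases k <;> simp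
    · refine ⟨B, Subgroup.subset_closure (Set.mem_insert_of_mem _ rfl), ?_⟩
      apply Subtype.ext
      rw [hg]
      show π.mapMatrix !![1, μ; 0, 1] = _
      ext i k
      fin_cases i <;> fin_cases k <;> simp
  have : Finite (Matrix.SpecialLinearGroup (Fin 2) R) := inferInstance
  have h2dvd : 2 ∣ Nat.card Γt := by
    have h1 := even_iff_two_dvd.1 heven
    have h3 := Subgroup.card_dvd_of_le hle
    have h4 := Subgroup.card_map_dvd (H := Γt) ρ
    exact h1.trans (h3.trans h4)
  have : Fact (Nat.Prime 2) := ⟨Nat.prime_two⟩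
  obtain ⟨j, hj⟩ := exists_prime_orderOf_dvd_card' (G := Γt) 2 h2dvd
  have hj2 : j ^ 2 = 1 := by
    have h := pow_orderOf_eq_one j
    rwa [hj] at h
  have hj1 : j ≠ 1 := by
    intro h
    rw [h, orderOf_one] at hj
    exact absurd hj (by norm_num)
  have hM2 : (j.1.1 : Matrix (Fin 2) (Fin 2) R) * j.1.1 = 1 := by
    have h := congrArg (fun x : Γt => ((x : Matrix.SpecialLinearGroup (Fin 2) R) :
      Matrix (Fin 2) (Fin 2) R)) hj2
    simpa [sq] using h
  obtain ⟨c, hc⟩ := inv_scalar h2 j.1.1 j.1.2 hM2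
  -- the image of the closure
  have hmap : Γt.map (thetaSL ι s0 hs0) ≤ Subgroup.closure {g : (J × J) ≃ₗ[F] (J × J) |
        (∀ p, g p = (p.1 + s0⁻¹ • ι μ p.2, p.2)) ∨ (∀ p, g p = (p.1, p.2 + s0 • p.1))} := by
    rw [MonoidHom.map_closure, Subgroup.closure_le]
    rintro _ ⟨x, hx, rfl⟩
    rcases hx with rfl | hx
    · apply Subgroup.subset_closure
      right
      intro p
      rw [thetaSL_apply]
      simp [A, add_comm]
    · rw [Set.mem_singleton_iff] at hx
      subst hx
      apply Subgroup.subset_closure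
      left
      intro p
      rw [thetaSL_apply]
      simp [B]
  refine ⟨thetaSL ι s0 hs0 j.1, hmap ⟨j.1, j.2, rfl⟩, ?_, ι c, ?_⟩
  · intro h
    apply hj1
    have hc1 : ι c = ι 1 := by
      rw [map_one]
      apply LinearMap.ext
      intro u
      have h' := congrArg (fun g : (J × J) ≃ₗ[F] (J × J) => (g (u, 0)).1) h
      simp only [thetaSL_apply, hc] at h'
      simpa using h'
    have hc' : c = 1 := hι hc1
    apply Subtype.ext
    apply Subtype.ext
    rw [hc, hc', one_smul]
    rfl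
  · intro p
    rw [thetaSL_apply, hc]
    simp

end core


variable {F : Type*} [Field F] {V : Type*} [AddCommGroup V] [Module F V] {σ : F →+* F}

open scoped IsMulCommutative in
/-- ODDALG (L): `SL_2(R)`, Dickson, Cayley–Hamilton -/
theorem odd_alg [Finite F] (hσ : Invol σ) (h2 : (2 : F) ≠ 0) {J : Type*} [AddCommGroup J]
    [Module F J] [FiniteDimensional F J] [Nontrivial J] (T : J ≃ₗ[F] J) :
    ∃ g ∈ Subgroup.closure {g : (J × J) ≃ₗ[F] (J × J) | ∃ s : F, σ s = -s ∧
        ((∀ p, g p = (p.1 + s • T p.2, p.2)) ∨ (∀ p, g p = (p.1, p.2 + s • p.1)))},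
      g ≠ 1 ∧ ∃ c : J →ₗ[F] J, ∀ p, g p = (c p.1, c p.2) := by
  classical
  obtain ⟨s0, hs0, hs0σ⟩ := exists_skew hσ
  -- the commutative algebra generated by `T` and its inverse
  let T1 : Module.End F J := T.toLinearMap
  let T2 : Module.End F J := T.symm.toLinearMap
  have h12 : T1 * T2 = 1 := by
    apply LinearMap.ext
    intro x
    show T (T.symm x) = x
    exact T.apply_symm_apply x
  have h21 : T2 * T1 = 1 := by
    apply LinearMap.ext
    intro x
    show T.symm (T x) = x
    exact T.symm_apply_apply x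
  have hcomm : ∀ a ∈ ({T1, T2} : Set (Module.End F J)), ∀ b ∈ ({T1, T2} : Set (Module.End F J)),
      a * b = b * a := by
    intro a ha b hb
    rcases ha with rfl | ha <;> rcases hb with rfl | hb
    · rfl
    · rw [Set.mem_singleton_iff] at hb
      subst hb
      rw [h12, h21]
    · rw [Set.mem_singleton_iff] at ha
      subst ha
      rw [h12, h21]
    · rw [Set.mem_singleton_iff] at ha hb
      subst ha
      subst hb
      rfl
  let A : Subalgebra F (Module.End F J) := Algebra.adjoin F {T1, T2}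
  have hmc : IsMulCommutative A := Algebra.isMulCommutative_adjoin F hcomm
  have hJfin : Finite J := Module.finite_of_finite F
  have hEfin : Finite (Module.End F J) :=
    Finite.of_injective (fun f : Module.End F J => (f : J → J)) DFunLike.coe_injective
  have hAfin : Finite A := inferInstance
  have hAnt : Nontrivial A := inferInstance
  let ι : A →+* Module.End F J := A.val.toRingHom
  have hι : Function.Injective ι := Subtype.val_injective
  have h2A : IsUnit (2 : A) := by
    have h : IsUnit (algebraMap F A 2) := (IsUnit.mk0 2 h2).map (algebraMap F A)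
    rwa [map_ofNat] at h
  let τ1 : A := ⟨T1, Algebra.subset_adjoin (Set.mem_insert _ _)⟩
  let τ2 : A := ⟨T2, Algebra.subset_adjoin (Set.mem_insert_of_mem _ rfl)⟩
  let μ : A := (s0 * s0) • τ1
  have hμ : IsUnit μ := by
    have hmul : μ * ((s0 * s0)⁻¹ • τ2) = 1 := by
      apply Subtype.ext
      show ((s0 * s0) • T1) * ((s0 * s0)⁻¹ • T2) = 1
      rw [smul_mul_smul_comm, h12, mul_inv_cancel₀ (mul_ne_zero hs0 hs0), one_smul]
    exact ⟨⟨μ, (s0 * s0)⁻¹ • τ2, hmul, by rw [mul_comm]; exact hmul⟩, rfl⟩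
  obtain ⟨g, hg, hg1, c, hc⟩ := core ι hι h2A μ hμ s0 hs0
  refine ⟨g, ?_, hg1, c, hc⟩
  refine Subgroup.closure_mono ?_ hg
  rintro x (hx | hx)
  · refine ⟨s0, hs0σ, Or.inl ?_⟩
    intro p
    rw [hx p]
    show (p.1 + s0⁻¹ • ((s0 * s0) • T1) p.2, p.2) = _
    rw [LinearMap.smul_apply, smul_smul, ← mul_assoc, inv_mul_cancel₀ hs0, one_mul]
    rfl
  · exact ⟨s0, hs0σ, Or.inr hx⟩

end Cfsg.Agent.Lib.Helper43_UT_ODDALG
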