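import Mathlib
import Cfsg.Agent.Lib.Helper43_UT_ODDALG

set_option autoImplicit false
set_option linter.unusedSectionVars false
set_option linter.unusedVariables false

/-!
# OTENS4 package OT-ODDALG (architect helper38): `odd_algO`, the orthogonal twin of UT-ODDALG

Same proof as `Helper43_UT_ODDALG.odd_alg` (through its `core`), with the parameter `s0 = 1`.
-/

namespace Cfsg.Agent.Lib.Helper43_OT_ODDALG

open Module
open Cfsg.Agent.Lib.Helper43_UT_ODDALG

variable {F : Type*} [Field F] {V : Type*} [AddCommGroup V] [Module F V]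

open scoped IsMulCommutative in
/-- ODDALG (L): `SL_2(R)`, Dickson, Cayley–Hamilton (twin of UT-ODDALG) -/
theorem odd_algO [Finite F] (h2 : (2 : F) ≠ 0) {J : Type*} [AddCommGroup J]
    [Module F J] [FiniteDimensional F J] [Nontrivial J] (T : J ≃ₗ[F] J) :
    ∃ g ∈ Subgroup.closure {g : (J × J) ≃ₗ[F] (J × J) | ∃ s : F,
        ((∀ p, g p = (p.1 + s • T p.2, p.2)) ∨ (∀ p, g p = (p.1, p.2 + s • p.1)))},
      g ≠ 1 ∧ ∃ c : J →ₗ[F] J, ∀ p, g p = (c p.1, c p.2) := by
  classical
  -- the commutative algebra generated by `T` and its inverse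
  let T1 : Module.End F J := T.toLinearMap
  let T2 : Module.End F J := T.symm.toLinearMap
  have h12 : T1 * T2 = 1 := by
    apply LinearMap.ext
    intro x
    show T (T.symm x) = x
    exact T.apply_symm_apply x
  have h21 : T2 * T1 = 1 := by
    apply LinearMap.ext
    intro x
    show T.symm (T x) = x
    exact T.symm_apply_apply x
  have hcomm : ∀ a ∈ ({T1, T2} : Set (Module.End F J)), ∀ b ∈ ({T1, T2} : Set (Module.End F J)),
      a * b = b * a := by
    intro a ha b hb
    rcases ha with rfl | ha <;> rcases hb with rfl | hb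
    · rfl
    · rw [Set.mem_singleton_iff] at hb
      subst hb
      rw [h12, h21]
    · rw [Set.mem_singleton_iff] at ha
      subst ha
      rw [h12, h21]
    · rw [Set.mem_singleton_iff] at ha hb
      subst ha
      subst hb
      rfl
  let A : Subalgebra F (Module.End F J) := Algebra.adjoin F {T1, T2}
  have hmc : IsMulCommutative A := Algebra.isMulCommutative_adjoin F hcomm
  have hJfin : Finite J := Module.finite_of_finite F
  have hEfin : Finite (Module.End F J) :=
    Finite.of_injective (fun f : Module.End F J => (f : J → J)) DFunLike.coe_injective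
  have hAfin : Finite A := inferInstance
  have hAnt : Nontrivial A := inferInstance
  let ι : A →+* Module.End F J := A.val.toRingHom
  have hι : Function.Injective ι := Subtype.val_injective
  have h2A : IsUnit (2 : A) := by
    have h : IsUnit (algebraMap F A 2) := (IsUnit.mk0 2 h2).map (algebraMap F A)
    rwa [map_ofNat] at h
  let τ1 : A := ⟨T1, Algebra.subset_adjoin (Set.mem_insert _ _)⟩
  let τ2 : A := ⟨T2, Algebra.subset_adjoin (Set.mem_insert_of_mem _ rfl)⟩
  have hμ : IsUnit τ1 := by
    have hmul : τ1 * τ2 = 1 := Subtype.ext h12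
    exact ⟨⟨τ1, τ2, hmul, by rw [mul_comm]; exact hmul⟩, rfl⟩
  obtain ⟨g, hg, hg1, c, hc⟩ := core ι hι h2A τ1 hμ (1 : F) one_ne_zero
  refine ⟨g, ?_, hg1, c, hc⟩
  refine Subgroup.closure_mono ?_ hg
  rintro x (hx | hx)
  · refine ⟨1, Or.inl ?_⟩
    intro p
    rw [hx p, inv_one]
    rfl
  · exact ⟨1, Or.inr hx⟩

end Cfsg.Agent.Lib.Helper43_OT_ODDALG
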