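import Mathlib

/-!
# OEXT3 package TT_NOJ (architect helper97): `no_ti3_of_J`

A nondegenerate symmetric bilinear form `B'` on a six-dimensional space `W` over a field `F` with `2 ≠ 0`,
admitting `J` with `J² = f` (`f` a nonsquare) and `B' (J x) (J y) = - f B' x y`, has no totally isotropic
subspace of dimension three.

(The hypothesis `2 ≠ 0` cannot be dropped: over `F = 𝔽₂(t)`, `f = t`, `W = F(√t)³`, `J = √t`,
`B' x y =` the `√t`-coefficient of `∑ xᵢ yᵢ`, the subspace `F³` is totally isotropic.)

Proof: `J` is skew-adjoint, so `a x y = B' (J x) y` is alternating; on the three-dimensional `T'` it has a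
radical vector `x₀ ≠ 0` (the Gram determinant of an alternating form in odd dimension vanishes).  For
`z ∈ T'` outside `P = ⟨x₀, J x₀⟩` the span `S` of `x₀, J x₀, z, J z` is totally isotropic, so of dimension at
most three.  Both `P ≠ 0` and `S ⊋ P` are `J`-stable, hence of even dimension (determinant of `J` restricted:
`det² = f ^ dim`): `dim P = 2`, `dim S = 3`, a contradiction.
-/

set_option autoImplicit false
set_option linter.unusedSectionVars false
set_option linter.unusedVariables false

namespace Cfsg.Agent.Lib.Helper43_OX3_TT_NOJ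

open Module

section

variable {F W : Type*} [Field F] [AddCommGroup W] [Module F W]

/-- a subspace stable under `J` with `J² = f`, `f` a nonsquare, has even dimension -/
theorem even_finrank_of_stable (f : F) (hf : ¬ IsSquare f) (J : W →ₗ[F] W)
    (hJ2 : ∀ x, J (J x) = f • x) (S : Submodule F W) (hS : ∀ x ∈ S, J x ∈ S) :
    Even (finrank F S) := by
  by_contra hodd
  rw [Nat.not_even_iff_odd] at hodd
  obtain ⟨k, hk⟩ := hodd
  have hf0 : f ≠ 0 := by
    rintro rfl
    exact hf ⟨0, by simp⟩
  let J' : S →ₗ[F] S := J.restrict hS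
  have hJ' : J' ∘ₗ J' = f • LinearMap.id := by
    apply LinearMap.ext
    intro x
    apply Subtype.ext
    show J (J x.1) = f • x.1
    exact hJ2 x.1
  have hdet := congrArg LinearMap.det hJ'
  rw [LinearMap.det_comp, LinearMap.det_smul, LinearMap.det_id, mul_one, hk] at hdet
  apply hf
  refine ⟨LinearMap.det J' / f ^ k, ?_⟩
  have hfk : f ^ k ≠ 0 := pow_ne_zero k hf0
  field_simp
  rw [← sq, ← pow_mul, mul_comm k 2] at *
  rw [pow_succ] at hdet
  linear_combination -hdet

/-- a totally isotropic subspace of a nondegenerate space has at most half the dimension -/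
theorem two_mul_finrank_le_of_ti [FiniteDimensional F W] (B' : LinearMap.BilinForm F W)
    (hnd : B'.Nondegenerate) (S : Submodule F W) (hS : ∀ x ∈ S, ∀ y ∈ S, B' x y = 0) :
    2 * finrank F S ≤ finrank F W := by
  have hle : S ≤ B'.orthogonal S := by
    intro y hy
    rw [LinearMap.BilinForm.mem_orthogonal_iff]
    intro x hx
    exact hS x hx y hy
  have h1 := Submodule.finrank_mono hle
  have h2 := LinearMap.BilinForm.finrank_orthogonal hnd S
  have h3 := Submodule.finrank_le S
  omega

/-- an alternating form on a three-dimensional space has a nonzero radical vector (`2 ≠ 0`) -/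
theorem exists_radical3 {T : Type*} [AddCommGroup T] [Module F T] (h2 : (2 : F) ≠ 0)
    (hT3 : finrank F T = 3) (c : T →ₗ[F] T →ₗ[F] F) (hskew : ∀ x y, c x y = - c y x) :
    ∃ x : T, x ≠ 0 ∧ ∀ y, c x y = 0 := by
  classical
  have hfin : Module.Finite F T := Module.finite_of_finrank_pos (by rw [hT3]; norm_num)
  let b := Module.finBasisOfFinrankEq F T hT3
  have hdet : (LinearMap.toMatrix₂ b b c).det = 0 := by
    have hA : (LinearMap.toMatrix₂ b b c).transpose = - LinearMap.toMatrix₂ b b c := by
      ext i j
      rw [Matrix.transpose_apply, Matrix.neg_apply, LinearMap.toMatrix₂_apply,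
        LinearMap.toMatrix₂_apply, hskew]
    have h := Matrix.det_transpose (LinearMap.toMatrix₂ b b c)
    rw [hA, Matrix.det_neg, Fintype.card_fin] at h
    have h' : (2 : F) * (LinearMap.toMatrix₂ b b c).det = 0 := by linear_combination -h
    exact (mul_eq_zero.1 h').resolve_left h2
  have hns : ¬ c.SeparatingLeft := by
    rw [LinearMap.separatingLeft_iff_det_ne_zero b]
    exact not_not.2 hdet
  unfold LinearMap.SeparatingLeft at hns
  push Not at hns
  obtain ⟨x, hx, hx0⟩ := hns
  exact ⟨x, hx0, hx⟩

/-- TT_NOJ (with the hypothesis `2 ≠ 0`, without which the statement fails) -/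
theorem no_ti3_of_J (h2 : (2 : F) ≠ 0)
    (hW : finrank F W = 6) (B' : LinearMap.BilinForm F W) (hsymm : ∀ x y, B' x y = B' y x)
    (hnd : B'.Nondegenerate) (f : F) (hf : ¬ IsSquare f) (J : W →ₗ[F] W)
    (hJ2 : ∀ x, J (J x) = f • x) (hJB : ∀ x y, B' (J x) (J y) = - f * B' x y)
    (T' : Submodule F W) (hT3 : finrank F T' = 3) (hT : ∀ x ∈ T', ∀ y ∈ T', B' x y = 0) :
    False := by
  classical
  have hfd : FiniteDimensional F W := Module.finite_of_finrank_pos (by rw [hW]; norm_num)
  have hf0 : f ≠ 0 := by
    rintro rfl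
    exact hf ⟨0, by simp⟩
  -- `J` is skew-adjoint
  have hskew : ∀ x y, B' (J x) y = - B' x (J y) := by
    intro x y
    have h := hJB x (J y)
    rw [hJ2, map_smul, smul_eq_mul] at h
    have h' : f * (B' (J x) y + B' x (J y)) = 0 := by linear_combination h
    rcases mul_eq_zero.1 h' with h0 | h0
    · exact absurd h0 hf0
    · linear_combination h0
  have halt : ∀ x, B' (J x) x = 0 := by
    intro x
    have h := hskew x x
    rw [hsymm x (J x)] at h
    have h' : (2 : F) * B' (J x) x = 0 := by linear_combination h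
    exact (mul_eq_zero.1 h').resolve_left h2
  -- a radical vector of the alternating form on `T'`
  obtain ⟨x₀, hx₀T, hx₀0, hx₀⟩ : ∃ x₀ ∈ T', x₀ ≠ 0 ∧ ∀ y ∈ T', B' (J x₀) y = 0 := by
    let c : T' →ₗ[F] T' →ₗ[F] F := B'.compl₁₂ (J ∘ₗ T'.subtype) T'.subtype
    have hc : ∀ x y : T', c x y = B' (J x.1) y.1 := fun x y => rfl
    obtain ⟨x, hx0, hx⟩ := exists_radical3 h2 hT3 c (by
      intro x y
      rw [hc, hc, hskew, hsymm])
    exact ⟨x.1, x.2, fun h => hx0 (Subtype.ext h), fun y hy => hx ⟨y, hy⟩⟩
  -- the plane `P` and a vector `z` of `T'` outside it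
  let P : Submodule F W := Submodule.span F {x₀, J x₀}
  have hPle : finrank F P ≤ 2 := by
    have h := finrank_span_finset_le_card (R := F) ({x₀, J x₀} : Finset W)
    have h' : (({x₀, J x₀} : Finset W) : Set W) = {x₀, J x₀} := by simp
    rw [h'] at h
    exact h.trans Finset.card_le_two
  obtain ⟨z, hzT, hzP⟩ : ∃ z ∈ T', z ∉ P := by
    by_contra hcon
    push Not at hcon
    have hle : T' ≤ P := fun z hz => hcon z hz
    have := Submodule.finrank_mono hle
    omega
  let S : Submodule F W := Submodule.span F {x₀, J x₀, z, J z}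
  -- orthogonality of the generators
  have hA : ∀ u v, (u = x₀ ∨ u = z) → (v = x₀ ∨ v = z) → B' u v = 0 := by
    intro u v hu hv
    apply hT
    · rcases hu with rfl | rfl
      · exact hx₀T
      · exact hzT
    · rcases hv with rfl | rfl
      · exact hx₀T
      · exact hzT
  have hB : ∀ u v, (u = x₀ ∨ u = z) → (v = x₀ ∨ v = z) → B' (J u) v = 0 := by
    intro u v hu hv
    rcases hu with rfl | rfl
    · apply hx₀
      rcases hv with rfl | rfl
      · exact hx₀T
      · exact hzT
    · rcases hv with rfl | rfl
      · rw [hskew, hsymm, hx₀ _ hzT, neg_zero]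
      · exact halt _
  have hrep : ∀ u ∈ ({x₀, J x₀, z, J z} : Set W),
      ∃ u', (u' = x₀ ∨ u' = z) ∧ (u = u' ∨ u = J u') := by
    intro u hu
    rcases hu with rfl | rfl | rfl | hu
    · exact ⟨_, Or.inl rfl, Or.inl rfl⟩
    · exact ⟨_, Or.inl rfl, Or.inr rfl⟩
    · exact ⟨_, Or.inr rfl, Or.inl rfl⟩
    · rw [Set.mem_singleton_iff] at hu
      subst hu
      exact ⟨_, Or.inr rfl, Or.inr rfl⟩
  have hG : ∀ u ∈ ({x₀, J x₀, z, J z} : Set W), ∀ v ∈ ({x₀, J x₀, z, J z} : Set W),
      B' u v = 0 := by
    intro u hu v hv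
    obtain ⟨u', hu', rfl | rfl⟩ := hrep u hu <;> obtain ⟨v', hv', rfl | rfl⟩ := hrep v hv
    · exact hA _ _ hu' hv'
    · rw [hsymm]
      exact hB _ _ hv' hu'
    · exact hB _ _ hu' hv'
    · rw [hJB, hA _ _ hu' hv', mul_zero]
  have hSti : ∀ x ∈ S, ∀ y ∈ S, B' x y = 0 := by
    intro x hx y hy
    induction hx using Submodule.span_induction with
    | mem u hu =>
      induction hy using Submodule.span_induction with
      | mem v hv => exact hG u hu v hv
      | zero => simp
      | add a b _ _ ha hb => rw [map_add, ha, hb, add_zero]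
      | smul r a _ ha => rw [map_smul, ha, smul_zero]
    | zero => simp
    | add a b _ _ ha hb => rw [map_add, LinearMap.add_apply, ha, hb, add_zero]
    | smul r a _ ha => rw [map_smul, LinearMap.smul_apply, ha, smul_zero]
  have hS3 := two_mul_finrank_le_of_ti B' hnd S hSti
  -- stability under `J`
  have hPst : ∀ x ∈ P, J x ∈ P := by
    have hmap : P.map J ≤ P := by
      rw [Submodule.map_span_le]
      intro u hu
      rcases hu with rfl | hu
      · exact Submodule.subset_span (Set.mem_insert_of_mem _ rfl)
      · rw [Set.mem_singleton_iff] at hu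
        subst hu
        rw [hJ2]
        exact Submodule.smul_mem _ _ (Submodule.subset_span (Set.mem_insert _ _))
    exact fun x hx => hmap (Submodule.mem_map_of_mem hx)
  have hSst : ∀ x ∈ S, J x ∈ S := by
    have hmap : S.map J ≤ S := by
      rw [Submodule.map_span_le]
      intro u hu
      rcases hu with rfl | rfl | rfl | hu
      · exact Submodule.subset_span (by simp)
      · rw [hJ2]
        exact Submodule.smul_mem _ _ (Submodule.subset_span (by simp))
      · exact Submodule.subset_span (by simp)
      · rw [Set.mem_singleton_iff] at hu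
        subst hu
        rw [hJ2]
        exact Submodule.smul_mem _ _ (Submodule.subset_span (by simp))
    exact fun x hx => hmap (Submodule.mem_map_of_mem hx)
  obtain ⟨p, hp⟩ := even_finrank_of_stable f hf J hJ2 P hPst
  obtain ⟨s, hs⟩ := even_finrank_of_stable f hf J hJ2 S hSst
  have hP1 : 1 ≤ finrank F P := by
    rw [Submodule.one_le_finrank_iff]
    intro hbot
    have hx : x₀ ∈ P := Submodule.subset_span (Set.mem_insert _ _)
    rw [hbot, Submodule.mem_bot] at hx
    exact hx₀0 hx
  have hPS : P < S := by
    refine lt_of_le_of_ne (Submodule.span_mono ?_) ?_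
    · intro u hu
      rcases hu with rfl | hu
      · simp
      · rw [Set.mem_singleton_iff] at hu
        subst hu
        simp
    · intro h
      apply hzP
      rw [h]
      exact Submodule.subset_span (by simp)
  have hlt := Submodule.finrank_lt_finrank_of_lt hPS
  omega

/-- over a finite field of characteristic two every element is a square -/
theorem two_ne_zero_of_nonsq [Finite F] {f : F} (hf : ¬ IsSquare f) : (2 : F) ≠ 0 := by
  intro h2
  have hchar : CharP F 2 := CharTwo.of_one_ne_zero_of_two_eq_zero one_ne_zero h2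
  exact hf (FiniteField.isSquare_of_char_two (ringChar.eq F 2) f)

/-- TT_NOJ over a finite field: the statement of the stub VERBATIM, with `[Finite F]` added -/
theorem no_ti3_of_J_fin [Finite F]
    (hW : finrank F W = 6) (B' : LinearMap.BilinForm F W) (hsymm : ∀ x y, B' x y = B' y x)
    (hnd : B'.Nondegenerate) (f : F) (hf : ¬ IsSquare f) (J : W →ₗ[F] W)
    (hJ2 : ∀ x, J (J x) = f • x) (hJB : ∀ x y, B' (J x) (J y) = - f * B' x y)
    (T' : Submodule F W) (hT3 : finrank F T' = 3) (hT : ∀ x ∈ T', ∀ y ∈ T', B' x y = 0) :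
    False :=
  no_ti3_of_J (two_ne_zero_of_nonsq hf) hW B' hsymm hnd f hf J hJ2 hJB T' hT3 hT

end

end Cfsg.Agent.Lib.Helper43_OX3_TT_NOJ
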