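import Cfsg.Agent.Lib.Helper43_UnipIsomSym
import Cfsg.Agent.S5959

set_option autoImplicit false

/-!
The Jordan type of a unipotent isometry of a quadratic form (characteristic not two) on an
invariant subspace on which the polar form is nondegenerate: it is a sub-multiset of the Jordan
type on the whole space, and its even parts have even multiplicity.
-/

namespace Cfsg.Agent.Lib.Helper43_OrthRestrict

open Module
open Cfsg.Agent.Lib.Helper43_Jordan Cfsg.Agent.Lib.Helper43_UnipIsom

universe u

variable {F V : Type u} [Field F] [AddCommGroup V] [Module F V] [FiniteDimensional F V]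

omit [FiniteDimensional F V] in
theorem polar_isometry (Q : QuadraticForm F V) (g : End F V) (hQ : ∀ x, Q (g x) = Q x) (x y : V) :
    QuadraticMap.polar (⇑Q) (g x) (g y) = QuadraticMap.polar (⇑Q) x y := by
  unfold QuadraticMap.polar
  rw [← map_add, hQ, hQ, hQ]

/-- the Jordan type of a unipotent isometry on an invariant nondegenerate subspace -/
theorem sub_type_spec (h2 : (2 : F) ≠ 0) (Q : QuadraticForm F V) (g g' : End F V)
    (hgg' : g * g' = 1) (hg'g : g' * g = 1) (hQ : ∀ x, Q (g x) = Q x)
    (hnil : IsNilpotent (g - 1)) (W : Submodule F V) (hW : ∀ w ∈ W, g w ∈ W)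
    (hnd : ∀ w ∈ W, w ≠ 0 → ∃ x ∈ W, QuadraticMap.polar (⇑Q) x w ≠ 0) :
    ∃ hNW : ∀ w ∈ W, (g - 1) w ∈ W, IsNilpotent ((g - 1).restrict hNW) ∧
      jtype ((g - 1).restrict hNW) ≤ jtype (g - 1) ∧
      (jtype ((g - 1).restrict hNW)).sum = finrank F W ∧
      ∀ e, Even e → Even ((jtype ((g - 1).restrict hNW)).count e) := by
  set B : LinearMap.BilinForm F V := QuadraticMap.polarBilin Q with hB
  have hBapp : ∀ x y, B x y = QuadraticMap.polar (⇑Q) x y := fun x y =>
    QuadraticMap.polarBilin_apply_apply Q x y
  have hBsymm : ∀ x y, B x y = B y x := by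
    intro x y
    rw [hBapp, hBapp, QuadraticMap.polar_comm]
  have hBiso : ∀ x y, B (g x) (g y) = B x y := by
    intro x y
    rw [hBapp, hBapp, polar_isometry Q g hQ]
  have hrefl : B.IsRefl := by
    intro x y hxy
    rw [hBsymm, hxy]
  -- nondegeneracy of the restriction
  have hleft : ∀ x : W, (∀ y : W, (B.restrict W) x y = 0) → x = 0 := by
    intro x hx
    by_contra hne
    have hne' : (x : V) ≠ 0 := fun h => hne (Subtype.ext h)
    obtain ⟨y, hyW, hy⟩ := hnd x x.2 hne'
    apply hy
    have := hx ⟨y, hyW⟩
    rw [LinearMap.BilinForm.restrict_apply, LinearMap.domRestrict_apply] at this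
    rw [← hBapp, hBsymm]
    exact this
  have hndW : (B.restrict W).Nondegenerate := by
    constructor
    · exact hleft
    · intro y hy
      apply hleft
      intro x
      have := hy x
      rw [LinearMap.BilinForm.restrict_apply, LinearMap.domRestrict_apply] at this ⊢
      rw [hBsymm]
      exact this
  have hcompl : IsCompl W (B.orthogonal W) :=
    LinearMap.BilinForm.isCompl_orthogonal_of_restrict_nondegenerate hrefl hndW
  -- `g'` preserves `W`
  have hginj : Function.Injective g := by
    intro a b hab
    have := congrArg g' hab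
    rw [← Module.End.mul_apply, ← Module.End.mul_apply, hg'g] at this
    exact this
  have hsurj : Function.Surjective (g.restrict hW) := by
    apply LinearMap.surjective_of_injective
    intro a b hab
    apply Subtype.ext
    apply hginj
    exact congrArg Subtype.val hab
  have hW' : ∀ w ∈ W, g' w ∈ W := by
    intro w hw
    obtain ⟨w', hw'⟩ := hsurj ⟨w, hw⟩
    have h1 : g (w' : V) = w := congrArg Subtype.val hw'
    rw [← h1, ← Module.End.mul_apply, hg'g]
    exact w'.2
  -- invariance under `g - 1`
  have hNW : ∀ w ∈ W, (g - 1) w ∈ W := by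
    intro w hw
    rw [LinearMap.sub_apply, Module.End.one_apply]
    exact W.sub_mem (hW w hw) hw
  have hNP : ∀ v ∈ B.orthogonal W, (g - 1) v ∈ B.orthogonal W := by
    intro v hv
    rw [LinearMap.sub_apply, Module.End.one_apply]
    refine (B.orthogonal W).sub_mem ?_ hv
    rw [LinearMap.BilinForm.mem_orthogonal_iff] at hv ⊢
    intro w hw
    have h1 : g (g' w) = w := by
      rw [← Module.End.mul_apply, hgg', Module.End.one_apply]
    show B w (g v) = 0
    rw [← h1, hBiso]
    exact hv (g' w) (hW' w hw)
  have hsplit := Cfsg.Agent.S5959.jtype_of_isCompl (g - 1) hnil W (B.orthogonal W) hcompl hNW hNP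
  have hnilW : IsNilpotent ((g - 1).restrict hNW) := by
    obtain ⟨k, hk⟩ := hnil
    refine ⟨k, ?_⟩
    apply LinearMap.ext
    intro w
    apply Subtype.ext
    rw [Module.End.pow_restrict, LinearMap.coe_restrict_apply, hk]
    rfl
  refine ⟨hNW, hnilW, ?_, jtype_sum _ hnilW, ?_⟩
  · rw [hsplit]
    exact Multiset.le_add_right _ _
  · intro e he
    rcases Nat.eq_zero_or_pos e with rfl | hpos
    · rw [Multiset.count_eq_zero_of_notMem]
      · exact Even.zero
      · intro h0
        exact absurd (jtype_pos _ h0) (lt_irrefl 0)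
    have hdata : IsomData (B.restrict W) (g.restrict hW) (g'.restrict hW') := by
      refine ⟨?_, ?_, ?_⟩
      · intro x y
        rw [LinearMap.BilinForm.restrict_apply, LinearMap.domRestrict_apply,
          LinearMap.BilinForm.restrict_apply, LinearMap.domRestrict_apply]
        exact hBiso x y
      · apply LinearMap.ext
        intro w
        apply Subtype.ext
        rw [Module.End.mul_apply, LinearMap.coe_restrict_apply, LinearMap.coe_restrict_apply,
          ← Module.End.mul_apply, hgg']
        rfl
      · apply LinearMap.ext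
        intro w
        apply Subtype.ext
        rw [Module.End.mul_apply, LinearMap.coe_restrict_apply, LinearMap.coe_restrict_apply,
          ← Module.End.mul_apply, hg'g]
        rfl
    have hsub : g.restrict hW - 1 = (g - 1).restrict hNW := by
      apply LinearMap.ext
      intro w
      apply Subtype.ext
      rfl
    have hsymmW : ∀ x y : W, (B.restrict W) x y = (B.restrict W) y x := by
      intro x y
      rw [LinearMap.BilinForm.restrict_apply, LinearMap.domRestrict_apply,
        LinearMap.BilinForm.restrict_apply, LinearMap.domRestrict_apply]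
      exact hBsymm x y
    have := even_count_jtype_of_symm hdata hndW hsymmW h2 (by rw [hsub]; exact hnilW) e he hpos
    rw [hsub] at this
    exact this

theorem exists_sub_type (h2 : (2 : F) ≠ 0) (Q : QuadraticForm F V) (g g' : End F V)
    (hgg' : g * g' = 1) (hg'g : g' * g = 1) (hQ : ∀ x, Q (g x) = Q x)
    (hnil : IsNilpotent (g - 1)) (W : Submodule F V) (hW : ∀ w ∈ W, g w ∈ W)
    (hnd : ∀ w ∈ W, w ≠ 0 → ∃ x ∈ W, QuadraticMap.polar (⇑Q) x w ≠ 0) :
    ∃ ν : Multiset ℕ, ν ≤ jtype (g - 1) ∧ ν.sum = finrank F W ∧
      ∀ e, Even e → Even (ν.count e) := by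
  obtain ⟨hNW, -, h1, h2', h3⟩ := sub_type_spec h2 Q g g' hgg' hg'g hQ hnil W hW hnd
  exact ⟨_, h1, h2', h3⟩

/-- if the restriction of a unipotent isometry to an invariant subspace has all Jordan blocks of
size two, the image of `g - 1` on that subspace is totally singular of half the dimension -/
theorem totallySingular_of_twos (h2 : (2 : F) ≠ 0) (Q : QuadraticForm F V) (g : End F V)
    (hQ : ∀ x, Q (g x) = Q x) (W : Submodule F V) (hNW : ∀ w ∈ W, (g - 1) w ∈ W)
    (hnilW : IsNilpotent ((g - 1).restrict hNW))
    (htwo : ∀ a ∈ jtype ((g - 1).restrict hNW), a = 2) :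
    ∃ U : Submodule F V, U ≤ W ∧ (∀ u ∈ U, Q u = 0) ∧ 2 * finrank F U = finrank F W := by
  set N : End F W := (g - 1).restrict hNW with hN
  have hsq : N ^ 2 = 0 := by
    rw [pow_eq_zero_iff_jtype N hnilW]
    intro a ha
    rw [htwo a ha]
  have hrank : finrank F (LinearMap.range N) = Multiset.count 2 (jtype N) := by
    have := Cfsg.Agent.S5959.count_eq_finrank_range N hnilW 2 (by norm_num)
      (fun a ha => by rw [htwo a ha])
    rw [this, show 2 - 1 = 1 from rfl, pow_one]
  have hcount : 2 * Multiset.count 2 (jtype N) = finrank F W := by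
    rw [← jtype_sum N hnilW]
    have hrep : jtype N = Multiset.replicate (Multiset.card (jtype N)) 2 :=
      Multiset.eq_replicate_card.2 htwo
    conv_rhs => rw [hrep]
    rw [Multiset.sum_replicate, smul_eq_mul]
    conv_lhs => rw [hrep]
    rw [Multiset.count_replicate_self, mul_comm]
  refine ⟨(LinearMap.range N).map W.subtype, ?_, ?_, ?_⟩
  · rintro _ ⟨u, -, rfl⟩
    exact u.2
  · rintro _ ⟨_, ⟨w, rfl⟩, rfl⟩
    -- `Q (N w) = 0`
    have hNw : ((N w : W) : V) = g w - w := by
      rw [hN, LinearMap.coe_restrict_apply, LinearMap.sub_apply, Module.End.one_apply]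
    have hNN : (g - 1) (g w - w) = 0 := by
      have h0 : (N ^ 2) w = 0 := by rw [hsq]; rfl
      rw [pow_two, Module.End.mul_apply] at h0
      have h1 := congrArg (Subtype.val) h0
      rw [hN, LinearMap.coe_restrict_apply, hNw] at h1
      exact h1
    have hfix : g (g w - w) = g w - w := by
      rw [LinearMap.sub_apply, Module.End.one_apply, sub_eq_zero] at hNN
      exact hNN
    show Q ((W.subtype) (N w)) = 0
    rw [Submodule.subtype_apply, hNw]
    set y : V := g w - w with hy
    have hpol : QuadraticMap.polar (⇑Q) y y = 0 := by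
      have h1 : QuadraticMap.polar (⇑Q) y (g w) = QuadraticMap.polar (⇑Q) y w := by
        conv_lhs => rw [← hfix]
        exact polar_isometry Q g hQ y w
      have h2' : QuadraticMap.polar (⇑Q) y y =
          QuadraticMap.polar (⇑Q) y (g w) - QuadraticMap.polar (⇑Q) y w := by
        conv_lhs => rw [hy]
        rw [QuadraticMap.polar_sub_right]
      rw [h2', h1, sub_self]
    rw [QuadraticMap.polar_self, two_smul, ← two_mul] at hpol
    exact (mul_eq_zero.1 hpol).resolve_left h2
  · rw [Submodule.finrank_map_subtype_eq, hrank, hcount]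

end Cfsg.Agent.Lib.Helper43_OrthRestrict
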