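import Cfsg.Agent.Lib.Helper43_OrthGen
import Cfsg.Agent.Lib.Helper43_OrthRestrict
import Cfsg.Prelude.Def_GeometricClasses

set_option autoImplicit false

/-!
# Unipotent derangements on nondegenerate subspaces (helper43)

An element of order `p` of `Ω(Q)` with prescribed Jordan type `M`: every invariant subspace on which
the polar form is nondegenerate carries a sub-multiset of `M` whose sum is its dimension and whose
even parts have even multiplicity.  Used for the `r = p` cases of S5989 / S5991.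
-/

namespace Cfsg.Agent.Lib.Helper43_OrthCaseLib

open Module Matrix
open Cfsg.Agent.Lib.Helper43_Jordan Cfsg.Agent.Lib.Helper43_SympJordan
open Cfsg.Agent.Lib.Helper43_OrthGen

universe u

/-- the sum of a multiset supported on two values -/
theorem sum_of_two_values (ν : Multiset ℕ) (a b : ℕ) (hab : a ≠ b)
    (h : ∀ x ∈ ν, x = a ∨ x = b) : ν.sum = ν.count a * a + ν.count b * b := by
  classical
  have hsub : ν.toFinset ⊆ {a, b} := by
    intro x hx
    rw [Multiset.mem_toFinset] at hx
    rcases h x hx with rfl | rfl <;> simp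
  rw [Finset.sum_multiset_count_of_subset ν {a, b} hsub, Finset.sum_pair hab]
  simp [smul_eq_mul]

/-- the sum of a multiset supported on one value -/
theorem sum_of_one_value (ν : Multiset ℕ) (a : ℕ) (h : ∀ x ∈ ν, x = a) :
    ν.sum = ν.count a * a := by
  have hrep : ν = Multiset.replicate (Multiset.card ν) a := Multiset.eq_replicate_card.2 h
  conv_lhs => rw [hrep]
  conv_rhs => rw [hrep]
  rw [Multiset.sum_replicate, Multiset.count_replicate_self, smul_eq_mul]

variable {F : Type u} [Field F] {κ : Type} [Fintype κ] [DecidableEq κ]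

/-- an element of order `p` of `Ω(Q)` with Jordan type `M`, together with the restriction
property -/
theorem exists_unipotent_restrict [Fintype F] (p : ℕ) [Fact p.Prime] [CharP F p] (hp : Odd p)
    (Q : QuadraticForm F (κ → F)) (hQ : (QuadraticMap.polarBilin Q).Nondegenerate)
    (M : Multiset ℕ) (hM : ∀ a ∈ M, 0 < a ∧ a ≤ p)
    (hcnt : ∀ e, Even e → Even (M.count e)) (hsum : M.sum = Fintype.card κ)
    (hdisc : (∀ a ∈ M, Even a) → IsSquare ((gramOf Q).det * (-1) ^ (M.sum / 2)))
    (hnot1 : ∃ e ∈ M, e ≠ 1) :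
    ∃ x : Matrix.GeneralLinearGroup κ F, x ∈ Cfsg.Geo.omegaGL (⇑Q) ∧ x ^ p = 1 ∧
      (∀ z : F, (x : Matrix κ κ F) ≠ z • (1 : Matrix κ κ F)) ∧
      ∀ W : Submodule F (κ → F), W.map (Matrix.toLin' (x : Matrix κ κ F)) ≤ W →
        Cfsg.Geo.IsNondegenerateOn (QuadraticMap.polar (⇑Q)) W →
        ∃ ν : Multiset ℕ, ν ≤ M ∧ ν.sum = Module.finrank F W ∧
          ∀ e, Even e → Even (ν.count e) := by
  classical
  have hpp : p.Prime := Fact.out
  have hp2 : p ≠ 2 := by
    rintro rfl
    exact absurd hp (by decide)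
  have h2 : (2 : F) ≠ 0 := by
    intro h
    have h1 : ((2 : ℕ) : F) = 0 := by
      rw [Nat.cast_ofNat]
      exact h
    rw [CharP.cast_eq_zero_iff F p] at h1
    exact hp2 ((Nat.prime_dvd_prime_iff_eq hpp Nat.prime_two).1 h1)
  obtain ⟨e0, he0, he01⟩ := hnot1
  obtain ⟨x, hxΩ, hxp, hxiso, hxnil, hxj⟩ :=
    exists_unipotent_omega_of_form (F := F) p hp Q hQ M hM hcnt hsum hdisc
  have hcard : 0 < Fintype.card κ := by
    rw [← hsum]
    exact lt_of_lt_of_le (hM e0 he0).1 (Multiset.single_le_sum (fun _ _ => Nat.zero_le _) e0 he0)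
  obtain ⟨k0⟩ : Nonempty κ := Fintype.card_pos_iff.1 hcard
  have hns : ∀ z : F, (x : Matrix κ κ F) ≠ z • (1 : Matrix κ κ F) := by
    intro z hz
    have hN : (x : Matrix κ κ F) - 1 = (z - 1) • (1 : Matrix κ κ F) := by
      rw [hz, sub_smul, one_smul]
    have hz1 : z - 1 = 0 := by
      obtain ⟨k, hk⟩ := hxnil
      rw [hN, _root_.smul_pow, one_pow] at hk
      have := congrFun (congrFun hk k0) k0
      rw [Matrix.smul_apply, Matrix.one_apply_eq, Matrix.zero_apply, smul_eq_mul, mul_one] at this
      exact pow_eq_zero_iff (n := k) (by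
        rintro rfl
        rw [pow_zero] at this
        exact one_ne_zero this) |>.1 this
    have hN0 : Matrix.toLin' ((x : Matrix κ κ F) - 1) ^ 1 = 0 := by
      rw [pow_one, hN, hz1, zero_smul, map_zero]
    rw [pow_eq_zero_iff_jtype _ (isNilpotent_toLin' hxnil), hxj] at hN0
    have h1 := hN0 e0 he0
    have h2' := (hM e0 he0).1
    omega
  refine ⟨x, hxΩ, hxp, hns, ?_⟩
  intro W hWx hWnd
  set g : Module.End F (κ → F) := Matrix.toLin' (x : Matrix κ κ F) with hg
  set g' : Module.End F (κ → F) :=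
    Matrix.toLin' ((x⁻¹ : Matrix.GeneralLinearGroup κ F) : Matrix κ κ F) with hg'
  have hgg' : g * g' = 1 := by
    rw [hg, hg', Module.End.mul_eq_comp, ← Matrix.toLin'_mul, ← Units.val_mul,
      mul_inv_cancel, Units.val_one, Matrix.toLin'_one]
    rfl
  have hg'g : g' * g = 1 := by
    rw [hg, hg', Module.End.mul_eq_comp, ← Matrix.toLin'_mul, ← Units.val_mul,
      inv_mul_cancel, Units.val_one, Matrix.toLin'_one]
    rfl
  have hsub : g - 1 = Matrix.toLin' ((x : Matrix κ κ F) - 1) := by
    rw [hg, map_sub, Matrix.toLin'_one]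
    rfl
  have hgnil : IsNilpotent (g - 1) := by
    rw [hsub]
    exact isNilpotent_toLin' hxnil
  have hgiso : ∀ v, Q (g v) = Q v := by
    intro v
    rw [hg, Matrix.toLin'_apply]
    exact hxiso v
  obtain ⟨hNW, hnilW, hle, hsumW, hcntW⟩ :=
    Cfsg.Agent.Lib.Helper43_OrthRestrict.sub_type_spec h2 Q g g' hgg' hg'g hgiso hgnil W
      (by
        intro w hw
        exact hWx (Submodule.mem_map_of_mem hw))
      (by
        intro w hw hw0
        exact (hWnd w hw hw0).1)
  refine ⟨_, ?_, hsumW, hcntW⟩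
  rw [← hxj, ← hsub]
  exact hle

section stdforms

open Cfsg.Agent.Lib.Helper44_StdForms

variable {F : Type u} [Field F]

theorem gramOf_eq {κ : Type} [Fintype κ] [DecidableEq κ] (Q : QuadraticForm F (κ → F)) :
    gramOf Q = Matrix.of (fun i j : κ =>
      QuadraticMap.polar (⇑Q) (Pi.single i 1) (Pi.single j 1)) := by
  ext i j
  rw [gramOf, LinearMap.BilinForm.toMatrix'_apply, QuadraticMap.polarBilin_apply_apply,
    Matrix.of_apply]

theorem det_gramOf_qfPlus (d : ℕ) : (gramOf (qfPlus d F)).det = (-1) ^ d := by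
  rw [gramOf_eq, coe_qfPlus, det_gram_quadFormPlus]

theorem det_gramOf_qfMinus (m : ℕ) (a b : F) :
    (gramOf (qfMinus m F a b)).det = (-1) ^ m * (4 * b - a ^ 2) := by
  rw [gramOf_eq, coe_qfMinus, det_gram_quadFormMinus]

end stdforms

section arith

/-- a sub-multiset of `(2^a, 1, 1)` with even multiplicity of `2` has sum `≡ 0, 1, 2 mod 4` -/
theorem sum_mod_four_of_le_twos_ones (ν : Multiset ℕ) (a : ℕ)
    (hle : ν ≤ Multiset.replicate a 2 + Multiset.replicate 2 1)
    (hcnt : ∀ e, Even e → Even (ν.count e)) (hodd : Odd ν.sum) : ν.sum % 4 = 1 := by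
  have hmem : ∀ x ∈ ν, x = 2 ∨ x = 1 := by
    intro x hx
    have := Multiset.mem_of_le hle hx
    rw [Multiset.mem_add] at this
    rcases this with h | h
    · exact Or.inl (Multiset.eq_of_mem_replicate h)
    · exact Or.inr (Multiset.eq_of_mem_replicate h)
  have hs := sum_of_two_values ν 2 1 (by norm_num) hmem
  have h1 : ν.count 1 ≤ 2 := by
    have := Multiset.count_le_of_le 1 hle
    rw [Multiset.count_add, Multiset.count_replicate, Multiset.count_replicate_self,
      if_neg (by norm_num)] at this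
    omega
  obtain ⟨k, hk⟩ := hcnt 2 (by decide)
  obtain ⟨j, hj⟩ := hodd
  omega

/-- a sub-multiset of `(3, 3, 2^a)` with even multiplicity of `2` and odd sum has sum `≡ 3 mod 4` -/
theorem sum_mod_four_of_le_threes_twos (ν : Multiset ℕ) (a : ℕ)
    (hle : ν ≤ Multiset.replicate 2 3 + Multiset.replicate a 2)
    (hcnt : ∀ e, Even e → Even (ν.count e)) (hodd : Odd ν.sum) : ν.sum % 4 = 3 := by
  have hmem : ∀ x ∈ ν, x = 3 ∨ x = 2 := by
    intro x hx
    have := Multiset.mem_of_le hle hx
    rw [Multiset.mem_add] at this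
    rcases this with h | h
    · exact Or.inl (Multiset.eq_of_mem_replicate h)
    · exact Or.inr (Multiset.eq_of_mem_replicate h)
  have hs := sum_of_two_values ν 3 2 (by norm_num) hmem
  have h1 : ν.count 3 ≤ 2 := by
    have := Multiset.count_le_of_le 3 hle
    rw [Multiset.count_add, Multiset.count_replicate_self, Multiset.count_replicate,
      if_neg (by norm_num)] at this
    omega
  obtain ⟨k, hk⟩ := hcnt 2 (by decide)
  obtain ⟨j, hj⟩ := hodd
  omega

/-- a sub-multiset of `(2^a)` has even sum -/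
theorem even_sum_of_le_twos (ν : Multiset ℕ) (a : ℕ) (hle : ν ≤ Multiset.replicate a 2) :
    Even ν.sum := by
  have hmem : ∀ x ∈ ν, x = 2 := by
    intro x hx
    exact Multiset.eq_of_mem_replicate (Multiset.mem_of_le hle hx)
  rw [sum_of_one_value ν 2 hmem]
  exact Even.mul_left (by decide) _

end arith

end Cfsg.Agent.Lib.Helper43_OrthCaseLib
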