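import Mathlib
import Cfsg.Prelude.Def_GeometricClasses
import Cfsg.Prelude.Def_Classical
import Cfsg.Agent.Lib.Helper43_OrthCaseLib

set_option autoImplicit false
open scoped MatrixGroups
open Cfsg

/-!
# The case `r = p` of S5989 (helper43, for helper13 / helper68)

`PΩ⁺_{2d}(q)`, `q` odd, on nondegenerate `m`-spaces (`m` odd) isometric to `W₀`: there is always a
derangement of order `p` (a unipotent element of type `(2^d)`, `(3,3,2^(d-3))` or `(2^(d-1),1,1)`).
-/

namespace Cfsg.Agent.Lib.Helper43_OrthCase_S5989_p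

theorem S5989_p {F : Type*} [Field F] [Fintype F] {p : ℕ} [Fact p.Prime] [CharP F p] {q : ℕ} (hq : Fintype.card F = q)
    (hodd : Odd q) (d m : ℕ) (hd : 4 ≤ d) (hm : Odd m) (hmd : m < d)
    (W₀ : Submodule F (Fin d ⊕ Fin d → F)) (hW₀ : Module.finrank F ↥W₀ = m ∧ Cfsg.Geo.IsNondegenerateOn (QuadraticMap.polar (Cfsg.quadFormPlus d F)) W₀)
    (r : ℕ) [Fact r.Prime]
    (hrΩ : r ∣ Nat.card {W : Submodule F (Fin d ⊕ Fin d → F) // Module.finrank F ↥W = m ∧ Cfsg.Geo.IsNondegenerateOn (QuadraticMap.polar (Cfsg.quadFormPlus d F)) W ∧ Cfsg.Geo.AreIsometricFor (Cfsg.quadFormPlus d F) W W₀})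
    (i c : ℕ) (hi : i = orderOf (q : ZMod r)) (hc : c = if Even i then i else 2 * i)
    (hrp : r = p) :
    (∀ x : GL (Fin d ⊕ Fin d) F, x ∈ Cfsg.Geo.omegaGL (Cfsg.quadFormPlus d F) →
      (∃ z : F, ((x ^ r : GL (Fin d ⊕ Fin d) F) : Matrix (Fin d ⊕ Fin d) (Fin d ⊕ Fin d) F) = z • (1 : Matrix (Fin d ⊕ Fin d) (Fin d ⊕ Fin d) F)) →
      (∀ z : F, (x : Matrix (Fin d ⊕ Fin d) (Fin d ⊕ Fin d) F) ≠ z • (1 : Matrix (Fin d ⊕ Fin d) (Fin d ⊕ Fin d) F)) →
      ∃ W : Submodule F (Fin d ⊕ Fin d → F), (Module.finrank F ↥W = m ∧ Cfsg.Geo.IsNondegenerateOn (QuadraticMap.polar (Cfsg.quadFormPlus d F)) W ∧ Cfsg.Geo.AreIsometricFor (Cfsg.quadFormPlus d F) W W₀) ∧ W.map (Matrix.toLin' (x : Matrix (Fin d ⊕ Fin d) (Fin d ⊕ Fin d) F)) ≤ W) ↔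
    ((r = 2 ∧ Odd d ∧ q % 8 ≠ 1) ∨
     (r ≠ p ∧ 2 < r ∧ Odd i ∧ c ≤ m ∧ 0 < m % c ∧ m % c < (2 * d) % c) ∨
     (r ≠ p ∧ 2 < r ∧ Even i ∧ (((2 * d) % c = 0 ∧ Odd ((2 * d) / i)) ∨ (i ≤ m ∧ 0 < m % c ∧ m % c < (2 * d) % c)))) := by
  classical
  subst hrp
  subst hq
  have hpp : r.Prime := Fact.out
  have hp : Odd r := by
    rcases hpp.eq_two_or_odd' with h | h
    · exfalso
      subst h
      have hdvd : (2 : ℕ) ∣ Fintype.card F := by
        obtain ⟨n, _, hn⟩ := FiniteField.card F 2
        rw [hn]
        exact dvd_pow_self 2 n.ne_zero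
      exact (Nat.not_even_iff_odd.2 hodd) (even_iff_two_dvd.2 hdvd)
    · exact h
  have hp3 : 3 ≤ r := by
    rcases hp with ⟨k, hk⟩
    have := hpp.two_le
    omega
  constructor
  · intro H
    exfalso
    have hQ := Cfsg.Agent.Lib.Helper43_OrthReal.nondegenerate_qfPlus (F := F) d
    have hcoe := Cfsg.Agent.Lib.Helper44_StdForms.coe_qfPlus d F
    have hcard : Fintype.card (Fin d ⊕ Fin d) = 2 * d := by
      rw [Fintype.card_sum, Fintype.card_fin, two_mul]
    -- the common part: an admissible type all of whose admissible odd sub-sums differ from `m`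
    have key : ∀ M : Multiset ℕ, (∀ a ∈ M, 0 < a ∧ a ≤ r) → (∀ e, Even e → Even (M.count e)) →
        M.sum = 2 * d →
        ((∀ a ∈ M, Even a) → IsSquare ((Cfsg.Agent.Lib.Helper43_OrthGen.gramOf
          (Cfsg.Agent.Lib.Helper44_StdForms.qfPlus d F)).det * (-1) ^ (M.sum / 2))) →
        (∃ e ∈ M, e ≠ 1) →
        (∀ ν : Multiset ℕ, ν ≤ M → ν.sum = m → (∀ e, Even e → Even (ν.count e)) → False) →
        False := by
      intro M hM hcnt hsum hdisc hnot1 hno
      obtain ⟨x, hxΩ, hxp, hns, hres⟩ :=
        Cfsg.Agent.Lib.Helper43_OrthCaseLib.exists_unipotent_restrict (F := F) r hp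
          (Cfsg.Agent.Lib.Helper44_StdForms.qfPlus d F) hQ M hM hcnt (by rw [hsum, hcard]) hdisc
          hnot1
      rw [hcoe] at hxΩ hres
      obtain ⟨W, ⟨hWdim, hWnd, -⟩, hWx⟩ := H x hxΩ ⟨1, by rw [hxp, one_smul]; rfl⟩ hns
      obtain ⟨ν, hle, hsumν, hcntν⟩ := hres W hWx hWnd
      exact hno ν hle (by rw [hsumν, hWdim]) hcntν
    rcases Nat.even_or_odd d with hde | hdo
    · -- `d` even: type `(2^d)`
      apply key (Multiset.replicate d 2)
      · intro a ha
        rw [Multiset.eq_of_mem_replicate ha]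
        omega
      · intro e he
        rw [Multiset.count_replicate]
        split_ifs
        · exact hde
        · exact Even.zero
      · rw [Multiset.sum_replicate, smul_eq_mul, mul_comm]
      · intro _
        rw [Cfsg.Agent.Lib.Helper43_OrthCaseLib.det_gramOf_qfPlus, Multiset.sum_replicate,
          smul_eq_mul, Nat.mul_div_cancel _ (by norm_num : 0 < 2), ← pow_add, ← two_mul,
          pow_mul]
        exact ⟨1, by norm_num⟩
      · exact ⟨2, Multiset.mem_replicate.2 ⟨by omega, rfl⟩, by norm_num⟩
      · intro ν hle hsumν _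
        have := Cfsg.Agent.Lib.Helper43_OrthCaseLib.even_sum_of_le_twos ν d hle
        rw [hsumν] at this
        exact (Nat.not_even_iff_odd.2 hm) this
    · -- `d` odd
      have hd1 : Even (d - 1) := by
        rcases hdo with ⟨k, hk⟩
        exact ⟨k, by omega⟩
      have hd3 : Even (d - 3) := by
        rcases hdo with ⟨k, hk⟩
        exact ⟨k - 1, by omega⟩
      have hm4 : m % 4 = 1 ∨ m % 4 = 3 := by
        rcases hm with ⟨k, hk⟩
        omega
      rcases hm4 with hm4 | hm4
      · -- `m ≡ 1 mod 4`: type `(3, 3, 2^(d-3))`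
        apply key (Multiset.replicate 2 3 + Multiset.replicate (d - 3) 2)
        · intro a ha
          rw [Multiset.mem_add] at ha
          rcases ha with h | h
          · rw [Multiset.eq_of_mem_replicate h]
            omega
          · rw [Multiset.eq_of_mem_replicate h]
            omega
        · intro e he
          rw [Multiset.count_add, Multiset.count_replicate, Multiset.count_replicate]
          split_ifs with h1 h2 h2
          · omega
          · subst h1
            exact absurd he (by decide)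
          · simpa using hd3
          · exact Even.zero
        · rw [Multiset.sum_add, Multiset.sum_replicate, Multiset.sum_replicate, smul_eq_mul,
            smul_eq_mul]
          omega
        · intro hall
          exfalso
          have := hall 3 (Multiset.mem_add.2 (Or.inl (Multiset.mem_replicate.2 ⟨by norm_num, rfl⟩)))
          exact absurd this (by decide)
        · exact ⟨3, Multiset.mem_add.2 (Or.inl (Multiset.mem_replicate.2 ⟨by norm_num, rfl⟩)),
            by norm_num⟩
        · intro ν hle hsumν hcntν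
          have := Cfsg.Agent.Lib.Helper43_OrthCaseLib.sum_mod_four_of_le_threes_twos ν (d - 3) hle
            hcntν (by rw [hsumν]; exact hm)
          rw [hsumν] at this
          omega
      · -- `m ≡ 3 mod 4`: type `(2^(d-1), 1, 1)`
        apply key (Multiset.replicate (d - 1) 2 + Multiset.replicate 2 1)
        · intro a ha
          rw [Multiset.mem_add] at ha
          rcases ha with h | h
          · rw [Multiset.eq_of_mem_replicate h]
            omega
          · rw [Multiset.eq_of_mem_replicate h]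
            omega
        · intro e he
          rw [Multiset.count_add, Multiset.count_replicate, Multiset.count_replicate]
          split_ifs with h1 h2 h2
          · omega
          · simpa using hd1
          · subst h2
            exact absurd he (by decide)
          · exact Even.zero
        · rw [Multiset.sum_add, Multiset.sum_replicate, Multiset.sum_replicate, smul_eq_mul,
            smul_eq_mul]
          omega
        · intro hall
          exfalso
          have := hall 1 (Multiset.mem_add.2 (Or.inr (Multiset.mem_replicate.2 ⟨by norm_num, rfl⟩)))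
          exact absurd this (by decide)
        · exact ⟨2, Multiset.mem_add.2 (Or.inl (Multiset.mem_replicate.2 ⟨by omega, rfl⟩)),
            by norm_num⟩
        · intro ν hle hsumν hcntν
          have := Cfsg.Agent.Lib.Helper43_OrthCaseLib.sum_mod_four_of_le_twos_ones ν (d - 1) hle
            hcntν (by rw [hsumν]; exact hm)
          rw [hsumν] at this
          omega
  · rintro (⟨h2, -⟩ | ⟨hne, -⟩ | ⟨hne, -⟩)
    · omega
    · exact absurd rfl hne
    · exact absurd rfl hne

end Cfsg.Agent.Lib.Helper43_OrthCase_S5989_p
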