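import Cfsg.Agent.Lib.Helper43_OrthGen

set_option autoImplicit false

/-!
# Unipotent elements of `Ω(Q)` with a distinguished fixed vector (helper43)

A refinement of `Helper43_OrthGen.exists_unipotent_omega_of_form`: the Jordan type is `{1} + M₂`
(`M₂` with an odd part) and the `1`-block is spanned by a fixed vector `k`, not in the range of
`x - 1`, with prescribed value `B(k, k) = c₀`.
-/

namespace Cfsg.Agent.Lib.Helper43_OrthFixed

open Module Matrix
open Cfsg.Agent.Lib.Helper43_Jordan Cfsg.Agent.Lib.Helper43_SympJordan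
open Cfsg.Agent.Lib.Helper43_OrthJordan Cfsg.Agent.Lib.Helper43_OrthDisc
open Cfsg.Agent.Lib.Helper43_OrthReal Cfsg.Agent.Lib.Helper43_OrthGen

universe u

section abstract

variable {F : Type u} [Field F]

/-- `M` is the Jordan type of a unipotent isometry of a symmetric Gram matrix of determinant `δ`
with a fixed vector `k` outside the range of `U - 1` with `kᵀ G k = c₀` -/
def RealDK (F : Type u) [Field F] (M : Multiset ℕ) (δ c₀ : F) : Prop :=
  ∃ (ι : Type) (_ : Fintype ι) (_ : DecidableEq ι) (G U : Matrix ι ι F) (k : ι → F),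
    Gᵀ = G ∧ G.det = δ ∧ Uᵀ * G * U = G ∧ IsNilpotent (U - 1) ∧
      jtype (Matrix.toLin' (U - 1)) = M ∧
      (U - 1) *ᵥ k = 0 ∧ (∀ w, (U - 1) *ᵥ w ≠ k) ∧ k ⬝ᵥ G *ᵥ k = c₀

theorem jtype_zero_unit : IsNilpotent (0 : Matrix Unit Unit F) ∧
    jtype (Matrix.toLin' (0 : Matrix Unit Unit F)) = {1} := by
  have hnil : IsNilpotent (0 : Matrix Unit Unit F) := IsNilpotent.zero
  refine ⟨hnil, ?_⟩
  have hdim : finrank F (Unit → F) = 1 := by
    rw [Module.finrank_fintype_fun_eq_card, Fintype.card_unit]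
  have := jtype_of_ker_le_one (Matrix.toLin' (0 : Matrix Unit Unit F)) (isNilpotent_toLin' hnil)
    (by
      have h1 := Submodule.finrank_le (LinearMap.ker (Matrix.toLin' (0 : Matrix Unit Unit F)))
      rw [hdim] at h1
      exact h1)
    (by rw [hdim]; exact Nat.one_pos)
  rw [this, hdim]

theorem realDK_of_realD {M₂ : Multiset ℕ} {δ₂ : F} (h : RealD F M₂ δ₂) (c₀ : F) :
    RealDK F ({1} + M₂) (c₀ * δ₂) c₀ := by
  obtain ⟨ι₂, _, _, G₂, U₂, hG₂, hdet₂, hU₂, hnil₂, hj₂⟩ := h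
  obtain ⟨hnil0, hj0⟩ := jtype_zero_unit (F := F)
  refine ⟨Unit ⊕ ι₂, inferInstance, inferInstance,
    fromBlocks (c₀ • (1 : Matrix Unit Unit F)) 0 0 G₂, fromBlocks 1 0 0 U₂,
    Sum.elim (fun _ => 1) 0, ?_, ?_, ?_, ?_, ?_, ?_, ?_, ?_⟩
  · simp only [fromBlocks_transpose, transpose_smul, transpose_one, transpose_zero, hG₂]
  · rw [det_fromBlocks_zero₂₁, hdet₂, det_smul, det_one, Fintype.card_unit, pow_one, mul_one]
  · simp only [fromBlocks_transpose, transpose_one, transpose_zero, fromBlocks_multiply,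
      Matrix.one_mul, Matrix.mul_one, Matrix.zero_mul, Matrix.mul_zero, add_zero,
      zero_add, hU₂]
  · rw [fromBlocks_sub_one, sub_self]
    exact (jtype_fromBlocks' (0 : Matrix Unit Unit F) (U₂ - 1) hnil0 hnil₂).1
  · rw [fromBlocks_sub_one, sub_self,
      (jtype_fromBlocks' (0 : Matrix Unit Unit F) (U₂ - 1) hnil0 hnil₂).2, hj0, hj₂]
  · rw [fromBlocks_sub_one, sub_self]
    funext i
    rcases i with i | i
    · simp [fromBlocks_mulVec]
    · simp [fromBlocks_mulVec]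
  · intro w hw
    rw [fromBlocks_sub_one, sub_self] at hw
    have := congrFun hw (Sum.inl ())
    simp [fromBlocks_mulVec] at this
  · simp [dotProduct, Matrix.mulVec, Fintype.sum_sum_type]

end abstract

section gram

variable {F : Type u} [Field F] {κ : Type} [Fintype κ] [DecidableEq κ]

/-- an element of order dividing `p` of `Ω(Q)` of Jordan type `{1} + M₂` with a fixed vector `k`
outside the range of `x - 1` with `B(k, k) = c₀` -/
theorem exists_unipotent_omega_fixed [Fintype F] (p : ℕ) [Fact p.Prime] [CharP F p]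
    (hp : Odd p) (Q : QuadraticForm F (κ → F)) (hQ : (QuadraticMap.polarBilin Q).Nondegenerate)
    (M₂ : Multiset ℕ) (hM₂ : ∀ a ∈ M₂, 0 < a ∧ a ≤ p)
    (hcnt : ∀ e, Even e → Even (M₂.count e)) (hsum : M₂.sum + 1 = Fintype.card κ)
    (hodd : ∃ a ∈ M₂, Odd a) (c₀ : F) (hc₀ : c₀ ≠ 0) :
    ∃ x : Matrix.GeneralLinearGroup κ F,
      x ∈ Cfsg.Geo.omegaGL (⇑Q) ∧ x ^ p = 1 ∧
      (∀ v, Q ((x : Matrix κ κ F) *ᵥ v) = Q v) ∧
      IsNilpotent ((x : Matrix κ κ F) - 1) ∧
      jtype (Matrix.toLin' ((x : Matrix κ κ F) - 1)) = {1} + M₂ ∧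
      ∃ k : κ → F, ((x : Matrix κ κ F) - 1) *ᵥ k = 0 ∧
        (∀ w, ((x : Matrix κ κ F) - 1) *ᵥ w ≠ k) ∧ QuadraticMap.polar (⇑Q) k k = c₀ := by
  have hpp : p.Prime := Fact.out
  have hp2 : p ≠ 2 := by
    rintro rfl
    exact absurd hp (by decide)
  have h2 : (2 : F) ≠ 0 := by
    intro h
    have h1 : ((2 : ℕ) : F) = 0 := by
      rw [Nat.cast_ofNat]
      exact h
    rw [CharP.cast_eq_zero_iff F p] at h1
    exact hp2 ((Nat.prime_dvd_prime_iff_eq hpp Nat.prime_two).1 h1)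
  have hJdet := gramOf_det_ne_zero Q hQ
  obtain ⟨δ₂, hδ₂, hreal₂, hsq₂⟩ :=
    exists_realD_class h2 M₂ (fun a ha => (hM₂ a ha).1) (fun j hj _ => hcnt j hj)
      (c₀ * (gramOf Q).det) (mul_ne_zero hc₀ hJdet)
      (by
        intro hall
        exfalso
        obtain ⟨a, ha, hao⟩ := hodd
        exact (Nat.not_even_iff_odd.2 hao) (hall a ha))
  obtain ⟨ι, _, _, G, U, k, hG, hdet, hU, hnil, hj, hk0, hkr, hkc⟩ := realDK_of_realD hreal₂ c₀
  set M : Multiset ℕ := {1} + M₂ with hMdef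
  have hM : ∀ a ∈ M, 0 < a ∧ a ≤ p := by
    intro a ha
    rw [hMdef, Multiset.mem_add, Multiset.mem_singleton] at ha
    rcases ha with rfl | ha
    · exact ⟨Nat.one_pos, hpp.one_lt.le⟩
    · exact hM₂ a ha
  have hsumM : M.sum = Fintype.card κ := by
    rw [hMdef, Multiset.sum_add, Multiset.sum_singleton, add_comm]
    exact hsum
  have hδ : c₀ * δ₂ ≠ 0 := mul_ne_zero hc₀ hδ₂
  have hsq : IsSquare (c₀ * δ₂ * (gramOf Q).det) := by
    have : c₀ * δ₂ * (gramOf Q).det = δ₂ * (c₀ * (gramOf Q).det) := by ring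
    rw [this]
    exact hsq₂
  have hcard : Fintype.card ι = Fintype.card κ := by
    have := jtype_sum _ (isNilpotent_toLin' hnil)
    rw [hj, hsumM, Module.finrank_fintype_fun_eq_card] at this
    exact this.symm
  let ε : ι ≃ κ := Fintype.equivOfCardEq hcard
  set G' : Matrix κ κ F := Matrix.reindex ε ε G with hG'def
  set U' : Matrix κ κ F := Matrix.reindex ε ε U with hU'def
  set k' : κ → F := k ∘ ε.symm with hk'def
  have hG' : G'ᵀ = G' := by rw [hG'def, transpose_reindex, hG]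
  have hdet' : G'.det = c₀ * δ₂ := by rw [hG'def, det_reindex_self, hdet]
  have hU' : U'ᵀ * G' * U' = G' := by
    rw [hG'def, hU'def]
    simp only [reindex_apply, transpose_submatrix, submatrix_mul_equiv, hU]
  have hU'1 : U' - 1 = Matrix.reindex ε ε (U - 1) := by
    rw [hU'def]
    ext i j
    simp [Matrix.sub_apply, Matrix.one_apply]
  have hfun : ∀ w : ι → F, (U' - 1) *ᵥ (w ∘ ε.symm) = ((U - 1) *ᵥ w) ∘ ε.symm := by
    intro w
    rw [hU'1, reindex_apply, submatrix_mulVec_equiv]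
    funext i
    simp [Function.comp_def]
  -- step 1: reindex
  obtain ⟨hnil1, hj1⟩ := jtype_eq_of_equiv (U - 1) (U' - 1) hnil
    (LinearEquiv.funCongrLeft F F ε.symm) (by
      intro w
      rw [hU'1, reindex_apply, LinearEquiv.funCongrLeft_apply, LinearEquiv.funCongrLeft_apply,
        submatrix_mulVec_equiv]
      funext i
      simp [LinearMap.funLeft_apply, Function.comp_def])
  have hk'0 : (U' - 1) *ᵥ k' = 0 := by
    rw [hk'def, hfun, hk0]
    rfl
  have hk'r : ∀ w, (U' - 1) *ᵥ w ≠ k' := by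
    intro w hw
    apply hkr (w ∘ ε)
    have h1 := hfun (w ∘ ε)
    have h2' : (w ∘ ε) ∘ ε.symm = w := by
      funext i
      simp
    rw [h2', hw, hk'def] at h1
    funext i
    have := congrFun h1 (ε i)
    simp only [Function.comp_apply, Equiv.symm_apply_apply] at this
    exact this.symm
  have hk'c : k' ⬝ᵥ G' *ᵥ k' = c₀ := by
    have h1 : G' *ᵥ k' = (G *ᵥ k) ∘ ε.symm := by
      rw [hG'def, hk'def, reindex_apply, submatrix_mulVec_equiv]
      congr 2
      funext i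
      simp
    rw [h1, ← hkc, hk'def]
    show ∑ i, (k ∘ ε.symm) i * ((G *ᵥ k) ∘ ε.symm) i = ∑ j, k j * (G *ᵥ k) j
    exact Equiv.sum_comp ε.symm (fun j => k j * (G *ᵥ k) j)
  -- step 2: congruence
  obtain ⟨c, hc, hcJ⟩ := Cfsg.Agent.Lib.Helper43_SpCent.exists_congr_sym h2 (gramOf Q) G'
    (gramOf_transpose Q) hG' hJdet (by rw [hdet']; exact hδ)
    (by rw [hdet', mul_comm]; exact hsq)
  have hcu : IsUnit c.det := isUnit_iff_ne_zero.2 hc
  have hcc : c * c⁻¹ = 1 := Matrix.mul_nonsing_inv c hcu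
  have hcc' : c⁻¹ * c = 1 := Matrix.nonsing_inv_mul c hcu
  set X : Matrix κ κ F := c * U' * c⁻¹ with hXdef
  have hXJ : Xᵀ * gramOf Q * X = gramOf Q := by
    have h1 : Xᵀ * gramOf Q * X =
        (c⁻¹)ᵀ * (U'ᵀ * (cᵀ * gramOf Q * c) * U') * c⁻¹ := by
      rw [hXdef]
      simp only [transpose_mul, Matrix.mul_assoc]
    rw [h1, hcJ, hU', ← hcJ]
    rw [← Matrix.mul_assoc, ← Matrix.mul_assoc, ← transpose_mul, hcc,
      transpose_one, Matrix.one_mul, Matrix.mul_assoc, hcc, Matrix.mul_one]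
  have hX1 : X - 1 = c * (U' - 1) * c⁻¹ := by
    rw [hXdef, Matrix.mul_sub, Matrix.sub_mul, Matrix.mul_one, hcc]
  obtain ⟨hnil2, hj2⟩ := jtype_eq_of_equiv (U' - 1) (X - 1) hnil1
    (Matrix.toLin'OfInv (M := c⁻¹) (M' := c) hcc' hcc) (by
      intro w
      have e1 : ∀ y, (Matrix.toLin'OfInv (M := c⁻¹) (M' := c) hcc' hcc) y = c *ᵥ y := by
        intro y
        funext i
        rw [Matrix.toLin'OfInv_apply, Matrix.toLin'_apply]
      rw [e1, e1, hX1, Matrix.mulVec_mulVec, Matrix.mulVec_mulVec, Matrix.mul_assoc,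
        Matrix.mul_assoc, hcc', Matrix.mul_one])
  -- the group element
  obtain ⟨x, hx⟩ := hnil2.isUnit_add_one
  have hxX : (x : Matrix κ κ F) = X := by
    rw [hx, sub_add_cancel]
  have hXp : X ^ p = 1 := by
    have h0 : (X - 1) ^ p = 0 := by
      apply Matrix.toLin'.injective
      rw [Matrix.toLin'_pow, map_zero, pow_eq_zero_iff_jtype _ (isNilpotent_toLin' hnil2), hj2,
        hj1, hj]
      exact fun a ha => (hM a ha).2
    have h1 := Cfsg.Agent.Lib.Helper43_SpCent.sub_one_pow_char_pow' p X 1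
    rw [pow_one, h0] at h1
    exact (sub_eq_zero.1 h1.symm)
  have hxp : x ^ p = 1 := by
    apply Units.ext
    rw [Units.val_pow_eq_pow_val, hxX, hXp, Units.val_one]
  have hiso : ∀ v, Q ((x : Matrix κ κ F) *ᵥ v) = Q v := by
    intro v
    rw [hxX]
    exact map_mulVec_of_gram h2 Q X hXJ v
  refine ⟨x, mem_omegaGL_of_pow h2 Q hQ x hiso p hp hxp, hxp, hiso, ?_, ?_, c *ᵥ k', ?_, ?_, ?_⟩
  · rw [hxX]
    exact hnil2
  · rw [hxX, hj2, hj1, hj]
  · rw [hxX, hX1, Matrix.mulVec_mulVec, Matrix.mul_assoc, hcc', Matrix.mul_one,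
      ← Matrix.mulVec_mulVec, hk'0, Matrix.mulVec_zero]
  · intro w hw
    rw [hxX, hX1] at hw
    apply hk'r (c⁻¹ *ᵥ w)
    have h1 : c⁻¹ *ᵥ ((c * (U' - 1) * c⁻¹) *ᵥ w) = c⁻¹ *ᵥ (c *ᵥ k') := by rw [hw]
    rw [Matrix.mulVec_mulVec, Matrix.mulVec_mulVec, ← Matrix.mul_assoc, ← Matrix.mul_assoc, hcc',
      Matrix.one_mul, Matrix.one_mulVec, ← Matrix.mulVec_mulVec] at h1
    exact h1
  · rw [polar_eq_gramOf, Matrix.mulVec_mulVec, ← Matrix.vecMul_transpose c k',
      ← Matrix.dotProduct_mulVec, Matrix.mulVec_mulVec, ← Matrix.mul_assoc, hcJ]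
    exact hk'c

end gram

end Cfsg.Agent.Lib.Helper43_OrthFixed
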