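import Cfsg.Agent.Lib.Helper43_SqDisc
import Cfsg.Agent.Lib.Helper43_OrthRestrict
import Cfsg.Agent.Lib.Helper43_OrthFixed
import Cfsg.Prelude.Def_GeometricClasses

set_option autoImplicit false

/-!
# Discriminants of invariant subspaces of a unipotent isometry with a fixed vector (helper43)

A unipotent element of `Ω(Q)` (`dim = 2 d`, `d` even) of Jordan type `(1, 3, 2^(d-2))` whose
`1`-block is spanned by a vector `k` with `B(k, k) = c₀`: the discriminant of every invariant
nondegenerate subspace of odd dimension is determined by `c₀`.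
-/

namespace Cfsg.Agent.Lib.Helper43_OrthDiscFix

open Module
open Cfsg.Agent.Lib.Helper43_Jordan Cfsg.Agent.Lib.Helper43_SqDisc

universe u

section jordan

variable {F V : Type u} [Field F] [AddCommGroup V] [Module F V] [FiniteDimensional F V]

/-- ranks of powers from the Jordan type -/
theorem finrank_range_pow_jtype (N : End F V) (hN : IsNilpotent N) (k : ℕ) :
    finrank F (LinearMap.range (N ^ k)) = ((jtype N).map (fun a => a - k)).sum := by
  obtain ⟨ι, hι, d, b, hd, hb, hj⟩ := jtype_spec N hN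
  rw [hb.finrank_range_pow, hj, Multiset.map_map]
  rfl

omit [FiniteDimensional F V] in
theorem finrank_ker_inf_range [FiniteDimensional F V] (N : End F V) :
    finrank F ↥(LinearMap.ker N ⊓ LinearMap.range N) + finrank F (LinearMap.range (N ^ 2)) =
      finrank F (LinearMap.range N) := by
  have h := LinearMap.finrank_range_add_finrank_ker (N.domRestrict (LinearMap.range N))
  rw [LinearMap.range_domRestrict, LinearMap.ker_domRestrict] at h
  have h1 : (LinearMap.range N).map N = LinearMap.range (N ^ 2) := by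
    rw [pow_two, Module.End.mul_eq_comp, LinearMap.range_comp]
  have h2 : finrank F ((LinearMap.ker N).comap (LinearMap.range N).subtype) =
      finrank F ↥(LinearMap.ker N ⊓ LinearMap.range N) := by
    have : (LinearMap.ker N).comap (LinearMap.range N).subtype =
        (LinearMap.ker N ⊓ LinearMap.range N).comap (LinearMap.range N).subtype := by
      rw [Submodule.comap_inf, Submodule.comap_subtype_self, inf_top_eq]
    rw [this]
    exact (Submodule.comapSubtypeEquivOfLe inf_le_right).finrank_eq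
  rw [h1, h2] at h
  omega

/-- `Σ (a - 1) + #ν = Σ a` for positive parts -/
theorem sum_map_pred (ν : Multiset ℕ) (h : ∀ a ∈ ν, 1 ≤ a) :
    (ν.map (fun a => a - 1)).sum + Multiset.card ν = ν.sum := by
  induction ν using Multiset.induction_on with
  | empty => simp
  | cons a s ih =>
    have h1 := h a (Multiset.mem_cons_self a s)
    have h2 := ih (fun x hx => h x (Multiset.mem_cons_of_mem hx))
    rw [Multiset.map_cons, Multiset.sum_cons, Multiset.card_cons, Multiset.sum_cons]
    omega

/-- sub-multisets of `(1, 3, 2^n)` -/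
theorem sub_type_counts (ν : Multiset ℕ) (n : ℕ)
    (hle : ν ≤ ({1} : Multiset ℕ) + ({3} + Multiset.replicate n 2)) :
    ν.count 1 ≤ 1 ∧ ν.count 3 ≤ 1 ∧ ν.count 2 ≤ n ∧
      ν.sum = ν.count 1 + 2 * ν.count 2 + 3 * ν.count 3 ∧
      Multiset.card ν = ν.count 1 + ν.count 2 + ν.count 3 ∧ ∀ a ∈ ν, a = 1 ∨ a = 2 ∨ a = 3 := by
  classical
  have hmem : ∀ a ∈ ν, a = 1 ∨ a = 2 ∨ a = 3 := by
    intro a ha
    have := Multiset.mem_of_le hle ha
    rw [Multiset.mem_add, Multiset.mem_add, Multiset.mem_singleton, Multiset.mem_singleton] at this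
    rcases this with h | h | h
    · exact Or.inl h
    · exact Or.inr (Or.inr h)
    · exact Or.inr (Or.inl (Multiset.eq_of_mem_replicate h))
  have hsub : ν.toFinset ⊆ ({1, 2, 3} : Finset ℕ) := by
    intro a ha
    rw [Multiset.mem_toFinset] at ha
    rcases hmem a ha with rfl | rfl | rfl <;> simp
  have hsub' : ∀ a ∈ ν, a ∈ ({1, 2, 3} : Finset ℕ) := fun a ha =>
    hsub (Multiset.mem_toFinset.2 ha)
  have h1 := Multiset.count_le_of_le 1 hle
  have h3 := Multiset.count_le_of_le 3 hle
  have h2 := Multiset.count_le_of_le 2 hle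
  rw [Multiset.count_add, Multiset.count_add, Multiset.count_singleton, Multiset.count_singleton,
    Multiset.count_replicate] at h1 h2 h3
  norm_num at h1 h2 h3
  refine ⟨h1, h3, h2, ?_, ?_, hmem⟩
  · rw [Finset.sum_multiset_count_of_subset ν _ hsub]
    rw [Finset.sum_insert (by decide), Finset.sum_insert (by decide), Finset.sum_singleton]
    simp only [smul_eq_mul]
    ring
  · rw [← Multiset.sum_count_eq_card hsub']
    rw [Finset.sum_insert (by decide), Finset.sum_insert (by decide), Finset.sum_singleton]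
    ring

end jordan

section forms

variable {F V : Type u} [Field F] [AddCommGroup V] [Module F V] [FiniteDimensional F V]

/-- the polar form as a bilinear form -/
abbrev pB (Q : QuadraticForm F V) : LinearMap.BilinForm F V := QuadraticMap.polarBilin Q

omit [FiniteDimensional F V] in
/-- nondegeneracy of the restricted polar form -/
theorem restrict_nondegenerate (Q : QuadraticForm F V) (W : Submodule F V)
    (hnd : ∀ w ∈ W, w ≠ 0 → ∃ x ∈ W, QuadraticMap.polar (⇑Q) x w ≠ 0) :
    ((pB Q).restrict W).Nondegenerate := by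
  set B : LinearMap.BilinForm F V := QuadraticMap.polarBilin Q with hB
  have hBapp : ∀ x y, B x y = QuadraticMap.polar (⇑Q) x y := fun x y =>
    QuadraticMap.polarBilin_apply_apply Q x y
  have hBsymm : ∀ x y, B x y = B y x := by
    intro x y
    rw [hBapp, hBapp, QuadraticMap.polar_comm]
  have hleft : ∀ x : W, (∀ y : W, (B.restrict W) x y = 0) → x = 0 := by
    intro x hx
    by_contra hne
    have hne' : (x : V) ≠ 0 := fun h => hne (Subtype.ext h)
    obtain ⟨y, hyW, hy⟩ := hnd x x.2 hne'
    apply hy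
    have := hx ⟨y, hyW⟩
    rw [LinearMap.BilinForm.restrict_apply, LinearMap.domRestrict_apply] at this
    rw [← hBapp, hBsymm]
    exact this
  constructor
  · exact hleft
  · intro y hy
    apply hleft
    intro x
    have := hy x
    rw [LinearMap.BilinForm.restrict_apply, LinearMap.domRestrict_apply] at this ⊢
    rw [hBsymm]
    exact this

/-- the orthogonal complement of an invariant nondegenerate subspace -/
theorem orth_compl_spec (Q : QuadraticForm F V) (hQ : (QuadraticMap.polarBilin Q).Nondegenerate)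
    (g g' : End F V) (hgg' : g * g' = 1) (hg'g : g' * g = 1) (hiso : ∀ x, Q (g x) = Q x)
    (W : Submodule F V) (hW : ∀ w ∈ W, g w ∈ W)
    (hnd : ∀ w ∈ W, w ≠ 0 → ∃ x ∈ W, QuadraticMap.polar (⇑Q) x w ≠ 0) :
    IsCompl W ((pB Q).orthogonal W) ∧
      (∀ v ∈ (pB Q).orthogonal W,
        g v ∈ (pB Q).orthogonal W) ∧
      (∀ w ∈ (pB Q).orthogonal W, w ≠ 0 →
        ∃ x ∈ (pB Q).orthogonal W, QuadraticMap.polar (⇑Q) x w ≠ 0) := by
  set B : LinearMap.BilinForm F V := QuadraticMap.polarBilin Q with hB
  have hBapp : ∀ x y, B x y = QuadraticMap.polar (⇑Q) x y := fun x y =>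
    QuadraticMap.polarBilin_apply_apply Q x y
  have hBsymm : ∀ x y, B x y = B y x := by
    intro x y
    rw [hBapp, hBapp, QuadraticMap.polar_comm]
  have hBiso : ∀ x y, B (g x) (g y) = B x y := by
    intro x y
    rw [hBapp, hBapp, Cfsg.Agent.Lib.Helper43_OrthRestrict.polar_isometry Q g hiso]
  have hrefl : B.IsRefl := by
    intro x y hxy
    rw [hBsymm, hxy]
  have hndW : (B.restrict W).Nondegenerate := restrict_nondegenerate Q W hnd
  have hcompl : IsCompl W (B.orthogonal W) :=
    LinearMap.BilinForm.isCompl_orthogonal_of_restrict_nondegenerate hrefl hndW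
  have hginj : Function.Injective g := by
    intro a b hab
    have := congrArg g' hab
    rw [← Module.End.mul_apply, ← Module.End.mul_apply, hg'g] at this
    exact this
  have hsurj : Function.Surjective (g.restrict hW) := by
    apply LinearMap.surjective_of_injective
    intro a b hab
    apply Subtype.ext
    apply hginj
    exact congrArg Subtype.val hab
  have hW' : ∀ w ∈ W, g' w ∈ W := by
    intro w hw
    obtain ⟨w', hw'⟩ := hsurj ⟨w, hw⟩
    have h1 : g (w' : V) = w := congrArg Subtype.val hw'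
    rw [← h1, ← Module.End.mul_apply, hg'g]
    exact w'.2
  refine ⟨hcompl, ?_, ?_⟩
  · intro v hv
    rw [LinearMap.BilinForm.mem_orthogonal_iff] at hv ⊢
    intro w hw
    have h1 : g (g' w) = w := by
      rw [← Module.End.mul_apply, hgg', Module.End.one_apply]
    rw [← h1, hBiso]
    exact hv (g' w) (hW' w hw)
  · intro w hw hw0
    obtain ⟨v, hv⟩ : ∃ v, B v w ≠ 0 := by
      by_contra hcon
      push Not at hcon
      exact hw0 (hQ.2 w hcon)
    obtain ⟨y, hy, y', hy', rfl⟩ : ∃ y ∈ W, ∃ y' ∈ B.orthogonal W, y + y' = v := by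
      have : v ∈ W ⊔ B.orthogonal W := by
        rw [hcompl.sup_eq_top]
        exact Submodule.mem_top
      exact Submodule.mem_sup.1 this
    refine ⟨y', hy', ?_⟩
    rw [← hBapp]
    have h0 : B y w = 0 := (LinearMap.BilinForm.mem_orthogonal_iff.1 hw) y hy
    rw [map_add, LinearMap.add_apply, h0, zero_add] at hv
    exact hv

/-- the discriminant of an invariant subspace of type `(1, 2^b)` -/
theorem isSquare_disc_of_fixed (Q : QuadraticForm F V) (g : End F V) (hiso : ∀ x, Q (g x) = Q x)
    (k : V) (hk0 : (g - 1) k = 0) (hkr : ∀ w, (g - 1) w ≠ k)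
    (hker : finrank F (LinearMap.ker (g - 1)) =
      finrank F ↥(LinearMap.ker (g - 1) ⊓ LinearMap.range (g - 1)) + 1)
    (hkk : QuadraticMap.polar (⇑Q) k k ≠ 0)
    (Y Y' : Submodule F V) (hc : IsCompl Y Y') (hY : ∀ y ∈ Y, (g - 1) y ∈ Y)
    (hY' : ∀ y ∈ Y', (g - 1) y ∈ Y') (hsq : ∀ y ∈ Y, (g - 1) ((g - 1) y) = 0) (b : ℕ)
    (hdim : finrank F Y = 2 * b + 1)
    (hr : finrank F (LinearMap.range ((g - 1).restrict hY)) = b) :
    IsSquare ((-1) ^ b * QuadraticMap.polar (⇑Q) k k * disc ((pB Q).restrict Y)) := by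
  set B : LinearMap.BilinForm F V := pB Q with hB
  have hBapp : ∀ x y, B x y = QuadraticMap.polar (⇑Q) x y := fun x y =>
    QuadraticMap.polarBilin_apply_apply Q x y
  have hBsymm : ∀ x y, B x y = B y x := by
    intro x y
    rw [hBapp, hBapp, QuadraticMap.polar_comm]
  have hBiso : ∀ x y, B (g x) (g y) = B x y := by
    intro x y
    rw [hBapp, hBapp, Cfsg.Agent.Lib.Helper43_OrthRestrict.polar_isometry Q g hiso]
  set N : End F V := g - 1 with hN
  have hg : ∀ x, g x = x + N x := by
    intro x
    rw [hN, LinearMap.sub_apply, Module.End.one_apply]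
    abel
  have hNrel : ∀ x y, B (N x) y + B x (N y) + B (N x) (N y) = 0 := by
    intro x y
    have := hBiso x y
    rw [hg x, hg y] at this
    simp only [map_add, LinearMap.add_apply] at this
    linear_combination this
  have hF1 : ∀ v, N v = 0 → ∀ w, B v (N w) = 0 := by
    intro v hv w
    have := hNrel v w
    rw [hv] at this
    simpa using this
  set NE : End F Y := N.restrict hY with hNE
  have hNEcoe : ∀ x : Y, ((NE x : Y) : V) = N (x : V) := fun x => rfl
  have hsqE : ∀ x : Y, NE (NE x) = 0 := by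
    intro x
    apply Subtype.ext
    rw [hNEcoe, hNEcoe]
    exact hsq x x.2
  have hrk : LinearMap.range NE ≤ LinearMap.ker NE := by
    rintro _ ⟨x, rfl⟩
    exact LinearMap.mem_ker.2 (hsqE x)
  have hkerE : finrank F (LinearMap.ker NE) = b + 1 := by
    have := LinearMap.finrank_range_add_finrank_ker NE
    omega
  obtain ⟨kE, hkE, hkE'⟩ : ∃ kE ∈ LinearMap.ker NE, kE ∉ LinearMap.range NE := by
    by_contra hcon
    push Not at hcon
    have := Submodule.finrank_mono (show LinearMap.ker NE ≤ LinearMap.range NE from hcon)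
    omega
  have hNkE : N (kE : V) = 0 := by
    have := LinearMap.mem_ker.1 hkE
    rw [← hNEcoe, this]
    rfl
  have hkEr : ∀ v, N v ≠ (kE : V) := by
    intro v hv
    obtain ⟨y, hy, y', hy', rfl⟩ : ∃ y ∈ Y, ∃ y' ∈ Y', y + y' = v := by
      have : v ∈ Y ⊔ Y' := by
        rw [hc.sup_eq_top]
        exact Submodule.mem_top
      exact Submodule.mem_sup.1 this
    rw [map_add] at hv
    have h1 : N y' ∈ Y := by
      have : N y' = (kE : V) - N y := by
        rw [← hv]
        abel
      rw [this]
      exact Y.sub_mem kE.2 (hY y hy)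
    have h2 : N y' = 0 := Submodule.disjoint_def.1 hc.disjoint _ h1 (hY' y' hy')
    rw [h2, add_zero] at hv
    apply hkE'
    exact ⟨⟨y, hy⟩, Subtype.ext hv⟩
  -- decomposition of `kE`
  have hkK₀ : k ∉ LinearMap.ker N ⊓ LinearMap.range N := by
    rintro ⟨-, ⟨w, hw⟩⟩
    exact hkr w hw
  have hkker : k ∈ LinearMap.ker N := LinearMap.mem_ker.2 hk0
  have hle1 : (LinearMap.ker N ⊓ LinearMap.range N) ⊔ (F ∙ k) ≤ LinearMap.ker N :=
    sup_le inf_le_left ((Submodule.span_singleton_le_iff_mem _ _).2 hkker)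
  have hK₁ : (LinearMap.ker N ⊓ LinearMap.range N) ⊔ (F ∙ k) = LinearMap.ker N := by
    apply Submodule.eq_of_le_of_finrank_eq hle1
    have hlt : LinearMap.ker N ⊓ LinearMap.range N <
        (LinearMap.ker N ⊓ LinearMap.range N) ⊔ (F ∙ k) := by
      refine lt_of_le_of_ne le_sup_left ?_
      intro h
      apply hkK₀
      rw [h]
      exact Submodule.mem_sup_right (Submodule.mem_span_singleton_self k)
    have h1 := Submodule.finrank_lt_finrank_of_lt hlt
    have h2 := Submodule.finrank_mono hle1
    omega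
  obtain ⟨u, hu, z, hz, huz⟩ := Submodule.mem_sup.1
    (show (kE : V) ∈ (LinearMap.ker N ⊓ LinearMap.range N) ⊔ (F ∙ k) by
      rw [hK₁]
      exact LinearMap.mem_ker.2 hNkE)
  obtain ⟨α, rfl⟩ := Submodule.mem_span_singleton.1 hz
  obtain ⟨hu1, ⟨w, hw⟩⟩ := hu
  have hα : α ≠ 0 := by
    rintro rfl
    rw [zero_smul, add_zero] at huz
    exact hkEr w (by rw [hw, huz])
  have hval : B (kE : V) (kE : V) = α ^ 2 * B k k := by
    rw [← huz]
    have e1 : B u u = 0 := by
      have := hF1 u (LinearMap.mem_ker.1 hu1) w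
      rw [hw] at this
      exact this
    have e2 : B k u = 0 := by
      have := hF1 k hk0 w
      rw [hw] at this
      exact this
    have e3 : B u k = 0 := by
      rw [hBsymm]
      exact e2
    simp only [map_add, LinearMap.add_apply, map_smul, LinearMap.smul_apply, smul_eq_mul, e1, e2,
      e3]
    ring
  have hSE : (B.restrict Y).IsSymm := by
    refine ⟨fun x y => ?_⟩
    rw [LinearMap.BilinForm.restrict_apply, LinearMap.domRestrict_apply,
      LinearMap.BilinForm.restrict_apply, LinearMap.domRestrict_apply]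
    exact hBsymm x y
  have hrelE : ∀ x y : Y, (B.restrict Y) (NE x) y + (B.restrict Y) x (NE y) +
      (B.restrict Y) (NE x) (NE y) = 0 := by
    intro x y
    simp only [LinearMap.BilinForm.restrict_apply, LinearMap.domRestrict_apply, hNEcoe]
    exact hNrel x y
  have hvalE : (B.restrict Y) kE kE = α ^ 2 * B k k := by
    rw [LinearMap.BilinForm.restrict_apply, LinearMap.domRestrict_apply]
    exact hval
  have hkEne : (B.restrict Y) kE kE ≠ 0 := by
    rw [hvalE, hBapp]
    exact mul_ne_zero (pow_ne_zero 2 hα) hkk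
  obtain ⟨f, hf⟩ := isSquare_disc_of_sq_zero (B.restrict Y) hSE NE hrelE hsqE kE
    (LinearMap.mem_ker.1 hkE) hkEne b hdim hr
  rw [hvalE, hBapp] at hf
  refine ⟨f / α, ?_⟩
  field_simp
  linear_combination hf

/-- the discriminant of an invariant subspace whose type is `(1, 2^b)`, `b` even, inside a
unipotent isometry of type `(1, 3, 2^n)` -/
theorem isSquare_disc_of_type (Q : QuadraticForm F V) (g : End F V) (hiso : ∀ x, Q (g x) = Q x)
    (k : V) (hk0 : (g - 1) k = 0) (hkr : ∀ w, (g - 1) w ≠ k)
    (hker : finrank F (LinearMap.ker (g - 1)) =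
      finrank F ↥(LinearMap.ker (g - 1) ⊓ LinearMap.range (g - 1)) + 1)
    (hkk : QuadraticMap.polar (⇑Q) k k ≠ 0)
    (Y Y' : Submodule F V) (hc : IsCompl Y Y') (hY : ∀ y ∈ Y, (g - 1) y ∈ Y)
    (hY' : ∀ y ∈ Y', (g - 1) y ∈ Y') (hnilY : IsNilpotent ((g - 1).restrict hY)) (n : ℕ)
    (hle : jtype ((g - 1).restrict hY) ≤ ({1} : Multiset ℕ) + ({3} + Multiset.replicate n 2))
    (h1 : (jtype ((g - 1).restrict hY)).count 1 = 1)
    (h3 : (jtype ((g - 1).restrict hY)).count 3 = 0)
    (he : Even ((jtype ((g - 1).restrict hY)).count 2)) :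
    IsSquare (QuadraticMap.polar (⇑Q) k k * disc ((pB Q).restrict Y)) := by
  obtain ⟨-, -, -, asum, acard, amem⟩ := sub_type_counts _ n hle
  have hsum := jtype_sum _ hnilY
  have hle2 : ∀ a ∈ jtype ((g - 1).restrict hY), a ≤ 2 := by
    intro a ha
    rcases amem a ha with rfl | rfl | rfl
    · norm_num
    · exact le_refl 2
    · exfalso
      have := Multiset.count_pos.2 ha
      omega
  have hsq0 := (pow_eq_zero_iff_jtype _ hnilY 2).2 hle2
  have hsq : ∀ y ∈ Y, (g - 1) ((g - 1) y) = 0 := by
    intro y hy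
    have h0 : (((g - 1).restrict hY) ^ 2) ⟨y, hy⟩ = 0 := by
      rw [hsq0]
      rfl
    rw [pow_two, Module.End.mul_apply] at h0
    exact congrArg Subtype.val h0
  have hpred := sum_map_pred (jtype ((g - 1).restrict hY)) (fun a ha => jtype_pos _ ha)
  have hr : finrank F (LinearMap.range ((g - 1).restrict hY)) =
      (jtype ((g - 1).restrict hY)).count 2 := by
    have := finrank_range_pow_jtype _ hnilY 1
    rw [pow_one] at this
    rw [this]
    omega
  have hdim : finrank F Y = 2 * (jtype ((g - 1).restrict hY)).count 2 + 1 := by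
    rw [← hsum, asum]
    omega
  have := isSquare_disc_of_fixed Q g hiso k hk0 hkr hker hkk Y Y' hc hY hY' hsq _ hdim hr
  rw [he.neg_one_pow, one_mul] at this
  exact this

end forms

section main

open Matrix
open Cfsg.Agent.Lib.Helper43_SympJordan Cfsg.Agent.Lib.Helper43_OrthGen

variable {F : Type u} [Field F] {κ : Type} [Fintype κ] [DecidableEq κ]

/-- an element of order `p` of `Ω(Q)` (`dim = 2 d`, `d` even) such that the discriminant of every
invariant nondegenerate subspace of odd dimension is prescribed by `c₀` -/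
theorem exists_unipotent_disc [Fintype F] (p : ℕ) [Fact p.Prime] [CharP F p] (hp : Odd p)
    (Q : QuadraticForm F (κ → F)) (hQ : (QuadraticMap.polarBilin Q).Nondegenerate)
    (d : ℕ) (hd : Even d) (hd2 : 2 ≤ d) (hcard : Fintype.card κ = 2 * d) (c₀ : F)
    (hc₀ : c₀ ≠ 0) :
    ∃ x : Matrix.GeneralLinearGroup κ F, x ∈ Cfsg.Geo.omegaGL (⇑Q) ∧ x ^ p = 1 ∧
      (∀ z : F, (x : Matrix κ κ F) ≠ z • (1 : Matrix κ κ F)) ∧
      ∀ W : Submodule F (κ → F), W.map (Matrix.toLin' (x : Matrix κ κ F)) ≤ W →
        Cfsg.Geo.IsNondegenerateOn (QuadraticMap.polar (⇑Q)) W →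
        (finrank F W % 4 = 1 → IsSquare (c₀ * disc ((pB Q).restrict W))) ∧
        (finrank F W % 4 = 3 → IsSquare (c₀ * disc (pB Q) * disc ((pB Q).restrict W))) := by
  classical
  have hpp : p.Prime := Fact.out
  have hp3 : 3 ≤ p := by
    rcases hp with ⟨k, hk⟩
    have := hpp.two_le
    omega
  have hp2 : p ≠ 2 := by omega
  have h2 : (2 : F) ≠ 0 := by
    intro h
    have h1 : ((2 : ℕ) : F) = 0 := by
      rw [Nat.cast_ofNat]
      exact h
    rw [CharP.cast_eq_zero_iff F p] at h1
    exact hp2 ((Nat.prime_dvd_prime_iff_eq hpp Nat.prime_two).1 h1)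
  obtain ⟨e, hde⟩ := hd
  have hM₂ : ∀ a ∈ ({3} : Multiset ℕ) + Multiset.replicate (d - 2) 2, 0 < a ∧ a ≤ p := by
    intro a ha
    rw [Multiset.mem_add, Multiset.mem_singleton] at ha
    rcases ha with rfl | ha
    · exact ⟨by norm_num, hp3⟩
    · rw [Multiset.eq_of_mem_replicate ha]
      exact ⟨by norm_num, by omega⟩
  have hcnt : ∀ j, Even j →
      Even ((({3} : Multiset ℕ) + Multiset.replicate (d - 2) 2).count j) := by
    intro j hj
    rw [Multiset.count_add, Multiset.count_singleton, Multiset.count_replicate]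
    split_ifs with h1 h2' h2'
    · omega
    · subst h1
      exact absurd hj (by decide)
    · exact ⟨e - 1, by omega⟩
    · exact Even.zero
  have hsum : (({3} : Multiset ℕ) + Multiset.replicate (d - 2) 2).sum + 1 = Fintype.card κ := by
    rw [Multiset.sum_add, Multiset.sum_singleton, Multiset.sum_replicate, smul_eq_mul, hcard]
    omega
  obtain ⟨x, hxΩ, hxp, hxiso, hxnil, hxj, k, hk0, hkr, hkc⟩ :=
    Cfsg.Agent.Lib.Helper43_OrthFixed.exists_unipotent_omega_fixed (F := F) p hp Q hQ
      (({3} : Multiset ℕ) + Multiset.replicate (d - 2) 2) hM₂ hcnt hsum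
      ⟨3, Multiset.mem_add.2 (Or.inl (Multiset.mem_singleton_self 3)), by decide⟩ c₀ hc₀
  have hcardpos : 0 < Fintype.card κ := by omega
  obtain ⟨k0⟩ : Nonempty κ := Fintype.card_pos_iff.1 hcardpos
  have hns : ∀ z : F, (x : Matrix κ κ F) ≠ z • (1 : Matrix κ κ F) := by
    intro z hz
    have hN : (x : Matrix κ κ F) - 1 = (z - 1) • (1 : Matrix κ κ F) := by
      rw [hz, sub_smul, one_smul]
    have hz1 : z - 1 = 0 := by
      obtain ⟨n, hn⟩ := hxnil
      rw [hN, _root_.smul_pow, one_pow] at hn
      have := congrFun (congrFun hn k0) k0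
      rw [Matrix.smul_apply, Matrix.one_apply_eq, Matrix.zero_apply, smul_eq_mul, mul_one] at this
      exact pow_eq_zero_iff (n := n) (by
        rintro rfl
        rw [pow_zero] at this
        exact one_ne_zero this) |>.1 this
    have hN0 : Matrix.toLin' ((x : Matrix κ κ F) - 1) ^ 1 = 0 := by
      rw [pow_one, hN, hz1, zero_smul, map_zero]
    rw [pow_eq_zero_iff_jtype _ (isNilpotent_toLin' hxnil), hxj] at hN0
    have h1 := hN0 3 (Multiset.mem_add.2 (Or.inr (Multiset.mem_add.2
      (Or.inl (Multiset.mem_singleton_self 3)))))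
    omega
  refine ⟨x, hxΩ, hxp, hns, ?_⟩
  intro W hWx hWnd
  set g : Module.End F (κ → F) := Matrix.toLin' (x : Matrix κ κ F) with hg
  set g' : Module.End F (κ → F) :=
    Matrix.toLin' ((x⁻¹ : Matrix.GeneralLinearGroup κ F) : Matrix κ κ F) with hg'
  have hgg' : g * g' = 1 := by
    rw [hg, hg', Module.End.mul_eq_comp, ← Matrix.toLin'_mul, ← Units.val_mul,
      mul_inv_cancel, Units.val_one, Matrix.toLin'_one]
    rfl
  have hg'g : g' * g = 1 := by
    rw [hg, hg', Module.End.mul_eq_comp, ← Matrix.toLin'_mul, ← Units.val_mul,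
      inv_mul_cancel, Units.val_one, Matrix.toLin'_one]
    rfl
  have hsub : g - 1 = Matrix.toLin' ((x : Matrix κ κ F) - 1) := by
    rw [hg, map_sub, Matrix.toLin'_one]
    rfl
  have hgnil : IsNilpotent (g - 1) := by
    rw [hsub]
    exact isNilpotent_toLin' hxnil
  have hgiso : ∀ v, Q (g v) = Q v := by
    intro v
    rw [hg, Matrix.toLin'_apply]
    exact hxiso v
  have hj : jtype (g - 1) = ({1} : Multiset ℕ) + ({3} + Multiset.replicate (d - 2) 2) := by
    rw [hsub]
    exact hxj
  -- ranks
  have hdimV : finrank F (κ → F) = 2 * d := by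
    rw [Module.finrank_fintype_fun_eq_card, hcard]
  have hr1 : finrank F (LinearMap.range (g - 1)) = d := by
    have := finrank_range_pow_jtype (g - 1) hgnil 1
    rw [pow_one, hj] at this
    rw [this]
    simp only [Multiset.map_add, Multiset.map_singleton, Multiset.map_replicate, Multiset.sum_add,
      Multiset.sum_singleton, Multiset.sum_replicate, smul_eq_mul]
    omega
  have hr2 : finrank F (LinearMap.range ((g - 1) ^ 2)) = 1 := by
    have := finrank_range_pow_jtype (g - 1) hgnil 2
    rw [hj] at this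
    rw [this]
    simp only [Multiset.map_add, Multiset.map_singleton, Multiset.map_replicate, Multiset.sum_add,
      Multiset.sum_singleton, Multiset.sum_replicate, smul_eq_mul]
    norm_num
  have hker : finrank F (LinearMap.ker (g - 1)) =
      finrank F ↥(LinearMap.ker (g - 1) ⊓ LinearMap.range (g - 1)) + 1 := by
    have h1 := LinearMap.finrank_range_add_finrank_ker (g - 1)
    have h2' := finrank_ker_inf_range (g - 1)
    omega
  have hk0' : (g - 1) k = 0 := by
    rw [hsub, Matrix.toLin'_apply]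
    exact hk0
  have hkr' : ∀ w, (g - 1) w ≠ k := by
    intro w
    rw [hsub, Matrix.toLin'_apply]
    exact hkr w
  have hkk : QuadraticMap.polar (⇑Q) k k ≠ 0 := by
    rw [hkc]
    exact hc₀
  -- the subspace and its orthogonal complement
  have hWg : ∀ w ∈ W, g w ∈ W := fun w hw => hWx (Submodule.mem_map_of_mem hw)
  have hnd : ∀ w ∈ W, w ≠ 0 → ∃ y ∈ W, QuadraticMap.polar (⇑Q) y w ≠ 0 :=
    fun w hw hw0 => (hWnd w hw hw0).1
  obtain ⟨hcompl, hW'g, hnd'⟩ := orth_compl_spec Q hQ g g' hgg' hg'g hgiso W hWg hnd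
  obtain ⟨hNW, hnilW, hleW, hsumW, hcntW⟩ :=
    Cfsg.Agent.Lib.Helper43_OrthRestrict.sub_type_spec h2 Q g g' hgg' hg'g hgiso hgnil W hWg hnd
  obtain ⟨hNW', hnilW', hleW', hsumW', hcntW'⟩ :=
    Cfsg.Agent.Lib.Helper43_OrthRestrict.sub_type_spec h2 Q g g' hgg' hg'g hgiso hgnil
      ((pB Q).orthogonal W) hW'g hnd'
  have hsplit := Cfsg.Agent.S5959.jtype_of_isCompl (g - 1) hgnil W ((pB Q).orthogonal W) hcompl
    hNW hNW'
  rw [hj] at hleW hleW' hsplit
  obtain ⟨a1, a3, a2, asum, -, -⟩ := sub_type_counts _ (d - 2) hleW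
  have c1 := congrArg (Multiset.count 1) hsplit
  have c3 := congrArg (Multiset.count 3) hsplit
  have c2 := congrArg (Multiset.count 2) hsplit
  rw [Multiset.count_add, Multiset.count_add, Multiset.count_add, Multiset.count_singleton,
    Multiset.count_singleton, Multiset.count_replicate] at c1 c2 c3
  norm_num at c1 c2 c3
  obtain ⟨t, ht⟩ := hcntW 2 (by decide)
  obtain ⟨t', ht'⟩ := hcntW' 2 (by decide)
  constructor
  · intro hm
    have h1 : (jtype ((g - 1).restrict hNW)).count 1 = 1 := by omega
    have h3 : (jtype ((g - 1).restrict hNW)).count 3 = 0 := by omega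
    have := isSquare_disc_of_type Q g hgiso k hk0' hkr' hker hkk W ((pB Q).orthogonal W) hcompl
      hNW hNW' hnilW (d - 2) hleW h1 h3 ⟨t, ht⟩
    rw [hkc] at this
    exact this
  · intro hm
    have h1 : (jtype ((g - 1).restrict hNW')).count 1 = 1 := by omega
    have h3 : (jtype ((g - 1).restrict hNW')).count 3 = 0 := by omega
    have hsq' := isSquare_disc_of_type Q g hgiso k hk0' hkr' hker hkk ((pB Q).orthogonal W) W
      hcompl.symm hNW' hNW hnilW' (d - 2) hleW' h1 h3 ⟨t', ht'⟩
    rw [hkc] at hsq'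
    have h12 : ∀ u ∈ W, ∀ v ∈ (pB Q).orthogonal W, (pB Q) u v = 0 := by
      intro u hu v hv
      exact (LinearMap.BilinForm.mem_orthogonal_iff.1 hv) u hu
    have h21 : ∀ u ∈ W, ∀ v ∈ (pB Q).orthogonal W, (pB Q) v u = 0 := by
      intro u hu v hv
      have := h12 u hu v hv
      rw [QuadraticMap.polarBilin_apply_apply] at this ⊢
      rw [QuadraticMap.polar_comm]
      exact this
    obtain ⟨s, hs, heq⟩ := disc_orth_sum (pB Q) W ((pB Q).orthogonal W) hcompl h12 h21
    obtain ⟨f, hf⟩ := hsq'
    refine ⟨f * disc ((pB Q).restrict W) * s, ?_⟩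
    rw [heq]
    linear_combination (disc ((pB Q).restrict W) * s) ^ 2 * hf

omit [DecidableEq κ] in
/-- isometric subspaces have the same discriminant -/
theorem sqRel_disc_of_isometric (Q : QuadraticForm F (κ → F)) (W W₀ : Submodule F (κ → F))
    (h : Cfsg.Geo.AreIsometricFor (⇑Q) W W₀) :
    SqRel (disc ((pB Q).restrict W)) (disc ((pB Q).restrict W₀)) := by
  obtain ⟨e, he⟩ := h
  apply disc_congr _ _ e
  intro x y
  rw [LinearMap.BilinForm.restrict_apply, LinearMap.domRestrict_apply,
    LinearMap.BilinForm.restrict_apply, LinearMap.domRestrict_apply,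
    QuadraticMap.polarBilin_apply_apply, QuadraticMap.polarBilin_apply_apply]
  unfold QuadraticMap.polar
  have h1 : ((e x : W₀) : κ → F) + ((e y : W₀) : κ → F) = ((e (x + y) : W₀) : κ → F) := by
    rw [map_add]
    rfl
  have h2 : ((x : W) : κ → F) + ((y : W) : κ → F) = ((x + y : W) : κ → F) := rfl
  rw [h1, h2, he, he, he]

omit [DecidableEq κ] in
/-- the discriminant of a nondegenerate subspace is nonzero -/
theorem disc_restrict_ne_zero (Q : QuadraticForm F (κ → F)) (W : Submodule F (κ → F))
    (h : Cfsg.Geo.IsNondegenerateOn (QuadraticMap.polar (⇑Q)) W) :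
    disc ((pB Q).restrict W) ≠ 0 :=
  disc_ne_zero (restrict_nondegenerate Q W (fun w hw h0 => (h w hw h0).1))

end main

end Cfsg.Agent.Lib.Helper43_OrthDiscFix
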