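import Mathlib
import Cfsg.Prelude.Def_GeometricClasses
import Cfsg.Prelude.Def_Classical
import Cfsg.Agent.Lib.Helper43_OrthCaseLib
import Cfsg.Agent.Lib.Helper43_OrthDiscFix

set_option autoImplicit false
open scoped MatrixGroups
open Cfsg

/-!
# The case `r = p` of S5991 (helper43, for helper13 / helper68)

`PΩ⁻_{2d}(q)`, `q` odd, on nondegenerate `m`-spaces (`m` odd) isometric to `W₀`: there is always a
derangement of order `p`.  For `d` odd a unipotent element of type `(3,3,2^(d-3))` or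
`(2^(d-1),1,1)`; for `d` even a unipotent element of type `(1,3,2^(d-2))` whose `1`-block is spanned
by a vector `k` with `B(k,k)` chosen so that the invariant nondegenerate `m`-spaces have the wrong
discriminant.
-/

namespace Cfsg.Agent.Lib.Helper43_OrthCase_S5991_p

open Cfsg.Agent.Lib.Helper43_SqDisc Cfsg.Agent.Lib.Helper43_OrthDiscFix

theorem S5991_p {F : Type*} [Field F] [Fintype F] {p : ℕ} [Fact p.Prime] [CharP F p] {q : ℕ} (hq : Fintype.card F = q)
    (hodd : Odd q) (d m : ℕ) (hd : 4 ≤ d) (hm : Odd m) (hmd : m < d) (a b : F) (hab : ∀ x y : F, x ^ 2 + a * x * y + b * y ^ 2 = 0 → x = 0 ∧ y = 0)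
    (W₀ : Submodule F ((Fin (d - 1) ⊕ Fin (d - 1)) ⊕ Fin 2 → F)) (hW₀ : Module.finrank F ↥W₀ = m ∧ Cfsg.Geo.IsNondegenerateOn (QuadraticMap.polar (Cfsg.quadFormMinus (d - 1) F a b)) W₀)
    (r : ℕ) [Fact r.Prime]
    (hrΩ : r ∣ Nat.card {W : Submodule F ((Fin (d - 1) ⊕ Fin (d - 1)) ⊕ Fin 2 → F) // Module.finrank F ↥W = m ∧ Cfsg.Geo.IsNondegenerateOn (QuadraticMap.polar (Cfsg.quadFormMinus (d - 1) F a b)) W ∧ Cfsg.Geo.AreIsometricFor (Cfsg.quadFormMinus (d - 1) F a b) W W₀})
    (i c : ℕ) (hi : i = orderOf (q : ZMod r)) (hc : c = if Even i then i else 2 * i)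
    (hrp : r = p) :
    (∀ x : GL ((Fin (d - 1) ⊕ Fin (d - 1)) ⊕ Fin 2) F, x ∈ Cfsg.Geo.omegaGL (Cfsg.quadFormMinus (d - 1) F a b) →
      (∃ z : F, ((x ^ r : GL ((Fin (d - 1) ⊕ Fin (d - 1)) ⊕ Fin 2) F) : Matrix ((Fin (d - 1) ⊕ Fin (d - 1)) ⊕ Fin 2) ((Fin (d - 1) ⊕ Fin (d - 1)) ⊕ Fin 2) F) = z • (1 : Matrix ((Fin (d - 1) ⊕ Fin (d - 1)) ⊕ Fin 2) ((Fin (d - 1) ⊕ Fin (d - 1)) ⊕ Fin 2) F)) →
      (∀ z : F, (x : Matrix ((Fin (d - 1) ⊕ Fin (d - 1)) ⊕ Fin 2) ((Fin (d - 1) ⊕ Fin (d - 1)) ⊕ Fin 2) F) ≠ z • (1 : Matrix ((Fin (d - 1) ⊕ Fin (d - 1)) ⊕ Fin 2) ((Fin (d - 1) ⊕ Fin (d - 1)) ⊕ Fin 2) F)) →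
      ∃ W : Submodule F ((Fin (d - 1) ⊕ Fin (d - 1)) ⊕ Fin 2 → F), (Module.finrank F ↥W = m ∧ Cfsg.Geo.IsNondegenerateOn (QuadraticMap.polar (Cfsg.quadFormMinus (d - 1) F a b)) W ∧ Cfsg.Geo.AreIsometricFor (Cfsg.quadFormMinus (d - 1) F a b) W W₀) ∧ W.map (Matrix.toLin' (x : Matrix ((Fin (d - 1) ⊕ Fin (d - 1)) ⊕ Fin 2) ((Fin (d - 1) ⊕ Fin (d - 1)) ⊕ Fin 2) F)) ≤ W) ↔
    ((r = 2 ∧ (Even d ∨ q % 8 ≠ 7)) ∨
     (r ≠ p ∧ 2 < r ∧ Odd i ∧ ((2 * d) % c = 0 ∨ (c ≤ m ∧ 0 < m % c ∧ m % c < (2 * d) % c))) ∨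
     (r ≠ p ∧ 2 < r ∧ Even i ∧ (((2 * d) % c = 0 ∧ Even ((2 * d) / i)) ∨ (0 < (2 * d) % c ∧ i ≤ m ∧ 0 < m % c ∧ m % c < (2 * d) % c)))) := by
  classical
  subst hrp
  subst hq
  have hpp : r.Prime := Fact.out
  have hp : Odd r := by
    rcases hpp.eq_two_or_odd' with h | h
    · exfalso
      subst h
      have hdvd : (2 : ℕ) ∣ Fintype.card F := by
        obtain ⟨n, _, hn⟩ := FiniteField.card F 2
        rw [hn]
        exact dvd_pow_self 2 n.ne_zero
      exact (Nat.not_even_iff_odd.2 hodd) (even_iff_two_dvd.2 hdvd)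
    · exact h
  have hp3 : 3 ≤ r := by
    rcases hp with ⟨k, hk⟩
    have := hpp.two_le
    omega
  have hp2 : r ≠ 2 := by omega
  have h2 : (2 : F) ≠ 0 := by
    intro h
    have h1 : ((2 : ℕ) : F) = 0 := by
      rw [Nat.cast_ofNat]
      exact h
    rw [CharP.cast_eq_zero_iff F r] at h1
    exact hp2 ((Nat.prime_dvd_prime_iff_eq hpp Nat.prime_two).1 h1)
  constructor
  · intro H
    exfalso
    have hQ := Cfsg.Agent.Lib.Helper43_OrthGen.nondegenerate_qfMinus' h2 (d - 1) a b hab
    have hcoe := Cfsg.Agent.Lib.Helper44_StdForms.coe_qfMinus (d - 1) F a b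
    have hcard : Fintype.card ((Fin (d - 1) ⊕ Fin (d - 1)) ⊕ Fin 2) = 2 * d := by
      rw [Fintype.card_sum, Fintype.card_sum, Fintype.card_fin, Fintype.card_fin]
      omega
    have hm4 : m % 4 = 1 ∨ m % 4 = 3 := by
      rcases hm with ⟨k, hk⟩
      omega
    rcases Nat.even_or_odd d with hde | hdo
    · -- `d` even: the discriminant argument
      have hrc : ringChar F ≠ 2 := by
        rw [ringChar.eq F r]
        exact hp2
      obtain ⟨ν, hν⟩ := FiniteField.exists_nonsquare (F := F) hrc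
      have hν0 : ν ≠ 0 := by
        rintro rfl
        exact hν ⟨0, by simp⟩
      have hW₀nd : Cfsg.Geo.IsNondegenerateOn
          (QuadraticMap.polar (⇑(Cfsg.Agent.Lib.Helper44_StdForms.qfMinus (d - 1) F a b))) W₀ := by
        rw [hcoe]
        exact hW₀.2
      have hδ₀ := disc_restrict_ne_zero _ W₀ hW₀nd
      have hδV : disc (pB (Cfsg.Agent.Lib.Helper44_StdForms.qfMinus (d - 1) F a b)) ≠ 0 :=
        disc_ne_zero hQ
      rcases hm4 with hm4 | hm4
      · obtain ⟨x, hxΩ, hxp, hns, hres⟩ := exists_unipotent_disc (F := F) r hp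
          (Cfsg.Agent.Lib.Helper44_StdForms.qfMinus (d - 1) F a b) hQ d hde (by omega) hcard _
          (mul_ne_zero hν0 hδ₀)
        rw [hcoe] at hxΩ hres
        obtain ⟨W, ⟨hWdim, hWnd, hWiso⟩, hWx⟩ := H x hxΩ ⟨1, by rw [hxp, one_smul]; rfl⟩ hns
        have hsq := (hres W hWx hWnd).1 (by rw [hWdim]; exact hm4)
        obtain ⟨f, hf, hfeq⟩ := sqRel_disc_of_isometric
          (Cfsg.Agent.Lib.Helper44_StdForms.qfMinus (d - 1) F a b) W W₀ (by rw [hcoe]; exact hWiso)
        rw [hfeq] at hsq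
        apply hν
        obtain ⟨s, hs⟩ := hsq
        refine ⟨s / (disc ((pB (Cfsg.Agent.Lib.Helper44_StdForms.qfMinus (d - 1) F a b)).restrict
          W₀) * f), ?_⟩
        field_simp
        linear_combination hs
      · obtain ⟨x, hxΩ, hxp, hns, hres⟩ := exists_unipotent_disc (F := F) r hp
          (Cfsg.Agent.Lib.Helper44_StdForms.qfMinus (d - 1) F a b) hQ d hde (by omega) hcard _
          (mul_ne_zero (mul_ne_zero hν0 hδV) hδ₀)
        rw [hcoe] at hxΩ hres
        obtain ⟨W, ⟨hWdim, hWnd, hWiso⟩, hWx⟩ := H x hxΩ ⟨1, by rw [hxp, one_smul]; rfl⟩ hns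
        have hsq := (hres W hWx hWnd).2 (by rw [hWdim]; exact hm4)
        obtain ⟨f, hf, hfeq⟩ := sqRel_disc_of_isometric
          (Cfsg.Agent.Lib.Helper44_StdForms.qfMinus (d - 1) F a b) W W₀ (by rw [hcoe]; exact hWiso)
        rw [hfeq] at hsq
        apply hν
        obtain ⟨s, hs⟩ := hsq
        refine ⟨s / (disc (pB (Cfsg.Agent.Lib.Helper44_StdForms.qfMinus (d - 1) F a b)) *
          disc ((pB (Cfsg.Agent.Lib.Helper44_StdForms.qfMinus (d - 1) F a b)).restrict W₀) * f),
          ?_⟩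
        field_simp
        linear_combination hs
    · -- `d` odd: as for `Ω⁺`
      have key : ∀ M : Multiset ℕ, (∀ a ∈ M, 0 < a ∧ a ≤ r) → (∀ e, Even e → Even (M.count e)) →
          M.sum = 2 * d → (∃ e ∈ M, Odd e) → (∃ e ∈ M, e ≠ 1) →
          (∀ ν : Multiset ℕ, ν ≤ M → ν.sum = m → (∀ e, Even e → Even (ν.count e)) → False) →
          False := by
        intro M hM hcnt hsum hoddM hnot1 hno
        obtain ⟨x, hxΩ, hxp, hns, hres⟩ :=
          Cfsg.Agent.Lib.Helper43_OrthCaseLib.exists_unipotent_restrict (F := F) r hp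
            (Cfsg.Agent.Lib.Helper44_StdForms.qfMinus (d - 1) F a b) hQ M hM hcnt
            (by rw [hsum, hcard])
            (by
              intro hall
              exfalso
              obtain ⟨e, he, heo⟩ := hoddM
              exact (Nat.not_even_iff_odd.2 heo) (hall e he))
            hnot1
        rw [hcoe] at hxΩ hres
        obtain ⟨W, ⟨hWdim, hWnd, -⟩, hWx⟩ := H x hxΩ ⟨1, by rw [hxp, one_smul]; rfl⟩ hns
        obtain ⟨ν, hle, hsumν, hcntν⟩ := hres W hWx hWnd
        exact hno ν hle (by rw [hsumν, hWdim]) hcntν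
      have hd1 : Even (d - 1) := by
        rcases hdo with ⟨k, hk⟩
        exact ⟨k, by omega⟩
      have hd3 : Even (d - 3) := by
        rcases hdo with ⟨k, hk⟩
        exact ⟨k - 1, by omega⟩
      rcases hm4 with hm4 | hm4
      · -- `m ≡ 1 mod 4`: type `(3, 3, 2^(d-3))`
        apply key (Multiset.replicate 2 3 + Multiset.replicate (d - 3) 2)
        · intro a ha
          rw [Multiset.mem_add] at ha
          rcases ha with h | h
          · rw [Multiset.eq_of_mem_replicate h]
            omega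
          · rw [Multiset.eq_of_mem_replicate h]
            omega
        · intro e he
          rw [Multiset.count_add, Multiset.count_replicate, Multiset.count_replicate]
          split_ifs with h1 h2' h2'
          · omega
          · subst h1
            exact absurd he (by decide)
          · simpa using hd3
          · exact Even.zero
        · rw [Multiset.sum_add, Multiset.sum_replicate, Multiset.sum_replicate, smul_eq_mul,
            smul_eq_mul]
          omega
        · exact ⟨3, Multiset.mem_add.2 (Or.inl (Multiset.mem_replicate.2 ⟨by norm_num, rfl⟩)),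
            by decide⟩
        · exact ⟨3, Multiset.mem_add.2 (Or.inl (Multiset.mem_replicate.2 ⟨by norm_num, rfl⟩)),
            by norm_num⟩
        · intro ν hle hsumν hcntν
          have := Cfsg.Agent.Lib.Helper43_OrthCaseLib.sum_mod_four_of_le_threes_twos ν (d - 3) hle
            hcntν (by rw [hsumν]; exact hm)
          rw [hsumν] at this
          omega
      · -- `m ≡ 3 mod 4`: type `(2^(d-1), 1, 1)`
        apply key (Multiset.replicate (d - 1) 2 + Multiset.replicate 2 1)
        · intro a ha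
          rw [Multiset.mem_add] at ha
          rcases ha with h | h
          · rw [Multiset.eq_of_mem_replicate h]
            omega
          · rw [Multiset.eq_of_mem_replicate h]
            omega
        · intro e he
          rw [Multiset.count_add, Multiset.count_replicate, Multiset.count_replicate]
          split_ifs with h1 h2' h2'
          · omega
          · simpa using hd1
          · subst h2'
            exact absurd he (by decide)
          · exact Even.zero
        · rw [Multiset.sum_add, Multiset.sum_replicate, Multiset.sum_replicate, smul_eq_mul,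
            smul_eq_mul]
          omega
        · exact ⟨1, Multiset.mem_add.2 (Or.inr (Multiset.mem_replicate.2 ⟨by norm_num, rfl⟩)),
            by decide⟩
        · exact ⟨2, Multiset.mem_add.2 (Or.inl (Multiset.mem_replicate.2 ⟨by omega, rfl⟩)),
            by norm_num⟩
        · intro ν hle hsumν hcntν
          have := Cfsg.Agent.Lib.Helper43_OrthCaseLib.sum_mod_four_of_le_twos_ones ν (d - 1) hle
            hcntν (by rw [hsumν]; exact hm)
          rw [hsumν] at this
          omega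
  · rintro (⟨h2', -⟩ | ⟨hne, -⟩ | ⟨hne, -⟩)
    · omega
    · exact absurd rfl hne
    · exact absurd rfl hne

end Cfsg.Agent.Lib.Helper43_OrthCase_S5991_p
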