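import Cfsg.Agent.Lib.Helper43_OrthJordan
import Cfsg.Agent.Lib.Helper44_StdForms

set_option autoImplicit false

/-!
Unipotent isometries of symmetric Gram matrices with prescribed Jordan type and prescribed
discriminant (characteristic not two): matrix form of `Helper43_OrthJordan`, keeping track of the
determinant of the Gram matrix.
-/

namespace Cfsg.Agent.Lib.Helper43_OrthDisc

open Module Matrix
open Cfsg.Agent.Lib.Helper43_Jordan Cfsg.Agent.Lib.Helper43_RegUnipotent
open Cfsg.Agent.Lib.Helper43_SympRegExist Cfsg.Agent.Lib.Helper43_SympJordan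
open Cfsg.Agent.Lib.Helper43_OrthJordan

universe u

/-- `M` is the Jordan type of a unipotent isometry of a symmetric Gram matrix of determinant `δ` -/
def RealD (F : Type u) [Field F] (M : Multiset ℕ) (δ : F) : Prop :=
  ∃ (ι : Type) (_ : Fintype ι) (_ : DecidableEq ι) (G U : Matrix ι ι F),
    Gᵀ = G ∧ G.det = δ ∧ Uᵀ * G * U = G ∧ IsNilpotent (U - 1) ∧
      jtype (Matrix.toLin' (U - 1)) = M

section combine

variable {F : Type u} [Field F]

theorem jtype_fromBlocks' {ι₁ ι₂ : Type} [Fintype ι₁] [Fintype ι₂] [DecidableEq ι₁]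
    [DecidableEq ι₂] (X : Matrix ι₁ ι₁ F) (Y : Matrix ι₂ ι₂ F) (hX : IsNilpotent X)
    (hY : IsNilpotent Y) :
    IsNilpotent (fromBlocks X 0 0 Y) ∧
      jtype (Matrix.toLin' (fromBlocks X 0 0 Y)) =
        jtype (Matrix.toLin' X) + jtype (Matrix.toLin' Y) := by
  have hXY : IsNilpotent (fromBlocks X 0 0 Y) := by
    obtain ⟨a, ha⟩ := hX
    obtain ⟨b, hb⟩ := hY
    refine ⟨a + b, ?_⟩
    rw [fromBlocks_diagonal_pow, pow_add, ha, Matrix.zero_mul, pow_add, hb, Matrix.mul_zero,
      fromBlocks_zero]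
  refine ⟨hXY, ?_⟩
  rw [← jtype_prodMap (isNilpotent_toLin' hX) (isNilpotent_toLin' hY)]
  rw [jtype_eq_iff _ (isNilpotent_toLin' hXY) _
    (isNilpotent_prodMap (isNilpotent_toLin' hX) (isNilpotent_toLin' hY))]
  refine ⟨LinearEquiv.sumArrowLequivProdArrow ι₁ ι₂ F F, ?_⟩
  intro w
  rw [Matrix.toLin'_apply, fromBlocks_mulVec, LinearMap.prodMap_apply]
  apply Prod.ext
  · funext i
    simp [LinearEquiv.sumArrowLequivProdArrow_apply_fst]
    rfl
  · funext i
    simp [LinearEquiv.sumArrowLequivProdArrow_apply_snd]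
    rfl

theorem fromBlocks_sub_one {ι₁ ι₂ : Type} [Fintype ι₁] [Fintype ι₂] [DecidableEq ι₁]
    [DecidableEq ι₂] (X : Matrix ι₁ ι₁ F) (Y : Matrix ι₂ ι₂ F) :
    fromBlocks X 0 0 Y - 1 = fromBlocks (X - 1) 0 0 (Y - 1) := by
  rw [← fromBlocks_one, sub_eq_add_neg, fromBlocks_neg, fromBlocks_add]
  simp [sub_eq_add_neg]

theorem realD_zero : RealD F 0 1 := by
  have hnil : IsNilpotent ((1 : Matrix Empty Empty F) - 1) := by
    rw [sub_self]; exact IsNilpotent.zero
  refine ⟨Empty, inferInstance, inferInstance, 1, 1, Matrix.transpose_one, Matrix.det_one, ?_,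
    hnil, ?_⟩
  · simp
  · have hs := jtype_sum _ (isNilpotent_toLin' hnil)
    have h0 : finrank F (Empty → F) = 0 := by
      rw [Module.finrank_fintype_fun_eq_card]; rfl
    rw [h0] at hs
    apply Multiset.eq_zero_of_forall_notMem
    intro a ha
    have hpos := jtype_pos _ ha
    have := Multiset.single_le_sum (fun x _ => Nat.zero_le x) a ha
    omega

theorem realD_add {M₁ M₂ : Multiset ℕ} {δ₁ δ₂ : F} (h₁ : RealD F M₁ δ₁) (h₂ : RealD F M₂ δ₂) :
    RealD F (M₁ + M₂) (δ₁ * δ₂) := by
  obtain ⟨ι₁, _, _, G₁, U₁, hG₁, hd₁, hU₁, hn₁, hj₁⟩ := h₁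
  obtain ⟨ι₂, _, _, G₂, U₂, hG₂, hd₂, hU₂, hn₂, hj₂⟩ := h₂
  obtain ⟨hnil, hj⟩ := jtype_fromBlocks' (U₁ - 1) (U₂ - 1) hn₁ hn₂
  refine ⟨ι₁ ⊕ ι₂, inferInstance, inferInstance, fromBlocks G₁ 0 0 G₂, fromBlocks U₁ 0 0 U₂,
    ?_, ?_, ?_, ?_, ?_⟩
  · rw [fromBlocks_transpose, hG₁, hG₂]
    simp
  · rw [det_fromBlocks_zero₂₁, hd₁, hd₂]
  · rw [fromBlocks_transpose, fromBlocks_multiply, fromBlocks_multiply]
    simp [hU₁, hU₂]
  · rw [fromBlocks_sub_one]
    exact hnil
  · rw [fromBlocks_sub_one, hj, hj₁, hj₂]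

end combine

section pieces

variable {F : Type u} [Field F]

/-- a single odd block, with the Gram matrix scaled by `c` -/
theorem realD_single (h2 : (2 : F) ≠ 0) (n : ℕ) (hn : Odd n) (c : F) :
    RealD F {n} (c ^ n * (antiG n F).det) := by
  have hn1 : 1 ≤ n := by
    obtain ⟨k, hk⟩ := hn
    omega
  obtain ⟨U, hU, hUnil, hUrank⟩ := exists_cayley_form h2 (antiG n F) (shiftM n F)
    (shiftMT_mul_antiG n) n (shiftM_pow_n n)
  have hnil : IsNilpotent (U - 1) := ⟨n, hUnil⟩
  refine ⟨Fin n, inferInstance, inferInstance, c • antiG n F, U, ?_, ?_, ?_, hnil, ?_⟩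
  · rw [transpose_smul, antiG_transpose n hn]
  · rw [det_smul, Fintype.card_fin]
  · rw [Matrix.mul_smul, Matrix.smul_mul, hU]
  · have hdim : finrank F (Fin n → F) = n := Module.finrank_fin_fun F
    have hker : finrank F (LinearMap.ker (Matrix.toLin' (U - 1))) ≤ 1 := by
      apply finrank_ker_toLin'_le
      rw [hUrank, shiftM_rank n hn1, Fintype.card_fin]
      omega
    rw [jtype_of_ker_le_one _ (isNilpotent_toLin' hnil) hker (by rw [hdim]; omega), hdim]

theorem antiG_det_ne_zero (n : ℕ) (hn : Odd n) : (antiG n F).det ≠ 0 :=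
  Matrix.det_ne_zero_of_left_inverse (antiG_mul_self n hn)

/-- a pair of blocks of the same size, on a hyperbolic Gram matrix -/
theorem realD_pair (k : ℕ) (hk : 1 ≤ k) : RealD F {k, k} ((-1) ^ k) := by
  obtain ⟨D, hDA, hAD, hDnil⟩ := exists_D (F := F) k
  set A : Matrix (Fin k) (Fin k) F := 1 + shiftM k F with hA
  have hA1 : A - 1 = shiftM k F := by rw [hA, add_sub_cancel_left]
  set U : Matrix (Fin k ⊕ Fin k) (Fin k ⊕ Fin k) F := fromBlocks A 0 0 D with hU
  set G : Matrix (Fin k ⊕ Fin k) (Fin k ⊕ Fin k) F := fromBlocks 0 1 1 0 with hG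
  have hGT : Gᵀ = G := by
    rw [hG, fromBlocks_transpose]
    simp
  have hDTA : Dᵀ * A = 1 := by
    have := congrArg Matrix.transpose hAD
    rwa [Matrix.transpose_mul, Matrix.transpose_transpose, Matrix.transpose_one] at this
  have hUG : Uᵀ * G * U = G := by
    rw [hU, hG, fromBlocks_transpose, fromBlocks_multiply, fromBlocks_multiply]
    simp only [Matrix.mul_zero, Matrix.zero_mul, Matrix.mul_one, zero_add, add_zero,
      Matrix.transpose_zero, hAD, hDTA]
  have hnil : IsNilpotent (U - 1) :=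
    piece_nil A 0 D (by rw [hA1]; exact shiftM_pow_n k) hDnil
  refine ⟨Fin k ⊕ Fin k, inferInstance, inferInstance, G, U, hGT, ?_, hUG, hnil, ?_⟩
  · rw [hG]
    exact Cfsg.Agent.Lib.Helper44_StdForms.det_antidiag k F
  have hdim : finrank F (Fin k → F) = k := Module.finrank_fin_fun F
  have hN : IsNilpotent (shiftM k F) := ⟨k, shiftM_pow_n k⟩
  have hDn : IsNilpotent (D - 1) := ⟨k, hDnil⟩
  have hUeq : U - 1 = fromBlocks (shiftM k F) 0 0 (D - 1) := by rw [hU, sub_one_eq, hA1]
  have hk1 : finrank F (LinearMap.ker (Matrix.toLin' (shiftM k F))) ≤ 1 := by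
    apply finrank_ker_toLin'_le
    rw [shiftM_rank k hk, Fintype.card_fin]
    omega
  have hk2 : finrank F (LinearMap.ker (Matrix.toLin' (D - 1))) ≤ 1 := by
    have hT : finrank F (LinearMap.ker (Matrix.toLin' (shiftM k F)ᵀ)) ≤ 1 := by
      apply finrank_ker_toLin'_le
      rw [Matrix.rank_transpose, shiftM_rank k hk, Fintype.card_fin]
      omega
    refine le_trans (Submodule.finrank_mono ?_) hT
    intro y hy
    rw [LinearMap.mem_ker, Matrix.toLin'_apply] at hy ⊢
    exact (shiftMT_mulVec_eq_zero D hAD y hy).2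
  rw [hUeq] at hnil
  rw [hUeq, jtype_fromBlocks _ _ hN hDn hnil,
    jtype_of_ker_le_one _ (isNilpotent_toLin' hN) hk1 (by rw [hdim]; omega),
    jtype_of_ker_le_one _ (isNilpotent_toLin' hDn) hk2 (by rw [hdim]; omega), hdim]
  rfl

end pieces

section final

variable {F : Type u} [Field F]

theorem realD_of_counts_aux (h2 : (2 : F) ≠ 0) : ∀ (n : ℕ) (M : Multiset ℕ),
    Multiset.card M = n → (∀ a ∈ M, 0 < a) → (∀ j, Even j → 0 < j → Even (M.count j)) →
    ∃ δ : F, δ ≠ 0 ∧ RealD F M δ ∧ ((∀ a ∈ M, Even a) → δ = (-1) ^ (M.sum / 2)) := by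
  intro n
  induction n using Nat.strong_induction_on with
  | _ n ih =>
  intro M hcard hpos hcnt
  rcases Multiset.empty_or_exists_mem M with rfl | ⟨a, ha⟩
  · exact ⟨1, one_ne_zero, realD_zero, fun _ => by simp⟩
  have hcardpos : 0 < n := by
    rw [← hcard]
    exact Multiset.card_pos_iff_exists_mem.2 ⟨a, ha⟩
  rcases Nat.even_or_odd a with hev | hodd
  · have h2' := hcnt a hev (hpos a ha)
    have hc1 : 1 ≤ M.count a := Multiset.one_le_count_iff_mem.2 ha
    have hc2 : 2 ≤ M.count a := by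
      obtain ⟨r, hr⟩ := h2'
      omega
    have ha' : a ∈ M.erase a := by
      rw [← Multiset.count_pos, Multiset.count_erase_self]
      omega
    have hM : M = {a, a} + (M.erase a).erase a := by
      show M = (a ::ₘ {a}) + (M.erase a).erase a
      rw [Multiset.cons_add, Multiset.singleton_add, Multiset.cons_erase ha', Multiset.cons_erase ha]
    have hcard2 : Multiset.card ((M.erase a).erase a) = n - 2 := by
      rw [Multiset.card_erase_of_mem ha', Multiset.card_erase_of_mem ha, hcard]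
      rfl
    have hn2 : 2 ≤ n := by
      have := Multiset.count_le_card a M
      omega
    obtain ⟨δ', hδ', hreal', hev'⟩ := ih (n - 2) (by omega) _ hcard2
      (fun b hb => hpos b (Multiset.mem_of_mem_erase (Multiset.mem_of_mem_erase hb)))
      (by
        intro j hj hj0
        by_cases hja : j = a
        · subst hja
          rw [Multiset.count_erase_self, Multiset.count_erase_self]
          obtain ⟨r, hr⟩ := h2'
          exact ⟨r - 1, by omega⟩
        · rw [Multiset.count_erase_of_ne hja, Multiset.count_erase_of_ne hja]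
          exact hcnt j hj hj0)
    refine ⟨(-1) ^ a * δ', mul_ne_zero (pow_ne_zero _ (neg_ne_zero.2 one_ne_zero)) hδ', ?_, ?_⟩
    · rw [hM]
      exact realD_add (realD_pair a (hpos a ha)) hreal'
    · intro hall
      have hall' : ∀ b ∈ (M.erase a).erase a, Even b := fun b hb =>
        hall b (Multiset.mem_of_mem_erase (Multiset.mem_of_mem_erase hb))
      rw [hev' hall']
      have hsum : M.sum = 2 * a + ((M.erase a).erase a).sum := by
        conv_lhs => rw [hM]
        rw [Multiset.sum_add]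
        show (a ::ₘ {a}).sum + _ = _
        rw [Multiset.sum_cons, Multiset.sum_singleton]
        ring
      rw [hsum, ← pow_add]
      congr 1
      omega
  · have hM : M = {a} + M.erase a := by
      rw [Multiset.singleton_add, Multiset.cons_erase ha]
    obtain ⟨δ', hδ', hreal', -⟩ := ih (n - 1) (by omega) (M.erase a)
      (by rw [Multiset.card_erase_of_mem ha, hcard]; rfl)
      (fun b hb => hpos b (Multiset.mem_of_mem_erase hb))
      (by
        intro j hj hj0
        have hja : j ≠ a := by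
          rintro rfl
          exact (Nat.not_even_iff_odd.2 hodd) hj
        rw [Multiset.count_erase_of_ne hja]
        exact hcnt j hj hj0)
    refine ⟨(1 : F) ^ a * (antiG a F).det * δ',
      mul_ne_zero (mul_ne_zero (pow_ne_zero _ one_ne_zero) (antiG_det_ne_zero a hodd)) hδ', ?_, ?_⟩
    · rw [hM]
      exact realD_add (realD_single h2 a hodd 1) hreal'
    · intro hall
      exact absurd (hall a ha) (Nat.not_even_iff_odd.2 hodd)

/-- every admissible multiset of even sum `2d` is the Jordan type of a unipotent isometry of a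
symmetric Gram matrix whose determinant is `(-1)^d` up to a square -/
theorem exists_realD_sq (h2 : (2 : F) ≠ 0) (M : Multiset ℕ) (hpos : ∀ a ∈ M, 0 < a)
    (hcnt : ∀ j, Even j → 0 < j → Even (M.count j)) (d : ℕ) (hsum : M.sum = 2 * d) :
    ∃ δ : F, δ ≠ 0 ∧ RealD F M δ ∧ IsSquare (δ * (-1) ^ d) := by
  by_cases hall : ∀ a ∈ M, Even a
  · obtain ⟨δ, hδ, hreal, hev⟩ := realD_of_counts_aux h2 _ M rfl hpos hcnt
    refine ⟨δ, hδ, hreal, ?_⟩
    rw [hev hall, hsum, Nat.mul_div_cancel_left d (by norm_num)]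
    exact ⟨(-1) ^ d, rfl⟩
  · push Not at hall
    obtain ⟨e, he, hodd'⟩ := hall
    have hodd : Odd e := Nat.not_even_iff_odd.1 hodd'
    have hM : M = {e} + M.erase e := by
      rw [Multiset.singleton_add, Multiset.cons_erase he]
    obtain ⟨δ', hδ', hreal', -⟩ := realD_of_counts_aux h2 _ (M.erase e) rfl
      (fun b hb => hpos b (Multiset.mem_of_mem_erase hb))
      (by
        intro j hj hj0
        have hja : j ≠ e := by
          rintro rfl
          exact hodd' hj
        rw [Multiset.count_erase_of_ne hja]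
        exact hcnt j hj hj0)
    set c : F := (antiG e F).det * δ' * (-1) ^ d with hc
    have hc0 : c ≠ 0 :=
      mul_ne_zero (mul_ne_zero (antiG_det_ne_zero e hodd) hδ')
        (pow_ne_zero _ (neg_ne_zero.2 one_ne_zero))
    refine ⟨c ^ e * (antiG e F).det * δ',
      mul_ne_zero (mul_ne_zero (pow_ne_zero _ hc0) (antiG_det_ne_zero e hodd)) hδ', ?_, ?_⟩
    · rw [hM]
      exact realD_add (realD_single h2 e hodd c) hreal'
    · obtain ⟨t, ht⟩ := hodd
      refine ⟨c ^ (t + 1), ?_⟩
      have : c ^ e * (antiG e F).det * δ' * (-1) ^ d = c ^ e * c := by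
        rw [hc]; ring
      rw [this, ht, ← pow_succ, ← pow_add]
      congr 1
      omega

end final

end Cfsg.Agent.Lib.Helper43_OrthDisc
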