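import Mathlib
import Cfsg.Agent.Lib.Helper99_SpDerange
import Cfsg.Agent.Lib.Helper99_SpElt
import Cfsg.Agent.Lib.Helper78_KerAevalDim

set_option autoImplicit false

/-!
# Package PD2 of S5976 (helper13): derangements of odd prime order `r`, `ord_r(q)` odd

For `e = ord_r(q)` odd, `e ≤ d`, there is `A ∈ Sp_{2d}(q)` of order `r` (characteristic polynomial
`w · w* · (X - 1)^(2d-2e)`, `w` an irreducible factor of degree `e` of the `r`-th cyclotomic
polynomial) commuting with no matrix `θ` such that `θ² = Δ`, `Δ` a non-square: the kernel of `w(A)`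
would be a `θ`-invariant subspace of odd dimension `e`.
-/

namespace Cfsg.Agent.Lib.Helper7_GUSp_PD2

open Polynomial Matrix Module
open Cfsg.Agent.Lib.Helper40_Palindromic Cfsg.Agent.Lib.Helper40_SpPrimeOrder
  Cfsg.Agent.Lib.Helper40_PolyFactors Cfsg.Agent.Lib.Helper40_PrimeOrderClasses
  Cfsg.Agent.Lib.Helper40_SpExistMatrix Cfsg.Agent.Lib.Helper40_SpMatrix
  Cfsg.Agent.Lib.Helper99_Singer Cfsg.Agent.Lib.Helper99_PrimeGraphL Cfsg.Agent.Lib.Helper40_SpExist
  Cfsg.Agent.Lib.Helper99_SpDerange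

/-- An endomorphism whose square is the scalar `Δ` and which leaves invariant a subspace of odd
dimension: `Δ` is a square. -/
theorem isSquare_of_odd_invariant {F V : Type*} [Field F] [AddCommGroup V] [Module F V]
    [FiniteDimensional F V] (W : Submodule F V) (Θ : Module.End F V) (hW : ∀ x ∈ W, Θ x ∈ W)
    (Δ : F) (hΘ : Θ * Θ = Δ • (1 : Module.End F V)) (hodd : Odd (finrank F W)) : IsSquare Δ := by
  by_cases hΔ0 : Δ = 0
  · exact ⟨0, by rw [hΔ0, mul_zero]⟩
  set ψ : Module.End F W := Θ.restrict hW with hψ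
  have hψψ : ψ * ψ = Δ • (1 : Module.End F W) := by
    apply LinearMap.ext
    intro x
    apply Subtype.ext
    have h1 := congrArg (fun f : Module.End F V => f (x : V)) hΘ
    simp only [Module.End.mul_apply, LinearMap.smul_apply, Module.End.one_apply] at h1
    simp only [Module.End.mul_apply, LinearMap.smul_apply, Module.End.one_apply,
      Submodule.coe_smul]
    rw [hψ, LinearMap.coe_restrict_apply, LinearMap.coe_restrict_apply]
    exact h1
  have hdet : LinearMap.det ψ * LinearMap.det ψ = Δ ^ finrank F W := by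
    rw [← map_mul, hψψ, LinearMap.det_smul, map_one, mul_one]
  obtain ⟨m, hm⟩ := hodd
  rw [hm, pow_succ, pow_mul, pow_two] at hdet
  have hm0 : Δ ^ m ≠ 0 := pow_ne_zero m hΔ0
  refine ⟨LinearMap.det ψ / Δ ^ m, ?_⟩
  rw [div_mul_div_comm, hdet, eq_div_iff (mul_ne_zero hm0 hm0)]
  ring

/-- Polynomials in `T` commute with everything commuting with `T`. -/
theorem aeval_comm {F V : Type*} [Field F] [AddCommGroup V] [Module F V]
    (T S : Module.End F V) (h : T * S = S * T) (f : F[X]) :
    aeval T f * S = S * aeval T f := by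
  induction f using Polynomial.induction_on' with
  | add p q hp hq => rw [map_add, add_mul, mul_add, hp, hq]
  | monomial n c =>
    rw [aeval_monomial]
    have h1 : Commute (T ^ n) S := (show Commute T S from h).pow_left n
    have h2 : Commute (algebraMap F (Module.End F V) c) S := Algebra.commutes c S
    exact (h2.mul_left h1).eq

/-- **Package PD2.** -/
theorem PD2 {F : Type*} [Field F] [Fintype F] (p : ℕ) [Fact p.Prime] [CharP F p] (d : ℕ)
    (r : ℕ) (hr : r.Prime) (hr2 : r ≠ 2) (hrp : r ≠ p)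
    (he : Odd (orderOf ((Fintype.card F : ℕ) : ZMod r)))
    (hed : orderOf ((Fintype.card F : ℕ) : ZMod r) ≤ d)
    (Δ : F) (hΔ : ¬ IsSquare Δ) :
    ∃ A : Matrix (Fin d ⊕ Fin d) (Fin d ⊕ Fin d) F, A ∈ symplecticGroup (Fin d) F ∧ A ^ r = 1 ∧
      ∀ θ : Matrix (Fin d ⊕ Fin d) (Fin d ⊕ Fin d) F,
        θ * θ = Δ • (1 : Matrix (Fin d ⊕ Fin d) (Fin d ⊕ Fin d) F) → A * θ ≠ θ * A := by
  classical
  have hrF : Fact r.Prime := ⟨hr⟩
  have hrodd : Odd r := hr.odd_of_ne_two hr2
  have hrq : ¬ r ∣ Fintype.card F := not_dvd_card p hr hrp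
  set e := orderOf ((Fintype.card F : ℕ) : ZMod r) with hedef
  obtain ⟨hepos, Ws, hWcard, hWs, -⟩ := exists_cyclotomic_factors (F := F) p r hr hrp
  have hq0 : ((Fintype.card F : ℕ) : ZMod r) ≠ 0 := by
    rwa [Ne, ZMod.natCast_eq_zero_iff]
  have hedvd : e ∣ r - 1 := ZMod.orderOf_dvd_card_sub_one hq0
  have hWne : Ws.Nonempty := by
    rw [← Finset.card_pos, hWcard]
    exact Nat.div_pos (Nat.le_of_dvd (by have := hr.two_le; omega) hedvd) hepos
  obtain ⟨w, hw⟩ := hWne
  obtain ⟨hwm, hwi, hw1, hwd, hwdeg⟩ := hWs w hw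
  have hw0 : w.coeff 0 ≠ 0 := coeff_zero_ne_zero_of_dvd r hr.pos w hwd
  have hne : recip w ≠ w :=
    recip_ne_of_odd r hrodd w hwm hwi hw0 hw1 hwd (by rw [hwdeg]; exact he)
  have hrm : (recip w).Monic := recip_monic w hw0
  have hri : Irreducible (recip w) := irreducible_recip w hwi hw0
  have hrd : recip w ∣ X ^ r - 1 := by
    have := recip_dvd hwd
    rwa [recip_X_pow_sub_one r hr.pos] at this
  have hcop : IsCoprime w (recip w) :=
    isCoprime_of_monic_irreducible_ne hwi hwm hri hrm (Ne.symm hne)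
  have hr1 : recip w ≠ X - 1 := by
    intro h
    apply hw1
    have h2 := congrArg recip h
    rwa [recip_recip w hwm hw0, recip_X_sub_one] at h2
  have hX1 : ((X : F[X]) - 1) = X - C 1 := by rw [map_one]
  have hX1m : ((X : F[X]) - 1).Monic := X_sub_one_props.1
  have hX1i : Irreducible ((X : F[X]) - 1) := X_sub_one_props.2
  have hcopw1 : IsCoprime w ((X : F[X]) - 1) :=
    isCoprime_of_monic_irreducible_ne hwi hwm hX1i hX1m hw1
  have hcopr1 : IsCoprime (recip w) ((X : F[X]) - 1) :=
    isCoprime_of_monic_irreducible_ne hri hrm hX1i hX1m hr1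
  set k := 2 * d - 2 * e with hk
  have hkev : Even k := ⟨d - e, by omega⟩
  set g : F[X] := recip w * (X - 1) ^ k with hg
  have hgm : g.Monic := hrm.mul (hX1m.pow k)
  have hcopg : IsCoprime w g := hcop.mul_right (hcopw1.pow_right)
  set c : F[X] := w * g with hc
  have hcm : c.Monic := hwm.mul hgm
  have hcdeg : c.natDegree = 2 * d := by
    rw [hc, hwm.natDegree_mul hgm, hg, hrm.natDegree_mul (hX1m.pow k), hX1m.natDegree_pow,
      natDegree_X_sub_one, recip_natDegree w hw0, hwdeg]
    omega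
  have hcrev : c.reverse = c := by
    have h1 : c = (w * recip w) * (X - 1) ^ k := by rw [hc, hg, mul_assoc]
    rw [h1, reverse_mul_of_domain, reverse_mul_recip w hwm hw0, reverse_X_sub_one_pow k hkev]
  obtain ⟨A, hA, hAc, hAk⟩ := exists_sp_matrix d c hcm hcdeg hcrev
  -- `A` is killed by `w * recip w * (X - 1)`
  have hAw : aeval A (w * (recip w * (X - 1))) = 0 := by
    apply hAk
    intro f hf hfc
    rw [hc, hg] at hfc
    rcases hf.prime.dvd_or_dvd hfc with h | h
    · exact h.trans (dvd_mul_right _ _)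
    · rcases hf.prime.dvd_or_dvd h with h' | h'
      · exact (h'.trans (dvd_mul_right _ _)).trans (dvd_mul_left _ _)
      · exact ((hf.prime.dvd_of_dvd_pow h').trans (dvd_mul_left _ _)).trans (dvd_mul_left _ _)
  have hdvdr : w * (recip w * (X - 1)) ∣ (X : F[X]) ^ r - 1 :=
    (hcop.mul_right hcopw1).mul_dvd hwd (hcopr1.mul_dvd hrd (X_sub_one_dvd r hr))
  have hAr : A ^ r = 1 := by
    obtain ⟨f, hf⟩ := hdvdr
    have h1 : aeval A ((X : F[X]) ^ r - 1) = 0 := by rw [hf, map_mul, hAw, zero_mul]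
    rw [map_sub, map_pow, aeval_X, map_one] at h1
    exact sub_eq_zero.1 h1
  refine ⟨A, hA, hAr, ?_⟩
  intro θ hθ hcomm
  apply hΔ
  set T : Module.End F (Fin d ⊕ Fin d → F) := Matrix.toLin' A with hTdef
  set Θ : Module.End F (Fin d ⊕ Fin d → F) := Matrix.toLin' θ with hΘdef
  have hTΘ : T * Θ = Θ * T := by
    rw [hTdef, hΘdef, Module.End.mul_eq_comp, Module.End.mul_eq_comp, ← Matrix.toLin'_mul,
      ← Matrix.toLin'_mul, hcomm]
  have hΘΘ : Θ * Θ = Δ • (1 : Module.End F (Fin d ⊕ Fin d → F)) := by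
    rw [hΘdef, Module.End.mul_eq_comp, ← Matrix.toLin'_mul, hθ, map_smul, Matrix.toLin'_one]
    rfl
  have hT : T ^ r = 1 := by
    rw [hTdef, ← Matrix.toLin'_pow, hAr, Matrix.toLin'_one]
    rfl
  have hrne : ((r : ℕ) : F) ≠ 0 := by
    rw [Ne, CharP.cast_eq_zero_iff F p]
    intro h
    exact hrp ((Nat.prime_dvd_prime_iff_eq Fact.out hr).1 h).symm
  have hss : T.IsSemisimple := isSemisimple_of_pow_eq_one A r hrne hAr
  have hchar : T.charpoly = w ^ 1 * g := by
    rw [hTdef, Matrix.charpoly_toLin', hAc, hc, pow_one]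
  have hle : finrank F (LinearMap.ker (aeval T w)) ≤ e := by
    have := Cfsg.Agent.Lib.Helper78_KerAevalDim.finrank_ker_aeval_le T hss w g hwi 1 hcopg hchar
    rwa [hwdeg, mul_one] at this
  set W : Submodule F (Fin d ⊕ Fin d → F) := LinearMap.ker (aeval T w) with hWdef
  -- `W` is invariant under everything commuting with `T`
  have hcommw : ∀ S : Module.End F (Fin d ⊕ Fin d → F), T * S = S * T →
      ∀ x ∈ W, S x ∈ W := by
    intro S hS x hx
    rw [hWdef, LinearMap.mem_ker] at hx ⊢
    have h1 : aeval T w * S = S * aeval T w := aeval_comm T S hS w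
    have h3 : aeval T w (S x) = S (aeval T w x) := by
      have := congrArg (fun f : Module.End F (Fin d ⊕ Fin d → F) => f x) h1
      simpa only [Module.End.mul_apply] using this
    rw [h3, hx, map_zero]
  have hWT : ∀ x ∈ W, T x ∈ W := hcommw T rfl
  have hWΘ : ∀ x ∈ W, Θ x ∈ W := hcommw Θ hTΘ
  -- `W` meets the fixed space trivially
  have hT1 : aeval T (X - 1 : F[X]) = T - 1 := by
    rw [map_sub, aeval_X, map_one]
  have hWfix : W ⊓ fixSpace T = ⊥ := by
    rw [eq_bot_iff]
    intro v hv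
    rw [Submodule.mem_inf] at hv
    obtain ⟨a, b, hab⟩ := hcopw1
    have h1 : aeval T (a * w + b * (X - 1)) v = v := by
      rw [hab, map_one, Module.End.one_apply]
    have hv1 : aeval T w v = 0 := hv.1
    have hv2 : aeval T (X - 1 : F[X]) v = 0 := by
      rw [hT1]
      exact hv.2
    rw [map_add, map_mul, map_mul, LinearMap.add_apply, Module.End.mul_apply,
      Module.End.mul_apply, hv1, hv2, map_zero, map_zero, add_zero] at h1
    rw [Submodule.mem_bot]
    exact h1.symm
  have hdvd : e ∣ finrank F W := by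
    have h1 := orderOf_dvd_finrank_sub T hr hrq hT W hWT
    rwa [hWfix, finrank_bot, Nat.sub_zero] at h1
  have hWne : W ≠ ⊥ := by
    obtain ⟨v, hv0, hv⟩ := Cfsg.Agent.Lib.Helper40_Semisimple.exists_ne_zero_aeval_eq_zero T w hwi
      (by rw [hchar, pow_one]; exact dvd_mul_right _ _)
    intro hbot
    apply hv0
    have : v ∈ W := hv
    rwa [hbot, Submodule.mem_bot] at this
  have hfin : finrank F W = e := by
    obtain ⟨j, hj⟩ := hdvd
    have hj0 : j ≠ 0 := by
      rintro rfl
      rw [mul_zero] at hj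
      exact hWne (Submodule.finrank_eq_zero.1 hj)
    have hj1 : j = 1 := by
      rcases Nat.lt_or_ge j 2 with h | h
      · omega
      · exfalso
        have : e * 2 ≤ e * j := Nat.mul_le_mul_left e h
        omega
    rw [hj, hj1, mul_one]
  exact isSquare_of_odd_invariant W Θ hWΘ Δ hΘΘ (by rw [hfin]; exact he)

end Cfsg.Agent.Lib.Helper7_GUSp_PD2
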