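import Cfsg.Agent.Lib.Helper43_OrthGen
import Cfsg.Agent.Lib.Helper7_GUSp_PD2

set_option autoImplicit false

/-!
# S5977 / S5978: the unipotent derangement (helper43)

In `Ω(Q)` (`Q` nondegenerate on `κ → F`, `|κ| ≥ 3`, `F` finite of odd characteristic `p`) there is
an element of order dividing `p` with Jordan type `(3, 1, …, 1)`; the square of `x - 1` has rank
one, so `x` commutes with no matrix `θ` whose square is a non-square scalar.
-/

namespace Cfsg.Agent.Lib.Helper43_OrthExtDp

open Module Matrix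
open Cfsg.Agent.Lib.Helper43_Jordan Cfsg.Agent.Lib.Helper43_OrthGen

universe u

variable {F : Type u} [Field F] {κ : Type} [Fintype κ] [DecidableEq κ]

theorem Dp [Fintype F] (p : ℕ) [Fact p.Prime] [CharP F p] (hp : Odd p)
    (Q : QuadraticForm F (κ → F)) (hQ : (QuadraticMap.polarBilin Q).Nondegenerate)
    (hcard : 3 ≤ Fintype.card κ) (Δ : F) (hΔ : ¬ IsSquare Δ) :
    ∃ x : Matrix.GeneralLinearGroup κ F, x ∈ Cfsg.Geo.omegaGL (⇑Q) ∧ x ^ p = 1 ∧
      ∀ θ : Matrix κ κ F, θ * θ = Δ • (1 : Matrix κ κ F) →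
        (x : Matrix κ κ F) * θ ≠ θ * (x : Matrix κ κ F) := by
  classical
  have hpp : p.Prime := Fact.out
  have hp3 : 3 ≤ p := by
    rcases hp with ⟨k, hk⟩
    have := hpp.two_le
    omega
  set n := Fintype.card κ with hn
  set M : Multiset ℕ := {3} + Multiset.replicate (n - 3) 1 with hM
  have hmem : ∀ a ∈ M, a = 3 ∨ a = 1 := by
    intro a ha
    rw [hM, Multiset.mem_add, Multiset.mem_singleton] at ha
    rcases ha with h | h
    · exact Or.inl h
    · exact Or.inr (Multiset.eq_of_mem_replicate h)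
  obtain ⟨x, hxΩ, hxp, -, hnil, hjt⟩ := exists_unipotent_omega_of_form p hp Q hQ M
    (by
      intro a ha
      rcases hmem a ha with rfl | rfl <;> omega)
    (by
      intro e he
      have : M.count e = 0 := by
        rw [Multiset.count_eq_zero]
        intro hmem'
        rcases hmem e hmem' with rfl | rfl
        · exact absurd he (by decide)
        · exact absurd he (by decide)
      rw [this]
      exact Even.zero)
    (by
      rw [hM, Multiset.sum_add, Multiset.sum_singleton, Multiset.sum_replicate, smul_eq_mul,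
        mul_one]
      omega)
    (by
      intro hall
      exfalso
      have h3 : (3 : ℕ) ∈ M := by
        rw [hM, Multiset.mem_add, Multiset.mem_singleton]
        exact Or.inl rfl
      exact absurd (hall 3 h3) (by decide))
  refine ⟨x, hxΩ, hxp, ?_⟩
  intro θ hθ hcomm
  apply hΔ
  set N : Module.End F (κ → F) := Matrix.toLin' ((x : Matrix κ κ F) - 1) with hN
  set Θ : Module.End F (κ → F) := Matrix.toLin' θ with hΘ
  have hNnil : IsNilpotent N := by
    obtain ⟨k, hk⟩ := hnil
    refine ⟨k, ?_⟩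
    rw [hN, ← Matrix.toLin'_pow, hk, map_zero]
  obtain ⟨ι, hι, d, b, hd, hb, hj⟩ := jtype_spec N hNnil
  have hrank : finrank F (LinearMap.range (N ^ 2)) = 1 := by
    rw [hb.finrank_range_pow 2]
    have h1 : ∑ i, (d i - 2) = (Multiset.map (fun a => a - 2) (Multiset.map d Finset.univ.val)).sum := by
      rw [Multiset.map_map]
      rfl
    rw [h1, ← hj, hjt, hM, Multiset.map_add, Multiset.map_singleton, Multiset.map_replicate,
      Multiset.sum_add, Multiset.sum_singleton, Multiset.sum_replicate]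
    simp
  have hNΘ : N * Θ = Θ * N := by
    rw [hN, hΘ, Module.End.mul_eq_comp, Module.End.mul_eq_comp, ← Matrix.toLin'_mul,
      ← Matrix.toLin'_mul, Matrix.sub_mul, Matrix.mul_sub, hcomm, one_mul, mul_one]
  have hN2Θ : N ^ 2 * Θ = Θ * N ^ 2 := by
    rw [pow_two, mul_assoc, hNΘ, ← mul_assoc, hNΘ, mul_assoc]
  have hΘΘ : Θ * Θ = Δ • (1 : Module.End F (κ → F)) := by
    rw [hΘ, Module.End.mul_eq_comp, ← Matrix.toLin'_mul, hθ, map_smul, Matrix.toLin'_one]
    rfl
  apply Cfsg.Agent.Lib.Helper7_GUSp_PD2.isSquare_of_odd_invariant (LinearMap.range (N ^ 2)) Θ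
    ?_ Δ hΘΘ (by rw [hrank]; exact odd_one)
  rintro _ ⟨y, rfl⟩
  refine ⟨Θ y, ?_⟩
  rw [← Module.End.mul_apply, hN2Θ, Module.End.mul_apply]

end Cfsg.Agent.Lib.Helper43_OrthExtDp
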