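import Mathlib
import Cfsg.Prelude.Def_GeometricClasses
import Cfsg.Agent.Lib.Helper94_OrthUniBridge
import Cfsg.Agent.Lib.Helper43_OrthExtDefs

/-!
# The field `K = F[θ]`, `θ` self-adjoint, over a general index (helper43, for S5977 / S5978)

Port of `Helper13_GUSpK` (helper13) to an arbitrary index type, with the self-adjoint variant of
`exists_theta`: `K = F ⊕ Fθ` with `θ² = Δ` a non-square, `θ` self-adjoint for the polar form; the
normaliser of `K` is `{g : gθ = ±θg}`; elements with an odd power scalar commute with `θ`.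
-/

set_option autoImplicit false

namespace Cfsg.Agent.Lib.Helper43_OrthExtK

open Matrix Cfsg.Agent.Lib.Helper94_OrthUniBridge Cfsg.Agent.Lib.Helper43_OrthExtDefs

variable {F : Type*} [Field F] {ι : Type} [Fintype ι] [DecidableEq ι]

section gen

variable (K : Subalgebra F (Matrix ι ι F)) (hK : Cfsg.Geo.IsFieldSubalgebra 2 K)

include hK in
/-- a generator `θ` of `K` with non-square scalar square; it is self-adjoint when `K` is -/
theorem exists_theta_sa (h2 : (2 : F) ≠ 0) [Nonempty ι] (Q : (ι → F) → F)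
    (hsa : Cfsg.Geo.IsSelfAdjointFor (QuadraticMap.polar Q) K) :
    ∃ (θ : Matrix ι ι F) (Δ : F), θ ∈ K ∧ ¬ IsSquare Δ ∧
      θ * θ = Δ • (1 : Matrix ι ι F) ∧
      (∀ k ∈ K, ∃ a b : F, k = a • (1 : Matrix ι ι F) + b • θ) ∧ IsSA Q θ := by
  obtain ⟨T, hTK, hTns, hgen⟩ := exists_gen K hK
  obtain ⟨a₀, b₀, hTT⟩ := hgen (T * T) (K.mul_mem hTK hTK)
  set θ : Matrix ι ι F := (2 : F) • T - b₀ • (1 : Matrix ι ι F) with hθdef
  have hθK : θ ∈ K := K.sub_mem (K.smul_mem hTK _) (K.smul_mem K.one_mem _)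
  have hθθ : θ * θ = (4 * a₀ + b₀ * b₀) • (1 : Matrix ι ι F) := by
    rw [hθdef]
    simp only [sub_mul, mul_sub, smul_mul_assoc, mul_smul_comm, mul_one, one_mul, hTT]
    module
  have hT : T = (2 : F)⁻¹ • θ + ((2 : F)⁻¹ * b₀) • (1 : Matrix ι ι F) := by
    rw [hθdef, smul_sub, smul_smul, smul_smul, inv_mul_cancel₀ h2, one_smul]
    abel
  have hθns : ∀ c : F, θ ≠ c • (1 : Matrix ι ι F) := by
    intro c hc
    apply hTns ((2 : F)⁻¹ * c + (2 : F)⁻¹ * b₀)
    rw [hT, hc, smul_smul, ← add_smul]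
  refine ⟨θ, 4 * a₀ + b₀ * b₀, hθK, ?_, hθθ, ?_, ?_⟩
  · rintro ⟨s, hs⟩
    have h1 : (θ - s • (1 : Matrix ι ι F)) * (θ + s • (1 : Matrix ι ι F)) = 0 := by
      simp only [sub_mul, mul_add, smul_mul_assoc, mul_smul_comm, mul_one, one_mul, hθθ, hs]
      module
    have hmem : θ - s • (1 : Matrix ι ι F) ∈ K := K.sub_mem hθK (K.smul_mem K.one_mem _)
    by_cases h0 : θ - s • (1 : Matrix ι ι F) = 0
    · exact hθns s (sub_eq_zero.1 h0)
    · have h3 := eq_zero_of_mul K hK hmem h0 h1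
      apply hθns (-s)
      rw [neg_smul]
      exact eq_neg_of_add_eq_zero_left h3
  · intro k hk
    obtain ⟨a, b, rfl⟩ := hgen k hk
    refine ⟨a + b * ((2 : F)⁻¹ * b₀), b * (2 : F)⁻¹, ?_⟩
    nth_rewrite 1 [hT]
    rw [smul_add, smul_smul, smul_smul, add_smul]
    abel
  · intro u v
    exact hsa θ hθK u v

end gen

section normalizer

variable (K : Subalgebra F (Matrix ι ι F))
  (hK : Cfsg.Geo.IsFieldSubalgebra 2 K)
  {θ : Matrix ι ι F} {Δ : F}

theorem theta_ns [Nonempty ι] (hΔ : ¬ IsSquare Δ)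
    (hθ : θ * θ = Δ • (1 : Matrix ι ι F)) (c : F) :
    θ ≠ c • (1 : Matrix ι ι F) := by
  intro h
  apply hΔ
  refine ⟨c, ?_⟩
  rw [h, smul_mul_assoc, one_mul, smul_smul] at hθ
  have := congrFun (congrFun hθ (Classical.arbitrary ι)) (Classical.arbitrary ι)
  simpa using this.symm

include hK in
theorem mem_normalizer_of_comm [Nonempty ι] (hΔ : ¬ IsSquare Δ) (hθK : θ ∈ K)
    (hθ : θ * θ = Δ • (1 : Matrix ι ι F))
    (hgen : ∀ k ∈ K, ∃ a b : F, k = a • (1 : Matrix ι ι F) + b • θ)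
    (g : GL ι F)
    (hg : (g : Matrix ι ι F) * θ =
        θ * (g : Matrix ι ι F) ∨
      (g : Matrix ι ι F) * θ =
        -(θ * (g : Matrix ι ι F))) :
    g ∈ Cfsg.Geo.subalgebraNormalizer K := by
  rw [mem_normalizer_iff K hK hθK (theta_ns hΔ hθ) hgen]
  rcases hg with h | h
  · exact ⟨0, 1, by rw [h, zero_smul, zero_add, one_smul]⟩
  · exact ⟨0, -1, by rw [h, zero_smul, zero_add, neg_smul, one_smul, neg_mul]⟩

include hK in
/-- an element of the normaliser commutes or anticommutes with `θ` -/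
theorem comm_or_anticomm (h2 : (2 : F) ≠ 0) [Nonempty ι] (hΔ : ¬ IsSquare Δ) (hθK : θ ∈ K)
    (hθ : θ * θ = Δ • (1 : Matrix ι ι F))
    (hgen : ∀ k ∈ K, ∃ a b : F, k = a • (1 : Matrix ι ι F) + b • θ)
    (g : GL ι F) (hg : g ∈ Cfsg.Geo.subalgebraNormalizer K) :
    (g : Matrix ι ι F) * θ =
        θ * (g : Matrix ι ι F) ∨
      (g : Matrix ι ι F) * θ =
        -(θ * (g : Matrix ι ι F)) := by
  have hns := theta_ns hΔ hθ
  obtain ⟨a, b, hab⟩ := (mem_normalizer_iff K hK hθK hns hgen g).1 hg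
  set M : Matrix ι ι F := (g : Matrix ι ι F)
    with hM
  set Mi : Matrix ι ι F :=
    ((g⁻¹ : GL ι F) : Matrix ι ι F) with hMi
  have hMMi : M * Mi = 1 := by rw [hM, hMi]; exact Units.mul_inv g
  -- squaring the relation
  have h1 : M * (θ * θ) = (a • (1 : Matrix ι ι F) + b • θ) *
      (a • (1 : Matrix ι ι F) + b • θ) * M := by
    rw [← mul_assoc, hab, mul_assoc, hab, ← mul_assoc]
  have h3 : (a • (1 : Matrix ι ι F) + b • θ) *
      (a • (1 : Matrix ι ι F) + b • θ) =
      (a * a + b * b * Δ) • (1 : Matrix ι ι F) + (2 * a * b) • θ := by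
    simp only [add_mul, mul_add, smul_mul_assoc, mul_smul_comm, mul_one, one_mul, hθ]
    module
  have h4 : (a * a + b * b * Δ - Δ) • (1 : Matrix ι ι F) +
      (2 * a * b) • θ = 0 := by
    have h5 : Δ • (1 : Matrix ι ι F) =
        (a * a + b * b * Δ) • (1 : Matrix ι ι F) + (2 * a * b) • θ := by
      have h6 : M * (θ * θ) * Mi = (a • (1 : Matrix ι ι F) + b • θ) *
          (a • (1 : Matrix ι ι F) + b • θ) * M * Mi := by rw [h1]
      rw [hθ, mul_smul_comm, mul_one, smul_mul_assoc, hMMi, mul_assoc, hMMi, mul_one, h3] at h6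
      exact h6
    rw [sub_smul, h5]
    abel
  obtain ⟨h7, h8⟩ := indep_one hns h4
  have hΔ0 : Δ ≠ 0 := by
    rintro rfl
    exact hΔ ⟨0, by simp⟩
  have hb0 : b ≠ 0 := by
    rintro rfl
    apply hΔ
    exact ⟨a, by linear_combination -h7⟩
  have ha0 : a = 0 := by
    rcases mul_eq_zero.1 h8 with h | h
    · rcases mul_eq_zero.1 h with h | h
      · exact absurd h h2
      · exact h
    · exact absurd h hb0
  subst ha0
  have hbb : (b - 1) * (b + 1) = 0 := by
    have : (b * b - 1) * Δ = 0 := by linear_combination h7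
    rcases mul_eq_zero.1 this with h | h
    · linear_combination h
    · exact absurd h hΔ0
  rcases mul_eq_zero.1 hbb with h | h
  · left
    have hb1 : b = 1 := by linear_combination h
    rw [hab, hb1, zero_smul, zero_add, one_smul]
  · right
    have hb1 : b = -1 := by linear_combination h
    rw [hab, hb1, zero_smul, zero_add, neg_smul, one_smul, neg_mul]

include hK in
/-- an element of the normaliser with an odd power scalar commutes with `θ` -/
theorem comm_of_odd_pow (h2 : (2 : F) ≠ 0) [Nonempty ι] (hΔ : ¬ IsSquare Δ) (hθK : θ ∈ K)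
    (hθ : θ * θ = Δ • (1 : Matrix ι ι F))
    (hgen : ∀ k ∈ K, ∃ a b : F, k = a • (1 : Matrix ι ι F) + b • θ)
    (g : GL ι F) (hg : g ∈ Cfsg.Geo.subalgebraNormalizer K) (r : ℕ) (hr : Odd r)
    (z : F) (hz : (g : Matrix ι ι F) ^ r =
      z • (1 : Matrix ι ι F)) :
    (g : Matrix ι ι F) * θ =
      θ * (g : Matrix ι ι F) := by
  rcases comm_or_anticomm K hK h2 hΔ hθK hθ hgen g hg with h | h
  · exact h
  · exfalso
    set M : Matrix ι ι F :=
      (g : Matrix ι ι F) with hM
    have hpow : ∀ n : ℕ, M ^ n * θ = (-1 : F) ^ n • (θ * M ^ n) := by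
      intro n
      induction n with
      | zero => simp
      | succ n ih =>
        rw [pow_succ, mul_assoc, h, mul_neg, ← mul_assoc, ih, smul_mul_assoc, mul_assoc, pow_succ,
          mul_neg_one, neg_smul]
    have h1 := hpow r
    rw [hz, hr.neg_one_pow, smul_mul_assoc, one_mul, mul_smul_comm, mul_one, neg_one_smul] at h1
    have hz0 : z ≠ 0 := by
      rintro rfl
      rw [zero_smul] at hz
      have hu : IsUnit (M ^ r) := (Units.isUnit g).pow r
      rw [hz] at hu
      have hne : Nontrivial (Matrix ι ι F) := by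
        infer_instance
      exact not_isUnit_zero hu
    have h3 : (2 * z) • θ = 0 := by
      rw [mul_smul, two_smul]
      nth_rewrite 1 [h1]
      exact neg_add_cancel _
    have h4 : θ = 0 := by
      rcases smul_eq_zero.1 h3 with h | h
      · exact absurd h (mul_ne_zero h2 hz0)
      · exact h
    apply theta_ns hΔ hθ 0
    rw [h4, zero_smul]

end normalizer


end Cfsg.Agent.Lib.Helper43_OrthExtK
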