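import Mathlib
import Cfsg.Prelude.Def_GeometricClasses
import Cfsg.Agent.Lib.Helper40_QuadIso
import Cfsg.Agent.Lib.Helper40_QuadStd
import Cfsg.Agent.Lib.Helper40_OOdd
import Cfsg.Agent.Lib.Helper44_StdForms
import Cfsg.Agent.Lib.Helper61_IsometryTransfer
import Cfsg.Agent.S0286
import Cfsg.Agent.S0287
import Cfsg.Agent.S0288

set_option autoImplicit false

/-!
Package C3b of S5977/S5978 (helper43), by helper82: the order of the isometry group of an arbitrary
nondegenerate quadratic form over a finite field of odd characteristic, from the classification of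
quadratic spaces (`Helper40_QuadStd.iso_plus_or_minus`, `Helper40_OOdd.exists_simil_qfOdd`) and the
orders of the standard groups (S0286, S0287, S0288).
-/

namespace Cfsg.Agent.Lib.Helper82_OrthExt_C3b

open Matrix Module Cfsg.Agent.Lib.Helper40_QuadIso Cfsg.Agent.Lib.Helper44_StdForms

section transfer

variable {K : Type*} [Field K] {κ κ' : Type} [Fintype κ] [DecidableEq κ] [Fintype κ']
  [DecidableEq κ']

/-- conjugation by a linear equivalence, as an isomorphism of general linear groups -/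
noncomputable def glConj (φ : (κ → K) ≃ₗ[K] (κ' → K)) : GL κ K ≃* GL κ' K :=
  (Matrix.GeneralLinearGroup.toLin (n := κ) (R := K)).trans
    ((Units.mapEquiv (φ.conjRingEquiv).toMulEquiv).trans
      (Matrix.GeneralLinearGroup.toLin (n := κ') (R := K)).symm)

theorem glConj_mulVec (φ : (κ → K) ≃ₗ[K] (κ' → K)) (g : GL κ K) (w : κ' → K) :
    ((glConj φ g : GL κ' K) : Matrix κ' κ' K) *ᵥ w =
      φ (((g : GL κ K) : Matrix κ κ K) *ᵥ φ.symm w) := by
  have h1 : Matrix.GeneralLinearGroup.toLin (n := κ') (R := K) (glConj φ g) =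
      Units.mapEquiv (φ.conjRingEquiv).toMulEquiv
        (Matrix.GeneralLinearGroup.toLin (n := κ) (R := K) g) := by
    simp [glConj]
  have h2 := congrArg (fun u : LinearMap.GeneralLinearGroup K (κ' → K) =>
    (u : (κ' → K) →ₗ[K] (κ' → K)) w) h1
  simpa [Matrix.GeneralLinearGroup.toLin, LinearEquiv.conjRingEquiv, LinearEquiv.conj_apply]
    using h2

/-- similar forms have isomorphic isometry groups: cardinalities -/
theorem card_isometryGroup_of_simil (Q : (κ → K) → K) (Q' : (κ' → K) → K)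
    (φ : (κ → K) ≃ₗ[K] (κ' → K)) (μ : K) (hμ : μ ≠ 0) (hφ : ∀ v, Q v = μ * Q' (φ v)) :
    Nat.card ↥(Cfsg.isometryGroup K Q) = Nat.card ↥(Cfsg.isometryGroup K Q') := by
  refine Nat.card_congr (Cfsg.Agent.Lib.Helper61_IsometryTransfer.subEquiv (glConj φ) _ _
    (fun g => ?_)).toEquiv
  rw [Cfsg.Agent.Lib.Helper61_IsometryTransfer.mem_isometryGroup_iff,
    Cfsg.Agent.Lib.Helper61_IsometryTransfer.mem_isometryGroup_iff]
  constructor
  · intro h u
    have h1 := h (φ u)
    rw [glConj_mulVec, φ.symm_apply_apply] at h1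
    rw [hφ, hφ, h1]
  · intro h w
    rw [glConj_mulVec]
    have h1 := h (φ.symm w)
    rw [hφ, hφ, φ.apply_symm_apply] at h1
    exact mul_left_cancel₀ hμ h1

theorem card_isometryGroup_of_iso (Q : QuadraticForm K (κ → K)) (Q' : QuadraticForm K (κ' → K))
    (h : Iso Q Q') :
    Nat.card ↥(Cfsg.isometryGroup K (⇑Q)) = Nat.card ↥(Cfsg.isometryGroup K (⇑Q')) := by
  obtain ⟨φ, hφ⟩ := h
  exact card_isometryGroup_of_simil _ _ φ 1 one_ne_zero (fun v => by rw [hφ, one_mul])

end transfer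

/-- C3b (even): the order of the isometry group of a nondegenerate form of even dimension -/
theorem C3b_even {K : Type*} [Field K] [Fintype K] (h2 : (2 : K) ≠ 0) {Qc : ℕ}
    (hK : Fintype.card K = Qc) (m : ℕ) (hm : 1 ≤ m) {κ : Type} [Fintype κ] [DecidableEq κ]
    (hκ : Fintype.card κ = 2 * m) (q' : QuadraticForm K (κ → K))
    (hq' : (QuadraticMap.polarBilin q').Nondegenerate) :
    (IsHyp q' → Nat.card ↥(Cfsg.isometryGroup K (⇑q')) =
      2 * Qc ^ (m * (m - 1)) * (Qc ^ m - 1) * ∏ i ∈ Finset.range (m - 1), (Qc ^ (2 * (i + 1)) - 1)) ∧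
    (¬ IsHyp q' → Nat.card ↥(Cfsg.isometryGroup K (⇑q')) =
      2 * Qc ^ (m * (m - 1)) * (Qc ^ m + 1) * ∏ i ∈ Finset.range (m - 1), (Qc ^ (2 * (i + 1)) - 1)) := by
  obtain ⟨ζ, hζ⟩ := Cfsg.Agent.Lib.Helper40_QuadStd.exists_aniso (F := K)
  have hV : finrank K (κ → K) = 2 * m := by
    rw [Module.finrank_fintype_fun_eq_card, hκ]
  have hcl := Cfsg.Agent.Lib.Helper40_QuadStd.iso_plus_or_minus m hm hV q' hq' 1 ζ hζ
  have hplus : Iso q' (qfPlus m K) → Nat.card ↥(Cfsg.isometryGroup K (⇑q')) =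
      2 * Qc ^ (m * (m - 1)) * (Qc ^ m - 1) *
        ∏ i ∈ Finset.range (m - 1), (Qc ^ (2 * (i + 1)) - 1) := by
    intro h
    rw [card_isometryGroup_of_iso q' (qfPlus m K) h, coe_qfPlus]
    exact Cfsg.Agent.S0287.result hK m hm
  have hminus : Iso q' (qfMinus (m - 1) K 1 ζ) → Nat.card ↥(Cfsg.isometryGroup K (⇑q')) =
      2 * Qc ^ (m * (m - 1)) * (Qc ^ m + 1) *
        ∏ i ∈ Finset.range (m - 1), (Qc ^ (2 * (i + 1)) - 1) := by
    intro h
    rw [card_isometryGroup_of_iso q' (qfMinus (m - 1) K 1 ζ) h, coe_qfMinus]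
    exact Cfsg.Agent.S0288.result hK m hm 1 ζ hζ
  constructor
  · intro hh
    rcases hcl with h | h
    · exact hplus h
    · exact absurd (IsHyp.of_iso h hh)
        (Cfsg.Agent.Lib.Helper40_QuadStd.not_isHyp_qfMinus (m - 1) 1 ζ hζ)
  · intro hh
    rcases hcl with h | h
    · exact absurd (IsHyp.of_iso h.symm (Cfsg.Agent.Lib.Helper40_QuadStd.isHyp_qfPlus m)) hh
    · exact hminus h

/-- C3b (odd) -/
theorem C3b_odd {K : Type*} [Field K] [Fintype K] (h2 : (2 : K) ≠ 0) {Qc : ℕ}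
    (hK : Fintype.card K = Qc) (m : ℕ) {κ : Type} [Fintype κ] [DecidableEq κ]
    (hκ : Fintype.card κ = 2 * m + 1) (q' : QuadraticForm K (κ → K))
    (hq' : (QuadraticMap.polarBilin q').Nondegenerate) :
    Nat.card ↥(Cfsg.isometryGroup K (⇑q')) =
      2 * Qc ^ (m ^ 2) * ∏ i ∈ Finset.range m, (Qc ^ (2 * (i + 1)) - 1) := by
  have hV : finrank K (κ → K) = 2 * m + 1 := by
    rw [Module.finrank_fintype_fun_eq_card, hκ]
  obtain ⟨φ, μ, hμ, hφ⟩ := Cfsg.Agent.Lib.Helper40_OOdd.exists_simil_qfOdd m hV q' hq'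
  rw [card_isometryGroup_of_simil (⇑q') (⇑(qfOdd m K)) φ μ hμ hφ, coe_qfOdd]
  have hodd : Odd Qc := by
    rw [← hK, Nat.odd_iff]
    apply FiniteField.odd_card_of_char_ne_two
    intro hc
    have h3 : ((2 : ℕ) : K) = 0 := by
      rw [← hc]
      exact ringChar.Nat.cast_ringChar
    exact h2 (by exact_mod_cast h3)
  exact Cfsg.Agent.S0286.result hK hodd m

end Cfsg.Agent.Lib.Helper82_OrthExt_C3b
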