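import Mathlib
import Cfsg.Prelude.Def_GeometricClasses
import Cfsg.Agent.Lib.Helper43_OrthExtDefs
import Cfsg.Agent.Lib.Helper44_Refl
import Cfsg.Agent.Lib.Helper44_FinSq
import Cfsg.Agent.Lib.Helper44_Spinor
import Cfsg.Agent.Lib.Helper14_OrthChars
import Cfsg.Agent.Lib.Helper14_OmegaIndex
import Cfsg.Agent.S0787

set_option autoImplicit false

/-!
Package PS of helper43's S5977/S5978 project: an element of `SO(Q) ∖ Ω(Q)` centralising a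
self-adjoint `θ` with `θ² = Δ` a non-square: the product of the reflections in `v` and `θ v`
for a vector `v` with `Q v ≠ 0` orthogonal to `θ v`.
-/

namespace Cfsg.Agent.Lib.Helper87_OrthExt_PS

open Matrix Cfsg.Agent.Lib.Helper3_GUSp_PC1 Cfsg.Agent.Lib.Helper43_OrthExtDefs
  Cfsg.Agent.Lib.Helper44_Refl Cfsg.Agent.Lib.Helper44_FinSq Cfsg.Agent.Lib.Helper44_Spinor
  Cfsg.Agent.Lib.Helper14_OrthChars Cfsg.Agent.Lib.Helper14_OmegaIndex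

section core

variable {F : Type*} [Field F] {ι : Type} [Fintype ι] [DecidableEq ι]

theorem theta_theta_mulVec (Δ : F) (θ : Matrix ι ι F) (hθ : θ * θ = Δ • (1 : Matrix ι ι F))
    (v : ι → F) : θ *ᵥ (θ *ᵥ v) = Δ • v := by
  rw [Matrix.mulVec_mulVec, hθ, Matrix.smul_mulVec, Matrix.one_mulVec]

/-- `Q (θ v) = Δ Q v` for self-adjoint `θ` with `θ² = Δ`. -/
theorem map_theta (h2 : (2 : F) ≠ 0) (Δ : F) (Q : QuadraticForm F (ι → F))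
    (θ : Matrix ι ι F) (hθ : θ * θ = Δ • (1 : Matrix ι ι F)) (hsa : IsSA (⇑Q) θ) (v : ι → F) :
    Q (θ *ᵥ v) = Δ * Q v := by
  have h1 : QuadraticMap.polar (⇑Q) (θ *ᵥ v) (θ *ᵥ v) = 2 * Q (θ *ᵥ v) := polar_self Q _
  have h3 : QuadraticMap.polar (⇑Q) (θ *ᵥ v) (θ *ᵥ v) = Δ * (2 * Q v) := by
    rw [hsa v (θ *ᵥ v), theta_theta_mulVec Δ θ hθ, QuadraticMap.polar_smul_right, polar_self]
    rfl
  have h4 : 2 * Q (θ *ᵥ v) = 2 * (Δ * Q v) := by rw [← h1, h3]; ring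
  exact mul_left_cancel₀ h2 h4

/-- The product of the reflections in `v` and `θ v` commutes with `θ` when `v ⊥ θ v`. -/
theorem refl_mul_refl_comm (h2 : (2 : F) ≠ 0) (Δ : F) (hΔ0 : Δ ≠ 0) (Q : QuadraticForm F (ι → F))
    (θ : Matrix ι ι F) (hθ : θ * θ = Δ • (1 : Matrix ι ι F)) (hsa : IsSA (⇑Q) θ) (v : ι → F)
    (hv : Q v ≠ 0) (hvθ : QuadraticMap.polar (⇑Q) v (θ *ᵥ v) = 0) :
    (Cfsg.reflectionMatrix (⇑Q) v * Cfsg.reflectionMatrix (⇑Q) (θ *ᵥ v)) * θ =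
      θ * (Cfsg.reflectionMatrix (⇑Q) v * Cfsg.reflectionMatrix (⇑Q) (θ *ᵥ v)) := by
  apply matrix_ext_mulVec
  intro y
  have hQθ := map_theta h2 Δ Q θ hθ hsa v
  have hθθ := theta_theta_mulVec Δ θ hθ
  -- the action of the product on an arbitrary vector
  have key : ∀ y : ι → F,
      (Cfsg.reflectionMatrix (⇑Q) v * Cfsg.reflectionMatrix (⇑Q) (θ *ᵥ v)) *ᵥ y =
        y - ((Q v)⁻¹ * Δ⁻¹ * QuadraticMap.polar (⇑Q) (θ *ᵥ v) y) • (θ *ᵥ v)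
          - ((Q v)⁻¹ * QuadraticMap.polar (⇑Q) v y) • v := by
    intro y
    rw [← Matrix.mulVec_mulVec, reflectionMatrix_mulVec Q (θ *ᵥ v) y, reflectionMatrix_mulVec Q v,
      QuadraticMap.polar_sub_right, QuadraticMap.polar_smul_right, hvθ, hQθ]
    simp only [smul_eq_mul, mul_zero, sub_zero]
    rw [mul_inv]
    congr 2
    rw [mul_comm Δ⁻¹ (Q v)⁻¹]
  have hl : ((Cfsg.reflectionMatrix (⇑Q) v * Cfsg.reflectionMatrix (⇑Q) (θ *ᵥ v)) * θ) *ᵥ y =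
      (Cfsg.reflectionMatrix (⇑Q) v * Cfsg.reflectionMatrix (⇑Q) (θ *ᵥ v)) *ᵥ (θ *ᵥ y) :=
    (Matrix.mulVec_mulVec _ _ _).symm
  have hr : (θ * (Cfsg.reflectionMatrix (⇑Q) v * Cfsg.reflectionMatrix (⇑Q) (θ *ᵥ v))) *ᵥ y =
      θ *ᵥ ((Cfsg.reflectionMatrix (⇑Q) v * Cfsg.reflectionMatrix (⇑Q) (θ *ᵥ v)) *ᵥ y) :=
    (Matrix.mulVec_mulVec _ _ _).symm
  rw [hl, hr, key, key, Matrix.mulVec_sub, Matrix.mulVec_sub,
    Matrix.mulVec_smul, Matrix.mulVec_smul, hθθ]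
  have e1 : QuadraticMap.polar (⇑Q) (θ *ᵥ v) (θ *ᵥ y) = Δ * QuadraticMap.polar (⇑Q) v y := by
    rw [hsa v (θ *ᵥ y), hθθ, QuadraticMap.polar_smul_right]; rfl
  have e2 : QuadraticMap.polar (⇑Q) v (θ *ᵥ y) = QuadraticMap.polar (⇑Q) (θ *ᵥ v) y := (hsa v y).symm
  rw [e1, e2]
  funext i
  simp only [Pi.sub_apply, Pi.smul_apply, smul_eq_mul]
  field_simp
  ring

end core

section fin

variable {F : Type*} [Field F] [Fintype F] {ι : Type} [Fintype ι] [DecidableEq ι]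

/-- The core of PS: from a vector `v` with `Q v ≠ 0` and `v ⊥ θ v`. -/
theorem PS_of_vec (h2 : (2 : F) ≠ 0) (Δ : F) (hΔ : ¬ IsSquare Δ) (Q : QuadraticForm F (ι → F))
    (hQ : (QuadraticMap.polarBilin Q).Nondegenerate)
    (θ : Matrix ι ι F) (hθ : θ * θ = Δ • (1 : Matrix ι ι F)) (hsa : IsSA (⇑Q) θ)
    (v : ι → F) (hv : Q v ≠ 0) (hvθ : QuadraticMap.polar (⇑Q) v (θ *ᵥ v) = 0) :
    ∃ c : ↥(Cfsg.isometryGroup F (⇑Q)), c ∈ centO (⇑Q) θ ∧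
      c ∈ Cfsg.specialIsometryGroup F (⇑Q) ∧ c ∉ Cfsg.Omega F (⇑Q) := by
  classical
  have hΔ0 : Δ ≠ 0 := fun h => hΔ (h ▸ ⟨0, by simp⟩)
  have hQθ := map_theta h2 Δ Q θ hθ hsa v
  have hw : Q (θ *ᵥ v) ≠ 0 := by rw [hQθ]; exact mul_ne_zero hΔ0 hv
  refine ⟨refl Q v hv * refl Q (θ *ᵥ v) hw, ?_, ?_, ?_⟩
  · rw [mem_centO]
    exact refl_mul_refl_comm h2 Δ hΔ0 Q θ hθ hsa v hv hvθ
  · rw [Cfsg.Agent.S0787.mem_SO_iff]
    have : (((refl Q v hv * refl Q (θ *ᵥ v) hw : ↥(Cfsg.isometryGroup F (⇑Q))) :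
        Matrix.GeneralLinearGroup ι F) : Matrix ι ι F) =
        Cfsg.reflectionMatrix (⇑Q) v * Cfsg.reflectionMatrix (⇑Q) (θ *ᵥ v) := rfl
    rw [this, Matrix.det_mul, det_reflectionMatrix Q hv, det_reflectionMatrix Q hw]
    ring
  · rw [omega_eq_inf h2 Q hQ, Subgroup.mem_inf, MonoidHom.mem_ker, map_mul]
    rintro ⟨-, h⟩
    by_cases hsq : IsSquare (Q v)
    · have h1 := (theta_refl Q h2 v hv).1 hsq
      have hnsq : ¬ IsSquare (Q (θ *ᵥ v)) := by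
        rw [hQθ, mul_comm, isSquare_mul_nonsq_iff hv hΔ]
        exact not_not.mpr hsq
      have h3 := (theta_refl Q h2 (θ *ᵥ v) hw).2 hnsq
      rw [h1, h3] at h
      exact absurd h (by decide)
    · have h1 := (theta_refl Q h2 v hv).2 hsq
      have hsq' : IsSquare (Q (θ *ᵥ v)) := by
        rw [hQθ, mul_comm, isSquare_mul_nonsq_iff hv hΔ]
        exact hsq
      have h3 := (theta_refl Q h2 (θ *ᵥ v) hw).1 hsq'
      rw [h1, h3] at h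
      exact absurd h (by decide)

/-- PS from the output `(q', Φ)` of package P0. -/
theorem PS_core (h2 : (2 : F) ≠ 0) (d : ℕ) (hd : 2 ≤ d) (Δ : F) (hΔ : ¬ IsSquare Δ)
    (Q : QuadraticForm F (ι → F)) (hQ : (QuadraticMap.polarBilin Q).Nondegenerate)
    (θ : Matrix ι ι F) (hθ : θ * θ = Δ • (1 : Matrix ι ι F)) (hsa : IsSA (⇑Q) θ)
    (q' : QuadraticForm (QE F Δ) (Fin d → QE F Δ)) (Φ : (Fin d → QE F Δ) ≃ₗ[F] (ι → F))
    (hq' : (QuadraticMap.polarBilin q').Nondegenerate)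
    (hΦθ : ∀ u, Φ (om F Δ • u) = θ *ᵥ Φ u) (hΦQ : ∀ u, Q (Φ u) = (q' u).re) :
    ∃ c : ↥(Cfsg.isometryGroup F (⇑Q)), c ∈ centO (⇑Q) θ ∧
      c ∈ Cfsg.specialIsometryGroup F (⇑Q) ∧ c ∉ Cfsg.Omega F (⇑Q) := by
  classical
  have hfact : Fact (∀ r : F, r ^ 2 ≠ Δ + 0 * r) := fact_of_not_isSquare hΔ
  have h2L : (2 : QE F Δ) ≠ 0 := by
    intro h
    apply h2
    have := congrArg QuadraticAlgebra.re h
    rw [QuadraticAlgebra.re_ofNat] at this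
    exact this
  have hn : 2 ≤ Fintype.card (Fin d) := by rw [Fintype.card_fin]; exact hd
  obtain ⟨u, hu⟩ := exists_norm_eq h2L q' hq' hn 1
  have hv1 : Q (Φ u) = 1 := by rw [hΦQ, hu]; rfl
  have hω2 : (om F Δ * om F Δ).re = Δ := by rw [om_mul_om]; rfl
  have hθv : Q (θ *ᵥ Φ u) = Δ := by
    rw [← hΦθ, hΦQ, QuadraticMap.map_smul, hu, smul_eq_mul, mul_one, hω2]
  have hsum : Q (Φ u + θ *ᵥ Φ u) = 1 + Δ := by
    have e : Φ u + θ *ᵥ Φ u = Φ ((1 + om F Δ) • u) := by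
      rw [add_smul, one_smul, map_add, hΦθ]
    rw [e, hΦQ, QuadraticMap.map_smul, hu, smul_eq_mul, mul_one]
    have : (1 + om F Δ) * (1 + om F Δ) = 1 + 2 * om F Δ + om F Δ * om F Δ := by ring
    rw [this, om_mul_om]
    simp [om, QuadraticAlgebra.re_ofNat, QuadraticAlgebra.im_ofNat, QuadraticAlgebra.re_one]
  refine PS_of_vec h2 Δ hΔ Q hQ θ hθ hsa (Φ u) (by rw [hv1]; exact one_ne_zero) ?_
  rw [QuadraticMap.polar, hsum, hv1, hθv]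
  ring

/-- PS with the statement of package P0 as a hypothesis (same shape as `Helper35_OrthExt_E1.E1_of_P0`). -/
theorem PS_of_P0 (h2 : (2 : F) ≠ 0) (d : ℕ) (hd : 2 ≤ d) (Δ : F) (hΔ : ¬ IsSquare Δ)
    (Q : QuadraticForm F (ι → F)) (hQ : (QuadraticMap.polarBilin Q).Nondegenerate)
    (hP0 : ∀ θ : Matrix ι ι F, θ * θ = Δ • (1 : Matrix ι ι F) → IsSA (⇑Q) θ →
      ∃ (q' : QuadraticForm (QE F Δ) (Fin d → QE F Δ)) (Φ : (Fin d → QE F Δ) ≃ₗ[F] (ι → F)),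
        (QuadraticMap.polarBilin q').Nondegenerate ∧
        (∀ u, Φ (om F Δ • u) = θ *ᵥ Φ u) ∧ (∀ u, Q (Φ u) = (q' u).re))
    (θ : Matrix ι ι F) (hθ : θ * θ = Δ • (1 : Matrix ι ι F)) (hsa : IsSA (⇑Q) θ) :
    ∃ c : ↥(Cfsg.isometryGroup F (⇑Q)), c ∈ centO (⇑Q) θ ∧
      c ∈ Cfsg.specialIsometryGroup F (⇑Q) ∧ c ∉ Cfsg.Omega F (⇑Q) := by
  obtain ⟨q', Φ, hq', hΦθ, hΦQ⟩ := hP0 θ hθ hsa
  exact PS_core h2 d hd Δ hΔ Q hQ θ hθ hsa q' Φ hq' hΦθ hΦQ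

end fin

end Cfsg.Agent.Lib.Helper87_OrthExt_PS
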