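import Mathlib
import Cfsg.Prelude.Def_GeometricClasses
import Cfsg.Agent.Lib.Helper43_OrthExtDefs
import Cfsg.Agent.Lib.Helper3_OrthExt_P0
import Cfsg.Agent.Lib.Helper87_OrthExt_PS

set_option autoImplicit false

/-!
Package PS of helper43's S5977/S5978 project, final form (exact package statement):
`Helper87_OrthExt_PS.PS_core` plugged into helper3's package P0.
-/

namespace Cfsg.Agent.Lib.Helper87_OrthExt_PSFinal

open Matrix Cfsg.Agent.Lib.Helper3_GUSp_PC1 Cfsg.Agent.Lib.Helper43_OrthExtDefs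

/-- PS: an element of `SO ∖ Ω` centralising `θ` -/
theorem PS {F : Type*} [Field F] [Fintype F] (h2 : (2 : F) ≠ 0) {ι : Type} [Fintype ι]
    [DecidableEq ι] (d : ℕ) (hd : 2 ≤ d) (hcard : Fintype.card ι = 2 * d) (Δ : F)
    (hΔ : ¬ IsSquare Δ) (Q : QuadraticForm F (ι → F))
    (hQ : (QuadraticMap.polarBilin Q).Nondegenerate)
    (θ : Matrix ι ι F) (hθ : θ * θ = Δ • (1 : Matrix ι ι F)) (hsa : IsSA (⇑Q) θ) :
    ∃ c : ↥(Cfsg.isometryGroup F (⇑Q)), c ∈ centO (⇑Q) θ ∧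
      c ∈ Cfsg.specialIsometryGroup F (⇑Q) ∧ c ∉ Cfsg.Omega F (⇑Q) := by
  obtain ⟨q', Φ, hq', hΦθ, hΦQ⟩ :=
    Cfsg.Agent.Lib.Helper3_OrthExt_P0.P0 h2 d hcard Δ hΔ Q hQ θ hθ hsa
  exact Cfsg.Agent.Lib.Helper87_OrthExt_PS.PS_core h2 d hd Δ hΔ Q hQ θ hθ hsa q' Φ hq' hΦθ hΦQ

end Cfsg.Agent.Lib.Helper87_OrthExt_PSFinal
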