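import Mathlib
import Cfsg.Prelude.Def_Classical
import Cfsg.Agent.Lib.Helper3_GUSp_PC1
import Cfsg.Agent.Lib.Helper43_OrthExtDefs

/-!
# S5977 package C3a (helper88): `O_L(q')` embeds in `C_{O(Q)}(θ)`

`L = QE F Δ`, `Φ : (Fin d → L) ≃ₗ[F] (ι → F)` with `Φ (ω • u) = θ *ᵥ Φ u` and `Q (Φ u) = (q' u).re`.
`R M := toMatrix' (Φ ∘ toLin' M ∘ Φ⁻¹)` is an injective monoid hom
`Matrix (Fin d) (Fin d) L →* Matrix ι ι F` with `R M *ᵥ Φ u = Φ (M *ᵥ u)`; it maps isometries of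
`q'` to isometries of `Q` commuting with `θ`.
-/

set_option autoImplicit false
set_option linter.unusedSectionVars false

namespace Cfsg.Agent.Lib.Helper88_OrthExt_C3a

open Matrix Cfsg.Agent.Lib.Helper3_GUSp_PC1 Cfsg.Agent.Lib.Helper43_OrthExtDefs

section

variable {F : Type*} [Field F] {ι : Type} [Fintype ι] [DecidableEq ι] {d : ℕ} {Δ : F}

/-- the `F`-linear map `Φ ∘ M ∘ Φ⁻¹` -/
noncomputable def conjLin (Φ : (Fin d → QE F Δ) ≃ₗ[F] (ι → F))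
    (M : Matrix (Fin d) (Fin d) (QE F Δ)) : (ι → F) →ₗ[F] (ι → F) :=
  Φ.toLinearMap ∘ₗ ((Matrix.toLin' M).restrictScalars F) ∘ₗ Φ.symm.toLinearMap

theorem conjLin_apply (Φ : (Fin d → QE F Δ) ≃ₗ[F] (ι → F))
    (M : Matrix (Fin d) (Fin d) (QE F Δ)) (w : ι → F) :
    conjLin Φ M w = Φ (M *ᵥ Φ.symm w) := rfl

/-- the realification map on matrices -/
noncomputable def R (Φ : (Fin d → QE F Δ) ≃ₗ[F] (ι → F)) :
    Matrix (Fin d) (Fin d) (QE F Δ) →* Matrix ι ι F where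
  toFun M := LinearMap.toMatrix' (conjLin Φ M)
  map_one' := by
    have : conjLin Φ (1 : Matrix (Fin d) (Fin d) (QE F Δ)) = LinearMap.id := by
      apply LinearMap.ext
      intro w
      simp [conjLin_apply]
    rw [this, LinearMap.toMatrix'_id]
  map_mul' M N := by
    rw [← LinearMap.toMatrix'_comp]
    congr 1
    apply LinearMap.ext
    intro w
    simp [conjLin_apply]

theorem R_mulVec (Φ : (Fin d → QE F Δ) ≃ₗ[F] (ι → F))
    (M : Matrix (Fin d) (Fin d) (QE F Δ)) (w : ι → F) :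
    R Φ M *ᵥ w = Φ (M *ᵥ Φ.symm w) := by
  change LinearMap.toMatrix' (conjLin Φ M) *ᵥ w = _
  rw [← Matrix.toLin'_apply, Matrix.toLin'_toMatrix', conjLin_apply]

theorem R_mulVec_apply (Φ : (Fin d → QE F Δ) ≃ₗ[F] (ι → F))
    (M : Matrix (Fin d) (Fin d) (QE F Δ)) (u : Fin d → QE F Δ) :
    R Φ M *ᵥ Φ u = Φ (M *ᵥ u) := by
  rw [R_mulVec, LinearEquiv.symm_apply_apply]

theorem R_injective (Φ : (Fin d → QE F Δ) ≃ₗ[F] (ι → F)) : Function.Injective (R Φ) := by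
  intro M N h
  apply Matrix.toLin'.injective
  apply LinearMap.ext
  intro u
  have h1 := R_mulVec_apply Φ M u
  have h2 := R_mulVec_apply Φ N u
  rw [h] at h1
  rw [Matrix.toLin'_apply, Matrix.toLin'_apply]
  exact Φ.injective (h1.symm.trans h2)

theorem R_comm (Φ : (Fin d → QE F Δ) ≃ₗ[F] (ι → F)) (θ : Matrix ι ι F)
    (hΦθ : ∀ u, Φ (om F Δ • u) = θ *ᵥ Φ u) (M : Matrix (Fin d) (Fin d) (QE F Δ)) :
    R Φ M * θ = θ * R Φ M := by
  apply Matrix.toLin'.injective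
  apply LinearMap.ext
  intro w
  rw [Matrix.toLin'_apply, Matrix.toLin'_apply, ← Matrix.mulVec_mulVec, ← Matrix.mulVec_mulVec]
  obtain ⟨u, rfl⟩ := Φ.surjective w
  rw [← hΦθ, R_mulVec_apply, R_mulVec_apply, ← hΦθ, Matrix.mulVec_smul]

theorem R_isom (Φ : (Fin d → QE F Δ) ≃ₗ[F] (ι → F)) (Q : (ι → F) → F)
    (q' : (Fin d → QE F Δ) → QE F Δ) (hΦQ : ∀ u, Q (Φ u) = (q' u).re)
    (M : Matrix (Fin d) (Fin d) (QE F Δ)) (hM : ∀ u, q' (M *ᵥ u) = q' u) (w : ι → F) :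
    Q (R Φ M *ᵥ w) = Q w := by
  obtain ⟨u, rfl⟩ := Φ.surjective w
  rw [R_mulVec_apply, hΦQ, hΦQ, hM]

end

/-- C3a: the `L`-isometries embed in the centraliser of `θ` -/
theorem C3a {F : Type*} [Field F] [Fintype F] {ι : Type} [Fintype ι] [DecidableEq ι] (d : ℕ)
    (Δ : F) [Fact (∀ r : F, r ^ 2 ≠ Δ + 0 * r)] (Q : QuadraticForm F (ι → F)) (θ : Matrix ι ι F)
    (q' : QuadraticForm (QE F Δ) (Fin d → QE F Δ)) (Φ : (Fin d → QE F Δ) ≃ₗ[F] (ι → F))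
    (hΦθ : ∀ u, Φ (om F Δ • u) = θ *ᵥ Φ u) (hΦQ : ∀ u, Q (Φ u) = (q' u).re) :
    Nat.card ↥(Cfsg.isometryGroup (QE F Δ) (⇑q')) ∣ Nat.card ↥(centO (⇑Q) θ) := by
  have hmem : ∀ g : ↥(Cfsg.isometryGroup (QE F Δ) (⇑q')),
      Units.map (R Φ) (g : GL (Fin d) (QE F Δ)) ∈ Cfsg.isometryGroup F (⇑Q) := by
    intro g u _
    have hg : ∀ v, q' (((g : GL (Fin d) (QE F Δ)) : Matrix _ _ _) *ᵥ v) = q' v := fun v => g.2 v v
    exact R_isom Φ (⇑Q) (⇑q') hΦQ _ hg u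
  let f : ↥(Cfsg.isometryGroup (QE F Δ) (⇑q')) →* ↥(centO (⇑Q) θ) :=
    { toFun := fun g => ⟨⟨Units.map (R Φ) (g : GL (Fin d) (QE F Δ)), hmem g⟩,
        R_comm Φ θ hΦθ _⟩
      map_one' := by
        apply Subtype.ext
        apply Subtype.ext
        simp
      map_mul' := by
        intro a b
        apply Subtype.ext
        apply Subtype.ext
        simp }
  have hf : Function.Injective f := by
    intro a b hab
    have h1 : Units.map (R Φ) (a : GL (Fin d) (QE F Δ)) = Units.map (R Φ) (b : GL (Fin d) (QE F Δ)) :=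
      congrArg (fun x : ↥(centO (⇑Q) θ) => ((x : ↥(Cfsg.isometryGroup F (⇑Q))) : GL ι F)) hab
    have h2 : R Φ ((a : GL (Fin d) (QE F Δ)) : Matrix _ _ _) = R Φ ((b : GL (Fin d) (QE F Δ)) : Matrix _ _ _) :=
      congrArg (fun x : GL ι F => (x : Matrix ι ι F)) h1
    exact Subtype.ext (Units.ext (R_injective Φ h2))
  exact Subgroup.card_dvd_of_injective f hf

end Cfsg.Agent.Lib.Helper88_OrthExt_C3a
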