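import Cfsg.Agent.Lib.Helper43_OrthReal
import Cfsg.Agent.Lib.Helper43_OrthExtDefs
import Cfsg.Agent.Lib.Helper43_OrthExtK
import Cfsg.Agent.Lib.Helper14_OmegaIndex
import Cfsg.Agent.Lib.Helper44_Index
import Cfsg.Agent.Lib.Helper14_OrthChars
import Cfsg.Agent.Lib.Helper3_OrthExt_P0
import Cfsg.Agent.Lib.Helper35_OrthExt_E1
import Cfsg.Agent.Lib.Helper87_OrthExt_PSFinal
import Cfsg.Agent.Lib.Helper88_OrthExt_C3a
import Cfsg.Agent.Lib.Helper88_OrthExt_C3c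
import Cfsg.Agent.Lib.Helper82_OrthExt_C3b
import Cfsg.Agent.Lib.Helper60_OrthExt_PE1
import Cfsg.Agent.Lib.Helper34_OrthExt_PE2

set_option autoImplicit false

/-!
# S5977 / S5978 (helper43): generic assembly

`Q` a nondegenerate quadratic form on `ι → F`, `|ι| = 2d`, `F` finite of odd characteristic,
`K = F[θ]` a quadratic field of self-adjoint matrices.  Index bookkeeping, the adjustment into
`Ω`, the direction `r = 2` and the derangement direction.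
-/

namespace Cfsg.Agent.Lib.Helper43_OrthExtMain

open Matrix Cfsg.Agent.Lib.Helper43_OrthExtDefs Cfsg.Agent.Lib.Helper43_OrthExtK
  Cfsg.Agent.Lib.Helper44_Orth Cfsg.Agent.Lib.Helper44_Spinor

variable {F : Type*} [Field F] {ι : Type} [Fintype ι] [DecidableEq ι]

section index

/-- the index of `Ω` in the isometry group is a power of two -/
theorem omega_index_two_pow (h2 : (2 : F) ≠ 0) [Finite F] (Q : QuadraticForm F (ι → F))
    (hQ : (QuadraticMap.polarBilin Q).Nondegenerate) :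
    ∃ k : ℕ, (Cfsg.Omega F (⇑Q)).index = 2 ^ k := by
  have hP : IsPGroup 2 (↥(Cfsg.isometryGroup F (⇑Q)) ⧸ Cfsg.Omega F (⇑Q)) := by
    intro g
    obtain ⟨g, rfl⟩ := QuotientGroup.mk_surjective g
    refine ⟨1, ?_⟩
    rw [pow_one, ← QuotientGroup.mk_pow, QuotientGroup.eq_one_iff, pow_two]
    exact Cfsg.Agent.Lib.Helper43_OrthReal.sq_mem_commutator h2 Q hQ g
  obtain ⟨k, hk⟩ := hP.exists_card_eq
  exact ⟨k, by rw [Subgroup.index_eq_card, hk]⟩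

theorem index_bookkeeping (h2 : (2 : F) ≠ 0) [Finite F] (Q : QuadraticForm F (ι → F))
    (hQ : (QuadraticMap.polarBilin Q).Nondegenerate) (K : Subalgebra F (Matrix ι ι F))
    (θ : Matrix ι ι F)
    (hcent : ∀ g : GL ι F, (g : Matrix ι ι F) * θ = θ * (g : Matrix ι ι F) →
      g ∈ Cfsg.Geo.subalgebraNormalizer K)
    (r : ℕ) (hr : r.Prime) (hr2 : r ≠ 2)
    (hΩ : r ∣ (Cfsg.Geo.subalgebraNormalizer K).relIndex (Cfsg.Geo.omegaGL (⇑Q))) :
    ∃ M N : ℕ, r ∣ M ∧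
      M * (N * Nat.card ↥(centO (⇑Q) θ)) = Nat.card ↥(Cfsg.isometryGroup F (⇑Q)) := by
  set G := Cfsg.isometryGroup F (⇑Q) with hG
  set H' : Subgroup ↥G := (Cfsg.Geo.subalgebraNormalizer K).comap G.subtype with hH'
  set Ω : Subgroup ↥G := Cfsg.Omega F (⇑Q) with hΩdef
  have h1 : H'.relIndex Ω = (Cfsg.Geo.subalgebraNormalizer K).relIndex (Cfsg.Geo.omegaGL (⇑Q)) := by
    rw [hH', Subgroup.relIndex_comap]
    rfl
  rw [← h1] at hΩ
  have e1 : (H' ⊓ Ω).relIndex Ω * Ω.index = (H' ⊓ Ω).index :=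
    Subgroup.relIndex_mul_index inf_le_right
  have e2 : (H' ⊓ Ω).relIndex H' * H'.index = (H' ⊓ Ω).index :=
    Subgroup.relIndex_mul_index inf_le_left
  rw [Subgroup.inf_relIndex_right] at e1
  rw [Subgroup.inf_relIndex_left] at e2
  have h3 : r ∣ Ω.relIndex H' * H'.index := by
    rw [e2, ← e1]
    exact Dvd.dvd.mul_right hΩ _
  have h4 : ¬ r ∣ Ω.relIndex H' := by
    intro h
    have h5 : r ∣ Ω.index := h.trans (Subgroup.relIndex_dvd_index_of_normal Ω H')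
    obtain ⟨k, hk⟩ := omega_index_two_pow h2 Q hQ
    rw [hΩdef, hk] at h5
    exact hr2 ((Nat.prime_dvd_prime_iff_eq hr Nat.prime_two).1 (hr.dvd_of_dvd_pow h5))
  have h5 : r ∣ H'.index := (hr.dvd_mul.1 h3).resolve_left h4
  have hle : centO (⇑Q) θ ≤ H' := by
    intro g hg
    rw [hH', Subgroup.mem_comap]
    exact hcent _ hg
  obtain ⟨N, hN⟩ := Subgroup.card_dvd_of_le hle
  refine ⟨H'.index, N, h5, ?_⟩
  rw [mul_comm N, ← hN]
  exact Subgroup.index_mul_card H'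

end index

section matrix

/-- transport of (anti)commutation along a conjugation -/
theorem conj_rel {A Ai X θ θ' : Matrix ι ι F} (ε : F)
    (h1 : A * Ai = 1) (h2 : Ai * A = 1) (hA : A * θ = θ' * A) (hX : X * θ' = ε • (θ' * X)) :
    (Ai * X * A) * θ = ε • (θ * (Ai * X * A)) := by
  have h3 : Ai * θ' = θ * Ai := by
    calc Ai * θ' = Ai * θ' * (A * Ai) := by rw [h1, mul_one]
      _ = Ai * (θ' * A) * Ai := by simp only [mul_assoc]
      _ = (Ai * A) * θ * Ai := by rw [← hA]; simp only [mul_assoc]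
      _ = θ * Ai := by rw [h2, one_mul]
  calc (Ai * X * A) * θ = Ai * X * (A * θ) := by simp only [mul_assoc]
    _ = Ai * (X * θ') * A := by rw [hA]; simp only [mul_assoc]
    _ = ε • ((Ai * θ') * X * A) := by
        rw [hX]; simp only [mul_assoc, mul_smul_comm, smul_mul_assoc]
    _ = ε • (θ * (Ai * X * A)) := by rw [h3]; simp only [mul_assoc]

/-- conjugates of self-adjoint matrices by isometries are self-adjoint -/
theorem isSA_conj (Q : QuadraticForm F (ι → F)) {g : GL ι F}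
    (hg : g ∈ Cfsg.isometryGroup F (⇑Q)) {θ : Matrix ι ι F} (hsa : IsSA (⇑Q) θ) :
    IsSA (⇑Q) ((g : Matrix ι ι F) * θ * ((g⁻¹ : GL ι F) : Matrix ι ι F)) := by
  have hgi : g⁻¹ ∈ Cfsg.isometryGroup F (⇑Q) := inv_mem hg
  have hpol : ∀ (h : GL ι F), h ∈ Cfsg.isometryGroup F (⇑Q) → ∀ u v : ι → F,
      QuadraticMap.polar (⇑Q) ((h : Matrix ι ι F) *ᵥ u) ((h : Matrix ι ι F) *ᵥ v) =
        QuadraticMap.polar (⇑Q) u v := by
    intro h hh u v
    rw [mem_isometryGroup_iff] at hh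
    unfold QuadraticMap.polar
    rw [← Matrix.mulVec_add, hh, hh, hh]
  have hgg : ∀ w : ι → F, (g : Matrix ι ι F) *ᵥ (((g⁻¹ : GL ι F) : Matrix ι ι F) *ᵥ w) = w := by
    intro w
    rw [Matrix.mulVec_mulVec, ← Units.val_mul, mul_inv_cancel, Units.val_one, Matrix.one_mulVec]
  intro u v
  rw [← Matrix.mulVec_mulVec, ← Matrix.mulVec_mulVec, ← Matrix.mulVec_mulVec,
    ← Matrix.mulVec_mulVec]
  conv_lhs => rw [← hgg v]
  rw [hpol g hg, hsa]
  conv_rhs => rw [← hgg u]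
  rw [hpol g hg]

end matrix


section fwd

/-- elements of `Ω` are isometries -/
theorem mem_isometryGroup_of_mem_omegaGL (Q : (ι → F) → F) {g : GL ι F}
    (hg : g ∈ Cfsg.Geo.omegaGL Q) : g ∈ Cfsg.isometryGroup F Q := by
  obtain ⟨y, -, rfl⟩ := hg
  exact y.2

/-- the derangement direction: an element of odd prime order `r` of `Ω` commuting with no
self-adjoint `θ'` with `θ'² = Δ` contradicts the fixed-point property -/
theorem fwd (h2 : (2 : F) ≠ 0) (d : ℕ) (hd : 1 ≤ d) (hcard : Fintype.card ι = 2 * d)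
    (Q : QuadraticForm F (ι → F)) (K : Subalgebra F (Matrix ι ι F))
    (hK : Cfsg.Geo.IsFieldSubalgebra 2 K)
    (hKf : Cfsg.Geo.IsSelfAdjointFor (QuadraticMap.polar (⇑Q)) K)
    (r : ℕ) (hrodd : Odd r)
    (hder : ∀ Δ : F, ¬ IsSquare Δ → ∃ x : GL ι F, x ∈ Cfsg.Geo.omegaGL (⇑Q) ∧ x ^ r = 1 ∧
      ∀ θ : Matrix ι ι F, θ * θ = Δ • (1 : Matrix ι ι F) → IsSA (⇑Q) θ →
        (x : Matrix ι ι F) * θ ≠ θ * (x : Matrix ι ι F))
    (hall : ∀ x ∈ Cfsg.Geo.omegaGL (⇑Q),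
      (∃ z : F, ((x ^ r : GL ι F) : Matrix ι ι F) = z • (1 : Matrix ι ι F)) →
      (∀ z : F, (x : Matrix ι ι F) ≠ z • (1 : Matrix ι ι F)) →
      ∃ g ∈ Cfsg.Geo.omegaGL (⇑Q), g⁻¹ * x * g ∈ Cfsg.Geo.subalgebraNormalizer K) : False := by
  classical
  have hne : Nonempty ι := by
    rw [← Fintype.card_pos_iff, hcard]
    omega
  obtain ⟨θ, Δ, hθK, hΔ, hθ, hgen, hsa⟩ := exists_theta_sa K hK h2 (⇑Q) hKf
  obtain ⟨x, hxΩ, hxr, hxc⟩ := hder Δ hΔ
  have hxns : ∀ z : F, (x : Matrix ι ι F) ≠ z • (1 : Matrix ι ι F) := by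
    intro z hz
    apply hxc θ hθ hsa
    rw [hz, smul_mul_assoc, one_mul, mul_smul_comm, mul_one]
  obtain ⟨g, hg, hgx⟩ := hall x hxΩ ⟨1, by rw [hxr, one_smul]; rfl⟩ hxns
  set G : Matrix ι ι F := (g : Matrix ι ι F) with hG
  set Gi : Matrix ι ι F := ((g⁻¹ : GL ι F) : Matrix ι ι F) with hGi
  have hGGi : G * Gi = 1 := by rw [hG, hGi]; exact Units.mul_inv g
  have hGiG : Gi * G = 1 := by rw [hG, hGi]; exact Units.inv_mul g
  have hyr : ((g⁻¹ * x * g : GL ι F) : Matrix ι ι F) ^ r = (1 : F) • (1 : Matrix ι ι F) := by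
    rw [← Units.val_pow_eq_pow_val, one_smul]
    have : (g⁻¹ * x * g) ^ r = 1 := by
      have h1 : g⁻¹ * x * g = g⁻¹ * x * g⁻¹⁻¹ := by rw [inv_inv]
      rw [h1, conj_pow, hxr, mul_one, inv_inv, inv_mul_cancel]
    rw [this]
    rfl
  have hcomm := comm_of_odd_pow K hK h2 hΔ hθK hθ hgen _ hgx r hrodd 1 hyr
  have hyval : ((g⁻¹ * x * g : GL ι F) : Matrix ι ι F) = Gi * (x : Matrix ι ι F) * G := by
    rw [Units.val_mul, Units.val_mul]
  rw [hyval] at hcomm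
  have hgiso : g ∈ Cfsg.isometryGroup F (⇑Q) := mem_isometryGroup_of_mem_omegaGL _ hg
  apply hxc (G * θ * Gi)
  · calc G * θ * Gi * (G * θ * Gi) = G * θ * (Gi * G) * θ * Gi := by simp only [mul_assoc]
      _ = Δ • (1 : Matrix ι ι F) := by
        rw [hGiG, mul_one, mul_assoc G, hθ, mul_smul_comm, mul_one, smul_mul_assoc, hGGi]
  · exact isSA_conj Q hgiso hsa
  · have h1 : (x : Matrix ι ι F) = G * (Gi * (x : Matrix ι ι F) * G) * Gi := by
      calc (x : Matrix ι ι F) = (G * Gi) * (x : Matrix ι ι F) * (G * Gi) := by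
            rw [hGGi, one_mul, mul_one]
        _ = G * (Gi * (x : Matrix ι ι F) * G) * Gi := by simp only [mul_assoc]
    have h3 := conj_rel (A := Gi) (Ai := G) (X := Gi * (x : Matrix ι ι F) * G) (θ := G * θ * Gi)
      (θ' := θ) (1 : F) hGiG hGGi
      (by rw [← mul_assoc, ← mul_assoc, hGiG, one_mul])
      (by rw [one_smul]; exact hcomm)
    rw [one_smul, ← h1] at h3
    exact h3

end fwd


section back

/-- adjusting an element of `SO` into `Ω` by an element of `SO ∖ Ω` -/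
theorem omega_adjust [Fintype F] (h2 : (2 : F) ≠ 0) (Q : QuadraticForm F (ι → F))
    (hQ : (QuadraticMap.polarBilin Q).Nondegenerate)
    (g c : ↥(Cfsg.isometryGroup F (⇑Q))) (hg : g ∈ Cfsg.specialIsometryGroup F (⇑Q))
    (hc : c ∈ Cfsg.specialIsometryGroup F (⇑Q)) (hcΩ : c ∉ Cfsg.Omega F (⇑Q)) :
    g ∈ Cfsg.Omega F (⇑Q) ∨ g * c ∈ Cfsg.Omega F (⇑Q) := by
  rw [Cfsg.Agent.Lib.Helper14_OmegaIndex.omega_eq_inf h2 Q hQ] at hcΩ ⊢
  have hθc : theta Q c = -1 := by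
    rcases Int.units_eq_one_or (theta Q c) with h | h
    · exact absurd (Subgroup.mem_inf.mpr ⟨hc, MonoidHom.mem_ker.mpr h⟩) hcΩ
    · exact h
  rcases Int.units_eq_one_or (theta Q g) with h | h
  · exact Or.inl (Subgroup.mem_inf.mpr ⟨hg, MonoidHom.mem_ker.mpr h⟩)
  · right
    refine Subgroup.mem_inf.mpr ⟨Subgroup.mul_mem _ hg hc, ?_⟩
    rw [MonoidHom.mem_ker, map_mul, hθc, h]
    rfl

/-- the direction `r = 2`: every element of `Ω` whose square is scalar is `Ω`-conjugate into the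
normaliser of `K` -/
theorem back [Fintype F] (h2 : (2 : F) ≠ 0) (d : ℕ) (hd : 2 ≤ d) (hcard : Fintype.card ι = 2 * d)
    (Q : QuadraticForm F (ι → F)) (hQ : (QuadraticMap.polarBilin Q).Nondegenerate)
    (K : Subalgebra F (Matrix ι ι F)) (hK : Cfsg.Geo.IsFieldSubalgebra 2 K)
    (hKf : Cfsg.Geo.IsSelfAdjointFor (QuadraticMap.polar (⇑Q)) K)
    (x : GL ι F) (hxΩ : x ∈ Cfsg.Geo.omegaGL (⇑Q))
    (hz : ∃ z : F, ((x ^ 2 : GL ι F) : Matrix ι ι F) = z • (1 : Matrix ι ι F))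
    (hns : ∀ z : F, (x : Matrix ι ι F) ≠ z • (1 : Matrix ι ι F)) :
    ∃ g ∈ Cfsg.Geo.omegaGL (⇑Q), g⁻¹ * x * g ∈ Cfsg.Geo.subalgebraNormalizer K := by
  classical
  have hne : Nonempty ι := by
    rw [← Fintype.card_pos_iff, hcard]
    omega
  obtain ⟨z, hz⟩ := hz
  obtain ⟨θ, Δ, hθK, hΔ, hθ, hgen, hsa⟩ := exists_theta_sa K hK h2 (⇑Q) hKf
  obtain ⟨y, hyΩ, rfl⟩ := hxΩ
  set X : Matrix ι ι F := ((y : GL ι F) : Matrix ι ι F) with hX
  have hXQ : ∀ v, Q (X *ᵥ v) = Q v := (mem_isometryGroup_iff _ _).1 y.2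
  have hΩeq := Cfsg.Agent.Lib.Helper14_OmegaIndex.omega_eq_inf h2 Q hQ
  have hySO : y ∈ Cfsg.specialIsometryGroup F (⇑Q) := by
    have : y ∈ Cfsg.Omega F (⇑Q) := hyΩ
    rw [hΩeq] at this
    exact this.1
  have hdet : X.det = 1 := (Cfsg.Agent.S0787.mem_SO_iff Q y).1 hySO
  have hXX : X * X = z • (1 : Matrix ι ι F) := by
    rw [← hz, Units.val_pow_eq_pow_val, pow_two]
    rfl
  -- `z = ± 1`
  obtain ⟨v, hv⟩ := Cfsg.Agent.Lib.Helper14_OrthChars.exists_norm_eq h2 Q hQ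
    (by rw [hcard]; omega) 1
  have hzz : z * z = 1 := by
    have h1 := hXQ (X *ᵥ v)
    rw [Matrix.mulVec_mulVec, hXX, Matrix.smul_mulVec, Matrix.one_mulVec, hXQ v,
      QuadraticMap.map_smul, hv, smul_eq_mul, mul_one] at h1
    exact h1
  -- a self-adjoint `θ'` normalised by `X`, in both classes
  have key : ∃ (θ' : Matrix ι ι F) (ρ : GL ι F) (ε : F),
      θ' * θ' = Δ • (1 : Matrix ι ι F) ∧ IsSA (⇑Q) θ' ∧ X * θ' = ε • (θ' * X) ∧
      ρ ∈ Cfsg.isometryGroup F (⇑Q) ∧ (ρ : Matrix ι ι F).det = -1 ∧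
      X * ((ρ : Matrix ι ι F) * θ' * ((ρ⁻¹ : GL ι F) : Matrix ι ι F)) =
        ε • (((ρ : Matrix ι ι F) * θ' * ((ρ⁻¹ : GL ι F) : Matrix ι ι F)) * X) := by
    have hz1 : (z - 1) * (z + 1) = 0 := by linear_combination hzz
    rcases mul_eq_zero.1 hz1 with h | h
    · have hz1 : z = 1 := by linear_combination h
      rw [hz1, one_smul] at hXX
      obtain ⟨θ', ρ, h1, h3, h4, h5, h6, h7⟩ :=
        Cfsg.Agent.Lib.Helper60_OrthExt_PE1.PE1 h2 d hcard Q hQ Δ X hXQ hXX hdet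
        (by
          intro h
          apply hns 1
          rw [one_smul]
          exact h)
        (by
          intro h
          apply hns (-1)
          rw [neg_smul, one_smul]
          exact h)
      refine ⟨θ', ρ, 1, h1, h3, by rw [one_smul]; exact h4, h5, h6, ?_⟩
      rw [one_smul]
      have hρρ : ((ρ⁻¹ : GL ι F) : Matrix ι ι F) * (ρ : Matrix ι ι F) = 1 := Units.inv_mul ρ
      have hρρ' : (ρ : Matrix ι ι F) * ((ρ⁻¹ : GL ι F) : Matrix ι ι F) = 1 := Units.mul_inv ρ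
      have h8 : ((ρ⁻¹ : GL ι F) : Matrix ι ι F) * X = X * ((ρ⁻¹ : GL ι F) : Matrix ι ι F) := by
        calc ((ρ⁻¹ : GL ι F) : Matrix ι ι F) * X
            = ((ρ⁻¹ : GL ι F) : Matrix ι ι F) * X * ((ρ : Matrix ι ι F) *
                ((ρ⁻¹ : GL ι F) : Matrix ι ι F)) := by rw [hρρ', mul_one]
          _ = ((ρ⁻¹ : GL ι F) : Matrix ι ι F) * (X * (ρ : Matrix ι ι F)) *
                ((ρ⁻¹ : GL ι F) : Matrix ι ι F) := by simp only [mul_assoc]
          _ = X * ((ρ⁻¹ : GL ι F) : Matrix ι ι F) := by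
              rw [← h7, ← mul_assoc, hρρ, one_mul]
      calc X * ((ρ : Matrix ι ι F) * θ' * ((ρ⁻¹ : GL ι F) : Matrix ι ι F))
          = (X * (ρ : Matrix ι ι F)) * θ' * ((ρ⁻¹ : GL ι F) : Matrix ι ι F) := by
            simp only [mul_assoc]
        _ = (ρ : Matrix ι ι F) * (X * θ') * ((ρ⁻¹ : GL ι F) : Matrix ι ι F) := by
            rw [← h7]; simp only [mul_assoc]
        _ = (ρ : Matrix ι ι F) * θ' * (X * ((ρ⁻¹ : GL ι F) : Matrix ι ι F)) := by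
            rw [h4]; simp only [mul_assoc]
        _ = (ρ : Matrix ι ι F) * θ' * ((ρ⁻¹ : GL ι F) : Matrix ι ι F) * X := by
            rw [← h8]; simp only [mul_assoc]
    · have hz1 : z = -1 := by linear_combination h
      rw [hz1, neg_one_smul] at hXX
      obtain ⟨θ', ρ, h1, h3, h4, h5, h6, h7⟩ :=
        Cfsg.Agent.Lib.Helper34_OrthExt_PE2.PE2 h2 Q hQ Δ X hXQ hXX
      exact ⟨θ', ρ, -1, h1, h3, by rw [neg_one_smul]; exact h4, h5, h6,
        by rw [neg_one_smul]; exact h7⟩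
  obtain ⟨θ', ρ, ε, hθ', hsa', hXθ', hρ, hρdet, hXρ⟩ := key
  -- conjugate `θ` to `θ'`
  obtain ⟨g₀, hg₀, hg₀θ⟩ := Cfsg.Agent.Lib.Helper35_OrthExt_E1.E1_of_P0 h2 d Δ hΔ Q
    (fun θ₀ hθ₀ hsa₀ => Cfsg.Agent.Lib.Helper3_OrthExt_P0.P0 h2 d hcard Δ hΔ Q hQ θ₀ hθ₀ hsa₀)
    θ θ' hθ hθ' hsa hsa'
  -- an element of `SO` conjugating `θ` to `θ'` or to `ρ θ' ρ⁻¹`
  have key2 : ∃ (g₁ : ↥(Cfsg.isometryGroup F (⇑Q))) (θ'' : Matrix ι ι F),
      g₁ ∈ Cfsg.specialIsometryGroup F (⇑Q) ∧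
      ((g₁ : GL ι F) : Matrix ι ι F) * θ = θ'' * ((g₁ : GL ι F) : Matrix ι ι F) ∧
      X * θ'' = ε • (θ'' * X) := by
    rcases Cfsg.Agent.Lib.Helper44_Index.det_eq_one_or h2 Q hQ ⟨g₀, hg₀⟩ with h | h
    · exact ⟨⟨g₀, hg₀⟩, θ', (Cfsg.Agent.S0787.mem_SO_iff Q _).2 h, hg₀θ, hXθ'⟩
    · refine ⟨⟨ρ * g₀, mul_mem hρ hg₀⟩,
        (ρ : Matrix ι ι F) * θ' * ((ρ⁻¹ : GL ι F) : Matrix ι ι F), ?_, ?_, hXρ⟩
      · rw [Cfsg.Agent.S0787.mem_SO_iff]
        show ((ρ * g₀ : GL ι F) : Matrix ι ι F).det = 1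
        rw [Units.val_mul, Matrix.det_mul, hρdet]
        have : ((g₀ : GL ι F) : Matrix ι ι F).det = -1 := h
        rw [this]
        ring
      · show ((ρ * g₀ : GL ι F) : Matrix ι ι F) * θ = _ * ((ρ * g₀ : GL ι F) : Matrix ι ι F)
        have hρρ : ((ρ⁻¹ : GL ι F) : Matrix ι ι F) * (ρ : Matrix ι ι F) = 1 := Units.inv_mul ρ
        rw [Units.val_mul, mul_assoc, hg₀θ]
        calc (ρ : Matrix ι ι F) * (θ' * (g₀ : Matrix ι ι F))
            = (ρ : Matrix ι ι F) * θ' * (1 : Matrix ι ι F) * (g₀ : Matrix ι ι F) := by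
              rw [mul_one, mul_assoc]
          _ = (ρ : Matrix ι ι F) * θ' * ((ρ⁻¹ : GL ι F) : Matrix ι ι F) *
                ((ρ : Matrix ι ι F) * (g₀ : Matrix ι ι F)) := by
              rw [← hρρ]; simp only [mul_assoc]
  obtain ⟨g₁, θ'', hg₁SO, hg₁θ, hXθ''⟩ := key2
  -- adjust into `Ω`
  obtain ⟨c, hcθ, hcSO, hcΩ⟩ :=
    Cfsg.Agent.Lib.Helper87_OrthExt_PSFinal.PS h2 d hd hcard Δ hΔ Q hQ θ hθ hsa
  have hcθ' : ((c : GL ι F) : Matrix ι ι F) * θ = θ * ((c : GL ι F) : Matrix ι ι F) := hcθ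
  have key3 : ∃ g : ↥(Cfsg.isometryGroup F (⇑Q)), g ∈ Cfsg.Omega F (⇑Q) ∧
      ((g : GL ι F) : Matrix ι ι F) * θ = θ'' * ((g : GL ι F) : Matrix ι ι F) := by
    rcases omega_adjust h2 Q hQ g₁ c hg₁SO hcSO hcΩ with h | h
    · exact ⟨g₁, h, hg₁θ⟩
    · refine ⟨g₁ * c, h, ?_⟩
      show ((g₁ : GL ι F) * (c : GL ι F) : GL ι F).val * θ = θ'' * ((g₁ : GL ι F) * (c : GL ι F) : GL ι F).val
      rw [Units.val_mul, mul_assoc, hcθ', ← mul_assoc, hg₁θ, mul_assoc]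
  obtain ⟨g, hgΩ, hgθ⟩ := key3
  refine ⟨(g : GL ι F), ⟨g, hgΩ, rfl⟩, ?_⟩
  apply mem_normalizer_of_comm K hK hΔ hθK hθ hgen
  set G : Matrix ι ι F := ((g : GL ι F) : Matrix ι ι F) with hG
  set Gi : Matrix ι ι F := (((g : GL ι F)⁻¹ : GL ι F) : Matrix ι ι F) with hGi
  have hGGi : G * Gi = 1 := by rw [hG, hGi]; exact Units.mul_inv _
  have hGiG : Gi * G = 1 := by rw [hG, hGi]; exact Units.inv_mul _
  have hval : (((g : GL ι F)⁻¹ * (Cfsg.isometryGroup F (⇑Q)).subtype y * (g : GL ι F) : GL ι F) :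
      Matrix ι ι F) = Gi * X * G := by
    rw [Units.val_mul, Units.val_mul]
    rfl
  rw [hval]
  have h9 := conj_rel (A := G) (Ai := Gi) (X := X) (θ := θ) (θ' := θ'') ε hGGi hGiG hgθ hXθ''
  have hε : ε = 1 ∨ ε = -1 := by
    -- from `X θ'' = ε θ'' X` and `X² = z`, or directly from the construction
    by_contra hcon
    push Not at hcon
    -- `θ''` is invertible, `X` is invertible: `ε² = 1`
    have hθ''sq : θ'' * θ'' = Δ • (1 : Matrix ι ι F) := by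
      have h10 : θ'' = G * θ * Gi := by
        calc θ'' = θ'' * (G * Gi) := by rw [hGGi, mul_one]
          _ = (θ'' * G) * Gi := by rw [mul_assoc]
          _ = G * θ * Gi := by rw [← hgθ]
      rw [h10]
      calc G * θ * Gi * (G * θ * Gi) = G * θ * (Gi * G) * θ * Gi := by simp only [mul_assoc]
        _ = Δ • (1 : Matrix ι ι F) := by
          rw [hGiG, mul_one, mul_assoc G, hθ, mul_smul_comm, mul_one, smul_mul_assoc, hGGi]
    have hΔ0 : Δ ≠ 0 := by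
      rintro rfl
      exact hΔ ⟨0, by simp⟩
    have h11 : X * (θ'' * θ'') = (ε * ε) • ((θ'' * θ'') * X) := by
      rw [← mul_assoc, hXθ'', smul_mul_assoc, mul_assoc θ'' X θ'', hXθ'', mul_smul_comm, smul_smul,
        ← mul_assoc]
    rw [hθ''sq, mul_smul_comm, mul_one, smul_mul_assoc, one_mul, smul_smul] at h11
    have h12 : (Δ - ε * ε * Δ) • X = 0 := by
      rw [sub_smul]
      nth_rewrite 1 [h11]
      exact sub_self _
    have hX0 : X ≠ 0 := by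
      intro h
      apply hns 0
      rw [zero_smul]
      exact h
    rcases smul_eq_zero.1 h12 with h | h
    · have : (1 - ε) * (1 + ε) * Δ = 0 := by linear_combination h
      rcases mul_eq_zero.1 this with h' | h'
      · rcases mul_eq_zero.1 h' with h'' | h''
        · exact hcon.1 (by linear_combination -h'')
        · exact hcon.2 (by linear_combination h'')
      · exact hΔ0 h'
    · exact hX0 h
  rcases hε with rfl | rfl
  · left
    rw [one_smul] at h9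
    exact h9
  · right
    rw [neg_one_smul] at h9
    exact h9

end back


section order

open Cfsg.Agent.Lib.Helper3_GUSp_PC1 Cfsg.Agent.Lib.Helper40_QuadIso

theorem two_ne_zero_QE (h2 : (2 : F) ≠ 0) (Δ : F) : (2 : QE F Δ) ≠ 0 := by
  intro h
  apply h2
  have := congrArg QuadraticAlgebra.re h
  exact this

/-- the order of `O_d(q²)` divides the order of the centraliser of `θ` (`d = 2m`) -/
theorem C3_even [Fintype F] {q : ℕ} (hq : Fintype.card F = q) (h2 : (2 : F) ≠ 0) (m : ℕ)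
    (hm : 1 ≤ m) (hcard : Fintype.card ι = 2 * (2 * m)) (Δ : F) (hΔ : ¬ IsSquare Δ)
    (Q : QuadraticForm F (ι → F)) (hQ : (QuadraticMap.polarBilin Q).Nondegenerate)
    (θ : Matrix ι ι F) (hθ : θ * θ = Δ • (1 : Matrix ι ι F)) (hsa : IsSA (⇑Q) θ) :
    (IsHyp Q → (2 * (q ^ 2) ^ (m * (m - 1)) * ((q ^ 2) ^ m - 1) *
        ∏ i ∈ Finset.range (m - 1), ((q ^ 2) ^ (2 * (i + 1)) - 1)) ∣
      Nat.card ↥(centO (⇑Q) θ)) ∧
    (¬ IsHyp Q → (2 * (q ^ 2) ^ (m * (m - 1)) * ((q ^ 2) ^ m + 1) *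
        ∏ i ∈ Finset.range (m - 1), ((q ^ 2) ^ (2 * (i + 1)) - 1)) ∣
      Nat.card ↥(centO (⇑Q) θ)) := by
  have := fact_of_not_isSquare hΔ
  obtain ⟨q', Φ, hq', hΦθ, hΦQ⟩ :=
    Cfsg.Agent.Lib.Helper3_OrthExt_P0.P0 h2 (2 * m) hcard Δ hΔ Q hQ θ hθ hsa
  have hiff := Cfsg.Agent.Lib.Helper88_OrthExt_C3c.C3c h2 m hm hcard Δ hΔ Q hQ θ q' Φ hq' hΦθ hΦQ
  have hb := Cfsg.Agent.Lib.Helper82_OrthExt_C3b.C3b_even (K := QE F Δ) (two_ne_zero_QE h2 Δ) (card_QE (Δ := Δ) hq) m hm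
    (κ := Fin (2 * m)) (Fintype.card_fin _) q' hq'
  have ha := Cfsg.Agent.Lib.Helper88_OrthExt_C3a.C3a (2 * m) Δ Q θ q' Φ hΦθ hΦQ
  constructor
  · intro h
    rw [← hb.1 (hiff.2 h)]
    exact ha
  · intro h
    rw [← hb.2 (fun h' => h (hiff.1 h'))]
    exact ha

/-- the order of `O_d(q²)` divides the order of the centraliser of `θ` (`d = 2m + 1`) -/
theorem C3_odd [Fintype F] {q : ℕ} (hq : Fintype.card F = q) (h2 : (2 : F) ≠ 0) (m : ℕ)
    (hcard : Fintype.card ι = 2 * (2 * m + 1)) (Δ : F) (hΔ : ¬ IsSquare Δ)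
    (Q : QuadraticForm F (ι → F)) (hQ : (QuadraticMap.polarBilin Q).Nondegenerate)
    (θ : Matrix ι ι F) (hθ : θ * θ = Δ • (1 : Matrix ι ι F)) (hsa : IsSA (⇑Q) θ) :
    (2 * (q ^ 2) ^ (m ^ 2) * ∏ i ∈ Finset.range m, ((q ^ 2) ^ (2 * (i + 1)) - 1)) ∣
      Nat.card ↥(centO (⇑Q) θ) := by
  have := fact_of_not_isSquare hΔ
  obtain ⟨q', Φ, hq', hΦθ, hΦQ⟩ :=
    Cfsg.Agent.Lib.Helper3_OrthExt_P0.P0 h2 (2 * m + 1) hcard Δ hΔ Q hQ θ hθ hsa
  have hb := Cfsg.Agent.Lib.Helper82_OrthExt_C3b.C3b_odd (K := QE F Δ) (two_ne_zero_QE h2 Δ) (card_QE (Δ := Δ) hq) m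
    (κ := Fin (2 * m + 1)) (Fintype.card_fin _) q' hq'
  have ha := Cfsg.Agent.Lib.Helper88_OrthExt_C3a.C3a (2 * m + 1) Δ Q θ q' Φ hΦθ hΦQ
  rw [← hb]
  exact ha

end order

section assembly

open Cfsg.Agent.Lib.Helper40_QuadIso

/-- order bookkeeping, `d = 2m` -/
theorem order_even [Fintype F] {q : ℕ} (hq : Fintype.card F = q) (h2 : (2 : F) ≠ 0) (m : ℕ)
    (hm : 1 ≤ m) (hcard : Fintype.card ι = 2 * (2 * m))
    (Q : QuadraticForm F (ι → F)) (hQ : (QuadraticMap.polarBilin Q).Nondegenerate)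
    (K : Subalgebra F (Matrix ι ι F)) (hK : Cfsg.Geo.IsFieldSubalgebra 2 K)
    (hKf : Cfsg.Geo.IsSelfAdjointFor (QuadraticMap.polar (⇑Q)) K)
    (r : ℕ) (hr : r.Prime) (hr2 : r ≠ 2)
    (hΩ : r ∣ (Cfsg.Geo.subalgebraNormalizer K).relIndex (Cfsg.Geo.omegaGL (⇑Q))) :
    (IsHyp Q → ∃ M N : ℕ, r ∣ M ∧
      M * (N * (2 * (q ^ 2) ^ (m * (m - 1)) * ((q ^ 2) ^ m - 1) *
        ∏ i ∈ Finset.range (m - 1), ((q ^ 2) ^ (2 * (i + 1)) - 1))) =
      Nat.card ↥(Cfsg.isometryGroup F (⇑Q))) ∧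
    (¬ IsHyp Q → ∃ M N : ℕ, r ∣ M ∧
      M * (N * (2 * (q ^ 2) ^ (m * (m - 1)) * ((q ^ 2) ^ m + 1) *
        ∏ i ∈ Finset.range (m - 1), ((q ^ 2) ^ (2 * (i + 1)) - 1))) =
      Nat.card ↥(Cfsg.isometryGroup F (⇑Q))) := by
  classical
  have hne : Nonempty ι := by
    rw [← Fintype.card_pos_iff, hcard]
    omega
  obtain ⟨θ, Δ, hθK, hΔ, hθ, hgen, hsa⟩ := exists_theta_sa K hK h2 (⇑Q) hKf
  obtain ⟨M, N, hrM, hMN⟩ := index_bookkeeping h2 Q hQ K θ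
    (fun g hg => mem_normalizer_of_comm K hK hΔ hθK hθ hgen g (Or.inl hg)) r hr hr2 hΩ
  obtain ⟨h1, h1'⟩ := C3_even hq h2 m hm hcard Δ hΔ Q hQ θ hθ hsa
  constructor
  · intro h
    obtain ⟨c, hc⟩ := h1 h
    refine ⟨M, N * c, hrM, ?_⟩
    rw [← hMN, hc]
    ring
  · intro h
    obtain ⟨c, hc⟩ := h1' h
    refine ⟨M, N * c, hrM, ?_⟩
    rw [← hMN, hc]
    ring

/-- order bookkeeping, `d = 2m + 1` -/
theorem order_odd [Fintype F] {q : ℕ} (hq : Fintype.card F = q) (h2 : (2 : F) ≠ 0) (m : ℕ)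
    (hcard : Fintype.card ι = 2 * (2 * m + 1))
    (Q : QuadraticForm F (ι → F)) (hQ : (QuadraticMap.polarBilin Q).Nondegenerate)
    (K : Subalgebra F (Matrix ι ι F)) (hK : Cfsg.Geo.IsFieldSubalgebra 2 K)
    (hKf : Cfsg.Geo.IsSelfAdjointFor (QuadraticMap.polar (⇑Q)) K)
    (r : ℕ) (hr : r.Prime) (hr2 : r ≠ 2)
    (hΩ : r ∣ (Cfsg.Geo.subalgebraNormalizer K).relIndex (Cfsg.Geo.omegaGL (⇑Q))) :
    ∃ M N : ℕ, r ∣ M ∧
      M * (N * (2 * (q ^ 2) ^ (m ^ 2) *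
        ∏ i ∈ Finset.range m, ((q ^ 2) ^ (2 * (i + 1)) - 1))) =
      Nat.card ↥(Cfsg.isometryGroup F (⇑Q)) := by
  classical
  have hne : Nonempty ι := by
    rw [← Fintype.card_pos_iff, hcard]
    omega
  obtain ⟨θ, Δ, hθK, hΔ, hθ, hgen, hsa⟩ := exists_theta_sa K hK h2 (⇑Q) hKf
  obtain ⟨M, N, hrM, hMN⟩ := index_bookkeeping h2 Q hQ K θ
    (fun g hg => mem_normalizer_of_comm K hK hΔ hθK hθ hgen g (Or.inl hg)) r hr hr2 hΩ
  obtain ⟨c, hc⟩ := C3_odd hq h2 m hcard Δ hΔ Q hQ θ hθ hsa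
  refine ⟨M, N * c, hrM, ?_⟩
  rw [← hMN, hc]
  ring

end assembly

end Cfsg.Agent.Lib.Helper43_OrthExtMain
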