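import Cfsg.Agent.Lib.Helper43_SympJordan

set_option autoImplicit false

/-!
Unipotent isometries of nondegenerate symmetric bilinear forms with prescribed Jordan type, in
characteristic not two: every multiset of positive integers in which each even number has even
multiplicity is realised.
-/

namespace Cfsg.Agent.Lib.Helper43_OrthJordan

open Module Matrix
open Cfsg.Agent.Lib.Helper43_Jordan Cfsg.Agent.Lib.Helper43_RegUnipotent
open Cfsg.Agent.Lib.Helper43_SympRegExist Cfsg.Agent.Lib.Helper43_SympJordan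

universe u

/-- realisable Jordan types of unipotent isometries of nondegenerate symmetric forms -/
def RealizableSym (F : Type u) [Field F] (M : Multiset ℕ) : Prop :=
  ∃ (V : Type u) (_ : AddCommGroup V) (_ : Module F V) (_ : FiniteDimensional F V)
    (ω : LinearMap.BilinForm F V) (g : Module.End F V),
    (∀ x y, ω x y = ω y x) ∧ ω.Nondegenerate ∧ (∀ x y, ω (g x) (g y) = ω x y) ∧
      IsNilpotent (g - 1) ∧ jtype (g - 1) = M

section combine

variable {F : Type u} [Field F]

theorem realizableSym_zero : RealizableSym F 0 := by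
  refine ⟨PUnit, inferInstance, inferInstance, inferInstance, 0, 1, ?_, ?_, ?_, ?_, ?_⟩
  · intro x y; rfl
  · constructor
    · intro x _; exact Subsingleton.elim _ _
    · intro x _; exact Subsingleton.elim _ _
  · intro x y; rfl
  · rw [sub_self]; exact IsNilpotent.zero
  · rw [sub_self]
    have hnil : IsNilpotent (0 : End F PUnit.{u+1}) := IsNilpotent.zero
    have hs := jtype_sum (0 : End F PUnit.{u+1}) hnil
    have h0 : finrank F PUnit.{u+1} = 0 := finrank_zero_of_subsingleton
    rw [h0] at hs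
    apply Multiset.eq_zero_of_forall_notMem
    intro a ha
    have hpos := jtype_pos _ ha
    have := Multiset.single_le_sum (fun x _ => Nat.zero_le x) a ha
    omega

theorem realizableSym_add {M₁ M₂ : Multiset ℕ} (h₁ : RealizableSym F M₁)
    (h₂ : RealizableSym F M₂) : RealizableSym F (M₁ + M₂) := by
  obtain ⟨V₁, _, _, _, ω₁, g₁, hs₁, hnd₁, hiso₁, hnil₁, hj₁⟩ := h₁
  obtain ⟨V₂, _, _, _, ω₂, g₂, hs₂, hnd₂, hiso₂, hnil₂, hj₂⟩ := h₂
  let ω : LinearMap.BilinForm F (V₁ × V₂) :=
    ω₁.compl₁₂ (LinearMap.fst F V₁ V₂) (LinearMap.fst F V₁ V₂) +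
      ω₂.compl₁₂ (LinearMap.snd F V₁ V₂) (LinearMap.snd F V₁ V₂)
  have hω : ∀ x y : V₁ × V₂, ω x y = ω₁ x.1 y.1 + ω₂ x.2 y.2 := by
    intro x y
    rfl
  have hs : ∀ x y, ω x y = ω y x := by
    intro x y
    rw [hω, hω, hs₁ x.1 y.1, hs₂ x.2 y.2]
  have hsub : g₁.prodMap g₂ - 1 = (g₁ - 1).prodMap (g₂ - 1) := by
    apply LinearMap.ext
    rintro ⟨x, y⟩
    rfl
  have hleft : ∀ x : V₁ × V₂, (∀ y, ω x y = 0) → x = 0 := by
    rintro ⟨x₁, x₂⟩ hx
    have e1 : x₁ = 0 := by
      apply hnd₁.1
      intro y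
      have := hx (y, 0)
      rw [hω] at this
      simpa using this
    have e2 : x₂ = 0 := by
      apply hnd₂.1
      intro y
      have := hx (0, y)
      rw [hω] at this
      simpa using this
    rw [e1, e2]
    rfl
  refine ⟨V₁ × V₂, inferInstance, inferInstance, inferInstance, ω, g₁.prodMap g₂, hs, ?_, ?_,
    ?_, ?_⟩
  · constructor
    · exact hleft
    · intro y hy
      apply hleft
      intro x
      rw [hs]
      exact hy x
  · intro x y
    rw [hω, hω, LinearMap.prodMap_apply, LinearMap.prodMap_apply, hiso₁, hiso₂]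
  · rw [hsub]
    exact isNilpotent_prodMap hnil₁ hnil₂
  · rw [hsub, jtype_prodMap hnil₁ hnil₂, hj₁, hj₂]

/-- unipotent isometries of a symmetric invertible Gram matrix give realisable types -/
theorem realizableSym_of_matrix {ι : Type} [Fintype ι] [DecidableEq ι] (G U : Matrix ι ι F)
    (hG : Gᵀ = G) (hdet : G.det ≠ 0) (hU : Uᵀ * G * U = G) (hnil : IsNilpotent (U - 1)) :
    RealizableSym F (jtype (Matrix.toLin' (U - 1))) := by
  have hsub : Matrix.toLin' U - 1 = Matrix.toLin' (U - 1) := by
    rw [map_sub, Matrix.toLin'_one]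
    rfl
  refine ⟨ι → F, inferInstance, inferInstance, inferInstance, Matrix.toBilin' G,
    Matrix.toLin' U, ?_, ?_, ?_, ?_, ?_⟩
  · intro x y
    rw [Matrix.toBilin'_apply', Matrix.toBilin'_apply', dotProduct_mulVec, dotProduct_comm]
    congr 1
    rw [← Matrix.mulVec_transpose, hG]
  · exact LinearMap.BilinForm.nondegenerate_toBilin'_of_det_ne_zero' _ hdet
  · intro x y
    have : Matrix.toBilin' G (Matrix.toLin' U x) (Matrix.toLin' U y) =
        Matrix.toBilin' (Uᵀ * G * U) x y := by
      rw [← Matrix.toBilin'_comp, LinearMap.BilinForm.comp_apply]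
    rw [this, hU]
  · rw [hsub]
    exact isNilpotent_toLin' hnil
  · rw [hsub]

end combine

section cayley

variable {F : Type u} [Field F]

/-- the Cayley transform of a nilpotent element of the Lie algebra of a bilinear form -/
theorem exists_cayley_form {ι : Type*} [Fintype ι] [DecidableEq ι] (h2 : (2 : F) ≠ 0)
    (G Y : Matrix ι ι F) (hY : Yᵀ * G = -(G * Y)) (n : ℕ) (hn : Y ^ n = 0) :
    ∃ U : Matrix ι ι F, Uᵀ * G * U = G ∧ (U - 1) ^ n = 0 ∧ (U - 1).rank = Y.rank := by
  have hnil : IsNilpotent Y := ⟨n, hn⟩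
  obtain ⟨w, hw⟩ := hnil.isUnit_one_sub
  set Wi : Matrix ι ι F := ((w⁻¹ : (Matrix ι ι F)ˣ) : Matrix ι ι F) with hWi
  have h1 : (1 - Y) * Wi = 1 := by rw [← hw]; exact w.mul_inv
  have h1T : Wiᵀ * (1 - Y)ᵀ = 1 := by rw [← Matrix.transpose_mul, h1, Matrix.transpose_one]
  have hcomm : (1 - Y) * (1 + Y) = (1 + Y) * (1 - Y) := by noncomm_ring
  have hG1 : (1 + Y)ᵀ * G = G * (1 - Y) := by
    rw [Matrix.transpose_add, Matrix.transpose_one, Matrix.add_mul, Matrix.one_mul, hY,
      Matrix.mul_sub, Matrix.mul_one, sub_eq_add_neg]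
  have hG2 : G * (1 + Y) = (1 - Y)ᵀ * G := by
    rw [Matrix.transpose_sub, Matrix.transpose_one, Matrix.sub_mul, Matrix.one_mul, hY,
      sub_neg_eq_add, Matrix.mul_add, Matrix.mul_one]
  have hU : ((1 + Y) * Wi)ᵀ * G * ((1 + Y) * Wi) = G := by
    rw [Matrix.transpose_mul]
    calc Wiᵀ * (1 + Y)ᵀ * G * ((1 + Y) * Wi)
        = Wiᵀ * ((1 + Y)ᵀ * G) * ((1 + Y) * Wi) := by simp only [Matrix.mul_assoc]
      _ = Wiᵀ * (G * ((1 - Y) * (1 + Y))) * Wi := by rw [hG1]; simp only [Matrix.mul_assoc]
      _ = Wiᵀ * (G * (1 + Y)) * ((1 - Y) * Wi) := by rw [hcomm]; simp only [Matrix.mul_assoc]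
      _ = G := by rw [hG2, h1, Matrix.mul_one, ← Matrix.mul_assoc, h1T, Matrix.one_mul]
  have hsub : (1 + Y) * Wi - 1 = (2 : F) • Y * Wi := by
    calc (1 + Y) * Wi - 1 = (1 + Y) * Wi - (1 - Y) * Wi := by rw [h1]
      _ = ((1 + Y) - (1 - Y)) * Wi := by rw [← Matrix.sub_mul]
      _ = (2 : F) • Y * Wi := by
          congr 1
          rw [two_smul]
          abel
  have hcY : Commute Y Wi := by
    have : Commute Y ((w : (Matrix ι ι F)ˣ) : Matrix ι ι F) := by
      rw [hw]
      exact (Commute.one_right Y).sub_right (Commute.refl Y)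
    exact this.units_inv_right
  refine ⟨(1 + Y) * Wi, hU, ?_, ?_⟩
  · rw [hsub, (hcY.smul_left (2 : F)).mul_pow, smul_pow, hn, smul_zero, Matrix.zero_mul]
  · have hdet : IsUnit Wi.det := (Matrix.isUnit_iff_isUnit_det _).1 (w⁻¹).isUnit
    rw [hsub, Matrix.rank_mul_eq_left_of_isUnit_det _ _ hdet, rank_smul_of_ne_zero _ h2]

end cayley

section anti

variable {F : Type u} [Field F]

/-- the antidiagonal matrix with alternating signs -/
def antiG (n : ℕ) (F : Type u) [Field F] : Matrix (Fin n) (Fin n) F :=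
  Matrix.of fun i j => if (i : ℕ) + (j : ℕ) + 1 = n then (-1) ^ (i : ℕ) else 0

theorem antiG_mulVec (n : ℕ) (y : Fin n → F) (i : Fin n) :
    (antiG n F *ᵥ y) i =
      (-1) ^ (i : ℕ) * y ⟨n - 1 - (i : ℕ), by have := i.2; omega⟩ := by
  simp only [Matrix.mulVec, dotProduct, antiG, Matrix.of_apply]
  rw [Finset.sum_eq_single ⟨n - 1 - (i : ℕ), by have := i.2; omega⟩]
  · rw [if_pos]
    show (i : ℕ) + (n - 1 - (i : ℕ)) + 1 = n
    have := i.2
    omega
  · intro j _ hj
    rw [if_neg, zero_mul]
    intro h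
    apply hj
    apply Fin.ext
    show (j : ℕ) = n - 1 - i
    omega
  · intro h; exact absurd (Finset.mem_univ _) h

theorem ext_mulVec {ι : Type*} [Fintype ι] [DecidableEq ι] {A B : Matrix ι ι F}
    (h : ∀ y, A *ᵥ y = B *ᵥ y) : A = B :=
  Matrix.toLin'.injective (LinearMap.ext h)

theorem neg_one_pow_eq_of_even_add (a b : ℕ) (h : Even (a + b)) :
    (-1 : F) ^ a = (-1) ^ b := by
  rw [neg_one_pow_eq_pow_mod_two, neg_one_pow_eq_pow_mod_two (n := b)]
  congr 1
  obtain ⟨r, hr⟩ := h
  omega

theorem antiG_transpose (n : ℕ) (hn : Odd n) : (antiG n F)ᵀ = antiG n F := by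
  ext i j
  simp only [antiG, Matrix.transpose_apply, Matrix.of_apply]
  by_cases h : (i : ℕ) + (j : ℕ) + 1 = n
  · rw [if_pos h, if_pos (by omega)]
    apply neg_one_pow_eq_of_even_add
    obtain ⟨k, hk⟩ := hn
    exact ⟨k, by omega⟩
  · rw [if_neg h, if_neg (by omega)]

theorem antiG_mul_self (n : ℕ) (hn : Odd n) : antiG n F * antiG n F = 1 := by
  apply ext_mulVec
  intro y
  funext i
  rw [← Matrix.mulVec_mulVec, antiG_mulVec, antiG_mulVec, Matrix.one_mulVec, ← mul_assoc,
    ← pow_add]
  have hi := i.2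
  have hev : Even ((i : ℕ) + (n - 1 - (i : ℕ))) := by
    obtain ⟨k, hk⟩ := hn
    exact ⟨k, by omega⟩
  rw [hev.neg_one_pow, one_mul]
  congr 1
  apply Fin.ext
  show n - 1 - (n - 1 - (i : ℕ)) = i
  omega

theorem shiftMT_mul_antiG (n : ℕ) :
    (shiftM n F)ᵀ * antiG n F = -(antiG n F * shiftM n F) := by
  apply ext_mulVec
  intro y
  funext i
  have hi := i.2
  rw [Matrix.neg_mulVec, Pi.neg_apply, ← Matrix.mulVec_mulVec, ← Matrix.mulVec_mulVec,
    shiftMT_mulVec, antiG_mulVec, shiftM_mulVec]
  by_cases h : (i : ℕ) + 1 < n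
  · rw [dif_pos h, dif_pos (show 1 ≤ n - 1 - (i : ℕ) by omega), antiG_mulVec]
    show (-1 : F) ^ ((i : ℕ) + 1) * _ = _
    rw [pow_succ, mul_neg_one, neg_mul]
    congr 3
  · rw [dif_neg h, dif_neg (show ¬ (1 ≤ n - 1 - (i : ℕ)) by omega), mul_zero, neg_zero]

end anti

section pieces

variable {F : Type u} [Field F]

theorem realizableSym_single (n : ℕ) (hn : Odd n) (h2 : (2 : F) ≠ 0) :
    RealizableSym F {n} := by
  have hn1 : 1 ≤ n := by
    obtain ⟨k, hk⟩ := hn
    omega
  obtain ⟨U, hU, hUnil, hUrank⟩ := exists_cayley_form h2 (antiG n F) (shiftM n F)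
    (shiftMT_mul_antiG n) n (shiftM_pow_n n)
  have hdet : (antiG n F).det ≠ 0 :=
    Matrix.det_ne_zero_of_left_inverse (antiG_mul_self n hn)
  have hnil : IsNilpotent (U - 1) := ⟨n, hUnil⟩
  have hreal := realizableSym_of_matrix (antiG n F) U (antiG_transpose n hn) hdet hU hnil
  have hdim : finrank F (Fin n → F) = n := Module.finrank_fin_fun F
  have hker : finrank F (LinearMap.ker (Matrix.toLin' (U - 1))) ≤ 1 := by
    apply finrank_ker_toLin'_le
    rw [hUrank, shiftM_rank n hn1, Fintype.card_fin]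
    omega
  rw [jtype_of_ker_le_one _ (isNilpotent_toLin' hnil) hker (by rw [hdim]; omega), hdim] at hreal
  exact hreal

theorem realizableSym_pair (k : ℕ) (hk : 1 ≤ k) : RealizableSym F {k, k} := by
  obtain ⟨D, hDA, hAD, hDnil⟩ := exists_D (F := F) k
  set A : Matrix (Fin k) (Fin k) F := 1 + shiftM k F with hA
  have hA1 : A - 1 = shiftM k F := by rw [hA, add_sub_cancel_left]
  set U : Matrix (Fin k ⊕ Fin k) (Fin k ⊕ Fin k) F := fromBlocks A 0 0 D with hU
  set G : Matrix (Fin k ⊕ Fin k) (Fin k ⊕ Fin k) F := fromBlocks 0 1 1 0 with hG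
  have hGT : Gᵀ = G := by
    rw [hG, fromBlocks_transpose]
    simp
  have hGG : G * G = 1 := by
    rw [hG, fromBlocks_multiply]
    simp [fromBlocks_one]
  have hdet : G.det ≠ 0 := Matrix.det_ne_zero_of_left_inverse hGG
  have hDTA : Dᵀ * A = 1 := by
    have := congrArg Matrix.transpose hAD
    rwa [Matrix.transpose_mul, Matrix.transpose_transpose, Matrix.transpose_one] at this
  have hUG : Uᵀ * G * U = G := by
    rw [hU, hG, fromBlocks_transpose, fromBlocks_multiply, fromBlocks_multiply]
    simp only [Matrix.mul_zero, Matrix.zero_mul, Matrix.mul_one, zero_add, add_zero,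
      Matrix.transpose_zero, hAD, hDTA]
  have hnil : IsNilpotent (U - 1) :=
    piece_nil A 0 D (by rw [hA1]; exact shiftM_pow_n k) hDnil
  have hreal := realizableSym_of_matrix G U hGT hdet hUG hnil
  have hdim : finrank F (Fin k → F) = k := Module.finrank_fin_fun F
  have hN : IsNilpotent (shiftM k F) := ⟨k, shiftM_pow_n k⟩
  have hDn : IsNilpotent (D - 1) := ⟨k, hDnil⟩
  have hUeq : U - 1 = fromBlocks (shiftM k F) 0 0 (D - 1) := by rw [hU, sub_one_eq, hA1]
  have hk1 : finrank F (LinearMap.ker (Matrix.toLin' (shiftM k F))) ≤ 1 := by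
    apply finrank_ker_toLin'_le
    rw [shiftM_rank k hk, Fintype.card_fin]
    omega
  have hk2 : finrank F (LinearMap.ker (Matrix.toLin' (D - 1))) ≤ 1 := by
    have hT : finrank F (LinearMap.ker (Matrix.toLin' (shiftM k F)ᵀ)) ≤ 1 := by
      apply finrank_ker_toLin'_le
      rw [Matrix.rank_transpose, shiftM_rank k hk, Fintype.card_fin]
      omega
    refine le_trans (Submodule.finrank_mono ?_) hT
    intro y hy
    rw [LinearMap.mem_ker, Matrix.toLin'_apply] at hy ⊢
    exact (shiftMT_mulVec_eq_zero D hAD y hy).2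
  rw [hUeq] at hnil
  rw [hUeq, jtype_fromBlocks _ _ hN hDn hnil,
    jtype_of_ker_le_one _ (isNilpotent_toLin' hN) hk1 (by rw [hdim]; omega),
    jtype_of_ker_le_one _ (isNilpotent_toLin' hDn) hk2 (by rw [hdim]; omega), hdim] at hreal
  exact hreal

end pieces

section final

variable {F : Type u} [Field F]

theorem realizableSym_of_counts_aux (h2 : (2 : F) ≠ 0) : ∀ (n : ℕ) (M : Multiset ℕ),
    Multiset.card M = n → (∀ a ∈ M, 0 < a) → (∀ j, Even j → 0 < j → Even (M.count j)) →
    RealizableSym F M := by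
  intro n
  induction n using Nat.strong_induction_on with
  | _ n ih =>
  intro M hcard hpos hcnt
  rcases Multiset.empty_or_exists_mem M with rfl | ⟨a, ha⟩
  · exact realizableSym_zero
  have hcardpos : 0 < n := by
    rw [← hcard]
    exact Multiset.card_pos_iff_exists_mem.2 ⟨a, ha⟩
  rcases Nat.even_or_odd a with hev | hodd
  · have h2' := hcnt a hev (hpos a ha)
    have hc1 : 1 ≤ M.count a := Multiset.one_le_count_iff_mem.2 ha
    have hc2 : 2 ≤ M.count a := by
      obtain ⟨r, hr⟩ := h2'
      omega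
    have ha' : a ∈ M.erase a := by
      rw [← Multiset.count_pos, Multiset.count_erase_self]
      omega
    have hM : M = {a, a} + (M.erase a).erase a := by
      show M = (a ::ₘ {a}) + (M.erase a).erase a
      rw [Multiset.cons_add, Multiset.singleton_add, Multiset.cons_erase ha', Multiset.cons_erase ha]
    have hcard2 : Multiset.card ((M.erase a).erase a) = n - 2 := by
      rw [Multiset.card_erase_of_mem ha', Multiset.card_erase_of_mem ha, hcard]
      rfl
    have hn2 : 2 ≤ n := by
      have := Multiset.count_le_card a M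
      omega
    rw [hM]
    apply realizableSym_add (realizableSym_pair a (hpos a ha))
    apply ih (n - 2) (by omega) _ hcard2
    · intro b hb
      exact hpos b (Multiset.mem_of_mem_erase (Multiset.mem_of_mem_erase hb))
    · intro j hj hj0
      by_cases hja : j = a
      · subst hja
        rw [Multiset.count_erase_self, Multiset.count_erase_self]
        obtain ⟨r, hr⟩ := h2'
        exact ⟨r - 1, by omega⟩
      · rw [Multiset.count_erase_of_ne hja, Multiset.count_erase_of_ne hja]
        exact hcnt j hj hj0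
  · have hM : M = {a} + M.erase a := by
      rw [Multiset.singleton_add, Multiset.cons_erase ha]
    rw [hM]
    apply realizableSym_add (realizableSym_single a hodd h2)
    apply ih (n - 1) (by omega) (M.erase a) (by rw [Multiset.card_erase_of_mem ha, hcard]; rfl)
    · intro b hb
      exact hpos b (Multiset.mem_of_mem_erase hb)
    · intro j hj hj0
      have hja : j ≠ a := by
        rintro rfl
        exact (Nat.not_even_iff_odd.2 hodd) hj
      rw [Multiset.count_erase_of_ne hja]
      exact hcnt j hj hj0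

/-- every multiset of positive integers in which each even number has even multiplicity is the
Jordan type of a unipotent isometry of a nondegenerate symmetric form (characteristic not two) -/
theorem realizableSym_of_counts (h2 : (2 : F) ≠ 0) (M : Multiset ℕ) (hpos : ∀ a ∈ M, 0 < a)
    (hcnt : ∀ j, Even j → 0 < j → Even (M.count j)) : RealizableSym F M :=
  realizableSym_of_counts_aux h2 _ M rfl hpos hcnt

end final

end Cfsg.Agent.Lib.Helper43_OrthJordan
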