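import Mathlib
import Cfsg.Agent.Lib.Helper99_OrthTSDefs
import Cfsg.Agent.Lib.Helper99_SpAtoms

set_option autoImplicit false

/-!
# ORTH_core package OC1 (helper43): `V = Fix ⊥ [V, a]`, both summands nondegenerate
-/

open Polynomial Module Matrix
open Cfsg.Agent.Lib.Helper40_SpBasic Cfsg.Agent.Lib.Helper40_OConj Cfsg.Agent.Lib.Helper40_OConj.OData
  Cfsg.Agent.Lib.Helper40_QuadIso Cfsg.Agent.Lib.Helper99_OrthTSDefs

namespace Cfsg.Agent.Lib.Helper43_OrthTS_OC1

universe u

section abstract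

variable {F : Type u} [Field F] [Fintype F] {p : ℕ} [Fact p.Prime] [CharP F p]
variable {V : Type u} [AddCommGroup V] [Module F V] [FiniteDimensional F V]
variable {Q : QuadraticForm F V} {a : Module.End F V} {r : ℕ}

/-- OC1: `V = Fix ⊥ [V, a]`, both nondegenerate. -/
theorem OC1 (hQ : (pol Q).Nondegenerate) (h : OData Q a r) :
    IsCompl (Module.End.eigenspace a 1) (comm a) ∧
    (∀ u ∈ Module.End.eigenspace a 1, ∀ v ∈ comm a, pol Q u v = 0) ∧
    NDOn (pol Q) (Module.End.eigenspace a 1) ∧ NDOn (pol Q) (comm a) := by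
  have hsup : Module.End.eigenspace a 1 ⊔ comm a = ⊤ :=
    Cfsg.Agent.Lib.Helper99_SpAtoms.fix_sup_range h.pos h.ne h.pow
  have hfix : ∀ u ∈ Module.End.eigenspace a 1, a u = u := by
    intro u hu
    rw [Module.End.mem_eigenspace_iff, one_smul] at hu
    exact hu
  have horth : ∀ u ∈ Module.End.eigenspace a 1, ∀ v ∈ comm a, pol Q u v = 0 :=
    fun u hu v hv => h.orth_of_fixed u (hfix u hu) v hv
  have hdec : ∀ v : V, ∃ z ∈ Module.End.eigenspace a 1, ∃ c ∈ comm a, z + c = v := by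
    intro v
    have hv : v ∈ Module.End.eigenspace a 1 ⊔ comm a := by
      rw [hsup]
      trivial
    exact Submodule.mem_sup.1 hv
  refine ⟨⟨Cfsg.Agent.Lib.Helper99_SpAtoms.disjoint_fix_range h.ne h.pow, codisjoint_iff.2 hsup⟩,
    horth, ?_, ?_⟩
  · intro x hx hxy
    apply hQ.1 x
    intro v
    obtain ⟨z, hz, c, hc, rfl⟩ := hdec v
    rw [map_add, hxy z hz, horth x hx c hc, add_zero]
  · intro x hx hxy
    apply hQ.1 x
    intro v
    obtain ⟨z, hz, c, hc, rfl⟩ := hdec v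
    rw [map_add, hxy c hc, pol_comm, horth z hz x hx, add_zero]

end abstract

end Cfsg.Agent.Lib.Helper43_OrthTS_OC1
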