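import Mathlib
import Cfsg.Agent.Lib.Helper99_OrthTSDefs

set_option autoImplicit false

/-!
# ORTH_core package OC2 (helper43): on invariant subspaces of `[V, a]`, totally singular for `Q` is
the same as totally isotropic for the twisted alternating form (any characteristic)
-/

open Polynomial Module Matrix
open Cfsg.Agent.Lib.Helper40_SpBasic Cfsg.Agent.Lib.Helper40_OConj Cfsg.Agent.Lib.Helper40_OConj.OData
  Cfsg.Agent.Lib.Helper40_QuadIso Cfsg.Agent.Lib.Helper99_OrthTSDefs

namespace Cfsg.Agent.Lib.Helper43_OrthTS_OC2

universe u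

section abstract

variable {F : Type u} [Field F] [Fintype F] {p : ℕ} [Fact p.Prime] [CharP F p]
variable {V : Type u} [AddCommGroup V] [Module F V] [FiniteDimensional F V]
variable {Q : QuadraticForm F V} {a : Module.End F V} {r : ℕ}

/-- OC2: on invariant subspaces of `[V, a]`: totally singular for `Q` ⟺ totally isotropic for the twisted
alternating form `tw Q a r (x, y) = pol Q ((a - a⁻¹) x) y`. -/
theorem OC2 (h : OData Q a r) {U : Submodule F V} (hU : U ≤ comm a) (hUinv : Inv a U) :
    (∀ u ∈ U, Q u = 0) ↔ IsoOn (tw Q a r) U := by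
  have hdelU : ∀ x ∈ U, del a r x ∈ U := by
    intro x hx
    show (a - a ^ (r - 1)) x ∈ U
    rw [LinearMap.sub_apply]
    exact U.sub_mem (hUinv x hx) (hUinv.pow_mem (r - 1) hx)
  have hsubU : ∀ x ∈ U, (a - 1) x ∈ U := by
    intro x hx
    rw [LinearMap.sub_apply, Module.End.one_apply]
    exact U.sub_mem (hUinv x hx) hx
  constructor
  · intro hts x hx y hy
    show pol Q (del a r x) y = 0
    rw [pol_apply, hts _ (U.add_mem (hdelU x hx) hy), hts _ (hdelU x hx), hts y hy]
    ring
  · intro hiso
    -- `del` is bijective on `U`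
    have hinj : Function.Injective ((del a r).restrict hdelU) := by
      intro x y hxy
      apply Subtype.ext
      have h1 : del a r ((x : V) - (y : V)) = 0 := by
        rw [map_sub, sub_eq_zero]
        exact congrArg Subtype.val hxy
      have h3 := h.del_injOn _ (hU (U.sub_mem x.2 y.2)) h1
      exact sub_eq_zero.1 h3
    have hsurj : Function.Surjective ((del a r).restrict hdelU) :=
      LinearMap.surjective_of_injective hinj
    have hpol : ∀ x ∈ U, ∀ y ∈ U, pol Q x y = 0 := by
      intro x hx y hy
      obtain ⟨x', hx'⟩ := hsurj ⟨x, hx⟩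
      have hx'' : del a r (x' : V) = x := congrArg Subtype.val hx'
      rw [← hx'']
      exact hiso _ x'.2 _ hy
    -- `a - 1` is bijective on `U`
    have hinj' : Function.Injective ((a - 1).restrict hsubU) := by
      intro x y hxy
      apply Subtype.ext
      have h1 : (a - 1) ((x : V) - (y : V)) = 0 := by
        rw [map_sub, sub_eq_zero]
        exact congrArg Subtype.val hxy
      rw [LinearMap.sub_apply, Module.End.one_apply, sub_eq_zero] at h1
      have h3 := h.eq_zero_of_fixed _ (hU (U.sub_mem x.2 y.2)) h1
      exact sub_eq_zero.1 h3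
    have hsurj' : Function.Surjective ((a - 1).restrict hsubU) :=
      LinearMap.surjective_of_injective hinj'
    intro u hu
    obtain ⟨u', hu'⟩ := hsurj' ⟨u, hu⟩
    have hu'' : (a - 1) (u' : V) = u := congrArg Subtype.val hu'
    rw [← hu'', h.Q_comm, hpol _ (hsubU _ u'.2) _ u'.2, neg_zero]

end abstract

end Cfsg.Agent.Lib.Helper43_OrthTS_OC2
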