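import Mathlib
import Cfsg.Agent.Lib.Helper32_P3Defs
import Cfsg.Agent.Lib.Helper32_OFRoot

/-!
# P3 market (architect helper32), package P3-FIXV (formalised by helper43)

An isometry of determinant one of a nondegenerate quadratic space of dimension three (characteristic
not two) fixes a non-zero vector.  In a basis: `Aᵀ S A = S` (`S` the Gram matrix, invertible), so
`Aᵀ S (A - 1) = (1 - Aᵀ) S` and `det S * det (A - 1) = - det (A - 1) * det S`, hence `det (A - 1) = 0`.
-/

set_option autoImplicit false
set_option linter.unusedVariables false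
set_option linter.unusedSectionVars false

namespace Cfsg.Agent.Lib.Helper43_P3_FIXV

open Module Cfsg.Agent.Lib.Helper94_Symp Cfsg.Agent.Lib.Helper94_OrthSmall
  Cfsg.Agent.Lib.Helper94_OrthSiegel Cfsg.Agent.Lib.Helper32_P3Defs

open scoped Matrix

variable {F : Type*} [Field F]

section Three

variable {U : Type*} [AddCommGroup U] [Module F U] [FiniteDimensional F U]
variable {Q : U → F} {B : LinearMap.BilinForm F U}

/-- P3-FIXV. -/
theorem FIXV (hQs : ∀ (a : F) (v : U), Q (a • v) = a * a * Q v)
    (hQp : ∀ u v : U, Q (u + v) = Q u + Q v + B u v) (h2 : (2 : F) ≠ 0) (hN : B.Nondegenerate)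
    (h3 : finrank F U = 3) {g : U ≃ₗ[F] U} (hg : g ∈ oG Q) (hdet : LinearEquiv.det g = 1) :
    ∃ v : U, v ≠ 0 ∧ g v = v := by
  classical
  let b : Basis (Fin 3) F U := Module.finBasisOfFinrankEq F U h3
  set A : Matrix (Fin 3) (Fin 3) F := LinearMap.toMatrix b b (g : U →ₗ[F] U) with hA
  set S : Matrix (Fin 3) (Fin 3) F := LinearMap.BilinForm.toMatrix b B with hS
  have hinv : B.comp (g : U →ₗ[F] U) (g : U →ₗ[F] U) = B := by
    ext u v
    simp only [LinearMap.BilinForm.comp_apply, LinearEquiv.coe_coe]
    exact oG_B Q B hQp hg u v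
  have h1 : Aᵀ * S * A = S := by
    rw [hA, hS, ← LinearMap.BilinForm.toMatrix_comp b b, hinv]
  have hdetS : S.det ≠ 0 := (LinearMap.BilinForm.nondegenerate_iff_det_ne_zero b).1 hN
  have hdetA : A.det = 1 := by
    rw [hA, LinearMap.det_toMatrix, ← LinearEquiv.coe_det, hdet, Units.val_one]
  have key : Aᵀ * S * (A - 1) = (1 - Aᵀ) * S := by
    rw [Matrix.mul_sub, h1, Matrix.mul_one, Matrix.sub_mul, Matrix.one_mul]
  have hd := congrArg Matrix.det key
  rw [Matrix.det_mul, Matrix.det_mul, Matrix.det_mul, Matrix.det_transpose, hdetA, one_mul] at hd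
  have hd2 : (1 - Aᵀ).det = -(A - 1).det := by
    have e : (1 - Aᵀ) = -((A - 1)ᵀ) := by
      rw [Matrix.transpose_sub, Matrix.transpose_one]
      abel
    rw [e, Matrix.det_neg, Matrix.det_transpose, Fintype.card_fin]
    ring
  rw [hd2] at hd
  have h0 : (A - 1).det = 0 := by
    have h4 : 2 * S.det * (A - 1).det = 0 := by linear_combination hd
    rcases mul_eq_zero.1 h4 with h | h
    · rcases mul_eq_zero.1 h with h | h
      · exact absurd h h2
      · exact absurd h hdetS
    · exact h
  obtain ⟨x, hx0, hx⟩ := Matrix.exists_mulVec_eq_zero_iff.2 h0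
  have hAx : A.mulVec x = x := by
    rw [Matrix.sub_mulVec, Matrix.one_mulVec, sub_eq_zero] at hx
    exact hx
  refine ⟨b.equivFun.symm x, ?_, ?_⟩
  · intro h
    apply hx0
    have := congrArg b.equivFun h
    rw [LinearEquiv.apply_symm_apply, map_zero] at this
    exact this
  · apply b.equivFun.injective
    have h5 := LinearMap.toMatrix_mulVec_repr b b (g : U →ₗ[F] U) (b.equivFun.symm x)
    have h6 : (b.repr (b.equivFun.symm x) : Fin 3 → F) = x := by
      have := b.equivFun.apply_symm_apply x
      exact this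
    rw [h6, ← hA, hAx] at h5
    have h7 : b.equivFun (g (b.equivFun.symm x)) = x := h5.symm
    rw [h7, LinearEquiv.apply_symm_apply]

end Three

end Cfsg.Agent.Lib.Helper43_P3_FIXV
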