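import Mathlib
import Cfsg.Prelude.Def_Blocks

/-!
# Relative central characters: definitions (helper78)

For a subgroup `N` of `G` and `g : G`, `relIdx N g = |N : C_N(g)|` is the size of the orbit of `g`
under conjugation by `N`, and `relOmega N χ g = |N : C_N(g)| χ(g) / χ(1)` is the scalar by which the
`N`-orbit sum of `g` acts on a module affording `χ` whose restriction to `N` is irreducible
(the relative central character). Used for S4937.
-/

set_option autoImplicit false

namespace Cfsg.Agent.Lib.Helper78_RCDefs

open Cfsg

/-- `|N : C_N(g)|`, the size of the orbit of `g` under conjugation by `N`. -/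
noncomputable def relIdx {G : Type*} [Group G] (N : Subgroup G) (g : G) : ℕ :=
  ((Subgroup.centralizer ({g} : Set G)).subgroupOf N).index

/-- The relative central character `|N : C_N(g)| χ(g) / χ(1)`. -/
noncomputable def relOmega {G : Type*} [Group G] (N : Subgroup G) (χ : G → ℂ) (g : G) : ℂ :=
  (relIdx N g : ℂ) * χ g / χ 1

end Cfsg.Agent.Lib.Helper78_RCDefs
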