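import Mathlib
import Cfsg.Prelude.Def_Blocks
import Cfsg.Prelude.Def_CharExt
import Cfsg.Agent.Lib.Helper78_RCDefs

/-!
# `p`-rational extensions in the principal block (S4892): definitions (helper78)

* `IsGood M N χ`: `relOmega N χ g ≡ |N : C_N(g)|` modulo the local ideal for all `g` (then `χ|_J` lies in
  the principal block of `J` for every `N ≤ J`, see `Helper78_RCMain.good_ext_spec`).
* `HasGoodReps p N`: every coset of `N` contains an element whose `N`-orbit has size prime to `p`.
* `RCHyp p G N`: there is a `p`-subgroup `P ≤ N` of index prime to `p` in `N` with `G = N · C_G(P)`.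
* `PTorsionFree p K₀`: every root of unity in the subfield `K₀ ⊆ ℂ` has order prime to `p`.
-/

set_option autoImplicit false

namespace Cfsg.Agent.Lib.Helper78_PRDefs

open Cfsg Cfsg.Agent.Lib.Helper78_RCDefs

/-- A good function: its relative central character is `≡ |K_g|` modulo the local ideal. -/
def IsGood (M : Ideal AlgInt) {G : Type*} [Group G] (N : Subgroup G) (χ : G → ℂ) : Prop :=
  ∀ g : G, MemLocalIdeal M (relOmega N χ g - (relIdx N g : ℂ))

/-- Every coset of `N` contains an element whose `N`-orbit has size prime to `p`. -/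
def HasGoodReps (p : ℕ) {G : Type*} [Group G] (N : Subgroup G) : Prop :=
  ∀ g : G, ∃ c : G, g⁻¹ * c ∈ N ∧ ¬ p ∣ relIdx N c

/-- `G = N · C_G(P)` for a `p`-subgroup `P` of `N` of index prime to `p` in `N`. -/
def RCHyp (p : ℕ) (G : Type*) [Group G] (N : Subgroup G) : Prop :=
  ∃ P : Subgroup G, IsPGroup p P ∧ P ≤ N ∧ ¬ p ∣ P.relIndex N ∧
    ∀ g : G, ∃ n ∈ N, ∃ c ∈ Subgroup.centralizer (P : Set G), g = n * c

/-- Every root of unity in `K₀` has order prime to `p`. -/
def PTorsionFree (p : ℕ) (K₀ : Subfield ℂ) : Prop :=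
  ∀ ζ ∈ K₀, ∀ k : ℕ, 0 < k → ζ ^ k = 1 → ∃ r : ℕ, ¬ p ∣ r ∧ ζ ^ r = 1

end Cfsg.Agent.Lib.Helper78_PRDefs
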