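import Mathlib
import Cfsg.Prelude.Def_Blocks
import Cfsg.Prelude.Def_CharExt
import Cfsg.Agent.Lib.Helper78_RCDefs
import Cfsg.Agent.Lib.Helper78_PRDefs
import Cfsg.Agent.Lib.Helper78_LocalRing

/-!
# S4892 package PR-GOODINV (architect helper78)

Goodness of a class function is invariant under automorphisms stabilising `N` and under power maps
`h ↦ h ^ k` with `k` prime to the group order.
-/

set_option autoImplicit false

namespace Cfsg.Agent.Lib.Helper43_PR_GOODINV

open Cfsg Cfsg.Agent.Lib.Helper78_RCDefs Cfsg.Agent.Lib.Helper78_PRDefs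
  Cfsg.Agent.Lib.Helper78_LocalRing

universe u

variable {p : ℕ} {M : Ideal AlgInt}

theorem relIdx_eq_relIndex {G : Type*} [Group G] (N : Subgroup G) (g : G) :
    relIdx N g = (Subgroup.centralizer ({g} : Set G)).relIndex N := rfl

/-- an automorphism stabilising `N` preserves the sizes of the `N`-orbits -/
theorem relIdx_mulEquiv {H : Type*} [Group H] (N : Subgroup H) (α : H ≃* H)
    (hα : ∀ h : H, α h ∈ N ↔ h ∈ N) (h : H) : relIdx N (α h) = relIdx N h := by
  have h1 : (Subgroup.centralizer ({h} : Set H)).map α.toMonoidHom =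
      Subgroup.centralizer ({α h} : Set H) := by
    ext x
    simp only [Subgroup.mem_map, Subgroup.mem_centralizer_iff, Set.mem_singleton_iff, forall_eq]
    constructor
    · rintro ⟨y, hy, rfl⟩
      show α h * α y = α y * α h
      rw [← map_mul, ← map_mul, hy]
    · intro hx
      refine ⟨α.symm x, ?_, α.apply_symm_apply x⟩
      apply α.injective
      rw [map_mul, map_mul, α.apply_symm_apply]
      exact hx
  have h2 : N.map α.toMonoidHom = N := by
    ext x
    simp only [Subgroup.mem_map]
    constructor
    · rintro ⟨y, hy, rfl⟩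
      exact (hα y).2 hy
    · intro hx
      refine ⟨α.symm x, ?_, α.apply_symm_apply x⟩
      rw [← hα, α.apply_symm_apply]
      exact hx
  rw [relIdx_eq_relIndex, relIdx_eq_relIndex, ← h1]
  conv_lhs => rw [← h2]
  exact Subgroup.relIndex_map_map_of_injective _ _ α.injective

/-- PR-GOODINV (a) -/
theorem isGood_comp_mulEquiv {H : Type u} [Group H] [Finite H] (N : Subgroup H) (χ : H → ℂ)
    (hgood : IsGood M N χ) (α : H ≃* H) (hα : ∀ h : H, α h ∈ N ↔ h ∈ N) :
    IsGood M N (fun h => χ (α h)) := by
  intro h
  have h1 := hgood (α h)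
  have h2 : relOmega N (fun h => χ (α h)) h = relOmega N χ (α h) := by
    unfold relOmega
    rw [relIdx_mulEquiv N α hα h]
    show (relIdx N h : ℂ) * χ (α h) / χ (α 1) = _
    rw [map_one]
  rw [h2, ← relIdx_mulEquiv N α hα h]
  exact h1

/-- a power map with exponent prime to the group order preserves the sizes of the `N`-orbits -/
theorem relIdx_pow {H : Type*} [Group H] [Finite H] (N : Subgroup H) (k : ℕ)
    (hk : k.Coprime (Nat.card H)) (h : H) : relIdx N (h ^ k) = relIdx N h := by
  have hk' : k.Coprime (orderOf h) := hk.coprime_dvd_right (orderOf_dvd_natCard h)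
  obtain ⟨l, hl⟩ := exists_pow_eq_self_of_coprime hk'
  have h1 : Subgroup.centralizer ({h ^ k} : Set H) = Subgroup.centralizer ({h} : Set H) := by
    ext x
    simp only [Subgroup.mem_centralizer_iff, Set.mem_singleton_iff, forall_eq]
    constructor
    · intro hx
      have hc : Commute (h ^ k) x := hx
      have := hc.pow_left l
      rw [hl] at this
      exact this
    · intro hx
      have hc : Commute h x := hx
      exact hc.pow_left k
  rw [relIdx_eq_relIndex, relIdx_eq_relIndex, h1]

/-- PR-GOODINV (b) -/
theorem isGood_powMap {H : Type u} [Group H] [Finite H] (N : Subgroup H) (χ : H → ℂ)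
    (hgood : IsGood M N χ) (k : ℕ) (hk : k.Coprime (Nat.card H)) :
    IsGood M N (fun h => χ (h ^ k)) := by
  intro h
  have h1 := hgood (h ^ k)
  have h2 : relOmega N (fun h => χ (h ^ k)) h = relOmega N χ (h ^ k) := by
    unfold relOmega
    rw [relIdx_pow N k hk h]
    show (relIdx N h : ℂ) * χ (h ^ k) / χ (1 ^ k) = _
    rw [one_pow]
  rw [h2, ← relIdx_pow N k hk h]
  exact h1

end Cfsg.Agent.Lib.Helper43_PR_GOODINV
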