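import Mathlib
import Cfsg.Prelude.Def_Blocks
import Cfsg.Prelude.Def_CharExt
import Cfsg.Agent.Lib.Helper78_RCDefs
import Cfsg.Agent.Lib.Helper78_PRDefs

/-!
# S4892 package PR-TORS (architect helper78)

A root of unity of `ℚ(ζ_m)` has order dividing `2m`; hence for `p` odd, `p ∤ m`, the field `ℚ(ζ_m)`
is `p`-torsion free.
-/

set_option autoImplicit false

namespace Cfsg.Agent.Lib.Helper43_PR_TORS

open Cfsg Cfsg.Agent.Lib.Helper78_RCDefs Cfsg.Agent.Lib.Helper78_PRDefs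

universe u

variable {p : ℕ} {M : Ideal AlgInt}

/-- a root of unity of `ℚ(ζ_m)` has order dividing `2m` -/
theorem pow_two_mul_eq_one (m : ℕ) (hm0 : m ≠ 0) (ζ : ℂ)
    (hζ : ζ ∈ IntermediateField.adjoin ℚ ({Complex.exp (2 * Real.pi * Complex.I / m)} : Set ℂ))
    (k : ℕ) (hk : 0 < k) (hζk : ζ ^ k = 1) : ζ ^ (2 * m) = 1 := by
  have : NeZero m := ⟨hm0⟩
  have hζm : IsPrimitiveRoot (Complex.exp (2 * Real.pi * Complex.I / m)) m :=
    Complex.isPrimitiveRoot_exp m hm0
  have halg : IsAlgebraic ℚ (Complex.exp (2 * Real.pi * Complex.I / m)) :=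
    ((hζm.isIntegral (Nat.pos_of_ne_zero hm0)).tower_top (A := ℚ)).isAlgebraic
  have hcyc : IsCyclotomicExtension {m} ℚ
      (IntermediateField.adjoin ℚ ({Complex.exp (2 * Real.pi * Complex.I / m)} : Set ℂ)) := by
    change IsCyclotomicExtension {m} ℚ (IntermediateField.adjoin ℚ
      ({Complex.exp (2 * Real.pi * Complex.I / m)} : Set ℂ)).toSubalgebra
    rw [IntermediateField.adjoin_simple_toSubalgebra_of_isAlgebraic halg]
    exact hζm.adjoin_isCyclotomicExtension ℚ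
  have : NumberField
      (IntermediateField.adjoin ℚ ({Complex.exp (2 * Real.pi * Complex.I / m)} : Set ℂ)) :=
    IsCyclotomicExtension.numberField {m} ℚ _
  set z : IntermediateField.adjoin ℚ ({Complex.exp (2 * Real.pi * Complex.I / m)} : Set ℂ) :=
    ⟨ζ, hζ⟩ with hzdef
  have hz : z ^ k = 1 := by
    apply Subtype.ext
    rw [SubmonoidClass.coe_pow]
    exact hζk
  have hr : 0 < orderOf z :=
    orderOf_pos_iff.mpr (isOfFinOrder_iff_pow_eq_one.mpr ⟨k, hk, hz⟩)
  have : NeZero (orderOf z) := ⟨hr.ne'⟩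
  have hprim : IsPrimitiveRoot z (orderOf z) := IsPrimitiveRoot.orderOf z
  have hdvd := NumberField.Units.dvd_torsionOrder_of_isPrimitiveRoot hprim
  rw [IsCyclotomicExtension.Rat.torsionOrder_eq (n := m)] at hdvd
  have h2 : orderOf z ∣ 2 * m := by
    split_ifs at hdvd with he
    · exact hdvd.trans (Dvd.intro_left 2 rfl)
    · exact hdvd
  have h1 : z ^ (2 * m) = 1 := orderOf_dvd_iff_pow_eq_one.mp h2
  have h3 := congrArg (fun x : IntermediateField.adjoin ℚ
    ({Complex.exp (2 * Real.pi * Complex.I / m)} : Set ℂ) => (x : ℂ)) h1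
  simpa [hzdef] using h3

/-- PR-TORS -/
theorem pTorsionFree_adjoin [Fact p.Prime] (hp : p ≠ 2) (m : ℕ) (hm : ¬ p ∣ m) :
    PTorsionFree p (IntermediateField.adjoin ℚ
      ({Complex.exp (2 * Real.pi * Complex.I / m)} : Set ℂ)).toSubfield := by
  have hm0 : m ≠ 0 := by
    rintro rfl
    exact hm (dvd_zero p)
  intro ζ hζ k hk hζk
  refine ⟨2 * m, ?_, pow_two_mul_eq_one m hm0 ζ hζ k hk hζk⟩
  intro h
  have hpp : p.Prime := Fact.out
  rcases hpp.dvd_mul.mp h with h2 | h2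
  · exact hp ((Nat.prime_dvd_prime_iff_eq hpp Nat.prime_two).mp h2)
  · exact hm h2

end Cfsg.Agent.Lib.Helper43_PR_TORS
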