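import Mathlib
import Cfsg.Agent.Lib.Helper5_SLGen
import Cfsg.Agent.Lib.Helper5_PSLSimple

set_option autoImplicit false

/-!
# PSLFBAL package F_SLDICH (architect helper44): a normal subgroup of `SL_n(F₀)` (any field,
`n ≥ 2`) is central or contains the commutator subgroup (Iwasawa criterion on the projective space).
-/

namespace Cfsg.Agent.Lib.Helper43_PSLFBAL_SLDICH

open Matrix Matrix.SpecialLinearGroup MulAction
open scoped MatrixGroups LinearAlgebra.Projectivization

variable {F : Type*} [Field F] {ι : Type*} [DecidableEq ι] [Fintype ι]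

/-- the Iwasawa structure of `SL ι F` acting on the projective space -/
noncomputable def iwasawaSL [Nontrivial ι] :
    IwasawaStructure (Matrix.SpecialLinearGroup ι F) (ℙ F (ι → F)) where
  T p := lineStab (F := F) (ι := ι) p.submodule
  is_comm p := by
    rw [← Projectivization.mk_rep p, Projectivization.submodule_mk]
    exact lineStab_isMulCommutative_of_span p.rep p.rep_nonzero
  is_conj g p := by
    rw [PSL.smul_submodule, Matrix.SpecialLinearGroup.lineStab_smul]
  is_generator := Cfsg.Agent.Lib.Helper5_PSLSimple.iSup_lineStab_eq_top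

/-- a normal subgroup of `SL ι F` is central or contains the commutator subgroup -/
theorem sl_normal_dichotomy' [Nontrivial ι] (N : Subgroup (Matrix.SpecialLinearGroup ι F))
    [hN : N.Normal] :
    N ≤ Subgroup.center (Matrix.SpecialLinearGroup ι F) ∨
      commutator (Matrix.SpecialLinearGroup ι F) ≤ N := by
  by_cases hfix : MulAction.fixedPoints N (ℙ F (ι → F)) = Set.univ
  · left
    intro g hg
    rw [← Projectivization.SL_mulAction_ker (K := F) (ι := ι), MonoidHom.mem_ker]
    ext p
    have hmem : p ∈ MulAction.fixedPoints N (ℙ F (ι → F)) := by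
      rw [hfix]
      trivial
    exact hmem ⟨g, hg⟩
  · right
    exact (iwasawaSL (F := F) (ι := ι)).commutator_le N hfix

/-- F_SLDICH (M) -/
theorem sl_normal_dichotomy {F₀ : Type*} [Field F₀] {n : ℕ} (hn : 2 ≤ n)
    (N : Subgroup (Matrix.SpecialLinearGroup (Fin n) F₀)) [hN : N.Normal] :
    N ≤ Subgroup.center (Matrix.SpecialLinearGroup (Fin n) F₀) ∨
      commutator (Matrix.SpecialLinearGroup (Fin n) F₀) ≤ N := by
  have : Nontrivial (Fin n) := Fin.nontrivial_iff_two_le.mpr hn
  exact sl_normal_dichotomy' N

end Cfsg.Agent.Lib.Helper43_PSLFBAL_SLDICH
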