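import Mathlib
import Cfsg.Agent.Lib.Helper5_SLGen

set_option autoImplicit false

/-!
# PSLFBAL package F_SLGEN (architect helper44): `SL_n` is generated by the elementary transvections.
-/

namespace Cfsg.Agent.Lib.Helper43_PSLFBAL_SLGEN

open Matrix

/-- F_SLGEN (S): SL_n is generated by the elementary transvections. -/
theorem sl_closure_transvections {F₀ : Type*} [Field F₀] {n : ℕ} (hn : 2 ≤ n) :
    Subgroup.closure {A : Matrix.SpecialLinearGroup (Fin n) F₀ |
      ∃ (i j : Fin n) (hij : i ≠ j) (c : F₀),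
        A = Matrix.SpecialLinearGroup.transvection hij c} = ⊤ := by
  have : Nontrivial (Fin n) := Fin.nontrivial_iff_two_le.mpr hn
  rw [eq_top_iff]
  intro A _
  refine Cfsg.Agent.Lib.Helper5_SLGen.transvection_induction
    (fun s => s ∈ Subgroup.closure {A : Matrix.SpecialLinearGroup (Fin n) F₀ |
      ∃ (i j : Fin n) (hij : i ≠ j) (c : F₀),
        A = Matrix.SpecialLinearGroup.transvection hij c}) ?_ ?_ A
  · intro i j hij c
    exact Subgroup.subset_closure ⟨i, j, hij, c, rfl⟩
  · intro A B hA hB
    exact Subgroup.mul_mem _ hA hB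

end Cfsg.Agent.Lib.Helper43_PSLFBAL_SLGEN
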