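import Mathlib
import Cfsg.Prelude.Def_Blocks
import Cfsg.Agent.Lib.Helper78_RCDefs
import Cfsg.Agent.Lib.Helper78_LocalRing

/-!
# Orbit sums for a finite group action (helper78)

For a finite group `N` acting on `X`:
* `orb N x` is the orbit of `x` as a finset, `card_orb : (orb N x).card = (stabilizer N x).index`;
* `sum_smul_eq : ∑ n, F (n • x) = |Stab x| • ∑ k ∈ orb N x, F k`;
* `memLocalIdeal_sum_of_orbits`: an `N`-invariant `Φ : X → ℂ` with `|N : Stab x| Φ x` in the local
  ideal for every `x` has its total sum in the local ideal.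
The conjugation action of a subgroup `N` on `G` is `conjMulAction N`, with stabilizers
`(centralizer {g}).subgroupOf N`, so that `relIdx N g` is the orbit size.
-/

set_option autoImplicit false

namespace Cfsg.Agent.Lib.Helper78_RCOrb

open Cfsg Cfsg.Agent.Lib.Helper78_RCDefs Cfsg.Agent.Lib.Helper78_LocalRing

section Action

variable {N X : Type*} [Group N] [Fintype N] [MulAction N X] [DecidableEq X]

/-- The orbit of `x` as a finset. -/
noncomputable def orb (N : Type*) {X : Type*} [Group N] [Fintype N] [MulAction N X] [DecidableEq X]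
    (x : X) : Finset X :=
  Finset.univ.image (fun n : N => n • x)

theorem mem_orb {x k : X} : k ∈ orb N x ↔ ∃ n : N, n • x = k := by
  unfold orb
  simp

theorem mem_orb_self (x : X) : x ∈ orb N x := mem_orb.2 ⟨1, one_smul N x⟩

theorem smul_mem_orb (n : N) (x : X) : n • x ∈ orb N x := mem_orb.2 ⟨n, rfl⟩

theorem mem_orb_iff_mem_orbit {x k : X} : k ∈ orb N x ↔ k ∈ MulAction.orbit N x := by
  rw [mem_orb, MulAction.mem_orbit_iff]

theorem card_fiber (x k : X) (hk : k ∈ orb N x) :
    (Finset.univ.filter (fun n : N => n • x = k)).card =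
      Nat.card (MulAction.stabilizer N x) := by
  classical
  obtain ⟨c, hc⟩ := mem_orb.1 hk
  rw [Nat.card_eq_fintype_card, ← Fintype.card_subtype]
  refine Fintype.card_congr ⟨fun n => ⟨c⁻¹ * n.1, ?_⟩, fun z => ⟨c * z.1, ?_⟩, ?_, ?_⟩
  · rw [MulAction.mem_stabilizer_iff, mul_smul, n.2, ← hc, inv_smul_smul]
  · have hz := z.2
    rw [MulAction.mem_stabilizer_iff] at hz
    rw [mul_smul, hz, hc]
  · intro n
    ext
    simp
  · intro z
    ext
    simp

theorem sum_smul_eq {A : Type*} [AddCommMonoid A] (x : X) (F : X → A) :
    ∑ n : N, F (n • x) = Nat.card (MulAction.stabilizer N x) • ∑ k ∈ orb N x, F k := by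
  classical
  rw [Finset.sum_comp F (fun n : N => n • x), Finset.smul_sum]
  refine Finset.sum_congr rfl fun k hk => ?_
  rw [card_fiber x k hk]

theorem card_orb (x : X) : (orb N x).card = (MulAction.stabilizer N x).index := by
  classical
  have h := sum_smul_eq (N := N) x (fun _ : X => (1 : ℕ))
  simp only [Finset.sum_const, Finset.card_univ, smul_eq_mul, mul_one] at h
  have h2 := Subgroup.card_mul_index (MulAction.stabilizer N x)
  rw [Nat.card_eq_fintype_card (α := N), h] at h2
  have hpos : 0 < Nat.card (MulAction.stabilizer N x) := Nat.card_pos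
  exact (Nat.eq_of_mul_eq_mul_left hpos h2).symm

variable {M : Ideal AlgInt}

/-- An invariant function whose value at each point, multiplied by the orbit size, lies in the
local ideal has its total sum in the local ideal. -/
theorem memLocalIdeal_sum_of_orbits [Fintype X] (hM : M.IsPrime) (Φ : X → ℂ)
    (hinv : ∀ (n : N) (x : X), Φ (n • x) = Φ x)
    (h : ∀ x, MemLocalIdeal M (((MulAction.stabilizer N x).index : ℂ) * Φ x)) :
    MemLocalIdeal M (∑ x, Φ x) := by
  classical
  rw [Finset.sum_partition (MulAction.orbitRel N X)]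
  refine memLocalIdeal_sum hM _ _ fun q _ => ?_
  induction q using Quotient.inductionOn with
  | h x₀ =>
    have hfil : Finset.univ.filter (fun y : X => (⟦y⟧ : Quotient (MulAction.orbitRel N X)) = ⟦x₀⟧) =
        orb N x₀ := by
      ext y
      simp only [Finset.mem_filter, Finset.mem_univ, true_and]
      rw [Quotient.eq, MulAction.orbitRel_apply, mem_orb_iff_mem_orbit]
    rw [hfil]
    have hconst : ∀ y ∈ orb N x₀, Φ y = Φ x₀ := by
      intro y hy
      obtain ⟨n, rfl⟩ := mem_orb.1 hy
      exact hinv n x₀
    rw [Finset.sum_congr rfl hconst, Finset.sum_const, card_orb, nsmul_eq_mul]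
    exact h x₀

end Action

section Conj

variable {G : Type*} [Group G]

/-- The conjugation action of a subgroup `N` on `G`. -/
@[reducible] def conjMulAction (N : Subgroup G) : MulAction N G where
  smul n g := (n : G) * g * (n : G)⁻¹
  one_smul g := by
    show ((1 : N) : G) * g * ((1 : N) : G)⁻¹ = g
    simp
  mul_smul a b g := by
    show ((a * b : N) : G) * g * ((a * b : N) : G)⁻¹ = (a : G) * ((b : G) * g * (b : G)⁻¹) * (a : G)⁻¹
    rw [Subgroup.coe_mul]
    group

theorem conj_smul_def (N : Subgroup G) (n : N) (g : G) :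
    (conjMulAction N).smul n g = (n : G) * g * (n : G)⁻¹ := rfl

theorem stabilizer_conj (N : Subgroup G) (g : G) :
    @MulAction.stabilizer N G _ (conjMulAction N) g =
      (Subgroup.centralizer ({g} : Set G)).subgroupOf N := by
  letI := conjMulAction N
  ext n
  rw [MulAction.mem_stabilizer_iff, Subgroup.mem_subgroupOf, Subgroup.mem_centralizer_iff]
  show (n : G) * g * (n : G)⁻¹ = g ↔ _
  constructor
  · intro h y hy
    rw [Set.mem_singleton_iff] at hy
    subst hy
    have h1 : (n : G) * y = y * (n : G) := by
      have := congrArg (· * (n : G)) h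
      simpa using this
    exact h1.symm
  · intro h
    have h1 := h g (Set.mem_singleton g)
    rw [← h1]
    group

theorem relIdx_eq_index_stabilizer (N : Subgroup G) (g : G) :
    relIdx N g = (@MulAction.stabilizer N G _ (conjMulAction N) g).index := by
  rw [stabilizer_conj]
  rfl

end Conj

end Cfsg.Agent.Lib.Helper78_RCOrb
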