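import Mathlib
import Cfsg.Prelude.Def_Blocks
import Cfsg.Agent.Lib.Helper78_RCDefs
import Cfsg.Agent.Lib.Helper78_RCOrb
import Cfsg.Agent.Lib.Helper78_CentralChar
import Cfsg.Agent.Lib.Helper3_RepDecomp
import Cfsg.Agent.Lib.Helper3_CharBridge
import Cfsg.Agent.Lib.Helper75_ExtendCyclic

/-!
# RC-SCHUR and RC-IRR: relative central characters (helper78)

For a representation `ρ` of `G` whose restriction to the subgroup `N` is irreducible:
* `∑ n : N, ρ (n g n⁻¹)` is the scalar `|N| χ(g) / χ(1)`;
* `∑ n : N, χ (h (n g n⁻¹)) = |N| χ(h) χ(g) / χ(1)`;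
* the sum of `ρ` over the `N`-orbit of `g` is the scalar `relOmega N χ g`, an algebraic integer.
Restated for `Cfsg.IsIrrCharacter`: `sum_conj_mul`, `isIntegral_relOmega`, and
`isIrr_res_of_isIrr_res` (a character with irreducible restriction to `N` restricts irreducibly
to every `J ≥ N`).
-/

set_option autoImplicit false
set_option linter.unusedSectionVars false

namespace Cfsg.Agent.Lib.Helper78_RC_SCHUR

open Cfsg Representation Cfsg.Agent.Lib.Helper78_RCDefs Cfsg.Agent.Lib.Helper78_RCOrb
  Cfsg.Agent.Lib.Helper78_CentralChar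

section Rep

variable {G V : Type*} [Group G] [AddCommGroup V] [Module ℂ V] [FiniteDimensional ℂ V]

/-- The restriction of a representation to a subgroup. -/
abbrev resRep (ρ : Representation ℂ G V) (N : Subgroup G) : Representation ℂ N V :=
  ρ.comp N.subtype

theorem resRep_apply (ρ : Representation ℂ G V) (N : Subgroup G) (n : N) :
    resRep ρ N n = ρ (n : G) := rfl

theorem resRep_character (ρ : Representation ℂ G V) (N : Subgroup G) :
    (resRep ρ N).character = fun n : N => ρ.character (n : G) := rfl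

variable (N : Subgroup G) [Fintype N]

/-- The sum of `ρ` over all `N`-conjugates `n g n⁻¹`, `n : N`. -/
noncomputable def relSumOp (ρ : Representation ℂ G V) (g : G) : V →ₗ[ℂ] V :=
  ∑ n : N, ρ ((n : G) * g * (n : G)⁻¹)

theorem relSumOp_comm (ρ : Representation ℂ G V) (g : G) (m : N) :
    relSumOp N ρ g ∘ₗ ρ (m : G) = ρ (m : G) ∘ₗ relSumOp N ρ g := by
  unfold relSumOp
  rw [← Module.End.mul_eq_comp, ← Module.End.mul_eq_comp, Finset.sum_mul, Finset.mul_sum]
  rw [← Equiv.sum_comp (Equiv.mulLeft m) (fun n : N => ρ ((n : G) * g * (n : G)⁻¹) * ρ (m : G))]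
  refine Finset.sum_congr rfl fun n _ => ?_
  simp only [Equiv.coe_mulLeft, Subgroup.coe_mul]
  rw [← map_mul, ← map_mul]
  congr 1
  group

theorem trace_relSumOp (ρ : Representation ℂ G V) (g : G) :
    LinearMap.trace ℂ V (relSumOp N ρ g) = (Nat.card N : ℂ) * ρ.character g := by
  unfold relSumOp
  rw [map_sum]
  have : ∀ n : N, LinearMap.trace ℂ V (ρ ((n : G) * g * (n : G)⁻¹)) = ρ.character g :=
    fun n => char_conj ρ g n
  simp only [this, Finset.sum_const, Finset.card_univ, nsmul_eq_mul, Nat.card_eq_fintype_card]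

/-- The relative conjugate-sum operator is a scalar. -/
theorem relSumOp_eq_smul (ρ : Representation ℂ G V) [hirr : (resRep ρ N).IsIrreducible] (g : G) :
    relSumOp N ρ g = ((Nat.card N : ℂ) * ρ.character g / ρ.character 1) • LinearMap.id := by
  obtain ⟨c, hc⟩ := exists_scalar_of_commute (resRep ρ N) (relSumOp N ρ g)
    (fun m => relSumOp_comm N ρ g m)
  have h1 := trace_relSumOp N ρ g
  rw [hc, map_smul, LinearMap.trace_id, smul_eq_mul] at h1
  have h0 : (resRep ρ N).character 1 ≠ 0 := character_one_ne_zero (resRep ρ N)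
  rw [char_one] at h0
  rw [hc]
  congr 1
  rw [char_one]
  field_simp
  exact h1

/-- Relative generalized orthogonality. -/
theorem sum_character_mul_relConj (ρ : Representation ℂ G V) [hirr : (resRep ρ N).IsIrreducible]
    (g h : G) :
    ∑ n : N, ρ.character (g * ((n : G) * h * (n : G)⁻¹)) =
      (Nat.card N : ℂ) * ρ.character g * ρ.character h / ρ.character 1 := by
  have h1 : ∑ n : N, ρ.character (g * ((n : G) * h * (n : G)⁻¹)) =
      LinearMap.trace ℂ V (ρ g ∘ₗ relSumOp N ρ h) := by
    unfold relSumOp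
    rw [← Module.End.mul_eq_comp, Finset.mul_sum, map_sum]
    refine Finset.sum_congr rfl fun x _ => ?_
    rw [← map_mul]
    rfl
  rw [h1, relSumOp_eq_smul, LinearMap.comp_smul, map_smul, LinearMap.comp_id, smul_eq_mul]
  show _ * ρ.character g = _
  ring

variable [DecidableEq G]

/-- The sum of `ρ` over the `N`-orbit of `g`. -/
noncomputable def orbSumOp (ρ : Representation ℂ G V) (g : G) : V →ₗ[ℂ] V :=
  letI := conjMulAction N
  ∑ k ∈ orb N g, ρ k

theorem relSumOp_eq_nsmul_orbSumOp (ρ : Representation ℂ G V) (g : G) :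
    relSumOp N ρ g =
      Nat.card (@MulAction.stabilizer N G _ (conjMulAction N) g) • orbSumOp N ρ g := by
  letI := conjMulAction N
  exact sum_smul_eq (N := N) g (fun k => ρ k)

theorem card_eq_card_stabilizer_mul_relIdx (g : G) :
    Nat.card N = Nat.card (@MulAction.stabilizer N G _ (conjMulAction N) g) * relIdx N g := by
  rw [relIdx_eq_index_stabilizer]
  exact (Subgroup.card_mul_index _).symm

/-- The orbit sum of `g` acts as the scalar `relOmega N χ g`. -/
theorem orbSumOp_eq_smul (ρ : Representation ℂ G V) [hirr : (resRep ρ N).IsIrreducible] (g : G) :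
    orbSumOp N ρ g = relOmega N ρ.character g • LinearMap.id := by
  have h1 := relSumOp_eq_smul N ρ g
  rw [relSumOp_eq_nsmul_orbSumOp] at h1
  set s := Nat.card (@MulAction.stabilizer N G _ (conjMulAction N) g) with hs
  have hpos : (s : ℂ) ≠ 0 := by
    have : 0 < s := Nat.card_pos
    exact_mod_cast this.ne'
  have hcard : (Nat.card N : ℂ) = (s : ℂ) * (relIdx N g : ℂ) := by
    have := card_eq_card_stabilizer_mul_relIdx N g
    rw [this]; push_cast; rfl
  have h2 : (s : ℂ) • orbSumOp N ρ g =
      ((Nat.card N : ℂ) * ρ.character g / ρ.character 1) • LinearMap.id := by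
    rw [← h1]
    exact (Nat.cast_smul_eq_nsmul ℂ _ _)
  have h3 : orbSumOp N ρ g = (s : ℂ)⁻¹ •
      (((Nat.card N : ℂ) * ρ.character g / ρ.character 1) • LinearMap.id) := by
    rw [← h2, smul_smul, inv_mul_cancel₀ hpos, one_smul]
  rw [h3, smul_smul]
  congr 1
  unfold relOmega
  rw [hcard]
  field_simp

/-- The relative central character takes algebraic integer values. -/
theorem isIntegral_relOmega_rep [Finite G] (ρ : Representation ℂ G V)
    [hirr : (resRep ρ N).IsIrreducible] (g : G) : IsIntegral ℤ (relOmega N ρ.character g) := by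
  have := nontrivial_of_irreducible (resRep ρ N)
  letI := conjMulAction N
  let s : MonoidAlgebra ℤ G := ∑ k ∈ orb N g, MonoidAlgebra.of ℤ G k
  have hs : IsIntegral ℤ s := IsIntegral.of_finite ℤ s
  let φ : MonoidAlgebra ℤ G →ₐ[ℤ] Module.End ℂ V := MonoidAlgebra.lift ℤ (Module.End ℂ V) G ρ
  have hφ : IsIntegral ℤ (φ s) := hs.map φ
  have hφs : φ s = orbSumOp N ρ g := by
    simp only [s, φ, map_sum, MonoidAlgebra.lift_of]
    rfl
  rw [hφs, orbSumOp_eq_smul] at hφ
  have hinj : Function.Injective (algebraMap ℂ (Module.End ℂ V)) :=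
    (algebraMap ℂ (Module.End ℂ V)).injective
  have h4 : relOmega N ρ.character g • (LinearMap.id : V →ₗ[ℂ] V) =
      algebraMap ℂ (Module.End ℂ V) (relOmega N ρ.character g) := by
    rw [Algebra.algebraMap_eq_smul_one]
    rfl
  rw [h4] at hφ
  exact (isIntegral_algebraMap_iff hinj).1 hφ

end Rep

section Irr

universe u

variable {G : Type u} [Group G]

/-- If the restriction to `N` of the character of `ρ` is an irreducible character of `N`, then
the restriction of `ρ` to `N` is irreducible. -/
theorem resRep_isIrreducible [Finite G] (N : Subgroup G) {n : ℕ}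
    (ρ : Representation ℂ G (Fin n → ℂ))
    (hres : IsIrrCharacter N (fun m : N => ρ.character (m : G))) :
    (resRep ρ N).IsIrreducible := by
  classical
  have := Fintype.ofFinite N
  obtain ⟨m, σ, hσ, hσc⟩ := hres
  have hc : σ.character = (resRep ρ N).character := by
    rw [hσc, resRep_character]
  obtain ⟨e⟩ := Cfsg.Agent.Lib.Helper3_RepDecomp.nonempty_equiv_of_char_eq σ (resRep ρ N) hc
  exact Cfsg.Agent.Lib.Helper3_CharBridge.isIrreducible_of_equiv e

/-- **RC-SCHUR (a).** Relative generalized orthogonality. -/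
theorem sum_conj_mul {G : Type u} [Group G] [Fintype G] (N : Subgroup G) [Fintype N]
    (ψ : G → ℂ) (hψ : IsIrrCharacter G ψ) (hres : IsIrrCharacter N (fun n : N => ψ n)) (g h : G) :
    ∑ n : N, ψ (g * ((n : G) * h * (n : G)⁻¹)) = (Nat.card N : ℂ) * ψ g * ψ h / ψ 1 := by
  obtain ⟨n, ρ, hρ, rfl⟩ := hψ
  have := resRep_isIrreducible N ρ hres
  exact sum_character_mul_relConj N ρ g h

/-- **RC-SCHUR (b).** The relative central character is an algebraic integer. -/
theorem isIntegral_relOmega {G : Type u} [Group G] [Finite G] (N : Subgroup G)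
    (ψ : G → ℂ) (hψ : IsIrrCharacter G ψ) (hres : IsIrrCharacter N (fun n : N => ψ n)) (g : G) :
    IsIntegral ℤ (relOmega N ψ g) := by
  classical
  have := Fintype.ofFinite N
  obtain ⟨n, ρ, hρ, rfl⟩ := hψ
  have := resRep_isIrreducible N ρ hres
  exact isIntegral_relOmega_rep N ρ g

/-- **RC-IRR.** A character whose restriction to `N` is irreducible restricts irreducibly to
every subgroup containing `N`. -/
theorem isIrr_res_of_isIrr_res {G : Type u} [Group G] [Finite G] (N J : Subgroup G) (hNJ : N ≤ J)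
    (χ : G → ℂ) (hχ : IsIrrCharacter G χ) (hres : IsIrrCharacter N (fun n : N => χ n)) :
    IsIrrCharacter J (fun y : J => χ y) := by
  obtain ⟨n, ρ, hρ, rfl⟩ := hχ
  have hN := resRep_isIrreducible N ρ hres
  -- the restriction of `ρ` to `J` restricts further to an irreducible representation of
  -- `N.subgroupOf J`
  let e : N.subgroupOf J ≃* N := Subgroup.subgroupOfEquivOfLe hNJ
  have h1 : Representation.IsIrreducible
      (MonoidHom.comp (resRep ρ N) e.toMonoidHom : Representation ℂ (N.subgroupOf J) (Fin n → ℂ)) :=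
    Cfsg.Agent.Lib.Helper75_ExtendCyclic.isIrreducible_comp_mulEquiv (resRep ρ N) e
  have h2 : (resRep ρ J).IsIrreducible := by
    refine Cfsg.Agent.Lib.Helper75_ExtendCyclic.isIrreducible_of_restrict (N.subgroupOf J)
      (MonoidHom.comp (resRep ρ N) e.toMonoidHom) (resRep ρ J) ?_
    intro x
    rfl
  exact ⟨n, resRep ρ J, h2, rfl⟩

end Irr

end Cfsg.Agent.Lib.Helper78_RC_SCHUR
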