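import Mathlib
import Cfsg.Prelude.Def_Blocks
import Cfsg.Agent.Lib.Helper78_RCDefs
import Cfsg.Agent.Lib.Helper78_LocalRing
import Cfsg.Agent.Lib.Helper78_CentralChar
import Cfsg.Agent.Lib.Helper75_LinChar
import Cfsg.Agent.Lib.Helper78_RCOrb
import Cfsg.Agent.Lib.Helper78_RC_SCHUR

/-!
# RC-PROD (helper43, package of helper78's S4937 plan)

`Ω_ψ(g) Ω_ψ(h) ≡ ν |K_g| |K_h|` modulo the local ideal, when `Ω_ψ(z) ≡ ν |K_z|` on the coset `ghN`.
-/

set_option autoImplicit false
set_option linter.unusedSectionVars false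
set_option linter.unusedVariables false

namespace Cfsg.Agent.Lib.Helper43_RC_PROD

open Cfsg Cfsg.Agent.Lib.Helper78_RCDefs Cfsg.Agent.Lib.Helper78_LocalRing
open Cfsg.Agent.Lib.Helper75_LinChar Cfsg.Agent.Lib.Helper78_RCOrb

universe u

variable {p : ℕ} {M : Ideal AlgInt}

section

variable {G : Type u} [Group G]

/-- The simultaneous conjugation action of a subgroup `N` on `G × G`. -/
@[reducible] def conjPairAction (N : Subgroup G) : MulAction N (G × G) where
  smul n x := ((n : G) * x.1 * (n : G)⁻¹, (n : G) * x.2 * (n : G)⁻¹)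
  one_smul x := by
    show (((1 : N) : G) * x.1 * ((1 : N) : G)⁻¹, ((1 : N) : G) * x.2 * ((1 : N) : G)⁻¹) = x
    simp
  mul_smul a b x := by
    show (((a * b : N) : G) * x.1 * ((a * b : N) : G)⁻¹,
        ((a * b : N) : G) * x.2 * ((a * b : N) : G)⁻¹) =
      ((a : G) * ((b : G) * x.1 * (b : G)⁻¹) * (a : G)⁻¹,
        (a : G) * ((b : G) * x.2 * (b : G)⁻¹) * (a : G)⁻¹)
    rw [Subgroup.coe_mul]
    congr 1 <;> group

/-- the stabilizer of a pair lies in the centralizer of the product -/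
theorem stabilizer_pair_le (N : Subgroup G) (x : G × G) :
    @MulAction.stabilizer N (G × G) _ (conjPairAction N) x ≤
      (Subgroup.centralizer ({x.1 * x.2} : Set G)).subgroupOf N := by
  let _ := conjPairAction N
  intro n hn
  rw [MulAction.mem_stabilizer_iff] at hn
  have h1 : (n : G) * x.1 * (n : G)⁻¹ = x.1 := congrArg Prod.fst hn
  have h2 : (n : G) * x.2 * (n : G)⁻¹ = x.2 := congrArg Prod.snd hn
  rw [Subgroup.mem_subgroupOf, Subgroup.mem_centralizer_iff]
  intro y hy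
  rw [Set.mem_singleton_iff] at hy
  subst hy
  have e1 : (n : G) * x.1 = x.1 * (n : G) := by
    have := congrArg (· * (n : G)) h1
    simpa using this
  have e2 : (n : G) * x.2 = x.2 * (n : G) := by
    have := congrArg (· * (n : G)) h2
    simpa using this
  calc x.1 * x.2 * (n : G) = x.1 * (x.2 * (n : G)) := mul_assoc _ _ _
    _ = x.1 * ((n : G) * x.2) := by rw [e2]
    _ = (x.1 * (n : G)) * x.2 := (mul_assoc _ _ _).symm
    _ = ((n : G) * x.1) * x.2 := by rw [e1]
    _ = (n : G) * (x.1 * x.2) := mul_assoc _ _ _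

/-- irreducible characters are class functions -/
theorem irr_conj' {ψ : G → ℂ} (hψ : IsIrrCharacter G ψ) (a x : G) : ψ (a * x * a⁻¹) = ψ x := by
  obtain ⟨n, ρ, -, rfl⟩ := hψ
  exact Representation.char_conj ρ x a

end

/-- the double orbit sum of `ψ (x * y)` -/
theorem double_orbit_sum {G : Type u} [Group G] [Fintype G] [DecidableEq G] (N : Subgroup G)
    [Fintype N] (ψ : G → ℂ) (hψ : IsIrrCharacter G ψ)
    (hres : IsIrrCharacter N (fun n : N => ψ n)) (g h : G) :
    ∑ x ∈ (@orb N G _ _ (conjMulAction N) _ g) ×ˢ (@orb N G _ _ (conjMulAction N) _ h),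
        ψ (x.1 * x.2) =
      (relIdx N g : ℂ) * (relIdx N h : ℂ) * ψ g * ψ h / ψ 1 := by
  let iG : MulAction N G := conjMulAction N
  set KG : Finset G := @orb N G _ _ iG _ g with hKG
  set KH : Finset G := @orb N G _ _ iG _ h with hKH
  set cG : ℕ := Nat.card (@MulAction.stabilizer N G _ iG g) with hcG
  set cH : ℕ := Nat.card (@MulAction.stabilizer N G _ iG h) with hcH
  -- the sum over `N × N`
  have hNN : ∑ n : N, ∑ m : N, ψ (((n : G) * g * (n : G)⁻¹) * ((m : G) * h * (m : G)⁻¹)) =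
      (Nat.card N : ℂ) * ((Nat.card N : ℂ) * ψ g * ψ h / ψ 1) := by
    have hn : ∀ n : N, ∑ m : N, ψ (((n : G) * g * (n : G)⁻¹) * ((m : G) * h * (m : G)⁻¹)) =
        (Nat.card N : ℂ) * ψ g * ψ h / ψ 1 := by
      intro n
      rw [← Cfsg.Agent.Lib.Helper78_RC_SCHUR.sum_conj_mul N ψ hψ hres g h]
      refine Fintype.sum_equiv (Equiv.mulLeft n⁻¹) _ _ ?_
      intro m
      rw [Equiv.coe_mulLeft, Subgroup.coe_mul, Subgroup.coe_inv]
      rw [← irr_conj' hψ (n : G)⁻¹ (((n : G) * g * (n : G)⁻¹) * ((m : G) * h * (m : G)⁻¹))]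
      congr 1
      group
    rw [Finset.sum_congr rfl (fun n _ => hn n), Finset.sum_const, Finset.card_univ,
      nsmul_eq_mul, Nat.card_eq_fintype_card]
  -- the same sum through the orbits
  have hKK : ∑ n : N, ∑ m : N, ψ (((n : G) * g * (n : G)⁻¹) * ((m : G) * h * (m : G)⁻¹)) =
      (cG : ℂ) * (cH : ℂ) * ∑ x ∈ KG ×ˢ KH, ψ (x.1 * x.2) := by
    have h1 : ∀ n : N, ∑ m : N, ψ (((n : G) * g * (n : G)⁻¹) * ((m : G) * h * (m : G)⁻¹)) =
        cH • ∑ k ∈ KH, ψ (((n : G) * g * (n : G)⁻¹) * k) :=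
      fun n => sum_smul_eq (N := N) h (fun k => ψ (((n : G) * g * (n : G)⁻¹) * k))
    rw [Finset.sum_congr rfl (fun n _ => h1 n), ← Finset.smul_sum, Finset.sum_comm]
    have h2 : ∀ k : G, ∑ n : N, ψ (((n : G) * g * (n : G)⁻¹) * k) =
        cG • ∑ j ∈ KG, ψ (j * k) :=
      fun k => sum_smul_eq (N := N) g (fun j => ψ (j * k))
    rw [Finset.sum_congr rfl (fun k _ => h2 k), ← Finset.smul_sum, Finset.sum_comm,
      ← Finset.sum_product', nsmul_eq_mul, nsmul_eq_mul]
    ring
  -- index identities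
  have hiG : relIdx N g * cG = Nat.card N := by
    rw [relIdx_eq_index_stabilizer, hcG]
    exact Subgroup.index_mul_card _
  have hiH : relIdx N h * cH = Nat.card N := by
    rw [relIdx_eq_index_stabilizer, hcH]
    exact Subgroup.index_mul_card _
  have hcG0 : (cG : ℂ) ≠ 0 := by
    rw [hcG]
    exact Nat.cast_ne_zero.mpr Nat.card_pos.ne'
  have hcH0 : (cH : ℂ) ≠ 0 := by
    rw [hcH]
    exact Nat.cast_ne_zero.mpr Nat.card_pos.ne'
  have hiG' : (Nat.card N : ℂ) = (relIdx N g : ℂ) * (cG : ℂ) := by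
    rw [← hiG]; push_cast; ring
  have hiH' : (Nat.card N : ℂ) = (relIdx N h : ℂ) * (cH : ℂ) := by
    rw [← hiH]; push_cast; ring
  have hfin := hKK.symm.trans hNN
  apply mul_left_cancel₀ (mul_ne_zero hcG0 hcH0)
  rw [hfin]
  have key : (Nat.card N : ℂ) * (Nat.card N : ℂ) =
      ((relIdx N g : ℂ) * (cG : ℂ)) * ((relIdx N h : ℂ) * (cH : ℂ)) := by
    rw [← hiG', ← hiH']
  linear_combination (ψ g * ψ h / ψ 1) * key

/-- RC-PROD. -/
theorem relOmega_mul_congr {G : Type u} [Group G] [Finite G] (hM : M.IsPrime) (N : Subgroup G)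
    [N.Normal] (ψ : G → ℂ) (hψ : IsIrrCharacter G ψ)
    (hres : IsIrrCharacter N (fun n : N => ψ n)) (g h : G) (ν : ℂ)
    (hν : ∀ z : G, (g * h)⁻¹ * z ∈ N →
      MemLocalIdeal M (relOmega N ψ z - ν * (relIdx N z : ℂ))) :
    MemLocalIdeal M
      (relOmega N ψ g * relOmega N ψ h - ν * (relIdx N g : ℂ) * (relIdx N h : ℂ)) := by
  classical
  have : Fintype G := Fintype.ofFinite G
  have : Fintype N := Fintype.ofFinite N
  let iG : MulAction N G := conjMulAction N
  let iP : MulAction N (G × G) := conjPairAction N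
  set KG : Finset G := @orb N G _ _ iG _ g with hKG
  set KH : Finset G := @orb N G _ _ iG _ h with hKH
  have hmemK : ∀ a x : G, x ∈ @orb N G _ _ iG _ a ↔ ∃ n : N, (n : G) * a * (n : G)⁻¹ = x :=
    fun a x => mem_orb
  have hconjK : ∀ (a : G) (n : N) (x : G),
      (n : G) * x * (n : G)⁻¹ ∈ @orb N G _ _ iG _ a ↔ x ∈ @orb N G _ _ iG _ a := by
    intro a n x
    rw [hmemK, hmemK]
    constructor
    · rintro ⟨m, hm⟩
      refine ⟨n⁻¹ * m, ?_⟩
      rw [Subgroup.coe_mul, Subgroup.coe_inv]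
      have : x = (n : G)⁻¹ * ((n : G) * x * (n : G)⁻¹) * (n : G) := by group
      rw [this, ← hm]
      group
    · rintro ⟨m, rfl⟩
      refine ⟨n * m, ?_⟩
      rw [Subgroup.coe_mul]
      group
  set Φ : G × G → ℂ := fun x => if x ∈ KG ×ˢ KH then ψ (x.1 * x.2) / ψ 1 - ν else 0 with hΦ
  -- invariance
  have hinv : ∀ (n : N) (x : G × G), Φ (n • x) = Φ x := by
    intro n x
    show Φ ((n : G) * x.1 * (n : G)⁻¹, (n : G) * x.2 * (n : G)⁻¹) = Φ x
    have hmem_iff : ((n : G) * x.1 * (n : G)⁻¹, (n : G) * x.2 * (n : G)⁻¹) ∈ KG ×ˢ KH ↔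
        x ∈ KG ×ˢ KH := by
      rw [Finset.mem_product, Finset.mem_product, hKG, hKH, hconjK g n x.1, hconjK h n x.2]
    have hprod : (n : G) * x.1 * (n : G)⁻¹ * ((n : G) * x.2 * (n : G)⁻¹) =
        (n : G) * (x.1 * x.2) * (n : G)⁻¹ := by group
    by_cases hx : x ∈ KG ×ˢ KH
    · simp only [hΦ]
      rw [if_pos hx, if_pos (hmem_iff.mpr hx), hprod, irr_conj' hψ]
    · simp only [hΦ]
      rw [if_neg hx, if_neg (fun hc => hx (hmem_iff.mp hc))]
  -- the local condition
  have hloc : ∀ x : G × G, MemLocalIdeal M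
      (((@MulAction.stabilizer N (G × G) _ iP x).index : ℂ) * Φ x) := by
    intro x
    by_cases hx : x ∈ KG ×ˢ KH
    · have hΦx : Φ x = ψ (x.1 * x.2) / ψ 1 - ν := by
        simp only [hΦ, if_pos hx]
      obtain ⟨t, ht⟩ := Subgroup.index_dvd_of_le (stabilizer_pair_le N x)
      have ht' : (@MulAction.stabilizer N (G × G) _ iP x).index = relIdx N (x.1 * x.2) * t := ht
      have hz : (g * h)⁻¹ * (x.1 * x.2) ∈ N := by
        rw [Finset.mem_product] at hx
        obtain ⟨n, hn⟩ := (hmemK g x.1).mp hx.1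
        obtain ⟨m, hm⟩ := (hmemK h x.2).mp hx.2
        rw [← hn, ← hm]
        rw [← QuotientGroup.eq_one_iff]
        simp only [QuotientGroup.mk_mul, QuotientGroup.mk_inv,
          (QuotientGroup.eq_one_iff (N := N) (n : G)).mpr n.2,
          (QuotientGroup.eq_one_iff (N := N) (m : G)).mpr m.2]
        group
      have h1 := hν (x.1 * x.2) hz
      have h2 := memLocalIdeal_mul_left hM (memLocalRing_natCast hM t) h1
      have e : ((@MulAction.stabilizer N (G × G) _ iP x).index : ℂ) * Φ x =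
          (t : ℂ) * (relOmega N ψ (x.1 * x.2) - ν * (relIdx N (x.1 * x.2) : ℂ)) := by
        rw [ht', hΦx]
        unfold relOmega
        push_cast
        ring
      rw [e]
      exact h2
    · have hΦx : Φ x = 0 := by
        simp only [hΦ, if_neg hx]
      rw [hΦx, mul_zero]
      exact memLocalIdeal_zero hM
  have hmain := memLocalIdeal_sum_of_orbits (N := N) (X := G × G) hM Φ hinv hloc
  -- evaluation of the sum
  have hsum : ∑ x, Φ x =
      relOmega N ψ g * relOmega N ψ h - ν * (relIdx N g : ℂ) * (relIdx N h : ℂ) := by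
    have e1 : ∑ x, Φ x = ∑ x ∈ KG ×ˢ KH, (ψ (x.1 * x.2) / ψ 1 - ν) := by
      simp only [hΦ]
      rw [Finset.sum_ite_mem, Finset.univ_inter]
    rw [e1, Finset.sum_sub_distrib, ← Finset.sum_div, Finset.sum_const, Finset.card_product,
      hKG, hKH, double_orbit_sum N ψ hψ hres g h, card_orb, card_orb,
      ← relIdx_eq_index_stabilizer, ← relIdx_eq_index_stabilizer]
    unfold relOmega
    rw [nsmul_eq_mul]
    push_cast
    ring
  rw [← hsum]
  exact hmain

end Cfsg.Agent.Lib.Helper43_RC_PROD
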