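import Cfsg.Agent.Lib.Helper43_RegNilpotent6

set_option autoImplicit false

/-!
The commutant of a regular nilpotent matrix, as a commutative local algebra of dimension `n`.
-/

namespace Cfsg.Agent.Lib.Helper43_RegCommutant

open Matrix Module
open Cfsg.Agent.Lib.Helper43_RegNilpotent

variable {F : Type*} [Field F] {ι : Type*} [Fintype ι] [DecidableEq ι]

/-- the algebra equivalence between matrices and endomorphisms -/
noncomputable abbrev toE : Matrix ι ι F ≃ₐ[F] Module.End F (ι → F) := Matrix.toLinAlgEquiv'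

theorem toE_apply (M : Matrix ι ι F) (x : ι → F) : toE M x = M *ᵥ x := rfl

/-- regular nilpotent matrices -/
structure RegNil (Nm : Matrix ι ι F) : Prop where
  nil : Nm ^ Fintype.card ι = 0
  rank : Nm.rank = Fintype.card ι - 1
  pos : 0 < Fintype.card ι

namespace RegNil

variable {Nm : Matrix ι ι F} (h : RegNil Nm)
include h

theorem nil' : (toE Nm) ^ finrank F (ι → F) = 0 := by
  rw [finrank_fintype_fun_eq_card, ← map_pow, h.nil, map_zero]

theorem ker' : finrank F (LinearMap.ker (toE Nm)) ≤ 1 := by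
  have h1 := LinearMap.finrank_range_add_finrank_ker (toE Nm)
  rw [finrank_fintype_fun_eq_card] at h1
  have h2 : finrank F (LinearMap.range (toE Nm)) = Fintype.card ι - 1 := h.rank
  omega

theorem pos' : 0 < finrank F (ι → F) := by
  rw [finrank_fintype_fun_eq_card]; exact h.pos

omit h in
theorem commute_toE {A : Matrix ι ι F} (hA : Nm * A = A * Nm) : Commute (toE A) (toE Nm) := by
  show toE A * toE Nm = toE Nm * toE A
  rw [← map_mul, ← map_mul, hA]

theorem comm {A B : Matrix ι ι F} (hA : Nm * A = A * Nm) (hB : Nm * B = B * Nm) :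
    A * B = B * A := by
  have := commute_of_commute (toE Nm) h.nil' h.ker' h.pos' (toE A) (toE B) (commute_toE hA)
    (commute_toE hB)
  apply (toE (F := F) (ι := ι)).injective
  rw [map_mul, map_mul]
  exact this

theorem exists_scalar {A : Matrix ι ι F} (hA : Nm * A = A * Nm) :
    ∃ a : F, (A - a • (1 : Matrix ι ι F)) ^ Fintype.card ι = 0 := by
  obtain ⟨a, ha⟩ := exists_scalar_sub_nilpotent (toE Nm) h.nil' h.ker' h.pos' (toE A)
    (commute_toE hA)
  refine ⟨a, ?_⟩
  apply (toE (F := F) (ι := ι)).injective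
  rw [map_pow, map_sub, map_smul, map_one, map_zero, ← finrank_fintype_fun_eq_card F]
  exact ha

theorem exists_cyc : ∃ v : ι → F,
    (∀ A : Matrix ι ι F, Nm * A = A * Nm → A *ᵥ v = 0 → A = 0) ∧
      ∀ w : ι → F, ∃ A : Matrix ι ι F, Nm * A = A * Nm ∧ A *ᵥ v = w := by
  obtain ⟨v, hv⟩ := exists_cyclic (toE Nm) h.nil' h.ker' h.pos'
  refine ⟨v, ?_, ?_⟩
  · intro A hA hAv
    have := eq_zero_of_commute_of_apply_cyclic (toE Nm) h.nil' h.ker' v hv (toE A)
      (commute_toE hA) hAv
    apply (toE (F := F) (ι := ι)).injective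
    rw [this, map_zero]
  · intro w
    obtain ⟨X, hX, hXv⟩ := exists_commute_apply_cyclic_eq (toE Nm) h.nil' h.ker' v hv w
    refine ⟨(toE (F := F) (ι := ι)).symm X, ?_, ?_⟩
    · apply (toE (F := F) (ι := ι)).injective
      rw [map_mul, map_mul, AlgEquiv.apply_symm_apply]
      exact hX.eq.symm
    · rw [← toE_apply, AlgEquiv.apply_symm_apply]
      exact hXv

end RegNil

/-- the commutant of a matrix -/
abbrev Dalg (Nm : Matrix ι ι F) : Subalgebra F (Matrix ι ι F) := Subalgebra.centralizer F {Nm}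

theorem mem_Dalg {Nm A : Matrix ι ι F} : A ∈ Dalg Nm ↔ Nm * A = A * Nm := by
  rw [Subalgebra.mem_centralizer_iff]
  constructor
  · intro h; exact h Nm rfl
  · intro h g hg
    rw [Set.mem_singleton_iff] at hg
    rw [hg]; exact h

namespace RegNil

variable {Nm : Matrix ι ι F} (h : RegNil Nm)
include h

theorem isMulCommutative : IsMulCommutative (Dalg Nm) :=
  ⟨⟨fun a b => Subtype.ext (h.comm (mem_Dalg.1 a.2) (mem_Dalg.1 b.2))⟩⟩

theorem hloc (x : Dalg Nm) : ∃ a : F, IsNilpotent (x - algebraMap F (Dalg Nm) a) := by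
  obtain ⟨a, ha⟩ := h.exists_scalar (mem_Dalg.1 x.2)
  refine ⟨a, Fintype.card ι, ?_⟩
  apply Subtype.ext
  rw [SubmonoidClass.coe_pow, AddSubgroupClass.coe_sub, Subalgebra.coe_algebraMap,
    Algebra.algebraMap_eq_smul_one]
  exact ha

omit h in
/-- evaluation at a cyclic vector, as a linear map on the commutant -/
def evalD (Nm : Matrix ι ι F) (v : ι → F) : Dalg Nm →ₗ[F] (ι → F) where
  toFun x := x.1 *ᵥ v
  map_add' x y := by
    show (x.1 + y.1) *ᵥ v = _
    rw [Matrix.add_mulVec]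
  map_smul' c x := by
    show (c • x.1) *ᵥ v = _
    rw [Matrix.smul_mulVec]
    rfl

theorem exists_evalD_bijective : ∃ v : ι → F, Function.Bijective (evalD Nm v) := by
  obtain ⟨v, h1, h2⟩ := h.exists_cyc
  refine ⟨v, ?_, ?_⟩
  · rw [← LinearMap.ker_eq_bot, LinearMap.ker_eq_bot']
    intro x hx
    exact Subtype.ext (h1 x.1 (mem_Dalg.1 x.2) hx)
  · intro w
    obtain ⟨A, hA, hAv⟩ := h2 w
    exact ⟨⟨A, mem_Dalg.2 hA⟩, hAv⟩

theorem finrank_Dalg : finrank F (Dalg Nm) = Fintype.card ι := by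
  obtain ⟨v, hv⟩ := h.exists_evalD_bijective
  rw [(LinearEquiv.ofBijective (evalD Nm v) hv).finrank_eq, finrank_fintype_fun_eq_card]

theorem finrank_ker_mulLeft (z : Dalg Nm)
    (hz : ∀ A : Matrix ι ι F, Nm * A = A * Nm → z.1 * A = 0 → Nm * A = 0) :
    finrank F (LinearMap.ker (LinearMap.mulLeft F z)) ≤ 1 := by
  obtain ⟨v, hv⟩ := h.exists_evalD_bijective
  rw [(Submodule.equivMapOfInjective (evalD Nm v) hv.1 _).finrank_eq]
  refine le_trans (Submodule.finrank_mono ?_) h.ker'
  rintro _ ⟨x, hx, rfl⟩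
  rw [SetLike.mem_coe, LinearMap.mem_ker, LinearMap.mulLeft_apply] at hx
  have hx' : z.1 * x.1 = 0 := by
    have := congrArg Subtype.val hx
    exact this
  have := hz x.1 (mem_Dalg.1 x.2) hx'
  rw [LinearMap.mem_ker, toE_apply]
  show Nm *ᵥ (x.1 *ᵥ v) = 0
  rw [Matrix.mulVec_mulVec, this, Matrix.zero_mulVec]

end RegNil

end Cfsg.Agent.Lib.Helper43_RegCommutant
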