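import Mathlib

set_option autoImplicit false

/-!
Regular nilpotent endomorphisms (a single Jordan block): if `N` is a nilpotent endomorphism of a
finite-dimensional space `V` with one-dimensional kernel then `dim ker N^k = k` for `k ≤ dim V`,
and the `N`-invariant subspaces are exactly the `ker N^k`.
-/

namespace Cfsg.Agent.Lib.Helper43_RegNilpotent

open Module

variable {F V : Type*} [Field F] [AddCommGroup V] [Module F V] [FiniteDimensional F V]

/-- `dim ker (g ∘ f) ≤ dim ker f + dim ker g`, in the form used for powers. -/
theorem finrank_ker_pow_succ_le (N : End F V) (k : ℕ) :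
    finrank F (LinearMap.ker (N ^ (k + 1))) ≤ finrank F (LinearMap.ker (N ^ k)) + finrank F (LinearMap.ker N) := by
  set K := LinearMap.ker (N ^ (k + 1)) with hK
  let φ : K →ₗ[F] V := (N ^ k).domRestrict K
  have hrange : LinearMap.range φ ≤ LinearMap.ker N := by
    rintro _ ⟨x, rfl⟩
    rw [LinearMap.mem_ker]
    show N ((N ^ k) x.1) = 0
    have h : x.1 ∈ LinearMap.ker (N ^ (k + 1)) := x.2
    rw [LinearMap.mem_ker, pow_succ'] at h
    exact h
  have hker : finrank F (LinearMap.ker φ) ≤ finrank F (LinearMap.ker (N ^ k)) := by
    let ψ : LinearMap.ker φ →ₗ[F] LinearMap.ker (N ^ k) :=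
      { toFun := fun x => ⟨x.1.1, by
          have := x.2
          rw [LinearMap.mem_ker] at this ⊢
          exact this⟩
        map_add' := fun x y => rfl
        map_smul' := fun c x => rfl }
    apply LinearMap.finrank_le_finrank_of_injective (f := ψ)
    intro x y hxy
    apply Subtype.ext
    apply Subtype.ext
    exact congrArg (fun z : LinearMap.ker (N ^ k) => z.1) hxy
  have h1 := LinearMap.finrank_range_add_finrank_ker φ
  have h2 := Submodule.finrank_mono hrange
  omega

theorem finrank_ker_pow_add_le (N : End F V) (k j : ℕ) :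
    finrank F (LinearMap.ker (N ^ (k + j))) ≤ finrank F (LinearMap.ker (N ^ k)) + j * finrank F (LinearMap.ker N) := by
  induction j with
  | zero => simp
  | succ j ih =>
    have := finrank_ker_pow_succ_le N (k + j)
    rw [← add_assoc]
    calc finrank F (LinearMap.ker (N ^ (k + j + 1)))
        ≤ finrank F (LinearMap.ker (N ^ (k + j))) + finrank F (LinearMap.ker N) := this
      _ ≤ finrank F (LinearMap.ker (N ^ k)) + j * finrank F (LinearMap.ker N) + finrank F (LinearMap.ker N) := by omega
      _ = finrank F (LinearMap.ker (N ^ k)) + (j + 1) * finrank F (LinearMap.ker N) := by ring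

/-- For a nilpotent endomorphism with kernel of dimension at most one, `dim ker N^k = k`
for all `k ≤ dim V`. -/
theorem finrank_ker_pow_eq (N : End F V) (hnil : N ^ finrank F V = 0)
    (hker : finrank F (LinearMap.ker N) ≤ 1) (k : ℕ) (hk : k ≤ finrank F V) :
    finrank F (LinearMap.ker (N ^ k)) = k := by
  apply le_antisymm
  · have := finrank_ker_pow_add_le N 0 k
    rw [zero_add, pow_zero] at this
    have h0 : finrank F (LinearMap.ker (1 : End F V)) = 0 := by
      have : LinearMap.ker (1 : End F V) = ⊥ := LinearMap.ker_id
      rw [this, finrank_bot]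
    rw [h0] at this
    calc finrank F (LinearMap.ker (N ^ k)) ≤ 0 + k * finrank F (LinearMap.ker N) := this
      _ ≤ 0 + k * 1 := by gcongr
      _ = k := by ring
  · have := finrank_ker_pow_add_le N k (finrank F V - k)
    rw [Nat.add_sub_cancel' hk, hnil, LinearMap.ker_zero, finrank_top] at this
    have h2 : (finrank F V - k) * finrank F (LinearMap.ker N) ≤ (finrank F V - k) * 1 := by gcongr
    omega

/-- An invariant subspace of a nilpotent endomorphism is killed by its `dim W`-th power. -/
theorem le_ker_pow_finrank (N : End F V) (hnil : IsNilpotent N) (W : Submodule F V)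
    (hW : ∀ w ∈ W, N w ∈ W) : W ≤ LinearMap.ker (N ^ finrank F W) := by
  obtain ⟨m, hm⟩ := hnil
  intro w hw
  have h1 : (N.restrict hW) ^ m = 0 := by
    rw [Module.End.pow_restrict m hW]
    ext x
    simp [LinearMap.restrict_apply, hm]
  have h2 := Module.End.ker_pow_le_ker_pow_finrank (N.restrict hW) m
  rw [h1, LinearMap.ker_zero, top_le_iff] at h2
  have h3 : ((N.restrict hW) ^ finrank F W) ⟨w, hw⟩ = 0 := by
    have : (⟨w, hw⟩ : W) ∈ LinearMap.ker ((N.restrict hW) ^ finrank F W) := by
      rw [h2]; trivial
    exact this
  rw [Module.End.pow_restrict (finrank F W) hW] at h3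
  have := congrArg Subtype.val h3
  simpa [LinearMap.restrict_apply] using this

/-- The invariant subspaces of a regular nilpotent endomorphism are the kernels of its powers. -/
theorem invariant_eq_ker_pow (N : End F V) (hnil : N ^ finrank F V = 0)
    (hker : finrank F (LinearMap.ker N) ≤ 1) (W : Submodule F V)
    (hW : ∀ w ∈ W, N w ∈ W) : W = LinearMap.ker (N ^ finrank F W) := by
  apply Submodule.eq_of_le_of_finrank_eq (le_ker_pow_finrank N ⟨_, hnil⟩ W hW)
  rw [finrank_ker_pow_eq N hnil hker _ (Submodule.finrank_le W)]

end Cfsg.Agent.Lib.Helper43_RegNilpotent
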