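import Cfsg.Agent.Lib.Helper43_RegNilpotent

set_option autoImplicit false

/-!
More on regular nilpotent endomorphisms: `range N^k = ker N^(n-k)` and `ker N^k ≤ range N^k` for `2k ≤ n`.
-/

namespace Cfsg.Agent.Lib.Helper43_RegNilpotent

open Module

variable {F V : Type*} [Field F] [AddCommGroup V] [Module F V] [FiniteDimensional F V]

theorem ker_pow_mono (N : End F V) {a b : ℕ} (hab : a ≤ b) :
    LinearMap.ker (N ^ a) ≤ LinearMap.ker (N ^ b) := by
  intro x hx
  rw [LinearMap.mem_ker] at hx ⊢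
  obtain ⟨c, rfl⟩ := Nat.exists_eq_add_of_le hab
  rw [add_comm, pow_add, Module.End.mul_apply, hx, map_zero]

/-- For a regular nilpotent endomorphism, `range N^k = ker N^(n-k)`. -/
theorem range_pow_eq_ker_pow (N : End F V) (hnil : N ^ finrank F V = 0)
    (hker : finrank F (LinearMap.ker N) ≤ 1) (k : ℕ) (hk : k ≤ finrank F V) :
    LinearMap.range (N ^ k) = LinearMap.ker (N ^ (finrank F V - k)) := by
  apply Submodule.eq_of_le_of_finrank_eq
  · rintro _ ⟨x, rfl⟩
    rw [LinearMap.mem_ker, ← Module.End.mul_apply, ← pow_add, Nat.sub_add_cancel hk, hnil]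
    rfl
  · have h1 := LinearMap.finrank_range_add_finrank_ker (N ^ k)
    rw [finrank_ker_pow_eq N hnil hker k hk] at h1
    rw [finrank_ker_pow_eq N hnil hker _ (Nat.sub_le _ _)]
    omega

/-- For a regular nilpotent endomorphism and `2k ≤ n`, `ker N^k ≤ range N^k`. -/
theorem ker_pow_le_range_pow (N : End F V) (hnil : N ^ finrank F V = 0)
    (hker : finrank F (LinearMap.ker N) ≤ 1) (k : ℕ) (hk : 2 * k ≤ finrank F V) :
    LinearMap.ker (N ^ k) ≤ LinearMap.range (N ^ k) := by
  rw [range_pow_eq_ker_pow N hnil hker k (by omega)]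
  exact ker_pow_mono N (by omega)

end Cfsg.Agent.Lib.Helper43_RegNilpotent
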