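import Cfsg.Agent.Lib.Helper43_RegNilpotent2

set_option autoImplicit false

/-!
The centraliser of a regular nilpotent endomorphism `N` of an `n`-dimensional space: evaluation at a
cyclic vector `v` is a bijection from the centraliser to `V`, and an element `X` of the centraliser is
invertible iff `X v ∉ ker N^(n-1)`.
-/

namespace Cfsg.Agent.Lib.Helper43_RegNilpotent

open Module

variable {F V : Type*} [Field F] [AddCommGroup V] [Module F V] [FiniteDimensional F V]

theorem exists_cyclic (N : End F V) (hnil : N ^ finrank F V = 0)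
    (hker : finrank F (LinearMap.ker N) ≤ 1) (hV : 0 < finrank F V) :
    ∃ v : V, v ∉ LinearMap.ker (N ^ (finrank F V - 1)) := by
  by_contra h
  push Not at h
  have htop : LinearMap.ker (N ^ (finrank F V - 1)) = ⊤ := by
    rw [eq_top_iff]; intro x _; exact h x
  have := finrank_ker_pow_eq N hnil hker (finrank F V - 1) (Nat.sub_le _ _)
  rw [htop, finrank_top] at this
  omega

theorem ker_invariant_of_commute (N X : End F V) (hX : Commute X N) :
    ∀ w ∈ LinearMap.ker X, N w ∈ LinearMap.ker X := by
  intro w hw
  rw [LinearMap.mem_ker] at hw ⊢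
  have : X (N w) = N (X w) := by
    rw [← Module.End.mul_apply, ← Module.End.mul_apply, hX.eq]
  rw [this, hw, map_zero]

/-- An element of the centraliser killing a cyclic vector is zero. -/
theorem eq_zero_of_commute_of_apply_cyclic (N : End F V) (hnil : N ^ finrank F V = 0)
    (hker : finrank F (LinearMap.ker N) ≤ 1) (v : V)
    (hv : v ∉ LinearMap.ker (N ^ (finrank F V - 1))) (X : End F V) (hX : Commute X N)
    (hXv : X v = 0) : X = 0 := by
  have hinv := invariant_eq_ker_pow N hnil hker (LinearMap.ker X) (ker_invariant_of_commute N X hX)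
  set k := finrank F (LinearMap.ker X) with hk
  have hvk : v ∈ LinearMap.ker (N ^ k) := by rw [← hinv]; exact hXv
  have hkn : k = finrank F V := by
    by_contra hne
    have hle : k ≤ finrank F V := Submodule.finrank_le _
    have : k ≤ finrank F V - 1 := by omega
    exact hv (ker_pow_mono N this hvk)
  rw [hkn, hnil, LinearMap.ker_zero] at hinv
  exact LinearMap.ker_eq_top.mp hinv

/-- Every vector is the image of a cyclic vector under an element of the centraliser. -/
theorem exists_commute_apply_cyclic_eq (N : End F V) (hnil : N ^ finrank F V = 0)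
    (hker : finrank F (LinearMap.ker N) ≤ 1) (v : V)
    (hv : v ∉ LinearMap.ker (N ^ (finrank F V - 1))) (w : V) :
    ∃ X : End F V, Commute X N ∧ X v = w := by
  let S : Submodule F V :=
    { carrier := {w | ∃ X : End F V, Commute X N ∧ X v = w}
      add_mem' := by
        rintro a b ⟨X, hX, rfl⟩ ⟨Y, hY, rfl⟩
        exact ⟨X + Y, hX.add_left hY, rfl⟩
      zero_mem' := ⟨0, Commute.zero_left N, by simp⟩
      smul_mem' := by
        rintro c a ⟨X, hX, rfl⟩
        exact ⟨c • X, hX.smul_left c, rfl⟩ }
  have hSinv : ∀ w ∈ S, N w ∈ S := by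
    rintro _ ⟨X, hX, rfl⟩
    exact ⟨N * X, (Commute.refl N).mul_left hX, rfl⟩
  have hvS : v ∈ S := ⟨1, Commute.one_left N, rfl⟩
  have hinv := invariant_eq_ker_pow N hnil hker S hSinv
  set k := finrank F S with hk
  have hvk : v ∈ LinearMap.ker (N ^ k) := by rw [← hinv]; exact hvS
  have hkn : k = finrank F V := by
    by_contra hne
    have hle : k ≤ finrank F V := Submodule.finrank_le _
    have : k ≤ finrank F V - 1 := by omega
    exact hv (ker_pow_mono N this hvk)
  have hS : S = ⊤ := by
    rw [hinv, hkn, hnil, LinearMap.ker_zero]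
  have : w ∈ S := by rw [hS]; trivial
  exact this

/-- An element of the centraliser is invertible iff it sends a cyclic vector to a cyclic vector. -/
theorem isUnit_iff_apply_cyclic (N : End F V) (hnil : N ^ finrank F V = 0)
    (hker : finrank F (LinearMap.ker N) ≤ 1) (hV : 0 < finrank F V) (v : V)
    (hv : v ∉ LinearMap.ker (N ^ (finrank F V - 1))) (X : End F V) (hX : Commute X N) :
    IsUnit X ↔ X v ∉ LinearMap.ker (N ^ (finrank F V - 1)) := by
  have hcomm : Commute X (N ^ (finrank F V - 1)) := hX.pow_right _
  have hswap : X ((N ^ (finrank F V - 1)) v) = (N ^ (finrank F V - 1)) (X v) := by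
    rw [← Module.End.mul_apply, ← Module.End.mul_apply, hcomm.eq]
  constructor
  · intro hunit hmem
    rw [LinearMap.mem_ker, ← hswap] at hmem
    have hinj : Function.Injective X := by
      rw [← LinearMap.ker_eq_bot]
      exact (LinearMap.isUnit_iff_ker_eq_bot X).mp hunit
    have : (N ^ (finrank F V - 1)) v = 0 := hinj (by rw [hmem, map_zero])
    exact hv this
  · intro hmem
    by_contra hunit
    rw [LinearMap.isUnit_iff_ker_eq_bot] at hunit
    have hinv := invariant_eq_ker_pow N hnil hker (LinearMap.ker X) (ker_invariant_of_commute N X hX)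
    set k := finrank F (LinearMap.ker X) with hk
    have hk1 : 1 ≤ k := by
      rw [Nat.one_le_iff_ne_zero]
      intro h0
      exact hunit (Submodule.finrank_eq_zero.mp h0)
    have hNv : (N ^ (finrank F V - 1)) v ∈ LinearMap.ker X := by
      rw [hinv]
      apply ker_pow_mono N hk1
      rw [pow_one, LinearMap.mem_ker, ← Module.End.mul_apply, ← pow_succ',
        Nat.sub_add_cancel hV, hnil]
      rfl
    apply hmem
    rw [LinearMap.mem_ker, ← hswap]
    exact hNv

end Cfsg.Agent.Lib.Helper43_RegNilpotent
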