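import Cfsg.Agent.Lib.Helper43_RegNilpotent3

set_option autoImplicit false

/-!
Regular nilpotent endomorphisms: the centraliser consists of scalars plus nilpotents (so determinants
of centralising elements are `n`-th powers), and any two regular nilpotents are conjugate.
-/

namespace Cfsg.Agent.Lib.Helper43_RegNilpotent

open Module Polynomial

variable {F V : Type*} [Field F] [AddCommGroup V] [Module F V] [FiniteDimensional F V]

/-- An element of the centraliser of a regular nilpotent is a scalar plus a nilpotent. -/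
theorem exists_scalar_sub_nilpotent (N : End F V) (hnil : N ^ finrank F V = 0)
    (hker : finrank F (LinearMap.ker N) ≤ 1) (hV : 0 < finrank F V)
    (z : End F V) (hz : Commute z N) :
    ∃ a : F, (z - a • (1 : End F V)) ^ finrank F V = 0 := by
  obtain ⟨v, hv⟩ := exists_cyclic N hnil hker hV
  set n := finrank F V with hn
  set w₀ := (N ^ (n - 1)) v with hw₀
  have hw₀0 : w₀ ≠ 0 := fun h => hv h
  have hNw₀ : N w₀ = 0 := by
    rw [hw₀, ← Module.End.mul_apply, ← pow_succ', Nat.sub_add_cancel hV, hnil]; rfl
  -- ker N is spanned by w₀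
  have hkerN : finrank F (LinearMap.ker N) = 1 := by
    have := finrank_ker_pow_eq N hnil hker 1 hV
    rwa [pow_one] at this
  have hzw₀ : z w₀ ∈ LinearMap.ker N := by
    rw [LinearMap.mem_ker, ← Module.End.mul_apply, ← hz.eq, Module.End.mul_apply, hNw₀, map_zero]
  obtain ⟨a, ha⟩ : ∃ a : F, a • w₀ = z w₀ := by
    have h1 := (finrank_eq_one_iff_of_nonzero' (⟨w₀, hNw₀⟩ : LinearMap.ker N)
      (by intro h; exact hw₀0 (congrArg Subtype.val h))).mp hkerN ⟨z w₀, hzw₀⟩
    obtain ⟨c, hc⟩ := h1
    exact ⟨c, congrArg Subtype.val hc⟩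
  refine ⟨a, ?_⟩
  set Y : End F V := z - a • (1 : End F V) with hY
  have hYc : Commute Y N := by
    apply Commute.sub_left hz
    exact (Commute.one_left N).smul_left a
  have hYw₀ : Y w₀ = 0 := by
    rw [hY, LinearMap.sub_apply, LinearMap.smul_apply, Module.End.one_apply, ha, sub_self]
  have hYnotunit : ¬ IsUnit Y := by
    intro hu
    have hinj : Function.Injective Y := by
      rw [← LinearMap.ker_eq_bot]
      exact (LinearMap.isUnit_iff_ker_eq_bot Y).mp hu
    exact hw₀0 (hinj (by rw [hYw₀, map_zero]))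
  have hYv : Y v ∈ LinearMap.ker (N ^ (n - 1)) := by
    by_contra h
    exact hYnotunit ((isUnit_iff_apply_cyclic N hnil hker hV v hv Y hYc).mpr h)
  have hrange : LinearMap.range (N ^ 1) = LinearMap.ker (N ^ (n - 1)) :=
    range_pow_eq_ker_pow N hnil hker 1 hV
  rw [← hrange, pow_one] at hYv
  obtain ⟨v', hv'⟩ := hYv
  obtain ⟨X', hX'c, hX'v⟩ := exists_commute_apply_cyclic_eq N hnil hker v hv v'
  have hYeq : Y = N * X' := by
    have hc : Commute (Y - N * X') N := by
      apply Commute.sub_left hYc
      exact (Commute.refl N).mul_left hX'c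
    have h0 : (Y - N * X') v = 0 := by
      rw [LinearMap.sub_apply, Module.End.mul_apply, hX'v, hv', sub_self]
    exact sub_eq_zero.mp (eq_zero_of_commute_of_apply_cyclic N hnil hker v hv _ hc h0)
  rw [hYeq, (hX'c.symm).mul_pow, hnil, zero_mul]

/-- `det (a • 1 + Y) = a ^ n` for nilpotent `Y`. -/
theorem det_scalar_add_nilpotent (a : F) (Y : End F V) (hY : IsNilpotent Y) :
    LinearMap.det (a • (1 : End F V) + Y) = a ^ finrank F V := by
  classical
  let b := Module.finBasis F V
  have hnil : IsNilpotent (LinearMap.toMatrix b b (-Y)) := by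
    have : IsNilpotent (-Y) := hY.neg
    exact this.map (LinearMap.toMatrixAlgEquiv b)
  have hchar : (LinearMap.toMatrix b b (-Y)).charpoly = X ^ finrank F V := by
    have h := Matrix.isNilpotent_charpoly_sub_pow_of_isNilpotent hnil
    rw [Fintype.card_fin] at h
    exact sub_eq_zero.mp (h.eq_zero)
  have h1 := Matrix.eval_charpoly (LinearMap.toMatrix b b (-Y)) a
  rw [hchar, eval_pow, eval_X] at h1
  rw [h1, ← LinearMap.det_toMatrix b]
  congr 1
  rw [map_add, map_neg, sub_neg_eq_add]
  congr 1
  rw [map_smul]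
  ext i j
  simp [Matrix.scalar, Matrix.one_apply, Matrix.diagonal_apply, LinearMap.toMatrix_one]

/-- Determinants of elements centralising a regular nilpotent are `n`-th powers. -/
theorem det_eq_pow_of_commute (N : End F V) (hnil : N ^ finrank F V = 0)
    (hker : finrank F (LinearMap.ker N) ≤ 1) (hV : 0 < finrank F V)
    (z : End F V) (hz : Commute z N) :
    ∃ a : F, LinearMap.det z = a ^ finrank F V := by
  obtain ⟨a, ha⟩ := exists_scalar_sub_nilpotent N hnil hker hV z hz
  refine ⟨a, ?_⟩
  have := det_scalar_add_nilpotent a (z - a • (1 : End F V)) ⟨_, ha⟩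
  rwa [add_sub_cancel] at this

end Cfsg.Agent.Lib.Helper43_RegNilpotent
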