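import Cfsg.Agent.Lib.Helper43_RegNilpotent4

set_option autoImplicit false

/-!
Any two regular nilpotent endomorphisms of the same finite-dimensional space are conjugate.
-/

namespace Cfsg.Agent.Lib.Helper43_RegNilpotent

open Module Polynomial

variable {F V : Type*} [Field F] [AddCommGroup V] [Module F V] [FiniteDimensional F V]

/-- evaluation of polynomials in `N` at a vector -/
noncomputable def evalAt (N : End F V) (v : V) : F[X] →ₗ[F] V :=
  (LinearMap.applyₗ v).comp (aeval N).toLinearMap

theorem evalAt_apply (N : End F V) (v : V) (p : F[X]) : evalAt N v p = aeval N p v := rfl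

theorem evalAt_X_mul (N : End F V) (v : V) (p : F[X]) : evalAt N v (X * p) = N (evalAt N v p) := by
  rw [evalAt_apply, evalAt_apply, map_mul, aeval_X, Module.End.mul_apply]

theorem evalAt_surjective (N : End F V) (hnil : N ^ finrank F V = 0)
    (hker : finrank F (LinearMap.ker N) ≤ 1) (v : V)
    (hv : v ∉ LinearMap.ker (N ^ (finrank F V - 1))) : Function.Surjective (evalAt N v) := by
  rw [← LinearMap.range_eq_top]
  set S := LinearMap.range (evalAt N v) with hS
  have hSinv : ∀ w ∈ S, N w ∈ S := by
    rintro _ ⟨p, rfl⟩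
    exact ⟨X * p, evalAt_X_mul N v p⟩
  have hvS : v ∈ S := ⟨1, by rw [evalAt_apply, map_one, Module.End.one_apply]⟩
  have hinv := invariant_eq_ker_pow N hnil hker S hSinv
  set k := finrank F S with hk
  have hvk : v ∈ LinearMap.ker (N ^ k) := by rw [← hinv]; exact hvS
  have hkn : k = finrank F V := by
    by_contra hne
    have hle : k ≤ finrank F V := Submodule.finrank_le _
    have : k ≤ finrank F V - 1 := by omega
    exact hv (ker_pow_mono N this hvk)
  rw [hinv, hkn, hnil, LinearMap.ker_zero]

theorem minpoly_eq_X_pow (N : End F V) (hnil : N ^ finrank F V = 0)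
    (hker : finrank F (LinearMap.ker N) ≤ 1) (hV : 0 < finrank F V) :
    minpoly F N = X ^ finrank F V := by
  obtain ⟨v, hv⟩ := exists_cyclic N hnil hker hV
  have hdvd : minpoly F N ∣ X ^ finrank F V := by
    apply minpoly.dvd
    rw [map_pow, aeval_X, hnil]
  obtain ⟨j, hj, hassoc⟩ := (dvd_prime_pow prime_X _).mp hdvd
  have hmonic : (minpoly F N).Monic := minpoly.monic (Algebra.IsIntegral.isIntegral N)
  have heq : minpoly F N = X ^ j := eq_of_monic_of_associated hmonic (monic_X_pow j) hassoc
  have hNj : N ^ j = 0 := by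
    have := minpoly.aeval F N
    rwa [heq, map_pow, aeval_X] at this
  have hjn : j = finrank F V := by
    by_contra hne
    have hle : j ≤ finrank F V - 1 := by omega
    apply hv
    rw [LinearMap.mem_ker]
    obtain ⟨c, hc⟩ := Nat.exists_eq_add_of_le hle
    rw [hc, add_comm, pow_add, Module.End.mul_apply, hNj, LinearMap.zero_apply, map_zero]
  rw [heq, hjn]

theorem ker_evalAt (N : End F V) (hnil : N ^ finrank F V = 0)
    (hker : finrank F (LinearMap.ker N) ≤ 1) (hV : 0 < finrank F V) (v : V)
    (hv : v ∉ LinearMap.ker (N ^ (finrank F V - 1))) (p : F[X]) :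
    p ∈ LinearMap.ker (evalAt N v) ↔ X ^ finrank F V ∣ p := by
  rw [LinearMap.mem_ker, evalAt_apply]
  constructor
  · intro h
    have hc : Commute (aeval N p) N := by
      have : Commute (aeval N p) (aeval N X) := (Commute.all p X).map (aeval N)
      rwa [aeval_X] at this
    have h0 := eq_zero_of_commute_of_apply_cyclic N hnil hker v hv _ hc h
    rw [← minpoly_eq_X_pow N hnil hker hV]
    exact minpoly.dvd F N h0
  · rintro ⟨r, rfl⟩
    rw [map_mul, map_pow, aeval_X, hnil, zero_mul, LinearMap.zero_apply]

/-- Any two regular nilpotent endomorphisms are conjugate by a linear automorphism. -/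
theorem exists_equiv_conj (N N' : End F V) (hnil : N ^ finrank F V = 0)
    (hker : finrank F (LinearMap.ker N) ≤ 1) (hnil' : N' ^ finrank F V = 0)
    (hker' : finrank F (LinearMap.ker N') ≤ 1) (hV : 0 < finrank F V) :
    ∃ g : V ≃ₗ[F] V, ∀ x, g (N x) = N' (g x) := by
  obtain ⟨v, hv⟩ := exists_cyclic N hnil hker hV
  obtain ⟨v', hv'⟩ := exists_cyclic N' hnil' hker' hV
  have hs := evalAt_surjective N hnil hker v hv
  have hs' := evalAt_surjective N' hnil' hker' v' hv'
  have hkeq : LinearMap.ker (evalAt N v) = LinearMap.ker (evalAt N' v') := by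
    ext p
    rw [ker_evalAt N hnil hker hV v hv, ker_evalAt N' hnil' hker' hV v' hv']
  let e := LinearMap.quotKerEquivOfSurjective (evalAt N v) hs
  let e' := LinearMap.quotKerEquivOfSurjective (evalAt N' v') hs'
  let g : V ≃ₗ[F] V := e.symm ≪≫ₗ (Submodule.quotEquivOfEq _ _ hkeq) ≪≫ₗ e'
  have hg : ∀ p : F[X], g (evalAt N v p) = evalAt N' v' p := by
    intro p
    have h1 : e.symm (evalAt N v p) = Submodule.Quotient.mk p := by
      rw [LinearEquiv.symm_apply_eq]
      rfl
    simp only [g, LinearEquiv.trans_apply, h1, Submodule.quotEquivOfEq_mk]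
    rfl
  refine ⟨g, ?_⟩
  intro x
  obtain ⟨p, rfl⟩ := hs x
  rw [← evalAt_X_mul, hg, hg, evalAt_X_mul]

end Cfsg.Agent.Lib.Helper43_RegNilpotent
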