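import Cfsg.Agent.Lib.Helper43_RegNilpotent5

set_option autoImplicit false

/-!
The commutant of a regular nilpotent endomorphism consists of polynomials in it, hence is
commutative.
-/

namespace Cfsg.Agent.Lib.Helper43_RegNilpotent

open Module Polynomial

variable {F V : Type*} [Field F] [AddCommGroup V] [Module F V] [FiniteDimensional F V]

theorem commute_aeval (N X : End F V) (hX : Commute X N) (p : F[X]) : Commute X (aeval N p) :=
  Algebra.commute_of_mem_adjoin_of_forall_mem_commute (aeval_mem_adjoin_singleton F N)
    (by
      intro b hb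
      rw [Set.mem_singleton_iff] at hb
      rw [hb]
      exact hX)

theorem exists_aeval_eq (N : End F V) (hnil : N ^ finrank F V = 0)
    (hker : finrank F (LinearMap.ker N) ≤ 1) (hV : 0 < finrank F V)
    (Y : End F V) (hY : Commute Y N) : ∃ p : F[X], Y = aeval N p := by
  obtain ⟨v, hv⟩ := exists_cyclic N hnil hker hV
  obtain ⟨p, hp⟩ := evalAt_surjective N hnil hker v hv (Y v)
  refine ⟨p, ?_⟩
  have hc : Commute (Y - aeval N p) N :=
    hY.sub_left (commute_aeval N N (Commute.refl N) p).symm
  have h0 : (Y - aeval N p) v = 0 := by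
    rw [LinearMap.sub_apply, ← evalAt_apply, hp, sub_self]
  have := eq_zero_of_commute_of_apply_cyclic N hnil hker v hv _ hc h0
  exact sub_eq_zero.mp this

theorem commute_of_commute (N : End F V) (hnil : N ^ finrank F V = 0)
    (hker : finrank F (LinearMap.ker N) ≤ 1) (hV : 0 < finrank F V)
    (X Y : End F V) (hX : Commute X N) (hY : Commute Y N) : Commute X Y := by
  obtain ⟨p, rfl⟩ := exists_aeval_eq N hnil hker hV Y hY
  exact commute_aeval N X hX p

end Cfsg.Agent.Lib.Helper43_RegNilpotent
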