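import Mathlib
import Cfsg.Agent.Lib.Helper5_SLPresA

/-!
From "torus data" `(x, t, h)` in a group to the rank one Steinberg relations.
-/

namespace Cfsg.Agent.Lib.Helper5_SLPresB

open Cfsg.Agent.Lib.Helper5_SteinbergA

variable {K : Type*} [Field K] {G : Type*} [Group G]

/-- torus data: an additive root subgroup `x`, a Weyl element `t` and a torus element `h` acting
through `ζ ^ 2`, with `w(1) = t` and `w(ζ) = h t`, where `ζ` generates the multiplicative group -/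
structure TData (x : K → G) (t h : G) (ζ : K) : Prop where
  ne : ζ ≠ 0
  add : ∀ a b, x a * x b = x (a + b)
  hx : ∀ a, h * x a * h⁻¹ = x (ζ ^ 2 * a)
  th : t * h * t⁻¹ = h⁻¹
  w1 : x 1 * (t * x 1 * t⁻¹) * x 1 = t
  wz : x ζ * (t * x ζ⁻¹ * t⁻¹) * x ζ = h * t
  gen : ∀ a : K, a ≠ 0 → ∃ m : ℕ, a = ζ ^ m

/-- the opposite root subgroup -/
def yy (x : K → G) (t : G) (b : K) : G := t * x (-b) * t⁻¹

/-- both root subgroups -/
def XX (x : K → G) (t : G) : Bool → K → G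
  | true => x
  | false => yy x t

variable {x : K → G} {t h : G} {ζ : K}

namespace TData

theorem x_zero (D : TData x t h ζ) : x 0 = 1 := by
  have := D.add 0 0
  rw [add_zero] at this
  exact mul_eq_left.mp this

theorem x_inv (D : TData x t h ζ) (a : K) : (x a)⁻¹ = x (-a) := by
  rw [inv_eq_iff_mul_eq_one, D.add, add_neg_cancel, D.x_zero]

theorem yy_add (D : TData x t h ζ) (a b : K) : yy x t a * yy x t b = yy x t (a + b) := by
  unfold yy
  have : t * x (-a) * t⁻¹ * (t * x (-b) * t⁻¹) = t * (x (-a) * x (-b)) * t⁻¹ := by group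
  rw [this, D.add, neg_add]

theorem ht (D : TData x t h ζ) : h * t = t * h⁻¹ := by
  have h2 : t * h⁻¹ * t⁻¹ = h := by
    have e : t * h⁻¹ * t⁻¹ = (t * h * t⁻¹)⁻¹ := by group
    rw [e, D.th, inv_inv]
  calc h * t = (t * h⁻¹ * t⁻¹) * t := by rw [h2]
    _ = t * h⁻¹ := by group

theorem hinv_x (D : TData x t h ζ) (c : K) : h⁻¹ * x c * h = x ((ζ ^ 2)⁻¹ * c) := by
  have := D.hx ((ζ ^ 2)⁻¹ * c)
  have e : ζ ^ 2 * ((ζ ^ 2)⁻¹ * c) = c := by
    have := D.ne
    field_simp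
  rw [e] at this
  rw [← this]; group

theorem hy (D : TData x t h ζ) (b : K) : h * yy x t b * h⁻¹ = yy x t ((ζ ^ 2)⁻¹ * b) := by
  unfold yy
  have e1 : h * (t * x (-b) * t⁻¹) * h⁻¹ = (h * t) * x (-b) * (h * t)⁻¹ := by group
  rw [e1, D.ht]
  have e2 : t * h⁻¹ * x (-b) * (t * h⁻¹)⁻¹ = t * (h⁻¹ * x (-b) * h) * t⁻¹ := by group
  rw [e2, D.hinv_x, mul_neg]

/-- the Weyl type elements -/
theorem W_eq (a : K) : W (XX x t) true a = x a * yy x t (-a⁻¹) * x a := rfl

theorem hW (D : TData x t h ζ) {a : K} (_ha : a ≠ 0) :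
    h * W (XX x t) true a * h⁻¹ = W (XX x t) true (ζ ^ 2 * a) := by
  rw [W_eq, W_eq]
  have e1 : h * (x a * yy x t (-a⁻¹) * x a) * h⁻¹ =
      (h * x a * h⁻¹) * (h * yy x t (-a⁻¹) * h⁻¹) * (h * x a * h⁻¹) := by group
  rw [e1, D.hx, D.hy]
  have e2 : (ζ ^ 2)⁻¹ * -a⁻¹ = -(ζ ^ 2 * a)⁻¹ := by
    rw [mul_inv]; ring
  rw [e2]

theorem W_one (D : TData x t h ζ) : W (XX x t) true 1 = t := by
  rw [W_eq]
  have : yy x t (-(1 : K)⁻¹) = t * x 1 * t⁻¹ := by
    unfold yy; rw [inv_one, neg_neg]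
  rw [this]
  exact D.w1

theorem W_zeta (D : TData x t h ζ) : W (XX x t) true ζ = h * t := by
  rw [W_eq]
  have : yy x t (-ζ⁻¹) = t * x ζ⁻¹ * t⁻¹ := by
    unfold yy; rw [neg_neg]
  rw [this]
  exact D.wz

theorem W_pow (D : TData x t h ζ) (m : ℕ) : W (XX x t) true (ζ ^ m) = h ^ m * t := by
  induction m using Nat.twoStepInduction with
  | zero => rw [pow_zero, pow_zero, one_mul]; exact D.W_one
  | one => rw [pow_one, pow_one]; exact D.W_zeta
  | more m ih _ =>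
    have e : ζ ^ (m + 2) = ζ ^ 2 * ζ ^ m := by ring
    rw [e, ← D.hW (pow_ne_zero m D.ne), ih]
    have e2 : h * (h ^ m * t) * h⁻¹ = h ^ (m + 1) * (t * h⁻¹) := by
      rw [pow_succ']; group
    rw [e2, ← D.ht, pow_succ, pow_succ]
    group

theorem hpow_x (D : TData x t h ζ) (m : ℕ) (a : K) :
    h ^ m * x a * (h ^ m)⁻¹ = x ((ζ ^ m) ^ 2 * a) := by
  induction m with
  | zero => simp
  | succ m ih =>
    have e : h ^ (m + 1) * x a * (h ^ (m + 1))⁻¹ = h * (h ^ m * x a * (h ^ m)⁻¹) * h⁻¹ := by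
      rw [pow_succ']; group
    rw [e, ih, D.hx]
    congr 1; ring

theorem hpow_y (D : TData x t h ζ) (m : ℕ) (b : K) :
    h ^ m * yy x t b * (h ^ m)⁻¹ = yy x t (((ζ ^ m) ^ 2)⁻¹ * b) := by
  induction m with
  | zero => simp
  | succ m ih =>
    have e : h ^ (m + 1) * yy x t b * (h ^ (m + 1))⁻¹ =
        h * (h ^ m * yy x t b * (h ^ m)⁻¹) * h⁻¹ := by
      rw [pow_succ']; group
    rw [e, ih, D.hy]
    congr 1
    have := D.ne
    field_simp
    ring

theorem conj_true (D : TData x t h ζ) {a : K} (ha : a ≠ 0) (b : K) :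
    W (XX x t) true a * x b * (W (XX x t) true a)⁻¹ = yy x t (-(a⁻¹ ^ 2 * b)) := by
  obtain ⟨m, rfl⟩ := D.gen a ha
  rw [D.W_pow]
  have e1 : h ^ m * t * x b * (h ^ m * t)⁻¹ = h ^ m * (t * x b * t⁻¹) * (h ^ m)⁻¹ := by group
  have e2 : t * x b * t⁻¹ = yy x t (-b) := by unfold yy; rw [neg_neg]
  rw [e1, e2, D.hpow_y]
  congr 1
  rw [inv_pow]; ring

theorem W_neg (D : TData x t h ζ) (a : K) :
    W (XX x t) true (-a) = (W (XX x t) true a)⁻¹ := by
  rw [W_eq, W_eq, mul_inv_rev, mul_inv_rev, D.x_inv]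
  have : (yy x t (-a⁻¹))⁻¹ = yy x t (-(-a)⁻¹) := by
    rw [inv_eq_iff_mul_eq_one, D.yy_add, inv_neg, neg_neg, neg_add_cancel]
    unfold yy; rw [neg_zero, D.x_zero]; group
  rw [this, mul_assoc]

theorem tt_comm (D : TData x t h ζ) (b : K) : t * t * x b = x b * (t * t) := by
  have h1 := D.conj_true (a := -1) (by simp) b
  rw [D.W_neg, D.W_one] at h1
  have e : -((-1 : K)⁻¹ ^ 2 * b) = -b := by
    rw [inv_neg, inv_one]; ring
  rw [e] at h1
  have h2 : yy x t (-b) = t * x b * t⁻¹ := by unfold yy; rw [neg_neg]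
  rw [h2, inv_inv] at h1
  calc t * t * x b = t * (t * x b * t⁻¹) * t := by group
    _ = t * (t⁻¹ * x b * t) * t := by rw [h1]
    _ = x b * (t * t) := by group

theorem t_yy (D : TData x t h ζ) (c : K) : t * yy x t c * t⁻¹ = x (-c) := by
  unfold yy
  have h1 := D.tt_comm (-c)
  calc t * (t * x (-c) * t⁻¹) * t⁻¹ = (t * t * x (-c)) * (t * t)⁻¹ := by group
    _ = x (-c) * (t * t) * (t * t)⁻¹ := by rw [h1]
    _ = x (-c) := by group

theorem tinv_yy (_D : TData x t h ζ) (c : K) : t⁻¹ * yy x t c * t = x (-c) := by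
  unfold yy; group

/-- the opposite Weyl type elements -/
theorem W_false_eq' (a : K) : W (XX x t) false a = yy x t a * x (-a⁻¹) * yy x t a := rfl

theorem W_false (D : TData x t h ζ) (a : K) :
    W (XX x t) false a = t * W (XX x t) true (-a) * t⁻¹ := by
  rw [W_false_eq', W_eq]
  have e1 : t * (x (-a) * yy x t (-(-a)⁻¹) * x (-a)) * t⁻¹ =
      (t * x (-a) * t⁻¹) * (t * yy x t (-(-a)⁻¹) * t⁻¹) * (t * x (-a) * t⁻¹) := by group
  rw [e1, D.t_yy]
  have e2 : t * x (-a) * t⁻¹ = yy x t a := rfl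
  rw [e2, inv_neg, neg_neg]

theorem conj_false (D : TData x t h ζ) {a : K} (ha : a ≠ 0) (b : K) :
    W (XX x t) false a * yy x t b * (W (XX x t) false a)⁻¹ = x (-(a⁻¹ ^ 2 * b)) := by
  rw [D.W_false]
  have e1 : t * W (XX x t) true (-a) * t⁻¹ * yy x t b * (t * W (XX x t) true (-a) * t⁻¹)⁻¹ =
      t * (W (XX x t) true (-a) * (t⁻¹ * yy x t b * t) * (W (XX x t) true (-a))⁻¹) * t⁻¹ := by
    group
  rw [e1, D.tinv_yy, D.conj_true (neg_ne_zero.mpr ha), D.t_yy]
  congr 1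
  rw [inv_neg]; ring

/-- torus data give the Steinberg relations -/
theorem rel (D : TData x t h ζ) : Rel (XX x t) := by
  constructor
  · intro b a c
    cases b
    · exact D.yy_add a c
    · exact D.add a c
  · intro b a c ha
    cases b
    · exact D.conj_false ha c
    · exact D.conj_true ha c

end TData

end Cfsg.Agent.Lib.Helper5_SLPresB
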