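import Mathlib

/-!
Group theoretic lemmas for the "Borel part" of bounded presentations of `SL₂(q)`:
conjugates `cj u h i = h ^ i * u * h ^ (-i)`, the commutativity tricks and a cardinality bound.
-/

namespace Cfsg.Agent.Lib.Helper5_SLPresC

variable {G : Type*} [Group G]

/-- conjugates of `u` under powers of `h` -/
def cj (u h : G) (i : ℕ) : G := h ^ i * u * (h ^ i)⁻¹

theorem cj_zero (u h : G) : cj u h 0 = u := by simp [cj]

theorem cj_add (u h : G) (i s : ℕ) : h ^ s * cj u h i * (h ^ s)⁻¹ = cj u h (i + s) := by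
  unfold cj
  rw [add_comm, pow_add]; group

theorem cj_succ (u h : G) (i : ℕ) : h * cj u h i * h⁻¹ = cj u h (i + 1) := by
  have := cj_add u h i 1
  rwa [pow_one] at this

theorem map_cj {H : Type*} [Group H] (f : G →* H) (u h : G) (i : ℕ) :
    f (cj u h i) = cj (f u) (f h) i := by
  simp [cj, map_mul, map_pow, map_inv]

theorem cj_pow (u h : G) (i n : ℕ) : (cj u h i) ^ n = h ^ i * u ^ n * (h ^ i)⁻¹ := by
  unfold cj
  exact conj_pow

theorem cj_pow_eq_one (u h : G) (i n : ℕ) (hu : u ^ n = 1) : (cj u h i) ^ n = 1 := by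
  rw [cj_pow, hu]; group

theorem commute_shift (u h : G) {i j : ℕ} (s : ℕ) (hc : Commute (cj u h i) (cj u h j)) :
    Commute (cj u h (i + s)) (cj u h (j + s)) := by
  rw [← cj_add, ← cj_add]
  have := hc.eq
  unfold Commute SemiconjBy
  calc h ^ s * cj u h i * (h ^ s)⁻¹ * (h ^ s * cj u h j * (h ^ s)⁻¹)
      = h ^ s * (cj u h i * cj u h j) * (h ^ s)⁻¹ := by group
    _ = h ^ s * (cj u h j * cj u h i) * (h ^ s)⁻¹ := by rw [this]
    _ = _ := by group

theorem commute_unshift (u h : G) {i j : ℕ} (s : ℕ)
    (hc : Commute (cj u h (i + s)) (cj u h (j + s))) : Commute (cj u h i) (cj u h j) := by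
  rw [← cj_add, ← cj_add] at hc
  have := hc.eq
  unfold Commute SemiconjBy
  calc cj u h i * cj u h j
      = (h ^ s)⁻¹ * ((h ^ s * cj u h i * (h ^ s)⁻¹) * (h ^ s * cj u h j * (h ^ s)⁻¹)) * h ^ s := by
        group
    _ = (h ^ s)⁻¹ * ((h ^ s * cj u h j * (h ^ s)⁻¹) * (h ^ s * cj u h i * (h ^ s)⁻¹)) * h ^ s := by
        rw [this]
    _ = _ := by group

theorem commute_of_prod {a X Y z : G} (h1 : Commute a X) (h2 : Commute a Y) (h3 : Commute X Y)
    (h4 : Commute X z) (h5 : Commute (a * X) (Y * z)) : Commute a z := by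
  have e1 : a * X * (Y * z) = X * Y * (a * z) := by
    calc a * X * (Y * z) = (a * X) * Y * z := by group
      _ = (X * a) * Y * z := by rw [h1.eq]
      _ = X * (a * Y) * z := by group
      _ = X * (Y * a) * z := by rw [h2.eq]
      _ = _ := by group
  have e2 : Y * z * (a * X) = X * Y * (z * a) := by
    calc Y * z * (a * X) = Y * z * (X * a) := by rw [h1.eq]
      _ = Y * (z * X) * a := by group
      _ = Y * (X * z) * a := by rw [h4.eq]
      _ = (Y * X) * z * a := by group
      _ = (X * Y) * z * a := by rw [h3.eq]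
      _ = _ := by group
  have := h5.eq
  rw [e1, e2] at this
  exact mul_left_cancel this

/-- commutation of the conjugates at distance at most `n` -/
def Dn (u h : G) (n : ℕ) : Prop :=
  ∀ i j : ℕ, i ≤ j + n → j ≤ i + n → Commute (cj u h i) (cj u h j)

theorem Dn_succ (u h : G) (n : ℕ) (hn : Dn u h n) (h0 : Commute (cj u h 0) (cj u h (n + 1))) :
    Dn u h (n + 1) := by
  intro i j hij hji
  by_cases h1 : i ≤ j + n
  · by_cases h2 : j ≤ i + n
    · exact hn i j h1 h2
    · have : j = 0 + (n + 1) + i := by omega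
      rw [this]
      have := commute_shift u h i h0
      rwa [zero_add, add_comm (n + 1) i, ← add_assoc] at this ⊢
  · have : i = (n + 1) + j := by omega
    rw [this]
    have := (commute_shift u h j h0).symm
    rwa [zero_add] at this

/-- the three term trick -/
theorem commute_all_three (u h : G) (b k : ℕ) (c01 : Commute (cj u h 0) (cj u h 1))
    (r : cj u h k = cj u h 0 * (cj u h 1) ^ b * cj u h 2)
    (r' : cj u h k = cj u h 2 * (cj u h 1) ^ b * cj u h 0) :
    ∀ i j, Commute (cj u h i) (cj u h j) := by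
  have D0 : Dn u h 0 := by
    intro i j h1 h2
    have : i = j := by omega
    rw [this]
  have D1 : Dn u h 1 := Dn_succ u h 0 D0 c01
  have c12 : Commute (cj u h 1) (cj u h 2) := commute_shift u h 1 c01
  have c02 : Commute (cj u h 0) (cj u h 2) := by
    have e := r.symm.trans r'
    have e1 : cj u h 0 * cj u h 1 ^ b * cj u h 2 = cj u h 1 ^ b * (cj u h 0 * cj u h 2) := by
      rw [(c01.pow_right b).eq]; group
    have e2 : cj u h 2 * cj u h 1 ^ b * cj u h 0 = cj u h 1 ^ b * (cj u h 2 * cj u h 0) := by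
      rw [← (c12.pow_left b).eq]; group
    rw [e1, e2] at e
    exact mul_left_cancel e
  have D2 : Dn u h 2 := Dn_succ u h 1 D1 c02
  have Dall : ∀ m, Dn u h (m + 2) := by
    intro m
    induction m with
    | zero => exact D2
    | succ m ih =>
      apply Dn_succ u h (m + 2) ih
      -- a = v0, X = v1^b * v2, Y = v(m+1) * v(m+2)^b, z = v(m+3)
      have rs : cj u h (k + (m + 1)) =
          cj u h (m + 1) * (cj u h (m + 2)) ^ b * cj u h (m + 3) := by
        rw [← cj_add u h k (m + 1), r]
        have : h ^ (m + 1) * (cj u h 0 * cj u h 1 ^ b * cj u h 2) * (h ^ (m + 1))⁻¹ =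
            (h ^ (m + 1) * cj u h 0 * (h ^ (m + 1))⁻¹) *
              (h ^ (m + 1) * cj u h 1 * (h ^ (m + 1))⁻¹) ^ b *
              (h ^ (m + 1) * cj u h 2 * (h ^ (m + 1))⁻¹) := by
          rw [conj_pow]; group
        rw [this, cj_add, cj_add, cj_add]
        have e1 : 0 + (m + 1) = m + 1 := by ring
        have e2 : 1 + (m + 1) = m + 2 := by ring
        have e3 : 2 + (m + 1) = m + 3 := by ring
        rw [e1, e2, e3]
      have h5 : Commute (cj u h 0 * (cj u h 1 ^ b * cj u h 2))
          (cj u h (m + 1) * cj u h (m + 2) ^ b * cj u h (m + 3)) := by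
        rw [← mul_assoc, ← r, ← rs]
        exact ih _ _ (by omega) (by omega)
      have C : ∀ i j : ℕ, i ≤ j + (m + 2) → j ≤ i + (m + 2) →
          Commute (cj u h i) (cj u h j) := ih
      apply commute_of_prod (X := cj u h 1 ^ b * cj u h 2)
        (Y := cj u h (m + 1) * cj u h (m + 2) ^ b) _ _ _ _ h5
      · exact ((C 0 1 (by omega) (by omega)).pow_right b).mul_right (C 0 2 (by omega) (by omega))
      · exact (C 0 (m + 1) (by omega) (by omega)).mul_right
          ((C 0 (m + 2) (by omega) (by omega)).pow_right b)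
      · apply Commute.mul_left
        · exact ((C 1 (m + 1) (by omega) (by omega)).pow_left b).mul_right
            ((C 1 (m + 2) (by omega) (by omega)).pow_pow b b)
        · exact (C 2 (m + 1) (by omega) (by omega)).mul_right
            ((C 2 (m + 2) (by omega) (by omega)).pow_right b)
      · exact ((C 1 (m + 3) (by omega) (by omega)).pow_left b).mul_left
          (C 2 (m + 3) (by omega) (by omega))
  intro i j
  exact Dall (i + j) i j (by omega) (by omega)

/-- the two term trick for involutions -/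
theorem commute_all_two (u h : G) (k : ℕ) (hu : u * u = 1)
    (r : cj u h k = cj u h 0 * cj u h 1) :
    ∀ i j, Commute (cj u h i) (cj u h j) := by
  have sq : ∀ i, cj u h i * cj u h i = 1 := by
    intro i
    have := cj_pow_eq_one u h i 2 (by rw [pow_two, hu])
    rwa [pow_two] at this
  have D0 : Dn u h 0 := by
    intro i j h1 h2
    have : i = j := by omega
    rw [this]
  have c01 : Commute (cj u h 0) (cj u h 1) := by
    have h1 := sq k
    rw [r] at h1
    -- (v0 v1)(v0 v1) = 1
    unfold Commute SemiconjBy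
    calc cj u h 0 * cj u h 1
        = (cj u h 1 * cj u h 1) * (cj u h 0 * cj u h 1) * (cj u h 0 * cj u h 0) := by
          rw [sq, sq, one_mul, mul_one]
      _ = cj u h 1 * (cj u h 1 * cj u h 0) * (cj u h 1 * cj u h 0) * cj u h 0 := by group
      _ = cj u h 1 * ((cj u h 0 * cj u h 1 * (cj u h 0 * cj u h 1))⁻¹) * cj u h 0 := by
          have e : (cj u h 0 * cj u h 1 * (cj u h 0 * cj u h 1))⁻¹ =
              (cj u h 1)⁻¹ * (cj u h 0)⁻¹ * ((cj u h 1)⁻¹ * (cj u h 0)⁻¹) := by group
          have i0 : (cj u h 0)⁻¹ = cj u h 0 := inv_eq_of_mul_eq_one_left (sq 0)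
          have i1 : (cj u h 1)⁻¹ = cj u h 1 := inv_eq_of_mul_eq_one_left (sq 1)
          rw [e, i0, i1]; group
      _ = cj u h 1 * cj u h 0 := by rw [h1, inv_one, mul_one]
  have D1 : Dn u h 1 := Dn_succ u h 0 D0 c01
  have Dall : ∀ m, Dn u h (m + 1) := by
    intro m
    induction m with
    | zero => exact D1
    | succ m ih =>
      apply Dn_succ u h (m + 1) ih
      have rs : cj u h (k + (m + 1)) = cj u h (m + 1) * cj u h (m + 2) := by
        rw [← cj_add u h k (m + 1), r]
        have : h ^ (m + 1) * (cj u h 0 * cj u h 1) * (h ^ (m + 1))⁻¹ =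
            (h ^ (m + 1) * cj u h 0 * (h ^ (m + 1))⁻¹) *
              (h ^ (m + 1) * cj u h 1 * (h ^ (m + 1))⁻¹) := by group
        rw [this, cj_add, cj_add]
        have e1 : 0 + (m + 1) = m + 1 := by ring
        have e2 : 1 + (m + 1) = m + 2 := by ring
        rw [e1, e2]
      have h5 : Commute (cj u h 0 * cj u h 1) (cj u h (m + 1) * cj u h (m + 2)) := by
        rw [← r, ← rs]
        exact ih _ _ (by omega) (by omega)
      have C : ∀ i j : ℕ, i ≤ j + (m + 1) → j ≤ i + (m + 1) →
          Commute (cj u h i) (cj u h j) := ih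
      exact commute_of_prod (C 0 1 (by omega) (by omega)) (C 0 (m + 1) (by omega) (by omega))
        (C 1 (m + 1) (by omega) (by omega)) (C 1 (m + 2) (by omega) (by omega)) h5
  intro i j
  exact Dall (i + j) i j (by omega) (by omega)

end Cfsg.Agent.Lib.Helper5_SLPresC
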