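import Mathlib
import Cfsg.Agent.Lib.Helper5_SLPresC

/-!
The subgroup generated by the conjugates: generation by the first `d` of them and a bound for
its order.
-/

namespace Cfsg.Agent.Lib.Helper5_SLPresC

variable {G : Type*} [Group G]

/-- product of powers of shifted conjugates -/
def pw (u h : G) (d : ℕ) (c : Fin d → ℕ) (s : ℕ) : G :=
  (List.ofFn fun i : Fin d => (cj u h ((i : ℕ) + s)) ^ (c i)).prod

theorem conj_pw (u h : G) (d : ℕ) (c : Fin d → ℕ) (s : ℕ) :
    h ^ s * pw u h d c 0 * (h ^ s)⁻¹ = pw u h d c s := by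
  unfold pw
  have := map_list_prod (MulAut.conj (h ^ s)) (List.ofFn fun i : Fin d => (cj u h ((i : ℕ) + 0)) ^ (c i))
  rw [MulAut.conj_apply] at this
  rw [this, List.map_ofFn]
  refine congrArg _ (congrArg _ (funext fun i => ?_))
  simp only [Function.comp_apply, MulAut.conj_apply, add_zero]
  rw [← cj_add u h i s, conj_pow]

theorem map_pw {H : Type*} [Group H] (f : G →* H) (u h : G) (d : ℕ) (c : Fin d → ℕ) (s : ℕ) :
    f (pw u h d c s) = pw (f u) (f h) d c s := by
  unfold pw
  rw [map_list_prod, List.map_ofFn]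
  refine congrArg _ (congrArg _ (funext fun i => ?_))
  simp only [Function.comp_apply, map_pow, map_cj]

theorem cj_mem_closure (u h : G) (d : ℕ) (c : Fin d → ℕ) (hm : cj u h d = pw u h d c 0) (i : ℕ) :
    cj u h i ∈ Subgroup.closure (Set.range fun j : Fin d => cj u h j) := by
  induction i using Nat.strong_induction_on with
  | _ i ih =>
    by_cases hi : i < d
    · exact Subgroup.subset_closure ⟨⟨i, hi⟩, rfl⟩
    · obtain ⟨s, rfl⟩ : ∃ s, i = d + s := ⟨i - d, by omega⟩
      rw [← cj_add u h d s, hm, conj_pw]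
      unfold pw
      apply Subgroup.list_prod_mem
      intro x hx
      rw [List.mem_ofFn] at hx
      obtain ⟨j, rfl⟩ := hx
      exact pow_mem (ih _ (by have := j.2; omega)) _

/-- the subgroup generated by all the conjugates -/
def UU (u h : G) : Subgroup G := Subgroup.closure (Set.range (cj u h))

theorem UU_eq (u h : G) (d : ℕ) (c : Fin d → ℕ) (hm : cj u h d = pw u h d c 0) :
    UU u h = Subgroup.closure (Set.range fun j : Fin d => cj u h j) := by
  apply le_antisymm
  · unfold UU
    rw [Subgroup.closure_le]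
    rintro _ ⟨i, rfl⟩
    exact cj_mem_closure u h d c hm i
  · apply Subgroup.closure_mono
    rintro _ ⟨j, rfl⟩
    exact ⟨j, rfl⟩

theorem mem_UU (u h : G) (i : ℕ) : cj u h i ∈ UU u h := Subgroup.subset_closure ⟨i, rfl⟩

theorem u_mem_UU (u h : G) : u ∈ UU u h := by
  have := mem_UU u h 0
  rwa [cj_zero] at this

theorem conj_mem_UU (u h : G) {x : G} (hx : x ∈ UU u h) : h * x * h⁻¹ ∈ UU u h := by
  unfold UU at hx ⊢
  induction hx using Subgroup.closure_induction with
  | mem y hy =>
    obtain ⟨i, rfl⟩ := hy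
    rw [cj_succ]
    exact Subgroup.subset_closure ⟨i + 1, rfl⟩
  | one => simp
  | mul a b _ _ ha hb =>
    have : h * (a * b) * h⁻¹ = (h * a * h⁻¹) * (h * b * h⁻¹) := by group
    rw [this]; exact mul_mem ha hb
  | inv a _ ha =>
    have : h * a⁻¹ * h⁻¹ = (h * a * h⁻¹)⁻¹ := by group
    rw [this]; exact inv_mem ha

theorem UU_comm (u h : G) (hc : ∀ i j, Commute (cj u h i) (cj u h j)) :
    ∀ x ∈ UU u h, ∀ y ∈ UU u h, x * y = y * x := by
  have h1 : UU u h ≤ Subgroup.centralizer (UU u h : Set G) := by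
    unfold UU
    rw [Subgroup.closure_le]
    rintro _ ⟨i, rfl⟩
    rw [SetLike.mem_coe, Subgroup.mem_centralizer_iff]
    intro y hy
    induction hy using Subgroup.closure_induction with
    | mem z hz =>
      obtain ⟨j, rfl⟩ := hz
      exact (hc j i).eq
    | one => simp
    | mul a b _ _ ha hb => rw [mul_assoc, hb, ← mul_assoc, ha, mul_assoc]
    | inv a _ ha =>
      calc a⁻¹ * cj u h i = a⁻¹ * (cj u h i * a) * a⁻¹ := by group
        _ = a⁻¹ * (a * cj u h i) * a⁻¹ := by rw [ha]
        _ = cj u h i * a⁻¹ := by group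
  intro x hx y hy
  have := h1 hx
  rw [Subgroup.mem_centralizer_iff] at this
  exact (this y hy).symm

/-- a group generated by `d` commuting elements of order dividing `p` has at most `p ^ d` elements -/
theorem card_closure_le (d : ℕ) (g : Fin d → G) (hc : ∀ i j, Commute (g i) (g j)) (p : ℕ)
    (hp : 0 < p) (hg : ∀ i, (g i) ^ p = 1) :
    Finite (Subgroup.closure (Set.range g)) ∧ Nat.card (Subgroup.closure (Set.range g)) ≤ p ^ d := by
  classical
  have hfin : ∀ i, Finite (Subgroup.zpowers (g i)) := by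
    intro i
    have : IsOfFinOrder (g i) := isOfFinOrder_iff_pow_eq_one.mpr ⟨p, hp, hg i⟩
    exact this.finite_zpowers
  have hcard : ∀ i, Nat.card (Subgroup.zpowers (g i)) ≤ p := by
    intro i
    rw [Nat.card_zpowers]
    exact Nat.le_of_dvd hp (orderOf_dvd_of_pow_eq_one (hg i))
  have hcomm : Pairwise fun i j : Fin d => ∀ x y : G, x ∈ Subgroup.zpowers (g i) →
      y ∈ Subgroup.zpowers (g j) → Commute x y := by
    intro i j _ x y hx hy
    obtain ⟨a, rfl⟩ := hx
    obtain ⟨b, rfl⟩ := hy
    exact (hc i j).zpow_zpow a b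
  let φ := Subgroup.noncommPiCoprod hcomm
  have hr : φ.range = ⨆ i, Subgroup.zpowers (g i) := Subgroup.noncommPiCoprod_range
  have hle : Subgroup.closure (Set.range g) ≤ φ.range := by
    rw [hr, Subgroup.closure_le]
    rintro _ ⟨i, rfl⟩
    exact Subgroup.mem_iSup_of_mem i (Subgroup.mem_zpowers (g i))
  have hfinPi : Finite (∀ i : Fin d, Subgroup.zpowers (g i)) := Pi.finite
  have hfinR : Finite φ.range := Finite.of_surjective φ.rangeRestrict φ.rangeRestrict_surjective
  have hfinC : Finite (Subgroup.closure (Set.range g)) :=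
    Finite.of_injective (Subgroup.inclusion hle) (Subgroup.inclusion_injective hle)
  refine ⟨hfinC, ?_⟩
  calc Nat.card (Subgroup.closure (Set.range g)) ≤ Nat.card φ.range :=
        Nat.card_le_card_of_injective (Subgroup.inclusion hle) (Subgroup.inclusion_injective hle)
    _ ≤ Nat.card (∀ i : Fin d, Subgroup.zpowers (g i)) :=
        Nat.card_le_card_of_surjective φ.rangeRestrict φ.rangeRestrict_surjective
    _ = ∏ i : Fin d, Nat.card (Subgroup.zpowers (g i)) := Nat.card_pi
    _ ≤ ∏ _i : Fin d, p := Finset.prod_le_prod' (fun i _ => hcard i)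
    _ = p ^ d := by simp

end Cfsg.Agent.Lib.Helper5_SLPresC
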