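import Mathlib
import Cfsg.Agent.Lib.Helper5_SLPresD
import Cfsg.Agent.Lib.Helper5_SLPresB

/-!
The matrix side: the elements `x(a)`, `w`, `h(ζ)` of `SL₂(F)` and the identities among them.
-/

namespace Cfsg.Agent.Lib.Helper5_SLPresE

open Matrix Cfsg.Agent.Lib.Helper5_SteinbergA Cfsg.Agent.Lib.Helper5_SLPresC

variable {F : Type*} [Field F]

/-- upper unitriangular -/
def xm (a : F) : Matrix.SpecialLinearGroup (Fin 2) F := mx (true, a)

/-- lower unitriangular -/
def ym (a : F) : Matrix.SpecialLinearGroup (Fin 2) F := mx (false, a)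

/-- the Weyl element -/
def wm (F : Type*) [Field F] : Matrix.SpecialLinearGroup (Fin 2) F :=
  ⟨!![0, 1; -1, 0], by simp [Matrix.det_fin_two]⟩

/-- the torus element -/
def hm (ζ : Fˣ) : Matrix.SpecialLinearGroup (Fin 2) F :=
  ⟨!![(ζ : F), 0; 0, (ζ : F)⁻¹], by simp [Matrix.det_fin_two]⟩

theorem xm_coe (a : F) : (xm a : Matrix (Fin 2) (Fin 2) F) = !![1, a; 0, 1] := rfl
theorem ym_coe (a : F) : (ym a : Matrix (Fin 2) (Fin 2) F) = !![1, 0; a, 1] := rfl
theorem wm_coe : (wm F : Matrix (Fin 2) (Fin 2) F) = !![0, 1; -1, 0] := rfl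
theorem hm_coe (ζ : Fˣ) : (hm ζ : Matrix (Fin 2) (Fin 2) F) = !![(ζ : F), 0; 0, (ζ : F)⁻¹] := rfl

theorem xm_add (a b : F) : xm a * xm b = xm (a + b) := mx_add true a b

theorem xm_zero : xm (0 : F) = 1 := by
  have := xm_add (0 : F) 0
  rw [add_zero] at this
  exact mul_eq_left.mp this

theorem xm_injective : Function.Injective (xm (F := F)) := by
  intro a b hab
  have := congrArg (fun A : Matrix.SpecialLinearGroup (Fin 2) F => (A : Matrix (Fin 2) (Fin 2) F) 0 1) hab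
  simpa [xm_coe] using this

theorem xm_pow (a : F) (n : ℕ) : xm a ^ n = xm (n * a) := by
  induction n with
  | zero => simp [xm_zero]
  | succ n ih => rw [pow_succ, ih, xm_add]; congr 1; push_cast; ring

theorem hm_xm (ζ : Fˣ) (a : F) : hm ζ * xm a * (hm ζ)⁻¹ = xm ((ζ : F) ^ 2 * a) := by
  rw [mul_inv_eq_iff_eq_mul]
  apply Subtype.ext
  simp only [Matrix.SpecialLinearGroup.coe_mul, xm_coe, hm_coe, Matrix.mul_fin_two]
  congr 1
  ext i j
  have := ζ.ne_zero
  fin_cases i <;> fin_cases j <;>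
  · simp only [Fin.zero_eta, Fin.mk_one, Fin.isValue, cons_val', cons_val_zero, cons_val_one,
      cons_val_fin_one]
    (try field_simp) <;> (try ring)

theorem wm_hm (ζ : Fˣ) : wm F * hm ζ * (wm F)⁻¹ = (hm ζ)⁻¹ := by
  rw [mul_inv_eq_iff_eq_mul, eq_inv_mul_iff_mul_eq]
  apply Subtype.ext
  simp only [Matrix.SpecialLinearGroup.coe_mul, wm_coe, hm_coe, Matrix.mul_fin_two]
  congr 1
  ext i j
  have := ζ.ne_zero
  fin_cases i <;> fin_cases j <;>
  · simp only [Fin.zero_eta, Fin.mk_one, Fin.isValue, cons_val', cons_val_zero, cons_val_one,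
      cons_val_fin_one]
    (try field_simp) <;> (try ring)

theorem wm_xm (b : F) : wm F * xm (-b) * (wm F)⁻¹ = ym b := by
  rw [mul_inv_eq_iff_eq_mul]
  apply Subtype.ext
  simp only [Matrix.SpecialLinearGroup.coe_mul, wm_coe, xm_coe, ym_coe, Matrix.mul_fin_two]
  congr 1
  ext i j
  fin_cases i <;> fin_cases j <;>
  · simp only [Fin.zero_eta, Fin.mk_one, Fin.isValue, cons_val', cons_val_zero, cons_val_one,
      cons_val_fin_one]
    ring

theorem w_one_eq : xm (1 : F) * (wm F * xm 1 * (wm F)⁻¹) * xm 1 = wm F := by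
  have h1 : wm F * xm (1 : F) * (wm F)⁻¹ = ym (-1) := by
    have := wm_xm (-1 : F)
    rwa [neg_neg] at this
  rw [h1]
  apply Subtype.ext
  simp only [Matrix.SpecialLinearGroup.coe_mul, wm_coe, xm_coe, ym_coe, Matrix.mul_fin_two]
  congr 1
  ext i j
  fin_cases i <;> fin_cases j <;>
  · simp only [Fin.zero_eta, Fin.mk_one, Fin.isValue, cons_val', cons_val_zero, cons_val_one,
      cons_val_fin_one]
    ring

theorem w_zeta_eq (ζ : Fˣ) :
    xm (ζ : F) * (wm F * xm (ζ : F)⁻¹ * (wm F)⁻¹) * xm (ζ : F) = hm ζ * wm F := by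
  have h1 : wm F * xm (ζ : F)⁻¹ * (wm F)⁻¹ = ym (-(ζ : F)⁻¹) := by
    have := wm_xm (-(ζ : F)⁻¹)
    rwa [neg_neg] at this
  rw [h1]
  apply Subtype.ext
  simp only [Matrix.SpecialLinearGroup.coe_mul, wm_coe, xm_coe, ym_coe, hm_coe, Matrix.mul_fin_two]
  congr 1
  ext i j
  have := ζ.ne_zero
  fin_cases i <;> fin_cases j <;>
  · simp only [Fin.zero_eta, Fin.mk_one, Fin.isValue, cons_val', cons_val_zero, cons_val_one,
      cons_val_fin_one]
    (try field_simp) <;> (try ring)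

theorem hm_pow_xm (ζ : Fˣ) (i : ℕ) (a : F) :
    (hm ζ) ^ i * xm a * ((hm ζ) ^ i)⁻¹ = xm (((ζ : F) ^ 2) ^ i * a) := by
  induction i with
  | zero => simp
  | succ i ih =>
    have e : hm ζ ^ (i + 1) * xm a * (hm ζ ^ (i + 1))⁻¹ =
        hm ζ * (hm ζ ^ i * xm a * (hm ζ ^ i)⁻¹) * (hm ζ)⁻¹ := by
      rw [pow_succ']; group
    rw [e, ih, hm_xm]
    congr 1; ring

theorem cj_xm (ζ : Fˣ) (i : ℕ) (a : F) :
    cj (xm a) (hm ζ) i = xm (((ζ : F) ^ 2) ^ i * a) := hm_pow_xm ζ i a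

theorem list_prod_xm (l : List F) : (l.map xm).prod = xm l.sum := by
  induction l with
  | nil => simp [xm_zero]
  | cons a l ih => rw [List.map_cons, List.prod_cons, ih, xm_add, List.sum_cons]

theorem pw_xm (ζ : Fˣ) (d : ℕ) (c : Fin d → ℕ) (s : ℕ) :
    pw (xm (1 : F)) (hm ζ) d c s =
      xm (∑ i : Fin d, (c i : F) * ((ζ : F) ^ 2) ^ ((i : ℕ) + s)) := by
  unfold pw
  have : (List.ofFn fun i : Fin d => cj (xm (1 : F)) (hm ζ) ((i : ℕ) + s) ^ c i) =
      (List.ofFn fun i : Fin d => (c i : F) * ((ζ : F) ^ 2) ^ ((i : ℕ) + s)).map xm := by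
    rw [List.map_ofFn]
    refine congrArg _ (funext fun i => ?_)
    simp only [Function.comp_apply]
    rw [cj_xm, xm_pow, mul_one]
  rw [this, list_prod_xm, List.sum_ofFn]

theorem wm_sq : (wm F * wm F : Matrix.SpecialLinearGroup (Fin 2) F) = -1 := by
  apply Subtype.ext
  simp only [Matrix.SpecialLinearGroup.coe_mul, wm_coe, Matrix.mul_fin_two,
    Matrix.SpecialLinearGroup.coe_neg, Matrix.SpecialLinearGroup.coe_one]
  ext i j
  fin_cases i <;> fin_cases j <;> simp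

end Cfsg.Agent.Lib.Helper5_SLPresE
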