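import Mathlib
import Cfsg.Agent.Lib.Helper5_SLPresE

set_option autoImplicit false

/-!
Preliminaries for the bounded presentation of `SL₃(F)`: identities in `SL₂(F)`, sums of cubes,
and the abstract commutator calculus of three additive families.
-/

namespace Cfsg.Agent.Lib.Helper66_SL3Pres

open Matrix Cfsg.Agent.Lib.Helper5_SLPresE Cfsg.Agent.Lib.Helper5_SteinbergA

variable {F : Type*} [Field F]

/-! ### identities in `SL₂(F)` -/

theorem ym_add (a b : F) : ym a * ym b = ym (a + b) := mx_add false a b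

theorem ym_zero : ym (0 : F) = 1 := by
  have := ym_add (0 : F) 0
  rw [add_zero] at this
  exact mul_eq_left.mp this

theorem wm_xm' (a : F) : wm F * xm a * (wm F)⁻¹ = ym (-a) := by
  have := wm_xm (-a)
  rwa [neg_neg] at this

theorem wm_inv_xm (a : F) : (wm F)⁻¹ * xm a * wm F = ym (-a) := by
  have key : xm a * wm F = wm F * ym (-a) := by
    apply Subtype.ext
    simp only [Matrix.SpecialLinearGroup.coe_mul, wm_coe, xm_coe, ym_coe, Matrix.mul_fin_two]
    congr 1
    ext i j
    fin_cases i <;> fin_cases j <;>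
    · simp only [Fin.zero_eta, Fin.mk_one, Fin.isValue, cons_val', cons_val_zero, cons_val_one,
        cons_val_fin_one]
      ring
  rw [mul_assoc, key]
  group

theorem hm_mul (s s' : Fˣ) : hm (s * s') = hm s * hm s' := by
  apply Subtype.ext
  simp only [Matrix.SpecialLinearGroup.coe_mul, hm_coe, Matrix.mul_fin_two, Units.val_mul]
  congr 1
  ext i j
  fin_cases i <;> fin_cases j <;>
  · simp only [Fin.zero_eta, Fin.mk_one, Fin.isValue, cons_val', cons_val_zero, cons_val_one,
      cons_val_fin_one]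
    (try simp) <;> (try ring)

theorem hm_one : hm (1 : Fˣ) = 1 := by
  have := hm_mul (1 : Fˣ) 1
  rw [mul_one] at this
  exact (mul_eq_left.mp this.symm)

/-- the torus as a homomorphism -/
def hmHom (F : Type*) [Field F] : Fˣ →* Matrix.SpecialLinearGroup (Fin 2) F where
  toFun := hm
  map_one' := hm_one
  map_mul' := hm_mul

theorem hmHom_apply (s : Fˣ) : hmHom F s = hm s := rfl

theorem hm_inv' (s : Fˣ) : hm s⁻¹ = (hm s)⁻¹ := map_inv (hmHom F) s

theorem hm_pow' (s : Fˣ) (m : ℕ) : hm (s ^ m) = (hm s) ^ m := map_pow (hmHom F) s m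

theorem wm_hm' (s : Fˣ) : wm F * hm s * (wm F)⁻¹ = hm s⁻¹ := by
  rw [wm_hm, hm_inv']

theorem wm_inv_hm (s : Fˣ) : (wm F)⁻¹ * hm s * wm F = hm s⁻¹ := by
  have h := wm_hm' s⁻¹
  rw [inv_inv] at h
  rw [← h]
  group

theorem wm_mul_wm : wm F * wm F = hm (-1) := by
  apply Subtype.ext
  simp only [Matrix.SpecialLinearGroup.coe_mul, wm_coe, hm_coe, Matrix.mul_fin_two]
  congr 1
  ext i j
  fin_cases i <;> fin_cases j <;>
  · simp only [Fin.zero_eta, Fin.mk_one, Fin.isValue, cons_val', cons_val_zero, cons_val_one,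
      cons_val_fin_one]
    (try simp)

/-! ### sums of cubes -/

/-- the additive submonoid generated by the cubes -/
def Cubes (F : Type*) [Field F] : AddSubmonoid F :=
  AddSubmonoid.closure (Set.range fun g : F => g ^ 3)

theorem cube_mem (g : F) : g ^ 3 ∈ Cubes F := AddSubmonoid.subset_closure ⟨g, rfl⟩

theorem cubes_top_of_odd [Finite F] (h2 : ringChar F ≠ 2) (a : F) : a ∈ Cubes F := by
  classical
  have := Fintype.ofFinite F
  set p := ringChar F with hpdef
  have hcp : CharP F p := ringChar.charP F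
  have hpp : p.Prime := CharP.char_is_prime F p
  have : Fact p.Prime := ⟨hpp⟩
  by_cases h3 : p = 3
  · have : CharP F 3 := h3 ▸ hcp
    have : Fact (Nat.Prime 3) := ⟨Nat.prime_three⟩
    have hsurj : Function.Surjective (frobenius F 3) :=
      Finite.injective_iff_surjective.mp (frobenius_inj F 3)
    obtain ⟨b, hb⟩ := hsurj a
    rw [frobenius_def] at hb
    rw [← hb]
    exact cube_mem b
  · have two_ne : (2 : F) ≠ 0 := Ring.two_ne_zero h2
    have three_ne : (3 : F) ≠ 0 := by
      intro h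
      have h' : ((3 : ℕ) : F) = 0 := by exact_mod_cast h
      rw [CharP.cast_eq_zero_iff F p] at h'
      exact h3 ((Nat.prime_dvd_prime_iff_eq hpp Nat.prime_three).mp h')
    have six_ne : (6 : F) ≠ 0 := by
      have : (6 : F) = 2 * 3 := by norm_num
      rw [this]
      exact mul_ne_zero two_ne three_ne
    set b := a / 6 with hb
    have e : a = (b + 1) ^ 3 + (b - 1) ^ 3 + (-b) ^ 3 + (-b) ^ 3 := by
      have : a = 6 * b := by rw [hb]; field_simp
      rw [this]; ring
    rw [e]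
    exact add_mem (add_mem (add_mem (cube_mem _) (cube_mem _)) (cube_mem _)) (cube_mem _)

/-! ### three additive families and a commutator relation -/

section fam

variable {Γ : Type*} [Group Γ] {Xf Yf Zf : F → Γ}

/-- the commutator relation `[Xf a, Yf b] = Zf (a b)` -/
def CR (Xf Yf Zf : F → Γ) (a b : F) : Prop :=
  Xf a * Yf b * (Xf a)⁻¹ * (Yf b)⁻¹ = Zf (a * b)

theorem fam_zero (hX : ∀ a b, Xf a * Xf b = Xf (a + b)) : Xf 0 = 1 := by
  have := hX 0 0
  rw [add_zero] at this
  exact mul_eq_left.mp this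

theorem fam_neg (hX : ∀ a b, Xf a * Xf b = Xf (a + b)) (a : F) : Xf (-a) = (Xf a)⁻¹ := by
  rw [eq_inv_iff_mul_eq_one, hX, neg_add_cancel, fam_zero hX]

theorem CR_zero_left (hX : ∀ a b, Xf a * Xf b = Xf (a + b))
    (hZ : ∀ a b, Zf a * Zf b = Zf (a + b)) (b : F) : CR Xf Yf Zf 0 b := by
  unfold CR
  rw [zero_mul, fam_zero hX, fam_zero hZ]
  group

theorem CR_zero_right (hY : ∀ a b, Yf a * Yf b = Yf (a + b))
    (hZ : ∀ a b, Zf a * Zf b = Zf (a + b)) (a : F) : CR Xf Yf Zf a 0 := by
  unfold CR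
  rw [mul_zero, fam_zero hY, fam_zero hZ]
  group

theorem comm_mul_left (x x' y : Γ) : (x * x') * y * (x * x')⁻¹ * y⁻¹ =
    x * (x' * y * x'⁻¹ * y⁻¹) * x⁻¹ * (x * y * x⁻¹ * y⁻¹) := by group

theorem comm_mul_right (x y y' : Γ) : x * (y * y') * x⁻¹ * (y * y')⁻¹ =
    (x * y * x⁻¹ * y⁻¹) * (y * (x * y' * x⁻¹ * y'⁻¹) * y⁻¹) := by group

/-- `[x, y] = z` and `[x⁻¹, y] = z⁻¹` force `x` and `z` to commute -/
theorem commute_of_comm_inv_left {x y z : Γ} (h1 : x * y * x⁻¹ * y⁻¹ = z)
    (h2 : x⁻¹ * y * x * y⁻¹ = z⁻¹) : Commute x z := by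
  have e : z = x⁻¹ * z * x := by
    calc z = (z⁻¹)⁻¹ := (inv_inv z).symm
      _ = (x⁻¹ * y * x * y⁻¹)⁻¹ := by rw [h2]
      _ = x⁻¹ * (x * y * x⁻¹ * y⁻¹) * x := by group
      _ = x⁻¹ * z * x := by rw [h1]
  show x * z = z * x
  calc x * z = x * (x⁻¹ * z * x) := by rw [← e]
    _ = z * x := by group

/-- `[x, y] = z` and `[x, y⁻¹] = z⁻¹` force `y` and `z` to commute -/
theorem commute_of_comm_inv_right {x y z : Γ} (h1 : x * y * x⁻¹ * y⁻¹ = z)
    (h2 : x * y⁻¹ * x⁻¹ * y = z⁻¹) : Commute y z := by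
  have e : z = y⁻¹ * z * y := by
    calc z = (z⁻¹)⁻¹ := (inv_inv z).symm
      _ = (x * y⁻¹ * x⁻¹ * y)⁻¹ := by rw [h2]
      _ = y⁻¹ * (x * y * x⁻¹ * y⁻¹) * y := by group
      _ = y⁻¹ * z * y := by rw [h1]
  show y * z = z * y
  calc y * z = y * (y⁻¹ * z * y) := by rw [← e]
    _ = z * y := by group

theorem commute_of_CR_neg_left (hX : ∀ a b, Xf a * Xf b = Xf (a + b))
    (hZ : ∀ a b, Zf a * Zf b = Zf (a + b)) {a b : F} (h1 : CR Xf Yf Zf a b)
    (h2 : CR Xf Yf Zf (-a) b) : Commute (Xf a) (Zf (a * b)) := by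
  unfold CR at h1 h2
  rw [fam_neg hX, inv_inv, neg_mul, fam_neg hZ] at h2
  exact commute_of_comm_inv_left h1 h2

theorem commute_of_CR_neg_right (hY : ∀ a b, Yf a * Yf b = Yf (a + b))
    (hZ : ∀ a b, Zf a * Zf b = Zf (a + b)) {a b : F} (h1 : CR Xf Yf Zf a b)
    (h2 : CR Xf Yf Zf a (-b)) : Commute (Yf b) (Zf (a * b)) := by
  unfold CR at h1 h2
  rw [fam_neg hY, inv_inv, mul_neg, fam_neg hZ] at h2
  exact commute_of_comm_inv_right h1 h2

/-- additivity of the commutator relation in the first variable -/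
theorem CR_add_left (hX : ∀ a b, Xf a * Xf b = Xf (a + b))
    (hZ : ∀ a b, Zf a * Zf b = Zf (a + b)) (hc : ∀ a c, Commute (Xf a) (Zf c)) {a a' b : F}
    (h1 : CR Xf Yf Zf a b) (h2 : CR Xf Yf Zf a' b) : CR Xf Yf Zf (a + a') b := by
  unfold CR at *
  rw [← hX, comm_mul_left, h1, h2]
  have := (hc a (a' * b)).eq
  rw [this, mul_inv_cancel_right, hZ]
  congr 1; ring

/-- the relation everywhere gives the commutation of `Xf` with `Zf` -/
theorem commute_left_of_CR (hX : ∀ a b, Xf a * Xf b = Xf (a + b))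
    (hZ : ∀ a b, Zf a * Zf b = Zf (a + b)) (h : ∀ a b, CR Xf Yf Zf a b) (a c : F) :
    Commute (Xf a) (Zf c) := by
  have h1 := h (a + 1) c
  have h2 := h a c
  have h3 := h 1 c
  unfold CR at h1 h2 h3
  rw [← hX, comm_mul_left, h2, h3, one_mul] at h1
  have e : Zf ((a + 1) * c) = Zf c * Zf (a * c) := by
    rw [hZ]; congr 1; ring
  rw [e] at h1
  have h4 : Xf a * Zf c * (Xf a)⁻¹ = Zf c := mul_right_cancel h1
  show Xf a * Zf c = Zf c * Xf a
  calc Xf a * Zf c = (Xf a * Zf c * (Xf a)⁻¹) * Xf a := by group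
    _ = Zf c * Xf a := by rw [h4]

/-- the relation everywhere gives the commutation of `Yf` with `Zf` -/
theorem commute_right_of_CR (hY : ∀ a b, Yf a * Yf b = Yf (a + b))
    (hZ : ∀ a b, Zf a * Zf b = Zf (a + b)) (h : ∀ a b, CR Xf Yf Zf a b) (b c : F) :
    Commute (Yf b) (Zf c) := by
  have h1 := h c (b + 1)
  have h2 := h c b
  have h3 := h c 1
  unfold CR at h1 h2 h3
  rw [← hY, comm_mul_right, h2, h3, mul_one] at h1
  have e : Zf (c * (b + 1)) = Zf (c * b) * Zf c := by
    rw [hZ]; congr 1; ring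
  rw [e] at h1
  have h4 : Yf b * Zf c * (Yf b)⁻¹ = Zf c := (mul_left_cancel h1)
  show Yf b * Zf c = Zf c * Yf b
  calc Yf b * Zf c = (Yf b * Zf c * (Yf b)⁻¹) * Yf b := by group
    _ = Zf c * Yf b := by rw [h4]

/-- regime I: the relation on all pairs of nonzero parameters -/
theorem regI (hX : ∀ a b, Xf a * Xf b = Xf (a + b)) (hY : ∀ a b, Yf a * Yf b = Yf (a + b))
    (hZ : ∀ a b, Zf a * Zf b = Zf (a + b))
    (hS : ∀ a b, a ≠ 0 → b ≠ 0 → CR Xf Yf Zf a b) :
    (∀ a c, Commute (Xf a) (Zf c)) ∧ (∀ b c, Commute (Yf b) (Zf c)) ∧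
      ∀ a b, CR Xf Yf Zf a b := by
  have full : ∀ a b, CR Xf Yf Zf a b := by
    intro a b
    by_cases ha : a = 0
    · subst ha; exact CR_zero_left hX hZ b
    by_cases hb : b = 0
    · subst hb; exact CR_zero_right hY hZ a
    exact hS a b ha hb
  exact ⟨commute_left_of_CR hX hZ full, commute_right_of_CR hY hZ full, full⟩

/-- regime II: the relation on the pairs `(b g³, b)`, when every element is a sum of cubes -/
theorem regII (hX : ∀ a b, Xf a * Xf b = Xf (a + b)) (hY : ∀ a b, Yf a * Yf b = Yf (a + b))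
    (hZ : ∀ a b, Zf a * Zf b = Zf (a + b)) (cubes : ∀ a : F, a ∈ Cubes F)
    (hS : ∀ b g : F, b ≠ 0 → g ≠ 0 → CR Xf Yf Zf (b * g ^ 3) b) :
    (∀ a c, Commute (Xf a) (Zf c)) ∧ (∀ b c, Commute (Yf b) (Zf c)) ∧
      ∀ a b, CR Xf Yf Zf a b := by
  have hZ0 : Zf 0 = 1 := fam_zero hZ
  -- commutation of `Xf` with `Zf`
  have R : ∀ a c, Commute (Xf a) (Zf c) := by
    intro a c
    by_cases ha : a = 0
    · subst ha; rw [fam_zero hX]; exact Commute.one_left _
    have key : ∀ g : F, g ≠ 0 → Commute (Xf a) (Zf (a ^ 2 * (g⁻¹) ^ 3)) := by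
      intro g hg
      have hb : a * (g⁻¹) ^ 3 ≠ 0 := mul_ne_zero ha (pow_ne_zero _ (inv_ne_zero hg))
      have h1 := hS (a * (g⁻¹) ^ 3) g hb hg
      have h2 := hS (a * (g⁻¹) ^ 3) (-g) hb (neg_ne_zero.mpr hg)
      have e1 : a * (g⁻¹) ^ 3 * g ^ 3 = a := by field_simp
      have e2 : a * (g⁻¹) ^ 3 * (-g) ^ 3 = -a := by field_simp
      rw [e1] at h1
      rw [e2] at h2
      have := commute_of_CR_neg_left hX hZ h1 h2
      have e3 : a * (a * (g⁻¹) ^ 3) = a ^ 2 * (g⁻¹) ^ 3 := by ring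
      rwa [e3] at this
    have hc : ∀ e : F, Commute (Xf a) (Zf (a ^ 2 * e)) := by
      intro e
      have he : ∀ e ∈ Cubes F, Commute (Xf a) (Zf (a ^ 2 * e)) := by
        intro e he
        induction he using AddSubmonoid.closure_induction with
        | mem x hx =>
          obtain ⟨g, rfl⟩ := hx
          show Commute (Xf a) (Zf (a ^ 2 * g ^ 3))
          by_cases hg : g = 0
          · subst hg
            rw [zero_pow (by norm_num), mul_zero, hZ0]; exact Commute.one_right _
          have h' := key g⁻¹ (inv_ne_zero hg)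
          rwa [inv_inv] at h'
        | zero => rw [mul_zero, hZ0]; exact Commute.one_right _
        | add x y _ _ hx hy =>
          rw [mul_add, ← hZ]
          exact Commute.mul_right hx hy
      exact he e (cubes e)
    have := hc (c / a ^ 2)
    have e4 : a ^ 2 * (c / a ^ 2) = c := by field_simp
    rwa [e4] at this
  -- commutation of `Yf` with `Zf`
  have C : ∀ b c, Commute (Yf b) (Zf c) := by
    intro b c
    by_cases hb : b = 0
    · subst hb; rw [fam_zero hY]; exact Commute.one_left _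
    have he : ∀ e ∈ Cubes F, Commute (Yf b) (Zf (b ^ 2 * e)) := by
      intro e he
      induction he using AddSubmonoid.closure_induction with
      | mem x hx =>
        obtain ⟨g, rfl⟩ := hx
        show Commute (Yf b) (Zf (b ^ 2 * g ^ 3))
        by_cases hg : g = 0
        · subst hg
          rw [zero_pow (by norm_num), mul_zero, hZ0]; exact Commute.one_right _
        have h1 := hS b g hb hg
        have h2 := hS (-b) (-g) (neg_ne_zero.mpr hb) (neg_ne_zero.mpr hg)
        have e2 : -b * (-g) ^ 3 = b * g ^ 3 := by ring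
        rw [e2] at h2
        have := commute_of_CR_neg_right hY hZ h1 h2
        have e3 : b * g ^ 3 * b = b ^ 2 * g ^ 3 := by ring
        rwa [e3] at this
      | zero => rw [mul_zero, hZ0]; exact Commute.one_right _
      | add x y _ _ hx hy =>
        rw [mul_add, ← hZ]
        exact Commute.mul_right hx hy
    have := he (c / b ^ 2) (cubes _)
    have e4 : b ^ 2 * (c / b ^ 2) = c := by field_simp
    rwa [e4] at this
  refine ⟨R, C, ?_⟩
  intro a b
  by_cases hb : b = 0
  · subst hb; exact CR_zero_right hY hZ a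
  have he : ∀ e ∈ Cubes F, CR Xf Yf Zf (b * e) b := by
    intro e he
    induction he using AddSubmonoid.closure_induction with
    | mem x hx =>
      obtain ⟨g, rfl⟩ := hx
      show CR Xf Yf Zf (b * g ^ 3) b
      by_cases hg : g = 0
      · subst hg
        rw [zero_pow (by norm_num), mul_zero]; exact CR_zero_left hX hZ b
      exact hS b g hb hg
    | zero => rw [mul_zero]; exact CR_zero_left hX hZ b
    | add x y _ _ hx hy =>
      rw [mul_add]
      exact CR_add_left hX hZ R hx hy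
  have := he (a / b) (cubes _)
  have e4 : b * (a / b) = a := by field_simp
  rwa [e4] at this

end fam

end Cfsg.Agent.Lib.Helper66_SL3Pres
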