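import Mathlib
import Cfsg.Agent.Lib.Helper66_StRank

set_option autoImplicit false

/-!
Column and row elements of a Steinberg family: homomorphisms `(ι → K) → G` restricting to the
root subgroups of a fixed column (or row).
-/

namespace Cfsg.Agent.Lib.Helper66_StCalc

variable {ι : Type*} [Fintype ι] [DecidableEq ι] {K : Type*} [Field K] {G : Type*} [Group G]

/-- a commuting family of one parameter subgroups glues to a homomorphism on vectors -/
theorem exists_famHom (y : ι → K → G) (hadd : ∀ i t u, y i t * y i u = y i (t + u))
    (hcomm : ∀ i j t u, i ≠ j → Commute (y i t) (y j u)) :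
    ∃ Y : (ι → K) → G, (∀ a b, Y (a + b) = Y a * Y b) ∧ ∀ i t, Y (Pi.single i t) = y i t := by
  classical
  have h0 : ∀ i, y i 0 = 1 := fun i => by
    have := hadd i 0 0
    rw [add_zero] at this
    exact mul_eq_left.mp this
  let φ : ∀ _ : ι, Multiplicative K →* G := fun i =>
    { toFun := fun t => y i (Multiplicative.toAdd t)
      map_one' := h0 i
      map_mul' := fun s t => (hadd i _ _).symm }
  have hc : Pairwise fun i j => ∀ s t, Commute (φ i s) (φ j t) :=
    fun i j hij s t => hcomm i j _ _ hij
  refine ⟨fun a => MonoidHom.noncommPiCoprod φ hc (fun i => Multiplicative.ofAdd (a i)), ?_, ?_⟩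
  · intro a b
    rw [← map_mul]
    rfl
  · intro i t
    have e : (fun j => Multiplicative.ofAdd ((Pi.single i t : ι → K) j)) =
        Pi.mulSingle i (Multiplicative.ofAdd t) := by
      funext j
      by_cases hj : j = i
      · subst hj
        simp
      · simp [hj]
    show MonoidHom.noncommPiCoprod φ hc (fun j => Multiplicative.ofAdd ((Pi.single i t : ι → K) j))
      = y i t
    rw [e, MonoidHom.noncommPiCoprod_mulSingle]
    rfl

/-- extensionality for additive-to-multiplicative maps on vectors -/
theorem famHom_ext {M : Type*} [Monoid M] (F F' : (ι → K) → M) (h0 : F 0 = F' 0)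
    (hF : ∀ a b, F (a + b) = F a * F b) (hF' : ∀ a b, F' (a + b) = F' a * F' b)
    (hs : ∀ i t, F (Pi.single i t) = F' (Pi.single i t)) (a : ι → K) : F a = F' a := by
  classical
  have key : ∀ S : Finset ι, F (∑ i ∈ S, Pi.single i (a i)) = F' (∑ i ∈ S, Pi.single i (a i)) := by
    intro S
    induction S using Finset.induction_on with
    | empty => simpa using h0
    | insert i S hi ih => rw [Finset.sum_insert hi, hF, hF', hs, ih]
  have := key Finset.univ
  rwa [Finset.univ_sum_single] at this

namespace StRel

variable {x : ι → ι → K → G} (h : StRel x)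
include h

theorem exists_col (k : ι) :
    ∃ Y : (ι → K) → G, (∀ a b, Y (a + b) = Y a * Y b) ∧ ∀ i t, Y (Pi.single i t) = x i k t := by
  apply exists_famHom (fun i t => x i k t) (fun i t u => h.add i k t u)
  intro i j t u hij
  by_cases hik : i = k
  · subst hik
    rw [h.diag]
    exact Commute.one_left _
  by_cases hjk : j = k
  · subst hjk
    rw [h.diag]
    exact Commute.one_right _
  exact h.comm i k j k t u hik hjk hik (Ne.symm hjk)

theorem exists_row (o : ι) :
    ∃ Y : (ι → K) → G, (∀ a b, Y (a + b) = Y a * Y b) ∧ ∀ j t, Y (Pi.single j t) = x o j t := by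
  apply exists_famHom (fun j t => x o j t) (fun j t u => h.add o j t u)
  intro i j t u hij
  by_cases hik : i = o
  · subst hik
    rw [h.diag]
    exact Commute.one_left _
  by_cases hjk : j = o
  · subst hjk
    rw [h.diag]
    exact Commute.one_right _
  exact h.comm o i o j t u (Ne.symm hik) (Ne.symm hjk) (Ne.symm hjk) hik

/-- the column homomorphism -/
noncomputable def col (k : ι) : (ι → K) → G := Classical.choose (h.exists_col k)

/-- the row homomorphism -/
noncomputable def row (o : ι) : (ι → K) → G := Classical.choose (h.exists_row o)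

theorem col_add (k : ι) (a b : ι → K) : h.col k (a + b) = h.col k a * h.col k b :=
  (Classical.choose_spec (h.exists_col k)).1 a b

theorem col_single (k i : ι) (t : K) : h.col k (Pi.single i t) = x i k t :=
  (Classical.choose_spec (h.exists_col k)).2 i t

theorem row_add (o : ι) (a b : ι → K) : h.row o (a + b) = h.row o a * h.row o b :=
  (Classical.choose_spec (h.exists_row o)).1 a b

theorem row_single (o j : ι) (t : K) : h.row o (Pi.single j t) = x o j t :=
  (Classical.choose_spec (h.exists_row o)).2 j t

theorem col_zero (k : ι) : h.col k 0 = 1 := by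
  have := h.col_add k 0 0
  rw [add_zero] at this
  exact mul_eq_left.mp this.symm

theorem row_zero (o : ι) : h.row o 0 = 1 := by
  have := h.row_add o 0 0
  rw [add_zero] at this
  exact mul_eq_left.mp this.symm

/-- conjugating a column element by a root element outside the column -/
theorem cj_x_col (i j k : ι) (t : K) (a : ι → K) (hij : i ≠ j) (hik : i ≠ k) (hjk : j ≠ k) :
    MulAut.conj (x i j t) (h.col k a) = h.col k (a + Pi.single i (t * a j)) := by
  refine famHom_ext (fun a => MulAut.conj (x i j t) (h.col k a))
    (fun a => h.col k (a + Pi.single i (t * a j))) ?_ ?_ ?_ ?_ a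
  · simp only [Pi.zero_apply, mul_zero, Pi.single_zero, add_zero, h.col_zero, map_one]
  · intro a b
    simp only [h.col_add, map_mul]
  · intro a b
    rw [← h.col_add]
    congr 1
    rw [Pi.add_apply, mul_add, Pi.single_add]
    abel
  · intro l s
    rw [h.col_add, h.col_single, h.col_single]
    by_cases hlj : l = j
    · subst hlj
      rw [Pi.single_eq_same, h.cj_a i l k t s hij hjk hik]
      exact h.comm i k l k (t * s) s hik hjk hik (Ne.symm hjk)
    · rw [Pi.single_eq_of_ne (Ne.symm hlj), mul_zero, h.x_zero, mul_one]
      by_cases hlk : l = k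
      · subst hlk
        rw [h.diag, map_one]
      · exact h.cj_comm i j l k t s hij hlk hik (Ne.symm hlj)

/-- conjugating a row element by a root element outside the row -/
theorem cj_x_row (i j o : ι) (t : K) (a : ι → K) (hij : i ≠ j) (hio : i ≠ o) (hjo : j ≠ o) :
    MulAut.conj (x i j t) (h.row o a) = h.row o (a + Pi.single j (-(a i * t))) := by
  refine famHom_ext (fun a => MulAut.conj (x i j t) (h.row o a))
    (fun a => h.row o (a + Pi.single j (-(a i * t)))) ?_ ?_ ?_ ?_ a
  · simp only [Pi.zero_apply, zero_mul, neg_zero, Pi.single_zero, add_zero, h.row_zero, map_one]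
  · intro a b
    simp only [h.row_add, map_mul]
  · intro a b
    rw [← h.row_add]
    congr 1
    rw [Pi.add_apply, add_mul, neg_add, Pi.single_add]
    abel
  · intro l s
    rw [h.row_add, h.row_single, h.row_single]
    by_cases hli : l = i
    · subst hli
      rw [Pi.single_eq_same, h.cj_b o l j s t (Ne.symm hio) hij (Ne.symm hjo)]
      exact h.comm o j o l (-(s * t)) s (Ne.symm hjo) (Ne.symm hio) (Ne.symm hio) hjo
    · rw [Pi.single_eq_of_ne (Ne.symm hli), zero_mul, neg_zero, h.x_zero, mul_one]
      by_cases hlo : l = o
      · subst hlo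
        rw [h.diag, map_one]
      · exact h.cj_comm i j o l t s hij (Ne.symm hlo) (Ne.symm hli) hjo

end StRel

end Cfsg.Agent.Lib.Helper66_StCalc
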