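import Mathlib
import Cfsg.Agent.Lib.Helper66_StCol

set_option autoImplicit false

/-!
The stabiliser lemma for a Steinberg family over a finite field: an element fixing the basis
vector `e_o` lies in the subgroup generated by the root elements `x i j t` with `j ≠ o`.
-/

namespace Cfsg.Agent.Lib.Helper66_StCalc

open Matrix

variable {ι : Type*} [Fintype ι] [DecidableEq ι] {K : Type*} [Field K] {G : Type*} [Group G]

/-- root elements with column index different from `o` -/
def Qo (x : ι → ι → K → G) (o : ι) : Subgroup G :=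
  Subgroup.closure {g | ∃ i j t, j ≠ o ∧ g = x i j t}

/-- root elements with both indices different from `o` -/
def Lo (x : ι → ι → K → G) (o : ι) : Subgroup G :=
  Subgroup.closure {g | ∃ i j t, i ≠ o ∧ j ≠ o ∧ g = x i j t}

/-- representatives of the monomial part -/
def dd (x : ι → ι → K → G) (o m k : ι) (c : K) : G := if k = o then hh x o m c else w x k o c

omit [Fintype ι] [DecidableEq ι] in
theorem x_mem_Qo (x : ι → ι → K → G) (o i j : ι) (t : K) (hj : j ≠ o) : x i j t ∈ Qo x o :=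
  Subgroup.subset_closure ⟨i, j, t, hj, rfl⟩

omit [Fintype ι] [DecidableEq ι] in
theorem Qo_le (x : ι → ι → K → G) (o : ι) (H : Subgroup G)
    (hH : ∀ i j t, j ≠ o → x i j t ∈ H) : Qo x o ≤ H := by
  unfold Qo
  rw [Subgroup.closure_le]
  rintro g ⟨i, j, t, hj, rfl⟩
  exact hH i j t hj

omit [Fintype ι] [DecidableEq ι] in
theorem w_mem_Qo (x : ι → ι → K → G) (o i j : ι) (s : K) (hi : i ≠ o) (hj : j ≠ o) :
    w x i j s ∈ Qo x o :=
  mul_mem (mul_mem (x_mem_Qo x o i j s hj) (x_mem_Qo x o j i _ hi)) (x_mem_Qo x o i j s hj)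

omit [Fintype ι] [DecidableEq ι] in
theorem hh_mem_Qo (x : ι → ι → K → G) (o i j : ι) (c : K) (hi : i ≠ o) (hj : j ≠ o) :
    hh x i j c ∈ Qo x o :=
  mul_mem (w_mem_Qo x o i j c hi hj) (inv_mem (w_mem_Qo x o i j 1 hi hj))

namespace StRel

variable {x : ι → ι → K → G} (h : StRel x)
include h

omit [Fintype ι] in
/-- conjugation by a Weyl element permutes the root subgroups -/
theorem w_cj_gen (a b : ι) (s : K) (hab : a ≠ b) (hs : s ≠ 0) (i j : ι) (u : K) (hij : i ≠ j) :
    ∃ u', MulAut.conj (w x a b s) (x i j u) = x (Equiv.swap a b i) (Equiv.swap a b j) u' := by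
  by_cases hia : i = a
  · subst hia
    by_cases hjb : j = b
    · subst hjb
      rw [Equiv.swap_apply_left, Equiv.swap_apply_right]
      exact ⟨_, h.w_cj_self i j s u hab hs⟩
    · rw [Equiv.swap_apply_left, Equiv.swap_apply_of_ne_of_ne (Ne.symm hij) hjb]
      exact ⟨_, h.w_cj1 i b j s u hab hij (Ne.symm hjb) hs⟩
  · by_cases hib : i = b
    · subst hib
      by_cases hja : j = a
      · subst hja
        rw [Equiv.swap_apply_right, Equiv.swap_apply_left, h.w_swap hij hs]
        exact ⟨_, h.w_cj_self i j (-s⁻¹) u hij (neg_ne_zero.mpr (inv_ne_zero hs))⟩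
      · rw [Equiv.swap_apply_right, Equiv.swap_apply_of_ne_of_ne hja (Ne.symm hij)]
        exact ⟨_, h.w_cj2 a i j s u hab (Ne.symm hja) hij hs⟩
    · by_cases hja : j = a
      · subst hja
        rw [Equiv.swap_apply_of_ne_of_ne hia hib, Equiv.swap_apply_left]
        exact ⟨_, h.w_cj3 j b i s u hab (Ne.symm hia) (Ne.symm hib) hs⟩
      · by_cases hjb : j = b
        · subst hjb
          rw [Equiv.swap_apply_of_ne_of_ne hia hib, Equiv.swap_apply_right]
          exact ⟨_, h.w_cj4 a j i s u hab (Ne.symm hia) (Ne.symm hib) hs⟩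
        · rw [Equiv.swap_apply_of_ne_of_ne hia hib, Equiv.swap_apply_of_ne_of_ne hja hjb]
          exact ⟨u, h.w_cj_disj a b i j s u hab hij (Ne.symm hia) (Ne.symm hja) (Ne.symm hib)
            (Ne.symm hjb)⟩

omit [Fintype ι] in
/-- root elements outside column `k` are absorbed by the monomial representative -/
theorem factE (o m : ι) (hmo : m ≠ o) (k : ι) (c : K) (hc : c ≠ 0) (i j : ι) (s : K)
    (hjk : j ≠ k) : (dd x o m k c)⁻¹ * x i j s * dd x o m k c ∈ Qo x o := by
  by_cases hij : i = j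
  · subst hij
    rw [h.diag, mul_one, inv_mul_cancel]
    exact one_mem _
  have key : ∀ g : G, g⁻¹ * x i j s * g = MulAut.conj g⁻¹ (x i j s) := fun g => by
    rw [MulAut.conj_apply, inv_inv]
  rw [key]
  unfold dd
  by_cases hko : k = o
  · subst hko
    rw [if_pos rfl]
    have hkm : k ≠ m := Ne.symm hmo
    have e : (hh x k m c)⁻¹ = w x k m 1 * w x k m (-c) := by
      unfold hh
      rw [_root_.mul_inv_rev, inv_inv, h.w_inv hkm]
    rw [e, map_mul, MulAut.mul_apply]
    obtain ⟨u1, h1⟩ := h.w_cj_gen k m (-c) hkm (neg_ne_zero.mpr hc) i j s hij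
    rw [h1]
    obtain ⟨u2, h2⟩ := h.w_cj_gen k m 1 hkm one_ne_zero _ _ u1
      ((Equiv.swap k m).injective.ne hij)
    rw [h2, Equiv.swap_apply_self, Equiv.swap_apply_self]
    exact x_mem_Qo x k i j u2 hjk
  · rw [if_neg hko, h.w_inv hko]
    obtain ⟨u1, h1⟩ := h.w_cj_gen k o (-c) hko (neg_ne_zero.mpr hc) i j s hij
    rw [h1]
    apply x_mem_Qo
    intro hh'
    apply hjk
    have := congrArg (Equiv.swap k o) hh'
    rwa [Equiv.swap_apply_self, Equiv.swap_apply_right] at this

omit [Fintype ι] in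
/-- the torus elements `hh o m c` normalise `Qo` -/
theorem hh_cj_Qo (o m : ι) (hmo : m ≠ o) (c : K) (hc : c ≠ 0) {q : G} (hq : q ∈ Qo x o) :
    (hh x o m c)⁻¹ * q * hh x o m c ∈ Qo x o := by
  have hle : Qo x o ≤ (Qo x o).comap (MulAut.conj (hh x o m c)⁻¹).toMonoidHom := by
    apply Qo_le
    intro i j t hj
    rw [Subgroup.mem_comap]
    show MulAut.conj (hh x o m c)⁻¹ (x i j t) ∈ _
    rw [MulAut.conj_apply, inv_inv]
    have := h.factE o m hmo o c hc i j t hj
    unfold dd at this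
    rw [if_pos rfl] at this
    exact this
  have := hle hq
  rw [Subgroup.mem_comap] at this
  have e : (MulAut.conj (hh x o m c)⁻¹).toMonoidHom q = (hh x o m c)⁻¹ * q * hh x o m c := by
    show MulAut.conj (hh x o m c)⁻¹ q = _
    rw [MulAut.conj_apply, inv_inv]
  rwa [e] at this

variable [Finite K]

omit [Fintype ι] in
/-- the torus representative does not depend on the auxiliary index, modulo `Qo` -/
theorem hh_indep (o m m' : ι) (hmo : m ≠ o) (hm'o : m' ≠ o) (c : K) (hc : c ≠ 0) :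
    (hh x o m' c)⁻¹ * hh x o m c ∈ Qo x o := by
  by_cases hmm : m = m'
  · subst hmm
    rw [inv_mul_cancel]
    exact one_mem _
  have h3 := h.hh_three o m m' c (Ne.symm hmo) (Ne.symm hm'o) hmm hc
  rw [h3, _root_.mul_inv_rev]
  exact h.hh_cj_Qo o m hmo c hc (inv_mem (hh_mem_Qo x o m m' c hmo hm'o))

omit [Fintype ι] in
/-- moving the monomial representative from pivot `k` to pivot `k'` -/
theorem lemW' (o m : ι) (hmo : m ≠ o) (k k' : ι) (hkk : k ≠ k') (c α : K) (hc : c ≠ 0)
    (hα : α ≠ 0) :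
    ∃ q ∈ Qo x o, w x k k' (-α⁻¹) * dd x o m k c = dd x o m k' (c * α) * q := by
  have hn : (-α⁻¹ : K) ≠ 0 := neg_ne_zero.mpr (inv_ne_zero hα)
  have hcα : c * α ≠ 0 := mul_ne_zero hc hα
  unfold dd
  by_cases hko : k = o
  · subst hko
    rw [if_pos rfl, if_neg (Ne.symm hkk)]
    refine ⟨(hh x k k' c)⁻¹ * hh x k m c, h.hh_indep k m k' hmo (Ne.symm hkk) c hc, ?_⟩
    have e1 : w x k' k (c * α) = w x k k' (-α⁻¹) * hh x k k' c := by
      rw [h.w_swap hkk hcα, h.w_mul_hh hkk hn hc]
      congr 1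
      rw [_root_.mul_inv_rev, neg_mul]
    rw [e1]
    group
  · by_cases hk'o : k' = o
    · subst hk'o
      rw [if_neg hko, if_pos rfl]
      refine ⟨(hh x k' m (c * α))⁻¹ * hh x k' k (c * α),
        h.hh_indep k' k m hko hmo (c * α) hcα, ?_⟩
      have e1 : w x k k' (-α⁻¹) * w x k k' c = hh x k' k (c * α) := by
        have e2 : w x k k' c = (w x k k' (-c))⁻¹ := by rw [h.w_inv hkk, neg_neg]
        rw [e2, h.w_mul_w_inv hkk hn (neg_ne_zero.mpr hc), h.hh_swap hkk hcα]
        congr 1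
        rw [_root_.mul_inv_rev, inv_neg, neg_mul_neg]
      rw [e1]
      group
    · rw [if_neg hko, if_neg hk'o]
      refine ⟨w x k k' (-α⁻¹), w_mem_Qo x o k k' _ hko hk'o, ?_⟩
      have a1 : -(-α⁻¹)⁻¹ * c = c * α := by
        rw [inv_neg, inv_inv, neg_neg, mul_comm]
      have a2 : -(-α⁻¹ * -c⁻¹) = -(c * α)⁻¹ := by
        rw [neg_mul_neg, _root_.mul_inv_rev]
      have e : MulAut.conj (w x k k' (-α⁻¹)) (w x k o c) = w x k' o (c * α) := by
        show MulAut.conj (w x k k' (-α⁻¹)) (x k o c * x o k (-c⁻¹) * x k o c)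
          = x k' o (c * α) * x o k' (-(c * α)⁻¹) * x k' o (c * α)
        rw [map_mul, map_mul, h.w_cj1 k k' o (-α⁻¹) c hkk hko hk'o hn,
          h.w_cj3 k k' o (-α⁻¹) (-c⁻¹) hkk hko hk'o hn, a1, a2]
      rw [← e, MulAut.conj_apply]
      group

/-- the coset relation with pivot `k` -/
def Rk (o m k : ι) (g : G) (v : ι → K) : Prop :=
  v k ≠ 0 ∧ ∃ q ∈ Qo x o, g = h.col k ((v k)⁻¹ • v) * dd x o m k (v k) * q

omit [Finite K] in
theorem Rk_E1 (o m k i : ι) (hik : i ≠ k) (t : K) {g : G} {v : ι → K} (hR : h.Rk o m k g v) :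
    h.Rk o m k (x i k t * g) (v + Pi.single i (t * v k)) := by
  obtain ⟨hvk, q, hq, rfl⟩ := hR
  have e0 : (v + Pi.single i (t * v k) : ι → K) k = v k := by
    rw [Pi.add_apply, Pi.single_eq_of_ne (Ne.symm hik), add_zero]
  refine ⟨by rw [e0]; exact hvk, q, hq, ?_⟩
  rw [e0]
  have e1 : (v k)⁻¹ • (v + Pi.single i (t * v k)) = Pi.single i t + (v k)⁻¹ • v := by
    funext l
    simp only [Pi.smul_apply, Pi.add_apply, smul_eq_mul, Pi.single_apply]
    split_ifs
    · field_simp
      ring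
    · ring
  rw [e1, h.col_add, h.col_single]
  simp only [mul_assoc]

omit [Finite K] in
theorem Rk_E2 (o m : ι) (hmo : m ≠ o) (k i j : ι) (hij : i ≠ j) (hik : i ≠ k) (hjk : j ≠ k)
    (t : K) {g : G} {v : ι → K} (hR : h.Rk o m k g v) :
    h.Rk o m k (x i j t * g) (v + Pi.single i (t * v j)) := by
  obtain ⟨hvk, q, hq, rfl⟩ := hR
  have e0 : (v + Pi.single i (t * v j) : ι → K) k = v k := by
    rw [Pi.add_apply, Pi.single_eq_of_ne (Ne.symm hik), add_zero]
  refine ⟨by rw [e0]; exact hvk,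
    (dd x o m k (v k))⁻¹ * x i j t * dd x o m k (v k) * q,
    mul_mem (h.factE o m hmo k (v k) hvk i j t hjk) hq, ?_⟩
  rw [e0]
  have e1 : (v k)⁻¹ • (v + Pi.single i (t * v j)) =
      (v k)⁻¹ • v + Pi.single i (t * ((v k)⁻¹ • v) j) := by
    funext l
    simp only [Pi.smul_apply, Pi.add_apply, smul_eq_mul, Pi.single_apply]
    split_ifs <;> ring
  rw [e1, ← h.cj_x_col i j k t _ hij hik hjk, MulAut.conj_apply]
  group

omit [Finite K] in
theorem Rk_E3 (o m : ι) (hmo : m ≠ o) (i j : ι) (hij : i ≠ j) (t : K) {g : G} {v : ι → K}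
    (hz : ∀ l, l ≠ i → v l = 0) (hR : h.Rk o m i g v) :
    h.Rk o m i (x i j t * g) (v + Pi.single i (t * v j)) := by
  obtain ⟨hvi, q, hq, rfl⟩ := hR
  have ev : v + Pi.single i (t * v j) = v := by
    rw [hz j (Ne.symm hij), mul_zero, Pi.single_zero, add_zero]
  rw [ev]
  have ea : (v i)⁻¹ • v = Pi.single i 1 := by
    funext l
    by_cases hl : l = i
    · subst hl
      simp [hvi]
    · simp [hz l hl, Pi.single_eq_of_ne hl]
  refine ⟨hvi, (dd x o m i (v i))⁻¹ * x i j t * dd x o m i (v i) * q,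
    mul_mem (h.factE o m hmo i (v i) hvi i j t (Ne.symm hij)) hq, ?_⟩
  rw [ea, h.col_single, h.diag]
  group

/-- change of pivot -/
theorem lemW (o m : ι) (hmo : m ≠ o) (k k' : ι) (hkk : k ≠ k') :
    ∀ (n : ℕ) (S : Finset ι) (g : G) (v : ι → K), S.card ≤ n →
      (∀ l, l ≠ k → l ≠ k' → v l ≠ 0 → l ∈ S) →
      v k' ≠ 0 → h.Rk o m k g v → h.Rk o m k' g v := by
  -- the case where all other coordinates vanish
  have base : ∀ (g : G) (v : ι → K), (∀ l, l ≠ k → l ≠ k' → v l = 0) →
      v k' ≠ 0 → h.Rk o m k g v → h.Rk o m k' g v := by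
    intro g v hz hvk' hR
    obtain ⟨hvk, q, hq, rfl⟩ := hR
    have hα : (v k)⁻¹ * v k' ≠ 0 := mul_ne_zero (inv_ne_zero hvk) hvk'
    have ea : (v k)⁻¹ • v = Pi.single k 1 + Pi.single k' ((v k)⁻¹ * v k') := by
      funext l
      by_cases h1 : l = k
      · subst h1
        simp [hvk, Pi.single_eq_of_ne hkk]
      · by_cases h2 : l = k'
        · subst h2
          simp [Pi.single_eq_of_ne h1]
        · simp [hz l h1 h2, Pi.single_eq_of_ne h1, Pi.single_eq_of_ne h2]
    have eb : (v k')⁻¹ • v = Pi.single k ((v k)⁻¹ * v k')⁻¹ + Pi.single k' 1 := by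
      funext l
      by_cases h1 : l = k
      · subst h1
        simp [Pi.single_eq_of_ne hkk]
      · by_cases h2 : l = k'
        · subst h2
          simp [hvk', Pi.single_eq_of_ne h1]
        · simp [hz l h1 h2, Pi.single_eq_of_ne h1, Pi.single_eq_of_ne h2]
    set α := (v k)⁻¹ * v k' with hαdef
    have ecα : v k * α = v k' := by
      rw [hαdef]
      field_simp
    obtain ⟨q2, hq2, e2⟩ := h.lemW' o m hmo k k' hkk (v k) α hvk hα
    have hq1 := h.factE o m hmo k (v k) hvk k k' α⁻¹ (Ne.symm hkk)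
    refine ⟨hvk', q2 * ((dd x o m k (v k))⁻¹ * x k k' α⁻¹ * dd x o m k (v k)) * q,
      mul_mem (mul_mem hq2 hq1) hq, ?_⟩
    rw [ea, eb, h.col_add, h.col_add, h.col_single, h.col_single, h.col_single, h.col_single,
      h.diag, h.diag, one_mul, mul_one, ← ecα]
    have ew : x k' k α = x k k' α⁻¹ * w x k k' (-α⁻¹) * x k k' α⁻¹ := by
      unfold w
      have e3 : -(-α⁻¹)⁻¹ = α := by rw [inv_neg, inv_inv, neg_neg]
      rw [e3]
      have e4 : x k k' α⁻¹ * x k k' (-α⁻¹) = 1 := h.x_mul_neg k k' α⁻¹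
      have e5 : x k k' (-α⁻¹) * x k k' α⁻¹ = 1 := h.x_neg_mul k k' α⁻¹
      calc x k' k α = (x k k' α⁻¹ * x k k' (-α⁻¹)) * x k' k α * (x k k' (-α⁻¹) * x k k' α⁻¹) := by
            rw [e4, e5, one_mul, mul_one]
        _ = _ := by simp only [mul_assoc]
    rw [ew]
    calc x k k' α⁻¹ * w x k k' (-α⁻¹) * x k k' α⁻¹ * dd x o m k (v k) * q
        = x k k' α⁻¹ * (w x k k' (-α⁻¹) * dd x o m k (v k)) *
            ((dd x o m k (v k))⁻¹ * x k k' α⁻¹ * dd x o m k (v k)) * q := by group
      _ = _ := by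
        rw [e2]
        simp only [mul_assoc]
  intro n
  induction n with
  | zero =>
    intro S g v hcard hS hvk' hR
    apply base g v ?_ hvk' hR
    intro l h1 h2
    by_contra hne
    have hmem := hS l h1 h2 hne
    rw [Nat.le_zero, Finset.card_eq_zero] at hcard
    rw [hcard] at hmem
    exact absurd hmem (Finset.notMem_empty _)
  | succ n ih =>
    intro S g v hcard hS hvk' hR
    have hvk := hR.1
    by_cases hex : ∃ i, i ≠ k ∧ i ≠ k' ∧ v i ≠ 0
    · obtain ⟨i, hik, hik', hvi⟩ := hex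
      have hiS : i ∈ S := hS i hik hik' hvi
      have hR1 := h.Rk_E1 o m k i hik (-(v i * (v k)⁻¹)) hR
      have hv'i : (v + Pi.single i (-(v i * (v k)⁻¹) * v k) : ι → K) i = 0 := by
        rw [Pi.add_apply, Pi.single_eq_same]
        field_simp
        ring
      have hv'l : ∀ l, l ≠ i → (v + Pi.single i (-(v i * (v k)⁻¹) * v k) : ι → K) l = v l := by
        intro l hl
        rw [Pi.add_apply, Pi.single_eq_of_ne hl, add_zero]
      have hcard' : (S.erase i).card ≤ n := by
        rw [Finset.card_erase_of_mem hiS]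
        omega
      have hS' : ∀ l, l ≠ k → l ≠ k' →
          (v + Pi.single i (-(v i * (v k)⁻¹) * v k) : ι → K) l ≠ 0 → l ∈ S.erase i := by
        intro l h1 h2 h3
        have hli : l ≠ i := by
          rintro rfl
          exact h3 hv'i
        rw [hv'l l hli] at h3
        exact Finset.mem_erase.mpr ⟨hli, hS l h1 h2 h3⟩
      have hR2 := ih (S.erase i) _ _ hcard' hS' (by rw [hv'l k' (Ne.symm hik')]; exact hvk') hR1
      have hR3 := h.Rk_E2 o m hmo k' i k hik hik' hkk (v i * (v k)⁻¹) hR2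
      have eg : x i k (v i * (v k)⁻¹) * (x i k (-(v i * (v k)⁻¹)) * g) = g := by
        rw [← mul_assoc, h.x_mul_neg, one_mul]
      have ev : (v + Pi.single i (-(v i * (v k)⁻¹) * v k) : ι → K) +
          Pi.single i (v i * (v k)⁻¹ *
            (v + Pi.single i (-(v i * (v k)⁻¹) * v k) : ι → K) k) = v := by
        rw [hv'l k (Ne.symm hik), add_assoc, ← Pi.single_add]
        have : -(v i * (v k)⁻¹) * v k + v i * (v k)⁻¹ * v k = 0 := by ring
        rw [this, Pi.single_zero, add_zero]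
      rw [eg, ev] at hR3
      exact hR3
    · push Not at hex
      exact base g v hex hvk' hR

/-- the coset relation -/
def RR (o m : ι) (g : G) (v : ι → K) : Prop := ∃ k, h.Rk o m k g v

theorem RR_step (o m : ι) (hmo : m ≠ o) (i j : ι) (hij : i ≠ j) (t : K) {g : G} {v : ι → K}
    (hR : h.RR o m g v) : h.RR o m (x i j t * g) (v + Pi.single i (t * v j)) := by
  obtain ⟨k, hk⟩ := hR
  by_cases hex : ∃ k', k' ≠ i ∧ v k' ≠ 0
  · obtain ⟨k', hk'i, hvk'⟩ := hex
    have hk' : h.Rk o m k' g v := by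
      by_cases hkk : k = k'
      · subst hkk
        exact hk
      · exact h.lemW o m hmo k k' hkk _ Finset.univ g v le_rfl (fun l _ _ _ => Finset.mem_univ l) hvk' hk
    by_cases hjk : j = k'
    · subst hjk
      exact ⟨j, h.Rk_E1 o m j i hij t hk'⟩
    · exact ⟨k', h.Rk_E2 o m hmo k' i j hij (Ne.symm hk'i) hjk t hk'⟩
  · push Not at hex
    have hki : k = i := by
      by_contra hne
      exact hk.1 (hex k hne)
    subst hki
    exact ⟨k, h.Rk_E3 o m hmo k j hij t hex hk⟩

/-- the stabiliser lemma -/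
theorem stab (o m : ι) (hmo : m ≠ o) (π : G →* Matrix.SpecialLinearGroup ι K)
    (hπ : ∀ i j t, i ≠ j → ((π (x i j t)) : Matrix ι ι K) = Matrix.transvection i j t)
    (hgen : Subgroup.closure {g | ∃ i j t, i ≠ j ∧ g = x i j t} = ⊤) (g : G)
    (hg : (π g : Matrix ι ι K) *ᵥ Pi.single o 1 = Pi.single o 1) : g ∈ Qo x o := by
  have step : ∀ (i j : ι) (t : K), i ≠ j → ∀ y : G,
      h.RR o m y ((π y : Matrix ι ι K) *ᵥ Pi.single o 1) →
      h.RR o m (x i j t * y) ((π (x i j t * y) : Matrix ι ι K) *ᵥ Pi.single o 1) := by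
    intro i j t hij y hy
    have e : (π (x i j t * y) : Matrix ι ι K) *ᵥ Pi.single o 1 =
        ((π y : Matrix ι ι K) *ᵥ Pi.single o 1) +
          Pi.single i (t * ((π y : Matrix ι ι K) *ᵥ Pi.single o 1) j) := by
      rw [map_mul, Matrix.SpecialLinearGroup.coe_mul, ← Matrix.mulVec_mulVec, hπ i j t hij,
        Matrix.transvection, Matrix.add_mulVec, Matrix.one_mulVec, Matrix.single_mulVec]
      rfl
    rw [e]
    exact h.RR_step o m hmo i j hij t hy
  have aux : ∀ y : G, h.RR o m y ((π y : Matrix ι ι K) *ᵥ Pi.single o 1) := by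
    intro y
    have hy : y ∈ Subgroup.closure {g | ∃ i j t, i ≠ j ∧ g = x i j t} := by
      rw [hgen]
      exact Subgroup.mem_top y
    induction hy using Subgroup.closure_induction_left with
    | one =>
      rw [map_one, Matrix.SpecialLinearGroup.coe_one, Matrix.one_mulVec]
      refine ⟨o, by simp, 1, one_mem _, ?_⟩
      rw [Pi.single_eq_same, inv_one, one_smul, h.col_single, h.diag]
      unfold dd
      rw [if_pos rfl, StRel.hh_one]
      group
    | mul_left z hz y _ ih =>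
      obtain ⟨i, j, t, hij, rfl⟩ := hz
      exact step i j t hij y ih
    | inv_mul_cancel z hz y _ ih =>
      obtain ⟨i, j, t, hij, rfl⟩ := hz
      rw [h.x_inv]
      exact step i j (-t) hij y ih
  have hR := aux g
  rw [hg] at hR
  obtain ⟨k, hk0, q, hq, rfl⟩ := hR
  have hko : k = o := by
    by_contra hne
    exact hk0 (Pi.single_eq_of_ne hne _)
  subst hko
  rw [Pi.single_eq_same, inv_one, one_smul, h.col_single, h.diag]
  unfold dd
  rw [if_pos rfl, StRel.hh_one, one_mul, one_mul]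
  exact hq

end StRel

end Cfsg.Agent.Lib.Helper66_StCalc
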