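import Mathlib
import Cfsg.Agent.Lib.Helper66_StStab
import Cfsg.Agent.Lib.Helper5_Transv

set_option autoImplicit false

/-!
For a Steinberg family over a finite field with a compatible homomorphism `π` to `SL`, the
kernel of `π` lies in the subgroup `Lo` generated by the root elements avoiding the index `o`.
-/

namespace Cfsg.Agent.Lib.Helper66_StCalc

open Matrix Cfsg.Agent.Lib.Helper5_Transv

variable {ι : Type*} [Fintype ι] [DecidableEq ι] {K : Type*} [Field K] {G : Type*} [Group G]

omit [Fintype ι] [DecidableEq ι] in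
theorem x_mem_Lo (x : ι → ι → K → G) (o i j : ι) (t : K) (hi : i ≠ o) (hj : j ≠ o) :
    x i j t ∈ Lo x o :=
  Subgroup.subset_closure ⟨i, j, t, hi, hj, rfl⟩

/-- a matrix whose row `o` is the unit row acts trivially on row `o` of a product -/
theorem row_mul_eq (o : ι) (A B : Matrix ι ι K) (hA : ∀ j, A o j = (1 : Matrix ι ι K) o j)
    (j : ι) : (A * B) o j = B o j := by
  rw [Matrix.mul_apply]
  simp_rw [hA, Matrix.one_apply]
  simp

theorem tv_row_mul (o : ι) (φ ψ : ι → K) (hφ : φ o = 0) :
    tv (Pi.single o 1) φ 1 * tv (Pi.single o 1) ψ 1 = tv (Pi.single o (1 : K)) (φ + ψ) 1 := by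
  have hd : φ ⬝ᵥ (Pi.single o (1 : K)) = 0 := by
    rw [dotProduct_single_one, hφ]
  rw [tv_mul_tv, hd, mul_zero, zero_smul, add_zero]
  unfold tv
  rw [vecMulVec_add, smul_add, add_assoc]

namespace StRel

variable {x : ι → ι → K → G} (h : StRel x)
include h

theorem Qo_decomp_step (o i j : ι) (t : K) (hj : j ≠ o) (a : ι → K) (l : G)
    (hl : l ∈ Lo x o) :
    ∃ (a' : ι → K) (l' : G), l' ∈ Lo x o ∧ x i j t * (h.row o a * l) = h.row o a' * l' := by
  by_cases hio : i = o
  · subst hio
    refine ⟨Pi.single j t + a, l, hl, ?_⟩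
    rw [h.row_add, h.row_single]
    simp only [mul_assoc]
  · by_cases hij : i = j
    · subst hij
      exact ⟨a, l, hl, by rw [h.diag, one_mul]⟩
    · refine ⟨a + Pi.single j (-(a i * t)), x i j t * l,
        mul_mem (x_mem_Lo x o i j t hio hj) hl, ?_⟩
      rw [← h.cj_x_row i j o t a hij hio hj, MulAut.conj_apply]
      group

theorem Qo_decomp (o : ι) {q : G} (hq : q ∈ Qo x o) :
    ∃ (a : ι → K) (l : G), l ∈ Lo x o ∧ q = h.row o a * l := by
  unfold Qo at hq
  induction hq using Subgroup.closure_induction_left with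
  | one => exact ⟨0, 1, one_mem _, by rw [h.row_zero, one_mul]⟩
  | mul_left z hz y _ ih =>
    obtain ⟨i, j, t, hj, rfl⟩ := hz
    obtain ⟨a, l, hl, rfl⟩ := ih
    exact h.Qo_decomp_step o i j t hj a l hl
  | inv_mul_cancel z hz y _ ih =>
    obtain ⟨i, j, t, hj, rfl⟩ := hz
    obtain ⟨a, l, hl, rfl⟩ := ih
    rw [h.x_inv]
    exact h.Qo_decomp_step o i j (-t) hj a l hl

/-- the matrix of a row element -/
theorem pi_row (o : ι) (π : G →* Matrix.SpecialLinearGroup ι K)
    (hπ : ∀ i j t, i ≠ j → ((π (x i j t)) : Matrix ι ι K) = Matrix.transvection i j t)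
    (a : ι → K) :
    (π (h.row o a) : Matrix ι ι K) = tv (Pi.single o 1) (Function.update a o 0) 1 := by
  refine famHom_ext (fun a => (π (h.row o a) : Matrix ι ι K))
    (fun a => tv (Pi.single o 1) (Function.update a o 0) 1) ?_ ?_ ?_ ?_ a
  · show (π (h.row o 0) : Matrix ι ι K) = tv (Pi.single o 1) (Function.update 0 o 0) 1
    rw [h.row_zero, map_one, Matrix.SpecialLinearGroup.coe_one]
    have : Function.update (0 : ι → K) o 0 = 0 := by
      funext j
      by_cases hj : j = o
      · subst hj
        simp
      · simp [hj]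
    rw [this]
    unfold tv
    rw [vecMulVec_zero, smul_zero, add_zero]
  · intro a b
    show (π (h.row o (a + b)) : Matrix ι ι K) = (π (h.row o a) : Matrix ι ι K) * (π (h.row o b))
    rw [h.row_add, map_mul, Matrix.SpecialLinearGroup.coe_mul]
  · intro a b
    show tv (Pi.single o 1) (Function.update (a + b) o 0) 1 =
      tv (Pi.single o 1) (Function.update a o 0) 1 * tv (Pi.single o 1) (Function.update b o 0) 1
    rw [tv_row_mul o _ _ (Function.update_self o 0 a)]
    congr 1
    funext j
    by_cases hj : j = o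
    · subst hj
      simp
    · simp [hj]
  · intro j t
    show (π (h.row o (Pi.single j t)) : Matrix ι ι K) =
      tv (Pi.single o 1) (Function.update (Pi.single j t) o 0) 1
    rw [h.row_single]
    by_cases hj : j = o
    · subst hj
      rw [h.diag, map_one, Matrix.SpecialLinearGroup.coe_one]
      have : Function.update (Pi.single j t : ι → K) j 0 = 0 := by
        funext l
        by_cases hl : l = j
        · subst hl
          simp
        · simp [hl]
      rw [this]
      unfold tv
      rw [vecMulVec_zero, smul_zero, add_zero]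
    · rw [hπ o j t (Ne.symm hj)]
      have : Function.update (Pi.single j t : ι → K) o 0 = Pi.single j t := by
        funext l
        by_cases hl : l = o
        · subst hl
          simp [Pi.single_eq_of_ne (Ne.symm hj)]
        · simp [hl]
      rw [this]
      unfold tv Matrix.transvection
      congr 1
      ext r c
      simp only [Matrix.smul_apply, vecMulVec_apply, Matrix.single_apply, Pi.single_apply,
        smul_eq_mul, one_mul]
      by_cases hr : r = o
      · subst hr
        by_cases hc : c = j
        · subst hc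
          simp
        · have hc' : ¬ (j = c) := fun h => hc h.symm
          simp [hc, hc']
      · have hr' : ¬ (o = r) := fun h => hr h.symm
        simp [hr, hr']

/-- row `o` of the image of an element of `Lo` is the unit row -/
theorem Lo_row (o : ι) (π : G →* Matrix.SpecialLinearGroup ι K)
    (hπ : ∀ i j t, i ≠ j → ((π (x i j t)) : Matrix ι ι K) = Matrix.transvection i j t)
    {l : G} (hl : l ∈ Lo x o) (j : ι) :
    (π l : Matrix ι ι K) o j = (1 : Matrix ι ι K) o j := by
  unfold Lo at hl
  induction hl using Subgroup.closure_induction generalizing j with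
  | mem z hz =>
    obtain ⟨i, k, t, hi, hk, rfl⟩ := hz
    by_cases hik : i = k
    · subst hik
      rw [h.diag, map_one, Matrix.SpecialLinearGroup.coe_one]
    · rw [hπ i k t hik, Matrix.transvection, Matrix.add_apply, Matrix.single_apply,
        if_neg (fun hh => hi hh.1), add_zero]
  | one => rw [map_one, Matrix.SpecialLinearGroup.coe_one]
  | mul y z _ _ ihy ihz =>
    rw [map_mul, Matrix.SpecialLinearGroup.coe_mul, row_mul_eq o _ _ ihy, ihz]
  | inv y _ ih =>
    have h1 : (π y : Matrix ι ι K) * (π y⁻¹ : Matrix ι ι K) = 1 := by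
      rw [← Matrix.SpecialLinearGroup.coe_mul, ← map_mul, mul_inv_cancel, map_one,
        Matrix.SpecialLinearGroup.coe_one]
    have h2 := row_mul_eq o (π y : Matrix ι ι K) (π y⁻¹ : Matrix ι ι K) ih j
    rw [h1] at h2
    exact h2.symm

variable [Finite K]

/-- the kernel of `π` lies in `Lo` -/
theorem ker_le_Lo (o m : ι) (hmo : m ≠ o) (π : G →* Matrix.SpecialLinearGroup ι K)
    (hπ : ∀ i j t, i ≠ j → ((π (x i j t)) : Matrix ι ι K) = Matrix.transvection i j t)
    (hgen : Subgroup.closure {g | ∃ i j t, i ≠ j ∧ g = x i j t} = ⊤) (g : G)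
    (hg : π g = 1) : g ∈ Lo x o := by
  have hq : g ∈ Qo x o := h.stab o m hmo π hπ hgen g (by
    rw [hg, Matrix.SpecialLinearGroup.coe_one, Matrix.one_mulVec])
  obtain ⟨a, l, hl, rfl⟩ := h.Qo_decomp o hq
  have e1 : π (h.row o a) = π l⁻¹ := by
    rw [map_mul] at hg
    rw [map_inv]
    exact eq_inv_of_mul_eq_one_left hg
  have hrow : ∀ j, (π (h.row o a) : Matrix ι ι K) o j = (1 : Matrix ι ι K) o j := by
    intro j
    rw [e1]
    exact h.Lo_row o π hπ (inv_mem hl) j
  have ha : ∀ j, j ≠ o → a j = 0 := by
    intro j hj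
    have h2 := hrow j
    rw [h.pi_row o π hπ a] at h2
    unfold tv at h2
    rw [Matrix.add_apply, Matrix.smul_apply, vecMulVec_apply, Pi.single_eq_same,
      Function.update_of_ne hj, smul_eq_mul, one_mul, one_mul] at h2
    exact add_left_cancel (a := (1 : Matrix ι ι K) o j) (by rw [add_zero]; exact h2)
  have e2 : a = Pi.single o (a o) := by
    funext j
    by_cases hj : j = o
    · subst hj
      simp
    · simp [ha j hj, hj]
  rw [e2, h.row_single, h.diag, one_mul]
  exact hl

end StRel

end Cfsg.Agent.Lib.Helper66_StCalc
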