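import Mathlib
import Cfsg.Agent.Lib.Helper66_StCalc
import Cfsg.Agent.Lib.Helper5_SLGen

set_option autoImplicit false

/-!
The transvections of `SL ι K` form a Steinberg family; embeddings `SL κ K → SL ι K` along an
injective map of index types.
-/

namespace Cfsg.Agent.Lib.Helper66_StCalc

open Matrix Cfsg.Agent.Lib.Helper5_SteinbergA

variable {ι : Type*} [Fintype ι] [DecidableEq ι] {κ : Type*} [Fintype κ] [DecidableEq κ]
  {K : Type*} [Field K]

/-- the family of transvections -/
def TT (ι : Type*) [Fintype ι] [DecidableEq ι] (K : Type*) [Field K] (i j : ι) (t : K) :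
    Matrix.SpecialLinearGroup ι K :=
  if h : i ≠ j then Matrix.SpecialLinearGroup.transvection h t else 1

theorem TT_of_ne {i j : ι} (hij : i ≠ j) (t : K) :
    TT ι K i j t = Matrix.SpecialLinearGroup.transvection hij t := by
  unfold TT
  rw [dif_pos hij]

theorem TT_coe {i j : ι} (hij : i ≠ j) (t : K) :
    (TT ι K i j t : Matrix ι ι K) = Matrix.transvection i j t := by
  rw [TT_of_ne hij, Matrix.SpecialLinearGroup.transvection_coe]
  rfl

theorem TT_diag (i : ι) (t : K) : TT ι K i i t = 1 := by
  unfold TT
  rw [dif_neg (fun h => h rfl)]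

/-! ### embeddings -/

section emb

variable (U : Matrix ι κ K) (V : Matrix κ ι K)

/-- the matrix `1 + U (m - 1) V` -/
def gemb0 (m : Matrix κ κ K) : Matrix ι ι K := 1 + U * (m - 1) * V

theorem gemb0_one : gemb0 U V 1 = 1 := by
  unfold gemb0
  rw [sub_self, Matrix.mul_zero, Matrix.zero_mul, add_zero]

theorem gemb0_mul (hVU : V * U = 1) (m m' : Matrix κ κ K) :
    gemb0 U V (m * m') = gemb0 U V m * gemb0 U V m' := by
  unfold gemb0
  have h1 : U * (m - 1) * V * (U * (m' - 1) * V) = U * ((m - 1) * (m' - 1)) * V := by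
    calc U * (m - 1) * V * (U * (m' - 1) * V)
        = U * (m - 1) * (V * U) * (m' - 1) * V := by simp only [Matrix.mul_assoc]
      _ = U * ((m - 1) * (m' - 1)) * V := by
        rw [hVU, Matrix.mul_one]
        simp only [Matrix.mul_assoc]
  have h2 : m * m' - 1 = (m - 1) + (m' - 1) + (m - 1) * (m' - 1) := by noncomm_ring
  have h3 : (1 + U * (m - 1) * V) * (1 + U * (m' - 1) * V)
      = 1 + U * (m - 1) * V + U * (m' - 1) * V + U * (m - 1) * V * (U * (m' - 1) * V) := by
    noncomm_ring
  rw [h3, h1, h2, Matrix.mul_add, Matrix.mul_add, Matrix.add_mul, Matrix.add_mul]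
  abel

theorem det_gemb0 (hVU : V * U = 1) (m : Matrix κ κ K) :
    (gemb0 U V m).det = m.det := by
  unfold gemb0
  rw [Matrix.mul_assoc, det_one_add_mul_comm, Matrix.mul_assoc, hVU, Matrix.mul_one,
    add_sub_cancel]

/-- the embedding of `SL κ K` attached to `U`, `V` with `V U = 1` -/
def gemb (hVU : V * U = 1) :
    Matrix.SpecialLinearGroup κ K →* Matrix.SpecialLinearGroup ι K where
  toFun m := ⟨gemb0 U V m.1, by rw [det_gemb0 U V hVU, m.2]⟩
  map_one' := Subtype.ext (gemb0_one U V)
  map_mul' m m' := Subtype.ext (gemb0_mul U V hVU m.1 m'.1)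

theorem gemb_coe (hVU : V * U = 1) (m : Matrix.SpecialLinearGroup κ K) :
    (gemb U V hVU m : Matrix ι ι K) = gemb0 U V m.1 := rfl

theorem gemb_injective (hVU : V * U = 1) : Function.Injective (gemb U V hVU) := by
  intro m m' h
  have h0 : gemb0 U V m.1 = gemb0 U V m'.1 := congrArg Subtype.val h
  unfold gemb0 at h0
  have h1 : U * (m.1 - 1) * V = U * (m'.1 - 1) * V := add_left_cancel h0
  have h2 : V * (U * (m.1 - 1) * V) * U = V * (U * (m'.1 - 1) * V) * U := by rw [h1]
  have h3 : ∀ y : Matrix κ κ K, V * (U * y * V) * U = y := by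
    intro y
    calc V * (U * y * V) * U = (V * U) * y * (V * U) := by simp only [Matrix.mul_assoc]
      _ = y := by rw [hVU, Matrix.one_mul, Matrix.mul_one]
  rw [h3, h3] at h2
  apply Subtype.ext
  exact sub_left_injective h2

end emb

/-- the inclusion matrix of a map of index types -/
def incl (K : Type*) [Field K] (f : κ → ι) : Matrix ι κ K :=
  Matrix.of fun r c => if r = f c then 1 else 0

theorem inclT_mul_incl (f : κ → ι) (hf : Function.Injective f) :
    (incl K f)ᵀ * incl K f = 1 := by
  ext a b
  rw [Matrix.mul_apply]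
  simp only [incl, Matrix.transpose_apply, Matrix.of_apply, Matrix.one_apply]
  by_cases hab : a = b
  · subst hab
    simp
  · have : ∀ r : ι, ¬ (r = f a ∧ r = f b) := by
      rintro r ⟨h1, h2⟩
      exact hab (hf (h1.symm.trans h2))
    rw [if_neg hab]
    apply Finset.sum_eq_zero
    intro r _
    by_cases h1 : r = f a
    · have h2 : ¬ r = f b := fun h2 => this r ⟨h1, h2⟩
      simp [h2]
    · simp [h1]

/-- the embedding along an injective map of index types -/
noncomputable def gembf (K : Type*) [Field K] (f : κ → ι) (hf : Function.Injective f) :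
    Matrix.SpecialLinearGroup κ K →* Matrix.SpecialLinearGroup ι K :=
  gemb (incl K f) (incl K f)ᵀ (inclT_mul_incl f hf)

theorem gembf_injective (f : κ → ι) (hf : Function.Injective f) :
    Function.Injective (gembf K f hf) :=
  gemb_injective _ _ _

theorem incl_mulVec_single (f : κ → ι) (a : κ) :
    incl K f *ᵥ Pi.single a 1 = Pi.single (f a) 1 := by
  rw [Matrix.mulVec_single_one]
  funext r
  simp only [Matrix.col_apply, incl, Matrix.of_apply, Pi.single_apply]

theorem single_vecMul_inclT (f : κ → ι) (b : κ) :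
    Pi.single b 1 ᵥ* (incl K f)ᵀ = Pi.single (f b) 1 := by
  rw [Matrix.single_one_vecMul]
  funext c
  simp only [Matrix.row_apply, Matrix.transpose_apply, incl, Matrix.of_apply, Pi.single_apply]

theorem gembf_TT (f : κ → ι) (hf : Function.Injective f) (a b : κ) (t : K) :
    gembf K f hf (TT κ K a b t) = TT ι K (f a) (f b) t := by
  by_cases hab : a = b
  · subst hab
    rw [TT_diag, TT_diag, map_one]
  · apply Subtype.ext
    rw [TT_coe (hf.ne hab)]
    show gemb0 (incl K f) (incl K f)ᵀ (TT κ K a b t : Matrix κ κ K) = _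
    rw [TT_coe hab]
    unfold gemb0 Matrix.transvection
    rw [add_sub_cancel_left]
    congr 1
    have e1 : Matrix.single a b t = t • vecMulVec (Pi.single a (1 : K)) (Pi.single b (1 : K)) := by
      rw [← Matrix.single_eq_single_vecMulVec_single, Matrix.smul_single, smul_eq_mul, mul_one]
    have e2 : Matrix.single (f a) (f b) t =
        t • vecMulVec (Pi.single (f a) (1 : K)) (Pi.single (f b) (1 : K)) := by
      rw [← Matrix.single_eq_single_vecMulVec_single, Matrix.smul_single, smul_eq_mul, mul_one]
    rw [e1, e2, Matrix.mul_smul, Matrix.smul_mul, Matrix.mul_vecMulVec, Matrix.vecMulVec_mul,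
      incl_mulVec_single, single_vecMul_inclT]

/-! ### the transvections form a Steinberg family -/

theorem mx_true_eq (t : K) : mx (true, t) = TT (Fin 2) K 0 1 t := by
  apply Subtype.ext
  rw [TT_coe (by decide), mx_true]
  ext a b
  fin_cases a <;> fin_cases b <;> simp [Matrix.transvection, Matrix.single_apply]

theorem mx_false_eq (t : K) : mx (false, t) = TT (Fin 2) K 1 0 t := by
  apply Subtype.ext
  rw [TT_coe (by decide), mx_false]
  ext a b
  fin_cases a <;> fin_cases b <;> simp [Matrix.transvection, Matrix.single_apply]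

theorem pairMap_injective {i j : ι} (hij : i ≠ j) : Function.Injective (![i, j] : Fin 2 → ι) := by
  intro a b hab
  fin_cases a <;> fin_cases b
  · rfl
  · exact absurd hab hij
  · exact absurd hab.symm hij
  · rfl

/-- the embedding of `SL₂` in positions `i`, `j` -/
noncomputable def pairHom (K : Type*) [Field K] {i j : ι} (hij : i ≠ j) :
    Matrix.SpecialLinearGroup (Fin 2) K →* Matrix.SpecialLinearGroup ι K :=
  gembf K (![i, j] : Fin 2 → ι) (pairMap_injective hij)

theorem pairHom_true {i j : ι} (hij : i ≠ j) (t : K) :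
    pairHom K hij (mx (true, t)) = TT ι K i j t := by
  unfold pairHom
  rw [mx_true_eq, gembf_TT]
  rfl

theorem pairHom_false {i j : ι} (hij : i ≠ j) (t : K) :
    pairHom K hij (mx (false, t)) = TT ι K j i t := by
  unfold pairHom
  rw [mx_false_eq, gembf_TT]
  rfl

theorem pairHom_injective {i j : ι} (hij : i ≠ j) : Function.Injective (pairHom K hij) :=
  gembf_injective _ _

theorem stRelAB_TT : StRelAB (TT ι K) := by
  constructor
  · intro i t
    exact TT_diag i t
  · intro i j t u
    by_cases hij : i = j
    · subst hij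
      rw [TT_diag, TT_diag, TT_diag, one_mul]
    · rw [TT_of_ne hij, TT_of_ne hij, TT_of_ne hij, Matrix.SpecialLinearGroup.transvection_add]
  · intro i j k l t u hij hkl hil hjk
    apply Subtype.ext
    rw [Matrix.SpecialLinearGroup.coe_mul, Matrix.SpecialLinearGroup.coe_mul, TT_coe hij,
      TT_coe hkl]
    unfold Matrix.transvection
    simp only [add_mul, mul_add, one_mul, mul_one,
      Matrix.single_mul_single_of_ne _ _ _ _ hjk, Matrix.single_mul_single_of_ne _ _ _ _ hil.symm]
    abel
  · intro i j l t u hij hjl hil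
    rw [TT_of_ne hij, TT_of_ne hjl, TT_of_ne hil]
    have := Cfsg.Agent.Lib.Helper5_SLGen.commutator_transvection_transvection hil hij hjl t u
    rw [commutatorElement_def] at this
    exact this

theorem stRel_TT : StRel (TT ι K) := by
  refine { toStRelAB := stRelAB_TT, rank1 := ?_ }
  intro i j t u hij ht
  have h1 := mx_conj (K := K) true ht u
  have h2 := congrArg (pairHom K hij) h1
  simp only [map_mul, Bool.not_true, pairHom_true, pairHom_false] at h2
  rw [mul_inv_eq_iff_eq_mul]
  exact h2

end Cfsg.Agent.Lib.Helper66_StCalc
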