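import Mathlib
import Cfsg.Agent.Lib.Helper66_StKer
import Cfsg.Agent.Lib.Helper66_StModel

set_option autoImplicit false

/-!
The universal group of a Steinberg family of type `A` over a finite field is `SL ι K`
(`2 ≤ card ι`): injectivity of the natural map by induction on the number of indices.
-/

namespace Cfsg.Agent.Lib.Helper66_StCalc

open Matrix Cfsg.Agent.Lib.Helper5_SteinbergA Cfsg.Agent.Lib.Helper5_SLPresA

section univ

variable {ι : Type*} {K : Type*} [Field K]

/-- free generators -/
def fx (i j : ι) (t : K) : FreeGroup (ι × ι × K) := FreeGroup.of (i, j, t)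

/-- the Steinberg relators (A), (B), (B') -/
def stRels (ι : Type*) (K : Type*) [Field K] : Set (FreeGroup (ι × ι × K)) :=
  {r | (∃ (i : ι) (t : K), r = fx i i t) ∨
    (∃ (i j : ι) (t u : K), r = fx i j t * fx i j u * (fx i j (t + u))⁻¹) ∨
    (∃ (i j k l : ι) (t u : K), i ≠ j ∧ k ≠ l ∧ i ≠ l ∧ j ≠ k ∧
      r = fx i j t * fx k l u * (fx i j t)⁻¹ * (fx k l u)⁻¹) ∨
    (∃ (i j l : ι) (t u : K), i ≠ j ∧ j ≠ l ∧ i ≠ l ∧
      r = fx i j t * fx j l u * (fx i j t)⁻¹ * (fx j l u)⁻¹ * (fx i l (t * u))⁻¹) ∨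
    (∃ (i j : ι) (t u : K), i ≠ j ∧ t ≠ 0 ∧
      r = (fx i j t * fx j i (-t⁻¹) * fx i j t) * fx i j u *
        (fx i j t * fx j i (-t⁻¹) * fx i j t)⁻¹ * (fx j i (-(t⁻¹ ^ 2 * u)))⁻¹)}

/-- the universal group -/
abbrev StGrp (ι : Type*) (K : Type*) [Field K] := PresentedGroup (stRels ι K)

/-- the generators of the universal group -/
def sgen (i j : ι) (t : K) : StGrp ι K := PresentedGroup.of (i, j, t)

theorem mk_fx (i j : ι) (t : K) : PresentedGroup.mk (stRels ι K) (fx i j t) = sgen i j t := rfl

theorem stRel_sgen : StRel (sgen : ι → ι → K → StGrp ι K) := by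
  have key : ∀ r ∈ stRels ι K, PresentedGroup.mk (stRels ι K) r = 1 :=
    fun r hr => PresentedGroup.one_of_mem hr
  refine { toStRelAB := ⟨?_, ?_, ?_, ?_⟩, rank1 := ?_ }
  · intro i t
    have := key _ (Or.inl ⟨i, t, rfl⟩)
    rwa [mk_fx] at this
  · intro i j t u
    have := key _ (Or.inr (Or.inl ⟨i, j, t, u, rfl⟩))
    simp only [map_mul, map_inv, mk_fx] at this
    exact mul_inv_eq_one.mp this
  · intro i j k l t u hij hkl hil hjk
    have := key _ (Or.inr (Or.inr (Or.inl ⟨i, j, k, l, t, u, hij, hkl, hil, hjk, rfl⟩)))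
    simp only [map_mul, map_inv, mk_fx] at this
    rw [mul_inv_eq_one, mul_inv_eq_iff_eq_mul] at this
    exact this
  · intro i j l t u hij hjl hil
    have := key _ (Or.inr (Or.inr (Or.inr (Or.inl ⟨i, j, l, t, u, hij, hjl, hil, rfl⟩))))
    simp only [map_mul, map_inv, mk_fx] at this
    exact mul_inv_eq_one.mp this
  · intro i j t u hij ht
    have := key _ (Or.inr (Or.inr (Or.inr (Or.inr ⟨i, j, t, u, hij, ht, rfl⟩))))
    simp only [map_mul, map_inv, mk_fx] at this
    exact mul_inv_eq_one.mp this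

theorem sgen_closure :
    Subgroup.closure {g : StGrp ι K | ∃ i j t, i ≠ j ∧ g = sgen i j t} = ⊤ := by
  rw [eq_top_iff, ← PresentedGroup.closure_range_of (stRels ι K), Subgroup.closure_le]
  rintro _ ⟨⟨i, j, t⟩, rfl⟩
  by_cases hij : i = j
  · subst hij
    have : (PresentedGroup.of (i, i, t) : StGrp ι K) = 1 := stRel_sgen.diag i t
    rw [this]
    exact one_mem _
  · exact Subgroup.subset_closure ⟨i, j, t, hij, rfl⟩

variable {G : Type*} [Group G] {x : ι → ι → K → G}

theorem lift_stRels (h : StRel x) :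
    ∀ r ∈ stRels ι K, FreeGroup.lift (fun p : ι × ι × K => x p.1 p.2.1 p.2.2) r = 1 := by
  rintro r (⟨i, t, rfl⟩ | ⟨i, j, t, u, rfl⟩ | ⟨i, j, k, l, t, u, hij, hkl, hil, hjk, rfl⟩ |
    ⟨i, j, l, t, u, hij, hjl, hil, rfl⟩ | ⟨i, j, t, u, hij, ht, rfl⟩)
  · simp only [fx, FreeGroup.lift_apply_of]
    exact h.diag i t
  · simp only [fx, map_mul, map_inv, FreeGroup.lift_apply_of]
    rw [h.add, mul_inv_cancel]
  · simp only [fx, map_mul, map_inv, FreeGroup.lift_apply_of]
    rw [h.comm i j k l t u hij hkl hil hjk]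
    group
  · simp only [fx, map_mul, map_inv, FreeGroup.lift_apply_of]
    rw [h.comm3 i j l t u hij hjl hil, mul_inv_cancel]
  · simp only [fx, map_mul, map_inv, FreeGroup.lift_apply_of]
    rw [h.rank1 i j t u hij ht, mul_inv_cancel]

/-- the universal property -/
def stLift (h : StRel x) : StGrp ι K →* G := PresentedGroup.toGroup (lift_stRels h)

theorem stLift_sgen (h : StRel x) (i j : ι) (t : K) : stLift h (sgen i j t) = x i j t :=
  PresentedGroup.toGroup.of (lift_stRels h)

theorem StRel.comap {κ : Type*} (h : StRel x) (f : κ → ι) (hf : Function.Injective f) :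
    StRel (fun a b t => x (f a) (f b) t) := by
  refine { toStRelAB := ⟨?_, ?_, ?_, ?_⟩, rank1 := ?_ }
  · intro i t
    exact h.diag (f i) t
  · intro i j t u
    exact h.add (f i) (f j) t u
  · intro i j k l t u hij hkl hil hjk
    exact h.comm _ _ _ _ t u (hf.ne hij) (hf.ne hkl) (hf.ne hil) (hf.ne hjk)
  · intro i j l t u hij hjl hil
    exact h.comm3 _ _ _ t u (hf.ne hij) (hf.ne hjl) (hf.ne hil)
  · intro i j t u hij ht
    exact h.rank1 _ _ t u (hf.ne hij) ht

end univ

section main

/-- the natural map to the special linear group -/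
noncomputable def piHom (ι : Type*) [Fintype ι] [DecidableEq ι] (K : Type*) [Field K] :
    StGrp ι K →* Matrix.SpecialLinearGroup ι K :=
  stLift (stRel_TT (ι := ι) (K := K))

variable {ι : Type*} [Fintype ι] [DecidableEq ι] {K : Type*} [Field K]

theorem piHom_sgen (i j : ι) (t : K) : piHom ι K (sgen i j t) = TT ι K i j t :=
  stLift_sgen _ i j t

theorem piHom_coe {i j : ι} (hij : i ≠ j) (t : K) :
    (piHom ι K (sgen i j t) : Matrix ι ι K) = Matrix.transvection i j t := by
  rw [piHom_sgen, TT_coe hij]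

theorem piHom_surjective [Nontrivial ι] : Function.Surjective (piHom ι K) := by
  intro A
  refine Cfsg.Agent.Lib.Helper5_SLGen.transvection_induction
    (fun A => ∃ g, piHom ι K g = A) ?_ ?_ A
  · intro i j hij c
    exact ⟨sgen i j c, by rw [piHom_sgen, TT_of_ne hij]⟩
  · rintro A B ⟨g, rfl⟩ ⟨g', rfl⟩
    exact ⟨g * g', map_mul _ _ _⟩

/-- injectivity of the natural map, by induction on the number of indices -/
theorem piHom_injective_aux (K : Type*) [Field K] [Finite K] :
    ∀ (n : ℕ) (ι : Type) [Fintype ι] [DecidableEq ι], Fintype.card ι = n + 2 →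
      Function.Injective (piHom ι K) := by
  intro n
  induction n with
  | zero =>
    intro ι _ _ hcard
    have hc2 : (Finset.univ : Finset ι).card = 2 := by rw [Finset.card_univ, hcard]
    obtain ⟨i, j, hij, huniv⟩ := Finset.card_eq_two.mp hc2
    have hall : ∀ a : ι, a = i ∨ a = j := by
      intro a
      have := Finset.mem_univ a
      rw [huniv] at this
      simpa using this
    obtain ⟨Φ, h1, h2, -, -⟩ := (stRel_sgen (ι := ι) (K := K)).exists_phi hij
    have hsurj : Function.Surjective Φ := by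
      rw [← MonoidHom.range_eq_top, eq_top_iff, ← sgen_closure, Subgroup.closure_le]
      rintro _ ⟨a, b, t, hab, rfl⟩
      rcases hall a with rfl | rfl <;> rcases hall b with rfl | rfl
      · exact absurd rfl hab
      · exact ⟨mx (true, t), h1 t⟩
      · exact ⟨mx (false, t), h2 t⟩
      · exact absurd rfl hab
    have hcomp : (piHom ι K).comp Φ = pairHom K hij := by
      apply hom_ext_mx
      rintro ⟨b, t⟩
      cases b
      · rw [MonoidHom.comp_apply, h2, piHom_sgen, pairHom_false]
      · rw [MonoidHom.comp_apply, h1, piHom_sgen, pairHom_true]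
    intro g₁ g₂ hg
    obtain ⟨a₁, rfl⟩ := hsurj g₁
    obtain ⟨a₂, rfl⟩ := hsurj g₂
    have : pairHom K hij a₁ = pairHom K hij a₂ := by
      rw [← hcomp]
      exact hg
    rw [pairHom_injective hij this]
  | succ n ih =>
    intro ι _ _ hcard
    have hne : Nonempty ι := Fintype.card_pos_iff.mp (by omega)
    obtain ⟨o⟩ := hne
    obtain ⟨m, hmo⟩ := Fintype.exists_ne_of_one_lt_card (by omega) o
    have hcard' : Fintype.card {i : ι // i ≠ o} = n + 2 := by
      have := Fintype.card_subtype_compl (fun i : ι => i = o)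
      rw [Fintype.card_subtype_eq] at this
      rw [this]
      omega
    have ih' := ih {i : ι // i ≠ o} hcard'
    have hval : Function.Injective (Subtype.val : {i : ι // i ≠ o} → ι) :=
      Subtype.val_injective
    let ψ : StGrp {i : ι // i ≠ o} K →* StGrp ι K :=
      stLift ((stRel_sgen (ι := ι) (K := K)).comap Subtype.val hval)
    have hψ : ∀ (a b : {i : ι // i ≠ o}) (t : K), ψ (sgen a b t) = sgen a.1 b.1 t :=
      fun a b t => stLift_sgen _ a b t
    have hcomp : (piHom ι K).comp ψ =
        (gembf K Subtype.val hval).comp (piHom {i : ι // i ≠ o} K) := by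
      apply PresentedGroup.ext
      rintro ⟨a, b, t⟩
      show piHom ι K (ψ (sgen a b t)) = gembf K Subtype.val hval (piHom _ K (sgen a b t))
      rw [hψ, piHom_sgen, piHom_sgen, gembf_TT]
    rw [injective_iff_map_eq_one]
    intro g hg
    have hL : g ∈ Lo (sgen : ι → ι → K → StGrp ι K) o :=
      (stRel_sgen (ι := ι) (K := K)).ker_le_Lo o m hmo (piHom ι K)
        (fun i j t hij => piHom_coe hij t) sgen_closure g hg
    have hrange : Lo (sgen : ι → ι → K → StGrp ι K) o ≤ ψ.range := by
      unfold Lo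
      rw [Subgroup.closure_le]
      rintro _ ⟨i, j, t, hi, hj, rfl⟩
      exact ⟨sgen ⟨i, hi⟩ ⟨j, hj⟩ t, hψ _ _ _⟩
    obtain ⟨z, rfl⟩ := hrange hL
    have h1 : gembf K Subtype.val hval (piHom _ K z) = 1 := by
      have := DFunLike.congr_fun hcomp z
      simp only [MonoidHom.comp_apply] at this
      rw [← this]
      exact hg
    have h2 : piHom _ K z = 1 := gembf_injective _ hval (by rw [h1, map_one])
    have h3 : z = 1 := ih' (by rw [h2, map_one])
    rw [h3, map_one]

/-- the universal Steinberg group of type `A` over a finite field is `SL` -/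
theorem piHom_bijective (K : Type*) [Field K] [Finite K] (ι : Type) [Fintype ι] [DecidableEq ι]
    (hcard : 2 ≤ Fintype.card ι) : Function.Bijective (piHom ι K) := by
  have : Nontrivial ι := Fintype.one_lt_card_iff_nontrivial.mp (by omega)
  obtain ⟨n, hn⟩ : ∃ n, Fintype.card ι = n + 2 := ⟨Fintype.card ι - 2, by omega⟩
  exact ⟨piHom_injective_aux K n ι hn, piHom_surjective⟩

/-- a group generated by a Steinberg family with a compatible map to `SL` embeds in `SL` -/
theorem injective_of_stRel (K : Type*) [Field K] [Finite K] (ι : Type) [Fintype ι]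
    [DecidableEq ι] (hcard : 2 ≤ Fintype.card ι) {G : Type*} [Group G] {x : ι → ι → K → G}
    (h : StRel x) (hgen : Subgroup.closure {g | ∃ i j t, g = x i j t} = ⊤)
    (π : G →* Matrix.SpecialLinearGroup ι K) (hπ : ∀ i j t, π (x i j t) = TT ι K i j t) :
    Function.Injective π := by
  have hs : Function.Surjective (stLift h) := by
    rw [← MonoidHom.range_eq_top, eq_top_iff, ← hgen, Subgroup.closure_le]
    rintro _ ⟨i, j, t, rfl⟩
    exact ⟨sgen i j t, stLift_sgen h i j t⟩
  have hcomp : π.comp (stLift h) = piHom ι K := by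
    apply PresentedGroup.ext
    rintro ⟨i, j, t⟩
    show π (stLift h (sgen i j t)) = piHom ι K (sgen i j t)
    rw [stLift_sgen, hπ, piHom_sgen]
  rw [injective_iff_map_eq_one]
  intro g hg
  obtain ⟨z, rfl⟩ := hs g
  have h1 : piHom ι K z = 1 := by
    rw [← hcomp]
    exact hg
  have h2 : z = 1 := (piHom_bijective K ι hcard).1 (by rw [h1, map_one])
  rw [h2, map_one]

end main

end Cfsg.Agent.Lib.Helper66_StCalc
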