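import Mathlib
import Cfsg.Agent.Lib.Helper81_UceA
import Cfsg.Agent.Lib.Helper66_StModel

set_option autoImplicit false

/-!
# Central extensions of `SL ι K`: shared definitions (helper72, row S2086)

For a central extension `π : E →* G` the commutator of lifts `cm hs g g'` (`hs` the surjectivity of `π`), the
diagonal matrices `dg d hd` of `SL ι K`, the commutators `ff` of lifts of elementary matrices and the
four "lifts of commuting elementary matrices commute" properties.
-/

namespace Cfsg.Agent.Lib.Helper72_SLnUce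

open Matrix Cfsg.Agent.Lib.Helper81_UceA Cfsg.Agent.Lib.Helper66_StCalc

section general

variable {E G : Type*} [Group E] [Group G] {π : E →* G}

/-- the commutator of the chosen lifts of `g`, `g'` -/
noncomputable def cm (hs : Function.Surjective π) (g g' : G) : E :=
  Function.surjInv hs g * Function.surjInv hs g' * (Function.surjInv hs g)⁻¹ *
    (Function.surjInv hs g')⁻¹

/-- the commutator of lifts does not depend on the lifts -/
theorem cm_eq (hc : CExt π) {g g' : G} {a b : E} (ha : π a = g) (hb : π b = g') :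
    cm hc.surj g g' = a * b * a⁻¹ * b⁻¹ := by
  unfold cm
  apply hc.commutator_eq
  · rw [Function.surjInv_eq hc.surj, ha]
  · rw [Function.surjInv_eq hc.surj, hb]

theorem map_cm (hc : CExt π) (g g' : G) : π (cm hc.surj g g') = g * g' * g⁻¹ * g'⁻¹ := by
  unfold cm
  simp only [map_mul, map_inv, Function.surjInv_eq hc.surj]

/-- conjugation by a lift -/
theorem conj_cm (hc : CExt π) (e : E) (g g' : G) :
    e * cm hc.surj g g' * e⁻¹ = cm hc.surj (π e * g * (π e)⁻¹) (π e * g' * (π e)⁻¹) := by
  obtain ⟨a, ha⟩ := hc.surj g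
  obtain ⟨b, hb⟩ := hc.surj g'
  rw [cm_eq hc ha hb, cm_eq hc (a := e * a * e⁻¹) (b := e * b * e⁻¹) (by simp [ha]) (by simp [hb])]
  group

theorem cm_inv (hc : CExt π) (g g' : G) : (cm hc.surj g g')⁻¹ = cm hc.surj g' g := by
  obtain ⟨a, ha⟩ := hc.surj g
  obtain ⟨b, hb⟩ := hc.surj g'
  rw [cm_eq hc ha hb, cm_eq hc hb ha]
  group

/-- the commutator of lifts of commuting elements is central -/
theorem cm_comm_of_commute (hc : CExt π) {g g' : G} (h : g * g' = g' * g) (e : E) :
    cm hc.surj g g' * e = e * cm hc.surj g g' := by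
  apply hc.comm_of_ker
  rw [map_cm hc, h]
  group

/-- first variable: `⟦g g', k⟧ = g̃ ⟦g', k⟧ g̃⁻¹ ⟦g, k⟧` -/
theorem cm_mul_left (hc : CExt π) (g g' k : G) {a : E} (ha : π a = g) :
    cm hc.surj (g * g') k = a * cm hc.surj g' k * a⁻¹ * cm hc.surj g k := by
  obtain ⟨b, hb⟩ := hc.surj g'
  obtain ⟨c, hk⟩ := hc.surj k
  rw [cm_eq hc (a := a * b) (b := c) (by rw [map_mul, ha, hb]) hk, cm_eq hc hb hk, cm_eq hc ha hk]
  group

/-- second variable: `⟦g, k k'⟧ = ⟦g, k⟧ k̃ ⟦g, k'⟧ k̃⁻¹` -/
theorem cm_mul_right (hc : CExt π) (g k k' : G) {c : E} (hk : π c = k) :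
    cm hc.surj g (k * k') = cm hc.surj g k * (c * cm hc.surj g k' * c⁻¹) := by
  obtain ⟨a, ha⟩ := hc.surj g
  obtain ⟨c', hk'⟩ := hc.surj k'
  rw [cm_eq hc (a := a) (b := c * c') ha (by rw [map_mul, hk, hk']), cm_eq hc ha hk, cm_eq hc ha hk']
  group

/-- any lift of `g` moves a lift `b` of `g'` to `⟦g, g'⟧ b` -/
theorem conj_lift (hc : CExt π) {g g' : G} {a b : E} (ha : π a = g) (hb : π b = g') :
    a * b * a⁻¹ = cm hc.surj g g' * b := by
  rw [cm_eq hc ha hb]
  group

/-- lifts commute iff the commutator of lifts is trivial -/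
theorem commute_iff_cm (hc : CExt π) {g g' : G} {a b : E} (ha : π a = g) (hb : π b = g') :
    a * b = b * a ↔ cm hc.surj g g' = 1 := by
  rw [cm_eq hc ha hb]
  constructor
  · intro h
    rw [h]
    group
  · intro h
    have : a * b * a⁻¹ * b⁻¹ * (b * a) = b * a := by rw [h, one_mul]
    rw [← this]
    group

end general

section sl

variable {ι : Type*} [Fintype ι] [DecidableEq ι] {K : Type*} [Field K]

/-- the diagonal matrix with entries `d` of determinant one -/
def dg (d : ι → Kˣ) (hd : ∏ i, d i = 1) : Matrix.SpecialLinearGroup ι K :=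
  ⟨Matrix.diagonal fun i => (d i : K), by
    rw [Matrix.det_diagonal]
    have := congrArg (Units.val) hd
    rw [Units.val_one] at this
    rw [← this]
    simp⟩

theorem dg_coe (d : ι → Kˣ) (hd : ∏ i, d i = 1) :
    (dg d hd : Matrix ι ι K) = Matrix.diagonal fun i => (d i : K) := rfl

/-- a diagonal matrix conjugates a transvection to a transvection -/
theorem dg_conj_TT (d : ι → Kˣ) (hd : ∏ i, d i = 1) (i j : ι) (t : K) :
    dg d hd * TT ι K i j t * (dg d hd)⁻¹ = TT ι K i j ((d i : K) * ((d j : Kˣ)⁻¹ : Kˣ) * t) := by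
  by_cases hij : i = j
  · subst hij
    rw [TT_diag, TT_diag, mul_one, mul_inv_cancel]
  · rw [mul_inv_eq_iff_eq_mul]
    apply Subtype.ext
    rw [Matrix.SpecialLinearGroup.coe_mul, Matrix.SpecialLinearGroup.coe_mul, TT_coe hij, TT_coe hij,
      dg_coe]
    unfold Matrix.transvection
    rw [mul_add, add_mul, mul_one, one_mul]
    congr 1
    ext a b
    simp only [Matrix.diagonal_mul, Matrix.mul_diagonal, Matrix.single_apply]
    by_cases h : i = a ∧ j = b
    · obtain ⟨rfl, rfl⟩ := h
      simp only [and_self, if_true]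
      have : ((d j)⁻¹ : Kˣ).val * (d j : K) = 1 := by
        rw [← Units.val_mul, inv_mul_cancel, Units.val_one]
      linear_combination (-(d i : K) * t) * this
    · simp [h]

/-- two diagonal matrices commute -/
theorem dg_comm (d d' : ι → Kˣ) (hd : ∏ i, d i = 1) (hd' : ∏ i, d' i = 1) :
    dg d hd * dg d' hd' = dg d' hd' * dg d hd := by
  apply Subtype.ext
  rw [Matrix.SpecialLinearGroup.coe_mul, Matrix.SpecialLinearGroup.coe_mul, dg_coe, dg_coe,
    Matrix.diagonal_mul_diagonal, Matrix.diagonal_mul_diagonal]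
  congr 1
  funext i
  exact mul_comm _ _

variable {E : Type*} [Group E] (π : E →* Matrix.SpecialLinearGroup ι K)

/-- lifts of two elements of one root subgroup commute -/
def SameComm : Prop :=
  ∀ (i j : ι) (t u : K) (a b : E), i ≠ j → π a = TT ι K i j t → π b = TT ι K i j u → a * b = b * a

/-- lifts of root elements in one row commute -/
def RowComm : Prop :=
  ∀ (i j m : ι) (t u : K) (a b : E), i ≠ j → i ≠ m → j ≠ m →
    π a = TT ι K i j t → π b = TT ι K i m u → a * b = b * a

/-- lifts of root elements in one column commute -/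
def ColComm : Prop :=
  ∀ (i j m : ι) (t u : K) (a b : E), j ≠ i → m ≠ i → j ≠ m →
    π a = TT ι K j i t → π b = TT ι K m i u → a * b = b * a

/-- lifts of root elements with four different indices commute -/
def DisjComm : Prop :=
  ∀ (i j k l : ι) (t u : K) (a b : E), i ≠ j → i ≠ k → i ≠ l → j ≠ k → j ≠ l → k ≠ l →
    π a = TT ι K i j t → π b = TT ι K k l u → a * b = b * a

/-- lifts of commuting elementary matrices commute -/
def LiftComm : Prop :=
  ∀ (i j k l : ι) (t u : K) (a b : E), i ≠ j → k ≠ l → j ≠ k → i ≠ l →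
    π a = TT ι K i j t → π b = TT ι K k l u → a * b = b * a

variable {π}

/-- the commutator of lifts of `x_ik(a)` and `x_kj(b)`: a lift of `x_ij(ab)` -/
noncomputable def ff (hs : Function.Surjective π) (i k j : ι) (a b : K) : E :=
  cm hs (TT ι K i k a) (TT ι K k j b)

theorem map_ff (hc : CExt π) {i k j : ι} (hik : i ≠ k) (hkj : k ≠ j) (hij : i ≠ j) (a b : K) :
    π (ff hc.surj i k j a b) = TT ι K i j (a * b) := by
  unfold ff
  rw [map_cm hc]
  exact (stRelAB_TT (ι := ι) (K := K)).comm3 i k j a b hik hkj hij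

end sl

end Cfsg.Agent.Lib.Helper72_SLnUce
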