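import Mathlib
import Cfsg.Prelude.Def_KGroupFacts
import Cfsg.Agent.Lib.Helper72_SLnUceDefs
import Cfsg.Agent.Lib.Helper66_StMain
import Cfsg.Agent.Lib.Helper66_SL3PresA
import Cfsg.Agent.Lib.Helper5_PSLCard

/-!
# S2086 package BAL3 (helper43 for helper72): balancedness of `ff` for cubes, via the torus element
`diag(s at i, s at j, s⁻² at m)`.
-/

set_option autoImplicit false
set_option linter.unusedSectionVars false

namespace Cfsg.Agent.Lib.Helper43_S2086_BAL3

open Matrix Cfsg.Agent.Lib.Helper81_UceA Cfsg.Agent.Lib.Helper66_StCalc Cfsg.Agent.Lib.Helper72_SLnUce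
  Cfsg.Agent.Lib.Helper66_SL3Pres

universe u v

variable {ι : Type*} [Fintype ι] [DecidableEq ι] {K : Type*} [Field K] {E : Type*} [Group E]
  {π : E →* Matrix.SpecialLinearGroup ι K}

/-- the diagonal entries `s` at `i`, `s` at `j`, `s⁻²` at `m` -/
def dd (i j m : ι) (s : Kˣ) : ι → Kˣ :=
  Pi.mulSingle i s * Pi.mulSingle j s * Pi.mulSingle m (s ^ 2)⁻¹

theorem dd_prod (i j m : ι) (s : Kˣ) : ∏ x, dd i j m s x = 1 := by
  unfold dd
  simp only [Pi.mul_apply]
  rw [Finset.prod_mul_distrib, Finset.prod_mul_distrib, Finset.prod_pi_mulSingle',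
    Finset.prod_pi_mulSingle', Finset.prod_pi_mulSingle']
  simp only [Finset.mem_univ, if_true]
  group

theorem dd_i {i j m : ι} (him : i ≠ m) (hij : i ≠ j) (s : Kˣ) : dd i j m s i = s := by
  unfold dd
  simp only [Pi.mul_apply]
  rw [Pi.mulSingle_eq_same, Pi.mulSingle_eq_of_ne hij, Pi.mulSingle_eq_of_ne him, mul_one, mul_one]

theorem dd_j {i j m : ι} (hmj : m ≠ j) (hij : i ≠ j) (s : Kˣ) : dd i j m s j = s := by
  unfold dd
  simp only [Pi.mul_apply]
  rw [Pi.mulSingle_eq_same, Pi.mulSingle_eq_of_ne hij.symm, Pi.mulSingle_eq_of_ne hmj.symm, mul_one,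
    one_mul]

theorem dd_m {i j m : ι} (him : i ≠ m) (hmj : m ≠ j) (s : Kˣ) : dd i j m s m = (s ^ 2)⁻¹ := by
  unfold dd
  simp only [Pi.mul_apply]
  rw [Pi.mulSingle_eq_same, Pi.mulSingle_eq_of_ne him.symm, Pi.mulSingle_eq_of_ne hmj, one_mul,
    one_mul]

/-- BAL3 (M): balancedness for cubes. -/
theorem BAL3 (hc : CExt π)
    (htor : ∀ (i j : ι) (d : ι → Kˣ) (hd : ∏ x, d x = 1) (t : K) (e e' : E), i ≠ j → d i = d j →
      π e = dg d hd → π e' = TT ι K i j t → e * e' = e' * e)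
    {i m j : ι} (him : i ≠ m) (hmj : m ≠ j) (hij : i ≠ j) (s : Kˣ) (a b : K) :
    ff hc.surj i m j ((s : K) ^ 3 * a) b = ff hc.surj i m j a ((s : K) ^ 3 * b) := by
  obtain ⟨e, he⟩ := hc.surj (dg (dd i j m s) (dd_prod i j m s))
  -- `e` commutes with every `ff i m j a' b'`
  have hcomm : ∀ a' b' : K, e * ff hc.surj i m j a' b' * e⁻¹ = ff hc.surj i m j a' b' := by
    intro a' b'
    have := htor i j (dd i j m s) (dd_prod i j m s) (a' * b') e (ff hc.surj i m j a' b') hij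
      (by rw [dd_i him hij, dd_j hmj hij]) he (map_ff hc him hmj hij a' b')
    rw [this, mul_inv_cancel_right]
  have hconj : ∀ a' b' : K, e * ff hc.surj i m j a' b' * e⁻¹
      = ff hc.surj i m j ((s : K) ^ 3 * a') ((((s ^ 3)⁻¹ : Kˣ) : K) * b') := by
    intro a' b'
    unfold ff
    rw [conj_cm hc, he, dg_conj_TT, dg_conj_TT, dd_i him hij, dd_j hmj hij, dd_m him hmj]
    congr 2
    · rw [inv_inv, ← Units.val_mul, ← pow_succ', Units.val_pow_eq_pow_val]
    · rw [← Units.val_mul]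
      congr 2
      rw [pow_succ' s 2, _root_.mul_inv_rev, mul_comm]
  have h1 := hconj a ((s : K) ^ 3 * b)
  rw [hcomm] at h1
  rw [h1]
  congr 1
  rw [← mul_assoc, ← Units.val_pow_eq_pow_val, ← Units.val_mul, inv_mul_cancel, Units.val_one,
    one_mul]

end Cfsg.Agent.Lib.Helper43_S2086_BAL3
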