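import Mathlib
import Cfsg.Prelude.Def_KGroupFacts
import Cfsg.Agent.Lib.Helper72_SLnUceDefs
import Cfsg.Agent.Lib.Helper66_StMain
import Cfsg.Agent.Lib.Helper66_SL3PresA
import Cfsg.Agent.Lib.Helper5_PSLCard

/-!
# S2086 package BALCUBES (helper43 for helper72): from balancedness for cubes to balancedness for all scalars.
-/

set_option autoImplicit false

namespace Cfsg.Agent.Lib.Helper43_S2086_BALCUBES

open Matrix Cfsg.Agent.Lib.Helper81_UceA Cfsg.Agent.Lib.Helper66_StCalc Cfsg.Agent.Lib.Helper72_SLnUce
  Cfsg.Agent.Lib.Helper66_SL3Pres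

universe u v

variable {ι : Type*} [Fintype ι] [DecidableEq ι] {K : Type*} [Field K] {E : Type*} [Group E]
  {π : E →* Matrix.SpecialLinearGroup ι K}

/-- BALCUBES (M): from cubes to all scalars (induction on the additive closure, FF_ADD). -/
theorem BALCUBES (hc : CExt π) {i m j : ι}
    (hadd : (∀ a a' b : K, ff hc.surj i m j (a + a') b = ff hc.surj i m j a b * ff hc.surj i m j a' b) ∧
      (∀ a b b' : K, ff hc.surj i m j a (b + b') = ff hc.surj i m j a b * ff hc.surj i m j a b'))
    (hbal : ∀ (s : Kˣ) (a b : K), ff hc.surj i m j ((s : K) ^ 3 * a) b = ff hc.surj i m j a ((s : K) ^ 3 * b))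
    (hcubes : ∀ x : K, x ∈ Cubes K) (a b : K) :
    ff hc.surj i m j a b = ff hc.surj i m j (a * b) 1 := by
  have hz1 : ∀ b : K, ff hc.surj i m j 0 b = 1 := by
    intro b
    have := hadd.1 0 0 b
    rw [add_zero] at this
    exact left_eq_mul.mp this
  have hz2 : ∀ a : K, ff hc.surj i m j a 0 = 1 := by
    intro a
    have := hadd.2 a 0 0
    rw [add_zero] at this
    exact left_eq_mul.mp this
  have key : ∀ x : K, x ∈ Cubes K →
      ∀ a b : K, ff hc.surj i m j (x * a) b = ff hc.surj i m j a (x * b) := by
    intro x hx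
    unfold Cubes at hx
    induction hx using AddSubmonoid.closure_induction with
    | mem y hy =>
      obtain ⟨g, rfl⟩ := hy
      intro a b
      by_cases hg : g = 0
      · subst hg
        simp only [ne_eq, OfNat.ofNat_ne_zero, not_false_eq_true, zero_pow, zero_mul]
        rw [hz1, hz2]
      · exact hbal (Units.mk0 g hg) a b
    | zero =>
      intro a b
      rw [zero_mul, zero_mul, hz1, hz2]
    | add x y _ _ ihx ihy =>
      intro a b
      rw [add_mul, add_mul, hadd.1, hadd.2, ihx, ihy]
  have := key b (hcubes b) a 1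
  rw [mul_one, mul_comm] at this
  exact this.symm

end Cfsg.Agent.Lib.Helper43_S2086_BALCUBES
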