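import Mathlib
import Cfsg.Prelude.Def_KGroupFacts
import Cfsg.Agent.Lib.Helper72_SLnUceDefs
import Cfsg.Agent.Lib.Helper66_StMain
import Cfsg.Agent.Lib.Helper66_SL3PresA
import Cfsg.Agent.Lib.Helper5_PSLCard

/-!
# S2086 package FF_ADD (helper43 for helper72): biadditivity of the commutators `ff` of lifts of elementary
matrices in a central extension of `SL ι K`.
-/

set_option autoImplicit false

namespace Cfsg.Agent.Lib.Helper43_S2086_FF_ADD

open Matrix Cfsg.Agent.Lib.Helper81_UceA Cfsg.Agent.Lib.Helper66_StCalc Cfsg.Agent.Lib.Helper72_SLnUce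
  Cfsg.Agent.Lib.Helper66_SL3Pres

universe u v

variable {ι : Type*} [Fintype ι] [DecidableEq ι] {K : Type*} [Field K] {E : Type*} [Group E]
  {π : E →* Matrix.SpecialLinearGroup ι K}

/-- FF_ADD (M): biadditivity of `ff`. -/
theorem FF_ADD (hc : CExt π) (hL : LiftComm π) {i k j : ι} (hik : i ≠ k) (hkj : k ≠ j) (hij : i ≠ j) :
    (∀ a a' b : K, ff hc.surj i k j (a + a') b = ff hc.surj i k j a b * ff hc.surj i k j a' b) ∧
    (∀ a b b' : K, ff hc.surj i k j a (b + b') = ff hc.surj i k j a b * ff hc.surj i k j a b') := by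
  have hTT := stRelAB_TT (ι := ι) (K := K)
  constructor
  · intro a a' b
    obtain ⟨x, hx⟩ := hc.surj (TT ι K i k a)
    have h1 : ff hc.surj i k j (a + a') b
        = x * ff hc.surj i k j a' b * x⁻¹ * ff hc.surj i k j a b := by
      unfold ff
      rw [← hTT.add i k a a']
      exact cm_mul_left hc _ _ _ hx
    -- `x` commutes with `ff a' b` (a lift of `x_ij(a' b)`)
    have h2 : x * ff hc.surj i k j a' b = ff hc.surj i k j a' b * x :=
      hL i k i j a (a' * b) x _ hik hij hik.symm hij hx (map_ff hc hik hkj hij a' b)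
    have h3 : ff hc.surj i k j a' b * ff hc.surj i k j a b
        = ff hc.surj i k j a b * ff hc.surj i k j a' b :=
      hL i j i j (a' * b) (a * b) _ _ hij hij hij.symm hij (map_ff hc hik hkj hij a' b)
        (map_ff hc hik hkj hij a b)
    rw [h1, h2, mul_inv_cancel_right, h3]
  · intro a b b'
    obtain ⟨c, hcb⟩ := hc.surj (TT ι K k j b)
    have h1 : ff hc.surj i k j a (b + b')
        = ff hc.surj i k j a b * (c * ff hc.surj i k j a b' * c⁻¹) := by
      unfold ff
      rw [← hTT.add k j b b']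
      exact cm_mul_right hc _ _ _ hcb
    have h2 : c * ff hc.surj i k j a b' = ff hc.surj i k j a b' * c :=
      hL k j i j b (a * b') c _ hkj hij hij.symm hkj hcb (map_ff hc hik hkj hij a b')
    rw [h1, h2, mul_inv_cancel_right]

end Cfsg.Agent.Lib.Helper43_S2086_FF_ADD
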