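import Mathlib

/-!
# S2149 package F2 (architect helper71): subgroups of small index in `B = Q.C₂₄` contain `Z`.
-/

set_option autoImplicit false

namespace Cfsg.Agent.Lib.Helper43_S2149_F2

/-- `|K| = |K ⊓ ker χ| * |χ(K)|`. -/
theorem card_eq_inf_ker_mul_map {B C : Type*} [Group B] [Group C] (χ : B →* C)
    (K : Subgroup B) :
    Nat.card K = Nat.card (K ⊓ χ.ker : Subgroup B) * Nat.card (K.map χ) := by
  have h := Subgroup.relIndex_mul_relIndex (⊥ : Subgroup B) (K ⊓ χ.ker) K bot_le inf_le_left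
  rw [Subgroup.relIndex_bot_left, Subgroup.relIndex_bot_left, Subgroup.inf_relIndex_left,
    Subgroup.relIndex_ker] at h
  exact h.symm

theorem eq_24_of_dvd (m : ℕ) (h1 : m ∣ 24) (h2 : 12 < m) : m = 24 := by
  have := Nat.le_of_dvd (by norm_num) h1
  interval_cases m <;> omega

theorem pow_four_mod_five (a : ℕ) (ha : a % 5 ≠ 0) : a ^ 4 % 5 = 1 := by
  rw [Nat.pow_mod]
  have hr : a % 5 < 5 := Nat.mod_lt _ (by norm_num)
  generalize a % 5 = r at ha hr ⊢
  interval_cases r <;> first | exact absurd rfl ha | decide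

/-- **S2149-F2**. -/
theorem borel_index {B C : Type*} [Group B] [Finite B] [Group C] [IsCyclic C]
    (hC : Nat.card C = 24) (χ : B →* C) (hB : Nat.card B = 3000) (hQ : Nat.card χ.ker = 125)
    (Z : Subgroup B) (hZ : Nat.card Z = 5) (hZQ : Z ≤ χ.ker)
    (hZc : ∀ z ∈ Z, ∀ x ∈ χ.ker, z * x = x * z)
    (hna : ∃ x ∈ χ.ker, ∃ y ∈ χ.ker, x * y ≠ y * x)
    (hstar : ∀ t : B, t ≠ 1 → t ^ 2 = 1 → ∀ x ∈ χ.ker, x ∉ Z → t * x ≠ x * t) :
    ∀ K : Subgroup B, K.index < 50 → Z ≤ K := by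
  intro K hK
  by_contra hZK
  have hfinC : Finite C := Nat.finite_of_card_ne_zero (by rw [hC]; norm_num)
  have hcardK : Nat.card K * K.index = 3000 := by rw [Subgroup.card_mul_index, hB]
  have hK60 : 60 < Nat.card K := by
    by_contra h
    push Not at h
    have h1 : K.index ≤ 49 := by omega
    have : Nat.card K * K.index ≤ 60 * 49 := Nat.mul_le_mul h h1
    omega
  have hKPm : Nat.card K = Nat.card (K ⊓ χ.ker : Subgroup B) * Nat.card (K.map χ) :=
    card_eq_inf_ker_mul_map χ K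
  obtain ⟨P, hPdef⟩ : ∃ P : Subgroup B, P = K ⊓ χ.ker := ⟨_, rfl⟩
  rw [← hPdef] at hKPm
  have hPK : P ≤ K := hPdef ▸ inf_le_left
  have hPQ : P ≤ χ.ker := hPdef ▸ inf_le_right
  have hmemP : ∀ y, y ∈ K → y ∈ χ.ker → y ∈ P := fun y h1 h2 => hPdef ▸ ⟨h1, h2⟩
  have hm24 : Nat.card (K.map χ) ∣ 24 := hC ▸ Subgroup.card_subgroup_dvd_card _
  have hP125 : Nat.card P ∣ 5 ^ 3 := by
    have := Subgroup.card_dvd_of_le hPQ
    rw [hQ] at this
    exact this
  have hm_le : Nat.card (K.map χ) ≤ 24 := Nat.le_of_dvd (by norm_num) hm24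
  obtain ⟨e, he, hPe⟩ := (Nat.dvd_prime_pow Nat.prime_five).1 hP125
  interval_cases e
  · -- |P| = 1
    rw [hPe] at hKPm
    omega
  · -- |P| = 5
    norm_num at hPe
    have hm : Nat.card (K.map χ) = 24 := by
      apply eq_24_of_dvd _ hm24
      rw [hPe] at hKPm
      omega
    have hmap_top : K.map χ = ⊤ := (Subgroup.card_eq_iff_eq_top _).1 (hm.trans hC.symm)
    obtain ⟨c, hc⟩ := IsCyclic.exists_generator (α := C)
    have hc24 : orderOf c = 24 := by rw [orderOf_eq_card_of_forall_mem_zpowers hc, hC]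
    have hcmem : c ∈ K.map χ := hmap_top ▸ Subgroup.mem_top c
    obtain ⟨k, hkK, hkc⟩ := Subgroup.mem_map.1 hcmem
    have hPZ : ¬ P ≤ Z := fun h =>
      hZK ((Subgroup.eq_of_le_of_card_ge h (by rw [hZ, hPe])).symm.le.trans hPK)
    obtain ⟨x, hxP, hxZ⟩ := SetLike.not_le_iff_exists.1 hPZ
    have hxK : x ∈ K := hPK hxP
    have hxQ : x ∈ χ.ker := hPQ hxP
    have hx1 : x ≠ 1 := fun h => hxZ (h ▸ Z.one_mem)
    have hx5 : orderOf x = 5 := by
      have hd : orderOf x ∣ 5 := hPe ▸ P.orderOf_dvd_natCard hxP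
      rcases (Nat.dvd_prime Nat.prime_five).1 hd with h | h
      · exact absurd (orderOf_eq_one_iff.1 h) hx1
      · exact h
    have hPx : Subgroup.zpowers x = P :=
      Subgroup.eq_of_le_of_card_ge ((Subgroup.zpowers_le).2 hxP)
        (by rw [Nat.card_zpowers, hx5, hPe])
    have hpow : ∀ y ∈ P, ∃ n : ℕ, x ^ n = y := by
      intro y hy
      rw [← hPx, ← mem_powers_iff_mem_zpowers] at hy
      exact (Submonoid.mem_powers_iff _ _).1 hy
    have hkx : k * x * k⁻¹ ∈ P :=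
      hmemP _ (K.mul_mem (K.mul_mem hkK hxK) (K.inv_mem hkK))
        ((χ.normal_ker).conj_mem x hxQ k)
    obtain ⟨a, ha⟩ := hpow _ hkx
    have hiter : ∀ n : ℕ, k ^ n * x * (k ^ n)⁻¹ = x ^ (a ^ n) := by
      intro n
      induction n with
      | zero => simp
      | succ n ih =>
        have h1 : k ^ (n + 1) * x * (k ^ (n + 1))⁻¹ = k * (k ^ n * x * (k ^ n)⁻¹) * k⁻¹ := by
          rw [pow_succ']; group
        rw [h1, ih, ← conj_pow, ← ha, ← pow_mul, ← pow_succ']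
    have ha5 : a % 5 ≠ 0 := by
      intro h
      have h1 : x ^ a = 1 :=
        orderOf_dvd_iff_pow_eq_one.1 (hx5 ▸ Nat.dvd_of_mod_eq_zero h)
      rw [h1] at ha
      exact hx1 (conj_eq_one_iff.1 ha.symm)
    have ha4 : a ^ 4 % 5 = 1 := pow_four_mod_five a ha5
    have hk4 : k ^ 4 * x * (k ^ 4)⁻¹ = x := by
      rw [hiter 4, ← pow_mod_orderOf, hx5, ha4, pow_one]
    have hcomm4 : Commute (k ^ 4) x := by
      have h1 := hk4
      rw [mul_inv_eq_iff_eq_mul] at h1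
      exact h1
    have ht_comm : Commute (k ^ 12) x := by
      have h1 := hcomm4.pow_left 3
      rwa [← pow_mul] at h1
    have h24 : c ^ 24 = 1 := by rw [← hc24]; exact pow_orderOf_eq_one c
    have ht2P : (k ^ 12) ^ 2 ∈ P := by
      refine hmemP _ (K.pow_mem (K.pow_mem hkK _) _) ?_
      rw [MonoidHom.mem_ker, map_pow, map_pow, hkc, ← pow_mul]
      exact h24
    obtain ⟨j, hj⟩ := hpow _ ht2P
    have ht'2 : (k ^ 12 * x ^ (2 * j)) ^ 2 = 1 := by
      rw [(ht_comm.pow_right (2 * j)).mul_pow, ← hj, ← pow_mul, ← pow_add]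
      have h1 : j + 2 * j * 2 = 5 * j := by ring
      rw [h1, pow_mul, ← hx5, pow_orderOf_eq_one, one_pow]
    have ht'1 : k ^ 12 * x ^ (2 * j) ≠ 1 := by
      intro h
      have h1 := congrArg χ h
      rw [map_mul, map_pow, map_pow, hkc, MonoidHom.mem_ker.1 hxQ, one_pow, mul_one,
        map_one] at h1
      exact pow_ne_one_of_lt_orderOf (by norm_num) (by rw [hc24]; norm_num) h1
    have hfin : Commute (k ^ 12 * x ^ (2 * j)) x :=
      ht_comm.mul_left ((Commute.refl x).pow_left _)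
    exact hstar _ ht'1 ht'2 x hxQ hxZ hfin.eq
  · -- |P| = 25
    have hZP : ¬ Z ≤ P := fun h => hZK (h.trans hPK)
    have hZPbot : Z ⊓ P = ⊥ := by
      have hd : Nat.card (Z ⊓ P : Subgroup B) ∣ 5 := hZ ▸ Subgroup.card_dvd_of_le inf_le_left
      rcases (Nat.dvd_prime Nat.prime_five).1 hd with h1 | h5
      · exact Subgroup.card_eq_one.1 h1
      · exfalso
        have h2 : Z ⊓ P = Z := Subgroup.eq_of_le_of_card_ge inf_le_left (by rw [h5, hZ])
        exact hZP (inf_eq_left.1 h2)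
    have hfact : Fact (Nat.Prime 5) := ⟨Nat.prime_five⟩
    have hPcomm : ∀ a b : P, a * b = b * a := by
      have h1 := IsPGroup.isMulCommutative_of_card_eq_prime_sq (p := 5) (G := P) hPe
      exact fun a b => h1.is_comm.comm a b
    let f : Z × P → χ.ker := fun zp =>
      ⟨(zp.1 : B) * (zp.2 : B), mul_mem (hZQ zp.1.2) (hPQ zp.2.2)⟩
    have hinj : Function.Injective f := by
      rintro ⟨z₁, p₁⟩ ⟨z₂, p₂⟩ h
      have h' : (z₁ : B) * p₁ = z₂ * p₂ := congrArg Subtype.val h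
      have hmem : (z₂ : B)⁻¹ * z₁ ∈ Z ⊓ P := by
        refine ⟨Z.mul_mem (Z.inv_mem z₂.2) z₁.2, ?_⟩
        have h1 : (z₂ : B)⁻¹ * z₁ = p₂ * (p₁ : B)⁻¹ := by
          rw [inv_mul_eq_iff_eq_mul, ← mul_assoc, ← h', mul_inv_cancel_right]
        rw [h1]
        exact P.mul_mem p₂.2 (P.inv_mem p₁.2)
      rw [hZPbot, Subgroup.mem_bot, inv_mul_eq_one] at hmem
      have hz : z₁ = z₂ := Subtype.ext hmem.symm
      subst hz
      have hp : (p₁ : B) = p₂ := mul_left_cancel h'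
      exact Prod.ext rfl (Subtype.ext hp)
    have hbij : Function.Bijective f := by
      apply hinj.bijective_of_nat_card_le
      rw [Nat.card_prod, hZ, hPe, hQ]
      norm_num
    obtain ⟨x, hx, y, hy, hxy⟩ := hna
    obtain ⟨⟨z₁, p₁⟩, h1⟩ := hbij.2 ⟨x, hx⟩
    obtain ⟨⟨z₂, p₂⟩, h2⟩ := hbij.2 ⟨y, hy⟩
    have hx' : (z₁ : B) * p₁ = x := congrArg Subtype.val h1
    have hy' : (z₂ : B) * p₂ = y := congrArg Subtype.val h2
    have c11 : Commute (z₁ : B) z₂ := hZc _ z₁.2 _ (hZQ z₂.2)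
    have c12 : Commute (z₁ : B) p₂ := hZc _ z₁.2 _ (hPQ p₂.2)
    have c21 : Commute (p₁ : B) z₂ := (show Commute (z₂ : B) p₁ from hZc _ z₂.2 _ (hPQ p₁.2)).symm
    have c22 : Commute (p₁ : B) p₂ := congrArg Subtype.val (hPcomm p₁ p₂)
    have hfin : Commute ((z₁ : B) * p₁) ((z₂ : B) * p₂) :=
      (c11.mul_right c12).mul_left (c21.mul_right c22)
    rw [hx', hy'] at hfin
    exact hxy hfin.eq
  · -- |P| = 125
    have hPeq : P = χ.ker := Subgroup.eq_of_le_of_card_ge hPQ (by rw [hQ, hPe]; norm_num)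
    exact hZK (hZQ.trans (hPeq.symm.le.trans hPK))

end Cfsg.Agent.Lib.Helper43_S2149_F2
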