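import Mathlib
import Cfsg.Agent.Lib.Helper71_S2149Defs

/-!
# S2149 package IDX (architect helper71): `H` transitive ⟹ `[G : H] = [B : H ∩ B]`, `B = Stab u`.
-/

set_option autoImplicit false

namespace Cfsg.Agent.Lib.Helper43_S2149_IDX

open Cfsg.Agent.Lib.Helper71_S2149Defs

/-- **S2149-IDX** (S, Mathlib only).  `H` transitive => `G = H * B` => `[G:H] = [B : H ∩ B]`. -/
theorem index_eq_of_trans {G U : Type*} [Group G] [Finite G] (θ : G →* Equiv.Perm U) (u : U)
    (H : Subgroup G) (hH : Trans θ H) : (H.subgroupOf (Stab θ u)).index = H.index := by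
  have htrans : MulAction.IsPretransitive ↥(Stab θ u) (G ⧸ H) := by
    constructor
    intro x y
    induction x using QuotientGroup.induction_on with
    | H g₁ =>
      induction y using QuotientGroup.induction_on with
      | H g₂ =>
        obtain ⟨h, hhH, hh⟩ := hH (θ g₁⁻¹ u) (θ g₂⁻¹ u)
        have hmem : g₂ * h * g₁⁻¹ ∈ Stab θ u := by
          rw [mem_Stab, map_mul, map_mul, Equiv.Perm.mul_apply, Equiv.Perm.mul_apply, hh,
            ← Equiv.Perm.mul_apply, ← map_mul, mul_inv_cancel, map_one, Equiv.Perm.one_apply]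
        refine ⟨⟨g₂ * h * g₁⁻¹, hmem⟩, ?_⟩
        show ((g₂ * h * g₁⁻¹ * g₁ : G) : G ⧸ H) = (g₂ : G ⧸ H)
        rw [QuotientGroup.eq]
        have e : (g₂ * h * g₁⁻¹ * g₁)⁻¹ * g₂ = h⁻¹ := by group
        rw [e]
        exact H.inv_mem hhH
  have hstab : MulAction.stabilizer ↥(Stab θ u) ((1 : G) : G ⧸ H) = H.subgroupOf (Stab θ u) := by
    ext b
    rw [MulAction.mem_stabilizer_iff, Subgroup.mem_subgroupOf]
    show (((b : G) * 1 : G) : G ⧸ H) = ((1 : G) : G ⧸ H) ↔ (b : G) ∈ H
    rw [QuotientGroup.eq, mul_one, mul_one]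
    exact inv_mem_iff
  rw [← hstab, MulAction.index_stabilizer_of_transitive]
  rfl

end Cfsg.Agent.Lib.Helper43_S2149_IDX
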