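import Mathlib
import Cfsg.Agent.Lib.Helper14_AutOrdDefs
import Cfsg.Agent.Lib.Helper14_FieldAutPSL

/-!
# S2262 package POWER (helper43 for helper14): the `e`-th power of `conjAut g * fieldAut σ`, `e = orderOf σ`,
is `conjAut N` with `N = g σ(g) ⋯ σ^{e-1}(g)`, whose characteristic polynomial is `σ`-fixed.
-/

set_option autoImplicit false

namespace Cfsg.Agent.Lib.Helper43_S2262_POWER

open Matrix Polynomial Cfsg.Agent.Lib.Helper14_AutOrdDefs Cfsg.Agent.Lib.Helper14_PSLAut
  Cfsg.Agent.Lib.Helper14_FieldAutPSL Cfsg.Agent.Lib.Helper44_PSLnRoot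

variable {F : Type*} [Field F] {n : ℕ}

/-- the twisted partial products `P 0 = 1`, `P (k+1) = g * σ(P k)` -/
noncomputable def tw (g : GL (Fin n) F) (σ : F ≃+* F) : ℕ → GL (Fin n) F
  | 0 => 1
  | k + 1 => g * glMap σ (tw g σ k)

theorem tw_zero (g : GL (Fin n) F) (σ : F ≃+* F) : tw g σ 0 = 1 := rfl

theorem tw_succ (g : GL (Fin n) F) (σ : F ≃+* F) (k : ℕ) :
    tw g σ (k + 1) = g * glMap σ (tw g σ k) := rfl

theorem glMap_one (g : GL (Fin n) F) : glMap (1 : F ≃+* F) g = g := by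
  apply Units.ext
  rw [glMap_coe]
  ext i j
  rfl

theorem glMap_glMap (σ τ : F ≃+* F) (g : GL (Fin n) F) :
    glMap σ (glMap τ g) = glMap (σ * τ) g := by
  apply Units.ext
  rw [glMap_coe, glMap_coe, glMap_coe]
  ext i j
  rfl

theorem pow_eq (g : GL (Fin n) F) (σ : F ≃+* F) (k : ℕ) :
    (conjAut g * fieldAut σ : MulAut (Matrix.ProjectiveSpecialLinearGroup (Fin n) F)) ^ k
      = conjAut (tw g σ k) * fieldAut (σ ^ k) := by
  induction k with
  | zero => rw [pow_zero, pow_zero, tw_zero, map_one, fieldAut_one, one_mul]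
  | succ k ih =>
    rw [pow_succ', ih, tw_succ, map_mul, pow_succ', fieldAut_mul]
    calc conjAut g * fieldAut σ * (conjAut (tw g σ k) * fieldAut (σ ^ k))
        = conjAut g * (fieldAut σ * conjAut (tw g σ k)) * fieldAut (σ ^ k) := by group
      _ = conjAut g * (conjAut (glMap σ (tw g σ k)) * fieldAut σ) * fieldAut (σ ^ k) := by
          rw [fieldAut_mul_conjAut]
      _ = conjAut g * conjAut (glMap σ (tw g σ k)) * (fieldAut σ * fieldAut (σ ^ k)) := by group

theorem tw_succ' (g : GL (Fin n) F) (σ : F ≃+* F) (k : ℕ) :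
    tw g σ (k + 1) = tw g σ k * glMap (σ ^ k) g := by
  induction k with
  | zero => rw [tw_succ, tw_zero, map_one, pow_zero, glMap_one, mul_one, one_mul]
  | succ k ih =>
    rw [tw_succ, ih, map_mul, glMap_glMap, ← pow_succ', ← mul_assoc, ← tw_succ, ih]

theorem field_pow {F : Type*} [Field F] [Fintype F] {n : ℕ} (g : GL (Fin n) F) (σ : F ≃+* F) :
    ∃ N : GL (Fin n) F,
      (conjAut g * fieldAut σ : MulAut (Matrix.ProjectiveSpecialLinearGroup (Fin n) F)) ^ orderOf σ
        = conjAut N ∧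
      (N : Matrix (Fin n) (Fin n) F).charpoly.map (σ : F →+* F)
        = (N : Matrix (Fin n) (Fin n) F).charpoly := by
  refine ⟨tw g σ (orderOf σ), ?_, ?_⟩
  · rw [pow_eq, pow_orderOf_eq_one, fieldAut_one, mul_one]
  · have h1 : g * glMap σ (tw g σ (orderOf σ)) = tw g σ (orderOf σ) * g := by
      rw [← tw_succ, tw_succ', pow_orderOf_eq_one, glMap_one]
    have h2 : glMap σ (tw g σ (orderOf σ)) = g⁻¹ * tw g σ (orderOf σ) * g := by
      rw [mul_assoc, ← h1, inv_mul_cancel_left]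
    have h3 := congrArg (fun x : GL (Fin n) F => (x : Matrix (Fin n) (Fin n) F)) h2
    simp only [glMap_coe, Units.val_mul] at h3
    rw [← Matrix.charpoly_map]
    have h4 : ((tw g σ (orderOf σ) : GL (Fin n) F) : Matrix (Fin n) (Fin n) F).map
        ((σ : F →+* F)) = ((tw g σ (orderOf σ) : GL (Fin n) F) : Matrix (Fin n) (Fin n) F).map σ := rfl
    rw [h4, h3, Matrix.coe_units_inv]
    exact Matrix.charpoly_units_conj' g _

end Cfsg.Agent.Lib.Helper43_S2262_POWER
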