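import Mathlib
import Cfsg.Agent.Lib.Helper30_S2316Defs

/-!
# S2316 package USPEQ (architect helper30): helper44's unitriangular subgroup `USp m F` of `Sp_{2m}(F)` is the
group `UU (φ m F) (ht m)` of the elements that are unitriangular with respect to the heights `ht m`.
-/

set_option autoImplicit false
set_option linter.unusedSectionVars false
set_option linter.unusedVariables false

namespace Cfsg.Agent.Lib.Helper30_S2316

open Matrix Cfsg Cfsg.Agent.Lib.Helper68_MatGrp Cfsg.Agent.Lib.Helper5_SpPerfect
  Cfsg.Agent.Lib.Helper68_StSpDefs Cfsg.Agent.Lib.Helper68_StSp Cfsg.Agent.Lib.Helper44_SpUT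
  Cfsg.Agent.Lib.Helper68_StAbs Cfsg.Agent.Lib.Helper6_Word Cfsg.Agent.Lib.Helper6_BNPair
  Cfsg.Agent.Lib.Helper81_BNSteinberg Cfsg.Agent.Lib.Helper81_BNIndex Cfsg.Agent.Lib.Helper81_BNBorel

section sp

variable {m : ℕ} {F : Type*} [Field F]

/-- the lower right block of an element of `USp` is the inverse transpose of the upper left block -/
private theorem h43_D_eq {g : ↥(symplecticGroup (Fin m) F)} (hg : g ∈ USp m F) :
    g.1.toBlocks₂₂ = ((g.1.toBlocks₁₁)⁻¹)ᵀ := by
  obtain ⟨h1, _⟩ := block_data hg.1
  rw [Matrix.transpose_nonsing_inv]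
  exact (Matrix.inv_eq_left_inv (mul_eq_one_comm.mp h1)).symm

theorem USp_eq_UU : USp m F = UU (φ m F) (ht m) := by
  ext g
  rw [mem_UU]
  constructor
  · intro hg
    have hC : g.1.toBlocks₂₁ = 0 := hg.1
    have hA : Cfsg.Agent.Lib.Helper44_PSLnUT.IsUT g.1.toBlocks₁₁ := hg.2
    have hAi : Cfsg.Agent.Lib.Helper44_PSLnUT.IsUT (g.1.toBlocks₁₁)⁻¹ := hA.inv
    have hD := h43_D_eq hg
    rintro (i | i) (j | j) hab
    · -- upper left block
      simp only [ht_inl] at hab
      show g.1.toBlocks₁₁ i j = _
      rcases Nat.lt_or_ge j.val i.val with h | h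
      · rw [hA.1 i j h, Matrix.one_apply_ne]
        intro e
        rw [Sum.inl.injEq] at e
        rw [e] at h
        exact lt_irrefl _ h
      · have e : i = j := Fin.ext (le_antisymm h hab)
        subst e
        rw [hA.2 i, Matrix.one_apply_eq]
    · -- upper right block: impossible
      simp only [ht_inl, ht_inr] at hab
      have := i.2; have := j.2
      omega
    · -- lower left block
      show g.1.toBlocks₂₁ i j = _
      rw [hC, Matrix.zero_apply, Matrix.one_apply_ne]
      intro e
      cases e
    · -- lower right block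
      simp only [ht_inr] at hab
      have hi := i.2
      have hj := j.2
      have hij : i.val ≤ j.val := by omega
      show g.1.toBlocks₂₂ i j = _
      rw [hD, Matrix.transpose_apply]
      rcases Nat.lt_or_ge i.val j.val with h | h
      · rw [hAi.1 j i h, Matrix.one_apply_ne]
        intro e
        rw [Sum.inr.injEq] at e
        rw [e] at h
        exact lt_irrefl _ h
      · have e : i = j := Fin.ext (le_antisymm hij h)
        subst e
        rw [hAi.2 i, Matrix.one_apply_eq]
  · intro h
    refine ⟨?_, ?_, ?_⟩
    · ext i j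
      show g.1 (Sum.inr i) (Sum.inl j) = 0
      have h1 := h (Sum.inr i) (Sum.inl j) (by
        simp only [ht_inl, ht_inr]
        have := i.2; have := j.2
        omega)
      rw [φ_apply] at h1
      rw [h1, Matrix.one_apply_ne]
      intro e
      cases e
    · intro i j hji
      show g.1 (Sum.inl i) (Sum.inl j) = 0
      have h1 := h (Sum.inl i) (Sum.inl j) (by
        simp only [ht_inl]
        exact le_of_lt hji)
      rw [φ_apply] at h1
      rw [h1, Matrix.one_apply_ne]
      intro e
      rw [Sum.inl.injEq] at e
      rw [e] at hji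
      exact lt_irrefl _ hji
    · intro i
      show g.1 (Sum.inl i) (Sum.inl i) = 1
      have h1 := h (Sum.inl i) (Sum.inl i) le_rfl
      rw [φ_apply] at h1
      rw [h1, Matrix.one_apply_eq]

end sp

end Cfsg.Agent.Lib.Helper30_S2316
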