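import Mathlib
import Cfsg.Prelude.Def_Characters
import Cfsg.Agent.Lib.Helper57_ModDefs

set_option autoImplicit false

/-!
# S4504, end piece of package PK-N2 (architect helper57)

On a simple module of odd dimension `3` (characteristic `≠ 2`), a nonzero invariant bilinear form
yields an invariant symmetric nondegenerate bilinear form.
-/

namespace Cfsg.Agent.Lib.Helper43_S4504_N2e

open Cfsg Cfsg.Agent.Lib.Helper57_ModDefs

section
variable {k : Type*} [Field k] {Γ : Type*} [Group Γ] {W : Type*} [AddCommGroup W] [Module k W]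

/-- The left radical of a bilinear form. -/
def leftRad (β : LinearMap.BilinForm k W) : Submodule k W where
  carrier := {u | ∀ v, β u v = 0}
  add_mem' := by
    intro a b ha hb v
    rw [map_add, LinearMap.add_apply, ha v, hb v, add_zero]
  zero_mem' := by
    intro v
    simp
  smul_mem' := by
    intro c a ha v
    rw [map_smul, LinearMap.smul_apply, ha v, smul_zero]

/-- The right radical of a bilinear form. -/
def rightRad (β : LinearMap.BilinForm k W) : Submodule k W where
  carrier := {v | ∀ u, β u v = 0}
  add_mem' := by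
    intro a b ha hb u
    rw [map_add, ha u, hb u, add_zero]
  zero_mem' := by
    intro u
    simp
  smul_mem' := by
    intro c a ha u
    rw [map_smul, ha u, smul_zero]

lemma inv_apply_apply (σ : Representation k Γ W) (g : Γ) (u : W) : σ g (σ g⁻¹ u) = u := by
  have : σ g * σ g⁻¹ = 1 := by rw [← map_mul, mul_inv_cancel, map_one]
  calc σ g (σ g⁻¹ u) = (σ g * σ g⁻¹) u := rfl
    _ = u := by rw [this]; rfl

lemma leftRad_inv (σ : Representation k Γ W) (β : LinearMap.BilinForm k W)
    (hinv : ∀ g u v, β (σ g u) (σ g v) = β u v) : InvOn σ Set.univ (leftRad β) := by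
  intro g _ u hu v
  have h1 := hinv g u (σ g⁻¹ v)
  rw [inv_apply_apply] at h1
  rw [h1]
  exact hu _

lemma rightRad_inv (σ : Representation k Γ W) (β : LinearMap.BilinForm k W)
    (hinv : ∀ g u v, β (σ g u) (σ g v) = β u v) : InvOn σ Set.univ (rightRad β) := by
  intro g _ v hv u
  have h1 := hinv g (σ g⁻¹ u) v
  rw [inv_apply_apply] at h1
  rw [h1]
  exact hv _

lemma leftRad_eq_bot (σ : Representation k Γ W)
    (hsimple : ∀ U : Submodule k W, InvOn σ Set.univ U → U = ⊥ ∨ U = ⊤)
    (β : LinearMap.BilinForm k W) (hβ : β ≠ 0)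
    (hinv : ∀ g u v, β (σ g u) (σ g v) = β u v) : leftRad β = ⊥ := by
  rcases hsimple _ (leftRad_inv σ β hinv) with h | h
  · exact h
  · exfalso
    apply hβ
    ext u v
    have : u ∈ leftRad β := by rw [h]; trivial
    exact this v

lemma rightRad_eq_bot (σ : Representation k Γ W)
    (hsimple : ∀ U : Submodule k W, InvOn σ Set.univ U → U = ⊥ ∨ U = ⊤)
    (β : LinearMap.BilinForm k W) (hβ : β ≠ 0)
    (hinv : ∀ g u v, β (σ g u) (σ g v) = β u v) : rightRad β = ⊥ := by
  rcases hsimple _ (rightRad_inv σ β hinv) with h | h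
  · exact h
  · exfalso
    apply hβ
    ext u v
    have : v ∈ rightRad β := by rw [h]; trivial
    exact this u

/-- A skew-symmetric form on a space of dimension `3` is degenerate (characteristic `≠ 2`). -/
lemma not_nondegenerate_of_skew (h2 : (2 : k) ≠ 0) (hdim : Module.finrank k W = 3)
    (β : LinearMap.BilinForm k W) (hskew : ∀ u v, β u v = - β v u)
    (hl : leftRad β = ⊥) (hr : rightRad β = ⊥) : False := by
  classical
  have : FiniteDimensional k W := Module.finite_of_finrank_pos (by rw [hdim]; norm_num)
  let b : Module.Basis (Fin 3) k W := Module.finBasisOfFinrankEq k W hdim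
  have hnd : β.Nondegenerate := by
    refine ⟨?_, ?_⟩
    · intro u hu
      have : u ∈ leftRad β := hu
      rw [hl] at this
      exact (Submodule.mem_bot k).1 this
    · intro v hv
      have : v ∈ rightRad β := hv
      rw [hr] at this
      exact (Submodule.mem_bot k).1 this
  have hdet := (LinearMap.BilinForm.nondegenerate_iff_det_ne_zero b).1 hnd
  set M := LinearMap.BilinForm.toMatrix b β with hM
  have hT : M.transpose = - M := by
    ext i j
    simp only [Matrix.transpose_apply, Matrix.neg_apply, hM, LinearMap.BilinForm.toMatrix_apply]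
    exact hskew _ _
  have h1 : M.det = - M.det := by
    have := congrArg Matrix.det hT
    rw [Matrix.det_transpose, Matrix.det_neg, Fintype.card_fin] at this
    calc M.det = (-1) ^ 3 * M.det := this
      _ = - M.det := by ring
  have h3 : (2 : k) * M.det = 0 := by
    rw [two_mul]
    nth_rewrite 1 [h1]
    exact neg_add_cancel _
  rcases mul_eq_zero.1 h3 with h | h
  · exact h2 h
  · exact hdet h

theorem sym_nondeg_of_invariant (h2 : (2 : k) ≠ 0) (σ : Representation k Γ W)
    (hdim : Module.finrank k W = 3)
    (hsimple : ∀ U : Submodule k W, InvOn σ Set.univ U → U = ⊥ ∨ U = ⊤)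
    (β : LinearMap.BilinForm k W) (hβ : β ≠ 0)
    (hinv : ∀ g u v, β (σ g u) (σ g v) = β u v) :
    ∃ β' : LinearMap.BilinForm k W, (∀ g u v, β' (σ g u) (σ g v) = β' u v) ∧
      (∀ u v, β' u v = β' v u) ∧ (∀ u, (∀ v, β' u v = 0) → u = 0) := by
  -- the symmetrization
  set βs : LinearMap.BilinForm k W := β + β.flip with hβs
  have hs_apply : ∀ u v, βs u v = β u v + β v u := by
    intro u v
    simp [hβs]
  have hs_inv : ∀ g u v, βs (σ g u) (σ g v) = βs u v := by
    intro g u v
    rw [hs_apply, hs_apply, hinv, hinv]
  have hs_symm : ∀ u v, βs u v = βs v u := by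
    intro u v
    rw [hs_apply, hs_apply, add_comm]
  by_cases hs0 : βs = 0
  · exfalso
    have hskew : ∀ u v, β u v = - β v u := by
      intro u v
      have := hs_apply u v
      rw [hs0] at this
      have h0 : β u v + β v u = 0 := by simpa using this.symm
      exact eq_neg_of_add_eq_zero_left h0
    exact not_nondegenerate_of_skew h2 hdim β hskew (leftRad_eq_bot σ hsimple β hβ hinv)
      (rightRad_eq_bot σ hsimple β hβ hinv)
  · refine ⟨βs, hs_inv, hs_symm, ?_⟩
    intro u hu
    have : u ∈ leftRad βs := hu
    rw [leftRad_eq_bot σ hsimple βs hs0 hs_inv] at this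
    exact (Submodule.mem_bot k).1 this

end

end Cfsg.Agent.Lib.Helper43_S4504_N2e
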