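import Mathlib
import Cfsg.Prelude.Def_Characters
import Cfsg.Prelude.Def_Blocks
import Cfsg.Agent.Lib.Helper57_ModDefs

set_option autoImplicit false

/-!
# S4504 package PK-T1 (`isBlock_top_of_isBlock`), architect helper57

Transport of a Jordan block `W` of `ρ x - 1` to the sub-representation on `W`.
-/

namespace Cfsg.Agent.Lib.Helper43_S4504_T1

open Cfsg Cfsg.Agent.Lib.Helper57_ModDefs

theorem isBlock_top_of_isBlock {k : Type*} [Field k] {G : Type*} [Group G] {T : Type*}
    [AddCommGroup T] [Module k T] (ρ : Representation k G T) (W : Submodule k T)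
    (hW : ∀ g, W ≤ W.comap (ρ g)) (x : G) (hb : IsBlock (ρ x - 1) W) :
    IsBlock (ρ.subrepresentation W hW x - 1) ⊤ := by
  obtain ⟨t, ht⟩ := hb
  have htW : t ∈ W := by
    rw [ht]
    exact Submodule.subset_span ⟨0, by simp⟩
  -- the restriction of `ρ x - 1`
  have hstep : ∀ w : W, ((ρ.subrepresentation W hW x - 1) w : T) = (ρ x - 1) (w : T) := by
    intro w
    simp [Representation.subrepresentation]
  have hpow : ∀ i : ℕ, (((ρ.subrepresentation W hW x - 1) ^ i) (⟨t, htW⟩ : W) : T)
      = ((ρ x - 1) ^ i) t := by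
    intro i
    induction i with
    | zero => simp
    | succ i ih =>
      rw [pow_succ', pow_succ', Module.End.mul_apply, Module.End.mul_apply, hstep, ih]
  refine ⟨⟨t, htW⟩, ?_⟩
  apply Submodule.map_injective_of_injective W.subtype_injective
  rw [Submodule.map_subtype_top, Submodule.map_span, ← Set.range_comp]
  conv_lhs => rw [ht]
  congr 2
  funext i
  exact (hpow i).symm

end Cfsg.Agent.Lib.Helper43_S4504_T1
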