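import Mathlib
import Cfsg.Agent.Lib.Helper66_S92Rank

set_option autoImplicit false
set_option linter.unusedVariables false
set_option linter.unusedSectionVars false

/-!
Package FACT of the S2092 market (architect helper66): conjugating a root element `X a c t` with
`ng k ∉ {a, c}` by the monomial representative `dC X o k s` lands in the abstract vector stabiliser
`Gs X o`.
-/

namespace Cfsg.Agent.Lib.Helper66_S92

open Cfsg.Agent.Lib.Helper5_SteinbergA Cfsg.Agent.Lib.Helper66_StCalc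

variable {ι : Type*} [DecidableEq ι] {K : Type*} [Field K] {G : Type*} [Group G]
  {X : ι ⊕ ι → ι ⊕ ι → K → G}

namespace H60F

omit [Field K] [DecidableEq ι] in
theorem X_mem_Gs (X : ι ⊕ ι → ι ⊕ ι → K → G) (o a c : ι ⊕ ι) (t : K) (ha : a ≠ ng o)
    (hc : c ≠ ng o) : X a c t ∈ Gs X o :=
  Subgroup.subset_closure ⟨a, c, t, ha, hc, rfl⟩

theorem sgC_ne (o k d : ι ⊕ ι) (hko : k ≠ o) (hd : ng k ≠ d) : sgC (ng o) k d ≠ ng o := by
  unfold sgC
  rw [ng_ng]
  split_ifs with h1 h2 h3 h4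
  · -- d = o, value k
    intro hk
    apply hd
    rw [hk, ng_ng, h1]
  · -- d = k, value o
    exact ne_ng o
  · -- d = ng k, excluded
    exact absurd h3.symm hd
  · -- d = ng o, value ng k
    intro hk
    exact hko (ng_injective hk)
  · exact h4

theorem hc_inv' (C : WCalc X) (a c : ι ⊕ ι) (hac : c ≠ ng a) (s : K) (hs : s ≠ 0) :
    (HC X a c s)⁻¹ = HC X a c s⁻¹ := by
  rw [inv_eq_iff_mul_eq_one, C.hc_mul a c hac s s⁻¹ hs (inv_ne_zero hs), mul_inv_cancel₀ hs,
    HC_one]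

end H60F

theorem factE (h : CStAB X) (C : WCalc X) (o k : ι ⊕ ι) (s : K) (hs : s ≠ 0) (a c : ι ⊕ ι) (t : K)
    (hka : ng k ≠ a) (hkc : ng k ≠ c) :
    (dC X o k s)⁻¹ * X a c t * dC X o k s ∈ Gs X o := by
  unfold dC
  split_ifs with hko
  · -- the torus case
    subst hko
    have e1 : (HC X k k s)⁻¹ = HC X k k s⁻¹ := H60F.hc_inv' C k k (ne_ng k) s hs
    have e2 : HC X k k s = (HC X k k s⁻¹)⁻¹ := by rw [← e1, inv_inv]
    have e3 : (HC X k k s)⁻¹ * X a c t * HC X k k s =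
        X a c (chC k k s⁻¹ a * chC k k s⁻¹ c * t) := by
      rw [← C.hc_conj k k (ne_ng k) s⁻¹ (inv_ne_zero hs) a c t, ← e1, inv_inv]
    rw [e3]
    exact H60F.X_mem_Gs X k a c _ (Ne.symm hka) (Ne.symm hkc)
  · -- the Weyl case
    have hk : k ≠ ng (ng o) := by rw [ng_ng]; exact hko
    have e1 : (WC X (ng o) k s)⁻¹ = WC X (ng o) k (-s) := C.wc_inv (ng o) k hk s
    have e2 : WC X (ng o) k s = (WC X (ng o) k (-s))⁻¹ := by rw [← e1, inv_inv]
    have e3 : (WC X (ng o) k s)⁻¹ * X a c t * WC X (ng o) k s =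
        X (sgC (ng o) k a) (sgC (ng o) k c)
          (muC (ng o) k (-s) a * muC (ng o) k (-s) c * t) := by
      rw [← C.wc_conj (ng o) k hk (-s) (neg_ne_zero.mpr hs) a c t, ← e1, inv_inv]
    rw [e3]
    exact H60F.X_mem_Gs X o _ _ _ (H60F.sgC_ne o k a hko hka) (H60F.sgC_ne o k c hko hkc)

end Cfsg.Agent.Lib.Helper66_S92
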