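import Mathlib
import Cfsg.Agent.Lib.Helper66_S92Calc

set_option autoImplicit false
set_option linter.unusedVariables false
set_option linter.unusedSectionVars false

/-!
Package NORM of helper66's `s92_packages` market (S2092): the root elements `X a c t` with
`a, c ≠ ng j` normalise the abstract unipotent radical `Qs X j`, and the abstract vector stabiliser
`Gs X o` is `Qs X o * Ls X o`.
-/

namespace Cfsg.Agent.Lib.Helper66_S92

variable {ι : Type*} [DecidableEq ι] {K : Type*} [Field K] {G : Type*} [Group G]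
  {X : ι ⊕ ι → ι ⊕ ι → K → G}

theorem conj_mem_Qs (h : CStAB X) (j a c : ι ⊕ ι) (t : K) (hj1 : ng j ≠ a) (hj2 : ng j ≠ c)
    {q : G} (hq : q ∈ Qs X j) : X a c t * q * (X a c t)⁻¹ ∈ Qs X j := by
  by_cases hja : j = a
  · subst hja
    exact (Qs X j).mul_mem ((Qs X j).mul_mem (h.X_mem_Qs j c t) hq)
      ((Qs X j).inv_mem (h.X_mem_Qs j c t))
  by_cases hjc : j = c
  · subst hjc
    exact (Qs X j).mul_mem ((Qs X j).mul_mem (h.X_mem_Qs' j a t) hq)
      ((Qs X j).inv_mem (h.X_mem_Qs' j a t))
  by_cases hca : c = ng a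
  · subst hca
    rw [h.opp]
    simpa using hq
  have hj1' : j ≠ ng a := fun e => hj1 (by rw [e, ng_ng])
  have hj2' : j ≠ ng c := fun e => hj2 (by rw [e, ng_ng])
  have hac' : a ≠ ng c := fun e => hca (by rw [e, ng_ng])
  have key : ∀ e u, e ≠ ng j → X a c t * X j e u * (X a c t)⁻¹ ∈ Qs X j := by
    intro e u he
    by_cases hac : a = c
    · subst hac
      by_cases hea : e = ng a
      · subst hea
        rw [h.symm j (ng a) u, h.cj_ls a j t u hja hj1']
        exact (Qs X j).mul_mem ((Qs X j).mul_mem (h.X_mem_Qs' j a _) (h.X_mem_Qs j j _))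
          (h.X_mem_Qs' j (ng a) u)
      · rw [h.cj_comm a a j e t u hj1' hj1' hea hea]
        exact h.X_mem_Qs j e u
    · by_cases hec : e = ng c
      · subst hec
        rw [h.symm j (ng c) u,
          h.cj_a2 a c j t u hac hac' (fun e => hja e.symm) (fun e => hj1 e.symm)
            (fun e => hjc e.symm) (fun e => hj2 e.symm)]
        exact (Qs X j).mul_mem (h.X_mem_Qs' j a _) (h.X_mem_Qs' j (ng c) u)
      · by_cases hea : e = ng a
        · subst hea
          rw [h.symm a c t, h.symm j (ng a) u,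
            h.cj_a2 c a j t u (fun e => hac e.symm) hca (fun e => hjc e.symm)
              (fun e => hj2 e.symm) (fun e => hja e.symm) (fun e => hj1 e.symm)]
          exact (Qs X j).mul_mem (h.X_mem_Qs' j c _) (h.X_mem_Qs' j (ng a) u)
        · rw [h.cj_comm a c j e t u hj1' hj2' hea hec]
          exact h.X_mem_Qs j e u
  unfold Qs at hq
  induction hq using Subgroup.closure_induction with
  | mem x hx =>
    obtain ⟨e, u, he, rfl⟩ := hx
    exact key e u he
  | one => simp
  | mul x y _ _ hx hy =>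
    have : X a c t * (x * y) * (X a c t)⁻¹ =
        (X a c t * x * (X a c t)⁻¹) * (X a c t * y * (X a c t)⁻¹) := by group
    rw [this]
    exact (Qs X j).mul_mem hx hy
  | inv x _ hx =>
    have : X a c t * x⁻¹ * (X a c t)⁻¹ = (X a c t * x * (X a c t)⁻¹)⁻¹ := by group
    rw [this]
    exact (Qs X j).inv_mem hx

theorem Gs_eq (h : CStAB X) (o : ι ⊕ ι) {g : G} (hg : g ∈ Gs X o) :
    ∃ q ∈ Qs X o, ∃ l ∈ Ls X o, g = q * l := by
  have step : ∀ a c t, a ≠ ng o → c ≠ ng o → ∀ y : G, (∃ q ∈ Qs X o, ∃ l ∈ Ls X o, y = q * l) →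
      ∃ q ∈ Qs X o, ∃ l ∈ Ls X o, X a c t * y = q * l := by
    rintro a c t ha hc y ⟨q, hq, l, hl, rfl⟩
    by_cases hao : a = o
    · subst hao
      exact ⟨X a c t * q, (Qs X a).mul_mem (h.X_mem_Qs a c t) hq, l, hl, by group⟩
    by_cases hco : c = o
    · subst hco
      exact ⟨X a c t * q, (Qs X c).mul_mem (h.X_mem_Qs' c a t) hq, l, hl, by group⟩
    refine ⟨X a c t * q * (X a c t)⁻¹, conj_mem_Qs h o a c t (fun e => ha e.symm)
      (fun e => hc e.symm) hq, X a c t * l,
      (Ls X o).mul_mem (CStAB.X_mem_Ls o a c t hao ha hco hc) hl, by group⟩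
  unfold Gs at hg
  induction hg using Subgroup.closure_induction_left with
  | one => exact ⟨1, one_mem _, 1, one_mem _, by simp⟩
  | mul_left x hx y _ hy =>
    obtain ⟨a, c, t, ha, hc, rfl⟩ := hx
    exact step a c t ha hc y hy
  | inv_mul_cancel x hx y _ hy =>
    obtain ⟨a, c, t, ha, hc, rfl⟩ := hx
    rw [h.X_inv]
    exact step a c (-t) ha hc y hy

end Cfsg.Agent.Lib.Helper66_S92
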