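import Mathlib
import Cfsg.Agent.Lib.Helper66_S92Rank
import Cfsg.Agent.Lib.Helper66_StCol
import Cfsg.Agent.Lib.Helper89_S92_NORM
import Cfsg.Agent.Lib.Helper60_S92_FACT

/-!
S2092 package E12 (architect helper66): the coset relation `Rk X o k` is stable under left multiplication with
root elements `X a c t` whose indices avoid `k` (E2), or hit `ng k` (E1).

`Rk_E1` needs nothing else.  `Rk_E2_of` takes the statements of the packages NORM (`conj_mem_Qs`) and FACT (`factE`)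
as hypotheses; `Rk_E2` uses the landed NORM (helper89) and FACT (helper60).
-/

set_option autoImplicit false
set_option linter.unusedVariables false

namespace Cfsg.Agent.Lib.Helper66_S92

open Cfsg.Agent.Lib.Helper5_SteinbergA Cfsg.Agent.Lib.Helper66_StCalc

variable {ι : Type*} [DecidableEq ι] {K : Type*} [Field K] {G : Type*} [Group G]
  {X : ι ⊕ ι → ι ⊕ ι → K → G}

/-- a root element with an index `ng k` lies in `Qs X (ng k)` -/
theorem X_mem_Qs_of_ng (h : CStAB X) (k a c : ι ⊕ ι) (t : K) (hk : ng k = a ∨ ng k = c) :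
    X a c t ∈ Qs X (ng k) := by
  have key : ∀ c' : ι ⊕ ι, X (ng k) c' t ∈ Qs X (ng k) := by
    intro c'
    by_cases hc : c' = k
    · subst hc
      have : X (ng c') c' t = 1 := by
        have := h.opp (ng c') t
        rwa [ng_ng] at this
      rw [this]
      exact Subgroup.one_mem _
    · apply Subgroup.subset_closure
      refine ⟨c', t, ?_, rfl⟩
      rw [ng_ng]
      exact hc
  rcases hk with rfl | rfl
  · exact key c
  · rw [h.symm]
    exact key a

theorem Rk_E1 (h : CStAB X) (o k a c : ι ⊕ ι) (t : K) (hk : ng k = a ∨ ng k = c) {g : G}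
    (hR : Rk X o k g) : Rk X o k (X a c t * g) := by
  obtain ⟨q, hq, s, hs, γ, hγ, rfl⟩ := hR
  refine ⟨X a c t * q, Subgroup.mul_mem _ (X_mem_Qs_of_ng h k a c t hk) hq, s, hs, γ, hγ, ?_⟩
  simp only [mul_assoc]

/-- `Rk_E2` from the statements of NORM (`conj_mem_Qs`) and FACT (`factE`) -/
theorem Rk_E2_of
    (hconj : ∀ (j a c : ι ⊕ ι) (t : K), ng j ≠ a → ng j ≠ c → ∀ {q : G}, q ∈ Qs X j →
      X a c t * q * (X a c t)⁻¹ ∈ Qs X j)
    (hfact : ∀ (o k : ι ⊕ ι) (s : K), s ≠ 0 → ∀ (a c : ι ⊕ ι) (t : K), ng k ≠ a → ng k ≠ c →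
      (dC X o k s)⁻¹ * X a c t * dC X o k s ∈ Gs X o)
    (o k a c : ι ⊕ ι) (t : K) (h1 : k ≠ a) (h2 : k ≠ c)
    (h3 : ng k ≠ a) (h4 : ng k ≠ c) {g : G} (hR : Rk X o k g) : Rk X o k (X a c t * g) := by
  obtain ⟨q, hq, s, hs, γ, hγ, rfl⟩ := hR
  refine ⟨X a c t * q * (X a c t)⁻¹,
    hconj (ng k) a c t (by rw [ng_ng]; exact h1) (by rw [ng_ng]; exact h2) hq, s, hs,
    ((dC X o k s)⁻¹ * X a c t * dC X o k s) * γ,
    Subgroup.mul_mem _ (hfact o k s hs a c t h3 h4) hγ, ?_⟩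
  group

theorem Rk_E2 (h : CStAB X) (C : WCalc X) (o k a c : ι ⊕ ι) (t : K) (h1 : k ≠ a) (h2 : k ≠ c)
    (h3 : ng k ≠ a) (h4 : ng k ≠ c) {g : G} (hR : Rk X o k g) : Rk X o k (X a c t * g) :=
  Rk_E2_of (fun j a c t hj1 hj2 _ hq => conj_mem_Qs h j a c t hj1 hj2 hq)
    (fun o k s hs a c t hka hkc => factE h C o k s hs a c t hka hkc) o k a c t h1 h2 h3 h4 hR

end Cfsg.Agent.Lib.Helper66_S92
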