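import Mathlib
import Cfsg.Agent.Lib.Helper66_S92Rank
import Cfsg.Agent.Lib.Helper66_StCol

/-!
# S2092 package MODEL_A (helper5 for helper66): the matrices `XMat` are symplectic, act by `xact`,
and satisfy the relations `symm`, `opp`, `add`, `comm`.
-/

set_option autoImplicit false
set_option linter.unusedVariables false
set_option linter.unusedSectionVars false
set_option linter.unusedSimpArgs false

namespace Cfsg.Agent.Lib.Helper66_S92

open Cfsg.Agent.Lib.Helper5_SteinbergA Cfsg.Agent.Lib.Helper66_StCalc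

section model

variable {ι : Type*} [Fintype ι] [DecidableEq ι] {κ : Type*} [Fintype κ] [DecidableEq κ]
  {K : Type*} [Field K]

theorem h5ma_J_apply (x y : ι ⊕ ι) :
    Matrix.J ι K x y = if y = ng x then om K x else 0 := by
  cases x <;> cases y <;> simp [Matrix.J, Matrix.one_apply, eq_comm]
  split_ifs <;> simp

theorem h5ma_single_mul_J (a b : ι ⊕ ι) (τ : K) :
    Matrix.single a b τ * Matrix.J ι K = Matrix.single a (ng b) (τ * om K b) := by
  ext i j
  by_cases hi : i = a
  · subst hi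
    rw [Matrix.single_mul_apply_same, h5ma_J_apply]
    by_cases hj : j = ng b
    · subst hj
      rw [if_pos rfl, Matrix.single_apply_same]
    · rw [if_neg hj, mul_zero, Matrix.single_apply_of_col_ne _ _ (Ne.symm hj)]
  · rw [Matrix.single_mul_apply_of_ne _ _ _ _ _ hi, Matrix.single_apply_of_row_ne (Ne.symm hi)]

theorem h5ma_J_mul_single (a b : ι ⊕ ι) (τ : K) :
    Matrix.J ι K * Matrix.single a b τ = Matrix.single (ng a) b (om K (ng a) * τ) := by
  ext i j
  by_cases hj : j = b
  · subst hj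
    rw [Matrix.mul_single_apply_same, h5ma_J_apply]
    by_cases hi : i = ng a
    · subst hi
      rw [ng_ng, if_pos rfl, Matrix.single_apply_same]
    · have : ¬ a = ng i := fun h => hi (by rw [h, ng_ng])
      rw [if_neg this, zero_mul, Matrix.single_apply_of_row_ne (Ne.symm hi)]
  · rw [Matrix.mul_single_apply_of_ne _ _ _ _ _ hj, Matrix.single_apply_of_col_ne _ _ (Ne.symm hj)]


/-- `1 - N` is symplectic when `N J + J Nᵀ = N J Nᵀ` -/
theorem h5ma_mem_of_nil (N : Matrix (ι ⊕ ι) (ι ⊕ ι) K)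
    (h : N * Matrix.J ι K + Matrix.J ι K * N.transpose = N * Matrix.J ι K * N.transpose) :
    1 - N ∈ Matrix.symplecticGroup ι K := by
  rw [SymplecticGroup.mem_iff, Matrix.transpose_sub, Matrix.transpose_one]
  calc (1 - N) * Matrix.J ι K * (1 - N.transpose)
      = Matrix.J ι K - (N * Matrix.J ι K + Matrix.J ι K * N.transpose)
        + N * Matrix.J ι K * N.transpose := by noncomm_ring
    _ = Matrix.J ι K := by rw [h]; abel

/-- the nilpotent part of `XMat` -/
def h5ma_N (a c : ι ⊕ ι) (t : K) : Matrix (ι ⊕ ι) (ι ⊕ ι) K :=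
  if c = ng a then 0
  else if a = c then Matrix.single a (ng a) (t * om K a)
  else Matrix.single c (ng a) (t * om K a) + Matrix.single a (ng c) (t * om K c)

theorem h5ma_XMat_eq (a c : ι ⊕ ι) (t : K) : XMat a c t = 1 - h5ma_N a c t := by
  unfold XMat h5ma_N
  split_ifs
  · rw [sub_zero]
  · rfl
  · rw [sub_sub]

theorem XMat_mem (a c : ι ⊕ ι) (t : K) : XMat a c t ∈ Matrix.symplecticGroup ι K := by
  rw [h5ma_XMat_eq]
  apply h5ma_mem_of_nil
  unfold h5ma_N
  split_ifs with h1 h2
  · simp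
  · subst h2
    rw [Matrix.transpose_single, h5ma_single_mul_J, h5ma_J_mul_single, ng_ng,
      Matrix.single_mul_single_of_ne _ _ _ _ (ne_ng a), ← Matrix.single_add]
    have : t * om K a * om K (ng a) + om K a * (t * om K a) = 0 := by
      rw [om_ng]; ring
    rw [this, Matrix.single_zero]
  · have h3 : a ≠ ng c := fun h => h1 (by rw [h, ng_ng])
    rw [Matrix.transpose_add, Matrix.transpose_single, Matrix.transpose_single, add_mul, mul_add,
      h5ma_single_mul_J, h5ma_single_mul_J, h5ma_J_mul_single, h5ma_J_mul_single, ng_ng, ng_ng,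
      add_mul, mul_add, mul_add]
    simp only [Matrix.single_mul_single_of_ne _ _ _ _ (ne_ng a),
      Matrix.single_mul_single_of_ne _ _ _ _ h3,
      Matrix.single_mul_single_of_ne _ _ _ _ h1,
      Matrix.single_mul_single_of_ne _ _ _ _ (ne_ng c), add_zero, om_ng]
    have e1 : t * om K a * -om K a = -t := by
      rw [mul_neg, mul_assoc, om_mul_self, mul_one]
    have e2 : t * om K c * -om K c = -t := by
      rw [mul_neg, mul_assoc, om_mul_self, mul_one]
    have e3 : om K a * (t * om K a) = t := by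
      rw [mul_comm, mul_assoc, om_mul_self, mul_one]
    have e4 : om K c * (t * om K c) = t := by
      rw [mul_comm, mul_assoc, om_mul_self, mul_one]
    rw [e1, e2, e3, e4, ← Matrix.single_neg, ← Matrix.single_neg]
    abel

theorem XM_coe (a c : ι ⊕ ι) (t : K) :
    (XM ι K a c t : Matrix (ι ⊕ ι) (ι ⊕ ι) K) = XMat a c t := by
  unfold XM
  rw [dif_pos (XMat_mem a c t)]

theorem XMat_mulVec (a c : ι ⊕ ι) (t : K) (v : ι ⊕ ι → K) :
    Matrix.mulVec (XMat a c t) v = xact a c t v := by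
  unfold XMat xact
  split_ifs with h1 h2
  · rw [Matrix.one_mulVec]
  · rw [Matrix.sub_mulVec, Matrix.one_mulVec, Matrix.single_mulVec]
    rfl
  · rw [Matrix.sub_mulVec, Matrix.sub_mulVec, Matrix.one_mulVec, Matrix.single_mulVec,
      Matrix.single_mulVec]
    rfl

theorem isAct_XM : IsAct (XM ι K) (actM ι K) := by
  intro a c t v
  show Matrix.toLin' (XM ι K a c t : Matrix (ι ⊕ ι) (ι ⊕ ι) K) v = xact a c t v
  rw [XM_coe, Matrix.toLin'_apply, XMat_mulVec]

theorem actM_injective : Function.Injective (actM ι K) := by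
  intro A B h
  apply Subtype.ext
  exact Matrix.toLin'.injective h

theorem h5ma_N_add (a c : ι ⊕ ι) (t u : K) :
    h5ma_N a c t + h5ma_N a c u = h5ma_N a c (t + u) := by
  unfold h5ma_N
  split_ifs with h1 h2
  · rw [add_zero]
  · rw [← Matrix.single_add, add_mul]
  · rw [add_add_add_comm, ← Matrix.single_add, ← Matrix.single_add, add_mul, add_mul]

theorem h5ma_N_mul (a c d e : ι ⊕ ι) (t u : K) (h1 : d ≠ ng a) (h2 : d ≠ ng c) (h3 : e ≠ ng a)
    (h4 : e ≠ ng c) : h5ma_N a c t * h5ma_N d e u = 0 := by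
  unfold h5ma_N
  split_ifs <;>
  simp only [mul_zero, zero_mul, mul_add, add_mul, add_zero,
    Matrix.single_mul_single_of_ne _ _ _ _ (Ne.symm h1),
    Matrix.single_mul_single_of_ne _ _ _ _ (Ne.symm h2),
    Matrix.single_mul_single_of_ne _ _ _ _ (Ne.symm h3),
    Matrix.single_mul_single_of_ne _ _ _ _ (Ne.symm h4)]

/-- `symm`, `opp`, `add`, `comm` in the model -/
theorem XM_symm (a c : ι ⊕ ι) (t : K) : XM ι K a c t = XM ι K c a t := by
  apply Subtype.ext
  rw [XM_coe, XM_coe]
  unfold XMat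
  by_cases h1 : c = ng a
  · have h1' : a = ng c := by rw [h1, ng_ng]
    rw [if_pos h1, if_pos h1']
  · have h1' : ¬ a = ng c := fun h => h1 (by rw [h, ng_ng])
    by_cases h2 : a = c
    · subst h2; rfl
    · rw [if_neg h1, if_neg h1', if_neg h2, if_neg (Ne.symm h2), sub_right_comm]

theorem XM_opp (a : ι ⊕ ι) (t : K) : XM ι K a (ng a) t = 1 := by
  apply Subtype.ext
  rw [XM_coe]
  unfold XMat
  rw [if_pos rfl]
  rfl

theorem XM_add (a c : ι ⊕ ι) (t u : K) : XM ι K a c t * XM ι K a c u = XM ι K a c (t + u) := by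
  apply Subtype.ext
  rw [Submonoid.coe_mul, XM_coe, XM_coe, XM_coe, h5ma_XMat_eq, h5ma_XMat_eq, h5ma_XMat_eq,
    ← h5ma_N_add]
  have hz : h5ma_N a c t * h5ma_N a c u = 0 := by
    by_cases h1 : c = ng a
    · unfold h5ma_N
      rw [if_pos h1, zero_mul]
    · exact h5ma_N_mul a c a c t u (ne_ng a) (fun h => h1 (by rw [h, ng_ng])) h1 (ne_ng c)
  calc (1 - h5ma_N a c t) * (1 - h5ma_N a c u)
      = 1 - (h5ma_N a c t + h5ma_N a c u) + h5ma_N a c t * h5ma_N a c u := by noncomm_ring
    _ = 1 - (h5ma_N a c t + h5ma_N a c u) := by rw [hz, add_zero]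

theorem XM_comm (a c d e : ι ⊕ ι) (t u : K) (h1 : d ≠ ng a) (h2 : d ≠ ng c) (h3 : e ≠ ng a)
    (h4 : e ≠ ng c) : XM ι K a c t * XM ι K d e u = XM ι K d e u * XM ι K a c t := by
  apply Subtype.ext
  rw [Submonoid.coe_mul, Submonoid.coe_mul, XM_coe, XM_coe, h5ma_XMat_eq, h5ma_XMat_eq]
  have hz1 : h5ma_N a c t * h5ma_N d e u = 0 := h5ma_N_mul a c d e t u h1 h2 h3 h4
  have hz2 : h5ma_N d e u * h5ma_N a c t = 0 :=
    h5ma_N_mul d e a c u t (fun h => h1 (by rw [h, ng_ng])) (fun h => h3 (by rw [h, ng_ng]))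
      (fun h => h2 (by rw [h, ng_ng])) (fun h => h4 (by rw [h, ng_ng]))
  calc (1 - h5ma_N a c t) * (1 - h5ma_N d e u)
      = 1 - h5ma_N a c t - h5ma_N d e u + h5ma_N a c t * h5ma_N d e u := by noncomm_ring
    _ = 1 - h5ma_N d e u - h5ma_N a c t + h5ma_N d e u * h5ma_N a c t := by
        rw [hz1, hz2, sub_right_comm]
    _ = (1 - h5ma_N d e u) * (1 - h5ma_N a c t) := by noncomm_ring

end model

end Cfsg.Agent.Lib.Helper66_S92
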