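import Mathlib
import Cfsg.Agent.Lib.Helper66_S92Rank
import Cfsg.Agent.Lib.Helper66_StCol
import Cfsg.Agent.Lib.Helper5_S92_MODEL_A
import Cfsg.Agent.Lib.Helper5_SpPerfect

/-!
# S2092 package GEN (helper43 for helper66): the root elements `XM a c t` generate `Sp_{2n}(K)`.

The subgroup `H` generated by the `XM a c t` is transitive on nonzero vectors (every vector `v`
with `v (ng a) ≠ 0` is moved to the basis vector `b_a`), the long root elements `XM a a t` are the
symplectic transvections along `b_a`, so `H` contains every symplectic transvection.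
-/

set_option autoImplicit false
set_option linter.unusedVariables false
set_option linter.unusedSectionVars false
set_option linter.unusedSimpArgs false

namespace Cfsg.Agent.Lib.Helper66_S92

open Cfsg.Agent.Lib.Helper5_SteinbergA Cfsg.Agent.Lib.Helper66_StCalc

section h43gen

variable (n : ℕ) (K : Type*) [Field K]

/-- the subgroup generated by the root elements -/
def h43gen_H : Subgroup (Matrix.symplecticGroup (Fin n) K) :=
  Subgroup.closure {g | ∃ a c t, g = XM (Fin n) K a c t}

theorem h43gen_XM_mem (a c : Fin n ⊕ Fin n) (t : K) : XM (Fin n) K a c t ∈ h43gen_H n K :=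
  Subgroup.subset_closure ⟨a, c, t, rfl⟩

theorem h43gen_XM_mulVec (a c : Fin n ⊕ Fin n) (t : K) (v : Fin n ⊕ Fin n → K) :
    Matrix.mulVec (XM (Fin n) K a c t : Matrix (Fin n ⊕ Fin n) (Fin n ⊕ Fin n) K) v
      = xact a c t v := by
  rw [XM_coe, XMat_mulVec]

theorem h43gen_xact_same (a : Fin n ⊕ Fin n) (t : K) (v : Fin n ⊕ Fin n → K) :
    xact a a t v = v - Pi.single a (t * om K a * v (ng a)) := by
  unfold xact
  rw [if_neg (ne_ng a), if_pos rfl]

theorem h43gen_xact_ne (a c : Fin n ⊕ Fin n) (h1 : c ≠ ng a) (h2 : a ≠ c) (t : K)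
    (v : Fin n ⊕ Fin n → K) :
    xact a c t v = v - Pi.single c (t * om K a * v (ng a)) - Pi.single a (t * om K c * v (ng c)) := by
  unfold xact
  rw [if_neg h1, if_neg h2]

/-- the orbit relation of `H` on vectors -/
def h43gen_R (v w : Fin n ⊕ Fin n → K) : Prop :=
  ∃ g ∈ h43gen_H n K,
    Matrix.mulVec (g : Matrix (Fin n ⊕ Fin n) (Fin n ⊕ Fin n) K) v = w

theorem h43gen_R_refl (v : Fin n ⊕ Fin n → K) : h43gen_R n K v v :=
  ⟨1, one_mem _, by rw [Submonoid.coe_one, Matrix.one_mulVec]⟩

theorem h43gen_R_trans {u v w : Fin n ⊕ Fin n → K} (h1 : h43gen_R n K u v)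
    (h2 : h43gen_R n K v w) : h43gen_R n K u w := by
  obtain ⟨g1, hg1, e1⟩ := h1
  obtain ⟨g2, hg2, e2⟩ := h2
  refine ⟨g2 * g1, mul_mem hg2 hg1, ?_⟩
  rw [Submonoid.coe_mul, ← Matrix.mulVec_mulVec, e1, e2]

theorem h43gen_R_symm {v w : Fin n ⊕ Fin n → K} (h : h43gen_R n K v w) : h43gen_R n K w v := by
  obtain ⟨g, hg, e⟩ := h
  refine ⟨g⁻¹, inv_mem hg, ?_⟩
  rw [← e, Matrix.mulVec_mulVec, ← Submonoid.coe_mul, inv_mul_cancel, Submonoid.coe_one,
    Matrix.one_mulVec]

theorem h43gen_R_step (a c : Fin n ⊕ Fin n) (t : K) (v : Fin n ⊕ Fin n → K) :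
    h43gen_R n K v (xact a c t v) :=
  ⟨XM (Fin n) K a c t, h43gen_XM_mem n K a c t, h43gen_XM_mulVec n K a c t v⟩

/-- a vector with nonzero `ng a` coordinate is in the orbit of `b_a` -/
theorem h43gen_claim1 (a : Fin n ⊕ Fin n) (s : Finset (Fin n ⊕ Fin n)) :
    ∀ v : Fin n ⊕ Fin n → K, v (ng a) ≠ 0 →
      (∀ c, c ≠ a → c ≠ ng a → v c ≠ 0 → c ∈ s) → h43gen_R n K v (Pi.single a 1) := by
  induction s using Finset.induction_on with
  | empty =>
    intro v hv hs
    have hsupp : ∀ c, c ≠ a → c ≠ ng a → v c = 0 := fun c h1 h2 => by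
      by_contra h3
      exact absurd (hs c h1 h2 h3) (Finset.notMem_empty c)
    have hna : ng a ≠ a := ng_ne a
    have e2 : xact (ng a) (ng a) (v (ng a) * om K (ng a))
        (xact a a ((v a - 1) * om K a / v (ng a)) v) = Pi.single a 1 := by
      rw [h43gen_xact_same, h43gen_xact_same, ng_ng]
      funext c
      by_cases hca : c = a
      · subst hca
        have : (v c - 1) * om K c / v (ng c) * om K c * v (ng c) = v c - 1 := by
          rw [div_mul_eq_mul_div, mul_assoc (v c - 1), om_mul_self, mul_one, div_mul_cancel₀ _ hv]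
        simp only [Pi.sub_apply, Pi.single_apply, if_true, if_neg (ne_ng c), sub_zero, this]
        ring
      · by_cases hcn : c = ng a
        · subst hcn
          simp only [Pi.sub_apply, Pi.single_apply, if_true, if_neg hna, if_neg hca, sub_zero,
            if_neg hna.symm]
          have : v (ng a) * om K (ng a) * om K (ng a) = v (ng a) := by
            rw [mul_assoc, om_mul_self, mul_one]
          have h1 : (v a - 1) * om K a / v (ng a) * om K a * v (ng a) = v a - 1 := by
            rw [div_mul_eq_mul_div, mul_assoc (v a - 1), om_mul_self, mul_one,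
              div_mul_cancel₀ _ hv]
          rw [h1]
          linear_combination (-1 : K) * this
        · simp only [Pi.sub_apply, Pi.single_apply, if_neg hca, if_neg hcn, sub_zero,
            hsupp c hca hcn]
    have s1 := h43gen_R_step n K a a ((v a - 1) * om K a / v (ng a)) v
    have s2 := h43gen_R_step n K (ng a) (ng a) (v (ng a) * om K (ng a))
      (xact a a ((v a - 1) * om K a / v (ng a)) v)
    rw [e2] at s2
    exact h43gen_R_trans n K s1 s2
  | insert c s hc ih =>
    intro v hv hs
    by_cases hgood : c ≠ a ∧ c ≠ ng a ∧ v c ≠ 0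
    · obtain ⟨hca, hcn, hvc⟩ := hgood
      have hnc : ng a ≠ c := fun h => hcn h.symm
      have hna : ng a ≠ a := ng_ne a
      have s1 := h43gen_R_step n K a c (v c / (om K a * v (ng a))) v
      refine h43gen_R_trans n K s1 (ih _ ?_ ?_)
      · rw [h43gen_xact_ne n K a c hcn (Ne.symm hca)]
        simp only [Pi.sub_apply, Pi.single_apply, if_neg hnc, if_neg hna, sub_zero]
        exact hv
      · intro d hda hdn hd
        rw [h43gen_xact_ne n K a c hcn (Ne.symm hca)] at hd
        simp only [Pi.sub_apply, Pi.single_apply, if_neg hda, sub_zero] at hd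
        by_cases hdc : d = c
        · exfalso
          subst hdc
          apply hd
          rw [if_pos rfl]
          have : v d / (om K a * v (ng a)) * om K a * v (ng a) = v d := by
            rw [mul_assoc, div_mul_cancel₀ _ (mul_ne_zero (om_ne_zero a) hv)]
          rw [this, sub_self]
        · rw [if_neg hdc, sub_zero] at hd
          rcases Finset.mem_insert.mp (hs d hda hdn hd) with h | h
          · exact absurd h hdc
          · exact h
    · refine ih v hv ?_
      intro d hda hdn hd
      rcases Finset.mem_insert.mp (hs d hda hdn hd) with h | h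
      · exfalso
        subst h
        exact hgood ⟨hda, hdn, hd⟩
      · exact h

/-- the long root elements are the symplectic transvections along the basis vectors -/
theorem h43gen_XM_eq_transv (a : Fin n ⊕ Fin n) (t : K) :
    XM (Fin n) K a a t = Cfsg.Agent.Lib.Helper13_SympTrans.transv n (Pi.single a 1) t := by
  apply Subtype.ext
  apply Matrix.mulVec_injective
  funext v
  rw [h43gen_XM_mulVec, Cfsg.Agent.Lib.Helper13_SympTrans.transv_mulVec, h43gen_xact_same]
  have hf : Cfsg.sympForm n K v (Pi.single a 1) = -(om K a * v (ng a)) := by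
    unfold Cfsg.sympForm
    rw [Matrix.mulVec_single_one]
    simp only [dotProduct, Matrix.col_apply, h5ma_J_apply]
    rw [Finset.sum_eq_single (ng a)]
    · rw [ng_ng, if_pos rfl, om_ng]; ring
    · intro b _ hb
      have : a ≠ ng b := fun h => hb (by rw [h, ng_ng])
      rw [if_neg this, mul_zero]
    · intro h; exact absurd (Finset.mem_univ _) h
  rw [hf]
  funext c
  simp only [Pi.sub_apply, Pi.add_apply, Pi.smul_apply, Pi.single_apply, smul_eq_mul]
  split_ifs <;> ring

end h43gen

theorem XM_closure (n : ℕ) (K : Type*) [Field K] :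
    Subgroup.closure {g | ∃ a c t, g = XM (Fin n) K a c t} = ⊤ := by
  rw [eq_top_iff, ← Cfsg.Agent.S0765.result n, Subgroup.closure_le]
  rintro A ⟨w, c, hA⟩
  have hA' : A = Cfsg.Agent.Lib.Helper13_SympTrans.transv n w c := Subtype.ext hA
  rw [hA']
  show Cfsg.Agent.Lib.Helper13_SympTrans.transv n w c ∈ h43gen_H n K
  by_cases hw : w = 0
  · have : Cfsg.Agent.Lib.Helper13_SympTrans.transv n (0 : Fin n ⊕ Fin n → K) c = 1 := by
      apply Subtype.ext
      show Cfsg.sympTransvection n 0 c = 1
      simp [Cfsg.sympTransvection]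
    rw [hw, this]
    exact one_mem _
  · obtain ⟨d, hd⟩ : ∃ d, w d ≠ 0 := by
      by_contra h
      push Not at h
      exact hw (funext h)
    have h1 : h43gen_R n K w (Pi.single (ng d) 1) :=
      h43gen_claim1 n K (ng d) Finset.univ w (by rwa [ng_ng]) (fun c _ _ _ => Finset.mem_univ c)
    obtain ⟨g, hg, e⟩ := h43gen_R_symm n K h1
    rw [← e, ← Cfsg.Agent.Lib.Helper5_SpPerfect.conj_transv, ← h43gen_XM_eq_transv]
    exact mul_mem (mul_mem hg (h43gen_XM_mem n K _ _ _)) (inv_mem hg)

end Cfsg.Agent.Lib.Helper66_S92
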