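import Cfsg.Agent.Lib.Helper43_GUCent4

set_option autoImplicit false

/-!
The symplectic model on the index type of a Jordan type matrix: a pairing of the blocks gives a
signed exchange matrix `Om` (invertible, antisymmetric) for which the nilpotent part `N0` is
skew-adjoint; the adjoint `tauS` and its behaviour on the head blocks of the commutant of `N0`.
-/

namespace Cfsg.Agent.Lib.Helper43_SpCent

open Matrix Module
open Cfsg.Agent.Lib.Helper43_Jordan Cfsg.Agent.Lib.Helper43_UnipCent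
open Cfsg.Agent.Lib.Helper43_GUCent

/-- a pairing of the blocks: an involution of the blocks preserving sizes, with signs -/
structure Pairing {t : ℕ} (d : Fin t → ℕ) (F : Type*) [Field F] where
  θ : Fin t → Fin t
  s : Fin t → F
  θθ : ∀ k, θ (θ k) = k
  dθ : ∀ k, d (θ k) = d k
  sθ : ∀ k, s (θ k) = (-1) ^ (d k) * s k
  s_ne : ∀ k, s k ≠ 0

section model

variable {F : Type*} [Field F] {t : ℕ} {d : Fin t → ℕ} (P : Pairing d F)

/-- reversal of the position inside each block combined with the pairing -/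
def flipθ (x : Idx d) : Idx d :=
  ⟨P.θ x.1, ⟨d x.1 - 1 - x.2, by rw [P.dθ]; have := x.2.2; omega⟩⟩

theorem flipθ_fst (x : Idx d) : (flipθ P x).1 = P.θ x.1 := rfl

theorem flipθ_snd (x : Idx d) : ((flipθ P x).2 : ℕ) = d x.1 - 1 - x.2 := rfl

theorem flipθ_flipθ (x : Idx d) : flipθ P (flipθ P x) = x := by
  obtain ⟨k, i⟩ := x
  have h1 : (flipθ P (flipθ P ⟨k, i⟩)).1 = k := by
    rw [flipθ_fst, flipθ_fst, P.θθ]
  have h2 : ((flipθ P (flipθ P ⟨k, i⟩)).2 : ℕ) = i := by
    rw [flipθ_snd, flipθ_snd, flipθ_fst]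
    simp only
    rw [P.dθ]
    have := i.2
    omega
  generalize flipθ P (flipθ P ⟨k, i⟩) = z at h1 h2
  obtain ⟨k', i'⟩ := z
  simp only at h1 h2
  subst h1
  congr 1
  exact Fin.ext h2

theorem flipθ_eq_iff (x y : Idx d) : y = flipθ P x ↔ x = flipθ P y := by
  constructor
  · intro h
    rw [h, flipθ_flipθ]
  · intro h
    rw [h, flipθ_flipθ]

/-- the weight of a position -/
def wt (x : Idx d) : F := (-1) ^ (x.2 : ℕ) * P.s x.1

theorem wt_ne_zero (x : Idx d) : wt P x ≠ 0 := by
  unfold wt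
  exact mul_ne_zero (pow_ne_zero _ (neg_ne_zero.2 one_ne_zero)) (P.s_ne _)

theorem wt_flipθ (x : Idx d) : wt P (flipθ P x) = -wt P x := by
  unfold wt flipθ
  simp only
  rw [P.sθ, ← mul_assoc, ← pow_add]
  have hx := x.2.2
  have h1 : d x.1 - 1 - (x.2 : ℕ) + d x.1 = 2 * (d x.1 - 1 - (x.2 : ℕ)) + ((x.2 : ℕ) + 1) := by
    omega
  rw [h1, pow_add, pow_mul, neg_one_sq, one_pow, one_mul, pow_succ]
  ring

/-- the signed exchange matrix -/
def Om : Matrix (Idx d) (Idx d) F := Matrix.of fun y x => if x = flipθ P y then wt P y else 0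

/-- the inverse of the signed exchange matrix -/
def Omi : Matrix (Idx d) (Idx d) F :=
  Matrix.of fun x z => if x = flipθ P z then (wt P z)⁻¹ else 0

theorem Om_apply (y x : Idx d) : Om P y x = if x = flipθ P y then wt P y else 0 := rfl

theorem Omi_apply (x z : Idx d) : Omi P x z = if x = flipθ P z then (wt P z)⁻¹ else 0 := rfl

theorem Om_mul_apply (M : Matrix (Idx d) (Idx d) F) (y z : Idx d) :
    (Om P * M) y z = wt P y * M (flipθ P y) z := by
  rw [Matrix.mul_apply, Finset.sum_eq_single (flipθ P y)]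
  · rw [Om_apply, if_pos rfl]
  · intro x _ hx
    rw [Om_apply, if_neg hx, zero_mul]
  · intro h
    exact absurd (Finset.mem_univ _) h

theorem mul_Om_apply (M : Matrix (Idx d) (Idx d) F) (y x : Idx d) :
    (M * Om P) y x = M y (flipθ P x) * wt P (flipθ P x) := by
  rw [Matrix.mul_apply, Finset.sum_eq_single (flipθ P x)]
  · rw [Om_apply, flipθ_flipθ, if_pos rfl]
  · intro b _ hb
    rw [Om_apply, if_neg, mul_zero]
    intro h
    exact hb ((flipθ_eq_iff P b x).1 h)
  · intro h
    exact absurd (Finset.mem_univ _) h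

theorem Omi_mul_apply (M : Matrix (Idx d) (Idx d) F) (y z : Idx d) :
    (Omi P * M) y z = (wt P (flipθ P y))⁻¹ * M (flipθ P y) z := by
  rw [Matrix.mul_apply, Finset.sum_eq_single (flipθ P y)]
  · rw [Omi_apply, flipθ_flipθ, if_pos rfl]
  · intro a _ ha
    rw [Omi_apply, if_neg, zero_mul]
    intro h
    exact ha ((flipθ_eq_iff P a y).1 h)
  · intro h
    exact absurd (Finset.mem_univ _) h

theorem Om_mul_Omi : Om P * Omi P = 1 := by
  ext y z
  rw [Om_mul_apply, Omi_apply, Matrix.one_apply]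
  by_cases h : y = z
  · subst h
    rw [if_pos rfl, if_pos rfl, mul_inv_cancel₀ (wt_ne_zero P y)]
  · rw [if_neg h, if_neg, mul_zero]
    intro h'
    apply h
    rw [← flipθ_flipθ P y, h', flipθ_flipθ]

theorem Omi_mul_Om : Omi P * Om P = 1 := by
  ext y z
  rw [Omi_mul_apply, Om_apply, Matrix.one_apply, flipθ_flipθ]
  by_cases h : y = z
  · subst h
    rw [if_pos rfl, if_pos rfl, inv_mul_cancel₀ (wt_ne_zero P _)]
  · rw [if_neg h, if_neg (fun h' => h h'.symm), mul_zero]

theorem det_Om_ne_zero : (Om P).det ≠ 0 := by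
  intro h
  have := congrArg Matrix.det (Om_mul_Omi P)
  rw [Matrix.det_mul, h, zero_mul, Matrix.det_one] at this
  exact zero_ne_one this

theorem Om_transpose : (Om P)ᵀ = -Om P := by
  ext y x
  rw [Matrix.transpose_apply, Matrix.neg_apply, Om_apply, Om_apply]
  by_cases h : x = flipθ P y
  · rw [if_pos h, if_pos ((flipθ_eq_iff P y x).1 h), h, wt_flipθ]
  · rw [if_neg h, if_neg (fun h' => h ((flipθ_eq_iff P x y).1 h')), neg_zero]

theorem Om_diag (h2 : (2 : F) ≠ 0) (x : Idx d) : Om P x x = 0 := by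
  have h := congrFun (congrFun (Om_transpose P) x) x
  rw [Matrix.transpose_apply, Matrix.neg_apply] at h
  have h3 : (2 : F) * Om P x x = 0 := by
    rw [two_mul]
    nth_rewrite 1 [h]
    exact neg_add_cancel _
  rcases mul_eq_zero.1 h3 with h4 | h4
  · exact absurd h4 h2
  · exact h4

/-- the adjoint with respect to the signed exchange matrix -/
def tauS (X : Matrix (Idx d) (Idx d) F) : Matrix (Idx d) (Idx d) F := Omi P * Xᵀ * Om P

theorem tauS_apply (X : Matrix (Idx d) (Idx d) F) (y x : Idx d) :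
    tauS P X y x = (wt P y)⁻¹ * wt P x * X (flipθ P x) (flipθ P y) := by
  unfold tauS
  rw [mul_Om_apply, Omi_mul_apply, Matrix.transpose_apply, wt_flipθ, wt_flipθ]
  have := wt_ne_zero P y
  field_simp

theorem tauS_add (X Y : Matrix (Idx d) (Idx d) F) : tauS P (X + Y) = tauS P X + tauS P Y := by
  unfold tauS
  rw [Matrix.transpose_add, Matrix.mul_add, Matrix.add_mul]

theorem tauS_zero : tauS P (0 : Matrix (Idx d) (Idx d) F) = 0 := by
  unfold tauS
  rw [Matrix.transpose_zero, Matrix.mul_zero, Matrix.zero_mul]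

theorem tauS_neg (X : Matrix (Idx d) (Idx d) F) : tauS P (-X) = -tauS P X := by
  unfold tauS
  rw [Matrix.transpose_neg, Matrix.mul_neg, Matrix.neg_mul]

theorem tauS_sub (X Y : Matrix (Idx d) (Idx d) F) : tauS P (X - Y) = tauS P X - tauS P Y := by
  rw [sub_eq_add_neg, tauS_add, tauS_neg, ← sub_eq_add_neg]

theorem tauS_smul (c : F) (X : Matrix (Idx d) (Idx d) F) : tauS P (c • X) = c • tauS P X := by
  unfold tauS
  rw [Matrix.transpose_smul, Matrix.mul_smul, Matrix.smul_mul]

theorem tauS_mul (X Y : Matrix (Idx d) (Idx d) F) : tauS P (X * Y) = tauS P Y * tauS P X := by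
  unfold tauS
  rw [Matrix.transpose_mul]
  calc Omi P * (Yᵀ * Xᵀ) * Om P = Omi P * Yᵀ * 1 * Xᵀ * Om P := by
        rw [Matrix.mul_one]; simp only [Matrix.mul_assoc]
    _ = Omi P * Yᵀ * Om P * (Omi P * Xᵀ * Om P) := by
        rw [← Om_mul_Omi P]; simp only [Matrix.mul_assoc]

theorem tauS_one : tauS P (1 : Matrix (Idx d) (Idx d) F) = 1 := by
  unfold tauS
  rw [Matrix.transpose_one, Matrix.mul_one, Omi_mul_Om]

theorem tauS_tauS (X : Matrix (Idx d) (Idx d) F) : tauS P (tauS P X) = X := by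
  ext y x
  rw [tauS_apply, tauS_apply, flipθ_flipθ, flipθ_flipθ, wt_flipθ, wt_flipθ]
  have h1 := wt_ne_zero P y
  have h2 := wt_ne_zero P x
  field_simp

theorem det_tauS (X : Matrix (Idx d) (Idx d) F) : (tauS P X).det = X.det := by
  unfold tauS
  rw [Matrix.det_mul, Matrix.det_mul, Matrix.det_transpose, mul_comm, ← mul_assoc,
    ← Matrix.det_mul, Om_mul_Omi, Matrix.det_one, one_mul]

theorem tauS_N0 : tauS P (N0 d F) = -N0 d F := by
  ext y x
  rw [tauS_apply, Matrix.neg_apply, N0_apply, N0_apply]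
  obtain ⟨k, i⟩ := x
  obtain ⟨l, j⟩ := y
  have e1 : (flipθ P ⟨k, i⟩).1 = P.θ k := rfl
  have e2 : (flipθ P ⟨l, j⟩).1 = P.θ l := rfl
  have e3 : ((flipθ P ⟨k, i⟩).2 : ℕ) = d k - 1 - i := rfl
  have e4 : ((flipθ P ⟨l, j⟩).2 : ℕ) = d l - 1 - j := rfl
  simp only [e1, e2, e3, e4]
  by_cases hkl : k = l
  · subst hkl
    have hi := i.2
    have hj := j.2
    by_cases h : (j : ℕ) = (i : ℕ) + 1
    · rw [if_pos ⟨rfl, by omega⟩, if_pos ⟨rfl, h⟩, mul_one]
      unfold wt
      simp only
      rw [h, pow_succ]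
      have h1 := P.s_ne k
      have h2 : ((-1 : F)) ^ (i : ℕ) ≠ 0 := pow_ne_zero _ (neg_ne_zero.2 one_ne_zero)
      field_simp
    · rw [if_neg (fun h' => h (by have := h'.2; omega)), if_neg (fun h' => h h'.2), mul_zero,
        neg_zero]
  · have hθ : P.θ k ≠ P.θ l := by
      intro h
      apply hkl
      rw [← P.θθ k, h, P.θθ]
    rw [if_neg (fun h' => hθ h'.1), if_neg (fun h' => hkl h'.1.symm), mul_zero, neg_zero]

theorem comm_tauS (c : Matrix (Idx d) (Idx d) F) (hc : c * N0 d F = N0 d F * c) :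
    tauS P c * N0 d F = N0 d F * tauS P c := by
  have h1 : tauS P c * (-N0 d F) = tauS P (N0 d F * c) := by
    rw [tauS_mul, tauS_N0]
  have h2 : (-N0 d F) * tauS P c = tauS P (c * N0 d F) := by
    rw [tauS_mul, tauS_N0]
  have h3 : tauS P c * (-N0 d F) = (-N0 d F) * tauS P c := by rw [h1, h2, hc]
  rw [Matrix.mul_neg, Matrix.neg_mul, neg_inj] at h3
  exact h3

end model

end Cfsg.Agent.Lib.Helper43_SpCent
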