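import Cfsg.Agent.Lib.Helper43_SpCent1

set_option autoImplicit false

/-!
The head blocks of the commutant of `N0` in the symplectic model: multiplicativity of the head
block map, and its compatibility with the adjoint `tauS` through the matrices `Gm` (symmetric for
even block sizes, antisymmetric for odd block sizes).
-/

namespace Cfsg.Agent.Lib.Helper43_SpCent

open Matrix Module
open Cfsg.Agent.Lib.Helper43_Jordan Cfsg.Agent.Lib.Helper43_UnipCent
open Cfsg.Agent.Lib.Helper43_GUCent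

section ext

variable {t : ℕ} {d : Fin t → ℕ}

theorem Idx_ext (x y : Idx d) (h1 : x.1 = y.1) (h2 : (x.2 : ℕ) = (y.2 : ℕ)) : x = y := by
  obtain ⟨k, i⟩ := x
  obtain ⟨l, j⟩ := y
  simp only at h1 h2
  subst h1
  congr 1
  exact Fin.ext h2

end ext

section mult

variable {F : Type*} [Field F] {t : ℕ} (d : Fin t → ℕ)

theorem hpi_one (hd : ∀ k, 1 ≤ d k) (a : BlockIdx d) :
    hpi d hd (1 : Matrix (Idx d) (Idx d) F) a = 1 := by
  ext i j
  rw [hpi_apply, Matrix.one_apply, Matrix.one_apply]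
  by_cases h : i = j
  · rw [if_pos h, if_pos (by rw [h])]
  · rw [if_neg h, if_neg]
    intro h'
    exact h (Subtype.ext (zidx_injective hd h'))

/-- the head block map is multiplicative on the commutant -/
theorem hpi_mul (hd : ∀ k, 1 ≤ d k) (c c' : Matrix (Idx d) (Idx d) F)
    (hc : c * N0 d F = N0 d F * c) (hc' : c' * N0 d F = N0 d F * c') (a : BlockIdx d) :
    hpi d hd (c * c') a = hpi d hd c a * hpi d hd c' a := by
  classical
  have hb := hbLin (K := F) d
  have h1 := Tmat_mul hb hd (toLin'_comm d c hc) (toLin'_comm d c' hc')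
  rw [Module.End.mul_eq_comp, ← Matrix.toLin'_mul] at h1
  have hT : ∀ (x : Matrix (Idx d) (Idx d) F) (l k : Fin t),
      Tmat (Pi.basisFun F (Idx d)) hd
        (heads (Pi.basisFun F (Idx d)) hd (Matrix.toLin' x : End F (Idx d → F))) l k =
        x (zidx hd l) (zidx hd k) := by
    intro x l k
    rw [Tmat_apply, topc_basisFun, heads_toLin']
  have htri : ∀ (x : Matrix (Idx d) (Idx d) F), x * N0 d F = N0 d F * x → ∀ l k : Fin t,
      d k < d l → x (zidx hd l) (zidx hd k) = 0 := by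
    intro x hx l k hlk
    have := blockTriangular_Tmat hb hd (Phi d hd ⟨x, hx⟩) hlk
    rw [Tmat_Phi, hT] at this
    exact this
  ext i j
  rw [hpi_apply]
  have h2 : (c * c') (zidx hd i.1) (zidx hd j.1) =
      ∑ k, c (zidx hd i.1) (zidx hd k) * c' (zidx hd k) (zidx hd j.1) := by
    rw [← hT (c * c'), h1, Matrix.mul_apply]
    apply Finset.sum_congr rfl
    intro k _
    rw [hT, hT]
  rw [h2, Matrix.mul_apply]
  -- restrict the sum to the block
  have h3 : ∑ k : BlockFib d a.1, hpi d hd c a i k * hpi d hd c' a k j =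
      ∑ k ∈ Finset.univ.filter (fun k : Fin t => d k = a.1),
        c (zidx hd i.1) (zidx hd k) * c' (zidx hd k) (zidx hd j.1) :=
    (Finset.sum_subtype (Finset.univ.filter (fun k : Fin t => d k = a.1))
      (fun k => by simp) (fun k => c (zidx hd i.1) (zidx hd k) * c' (zidx hd k) (zidx hd j.1))).symm
  rw [h3, Finset.sum_filter]
  apply Finset.sum_congr rfl
  intro k _
  by_cases hk : d k = a.1
  · rw [if_pos hk]
  · rw [if_neg hk]
    rcases Nat.lt_or_gt_of_ne hk with hlt | hgt
    · have : c (zidx hd i.1) (zidx hd k) = 0 := htri c hc i.1 k (by rw [i.2]; exact hlt)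
      rw [this, zero_mul]
    · have : c' (zidx hd k) (zidx hd j.1) = 0 := htri c' hc' k j.1 (by rw [j.2]; exact hgt)
      rw [this, mul_zero]

end mult

section gram

variable {F : Type*} [Field F] {t : ℕ} {d : Fin t → ℕ} (P : Pairing d F)

/-- the pairing restricted to the blocks of a given size -/
def θF (a : ℕ) (l : BlockFib d a) : BlockFib d a := ⟨P.θ l.1, by rw [P.dθ]; exact l.2⟩

theorem θF_θF (a : ℕ) (l : BlockFib d a) : θF P a (θF P a l) = l :=
  Subtype.ext (P.θθ l.1)

/-- the Gram matrix of the induced form on the head block of size `a` -/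
def Gm (a : ℕ) : Matrix (BlockFib d a) (BlockFib d a) F :=
  Matrix.of fun l j => if j = θF P a l then P.s (P.θ l.1) else 0

/-- the inverse of the Gram matrix -/
def Gmi (a : ℕ) : Matrix (BlockFib d a) (BlockFib d a) F :=
  Matrix.of fun i k => if i = θF P a k then (P.s (P.θ k.1))⁻¹ else 0

theorem Gm_apply (a : ℕ) (l j : BlockFib d a) :
    Gm P a l j = if j = θF P a l then P.s (P.θ l.1) else 0 := rfl

theorem Gm_mul_apply (a : ℕ) (M : Matrix (BlockFib d a) (BlockFib d a) F) (l j : BlockFib d a) :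
    (Gm P a * M) l j = P.s (P.θ l.1) * M (θF P a l) j := by
  rw [Matrix.mul_apply, Finset.sum_eq_single (θF P a l)]
  · rw [Gm_apply, if_pos rfl]
  · intro x _ hx
    rw [Gm_apply, if_neg hx, zero_mul]
  · intro h
    exact absurd (Finset.mem_univ _) h

theorem mul_Gm_apply (a : ℕ) (M : Matrix (BlockFib d a) (BlockFib d a) F) (l j : BlockFib d a) :
    (M * Gm P a) l j = M l (θF P a j) * P.s j.1 := by
  rw [Matrix.mul_apply, Finset.sum_eq_single (θF P a j)]
  · rw [Gm_apply, θF_θF, if_pos rfl]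
    show _ * P.s (P.θ (P.θ j.1)) = _
    rw [P.θθ]
  · intro x _ hx
    rw [Gm_apply, if_neg, mul_zero]
    intro h
    apply hx
    rw [h, θF_θF]
  · intro h
    exact absurd (Finset.mem_univ _) h

theorem Gm_mul_Gmi (a : ℕ) : Gm P a * Gmi P a = 1 := by
  ext l k
  rw [Gm_mul_apply, Matrix.one_apply]
  show _ * (if θF P a l = θF P a k then (P.s (P.θ k.1))⁻¹ else 0) = _
  by_cases h : l = k
  · subst h
    rw [if_pos rfl, if_pos rfl, mul_inv_cancel₀ (P.s_ne _)]
  · rw [if_neg h, if_neg, mul_zero]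
    intro h'
    apply h
    rw [← θF_θF P a l, h', θF_θF]

theorem det_Gm_ne_zero (a : ℕ) : (Gm P a).det ≠ 0 := by
  intro h
  have := congrArg Matrix.det (Gm_mul_Gmi P a)
  rw [Matrix.det_mul, h, zero_mul, Matrix.det_one] at this
  exact zero_ne_one this

theorem Gm_transpose (a : ℕ) : (Gm P a)ᵀ = (-1 : F) ^ a • Gm P a := by
  ext l j
  rw [Matrix.transpose_apply, Matrix.smul_apply, Gm_apply, Gm_apply, smul_eq_mul]
  by_cases h : j = θF P a l
  · have h' : l = θF P a j := by rw [h, θF_θF]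
    rw [if_pos h, if_pos h']
    have e1 : P.s (P.θ l.1) = (-1) ^ a * P.s l.1 := by rw [P.sθ, l.2]
    have e2 : P.θ j.1 = l.1 := by rw [h]; exact P.θθ l.1
    rw [e1, e2, ← mul_assoc, ← pow_add, ← two_mul, pow_mul, neg_one_sq, one_pow, one_mul]
  · have h' : ¬ l = θF P a j := by
      intro h2
      apply h
      rw [h2, θF_θF]
    rw [if_neg h, if_neg h', mul_zero]

theorem wt_zidx (hd : ∀ k, 1 ≤ d k) (k : Fin t) : wt P (zidx hd k) = P.s k := by
  unfold wt zidx
  simp

/-- compatibility of the head block map with the adjoint -/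
theorem hpi_tauS (hd : ∀ k, 1 ≤ d k) (c : Matrix (Idx d) (Idx d) F)
    (hc : c * N0 d F = N0 d F * c) (a : BlockIdx d) :
    Gm P a.1 * hpi d hd (tauS P c) a = (hpi d hd c a)ᵀ * Gm P a.1 := by
  ext l j
  rw [Gm_mul_apply, mul_Gm_apply, Matrix.transpose_apply, hpi_apply, hpi_apply, tauS_apply,
    wt_zidx, wt_zidx]
  show P.s (P.θ l.1) * ((P.s (P.θ l.1))⁻¹ * P.s j.1 *
    c (flipθ P (zidx hd j.1)) (flipθ P (zidx hd (P.θ l.1)))) =
      c (zidx hd (P.θ j.1)) (zidx hd l.1) * P.s j.1
  have hl := l.2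
  have hj := j.2
  have ha1 : 1 ≤ a.1 := by rw [← l.2]; exact hd l.1
  have key := toeplitz d hd c hc l.1 (P.θ j.1) (a.1 - 1) (by rw [hl]; omega)
    (by rw [P.dθ, hj]; omega)
  have e1 : flipθ P (zidx hd j.1) = ⟨P.θ j.1, ⟨a.1 - 1, by rw [P.dθ, hj]; omega⟩⟩ := by
    apply Idx_ext
    · rfl
    · show d j.1 - 1 - 0 = a.1 - 1
      rw [hj]
      omega
  have e2 : flipθ P (zidx hd (P.θ l.1)) = ⟨l.1, ⟨a.1 - 1, by rw [hl]; omega⟩⟩ := by
    apply Idx_ext
    · exact P.θθ l.1
    · show d (P.θ l.1) - 1 - 0 = a.1 - 1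
      rw [P.dθ, hl]
      omega
  rw [e1, e2, key]
  have := P.s_ne (P.θ l.1)
  field_simp

end gram

end Cfsg.Agent.Lib.Helper43_SpCent
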