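import Cfsg.Agent.Lib.Helper43_SpCent4

set_option autoImplicit false

/-!
The orbits of the commutant of `N0` on its invertible self-adjoint elements (for the action
`h ↦ tauS c * h * c`) are classified by the discriminant classes of the head blocks of even size.
-/

namespace Cfsg.Agent.Lib.Helper43_SpCent

open Matrix Module
open Cfsg.Agent.Lib.Helper43_Jordan Cfsg.Agent.Lib.Helper43_UnipCent
open Cfsg.Agent.Lib.Helper43_GUCent

section gram

variable {F : Type*} [Field F] {t : ℕ} {d : Fin t → ℕ} (P : Pairing d F)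

theorem Gmi_mul_Gm (a : ℕ) : Gmi P a * Gm P a = 1 :=
  mul_eq_one_comm.1 (Gm_mul_Gmi P a)

theorem isUnit_det_Gm (a : ℕ) : IsUnit (Gm P a).det :=
  isUnit_iff_ne_zero.2 (det_Gm_ne_zero P a)

theorem gram_transpose (hd : ∀ k, 1 ≤ d k) (h : Matrix (Idx d) (Idx d) F)
    (hc : h * N0 d F = N0 d F * h) (hs : tauS P h = h) (a : BlockIdx d) :
    (Gm P a.1 * hpi d hd h a)ᵀ = (-1 : F) ^ a.1 • (Gm P a.1 * hpi d hd h a) := by
  have h1 := hpi_tauS P hd h hc a
  rw [hs] at h1
  rw [Matrix.transpose_mul, Gm_transpose, Matrix.mul_smul, h1]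

theorem det_hpi_tauS (hd : ∀ k, 1 ≤ d k) (c : Matrix (Idx d) (Idx d) F)
    (hc : c * N0 d F = N0 d F * c) (a : BlockIdx d) :
    (hpi d hd (tauS P c) a).det = (hpi d hd c a).det := by
  have h1 := congrArg Matrix.det (hpi_tauS P hd c hc a)
  rw [Matrix.det_mul, Matrix.det_mul, Matrix.det_transpose] at h1
  have h2 : (hpi d hd (tauS P c) a).det * (Gm P a.1).det =
      (hpi d hd c a).det * (Gm P a.1).det := by
    rw [← h1, mul_comm]
  exact mul_right_cancel₀ (det_Gm_ne_zero P a.1) h2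

theorem tauS_conj_self (c h : Matrix (Idx d) (Idx d) F) (hs : tauS P h = h) :
    tauS P (tauS P c * h * c) = tauS P c * h * c := by
  rw [tauS_mul, tauS_mul, tauS_tauS, hs, Matrix.mul_assoc]

theorem hpi_conj (hd : ∀ k, 1 ≤ d k) (c h : Matrix (Idx d) (Idx d) F)
    (hcc : c * N0 d F = N0 d F * c) (hc : h * N0 d F = N0 d F * h) (a : BlockIdx d) :
    hpi d hd (tauS P c * h * c) a =
      hpi d hd (tauS P c) a * hpi d hd h a * hpi d hd c a := by
  rw [hpi_mul d hd _ _ (mul_comm_N0 d _ _ (comm_tauS P c hcc) hc) hcc,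
    hpi_mul d hd _ _ (comm_tauS P c hcc) hc]

end gram

section orbit

variable {F : Type*} [Field F] [Fintype F] {t : ℕ} {d : Fin t → ℕ} (P : Pairing d F)

/-- the orbit theorem -/
theorem orbit_iff (p : ℕ) [Fact p.Prime] [CharP F p] (hp : p ≠ 2) (h2 : (2 : F) ≠ 0)
    (hd : ∀ k, 1 ≤ d k) (h h' : Matrix (Idx d) (Idx d) F)
    (hc : h * N0 d F = N0 d F * h) (hs : tauS P h = h) (hdet : h.det ≠ 0)
    (hc' : h' * N0 d F = N0 d F * h') (hs' : tauS P h' = h') (hdet' : h'.det ≠ 0) :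
    (∃ c : Matrix (Idx d) (Idx d) F, c * N0 d F = N0 d F * c ∧ c.det ≠ 0 ∧
        tauS P c * h * c = h') ↔
      ∀ a : BlockIdx d, Even a.1 → IsSquare ((hpi d hd h a).det * (hpi d hd h' a).det) := by
  classical
  constructor
  · rintro ⟨c, hcc, -, rfl⟩ a -
    rw [hpi_conj P hd c h hcc hc, Matrix.det_mul, Matrix.det_mul, det_hpi_tauS P hd c hcc]
    exact ⟨(hpi d hd c a).det * (hpi d hd h a).det, by ring⟩
  · intro hsq
    have hb := (det_ne_zero_iff d hd h hc).1 hdet
    have hb' := (det_ne_zero_iff d hd h' hc').1 hdet'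
    have hex : ∀ a : BlockIdx d, ∃ ca : Matrix (BlockFib d a.1) (BlockFib d a.1) F,
        ca.det ≠ 0 ∧ caᵀ * (Gm P a.1 * hpi d hd h a) * ca = Gm P a.1 * hpi d hd h' a := by
      intro a
      have hY := gram_transpose P hd h hc hs a
      have hY' := gram_transpose P hd h' hc' hs' a
      have hYd : (Gm P a.1 * hpi d hd h a).det ≠ 0 := by
        rw [Matrix.det_mul]
        exact mul_ne_zero (det_Gm_ne_zero P a.1) (hb a)
      have hYd' : (Gm P a.1 * hpi d hd h' a).det ≠ 0 := by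
        rw [Matrix.det_mul]
        exact mul_ne_zero (det_Gm_ne_zero P a.1) (hb' a)
      by_cases hev : Even a.1
      · rw [hev.neg_one_pow, one_smul] at hY hY'
        obtain ⟨r, hr⟩ := hsq a hev
        apply exists_congr_sym h2 _ _ hY hY' hYd hYd'
        rw [Matrix.det_mul, Matrix.det_mul]
        refine ⟨(Gm P a.1).det * r, ?_⟩
        calc (Gm P a.1).det * (hpi d hd h a).det * ((Gm P a.1).det * (hpi d hd h' a).det)
            = (Gm P a.1).det * (Gm P a.1).det *
                ((hpi d hd h a).det * (hpi d hd h' a).det) := by ring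
          _ = (Gm P a.1).det * r * ((Gm P a.1).det * r) := by rw [hr]; ring
      · have hodd : Odd a.1 := Nat.not_even_iff_odd.1 hev
        rw [hodd.neg_one_pow, neg_smul, one_smul] at hY hY'
        obtain ⟨R, Ri, hRRi, -, hR⟩ := exists_congr_alt h2 rfl _ _ hY' hYd' hY hYd
        refine ⟨R, ?_, hR⟩
        intro h0
        have := congrArg Matrix.det hRRi
        rw [Matrix.det_mul, h0, zero_mul, Matrix.det_one] at this
        exact zero_ne_one this
    choose cb hcb1 hcb2 using hex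
    obtain ⟨c, hcc, hcpi⟩ := hpi_surjective (K := F) d hd cb
    have hcdet : c.det ≠ 0 := by
      rw [det_ne_zero_iff d hd c hcc]
      intro a
      rw [hcpi]
      exact hcb1 a
    set h'' : Matrix (Idx d) (Idx d) F := tauS P c * h * c with hh''
    have hc'' : h'' * N0 d F = N0 d F * h'' :=
      mul_comm_N0 d _ _ (mul_comm_N0 d _ _ (comm_tauS P c hcc) hc) hcc
    have hs'' : tauS P h'' = h'' := tauS_conj_self P c h hs
    have hdet'' : h''.det ≠ 0 := by
      rw [hh'', Matrix.det_mul, Matrix.det_mul, det_tauS]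
      exact mul_ne_zero (mul_ne_zero hcdet hdet) hcdet
    have heq : ∀ a, hpi d hd h' a = hpi d hd h'' a := by
      intro a
      apply cancel_left_of_isUnit (Gm P a.1) _ _ (isUnit_det_Gm P a.1)
      rw [hh'', hpi_conj P hd c h hcc hc, ← Matrix.mul_assoc, ← Matrix.mul_assoc,
        hpi_tauS P hd c hcc, hcpi, ← hcb2 a]
      simp only [Matrix.mul_assoc]
    obtain ⟨c1, hc1, hc1det, hc1eq⟩ := lift_orbit P p hp hd h' h'' hc' hc'' hs' hs'' hdet'' heq
    refine ⟨c * c1, mul_comm_N0 d _ _ hcc hc1, ?_, ?_⟩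
    · rw [Matrix.det_mul]
      exact mul_ne_zero hcdet hc1det
    · rw [← hc1eq, hh'', tauS_mul]
      simp only [Matrix.mul_assoc]

end orbit


section realize

variable {F : Type*} [Field F] [Fintype F] {t : ℕ} {d : Fin t → ℕ} (P : Pairing d F)

theorem exists_block (h2 : (2 : F) ≠ 0) (a : BlockIdx d) (δ : Prop) :
    ∃ ha : Matrix (BlockFib d a.1) (BlockFib d a.1) F,
      (Gm P a.1 * ha)ᵀ = Gm P a.1 * ha ∧ ha.det ≠ 0 ∧ (IsSquare ha.det ↔ δ) := by
  classical
  obtain ⟨ν, hν⟩ := FiniteField.exists_nonsquare (F := F)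
    (Cfsg.Agent.Lib.Helper44_FinSq.ringChar_ne_two_of_two_ne_zero h2)
  have hν0 : ν ≠ 0 := by
    rintro rfl
    exact hν ⟨0, by simp⟩
  obtain ⟨k, -, hk⟩ := Finset.mem_image.1 a.2
  let k0 : BlockFib d a.1 := ⟨k, hk⟩
  let x : F := (Gm P a.1).det * (if δ then 1 else ν)
  let D : Matrix (BlockFib d a.1) (BlockFib d a.1) F :=
    Matrix.diagonal (Function.update (fun _ => (1 : F)) k0 x)
  have hdetD : D.det = x := by
    show (Matrix.diagonal (Function.update (fun _ => (1 : F)) k0 x)).det = x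
    rw [Matrix.det_diagonal, Finset.prod_update_of_mem (Finset.mem_univ _)]
    simp
  have hdet : (Gmi P a.1 * D).det = (if δ then 1 else ν) := by
    rw [Matrix.det_mul, hdetD]
    show (Gmi P a.1).det * ((Gm P a.1).det * _) = _
    rw [← mul_assoc, ← Matrix.det_mul, Gmi_mul_Gm, Matrix.det_one, one_mul]
  refine ⟨Gmi P a.1 * D, ?_, ?_, ?_⟩
  · rw [← Matrix.mul_assoc, Gm_mul_Gmi, Matrix.one_mul]
    exact Matrix.diagonal_transpose _
  · rw [hdet]
    split_ifs
    · exact one_ne_zero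
    · exact hν0
  · rw [hdet]
    by_cases hδ : δ
    · rw [if_pos hδ]
      exact ⟨fun _ => hδ, fun _ => ⟨1, by simp⟩⟩
    · rw [if_neg hδ]
      exact ⟨fun h => absurd h hν, fun h => absurd h hδ⟩

/-- every pattern of discriminant classes is realised -/
theorem exists_invariant (h2 : (2 : F) ≠ 0) (hd : ∀ k, 1 ≤ d k) (δ : BlockIdx d → Prop) :
    ∃ h : Matrix (Idx d) (Idx d) F, h * N0 d F = N0 d F * h ∧ tauS P h = h ∧ h.det ≠ 0 ∧
      ∀ a : BlockIdx d, Even a.1 → (IsSquare (hpi d hd h a).det ↔ δ a) := by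
  classical
  have hex : ∀ a : BlockIdx d, ∃ ha : Matrix (BlockFib d a.1) (BlockFib d a.1) F,
      haᵀ * Gm P a.1 = Gm P a.1 * ha ∧ ha.det ≠ 0 ∧ (Even a.1 → (IsSquare ha.det ↔ δ a)) := by
    intro a
    by_cases hev : Even a.1
    · obtain ⟨ha, h1, h2', h3⟩ := exists_block P h2 a (δ a)
      refine ⟨ha, ?_, h2', fun _ => h3⟩
      rw [Matrix.transpose_mul, Gm_transpose, hev.neg_one_pow, one_smul] at h1
      exact h1
    · refine ⟨1, ?_, ?_, fun h => absurd h hev⟩
      · rw [Matrix.transpose_one, Matrix.one_mul, Matrix.mul_one]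
      · rw [Matrix.det_one]
        exact one_ne_zero
  choose hb hb1 hb2 hb3 using hex
  obtain ⟨c0, hc0, hc0pi⟩ := hpi_surjective (K := F) d hd hb
  set h : Matrix (Idx d) (Idx d) F := (2 : F)⁻¹ • (c0 + tauS P c0) with hh
  have hτc : tauS P c0 * N0 d F = N0 d F * tauS P c0 := comm_tauS P c0 hc0
  have hc : h * N0 d F = N0 d F * h := smul_comm_N0 d _ _ (add_comm_N0 d _ _ hc0 hτc)
  have hs : tauS P h = h := by
    rw [hh, tauS_smul, tauS_add, tauS_tauS, add_comm]
  have hpi_h : ∀ a, hpi d hd h a = hb a := by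
    intro a
    have e1 : hpi d hd (tauS P c0) a = hb a := by
      apply cancel_left_of_isUnit (Gm P a.1) _ _ (isUnit_det_Gm P a.1)
      rw [hpi_tauS P hd c0 hc0, hc0pi, hb1]
    rw [hh, hpi_smul, hpi_add, e1, hc0pi, ← two_smul F (hb a), smul_smul, inv_mul_cancel₀ h2,
      one_smul]
  refine ⟨h, hc, hs, ?_, ?_⟩
  · rw [det_ne_zero_iff d hd h hc]
    intro a
    rw [hpi_h]
    exact hb2 a
  · intro a hev
    rw [hpi_h]
    exact hb3 a hev

end realize

end Cfsg.Agent.Lib.Helper43_SpCent
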