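import Mathlib

set_option autoImplicit false

/-!
Counting the classes of a "unitary" subgroup `{x | τ x * x = 1}` of a group with an
anti-automorphic involution `τ` inside a class of the ambient group, through the norms `τ x * x`
of the conjugating elements.
-/

namespace Cfsg.Agent.Lib.Helper43_SpCent

section count

variable {S D : Type*} [Group S]

/-- counting classes by a complete invariant -/
theorem card_classes_of_invariant (Pg : S → Prop) (f : {g : S // Pg g} → D)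
    (hf : ∀ x y : {g : S // Pg g}, IsConj x.1 y.1 ↔ f x = f y) (hsurj : Function.Surjective f) :
    Nat.card {C : ConjClasses S // ∃ g, ConjClasses.mk g = C ∧ Pg g} = Nat.card D := by
  let Φ : {C : ConjClasses S // ∃ g, ConjClasses.mk g = C ∧ Pg g} → D :=
    fun C => f ⟨C.2.choose, C.2.choose_spec.2⟩
  apply Nat.card_eq_of_bijective Φ
  constructor
  · intro C C' h
    have h1 : IsConj C.2.choose C'.2.choose := (hf ⟨_, C.2.choose_spec.2⟩ ⟨_, C'.2.choose_spec.2⟩).2 h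
    rw [← ConjClasses.mk_eq_mk_iff_isConj, C.2.choose_spec.1, C'.2.choose_spec.1] at h1
    exact Subtype.ext h1
  · intro δ
    obtain ⟨x, hx⟩ := hsurj δ
    set C : {C : ConjClasses S // ∃ g, ConjClasses.mk g = C ∧ Pg g} :=
      ⟨ConjClasses.mk x.1, x.1, rfl, x.2⟩ with hC
    refine ⟨C, ?_⟩
    show f ⟨C.2.choose, C.2.choose_spec.2⟩ = δ
    rw [← hx]
    apply (hf _ _).1
    exact ConjClasses.mk_eq_mk_iff_isConj.1 C.2.choose_spec.1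

end count

section norm

variable {G S D : Type*} [Group G] [Group S] (τ : G → G)
  (hτmul : ∀ x y, τ (x * y) = τ y * τ x)

include hτmul

theorem tau_one : τ 1 = 1 := by
  have h := hτmul 1 1
  rw [mul_one] at h
  exact (mul_eq_left.1 h.symm)

theorem tau_inv (x : G) : τ x⁻¹ = (τ x)⁻¹ := by
  rw [eq_inv_iff_mul_eq_one, ← hτmul, mul_inv_cancel, tau_one τ hτmul]

theorem tau_conj (u₀ x : G) (hu₀ : τ u₀ * u₀ = 1) :
    τ (x * u₀ * x⁻¹) = (τ x)⁻¹ * u₀⁻¹ * τ x := by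
  have h1 : τ u₀ = u₀⁻¹ := eq_inv_of_mul_eq_one_left hu₀
  rw [hτmul, hτmul, tau_inv τ hτmul, h1, mul_assoc]

theorem norm_comm (u₀ g x : G) (hu₀ : τ u₀ * u₀ = 1) (hg : τ g * g = 1)
    (hx : x * u₀ * x⁻¹ = g) : (τ x * x) * u₀ = u₀ * (τ x * x) := by
  have h1 : τ g = (τ x)⁻¹ * u₀⁻¹ * τ x := by
    rw [← hx]
    exact tau_conj τ hτmul u₀ x hu₀
  have h2 : g = (τ g)⁻¹ := eq_inv_of_mul_eq_one_right hg
  rw [h1] at h2
  have h3 : x * u₀ = g * x := by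
    rw [← hx]
    group
  rw [mul_assoc, h3, h2]
  group

theorem norm_symm (hττ : ∀ x, τ (τ x) = x) (x : G) : τ (τ x * x) = τ x * x := by
  rw [hτmul, hττ]

variable (ι : S →* G) (hι : Function.Injective ι) (hmem : ∀ s, τ (ι s) * ι s = 1)
  (hrange : ∀ x : G, τ x * x = 1 → ∃ s, ι s = x)

include hι hmem hrange

theorem isConj_iff_norm (u₀ : G) (g g' : S) (x x' : G)
    (hx : x * u₀ * x⁻¹ = ι g) (hx' : x' * u₀ * x'⁻¹ = ι g') :
    IsConj g g' ↔ ∃ c, c * u₀ = u₀ * c ∧ τ c * (τ x * x) * c = τ x' * x' := by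
  constructor
  · intro h
    obtain ⟨s, hs⟩ := isConj_iff.1 h
    have hb : τ (ι s) = (ι s)⁻¹ := eq_inv_of_mul_eq_one_left (hmem s)
    have hs' : ι s * ι g * (ι s)⁻¹ = ι g' := by
      rw [← hs, map_mul, map_mul, map_inv]
    refine ⟨x⁻¹ * (ι s)⁻¹ * x', ?_, ?_⟩
    · have h1 : x⁻¹ * (ι s)⁻¹ * x' * u₀ * (x⁻¹ * (ι s)⁻¹ * x')⁻¹ = u₀ := by
        have h2 : x⁻¹ * (ι s)⁻¹ * x' * u₀ * (x⁻¹ * (ι s)⁻¹ * x')⁻¹ =
            x⁻¹ * ((ι s)⁻¹ * (x' * u₀ * x'⁻¹) * ι s) * x := by group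
        rw [h2, hx', ← hs', ← hx]
        group
      calc x⁻¹ * (ι s)⁻¹ * x' * u₀
          = (x⁻¹ * (ι s)⁻¹ * x' * u₀ * (x⁻¹ * (ι s)⁻¹ * x')⁻¹) * (x⁻¹ * (ι s)⁻¹ * x') := by
            group
        _ = u₀ * (x⁻¹ * (ι s)⁻¹ * x') := by rw [h1]
    · rw [hτmul, hτmul, tau_inv τ hτmul, tau_inv τ hτmul, hb, inv_inv]
      group
  · rintro ⟨c, hc1, hc2⟩
    have hz : τ (x' * c⁻¹ * x⁻¹) * (x' * c⁻¹ * x⁻¹) = 1 := by
      rw [hτmul, hτmul, tau_inv τ hτmul, tau_inv τ hτmul]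
      calc (τ x)⁻¹ * ((τ c)⁻¹ * τ x') * (x' * c⁻¹ * x⁻¹)
          = (τ x)⁻¹ * (τ c)⁻¹ * (τ x' * x') * c⁻¹ * x⁻¹ := by group
        _ = 1 := by
            rw [← hc2]
            group
    obtain ⟨s, hs⟩ := hrange _ hz
    rw [isConj_iff]
    refine ⟨s, ?_⟩
    apply hι
    rw [map_mul, map_mul, map_inv, hs, ← hx, ← hx']
    have h1 : c⁻¹ * u₀ * c = u₀ := by
      rw [mul_assoc, ← hc1]
      group
    calc x' * c⁻¹ * x⁻¹ * (x * u₀ * x⁻¹) * (x' * c⁻¹ * x⁻¹)⁻¹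
        = x' * (c⁻¹ * u₀ * c) * x'⁻¹ := by group
      _ = x' * u₀ * x'⁻¹ := by rw [h1]

/-- the number of classes of the unitary subgroup inside an ambient class -/
theorem card_classes_of_norm (hττ : ∀ x, τ (τ x) = x)
    (hnorm : ∀ h : G, τ h = h → ∃ g, τ g * g = h) (u₀ : G) (hu₀ : τ u₀ * u₀ = 1)
    (inv : G → D)
    (T1 : ∀ h h' : G, h * u₀ = u₀ * h → τ h = h → h' * u₀ = u₀ * h' → τ h' = h' →
      ((∃ c, c * u₀ = u₀ * c ∧ τ c * h * c = h') ↔ inv h = inv h'))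
    (T2 : ∀ δ : D, ∃ h, h * u₀ = u₀ * h ∧ τ h = h ∧ inv h = δ) :
    Nat.card {C : ConjClasses S // ∃ g : S, ConjClasses.mk g = C ∧ IsConj u₀ (ι g)} =
      Nat.card D := by
  let f : {g : S // IsConj u₀ (ι g)} → D := fun g =>
    inv (τ (isConj_iff.1 g.2).choose * (isConj_iff.1 g.2).choose)
  have hfx : ∀ g : {g : S // IsConj u₀ (ι g)},
      (isConj_iff.1 g.2).choose * u₀ * ((isConj_iff.1 g.2).choose)⁻¹ = ι g.1 :=
    fun g => (isConj_iff.1 g.2).choose_spec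
  have key : ∀ (g g' : S) (x x' : G), x * u₀ * x⁻¹ = ι g → x' * u₀ * x'⁻¹ = ι g' →
      (IsConj g g' ↔ inv (τ x * x) = inv (τ x' * x')) := by
    intro g g' x x' hx hx'
    rw [isConj_iff_norm τ hτmul ι hι hmem hrange u₀ g g' x x' hx hx']
    exact T1 _ _ (norm_comm τ hτmul u₀ _ x hu₀ (hmem g) hx) (norm_symm τ hτmul hττ x)
      (norm_comm τ hτmul u₀ _ x' hu₀ (hmem g') hx') (norm_symm τ hτmul hττ x')
  apply card_classes_of_invariant (fun g : S => IsConj u₀ (ι g)) f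
  · intro a b
    exact key a.1 b.1 _ _ (hfx a) (hfx b)
  · intro δ
    obtain ⟨h, hh1, hh2, hh3⟩ := T2 δ
    obtain ⟨g₀, hg₀⟩ := hnorm h hh2
    have hy : τ (g₀ * u₀ * g₀⁻¹) * (g₀ * u₀ * g₀⁻¹) = 1 := by
      rw [tau_conj τ hτmul u₀ g₀ hu₀]
      calc (τ g₀)⁻¹ * u₀⁻¹ * τ g₀ * (g₀ * u₀ * g₀⁻¹)
          = (τ g₀)⁻¹ * u₀⁻¹ * ((τ g₀ * g₀) * u₀) * g₀⁻¹ := by group
        _ = (τ g₀)⁻¹ * u₀⁻¹ * (u₀ * (τ g₀ * g₀)) * g₀⁻¹ := by rw [hg₀, hh1]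
        _ = 1 := by group
    obtain ⟨s, hs⟩ := hrange _ hy
    have hconj : IsConj u₀ (ι s) := isConj_iff.2 ⟨g₀, hs.symm⟩
    refine ⟨⟨s, hconj⟩, ?_⟩
    show inv _ = δ
    rw [← hh3, ← hg₀]
    exact (key s s _ g₀ (hfx ⟨s, hconj⟩) hs.symm).1 (IsConj.refl s)

end norm

end Cfsg.Agent.Lib.Helper43_SpCent
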