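import Cfsg.Agent.Lib.Helper43_SpCent1

set_option autoImplicit false

/-!
Existence of a pairing of the blocks when every odd block size has even multiplicity.
-/

namespace Cfsg.Agent.Lib.Helper43_SpCent

open Matrix Module
open Cfsg.Agent.Lib.Helper43_UnipCent Cfsg.Agent.Lib.Helper43_GUCent

section pairing

variable {F : Type*} [Field F] {t : ℕ} (d : Fin t → ℕ)

/-- a pairing on the blocks of a given size -/
theorem exists_fiber_pairing (j : ℕ)
    (hj : Odd j → Even (Fintype.card (BlockFib d j))) :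
    ∃ (θj : BlockFib d j → BlockFib d j) (sj : BlockFib d j → F),
      (∀ x, θj (θj x) = x) ∧ (∀ x, sj (θj x) = (-1) ^ j * sj x) ∧ ∀ x, sj x ≠ 0 := by
  classical
  rcases Nat.even_or_odd j with hev | hodd
  · refine ⟨id, fun _ => 1, fun _ => rfl, fun _ => ?_, fun _ => one_ne_zero⟩
    rw [hev.neg_one_pow, one_mul]
  · obtain ⟨c, hc⟩ := hj hodd
    have hcard : Fintype.card (BlockFib d j) = Fintype.card (Bool × Fin c) := by
      rw [hc, Fintype.card_prod, Fintype.card_bool, Fintype.card_fin, two_mul]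
    let ε : BlockFib d j ≃ Bool × Fin c := Fintype.equivOfCardEq hcard
    refine ⟨fun x => ε.symm (!(ε x).1, (ε x).2), fun x => if (ε x).1 then 1 else -1, ?_, ?_, ?_⟩
    · intro x
      simp
    · intro x
      rw [hodd.neg_one_pow]
      simp only [Equiv.apply_symm_apply]
      cases (ε x).1 <;> simp
    · intro x
      show (if (ε x).1 = true then (1 : F) else -1) ≠ 0
      split_ifs
      · exact one_ne_zero
      · exact neg_ne_zero.2 one_ne_zero

/-- a pairing of the blocks exists when every odd block size has even multiplicity -/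
theorem exists_pairing
    (heven : ∀ j : ℕ, Odd j → Even (Finset.univ.filter (fun k : Fin t => d k = j)).card) :
    Nonempty (Pairing d F) := by
  classical
  have hex : ∀ j : ℕ, ∃ (θj : BlockFib d j → BlockFib d j) (sj : BlockFib d j → F),
      (∀ x, θj (θj x) = x) ∧ (∀ x, sj (θj x) = (-1) ^ j * sj x) ∧ ∀ x, sj x ≠ 0 := by
    intro j
    apply exists_fiber_pairing
    intro hj
    rw [Fintype.card_subtype]
    exact heven j hj
  choose θj sj h1 h2 h3 using hex
  have hθ_eq : ∀ (k : Fin t) (j : ℕ) (hk : d k = j),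
      (θj (d k) ⟨k, rfl⟩).1 = (θj j ⟨k, hk⟩).1 := by
    intro k j hk
    subst hk
    rfl
  have hs_eq : ∀ (k : Fin t) (j : ℕ) (hk : d k = j), sj (d k) ⟨k, rfl⟩ = sj j ⟨k, hk⟩ := by
    intro k j hk
    subst hk
    rfl
  have hdθ : ∀ k, d (θj (d k) ⟨k, rfl⟩).1 = d k := fun k => (θj (d k) ⟨k, rfl⟩).2
  refine ⟨{
    θ := fun k => (θj (d k) ⟨k, rfl⟩).1
    s := fun k => sj (d k) ⟨k, rfl⟩
    θθ := ?_
    dθ := hdθ
    sθ := ?_
    s_ne := fun k => h3 _ _ }⟩
  · intro k
    show (θj (d (θj (d k) ⟨k, rfl⟩).1) ⟨(θj (d k) ⟨k, rfl⟩).1, rfl⟩).1 = k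
    rw [hθ_eq _ (d k) (hdθ k)]
    have : (⟨(θj (d k) ⟨k, rfl⟩).1, hdθ k⟩ : BlockFib d (d k)) = θj (d k) ⟨k, rfl⟩ :=
      Subtype.ext rfl
    rw [this, h1]
  · intro k
    show sj (d (θj (d k) ⟨k, rfl⟩).1) ⟨(θj (d k) ⟨k, rfl⟩).1, rfl⟩ = _
    rw [hs_eq _ (d k) (hdθ k)]
    have : (⟨(θj (d k) ⟨k, rfl⟩).1, hdθ k⟩ : BlockFib d (d k)) = θj (d k) ⟨k, rfl⟩ :=
      Subtype.ext rfl
    rw [this, h2]

end pairing

end Cfsg.Agent.Lib.Helper43_SpCent
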