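import Cfsg.Agent.Lib.Helper43_SympAdjoint
import Cfsg.Agent.Lib.Helper43_NormSq

set_option autoImplicit false

/-!
The classes of regular unipotent elements of the symplectic group in odd characteristic: the
invariant is the scalar part of the norm `adj g * g` of a conjugating matrix, modulo squares.
-/

namespace Cfsg.Agent.Lib.Helper43_SympRegClasses

open Matrix Module
open Cfsg.Agent.Lib.Helper43_RegNilpotent Cfsg.Agent.Lib.Helper43_RegCommutant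
open Cfsg.Agent.Lib.Helper43_SympAdjoint Cfsg.Agent.Lib.Helper43_NormSq

section conj

variable {F : Type*} [Field F] {ι : Type*} [Fintype ι] [DecidableEq ι]

theorem exists_conj {N N' : Matrix ι ι F} (h : RegNil N) (h' : RegNil N') :
    ∃ g : (Matrix ι ι F)ˣ, (g : Matrix ι ι F) * N = N' * (g : Matrix ι ι F) := by
  obtain ⟨e, he⟩ := exists_equiv_conj (toE N) (toE N') h.nil' h.ker' h'.nil' h'.ker' h.pos'
  have hdet : (LinearMap.toMatrix' (e : (ι → F) →ₗ[F] (ι → F))).det ≠ 0 := by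
    rw [LinearMap.det_toMatrix']
    exact (LinearEquiv.isUnit_det' e).ne_zero
  refine ⟨Matrix.GeneralLinearGroup.mkOfDetNeZero _ hdet, ?_⟩
  show LinearMap.toMatrix' (e : (ι → F) →ₗ[F] (ι → F)) * N
    = N' * LinearMap.toMatrix' (e : (ι → F) →ₗ[F] (ι → F))
  apply Matrix.toLin'.injective
  apply LinearMap.ext
  intro x
  rw [Matrix.toLin'_mul, Matrix.toLin'_mul, Matrix.toLin'_toMatrix', LinearMap.comp_apply,
    LinearMap.comp_apply]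
  exact he x

theorem regNil_conj {N N' : Matrix ι ι F} (h : RegNil N) (g : (Matrix ι ι F)ˣ)
    (hg : (g : Matrix ι ι F) * N = N' * (g : Matrix ι ι F)) : RegNil N' := by
  have hgi : (g : Matrix ι ι F) * ((g⁻¹ : (Matrix ι ι F)ˣ) : Matrix ι ι F) = 1 := g.mul_inv
  have hN' : N' = (g : Matrix ι ι F) * N * ((g⁻¹ : (Matrix ι ι F)ˣ) : Matrix ι ι F) := by
    rw [hg, Matrix.mul_assoc, hgi, Matrix.mul_one]
  have hpow : ∀ k : ℕ, N' ^ k =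
      (g : Matrix ι ι F) * N ^ k * ((g⁻¹ : (Matrix ι ι F)ˣ) : Matrix ι ι F) := by
    intro k
    rw [hN']
    exact Units.conj_pow g N k
  refine ⟨?_, ?_, h.pos⟩
  · rw [hpow, h.nil, Matrix.mul_zero, Matrix.zero_mul]
  · rw [hN', Matrix.rank_mul_eq_left_of_isUnit_det _ _
        ((Matrix.isUnit_iff_isUnit_det _).mp (g⁻¹).isUnit),
      Matrix.rank_mul_eq_right_of_isUnit_det _ _ ((Matrix.isUnit_iff_isUnit_det _).mp g.isUnit)]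
    exact h.rank

end conj

section symp

variable {F : Type*} [Field F] {l : Type*} [Fintype l] [DecidableEq l]

/-- the adjoint of a unit -/
def adjU (g : (Matrix (l ⊕ l) (l ⊕ l) F)ˣ) : (Matrix (l ⊕ l) (l ⊕ l) F)ˣ where
  val := adj (g : Matrix (l ⊕ l) (l ⊕ l) F)
  inv := adj ((g⁻¹ : (Matrix (l ⊕ l) (l ⊕ l) F)ˣ) : Matrix (l ⊕ l) (l ⊕ l) F)
  val_inv := by rw [← adj_mul, g.inv_mul, adj_one]
  inv_val := by rw [← adj_mul, g.mul_inv, adj_one]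

theorem adj_inv_mul_adj (g : (Matrix (l ⊕ l) (l ⊕ l) F)ˣ) :
    adj ((g⁻¹ : (Matrix (l ⊕ l) (l ⊕ l) F)ˣ) : Matrix (l ⊕ l) (l ⊕ l) F) *
      adj (g : Matrix (l ⊕ l) (l ⊕ l) F) = 1 := (adjU g).inv_val

/-- a symplectic matrix as a unit -/
def sympU (s : Matrix.symplecticGroup l F) : (Matrix (l ⊕ l) (l ⊕ l) F)ˣ where
  val := (s : Matrix (l ⊕ l) (l ⊕ l) F)
  inv := ((s⁻¹ : Matrix.symplecticGroup l F) : Matrix (l ⊕ l) (l ⊕ l) F)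
  val_inv := by rw [← Submonoid.coe_mul, mul_inv_cancel, Submonoid.coe_one]
  inv_val := by rw [← Submonoid.coe_mul, inv_mul_cancel, Submonoid.coe_one]

theorem conj_swap (u₀ u : Matrix (l ⊕ l) (l ⊕ l) F) (g : (Matrix (l ⊕ l) (l ⊕ l) F)ˣ)
    (hg : (g : Matrix (l ⊕ l) (l ⊕ l) F) * u₀ = u * (g : Matrix (l ⊕ l) (l ⊕ l) F)) :
    ((g⁻¹ : (Matrix (l ⊕ l) (l ⊕ l) F)ˣ) : Matrix (l ⊕ l) (l ⊕ l) F) * u =
      u₀ * ((g⁻¹ : (Matrix (l ⊕ l) (l ⊕ l) F)ˣ) : Matrix (l ⊕ l) (l ⊕ l) F) := by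
  have h1 : u = (g : Matrix (l ⊕ l) (l ⊕ l) F) * u₀ *
      ((g⁻¹ : (Matrix (l ⊕ l) (l ⊕ l) F)ˣ) : Matrix (l ⊕ l) (l ⊕ l) F) := by
    rw [hg, Matrix.mul_assoc, g.mul_inv, Matrix.mul_one]
  rw [h1, ← Matrix.mul_assoc, ← Matrix.mul_assoc, g.inv_mul, Matrix.one_mul]

theorem adj_mul_of_conj (u₀ u : Matrix.symplecticGroup l F) (g : Matrix (l ⊕ l) (l ⊕ l) F)
    (hg : g * (u₀ : Matrix (l ⊕ l) (l ⊕ l) F) = (u : Matrix (l ⊕ l) (l ⊕ l) F) * g) :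
    adj g * (u : Matrix (l ⊕ l) (l ⊕ l) F) = (u₀ : Matrix (l ⊕ l) (l ⊕ l) F) * adj g := by
  have h1 : adj (u₀ : Matrix (l ⊕ l) (l ⊕ l) F) * adj g =
      adj g * adj (u : Matrix (l ⊕ l) (l ⊕ l) F) := by
    rw [← adj_mul, ← adj_mul, hg]
  calc adj g * (u : Matrix (l ⊕ l) (l ⊕ l) F)
      = ((u₀ : Matrix (l ⊕ l) (l ⊕ l) F) * adj (u₀ : Matrix (l ⊕ l) (l ⊕ l) F)) * adj g *
          (u : Matrix (l ⊕ l) (l ⊕ l) F) := by rw [coe_mul_adj_coe, Matrix.one_mul]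
    _ = (u₀ : Matrix (l ⊕ l) (l ⊕ l) F) * (adj (u₀ : Matrix (l ⊕ l) (l ⊕ l) F) * adj g) *
          (u : Matrix (l ⊕ l) (l ⊕ l) F) := by simp only [Matrix.mul_assoc]
    _ = (u₀ : Matrix (l ⊕ l) (l ⊕ l) F) * adj g *
          (adj (u : Matrix (l ⊕ l) (l ⊕ l) F) * (u : Matrix (l ⊕ l) (l ⊕ l) F)) := by
        rw [h1]; simp only [Matrix.mul_assoc]
    _ = (u₀ : Matrix (l ⊕ l) (l ⊕ l) F) * adj g := by rw [adj_coe_mul_coe, Matrix.mul_one]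

theorem mem_Dalg_of_commute {u₀ A : Matrix (l ⊕ l) (l ⊕ l) F} (h : u₀ * A = A * u₀) :
    A ∈ Dalg (u₀ - 1) := by
  rw [mem_Dalg, Matrix.sub_mul, Matrix.mul_sub, Matrix.one_mul, Matrix.mul_one, h]

theorem commute_of_mem_Dalg {u₀ A : Matrix (l ⊕ l) (l ⊕ l) F} (h : A ∈ Dalg (u₀ - 1)) :
    u₀ * A = A * u₀ := by
  rw [mem_Dalg, Matrix.sub_mul, Matrix.mul_sub, Matrix.one_mul, Matrix.mul_one] at h
  exact sub_left_injective h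

theorem norm_mem_Dalg (u₀ u : Matrix.symplecticGroup l F) (g : Matrix (l ⊕ l) (l ⊕ l) F)
    (hg : g * (u₀ : Matrix (l ⊕ l) (l ⊕ l) F) = (u : Matrix (l ⊕ l) (l ⊕ l) F) * g) :
    adj g * g ∈ Dalg ((u₀ : Matrix (l ⊕ l) (l ⊕ l) F) - 1) := by
  apply mem_Dalg_of_commute
  rw [← Matrix.mul_assoc, ← adj_mul_of_conj u₀ u g hg, Matrix.mul_assoc, Matrix.mul_assoc, hg]

/-- a similitude with multiplier `a` -/
def simMat (l : Type*) [Fintype l] [DecidableEq l] (a : F) : Matrix (l ⊕ l) (l ⊕ l) F :=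
  fromBlocks (a • (1 : Matrix l l F)) 0 0 1

theorem adj_simMat (a : F) : adj (simMat l a) = fromBlocks (1 : Matrix l l F) 0 0 (a • 1) := by
  unfold adj simMat
  rw [J, fromBlocks_transpose, fromBlocks_neg, fromBlocks_multiply, fromBlocks_multiply]
  simp

theorem adj_simMat_mul (a : F) : adj (simMat l a) * simMat l a = a • 1 := by
  rw [adj_simMat, simMat, fromBlocks_multiply, ← fromBlocks_one, fromBlocks_smul]
  simp

theorem simMat_mul_adj (a : F) : simMat l a * adj (simMat l a) = a • 1 := by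
  rw [adj_simMat, simMat, fromBlocks_multiply, ← fromBlocks_one, fromBlocks_smul]
  simp

end symp

section rel

variable {F : Type*} [Field F] {l : Type*} [Fintype l] [DecidableEq l]
variable (u₀ : Matrix.symplecticGroup l F)

/-- `u` is conjugate to `u₀` by a matrix whose norm has scalar part `a` -/
def Rel (u : Matrix.symplecticGroup l F) (a : F) : Prop :=
  ∃ (g : (Matrix (l ⊕ l) (l ⊕ l) F)ˣ) (x : Dalg ((u₀ : Matrix (l ⊕ l) (l ⊕ l) F) - 1)),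
    (g : Matrix (l ⊕ l) (l ⊕ l) F) * (u₀ : Matrix (l ⊕ l) (l ⊕ l) F) =
        (u : Matrix (l ⊕ l) (l ⊕ l) F) * (g : Matrix (l ⊕ l) (l ⊕ l) F) ∧
      (x : Matrix (l ⊕ l) (l ⊕ l) F) =
        adj (g : Matrix (l ⊕ l) (l ⊕ l) F) * (g : Matrix (l ⊕ l) (l ⊕ l) F) ∧
      IsNilpotent (x - algebraMap F (Dalg ((u₀ : Matrix (l ⊕ l) (l ⊕ l) F) - 1)) a)

variable (hreg : RegNil ((u₀ : Matrix (l ⊕ l) (l ⊕ l) F) - 1))
include hreg

theorem nontrivial_Dalg : Nontrivial (Dalg ((u₀ : Matrix (l ⊕ l) (l ⊕ l) F) - 1)) := by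
  apply Module.nontrivial_of_finrank_pos (R := F)
  rw [hreg.finrank_Dalg]
  exact hreg.pos

theorem Rel.reg {u : Matrix.symplecticGroup l F} {a : F} (h : Rel u₀ u a) :
    RegNil ((u : Matrix (l ⊕ l) (l ⊕ l) F) - 1) := by
  obtain ⟨g, x, hg, -, -⟩ := h
  apply regNil_conj hreg g
  rw [Matrix.mul_sub, Matrix.sub_mul, hg, Matrix.mul_one, Matrix.one_mul]

theorem exists_rel {u : Matrix.symplecticGroup l F}
    (h : RegNil ((u : Matrix (l ⊕ l) (l ⊕ l) F) - 1)) : ∃ a : F, a ≠ 0 ∧ Rel u₀ u a := by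
  have := hreg.isMulCommutative
  have := nontrivial_Dalg u₀ hreg
  have : Nonempty (l ⊕ l) := Fintype.card_pos_iff.1 hreg.pos
  obtain ⟨g, hg⟩ := exists_conj hreg h
  have hg' : (g : Matrix (l ⊕ l) (l ⊕ l) F) * (u₀ : Matrix (l ⊕ l) (l ⊕ l) F) =
      (u : Matrix (l ⊕ l) (l ⊕ l) F) * (g : Matrix (l ⊕ l) (l ⊕ l) F) := by
    rw [Matrix.mul_sub, Matrix.sub_mul, Matrix.mul_one, Matrix.one_mul] at hg
    exact sub_left_injective hg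
  let x : Dalg ((u₀ : Matrix (l ⊕ l) (l ⊕ l) F) - 1) :=
    ⟨adj (g : Matrix (l ⊕ l) (l ⊕ l) F) * (g : Matrix (l ⊕ l) (l ⊕ l) F),
      norm_mem_Dalg u₀ u _ hg'⟩
  refine ⟨eps hreg.hloc x, ?_, g, x, hg', rfl, eps_spec hreg.hloc x⟩
  intro h0
  have h1 := eps_spec hreg.hloc x
  rw [h0, map_zero, sub_zero] at h1
  have h2 : IsNilpotent (x : Matrix (l ⊕ l) (l ⊕ l) F) :=
    h1.map (Subalgebra.val (Dalg ((u₀ : Matrix (l ⊕ l) (l ⊕ l) F) - 1)))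
  have h3 : IsUnit (x : Matrix (l ⊕ l) (l ⊕ l) F) := ((adjU g).isUnit).mul g.isUnit
  exact h2.not_isUnit h3

theorem Rel.unique {u : Matrix.symplecticGroup l F} {a a' : F} (h : Rel u₀ u a)
    (h' : Rel u₀ u a') : ∃ c : F, a' = c * c * a := by
  have := hreg.isMulCommutative
  have := nontrivial_Dalg u₀ hreg
  obtain ⟨g, x, hg, hx, hxa⟩ := h
  obtain ⟨g', x', hg', hx', hxa'⟩ := h'
  have hcomm : (u₀ : Matrix (l ⊕ l) (l ⊕ l) F) *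
      (((g⁻¹ : (Matrix (l ⊕ l) (l ⊕ l) F)ˣ) : Matrix (l ⊕ l) (l ⊕ l) F) *
        (g' : Matrix (l ⊕ l) (l ⊕ l) F)) =
      (((g⁻¹ : (Matrix (l ⊕ l) (l ⊕ l) F)ˣ) : Matrix (l ⊕ l) (l ⊕ l) F) *
        (g' : Matrix (l ⊕ l) (l ⊕ l) F)) * (u₀ : Matrix (l ⊕ l) (l ⊕ l) F) := by
    rw [Matrix.mul_assoc _ _ (u₀ : Matrix (l ⊕ l) (l ⊕ l) F), hg', ← Matrix.mul_assoc,
      ← Matrix.mul_assoc, conj_swap _ _ g hg]
  let c : Dalg ((u₀ : Matrix (l ⊕ l) (l ⊕ l) F) - 1) :=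
    ⟨((g⁻¹ : (Matrix (l ⊕ l) (l ⊕ l) F)ˣ) : Matrix (l ⊕ l) (l ⊕ l) F) *
      (g' : Matrix (l ⊕ l) (l ⊕ l) F), mem_Dalg_of_commute hcomm⟩
  have hxx : x' = sigma u₀ hreg c * x * c := by
    apply Subtype.ext
    show (x' : Matrix (l ⊕ l) (l ⊕ l) F) =
      adj (((g⁻¹ : (Matrix (l ⊕ l) (l ⊕ l) F)ˣ) : Matrix (l ⊕ l) (l ⊕ l) F) *
        (g' : Matrix (l ⊕ l) (l ⊕ l) F)) * (x : Matrix (l ⊕ l) (l ⊕ l) F) *
      (((g⁻¹ : (Matrix (l ⊕ l) (l ⊕ l) F)ˣ) : Matrix (l ⊕ l) (l ⊕ l) F) *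
        (g' : Matrix (l ⊕ l) (l ⊕ l) F))
    rw [hx', hx, adj_mul]
    simp only [Matrix.mul_assoc]
    rw [← Matrix.mul_assoc (g : Matrix (l ⊕ l) (l ⊕ l) F), g.mul_inv, Matrix.one_mul,
      ← Matrix.mul_assoc (adj ((g⁻¹ : (Matrix (l ⊕ l) (l ⊕ l) F)ˣ) : Matrix (l ⊕ l) (l ⊕ l) F)),
      adj_inv_mul_adj, Matrix.one_mul]
  refine ⟨eps hreg.hloc c, ?_⟩
  rw [← eps_eq hreg.hloc hxa, ← eps_eq hreg.hloc hxa', hxx, eps_mul, eps_mul, eps_sigma]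
  ring

omit hreg in
theorem Rel.conj {u : Matrix.symplecticGroup l F} {a : F} (h : Rel u₀ u a)
    (s : Matrix.symplecticGroup l F) : Rel u₀ (s * u * s⁻¹) a := by
  obtain ⟨g, x, hg, hx, hxa⟩ := h
  refine ⟨sympU s * g, x, ?_, ?_, hxa⟩
  · show (s : Matrix (l ⊕ l) (l ⊕ l) F) * (g : Matrix (l ⊕ l) (l ⊕ l) F) *
        (u₀ : Matrix (l ⊕ l) (l ⊕ l) F) =
      ((s * u * s⁻¹ : Matrix.symplecticGroup l F) : Matrix (l ⊕ l) (l ⊕ l) F) *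
        ((s : Matrix (l ⊕ l) (l ⊕ l) F) * (g : Matrix (l ⊕ l) (l ⊕ l) F))
    rw [Submonoid.coe_mul, Submonoid.coe_mul, Matrix.mul_assoc _ _ (u₀ : Matrix (l ⊕ l) (l ⊕ l) F),
      hg]
    have : ((s⁻¹ : Matrix.symplecticGroup l F) : Matrix (l ⊕ l) (l ⊕ l) F) *
        (s : Matrix (l ⊕ l) (l ⊕ l) F) = 1 := (sympU s).inv_mul
    simp only [Matrix.mul_assoc]
    rw [← Matrix.mul_assoc ((s⁻¹ : Matrix.symplecticGroup l F) : Matrix (l ⊕ l) (l ⊕ l) F), this,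
      Matrix.one_mul]
  · show (x : Matrix (l ⊕ l) (l ⊕ l) F) =
      adj ((s : Matrix (l ⊕ l) (l ⊕ l) F) * (g : Matrix (l ⊕ l) (l ⊕ l) F)) *
        ((s : Matrix (l ⊕ l) (l ⊕ l) F) * (g : Matrix (l ⊕ l) (l ⊕ l) F))
    rw [hx, adj_mul, Matrix.mul_assoc,
      ← Matrix.mul_assoc (adj (s : Matrix (l ⊕ l) (l ⊕ l) F)), adj_coe_mul_coe, Matrix.one_mul]

theorem Rel.isConj [Finite F] (h2 : (2 : F) ≠ 0) {u u' : Matrix.symplecticGroup l F} {a a' : F}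
    (h : Rel u₀ u a) (h' : Rel u₀ u' a') (ha' : a' ≠ 0) {c : F} (hc : c ≠ 0)
    (hca : a = c * c * a') : IsConj u u' := by
  have := hreg.isMulCommutative
  have := nontrivial_Dalg u₀ hreg
  obtain ⟨g, x, hg, hx, hxa⟩ := h
  obtain ⟨g', x', hg', hx', hxa'⟩ := h'
  have hσx : sigma u₀ hreg x = x := Subtype.ext (by
    show adj (x : Matrix (l ⊕ l) (l ⊕ l) F) = x
    rw [hx, adj_mul, adj_adj])
  have hσx' : sigma u₀ hreg x' = x' := Subtype.ext (by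
    show adj (x' : Matrix (l ⊕ l) (l ⊕ l) F) = x'
    rw [hx', adj_mul, adj_adj])
  have hex : eps hreg.hloc x = a := eps_eq _ hxa
  have hex' : eps hreg.hloc x' = a' := eps_eq _ hxa'
  obtain ⟨d, hd⟩ := exists_twisted_norm hreg.hloc (sigma u₀ hreg) h2 hσx hσx'
    (by rw [hex']; exact ha') hc (by rw [hex, hex']; exact hca)
  have hd' : adj (d : Matrix (l ⊕ l) (l ⊕ l) F) *
      (adj (g' : Matrix (l ⊕ l) (l ⊕ l) F) * (g' : Matrix (l ⊕ l) (l ⊕ l) F)) *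
        (d : Matrix (l ⊕ l) (l ⊕ l) F) =
      adj (g : Matrix (l ⊕ l) (l ⊕ l) F) * (g : Matrix (l ⊕ l) (l ⊕ l) F) := by
    have := congrArg Subtype.val hd
    rw [← hx, ← hx']
    exact this
  have hS : adj ((g' : Matrix (l ⊕ l) (l ⊕ l) F) * (d : Matrix (l ⊕ l) (l ⊕ l) F) *
      ((g⁻¹ : (Matrix (l ⊕ l) (l ⊕ l) F)ˣ) : Matrix (l ⊕ l) (l ⊕ l) F)) *
      ((g' : Matrix (l ⊕ l) (l ⊕ l) F) * (d : Matrix (l ⊕ l) (l ⊕ l) F) *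
      ((g⁻¹ : (Matrix (l ⊕ l) (l ⊕ l) F)ˣ) : Matrix (l ⊕ l) (l ⊕ l) F)) = 1 := by
    rw [adj_mul, adj_mul]
    calc adj ((g⁻¹ : (Matrix (l ⊕ l) (l ⊕ l) F)ˣ) : Matrix (l ⊕ l) (l ⊕ l) F) *
          (adj (d : Matrix (l ⊕ l) (l ⊕ l) F) * adj (g' : Matrix (l ⊕ l) (l ⊕ l) F)) *
          ((g' : Matrix (l ⊕ l) (l ⊕ l) F) * (d : Matrix (l ⊕ l) (l ⊕ l) F) *
            ((g⁻¹ : (Matrix (l ⊕ l) (l ⊕ l) F)ˣ) : Matrix (l ⊕ l) (l ⊕ l) F))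
        = adj ((g⁻¹ : (Matrix (l ⊕ l) (l ⊕ l) F)ˣ) : Matrix (l ⊕ l) (l ⊕ l) F) *
          (adj (d : Matrix (l ⊕ l) (l ⊕ l) F) *
            (adj (g' : Matrix (l ⊕ l) (l ⊕ l) F) * (g' : Matrix (l ⊕ l) (l ⊕ l) F)) *
              (d : Matrix (l ⊕ l) (l ⊕ l) F)) *
          ((g⁻¹ : (Matrix (l ⊕ l) (l ⊕ l) F)ˣ) : Matrix (l ⊕ l) (l ⊕ l) F) := by
          simp only [Matrix.mul_assoc]
      _ = (adj ((g⁻¹ : (Matrix (l ⊕ l) (l ⊕ l) F)ˣ) : Matrix (l ⊕ l) (l ⊕ l) F) *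
            adj (g : Matrix (l ⊕ l) (l ⊕ l) F)) *
          ((g : Matrix (l ⊕ l) (l ⊕ l) F) *
            ((g⁻¹ : (Matrix (l ⊕ l) (l ⊕ l) F)ˣ) : Matrix (l ⊕ l) (l ⊕ l) F)) := by
          rw [hd']; simp only [Matrix.mul_assoc]
      _ = 1 := by rw [adj_inv_mul_adj, g.mul_inv, Matrix.one_mul]
  have hSu : ((g' : Matrix (l ⊕ l) (l ⊕ l) F) * (d : Matrix (l ⊕ l) (l ⊕ l) F) *
      ((g⁻¹ : (Matrix (l ⊕ l) (l ⊕ l) F)ˣ) : Matrix (l ⊕ l) (l ⊕ l) F)) *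
        (u : Matrix (l ⊕ l) (l ⊕ l) F) =
      (u' : Matrix (l ⊕ l) (l ⊕ l) F) * ((g' : Matrix (l ⊕ l) (l ⊕ l) F) *
        (d : Matrix (l ⊕ l) (l ⊕ l) F) *
          ((g⁻¹ : (Matrix (l ⊕ l) (l ⊕ l) F)ˣ) : Matrix (l ⊕ l) (l ⊕ l) F)) := by
    have hdc : (u₀ : Matrix (l ⊕ l) (l ⊕ l) F) * (d : Matrix (l ⊕ l) (l ⊕ l) F) =
        (d : Matrix (l ⊕ l) (l ⊕ l) F) * (u₀ : Matrix (l ⊕ l) (l ⊕ l) F) :=
      commute_of_mem_Dalg d.2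
    calc (g' : Matrix (l ⊕ l) (l ⊕ l) F) * (d : Matrix (l ⊕ l) (l ⊕ l) F) *
          ((g⁻¹ : (Matrix (l ⊕ l) (l ⊕ l) F)ˣ) : Matrix (l ⊕ l) (l ⊕ l) F) *
          (u : Matrix (l ⊕ l) (l ⊕ l) F)
        = (g' : Matrix (l ⊕ l) (l ⊕ l) F) * (d : Matrix (l ⊕ l) (l ⊕ l) F) *
          (((g⁻¹ : (Matrix (l ⊕ l) (l ⊕ l) F)ˣ) : Matrix (l ⊕ l) (l ⊕ l) F) *
            (u : Matrix (l ⊕ l) (l ⊕ l) F)) := by simp only [Matrix.mul_assoc]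
      _ = (g' : Matrix (l ⊕ l) (l ⊕ l) F) * ((d : Matrix (l ⊕ l) (l ⊕ l) F) *
            (u₀ : Matrix (l ⊕ l) (l ⊕ l) F)) *
          ((g⁻¹ : (Matrix (l ⊕ l) (l ⊕ l) F)ˣ) : Matrix (l ⊕ l) (l ⊕ l) F) := by
          rw [conj_swap _ _ g hg]; simp only [Matrix.mul_assoc]
      _ = ((g' : Matrix (l ⊕ l) (l ⊕ l) F) * (u₀ : Matrix (l ⊕ l) (l ⊕ l) F)) *
            (d : Matrix (l ⊕ l) (l ⊕ l) F) *
          ((g⁻¹ : (Matrix (l ⊕ l) (l ⊕ l) F)ˣ) : Matrix (l ⊕ l) (l ⊕ l) F) := by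
          rw [← hdc]; simp only [Matrix.mul_assoc]
      _ = (u' : Matrix (l ⊕ l) (l ⊕ l) F) * ((g' : Matrix (l ⊕ l) (l ⊕ l) F) *
            (d : Matrix (l ⊕ l) (l ⊕ l) F) *
          ((g⁻¹ : (Matrix (l ⊕ l) (l ⊕ l) F)ˣ) : Matrix (l ⊕ l) (l ⊕ l) F)) := by
          rw [hg']; simp only [Matrix.mul_assoc]
  let s : Matrix.symplecticGroup l F := ⟨_, (adj_mul_self_iff _).1 hS⟩
  rw [isConj_iff]
  refine ⟨s, ?_⟩
  rw [mul_inv_eq_iff_eq_mul]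
  exact Subtype.ext hSu

omit hreg in
theorem exists_rel_of_ne_zero {a : F} (ha : a ≠ 0) : ∃ u : Matrix.symplecticGroup l F,
    Rel u₀ u a := by
  have h1 := adj_simMat_mul (l := l) a
  have h2 := simMat_mul_adj (l := l) a
  have hU : adj (a⁻¹ • (simMat l a * (u₀ : Matrix (l ⊕ l) (l ⊕ l) F) * adj (simMat l a))) *
      (a⁻¹ • (simMat l a * (u₀ : Matrix (l ⊕ l) (l ⊕ l) F) * adj (simMat l a))) = 1 := by
    rw [adj_smul, adj_mul, adj_mul, adj_adj, smul_mul_smul_comm]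
    calc (a⁻¹ * a⁻¹) • (simMat l a * (adj (u₀ : Matrix (l ⊕ l) (l ⊕ l) F) * adj (simMat l a)) *
          (simMat l a * (u₀ : Matrix (l ⊕ l) (l ⊕ l) F) * adj (simMat l a)))
        = (a⁻¹ * a⁻¹) • (simMat l a * (adj (u₀ : Matrix (l ⊕ l) (l ⊕ l) F) *
            (adj (simMat l a) * simMat l a) * (u₀ : Matrix (l ⊕ l) (l ⊕ l) F)) *
              adj (simMat l a)) := by simp only [Matrix.mul_assoc]
      _ = (a⁻¹ * a⁻¹) • (a • (simMat l a * (adj (u₀ : Matrix (l ⊕ l) (l ⊕ l) F) *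
            (u₀ : Matrix (l ⊕ l) (l ⊕ l) F)) * adj (simMat l a))) := by
          rw [h1]
          simp only [Matrix.mul_smul, Matrix.smul_mul, Matrix.mul_one]
      _ = 1 := by
          rw [adj_coe_mul_coe, Matrix.mul_one, h2, smul_smul, smul_smul]
          have : a⁻¹ * a⁻¹ * a * a = 1 := by field_simp
          rw [this, one_smul]
  let gU : (Matrix (l ⊕ l) (l ⊕ l) F)ˣ :=
    ⟨simMat l a, a⁻¹ • adj (simMat l a),
      by rw [Matrix.mul_smul, h2, smul_smul, inv_mul_cancel₀ ha, one_smul],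
      by rw [Matrix.smul_mul, h1, smul_smul, inv_mul_cancel₀ ha, one_smul]⟩
  refine ⟨⟨_, (adj_mul_self_iff _).1 hU⟩, gU,
    algebraMap F (Dalg ((u₀ : Matrix (l ⊕ l) (l ⊕ l) F) - 1)) a, ?_, ?_, ?_⟩
  · show simMat l a * (u₀ : Matrix (l ⊕ l) (l ⊕ l) F) =
      a⁻¹ • (simMat l a * (u₀ : Matrix (l ⊕ l) (l ⊕ l) F) * adj (simMat l a)) * simMat l a
    rw [Matrix.smul_mul, Matrix.mul_assoc, h1, Matrix.mul_smul, Matrix.mul_one, smul_smul,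
      inv_mul_cancel₀ ha, one_smul]
  · show ((algebraMap F (Dalg ((u₀ : Matrix (l ⊕ l) (l ⊕ l) F) - 1)) a :
        Dalg ((u₀ : Matrix (l ⊕ l) (l ⊕ l) F) - 1)) : Matrix (l ⊕ l) (l ⊕ l) F) =
      adj (simMat l a) * simMat l a
    rw [h1, Subalgebra.coe_algebraMap, Algebra.algebraMap_eq_smul_one]
  · rw [sub_self]
    exact IsNilpotent.zero

end rel

end Cfsg.Agent.Lib.Helper43_SympRegClasses
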