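import Cfsg.Agent.Lib.Helper43_SpCent5
import Cfsg.Agent.Lib.Helper43_SpCent6
import Cfsg.Agent.Lib.Helper43_SpCent7
import Cfsg.Agent.Lib.Helper43_SympRegClasses
import Cfsg.Agent.Lib.Helper43_GUUnip

set_option autoImplicit false

/-!
The classes of the symplectic group inside the class of a unipotent matrix of given Jordan type:
transfer to the model and count through the norms of the conjugating matrices.
-/

namespace Cfsg.Agent.Lib.Helper43_SpCent

open Matrix Module
open Cfsg.Agent.Lib.Helper43_Jordan Cfsg.Agent.Lib.Helper43_UnipCent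
open Cfsg.Agent.Lib.Helper43_GUCent Cfsg.Agent.Lib.Helper43_SympAdjoint
open Cfsg.Agent.Lib.Helper43_SympRegClasses

section units

variable {F : Type*} [Field F] {t : ℕ} {d : Fin t → ℕ} (P : Pairing d F)

/-- the adjoint of the model on units -/
def tauSU (x : (Matrix (Idx d) (Idx d) F)ˣ) : (Matrix (Idx d) (Idx d) F)ˣ where
  val := tauS P x.val
  inv := tauS P x.inv
  val_inv := by rw [← tauS_mul, x.inv_val, tauS_one]
  inv_val := by rw [← tauS_mul, x.val_inv, tauS_one]

theorem tauSU_val (x : (Matrix (Idx d) (Idx d) F)ˣ) : (tauSU P x).val = tauS P x.val := rfl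

theorem tauSU_mul (x y : (Matrix (Idx d) (Idx d) F)ˣ) :
    tauSU P (x * y) = tauSU P y * tauSU P x := Units.ext (tauS_mul P _ _)

theorem tauSU_tauSU (x : (Matrix (Idx d) (Idx d) F)ˣ) : tauSU P (tauSU P x) = x :=
  Units.ext (tauS_tauS P _)

/-- every invertible self-adjoint matrix of the model is a norm -/
theorem exists_norm [Finite F] (h2 : (2 : F) ≠ 0) (h : Matrix (Idx d) (Idx d) F)
    (hs : tauS P h = h) (hdet : h.det ≠ 0) :
    ∃ g gi : Matrix (Idx d) (Idx d) F, g * gi = 1 ∧ gi * g = 1 ∧ tauS P g * g = h := by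
  have h1 : hᵀ * Om P = Om P * h := by
    have : Om P * tauS P h = Om P * h := by rw [hs]
    unfold tauS at this
    rw [← Matrix.mul_assoc, ← Matrix.mul_assoc, Om_mul_Omi, Matrix.one_mul] at this
    exact this
  have hB : (Om P * h)ᵀ = -(Om P * h) := by
    rw [Matrix.transpose_mul, Om_transpose, Matrix.mul_neg, h1]
  have hBdet : (Om P * h).det ≠ 0 := by
    rw [Matrix.det_mul]
    exact mul_ne_zero (det_Om_ne_zero P) hdet
  obtain ⟨R1, Ri1, hR1, hR2, hR3⟩ := exists_congr_alt h2 rfl (Om P * h) (Om P) hB hBdet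
    (Om_transpose P) (det_Om_ne_zero P)
  refine ⟨R1, Ri1, hR1, hR2, ?_⟩
  unfold tauS
  rw [Matrix.mul_assoc, Matrix.mul_assoc, ← Matrix.mul_assoc R1ᵀ, hR3, ← Matrix.mul_assoc,
    Omi_mul_Om, Matrix.one_mul]

end units

section transfer

variable {F : Type*} [Field F] {t : ℕ} {d : Fin t → ℕ} (P : Pairing d F)
variable {l : Type*} [Fintype l] [DecidableEq l]
variable (R : Matrix (l ⊕ l) (Idx d) F) (Ri : Matrix (Idx d) (l ⊕ l) F)

theorem coe_mul_coe_inv (s : Matrix.symplecticGroup l F) :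
    (s : Matrix (l ⊕ l) (l ⊕ l) F) *
      ((s⁻¹ : Matrix.symplecticGroup l F) : Matrix (l ⊕ l) (l ⊕ l) F) = 1 := (sympU s).val_inv

theorem coe_inv_mul_coe (s : Matrix.symplecticGroup l F) :
    ((s⁻¹ : Matrix.symplecticGroup l F) : Matrix (l ⊕ l) (l ⊕ l) F) *
      (s : Matrix (l ⊕ l) (l ⊕ l) F) = 1 := (sympU s).inv_val

theorem conj_mul (hRRi : R * Ri = 1) (A B : Matrix (l ⊕ l) (l ⊕ l) F) :
    Ri * A * R * (Ri * B * R) = Ri * (A * B) * R := by
  calc Ri * A * R * (Ri * B * R) = Ri * A * (R * Ri) * B * R := by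
        simp only [Matrix.mul_assoc]
    _ = Ri * (A * B) * R := by
        rw [hRRi, Matrix.mul_one]
        simp only [Matrix.mul_assoc]

/-- transport of the symplectic group to the model -/
def iotaHom (hRRi : R * Ri = 1) (hRiR : Ri * R = 1) :
    ↥(Matrix.symplecticGroup l F) →* (Matrix (Idx d) (Idx d) F)ˣ where
  toFun s :=
    { val := Ri * (s : Matrix (l ⊕ l) (l ⊕ l) F) * R
      inv := Ri * ((s⁻¹ : Matrix.symplecticGroup l F) : Matrix (l ⊕ l) (l ⊕ l) F) * R
      val_inv := by rw [conj_mul R Ri hRRi, coe_mul_coe_inv, Matrix.mul_one, hRiR]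
      inv_val := by rw [conj_mul R Ri hRRi, coe_inv_mul_coe, Matrix.mul_one, hRiR] }
  map_one' := Units.ext (by
    show Ri * ((1 : Matrix.symplecticGroup l F) : Matrix (l ⊕ l) (l ⊕ l) F) * R = 1
    rw [Submonoid.coe_one, Matrix.mul_one, hRiR])
  map_mul' := fun s s' => Units.ext (by
    show Ri * ((s * s' : Matrix.symplecticGroup l F) : Matrix (l ⊕ l) (l ⊕ l) F) * R =
      Ri * (s : Matrix (l ⊕ l) (l ⊕ l) F) * R * (Ri * (s' : Matrix (l ⊕ l) (l ⊕ l) F) * R)
    rw [conj_mul R Ri hRRi, Submonoid.coe_mul])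

theorem iotaHom_val (hRRi : R * Ri = 1) (hRiR : Ri * R = 1) (s : Matrix.symplecticGroup l F) :
    ((iotaHom R Ri hRRi hRiR s : (Matrix (Idx d) (Idx d) F)ˣ) : Matrix (Idx d) (Idx d) F) =
      Ri * (s : Matrix (l ⊕ l) (l ⊕ l) F) * R := rfl

theorem back_forth (hRRi : R * Ri = 1) (A : Matrix (l ⊕ l) (l ⊕ l) F) :
    R * (Ri * A * R) * Ri = A := by
  calc R * (Ri * A * R) * Ri = (R * Ri) * A * (R * Ri) := by simp only [Matrix.mul_assoc]
    _ = A := by rw [hRRi, Matrix.one_mul, Matrix.mul_one]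

omit [DecidableEq l] in
theorem forth_back (hRiR : Ri * R = 1) (x : Matrix (Idx d) (Idx d) F) :
    Ri * (R * x * Ri) * R = x := by
  calc Ri * (R * x * Ri) * R = (Ri * R) * x * (Ri * R) := by simp only [Matrix.mul_assoc]
    _ = x := by rw [hRiR, Matrix.one_mul, Matrix.mul_one]

theorem iotaHom_injective (hRRi : R * Ri = 1) (hRiR : Ri * R = 1) :
    Function.Injective (iotaHom (F := F) (d := d) R Ri hRRi hRiR) := by
  intro s s' h
  have h1 := congrArg (fun x : (Matrix (Idx d) (Idx d) F)ˣ => R * x.val * Ri) h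
  simp only [iotaHom_val, back_forth R Ri hRRi] at h1
  exact Subtype.ext h1

/-- the adjoint of the model corresponds to the symplectic adjoint -/
theorem tauS_transfer (hRRi : R * Ri = 1) (hRiR : Ri * R = 1) (hRJ : Rᵀ * J l F * R = Om P)
    (A : Matrix (l ⊕ l) (l ⊕ l) F) : tauS P (Ri * A * R) = Ri * adj A * R := by
  have hRiT : Riᵀ * Rᵀ = 1 := by rw [← Matrix.transpose_mul, hRRi, Matrix.transpose_one]
  have hRT : Rᵀ * Riᵀ = 1 := by rw [← Matrix.transpose_mul, hRiR, Matrix.transpose_one]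
  have hOmi : Omi P = Ri * (-J l F) * Riᵀ := by
    have h1 : Om P * (Ri * (-J l F) * Riᵀ) = 1 := by
      rw [← hRJ]
      calc Rᵀ * J l F * R * (Ri * (-J l F) * Riᵀ)
          = Rᵀ * (J l F * ((R * Ri) * (-J l F))) * Riᵀ := by simp only [Matrix.mul_assoc]
        _ = 1 := by rw [hRRi, Matrix.one_mul, J_mul_neg_J, Matrix.mul_one, hRT]
    calc Omi P = Omi P * (Om P * (Ri * (-J l F) * Riᵀ)) := by rw [h1, Matrix.mul_one]
      _ = Ri * (-J l F) * Riᵀ := by rw [← Matrix.mul_assoc, Omi_mul_Om, Matrix.one_mul]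
  unfold tauS adj
  rw [hOmi, ← hRJ, Matrix.transpose_mul, Matrix.transpose_mul]
  calc Ri * (-J l F) * Riᵀ * (Rᵀ * (Aᵀ * Riᵀ)) * (Rᵀ * J l F * R)
      = Ri * (-J l F) * ((Riᵀ * Rᵀ) * Aᵀ * (Riᵀ * Rᵀ)) * J l F * R := by
        simp only [Matrix.mul_assoc]
    _ = Ri * (-J l F * Aᵀ * J l F) * R := by
        rw [hRiT, Matrix.one_mul, Matrix.mul_one]
        simp only [Matrix.mul_assoc]

theorem iotaHom_mem (hRRi : R * Ri = 1) (hRiR : Ri * R = 1) (hRJ : Rᵀ * J l F * R = Om P)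
    (s : Matrix.symplecticGroup l F) :
    tauSU P (iotaHom R Ri hRRi hRiR s) * iotaHom R Ri hRRi hRiR s = 1 := by
  apply Units.ext
  show tauS P (Ri * (s : Matrix (l ⊕ l) (l ⊕ l) F) * R) *
    (Ri * (s : Matrix (l ⊕ l) (l ⊕ l) F) * R) = 1
  rw [tauS_transfer P R Ri hRRi hRiR hRJ, conj_mul R Ri hRRi, adj_coe_mul_coe, Matrix.mul_one,
    hRiR]

theorem iotaHom_range (hRRi : R * Ri = 1) (hRiR : Ri * R = 1) (hRJ : Rᵀ * J l F * R = Om P)
    (x : (Matrix (Idx d) (Idx d) F)ˣ) (hx : tauSU P x * x = 1) :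
    ∃ s, iotaHom R Ri hRRi hRiR s = x := by
  have hx' : tauS P x.val * x.val = 1 := congrArg Units.val hx
  have h1 : x.val = Ri * (R * x.val * Ri) * R := (forth_back R Ri hRiR x.val).symm
  have h2 : adj (R * x.val * Ri) * (R * x.val * Ri) = 1 := by
    have h3 : Ri * (adj (R * x.val * Ri) * (R * x.val * Ri)) * R = 1 := by
      rw [← conj_mul R Ri hRRi, ← tauS_transfer P R Ri hRRi hRiR hRJ, ← h1]
      exact hx'
    have h4 := back_forth R Ri hRRi (adj (R * x.val * Ri) * (R * x.val * Ri))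
    rw [h3, Matrix.mul_one, hRRi] at h4
    exact h4.symm
  refine ⟨⟨R * x.val * Ri, (adj_mul_self_iff _).1 h2⟩, ?_⟩
  apply Units.ext
  show Ri * (R * x.val * Ri) * R = x.val
  exact h1.symm

end transfer


section count

variable {F : Type*} [Field F] [Fintype F] {t : ℕ} {d : Fin t → ℕ} (P : Pairing d F)
variable {l : Type*} [Fintype l] [DecidableEq l]

/-- the invariant: the set of even block sizes with head block of square determinant -/
def invU (hd : ∀ k, 1 ≤ d k) (g : (Matrix (Idx d) (Idx d) F)ˣ) :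
    Set {a : BlockIdx d // Even a.1} :=
  {a | IsSquare (hpi d hd g.val a.1).det}

omit [Fintype F] in
theorem mem_invU (hd : ∀ k, 1 ≤ d k) (g : (Matrix (Idx d) (Idx d) F)ˣ)
    (a : {a : BlockIdx d // Even a.1}) :
    a ∈ invU hd g ↔ IsSquare (hpi d hd g.val a.1).det := Iff.rfl

omit [Fintype F] in
theorem det_val_ne_zero (g : (Matrix (Idx d) (Idx d) F)ˣ) : g.val.det ≠ 0 :=
  ((Matrix.isUnit_iff_isUnit_det _).1 g.isUnit).ne_zero

/-- the classes of the symplectic group meeting the class of the model element -/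
theorem card_classes_model (p : ℕ) [Fact p.Prime] [CharP F p] (hp : p ≠ 2) (h2 : (2 : F) ≠ 0)
    (hd : ∀ k, 1 ≤ d k) (R : Matrix (l ⊕ l) (Idx d) F) (Ri : Matrix (Idx d) (l ⊕ l) F)
    (hRRi : R * Ri = 1) (hRiR : Ri * R = 1) (hRJ : Rᵀ * J l F * R = Om P)
    (u0U : (Matrix (Idx d) (Idx d) F)ˣ) (hu0 : tauS P u0U.val * u0U.val = 1)
    (hu0c : ∀ c, c * u0U.val = u0U.val * c ↔ c * N0 d F = N0 d F * c) :
    Nat.card {C : ConjClasses ↥(Matrix.symplecticGroup l F) //
        ∃ g, ConjClasses.mk g = C ∧ IsConj u0U (iotaHom R Ri hRRi hRiR g)} =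
      2 ^ Fintype.card {a : BlockIdx d // Even a.1} := by
  classical
  have hcomm : ∀ h : (Matrix (Idx d) (Idx d) F)ˣ, h * u0U = u0U * h ↔
      h.val * N0 d F = N0 d F * h.val := by
    intro h
    rw [← hu0c]
    constructor
    · intro hh
      exact congrArg Units.val hh
    · intro hh
      exact Units.ext hh
  have hsymm : ∀ h : (Matrix (Idx d) (Idx d) F)ˣ, tauSU P h = h ↔ tauS P h.val = h.val := by
    intro h
    constructor
    · intro hh
      exact congrArg Units.val hh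
    · intro hh
      exact Units.ext hh
  rw [card_classes_of_norm (D := Set {a : BlockIdx d // Even a.1}) (tauSU P) (tauSU_mul P)
    (iotaHom R Ri hRRi hRiR) (iotaHom_injective R Ri hRRi hRiR)
    (iotaHom_mem P R Ri hRRi hRiR hRJ) (iotaHom_range P R Ri hRRi hRiR hRJ) (tauSU_tauSU P)
    ?_ u0U (Units.ext hu0) (invU hd) ?_ ?_]
  · rw [Nat.card_eq_fintype_card, Fintype.card_set]
  · intro h hh
    obtain ⟨g, gi, hg1, hg2, hg3⟩ := exists_norm P h2 h.val ((hsymm h).1 hh) (det_val_ne_zero h)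
    exact ⟨⟨g, gi, hg1, hg2⟩, Units.ext hg3⟩
  · intro h h' hc hs hc' hs'
    rw [hcomm] at hc hc'
    rw [hsymm] at hs hs'
    have hdet := det_val_ne_zero h
    have hdet' := det_val_ne_zero h'
    have key := orbit_iff P p hp h2 hd h.val h'.val hc hs hdet hc' hs' hdet'
    have hb := (det_ne_zero_iff d hd h.val hc).1 hdet
    have hb' := (det_ne_zero_iff d hd h'.val hc').1 hdet'
    have e1 : (∃ c : (Matrix (Idx d) (Idx d) F)ˣ, c * u0U = u0U * c ∧
        tauSU P c * h * c = h') ↔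
        ∃ c : Matrix (Idx d) (Idx d) F, c * N0 d F = N0 d F * c ∧ c.det ≠ 0 ∧
          tauS P c * h.val * c = h'.val := by
      constructor
      · rintro ⟨c, hc1, hc2⟩
        exact ⟨c.val, (hcomm c).1 hc1, det_val_ne_zero c, congrArg Units.val hc2⟩
      · rintro ⟨c, hc1, hc2, hc3⟩
        refine ⟨Matrix.GeneralLinearGroup.mkOfDetNeZero c hc2, (hcomm _).2 hc1, ?_⟩
        apply Units.ext
        exact hc3
    have e2 : invU hd h = invU hd h' ↔
        ∀ a : BlockIdx d, Even a.1 →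
          IsSquare ((hpi d hd h.val a).det * (hpi d hd h'.val a).det) := by
      rw [Set.ext_iff]
      constructor
      · intro hh a hev
        rw [Cfsg.Agent.Lib.Helper44_FinSq.isSquare_mul_iff_iff (hb a) (hb' a)]
        exact hh ⟨a, hev⟩
      · intro hh a
        rw [mem_invU, mem_invU,
          ← Cfsg.Agent.Lib.Helper44_FinSq.isSquare_mul_iff_iff (hb a.1) (hb' a.1)]
        exact hh a.1 a.2
    rw [e1, e2]
    exact key
  · intro δ
    obtain ⟨h, hc, hs, hdet, hinv⟩ := exists_invariant P h2 hd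
      (fun a => ∃ hev : Even a.1, (⟨a, hev⟩ : {a : BlockIdx d // Even a.1}) ∈ δ)
    refine ⟨Matrix.GeneralLinearGroup.mkOfDetNeZero h hdet, (hcomm _).2 hc, (hsymm _).2 hs, ?_⟩
    ext a
    rw [mem_invU]
    have := hinv a.1 a.2
    constructor
    · intro hh
      obtain ⟨hev, hmem⟩ := this.1 hh
      exact hmem
    · intro hh
      exact this.2 ⟨a.2, hh⟩

end count

end Cfsg.Agent.Lib.Helper43_SpCent
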