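import Cfsg.Agent.Lib.Helper43_SpCent8
import Cfsg.Agent.Lib.Helper43_JordanMatrix

set_option autoImplicit false

/-!
The class of the model element in terms of the Jordan type, and the number of classes of the
symplectic group of a given unipotent Jordan type.
-/

namespace Cfsg.Agent.Lib.Helper43_SpCent

open Matrix Module
open Cfsg.Agent.Lib.Helper43_Jordan Cfsg.Agent.Lib.Helper43_UnipCent
open Cfsg.Agent.Lib.Helper43_GUCent Cfsg.Agent.Lib.Helper43_SympAdjoint
open Cfsg.Agent.Lib.Helper43_SympRegClasses Cfsg.Agent.Lib.Helper43_JordanMatrix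
open Cfsg.Agent.Lib.Helper43_GUUnip

section nilp

theorem isNilpotent_of_conj {F V V' : Type*} [Field F] [AddCommGroup V] [Module F V]
    [AddCommGroup V'] [Module F V'] (ψ : V ≃ₗ[F] V') (N : End F V) (N' : End F V')
    (h : ∀ x, ψ (N x) = N' (ψ x)) (hN : IsNilpotent N) : IsNilpotent N' := by
  obtain ⟨n, hn⟩ := hN
  refine ⟨n, ?_⟩
  have hpow : ∀ (k : ℕ) (x : V), ψ ((N ^ k) x) = (N' ^ k) (ψ x) := by
    intro k
    induction k with
    | zero => intro x; simp
    | succ k ih =>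
      intro x
      rw [pow_succ', pow_succ', Module.End.mul_apply, Module.End.mul_apply, h, ih]
  apply LinearMap.ext
  intro y
  obtain ⟨x, rfl⟩ := ψ.surjective y
  rw [← hpow, hn, LinearMap.zero_apply, map_zero, LinearMap.zero_apply]

end nilp

section type

universe u

variable {F : Type u} [Field F] {t : ℕ} {d : Fin t → ℕ}
variable {l : Type} [Fintype l] [DecidableEq l]
variable (R : Matrix (l ⊕ l) (Idx d) F) (Ri : Matrix (Idx d) (l ⊕ l) F)

theorem isConj_iota_iff (hRRi : R * Ri = 1) (hRiR : Ri * R = 1)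
    (u0U : (Matrix (Idx d) (Idx d) F)ˣ) (g : Matrix.symplecticGroup l F) :
    IsConj u0U (iotaHom R Ri hRRi hRiR g) ↔
      ∃ ψ : (Idx d → F) ≃ₗ[F] (l ⊕ l → F),
        ∀ x, ψ (u0U.val *ᵥ x) = (g : Matrix (l ⊕ l) (l ⊕ l) F) *ᵥ ψ x := by
  constructor
  · intro h
    obtain ⟨c, hc⟩ := isConj_iff.1 h
    have hc1 : c * u0U = iotaHom R Ri hRRi hRiR g * c := by
      rw [← hc]
      group
    have hc2 : c.val * u0U.val = Ri * (g : Matrix (l ⊕ l) (l ⊕ l) F) * R * c.val :=
      congrArg Units.val hc1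
    have h1 : (c.inv * Ri) * (R * c.val) = 1 := by
      calc (c.inv * Ri) * (R * c.val) = c.inv * (Ri * R) * c.val := by
            simp only [Matrix.mul_assoc]
        _ = 1 := by rw [hRiR, Matrix.mul_one, c.inv_val]
    have h2 : (R * c.val) * (c.inv * Ri) = 1 := by
      calc (R * c.val) * (c.inv * Ri) = R * (c.val * c.inv) * Ri := by
            simp only [Matrix.mul_assoc]
        _ = 1 := by rw [c.val_inv, Matrix.mul_one, hRRi]
    refine ⟨Matrix.toLin'OfInv (M := c.inv * Ri) (M' := R * c.val) h1 h2, ?_⟩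
    intro x
    show (R * c.val) *ᵥ (u0U.val *ᵥ x) = (g : Matrix (l ⊕ l) (l ⊕ l) F) *ᵥ ((R * c.val) *ᵥ x)
    rw [Matrix.mulVec_mulVec, Matrix.mulVec_mulVec]
    congr 1
    calc R * c.val * u0U.val = R * (c.val * u0U.val) := by rw [Matrix.mul_assoc]
      _ = (R * Ri) * (g : Matrix (l ⊕ l) (l ⊕ l) F) * (R * c.val) := by
          rw [hc2]
          simp only [Matrix.mul_assoc]
      _ = (g : Matrix (l ⊕ l) (l ⊕ l) F) * (R * c.val) := by rw [hRRi, Matrix.one_mul]
  · rintro ⟨ψ, hψ⟩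
    set M : Matrix (l ⊕ l) (Idx d) F := LinearMap.toMatrix' (ψ : (Idx d → F) →ₗ[F] (l ⊕ l → F))
      with hM
    set Mi : Matrix (Idx d) (l ⊕ l) F :=
      LinearMap.toMatrix' (ψ.symm : (l ⊕ l → F) →ₗ[F] (Idx d → F)) with hMi
    have hMMi : M * Mi = 1 := by
      rw [hM, hMi, ← LinearMap.toMatrix'_comp]
      simp
    have hMiM : Mi * M = 1 := by
      rw [hM, hMi, ← LinearMap.toMatrix'_comp]
      simp
    have hint : M * u0U.val = (g : Matrix (l ⊕ l) (l ⊕ l) F) * M := by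
      apply Matrix.toLin'.injective
      apply LinearMap.ext
      intro x
      rw [Matrix.toLin'_mul, Matrix.toLin'_mul, LinearMap.comp_apply, LinearMap.comp_apply, hM,
        Matrix.toLin'_toMatrix', Matrix.toLin'_apply, Matrix.toLin'_apply]
      exact hψ x
    let c : (Matrix (Idx d) (Idx d) F)ˣ :=
      ⟨Ri * M, Mi * R, by
        calc Ri * M * (Mi * R) = Ri * (M * Mi) * R := by simp only [Matrix.mul_assoc]
          _ = 1 := by rw [hMMi, Matrix.mul_one, hRiR], by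
        calc Mi * R * (Ri * M) = Mi * (R * Ri) * M := by simp only [Matrix.mul_assoc]
          _ = 1 := by rw [hRRi, Matrix.mul_one, hMiM]⟩
    rw [isConj_iff]
    refine ⟨c, ?_⟩
    rw [mul_inv_eq_iff_eq_mul]
    apply Units.ext
    show Ri * M * u0U.val = Ri * (g : Matrix (l ⊕ l) (l ⊕ l) F) * R * (Ri * M)
    calc Ri * M * u0U.val = Ri * (M * u0U.val) := by rw [Matrix.mul_assoc]
      _ = Ri * (g : Matrix (l ⊕ l) (l ⊕ l) F) * ((R * Ri) * M) := by
          rw [hint, hRRi, Matrix.one_mul, Matrix.mul_assoc]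
      _ = Ri * (g : Matrix (l ⊕ l) (l ⊕ l) F) * R * (Ri * M) := by
          simp only [Matrix.mul_assoc]

theorem finrank_range_toLin'_pow {I : Type} [Fintype I] [DecidableEq I] (A : Matrix I I F)
    (k : ℕ) : finrank F (LinearMap.range ((Matrix.toLin' A) ^ k)) = (A ^ k).rank := by
  rw [← Matrix.toLin'_pow]
  rfl

theorem isConj_iota_iff_jtype (hd : ∀ k, 1 ≤ d k) (hRRi : R * Ri = 1) (hRiR : Ri * R = 1)
    (u0U : (Matrix (Idx d) (Idx d) F)ˣ)
    (hu0r : ∀ k, ((u0U.val - 1) ^ k).rank = (N0 d F ^ k).rank)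
    (hu0z : ∀ k, N0 d F ^ k = 0 → (u0U.val - 1) ^ k = 0) (g : Matrix.symplecticGroup l F) :
    IsConj u0U (iotaHom R Ri hRRi hRiR g) ↔
      IsNilpotent (Matrix.toLin' ((g : Matrix (l ⊕ l) (l ⊕ l) F) - 1)) ∧
        jtype (Matrix.toLin' ((g : Matrix (l ⊕ l) (l ⊕ l) F) - 1)) =
          Multiset.map d Finset.univ.val := by
  have hnil0 : IsNilpotent (Matrix.toLin' (u0U.val - 1)) := by
    obtain ⟨k, hk⟩ := isNilpotent_N0 (K := F) d
    refine ⟨k, ?_⟩
    rw [← Matrix.toLin'_pow, hu0z k hk, map_zero]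
  have hj0 : jtype (Matrix.toLin' (u0U.val - 1)) = Multiset.map d Finset.univ.val := by
    rw [← jtype_jordanType (F := F) d hd]
    apply jtype_eq_of_finrank_eq _ hnil0 _ (isNilpotent_jordanType d)
    intro k
    rw [finrank_range_toLin'_pow, finrank_range_toLin'_pow, hu0r k]
    rfl
  rw [isConj_iota_iff]
  constructor
  · rintro ⟨ψ, hψ⟩
    rw [sub_one_intertwine] at hψ
    have hnilg := isNilpotent_of_conj ψ _ _ hψ hnil0
    refine ⟨hnilg, ?_⟩
    rw [← hj0]
    exact ((jtype_eq_iff _ hnil0 _ hnilg).2 ⟨ψ, hψ⟩).symm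
  · rintro ⟨hnilg, hj⟩
    obtain ⟨ψ, hψ⟩ := (jtype_eq_iff _ hnil0 _ hnilg).1 (hj0.trans hj.symm)
    exact ⟨ψ, (sub_one_intertwine _ _ ψ).2 hψ⟩

end type


section main

universe u

variable {F : Type u} [Field F] [Fintype F]

omit [Fintype F] in
theorem two_ne_zero_of_char (p : ℕ) [Fact p.Prime] [CharP F p] (hp : p ≠ 2) : (2 : F) ≠ 0 := by
  intro h
  have h1 : ((2 : ℕ) : F) = 0 := by
    rw [Nat.cast_ofNat]
    exact h
  rw [CharP.cast_eq_zero_iff F p] at h1
  have hpp : p.Prime := Fact.out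
  exact hp ((Nat.prime_dvd_prime_iff_eq hpp Nat.prime_two).1 h1)

/-- the number of classes of `Sp_2m(F)` of unipotent elements of a given Jordan type, in odd
characteristic -/
theorem card_classes_of_type (p : ℕ) [Fact p.Prime] [CharP F p] (hp : p ≠ 2) {m t : ℕ}
    (d : Fin t → ℕ) (hd : ∀ k, 1 ≤ d k) (hsum : ∑ k, d k = 2 * m)
    (heven : ∀ j : ℕ, Odd j → Even (Finset.univ.filter (fun k : Fin t => d k = j)).card) :
    Nat.card {C : ConjClasses ↥(Matrix.symplecticGroup (Fin m) F) //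
        ∃ g : ↥(Matrix.symplecticGroup (Fin m) F), ConjClasses.mk g = C ∧
          (IsNilpotent (Matrix.toLin' ((g : Matrix (Fin m ⊕ Fin m) (Fin m ⊕ Fin m) F) - 1)) ∧
            jtype (Matrix.toLin' ((g : Matrix (Fin m ⊕ Fin m) (Fin m ⊕ Fin m) F) - 1)) =
              Multiset.map d Finset.univ.val)} =
      2 ^ Fintype.card {a : BlockIdx d // Even a.1} := by
  classical
  have h2 : (2 : F) ≠ 0 := two_ne_zero_of_char p hp
  obtain ⟨P⟩ := exists_pairing (F := F) d heven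
  obtain ⟨u0, hu0τ, hu0c, hu0r, hu0z⟩ := exists_model_symp P h2
  let u0U : (Matrix (Idx d) (Idx d) F)ˣ := ⟨u0, tauS P u0, mul_eq_one_comm.1 hu0τ, hu0τ⟩
  have hcard : Fintype.card (Idx d) = Fintype.card (Fin m ⊕ Fin m) := by
    rw [Fintype.card_sigma, Fintype.card_sum, Fintype.card_fin]
    simp only [Fintype.card_fin]
    rw [hsum, two_mul]
  obtain ⟨R, Ri, hRRi, hRiR, hRJ⟩ := exists_congr_alt h2 hcard (Om P) (J (Fin m) F)
    (Om_transpose P) (det_Om_ne_zero P) (J_transpose (Fin m) F)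
    (isUnit_det_J (Fin m) F).ne_zero
  have key := card_classes_model P p hp h2 hd R Ri hRRi hRiR hRJ u0U hu0τ hu0c
  rw [← key]
  apply Nat.card_congr
  apply Equiv.subtypeEquivRight
  intro C
  constructor
  · rintro ⟨g, hg, hP⟩
    exact ⟨g, hg, (isConj_iota_iff_jtype R Ri hd hRRi hRiR u0U hu0r hu0z g).2 hP⟩
  · rintro ⟨g, hg, hP⟩
    exact ⟨g, hg, (isConj_iota_iff_jtype R Ri hd hRRi hRiR u0U hu0r hu0z g).1 hP⟩

end main

end Cfsg.Agent.Lib.Helper43_SpCent
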