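import Mathlib
import Cfsg.Agent.Lib.Helper43_Kron2

set_option autoImplicit false
set_option linter.unusedSectionVars false

/-!
# Kronecker products: finer rank bounds, similarity over general index types (helper43)
-/

namespace Cfsg.Agent.Lib.Helper43_SpTensor1

open Matrix Module Polynomial
open scoped Kronecker MatrixGroups
open Cfsg.Agent.Lib.Helper43_Kron1 Cfsg.Agent.Lib.Helper43_Kron2

section sim

variable {F : Type*} [Field F] {κ ι : Type*} [Fintype κ] [DecidableEq κ] [Fintype ι]
  [DecidableEq ι]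

theorem rank_eq_of_sim' (A : Matrix κ κ F) (B : Matrix ι ι F)
    (S : Matrix κ ι F) (S' : Matrix ι κ F) (hSS' : S * S' = 1) (hS'S : S' * S = 1)
    (h : A * S = S * B) : A.rank = B.rank := by
  have hA : A = S * (B * S') := by
    calc A = A * (S * S') := by rw [hSS', Matrix.mul_one]
      _ = (A * S) * S' := by rw [Matrix.mul_assoc]
      _ = S * (B * S') := by rw [h, Matrix.mul_assoc]
  have hB : B = S' * (A * S) := by
    calc B = (S' * S) * B := by rw [hS'S, Matrix.one_mul]
      _ = S' * (S * B) := by rw [Matrix.mul_assoc]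
      _ = S' * (A * S) := by rw [h]
  apply le_antisymm
  · calc A.rank = (S * (B * S')).rank := by rw [← hA]
      _ ≤ (B * S').rank := Matrix.rank_mul_le_right _ _
      _ ≤ B.rank := Matrix.rank_mul_le_left _ _
  · calc B.rank = (S' * (A * S)).rank := by rw [← hB]
      _ ≤ (A * S).rank := Matrix.rank_mul_le_right _ _
      _ ≤ A.rank := Matrix.rank_mul_le_left _ _

theorem sub_smul_of_sim' (A : Matrix κ κ F) (B : Matrix ι ι F)
    (S : Matrix κ ι F) (h : A * S = S * B) (l : F) :
    (A - l • (1 : Matrix κ κ F)) * S = S * (B - l • (1 : Matrix ι ι F)) := by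
  rw [Matrix.sub_mul, Matrix.mul_sub, h, Matrix.smul_mul, Matrix.mul_smul, Matrix.one_mul,
    Matrix.mul_one]

theorem pow_of_sim' (A : Matrix κ κ F) (B : Matrix ι ι F)
    (S : Matrix κ ι F) (h : A * S = S * B) (k : ℕ) : A ^ k * S = S * B ^ k := by
  induction k with
  | zero => rw [pow_zero, pow_zero, Matrix.one_mul, Matrix.mul_one]
  | succ k ih =>
    rw [pow_succ, pow_succ, Matrix.mul_assoc, h, ← Matrix.mul_assoc, ih, Matrix.mul_assoc]

theorem pow_eq_one_of_sim' (A : Matrix κ κ F) (B : Matrix ι ι F)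
    (S : Matrix κ ι F) (S' : Matrix ι κ F) (hS'S : S' * S = 1)
    (h : A * S = S * B) (k : ℕ) (hA : A ^ k = 1) : B ^ k = 1 := by
  have h1 := pow_of_sim' A B S h k
  rw [hA, Matrix.one_mul] at h1
  calc B ^ k = (S' * S) * B ^ k := by rw [hS'S, Matrix.one_mul]
    _ = S' * (S * B ^ k) := by rw [Matrix.mul_assoc]
    _ = 1 := by rw [← h1, hS'S]

theorem smul_sim' (A : Matrix κ κ F) (B : Matrix ι ι F)
    (S : Matrix κ ι F) (h : A * S = S * B) (c : F) : (c • A) * S = S * (c • B) := by
  rw [Matrix.smul_mul, Matrix.mul_smul, h]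

theorem aeval_of_sim (A : Matrix κ κ F) (B : Matrix ι ι F)
    (S : Matrix κ ι F) (h : A * S = S * B) (g : F[X]) :
    aeval A g * S = S * aeval B g := by
  induction g using Polynomial.induction_on' with
  | add p q hp hq => rw [map_add, map_add, Matrix.add_mul, Matrix.mul_add, hp, hq]
  | monomial n c =>
    have hA : aeval A (monomial n c) = c • A ^ n := by
      rw [aeval_monomial, Algebra.algebraMap_eq_smul_one, Matrix.smul_mul, Matrix.one_mul]
    have hB : aeval B (monomial n c) = c • B ^ n := by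
      rw [aeval_monomial, Algebra.algebraMap_eq_smul_one, Matrix.smul_mul, Matrix.one_mul]
    rw [hA, hB, Matrix.smul_mul, Matrix.mul_smul, pow_of_sim' A B S h n]

end sim

section kron

variable {F : Type*} [Field F] {a b : ℕ}

theorem aeval_one_kron (M : Matrix (Fin b) (Fin b) F) (g : F[X]) :
    aeval ((1 : Matrix (Fin a) (Fin a) F) ⊗ₖ M) g =
      (1 : Matrix (Fin a) (Fin a) F) ⊗ₖ (aeval M g) := by
  induction g using Polynomial.induction_on' with
  | add p q hp hq => rw [map_add, map_add, hp, hq, Matrix.kronecker_add]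
  | monomial n c =>
    have hA : aeval ((1 : Matrix (Fin a) (Fin a) F) ⊗ₖ M) (monomial n c) =
        c • ((1 : Matrix (Fin a) (Fin a) F) ⊗ₖ M) ^ n := by
      rw [aeval_monomial, Algebra.algebraMap_eq_smul_one, Matrix.smul_mul, Matrix.one_mul]
    have hB : aeval M (monomial n c) = c • M ^ n := by
      rw [aeval_monomial, Algebra.algebraMap_eq_smul_one, Matrix.smul_mul, Matrix.one_mul]
    rw [hA, hB, kron_pow, one_pow, Matrix.kronecker_smul]

/-- swapping the factors of a Kronecker product -/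
theorem kron_comm (A : Matrix (Fin a) (Fin a) F) (B : Matrix (Fin b) (Fin b) F) :
    B ⊗ₖ A = (A ⊗ₖ B).submatrix (Equiv.prodComm (Fin b) (Fin a))
      (Equiv.prodComm (Fin b) (Fin a)) := by
  ext ⟨j, i⟩ ⟨j', i'⟩
  simp only [Matrix.kronecker_apply, Matrix.submatrix_apply, Equiv.prodComm_apply, Prod.swap_prod_mk]
  exact mul_comm _ _

theorem kron_comm_sub (A : Matrix (Fin a) (Fin a) F) (B : Matrix (Fin b) (Fin b) F) (l : F) :
    B ⊗ₖ A - l • (1 : Matrix (Fin b × Fin a) (Fin b × Fin a) F) =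
      (A ⊗ₖ B - l • (1 : Matrix (Fin a × Fin b) (Fin a × Fin b) F)).submatrix
        (Equiv.prodComm (Fin b) (Fin a)) (Equiv.prodComm (Fin b) (Fin a)) := by
  ext ⟨j, i⟩ ⟨j', i'⟩
  simp only [Matrix.sub_apply, Matrix.smul_apply, Matrix.submatrix_apply, Matrix.kronecker_apply,
    Matrix.one_apply, Equiv.prodComm_apply, Prod.swap_prod_mk, Prod.mk.injEq, smul_eq_mul]
  by_cases hi : i = i' <;> by_cases hj : j = j' <;> simp [hi, hj, mul_comm]

theorem rank_kron_comm_sub (A : Matrix (Fin a) (Fin a) F) (B : Matrix (Fin b) (Fin b) F)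
    (l : F) :
    (B ⊗ₖ A - l • (1 : Matrix (Fin b × Fin a) (Fin b × Fin a) F)).rank =
      (A ⊗ₖ B - l • (1 : Matrix (Fin a × Fin b) (Fin a × Fin b) F)).rank := by
  rw [kron_comm_sub, Matrix.rank_submatrix]

/-- **rank bound, second factor**: if the second factor is not scalar, `x₁ ⊗ x₂ - λ` has rank
at least `a` -/
theorem le_rank_kron_sub_right (M₁ : Matrix (Fin a) (Fin a) F) (M₂ : Matrix (Fin b) (Fin b) F)
    (hM₂ : ∀ c : F, M₂ ≠ c • (1 : Matrix (Fin b) (Fin b) F))
    (hM₁ : ∀ w : Fin a → F, M₁ *ᵥ w = 0 → w = 0) (l : F) :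
    a ≤ (M₁ ⊗ₖ M₂ - l • (1 : Matrix (Fin a × Fin b) (Fin a × Fin b) F)).rank := by
  rw [← rank_kron_comm_sub]
  exact le_rank_kron_sub M₂ M₁ hM₂ hM₁ l

/-- the rank of `M ⊗ 1 - l` -/
theorem rank_kron_one_sub (M : Matrix (Fin a) (Fin a) F) (l : F) :
    (M ⊗ₖ (1 : Matrix (Fin b) (Fin b) F) -
      l • (1 : Matrix (Fin a × Fin b) (Fin a × Fin b) F)).rank =
      b * (M - l • (1 : Matrix (Fin a) (Fin a) F)).rank := by
  rw [← rank_kron_comm_sub, one_kron_sub, rank_one_kron]

/-- **rank bound with a cyclic vector**: if `u, M₁ u, …, M₁^k u` are linearly independent then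
`M₁ ⊗ M₂ - λ` has rank at least `k b` -/
theorem le_rank_kron_sub_pow (M₁ : Matrix (Fin a) (Fin a) F) (M₂ : Matrix (Fin b) (Fin b) F)
    (k : ℕ) (u : Fin a → F)
    (hu : LinearIndependent F (fun j : Fin (k + 1) => (M₁ ^ (j : ℕ)) *ᵥ u))
    (hM₂ : ∀ w : Fin b → F, M₂ *ᵥ w = 0 → w = 0) (l : F) :
    k * b ≤ (M₁ ⊗ₖ M₂ - l • (1 : Matrix (Fin a × Fin b) (Fin a × Fin b) F)).rank := by
  classical
  set N := M₁ ⊗ₖ M₂ - l • (1 : Matrix (Fin a × Fin b) (Fin a × Fin b) F) with hN
  set E : ℕ → (Fin a → F) := fun j => (M₁ ^ j) *ᵥ u with hE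
  have hEsucc : ∀ j, M₁ *ᵥ E j = E (j + 1) := by
    intro j
    rw [hE]
    show M₁ *ᵥ ((M₁ ^ j) *ᵥ u) = (M₁ ^ (j + 1)) *ᵥ u
    rw [Matrix.mulVec_mulVec, ← pow_succ']
  -- the map `(w_j) ↦ N (∑ E_j ⊗ w_j)`
  let ψ : (Fin k → Fin b → F) →ₗ[F] (Fin a × Fin b → F) :=
    ∑ j : Fin k, (tens (E j)) ∘ₗ (LinearMap.proj j)
  set φ : (Fin k → Fin b → F) →ₗ[F] (Fin a × Fin b → F) := N.mulVecLin ∘ₗ ψ with hφ
  have hψapp : ∀ (w : Fin k → Fin b → F), ψ w = ∑ j : Fin k, tens (E j) (w j) := by
    intro w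
    simp only [ψ, LinearMap.sum_apply, LinearMap.comp_apply, LinearMap.proj_apply]
  have hφapp : ∀ (w : Fin k → Fin b → F) (i : Fin a) (j' : Fin b),
      φ w (i, j') = ∑ j : Fin k, (E (j + 1) i * (M₂ *ᵥ w j) j' - l * (E j i * w j j')) := by
    intro w i j'
    show (N *ᵥ (ψ w)) (i, j') = _
    rw [hψapp, Matrix.mulVec_sum, Finset.sum_apply]
    apply Finset.sum_congr rfl
    intro j _
    show (N *ᵥ (fun ij : Fin a × Fin b => E j ij.1 * w j ij.2)) (i, j') = _
    rw [hN, Matrix.sub_mulVec, Pi.sub_apply, kron_mulVec_tens, Matrix.smul_mulVec,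
      Matrix.one_mulVec, Pi.smul_apply, smul_eq_mul, hEsucc]
  have hinj : Function.Injective φ := by
    rw [← LinearMap.ker_eq_bot, Submodule.eq_bot_iff]
    intro w hw
    rw [LinearMap.mem_ker] at hw
    -- extend `w` by zero
    set w' : ℕ → Fin b → F := fun j => if h : j < k then w ⟨j, h⟩ else 0 with hw'
    have hrel : ∀ j, j < k → M₂ *ᵥ w' j = l • w' (j + 1) := by
      intro j hj
      funext j'
      -- coefficients
      set c₁ : Fin (k + 1) → F := fun m =>
        if h : 0 < (m : ℕ) then (M₂ *ᵥ w' ((m : ℕ) - 1)) j' else 0 with hc₁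
      set c₂ : Fin (k + 1) → F := fun m => l * w' (m : ℕ) j' with hc₂
      have hsum : ∑ m : Fin (k + 1), (c₁ m - c₂ m) • ((M₁ ^ (m : ℕ)) *ᵥ u) = 0 := by
        funext i
        have h2 := congrFun hw (i, j')
        rw [hφapp, Pi.zero_apply] at h2
        rw [Finset.sum_apply, Pi.zero_apply]
        simp only [Pi.smul_apply, smul_eq_mul, sub_mul]
        rw [Finset.sum_sub_distrib]
        have hs1 : ∑ m : Fin (k + 1), c₁ m * ((M₁ ^ (m : ℕ)) *ᵥ u) i =
            ∑ j : Fin k, E (j + 1) i * (M₂ *ᵥ w j) j' := by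
          rw [Fin.sum_univ_succ]
          have h0 : c₁ 0 = 0 := by
            rw [hc₁]
            simp
          rw [h0, zero_mul, zero_add]
          apply Finset.sum_congr rfl
          intro j _
          have h1 : c₁ j.succ = (M₂ *ᵥ w j) j' := by
            rw [hc₁]
            simp only [Fin.val_succ, Nat.succ_pos, dif_pos, Nat.add_sub_cancel]
            rw [hw']
            simp only [dif_pos j.isLt]
          rw [h1, mul_comm]
          rfl
        have hs2 : ∑ m : Fin (k + 1), c₂ m * ((M₁ ^ (m : ℕ)) *ᵥ u) i =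
            ∑ j : Fin k, l * (E j i * w j j') := by
          rw [Fin.sum_univ_castSucc]
          have hlast : c₂ (Fin.last k) = 0 := by
            rw [hc₂]
            simp only [Fin.val_last]
            rw [hw']
            simp
          rw [hlast, zero_mul, add_zero]
          apply Finset.sum_congr rfl
          intro j _
          have h1 : c₂ j.castSucc = l * w j j' := by
            rw [hc₂]
            simp only [Fin.val_castSucc]
            rw [hw']
            simp only [dif_pos j.isLt]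
          rw [h1]
          show l * w j j' * E j i = l * (E j i * w j j')
          ring
        rw [hs1, hs2, ← Finset.sum_sub_distrib]
        exact h2
      have hc := (Fintype.linearIndependent_iff.1 hu) (fun m => c₁ m - c₂ m) hsum
        ⟨j + 1, by omega⟩
      have h3 : c₁ ⟨j + 1, by omega⟩ = (M₂ *ᵥ w' j) j' := by
        rw [hc₁]
        simp
      have h4 : c₂ ⟨j + 1, by omega⟩ = l * w' (j + 1) j' := by
        rw [hc₂]
      rw [h3, h4, sub_eq_zero] at hc
      rw [hc, Pi.smul_apply, smul_eq_mul]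
    have hzero : ∀ t j, j + t = k → w' j = 0 := by
      intro t
      induction t with
      | zero =>
        intro j hj
        rw [hw']
        simp only
        rw [dif_neg (by omega)]
      | succ t ih =>
        intro j hj
        have h1 := hrel j (by omega)
        rw [ih (j + 1) (by omega), smul_zero] at h1
        exact hM₂ _ h1
    funext j
    have := hzero (k - j) j (by omega)
    rw [hw'] at this
    simp only [dif_pos j.isLt] at this
    exact this
  have hle : LinearMap.range φ ≤ LinearMap.range N.mulVecLin := by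
    rw [hφ]
    exact LinearMap.range_comp_le_range _ _
  calc k * b = finrank F (Fin k → Fin b → F) := by
        rw [Module.finrank_pi_fintype]
        simp
    _ = finrank F (LinearMap.range φ) := (LinearMap.finrank_range_of_inj hinj).symm
    _ ≤ finrank F (LinearMap.range N.mulVecLin) := Submodule.finrank_mono hle
    _ = N.rank := rfl

/-- **rank bound with a cyclic vector, second factor** -/
theorem le_rank_kron_sub_pow_right (M₁ : Matrix (Fin a) (Fin a) F)
    (M₂ : Matrix (Fin b) (Fin b) F) (k : ℕ) (u : Fin b → F)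
    (hu : LinearIndependent F (fun j : Fin (k + 1) => (M₂ ^ (j : ℕ)) *ᵥ u))
    (hM₁ : ∀ w : Fin a → F, M₁ *ᵥ w = 0 → w = 0) (l : F) :
    k * a ≤ (M₁ ⊗ₖ M₂ - l • (1 : Matrix (Fin a × Fin b) (Fin a × Fin b) F)).rank := by
  rw [← rank_kron_comm_sub]
  exact le_rank_kron_sub_pow M₂ M₁ k u hu hM₁ l

end kron

end Cfsg.Agent.Lib.Helper43_SpTensor1
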