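import Mathlib
import Cfsg.Agent.Lib.Helper43_SpTensor1
import Cfsg.Agent.Lib.Helper99_PrimeOrderSL

set_option autoImplicit false
set_option linter.unusedSectionVars false

/-!
# Cyclic vectors of elements of prime order, and derangement criteria for stabilizers of tensor
decompositions over a general index type (helper43)
-/

namespace Cfsg.Agent.Lib.Helper43_SpTensor2

open Matrix Module Polynomial
open scoped Kronecker MatrixGroups
open Cfsg.Agent.Lib.Helper43_Kron1 Cfsg.Agent.Lib.Helper43_Kron2
  Cfsg.Agent.Lib.Helper43_SpTensor1 Cfsg.Agent.Lib.Helper99_InvSub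
  Cfsg.Agent.Lib.Helper99_PrimeOrderSL

section cyclic

variable {F : Type*} [Field F] [Fintype F] {p : ℕ} [Fact p.Prime] [CharP F p]
variable {V : Type*} [AddCommGroup V] [Module F V] [FiniteDimensional F V]

/-- an element of prime order `r ≠ p` which is not the identity has a vector `u` such that
`u, T u, …, T^(i-1) u` are linearly independent, `i = ord_r(q)` -/
theorem exists_indep_iterates (T : Module.End F V) {r : ℕ} (hr : r.Prime) (hrp : r ≠ p)
    (hT : T ^ r = 1) (hT1 : T ≠ 1) :
    ∃ u : V, LinearIndependent F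
      (fun j : Fin (orderOf ((Fintype.card F : ℕ) : ZMod r)) => (T ^ (j : ℕ)) u) := by
  classical
  set i := orderOf ((Fintype.card F : ℕ) : ZMod r) with hi
  have hi1 : 1 ≤ i :=
    (Cfsg.Agent.Lib.Helper40_PrimeOrderClasses.exists_cyclotomic_factors (F := F) p r hr hrp).1
  have hss : T.IsSemisimple := isSemisimple_of_pow_eq_one T r (natCast_ne_zero (p := p) hr hrp) hT
  have H := hasBlocks_of_pow_eq_one (p := p) T hr hrp hT
  set E := Module.End.eigenspace T 1 with hE
  have hEinv : E ∈ T.invtSubmodule := by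
    rw [Module.End.mem_invtSubmodule]
    intro v hv
    rw [Submodule.mem_comap]
    rw [hE, Module.End.mem_eigenspace_iff, one_smul] at hv ⊢
    rw [hv, hv]
  have htop : (⊤ : Submodule F V) ∈ T.invtSubmodule := by
    rw [Module.End.mem_invtSubmodule]
    intro v _
    exact Submodule.mem_top
  obtain ⟨C, hC, -, hdisj, hsup⟩ := exists_compl_in hss hEinv htop le_top
  have hC0 : C ≠ ⊥ := by
    rintro rfl
    rw [sup_bot_eq] at hsup
    apply hT1
    apply LinearMap.ext
    intro v
    have hv : v ∈ E := by rw [hsup]; exact Submodule.mem_top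
    rw [hE, Module.End.mem_eigenspace_iff, one_smul] at hv
    rw [hv, Module.End.one_apply]
  obtain ⟨u, huC, hu0⟩ := Submodule.exists_mem_ne_zero_of_ne_bot hC0
  have hCinv : ∀ v ∈ C, T v ∈ C := fun v hv => (Module.End.mem_invtSubmodule T).1 hC hv
  have hpowC : ∀ j : ℕ, (T ^ j) u ∈ C := by
    intro j
    induction j with
    | zero => rw [pow_zero, Module.End.one_apply]; exact huC
    | succ j ih => rw [pow_succ', Module.End.mul_apply]; exact hCinv _ ih
  refine ⟨u, ?_⟩
  -- induction on the number of iterates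
  have key : ∀ m : ℕ, m ≤ i → LinearIndependent F (fun j : Fin m => (T ^ (j : ℕ)) u) := by
    intro m
    induction m with
    | zero => intro _; exact linearIndependent_empty_type
    | succ m ih =>
      intro hm
      have hprev := ih (by omega)
      have hsnoc : (fun j : Fin (m + 1) => (T ^ (j : ℕ)) u) =
          Fin.snoc (fun j : Fin m => (T ^ (j : ℕ)) u) ((T ^ m) u) := by
        funext j
        refine Fin.lastCases ?_ (fun j' => ?_) j
        · rw [Fin.snoc_last, Fin.val_last]
        · rw [Fin.snoc_castSucc, Fin.val_castSucc]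
      rw [hsnoc, linearIndependent_finSnoc]
      refine ⟨hprev, ?_⟩
      intro hmem
      -- the span of the first `m` iterates is invariant
      set W : Submodule F V := Submodule.span F (Set.range fun j : Fin m => (T ^ (j : ℕ)) u)
        with hW
      have hWinv : W ∈ T.invtSubmodule := by
        rw [Module.End.mem_invtSubmodule, hW, Submodule.span_le]
        rintro _ ⟨j, rfl⟩
        rw [SetLike.mem_coe, Submodule.mem_comap]
        by_cases hj : (j : ℕ) + 1 < m
        · have : T ((T ^ (j : ℕ)) u) = (T ^ ((⟨(j : ℕ) + 1, hj⟩ : Fin m) : ℕ)) u := by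
            rw [← Module.End.mul_apply, ← pow_succ']
          rw [this]
          exact Submodule.subset_span ⟨_, rfl⟩
        · have hjm : (j : ℕ) + 1 = m := by have := j.isLt; omega
          have : T ((T ^ (j : ℕ)) u) = (T ^ m) u := by
            rw [← Module.End.mul_apply, ← pow_succ', hjm]
          rw [this]
          exact hmem
      have hWC : W ≤ C := by
        rw [hW, Submodule.span_le]
        rintro _ ⟨j, rfl⟩
        exact hpowC _
      have hm0 : 0 < m := by
        rcases Nat.eq_zero_or_pos m with h | h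
        · exfalso
          subst h
          rw [hW] at hmem
          have hempty : (Set.range fun j : Fin 0 => (T ^ (j : ℕ)) u) = ∅ := by
            ext v
            simp
          rw [hempty, Submodule.span_empty, Submodule.mem_bot, pow_zero,
            Module.End.one_apply] at hmem
          exact hu0 hmem
        · exact h
      have huW : u ∈ W := by
        have : u = (T ^ ((⟨0, hm0⟩ : Fin m) : ℕ)) u := by
          rw [pow_zero, Module.End.one_apply]
        rw [this]
        exact Submodule.subset_span ⟨_, rfl⟩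
      have hW0 : W ≠ ⊥ := by
        intro h
        rw [h, Submodule.mem_bot] at huW
        exact hu0 huW
      have hWE : Disjoint W E := (hdisj.mono_right hWC).symm
      have hdvd := dvd_finrank_of_disjoint hss hi1 H _ W rfl hWinv hWE
      have hpos : 0 < finrank F W := by
        rw [Module.finrank_pos_iff_exists_ne_zero]
        exact ⟨⟨u, huW⟩, fun h => hu0 (congrArg Subtype.val h)⟩
      have hle : finrank F W ≤ m := by
        have := finrank_range_le_card (R := F) (fun j : Fin m => (T ^ (j : ℕ)) u)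
        rwa [Fintype.card_fin] at this
      have := Nat.le_of_dvd hpos hdvd
      omega
  exact key i le_rfl

/-- matrix form -/
theorem exists_indep_pow {k : ℕ} (M : Matrix (Fin k) (Fin k) F) {r : ℕ} (hr : r.Prime)
    (hrp : r ≠ p) (hM : M ^ r = 1) (hM1 : M ≠ 1) :
    ∃ u : Fin k → F, LinearIndependent F
      (fun j : Fin (orderOf ((Fintype.card F : ℕ) : ZMod r)) => (M ^ (j : ℕ)) *ᵥ u) := by
  set T : Module.End F (Fin k → F) := Matrix.toLin' M with hT
  have hTr : T ^ r = 1 := toLin'_pow_eq_one M hM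
  have hT1 : T ≠ 1 := by
    intro h
    apply hM1
    apply Matrix.toLin'.injective
    rw [← hT, h, Matrix.toLin'_one]
    rfl
  obtain ⟨u, hu⟩ := exists_indep_iterates (p := p) T hr hrp hTr hT1
  refine ⟨u, ?_⟩
  have heq : (fun j : Fin (orderOf ((Fintype.card F : ℕ) : ZMod r)) => (M ^ (j : ℕ)) *ᵥ u) =
      fun j : Fin (orderOf ((Fintype.card F : ℕ) : ZMod r)) => (T ^ (j : ℕ)) u := by
    funext j
    rw [hT, ← Matrix.toLin'_pow, Matrix.toLin'_apply]
  rw [heq]
  exact hu

end cyclic

section structure_lemma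

variable {F : Type*} [Field F] {a b : ℕ} {κ : Type} [Fintype κ] [DecidableEq κ]

/-- elements of the stabilizer of a tensor decomposition are similar to Kronecker products
(general index type) -/
theorem exists_kron_of_conj_mem' (e : κ ≃ Fin a × Fin b) (P x g : GL κ F)
    (h : g⁻¹ * x * g ∈ Cfsg.Geo.tensorProductSubgroup a b e P) :
    ∃ (x₁ : GL (Fin a) F) (x₂ : GL (Fin b) F) (S : Matrix κ (Fin a × Fin b) F)
      (S' : Matrix (Fin a × Fin b) κ F), S * S' = 1 ∧ S' * S = 1 ∧
      x.1 * S = S * (x₁.1 ⊗ₖ x₂.1) := by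
  obtain ⟨k', ⟨k, hk, rfl⟩, hk'⟩ := h
  obtain ⟨x₁, x₂, hkx⟩ := hk
  have h1 : P * Cfsg.Geo.glReindex e.symm k * P⁻¹ = g⁻¹ * x * g := hk'
  have h2 : x * (g * P) = (g * P) * Cfsg.Geo.glReindex e.symm k := by
    have : x = g * (P * Cfsg.Geo.glReindex e.symm k * P⁻¹) * g⁻¹ := by rw [h1]; group
    rw [this]; group
  set T : Matrix κ κ F := ((g * P : GL κ F) : Matrix κ κ F) with hT
  set Ti : Matrix κ κ F := (((g * P)⁻¹ : GL κ F) : Matrix κ κ F) with hTi
  have hTTi : T * Ti = 1 := by rw [hT, hTi, ← Units.val_mul, mul_inv_cancel, Units.val_one]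
  have hTiT : Ti * T = 1 := by rw [hT, hTi, ← Units.val_mul, inv_mul_cancel, Units.val_one]
  have hval : ((Cfsg.Geo.glReindex e.symm k : GL κ F) : Matrix κ κ F) =
      (k : Matrix (Fin a × Fin b) (Fin a × Fin b) F).submatrix e e := rfl
  have h3 : x.1 * T = T * (k.1.submatrix e e) := by
    have := congrArg (fun u : GL κ F => (u : Matrix κ κ F)) h2
    simp only [Units.val_mul] at this
    rw [hval] at this
    rw [hT, Units.val_mul]
    exact this
  refine ⟨x₁, x₂, T.submatrix id e.symm, Ti.submatrix e.symm id, ?_, ?_, ?_⟩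
  · rw [Matrix.submatrix_mul_equiv, hTTi, Matrix.submatrix_id_id]
  · have : Ti.submatrix (⇑e.symm) id * T.submatrix id (⇑e.symm) =
        (Ti * T).submatrix e.symm e.symm := by
      rw [← Matrix.submatrix_mul_equiv Ti T e.symm (Equiv.refl _) e.symm]
      rfl
    rw [this, hTiT, Matrix.submatrix_one_equiv]
  · have h4 : x.1 * T.submatrix id e.symm = (x.1 * T).submatrix id e.symm := rfl
    have h5 : (x₁.1 ⊗ₖ x₂.1) = (k.1.submatrix e e).submatrix e.symm e.symm := by
      rw [← hkx, Matrix.submatrix_submatrix]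
      simp
    rw [h4, h3, h5, Matrix.submatrix_mul_equiv]

theorem kron_smul_one (M : Matrix (Fin a) (Fin a) F) (β : F) :
    M ⊗ₖ (β • (1 : Matrix (Fin b) (Fin b) F)) = (β • M) ⊗ₖ (1 : Matrix (Fin b) (Fin b) F) := by
  rw [Matrix.kronecker_smul, Matrix.smul_kronecker]

theorem kron_one_eq_one (hb : 1 ≤ b) (M : Matrix (Fin a) (Fin a) F)
    (h : M ⊗ₖ (1 : Matrix (Fin b) (Fin b) F) = 1) : M = 1 := by
  let j₀ : Fin b := ⟨0, hb⟩
  ext i i'
  have h1 := congrFun (congrFun h (i, j₀)) (i', j₀)
  rw [Matrix.kronecker_apply, Matrix.one_apply_eq, mul_one, Matrix.one_apply] at h1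
  rw [h1, Matrix.one_apply]
  by_cases hii : i = i'
  · subst hii; simp
  · rw [if_neg hii, if_neg (by intro hc; exact hii (Prod.ext_iff.1 hc).1)]

/-- if a Kronecker product is the identity, the second factor is scalar -/
theorem kron_eq_one_right (ha : 1 ≤ a) (hb : 1 ≤ b) (A : Matrix (Fin a) (Fin a) F)
    (B : Matrix (Fin b) (Fin b) F) (h : A ⊗ₖ B = 1) :
    ∃ μ : F, μ ≠ 0 ∧ B = μ • (1 : Matrix (Fin b) (Fin b) F) := by
  apply kron_eq_one hb ha B A
  rw [kron_comm, h, Matrix.submatrix_one_equiv]

/-- **Derangement criterion (small rank)**: an element with `rank (x - l) = m`, where `m` is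
smaller than `a` or `b` and divisible by neither, has no conjugate in the stabilizer of the tensor
decomposition -/
theorem not_conj_of_rank' (e : κ ≃ Fin a × Fin b) (P x g : GL κ F) (l : F) (m : ℕ)
    (hrank : (x.1 - l • (1 : Matrix κ κ F)).rank = m) (hlt : m < a ∨ m < b)
    (hna : ¬ a ∣ m) (hnb : ¬ b ∣ m) :
    g⁻¹ * x * g ∉ Cfsg.Geo.tensorProductSubgroup a b e P := by
  intro hmem
  obtain ⟨x₁, x₂, S, S', hSS', hS'S, hxS⟩ := exists_kron_of_conj_mem' e P x g hmem
  have hrankY : (x₁.1 ⊗ₖ x₂.1 - l • (1 : Matrix (Fin a × Fin b) (Fin a × Fin b) F)).rank = m := by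
    rw [← rank_eq_of_sim' _ _ S S' hSS' hS'S (sub_smul_of_sim' _ _ S hxS l), hrank]
  have h1 : ∀ w : Fin a → F, x₁.1 *ᵥ w = 0 → w = 0 := GL_mulVec_eq_zero x₁
  have h2 : ∀ w : Fin b → F, x₂.1 *ᵥ w = 0 → w = 0 := GL_mulVec_eq_zero x₂
  by_cases hs1 : ∃ α : F, x₁.1 = α • (1 : Matrix (Fin a) (Fin a) F)
  · obtain ⟨α, hα⟩ := hs1
    rw [hα, smul_one_kron, one_kron_sub, rank_one_kron] at hrankY
    exact hna ⟨_, hrankY.symm⟩
  · push Not at hs1
    have hb_le := le_rank_kron_sub x₁.1 x₂.1 hs1 h2 l
    rw [hrankY] at hb_le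
    by_cases hs2 : ∃ β : F, x₂.1 = β • (1 : Matrix (Fin b) (Fin b) F)
    · obtain ⟨β, hβ⟩ := hs2
      rw [hβ, kron_smul_one, rank_kron_one_sub] at hrankY
      exact hnb ⟨_, hrankY.symm⟩
    · push Not at hs2
      have ha_le := le_rank_kron_sub_right x₁.1 x₂.1 hs2 h1 l
      rw [hrankY] at ha_le
      omega

end structure_lemma

end Cfsg.Agent.Lib.Helper43_SpTensor2
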