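import Mathlib
import Cfsg.Agent.Lib.Helper43_SpTensor2

set_option autoImplicit false
set_option linter.unusedSectionVars false

/-!
# The minimal elements of odd prime order are not in the stabilizer of a tensor decomposition
`Sp_a ⊗ O_b` (helper43)
-/

namespace Cfsg.Agent.Lib.Helper43_SpTensor3

open Matrix Module Polynomial
open scoped Kronecker MatrixGroups
open Cfsg.Agent.Lib.Helper43_Kron1 Cfsg.Agent.Lib.Helper43_Kron2
  Cfsg.Agent.Lib.Helper43_SpTensor1 Cfsg.Agent.Lib.Helper43_SpTensor2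
  Cfsg.Agent.Lib.Helper99_PrimeOrderSL

variable {F : Type*} [Field F] [Fintype F] {p : ℕ} [Fact p.Prime] [CharP F p]
variable {a b : ℕ} {κ : Type} [Fintype κ] [DecidableEq κ]

/-- **Derangement criterion (one minimal block)**: an element `x` of prime order `r ≠ p` with
`rank (x - 1) = i` (`i = ord_r(q)` even) or `rank (x - 1) = 2 i` (`i` odd, and some polynomial in
`x` has odd rank) has no conjugate in the stabilizer of a tensor decomposition with `a` even and
`b ≥ 3`. -/
theorem not_conj_of_atom (ha : 2 ≤ a) (hae : Even a) (hb : 3 ≤ b)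
    (e : κ ≃ Fin a × Fin b) (P x g : GL κ F) {r : ℕ} (hr : r.Prime) (hrp : r ≠ p)
    (hxr : x.1 ^ r = 1) (c : ℕ) (hrank : (x.1 - 1).rank = c)
    (hc : (Even (orderOf ((Fintype.card F : ℕ) : ZMod r)) ∧
        c = orderOf ((Fintype.card F : ℕ) : ZMod r)) ∨
      (Odd (orderOf ((Fintype.card F : ℕ) : ZMod r)) ∧
        c = 2 * orderOf ((Fintype.card F : ℕ) : ZMod r) ∧
        ∃ w : F[X], Odd (aeval x.1 w).rank)) :
    g⁻¹ * x * g ∉ Cfsg.Geo.tensorProductSubgroup a b e P := by
  intro hmem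
  obtain ⟨x₁, x₂, S, S', hSS', hS'S, hxS⟩ := exists_kron_of_conj_mem' e P x g hmem
  set i := orderOf ((Fintype.card F : ℕ) : ZMod r) with hi
  have hi1 : 1 ≤ i :=
    (Cfsg.Agent.Lib.Helper40_PrimeOrderClasses.exists_cyclotomic_factors (F := F) p r hr hrp).1
  have hYr0 : (x₁.1 ⊗ₖ x₂.1) ^ r = 1 := pow_eq_one_of_sim' _ _ S S' hS'S hxS r hxr
  have hrankY : (x₁.1 ⊗ₖ x₂.1 - (1 : F) • (1 : Matrix (Fin a × Fin b) (Fin a × Fin b) F)).rank
      = c := by
    have h2 := rank_eq_of_sim' _ _ S S' hSS' hS'S (sub_smul_of_sim' _ _ S hxS 1)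
    rw [one_smul] at h2
    rw [← h2, hrank]
  have hpolyY : ∀ w : F[X], (aeval (x₁.1 ⊗ₖ x₂.1) w).rank = (aeval x.1 w).rank := fun w =>
    (rank_eq_of_sim' _ _ S S' hSS' hS'S (aeval_of_sim _ _ S hxS w)).symm
  have hc1 : 1 ≤ c := by
    rcases hc with ⟨-, h⟩ | ⟨-, h, -⟩ <;> omega
  have hc2 : c ≤ 2 * i := by
    rcases hc with ⟨-, h⟩ | ⟨-, h, -⟩ <;> omega
  have h1inj : ∀ w : Fin a → F, x₁.1 *ᵥ w = 0 → w = 0 := GL_mulVec_eq_zero x₁
  have h2inj : ∀ w : Fin b → F, x₂.1 *ᵥ w = 0 → w = 0 := GL_mulVec_eq_zero x₂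
  have hYr : (x₁.1 ^ r) ⊗ₖ (x₂.1 ^ r) = 1 := by rw [← kron_pow]; exact hYr0
  by_cases hs1 : ∃ α : F, x₁.1 = α • (1 : Matrix (Fin a) (Fin a) F)
  · -- the first factor is scalar
    obtain ⟨α, hα⟩ := hs1
    set M : Matrix (Fin b) (Fin b) F := α • x₂.1 with hM
    have hY : x₁.1 ⊗ₖ x₂.1 = (1 : Matrix (Fin a) (Fin a) F) ⊗ₖ M := by
      rw [hα, smul_one_kron]
    rw [hY] at hrankY hYr0 hpolyY
    rw [kron_pow, one_pow] at hYr0
    have hMr : M ^ r = 1 := one_kron_eq_one (by omega) _ hYr0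
    rw [one_kron_sub, rank_one_kron, one_smul] at hrankY
    obtain ⟨t, ht⟩ := rank_sub_one_eq_mul (p := p) M hr hrp hi1 hMr
    rw [← hi] at ht
    rw [ht] at hrankY
    rcases hc with ⟨-, hci⟩ | ⟨-, -, w, hw⟩
    · have h5 : i * (a * t) = i * 1 := by rw [mul_one]; nlinarith [hrankY]
      have h6 : a * t = 1 := Nat.eq_of_mul_eq_mul_left (by omega) h5
      have h7 : a = 1 := Nat.eq_one_of_mul_eq_one_right h6
      omega
    · have h8 := hpolyY w
      rw [aeval_one_kron, rank_one_kron] at h8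
      rw [← h8] at hw
      rw [Nat.odd_iff] at hw
      have : Even (a * (aeval M w).rank) := hae.mul_right _
      rw [Nat.even_iff] at this
      omega
  · push Not at hs1
    have hb_le := le_rank_kron_sub x₁.1 x₂.1 hs1 h2inj 1
    rw [hrankY] at hb_le
    by_cases hs2 : ∃ β : F, x₂.1 = β • (1 : Matrix (Fin b) (Fin b) F)
    · -- the second factor is scalar
      obtain ⟨β, hβ⟩ := hs2
      set M : Matrix (Fin a) (Fin a) F := β • x₁.1 with hM
      have hY : x₁.1 ⊗ₖ x₂.1 = M ⊗ₖ (1 : Matrix (Fin b) (Fin b) F) := by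
        rw [hβ, kron_smul_one]
      rw [hY] at hrankY hYr0
      rw [kron_pow, one_pow] at hYr0
      have hMr : M ^ r = 1 := kron_one_eq_one (by omega) _ hYr0
      rw [rank_kron_one_sub, one_smul] at hrankY
      obtain ⟨s, hs⟩ := rank_sub_one_eq_mul (p := p) M hr hrp hi1 hMr
      rw [← hi] at hs
      rw [hs] at hrankY
      rcases Nat.eq_zero_or_pos s with h0 | hpos
      · rw [h0, mul_zero, mul_zero] at hrankY
        omega
      · have h3 : 3 * i ≤ b * (i * s) := by
          calc 3 * i ≤ b * i := Nat.mul_le_mul_right i hb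
            _ = b * (i * 1) := by rw [mul_one]
            _ ≤ b * (i * s) := Nat.mul_le_mul_left b (Nat.mul_le_mul_left i hpos)
        omega
    · push Not at hs2
      have ha_le := le_rank_kron_sub_right x₁.1 x₂.1 hs2 h1inj 1
      rw [hrankY] at ha_le
      by_cases hi2 : i = 1
      · omega
      have he2 : 2 ≤ i := by omega
      have hrq : ¬ r ∣ Fintype.card F - 1 := not_dvd_card_sub_one he2
      obtain ⟨μ, hμ0, hμ⟩ := kron_eq_one (by omega) (by omega) _ _ hYr
      obtain ⟨ν, hν0, hν⟩ := exists_pow_eq hr hrq hμ0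
      set M₁ : Matrix (Fin a) (Fin a) F := ν⁻¹ • x₁.1 with hM₁
      set M₂ : Matrix (Fin b) (Fin b) F := ν • x₂.1 with hM₂
      have hY : x₁.1 ⊗ₖ x₂.1 = M₁ ⊗ₖ M₂ := by
        rw [hM₁, hM₂, Matrix.smul_kronecker, Matrix.kronecker_smul, smul_smul,
          inv_mul_cancel₀ hν0, one_smul]
      have hM₁r : M₁ ^ r = 1 := by
        rw [hM₁, _root_.smul_pow, hμ, smul_smul, inv_pow, hν, inv_mul_cancel₀ hμ0, one_smul]
      rw [hY] at hrankY hYr0
      rw [kron_pow, hM₁r] at hYr0
      have hM₂r : M₂ ^ r = 1 := one_kron_eq_one (by omega) _ hYr0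
      have hM₁1 : M₁ ≠ 1 := by
        intro h
        apply hs1 ν
        calc x₁.1 = ν • M₁ := by rw [hM₁, smul_smul, mul_inv_cancel₀ hν0, one_smul]
          _ = ν • 1 := by rw [h]
      have hM₂1 : M₂ ≠ 1 := by
        intro h
        apply hs2 ν⁻¹
        calc x₂.1 = ν⁻¹ • M₂ := by rw [hM₂, smul_smul, inv_mul_cancel₀ hν0, one_smul]
          _ = ν⁻¹ • 1 := by rw [h]
      have hM₁inj : ∀ w : Fin a → F, M₁ *ᵥ w = 0 → w = 0 := by
        intro w hw
        apply h1inj
        rw [hM₁, Matrix.smul_mulVec] at hw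
        exact (smul_eq_zero.1 hw).resolve_left (inv_ne_zero hν0)
      have hM₂inj : ∀ w : Fin b → F, M₂ *ᵥ w = 0 → w = 0 := by
        intro w hw
        apply h2inj
        rw [hM₂, Matrix.smul_mulVec] at hw
        exact (smul_eq_zero.1 hw).resolve_left hν0
      obtain ⟨u₁, hu₁⟩ := exists_indep_pow (p := p) M₁ hr hrp hM₁r hM₁1
      obtain ⟨u₂, hu₂⟩ := exists_indep_pow (p := p) M₂ hr hrp hM₂r hM₂1
      rw [← hi] at hu₁ hu₂
      obtain ⟨k, hk⟩ : ∃ k, i = k + 1 := ⟨i - 1, by omega⟩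
      have hu₁' : LinearIndependent F (fun j : Fin (k + 1) => (M₁ ^ (j : ℕ)) *ᵥ u₁) := by
        have := hu₁.comp (Fin.cast hk.symm) (Fin.cast_injective _)
        exact this
      have hu₂' : LinearIndependent F (fun j : Fin (k + 1) => (M₂ ^ (j : ℕ)) *ᵥ u₂) := by
        have := hu₂.comp (Fin.cast hk.symm) (Fin.cast_injective _)
        exact this
      have hkb := le_rank_kron_sub_pow M₁ M₂ k u₁ hu₁' hM₂inj 1
      have hka := le_rank_kron_sub_pow_right M₁ M₂ k u₂ hu₂' hM₁inj 1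
      rw [hrankY] at hkb hka
      have hia : i ≤ a := by
        have := hu₁.fintype_card_le_finrank
        rwa [Fintype.card_fin, Module.finrank_fin_fun] at this
      rcases hc with ⟨hie, hci⟩ | ⟨hio, hci, -⟩
      · have h3 : k * 3 ≤ k * b := Nat.mul_le_mul_left k hb
        omega
      · have hia1 : i + 1 ≤ a := by
          rcases Nat.lt_or_ge i a with h | h
          · omega
          · exfalso
            have hai : a = i := le_antisymm h hia
            rw [hai] at hae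
            rw [Nat.even_iff] at hae
            rw [Nat.odd_iff] at hio
            omega
        have hi3 : 3 ≤ i := by
          rw [Nat.odd_iff] at hio
          omega
        have h3 : k * (i + 1) ≤ k * a := Nat.mul_le_mul_left k hia1
        have h4 : 2 * (i + 1) ≤ k * (i + 1) := Nat.mul_le_mul_right (i + 1) (by omega)
        omega

end Cfsg.Agent.Lib.Helper43_SpTensor3
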