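import Mathlib

set_option autoImplicit false

/-!
Transport of matrices and invertible matrices along a linear equivalence of coordinate spaces
(helper68).
-/

namespace Cfsg.Agent.Lib.Helper68_GLTransport

open Matrix Module

variable {ι κ : Type*} [Fintype ι] [DecidableEq ι] [Fintype κ] [DecidableEq κ]
  {F : Type*} [Field F]

/-- the ring isomorphism of matrix rings induced by a linear equivalence -/
noncomputable def matEquiv (φ : (ι → F) ≃ₗ[F] (κ → F)) : Matrix ι ι F ≃+* Matrix κ κ F :=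
  (Matrix.toLinAlgEquiv' (R := F) (n := ι)).toRingEquiv.trans
    (φ.conjRingEquiv.trans (Matrix.toLinAlgEquiv' (R := F) (n := κ)).symm.toRingEquiv)

theorem matEquiv_mulVec (φ : (ι → F) ≃ₗ[F] (κ → F)) (M : Matrix ι ι F) (w : κ → F) :
    matEquiv φ M *ᵥ w = φ (M *ᵥ φ.symm w) := by
  have h : Matrix.toLinAlgEquiv' (matEquiv φ M) = φ.conj (Matrix.toLinAlgEquiv' M) := by
    show Matrix.toLinAlgEquiv' ((Matrix.toLinAlgEquiv' (R := F) (n := κ)).symm
      (φ.conj (Matrix.toLinAlgEquiv' M))) = _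
    rw [AlgEquiv.apply_symm_apply]
  have h2 := congrArg (fun f : (κ → F) →ₗ[F] (κ → F) => f w) h
  simp only [Matrix.toLinAlgEquiv'_apply, LinearEquiv.conj_apply, LinearMap.comp_apply,
    LinearEquiv.coe_coe] at h2
  exact h2

theorem matEquiv_symm_mulVec (φ : (ι → F) ≃ₗ[F] (κ → F)) (M : Matrix κ κ F) (v : ι → F) :
    (matEquiv φ).symm M *ᵥ v = φ.symm (M *ᵥ φ v) := by
  have h := matEquiv_mulVec φ ((matEquiv φ).symm M) (φ v)
  rw [RingEquiv.apply_symm_apply, LinearEquiv.symm_apply_apply] at h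
  rw [h, LinearEquiv.symm_apply_apply]

/-- rank is preserved -/
theorem rank_matEquiv (φ : (ι → F) ≃ₗ[F] (κ → F)) (M : Matrix ι ι F) :
    (matEquiv φ M).rank = M.rank := by
  have hr : LinearMap.range (matEquiv φ M).mulVecLin
      = (LinearMap.range M.mulVecLin).map (φ : (ι → F) →ₗ[F] (κ → F)) := by
    ext w
    constructor
    · rintro ⟨u, rfl⟩
      refine ⟨M *ᵥ φ.symm u, ⟨φ.symm u, rfl⟩, ?_⟩
      rw [Matrix.mulVecLin_apply, matEquiv_mulVec]
      rfl
    · rintro ⟨_, ⟨v, rfl⟩, rfl⟩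
      refine ⟨φ v, ?_⟩
      rw [Matrix.mulVecLin_apply, matEquiv_mulVec, LinearEquiv.symm_apply_apply]
      rfl
  show finrank F (LinearMap.range (matEquiv φ M).mulVecLin) = finrank F (LinearMap.range M.mulVecLin)
  rw [hr, LinearEquiv.finrank_map_eq]

/-- the induced isomorphism of general linear groups -/
noncomputable def glEquiv (φ : (ι → F) ≃ₗ[F] (κ → F)) :
    Matrix.GeneralLinearGroup ι F ≃* Matrix.GeneralLinearGroup κ F :=
  Units.mapEquiv (matEquiv φ).toMulEquiv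

theorem glEquiv_coe (φ : (ι → F) ≃ₗ[F] (κ → F)) (g : Matrix.GeneralLinearGroup ι F) :
    ((glEquiv φ g : Matrix.GeneralLinearGroup κ F) : Matrix κ κ F) = matEquiv φ (g : Matrix ι ι F) :=
  rfl

theorem glEquiv_symm_coe (φ : (ι → F) ≃ₗ[F] (κ → F)) (g : Matrix.GeneralLinearGroup κ F) :
    (((glEquiv φ).symm g : Matrix.GeneralLinearGroup ι F) : Matrix ι ι F)
      = (matEquiv φ).symm (g : Matrix κ κ F) :=
  rfl

theorem glEquiv_mulVec (φ : (ι → F) ≃ₗ[F] (κ → F)) (g : Matrix.GeneralLinearGroup ι F)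
    (w : κ → F) :
    ((glEquiv φ g : Matrix.GeneralLinearGroup κ F) : Matrix κ κ F) *ᵥ w
      = φ ((g : Matrix ι ι F) *ᵥ φ.symm w) := by
  rw [glEquiv_coe, matEquiv_mulVec]

theorem glEquiv_symm_mulVec (φ : (ι → F) ≃ₗ[F] (κ → F)) (g : Matrix.GeneralLinearGroup κ F)
    (v : ι → F) :
    (((glEquiv φ).symm g : Matrix.GeneralLinearGroup ι F) : Matrix ι ι F) *ᵥ v
      = φ.symm ((g : Matrix κ κ F) *ᵥ φ v) := by
  rw [glEquiv_symm_coe, matEquiv_symm_mulVec]

end Cfsg.Agent.Lib.Helper68_GLTransport
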