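import Mathlib
import Cfsg.Agent.Lib.Helper44_Flip
import Cfsg.Agent.Lib.Helper44_Spinor

set_option autoImplicit false

/-!
Parity of a product of reflections and the two classes of maximal totally singular subspaces (helper44):
for a maximal totally singular subspace `U` (dimension `m` in dimension `2m`) and a product `M` of `k` reflections,
`m - dim (U ∩ M U)` has the parity of `k`.
-/

namespace Cfsg.Agent.Lib.Helper44_Parity

open Cfsg Matrix Module Cfsg.Agent.Lib.Helper44_Flip Cfsg.Agent.Lib.Helper44_Refl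
  Cfsg.Agent.Lib.Helper44_Spinor

variable {ι : Type} [Fintype ι] [DecidableEq ι] {F : Type*} [Field F]

/-- The dimension of `U ∩ M U`. -/
noncomputable def dimI (U : Submodule F (ι → F)) (M : Matrix ι ι F) : ℕ :=
  finrank F ↥(U ⊓ U.map (Matrix.mulVecLin M))

theorem parity_key (Q : QuadraticForm F (ι → F)) (hQ : (QuadraticMap.polarBilin Q).Nondegenerate)
    {m : ℕ} (hV : Fintype.card ι = 2 * m) (U : Submodule F (ι → F)) (hU0 : ∀ u ∈ U, Q u = 0)
    (hUm : finrank F U = m) (vs : List (ι → F)) (hvs : ∀ v ∈ vs, Q v ≠ 0) :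
    (∀ x, Q ((vs.map (fun v => Cfsg.reflectionMatrix (⇑Q) v)).prod *ᵥ x) = Q x) ∧
    Function.Injective
      (Matrix.mulVecLin (vs.map (fun v => Cfsg.reflectionMatrix (⇑Q) v)).prod) ∧
    (Even (m - dimI U (vs.map (fun v => Cfsg.reflectionMatrix (⇑Q) v)).prod)
      ↔ Even vs.length) := by
  have hVf : finrank F (ι → F) = 2 * m := by
    rw [← hV]; simp
  induction vs with
  | nil =>
    refine ⟨fun x => by simp, ?_, ?_⟩
    · simp only [List.map_nil, List.prod_nil, Matrix.mulVecLin_one]
      exact Function.injective_id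
    · simp only [List.map_nil, List.prod_nil, List.length_nil]
      rw [dimI, Matrix.mulVecLin_one, Submodule.map_id, inf_idem, hUm, Nat.sub_self]
  | cons v vs ih =>
    have hv : Q v ≠ 0 := hvs v (List.mem_cons_self)
    obtain ⟨ih1, ih2, ih3⟩ := ih (fun w hw => hvs w (List.mem_cons_of_mem _ hw))
    set M' := (vs.map (fun v => Cfsg.reflectionMatrix (⇑Q) v)).prod with hM'
    simp only [List.map_cons, List.prod_cons, List.length_cons]
    have hR : ∀ x, Q (Cfsg.reflectionMatrix (⇑Q) v *ᵥ x) = Q x := map_reflection Q hv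
    have hRinj : Function.Injective (Matrix.mulVecLin (Cfsg.reflectionMatrix (⇑Q) v)) := by
      intro x y hxy
      have h1 := congrArg (fun z => Cfsg.reflectionMatrix (⇑Q) v *ᵥ z) hxy
      simp only [Matrix.mulVecLin_apply, Matrix.mulVec_mulVec,
        reflectionMatrix_mul_self Q hv, Matrix.one_mulVec] at h1
      exact h1
    refine ⟨?_, ?_, ?_⟩
    · intro x
      rw [← Matrix.mulVec_mulVec, hR, ih1]
    · rw [Matrix.mulVecLin_mul]
      exact hRinj.comp ih2
    · set W := U.map (Matrix.mulVecLin M') with hW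
      have hWts : ∀ w ∈ W, Q w = 0 := by
        rintro w ⟨u, hu, rfl⟩
        rw [Matrix.mulVecLin_apply, ih1]
        exact hU0 u hu
      have hWm : finrank F W = m := by
        rw [hW]
        exact (Submodule.equivMapOfInjective _ ih2 U).finrank_eq.symm.trans hUm
      have hflip := flip Q hQ hVf U W hU0 hWts hUm hWm v hv
        (Matrix.mulVecLin (Cfsg.reflectionMatrix (⇑Q) v))
        (fun x => by rw [Matrix.mulVecLin_apply, reflectionMatrix_mulVec])
      rw [dimI, Matrix.mulVecLin_mul, Submodule.map_comp, ← hW]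
      have ih3' : Even (m - finrank F ↥(U ⊓ W)) ↔ Even vs.length := ih3
      have hd1 : finrank F ↥(U ⊓ W) ≤ m := (Submodule.finrank_mono inf_le_left).trans hUm.le
      have hd2 : finrank F ↥(U ⊓ W.map (Matrix.mulVecLin (Cfsg.reflectionMatrix (⇑Q) v))) ≤ m :=
        (Submodule.finrank_mono inf_le_left).trans hUm.le
      rw [Nat.even_add_one, ← ih3']
      rcases hflip with h | h
      · have : m - finrank F ↥(U ⊓ W.map (Matrix.mulVecLin (Cfsg.reflectionMatrix (⇑Q) v)))
            = (m - finrank F ↥(U ⊓ W)) + 1 := by omega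
        rw [this, Nat.even_add_one]
      · have : m - finrank F ↥(U ⊓ W)
            = (m - finrank F ↥(U ⊓ W.map (Matrix.mulVecLin (Cfsg.reflectionMatrix (⇑Q) v)))) + 1 := by
          omega
        rw [this, Nat.even_add_one, not_not]

end Cfsg.Agent.Lib.Helper44_Parity
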