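import Mathlib
import Cfsg.Agent.Lib.Helper44_Inv2
import Cfsg.Agent.Lib.Helper44_Parity

set_option autoImplicit false

/-!
Conjugacy of involutions from `O` to `Ω` in characteristic two (helper44): centralising reflections, and the parity
criterion `g ∈ Ω ↔ Even (m - dim (U ∩ g U))` for a maximal totally singular subspace `U`.
-/

namespace Cfsg.Agent.Lib.Helper44_Inv2Conj

open Cfsg Matrix Module Cfsg.Agent.Lib.Helper44_Orth Cfsg.Agent.Lib.Helper44_Refl
  Cfsg.Agent.Lib.Helper44_Spinor Cfsg.Agent.Lib.Helper44_ReflProd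
  Cfsg.Agent.Lib.Helper44_CD2 Cfsg.Agent.Lib.Helper14_CartanDieudonne
  Cfsg.Agent.Lib.Helper44_Inv2 Cfsg.Agent.Lib.Helper44_Parity Cfsg.Agent.Lib.Helper44_OmegaAll

variable {ι : Type} [Fintype ι] [DecidableEq ι] {F : Type*} [Field F]

/-- A reflection in a vector fixed by the isometry `T` commutes with `T`. -/
theorem refl_comm_of_fixed (Q : QuadraticForm F (ι → F)) {T : Matrix ι ι F} (hT : IsIsom Q T)
    {v : ι → F} (hTv : T *ᵥ v = v) :
    Cfsg.reflectionMatrix (⇑Q) v * T = T * Cfsg.reflectionMatrix (⇑Q) v := by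
  have hpw : ∀ y, QuadraticMap.polar (⇑Q) v (T *ᵥ y) = QuadraticMap.polar (⇑Q) v y := by
    intro y
    have := hT.polar v y
    rw [hTv] at this
    exact this
  apply matrix_ext_mulVec
  intro y
  rw [← Matrix.mulVec_mulVec, ← Matrix.mulVec_mulVec, reflectionMatrix_mulVec,
    reflectionMatrix_mulVec, Matrix.mulVec_sub, Matrix.mulVec_smul, hTv, hpw]

/-- If every vector fixed by the involutory isometry `T` is singular, then `im (T - 1)` is a maximal totally
singular subspace: `2 rank (T - 1) = dim V` and `Q` vanishes on `im (T - 1)`. -/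
theorem rank_of_fixed_singular (Q : QuadraticForm F (ι → F))
    (hQ : (QuadraticMap.polarBilin Q).Nondegenerate) (h2 : (2 : F) = 0) {T : Matrix ι ι F}
    (hT : IsIsom Q T) (hTT : T * T = 1) (hfix : ∀ v, T *ᵥ v = v → Q v = 0) :
    2 * (T - 1).rank = Fintype.card ι ∧ ∀ x, Q ((T - 1) *ᵥ x) = 0 := by
  have hts : ∀ x, Q ((T - 1) *ᵥ x) = 0 := by
    intro x
    apply hfix
    have := N_N_apply h2 hTT x
    rw [N_apply] at this
    exact sub_eq_zero.mp this
  refine ⟨?_, hts⟩
  -- `ker N ≤ range N`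
  have hkr : LinearMap.ker (T - 1).mulVecLin ≤ LinearMap.range (T - 1).mulVecLin := by
    -- `ker N` is totally singular, hence inside its own orthogonal, which is `range N`
    have h1 : LinearMap.ker (T - 1).mulVecLin ≤ orth Q (LinearMap.ker (T - 1).mulVecLin) := by
      intro y hy
      rw [mem_orth]
      intro n hn
      have hn' : T *ᵥ n = n := by
        rw [LinearMap.mem_ker, Matrix.mulVecLin_apply, N_apply] at hn
        exact sub_eq_zero.mp hn
      have hy' : T *ᵥ y = y := by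
        rw [LinearMap.mem_ker, Matrix.mulVecLin_apply, N_apply] at hy
        exact sub_eq_zero.mp hy
      have hny : T *ᵥ (n + y) = n + y := by rw [Matrix.mulVec_add, hn', hy']
      rw [QuadraticMap.polar, hfix _ hny, hfix _ hn', hfix _ hy']
      ring
    have h3 : orth Q (LinearMap.range (T - 1).mulVecLin) ≤ LinearMap.ker (T - 1).mulVecLin := by
      intro y hy
      rw [mem_orth] at hy
      rw [LinearMap.mem_ker, Matrix.mulVecLin_apply]
      apply hQ.1
      intro x
      rw [QuadraticMap.polarBilin_apply_apply, QuadraticMap.polar_comm, ← polar_N_left Q hT hTT]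
      exact hy _ ⟨x, rfl⟩
    have h4 : orth Q (LinearMap.ker (T - 1).mulVecLin)
        ≤ orth Q (orth Q (LinearMap.range (T - 1).mulVecLin)) :=
      LinearMap.BilinForm.orthogonal_le h3
    rw [orth_orth Q hQ] at h4
    exact h1.trans h4
  have h5 := Submodule.finrank_mono hkr
  have hrk : LinearMap.range (T - 1).mulVecLin ≤ LinearMap.ker (T - 1).mulVecLin := by
    rintro _ ⟨x, rfl⟩
    rw [LinearMap.mem_ker, Matrix.mulVecLin_apply, Matrix.mulVecLin_apply]
    exact N_N_apply h2 hTT x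
  have h6 := Submodule.finrank_mono hrk
  have h7 := rank_add_finrank_ker (T - 1)
  have h8 : (T - 1).rank = finrank F ↥(LinearMap.range (T - 1).mulVecLin) := rfl
  omega

variable [Fintype F]

/-- **Parity criterion** for `Ω` in characteristic two, relative to a maximal totally singular subspace. -/
theorem mem_omega_iff_parity (h2 : (2 : F) = 0) (Q : QuadraticForm F (ι → F))
    (hQ : (QuadraticMap.polarBilin Q).Nondegenerate)
    (hex : Fintype.card F ≠ 2 ∨ Fintype.card ι ≠ 4) {m : ℕ} (hV : Fintype.card ι = 2 * m)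
    (U : Submodule F (ι → F)) (hU0 : ∀ u ∈ U, Q u = 0) (hUm : finrank F U = m)
    (g : ↥(Cfsg.isometryGroup F (⇑Q))) :
    g ∈ Cfsg.Omega F (⇑Q) ↔ Even (m - finrank F ↥(U ⊓ U.map (Matrix.mulVecLin
      ((g : Matrix.GeneralLinearGroup ι F) : Matrix ι ι F)))) := by
  classical
  obtain ⟨vs, hvs, hg⟩ := exists_list_reflT_all Q hQ hex g
  have hcoe := prod_reflT_coe Q vs hvs
  rw [← hg] at hcoe
  obtain ⟨-, -, k3⟩ := parity_key Q hQ hV U hU0 hUm vs hvs
  rw [dimI, ← hcoe] at k3
  rw [k3]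
  conv_lhs => rw [hg]
  exact prod_mem_omega_iff_even h2 Q hQ hex vs hvs

omit [Fintype F] in
/-- Conjugation transports the image of `t - 1`. -/
theorem range_conj (Q : (ι → F) → F) (g t s : ↥(Cfsg.isometryGroup F Q)) (h : g * t * g⁻¹ = s) :
    LinearMap.range (((s : Matrix.GeneralLinearGroup ι F) : Matrix ι ι F) - 1).mulVecLin
      = (LinearMap.range (((t : Matrix.GeneralLinearGroup ι F) : Matrix ι ι F) - 1).mulVecLin).map
          (Matrix.mulVecLin ((g : Matrix.GeneralLinearGroup ι F) : Matrix ι ι F)) := by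
  set G := ((g : Matrix.GeneralLinearGroup ι F) : Matrix ι ι F) with hG
  set G' := ((g⁻¹ : ↥(Cfsg.isometryGroup F Q)) : Matrix.GeneralLinearGroup ι F).1 with hG'
  set T := ((t : Matrix.GeneralLinearGroup ι F) : Matrix ι ι F) with hT
  have hGG' : G * G' = 1 := by
    have : ((g * g⁻¹ : ↥(Cfsg.isometryGroup F Q)) : Matrix.GeneralLinearGroup ι F).1 = 1 := by
      rw [mul_inv_cancel]; rfl
    exact this
  have hG'G : G' * G = 1 := by
    have : ((g⁻¹ * g : ↥(Cfsg.isometryGroup F Q)) : Matrix.GeneralLinearGroup ι F).1 = 1 := by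
      rw [inv_mul_cancel]; rfl
    exact this
  have hS : ((s : Matrix.GeneralLinearGroup ι F) : Matrix ι ι F) = G * T * G' := by
    rw [← h]; rfl
  have hS1 : ((s : Matrix.GeneralLinearGroup ι F) : Matrix ι ι F) - 1 = G * (T - 1) * G' := by
    rw [hS, Matrix.mul_sub, Matrix.sub_mul, Matrix.mul_one, hGG']
  rw [hS1]
  ext y
  constructor
  · rintro ⟨x, rfl⟩
    refine ⟨(T - 1) *ᵥ (G' *ᵥ x), ⟨G' *ᵥ x, rfl⟩, ?_⟩
    simp only [Matrix.mulVecLin_apply, Matrix.mulVec_mulVec, Matrix.mul_assoc]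
  · rintro ⟨_, ⟨x, rfl⟩, rfl⟩
    refine ⟨G *ᵥ x, ?_⟩
    simp only [Matrix.mulVecLin_apply, Matrix.mulVec_mulVec, Matrix.mul_assoc]
    rw [hG'G, Matrix.mul_one]

/-- In characteristic two, an isometry outside `Ω` times a reflection lies in `Ω`. -/
theorem mul_refl_mem_omega (h2 : (2 : F) = 0) (Q : QuadraticForm F (ι → F))
    (hQ : (QuadraticMap.polarBilin Q).Nondegenerate)
    (hex : Fintype.card F ≠ 2 ∨ Fintype.card ι ≠ 4) (g₀ : ↥(Cfsg.isometryGroup F (⇑Q)))
    (hg₀ : g₀ ∉ Cfsg.Omega F (⇑Q)) {v : ι → F} (hv : Q v ≠ 0) :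
    g₀ * reflT Q v ∈ Cfsg.Omega F (⇑Q) := by
  classical
  obtain ⟨vs, hvs, rfl⟩ := exists_list_reflT_all Q hQ hex g₀
  rw [prod_mem_omega_iff_even h2 Q hQ hex vs hvs] at hg₀
  have h1 : (vs.map (reflT Q)).prod * reflT Q v = ((vs ++ [v]).map (reflT Q)).prod := by simp
  have hvs' : ∀ w ∈ vs ++ [v], Q w ≠ 0 := by
    intro w hw
    rcases List.mem_append.mp hw with hw | hw
    · exact hvs w hw
    · rw [List.mem_singleton.mp hw]; exact hv
  rw [h1, prod_mem_omega_iff_even h2 Q hQ hex _ hvs', List.length_append, List.length_singleton,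
    Nat.even_add_one]
  exact hg₀

/-- If the involution-conjugating isometry can be corrected by a reflection centralising `t`, the conjugation can
be done inside `Ω`. -/
theorem conj_in_omega_of_fixed_nonsingular (h2 : (2 : F) = 0) (Q : QuadraticForm F (ι → F))
    (hQ : (QuadraticMap.polarBilin Q).Nondegenerate)
    (hex : Fintype.card F ≠ 2 ∨ Fintype.card ι ≠ 4) (t s g₀ : ↥(Cfsg.isometryGroup F (⇑Q)))
    (hg₀ : g₀ * t * g₀⁻¹ = s) {v : ι → F} (hv : Q v ≠ 0)
    (hTv : ((t : Matrix.GeneralLinearGroup ι F) : Matrix ι ι F) *ᵥ v = v) :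
    ∃ g ∈ Cfsg.Omega F (⇑Q), g * t * g⁻¹ = s := by
  by_cases hmem : g₀ ∈ Cfsg.Omega F (⇑Q)
  · exact ⟨g₀, hmem, hg₀⟩
  · refine ⟨g₀ * reflT Q v, mul_refl_mem_omega h2 Q hQ hex g₀ hmem hv, ?_⟩
    have hcomm : reflT Q v * t = t * reflT Q v := by
      apply Subtype.ext
      apply Units.ext
      show ((reflT Q v : Matrix.GeneralLinearGroup ι F) : Matrix ι ι F)
          * ((t : Matrix.GeneralLinearGroup ι F) : Matrix ι ι F)
        = ((t : Matrix.GeneralLinearGroup ι F) : Matrix ι ι F)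
          * ((reflT Q v : Matrix.GeneralLinearGroup ι F) : Matrix ι ι F)
      rw [reflT_coe Q v hv]
      exact refl_comm_of_fixed Q (isIsom_of_mem Q t) hTv
    rw [← hg₀]
    have : g₀ * reflT Q v * t * (g₀ * reflT Q v)⁻¹
        = g₀ * (reflT Q v * t * (reflT Q v)⁻¹) * g₀⁻¹ := by group
    rw [this, hcomm, mul_inv_cancel_right]

end Cfsg.Agent.Lib.Helper44_Inv2Conj
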