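import Mathlib
import Cfsg.Agent.Lib.Helper44_Omega2
import Cfsg.Agent.Lib.Helper44_OmegaAll
import Cfsg.Agent.Lib.Helper44_WittMat
import Cfsg.Agent.Lib.Helper44_Inv2
import Cfsg.Agent.Lib.Helper44_Inv2Conj
import Cfsg.Agent.Lib.Helper44_OCount

set_option autoImplicit false

/-!
Characteristic two without the `O₄(2)` exception, via Witt's theorem (helper44): all reflections are conjugate up to
scaling, so even products of reflections always lie in `Ω`; the Cartan–Dieudonné induction with an abstract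
hypothesis replacing the auxiliary-vector lemma, in particular for forms of Witt index at most one; and the
consequences for `Ω` (index two, conjugation inside `Ω`, involutions in `Ω`) from the Cartan–Dieudonné property.
-/

namespace Cfsg.Agent.Lib.Helper44_GenCD

open Cfsg Matrix Module Cfsg.Agent.Lib.Helper44_Orth Cfsg.Agent.Lib.Helper44_Refl
  Cfsg.Agent.Lib.Helper44_Spinor Cfsg.Agent.Lib.Helper44_ReflProd Cfsg.Agent.Lib.Helper44_Eichler
  Cfsg.Agent.Lib.Helper14_CartanDieudonne Cfsg.Agent.Lib.Helper14_NegOne Cfsg.Agent.Lib.Helper44_CD2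
  Cfsg.Agent.Lib.Helper44_Omega2 Cfsg.Agent.Lib.Helper44_OmegaAll Cfsg.Agent.Lib.Helper44_WittMat
  Cfsg.Agent.Lib.Helper44_Inv2 Cfsg.Agent.Lib.Helper44_Inv2Conj Cfsg.Agent.Lib.Helper44_OCount

variable {ι : Type} [Fintype ι] [DecidableEq ι] {F : Type*} [Field F]

/-- Witt: two non-zero vectors of the same norm are conjugate under the isometry group. -/
theorem exists_isom_map (Q : QuadraticForm F (ι → F))
    (hQ : (QuadraticMap.polarBilin Q).Nondegenerate) {u v : ι → F} (hu : u ≠ 0) (hv : v ≠ 0)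
    (huv : Q u = Q v) :
    ∃ g : ↥(Cfsg.isometryGroup F (⇑Q)),
      ((g : Matrix.GeneralLinearGroup ι F) : Matrix ι ι F) *ᵥ u = v := by
  set φ : ↥(Submodule.span F {u}) ≃ₗ[F] ↥(Submodule.span F {v}) :=
    (LinearEquiv.toSpanNonzeroSingleton F (ι → F) u hu).symm.trans
      (LinearEquiv.toSpanNonzeroSingleton F (ι → F) v hv) with hφ
  have hφu : ∀ c : F, (φ ⟨c • u, Submodule.smul_mem _ _ (Submodule.mem_span_singleton_self u)⟩ : ι → F)
      = c • v := by
    intro c
    have h1 : (LinearEquiv.toSpanNonzeroSingleton F (ι → F) u hu) c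
        = ⟨c • u, Submodule.smul_mem _ _ (Submodule.mem_span_singleton_self u)⟩ := by
      apply Subtype.ext
      rw [LinearEquiv.toSpanNonzeroSingleton_apply]
    rw [hφ, LinearEquiv.trans_apply, ← h1, LinearEquiv.symm_apply_apply,
      LinearEquiv.toSpanNonzeroSingleton_apply]
  obtain ⟨g, hg, -⟩ := witt_matrix Q hQ _ _ φ (by
    rintro ⟨x, hx⟩
    obtain ⟨c, rfl⟩ := Submodule.mem_span_singleton.mp hx
    rw [hφu c]
    show Q (c • v) = Q (c • u)
    rw [QuadraticMap.map_smul, QuadraticMap.map_smul, huv])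
  refine ⟨g, ?_⟩
  have := hg ⟨(1 : F) • u, Submodule.smul_mem _ _ (Submodule.mem_span_singleton_self u)⟩
  rw [hφu 1] at this
  simpa using this

section abelianization

variable [Fintype F] (Q : QuadraticForm F (ι → F))

/-- In characteristic two all reflections have the same image in the abelianization of `O(Q)`
(no exception: Witt's theorem). -/
theorem rhoAb_eq_witt (h2 : (2 : F) = 0) (hQ : (QuadraticMap.polarBilin Q).Nondegenerate)
    {u v : ι → F} (hu : Q u ≠ 0) (hv : Q v ≠ 0) : rhoAb Q u = rhoAb Q v := by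
  have hchar : ringChar F = 2 := CharP.ringChar_of_prime_eq_zero Nat.prime_two (by exact_mod_cast h2)
  obtain ⟨c, hc⟩ := FiniteField.isSquare_of_char_two hchar (Q u * (Q v)⁻¹)
  have hc0 : c ≠ 0 := by
    rintro rfl
    rw [mul_zero] at hc
    exact (mul_ne_zero hu (inv_ne_zero hv)) hc
  have hQcv : Q (c • v) = Q u := by
    rw [QuadraticMap.map_smul, smul_eq_mul, ← hc]
    field_simp
  have hcv : Q (c • v) ≠ 0 := hQcv ▸ hu
  have hu0 : u ≠ 0 := fun h => hu (by rw [h, map_zero])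
  have hcv0 : c • v ≠ 0 := fun h => hcv (by rw [h, map_zero])
  obtain ⟨g, hg⟩ := exists_isom_map Q hQ hu0 hcv0 hQcv.symm
  have hconj : g * refl Q u hu * g⁻¹ = refl Q (c • v) hcv := by
    apply Subtype.ext
    apply Units.ext
    have := conj_reflectionMatrix Q g u
    rw [hg] at this
    exact this
  rw [← rhoAb_smul Q v hc0, rhoAb, rhoAb, reflT_of_ne Q u hu, reflT_of_ne Q _ hcv, ← hconj, map_mul,
    map_mul, map_inv]
  rw [mul_comm (Abelianization.of g), mul_assoc, mul_inv_cancel, mul_one]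

/-- **Even products of reflections lie in `Ω`** (characteristic two, no exception). -/
theorem even_prod_mem_omega_witt (h2 : (2 : F) = 0) (hQ : (QuadraticMap.polarBilin Q).Nondegenerate)
    (vs : List (ι → F)) (hvs : ∀ v ∈ vs, Q v ≠ 0)
    (heven : Even vs.length) : (vs.map (reflT Q)).prod ∈ Cfsg.Omega F (⇑Q) := by
  have h1 : Abelianization.of ((vs.map (reflT Q)).prod) = (vs.map (rhoAb Q)).prod := by
    rw [map_list_prod, List.map_map]
    rfl
  have h3 : (vs.map (rhoAb Q)).prod = 1 :=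
    prod_rhoAb_eq_one_of_all_eq Q vs
      (fun u hu u' hu' => rhoAb_eq_witt Q h2 hQ (hvs u hu) (hvs u' hu')) heven
  rw [h3] at h1
  have : (vs.map (reflT Q)).prod ∈ (Abelianization.of (G := ↥(Cfsg.isometryGroup F (⇑Q)))).ker :=
    MonoidHom.mem_ker.mpr h1
  rwa [Abelianization.ker_of] at this

/-- **Parity criterion in characteristic two** (no exception). -/
theorem prod_mem_omega_iff_even_witt (h2 : (2 : F) = 0)
    (hQ : (QuadraticMap.polarBilin Q).Nondegenerate) (vs : List (ι → F))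
    (hvs : ∀ v ∈ vs, Q v ≠ 0) :
    (vs.map (reflT Q)).prod ∈ Cfsg.Omega F (⇑Q) ↔ Even vs.length :=
  ⟨even_of_prod_mem_omega h2 Q hQ vs hvs, even_prod_mem_omega_witt Q h2 hQ vs hvs⟩

end abelianization

/-- The Cartan–Dieudonné property: every isometry is a product of reflections. -/
def HasCD (Q : QuadraticForm F (ι → F)) : Prop :=
  ∀ g : ↥(Cfsg.isometryGroup F (⇑Q)),
    ∃ vs : List (ι → F), (∀ v ∈ vs, Q v ≠ 0) ∧ g = (vs.map (reflT Q)).prod

/-- The Cartan–Dieudonné induction with the auxiliary-vector lemma as a hypothesis. -/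
theorem cd_aux_of (h2 : (2 : F) = 0) (Q : QuadraticForm F (ι → F))
    (hQ : (QuadraticMap.polarBilin Q).Nondegenerate)
    (hL : ∀ (W : Submodule F (ι → F)) (u w : ι → F), W ⊓ orth Q W = ⊥ → u ∈ orth Q W →
      w ∈ orth Q W → QuadraticMap.polar (⇑Q) u w = 1 → Q u = 0 → Q w = 0 → ∀ d ∈ orth Q W, d ≠ 0 →
      Q d = 0 → QuadraticMap.polar (⇑Q) u d = 0 → QuadraticMap.polar (⇑Q) w d = 0 →
      ∃ y, QuadraticMap.polar (⇑Q) u y = 0 ∧ Q y ≠ 0 ∧ Q (d - y) ≠ 0) :
    ∀ k : ℕ, ∀ (M : Matrix ι ι F) (W : Submodule F (ι → F)), IsIsom Q M → (∀ x ∈ W, M *ᵥ x = x) →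
      W ⊓ orth Q W = ⊥ → finrank F (orth Q W) = k → ∃ j d, IsReflProd Q M j d := by
  intro k
  induction k using Nat.strong_induction_on with
  | _ k ih =>
  intro M W hM hfix hW hk
  have hdim := LinearMap.BilinForm.finrank_orthogonal hQ W
  change finrank F (orth Q W) = _ at hdim
  rw [hk] at hdim
  have hWle : finrank F W ≤ finrank F (ι → F) := Submodule.finrank_le W
  by_cases hk0 : k = 0
  · have hWtop : W = ⊤ := by
      apply Submodule.eq_top_of_finrank_eq
      omega
    have hM1 : M = 1 := by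
      apply matrix_ext_mulVec
      intro x
      rw [Matrix.one_mulVec]
      exact hfix x (hWtop ▸ Submodule.mem_top)
    exact ⟨0, 1, hM1 ▸ IsReflProd.one Q⟩
  · have hne : orth Q W ≠ ⊥ := by
      intro h
      rw [h, finrank_bot] at hk
      exact hk0 hk.symm
    obtain ⟨u, hu, w, hw, huw, hiso⟩ := exists_pair h2 Q hQ hW hne
    have hu0 : u ≠ 0 := by
      intro h
      rw [h, QuadraticMap.polar_zero_left] at huw
      exact zero_ne_one huw
    obtain ⟨T₁, j₁, d₁, hT₁, hT₁fix, hT₁u⟩ :=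
      move_u h2 Q hQ hM hfix hW hu (fun h => (hiso h).1)
    have hM₁ : IsIsom Q (T₁ * M) := (Cfsg.Agent.Lib.Helper44_CD2.IsReflProd.isIsom hT₁).mul hM
    have hfix₁ : ∀ x ∈ W, (T₁ * M) *ᵥ x = x := fun x hx => by
      rw [← Matrix.mulVec_mulVec, hfix x hx, hT₁fix x hx]
    have hM₁u : (T₁ * M) *ᵥ u = u := by rw [← Matrix.mulVec_mulVec, hT₁u]
    obtain ⟨T₂, j₂, d₂, hT₂, hT₂fix, hT₂u, hT₂w⟩ :=
      move_w h2 Q hM₁ hfix₁ hu hw huw hM₁u hiso
        (fun hQu hQw d hd hd0 hQd hud hwd => hL W u w hW hu hw huw hQu hQw d hd hd0 hQd hud hwd)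
    have hM₂ : IsIsom Q (T₂ * (T₁ * M)) := (Cfsg.Agent.Lib.Helper44_CD2.IsReflProd.isIsom hT₂).mul hM₁
    set W' := W ⊔ Submodule.span F {u} ⊔ Submodule.span F {w} with hW'def
    have hfix₂ : ∀ x ∈ W', (T₂ * (T₁ * M)) *ᵥ x = x := by
      apply fix_sup_pair
      · intro x hx
        rw [← Matrix.mulVec_mulVec, hfix₁ x hx, hT₂fix x hx]
      · rw [← Matrix.mulVec_mulVec, hM₁u, hT₂u]
      · rw [← Matrix.mulVec_mulVec, hT₂w]
    have hW' : W' ⊓ orth Q W' = ⊥ := nondeg_sup_pair h2 Q hW hu hw huw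
    have hlt : W < W' := lt_sup_pair Q hW w hu hu0
    have hdim' := LinearMap.BilinForm.finrank_orthogonal hQ W'
    change finrank F (orth Q W') = _ at hdim'
    have hW'le : finrank F W' ≤ finrank F (ι → F) := Submodule.finrank_le W'
    have hfinlt : finrank F W < finrank F W' := Submodule.finrank_lt_finrank_of_lt hlt
    have hklt : finrank F (orth Q W') < k := by omega
    obtain ⟨j, d, hjd⟩ := ih _ hklt (T₂ * (T₁ * M)) W' hM₂ hfix₂ hW' rfl
    have h1 := Helper44_Eichler.IsReflProd.of_mul hT₂ hjd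
    exact ⟨_, _, Helper44_Eichler.IsReflProd.of_mul hT₁ h1⟩

/-- Cartan–Dieudonné for forms of Witt index at most one (characteristic two). -/
theorem hasCD_of_witt_le_one (h2 : (2 : F) = 0) (Q : QuadraticForm F (ι → F))
    (hQ : (QuadraticMap.polarBilin Q).Nondegenerate)
    (hW1 : ∀ U : Submodule F (ι → F), (∀ x ∈ U, Q x = 0) → finrank F U ≤ 1) : HasCD Q := by
  intro g
  have hL : ∀ (W : Submodule F (ι → F)) (u w : ι → F), W ⊓ orth Q W = ⊥ → u ∈ orth Q W →
      w ∈ orth Q W → QuadraticMap.polar (⇑Q) u w = 1 → Q u = 0 → Q w = 0 → ∀ d ∈ orth Q W, d ≠ 0 →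
      Q d = 0 → QuadraticMap.polar (⇑Q) u d = 0 → QuadraticMap.polar (⇑Q) w d = 0 →
      ∃ y, QuadraticMap.polar (⇑Q) u y = 0 ∧ Q y ≠ 0 ∧ Q (d - y) ≠ 0 := by
    intro W u w _ _ _ huw hQu _ d _ hd0 hQd hud hwd
    exfalso
    have hts : ∀ x ∈ Submodule.span F ({u, d} : Set (ι → F)), Q x = 0 := by
      intro x hx
      obtain ⟨α, β, rfl⟩ := Submodule.mem_span_pair.mp hx
      rw [QuadraticMap.map_add (⇑Q), QuadraticMap.map_smul, QuadraticMap.map_smul, hQu, hQd,
        QuadraticMap.polar_smul_left, QuadraticMap.polar_smul_right, hud]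
      simp
    have hli : LinearIndependent F ![u, d] := by
      rw [LinearIndependent.pair_iff]
      intro α β hαβ
      have h1 := congrArg (fun z => QuadraticMap.polar (⇑Q) w z) hαβ
      simp only [QuadraticMap.polar_add_right, QuadraticMap.polar_smul_right, hwd,
        QuadraticMap.polar_zero_right, QuadraticMap.polar_comm (⇑Q) w u, huw, smul_eq_mul, mul_one,
        mul_zero, add_zero] at h1
      subst h1
      rw [zero_smul, zero_add] at hαβ
      exact ⟨rfl, (smul_eq_zero.mp hαβ).resolve_right hd0⟩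
    have hfr : finrank F (Submodule.span F (Set.range ![u, d])) = 2 := by
      rw [finrank_span_eq_card hli]
      simp
    have hrange : Set.range ![u, d] = ({u, d} : Set (ι → F)) := by
      ext z
      simp [eq_comm, or_comm]
    rw [hrange] at hfr
    have := hW1 _ hts
    omega
  obtain ⟨j, d, vs, hvs, hM, -, -⟩ := cd_aux_of h2 Q hQ hL _ _ ⊥ (isIsom_of_mem Q g)
    (fun x hx => by rw [(Submodule.mem_bot F).mp hx, Matrix.mulVec_zero]) (by simp) rfl
  refine ⟨vs, hvs, ?_⟩
  apply Subtype.ext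
  apply Units.ext
  rw [hM, prod_reflT_coe Q vs hvs]

/-- Cartan–Dieudonné outside `O₄(2)`. -/
theorem hasCD_of_hex [Fintype F] (Q : QuadraticForm F (ι → F))
    (hQ : (QuadraticMap.polarBilin Q).Nondegenerate)
    (hex : Fintype.card F ≠ 2 ∨ Fintype.card ι ≠ 4) : HasCD Q :=
  fun g => exists_list_reflT_all Q hQ hex g

section consequences

variable [Fintype F]

/-- `[O(Q) : Ω(Q)] = 2` in characteristic two, from the Cartan–Dieudonné property. -/
theorem index_omega_two_of_cd (h2 : (2 : F) = 0) (Q : QuadraticForm F (ι → F))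
    (hQ : (QuadraticMap.polarBilin Q).Nondegenerate) (hcd : HasCD Q) {v₀ : ι → F} (hv₀ : Q v₀ ≠ 0) :
    (Cfsg.Omega F (⇑Q)).index = 2 := by
  classical
  rw [Subgroup.index_eq_two_iff]
  refine ⟨reflT Q v₀, fun b => ?_⟩
  obtain ⟨vs, hvs, rfl⟩ := hcd b
  have h1 : (vs.map (reflT Q)).prod * reflT Q v₀ = ((vs ++ [v₀]).map (reflT Q)).prod := by
    simp
  have hvs' : ∀ v ∈ vs ++ [v₀], Q v ≠ 0 := by
    intro v hv
    rcases List.mem_append.mp hv with hv | hv
    · exact hvs v hv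
    · rw [List.mem_singleton.mp hv]; exact hv₀
  rw [h1, prod_mem_omega_iff_even_witt Q h2 hQ _ hvs', prod_mem_omega_iff_even_witt Q h2 hQ _ hvs,
    List.length_append, List.length_singleton, Nat.even_add_one]
  rcases Nat.even_or_odd vs.length with h | h
  · right
    exact ⟨h, fun hn => hn h⟩
  · left
    rw [← Nat.not_even_iff_odd] at h
    exact ⟨h, h⟩

/-- In characteristic two, an isometry outside `Ω` times a reflection lies in `Ω`. -/
theorem mul_refl_mem_omega_of_cd (h2 : (2 : F) = 0) (Q : QuadraticForm F (ι → F))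
    (hQ : (QuadraticMap.polarBilin Q).Nondegenerate) (hcd : HasCD Q)
    (g₀ : ↥(Cfsg.isometryGroup F (⇑Q)))
    (hg₀ : g₀ ∉ Cfsg.Omega F (⇑Q)) {v : ι → F} (hv : Q v ≠ 0) :
    g₀ * reflT Q v ∈ Cfsg.Omega F (⇑Q) := by
  classical
  obtain ⟨vs, hvs, rfl⟩ := hcd g₀
  rw [prod_mem_omega_iff_even_witt Q h2 hQ vs hvs] at hg₀
  have h1 : (vs.map (reflT Q)).prod * reflT Q v = ((vs ++ [v]).map (reflT Q)).prod := by simp
  have hvs' : ∀ w ∈ vs ++ [v], Q w ≠ 0 := by
    intro w hw
    rcases List.mem_append.mp hw with hw | hw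
    · exact hvs w hw
    · rw [List.mem_singleton.mp hw]; exact hv
  rw [h1, prod_mem_omega_iff_even_witt Q h2 hQ _ hvs', List.length_append, List.length_singleton,
    Nat.even_add_one]
  exact hg₀

/-- If `t` fixes a non-singular vector, `O`-conjugacy of `t` can be realised inside `Ω`. -/
theorem conj_in_omega_of_fixed_nonsingular_of_cd (h2 : (2 : F) = 0) (Q : QuadraticForm F (ι → F))
    (hQ : (QuadraticMap.polarBilin Q).Nondegenerate) (hcd : HasCD Q)
    (t s g₀ : ↥(Cfsg.isometryGroup F (⇑Q)))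
    (hg₀ : g₀ * t * g₀⁻¹ = s) {v : ι → F} (hv : Q v ≠ 0)
    (hTv : ((t : Matrix.GeneralLinearGroup ι F) : Matrix ι ι F) *ᵥ v = v) :
    ∃ g ∈ Cfsg.Omega F (⇑Q), g * t * g⁻¹ = s := by
  by_cases hmem : g₀ ∈ Cfsg.Omega F (⇑Q)
  · exact ⟨g₀, hmem, hg₀⟩
  · refine ⟨g₀ * reflT Q v, mul_refl_mem_omega_of_cd h2 Q hQ hcd g₀ hmem hv, ?_⟩
    have hcomm : reflT Q v * t = t * reflT Q v := by
      apply Subtype.ext
      apply Units.ext
      show ((reflT Q v : Matrix.GeneralLinearGroup ι F) : Matrix ι ι F)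
          * ((t : Matrix.GeneralLinearGroup ι F) : Matrix ι ι F)
        = ((t : Matrix.GeneralLinearGroup ι F) : Matrix ι ι F)
          * ((reflT Q v : Matrix.GeneralLinearGroup ι F) : Matrix ι ι F)
      rw [reflT_coe Q v hv]
      exact refl_comm_of_fixed Q (isIsom_of_mem Q t) hTv
    rw [← hg₀]
    have : g₀ * reflT Q v * t * (g₀ * reflT Q v)⁻¹
        = g₀ * (reflT Q v * t * (reflT Q v)⁻¹) * g₀⁻¹ := by group
    rw [this, hcomm, mul_inv_cancel_right]

omit [Fintype F] in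
/-- An involutory isometry is a product of `j` reflections with `j ≡ rank (T - 1)` mod 2, given this for
involutions with totally singular image. -/
theorem main_of (Q : QuadraticForm F (ι → F)) (h2 : (2 : F) = 0)
    (hA : ∀ T : Matrix ι ι F, IsIsom Q T → T * T = 1 → (∀ x, Q ((T - 1) *ᵥ x) = 0) →
      Even (T - 1).rank ∧ ∃ j d, IsReflProd Q T j d ∧ Even j) :
    ∀ r : ℕ, ∀ T : Matrix ι ι F, IsIsom Q T → T * T = 1 → (T - 1).rank = r →
      ∃ j d, IsReflProd Q T j d ∧ (Even j ↔ Even r) := by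
  intro r
  induction r using Nat.strong_induction_on with
  | _ r ih =>
    intro T hT hTT hr
    by_cases hts : ∀ x, Q ((T - 1) *ᵥ x) = 0
    · obtain ⟨hev, j, d, hjd, hj⟩ := hA T hT hTT hts
      rw [hr] at hev
      exact ⟨j, d, hjd, ⟨fun _ => hev, fun _ => hj⟩⟩
    · push Not at hts
      obtain ⟨x₀, hw⟩ := hts
      obtain ⟨h1, h3, h4⟩ := stepA Q h2 hT hTT x₀ hw
      obtain ⟨j, d, hjd, hj⟩ := ih _ (by omega) _ h1 h3 rfl
      refine ⟨1 + j, Q ((T - 1) *ᵥ x₀) * d,
        Helper44_Eichler.IsReflProd.of_mul (IsReflProd.refl Q hw) hjd, ?_⟩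
      rw [← hr, ← h4, Nat.even_add_one, add_comm, Nat.even_add_one, hj]

/-- **Involutions in `Ω`, characteristic two, Witt index at most one**: `t ∈ Ω` iff `rank (t - 1)` is even. -/
theorem involution_mem_omega_iff_of_witt_le_one (h2 : (2 : F) = 0) (Q : QuadraticForm F (ι → F))
    (hQ : (QuadraticMap.polarBilin Q).Nondegenerate)
    (hW1 : ∀ U : Submodule F (ι → F), (∀ x ∈ U, Q x = 0) → finrank F U ≤ 1)
    (t : ↥(Cfsg.isometryGroup F (⇑Q))) (ht : t * t = 1) :
    t ∈ Cfsg.Omega F (⇑Q) ↔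
      Even (((t : Matrix.GeneralLinearGroup ι F) : Matrix ι ι F) - 1).rank := by
  classical
  have hTT : ((t : Matrix.GeneralLinearGroup ι F) : Matrix ι ι F)
      * ((t : Matrix.GeneralLinearGroup ι F) : Matrix ι ι F) = 1 := by
    have := congrArg (fun g : ↥(Cfsg.isometryGroup F (⇑Q)) =>
      ((g : Matrix.GeneralLinearGroup ι F) : Matrix ι ι F)) ht
    exact this
  have hA : ∀ T : Matrix ι ι F, IsIsom Q T → T * T = 1 → (∀ x, Q ((T - 1) *ᵥ x) = 0) →
      Even (T - 1).rank ∧ ∃ j d, IsReflProd Q T j d ∧ Even j := by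
    intro T hT hTT' hts
    have hev := even_rank_of_alt_O Q hQ h2 hT hTT' hts
    have hle := hW1 (LinearMap.range (T - 1).mulVecLin) (by rintro _ ⟨x, rfl⟩; exact hts x)
    have hrk : (T - 1).rank = finrank F ↥(LinearMap.range (T - 1).mulVecLin) := rfl
    have hr0 : (T - 1).rank = 0 := by
      obtain ⟨k, hk⟩ := hev
      omega
    have hT1 : T = 1 := by
      by_contra hne
      have := Cfsg.Agent.Lib.Helper44_SpCount.rank_pos_of_ne_one hne
      omega
    refine ⟨hev, 0, 1, hT1 ▸ IsReflProd.one Q, Even.zero⟩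
  obtain ⟨j, d, ⟨vs, hvs, hprod, hlen, -⟩, hj⟩ := main_of Q h2 hA _ _ (isIsom_of_mem Q t) hTT rfl
  have htp : t = (vs.map (reflT Q)).prod := by
    apply Subtype.ext
    apply Units.ext
    rw [hprod, prod_reflT_coe Q vs hvs]
  rw [← hj, ← hlen]
  conv_lhs => rw [htp]
  exact prod_mem_omega_iff_even_witt Q h2 hQ vs hvs

end consequences

end Cfsg.Agent.Lib.Helper44_GenCD
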