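import Mathlib
import Cfsg.Agent.Lib.Helper44_GenCD
import Cfsg.Agent.Lib.Helper44_OCount

set_option autoImplicit false

/-!
Orthogonal groups in characteristic two acting on nonsingular points (helper68):
counting points through vectors, elements of odd order lie in `Ω`, and involutions without
nonsingular fixed vectors.
-/

namespace Cfsg.Agent.Lib.Helper68_OEven

open Matrix Module Cfsg.Agent.Lib.Helper14_CartanDieudonne

section points

variable {F : Type*} [Field F] [Fintype F] {V : Type*} [AddCommGroup V] [Module F V] [Finite V]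

/-- counting the points carrying a scaling-invariant property through the vectors carrying it -/
theorem card_points_mul (P : V → Prop) (hP0 : ¬ P 0)
    (hPs : ∀ (c : F) (v : V), c ≠ 0 → P v → P (c • v)) :
    Nat.card {W : Submodule F V // Module.finrank F ↥W = 1 ∧ ∃ v ∈ W, P v} *
      (Fintype.card F - 1) = Nat.card {v : V // P v} := by
  classical
  have := Fintype.ofFinite V
  have hne : ∀ v : {v : V // P v}, (v : V) ≠ 0 := by
    rintro ⟨v, hv⟩ rfl
    exact hP0 hv
  let f : {v : V // P v} → {W : Submodule F V // Module.finrank F ↥W = 1 ∧ ∃ v ∈ W, P v} :=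
    fun v => ⟨Submodule.span F {(v : V)}, finrank_span_singleton (hne v),
      ⟨v, Submodule.mem_span_singleton_self _, v.2⟩⟩
  have hfib : ∀ W : {W : Submodule F V // Module.finrank F ↥W = 1 ∧ ∃ v ∈ W, P v},
      Nat.card {v : {v : V // P v} // f v = W} = Fintype.card F - 1 := by
    rintro ⟨W, hW1, v₀, hv₀W, hv₀⟩
    have hv₀0 : v₀ ≠ 0 := by
      rintro rfl
      exact hP0 hv₀
    have hWspan : W = Submodule.span F {v₀} := by
      symm
      apply Submodule.eq_of_le_of_finrank_eq
      · rw [Submodule.span_singleton_le_iff_mem]; exact hv₀W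
      · rw [finrank_span_singleton hv₀0, hW1]
    subst hWspan
    have hex : ∀ v : {v : {v : V // P v} // f v = ⟨Submodule.span F {v₀}, hW1, v₀, hv₀W, hv₀⟩},
        ∃ c : F, c • v₀ = ((v : {v : V // P v}) : V) := by
      intro v
      have h1 := congrArg Subtype.val v.2
      have h2 : Submodule.span F {((v : {v : V // P v}) : V)} = Submodule.span F {v₀} := h1
      have hm : ((v : {v : V // P v}) : V) ∈ Submodule.span F {v₀} :=
        le_of_eq h2 (Submodule.mem_span_singleton_self _)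
      exact Submodule.mem_span_singleton.1 hm
    choose cf hcf using hex
    have hcf0 : ∀ v, cf v ≠ 0 := by
      intro v h0
      have := hcf v
      rw [h0, zero_smul] at this
      exact hne v.1 this.symm
    let e : Fˣ ≃ {v : {v : V // P v} // f v = ⟨Submodule.span F {v₀}, hW1, v₀, hv₀W, hv₀⟩} :=
      { toFun := fun c => ⟨⟨(c : F) • v₀, hPs _ _ c.ne_zero hv₀⟩, by
          apply Subtype.ext
          show Submodule.span F {(c : F) • v₀} = Submodule.span F {v₀}
          exact Submodule.span_singleton_smul_eq c.isUnit v₀⟩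
        invFun := fun v => Units.mk0 (cf v) (hcf0 v)
        left_inv := by
          intro c
          apply Units.ext
          simp only [Units.val_mk0]
          have := hcf ⟨⟨(c : F) • v₀, hPs _ _ c.ne_zero hv₀⟩, by
            apply Subtype.ext
            show Submodule.span F {(c : F) • v₀} = Submodule.span F {v₀}
            exact Submodule.span_singleton_smul_eq c.isUnit v₀⟩
          have h3 : (cf ⟨⟨(c : F) • v₀, hPs _ _ c.ne_zero hv₀⟩, by
            apply Subtype.ext
            show Submodule.span F {(c : F) • v₀} = Submodule.span F {v₀}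
            exact Submodule.span_singleton_smul_eq c.isUnit v₀⟩ - (c : F)) • v₀ = 0 := by
            rw [sub_smul, this, sub_self]
          rcases smul_eq_zero.1 h3 with h4 | h4
          · exact sub_eq_zero.1 h4
          · exact absurd h4 hv₀0
        right_inv := by
          intro v
          apply Subtype.ext
          apply Subtype.ext
          simp only [Units.val_mk0]
          exact hcf v }
    rw [← Nat.card_congr e, Nat.card_units, Nat.card_eq_fintype_card]
  rw [← Nat.card_congr (Equiv.sigmaFiberEquiv f), Nat.card_sigma]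
  simp only [hfib]
  rw [Finset.sum_const, Finset.card_univ, smul_eq_mul, Nat.card_eq_fintype_card]

end points

section orth

variable {ι : Type} [Fintype ι] [DecidableEq ι] {F : Type*} [Field F]

open Cfsg.Agent.Lib.Helper44_GenCD Cfsg.Agent.Lib.Helper44_OCount

/-- elements of odd order of the isometry group lie in `Ω` (characteristic two) -/
theorem odd_mem_omega [Fintype F] (h2 : (2 : F) = 0) (Q : QuadraticForm F (ι → F))
    (hQ : (QuadraticMap.polarBilin Q).Nondegenerate)
    (hex : Fintype.card F ≠ 2 ∨ Fintype.card ι ≠ 4) {v₀ : ι → F} (hv₀ : Q v₀ ≠ 0)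
    (g : ↥(Cfsg.isometryGroup F (⇑Q))) {k : ℕ} (hk : Odd k) (hg : g ^ k = 1) :
    g ∈ Cfsg.Omega F (⇑Q) := by
  have hidx := index_omega_two_of_cd h2 Q hQ (hasCD_of_hex Q hQ hex) hv₀
  obtain ⟨j, rfl⟩ := hk
  have h1 : (g ^ (j + 1)) ^ 2 ∈ Cfsg.Omega F (⇑Q) := Subgroup.sq_mem_of_index_two hidx _
  have h3 : (g ^ (j + 1)) ^ 2 = g := by
    rw [← pow_mul, show (j + 1) * 2 = (2 * j + 1) + 1 from by ring, pow_succ, hg, one_mul]
  rwa [h3] at h1

/-- an involutory isometry in characteristic two fixes a nonsingular vector, provided the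
totally singular subspaces have dimension at most `w`, where `2 w ≤ n`, and `w` is odd in case
`n = 2 w` -/
theorem exists_fixed_nonsingular (h2 : (2 : F) = 0) (Q : QuadraticForm F (ι → F))
    (hQ : (QuadraticMap.polarBilin Q).Nondegenerate) (w : ℕ)
    (hW : ∀ U : Submodule F (ι → F), (∀ x ∈ U, Q x = 0) → finrank F U ≤ w)
    (hn : Fintype.card ι = 2 * w → Odd w) (hle : 2 * w ≤ Fintype.card ι)
    {T : Matrix ι ι F} (hT : IsIsom Q T) (hTT : T * T = 1) :
    ∃ v, T *ᵥ v = v ∧ Q v ≠ 0 := by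
  by_contra hcon
  push Not at hcon
  have hneg : ∀ u : ι → F, -u = u := by
    intro u
    have : u + u = 0 := by
      ext i
      have : u i + u i = 2 * u i := by ring
      rw [Pi.add_apply, this, h2, zero_mul]; rfl
    exact neg_eq_of_add_eq_zero_left this
  have hfix : ∀ v, T *ᵥ ((T - 1) *ᵥ v) = (T - 1) *ᵥ v := by
    intro v
    rw [Matrix.mulVec_mulVec, Matrix.mul_sub, hTT, Matrix.mul_one, ← hneg ((T - 1) *ᵥ v),
      ← Matrix.neg_mulVec, neg_sub]
  have ha : ∀ v, Q ((T - 1) *ᵥ v) = 0 := fun v => hcon _ (hfix v)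
  have hev := even_rank_of_alt_O Q hQ h2 hT hTT ha
  set L : (ι → F) →ₗ[F] (ι → F) := (T - 1).mulVecLin with hL
  have hker : finrank F (LinearMap.ker L) ≤ w := by
    apply hW
    intro x hx
    apply hcon
    rw [LinearMap.mem_ker, hL, Matrix.mulVecLin_apply, Matrix.sub_mulVec, Matrix.one_mulVec,
      sub_eq_zero] at hx
    exact hx
  have hrange : LinearMap.range L ≤ LinearMap.ker L := by
    rintro _ ⟨v, rfl⟩
    rw [LinearMap.mem_ker, hL, Matrix.mulVecLin_apply, Matrix.mulVecLin_apply,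
      Matrix.sub_mulVec, Matrix.one_mulVec, hfix, sub_self]
  have hrk : (T - 1).rank = finrank F (LinearMap.range L) := rfl
  have hsum := LinearMap.finrank_range_add_finrank_ker L
  rw [Module.finrank_fintype_fun_eq_card] at hsum
  have hle2 := Submodule.finrank_mono hrange
  have hcard : Fintype.card ι = 2 * w := by omega
  have hodd := hn hcard
  have hrkw : (T - 1).rank = w := by omega
  rw [hrkw] at hev
  exact (Nat.not_even_iff_odd.2 hodd) hev

end orth

section arith

theorem arith_plus (q e N : ℕ) (hq : 2 ≤ q)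
    (h : N * (q - 1) + (q ^ (2 * (e + 1) - 1) + q ^ (e + 1) - q ^ e) = q ^ (2 * (e + 1))) :
    N = q ^ e * (q ^ (e + 1) - 1) := by
  obtain ⟨s, rfl⟩ : ∃ s, q = s + 1 := ⟨q - 1, by omega⟩
  have hs : 0 < s := by omega
  have hQ : 1 ≤ (s + 1) ^ e := Nat.one_le_pow _ _ (by omega)
  have hA : (s + 1) ^ (2 * (e + 1) - 1) = (s + 1) ^ e * (s + 1) ^ e * (s + 1) := by
    rw [show 2 * (e + 1) - 1 = e + e + 1 from by omega, pow_succ, pow_add]
  have hB : (s + 1) ^ (e + 1) = (s + 1) ^ e * (s + 1) := pow_succ _ _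
  have hC : (s + 1) ^ (2 * (e + 1)) = (s + 1) ^ e * (s + 1) ^ e * (s + 1) * (s + 1) := by
    rw [show 2 * (e + 1) = e + e + 1 + 1 from by ring, pow_succ, pow_succ, pow_add]
  rw [hA, hB, hC, Nat.add_sub_cancel] at h
  rw [hB]
  generalize (s + 1) ^ e = Q at *
  apply Nat.eq_of_mul_eq_mul_right hs
  have h1 : Q ≤ Q * Q * (s + 1) + Q * (s + 1) := by nlinarith
  have h2 : 1 ≤ Q * (s + 1) := by nlinarith
  zify [h1, h2] at h ⊢
  linear_combination h

theorem arith_minus (q e N : ℕ) (hq : 2 ≤ q)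
    (h : N * (q - 1) + (q ^ (2 * (e + 1) - 1) + q ^ e - q ^ (e + 1)) = q ^ (2 * (e + 1))) :
    N = q ^ e * (q ^ (e + 1) + 1) := by
  obtain ⟨s, rfl⟩ : ∃ s, q = s + 1 := ⟨q - 1, by omega⟩
  have hs : 0 < s := by omega
  have hQ : 1 ≤ (s + 1) ^ e := Nat.one_le_pow _ _ (by omega)
  have hA : (s + 1) ^ (2 * (e + 1) - 1) = (s + 1) ^ e * (s + 1) ^ e * (s + 1) := by
    rw [show 2 * (e + 1) - 1 = e + e + 1 from by omega, pow_succ, pow_add]
  have hB : (s + 1) ^ (e + 1) = (s + 1) ^ e * (s + 1) := pow_succ _ _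
  have hC : (s + 1) ^ (2 * (e + 1)) = (s + 1) ^ e * (s + 1) ^ e * (s + 1) * (s + 1) := by
    rw [show 2 * (e + 1) = e + e + 1 + 1 from by ring, pow_succ, pow_succ, pow_add]
  rw [hA, hB, hC, Nat.add_sub_cancel] at h
  rw [hB]
  generalize (s + 1) ^ e = Q at *
  apply Nat.eq_of_mul_eq_mul_right hs
  have h1 : Q * (s + 1) ≤ Q * Q * (s + 1) + Q := by
    have : Q * (s + 1) * 1 ≤ Q * (s + 1) * Q := Nat.mul_le_mul_left _ hQ
    nlinarith
  zify [h1] at h ⊢
  linear_combination h

end arith

section pts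

variable {ι : Type} [Fintype ι] [DecidableEq ι] {F : Type*} [Field F]

/-- an isometry stabilising a nonsingular point fixes its vectors (characteristic two) -/
theorem fixed_of_invariant_point (h2 : (2 : F) = 0) (Q : QuadraticForm F (ι → F))
    {T : Matrix ι ι F} (hT : IsIsom Q T) (W : Submodule F (ι → F)) (hW1 : finrank F W = 1)
    {v : ι → F} (hvW : v ∈ W) (hv : Q v ≠ 0) (hmap : W.map (Matrix.toLin' T) ≤ W) :
    T *ᵥ v = v := by
  have hv0 : v ≠ 0 := by
    rintro rfl
    exact hv (map_zero Q)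
  have hWspan : Submodule.span F {v} = W := by
    apply Submodule.eq_of_le_of_finrank_eq
    · rw [Submodule.span_singleton_le_iff_mem]; exact hvW
    · rw [finrank_span_singleton hv0, hW1]
  have hTv : T *ᵥ v ∈ W := by
    apply hmap
    exact ⟨v, hvW, by rw [Matrix.toLin'_apply]⟩
  rw [← hWspan] at hTv
  obtain ⟨c, hc⟩ := Submodule.mem_span_singleton.1 hTv
  have h1 : Q (T *ᵥ v) = Q v := hT v
  rw [← hc, QuadraticMap.map_smul, smul_eq_mul] at h1
  have h3 : (c * c - 1) * Q v = 0 := by linear_combination h1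
  have h4 : c * c = 1 := sub_eq_zero.1 ((mul_eq_zero.1 h3).resolve_right hv)
  have h5 : (c - 1) * (c - 1) = 0 := by linear_combination h4 + (1 - c) * h2
  have h6 : c = 1 := sub_eq_zero.1 (mul_self_eq_zero.1 h5)
  rw [← hc, h6, one_smul]

end pts


section generic2

variable {ι : Type} [Fintype ι] [DecidableEq ι] {F : Type*} [Field F]

open Cfsg.Agent.Lib.Helper44_Orth

/-- a scalar isometry fixes the nonsingular vectors (characteristic two) -/
theorem scalar_isIsom_fix (h2 : (2 : F) = 0) (Q : QuadraticForm F (ι → F)) {T : Matrix ι ι F}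
    (hT : IsIsom Q T) {z : F} (hz : T = z • (1 : Matrix ι ι F)) {v : ι → F} (hv : Q v ≠ 0) :
    T *ᵥ v = v := by
  have h1 : Q (T *ᵥ v) = Q v := hT v
  rw [hz, Matrix.smul_mulVec, Matrix.one_mulVec] at h1 ⊢
  rw [QuadraticMap.map_smul, smul_eq_mul] at h1
  have h3 : (z * z - 1) * Q v = 0 := by linear_combination h1
  have h4 : z * z = 1 := sub_eq_zero.1 ((mul_eq_zero.1 h3).resolve_right hv)
  have h5 : (z - 1) * (z - 1) = 0 := by linear_combination h4 + (1 - z) * h2
  have h6 : z = 1 := sub_eq_zero.1 (mul_self_eq_zero.1 h5)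
  rw [h6, one_smul]

omit [DecidableEq ι] in
/-- totally singular subspaces have at most half the dimension -/
theorem two_mul_finrank_le_of_singular (Q : QuadraticForm F (ι → F))
    (hQ : (QuadraticMap.polarBilin Q).Nondegenerate) (U : Submodule F (ι → F))
    (hU : ∀ x ∈ U, Q x = 0) : 2 * finrank F U ≤ Fintype.card ι := by
  have hle : U ≤ LinearMap.BilinForm.orthogonal (QuadraticMap.polarBilin Q) U := by
    intro x hx
    rw [LinearMap.BilinForm.mem_orthogonal_iff]
    intro n hn
    rw [QuadraticMap.polarBilin_apply_apply, QuadraticMap.polar,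
      hU _ (U.add_mem hn hx), hU _ hn, hU _ hx]
    ring
  have h1 := Submodule.finrank_mono hle
  have h3 := LinearMap.BilinForm.finrank_orthogonal hQ U
  have h4 := Submodule.finrank_le U
  rw [Module.finrank_fintype_fun_eq_card] at h3 h4
  omega

/-- an element of `Ω` of order dividing `r` without nonsingular fixed vectors refutes the
fixed point property -/
theorem not_all_fix_of_fpf (h2 : (2 : F) = 0) (Q : QuadraticForm F (ι → F)) {r : ℕ}
    {v₀ : ι → F} (hv₀ : Q v₀ ≠ 0)
    (t : ↥(Cfsg.isometryGroup F (⇑Q))) (htΩ : t ∈ Cfsg.Omega F (⇑Q)) (htr : t ^ r = 1)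
    (hfix : ∀ v, ((t : Matrix.GeneralLinearGroup ι F) : Matrix ι ι F) *ᵥ v = v → Q v = 0) :
    ¬ (∀ x : Matrix.GeneralLinearGroup ι F, x ∈ Cfsg.Geo.omegaGL (⇑Q) →
      (∃ z : F, ((x ^ r : Matrix.GeneralLinearGroup ι F) : Matrix ι ι F)
        = z • (1 : Matrix ι ι F)) →
      (∀ z : F, (x : Matrix ι ι F) ≠ z • (1 : Matrix ι ι F)) →
      ∃ W : Submodule F (ι → F), (Module.finrank F ↥W = 1 ∧ ∃ v ∈ W, Q v ≠ 0) ∧
        W.map (Matrix.toLin' (x : Matrix ι ι F)) ≤ W) := by
  intro H
  have hT := isIsom_of_mem Q t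
  obtain ⟨W, ⟨hW1, v, hvW, hv⟩, hmap⟩ := H (t : Matrix.GeneralLinearGroup ι F)
    ⟨t, htΩ, rfl⟩ ⟨1, by
      rw [← SubmonoidClass.coe_pow, htr]
      simp⟩
    (fun z hz => hv₀ (hfix v₀ (scalar_isIsom_fix h2 Q hT hz hv₀)))
  exact hv (hfix v (fixed_of_invariant_point h2 Q hT W hW1 hvW hv hmap))

/-- elements of the isometry group with scalar square stabilise a nonsingular point -/
theorem all_fix_of_two (h2 : (2 : F) = 0) (Q : QuadraticForm F (ι → F))
    (hQ : (QuadraticMap.polarBilin Q).Nondegenerate) (w : ℕ)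
    (hW : ∀ U : Submodule F (ι → F), (∀ x ∈ U, Q x = 0) → finrank F U ≤ w)
    (hn : Fintype.card ι = 2 * w → Odd w) (hle : 2 * w ≤ Fintype.card ι)
    {v₀ : ι → F} (hv₀ : Q v₀ ≠ 0)
    (x : Matrix.GeneralLinearGroup ι F) (hx : x ∈ Cfsg.Geo.omegaGL (⇑Q)) {z : F}
    (hz : ((x ^ 2 : Matrix.GeneralLinearGroup ι F) : Matrix ι ι F) = z • (1 : Matrix ι ι F)) :
    ∃ W : Submodule F (ι → F), (Module.finrank F ↥W = 1 ∧ ∃ v ∈ W, Q v ≠ 0) ∧
      W.map (Matrix.toLin' (x : Matrix ι ι F)) ≤ W := by
  obtain ⟨t, -, rfl⟩ := hx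
  have hT := isIsom_of_mem Q t
  set T : Matrix ι ι F := ((t : Matrix.GeneralLinearGroup ι F) : Matrix ι ι F) with hTdef
  have hTT : T * T = z • (1 : Matrix ι ι F) := by
    rw [← hz, Units.val_pow_eq_pow_val, pow_two]
    rfl
  have hfix₀ : (T * T) *ᵥ v₀ = v₀ :=
    scalar_isIsom_fix h2 Q (T := T * T) (fun v => by
      rw [← Matrix.mulVec_mulVec, hT, hT]) hTT hv₀
  have hz1 : z = 1 := by
    rw [hTT, Matrix.smul_mulVec, Matrix.one_mulVec] at hfix₀
    have hv0 : v₀ ≠ 0 := by
      rintro rfl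
      exact hv₀ (map_zero Q)
    have h3 : (z - 1) • v₀ = 0 := by rw [sub_smul, hfix₀, one_smul, sub_self]
    rcases smul_eq_zero.1 h3 with h4 | h4
    · exact sub_eq_zero.1 h4
    · exact absurd h4 hv0
  rw [hz1, one_smul] at hTT
  obtain ⟨v, hfix, hv⟩ := exists_fixed_nonsingular h2 Q hQ w hW hn hle hT hTT
  have hv0 : v ≠ 0 := by
    rintro rfl
    exact hv (map_zero Q)
  refine ⟨Submodule.span F {v}, ⟨finrank_span_singleton hv0, v,
    Submodule.mem_span_singleton_self _, hv⟩, ?_⟩
  rw [Submodule.map_span, Set.image_singleton, Matrix.toLin'_apply]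
  change Submodule.span F {T *ᵥ v} ≤ _
  rw [hfix]

end generic2

end Cfsg.Agent.Lib.Helper68_OEven
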