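import Mathlib
import Cfsg.Agent.Lib.Helper68_OEven
import Cfsg.Agent.Lib.Helper40_OEven
import Cfsg.Agent.Lib.Helper44_WittIndexMinus
import Cfsg.Agent.S0290

set_option autoImplicit false

/-!
The minus type orthogonal group in characteristic two acting on nonsingular points (helper68):
number of points, and elements of odd prime order without fixed vectors.
-/

namespace Cfsg.Agent.Lib.Helper68_OMinusPts

open Polynomial Matrix Module Cfsg.Agent.Lib.Helper14_CartanDieudonne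
  Cfsg.Agent.Lib.Helper44_StdForms Cfsg.Agent.Lib.Helper68_OEven
  Cfsg.Agent.Lib.Helper40_OEvenModel Cfsg.Agent.Lib.Helper40_OEven
  Cfsg.Agent.Lib.Helper40_PrimeOrderClasses Cfsg.Agent.Lib.Helper40_SpPrimeOrder
  Cfsg.Agent.Lib.Helper40_Palindromic Cfsg.Agent.Lib.Helper40_OClasses

universe u

section count

variable {F : Type u} [Field F] [Fintype F]

theorem card_compl_add' {V : Type*} [Finite V] (P : V → Prop) :
    Nat.card {v : V // ¬ P v} + Nat.card {v : V // P v} = Nat.card V := by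
  classical
  rw [add_comm, ← Nat.card_sum]
  exact Nat.card_congr (Equiv.sumCompl P)

/-- the number of nonsingular points of the minus type space -/
theorem card_points_minus (d : ℕ) (hd : 1 ≤ d) (a b : F)
    (hab : ∀ z₁ z₂ : F, z₁ ^ 2 + a * z₁ * z₂ + b * z₂ ^ 2 = 0 → z₁ = 0 ∧ z₂ = 0) :
    Nat.card {W : Submodule F ((Fin (d - 1) ⊕ Fin (d - 1)) ⊕ Fin 2 → F) //
      Module.finrank F ↥W = 1 ∧ ∃ v ∈ W, qfMinus (d - 1) F a b v ≠ 0}
      = Fintype.card F ^ (d - 1) * (Fintype.card F ^ d + 1) := by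
  have h1 := card_points_mul (F := F) (V := (Fin (d - 1) ⊕ Fin (d - 1)) ⊕ Fin 2 → F)
    (fun v => qfMinus (d - 1) F a b v ≠ 0)
    (by simp) (fun c v hc hv => by
      rw [QuadraticMap.map_smul]
      exact mul_ne_zero (mul_ne_zero hc hc) hv)
  have h2 := Cfsg.Agent.S0290.result (F := F) rfl d hd a b hab
  rw [← coe_qfMinus] at h2
  have h3 := card_compl_add' (V := (Fin (d - 1) ⊕ Fin (d - 1)) ⊕ Fin 2 → F)
    (fun v => qfMinus (d - 1) F a b v = 0)
  have h4 : Nat.card ((Fin (d - 1) ⊕ Fin (d - 1)) ⊕ Fin 2 → F) = Fintype.card F ^ (2 * d) := by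
    rw [Nat.card_eq_fintype_card, Fintype.card_fun, Fintype.card_sum, Fintype.card_sum,
      Fintype.card_fin, Fintype.card_fin]
    congr 1
    omega
  have hq : 2 ≤ Fintype.card F := Fintype.one_lt_card
  obtain ⟨e, rfl⟩ : ∃ e, d = e + 1 := ⟨d - 1, by omega⟩
  rw [Nat.add_sub_cancel] at h1 h2 h3 h4 ⊢
  apply arith_minus _ _ _ hq
  rw [h1, ← h2, ← h4]
  exact h3

end count

section oddprime

variable {F : Type u} [Field F] [Fintype F]

/-- a palindromic polynomial of degree `2 d` prime to `X - 1` with all factors dividing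
`X ^ r - 1`, when the order `i` of `q` modulo `r` is even and divides `2 d` -/
theorem exists_pal_poly (p : ℕ) [Fact p.Prime] [CharP F p] (d r : ℕ) (hd : 1 ≤ d) (hr : r.Prime)
    (hrp : r ≠ p) (hie : Even (orderOf ((Fintype.card F : ℕ) : ZMod r)))
    (hid : orderOf ((Fintype.card F : ℕ) : ZMod r) ∣ 2 * d) :
    ∃ c : F[X], Pal r d c ∧ ¬ ((X : F[X]) - 1) ∣ c := by
  classical
  obtain ⟨hipos, W, hWcard, hW, -⟩ := exists_cyclotomic_factors (F := F) p r hr hrp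
  obtain ⟨i, hi⟩ : ∃ i, i = orderOf ((Fintype.card F : ℕ) : ZMod r) := ⟨_, rfl⟩
  rw [← hi] at hipos hWcard hW hie hid
  have : Fact r.Prime := ⟨hr⟩
  have hq0 : ((Fintype.card F : ℕ) : ZMod r) ≠ 0 := by
    rw [Ne, ZMod.natCast_eq_zero_iff]
    intro h
    obtain ⟨k, -, hk⟩ := FiniteField.card F p
    rw [hk] at h
    exact hrp ((Nat.prime_dvd_prime_iff_eq hr Fact.out).1 (hr.dvd_of_dvd_pow h))
  have hedvd : i ∣ r - 1 := hi ▸ ZMod.orderOf_dvd_card_sub_one hq0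
  have hWne : W.Nonempty := by
    rw [← Finset.card_pos, hWcard]
    exact Nat.div_pos (Nat.le_of_dvd (by have := hr.two_le; omega) hedvd) hipos
  obtain ⟨w, hwW⟩ := hWne
  obtain ⟨hwm, hwi, hw1, hwd, hwdeg⟩ := hW w hwW
  have hw0 := coeff_zero_ne_zero_of_dvd r hr.pos w hwd
  have hrec := recip_eq_of_even p r i hr hi hipos hie w hwm hwi hw1 hwd
  have he1 := eval_one_ne_zero w hwm hwi hw1
  have hc0 := coeff_zero_eq_one_of_recip_eq w hw0 hrec he1
  have hrev := reverse_eq_of_recip_eq w hc0 hrec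
  obtain ⟨k, hk⟩ := hid
  refine ⟨w ^ k, ⟨hwm.pow k, ?_, ?_, ?_⟩, ?_⟩
  · rw [hwm.natDegree_pow, hwdeg, hk, mul_comm]
  · rw [reverse_pow', hrev]
  · intro f hf hfd
    exact (hf.prime.dvd_of_dvd_pow hfd).trans hwd
  · intro hdvd
    have h1 : (w ^ k).eval 1 = 0 := by
      obtain ⟨c', hc'⟩ := hdvd
      rw [hc', eval_mul, eval_sub, eval_X, eval_one, sub_self, zero_mul]
    rw [eval_pow] at h1
    exact he1 (pow_eq_zero_iff (by
      rintro rfl
      rw [mul_zero] at hk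
      omega) |>.1 h1)

end oddprime


section main

variable {F : Type u} [Field F] [Fintype F]

open Cfsg.Agent.Lib.Helper40_OFixedFree

omit [Fintype F] in
theorem exists_nonsingular_minus (n : ℕ) (a b : F) : ∃ v, qfMinus n F a b v ≠ 0 := by
  refine ⟨Pi.single (Sum.inr 0) 1, ?_⟩
  have h := congrFun (coe_qfMinus n F a b)
  rw [h]
  simp [Cfsg.quadFormMinus]

/-- elements of odd prime order of `Ω⁻` without nonzero fixed vectors -/
theorem exists_fpf_minus [CharP F 2] (d : ℕ) (hd : 3 ≤ d) (a b : F)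
    (hab : ∀ z₁ z₂ : F, z₁ ^ 2 + a * z₁ * z₂ + b * z₂ ^ 2 = 0 → z₁ = 0 ∧ z₂ = 0)
    {r : ℕ} (hr : r.Prime) (hr2 : r ≠ 2) (hdvd : r ∣ Fintype.card F ^ d + 1) :
    ∃ t : ↥(Cfsg.isometryGroup F (⇑(qfMinus (d - 1) F a b))),
      t ∈ Cfsg.Omega F (⇑(qfMinus (d - 1) F a b)) ∧ t ^ r = 1 ∧
      ∀ v, ((t : Matrix.GeneralLinearGroup ((Fin (d - 1) ⊕ Fin (d - 1)) ⊕ Fin 2) F) :
        Matrix ((Fin (d - 1) ⊕ Fin (d - 1)) ⊕ Fin 2) ((Fin (d - 1) ⊕ Fin (d - 1)) ⊕ Fin 2) F) *ᵥ v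
          = v → qfMinus (d - 1) F a b v = 0 := by
  have h2 : (2 : F) = 0 := by
    have := CharP.cast_eq_zero F 2
    exact_mod_cast this
  have : Fact r.Prime := ⟨hr⟩
  have : Fact (Nat.Prime 2) := ⟨Nat.prime_two⟩
  obtain ⟨i, hi⟩ : ∃ i, i = orderOf ((Fintype.card F : ℕ) : ZMod r) := ⟨_, rfl⟩
  have hx : ((Fintype.card F : ℕ) : ZMod r) ^ d = -1 := by
    have h1 : ((Fintype.card F ^ d + 1 : ℕ) : ZMod r) = 0 := (ZMod.natCast_eq_zero_iff _ _).2 hdvd
    rw [Nat.cast_add, Nat.cast_pow, Nat.cast_one] at h1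
    exact eq_neg_of_add_eq_zero_left h1
  have hx2 : ((Fintype.card F : ℕ) : ZMod r) ^ (2 * d) = 1 := by
    rw [mul_comm, pow_mul, hx]
    ring
  have hid : i ∣ 2 * d := hi ▸ orderOf_dvd_of_pow_eq_one hx2
  have hnd : ¬ i ∣ d := by
    intro h
    rw [hi] at h
    have h1 := orderOf_dvd_iff_pow_eq_one.1 h
    rw [hx] at h1
    apply two_ne_zero_zmod r hr hr2
    linear_combination -h1
  have hie : Even i := by
    by_contra hodd
    rw [Nat.not_even_iff_odd] at hodd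
    exact hnd ((Nat.Coprime.dvd_of_dvd_mul_left hodd.coprime_two_right) hid)
  have hrF : ((r : ℕ) : F) ≠ 0 := by
    rw [Ne, CharP.cast_eq_zero_iff F 2]
    intro h
    exact hr2 ((Nat.prime_dvd_prime_iff_eq Nat.prime_two hr).1 h).symm
  obtain ⟨c, hpal, hcnd⟩ := exists_pal_poly (F := F) 2 d r (by omega) hr hr2 (hi ▸ hie) (hi ▸ hid)
  have hrodd := hr.odd_of_ne_two hr2
  rcases real_of_not_dvd d (by omega) r hrodd hrF c hpal a b hab with
    ⟨g, hg1, hg2⟩ | ⟨g, hg1, hg2⟩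
  · exfalso
    obtain ⟨-, h1⟩ := plus_excl 2 d (by omega) r hr hr2 hr2 g hg1 (by rw [hg2]; exact hcnd)
    apply hnd
    rw [hi]
    apply h1
    intro h
    rw [← hi] at h
    rw [h] at hie
    exact absurd hie (by decide)
  · obtain ⟨v₀, hv₀⟩ := exists_nonsingular_minus (F := F) (d - 1) a b
    have hcard : Fintype.card ((Fin (d - 1) ⊕ Fin (d - 1)) ⊕ Fin 2) ≠ 4 := by
      rw [Fintype.card_sum, Fintype.card_sum, Fintype.card_fin, Fintype.card_fin]
      omega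
    refine ⟨g, odd_mem_omega h2 (qfMinus (d - 1) F a b)
      (Cfsg.Agent.Lib.Helper14_POmegaSimple.nondegenerate_qfMinus (d - 1) a b hab) (Or.inr hcard)
      hv₀ g hrodd hg1, hg1, ?_⟩
    intro v hv
    have h3 := eq_zero_of_fixed_of_not_dvd (Matrix.toLin' (mat (qfMinus (d - 1) F a b) g))
      (by rw [Matrix.charpoly_toLin', hg2]; exact hcnd) v
      (by rw [Matrix.toLin'_apply]; exact hv)
    rw [h3, map_zero]

/-- **the nonsingular point criterion for `Ω⁻_{2d}(q)`, `q` even** -/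
theorem main_minus [CharP F 2] (d : ℕ) (hd : 4 ≤ d) (a b : F)
    (hab : ∀ z₁ z₂ : F, z₁ ^ 2 + a * z₁ * z₂ + b * z₂ ^ 2 = 0 → z₁ = 0 ∧ z₂ = 0)
    (r : ℕ) (hr : r.Prime)
    (hrΩ : r ∣ Nat.card {W : Submodule F ((Fin (d - 1) ⊕ Fin (d - 1)) ⊕ Fin 2 → F) //
      Module.finrank F ↥W = 1 ∧ ∃ v ∈ W, (⇑(qfMinus (d - 1) F a b)) v ≠ 0}) :
    (∀ x : Matrix.GeneralLinearGroup ((Fin (d - 1) ⊕ Fin (d - 1)) ⊕ Fin 2) F,
      x ∈ Cfsg.Geo.omegaGL (⇑(qfMinus (d - 1) F a b)) →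
      (∃ z : F, ((x ^ r : Matrix.GeneralLinearGroup ((Fin (d - 1) ⊕ Fin (d - 1)) ⊕ Fin 2) F) :
        Matrix ((Fin (d - 1) ⊕ Fin (d - 1)) ⊕ Fin 2) ((Fin (d - 1) ⊕ Fin (d - 1)) ⊕ Fin 2) F)
          = z • (1 : Matrix ((Fin (d - 1) ⊕ Fin (d - 1)) ⊕ Fin 2)
            ((Fin (d - 1) ⊕ Fin (d - 1)) ⊕ Fin 2) F)) →
      (∀ z : F, (x : Matrix ((Fin (d - 1) ⊕ Fin (d - 1)) ⊕ Fin 2)
          ((Fin (d - 1) ⊕ Fin (d - 1)) ⊕ Fin 2) F)
          ≠ z • (1 : Matrix ((Fin (d - 1) ⊕ Fin (d - 1)) ⊕ Fin 2)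
            ((Fin (d - 1) ⊕ Fin (d - 1)) ⊕ Fin 2) F)) →
      ∃ W : Submodule F ((Fin (d - 1) ⊕ Fin (d - 1)) ⊕ Fin 2 → F),
        (Module.finrank F ↥W = 1 ∧ ∃ v ∈ W, (⇑(qfMinus (d - 1) F a b)) v ≠ 0) ∧
        W.map (Matrix.toLin' (x : Matrix ((Fin (d - 1) ⊕ Fin (d - 1)) ⊕ Fin 2)
          ((Fin (d - 1) ⊕ Fin (d - 1)) ⊕ Fin 2) F)) ≤ W)
      ↔ r = 2 := by
  have h2 : (2 : F) = 0 := by
    have := CharP.cast_eq_zero F 2
    exact_mod_cast this
  have hQ := Cfsg.Agent.Lib.Helper14_POmegaSimple.nondegenerate_qfMinus (d - 1) a b hab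
  obtain ⟨v₀, hv₀⟩ := exists_nonsingular_minus (F := F) (d - 1) a b
  have hcard : Fintype.card ((Fin (d - 1) ⊕ Fin (d - 1)) ⊕ Fin 2) = 2 * d := by
    rw [Fintype.card_sum, Fintype.card_sum, Fintype.card_fin, Fintype.card_fin]
    omega
  rw [card_points_minus d (by omega) a b hab] at hrΩ
  constructor
  · intro H
    by_contra hr2
    have hdvd : r ∣ Fintype.card F ^ d + 1 := by
      rcases (Nat.Prime.dvd_mul hr).1 hrΩ with h | h
      · exfalso
        have h1 := hr.dvd_of_dvd_pow h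
        have : Fact (Nat.Prime 2) := ⟨Nat.prime_two⟩
        obtain ⟨k, -, hk⟩ := FiniteField.card F 2
        rw [hk] at h1
        have h3 := hr.dvd_of_dvd_pow h1
        exact hr2 ((Nat.prime_dvd_prime_iff_eq hr Nat.prime_two).1 h3)
      · exact h
    obtain ⟨t, htΩ, htr, hfix⟩ := exists_fpf_minus (F := F) d (by omega) a b hab hr hr2 hdvd
    exact not_all_fix_of_fpf h2 (qfMinus (d - 1) F a b) hv₀ t htΩ htr hfix H
  · rintro rfl x hx ⟨z, hz⟩ -
    refine all_fix_of_two h2 (qfMinus (d - 1) F a b) hQ (d - 1) ?_ ?_ ?_ hv₀ x hx hz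
    · intro U hU
      exact Cfsg.Agent.Lib.Helper44_WittIndexMinus.ts_finrank_le (d - 1) a b hab hQ U hU
    · intro h
      omega
    · omega

end main

end Cfsg.Agent.Lib.Helper68_OMinusPts
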