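import Mathlib
import Cfsg.Agent.Lib.Helper68_OEven
import Cfsg.Agent.Lib.Helper99_PrimeOrderSL
import Cfsg.Agent.S0289

set_option autoImplicit false

/-!
The plus type orthogonal group in characteristic two acting on nonsingular points (helper68):
number of points, a Siegel type involution without nonsingular fixed vectors, and elements of odd
prime order without fixed vectors.
-/

namespace Cfsg.Agent.Lib.Helper68_OPlusPts

open Matrix Module Cfsg.Agent.Lib.Helper14_CartanDieudonne Cfsg.Agent.Lib.Helper44_StdForms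
  Cfsg.Agent.Lib.Helper44_Levi Cfsg.Agent.Lib.Helper44_OCount Cfsg.Agent.Lib.Helper68_OEven

section count

variable {F : Type*} [Field F] [Fintype F]

theorem card_compl_add {V : Type*} [Finite V] (P : V → Prop) :
    Nat.card {v : V // ¬ P v} + Nat.card {v : V // P v} = Nat.card V := by
  classical
  rw [add_comm, ← Nat.card_sum]
  exact Nat.card_congr (Equiv.sumCompl P)

/-- the number of nonsingular points of the plus type space -/
theorem card_points_plus (d : ℕ) (hd : 1 ≤ d) :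
    Nat.card {W : Submodule F (Fin d ⊕ Fin d → F) //
      Module.finrank F ↥W = 1 ∧ ∃ v ∈ W, qfPlus d F v ≠ 0}
      = Fintype.card F ^ (d - 1) * (Fintype.card F ^ d - 1) := by
  have h1 := card_points_mul (F := F) (V := Fin d ⊕ Fin d → F) (fun v => qfPlus d F v ≠ 0)
    (by simp) (fun c v hc hv => by
      rw [QuadraticMap.map_smul]
      exact mul_ne_zero (mul_ne_zero hc hc) hv)
  have h2 := Cfsg.Agent.S0289.result (F := F) rfl d hd
  rw [← coe_qfPlus] at h2
  have h3 := card_compl_add (V := Fin d ⊕ Fin d → F) (fun v => qfPlus d F v = 0)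
  have h4 : Nat.card (Fin d ⊕ Fin d → F) = Fintype.card F ^ (2 * d) := by
    rw [Nat.card_eq_fintype_card, Fintype.card_fun, Fintype.card_sum, Fintype.card_fin, two_mul]
  have hq : 2 ≤ Fintype.card F := Fintype.one_lt_card
  obtain ⟨e, rfl⟩ : ∃ e, d = e + 1 := ⟨d - 1, by omega⟩
  rw [Nat.add_sub_cancel] at h2 ⊢
  apply arith_plus _ _ _ hq
  rw [h1, ← h2, ← h4]
  exact h3

end count

section siegel

variable (d : ℕ) (F : Type*) [Field F]

/-- the linear map `(x, y) ↦ (x + y ∘ rev, y)` -/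
def siegelLin : (Fin d ⊕ Fin d → F) →ₗ[F] (Fin d ⊕ Fin d → F) where
  toFun v := Sum.elim (fun a => v (Sum.inl a) + v (Sum.inr (Fin.rev a))) (fun b => v (Sum.inr b))
  map_add' := by
    intro u v
    funext i
    rcases i with a | b
    · simp only [Sum.elim_inl, Pi.add_apply]; ring
    · simp only [Sum.elim_inr, Pi.add_apply]
  map_smul' := by
    intro c v
    funext i
    rcases i with a | b
    · simp only [Sum.elim_inl, Pi.smul_apply, smul_eq_mul, RingHom.id_apply]; ring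
    · simp only [Sum.elim_inr, Pi.smul_apply, smul_eq_mul, RingHom.id_apply]

/-- its matrix -/
def siegelM : Matrix (Fin d ⊕ Fin d) (Fin d ⊕ Fin d) F := LinearMap.toMatrix' (siegelLin d F)

theorem siegelM_mulVec (v : Fin d ⊕ Fin d → F) : siegelM d F *ᵥ v = siegelLin d F v :=
  LinearMap.toMatrix'_mulVec _ _

variable {F}

theorem siegelM_mul_self (h2 : (2 : F) = 0) : siegelM d F * siegelM d F = 1 := by
  rw [siegelM, ← LinearMap.toMatrix'_comp]
  have : siegelLin d F ∘ₗ siegelLin d F = LinearMap.id := by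
    apply LinearMap.ext
    intro v
    funext i
    rcases i with a | b
    · show v (Sum.inl a) + v (Sum.inr (Fin.rev a)) + v (Sum.inr (Fin.rev a)) = v (Sum.inl a)
      linear_combination v (Sum.inr (Fin.rev a)) * h2
    · rfl
  rw [this, LinearMap.toMatrix'_id]

theorem rev_ne_of_even (hd : Even d) (a : Fin d) : Fin.rev a ≠ a := by
  intro h
  have h1 := congrArg Fin.val h
  rw [Fin.val_rev] at h1
  obtain ⟨k, hk⟩ := hd
  have := a.2
  omega

theorem sum_rev_mul_self (h2 : (2 : F) = 0) (hd : Even d) (w : Fin d → F) :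
    ∑ a, w (Fin.rev a) * w a = 0 := by
  apply Finset.sum_involution (fun a _ => Fin.rev a)
  · intro a _
    rw [Fin.rev_rev]
    linear_combination w a.rev * w a * h2
  · intro a _ _
    exact rev_ne_of_even d hd a
  · intro a _
    exact Finset.mem_univ _
  · intro a _
    exact Fin.rev_rev a

theorem siegelM_isIsom (h2 : (2 : F) = 0) (hd : Even d) : IsIsom (qfPlus d F) (siegelM d F) := by
  intro v
  rw [siegelM_mulVec]
  have h := congrFun (coe_qfPlus d F)
  rw [h, h]
  show ∑ i : Fin d, (v (Sum.inl i) + v (Sum.inr (Fin.rev i))) * v (Sum.inr i)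
    = ∑ i : Fin d, v (Sum.inl i) * v (Sum.inr i)
  have h3 := sum_rev_mul_self d h2 hd (fun a => v (Sum.inr a))
  simp only [add_mul, Finset.sum_add_distrib]
  rw [h3, add_zero]

theorem siegelM_fixed (v : Fin d ⊕ Fin d → F) (hv : siegelM d F *ᵥ v = v) :
    qfPlus d F v = 0 := by
  rw [siegelM_mulVec] at hv
  have h := congrFun (coe_qfPlus d F)
  rw [h]
  show ∑ i : Fin d, v (Sum.inl i) * v (Sum.inr i) = 0
  apply Finset.sum_eq_zero
  intro i _
  have h1 := congrFun hv (Sum.inl (Fin.rev i))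
  have h3 : v (Sum.inl (Fin.rev i)) + v (Sum.inr (Fin.rev (Fin.rev i))) = v (Sum.inl (Fin.rev i)) :=
    h1
  rw [Fin.rev_rev] at h3
  have h4 : v (Sum.inr i) = 0 := by linear_combination h3
  rw [h4, mul_zero]

theorem siegelM_alt (v : Fin d ⊕ Fin d → F) : qfPlus d F ((siegelM d F - 1) *ᵥ v) = 0 := by
  rw [Matrix.sub_mulVec, Matrix.one_mulVec, siegelM_mulVec]
  have h := congrFun (coe_qfPlus d F)
  rw [h]
  show ∑ i : Fin d, (siegelLin d F v - v) (Sum.inl i) * (siegelLin d F v - v) (Sum.inr i) = 0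
  apply Finset.sum_eq_zero
  intro i _
  have : (siegelLin d F v - v) (Sum.inr i) = 0 := by
    show v (Sum.inr i) - v (Sum.inr i) = 0
    exact sub_self _
  rw [this, mul_zero]

end siegel


section oddprime

universe u

variable {F : Type u} [Field F] [Fintype F] {p : ℕ} [Fact p.Prime] [CharP F p]

open Cfsg.Agent.Lib.Helper99_PrimeOrderSL

/-- a matrix of order dividing `r` without nonzero fixed vectors, when `r ∣ q ^ d - 1` -/
theorem exists_fpf_matrix (d : ℕ) (hd : 1 ≤ d) {r : ℕ} (hr : r.Prime) (hrp : r ≠ p)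
    (hdvd : r ∣ Fintype.card F ^ d - 1) :
    ∃ M : Matrix (Fin d) (Fin d) F, M ^ r = 1 ∧ ∀ v, M *ᵥ v = v → v = 0 := by
  classical
  have : Fact r.Prime := ⟨hr⟩
  obtain ⟨e, he⟩ : ∃ e, e = orderOf ((Fintype.card F : ℕ) : ZMod r) := ⟨_, rfl⟩
  have hpow : ((Fintype.card F : ℕ) : ZMod r) ^ d = 1 := by
    have h1 : ((Fintype.card F ^ d - 1 : ℕ) : ZMod r) = 0 := (ZMod.natCast_eq_zero_iff _ _).2 hdvd
    rw [Nat.cast_sub (Nat.one_le_pow _ _ Fintype.card_pos), Nat.cast_pow, Nat.cast_one,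
      sub_eq_zero] at h1
    exact h1
  have hed : e ∣ d := he ▸ orderOf_dvd_of_pow_eq_one hpow
  have hepos : 0 < e := Nat.pos_of_dvd_of_pos hed hd
  by_cases he2 : 2 ≤ e
  · obtain ⟨y, hy, hfin⟩ := exists_extremal (p := p) (F := F) d hr hrp (he ▸ he2)
    rw [← he, Nat.mod_eq_zero_of_dvd hed] at hfin
    refine ⟨y.1, hy, ?_⟩
    intro v hv
    have hmem : v ∈ Module.End.eigenspace
        (Matrix.toLin' (y : Matrix (Fin d) (Fin d) F) : Module.End F (Fin d → F)) 1 := by
      rw [Module.End.mem_eigenspace_iff, one_smul, Matrix.toLin'_apply]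
      exact hv
    rw [Submodule.finrank_eq_zero.1 hfin] at hmem
    exact (Submodule.mem_bot F).1 hmem
  · have he1 : e = 1 := by omega
    rw [he, orderOf_eq_one_iff] at he1
    have hdvd1 : r ∣ Fintype.card F - 1 := by
      rw [← ZMod.natCast_eq_zero_iff, Nat.cast_sub Fintype.card_pos, he1, Nat.cast_one, sub_self]
    rw [← Fintype.card_units] at hdvd1
    obtain ⟨l, hl⟩ := exists_prime_orderOf_dvd_card r hdvd1
    have hl1 : (l : F) ≠ 1 := by
      intro h
      have : l = 1 := Units.ext h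
      rw [this, orderOf_one] at hl
      exact hr.one_lt.ne hl
    refine ⟨(l : F) • (1 : Matrix (Fin d) (Fin d) F), ?_, ?_⟩
    · rw [smul_pow, one_pow, ← Units.val_pow_eq_pow_val, ← hl, pow_orderOf_eq_one, Units.val_one,
        one_smul]
    · intro v hv
      rw [Matrix.smul_mulVec, Matrix.one_mulVec] at hv
      have h3 : ((l : F) - 1) • v = 0 := by rw [sub_smul, hv, one_smul, sub_self]
      rcases smul_eq_zero.1 h3 with h4 | h4
      · exact absurd (sub_eq_zero.1 h4) hl1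
      · exact h4

omit [Fintype F] [Fact p.Prime] [CharP F p] in
theorem no_fixed_transpose_inv {n : Type*} [Fintype n] [DecidableEq n] (M N : Matrix n n F)
    (hNM : N * M = 1) (h : ∀ v, M *ᵥ v = v → v = 0) : ∀ v, Nᵀ *ᵥ v = v → v = 0 := by
  intro v hv
  by_contra hv0
  have h1 : Mᵀ *ᵥ v = v := by
    have := congrArg (fun w => Mᵀ *ᵥ w) hv
    simp only [Matrix.mulVec_mulVec, ← Matrix.transpose_mul, hNM, Matrix.transpose_one,
      Matrix.one_mulVec] at this
    exact this.symm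
  have h3 : (M - 1)ᵀ.det = 0 := by
    rw [← Matrix.exists_mulVec_eq_zero_iff]
    refine ⟨v, hv0, ?_⟩
    rw [Matrix.transpose_sub, Matrix.transpose_one, Matrix.sub_mulVec, Matrix.one_mulVec, h1,
      sub_self]
  rw [Matrix.det_transpose, ← Matrix.exists_mulVec_eq_zero_iff] at h3
  obtain ⟨w, hw0, hw⟩ := h3
  rw [Matrix.sub_mulVec, Matrix.one_mulVec, sub_eq_zero] at hw
  exact hw0 (h w hw)

omit [Fintype F] in
theorem exists_nonsingular_plus (d : ℕ) (hd : 1 ≤ d) : ∃ v, qfPlus d F v ≠ 0 := by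
  refine ⟨Pi.single (Sum.inl ⟨0, hd⟩) 1 - (1 : F) • Pi.single (Sum.inr ⟨0, hd⟩) 1, ?_⟩
  rw [qfPlus_sub_smul d F ⟨0, hd⟩ 1]
  exact neg_ne_zero.2 one_ne_zero

/-- elements of odd prime order of `Ω⁺` without nonzero fixed vectors -/
theorem exists_fpf_plus [CharP F 2] (d : ℕ) (hd : 3 ≤ d) {r : ℕ} (hr : r.Prime) (hr2 : r ≠ 2)
    (hdvd : r ∣ Fintype.card F ^ d - 1) :
    ∃ t : ↥(Cfsg.isometryGroup F (⇑(qfPlus d F))), t ∈ Cfsg.Omega F (⇑(qfPlus d F)) ∧ t ^ r = 1 ∧
      ∀ v, ((t : Matrix.GeneralLinearGroup (Fin d ⊕ Fin d) F) :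
        Matrix (Fin d ⊕ Fin d) (Fin d ⊕ Fin d) F) *ᵥ v = v → qfPlus d F v = 0 := by
  have h2 : (2 : F) = 0 := by
    have := CharP.cast_eq_zero F 2
    exact_mod_cast this
  obtain ⟨M, hM, hfix⟩ := exists_fpf_matrix (p := 2) (F := F) d (by omega) hr hr2 hdvd
  have hr1 : r - 1 + 1 = r := Nat.sub_add_cancel hr.one_le
  let g : Matrix.GeneralLinearGroup (Fin d) F :=
    ⟨M, M ^ (r - 1), by rw [← pow_succ', hr1, hM], by rw [← pow_succ, hr1, hM]⟩
  have hg : g ^ r = 1 := Units.ext (by rw [Units.val_pow_eq_pow_val]; exact hM)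
  have htr : (leviHom d F g) ^ r = 1 := by rw [← map_pow, hg, map_one]
  obtain ⟨v₀, hv₀⟩ := exists_nonsingular_plus (F := F) d (by omega)
  have hcard : Fintype.card (Fin d ⊕ Fin d) ≠ 4 := by
    rw [Fintype.card_sum, Fintype.card_fin]
    omega
  refine ⟨leviHom d F g, odd_mem_omega h2 (qfPlus d F) (nondegenerate_qfPlus d F) (Or.inr hcard)
    hv₀ _ (hr.odd_of_ne_two hr2) htr, htr, ?_⟩
  intro v hv
  rw [leviHom_coe, Matrix.fromBlocks_mulVec] at hv
  have hl : M *ᵥ (v ∘ Sum.inl) = v ∘ Sum.inl := by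
    funext a
    have := congrFun hv (Sum.inl a)
    simpa using this
  have hrr : (M⁻¹)ᵀ *ᵥ (v ∘ Sum.inr) = v ∘ Sum.inr := by
    funext a
    have := congrFun hv (Sum.inr a)
    simpa using this
  have hdet : IsUnit M.det := by
    have := (Matrix.isUnit_iff_isUnit_det M).1 ⟨g, rfl⟩
    exact this
  have hr0 := no_fixed_transpose_inv M M⁻¹ (Matrix.nonsing_inv_mul M hdet) hfix _ hrr
  have h := congrFun (coe_qfPlus d F)
  rw [h]
  show ∑ i : Fin d, v (Sum.inl i) * v (Sum.inr i) = 0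
  apply Finset.sum_eq_zero
  intro i _
  have := congrFun hr0 i
  simp only [Function.comp_apply, Pi.zero_apply] at this
  rw [this, mul_zero]

end oddprime


section main

universe u

variable {F : Type u} [Field F] [Fintype F]

open Cfsg.Agent.Lib.Helper44_Inv2

/-- a Siegel type involution of `Ω⁺` without nonsingular fixed vectors, `d` even -/
theorem exists_siegel_plus (h2 : (2 : F) = 0) (d : ℕ) (hd : 3 ≤ d) (hev : Even d) :
    ∃ t : ↥(Cfsg.isometryGroup F (⇑(qfPlus d F))), t ∈ Cfsg.Omega F (⇑(qfPlus d F)) ∧ t ^ 2 = 1 ∧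
      ∀ v, ((t : Matrix.GeneralLinearGroup (Fin d ⊕ Fin d) F) :
        Matrix (Fin d ⊕ Fin d) (Fin d ⊕ Fin d) F) *ᵥ v = v → qfPlus d F v = 0 := by
  have hTT := siegelM_mul_self d h2 (F := F)
  have hT := siegelM_isIsom d h2 hev (F := F)
  have hQ := nondegenerate_qfPlus d F
  have hcard : 5 ≤ Fintype.card (Fin d ⊕ Fin d) := by
    rw [Fintype.card_sum, Fintype.card_fin]
    omega
  have htt : mkIso (qfPlus d F) (siegelM d F) hTT hT * mkIso (qfPlus d F) (siegelM d F) hTT hT
      = 1 := by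
    apply Subtype.ext
    apply Units.ext
    exact hTT
  refine ⟨mkIso (qfPlus d F) (siegelM d F) hTT hT, ?_, ?_, ?_⟩
  · rw [involution_mem_omega_iff h2 (qfPlus d F) hQ hcard _ htt]
    exact even_rank_of_alt_O (qfPlus d F) hQ h2 hT hTT (siegelM_alt d)
  · rw [pow_two]
    exact htt
  · intro v hv
    exact siegelM_fixed d v hv

/-- **the nonsingular point criterion for `Ω⁺_{2d}(q)`, `q` even** -/
theorem main_plus [CharP F 2] (d : ℕ) (hd : 4 ≤ d) (r : ℕ) (hr : r.Prime)
    (hrΩ : r ∣ Nat.card {W : Submodule F (Fin d ⊕ Fin d → F) //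
      Module.finrank F ↥W = 1 ∧ ∃ v ∈ W, (⇑(qfPlus d F)) v ≠ 0}) :
    (∀ x : Matrix.GeneralLinearGroup (Fin d ⊕ Fin d) F, x ∈ Cfsg.Geo.omegaGL (⇑(qfPlus d F)) →
      (∃ z : F, ((x ^ r : Matrix.GeneralLinearGroup (Fin d ⊕ Fin d) F) :
        Matrix (Fin d ⊕ Fin d) (Fin d ⊕ Fin d) F)
          = z • (1 : Matrix (Fin d ⊕ Fin d) (Fin d ⊕ Fin d) F)) →
      (∀ z : F, (x : Matrix (Fin d ⊕ Fin d) (Fin d ⊕ Fin d) F)
          ≠ z • (1 : Matrix (Fin d ⊕ Fin d) (Fin d ⊕ Fin d) F)) →
      ∃ W : Submodule F (Fin d ⊕ Fin d → F),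
        (Module.finrank F ↥W = 1 ∧ ∃ v ∈ W, (⇑(qfPlus d F)) v ≠ 0) ∧
        W.map (Matrix.toLin' (x : Matrix (Fin d ⊕ Fin d) (Fin d ⊕ Fin d) F)) ≤ W)
      ↔ (r = 2 ∧ Odd d) := by
  have h2 : (2 : F) = 0 := by
    have := CharP.cast_eq_zero F 2
    exact_mod_cast this
  have hQ := nondegenerate_qfPlus d F
  obtain ⟨v₀, hv₀⟩ := exists_nonsingular_plus (F := F) d (by omega)
  have hcard : Fintype.card (Fin d ⊕ Fin d) = 2 * d := by
    rw [Fintype.card_sum, Fintype.card_fin, two_mul]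
  rw [card_points_plus d (by omega)] at hrΩ
  constructor
  · intro H
    by_contra hcon
    by_cases hr2 : r = 2
    · subst hr2
      have hev : Even d := by
        rw [← Nat.not_odd_iff_even]
        tauto
      obtain ⟨t, htΩ, htr, hfix⟩ := exists_siegel_plus h2 d (by omega) hev
      exact not_all_fix_of_fpf h2 (qfPlus d F) hv₀ t htΩ htr hfix H
    · have hdvd : r ∣ Fintype.card F ^ d - 1 := by
        rcases (Nat.Prime.dvd_mul hr).1 hrΩ with h | h
        · exfalso
          have h1 := hr.dvd_of_dvd_pow h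
          have : Fact (Nat.Prime 2) := ⟨Nat.prime_two⟩
          obtain ⟨k, -, hk⟩ := FiniteField.card F 2
          rw [hk] at h1
          have h3 := hr.dvd_of_dvd_pow h1
          exact hr2 ((Nat.prime_dvd_prime_iff_eq hr Nat.prime_two).1 h3)
        · exact h
      obtain ⟨t, htΩ, htr, hfix⟩ := exists_fpf_plus (F := F) d (by omega) hr hr2 hdvd
      exact not_all_fix_of_fpf h2 (qfPlus d F) hv₀ t htΩ htr hfix H
  · rintro ⟨rfl, hodd⟩ x hx ⟨z, hz⟩ -
    refine all_fix_of_two h2 (qfPlus d F) hQ d ?_ (fun _ => hodd) (le_of_eq hcard.symm) hv₀ x hx hz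
    intro U hU
    have := two_mul_finrank_le_of_singular (qfPlus d F) hQ U hU
    omega

end main

end Cfsg.Agent.Lib.Helper68_OPlusPts
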