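import Mathlib
import Cfsg.Agent.Lib.Helper68_OPlusPts
import Cfsg.Agent.Lib.Helper68_OMinusPts
import Cfsg.Agent.Lib.Helper68_GLTransport
import Cfsg.Agent.Lib.Helper44_SpCount
import Cfsg.Agent.Lib.Helper44_OMinusCount
import Cfsg.Agent.Lib.Helper99_SpBridge
import Cfsg.Agent.Lib.Helper5_PSpSimple
import Cfsg.Agent.S0245
import Cfsg.Agent.S0287
import Cfsg.Agent.S0288

set_option autoImplicit false

/-!
The symplectic group in characteristic two and its orthogonal subgroups (helper68): quadratic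
forms polarising to the standard alternating form, uniqueness of the invariant form of a fixed
point free isometry, conjugation of involutions into orthogonal subgroups.
-/

namespace Cfsg.Agent.Lib.Helper68_SpOrth

open Matrix Module Cfsg.Agent.Lib.Helper14_CartanDieudonne Cfsg.Agent.Lib.Helper44_StdForms
  Cfsg.Agent.Lib.Helper94_Bridge Cfsg.Agent.Lib.Helper40_QuadIso
  Cfsg.Agent.Lib.Helper68_GLTransport Cfsg.Agent.Lib.Helper44_Inv2Sp

universe u

section basic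

variable {ι : Type} [Fintype ι] [DecidableEq ι] {F : Type u} [Field F]

theorem neg_eq_self_of_two (h2 : (2 : F) = 0) (a : F) : -a = a := by
  have : a + a = 0 := by linear_combination a * h2
  exact neg_eq_of_add_eq_zero_left this

theorem eq_of_add_eq_zero_of_two (h2 : (2 : F) = 0) {a b : F} (h : a + b = 0) : a = b := by
  have := neg_eq_self_of_two h2 b
  linear_combination h + this

/-- two quadratic forms with the same polar form, invariant under `T`, agree on the range of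
`T - 1` (characteristic two) -/
theorem agree_on_range (h2 : (2 : F) = 0) (Q₁ Q₂ : QuadraticForm F (ι → F))
    (hpol : ∀ u v, QuadraticMap.polar (⇑Q₁) u v = QuadraticMap.polar (⇑Q₂) u v)
    {T : Matrix ι ι F} (h₁ : IsIsom Q₁ T) (h₂ : IsIsom Q₂ T) (v : ι → F) :
    Q₁ ((T - 1) *ᵥ v) = Q₂ ((T - 1) *ᵥ v) := by
  have hD : ∀ u w, Q₁ (u + w) + Q₂ (u + w) = (Q₁ u + Q₂ u) + (Q₁ w + Q₂ w) := by
    intro u w
    have e1 : Q₁ (u + w) = Q₁ u + Q₁ w + QuadraticMap.polar (⇑Q₁) u w := by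
      rw [QuadraticMap.polar]; ring
    have e2 : Q₂ (u + w) = Q₂ u + Q₂ w + QuadraticMap.polar (⇑Q₂) u w := by
      rw [QuadraticMap.polar]; ring
    rw [e1, e2, hpol]
    linear_combination QuadraticMap.polar (⇑Q₂) u w * h2
  have hneg : ∀ (Q : QuadraticForm F (ι → F)) (w : ι → F), Q (-w) = Q w := fun Q w => by
    rw [QuadraticMap.map_neg]
  have hTv : (T - 1) *ᵥ v = T *ᵥ v + -v := by
    rw [Matrix.sub_mulVec, Matrix.one_mulVec, sub_eq_add_neg]
  apply eq_of_add_eq_zero_of_two h2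
  rw [hTv, hD, hneg, hneg, h₁ v, h₂ v]
  linear_combination (Q₁ v + Q₂ v) * h2

/-- a fixed point free matrix preserves at most one quadratic form with a given polar form -/
theorem eq_of_fpf (h2 : (2 : F) = 0) (Q₁ Q₂ : QuadraticForm F (ι → F))
    (hpol : ∀ u v, QuadraticMap.polar (⇑Q₁) u v = QuadraticMap.polar (⇑Q₂) u v)
    {T : Matrix ι ι F} (h₁ : IsIsom Q₁ T) (h₂ : IsIsom Q₂ T)
    (hfix : ∀ v, T *ᵥ v = v → v = 0) : Q₁ = Q₂ := by
  have hdet : (T - 1).det ≠ 0 := by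
    intro h0
    obtain ⟨w, hw0, hw⟩ := Matrix.exists_mulVec_eq_zero_iff.2 h0
    rw [Matrix.sub_mulVec, Matrix.one_mulVec, sub_eq_zero] at hw
    exact hw0 (hfix w hw)
  have hu : IsUnit (T - 1).det := isUnit_iff_ne_zero.2 hdet
  ext w
  have h := agree_on_range h2 Q₁ Q₂ hpol h₁ h₂ ((T - 1)⁻¹ *ᵥ w)
  rwa [Matrix.mulVec_mulVec, Matrix.mul_nonsing_inv _ hu, Matrix.one_mulVec] at h

end basic


section symp

variable {d : ℕ} {F : Type u} [Field F]

/-- the quadratic form has the standard alternating form as polar form -/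
def HasPolar (Q : QuadraticForm F (Fin d ⊕ Fin d → F)) : Prop :=
  ∀ u v, QuadraticMap.polar (⇑Q) u v = Cfsg.sympForm d F u v

theorem HasPolar.polarBilin_eq {Q : QuadraticForm F (Fin d ⊕ Fin d → F)} (h : HasPolar Q) :
    QuadraticMap.polarBilin Q = Bsymp d F := by
  apply LinearMap.ext₂
  intro u v
  rw [QuadraticMap.polarBilin_apply_apply, h, Bsymp_apply]

theorem HasPolar.nondegenerate {Q : QuadraticForm F (Fin d ⊕ Fin d → F)} (h : HasPolar Q) :
    (QuadraticMap.polarBilin Q).Nondegenerate := by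
  rw [h.polarBilin_eq]
  exact Bsymp_nondegenerate d

theorem HasPolar.isoB {Q : QuadraticForm F (Fin d ⊕ Fin d → F)} (h : HasPolar Q)
    {T : Matrix (Fin d ⊕ Fin d) (Fin d ⊕ Fin d) F} (hT : IsIsom Q T) : IsoB (Bsymp d F) T := by
  intro u v
  rw [Bsymp_apply, Bsymp_apply, ← h, ← h]
  exact hT.polar u v

theorem hasPolar_qfPlus (h2 : (2 : F) = 0) : HasPolar (qfPlus d F) := by
  intro u v
  rw [coe_qfPlus, polar_quadFormPlus, Cfsg.Agent.Lib.Helper13_Symp.sympForm_eq]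
  apply Finset.sum_congr rfl
  intro i _
  linear_combination (u (Sum.inl i) * v (Sum.inr i)) * h2

/-- bundling a quadratic form given as a function -/
theorem exists_bundle (Q : (Fin d ⊕ Fin d → F) → F)
    (hQ : Cfsg.Geo.IsNondegenerateQuadraticForm Q)
    (hQf : ∀ u v, QuadraticMap.polar Q u v = Cfsg.sympForm d F u v) :
    ∃ Qb : QuadraticForm F (Fin d ⊕ Fin d → F), ⇑Qb = Q ∧ HasPolar Qb := by
  refine ⟨{ toFun := Q
            toFun_smul := fun a x => by rw [hQ.smul, smul_eq_mul]; ring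
            exists_companion' := ⟨Bsymp d F, fun x y => by
              have := hQf x y
              rw [QuadraticMap.polar] at this
              rw [Bsymp_apply, ← this]
              ring⟩ }, rfl, ?_⟩
  intro u v
  exact hQf u v

theorem exists_sympForm_ne_zero (hd : 1 ≤ d) :
    ∃ u v : Fin d ⊕ Fin d → F, Cfsg.sympForm d F u v ≠ 0 := by
  by_contra hcon
  push Not at hcon
  have hne : (Pi.single (Sum.inl ⟨0, hd⟩) 1 : Fin d ⊕ Fin d → F) ≠ 0 := by
    intro h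
    have := congrFun h (Sum.inl ⟨0, hd⟩)
    simp at this
  apply hne
  apply (Bsymp_nondegenerate (F := F) d).1
  intro y
  rw [Bsymp_apply]
  exact hcon _ y

theorem mem_spGL_iff (g : Matrix.GeneralLinearGroup (Fin d ⊕ Fin d) F) :
    g ∈ Cfsg.spGL d F ↔ ∀ u v, Cfsg.sympForm d F ((g : Matrix (Fin d ⊕ Fin d) (Fin d ⊕ Fin d) F) *ᵥ u)
      ((g : Matrix (Fin d ⊕ Fin d) (Fin d ⊕ Fin d) F) *ᵥ v) = Cfsg.sympForm d F u v :=
  Iff.rfl

/-- if a symplectic conjugate of `x` lies in the similarity group of `Q`, then `x` preserves a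
form isometric to `Q` with the same polar form -/
theorem exists_form_of_conj (hd : 1 ≤ d) (Q : QuadraticForm F (Fin d ⊕ Fin d → F))
    (hQ : HasPolar Q) (x g : Matrix.GeneralLinearGroup (Fin d ⊕ Fin d) F)
    (hx : x ∈ Cfsg.spGL d F) (hg : g ∈ Cfsg.spGL d F)
    (h : g⁻¹ * x * g ∈ Cfsg.Geo.quadSimilarityGroup (⇑Q)) :
    ∃ Q' : QuadraticForm F (Fin d ⊕ Fin d → F), HasPolar Q' ∧ Iso Q' Q ∧
      IsIsom Q' (x : Matrix (Fin d ⊕ Fin d) (Fin d ⊕ Fin d) F) := by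
  have hginv : g⁻¹ ∈ Cfsg.spGL d F := (Cfsg.spGL d F).inv_mem hg
  have hy : g⁻¹ * x * g ∈ Cfsg.spGL d F :=
    (Cfsg.spGL d F).mul_mem ((Cfsg.spGL d F).mul_mem hginv hx) hg
  obtain ⟨c, hc⟩ := h
  -- the multiplier is one
  have hc1 : (c : F) = 1 := by
    obtain ⟨u, v, huv⟩ := exists_sympForm_ne_zero (F := F) hd
    have h1 := (mem_spGL_iff _).1 hy u v
    rw [← hQ, ← hQ] at h1
    have h3 : QuadraticMap.polar (⇑Q)
        (((g⁻¹ * x * g : Matrix.GeneralLinearGroup (Fin d ⊕ Fin d) F) :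
          Matrix (Fin d ⊕ Fin d) (Fin d ⊕ Fin d) F) *ᵥ u)
        (((g⁻¹ * x * g : Matrix.GeneralLinearGroup (Fin d ⊕ Fin d) F) :
          Matrix (Fin d ⊕ Fin d) (Fin d ⊕ Fin d) F) *ᵥ v)
        = (c : F) * QuadraticMap.polar (⇑Q) u v := by
      simp only [QuadraticMap.polar]
      rw [← Matrix.mulVec_add, hc, hc, hc]
      ring
    rw [h3] at h1
    have h4 : ((c : F) - 1) * QuadraticMap.polar (⇑Q) u v = 0 := by linear_combination h1
    rw [hQ] at h4
    exact sub_eq_zero.1 ((mul_eq_zero.1 h4).resolve_right huv)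
  have hgg : (g : Matrix (Fin d ⊕ Fin d) (Fin d ⊕ Fin d) F)
      * ((g⁻¹ : Matrix.GeneralLinearGroup (Fin d ⊕ Fin d) F) :
        Matrix (Fin d ⊕ Fin d) (Fin d ⊕ Fin d) F) = 1 := by
    rw [← Units.val_mul, mul_inv_cancel, Units.val_one]
  have hgg' : ((g⁻¹ : Matrix.GeneralLinearGroup (Fin d ⊕ Fin d) F) :
        Matrix (Fin d ⊕ Fin d) (Fin d ⊕ Fin d) F)
      * (g : Matrix (Fin d ⊕ Fin d) (Fin d ⊕ Fin d) F) = 1 := by
    rw [← Units.val_mul, inv_mul_cancel, Units.val_one]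
  let φ : (Fin d ⊕ Fin d → F) ≃ₗ[F] (Fin d ⊕ Fin d → F) := Matrix.toLin'OfInv hgg hgg'
  have hφ : ∀ v, φ v = ((g⁻¹ : Matrix.GeneralLinearGroup (Fin d ⊕ Fin d) F) :
        Matrix (Fin d ⊕ Fin d) (Fin d ⊕ Fin d) F) *ᵥ v := fun v => by
    show Matrix.toLin' _ v = _
    rw [Matrix.toLin'_apply]
  refine ⟨Q.comp (φ : (Fin d ⊕ Fin d → F) →ₗ[F] (Fin d ⊕ Fin d → F)), ?_, ⟨φ, fun v => rfl⟩, ?_⟩
  · intro u v
    have h1 : QuadraticMap.polar (⇑(Q.comp (φ : (Fin d ⊕ Fin d → F) →ₗ[F] (Fin d ⊕ Fin d → F)))) u v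
        = QuadraticMap.polar (⇑Q) (φ u) (φ v) := by
      simp only [QuadraticMap.polar, QuadraticMap.comp_apply, LinearEquiv.coe_coe, map_add]
    rw [h1, hQ, hφ, hφ]
    exact (mem_spGL_iff _).1 hginv u v
  · intro v
    show Q (φ _) = Q (φ v)
    rw [hφ, hφ]
    have h1 := hc (((g⁻¹ : Matrix.GeneralLinearGroup (Fin d ⊕ Fin d) F) :
        Matrix (Fin d ⊕ Fin d) (Fin d ⊕ Fin d) F) *ᵥ v)
    rw [hc1, one_mul] at h1
    rw [← h1]
    have h5 : ((g⁻¹ * x * g : Matrix.GeneralLinearGroup (Fin d ⊕ Fin d) F) :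
          Matrix (Fin d ⊕ Fin d) (Fin d ⊕ Fin d) F) *ᵥ
        (((g⁻¹ : Matrix.GeneralLinearGroup (Fin d ⊕ Fin d) F) :
          Matrix (Fin d ⊕ Fin d) (Fin d ⊕ Fin d) F) *ᵥ v)
        = ((g⁻¹ : Matrix.GeneralLinearGroup (Fin d ⊕ Fin d) F) :
          Matrix (Fin d ⊕ Fin d) (Fin d ⊕ Fin d) F) *ᵥ
            ((x : Matrix (Fin d ⊕ Fin d) (Fin d ⊕ Fin d) F) *ᵥ v) := by
      rw [Units.val_mul, Units.val_mul, Matrix.mulVec_mulVec, Matrix.mul_assoc, Matrix.mul_assoc,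
        hgg, Matrix.mul_one, ← Matrix.mulVec_mulVec]
    rw [h5]

end symp


section types

variable {d : ℕ} {F : Type u} [Field F]

open Cfsg.Agent.Lib.Helper40_QuadStd Cfsg.Agent.Lib.Helper68_OEven

theorem finrank_space : finrank F (Fin d ⊕ Fin d → F) = 2 * d := by
  rw [Module.finrank_fintype_fun_eq_card, Fintype.card_sum, Fintype.card_fin, two_mul]

theorem type_dichotomy [Fintype F] (hd : 1 ≤ d) (Q : QuadraticForm F (Fin d ⊕ Fin d → F))
    (hQ : HasPolar Q) (a b : F)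
    (hab : ∀ z₁ z₂ : F, z₁ ^ 2 + a * z₁ * z₂ + b * z₂ ^ 2 = 0 → z₁ = 0 ∧ z₂ = 0) :
    (IsHyp Q ∧ Iso Q (qfPlus d F)) ∨ (¬ IsHyp Q ∧ Iso Q (qfMinus (d - 1) F a b)) := by
  rcases iso_plus_or_minus d hd finrank_space Q hQ.nondegenerate a b hab with h | h
  · exact Or.inl ⟨(isHyp_qfPlus d).of_iso h.symm, h⟩
  · exact Or.inr ⟨fun hh => not_isHyp_qfMinus (d - 1) a b hab (hh.of_iso h), h⟩

theorem isPlusTypeOn_iff_isHyp (Q : QuadraticForm F (Fin d ⊕ Fin d → F)) (hQ : HasPolar Q) :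
    Cfsg.Geo.IsPlusTypeOn (⇑Q) ⊤ ↔ IsHyp Q := by
  constructor
  · rintro ⟨U, -, hU, hdim⟩
    refine ⟨U, hU, ?_⟩
    rw [finrank_top] at hdim
    omega
  · rintro ⟨U, hU, hdim⟩
    refine ⟨U, le_top, hU, ?_⟩
    have h1 := two_mul_finrank_le_of_singular Q hQ.nondegenerate U hU
    rw [finrank_top]
    rw [Module.finrank_fintype_fun_eq_card] at hdim ⊢
    omega

end types


section models

variable {d : ℕ} {F : Type u} [Field F] [Fintype F]

open Cfsg.Agent.Lib.Helper40_QuadStd Cfsg.Agent.Lib.Helper68_OEven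
  Cfsg.Agent.Lib.Helper68_OPlusPts Cfsg.Agent.Lib.Helper68_OMinusPts
  Cfsg.Agent.Lib.Helper44_Levi Cfsg.Agent.Lib.Helper40_OEvenModel Cfsg.Agent.Lib.Helper40_OEven
  Cfsg.Agent.Lib.Helper40_OFixedFree Cfsg.Agent.Lib.Helper40_OClasses

omit [Fintype F] in
theorem two_eq_zero_of_charP [CharP F 2] : (2 : F) = 0 := by
  have := CharP.cast_eq_zero F 2
  exact_mod_cast this

/-- a fixed point free isometry of odd prime order of the plus form, polarising to the standard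
alternating form -/
theorem exists_model_plus [CharP F 2] (hd : 1 ≤ d) {r : ℕ} (hr : r.Prime) (hr2 : r ≠ 2)
    (hdvd : r ∣ Fintype.card F ^ d - 1) :
    ∃ (Q' : QuadraticForm F (Fin d ⊕ Fin d → F)) (T : Matrix (Fin d ⊕ Fin d) (Fin d ⊕ Fin d) F),
      HasPolar Q' ∧ IsHyp Q' ∧ IsIsom Q' T ∧ T ^ r = 1 ∧ ∀ v, T *ᵥ v = v → v = 0 := by
  have h2 : (2 : F) = 0 := two_eq_zero_of_charP
  obtain ⟨M, hM, hfix⟩ := exists_fpf_matrix (p := 2) (F := F) d hd hr hr2 hdvd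
  have hr1 : r - 1 + 1 = r := Nat.sub_add_cancel hr.one_le
  let g : Matrix.GeneralLinearGroup (Fin d) F :=
    ⟨M, M ^ (r - 1), by rw [← pow_succ', hr1, hM], by rw [← pow_succ, hr1, hM]⟩
  have hg : g ^ r = 1 := Units.ext (by rw [Units.val_pow_eq_pow_val]; exact hM)
  have htr : (leviHom d F g) ^ r = 1 := by rw [← map_pow, hg, map_one]
  refine ⟨qfPlus d F, ((leviHom d F g : Matrix.GeneralLinearGroup (Fin d ⊕ Fin d) F) :
    Matrix (Fin d ⊕ Fin d) (Fin d ⊕ Fin d) F), hasPolar_qfPlus h2, isHyp_qfPlus d,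
    isIsom_of_mem _ _, ?_, ?_⟩
  · rw [← Units.val_pow_eq_pow_val, ← SubmonoidClass.coe_pow, htr]
    rfl
  · intro v hv
    rw [leviHom_coe, Matrix.fromBlocks_mulVec] at hv
    have hl : M *ᵥ (v ∘ Sum.inl) = v ∘ Sum.inl := by
      funext a
      have := congrFun hv (Sum.inl a)
      simpa using this
    have hrr : (M⁻¹)ᵀ *ᵥ (v ∘ Sum.inr) = v ∘ Sum.inr := by
      funext a
      have := congrFun hv (Sum.inr a)
      simpa using this
    have hdet : IsUnit M.det := by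
      have := (Matrix.isUnit_iff_isUnit_det M).1 ⟨g, rfl⟩
      exact this
    have hr0 := no_fixed_transpose_inv M M⁻¹ (Matrix.nonsing_inv_mul M hdet) hfix _ hrr
    have hl0 := hfix _ hl
    funext k
    rcases k with a | a
    · exact congrFun hl0 a
    · exact congrFun hr0 a

/-- a fixed point free isometry of odd prime order of the minus form -/
theorem exists_fpf_minus_iso [CharP F 2] (hd : 1 ≤ d) (a b : F)
    (hab : ∀ z₁ z₂ : F, z₁ ^ 2 + a * z₁ * z₂ + b * z₂ ^ 2 = 0 → z₁ = 0 ∧ z₂ = 0)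
    {r : ℕ} (hr : r.Prime) (hr2 : r ≠ 2) (hdvd : r ∣ Fintype.card F ^ d + 1) :
    ∃ t : ↥(Cfsg.isometryGroup F (⇑(qfMinus (d - 1) F a b))), t ^ r = 1 ∧
      ∀ v, ((t : Matrix.GeneralLinearGroup ((Fin (d - 1) ⊕ Fin (d - 1)) ⊕ Fin 2) F) :
        Matrix ((Fin (d - 1) ⊕ Fin (d - 1)) ⊕ Fin 2) ((Fin (d - 1) ⊕ Fin (d - 1)) ⊕ Fin 2) F) *ᵥ v
          = v → v = 0 := by
  have : Fact r.Prime := ⟨hr⟩
  have : Fact (Nat.Prime 2) := ⟨Nat.prime_two⟩
  obtain ⟨i, hi⟩ : ∃ i, i = orderOf ((Fintype.card F : ℕ) : ZMod r) := ⟨_, rfl⟩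
  have hx : ((Fintype.card F : ℕ) : ZMod r) ^ d = -1 := by
    have h1 : ((Fintype.card F ^ d + 1 : ℕ) : ZMod r) = 0 := (ZMod.natCast_eq_zero_iff _ _).2 hdvd
    rw [Nat.cast_add, Nat.cast_pow, Nat.cast_one] at h1
    exact eq_neg_of_add_eq_zero_left h1
  have hx2 : ((Fintype.card F : ℕ) : ZMod r) ^ (2 * d) = 1 := by
    rw [mul_comm, pow_mul, hx]
    ring
  have hid : i ∣ 2 * d := hi ▸ orderOf_dvd_of_pow_eq_one hx2
  have hnd : ¬ i ∣ d := by
    intro h
    rw [hi] at h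
    have h1 := orderOf_dvd_iff_pow_eq_one.1 h
    rw [hx] at h1
    apply two_ne_zero_zmod r hr hr2
    linear_combination -h1
  have hie : Even i := by
    by_contra hodd
    rw [Nat.not_even_iff_odd] at hodd
    exact hnd ((Nat.Coprime.dvd_of_dvd_mul_left hodd.coprime_two_right) hid)
  have hrF : ((r : ℕ) : F) ≠ 0 := by
    rw [Ne, CharP.cast_eq_zero_iff F 2]
    intro h
    exact hr2 ((Nat.prime_dvd_prime_iff_eq Nat.prime_two hr).1 h).symm
  obtain ⟨c, hpal, hcnd⟩ := exists_pal_poly (F := F) 2 d r hd hr hr2 (hi ▸ hie) (hi ▸ hid)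
  have hrodd := hr.odd_of_ne_two hr2
  rcases real_of_not_dvd d hd r hrodd hrF c hpal a b hab with
    ⟨g, hg1, hg2⟩ | ⟨g, hg1, hg2⟩
  · exfalso
    obtain ⟨-, h1⟩ := plus_excl 2 d hd r hr hr2 hr2 g hg1 (by rw [hg2]; exact hcnd)
    apply hnd
    rw [hi]
    apply h1
    intro h
    rw [← hi] at h
    rw [h] at hie
    exact absurd hie (by decide)
  · refine ⟨g, hg1, ?_⟩
    intro v hv
    exact eq_zero_of_fixed_of_not_dvd (Matrix.toLin' (mat (qfMinus (d - 1) F a b) g))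
      (by rw [Matrix.charpoly_toLin', hg2]; exact hcnd) v
      (by rw [Matrix.toLin'_apply]; exact hv)

end models


section models2

variable {d : ℕ} {F : Type u} [Field F] [Fintype F]

open Cfsg.Agent.Lib.Helper40_QuadStd Cfsg.Agent.Lib.Helper99_SpBridge

/-- a fixed point free isometry of odd prime order of a minus type form polarising to the
standard alternating form -/
theorem exists_model_minus [CharP F 2] (hd : 1 ≤ d) {r : ℕ} (hr : r.Prime) (hr2 : r ≠ 2)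
    (hdvd : r ∣ Fintype.card F ^ d + 1) :
    ∃ (Q' : QuadraticForm F (Fin d ⊕ Fin d → F)) (T : Matrix (Fin d ⊕ Fin d) (Fin d ⊕ Fin d) F),
      HasPolar Q' ∧ ¬ IsHyp Q' ∧ IsIsom Q' T ∧ T ^ r = 1 ∧ ∀ v, T *ᵥ v = v → v = 0 := by
  have h2 : (2 : F) = 0 := two_eq_zero_of_charP
  obtain ⟨ζ, hζ⟩ := exists_aniso (F := F)
  obtain ⟨t, htr, hfix⟩ := exists_fpf_minus_iso hd 1 ζ hζ hr hr2 hdvd
  have hnd := Cfsg.Agent.Lib.Helper14_POmegaSimple.nondegenerate_qfMinus (d - 1) (1 : F) ζ hζ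
  have hA : (QuadraticMap.polarBilin (qfMinus (d - 1) F 1 ζ)).IsAlt := by
    intro v
    rw [QuadraticMap.polarBilin_apply_apply, QuadraticMap.polar_self, two_smul]
    linear_combination (qfMinus (d - 1) F 1 ζ v) * h2
  have hdim : finrank F ((Fin (d - 1) ⊕ Fin (d - 1)) ⊕ Fin 2 → F) = 2 * d := by
    rw [Module.finrank_fintype_fun_eq_card, Fintype.card_sum, Fintype.card_sum, Fintype.card_fin,
      Fintype.card_fin]
    omega
  obtain ⟨ψ, hψ⟩ := exists_isometry_standard (QuadraticMap.polarBilin (qfMinus (d - 1) F 1 ζ))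
    hA hnd d hdim
  have hT : ∀ v, matEquiv ψ ((t : Matrix.GeneralLinearGroup ((Fin (d - 1) ⊕ Fin (d - 1)) ⊕ Fin 2) F) :
      Matrix ((Fin (d - 1) ⊕ Fin (d - 1)) ⊕ Fin 2) ((Fin (d - 1) ⊕ Fin (d - 1)) ⊕ Fin 2) F) *ᵥ v
      = ψ (((t : Matrix.GeneralLinearGroup ((Fin (d - 1) ⊕ Fin (d - 1)) ⊕ Fin 2) F) :
      Matrix ((Fin (d - 1) ⊕ Fin (d - 1)) ⊕ Fin 2) ((Fin (d - 1) ⊕ Fin (d - 1)) ⊕ Fin 2) F) *ᵥ
        ψ.symm v) := fun v => matEquiv_mulVec ψ _ v
  refine ⟨(qfMinus (d - 1) F 1 ζ).comp (ψ.symm : (Fin d ⊕ Fin d → F) →ₗ[F] _),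
    matEquiv ψ ((t : Matrix.GeneralLinearGroup ((Fin (d - 1) ⊕ Fin (d - 1)) ⊕ Fin 2) F) :
      Matrix ((Fin (d - 1) ⊕ Fin (d - 1)) ⊕ Fin 2) ((Fin (d - 1) ⊕ Fin (d - 1)) ⊕ Fin 2) F),
    ?_, ?_, ?_, ?_, ?_⟩
  · intro u v
    have h1 : QuadraticMap.polar (⇑((qfMinus (d - 1) F 1 ζ).comp
        (ψ.symm : (Fin d ⊕ Fin d → F) →ₗ[F] _))) u v
        = QuadraticMap.polar (⇑(qfMinus (d - 1) F 1 ζ)) (ψ.symm u) (ψ.symm v) := by
      simp only [QuadraticMap.polar, QuadraticMap.comp_apply, LinearEquiv.coe_coe, map_add]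
    rw [h1, ← QuadraticMap.polarBilin_apply_apply, ← hψ, Bsymp_apply, LinearEquiv.apply_symm_apply,
      LinearEquiv.apply_symm_apply]
  · intro hh
    have hiso : Iso ((qfMinus (d - 1) F 1 ζ).comp (ψ.symm : (Fin d ⊕ Fin d → F) →ₗ[F] _))
        (qfMinus (d - 1) F 1 ζ) := ⟨ψ.symm, fun v => rfl⟩
    exact not_isHyp_qfMinus (d - 1) 1 ζ hζ (hh.of_iso hiso)
  · intro v
    show qfMinus (d - 1) F 1 ζ (ψ.symm _) = qfMinus (d - 1) F 1 ζ (ψ.symm v)
    rw [hT, LinearEquiv.symm_apply_apply]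
    exact isIsom_of_mem _ t _
  · rw [← map_pow, ← Units.val_pow_eq_pow_val, ← SubmonoidClass.coe_pow, htr]
    exact map_one _
  · intro v hv
    rw [hT] at hv
    have h1 := congrArg ψ.symm hv
    rw [LinearEquiv.symm_apply_apply] at h1
    have h3 := hfix _ h1
    have := congrArg ψ h3
    rwa [LinearEquiv.apply_symm_apply, map_zero] at this

end models2


section derange

variable {d : ℕ} {F : Type u} [Field F]

open Cfsg.Agent.Lib.Helper68_OPlusPts

/-- an isometry of finite order of a form polarising to the standard alternating form, as an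
element of the symplectic group -/
theorem exists_gl_of_model (Q' : QuadraticForm F (Fin d ⊕ Fin d → F)) (hQ' : HasPolar Q')
    {T : Matrix (Fin d ⊕ Fin d) (Fin d ⊕ Fin d) F} (hT : IsIsom Q' T) {r : ℕ} (hr : 0 < r)
    (hTr : T ^ r = 1) :
    ∃ x : Matrix.GeneralLinearGroup (Fin d ⊕ Fin d) F,
      (x : Matrix (Fin d ⊕ Fin d) (Fin d ⊕ Fin d) F) = T ∧ x ∈ Cfsg.spGL d F ∧ x ^ r = 1 := by
  have hr1 : r - 1 + 1 = r := Nat.sub_add_cancel hr
  refine ⟨⟨T, T ^ (r - 1), by rw [← pow_succ', hr1, hTr], by rw [← pow_succ, hr1, hTr]⟩, rfl, ?_,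
    ?_⟩
  · rw [mem_spGL_iff]
    intro u v
    have := hQ'.isoB hT u v
    rwa [Bsymp_apply, Bsymp_apply] at this
  · apply Units.ext
    rw [Units.val_pow_eq_pow_val]
    exact hTr

/-- a scalar symplectic matrix is the identity (characteristic two) -/
theorem scalar_eq_one_of_isoB (h2 : (2 : F) = 0) (hd : 1 ≤ d)
    {T : Matrix (Fin d ⊕ Fin d) (Fin d ⊕ Fin d) F} (hT : IsoB (Bsymp d F) T) {z : F}
    (hz : T = z • (1 : Matrix (Fin d ⊕ Fin d) (Fin d ⊕ Fin d) F)) : T = 1 := by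
  obtain ⟨u, v, huv⟩ := exists_sympForm_ne_zero (F := F) hd
  have h1 := hT u v
  rw [hz, Matrix.smul_mulVec, Matrix.smul_mulVec, Matrix.one_mulVec, Matrix.one_mulVec] at h1
  simp only [map_smul, LinearMap.smul_apply, smul_eq_mul, Bsymp_apply] at h1
  have h3 : (z * z - 1) * Cfsg.sympForm d F u v = 0 := by linear_combination h1
  have h4 : z * z = 1 := sub_eq_zero.1 ((mul_eq_zero.1 h3).resolve_right huv)
  have h5 : (z - 1) * (z - 1) = 0 := by linear_combination h4 + (1 - z) * h2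
  have h6 : z = 1 := sub_eq_zero.1 (mul_self_eq_zero.1 h5)
  rw [hz, h6, one_smul]

theorem exists_derangement_odd [Fintype F] [CharP F 2] (hd : 1 ≤ d)
    (Q : QuadraticForm F (Fin d ⊕ Fin d → F)) (hQ : HasPolar Q) {r : ℕ} (hr : r.Prime)
    (hr2 : r ≠ 2) (h1 : IsHyp Q → r ∣ Fintype.card F ^ d + 1)
    (h1' : ¬ IsHyp Q → r ∣ Fintype.card F ^ d - 1) :
    ∃ x : Matrix.GeneralLinearGroup (Fin d ⊕ Fin d) F, x ∈ Cfsg.spGL d F ∧ x ^ r = 1 ∧
      (∀ z : F, (x : Matrix (Fin d ⊕ Fin d) (Fin d ⊕ Fin d) F)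
        ≠ z • (1 : Matrix (Fin d ⊕ Fin d) (Fin d ⊕ Fin d) F)) ∧
      ∀ g ∈ Cfsg.spGL d F, g⁻¹ * x * g ∉ Cfsg.Geo.quadSimilarityGroup (⇑Q) := by
  have h2 : (2 : F) = 0 := two_eq_zero_of_charP
  obtain ⟨Q', T, hQ', htype, hT, hTr, hfix⟩ : ∃ (Q' : QuadraticForm F (Fin d ⊕ Fin d → F))
      (T : Matrix (Fin d ⊕ Fin d) (Fin d ⊕ Fin d) F), HasPolar Q' ∧ (IsHyp Q' ↔ ¬ IsHyp Q) ∧
      IsIsom Q' T ∧ T ^ r = 1 ∧ ∀ v, T *ᵥ v = v → v = 0 := by
    by_cases hh : IsHyp Q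
    · obtain ⟨Q', T, hQ', hn, hT, hTr, hfix⟩ := exists_model_minus (F := F) hd hr hr2 (h1 hh)
      exact ⟨Q', T, hQ', ⟨fun h => absurd h hn, fun h => absurd hh h⟩, hT, hTr, hfix⟩
    · obtain ⟨Q', T, hQ', hn, hT, hTr, hfix⟩ := exists_model_plus (F := F) hd hr hr2 (h1' hh)
      exact ⟨Q', T, hQ', ⟨fun _ => hh, fun _ => hn⟩, hT, hTr, hfix⟩
  obtain ⟨x, hxT, hx, hxr⟩ := exists_gl_of_model Q' hQ' hT hr.pos hTr
  refine ⟨x, hx, hxr, ?_, ?_⟩
  · intro z hz
    rw [hxT] at hz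
    have hT1 := scalar_eq_one_of_isoB h2 hd (hQ'.isoB hT) hz
    have hne : (Pi.single (Sum.inl ⟨0, hd⟩) 1 : Fin d ⊕ Fin d → F) ≠ 0 := by
      intro h
      have := congrFun h (Sum.inl ⟨0, hd⟩)
      simp at this
    apply hne
    apply hfix
    rw [hT1, Matrix.one_mulVec]
  · intro g hg hmem
    obtain ⟨Q'', hQ'', hiso, hT''⟩ := exists_form_of_conj hd Q hQ x g hx hg hmem
    rw [hxT] at hT''
    have heq : Q'' = Q' := eq_of_fpf h2 Q'' Q' (fun u v => by rw [hQ'', hQ']) hT'' hT hfix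
    rw [heq] at hiso
    by_cases hh : IsHyp Q
    · exact (htype.1 (hh.of_iso hiso.symm)) hh
    · exact hh ((htype.2 hh).of_iso hiso)

theorem exists_derangement_two (h2 : (2 : F) = 0) (hd : 1 ≤ d) (hev : Even d)
    (Q : QuadraticForm F (Fin d ⊕ Fin d → F)) (hQ : HasPolar Q) (hnh : ¬ IsHyp Q) :
    ∃ x : Matrix.GeneralLinearGroup (Fin d ⊕ Fin d) F, x ∈ Cfsg.spGL d F ∧ x ^ 2 = 1 ∧
      (∀ z : F, (x : Matrix (Fin d ⊕ Fin d) (Fin d ⊕ Fin d) F)
        ≠ z • (1 : Matrix (Fin d ⊕ Fin d) (Fin d ⊕ Fin d) F)) ∧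
      ∀ g ∈ Cfsg.spGL d F, g⁻¹ * x * g ∉ Cfsg.Geo.quadSimilarityGroup (⇑Q) := by
  have hQ' := hasPolar_qfPlus (d := d) h2
  have hT := siegelM_isIsom d h2 hev (F := F)
  have hTT : siegelM d F ^ 2 = 1 := by rw [pow_two]; exact siegelM_mul_self d h2
  obtain ⟨x, hxT, hx, hxr⟩ := exists_gl_of_model (qfPlus d F) hQ' hT two_pos hTT
  refine ⟨x, hx, hxr, ?_, ?_⟩
  · intro z hz
    rw [hxT] at hz
    have hT1 := scalar_eq_one_of_isoB h2 hd (hQ'.isoB hT) hz
    obtain ⟨v₀, hv₀⟩ := exists_nonsingular_plus (F := F) d hd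
    apply hv₀
    apply siegelM_fixed d v₀
    rw [hT1, Matrix.one_mulVec]
  · intro g hg hmem
    obtain ⟨Q'', hQ'', hiso, hT''⟩ := exists_form_of_conj hd Q hQ x g hx hg hmem
    rw [hxT] at hT''
    apply hnh
    apply IsHyp.of_iso hiso
    -- `Q''` vanishes on the range of `T - 1`, which contains the left half
    let emb : (Fin d → F) →ₗ[F] (Fin d ⊕ Fin d → F) :=
      { toFun := fun a => Sum.elim a 0
        map_add' := by
          intro x y
          funext k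
          rcases k with i | i <;> simp
        map_smul' := by
          intro c x
          funext k
          rcases k with i | i <;> simp }
    have hemb : ∀ a, emb a = Sum.elim a 0 := fun a => rfl
    have hinj : Function.Injective emb := by
      intro x y hxy
      funext i
      have := congrFun hxy (Sum.inl i)
      simpa [hemb] using this
    refine ⟨LinearMap.range emb, ?_, ?_⟩
    · rintro _ ⟨a, rfl⟩
      have hrange : emb a = (siegelM d F - 1) *ᵥ (Sum.elim 0 (fun i => a (Fin.rev i))) := by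
        rw [Matrix.sub_mulVec, Matrix.one_mulVec, siegelM_mulVec]
        funext k
        rcases k with i | i
        · show a i = (0 + a (Fin.rev (Fin.rev i))) - 0
          rw [Fin.rev_rev]
          ring
        · show (0 : F) = a (Fin.rev i) - a (Fin.rev i)
          ring
      rw [hrange, agree_on_range h2 Q'' (qfPlus d F) (fun u v => by rw [hQ'', hQ']) hT'' hT]
      exact siegelM_alt d _
    · rw [LinearMap.finrank_range_of_inj hinj, Module.finrank_fintype_fun_eq_card,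
        Module.finrank_fintype_fun_eq_card, Fintype.card_sum, Fintype.card_fin]
      omega

end derange


section invol

variable {d : ℕ} {F : Type u} [Field F]

open Cfsg.Agent.Lib.Helper44_OCount Cfsg.Agent.Lib.Helper44_OMinusCount
  Cfsg.Agent.Lib.Helper44_InvCount Cfsg.Agent.Lib.Helper44_SpCount Cfsg.Agent.Lib.Helper40_QuadStd

/-- model involutions of the plus type group with prescribed rank and type -/
theorem exists_std_invol_plus (h2 : (2 : F) = 0) {s : ℕ} (hs0 : 0 < s) (hs : s ≤ d) (alt : Prop)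
    (halt : alt → Even s) :
    ∃ M : Matrix (Fin d ⊕ Fin d) (Fin d ⊕ Fin d) F, M * M = 1 ∧ IsIsom (qfPlus d F) M ∧
      (M - 1).rank = s ∧ ((∀ v, qfPlus d F ((M - 1) *ᵥ v) = 0) ↔ alt) := by
  by_cases ha : alt
  · have h := oInv_plusA (m := d) (F := F) h2 hs (halt ha)
    rw [plusA, oInv_mkIso] at h
    obtain ⟨h3, h4⟩ := Prod.mk.inj h
    exact ⟨upper (Am s), upper_sq h2 _, upper_isIsom h2 s, h3, by rw [h4]; exact ⟨fun _ => ha, fun _ => trivial⟩⟩
  · have h := oInv_plusD (m := d) (F := F) h2 hs0 hs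
    rw [plusD, oInv_mkIso] at h
    obtain ⟨h3, h4⟩ := Prod.mk.inj h
    exact ⟨swapM s, swapM_mul_self s, swapM_isIsom s, h3, by rw [h4]; exact ⟨fun h => h.elim, fun h => (ha h).elim⟩⟩

/-- model involutions of the minus type group with prescribed rank and type -/
theorem exists_std_invol_minus (h2 : (2 : F) = 0) (n : ℕ) (a b : F) (ha0 : a ≠ 0) {s : ℕ}
    (hs0 : 0 < s) (hs : s ≤ n + 1) (alt : Prop) (halt : alt → Even s ∧ s ≤ n) :
    ∃ M : Matrix ((Fin n ⊕ Fin n) ⊕ Fin 2) ((Fin n ⊕ Fin n) ⊕ Fin 2) F, M * M = 1 ∧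
      IsIsom (qfMinus n F a b) M ∧
      (M - 1).rank = s ∧ ((∀ v, qfMinus n F a b ((M - 1) *ᵥ v) = 0) ↔ alt) := by
  by_cases ha : alt
  · have h := oInv_minusA (n := n) (F := F) a b h2 (halt ha).2 (halt ha).1
    rw [minusA, oInv_mkIso] at h
    obtain ⟨h3, h4⟩ := Prod.mk.inj h
    exact ⟨_, bl_mul_self (upper_sq h2 _) (Matrix.one_mul 1),
      bl_isIsom a b (upper_isIsom h2 s) (fun z => by rw [Matrix.one_mulVec]), h3,
      by rw [h4]; exact ⟨fun _ => ha, fun _ => trivial⟩⟩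
  · have h := oInv_minusD (n := n) (F := F) a b h2 ha0 hs0 hs
    rw [minusD, oInv_mkIso] at h
    obtain ⟨h3, h4⟩ := Prod.mk.inj h
    exact ⟨_, bl_mul_self (swapM_mul_self _) (Rm_mul_self h2 a),
      bl_isIsom a b (swapM_isIsom _) (bin_Rm h2 a b), h3,
      by rw [h4]; exact ⟨fun h => h.elim, fun h => (ha h).elim⟩⟩

/-- transport of an involutory isometry along an isometry of quadratic spaces -/
theorem exists_transport_invol {ι κ : Type} [Fintype ι] [DecidableEq ι] [Fintype κ]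
    [DecidableEq κ] (Q : QuadraticForm F (ι → F)) (Q₀ : QuadraticForm F (κ → F)) (hiso : Iso Q Q₀)
    (M : Matrix κ κ F) (hMM : M * M = 1) (hM : IsIsom Q₀ M) :
    ∃ S : Matrix ι ι F, IsIsom Q S ∧ S * S = 1 ∧ (S - 1).rank = (M - 1).rank ∧
      ((∀ v, Q ((S - 1) *ᵥ v) = 0) ↔ (∀ w, Q₀ ((M - 1) *ᵥ w) = 0)) := by
  obtain ⟨φ, hφ⟩ := hiso
  have hφ' : ∀ w, Q (φ.symm w) = Q₀ w := fun w => by rw [← hφ, LinearEquiv.apply_symm_apply]
  have hsub : (matEquiv φ).symm M - 1 = (matEquiv φ).symm (M - 1) := by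
    rw [map_sub, map_one]
  refine ⟨(matEquiv φ).symm M, ?_, ?_, ?_, ?_⟩
  · intro v
    rw [matEquiv_symm_mulVec, hφ', hM, hφ]
  · rw [← map_mul, hMM, map_one]
  · rw [hsub]
    have := rank_matEquiv φ ((matEquiv φ).symm (M - 1))
    rw [RingEquiv.apply_symm_apply] at this
    exact this.symm
  · rw [hsub]
    constructor
    · intro h w
      have := h (φ.symm w)
      rwa [matEquiv_symm_mulVec, hφ', LinearEquiv.apply_symm_apply] at this
    · intro h v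
      rw [matEquiv_symm_mulVec, hφ']
      exact h _

/-- for an isometry in characteristic two, `Q ((S - 1) v) = B ((S - 1) v, v)` -/
theorem Q_sub_one_eq (h2 : (2 : F) = 0) (Q : QuadraticForm F (Fin d ⊕ Fin d → F)) (hQ : HasPolar Q)
    {S : Matrix (Fin d ⊕ Fin d) (Fin d ⊕ Fin d) F} (hS : IsIsom Q S) (v : Fin d ⊕ Fin d → F) :
    Q ((S - 1) *ᵥ v) = Bsymp d F ((S - 1) *ᵥ v) v := by
  rw [Bsymp_apply, ← hQ]
  have e : (S - 1) *ᵥ v = S *ᵥ v + -v := by
    rw [Matrix.sub_mulVec, Matrix.one_mulVec, sub_eq_add_neg]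
  rw [e]
  simp only [QuadraticMap.polar]
  have h3 : S *ᵥ v + -v + v = S *ᵥ v := by abel
  rw [h3, hS v]
  have h4 : Q (S *ᵥ v + -v) + Q (S *ᵥ v + -v) = 0 := by
    linear_combination (Q (S *ᵥ v + -v)) * h2
  linear_combination h4

/-- **involutions of the symplectic group are conjugate into the orthogonal group**, for the plus
type, or for the minus type in odd rank -/
theorem exists_conj_of_involution [Fintype F] (h2 : (2 : F) = 0) (hd : 1 ≤ d)
    (Q : QuadraticForm F (Fin d ⊕ Fin d → F)) (hQ : HasPolar Q) (hgood : IsHyp Q ∨ Odd d)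
    (x : Matrix.GeneralLinearGroup (Fin d ⊕ Fin d) F) (hx : x ∈ Cfsg.spGL d F)
    (hxx : (x : Matrix (Fin d ⊕ Fin d) (Fin d ⊕ Fin d) F)
      * (x : Matrix (Fin d ⊕ Fin d) (Fin d ⊕ Fin d) F) = 1)
    (hx1 : (x : Matrix (Fin d ⊕ Fin d) (Fin d ⊕ Fin d) F) ≠ 1) :
    ∃ g ∈ Cfsg.spGL d F, g⁻¹ * x * g ∈ Cfsg.Geo.quadSimilarityGroup (⇑Q) := by
  classical
  obtain ⟨T, hTdef⟩ : ∃ T : Matrix (Fin d ⊕ Fin d) (Fin d ⊕ Fin d) F,
      T = (x : Matrix (Fin d ⊕ Fin d) (Fin d ⊕ Fin d) F) := ⟨_, rfl⟩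
  rw [← hTdef] at hxx hx1
  have hTB : IsoB (Bsymp d F) T := by
    intro u v
    rw [Bsymp_apply, Bsymp_apply, hTdef]
    exact (mem_spGL_iff x).1 hx u v
  have hnd := Bsymp_nondegenerate (F := F) d
  have hAlt := Bsymp_isAlt (F := F) d
  have hpos : 0 < (T - 1).rank := rank_pos_of_ne_one hx1
  have hle : (T - 1).rank ≤ d := by
    have := two_rank_le h2 hxx
    rw [Fintype.card_sum, Fintype.card_fin] at this
    omega
  have heven : (∀ v, Bsymp d F ((T - 1) *ᵥ v) v = 0) → Even (T - 1).rank :=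
    fun ha => even_rank_of_alt (Bsymp d F) hnd hAlt h2 hTB hxx ha
  -- a model in the orthogonal group
  obtain ⟨S, hS, hSS, hSr, hSa⟩ : ∃ S : Matrix (Fin d ⊕ Fin d) (Fin d ⊕ Fin d) F, IsIsom Q S ∧
      S * S = 1 ∧ (S - 1).rank = (T - 1).rank ∧
      ((∀ v, Q ((S - 1) *ᵥ v) = 0) ↔ (∀ v, Bsymp d F ((T - 1) *ᵥ v) v = 0)) := by
    obtain ⟨ζ, hζ⟩ := exists_aniso (F := F)
    rcases type_dichotomy hd Q hQ 1 ζ hζ with ⟨-, hiso⟩ | ⟨hnh, hiso⟩
    · obtain ⟨M, hMM, hM, hMr, hMa⟩ := exists_std_invol_plus (d := d) (F := F) h2 hpos hle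
        (∀ v, Bsymp d F ((T - 1) *ᵥ v) v = 0) heven
      obtain ⟨S, hS, hSS, hSr, hSa⟩ := exists_transport_invol Q (qfPlus d F) hiso M hMM hM
      exact ⟨S, hS, hSS, hSr.trans hMr, hSa.trans hMa⟩
    · have hodd : Odd d := hgood.resolve_left hnh
      obtain ⟨M, hMM, hM, hMr, hMa⟩ := exists_std_invol_minus (F := F) h2 (d - 1) 1 ζ one_ne_zero
        hpos (by omega) (∀ v, Bsymp d F ((T - 1) *ᵥ v) v = 0) (fun ha => by
          have he := heven ha
          refine ⟨he, ?_⟩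
          obtain ⟨k, hk⟩ := he
          obtain ⟨j, hj⟩ := hodd
          omega)
      obtain ⟨S, hS, hSS, hSr, hSa⟩ := exists_transport_invol Q (qfMinus (d - 1) F 1 ζ) hiso M hMM hM
      exact ⟨S, hS, hSS, hSr.trans hMr, hSa.trans hMa⟩
  have hSB : IsoB (Bsymp d F) S := hQ.isoB hS
  have hSa' : (∀ v, Bsymp d F ((T - 1) *ᵥ v) v = 0) ↔ (∀ v, Bsymp d F ((S - 1) *ᵥ v) v = 0) := by
    rw [← hSa]
    constructor
    · intro h v
      rw [← Q_sub_one_eq h2 Q hQ hS]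
      exact h v
    · intro h v
      rw [Q_sub_one_eq h2 Q hQ hS]
      exact h v
  obtain ⟨G, hG, hGconj⟩ := conj_of_rank_type_sp (Bsymp d F) hnd hAlt h2 hTB hxx hSB hSS hSr.symm hSa'
  -- `G` is invertible
  have hdet : G.det ≠ 0 := by
    intro h0
    obtain ⟨w, hw0, hw⟩ := Matrix.exists_mulVec_eq_zero_iff.2 h0
    apply hw0
    apply hnd.1
    intro y
    rw [← hG w y, hw, map_zero, LinearMap.zero_apply]
  let γ : Matrix.GeneralLinearGroup (Fin d ⊕ Fin d) F := Matrix.GeneralLinearGroup.mkOfDetNeZero G hdet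
  have hγ : (γ : Matrix (Fin d ⊕ Fin d) (Fin d ⊕ Fin d) F) = G := rfl
  have hγmem : γ ∈ Cfsg.spGL d F := by
    rw [mem_spGL_iff]
    intro u v
    have := hG u v
    rwa [Bsymp_apply, Bsymp_apply] at this
  let σ : Matrix.GeneralLinearGroup (Fin d ⊕ Fin d) F := ⟨S, S, hSS, hSS⟩
  have hconj : γ * x = σ * γ := by
    apply Units.ext
    rw [Units.val_mul, Units.val_mul, hγ, ← hTdef]
    exact hGconj
  refine ⟨γ⁻¹, (Cfsg.spGL d F).inv_mem hγmem, ?_⟩
  rw [inv_inv, hconj, mul_assoc, mul_inv_cancel, mul_one]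
  exact ⟨1, fun v => by rw [Units.val_one, one_mul]; exact hS v⟩

end invol


section index

variable {d : ℕ} {F : Type u} [Field F]

open Cfsg.Agent.Lib.Helper44_Orth Cfsg.Agent.Lib.Helper40_QuadStd

/-- a symplectic similarity of `Q` is an isometry -/
theorem isIsom_of_mem_sim (hd : 1 ≤ d) (Q : QuadraticForm F (Fin d ⊕ Fin d → F)) (hQ : HasPolar Q)
    (g : Matrix.GeneralLinearGroup (Fin d ⊕ Fin d) F) (hg : g ∈ Cfsg.spGL d F)
    (h : g ∈ Cfsg.Geo.quadSimilarityGroup (⇑Q)) :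
    IsIsom Q (g : Matrix (Fin d ⊕ Fin d) (Fin d ⊕ Fin d) F) := by
  obtain ⟨c, hc⟩ := h
  obtain ⟨u, v, huv⟩ := exists_sympForm_ne_zero (F := F) hd
  have h1 := (mem_spGL_iff _).1 hg u v
  rw [← hQ, ← hQ] at h1
  have h3 : QuadraticMap.polar (⇑Q)
      ((g : Matrix (Fin d ⊕ Fin d) (Fin d ⊕ Fin d) F) *ᵥ u)
      ((g : Matrix (Fin d ⊕ Fin d) (Fin d ⊕ Fin d) F) *ᵥ v)
      = (c : F) * QuadraticMap.polar (⇑Q) u v := by
    simp only [QuadraticMap.polar]
    rw [← Matrix.mulVec_add, hc, hc, hc]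
    ring
  rw [h3] at h1
  have h4 : ((c : F) - 1) * QuadraticMap.polar (⇑Q) u v = 0 := by linear_combination h1
  rw [hQ] at h4
  have hc1 : (c : F) = 1 := sub_eq_zero.1 ((mul_eq_zero.1 h4).resolve_right huv)
  intro w
  rw [hc w, hc1, one_mul]

theorem inf_eq_isometryGroup (hd : 1 ≤ d) (Q : QuadraticForm F (Fin d ⊕ Fin d → F))
    (hQ : HasPolar Q) :
    Cfsg.Geo.quadSimilarityGroup (⇑Q) ⊓ Cfsg.spGL d F = Cfsg.isometryGroup F (⇑Q) := by
  ext g
  rw [Subgroup.mem_inf, mem_isometryGroup_iff]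
  constructor
  · rintro ⟨h1, h3⟩
    exact isIsom_of_mem_sim hd Q hQ g h3 h1
  · intro h
    refine ⟨⟨1, fun v => by rw [Units.val_one, one_mul]; exact h v⟩, ?_⟩
    rw [mem_spGL_iff]
    intro u v
    have := hQ.isoB (T := (g : Matrix (Fin d ⊕ Fin d) (Fin d ⊕ Fin d) F)) h u v
    rwa [Bsymp_apply, Bsymp_apply] at this

/-- isometric quadratic spaces have isometry groups of the same order -/
theorem card_isometryGroup_of_iso {ι κ : Type} [Fintype ι] [DecidableEq ι] [Fintype κ]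
    [DecidableEq κ] (Q : QuadraticForm F (ι → F)) (Q₀ : QuadraticForm F (κ → F)) (hiso : Iso Q Q₀) :
    Nat.card (Cfsg.isometryGroup F (⇑Q)) = Nat.card (Cfsg.isometryGroup F (⇑Q₀)) := by
  obtain ⟨φ, hφ⟩ := hiso
  have hφ' : ∀ w, Q (φ.symm w) = Q₀ w := fun w => by rw [← hφ, LinearEquiv.apply_symm_apply]
  apply Nat.card_congr
  apply Equiv.subtypeEquiv (glEquiv φ).toEquiv
  intro g
  show g ∈ Cfsg.isometryGroup F (⇑Q) ↔ glEquiv φ g ∈ Cfsg.isometryGroup F (⇑Q₀)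
  rw [mem_isometryGroup_iff, mem_isometryGroup_iff]
  constructor
  · intro h w
    rw [glEquiv_mulVec, hφ, h, hφ']
  · intro h v
    have := h (φ v)
    rwa [glEquiv_mulVec, hφ, hφ, LinearEquiv.symm_apply_apply] at this

theorem card_spGL [Fintype F] :
    Nat.card (Cfsg.spGL d F) = Nat.card (Matrix.symplecticGroup (Fin d) F) := by
  apply Nat.card_congr
  exact
    { toFun := Cfsg.Agent.Lib.Helper5_PSpSimple.fromSpGL d
      invFun := Cfsg.Agent.Lib.Helper5_PSpSimple.toSpGL d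
      left_inv := Cfsg.Agent.Lib.Helper5_PSpSimple.toSpGL_fromSpGL d
      right_inv := fun g => Subtype.ext rfl }

theorem relIndex_mul_card_inf {G : Type*} [Group G] (H K : Subgroup G) :
    H.relIndex K * Nat.card ↥(H ⊓ K) = Nat.card ↥K := by
  rw [Subgroup.relIndex, ← Subgroup.inf_subgroupOf_right,
    ← Nat.card_congr (Subgroup.subgroupOfEquivOfLe (inf_le_right : H ⊓ K ≤ K)).toEquiv,
    Subgroup.index_mul_card]

theorem arith_index_plus (q e N P : ℕ) (hq : 2 ≤ q) (hP : 0 < P)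
    (h : N * (2 * q ^ ((e + 1) * (e + 1 - 1)) * (q ^ (e + 1) - 1) * P)
      = q ^ ((e + 1) ^ 2) * (P * (q ^ (2 * (e + 1)) - 1))) :
    N * 2 = q ^ (e + 1) * (q ^ (e + 1) + 1) := by
  have hQ : 2 ≤ q ^ (e + 1) := by
    calc 2 ≤ q := hq
      _ = q ^ 1 := (pow_one q).symm
      _ ≤ q ^ (e + 1) := Nat.pow_le_pow_right (by omega) (by omega)
  obtain ⟨X, hX⟩ : ∃ X, q ^ (e + 1) = X + 1 := ⟨q ^ (e + 1) - 1, by omega⟩
  have hXpos : 0 < X := by omega
  have hX1 : q ^ (e + 1) - 1 = X := by omega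
  obtain ⟨A, hAdef⟩ : ∃ A, A = q ^ ((e + 1) * (e + 1 - 1)) := ⟨_, rfl⟩
  have hA : 0 < A := hAdef ▸ Nat.pow_pos (by omega)
  have h1 : q ^ ((e + 1) ^ 2) = A * (X + 1) := by
    rw [hAdef, ← hX, ← pow_add]
    congr 1
    rw [Nat.add_sub_cancel]
    ring
  have h3 : q ^ (2 * (e + 1)) - 1 = X * (X + 2) := by
    rw [two_mul, pow_add, hX]
    have : (X + 1) * (X + 1) = X * (X + 2) + 1 := by ring
    rw [this, Nat.add_sub_cancel]
  rw [h1, h3, hX1, ← hAdef] at h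
  rw [hX]
  apply Nat.eq_of_mul_eq_mul_right (Nat.mul_pos (Nat.mul_pos hA hXpos) hP)
  linear_combination h

theorem arith_index_minus (q e N P : ℕ) (hq : 2 ≤ q) (hP : 0 < P)
    (h : N * (2 * q ^ ((e + 1) * (e + 1 - 1)) * (q ^ (e + 1) + 1) * P)
      = q ^ ((e + 1) ^ 2) * (P * (q ^ (2 * (e + 1)) - 1))) :
    N * 2 = q ^ (e + 1) * (q ^ (e + 1) - 1) := by
  have hQ : 2 ≤ q ^ (e + 1) := by
    calc 2 ≤ q := hq
      _ = q ^ 1 := (pow_one q).symm
      _ ≤ q ^ (e + 1) := Nat.pow_le_pow_right (by omega) (by omega)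
  obtain ⟨X, hX⟩ : ∃ X, q ^ (e + 1) = X + 1 := ⟨q ^ (e + 1) - 1, by omega⟩
  have hX1 : q ^ (e + 1) - 1 = X := by omega
  obtain ⟨A, hAdef⟩ : ∃ A, A = q ^ ((e + 1) * (e + 1 - 1)) := ⟨_, rfl⟩
  have hA : 0 < A := hAdef ▸ Nat.pow_pos (by omega)
  have h1 : q ^ ((e + 1) ^ 2) = A * (X + 1) := by
    rw [hAdef, ← hX, ← pow_add]
    congr 1
    rw [Nat.add_sub_cancel]
    ring
  have h3 : q ^ (2 * (e + 1)) - 1 = X * (X + 2) := by
    rw [two_mul, pow_add, hX]
    have : (X + 1) * (X + 1) = X * (X + 2) + 1 := by ring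
    rw [this, Nat.add_sub_cancel]
  rw [h1, h3, ← hAdef] at h
  rw [hX1]
  rw [hX] at h ⊢
  apply Nat.eq_of_mul_eq_mul_right (Nat.mul_pos (Nat.mul_pos hA (by omega : 0 < X + 2)) hP)
  linear_combination h

/-- the index of the orthogonal group in the symplectic group -/
theorem index_formula [Fintype F] (hd : 1 ≤ d) (Q : QuadraticForm F (Fin d ⊕ Fin d → F))
    (hQ : HasPolar Q) :
    (IsHyp Q → (Cfsg.Geo.quadSimilarityGroup (⇑Q)).relIndex (Cfsg.spGL d F) * 2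
      = Fintype.card F ^ d * (Fintype.card F ^ d + 1)) ∧
    (¬ IsHyp Q → (Cfsg.Geo.quadSimilarityGroup (⇑Q)).relIndex (Cfsg.spGL d F) * 2
      = Fintype.card F ^ d * (Fintype.card F ^ d - 1)) := by
  obtain ⟨ζ, hζ⟩ := exists_aniso (F := F)
  have hq : 2 ≤ Fintype.card F := Fintype.one_lt_card
  have hmain := relIndex_mul_card_inf (Cfsg.Geo.quadSimilarityGroup (⇑Q)) (Cfsg.spGL d F)
  rw [inf_eq_isometryGroup hd Q hQ, card_spGL, Cfsg.Agent.S0245.result (F := F) rfl d] at hmain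
  have hP : 0 < ∏ i ∈ Finset.range (d - 1), (Fintype.card F ^ (2 * (i + 1)) - 1) := by
    apply Finset.prod_pos
    intro i _
    have : 2 ≤ Fintype.card F ^ (2 * (i + 1)) := by
      calc 2 ≤ Fintype.card F := hq
        _ = Fintype.card F ^ 1 := (pow_one _).symm
        _ ≤ Fintype.card F ^ (2 * (i + 1)) := Nat.pow_le_pow_right (by omega) (by omega)
    omega
  obtain ⟨e, rfl⟩ : ∃ e, d = e + 1 := ⟨d - 1, by omega⟩
  rw [Finset.prod_range_succ] at hmain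
  rcases type_dichotomy hd Q hQ 1 ζ hζ with ⟨hh, hiso⟩ | ⟨hnh, hiso⟩
  · refine ⟨fun _ => ?_, fun h => absurd hh h⟩
    rw [card_isometryGroup_of_iso Q (qfPlus (e + 1) F) hiso, coe_qfPlus,
      Cfsg.Agent.S0287.result (F := F) rfl (e + 1) hd] at hmain
    exact arith_index_plus _ e _ _ hq hP hmain
  · refine ⟨fun h => absurd h hnh, fun _ => ?_⟩
    rw [card_isometryGroup_of_iso Q (qfMinus (e + 1 - 1) F 1 ζ) hiso, coe_qfMinus,
      Cfsg.Agent.S0288.result (F := F) rfl (e + 1) hd 1 ζ hζ] at hmain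
    exact arith_index_minus _ e _ _ hq hP hmain

end index


section main

variable {d : ℕ} {F : Type u} [Field F] [Fintype F]

/-- **`Sp_{2d}(q)`, `q` even, on the cosets of an orthogonal subgroup**: all elements of prime
order `r` (dividing the index) have fixed points iff `r = 2` and the form has plus type or `d`
is odd -/
theorem main_sp [CharP F 2] (hd : 1 ≤ d) (Q : QuadraticForm F (Fin d ⊕ Fin d → F))
    (hQ : HasPolar Q) (r : ℕ) (hr : r.Prime)
    (hΩ : r ∣ (Cfsg.Geo.quadSimilarityGroup (⇑Q)).relIndex (Cfsg.spGL d F)) :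
    (∀ x ∈ Cfsg.spGL d F,
      (∃ z : F, ((x ^ r : Matrix.GeneralLinearGroup (Fin d ⊕ Fin d) F) :
        Matrix (Fin d ⊕ Fin d) (Fin d ⊕ Fin d) F)
          = z • (1 : Matrix (Fin d ⊕ Fin d) (Fin d ⊕ Fin d) F)) →
      (∀ z : F, (x : Matrix (Fin d ⊕ Fin d) (Fin d ⊕ Fin d) F)
          ≠ z • (1 : Matrix (Fin d ⊕ Fin d) (Fin d ⊕ Fin d) F)) →
      ∃ g ∈ Cfsg.spGL d F, g⁻¹ * x * g ∈ Cfsg.Geo.quadSimilarityGroup (⇑Q)) ↔
    (r = 2 ∧ (Cfsg.Geo.IsPlusTypeOn (⇑Q) ⊤ ∨ Odd d)) := by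
  have h2 : (2 : F) = 0 := two_eq_zero_of_charP
  rw [isPlusTypeOn_iff_isHyp Q hQ]
  constructor
  · intro H
    by_cases hr2 : r = 2
    · refine ⟨hr2, ?_⟩
      by_contra hcon
      push Not at hcon
      obtain ⟨hnh, hnodd⟩ := hcon
      have hev : Even d := Nat.not_odd_iff_even.1 hnodd
      obtain ⟨x, hx, hxr, hns, hder⟩ := exists_derangement_two h2 hd hev Q hQ hnh
      obtain ⟨g, hg, hmem⟩ := H x hx ⟨1, by rw [hr2, hxr, Units.val_one, one_smul]⟩ hns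
      exact hder g hg hmem
    · exfalso
      have hnq : ¬ r ∣ Fintype.card F ^ d := by
        intro h
        have h1 := hr.dvd_of_dvd_pow h
        have : Fact (Nat.Prime 2) := ⟨Nat.prime_two⟩
        obtain ⟨k, -, hk⟩ := FiniteField.card F 2
        rw [hk] at h1
        have h3 := hr.dvd_of_dvd_pow h1
        exact hr2 ((Nat.prime_dvd_prime_iff_eq hr Nat.prime_two).1 h3)
      obtain ⟨hi1, hi2⟩ := index_formula hd Q hQ
      have h1 : IsHyp Q → r ∣ Fintype.card F ^ d + 1 := by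
        intro hh
        have h3 : r ∣ Fintype.card F ^ d * (Fintype.card F ^ d + 1) := by
          rw [← hi1 hh]
          exact Dvd.dvd.mul_right hΩ 2
        exact ((Nat.Prime.dvd_mul hr).1 h3).resolve_left hnq
      have h1' : ¬ IsHyp Q → r ∣ Fintype.card F ^ d - 1 := by
        intro hh
        have h3 : r ∣ Fintype.card F ^ d * (Fintype.card F ^ d - 1) := by
          rw [← hi2 hh]
          exact Dvd.dvd.mul_right hΩ 2
        exact ((Nat.Prime.dvd_mul hr).1 h3).resolve_left hnq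
      obtain ⟨x, hx, hxr, hns, hder⟩ := exists_derangement_odd hd Q hQ hr hr2 h1 h1'
      obtain ⟨g, hg, hmem⟩ := H x hx ⟨1, by rw [hxr, Units.val_one, one_smul]⟩ hns
      exact hder g hg hmem
  · rintro ⟨rfl, hgood⟩ x hx ⟨z, hz⟩ hns
    have hxB : IsoB (Bsymp d F) (x : Matrix (Fin d ⊕ Fin d) (Fin d ⊕ Fin d) F) := by
      intro u v
      rw [Bsymp_apply, Bsymp_apply]
      exact (mem_spGL_iff x).1 hx u v
    have hz' : (x : Matrix (Fin d ⊕ Fin d) (Fin d ⊕ Fin d) F)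
        * (x : Matrix (Fin d ⊕ Fin d) (Fin d ⊕ Fin d) F)
        = z • (1 : Matrix (Fin d ⊕ Fin d) (Fin d ⊕ Fin d) F) := by
      rw [← hz, Units.val_pow_eq_pow_val, pow_two]
    have hxx := scalar_eq_one_of_isoB h2 hd (T := (x : Matrix (Fin d ⊕ Fin d) (Fin d ⊕ Fin d) F)
        * (x : Matrix (Fin d ⊕ Fin d) (Fin d ⊕ Fin d) F)) (fun u v => by
          rw [← Matrix.mulVec_mulVec, ← Matrix.mulVec_mulVec, hxB, hxB]) hz'
    have hx1 : (x : Matrix (Fin d ⊕ Fin d) (Fin d ⊕ Fin d) F) ≠ 1 := by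
      intro h
      exact hns 1 (by rw [h, one_smul])
    exact exists_conj_of_involution h2 hd Q hQ hgood x hx hxx hx1

end main

end Cfsg.Agent.Lib.Helper68_SpOrth
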