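import Mathlib
import Cfsg.Agent.Lib.Helper43_SpTensor3
import Cfsg.Agent.Lib.Helper99_SpElt
import Cfsg.Agent.Lib.Helper68_SpOrth
import Cfsg.Agent.Lib.Helper5_SpOrder

set_option autoImplicit false
set_option linter.unusedSectionVars false

/-!
# Elements of prime order of `Sp_{2d}(q)` with small support, inside `spGL` (helper43)
-/

namespace Cfsg.Agent.Lib.Helper43_SpTensor4

open Matrix Module Polynomial
open scoped Kronecker MatrixGroups
open Cfsg.Agent.Lib.Helper13_Symp Cfsg.Agent.Lib.Helper99_SpAtoms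

section generic

variable {F : Type*} [Field F] {κ : Type*} [Fintype κ] [DecidableEq κ]

theorem eq_zero_of_rank_eq_zero' (M : Matrix κ κ F) (h : M.rank = 0) : M = 0 := by
  have h1 : LinearMap.range M.mulVecLin = ⊥ := Submodule.finrank_eq_zero.1 h
  ext i j
  have h2 : M *ᵥ Pi.single j 1 ∈ LinearMap.range M.mulVecLin :=
    ⟨Pi.single j 1, Matrix.mulVecLin_apply _ _⟩
  rw [h1, Submodule.mem_bot] at h2
  have h3 := congrFun h2 i
  rw [Matrix.mulVec_single_one] at h3
  exact h3

/-- a matrix of the form `1 + N` with `N * N = 0` in characteristic `p` has `p`-th power one -/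
theorem one_add_pow_char' (p : ℕ) [CharP F p] (N : Matrix κ κ F)
    (hN : N * N = 0) : (1 + N) ^ p = 1 := by
  have h1 : ∀ k : ℕ, (1 + N) ^ k = 1 + (k : F) • N := by
    intro k
    induction k with
    | zero => simp
    | succ k ih =>
      rw [pow_succ, ih, Matrix.add_mul, Matrix.mul_add, Matrix.mul_add, Matrix.one_mul,
        Matrix.mul_one, Matrix.one_mul, Matrix.smul_mul, hN, smul_zero, add_zero, Nat.cast_succ,
        add_smul, one_smul]
      abel
  rw [h1 p, CharP.cast_eq_zero, zero_smul, add_zero]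

/-- rank-nullity for `y - 1` -/
theorem rank_sub_one_add_finrank' (y : Matrix κ κ F) :
    (y - 1).rank + finrank F (Module.End.eigenspace
      (Matrix.toLin' y : Module.End F (κ → F)) 1) = Fintype.card κ := by
  set T : Module.End F (κ → F) := Matrix.toLin' y with hT
  have h1 := LinearMap.finrank_range_add_finrank_ker (T - 1)
  rw [Module.finrank_pi, Fintype.card_eq_nat_card] at h1
  have h2 : (y - 1).rank = finrank F (LinearMap.range (T - 1)) := by
    have : (y - 1).mulVecLin = T - 1 := by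
      rw [← Matrix.toLin'_apply', map_sub, Matrix.toLin'_one]
      rfl
    unfold Matrix.rank
    rw [this]
  have h3 : Module.End.eigenspace T 1 = LinearMap.ker (T - 1) := by
    ext v
    rw [Module.End.mem_eigenspace_iff, LinearMap.mem_ker, LinearMap.sub_apply, one_smul,
      Module.End.one_apply, sub_eq_zero]
  rw [h2, h3, h1, Fintype.card_eq_nat_card]

end generic

section elements

variable {F : Type*} [Field F] (d : ℕ)

/-- a symplectic matrix as an element of `spGL` -/
theorem exists_spGL_of_mem (A : Matrix (Fin d ⊕ Fin d) (Fin d ⊕ Fin d) F)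
    (hA : A ∈ Matrix.symplecticGroup (Fin d) F) :
    ∃ x : GL (Fin d ⊕ Fin d) F, x ∈ Cfsg.spGL d F ∧ x.1 = A :=
  ⟨(Cfsg.Agent.S0768.ofSymp d ⟨A, hA⟩).1, (Cfsg.Agent.S0768.ofSymp d ⟨A, hA⟩).2, rfl⟩

/-- the matrix of an element of `spGL` is symplectic -/
theorem mem_symplecticGroup_of_mem_spGL {x : GL (Fin d ⊕ Fin d) F} (hx : x ∈ Cfsg.spGL d F) :
    x.1 ∈ Matrix.symplecticGroup (Fin d) F :=
  mem_symplecticGroup_of_preserves d (fun u v => hx u v)

/-- a symplectic transvection: order `p`, `rank (x - 1) = 1` -/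
theorem exists_transvection_sp (hd : 1 ≤ d) (p : ℕ) [CharP F p] :
    ∃ x : GL (Fin d ⊕ Fin d) F, x ∈ Cfsg.spGL d F ∧ x.1 ^ p = 1 ∧ (x.1 - 1).rank = 1 := by
  classical
  let i₀ : Fin d := ⟨0, hd⟩
  set v : Fin d ⊕ Fin d → F := Pi.single (Sum.inl i₀) 1 with hv
  set w : Fin d ⊕ Fin d → F := Matrix.J (Fin d) F *ᵥ v with hw
  set N : Matrix (Fin d ⊕ Fin d) (Fin d ⊕ Fin d) F := Matrix.vecMulVec v w with hN
  have hvw : w ⬝ᵥ v = 0 := by
    have := sympForm_self d v
    unfold Cfsg.sympForm at this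
    rw [← hw, dotProduct_comm] at this
    exact this
  have hNN : N * N = 0 := by
    rw [hN, Matrix.vecMulVec_mul_vecMulVec, hvw, zero_smul]
    ext i j
    simp [Matrix.vecMulVec_apply]
  have ht : Cfsg.sympTransvection d v (1 : F) = 1 + N := by
    unfold Cfsg.sympTransvection
    rw [one_smul]
  obtain ⟨x, hx, hxA⟩ := exists_spGL_of_mem d _ (sympTransvection_mem d v (1 : F))
  refine ⟨x, hx, ?_, ?_⟩
  · rw [hxA, ht]
    exact one_add_pow_char' p N hNN
  · rw [hxA, ht, add_sub_cancel_left]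
    have hle : N.rank ≤ 1 := Matrix.rank_vecMulVec_le v w
    have hne : N.rank ≠ 0 := by
      intro h0
      have hN0 := eq_zero_of_rank_eq_zero' N h0
      have h1 := congrFun (congrFun hN0 (Sum.inl i₀)) (Sum.inr i₀)
      have hv1 : v (Sum.inl i₀) = 1 := by rw [hv, Pi.single_eq_same]
      rw [hN, Matrix.vecMulVec_apply, hw, J_mulVec_inr, hv1, one_mul, Matrix.zero_apply] at h1
      exact one_ne_zero h1
    omega

/-- the involution `[-I_2, I_{2d-2}]` -/
theorem exists_neg_block_sp (hd : 1 ≤ d) (h2 : (2 : F) ≠ 0) :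
    ∃ x : GL (Fin d ⊕ Fin d) F, x ∈ Cfsg.spGL d F ∧ x.1 * x.1 = 1 ∧ (x.1 - 1).rank = 2 := by
  classical
  let i₀ : Fin d := ⟨0, hd⟩
  set δ : Fin d ⊕ Fin d → F := fun k => if k = Sum.inl i₀ ∨ k = Sum.inr i₀ then -1 else 1
    with hδ
  set D : Matrix (Fin d ⊕ Fin d) (Fin d ⊕ Fin d) F := Matrix.diagonal δ with hD
  have hδl : ∀ i : Fin d, δ (Sum.inl i) = if i = i₀ then -1 else 1 := by
    intro i
    simp [hδ]
  have hδr : ∀ i : Fin d, δ (Sum.inr i) = if i = i₀ then -1 else 1 := by
    intro i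
    simp [hδ]
  have hδδ : ∀ i : Fin d, δ (Sum.inr i) * δ (Sum.inl i) = 1 := by
    intro i
    rw [hδl, hδr]
    split_ifs <;> simp
  have hDmem : D ∈ Matrix.symplecticGroup (Fin d) F := by
    apply mem_symplecticGroup_of_preserves
    intro u v
    rw [sympForm_eq, sympForm_eq]
    apply Finset.sum_congr rfl
    intro i _
    rw [hD, Matrix.mulVec_diagonal, Matrix.mulVec_diagonal, Matrix.mulVec_diagonal,
      Matrix.mulVec_diagonal]
    have h1 := hδδ i
    have h3 : δ (Sum.inl i) * δ (Sum.inr i) = 1 := by rw [mul_comm]; exact h1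
    linear_combination (u (Sum.inr i) * v (Sum.inl i)) * h1 -
      (u (Sum.inl i) * v (Sum.inr i)) * h3
  obtain ⟨x, hx, hxA⟩ := exists_spGL_of_mem d D hDmem
  refine ⟨x, hx, ?_, ?_⟩
  · rw [hxA, hD, Matrix.diagonal_mul_diagonal, ← Matrix.diagonal_one]
    congr 1
    funext k
    simp only [hδ]
    split_ifs <;> simp
  · rw [hxA, hD]
    have h1 : Matrix.diagonal δ - 1 = Matrix.diagonal (fun k => δ k - 1) := by
      rw [← Matrix.diagonal_one, Matrix.diagonal_sub]
    rw [h1, Matrix.rank_diagonal, Fintype.card_subtype]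
    have h3 : (Finset.univ.filter fun k : Fin d ⊕ Fin d => δ k - 1 ≠ 0) =
        {Sum.inl i₀, Sum.inr i₀} := by
      ext k
      simp only [Finset.mem_filter, Finset.mem_univ, true_and, Finset.mem_insert,
        Finset.mem_singleton, hδ]
      constructor
      · intro h
        by_contra hk
        rw [if_neg hk, sub_self] at h
        exact h rfl
      · intro h
        rw [if_pos h]
        intro h0
        apply h2
        have : (-1 : F) - 1 = -2 := by ring
        rw [this, neg_eq_zero] at h0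
        exact h0
    rw [h3, Finset.card_pair]
    intro h
    exact Sum.inl_ne_inr h

end elements

section order

variable {F : Type*} [Field F] [Fintype F] {p : ℕ} [Fact p.Prime] [CharP F p]

/-- if a prime `r ≠ p` divides the order of `Sp_{2d}(q)` then the minimal block dimension is at
most `2 d` -/
theorem atomDim_le_of_dvd_card (d : ℕ) {r : ℕ} (hr : r.Prime) (hrp : r ≠ p)
    (h : r ∣ Nat.card (Cfsg.spGL d F)) : atomDim F r ≤ 2 * d := by
  unfold atomDim
  have hp : p.Prime := Fact.out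
  rw [Cfsg.Agent.Lib.Helper68_SpOrth.card_spGL, Cfsg.Agent.Lib.Helper5_SpOrder.card_sp rfl d] at h
  set q := Fintype.card F with hq
  have hrq : ¬ r ∣ q := by
    intro hrq
    obtain ⟨k, -, hk⟩ := FiniteField.card F p
    rw [hq, hk] at hrq
    exact hrp ((Nat.prime_dvd_prime_iff_eq hr hp).1 (hr.dvd_of_dvd_pow hrq))
  have h3 : r ∣ ∏ i ∈ Finset.range d, (q ^ (2 * (i + 1)) - 1) := by
    rcases (Nat.Prime.dvd_mul hr).1 h with h | h
    · exact absurd (hr.dvd_of_dvd_pow h) hrq
    · exact h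
  rw [Prime.dvd_finsetProd_iff (Nat.prime_iff.1 hr)] at h3
  obtain ⟨j, hj, hjd⟩ := h3
  rw [Finset.mem_range] at hj
  have hq1 : 1 ≤ q ^ (2 * (j + 1)) := Nat.one_le_pow _ _ Fintype.card_pos
  have h4 : ((q : ℕ) : ZMod r) ^ (2 * (j + 1)) = 1 := by
    have := (ZMod.natCast_eq_zero_iff _ _).2 hjd
    rw [Nat.cast_sub hq1, Nat.cast_one, sub_eq_zero, Nat.cast_pow] at this
    exact this
  have h5 := orderOf_dvd_of_pow_eq_one h4
  split_ifs with hie
  · have := Nat.le_of_dvd (by omega) h5
    omega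
  · have hodd : Odd (orderOf ((q : ℕ) : ZMod r)) := Nat.not_even_iff_odd.1 hie
    have h6 : orderOf ((q : ℕ) : ZMod r) ∣ j + 1 :=
      (Nat.Coprime.dvd_mul_left (Nat.coprime_two_right.2 hodd)).1 h5
    have := Nat.le_of_dvd (by omega) h6
    omega

/-- the minimal element of odd prime order `r ≠ p`, `ord_r(q)` even -/
theorem exists_atom_elt_even (d : ℕ) {r : ℕ} (hr : r.Prime) (hr2 : r ≠ 2) (hrp : r ≠ p)
    (heven : Even (orderOf ((Fintype.card F : ℕ) : ZMod r)))
    (hle : orderOf ((Fintype.card F : ℕ) : ZMod r) ≤ 2 * d) :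
    ∃ A : Matrix (Fin d ⊕ Fin d) (Fin d ⊕ Fin d) F, A ∈ Matrix.symplecticGroup (Fin d) F ∧
      A ^ r = 1 ∧ (A - 1).rank = orderOf ((Fintype.card F : ℕ) : ZMod r) := by
  have hc : atomDim F r = orderOf ((Fintype.card F : ℕ) : ZMod r) := by
    unfold atomDim
    rw [if_pos heven]
  obtain ⟨A, hA, hAr, hfix⟩ :=
    Cfsg.Agent.Lib.Helper99_SpElt.exists_elt (p := p) (F := F) d hr hr2 hrp 1
      (by rw [one_mul, hc]; exact hle)
  refine ⟨A, hA, hAr, ?_⟩
  have h1 := rank_sub_one_add_finrank' A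
  rw [hfix, one_mul, hc, Fintype.card_sum, Fintype.card_fin] at h1
  omega

end order

end Cfsg.Agent.Lib.Helper43_SpTensor4
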