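import Mathlib
import Cfsg.Agent.Lib.Helper43_SpTensor4

set_option autoImplicit false
set_option linter.unusedSectionVars false

/-!
# Elements of the stabilizer of a tensor decomposition `Sp_a ⊗ O_b` inside `Sp_{ab}` (helper43)
-/

namespace Cfsg.Agent.Lib.Helper43_SpTensor5

open Matrix Module
open scoped Kronecker MatrixGroups
open Cfsg.Agent.Lib.Helper43_Kron1 Cfsg.Agent.Lib.Helper43_SpTensor1

section form

variable {F : Type*} [Field F] {κ : Type} [Fintype κ] [DecidableEq κ]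

theorem formOfGram_id (G : Matrix κ κ F) (x y : κ → F) :
    Cfsg.Geo.formOfGram id G x y = x ⬝ᵥ (G *ᵥ y) := by
  unfold Cfsg.Geo.formOfGram
  simp only [dotProduct, Matrix.mulVec, id, Finset.mul_sum, mul_assoc]

theorem formOfGram_mulVec (G K : Matrix κ κ F) (hK : Kᵀ * G * K = G) (x y : κ → F) :
    Cfsg.Geo.formOfGram id G (K *ᵥ x) (K *ᵥ y) = Cfsg.Geo.formOfGram id G x y := by
  rw [formOfGram_id, formOfGram_id]
  conv_rhs => rw [← hK]
  rw [← Matrix.mulVec_mulVec, ← Matrix.mulVec_mulVec, Matrix.dotProduct_mulVec x Kᵀ,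
    Matrix.vecMul_transpose]

end form

section conj

variable {F : Type*} [Field F] {a b : ℕ} {κ : Type} [Fintype κ] [DecidableEq κ]

/-- the conjugate by `P` of the reindexed Kronecker product -/
noncomputable def conjKron (e : κ ≃ Fin a × Fin b) (P : GL κ F) (x₁ : GL (Fin a) F)
    (x₂ : GL (Fin b) F) : GL κ F :=
  P * Cfsg.Geo.glReindex e.symm (kronGL x₁ x₂) * P⁻¹

theorem conjKron_mem (e : κ ≃ Fin a × Fin b) (P : GL κ F) (x₁ : GL (Fin a) F)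
    (x₂ : GL (Fin b) F) : conjKron e P x₁ x₂ ∈ Cfsg.Geo.tensorProductSubgroup a b e P :=
  ⟨Cfsg.Geo.glReindex e.symm (kronGL x₁ x₂), ⟨kronGL x₁ x₂, kronGL_mem x₁ x₂, rfl⟩, rfl⟩

theorem conjKron_val (e : κ ≃ Fin a × Fin b) (P : GL κ F) (x₁ : GL (Fin a) F)
    (x₂ : GL (Fin b) F) :
    (conjKron e P x₁ x₂).1 = P.1 * (x₁.1 ⊗ₖ x₂.1).submatrix e e * (P⁻¹).1 := rfl

/-- `conjKron` is similar to the Kronecker product -/
theorem conjKron_sim (e : κ ≃ Fin a × Fin b) (P : GL κ F) (x₁ : GL (Fin a) F)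
    (x₂ : GL (Fin b) F) :
    ∃ (S : Matrix κ (Fin a × Fin b) F) (S' : Matrix (Fin a × Fin b) κ F), S * S' = 1 ∧
      S' * S = 1 ∧ (conjKron e P x₁ x₂).1 * S = S * (x₁.1 ⊗ₖ x₂.1) := by
  set T : Matrix κ κ F := P.1 with hT
  set Ti : Matrix κ κ F := (P⁻¹).1 with hTi
  have hTTi : T * Ti = 1 := by rw [hT, hTi, ← Units.val_mul, mul_inv_cancel, Units.val_one]
  have hTiT : Ti * T = 1 := by rw [hT, hTi, ← Units.val_mul, inv_mul_cancel, Units.val_one]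
  set K : Matrix (Fin a × Fin b) (Fin a × Fin b) F := x₁.1 ⊗ₖ x₂.1 with hK
  have h3 : (conjKron e P x₁ x₂).1 * T = T * (K.submatrix e e) := by
    rw [conjKron_val, Matrix.mul_assoc, hTiT, Matrix.mul_one]
  refine ⟨T.submatrix id e.symm, Ti.submatrix e.symm id, ?_, ?_, ?_⟩
  · rw [Matrix.submatrix_mul_equiv, hTTi, Matrix.submatrix_id_id]
  · have : Ti.submatrix (⇑e.symm) id * T.submatrix id (⇑e.symm) =
        (Ti * T).submatrix e.symm e.symm := by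
      rw [← Matrix.submatrix_mul_equiv Ti T e.symm (Equiv.refl _) e.symm]
      rfl
    rw [this, hTiT, Matrix.submatrix_one_equiv]
  · have h4 : (conjKron e P x₁ x₂).1 * T.submatrix id e.symm =
        ((conjKron e P x₁ x₂).1 * T).submatrix id e.symm := rfl
    have h5 : K = (K.submatrix e e).submatrix e.symm e.symm := by
      rw [Matrix.submatrix_submatrix]
      simp
    rw [h4, h3]
    conv_rhs => rw [h5]
    rw [Matrix.submatrix_mul_equiv]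

/-- `conjKron` preserves a form which is a tensor product, if the factors preserve the factors -/
theorem conjKron_preserves (f : (κ → F) → (κ → F) → F) (e : κ ≃ Fin a × Fin b) (P : GL κ F)
    (G₁ : Matrix (Fin a) (Fin a) F) (G₂ : Matrix (Fin b) (Fin b) F)
    (hS : ∃ c : F, c ≠ 0 ∧ ∀ x y : Fin a × Fin b → F,
      f (P.1 *ᵥ (x ∘ e)) (P.1 *ᵥ (y ∘ e)) = c * Cfsg.Geo.formOfGram id (G₁ ⊗ₖ G₂) x y)
    (x₁ : GL (Fin a) F) (x₂ : GL (Fin b) F)
    (h₁ : x₁.1ᵀ * G₁ * x₁.1 = G₁) (h₂ : x₂.1ᵀ * G₂ * x₂.1 = G₂) (u v : κ → F) :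
    f ((conjKron e P x₁ x₂).1 *ᵥ u) ((conjKron e P x₁ x₂).1 *ᵥ v) = f u v := by
  obtain ⟨c, -, hc⟩ := hS
  set K : Matrix (Fin a × Fin b) (Fin a × Fin b) F := x₁.1 ⊗ₖ x₂.1 with hK
  have hKG : Kᵀ * (G₁ ⊗ₖ G₂) * K = G₁ ⊗ₖ G₂ := by
    rw [hK, ← Matrix.kroneckerMap_transpose, ← Matrix.mul_kronecker_mul,
      ← Matrix.mul_kronecker_mul, h₁, h₂]
  have key : ∀ w : κ → F, ∃ xw : Fin a × Fin b → F, w = P.1 *ᵥ (xw ∘ e) ∧
      (conjKron e P x₁ x₂).1 *ᵥ w = P.1 *ᵥ ((K *ᵥ xw) ∘ e) := by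
    intro w
    refine ⟨((P⁻¹).1 *ᵥ w) ∘ e.symm, ?_, ?_⟩
    · have h1 : (((P⁻¹).1 *ᵥ w) ∘ e.symm) ∘ e = (P⁻¹).1 *ᵥ w := by
        funext k
        simp
      rw [h1, Matrix.mulVec_mulVec, ← Units.val_mul, mul_inv_cancel, Units.val_one,
        Matrix.one_mulVec]
    · rw [conjKron_val, ← Matrix.mulVec_mulVec, ← Matrix.mulVec_mulVec,
        Matrix.submatrix_mulVec_equiv]
  obtain ⟨xu, hu, hu'⟩ := key u
  obtain ⟨xv, hv, hv'⟩ := key v
  rw [hu', hv', hc, formOfGram_mulVec _ _ hKG, ← hc, ← hu, ← hv]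

end conj

end Cfsg.Agent.Lib.Helper43_SpTensor5
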