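import Mathlib
import Cfsg.Agent.Lib.Helper43_SpTensor5
import Cfsg.Agent.Lib.Helper40_BCInvol
import Cfsg.Agent.Lib.Helper35_OrthInvol
import Cfsg.Agent.Lib.Helper25_SpSqConj

set_option autoImplicit false
set_option linter.unusedSectionVars false

/-!
# Involutions of `PSp_{2d}(q)` lie in the stabilizers of tensor decompositions `Sp_2 ⊗ O_d`
(helper43)
-/

namespace Cfsg.Agent.Lib.Helper43_SpTensor6

open Matrix Module
open scoped Kronecker MatrixGroups
open Cfsg.Agent.Lib.Helper43_Kron1 Cfsg.Agent.Lib.Helper43_SpTensor1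
  Cfsg.Agent.Lib.Helper43_SpTensor4 Cfsg.Agent.Lib.Helper43_SpTensor5
  Cfsg.Agent.Lib.Helper94_Bridge Cfsg.Agent.Lib.Helper40_BCInvol
  Cfsg.Agent.Lib.Helper40_SpBasic Cfsg.Agent.Lib.Helper99_Singer

section aux

variable {F : Type*} [Field F]

/-- a symplectic involution has a `(-1)`-eigenspace of even dimension -/
theorem even_rank_sub_one (h2 : (2 : F) ≠ 0) (d : ℕ) (x : GL (Fin d ⊕ Fin d) F)
    (hx : x ∈ Cfsg.spGL d F) (hxx : x.1 * x.1 = 1) : Even (x.1 - 1).rank := by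
  set z : Module.End F (Fin d ⊕ Fin d → F) := Matrix.toLin' x.1 with hz
  have hzz : z * z = 1 := by
    rw [hz, Module.End.mul_eq_comp, ← Matrix.toLin'_mul, hxx, Matrix.toLin'_one]
    rfl
  have halt : ∀ v, Bsymp d F v v = 0 := fun v => Bsymp_isAlt d v
  have hBnd : (Bsymp d F).Nondegenerate := Bsymp_nondegenerate d
  have hzB : ∀ u v, Bsymp d F (z u) (z v) = Bsymp d F u v := by
    intro u v
    rw [Bsymp_apply, Bsymp_apply, hz, Matrix.toLin'_apply, Matrix.toLin'_apply]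
    exact hx u v
  have hMnd := ndOn_neg (Bsymp d F) hBnd hzB hzz h2
  have heven : Even (finrank F (negSpace z)) :=
    Cfsg.Agent.Lib.Helper43_AltEven.even_finrank_of_alt _ (negSpace z)
      ((Bsymp d F).restrict (negSpace z)) (fun v => halt v)
      (nondegenerate_restrict (Cfsg.Agent.Lib.Helper40_SpExistMatrix.isoData_one _ halt) hMnd) rfl
  have h1 := rank_sub_one_add_finrank' x.1
  rw [← hz] at h1
  have h3 : Module.End.eigenspace z 1 = fixSpace z := by
    ext v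
    rw [Module.End.mem_eigenspace_iff, one_smul, mem_fixSpace]
  have h4 : finrank F (fixSpace z) + finrank F (negSpace z) = finrank F (Fin d ⊕ Fin d → F) :=
    Submodule.finrank_add_eq_of_isCompl (isCompl_eigen hzz h2)
  rw [Module.finrank_pi, Fintype.card_eq_nat_card] at h4
  rw [h3, Fintype.card_eq_nat_card] at h1
  have h5 : (x.1 - 1).rank = finrank F (negSpace z) := by omega
  rw [h5]
  exact heven

/-- a scalar in `spGL` has square one -/
theorem sq_eq_one_of_scalar (d : ℕ) (hd : 1 ≤ d) (y : GL (Fin d ⊕ Fin d) F)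
    (hy : y ∈ Cfsg.spGL d F) (z : F)
    (hyz : y.1 = z • (1 : Matrix (Fin d ⊕ Fin d) (Fin d ⊕ Fin d) F)) : z * z = 1 := by
  obtain ⟨u, v, huv⟩ := Cfsg.Agent.Lib.Helper68_SpOrth.exists_sympForm_ne_zero (F := F) hd
  have h1 := hy u v
  have h4 : Cfsg.sympForm d F (z • u) (z • v) = Cfsg.sympForm d F u v := by
    have := h1
    simp only [Cfsg.glToMat, Units.coeHom_apply] at this
    rw [hyz, Matrix.smul_mulVec, Matrix.smul_mulVec, Matrix.one_mulVec,
      Matrix.one_mulVec] at this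
    exact this
  rw [Cfsg.Agent.Lib.Helper13_Symp.sympForm_smul_left,
    Cfsg.Agent.Lib.Helper13_Symp.sympForm_smul_right, ← mul_assoc] at h4
  exact mul_right_cancel₀ huv (h4.trans (one_mul _).symm)

/-- an element of odd order of `spGL` other than the identity is not scalar -/
theorem not_scalar_of_odd_pow (d : ℕ) (hd : 1 ≤ d) (x : GL (Fin d ⊕ Fin d) F)
    (hx : x ∈ Cfsg.spGL d F) {r : ℕ} (hr : Odd r) (hxr : x.1 ^ r = 1) (hx1 : x.1 ≠ 1) (z : F) :
    x.1 ≠ z • (1 : Matrix (Fin d ⊕ Fin d) (Fin d ⊕ Fin d) F) := by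
  intro h
  have hzz : z * z = 1 := sq_eq_one_of_scalar d hd x hx z h
  have hzr : z ^ r = 1 := by
    rw [h, smul_pow, one_pow] at hxr
    have := congrFun (congrFun hxr (Sum.inl ⟨0, hd⟩)) (Sum.inl ⟨0, hd⟩)
    rw [Matrix.smul_apply, Matrix.one_apply_eq, smul_eq_mul, mul_one] at this
    exact this
  obtain ⟨k, hk⟩ := hr
  have hz1 : z = 1 := by
    rw [hk, pow_succ, pow_mul, pow_two, hzz, one_pow, one_mul] at hzr
    exact hzr
  rw [hz1, one_smul] at h
  exact hx1 h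

/-- if `M² = -1` then `M - 1` is invertible -/
theorem rank_sub_one_of_sq_neg_one (h2 : (2 : F) ≠ 0) {κ : Type*} [Fintype κ] [DecidableEq κ]
    (M : Matrix κ κ F) (hM : M * M = (-1 : F) • (1 : Matrix κ κ F)) :
    (M - 1).rank = Fintype.card κ := by
  have h1 : (M - 1) * ((-2 : F)⁻¹ • (M + 1)) = 1 := by
    rw [Matrix.mul_smul, Matrix.sub_mul, Matrix.mul_add, Matrix.mul_one, Matrix.one_mul, hM]
    have : (-1 : F) • (1 : Matrix κ κ F) + M - (M + 1) = (-2 : F) • (1 : Matrix κ κ F) := by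
      rw [neg_smul, neg_smul, one_smul, ofNat_smul_eq_nsmul, two_smul]
      abel
    rw [this, smul_smul, inv_mul_cancel₀ (neg_ne_zero.2 h2), one_smul]
  exact Matrix.rank_of_isUnit _ (IsUnit.of_mul_eq_one _ h1)

/-- squares transfer along a similarity -/
theorem sq_of_sim {κ ι : Type*} [Fintype κ] [DecidableEq κ] [Fintype ι] [DecidableEq ι]
    (A : Matrix κ κ F) (K : Matrix ι ι F) (S : Matrix κ ι F) (S' : Matrix ι κ F)
    (hSS' : S * S' = 1) (h : A * S = S * K) (z : F) (hK : K * K = z • (1 : Matrix ι ι F)) :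
    A * A = z • (1 : Matrix κ κ F) := by
  have h1 : A * A * S = S * (K * K) := by
    rw [Matrix.mul_assoc, h, ← Matrix.mul_assoc, h, Matrix.mul_assoc]
  calc A * A = A * A * (S * S') := by rw [hSS', Matrix.mul_one]
    _ = (A * A * S) * S' := by rw [Matrix.mul_assoc (A * A)]
    _ = S * (K * K) * S' := by rw [h1]
    _ = z • (1 : Matrix κ κ F) := by
        rw [hK, Matrix.mul_smul, Matrix.mul_one, Matrix.smul_mul, hSS']

end aux

section main

variable {F : Type*} [Field F] [Fintype F]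

/-- **(⇐)**: every element of `Sp_{2d}(q)`, `q` odd, with scalar square is conjugate into the
stabilizer of a tensor decomposition `Sp_2 ⊗ O_d` -/
theorem exists_conj_into_tensor_sp (h2 : (2 : F) ≠ 0) (d b : ℕ) (hd : 1 ≤ d) (hdb : d = b)
    (e : (Fin d ⊕ Fin d) ≃ Fin 2 × Fin b) (P : GL (Fin d ⊕ Fin d) F)
    (f₁ : (Fin 2 → F) → (Fin 2 → F) → F) (f₂ : (Fin b → F) → (Fin b → F) → F)
    (hf₁ : Cfsg.Geo.IsSymplecticForm f₁) (hf₂ : Cfsg.Geo.IsSymmetricForm f₂)
    (hS : Cfsg.Geo.IsTensorFormStructure id (Cfsg.sympForm d F) f₁ f₂ e P)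
    (x : GL (Fin d ⊕ Fin d) F) (hx : x ∈ Cfsg.spGL d F) (z : F)
    (hxz : x.1 * x.1 = z • (1 : Matrix (Fin d ⊕ Fin d) (Fin d ⊕ Fin d) F)) :
    ∃ g ∈ Cfsg.spGL d F, g⁻¹ * x * g ∈ Cfsg.Geo.tensorProductSubgroup 2 b e P := by
  classical
  set G₁ := Cfsg.Geo.gramMatrix f₁ with hG₁
  set G₂ := Cfsg.Geo.gramMatrix f₂ with hG₂
  have hG₂symm : G₂.IsSymm := by
    ext i j
    rw [Matrix.transpose_apply]
    exact hf₂.symm _ _
  -- `z = ± 1`
  have hzz : z * z = 1 :=
    sq_eq_one_of_scalar d hd (x * x) ((Cfsg.spGL d F).mul_mem hx hx) z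
      (by rw [Units.val_mul, hxz])
  have hz : z = 1 ∨ z = -1 := by
    have : (z - 1) * (z + 1) = 0 := by linear_combination hzz
    rcases mul_eq_zero.1 this with h | h
    · left; exact sub_eq_zero.1 h
    · right; exact eq_neg_of_add_eq_zero_left h
  have finish : ∀ (x₁ : GL (Fin 2) F) (x₂ : GL (Fin b) F),
      x₁.1ᵀ * G₁ * x₁.1 = G₁ → x₂.1ᵀ * G₂ * x₂.1 = G₂ →
      (x₁.1 ⊗ₖ x₂.1) * (x₁.1 ⊗ₖ x₂.1) = z • (1 : Matrix (Fin 2 × Fin b) (Fin 2 × Fin b) F) →
      (x₁.1 ⊗ₖ x₂.1 - (1 : F) • (1 : Matrix (Fin 2 × Fin b) (Fin 2 × Fin b) F)).rank =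
        (x.1 - 1).rank →
      ∃ g ∈ Cfsg.spGL d F, g⁻¹ * x * g ∈ Cfsg.Geo.tensorProductSubgroup 2 b e P := by
    intro x₁ x₂ h₁ h₂ hsq hrk
    set h := conjKron e P x₁ x₂ with hh
    have hmem : h ∈ Cfsg.spGL d F := fun u v =>
      conjKron_preserves (Cfsg.sympForm d F) e P G₁ G₂ hS x₁ x₂ h₁ h₂ u v
    obtain ⟨S, S', hSS', hS'S, hsim⟩ := conjKron_sim e P x₁ x₂
    have hhz : h.1 * h.1 = z • (1 : Matrix (Fin d ⊕ Fin d) (Fin d ⊕ Fin d) F) :=
      sq_of_sim h.1 _ S S' hSS' hsim z hsq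
    have hrank : (x.1 - 1).rank = (h.1 - 1).rank := by
      have h5 := rank_eq_of_sim' _ _ S S' hSS' hS'S (sub_smul_of_sim' _ _ S hsim 1)
      rw [one_smul] at h5
      rw [h5, hrk]
    obtain ⟨g, hg, hgx⟩ :=
      Cfsg.Agent.Lib.Helper25_SpSqConj.exists_sp_conj_of_sq h2 d x h hx hmem z hxz hhz hrank
    exact ⟨g, hg, by rw [hgx]; exact conjKron_mem e P x₁ x₂⟩
  rcases hz with rfl | rfl
  · -- involutions
    rw [one_smul] at hxz
    obtain ⟨k, hk⟩ := even_rank_sub_one h2 d x hx hxz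
    have hkb : k ≤ b := by
      have := Matrix.rank_le_card_width (x.1 - 1)
      rw [Fintype.card_sum, Fintype.card_fin] at this
      omega
    obtain ⟨B, hBG, hBB, hBrank⟩ :=
      Cfsg.Agent.Lib.Helper35_OrthInvol.exists_orth_involution h2 G₂ hG₂symm k hkb
    set x₂ : GL (Fin b) F := ⟨B, B, hBB, hBB⟩ with hx₂
    apply finish 1 x₂
    · rw [Units.val_one, Matrix.transpose_one, Matrix.one_mul, Matrix.mul_one]
    · exact hBG
    · rw [Units.val_one, ← Matrix.mul_kronecker_mul, Matrix.one_mul]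
      show (1 : Matrix (Fin 2) (Fin 2) F) ⊗ₖ (B * B) = _
      rw [hBB, Matrix.one_kronecker_one, one_smul]
    · rw [Units.val_one, one_kron_sub, rank_one_kron, one_smul]
      show 2 * (B - 1).rank = _
      rw [hBrank, hk]
      ring
  · -- square `-1`
    set A : Matrix (Fin 2) (Fin 2) F := !![0, 1; -1, 0] with hA
    have hAA : A * A = (-1 : F) • (1 : Matrix (Fin 2) (Fin 2) F) := by
      rw [hA]
      ext i j
      fin_cases i <;> fin_cases j <;> simp [Matrix.mul_apply, Fin.sum_univ_two]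
    have hAinv : A * (-A) = 1 := by
      rw [Matrix.mul_neg, hAA, neg_smul, one_smul, neg_neg]
    have hAinv' : (-A) * A = 1 := by
      rw [Matrix.neg_mul, hAA, neg_smul, one_smul, neg_neg]
    set x₁ : GL (Fin 2) F := ⟨A, -A, hAinv, hAinv'⟩ with hx₁
    have h00 : G₁ 0 0 = 0 := hf₁.alternating _
    have h11 : G₁ 1 1 = 0 := hf₁.alternating _
    have h10 : G₁ 1 0 = - G₁ 0 1 := hf₁.skew _ _
    apply finish x₁ 1
    · show Aᵀ * G₁ * A = G₁
      rw [hA]
      ext i j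
      fin_cases i <;> fin_cases j <;>
        simp [Matrix.mul_apply, Fin.sum_univ_two, h00, h11, h10]
    · rw [Units.val_one, Matrix.transpose_one, Matrix.one_mul, Matrix.mul_one]
    · rw [Units.val_one, ← Matrix.mul_kronecker_mul, Matrix.one_mul]
      show (A * A) ⊗ₖ (1 : Matrix (Fin b) (Fin b) F) = _
      rw [hAA, Matrix.smul_kronecker, Matrix.one_kronecker_one]
    · have hK : (x₁.1 ⊗ₖ ((1 : GL (Fin b) F) : Matrix (Fin b) (Fin b) F)) *
          (x₁.1 ⊗ₖ ((1 : GL (Fin b) F) : Matrix (Fin b) (Fin b) F)) =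
          (-1 : F) • (1 : Matrix (Fin 2 × Fin b) (Fin 2 × Fin b) F) := by
        rw [Units.val_one, ← Matrix.mul_kronecker_mul, Matrix.one_mul]
        show (A * A) ⊗ₖ (1 : Matrix (Fin b) (Fin b) F) = _
        rw [hAA, Matrix.smul_kronecker, Matrix.one_kronecker_one]
      rw [one_smul, rank_sub_one_of_sq_neg_one h2 _ hK, rank_sub_one_of_sq_neg_one h2 _ hxz]
      simp only [Fintype.card_prod, Fintype.card_sum, Fintype.card_fin]
      omega

end main

end Cfsg.Agent.Lib.Helper43_SpTensor6
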