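import Cfsg.Agent.Lib.Helper43_RegCommutant
import Cfsg.Agent.Lib.Helper43_NormOne

set_option autoImplicit false

/-!
The adjoint with respect to the standard symplectic form, and the centraliser of a regular
unipotent symplectic matrix.
-/

namespace Cfsg.Agent.Lib.Helper43_SympAdjoint

open Matrix Module
open Cfsg.Agent.Lib.Helper43_RegCommutant

variable {F : Type*} [Field F] {l : Type*} [Fintype l] [DecidableEq l]

/-- the adjoint of a matrix with respect to the standard symplectic form -/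
def adj (A : Matrix (l ⊕ l) (l ⊕ l) F) : Matrix (l ⊕ l) (l ⊕ l) F := -J l F * Aᵀ * J l F

theorem J_mul_neg_J : J l F * -J l F = 1 := by
  rw [Matrix.mul_neg, J_squared, neg_neg]

theorem neg_J_mul_J : -J l F * J l F = 1 := by
  rw [Matrix.neg_mul, J_squared, neg_neg]

theorem J_mul_neg_J_mul (X : Matrix (l ⊕ l) (l ⊕ l) F) : J l F * (-J l F * X) = X := by
  rw [← Matrix.mul_assoc, J_mul_neg_J, Matrix.one_mul]

theorem neg_J_mul_J_mul (X : Matrix (l ⊕ l) (l ⊕ l) F) : -J l F * (J l F * X) = X := by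
  rw [← Matrix.mul_assoc, neg_J_mul_J, Matrix.one_mul]

theorem adj_mul (A B : Matrix (l ⊕ l) (l ⊕ l) F) : adj (A * B) = adj B * adj A := by
  simp only [adj, Matrix.transpose_mul, Matrix.mul_assoc, J_mul_neg_J_mul]

theorem adj_one : adj (1 : Matrix (l ⊕ l) (l ⊕ l) F) = 1 := by
  rw [adj, Matrix.transpose_one, Matrix.mul_one, neg_J_mul_J]

theorem adj_zero : adj (0 : Matrix (l ⊕ l) (l ⊕ l) F) = 0 := by
  rw [adj, Matrix.transpose_zero, Matrix.mul_zero, Matrix.zero_mul]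

theorem adj_add (A B : Matrix (l ⊕ l) (l ⊕ l) F) : adj (A + B) = adj A + adj B := by
  simp only [adj, Matrix.transpose_add, Matrix.mul_add, Matrix.add_mul]

theorem adj_smul (c : F) (A : Matrix (l ⊕ l) (l ⊕ l) F) : adj (c • A) = c • adj A := by
  simp only [adj, Matrix.transpose_smul, Matrix.mul_smul, Matrix.smul_mul]

theorem adj_neg (A : Matrix (l ⊕ l) (l ⊕ l) F) : adj (-A) = -adj A := by
  simp only [adj, Matrix.transpose_neg, Matrix.mul_neg, Matrix.neg_mul]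

theorem adj_sub (A B : Matrix (l ⊕ l) (l ⊕ l) F) : adj (A - B) = adj A - adj B := by
  rw [sub_eq_add_neg, adj_add, adj_neg, ← sub_eq_add_neg]

theorem adj_adj (A : Matrix (l ⊕ l) (l ⊕ l) F) : adj (adj A) = A := by
  simp only [adj, Matrix.transpose_mul, Matrix.transpose_neg, J_transpose,
    Matrix.transpose_transpose, neg_neg, Matrix.mul_assoc]
  rw [J_squared, Matrix.mul_neg, Matrix.mul_one, Matrix.mul_neg, Matrix.mul_neg, Matrix.neg_mul,
    Matrix.neg_mul, neg_neg, Matrix.mul_neg, ← Matrix.mul_assoc, J_squared, Matrix.neg_mul,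
    Matrix.one_mul, neg_neg]

theorem adj_mul_self_iff (A : Matrix (l ⊕ l) (l ⊕ l) F) :
    adj A * A = 1 ↔ A ∈ Matrix.symplecticGroup l F := by
  rw [SymplecticGroup.mem_iff']
  constructor
  · intro h
    have := congrArg (fun X => J l F * X) h
    simp only [adj, Matrix.mul_assoc, J_mul_neg_J_mul, Matrix.mul_one] at this
    rw [Matrix.mul_assoc]
    exact this
  · intro h
    rw [adj, Matrix.mul_assoc, Matrix.mul_assoc, ← Matrix.mul_assoc Aᵀ, h, neg_J_mul_J]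

theorem adj_coe_mul_coe (g : Matrix.symplecticGroup l F) :
    adj (g : Matrix (l ⊕ l) (l ⊕ l) F) * (g : Matrix (l ⊕ l) (l ⊕ l) F) = 1 :=
  (adj_mul_self_iff _).2 g.2

theorem coe_inv_eq_adj (g : Matrix.symplecticGroup l F) :
    ((g⁻¹ : Matrix.symplecticGroup l F) : Matrix (l ⊕ l) (l ⊕ l) F) =
      adj (g : Matrix (l ⊕ l) (l ⊕ l) F) := SymplecticGroup.coe_inv g

theorem coe_mul_adj_coe (g : Matrix.symplecticGroup l F) :
    (g : Matrix (l ⊕ l) (l ⊕ l) F) * adj (g : Matrix (l ⊕ l) (l ⊕ l) F) = 1 := by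
  rw [← coe_inv_eq_adj, ← Submonoid.coe_mul, mul_inv_cancel, Submonoid.coe_one]

section commutant

variable (u : Matrix.symplecticGroup l F)

/-- the adjoint preserves the commutant of a symplectic matrix -/
theorem adj_mem_Dalg {A : Matrix (l ⊕ l) (l ⊕ l) F}
    (hA : A ∈ Dalg ((u : Matrix (l ⊕ l) (l ⊕ l) F) - 1)) :
    adj A ∈ Dalg ((u : Matrix (l ⊕ l) (l ⊕ l) F) - 1) := by
  rw [mem_Dalg] at hA ⊢
  have h1 : (u : Matrix (l ⊕ l) (l ⊕ l) F) * A = A * (u : Matrix (l ⊕ l) (l ⊕ l) F) := by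
    rw [Matrix.sub_mul, Matrix.mul_sub, Matrix.one_mul, Matrix.mul_one] at hA
    exact sub_left_injective hA
  have h2 : adj A * adj (u : Matrix (l ⊕ l) (l ⊕ l) F) =
      adj (u : Matrix (l ⊕ l) (l ⊕ l) F) * adj A := by
    rw [← adj_mul, ← adj_mul, h1]
  have h3 : (u : Matrix (l ⊕ l) (l ⊕ l) F) * adj A = adj A * (u : Matrix (l ⊕ l) (l ⊕ l) F) := by
    calc (u : Matrix (l ⊕ l) (l ⊕ l) F) * adj A
        = (u : Matrix (l ⊕ l) (l ⊕ l) F) * adj A *
          (adj (u : Matrix (l ⊕ l) (l ⊕ l) F) * (u : Matrix (l ⊕ l) (l ⊕ l) F)) := by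
          rw [adj_coe_mul_coe, Matrix.mul_one]
      _ = (u : Matrix (l ⊕ l) (l ⊕ l) F) * (adj A * adj (u : Matrix (l ⊕ l) (l ⊕ l) F)) *
          (u : Matrix (l ⊕ l) (l ⊕ l) F) := by simp only [Matrix.mul_assoc]
      _ = ((u : Matrix (l ⊕ l) (l ⊕ l) F) * adj (u : Matrix (l ⊕ l) (l ⊕ l) F)) * adj A *
          (u : Matrix (l ⊕ l) (l ⊕ l) F) := by rw [h2]; simp only [Matrix.mul_assoc]
      _ = adj A * (u : Matrix (l ⊕ l) (l ⊕ l) F) := by rw [coe_mul_adj_coe, Matrix.one_mul]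
  rw [Matrix.sub_mul, Matrix.mul_sub, Matrix.one_mul, Matrix.mul_one, h3]

variable (hreg : RegNil ((u : Matrix (l ⊕ l) (l ⊕ l) F) - 1))
include hreg

/-- the adjoint as an algebra endomorphism of the commutant -/
noncomputable def sigma :
    Dalg ((u : Matrix (l ⊕ l) (l ⊕ l) F) - 1) →ₐ[F] Dalg ((u : Matrix (l ⊕ l) (l ⊕ l) F) - 1) where
  toFun x := ⟨adj x.1, adj_mem_Dalg u x.2⟩
  map_one' := Subtype.ext adj_one
  map_mul' x y := Subtype.ext (by
    show adj (x.1 * y.1) = adj x.1 * adj y.1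
    rw [adj_mul]
    exact hreg.comm (mem_Dalg.1 (adj_mem_Dalg u y.2)) (mem_Dalg.1 (adj_mem_Dalg u x.2)))
  map_zero' := Subtype.ext adj_zero
  map_add' x y := Subtype.ext (adj_add x.1 y.1)
  commutes' c := Subtype.ext (by
    show adj ((algebraMap F (Matrix (l ⊕ l) (l ⊕ l) F)) c) = (algebraMap F (Matrix (l ⊕ l) (l ⊕ l) F)) c
    rw [Algebra.algebraMap_eq_smul_one, adj_smul, adj_one])

theorem sigma_coe (x : Dalg ((u : Matrix (l ⊕ l) (l ⊕ l) F) - 1)) :
    ((sigma u hreg x : Dalg ((u : Matrix (l ⊕ l) (l ⊕ l) F) - 1)) : Matrix (l ⊕ l) (l ⊕ l) F) =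
      adj x.1 := rfl

theorem sigma_sigma (x : Dalg ((u : Matrix (l ⊕ l) (l ⊕ l) F) - 1)) :
    sigma u hreg (sigma u hreg x) = x := Subtype.ext (adj_adj x.1)

omit hreg in
theorem coe_mem_Dalg : (u : Matrix (l ⊕ l) (l ⊕ l) F) ∈ Dalg ((u : Matrix (l ⊕ l) (l ⊕ l) F) - 1) := by
  rw [mem_Dalg, Matrix.sub_mul, Matrix.mul_sub, Matrix.one_mul, Matrix.mul_one]

omit hreg in
/-- the skew element `u - u⁻¹` of the commutant -/
def zElt : Dalg ((u : Matrix (l ⊕ l) (l ⊕ l) F) - 1) :=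
  ⟨(u : Matrix (l ⊕ l) (l ⊕ l) F) - adj (u : Matrix (l ⊕ l) (l ⊕ l) F),
    Subalgebra.sub_mem _ (coe_mem_Dalg u) (adj_mem_Dalg u (coe_mem_Dalg u))⟩

theorem sigma_zElt : sigma u hreg (zElt u) = -zElt u := by
  apply Subtype.ext
  show adj ((u : Matrix (l ⊕ l) (l ⊕ l) F) - adj (u : Matrix (l ⊕ l) (l ⊕ l) F)) =
    -((u : Matrix (l ⊕ l) (l ⊕ l) F) - adj (u : Matrix (l ⊕ l) (l ⊕ l) F))
  rw [adj_sub, adj_adj, neg_sub]

theorem zElt_ker (h2 : (2 : F) ≠ 0) (A : Matrix (l ⊕ l) (l ⊕ l) F)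
    (hA : (zElt u).1 * A = 0) : ((u : Matrix (l ⊕ l) (l ⊕ l) F) - 1) * A = 0 := by
  have hnil : IsNilpotent ((u : Matrix (l ⊕ l) (l ⊕ l) F) - 1) := ⟨_, hreg.nil⟩
  have hu2 : IsUnit (algebraMap F (Matrix (l ⊕ l) (l ⊕ l) F) 2) :=
    (IsUnit.mk0 (2 : F) h2).map (algebraMap F (Matrix (l ⊕ l) (l ⊕ l) F))
  have hunit : IsUnit ((u : Matrix (l ⊕ l) (l ⊕ l) F) + 1) := by
    have : (u : Matrix (l ⊕ l) (l ⊕ l) F) + 1 =
        algebraMap F (Matrix (l ⊕ l) (l ⊕ l) F) 2 + ((u : Matrix (l ⊕ l) (l ⊕ l) F) - 1) := by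
      rw [map_ofNat]
      have h11 : (2 : Matrix (l ⊕ l) (l ⊕ l) F) = 1 + 1 := by norm_num
      rw [h11]
      abel
    rw [this]
    exact hnil.isUnit_add_left_of_commute hu2 (Algebra.commutes _ _).symm
  have h1 : ((u : Matrix (l ⊕ l) (l ⊕ l) F) + 1) *
      (((u : Matrix (l ⊕ l) (l ⊕ l) F) - 1) * A) = 0 := by
    have hA' : ((u : Matrix (l ⊕ l) (l ⊕ l) F) - adj (u : Matrix (l ⊕ l) (l ⊕ l) F)) * A = 0 := hA
    have := congrArg (fun X => (u : Matrix (l ⊕ l) (l ⊕ l) F) * X) hA'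
    simp only [Matrix.mul_zero] at this
    rw [← Matrix.mul_assoc, Matrix.mul_sub, coe_mul_adj_coe] at this
    rw [← Matrix.mul_assoc]
    have h3 : ((u : Matrix (l ⊕ l) (l ⊕ l) F) + 1) * ((u : Matrix (l ⊕ l) (l ⊕ l) F) - 1) =
        (u : Matrix (l ⊕ l) (l ⊕ l) F) * (u : Matrix (l ⊕ l) (l ⊕ l) F) - 1 := by
      rw [Matrix.add_mul, Matrix.mul_sub, Matrix.mul_sub, Matrix.one_mul, Matrix.mul_one,
        Matrix.mul_one]
      abel
    rw [h3]
    exact this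
  exact (hunit.mul_right_eq_zero).1 h1

/-- the centraliser of `u` in the symplectic group, as the norm one elements of the commutant -/
noncomputable def centEquiv :
    Subgroup.centralizer ({u} : Set (Matrix.symplecticGroup l F)) ≃
      {g : Dalg ((u : Matrix (l ⊕ l) (l ⊕ l) F) - 1) // sigma u hreg g * g = 1} where
  toFun g := ⟨⟨(g.1 : Matrix (l ⊕ l) (l ⊕ l) F), by
      have := Subgroup.mem_centralizer_singleton_iff.1 g.2
      have h1 : (g.1 : Matrix (l ⊕ l) (l ⊕ l) F) * (u : Matrix (l ⊕ l) (l ⊕ l) F) =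
          (u : Matrix (l ⊕ l) (l ⊕ l) F) * (g.1 : Matrix (l ⊕ l) (l ⊕ l) F) := by
        rw [← Submonoid.coe_mul, ← Submonoid.coe_mul, this]
      rw [mem_Dalg, Matrix.sub_mul, Matrix.mul_sub, Matrix.one_mul, Matrix.mul_one, h1]⟩,
    Subtype.ext (adj_coe_mul_coe g.1)⟩
  invFun x := ⟨⟨x.1.1, (adj_mul_self_iff _).1 (congrArg Subtype.val x.2)⟩, by
      rw [Subgroup.mem_centralizer_singleton_iff]
      apply Subtype.ext
      rw [Submonoid.coe_mul, Submonoid.coe_mul]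
      have := mem_Dalg.1 x.1.2
      rw [Matrix.sub_mul, Matrix.mul_sub, Matrix.one_mul, Matrix.mul_one] at this
      exact (sub_left_injective this).symm⟩
  left_inv _ := rfl
  right_inv _ := rfl

theorem card_centralizer [Finite F] (h2 : (2 : F) ≠ 0) :
    Nat.card (Subgroup.centralizer ({u} : Set (Matrix.symplecticGroup l F))) =
      2 * Nat.card F ^ Fintype.card l := by
  rw [Nat.card_congr (centEquiv u hreg)]
  have hcomm := hreg.isMulCommutative
  have hdim : finrank F (Dalg ((u : Matrix (l ⊕ l) (l ⊕ l) F) - 1)) = 2 * Fintype.card l := by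
    rw [hreg.finrank_Dalg, Fintype.card_sum, two_mul]
  have hnt : Nontrivial (Dalg ((u : Matrix (l ⊕ l) (l ⊕ l) F) - 1)) := by
    apply Module.nontrivial_of_finrank_pos (R := F)
    rw [hreg.finrank_Dalg]
    exact hreg.pos
  exact Cfsg.Agent.Lib.Helper43_NormOne.card_norm_one (sigma u hreg) h2 (sigma_sigma u hreg)
    hreg.hloc (zElt u) (sigma_zElt u hreg)
    (hreg.finrank_ker_mulLeft (zElt u) (fun A _ hA => zElt_ker u hreg h2 A hA)) _ hdim

end commutant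

end Cfsg.Agent.Lib.Helper43_SympAdjoint
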