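import Mathlib
import Cfsg.Agent.Lib.Helper67_T2ODefs
import Cfsg.Agent.Lib.Helper94_OrthNondeg
import Cfsg.Agent.Lib.Helper82_T2_KR
import Cfsg.Agent.Lib.Helper9_T2_BR
import Cfsg.Agent.Lib.Helper78_UT2_NEXA

set_option autoImplicit false
set_option linter.unusedSectionVars false
set_option linter.unusedVariables false

/-!
helper93: TENS2O package NEXCO (architect helper67): the alternative
`g⁻¹ (ux c) g = 1 ⊗ (1 + c X)` contradicts `RadStdO`.  (Symplectic twin of `Helper69_UT2_NEXC`.)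
-/

open Module
open Cfsg.Agent.Lib.Helper94_Symp Cfsg.Agent.Lib.Helper94_OrthSmall
  Cfsg.Agent.Lib.Helper94_OrthSiegel Cfsg.Agent.Lib.Helper94_OrthNondeg
  Cfsg.Agent.Lib.Helper67_Tens2Defs Cfsg.Agent.Lib.Helper67_T2ODefs

namespace Cfsg.Agent.Lib.Helper93_T2O_NEXCO

variable {F W : Type*} [Field F] [Finite F] [AddCommGroup W] [Module F W] [FiniteDimensional F W]
variable {ω : LinearMap.BilinForm F W}

/-- NEXCO : the alternative `g⁻¹ (ux c) g = 1 ⊗ (1 + c X)` contradicts `RadStdO` (`b ≥ 3`) -/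
theorem nex_rank (halt : ω.IsAlt) (hN : ω.Nondegenerate) (h3 : 3 ≤ finrank F W)
    (hq : ∃ a : F, a ≠ 0 ∧ a ≠ 1)
    (M : Subgroup ((W × W) ≃ₗ[F] (W × W))) (hM : HypO ω M) (hR : RadStdO ω M)
    (g : (W × W) ≃ₗ[F] (W × W)) (hg : g ∈ M) (X : W →ₗ[F] W) (hX0 : X ≠ 0)
    (hXX : ∀ u, X (X u) = 0)
    (hX : ∀ c : F, ∀ u u' : W,
      (g⁻¹ * ux (c • (LinearMap.id : W →ₗ[F] W)) * g) (u, u') = (u + c • X u, u' + c • X u')) :
    False := by
  obtain ⟨a0, ha00, ha01⟩ := hq
  -- (F1) `g (X u, X u') = ((g (u,u')).2, 0)`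
  have F1 : ∀ u u' : W, g (X u, X u') = ((g (u, u')).2, 0) := by
    intro u u'
    have h := congrArg g (hX 1 u u')
    rw [LinearEquiv.mul_apply, LinearEquiv.mul_apply, apply_inv_apply', ux_apply] at h
    have e : ((u + (1 : F) • X u, u' + (1 : F) • X u') : W × W) = (u, u') + (X u, X u') := by
      ext <;> simp
    rw [e, map_add] at h
    have e2 : ((g (u, u')).1 + ((1 : F) • (LinearMap.id : W →ₗ[F] W)) (g (u, u')).2,
        (g (u, u')).2) = g (u, u') + ((g (u, u')).2, (0 : W)) := by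
      ext <;> simp
    rw [e2] at h
    exact (add_left_cancel h).symm
  -- (F2) isometry: `1 + c X` preserves `ω`
  have Fiso : ∀ c : F, ∀ u u' : W, ω (u + c • X u) (u' + c • X u') = ω u u' := by
    intro c u u'
    have hmem : g⁻¹ * ux (c • (LinearMap.id : W →ₗ[F] W)) * g ∈ M :=
      M.mul_mem (M.mul_mem (M.inv_mem hg) (hM.ux_mem c)) hg
    have h := hM.le_oG hmem (u, u')
    rw [hX c] at h
    simpa using h
  have Fq : ∀ c : F, ∀ u u' : W,
      c * ω (X u) u' + c * ω u (X u') + c * c * ω (X u) (X u') = 0 := by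
    intro c u u'
    have h := Fiso c u u'
    simp only [map_add, map_smul, LinearMap.add_apply, LinearMap.smul_apply,
      smul_eq_mul] at h
    linear_combination h
  have Fiso0 : ∀ u u' : W, ω (X u) (X u') = 0 := by
    intro u u'
    have h1 := Fq 1 u u'
    have h2 := Fq a0 u u'
    have h3 : (a0 * (1 - a0)) * ω (X u) (X u') = 0 := by
      linear_combination a0 * h1 - h2
    rcases mul_eq_zero.mp h3 with h | h
    · exfalso
      rcases mul_eq_zero.mp h with h | h
      · exact ha00 h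
      · exact ha01 (sub_eq_zero.mp h).symm
    · exact h
  -- a nonzero vector `a = X a1` of the image
  obtain ⟨a1, ha1⟩ : ∃ a1 : W, X a1 ≠ 0 := by
    by_contra hcon
    apply hX0
    apply LinearMap.ext
    intro u
    by_contra hu
    exact hcon ⟨u, hu⟩
  set a : W := X a1 with ha
  -- the element `z = 1 ⊗ (symplectic transvection with centre a)`
  set t : W ≃ₗ[F] W := stv ω halt a 1 with ht
  have htS : t ∈ isoGroup ω := stv_mem_isoGroup ω halt a 1
  have htapp : ∀ u : W, t u = u + (ω u a) • a := by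
    intro u
    rw [ht, stv_apply, one_mul]
  have hzM : oE t ∈ M := hM.oE_mem t htS
  -- `z` fixes `im X × im X`
  have hzfix : ∀ u u' : W, oE t (X u, X u') = (X u, X u') := by
    intro u u'
    have hXa : ∀ v : W, ω (X v) a = 0 := fun v => by rw [ha]; exact Fiso0 v a1
    rw [oE_apply]
    simp only [htapp, hXa, zero_smul, add_zero]
  -- `(z - 1) x ∈ im X × im X`
  have hzim : ∀ x : W × W, oE t x = x + (X ((ω x.1 a) • a1), X ((ω x.2 a) • a1)) := by
    intro x
    rw [oE_apply]
    ext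
    · simp only [htapp, map_smul, Prod.fst_add, ← ha]
    · simp only [htapp, map_smul, Prod.snd_add, ← ha]
  -- `g⁻¹ (v, 0) ∈ im X × im X`
  have hginv : ∀ v : W, ∃ u u' : W, g⁻¹ (v, 0) = (X u, X u') := by
    intro v
    refine ⟨(g⁻¹ (0, v)).1, (g⁻¹ (0, v)).2, ?_⟩
    have h := F1 (g⁻¹ (0, v)).1 (g⁻¹ (0, v)).2
    rw [Prod.mk.eta, apply_inv_apply'] at h
    rw [← h, inv_apply_apply']
  -- the conjugate `k = g z g⁻¹`
  set k : (W × W) ≃ₗ[F] (W × W) := g * oE t * g⁻¹ with hk
  have hkM : k ∈ M := M.mul_mem (M.mul_mem hg hzM) (M.inv_mem hg)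
  have hk1 : ∀ v : W, k (v, 0) = (v, 0) := by
    intro v
    obtain ⟨u, u', huu⟩ := hginv v
    rw [hk, LinearEquiv.mul_apply, LinearEquiv.mul_apply, huu, hzfix, ← huu, apply_inv_apply']
  have hk2 : ∀ x : W × W, (k x).2 = x.2 := by
    intro x
    rw [hk, LinearEquiv.mul_apply, LinearEquiv.mul_apply, hzim, map_add, apply_inv_apply', F1]
    simp
  -- `k = ux S`
  set S : W →ₗ[F] W := (LinearMap.fst F W W) ∘ₗ (k : (W × W) →ₗ[F] (W × W)) ∘ₗ (LinearMap.inr F W W)
    with hS
  have hSapp : ∀ u' : W, S u' = (k (0, u')).1 := fun u' => rfl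
  have hkux : k = ux S := by
    apply LinearEquiv.ext
    rintro ⟨u, u'⟩
    have e : ((u, u') : W × W) = (u, 0) + (0, u') := by simp
    rw [e, map_add, hk1, ux_apply]
    ext
    · simp only [Prod.fst_add, hSapp]
      simp
    · have := hk2 (0, u')
      simp only [Prod.snd_add, this]
  have hSM : ux S ∈ M := hkux ▸ hkM
  obtain ⟨c', hc'⟩ := hR S (isAltMap_of_ux_mem ω S (hM.le_oG hSM)) hSM
  -- `z - 1 = c' (X × X)`
  have hzX : ∀ u u' : W, oE t (u, u') = (u, u') + c' • (X u, X u') := by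
    intro u u'
    have h1 : oE t (u, u') = g⁻¹ (k (g (u, u'))) := by
      rw [hk, LinearEquiv.mul_apply, LinearEquiv.mul_apply, inv_apply_apply', inv_apply_apply']
    rw [h1, hkux, hc', ux_apply]
    have e2 : ((g (u, u')).1 + (c' • (LinearMap.id : W →ₗ[F] W)) (g (u, u')).2, (g (u, u')).2) =
        g (u, u') + c' • ((g (u, u')).2, (0 : W)) := by
      ext <;> simp
    rw [e2, ← F1, map_add, map_smul, inv_apply_apply', inv_apply_apply']
  have hkey : ∀ u : W, (ω u a) • a = c' • X u := by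
    intro u
    have h := congrArg Prod.fst (hzX u 0)
    rw [oE_apply] at h
    simp only [htapp, Prod.fst_add, Prod.smul_fst] at h
    exact add_left_cancel h
  -- a vector `u0` with `ω u0 a ≠ 0`
  obtain ⟨u0, hu0'⟩ : ∃ u0 : W, ω u0 a ≠ 0 := by
    by_contra hcon
    push Not at hcon
    exact ha1 (hN.2 a hcon)
  by_cases hc0 : c' = 0
  · have h := hkey u0
    rw [hc0, zero_smul] at h
    rcases smul_eq_zero.mp h with h | h
    · exact hu0' h
    · exact ha1 h
  -- `c' ≠ 0`: `X` has rank one, but `ker X ≤ im X`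
  have hXu : ∀ u : W, X u = (c'⁻¹ * (ω u a)) • a := by
    intro u
    rw [mul_smul, hkey, smul_smul, inv_mul_cancel₀ hc0, one_smul]
  -- `ker X ≤ span {a}`
  have hker : ∀ u : W, X u = 0 → ∃ l : F, u = l • a := by
    intro u hu
    have h := F1 u 0
    rw [hu, map_zero] at h
    have h0 : (g (u, 0)).2 = 0 := by
      have : g ((0 : W), (0 : W)) = 0 := map_zero g
      rw [this] at h
      exact (congrArg Prod.fst h).symm
    obtain ⟨w, w', hww⟩ := hginv (g (u, 0)).1
    have e : ((g (u, 0)).1, (0 : W)) = g (u, 0) := Prod.ext rfl h0.symm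
    rw [e, inv_apply_apply'] at hww
    have hu' : u = X w := congrArg Prod.fst hww
    exact ⟨c'⁻¹ * (ω w a), by rw [hu', hXu]⟩
  -- dimension count
  let f : W →ₗ[F] F := ω.flip a
  have hfapp : ∀ u, f u = ω u a := fun u => rfl
  have hle : LinearMap.ker f ≤ Submodule.span F {a} := by
    intro u hu
    have hu' : ω u a = 0 := by rw [← hfapp]; exact LinearMap.mem_ker.mp hu
    obtain ⟨l, hl⟩ := hker u (by rw [hXu, hu', mul_zero, zero_smul])
    rw [hl]
    exact Submodule.smul_mem _ _ (Submodule.mem_span_singleton_self a)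
  have h1 : finrank F (LinearMap.ker f) ≤ 1 :=
    (Submodule.finrank_mono hle).trans (finrank_span_singleton ha1).le
  have h2 : finrank F (LinearMap.range f) + finrank F (LinearMap.ker f) = finrank F W :=
    LinearMap.finrank_range_add_finrank_ker f
  have h4 : finrank F (LinearMap.range f) ≤ 1 := by
    have := Submodule.finrank_le (LinearMap.range f)
    rwa [finrank_self] at this
  omega

end Cfsg.Agent.Lib.Helper93_T2O_NEXCO
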