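import Mathlib
import Cfsg.Agent.Lib.Helper67_T2ODefs
import Cfsg.Agent.Lib.Helper94_OrthNondeg
import Cfsg.Agent.Lib.Helper82_T2_KR
import Cfsg.Agent.Lib.Helper9_T2_BR
import Cfsg.Agent.Lib.Helper78_UT2_NEXA

set_option autoImplicit false
set_option linter.unusedSectionVars false
set_option linter.unusedVariables false

/-!
# TENS2O package NEXBO (architect helper67, formaliser helper9; twin of `Helper78_UT2_NEXB`)

A family `1 + c n''` (all `c`) of the shape of NEXA, LINEAR in `c`: `n''` is `y₀ • n`
(`n (u, u') = (u', 0)`) or `X × X` with `X ≠ 0`, `X² = 0`.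
-/

open Module
open Cfsg.Agent.Lib.Helper94_Symp Cfsg.Agent.Lib.Helper94_OrthSmall
  Cfsg.Agent.Lib.Helper94_OrthSiegel Cfsg.Agent.Lib.Helper94_OrthNondeg
  Cfsg.Agent.Lib.Helper67_Tens2Defs Cfsg.Agent.Lib.Helper67_T2ODefs

namespace Cfsg.Agent.Lib.Helper9_T2O_NEXBO

variable {F W : Type*} [Field F] [Finite F] [AddCommGroup W] [Module F W] [FiniteDimensional F W]
variable {ω : LinearMap.BilinForm F W}

/-- NEXBO : a family `1 + c n''` (all `c`) of the NEXA shape, LINEAR in `c`: `n''` is `y₀ • n` or
`X × X` -/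
theorem nex_linear (hq : ∃ a : F, a ≠ 0 ∧ a ≠ 1)
    (n'' : (W × W) →ₗ[F] (W × W))
    (hfam : ∀ c : F, ∃ (τ : F) (N : W →ₗ[F] W), (∀ u, N (N u) = 0) ∧
      (∀ u, (2 * τ) • N u = 0) ∧
      ∀ u u' : W, (u, u') + c • n'' (u, u') = (u + N u + τ • (u' + N u'), u' + N u')) :
    (∃ y₀ : F, ∀ u u' : W, n'' (u, u') = (y₀ • u', 0)) ∨
    (∃ X : W →ₗ[F] W, X ≠ 0 ∧ (∀ u, X (X u) = 0) ∧ ∀ u u' : W, n'' (u, u') = (X u, X u')) := by
  obtain ⟨a, ha0, ha1⟩ := hq
  -- the blocks of `n''`
  set X : W →ₗ[F] W := (LinearMap.fst F W W) ∘ₗ n'' ∘ₗ (LinearMap.inl F W W) with hX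
  set Y : W →ₗ[F] W := (LinearMap.fst F W W) ∘ₗ n'' ∘ₗ (LinearMap.inr F W W) with hY
  have hXa : ∀ u : W, X u = (n'' (u, 0)).1 := fun u => rfl
  have hYa : ∀ u : W, Y u = (n'' (0, u)).1 := fun u => rfl
  -- the consequences of the shape for one `c`
  have key : ∀ c : F, ∃ τ : F,
      (∀ u : W, c • (n'' (u, 0)).2 = 0) ∧
      (∀ u : W, c • (n'' (0, u)).2 = c • X u) ∧
      (∀ u : W, (c * c) • X (X u) = 0) ∧
      (∀ u : W, c • Y u = τ • (u + c • X u)) := by
    intro c
    obtain ⟨τ, N, hNN, -, hsh⟩ := hfam c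
    have hN : ∀ u : W, N u = c • X u := by
      intro u
      have := congrArg Prod.fst (hsh u 0)
      simp only [Prod.fst_add, Prod.smul_fst, map_zero, add_zero, smul_zero] at this
      rw [hXa]
      exact (add_left_cancel this).symm
    refine ⟨τ, ?_, ?_, ?_, ?_⟩
    · intro u
      have := congrArg Prod.snd (hsh u 0)
      simp only [Prod.snd_add, Prod.smul_snd, map_zero, add_zero, zero_add] at this
      exact this
    · intro u
      have := congrArg Prod.snd (hsh 0 u)
      simp only [Prod.snd_add, Prod.smul_snd] at this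
      rw [← hN]
      exact add_left_cancel this
    · intro u
      have := hNN u
      rw [hN, hN, map_smul, smul_smul] at this
      exact this
    · intro u
      have := congrArg Prod.fst (hsh 0 u)
      simp only [Prod.fst_add, Prod.smul_fst, map_zero, add_zero, zero_add] at this
      rw [hYa, this, hN]
  -- the element `c = 1`
  obtain ⟨τ1, k1, k2, k3, k4⟩ := key 1
  have h20 : ∀ u : W, (n'' (u, 0)).2 = 0 := by
    intro u
    have := k1 u
    rwa [one_smul] at this
  have h22 : ∀ u : W, (n'' (0, u)).2 = X u := by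
    intro u
    have := k2 u
    rwa [one_smul, one_smul] at this
  have hXX : ∀ u : W, X (X u) = 0 := by
    intro u
    have := k3 u
    rwa [one_mul, one_smul] at this
  have k4' : ∀ u : W, Y u = τ1 • (u + X u) := by
    intro u
    have := k4 u
    rwa [one_smul, one_smul] at this
  have hform : ∀ u u' : W, n'' (u, u') = (X u + Y u', X u') := by
    intro u u'
    have e : ((u, u') : W × W) = (u, 0) + (0, u') := by simp
    rw [e, map_add]
    apply Prod.ext
    · simp only [Prod.fst_add]
      rw [← hXa, ← hYa]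
    · simp only [Prod.snd_add]
      rw [h20, h22, zero_add]
  by_cases hX0 : X = 0
  · left
    refine ⟨τ1, ?_⟩
    intro u u'
    rw [hform, hX0]
    simp only [LinearMap.zero_apply, zero_add]
    have := k4' u'
    rw [hX0] at this
    simp only [LinearMap.zero_apply, add_zero] at this
    rw [this]
  · right
    refine ⟨X, hX0, hXX, ?_⟩
    -- a vector not killed by `X`
    obtain ⟨w, hw⟩ : ∃ w : W, X w ≠ 0 := by
      by_contra hcon
      apply hX0
      apply LinearMap.ext
      intro w
      by_contra hw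
      exact hcon ⟨w, hw⟩
    -- the second element
    obtain ⟨τ2, -, -, -, m4⟩ := key a
    -- the comparison
    have hcmp : ∀ u : W, (a * τ1 - τ2) • u + (a * τ1 - τ2 * a) • X u = 0 := by
      intro u
      have e1 := k4' u
      have e2 := m4 u
      rw [e1] at e2
      have : a • τ1 • (u + X u) - τ2 • (u + a • X u) = 0 := by rw [e2]; abel
      rw [← this]
      module
    have hτ2 : τ2 = a * τ1 := by
      have := hcmp (X w)
      rw [hXX, smul_zero, add_zero] at this
      rcases smul_eq_zero.mp this with h | h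
      · exact (sub_eq_zero.mp h).symm
      · exact absurd h hw
    have hτ1 : τ1 = 0 := by
      have := hcmp w
      rw [hτ2, sub_self, zero_smul, zero_add] at this
      rcases smul_eq_zero.mp this with h | h
      · have h' : a * (1 - a) * τ1 = 0 := by linear_combination h
        rcases mul_eq_zero.mp h' with h'' | h''
        · rcases mul_eq_zero.mp h'' with h3 | h3
          · exact absurd h3 ha0
          · exact absurd (sub_eq_zero.mp h3).symm ha1
        · exact h''
      · exact absurd h hw
    have hY0 : ∀ u : W, Y u = 0 := by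
      intro u
      rw [k4' u, hτ1, zero_smul]
    intro u u'
    rw [hform, hY0, add_zero]

end Cfsg.Agent.Lib.Helper9_T2O_NEXBO
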