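import Mathlib
import Cfsg.Prelude.Def_GeometricClasses
import Cfsg.Agent.Lib.Helper67_Tens2Defs

/-!
# TENS2 package SS (architect helper67): `{S | ux S ∈ M}` is closed under scalars and under `O(β)`
-/

set_option autoImplicit false
set_option linter.unusedSectionVars false
set_option linter.unusedVariables false

open Module
open Cfsg.Agent.Lib.Helper94_Symp Cfsg.Agent.Lib.Helper67_Tens2Defs

namespace Cfsg.Agent.Lib.Helper82_T2_SS

/-- SS : the set `{S | ux S ∈ M}` is closed under all scalars -/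
theorem ss_smul {F B : Type*} [Field F] [AddCommGroup B] [Module F B]
    (β : LinearMap.BilinForm F B) (h2 : (2 : F) ≠ 0)
    (M : Subgroup ((B × B) ≃ₗ[F] (B × B))) (hM : HypM β M) (S : B →ₗ[F] B) (hS : ux S ∈ M)
    (c : F) : ux (c • S) ∈ M := by
  have hsq : ∀ a : F, ux ((a * a) • S) ∈ M := by
    intro a
    by_cases ha : a = 0
    · rw [ha, mul_zero, zero_smul, ux_zero]
      exact M.one_mem
    · have h1 := M.mul_mem (M.mul_mem (hM.hE_mem (Units.mk0 a ha)) hS)
        (M.inv_mem (hM.hE_mem (Units.mk0 a ha)))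
      rw [hE_conj_ux] at h1
      exact h1
  have hc : c • S = (((c + 1) / 2) * ((c + 1) / 2)) • S + -((((c - 1) / 2) * ((c - 1) / 2)) • S) := by
    rw [← sub_eq_add_neg, ← sub_smul]
    congr 1
    field_simp
    ring
  rw [hc, ← ux_mul, ← ux_inv]
  exact M.mul_mem (hsq _) (M.inv_mem (hsq _))

/-- SS : the set `{S | ux S ∈ M}` is closed under conjugation by `O(β)` -/
theorem ss_conj {F B : Type*} [Field F] [AddCommGroup B] [Module F B]
    (β : LinearMap.BilinForm F B)
    (M : Subgroup ((B × B) ≃ₗ[F] (B × B))) (hM : HypM β M) (S : B →ₗ[F] B) (hS : ux S ∈ M)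
    (Q : B ≃ₗ[F] B) (hQ : Q ∈ isoGroup β) :
    ux ((Q : B →ₗ[F] B) ∘ₗ S ∘ₗ (Q.symm : B →ₗ[F] B)) ∈ M := by
  rw [← oE_conj_ux]
  exact M.mul_mem (M.mul_mem (hM.oE_mem Q hQ) hS) (M.inv_mem (hM.oE_mem Q hQ))

end Cfsg.Agent.Lib.Helper82_T2_SS
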