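import Mathlib
import Cfsg.Prelude.Def_GeometricClasses
import Cfsg.Agent.Lib.Helper67_Tens2Defs
import Cfsg.Agent.Lib.Helper82_T2_SS

set_option autoImplicit false
set_option linter.unusedSectionVars false
set_option linter.unusedVariables false

/-!
# TENS2 package RS1a, hypothesis form (helper43 for helper67): a non-scalar self-adjoint `S` with `ux S ∈ M` yields
`ux (tw β w y) ∈ M` for a nonsingular `w` and a nonzero `y ⊥ w`.
-/

open Module
open Cfsg.Agent.Lib.Helper94_Symp Cfsg.Agent.Lib.Helper67_Tens2Defs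

namespace Cfsg.Agent.Lib.Helper43_T2_RS1aAux

theorem reflE_symm_apply {F B : Type*} [Field F] [AddCommGroup B] [Module F B]
    (β : LinearMap.BilinForm F B) (y v : B) : (reflE β y).symm v = reflE β y v := rfl

/-- the key identity: `r_w S r_w - S = -(2/n_w) tw β w y0` -/
theorem conj_sub_eq {F B : Type*} [Field F] [AddCommGroup B] [Module F B]
    (β : LinearMap.BilinForm F B) (hs : ∀ u v, β u v = β v u)
    (S : B →ₗ[F] B) (hS : ∀ u v, β (S u) v = β u (S v)) (w : B) (hw : β w w ≠ 0) (h2 : (2 : F) ≠ 0) :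
    (-(β w w) / 2) • (((reflE β w : B ≃ₗ[F] B) : B →ₗ[F] B) ∘ₗ S ∘ₗ
        ((reflE β w).symm : B →ₗ[F] B) + -S)
      = tw β w (S w - (β (S w) w * (β w w)⁻¹) • w) := by
  apply LinearMap.ext
  intro v
  simp only [LinearMap.smul_apply, LinearMap.add_apply, LinearMap.comp_apply, LinearEquiv.coe_coe,
    reflE_symm_apply, reflE_apply, LinearMap.neg_apply, tw_apply, map_sub, map_smul,
    smul_eq_mul]
  rw [hS v w]
  match_scalars <;> field_simp <;> ring

/-- RS1a in hypothesis form: `heig` is the conclusion of `eig_scalar` (package EIG) for `D = ⊤`. -/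
theorem rs1a_aux {F B : Type*} [Field F] [AddCommGroup B] [Module F B]
    (β : LinearMap.BilinForm F B) (hs : ∀ u v, β u v = β v u) (h2 : (2 : F) ≠ 0)
    (M : Subgroup ((B × B) ≃ₗ[F] (B × B))) (hM : HypM β M)
    (S : B →ₗ[F] B) (hS : ∀ u v, β (S u) v = β u (S v)) (hSM : ux S ∈ M)
    (hns : ¬ ∃ c : F, S = c • (LinearMap.id : B →ₗ[F] B))
    (heig : (∀ y : B, β y y ≠ 0 → ∃ l : F, S y = l • y) → ∃ c : F, ∀ u : B, S u = c • u) :
    ∃ w y : B, β w w ≠ 0 ∧ β w y = 0 ∧ y ≠ 0 ∧ ux (tw β w y) ∈ M := by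
  classical
  -- a nonsingular vector that is not an eigenvector
  have hex : ∃ w : B, β w w ≠ 0 ∧ ¬ ∃ l : F, S w = l • w := by
    by_contra hcon
    push Not at hcon
    apply hns
    obtain ⟨c, hc⟩ := heig hcon
    refine ⟨c, ?_⟩
    apply LinearMap.ext
    intro u
    rw [hc u]
    rfl
  obtain ⟨w, hw, hne⟩ := hex
  refine ⟨w, S w - (β (S w) w * (β w w)⁻¹) • w, hw, ?_, ?_, ?_⟩
  · rw [map_sub, map_smul, smul_eq_mul, hs w (S w)]
    field_simp
    ring
  · intro h0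
    apply hne
    exact ⟨β (S w) w * (β w w)⁻¹, sub_eq_zero.mp h0⟩
  · have h1 := Cfsg.Agent.Lib.Helper82_T2_SS.ss_conj β M hM S hSM (reflE β w)
      (reflE_mem_isoGroup β hs w)
    have h4 : ux (((reflE β w : B ≃ₗ[F] B) : B →ₗ[F] B) ∘ₗ S ∘ₗ
        ((reflE β w).symm : B →ₗ[F] B) + -S) ∈ M := by
      rw [← ux_mul, ← ux_inv]
      exact M.mul_mem h1 (M.inv_mem hSM)
    have h5 := Cfsg.Agent.Lib.Helper82_T2_SS.ss_smul β h2 M hM _ h4 (-(β w w) / 2)
    rw [conj_sub_eq β hs S hS w hw h2] at h5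
    exact h5

end Cfsg.Agent.Lib.Helper43_T2_RS1aAux
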