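import Mathlib
import Cfsg.Prelude.Def_GeometricClasses
import Cfsg.Agent.Lib.Helper67_Tens2Defs
import Cfsg.Agent.Lib.Helper43_T2_RS1aAux
import Cfsg.Agent.Lib.Helper25_T2_EIG

set_option autoImplicit false
set_option linter.unusedSectionVars false
set_option linter.unusedVariables false

/-!
# TENS2 package RS1a (helper43 for helper67): a non-scalar self-adjoint `S` with `ux S ∈ M` yields
`ux (tw β w y) ∈ M` for a nonsingular `w` and a nonzero `y ⊥ w`.
-/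

open Module
open Cfsg.Agent.Lib.Helper94_Symp Cfsg.Agent.Lib.Helper67_Tens2Defs

namespace Cfsg.Agent.Lib.Helper43_T2_RS1a

/-- RS1a : a non-scalar `S` with `ux S ∈ M` yields `ux (tw β w y) ∈ M` -/
theorem rs1a {F B : Type*} [Field F] [Fintype F] [AddCommGroup B] [Module F B]
    [FiniteDimensional F B] (β : LinearMap.BilinForm F B) (hs : ∀ u v, β u v = β v u)
    (hn : β.Nondegenerate) (h2 : (2 : F) ≠ 0) (h3 : 3 ≤ finrank F B)
    (M : Subgroup ((B × B) ≃ₗ[F] (B × B))) (hM : HypM β M)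
    (S : B →ₗ[F] B) (hS : ∀ u v, β (S u) v = β u (S v)) (hSM : ux S ∈ M)
    (hns : ¬ ∃ c : F, S = c • (LinearMap.id : B →ₗ[F] B)) :
    ∃ w y : B, β w w ≠ 0 ∧ β w y = 0 ∧ y ≠ 0 ∧ ux (tw β w y) ∈ M := by
  refine Cfsg.Agent.Lib.Helper43_T2_RS1aAux.rs1a_aux β hs h2 M hM S hS hSM hns ?_
  intro hcon
  have hD : ∀ u ∈ (⊤ : Submodule F B), (∀ x ∈ (⊤ : Submodule F B), β u x = 0) → u = 0 := by
    intro u _ hu
    exact hn.1 u (fun x => hu x Submodule.mem_top)
  have h3' : 3 ≤ finrank F (⊤ : Submodule F B) := by rw [finrank_top]; exact h3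
  obtain ⟨c, hc⟩ := Cfsg.Agent.Lib.Helper25_T2_EIG.eig_scalar β hs h2 ⊤ hD h3' S (fun y _ hy => hcon y hy)
  exact ⟨c, fun u => hc u Submodule.mem_top⟩

end Cfsg.Agent.Lib.Helper43_T2_RS1a
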