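import Mathlib
import Cfsg.Agent.Lib.Helper94_OrthNondeg
import Cfsg.Agent.Lib.Helper94_OrthDouble

/-!
# TENS2 package SING (architect helper67)

A nondegenerate subspace of dimension at least three (symmetric form over a finite field of odd order)
contains a nonzero singular vector.
-/

set_option autoImplicit false

namespace Cfsg.Agent.Lib.Helper89_T2_SING

open Module Polynomial
open Cfsg.Agent.Lib.Helper94_OrthNondeg Cfsg.Agent.Lib.Helper94_OrthDouble

/-- ternary diagonal forms over a finite field of odd order are isotropic -/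
theorem exists_ternary {F : Type*} [Field F] [Fintype F] (h2 : (2 : F) ≠ 0) {a b c : F}
    (ha : a ≠ 0) (hb : b ≠ 0) : ∃ x y : F, a * (x * x) + b * (y * y) + c = 0 := by
  have hodd : Fintype.card F % 2 = 1 := by
    rcases Nat.even_or_odd (Fintype.card F) with h | h
    · exfalso
      have hc : ringChar F = 2 := (FiniteField.even_card_iff_char_two).mpr (Nat.even_iff.mp h)
      have h3 := ringChar.Nat.cast_ringChar (R := F)
      rw [hc] at h3
      apply h2
      exact_mod_cast h3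
    · exact Nat.odd_iff.mp h
  obtain ⟨x, y, hxy⟩ := FiniteField.exists_root_sum_quadratic
    (f := C a * X ^ 2 + C 0 * X + C c) (g := C b * X ^ 2 + C 0 * X + C 0)
    (degree_quadratic ha) (degree_quadratic hb) hodd
  refine ⟨x, y, ?_⟩
  simp only [eval_add, eval_mul, eval_C, eval_pow, eval_X] at hxy
  linear_combination hxy

theorem exists_singular {F B : Type*} [Field F] [Fintype F] [AddCommGroup B] [Module F B]
    [FiniteDimensional F B] (β : LinearMap.BilinForm F B) (hs : ∀ u v, β u v = β v u)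
    (h2 : (2 : F) ≠ 0) (D : Submodule F B) (hD : ∀ u ∈ D, (∀ w ∈ D, β u w = 0) → u = 0)
    (h3 : 3 ≤ finrank F D) : ∃ ε ∈ D, ε ≠ 0 ∧ β ε ε = 0 := by
  obtain ⟨Q, hQ⟩ : ∃ Q : B → F, Q = fun v => β v v := ⟨_, rfl⟩
  obtain ⟨B2, hB2⟩ : ∃ B2 : LinearMap.BilinForm F B, B2 = (2 : F) • β := ⟨_, rfl⟩
  have hB2a : ∀ u v, B2 u v = 2 * β u v := by
    intro u v
    rw [hB2]
    simp
  have hQa : ∀ v, Q v = β v v := by
    intro v
    rw [hQ]
  have hQs : ∀ (c : F) (v : B), Q (c • v) = c * c * Q v := by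
    intro c v
    rw [hQa, hQa]
    simp only [map_smul, LinearMap.smul_apply, smul_eq_mul]
    ring
  have hQp : ∀ u v : B, Q (u + v) = Q u + Q v + B2 u v := by
    intro u v
    rw [hQa, hQa, hQa, hB2a]
    simp only [map_add, LinearMap.add_apply, hs v u]
    ring
  have hAnd : ∀ a ∈ D, a ≠ 0 → ∃ x ∈ D, B2 x a ≠ 0 := by
    intro a ha ha0
    by_contra hcon
    push Not at hcon
    apply ha0
    apply hD a ha
    intro w hw
    have := hcon w hw
    rw [hB2a] at this
    rw [hs a w]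
    exact (mul_eq_zero.mp this).resolve_left h2
  have hD0 : D ≠ ⊥ := by
    intro h
    rw [h, finrank_bot] at h3
    omega
  obtain ⟨e1, he1, hQe1⟩ := exists_nonsing_in hQs hQp h2 D hAnd hD0
  obtain ⟨hD1nd, hfr1⟩ := nondeg_step hQs hQp h2 D hAnd he1 hQe1
  have hD10 : (D ⊓ LinearMap.ker (B2.flip e1) : Submodule F B) ≠ ⊥ := by
    intro h
    rw [h, finrank_bot] at hfr1
    omega
  obtain ⟨e2, he2, hQe2⟩ := exists_nonsing_in hQs hQp h2 _ hD1nd hD10
  obtain ⟨hD2nd, hfr2⟩ := nondeg_step hQs hQp h2 _ hD1nd he2 hQe2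
  have hD20 : (D ⊓ LinearMap.ker (B2.flip e1) ⊓ LinearMap.ker (B2.flip e2) : Submodule F B) ≠ ⊥ := by
    intro h
    rw [h, finrank_bot] at hfr2
    omega
  obtain ⟨e3, he3, hQe3⟩ := exists_nonsing_in hQs hQp h2 _ hD2nd hD20
  have hz : ∀ u v, B2 u v = 0 → β u v = 0 := by
    intro u v h
    rw [hB2a] at h
    exact (mul_eq_zero.mp h).resolve_left h2
  have h21 : β e2 e1 = 0 := hz _ _ (mem_ker_flip.mp he2.2)
  have h31 : β e3 e1 = 0 := hz _ _ (mem_ker_flip.mp he3.1.2)
  have h32 : β e3 e2 = 0 := hz _ _ (mem_ker_flip.mp he3.2)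
  rw [hQa] at hQe1 hQe2 hQe3
  obtain ⟨x, y, hxy⟩ := exists_ternary h2 (c := β e3 e3) hQe1 hQe2
  have hβε : β (x • e1 + y • e2 + e3) e3 = β e3 e3 := by
    simp only [map_add, map_smul, LinearMap.add_apply, LinearMap.smul_apply, smul_eq_mul,
      hs e1 e3, hs e2 e3, h31, h32]
    ring
  refine ⟨x • e1 + y • e2 + e3,
    D.add_mem (D.add_mem (D.smul_mem _ he1) (D.smul_mem _ he2.1)) he3.1.1, ?_, ?_⟩
  · intro h0
    rw [h0] at hβε
    apply hQe3
    rw [← hβε]
    simp
  · simp only [map_add, map_smul, LinearMap.add_apply, LinearMap.smul_apply, smul_eq_mul,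
      hs e1 e3, hs e2 e3, hs e1 e2, h31, h32, h21]
    linear_combination hxy

end Cfsg.Agent.Lib.Helper89_T2_SING
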