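import Mathlib
import Cfsg.Prelude.Def_GeometricClasses
import Cfsg.Agent.Lib.Helper67_Tens2Defs
import Cfsg.Agent.Lib.Helper82_T2_SS
import Cfsg.Agent.Lib.Helper89_T2_SING

set_option autoImplicit false
set_option linter.unusedSectionVars false
set_option linter.unusedVariables false

/-!
# TENS2 package RS1b (helper43 for helper67): `ux (tw β w y) ∈ M` (`w` nonsingular, `0 ≠ y ⊥ w`) yields a
symplectic transvection `ux (c • rk1 β ε) ∈ M`, by two Siegel conjugations.
-/

open Module
open Cfsg.Agent.Lib.Helper94_Symp Cfsg.Agent.Lib.Helper67_Tens2Defs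

namespace Cfsg.Agent.Lib.Helper43_T2_RS1b

/-- conjugating `tw β w y` by an isometry -/
theorem conj_tw {F B : Type*} [Field F] [AddCommGroup B] [Module F B]
    (β : LinearMap.BilinForm F B) (Q : B ≃ₗ[F] B) (hQ : Q ∈ isoGroup β) (w y : B) :
    (Q : B →ₗ[F] B) ∘ₗ tw β w y ∘ₗ (Q.symm : B →ₗ[F] B) = tw β (Q w) (Q y) := by
  apply LinearMap.ext
  intro v
  simp only [LinearMap.comp_apply, LinearEquiv.coe_coe, tw_apply, map_add, map_smul]
  have h1 : β (Q.symm v) y = β v (Q y) := by
    have := hQ (Q.symm v) y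
    rw [LinearEquiv.apply_symm_apply] at this
    exact this.symm
  have h2 : β (Q.symm v) w = β v (Q w) := by
    have := hQ (Q.symm v) w
    rw [LinearEquiv.apply_symm_apply] at this
    exact this.symm
  rw [h1, h2]

theorem tw_add_right {F B : Type*} [Field F] [AddCommGroup B] [Module F B]
    (β : LinearMap.BilinForm F B) (w y y' : B) : tw β w (y + y') = tw β w y + tw β w y' := by
  apply LinearMap.ext
  intro v
  simp only [tw_apply, LinearMap.add_apply, map_add, add_smul, smul_add]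
  abel

theorem tw_add_left {F B : Type*} [Field F] [AddCommGroup B] [Module F B]
    (β : LinearMap.BilinForm F B) (w w' y : B) : tw β (w + w') y = tw β w y + tw β w' y := by
  apply LinearMap.ext
  intro v
  simp only [tw_apply, LinearMap.add_apply, map_add, add_smul, smul_add]
  abel

theorem tw_self {F B : Type*} [Field F] [AddCommGroup B] [Module F B]
    (β : LinearMap.BilinForm F B) (y : B) : tw β y y = (2 : F) • rk1 β y := by
  apply LinearMap.ext
  intro v
  rw [tw_apply, LinearMap.smul_apply, rk1_apply, two_smul]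

/-- if `ux (S + S') ∈ M` and `ux S ∈ M` then `ux S' ∈ M` -/
theorem ux_mem_of_add {F B : Type*} [Field F] [AddCommGroup B] [Module F B]
    (M : Subgroup ((B × B) ≃ₗ[F] (B × B))) (S S' : B →ₗ[F] B) (h : ux (S + S') ∈ M)
    (hS : ux S ∈ M) : ux S' ∈ M := by
  have h1 : ux S' = (ux S)⁻¹ * ux (S + S') := by
    rw [ux_inv, ux_mul, neg_add_cancel_left]
  rw [h1]
  exact M.mul_mem (M.inv_mem hS) h

/-- Step 2: from a singular `y' ⊥ w` to a transvection -/
theorem step2 {F B : Type*} [Field F] [AddCommGroup B] [Module F B]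
    (β : LinearMap.BilinForm F B) (hs : ∀ u v, β u v = β v u) (h2 : (2 : F) ≠ 0)
    (M : Subgroup ((B × B) ≃ₗ[F] (B × B))) (hM : HypM β M)
    (w y' : B) (hw : β w w ≠ 0) (hwy : β w y' = 0) (hy' : β y' y' = 0)
    (h : ux (tw β w y') ∈ M) : ux ((2 : F) • rk1 β y') ∈ M := by
  have hz : β y' ((β w w)⁻¹ • w) = 0 := by
    rw [map_smul, smul_eq_mul, hs y' w, hwy, mul_zero]
  have hρ := siegel_mem_isoGroup β hs h2 y' ((β w w)⁻¹ • w) hy' hz
  have h1 := Cfsg.Agent.Lib.Helper82_T2_SS.ss_conj β M hM _ h _ hρ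
  rw [conj_tw β _ hρ] at h1
  have e1 : siegel β hs h2 y' ((β w w)⁻¹ • w) hy' hz w = w + y' := by
    rw [siegel_apply]
    simp only [map_smul, smul_eq_mul, hwy, mul_zero, zero_smul, sub_zero]
    rw [inv_mul_cancel₀ hw, one_smul]
  have e2 : siegel β hs h2 y' ((β w w)⁻¹ • w) hy' hz y' = y' := by
    rw [siegel_apply]
    simp only [map_smul, smul_eq_mul, hy', hs y' w, hwy, mul_zero, zero_smul, sub_zero, add_zero]
  rw [e1, e2, tw_add_left, tw_self] at h1
  exact ux_mem_of_add M _ _ h1 h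

/-- the subspace `w^⊥ ∩ y^⊥` -/
def perp2 {F B : Type*} [Field F] [AddCommGroup B] [Module F B]
    (β : LinearMap.BilinForm F B) (w y : B) : Submodule F B :=
  LinearMap.ker ((β.flip w).prod (β.flip y))

theorem mem_perp2 {F B : Type*} [Field F] [AddCommGroup B] [Module F B]
    (β : LinearMap.BilinForm F B) (w y u : B) : u ∈ perp2 β w y ↔ β u w = 0 ∧ β u y = 0 := by
  unfold perp2
  rw [LinearMap.mem_ker, LinearMap.prod_apply]
  show (β u w, β u y) = 0 ↔ _
  rw [Prod.mk_eq_zero]

theorem finrank_perp2 {F B : Type*} [Field F] [AddCommGroup B] [Module F B]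
    [FiniteDimensional F B] (β : LinearMap.BilinForm F B) (w y : B) :
    finrank F B ≤ finrank F (perp2 β w y) + 2 := by
  have h1 := LinearMap.finrank_range_add_finrank_ker ((β.flip w).prod (β.flip y))
  have h2 : finrank F (LinearMap.range ((β.flip w).prod (β.flip y))) ≤ 2 := by
    have := Submodule.finrank_le (LinearMap.range ((β.flip w).prod (β.flip y)))
    rw [finrank_prod, finrank_self] at this
    exact this
  unfold perp2
  omega

theorem perp2_nondeg {F B : Type*} [Field F] [AddCommGroup B] [Module F B]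
    (β : LinearMap.BilinForm F B) (hs : ∀ u v, β u v = β v u) (hn : β.Nondegenerate)
    (w y : B) (hw : β w w ≠ 0) (hy : β y y ≠ 0) (hwy : β w y = 0) :
    ∀ u ∈ perp2 β w y, (∀ x ∈ perp2 β w y, β u x = 0) → u = 0 := by
  intro u hu hux
  rw [mem_perp2] at hu
  apply hn.1 u
  intro v
  -- decompose `v`
  set d := v - (β v w * (β w w)⁻¹) • w - (β v y * (β y y)⁻¹) • y with hd
  have hdm : d ∈ perp2 β w y := by
    rw [mem_perp2]
    constructor
    · rw [hd]
      simp only [map_sub, map_smul, LinearMap.sub_apply, LinearMap.smul_apply, smul_eq_mul]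
      rw [hs y w, hwy]
      field_simp
      ring
    · rw [hd]
      simp only [map_sub, map_smul, LinearMap.sub_apply, LinearMap.smul_apply, smul_eq_mul]
      rw [hwy]
      field_simp
      ring
  have hv : v = d + (β v w * (β w w)⁻¹) • w + (β v y * (β y y)⁻¹) • y := by
    rw [hd]; abel
  rw [hv]
  simp only [map_add, map_smul, smul_eq_mul, hu.1, hu.2, mul_zero, add_zero]
  exact hux d hdm

/-- RS1b : `ux (tw β w y) ∈ M` yields a transvection in `M` -/
theorem rs1b {F B : Type*} [Field F] [Fintype F] [AddCommGroup B] [Module F B]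
    [FiniteDimensional F B] (β : LinearMap.BilinForm F B) (hs : ∀ u v, β u v = β v u)
    (hn : β.Nondegenerate) (h2 : (2 : F) ≠ 0) (h5 : 5 ≤ finrank F B)
    (M : Subgroup ((B × B) ≃ₗ[F] (B × B))) (hM : HypM β M)
    (w y : B) (hw : β w w ≠ 0) (hwy : β w y = 0) (hy : y ≠ 0) (h : ux (tw β w y) ∈ M) :
    ∃ ε : B, ε ≠ 0 ∧ β ε ε = 0 ∧ ∃ c : F, c ≠ 0 ∧ ux (c • rk1 β ε) ∈ M := by
  -- Step 1: a singular `y'`
  have hstep1 : ∃ y' : B, y' ≠ 0 ∧ β y' y' = 0 ∧ β w y' = 0 ∧ ux (tw β w y') ∈ M := by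
    by_cases hyy : β y y = 0
    · exact ⟨y, hy, hyy, hwy, h⟩
    · have hD := perp2_nondeg β hs hn w y hw hyy hwy
      have h3 : 3 ≤ finrank F (perp2 β w y) := by
        have := finrank_perp2 β w y
        omega
      obtain ⟨e, heD, he0, hee⟩ := Cfsg.Agent.Lib.Helper89_T2_SING.exists_singular β hs h2 (perp2 β w y) hD h3
      rw [mem_perp2] at heD
      have hz : β e ((β y y)⁻¹ • y) = 0 := by
        rw [map_smul, smul_eq_mul, heD.2, mul_zero]
      have hρ := siegel_mem_isoGroup β hs h2 e ((β y y)⁻¹ • y) hee hz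
      have h1 := Cfsg.Agent.Lib.Helper82_T2_SS.ss_conj β M hM _ h _ hρ
      rw [conj_tw β _ hρ] at h1
      have e1 : siegel β hs h2 e ((β y y)⁻¹ • y) hee hz w = w := by
        rw [siegel_apply]
        simp only [map_smul, smul_eq_mul, hwy, hs w e, heD.1, mul_zero, zero_smul, sub_zero,
          add_zero]
      have e2 : siegel β hs h2 e ((β y y)⁻¹ • y) hee hz y = y + e := by
        rw [siegel_apply]
        simp only [map_smul, smul_eq_mul, hs y e, heD.2, mul_zero, zero_smul, sub_zero]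
        rw [inv_mul_cancel₀ hyy, one_smul]
      rw [e1, e2, tw_add_right] at h1
      refine ⟨e, he0, hee, ?_, ux_mem_of_add M _ _ h1 h⟩
      rw [hs w e]
      exact heD.1
  obtain ⟨y', hy'0, hy'y', hwy', hy'M⟩ := hstep1
  exact ⟨y', hy'0, hy'y', 2, h2, step2 β hs h2 M hM w y' hw hwy' hy'y' hy'M⟩

end Cfsg.Agent.Lib.Helper43_T2_RS1b
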