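import Cfsg.Agent.Lib.Helper43_CyclicDecomp

set_option autoImplicit false

/-!
Every square matrix over a field is similar to its transpose.
-/

namespace Cfsg.Agent.Lib.Helper43_Transpose

open Polynomial
open Cfsg.Agent.Lib.Helper43_CyclicDecomp

universe u

variable {F : Type u} [Field F]

/-- monic normalisation of a polynomial -/
noncomputable def mon (f : F[X]) : F[X] := f * C (leadingCoeff f)⁻¹

theorem mon_monic {f : F[X]} (hf : f ≠ 0) : (mon f).Monic := monic_mul_leadingCoeff_inv hf

theorem mon_dvd_iff {f g : F[X]} (hf : f ≠ 0) : mon f ∣ g ↔ f ∣ g := by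
  have hu : IsUnit (C (leadingCoeff f)⁻¹ : F[X]) :=
    isUnit_C.mpr (isUnit_iff_ne_zero.mpr (inv_ne_zero (leadingCoeff_ne_zero.mpr hf)))
  exact hu.mul_right_dvd

/-- The functional "coefficient of `X^(d-1)` of the remainder mod `f`", `d = deg f`. -/
noncomputable def psi (f : F[X]) : F[X] →ₗ[F] F :=
  (Polynomial.lcoeff F ((mon f).natDegree - 1)).comp (Polynomial.modByMonicHom (mon f))

theorem psi_apply (f g : F[X]) : psi f g = (g %ₘ mon f).coeff ((mon f).natDegree - 1) := rfl

theorem psi_eq_zero_of_dvd {f g : F[X]} (hf : f ≠ 0) (h : f ∣ g) : psi f g = 0 := by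
  rw [psi_apply, (modByMonic_eq_zero_iff_dvd (mon_monic hf)).mpr ((mon_dvd_iff hf).mpr h), coeff_zero]

theorem exists_psi_ne_zero {f g : F[X]} (hf : f ≠ 0) (h : ¬ f ∣ g) :
    ∃ m : ℕ, psi f (X ^ m * g) ≠ 0 := by
  set q := mon f with hq
  have hqm : q.Monic := mon_monic hf
  set r := g %ₘ q with hr
  have hr0 : r ≠ 0 := by
    intro h0
    exact h ((mon_dvd_iff hf).mp ((modByMonic_eq_zero_iff_dvd hqm).mp h0))
  have hdeg : r.degree < q.degree := degree_modByMonic_lt g hqm
  have hk : r.natDegree < q.natDegree := natDegree_lt_natDegree hr0 hdeg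
  refine ⟨q.natDegree - 1 - r.natDegree, ?_⟩
  set m := q.natDegree - 1 - r.natDegree with hm
  have h1 : (X ^ m * g) %ₘ q = (X ^ m * r) %ₘ q := by
    apply modByMonic_eq_of_dvd_sub hqm
    have : g - r = q * (g /ₘ q) := by
      have := modByMonic_add_div g q
      rw [← hr] at this
      linear_combination -this
    rw [← mul_sub, this]
    exact ⟨X ^ m * (g /ₘ q), by ring⟩
  have h2 : (X ^ m * r) %ₘ q = X ^ m * r := by
    rw [modByMonic_eq_self_iff hqm]
    apply degree_lt_degree
    rw [natDegree_X_pow_mul m hr0]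
    omega
  rw [psi_apply, ← hq, h1, h2]
  have : q.natDegree - 1 = r.natDegree + m := by omega
  rw [this, coeff_X_pow_mul]
  exact leadingCoeff_ne_zero.mpr hr0

/-- Over any field, a square matrix is similar to its transpose. -/
theorem isConj_transpose {n : ℕ} (A : Matrix (Fin n) (Fin n) F) : IsConj A A.transpose := by
  classical
  set T : Module.End F (Fin n → F) := Matrix.toLin' A with hT
  obtain ⟨ι, hι, f, v, hf0, hfv, hsurj, hker⟩ := exists_cyclic_decomposition T
  -- the evaluation map
  let Ψ : (ι → F[X]) →ₗ[F] (Fin n → F) :=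
    ∑ i, ((LinearMap.applyₗ (v i)).comp (aeval T).toLinearMap).comp (LinearMap.proj i)
  have hΨ : ∀ g : ι → F[X], Ψ g = ∑ i, aeval T (g i) (v i) := by
    intro g
    simp [Ψ, LinearMap.sum_apply]
  have hΨX : ∀ g : ι → F[X], Ψ (fun i => X * g i) = T (Ψ g) := by
    intro g
    rw [hΨ, hΨ, map_sum]
    apply Finset.sum_congr rfl
    intro i _
    rw [map_mul, aeval_X, Module.End.mul_apply]
  -- the form
  let Cf : (ι → F[X]) → (ι → F[X]) → F := fun g h => ∑ i, psi (f i) (g i * h i)
  have hC_comm : ∀ g h, Cf g h = Cf h g := by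
    intro g h
    simp only [Cf, mul_comm]
  have hC_add : ∀ g g' h, Cf (g + g') h = Cf g h + Cf g' h := by
    intro g g' h
    simp only [Cf, Pi.add_apply, add_mul, map_add, Finset.sum_add_distrib]
  have hC_smul : ∀ (c : F) g h, Cf (c • g) h = c * Cf g h := by
    intro c g h
    simp only [Cf, Pi.smul_apply, smul_mul_assoc, map_smul, smul_eq_mul, Finset.mul_sum]
  have hC_sum : ∀ (s : Finset (Fin n)) (c : Fin n → F) (G : Fin n → (ι → F[X])) h,
      Cf (∑ l ∈ s, c l • G l) h = ∑ l ∈ s, c l * Cf (G l) h := by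
    intro s c G h
    induction s using Finset.induction_on with
    | empty => simp [Cf]
    | insert a s ha ih => rw [Finset.sum_insert ha, Finset.sum_insert ha, hC_add, hC_smul, ih]
  have hC_X : ∀ g h, Cf (fun i => X * g i) h = Cf g (fun i => X * h i) := by
    intro g h
    simp only [Cf]
    apply Finset.sum_congr rfl
    intro i _
    congr 1; ring
  have hC_left : ∀ g g' h, Ψ g = Ψ g' → Cf g h = Cf g' h := by
    intro g g' h hgg'
    have h0 : ∑ i, aeval T ((g - g') i) (v i) = 0 := by
      rw [← hΨ, map_sub, hgg', sub_self]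
    have hdvd := hker (g - g') h0
    simp only [Cf]
    apply Finset.sum_congr rfl
    intro i _
    have : psi (f i) ((g i - g' i) * h i) = 0 :=
      psi_eq_zero_of_dvd (hf0 i) (Dvd.dvd.mul_right (hdvd i) _)
    rw [sub_mul, map_sub, sub_eq_zero] at this
    exact this
  have hC_right : ∀ g h h', Ψ h = Ψ h' → Cf g h = Cf g h' := by
    intro g h h' hh
    rw [hC_comm g h, hC_comm g h']
    exact hC_left h h' g hh
  have hC_nondeg : ∀ h, (∀ g, Cf g h = 0) → Ψ h = 0 := by
    intro h hh
    have hdvd : ∀ i, f i ∣ h i := by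
      intro i
      by_contra hnd
      obtain ⟨m, hm⟩ := exists_psi_ne_zero (hf0 i) hnd
      apply hm
      have := hh (Pi.single i (X ^ m))
      simp only [Cf] at this
      rw [Finset.sum_eq_single i] at this
      · rwa [Pi.single_eq_same] at this
      · intro b _ hb
        rw [Pi.single_eq_of_ne hb, zero_mul, map_zero]
      · intro h; exact absurd (Finset.mem_univ i) h
    rw [hΨ]
    apply Finset.sum_eq_zero
    intro i _
    obtain ⟨a, ha⟩ := hdvd i
    rw [ha, mul_comm, map_mul, Module.End.mul_apply, hfv i, map_zero]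
  -- preimages of the standard basis
  have hG : ∀ j : Fin n, ∃ g : ι → F[X], Ψ g = Pi.single j 1 := by
    intro j
    obtain ⟨g, hg⟩ := hsurj (Pi.single j 1)
    exact ⟨g, by rw [hΨ, hg]⟩
  choose G hGΨ using hG
  have hΨ_comb : ∀ w : Fin n → F, Ψ (∑ l, w l • G l) = w := by
    intro w
    rw [map_sum]
    simp only [map_smul, hGΨ]
    ext k
    simp [Finset.sum_apply, Pi.single_apply]
  let P : Matrix (Fin n) (Fin n) F := Matrix.of fun j k => Cf (G j) (G k)
  have hcol : ∀ k, Ψ (∑ l, A l k • G l) = Ψ (fun i => X * G k i) := by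
    intro k
    rw [hΨ_comb, hΨX, hGΨ, hT, Matrix.toLin'_apply]
    ext l
    simp [Matrix.mulVec, dotProduct, Pi.single_apply]
  have hPA : P * A = A.transpose * P := by
    ext j k
    rw [Matrix.mul_apply, Matrix.mul_apply]
    simp only [P, Matrix.of_apply, Matrix.transpose_apply]
    have h1 : ∑ l, Cf (G j) (G l) * A l k = Cf (G j) (fun i => X * G k i) := by
      rw [← hC_right (G j) _ _ (hcol k), hC_comm, hC_sum]
      apply Finset.sum_congr rfl
      intro l _
      rw [hC_comm, mul_comm]
    have h2 : ∑ l, A l j * Cf (G l) (G k) = Cf (fun i => X * G j i) (G k) := by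
      rw [← hC_left _ _ (G k) (hcol j), hC_sum]
    rw [h1, h2, hC_X]
  have hdet : P.det ≠ 0 := by
    intro h0
    obtain ⟨w, hw0, hw⟩ := Matrix.exists_mulVec_eq_zero_iff.mpr h0
    apply hw0
    set h := ∑ k, w k • G k with hh
    have h1 : ∀ j, Cf (G j) h = 0 := by
      intro j
      have := congrFun hw j
      simp only [Matrix.mulVec, dotProduct, P, Matrix.of_apply, Pi.zero_apply] at this
      rw [hC_comm, hh, hC_sum]
      rw [← this]
      apply Finset.sum_congr rfl
      intro k _
      rw [hC_comm, mul_comm]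
    have h2 : ∀ g, Cf g h = 0 := by
      intro g
      rw [hC_left g (∑ j, (Ψ g) j • G j) h (hΨ_comb (Ψ g)).symm, hC_sum]
      apply Finset.sum_eq_zero
      intro j _
      rw [h1, mul_zero]
    have h3 := hC_nondeg h h2
    rw [hh, hΨ_comb] at h3
    exact h3
  have hunit : IsUnit P := (Matrix.isUnit_iff_isUnit_det P).mpr (isUnit_iff_ne_zero.mpr hdet)
  exact ⟨hunit.unit, hPA⟩

end Cfsg.Agent.Lib.Helper43_Transpose
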