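import Mathlib

set_option autoImplicit false

/-!
Linear algebra around transvections `x ↦ x + φ x • a` (`φ a = 0`): extracting `(a, φ)` from a
rank-one square-zero map, and transitivity of the special linear group on such pairs in dimension ≥ 3.
-/

namespace Cfsg.Agent.Lib.Helper43_Transvection

open Module

variable {F : Type*} [Field F]

section general
variable {V : Type*} [AddCommGroup V] [Module F V] [FiniteDimensional F V]

/-- Two subspaces of the same dimension are carried to each other by a linear automorphism. -/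
theorem exists_equiv_map_eq' (U₁ U₂ : Submodule F V)
    (h : finrank F U₁ = finrank F U₂) :
    ∃ e : V ≃ₗ[F] V, U₁.map (e : V →ₗ[F] V) = U₂ := by
  obtain ⟨C₁, hC₁⟩ := Submodule.exists_isCompl U₁
  obtain ⟨C₂, hC₂⟩ := Submodule.exists_isCompl U₂
  have hC : finrank F C₁ = finrank F C₂ := by
    have h1 := Submodule.finrank_add_eq_of_isCompl hC₁
    have h2 := Submodule.finrank_add_eq_of_isCompl hC₂
    omega
  let eU : U₁ ≃ₗ[F] U₂ := LinearEquiv.ofFinrankEq _ _ h
  let eC : C₁ ≃ₗ[F] C₂ := LinearEquiv.ofFinrankEq _ _ hC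
  let e : V ≃ₗ[F] V := (Submodule.prodEquivOfIsCompl U₁ C₁ hC₁).symm ≪≫ₗ
    (eU.prodCongr eC) ≪≫ₗ (Submodule.prodEquivOfIsCompl U₂ C₂ hC₂)
  refine ⟨e, ?_⟩
  apply Submodule.eq_of_le_of_finrank_eq
  · rintro _ ⟨u, hu, rfl⟩
    have h1 : (Submodule.prodEquivOfIsCompl U₁ C₁ hC₁).symm u = (⟨u, hu⟩, 0) :=
      Submodule.prodEquivOfIsCompl_symm_apply_left U₁ C₁ hC₁ ⟨u, hu⟩
    show e u ∈ U₂
    simp only [e, LinearEquiv.trans_apply, h1, LinearEquiv.prodCongr_apply,
      map_zero, Submodule.coe_prodEquivOfIsCompl', Submodule.coe_zero, add_zero]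
    exact (eU ⟨u, hu⟩).2
  · rw [LinearEquiv.finrank_map_eq, h]

/-- The general linear group is transitive on non-zero vectors. -/
theorem exists_equiv_apply_eq {w w' : V} (hw : w ≠ 0) (hw' : w' ≠ 0) :
    ∃ e : V ≃ₗ[F] V, e w = w' := by
  obtain ⟨e₀, he₀⟩ := exists_equiv_map_eq' (Submodule.span F {w}) (Submodule.span F {w'})
    (by rw [finrank_span_singleton hw, finrank_span_singleton hw'])
  have hmem : e₀ w ∈ Submodule.span F {w'} := by
    rw [← he₀]
    exact ⟨w, Submodule.mem_span_singleton_self w, rfl⟩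
  obtain ⟨c, hc⟩ := Submodule.mem_span_singleton.mp hmem
  have hc0 : c ≠ 0 := by
    rintro rfl
    rw [zero_smul] at hc
    exact hw (e₀.map_eq_zero_iff.mp hc.symm)
  refine ⟨e₀ ≪≫ₗ LinearEquiv.smulOfNeZero F V c⁻¹ (inv_ne_zero hc0), ?_⟩
  rw [LinearEquiv.trans_apply, LinearEquiv.smulOfNeZero_apply, ← hc, smul_smul, inv_mul_cancel₀ hc0,
    one_smul]

end general

/-- Between two spaces of the same dimension, some linear isomorphism carries a given non-zero vector
to a given non-zero vector. -/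
theorem exists_equiv_apply_eq' {W W' : Type*} [AddCommGroup W] [Module F W] [FiniteDimensional F W]
    [AddCommGroup W'] [Module F W'] [FiniteDimensional F W']
    (h : finrank F W = finrank F W') {w : W} {w' : W'} (hw : w ≠ 0) (hw' : w' ≠ 0) :
    ∃ e : W ≃ₗ[F] W', e w = w' := by
  let e₀ : W ≃ₗ[F] W' := LinearEquiv.ofFinrankEq W W' h
  have h0 : e₀ w ≠ 0 := fun h0 => hw (e₀.map_eq_zero_iff.mp h0)
  obtain ⟨e₁, he₁⟩ := exists_equiv_apply_eq (F := F) h0 hw'
  exact ⟨e₀ ≪≫ₗ e₁, by rw [LinearEquiv.trans_apply, he₁]⟩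

section ext
variable {V : Type*} [AddCommGroup V] [Module F V] [FiniteDimensional F V]

/-- Extend an isomorphism of hyperplanes `ker φ ≃ ker φ'` to an automorphism of `V` compatible with
the functionals. -/
theorem exists_equiv_extend (φ φ' : Module.Dual F V) (c c' : V) (hc : φ c = 1) (hc' : φ' c' = 1)
    (e : LinearMap.ker φ ≃ₗ[F] LinearMap.ker φ') :
    ∃ g : V ≃ₗ[F] V, (∀ h : LinearMap.ker φ, g h = e h) ∧ ∀ x, φ' (g x) = φ x := by
  -- projection onto ker φ
  let π : V →ₗ[F] LinearMap.ker φ :=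
    LinearMap.codRestrict (LinearMap.ker φ) (LinearMap.id - (LinearMap.toSpanSingleton F V c).comp φ)
      (by
        intro x
        rw [LinearMap.mem_ker]
        simp [hc])
  have hπ : ∀ x, (π x : V) = x - φ x • c := by
    intro x; simp [π]
  let g₀ : V →ₗ[F] V :=
    (LinearMap.ker φ').subtype.comp (e.toLinearMap.comp π) + (LinearMap.toSpanSingleton F V c').comp φ
  have hg₀ : ∀ x, g₀ x = (e (π x) : V) + φ x • c' := by
    intro x; simp [g₀]
  have hφ' : ∀ x, φ' (g₀ x) = φ x := by
    intro x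
    rw [hg₀, map_add, map_smul, hc', smul_eq_mul, mul_one]
    have : φ' (e (π x) : V) = 0 := (e (π x)).2
    rw [this, zero_add]
  have hinj : Function.Injective g₀ := by
    rw [← LinearMap.ker_eq_bot, LinearMap.ker_eq_bot']
    intro x hx
    have h1 : φ x = 0 := by rw [← hφ', hx, map_zero]
    rw [hg₀, h1, zero_smul, add_zero] at hx
    have h2 : e (π x) = 0 := Subtype.ext hx
    have h3 : π x = 0 := e.map_eq_zero_iff.mp h2
    have h4 := congrArg Subtype.val h3
    rw [hπ, h1, zero_smul, sub_zero] at h4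
    exact h4
  refine ⟨LinearEquiv.ofInjectiveEndo g₀ hinj, ?_, ?_⟩
  · intro h
    rw [LinearEquiv.coe_ofInjectiveEndo, hg₀]
    have h1 : φ (h : V) = 0 := h.2
    have h2 : π h = h := by
      apply Subtype.ext
      rw [hπ, h1, zero_smul, sub_zero]
    rw [h1, zero_smul, add_zero, h2]
  · intro x
    rw [LinearEquiv.coe_ofInjectiveEndo]
    exact hφ' x

end ext

end Cfsg.Agent.Lib.Helper43_Transvection
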