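import Cfsg.Agent.Lib.Helper43_Transvection2

set_option autoImplicit false

/-!
The general linear group is transitive on pairs `(a, φ)` with `a ≠ 0`, `φ ≠ 0`, `φ a = 0`;
endomorphisms commuting with the transvection `x ↦ x + φ x • a`.
-/

namespace Cfsg.Agent.Lib.Helper43_Transvection

open Module

variable {F : Type*} [Field F]
variable {V : Type*} [AddCommGroup V] [Module F V] [FiniteDimensional F V]

/-- The general linear group is transitive on pairs `(a, φ)` with `a ≠ 0`, `φ ≠ 0`, `φ a = 0`. -/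
theorem exists_equiv_pair (a a' : V) (φ φ' : Module.Dual F V)
    (ha : a ≠ 0) (ha' : a' ≠ 0) (hφ : φ ≠ 0) (hφ' : φ' ≠ 0) (hφa : φ a = 0) (hφa' : φ' a' = 0) :
    ∃ g : V ≃ₗ[F] V, g a = a' ∧ ∀ x, φ' (g x) = φ x := by
  obtain ⟨x, hx⟩ : ∃ x, φ x ≠ 0 := by
    by_contra h
    push Not at h
    exact hφ (LinearMap.ext h)
  obtain ⟨x', hx'⟩ : ∃ x, φ' x ≠ 0 := by
    by_contra h
    push Not at h
    exact hφ' (LinearMap.ext h)
  have hc : φ ((φ x)⁻¹ • x) = 1 := by simp [inv_mul_cancel₀ hx]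
  have hc' : φ' ((φ' x')⁻¹ • x') = 1 := by simp [inv_mul_cancel₀ hx']
  have hH := Module.Dual.finrank_ker_add_one_of_ne_zero hφ
  have hH' := Module.Dual.finrank_ker_add_one_of_ne_zero hφ'
  have haH : (⟨a, hφa⟩ : LinearMap.ker φ) ≠ 0 := by
    intro h; exact ha (congrArg Subtype.val h)
  have haH' : (⟨a', hφa'⟩ : LinearMap.ker φ') ≠ 0 := by
    intro h; exact ha' (congrArg Subtype.val h)
  obtain ⟨e, he⟩ := exists_equiv_apply_eq' (F := F) (by omega) haH haH'
  obtain ⟨g₁, hg₁H, hg₁φ⟩ := exists_equiv_extend φ φ' _ _ hc hc' e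
  refine ⟨g₁, ?_, hg₁φ⟩
  have := hg₁H ⟨a, hφa⟩
  rw [he] at this
  exact this

/-- An injective endomorphism `g` commutes with the transvection `x ↦ x + φ x • a` iff it scales
`a` and `φ` by the same factor. -/
theorem commute_transvection_iff (a : V) (φ : Module.Dual F V) (ha : a ≠ 0) (hφ : φ ≠ 0)
    (g : V →ₗ[F] V) (hg : Function.Injective g) :
    (∀ x, g (x + φ x • a) = g x + φ (g x) • a) ↔
      ∃ c : F, c ≠ 0 ∧ g a = c • a ∧ ∀ x, φ (g x) = c * φ x := by
  obtain ⟨x₀, hx₀⟩ : ∃ x, φ x ≠ 0 := by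
    by_contra h
    push Not at h
    exact hφ (LinearMap.ext h)
  constructor
  · intro h
    have h1 : ∀ x, φ x • g a = φ (g x) • a := by
      intro x
      have := h x
      rw [map_add, map_smul] at this
      exact add_left_cancel this
    set y := (φ x₀)⁻¹ • x₀ with hy
    have hy1 : φ y = 1 := by simp [hy, inv_mul_cancel₀ hx₀]
    have hga : g a = φ (g y) • a := by
      have := h1 y
      rwa [hy1, one_smul] at this
    have hc0 : φ (g y) ≠ 0 := by
      intro h0
      rw [h0, zero_smul] at hga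
      exact ha (hg (by rw [hga, map_zero]))
    refine ⟨φ (g y), hc0, hga, ?_⟩
    intro x
    have := h1 x
    rw [hga, smul_smul] at this
    have h2 : (φ x * φ (g y) - φ (g x)) • a = 0 := by rw [sub_smul, this, sub_self]
    rcases smul_eq_zero.mp h2 with h3 | h3
    · rw [mul_comm]; exact (sub_eq_zero.mp h3).symm
    · exact absurd h3 ha
  · rintro ⟨c, -, hca, hcφ⟩ x
    rw [map_add, map_smul, hca, hcφ, smul_smul, mul_comm]

end Cfsg.Agent.Lib.Helper43_Transvection
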