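import Cfsg.Agent.Lib.Helper43_Jordan3

set_option autoImplicit false

/-!
The commutant of a nilpotent endomorphism with a chain basis: parametrisation by the images of the
chain heads, and the unit criterion through the matrix of head coordinates.
-/

namespace Cfsg.Agent.Lib.Helper43_UnipCent

open Module Matrix
open Cfsg.Agent.Lib.Helper43_Jordan

section basic

variable {F : Type*} [Field F] {V : Type*} [AddCommGroup V] [Module F V]
variable {ι : Type*} {d : ι → ℕ} {N : End F V} {b : Basis (Σ i, Fin (d i)) F V}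

/-- the head of each chain -/
def zidx (hd : ∀ i, 1 ≤ d i) (i : ι) : Σ i, Fin (d i) := ⟨i, ⟨0, hd i⟩⟩

theorem zidx_injective (hd : ∀ i, 1 ≤ d i) : Function.Injective (zidx hd) := by
  intro i j h
  exact congrArg Sigma.fst h

theorem eq_zidx (hd : ∀ i, 1 ≤ d i) (x : Σ i, Fin (d i)) (hx : (x.2 : ℕ) = 0) :
    x = zidx hd x.1 := by
  obtain ⟨i, j⟩ := x
  simp only at hx
  unfold zidx
  congr 1
  exact Fin.ext hx

/-- the head coordinates of a vector -/
noncomputable def topc (b : Basis (Σ i, Fin (d i)) F V) (hd : ∀ i, 1 ≤ d i) : V →ₗ[F] (ι → F) :=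
  LinearMap.pi fun l => b.coord (zidx hd l)

theorem topc_apply (hd : ∀ i, 1 ≤ d i) (v : V) (l : ι) :
    topc b hd v l = b.repr v (zidx hd l) := rfl

theorem range_eq_ker_topc (hb : IsChainBasis N d b) (hd : ∀ i, 1 ≤ d i) :
    LinearMap.range N = LinearMap.ker (topc b hd) := by
  have h1 := hb.range_pow 1
  rw [pow_one] at h1
  have h2 : Set.range (fun x : tailSet d 1 => b x.1) = b '' (tailSet d 1) := by
    ext v
    constructor
    · rintro ⟨x, rfl⟩
      exact ⟨x.1, x.2, rfl⟩
    · rintro ⟨x, hx, rfl⟩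
      exact ⟨⟨x, hx⟩, rfl⟩
  rw [h1, h2]
  ext v
  rw [Basis.mem_span_image, LinearMap.mem_ker]
  constructor
  · intro h
    funext l
    rw [topc_apply]
    by_contra hne
    have : zidx hd l ∈ (b.repr v).support := Finsupp.mem_support_iff.2 hne
    have h3 : (1 : ℕ) ≤ ((zidx hd l).2 : ℕ) := h this
    simp [zidx] at h3
  · intro h x hx
    show 1 ≤ (x.2 : ℕ)
    by_contra hlt
    have hx0 : (x.2 : ℕ) = 0 := by omega
    have := congrFun h x.1
    rw [topc_apply, ← eq_zidx hd x hx0] at this
    exact (Finsupp.mem_support_iff.1 hx) this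

theorem topc_N (hb : IsChainBasis N d b) (hd : ∀ i, 1 ≤ d i) (v : V) : topc b hd (N v) = 0 := by
  have : N v ∈ LinearMap.ker (topc b hd) := by
    rw [← range_eq_ker_topc hb hd]
    exact ⟨v, rfl⟩
  exact this

theorem topc_basis_zidx [DecidableEq ι] (hd : ∀ i, 1 ≤ d i) (k : ι) :
    topc b hd (b (zidx hd k)) = Pi.single k 1 := by
  classical
  funext l
  rw [topc_apply, Basis.repr_self, Finsupp.single_apply, Pi.single_apply]
  by_cases h : l = k
  · rw [if_pos h, if_pos (by rw [h])]
  · rw [if_neg h, if_neg]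
    intro h'
    exact h (zidx_injective hd h').symm

theorem topc_surjective [Fintype ι] [DecidableEq ι] (hd : ∀ i, 1 ≤ d i) (w : ι → F) :
    ∃ v : V, topc b hd v = w := by
  refine ⟨∑ k, w k • b (zidx hd k), ?_⟩
  rw [map_sum]
  simp_rw [map_smul, topc_basis_zidx]
  funext l
  rw [Finset.sum_apply]
  simp [Pi.single_apply]

/-- coordinates of `N ^ m v` at level `m` are the head coordinates of `v` -/
theorem repr_pow_level (hb : IsChainBasis N d b) (hd : ∀ i, 1 ≤ d i) (l : ι) (m : ℕ)
    (hm : m < d l) (v : V) :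
    b.repr ((N ^ m) v) ⟨l, ⟨m, hm⟩⟩ = b.repr v (zidx hd l) := by
  classical
  have key : (b.coord ⟨l, ⟨m, hm⟩⟩).comp (N ^ m) = b.coord (zidx hd l) := by
    apply b.ext
    rintro ⟨i, j⟩
    rw [LinearMap.comp_apply, hb.pow_apply, Basis.coord_apply, Basis.coord_apply, Basis.repr_self,
      Finsupp.single_apply]
    by_cases h : j.1 + m < d i
    · rw [dif_pos h, Basis.repr_self, Finsupp.single_apply]
      by_cases hij : i = l ∧ j.1 = 0
      · obtain ⟨rfl, hj⟩ := hij
        have e1 : (⟨i, ⟨j.1 + m, h⟩⟩ : Σ i, Fin (d i)) = ⟨i, ⟨m, hm⟩⟩ := by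
          congr 1
          exact Fin.ext (by simp [hj])
        have e2 : (⟨i, j⟩ : Σ i, Fin (d i)) = zidx hd i := eq_zidx hd ⟨i, j⟩ hj
        rw [if_pos e1, if_pos e2]
      · rw [if_neg, if_neg]
        · intro he
          apply hij
          have h1 : i = l := congrArg Sigma.fst he
          subst h1
          refine ⟨rfl, ?_⟩
          have := eq_of_heq (Sigma.mk.inj he).2
          exact congrArg Fin.val this
        · intro he
          apply hij
          have h1 : i = l := congrArg Sigma.fst he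
          subst h1
          refine ⟨rfl, ?_⟩
          have := eq_of_heq (Sigma.mk.inj he).2
          have := congrArg Fin.val this
          simp only at this
          omega
    · rw [dif_neg h, map_zero, Finsupp.zero_apply, if_neg]
      intro he
      have h1 : i = l := congrArg Sigma.fst he
      subst h1
      have := eq_of_heq (Sigma.mk.inj he).2
      have := congrArg Fin.val this
      simp only at this
      omega
  have := LinearMap.congr_fun key v
  rw [LinearMap.comp_apply, Basis.coord_apply, Basis.coord_apply] at this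
  exact this

theorem topc_eq_zero_of_ker (hb : IsChainBasis N d b) (hd : ∀ i, 1 ≤ d i) (m : ℕ) (v : V)
    (hv : (N ^ m) v = 0) (l : ι) (hm : m < d l) : topc b hd v l = 0 := by
  rw [topc_apply, ← repr_pow_level hb hd l m hm v, hv, map_zero, Finsupp.zero_apply]

end basic

section commutant

variable {F : Type*} [Field F] {V : Type*} [AddCommGroup V] [Module F V]
variable {ι : Type*} {d : ι → ℕ} {N : End F V}
variable {b : Basis (Σ i, Fin (d i)) F V}

/-- the matrix of head coordinates of the images of the chain heads -/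
noncomputable def Tmat (b : Basis (Σ i, Fin (d i)) F V) (hd : ∀ i, 1 ≤ d i) (v : ι → V) :
    Matrix ι ι F :=
  Matrix.of fun l k => topc b hd (v k) l

theorem Tmat_apply (hd : ∀ i, 1 ≤ d i) (v : ι → V) (l k : ι) :
    Tmat b hd v l k = topc b hd (v k) l := rfl

/-- the images of the chain heads -/
noncomputable def heads (b : Basis (Σ i, Fin (d i)) F V) (hd : ∀ i, 1 ≤ d i) (g : End F V) : ι → V :=
  fun k => g (b (zidx hd k))

theorem basis_eq_pow (hb : IsChainBasis N d b) (hd : ∀ i, 1 ≤ d i) (k : ι) (j : Fin (d k)) :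
    b ⟨k, j⟩ = (N ^ (j : ℕ)) (b (zidx hd k)) := by
  unfold zidx
  rw [hb.pow_apply, dif_pos (by simp)]
  congr 2
  apply Fin.ext
  simp

theorem comm_pow {g : End F V} (hg : g * N = N * g) (m : ℕ) (v : V) :
    g ((N ^ m) v) = (N ^ m) (g v) := by
  have hc : Commute g N := hg
  have := (hc.pow_right m).eq
  exact LinearMap.congr_fun this v

theorem heads_mem_ker (hb : IsChainBasis N d b) (hd : ∀ i, 1 ≤ d i) {g : End F V}
    (hg : g * N = N * g) (k : ι) : (N ^ d k) (heads b hd g k) = 0 := by
  unfold heads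
  rw [← comm_pow hg, hb.pow_apply, dif_neg (by simp [zidx]), map_zero]

theorem topc_comp [Fintype ι] [DecidableEq ι] (hb : IsChainBasis N d b) (hd : ∀ i, 1 ≤ d i) {g : End F V}
    (hg : g * N = N * g) (v : V) :
    topc b hd (g v) = Tmat b hd (heads b hd g) *ᵥ topc b hd v := by
  have key : (topc b hd).comp g =
      (Matrix.mulVecLin (Tmat b hd (heads b hd g))).comp (topc b hd) := by
    apply b.ext
    rintro ⟨k, j⟩
    rw [LinearMap.comp_apply, LinearMap.comp_apply, Matrix.mulVecLin_apply]
    by_cases hj : (j : ℕ) = 0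
    · have e : (⟨k, j⟩ : Σ i, Fin (d i)) = zidx hd k := eq_zidx hd ⟨k, j⟩ hj
      rw [e, topc_basis_zidx, Matrix.mulVec_single_one]
      funext l
      rfl
    · have hj1 : 1 ≤ (j : ℕ) := by omega
      have e : b ⟨k, j⟩ = N (b ⟨k, ⟨(j : ℕ) - 1, by omega⟩⟩) := by
        rw [hb k ⟨(j : ℕ) - 1, by omega⟩, dif_pos (by simp only; omega)]
        congr 2
        apply Fin.ext
        simp only
        omega
      rw [e, topc_N hb hd, Matrix.mulVec_zero]
      have h1 : g (N (b ⟨k, ⟨(j : ℕ) - 1, by omega⟩⟩)) =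
          N (g (b ⟨k, ⟨(j : ℕ) - 1, by omega⟩⟩)) := by
        have := comm_pow hg 1 (b ⟨k, ⟨(j : ℕ) - 1, by omega⟩⟩)
        rwa [pow_one] at this
      rw [h1, topc_N hb hd]
  have := LinearMap.congr_fun key v
  rw [LinearMap.comp_apply, LinearMap.comp_apply, Matrix.mulVecLin_apply] at this
  exact this

/-- the endomorphism with prescribed images of the chain heads -/
noncomputable def ofHeads (N : End F V) (b : Basis (Σ i, Fin (d i)) F V) (v : ι → V) : End F V :=
  b.constr F fun x => (N ^ (x.2 : ℕ)) (v x.1)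

theorem ofHeads_basis (v : ι → V) (x : Σ i, Fin (d i)) :
    ofHeads N b v (b x) = (N ^ (x.2 : ℕ)) (v x.1) := by
  unfold ofHeads
  rw [Basis.constr_basis]

theorem ofHeads_comm (hb : IsChainBasis N d b) (v : ι → V) (hv : ∀ k, (N ^ d k) (v k) = 0) :
    ofHeads N b v * N = N * ofHeads N b v := by
  apply b.ext
  rintro ⟨k, j⟩
  rw [Module.End.mul_apply, Module.End.mul_apply, ofHeads_basis, hb k j]
  by_cases h : j.1 + 1 < d k
  · rw [dif_pos h, ofHeads_basis]
    show (N ^ (j.1 + 1)) (v k) = N ((N ^ j.1) (v k))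
    rw [pow_succ', Module.End.mul_apply]
  · rw [dif_neg h, map_zero]
    have hj := j.2
    have e : j.1 + 1 = d k := by omega
    show 0 = N ((N ^ j.1) (v k))
    rw [← Module.End.mul_apply, ← pow_succ', e, hv k]

theorem heads_ofHeads (hd : ∀ i, 1 ≤ d i) (v : ι → V) : heads b hd (ofHeads N b v) = v := by
  funext k
  unfold heads
  rw [ofHeads_basis]
  simp [zidx]

theorem ofHeads_heads (hb : IsChainBasis N d b) (hd : ∀ i, 1 ≤ d i) {g : End F V}
    (hg : g * N = N * g) : ofHeads N b (heads b hd g) = g := by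
  apply b.ext
  rintro ⟨k, j⟩
  rw [ofHeads_basis]
  unfold heads
  simp only
  rw [← comm_pow hg, ← basis_eq_pow hb hd]

end commutant

end Cfsg.Agent.Lib.Helper43_UnipCent
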