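import Cfsg.Agent.Lib.Helper43_UnipCent1

set_option autoImplicit false

/-!
The commutant of a nilpotent endomorphism with a chain basis: an element is invertible exactly
when its matrix of head coordinates is, and the resulting parametrisation of the invertible
elements of the commutant.
-/

namespace Cfsg.Agent.Lib.Helper43_UnipCent

open Module Matrix
open Cfsg.Agent.Lib.Helper43_Jordan

section units

variable {F : Type*} [Field F] {V : Type*} [AddCommGroup V] [Module F V]
variable {ι : Type*} [Fintype ι] [DecidableEq ι] {d : ι → ℕ} {N : End F V}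
variable {b : Basis (Σ i, Fin (d i)) F V}

theorem Tmat_mul (hb : IsChainBasis N d b) (hd : ∀ i, 1 ≤ d i) {g g' : End F V}
    (hg : g * N = N * g) (hg' : g' * N = N * g') :
    Tmat b hd (heads b hd (g * g')) = Tmat b hd (heads b hd g) * Tmat b hd (heads b hd g') := by
  have hgg : (g * g') * N = N * (g * g') := by
    rw [mul_assoc, hg', ← mul_assoc, hg, mul_assoc]
  apply Matrix.toLin'.injective
  apply LinearMap.ext
  intro w
  obtain ⟨v, rfl⟩ := topc_surjective (b := b) hd w
  rw [Matrix.toLin'_apply, Matrix.toLin'_apply, ← topc_comp hb hd hgg, Module.End.mul_apply,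
    topc_comp hb hd hg, topc_comp hb hd hg', Matrix.mulVec_mulVec]

omit [Fintype ι] in
theorem Tmat_one (hd : ∀ i, 1 ≤ d i) : Tmat b hd (heads b hd (1 : End F V)) = 1 := by
  ext l k
  rw [Tmat_apply]
  unfold heads
  rw [Module.End.one_apply, topc_basis_zidx, Pi.single_apply, Matrix.one_apply]

theorem det_Tmat_ne_zero (hb : IsChainBasis N d b) (hd : ∀ i, 1 ≤ d i) (u : (End F V)ˣ)
    (hu : (u : End F V) * N = N * (u : End F V)) :
    (Tmat b hd (heads b hd (u : End F V))).det ≠ 0 := by
  have hc : Commute (u : End F V) N := hu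
  have hu' : ((u⁻¹ : (End F V)ˣ) : End F V) * N = N * ((u⁻¹ : (End F V)ˣ) : End F V) :=
    hc.units_inv_left.eq
  have h1 := Tmat_mul hb hd hu hu'
  rw [Units.mul_inv, Tmat_one] at h1
  exact Matrix.det_ne_zero_of_right_inverse h1.symm

theorem exists_step (hb : IsChainBasis N d b) (hd : ∀ i, 1 ≤ d i) {g : End F V}
    (hg : g * N = N * g) (hT : (Tmat b hd (heads b hd g)).det ≠ 0) (x : V) :
    ∃ y z : V, x = g y + N z := by
  have hu : IsUnit (Tmat b hd (heads b hd g)).det := isUnit_iff_ne_zero.2 hT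
  obtain ⟨y, hy⟩ := topc_surjective (b := b) hd ((Tmat b hd (heads b hd g))⁻¹ *ᵥ topc b hd x)
  have h0 : topc b hd (x - g y) = 0 := by
    rw [map_sub, topc_comp hb hd hg, hy, Matrix.mulVec_mulVec, Matrix.mul_nonsing_inv _ hu,
      Matrix.one_mulVec, sub_self]
  have hmem : x - g y ∈ LinearMap.range N := by
    rw [range_eq_ker_topc hb hd]
    exact h0
  obtain ⟨z, hz⟩ := hmem
  exact ⟨y, z, by rw [hz]; abel⟩

theorem exists_pow_step (hb : IsChainBasis N d b) (hd : ∀ i, 1 ≤ d i) {g : End F V}
    (hg : g * N = N * g) (hT : (Tmat b hd (heads b hd g)).det ≠ 0) (m : ℕ) (x : V) :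
    ∃ y z : V, x = g y + (N ^ m) z := by
  induction m with
  | zero => exact ⟨0, x, by simp⟩
  | succ m ih =>
    obtain ⟨y, z, hx⟩ := ih
    obtain ⟨y', z', hz⟩ := exists_step hb hd hg hT z
    refine ⟨y + (N ^ m) y', z', ?_⟩
    rw [hx, hz, map_add, map_add, comm_pow hg, pow_succ, Module.End.mul_apply]
    abel

theorem isUnit_of_det_Tmat (hb : IsChainBasis N d b) (hd : ∀ i, 1 ≤ d i) {g : End F V}
    (hg : g * N = N * g) (hT : (Tmat b hd (heads b hd g)).det ≠ 0) : IsUnit g := by
  have hfin : FiniteDimensional F V := Module.Finite.of_basis b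
  rw [LinearMap.isUnit_iff_range_eq_top, LinearMap.range_eq_top]
  intro x
  obtain ⟨m, hm⟩ := hb.isNilpotent
  obtain ⟨y, z, hx⟩ := exists_pow_step hb hd hg hT m x
  refine ⟨y, ?_⟩
  rw [hx, hm, LinearMap.zero_apply, add_zero]

omit [Fintype ι] [DecidableEq ι] in
theorem ofHeads_comm' (hb : IsChainBasis N d b) (v : ∀ k, LinearMap.ker (N ^ d k)) :
    (ofHeads N b fun k => (v k : V)) * N = N * ofHeads N b fun k => (v k : V) :=
  ofHeads_comm hb _ fun k => (v k).2

theorem isUnit_ofHeads (hb : IsChainBasis N d b) (hd : ∀ i, 1 ≤ d i)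
    (v : ∀ k, LinearMap.ker (N ^ d k)) (hv : (Tmat b hd fun k => (v k : V)).det ≠ 0) :
    IsUnit (ofHeads N b fun k => (v k : V)) := by
  apply isUnit_of_det_Tmat hb hd (ofHeads_comm' hb v)
  rw [heads_ofHeads]
  exact hv

/-- the invertible elements of the commutant correspond to families of vectors `v k` in the
kernels of `N ^ d k` whose matrix of head coordinates is invertible -/
noncomputable def unitsEquiv (hb : IsChainBasis N d b) (hd : ∀ i, 1 ≤ d i) :
    {u : (End F V)ˣ // (u : End F V) * N = N * (u : End F V)} ≃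
      {v : (∀ k, LinearMap.ker (N ^ d k)) // (Tmat b hd fun k => (v k : V)).det ≠ 0} where
  toFun u := ⟨fun k => ⟨heads b hd (u.1 : End F V) k, heads_mem_ker hb hd u.2 k⟩,
    det_Tmat_ne_zero hb hd u.1 u.2⟩
  invFun v := ⟨(isUnit_ofHeads hb hd v.1 v.2).unit, ofHeads_comm' hb v.1⟩
  left_inv u := by
    apply Subtype.ext
    apply Units.ext
    exact ofHeads_heads hb hd u.2
  right_inv v := by
    apply Subtype.ext
    funext k
    apply Subtype.ext
    exact congrFun (heads_ofHeads hd fun k => (v.1 k : V)) k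

end units

end Cfsg.Agent.Lib.Helper43_UnipCent
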