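import Cfsg.Agent.Lib.Helper43_UnipCent2

set_option autoImplicit false

/-!
Counting the invertible elements of the commutant of a nilpotent endomorphism with a chain basis
over a finite field.
-/

namespace Cfsg.Agent.Lib.Helper43_UnipCent

open Module Matrix
open Cfsg.Agent.Lib.Helper43_Jordan

section fiber

/-- fibres of a surjective homomorphism of additive groups all have the size of the kernel -/
theorem card_fiber {A B : Type*} [AddCommGroup A] [AddCommGroup B] (f : A →+ B)
    (hf : Function.Surjective f) (P : B → Prop) :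
    Nat.card {x : A // P (f x)} = Nat.card f.ker * Nat.card {y : B // P y} := by
  classical
  have hs : ∀ y, f (Function.surjInv hf y) = y := Function.surjInv_eq hf
  rw [← Nat.card_prod]
  apply Nat.card_congr
  refine
    { toFun := fun x => (⟨x.1 - Function.surjInv hf (f x.1), ?_⟩, ⟨f x.1, x.2⟩)
      invFun := fun p => ⟨p.1.1 + Function.surjInv hf p.2.1, ?_⟩
      left_inv := ?_
      right_inv := ?_ }
  · rw [AddMonoidHom.mem_ker, map_sub, hs, sub_self]
  · have : f (p.1.1 + Function.surjInv hf p.2.1) = p.2.1 := by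
      rw [map_add, hs, (AddMonoidHom.mem_ker).1 p.1.2, zero_add]
    rw [this]
    exact p.2.2
  · intro x
    apply Subtype.ext
    simp
  · rintro ⟨⟨z, hz⟩, ⟨y, hy⟩⟩
    have hz' : f z = 0 := (AddMonoidHom.mem_ker).1 hz
    apply Prod.ext
    · apply Subtype.ext
      simp [hs, hz']
    · apply Subtype.ext
      simp [hs, hz']

theorem card_eq_ker_mul {A B : Type*} [AddCommGroup A] [AddCommGroup B] (f : A →+ B)
    (hf : Function.Surjective f) : Nat.card A = Nat.card f.ker * Nat.card B := by
  have h := card_fiber f hf (fun _ => True)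
  have e1 : Nat.card {x : A // True} = Nat.card A := Nat.card_congr (Equiv.subtypeUnivEquiv (fun _ => trivial))
  have e2 : Nat.card {y : B // True} = Nat.card B := Nat.card_congr (Equiv.subtypeUnivEquiv (fun _ => trivial))
  rw [← e1, ← e2]
  exact h

end fiber

section glcard

variable {F : Type*} [Field F] [Fintype F]

theorem card_det_ne_zero (n : Type*) [Fintype n] [DecidableEq n] :
    Nat.card {M : Matrix n n F // M.det ≠ 0} =
      ∏ j : Fin (Fintype.card n), (Fintype.card F ^ Fintype.card n - Fintype.card F ^ (j : ℕ)) := by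
  rw [← Matrix.card_GL_field]
  apply Nat.card_congr
  have e1 : {M : Matrix n n F // M.det ≠ 0} ≃ (Matrix n n F)ˣ :=
    { toFun := fun M => Matrix.GeneralLinearGroup.mk'' M.1 (isUnit_iff_ne_zero.2 M.2)
      invFun := fun u => ⟨u, ((Matrix.isUnit_iff_isUnit_det _).1 u.isUnit).ne_zero⟩
      left_inv := fun M => Subtype.ext rfl
      right_inv := fun u => Units.ext rfl }
  exact e1.trans (Units.mapEquiv (Matrix.reindexAlgEquiv F F (Fintype.equivFin n)).toMulEquiv).toEquiv

end glcard

section blocks

variable {F : Type*} [Field F] {V : Type*} [AddCommGroup V] [Module F V]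
variable {ι : Type*} [Fintype ι] [DecidableEq ι] {d : ι → ℕ} {N : End F V}
variable {b : Basis (Σ i, Fin (d i)) F V}

/-- the sizes of blocks that occur -/
abbrev BlockIdx (d : ι → ℕ) := {a : ℕ // a ∈ Finset.univ.image d}

/-- the blocks of a given size -/
abbrev BlockFib (d : ι → ℕ) (a : ℕ) := {k : ι // d k = a}

/-- the family of diagonal blocks of the matrix of head coordinates -/
noncomputable def blocksHom (N : End F V) (b : Basis (Σ i, Fin (d i)) F V) (hd : ∀ i, 1 ≤ d i) :
    (∀ k, LinearMap.ker (N ^ d k)) →+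
      (∀ a : BlockIdx d, Matrix (BlockFib d a.1) (BlockFib d a.1) F) where
  toFun v := fun a => (Tmat b hd fun k => (v k : V)).toSquareBlock d a.1
  map_zero' := by
    funext a
    ext i j
    simp [Matrix.toSquareBlock_def, Tmat_apply]
  map_add' v v' := by
    funext a
    ext i j
    simp [Matrix.toSquareBlock_def, Tmat_apply]

omit [DecidableEq ι] in
theorem blocksHom_apply (hd : ∀ i, 1 ≤ d i) (v : ∀ k, LinearMap.ker (N ^ d k)) (a : BlockIdx d)
    (i j : BlockFib d a.1) :
    blocksHom N b hd v a i j = topc b hd (v j.1 : V) i.1 := rfl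

omit [Fintype ι] [DecidableEq ι] in
theorem blockTriangular_Tmat (hb : IsChainBasis N d b) (hd : ∀ i, 1 ≤ d i)
    (v : ∀ k, LinearMap.ker (N ^ d k)) :
    Matrix.BlockTriangular (Tmat b hd fun k => (v k : V)) d := by
  intro l k hlk
  rw [Tmat_apply]
  exact topc_eq_zero_of_ker hb hd (d k) _ (v k).2 l hlk

theorem det_Tmat_ne_zero_iff (hb : IsChainBasis N d b) (hd : ∀ i, 1 ≤ d i)
    (v : ∀ k, LinearMap.ker (N ^ d k)) :
    (Tmat b hd fun k => (v k : V)).det ≠ 0 ↔ ∀ a : BlockIdx d, (blocksHom N b hd v a).det ≠ 0 := by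
  rw [(blockTriangular_Tmat hb hd v).det, Finset.prod_ne_zero_iff]
  constructor
  · intro h a
    exact h a.1 a.2
  · intro h a ha
    exact h ⟨a, ha⟩

theorem blocksHom_surjective (hb : IsChainBasis N d b) (hd : ∀ i, 1 ≤ d i) :
    Function.Surjective (blocksHom N b hd) := by
  intro B
  have hmem : ∀ k, d k ∈ Finset.univ.image d := fun k =>
    Finset.mem_image.2 ⟨k, Finset.mem_univ k, rfl⟩
  let c : ι → ι → F := fun l k =>
    if h : d l = d k then B ⟨d k, hmem k⟩ ⟨l, h⟩ ⟨k, rfl⟩ else 0
  have hker : ∀ k, (N ^ d k) (∑ l, c l k • b (zidx hd l)) = 0 := by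
    intro k
    rw [map_sum]
    apply Finset.sum_eq_zero
    intro l _
    rw [map_smul]
    by_cases h : d l = d k
    · unfold zidx
      rw [hb.pow_apply, dif_neg (by simp only; omega), smul_zero]
    · have : c l k = 0 := dif_neg h
      rw [this, zero_smul]
  have htop : ∀ k l', topc b hd (∑ l, c l k • b (zidx hd l)) l' = c l' k := by
    intro k l'
    rw [map_sum, Finset.sum_apply]
    simp_rw [map_smul, topc_basis_zidx]
    simp [Pi.single_apply]
  refine ⟨fun k => ⟨∑ l, c l k • b (zidx hd l), hker k⟩, ?_⟩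
  funext a
  ext i j
  rw [blocksHom_apply]
  simp only
  rw [htop]
  obtain ⟨a, ha⟩ := a
  obtain ⟨l, hl⟩ := i
  obtain ⟨k, hk⟩ := j
  simp only at hl hk ⊢
  subst hk
  show (if h : d l = d k then B ⟨d k, hmem k⟩ ⟨l, h⟩ ⟨k, rfl⟩ else 0) = _
  rw [dif_pos hl]

end blocks

section count

variable {F : Type*} [Field F] [Fintype F] {V : Type*} [AddCommGroup V] [Module F V]
variable {ι : Type*} [Fintype ι] [DecidableEq ι] {d : ι → ℕ} {N : End F V}
variable {b : Basis (Σ i, Fin (d i)) F V}

omit [DecidableEq ι] in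
theorem card_ker_pow (hb : IsChainBasis N d b) (m : ℕ) :
    Nat.card (LinearMap.ker (N ^ m)) = Fintype.card F ^ (∑ l, min (d l) m) := by
  have hfin : FiniteDimensional F V := Module.Finite.of_basis b
  rw [Module.natCard_eq_pow_finrank (K := F), Nat.card_eq_fintype_card]
  congr 1
  have h1 := LinearMap.finrank_range_add_finrank_ker (N ^ m)
  rw [hb.finrank_range_pow, hb.finrank_eq_sum] at h1
  have h2 : ∑ l, d l = ∑ l, (d l - m) + ∑ l, min (d l) m := by
    rw [← Finset.sum_add_distrib]
    apply Finset.sum_congr rfl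
    intro l _
    omega
  have h3 : (Multiset.map d Finset.univ.val).sum = ∑ l, d l := rfl
  omega

omit [Field F] in
theorem card_matrix (n : Type*) [Fintype n] [DecidableEq n] :
    Nat.card (Matrix n n F) = Fintype.card F ^ (Fintype.card n ^ 2) := by
  unfold Matrix
  rw [Nat.card_eq_fintype_card, Fintype.card_fun, Fintype.card_fun, ← pow_mul, sq]

/-- the number of invertible elements of the commutant, up to the factor coming from the
diagonal blocks -/
theorem card_units_comm_mul (hb : IsChainBasis N d b) (hd : ∀ i, 1 ≤ d i) :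
    Nat.card {u : (End F V)ˣ // (u : End F V) * N = N * (u : End F V)} *
        ∏ a : BlockIdx d, Fintype.card F ^ (Fintype.card (BlockFib d a.1) ^ 2) =
      Fintype.card F ^ (∑ k, ∑ l, min (d l) (d k)) *
        ∏ a : BlockIdx d, ∏ j : Fin (Fintype.card (BlockFib d a.1)),
          (Fintype.card F ^ Fintype.card (BlockFib d a.1) - Fintype.card F ^ (j : ℕ)) := by
  have h1 : Nat.card {u : (End F V)ˣ // (u : End F V) * N = N * (u : End F V)} =
      Nat.card {v : (∀ k, LinearMap.ker (N ^ d k)) //
        ∀ a : BlockIdx d, (blocksHom N b hd v a).det ≠ 0} := by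
    rw [Nat.card_congr (unitsEquiv hb hd)]
    apply Nat.card_congr
    exact Equiv.subtypeEquivRight fun v => det_Tmat_ne_zero_iff hb hd v
  have h2 := card_fiber (blocksHom N b hd) (blocksHom_surjective hb hd)
    (fun B => ∀ a : BlockIdx d, (B a).det ≠ 0)
  have h3 : Nat.card {B : (∀ a : BlockIdx d, Matrix (BlockFib d a.1) (BlockFib d a.1) F) //
      ∀ a : BlockIdx d, (B a).det ≠ 0} =
      ∏ a : BlockIdx d, ∏ j : Fin (Fintype.card (BlockFib d a.1)),
          (Fintype.card F ^ Fintype.card (BlockFib d a.1) - Fintype.card F ^ (j : ℕ)) := by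
    rw [Nat.card_congr (Equiv.subtypePiEquivPi
      (p := fun (a : BlockIdx d) (M : Matrix (BlockFib d a.1) (BlockFib d a.1) F) => M.det ≠ 0)),
      Nat.card_pi]
    apply Finset.prod_congr rfl
    intro a _
    exact card_det_ne_zero _
  have h4 := card_eq_ker_mul (blocksHom N b hd) (blocksHom_surjective hb hd)
  rw [Nat.card_pi, Nat.card_pi] at h4
  have h5 : ∏ k, Nat.card (LinearMap.ker (N ^ d k)) =
      Fintype.card F ^ (∑ k, ∑ l, min (d l) (d k)) := by
    rw [← Finset.prod_pow_eq_pow_sum]
    apply Finset.prod_congr rfl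
    intro k _
    exact card_ker_pow hb (d k)
  have h6 : ∏ a : BlockIdx d, Nat.card (Matrix (BlockFib d a.1) (BlockFib d a.1) F) =
      ∏ a : BlockIdx d, Fintype.card F ^ (Fintype.card (BlockFib d a.1) ^ 2) := by
    apply Finset.prod_congr rfl
    intro a _
    exact card_matrix _
  rw [h1, h2, h3, ← h5, h4, h6]
  ring

end count

end Cfsg.Agent.Lib.Helper43_UnipCent
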