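import Mathlib
import Cfsg.Prelude.Def_Solvable
import Cfsg.Prelude.Def_Transfer
import Cfsg.Agent.Lib.Helper51_CMDefs

/-!
# S3905 package CM-SYLEXP (architect helper51): pure Sylow theory.
-/

set_option autoImplicit false
open Cfsg Cfsg.Agent.Lib.Helper51_CMDefs
open scoped Pointwise

namespace Cfsg.Agent.Lib.Helper44_CM_SYLEXP

variable {G Γ : Type*} [Group G] [Group Γ] {ρ : G →* MulAut Γ}

/-- every `p`-subgroup is conjugate into a given Sylow `p`-subgroup -/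
theorem exists_conj_mem [Finite Γ] {p : ℕ} [Fact p.Prime] (P : Sylow p Γ) (H : Subgroup Γ)
    (hH : IsPGroup p H) : ∃ g : Γ, ∀ x ∈ H, g * x * g⁻¹ ∈ (P : Subgroup Γ) := by
  obtain ⟨Q, hQ⟩ := hH.exists_le_sylow
  obtain ⟨g, hg⟩ := MulAction.exists_smul_eq Γ Q P
  refine ⟨g, fun x hx => ?_⟩
  have h1 : MulAut.conj g • x ∈ MulAut.conj g • (Q : Subgroup Γ) :=
    Subgroup.smul_mem_pointwise_smul x _ _ (hQ hx)
  rw [← Sylow.coe_subgroup_smul, hg] at h1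
  exact h1

theorem sylow_exp [Finite Γ] {p : ℕ} [Fact p.Prime] (P : Sylow p Γ)
    (hexp : ∀ x ∈ (P : Subgroup Γ), x ^ p = 1) (H : Subgroup Γ) (hH : IsPGroup p H) :
    ∀ x ∈ H, x ^ p = 1 := by
  intro x hx
  obtain ⟨g, hg⟩ := exists_conj_mem P H hH
  have h1 := hexp _ (hg x hx)
  rw [conj_pow] at h1
  have h2 : x ^ p = g⁻¹ * (g * x ^ p * g⁻¹) * g := by group
  rw [h2, h1]
  group

/-- every normal `p`-subgroup lies in `Op P`. -/
theorem le_Op [Finite Γ] {p : ℕ} [Fact p.Prime] (P : Sylow p Γ) (K : Subgroup Γ) [K.Normal]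
    (hK : IsPGroup p K) : K ≤ Op P := by
  rw [Subgroup.normal_le_normalCore]
  intro x hx
  obtain ⟨g, hg⟩ := exists_conj_mem P K hK
  have hK' : K.Normal := inferInstance
  have h1 : g⁻¹ * x * g⁻¹⁻¹ ∈ K := hK'.conj_mem x hx g⁻¹
  have h2 := hg _ h1
  have h3 : g * (g⁻¹ * x * g⁻¹⁻¹) * g⁻¹ = x := by group
  rw [h3] at h2
  exact h2

end Cfsg.Agent.Lib.Helper44_CM_SYLEXP
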