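import Mathlib
import Cfsg.Prelude.Def_Solvable
import Cfsg.Prelude.Def_Transfer
import Cfsg.Agent.Lib.Helper51_CMDefs
import Cfsg.Agent.Lib.Helper44_CM_SYLEXP

/-!
# S3905 package CM-D3A (architect helper51): a Sylow `q`-subgroup of `T`, `q ≠ p`, and the Frattini
argument.
-/

set_option autoImplicit false
open Cfsg Cfsg.Agent.Lib.Helper51_CMDefs

namespace Cfsg.Agent.Lib.Helper44_CM_D3A

variable {G Γ : Type*} [Group G] [Group Γ] {ρ : G →* MulAut Γ}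

theorem exists_q_sylow [Finite Γ] {p : ℕ} [Fact p.Prime] (P : Sylow p Γ)
    (nn : ¬ (P : Subgroup Γ).Normal) (T : Subgroup Γ) [T.Normal]
    (hsup : T ⊔ (P : Subgroup Γ) = ⊤) :
    ∃ q : ℕ, q.Prime ∧ q ≠ p ∧ ∃ Q : Subgroup Γ, Q ≠ ⊥ ∧ IsPGroup q Q ∧
      Subgroup.normalizer (Q : Set Γ) ⊔ T = ⊤ := by
  -- `T` is not a `p`-group
  have hT : ¬ IsPGroup p T := by
    intro hT
    have h1 : T ≤ (P : Subgroup Γ) :=
      (Cfsg.Agent.Lib.Helper44_CM_SYLEXP.le_Op P T hT).trans (Subgroup.normalCore_le _)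
    have h2 : (P : Subgroup Γ) = ⊤ := by
      rw [← hsup]
      exact (sup_eq_right.mpr h1).symm
    apply nn
    rw [h2]
    infer_instance
  -- a prime `q ≠ p` dividing `|T|`
  obtain ⟨q, hq, hqp, hqT⟩ : ∃ q : ℕ, q.Prime ∧ q ≠ p ∧ q ∣ Nat.card T := by
    by_contra hcon
    push Not at hcon
    apply hT
    rw [IsPGroup.iff_card]
    refine ⟨_, Nat.eq_prime_pow_of_unique_prime_dvd Nat.card_pos.ne' ?_⟩
    intro d hd hdT
    by_contra hdp
    exact hcon d hd hdp hdT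
  have hqf : Fact q.Prime := ⟨hq⟩
  obtain ⟨Q₀⟩ : Nonempty (Sylow q T) := inferInstance
  refine ⟨q, hq, hqp, (Q₀ : Subgroup T).map T.subtype, ?_, Q₀.2.map _, ?_⟩
  · intro h
    rw [Subgroup.map_eq_bot_iff_of_injective _ T.subtype_injective] at h
    exact Q₀.ne_bot_of_dvd_card hqT h
  · exact Sylow.normalizer_sup_eq_top Q₀

end Cfsg.Agent.Lib.Helper44_CM_D3A
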