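import Mathlib
import Cfsg.Prelude.Def_Solvable
import Cfsg.Prelude.Def_Transfer
import Cfsg.Agent.Lib.Helper51_CMDefs

/-!
# S3905 package CM-D6A (architect helper51): the centre of a non-trivial normal `p`-subgroup.
-/

set_option autoImplicit false
open Cfsg Cfsg.Agent.Lib.Helper51_CMDefs

namespace Cfsg.Agent.Lib.Helper44_CM_D6A

variable {G Γ : Type*} [Group G] [Group Γ] {ρ : G →* MulAut Γ}

theorem center_props {p : ℕ} [Fact p.Prime] [Finite Γ] (D : Subgroup Γ) [D.Normal] (hD : IsPGroup p D)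
    (hD1 : D ≠ ⊥) :
    (D ⊓ Subgroup.centralizer (D : Set Γ)).Normal ∧ D ⊓ Subgroup.centralizer (D : Set Γ) ≠ ⊥ ∧
      ∀ a ∈ D ⊓ Subgroup.centralizer (D : Set Γ), ∀ b ∈ D ⊓ Subgroup.centralizer (D : Set Γ),
        a * b = b * a := by
  refine ⟨inferInstance, ?_, ?_⟩
  · have hnt : Nontrivial ↥D := (Subgroup.nontrivial_iff_ne_bot D).mpr hD1
    have hc : Nontrivial ↥(Subgroup.center ↥D) := hD.center_nontrivial
    obtain ⟨z, hz⟩ := exists_ne (1 : ↥(Subgroup.center ↥D))
    intro hbot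
    apply hz
    have hmem : ((z : ↥D) : Γ) ∈ D ⊓ Subgroup.centralizer (D : Set Γ) := by
      refine Subgroup.mem_inf.mpr ⟨(z : ↥D).2, ?_⟩
      rw [Subgroup.mem_centralizer_iff]
      intro d hd
      have h1 := (Subgroup.mem_center_iff.mp z.2) ⟨d, hd⟩
      exact congrArg Subtype.val h1
    rw [hbot, Subgroup.mem_bot] at hmem
    apply Subtype.ext
    apply Subtype.ext
    exact hmem
  · intro a ha b hb
    have h1 := (Subgroup.mem_centralizer_iff.mp (Subgroup.mem_inf.mp ha).2) b (Subgroup.mem_inf.mp hb).1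
    exact h1.symm

end Cfsg.Agent.Lib.Helper44_CM_D6A
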