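import Mathlib
import Cfsg.Prelude.Def_Solvable
import Cfsg.Prelude.Def_Transfer
import Cfsg.Agent.Lib.Helper51_CMDefs

/-!
# S3905 package CM-DQ-PULL (architect helper51): pull the normal `p`-complement of `Γ ⧸ O_p` back to `Γ`.
-/

set_option autoImplicit false
open Cfsg Cfsg.Agent.Lib.Helper51_CMDefs

namespace Cfsg.Agent.Lib.Helper44_CM_DQ_PULL

variable {G Γ : Type*} [Group G] [Group Γ] {ρ : G →* MulAut Γ}

/-- a normal complement of one Sylow `p`-subgroup is a complement of every Sylow `p`-subgroup -/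
theorem isComplement'_sylow {H : Type*} [Group H] [Finite H] {p : ℕ} [Fact p.Prime]
    (P' Q : Sylow p H) (N : Subgroup H) (hN : N.IsComplement' (P' : Subgroup H)) :
    N.IsComplement' (Q : Subgroup H) := by
  have hcard : Nat.card (Q : Subgroup H) = Nat.card (P' : Subgroup H) := by
    rw [Sylow.card_eq_multiplicity, Sylow.card_eq_multiplicity]
  apply Subgroup.isComplement'_of_coprime
  · rw [hcard]
    exact hN.card_mul_card
  · have h1 : Nat.card N = (P' : Subgroup H).index := hN.index_eq_card.symm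
    have h2 : ¬ p ∣ Nat.card N := by
      rw [h1]
      exact P'.not_dvd_index
    obtain ⟨n, hn⟩ := IsPGroup.iff_card.mp Q.2
    rw [hn]
    exact Nat.Coprime.pow_right n
      ((Nat.Prime.coprime_iff_not_dvd (Fact.out : p.Prime)).mpr h2).symm

theorem exists_T_of_quot [Finite Γ] {p : ℕ} [Fact p.Prime] (P : Sylow p Γ)
    (hc : Cfsg.HasNormalPComplement p (Γ ⧸ Op P)) :
    ∃ T : Subgroup Γ, T.Normal ∧ T ⊓ (P : Subgroup Γ) = Op P ∧ T ⊔ (P : Subgroup Γ) = ⊤ := by
  obtain ⟨P', N, hNn, hNc⟩ := hc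
  have hsurj : Function.Surjective (QuotientGroup.mk' (Op P)) := QuotientGroup.mk'_surjective _
  have hcomp : N.IsComplement' ((P : Subgroup Γ).map (QuotientGroup.mk' (Op P))) := by
    have := isComplement'_sylow P' (P.mapSurjective hsurj) N hNc
    rwa [Sylow.coe_mapSurjective] at this
  have hker : (QuotientGroup.mk' (Op P)).ker = Op P := QuotientGroup.ker_mk' _
  have hOpT : Op P ≤ N.comap (QuotientGroup.mk' (Op P)) := by
    intro x hx
    rw [Subgroup.mem_comap]
    have : QuotientGroup.mk' (Op P) x = 1 := by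
      rw [← MonoidHom.mem_ker, hker]
      exact hx
    rw [this]
    exact N.one_mem
  refine ⟨N.comap (QuotientGroup.mk' (Op P)), hNn.comap _, ?_, ?_⟩
  · apply le_antisymm
    · intro x hx
      obtain ⟨hxT, hxP⟩ := Subgroup.mem_inf.mp hx
      rw [Subgroup.mem_comap] at hxT
      have h1 : QuotientGroup.mk' (Op P) x ∈
          N ⊓ (P : Subgroup Γ).map (QuotientGroup.mk' (Op P)) :=
        Subgroup.mem_inf.mpr ⟨hxT, Subgroup.mem_map_of_mem _ hxP⟩
      rw [hcomp.disjoint.eq_bot, Subgroup.mem_bot] at h1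
      rw [← hker, MonoidHom.mem_ker]
      exact h1
    · exact le_inf hOpT (Subgroup.normalCore_le _)
  · have h1 : (N.comap (QuotientGroup.mk' (Op P)) ⊔ (P : Subgroup Γ)).map
        (QuotientGroup.mk' (Op P)) = ⊤ := by
      rw [Subgroup.map_sup, Subgroup.map_comap_eq_self_of_surjective hsurj, hcomp.sup_eq_top]
    have h2 : (QuotientGroup.mk' (Op P)).ker ≤
        N.comap (QuotientGroup.mk' (Op P)) ⊔ (P : Subgroup Γ) := by
      rw [hker]
      exact hOpT.trans le_sup_left
    rw [← Subgroup.comap_map_eq_self h2, h1, Subgroup.comap_top]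

end Cfsg.Agent.Lib.Helper44_CM_DQ_PULL
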