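import Cfsg.Agent.Lib.Helper18_D4OutC
import Cfsg.Agent.Lib.Helper14_D4Match

set_option autoImplicit false

/-!
# (gamma) for S2715: `Inn ⊔ Diag` of the Chevalley group of type D4 over a finite field of odd order is a
normal subgroup of the automorphism group, of index `4` over `Inn`.
-/

namespace Cfsg.Agent.Lib.Helper44_D4Gamma

open Cfsg Cfsg.Lie Cfsg.Agent.Lib.Helper18_ChevFast Cfsg.Agent.Lib.Helper18_ChevEngine
  Cfsg.Agent.Lib.Helper18_ChevR1 Cfsg.Agent.Lib.Helper18_ChevN Cfsg.Agent.Lib.Helper18_ChevR4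
  Cfsg.Agent.Lib.Helper18_ChevSimple Cfsg.Agent.Lib.Helper18_ChevSimple2 Cfsg.Agent.Lib.Helper18_ChevFacts
  Cfsg.Agent.Lib.Helper18_ChevWeyl Cfsg.Agent.Lib.Helper18_ChevDiag Cfsg.Agent.Lib.Helper18_ChevCar
  Cfsg.Agent.Lib.Helper18_ChevTorus Cfsg.Agent.Lib.Helper18_ChevGL Cfsg.Agent.Lib.Helper18_ChevComm
  Cfsg.Agent.Lib.Helper18_ChevComm2 Cfsg.Agent.Lib.Helper18_MatTri Cfsg.Agent.Lib.Helper18_ChevTri
  Cfsg.Agent.Lib.Helper18_ChevBorel Cfsg.Agent.Lib.Helper18_ChevAdd Cfsg.Agent.Lib.Helper18_ChevUni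
  Cfsg.Agent.Lib.Helper18_ChevBN Cfsg.Agent.Lib.Helper18_ChevMono Cfsg.Agent.Lib.Helper18_ChevBNPair
  Cfsg.Agent.Lib.Helper18_ChevSimp Cfsg.Agent.Lib.Helper18_ChevJCerts Cfsg.Agent.Lib.Helper18_ChevLevi
  Cfsg.Agent.Lib.Helper18_ChevBruhat Cfsg.Agent.Lib.Helper18_ChevPar Cfsg.Agent.Lib.Helper18_ChevRootHom
  Cfsg.Agent.Lib.Helper18_ChevOrder Cfsg.Agent.Lib.Helper18_ChevSylow Cfsg.Agent.Lib.Helper18_ChevCent
  Cfsg.Agent.Lib.Helper18_ChevFrob Cfsg.Agent.Lib.Helper18_ChevAutA Cfsg.Agent.Lib.Helper18_ChevAutB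
  Cfsg.Agent.Lib.Helper18_ChevAutC Cfsg.Agent.Lib.Helper18_ChevAutD Cfsg.Agent.Lib.Helper18_ChevGen
  Cfsg.Agent.Lib.Helper18_ChevField Cfsg.Agent.Lib.Helper18_ChevAutE Cfsg.Agent.Lib.Helper18_ChevAutF
  Cfsg.Agent.Lib.Helper18_ChevAutG Cfsg.Agent.Lib.Helper18_ChevAutH Cfsg.Agent.Lib.Helper18_TorusKer
  Cfsg.Agent.Lib.Helper18_ChevAutI Cfsg.Agent.Lib.Helper18_ChevAutJ Cfsg.Agent.Lib.Helper18_ChevAutK
  Cfsg.Agent.Lib.Helper18_ChevAutM Cfsg.Agent.Lib.Helper18_ChevHhat Cfsg.Agent.Lib.Helper18_ChevAutP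
  Cfsg.Agent.Lib.Helper18_ChevAutQ Cfsg.Agent.Lib.Helper18_OutStruct Cfsg.Agent.Lib.Helper18_ChevAutS
  Cfsg.Agent.Lib.Helper18_ChevAutT
  Cfsg.Agent.Lib.Helper18_ChevAutU Cfsg.Agent.Lib.Helper18_ChevACerts
  Cfsg.Agent.Lib.Helper18_ChevAutCerts Cfsg.Agent.Lib.Helper18_ChevCCerts Cfsg.Agent.Lib.Helper18_SteinbergD4
  Cfsg.Agent.Lib.Helper18_OutStructAll Cfsg.Agent.Lib.Helper18_D4OutGen Cfsg.Agent.Lib.Helper18_D4OutA
  Cfsg.Agent.Lib.Helper18_D4OutB Cfsg.Agent.Lib.Helper18_D4OutC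

section abstract

variable {A : Type*} [Group A]

/-- If `g` conjugates `D` into `I ⊔ D` and `I` is normal, then `g` conjugates `I ⊔ D` into itself. -/
theorem conj_mem_sup (I D : Subgroup A) [hI : I.Normal] (g : A)
    (hD : ∀ d ∈ D, g * d * g⁻¹ ∈ I ⊔ D) : ∀ n ∈ I ⊔ D, g * n * g⁻¹ ∈ I ⊔ D := by
  intro n hn
  have hle : I ⊔ D ≤ (I ⊔ D).comap (MulAut.conj g).toMonoidHom := by
    apply sup_le
    · intro x hx
      rw [Subgroup.mem_comap]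
      exact (le_sup_left : I ≤ I ⊔ D) (hI.conj_mem x hx g)
    · intro x hx
      rw [Subgroup.mem_comap]
      exact hD x hx
  exact hle hn

/-- A subgroup `Γ` conjugating `D` into `I ⊔ D` normalises `I ⊔ D`. -/
theorem le_normalizer_sup (I D Γ : Subgroup A) [hI : I.Normal]
    (hΓ : ∀ g ∈ Γ, ∀ d ∈ D, g * d * g⁻¹ ∈ I ⊔ D) : Γ ≤ Subgroup.normalizer ((I ⊔ D : Subgroup A) : Set A) := by
  intro g hg
  rw [Subgroup.mem_normalizer_iff]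
  intro h
  constructor
  · intro hh
    exact conj_mem_sup I D g (hΓ g hg) h hh
  · intro hh
    have h1 := conj_mem_sup I D g⁻¹ (hΓ g⁻¹ (Γ.inv_mem hg)) _ hh
    have h2 : g⁻¹ * (g * h * g⁻¹) * g⁻¹⁻¹ = h := by group
    rw [h2] at h1
    exact h1

/-- Normality of `I ⊔ D` from a decomposition of the whole group modulo `I`. -/
theorem normal_sup_of_decomp (I D Γ Φ : Subgroup A) [hI : I.Normal]
    (hdec : ∀ θ : A, ∃ d ∈ D, ∃ g ∈ Γ, ∃ φ ∈ Φ,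
      QuotientGroup.mk' I θ = QuotientGroup.mk' I d * QuotientGroup.mk' I g * QuotientGroup.mk' I φ)
    (hΓ : ∀ g ∈ Γ, ∀ d ∈ D, g * d * g⁻¹ ∈ D)
    (hΦ : ∀ φ ∈ Φ, ∀ d ∈ D, φ * d * φ⁻¹ ∈ D) : (I ⊔ D).Normal := by
  rw [← Subgroup.normalizer_eq_top_iff, eq_top_iff]
  intro θ _
  obtain ⟨d, hd, g, hg, φ, hφ, e⟩ := hdec θ
  have hΓ' : Γ ≤ Subgroup.normalizer ((I ⊔ D : Subgroup A) : Set A) :=
    le_normalizer_sup I D Γ (fun g hg d hd => (le_sup_right : D ≤ I ⊔ D) (hΓ g hg d hd))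
  have hΦ' : Φ ≤ Subgroup.normalizer ((I ⊔ D : Subgroup A) : Set A) :=
    le_normalizer_sup I D Φ (fun g hg d hd => (le_sup_right : D ≤ I ⊔ D) (hΦ g hg d hd))
  have hN : I ⊔ D ≤ Subgroup.normalizer ((I ⊔ D : Subgroup A) : Set A) := Subgroup.le_normalizer
  have e' : (QuotientGroup.mk' I θ) = QuotientGroup.mk' I (d * g * φ) := by
    rw [e, map_mul, map_mul]
  have hj : (d * g * φ)⁻¹ * θ ∈ I := by
    have := (QuotientGroup.eq (s := I) (a := d * g * φ) (b := θ)).mp e'.symm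
    exact this
  have hθ : θ = (d * g * φ) * ((d * g * φ)⁻¹ * θ) := by group
  rw [hθ]
  refine Subgroup.mul_mem _ (Subgroup.mul_mem _ (Subgroup.mul_mem _ ?_ (hΓ' hg)) (hΦ' hφ)) ?_
  · exact hN ((le_sup_right : D ≤ I ⊔ D) hd)
  · exact hN ((le_sup_left : I ≤ I ⊔ D) hj)

end abstract

variable {F : Type*} [Field F] [Fintype F]

/-- `Inn ⊔ Diag` is normal in the automorphism group of `D₄(F)`. -/
theorem normal_inn_sup_diag :
    (Cfsg.Inn ↥(chevD4.group F) ⊔ diagD4 F).Normal := by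
  apply normal_sup_of_decomp (Cfsg.Inn ↥(chevD4.group F)) (diagD4 F) (graphD4 F) (fieldD4 F)
    decomp_out_D4
  · rintro g hg _ ⟨a, rfl⟩
    rw [diagHom_apply]
    exact graph_conj_diag cD4 tcD4 acertD4 divCertD4 honeD4 g hg a
  · rintro _ ⟨σ, rfl⟩ _ ⟨a, rfl⟩
    rw [diagHom_apply]
    exact field_conj_diag cD4 tcD4 acertD4 divCertD4 honeD4 σ a

/-- The index of `Inn` in `Inn ⊔ Diag` is `4` in odd characteristic. -/
theorem relIndex_inn_sup_diag (hodd : Odd (Fintype.card F)) :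
    (Cfsg.Inn ↥(chevD4.group F)).relIndex (Cfsg.Inn ↥(chevD4.group F) ⊔ diagD4 F) = 4 := by
  rw [Cfsg.Agent.Lib.Helper14_D4Match.relIndex_inn_eq_card _ le_sup_left, Subgroup.map_sup,
    QuotientGroup.map_mk'_self, bot_sup_eq, card_Dbar]
  have hgcd : (Fintype.card F - 1).gcd 2 = 2 := by
    apply Nat.gcd_eq_right
    obtain ⟨k, hk⟩ := hodd
    exact ⟨k, by omega⟩
  rw [hgcd]
  norm_num

end Cfsg.Agent.Lib.Helper44_D4Gamma
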