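import Mathlib
import Cfsg.Agent.Lib.Helper62_D72Defs

/-!
S3716 market (helper62), package KILL5: the shape `T5` is arithmetically impossible.
`e1 - e2` gives `F0 = F1`; `dP' - dQ` then gives `F2 = 1`, but `|F2| = φ 2 ≥ 2`.
-/

set_option autoImplicit false

namespace Cfsg.Agent.Lib.Helper44_D72_KILL5

open Cfsg Cfsg.Agent.Lib.Helper80_CharBasic Cfsg.Agent.Lib.Helper62_D72Defs

theorem kill5 {g : ℕ} {σ : Fin 7 → ℤ} {φ : Fin 7 → ℕ} (h : Exp T5 g σ φ) : False := by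
  -- signed degrees are nonzero
  have hF : ∀ j, (σ j * (φ j : ℤ)) ≠ 0 := by
    intro j
    have h2 := h.two j
    have h3 : ((φ j : ℕ) : ℤ) ≠ 0 := by
      have : (2 : ℤ) ≤ (φ j : ℤ) := by exact_mod_cast h2
      omega
    rcases h.sgn j with hs | hs <;> rw [hs] <;> simpa using h3
  have hFq : ∀ j, ((σ j * (φ j : ℤ) : ℤ) : ℚ) ≠ 0 := fun j => by exact_mod_cast hF j
  -- `g ≠ 0`
  have hg : (g : ℚ) ≠ 0 := by
    have h1 := h.sq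
    have h2 : (0 : ℤ) ≤ ∑ j, (φ j : ℤ) ^ 2 := Finset.sum_nonneg (fun j _ => by positivity)
    have h3 : (1 : ℤ) ≤ (g : ℤ) := by linarith
    have h4 : (g : ℤ) ≠ 0 := by omega
    exact_mod_cast h4
  have e1 := h.e1
  have e2 := h.e2
  have dP' := h.dP'
  have dQ := h.dQ
  rw [Fin.sum_univ_seven] at e1 e2 dP' dQ
  have hA : colA T5 0 = 2 ∧ colA T5 1 = -1 ∧ colA T5 2 = 1 ∧ colA T5 3 = 3 ∧ colA T5 4 = 1 ∧
      colA T5 5 = 1 ∧ colA T5 6 = 0 := by decide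
  have hD : colD T5 0 = -1 ∧ colD T5 1 = 2 ∧ colD T5 2 = 1 ∧ colD T5 3 = 0 ∧ colD T5 4 = 1 ∧
      colD T5 5 = 1 ∧ colD T5 6 = 3 := by decide
  obtain ⟨a0, a1, a2, a3, a4, a5, a6⟩ := hA
  obtain ⟨d0, d1, d2, d3, d4, d5, d6⟩ := hD
  rw [a0, a1, a2, a3, a4, a5, a6, d0, d1, d2, d3, d4, d5, d6] at e1 e2
  have hT : (T5 0 = (0,0,1,0)) ∧ (T5 1 = (0,1,0,0)) ∧ (T5 2 = (0,1,0,1)) ∧ (T5 3 = (0,1,1,1)) ∧
      (T5 4 = (1,0,0,1)) ∧ (T5 5 = (1,0,0,1)) ∧ (T5 6 = (1,1,1,0)) := by decide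
  obtain ⟨t0, t1, t2, t3, t4, t5, t6⟩ := hT
  rw [t0, t1, t2, t3, t4, t5, t6] at dP' dQ
  simp only [zero_mul, one_mul, add_zero, zero_add] at dP' dQ
  -- `F0 = F1`
  have h01 : ((σ 0 * (φ 0 : ℤ) : ℤ) : ℚ) = ((σ 1 * (φ 1 : ℤ) : ℤ) : ℚ) := by
    have h0 := hFq 0
    have h1 := hFq 1
    have h3 : (g : ℚ) * (6 / ((σ 1 * (φ 1 : ℤ) : ℤ) : ℚ) - 6 / ((σ 0 * (φ 0 : ℤ) : ℤ) : ℚ)) = 0 := by
      have := congrArg₂ (· - ·) e1 e2
      simp only [sub_self] at this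
      rw [← this]
      push_cast
      ring
    rcases mul_eq_zero.mp h3 with h4 | h4
    · exact absurd h4 hg
    · field_simp at h4
      linarith
  have h01' : σ 0 * (φ 0 : ℤ) = σ 1 * (φ 1 : ℤ) := by exact_mod_cast h01
  -- `F2 = 1`
  have h2 : σ 2 * (φ 2 : ℤ) = 1 := by linarith
  have h22 := h.two 2
  have h23 : (2 : ℤ) ≤ (φ 2 : ℤ) := by exact_mod_cast h22
  rcases h.sgn 2 with hs | hs <;> rw [hs] at h2 <;> omega

end Cfsg.Agent.Lib.Helper44_D72_KILL5
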