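import Mathlib
import Cfsg.Agent.Lib.Helper62_D72Defs

/-!
S3716 market (helper62): a GENERIC form of the packages REAL1 .. REAL6: if for each of the 40
canonical column types `τ` (nonzero vectors of `{0, ±1}⁴` up to sign) the number `cnt τ` of
characters with column `±τ` equals the number of columns of the table `T` equal to `τ`, then the
character table has the shape `T` (`IsShape`).
-/

set_option autoImplicit false

namespace Cfsg.Agent.Lib.Helper44_D72_REALgen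

open Cfsg Cfsg.Agent.Lib.Helper80_CharBasic Cfsg.Agent.Lib.Helper62_D72Defs

/-- the 40 canonical column types: nonzero vectors of `{0, ±1}⁴` whose first nonzero entry is `1`,
in the order of the hypotheses `h0 .. h39` of the packages REAL1 .. REAL6 -/
def types : List (ℤ × ℤ × ℤ × ℤ) :=
  [(0,0,0,1), (0,0,1,-1), (0,0,1,0), (0,0,1,1), (0,1,-1,-1), (0,1,-1,0), (0,1,-1,1), (0,1,0,-1),
   (0,1,0,0), (0,1,0,1), (0,1,1,-1), (0,1,1,0), (0,1,1,1), (1,-1,-1,-1), (1,-1,-1,0), (1,-1,-1,1),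
   (1,-1,0,-1), (1,-1,0,0), (1,-1,0,1), (1,-1,1,-1), (1,-1,1,0), (1,-1,1,1), (1,0,-1,-1),
   (1,0,-1,0), (1,0,-1,1), (1,0,0,-1), (1,0,0,0), (1,0,0,1), (1,0,1,-1), (1,0,1,0), (1,0,1,1),
   (1,1,-1,-1), (1,1,-1,0), (1,1,-1,1), (1,1,0,-1), (1,1,0,0), (1,1,0,1), (1,1,1,-1), (1,1,1,0),
   (1,1,1,1)]

/-- every nonzero vector of `{0, ±1}⁴` is `±τ` for a canonical type `τ` -/
lemma types_cover : ∀ p ∈ ([0, 1, -1] : List ℤ), ∀ q ∈ ([0, 1, -1] : List ℤ),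
    ∀ p' ∈ ([0, 1, -1] : List ℤ), ∀ q' ∈ ([0, 1, -1] : List ℤ),
    (p = 0 ∧ q = 0 ∧ p' = 0 ∧ q' = 0) ∨ ∃ τ ∈ types,
      (p = τ.1 ∧ q = τ.2.1 ∧ p' = τ.2.2.1 ∧ q' = τ.2.2.2) ∨
      (p = -τ.1 ∧ q = -τ.2.1 ∧ p' = -τ.2.2.1 ∧ q' = -τ.2.2.2) := by
  decide

/-- two canonical types proportional by signs are equal -/
lemma types_inj : ∀ τ ∈ types, ∀ τ' ∈ types, ∀ s ∈ ([1, -1] : List ℤ), ∀ s' ∈ ([1, -1] : List ℤ),
    (s * τ.1 = s' * τ'.1 ∧ s * τ.2.1 = s' * τ'.2.1 ∧ s * τ.2.2.1 = s' * τ'.2.2.1 ∧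
      s * τ.2.2.2 = s' * τ'.2.2.2) → τ = τ' := by
  decide

lemma mem_three {a : ℤ} (h : a = 0 ∨ a = 1 ∨ a = -1) : a ∈ ([0, 1, -1] : List ℤ) := by
  rcases h with h | h | h <;> simp [h]

lemma mem_two {a : ℤ} (h : a = 1 ∨ a = -1) : a ∈ ([1, -1] : List ℤ) := by
  rcases h with h | h <;> simp [h]

/-- **generic REAL**: the count vector determines the shape. -/
theorem real_gen {ι : Type*} [Fintype ι] {o : ι} {P Q P' Q' : ι → ℤ}
    (hent : ∀ i, i ≠ o → (P i = 0 ∨ P i = 1 ∨ P i = -1) ∧ (Q i = 0 ∨ Q i = 1 ∨ Q i = -1) ∧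
      (P' i = 0 ∨ P' i = 1 ∨ P' i = -1) ∧ (Q' i = 0 ∨ Q' i = 1 ∨ Q' i = -1))
    {n : ℕ} (T : Fin n → ℤ × ℤ × ℤ × ℤ) (hT : ∀ j, T j ∈ types)
    (hcount : ∀ τ ∈ types, cnt o P Q P' Q' τ.1 τ.2.1 τ.2.2.1 τ.2.2.2 =
      (Finset.univ.filter (fun j => T j = τ)).card) :
    IsShape o P Q P' Q' T := by
  classical
  -- the set of characters of type `τ`, the set of columns of `T` of type `τ`
  let A : ℤ × ℤ × ℤ × ℤ → Type _ := fun τ =>
    {i : ι // i ≠ o ∧ ((P i = τ.1 ∧ Q i = τ.2.1 ∧ P' i = τ.2.2.1 ∧ Q' i = τ.2.2.2) ∨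
      (P i = -τ.1 ∧ Q i = -τ.2.1 ∧ P' i = -τ.2.2.1 ∧ Q' i = -τ.2.2.2))}
  let J : ℤ × ℤ × ℤ × ℤ → Type := fun τ => {j : Fin n // T j = τ}
  have hequiv : ∀ τ, τ ∈ types → Nonempty (J τ ≃ A τ) := by
    intro τ hτ
    have h1 := hcount τ hτ
    unfold cnt at h1
    rw [Nat.card_eq_fintype_card] at h1
    rw [← Fintype.card_eq, Fintype.card_subtype]
    exact h1.symm
  let e : ∀ τ, τ ∈ types → (J τ ≃ A τ) := fun τ hτ => Classical.choice (hequiv τ hτ)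
  -- transport along equalities of types
  have htr : ∀ τ τ' (hτ : τ ∈ types) (hτ' : τ' ∈ types) (a : J τ) (b : J τ'), τ = τ' →
      (a.1 = b.1 ↔ (e τ hτ a).1 = (e τ' hτ' b).1) := by
    intro τ τ' hτ hτ' a b hττ'
    subst hττ'
    constructor
    · intro hab
      have : a = b := Subtype.ext hab
      rw [this]
    · intro hab
      have h1 : e τ hτ a = e τ hτ' b := Subtype.ext hab
      have h2 : a = b := (e τ hτ).injective h1
      rw [h2]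
  let idx : Fin n → ι := fun j => (e (T j) (hT j) ⟨j, rfl⟩).1
  have hidx : ∀ j, idx j ≠ o ∧
      ((P (idx j) = (T j).1 ∧ Q (idx j) = (T j).2.1 ∧ P' (idx j) = (T j).2.2.1 ∧
        Q' (idx j) = (T j).2.2.2) ∨
      (P (idx j) = -(T j).1 ∧ Q (idx j) = -(T j).2.1 ∧ P' (idx j) = -(T j).2.2.1 ∧
        Q' (idx j) = -(T j).2.2.2)) := fun j => (e (T j) (hT j) ⟨j, rfl⟩).2
  have hσ : ∀ j, ∃ s : ℤ, (s = 1 ∨ s = -1) ∧ P (idx j) = s * (T j).1 ∧
      Q (idx j) = s * (T j).2.1 ∧ P' (idx j) = s * (T j).2.2.1 ∧ Q' (idx j) = s * (T j).2.2.2 := by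
    intro j
    rcases (hidx j).2 with ⟨h1, h2, h3, h4⟩ | ⟨h1, h2, h3, h4⟩
    · exact ⟨1, Or.inl rfl, by rw [h1, one_mul], by rw [h2, one_mul], by rw [h3, one_mul],
        by rw [h4, one_mul]⟩
    · exact ⟨-1, Or.inr rfl, by rw [h1, neg_one_mul], by rw [h2, neg_one_mul],
        by rw [h3, neg_one_mul], by rw [h4, neg_one_mul]⟩
  choose σ hσ1 hσP hσQ hσP' hσQ' using hσ
  refine ⟨idx, σ, ?_, fun j => (hidx j).1, hσ1, fun j => ⟨hσP j, hσQ j, hσP' j, hσQ' j⟩, ?_⟩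
  · -- injectivity
    intro j j' hjj'
    have hTT : T j = T j' := by
      apply types_inj (T j) (hT j) (T j') (hT j') (σ j) (mem_two (hσ1 j)) (σ j') (mem_two (hσ1 j'))
      refine ⟨?_, ?_, ?_, ?_⟩
      · rw [← hσP j, ← hσP j', hjj']
      · rw [← hσQ j, ← hσQ j', hjj']
      · rw [← hσP' j, ← hσP' j', hjj']
      · rw [← hσQ' j, ← hσQ' j', hjj']
    have := (htr (T j) (T j') (hT j) (hT j') ⟨j, rfl⟩ ⟨j', rfl⟩ hTT).mpr hjj'
    exact this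
  · -- the other columns vanish
    intro i hio hij
    by_contra hne
    have hcol := hent i hio
    rcases types_cover (P i) (mem_three hcol.1) (Q i) (mem_three hcol.2.1) (P' i)
      (mem_three hcol.2.2.1) (Q' i) (mem_three hcol.2.2.2) with h0 | ⟨τ, hτ, hcase⟩
    · exact hne h0
    · let a : A τ := ⟨i, hio, hcase⟩
      obtain ⟨b, hb⟩ : ∃ b : J τ, e τ hτ b = a := (e τ hτ).surjective a
      have h1 := (htr (T b.1) τ (hT b.1) hτ ⟨b.1, rfl⟩ b b.2).mp rfl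
      have h2 : idx b.1 = i := by
        show (e (T b.1) (hT b.1) ⟨b.1, rfl⟩).1 = i
        rw [h1, hb]
      exact hij b.1 h2.symm

end Cfsg.Agent.Lib.Helper44_D72_REALgen
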