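import Mathlib
import Cfsg.Agent.Lib.Helper62_D72Defs
import Cfsg.Agent.Lib.Helper44_D72_REALgen

/-!
S3716 market (helper62), package REAL2: from the count vector to the shape `T2`
(instance of the generic lemma `Helper44_D72_REALgen.real_gen`).
-/

set_option autoImplicit false

namespace Cfsg.Agent.Lib.Helper44_D72_REAL2

open Cfsg Cfsg.Agent.Lib.Helper80_CharBasic Cfsg.Agent.Lib.Helper62_D72Defs

theorem real2 {ι : Type*} [Fintype ι] {o : ι} {P Q P' Q' : ι → ℤ}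
    (hent : ∀ i, i ≠ o → (P i = 0 ∨ P i = 1 ∨ P i = -1) ∧ (Q i = 0 ∨ Q i = 1 ∨ Q i = -1) ∧
      (P' i = 0 ∨ P' i = 1 ∨ P' i = -1) ∧ (Q' i = 0 ∨ Q' i = 1 ∨ Q' i = -1))
    (c : ℤ → ℤ → ℤ → ℤ → ℕ) (hc : c = cnt o P Q P' Q')
    (h0 : c 0 0 0 1 = 1) (h1 : c 0 0 1 (-1) = 0) (h2 : c 0 0 1 0 = 0) (h3 : c 0 0 1 1 = 0) (h4 : c 0 1 (-1) (-1) = 0) (h5 : c 0 1 (-1) 0 = 0) (h6 : c 0 1 (-1) 1 = 0) (h7 : c 0 1 0 (-1) = 0) (h8 : c 0 1 0 0 = 1) (h9 : c 0 1 0 1 = 0) (h10 : c 0 1 1 (-1) = 0) (h11 : c 0 1 1 0 = 1) (h12 : c 0 1 1 1 = 1) (h13 : c 1 (-1) (-1) (-1) = 0) (h14 : c 1 (-1) (-1) 0 = 0) (h15 : c 1 (-1) (-1) 1 = 0) (h16 : c 1 (-1) 0 (-1) = 0) (h17 : c 1 (-1) 0 0 = 0) (h18 : c 1 (-1) 0 1 = 0) (h19 : c 1 (-1) 1 (-1) = 0) (h20 : c 1 (-1) 1 0 = 0) (h21 : c 1 (-1) 1 1 = 0) (h22 : c 1 0 (-1) (-1) = 0) (h23 : c 1 0 (-1) 0 = 0) (h24 : c 1 0 (-1) 1 = 0) (h25 : c 1 0 0 (-1) = 0) (h26 : c 1 0 0 0 = 0) (h27 : c 1 0 0 1 = 1) (h28 : c 1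 0 1 (-1) = 0) (h29 : c 1 0 1 0 = 1) (h30 : c 1 0 1 1 = 0) (h31 : c 1 1 (-1) (-1) = 0) (h32 : c 1 1 (-1) 0 = 0) (h33 : c 1 1 (-1) 1 = 0) (h34 : c 1 1 0 (-1) = 0) (h35 : c 1 1 0 0 = 0) (h36 : c 1 1 0 1 = 1) (h37 : c 1 1 1 (-1) = 0) (h38 : c 1 1 1 0 = 0) (h39 : c 1 1 1 1 = 0) :
    IsShape o P Q P' Q' T2 := by
  subst hc
  apply Cfsg.Agent.Lib.Helper44_D72_REALgen.real_gen hent T2 (by decide)
  intro τ hτ
  simp only [Cfsg.Agent.Lib.Helper44_D72_REALgen.types, List.mem_cons, List.not_mem_nil, or_false] at hτ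
  rcases hτ with rfl | rfl | rfl | rfl | rfl | rfl | rfl | rfl | rfl | rfl | rfl | rfl | rfl | rfl | rfl | rfl | rfl | rfl | rfl | rfl | rfl | rfl | rfl | rfl | rfl | rfl | rfl | rfl | rfl | rfl | rfl | rfl | rfl | rfl | rfl | rfl | rfl | rfl | rfl | rfl
  · exact h0.trans (by decide)
  · exact h1.trans (by decide)
  · exact h2.trans (by decide)
  · exact h3.trans (by decide)
  · exact h4.trans (by decide)
  · exact h5.trans (by decide)
  · exact h6.trans (by decide)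
  · exact h7.trans (by decide)
  · exact h8.trans (by decide)
  · exact h9.trans (by decide)
  · exact h10.trans (by decide)
  · exact h11.trans (by decide)
  · exact h12.trans (by decide)
  · exact h13.trans (by decide)
  · exact h14.trans (by decide)
  · exact h15.trans (by decide)
  · exact h16.trans (by decide)
  · exact h17.trans (by decide)
  · exact h18.trans (by decide)
  · exact h19.trans (by decide)
  · exact h20.trans (by decide)
  · exact h21.trans (by decide)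
  · exact h22.trans (by decide)
  · exact h23.trans (by decide)
  · exact h24.trans (by decide)
  · exact h25.trans (by decide)
  · exact h26.trans (by decide)
  · exact h27.trans (by decide)
  · exact h28.trans (by decide)
  · exact h29.trans (by decide)
  · exact h30.trans (by decide)
  · exact h31.trans (by decide)
  · exact h32.trans (by decide)
  · exact h33.trans (by decide)
  · exact h34.trans (by decide)
  · exact h35.trans (by decide)
  · exact h36.trans (by decide)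
  · exact h37.trans (by decide)
  · exact h38.trans (by decide)
  · exact h39.trans (by decide)

end Cfsg.Agent.Lib.Helper44_D72_REAL2
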