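import Mathlib

/-!
# Fundamental theorem of projective geometry (coordinate version)

A map `φ` on vectors of `ι → F` (`|ι| ≥ 3`) that is bijective on points and preserves
collinearity in both directions is induced by a semilinear bijection.
-/

set_option autoImplicit false

namespace Cfsg.Agent.Lib.Helper44_FTPG

open Matrix

set_option linter.unusedSectionVars false

variable {ι : Type*} {F : Type*} [Field F]

/-- proportional vectors -/
def Sim (v w : ι → F) : Prop := ∃ c : F, c ≠ 0 ∧ w = c • v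

theorem Sim.refl (v : ι → F) : Sim v v := ⟨1, one_ne_zero, (one_smul _ _).symm⟩

theorem Sim.symm {v w : ι → F} (h : Sim v w) : Sim w v := by
  obtain ⟨c, hc, rfl⟩ := h
  exact ⟨c⁻¹, inv_ne_zero hc, by rw [smul_smul, inv_mul_cancel₀ hc, one_smul]⟩

theorem Sim.trans {u v w : ι → F} (h1 : Sim u v) (h2 : Sim v w) : Sim u w := by
  obtain ⟨c, hc, rfl⟩ := h1
  obtain ⟨d, hd, rfl⟩ := h2
  exact ⟨d * c, mul_ne_zero hd hc, by rw [smul_smul]⟩

theorem Sim.ne_zero {v w : ι → F} (h : Sim v w) (hv : v ≠ 0) : w ≠ 0 := by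
  obtain ⟨c, hc, rfl⟩ := h
  exact smul_ne_zero hc hv

theorem Sim.smul {v : ι → F} {c : F} (hc : c ≠ 0) : Sim v (c • v) := ⟨c, hc, rfl⟩

/-- collineation data -/
structure Coll (φ : (ι → F) → (ι → F)) : Prop where
  ne : ∀ v, v ≠ 0 → φ v ≠ 0
  surj : ∀ w, w ≠ 0 → ∃ v, v ≠ 0 ∧ Sim (φ v) w
  col : ∀ u v w, u ≠ 0 → v ≠ 0 → w ≠ 0 →
    (u ∈ Submodule.span F {v, w} ↔ φ u ∈ Submodule.span F {φ v, φ w})

variable {φ : (ι → F) → (ι → F)}

theorem Coll.sim (hφ : Coll φ) {v w : ι → F} (hv : v ≠ 0) (h : Sim v w) : Sim (φ v) (φ w) := by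
  have hw := h.ne_zero hv
  obtain ⟨c, hc, rfl⟩ := h
  have h1 : c • v ∈ Submodule.span F {v, v} :=
    Submodule.smul_mem _ _ (Submodule.subset_span (by simp))
  have h2 := (hφ.col _ _ _ hw hv hv).mp h1
  rw [Set.pair_eq_singleton, Submodule.mem_span_singleton] at h2
  obtain ⟨a, ha⟩ := h2
  refine ⟨a, ?_, ha.symm⟩
  rintro rfl
  rw [zero_smul] at ha
  exact hφ.ne _ hw ha.symm

theorem Coll.inj (hφ : Coll φ) {v w : ι → F} (hv : v ≠ 0) (hw : w ≠ 0)
    (h : Sim (φ v) (φ w)) : Sim v w := by
  obtain ⟨c, hc, hcw⟩ := h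
  have h1 : φ w ∈ Submodule.span F {φ v, φ v} := by
    rw [hcw]
    exact Submodule.smul_mem _ _ (Submodule.subset_span (by simp))
  have h2 := (hφ.col _ _ _ hw hv hv).mpr h1
  rw [Set.pair_eq_singleton, Submodule.mem_span_singleton] at h2
  obtain ⟨a, ha⟩ := h2
  refine ⟨a, ?_, ha.symm⟩
  rintro rfl
  rw [zero_smul] at ha
  exact hw ha.symm

/-- forward preservation of spans -/
theorem Coll.span_forward (hφ : Coll φ) (T : Finset (ι → F)) :
    (∀ t ∈ T, t ≠ 0) → ∀ u : ι → F, u ≠ 0 → u ∈ Submodule.span F (T : Set (ι → F)) →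
      φ u ∈ Submodule.span F (φ '' (T : Set (ι → F))) := by
  classical
  induction T using Finset.induction_on with
  | empty =>
    intro _ u hu hmem
    simp at hmem
    exact absurd hmem hu
  | insert a T' ha ih =>
    intro hT u hu hmem
    have ha0 : a ≠ 0 := hT a (Finset.mem_insert_self _ _)
    have hT' : ∀ t ∈ T', t ≠ 0 := fun t ht => hT t (Finset.mem_insert_of_mem ht)
    rw [Finset.coe_insert, Submodule.mem_span_insert] at hmem
    obtain ⟨c, z, hz, rfl⟩ := hmem
    rw [Finset.coe_insert, Set.image_insert_eq]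
    have hsub : Submodule.span F (φ '' (T' : Set (ι → F))) ≤
        Submodule.span F (insert (φ a) (φ '' (T' : Set (ι → F)))) :=
      Submodule.span_mono (Set.subset_insert _ _)
    have hφa : φ a ∈ Submodule.span F (insert (φ a) (φ '' (T' : Set (ι → F)))) :=
      Submodule.subset_span (Set.mem_insert _ _)
    by_cases hz0 : z = 0
    · subst hz0
      rw [add_zero] at hu ⊢
      have hc : c ≠ 0 := by
        rintro rfl
        exact hu (zero_smul _ _)
      obtain ⟨d, _, hd⟩ := hφ.sim ha0 (Sim.smul (v := a) hc)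
      rw [hd]
      exact Submodule.smul_mem _ _ hφa
    · by_cases hc : c = 0
      · subst hc
        rw [zero_smul, zero_add] at hu ⊢
        exact hsub (ih hT' z hz0 hz)
      · have h1 : c • a + z ∈ Submodule.span F {a, z} := by
          rw [Submodule.mem_span_pair]
          exact ⟨c, 1, by rw [one_smul]⟩
        have h2 := (hφ.col _ _ _ hu ha0 hz0).mp h1
        have h3 : Submodule.span F {φ a, φ z} ≤
            Submodule.span F (insert (φ a) (φ '' (T' : Set (ι → F)))) := by
          rw [Submodule.span_le]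
          rintro x (rfl | rfl)
          · exact hφa
          · exact hsub (ih hT' _ hz0 hz)
        exact h3 h2

/-- backward preservation of spans -/
theorem Coll.span_backward (hφ : Coll φ) (T : Finset (ι → F)) :
    (∀ t ∈ T, t ≠ 0) → ∀ u : ι → F, u ≠ 0 → φ u ∈ Submodule.span F (φ '' (T : Set (ι → F))) →
      u ∈ Submodule.span F (T : Set (ι → F)) := by
  classical
  induction T using Finset.induction_on with
  | empty =>
    intro _ u hu hmem
    simp at hmem
    exact absurd hmem (hφ.ne u hu)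
  | insert a T' ha ih =>
    intro hT u hu hmem
    have ha0 : a ≠ 0 := hT a (Finset.mem_insert_self _ _)
    have hT' : ∀ t ∈ T', t ≠ 0 := fun t ht => hT t (Finset.mem_insert_of_mem ht)
    rw [Finset.coe_insert, Set.image_insert_eq, Submodule.mem_span_insert] at hmem
    obtain ⟨c, z, hz, hcz⟩ := hmem
    rw [Finset.coe_insert]
    have hsub : Submodule.span F (T' : Set (ι → F)) ≤
        Submodule.span F (insert a (T' : Set (ι → F))) :=
      Submodule.span_mono (Set.subset_insert _ _)
    have hamem : a ∈ Submodule.span F (insert a (T' : Set (ι → F))) :=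
      Submodule.subset_span (Set.mem_insert _ _)
    by_cases hz0 : z = 0
    · subst hz0
      rw [add_zero] at hcz
      have h1 : φ u ∈ Submodule.span F {φ a, φ a} := by
        rw [hcz]
        exact Submodule.smul_mem _ _ (Submodule.subset_span (by simp))
      have h2 := (hφ.col _ _ _ hu ha0 ha0).mpr h1
      rw [Set.pair_eq_singleton, Submodule.mem_span_singleton] at h2
      obtain ⟨d, rfl⟩ := h2
      exact Submodule.smul_mem _ _ hamem
    · by_cases hc : c = 0
      · subst hc
        rw [zero_smul, zero_add] at hcz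
        rw [← hcz] at hz
        exact hsub (ih hT' u hu hz)
      · obtain ⟨x, hx0, d, hd, hdx⟩ := hφ.surj z hz0
        have hφx : φ x ∈ Submodule.span F (φ '' (T' : Set (ι → F))) := by
          have : φ x = d⁻¹ • z := by rw [hdx, smul_smul, inv_mul_cancel₀ hd, one_smul]
          rw [this]
          exact Submodule.smul_mem _ _ hz
        have hx : x ∈ Submodule.span F (T' : Set (ι → F)) := ih hT' x hx0 hφx
        have h1 : φ u ∈ Submodule.span F {φ a, φ x} := by
          rw [Submodule.mem_span_pair]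
          exact ⟨c, d, by rw [hcz, hdx]⟩
        have h2 := (hφ.col _ _ _ hu ha0 hx0).mpr h1
        have h3 : Submodule.span F {a, x} ≤
            Submodule.span F (insert a (T' : Set (ι → F))) := by
          rw [Submodule.span_le]
          rintro y (rfl | rfl)
          · exact hamem
          · exact hsub hx
        exact h3 h2

theorem Coll.col_apply (hφ : Coll φ) {u v w : ι → F} (hu : u ≠ 0) (hv : v ≠ 0) (hw : w ≠ 0)
    (h : u ∈ Submodule.span F {v, w}) {v' w' : ι → F} (hv' : Sim v' (φ v)) (hw' : Sim w' (φ w)) :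
    ∃ a b : F, φ u = a • v' + b • w' := by
  have h1 := (hφ.col _ _ _ hu hv hw).mp h
  rw [Submodule.mem_span_pair] at h1
  obtain ⟨a, b, hab⟩ := h1
  obtain ⟨c, _, hc⟩ := hv'
  obtain ⟨d, _, hd⟩ := hw'
  exact ⟨a * c, b * d, by rw [← hab, hc, hd, smul_smul, smul_smul]⟩

section coords

variable [Fintype ι] [DecidableEq ι]

/-- standard basis vector -/
abbrev E (i : ι) : ι → F := Pi.single i 1

theorem E_ne_zero (i : ι) : (E i : ι → F) ≠ 0 := by
  intro h
  have := congrFun h i
  simp [E] at this

theorem mem_span_E_iff (S : Finset ι) (v : ι → F) :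
    v ∈ Submodule.span F ((E (F := F)) '' (S : Set ι)) ↔ ∀ i, i ∉ S → v i = 0 := by
  constructor
  · intro h
    induction h using Submodule.span_induction with
    | mem x hx =>
      obtain ⟨j, hj, rfl⟩ := hx
      intro i hi
      have : i ≠ j := by
        rintro rfl
        exact hi hj
      simp [E, Pi.single_apply, this]
    | zero => intro i _; rfl
    | add x y _ _ hx hy =>
      intro i hi
      rw [Pi.add_apply, hx i hi, hy i hi, add_zero]
    | smul a x _ hx =>
      intro i hi
      rw [Pi.smul_apply, hx i hi, smul_zero]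
  · intro h
    have hv : v = ∑ i ∈ S, v i • (E i : ι → F) := by
      ext j
      rw [Finset.sum_apply]
      simp only [E, Pi.smul_apply, Pi.single_apply, smul_eq_mul, mul_ite, mul_one, mul_zero]
      rw [Finset.sum_ite_eq]
      split_ifs with hj
      · rfl
      · exact h j hj
    rw [hv]
    exact Submodule.sum_mem _ fun i hi =>
      Submodule.smul_mem _ _ (Submodule.subset_span ⟨i, hi, rfl⟩)

theorem Coll.supp (hφ : Coll φ) (hE : ∀ i, Sim (E i) (φ (E i))) (S : Finset ι) {v : ι → F}
    (hv : v ≠ 0) : (∀ i, i ∉ S → φ v i = 0) ↔ (∀ i, i ∉ S → v i = 0) := by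
  classical
  set T : Finset (ι → F) := S.image (E (F := F)) with hT
  have hTc : (T : Set (ι → F)) = (E (F := F)) '' (S : Set ι) := by
    rw [hT, Finset.coe_image]
  have hT0 : ∀ t ∈ T, t ≠ 0 := by
    intro t ht
    rw [hT, Finset.mem_image] at ht
    obtain ⟨i, _, rfl⟩ := ht
    exact E_ne_zero i
  have hspan : Submodule.span F (φ '' (T : Set (ι → F))) = Submodule.span F (T : Set (ι → F)) := by
    apply le_antisymm
    · rw [Submodule.span_le]
      rintro _ ⟨t, ht, rfl⟩
      rw [hTc] at ht
      obtain ⟨i, hi, rfl⟩ := ht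
      obtain ⟨c, _, hc⟩ := hE i
      rw [hc]
      exact Submodule.smul_mem _ _ (Submodule.subset_span (by rw [hTc]; exact ⟨i, hi, rfl⟩))
    · rw [Submodule.span_le]
      intro t ht
      have ht' := ht
      rw [hTc] at ht'
      obtain ⟨i, hi, rfl⟩ := ht'
      obtain ⟨c, hc0, hc⟩ := hE i
      have : (E i : ι → F) = c⁻¹ • φ (E i) := by
        rw [hc, smul_smul, inv_mul_cancel₀ hc0, one_smul]
      rw [this]
      exact Submodule.smul_mem _ _ (Submodule.subset_span ⟨_, ht, rfl⟩)
  rw [← mem_span_E_iff, ← mem_span_E_iff, ← hTc, ← hspan]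
  constructor
  · intro h
    rw [hspan]
    exact hφ.span_backward T hT0 v hv h
  · intro h
    rw [hspan] at h
    exact hφ.span_forward T hT0 v hv h

theorem Coll.apply_eq_zero_iff (hφ : Coll φ) (hE : ∀ i, Sim (E i) (φ (E i))) {v : ι → F}
    (hv : v ≠ 0) (i : ι) : φ v i = 0 ↔ v i = 0 := by
  have h := hφ.supp hE (Finset.univ.erase i) hv
  constructor
  · intro h0
    refine h.mp ?_ i (by simp)
    intro j hj
    have : j = i := by
      by_contra hne
      exact hj (Finset.mem_erase.mpr ⟨hne, Finset.mem_univ _⟩)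
    rw [this]; exact h0
  · intro h0
    refine h.mpr ?_ i (by simp)
    intro j hj
    have : j = i := by
      by_contra hne
      exact hj (Finset.mem_erase.mpr ⟨hne, Finset.mem_univ _⟩)
    rw [this]; exact h0

end coords

section main

variable [Fintype ι] [DecidableEq ι]

/-- indicator vector -/
def ind (S : Finset ι) : ι → F := fun i => if i ∈ S then 1 else 0

theorem ind_ne_zero {S : Finset ι} (hS : S.Nonempty) : (ind S : ι → F) ≠ 0 := by
  obtain ⟨i, hi⟩ := hS
  intro h
  have := congrFun h i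
  simp [ind, hi] at this

theorem Coll.ind_sim (hφ : Coll φ) (hE : ∀ i, Sim (E i) (φ (E i)))
    (hU : Sim (fun _ => (1 : F)) (φ (fun _ => 1))) (S : Finset ι) (hS : S.Nonempty) :
    Sim (ind S) (φ (ind S)) := by
  by_cases hSu : S = Finset.univ
  · have : (ind S : ι → F) = fun _ => 1 := by
      ext i; simp [ind, hSu]
    rw [this]; exact hU
  · have hSc : (Sᶜ).Nonempty := by
      rw [Finset.nonempty_iff_ne_empty]
      intro h
      exact hSu ((Finset.compl_eq_empty_iff S).mp h)
    have hu0 : (fun _ : ι => (1 : F)) ≠ 0 := by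
      obtain ⟨i, _⟩ := hS
      intro h
      have := congrFun h i
      simp at this
    have hmem : (fun _ : ι => (1 : F)) ∈ Submodule.span F {(ind S : ι → F), ind Sᶜ} := by
      rw [Submodule.mem_span_pair]
      refine ⟨1, 1, ?_⟩
      ext i
      by_cases hi : i ∈ S <;> simp [ind, hi]
    obtain ⟨a, b, hab⟩ := hφ.col_apply hu0 (ind_ne_zero hS) (ind_ne_zero hSc) hmem
      (Sim.refl _) (Sim.refl _)
    obtain ⟨k, hk0, hk⟩ := hU
    have h1 : ∀ i, i ∈ S → k = a * φ (ind S) i := by
      intro i hi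
      have h2 : φ (ind Sᶜ) i = 0 := by
        rw [hφ.apply_eq_zero_iff hE (ind_ne_zero hSc)]
        simp [ind, hi]
      have h3 := congrFun hab i
      rw [hk] at h3
      simp only [Pi.smul_apply, Pi.add_apply, smul_eq_mul, mul_one, h2, mul_zero, add_zero] at h3
      exact h3
    have ha : a ≠ 0 := by
      rintro rfl
      obtain ⟨i, hi⟩ := hS
      have := h1 i hi
      rw [zero_mul] at this
      exact hk0 this
    refine ⟨k / a, div_ne_zero hk0 ha, ?_⟩
    ext i
    by_cases hi : i ∈ S
    · have := h1 i hi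
      simp only [Pi.smul_apply, ind, hi, if_true, smul_eq_mul, mul_one]
      field_simp
      rw [this]; ring
    · have h2 : φ (ind S) i = 0 := by
        rw [hφ.apply_eq_zero_iff hE (ind_ne_zero hS)]
        simp [ind, hi]
      simp [ind, hi, h2]

/-- the coordinate function attached to the pair `(i, j)` -/
noncomputable def sg (φ : (ι → F) → (ι → F)) (i j : ι) (x : F) : F :=
  φ (E i + x • E j) j / φ (E i + x • E j) i

theorem E_add_ne_zero {i j : ι} (hij : i ≠ j) (x : F) : (E i + x • E j : ι → F) ≠ 0 := by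
  intro h
  have := congrFun h i
  simp [E, hij] at this

theorem Coll.pair_eq (hφ : Coll φ) (hE : ∀ i, Sim (E i) (φ (E i))) {i j : ι} (hij : i ≠ j)
    (x : F) : φ (E i + x • E j) i ≠ 0 ∧
      φ (E i + x • E j) = φ (E i + x • E j) i • (E i + sg φ i j x • E j) := by
  have hv0 := E_add_ne_zero (F := F) hij x
  have hi : φ (E i + x • E j) i ≠ 0 := by
    rw [Ne, hφ.apply_eq_zero_iff hE hv0]
    simp [E, hij]
  refine ⟨hi, ?_⟩
  ext l
  by_cases hli : l = i
  · subst hli
    simp [E, hij]
  · by_cases hlj : l = j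
    · subst hlj
      simp only [sg, Pi.smul_apply, Pi.add_apply, E, Pi.single_eq_same, smul_eq_mul, mul_one,
        Pi.single_eq_of_ne hli, zero_add]
      field_simp
    · have h0 : φ (E i + x • E j) l = 0 := by
        rw [hφ.apply_eq_zero_iff hE hv0]
        simp [E, hli, hlj]
      simp [E, hli, hlj, h0]

theorem Coll.pair_sim (hφ : Coll φ) (hE : ∀ i, Sim (E i) (φ (E i))) {i j : ι} (hij : i ≠ j)
    (x : F) : Sim (E i + sg φ i j x • E j) (φ (E i + x • E j)) :=
  ⟨_, (hφ.pair_eq hE hij x).1, (hφ.pair_eq hE hij x).2⟩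

theorem Coll.sg_zero (hφ : Coll φ) (hE : ∀ i, Sim (E i) (φ (E i))) {i j : ι} (hij : i ≠ j) :
    sg φ i j 0 = 0 := by
  unfold sg
  have : φ (E i + (0 : F) • E j) j = 0 := by
    rw [hφ.apply_eq_zero_iff hE (E_add_ne_zero hij 0)]
    simp [E, hij.symm]
  rw [this, zero_div]

theorem Coll.sg_one (hφ : Coll φ) (hE : ∀ i, Sim (E i) (φ (E i)))
    (hU : Sim (fun _ => (1 : F)) (φ (fun _ => 1))) {i j : ι} (hij : i ≠ j) :
    sg φ i j 1 = 1 := by
  have h1 : (E i + (1 : F) • E j : ι → F) = ind {i, j} := by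
    ext l
    by_cases hli : l = i
    · subst hli; simp [E, ind, hij]
    · by_cases hlj : l = j
      · subst hlj; simp [E, ind, hli]
      · simp [E, ind, hli, hlj]
  obtain ⟨c, hc0, hc⟩ := hφ.ind_sim hE hU {i, j} ⟨i, by simp⟩
  unfold sg
  rw [h1, hc]
  simp [ind, hc0]

theorem Coll.triple_eq (hφ : Coll φ) (hE : ∀ i, Sim (E i) (φ (E i))) {i j k : ι} (hij : i ≠ j)
    (hik : i ≠ k) (hjk : j ≠ k) (x y : F) :
    ∃ a : F, a ≠ 0 ∧ φ (E i + x • E j + y • E k) =
      a • (E i + sg φ i j x • E j + sg φ i k y • E k) := by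
  set v : ι → F := E i + x • E j + y • E k with hv
  have hv0 : v ≠ 0 := by
    intro h
    have := congrFun h i
    simp [hv, E, hij, hik] at this
  have h1 : v ∈ Submodule.span F {(E i + x • E j : ι → F), E k} := by
    rw [Submodule.mem_span_pair]
    exact ⟨1, y, by rw [one_smul]⟩
  obtain ⟨a, b, hab⟩ := hφ.col_apply hv0 (E_add_ne_zero hij x) (E_ne_zero k) h1
    (hφ.pair_sim hE hij x) (hE k)
  have h2 : v ∈ Submodule.span F {(E i + y • E k : ι → F), E j} := by
    rw [Submodule.mem_span_pair]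
    exact ⟨1, x, by rw [one_smul, hv]; abel⟩
  obtain ⟨c, d, hcd⟩ := hφ.col_apply hv0 (E_add_ne_zero hik y) (E_ne_zero j) h2
    (hφ.pair_sim hE hik y) (hE j)
  have hji := hij.symm
  have hki := hik.symm
  have hkj := hjk.symm
  have hi1 : φ v i = a := by
    have := congrFun hab i
    simpa [E, hij, hik] using this
  have hi2 : φ v i = c := by
    have := congrFun hcd i
    simpa [E, hij, hik] using this
  have hj1 : φ v j = a * sg φ i j x := by
    have := congrFun hab j
    simpa [E, hji, hjk] using this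
  have hk2 : φ v k = c * sg φ i k y := by
    have := congrFun hcd k
    simpa [E, hki, hkj] using this
  have ha : a ≠ 0 := by
    rw [← hi1, Ne, hφ.apply_eq_zero_iff hE hv0]
    simp [hv, E, hij, hik]
  refine ⟨a, ha, ?_⟩
  ext l
  by_cases hli : l = i
  · subst hli
    rw [hi1]
    simp [E, hij, hik]
  · by_cases hlj : l = j
    · subst hlj
      rw [hj1]
      simp [E, hli, hjk]
    · by_cases hlk : l = k
      · subst hlk
        rw [hk2, ← hi2, hi1]
        simp [E, hli, hlj]
      · have := congrFun hab l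
        rw [this]
        simp [E, hli, hlj, hlk]

theorem Coll.triple_sim (hφ : Coll φ) (hE : ∀ i, Sim (E i) (φ (E i))) {i j k : ι} (hij : i ≠ j)
    (hik : i ≠ k) (hjk : j ≠ k) (x y : F) :
    Sim (E i + sg φ i j x • E j + sg φ i k y • E k) (φ (E i + x • E j + y • E k)) := by
  obtain ⟨a, ha, h⟩ := hφ.triple_eq hE hij hik hjk x y
  exact ⟨a, ha, h⟩

theorem triple_ne_zero {i j k : ι} (hij : i ≠ j) (hik : i ≠ k) (x y : F) :
    (E i + x • E j + y • E k : ι → F) ≠ 0 := by
  intro h
  have := congrFun h i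
  simp [E, hij, hik] at this

/-- same first index -/
theorem Coll.sg_snd (hφ : Coll φ) (hE : ∀ i, Sim (E i) (φ (E i)))
    (hU : Sim (fun _ => (1 : F)) (φ (fun _ => 1))) {i j k : ι} (hij : i ≠ j)
    (hik : i ≠ k) (hjk : j ≠ k) (x : F) : sg φ i j x = sg φ i k x := by
  have hv0 := triple_ne_zero (F := F) hij hik x x
  have h1 : (E i + x • E j + x • E k : ι → F) ∈
      Submodule.span F {(E i : ι → F), E j + (1 : F) • E k} := by
    rw [Submodule.mem_span_pair]
    exact ⟨1, x, by rw [one_smul, one_smul, smul_add]; abel⟩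
  have hs := hφ.pair_sim hE hjk 1
  rw [hφ.sg_one hE hU hjk] at hs
  obtain ⟨a', b', hab⟩ := hφ.col_apply hv0 (E_ne_zero i) (E_add_ne_zero hjk 1) h1 (hE i) hs
  obtain ⟨a, ha, h⟩ := hφ.triple_eq hE hij hik hjk x x
  rw [h] at hab
  have hji := hij.symm
  have hki := hik.symm
  have hkj := hjk.symm
  have hj := congrFun hab j
  have hk := congrFun hab k
  simp [E, hji, hjk] at hj
  simp [E, hki, hkj] at hk
  have : a * sg φ i j x = a * sg φ i k x := by rw [hj, hk]
  exact mul_left_cancel₀ ha this

/-- same second index -/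
theorem Coll.sg_fst (hφ : Coll φ) (hE : ∀ i, Sim (E i) (φ (E i)))
    (hU : Sim (fun _ => (1 : F)) (φ (fun _ => 1))) {i j k : ι} (hij : i ≠ j)
    (hik : i ≠ k) (hjk : j ≠ k) (x : F) : sg φ j k x = sg φ i k x := by
  have hw0 := E_add_ne_zero (F := F) hjk x
  have h1 : (E j + x • E k : ι → F) ∈
      Submodule.span F {(E i + (1 : F) • E j + x • E k : ι → F), E i} := by
    rw [Submodule.mem_span_pair]
    exact ⟨1, -1, by rw [one_smul, one_smul, neg_smul, one_smul]; abel⟩
  have hs := hφ.triple_sim hE hij hik hjk 1 x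
  rw [hφ.sg_one hE hU hij] at hs
  obtain ⟨a, b, hab⟩ := hφ.col_apply hw0 (triple_ne_zero hij hik 1 x) (E_ne_zero i) h1 hs (hE i)
  obtain ⟨hc, hceq⟩ := hφ.pair_eq hE hjk x
  rw [hceq] at hab
  have hji := hij.symm
  have hki := hik.symm
  have hkj := hjk.symm
  have hj := congrFun hab j
  have hk := congrFun hab k
  simp [E, hji, hjk] at hj
  simp [E, hki, hkj] at hk
  rw [hj] at hk
  have ha : a ≠ 0 := by
    rw [← hj]; exact hc
  exact mul_left_cancel₀ ha hk

theorem Coll.sg_eq (hφ : Coll φ) (hE : ∀ i, Sim (E i) (φ (E i)))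
    (hU : Sim (fun _ => (1 : F)) (φ (fun _ => 1))) (h3 : ∀ i j : ι, ∃ k, k ≠ i ∧ k ≠ j)
    {i j i' j' : ι} (hij : i ≠ j) (hij' : i' ≠ j') : sg φ i j = sg φ i' j' := by
  have hsnd : ∀ {i j k : ι}, i ≠ j → i ≠ k → sg φ i j = sg φ i k := by
    intro i j k hij hik
    by_cases hjk : j = k
    · rw [hjk]
    · ext x; exact hφ.sg_snd hE hU hij hik hjk x
  have hfst : ∀ {i j k : ι}, i ≠ k → j ≠ k → sg φ i k = sg φ j k := by
    intro i j k hik hjk
    by_cases hij : i = j
    · rw [hij]
    · ext x; exact (hφ.sg_fst hE hU (Ne.symm hij) hjk hik x)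
  by_cases h : i' = j
  · obtain ⟨k, hki, hkj⟩ := h3 i j
    subst h
    rw [hsnd hij hki.symm, hfst hki.symm hkj.symm, hsnd hkj.symm hij']
  · rw [hfst hij h, hsnd h hij']

theorem Coll.sg_mul (hφ : Coll φ) (hE : ∀ i, Sim (E i) (φ (E i)))
    (hU : Sim (fun _ => (1 : F)) (φ (fun _ => 1))) (h3 : ∀ i j : ι, ∃ k, k ≠ i ∧ k ≠ j)
    {i j : ι} (hij : i ≠ j) (x y : F) : sg φ i j (x * y) = sg φ i j x * sg φ i j y := by
  obtain ⟨k, hki, hkj⟩ := h3 i j
  have hik := hki.symm
  have hjk := hkj.symm
  have hji := hij.symm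
  have e1 : sg φ i k = sg φ i j := hφ.sg_eq hE hU h3 hik hij
  have e2 : sg φ j k = sg φ i j := hφ.sg_eq hE hU h3 hjk hij
  have hv0 := triple_ne_zero (F := F) hij hik x (x * y)
  have h1 : (E i + x • E j + (x * y) • E k : ι → F) ∈
      Submodule.span F {(E i : ι → F), E j + y • E k} := by
    rw [Submodule.mem_span_pair]
    exact ⟨1, x, by rw [one_smul, smul_add, smul_smul]; abel⟩
  obtain ⟨a', b', hab⟩ := hφ.col_apply hv0 (E_ne_zero i) (E_add_ne_zero hjk y) h1 (hE i)
    (hφ.pair_sim hE hjk y)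
  obtain ⟨a, ha, h⟩ := hφ.triple_eq hE hij hik hjk x (x * y)
  rw [h, e1, e2] at hab
  have hj := congrFun hab j
  have hk := congrFun hab k
  simp [E, hji, hjk] at hj
  simp [E, hki, hkj] at hk
  rw [← hj] at hk
  have : a * sg φ i j (x * y) = a * (sg φ i j x * sg φ i j y) := by rw [hk]; ring
  exact mul_left_cancel₀ ha this

theorem Coll.sg_add_aux (hφ : Coll φ) (hE : ∀ i, Sim (E i) (φ (E i)))
    (hU : Sim (fun _ => (1 : F)) (φ (fun _ => 1))) (h3 : ∀ i j : ι, ∃ k, k ≠ i ∧ k ≠ j)
    {i j : ι} (hij : i ≠ j) (x y : F) : sg φ i j (x + y) = sg φ i j x - sg φ i j (-y) := by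
  obtain ⟨k, hki, hkj⟩ := h3 i j
  have hik := hki.symm
  have hjk := hkj.symm
  have hji := hij.symm
  have e1 : sg φ i k = sg φ i j := hφ.sg_eq hE hU h3 hik hij
  have e2 : sg φ k j = sg φ i j := hφ.sg_eq hE hU h3 hkj hij
  have hv0 := E_add_ne_zero (F := F) hij (x + y)
  have h1 : (E i + (x + y) • E j : ι → F) ∈
      Submodule.span F {(E i + x • E j + (1 : F) • E k : ι → F), E k + (-y) • E j} := by
    rw [Submodule.mem_span_pair]
    exact ⟨1, -1, by rw [one_smul, one_smul, neg_smul, one_smul, neg_smul, add_smul]; abel⟩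
  have hs := hφ.triple_sim hE hij hik hjk x 1
  rw [hφ.sg_one hE hU hik] at hs
  obtain ⟨a, b, hab⟩ := hφ.col_apply hv0 (triple_ne_zero hij hik x 1) (E_add_ne_zero hkj (-y)) h1
    hs (hφ.pair_sim hE hkj (-y))
  obtain ⟨hc, hceq⟩ := hφ.pair_eq hE hij (x + y)
  rw [hceq, e2] at hab
  have hi := congrFun hab i
  have hj := congrFun hab j
  have hk := congrFun hab k
  simp [E, hij, hik] at hi
  simp [E, hji, hjk] at hj
  simp [E, hki, hkj] at hk
  have hb : b = -a := by
    have : a + b = 0 := hk.symm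
    linear_combination this
  rw [hi] at hj
  have ha : a ≠ 0 := by rw [← hi]; exact hc
  have : a * sg φ i j (x + y) = a * (sg φ i j x - sg φ i j (-y)) := by
    rw [hj, hb]; ring
  exact mul_left_cancel₀ ha this

theorem Coll.sg_add (hφ : Coll φ) (hE : ∀ i, Sim (E i) (φ (E i)))
    (hU : Sim (fun _ => (1 : F)) (φ (fun _ => 1))) (h3 : ∀ i j : ι, ∃ k, k ≠ i ∧ k ≠ j)
    {i j : ι} (hij : i ≠ j) (x y : F) : sg φ i j (x + y) = sg φ i j x + sg φ i j y := by
  have h0 := hφ.sg_add_aux hE hU h3 hij 0 y
  rw [zero_add, hφ.sg_zero hE hij, zero_sub] at h0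
  rw [hφ.sg_add_aux hE hU h3 hij x y, h0, sub_eq_add_neg]

/-- the field endomorphism -/
noncomputable def sgHom (hφ : Coll φ) (hE : ∀ i, Sim (E i) (φ (E i)))
    (hU : Sim (fun _ => (1 : F)) (φ (fun _ => 1))) (h3 : ∀ i j : ι, ∃ k, k ≠ i ∧ k ≠ j)
    {i j : ι} (hij : i ≠ j) : F →+* F where
  toFun := sg φ i j
  map_one' := hφ.sg_one hE hU hij
  map_mul' := hφ.sg_mul hE hU h3 hij
  map_zero' := hφ.sg_zero hE hij
  map_add' := hφ.sg_add hE hU h3 hij

theorem Coll.general (hφ : Coll φ) (hE : ∀ i, Sim (E i) (φ (E i)))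
    (hU : Sim (fun _ => (1 : F)) (φ (fun _ => 1))) (h3 : ∀ i j : ι, ∃ k, k ≠ i ∧ k ≠ j)
    {i0 i1 : ι} (h01 : i0 ≠ i1) (S : Finset ι) :
    ∀ v : ι → F, v ≠ 0 → (∀ i, i ∉ S → v i = 0) → Sim (fun i => sg φ i0 i1 (v i)) (φ v) := by
  classical
  set s : F →+* F := sgHom hφ hE hU h3 h01 with hs
  have hsapp : ∀ x, sg φ i0 i1 x = s x := fun x => rfl
  have hs0 : ∀ {x : F}, x ≠ 0 → s x ≠ 0 := fun {x} hx => (map_ne_zero s).mpr hx
  simp only [hsapp]
  induction S using Finset.induction_on with
  | empty =>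
    intro v hv hsupp
    exact absurd (funext fun i => hsupp i (Finset.notMem_empty i)) hv
  | insert j S hj ih =>
    intro v hv hsupp
    by_cases hvj : v j = 0
    · apply ih v hv
      intro i hi
      by_cases hij : i = j
      · rw [hij]; exact hvj
      · exact hsupp i (by simp [hij, hi])
    · set v' : ι → F := Function.update v j 0 with hv'def
      have hv'j : v' j = 0 := by simp [hv'def]
      have hv'l : ∀ l, l ≠ j → v' l = v l := fun l hl => by simp [hv'def, hl]
      by_cases hv' : v' = 0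
      · have hveq : v = v j • (E j : ι → F) := by
          ext l
          by_cases hl : l = j
          · subst hl; simp [E]
          · have := congrFun hv' l
            rw [hv'l l hl] at this
            simp [E, hl, this]
        have h1 : Sim (φ (E j)) (φ v) := hφ.sim (E_ne_zero j) ⟨v j, hvj, hveq⟩
        have h2 : Sim (E j : ι → F) (fun i => s (v i)) := by
          refine ⟨s (v j), hs0 hvj, ?_⟩
          ext l
          by_cases hl : l = j
          · subst hl; simp [E]
          · have := congrFun hv' l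
            rw [hv'l l hl] at this
            simp [E, hl, this]
        exact h2.symm.trans ((hE j).trans h1)
      · obtain ⟨i, hi⟩ : ∃ i, v' i ≠ 0 := by
          by_contra hcon
          push Not at hcon
          exact hv' (funext hcon)
        have hij : i ≠ j := by
          rintro rfl
          exact hi hv'j
        have hvi : v i ≠ 0 := by rw [← hv'l i hij]; exact hi
        have hsupp' : ∀ l, l ∉ S → v' l = 0 := by
          intro l hl
          by_cases hlj : l = j
          · rw [hlj]; exact hv'j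
          · rw [hv'l l hlj]
            exact hsupp l (by simp [hlj, hl])
        have IH1 := ih v' hv' hsupp'
        have mem1 : v ∈ Submodule.span F {v', (E j : ι → F)} := by
          rw [Submodule.mem_span_pair]
          refine ⟨1, v j, ?_⟩
          ext l
          by_cases hl : l = j
          · subst hl; simp [E, hv'j]
          · simp [E, hl, hv'l l hl]
        obtain ⟨a, b, hab⟩ := hφ.col_apply hv hv' (E_ne_zero j) mem1 IH1 (hE j)
        have habi : φ v i = a * s (v i) := by
          have := congrFun hab i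
          simpa [E, hij, hv'l i hij] using this
        have habj : φ v j = b := by
          have := congrFun hab j
          simpa [E, hv'j] using this
        have ha : a ≠ 0 := by
          rintro rfl
          rw [zero_mul, hφ.apply_eq_zero_iff hE hv] at habi
          exact hvi habi
        have key : b = a * s (v j) := by
          set r : F := v j / v i with hr
          have hvir : v i * r = v j := by rw [hr]; field_simp
          have e1 : sg φ i j = s := hφ.sg_eq hE hU h3 hij h01
          set v'' : ι → F := Function.update v' i 0 with hv''def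
          have hv''i : v'' i = 0 := by simp [hv''def]
          have hv''l : ∀ l, l ≠ i → v'' l = v' l := fun l hl => by simp [hv''def, hl]
          have hv''j : v'' j = 0 := by rw [hv''l j hij.symm]; exact hv'j
          by_cases hv'' : v'' = 0
          · have hveq : v = v i • (E i + r • E j : ι → F) := by
              ext l
              by_cases hli : l = i
              · subst hli; simp [E, hij]
              · by_cases hlj : l = j
                · subst hlj; simp [E, hli, hvir]
                · have := congrFun hv'' l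
                  rw [hv''l l hli, hv'l l hlj] at this
                  simp [E, hli, hlj, this]
            obtain ⟨c, hc, hceq⟩ := (hφ.pair_sim hE hij r).trans
              (hφ.sim (E_add_ne_zero hij r) ⟨v i, hvi, hveq⟩)
            rw [e1] at hceq
            have hi2 := congrFun hceq i
            have hj2 := congrFun hceq j
            simp [E, hij] at hi2
            simp [E, hij.symm] at hj2
            rw [← habj, hj2, ← hi2, habi, mul_assoc, ← map_mul, hvir]
          · have hsupp'' : ∀ l, l ∉ S → v'' l = 0 := by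
              intro l hl
              by_cases hli : l = i
              · rw [hli]; exact hv''i
              · rw [hv''l l hli]; exact hsupp' l hl
            have IH2 := ih v'' hv'' hsupp''
            have mem2 : v ∈ Submodule.span F {(E i + r • E j : ι → F), v''} := by
              rw [Submodule.mem_span_pair]
              refine ⟨v i, 1, ?_⟩
              ext l
              by_cases hli : l = i
              · subst hli; simp [E, hij, hv''i]
              · by_cases hlj : l = j
                · subst hlj; simp [E, hli, hvir, hv''j]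
                · simp [E, hli, hlj, hv''l l hli, hv'l l hlj]
            have hps := hφ.pair_sim hE hij r
            rw [e1] at hps
            obtain ⟨c, d, hcd⟩ := hφ.col_apply hv (E_add_ne_zero hij r) hv'' mem2 hps IH2
            have hi2 := congrFun hcd i
            have hj2 := congrFun hcd j
            simp [E, hij, hv''i] at hi2
            simp [E, hij.symm, hv''j] at hj2
            rw [← habj, hj2, ← hi2, habi, mul_assoc, ← map_mul, hvir]
        refine ⟨a, ha, ?_⟩
        ext l
        by_cases hl : l = j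
        · subst hl
          rw [habj, key]
          simp
        · have := congrFun hab l
          rw [this]
          simp [E, hl, hv'l l hl]

end main

section final

variable [Fintype ι] [DecidableEq ι]

theorem gl_mulVec_injective (g : GL ι F) : Function.Injective (fun v : ι → F => g.1 *ᵥ v) := by
  intro v w h
  have := congrArg (fun x => (g⁻¹ : GL ι F).1 *ᵥ x) h
  simpa [Matrix.mulVec_mulVec] using this

theorem Coll.comp_gl (hφ : Coll φ) (g : GL ι F) : Coll (fun v => g.1 *ᵥ φ v) := by
  refine ⟨?_, ?_, ?_⟩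
  · intro v hv h
    apply hφ.ne v hv
    apply gl_mulVec_injective g
    simpa using h
  · intro w hw
    have hw' : (g⁻¹ : GL ι F).1 *ᵥ w ≠ 0 := by
      intro h
      apply hw
      apply gl_mulVec_injective g⁻¹
      simpa using h
    obtain ⟨v, hv, c, hc, hcv⟩ := hφ.surj _ hw'
    refine ⟨v, hv, c, hc, ?_⟩
    show w = c • (g.1 *ᵥ φ v)
    rw [← Matrix.mulVec_smul, ← hcv, Matrix.mulVec_mulVec]
    simp
  · intro u v w hu hv hw
    rw [hφ.col u v w hu hv hw, Submodule.mem_span_pair, Submodule.mem_span_pair]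
    constructor
    · rintro ⟨a, b, hab⟩
      refine ⟨a, b, ?_⟩
      show a • (g.1 *ᵥ φ v) + b • (g.1 *ᵥ φ w) = g.1 *ᵥ φ u
      rw [← hab, Matrix.mulVec_add, Matrix.mulVec_smul, Matrix.mulVec_smul]
    · rintro ⟨a, b, hab⟩
      refine ⟨a, b, ?_⟩
      apply gl_mulVec_injective g
      show g.1 *ᵥ (a • φ v + b • φ w) = g.1 *ᵥ φ u
      rw [Matrix.mulVec_add, Matrix.mulVec_smul, Matrix.mulVec_smul]
      exact hab

theorem ftpg_normalized [Finite F] (hφ : Coll φ) (hE : ∀ i, Sim (E i) (φ (E i)))
    (hU : Sim (fun _ => (1 : F)) (φ (fun _ => 1))) (h3 : 3 ≤ Fintype.card ι) :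
    ∃ σ : F ≃+* F, ∀ v : ι → F, v ≠ 0 → Sim (fun i => σ (v i)) (φ v) := by
  have h3' : ∀ i j : ι, ∃ k, k ≠ i ∧ k ≠ j := by
    intro i j
    have hlt : ({i, j} : Finset ι).card < (Finset.univ : Finset ι).card := by
      rw [Finset.card_univ]
      exact lt_of_le_of_lt (Finset.card_le_two) (by omega)
    obtain ⟨k, _, hk⟩ := Finset.exists_mem_notMem_of_card_lt_card hlt
    refine ⟨k, ?_, ?_⟩
    · rintro rfl; exact hk (by simp)
    · rintro rfl; exact hk (by simp)
  obtain ⟨i0, i1, h01⟩ : ∃ i0 i1 : ι, i0 ≠ i1 := by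
    have : 1 < Fintype.card ι := by omega
    obtain ⟨a, b, hab⟩ := Fintype.exists_pair_of_one_lt_card this
    exact ⟨a, b, hab⟩
  set s : F →+* F := sgHom hφ hE hU h3' h01 with hs
  have hbij : Function.Bijective s := by
    have hinj : Function.Injective s := s.injective
    exact ⟨hinj, Finite.injective_iff_surjective.mp hinj⟩
  refine ⟨RingEquiv.ofBijective s hbij, ?_⟩
  intro v hv
  exact hφ.general hE hU h3' h01 Finset.univ v hv (fun i hi => absurd (Finset.mem_univ i) hi)

/-- **Fundamental theorem of projective geometry**, coordinate form. -/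
theorem ftpg [Finite F] (hφ : Coll φ) (h3 : 3 ≤ Fintype.card ι) :
    ∃ (g : GL ι F) (σ : F ≃+* F), ∀ v : ι → F, v ≠ 0 →
      Sim (g.1 *ᵥ (fun i => σ (v i))) (φ v) := by
  classical
  -- the images of the basis vectors form a basis
  set f : ι → ι → F := fun i => φ (E i) with hf
  have hspan : ⊤ ≤ Submodule.span F (Set.range f) := by
    intro w _
    by_cases hw : w = 0
    · rw [hw]; exact Submodule.zero_mem _
    obtain ⟨v, hv, c, hc, hcw⟩ := hφ.surj w hw
    have hv' : v ∈ Submodule.span F (((Finset.univ : Finset ι).image (E (F := F)) : Finset (ι → F)) :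
        Set (ι → F)) := by
      rw [Finset.coe_image, mem_span_E_iff]
      intro i hi
      exact absurd (Finset.mem_univ i) hi
    have h1 := hφ.span_forward _ (by
      intro t ht
      rw [Finset.mem_image] at ht
      obtain ⟨i, _, rfl⟩ := ht
      exact E_ne_zero i) v hv hv'
    rw [hcw]
    refine Submodule.smul_mem _ _ (Submodule.span_mono ?_ h1)
    rintro _ ⟨t, ht, rfl⟩
    rw [Finset.coe_image] at ht
    obtain ⟨i, _, rfl⟩ := ht
    exact ⟨i, rfl⟩
  have hli : LinearIndependent F f :=
    linearIndependent_of_top_le_span_of_card_eq_finrank hspan (by simp)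
  let b : Module.Basis ι F (ι → F) := Module.Basis.mk hli hspan
  let e : (ι → F) ≃ₗ[F] (ι → F) := (Pi.basisFun F ι).equiv b (Equiv.refl ι)
  have heE : ∀ i, e (E i) = f i := by
    intro i
    have : (E i : ι → F) = Pi.basisFun F ι i := by
      ext j; simp [E, Pi.basisFun_apply]
    rw [this, Module.Basis.equiv_apply]
    simp [b]
  set M : Matrix ι ι F := LinearMap.toMatrix' e.toLinearMap with hM
  set M' : Matrix ι ι F := LinearMap.toMatrix' e.symm.toLinearMap with hM'
  have hMM' : M * M' = 1 := by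
    rw [hM, hM', ← LinearMap.toMatrix'_comp]
    simp
  have hM'M : M' * M = 1 := by
    rw [hM, hM', ← LinearMap.toMatrix'_comp]
    simp
  let g0 : GL ι F := ⟨M, M', hMM', hM'M⟩
  have hg0 : ∀ v, g0.1 *ᵥ v = e v := by
    intro v
    show M *ᵥ v = e v
    rw [hM, LinearMap.toMatrix'_mulVec]
    rfl
  have hg0inv : ∀ v, (g0⁻¹ : GL ι F).1 *ᵥ v = e.symm v := by
    intro v
    show M' *ᵥ v = e.symm v
    rw [hM', LinearMap.toMatrix'_mulVec]
    rfl
  -- first normalisation
  set φ1 : (ι → F) → (ι → F) := fun v => (g0⁻¹ : GL ι F).1 *ᵥ φ v with hφ1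
  have hφ1c : Coll φ1 := hφ.comp_gl g0⁻¹
  have hE1 : ∀ i, φ1 (E i) = E i := by
    intro i
    show (g0⁻¹ : GL ι F).1 *ᵥ φ (E i) = E i
    rw [hg0inv]
    have : φ (E i) = e (E i) := (heE i).symm
    rw [this, e.symm_apply_apply]
  have hE1' : ∀ i, Sim (E i) (φ1 (E i)) := fun i => by rw [hE1 i]; exact Sim.refl _
  -- second normalisation
  have hone : (fun _ : ι => (1 : F)) ≠ 0 := by
    obtain ⟨i⟩ : Nonempty ι := by
      rw [← Fintype.card_pos_iff]; omega
    intro h
    have := congrFun h i
    simp at this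
  set c : ι → F := φ1 (fun _ => 1) with hc
  have hci : ∀ i, c i ≠ 0 := by
    intro i
    rw [hc, Ne, hφ1c.apply_eq_zero_iff hE1' hone]
    simp
  let d : GL ι F := ⟨Matrix.diagonal c, Matrix.diagonal (fun i => (c i)⁻¹), by
    rw [Matrix.diagonal_mul_diagonal]
    simp [hci], by
    rw [Matrix.diagonal_mul_diagonal]
    simp [hci]⟩
  set φ2 : (ι → F) → (ι → F) := fun v => (d⁻¹ : GL ι F).1 *ᵥ φ1 v with hφ2
  have hφ2c : Coll φ2 := hφ1c.comp_gl d⁻¹
  have hdinv : ∀ v : ι → F, (d⁻¹ : GL ι F).1 *ᵥ v = fun i => (c i)⁻¹ * v i := by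
    intro v
    show Matrix.diagonal (fun i => (c i)⁻¹) *ᵥ v = _
    ext i
    rw [Matrix.mulVec_diagonal]
  have hE2 : ∀ i, Sim (E i) (φ2 (E i)) := by
    intro i
    refine ⟨(c i)⁻¹, inv_ne_zero (hci i), ?_⟩
    show (d⁻¹ : GL ι F).1 *ᵥ φ1 (E i) = _
    rw [hE1, hdinv]
    ext l
    by_cases hl : l = i
    · subst hl; simp [E]
    · simp [E, hl]
  have hU2 : Sim (fun _ => (1 : F)) (φ2 (fun _ => 1)) := by
    refine ⟨1, one_ne_zero, ?_⟩
    show (d⁻¹ : GL ι F).1 *ᵥ φ1 (fun _ => 1) = _
    rw [hdinv, one_smul]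
    ext l
    show (c l)⁻¹ * c l = 1
    exact inv_mul_cancel₀ (hci l)
  obtain ⟨σ, hσ⟩ := ftpg_normalized hφ2c hE2 hU2 h3
  refine ⟨g0 * d, σ, ?_⟩
  intro v hv
  obtain ⟨k, hk, hkv⟩ := hσ v hv
  refine ⟨k, hk, ?_⟩
  have h1 : φ v = (g0 * d).1 *ᵥ φ2 v := by
    show φ v = (g0.1 * d.1) *ᵥ ((d⁻¹ : GL ι F).1 *ᵥ ((g0⁻¹ : GL ι F).1 *ᵥ φ v))
    rw [Matrix.mulVec_mulVec, Matrix.mulVec_mulVec]
    have : g0.1 * d.1 * (d⁻¹ : GL ι F).1 * (g0⁻¹ : GL ι F).1 = 1 := by
      rw [← Units.val_mul, ← Units.val_mul, ← Units.val_mul]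
      simp
    rw [this, Matrix.one_mulVec]
  rw [h1, hkv, Matrix.mulVec_smul]

end final

end Cfsg.Agent.Lib.Helper44_FTPG
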