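import Mathlib
import Cfsg.Agent.Lib.Helper32_OFDefs
import Cfsg.Agent.Lib.Helper32_OFRoot
import Cfsg.Agent.Lib.Helper94_OrthVec
import Cfsg.Agent.Lib.Helper94_OrthNondeg
import Cfsg.Agent.Lib.Helper80_GrowDefs

set_option autoImplicit false
set_option linter.unusedSimpArgs false
set_option linter.unusedVariables false
set_option linter.unusedSectionVars false

/-!
GROW-G2 (helper80's market, rows S5679 / S5696): if `z` lies in the root groups of `M` at the two
singular vectors `u`, `u1` with `B u u1 ≠ 0` and `Q z ≠ 0`, then `M` contains all Siegel elements of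
the 3-space `span {u, u1, z}`.

DIRECT proof (no RAP, valid in every characteristic, no finiteness): a singular vector
`w = a u + b u1 + c z` of the 3-space with `a ≠ 0` is `a • g u` for the element
`g = sieg u1 ((c / (a β)) • z) ∈ M`; conjugate the root group at `u` by `g`.
-/

namespace Cfsg.Agent.Lib.Helper44_GROW_G2

open Module Cfsg.Agent.Lib.Helper94_Symp Cfsg.Agent.Lib.Helper94_OrthSmall
  Cfsg.Agent.Lib.Helper94_OrthSiegel Cfsg.Agent.Lib.Helper94_OrthSiegel2
  Cfsg.Agent.Lib.Helper94_OrthNondeg Cfsg.Agent.Lib.Helper94_OrthVec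
  Cfsg.Agent.Lib.Helper32_OFDefs Cfsg.Agent.Lib.Helper32_OFRoot
  Cfsg.Agent.Lib.Helper80_GrowDefs

variable {F V : Type*} [Field F] [AddCommGroup V] [Module F V]
variable {Q : V → F} {B : LinearMap.BilinForm F V}

/-- `InZ_map` without finiteness hypotheses. -/
lemma inZ_map' (hQs : ∀ (a : F) (v : V), Q (a • v) = a * a * Q v)
    (hQp : ∀ u v : V, Q (u + v) = Q u + Q v + B u v) {M : Subgroup (V ≃ₗ[F] V)}
    {g : V ≃ₗ[F] V} (hgM : g ∈ M) (hgO : g ∈ oG Q)
    {w z : V} (hw : Q w = 0) (h : InZ Q B M w z) : InZ Q B M (g w) (g z) := by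
  refine ⟨by rw [oG_B Q B hQp hgO, h.1], fun t => ?_⟩
  have h1 := conj_sieg Q B hQs hQp hgO hw (z := t • z) (by rw [map_smul, h.1, smul_zero])
  rw [map_smul] at h1
  rw [← h1]
  exact M.mul_mem (M.mul_mem hgM (h.2 t)) (M.inv_mem hgM)

/-- every vector of `span {u, u1, z}` orthogonal to `u` lies in the root group of `M` at `u`. -/
lemma inZ_of_orth (hQs : ∀ (a : F) (v : V), Q (a • v) = a * a * Q v)
    (hQp : ∀ u v : V, Q (u + v) = Q u + Q v + B u v) {M : Subgroup (V ≃ₗ[F] V)}
    {u u1 z : V} (hu : Q u = 0) (hb : B u u1 ≠ 0)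
    (h : InZ Q B M u z) {y : V} (hy : y ∈ Submodule.span F {u, u1, z}) (huy : B u y = 0) :
    InZ Q B M u y := by
  have huu : B u u = 0 := by rw [B_self Q B hQs hQp, hu, mul_zero]
  obtain ⟨a, b, c, rfl⟩ := Submodule.mem_span_triple.mp hy
  have hb0 : b = 0 := by
    have h1 : B u (a • u + b • u1 + c • z) = b * B u u1 := by
      rw [map_add, map_add, map_smul, map_smul, map_smul, huu, h.1]
      simp
    rw [h1] at huy
    rcases mul_eq_zero.mp huy with h2 | h2
    · exact h2
    · exact absurd h2 hb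
  subst hb0
  refine ⟨huy, fun t => ?_⟩
  have h2 : t • (a • u + (0 : F) • u1 + c • z) = (t * c) • z + (t * a) • u := by module
  rw [h2, sieg_add_smul Q B hQs hQp hu (by rw [map_smul, h.1, smul_zero]), mul_smul]
  exact (InZ_smul' c h).2 t
where
  InZ_smul' {M : Subgroup (V ≃ₗ[F] V)} {w z : V} (c : F) (h1 : InZ Q B M w z) :
      InZ Q B M w (c • z) := by
    refine ⟨by rw [map_smul, h1.1, smul_zero], fun t => ?_⟩
    rw [smul_smul]
    exact h1.2 (t * c)

theorem g2 (hQs : ∀ (a : F) (v : V), Q (a • v) = a * a * Q v)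
    (hQp : ∀ u v : V, Q (u + v) = Q u + Q v + B u v) {M : Subgroup (V ≃ₗ[F] V)} (hM : M ≤ oG Q)
    {u u1 z : V} (hu : Q u = 0) (hu1 : Q u1 = 0) (hb : B u u1 ≠ 0) (hq : Q z ≠ 0)
    (h : InZ Q B M u z) (h1 : InZ Q B M u1 z) :
    SgOn Q B M (Submodule.span F {u, u1, z}) := by
  have hsymm := B_symm Q B hQp
  have huu : B u u = 0 := by rw [B_self Q B hQs hQp, hu, mul_zero]
  have hu1u1 : B u1 u1 = 0 := by rw [B_self Q B hQs hQp, hu1, mul_zero]
  have hb' : B u1 u ≠ 0 := by rw [hsymm]; exact hb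
  have hset : ({u1, u, z} : Set V) = {u, u1, z} := Set.insert_comm u1 u {z}
  -- the root group at `u1`
  have hZ1 : ∀ y ∈ Submodule.span F ({u, u1, z} : Set V), B u1 y = 0 → InZ Q B M u1 y := by
    intro y hy hu1y
    rw [← hset] at hy
    exact inZ_of_orth hQs hQp hu1 hb' h1 hy hu1y
  set A := Submodule.span F ({u, u1, z} : Set V) with hA
  have huA : u ∈ A := Submodule.subset_span (by simp)
  have hu1A : u1 ∈ A := Submodule.subset_span (by simp)
  have hzA : z ∈ A := Submodule.subset_span (by simp)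
  intro w hw y hy hQw hwy
  obtain ⟨a, b, c, hwe⟩ := Submodule.mem_span_triple.mp hw
  -- `Q w = a b β + c² q`
  have hQw' : a * b * B u u1 + c * c * Q z = 0 := by
    rw [← hQw, ← hwe, hQp, hQp, hQs, hQs, hQs, hu, hu1]
    simp only [map_add, map_smul, LinearMap.add_apply, LinearMap.smul_apply, smul_eq_mul, h.1,
      h1.1]
    ring
  by_cases ha : a = 0
  · -- `w = b • u1`
    subst ha
    have hc : c = 0 := by
      rw [zero_mul, zero_mul, zero_add] at hQw'
      rcases mul_eq_zero.mp hQw' with h2 | h2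
      · exact (mul_self_eq_zero.mp h2)
      · exact absurd h2 hq
    subst hc
    have hw' : w = b • u1 := by rw [← hwe]; module
    by_cases hb0 : b = 0
    · rw [hw', hb0, zero_smul, sieg_zero_left Q B hQs hQp]
      exact M.one_mem
    · have hu1y : B u1 y = 0 := by
        rw [hw', map_smul, LinearMap.smul_apply, smul_eq_mul] at hwy
        rcases mul_eq_zero.mp hwy with h2 | h2
        · exact absurd h2 hb0
        · exact h2
      rw [hw', sieg_smul_left Q B hQs hQp hu1 hu1y]
      exact (hZ1 y hy hu1y).2 b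
  · -- `w = a • g u`, `g = sieg u1 (t • z)`
    obtain ⟨t, ht⟩ : ∃ t : F, t = c / (a * B u u1) := ⟨_, rfl⟩
    have hu1tz : B u1 (t • z) = 0 := by rw [map_smul, h1.1, smul_zero]
    obtain ⟨g, hg⟩ : ∃ g : V ≃ₗ[F] V, g = sieg Q B u1 (t • z) := ⟨_, rfl⟩
    have hgM : g ∈ M := by rw [hg]; exact h1.2 t
    have hgO : g ∈ oG Q := hM hgM
    have hgu : g u = u + (B u u1 * t) • z - (t * t * Q z * B u u1) • u1 := by
      rw [hg, sieg_apply Q B hQs hQp hu1 hu1tz, hQs, map_smul, h.1, smul_zero, zero_smul,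
        sub_zero, smul_smul]
    have e1 : a * (B u u1 * t) = c := by
      rw [ht]; field_simp
    have e2 : a * (t * t * Q z * B u u1) = -b := by
      rw [ht]
      field_simp
      linear_combination hQw'
    have hwg : w = a • g u := by
      rw [hgu, ← hwe, smul_sub, smul_add, smul_smul, smul_smul, e1, e2]
      module
    have hQgu : Q (g u) = 0 := by rw [hgO u, hu]
    have hguy : B (g u) y = 0 := by
      rw [hwg, map_smul, LinearMap.smul_apply, smul_eq_mul] at hwy
      rcases mul_eq_zero.mp hwy with h2 | h2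
      · exact absurd h2 ha
      · exact h2
    -- `y' = g⁻¹ y ∈ A`
    have hy' : g⁻¹ y ∈ A := by
      have hneg : B u1 (-(t • z)) = 0 := by rw [map_neg, hu1tz, neg_zero]
      rw [hg, sieg_inv Q B hQs hQp hu1 hu1tz, sieg_apply Q B hQs hQp hu1 hneg]
      exact A.sub_mem (A.sub_mem (A.add_mem hy (A.smul_mem _ (A.neg_mem (A.smul_mem _ hzA))))
        (A.smul_mem _ hu1A)) (A.smul_mem _ hu1A)
    have hgy' : g (g⁻¹ y) = y := by
      rw [← LinearEquiv.mul_apply, mul_inv_cancel]
      rfl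
    have huy' : B u (g⁻¹ y) = 0 := by
      rw [← oG_B Q B hQp hgO, hgy', hguy]
    have h3 : InZ Q B M u (g⁻¹ y) := inZ_of_orth hQs hQp hu hb h hy' huy'
    have h4 := inZ_map' hQs hQp hgM hgO hu h3
    rw [hgy'] at h4
    rw [hwg, sieg_smul_left Q B hQs hQp hQgu hguy]
    exact h4.2 a

end Cfsg.Agent.Lib.Helper44_GROW_G2
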