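import Mathlib
import Cfsg.Agent.Lib.Helper44_M3MDefs

/-!
# M3M-KNUM (helper53 for helper44): the numerics killing the exceptional outcome (S2147, `q = 3`)
-/

set_option autoImplicit false

namespace Cfsg.Agent.Lib.Helper53_M3M_KNUM

open Module Cfsg.Agent.Lib.Helper14_OmegaSimple Cfsg.Agent.Lib.Helper22_MI2Defs
  Cfsg.Agent.Lib.Helper44_MI3Defs Cfsg.Agent.Lib.Helper44_M3MDefs

theorem exceptional_num (j n φ : ℕ) (hj : 1 ≤ j) (hn : n + 1 = Npts (j + 1))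
    (hφ : n * φ = (3 ^ (j + 2) + 1) * (3 ^ (j + 1) - 1) * 3 ^ (2 * j + 2)) : False := by
  obtain ⟨i, rfl⟩ : ∃ i, j = i + 1 := ⟨j - 1, by omega⟩
  have h1 := two_mul_Npts (i + 1 + 1)
  rw [← hn] at h1
  obtain ⟨w, hw⟩ : ∃ w, w = 3 ^ i := ⟨_, rfl⟩
  have hw1 : 1 ≤ w := by rw [hw]; exact Nat.one_le_pow _ _ (by norm_num)
  have e1 : 3 ^ (i + 1 + 1) = 9 * w := by rw [hw, pow_succ, pow_succ]; ring
  have e2 : 3 ^ (i + 1 + 1 + 1) = 27 * w := by rw [hw, pow_succ, pow_succ, pow_succ]; ring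
  have e2' : 3 ^ (i + 1 + 2) = 27 * w := e2
  -- `2 (n+1) = (27 w + 1) (9 w - 1)`
  rw [e2, e1] at h1
  rw [e2', e1] at hφ
  obtain ⟨v, rfl⟩ : ∃ v, w = v + 1 := ⟨w - 1, by omega⟩
  have e4 : 9 * (v + 1) - 1 = 9 * v + 8 := by omega
  rw [e4] at h1 hφ
  -- `n φ = 2 (n + 1) * 3^(2j+2)`
  have hφ' : n * φ = (n + 1) * (2 * 3 ^ (2 * (i + 1) + 2)) := by
    rw [hφ, ← h1]; ring
  have hcop : Nat.Coprime n (n + 1) := by simp
  have hdvd : n ∣ 2 * 3 ^ (2 * (i + 1) + 2) :=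
    hcop.dvd_of_dvd_mul_left (Dvd.intro _ hφ')
  -- `n = 3 y`, `y ≡ 1 (mod 3)`
  have h2n : 2 * n + 18 * v + 21 = 243 * (v * v) + 486 * v + 243 := by nlinarith
  obtain ⟨y, rfl⟩ : ∃ y, n = 3 * y := ⟨n / 3, by omega⟩
  have hy3 : y % 3 = 1 := by omega
  have hpow : 2 * 3 ^ (2 * (i + 1) + 2) = 3 * (2 * 3 ^ (2 * i + 3)) := by
    have : 2 * (i + 1) + 2 = (2 * i + 3) + 1 := by ring
    rw [this, pow_succ]; ring
  rw [hpow] at hdvd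
  have hdvd2 : y ∣ 2 * 3 ^ (2 * i + 3) := Nat.dvd_of_mul_dvd_mul_left (by norm_num) hdvd
  have hc3 : Nat.Coprime y 3 := by
    rw [Nat.coprime_comm, Nat.Prime.coprime_iff_not_dvd Nat.prime_three]
    omega
  have hy2 : y ∣ 2 := (hc3.pow_right _).dvd_of_dvd_mul_right hdvd2
  have hle : y ≤ 2 := Nat.le_of_dvd (by norm_num) hy2
  nlinarith

end Cfsg.Agent.Lib.Helper53_M3M_KNUM
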