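import Mathlib
import Cfsg.Agent.Lib.Helper44_MI3Defs
import Cfsg.Agent.Lib.Helper42_MI2_TRNS

set_option autoImplicit false
set_option linter.unusedVariables false
set_option linter.unusedSimpArgs false
set_option linter.unusedSectionVars false

/-!
# S2144 (MI3, architect helper44), package MI3-TRNS: `T Q` is transitive on the vectors of a given
nonzero norm (characteristic not two, dimension at least five).
-/

namespace Cfsg.Agent.Lib.Helper58_MI3_TRNS

open Module Cfsg.Agent.Lib.Helper14_OmegaSimple Cfsg.Agent.Lib.Helper22_MI2Defs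
  Cfsg.Agent.Lib.Helper44_MI3Defs
open Cfsg.Agent.Lib.Helper14_Siegel Cfsg.Agent.Lib.Helper44_QuadClass

variable {F V : Type*} [Field F] [AddCommGroup V] [Module F V]

/-- the generic case (any characteristic): `y - x` is not a multiple of `x` -/
theorem map_of_not_mem_span [Finite F] [FiniteDimensional F V] (Q : QuadraticForm F V)
    (hQ : (QuadraticMap.polarBilin Q).Nondegenerate) (hdim : 5 ≤ finrank F V)
    {x y : V} (hx : Q x ≠ 0) (hxy : Q x = Q y) (hdx' : y - x ∉ Submodule.span F {x}) :
    ∃ g ∈ T Q, g x = y := by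
  obtain ⟨d, hd⟩ : ∃ d : V, d = y - x := ⟨_, rfl⟩
  have hdx : d ∉ Submodule.span F {x} := by rw [hd]; exact hdx'
  have hy : y = x + d := by rw [hd]; abel
  have hadd : ∀ u v : V, Q (u + v) = Q u + Q v + QuadraticMap.polar (⇑Q) u v := by
    intro u v
    rw [QuadraticMap.polar]; ring
  have hQd : Q d + QuadraticMap.polar (⇑Q) x d = 0 := by
    have h1 := hadd x d
    rw [← hy, ← hxy] at h1
    linear_combination -h1
  obtain ⟨a, ha, hax, had⟩ := exists_singular_orth_polar_ns Q hQ hdim hx hdx (Q d)
  have hxa : QuadraticMap.polar (⇑Q) x a = 0 := by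
    rw [QuadraticMap.polar_comm]; exact hax
  have hQz : Q (x + a) = Q x := by
    rw [hadd, ha, hxa, add_zero, add_zero]
  -- first step: x ↦ x + a
  obtain ⟨g₁, hg₁, hg₁x⟩ := Cfsg.Agent.Lib.Helper42_MI2_TRNS.step Q hQ hdim hx (y := x + a)
    (by rw [add_sub_cancel_left]; exact ha) (by rw [add_sub_cancel_left]; exact hxa)
  -- second step: x + a ↦ y
  have hsub : y - (x + a) = d - a := by rw [hy]; abel
  have hQda : Q (d - a) = 0 := by
    rw [Cfsg.Agent.Lib.Helper14_OmegaSimple.map_sub', ha, QuadraticMap.polar_comm (⇑Q) d a, had]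
    ring
  have hpol : QuadraticMap.polar (⇑Q) (x + a) (d - a) = 0 := by
    rw [QuadraticMap.polar_add_left, QuadraticMap.polar_sub_right, QuadraticMap.polar_sub_right,
      hxa, had, polar_self', ha]
    linear_combination hQd
  obtain ⟨g₂, hg₂, hg₂x⟩ := Cfsg.Agent.Lib.Helper42_MI2_TRNS.step Q hQ hdim (x := x + a) (y := y)
    (by rw [hQz]; exact hx) (by rw [hsub]; exact hQda) (by rw [hsub]; exact hpol)
  refine ⟨g₂ * g₁, Subgroup.mul_mem _ hg₂ hg₁, ?_⟩
  rw [LinearEquiv.mul_apply, hg₁x, hg₂x]

/-- **MI3-TRNS**. -/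
theorem exists_mem_T_map_level [Finite F] [FiniteDimensional F V] (Q : QuadraticForm F V)
    (hQ : (QuadraticMap.polarBilin Q).Nondegenerate) (hdim : 5 ≤ finrank F V) (h2 : (2 : F) ≠ 0)
    {x y : V} (hx : Q x ≠ 0) (hxy : Q x = Q y) : ∃ g ∈ T Q, g x = y := by
  by_cases hdx : y - x ∈ Submodule.span F {x}
  swap
  · exact map_of_not_mem_span Q hQ hdim hx hxy hdx
  -- `y` is a multiple of `x`
  obtain ⟨t, ht⟩ := Submodule.mem_span_singleton.mp hdx
  have hy : y = (1 + t) • x := by
    rw [add_smul, one_smul, ht]; abel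
  have hsq : (1 + t) * (1 + t) = 1 := by
    have h1 : Q y = ((1 + t) * (1 + t)) * Q x := by
      rw [hy, QuadraticMap.map_smul, smul_eq_mul]
    rw [← hxy] at h1
    have h3 : ((1 + t) * (1 + t) - 1) * Q x = 0 := by linear_combination -h1
    rcases mul_eq_zero.mp h3 with h | h
    · linear_combination h
    · exact absurd h hx
  have hcases : 1 + t = 1 ∨ 1 + t = -1 := by
    have h3 : (1 + t - 1) * (1 + t + 1) = 0 := by linear_combination hsq
    rcases mul_eq_zero.mp h3 with h | h
    · left; linear_combination h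
    · right; linear_combination h
  rcases hcases with h1 | h1
  · refine ⟨1, Subgroup.one_mem _, ?_⟩
    rw [hy, h1, one_smul]
    rfl
  -- `y = -x`
  have hyx : y = -x := by rw [hy, h1, neg_one_smul]
  -- a vector outside `span x`
  have hex : ∃ d' : V, d' ∉ Submodule.span F {x} := by
    by_contra hcon
    push Not at hcon
    have htop : (⊤ : Submodule F V) ≤ Submodule.span F {x} := fun v _ => hcon v
    have := Submodule.finrank_mono htop
    rw [finrank_top] at this
    have h3 := finrank_span_singleton (K := F) (v := x) (by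
      intro h0
      apply hx
      rw [h0]
      simp)
    omega
  obtain ⟨d', hd'⟩ := hex
  obtain ⟨a, ha, hax, had⟩ := exists_singular_orth_polar_ns Q hQ hdim hx hd' 1
  have ha0 : a ≠ 0 := by
    intro h0
    rw [h0] at had
    simp [QuadraticMap.polar] at had
  have hxa : QuadraticMap.polar (⇑Q) x a = 0 := by
    rw [QuadraticMap.polar_comm]; exact hax
  have hadd : ∀ u v : V, Q (u + v) = Q u + Q v + QuadraticMap.polar (⇑Q) u v := by
    intro u v
    rw [QuadraticMap.polar]; ring
  have hQz : Q (x + a) = Q x := by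
    rw [hadd, ha, hxa, add_zero, add_zero]
  have h2Q : (2 : F) * Q x ≠ 0 := mul_ne_zero h2 hx
  -- `x ↦ x + a`
  have hs1 : x + a - x ∉ Submodule.span F {x} := by
    rw [add_sub_cancel_left]
    intro h
    obtain ⟨s, hs⟩ := Submodule.mem_span_singleton.mp h
    have h3 : QuadraticMap.polar (⇑Q) a x = s * (2 * Q x) := by
      rw [← hs, QuadraticMap.polar_smul_left, polar_self', smul_eq_mul]
    rw [hax] at h3
    have hs0 : s = 0 := by
      rcases mul_eq_zero.mp h3.symm with h | h
      · exact h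
      · exact absurd h h2Q
    apply ha0
    rw [← hs, hs0, zero_smul]
  obtain ⟨g₁, hg₁, hg₁x⟩ := map_of_not_mem_span Q hQ hdim hx hQz.symm hs1
  -- `x + a ↦ -x`
  have hQneg : Q (-x) = Q x := by
    rw [QuadraticMap.map_neg]
  have hs2 : -x - (x + a) ∉ Submodule.span F {x + a} := by
    intro h
    obtain ⟨s, hs⟩ := Submodule.mem_span_singleton.mp h
    -- apply `polar · x`
    have h3 : QuadraticMap.polar (⇑Q) (s • (x + a)) x = QuadraticMap.polar (⇑Q) (-x - (x + a)) x := by
      rw [hs]
    rw [QuadraticMap.polar_smul_left, QuadraticMap.polar_add_left, QuadraticMap.polar_sub_left,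
      QuadraticMap.polar_neg_left, QuadraticMap.polar_add_left, hax, polar_self', smul_eq_mul] at h3
    have hs2 : s = -2 := by
      have h4 : (s + 2) * (2 * Q x) = 0 := by linear_combination h3
      rcases mul_eq_zero.mp h4 with h | h
      · linear_combination h
      · exact absurd h h2Q
    rw [hs2] at hs
    apply ha0
    have h6 : (-2 : F) • (x + a) - (-x - (x + a)) = -a := by module
    rw [hs, sub_self] at h6
    exact neg_eq_zero.mp h6.symm
  obtain ⟨g₂, hg₂, hg₂x⟩ := map_of_not_mem_span Q hQ hdim (x := x + a) (y := -x)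
    (by rw [hQz]; exact hx) (by rw [hQz, hQneg]) hs2
  refine ⟨g₂ * g₁, Subgroup.mul_mem _ hg₂ hg₁, ?_⟩
  rw [LinearEquiv.mul_apply, hg₁x, hg₂x, hyx]

end Cfsg.Agent.Lib.Helper58_MI3_TRNS
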