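import Mathlib
import Cfsg.Agent.Lib.Helper44_M3MDefs

set_option autoImplicit false
set_option linter.unusedSimpArgs false

/-!
# M3M (the `q = 3` slice of S2147, architect helper44), package M3M-END:
a product of two Siegel elements with centres on a totally singular line (any field).
-/

namespace Cfsg.Agent.Lib.Helper70_M3M_END

open Module Cfsg.Agent.Lib.Helper14_OmegaSimple Cfsg.Agent.Lib.Helper22_MI2Defs
  Cfsg.Agent.Lib.Helper44_MI3Defs Cfsg.Agent.Lib.Helper44_M3MDefs

variable {F V : Type*} [Field F] [AddCommGroup V] [Module F V]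

theorem E_mul_E_line (Q : QuadraticForm F V) {v p q : V} (hv : Q v = 0) (hp : Q p = 0)
    (hvp : QuadraticMap.polar (⇑Q) v p = 0) (hvq : QuadraticMap.polar (⇑Q) v q = 0)
    (hpq : QuadraticMap.polar (⇑Q) p q = 0) (α γ : F) :
    E Q v (α • p + γ • q) * E Q p q = E Q (p + γ • v) (q - (α + Q q * γ) • v) := by
  have hpv : QuadraticMap.polar (⇑Q) p v = 0 := by rw [QuadraticMap.polar_comm]; exact hvp
  have hqv : QuadraticMap.polar (⇑Q) q v = 0 := by rw [QuadraticMap.polar_comm]; exact hvq
  have hqp : QuadraticMap.polar (⇑Q) q p = 0 := by rw [QuadraticMap.polar_comm]; exact hpq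
  have hvv : QuadraticMap.polar (⇑Q) v v = 0 := by
    rw [QuadraticMap.polar_self, hv]; simp
  have hpp : QuadraticMap.polar (⇑Q) p p = 0 := by
    rw [QuadraticMap.polar_self, hp]; simp
  have hqq : QuadraticMap.polar (⇑Q) q q = 2 * Q q := by
    rw [QuadraticMap.polar_self]; simp
  -- side conditions
  have h1 : QuadraticMap.polar (⇑Q) v (α • p + γ • q) = 0 := by
    rw [QuadraticMap.polar_add_right, QuadraticMap.polar_smul_right, QuadraticMap.polar_smul_right,
      hvp, hvq]
    simp
  have h2 : Q (p + γ • v) = 0 := by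
    rw [QuadraticMap.map_add Q, QuadraticMap.map_smul, hp, hv, QuadraticMap.polar_smul_right, hpv]
    simp
  have h3 : QuadraticMap.polar (⇑Q) (p + γ • v) (q - (α + Q q * γ) • v) = 0 := by
    rw [sub_eq_add_neg, ← neg_smul]
    simp only [QuadraticMap.polar_add_left, QuadraticMap.polar_add_right,
      QuadraticMap.polar_smul_left, QuadraticMap.polar_smul_right, hpq, hpv, hvq, hvv, smul_zero,
      add_zero]
  have hQz : Q (α • p + γ • q) = γ * γ * Q q := by
    rw [QuadraticMap.map_add Q, QuadraticMap.map_smul, QuadraticMap.map_smul, hp,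
      QuadraticMap.polar_smul_left, QuadraticMap.polar_smul_right, hpq]
    simp
  have hQw : Q (q - (α + Q q * γ) • v) = Q q := by
    rw [sub_eq_add_neg, ← neg_smul, QuadraticMap.map_add Q, QuadraticMap.map_smul, hv,
      QuadraticMap.polar_smul_right, hqv]
    simp
  apply LinearEquiv.ext
  intro x
  rw [LinearEquiv.mul_apply, E_apply Q hp hpq, E_apply Q hv h1, E_apply Q h2 h3, hQz, hQw]
  simp only [QuadraticMap.polar_add_left, QuadraticMap.polar_add_right,
    QuadraticMap.polar_sub_left, QuadraticMap.polar_sub_right,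
    QuadraticMap.polar_smul_left, QuadraticMap.polar_smul_right, hpq, hpv, hvq, hvv, hqv, hqp,
    hpp, hqq, hvp, smul_eq_mul, mul_zero, add_zero, sub_zero, zero_add]
  module

end Cfsg.Agent.Lib.Helper70_M3M_END
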