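import Mathlib
import Cfsg.Agent.Lib.Helper44_M3MDefs
import Cfsg.Agent.Lib.Helper44_MI3Defs
import Cfsg.Agent.Lib.Helper70_MI2_HYPA
import Cfsg.Agent.Lib.Helper2_MI3_HYPA

set_option autoImplicit false
set_option linter.unusedVariables false

/-!
# M3M (the `q = 3` slice of S2147, architect helper44), package M3M-HYPA:
no point has all `U_v`-stabilisers of index at most three (with a proper one for every `v`); generic dimension `≥ 7`.
Copy of `Helper2_MI3_HYPA.hypA3` (helper2) with explicit hypotheses instead of `OddSetting`.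
-/

namespace Cfsg.Agent.Lib.Helper70_M3M_HYPA

open Module Cfsg.Agent.Lib.Helper14_OmegaSimple Cfsg.Agent.Lib.Helper22_MI2Defs
  Cfsg.Agent.Lib.Helper44_MI3Defs Cfsg.Agent.Lib.Helper44_M3MDefs
open Cfsg.Agent.Lib.Helper70_MI2_HYPA (ker3 mem_ker3 finrank_ker3)

variable {F V : Type*} [Field F] [AddCommGroup V] [Module F V]

section action

variable {X : Type*} [MulAction (V ≃ₗ[F] V) X]

theorem hypA3g [Finite F] [FiniteDimensional F V] (Q : QuadraticForm F V)
    (hf3 : ∀ c : F, c = 0 ∨ c = 1 ∨ c = -1) (h2 : (2 : F) ≠ 0)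
    (hQ : (QuadraticMap.polarBilin Q).Nondegenerate) (hdim : 7 ≤ finrank F V) (ω : X)
    (hA : ∀ v : V, v ≠ 0 → Q v = 0 → ∃ lam : V, ∀ w : V,
      QuadraticMap.polar (⇑Q) v w = 0 → QuadraticMap.polar (⇑Q) lam w = 0 → E Q v w • ω = ω)
    (hno : ∀ v : V, v ≠ 0 → Q v = 0 → ∃ w : V, QuadraticMap.polar (⇑Q) v w = 0 ∧ E Q v w • ω ≠ ω) :
    False := by
  classical
  have hdim5 : 5 ≤ finrank F V := by omega
  -- a singular vector
  obtain ⟨v, hv0, hv⟩ := Cfsg.Agent.Lib.Helper44_QuadClass.exists_singular Q (by omega)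
  -- a singular v' ⟂ v with E v v' moving ω
  obtain ⟨v', hv', hvv', hmove⟩ : ∃ v' : V, Q v' = 0 ∧ QuadraticMap.polar (⇑Q) v v' = 0 ∧
      E Q v v' • ω ≠ ω := by
    obtain ⟨w, hvw, hw⟩ := hno v hv0 hv
    by_cases hz : w ∈ Submodule.span F {v}
    · exfalso
      obtain ⟨a, rfl⟩ := Submodule.mem_span_singleton.mp hz
      have h0 : QuadraticMap.polar (⇑Q) v 0 = 0 := by simp [QuadraticMap.polar]
      have := E_add_smul Q hv h0 a
      rw [zero_add] at this
      rw [this, E_zero_right Q hv, one_smul] at hw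
      exact hw rfl
    obtain ⟨s, hs, hus, hsz⟩ :=
      Cfsg.Agent.Lib.Helper14_Siegel.exists_singular_orth_polar Q hQ hdim5 hv0 hv hvw hz (Q w)
    have hzs : Q (w - s) = 0 := by
      rw [Cfsg.Agent.Lib.Helper14_OmegaSimple.map_sub', hs, QuadraticMap.polar_comm, hsz]; ring
    have huzs : QuadraticMap.polar (⇑Q) v (w - s) = 0 := by
      rw [QuadraticMap.polar_sub_right, hvw, hus, sub_zero]
    have hprod : E Q v w = E Q v s * E Q v (w - s) := by
      rw [E_mul Q hv hus huzs]
      congr 1; abel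
    by_cases h1 : E Q v s • ω = ω
    · by_cases h3 : E Q v (w - s) • ω = ω
      · exfalso
        apply hw
        rw [hprod, mul_smul, h3, h1]
      · exact ⟨w - s, hzs, huzs, h3⟩
    · exact ⟨s, hs, hus, h1⟩
  have hv'0 : v' ≠ 0 := by
    rintro rfl
    rw [E_zero_right Q hv, one_smul] at hmove
    exact hmove rfl
  have hv'v : QuadraticMap.polar (⇑Q) v' v = 0 := by rw [QuadraticMap.polar_comm]; exact hvv'
  -- symmetry: `E v' (-(c • v)) = E v (c • v')`
  have hsymm : ∀ c : F, E Q v' (-(c • v)) = E Q v (c • v') := by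
    intro c
    have h1 : QuadraticMap.polar (⇑Q) v' (-(c • v)) = 0 := by
      rw [QuadraticMap.polar_neg_right, QuadraticMap.polar_smul_right, hv'v, smul_zero, neg_zero]
    have h2 : QuadraticMap.polar (⇑Q) v (c • v') = 0 := by
      rw [QuadraticMap.polar_smul_right, hvv', smul_zero]
    ext x
    rw [E_apply Q hv' h1, E_apply Q hv h2]
    have e1 : Q (-(c • v)) = 0 := by
      rw [QuadraticMap.map_neg, QuadraticMap.map_smul, hv, smul_zero]
    have e2 : Q (c • v') = 0 := by
      rw [QuadraticMap.map_smul, hv', smul_zero]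
    rw [e1, e2, zero_mul, zero_mul, zero_smul, zero_smul, sub_zero, sub_zero,
      QuadraticMap.polar_neg_right, QuadraticMap.polar_smul_right, QuadraticMap.polar_smul_right]
    simp only [smul_eq_mul, smul_neg, neg_smul, smul_smul]
    rw [mul_comm (QuadraticMap.polar (⇑Q) x v') c, mul_comm (QuadraticMap.polar (⇑Q) x v) c]
    abel
  obtain ⟨lam, hlam⟩ := hA v hv0 hv
  obtain ⟨lam', hlam'⟩ := hA v' hv'0 hv'
  -- key orthogonality
  have hkey : ∀ w ∈ ker3 Q v v' lam, ∀ w' ∈ ker3 Q v v' lam',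
      QuadraticMap.polar (⇑Q) w w' = 0 := by
    intro w hw w' hw'
    rw [mem_ker3] at hw hw'
    obtain ⟨hvw, hv'w, hlw⟩ := hw
    obtain ⟨hvw', hv'w', hlw'⟩ := hw'
    by_contra hne
    set c : F := QuadraticMap.polar (⇑Q) w w' with hc
    have hg : E Q v w • ω = ω := hlam w hvw hlw
    have hh : E Q v' w' • ω = ω := hlam' w' hv'w' hlw'
    have hgO := E_mem_oG Q hv hvw
    -- conjugate
    have hgv' : E Q v w v' = v' := by
      rw [E_apply Q hv hvw, hv'v, hv'w]
      simp
    have hgw' : E Q v w w' = w' + -(c • v) := by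
      rw [E_apply Q hv hvw, QuadraticMap.polar_comm _ w' v, hvw', QuadraticMap.polar_comm _ w' w,
        ← hc]
      simp only [zero_smul, add_zero, mul_zero, sub_zero]
      rw [sub_eq_add_neg]
    have hconj : E Q v w * E Q v' w' * (E Q v w)⁻¹ = E Q v' (w' + -(c • v)) := by
      rw [conj_E Q hgO hv' hv'w', hgv', hgw']
    have hcv : QuadraticMap.polar (⇑Q) v' (-(c • v)) = 0 := by
      rw [QuadraticMap.polar_neg_right, QuadraticMap.polar_smul_right, hv'v, smul_zero, neg_zero]
    have hcomm : E Q v w * E Q v' w' * (E Q v w)⁻¹ * (E Q v' w')⁻¹ = E Q v (c • v') := by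
      rw [hconj, E_inv Q hv' hv'w', E_mul Q hv' (by
        rw [QuadraticMap.polar_add_right, hv'w', hcv, add_zero]) (by
        rw [QuadraticMap.polar_neg_right, hv'w', neg_zero]), ← hsymm c]
      congr 1
      abel
    have hfixc : E Q v (c • v') • ω = ω := by
      rw [← hcomm, mul_smul, mul_smul, mul_smul, inv_smul_eq_iff.mpr hh.symm,
        inv_smul_eq_iff.mpr hg.symm, hh, hg]
    apply hmove
    rcases hf3 c with h0 | h1 | h1
    · exact absurd h0 hne
    · rw [h1, one_smul] at hfixc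
      exact hfixc
    · rw [h1, neg_smul, one_smul, ← E_inv Q hv hvv'] at hfixc
      exact (inv_smul_eq_iff.mp hfixc).symm
  -- dimension count
  have hle : ker3 Q v v' lam' ≤
      LinearMap.BilinForm.orthogonal (QuadraticMap.polarBilin Q) (ker3 Q v v' lam) := by
    intro w' hw' w hw
    show QuadraticMap.polarBilin Q w w' = 0
    rw [QuadraticMap.polarBilin_apply_apply]
    exact hkey w hw w' hw'
  have horth := LinearMap.BilinForm.finrank_orthogonal hQ (ker3 Q v v' lam)
  have h1 := finrank_ker3 Q v v' lam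
  have h1' := finrank_ker3 Q v v' lam'
  have h3 := Submodule.finrank_mono hle
  have h4 := Submodule.finrank_le (ker3 Q v v' lam)
  omega

end action

end Cfsg.Agent.Lib.Helper70_M3M_HYPA
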