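import Mathlib
import Cfsg.Agent.Lib.Helper44_M3MDefs

set_option autoImplicit false

/-!
# M3M-ORD3 (helper7, for helper44's M3M market; adaptation of helper17's `Helper17_MI3_ORD3`):
`Kstab Q lam` is generated by elements of order three, so it fixes every point of an invariant set
with at most two elements (explicit hypotheses instead of an `OddSetting`).
-/

namespace Cfsg.Agent.Lib.Helper7_M3M_ORD3

open Module Cfsg.Agent.Lib.Helper14_OmegaSimple Cfsg.Agent.Lib.Helper22_MI2Defs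
  Cfsg.Agent.Lib.Helper44_MI3Defs Cfsg.Agent.Lib.Helper44_M3MDefs

variable {F V : Type*} [Field F] [AddCommGroup V] [Module F V]

theorem map_mul' (C : Submodule F V) (g h : V ≃ₗ[F] V) :
    C.map ((g * h : V ≃ₗ[F] V) : V →ₗ[F] V) = (C.map (h : V →ₗ[F] V)).map (g : V →ₗ[F] V) := by
  ext x
  simp only [Submodule.mem_map, LinearEquiv.coe_coe, LinearEquiv.mul_apply]
  constructor
  · rintro ⟨y, hy, rfl⟩
    exact ⟨h y, ⟨y, hy, rfl⟩, rfl⟩
  · rintro ⟨z, ⟨y, hy, rfl⟩, rfl⟩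
    exact ⟨y, hy, rfl⟩

theorem map_one' (C : Submodule F V) : C.map ((1 : V ≃ₗ[F] V) : V →ₗ[F] V) = C := by
  ext x
  simp only [Submodule.mem_map, LinearEquiv.coe_coe, LinearEquiv.coe_one, id_eq, exists_eq_right]

theorem map_inj' (C C' : Submodule F V) (g : V ≃ₗ[F] V)
    (h : C.map (g : V →ₗ[F] V) = C'.map (g : V →ₗ[F] V)) : C = C' :=
  Submodule.map_injective_of_injective (f := (g : V →ₗ[F] V)) g.injective h

theorem three_eq_zero (hf3 : ∀ c : F, c = 0 ∨ c = 1 ∨ c = -1) (h2 : (2 : F) ≠ 0) : (3 : F) = 0 := by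
  rcases hf3 2 with h | h | h
  · exact absurd h h2
  · exfalso
    have : (1 : F) = 0 := by linear_combination h
    exact one_ne_zero this
  · linear_combination h

/-- The package statement **M3M-ORD3**. -/
theorem Kstab_fix_of_le_two_g [Finite F] [FiniteDimensional F V] (Q : QuadraticForm F V)
    (hf3 : ∀ c : F, c = 0 ∨ c = 1 ∨ c = -1) (h2 : (2 : F) ≠ 0)
    (hQ : (QuadraticMap.polarBilin Q).Nondegenerate) (hdim : 5 ≤ finrank F V)
    {lam : V} (C : Submodule F V) (hlC : lam ∈ C)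
    (hle : {C' | C' ∈ subOrbit Q C ∧ lam ∈ C'}.ncard ≤ 2) :
    ∀ g ∈ Kstab Q lam, C.map (g : V →ₗ[F] V) = C := by
  have h3 : (3 : F) = 0 := three_eq_zero hf3 h2
  have hVfin : Finite V := Module.finite_of_finite F
  have hSubfin : Finite (Submodule F V) :=
    Finite.of_injective (fun S : Submodule F V => (S : Set V)) SetLike.coe_injective
  have hYfin : {C' | C' ∈ subOrbit Q C ∧ lam ∈ C'}.Finite := Set.toFinite _
  intro g hg
  unfold Kstab at hg
  refine Subgroup.closure_induction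
    (p := fun (g : V ≃ₗ[F] V) _ => C.map (g : V →ₗ[F] V) = C) ?_ ?_ ?_ ?_ hg
  · -- generators
    rintro g ⟨a, b, ha, hab, hla, hlb, rfl⟩
    have hgT : E Q a b ∈ T Q := E_mem_T Q hQ hdim ha hab
    have hglam : E Q a b lam = lam := by
      rw [E_apply Q ha hab, hla, hlb]
      simp
    have hab2 : QuadraticMap.polar (⇑Q) a (b + b) = 0 := by
      rw [QuadraticMap.polar_add_right, hab, add_zero]
    have hg2 : E Q a b * E Q a b = E Q a (b + b) := E_mul Q ha hab hab
    have hg3 : E Q a b * E Q a b * E Q a b = 1 := by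
      rw [hg2, E_mul Q ha hab2 hab]
      have : b + b + b = (3 : F) • b := by
        rw [show (3 : F) = 1 + 1 + 1 by norm_num, add_smul, add_smul, one_smul]
      rw [this, h3, zero_smul, E_zero_right Q ha]
    by_contra hne
    -- three distinct members
    have hm0 : C ∈ {C' | C' ∈ subOrbit Q C ∧ lam ∈ C'} :=
      ⟨⟨1, Subgroup.one_mem _, (map_one' C).symm⟩, hlC⟩
    have hm1 : C.map ((E Q a b : V ≃ₗ[F] V) : V →ₗ[F] V) ∈
        {C' | C' ∈ subOrbit Q C ∧ lam ∈ C'} :=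
      ⟨⟨E Q a b, hgT, rfl⟩, ⟨lam, hlC, hglam⟩⟩
    have hm2 : C.map ((E Q a b * E Q a b : V ≃ₗ[F] V) : V →ₗ[F] V) ∈
        {C' | C' ∈ subOrbit Q C ∧ lam ∈ C'} := by
      refine ⟨⟨E Q a b * E Q a b, Subgroup.mul_mem _ hgT hgT, rfl⟩, ⟨lam, hlC, ?_⟩⟩
      show (E Q a b * E Q a b) lam = lam
      rw [LinearEquiv.mul_apply, hglam, hglam]
    have hd01 : C ≠ C.map ((E Q a b : V ≃ₗ[F] V) : V →ₗ[F] V) := fun h => hne h.symm
    have hd12 : C.map ((E Q a b : V ≃ₗ[F] V) : V →ₗ[F] V) ≠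
        C.map ((E Q a b * E Q a b : V ≃ₗ[F] V) : V →ₗ[F] V) := by
      intro h
      rw [map_mul'] at h
      exact hd01 (map_inj' _ _ _ h)
    have hd02 : C ≠ C.map ((E Q a b * E Q a b : V ≃ₗ[F] V) : V →ₗ[F] V) := by
      intro h
      have h' := congrArg (fun D : Submodule F V => D.map ((E Q a b : V ≃ₗ[F] V) : V →ₗ[F] V)) h
      rw [← map_mul', ← mul_assoc, hg3, map_one'] at h'
      exact hne h'
    have hsub : ({C, C.map ((E Q a b : V ≃ₗ[F] V) : V →ₗ[F] V),
        C.map ((E Q a b * E Q a b : V ≃ₗ[F] V) : V →ₗ[F] V)} : Set (Submodule F V)) ⊆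
        {C' | C' ∈ subOrbit Q C ∧ lam ∈ C'} := by
      intro D hD
      rcases hD with rfl | rfl | hD
      · exact hm0
      · exact hm1
      · rw [Set.mem_singleton_iff] at hD
        rw [hD]; exact hm2
    have hcard3 : ({C, C.map ((E Q a b : V ≃ₗ[F] V) : V →ₗ[F] V),
        C.map ((E Q a b * E Q a b : V ≃ₗ[F] V) : V →ₗ[F] V)} : Set (Submodule F V)).ncard = 3 :=
      Set.ncard_eq_three.mpr ⟨_, _, _, hd01, hd02, hd12, rfl⟩
    have := Set.ncard_le_ncard hsub hYfin
    omega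
  · exact map_one' C
  · intro x y _ _ hx hy
    rw [map_mul', hy, hx]
  · intro x _ hx
    have h' := congrArg (fun D : Submodule F V => D.map ((x⁻¹ : V ≃ₗ[F] V) : V →ₗ[F] V)) hx
    rw [← map_mul', inv_mul_cancel, map_one'] at h'
    exact h'.symm

end Cfsg.Agent.Lib.Helper7_M3M_ORD3
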