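import Mathlib
import Cfsg.Agent.Lib.Helper44_M3MDefs

/-!
M3M-REGB (helper7, for helper44's M3M market; adaptation of helper64's `Helper64_MI3_REGB`): if all
`U_v`-orbits on `Ω` are regular and `|Ω| < 2 |U_v|`, then `U_v` is transitive on `Ω` (generic dimension,
explicit hypotheses instead of an `OddSetting`).
-/

set_option autoImplicit false

namespace Cfsg.Agent.Lib.Helper7_M3M_REGB

open Module Cfsg.Agent.Lib.Helper14_OmegaSimple Cfsg.Agent.Lib.Helper22_MI2Defs
  Cfsg.Agent.Lib.Helper44_MI3Defs Cfsg.Agent.Lib.Helper44_M3MDefs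

variable {F V : Type*} [Field F] [AddCommGroup V] [Module F V]

/-- The field has three elements. -/
theorem card_F_eq_three [Finite F] (f3 : ∀ c : F, c = 0 ∨ c = 1 ∨ c = -1) (h2 : (2 : F) ≠ 0) :
    Nat.card F = 3 := by
  classical
  let _ : Fintype F := Fintype.ofFinite F
  rw [Nat.card_eq_fintype_card]
  have huniv : (Finset.univ : Finset F) = {0, 1, -1} := by
    ext c
    simp only [Finset.mem_univ, Finset.mem_insert, Finset.mem_singleton, true_iff]
    exact f3 c
  have h1 : (1 : F) ≠ -1 := by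
    intro h
    apply h2
    have : (2 : F) = 1 + 1 := by norm_num
    rw [this]
    nth_rewrite 2 [h]
    ring
  have h01 : (0 : F) ≠ 1 := zero_ne_one
  have h0m : (0 : F) ≠ -1 := by
    intro h
    have : (1 : F) = 0 := by
      have := congrArg (fun t => -t) h
      simpa using this.symm
    exact one_ne_zero this
  rw [← Finset.card_univ, huniv, Finset.card_insert_of_notMem, Finset.card_pair h1]
  simp only [Finset.mem_insert, Finset.mem_singleton, not_or]
  exact ⟨h01, h0m⟩

/-- The complement of a hyperbolic plane has `3^(n-2)` elements. -/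
theorem card_perp2 [Finite F] [FiniteDimensional F V] (Q : QuadraticForm F V)
    (hf3 : ∀ c : F, c = 0 ∨ c = 1 ∨ c = -1) (h2 : (2 : F) ≠ 0)
    {v v' : V} (hv : Q v = 0) (hv' : Q v' = 0)
    (hvv' : QuadraticMap.polar (⇑Q) v v' = 1) :
    Nat.card (perp2 Q v v') = 3 ^ (finrank F V - 2) := by
  have h1 := Cfsg.Agent.Lib.Helper44_QuadClass.finrank_perp hv hv' hvv'
  have h2' : finrank F (perp2 Q v v') = finrank F V - 2 := by
    have : finrank F (perp2 Q v v') = finrank F (Cfsg.Agent.Lib.Helper44_QuadClass.perp Q v v') := rfl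
    omega
  rw [Module.natCard_eq_pow_finrank (K := F), card_F_eq_three hf3 h2, h2']

section action

variable {X : Type*} [MulAction (V ≃ₗ[F] V) X]

theorem transitive_of_all_reg3g [Finite F] [FiniteDimensional F V] (Q : QuadraticForm F V)
    (hf3 : ∀ c : F, c = 0 ∨ c = 1 ∨ c = -1) (h2 : (2 : F) ≠ 0)
    (hQ : (QuadraticMap.polarBilin Q).Nondegenerate) (hdim : 5 ≤ finrank F V)
    (Ω : Set X) (hΩ : IsOrbit Q Ω)
    (hn : Ω.ncard < 2 * 3 ^ (finrank F V - 2))
    (hreg : ∀ v : V, v ≠ 0 → Q v = 0 → ∀ ω ∈ Ω, ∀ w : V, QuadraticMap.polar (⇑Q) v w = 0 →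
      E Q v w • ω = ω → w ∈ Submodule.span F {v})
    {v v' : V} (hv : Q v = 0) (hv' : Q v' = 0) (hvv' : QuadraticMap.polar (⇑Q) v v' = 1) :
    ∀ ω ∈ Ω, ∀ ω' ∈ Ω, ∃ w ∈ perp2 Q v v', E Q v w • ω = ω' := by
  intro ω hω ω' hω'
  by_contra hcon
  have hVfin : Finite V := Module.finite_of_finite F
  have hv0 : v ≠ 0 := by
    rintro rfl
    simp [QuadraticMap.polar] at hvv'
  have hmemW : ∀ w : V, w ∈ perp2 Q v v' ↔
      QuadraticMap.polar (⇑Q) v w = 0 ∧ QuadraticMap.polar (⇑Q) v' w = 0 :=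
    fun w => Cfsg.Agent.Lib.Helper44_QuadClass.mem_perp Q v v'
  -- key: E v w • a = E v w' • b  ⇒  b = E v (-w' + w) • a
  have hkey : ∀ (a b : X) (w w' : V), QuadraticMap.polar (⇑Q) v w = 0 →
      QuadraticMap.polar (⇑Q) v w' = 0 → E Q v w • a = E Q v w' • b →
      E Q v (-w' + w) • a = b := by
    intro a b w w' hw hw' hab
    have hnw' : QuadraticMap.polar (⇑Q) v (-w') = 0 := by
      rw [QuadraticMap.polar_neg_right, hw', neg_zero]
    rw [← E_mul Q hv hnw' hw, ← E_inv Q hv hw', mul_smul, hab, inv_smul_smul]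
  -- injectivity of w ↦ E v w • a on W, for a ∈ Ω
  have hinj : ∀ a ∈ Ω, Function.Injective (fun w : perp2 Q v v' => E Q v (w : V) • a) := by
    intro a ha w w' hww'
    have hw := ((hmemW _).1 w.2)
    have hw' := ((hmemW _).1 w'.2)
    have h1 := hkey a a w w' hw.1 hw'.1 hww'
    have hpol : QuadraticMap.polar (⇑Q) v (-(w' : V) + w) = 0 := by
      rw [QuadraticMap.polar_add_right, QuadraticMap.polar_neg_right, hw.1, hw'.1]; simp
    have h2 := hreg v hv0 hv a ha _ hpol h1
    obtain ⟨c, hc⟩ := Submodule.mem_span_singleton.mp h2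
    have h3 : QuadraticMap.polar (⇑Q) v' (-(w' : V) + w) = 0 := by
      rw [QuadraticMap.polar_add_right, QuadraticMap.polar_neg_right, hw.2, hw'.2]; simp
    rw [← hc, QuadraticMap.polar_smul_right, QuadraticMap.polar_comm, hvv', smul_eq_mul,
      mul_one] at h3
    rw [h3, zero_smul] at hc
    apply Subtype.ext
    have : (w : V) = w' := by
      have := congrArg (fun t => (w' : V) + t) hc.symm
      simpa using this
    exact this
  -- the two images
  have hsub : Set.range (fun w : perp2 Q v v' => E Q v (w : V) • ω) ∪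
      Set.range (fun w : perp2 Q v v' => E Q v (w : V) • ω') ⊆ Ω := by
    rintro x (⟨w, rfl⟩ | ⟨w, rfl⟩)
    · exact hΩ.inv _ (E_mem_T Q hQ hdim hv ((hmemW _).1 w.2).1) _ hω
    · exact hΩ.inv _ (E_mem_T Q hQ hdim hv ((hmemW _).1 w.2).1) _ hω'
  have hdisj : Disjoint (Set.range (fun w : perp2 Q v v' => E Q v (w : V) • ω))
      (Set.range (fun w : perp2 Q v v' => E Q v (w : V) • ω')) := by
    rw [Set.disjoint_left]
    rintro x ⟨w, rfl⟩ ⟨w', hw'x⟩
    apply hcon
    have hw := ((hmemW _).1 w.2)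
    have hw' := ((hmemW _).1 w'.2)
    refine ⟨-(w' : V) + w, (perp2 Q v v').add_mem ((perp2 Q v v').neg_mem w'.2) w.2, ?_⟩
    exact hkey ω ω' w w' hw.1 hw'.1 hw'x.symm
  have hcard : ∀ a ∈ Ω, (Set.range (fun w : perp2 Q v v' => E Q v (w : V) • a)).ncard =
      3 ^ (finrank F V - 2) := by
    intro a ha
    rw [← Set.image_univ, Set.ncard_image_of_injective _ (hinj a ha), Set.ncard_univ,
      card_perp2 Q hf3 h2 hv hv' hvv']
  have hfin1 : (Set.range (fun w : perp2 Q v v' => E Q v (w : V) • ω)).Finite :=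
    Set.finite_range _
  have hfin2 : (Set.range (fun w : perp2 Q v v' => E Q v (w : V) • ω')).Finite :=
    Set.finite_range _
  have h1 := Set.ncard_le_ncard hsub hΩ.fin
  rw [Set.ncard_union_eq hdisj hfin1 hfin2, hcard ω hω, hcard ω' hω'] at h1
  omega

end action

end Cfsg.Agent.Lib.Helper7_M3M_REGB
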