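import Mathlib
import Cfsg.Agent.Lib.Helper44_MI3Defs
import Cfsg.Agent.Lib.Helper8_MI2_WSET

set_option autoImplicit false
set_option linter.unusedVariables false
set_option linter.unusedSimpArgs false
set_option linter.unusedSectionVars false

/-!
# S2144 (MI3, architect helper44), package MI3-WSET: the complement of a hyperbolic plane in an odd
setting over `F₃` is again an odd setting.
-/

namespace Cfsg.Agent.Lib.Helper58_MI3_WSET

open Module Cfsg.Agent.Lib.Helper14_OmegaSimple Cfsg.Agent.Lib.Helper22_MI2Defs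
  Cfsg.Agent.Lib.Helper44_MI3Defs

variable {F V : Type*} [Field F] [AddCommGroup V] [Module F V]

section count

theorem three_eq_zero (hF3 : ∀ c : F, c = 0 ∨ c = 1 ∨ c = -1) (h2 : (2 : F) ≠ 0) : (3 : F) = 0 := by
  rcases hF3 2 with h | h | h
  · exact absurd h h2
  · exfalso
    have : (1 : F) = 0 := by linear_combination h
    exact one_ne_zero this
  · linear_combination h

theorem one_ne_neg_one (h2 : (2 : F) ≠ 0) : (1 : F) ≠ -1 := by
  intro h
  apply h2
  linear_combination h

variable [Fintype F] [DecidableEq F]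

theorem univ_eq_triple (hF3 : ∀ c : F, c = 0 ∨ c = 1 ∨ c = -1) :
    (Finset.univ : Finset F) = {0, 1, -1} := by
  ext c
  simp only [Finset.mem_univ, Finset.mem_insert, Finset.mem_singleton, true_iff]
  exact hF3 c

theorem sum_F3 (hF3 : ∀ c : F, c = 0 ∨ c = 1 ∨ c = -1) (h2 : (2 : F) ≠ 0) (f : F → ℕ) :
    ∑ a : F, f a = f 0 + f 1 + f (-1) := by
  have h01 : (0 : F) ≠ 1 := zero_ne_one
  have h0m : (0 : F) ≠ -1 := by
    intro h
    have : (1 : F) = 0 := by linear_combination h
    exact one_ne_zero this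
  have h1m := one_ne_neg_one h2
  rw [univ_eq_triple hF3, Finset.sum_insert (by simp [h01, h0m]), Finset.sum_pair h1m]
  ring

theorem card_F3 (hF3 : ∀ c : F, c = 0 ∨ c = 1 ∨ c = -1) (h2 : (2 : F) ≠ 0) :
    Fintype.card F = 3 := by
  have := sum_F3 hF3 h2 (fun _ => 1)
  simpa using this

/-- the number of `(α, β, w)` with `α β + q w = c` -/
theorem count_aux3 (hF3 : ∀ c : F, c = 0 ∨ c = 1 ∨ c = -1) (h2 : (2 : F) ≠ 0) {W : Type*}
    [Fintype W] (q : W → F) (c : F) :
    Fintype.card {p : (F × F) × W // p.1.1 * p.1.2 + q p.2 = c} =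
      5 * Fintype.card {w : W // q w = c} + 2 * Fintype.card {w : W // q w = c - 1} +
        2 * Fintype.card {w : W // q w = c + 1} := by
  classical
  have h1 : Fintype.card {p : (F × F) × W // p.1.1 * p.1.2 + q p.2 = c} =
      Fintype.card (Σ ab : F × F, {w : W // ab.1 * ab.2 + q w = c}) :=
    Fintype.card_congr
      (Equiv.subtypeProdEquivSigmaSubtype (fun (ab : F × F) (w : W) => ab.1 * ab.2 + q w = c))
  rw [h1, Fintype.card_sigma, Fintype.sum_prod_type, sum_F3 hF3 h2, sum_F3 hF3 h2,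
    sum_F3 hF3 h2, sum_F3 hF3 h2]
  have hval : ∀ a b e : F, a * b = e →
      Fintype.card {w : W // a * b + q w = c} = Fintype.card {w : W // q w = c - e} := by
    intro a b e hab
    refine Fintype.card_congr (Equiv.subtypeEquivRight fun w => ?_)
    rw [hab]
    constructor
    · intro h; linear_combination h
    · intro h; linear_combination h
  have e0 : Fintype.card {w : W // q w = c - 0} = Fintype.card {w : W // q w = c} :=
    Fintype.card_congr (Equiv.subtypeEquivRight fun w => by rw [sub_zero])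
  have em : Fintype.card {w : W // q w = c - -1} = Fintype.card {w : W // q w = c + 1} :=
    Fintype.card_congr (Equiv.subtypeEquivRight fun w => by rw [sub_neg_eq_add])
  rw [hval 0 0 0 (by simp), hval 0 1 0 (by simp), hval 0 (-1) 0 (by simp), hval 1 0 0 (by simp),
    hval 1 1 1 (by simp), hval 1 (-1) (-1) (by simp), hval (-1) 0 0 (by simp),
    hval (-1) 1 (-1) (by simp), hval (-1) (-1) 1 (by simp), e0, em]
  ring

/-- partition by the value of `q` -/
theorem card_eq_sum_levels (hF3 : ∀ c : F, c = 0 ∨ c = 1 ∨ c = -1) (h2 : (2 : F) ≠ 0) {W : Type*}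
    [Fintype W] (q : W → F) :
    Fintype.card W = Fintype.card {w : W // q w = 0} + Fintype.card {w : W // q w = 1} +
      Fintype.card {w : W // q w = -1} := by
  classical
  rw [Fintype.card_congr (Equiv.sigmaFiberEquiv q).symm, Fintype.card_sigma, sum_F3 hF3 h2]

end count

theorem oddSetting_perp2 [Finite F] [FiniteDimensional F V] (Q : QuadraticForm F V) {k : ℕ}
    (hS : OddSetting Q (k + 1)) {v v' : V} (hv : Q v = 0) (hv' : Q v' = 0)
    (hvv' : QuadraticMap.polar (⇑Q) v v' = 1) :
    IsCompl (perp2 Q v v')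
        (LinearMap.BilinForm.orthogonal (QuadraticMap.polarBilin Q) (perp2 Q v v')) ∧
      OddSetting (resQ Q (perp2 Q v v')) k := by
  classical
  let _ : Fintype F := Fintype.ofFinite F
  have : Finite V := Module.finite_of_finite F
  let _ : Fintype V := Fintype.ofFinite V
  have hF3 := hS.f3
  have h2 := hS.two_ne
  have h3 : (3 : F) = 0 := three_eq_zero hF3 h2
  have hnd := Cfsg.Agent.Lib.Helper44_QuadClass.nondegenerate_perp hS.nondeg hv hv' hvv'
  have hdim : finrank F ↥(perp2 Q v v') = 2 * k + 1 := by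
    have h := Cfsg.Agent.Lib.Helper44_QuadClass.finrank_perp hv hv' hvv'
    have h2 := hS.dim
    show finrank F ↥(Cfsg.Agent.Lib.Helper44_QuadClass.perp Q v v') = 2 * k + 1
    omega
  constructor
  · apply LinearMap.BilinForm.isCompl_orthogonal_of_restrict_nondegenerate
    · intro x y hxy
      rw [QuadraticMap.polarBilin_apply_apply] at hxy ⊢
      rw [QuadraticMap.polar_comm]; exact hxy
    · have heq : LinearMap.BilinForm.restrict (QuadraticMap.polarBilin Q) (perp2 Q v v')
          = QuadraticMap.polarBilin (Q.comp (perp2 Q v v').subtype) := by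
        ext x y
        simp [Cfsg.Agent.Lib.Helper44_QuadClass.polar_comp_subtype]
      rw [heq]
      exact hnd
  · -- the counts
    obtain ⟨q, hq⟩ : ∃ q : ↥(perp2 Q v v') → F, q = ⇑(resQ Q (perp2 Q v v')) := ⟨_, rfl⟩
    have hcardW : Fintype.card ↥(perp2 Q v v') = 3 ^ (2 * k + 1) := by
      rw [← Nat.card_eq_fintype_card, Module.natCard_eq_pow_finrank (K := F), hdim,
        Nat.card_eq_fintype_card, card_F3 hF3 h2]
    have hcongr : ∀ c : F, Fintype.card {x : V // Q x = c} =
        Fintype.card {p : (F × F) × ↥(perp2 Q v v') // p.1.1 * p.1.2 + q p.2 = c} := by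
      intro c
      refine Fintype.card_congr
        ((Cfsg.Agent.Lib.Helper8_MI2_WSET.splitEquiv Q hv hv' hvv').subtypeEquiv fun x => ?_)
      have hx : x = (Cfsg.Agent.Lib.Helper8_MI2_WSET.splitEquiv Q hv hv' hvv').symm
          (Cfsg.Agent.Lib.Helper8_MI2_WSET.splitEquiv Q hv hv' hvv' x) :=
        ((Cfsg.Agent.Lib.Helper8_MI2_WSET.splitEquiv Q hv hv' hvv').symm_apply_apply x).symm
      obtain ⟨p, hp⟩ : ∃ p, p = Cfsg.Agent.Lib.Helper8_MI2_WSET.splitEquiv Q hv hv' hvv' x :=
        ⟨_, rfl⟩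
      rw [← hp] at hx ⊢
      have hx' : x = p.1.1 • v + p.1.2 • v' + (p.2 : V) := hx
      rw [hx', Cfsg.Agent.Lib.Helper8_MI2_WSET.Q_split Q hv hv' hvv' _ _ _ p.2.2, hq]
      rfl
    have hN0 : Fintype.card {x : V // Q x = 0} = 3 ^ (2 * (k + 1)) := by
      rw [← Nat.card_eq_fintype_card]; exact hS.nsing
    have hNm : Fintype.card {x : V // Q x = -1} = 3 ^ (k + 1) * (3 ^ (k + 1) - 1) := by
      rw [← Nat.card_eq_fintype_card]; exact hS.nminus
    have hc0 := count_aux3 hF3 h2 q 0
    have hcm := count_aux3 hF3 h2 q (-1)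
    rw [← hcongr 0, hN0] at hc0
    rw [← hcongr (-1), hNm] at hcm
    have hpart := card_eq_sum_levels hF3 h2 q
    rw [hcardW] at hpart
    -- normalise the level sets
    have e1 : Fintype.card {w : ↥(perp2 Q v v') // q w = 0 - 1} =
        Fintype.card {w : ↥(perp2 Q v v') // q w = -1} :=
      Fintype.card_congr (Equiv.subtypeEquivRight fun w => by rw [zero_sub])
    have e2 : Fintype.card {w : ↥(perp2 Q v v') // q w = 0 + 1} =
        Fintype.card {w : ↥(perp2 Q v v') // q w = 1} :=
      Fintype.card_congr (Equiv.subtypeEquivRight fun w => by rw [zero_add])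
    have e3 : Fintype.card {w : ↥(perp2 Q v v') // q w = -1 - 1} =
        Fintype.card {w : ↥(perp2 Q v v') // q w = 1} :=
      Fintype.card_congr (Equiv.subtypeEquivRight fun w => by
        have : (-1 - 1 : F) = 1 := by linear_combination -h3
        rw [this])
    have e4 : Fintype.card {w : ↥(perp2 Q v v') // q w = -1 + 1} =
        Fintype.card {w : ↥(perp2 Q v v') // q w = 0} :=
      Fintype.card_congr (Equiv.subtypeEquivRight fun w => by rw [neg_add_cancel])
    rw [e1, e2] at hc0
    rw [e3, e4] at hcm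
    obtain ⟨s, hs⟩ : ∃ s, s = Fintype.card {w : ↥(perp2 Q v v') // q w = 0} := ⟨_, rfl⟩
    obtain ⟨pl, hpl⟩ : ∃ s, s = Fintype.card {w : ↥(perp2 Q v v') // q w = 1} := ⟨_, rfl⟩
    obtain ⟨mn, hmn⟩ : ∃ s, s = Fintype.card {w : ↥(perp2 Q v v') // q w = -1} := ⟨_, rfl⟩
    rw [← hs, ← hpl, ← hmn] at hc0 hcm hpart
    -- arithmetic
    obtain ⟨u, hu⟩ : ∃ u, 3 ^ k = u + 1 :=
      ⟨3 ^ k - 1, by have := Nat.one_le_pow k 3 (by norm_num); omega⟩
    have p1 : 3 ^ (2 * k + 1) = 3 * ((u + 1) * (u + 1)) := by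
      rw [pow_succ, two_mul, pow_add, hu]; ring
    have p2 : 3 ^ (2 * (k + 1)) = 9 * ((u + 1) * (u + 1)) := by
      have : 2 * (k + 1) = 2 * k + 1 + 1 := by ring
      rw [this, pow_succ, p1]; ring
    have p3 : 3 ^ (k + 1) = 3 * (u + 1) := by rw [pow_succ, hu]; ring
    have p4 : 3 ^ (2 * k) = (u + 1) * (u + 1) := by rw [two_mul, pow_add, hu]
    rw [p1] at hpart
    rw [p2] at hc0
    rw [p3] at hcm
    have p5 : 3 * (u + 1) - 1 = 3 * u + 2 := by omega
    rw [p5] at hcm
    have q1 : (u + 1) * (u + 1) = u * u + 2 * u + 1 := by ring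
    have q2 : 3 * (u + 1) * (3 * u + 2) = 9 * (u * u) + 15 * u + 6 := by ring
    have q3 : (u + 1) * u = u * u + u := by ring
    have hs_val : s = (u + 1) * (u + 1) := by
      rw [q1] at hpart hc0 ⊢
      omega
    have hmn_val : mn = (u + 1) * u := by
      rw [q1] at hpart
      rw [q2] at hcm
      rw [q3]
      omega
    have hfin0 : Nat.card {x : ↥(perp2 Q v v') // (resQ Q (perp2 Q v v')) x = 0} = 3 ^ (2 * k) := by
      rw [Nat.card_eq_fintype_card, p4, ← hs_val, hs, hq]
    have hfinm : Nat.card {x : ↥(perp2 Q v v') // (resQ Q (perp2 Q v v')) x = -1} =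
        3 ^ k * (3 ^ k - 1) := by
      rw [Nat.card_eq_fintype_card, hu, Nat.add_sub_cancel, ← hmn_val, hmn, hq]
    exact ⟨hF3, h2, hnd, hdim, hfin0, hfinm⟩

end Cfsg.Agent.Lib.Helper58_MI3_WSET
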