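import Mathlib
import Cfsg.Agent.Lib.Helper44_M3MDefs
import Cfsg.Agent.Lib.Helper8_MI2_WSET
import Cfsg.Agent.Lib.Helper58_MI3_WSET

set_option autoImplicit false
set_option linter.unusedVariables false
set_option linter.unusedSimpArgs false
set_option linter.unusedSectionVars false

/-!
# M3M-WSET (helper7, for helper44's M3M market; adaptation of helper58's `Helper58_MI3_WSET`):
the complement of a hyperbolic plane in a minus setting over `F₃` is again a minus setting.
-/

namespace Cfsg.Agent.Lib.Helper7_M3M_WSET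

open Module Cfsg.Agent.Lib.Helper14_OmegaSimple Cfsg.Agent.Lib.Helper22_MI2Defs
  Cfsg.Agent.Lib.Helper44_MI3Defs Cfsg.Agent.Lib.Helper44_M3MDefs
  Cfsg.Agent.Lib.Helper58_MI3_WSET

variable {F V : Type*} [Field F] [AddCommGroup V] [Module F V]

theorem minusSetting_perp2 [Finite F] [FiniteDimensional F V] (Q : QuadraticForm F V) {j : ℕ}
    (hS : MinusSetting3 Q (j + 1)) {v v' : V} (hv : Q v = 0) (hv' : Q v' = 0)
    (hvv' : QuadraticMap.polar (⇑Q) v v' = 1) :
    IsCompl (perp2 Q v v')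
        (LinearMap.BilinForm.orthogonal (QuadraticMap.polarBilin Q) (perp2 Q v v')) ∧
      MinusSetting3 (resQ Q (perp2 Q v v')) j := by
  classical
  let _ : Fintype F := Fintype.ofFinite F
  have : Finite V := Module.finite_of_finite F
  let _ : Fintype V := Fintype.ofFinite V
  have hF3 := hS.f3
  have h2 := hS.two_ne
  have h3 : (3 : F) = 0 := three_eq_zero hF3 h2
  have hnd := Cfsg.Agent.Lib.Helper44_QuadClass.nondegenerate_perp hS.nondeg hv hv' hvv'
  have hdim : finrank F ↥(perp2 Q v v') = 2 * j + 2 := by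
    have h := Cfsg.Agent.Lib.Helper44_QuadClass.finrank_perp hv hv' hvv'
    have h2 := hS.dim
    show finrank F ↥(Cfsg.Agent.Lib.Helper44_QuadClass.perp Q v v') = 2 * j + 2
    omega
  constructor
  · apply LinearMap.BilinForm.isCompl_orthogonal_of_restrict_nondegenerate
    · intro x y hxy
      rw [QuadraticMap.polarBilin_apply_apply] at hxy ⊢
      rw [QuadraticMap.polar_comm]; exact hxy
    · have heq : LinearMap.BilinForm.restrict (QuadraticMap.polarBilin Q) (perp2 Q v v')
          = QuadraticMap.polarBilin (Q.comp (perp2 Q v v').subtype) := by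
        ext x y
        simp [Cfsg.Agent.Lib.Helper44_QuadClass.polar_comp_subtype]
      rw [heq]
      exact hnd
  · -- the counts
    obtain ⟨q, hq⟩ : ∃ q : ↥(perp2 Q v v') → F, q = ⇑(resQ Q (perp2 Q v v')) := ⟨_, rfl⟩
    have hcardW : Fintype.card ↥(perp2 Q v v') = 3 ^ (2 * j + 2) := by
      rw [← Nat.card_eq_fintype_card, Module.natCard_eq_pow_finrank (K := F), hdim,
        Nat.card_eq_fintype_card, card_F3 hF3 h2]
    have hcongr : ∀ c : F, Fintype.card {x : V // Q x = c} =
        Fintype.card {p : (F × F) × ↥(perp2 Q v v') // p.1.1 * p.1.2 + q p.2 = c} := by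
      intro c
      refine Fintype.card_congr
        ((Cfsg.Agent.Lib.Helper8_MI2_WSET.splitEquiv Q hv hv' hvv').subtypeEquiv fun x => ?_)
      have hx : x = (Cfsg.Agent.Lib.Helper8_MI2_WSET.splitEquiv Q hv hv' hvv').symm
          (Cfsg.Agent.Lib.Helper8_MI2_WSET.splitEquiv Q hv hv' hvv' x) :=
        ((Cfsg.Agent.Lib.Helper8_MI2_WSET.splitEquiv Q hv hv' hvv').symm_apply_apply x).symm
      obtain ⟨p, hp⟩ : ∃ p, p = Cfsg.Agent.Lib.Helper8_MI2_WSET.splitEquiv Q hv hv' hvv' x :=
        ⟨_, rfl⟩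
      rw [← hp] at hx ⊢
      have hx' : x = p.1.1 • v + p.1.2 • v' + (p.2 : V) := hx
      rw [hx', Cfsg.Agent.Lib.Helper8_MI2_WSET.Q_split Q hv hv' hvv' _ _ _ p.2.2, hq]
      rfl
    have hN0 : Fintype.card {x : V // Q x = 0} =
        (3 ^ (j + 1 + 1) + 1) * (3 ^ (j + 1) - 1) + 1 := by
      rw [← Nat.card_eq_fintype_card]; exact hS.nsing
    have hNp : Fintype.card {x : V // Q x = 1} = 3 ^ (j + 1) * (3 ^ (j + 1 + 1) + 1) := by
      rw [← Nat.card_eq_fintype_card]; exact hS.nplus
    have hNm : Fintype.card {x : V // Q x = -1} = 3 ^ (j + 1) * (3 ^ (j + 1 + 1) + 1) := by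
      rw [← Nat.card_eq_fintype_card]; exact hS.nminus
    have hc0 := count_aux3 hF3 h2 q 0
    have hcp := count_aux3 hF3 h2 q 1
    have hcm := count_aux3 hF3 h2 q (-1)
    rw [← hcongr 0, hN0] at hc0
    rw [← hcongr 1, hNp] at hcp
    rw [← hcongr (-1), hNm] at hcm
    have hpart := card_eq_sum_levels hF3 h2 q
    rw [hcardW] at hpart
    -- normalise the level sets
    have e1 : Fintype.card {w : ↥(perp2 Q v v') // q w = 0 - 1} =
        Fintype.card {w : ↥(perp2 Q v v') // q w = -1} :=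
      Fintype.card_congr (Equiv.subtypeEquivRight fun w => by rw [zero_sub])
    have e2 : Fintype.card {w : ↥(perp2 Q v v') // q w = 0 + 1} =
        Fintype.card {w : ↥(perp2 Q v v') // q w = 1} :=
      Fintype.card_congr (Equiv.subtypeEquivRight fun w => by rw [zero_add])
    have e3 : Fintype.card {w : ↥(perp2 Q v v') // q w = -1 - 1} =
        Fintype.card {w : ↥(perp2 Q v v') // q w = 1} :=
      Fintype.card_congr (Equiv.subtypeEquivRight fun w => by
        have : (-1 - 1 : F) = 1 := by linear_combination -h3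
        rw [this])
    have e4 : Fintype.card {w : ↥(perp2 Q v v') // q w = -1 + 1} =
        Fintype.card {w : ↥(perp2 Q v v') // q w = 0} :=
      Fintype.card_congr (Equiv.subtypeEquivRight fun w => by rw [neg_add_cancel])
    have e5 : Fintype.card {w : ↥(perp2 Q v v') // q w = 1 - 1} =
        Fintype.card {w : ↥(perp2 Q v v') // q w = 0} :=
      Fintype.card_congr (Equiv.subtypeEquivRight fun w => by rw [sub_self])
    have e6 : Fintype.card {w : ↥(perp2 Q v v') // q w = 1 + 1} =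
        Fintype.card {w : ↥(perp2 Q v v') // q w = -1} :=
      Fintype.card_congr (Equiv.subtypeEquivRight fun w => by
        have : (1 + 1 : F) = -1 := by linear_combination h3
        rw [this])
    rw [e1, e2] at hc0
    rw [e5, e6] at hcp
    rw [e3, e4] at hcm
    obtain ⟨s, hs⟩ : ∃ s, s = Fintype.card {w : ↥(perp2 Q v v') // q w = 0} := ⟨_, rfl⟩
    obtain ⟨pl, hpl⟩ : ∃ s, s = Fintype.card {w : ↥(perp2 Q v v') // q w = 1} := ⟨_, rfl⟩
    obtain ⟨mn, hmn⟩ : ∃ s, s = Fintype.card {w : ↥(perp2 Q v v') // q w = -1} := ⟨_, rfl⟩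
    rw [← hs, ← hpl, ← hmn] at hc0 hcp hcm hpart
    -- arithmetic, `3 ^ j = u + 1`
    obtain ⟨u, hu⟩ : ∃ u, 3 ^ j = u + 1 :=
      ⟨3 ^ j - 1, by have := Nat.one_le_pow j 3 (by norm_num); omega⟩
    have p1 : 3 ^ (2 * j + 2) = 9 * ((u + 1) * (u + 1)) := by
      rw [pow_succ, pow_succ, two_mul, pow_add, hu]; ring
    have p2 : 3 ^ (j + 1) = 3 * (u + 1) := by rw [pow_succ, hu]; ring
    have p3 : 3 ^ (j + 1 + 1) = 9 * (u + 1) := by rw [pow_succ, p2]; ring
    rw [p1] at hpart
    rw [p2, p3] at hc0 hcp hcm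
    have p5 : 3 * (u + 1) - 1 = 3 * u + 2 := by omega
    rw [p5] at hc0
    have q0 : (9 * (u + 1) + 1) * (3 * u + 2) + 1 = 27 * (u * u) + 48 * u + 21 := by ring
    have q1 : 9 * ((u + 1) * (u + 1)) = 9 * (u * u) + 18 * u + 9 := by ring
    have q2 : 3 * (u + 1) * (9 * (u + 1) + 1) = 27 * (u * u) + 57 * u + 30 := by ring
    rw [q0] at hc0
    rw [q1] at hpart
    rw [q2] at hcp hcm
    have hs_val : s = (3 * (u + 1) + 1) * u + 1 := by
      have : (3 * (u + 1) + 1) * u + 1 = 3 * (u * u) + 4 * u + 1 := by ring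
      rw [this]
      omega
    have hpl_val : pl = (u + 1) * (3 * (u + 1) + 1) := by
      have : (u + 1) * (3 * (u + 1) + 1) = 3 * (u * u) + 7 * u + 4 := by ring
      rw [this]
      omega
    have hmn_val : mn = (u + 1) * (3 * (u + 1) + 1) := by
      have : (u + 1) * (3 * (u + 1) + 1) = 3 * (u * u) + 7 * u + 4 := by ring
      rw [this]
      omega
    have hfin0 : Nat.card {x : ↥(perp2 Q v v') // (resQ Q (perp2 Q v v')) x = 0} =
        (3 ^ (j + 1) + 1) * (3 ^ j - 1) + 1 := by
      rw [Nat.card_eq_fintype_card, p2, hu, Nat.add_sub_cancel, ← hs_val, hs, hq]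
    have hfinp : Nat.card {x : ↥(perp2 Q v v') // (resQ Q (perp2 Q v v')) x = 1} =
        3 ^ j * (3 ^ (j + 1) + 1) := by
      rw [Nat.card_eq_fintype_card, p2, hu, ← hpl_val, hpl, hq]
    have hfinm : Nat.card {x : ↥(perp2 Q v v') // (resQ Q (perp2 Q v v')) x = -1} =
        3 ^ j * (3 ^ (j + 1) + 1) := by
      rw [Nat.card_eq_fintype_card, p2, hu, ← hmn_val, hmn, hq]
    exact ⟨hF3, h2, hnd, hdim, hfin0, hfinp, hfinm⟩

end Cfsg.Agent.Lib.Helper7_M3M_WSET
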