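import Mathlib
import Cfsg.Agent.Lib.Helper44_M3MDefs

set_option autoImplicit false

/-!
# M3M-SCNT (helper81; adaptation of helper17's `Helper17_MI3_SCNT`): cardinalities in a `MinusSetting3`
-/

namespace Cfsg.Agent.Lib.Helper81_M3M_SCNT

open Module Cfsg.Agent.Lib.Helper14_OmegaSimple Cfsg.Agent.Lib.Helper22_MI2Defs
  Cfsg.Agent.Lib.Helper44_MI3Defs Cfsg.Agent.Lib.Helper44_M3MDefs

variable {F V : Type*} [Field F] [AddCommGroup V] [Module F V]

theorem card_field {j : ℕ} (Q : QuadraticForm F V) (hS : MinusSetting3 Q j) : Nat.card F = 3 := by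
  have h01 : (0 : F) ≠ 1 := zero_ne_one
  have h0m : (0 : F) ≠ -1 := by
    intro h
    have : (1 : F) = 0 := by linear_combination h
    exact one_ne_zero this
  have h1m : (1 : F) ≠ -1 := by
    intro h
    apply hS.two_ne
    linear_combination h
  have huniv : (Set.univ : Set F) = {0, 1, -1} := by
    ext c
    simp only [Set.mem_univ, Set.mem_insert_iff, Set.mem_singleton_iff, true_iff]
    exact hS.f3 c
  rw [← Set.ncard_univ, huniv]
  exact Set.ncard_eq_three.mpr ⟨0, 1, -1, h01, h0m, h1m, rfl⟩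

/-- The package statement **M3M-SCNT**. -/
theorem card_levels3m [Finite F] [FiniteDimensional F V] (Q : QuadraticForm F V) {j : ℕ}
    (hS : MinusSetting3 Q j) :
    Nat.card F = 3 ∧ Nat.card V = 3 ^ (2 * j + 2) ∧
      Nat.card {x : V // x ≠ 0 ∧ Q x = 0} = (3 ^ (j + 1) + 1) * (3 ^ j - 1) := by
  have hF : Nat.card F = 3 := card_field Q hS
  have hVfin : Finite V := Module.finite_of_finite F
  have hV : Nat.card V = 3 ^ (2 * j + 2) := by
    rw [← hF, ← hS.dim]
    exact Module.natCard_eq_pow_finrank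
  refine ⟨hF, hV, ?_⟩
  have h0 : (0 : V) ∈ {x : V | Q x = 0} := by
    show Q 0 = 0
    exact QuadraticMap.map_zero Q
  have hset : {x : V | x ≠ 0 ∧ Q x = 0} = {x : V | Q x = 0} \ {0} := by
    ext x
    simp only [Set.mem_ofPred_eq, Set.mem_sdiff, Set.mem_singleton_iff]
    tauto
  have hn : {x : V | Q x = 0}.ncard = (3 ^ (j + 1) + 1) * (3 ^ j - 1) + 1 := by
    rw [← Nat.card_coe_set_eq]
    exact hS.nsing
  show Nat.card ↥{x : V | x ≠ 0 ∧ Q x = 0} = _
  rw [Nat.card_coe_set_eq, hset, Set.ncard_sdiff_singleton_of_mem h0, hn, Nat.add_sub_cancel]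

end Cfsg.Agent.Lib.Helper81_M3M_SCNT
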