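import Mathlib
import Cfsg.Agent.Lib.Helper44_M3MDefs

set_option autoImplicit false

/-!
# M3M-SPAN (helper44's market, `q = 3` slice of S2147): a vector orthogonal to all good pairs of `P^⟂` lies in `P`
-/

namespace Cfsg.Agent.Lib.Helper99_M3M_SPAN

open Module Cfsg.Agent.Lib.Helper14_OmegaSimple Cfsg.Agent.Lib.Helper22_MI2Defs
  Cfsg.Agent.Lib.Helper44_MI3Defs Cfsg.Agent.Lib.Helper44_M3MDefs

variable {F V : Type*} [Field F] [AddCommGroup V] [Module F V]

/-- A subspace with zero radical (for the polar form). -/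
def ND (Q : QuadraticForm F V) (Z : Submodule F V) : Prop :=
  ∀ z ∈ Z, (∀ t ∈ Z, QuadraticMap.polar (⇑Q) z t = 0) → z = 0

/-- A nonzero `ND` subspace contains a nonsingular vector. -/
theorem exists_nonsing (Q : QuadraticForm F V) {Z : Submodule F V} (hZ : ND Q Z) {z₀ : V}
    (hz₀ : z₀ ∈ Z) (hne : z₀ ≠ 0) : ∃ y ∈ Z, Q y ≠ 0 := by
  by_contra hcon
  push Not at hcon
  apply hne
  apply hZ z₀ hz₀
  intro t ht
  rw [QuadraticMap.polar, hcon _ (Z.add_mem hz₀ ht), hcon _ hz₀, hcon _ ht]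
  ring

/-- `Z ⊓ x^⟂`. -/
def cut (Q : QuadraticForm F V) (Z : Submodule F V) (x : V) : Submodule F V :=
  Z ⊓ LinearMap.ker (QuadraticMap.polarBilin Q x)

theorem mem_cut (Q : QuadraticForm F V) (Z : Submodule F V) (x t : V) :
    t ∈ cut Q Z x ↔ t ∈ Z ∧ QuadraticMap.polar (⇑Q) x t = 0 := by
  simp [cut, LinearMap.mem_ker]

/-- projection of `t` to `x^⟂` along a nonsingular `x`. -/
theorem proj_mem_cut (Q : QuadraticForm F V) (h2 : (2 : F) ≠ 0) {Z : Submodule F V} {x : V}
    (hx : x ∈ Z) (hQx : Q x ≠ 0) {t : V} (ht : t ∈ Z) :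
    t - (QuadraticMap.polar (⇑Q) x t / (2 * Q x)) • x ∈ cut Q Z x := by
  rw [mem_cut]
  refine ⟨Z.sub_mem ht (Z.smul_mem _ hx), ?_⟩
  rw [QuadraticMap.polar_sub_right, QuadraticMap.polar_smul_right,
    Cfsg.Agent.Lib.Helper44_QuadClass.polar_self', smul_eq_mul]
  field_simp
  ring

theorem cut_ND (Q : QuadraticForm F V) (h2 : (2 : F) ≠ 0) {Z : Submodule F V} (hZ : ND Q Z) {x : V}
    (hx : x ∈ Z) (hQx : Q x ≠ 0) : ND Q (cut Q Z x) := by
  intro z hz hzt
  rw [mem_cut] at hz
  apply hZ z hz.1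
  intro t ht
  have h1 := hzt _ (proj_mem_cut Q h2 hx hQx ht)
  rw [QuadraticMap.polar_sub_right, QuadraticMap.polar_smul_right, QuadraticMap.polar_comm (⇑Q) z x,
    hz.2, smul_zero, sub_zero] at h1
  exact h1

theorem cut_le (Q : QuadraticForm F V) (Z : Submodule F V) (x : V) : cut Q Z x ≤ Z := inf_le_left

/-- In a field with three elements: nonzero elements are `±1`, and two distinct nonzero ones are
opposite. -/
theorem eq_neg_of_ne {a b : F} (hf3 : ∀ c : F, c = 0 ∨ c = 1 ∨ c = -1) (ha : a ≠ 0) (hb : b ≠ 0)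
    (hab : a ≠ b) : a = -b := by
  rcases hf3 a with h | h | h <;> rcases hf3 b with h' | h' | h'
  all_goals first | exact absurd h ha | exact absurd h' hb | skip
  · rw [h, h'] at hab; exact absurd rfl hab
  · rw [h, h']; ring
  · rw [h, h']
  · rw [h, h'] at hab; exact absurd rfl hab

theorem three_eq_zero (hf3 : ∀ c : F, c = 0 ∨ c = 1 ∨ c = -1) (h2 : (2 : F) ≠ 0) : (3 : F) = 0 := by
  rcases hf3 2 with h | h | h
  · exact absurd h h2
  · exfalso
    have : (1 : F) = 0 := by linear_combination h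
    exact one_ne_zero this
  · linear_combination h

/-- **M3M-SPAN**. -/
theorem mem_of_orth_good [Finite F] [FiniteDimensional F V] (Q : QuadraticForm F V)
    (hf3 : ∀ c : F, c = 0 ∨ c = 1 ∨ c = -1) (h2 : (2 : F) ≠ 0)
    (hQ : (QuadraticMap.polarBilin Q).Nondegenerate) (P : Submodule F V)
    (hP : IsCompl P (LinearMap.BilinForm.orthogonal (QuadraticMap.polarBilin Q) P))
    (hdim : finrank F P + 3 ≤ finrank F V) (c : V)
    (hc : ∀ x y : V, x ∈ LinearMap.BilinForm.orthogonal (QuadraticMap.polarBilin Q) P →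
      y ∈ LinearMap.BilinForm.orthogonal (QuadraticMap.polarBilin Q) P →
      Q x ≠ 0 → Q y = Q x → QuadraticMap.polar (⇑Q) x y = 0 → QuadraticMap.polar (⇑Q) c x = 0) :
    c ∈ P := by
  have h3 : (3 : F) = 0 := three_eq_zero hf3 h2
  obtain ⟨Y, hYdef⟩ : ∃ Y, Y = LinearMap.BilinForm.orthogonal (QuadraticMap.polarBilin Q) P := ⟨_, rfl⟩
  rw [← hYdef] at hP hc
  have hPY : ∀ a ∈ P, ∀ t ∈ Y, QuadraticMap.polar (⇑Q) a t = 0 := by
    intro a ha t ht
    rw [hYdef, LinearMap.BilinForm.mem_orthogonal_iff] at ht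
    exact ht a ha
  have hdimY : 3 ≤ finrank F Y := by
    have := Submodule.finrank_add_eq_of_isCompl hP
    omega
  -- `Y` is nondegenerate
  have hYND : ND Q Y := by
    intro z hz hzt
    have hz0 : ∀ t : V, QuadraticMap.polarBilin Q z t = 0 := by
      intro t
      have ht : t ∈ P ⊔ Y := by rw [hP.sup_eq_top]; trivial
      obtain ⟨t₁, ht₁, t₀, ht₀, rfl⟩ := Submodule.mem_sup.mp ht
      rw [map_add, QuadraticMap.polarBilin_apply_apply, QuadraticMap.polarBilin_apply_apply,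
        QuadraticMap.polar_comm (⇑Q) z t₁, hPY t₁ ht₁ z hz, hzt t₀ ht₀, add_zero]
    have := hQ.1 z hz0
    exact this
  -- partner of a nonsingular `x ∈ Y`
  have hpartner : ∀ x ∈ Y, Q x ≠ 0 → ∃ y ∈ Y, Q y = Q x ∧ QuadraticMap.polar (⇑Q) x y = 0 := by
    intro x hx hQx
    have hx0 : x ≠ 0 := by
      rintro rfl
      exact hQx (map_zero Q)
    have hND1 : ND Q (cut Q Y x) := cut_ND Q h2 hYND hx hQx
    -- a nonzero vector of `cut Q Y x`
    have hex1 : ∃ z ∈ Y, z ∉ Submodule.span F {x} := by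
      by_contra hcon
      push Not at hcon
      have hle : Y ≤ Submodule.span F {x} := hcon
      have h1 := Submodule.finrank_mono hle
      have h2' := finrank_span_singleton (K := F) hx0
      omega
    obtain ⟨z, hzY, hzx⟩ := hex1
    have hz1 : z - (QuadraticMap.polar (⇑Q) x z / (2 * Q x)) • x ∈ cut Q Y x :=
      proj_mem_cut Q h2 hx hQx hzY
    have hz1ne : z - (QuadraticMap.polar (⇑Q) x z / (2 * Q x)) • x ≠ 0 := by
      intro h0
      apply hzx
      rw [sub_eq_zero] at h0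
      rw [h0]
      exact Submodule.smul_mem _ _ (Submodule.mem_span_singleton_self x)
    obtain ⟨y₁, hy₁, hQy₁⟩ := exists_nonsing Q hND1 hz1 hz1ne
    have hy₁' := (mem_cut Q Y x y₁).mp hy₁
    by_cases hq1 : Q y₁ = Q x
    · exact ⟨y₁, hy₁'.1, hq1, hy₁'.2⟩
    have hq1' : Q y₁ = -Q x := eq_neg_of_ne hf3 hQy₁ hQx hq1
    have hy₁0 : y₁ ≠ 0 := by
      rintro rfl
      exact hQy₁ (map_zero Q)
    have hND2 : ND Q (cut Q (cut Q Y x) y₁) := cut_ND Q h2 hND1 hy₁ hQy₁
    -- a nonzero vector of the second cut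
    have hex2 : ∃ z ∈ Y, z ∉ Submodule.span F {x, y₁} := by
      by_contra hcon
      push Not at hcon
      have hle : Y ≤ Submodule.span F {x, y₁} := hcon
      have h1 := Submodule.finrank_mono hle
      have h2' : finrank F (Submodule.span F ({x, y₁} : Set V)) ≤ 2 := by
        classical
        have := finrank_span_finset_le_card (R := F) ({x, y₁} : Finset V)
        have hc2 : ({x, y₁} : Finset V).card ≤ 2 := Finset.card_le_two
        have e : ((({x, y₁} : Finset V) : Set V)) = {x, y₁} := by simp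
        rw [e] at this
        unfold Set.finrank at this
        omega
      omega
    obtain ⟨z', hz'Y, hz'xy⟩ := hex2
    have hw1 : z' - (QuadraticMap.polar (⇑Q) x z' / (2 * Q x)) • x ∈ cut Q Y x :=
      proj_mem_cut Q h2 hx hQx hz'Y
    have hw2 := proj_mem_cut Q h2 hy₁ hQy₁ hw1
    have hw2ne : (z' - (QuadraticMap.polar (⇑Q) x z' / (2 * Q x)) • x) -
        (QuadraticMap.polar (⇑Q) y₁ (z' - (QuadraticMap.polar (⇑Q) x z' / (2 * Q x)) • x)
          / (2 * Q y₁)) • y₁ ≠ 0 := by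
      intro h0
      apply hz'xy
      rw [sub_eq_zero, sub_eq_iff_eq_add] at h0
      rw [h0]
      apply Submodule.add_mem
      · exact Submodule.smul_mem _ _ (Submodule.subset_span (by simp))
      · exact Submodule.smul_mem _ _ (Submodule.subset_span (by simp))
    obtain ⟨y₂, hy₂, hQy₂⟩ := exists_nonsing Q hND2 hw2 hw2ne
    have hy₂' := (mem_cut Q _ y₁ y₂).mp hy₂
    have hy₂'' := (mem_cut Q Y x y₂).mp hy₂'.1
    by_cases hq2 : Q y₂ = Q x
    · exact ⟨y₂, hy₂''.1, hq2, hy₂''.2⟩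
    have hq2' : Q y₂ = -Q x := eq_neg_of_ne hf3 hQy₂ hQx hq2
    refine ⟨y₁ + y₂, Y.add_mem hy₁'.1 hy₂''.1, ?_, ?_⟩
    · have := QuadraticMap.map_add (⇑Q) y₁ y₂
      rw [this, hy₂'.2, hq1', hq2']
      linear_combination (-Q x) * h3
    · rw [QuadraticMap.polar_add_right, hy₁'.2, hy₂''.2, add_zero]
  -- decompose `c`
  have hcmem : c ∈ P ⊔ Y := by rw [hP.sup_eq_top]; trivial
  obtain ⟨c₁, hc₁, c₀, hc₀, rfl⟩ := Submodule.mem_sup.mp hcmem
  have hBc : ∀ x ∈ Y, QuadraticMap.polar (⇑Q) (c₁ + c₀) x = QuadraticMap.polar (⇑Q) c₀ x := by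
    intro x hx
    rw [QuadraticMap.polar_add_left, hPY c₁ hc₁ x hx, zero_add]
  -- (b)
  have hb : ∀ x ∈ Y, Q x ≠ 0 → QuadraticMap.polar (⇑Q) c₀ x = 0 := by
    intro x hx hQx
    obtain ⟨y, hy, hQy, hxy⟩ := hpartner x hx hQx
    rw [← hBc x hx]
    exact hc x y hx hy hQx hQy hxy
  -- (c)
  have hc0 : c₀ = 0 := by
    apply hYND c₀ hc₀
    intro z hz
    by_contra hne
    have hQz : Q z = 0 := by
      by_contra hQz
      exact hne (hb z hz hQz)
    have hz0 : z ≠ 0 := by
      rintro rfl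
      apply hne
      simp
    obtain ⟨y, hy, hQy⟩ := exists_nonsing Q hYND hz hz0
    have hby := hb y hy hQy
    by_cases hp : Q (z + y) = 0
    · have hm : Q (z - y) ≠ 0 := by
        intro hm
        have e1 := QuadraticMap.map_add (⇑Q) z y
        have e2 := map_sub' Q z y
        rw [hp, hQz] at e1
        rw [hm, hQz] at e2
        have : (2 : F) * Q y = 0 := by linear_combination -e1 - e2
        rcases mul_eq_zero.mp this with h | h
        · exact h2 h
        · exact hQy h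
      have := hb _ (Y.sub_mem hz hy) hm
      rw [QuadraticMap.polar_sub_right, hby, sub_zero] at this
      exact hne this
    · have := hb _ (Y.add_mem hz hy) hp
      rw [QuadraticMap.polar_add_right, hby, add_zero] at this
      exact hne this
  rw [hc0, add_zero]
  exact hc₁

end Cfsg.Agent.Lib.Helper99_M3M_SPAN
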