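import Mathlib
import Cfsg.Agent.Lib.Helper44_M3MDefs
import Cfsg.Agent.Lib.Helper99_M3M_SPAN

set_option autoImplicit false

/-!
# M3M-COCY (helper44's market, `q = 3` slice of S2147): the cocycle argument (helper75)
-/

namespace Cfsg.Agent.Lib.Helper99_M3M_COCY

open Module Cfsg.Agent.Lib.Helper14_OmegaSimple Cfsg.Agent.Lib.Helper22_MI2Defs
  Cfsg.Agent.Lib.Helper44_MI3Defs Cfsg.Agent.Lib.Helper44_M3MDefs
  Cfsg.Agent.Lib.Helper94_OrthSmall Cfsg.Agent.Lib.Helper44_QuadClass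

variable {F V : Type*} [Field F] [AddCommGroup V] [Module F V]

/-- `E p q` fixes every vector orthogonal to `p` and `q`. -/
theorem E_fix (Q : QuadraticForm F V) {p q : V} (hp : Q p = 0)
    (hpq : QuadraticMap.polar (⇑Q) p q = 0) {x : V} (hxp : QuadraticMap.polar (⇑Q) x p = 0)
    (hxq : QuadraticMap.polar (⇑Q) x q = 0) : E Q p q x = x := by
  rw [E_apply Q hp hpq, hxp, hxq]
  simp

/-- An isometry fixing `v` and `v'` preserves `perp2 Q v v'`. -/
theorem map_mem_perp2 (Q : QuadraticForm F V) {g : V ≃ₗ[F] V} (hg : g ∈ oG (⇑Q)) {v v' : V}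
    (hgv : g v = v) (hgv' : g v' = v') {w : V} (hw : w ∈ perp2 Q v v') : g w ∈ perp2 Q v v' := by
  rw [mem_perp] at hw ⊢
  constructor
  · have := oG_polar Q hg v w
    rw [hgv] at this
    rw [this, hw.1]
  · have := oG_polar Q hg v' w
    rw [hgv'] at this
    rw [this, hw.2]

section action2

variable {X : Type*} [MulAction (V ≃ₗ[F] V) X]

/-- **M3M-COCY**. -/
theorem cocycle_orth [Finite F] [FiniteDimensional F V] (Q : QuadraticForm F V)
    (hf3 : ∀ c : F, c = 0 ∨ c = 1 ∨ c = -1) (h2 : (2 : F) ≠ 0)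
    (hQ : (QuadraticMap.polarBilin Q).Nondegenerate) (hdim : 7 ≤ finrank F V) (ω : X)
    (hreg : ∀ u : V, u ≠ 0 → Q u = 0 → ∀ w : V, QuadraticMap.polar (⇑Q) u w = 0 →
      E Q u w • ω = ω → w ∈ Submodule.span F {u})
    {v v' : V} (hv : Q v = 0) (hv' : Q v' = 0) (hvv' : QuadraticMap.polar (⇑Q) v v' = 1)
    (htr : ∀ g ∈ T Q, ∃ w ∈ perp2 Q v v', E Q v w • (g • ω) = ω)
    (hhalf : ∀ x y f₁ : V, Q x ≠ 0 → Q y = Q x → Q f₁ = -Q x →
      QuadraticMap.polar (⇑Q) x y = 0 → QuadraticMap.polar (⇑Q) x f₁ = 0 →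
      QuadraticMap.polar (⇑Q) y f₁ = 0 →
      ∃ h ∈ T Q, h x = -x ∧ h y = -y ∧
        ∀ t : V, QuadraticMap.polar (⇑Q) t x = 0 → QuadraticMap.polar (⇑Q) t y = 0 → h t = t)
    {p q : V} (hp0 : p ≠ 0) (hp : Q p = 0) (hq : Q q ≠ 0)
    (hvp : QuadraticMap.polar (⇑Q) v p = 0) (hv'p : QuadraticMap.polar (⇑Q) v' p = 0)
    (hvq : QuadraticMap.polar (⇑Q) v q = 0) (hv'q : QuadraticMap.polar (⇑Q) v' q = 0)
    (hpq : QuadraticMap.polar (⇑Q) p q = 0)
    {c : V} (hc : c ∈ perp2 Q v v') (hfix : (E Q v c * E Q p q) • ω = ω) :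
    QuadraticMap.polar (⇑Q) c p = 0 ∧
      ∀ x y : V, Q x ≠ 0 → Q y = Q x → QuadraticMap.polar (⇑Q) x y = 0 →
        QuadraticMap.polar (⇑Q) v x = 0 → QuadraticMap.polar (⇑Q) v' x = 0 →
        QuadraticMap.polar (⇑Q) p x = 0 → QuadraticMap.polar (⇑Q) q x = 0 →
        QuadraticMap.polar (⇑Q) v y = 0 → QuadraticMap.polar (⇑Q) v' y = 0 →
        QuadraticMap.polar (⇑Q) p y = 0 → QuadraticMap.polar (⇑Q) q y = 0 →
        QuadraticMap.polar (⇑Q) c x = 0 := by
  have h3 : (3 : F) = 0 := Cfsg.Agent.Lib.Helper99_M3M_SPAN.three_eq_zero hf3 h2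
  have hdim5 : 5 ≤ finrank F V := by omega
  have hv0 : v ≠ 0 := by
    rintro rfl
    simp at hvv'
  have hv'v : QuadraticMap.polar (⇑Q) v' v = 1 := by rw [QuadraticMap.polar_comm]; exact hvv'
  -- regularity on `W`
  have reg0 : ∀ w ∈ perp2 Q v v', E Q v w • ω = ω → w = 0 := by
    intro w hw hfw
    rw [mem_perp] at hw
    obtain ⟨a, rfl⟩ := Submodule.mem_span_singleton.mp (hreg v hv0 hv w hw.1 hfw)
    have := hw.2
    rw [QuadraticMap.polar_smul_right, hv'v, smul_eq_mul, mul_one] at this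
    rw [this, zero_smul]
  obtain ⟨g, hgdef⟩ : ∃ g, g = E Q p q := ⟨_, rfl⟩
  rw [← hgdef] at hfix
  have hgO : g ∈ oG (⇑Q) := by rw [hgdef]; exact E_mem_oG Q hp hpq
  have hgT : g ∈ T Q := by rw [hgdef]; exact E_mem_T Q hQ hdim5 hp hpq
  have hgv : g v = v := by rw [hgdef]; exact E_fix Q hp hpq hvp hvq
  have hgv' : g v' = v' := by rw [hgdef]; exact E_fix Q hp hpq hv'p hv'q
  have hcW := (mem_perp Q v v').mp hc
  -- conjugation of `E v w` by `g`
  have hconj : ∀ w ∈ perp2 Q v v', g * E Q v w = E Q v (g w) * g := by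
    intro w hw
    have hw' := (mem_perp Q v v').mp hw
    have := conj_E Q hgO hv hw'.1
    rw [hgv] at this
    rw [← this]
    group
  have hg3 : g * g * g = 1 := by
    rw [hgdef, E_mul Q hp hpq hpq, E_mul Q hp (by rw [QuadraticMap.polar_add_right, hpq, add_zero]) hpq]
    have : q + q + q = (3 : F) • q := by module
    rw [this, h3, zero_smul, E_zero_right Q hp]
  have hgW : ∀ w ∈ perp2 Q v v', g w ∈ perp2 Q v v' := fun w hw =>
    map_mem_perp2 Q hgO hgv hgv' hw
  -- products of `E v _` with parameters in `W`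
  have hEmul : ∀ w ∈ perp2 Q v v', ∀ w' ∈ perp2 Q v v', E Q v w * E Q v w' = E Q v (w + w') := by
    intro w hw w' hw'
    exact E_mul Q hv ((mem_perp Q v v').mp hw).1 ((mem_perp Q v v').mp hw').1
  -- (1) `t^3`
  have ht3 : (E Q v c * g) * (E Q v c * g) * (E Q v c * g) = E Q v (c + g c + g (g c)) := by
    have e1 : (E Q v c * g) * (E Q v c * g) * (E Q v c * g)
        = E Q v c * (g * E Q v c) * (g * E Q v c) * g := by group
    rw [e1, hconj c hc]
    have e2 : E Q v c * (E Q v (g c) * g) * (E Q v (g c) * g) * g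
        = E Q v c * E Q v (g c) * (g * E Q v (g c)) * (g * g) := by group
    rw [e2, hconj _ (hgW c hc)]
    have e3 : E Q v c * E Q v (g c) * (E Q v (g (g c)) * g) * (g * g)
        = E Q v c * E Q v (g c) * E Q v (g (g c)) * (g * g * g) := by group
    rw [e3, hg3, mul_one, hEmul c hc _ (hgW c hc),
      hEmul _ ((perp2 Q v v').add_mem hc (hgW c hc)) _ (hgW _ (hgW c hc))]
  have hsum0 : c + g c + g (g c) = 0 := by
    apply reg0 _ ((perp2 Q v v').add_mem ((perp2 Q v v').add_mem hc (hgW c hc)) (hgW _ (hgW c hc)))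
    rw [← ht3, mul_smul, mul_smul, hfix, hfix, hfix]
  have hgp : g p = p := by
    rw [hgdef]
    apply E_fix Q hp hpq
    · rw [polar_self', hp, mul_zero]
    · exact hpq
  have hgq : g q = q - (2 * Q q) • p := by
    rw [hgdef, E_apply Q hp hpq, QuadraticMap.polar_comm (⇑Q) q p, hpq, polar_self']
    module
  have hgc : g c = c + QuadraticMap.polar (⇑Q) c p • q - QuadraticMap.polar (⇑Q) c q • p -
      (Q q * QuadraticMap.polar (⇑Q) c p) • p := by
    rw [hgdef, E_apply Q hp hpq]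
  have hsum : c + g c + g (g c) = (Q q * QuadraticMap.polar (⇑Q) c p) • p := by
    have e1 : g (g c) = g c + QuadraticMap.polar (⇑Q) c p • g q - QuadraticMap.polar (⇑Q) c q • g p -
        (Q q * QuadraticMap.polar (⇑Q) c p) • g p := by
      conv_lhs => rw [hgc]
      simp only [map_add, map_sub, map_smul]
    rw [e1, hgp, hgq, hgc]
    have e2 : c + (c + QuadraticMap.polar (⇑Q) c p • q - QuadraticMap.polar (⇑Q) c q • p -
          (Q q * QuadraticMap.polar (⇑Q) c p) • p) +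
        (c + QuadraticMap.polar (⇑Q) c p • q - QuadraticMap.polar (⇑Q) c q • p -
          (Q q * QuadraticMap.polar (⇑Q) c p) • p +
          QuadraticMap.polar (⇑Q) c p • (q - (2 * Q q) • p) - QuadraticMap.polar (⇑Q) c q • p -
          (Q q * QuadraticMap.polar (⇑Q) c p) • p)
        = (Q q * QuadraticMap.polar (⇑Q) c p) • p + (3 : F) • (c + QuadraticMap.polar (⇑Q) c p • q
          - QuadraticMap.polar (⇑Q) c q • p - (2 * Q q * QuadraticMap.polar (⇑Q) c p) • p) := by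
      module
    rw [e2, h3, zero_smul, add_zero]
  have hcp : QuadraticMap.polar (⇑Q) c p = 0 := by
    rw [hsum] at hsum0
    rcases smul_eq_zero.mp hsum0 with h | h
    · rcases mul_eq_zero.mp h with h' | h'
      · exact absurd h' hq
      · exact h'
    · exact absurd h hp0
  refine ⟨hcp, ?_⟩
  -- (2) good pairs
  intro x y hQx hQy hxy hvx hv'x hpx hqx hvy hv'y hpy hqy
  have hf1Q : Q (v - Q x • v') = -Q x := by
    rw [map_sub' Q, QuadraticMap.map_smul, hv, hv', QuadraticMap.polar_smul_right, hvv']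
    simp
  have hxf1 : QuadraticMap.polar (⇑Q) x (v - Q x • v') = 0 := by
    rw [QuadraticMap.polar_sub_right, QuadraticMap.polar_smul_right, QuadraticMap.polar_comm (⇑Q) x v,
      QuadraticMap.polar_comm (⇑Q) x v', hvx, hv'x]
    simp
  have hyf1 : QuadraticMap.polar (⇑Q) y (v - Q x • v') = 0 := by
    rw [QuadraticMap.polar_sub_right, QuadraticMap.polar_smul_right, QuadraticMap.polar_comm (⇑Q) y v,
      QuadraticMap.polar_comm (⇑Q) y v', hvy, hv'y]
    simp
  obtain ⟨h, hhT, hhx, hhy, hhfix⟩ := hhalf x y (v - Q x • v') hQx hQy hf1Q hxy hxf1 hyf1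
  have hhO : h ∈ oG (⇑Q) := T_le_oG Q hhT
  have hhv : h v = v := hhfix v hvx hvy
  have hhv' : h v' = v' := hhfix v' hv'x hv'y
  have hhp : h p = p := hhfix p hpx hpy
  have hhq : h q = q := hhfix q hqx hqy
  have hhg : h * g = g * h := by
    have := conj_E Q hhO hp hpq
    rw [hhp, hhq, ← hgdef] at this
    calc h * g = (h * g * h⁻¹) * h := by group
      _ = g * h := by rw [this]
  have hhconj : ∀ w ∈ perp2 Q v v', h * E Q v w = E Q v (h w) * h := by
    intro w hw
    have hw' := (mem_perp Q v v').mp hw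
    have := conj_E Q hhO hv hw'.1
    rw [hhv] at this
    rw [← this]
    group
  have hhW : ∀ w ∈ perp2 Q v v', h w ∈ perp2 Q v v' := fun w hw =>
    map_mem_perp2 Q hhO hhv hhv' hw
  obtain ⟨e, heW, hes⟩ := htr h hhT
  -- `s = E v e * h` fixes `ω`
  have hs : (E Q v e * h) • ω = ω := by rw [mul_smul]; exact hes
  have heW' := (mem_perp Q v v').mp heW
  have hEinv : ∀ w ∈ perp2 Q v v', (E Q v w)⁻¹ = E Q v (-w) := by
    intro w hw
    exact E_inv Q hv ((mem_perp Q v v').mp hw).1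
  -- `s t s⁻¹ t⁻¹ = E v (e + h c - g e - c)`
  have hkey : (E Q v e * h) * (E Q v c * g) * (E Q v e * h)⁻¹ * (E Q v c * g)⁻¹
      = E Q v (e + h c + -(g e) + -c) := by
    have e1 : (E Q v e * h) * (E Q v c * g) * (E Q v e * h)⁻¹ * (E Q v c * g)⁻¹
        = E Q v e * (h * E Q v c) * (g * h⁻¹) * (E Q v e)⁻¹ * g⁻¹ * (E Q v c)⁻¹ := by group
    have e2 : g * h⁻¹ = h⁻¹ * g := by
      have : h⁻¹ * (h * g) * h⁻¹ = h⁻¹ * (g * h) * h⁻¹ := by rw [hhg]
      have e3 : h⁻¹ * (h * g) * h⁻¹ = g * h⁻¹ := by group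
      have e4 : h⁻¹ * (g * h) * h⁻¹ = h⁻¹ * g := by group
      rw [← e3, this, e4]
    rw [e1, hhconj c hc, e2, hEinv e heW, hEinv c hc]
    have e5 : E Q v e * (E Q v (h c) * h) * (h⁻¹ * g) * E Q v (-e) * g⁻¹ * E Q v (-c)
        = E Q v e * E Q v (h c) * (g * E Q v (-e)) * g⁻¹ * E Q v (-c) := by group
    rw [e5, hconj (-e) ((perp2 Q v v').neg_mem heW)]
    have e6 : E Q v e * E Q v (h c) * (E Q v (g (-e)) * g) * g⁻¹ * E Q v (-c)
        = E Q v e * E Q v (h c) * E Q v (g (-e)) * E Q v (-c) := by group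
    rw [e6, map_neg, hEmul e heW _ (hhW c hc),
      hEmul _ ((perp2 Q v v').add_mem heW (hhW c hc)) _ ((perp2 Q v v').neg_mem (hgW e heW)),
      hEmul _ ((perp2 Q v v').add_mem ((perp2 Q v v').add_mem heW (hhW c hc))
        ((perp2 Q v v').neg_mem (hgW e heW))) _ ((perp2 Q v v').neg_mem hc)]
  have hfixinv : ∀ (a : V ≃ₗ[F] V), a • ω = ω → a⁻¹ • ω = ω := by
    intro a ha
    calc a⁻¹ • ω = a⁻¹ • (a • ω) := by rw [ha]
      _ = ω := by rw [← mul_smul, inv_mul_cancel, one_smul]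
  have hd0 : e + h c + -(g e) + -c = 0 := by
    apply reg0
    · exact (perp2 Q v v').add_mem ((perp2 Q v v').add_mem ((perp2 Q v v').add_mem heW (hhW c hc))
        ((perp2 Q v v').neg_mem (hgW e heW))) ((perp2 Q v v').neg_mem hc)
    · rw [← hkey, mul_smul, mul_smul, mul_smul, hfixinv _ hfix, hfixinv _ hs, hfix, hs]
  -- pair with `x`
  have hge : g e = e + QuadraticMap.polar (⇑Q) e p • q - QuadraticMap.polar (⇑Q) e q • p -
      (Q q * QuadraticMap.polar (⇑Q) e p) • p := by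
    rw [hgdef, E_apply Q hp hpq]
  have hhcx : QuadraticMap.polar (⇑Q) (h c) x = -QuadraticMap.polar (⇑Q) c x := by
    have e1 : x = h (-x) := by rw [map_neg, hhx, neg_neg]
    conv_lhs => rw [e1]
    rw [oG_polar Q hhO, QuadraticMap.polar_neg_right]
  have hpair : QuadraticMap.polar (⇑Q) (e + h c + -(g e) + -c) x = 0 := by rw [hd0]; simp
  rw [hge] at hpair
  simp only [QuadraticMap.polar_add_left, QuadraticMap.polar_sub_left, QuadraticMap.polar_neg_left,
    QuadraticMap.polar_smul_left, hpx, hqx, hhcx, smul_eq_mul, mul_zero, sub_zero, add_zero] at hpair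
  have : (3 : F) * QuadraticMap.polar (⇑Q) c x - QuadraticMap.polar (⇑Q) c x = 0 := by
    linear_combination -hpair
  rw [h3, zero_mul, zero_sub, neg_eq_zero] at this
  exact this

end action2

end Cfsg.Agent.Lib.Helper99_M3M_COCY
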