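import Mathlib
import Cfsg.Agent.Lib.Helper44_M3MDefs
import Cfsg.Agent.Lib.Helper64_MI3_REGB

set_option autoImplicit false

/-!
# M3M-KCNT (helper44's market, `q = 3` slice of S2147): the double count for the exceptional outcome
-/

namespace Cfsg.Agent.Lib.Helper99_M3M_KCNT

open Module Cfsg.Agent.Lib.Helper14_OmegaSimple Cfsg.Agent.Lib.Helper22_MI2Defs
  Cfsg.Agent.Lib.Helper44_MI3Defs Cfsg.Agent.Lib.Helper44_M3MDefs
  Cfsg.Agent.Lib.Helper94_OrthSmall Cfsg.Agent.Lib.Helper44_QuadClass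

variable {F V : Type*} [Field F] [AddCommGroup V] [Module F V]

section action

variable {X : Type*} [MulAction (V ≃ₗ[F] V) X]

/-- `ω` is regular for the root group of `u`. -/
def Reg (Q : QuadraticForm F V) (u : V) (ω : X) : Prop :=
  ∀ w : V, QuadraticMap.polar (⇑Q) u w = 0 → E Q u w • ω = ω → w ∈ Submodule.span F {u}

theorem reg_smul (Q : QuadraticForm F V) {g : V ≃ₗ[F] V} (hg : g ∈ oG (⇑Q)) {u : V} (hu : Q u = 0)
    {ω : X} (h : Reg Q u ω) : Reg Q (g u) (g • ω) := by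
  intro w₁ hw₁ hfix
  have hginv : g⁻¹ ∈ oG (⇑Q) := (oG (⇑Q)).inv_mem hg
  have hgg : ∀ t : V, g (g⁻¹ t) = t := fun t => g.apply_symm_apply t
  have hw : QuadraticMap.polar (⇑Q) u (g⁻¹ w₁) = 0 := by
    rw [← oG_polar Q hg, hgg, hw₁]
  have hc := conj_E Q hg hu hw
  rw [hgg] at hc
  have h1 : E Q u (g⁻¹ w₁) • ω = ω := by
    have : g • (E Q u (g⁻¹ w₁) • ω) = g • ω := by
      have e : g * E Q u (g⁻¹ w₁) = E Q (g u) w₁ * g := by
        rw [← hc]; group
      rw [← mul_smul, e, mul_smul, hfix]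
    exact smul_left_cancel g this
  obtain ⟨a, ha⟩ := Submodule.mem_span_singleton.mp (h _ hw h1)
  apply Submodule.mem_span_singleton.mpr
  refine ⟨a, ?_⟩
  rw [← map_smul, ha, hgg]

/-- The regular points of a singular `u` form exactly one regular orbit of its root group. -/
theorem ncard_reg [Finite F] [FiniteDimensional F V] (Q : QuadraticForm F V)
    (hf3 : ∀ c : F, c = 0 ∨ c = 1 ∨ c = -1) (h2 : (2 : F) ≠ 0)
    (hQ : (QuadraticMap.polarBilin Q).Nondegenerate) (hdim : 5 ≤ finrank F V)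
    (Ω : Set X) (hΩ : IsOrbit Q Ω) (hn : Ω.ncard < 2 * 3 ^ (finrank F V - 2))
    {u : V} (hu0 : u ≠ 0) (hu : Q u = 0) {ω₀ : X} (hω₀ : ω₀ ∈ Ω) (hr₀ : Reg Q u ω₀) :
    {ω | ω ∈ Ω ∧ Reg Q u ω}.ncard = 3 ^ (finrank F V - 2) := by
  have hVfin : Finite V := Module.finite_of_finite F
  obtain ⟨u', hu', huu'⟩ := exists_hyperbolic_partner Q hQ hu0 hu
  have hmemW : ∀ w : V, w ∈ perp2 Q u u' ↔
      QuadraticMap.polar (⇑Q) u w = 0 ∧ QuadraticMap.polar (⇑Q) u' w = 0 :=
    fun w => mem_perp Q u u'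
  have hcardW : Nat.card (perp2 Q u u') = 3 ^ (finrank F V - 2) := by
    have h1 := finrank_perp hu hu' huu'
    have h2' : finrank F (perp2 Q u u') = finrank F V - 2 := by
      have : finrank F (perp2 Q u u') = finrank F (perp Q u u') := rfl
      omega
    rw [Module.natCard_eq_pow_finrank (K := F),
      Cfsg.Agent.Lib.Helper64_MI3_REGB.card_F_eq_three hf3 h2, h2']
  have hkey : ∀ (a b : X) (w w' : V), QuadraticMap.polar (⇑Q) u w = 0 →
      QuadraticMap.polar (⇑Q) u w' = 0 → E Q u w • a = E Q u w' • b →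
      E Q u (-w' + w) • a = b := by
    intro a b w w' hw hw' hab
    have hnw' : QuadraticMap.polar (⇑Q) u (-w') = 0 := by
      rw [QuadraticMap.polar_neg_right, hw', neg_zero]
    rw [← E_mul Q hu hnw' hw, ← E_inv Q hu hw', mul_smul, hab, inv_smul_smul]
  have hinj : ∀ a : X, Reg Q u a → Function.Injective (fun w : perp2 Q u u' => E Q u (w : V) • a) := by
    intro a ha w w' hww'
    have hw := ((hmemW _).1 w.2)
    have hw' := ((hmemW _).1 w'.2)
    have h1 := hkey a a w w' hw.1 hw'.1 hww'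
    have hpol : QuadraticMap.polar (⇑Q) u (-(w' : V) + w) = 0 := by
      rw [QuadraticMap.polar_add_right, QuadraticMap.polar_neg_right, hw.1, hw'.1]; simp
    have h2' := ha _ hpol h1
    obtain ⟨c, hc⟩ := Submodule.mem_span_singleton.mp h2'
    have h3 : QuadraticMap.polar (⇑Q) u' (-(w' : V) + w) = 0 := by
      rw [QuadraticMap.polar_add_right, QuadraticMap.polar_neg_right, hw.2, hw'.2]; simp
    rw [← hc, QuadraticMap.polar_smul_right, QuadraticMap.polar_comm, huu', smul_eq_mul,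
      mul_one] at h3
    rw [h3, zero_smul] at hc
    apply Subtype.ext
    have : (w : V) = w' := by
      have := congrArg (fun t => (w' : V) + t) hc.symm
      simpa using this
    exact this
  -- the image of a regular point consists of regular points of `Ω`
  have himg : ∀ a ∈ Ω, Reg Q u a → ∀ w : V, QuadraticMap.polar (⇑Q) u w = 0 →
      E Q u w • a ∈ Ω ∧ Reg Q u (E Q u w • a) := by
    intro a ha hra w hw
    refine ⟨hΩ.inv _ (E_mem_T Q hQ hdim hu hw) _ ha, ?_⟩
    intro w₁ hw₁ hfix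
    apply hra w₁ hw₁
    have e : E Q u w₁ * E Q u w = E Q u w * E Q u w₁ := by
      rw [E_mul Q hu hw₁ hw, E_mul Q hu hw hw₁, add_comm]
    rw [← mul_smul, e, mul_smul] at hfix
    exact smul_left_cancel _ hfix
  have hcardrange : ∀ a : X, Reg Q u a →
      (Set.range (fun w : perp2 Q u u' => E Q u (w : V) • a)).ncard = 3 ^ (finrank F V - 2) := by
    intro a ha
    rw [← Set.image_univ, Set.ncard_image_of_injective _ (hinj a ha), Set.ncard_univ, hcardW]
  -- the regular points are exactly the image of `ω₀`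
  have hset : {ω | ω ∈ Ω ∧ Reg Q u ω} = Set.range (fun w : perp2 Q u u' => E Q u (w : V) • ω₀) := by
    ext ω'
    constructor
    · rintro ⟨hω', hr'⟩
      by_contra hcon
      have hsub : Set.range (fun w : perp2 Q u u' => E Q u (w : V) • ω₀) ∪
          Set.range (fun w : perp2 Q u u' => E Q u (w : V) • ω') ⊆ Ω := by
        rintro x (⟨w, rfl⟩ | ⟨w, rfl⟩)
        · exact (himg ω₀ hω₀ hr₀ _ ((hmemW _).1 w.2).1).1
        · exact (himg ω' hω' hr' _ ((hmemW _).1 w.2).1).1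
      have hdisj : Disjoint (Set.range (fun w : perp2 Q u u' => E Q u (w : V) • ω₀))
          (Set.range (fun w : perp2 Q u u' => E Q u (w : V) • ω')) := by
        rw [Set.disjoint_left]
        rintro x ⟨w, rfl⟩ ⟨w', hw'x⟩
        apply hcon
        have hw := ((hmemW _).1 w.2)
        have hw' := ((hmemW _).1 w'.2)
        refine ⟨⟨-(w' : V) + w, (perp2 Q u u').add_mem ((perp2 Q u u').neg_mem w'.2) w.2⟩, ?_⟩
        exact hkey ω₀ ω' w w' hw.1 hw'.1 hw'x.symm
      have hfin1 : (Set.range (fun w : perp2 Q u u' => E Q u (w : V) • ω₀)).Finite :=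
        Set.finite_range _
      have hfin2 : (Set.range (fun w : perp2 Q u u' => E Q u (w : V) • ω')).Finite :=
        Set.finite_range _
      have h1 := Set.ncard_le_ncard hsub hΩ.fin
      rw [Set.ncard_union_eq hdisj hfin1 hfin2, hcardrange ω₀ hr₀, hcardrange ω' hr'] at h1
      omega
    · rintro ⟨w, rfl⟩
      exact himg ω₀ hω₀ hr₀ _ ((hmemW _).1 w.2).1
  rw [hset, hcardrange ω₀ hr₀]

/-- **M3M-KCNT**. -/
theorem exceptional_count [Finite F] [FiniteDimensional F V] (Q : QuadraticForm F V)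
    (hf3 : ∀ c : F, c = 0 ∨ c = 1 ∨ c = -1) (h2 : (2 : F) ≠ 0)
    (hQ : (QuadraticMap.polarBilin Q).Nondegenerate) (hdim : 5 ≤ finrank F V)
    (Ω : Set X) (hΩ : IsOrbit Q Ω) (hn : Ω.ncard < 2 * 3 ^ (finrank F V - 2))
    (hreg : ∀ u : V, u ≠ 0 → Q u = 0 → ∃ ω ∈ Ω, ∀ w : V,
      QuadraticMap.polar (⇑Q) u w = 0 → E Q u w • ω = ω → w ∈ Submodule.span F {u}) :
    ∃ φ : ℕ, Ω.ncard * φ = Nat.card {u : V // u ≠ 0 ∧ Q u = 0} * 3 ^ (finrank F V - 2) := by
  classical
  have hVfin : Finite V := Module.finite_of_finite F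
  have : Fintype V := Fintype.ofFinite V
  obtain ⟨ω₀, hω₀, -⟩ := hΩ.nontriv
  set Ωf : Finset X := hΩ.fin.toFinset with hΩf
  set Sf : Finset V := Finset.univ.filter (fun u : V => u ≠ 0 ∧ Q u = 0) with hSf
  have hmemΩ : ∀ ω, ω ∈ Ωf ↔ ω ∈ Ω := fun ω => by rw [hΩf, Set.Finite.mem_toFinset]
  have hmemS : ∀ u, u ∈ Sf ↔ u ≠ 0 ∧ Q u = 0 := fun u => by rw [hSf]; simp
  refine ⟨(Sf.filter (fun u => Reg Q u ω₀)).card, ?_⟩
  have hdc := Finset.sum_card_bipartiteAbove_eq_sum_card_bipartiteBelow (s := Ωf) (t := Sf)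
    (fun (ω : X) (u : V) => Reg Q u ω)
  -- the right-hand side
  have hR : ∀ u ∈ Sf, (Finset.bipartiteBelow (fun (ω : X) (u : V) => Reg Q u ω) Ωf u).card
      = 3 ^ (finrank F V - 2) := by
    intro u hu
    obtain ⟨hu0, hQu⟩ := (hmemS u).mp hu
    obtain ⟨ω₁, hω₁, hr₁⟩ := hreg u hu0 hQu
    have h1 := ncard_reg Q hf3 h2 hQ hdim Ω hΩ hn hu0 hQu hω₁ hr₁
    rw [← h1, ← Set.ncard_coe_finset]
    congr 1
    ext ω
    simp only [Finset.bipartiteBelow, Finset.coe_filter, Set.mem_ofPred_eq, hmemΩ]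
  -- the left-hand side
  have hL : ∀ ω ∈ Ωf, (Finset.bipartiteAbove (fun (ω : X) (u : V) => Reg Q u ω) Sf ω).card
      = (Sf.filter (fun u => Reg Q u ω₀)).card := by
    intro ω hω
    obtain ⟨g, hgT, hgω⟩ := hΩ.trans ω₀ hω₀ ω ((hmemΩ ω).mp hω)
    have hgO : g ∈ oG (⇑Q) := T_le_oG Q hgT
    have hginvO : g⁻¹ ∈ oG (⇑Q) := (oG (⇑Q)).inv_mem hgO
    symm
    apply Finset.card_bij (fun u _ => g u)
    · intro u hu
      rw [Finset.mem_filter, hmemS] at hu
      simp only [Finset.bipartiteAbove, Finset.mem_filter, hmemS]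
      refine ⟨⟨?_, ?_⟩, ?_⟩
      · intro h0
        apply hu.1.1
        have := congrArg (fun t => g⁻¹ t) h0
        simpa using this
      · rw [mem_oG.mp hgO u]; exact hu.1.2
      · rw [← hgω]
        exact reg_smul Q hgO hu.1.2 hu.2
    · intro u₁ _ u₂ _ h12
      exact g.injective h12
    · intro u' hu'
      simp only [Finset.bipartiteAbove, Finset.mem_filter, hmemS] at hu'
      refine ⟨g⁻¹ u', ?_, ?_⟩
      · rw [Finset.mem_filter, hmemS]
        refine ⟨⟨?_, ?_⟩, ?_⟩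
        · intro h0
          apply hu'.1.1
          have := congrArg (fun t => g t) h0
          simpa using this
        · rw [mem_oG.mp hginvO u']; exact hu'.1.2
        · have h1 := reg_smul Q hginvO hu'.1.2 hu'.2
          rw [← hgω, inv_smul_smul] at h1
          exact h1
      · exact g.apply_symm_apply u'
  rw [Finset.sum_congr rfl hL, Finset.sum_congr rfl hR, Finset.sum_const, Finset.sum_const,
    smul_eq_mul, smul_eq_mul] at hdc
  have e1 : Ω.ncard = Ωf.card := Set.ncard_eq_toFinset_card Ω hΩ.fin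
  have e2 : Nat.card {u : V // u ≠ 0 ∧ Q u = 0} = Sf.card := by
    rw [Nat.card_eq_fintype_card, Fintype.card_subtype]
  rw [e1, e2]
  exact hdc

end action

end Cfsg.Agent.Lib.Helper99_M3M_KCNT
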