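import Mathlib
import Cfsg.Agent.Lib.Helper44_M3MDefs
import Cfsg.Agent.Lib.Helper58_MI3_TRNS
import Cfsg.Agent.Lib.Helper42_MI3_ANISO
import Cfsg.Agent.Lib.Helper42_MI3_PERP
import Cfsg.Agent.Lib.Helper24_M3M_CHOICE
import Cfsg.Agent.Lib.Helper99_M3M_COCY
import Cfsg.Agent.Lib.Helper70_M3M_END
import Cfsg.Agent.Lib.Helper24_M3M_HALF
import Cfsg.Agent.Lib.Helper70_M3M_HYPA
import Cfsg.Agent.Lib.Helper47_M3M_HYPB
import Cfsg.Agent.Lib.Helper54_M3M_HYPORB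
import Cfsg.Agent.Lib.Helper99_M3M_KCNT
import Cfsg.Agent.Lib.Helper53_M3M_KNUM
import Cfsg.Agent.Lib.Helper7_M3M_ORD3
import Cfsg.Agent.Lib.Helper47_M3M_REGA
import Cfsg.Agent.Lib.Helper7_M3M_REGB
import Cfsg.Agent.Lib.Helper29_M3M_REGC
import Cfsg.Agent.Lib.Helper81_M3M_SCNT
import Cfsg.Agent.Lib.Helper99_M3M_SPAN
import Cfsg.Agent.Lib.Helper60_M3M_SUBCNT
import Cfsg.Agent.Lib.Helper60_M3M_SUBI
import Cfsg.Agent.Lib.Helper47_M3M_TRICHG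
import Cfsg.Agent.Lib.Helper29_M3M_TRICHL
import Cfsg.Agent.Lib.Helper29_M3M_TS
import Cfsg.Agent.Lib.Helper43_M3M_WITT
import Cfsg.Agent.Lib.Helper7_M3M_WSET

/-! Aggregator of the M3M packages (S2147 `q = 3` market, architect helper44). -/
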