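import Mathlib
import Cfsg.Agent.Lib.Helper44_M3MDefs
import Cfsg.Agent.Lib.Helper44_M3MAll

set_option autoImplicit false

/-!
# Helper44_M3MSub: assembly of the subspace-orbit bound SUB for the `q = 3` slice of S2147
-/

namespace Cfsg.Agent.Lib.Helper44_M3MSub

open Module Cfsg.Agent.Lib.Helper14_OmegaSimple Cfsg.Agent.Lib.Helper22_MI2Defs
  Cfsg.Agent.Lib.Helper44_MI3Defs Cfsg.Agent.Lib.Helper44_M3MDefs

variable {F V : Type*} [Field F] [AddCommGroup V] [Module F V]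

theorem three_pow_ge {j : ℕ} (hj : 2 ≤ j) : 9 ≤ 3 ^ j := by
  calc 9 = 3 ^ 2 := by norm_num
    _ ≤ 3 ^ j := Nat.pow_le_pow_right (by norm_num) hj

/-- `Npts (j+1) ≤ M` from `(9x+1)(3x-1) ≤ 2M`, `x = 3^j`. -/
theorem Npts_succ_le {j M : ℕ} (h : (9 * 3 ^ j + 1) * (3 * 3 ^ j - 1) ≤ 2 * M) : Npts (j + 1) ≤ M := by
  unfold Npts
  have h1 : 3 ^ (j + 1) = 3 * 3 ^ j := by rw [pow_succ]; ring
  have h2 : 3 ^ (j + 1 + 1) = 9 * 3 ^ j := by rw [pow_succ, pow_succ]; ring
  rw [h2, h1]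
  apply Nat.div_le_of_le_mul
  exact h

theorem Npts_ge {j : ℕ} (hj : 2 ≤ j) : 112 ≤ Npts j := by
  unfold Npts
  have h9 := three_pow_ge hj
  have h1 : 3 ^ (j + 1) = 3 * 3 ^ j := by rw [pow_succ]; ring
  rw [h1]
  obtain ⟨x, hx⟩ : ∃ x, x = 3 ^ j := ⟨_, rfl⟩
  rw [← hx] at h9 ⊢
  rw [Nat.le_div_iff_mul_le (by norm_num)]
  obtain ⟨y, rfl⟩ : ∃ y, x = y + 9 := ⟨x - 9, by omega⟩
  have : y + 9 - 1 = y + 8 := by omega
  rw [this]
  nlinarith

/-- numerics: two types present -/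
theorem num_two {j M a b : ℕ} (hj : 2 ≤ j)
    (ha : (3 ^ (j + 1) + 1) * (3 ^ j - 1) ≤ a) (hb : 3 ^ j * (3 ^ (j + 1) + 1) ≤ b)
    (hM : 3 * a + 3 * b ≤ M) : Npts (j + 1) ≤ M := by
  apply Npts_succ_le
  have h9 := three_pow_ge hj
  have h1 : 3 ^ (j + 1) = 3 * 3 ^ j := by rw [pow_succ]; ring
  rw [h1] at ha hb
  obtain ⟨x, hx⟩ : ∃ x, x = 3 ^ j := ⟨_, rfl⟩
  rw [← hx] at h9 ha hb ⊢
  obtain ⟨y, rfl⟩ : ∃ y, x = y + 9 := ⟨x - 9, by omega⟩
  have e1 : 3 * (y + 9) - 1 = 3 * y + 26 := by omega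
  have e2 : y + 9 - 1 = y + 8 := by omega
  rw [e1]
  rw [e2] at ha
  nlinarith

/-- numerics: nine images of a totally singular subspace -/
theorem num_ts {j M bs : ℕ} (hj : 2 ≤ j) (hbs : 9 ≤ bs)
    (hM : (3 ^ (j + 1) + 1) * (3 ^ j - 1) * bs ≤ M) : Npts (j + 1) ≤ M := by
  apply Npts_succ_le
  have h9 := three_pow_ge hj
  have h1 : 3 ^ (j + 1) = 3 * 3 ^ j := by rw [pow_succ]; ring
  rw [h1] at hM
  obtain ⟨x, hx⟩ : ∃ x, x = 3 ^ j := ⟨_, rfl⟩
  rw [← hx] at h9 hM ⊢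
  obtain ⟨y, rfl⟩ : ∃ y, x = y + 9 := ⟨x - 9, by omega⟩
  have e1 : 3 * (y + 9) - 1 = 3 * y + 26 := by omega
  have e2 : y + 9 - 1 = y + 8 := by omega
  rw [e1]
  rw [e2] at hM
  have q1 := Nat.mul_le_mul_left ((3 * (y + 9) + 1) * (y + 8)) hbs
  nlinarith

set_option maxHeartbeats 1600000 in
/-- PKG SUB (assembly): the subspace-orbit bound. -/
theorem sub_bound3m [Finite F] [FiniteDimensional F V] (Q : QuadraticForm F V) {j : ℕ}
    (hS : MinusSetting3 Q j) (hj : 2 ≤ j) (S : Submodule F V) (h1 : 1 ≤ finrank F S)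
    (h2 : finrank F S + 2 ≤ 2 * j + 2) :
    Npts (j + 1) ≤ Nat.card (V ⧸ S) * (subOrbit Q S).ncard := by
  classical
  have hdim5 : 5 ≤ finrank F V := by rw [hS.dim]; omega
  have htr : ∀ x y : V, Q x ≠ 0 → Q x = Q y → ∃ g ∈ T Q, g x = y := fun x y hx hxy =>
    Cfsg.Agent.Lib.Helper58_MI3_TRNS.exists_mem_T_map_level Q hS.nondeg hdim5 hS.two_ne hx hxy
  obtain ⟨hcardF, hcardV, hsing⟩ := Cfsg.Agent.Lib.Helper81_M3M_SCNT.card_levels3m Q hS
  obtain ⟨hc1, hc2, hc3⟩ := Cfsg.Agent.Lib.Helper42_MI3_PERP.perp_orbit Q hS.nondeg S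
  obtain ⟨C, hC⟩ : ∃ C, C = LinearMap.BilinForm.orthogonal (QuadraticMap.polarBilin Q) S := ⟨_, rfl⟩
  rw [← hC] at hc1 hc2 hc3
  rw [hc1, ← hc2]
  rw [hS.dim] at hc3
  have hCcard : Nat.card C = 3 ^ finrank F C := by
    rw [Module.natCard_eq_pow_finrank (K := F), hcardF]
  have h9 := three_pow_ge hj
  have hN112 := Npts_ge hj
  by_cases hd : finrank F C = 2 * j + 1
  · -- `S` is a point
    have hS1 : finrank F S = 1 := by omega
    have horb := Cfsg.Agent.Lib.Helper54_M3M_HYPORB.point_hyperplane_orbit3m Q hS hj htr S (Or.inl hS1)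
    rw [← hc2] at horb
    rw [hCcard, hd, Npts_succ]
    have hsq : 3 ^ (2 * j) = 3 ^ j * 3 ^ j := by rw [two_mul, pow_add]
    have h81 : 81 ≤ 3 ^ (2 * j) := by rw [hsq]; nlinarith
    have h3 : 3 ^ (2 * j + 1) = 3 * 3 ^ (2 * j) := by rw [pow_succ]; ring
    have h4 : 3 ^ (2 * j + 2) = 9 * 3 ^ (2 * j) := by rw [pow_succ, pow_succ]; ring
    rw [h3, h4]
    obtain ⟨n, hn⟩ : ∃ n, n = (subOrbit Q C).ncard := ⟨_, rfl⟩
    rw [← hn] at horb ⊢
    obtain ⟨Xv, hXv⟩ : ∃ Xv, Xv = 3 ^ (2 * j) := ⟨_, rfl⟩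
    rw [← hXv] at h81 ⊢
    have hn112 : 112 ≤ n := le_trans hN112 horb
    have hle : 9 * Xv + 3 * Npts j + 1 ≤ 9 * Xv + 3 * n + 1 := by omega
    refine le_trans hle ?_
    have h1 : 81 * n ≤ Xv * n := Nat.mul_le_mul_right _ h81
    have h2 : Xv * 112 ≤ Xv * n := Nat.mul_le_mul_left _ hn112
    have h5 : 3 * Xv * n = 3 * (Xv * n) := by ring
    rw [h5]
    omega
  · have hdlo : 2 ≤ finrank F C := by omega
    have hdhi : finrank F C + 1 ≤ 2 * j + 1 := by omega
    obtain ⟨hfin, bs, bp, bm, hbs, hbp, hbm, I1, I2, I3, I4⟩ :=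
      Cfsg.Agent.Lib.Helper60_M3M_SUBCNT.orbit_count3m Q hS hj htr C
    -- every present type has at least three members through a vector
    have key : ∀ lam ∈ C, lam ≠ 0 → 3 ≤ {C' | C' ∈ subOrbit Q C ∧ lam ∈ C'}.ncard := by
      intro lam hlC hlam
      by_contra hcon
      push Not at hcon
      have hinv := Cfsg.Agent.Lib.Helper7_M3M_ORD3.Kstab_fix_of_le_two_g Q hS.f3 hS.two_ne hS.nondeg hdim5 C hlC
        (by omega)
      rcases Cfsg.Agent.Lib.Helper60_M3M_SUBI.invariant_of_Kstab3g Q hS.two_ne hS.nondeg hdim5 hlam C hlC hinv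
        with h | h
      · omega
      · rw [hS.dim] at h; omega
    obtain ⟨n, hn⟩ : ∃ n, n = (subOrbit Q C).ncard := ⟨_, rfl⟩
    rw [← hn] at I1 I2 I3 I4 ⊢
    rw [mul_comm]
    by_cases hs : ∃ x ∈ C, x ≠ 0 ∧ Q x = 0
    · obtain ⟨xs, hxsC, hxs0, hxsQ⟩ := hs
      have hbs3 : 3 ≤ bs := by rw [← hbs xs hxs0 hxsQ]; exact key xs hxsC hxs0
      by_cases hp : ∃ x ∈ C, Q x = 1
      · obtain ⟨xp, hxpC, hxpQ⟩ := hp
        have hxp0 : xp ≠ 0 := by rintro rfl; rw [map_zero] at hxpQ; exact zero_ne_one hxpQ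
        have hbp3 : 3 ≤ bp := by rw [← hbp xp hxpQ]; exact key xp hxpC hxp0
        apply num_two hj (a := (3 ^ (j + 1) + 1) * (3 ^ j - 1)) (b := 3 ^ j * (3 ^ (j + 1) + 1))
          (le_refl _) (le_refl _)
        rw [I4]
        have q1 := Nat.mul_le_mul_left ((3 ^ (j + 1) + 1) * (3 ^ j - 1)) hbs3
        have q2 := Nat.mul_le_mul_left (3 ^ j * (3 ^ (j + 1) + 1)) hbp3
        omega
      · by_cases hm : ∃ x ∈ C, Q x = -1
        · obtain ⟨xm, hxmC, hxmQ⟩ := hm
          have hxm0 : xm ≠ 0 := by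
            rintro rfl
            rw [map_zero] at hxmQ
            exact one_ne_zero (neg_eq_zero.mp hxmQ.symm)
          have hbm3 : 3 ≤ bm := by rw [← hbm xm hxmQ]; exact key xm hxmC hxm0
          apply num_two hj (a := (3 ^ (j + 1) + 1) * (3 ^ j - 1)) (b := 3 ^ j * (3 ^ (j + 1) + 1))
            (le_refl _) (le_refl _)
          rw [I4]
          have q1 := Nat.mul_le_mul_left ((3 ^ (j + 1) + 1) * (3 ^ j - 1)) hbs3
          have q2 := Nat.mul_le_mul_left (3 ^ j * (3 ^ (j + 1) + 1)) hbm3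
          omega
        · -- totally singular
          push Not at hp hm
          have hts : ∀ x ∈ C, Q x = 0 := by
            intro x hx
            rcases hS.f3 (Q x) with h | h | h
            · exact h
            · exact absurd h (hp x hx)
            · exact absurd h (hm x hx)
          have hdj := Cfsg.Agent.Lib.Helper43_M3M_WITT.ts_finrank_le Q hS C hts
          have h9' := Cfsg.Agent.Lib.Helper29_M3M_TS.ts_images_g Q hS.f3 hS.two_ne hS.nondeg hxs0 C hxsC hts hdlo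
            (by rw [hS.dim]; omega)
          rw [hbs xs hxs0 hxsQ] at h9'
          apply num_ts hj h9'
          rw [I4]
          omega
    · push Not at hs
      by_cases hp : ∃ x ∈ C, Q x = 1
      · obtain ⟨xp, hxpC, hxpQ⟩ := hp
        have hxp0 : xp ≠ 0 := by rintro rfl; rw [map_zero] at hxpQ; exact zero_ne_one hxpQ
        have hbp3 : 3 ≤ bp := by rw [← hbp xp hxpQ]; exact key xp hxpC hxp0
        by_cases hm : ∃ x ∈ C, Q x = -1
        · obtain ⟨xm, hxmC, hxmQ⟩ := hm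
          have hxm0 : xm ≠ 0 := by
            rintro rfl
            rw [map_zero] at hxmQ
            exact one_ne_zero (neg_eq_zero.mp hxmQ.symm)
          have hbm3 : 3 ≤ bm := by rw [← hbm xm hxmQ]; exact key xm hxmC hxm0
          apply num_two hj (a := 3 ^ j * (3 ^ (j + 1) + 1)) (b := 3 ^ j * (3 ^ (j + 1) + 1)) ?_
            (le_refl _)
          · rw [I4]
            have q1 := Nat.mul_le_mul_left (3 ^ j * (3 ^ (j + 1) + 1)) hbp3
            have q2 := Nat.mul_le_mul_left (3 ^ j * (3 ^ (j + 1) + 1)) hbm3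
            omega
          · -- `σ ≤ ν`
            rw [mul_comm (3 ^ j)]
            exact Nat.mul_le_mul_left _ (Nat.sub_le _ _)
        · -- only plus vectors
          push Not at hm
          exfalso
          have hle := Cfsg.Agent.Lib.Helper42_MI3_ANISO.finrank_le_one_of_const Q hS.two_ne C 1 one_ne_zero (by
            intro x hx hx0
            rcases hS.f3 (Q x) with h | h | h
            · exact absurd h (hs x hx hx0)
            · exact h
            · exact absurd h (hm x hx))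
          omega
      · push Not at hp
        exfalso
        have hle := Cfsg.Agent.Lib.Helper42_MI3_ANISO.finrank_le_one_of_const Q hS.two_ne C (-1) (by
            intro h; exact one_ne_zero (neg_eq_zero.mp h)) (by
          intro x hx hx0
          rcases hS.f3 (Q x) with h | h | h
          · exact absurd h (hs x hx hx0)
          · exact absurd h (hp x hx)
          · exact h)
        omega

end Cfsg.Agent.Lib.Helper44_M3MSub
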