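import Mathlib
import Cfsg.Agent.Lib.Helper44_M3MDefs
import Cfsg.Agent.Lib.Helper44_M3MAll
import Cfsg.Agent.Lib.Helper44_M3MSub
import Cfsg.Agent.Lib.Helper8_MI2_EXT
import Cfsg.Agent.Lib.Helper70_MI2_INJ
import Cfsg.Agent.Lib.Helper52_MI2_BRORB

set_option autoImplicit false

/-!
# Helper44_M3MMain: the abstract minimal-index theorem for `Ω⁻_{2m}(3)`, `m ≥ 4` (the `q = 3` slice of S2147)
-/

namespace Cfsg.Agent.Lib.Helper44_M3MMain

open Module Cfsg.Agent.Lib.Helper14_OmegaSimple Cfsg.Agent.Lib.Helper22_MI2Defs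
  Cfsg.Agent.Lib.Helper44_MI3Defs Cfsg.Agent.Lib.Helper44_M3MDefs Cfsg.Agent.Lib.Helper44_M3MSub

variable {F V : Type*} [Field F] [AddCommGroup V] [Module F V]

section action

variable {X : Type*} [MulAction (V ≃ₗ[F] V) X]

/-- the trichotomy, assembled from EXT, WSET, SUB, HYPORB, INJ, TRICHL, TRICHG. -/
theorem trichotomy3m [Finite F] [FiniteDimensional F V] (Q : QuadraticForm F V) {j : ℕ}
    (hS : MinusSetting3 Q (j + 1)) (hj : 2 ≤ j) (Ω : Set X) (hΩ : IsOrbit Q Ω)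
    (hn : Ω.ncard < Npts (j + 1)) :
    AllSmall Q Ω ∨ FixOrReg3 Q Ω ∨
      (Ω.ncard + 1 = Npts (j + 1) ∧ ∀ u : V, u ≠ 0 → Q u = 0 → ∃ ω ∈ Ω, ∀ w : V,
        QuadraticMap.polar (⇑Q) u w = 0 → E Q u w • ω = ω → w ∈ Submodule.span F {u}) := by
  have hdim3 : 3 ≤ finrank F V := by rw [hS.dim]; omega
  have hdim5 : 5 ≤ finrank F V := by rw [hS.dim]; omega
  obtain ⟨v, hv0, hv⟩ := Cfsg.Agent.Lib.Helper44_QuadClass.exists_singular Q hdim3
  obtain ⟨v', hv', hvv'⟩ :=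
    Cfsg.Agent.Lib.Helper44_QuadClass.exists_hyperbolic_partner Q hS.nondeg hv0 hv
  obtain ⟨hcompl, hW⟩ := Cfsg.Agent.Lib.Helper7_M3M_WSET.minusSetting_perp2 Q hS hv hv' hvv'
  obtain ⟨ext, hext⟩ := Cfsg.Agent.Lib.Helper8_MI2_EXT.exists_ext Q (perp2 Q v v') hcompl
  have hdimW5 : 5 ≤ finrank F ↥(perp2 Q v v') := by rw [hW.dim]; omega
  have htrW : ∀ x y : ↥(perp2 Q v v'), resQ Q (perp2 Q v v') x ≠ 0 →
      resQ Q (perp2 Q v v') x = resQ Q (perp2 Q v v') y →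
      ∃ g ∈ T (resQ Q (perp2 Q v v')), g x = y := fun x y hx hxy =>
    Cfsg.Agent.Lib.Helper58_MI3_TRNS.exists_mem_T_map_level (resQ Q (perp2 Q v v')) hW.nondeg hdimW5 hW.two_ne hx hxy
  have hloc := Cfsg.Agent.Lib.Helper29_M3M_TRICHL.trichotomy_local Q hS hj hv hv' hvv' hW ext hext
    (fun S h1 h2 => sub_bound3m (resQ Q (perp2 Q v v')) hW hj S h1 h2)
    (fun S h => Cfsg.Agent.Lib.Helper54_M3M_HYPORB.point_hyperplane_orbit3m (resQ Q (perp2 Q v v')) hW hj htrW S (Or.inr h))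
    (fun ω S hSdef => Cfsg.Agent.Lib.Helper70_MI2_INJ.orbit_lower_bound_aux Q hv (perp2 Q v v')
      (fun w hw => ((Cfsg.Agent.Lib.Helper44_QuadClass.mem_perp Q v v').mp hw).1) ext hext ω S hSdef)
    Ω hΩ hn
  exact Cfsg.Agent.Lib.Helper47_M3M_TRICHG.trichotomy_global Q hS.nondeg hdim5 Ω hΩ hv0 hv _ hloc

/-- MAIN (abstract): a nontrivial orbit of `T Q` has at least `Npts (j+1)` points. -/
theorem main_abstract3m [Finite F] [FiniteDimensional F V] (Q : QuadraticForm F V) {j : ℕ}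
    (hS : MinusSetting3 Q (j + 1)) (hj : 2 ≤ j) (Ω : Set X) (hΩ : IsOrbit Q Ω) :
    Npts (j + 1) ≤ Ω.ncard := by
  by_contra hlt
  push Not at hlt
  have hdim5 : 5 ≤ finrank F V := by rw [hS.dim]; omega
  have hdim7 : 7 ≤ finrank F V := by rw [hS.dim]; omega
  have hdim8 : 8 ≤ finrank F V := by rw [hS.dim]; omega
  have hfr : finrank F V - 2 = 2 * j + 2 := by rw [hS.dim]; omega
  have hn2 : Ω.ncard < 2 * 3 ^ (finrank F V - 2) := by
    rw [hfr]; exact lt_trans hlt (Npts_lt j)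
  rcases trichotomy3m Q hS hj Ω hΩ hlt with hA | hB | ⟨hC1, hC2⟩
  · -- case (A)
    obtain ⟨ω₁, hω₁, g₁, hg₁, hmove₁⟩ := hΩ.nontriv
    by_cases hfull : ∃ v₀ : V, v₀ ≠ 0 ∧ Q v₀ = 0 ∧
        ∀ w : V, QuadraticMap.polar (⇑Q) v₀ w = 0 → E Q v₀ w • ω₁ = ω₁
    · obtain ⟨v₀, hv₀, hQv₀, hfix⟩ := hfull
      exact Cfsg.Agent.Lib.Helper47_M3M_HYPB.hypB3g Q hS.f3 hS.two_ne hS.nondeg hdim7 ω₁
        (fun v hv hQv => hA v hv hQv ω₁ hω₁) hv₀ hQv₀ hfix ⟨g₁, hg₁, hmove₁⟩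
    · push Not at hfull
      refine Cfsg.Agent.Lib.Helper70_M3M_HYPA.hypA3g Q hS.f3 hS.two_ne hS.nondeg hdim7 ω₁
        (fun v hv hQv => hA v hv hQv ω₁ hω₁) ?_
      intro v hv hQv
      exact hfull v hv hQv
  · -- case (B)
    have hreg := Cfsg.Agent.Lib.Helper47_M3M_REGA.all_reg_of_fixOrReg3g Q hS.nondeg hdim5 Ω hΩ hB
    have htr : ∀ u u' : V, Q u = 0 → Q u' = 0 → QuadraticMap.polar (⇑Q) u u' = 1 →
        ∀ ω ∈ Ω, ∀ ω' ∈ Ω, ∃ w ∈ perp2 Q u u', E Q u w • ω = ω' := by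
      intro u u' hu hu' huu'
      exact Cfsg.Agent.Lib.Helper7_M3M_REGB.transitive_of_all_reg3g Q hS.f3 hS.two_ne hS.nondeg hdim5 Ω hΩ
        hn2 hreg hu hu' huu'
    have hhalf : ∀ x y f₁ : V, Q x ≠ 0 → Q y = Q x → Q f₁ = -Q x →
        QuadraticMap.polar (⇑Q) x y = 0 → QuadraticMap.polar (⇑Q) x f₁ = 0 →
        QuadraticMap.polar (⇑Q) y f₁ = 0 →
        ∃ h ∈ T Q, h x = -x ∧ h y = -y ∧
          ∀ t : V, QuadraticMap.polar (⇑Q) t x = 0 → QuadraticMap.polar (⇑Q) t y = 0 → h t = t :=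
      fun x y f₁ hx hy hf hxy hxf hyf =>
        Cfsg.Agent.Lib.Helper24_M3M_HALF.halfturn_mem_T Q hS.f3 hS.two_ne hS.nondeg hdim5 hx hy hf hxy hxf hyf
    refine Cfsg.Agent.Lib.Helper29_M3M_REGC.regC3g Q hS.f3 hS.two_ne hS.nondeg hdim8 Ω hΩ hreg htr ?_ ?_ ?_ ?_
    · intro v v' hv hv' hvv'
      exact Cfsg.Agent.Lib.Helper24_M3M_CHOICE.exists_second_pair Q hS.two_ne hS.nondeg hdim7 hv hv' hvv'
    · intro ω hω v v' hv hv' hvv' p q hp0 hp hq hvp hv'p hvq hv'q hpq c hc hfix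
      have hv0 : v ≠ 0 := by
        rintro rfl
        simp [QuadraticMap.polar] at hvv'
      refine Cfsg.Agent.Lib.Helper99_M3M_COCY.cocycle_orth Q hS.f3 hS.two_ne hS.nondeg hdim7 ω
        (fun u hu hQu w hw h => hreg u hu hQu ω hω w hw h) hv hv' hvv' ?_ hhalf hp0 hp hq hvp hv'p hvq
        hv'q hpq hc hfix
      intro g hg
      exact htr v v' hv hv' hvv' (g • ω) (hΩ.inv g hg ω hω) ω hω
    · intro P hP hdimP c hc
      exact Cfsg.Agent.Lib.Helper99_M3M_SPAN.mem_of_orth_good Q hS.f3 hS.two_ne hS.nondeg P hP hdimP c hc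
    · intro v p q hv hp hvp hvq hpq α γ
      exact Cfsg.Agent.Lib.Helper70_M3M_END.E_mul_E_line Q hv hp hvp hvq hpq α γ
  · -- case (C)
    obtain ⟨φ, hφ⟩ := Cfsg.Agent.Lib.Helper99_M3M_KCNT.exceptional_count Q hS.f3 hS.two_ne hS.nondeg hdim5 Ω hΩ
      hn2 hC2
    obtain ⟨-, -, hsing⟩ := Cfsg.Agent.Lib.Helper81_M3M_SCNT.card_levels3m Q hS
    rw [hsing, hfr] at hφ
    exact Cfsg.Agent.Lib.Helper53_M3M_KNUM.exceptional_num j Ω.ncard φ (by omega) hC1 hφ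

end action

/-- The `q = 3` slice of S2147 in the shape of helper38's `main_minus`: a proper subgroup `H` of `T Q`, for a
minus-type form `Q` in dimension `2m ≥ 8` over the field with three elements, has index at least
`(3^m + 1)(3^(m-1) - 1) / 2`. -/
theorem main_minus_three {F V : Type*} [Field F] [Fintype F] [AddCommGroup V] [Module F V]
    [FiniteDimensional F V] (Q : QuadraticForm F V)
    (hQ : (QuadraticMap.polarBilin Q).Nondegenerate)
    (m : ℕ) (hm : 4 ≤ m) (hdim : Module.finrank F V = 2 * m)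
    (hq : Fintype.card F = 3)
    (hZ : Nat.card {x : V // Q x = 0} =
      Fintype.card F ^ (2 * m - 1) - Fintype.card F ^ m + Fintype.card F ^ (m - 1))
    (hL : ∀ c : F, c ≠ 0 →
      Nat.card {x : V // Q x = c} = Fintype.card F ^ (2 * m - 1) + Fintype.card F ^ (m - 1))
    (H : Subgroup (V ≃ₗ[F] V)) (hH : H ≤ T Q) (hne : H ≠ T Q) :
    (Fintype.card F ^ m + 1) * (Fintype.card F ^ (m - 1) - 1) / (Fintype.card F - 1) ≤
      H.relIndex (T Q) := by
  classical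
  obtain ⟨j, rfl⟩ : ∃ j, m = j + 2 := ⟨m - 2, by omega⟩
  have hj : 2 ≤ j := by omega
  rw [hq] at hZ hL ⊢
  -- the field has three elements
  have h2 : (2 : F) ≠ 0 := by
    intro h
    have hc : CharP F 2 := CharTwo.of_one_ne_zero_of_two_eq_zero one_ne_zero h
    obtain ⟨n, hp, hn⟩ := FiniteField.card F 2
    have : (2 : ℕ) ∣ 3 := by rw [← hq, hn]; exact dvd_pow_self 2 n.ne_zero
    omega
  have hne1 : (1 : F) ≠ -1 := by
    intro h
    apply h2
    have : (1 : F) + 1 = 0 := by nth_rewrite 2 [h]; ring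
    rw [← this]; norm_num
  have hf3 : ∀ c : F, c = 0 ∨ c = 1 ∨ c = -1 := by
    intro c
    by_contra hcon
    push Not at hcon
    have hcard : 4 ≤ Fintype.card F := by
      have : ({0, 1, -1, c} : Finset F).card = 4 := by
        rw [Finset.card_insert_of_notMem, Finset.card_insert_of_notMem,
          Finset.card_insert_of_notMem, Finset.card_singleton]
        · simp only [Finset.mem_singleton]; exact fun h => hcon.2.2 h.symm
        · simp only [Finset.mem_insert, Finset.mem_singleton, not_or]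
          exact ⟨hne1, fun h => hcon.2.1 h.symm⟩
        · simp only [Finset.mem_insert, Finset.mem_singleton, not_or]
          refine ⟨zero_ne_one, ?_, fun h => hcon.1 h.symm⟩
          intro h
          exact one_ne_zero (neg_eq_zero.mp h.symm)
      rw [← this]
      exact Finset.card_le_univ _
    omega
  have e1 : 2 * (j + 2) - 1 = 2 * j + 3 := by omega
  have e2 : j + 2 - 1 = j + 1 := by omega
  rw [e1, e2] at hZ hL
  rw [e2]
  obtain ⟨x, hx⟩ : ∃ x, x = 3 ^ j := ⟨_, rfl⟩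
  have hx1 : 1 ≤ x := by rw [hx]; exact Nat.one_le_pow _ _ (by norm_num)
  have p1 : 3 ^ (j + 1) = 3 * x := by rw [hx, pow_succ]; ring
  have p2 : 3 ^ (j + 2) = 9 * x := by rw [hx, pow_succ, pow_succ]; ring
  have p3 : 3 ^ (2 * j + 3) = 27 * (x * x) := by rw [hx, pow_add, pow_mul']; ring
  have hS : MinusSetting3 Q (j + 1) := by
    refine ⟨hf3, h2, hQ, by rw [hdim]; ring, ?_, ?_, ?_⟩
    · rw [hZ, p1, p2, p3]
      obtain ⟨y, rfl⟩ : ∃ y, x = y + 1 := ⟨x - 1, by omega⟩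
      have e4 : 3 * (y + 1) - 1 = 3 * y + 2 := by omega
      rw [e4]
      have e5 : 27 * ((y + 1) * (y + 1)) - 9 * (y + 1) = 27 * (y * y) + 45 * y + 18 := by
        have : 27 * ((y + 1) * (y + 1)) = 27 * (y * y) + 45 * y + 18 + 9 * (y + 1) := by ring
        omega
      rw [e5]
      ring
    · rw [hL 1 one_ne_zero, p1, p3, p2]
      ring
    · rw [hL (-1) (by intro h; exact one_ne_zero (neg_eq_zero.mp h)), p1, p3, p2]
      ring
  haveI : Finite V := Module.finite_of_finite F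
  haveI : Finite (V ≃ₗ[F] V) :=
    Finite.of_injective (fun g => (g : V → V)) DFunLike.coe_injective
  obtain ⟨h1, h2', h3, h4⟩ := Cfsg.Agent.Lib.Helper52_MI2_BRORB.coset_orbit H (T Q) hH
  rw [← h1]
  have hmain := main_abstract3m Q hS hj _ ⟨Set.toFinite _, h2', h3, h4 hne⟩
  have e3 : (3 : ℕ) - 1 = 2 := by norm_num
  rw [e3]
  exact hmain

end Cfsg.Agent.Lib.Helper44_M3MMain
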