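import Mathlib
import Cfsg.Agent.Lib.Helper44_M3MMain
import Cfsg.Agent.Lib.Helper73_MIOEven

set_option autoImplicit false

/-!
# Helper44_M3MFinal: the `q = 3` slice of S2147 in the shape of the frozen statement
-/

namespace Cfsg.Agent.Lib.Helper44_M3MFinal

open Cfsg.Agent.Lib.Helper14_OmegaSimple Cfsg.Agent.Lib.Helper44_StdForms

/-- S2147 for the field with three elements: every proper subgroup of `PΩ⁻_{2m}(3)`, `m ≥ 4`, has index at
least `(3^m + 1)(3^(m-1) - 1) / 2`, and that index is attained. -/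
theorem minus_three {F : Type*} [Field F] [Fintype F] {q : ℕ} (hF : Fintype.card F = q) (hq : q = 3)
    (m : ℕ) (hm : 4 ≤ m) (a b : F)
    (hab : ∀ z₁ z₂ : F, z₁ ^ 2 + a * z₁ * z₂ + b * z₂ ^ 2 = 0 → z₁ = 0 ∧ z₂ = 0) :
    (∀ H : Subgroup (Cfsg.POmega F (Cfsg.quadFormMinus (m - 1) F a b)), H ≠ ⊤ →
      (q ^ m + 1) * (q ^ (m - 1) - 1) / (q - 1) ≤ H.index) ∧
    (∃ H : Subgroup (Cfsg.POmega F (Cfsg.quadFormMinus (m - 1) F a b)),
      H.index = (q ^ m + 1) * (q ^ (m - 1) - 1) / (q - 1)) := by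
  subst hF
  obtain ⟨hQ, hdim, -, hZ, hL⟩ :=
    Cfsg.Agent.Lib.Helper73_MIOEven.minus_hyps (F := F) m (by omega) a b hab
  exact Cfsg.Agent.Lib.Helper73_MIOEven.S2147_of_main rfl m hm a b hab
    (fun H hH hne => Cfsg.Agent.Lib.Helper44_M3MMain.main_minus_three _ hQ m hm hdim hq hZ hL H hH hne)

end Cfsg.Agent.Lib.Helper44_M3MFinal
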