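import Mathlib
import Cfsg.Agent.Lib.Helper44_MI3Defs
import Cfsg.Agent.Lib.Helper14_POmegaSimple
import Cfsg.Agent.Lib.Helper14_MI2_BRLOW
import Cfsg.Agent.Lib.Helper14_MI2_BREX

/-!
# S2144 package MI3-BREX (architect helper44): the minimal index is attained in `PΩ_{2m+1}(3)`
(stabiliser of a minus point `{x₀, -x₀}`); adapted from helper14's `Helper14_MI2_BREX`.
-/

set_option autoImplicit false

namespace Cfsg.Agent.Lib.Helper55_MI3_BREX

open Module Cfsg.Agent.Lib.Helper14_OmegaSimple Cfsg.Agent.Lib.Helper22_MI2Defs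
  Cfsg.Agent.Lib.Helper44_MI3Defs Cfsg.Agent.Lib.Helper44_StdForms
  Cfsg.Agent.Lib.Helper14_POmegaSimple Cfsg.Agent.Lib.Helper14_SiegelOmega2
  Cfsg.Agent.Lib.Helper14_MI2_BRLOW Cfsg.Agent.Lib.Helper14_MI2_BREX

variable {F : Type*} [Field F] [Fintype F]

section gen

variable {ι : Type} [Fintype ι] [DecidableEq ι]

/-- the stabiliser in `T Q` of the pair `{x₀, -x₀}` -/
def pairStab (Q : QuadraticForm F (ι → F)) (x₀ : ι → F) : Subgroup ↥(T Q) where
  carrier := {g | (g : (ι → F) ≃ₗ[F] (ι → F)) x₀ = x₀ ∨ (g : (ι → F) ≃ₗ[F] (ι → F)) x₀ = -x₀}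
  one_mem' := Or.inl rfl
  mul_mem' := by
    intro a b ha hb
    show ((a : (ι → F) ≃ₗ[F] (ι → F)) * (b : (ι → F) ≃ₗ[F] (ι → F))) x₀ = x₀ ∨
      ((a : (ι → F) ≃ₗ[F] (ι → F)) * (b : (ι → F) ≃ₗ[F] (ι → F))) x₀ = -x₀
    rw [LinearEquiv.mul_apply]
    rcases hb with hb | hb <;> rcases ha with ha | ha
    · left; rw [hb, ha]
    · right; rw [hb, ha]
    · right; rw [hb, map_neg, ha]
    · left; rw [hb, map_neg, ha, neg_neg]
  inv_mem' := by
    intro a ha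
    show ((a : (ι → F) ≃ₗ[F] (ι → F))⁻¹) x₀ = x₀ ∨ ((a : (ι → F) ≃ₗ[F] (ι → F))⁻¹) x₀ = -x₀
    have key : ∀ y : ι → F, ((a : (ι → F) ≃ₗ[F] (ι → F))⁻¹) ((a : (ι → F) ≃ₗ[F] (ι → F)) y) = y := by
      intro y
      rw [← LinearEquiv.mul_apply, inv_mul_cancel]; rfl
    rcases ha with ha | ha
    · left
      have := key x₀
      rwa [ha] at this
    · right
      have := key x₀
      rw [ha, map_neg] at this
      exact neg_eq_iff_eq_neg.mp this

theorem exists_index_gen3 (Q : QuadraticForm F (ι → F))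
    (hQ : (QuadraticMap.polarBilin Q).Nondegenerate) (hn : 5 ≤ Fintype.card ι) (n : ℕ)
    (hn2 : 4 ≤ n) (h2 : (2 : F) ≠ 0)
    (hns : Nat.card {x : ι → F // Q x = -1} = n)
    (htrns : ∀ x y : ι → F, Q x ≠ 0 → Q x = Q y → ∃ g ∈ T Q, g x = y)
    (hlow : ∀ H : Subgroup (Cfsg.POmega F (⇑Q)), H ≠ ⊤ → n / 2 ≤ H.index) :
    ∃ H : Subgroup (Cfsg.POmega F (⇑Q)), H.index = n / 2 := by
  have hdim : 5 ≤ finrank F (ι → F) := by
    rw [Module.finrank_fintype_fun_eq_card]; exact hn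
  -- a minus vector
  have hne : Nonempty {x : ι → F // Q x = -1} := by
    have : 0 < Nat.card {x : ι → F // Q x = -1} := by omega
    exact (Nat.card_pos_iff.1 this).1
  obtain ⟨⟨x₀, hx₀⟩⟩ := hne
  have hm1 : (-1 : F) ≠ 0 := neg_ne_zero.mpr one_ne_zero
  have hx₀Q : Q x₀ ≠ 0 := by rw [hx₀]; exact hm1
  have hx₀0 : x₀ ≠ 0 := by
    rintro rfl
    rw [map_zero] at hx₀
    exact hm1 hx₀.symm
  have hneg : -x₀ ≠ x₀ := by
    intro h
    apply hx₀0
    have h3 : (2 : F) • x₀ = 0 := by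
      rw [two_smul]
      nth_rewrite 1 [← h]
      exact neg_add_cancel x₀
    rcases smul_eq_zero.mp h3 with h4 | h4
    · exact absurd h4 h2
    · exact h4
  -- the stabiliser of `x₀` in `T Q`
  have horb : MulAction.orbit ↥(T Q) x₀ = {y : ι → F | Q y = -1} := by
    ext y
    constructor
    · rintro ⟨g, rfl⟩
      have hg := T_le_oG Q g.2
      show Q ((g : (ι → F) ≃ₗ[F] (ι → F)) x₀) = -1
      rw [hg x₀]
      exact hx₀
    · intro hy
      have hy' : Q y = -1 := hy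
      obtain ⟨g, hg, hgx⟩ := htrns x₀ y hx₀Q (by rw [hx₀, hy'])
      exact ⟨⟨g, hg⟩, hgx⟩
  have hSidx : (MulAction.stabilizer ↥(T Q) x₀).index = n := by
    rw [MulAction.index_stabilizer, horb, ← hns, ← Nat.card_coe_set_eq]
    rfl
  -- the stabiliser of the pair
  have hle : MulAction.stabilizer ↥(T Q) x₀ ≤ pairStab Q x₀ := by
    intro g hg
    rw [MulAction.mem_stabilizer_iff] at hg
    exact Or.inl hg
  have hQneg : Q (-x₀) = -1 := by rw [QuadraticMap.map_neg]; exact hx₀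
  obtain ⟨g₀, hg₀T, hg₀⟩ := htrns x₀ (-x₀) hx₀Q (by rw [hx₀, hQneg])
  have hg₀M : (⟨g₀, hg₀T⟩ : ↥(T Q)) ∈ pairStab Q x₀ := Or.inr hg₀
  have hrel : (MulAction.stabilizer ↥(T Q) x₀).relIndex (pairStab Q x₀) = 2 := by
    rw [Subgroup.relIndex, Subgroup.index_eq_two_iff]
    refine ⟨⟨⟨g₀, hg₀T⟩, hg₀M⟩, ?_⟩
    rintro ⟨b, hb⟩
    rw [Subgroup.mem_subgroupOf, Subgroup.mem_subgroupOf, MulAction.mem_stabilizer_iff,
      MulAction.mem_stabilizer_iff]
    have e1 : ((⟨b, hb⟩ * ⟨⟨g₀, hg₀T⟩, hg₀M⟩ : ↥(pairStab Q x₀)) : ↥(T Q)) • x₀ =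
        -((b : (ι → F) ≃ₗ[F] (ι → F)) x₀) := by
      show ((b : (ι → F) ≃ₗ[F] (ι → F)) * g₀) x₀ = _
      rw [LinearEquiv.mul_apply, hg₀, map_neg]
    have e2 : ((⟨b, hb⟩ : ↥(pairStab Q x₀)) : ↥(T Q)) • x₀ = (b : (ι → F) ≃ₗ[F] (ι → F)) x₀ := rfl
    rw [e1, e2]
    rcases hb with hb | hb
    · right
      refine ⟨hb, ?_⟩
      rw [hb]
      exact hneg
    · left
      refine ⟨by rw [hb, neg_neg], ?_⟩
      rw [hb]
      exact hneg
  have hMidx : (pairStab Q x₀).index = n / 2 := by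
    have h := Subgroup.relIndex_mul_index hle
    rw [hrel, hSidx] at h
    omega
  -- transport to `Ω`
  have hKidx : ((pairStab Q x₀).comap (omegaEquivT Q hQ hn).toMonoidHom).index = n / 2 := by
    rw [Subgroup.index_comap_of_surjective _ (omegaEquivT Q hQ hn).surjective, hMidx]
  have hKne : (pairStab Q x₀).comap (omegaEquivT Q hQ hn).toMonoidHom ≠ ⊤ := by
    intro h
    rw [h, Subgroup.index_top] at hKidx
    omega
  have hperf : commutator ↥(Cfsg.Omega F (⇑Q)) = ⊤ := by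
    have h1 := commutator_T_eq_top Q hQ hdim
    apply Subgroup.map_injective (f := (omegaEquivT Q hQ hn).toMonoidHom)
      (omegaEquivT Q hQ hn).injective
    rw [commutator_def, Subgroup.map_commutator,
      Subgroup.map_top_of_surjective _ (omegaEquivT Q hQ hn).surjective, ← commutator_def, h1]
  have hHne := map_center_ne_top hperf _ hKne
  have hdvd := Subgroup.index_map_dvd ((pairStab Q x₀).comap (omegaEquivT Q hQ hn).toMonoidHom)
    (QuotientGroup.mk'_surjective (Subgroup.center ↥(Cfsg.Omega F (⇑Q))))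
  rw [hKidx] at hdvd
  exact ⟨_, le_antisymm (Nat.le_of_dvd (by omega) hdvd) (hlow _ hHne)⟩

end gen

theorem exists_index3 (hF : Fintype.card F = 3) (m : ℕ) (hm : 3 ≤ m)
    (hset : OddSetting (qfOdd m F) m)
    (htrns : ∀ x y : Unit ⊕ (Fin m ⊕ Fin m) → F, qfOdd m F x ≠ 0 → qfOdd m F x = qfOdd m F y →
      ∃ g ∈ T (qfOdd m F), g x = y)
    (hlow : ∀ H : Subgroup (Cfsg.POmega F (Cfsg.quadFormOdd m F)), H ≠ ⊤ → Nmin3 m ≤ H.index) :
    ∃ H : Subgroup (Cfsg.POmega F (Cfsg.quadFormOdd m F)), H.index = Nmin3 m := by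
  rw [← coe_qfOdd] at hlow ⊢
  have h27 : 3 ^ 3 ≤ 3 ^ m := Nat.pow_le_pow_right (by norm_num) hm
  have hbig : 4 ≤ 3 ^ m * (3 ^ m - 1) := by
    have h1 : 1 ≤ 3 ^ m - 1 := by omega
    calc 4 ≤ 3 ^ 3 * 1 := by norm_num
      _ ≤ 3 ^ m * (3 ^ m - 1) := Nat.mul_le_mul h27 h1
  apply exists_index_gen3 (qfOdd m F) hset.nondeg _ (3 ^ m * (3 ^ m - 1)) hbig hset.two_ne
    hset.nminus htrns hlow
  rw [Fintype.card_sum, Fintype.card_sum, Fintype.card_fin, Fintype.card_unit]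
  omega

end Cfsg.Agent.Lib.Helper55_MI3_BREX
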