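import Mathlib
import Cfsg.Agent.Lib.Helper44_MI3Defs

set_option autoImplicit false

/-!
# S2144 package MI3-DICHG (architect helper44): from one singular vector to all (conjugation)
-/

namespace Cfsg.Agent.Lib.Helper55_MI3_DICHG

open Module Cfsg.Agent.Lib.Helper14_OmegaSimple Cfsg.Agent.Lib.Helper22_MI2Defs
  Cfsg.Agent.Lib.Helper44_MI3Defs Cfsg.Agent.Lib.Helper94_OrthSmall

variable {F V : Type*} [Field F] [AddCommGroup V] [Module F V]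

theorem apply_inv_apply (g : V ≃ₗ[F] V) (w : V) : g (g⁻¹ w) = w := by
  rw [← LinearEquiv.mul_apply, mul_inv_cancel]; rfl

theorem polar_inv_right (Q : QuadraticForm F V) {g : V ≃ₗ[F] V} (hg : g ∈ oG (⇑Q)) (x w : V) :
    QuadraticMap.polar (⇑Q) x (g⁻¹ w) = QuadraticMap.polar (⇑Q) (g x) w := by
  rw [← oG_polar Q hg x (g⁻¹ w), apply_inv_apply]

/-- transfer of a Siegel element at `v` to one at `v₀` by conjugation -/
theorem transfer (Q : QuadraticForm F V) {g : V ≃ₗ[F] V} (hg : g ∈ oG (⇑Q)) {v₀ v : V} {c : F}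
    (hc : c ≠ 0) (hgv : g v₀ = c • v) (hQv₀ : Q v₀ = 0) (hQv : Q v = 0) {w : V}
    (hvw : QuadraticMap.polar (⇑Q) v w = 0) :
    QuadraticMap.polar (⇑Q) v₀ (c⁻¹ • g⁻¹ w) = 0 ∧
      E Q v w = g * E Q v₀ (c⁻¹ • g⁻¹ w) * g⁻¹ := by
  have h1 : QuadraticMap.polar (⇑Q) v₀ (c⁻¹ • g⁻¹ w) = 0 := by
    rw [QuadraticMap.polar_smul_right, polar_inv_right Q hg, hgv, QuadraticMap.polar_smul_left, hvw,
      smul_zero, smul_zero]
  refine ⟨h1, ?_⟩
  rw [conj_E Q hg hQv₀ h1, hgv, map_smul, apply_inv_apply]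
  have h2 : QuadraticMap.polar (⇑Q) v (c⁻¹ • w) = 0 := by
    rw [QuadraticMap.polar_smul_right, hvw, smul_zero]
  rw [E_smul_left Q hQv h2, smul_smul, mul_inv_cancel₀ hc, one_smul]

section action

variable {X : Type*} [MulAction (V ≃ₗ[F] V) X]

theorem dichotomy_global [Finite F] [FiniteDimensional F V] (Q : QuadraticForm F V) {m : ℕ}
    (hS : OddSetting Q m) (hm : 3 ≤ m) (Ω : Set X) (hΩ : IsOrbit Q Ω) {v₀ : V} (hv₀ : v₀ ≠ 0)
    (hQv₀ : Q v₀ = 0)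
    (hloc : (∀ ω ∈ Ω, ∃ lam : V, ∀ w : V, QuadraticMap.polar (⇑Q) v₀ w = 0 →
        QuadraticMap.polar (⇑Q) lam w = 0 → E Q v₀ w • ω = ω) ∨
      (∀ ω ∈ Ω, (∀ w : V, QuadraticMap.polar (⇑Q) v₀ w = 0 → E Q v₀ w • ω = ω) ∨
        (∀ w : V, QuadraticMap.polar (⇑Q) v₀ w = 0 → E Q v₀ w • ω = ω →
          w ∈ Submodule.span F {v₀}))) :
    AllSmall Q Ω ∨ FixOrReg3 Q Ω := by
  have hQ := hS.nondeg
  have hdim : 5 ≤ finrank F V := by rw [hS.dim]; omega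
  have key : ∀ v : V, v ≠ 0 → Q v = 0 → ∃ g ∈ T Q, ∃ c : F, c ≠ 0 ∧ g v₀ = c • v :=
    fun v hv hQv => exists_mem_T_map Q hQ hdim hv₀ hQv₀ hv hQv
  rcases hloc with hL | hR
  · left
    intro v hv hQv ω hω
    obtain ⟨g, hgT, c, hc, hgv⟩ := key v hv hQv
    have hgO := T_le_oG Q hgT
    have hω' : g⁻¹ • ω ∈ Ω := hΩ.inv g⁻¹ ((T Q).inv_mem hgT) ω hω
    obtain ⟨lam₀, hlam₀⟩ := hL _ hω'
    refine ⟨g lam₀, ?_⟩
    intro w hvw hlw
    obtain ⟨h1, h2⟩ := transfer Q hgO hc hgv hQv₀ hQv hvw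
    have h3 : QuadraticMap.polar (⇑Q) lam₀ (c⁻¹ • g⁻¹ w) = 0 := by
      rw [QuadraticMap.polar_smul_right, polar_inv_right Q hgO, hlw, smul_zero]
    rw [h2, mul_smul, mul_smul, hlam₀ _ h1 h3, smul_inv_smul]
  · right
    intro v hv hQv ω hω
    obtain ⟨g, hgT, c, hc, hgv⟩ := key v hv hQv
    have hgO := T_le_oG Q hgT
    have hω' : g⁻¹ • ω ∈ Ω := hΩ.inv g⁻¹ ((T Q).inv_mem hgT) ω hω
    rcases hR _ hω' with hfix | hreg
    · left
      intro w hvw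
      obtain ⟨h1, h2⟩ := transfer Q hgO hc hgv hQv₀ hQv hvw
      rw [h2, mul_smul, mul_smul, hfix _ h1, smul_inv_smul]
    · right
      intro w hvw hfix
      obtain ⟨h1, h2⟩ := transfer Q hgO hc hgv hQv₀ hQv hvw
      have h3 : E Q v₀ (c⁻¹ • g⁻¹ w) • g⁻¹ • ω = g⁻¹ • ω := by
        have h4 : E Q v₀ (c⁻¹ • g⁻¹ w) = g⁻¹ * E Q v w * g := by
          rw [h2]; group
        rw [h4, mul_smul, mul_smul, smul_inv_smul, hfix]
      have h5 := hreg _ h1 h3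
      obtain ⟨a, ha⟩ := Submodule.mem_span_singleton.mp h5
      rw [Submodule.mem_span_singleton]
      refine ⟨c * a * c, ?_⟩
      have h6 : w = c • g (c⁻¹ • g⁻¹ w) := by
        rw [map_smul, apply_inv_apply, smul_smul, mul_inv_cancel₀ hc, one_smul]
      rw [h6, ← ha, map_smul, hgv, smul_smul, smul_smul]

end action

end Cfsg.Agent.Lib.Helper55_MI3_DICHG
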