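import Mathlib
import Cfsg.Agent.Lib.Helper44_MI3Defs
import Cfsg.Agent.Lib.Helper54_MI2_SUBCNTCore

/-!
# S2144 (MI3), package SUBCNT: double counting over the orbit of a subspace (three types of vectors)
-/

set_option autoImplicit false

namespace Cfsg.Agent.Lib.Helper60_MI3_SUBCNT

open Module Cfsg.Agent.Lib.Helper14_OmegaSimple Cfsg.Agent.Lib.Helper22_MI2Defs
  Cfsg.Agent.Lib.Helper44_MI3Defs Cfsg.Agent.Lib.Helper54_MI2_SUBCNTCore

variable {F V : Type*} [Field F] [AddCommGroup V] [Module F V]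

/-- the field has three elements -/
theorem card_field_eq_three [Finite F] (hf3 : ∀ c : F, c = 0 ∨ c = 1 ∨ c = -1)
    (h2 : (2 : F) ≠ 0) : Nat.card F = 3 := by
  classical
  have : Fintype F := Fintype.ofFinite F
  have h1 : (1 : F) ≠ -1 := by
    intro h
    apply h2
    have e : (2 : F) = 1 + 1 := by norm_num
    rw [e]
    nth_rewrite 2 [h]
    exact add_neg_cancel 1
  have huniv : (Finset.univ : Finset F) = {0, 1, -1} := by
    ext c
    simp only [Finset.mem_univ, Finset.mem_insert, Finset.mem_singleton, true_iff]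
    exact hf3 c
  rw [Nat.card_eq_fintype_card, ← Finset.card_univ, huniv,
    Finset.card_insert_of_notMem (by
      simp only [Finset.mem_insert, Finset.mem_singleton, not_or]
      exact ⟨zero_ne_one, fun h => one_ne_zero (neg_eq_zero.1 h.symm)⟩),
    Finset.card_insert_of_notMem (by
      simp only [Finset.mem_singleton]
      exact h1), Finset.card_singleton]

theorem bcount_smul (Q : QuadraticForm F V) (C : Submodule F V) {c : F} (hc : c ≠ 0) (x : V) :
    bcount Q C (c • x) = bcount Q C x := by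
  unfold bcount
  congr 1
  ext D
  exact ⟨fun h => ⟨h.1, (D.smul_mem_iff hc).1 h.2⟩, fun h => ⟨h.1, (D.smul_mem_iff hc).2 h.2⟩⟩

theorem orbit_count3 [Finite F] [FiniteDimensional F V] (Q : QuadraticForm F V) {k : ℕ}
    (hS : OddSetting Q k) (hk : 2 ≤ k)
    (htr : ∀ x y : V, Q x ≠ 0 → Q x = Q y → ∃ g ∈ T Q, g x = y) (C : Submodule F V) :
    (subOrbit Q C).Finite ∧
    ∃ bs bp bm : ℕ,
      (∀ x : V, x ≠ 0 → Q x = 0 → {C' | C' ∈ subOrbit Q C ∧ x ∈ C'}.ncard = bs) ∧
      (∀ x : V, Q x = 1 → {C' | C' ∈ subOrbit Q C ∧ x ∈ C'}.ncard = bp) ∧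
      (∀ x : V, Q x = -1 → {C' | C' ∈ subOrbit Q C ∧ x ∈ C'}.ncard = bm) ∧
      (subOrbit Q C).ncard * Nat.card {x : C // (x : V) ≠ 0 ∧ Q x = 0} = (3 ^ (2 * k) - 1) * bs ∧
      (subOrbit Q C).ncard * Nat.card {x : C // Q x = 1} = 3 ^ k * (3 ^ k + 1) * bp ∧
      (subOrbit Q C).ncard * Nat.card {x : C // Q x = -1} = 3 ^ k * (3 ^ k - 1) * bm ∧
      (subOrbit Q C).ncard * Nat.card C =
        (subOrbit Q C).ncard + (3 ^ (2 * k) - 1) * bs + 3 ^ k * (3 ^ k + 1) * bp +
          3 ^ k * (3 ^ k - 1) * bm := by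
  classical
  have : Finite V := Module.finite_of_finite F
  have : Fintype V := Fintype.ofFinite V
  have hdim : 5 ≤ finrank F V := by rw [hS.dim]; omega
  have hfin : (subOrbit Q C).Finite := Set.toFinite _
  refine ⟨hfin, ?_⟩
  have hQg : ∀ g ∈ T Q, ∀ x, Q (g x) = Q x := fun g hg x => (T_le_oG Q hg) x
  have hne : ∀ g : V ≃ₗ[F] V, ∀ x, g x ≠ 0 ↔ x ≠ 0 := fun g x =>
    not_congr (LinearEquiv.map_eq_zero_iff g)
  have h10 : (1 : F) ≠ 0 := one_ne_zero
  have hm10 : (-1 : F) ≠ 0 := neg_ne_zero.2 one_ne_zero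
  have h1m1 : (1 : F) ≠ -1 := by
    intro h
    apply hS.two_ne
    have e : (2 : F) = 1 + 1 := by norm_num
    rw [e]
    nth_rewrite 2 [h]
    exact add_neg_cancel 1
  -- constancy of the counting function
  have hbs : ∀ x y : V, x ≠ 0 → Q x = 0 → y ≠ 0 → Q y = 0 → bcount Q C x = bcount Q C y := by
    intro x y hx hQx hy hQy
    obtain ⟨g, hg, c, hc, hgx⟩ := exists_mem_T_map Q hS.nondeg hdim hx hQx hy hQy
    rw [← bcount_apply Q C hg x, hgx, bcount_smul Q C hc]
  have hbv : ∀ x y : V, Q x ≠ 0 → Q x = Q y → bcount Q C x = bcount Q C y := by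
    intro x y hQx hxy
    obtain ⟨g, hg, hgx⟩ := htr x y hQx hxy
    rw [← hgx, bcount_apply Q C hg]
  obtain ⟨bs, hbs'⟩ : ∃ bs : ℕ, ∀ x : V, x ≠ 0 → Q x = 0 → bcount Q C x = bs := by
    by_cases hex : ∃ x : V, x ≠ 0 ∧ Q x = 0
    · obtain ⟨x₀, hx₀, hQx₀⟩ := hex
      exact ⟨bcount Q C x₀, fun x hx hQx => hbs x x₀ hx hQx hx₀ hQx₀⟩
    · exact ⟨0, fun x hx hQx => absurd ⟨x, hx, hQx⟩ hex⟩
  obtain ⟨bp, hbp'⟩ : ∃ bp : ℕ, ∀ x : V, Q x = 1 → bcount Q C x = bp := by
    by_cases hex : ∃ x : V, Q x = 1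
    · obtain ⟨x₀, hQx₀⟩ := hex
      exact ⟨bcount Q C x₀, fun x hQx => hbv x x₀ (by rw [hQx]; exact h10) (by rw [hQx, hQx₀])⟩
    · exact ⟨0, fun x hQx => absurd ⟨x, hQx⟩ hex⟩
  obtain ⟨bm, hbm'⟩ : ∃ bm : ℕ, ∀ x : V, Q x = -1 → bcount Q C x = bm := by
    by_cases hex : ∃ x : V, Q x = -1
    · obtain ⟨x₀, hQx₀⟩ := hex
      exact ⟨bcount Q C x₀, fun x hQx => hbv x x₀ (by rw [hQx]; exact hm10) (by rw [hQx, hQx₀])⟩
    · exact ⟨0, fun x hQx => absurd ⟨x, hQx⟩ hex⟩
  refine ⟨bs, bp, bm, hbs', hbp', hbm', ?_⟩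
  -- the sizes of the three types
  have hV : Fintype.card V = 3 ^ (2 * k + 1) := by
    rw [← Nat.card_eq_fintype_card, Module.natCard_eq_pow_finrank (K := F) (V := V),
      card_field_eq_three hS.f3 hS.two_ne, hS.dim]
  have hc0 : (Finset.univ.filter (fun x : V => Q x = 0)).card = 3 ^ (2 * k) := by
    rw [← Fintype.card_subtype, ← Nat.card_eq_fintype_card, hS.nsing]
  have hcm : (Finset.univ.filter (fun x : V => Q x = -1)).card = 3 ^ k * (3 ^ k - 1) := by
    rw [← Fintype.card_subtype, ← Nat.card_eq_fintype_card, hS.nminus]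
  have herase : Finset.univ.filter (fun x : V => x ≠ 0 ∧ Q x = 0) =
      (Finset.univ.filter (fun x : V => Q x = 0)).erase 0 := by
    ext x
    simp only [Finset.mem_filter, Finset.mem_univ, true_and, Finset.mem_erase]
  have h0mem : (0 : V) ∈ Finset.univ.filter (fun x : V => Q x = 0) := by
    rw [Finset.mem_filter]
    exact ⟨Finset.mem_univ _, map_zero Q⟩
  have hcs : (Finset.univ.filter (fun x : V => x ≠ 0 ∧ Q x = 0)).card = 3 ^ (2 * k) - 1 := by
    rw [herase, Finset.card_erase_of_mem h0mem, hc0]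
  -- the partition of `V`
  have hfne0 : Finset.univ.filter (fun x : V => ¬ Q x = 0) =
      Finset.univ.filter (fun x : V => Q x = 1) ∪ Finset.univ.filter (fun x : V => Q x = -1) := by
    ext x
    simp only [Finset.mem_filter, Finset.mem_univ, true_and, Finset.mem_union]
    constructor
    · intro h
      rcases hS.f3 (Q x) with h0 | h0 | h0
      · exact absurd h0 h
      · exact Or.inl h0
      · exact Or.inr h0
    · rintro (h | h)
      · rw [h]; exact h10
      · rw [h]; exact hm10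
  have hdisj : Disjoint (Finset.univ.filter (fun x : V => Q x = 1))
      (Finset.univ.filter (fun x : V => Q x = -1)) := by
    rw [Finset.disjoint_left]
    intro x hx hx'
    rw [Finset.mem_filter] at hx hx'
    exact h1m1 (hx.2.symm.trans hx'.2)
  have hsplit : ∀ f : V → ℕ, ∑ x : V, f x =
      f 0 + ∑ x ∈ Finset.univ.filter (fun x : V => x ≠ 0 ∧ Q x = 0), f x +
        ∑ x ∈ Finset.univ.filter (fun x : V => Q x = 1), f x +
        ∑ x ∈ Finset.univ.filter (fun x : V => Q x = -1), f x := by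
    intro f
    rw [← Finset.sum_filter_add_sum_filter_not Finset.univ (fun x : V => Q x = 0), hfne0,
      Finset.sum_union hdisj, herase, Finset.add_sum_erase _ f h0mem]
    ring
  have hcp : (Finset.univ.filter (fun x : V => Q x = 1)).card = 3 ^ k * (3 ^ k + 1) := by
    have h := hsplit (fun _ => 1)
    simp only [Finset.sum_const, smul_eq_mul, mul_one, Finset.card_univ] at h
    rw [hV, hcs, hcm] at h
    have e1 : (3 : ℕ) ^ (2 * k + 1) = 3 * (3 ^ k * 3 ^ k) := by
      rw [pow_succ, two_mul, pow_add]; ring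
    have e2 : (3 : ℕ) ^ (2 * k) = 3 ^ k * 3 ^ k := by rw [two_mul, pow_add]
    have hpos : 1 ≤ 3 ^ k := Nat.one_le_pow _ _ (by norm_num)
    rw [e1, e2] at h
    have e3 : 3 ^ k * (3 ^ k - 1) = 3 ^ k * 3 ^ k - 3 ^ k := by
      rw [Nat.mul_sub, mul_one]
    have hle : 3 ^ k ≤ 3 ^ k * 3 ^ k := Nat.le_mul_of_pos_left _ (by positivity)
    rw [e3] at h
    have hpos2 : 1 ≤ 3 ^ k * 3 ^ k := le_trans hpos hle
    rw [mul_add, mul_one]
    omega
  have hsum : ∀ (P : V → Prop) [DecidablePred P] (b : ℕ),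
      (∀ x, P x → bcount Q C x = b) →
      ∑ x ∈ Finset.univ.filter P, bcount Q C x = (Finset.univ.filter P).card * b := by
    intro P _ b hb
    rw [Finset.sum_const_nat (m := b)]
    intro x hx
    rw [Finset.mem_filter] at hx
    exact hb x hx.2
  have hd1 := double_count Q C (fun x : V => x ≠ 0 ∧ Q x = 0) (by
    intro g hg x
    rw [hne g x, hQg g hg x])
  have hd2 := double_count Q C (fun x : V => Q x = 1) (by
    intro g hg x
    rw [hQg g hg x])
  have hd3 := double_count Q C (fun x : V => Q x = -1) (by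
    intro g hg x
    rw [hQg g hg x])
  have hs1 := hsum (fun x : V => x ≠ 0 ∧ Q x = 0) bs (fun x hx => hbs' x hx.1 hx.2)
  have hs2 := hsum (fun x : V => Q x = 1) bp (fun x hx => hbp' x hx)
  have hs3 := hsum (fun x : V => Q x = -1) bm (fun x hx => hbm' x hx)
  rw [hcs] at hs1
  rw [hcp] at hs2
  rw [hcm] at hs3
  refine ⟨by rw [← hs1]; exact hd1, by rw [← hs2]; exact hd2, by rw [← hs3]; exact hd3, ?_⟩
  have h1 := double_count Q C (fun _ : V => True) (fun _ _ _ => Iff.rfl)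
  have hC : Nat.card {x : C // True} = Nat.card C :=
    Nat.card_congr (Equiv.subtypeUnivEquiv (fun _ => trivial))
  rw [hC] at h1
  rw [h1, Finset.filter_true_of_mem (fun _ _ => trivial), hsplit, hs1, hs2, hs3]
  have h0 : bcount Q C 0 = (subOrbit Q C).ncard := by
    unfold bcount
    congr 1
    ext D
    exact ⟨fun h => h.1, fun h => ⟨h, D.zero_mem⟩⟩
  rw [h0]

end Cfsg.Agent.Lib.Helper60_MI3_SUBCNT
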