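import Mathlib
import Cfsg.Agent.Lib.Helper44_MI3Defs
import Cfsg.Agent.Lib.Helper14_POmegaSimple
import Cfsg.Agent.Lib.Helper5_QuadCount

/-!
# S2144 package MI3-BRCNT (helper61, for architect helper44)

The numbers of singular vectors and of vectors of norm `-1` of `x₀² + Σ xᵢ yᵢ` over the field with three
elements: `3^(2m)` and `3^m (3^m - 1)`.

Reusable: `card_level_quadFormOdd` (any finite field: `#{Q = a} = Σ_t #{(x,y) | x ⬝ y = a - t²}`),
`univ_eq_of_card_three` (`univ = {0, 1, -1}`).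
-/

set_option autoImplicit false
set_option linter.unusedSectionVars false

namespace Cfsg.Agent.Lib.Helper61_MI3_BRCNT

open Module Cfsg.Agent.Lib.Helper14_OmegaSimple Cfsg.Agent.Lib.Helper22_MI2Defs
  Cfsg.Agent.Lib.Helper44_MI3Defs Cfsg.Agent.Lib.Helper44_StdForms

variable {F : Type*} [Field F] [Fintype F]

/-- the coordinates `(x₀, (x, y))` -/
def coordEquiv (m : ℕ) (F : Type*) :
    (Unit ⊕ (Fin m ⊕ Fin m) → F) ≃ F × ((Fin m → F) × (Fin m → F)) :=
  (Equiv.sumArrowEquivProdArrow Unit (Fin m ⊕ Fin m) F).trans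
    (Equiv.prodCongr (Equiv.funUnique Unit F) (Equiv.sumArrowEquivProdArrow (Fin m) (Fin m) F))

theorem quadFormOdd_eq (m : ℕ) (v : Unit ⊕ (Fin m ⊕ Fin m) → F) :
    Cfsg.quadFormOdd m F v
      = (coordEquiv m F v).1 ^ 2 + (coordEquiv m F v).2.1 ⬝ᵥ (coordEquiv m F v).2.2 := rfl

/-- the level sets of `quadFormOdd`, sliced by the first coordinate -/
theorem card_level_quadFormOdd (m : ℕ) (a : F) :
    Nat.card {x : Unit ⊕ (Fin m ⊕ Fin m) → F // Cfsg.quadFormOdd m F x = a}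
      = ∑ t : F, Nat.card {p : (Fin m → F) × (Fin m → F) // p.1 ⬝ᵥ p.2 = a - t ^ 2} := by
  classical
  have e1 : {x : Unit ⊕ (Fin m ⊕ Fin m) → F // Cfsg.quadFormOdd m F x = a} ≃
      {w : F × ((Fin m → F) × (Fin m → F)) // w.1 ^ 2 + w.2.1 ⬝ᵥ w.2.2 = a} :=
    Equiv.subtypeEquiv (coordEquiv m F) (fun v => by rw [quadFormOdd_eq])
  have e2 := Equiv.subtypeProdEquivSigmaSubtype
    (fun (t : F) (p : (Fin m → F) × (Fin m → F)) => t ^ 2 + p.1 ⬝ᵥ p.2 = a)
  rw [Nat.card_congr (e1.trans e2), Nat.card_sigma]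
  apply Finset.sum_congr rfl
  intro t _
  refine Nat.card_congr (Equiv.subtypeEquivRight (fun p => ?_))
  constructor
  · intro h; rw [← h]; ring
  · intro h; rw [h]; ring

/-- a field with three elements is `{0, 1, -1}` -/
theorem three_eq_zero (hF : Fintype.card F = 3) : (3 : F) = 0 := by
  have := FiniteField.cast_card_eq_zero F
  rw [hF] at this
  exact_mod_cast this

theorem two_ne_zero_of_card (hF : Fintype.card F = 3) : (2 : F) ≠ 0 := by
  intro h2
  have h3 := three_eq_zero hF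
  have : (1 : F) = 0 := by linear_combination h3 - h2
  exact one_ne_zero this

theorem distinct_of_card_three (hF : Fintype.card F = 3) :
    (0 : F) ≠ 1 ∧ (0 : F) ≠ -1 ∧ (1 : F) ≠ -1 := by
  have h2 := two_ne_zero_of_card hF
  refine ⟨zero_ne_one, ?_, ?_⟩
  · intro h
    have : (1 : F) = 0 := by linear_combination h
    exact one_ne_zero this
  · intro h
    apply h2
    linear_combination h

theorem univ_eq_of_card_three [DecidableEq F] (hF : Fintype.card F = 3) :
    (Finset.univ : Finset F) = {0, 1, -1} := by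
  obtain ⟨h01, h0m, h1m⟩ := distinct_of_card_three hF
  symm
  apply Finset.eq_univ_of_card
  rw [hF, Finset.card_insert_of_notMem, Finset.card_insert_of_notMem, Finset.card_singleton]
  · simp [h1m]
  · simp [h01, h0m]

theorem sum_univ_of_card_three (hF : Fintype.card F = 3) (g : F → ℕ) :
    ∑ t : F, g t = g 0 + g 1 + g (-1) := by
  classical
  obtain ⟨h01, h0m, h1m⟩ := distinct_of_card_three hF
  rw [univ_eq_of_card_three hF, Finset.sum_insert, Finset.sum_insert, Finset.sum_singleton]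
  · ring
  · simp [h1m]
  · simp [h01, h0m]

/-- **MI3-BRCNT** -/
theorem card_levels_quadFormOdd (hF : Fintype.card F = 3) (m : ℕ) :
    Nat.card {x : Unit ⊕ (Fin m ⊕ Fin m) → F // Cfsg.quadFormOdd m F x = 0} = 3 ^ (2 * m) ∧
    Nat.card {x : Unit ⊕ (Fin m ⊕ Fin m) → F // Cfsg.quadFormOdd m F x = -1} =
      3 ^ m * (3 ^ m - 1) := by
  classical
  have h2 := two_ne_zero_of_card hF
  have h3 := three_eq_zero hF
  have hm1 : (-1 : F) ≠ 0 := neg_ne_zero.mpr one_ne_zero
  have hm2 : (-1 - 1 : F) ≠ 0 := by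
    intro h
    apply h2
    linear_combination -h
  -- the arithmetic
  have harith : 3 ^ m + 3 * ((3 ^ m - 1) * 3 ^ (m - 1)) = 3 ^ (2 * m) ∧
      3 * ((3 ^ m - 1) * 3 ^ (m - 1)) = 3 ^ m * (3 ^ m - 1) := by
    rcases Nat.eq_zero_or_pos m with rfl | hpos
    · simp
    · obtain ⟨k, rfl⟩ : ∃ k, m = k + 1 := ⟨m - 1, by omega⟩
      have h1 : 3 * ((3 ^ (k + 1) - 1) * 3 ^ (k + 1 - 1)) = 3 ^ (k + 1) * (3 ^ (k + 1) - 1) := by
        rw [Nat.add_sub_cancel, pow_succ]
        ring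
      refine ⟨?_, h1⟩
      rw [h1]
      have h4 : 1 ≤ 3 ^ (k + 1) := Nat.one_le_pow _ _ (by norm_num)
      have hsq : 3 ^ (2 * (k + 1)) = 3 ^ (k + 1) * 3 ^ (k + 1) := by rw [two_mul, pow_add]
      rw [hsq]
      generalize 3 ^ (k + 1) = X at h4 ⊢
      obtain ⟨N, rfl⟩ : ∃ N, X = N + 1 := ⟨X - 1, by omega⟩
      rw [Nat.add_sub_cancel]
      ring
  constructor
  · rw [card_level_quadFormOdd, sum_univ_of_card_three hF]
    simp only [Cfsg.Agent.Lib.Helper5_QuadCount.card_pairs, hF]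
    have e0 : (0 : F) - 0 ^ 2 = 0 := by ring
    have e1 : (0 : F) - 1 ^ 2 = -1 := by ring
    have e2 : (0 : F) - (-1) ^ 2 = -1 := by ring
    rw [e0, e1, e2, if_pos rfl, if_neg hm1, zero_add]
    rw [← harith.1]
    ring
  · rw [card_level_quadFormOdd, sum_univ_of_card_three hF]
    simp only [Cfsg.Agent.Lib.Helper5_QuadCount.card_pairs, hF]
    have e0 : (-1 : F) - 0 ^ 2 = -1 := by ring
    have e1 : (-1 : F) - 1 ^ 2 = -1 - 1 := by ring
    have e2 : (-1 : F) - (-1) ^ 2 = -1 - 1 := by ring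
    rw [e0, e1, e2, if_neg hm1, if_neg hm2, zero_add]
    rw [← harith.2]
    ring

end Cfsg.Agent.Lib.Helper61_MI3_BRCNT
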