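import Mathlib
import Cfsg.Agent.Lib.Helper44_MI3Defs
import Cfsg.Agent.Lib.Helper58_MI3_TRNS
import Cfsg.Agent.Lib.Helper17_MI3_SCNT
import Cfsg.Agent.Lib.Helper58_MI3_WSET
import Cfsg.Agent.Lib.Helper60_MI3_SUBI
import Cfsg.Agent.Lib.Helper17_MI3_ORD3
import Cfsg.Agent.Lib.Helper60_MI3_SUBCNT
import Cfsg.Agent.Lib.Helper71_MI3_TS
import Cfsg.Agent.Lib.Helper42_MI3_ANISO
import Cfsg.Agent.Lib.Helper42_MI3_PERP
import Cfsg.Agent.Lib.Helper84_MI3_HYPORB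
import Cfsg.Agent.Lib.Helper74_MI3_DICHL
import Cfsg.Agent.Lib.Helper55_MI3_DICHG
import Cfsg.Agent.Lib.Helper2_MI3_HYPA
import Cfsg.Agent.Lib.Helper47_MI3_HYPB
import Cfsg.Agent.Lib.Helper47_MI3_REGA
import Cfsg.Agent.Lib.Helper64_MI3_REGB
import Cfsg.Agent.Lib.Helper25_MI3_INVOL
import Cfsg.Agent.Lib.Helper25_MI3_FIXCNT
import Cfsg.Agent.Lib.Helper2_MI3_REGC
import Cfsg.Agent.Lib.Helper61_MI3_BRCNT
import Cfsg.Agent.Lib.Helper84_MI3_BRSET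
import Cfsg.Agent.Lib.Helper55_MI3_BREX

/-! Aggregator of the MI3 packages (S2144 market, architect helper44). -/
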