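import Mathlib
import Cfsg.Agent.Lib.Helper44_MI3Defs
import Cfsg.Agent.Lib.Helper44_MI3All

set_option autoImplicit false

/-!
# Helper44_MI3Sub: assembly of MI3-SUB (the subspace-orbit bound) for S2144
-/

namespace Cfsg.Agent.Lib.Helper44_MI3Sub

open Module Cfsg.Agent.Lib.Helper14_OmegaSimple Cfsg.Agent.Lib.Helper22_MI2Defs
  Cfsg.Agent.Lib.Helper44_MI3Defs

variable {F V : Type*} [Field F] [AddCommGroup V] [Module F V]

/-- `Nmin3 (k+1) = 3^(2k+1) + 3 * Nmin3 k` -/
theorem Nmin3_succ (k : ℕ) : Nmin3 (k + 1) = 3 ^ (2 * k + 1) + 3 * Nmin3 k := by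
  unfold Nmin3
  obtain ⟨x, hx⟩ : ∃ x, x = 3 ^ k := ⟨_, rfl⟩
  have hx1 : 1 ≤ x := by rw [hx]; exact Nat.one_le_pow _ _ (by norm_num)
  have h1 : 3 ^ (k + 1) = 3 * x := by rw [hx, pow_succ]; ring
  have h2 : 3 ^ (2 * k + 1) = 3 * x * x := by rw [hx, pow_succ, pow_mul']; ring
  rw [h1, h2, ← hx]
  obtain ⟨y, rfl⟩ : ∃ y, x = y + 1 := ⟨x - 1, by omega⟩
  have e1 : 3 * (y + 1) * (3 * (y + 1) - 1) = 2 * (3 * (y + 1) * (y + 1) + 3 * ((y + 1) * y / 2)) := by
    have hev : 2 ∣ (y + 1) * y := by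
      rcases Nat.even_or_odd y with ⟨t, ht⟩ | ⟨t, ht⟩
      · exact ⟨(y + 1) * t, by rw [ht]; ring⟩
      · exact ⟨(t + 1) * y, by rw [ht]; ring⟩
    obtain ⟨z, hz⟩ := hev
    rw [hz, Nat.mul_div_cancel_left _ (by norm_num : 0 < 2)]
    have : 3 * (y + 1) - 1 = 3 * y + 2 := by omega
    rw [this]
    nlinarith [hz]
  rw [e1, Nat.mul_div_cancel_left _ (by norm_num : 0 < 2), Nat.add_sub_cancel]

/-- `Nmin3 (k+1)` in terms of `x = 3^k` -/
theorem Nmin3_succ_le {k M : ℕ} (h : 3 * 3 ^ k * (3 * 3 ^ k - 1) ≤ 2 * M) : Nmin3 (k + 1) ≤ M := by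
  unfold Nmin3
  have h1 : 3 ^ (k + 1) = 3 * 3 ^ k := by rw [pow_succ]; ring
  rw [h1]
  apply Nat.div_le_of_le_mul
  exact h

theorem three_pow_ge {k : ℕ} (hk : 2 ≤ k) : 9 ≤ 3 ^ k := by
  calc 9 = 3 ^ 2 := by norm_num
    _ ≤ 3 ^ k := Nat.pow_le_pow_right (by norm_num) hk

theorem Nmin3_ge {k : ℕ} (hk : 2 ≤ k) : 36 ≤ Nmin3 k := by
  unfold Nmin3
  have h9 := three_pow_ge hk
  obtain ⟨x, hx⟩ : ∃ x, x = 3 ^ k := ⟨_, rfl⟩
  rw [← hx] at h9 ⊢
  rw [Nat.le_div_iff_mul_le (by norm_num)]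
  obtain ⟨y, rfl⟩ : ∃ y, x = y + 9 := ⟨x - 9, by omega⟩
  have : y + 9 - 1 = y + 8 := by omega
  rw [this]
  nlinarith

/-- numerics: two types present -/
theorem num_two {k M a b : ℕ} (hk : 2 ≤ k)
    (ha : 3 ^ (2 * k) - 1 ≤ a) (hb : 3 ^ k * (3 ^ k - 1) ≤ b) (hM : 3 * a + 3 * b ≤ M) :
    Nmin3 (k + 1) ≤ M := by
  apply Nmin3_succ_le
  have h9 := three_pow_ge hk
  have hsq : 3 ^ (2 * k) = 3 ^ k * 3 ^ k := by rw [two_mul, pow_add]
  rw [hsq] at ha
  obtain ⟨x, hx⟩ : ∃ x, x = 3 ^ k := ⟨_, rfl⟩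
  rw [← hx] at h9 ha hb ⊢
  obtain ⟨y, rfl⟩ : ∃ y, x = y + 9 := ⟨x - 9, by omega⟩
  have e1 : 3 * (y + 9) - 1 = 3 * y + 26 := by omega
  have e2 : y + 9 - 1 = y + 8 := by omega
  have e3 : (y + 9) * (y + 9) - 1 = y * y + 18 * y + 80 := by
    have : (y + 9) * (y + 9) = y * y + 18 * y + 81 := by ring
    omega
  rw [e1]
  rw [e2] at hb
  rw [e3] at ha
  nlinarith

set_option maxHeartbeats 1600000 in
/-- PKG MI3-SUB (assembly): the subspace-orbit bound. -/
theorem sub_bound3 [Finite F] [FiniteDimensional F V] (Q : QuadraticForm F V) {k : ℕ}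
    (hS : OddSetting Q k) (hk : 2 ≤ k) (S : Submodule F V) (h1 : 1 ≤ finrank F S)
    (h2 : finrank F S + 2 ≤ 2 * k + 1) :
    Nmin3 (k + 1) ≤ Nat.card (V ⧸ S) * (subOrbit Q S).ncard := by
  classical
  have hdim5 : 5 ≤ finrank F V := by rw [hS.dim]; omega
  have htr : ∀ x y : V, Q x ≠ 0 → Q x = Q y → ∃ g ∈ T Q, g x = y := fun x y hx hxy =>
    Cfsg.Agent.Lib.Helper58_MI3_TRNS.exists_mem_T_map_level Q hS.nondeg hdim5 hS.two_ne hx hxy
  obtain ⟨hcardF, hcardV, hsing, hplus⟩ := Cfsg.Agent.Lib.Helper17_MI3_SCNT.card_levels Q hS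
  obtain ⟨hc1, hc2, hc3⟩ := Cfsg.Agent.Lib.Helper42_MI3_PERP.perp_orbit Q hS.nondeg S
  obtain ⟨C, hC⟩ : ∃ C, C = LinearMap.BilinForm.orthogonal (QuadraticMap.polarBilin Q) S := ⟨_, rfl⟩
  rw [← hC] at hc1 hc2 hc3
  rw [hc1, ← hc2]
  rw [hS.dim] at hc3
  have hCcard : Nat.card C = 3 ^ finrank F C := by
    rw [Module.natCard_eq_pow_finrank (K := F), hcardF]
  have h9 := three_pow_ge hk
  have hsq : 3 ^ (2 * k) = 3 ^ k * 3 ^ k := by rw [two_mul, pow_add]
  have hN36 := Nmin3_ge hk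
  by_cases hd : finrank F C = 2 * k
  · -- `S` is a point
    have hS1 : finrank F S = 1 := by omega
    have horb := Cfsg.Agent.Lib.Helper84_MI3_HYPORB.point_hyperplane_orbit3 Q hS hk htr S (Or.inl hS1)
    rw [← hc2] at horb
    rw [hCcard, hd, Nmin3_succ]
    have h81 : 81 ≤ 3 ^ (2 * k) := by rw [hsq]; nlinarith
    have h3 : 3 ^ (2 * k + 1) = 3 * 3 ^ (2 * k) := by rw [pow_succ]; ring
    rw [h3]
    obtain ⟨n, hn⟩ : ∃ n, n = (subOrbit Q C).ncard := ⟨_, rfl⟩
    rw [← hn] at horb ⊢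
    obtain ⟨Xv, hXv⟩ : ∃ Xv, Xv = 3 ^ (2 * k) := ⟨_, rfl⟩
    rw [← hXv] at h81 ⊢
    have hn36 : 36 ≤ n := le_trans hN36 horb
    have hle : 3 * Xv + 3 * Nmin3 k ≤ 3 * Xv + 3 * n := by omega
    refine le_trans hle ?_
    have h1 : 81 * n ≤ Xv * n := Nat.mul_le_mul_right _ h81
    have h2 : Xv * 36 ≤ Xv * n := Nat.mul_le_mul_left _ hn36
    omega
  · have hdlo : 2 ≤ finrank F C := by omega
    have hdhi : finrank F C + 1 ≤ 2 * k := by omega
    obtain ⟨hfin, bs, bp, bm, hbs, hbp, hbm, I1, I2, I3, I4⟩ := Cfsg.Agent.Lib.Helper60_MI3_SUBCNT.orbit_count3 Q hS hk htr C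
    -- every present type has at least three members through a vector
    have key : ∀ lam ∈ C, lam ≠ 0 → 3 ≤ {C' | C' ∈ subOrbit Q C ∧ lam ∈ C'}.ncard := by
      intro lam hlC hlam
      by_contra hcon
      push Not at hcon
      have hinv := Cfsg.Agent.Lib.Helper17_MI3_ORD3.Kstab_fix_of_le_two Q hS hk C hlC (by omega)
      rcases Cfsg.Agent.Lib.Helper60_MI3_SUBI.invariant_of_Kstab3 Q hS hk hlam C hlC hinv with h | h <;> omega
    obtain ⟨n, hn⟩ : ∃ n, n = (subOrbit Q C).ncard := ⟨_, rfl⟩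
    rw [← hn] at I1 I2 I3 I4 ⊢
    rw [mul_comm]
    by_cases hs : ∃ x ∈ C, x ≠ 0 ∧ Q x = 0
    · obtain ⟨xs, hxsC, hxs0, hxsQ⟩ := hs
      have hbs3 : 3 ≤ bs := by rw [← hbs xs hxs0 hxsQ]; exact key xs hxsC hxs0
      by_cases hp : ∃ x ∈ C, Q x = 1
      · obtain ⟨xp, hxpC, hxpQ⟩ := hp
        have hxp0 : xp ≠ 0 := by rintro rfl; rw [map_zero] at hxpQ; exact zero_ne_one hxpQ
        have hbp3 : 3 ≤ bp := by rw [← hbp xp hxpQ]; exact key xp hxpC hxp0
        apply num_two hk (a := (3 ^ (2 * k) - 1) * 1) (b := 3 ^ k * (3 ^ k + 1)) (by omega)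
          (Nat.mul_le_mul_left _ (by omega))
        rw [I4]
        have q1 := Nat.mul_le_mul_left (3 ^ (2 * k) - 1) hbs3
        have q2 := Nat.mul_le_mul_left (3 ^ k * (3 ^ k + 1)) hbp3
        omega
      · by_cases hm : ∃ x ∈ C, Q x = -1
        · obtain ⟨xm, hxmC, hxmQ⟩ := hm
          have hxm0 : xm ≠ 0 := by
            rintro rfl
            rw [map_zero] at hxmQ
            exact one_ne_zero (neg_eq_zero.mp hxmQ.symm)
          have hbm3 : 3 ≤ bm := by rw [← hbm xm hxmQ]; exact key xm hxmC hxm0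
          apply num_two hk (a := (3 ^ (2 * k) - 1) * 1) (b := 3 ^ k * (3 ^ k - 1)) (by omega)
            (le_refl _)
          rw [I4]
          have q1 := Nat.mul_le_mul_left (3 ^ (2 * k) - 1) hbs3
          have q2 := Nat.mul_le_mul_left (3 ^ k * (3 ^ k - 1)) hbm3
          omega
        · -- totally singular
          push Not at hp hm
          have hts : ∀ x ∈ C, Q x = 0 := by
            intro x hx
            rcases hS.f3 (Q x) with h | h | h
            · exact h
            · exact absurd h (hp x hx)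
            · exact absurd h (hm x hx)
          obtain ⟨hdk, h4, h5⟩ := Cfsg.Agent.Lib.Helper71_MI3_TS.ts_images Q hS hk hxs0 C hxsC hts hdlo
          rw [hbs xs hxs0 hxsQ] at h4 h5
          have hp0 : Nat.card {x : C // Q x = 1} = 0 := by
            rw [Nat.card_eq_zero]
            left
            exact ⟨fun x => hp x.1 x.1.2 x.2⟩
          have hm0 : Nat.card {x : C // Q x = -1} = 0 := by
            rw [Nat.card_eq_zero]
            left
            exact ⟨fun x => hm x.1 x.1.2 x.2⟩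
          rw [hp0, mul_zero] at I2
          rw [hm0, mul_zero] at I3
          have hx1 : 0 < 3 ^ k * (3 ^ k + 1) := by positivity
          have hx2 : 0 < 3 ^ k * (3 ^ k - 1) := by
            apply Nat.mul_pos (by positivity); omega
          have hbp0 : bp = 0 := by
            rcases Nat.eq_zero_or_pos bp with h | h
            · exact h
            · exfalso; have := Nat.mul_pos hx1 h; omega
          have hbm0 : bm = 0 := by
            rcases Nat.eq_zero_or_pos bm with h | h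
            · exact h
            · exfalso; have := Nat.mul_pos hx2 h; omega
          rw [hbp0, hbm0, mul_zero, mul_zero, add_zero, add_zero] at I4
          apply Nmin3_succ_le
          rw [I4]
          rcases Nat.lt_or_ge k 3 with hk3 | hk3
          · -- `k = 2`
            have hk2 : k = 2 := by omega
            subst hk2
            have hCle : Nat.card C ≤ 9 := by
              rw [hCcard]
              calc 3 ^ finrank F C ≤ 3 ^ 2 := Nat.pow_le_pow_right (by norm_num) hdk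
                _ = 9 := by norm_num
            norm_num at I4 ⊢
            have h320 : 320 ≤ 80 * bs := by omega
            have hn8 : n * Nat.card C ≤ n * 9 := Nat.mul_le_mul_left _ hCle
            omega
          · have h5' := h5 hk3
            rw [hsq]
            obtain ⟨x, hx⟩ : ∃ x, x = 3 ^ k := ⟨_, rfl⟩
            rw [← hx] at h9 ⊢
            obtain ⟨y, rfl⟩ : ∃ y, x = y + 9 := ⟨x - 9, by omega⟩
            have e1 : 3 * (y + 9) - 1 = 3 * y + 26 := by omega
            have e3 : (y + 9) * (y + 9) - 1 = y * y + 18 * y + 80 := by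
              have : (y + 9) * (y + 9) = y * y + 18 * y + 81 := by ring
              omega
            rw [e1, e3]
            have q1 := Nat.mul_le_mul_left (y * y + 18 * y + 80) h5'
            have q2 : 3 * (y + 9) * (3 * y + 26) = 9 * (y * y) + 159 * y + 702 := by ring
            rw [q2]
            have q3 : (y * y + 18 * y + 80) * 5 = 5 * (y * y) + 90 * y + 400 := by ring
            rw [q3] at q1
            have q4 : 0 ≤ y * y := Nat.zero_le _
            omega
    · push Not at hs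
      by_cases hp : ∃ x ∈ C, Q x = 1
      · obtain ⟨xp, hxpC, hxpQ⟩ := hp
        have hxp0 : xp ≠ 0 := by rintro rfl; rw [map_zero] at hxpQ; exact zero_ne_one hxpQ
        have hbp3 : 3 ≤ bp := by rw [← hbp xp hxpQ]; exact key xp hxpC hxp0
        by_cases hm : ∃ x ∈ C, Q x = -1
        · obtain ⟨xm, hxmC, hxmQ⟩ := hm
          have hxm0 : xm ≠ 0 := by
            rintro rfl
            rw [map_zero] at hxmQ
            exact one_ne_zero (neg_eq_zero.mp hxmQ.symm)
          have hbm3 : 3 ≤ bm := by rw [← hbm xm hxmQ]; exact key xm hxmC hxm0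
          apply num_two hk (a := 3 ^ k * (3 ^ k + 1)) (b := 3 ^ k * (3 ^ k - 1)) ?_ (le_refl _)
          · rw [I4]
            have q1 := Nat.mul_le_mul_left (3 ^ k * (3 ^ k + 1)) hbp3
            have q2 := Nat.mul_le_mul_left (3 ^ k * (3 ^ k - 1)) hbm3
            omega
          · rw [hsq]
            have : 3 ^ k * 3 ^ k ≤ 3 ^ k * (3 ^ k + 1) := Nat.mul_le_mul_left _ (by omega)
            omega
        · -- only plus vectors
          push Not at hm
          exfalso
          have hle := Cfsg.Agent.Lib.Helper42_MI3_ANISO.finrank_le_one_of_const Q hS.two_ne C 1 one_ne_zero (by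
            intro x hx hx0
            rcases hS.f3 (Q x) with h | h | h
            · exact absurd h (hs x hx hx0)
            · exact h
            · exact absurd h (hm x hx))
          omega
      · push Not at hp
        exfalso
        have hle := Cfsg.Agent.Lib.Helper42_MI3_ANISO.finrank_le_one_of_const Q hS.two_ne C (-1) (by
            intro h; exact one_ne_zero (neg_eq_zero.mp h)) (by
          intro x hx hx0
          rcases hS.f3 (Q x) with h | h | h
          · exact absurd h (hs x hx hx0)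
          · exact absurd h (hp x hx)
          · exact h)
        omega

end Cfsg.Agent.Lib.Helper44_MI3Sub
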