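import Mathlib
import Cfsg.Agent.Lib.Helper44_MI3Defs
import Cfsg.Agent.Lib.Helper44_MI3All
import Cfsg.Agent.Lib.Helper44_MI3Sub
import Cfsg.Agent.Lib.Helper8_MI2_EXT
import Cfsg.Agent.Lib.Helper70_MI2_INJ

set_option autoImplicit false

/-!
# Helper44_MI3Main: assembly of the abstract minimal-index theorem for `Ω_{2m+1}(3)` (S2144)
-/

namespace Cfsg.Agent.Lib.Helper44_MI3Main

open Module Cfsg.Agent.Lib.Helper14_OmegaSimple Cfsg.Agent.Lib.Helper22_MI2Defs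
  Cfsg.Agent.Lib.Helper44_MI3Defs Cfsg.Agent.Lib.Helper44_MI3Sub

variable {F V : Type*} [Field F] [AddCommGroup V] [Module F V]

theorem Nmin3_lt (m : ℕ) (hm : 1 ≤ m) : Nmin3 m < 2 * 3 ^ (2 * m - 1) := by
  obtain ⟨k, rfl⟩ : ∃ k, m = k + 1 := ⟨m - 1, by omega⟩
  rw [Nmin3_succ]
  have h1 : 2 * (k + 1) - 1 = 2 * k + 1 := by omega
  rw [h1]
  have h2 : 3 * Nmin3 k < 3 ^ (2 * k + 1) := by
    unfold Nmin3
    obtain ⟨x, hx⟩ : ∃ x, x = 3 ^ k := ⟨_, rfl⟩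
    have hx1 : 1 ≤ x := by rw [hx]; exact Nat.one_le_pow _ _ (by norm_num)
    have h3 : 3 ^ (2 * k + 1) = 3 * (x * x) := by rw [hx, pow_succ, pow_mul']; ring
    rw [h3, ← hx]
    have h4 : x * (x - 1) / 2 ≤ x * (x - 1) := Nat.div_le_self _ _
    have h5 : x * (x - 1) < x * x := by
      obtain ⟨y, rfl⟩ : ∃ y, x = y + 1 := ⟨x - 1, by omega⟩
      rw [Nat.add_sub_cancel]
      nlinarith
    omega
  omega

section action

variable {X : Type*} [MulAction (V ≃ₗ[F] V) X]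

/-- MI3-DICH: assembled from EXT, WSET, SUB, HYPORB, INJ, DICHL, DICHG. -/
theorem dichotomy3 [Finite F] [FiniteDimensional F V] (Q : QuadraticForm F V) {m : ℕ}
    (hS : OddSetting Q m) (hm : 3 ≤ m) (Ω : Set X) (hΩ : IsOrbit Q Ω)
    (hn : Ω.ncard < Nmin3 m) : AllSmall Q Ω ∨ FixOrReg3 Q Ω := by
  obtain ⟨k, rfl⟩ : ∃ k, m = k + 1 := ⟨m - 1, by omega⟩
  have hk : 2 ≤ k := by omega
  have hdim3 : 3 ≤ finrank F V := by rw [hS.dim]; omega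
  obtain ⟨v, hv0, hv⟩ := Cfsg.Agent.Lib.Helper44_QuadClass.exists_singular Q hdim3
  obtain ⟨v', hv', hvv'⟩ :=
    Cfsg.Agent.Lib.Helper44_QuadClass.exists_hyperbolic_partner Q hS.nondeg hv0 hv
  obtain ⟨hcompl, hW⟩ := Cfsg.Agent.Lib.Helper58_MI3_WSET.oddSetting_perp2 Q hS hv hv' hvv'
  obtain ⟨ext, hext⟩ := Cfsg.Agent.Lib.Helper8_MI2_EXT.exists_ext Q (perp2 Q v v') hcompl
  have hdimW5 : 5 ≤ finrank F ↥(perp2 Q v v') := by rw [hW.dim]; omega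
  have htrW : ∀ x y : ↥(perp2 Q v v'), resQ Q (perp2 Q v v') x ≠ 0 →
      resQ Q (perp2 Q v v') x = resQ Q (perp2 Q v v') y →
      ∃ g ∈ T (resQ Q (perp2 Q v v')), g x = y := fun x y hx hxy =>
    Cfsg.Agent.Lib.Helper58_MI3_TRNS.exists_mem_T_map_level (resQ Q (perp2 Q v v')) hW.nondeg hdimW5 hW.two_ne hx hxy
  have hloc := Cfsg.Agent.Lib.Helper74_MI3_DICHL.dichotomy_local Q hS hk hv hv' hvv' hW ext hext
    (fun S h1 h2 => sub_bound3 (resQ Q (perp2 Q v v')) hW hk S h1 h2)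
    (fun S h => Cfsg.Agent.Lib.Helper84_MI3_HYPORB.point_hyperplane_orbit3 (resQ Q (perp2 Q v v')) hW hk htrW S (Or.inr h))
    (fun ω S hSdef => Cfsg.Agent.Lib.Helper70_MI2_INJ.orbit_lower_bound_aux Q hv (perp2 Q v v')
      (fun w hw => ((Cfsg.Agent.Lib.Helper44_QuadClass.mem_perp Q v v').mp hw).1) ext hext ω S hSdef)
    Ω hΩ hn
  exact Cfsg.Agent.Lib.Helper55_MI3_DICHG.dichotomy_global Q hS hm Ω hΩ hv0 hv hloc

/-- MAIN (abstract): a nontrivial orbit of `T Q` has at least `Nmin3 m` points. -/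
theorem main_abstract3 [Finite F] [FiniteDimensional F V] (Q : QuadraticForm F V) {m : ℕ}
    (hS : OddSetting Q m) (hm : 3 ≤ m) (Ω : Set X) (hΩ : IsOrbit Q Ω) : Nmin3 m ≤ Ω.ncard := by
  by_contra hlt
  push Not at hlt
  have hdim : 5 ≤ finrank F V := by rw [hS.dim]; omega
  rcases dichotomy3 Q hS hm Ω hΩ hlt with hA | hB
  · -- case (A)
    obtain ⟨ω₁, hω₁, g₁, hg₁, hmove₁⟩ := hΩ.nontriv
    by_cases hfull : ∃ v₀ : V, v₀ ≠ 0 ∧ Q v₀ = 0 ∧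
        ∀ w : V, QuadraticMap.polar (⇑Q) v₀ w = 0 → E Q v₀ w • ω₁ = ω₁
    · obtain ⟨v₀, hv₀, hQv₀, hfix⟩ := hfull
      exact Cfsg.Agent.Lib.Helper47_MI3_HYPB.hypB3 Q hS hm ω₁ (fun v hv hQv => hA v hv hQv ω₁ hω₁) hv₀ hQv₀ hfix ⟨g₁, hg₁, hmove₁⟩
    · push Not at hfull
      refine Cfsg.Agent.Lib.Helper2_MI3_HYPA.hypA3 Q hS hm ω₁ (fun v hv hQv => hA v hv hQv ω₁ hω₁) ?_
      intro v hv hQv
      exact hfull v hv hQv
  · -- case (B)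
    have hreg := Cfsg.Agent.Lib.Helper47_MI3_REGA.all_reg_of_fixOrReg3 Q hS hm Ω hΩ hB
    have hn2 : Ω.ncard < 2 * 3 ^ (2 * m - 1) := lt_trans hlt (Nmin3_lt m (by omega))
    have htr : ∀ u u' : V, Q u = 0 → Q u' = 0 → QuadraticMap.polar (⇑Q) u u' = 1 →
        ∀ ω ∈ Ω, ∀ ω' ∈ Ω, ∃ w ∈ perp2 Q u u', E Q u w • ω = ω' := by
      intro u u' hu hu' huu'
      exact Cfsg.Agent.Lib.Helper64_MI3_REGB.transitive_of_all_reg3 Q hS hm Ω hΩ hn2 hreg hu hu' huu'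
    refine Cfsg.Agent.Lib.Helper2_MI3_REGC.regC3 Q hS hm Ω hΩ hreg htr ?_ ?_
    · intro e₁ f₁ e₂ f₂ he₁ hf₁ he₂ hf₂ h11 h22 h12 h12' h21 h21'
      exact Cfsg.Agent.Lib.Helper25_MI3_INVOL.exists_involution Q he₁ hf₁ he₂ hf₂ h11 h22 h12 h12' h21 h21'
    · intro u u' hu hu' huu' s hs c hc hsu hsW ω₀ hω₀ hfix
      have hu0 : u ≠ 0 := by
        rintro rfl
        simp [QuadraticMap.polar] at huu'
      exact Cfsg.Agent.Lib.Helper25_MI3_FIXCNT.card_fixed_eq Q hS.nondeg hdim Ω hΩ hu hu' huu'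
        (fun ω hω w hw h => hreg u hu0 hu ω hω w hw h) (htr u u' hu hu' huu') hs hc hsu hsW hω₀ hfix

end action

end Cfsg.Agent.Lib.Helper44_MI3Main
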