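import Mathlib
import Cfsg.Prelude.Def_Classical
import Cfsg.Prelude.Def_ClassicalGeometry
import Cfsg.Agent.Lib.Helper44_Refl
import Cfsg.Agent.Lib.Helper44_FinSq
import Cfsg.Agent.Lib.Helper44_Disc
import Cfsg.Agent.Lib.Helper44_ReflProd

set_option autoImplicit false

/-!
`-1` as a product of reflections in an orthogonal basis, and when `-1 ∈ Ω` (helper44).
-/

namespace Cfsg.Agent.Lib.Helper44_NegOne

open Cfsg Matrix Cfsg.Agent.Lib.Helper44_Refl Cfsg.Agent.Lib.Helper44_FinSq
  Cfsg.Agent.Lib.Helper44_ReflProd Cfsg.Agent.Lib.Helper44_Disc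

variable {ι : Type} [Fintype ι] [DecidableEq ι] {F : Type*} [Field F]

/-- Action of a product of reflections in pairwise orthogonal vectors on these vectors. -/
theorem prod_refl_orthogonal_mulVec (Q : QuadraticForm F (ι → F)) {k : ℕ} (v : Fin k → ι → F)
    (horth : ∀ i j, i ≠ j → QuadraticMap.polar (⇑Q) (v i) (v j) = 0) (hns : ∀ i, Q (v i) ≠ 0)
    (l : List (Fin k)) (j : Fin k) :
    ((l.map (fun i => Cfsg.reflectionMatrix (⇑Q) (v i))).prod) *ᵥ (v j)
      = ((-1 : F) ^ (l.count j)) • v j := by
  induction l with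
  | nil => simp
  | cons i l ih =>
    rw [List.map_cons, List.prod_cons, ← Matrix.mulVec_mulVec, ih, Matrix.mulVec_smul,
      reflectionMatrix_mulVec, List.count_cons]
    by_cases hij : i = j
    · subst hij
      rw [Helper44_Refl.polar_self]
      have : (Q (v i))⁻¹ * (2 * Q (v i)) = 2 := by
        have := hns i
        field_simp
      rw [this]
      simp only [beq_self_eq_true, if_true, pow_succ]
      rw [two_smul]
      funext x
      simp only [Pi.smul_apply, Pi.sub_apply, Pi.add_apply, smul_eq_mul]
      ring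
    · rw [horth i j hij]
      have : (i == j) = false := by simpa using hij
      simp [this]

/-- Over a field of odd characteristic a non-degenerate quadratic form has an orthogonal basis of
non-singular vectors, and `-1` is the product of the corresponding reflections. -/
theorem exists_orthogonal_basis_refl (Q : QuadraticForm F (ι → F)) (h2 : (2 : F) ≠ 0)
    (hQ : (QuadraticMap.polarBilin Q).Nondegenerate) :
    ∃ v : Module.Basis (Fin (Module.finrank F (ι → F))) F (ι → F),
      (∀ i j, i ≠ j → QuadraticMap.polar (⇑Q) (v i) (v j) = 0) ∧ (∀ i, Q (v i) ≠ 0) ∧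
      IsReflProd Q (-1) (Module.finrank F (ι → F)) (∏ i, Q (v i)) := by
  have : Invertible (2 : F) := invertibleOfNonzero h2
  have hsymm : LinearMap.BilinForm.IsSymm (QuadraticMap.polarBilin Q) := by
    rw [LinearMap.BilinForm.isSymm_def]
    intro x y
    simp only [QuadraticMap.polarBilin_apply_apply]
    exact QuadraticMap.polar_comm _ _ _
  obtain ⟨v, hv⟩ := LinearMap.BilinForm.exists_orthogonal_basis
    (LinearMap.BilinForm.isSymm_iff.mp hsymm)
  have horth : ∀ i j, i ≠ j → QuadraticMap.polar (⇑Q) (v i) (v j) = 0 := by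
    intro i j hij
    have := hv hij
    simpa [Function.onFun] using this
  have hns : ∀ i, Q (v i) ≠ 0 := by
    intro i hi
    have h1 := hv.not_isOrtho_basis_self_of_separatingLeft hQ.1 i
    apply h1
    rw [QuadraticMap.polarBilin_apply_apply, Helper44_Refl.polar_self, hi, mul_zero]
  refine ⟨v, horth, hns, ?_⟩
  refine ⟨(List.finRange _).map v, ?_, ?_, ?_, ?_⟩
  · intro u hu
    rw [List.mem_map] at hu
    obtain ⟨i, _, rfl⟩ := hu
    exact hns i
  · rw [List.map_map]
    apply matrix_ext_mulVec
    -- check on the basis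
    have key : ∀ j, ((List.map ((fun u => Cfsg.reflectionMatrix (⇑Q) u) ∘ ⇑v) (List.finRange _)).prod) *ᵥ (v j)
        = (-1 : Matrix ι ι F) *ᵥ (v j) := by
      intro j
      have := prod_refl_orthogonal_mulVec Q (fun i => v i) horth hns (List.finRange _) j
      have hc : (List.finRange (Module.finrank F (ι → F))).count j = 1 :=
        List.count_eq_one_of_mem (List.nodup_finRange _) (List.mem_finRange j)
      rw [hc] at this
      rw [Matrix.neg_mulVec, Matrix.one_mulVec]
      have e : ((fun u => Cfsg.reflectionMatrix (⇑Q) u) ∘ ⇑v)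
          = (fun i => Cfsg.reflectionMatrix (⇑Q) (v i)) := rfl
      rw [e, this]
      simp
    intro x
    have hlin : Matrix.mulVecLin (-1 : Matrix ι ι F)
        = Matrix.mulVecLin ((List.map ((fun u => Cfsg.reflectionMatrix (⇑Q) u) ∘ ⇑v) (List.finRange _)).prod) := by
      apply v.ext
      intro j
      simp only [Matrix.mulVecLin_apply]
      exact (key j).symm
    have := congrArg (fun f => f x) hlin
    simpa only [Matrix.mulVecLin_apply] using this
  · simp
  · rw [List.map_map, Fin.prod_univ_def]
    rfl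

/-- `-1 ∈ Ω(Q)` iff the discriminant is a square (even dimension, odd characteristic). -/
theorem neg_one_mem_omega_iff [Fintype F] (Q : QuadraticForm F (ι → F)) (h2 : (2 : F) ≠ 0)
    (hQ : (QuadraticMap.polarBilin Q).Nondegenerate) (he : Even (Fintype.card ι)) :
    (∃ g : ↥(Cfsg.isometryGroup F (⇑Q)), g ∈ Cfsg.Omega F (⇑Q) ∧
      ((g : Matrix.GeneralLinearGroup ι F) : Matrix ι ι F) = -1) ↔
    IsSquare (Matrix.of (fun i j : ι =>
      QuadraticMap.polar (⇑Q) (Pi.single i 1) (Pi.single j 1))).det := by
  obtain ⟨v, horth, hns, hrp⟩ := exists_orthogonal_basis_refl Q h2 hQ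
  rw [hrp.exists_mem_omega_iff h2]
  have hk : Module.finrank F (ι → F) = Fintype.card ι := Module.finrank_fintype_fun_eq_card F
  have hek : Even (Module.finrank F (ι → F)) := hk ▸ he
  have hstd : IsSquare (Matrix.of (fun i j : ι =>
      QuadraticMap.polar (⇑Q) (Pi.single i 1) (Pi.single j 1))).det ↔
      IsSquare (Matrix.of (fun i j : Fin (Module.finrank F (ι → F)) =>
        QuadraticMap.polar (⇑Q) (v i) (v j))).det := by
    have := isSquare_polar_gram_det_iff Q v (Pi.basisFun F ι)
    simp only [Pi.basisFun_apply] at this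
    exact this.symm
  rw [hstd]
  have hgram : Matrix.of (fun i j : Fin (Module.finrank F (ι → F)) =>
      QuadraticMap.polar (⇑Q) (v i) (v j)) = Matrix.diagonal (fun i => 2 * Q (v i)) := by
    ext i j
    by_cases hij : i = j
    · subst hij
      simp
    · simp [Matrix.diagonal_apply_ne _ hij, horth i j hij]
  rw [hgram, Matrix.det_diagonal, Finset.prod_mul_distrib, Finset.prod_const, Finset.card_univ,
    Fintype.card_fin, mul_comm]
  obtain ⟨t, ht⟩ := hek
  have hsq : IsSquare ((2 : F) ^ Module.finrank F (ι → F)) := by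
    rw [ht]; exact ⟨2 ^ t, by rw [pow_add]⟩
  have hne : (2 : F) ^ Module.finrank F (ι → F) ≠ 0 := pow_ne_zero _ h2
  rw [isSquare_mul_sq_iff hne hsq]
  constructor
  · exact fun h => h.2
  · exact fun h => ⟨⟨t, ht⟩, h⟩

end Cfsg.Agent.Lib.Helper44_NegOne
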