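import Mathlib
import Cfsg.Agent.Lib.Helper41_SL2

set_option autoImplicit false

/-!
The norm form `a² - ab + b²` of `F_q(ω)`, `ω² + ω + 1 = 0`, over a finite field with `q ≡ 2 (mod 3)` elements (helper44):
it takes the value `0` only at `0` and every non-zero value exactly `q + 1` times.
-/

namespace Cfsg.Agent.Lib.Helper44_NormCount

open QuadraticAlgebra Polynomial Cfsg.Agent.Lib.Helper41_SL2

variable {F : Type*} [Field F] [Fintype F]

theorem three_ne_zero (hq : Fintype.card F % 3 = 2) : (3 : F) ≠ 0 := by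
  intro h3
  obtain ⟨p, hp⟩ := CharP.exists F
  have hprime : p.Prime := CharP.char_is_prime F p
  have hdvd : p ∣ 3 := by
    have : ((3 : ℕ) : F) = 0 := by exact_mod_cast h3
    exact (CharP.cast_eq_zero_iff F p 3).mp this
  have hp3 : p = 3 := (Nat.prime_dvd_prime_iff_eq hprime Nat.prime_three).mp hdvd
  subst hp3
  obtain ⟨n, -, hn⟩ := FiniteField.card F 3
  rw [hn] at hq
  have : 3 ∣ 3 ^ (n : ℕ) := dvd_pow_self 3 n.ne_zero
  omega

/-- No primitive cube roots of unity when `q ≡ 2 (mod 3)`. -/
theorem no_cube_root (hq : Fintype.card F % 3 = 2) : ∀ r : F, r ^ 2 ≠ (-1) + (-1) * r := by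
  intro r hr
  have h1 : r ^ 2 + r + 1 = 0 := by rw [hr]; ring
  have h3 : r ^ 3 = 1 := by
    have : r ^ 3 - 1 = (r - 1) * (r ^ 2 + r + 1) := by ring
    rw [h1, mul_zero] at this
    exact sub_eq_zero.mp this
  have hr0 : r ≠ 0 := by
    rintro rfl
    simp at h1
  have h4 : r ^ (Fintype.card F - 1) = 1 := FiniteField.pow_card_sub_one_eq_one r hr0
  have hq1 : (Fintype.card F - 1) % 3 = 1 := by omega
  have h5 : r ^ (Fintype.card F - 1) = r := by
    conv_lhs => rw [← Nat.div_add_mod (Fintype.card F - 1) 3, hq1, pow_add, pow_mul, h3, one_pow,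
      one_mul, pow_one]
  rw [h4] at h5
  rw [← h5] at h1
  apply three_ne_zero hq
  have : (3 : F) = 1 ^ 2 + 1 + 1 := by norm_num
  rw [this, h1]

/-- **Value distribution of the norm form.** -/
theorem card_norm_fibre [DecidableEq F] (hq : Fintype.card F % 3 = 2) (c : F) :
    Nat.card {p : F × F // p.1 * p.1 - p.1 * p.2 + p.2 * p.2 = c} =
      if c = 0 then 1 else Fintype.card F + 1 := by
  classical
  have : Fact (∀ r : F, r ^ 2 ≠ (-1) + (-1) * r) := ⟨no_cube_root hq⟩
  set q := Fintype.card F with hqdef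
  have hfin := finite_quad (F := F) (-1) (-1)
  have : Fintype (QuadraticAlgebra F (-1) (-1)) := Fintype.ofFinite _
  have hcardK : Fintype.card (QuadraticAlgebra F (-1) (-1)) = q ^ 2 := by
    rw [← Nat.card_eq_fintype_card, natCard_quad]
  -- transfer to the quadratic algebra
  have e : {p : F × F // p.1 * p.1 - p.1 * p.2 + p.2 * p.2 = c} ≃
      {z : QuadraticAlgebra F (-1) (-1) // QuadraticAlgebra.norm z = c} :=
    { toFun := fun p => ⟨⟨p.1.1, p.1.2⟩, by
        rw [QuadraticAlgebra.norm_def]
        have := p.2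
        simp only
        linear_combination this⟩
      invFun := fun z => ⟨(z.1.re, z.1.im), by
        have := z.2
        rw [QuadraticAlgebra.norm_def] at this
        simp only
        linear_combination this⟩
      left_inv := fun p => rfl
      right_inv := fun z => rfl }
  rw [Nat.card_congr e, Nat.card_eq_fintype_card, Fintype.card_subtype]
  -- counts
  set n : F → ℕ := fun d =>
    (Finset.univ.filter (fun z : QuadraticAlgebra F (-1) (-1) => QuadraticAlgebra.norm z = d)).card with hn
  show n c = _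
  have hn0 : n 0 = 1 := by
    rw [hn]
    simp only [QuadraticAlgebra.norm_eq_zero_iff_eq_zero]
    rw [Finset.filter_eq', if_pos (Finset.mem_univ _), Finset.card_singleton]
  have hle : ∀ d : F, n d ≤ q + 1 := by
    intro d
    have hsub : Finset.univ.filter (fun z : QuadraticAlgebra F (-1) (-1) => QuadraticAlgebra.norm z = d)
        ⊆ (nthRoots (q + 1) (QuadraticAlgebra.C d : QuadraticAlgebra F (-1) (-1))).toFinset := by
      intro z hz
      rw [Finset.mem_filter] at hz
      rw [Multiset.mem_toFinset, mem_nthRoots (Nat.succ_pos q), pow_card_add_one, hz.2]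
    calc n d ≤ (nthRoots (q + 1) (QuadraticAlgebra.C d : QuadraticAlgebra F (-1) (-1))).toFinset.card :=
          Finset.card_le_card hsub
      _ ≤ Multiset.card (nthRoots (q + 1) (QuadraticAlgebra.C d : QuadraticAlgebra F (-1) (-1))) :=
          Multiset.toFinset_card_le _
      _ ≤ q + 1 := card_nthRoots _ _
  have hsum : ∑ d : F, n d = q ^ 2 := by
    rw [← hcardK, ← Finset.card_univ]
    exact (Finset.card_eq_sum_card_fiberwise (fun z _ => Finset.mem_univ _)).symm
  by_cases hc : c = 0
  · rw [if_pos hc, hc, hn0]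
  · rw [if_neg hc]
    -- all non-zero fibres are full
    have hsum' : ∑ d ∈ Finset.univ.erase (0 : F), n d = q ^ 2 - 1 := by
      rw [← Finset.add_sum_erase Finset.univ n (Finset.mem_univ (0 : F)), hn0] at hsum
      omega
    have hcard' : (Finset.univ.erase (0 : F)).card = q - 1 := by
      rw [Finset.card_erase_of_mem (Finset.mem_univ _), Finset.card_univ]
    have hq2 : 2 ≤ q := Fintype.one_lt_card
    have hfac : q ^ 2 - 1 = (q - 1) * (q + 1) := by
      obtain ⟨k, hk⟩ : ∃ k, q = k + 1 := ⟨q - 1, by omega⟩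
      rw [hk]
      have e : (k + 1) ^ 2 = (k + 1 - 1) * (k + 1 + 1) + 1 := by
        simp only [Nat.add_sub_cancel]
        ring
      rw [e, Nat.add_sub_cancel]
    by_contra hne
    have hlt : n c < q + 1 := lt_of_le_of_ne (hle c) hne
    have hcmem : c ∈ Finset.univ.erase (0 : F) := Finset.mem_erase.mpr ⟨hc, Finset.mem_univ _⟩
    have : ∑ d ∈ Finset.univ.erase (0 : F), n d < ∑ d ∈ Finset.univ.erase (0 : F), (q + 1) :=
      Finset.sum_lt_sum (fun d _ => hle d) ⟨c, hcmem, hlt⟩
    rw [Finset.sum_const, hcard', smul_eq_mul, hsum', hfac] at this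
    exact lt_irrefl _ this

end Cfsg.Agent.Lib.Helper44_NormCount
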