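import Mathlib
import Cfsg.Agent.Lib.Helper44_OCount
import Cfsg.Agent.Lib.Helper44_Inv2Conj
import Cfsg.Agent.Lib.Helper44_Index
import Cfsg.Agent.Lib.Helper44_Omega2
import Cfsg.Agent.Lib.Helper44_WittMat

set_option autoImplicit false
set_option linter.unusedSectionVars false

/-!
Involutions of `Ω` in characteristic two, all dimensions (helper44): membership (`t ∈ Ω` iff `rank (t - 1)` even),
the class bit of maximal totally singular subspaces, `Ω`-conjugacy of `O`-conjugate involutions, and the number of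
classes of involutions of `Ω⁺_{2m}(q)`.
-/

namespace Cfsg.Agent.Lib.Helper44_OmegaCount

open Cfsg Matrix Module Cfsg.Agent.Lib.Helper44_Orth Cfsg.Agent.Lib.Helper44_Refl
  Cfsg.Agent.Lib.Helper44_Spinor Cfsg.Agent.Lib.Helper14_CartanDieudonne
  Cfsg.Agent.Lib.Helper44_Inv2 Cfsg.Agent.Lib.Helper44_Inv2Class Cfsg.Agent.Lib.Helper44_Inv2Conj
  Cfsg.Agent.Lib.Helper44_InvCount Cfsg.Agent.Lib.Helper44_SpCount
  Cfsg.Agent.Lib.Helper44_StdForms Cfsg.Agent.Lib.Helper44_OCount
  Cfsg.Agent.Lib.Helper44_WittMat Cfsg.Agent.Lib.Helper44_Index Cfsg.Agent.Lib.Helper44_Omega2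
  Cfsg.Agent.Lib.Helper44_OmegaAll

section generic

variable {ι : Type} [Fintype ι] [DecidableEq ι] {F : Type*} [Field F] [Fintype F]

omit [Fintype F] in
/-- `T` fixes the image of `T - 1` pointwise (characteristic two involution). -/
theorem T_fix_range (h2 : (2 : F) = 0) {T : Matrix ι ι F} (hTT : T * T = 1) (y : ι → F) :
    T *ᵥ ((T - 1) *ᵥ y) = (T - 1) *ᵥ y := by
  have := N_N_apply h2 hTT y
  rw [N_apply] at this
  exact sub_eq_zero.mp this

/-- An alternating-type involution whose image is a maximal totally singular subspace lies in `Ω`. -/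
theorem alt_top_mem_omega (h2 : (2 : F) = 0) (Q : QuadraticForm F (ι → F))
    (hQ : (QuadraticMap.polarBilin Q).Nondegenerate)
    (hex : Fintype.card F ≠ 2 ∨ Fintype.card ι ≠ 4) {m : ℕ} (hV : Fintype.card ι = 2 * m)
    (t : ↥(Cfsg.isometryGroup F (⇑Q))) (htt : t * t = 1)
    (halt : ∀ v, Q ((((t : Matrix.GeneralLinearGroup ι F) : Matrix ι ι F) - 1) *ᵥ v) = 0)
    (hr : (((t : Matrix.GeneralLinearGroup ι F) : Matrix ι ι F) - 1).rank = m) :
    t ∈ Cfsg.Omega F (⇑Q) := by
  have hTT : ((t : Matrix.GeneralLinearGroup ι F) : Matrix ι ι F)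
      * ((t : Matrix.GeneralLinearGroup ι F) : Matrix ι ι F) = 1 := by
    have := congrArg (fun g : ↥(Cfsg.isometryGroup F (⇑Q)) =>
      ((g : Matrix.GeneralLinearGroup ι F) : Matrix ι ι F)) htt
    exact this
  rw [mem_omega_iff_parity h2 Q hQ hex hV
    (LinearMap.range (((t : Matrix.GeneralLinearGroup ι F) : Matrix ι ι F) - 1).mulVecLin)
    (by rintro _ ⟨x, rfl⟩; exact halt x) hr t]
  have hmap : (LinearMap.range (((t : Matrix.GeneralLinearGroup ι F) : Matrix ι ι F) - 1).mulVecLin).map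
      (Matrix.mulVecLin ((t : Matrix.GeneralLinearGroup ι F) : Matrix ι ι F))
      = LinearMap.range (((t : Matrix.GeneralLinearGroup ι F) : Matrix ι ι F) - 1).mulVecLin := by
    apply map_eq_of_le (t : Matrix.GeneralLinearGroup ι F)
    rintro _ ⟨y, rfl⟩
    rw [Matrix.mulVecLin_apply, T_fix_range h2 hTT]
    exact ⟨y, rfl⟩
  rw [hmap, inf_idem]
  have : finrank F ↥(LinearMap.range
      (((t : Matrix.GeneralLinearGroup ι F) : Matrix ι ι F) - 1).mulVecLin) = m := hr
  rw [this, Nat.sub_self]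
  exact Even.zero

/-- **Involutions in `Ω`, characteristic two, all even dimensions** (outside `O₄(2)`). -/
theorem involution_mem_omega_iff_all (h2 : (2 : F) = 0) (Q : QuadraticForm F (ι → F))
    (hQ : (QuadraticMap.polarBilin Q).Nondegenerate)
    (hex : Fintype.card F ≠ 2 ∨ Fintype.card ι ≠ 4) {m : ℕ} (hV : Fintype.card ι = 2 * m) :
    ∀ r : ℕ, ∀ t : ↥(Cfsg.isometryGroup F (⇑Q)), t * t = 1 →
      (((t : Matrix.GeneralLinearGroup ι F) : Matrix ι ι F) - 1).rank = r →
      (t ∈ Cfsg.Omega F (⇑Q) ↔ Even r) := by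
  intro r
  induction r using Nat.strong_induction_on with
  | _ r ih =>
    intro t htt hr
    by_cases hn : 5 ≤ Fintype.card ι
    · rw [← hr]
      exact involution_mem_omega_iff h2 Q hQ hn t htt
    have hTT : ((t : Matrix.GeneralLinearGroup ι F) : Matrix ι ι F)
        * ((t : Matrix.GeneralLinearGroup ι F) : Matrix ι ι F) = 1 := by
      have := congrArg (fun g : ↥(Cfsg.isometryGroup F (⇑Q)) =>
        ((g : Matrix.GeneralLinearGroup ι F) : Matrix ι ι F)) htt
      exact this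
    have hT := isIsom_of_mem Q t
    have hle := two_rank_le h2 hTT
    by_cases halt : ∀ v, Q ((((t : Matrix.GeneralLinearGroup ι F) : Matrix ι ι F) - 1) *ᵥ v) = 0
    · have hev := even_rank_of_alt_O Q hQ h2 hT hTT halt
      rw [hr] at hev
      refine ⟨fun _ => hev, fun _ => ?_⟩
      by_cases hr0 : r = 0
      · have h1 : ((t : Matrix.GeneralLinearGroup ι F) : Matrix ι ι F) = 1 := by
          by_contra hne
          have := rank_pos_of_ne_one hne
          omega
        have : t = 1 := by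
          apply Subtype.ext
          apply Units.ext
          exact h1
        rw [this]
        exact Subgroup.one_mem _
      · obtain ⟨k, hk⟩ := hev
        exact alt_top_mem_omega h2 Q hQ hex hV t htt halt (by omega)
    · push Not at halt
      obtain ⟨x₀, hw⟩ := halt
      obtain ⟨h1, h3, h4⟩ := stepA Q h2 hT hTT x₀ hw
      set w := (((t : Matrix.GeneralLinearGroup ι F) : Matrix ι ι F) - 1) *ᵥ x₀ with hwdef
      have hcoe : (((reflT Q w * t : ↥(Cfsg.isometryGroup F (⇑Q))) : Matrix.GeneralLinearGroup ι F) :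
          Matrix ι ι F) = Cfsg.reflectionMatrix (⇑Q) w
            * ((t : Matrix.GeneralLinearGroup ι F) : Matrix ι ι F) := by
        rw [← reflT_coe Q w hw]
        rfl
      have htt' : (reflT Q w * t) * (reflT Q w * t) = 1 := by
        apply Subtype.ext
        apply Units.ext
        show (((reflT Q w * t : ↥(Cfsg.isometryGroup F (⇑Q))) : Matrix.GeneralLinearGroup ι F) :
          Matrix ι ι F) * (((reflT Q w * t : ↥(Cfsg.isometryGroup F (⇑Q))) :
            Matrix.GeneralLinearGroup ι F) : Matrix ι ι F) = 1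
        rw [hcoe]
        exact h3
      have hrk' : ((((reflT Q w * t : ↥(Cfsg.isometryGroup F (⇑Q))) : Matrix.GeneralLinearGroup ι F) :
          Matrix ι ι F) - 1).rank = r - 1 := by
        rw [hcoe]
        omega
      have hpos : 0 < r := by omega
      have ih' := ih (r - 1) (by omega) (reflT Q w * t) htt' hrk'
      have hidx := index_omega_two h2 Q hQ hex hw
      have hdecomp : t = reflT Q w * (reflT Q w * t) := by
        rw [← mul_assoc, reflT_mul_self, one_mul]
      have hrefl : reflT Q w ∉ Cfsg.Omega F (⇑Q) := by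
        have := prod_mem_omega_iff_even h2 Q hQ hex [w] (by simpa using hw)
        simp only [List.map_cons, List.map_nil, List.prod_cons, List.prod_nil, mul_one,
          List.length_cons, List.length_nil] at this
        rw [this]
        decide
      have hmul := Subgroup.mul_mem_iff_of_index_two hidx (a := reflT Q w) (b := reflT Q w * t)
      rw [← hdecomp] at hmul
      rw [hmul, ih']
      constructor
      · intro h
        by_contra hne
        have : Even (r - 1) := by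
          rcases Nat.even_or_odd r with he | ho
          · exact absurd he hne
          · obtain ⟨k, hk⟩ := ho
            exact ⟨k, by omega⟩
        exact hrefl (h.mpr this)
      · intro hev
        constructor
        · intro h; exact absurd h hrefl
        · intro h
          exfalso
          obtain ⟨k, hk⟩ := hev
          obtain ⟨k', hk'⟩ := h
          omega

/-- **Class bit.** Relative to a reference maximal totally singular subspace `U₀`, the parity class of `g U`
differs from that of `U` exactly when `g ∉ Ω`. -/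
theorem class_bit_map (h2 : (2 : F) = 0) (Q : QuadraticForm F (ι → F))
    (hQ : (QuadraticMap.polarBilin Q).Nondegenerate)
    (hex : Fintype.card F ≠ 2 ∨ Fintype.card ι ≠ 4) {m : ℕ} (hV : Fintype.card ι = 2 * m)
    (U₀ U : Submodule F (ι → F)) (hU₀0 : ∀ u ∈ U₀, Q u = 0) (hU₀m : finrank F ↥U₀ = m)
    (hU0 : ∀ u ∈ U, Q u = 0) (hUm : finrank F ↥U = m) {v₀ : ι → F} (hv₀ : Q v₀ ≠ 0)
    (g : ↥(Cfsg.isometryGroup F (⇑Q))) :
    Even (m - finrank F ↥(U₀ ⊓ U.map (Matrix.mulVecLin
      ((g : Matrix.GeneralLinearGroup ι F) : Matrix ι ι F)))) ↔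
      (Even (m - finrank F ↥(U₀ ⊓ U)) ↔ g ∈ Cfsg.Omega F (⇑Q)) := by
  obtain ⟨h, hh⟩ := exists_map_eq_of_ts Q hQ U₀ U (by rw [hU₀m, hUm]) hU₀0 hU0
  have p1 : h ∈ Cfsg.Omega F (⇑Q) ↔ Even (m - finrank F ↥(U₀ ⊓ U)) := by
    have := mem_omega_iff_parity h2 Q hQ hex hV U₀ hU₀0 hU₀m h
    rw [hh] at this
    exact this
  have hmap : U₀.map (Matrix.mulVecLin (((g * h : ↥(Cfsg.isometryGroup F (⇑Q))) :
      Matrix.GeneralLinearGroup ι F) : Matrix ι ι F))
      = U.map (Matrix.mulVecLin ((g : Matrix.GeneralLinearGroup ι F) : Matrix ι ι F)) := by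
    rw [submodule_map_mul, hh]
  have p2 : g * h ∈ Cfsg.Omega F (⇑Q) ↔ Even (m - finrank F ↥(U₀ ⊓ U.map (Matrix.mulVecLin
      ((g : Matrix.GeneralLinearGroup ι F) : Matrix ι ι F)))) := by
    have := mem_omega_iff_parity h2 Q hQ hex hV U₀ hU₀0 hU₀m (g * h)
    rw [hmap] at this
    exact this
  have p3 : g * h ∈ Cfsg.Omega F (⇑Q) ↔ (g ∈ Cfsg.Omega F (⇑Q) ↔ h ∈ Cfsg.Omega F (⇑Q)) :=
    Subgroup.mul_mem_iff_of_index_two (index_omega_two h2 Q hQ hex hv₀)
  generalize (g * h ∈ Cfsg.Omega F (⇑Q)) = A at p2 p3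
  generalize (h ∈ Cfsg.Omega F (⇑Q)) = B at p1 p3
  generalize (g ∈ Cfsg.Omega F (⇑Q)) = C at p3 ⊢
  generalize Even (m - finrank F ↥(U₀ ⊓ U)) = D at p1 ⊢
  generalize Even (m - finrank F ↥(U₀ ⊓ U.map (Matrix.mulVecLin
      ((g : Matrix.GeneralLinearGroup ι F) : Matrix ι ι F)))) = E at p2 ⊢
  tauto

/-- `O`-conjugate involutions of `Ω` are `Ω`-conjugate unless the image is a maximal totally singular subspace, in
which case they are `Ω`-conjugate when their class bits agree. -/
theorem omega_conj_of (h2 : (2 : F) = 0) (Q : QuadraticForm F (ι → F))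
    (hQ : (QuadraticMap.polarBilin Q).Nondegenerate)
    (hex : Fintype.card F ≠ 2 ∨ Fintype.card ι ≠ 4) {m : ℕ} (hV : Fintype.card ι = 2 * m)
    (U₀ : Submodule F (ι → F)) (hU₀0 : ∀ u ∈ U₀, Q u = 0) (hU₀m : finrank F ↥U₀ = m)
    {v₀ : ι → F} (hv₀ : Q v₀ ≠ 0)
    (t s g₀ : ↥(Cfsg.isometryGroup F (⇑Q))) (htt : t * t = 1) (hg₀ : g₀ * t * g₀⁻¹ = s)
    (hbit : ((((t : Matrix.GeneralLinearGroup ι F) : Matrix ι ι F) - 1).rank = m ∧
        ∀ v, Q ((((t : Matrix.GeneralLinearGroup ι F) : Matrix ι ι F) - 1) *ᵥ v) = 0) →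
      (Even (m - finrank F ↥(U₀ ⊓ LinearMap.range
          (((t : Matrix.GeneralLinearGroup ι F) : Matrix ι ι F) - 1).mulVecLin)) ↔
        Even (m - finrank F ↥(U₀ ⊓ LinearMap.range
          (((s : Matrix.GeneralLinearGroup ι F) : Matrix ι ι F) - 1).mulVecLin)))) :
    ∃ g ∈ Cfsg.Omega F (⇑Q), g * t * g⁻¹ = s := by
  have hTT : ((t : Matrix.GeneralLinearGroup ι F) : Matrix ι ι F)
      * ((t : Matrix.GeneralLinearGroup ι F) : Matrix ι ι F) = 1 := by
    have := congrArg (fun g : ↥(Cfsg.isometryGroup F (⇑Q)) =>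
      ((g : Matrix.GeneralLinearGroup ι F) : Matrix ι ι F)) htt
    exact this
  have hT := isIsom_of_mem Q t
  by_cases hcase : (((t : Matrix.GeneralLinearGroup ι F) : Matrix ι ι F) - 1).rank = m ∧
      ∀ v, Q ((((t : Matrix.GeneralLinearGroup ι F) : Matrix ι ι F) - 1) *ᵥ v) = 0
  · have hb := hbit hcase
    rw [range_conj (⇑Q) g₀ t s hg₀] at hb
    have hcb := class_bit_map h2 Q hQ hex hV U₀
      (LinearMap.range (((t : Matrix.GeneralLinearGroup ι F) : Matrix ι ι F) - 1).mulVecLin)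
      hU₀0 hU₀m (by rintro _ ⟨x, rfl⟩; exact hcase.2 x) hcase.1 hv₀ g₀
    refine ⟨g₀, ?_, hg₀⟩
    tauto
  · by_contra hno
    have hfix : ∀ v, ((t : Matrix.GeneralLinearGroup ι F) : Matrix ι ι F) *ᵥ v = v → Q v = 0 := by
      intro v hTv
      by_contra hv
      exact hno (conj_in_omega_of_fixed_nonsingular h2 Q hQ hex t s g₀ hg₀ hv hTv)
    obtain ⟨hr, hts⟩ := rank_of_fixed_singular Q hQ h2 hT hTT hfix
    exact hcase ⟨by omega, hts⟩

end generic

/-! ### Plus type -/

section plus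

variable {m : ℕ} {F : Type*} [Field F]

/-- The reference maximal totally singular subspace: vectors supported on the `x`-coordinates. -/
def U0 : Submodule F (Fin m ⊕ Fin m → F) := LinearMap.range (inlEmb (n := Fin m) (F := F))

theorem U0_singular (u : Fin m ⊕ Fin m → F) (hu : u ∈ U0 (m := m) (F := F)) : qfPlus m F u = 0 := by
  obtain ⟨w, rfl⟩ := hu
  show (⇑(qfPlus m F)) (inlEmb w) = 0
  rw [coe_qfPlus]
  simp [Cfsg.quadFormPlus, inlEmb]

theorem finrank_U0 : finrank F ↥(U0 (m := m) (F := F)) = m := by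
  rw [U0, LinearMap.finrank_range_of_inj inlEmb_injective]
  simp

theorem range_upper_sub_one (A : Matrix (Fin m) (Fin m) F) :
    LinearMap.range (upper A - 1).mulVecLin
      = (LinearMap.range A.mulVecLin).map (inlEmb (n := Fin m) (F := F)) := by
  ext w
  constructor
  · rintro ⟨v, rfl⟩
    refine ⟨A *ᵥ (v ∘ Sum.inr), ⟨v ∘ Sum.inr, rfl⟩, ?_⟩
    rw [Matrix.mulVecLin_apply, upper_sub_one_mulVec]
    rfl
  · rintro ⟨_, ⟨y, rfl⟩, rfl⟩
    refine ⟨Sum.elim 0 y, ?_⟩
    rw [Matrix.mulVecLin_apply, upper_sub_one_mulVec, Matrix.mulVecLin_apply]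
    rfl

theorem range_upper_Am_top (h2 : (2 : F) = 0) (hev : Even m) :
    LinearMap.range (upper (Am (m := m) (F := F) m) - 1).mulVecLin = U0 := by
  rw [range_upper_sub_one, U0]
  have htop : LinearMap.range (Am (m := m) (F := F) m).mulVecLin = ⊤ := by
    apply Submodule.eq_top_of_finrank_eq
    have h1 : (Am (m := m) (F := F) m).rank
        = finrank F ↥(LinearMap.range (Am (m := m) (F := F) m).mulVecLin) := rfl
    rw [← h1, rank_Am h2 le_rfl hev]
    simp
  rw [htop, Submodule.map_top]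

/-- The `Ω`-conjugacy invariant of an involution: rank, type and (for maximal alternating type) the class bit. -/
noncomputable def omInv (t : ↥(Cfsg.isometryGroup F (⇑(qfPlus m F)))) : ℕ × Prop × Prop :=
  ((((t : Matrix.GeneralLinearGroup (Fin m ⊕ Fin m) F) : Matrix (Fin m ⊕ Fin m) (Fin m ⊕ Fin m) F) - 1).rank,
    (∀ v, qfPlus m F ((((t : Matrix.GeneralLinearGroup (Fin m ⊕ Fin m) F) :
      Matrix (Fin m ⊕ Fin m) (Fin m ⊕ Fin m) F) - 1) *ᵥ v) = 0),
    ((((t : Matrix.GeneralLinearGroup (Fin m ⊕ Fin m) F) : Matrix (Fin m ⊕ Fin m) (Fin m ⊕ Fin m) F) - 1).rank = m ∧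
      (∀ v, qfPlus m F ((((t : Matrix.GeneralLinearGroup (Fin m ⊕ Fin m) F) :
        Matrix (Fin m ⊕ Fin m) (Fin m ⊕ Fin m) F) - 1) *ᵥ v) = 0) ∧
      Even (m - finrank F ↥(U0 (m := m) (F := F) ⊓ LinearMap.range
        (((t : Matrix.GeneralLinearGroup (Fin m ⊕ Fin m) F) :
          Matrix (Fin m ⊕ Fin m) (Fin m ⊕ Fin m) F) - 1).mulVecLin))))

theorem omInv_eq_iff (t s : ↥(Cfsg.isometryGroup F (⇑(qfPlus m F)))) :
    omInv t = omInv s ↔ oInv (qfPlus m F) t = oInv (qfPlus m F) s ∧ ((omInv t).2.2 ↔ (omInv s).2.2) := by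
  constructor
  · intro h
    have h1 : (omInv t).1 = (omInv s).1 := congrArg Prod.fst h
    have h3 : (omInv t).2.1 = (omInv s).2.1 := congrArg (fun x => x.2.1) h
    have h4 : (omInv t).2.2 = (omInv s).2.2 := congrArg (fun x => x.2.2) h
    exact ⟨Prod.ext h1 h3, Iff.of_eq h4⟩
  · rintro ⟨h1, h3⟩
    have h4 : (oInv (qfPlus m F) t).1 = (oInv (qfPlus m F) s).1 := congrArg Prod.fst h1
    have h5 : (oInv (qfPlus m F) t).2 = (oInv (qfPlus m F) s).2 := congrArg Prod.snd h1
    exact Prod.ext h4 (Prod.ext h5 (propext h3))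

variable [Fintype F]

/-- A non-singular vector of the hyperbolic space (`m ≥ 1`). -/
theorem exists_nonsingular_plus (hm : 1 ≤ m) : ∃ v₀ : Fin m ⊕ Fin m → F, qfPlus m F v₀ ≠ 0 := by
  have := swapM_nonalt (m := m) (F := F) (s := 1) (by omega) hm
  push Not at this
  obtain ⟨v, hv⟩ := this
  exact ⟨_, hv⟩

theorem card_plus_index : Fintype.card (Fin m ⊕ Fin m) = 2 * m := by
  simp [Fintype.card_sum]; ring

theorem omInv_conj (h2 : (2 : F) = 0) (hm : 1 ≤ m) (hex : Fintype.card F ≠ 2 ∨ m ≠ 2)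
    (g h : ↥(Cfsg.Omega F (⇑(qfPlus m F)))) (hgh : IsConj g h) :
    omInv (g : ↥(Cfsg.isometryGroup F (⇑(qfPlus m F)))) = omInv (h : ↥(Cfsg.isometryGroup F (⇑(qfPlus m F)))) := by
  have hQ := Cfsg.Agent.Lib.Helper44_Levi.nondegenerate_qfPlus (m := m) (F := F)
  have hex' : Fintype.card F ≠ 2 ∨ Fintype.card (Fin m ⊕ Fin m) ≠ 4 := by
    rw [card_plus_index]
    rcases hex with h | h
    · exact Or.inl h
    · exact Or.inr (by omega)
  obtain ⟨v₀, hv₀⟩ := exists_nonsingular_plus (F := F) hm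
  obtain ⟨c, hc'⟩ := isConj_iff.mp hgh
  have hc : (c : ↥(Cfsg.isometryGroup F (⇑(qfPlus m F)))) * g * (c : ↥(Cfsg.isometryGroup F (⇑(qfPlus m F))))⁻¹ = h := by
    have := congrArg (fun x : ↥(Cfsg.Omega F (⇑(qfPlus m F))) => (x : ↥(Cfsg.isometryGroup F (⇑(qfPlus m F))))) hc'
    exact this
  have hO : oInv (qfPlus m F) (g : ↥(Cfsg.isometryGroup F (⇑(qfPlus m F))))
      = oInv (qfPlus m F) (h : ↥(Cfsg.isometryGroup F (⇑(qfPlus m F)))) :=
    oInv_conj (qfPlus m F) h2 _ _ (isConj_iff.mpr ⟨c, hc⟩)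
  rw [omInv_eq_iff]
  refine ⟨hO, ?_⟩
  have hr : (oInv (qfPlus m F) (g : ↥(Cfsg.isometryGroup F (⇑(qfPlus m F))))).1
      = (oInv (qfPlus m F) (h : ↥(Cfsg.isometryGroup F (⇑(qfPlus m F))))).1 := congrArg Prod.fst hO
  have ha : (oInv (qfPlus m F) (g : ↥(Cfsg.isometryGroup F (⇑(qfPlus m F))))).2
      ↔ (oInv (qfPlus m F) (h : ↥(Cfsg.isometryGroup F (⇑(qfPlus m F))))).2 :=
    Iff.of_eq (congrArg Prod.snd hO)
  simp only [oInv] at hr ha
  simp only [omInv]
  by_cases hcase : (((g : ↥(Cfsg.isometryGroup F (⇑(qfPlus m F)))) : Matrix.GeneralLinearGroup (Fin m ⊕ Fin m) F).1 - 1).rank = m ∧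
      ∀ v, qfPlus m F ((((g : ↥(Cfsg.isometryGroup F (⇑(qfPlus m F)))) : Matrix.GeneralLinearGroup (Fin m ⊕ Fin m) F).1 - 1) *ᵥ v) = 0
  · have hcb := class_bit_map h2 (qfPlus m F) hQ hex' card_plus_index U0
      (LinearMap.range (((g : ↥(Cfsg.isometryGroup F (⇑(qfPlus m F)))) : Matrix.GeneralLinearGroup (Fin m ⊕ Fin m) F).1 - 1).mulVecLin)
      U0_singular finrank_U0 (by rintro _ ⟨x, rfl⟩; exact hcase.2 x) hcase.1 hv₀
      (c : ↥(Cfsg.isometryGroup F (⇑(qfPlus m F))))
    rw [← range_conj (⇑(qfPlus m F)) _ _ _ hc] at hcb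
    have hcΩ : (c : ↥(Cfsg.isometryGroup F (⇑(qfPlus m F)))) ∈ Cfsg.Omega F (⇑(qfPlus m F)) := c.2
    have hcase' := hcase
    rw [hr, ha] at hcase'
    constructor
    · rintro ⟨-, -, hb⟩
      exact ⟨hcase'.1, hcase'.2, hcb.mpr ⟨fun _ => hcΩ, fun _ => hb⟩⟩
    · rintro ⟨-, -, hb⟩
      exact ⟨hcase.1, hcase.2, (hcb.mp hb).mpr hcΩ⟩
  · have hcase' := hcase
    rw [hr, ha] at hcase'
    constructor
    · rintro ⟨h1, h3, -⟩
      exact absurd ⟨h1, h3⟩ hcase
    · rintro ⟨h1, h3, -⟩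
      exact absurd ⟨h1, h3⟩ hcase'

theorem isConj_of_omInv (h2 : (2 : F) = 0) (hm : 1 ≤ m) (hex : Fintype.card F ≠ 2 ∨ m ≠ 2)
    (g h : ↥(Cfsg.Omega F (⇑(qfPlus m F)))) (hg : orderOf g = 2) (hh : orderOf h = 2)
    (hI : omInv (g : ↥(Cfsg.isometryGroup F (⇑(qfPlus m F))))
      = omInv (h : ↥(Cfsg.isometryGroup F (⇑(qfPlus m F))))) : IsConj g h := by
  have hQ := Cfsg.Agent.Lib.Helper44_Levi.nondegenerate_qfPlus (m := m) (F := F)
  have hex' : Fintype.card F ≠ 2 ∨ Fintype.card (Fin m ⊕ Fin m) ≠ 4 := by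
    rw [card_plus_index]
    rcases hex with h | h
    · exact Or.inl h
    · exact Or.inr (by omega)
  obtain ⟨v₀, hv₀⟩ := exists_nonsingular_plus (F := F) hm
  rw [omInv_eq_iff] at hI
  obtain ⟨hO, hbit⟩ := hI
  have hg' : orderOf (g : ↥(Cfsg.isometryGroup F (⇑(qfPlus m F)))) = 2 := by
    rw [Subgroup.orderOf_coe]; exact hg
  have hh' : orderOf (h : ↥(Cfsg.isometryGroup F (⇑(qfPlus m F)))) = 2 := by
    rw [Subgroup.orderOf_coe]; exact hh
  obtain ⟨g₀, hg₀'⟩ := isConj_iff.mp (isConj_of_oInv (qfPlus m F) hQ h2 _ _ hg' hh' hO)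
  have htt : (g : ↥(Cfsg.isometryGroup F (⇑(qfPlus m F)))) * g = 1 := by
    have := pow_orderOf_eq_one (g : ↥(Cfsg.isometryGroup F (⇑(qfPlus m F))))
    rw [hg', pow_two] at this
    exact this
  have hr : (oInv (qfPlus m F) (g : ↥(Cfsg.isometryGroup F (⇑(qfPlus m F))))).1
      = (oInv (qfPlus m F) (h : ↥(Cfsg.isometryGroup F (⇑(qfPlus m F))))).1 := congrArg Prod.fst hO
  have ha : (oInv (qfPlus m F) (g : ↥(Cfsg.isometryGroup F (⇑(qfPlus m F))))).2
      ↔ (oInv (qfPlus m F) (h : ↥(Cfsg.isometryGroup F (⇑(qfPlus m F))))).2 :=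
    Iff.of_eq (congrArg Prod.snd hO)
  simp only [oInv] at hr ha
  simp only [omInv] at hbit
  obtain ⟨c, hcΩ, hc⟩ := omega_conj_of h2 (qfPlus m F) hQ hex' card_plus_index U0 U0_singular
    finrank_U0 hv₀ _ _ g₀ htt hg₀' (by
      intro hcase
      have hcase' := hcase
      rw [hr, ha] at hcase'
      constructor
      · intro hb
        exact (hbit.mp ⟨hcase.1, hcase.2, hb⟩).2.2
      · intro hb
        exact (hbit.mpr ⟨hcase'.1, hcase'.2, hb⟩).2.2)
  rw [isConj_iff]
  exact ⟨⟨c, hcΩ⟩, Subtype.ext hc⟩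

theorem hex_plus (hex : Fintype.card F ≠ 2 ∨ m ≠ 2) :
    Fintype.card F ≠ 2 ∨ Fintype.card (Fin m ⊕ Fin m) ≠ 4 := by
  rw [card_plus_index]
  rcases hex with h | h
  · exact Or.inl h
  · exact Or.inr (by omega)

theorem plusD_mul_self (s : ℕ) : plusD (m := m) (F := F) s * plusD s = 1 := by
  apply Subtype.ext
  apply Units.ext
  exact swapM_mul_self s

theorem plusA_mul_self (h2 : (2 : F) = 0) (s : ℕ) : plusA (m := m) (F := F) h2 s * plusA h2 s = 1 := by
  apply Subtype.ext
  apply Units.ext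
  exact upper_sq h2 _

theorem plusD_mem_iff (h2 : (2 : F) = 0) (hex : Fintype.card F ≠ 2 ∨ m ≠ 2) {s : ℕ} (hs0 : 0 < s)
    (hs : s ≤ m) : plusD (m := m) (F := F) s ∈ Cfsg.Omega F (⇑(qfPlus m F)) ↔ Even s :=
  involution_mem_omega_iff_all h2 (qfPlus m F)
    (Cfsg.Agent.Lib.Helper44_Levi.nondegenerate_qfPlus (m := m) (F := F)) (hex_plus hex)
    card_plus_index s _ (plusD_mul_self s) (congrArg Prod.fst (oInv_plusD h2 hs0 hs))

theorem plusA_mem (h2 : (2 : F) = 0) (hex : Fintype.card F ≠ 2 ∨ m ≠ 2) {s : ℕ}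
    (hs : s ≤ m) (hev : Even s) : plusA (m := m) (F := F) h2 s ∈ Cfsg.Omega F (⇑(qfPlus m F)) :=
  (involution_mem_omega_iff_all h2 (qfPlus m F)
    (Cfsg.Agent.Lib.Helper44_Levi.nondegenerate_qfPlus (m := m) (F := F)) (hex_plus hex)
    card_plus_index s _ (plusA_mul_self h2 s) (congrArg Prod.fst (oInv_plusA h2 hs hev))).mpr hev

theorem omInv_plusD (h2 : (2 : F) = 0) {s : ℕ} (hs0 : 0 < s) (hs : s ≤ m) :
    omInv (plusD (m := m) (F := F) s) = (s, False, False) := by
  have h := oInv_plusD (m := m) (F := F) h2 hs0 hs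
  have h1 : (oInv (qfPlus m F) (plusD (m := m) (F := F) s)).1 = s := congrArg Prod.fst h
  have h3 : (oInv (qfPlus m F) (plusD (m := m) (F := F) s)).2 = False := congrArg Prod.snd h
  refine Prod.ext h1 (Prod.ext h3 ?_)
  apply eq_false
  rintro ⟨-, ha, -⟩
  have : (oInv (qfPlus m F) (plusD (m := m) (F := F) s)).2 := ha
  rw [h3] at this
  exact this

theorem omInv_plusA (h2 : (2 : F) = 0) {s : ℕ} (hs : s ≤ m) (hev : Even s) :
    omInv (plusA (m := m) (F := F) h2 s) = (s, True, s = m) := by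
  have h := oInv_plusA (m := m) (F := F) h2 hs hev
  have h1 : (oInv (qfPlus m F) (plusA (m := m) (F := F) h2 s)).1 = s := congrArg Prod.fst h
  have h3 : (oInv (qfPlus m F) (plusA (m := m) (F := F) h2 s)).2 = True := congrArg Prod.snd h
  refine Prod.ext h1 (Prod.ext h3 ?_)
  apply propext
  constructor
  · rintro ⟨hr, -, -⟩
    have : (oInv (qfPlus m F) (plusA (m := m) (F := F) h2 s)).1 = m := hr
    rw [h1] at this
    exact this
  · intro hsm
    subst hsm
    refine ⟨h1, ?_, ?_⟩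
    · have : (oInv (qfPlus s F) (plusA (m := s) (F := F) h2 s)).2 := by rw [h3]; trivial
      exact this
    · have hrange : LinearMap.range ((((plusA (m := s) (F := F) h2 s :
          ↥(Cfsg.isometryGroup F (⇑(qfPlus s F)))) : Matrix.GeneralLinearGroup (Fin s ⊕ Fin s) F) :
          Matrix (Fin s ⊕ Fin s) (Fin s ⊕ Fin s) F) - 1).mulVecLin = U0 :=
        range_upper_Am_top h2 hev
      rw [hrange, inf_idem, finrank_U0, Nat.sub_self]
      exact Even.zero

/-- The second class of maximal alternating type: a reflection-conjugate of `plusA m`. -/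
noncomputable def twin (h2 : (2 : F) = 0) : ↥(Cfsg.isometryGroup F (⇑(qfPlus m F))) :=
  plusD 1 * plusA h2 m * (plusD 1)⁻¹

theorem omInv_twin (h2 : (2 : F) = 0) (hm : 1 ≤ m) (hex : Fintype.card F ≠ 2 ∨ m ≠ 2)
    (hev : Even m) : omInv (twin (m := m) (F := F) h2) = (m, True, False) := by
  have hQ := Cfsg.Agent.Lib.Helper44_Levi.nondegenerate_qfPlus (m := m) (F := F)
  obtain ⟨v₀, hv₀⟩ := exists_nonsingular_plus (F := F) hm
  have hO : oInv (qfPlus m F) (plusA (m := m) (F := F) h2 m) = oInv (qfPlus m F) (twin h2) :=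
    oInv_conj (qfPlus m F) h2 _ _ (isConj_iff.mpr ⟨plusD 1, rfl⟩)
  rw [oInv_plusA h2 le_rfl hev] at hO
  have h1 : (oInv (qfPlus m F) (twin (m := m) (F := F) h2)).1 = m := (congrArg Prod.fst hO).symm
  have h3 : (oInv (qfPlus m F) (twin (m := m) (F := F) h2)).2 = True := (congrArg Prod.snd hO).symm
  refine Prod.ext h1 (Prod.ext h3 ?_)
  apply eq_false
  rintro ⟨-, -, hb⟩
  have hcb := class_bit_map h2 (qfPlus m F) hQ (hex_plus hex) card_plus_index U0 U0
    U0_singular finrank_U0 U0_singular finrank_U0 hv₀ (plusD (m := m) (F := F) 1)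
  have hrange : LinearMap.range ((((plusA (m := m) (F := F) h2 m :
      ↥(Cfsg.isometryGroup F (⇑(qfPlus m F)))) : Matrix.GeneralLinearGroup (Fin m ⊕ Fin m) F) :
      Matrix (Fin m ⊕ Fin m) (Fin m ⊕ Fin m) F) - 1).mulVecLin = U0 :=
    range_upper_Am_top h2 hev
  have hrc := range_conj (⇑(qfPlus m F)) (plusD (m := m) (F := F) 1) (plusA h2 m) (twin h2) rfl
  rw [hrange] at hrc
  rw [hrc] at hb
  have h5 := hcb.mp hb
  rw [inf_idem, finrank_U0, Nat.sub_self] at h5
  have h6 : plusD (m := m) (F := F) 1 ∈ Cfsg.Omega F (⇑(qfPlus m F)) := h5.mp Even.zero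
  rw [plusD_mem_iff h2 hex (by omega) hm] at h6
  exact absurd h6 (by decide)

theorem twin_mem (h2 : (2 : F) = 0) (hex : Fintype.card F ≠ 2 ∨ m ≠ 2) (hev : Even m) :
    twin (m := m) (F := F) h2 ∈ Cfsg.Omega F (⇑(qfPlus m F)) := by
  have hn : (Cfsg.Omega F (⇑(qfPlus m F))).Normal := inferInstance
  exact hn.conj_mem _ (plusA_mem h2 hex le_rfl hev) _

theorem orderOf_twin (h2 : (2 : F) = 0) (hm : 1 ≤ m) (hev : Even m) :
    orderOf (twin (m := m) (F := F) h2) = 2 := by
  have h := orderOf_plusA (m := m) (F := F) h2 (by omega) le_rfl hev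
  have : twin (m := m) (F := F) h2 = MulAut.conj (plusD 1) (plusA h2 m) := rfl
  rw [this, MulEquiv.orderOf_eq]
  exact h

theorem card_plift_prop (p : Prop) [Decidable p] : Nat.card (PLift p) = if p then 1 else 0 := by
  by_cases hp : p
  · have : Unique (PLift p) := ⟨⟨⟨hp⟩⟩, fun _ => Subsingleton.elim _ _⟩
    rw [Nat.card_unique, if_pos hp]
  · have : IsEmpty (PLift p) := ⟨fun ⟨h⟩ => hp h⟩
    rw [Nat.card_of_isEmpty, if_neg hp]

/-- **Number of classes of involutions in `Ω⁺_{2m}(q)`, `q` even** (outside `Ω⁺_4(2)`). -/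
theorem card_omega_plus_involution_classes (h2 : (2 : F) = 0) (hm : 1 ≤ m)
    (hex : Fintype.card F ≠ 2 ∨ m ≠ 2) :
    Nat.card {C : ConjClasses ↥(Cfsg.Omega F (⇑(qfPlus m F))) //
      ∃ g : ↥(Cfsg.Omega F (⇑(qfPlus m F))), ConjClasses.mk g = C ∧ orderOf g = 2}
      = 2 * (m / 2) + (if Even m then 1 else 0) := by
  classical
  have hQ := Cfsg.Agent.Lib.Helper44_Levi.nondegenerate_qfPlus (m := m) (F := F)
  have key := card_involution_classes (G := ↥(Cfsg.Omega F (⇑(qfPlus m F))))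
    (κ := (Fin (m / 2) ⊕ Fin (m / 2)) ⊕ PLift (Even m))
    (fun g => omInv (g : ↥(Cfsg.isometryGroup F (⇑(qfPlus m F)))))
    (omInv_conj h2 hm hex) (isConj_of_omInv h2 hm hex)
    (fun x => Sum.elim
      (Sum.elim
        (fun k : Fin (m / 2) => (⟨plusD (2 * (k.val + 1)),
          (plusD_mem_iff h2 hex (by omega) (by have := k.2; omega)).mpr ⟨k.val + 1, by ring⟩⟩ :
            ↥(Cfsg.Omega F (⇑(qfPlus m F)))))
        (fun k : Fin (m / 2) => (⟨plusA h2 (2 * (k.val + 1)),
          plusA_mem h2 hex (by have := k.2; omega) ⟨k.val + 1, by ring⟩⟩ :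
            ↥(Cfsg.Omega F (⇑(qfPlus m F))))))
      (fun e : PLift (Even m) => (⟨twin h2, twin_mem h2 hex e.down⟩ :
        ↥(Cfsg.Omega F (⇑(qfPlus m F))))) x)
    ?_ ?_ ?_
  · rw [key, Nat.card_sum, Nat.card_sum, Nat.card_fin, card_plift_prop]
    ring
  · rintro ((k | k) | e)
    · simp only [Sum.elim_inl]
      rw [Subgroup.orderOf_mk]
      exact orderOf_plusD h2 (by omega) (by have := k.2; omega)
    · simp only [Sum.elim_inl, Sum.elim_inr]
      rw [Subgroup.orderOf_mk]
      exact orderOf_plusA h2 (by omega) (by have := k.2; omega) ⟨k.val + 1, by ring⟩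
    · simp only [Sum.elim_inr]
      rw [Subgroup.orderOf_mk]
      exact orderOf_twin h2 hm e.down
  · rintro ((k | k) | e) ((k' | k') | e') h <;>
      simp only [Function.comp_apply, Sum.elim_inl, Sum.elim_inr] at h
    · rw [omInv_plusD h2 (by omega) (by have := k.2; omega),
        omInv_plusD h2 (by omega) (by have := k'.2; omega)] at h
      have := congrArg Prod.fst h
      simp only at this
      congr 2
      exact Fin.ext (by omega)
    · rw [omInv_plusD h2 (by omega) (by have := k.2; omega),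
        omInv_plusA h2 (by have := k'.2; omega) ⟨k'.val + 1, by ring⟩] at h
      have := congrArg (fun x => x.2.1) h
      simp at this
    · rw [omInv_plusD h2 (by omega) (by have := k.2; omega), omInv_twin h2 hm hex e'.down] at h
      have := congrArg (fun x => x.2.1) h
      simp at this
    · rw [omInv_plusD h2 (by omega) (by have := k'.2; omega),
        omInv_plusA h2 (by have := k.2; omega) ⟨k.val + 1, by ring⟩] at h
      have := congrArg (fun x => x.2.1) h
      simp at this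
    · rw [omInv_plusA h2 (by have := k.2; omega) ⟨k.val + 1, by ring⟩,
        omInv_plusA h2 (by have := k'.2; omega) ⟨k'.val + 1, by ring⟩] at h
      have := congrArg Prod.fst h
      simp only at this
      congr 2
      exact Fin.ext (by omega)
    · rw [omInv_plusA h2 (by have := k.2; omega) ⟨k.val + 1, by ring⟩,
        omInv_twin h2 hm hex e'.down] at h
      have h1 := congrArg Prod.fst h
      have h3 := congrArg (fun x => x.2.2) h
      simp only at h1 h3
      rw [eq_iff_iff, iff_false] at h3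
      exact absurd h1 h3
    · rw [omInv_plusD h2 (by omega) (by have := k'.2; omega), omInv_twin h2 hm hex e.down] at h
      have := congrArg (fun x => x.2.1) h
      simp at this
    · rw [omInv_plusA h2 (by have := k'.2; omega) ⟨k'.val + 1, by ring⟩,
        omInv_twin h2 hm hex e.down] at h
      have h1 := congrArg Prod.fst h
      have h3 := congrArg (fun x => x.2.2) h
      simp only at h1 h3
      rw [eq_comm, eq_iff_iff, iff_false] at h3
      exact absurd h1.symm h3
    · exact congrArg Sum.inr (Subsingleton.elim _ _)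
  · intro g hg
    have hg' : orderOf (g : ↥(Cfsg.isometryGroup F (⇑(qfPlus m F)))) = 2 := by
      rw [Subgroup.orderOf_coe]; exact hg
    obtain ⟨hpos, hle⟩ := involution_facts (qfPlus m F) h2 (g : ↥(Cfsg.isometryGroup F (⇑(qfPlus m F)))) hg'
    rw [card_plus_index] at hle
    have htt : (g : ↥(Cfsg.isometryGroup F (⇑(qfPlus m F)))) * g = 1 := by
      have := pow_orderOf_eq_one (g : ↥(Cfsg.isometryGroup F (⇑(qfPlus m F))))
      rw [hg', pow_two] at this
      exact this
    have hev := (involution_mem_omega_iff_all h2 (qfPlus m F) hQ (hex_plus hex) card_plus_index _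
      (g : ↥(Cfsg.isometryGroup F (⇑(qfPlus m F)))) htt rfl).mp g.2
    obtain ⟨k, hk⟩ := hev
    set T := (((g : ↥(Cfsg.isometryGroup F (⇑(qfPlus m F)))) :
      Matrix.GeneralLinearGroup (Fin m ⊕ Fin m) F) : Matrix (Fin m ⊕ Fin m) (Fin m ⊕ Fin m) F) with hTdef
    by_cases halt : ∀ v, qfPlus m F ((T - 1) *ᵥ v) = 0
    · by_cases hbit : (T - 1).rank = m ∧
          ¬ Even (m - finrank F ↥(U0 (m := m) (F := F) ⊓ LinearMap.range (T - 1).mulVecLin))
      · refine ⟨Sum.inr ⟨⟨k, by omega⟩⟩, ?_⟩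
        simp only [Sum.elim_inr]
        rw [omInv_twin h2 hm hex ⟨k, by omega⟩]
        refine Prod.ext hbit.1.symm (Prod.ext (eq_true halt).symm ?_)
        apply (eq_false _).symm
        rintro ⟨-, -, hb⟩
        exact hbit.2 hb
      · refine ⟨Sum.inl (Sum.inr ⟨k - 1, by omega⟩), ?_⟩
        simp only [Sum.elim_inl, Sum.elim_inr]
        rw [omInv_plusA h2 (by omega) ⟨k - 1 + 1, by ring⟩]
        refine Prod.ext (by show 2 * (k - 1 + 1) = (T - 1).rank; omega)
          (Prod.ext (eq_true halt).symm ?_)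
        apply propext
        constructor
        · intro hkm
          have hrm : (T - 1).rank = m := by omega
          refine ⟨hrm, halt, ?_⟩
          by_contra hb
          exact hbit ⟨hrm, hb⟩
        · rintro ⟨hrm, -, -⟩
          have hrm' : (T - 1).rank = m := hrm
          show 2 * (k - 1 + 1) = m
          omega
    · refine ⟨Sum.inl (Sum.inl ⟨k - 1, by omega⟩), ?_⟩
      simp only [Sum.elim_inl]
      rw [omInv_plusD h2 (by omega) (by omega)]
      refine Prod.ext (by show 2 * (k - 1 + 1) = (T - 1).rank; omega)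
        (Prod.ext (eq_false halt).symm ?_)
      apply (eq_false _).symm
      rintro ⟨-, ha, -⟩
      exact halt ha

end plus

end Cfsg.Agent.Lib.Helper44_OmegaCount
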