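import Mathlib
import Cfsg.Agent.Lib.Helper44_OCent
import Cfsg.Agent.Lib.Helper44_OFrameCount
import Cfsg.Agent.Lib.Helper44_OmegaCount
import Cfsg.Agent.Lib.Helper44_SpCount
import Cfsg.Agent.S0287

set_option autoImplicit false
set_option linter.unusedSectionVars false

/-!
Orders of the `Ω`-centralisers of involutions of `O⁺_{2m}(q)`, `q` even (helper44), non-alternating types:
`|C_Ω(t)| · q^(m - 1 + (s-1)(s-2)/2) = q^(m(m-1)) · |O(1_s)| · ∏_{i ≤ m - s} (q^(2i) - 1)`.
-/

namespace Cfsg.Agent.Lib.Helper44_OCentOrder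

open Cfsg Matrix Module Cfsg.Agent.Lib.Helper44_Refl Cfsg.Agent.Lib.Helper44_Inv2
  Cfsg.Agent.Lib.Helper44_Inv2Class Cfsg.Agent.Lib.Helper44_OCent Cfsg.Agent.Lib.Helper44_OrthDot
  Cfsg.Agent.Lib.Helper44_OFrameCount Cfsg.Agent.Lib.Helper44_StdForms
  Cfsg.Agent.Lib.Helper14_CartanDieudonne Cfsg.Agent.Lib.Helper44_Spinor
  Cfsg.Agent.Lib.Helper44_Inv2Conj Cfsg.Agent.Lib.Helper44_OmegaCount Cfsg.Agent.Lib.Helper44_OmegaAll
  Cfsg.Agent.Lib.Helper44_Index

/-- If a normal subgroup `N` of index two does not contain the centraliser of `x`, the centraliser of `x` in `N` has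
half the order of the centraliser. -/
theorem card_centralizer_eq_two_mul {G : Type*} [Group G] [Finite G] (N : Subgroup G) [N.Normal]
    (hN : N.index = 2) (x r : G) (hr : r * x = x * r) (hrN : r ∉ N) :
    Nat.card ↥(Subgroup.centralizer ({x} : Set G)) =
      2 * Nat.card {g : ↥N // (g : G) * x = x * (g : G)} := by
  set H := Subgroup.centralizer ({x} : Set G) with hH
  have hmemH : ∀ g : G, g ∈ H ↔ g * x = x * g := by
    intro g
    rw [hH, Subgroup.mem_centralizer_iff]
    constructor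
    · intro h
      exact (h x rfl).symm
    · intro h y hy
      rw [Set.mem_singleton_iff] at hy
      subst hy
      exact h.symm
  have hrH : r ∈ H := (hmemH r).mpr hr
  have h1 : N.relIndex H ∣ 2 := by
    rw [← hN]
    exact Subgroup.relIndex_dvd_index_of_normal N H
  have h2 : N.relIndex H ≠ 1 := by
    rw [Ne, Subgroup.relIndex_eq_one]
    intro hle
    exact hrN (hle hrH)
  have h3 : N.relIndex H = 2 := by
    rcases (Nat.dvd_prime Nat.prime_two).mp h1 with h | h
    · exact absurd h h2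
    · exact h
  have h4 := Subgroup.card_mul_index (N.subgroupOf H)
  have h5 : Nat.card ↥(N.subgroupOf H) = Nat.card {g : ↥N // (g : G) * x = x * (g : G)} := by
    apply Nat.card_congr
    exact
      { toFun := fun g => ⟨⟨g.1.1, g.2⟩, (hmemH g.1.1).mp g.1.2⟩
        invFun := fun g => ⟨⟨g.1.1, (hmemH g.1.1).mpr g.2⟩, g.1.2⟩
        left_inv := fun g => rfl
        right_inv := fun g => rfl }
  have h6 : (N.subgroupOf H).index = 2 := h3
  rw [← h4, h5, h6, mul_comm]

variable {m : ℕ} {F : Type*} [Field F] [Fintype F]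

theorem P_pos (q k : ℕ) (hq : 1 < q) : 0 < P q k := by
  unfold P
  apply Finset.prod_pos
  intro i _
  have : 1 < q ^ (2 * (i + 1)) := Nat.one_lt_pow (by omega) hq
  omega

/-- **Non-alternating types**: the order of the `Ω`-centraliser, in multiplicative form. -/
theorem card_omega_centralizer_nonalt (h2 : (2 : F) = 0) (hex : Fintype.card F ≠ 2 ∨ m ≠ 2) {s : ℕ}
    (t : ↥(Cfsg.isometryGroup F (⇑(qfPlus m F))))
    (htt : ((t : Matrix.GeneralLinearGroup (Fin m ⊕ Fin m) F) : Matrix (Fin m ⊕ Fin m) (Fin m ⊕ Fin m) F)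
      * ((t : Matrix.GeneralLinearGroup (Fin m ⊕ Fin m) F) : Matrix (Fin m ⊕ Fin m) (Fin m ⊕ Fin m) F) = 1)
    (hr : (((t : Matrix.GeneralLinearGroup (Fin m ⊕ Fin m) F) :
      Matrix (Fin m ⊕ Fin m) (Fin m ⊕ Fin m) F) - 1).rank = s)
    (hna : ∃ v, qfPlus m F ((((t : Matrix.GeneralLinearGroup (Fin m ⊕ Fin m) F) :
      Matrix (Fin m ⊕ Fin m) (Fin m ⊕ Fin m) F) - 1) *ᵥ v) ≠ 0) :
    Nat.card {g : ↥(Cfsg.Omega F (⇑(qfPlus m F))) //
        (g : ↥(Cfsg.isometryGroup F (⇑(qfPlus m F)))) * t = t * (g : ↥(Cfsg.isometryGroup F (⇑(qfPlus m F))))} *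
      Fintype.card F ^ (m - 1 + (s - 1) * (s - 2) / 2) =
    Fintype.card F ^ (m * (m - 1)) * (∏ d ∈ Finset.range s, cfac (Fintype.card F) (d + 1)) *
      P (Fintype.card F) (m - s) := by
  classical
  set T := ((t : Matrix.GeneralLinearGroup (Fin m ⊕ Fin m) F) :
    Matrix (Fin m ⊕ Fin m) (Fin m ⊕ Fin m) F) with hTdef
  have hQ : (QuadraticMap.polarBilin (qfPlus m F)).Nondegenerate := Cfsg.Agent.Lib.Helper44_Levi.nondegenerate_qfPlus m F
  have hT : IsIsom (qfPlus m F) T := isIsom_of_mem (qfPlus m F) t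
  have hq : 1 < Fintype.card F := Fintype.one_lt_card
  -- bounds on `s`
  have hT1 : T ≠ 1 := by
    intro h1
    obtain ⟨v, hv⟩ := hna
    apply hv
    rw [h1, sub_self, Matrix.zero_mulVec, map_zero]
  have hs1 : 1 ≤ s := by
    rw [← hr]
    exact Cfsg.Agent.Lib.Helper44_SpCount.rank_pos_of_ne_one hT1
  have hsm : s ≤ m := by
    have := Cfsg.Agent.Lib.Helper44_SpCount.two_rank_le h2 htt
    rw [card_plus_index, hr] at this
    omega
  have hm : 1 ≤ m := le_trans hs1 hsm
  -- Gram family and orbit counting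
  obtain ⟨x₀, hx₀⟩ := exists_gram_nonalt (qfPlus m F) hQ h2 hT htt hna hr
  have h1 := card_centralizer_mul (qfPlus m F) hQ h2 t htt 1 1 (Matrix.one_mul 1) hr.symm x₀ hx₀
  rw [card_gramFrames (qfPlus m F) hQ h2 t htt 1 1 (Matrix.one_mul 1) hr.symm x₀ hx₀, card_orth h2,
    prod_cfac_reflect] at h1
  have hfr : Nat.card ↥(qFrames (s := s) (qfPlus m F) (fun i => (1 : Matrix (Fin s) (Fin s) F) i i)) =
      Nat.card (QF (qfPlus m F) s 1) := by
    have : (fun i => (1 : Matrix (Fin s) (Fin s) F) i i) = fun _ => (1 : F) := by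
      funext i
      exact Matrix.one_apply_eq i
    rw [this]
    rfl
  rw [hfr] at h1
  -- a fixed non-singular vector
  obtain ⟨v, hTv, hv⟩ : ∃ v, T *ᵥ v = v ∧ (qfPlus m F) v ≠ 0 := by
    by_contra hcon
    push Not at hcon
    obtain ⟨w, hw⟩ := hna
    exact hw ((rank_of_fixed_singular (qfPlus m F) hQ h2 hT htt hcon).2 w)
  have hex' := hex_plus hex
  have hidx := index_omega_two h2 (qfPlus m F) hQ hex' hv
  have hcomm : reflT (qfPlus m F) v * t = t * reflT (qfPlus m F) v := by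
    apply Subtype.ext
    apply Units.ext
    show ((reflT (qfPlus m F) v : Matrix.GeneralLinearGroup (Fin m ⊕ Fin m) F) : Matrix _ _ F) * T
      = T * ((reflT (qfPlus m F) v : Matrix.GeneralLinearGroup (Fin m ⊕ Fin m) F) : Matrix _ _ F)
    rw [reflT_coe (qfPlus m F) v hv]
    exact refl_comm_of_fixed (qfPlus m F) hT hTv
  have hrefl : reflT (qfPlus m F) v ∉ Cfsg.Omega F (⇑(qfPlus m F)) := by
    have := prod_mem_omega_iff_even h2 (qfPlus m F) hQ hex' [v] (by simpa using hv)
    simp only [List.map_cons, List.map_nil, List.prod_cons, List.prod_nil, mul_one,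
      List.length_cons, List.length_nil] at this
    rw [this]
    decide
  have hC := card_centralizer_eq_two_mul (Cfsg.Omega F (⇑(qfPlus m F))) hidx t (reflT (qfPlus m F) v) hcomm hrefl
  rw [hC] at h1
  -- orders
  have hO : Nat.card ↥(Cfsg.isometryGroup F (⇑(qfPlus m F))) =
      2 * Fintype.card F ^ (m * (m - 1)) * (Fintype.card F ^ m - 1) * P (Fintype.card F) (m - 1) := by
    have := Cfsg.Agent.S0287.result (F := F) rfl m hm
    rw [← coe_qfPlus] at this
    exact this
  rw [hO] at h1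
  have hfc := card_QF_plus (m := m) (F := F) h2 s hs1 hsm
  set X := Nat.card {g : ↥(Cfsg.Omega F (⇑(qfPlus m F))) //
        (g : ↥(Cfsg.isometryGroup F (⇑(qfPlus m F)))) * t = t * (g : ↥(Cfsg.isometryGroup F (⇑(qfPlus m F))))} with hX
  set A := Nat.card (QF (qfPlus m F) s 1) with hA
  set cf := ∏ d ∈ Finset.range s, cfac (Fintype.card F) (d + 1) with hcf
  have hpos : 0 < 2 * (Fintype.card F ^ m - 1) * P (Fintype.card F) (m - 1) := by
    have h3 : 1 < Fintype.card F ^ m := Nat.one_lt_pow (by omega) hq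
    have h4 := P_pos (Fintype.card F) (m - 1) hq
    have h5 : 0 < Fintype.card F ^ m - 1 := by omega
    positivity
  apply Nat.eq_of_mul_eq_mul_left hpos
  calc 2 * (Fintype.card F ^ m - 1) * P (Fintype.card F) (m - 1) *
        (X * Fintype.card F ^ (m - 1 + (s - 1) * (s - 2) / 2))
      = 2 * X * ((Fintype.card F ^ m - 1) * Fintype.card F ^ (m - 1) *
          Fintype.card F ^ ((s - 1) * (s - 2) / 2) * P (Fintype.card F) (m - 1)) := by
        rw [pow_add]; ring
    _ = 2 * X * A * P (Fintype.card F) (m - s) := by rw [← hfc]; ring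
    _ = 2 * Fintype.card F ^ (m * (m - 1)) * (Fintype.card F ^ m - 1) * P (Fintype.card F) (m - 1) * cf *
          P (Fintype.card F) (m - s) := by rw [h1]
    _ = _ := by ring

end Cfsg.Agent.Lib.Helper44_OCentOrder
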