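import Mathlib
import Cfsg.Agent.Lib.Helper44_Inv2Sp
import Cfsg.Agent.Lib.Helper44_SpCount
import Cfsg.Agent.S0775

set_option autoImplicit false
set_option linter.unusedSectionVars false

/-!
Centralisers of involutions of `Sp_{2m}(q)`, `q` even (helper44).  For an involution `t = 1 + N` with a Gram family
`x` (`B(N x_i, x_j) = G₀ i j`, `G₀` invertible of size `s = rank N`), the centraliser acts transitively (Witt) on the
frames `(N x'_i)` of Gram families, with the same point stabiliser as the whole group; these frames correspond to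
the matrices `C` with `C G₀ Cᵀ = G₀`.  Hence `|C(t)| · #isotropic s-frames = |Sp_{2m}| · |O(G₀)|`.
-/

namespace Cfsg.Agent.Lib.Helper44_SpCent

open Cfsg Matrix Module Cfsg.Agent.Lib.Helper44_Refl Cfsg.Agent.Lib.Helper44_Inv2
  Cfsg.Agent.Lib.Helper44_Inv2Class Cfsg.Agent.Lib.Helper44_Inv2Sp Cfsg.Agent.Lib.Helper94_Bridge
  Cfsg.Agent.Lib.Helper13_Symp Cfsg.Agent.Lib.Helper13_IsoFrames Cfsg.Agent.S0775

section generic

variable {ι : Type} [Fintype ι] [DecidableEq ι] {F : Type*} [Field F]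
variable {κ : Type} [Fintype κ] [DecidableEq κ]

/-- **Conjugacy from Gram data** (symplectic version), with the action on the Gram frame. -/
theorem conj_of_gram_sp' (B : LinearMap.BilinForm F (ι → F)) (hB : B.Nondegenerate) (hA : B.IsAlt)
    (h2 : (2 : F) = 0)
    {T S : Matrix ι ι F} (hT : IsoB B T) (hTT : T * T = 1) (hS : IsoB B S) (hSS : S * S = 1)
    (G₀ H : Matrix κ κ F) (hGH : G₀ * H = 1)
    (hrT : Fintype.card κ = (T - 1).rank) (hrS : Fintype.card κ = (S - 1).rank)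
    (x x' : κ → ι → F)
    (hx : ∀ i j, B ((T - 1) *ᵥ x i) (x j) = G₀ i j)
    (hx' : ∀ i j, B ((S - 1) *ᵥ x' i) (x' j) = G₀ i j) :
    ∃ G : Matrix ι ι F, IsoB B G ∧ G * T = S * G ∧
      ∀ j, G *ᵥ ((T - 1) *ᵥ x j) = (S - 1) *ᵥ x' j := by
  have hL := comb_injective_sp B G₀ H hGH x hx
  have hL' := comb_injective_sp B G₀ H hGH x' hx'
  set φ : ↥(LinearMap.range (comb T x)) ≃ₗ[F] ↥(LinearMap.range (comb S x')) :=
    (LinearEquiv.ofInjective (comb T x) hL).symm.trans (LinearEquiv.ofInjective (comb S x') hL')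
    with hφdef
  have hφ1 : ∀ a : κ → F, φ ⟨comb T x a, LinearMap.mem_range_self _ a⟩
      = ⟨comb S x' a, LinearMap.mem_range_self _ a⟩ := by
    intro a
    have h1 : (LinearEquiv.ofInjective (comb T x) hL).symm
        ⟨comb T x a, LinearMap.mem_range_self _ a⟩ = a := by
      rw [LinearEquiv.symm_apply_eq]
      apply Subtype.ext
      rw [LinearEquiv.ofInjective_apply]
    rw [hφdef, LinearEquiv.trans_apply, h1]
    apply Subtype.ext
    rw [LinearEquiv.ofInjective_apply]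
  have hφB : ∀ y y' : ↥(LinearMap.range (comb T x)),
      B (φ y : ι → F) (φ y' : ι → F) = B (y : ι → F) (y' : ι → F) := by
    rintro ⟨_, a, rfl⟩ ⟨_, a', rfl⟩
    rw [hφ1 a, hφ1 a']
    show B (comb S x' a) (comb S x' a') = B (comb T x a) (comb T x a')
    rw [comb_eq_N, comb_eq_N, comb_eq_N, comb_eq_N, B_N_N B h2 hT hTT, B_N_N B h2 hS hSS]
  obtain ⟨g, hg1, hg2⟩ := Cfsg.Agent.S0749.result B hB hA _ _ φ hφB
  set G : Matrix ι ι F := LinearMap.toMatrix' (g : (ι → F) →ₗ[F] (ι → F)) with hG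
  have hGv : ∀ v, G *ᵥ v = g v := by
    intro v
    rw [hG, LinearMap.toMatrix'_mulVec]
    rfl
  have hGiso : IsoB B G := by
    intro u v
    rw [hGv, hGv]
    exact hg1 u v
  have hGL : ∀ a : κ → F, G *ᵥ comb T x a = comb S x' a := by
    intro a
    have := hg2 ⟨comb T x a, LinearMap.mem_range_self _ a⟩
    rw [hφ1 a] at this
    rw [hGv]
    exact this
  have hGw : ∀ j, G *ᵥ ((T - 1) *ᵥ x j) = (S - 1) *ᵥ x' j := by
    intro j
    rw [← comb_single (T := T) x j, hGL, comb_single]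
  refine ⟨G, hGiso, ?_, hGw⟩
  have key : ∀ v, G *ᵥ ((T - 1) *ᵥ v) = (S - 1) *ᵥ (G *ᵥ v) := by
    intro v
    have h1 : (T - 1) *ᵥ v ∈ LinearMap.range (comb T x) := by
      rw [range_comb_sp B G₀ H hGH x hx hrT]
      exact ⟨v, rfl⟩
    have h1' : (S - 1) *ᵥ (G *ᵥ v) ∈ LinearMap.range (comb S x') := by
      rw [range_comb_sp B G₀ H hGH x' hx' hrS]
      exact ⟨G *ᵥ v, rfl⟩
    obtain ⟨a, ha⟩ := h1
    obtain ⟨a', ha'⟩ := h1'
    have haa' : a = a' := by
      apply vecMul_injective G₀ H hGH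
      ext j
      rw [← B_comb B G₀ x hx a j, ← B_comb B G₀ x' hx' a' j, ha, ha',
        B_N_left B hT hTT, B_N_left B hS hSS, ← hGw j, hGiso]
    rw [← ha, hGL, haa', ha']
  apply matrix_ext_mulVec
  intro v
  have hTv : T *ᵥ v = (T - 1) *ᵥ v + v := by rw [N_apply]; abel
  have hSv : S *ᵥ (G *ᵥ v) = (S - 1) *ᵥ (G *ᵥ v) + G *ᵥ v := by rw [N_apply]; abel
  rw [← Matrix.mulVec_mulVec, ← Matrix.mulVec_mulVec, hTv, hSv, Matrix.mulVec_add, key]

/-- The form `B(N ·, ·)` on combinations of a Gram family. -/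
theorem B_comb_sum (B : LinearMap.BilinForm F (ι → F)) {T : Matrix ι ι F} (G₀ : Matrix κ κ F)
    (x : κ → ι → F) (hx : ∀ i j, B ((T - 1) *ᵥ x i) (x j) = G₀ i j) (a c : κ → F) :
    B (comb T x a) (∑ l, c l • x l) = (a ᵥ* G₀) ⬝ᵥ c := by
  rw [map_sum]
  simp only [dotProduct]
  apply Finset.sum_congr rfl
  intro l _
  rw [map_smul, B_comb B G₀ x hx a l, smul_eq_mul, mul_comm]

end generic

section sp

variable {m s : ℕ} {F : Type*} [Field F]

/-- The frames of Gram families of the involution `T`. -/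
def gramFrames (T : Matrix (Fin m ⊕ Fin m) (Fin m ⊕ Fin m) F) (G₀ : Matrix (Fin s) (Fin s) F) :
    Set (Fr m s F) :=
  {y | ∃ x : Fin s → (Fin m ⊕ Fin m → F), (∀ i, y i = (T - 1) *ᵥ x i) ∧
    ∀ i j, Bsymp m F ((T - 1) *ᵥ x i) (x j) = G₀ i j}

variable (h2 : (2 : F) = 0) (t : Matrix.symplecticGroup (Fin m) F) (htt : t.1 * t.1 = 1)
  (G₀ H : Matrix (Fin s) (Fin s) F) (hGH : G₀ * H = 1) (hr : s = (t.1 - 1).rank)
  (x₀ : Fin s → (Fin m ⊕ Fin m → F))
  (hx₀ : ∀ i j, Bsymp m F ((t.1 - 1) *ᵥ x₀ i) (x₀ j) = G₀ i j)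

theorem mem_centralizer_iff' (g : Matrix.symplecticGroup (Fin m) F) :
    g ∈ Subgroup.centralizer ({t} : Set (Matrix.symplecticGroup (Fin m) F)) ↔ g.1 * t.1 = t.1 * g.1 := by
  rw [Subgroup.mem_centralizer_iff]
  constructor
  · intro h
    have := h t rfl
    exact (congrArg Subtype.val this).symm
  · intro h k hk
    rw [Set.mem_singleton_iff] at hk
    subst hk
    exact Subtype.ext h.symm

include h2 htt hGH hr hx₀ in
/-- The orbit of the Gram frame under the centraliser is the set of all Gram frames. -/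
theorem orbit_centralizer_eq :
    MulAction.orbit ↥(Subgroup.centralizer ({t} : Set (Matrix.symplecticGroup (Fin m) F)))
      (fun i => (t.1 - 1) *ᵥ x₀ i : Fr m s F) = gramFrames t.1 G₀ := by
  have hT := Cfsg.Agent.Lib.Helper44_SpCount.isoB_of_mem t
  have hcard : Fintype.card (Fin s) = (t.1 - 1).rank := by rw [Fintype.card_fin]; exact hr
  ext y
  constructor
  · rintro ⟨⟨g, hg⟩, rfl⟩
    rw [mem_centralizer_iff'] at hg
    have hgN : ∀ v, g.1 *ᵥ ((t.1 - 1) *ᵥ v) = (t.1 - 1) *ᵥ (g.1 *ᵥ v) := by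
      intro v
      rw [N_apply, N_apply, Matrix.mulVec_sub, Matrix.mulVec_mulVec, hg, ← Matrix.mulVec_mulVec]
    refine ⟨fun i => g.1 *ᵥ x₀ i, fun i => ?_, fun i j => ?_⟩
    · exact hgN (x₀ i)
    · rw [← hgN, Cfsg.Agent.Lib.Helper44_SpCount.isoB_of_mem g, hx₀]
  · rintro ⟨x, hyx, hx⟩
    obtain ⟨G, hG, hGT, hGw⟩ := conj_of_gram_sp' (Bsymp m F) (Bsymp_nondegenerate m) (Bsymp_isAlt m) h2
      hT htt hT htt G₀ H hGH hcard hcard x₀ x hx₀ hx
    have hGmem : G ∈ Matrix.symplecticGroup (Fin m) F := by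
      apply mem_symplecticGroup_of_preserves m
      intro u v
      rw [← Bsymp_apply, ← Bsymp_apply]
      exact hG u v
    refine ⟨⟨⟨G, hGmem⟩, (mem_centralizer_iff' t _).mpr hGT⟩, ?_⟩
    funext i
    rw [hyx i]
    exact hGw i

include h2 htt hGH hr hx₀ in
/-- The point stabiliser of the Gram frame lies in the centraliser. -/
theorem stabilizer_le_centralizer :
    MulAction.stabilizer (Matrix.symplecticGroup (Fin m) F)
      (fun i => (t.1 - 1) *ᵥ x₀ i : Fr m s F)
      ≤ Subgroup.centralizer ({t} : Set (Matrix.symplecticGroup (Fin m) F)) := by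
  have hT := Cfsg.Agent.Lib.Helper44_SpCount.isoB_of_mem t
  have hcard : Fintype.card (Fin s) = (t.1 - 1).rank := by rw [Fintype.card_fin]; exact hr
  intro g hg
  rw [MulAction.mem_stabilizer_iff] at hg
  have hgy : ∀ i, g.1 *ᵥ ((t.1 - 1) *ᵥ x₀ i) = (t.1 - 1) *ᵥ x₀ i := fun i => congrFun hg i
  -- `g` fixes the image of `N` pointwise
  have hfix : ∀ v, g.1 *ᵥ ((t.1 - 1) *ᵥ v) = (t.1 - 1) *ᵥ v := by
    intro v
    have h1 : (t.1 - 1) *ᵥ v ∈ LinearMap.range (comb t.1 x₀) := by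
      rw [range_comb_sp (Bsymp m F) G₀ H hGH x₀ hx₀ hcard]
      exact ⟨v, rfl⟩
    obtain ⟨a, ha⟩ := h1
    rw [← ha, comb_apply, Matrix.mulVec_sum]
    apply Finset.sum_congr rfl
    intro i _
    rw [Matrix.mulVec_smul, hgy]
  have hgiso := Cfsg.Agent.Lib.Helper44_SpCount.isoB_of_mem g
  have hNg : ∀ v, (t.1 - 1) *ᵥ (g.1 *ᵥ v) = (t.1 - 1) *ᵥ v := by
    intro v
    have h0 : (t.1 - 1) *ᵥ (g.1 *ᵥ v - v) = 0 := by
      apply (Bsymp_nondegenerate m).1
      intro w
      rw [B_N_left (Bsymp m F) hT htt, map_sub, LinearMap.sub_apply]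
      have := hgiso v ((t.1 - 1) *ᵥ w)
      rw [hfix] at this
      rw [this, sub_self]
    rw [Matrix.mulVec_sub, sub_eq_zero] at h0
    exact h0
  rw [mem_centralizer_iff']
  apply matrix_ext_mulVec
  intro v
  have hTv : ∀ u, t.1 *ᵥ u = (t.1 - 1) *ᵥ u + u := by intro u; rw [N_apply]; abel
  rw [← Matrix.mulVec_mulVec, ← Matrix.mulVec_mulVec, hTv v, hTv (g.1 *ᵥ v), Matrix.mulVec_add, hfix,
    hNg]

include h2 htt hGH hr hx₀ in
theorem gram_isoFrame : IsoFrame (Bsymp m F) s (fun i => (t.1 - 1) *ᵥ x₀ i) := by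
  have hT := Cfsg.Agent.Lib.Helper44_SpCount.isoB_of_mem t
  refine ⟨?_, fun i j => B_N_N (Bsymp m F) h2 hT htt _ _⟩
  have hinj := comb_injective_sp (Bsymp m F) G₀ H hGH x₀ hx₀
  rw [Fintype.linearIndependent_iff]
  intro a ha i
  have h0 : comb t.1 x₀ a = comb t.1 x₀ 0 := by
    rw [comb_apply, ha, map_zero]
  exact congrFun (hinj h0) i

include h2 htt hGH hr hx₀ in
/-- **Orbit counting**: `|C(t)| · #isotropic s-frames = |Sp_{2m}| · #Gram frames`. -/
theorem card_centralizer_mul [Fintype F] :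
    Nat.card ↥(Subgroup.centralizer ({t} : Set (Matrix.symplecticGroup (Fin m) F))) *
      ∏ i ∈ Finset.range s, (Fintype.card F ^ (2 * m - i) - Fintype.card F ^ i) =
    Nat.card (Matrix.symplecticGroup (Fin m) F) * Nat.card ↥(gramFrames t.1 G₀) := by
  classical
  set y₀ : Fr m s F := fun i => (t.1 - 1) *ᵥ x₀ i with hy₀
  have hf₀ : IsoFrame (Bsymp m F) s y₀ := gram_isoFrame h2 t htt G₀ H hGH hr x₀ hx₀
  have hG : Nat.card (MulAction.orbit (Matrix.symplecticGroup (Fin m) F) y₀) *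
      Nat.card (MulAction.stabilizer (Matrix.symplecticGroup (Fin m) F) y₀) =
      Nat.card (Matrix.symplecticGroup (Fin m) F) := by
    rw [← Nat.card_prod]
    exact Nat.card_congr
      (MulAction.orbitProdStabilizerEquivGroup (Matrix.symplecticGroup (Fin m) F) y₀)
  have hH : Nat.card (MulAction.orbit
        ↥(Subgroup.centralizer ({t} : Set (Matrix.symplecticGroup (Fin m) F))) y₀) *
      Nat.card (MulAction.stabilizer
        ↥(Subgroup.centralizer ({t} : Set (Matrix.symplecticGroup (Fin m) F))) y₀) =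
      Nat.card ↥(Subgroup.centralizer ({t} : Set (Matrix.symplecticGroup (Fin m) F))) := by
    rw [← Nat.card_prod]
    exact Nat.card_congr (MulAction.orbitProdStabilizerEquivGroup
      ↥(Subgroup.centralizer ({t} : Set (Matrix.symplecticGroup (Fin m) F))) y₀)
  have hle := stabilizer_le_centralizer h2 t htt G₀ H hGH hr x₀ hx₀
  have hstab : Nat.card (MulAction.stabilizer
      ↥(Subgroup.centralizer ({t} : Set (Matrix.symplecticGroup (Fin m) F))) y₀) =
      Nat.card (MulAction.stabilizer (Matrix.symplecticGroup (Fin m) F) y₀) := by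
    have h1 : MulAction.stabilizer
        ↥(Subgroup.centralizer ({t} : Set (Matrix.symplecticGroup (Fin m) F))) y₀ =
        (MulAction.stabilizer (Matrix.symplecticGroup (Fin m) F) y₀).subgroupOf
          (Subgroup.centralizer ({t} : Set (Matrix.symplecticGroup (Fin m) F))) := by
      ext h
      rfl
    rw [h1]
    exact Nat.card_congr (Subgroup.subgroupOfEquivOfLe hle).toEquiv
  rw [hstab] at hH
  have hX : Nat.card (MulAction.orbit (Matrix.symplecticGroup (Fin m) F) y₀) =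
      ∏ i ∈ Finset.range s, (Fintype.card F ^ (2 * m - i) - Fintype.card F ^ i) := by
    rw [orbit_eq y₀ hf₀]
    have h1 := card_isoFrames (B := Bsymp m F) (Bsymp_nondegenerate m) (Bsymp_isAlt m) s
    have h3 : finrank F (Fin m ⊕ Fin m → F) = 2 * m := by
      rw [Module.finrank_fintype_fun_eq_card, Fintype.card_sum, Fintype.card_fin]
      ring
    rw [h3] at h1
    exact h1
  have hY : Nat.card (MulAction.orbit
      ↥(Subgroup.centralizer ({t} : Set (Matrix.symplecticGroup (Fin m) F))) y₀) =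
      Nat.card ↥(gramFrames t.1 G₀) := by
    rw [orbit_centralizer_eq h2 t htt G₀ H hGH hr x₀ hx₀]
  rw [← hX, ← hG, ← hH, ← hY]
  ring

include h2 htt hGH hr hx₀ in
/-- Gram frames correspond to the matrices preserving the Gram matrix. -/
theorem card_gramFrames :
    Nat.card ↥(gramFrames t.1 G₀) = Nat.card {C : Matrix (Fin s) (Fin s) F // C * G₀ * Cᵀ = G₀} := by
  have hT := Cfsg.Agent.Lib.Helper44_SpCount.isoB_of_mem t
  have hcard : Fintype.card (Fin s) = (t.1 - 1).rank := by rw [Fintype.card_fin]; exact hr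
  have hinj := comb_injective_sp (Bsymp m F) G₀ H hGH x₀ hx₀
  have hentry : ∀ (C : Matrix (Fin s) (Fin s) F) (i j : Fin s),
      (C * G₀ * Cᵀ) i j = Bsymp m F (comb t.1 x₀ (C i)) (∑ l, C j l • x₀ l) := by
    intro C i j
    rw [B_comb_sum (Bsymp m F) G₀ x₀ hx₀, Matrix.mul_apply]
    simp only [dotProduct, Matrix.vecMul, Matrix.mul_apply, Matrix.transpose_apply]
  symm
  refine Nat.card_congr (Equiv.ofBijective
    (fun C : {C : Matrix (Fin s) (Fin s) F // C * G₀ * Cᵀ = G₀} =>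
      (⟨fun i => comb t.1 x₀ (C.1 i), fun i => ∑ l, C.1 i l • x₀ l, fun i => comb_eq_N _ _,
        fun i j => by
          rw [← comb_eq_N, ← hentry, C.2]⟩ : ↥(gramFrames t.1 G₀))) ⟨?_, ?_⟩)
  · rintro ⟨C, hC⟩ ⟨C', hC'⟩ h
    apply Subtype.ext
    have h1 : (fun i => comb t.1 x₀ (C i)) = fun i => comb t.1 x₀ (C' i) := congrArg Subtype.val h
    ext i j
    exact congrFun (hinj (congrFun h1 i)) j
  · rintro ⟨y, x, hyx, hx⟩
    have hmem : ∀ i, (t.1 - 1) *ᵥ x i ∈ LinearMap.range (comb t.1 x₀) := by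
      intro i
      rw [range_comb_sp (Bsymp m F) G₀ H hGH x₀ hx₀ hcard]
      exact ⟨x i, rfl⟩
    choose a ha using hmem
    have hC : (Matrix.of a : Matrix (Fin s) (Fin s) F) * G₀ * (Matrix.of a)ᵀ = G₀ := by
      ext i j
      rw [hentry]
      show Bsymp m F (comb t.1 x₀ (a i)) (∑ l, a j l • x₀ l) = G₀ i j
      rw [ha i, B_N_left (Bsymp m F) hT htt, ← comb_eq_N, ha j, ← B_N_left (Bsymp m F) hT htt, hx]
    refine ⟨⟨Matrix.of a, hC⟩, ?_⟩
    apply Subtype.ext
    funext i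
    show comb t.1 x₀ (a i) = y i
    rw [ha i, hyx i]

end sp

end Cfsg.Agent.Lib.Helper44_SpCent
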