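import Mathlib
import Cfsg.Agent.Lib.Helper44_SpCent
import Cfsg.Agent.Lib.Helper44_OrthDot
import Cfsg.Agent.Lib.Helper5_SpOrder

set_option autoImplicit false
set_option linter.unusedSectionVars false

/-!
Orders of centralisers of involutions of `Sp_{2m}(q)`, `q` even (helper44):
`|C(t)| = q^(s(s+1)/2 + 2s(m-s)) · |Sp_{2(m-s)}(q)| · |O(G₀)|`, where `s = rank (t - 1)` and `O(G₀)` is the group of the
Gram matrix of the form `B(N x, y)`: the symplectic group `Sp_s(q)` for alternating type, the group of `C Cᵀ = 1` for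
non-alternating type.
-/

namespace Cfsg.Agent.Lib.Helper44_SpCentOrder

open Cfsg Matrix Module Cfsg.Agent.Lib.Helper44_Refl Cfsg.Agent.Lib.Helper44_Inv2
  Cfsg.Agent.Lib.Helper44_Inv2Class Cfsg.Agent.Lib.Helper44_Inv2Sp Cfsg.Agent.Lib.Helper94_Bridge
  Cfsg.Agent.Lib.Helper13_Symp Cfsg.Agent.Lib.Helper44_SpCent Cfsg.Agent.Lib.Helper44_OrthDot

variable {m : ℕ} {F : Type*} [Field F] [Fintype F]

/-- The order of `Sp_{2k}(q)` as a natural number expression. -/
def spOrd (q k : ℕ) : ℕ := q ^ (k ^ 2) * ∏ i ∈ Finset.range k, (q ^ (2 * (i + 1)) - 1)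

theorem prod_pos' (q m s : ℕ) (hq : 1 < q) (hs : s ≤ m) :
    0 < ∏ i ∈ Finset.range s, (q ^ (2 * m - i) - q ^ i) := by
  apply Finset.prod_pos
  intro i hi
  rw [Finset.mem_range] at hi
  have : q ^ i < q ^ (2 * m - i) := Nat.pow_lt_pow_right hq (by omega)
  omega

/-- **General formula** from a Gram family. -/
theorem card_centralizer_of_gram (h2 : (2 : F) = 0) {s : ℕ} (t : Matrix.symplecticGroup (Fin m) F)
    (htt : t.1 * t.1 = 1) (G₀ H : Matrix (Fin s) (Fin s) F) (hGH : G₀ * H = 1)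
    (hr : s = (t.1 - 1).rank) (x₀ : Fin s → (Fin m ⊕ Fin m → F))
    (hx₀ : ∀ i j, Bsymp m F ((t.1 - 1) *ᵥ x₀ i) (x₀ j) = G₀ i j) :
    Nat.card ↥(Subgroup.centralizer ({t} : Set (Matrix.symplecticGroup (Fin m) F))) =
      Fintype.card F ^ (s * (s + 1) / 2 + 2 * s * (m - s)) * spOrd (Fintype.card F) (m - s) *
        Nat.card {C : Matrix (Fin s) (Fin s) F // C * G₀ * Cᵀ = G₀} := by
  have hsm : s ≤ m := by
    have := Cfsg.Agent.Lib.Helper44_SpCount.two_rank_le h2 htt
    rw [Fintype.card_sum, Fintype.card_fin] at this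
    omega
  have hq : 1 < Fintype.card F := Fintype.one_lt_card
  have h1 := card_centralizer_mul h2 t htt G₀ H hGH hr x₀ hx₀
  rw [card_gramFrames h2 t htt G₀ H hGH hr x₀ hx₀,
    Cfsg.Agent.Lib.Helper5_SpOrder.card_sp rfl m] at h1
  have h3 := Cfsg.Agent.S0775.arith (Fintype.card F) m s hsm
  apply Nat.eq_of_mul_eq_mul_right (prod_pos' (Fintype.card F) m s hq hsm)
  rw [h1, ← h3]
  unfold spOrd
  ring

/-- Non-alternating type. -/
theorem card_centralizer_nonalt (h2 : (2 : F) = 0) {s : ℕ} (t : Matrix.symplecticGroup (Fin m) F)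
    (htt : t.1 * t.1 = 1) (hr : (t.1 - 1).rank = s)
    (hna : ∃ v, Bsymp m F ((t.1 - 1) *ᵥ v) v ≠ 0) :
    Nat.card ↥(Subgroup.centralizer ({t} : Set (Matrix.symplecticGroup (Fin m) F))) =
      Fintype.card F ^ (s * (s + 1) / 2 + 2 * s * (m - s)) * spOrd (Fintype.card F) (m - s) *
        ∏ d ∈ Finset.range s, cfac (Fintype.card F) (d + 1) := by
  have hT := Cfsg.Agent.Lib.Helper44_SpCount.isoB_of_mem t
  obtain ⟨x₀, hx₀⟩ := exists_gram_nonalt_sp (Bsymp m F) (Bsymp_nondegenerate m) (Bsymp_isAlt m) h2 hT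
    htt hna hr
  rw [card_centralizer_of_gram h2 t htt 1 1 (Matrix.one_mul 1) hr.symm x₀ hx₀, card_orth h2,
    prod_cfac_reflect]

/-- The standard hyperbolic Gram matrix is Mathlib's `J` in characteristic two. -/
theorem Jm_eq_J (h2 : (2 : F) = 0) (k : ℕ) : (Jm k : Matrix _ _ F) = Matrix.J (Fin k) F := by
  have hneg : (-1 : Matrix (Fin k) (Fin k) F) = 1 := by
    have h1 : (1 : Matrix (Fin k) (Fin k) F) + 1 = 0 := by
      rw [← two_smul F (1 : Matrix (Fin k) (Fin k) F), h2, zero_smul]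
    exact neg_eq_of_add_eq_zero_left h1
  rw [Jm, Matrix.J, hneg]

/-- Alternating type. -/
theorem card_centralizer_alt (h2 : (2 : F) = 0) {s : ℕ} (t : Matrix.symplecticGroup (Fin m) F)
    (htt : t.1 * t.1 = 1) (hr : (t.1 - 1).rank = s)
    (ha : ∀ v, Bsymp m F ((t.1 - 1) *ᵥ v) v = 0) :
    Nat.card ↥(Subgroup.centralizer ({t} : Set (Matrix.symplecticGroup (Fin m) F))) =
      Fintype.card F ^ (s * (s + 1) / 2 + 2 * s * (m - s)) * spOrd (Fintype.card F) (m - s) *
        spOrd (Fintype.card F) (s / 2) := by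
  have hT := Cfsg.Agent.Lib.Helper44_SpCount.isoB_of_mem t
  obtain ⟨k, hk, x, hx⟩ := exists_gram_alt_sp (Bsymp m F) (Bsymp_nondegenerate m) (Bsymp_isAlt m) h2 hT
    htt ha
  have hsk : s = k + k := by omega
  set e : Fin s ≃ Fin k ⊕ Fin k := (finCongr hsk).trans finSumFinEquiv.symm with he
  set G₀ : Matrix (Fin s) (Fin s) F := (Jm k).submatrix e e with hG₀
  have hGH : G₀ * G₀ = 1 := by
    rw [hG₀, Matrix.submatrix_mul_equiv, Jm_mul_Jm, Matrix.submatrix_one_equiv]
  have hx₀ : ∀ i j, Bsymp m F ((t.1 - 1) *ᵥ (x ∘ e) i) ((x ∘ e) j) = G₀ i j := by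
    intro i j
    exact hx (e i) (e j)
  rw [card_centralizer_of_gram h2 t htt G₀ G₀ hGH hr.symm (x ∘ e) hx₀]
  congr 1
  have hk2 : s / 2 = k := by omega
  rw [hk2]
  have hcard : Nat.card {C : Matrix (Fin s) (Fin s) F // C * G₀ * Cᵀ = G₀} =
      Nat.card ↥(Matrix.symplecticGroup (Fin k) F) := by
    apply Nat.card_congr
    refine
      { toFun := fun C => ⟨C.1.submatrix e.symm e.symm, ?_⟩
        invFun := fun D => ⟨D.1.submatrix e e, ?_⟩
        left_inv := fun C => by
          apply Subtype.ext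
          simp
        right_inv := fun D => by
          apply Subtype.ext
          simp }
    · rw [SymplecticGroup.mem_iff, ← Jm_eq_J h2]
      have hC := congrArg (fun M => M.submatrix e.symm e.symm) C.2
      simp only [hG₀] at hC
      rw [← Matrix.submatrix_mul_equiv _ _ e.symm e.symm e.symm,
        ← Matrix.submatrix_mul_equiv _ _ e.symm e.symm e.symm] at hC
      simpa [Matrix.transpose_submatrix] using hC
    · have hD := (SymplecticGroup.mem_iff.mp D.2)
      rw [← Jm_eq_J h2] at hD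
      have hD' := congrArg (fun M => M.submatrix e e) hD
      rw [← Matrix.submatrix_mul_equiv _ _ e e e, ← Matrix.submatrix_mul_equiv _ _ e e e] at hD'
      rw [hG₀]
      simpa [Matrix.transpose_submatrix] using hD'
  rw [hcard, Cfsg.Agent.Lib.Helper5_SpOrder.card_sp rfl k]
  rfl

end Cfsg.Agent.Lib.Helper44_SpCentOrder
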