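import Mathlib
import Cfsg.Agent.Lib.Helper44_OCentOrder
import Cfsg.Agent.Lib.Helper44_OFrameZero
import Cfsg.Agent.Lib.Helper44_SpCentOrder

set_option autoImplicit false
set_option linter.unusedSectionVars false

/-!
Orders of the `Ω`-centralisers of involutions of `O⁺_{2m}(q)`, `q` even (helper44), alternating type `a_s`:
`|C_Ω(t)| · q^(s(s-1)/2) = q^(m(m-1)) · |Sp_s(q)| · |Ω⁺_{2(m-s)}(q)| / q^((m-s)(m-s-1))`.
-/

namespace Cfsg.Agent.Lib.Helper44_OCentOrderAlt

open Cfsg Matrix Module Cfsg.Agent.Lib.Helper44_Refl Cfsg.Agent.Lib.Helper44_Inv2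
  Cfsg.Agent.Lib.Helper44_Inv2Class Cfsg.Agent.Lib.Helper44_OCent Cfsg.Agent.Lib.Helper44_OrthDot
  Cfsg.Agent.Lib.Helper44_OFrameCount Cfsg.Agent.Lib.Helper44_OFrameZero Cfsg.Agent.Lib.Helper44_StdForms
  Cfsg.Agent.Lib.Helper14_CartanDieudonne Cfsg.Agent.Lib.Helper44_Spinor
  Cfsg.Agent.Lib.Helper44_Inv2Conj Cfsg.Agent.Lib.Helper44_OmegaCount Cfsg.Agent.Lib.Helper44_OmegaAll
  Cfsg.Agent.Lib.Helper44_Index Cfsg.Agent.Lib.Helper44_OCentOrder Cfsg.Agent.Lib.Helper44_SpCentOrder

variable {m : ℕ} {F : Type*} [Field F] [Fintype F]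

/-- The matrices preserving a reindexed hyperbolic Gram matrix form a symplectic group. -/
theorem card_gram_J (h2 : (2 : F) = 0) {s k : ℕ} (e : Fin s ≃ Fin k ⊕ Fin k) :
    Nat.card {C : Matrix (Fin s) (Fin s) F //
      C * (Jm k : Matrix _ _ F).submatrix e e * Cᵀ = (Jm k : Matrix _ _ F).submatrix e e} =
      Nat.card ↥(Matrix.symplecticGroup (Fin k) F) := by
  apply Nat.card_congr
  refine
    { toFun := fun C => ⟨C.1.submatrix e.symm e.symm, ?_⟩
      invFun := fun D => ⟨D.1.submatrix e e, ?_⟩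
      left_inv := fun C => by
        apply Subtype.ext
        simp
      right_inv := fun D => by
        apply Subtype.ext
        simp }
  · rw [SymplecticGroup.mem_iff, ← Jm_eq_J h2]
    have hC := congrArg (fun M => M.submatrix e.symm e.symm) C.2
    beta_reduce at hC
    rw [← Matrix.submatrix_mul_equiv _ _ e.symm e.symm e.symm,
      ← Matrix.submatrix_mul_equiv _ _ e.symm e.symm e.symm] at hC
    simpa [Matrix.transpose_submatrix] using hC
  · have hD := (SymplecticGroup.mem_iff.mp D.2)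
    rw [← Jm_eq_J h2] at hD
    have hD' := congrArg (fun M => M.submatrix e e) hD
    rw [← Matrix.submatrix_mul_equiv _ _ e e e, ← Matrix.submatrix_mul_equiv _ _ e e e] at hD'
    simpa [Matrix.transpose_submatrix] using hD'

/-- `R q m = 2 (q^m - 1) ∏_{i<m-1} (q^(2(i+1)) - 1)`. -/
theorem R_eq (q : ℕ) (hq : 1 ≤ q) : ∀ m, 1 ≤ m → R q m = 2 * (q ^ m - 1) * P q (m - 1) := by
  intro m hm
  induction m, hm using Nat.le_induction with
  | base =>
    unfold R P
    simp
    ring
  | succ m hm ih =>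
    rw [R_succ, ih]
    have : m + 1 - 1 = (m - 1) + 1 := by omega
    rw [this, P_succ]
    have e1 : m - 1 + 1 = m := by omega
    rw [e1]
    have h1 : 1 ≤ q ^ m := Nat.one_le_pow _ _ hq
    have h3 : (q ^ m - 1) * (q ^ m + 1) = q ^ (2 * m) - 1 := by
      obtain ⟨a, ha⟩ : ∃ a, q ^ m = a + 1 := ⟨q ^ m - 1, by omega⟩
      have : q ^ (2 * m) = (a + 1) * (a + 1) := by rw [two_mul, pow_add, ha]
      rw [this, ha, Nat.add_sub_cancel]
      have : (a + 1) * (a + 1) = a * (a + 1 + 1) + 1 := by ring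
      rw [this, Nat.add_sub_cancel]
    calc 2 * (q ^ m - 1) * P q (m - 1) * ((q ^ (m + 1) - 1) * (q ^ m + 1))
        = 2 * (q ^ (m + 1) - 1) * (P q (m - 1) * ((q ^ m - 1) * (q ^ m + 1))) := by ring
      _ = _ := by rw [h3]

theorem R_pos (q k : ℕ) (hq : 1 < q) : 0 < R q k := by
  unfold R
  apply Finset.prod_pos
  intro i _
  have : 1 < q ^ (i + 1) := Nat.one_lt_pow (by omega) hq
  have : 0 < q ^ (i + 1) - 1 := by omega
  positivity

/-- **Alternating type**: the order of the centraliser in `O`, in multiplicative form. -/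
theorem card_centralizer_alt_O (h2 : (2 : F) = 0) (hm : 1 ≤ m) {s : ℕ}
    (t : ↥(Cfsg.isometryGroup F (⇑(qfPlus m F))))
    (htt : ((t : Matrix.GeneralLinearGroup (Fin m ⊕ Fin m) F) : Matrix (Fin m ⊕ Fin m) (Fin m ⊕ Fin m) F)
      * ((t : Matrix.GeneralLinearGroup (Fin m ⊕ Fin m) F) : Matrix (Fin m ⊕ Fin m) (Fin m ⊕ Fin m) F) = 1)
    (hr : (((t : Matrix.GeneralLinearGroup (Fin m ⊕ Fin m) F) :
      Matrix (Fin m ⊕ Fin m) (Fin m ⊕ Fin m) F) - 1).rank = s)
    (ha : ∀ v, qfPlus m F ((((t : Matrix.GeneralLinearGroup (Fin m ⊕ Fin m) F) :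
      Matrix (Fin m ⊕ Fin m) (Fin m ⊕ Fin m) F) - 1) *ᵥ v) = 0) :
    Nat.card ↥(Subgroup.centralizer ({t} : Set ↥(Cfsg.isometryGroup F (⇑(qfPlus m F))))) *
      Fintype.card F ^ (s * (s - 1) / 2) =
    Fintype.card F ^ (m * (m - 1)) * spOrd (Fintype.card F) (s / 2) * R (Fintype.card F) (m - s) := by
  classical
  set T := ((t : Matrix.GeneralLinearGroup (Fin m ⊕ Fin m) F) :
    Matrix (Fin m ⊕ Fin m) (Fin m ⊕ Fin m) F) with hTdef
  have hQ : (QuadraticMap.polarBilin (qfPlus m F)).Nondegenerate :=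
    Cfsg.Agent.Lib.Helper44_Levi.nondegenerate_qfPlus m F
  have hT : IsIsom (qfPlus m F) T := isIsom_of_mem (qfPlus m F) t
  have hq : 1 < Fintype.card F := Fintype.one_lt_card
  have hsm : s ≤ m := by
    have := Cfsg.Agent.Lib.Helper44_SpCount.two_rank_le h2 htt
    rw [card_plus_index, hr] at this
    omega
  obtain ⟨k, hk, x, hx⟩ := exists_gram_alt (qfPlus m F) hQ h2 hT htt ha
  have hsk : s = k + k := by omega
  set e : Fin s ≃ Fin k ⊕ Fin k := (finCongr hsk).trans finSumFinEquiv.symm with he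
  set G₀ : Matrix (Fin s) (Fin s) F := (Jm k).submatrix e e with hG₀
  have hGH : G₀ * G₀ = 1 := by
    rw [hG₀, Matrix.submatrix_mul_equiv, Jm_mul_Jm, Matrix.submatrix_one_equiv]
  have hx₀ : ∀ i j, QuadraticMap.polar (⇑(qfPlus m F)) ((T - 1) *ᵥ (x ∘ e) i) ((x ∘ e) j) = G₀ i j := by
    intro i j
    exact hx (e i) (e j)
  have h1 := card_centralizer_mul (qfPlus m F) hQ h2 t htt G₀ G₀ hGH hr.symm (x ∘ e) hx₀
  rw [card_gramFrames (qfPlus m F) hQ h2 t htt G₀ G₀ hGH hr.symm (x ∘ e) hx₀, hG₀, card_gram_J h2 e,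
    Cfsg.Agent.Lib.Helper5_SpOrder.card_sp rfl k] at h1
  have hfr : Nat.card ↥(qFrames (s := s) (qfPlus m F)
      (fun i => ((Jm k : Matrix _ _ F).submatrix e e) i i)) = Nat.card (QF (qfPlus m F) s 0) := by
    have : (fun i => ((Jm k : Matrix _ _ F).submatrix e e) i i) = fun _ => (0 : F) := by
      funext i
      rw [Matrix.submatrix_apply, Jm]
      rcases e i with a | a
      · simp
      · simp
    rw [this]
    rfl
  rw [hfr] at h1
  have hO : Nat.card ↥(Cfsg.isometryGroup F (⇑(qfPlus m F))) =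
      Fintype.card F ^ (m * (m - 1)) * R (Fintype.card F) m := by
    have := Cfsg.Agent.S0287.result (F := F) rfl m hm
    rw [← coe_qfPlus] at this
    rw [this, R_eq (Fintype.card F) hq.le m hm]
    unfold P
    ring
  rw [hO] at h1
  have hfc := card_QF_zero_plus (m := m) (F := F) h2 s hsm
  have hk2 : s / 2 = k := by omega
  rw [hk2]
  apply Nat.eq_of_mul_eq_mul_left (R_pos (Fintype.card F) m hq)
  calc R (Fintype.card F) m *
        (Nat.card ↥(Subgroup.centralizer ({t} : Set ↥(Cfsg.isometryGroup F (⇑(qfPlus m F))))) *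
          Fintype.card F ^ (s * (s - 1) / 2))
      = Nat.card ↥(Subgroup.centralizer ({t} : Set ↥(Cfsg.isometryGroup F (⇑(qfPlus m F))))) *
          (Fintype.card F ^ (s * (s - 1) / 2) * R (Fintype.card F) m) := by ring
    _ = Nat.card ↥(Subgroup.centralizer ({t} : Set ↥(Cfsg.isometryGroup F (⇑(qfPlus m F))))) *
          Nat.card (QF (qfPlus m F) s 0) * R (Fintype.card F) (m - s) := by rw [← hfc]; ring
    _ = _ := by
      rw [h1]
      unfold spOrd
      ring

/-- **Alternating type**: the order of the `Ω`-centraliser, in multiplicative form. -/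
theorem card_omega_centralizer_alt (h2 : (2 : F) = 0) (hex : Fintype.card F ≠ 2 ∨ m ≠ 2) {s : ℕ}
    (t : ↥(Cfsg.isometryGroup F (⇑(qfPlus m F))))
    (htt : ((t : Matrix.GeneralLinearGroup (Fin m ⊕ Fin m) F) : Matrix (Fin m ⊕ Fin m) (Fin m ⊕ Fin m) F)
      * ((t : Matrix.GeneralLinearGroup (Fin m ⊕ Fin m) F) : Matrix (Fin m ⊕ Fin m) (Fin m ⊕ Fin m) F) = 1)
    (hr : (((t : Matrix.GeneralLinearGroup (Fin m ⊕ Fin m) F) :
      Matrix (Fin m ⊕ Fin m) (Fin m ⊕ Fin m) F) - 1).rank = s) (hs1 : 1 ≤ s)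
    (ha : ∀ v, qfPlus m F ((((t : Matrix.GeneralLinearGroup (Fin m ⊕ Fin m) F) :
      Matrix (Fin m ⊕ Fin m) (Fin m ⊕ Fin m) F) - 1) *ᵥ v) = 0) :
    Nat.card {g : ↥(Cfsg.Omega F (⇑(qfPlus m F))) //
        (g : ↥(Cfsg.isometryGroup F (⇑(qfPlus m F)))) * t = t * (g : ↥(Cfsg.isometryGroup F (⇑(qfPlus m F))))} *
      Fintype.card F ^ (s * (s - 1) / 2) =
    Fintype.card F ^ (m * (m - 1)) * spOrd (Fintype.card F) (s / 2) *
      (if s = m then 1 else (Fintype.card F ^ (m - s) - 1) * P (Fintype.card F) (m - s - 1)) := by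
  classical
  set T := ((t : Matrix.GeneralLinearGroup (Fin m ⊕ Fin m) F) :
    Matrix (Fin m ⊕ Fin m) (Fin m ⊕ Fin m) F) with hTdef
  have hQ : (QuadraticMap.polarBilin (qfPlus m F)).Nondegenerate :=
    Cfsg.Agent.Lib.Helper44_Levi.nondegenerate_qfPlus m F
  have hT : IsIsom (qfPlus m F) T := isIsom_of_mem (qfPlus m F) t
  have hq : 1 < Fintype.card F := Fintype.one_lt_card
  have hsm : s ≤ m := by
    have := Cfsg.Agent.Lib.Helper44_SpCount.two_rank_le h2 htt
    rw [card_plus_index, hr] at this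
    omega
  have hm : 1 ≤ m := le_trans hs1 hsm
  have hex' := hex_plus hex
  have hmemC : ∀ g : ↥(Cfsg.isometryGroup F (⇑(qfPlus m F))),
      g ∈ Subgroup.centralizer ({t} : Set ↥(Cfsg.isometryGroup F (⇑(qfPlus m F)))) ↔ g * t = t * g := by
    intro g
    rw [Subgroup.mem_centralizer_iff]
    constructor
    · intro h
      exact (h t rfl).symm
    · intro h y hy
      rw [Set.mem_singleton_iff] at hy
      subst hy
      exact h.symm
  have hmain := card_centralizer_alt_O h2 hm t htt hr ha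
  by_cases hcase : s = m
  · rw [if_pos hcase, mul_one]
    -- the centraliser lies in `Ω`
    have hU0 : ∀ u ∈ LinearMap.range (T - 1).mulVecLin, qfPlus m F u = 0 := by
      rintro _ ⟨v, rfl⟩
      exact ha v
    have hUm : finrank F ↥(LinearMap.range (T - 1).mulVecLin) = m := by
      have h8 : (T - 1).rank = finrank F ↥(LinearMap.range (T - 1).mulVecLin) := rfl
      omega
    have hle : ∀ g : ↥(Cfsg.isometryGroup F (⇑(qfPlus m F))), g * t = t * g →
        g ∈ Cfsg.Omega F (⇑(qfPlus m F)) := by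
      intro g hg
      rw [mem_omega_iff_parity h2 (qfPlus m F) hQ hex' card_plus_index _ hU0 hUm g]
      have hconj : g * t * g⁻¹ = t := by rw [hg, mul_inv_cancel_right]
      have hrc := range_conj (⇑(qfPlus m F)) g t t hconj
      rw [← hrc, inf_idem, hUm, Nat.sub_self]
      exact ⟨0, rfl⟩
    have hX : Nat.card {g : ↥(Cfsg.Omega F (⇑(qfPlus m F))) //
        (g : ↥(Cfsg.isometryGroup F (⇑(qfPlus m F)))) * t = t * (g : ↥(Cfsg.isometryGroup F (⇑(qfPlus m F))))} =
        Nat.card ↥(Subgroup.centralizer ({t} : Set ↥(Cfsg.isometryGroup F (⇑(qfPlus m F))))) := by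
      apply Nat.card_congr
      exact
        { toFun := fun g => ⟨g.1.1, (hmemC g.1.1).mpr g.2⟩
          invFun := fun g => ⟨⟨g.1, hle g.1 ((hmemC g.1).mp g.2)⟩, (hmemC g.1).mp g.2⟩
          left_inv := fun g => rfl
          right_inv := fun g => rfl }
    rw [hX, hmain, hcase, Nat.sub_self]
    unfold R
    simp
  · rw [if_neg hcase]
    have hlt : s < m := lt_of_le_of_ne hsm hcase
    -- a fixed non-singular vector
    obtain ⟨v, hTv, hv⟩ : ∃ v, T *ᵥ v = v ∧ (qfPlus m F) v ≠ 0 := by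
      by_contra hcon
      push Not at hcon
      have := (rank_of_fixed_singular (qfPlus m F) hQ h2 hT htt hcon).1
      rw [card_plus_index, hr] at this
      omega
    have hidx := index_omega_two h2 (qfPlus m F) hQ hex' hv
    have hcomm : reflT (qfPlus m F) v * t = t * reflT (qfPlus m F) v := by
      apply Subtype.ext
      apply Units.ext
      show ((reflT (qfPlus m F) v : Matrix.GeneralLinearGroup (Fin m ⊕ Fin m) F) : Matrix _ _ F) * T
        = T * ((reflT (qfPlus m F) v : Matrix.GeneralLinearGroup (Fin m ⊕ Fin m) F) : Matrix _ _ F)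
      rw [reflT_coe (qfPlus m F) v hv]
      exact refl_comm_of_fixed (qfPlus m F) hT hTv
    have hrefl : reflT (qfPlus m F) v ∉ Cfsg.Omega F (⇑(qfPlus m F)) := by
      have := prod_mem_omega_iff_even h2 (qfPlus m F) hQ hex' [v] (by simpa using hv)
      simp only [List.map_cons, List.map_nil, List.prod_cons, List.prod_nil, mul_one,
        List.length_cons, List.length_nil] at this
      rw [this]
      decide
    have hC := card_centralizer_eq_two_mul (Cfsg.Omega F (⇑(qfPlus m F))) hidx t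
      (reflT (qfPlus m F) v) hcomm hrefl
    rw [hC, R_eq (Fintype.card F) hq.le (m - s) (by omega)] at hmain
    apply Nat.eq_of_mul_eq_mul_left (by norm_num : 0 < 2)
    rw [← mul_assoc, hmain]
    ring

end Cfsg.Agent.Lib.Helper44_OCentOrderAlt
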