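import Mathlib
import Cfsg.Agent.Lib.Helper94_OD3Defs

set_option autoImplicit false
set_option linter.unusedSectionVars false
set_option linter.unusedVariables false

namespace Cfsg.Agent.Lib.Helper52_OD3_WITT

open Module Cfsg.Agent.Lib.Helper94_Symp Cfsg.Agent.Lib.Helper94_OrthSmall
  Cfsg.Agent.Lib.Helper94_OrthSiegel Cfsg.Agent.Lib.Helper94_OrthNondeg
  Cfsg.Agent.Lib.Helper29_ODDefs Cfsg.Agent.Lib.Helper94_Q2Defs Cfsg.Agent.Lib.Helper94_OD3Defs

variable {F V : Type*} [Field F] [AddCommGroup V] [Module F V] [Finite F] [FiniteDimensional F V]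
  {Q : V → F} {B : LinearMap.BilinForm F V} {t k : ℕ} {D : Fin t → Submodule F V}
  {S M L : Subgroup (V ≃ₗ[F] V)}

section

variable (hQs : ∀ (c : F) (v : V), Q (c • v) = c * c * Q v)
  (hQp : ∀ u v : V, Q (u + v) = Q u + Q v + B u v)

include hQs hQp in
lemma h52_Q_sub (p q : V) : Q (p - q) = Q p + Q q - B p q := by
  have := Q_add_smul Q B hQs hQp p q (-1)
  rw [neg_one_smul, ← sub_eq_add_neg] at this
  rw [this]; ring

lemma h52_refl_move {p q : V} (hpq : Q p = Q q) (hd : Q (p - q) ≠ 0) :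
    refl Q B hQs hQp hd p = q := by
  have hQd := h52_Q_sub hQs hQp p q
  have hB : B p (p - q) = Q (p - q) := by
    rw [map_sub, B_self Q B hQs hQp, hQd, hpq]; ring
  rw [refl_apply, hB, inv_mul_cancel₀ hd, one_smul, sub_sub_cancel]

lemma h52_refl_fix {b x : V} (hb : Q b ≠ 0) (hx : B x b = 0) :
    refl Q B hQs hQp hb x = x := by
  rw [refl_apply, hx, mul_zero, zero_smul, sub_zero]

lemma h52_refl_refl {a : V} (ha : Q a ≠ 0) (x : V) :
    refl Q B hQs hQp ha (refl Q B hQs hQp ha x) = x := by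
  have := reflLin_invol Q B hQs hQp ha x
  simpa [Helper94_OrthSmall.refl] using this

include hQs hQp in
lemma h52_exists_nonsing_orth (A : Submodule F V)
    (hA : ∀ a ∈ A, a ≠ 0 → ∃ x ∈ A, B x a ≠ 0)
    (h2A : 2 ≤ finrank F A) (h2 : (2 : F) ≠ 0) {v : V} (hv : v ∈ A) (hQv : Q v ≠ 0) :
    ∃ b ∈ A, B v b = 0 ∧ Q b ≠ 0 := by
  have hsymm := B_symm Q B hQp
  have hvv : B v v ≠ 0 := by rw [B_self Q B hQs hQp]; exact mul_ne_zero h2 hQv
  have h1 := finrank_le_inf_ker_add_one A (B.flip v)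
  have hpos : 0 < finrank F (A ⊓ LinearMap.ker (B.flip v) : Submodule F V) := by omega
  obtain ⟨⟨w, hw⟩, hw0⟩ := Module.finrank_pos_iff_exists_ne_zero.mp hpos
  have hw0' : w ≠ 0 := fun h => hw0 (Subtype.ext h)
  have hwA : w ∈ A := hw.1
  have hwv : B w v = 0 := mem_ker_flip.mp hw.2
  by_cases hQw : Q w = 0
  · obtain ⟨x, hxA, hxw⟩ := hA w hwA hw0'
    obtain ⟨x', hx'⟩ : ∃ x' : V, x' = x - (B x v / B v v) • v := ⟨_, rfl⟩
    have hx'A : x' ∈ A := by rw [hx']; exact A.sub_mem hxA (A.smul_mem _ hv)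
    have hx'v : B v x' = 0 := by
      rw [hx', map_sub, map_smul, smul_eq_mul, hsymm v x]; field_simp; ring
    have hx'w : B x' w ≠ 0 := by
      rw [hx', LinearMap.BilinForm.sub_left, LinearMap.BilinForm.smul_left, hsymm v w, hwv,
        mul_zero, sub_zero]
      exact hxw
    by_cases hQx' : Q x' = 0
    · refine ⟨x' + w, A.add_mem hx'A hwA, ?_, ?_⟩
      · rw [map_add, hx'v, hsymm v w, hwv, add_zero]
      · rw [hQp, hQx', hQw, zero_add, zero_add]; exact hx'w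
    · exact ⟨x', hx'A, hx'v, hQx'⟩
  · exact ⟨w, hwA, by rw [hsymm]; exact hwv, hQw⟩

include hQs hQp in
lemma h52_exists_x0 (A : Submodule F V) (hA : ∀ a ∈ A, a ≠ 0 → ∃ x ∈ A, B x a ≠ 0)
    (h3 : 3 ≤ finrank F A)
    (hex : Nat.card F = 2 → finrank F A = 4 → ∀ u ∈ A, ∀ v ∈ A, Q u = 0 → Q v = 0 → B u v = 0 →
      u = 0 ∨ v = 0 ∨ u = v) (h2 : (2 : F) = 0) {u v : V} (hu : u ∈ A) (hv : v ∈ A)
    (h : Q u = Q v) (hne : Q u ≠ 0) (huv : B u v = 0) (hneq : u ≠ v) :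
    ∃ x0 ∈ A, Q x0 ≠ 0 ∧ B u x0 ≠ 0 ∧ B v x0 ≠ 0 := by
  have hsymm := B_symm Q B hQp
  have hself : ∀ x, B x x = 0 := fun x => by rw [B_self Q B hQs hQp, h2, zero_mul]
  have hu0 : u ≠ 0 := fun h0 => hne (by rw [h0, Q_zero Q hQs])
  have hv0 : v ≠ 0 := fun h0 => hne (by rw [h, h0, Q_zero Q hQs])
  -- step 1: x1
  obtain ⟨x1, hx1A, hx1u, hx1v⟩ : ∃ x1 ∈ A, B u x1 ≠ 0 ∧ B v x1 ≠ 0 := by
    obtain ⟨p, hpA, hpu⟩ := hA u hu hu0
    obtain ⟨q, hqA, hqv⟩ := hA v hv hv0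
    by_cases hpv : B p v = 0
    · by_cases hqu : B q u = 0
      · refine ⟨p + q, A.add_mem hpA hqA, ?_, ?_⟩
        · rw [map_add, hsymm u q, hqu, add_zero, hsymm]; exact hpu
        · rw [map_add, hsymm v p, hpv, zero_add, hsymm]; exact hqv
      · exact ⟨q, hqA, by rw [hsymm]; exact hqu, by rw [hsymm]; exact hqv⟩
    · exact ⟨p, hpA, by rw [hsymm]; exact hpu, by rw [hsymm]; exact hpv⟩
  by_cases hQx1 : Q x1 ≠ 0
  · exact ⟨x1, hx1A, hQx1, hx1u, hx1v⟩
  push Not at hQx1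
  by_cases hF : ∀ c : F, c = 0 ∨ c = 1
  swap
  · -- more than two elements
    push Not at hF
    obtain ⟨c0, hc0, hc1⟩ := hF
    obtain ⟨l, hl⟩ : ∃ l : F, l = c0 * (B u x1 / Q u) := ⟨_, rfl⟩
    refine ⟨x1 + l • u, A.add_mem hx1A (A.smul_mem _ hu), ?_, ?_, ?_⟩
    · rw [Q_add_smul Q B hQs hQp, hQx1, zero_add, hsymm x1 u]
      have e : l * l * Q u + l * B u x1 = l * B u x1 * (c0 + 1) := by
        rw [hl]; field_simp
      rw [e]
      have hc1' : c0 + 1 ≠ 0 := by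
        intro h0
        apply hc1
        linear_combination h0 - h2
      have hl0 : l ≠ 0 := by rw [hl]; exact mul_ne_zero hc0 (div_ne_zero hx1u hne)
      exact mul_ne_zero (mul_ne_zero hl0 hx1u) hc1'
    · rw [map_add, map_smul, hself, smul_zero, add_zero]; exact hx1u
    · rw [map_add, map_smul, hsymm v u, huv, smul_zero, add_zero]; exact hx1v
  -- two elements
  have hcard : Nat.card F = 2 := by
    rw [Nat.card_eq_two_iff]
    refine ⟨0, 1, zero_ne_one, ?_⟩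
    ext c
    simp only [Set.mem_insert_iff, Set.mem_singleton_iff, Set.mem_univ, iff_true]
    exact hF c
  by_contra hno
  have hno' : ∀ x0 ∈ A, B u x0 ≠ 0 → B v x0 ≠ 0 → Q x0 = 0 := by
    intro x0 hx0 h1 h2'
    by_contra h3'
    exact hno ⟨x0, hx0, h3', h1, h2'⟩
  have hR1 : ∀ y ∈ A, B u y = 0 → B v y = 0 → Q y = - B x1 y := by
    intro y hy hyu hyv
    have := hno' (x1 + y) (A.add_mem hx1A hy) (by rw [map_add, hyu, add_zero]; exact hx1u)
      (by rw [map_add, hyv, add_zero]; exact hx1v)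
    rw [hQp, hQx1, zero_add] at this
    linear_combination this
  have hR2 : ∀ y ∈ A, B u y = 0 → B v y = 0 → ∀ y2 ∈ A, B u y2 = 0 → B v y2 = 0 →
      B y y2 = 0 := by
    intro y hy hyu hyv y2 hy2 hy2u hy2v
    have e1 := hR1 y hy hyu hyv
    have e2 := hR1 y2 hy2 hy2u hy2v
    have e3 := hR1 (y + y2) (A.add_mem hy hy2) (by rw [map_add, hyu, hy2u, add_zero])
      (by rw [map_add, hyv, hy2v, add_zero])
    rw [hQp, map_add] at e3
    linear_combination e3 - e1 - e2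
  have hnm1 : ∀ μ : F, v ≠ μ • u := by
    intro μ hμ
    rcases hF μ with h0 | h1
    · rw [h0, zero_smul] at hμ; exact hv0 hμ
    · rw [h1, one_smul] at hμ; exact hneq hμ.symm
  have hnm2 : ∀ μ : F, u ≠ μ • v := by
    intro μ hμ
    rcases hF μ with h0 | h1
    · rw [h0, zero_smul] at hμ; exact hu0 hμ
    · rw [h1, one_smul] at hμ; exact hneq hμ
  obtain ⟨q0, hq0A, hq0u, hq0v⟩ :=
    Cfsg.Agent.Lib.Helper94_OrthRefl.exists_orth_not_orth hQp A hA hu hv hnm1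
  obtain ⟨p0, hp0A, hp0v, hp0u⟩ :=
    Cfsg.Agent.Lib.Helper94_OrthRefl.exists_orth_not_orth hQp A hA hv hu hnm2
  have hx1u1 : B u x1 = 1 := (hF _).resolve_left hx1u
  have hx1v1 : B v x1 = 1 := (hF _).resolve_left hx1v
  have hne4 : finrank F A ≠ 4 := by
    intro h4
    have := hex hcard h4 x1 hx1A (u + v) (A.add_mem hu hv) hQx1
      (by rw [hQp, huv, add_zero, ← h, ← two_mul, h2, zero_mul])
      (by rw [map_add, hsymm x1 u, hsymm x1 v, hx1u1, hx1v1, one_add_one_eq_two, h2])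
    rcases this with h0 | h0 | h0
    · apply hx1u; rw [h0, map_zero]
    · have hvv : v + v = 0 := by rw [← two_smul F v, h2, zero_smul]
      exact hneq (add_right_cancel (h0.trans hvv.symm))
    · apply hx1u; rw [h0, map_add, hself, huv, add_zero]
  -- the kernel chain
  have hK1 : (A ⊓ LinearMap.ker (B.flip u) : Submodule F V) < A := by
    refine SetLike.lt_iff_le_and_exists.mpr ⟨inf_le_left, p0, hp0A, fun hh => ?_⟩
    exact hp0u (by rw [hsymm]; exact mem_ker_flip.mp hh.2)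
  have hK2 : (A ⊓ LinearMap.ker (B.flip u) ⊓ LinearMap.ker (B.flip v) : Submodule F V) <
      A ⊓ LinearMap.ker (B.flip u) := by
    refine SetLike.lt_iff_le_and_exists.mpr ⟨inf_le_left, q0,
      Submodule.mem_inf.mpr ⟨hq0A, mem_ker_flip.mpr (by rw [hsymm]; exact hq0u)⟩, fun hh => ?_⟩
    exact hq0v (by rw [hsymm]; exact mem_ker_flip.mp hh.2)
  have hK3 : (A ⊓ LinearMap.ker (B.flip u) ⊓ LinearMap.ker (B.flip v) ⊓
      LinearMap.ker (B.flip p0) : Submodule F V) <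
      A ⊓ LinearMap.ker (B.flip u) ⊓ LinearMap.ker (B.flip v) := by
    refine SetLike.lt_iff_le_and_exists.mpr ⟨inf_le_left, u,
      Submodule.mem_inf.mpr ⟨Submodule.mem_inf.mpr ⟨hu, mem_ker_flip.mpr (hself u)⟩,
        mem_ker_flip.mpr huv⟩, fun hh => ?_⟩
    exact hp0u (mem_ker_flip.mp hh.2)
  have hK3pos : 0 < finrank F (A ⊓ LinearMap.ker (B.flip u) ⊓ LinearMap.ker (B.flip v) ⊓
      LinearMap.ker (B.flip p0) : Submodule F V) := by
    refine Module.finrank_pos_iff_exists_ne_zero.mpr ⟨⟨v, ⟨⟨⟨hv, mem_ker_flip.mpr ?_⟩,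
      mem_ker_flip.mpr (hself v)⟩, mem_ker_flip.mpr hp0v⟩⟩, fun hh => hv0 (congrArg Subtype.val hh)⟩
    rw [hsymm]; exact huv
  have l1 := Submodule.finrank_lt_finrank_of_lt hK1
  have l2 := Submodule.finrank_lt_finrank_of_lt hK2
  have l3 := Submodule.finrank_lt_finrank_of_lt hK3
  have m1 := finrank_le_inf_ker_add_one A (B.flip u)
  have m2 := finrank_le_inf_ker_add_one (A ⊓ LinearMap.ker (B.flip u)) (B.flip v)
  have m3 := finrank_le_inf_ker_add_one (A ⊓ LinearMap.ker (B.flip u) ⊓ LinearMap.ker (B.flip v))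
    (B.flip p0)
  have m4 := finrank_le_inf_ker_add_one (A ⊓ LinearMap.ker (B.flip u) ⊓ LinearMap.ker (B.flip v) ⊓
    LinearMap.ker (B.flip p0)) (B.flip q0)
  have hpos : 0 < finrank F (A ⊓ LinearMap.ker (B.flip u) ⊓ LinearMap.ker (B.flip v) ⊓
    LinearMap.ker (B.flip p0) ⊓ LinearMap.ker (B.flip q0) : Submodule F V) := by omega
  obtain ⟨⟨y, hy⟩, hy0⟩ := Module.finrank_pos_iff_exists_ne_zero.mp hpos
  have hy0' : y ≠ 0 := fun hh => hy0 (Subtype.ext hh)
  have hyA : y ∈ A := hy.1.1.1.1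
  have hyu : B y u = 0 := mem_ker_flip.mp hy.1.1.1.2
  have hyv : B y v = 0 := mem_ker_flip.mp hy.1.1.2
  have hyp : B y p0 = 0 := mem_ker_flip.mp hy.1.2
  have hyq : B y q0 = 0 := mem_ker_flip.mp hy.2
  obtain ⟨y2', hy2'A, hy2'y⟩ := hA y hyA hy0'
  obtain ⟨y2, hy2⟩ : ∃ y2 : V, y2 = y2' - (B y2' u / B p0 u) • p0 - (B y2' v / B q0 v) • q0 :=
    ⟨_, rfl⟩
  have hp0u' : B p0 u ≠ 0 := by rw [hsymm]; exact hp0u
  have hq0v' : B q0 v ≠ 0 := by rw [hsymm]; exact hq0v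
  have hy2A : y2 ∈ A := by
    rw [hy2]; exact A.sub_mem (A.sub_mem hy2'A (A.smul_mem _ hp0A)) (A.smul_mem _ hq0A)
  have hy2u : B u y2 = 0 := by
    rw [hy2, map_sub, map_sub, map_smul, map_smul, hq0u, smul_zero, sub_zero, smul_eq_mul,
      hsymm u y2', hsymm u p0, div_mul_cancel₀ _ hp0u', sub_self]
  have hy2v : B v y2 = 0 := by
    rw [hy2, map_sub, map_sub, map_smul, map_smul, hp0v, smul_zero, sub_zero, smul_eq_mul,
      hsymm v y2', hsymm v q0, div_mul_cancel₀ _ hq0v', sub_self]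
  have hyy2 : B y y2 ≠ 0 := by
    rw [hy2, map_sub, map_sub, map_smul, map_smul, hyp, hyq, smul_zero, smul_zero, sub_zero,
      sub_zero, hsymm]
    exact hy2'y
  exact hyy2 (hR2 y hyA (by rw [hsymm]; exact hyu) (by rw [hsymm]; exact hyv) y2 hy2A hy2u hy2v)

end

/-- **OD3-WITT** -/
theorem WITT (hQs : ∀ (c : F) (v : V), Q (c • v) = c * c * Q v)
    (hQp : ∀ u v : V, Q (u + v) = Q u + Q v + B u v) (A : Submodule F V)
    (hA : ∀ a ∈ A, a ≠ 0 → ∃ x ∈ A, B x a ≠ 0) (h3 : 3 ≤ finrank F A)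
    (hex : Nat.card F = 2 → finrank F A = 4 → ∀ u ∈ A, ∀ v ∈ A, Q u = 0 → Q v = 0 → B u v = 0 →
      u = 0 ∨ v = 0 ∨ u = v) {u v : V} (hu : u ∈ A)
    (hv : v ∈ A) (h : Q u = Q v) (hne : Q u ≠ 0) :
    ∃ a b : V, a ∈ A ∧ b ∈ A ∧ ∃ (ha : Q a ≠ 0) (hb : Q b ≠ 0),
      refl Q B hQs hQp hb (refl Q B hQs hQp ha u) = v := by
  have hsymm := B_symm Q B hQp
  have hQv : Q v ≠ 0 := h ▸ hne
  by_cases huv : u = v
  · subst huv
    exact ⟨u, u, hu, hu, hne, hne, h52_refl_refl hQs hQp hne u⟩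
  by_cases hd : Q (u - v) ≠ 0
  · by_cases h2 : (2 : F) = 0
    · refine ⟨u - v, v, A.sub_mem hu hv, hv, hd, hQv, ?_⟩
      rw [h52_refl_move hQs hQp h hd]
      exact h52_refl_fix hQs hQp hQv (by rw [B_self Q B hQs hQp, h2, zero_mul])
    · obtain ⟨b, hbA, hvb, hQb⟩ := h52_exists_nonsing_orth hQs hQp A hA (by omega) h2 hv hQv
      refine ⟨u - v, b, A.sub_mem hu hv, hbA, hd, hQb, ?_⟩
      rw [h52_refl_move hQs hQp h hd]
      exact h52_refl_fix hQs hQp hQb hvb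
  · push Not at hd
    have hBuv : B u v = 2 * Q u := by
      have := h52_Q_sub hQs hQp u v
      rw [hd, ← h] at this
      linear_combination this
    by_cases h2 : (2 : F) = 0
    · have huv0 : B u v = 0 := by rw [hBuv, h2, zero_mul]
      obtain ⟨x0, hx0A, hQx0, hux0, hvx0⟩ :=
        h52_exists_x0 hQs hQp A hA h3 hex h2 hu hv h hne huv0 huv
      obtain ⟨w, hw⟩ : ∃ w : V, w = refl Q B hQs hQp hQx0 u := ⟨_, rfl⟩
      have hwA : w ∈ A := by
        rw [hw, refl_apply]; exact A.sub_mem hu (A.smul_mem _ hx0A)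
      have hQw : Q w = Q v := by rw [hw, refl_mem Q B hQs hQp hQx0 u]; exact h
      have hBwv : B w v = - ((Q x0)⁻¹ * B u x0 * B x0 v) := by
        rw [hw, refl_apply, LinearMap.BilinForm.sub_left, LinearMap.BilinForm.smul_left, huv0]
        ring
      have hdw : Q (w - v) ≠ 0 := by
        rw [h52_Q_sub hQs hQp, hQw, hBwv, ← two_mul, h2, zero_mul, zero_sub, neg_neg]
        exact mul_ne_zero (mul_ne_zero (inv_ne_zero hQx0) hux0) (by rw [hsymm]; exact hvx0)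
      refine ⟨x0, w - v, hx0A, A.sub_mem hwA hv, hQx0, hdw, ?_⟩
      rw [← hw]
      exact h52_refl_move hQs hQp hQw hdw
    · have hQs' : Q (u + v) = 4 * Q u := by rw [hQp, hBuv, ← h]; ring
      have h4 : (4 : F) ≠ 0 := by
        have : (4 : F) = 2 * 2 := by norm_num
        rw [this]; exact mul_ne_zero h2 h2
      have hd' : Q (u + v) ≠ 0 := by rw [hQs']; exact mul_ne_zero h4 hne
      refine ⟨u + v, v, A.add_mem hu hv, hv, hd', hQv, ?_⟩
      have e1 : refl Q B hQs hQp hd' u = -v := by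
        rw [refl_apply, map_add, B_self Q B hQs hQp, hBuv, hQs']
        have : (4 * Q u)⁻¹ * (2 * Q u + 2 * Q u) = 1 := by field_simp; ring
        rw [this, one_smul]; abel
      rw [e1, refl_apply, LinearMap.BilinForm.neg_left, B_self Q B hQs hQp]
      have : (Q v)⁻¹ * -(2 * Q v) = -2 := by field_simp
      rw [this, neg_smul, two_smul]; abel

end Cfsg.Agent.Lib.Helper52_OD3_WITT
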