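import Mathlib
import Cfsg.Agent.Lib.Helper94_OD3Defs
import Cfsg.Agent.Lib.Helper73_OD_3CYC
import Cfsg.Agent.Lib.Helper74_OD_BASIC
import Cfsg.Agent.Lib.Helper52_OD3_WITT

set_option autoImplicit false
set_option linter.unusedSectionVars false
set_option linter.unusedVariables false

/-!
OD3-TRANS (helper94's OD3 market, rows S5692 / S5694): `H = S ⊓ Ω` is transitive on the nonsingular
block vectors of a given norm.  `TRANS_of` takes the statement of OD3-WITT as a hypothesis (the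
block reflection statement OD3-BLREFL is re-proved here as `blrefl`).
-/

namespace Cfsg.Agent.Lib.Helper44_OD3_TRANS

open Module Cfsg.Agent.Lib.Helper94_Symp Cfsg.Agent.Lib.Helper94_OrthSmall
  Cfsg.Agent.Lib.Helper94_OrthSiegel Cfsg.Agent.Lib.Helper94_OrthNondeg
  Cfsg.Agent.Lib.Helper29_ODDefs Cfsg.Agent.Lib.Helper94_Q2Defs Cfsg.Agent.Lib.Helper94_OD3Defs

open scoped commutatorElement

variable {F V : Type*} [Field F] [AddCommGroup V] [Module F V] [Finite F] [FiniteDimensional F V]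
  {Q : V → F} {B : LinearMap.BilinForm F V} {t k : ℕ} {D : Fin t → Submodule F V}
  {S M L : Subgroup (V ≃ₗ[F] V)}

/-- `Ω = [O, O] ≤ O`. -/
lemma omega_le_oG : ⁅oG Q, oG Q⁆ ≤ oG Q := by
  rw [Subgroup.commutator_le]
  intro g₁ h₁ g₂ h₂
  rw [commutatorElement_def]
  exact (oG Q).mul_mem ((oG Q).mul_mem ((oG Q).mul_mem h₁ h₂) ((oG Q).inv_mem h₁))
    ((oG Q).inv_mem h₂)

/-- a reflection in a nonsingular vector `a` of the block `D j` maps every block into itself -/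
lemma refl_block (hQs : ∀ (c : F) (v : V), Q (c • v) = c * c * Q v)
    (hQp : ∀ u v : V, Q (u + v) = Q u + Q v + B u v) (hD : ODec Q B k D)
    {j : Fin t} {a : V} (ha : a ∈ D j) (hQa : Q a ≠ 0) (i : Fin t) (v : V) (hv : v ∈ D i) :
    refl Q B hQs hQp hQa v ∈ D i := by
  rw [refl_apply]
  by_cases hij : i = j
  · subst hij
    exact (D i).sub_mem hv ((D i).smul_mem _ ha)
  · rw [hD.orth i j hij v hv a ha, mul_zero, zero_smul, sub_zero]
    exact hv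

/-- (OD3-BLREFL) a reflection in a nonsingular vector of a block lies in `S` -/
lemma blrefl (hQs : ∀ (c : F) (v : V), Q (c • v) = c * c * Q v)
    (hQp : ∀ u v : V, Q (u + v) = Q u + Q v + B u v) (hD : ODec Q B k D) (hS : IsDStab D S)
    {j : Fin t} {a : V} (ha : a ∈ D j) (hQa : Q a ≠ 0) : refl Q B hQs hQp hQa ∈ S :=
  Cfsg.Agent.Lib.Helper74_OD_BASIC.mem_dstab_of_forall hD.fr hS _
    (fun i v hv => refl_block hQs hQp hD ha hQa i v hv)

/-- an element of `H = S ⊓ Ω` mapping the block `D i` onto the block `D j` -/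
lemma exists_move (hQs : ∀ (c : F) (v : V), Q (c • v) = c * c * Q v)
    (hQp : ∀ u v : V, Q (u + v) = Q u + Q v + B u v) (hN : B.Nondegenerate)
    (hD : ODec Q B k D) (ht : 3 ≤ t) (hS : IsDStab D S) (i j : Fin t) (hij : i ≠ j) :
    ∃ g ∈ S ⊓ ⁅oG Q, oG Q⁆, ∀ v ∈ D i, g v ∈ D j := by
  -- a third index
  obtain ⟨c, hci, hcj⟩ : ∃ c : Fin t, c ≠ i ∧ c ≠ j := by
    by_contra hcon
    push Not at hcon
    have h1 : (Finset.univ : Finset (Fin t)) ⊆ {i, j} := by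
      intro c _
      by_cases hci : c = i
      · simp [hci]
      · simp [hcon c hci]
    have h2 := Finset.card_le_card h1
    rw [Finset.card_univ, Fintype.card_fin] at h2
    have h3 : ({i, j} : Finset (Fin t)).card ≤ 2 := Finset.card_le_two
    omega
  obtain ⟨g, hgO, σ, hσ, hσi, _⟩ :=
    Cfsg.Agent.Lib.Helper73_OD_3CYC.three_cycles hQs hQp hN hD i j c hij (Ne.symm hci)
      (Ne.symm hcj)
  refine ⟨g, Subgroup.mem_inf.mpr ⟨(hS g).mpr ⟨σ, hσ⟩, hgO⟩, fun v hv => ?_⟩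
  have h1 : g v ∈ (D i).map (g : V →ₗ[F] V) := ⟨v, hv, rfl⟩
  rw [hσ i, hσi] at h1
  exact h1

/-- for a nonsingular `a ∈ D j` there is an element of `H` acting on `D j` as the reflection in `a` -/
lemma exists_refl_on (hQs : ∀ (c : F) (v : V), Q (c • v) = c * c * Q v)
    (hQp : ∀ u v : V, Q (u + v) = Q u + Q v + B u v) (hN : B.Nondegenerate)
    (hD : ODec Q B k D) (ht : 3 ≤ t) (hS : IsDStab D S) {j : Fin t} {a : V} (ha : a ∈ D j)
    (hQa : Q a ≠ 0) :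
    ∃ ρ ∈ S ⊓ ⁅oG Q, oG Q⁆, ∀ v ∈ D j, ρ v = refl Q B hQs hQp hQa v := by
  -- another block
  obtain ⟨j', hj'⟩ : ∃ j' : Fin t, j ≠ j' := by
    by_contra hcon
    push Not at hcon
    have h1 : (Finset.univ : Finset (Fin t)) ⊆ {j} := by
      intro c _
      simp [(hcon c).symm]
    have h2 := Finset.card_le_card h1
    rw [Finset.card_univ, Fintype.card_fin, Finset.card_singleton] at h2
    omega
  obtain ⟨g, hgH, hg⟩ := exists_move hQs hQp hN hD ht hS j j' hj'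
  have hgS := (Subgroup.mem_inf.mp hgH).1
  have hgΩ := (Subgroup.mem_inf.mp hgH).2
  have hgO : g ∈ oG Q := omega_le_oG hgΩ
  have hrS : refl Q B hQs hQp hQa ∈ S := blrefl hQs hQp hD hS ha hQa
  have hrO : refl Q B hQs hQp hQa ∈ oG Q := refl_mem Q B hQs hQp hQa
  refine ⟨⁅refl Q B hQs hQp hQa, g⁆, Subgroup.mem_inf.mpr ⟨?_, ?_⟩, ?_⟩
  · rw [commutatorElement_def]
    exact S.mul_mem (S.mul_mem (S.mul_mem hrS hgS) (S.inv_mem hrS)) (S.inv_mem hgS)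
  · exact Subgroup.commutator_mem_commutator hrO hgO
  · intro v hv
    have hQga : Q (g a) ≠ 0 := by rw [hgO a]; exact hQa
    have h1 : ⁅refl Q B hQs hQp hQa, g⁆ =
        refl Q B hQs hQp hQa * refl Q B hQs hQp hQga := by
      rw [commutatorElement_def, refl_inv Q B hQs hQp hQa, mul_assoc, mul_assoc,
        ← mul_assoc g, conj_refl Q B hQs hQp hgO hQa]
    rw [h1, LinearEquiv.mul_apply]
    congr 1
    rw [refl_apply, hD.orth j j' hj' v hv (g a) (hg a ha), mul_zero, zero_smul, sub_zero]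

/-- **OD3-TRANS**, with the statement of OD3-WITT as a hypothesis. -/
theorem TRANS_of (hQs : ∀ (c : F) (v : V), Q (c • v) = c * c * Q v)
    (hQp : ∀ u v : V, Q (u + v) = Q u + Q v + B u v)
    (hWITT : ∀ (A : Submodule F V), (∀ a ∈ A, a ≠ 0 → ∃ x ∈ A, B x a ≠ 0) → 3 ≤ finrank F A →
      (Nat.card F = 2 → finrank F A = 4 → ∀ u ∈ A, ∀ v ∈ A, Q u = 0 → Q v = 0 → B u v = 0 →
        u = 0 ∨ v = 0 ∨ u = v) → ∀ {u v : V}, u ∈ A → v ∈ A → Q u = Q v → Q u ≠ 0 →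
      ∃ a b : V, a ∈ A ∧ b ∈ A ∧ ∃ (ha : Q a ≠ 0) (hb : Q b ≠ 0),
        refl Q B hQs hQp hb (refl Q B hQs hQp ha u) = v)
    (hN : B.Nondegenerate)
    (hD : ODec Q B k D) (hk : 3 ≤ k) (ht : 3 ≤ t) (hS : IsDStab D S) (hex : NotO4p2 Q B k D)
    {x y : V} (hx : IsBlN Q D x) (hy : IsBlN Q D y) (h : Q x = Q y) :
    ∃ h ∈ S ⊓ ⁅oG Q, oG Q⁆, h x = y := by
  obtain ⟨hQx, i, hxi⟩ := hx
  obtain ⟨hQy, j, hyj⟩ := hy
  -- move `x` into `D j`
  obtain ⟨g₃, hg₃H, hg₃⟩ : ∃ g ∈ S ⊓ ⁅oG Q, oG Q⁆, g x ∈ D j := by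
    by_cases hij : i = j
    · subst hij
      exact ⟨1, (S ⊓ ⁅oG Q, oG Q⁆).one_mem, hxi⟩
    · obtain ⟨g, hgH, hg⟩ := exists_move hQs hQp hN hD ht hS i j hij
      exact ⟨g, hgH, hg x hxi⟩
  have hg₃O : g₃ ∈ oG Q := omega_le_oG (Subgroup.mem_inf.mp hg₃H).2
  have hQx' : Q (g₃ x) = Q y := by rw [hg₃O x, h]
  have hQx'0 : Q (g₃ x) ≠ 0 := by rw [hQx']; exact hQy
  obtain ⟨a, b, haj, hbj, hQa, hQb, hab⟩ := hWITT (D j) (hD.nd j) (by rw [hD.fr j]; exact hk)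
    (fun h2 h4 => hex h2 (by rw [hD.fr j] at h4; exact h4) j) hg₃ hyj hQx' hQx'0
  obtain ⟨ρa, hρaH, hρa⟩ := exists_refl_on hQs hQp hN hD ht hS haj hQa
  obtain ⟨ρb, hρbH, hρb⟩ := exists_refl_on hQs hQp hN hD ht hS hbj hQb
  refine ⟨ρb * ρa * g₃, (S ⊓ ⁅oG Q, oG Q⁆).mul_mem ((S ⊓ ⁅oG Q, oG Q⁆).mul_mem hρbH hρaH) hg₃H,
    ?_⟩
  rw [LinearEquiv.mul_apply, LinearEquiv.mul_apply, hρa _ hg₃,
    hρb _ (refl_block hQs hQp hD haj hQa j _ hg₃), hab]

/-- **OD3-TRANS** (verbatim). -/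
theorem TRANS (hQs : ∀ (c : F) (v : V), Q (c • v) = c * c * Q v)
    (hQp : ∀ u v : V, Q (u + v) = Q u + Q v + B u v) (hN : B.Nondegenerate)
    (hD : ODec Q B k D) (hk : 3 ≤ k) (ht : 3 ≤ t) (hS : IsDStab D S) (hex : NotO4p2 Q B k D)
    {x y : V} (hx : IsBlN Q D x) (hy : IsBlN Q D y) (h : Q x = Q y) :
    ∃ h ∈ S ⊓ ⁅oG Q, oG Q⁆, h x = y :=
  TRANS_of hQs hQp
    (fun A hA h3 hex' _ _ hu hv h hne =>
      Cfsg.Agent.Lib.Helper52_OD3_WITT.WITT hQs hQp A hA h3 hex' hu hv h hne)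
    hN hD hk ht hS hex hx hy h

end Cfsg.Agent.Lib.Helper44_OD3_TRANS
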