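import Mathlib

/-!
# OO2-NOFIX (cutter helper87, S2344): an irreducible representation of dimension at least two has
no non-zero fixed vector.
-/

set_option autoImplicit false
set_option linter.unusedSectionVars false

namespace Cfsg.Agent.Lib.Helper44_OO2_NOFIX

open Module

variable {X : Type*} [AddCommGroup X] [Module ℂ X] [FiniteDimensional ℂ X]

theorem nofix_of_irr {G : Type*} [Group G] (ρ : Representation ℂ G X) (hirr : ρ.IsIrreducible)
    (h2 : 2 ≤ finrank ℂ X) (x : X) (hx : ∀ g : G, ρ g x = x) : x = 0 := by
  by_contra hx0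
  let τ : Subrepresentation ρ :=
    ⟨Submodule.span ℂ {x}, fun g y hy => by
      obtain ⟨a, rfl⟩ := Submodule.mem_span_singleton.1 hy
      rw [map_smul, hx g]
      exact Submodule.smul_mem _ _ (Submodule.mem_span_singleton_self _)⟩
  rcases hirr.eq_bot_or_eq_top τ with h | h
  · have h1 : x ∈ τ.toSubmodule := Submodule.mem_span_singleton_self _
    rw [h] at h1
    exact hx0 ((Submodule.mem_bot ℂ).mp h1)
  · have h1 : τ.toSubmodule = ⊤ := by
      rw [h]
      rfl
    have h4 : Module.finrank ℂ (Submodule.span ℂ {x}) = Module.finrank ℂ X := by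
      have h5 : Submodule.span ℂ {x} = ⊤ := h1
      rw [h5, finrank_top]
    rw [finrank_span_singleton hx0] at h4
    omega

end Cfsg.Agent.Lib.Helper44_OO2_NOFIX
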