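import Mathlib
import Cfsg.Agent.Lib.Helper97_OX3Defs
import Cfsg.Agent.Lib.Helper94_OrthVec

set_option autoImplicit false
set_option linter.unusedSectionVars false
set_option linter.unusedVariables false

/-!
# OEXT3 market (architect helper97), package G4_THRU: `exists_pair_through`

Every nonzero singular vector of a quadratic space containing a totally singular line lies on a
totally singular line.
-/

namespace Cfsg.Agent.Lib.Helper44_OX3_G4_THRU

open Module Cfsg.Agent.Lib.Helper94_OrthSmall Cfsg.Agent.Lib.Helper94_OrthSiegel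
  Cfsg.Agent.Lib.Helper98_ExtDefs Cfsg.Agent.Lib.Helper97_OX2Defs
  Cfsg.Agent.Lib.Helper97_OX3Defs
open scoped commutatorElement

section GEO

variable {K V : Type*} [Field K] [AddCommGroup V] [Module K V]
  (Q : V → K) (B : LinearMap.BilinForm K V)
  (hQs : ∀ (c : K) (v : V), Q (c • v) = c * c * Q v)
  (hQp : ∀ u v : V, Q (u + v) = Q u + Q v + B u v)

include hQs hQp

theorem h44_B_symm (x y : V) : B x y = B y x := by
  have h1 := hQp x y
  have h2 := hQp y x
  rw [add_comm y x] at h2
  have : Q x + Q y + B x y = Q y + Q x + B y x := by rw [← h1, ← h2]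
  linear_combination this

theorem h44_B_self {u : V} (hu : Q u = 0) : B u u = 0 := by
  have h1 := hQp u u
  have h2 := hQs (1 + 1) u
  rw [add_smul, one_smul] at h2
  rw [h2, hu] at h1
  linear_combination -h1

/-- G4_THRU: in a space of Witt index two every nonzero singular vector lies on a totally
singular line -/
theorem exists_pair_through [FiniteDimensional K V] (hN : B.Nondegenerate) (hs : Split3 Q B)
    {p : V} (hp0 : p ≠ 0) (hp : Q p = 0) : ∃ a : V, TSPair Q B p a := by
  obtain ⟨u, w, hu, hw, huw, hind⟩ := hs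
  have hsym := h44_B_symm Q B hQs hQp
  have huu : B u u = 0 := h44_B_self Q B hQs hQp hu
  have hww : B w w = 0 := h44_B_self Q B hQs hQp hw
  have hwu : B w u = 0 := by rw [hsym, huw]
  -- independence from `p` of a vector outside `K p`
  have hpair : ∀ a : V, Q a = 0 → B p a = 0 → (∀ c : K, a ≠ c • p) → TSPair Q B p a := by
    intro a ha hpa hne
    refine ⟨hp, ha, hpa, ?_⟩
    intro c d hcd
    have hd : d = 0 := by
      by_contra hd
      apply hne (-(d⁻¹ * c))
      have h1 : d • a = -(c • p) := by
        rw [eq_neg_iff_add_eq_zero, add_comm]; exact hcd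
      have h2 : a = d⁻¹ • (d • a) := by rw [smul_smul, inv_mul_cancel₀ hd, one_smul]
      rw [h2, h1, smul_neg, smul_smul, neg_smul]
    subst hd
    rw [zero_smul, add_zero] at hcd
    exact ⟨(smul_eq_zero.mp hcd).resolve_right hp0, rfl⟩
  by_cases hst : B u p = 0 ∧ B w p = 0
  · -- both orthogonal to `p`: one of them is not a multiple of `p`
    obtain ⟨hs0, ht0⟩ := hst
    by_cases hu' : ∀ c : K, u ≠ c • p
    · exact ⟨u, hpair u hu (by rw [hsym, hs0]) hu'⟩
    · by_cases hw' : ∀ c : K, w ≠ c • p
      · exact ⟨w, hpair w hw (by rw [hsym, ht0]) hw'⟩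
      · exfalso
        push Not at hu' hw'
        obtain ⟨c, hc⟩ := hu'
        obtain ⟨d, hd⟩ := hw'
        have h1 : d • u + (-c) • w = 0 := by
          rw [hc, hd, smul_smul, smul_smul, neg_mul, neg_smul, mul_comm, add_neg_cancel]
        obtain ⟨hd0, hc0⟩ := hind _ _ h1
        rw [neg_eq_zero] at hc0
        rw [hc0, zero_smul] at hc
        have h2 : (1 : K) • u + (0 : K) • w = 0 := by rw [hc, smul_zero, zero_smul, add_zero]
        exact one_ne_zero (hind _ _ h2).1
  · -- `a₀ = t u - s w` with `s = B u p`, `t = B w p`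
    refine ⟨B w p • u + (-(B u p)) • w, hpair _ ?_ ?_ ?_⟩
    · rw [hQp, hQs, hQs, hu, hw]
      simp only [map_smul, LinearMap.smul_apply, huw, smul_eq_mul, mul_zero, add_zero]
    · rw [map_add, map_smul, map_smul, hsym p u, hsym p w]
      simp only [smul_eq_mul]
      ring
    · intro c hc
      apply hst
      have hc0 : c ≠ 0 := by
        rintro rfl
        rw [zero_smul] at hc
        obtain ⟨h1, h2⟩ := hind _ _ hc
        rw [neg_eq_zero] at h2
        exact hst ⟨h2, h1⟩
      have hp' : p = c⁻¹ • (B w p • u + (-(B u p)) • w) := by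
        rw [hc, smul_smul, inv_mul_cancel₀ hc0, one_smul]
      constructor
      · rw [hp']
        simp only [map_smul, map_add, huu, huw, smul_eq_mul, mul_zero, add_zero]
      · rw [hp']
        simp only [map_smul, map_add, hwu, hww, smul_eq_mul, mul_zero, add_zero]

end GEO

end Cfsg.Agent.Lib.Helper44_OX3_G4_THRU
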