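import Mathlib
import Cfsg.Agent.Lib.Helper44_GenCD
import Cfsg.Agent.Lib.Helper44_OMinusCount
import Cfsg.Agent.Lib.Helper44_WittIndexMinus

set_option autoImplicit false
set_option linter.unusedSectionVars false

/-!
Classes of involutions of `Ω⁻_{2(n+1)}(q)`, `q` even (helper44): Cartan–Dieudonné for all minus-type forms (the case
`O⁻_4(2)` through Witt index one), involutions of `Ω⁻` are those of even rank, `O`-conjugate involutions are
`Ω`-conjugate, and the count `(n+1)/2 + n/2`.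
-/

namespace Cfsg.Agent.Lib.Helper44_OmegaMinusCount

open Cfsg Matrix Module Cfsg.Agent.Lib.Helper44_Orth Cfsg.Agent.Lib.Helper44_Refl
  Cfsg.Agent.Lib.Helper44_Spinor Cfsg.Agent.Lib.Helper14_CartanDieudonne
  Cfsg.Agent.Lib.Helper44_Inv2 Cfsg.Agent.Lib.Helper44_Inv2Class Cfsg.Agent.Lib.Helper44_Inv2Conj
  Cfsg.Agent.Lib.Helper44_InvCount Cfsg.Agent.Lib.Helper44_SpCount
  Cfsg.Agent.Lib.Helper44_StdForms Cfsg.Agent.Lib.Helper44_OCount Cfsg.Agent.Lib.Helper44_OMinusCount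
  Cfsg.Agent.Lib.Helper44_GenCD Cfsg.Agent.Lib.Helper44_WittIndexMinus

variable {n : ℕ} {F : Type*} [Field F] [Fintype F] (a b : F)

theorem card_minus_index : Fintype.card ((Fin n ⊕ Fin n) ⊕ Fin 2) = 2 * (n + 1) := by
  simp [Fintype.card_sum]; ring

/-- Cartan–Dieudonné for every minus-type form in characteristic two. -/
theorem hasCD_minus (h2 : (2 : F) = 0)
    (hab : ∀ z₁ z₂ : F, z₁ ^ 2 + a * z₁ * z₂ + b * z₂ ^ 2 = 0 → z₁ = 0 ∧ z₂ = 0)
    (hQ : (QuadraticMap.polarBilin (qfMinus n F a b)).Nondegenerate) : HasCD (qfMinus n F a b) := by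
  by_cases hn : n ≤ 1
  · apply hasCD_of_witt_le_one h2 _ hQ
    intro U hU
    exact (ts_finrank_le n a b hab hQ U hU).trans hn
  · apply hasCD_of_hex _ hQ
    right
    rw [card_minus_index]
    omega

/-- Involutions of `Ω⁻`: even rank. -/
theorem involution_mem_omega_iff_minus (h2 : (2 : F) = 0)
    (hab : ∀ z₁ z₂ : F, z₁ ^ 2 + a * z₁ * z₂ + b * z₂ ^ 2 = 0 → z₁ = 0 ∧ z₂ = 0)
    (hQ : (QuadraticMap.polarBilin (qfMinus n F a b)).Nondegenerate)
    (t : ↥(Cfsg.isometryGroup F (⇑(qfMinus n F a b)))) (ht : t * t = 1) :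
    t ∈ Cfsg.Omega F (⇑(qfMinus n F a b)) ↔
      Even (((t : Matrix.GeneralLinearGroup ((Fin n ⊕ Fin n) ⊕ Fin 2) F) :
        Matrix ((Fin n ⊕ Fin n) ⊕ Fin 2) ((Fin n ⊕ Fin n) ⊕ Fin 2) F) - 1).rank := by
  by_cases hn : n ≤ 1
  · apply involution_mem_omega_iff_of_witt_le_one h2 _ hQ _ t ht
    intro U hU
    exact (ts_finrank_le n a b hab hQ U hU).trans hn
  · apply involution_mem_omega_iff h2 _ hQ _ t ht
    rw [card_minus_index]
    omega

/-- `O`-conjugate involutions of `O⁻` are `Ω`-conjugate. -/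
theorem omega_conj_minus (h2 : (2 : F) = 0)
    (hab : ∀ z₁ z₂ : F, z₁ ^ 2 + a * z₁ * z₂ + b * z₂ ^ 2 = 0 → z₁ = 0 ∧ z₂ = 0)
    (hQ : (QuadraticMap.polarBilin (qfMinus n F a b)).Nondegenerate)
    (t s g₀ : ↥(Cfsg.isometryGroup F (⇑(qfMinus n F a b)))) (htt : t * t = 1)
    (hg₀ : g₀ * t * g₀⁻¹ = s) :
    ∃ g ∈ Cfsg.Omega F (⇑(qfMinus n F a b)), g * t * g⁻¹ = s := by
  have hTT : ((t : Matrix.GeneralLinearGroup ((Fin n ⊕ Fin n) ⊕ Fin 2) F) :
        Matrix ((Fin n ⊕ Fin n) ⊕ Fin 2) ((Fin n ⊕ Fin n) ⊕ Fin 2) F)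
      * ((t : Matrix.GeneralLinearGroup ((Fin n ⊕ Fin n) ⊕ Fin 2) F) :
        Matrix ((Fin n ⊕ Fin n) ⊕ Fin 2) ((Fin n ⊕ Fin n) ⊕ Fin 2) F) = 1 := by
    have := congrArg (fun g : ↥(Cfsg.isometryGroup F (⇑(qfMinus n F a b))) =>
      ((g : Matrix.GeneralLinearGroup ((Fin n ⊕ Fin n) ⊕ Fin 2) F) :
        Matrix ((Fin n ⊕ Fin n) ⊕ Fin 2) ((Fin n ⊕ Fin n) ⊕ Fin 2) F)) htt
    exact this
  have hT := isIsom_of_mem (qfMinus n F a b) t
  by_contra hno
  have hfix : ∀ v, ((t : Matrix.GeneralLinearGroup ((Fin n ⊕ Fin n) ⊕ Fin 2) F) :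
        Matrix ((Fin n ⊕ Fin n) ⊕ Fin 2) ((Fin n ⊕ Fin n) ⊕ Fin 2) F) *ᵥ v = v →
      qfMinus n F a b v = 0 := by
    intro v hTv
    by_contra hv
    exact hno (conj_in_omega_of_fixed_nonsingular_of_cd h2 _ hQ (hasCD_minus a b h2 hab hQ)
      t s g₀ hg₀ hv hTv)
  obtain ⟨hr, hts⟩ := rank_of_fixed_singular (qfMinus n F a b) hQ h2 hT hTT hfix
  have hle := ts_finrank_le n a b hab hQ (LinearMap.range
    (((t : Matrix.GeneralLinearGroup ((Fin n ⊕ Fin n) ⊕ Fin 2) F) :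
      Matrix ((Fin n ⊕ Fin n) ⊕ Fin 2) ((Fin n ⊕ Fin n) ⊕ Fin 2) F) - 1).mulVecLin)
    (by rintro _ ⟨x, rfl⟩; exact hts x)
  have hrk : (((t : Matrix.GeneralLinearGroup ((Fin n ⊕ Fin n) ⊕ Fin 2) F) :
      Matrix ((Fin n ⊕ Fin n) ⊕ Fin 2) ((Fin n ⊕ Fin n) ⊕ Fin 2) F) - 1).rank
      = finrank F ↥(LinearMap.range
    (((t : Matrix.GeneralLinearGroup ((Fin n ⊕ Fin n) ⊕ Fin 2) F) :
      Matrix ((Fin n ⊕ Fin n) ⊕ Fin 2) ((Fin n ⊕ Fin n) ⊕ Fin 2) F) - 1).mulVecLin) := rfl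
  rw [card_minus_index] at hr
  omega

theorem minusD_mul_self (h2 : (2 : F) = 0) (s : ℕ) :
    minusD (n := n) a b h2 s * minusD a b h2 s = 1 := by
  apply Subtype.ext
  apply Units.ext
  exact bl_mul_self (swapM_mul_self _) (Rm_mul_self h2 a)

theorem minusA_mul_self (h2 : (2 : F) = 0) (s : ℕ) :
    minusA (n := n) a b h2 s * minusA a b h2 s = 1 := by
  apply Subtype.ext
  apply Units.ext
  exact bl_mul_self (upper_sq h2 _) (Matrix.one_mul 1)

theorem minusD_mem (h2 : (2 : F) = 0)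
    (hab : ∀ z₁ z₂ : F, z₁ ^ 2 + a * z₁ * z₂ + b * z₂ ^ 2 = 0 → z₁ = 0 ∧ z₂ = 0)
    (hQ : (QuadraticMap.polarBilin (qfMinus n F a b)).Nondegenerate) (ha : a ≠ 0)
    {s : ℕ} (hs0 : 0 < s) (hs : s ≤ n + 1) (hev : Even s) :
    minusD (n := n) a b h2 s ∈ Cfsg.Omega F (⇑(qfMinus n F a b)) := by
  rw [involution_mem_omega_iff_minus a b h2 hab hQ _ (minusD_mul_self a b h2 s)]
  have := congrArg Prod.fst (oInv_minusD (n := n) a b h2 ha hs0 hs)
  simp only [oInv] at this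
  rw [this]
  exact hev

theorem minusA_mem (h2 : (2 : F) = 0)
    (hab : ∀ z₁ z₂ : F, z₁ ^ 2 + a * z₁ * z₂ + b * z₂ ^ 2 = 0 → z₁ = 0 ∧ z₂ = 0)
    (hQ : (QuadraticMap.polarBilin (qfMinus n F a b)).Nondegenerate)
    {s : ℕ} (hs : s ≤ n) (hev : Even s) :
    minusA (n := n) a b h2 s ∈ Cfsg.Omega F (⇑(qfMinus n F a b)) := by
  rw [involution_mem_omega_iff_minus a b h2 hab hQ _ (minusA_mul_self a b h2 s)]
  have := congrArg Prod.fst (oInv_minusA (n := n) a b h2 hs hev)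
  simp only [oInv] at this
  rw [this]
  exact hev

theorem orderOf_minusD (h2 : (2 : F) = 0) (ha : a ≠ 0) {s : ℕ} (hs0 : 0 < s) (hs : s ≤ n + 1) :
    orderOf (minusD (n := n) a b h2 s) = 2 := by
  apply orderOf_of_oInv
  have := congrArg Prod.fst (oInv_minusD (n := n) a b h2 ha hs0 hs)
  rw [minusD, oInv_mkIso] at this
  simp only at this
  rw [this]
  exact hs0

theorem orderOf_minusA (h2 : (2 : F) = 0) {s : ℕ} (hs0 : 0 < s) (hs : s ≤ n) (hev : Even s) :
    orderOf (minusA (n := n) a b h2 s) = 2 := by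
  apply orderOf_of_oInv
  have := congrArg Prod.fst (oInv_minusA (n := n) a b h2 hs hev)
  rw [minusA, oInv_mkIso] at this
  simp only at this
  rw [this]
  exact hs0

/-- **Number of classes of involutions in `Ω⁻_{2(n+1)}(q)`, `q` even.** -/
theorem card_omega_minus_involution_classes (h2 : (2 : F) = 0)
    (hab : ∀ z₁ z₂ : F, z₁ ^ 2 + a * z₁ * z₂ + b * z₂ ^ 2 = 0 → z₁ = 0 ∧ z₂ = 0)
    (hQ : (QuadraticMap.polarBilin (qfMinus n F a b)).Nondegenerate) (ha : a ≠ 0) :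
    Nat.card {C : ConjClasses ↥(Cfsg.Omega F (⇑(qfMinus n F a b))) //
      ∃ g : ↥(Cfsg.Omega F (⇑(qfMinus n F a b))), ConjClasses.mk g = C ∧ orderOf g = 2}
      = (n + 1) / 2 + n / 2 := by
  classical
  have key := card_involution_classes (G := ↥(Cfsg.Omega F (⇑(qfMinus n F a b))))
    (κ := Fin ((n + 1) / 2) ⊕ Fin (n / 2))
    (fun g => oInv (qfMinus n F a b) (g : ↥(Cfsg.isometryGroup F (⇑(qfMinus n F a b)))))
    ?_ ?_
    (fun x => Sum.elim
      (fun k : Fin ((n + 1) / 2) => (⟨minusD a b h2 (2 * (k.val + 1)),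
        minusD_mem a b h2 hab hQ ha (by omega) (by have := k.2; omega) ⟨k.val + 1, by ring⟩⟩ :
          ↥(Cfsg.Omega F (⇑(qfMinus n F a b)))))
      (fun k : Fin (n / 2) => (⟨minusA a b h2 (2 * (k.val + 1)),
        minusA_mem a b h2 hab hQ (by have := k.2; omega) ⟨k.val + 1, by ring⟩⟩ :
          ↥(Cfsg.Omega F (⇑(qfMinus n F a b))))) x)
    ?_ ?_ ?_
  · rw [key, Nat.card_sum, Nat.card_fin, Nat.card_fin]
  · -- invariance
    intro g h hgh
    obtain ⟨c, hc'⟩ := isConj_iff.mp hgh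
    have hc : (c : ↥(Cfsg.isometryGroup F (⇑(qfMinus n F a b)))) * g
        * (c : ↥(Cfsg.isometryGroup F (⇑(qfMinus n F a b))))⁻¹ = h := by
      have := congrArg (fun x : ↥(Cfsg.Omega F (⇑(qfMinus n F a b))) =>
        (x : ↥(Cfsg.isometryGroup F (⇑(qfMinus n F a b))))) hc'
      exact this
    exact oInv_conj (qfMinus n F a b) h2 _ _ (isConj_iff.mpr ⟨c, hc⟩)
  · -- completeness
    intro g h hg hh hI
    have hg' : orderOf (g : ↥(Cfsg.isometryGroup F (⇑(qfMinus n F a b)))) = 2 := by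
      rw [Subgroup.orderOf_coe]; exact hg
    have hh' : orderOf (h : ↥(Cfsg.isometryGroup F (⇑(qfMinus n F a b)))) = 2 := by
      rw [Subgroup.orderOf_coe]; exact hh
    obtain ⟨g₀, hg₀'⟩ := isConj_iff.mp (isConj_of_oInv (qfMinus n F a b) hQ h2 _ _ hg' hh' hI)
    have htt : (g : ↥(Cfsg.isometryGroup F (⇑(qfMinus n F a b)))) * g = 1 := by
      have := pow_orderOf_eq_one (g : ↥(Cfsg.isometryGroup F (⇑(qfMinus n F a b))))
      rw [hg', pow_two] at this
      exact this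
    obtain ⟨c, hcΩ, hc⟩ := omega_conj_minus a b h2 hab hQ _ _ g₀ htt hg₀'
    rw [isConj_iff]
    exact ⟨⟨c, hcΩ⟩, Subtype.ext hc⟩
  · rintro (k | k)
    · simp only [Sum.elim_inl]
      rw [Subgroup.orderOf_mk]
      exact orderOf_minusD a b h2 ha (by omega) (by have := k.2; omega)
    · simp only [Sum.elim_inr]
      rw [Subgroup.orderOf_mk]
      exact orderOf_minusA a b h2 (by omega) (by have := k.2; omega) ⟨k.val + 1, by ring⟩
  · rintro (k | k) (k' | k') h <;>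
      simp only [Function.comp_apply, Sum.elim_inl, Sum.elim_inr] at h
    · rw [oInv_minusD a b h2 ha (by omega) (by have := k.2; omega),
        oInv_minusD a b h2 ha (by omega) (by have := k'.2; omega)] at h
      have := congrArg Prod.fst h
      simp only at this
      congr 1
      exact Fin.ext (by omega)
    · rw [oInv_minusD a b h2 ha (by omega) (by have := k.2; omega),
        oInv_minusA a b h2 (by have := k'.2; omega) ⟨k'.val + 1, by ring⟩] at h
      have := congrArg Prod.snd h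
      simp at this
    · rw [oInv_minusD a b h2 ha (by omega) (by have := k'.2; omega),
        oInv_minusA a b h2 (by have := k.2; omega) ⟨k.val + 1, by ring⟩] at h
      have := congrArg Prod.snd h
      simp at this
    · rw [oInv_minusA a b h2 (by have := k.2; omega) ⟨k.val + 1, by ring⟩,
        oInv_minusA a b h2 (by have := k'.2; omega) ⟨k'.val + 1, by ring⟩] at h
      have := congrArg Prod.fst h
      simp only at this
      congr 1
      exact Fin.ext (by omega)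
  · intro g hg
    have hg' : orderOf (g : ↥(Cfsg.isometryGroup F (⇑(qfMinus n F a b)))) = 2 := by
      rw [Subgroup.orderOf_coe]; exact hg
    obtain ⟨hpos, hle⟩ := involution_facts (qfMinus n F a b) h2
      (g : ↥(Cfsg.isometryGroup F (⇑(qfMinus n F a b)))) hg'
    rw [card_minus_index] at hle
    have htt : (g : ↥(Cfsg.isometryGroup F (⇑(qfMinus n F a b)))) * g = 1 := by
      have := pow_orderOf_eq_one (g : ↥(Cfsg.isometryGroup F (⇑(qfMinus n F a b))))
      rw [hg', pow_two] at this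
      exact this
    have hev := (involution_mem_omega_iff_minus a b h2 hab hQ
      (g : ↥(Cfsg.isometryGroup F (⇑(qfMinus n F a b)))) htt).mp g.2
    obtain ⟨k, hk⟩ := hev
    set T := (((g : ↥(Cfsg.isometryGroup F (⇑(qfMinus n F a b)))) :
      Matrix.GeneralLinearGroup ((Fin n ⊕ Fin n) ⊕ Fin 2) F) :
        Matrix ((Fin n ⊕ Fin n) ⊕ Fin 2) ((Fin n ⊕ Fin n) ⊕ Fin 2) F) with hTdef
    by_cases halt : ∀ v, qfMinus n F a b ((T - 1) *ᵥ v) = 0
    · have hts := ts_finrank_le n a b hab hQ (LinearMap.range (T - 1).mulVecLin)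
        (by rintro _ ⟨x, rfl⟩; exact halt x)
      have hrk : (T - 1).rank = finrank F ↥(LinearMap.range (T - 1).mulVecLin) := rfl
      refine ⟨Sum.inr ⟨k - 1, by omega⟩, ?_⟩
      simp only [Sum.elim_inr]
      rw [oInv_minusA a b h2 (by omega) ⟨k - 1 + 1, by ring⟩]
      apply Prod.ext
      · show 2 * (k - 1 + 1) = (T - 1).rank
        omega
      · show True = _
        exact (eq_true halt).symm
    · refine ⟨Sum.inl ⟨k - 1, by omega⟩, ?_⟩
      simp only [Sum.elim_inl]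
      rw [oInv_minusD a b h2 ha (by omega) (by omega)]
      apply Prod.ext
      · show 2 * (k - 1 + 1) = (T - 1).rank
        omega
      · show False = _
        exact (eq_false halt).symm

end Cfsg.Agent.Lib.Helper44_OmegaMinusCount
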