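import Mathlib
import Cfsg.Agent.Lib.Helper44_NormCount
import Cfsg.Agent.Lib.Helper44_Inv2Sp
import Cfsg.Agent.Lib.Helper44_Refl
import Cfsg.Agent.Lib.Helper44_QuadClass

set_option autoImplicit false
set_option linter.unusedSectionVars false

/-!
Isometries `X` of a non-degenerate alternating form `B` with `X² + X + 1 = 0` (helper44): the quadratic form
`φ(v) = B(v, X v)`, `X`-orthonormal frames `(f_i)` (`B(f_i, f_j) = 0`, `B(f_i, X f_j) = δ_ij`), and the value distribution
of `φ` on the orthogonal complement of a frame, over a finite field with `q ≡ 2 (mod 3)` elements.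
-/

namespace Cfsg.Agent.Lib.Helper44_Order3

open Matrix Cfsg.Agent.Lib.Helper44_Inv2Sp Cfsg.Agent.Lib.Helper44_Refl Cfsg.Agent.Lib.Helper44_NormCount

variable {ι : Type} [Fintype ι] [DecidableEq ι] {F : Type*} [Field F]

section basic

variable (B : LinearMap.BilinForm F (ι → F)) (hA : B.IsAlt) {X : Matrix ι ι F} (hX : IsoB B X)
  (hX2 : X * X + X + 1 = 0)

include hX2 in
theorem XX_apply (v : ι → F) : X *ᵥ (X *ᵥ v) = -v - X *ᵥ v := by
  have h := congrArg (fun M => M *ᵥ v) hX2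
  simp only [Matrix.add_mulVec, Matrix.one_mulVec, Matrix.zero_mulVec, ← Matrix.mulVec_mulVec] at h
  have : X *ᵥ (X *ᵥ v) = (X *ᵥ (X *ᵥ v) + X *ᵥ v + v) - v - X *ᵥ v := by abel
  rw [this, h]
  abel

include hX hX2 in
theorem B_X_left (u v : ι → F) : B (X *ᵥ u) v = -B u v - B u (X *ᵥ v) := by
  have h1 := hX (X *ᵥ u) v
  rw [XX_apply hX2] at h1
  rw [← h1, map_sub, map_neg, LinearMap.sub_apply, LinearMap.neg_apply, hX u v]
  ring

include hX hX2 in
theorem B_X_right (u v : ι → F) : B u (X *ᵥ v) = -B u v - B (X *ᵥ u) v := by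
  rw [B_X_left B hX hX2]
  ring

include hA in
theorem B_swap (u v : ι → F) : B u v = -B v u := (hA.neg_eq v u).symm

/-- The norm form. -/
def nu (a b : F) : F := a * a - a * b + b * b

include hA hX hX2 in
theorem phi_comb (v : ι → F) (a b : F) :
    B (a • v + b • X *ᵥ v) (X *ᵥ (a • v + b • X *ᵥ v)) = nu a b * B v (X *ᵥ v) := by
  have h1 : X *ᵥ (a • v + b • X *ᵥ v) = (-b) • v + (a - b) • X *ᵥ v := by
    rw [Matrix.mulVec_add, Matrix.mulVec_smul, Matrix.mulVec_smul, XX_apply hX2]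
    simp only [smul_sub, smul_neg, sub_smul, neg_smul]
    abel
  have h3 : B (X *ᵥ v) v = -B v (X *ᵥ v) := B_swap B hA _ _
  have h4 : B (X *ᵥ v) (X *ᵥ v) = 0 := hA _
  have h5 : B v v = 0 := hA _
  rw [h1]
  simp only [map_add, map_smul, LinearMap.add_apply, LinearMap.smul_apply, smul_eq_mul, h3, h4, h5, nu]
  ring

/-- Orthogonality to `v` and `X v`. -/
def Perp1 (X : Matrix ι ι F) (v u : ι → F) : Prop := B v u = 0 ∧ B (X *ᵥ v) u = 0

/-- Orthogonality to a frame and its image under `X`. -/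
def Perp (X : Matrix ι ι F) {k : ℕ} (f : Fin k → (ι → F)) (u : ι → F) : Prop :=
  ∀ i, Perp1 B X (f i) u

theorem perp_cons {k : ℕ} (f : Fin k → (ι → F)) (v u : ι → F) :
    Perp B X (Fin.cons v f : Fin (k + 1) → (ι → F)) u ↔ Perp1 B X v u ∧ Perp B X f u := by
  unfold Perp
  rw [Fin.forall_fin_succ]
  simp only [Fin.cons_zero, Fin.cons_succ]

theorem perp1_add {v u u' : ι → F} (h : Perp1 B X v u) (h' : Perp1 B X v u') : Perp1 B X v (u + u') := by
  unfold Perp1 at *
  rw [map_add, map_add, h.1, h.2, h'.1, h'.2, add_zero]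
  exact ⟨rfl, rfl⟩

theorem perp1_smul {v u : ι → F} (a : F) (h : Perp1 B X v u) : Perp1 B X v (a • u) := by
  unfold Perp1 at *
  rw [map_smul, map_smul, h.1, h.2, smul_zero]
  exact ⟨rfl, rfl⟩

theorem perp1_sub {v u u' : ι → F} (h : Perp1 B X v u) (h' : Perp1 B X v u') : Perp1 B X v (u - u') := by
  unfold Perp1 at *
  rw [map_sub, map_sub, h.1, h.2, h'.1, h'.2, sub_zero]
  exact ⟨rfl, rfl⟩

include hX hX2 in
theorem perp1_X {v u : ι → F} (h : Perp1 B X v u) : Perp1 B X v (X *ᵥ u) := by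
  unfold Perp1 at *
  refine ⟨?_, ?_⟩
  · rw [B_X_right B hX hX2, h.1, h.2]
    ring
  · rw [hX, h.1]

include hA hX hX2 in
/-- Symmetry of the orthogonality relation. -/
theorem perp1_symm {v u : ι → F} (h : Perp1 B X v u) : Perp1 B X u v := by
  unfold Perp1 at *
  refine ⟨?_, ?_⟩
  · rw [B_swap B hA, h.1, neg_zero]
  · rw [B_X_left B hX hX2, B_swap B hA u v, h.1, B_swap B hA u (X *ᵥ v), h.2]
    ring

theorem perp_add {k : ℕ} {f : Fin k → (ι → F)} {u u' : ι → F} (h : Perp B X f u) (h' : Perp B X f u') :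
    Perp B X f (u + u') := fun i => perp1_add B (h i) (h' i)

theorem perp_smul {k : ℕ} {f : Fin k → (ι → F)} {u : ι → F} (a : F) (h : Perp B X f u) :
    Perp B X f (a • u) := fun i => perp1_smul B a (h i)

theorem perp_sub {k : ℕ} {f : Fin k → (ι → F)} {u u' : ι → F} (h : Perp B X f u) (h' : Perp B X f u') :
    Perp B X f (u - u') := fun i => perp1_sub B (h i) (h' i)

include hX hX2 in
theorem perp_X {k : ℕ} {f : Fin k → (ι → F)} {u : ι → F} (h : Perp B X f u) : Perp B X f (X *ᵥ u) :=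
  fun i => perp1_X B hX hX2 (h i)

include hA hX hX2 in
/-- `φ` is additive on orthogonal vectors. -/
theorem phi_add {w u : ι → F} (h : Perp1 B X w u) :
    B (w + u) (X *ᵥ (w + u)) = B w (X *ᵥ w) + B u (X *ᵥ u) := by
  have h1 := perp1_X B hX hX2 h
  have h3 := perp1_symm B hA hX hX2 h
  have h4 := perp1_X B hX hX2 h3
  rw [Matrix.mulVec_add]
  simp only [map_add, LinearMap.add_apply]
  rw [h1.1, h4.1]
  ring

include hA hX hX2 in
/-- The projection of `u` off the plane `⟨v, X v⟩`, `φ(v) = 1`. -/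
theorem perp1_proj {v : ι → F} (hv1 : B v (X *ᵥ v) = 1) (u : ι → F) :
    Perp1 B X v (u - (-B (X *ᵥ v) u) • v - (B v u) • X *ᵥ v) := by
  have h3 : B (X *ᵥ v) v = -1 := by rw [B_swap B hA, hv1]
  have h4 : B (X *ᵥ v) (X *ᵥ v) = 0 := hA _
  have h5 : B v v = 0 := hA _
  unfold Perp1
  simp only [map_sub, map_smul, smul_eq_mul, h3, h4, h5, hv1]
  constructor <;> ring

end basic

section frames

variable (B : LinearMap.BilinForm F (ι → F)) (X : Matrix ι ι F)

/-- `X`-orthonormal frames. -/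
def XFr (k : ℕ) : Type _ :=
  {f : Fin k → (ι → F) // ∀ i j, B (f i) (f j) = 0 ∧ B (f i) (X *ᵥ f j) = if i = j then 1 else 0}

/-- The vectors orthogonal to a frame and its `X`-image, with a prescribed value of `φ`. -/
def AF {k : ℕ} (f : Fin k → (ι → F)) (c : F) : Type _ :=
  {u : ι → F // Perp B X f u ∧ B u (X *ᵥ u) = c}

variable {B X} (hA : B.IsAlt) (hX : IsoB B X) (hX2 : X * X + X + 1 = 0)

include hA hX hX2 in
/-- Splitting off the plane `⟨v, X v⟩`. -/
theorem step_aux {v : ι → F}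
    (hv1 : B v (X *ᵥ v) = 1) (a b : F) {u' : ι → F} (hu' : Perp1 B X v u') :
    B (a • v + b • X *ᵥ v + u') (X *ᵥ (a • v + b • X *ᵥ v + u')) = nu a b + B u' (X *ᵥ u') := by
  have h1 : Perp1 B X u' v := perp1_symm B hA hX hX2 hu'
  have h3 : Perp1 B X u' (a • v + b • X *ᵥ v) :=
    perp1_add B (perp1_smul B a h1) (perp1_smul B b (perp1_X B hX hX2 h1))
  have h4 := perp1_symm B hA hX hX2 h3
  rw [phi_add B hA hX hX2 h4, phi_comb B hA hX hX2, hv1, mul_one]

include hA hX hX2 in
/-- **The step equivalence.** -/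
def stepEquiv {k : ℕ} (f : Fin k → (ι → F)) (v : ι → F) (hv : Perp B X f v)
    (hv1 : B v (X *ᵥ v) = 1) (c : F) :
    AF B X f c ≃ {x : (F × F) × (ι → F) //
      Perp B X (Fin.cons v f : Fin (k + 1) → (ι → F)) x.2 ∧
        B x.2 (X *ᵥ x.2) = c - nu x.1.1 x.1.2} where
  toFun := fun u => ⟨((-B (X *ᵥ v) u.1, B v u.1),
      u.1 - (-B (X *ᵥ v) u.1) • v - (B v u.1) • X *ᵥ v), by
    have hp := perp1_proj B hA hX hX2 hv1 u.1
    refine ⟨(perp_cons B _ _ _).mpr ⟨hp, perp_sub B (perp_sub B u.2.1 (perp_smul B _ hv))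
      (perp_smul B _ (perp_X B hX hX2 hv))⟩, ?_⟩
    have h := step_aux hA hX hX2 hv1 (-B (X *ᵥ v) u.1) (B v u.1) hp
    have hu : (-B (X *ᵥ v) u.1) • v + (B v u.1) • X *ᵥ v +
        (u.1 - (-B (X *ᵥ v) u.1) • v - (B v u.1) • X *ᵥ v) = u.1 := by abel
    rw [hu, u.2.2] at h
    show B (u.1 - (-B (X *ᵥ v) u.1) • v - (B v u.1) • X *ᵥ v)
      (X *ᵥ (u.1 - (-B (X *ᵥ v) u.1) • v - (B v u.1) • X *ᵥ v)) = c - nu (-B (X *ᵥ v) u.1) (B v u.1)
    linear_combination -h⟩
  invFun := fun x => ⟨x.1.1.1 • v + x.1.1.2 • X *ᵥ v + x.1.2, by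
    obtain ⟨hp1, hpf⟩ := (perp_cons B _ _ _).mp x.2.1
    refine ⟨perp_add B (perp_add B (perp_smul B _ hv) (perp_smul B _ (perp_X B hX hX2 hv))) hpf, ?_⟩
    rw [step_aux hA hX hX2 hv1 _ _ hp1, x.2.2]
    ring⟩
  left_inv := fun u => by
    apply Subtype.ext
    show (-B (X *ᵥ v) u.1) • v + (B v u.1) • X *ᵥ v +
        (u.1 - (-B (X *ᵥ v) u.1) • v - (B v u.1) • X *ᵥ v) = u.1
    abel
  right_inv := fun x => by
    obtain ⟨hp1, hpf⟩ := (perp_cons B _ _ _).mp x.2.1
    have h3 : B (X *ᵥ v) v = -1 := by rw [B_swap B hA, hv1]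
    have h4 : B (X *ᵥ v) (X *ᵥ v) = 0 := hA _
    have h5 : B v v = 0 := hA _
    have ha : -B (X *ᵥ v) (x.1.1.1 • v + x.1.1.2 • X *ᵥ v + x.1.2) = x.1.1.1 := by
      simp only [map_add, map_smul, smul_eq_mul, h3, h4, hp1.2]
      ring
    have hb : B v (x.1.1.1 • v + x.1.1.2 • X *ᵥ v + x.1.2) = x.1.1.2 := by
      simp only [map_add, map_smul, smul_eq_mul, h5, hv1, hp1.1]
      ring
    apply Subtype.ext
    apply Prod.ext
    · apply Prod.ext
      · exact ha
      · exact hb
    · show (x.1.1.1 • v + x.1.1.2 • X *ᵥ v + x.1.2) -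
          (-B (X *ᵥ v) (x.1.1.1 • v + x.1.1.2 • X *ᵥ v + x.1.2)) • v -
          (B v (x.1.1.1 • v + x.1.1.2 • X *ᵥ v + x.1.2)) • X *ᵥ v = x.1.2
      rw [ha, hb]
      abel

end frames

section counting

variable [Fintype F] {B : LinearMap.BilinForm F (ι → F)} {X : Matrix ι ι F}
  (hA : B.IsAlt) (hX : IsoB B X) (hX2 : X * X + X + 1 = 0)

instance {k : ℕ} (f : Fin k → (ι → F)) (c : F) : Finite (AF B X f c) := by
  unfold AF
  infer_instance

instance (k : ℕ) : Finite (XFr B X k) := by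
  unfold XFr
  infer_instance

include hA hX hX2 in
theorem card_AF_step {k : ℕ} (f : Fin k → (ι → F)) (v : ι → F) (hv : Perp B X f v)
    (hv1 : B v (X *ᵥ v) = 1) (c : F) :
    Nat.card (AF B X f c) =
      ∑ p : F × F, Nat.card (AF B X (Fin.cons v f : Fin (k + 1) → (ι → F)) (c - nu p.1 p.2)) := by
  rw [Nat.card_congr (stepEquiv hA hX hX2 f v hv hv1 c),
    Nat.card_congr (Equiv.subtypeProdEquivSigmaSubtype
      (fun (p : F × F) (u : ι → F) => Perp B X (Fin.cons v f : Fin (k + 1) → (ι → F)) u ∧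
        B u (X *ᵥ u) = c - nu p.1 p.2)), Nat.card_sigma]
  rfl

/-- The vectors orthogonal to a frame. -/
theorem card_UF_eq_sum {k : ℕ} (f : Fin k → (ι → F)) :
    Nat.card {u : ι → F // Perp B X f u} = ∑ c : F, Nat.card (AF B X f c) := by
  have e : {u : ι → F // Perp B X f u} ≃ Σ c : F, AF B X f c :=
    { toFun := fun u => ⟨B u.1 (X *ᵥ u.1), u.1, u.2, rfl⟩
      invFun := fun p => ⟨p.2.1, p.2.2.1⟩
      left_inv := fun u => rfl
      right_inv := fun ⟨c, u, hu, hc⟩ => by subst hc; rfl }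
  rw [Nat.card_congr e, Nat.card_sigma]

include hA hX hX2 in
theorem card_UF_step {k : ℕ} (f : Fin k → (ι → F)) (v : ι → F) (hv : Perp B X f v)
    (hv1 : B v (X *ᵥ v) = 1) :
    Nat.card {u : ι → F // Perp B X f u} =
      Fintype.card F ^ 2 *
        Nat.card {u : ι → F // Perp B X (Fin.cons v f : Fin (k + 1) → (ι → F)) u} := by
  rw [card_UF_eq_sum, card_UF_eq_sum]
  simp only [card_AF_step hA hX hX2 f v hv hv1]
  rw [Finset.sum_comm]
  have h1 : ∀ p : F × F,
      ∑ c : F, Nat.card (AF B X (Fin.cons v f : Fin (k + 1) → (ι → F)) (c - nu p.1 p.2)) =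
      ∑ c : F, Nat.card (AF B X (Fin.cons v f : Fin (k + 1) → (ι → F)) c) := by
    intro p
    exact Fintype.sum_equiv (Equiv.subRight (nu p.1 p.2)) _ _ (fun c => rfl)
  simp only [h1]
  rw [Finset.sum_const, Finset.card_univ, Fintype.card_prod, smul_eq_mul, pow_two]

/-- Frame data of the first vector over the remaining ones. -/
theorem frame_head {k : ℕ} (hA : B.IsAlt) (f : Fin (k + 1) → (ι → F))
    (hf : ∀ i j, B (f i) (f j) = 0 ∧ B (f i) (X *ᵥ f j) = if i = j then 1 else 0) :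
    Perp B X (Fin.tail f) (f 0) ∧ B (f 0) (X *ᵥ f 0) = 1 ∧
      ∀ i j, B (Fin.tail f i) (Fin.tail f j) = 0 ∧
        B (Fin.tail f i) (X *ᵥ Fin.tail f j) = if i = j then 1 else 0 := by
  refine ⟨fun i => ⟨(hf i.succ 0).1, ?_⟩, ?_, fun i j => ?_⟩
  · show B (X *ᵥ f i.succ) (f 0) = 0
    rw [B_swap B hA, (hf 0 i.succ).2, if_neg (Fin.succ_ne_zero i).symm, neg_zero]
  · have := (hf 0 0).2
    rwa [if_pos rfl] at this
  · have := hf i.succ j.succ
    simp only [Fin.succ_inj] at this
    exact this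

include hA hX hX2 in
/-- The number of vectors orthogonal to a frame of length `k` is `q^(n - 2k)`. -/
theorem card_UF : ∀ (k : ℕ) (f : Fin k → (ι → F)),
    (∀ i j, B (f i) (f j) = 0 ∧ B (f i) (X *ᵥ f j) = if i = j then 1 else 0) →
    Fintype.card F ^ (2 * k) * Nat.card {u : ι → F // Perp B X f u} =
      Fintype.card F ^ Fintype.card ι := by
  intro k
  induction k with
  | zero =>
    intro f _
    have e : {u : ι → F // Perp B X f u} ≃ (ι → F) :=
      { toFun := fun u => u.1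
        invFun := fun u => ⟨u, fun i => i.elim0⟩
        left_inv := fun u => rfl
        right_inv := fun u => rfl }
    rw [Nat.card_congr e, Nat.card_eq_fintype_card, Fintype.card_fun]
    simp
  | succ k ih =>
    intro f hf
    obtain ⟨h1, h3, h4⟩ := frame_head hA f hf
    have h5 := ih (Fin.tail f) h4
    have h6 := card_UF_step hA hX hX2 (Fin.tail f) (f 0) h1 h3
    rw [Fin.cons_self_tail] at h6
    rw [h6] at h5
    rw [← h5]
    ring

include hA hX hX2 in
/-- The form is non-degenerate on the complement of a frame. -/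
theorem nondeg_UF (hB : B.Nondegenerate) : ∀ (k : ℕ) (f : Fin k → (ι → F)),
    (∀ i j, B (f i) (f j) = 0 ∧ B (f i) (X *ᵥ f j) = if i = j then 1 else 0) →
    ∀ u, Perp B X f u → u ≠ 0 → ∃ w, Perp B X f w ∧ B u w ≠ 0 := by
  intro k
  induction k with
  | zero =>
    intro f _ u _ hu0
    by_contra hcon
    push Not at hcon
    apply hu0
    apply hB.1
    intro w
    exact hcon w (fun i => i.elim0)
  | succ k ih =>
    intro f hf u hu hu0
    obtain ⟨h1, h3, h4⟩ := frame_head hA f hf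
    rw [← Fin.cons_self_tail f, perp_cons] at hu
    obtain ⟨w₀, hw₀, hne⟩ := ih (Fin.tail f) h4 u hu.2 hu0
    refine ⟨w₀ - (-B (X *ᵥ f 0) w₀) • f 0 - (B (f 0) w₀) • X *ᵥ f 0, ?_, ?_⟩
    · rw [← Fin.cons_self_tail f, perp_cons]
      exact ⟨perp1_proj B hA hX hX2 h3 w₀, perp_sub B (perp_sub B hw₀ (perp_smul B _ h1))
        (perp_smul B _ (perp_X B hX hX2 h1))⟩
    · have h5 := perp1_symm B hA hX hX2 hu.1
      have h6 := perp1_X B hX hX2 h5
      rw [map_sub, map_sub, map_smul, map_smul, h5.1, h6.1, smul_zero, smul_zero, sub_zero, sub_zero]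
      exact hne

include hA hX hX2 in
/-- **Extension of frames.** -/
theorem exists_ext [DecidableEq F] (hB : B.Nondegenerate) (hq3 : Fintype.card F % 3 = 2) {k : ℕ}
    (f : Fin k → (ι → F))
    (hf : ∀ i j, B (f i) (f j) = 0 ∧ B (f i) (X *ᵥ f j) = if i = j then 1 else 0)
    (hk : 2 * k < Fintype.card ι) : ∃ v, Perp B X f v ∧ B v (X *ᵥ v) = 1 := by
  have hq : 1 < Fintype.card F := Fintype.one_lt_card
  -- a non-zero vector of the complement
  have hcard := card_UF hA hX hX2 k f hf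
  have hlt : 1 < Nat.card {u : ι → F // Perp B X f u} := by
    by_contra hle
    have hle' : Nat.card {u : ι → F // Perp B X f u} ≤ 1 := by omega
    have h1 : Fintype.card F ^ Fintype.card ι ≤ Fintype.card F ^ (2 * k) := by
      rw [← hcard]
      calc Fintype.card F ^ (2 * k) * Nat.card {u : ι → F // Perp B X f u}
          ≤ Fintype.card F ^ (2 * k) * 1 := Nat.mul_le_mul_left _ hle'
        _ = Fintype.card F ^ (2 * k) := mul_one _
    have h3 : Fintype.card F ^ (2 * k) < Fintype.card F ^ Fintype.card ι :=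
      Nat.pow_lt_pow_right hq hk
    omega
  have hnt : Nontrivial {u : ι → F // Perp B X f u} := Finite.one_lt_card_iff_nontrivial.mp hlt
  obtain ⟨a, b, hab⟩ := hnt.exists_pair_ne
  obtain ⟨u, hu, hu0⟩ : ∃ u, Perp B X f u ∧ u ≠ 0 := by
    by_cases ha : a.1 = 0
    · refine ⟨b.1, b.2, ?_⟩
      intro hb
      apply hab
      apply Subtype.ext
      rw [ha, hb]
    · exact ⟨a.1, a.2, ha⟩
  obtain ⟨w₀, hw₀, hne⟩ := nondeg_UF hA hX hX2 hB k f hf u hu hu0
  -- a vector with `φ ≠ 0`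
  obtain ⟨v₀, hv₀, hd⟩ : ∃ v₀, Perp B X f v₀ ∧ B v₀ (X *ᵥ v₀) ≠ 0 := by
    by_contra hcon
    push Not at hcon
    -- polarisation
    have hpol : ∀ a b, Perp B X f a → Perp B X f b → B a ((2 : F) • X *ᵥ b + b) = 0 := by
      intro a b ha hb
      have h1 := hcon (a + b) (perp_add B ha hb)
      rw [Matrix.mulVec_add] at h1
      simp only [map_add, LinearMap.add_apply] at h1
      rw [hcon a ha, hcon b hb, B_swap B hA b (X *ᵥ a), B_X_left B hX hX2] at h1
      rw [map_add, map_smul, smul_eq_mul]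
      linear_combination h1
    have hT : Perp B X f ((2 : F) • X *ᵥ w₀ + w₀) :=
      perp_add B (perp_smul B _ (perp_X B hX hX2 hw₀)) hw₀
    have h3 := hpol u _ hu hT
    have h4 : (2 : F) • X *ᵥ ((2 : F) • X *ᵥ w₀ + w₀) + ((2 : F) • X *ᵥ w₀ + w₀) = (-3 : F) • w₀ := by
      rw [Matrix.mulVec_add, Matrix.mulVec_smul, XX_apply hX2]
      module
    rw [h4, map_smul, smul_eq_mul] at h3
    rcases mul_eq_zero.mp h3 with h5 | h5
    · exact three_ne_zero hq3 (by linear_combination -h5)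
    · exact hne h5
  -- normalisation
  have hdi : (B v₀ (X *ᵥ v₀))⁻¹ ≠ 0 := inv_ne_zero hd
  have hcount := card_norm_fibre hq3 (B v₀ (X *ᵥ v₀))⁻¹
  rw [if_neg hdi] at hcount
  have hne' : Nonempty {p : F × F // p.1 * p.1 - p.1 * p.2 + p.2 * p.2 = (B v₀ (X *ᵥ v₀))⁻¹} := by
    by_contra hemp
    rw [not_nonempty_iff] at hemp
    rw [Nat.card_of_isEmpty] at hcount
    omega
  obtain ⟨⟨p, hp⟩⟩ := hne'
  refine ⟨p.1 • v₀ + p.2 • X *ᵥ v₀, perp_add B (perp_smul B _ hv₀) (perp_smul B _ (perp_X B hX hX2 hv₀)), ?_⟩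
  rw [phi_comb B hA hX hX2, nu, hp, inv_mul_cancel₀ hd]

theorem perp_zero {k : ℕ} (f : Fin k → (ι → F)) : Perp B X f 0 := by
  intro i
  unfold Perp1
  rw [map_zero, map_zero]
  exact ⟨rfl, rfl⟩

include hA hX hX2 in
/-- **Value distribution of `φ` on the complement of a frame.** -/
theorem card_AF [DecidableEq F] (hB : B.Nondegenerate) (hq3 : Fintype.card F % 3 = 2) :
    ∀ (j k : ℕ), 2 * (k + j) = Fintype.card ι → ∀ (f : Fin k → (ι → F)),
    (∀ i j, B (f i) (f j) = 0 ∧ B (f i) (X *ᵥ f j) = if i = j then 1 else 0) → ∀ c : F,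
    (Fintype.card F : ℤ) * (Nat.card (AF B X f c) : ℤ) =
      if c = 0 then (Fintype.card F : ℤ) ^ (2 * j) + ((Fintype.card F : ℤ) - 1) * (-(Fintype.card F : ℤ)) ^ j
      else (Fintype.card F : ℤ) ^ (2 * j) - (-(Fintype.card F : ℤ)) ^ j := by
  intro j
  induction j with
  | zero =>
    intro k hk f hf c
    have hq : 0 < Fintype.card F := Fintype.card_pos
    have hcard := card_UF hA hX hX2 k f hf
    have h1 : Nat.card {u : ι → F // Perp B X f u} = 1 := by
      have : Fintype.card ι = 2 * k := by omega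
      rw [this] at hcard
      have h3 : Fintype.card F ^ (2 * k) * Nat.card {u : ι → F // Perp B X f u} =
          Fintype.card F ^ (2 * k) * 1 := by rw [hcard, mul_one]
      exact Nat.eq_of_mul_eq_mul_left (pow_pos hq _) h3
    have hsub : Subsingleton {u : ι → F // Perp B X f u} :=
      (Nat.card_eq_one_iff_unique.mp h1).1
    have hzero : ∀ u, Perp B X f u → u = 0 := by
      intro u hu
      have := hsub.elim ⟨u, hu⟩ ⟨0, perp_zero f⟩
      exact congrArg Subtype.val this
    by_cases hc : c = 0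
    · rw [if_pos hc]
      subst hc
      have : Unique (AF B X f 0) :=
        { default := ⟨0, perp_zero f, by rw [map_zero, LinearMap.zero_apply]⟩
          uniq := fun u => Subtype.ext (hzero u.1 u.2.1) }
      rw [Nat.card_unique]
      simp
    · rw [if_neg hc]
      have : IsEmpty (AF B X f c) := ⟨fun u => by
        have h0 := hzero u.1 u.2.1
        have := u.2.2
        rw [h0, map_zero, LinearMap.zero_apply] at this
        exact hc this.symm⟩
      rw [Nat.card_of_isEmpty]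
      simp
  | succ j ih =>
    intro k hk f hf c
    classical
    obtain ⟨v, hv, hv1⟩ := exists_ext hA hX hX2 hB hq3 f hf (by omega)
    -- the extended frame
    have hf' : ∀ i j, B ((Fin.cons v f : Fin (k + 1) → (ι → F)) i) ((Fin.cons v f : Fin (k + 1) → (ι → F)) j) = 0
        ∧ B ((Fin.cons v f : Fin (k + 1) → (ι → F)) i) (X *ᵥ (Fin.cons v f : Fin (k + 1) → (ι → F)) j) =
          if i = j then 1 else 0 := by
      intro i j
      refine Fin.cases ?_ (fun i => ?_) i <;> refine Fin.cases ?_ (fun j => ?_) j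
      · simp only [Fin.cons_zero]
        exact ⟨hA v, by rw [if_pos trivial]; exact hv1⟩
      · simp only [Fin.cons_zero, Fin.cons_succ]
        have h1 := perp1_symm B hA hX hX2 (hv j)
        have h3 := perp1_X B hX hX2 h1
        exact ⟨h1.1, by rw [if_neg (Fin.succ_ne_zero j).symm]; exact h3.1⟩
      · simp only [Fin.cons_zero, Fin.cons_succ]
        have h3 := perp1_X B hX hX2 (hv i)
        exact ⟨(hv i).1, by rw [if_neg (Fin.succ_ne_zero i)]; exact h3.1⟩
      · simp only [Fin.cons_succ, Fin.succ_inj]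
        exact hf i j
    have ih' := ih (k + 1) (by omega) (Fin.cons v f) hf'
    rw [card_AF_step hA hX hX2 f v hv hv1 c]
    push_cast
    rw [Finset.mul_sum]
    simp only [ih', sub_eq_zero]
    -- split the sum according to `ν p = c`
    set Q : ℤ := (Fintype.card F : ℤ) ^ (2 * j) with hQ
    set M : ℤ := (-(Fintype.card F : ℤ)) ^ j with hM
    have hsplit : ∑ p : F × F, (if c = nu p.1 p.2 then Q + ((Fintype.card F : ℤ) - 1) * M else Q - M) =
        ((Finset.univ.filter (fun p : F × F => c = nu p.1 p.2)).card : ℤ) *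
          (Q + ((Fintype.card F : ℤ) - 1) * M) +
        (((Fintype.card F : ℤ) ^ 2 - ((Finset.univ.filter (fun p : F × F => c = nu p.1 p.2)).card : ℤ))) *
          (Q - M) := by
      rw [Finset.sum_ite, Finset.sum_const, Finset.sum_const, nsmul_eq_mul, nsmul_eq_mul]
      congr 2
      have h1 := Finset.card_filter_add_card_filter_not (s := (Finset.univ : Finset (F × F)))
        (fun p : F × F => c = nu p.1 p.2)
      rw [Finset.card_univ, Fintype.card_prod] at h1
      have h3 : ((Finset.univ.filter (fun p : F × F => ¬ c = nu p.1 p.2)).card : ℤ) =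
          (Fintype.card F : ℤ) * (Fintype.card F : ℤ) -
            ((Finset.univ.filter (fun p : F × F => c = nu p.1 p.2)).card : ℤ) := by
        have h1' : (((Finset.univ.filter (fun p : F × F => c = nu p.1 p.2)).card +
            (Finset.univ.filter (fun p : F × F => ¬ c = nu p.1 p.2)).card : ℕ) : ℤ) =
            ((Fintype.card F * Fintype.card F : ℕ) : ℤ) := by rw [h1]
        push_cast at h1'
        linear_combination h1'
      rw [h3]
      ring
    rw [hsplit]
    have hS : (Finset.univ.filter (fun p : F × F => c = nu p.1 p.2)).card =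
        if c = 0 then 1 else Fintype.card F + 1 := by
      rw [← card_norm_fibre hq3 c, Nat.card_eq_fintype_card, Fintype.card_subtype]
      congr 1
      ext p
      rw [Finset.mem_filter, Finset.mem_filter]
      simp only [Finset.mem_univ, true_and, nu]
      exact ⟨fun h => h.symm, fun h => h.symm⟩
    rw [hS]
    have hQ' : (Fintype.card F : ℤ) ^ (2 * (j + 1)) = (Fintype.card F : ℤ) ^ 2 * Q := by
      rw [hQ, ← pow_add]
      congr 1
      ring
    have hM' : (-(Fintype.card F : ℤ)) ^ (j + 1) = -(Fintype.card F : ℤ) * M := by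
      rw [hM, pow_succ]
      ring
    rw [hQ', hM']
    by_cases hc : c = 0
    · rw [if_pos hc, if_pos hc]
      push_cast
      ring
    · rw [if_neg hc, if_neg hc]
      push_cast
      ring

include hA hX hX2 in
/-- Prepending an admissible vector to a frame gives a frame. -/
theorem frame_cons {k : ℕ} (f : Fin k → (ι → F))
    (hf : ∀ i j, B (f i) (f j) = 0 ∧ B (f i) (X *ᵥ f j) = if i = j then 1 else 0) (v : ι → F)
    (hv : Perp B X f v) (hv1 : B v (X *ᵥ v) = 1) :
    ∀ i j, B ((Fin.cons v f : Fin (k + 1) → (ι → F)) i) ((Fin.cons v f : Fin (k + 1) → (ι → F)) j) = 0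
      ∧ B ((Fin.cons v f : Fin (k + 1) → (ι → F)) i) (X *ᵥ (Fin.cons v f : Fin (k + 1) → (ι → F)) j) =
        if i = j then 1 else 0 := by
  intro i j
  refine Fin.cases ?_ (fun i => ?_) i <;> refine Fin.cases ?_ (fun j => ?_) j
  · simp only [Fin.cons_zero]
    exact ⟨hA v, by rw [if_pos trivial]; exact hv1⟩
  · simp only [Fin.cons_zero, Fin.cons_succ]
    have h1 := perp1_symm B hA hX hX2 (hv j)
    have h3 := perp1_X B hX hX2 h1
    exact ⟨h1.1, by rw [if_neg (Fin.succ_ne_zero j).symm]; exact h3.1⟩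
  · simp only [Fin.cons_zero, Fin.cons_succ]
    have h3 := perp1_X B hX hX2 (hv i)
    exact ⟨(hv i).1, by rw [if_neg (Fin.succ_ne_zero i)]; exact h3.1⟩
  · simp only [Fin.cons_succ, Fin.succ_inj]
    exact hf i j

include hA hX hX2 in
/-- The fibration of frames. -/
def frEquiv (k : ℕ) : XFr B X (k + 1) ≃ Σ f : XFr B X k, AF B X f.1 1 where
  toFun := fun f' => ⟨⟨Fin.tail f'.1, (frame_head hA f'.1 f'.2).2.2⟩,
    ⟨f'.1 0, (frame_head hA f'.1 f'.2).1, (frame_head hA f'.1 f'.2).2.1⟩⟩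
  invFun := fun p => ⟨Fin.cons p.2.1 p.1.1, frame_cons hA hX hX2 p.1.1 p.1.2 p.2.1 p.2.2.1 p.2.2.2⟩
  left_inv := fun f' => Subtype.ext (Fin.cons_self_tail f'.1)
  right_inv := by
    rintro ⟨⟨f, hf⟩, ⟨v, hv, hv1⟩⟩
    rfl

include hA hX hX2 in
theorem card_XFr_succ [DecidableEq F] (hB : B.Nondegenerate) (hq3 : Fintype.card F % 3 = 2) (j k : ℕ)
    (hk : 2 * (k + j) = Fintype.card ι) :
    (Fintype.card F : ℤ) * (Nat.card (XFr B X (k + 1)) : ℤ) =
      (Nat.card (XFr B X k) : ℤ) *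
        ((Fintype.card F : ℤ) ^ (2 * j) - (-(Fintype.card F : ℤ)) ^ j) := by
  classical
  have : Fintype (XFr B X k) := Fintype.ofFinite _
  rw [Nat.card_congr (frEquiv hA hX hX2 k), Nat.card_sigma]
  push_cast
  rw [Finset.mul_sum]
  have h1 : ∀ f : XFr B X k, (Fintype.card F : ℤ) * (Nat.card (AF B X f.1 1) : ℤ) =
      (Fintype.card F : ℤ) ^ (2 * j) - (-(Fintype.card F : ℤ)) ^ j := by
    intro f
    rw [card_AF hA hX hX2 hB hq3 j k hk f.1 f.2 1, if_neg one_ne_zero]
  simp only [h1]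
  rw [Finset.sum_const, Finset.card_univ, nsmul_eq_mul, Nat.card_eq_fintype_card]

theorem card_XFr_zero : Nat.card (XFr B X 0) = 1 := by
  have : Unique (XFr B X 0) :=
    { default := ⟨Fin.elim0, fun i => i.elim0⟩
      uniq := fun v => Subtype.ext (Subsingleton.elim _ _) }
  exact Nat.card_unique

include hA hX hX2 in
/-- **The number of `X`-orthonormal frames of length `k`.** -/
theorem card_XFr [DecidableEq F] (hB : B.Nondegenerate) (hq3 : Fintype.card F % 3 = 2) {m : ℕ}
    (hm : 2 * m = Fintype.card ι) : ∀ k, k ≤ m →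
    (Fintype.card F : ℤ) ^ k * (Nat.card (XFr B X k) : ℤ) =
      ∏ i ∈ Finset.range k, ((Fintype.card F : ℤ) ^ (2 * (m - i)) - (-(Fintype.card F : ℤ)) ^ (m - i)) := by
  intro k
  induction k with
  | zero =>
    intro _
    rw [card_XFr_zero]
    simp
  | succ k ih =>
    intro hk
    have h1 := card_XFr_succ hA hX hX2 hB hq3 (m - k) k (by omega)
    rw [Finset.prod_range_succ, ← ih (by omega), pow_succ]
    calc (Fintype.card F : ℤ) ^ k * (Fintype.card F : ℤ) * (Nat.card (XFr B X (k + 1)) : ℤ)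
        = (Fintype.card F : ℤ) ^ k * ((Fintype.card F : ℤ) * (Nat.card (XFr B X (k + 1)) : ℤ)) := by ring
      _ = _ := by rw [h1]; ring

end counting

end Cfsg.Agent.Lib.Helper44_Order3
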