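import Mathlib
import Cfsg.Agent.Lib.Helper44_Order3

set_option autoImplicit false
set_option linter.unusedSectionVars false

/-!
The isometries of a non-degenerate alternating form `B` commuting with an isometry `X` with `X² + X + 1 = 0` act
regularly on the `X`-orthonormal frames of full length (helper44).
-/

namespace Cfsg.Agent.Lib.Helper44_Order3Cent

open Matrix Module Cfsg.Agent.Lib.Helper44_Inv2Sp Cfsg.Agent.Lib.Helper44_Refl Cfsg.Agent.Lib.Helper44_Order3
  Cfsg.Agent.Lib.Helper44_QuadClass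

variable {ι : Type} [Fintype ι] [DecidableEq ι] {F : Type*} [Field F]

/-- The isometries commuting with `X`. -/
def CX (B : LinearMap.BilinForm F (ι → F)) (X : Matrix ι ι F) : Type _ :=
  {G : Matrix ι ι F // IsoB B G ∧ G * X = X * G}

/-- The family `(f_i, X f_i)`. -/
def fam (X : Matrix ι ι F) {m : ℕ} (f : Fin m → (ι → F)) : Fin m ⊕ Fin m → (ι → F) :=
  Sum.elim f (fun i => X *ᵥ f i)

variable {B : LinearMap.BilinForm F (ι → F)} {X : Matrix ι ι F} (hA : B.IsAlt) (hX : IsoB B X)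
  (hX2 : X * X + X + 1 = 0)

include hA hX in
theorem gram_fam {m : ℕ} (f : XFr B X m) :
    (Matrix.of fun k l => B (fam X f.1 k) (fam X f.1 l)) = -(Matrix.J (Fin m) F) := by
  ext k l
  rcases k with i | i <;> rcases l with j | j
  · simp only [Matrix.of_apply, fam, Sum.elim_inl, Matrix.J, Matrix.neg_apply, Matrix.fromBlocks_apply₁₁,
      Matrix.zero_apply, neg_zero]
    exact (f.2 i j).1
  · simp only [Matrix.of_apply, fam, Sum.elim_inl, Sum.elim_inr, Matrix.J, Matrix.neg_apply,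
      Matrix.fromBlocks_apply₁₂, Matrix.one_apply, neg_neg]
    exact (f.2 i j).2
  · simp only [Matrix.of_apply, fam, Sum.elim_inl, Sum.elim_inr, Matrix.J, Matrix.neg_apply,
      Matrix.fromBlocks_apply₂₁, Matrix.one_apply]
    rw [B_swap B hA, (f.2 j i).2]
    simp only [eq_comm]
  · simp only [Matrix.of_apply, fam, Sum.elim_inr, Matrix.J, Matrix.neg_apply, Matrix.fromBlocks_apply₂₂,
      Matrix.zero_apply, neg_zero]
    rw [hX]
    exact (f.2 i j).1

include hA hX in
theorem exists_basis_fam {m : ℕ} (hm : 2 * m = Fintype.card ι) (hm1 : 1 ≤ m) (f : XFr B X m) :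
    ∃ b : Basis (Fin m ⊕ Fin m) F (ι → F), ⇑b = fam X f.1 := by
  have : Nonempty (Fin m ⊕ Fin m) := ⟨Sum.inl ⟨0, by omega⟩⟩
  apply exists_basis_of_gram B
  · rw [gram_fam hA hX f, Matrix.det_neg]
    have h1 := (Matrix.isUnit_det_J (l := Fin m) (R := F)).ne_zero
    have h2 : ((-1 : F)) ^ Fintype.card (Fin m ⊕ Fin m) ≠ 0 := pow_ne_zero _ (by simp)
    exact mul_ne_zero h2 h1
  · rw [Module.finrank_fintype_fun_eq_card, Fintype.card_sum, Fintype.card_fin]
    omega

/-- The action on frames. -/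
def act {m : ℕ} (f₀ : XFr B X m) (G : CX B X) : XFr B X m :=
  ⟨fun i => G.1 *ᵥ f₀.1 i, fun i j => by
    constructor
    · rw [G.2.1]
      exact (f₀.2 i j).1
    · rw [Matrix.mulVec_mulVec, ← G.2.2, ← Matrix.mulVec_mulVec, G.2.1]
      exact (f₀.2 i j).2⟩

include hA hX hX2 in
theorem act_bijective {m : ℕ} (hm : 2 * m = Fintype.card ι) (hm1 : 1 ≤ m) (f₀ : XFr B X m) :
    Function.Bijective (act f₀) := by
  obtain ⟨b₀, hb₀⟩ := exists_basis_fam hA hX hm hm1 f₀
  have hb₀l : ∀ i, b₀ (Sum.inl i) = f₀.1 i := fun i => by rw [hb₀]; rfl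
  have hb₀r : ∀ i, b₀ (Sum.inr i) = X *ᵥ f₀.1 i := fun i => by rw [hb₀]; rfl
  constructor
  · intro G G' h
    have h1 : ∀ i, G.1 *ᵥ f₀.1 i = G'.1 *ᵥ f₀.1 i := fun i => congrFun (congrArg Subtype.val h) i
    apply Subtype.ext
    apply Matrix.toLin'.injective
    apply b₀.ext
    intro k
    rcases k with i | i
    · rw [hb₀l, Matrix.toLin'_apply, Matrix.toLin'_apply]
      exact h1 i
    · rw [hb₀r, Matrix.toLin'_apply, Matrix.toLin'_apply, Matrix.mulVec_mulVec, Matrix.mulVec_mulVec, G.2.2,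
        G'.2.2, ← Matrix.mulVec_mulVec, ← Matrix.mulVec_mulVec, h1 i]
  · intro f'
    obtain ⟨b', hb'⟩ := exists_basis_fam hA hX hm hm1 f'
    have hb'l : ∀ i, b' (Sum.inl i) = f'.1 i := fun i => by rw [hb']; rfl
    have hb'r : ∀ i, b' (Sum.inr i) = X *ᵥ f'.1 i := fun i => by rw [hb']; rfl
    set g : (ι → F) ≃ₗ[F] (ι → F) := b₀.equiv b' (Equiv.refl _) with hg
    have hgb : ∀ k, g (b₀ k) = b' k := fun k => by rw [hg, Basis.equiv_apply]; rfl
    have hgB : ∀ u v, B (g u) (g v) = B u v := by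
      have : B.compl₁₂ (g : (ι → F) →ₗ[F] (ι → F)) (g : (ι → F) →ₗ[F] (ι → F)) = B := by
        apply LinearMap.ext_basis b₀ b₀
        intro k l
        rw [LinearMap.compl₁₂_apply]
        show B (g (b₀ k)) (g (b₀ l)) = B (b₀ k) (b₀ l)
        rw [hgb, hgb]
        have h1 := congrFun (congrFun (gram_fam hA hX f') k) l
        have h2 := congrFun (congrFun (gram_fam hA hX f₀) k) l
        simp only [Matrix.of_apply] at h1 h2
        rw [hb', hb₀, h1, h2]
      intro u v
      conv_rhs => rw [← this]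
      rfl
    have hgX : ∀ v, g (X *ᵥ v) = X *ᵥ g v := by
      have : (g : (ι → F) →ₗ[F] (ι → F)) ∘ₗ Matrix.toLin' X = Matrix.toLin' X ∘ₗ (g : (ι → F) →ₗ[F] (ι → F)) := by
        apply b₀.ext
        intro k
        simp only [LinearMap.comp_apply, Matrix.toLin'_apply, LinearEquiv.coe_coe]
        rcases k with i | i
        · rw [hgb, hb₀l, hb'l, ← hb₀r, hgb, hb'r]
        · rw [hgb, hb₀r, hb'r, XX_apply hX2, XX_apply hX2, map_sub, map_neg, ← hb₀r, ← hb₀l, hgb, hgb, hb'l, hb'r]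
      intro v
      have h := congrArg (fun L => L v) this
      simpa only [LinearMap.comp_apply, Matrix.toLin'_apply, LinearEquiv.coe_coe] using h
    set G : Matrix ι ι F := LinearMap.toMatrix' (g : (ι → F) →ₗ[F] (ι → F)) with hG
    have hGv : ∀ v, G *ᵥ v = g v := by
      intro v
      rw [hG, LinearMap.toMatrix'_mulVec]
      rfl
    refine ⟨⟨G, ?_, ?_⟩, ?_⟩
    · intro u v
      rw [hGv, hGv]
      exact hgB u v
    · apply matrix_ext_mulVec
      intro v
      rw [← Matrix.mulVec_mulVec, ← Matrix.mulVec_mulVec, hGv, hGv, hgX]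
    · apply Subtype.ext
      funext i
      show G *ᵥ f₀.1 i = f'.1 i
      rw [hGv, ← hb₀l, hgb, hb'l]

include hA hX hX2 in
/-- **The commuting isometries are as many as the full frames.** -/
theorem card_CX {m : ℕ} (hm : 2 * m = Fintype.card ι) (hm1 : 1 ≤ m) (f₀ : XFr B X m) :
    Nat.card (CX B X) = Nat.card (XFr B X m) :=
  Nat.card_congr (Equiv.ofBijective _ (act_bijective hA hX hX2 hm hm1 f₀))

end Cfsg.Agent.Lib.Helper44_Order3Cent
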