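import Mathlib
import Cfsg.Agent.Lib.Helper44_OrthMinusCent

/-!
# Field automorphisms of prime order of `PΩ⁻_{2m+2}(q)` have odd order (helper44)
-/

set_option autoImplicit false
set_option linter.unusedSectionVars false
set_option linter.unusedVariables false

namespace Cfsg.Agent.Lib.Helper44_OrthMinusOddOrder

open Cfsg Matrix Cfsg.Agent.Lib.Helper44_Orth Cfsg.Agent.Lib.Helper14_AutOmega
  Cfsg.Agent.Lib.Helper44_OrthField Cfsg.Agent.Lib.Helper44_OrthCoset
  Cfsg.Agent.Lib.Helper44_OrthMinusK Cfsg.Agent.Lib.Helper44_StdForms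
  Cfsg.Agent.Lib.Helper44_OrthMinusLang Cfsg.Agent.Lib.Helper44_OrthMinusCoset
  Cfsg.Agent.Lib.Helper44_OrthMinusCent

/-! ### field automorphisms of the minus-type groups have odd order -/

section oddorder

variable {F : Type*} [Field F] [Fintype F]

/-- the order statement for functions equal to minus-type standard forms -/
theorem odd_of_fieldClass_aux {m : ℕ} (hm : 2 ≤ m) (Qf : (J m → F) → F)
    (x : MulAut (POmega F Qf))
    (hx : ∃ (a' b' : F) (Qf' : (J m → F) → F) (_ : Qf' = ⇑(qfMinus m F a' b'))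
      (ψ : POmega F Qf ≃* POmega F Qf') (σ : F ≃+* F),
      (∀ z₁ z₂ : F, z₁ ^ 2 + a' * z₁ * z₂ + b' * z₂ ^ 2 = 0 → z₁ = 0 ∧ z₂ = 0) ∧
      σ ≠ RingEquiv.refl F ∧ σ a' = a' ∧ σ b' = b' ∧
      IsFieldAutPOmegaOf Qf' σ ((ψ.symm.trans x).trans ψ))
    {r : ℕ} (hr : r.Prime) (hxr : orderOf x = r) : Odd r := by
  obtain ⟨a', b', Qf', hQf', ψ, σ, hab', hσ, hσa, hσb, hstd⟩ := hx
  subst hQf'
  have hn : 5 ≤ Fintype.card (J m) := by rw [card_J]; omega
  have hQ'₁ := Cfsg.Agent.Lib.Helper14_POmegaSimple.nondegenerate_qfMinus (F := F) m a' b' hab'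
  obtain ⟨σ₁, hσ₁⟩ : ∃ σ₁ : ↥(invSub (⇑(qfMinus m F a' b'))), σ₁.1 = σ :=
    ⟨⟨σ, sigInv_qfMinus m a' b' σ hσa hσb⟩, rfl⟩
  have hφ₁ : (ψ.symm.trans x).trans ψ = fieldO (⇑(qfMinus m F a' b')) σ₁ := by
    rw [← hσ₁] at hstd
    exact (isFieldAut_iff _ σ₁ _).mp hstd
  have hord : orderOf σ = r := by
    have h1 := orderOf_fieldO (qfMinus m F a' b') hQ'₁ hn (faithData_qfMinus a' b' hm) σ₁
    rw [← hφ₁, hσ₁] at h1
    have h2 : (ψ.symm.trans x).trans ψ = MulAut.congr ψ x := rfl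
    rw [h2, MulEquiv.orderOf_eq, hxr] at h1
    exact h1.symm
  exact odd_of_fixes a' b' hab' σ hσa hσb hr hord

/-- **a field automorphism of prime order of `PΩ⁻_{2m+2}(q)` has odd order** -/
theorem odd_of_fieldClass {m : ℕ} (hm : 2 ≤ m) {a b : F}
    (x : MulAut (POmega F (quadFormMinus m F a b))) (hx : IsFieldAutClassPOmegaMinus m x)
    {r : ℕ} (hr : r.Prime) (hxr : orderOf x = r) : Odd r := by
  obtain ⟨a', b', ψ, σ, hab', hσ, hσa, hσb, hstd⟩ := hx
  exact odd_of_fieldClass_aux hm (quadFormMinus m F a b) x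
    ⟨a', b', quadFormMinus m F a' b', (coe_qfMinus m F a' b').symm, ψ, σ, hab', hσ, hσa, hσb,
      hstd⟩ hr hxr

/-- a field automorphism of `PΩ⁻_{2m+2}(q)` is not an involution -/
theorem orderOf_ne_two_of_fieldClass {m : ℕ} (hm : 2 ≤ m) {a b : F}
    (x : MulAut (POmega F (quadFormMinus m F a b))) (hx : IsFieldAutClassPOmegaMinus m x) :
    orderOf x ≠ 2 := by
  intro h2
  have := odd_of_fieldClass hm x hx Nat.prime_two h2
  exact absurd this (by decide)

end oddorder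

end Cfsg.Agent.Lib.Helper44_OrthMinusOddOrder
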