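import Mathlib
import Cfsg.Agent.Lib.Helper44_OrthSubfield
import Cfsg.Agent.Lib.Helper44_OrthMinusOddOrder

/-!
# Local balance for field automorphisms of `PΩ⁻_{2m+2}(q)` (helper44)

The field-automorphism half of the local balance criterion for minus-type orthogonal groups:
an automorphism of odd prime order `p` outside the image of the similarity group is a field
automorphism, and the `p'`-core of its centralizer is nontrivial iff `p` does not divide the number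
of its fixed points.
-/

set_option autoImplicit false
set_option linter.unusedSectionVars false
set_option linter.unusedVariables false
set_option linter.unusedSimpArgs false

namespace Cfsg.Agent.Lib.Helper44_OrthMinusBalance

open Cfsg Matrix Cfsg.Agent.Lib.Helper44_Orth Cfsg.Agent.Lib.Helper14_AutOmega
  Cfsg.Agent.Lib.Helper7_OrthInduced Cfsg.Agent.Lib.Helper14_OrthGamma
  Cfsg.Agent.Lib.Helper14_OrthGamma2 Cfsg.Agent.Lib.Helper14_CentOmega
  Cfsg.Agent.Lib.Helper44_OrthField Cfsg.Agent.Lib.Helper44_H90i Cfsg.Agent.Lib.Helper44_H90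
  Cfsg.Agent.Lib.Helper44_OrthCoset Cfsg.Agent.Lib.Helper44_OrthBase
  Cfsg.Agent.Lib.Helper44_OrthMinusK Cfsg.Agent.Lib.Helper44_OrthPairs
  Cfsg.Agent.Lib.Helper44_OrthFaith Cfsg.Agent.Lib.Helper44_StdForms
  Cfsg.Agent.Lib.Helper44_OrthIsoTransport Cfsg.Agent.Lib.Helper44_OrthMinusLang
  Cfsg.Agent.Lib.Helper44_OrthMinusCoset Cfsg.Agent.Lib.Helper44_OrthMinusCent
  Cfsg.Agent.Lib.Helper44_FixField Cfsg.Agent.Lib.Helper44_OrthSubfield
  Cfsg.Agent.Lib.Helper44_OrthBalance Cfsg.Agent.Lib.Helper44_BalanceGen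
  Cfsg.Agent.Lib.Helper14_OrthMinusAut

/-! ### transport of semisimilarity-induced automorphisms along an isometry -/

section transport

variable {ι : Type} [Fintype ι] [DecidableEq ι] {F : Type*} [Field F]
  {Q Q' : (ι → F) → F} {P : GL ι F}

theorem IsIsom.semisim (h : IsIsom Q Q' P) {g : GL ι F} {σ : F ≃+* F}
    (hs : IsSemisimilarityPair Q g σ) :
    IsSemisimilarityPair Q' (P * g * (sigGL σ P)⁻¹) σ := by
  obtain ⟨c, hc⟩ := hs
  refine ⟨c, fun v => ?_⟩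
  have h1 : ((sigGL σ P)⁻¹ : GL ι F).1 *ᵥ (fun i => σ (v i)) =
      fun i => σ (((P⁻¹ : GL ι F).1 *ᵥ v) i) := by
    rw [← map_inv, sigGL_val, map_mulVec_sig]
  rw [Units.val_mul, Units.val_mul, ← Matrix.mulVec_mulVec, ← Matrix.mulVec_mulVec, h1, h, hc,
    h.inv]

theorem congr_isoT_twistP (h : IsIsom Q Q' P) {g : GL ι F} {σ : F ≃+* F}
    (hs : IsSemisimilarityPair Q g σ) :
    MulAut.congr (isoT h) (twistP Q g σ hs) =
      twistP Q' (P * g * (sigGL σ P)⁻¹) σ (IsIsom.semisim h hs) := by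
  apply MulEquiv.ext
  intro t'
  obtain ⟨t, rfl⟩ := (isoT h).surjective t'
  obtain ⟨s, rfl⟩ := QuotientGroup.mk_surjective t
  show isoT h (twistP Q g σ hs ((isoT h).symm (isoT h (QuotientGroup.mk s)))) = _
  rw [MulEquiv.symm_apply_apply, twistP_mk, isoT_mk, isoT_mk, twistP_mk]
  congr 1
  apply Subtype.ext
  apply Subtype.ext
  show P * (twist g σ ((s : ↥(isometryGroup F Q)) : GL ι F)) * P⁻¹ =
    twist (P * g * (sigGL σ P)⁻¹) σ (P * ((s : ↥(isometryGroup F Q)) : GL ι F) * P⁻¹)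
  rw [twist_apply, twist_apply, map_mul, map_mul, map_inv]
  group

end transport


/-! ### automorphisms of odd prime order outside `PGO` are field automorphisms -/

section fone

open Cfsg.Agent.Lib.Helper44_OrthCoh Cfsg.Agent.Lib.Helper40_QuadStd

variable {F : Type*} [Field F] [Fintype F]

theorem congr_trans_eq {T T' : Type*} [Group T] [Group T'] (e : T ≃* T') (c : MulAut T')
    (x : MulAut T) :
    MulAut.congr (e.trans (c : T' ≃* T')) x = c * MulAut.congr e x * c⁻¹ := by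
  apply MulEquiv.ext
  intro t
  rfl

set_option maxHeartbeats 1600000 in
/-- an automorphism of odd prime order of `PΩ⁻_{2m+2}(q)` not induced by a similarity is, under a
suitable identification with the group of another minus-type form, a standard field
automorphism -/
theorem exists_std_of_not_range {m : ℕ} (hm : 3 ≤ m) (a b : F)
    (hab : ∀ z₁ z₂ : F, z₁ ^ 2 + a * z₁ * z₂ + b * z₂ ^ 2 = 0 → z₁ = 0 ∧ z₂ = 0)
    {p : ℕ} [hp : Fact p.Prime] (hp2 : p ≠ 2)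
    (x : MulAut (POmega F (⇑(qfMinus m F a b)))) (hord : orderOf x = p)
    (hx : x ∉ (Phi (⇑(qfMinus m F a b))).range) :
    ∃ (a' b' : F) (_ : ∀ z₁ z₂ : F, z₁ ^ 2 + a' * z₁ * z₂ + b' * z₂ ^ 2 = 0 → z₁ = 0 ∧ z₂ = 0)
      (ψ : POmega F (⇑(qfMinus m F a b)) ≃* POmega F (⇑(qfMinus m F a' b'))) (σ : F ≃+* F)
      (hσa : σ a' = a') (hσb : σ b' = b'), σ ≠ 1 ∧ orderOf σ = p ∧
        MulAut.congr ψ x =
          fieldO (⇑(qfMinus m F a' b')) ⟨σ, sigInv_qfMinus m a' b' σ hσa hσb⟩ := by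
  classical
  have S := setup_minus hm a b hab
  have hn : 5 ≤ Fintype.card (J m) := by rw [card_J]; omega
  obtain ⟨σ, g, hs, hxg⟩ := S.exists_pair x
  have hcomp : S.compHom x = σ := S.comp_eq hs hxg
  have hσ1 : σ ≠ 1 := by
    intro h
    apply hx
    rw [← S.ker_compHom, MonoidHom.mem_ker, hcomp, h]
  have hσp : σ ^ p = 1 := by
    rw [← hcomp, ← map_pow, ← hord, pow_orderOf_eq_one, map_one]
  have hordσ : orderOf σ = p := by
    rcases (Nat.dvd_prime hp.out).mp (orderOf_dvd_of_pow_eq_one hσp) with h | h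
    · exact absurd (orderOf_eq_one_iff.mp h) hσ1
    · exact h
  have hodd : Odd p := hp.out.odd_of_ne_two hp2
  let _ : Fintype ↥(fixField σ) := Fintype.ofFinite _
  obtain ⟨ζ, hζ⟩ := exists_aniso (F := ↥(fixField σ))
  have hab' := aniso_of_odd σ hordσ hodd ζ hζ
  have hσa : σ 1 = 1 := map_one σ
  have hσb : σ (ζ : F) = ζ := (mem_fixField σ _).mp ζ.2
  obtain ⟨P, hP⟩ := exists_isom m a b hab 1 (ζ : F) hab'
  have hQ' := Cfsg.Agent.Lib.Helper14_POmegaSimple.nondegenerate_qfMinus (F := F) m 1 (ζ : F) hab'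
  obtain ⟨σ', hσ'⟩ : ∃ σ' : ↥(invSub (⇑(qfMinus m F 1 (ζ : F)))),
      σ' = ⟨σ, sigInv_qfMinus m 1 (ζ : F) σ hσa hσb⟩ := ⟨_, rfl⟩
  have hσ'1 : σ'.1 = σ := by rw [hσ']
  have hs' := IsIsom.semisim hP hs
  obtain ⟨g', hg'⟩ : ∃ g' : ↥(GO (⇑(qfMinus m F 1 (ζ : F)))),
      (g' : GL (J m) F) = P * g * (sigGL σ P)⁻¹ :=
    ⟨⟨_, mem_GO_of_semisim _ (sigInv_qfMinus m 1 (ζ : F) σ hσa hσb) hs'⟩, rfl⟩
  have hx' : MulAut.congr (isoT hP) x =
      Phi (⇑(qfMinus m F 1 (ζ : F))) g' * fieldO (⇑(qfMinus m F 1 (ζ : F))) σ' := by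
    rw [hxg, congr_isoT_twistP hP hs]
    apply (isInduced_iff' (⇑(qfMinus m F 1 (ζ : F))) g' σ' _).mp
    rw [hg', hσ'1]
    exact isInduced_twistP _ _ σ hs'
  have hxp : (Phi (⇑(qfMinus m F 1 (ζ : F))) g' * fieldO (⇑(qfMinus m F 1 (ζ : F))) σ') ^ p = 1 := by
    rw [← hx', ← map_pow, ← hord, pow_orderOf_eq_one, map_one]
  have hordσ' : orderOf σ'.1 = p := by rw [hσ'1]; exact hordσ
  obtain ⟨k, hk⟩ := field_coset_conj_o (qfMinus m F 1 (ζ : F)) hQ' hn σ' hp.out.pos hordσ'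
    (by
      rw [hσ'1]
      exact lang_GO_minus m 1 (ζ : F) (by omega) hab' σ hσa hσb hp.out.pos hordσ) g' hxp
  refine ⟨1, (ζ : F), hab', (isoT hP).trans
    (((Phi (⇑(qfMinus m F 1 (ζ : F))) k)⁻¹ : MulAut (POmega F (⇑(qfMinus m F 1 (ζ : F))))) :
      POmega F (⇑(qfMinus m F 1 (ζ : F))) ≃* POmega F (⇑(qfMinus m F 1 (ζ : F)))),
    σ, hσa, hσb, hσ1, hordσ, ?_⟩
  rw [congr_trans_eq, hx', hk, ← hσ']
  group

end fone

/-! ### the main statement -/

section main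

variable {F : Type*} [Field F] [Fintype F]

theorem eqLocus_congr {T T' : Type*} [Group T] [Group T'] (ψ : T ≃* T') (x : MulAut T) :
    MonoidHom.eqLocus (MulAut.congr ψ x).toMonoidHom (MonoidHom.id T') =
      (MonoidHom.eqLocus x.toMonoidHom (MonoidHom.id T)).map ψ.toMonoidHom := by
  ext y
  rw [Subgroup.mem_map]
  constructor
  · intro hy
    have hy' : ψ (x (ψ.symm y)) = y := hy
    refine ⟨ψ.symm y, ?_, ψ.apply_symm_apply y⟩
    show x (ψ.symm y) = ψ.symm y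
    have h1 := congrArg ψ.symm hy'
    rwa [ψ.symm_apply_apply] at h1
  · rintro ⟨z, hz, rfl⟩
    have hz' : x z = z := hz
    show ψ (x (ψ.symm (ψ z))) = ψ z
    rw [ψ.symm_apply_apply, hz']

set_option maxHeartbeats 1600000 in
/-- the statement for functions equal to minus-type standard forms -/
theorem balance_minus_field_aux {m : ℕ} (hm : 3 ≤ m) (a b : F)
    (hab : ∀ z₁ z₂ : F, z₁ ^ 2 + a * z₁ * z₂ + b * z₂ ^ 2 = 0 → z₁ = 0 ∧ z₂ = 0)
    (Qf : (J m → F) → F) (hQf : Qf = ⇑(qfMinus m F a b))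
    (A : Subgroup (MulAut (POmega F Qf))) (hinn : ∀ k : POmega F Qf, MulAut.conj k ∈ A)
    {p : ℕ} [hp : Fact p.Prime] (hp2 : p ≠ 2) (x : MulAut (POmega F Qf)) (hord : orderOf x = p)
    (hx : x ∉ (Phi Qf).range) :
    Cfsg.pPrimeCore p ↥(A ⊓ Subgroup.centralizer {x}) ≠ ⊥ ↔
      ((∃ (a' b' : F) (Qf' : (J m → F) → F) (_ : Qf' = ⇑(qfMinus m F a' b'))
        (ψ : POmega F Qf ≃* POmega F Qf') (σ : F ≃+* F),
        (∀ z₁ z₂ : F, z₁ ^ 2 + a' * z₁ * z₂ + b' * z₂ ^ 2 = 0 → z₁ = 0 ∧ z₂ = 0) ∧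
        σ ≠ RingEquiv.refl F ∧ σ a' = a' ∧ σ b' = b' ∧
        IsFieldAutPOmegaOf Qf' σ ((ψ.symm.trans x).trans ψ)) ∧
      Nat.Coprime p (Nat.card ↥(MonoidHom.eqLocus x.toMonoidHom (MonoidHom.id (POmega F Qf))))) := by
  subst hQf
  obtain ⟨a', b', hab', ψ, σ, hσa, hσb, hσ1, hordσ, hxψ⟩ :=
    exists_std_of_not_range hm a b hab hp2 x hord hx
  have hfield : ∃ (a' b' : F) (Qf' : (J m → F) → F) (_ : Qf' = ⇑(qfMinus m F a' b'))
      (ψ : POmega F (⇑(qfMinus m F a b)) ≃* POmega F Qf') (σ : F ≃+* F),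
      (∀ z₁ z₂ : F, z₁ ^ 2 + a' * z₁ * z₂ + b' * z₂ ^ 2 = 0 → z₁ = 0 ∧ z₂ = 0) ∧
      σ ≠ RingEquiv.refl F ∧ σ a' = a' ∧ σ b' = b' ∧
      IsFieldAutPOmegaOf Qf' σ ((ψ.symm.trans x).trans ψ) := by
    refine ⟨a', b', _, rfl, ψ, σ, hab', hσ1, hσa, hσb, ?_⟩
    exact (isFieldAut_iff (⇑(qfMinus m F a' b')) ⟨σ, sigInv_qfMinus m a' b' σ hσa hσb⟩ _).mpr hxψ
  -- descend the coefficients to the fixed field
  let _ : Fintype ↥(fixField σ) := Fintype.ofFinite _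
  obtain ⟨a₀, rfl⟩ := (hι_fix σ a').mp hσa
  obtain ⟨b₀, rfl⟩ := (hι_fix σ b').mp hσb
  have hab₀ : ∀ z₁ z₂ : ↥(fixField σ), z₁ ^ 2 + a₀ * z₁ * z₂ + b₀ * z₂ ^ 2 = 0 →
      z₁ = 0 ∧ z₂ = 0 := by
    intro z₁ z₂ h
    have h1 := congrArg (fixField σ).subtype h
    simp only [map_add, map_mul, map_pow, map_zero] at h1
    obtain ⟨e1, e2⟩ := hab' _ _ h1
    exact ⟨(map_eq_zero (fixField σ).subtype).mp e1, (map_eq_zero (fixField σ).subtype).mp e2⟩
  obtain ⟨σ', hσ'⟩ : ∃ σ' : ↥(invSub (⇑(qfMinus m F ((fixField σ).subtype a₀)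
      ((fixField σ).subtype b₀)))), σ' = ⟨σ, sigInv_qfMinus m _ _ σ hσa hσb⟩ := ⟨_, rfl⟩
  have hσ'1 : σ'.1 = σ := by rw [hσ']
  rw [← hσ'] at hxψ
  have S' := setup_minus hm _ _ hab'
  have S₀ := setup_minus hm a₀ b₀ hab₀
  have hinn' : ∀ k₁ : POmega F (⇑(qfMinus m F ((fixField σ).subtype a₀)
      ((fixField σ).subtype b₀))), MulAut.conj k₁ ∈ A.map (MulAut.congr ψ).toMonoidHom := by
    intro k₁
    refine ⟨MulAut.conj (ψ.symm k₁), hinn _, ?_⟩
    apply MulEquiv.ext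
    intro t
    show ψ (ψ.symm k₁ * ψ.symm t * (ψ.symm k₁)⁻¹) = k₁ * t * k₁⁻¹
    rw [map_mul, map_mul, map_inv, ψ.apply_symm_apply, ψ.apply_symm_apply]
  have hstd := balance_std_gen (p := p) (compat_qfMinus m a₀ b₀ (fixField σ).subtype) σ'
    (by rw [hσ'1]; exact hι_fix σ) S' S₀.nd S₀.ts ⟨_, nonsing_e0 m a₀ b₀⟩
    (fun τ => exists_restrict σ τ (ringAut_comm σ τ)) (by rw [hσ'1]; exact hordσ) hp2 _ hinn'
  have hcore := pPrimeCore_ne_bot_congr (centMapEquiv (MulAut.congr ψ) A x) p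
  rw [hxψ] at hcore
  have hcard : Nat.card ↥(MonoidHom.eqLocus x.toMonoidHom
      (MonoidHom.id (POmega F (⇑(qfMinus m F a b))))) = Nat.card ↥(FixK σ') := by
    have h1 := eqLocus_congr ψ x
    rw [hxψ] at h1
    show _ = Nat.card ↥(MonoidHom.eqLocus (fieldO _ σ').toMonoidHom (MonoidHom.id _))
    rw [h1]
    exact (Subgroup.card_map_of_injective ψ.injective).symm
  rw [hcore, hstd, hcard]
  exact ⟨fun h => ⟨hfield, h⟩, fun h => h.2⟩

/-- **the field-automorphism half of S2733**: for an automorphism `x` of odd prime order `p` of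
`PΩ⁻_{2m+2}(q)` outside the image of the similarity group, the `p'`-core of `C_A(x)` is nontrivial
iff `x` is a field automorphism and `p` does not divide the number of fixed points -/
theorem balance_minus_field {m : ℕ} (hm : 3 ≤ m) (a b : F)
    (hab : ∀ z₁ z₂ : F, z₁ ^ 2 + a * z₁ * z₂ + b * z₂ ^ 2 = 0 → z₁ = 0 ∧ z₂ = 0)
    (A : Subgroup (MulAut (POmega F (quadFormMinus m F a b))))
    (hinn : ∀ k : POmega F (quadFormMinus m F a b), MulAut.conj k ∈ A)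
    {p : ℕ} [hp : Fact p.Prime] (hp2 : p ≠ 2) (x : MulAut (POmega F (quadFormMinus m F a b)))
    (hxA : x ∈ A) (hord : orderOf x = p) (hx : x ∉ pgoAut F (quadFormMinus m F a b)) :
    Cfsg.pPrimeCore p ↥(A ⊓ Subgroup.centralizer {x}) ≠ ⊥ ↔
      (IsFieldAutClassPOmegaMinus m x ∧ Nat.Coprime p (Nat.card
        ↥(MonoidHom.eqLocus x.toMonoidHom
          (MonoidHom.id (POmega F (quadFormMinus m F a b)))))) := by
  rw [pgoAut_eq] at hx
  rw [balance_minus_field_aux hm a b hab (quadFormMinus m F a b) (coe_qfMinus m F a b).symm A hinn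
    hp2 x hord hx]
  constructor
  · rintro ⟨⟨a', b', Qf', hQf', ψ, σ, hab', hσ1, hσa, hσb, hstd⟩, hcop⟩
    have hQf'' : Qf' = quadFormMinus m F a' b' := hQf'.trans (coe_qfMinus m F a' b')
    subst hQf''
    exact ⟨⟨a', b', ψ, σ, hab', hσ1, hσa, hσb, hstd⟩, hcop⟩
  · rintro ⟨⟨a', b', ψ, σ, hab', hσ1, hσa, hσb, hstd⟩, hcop⟩
    exact ⟨⟨a', b', quadFormMinus m F a' b', (coe_qfMinus m F a' b').symm, ψ, σ, hab', hσ1, hσa,
      hσb, hstd⟩, hcop⟩

end main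

end Cfsg.Agent.Lib.Helper44_OrthMinusBalance
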