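import Mathlib
import Cfsg.Agent.Lib.Helper44_PSLnBalDefs
import Cfsg.Agent.Lib.Helper44_PSL2Aut

/-!
# PSLFBAL F_DVD (package of S2686, field half; architect helper44; formalized by helper5)

If `p` divides the number of fixed points of `fieldAut σ` on `PSL_n(F)` (`σ` of prime order
`p ≠ char F`), then `p` divides the order of the image of `SL_n(F₀)` in `Aut(PSL_n(F))`,
`F₀` the fixed field of `σ`.
-/

set_option autoImplicit false
set_option linter.unusedVariables false

namespace Cfsg.Agent.Lib.Helper5_PSLFBAL_DVD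

open scoped commutatorElement
open Matrix Cfsg.Agent.Lib.Helper14_PSLAut Cfsg.Agent.Lib.Helper44_PSLnRoot
  Cfsg.Agent.Lib.Helper44_PSLnTv Cfsg.Agent.Lib.Helper44_PSLnOut
  Cfsg.Agent.Lib.Helper44_PSLnFieldCent Cfsg.Agent.Lib.Helper44_FixField
  Cfsg.Agent.Lib.Helper44_PSLnBalDefs Cfsg.Agent.Lib.Helper44_BalanceGen
  Cfsg.Agent.Lib.Helper44_PSLnLang Cfsg.Agent.Lib.Helper44_PSL2Aut

variable {F : Type*} [Field F] {n : ℕ}

local notation "Gn" => Matrix.ProjectiveSpecialLinearGroup (Fin n) F

/-- `PSL_n(F)` has trivial centre: conjugation is injective -/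
theorem conj_injective_psl :
    Function.Injective (MulAut.conj : Gn →* MulAut Gn) := by
  rw [injective_iff_map_eq_one]
  intro x hx
  obtain ⟨s, rfl⟩ := proj_surjective x
  have h1 : conjAut (Matrix.SpecialLinearGroup.toGL s) = 1 := by
    rw [← conj_mk_eq]; exact hx
  rw [conjAut_eq_one_iff, Cfsg.Geo.mem_scalars_iff] at h1
  obtain ⟨c, hc⟩ := h1
  have hs : (s : Matrix (Fin n) (Fin n) F) = (c : F) • (1 : Matrix (Fin n) (Fin n) F) := hc
  show (QuotientGroup.mk s : Gn) = 1
  rw [QuotientGroup.eq_one_iff, Matrix.SpecialLinearGroup.mem_center_iff]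
  refine ⟨(c : F), ?_, ?_⟩
  · have h2 := s.2
    rw [hs, Matrix.det_smul, Matrix.det_one, mul_one] at h2
    exact h2
  · rw [hs, Matrix.smul_one_eq_diagonal]
    rfl

/-- a subfield matrix of determinant one acts as an element of the image of `psi` -/
theorem Phi_mem_range_psi (σ : F ≃+* F) (g : GL (Fin n) ↥(fixField σ))
    (h : Matrix.GeneralLinearGroup.det g = 1) :
    Phi (F := F) (fixField σ).subtype g ∈ (psi n σ).range := by
  obtain ⟨s, hs⟩ := Cfsg.Agent.Lib.Helper44_PSLnOut2.exists_toGL_of_det_eq_one g h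
  refine ⟨s, ?_⟩
  rw [psi_apply, Phi_apply, ← hs]
  show MulAut.conj (QuotientGroup.mk (mapSL n σ s) : Gn) = _
  rw [conj_mk_eq]
  congr 1
  apply Units.ext
  rfl

/-- a non-central subfield matrix of determinant one whose `p`-th power is central gives an element
of order `p` in the image of `psi` -/
theorem exists_order_of_noncentral (hn : 1 ≤ n) (σ : F ≃+* F) {p : ℕ} [hp : Fact p.Prime]
    (g : GL (Fin n) ↥(fixField σ)) (hdet : Matrix.GeneralLinearGroup.det g = 1)
    (hpow : g ^ p ∈ Subgroup.center (GL (Fin n) ↥(fixField σ)))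
    (hnc : g ∉ Subgroup.center (GL (Fin n) ↥(fixField σ))) :
    ∃ y ∈ (psi n σ).range, orderOf y = p := by
  refine ⟨Phi (F := F) (fixField σ).subtype g, Phi_mem_range_psi σ g hdet, ?_⟩
  apply orderOf_eq_prime
  · rw [← map_pow, ← MonoidHom.mem_ker, Phi_ker (F := F) (fixField σ).subtype hn]
    exact hpow
  · intro h
    apply hnc
    rw [← Phi_ker (F := F) (fixField σ).subtype hn, MonoidHom.mem_ker]
    exact h

/-- entries of a central element of `GL_n` -/
theorem center_entries {K : Type*} [Field K] (g : GL (Fin n) K)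
    (h : g ∈ Subgroup.center (GL (Fin n) K)) :
    ∃ c : K, ∀ i j : Fin n, g.1 i j = if i = j then c else 0 := by
  rw [Matrix.GeneralLinearGroup.center_eq_range_scalar] at h
  obtain ⟨c, rfl⟩ := h
  refine ⟨(c : K), fun i j => ?_⟩
  rw [Matrix.GeneralLinearGroup.coe_scalar, Matrix.scalar_apply, Matrix.diagonal_apply]

theorem dvd_card_range_psi [Fintype F] {r : ℕ} [hr : Fact r.Prime] [CharP F r] (hn : 2 ≤ n)
    (σ : F ≃+* F) {p : ℕ} [hp : Fact p.Prime] (hord : orderOf σ = p) (hpr : p ≠ r)
    (hdvd : p ∣ Nat.card ↥(FixK n σ)) : p ∣ Nat.card ↥(psi n σ).range := by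
  classical
  have hn1 : 1 ≤ n := by omega
  have hι : ∀ a : F, σ a = a ↔ a ∈ Set.range (fixField σ).subtype := by
    intro a
    rw [← mem_fixField]
    constructor
    · intro h; exact ⟨⟨a, h⟩, rfl⟩
    · rintro ⟨b, rfl⟩; exact b.2
  suffices h : ∃ y ∈ (psi n σ).range, orderOf y = p by
    obtain ⟨y, hy, hyo⟩ := h
    rw [← hyo]
    exact Subgroup.orderOf_dvd_natCard _ hy
  by_cases hA : ∃ a : (↥(fixField σ))ˣ, orderOf a = p
  · obtain ⟨a, ha⟩ := hA
    have hap : a ^ p = 1 := by rw [← ha]; exact pow_orderOf_eq_one a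
    have ha1 : a ≠ 1 := by
      intro h
      rw [h, orderOf_one] at ha
      exact hp.out.ne_one ha.symm
    by_cases hcase : 3 ≤ n ∨ p ≠ 2
    · -- the diagonal element `diag(a, a⁻¹, 1, …, 1)`
      obtain ⟨i0, hi0⟩ : ∃ i0 : Fin n, i0 = ⟨0, by omega⟩ := ⟨_, rfl⟩
      obtain ⟨i1, hi1⟩ : ∃ i1 : Fin n, i1 = ⟨1, by omega⟩ := ⟨_, rfl⟩
      have h01 : i0 ≠ i1 := by
        rw [hi0, hi1]
        intro h
        have := congrArg Fin.val h
        simp at this
      obtain ⟨v, hv⟩ : ∃ v : Fin n → (↥(fixField σ))ˣ,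
        v = Pi.mulSingle i0 a * Pi.mulSingle i1 a⁻¹ := ⟨_, rfl⟩
      have hv0 : v i0 = a := by
        rw [hv, Pi.mul_apply, Pi.mulSingle_eq_same, Pi.mulSingle_eq_of_ne h01, mul_one]
      have hv1 : v i1 = a⁻¹ := by
        rw [hv, Pi.mul_apply, Pi.mulSingle_eq_same, Pi.mulSingle_eq_of_ne h01.symm, one_mul]
      have hvp : v ^ p = 1 := by
        rw [hv, mul_pow, ← Pi.mulSingle_pow, ← Pi.mulSingle_pow, inv_pow, hap, inv_one,
          Pi.mulSingle_one, Pi.mulSingle_one, one_mul]
      have hentry : ∀ i : Fin n,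
          (Cfsg.Agent.Lib.Helper44_PSLnOut2.diagGLHom v : GL (Fin n) ↥(fixField σ)).1 i i =
            ((v i : (↥(fixField σ))ˣ) : ↥(fixField σ)) := by
        intro i
        show (Cfsg.Agent.Lib.Helper44_PSLnAut.diagGL v : GL (Fin n) ↥(fixField σ)).1 i i = _
        rw [Cfsg.Agent.Lib.Helper44_PSLnAut.diagGL_coe, Matrix.diagonal_apply_eq]
      apply exists_order_of_noncentral hn1 σ (Cfsg.Agent.Lib.Helper44_PSLnOut2.diagGLHom v)
      · show Matrix.GeneralLinearGroup.det (Cfsg.Agent.Lib.Helper44_PSLnAut.diagGL v) = 1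
        rw [Cfsg.Agent.Lib.Helper44_PSLnOut2.det_diagGL, hv]
        simp only [Pi.mul_apply]
        rw [Finset.prod_mul_distrib, Fintype.prod_pi_mulSingle', Fintype.prod_pi_mulSingle',
          mul_inv_cancel]
      · rw [← map_pow, hvp, map_one]
        exact Subgroup.one_mem _
      · intro hc
        obtain ⟨c, hc⟩ := center_entries _ hc
        have e0 := hc i0 i0
        have e1 := hc i1 i1
        rw [hentry, if_pos rfl, hv0] at e0
        rw [hentry, if_pos rfl, hv1] at e1
        have haa : a = a⁻¹ := by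
          apply Units.ext
          rw [e0, e1]
        rcases hcase with h3 | h2
        · obtain ⟨i2, hi2⟩ : ∃ i2 : Fin n, i2 = ⟨2, by omega⟩ := ⟨_, rfl⟩
          have h02 : i0 ≠ i2 := by
            rw [hi0, hi2]
            intro h
            have := congrArg Fin.val h
            simp at this
          have h12 : i1 ≠ i2 := by
            rw [hi1, hi2]
            intro h
            have := congrArg Fin.val h
            simp at this
          have hv2 : v i2 = 1 := by
            rw [hv, Pi.mul_apply, Pi.mulSingle_eq_of_ne h02.symm, Pi.mulSingle_eq_of_ne h12.symm,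
              mul_one]
          have e2 := hc i2 i2
          rw [hentry, if_pos rfl, hv2] at e2
          apply ha1
          apply Units.ext
          rw [e0, ← e2]
        · have hsq : a ^ 2 = 1 := by
            rw [pow_two]
            nth_rewrite 2 [haa]
            exact mul_inv_cancel a
          have h3 : orderOf a ∣ 2 := orderOf_dvd_of_pow_eq_one hsq
          rw [ha] at h3
          exact h2 ((Nat.prime_dvd_prime_iff_eq hp.out Nat.prime_two).mp h3)
    · -- `n = 2`, `p = 2`: the element `!![0, 1; -1, 0]`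
      have hn2 : n = 2 := by
        by_contra h
        exact hcase (Or.inl (by omega))
      have hp2 : p = 2 := by
        by_contra h
        exact hcase (Or.inr h)
      subst hn2
      obtain ⟨sw, hsw⟩ : ∃ sw : Matrix.SpecialLinearGroup (Fin 2) ↥(fixField σ),
          sw.1 = !![0, 1; -1, 0] :=
        ⟨⟨!![0, 1; -1, 0], by simp [Matrix.det_fin_two]⟩, rfl⟩
      apply exists_order_of_noncentral hn1 σ (Matrix.SpecialLinearGroup.toGL sw)
      · apply Units.ext
        simp
      · rw [Matrix.GeneralLinearGroup.center_eq_range_scalar, hp2]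
        refine ⟨-1, ?_⟩
        apply Units.ext
        rw [Matrix.GeneralLinearGroup.coe_scalar, Matrix.scalar_apply, Units.val_pow_eq_pow_val,
          Matrix.SpecialLinearGroup.coe_GL_coe_matrix, hsw, pow_two]
        ext i j
        fin_cases i <;> fin_cases j <;> simp [Matrix.mul_apply, Fin.sum_univ_two]
      · intro hc
        obtain ⟨c, hc⟩ := center_entries _ hc
        have e := hc 0 1
        rw [Matrix.SpecialLinearGroup.coe_GL_coe_matrix, hsw] at e
        simp at e
  · -- no element of order `p` in `F₀ˣ`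
    have hcop : ¬ p ∣ Nat.card (↥(fixField σ))ˣ := by
      intro h
      obtain ⟨a, ha⟩ := exists_prime_orderOf_dvd_card' p h
      exact hA ⟨a, ha⟩
    obtain ⟨x, hx⟩ := exists_prime_orderOf_dvd_card' p hdvd
    have hfix : fieldAut σ x.1 = x.1 := x.2
    have hox : orderOf x.1 = p := by rw [Subgroup.orderOf_coe]; exact hx
    have hoc : orderOf (MulAut.conj x.1) = p := by
      rw [orderOf_injective _ conj_injective_psl x.1]; exact hox
    have hmem : MulAut.conj x.1 ∈ CD n σ := by
      rw [mem_CD_iff]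
      refine ⟨?_, ?_⟩
      · obtain ⟨s, hs⟩ := proj_surjective x.1
        rw [← hs]
        show MulAut.conj (QuotientGroup.mk s : Gn) ∈ _
        rw [conj_mk_eq]
        exact conjAut_mem_DD _
      · rw [conj_comm_aut', hfix]
    obtain ⟨g₀, hg₀⟩ := Phi_range σ (fixField σ).subtype hι hn1 hp.out.pos hord _ hmem
    refine ⟨(MulAut.conj x.1) ^ Nat.card (↥(fixField σ))ˣ, ?_, ?_⟩
    · rw [← hg₀, ← map_pow]
      apply Phi_mem_range_psi
      rw [map_pow]
      exact pow_card_eq_one'
    · have hc : (orderOf (MulAut.conj x.1)).Coprime (Nat.card (↥(fixField σ))ˣ) := by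
        rw [hoc]
        exact (Nat.Prime.coprime_iff_not_dvd hp.out).mpr hcop
      rw [hc.orderOf_pow, hoc]

end Cfsg.Agent.Lib.Helper5_PSLFBAL_DVD
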