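import Mathlib
import Cfsg.Agent.Lib.Helper44_PSLnBalDefs
import Cfsg.Agent.Lib.Helper44_PSL2Aut
import Cfsg.Agent.Lib.Helper32_PSLFBAL_CONJINJ
import Cfsg.Agent.Lib.Helper43_PSLFBAL_SLDICH
import Cfsg.Agent.Lib.Helper43_PSLFBAL_SLGEN
import Cfsg.Agent.Lib.Helper5_PSLFBAL_DVD
import Cfsg.Agent.Lib.Helper32_PSLFBAL_KEY

/-!
# Local balance for field automorphisms of `PSL_n(F)` (helper44)

For an automorphism `β = conjAut g * fieldAut σ` of prime order `p ≠ r`, `σ ≠ 1`:
`O_{p'}(C_A(β)) ≠ 1 ↔ p ∤ |C_K(β)|`  (the field half of S2686).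
-/

set_option autoImplicit false
set_option linter.unusedSectionVars false
set_option linter.unusedVariables false

namespace Cfsg.Agent.Lib.Helper44_PSLnBalance

open scoped commutatorElement
open Matrix Cfsg.Agent.Lib.Helper14_PSLAut Cfsg.Agent.Lib.Helper44_PSLnRoot
  Cfsg.Agent.Lib.Helper44_PSLnTv Cfsg.Agent.Lib.Helper44_PSLnOut
  Cfsg.Agent.Lib.Helper44_PSLnFieldCent Cfsg.Agent.Lib.Helper44_FixField
  Cfsg.Agent.Lib.Helper44_PSLnBalDefs Cfsg.Agent.Lib.Helper44_BalanceGen
  Cfsg.Agent.Lib.Helper44_PSLnLang Cfsg.Agent.Lib.Helper44_PSL2Aut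

variable {F : Type*} [Field F] {n : ℕ}

local notation "Gn" => Matrix.ProjectiveSpecialLinearGroup (Fin n) F

/-! ### packages (PSLFBAL market: helper32, helper43, helper5) -/

open Cfsg.Agent.Lib.Helper32_PSLFBAL_CONJINJ (conj_injective)

open Cfsg.Agent.Lib.Helper43_PSLFBAL_SLDICH (sl_normal_dichotomy)
open Cfsg.Agent.Lib.Helper43_PSLFBAL_SLGEN (sl_closure_transvections)

open Cfsg.Agent.Lib.Helper5_PSLFBAL_DVD (dvd_card_range_psi)
open Cfsg.Agent.Lib.Helper32_PSLFBAL_KEY (mem_zpowers_of_fix_xr)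

/-! ### generalities -/

section general

variable {G : Type*} [Group G]

/-- a group generated by elements of order dividing a prime `r`, modulo a normal subgroup containing
the commutator subgroup, is an `r`-group -/
theorem index_eq_pow_of_generated [Finite G] {r : ℕ} [hr : Fact r.Prime] (S : Set G)
    (hS : Subgroup.closure S = ⊤) (hSr : ∀ s ∈ S, s ^ r = 1) (N : Subgroup G) [hN : N.Normal]
    (hc : commutator G ≤ N) : ∃ n : ℕ, N.index = r ^ n := by
  have hcomm : ∀ a b : G ⧸ N, a * b = b * a := by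
    intro a b
    obtain ⟨x, rfl⟩ := QuotientGroup.mk_surjective a
    obtain ⟨y, rfl⟩ := QuotientGroup.mk_surjective b
    rw [← QuotientGroup.mk_mul, ← QuotientGroup.mk_mul, QuotientGroup.eq]
    apply hc
    rw [commutator_def]
    have h1 : (x * y)⁻¹ * (y * x) = ⁅y⁻¹, x⁻¹⁆ := by
      rw [commutatorElement_def]
      group
    rw [h1]
    exact Subgroup.commutator_mem_commutator (Subgroup.mem_top _) (Subgroup.mem_top _)
  have hall : ∀ x : G, ((x : G ⧸ N)) ^ r = 1 := by
    intro x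
    have hx : x ∈ Subgroup.closure S := by rw [hS]; trivial
    induction hx using Subgroup.closure_induction with
    | mem s hs => rw [← QuotientGroup.mk_pow, hSr s hs, QuotientGroup.mk_one]
    | one => rw [QuotientGroup.mk_one, one_pow]
    | mul a b _ _ iha ihb =>
      rw [QuotientGroup.mk_mul, (show Commute (a : G ⧸ N) (b : G ⧸ N) from hcomm _ _).mul_pow,
        iha, ihb, one_mul]
    | inv a _ iha => rw [QuotientGroup.mk_inv, inv_pow, iha, inv_one]
  have hpg : IsPGroup r (G ⧸ N) := by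
    intro q
    obtain ⟨x, rfl⟩ := QuotientGroup.mk_surjective q
    exact ⟨1, by rw [pow_one]; exact hall x⟩
  obtain ⟨n, hn⟩ := hpg.exists_card_eq
  exact ⟨n, by rw [Subgroup.index_eq_card, hn]⟩

end general

/-! ### the subfield subgroup -/

section core

variable (σ : F ≃+* F)

theorem hι_fix (a : F) : σ a = a ↔ a ∈ Set.range (fixField σ).subtype := by
  rw [← mem_fixField]
  constructor
  · intro hx
    exact ⟨⟨a, hx⟩, rfl⟩
  · rintro ⟨y, rfl⟩
    exact y.2

theorem fieldAut_mapSL (s : Matrix.SpecialLinearGroup (Fin n) ↥(fixField σ)) :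
    fieldAut σ (proj (mapSL n σ s)) = proj (mapSL n σ s) := by
  rw [fieldAut_proj]
  congr 1
  apply Subtype.ext
  rw [fieldSL_coe, mapSL_coe]
  ext i j
  exact (hι_fix σ _).mpr ⟨_, rfl⟩

theorem fieldAut_comm_conj_iff (hn : 2 ≤ n) (k : Gn) :
    fieldAut σ * MulAut.conj k = MulAut.conj k * fieldAut σ ↔ fieldAut σ k = k := by
  rw [conj_comm_aut']
  constructor
  · intro h
    exact conj_injective hn (mul_right_cancel h)
  · intro h
    rw [h]

theorem conj_mem_CD (hn : 2 ≤ n) {k : Gn} (hk : fieldAut σ k = k) :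
    MulAut.conj k ∈ CD n σ := by
  rw [mem_CD_iff]
  refine ⟨?_, (fieldAut_comm_conj_iff σ hn k).mpr hk⟩
  obtain ⟨s, rfl⟩ := proj_surjective k
  have h1 := conj_mk_eq s
  exact ⟨Matrix.SpecialLinearGroup.toGL s, h1.symm⟩

theorem toGL_mapSL (s : Matrix.SpecialLinearGroup (Fin n) ↥(fixField σ)) :
    Matrix.SpecialLinearGroup.toGL (mapSL n σ s) =
      Matrix.GeneralLinearGroup.map (fixField σ).subtype (Matrix.SpecialLinearGroup.toGL s) := by
  apply Units.ext
  rfl

theorem psi_eq_Phi (s : Matrix.SpecialLinearGroup (Fin n) ↥(fixField σ)) :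
    psi n σ s = Phi (F := F) (fixField σ).subtype (Matrix.SpecialLinearGroup.toGL s) := by
  rw [psi_apply, Phi_apply, ← toGL_mapSL]
  exact conj_mk_eq _

variable {p : ℕ} (hp0 : 0 < p) (hord : orderOf σ = p)

include hp0 hord in
/-- inner automorphisms centralizing `fieldAut σ` normalize the subfield subgroup -/
theorem psi_conj (hn : 2 ≤ n) {k : Gn} (hk : fieldAut σ k = k)
    (s : Matrix.SpecialLinearGroup (Fin n) ↥(fixField σ)) :
    ∃ s' : Matrix.SpecialLinearGroup (Fin n) ↥(fixField σ),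
      MulAut.conj k * psi n σ s * (MulAut.conj k)⁻¹ = psi n σ s' := by
  obtain ⟨g₀, hg₀⟩ := Phi_range σ _ (hι_fix σ) (by omega) hp0 hord _ (conj_mem_CD σ hn hk)
  have hdet : Matrix.GeneralLinearGroup.det (g₀ * Matrix.SpecialLinearGroup.toGL s * g₀⁻¹) = 1 := by
    rw [map_mul, map_mul, map_inv, mul_comm, ← mul_assoc, inv_mul_cancel, one_mul]
    apply Units.ext
    rw [Matrix.GeneralLinearGroup.val_det_apply]
    exact s.2
  obtain ⟨s', hs'⟩ := Cfsg.Agent.Lib.Helper44_PSLnOut2.exists_toGL_of_det_eq_one _ hdet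
  refine ⟨s', ?_⟩
  rw [psi_eq_Phi, psi_eq_Phi, hs', ← hg₀, map_mul, map_mul, map_inv]

/-- root elements with parameter in the fixed field come from the subfield subgroup -/
theorem psi_xr {i j : Fin n} (hij : i ≠ j) (a : F) (ha : σ a = a) :
    ∃ s : Matrix.SpecialLinearGroup (Fin n) ↥(fixField σ),
      psi n σ s = MulAut.conj (xr hij a) := by
  refine ⟨Matrix.SpecialLinearGroup.transvection hij ⟨a, (mem_fixField σ _).mpr ha⟩, ?_⟩
  rw [psi_apply]
  congr 2
  apply Subtype.ext
  rw [mapSL_coe, Matrix.SpecialLinearGroup.transvection_coe,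
    Matrix.SpecialLinearGroup.transvection_coe]
  ext k l
  simp only [Matrix.map_apply, Matrix.add_apply, Matrix.one_apply,
    Matrix.single_apply]
  rw [map_add, apply_ite (fixField σ).subtype, apply_ite (fixField σ).subtype, map_one, map_zero]
  rfl

/-- if `y` commutes with conjugation by `t` then `y` fixes `t` -/
theorem fix_of_commute_conj (hn : 2 ≤ n) (y : MulAut Gn) (t : Gn)
    (h : y * MulAut.conj t = MulAut.conj t * y) : y t = t := by
  rw [conj_comm_aut'] at h
  exact conj_injective hn (mul_right_cancel h)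

end core

/-! ### the main argument -/

theorem transvection_pow {F₀ : Type*} [Field F₀] {n : ℕ} {i j : Fin n} (hij : i ≠ j) (c : F₀)
    (k : ℕ) : (Matrix.SpecialLinearGroup.transvection hij c) ^ k =
      Matrix.SpecialLinearGroup.transvection hij (k * c) := by
  induction k with
  | zero =>
    rw [pow_zero, Nat.cast_zero, zero_mul, Matrix.SpecialLinearGroup.transvection_coeff_zero]
  | succ k ih =>
    rw [pow_succ, ih, ← Matrix.SpecialLinearGroup.transvection_add, Nat.cast_succ, add_mul,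
      one_mul]

/-- central elements of the subfield group act trivially -/
theorem psi_eq_one_of_mem_center (σ : F ≃+* F)
    (s : Matrix.SpecialLinearGroup (Fin n) ↥(fixField σ))
    (hs : s ∈ Subgroup.center (Matrix.SpecialLinearGroup (Fin n) ↥(fixField σ))) :
    psi n σ s = 1 := by
  obtain ⟨c, hc, hcs⟩ := Matrix.SpecialLinearGroup.mem_center_iff.mp hs
  rw [psi_apply]
  have h1 : mapSL n σ s ∈ Subgroup.center (Matrix.SpecialLinearGroup (Fin n) F) := by
    rw [Matrix.SpecialLinearGroup.mem_center_iff]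
    refine ⟨(c : F), ?_, ?_⟩
    · have := congrArg (fixField σ).subtype hc
      rw [map_pow, map_one] at this
      exact this
    · rw [mapSL_coe, ← hcs]
      ext i j
      simp only [Matrix.scalar_apply, Matrix.map_apply, Matrix.diagonal_apply]
      split_ifs
      · rfl
      · exact (map_zero _).symm
  have h2 : proj (mapSL n σ s) = 1 := by
    unfold proj
    rw [QuotientGroup.mk'_apply, QuotientGroup.eq_one_iff]
    exact h1
  rw [h2, map_one]

theorem h01 (hn : 2 ≤ n) : (⟨0, by omega⟩ : Fin n) ≠ ⟨1, by omega⟩ := fun h => by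
  simpa using congrArg Fin.val h

/-- a fixed nontrivial root element -/
def t0 (hn : 2 ≤ n) : Gn := xr (h01 hn) (1 : F)

theorem t0_ne_one (hn : 2 ≤ n) : t0 (F := F) hn ≠ 1 := by
  intro h
  unfold t0 xr proj at h
  rw [QuotientGroup.mk'_apply, QuotientGroup.eq_one_iff,
    Matrix.SpecialLinearGroup.transvection_mem_center_iff] at h
  exact one_ne_zero h

theorem fieldAut_t0 (hn : 2 ≤ n) (σ : F ≃+* F) : fieldAut σ (t0 (F := F) hn) = t0 hn := by
  unfold t0
  rw [fieldAut_xr, map_one]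

section main

variable [Fintype F] {r : ℕ} [hr : Fact r.Prime] [CharP F r] (σ : F ≃+* F)
  {p : ℕ} [hp : Fact p.Prime] (hord : orderOf σ = p) (hpr : p ≠ r)

include hr hp hord hpr in
/-- the core of the argument: a `p'`-subgroup of `C(fieldAut σ)` normalized by the inner
automorphisms centralizing `fieldAut σ` is trivial if `p` divides the number of fixed points -/
theorem core_bot (hn : 2 ≤ n) (N' : Subgroup (MulAut Gn))
    (hcent : ∀ y ∈ N', fieldAut σ * y = y * fieldAut σ)
    (hnorm : ∀ k₁ : Gn, fieldAut σ k₁ = k₁ → ∀ y ∈ N',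
      MulAut.conj k₁ * y * (MulAut.conj k₁)⁻¹ ∈ N')
    (hcop : (Nat.card N').Coprime p)
    (hdvd : p ∣ Nat.card ↥(FixK n σ)) : N' = ⊥ := by
  classical
  obtain ⟨f, -, hF⟩ := FiniteField.card F r
  have hF' : Fintype.card F = r ^ (f : ℕ) := hF
  have hφord : orderOf (fieldAut (n := n) σ) = p := by rw [orderOf_fieldAut hn]; exact hord
  -- `psi s` normalizes `N'`
  have hnormψ : ∀ (s : Matrix.SpecialLinearGroup (Fin n) ↥(fixField σ)), ∀ y ∈ N',
      psi n σ s * y * (psi n σ s)⁻¹ ∈ N' := by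
    intro s y hy
    rw [psi_apply]
    exact hnorm _ (fieldAut_mapSL σ s) y hy
  apply core_abstract (fieldAut (n := n) σ) hφord
    ((FixK n σ).map (MulAut.conj : Gn →* MulAut Gn)) (psi n σ).range N'
  · rintro _ ⟨s, rfl⟩
    exact ⟨proj (mapSL n σ s), fieldAut_mapSL σ s, rfl⟩
  · rintro _ ⟨k₁, hk₁, rfl⟩ _ ⟨s, rfl⟩
    obtain ⟨s', hs'⟩ := psi_conj σ hp.out.pos hord hn hk₁ s
    exact ⟨s', hs'.symm⟩
  · rintro y hy _ ⟨k₁, hk₁, rfl⟩
    refine ⟨y k₁, ?_, ?_⟩
    · show fieldAut σ (y k₁) = y k₁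
      have hk₁' : fieldAut σ k₁ = k₁ := hk₁
      have := DFunLike.congr_fun (hcent y hy) k₁
      rw [MulAut.mul_apply, MulAut.mul_apply, hk₁'] at this
      exact this
    · show MulAut.conj (y k₁) = y * MulAut.conj k₁ * y⁻¹
      rw [conj_comm_aut' y k₁]
      group
  · rintro _ ⟨k₁, hk₁, rfl⟩ y hy
    exact hnorm k₁ hk₁ y hy
  · exact hcent
  · intro y _ hyH
    apply mem_zpowers_of_fix_xr hF' hn σ y
    intro i j hij a ha
    obtain ⟨s, hs⟩ := psi_xr σ hij a ha
    apply fix_of_commute_conj hn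
    rw [← hs]
    exact hyH _ ⟨s, rfl⟩
  · -- `N'` meets the subfield subgroup trivially
    have hDn : (N'.comap (psi n σ)).Normal := by
      refine ⟨fun s hs t => ?_⟩
      rw [Subgroup.mem_comap, map_mul, map_mul, map_inv]
      exact hnormψ t _ hs
    have hfinF₀ : Finite ↥(fixField σ) := Subtype.finite
    have hfinSL : Finite (Matrix.SpecialLinearGroup (Fin n) ↥(fixField σ)) := Subtype.finite
    rw [eq_bot_iff]
    rintro d ⟨hd, ⟨s, rfl⟩⟩
    rw [Subgroup.mem_bot]
    rcases sl_normal_dichotomy hn (N'.comap (psi n σ)) with hA | hB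
    · exact psi_eq_one_of_mem_center σ s (hA hd)
    · exfalso
      have : CharP ↥(fixField σ) r :=
        RingHom.charP (fixField σ).subtype Subtype.val_injective r
      obtain ⟨e, he⟩ := index_eq_pow_of_generated (r := r)
        {A : Matrix.SpecialLinearGroup (Fin n) ↥(fixField σ) |
          ∃ (i j : Fin n) (hij : i ≠ j) (c : ↥(fixField σ)),
            A = Matrix.SpecialLinearGroup.transvection hij c}
        (sl_closure_transvections hn)
        (by
          rintro A ⟨i, j, hij, c, rfl⟩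
          rw [transvection_pow, CharP.cast_eq_zero, zero_mul,
            Matrix.SpecialLinearGroup.transvection_coeff_zero])
        (N'.comap (psi n σ)) hB
      rw [Subgroup.index_comap] at he
      have h1 := Subgroup.card_mul_index (N'.subgroupOf (psi n σ).range)
      have h2 : (N'.subgroupOf (psi n σ).range).index = r ^ e := he
      rw [h2] at h1
      have h3 := dvd_card_range_psi hn σ hord hpr hdvd
      rw [← h1] at h3
      have h4 : p ∣ Nat.card ↥(N'.subgroupOf (psi n σ).range) := by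
        rcases (Nat.Prime.dvd_mul hp.out).mp h3 with h | h
        · exact h
        · exfalso
          have h5 := hp.out.dvd_of_dvd_pow h
          exact hpr ((Nat.prime_dvd_prime_iff_eq hp.out hr.out).mp h5)
      have h5 : Nat.card ↥(N'.subgroupOf (psi n σ).range) ∣ Nat.card ↥N' := by
        rw [← Subgroup.card_map_of_injective (Subgroup.subtype_injective (psi n σ).range),
          Subgroup.subgroupOf_map_subtype]
        exact Subgroup.card_dvd_of_le inf_le_left
      have h6 := Nat.dvd_gcd (h4.trans h5) (dvd_refl p)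
      rw [Nat.Coprime] at hcop
      rw [hcop] at h6
      exact hp.out.one_lt.ne' (Nat.dvd_one.mp h6)
  · exact hcop

include hr hp hord hpr in
/-- local balance for a standard field automorphism -/
theorem balance_std (hn : 2 ≤ n) (A : Subgroup (MulAut Gn))
    (hinn : ∀ k₁ : Gn, MulAut.conj k₁ ∈ A) :
    Cfsg.pPrimeCore p ↥(A ⊓ Subgroup.centralizer {fieldAut (n := n) σ}) ≠ ⊥ ↔
      Nat.Coprime p (Nat.card ↥(FixK n σ)) := by
  have hconjH : ∀ k₁ : Gn, fieldAut σ k₁ = k₁ →
      MulAut.conj k₁ ∈ A ⊓ Subgroup.centralizer {fieldAut (n := n) σ} := by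
    intro k₁ hk₁
    refine ⟨hinn k₁, Subgroup.mem_centralizer_iff.mpr ?_⟩
    intro z hz
    rw [Set.mem_singleton_iff] at hz
    subst hz
    exact (fieldAut_comm_conj_iff σ hn k₁).mpr hk₁
  have hcentH : ∀ h ∈ A ⊓ Subgroup.centralizer {fieldAut (n := n) σ},
      fieldAut σ * h = h * fieldAut σ := by
    intro h hh
    exact (Subgroup.mem_centralizer_iff.mp hh.2) _ rfl
  rw [pPrimeCore_ne_bot_iff]
  constructor
  · rintro ⟨N, hNn, hNc, hNb⟩
    by_contra hnc
    have hdvd : p ∣ Nat.card ↥(FixK n σ) := by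
      by_contra hnd
      exact hnc ((Nat.Prime.coprime_iff_not_dvd hp.out).mpr hnd)
    apply hNb
    have hinj := Subgroup.subtype_injective (A ⊓ Subgroup.centralizer {fieldAut (n := n) σ})
    rw [← Subgroup.map_eq_bot_iff_of_injective N hinj]
    apply core_bot σ hord hpr hn
    · rintro y ⟨h, hh, rfl⟩
      exact hcentH h.1 h.2
    · rintro k₁ hk₁ y ⟨h, hh, rfl⟩
      refine ⟨⟨MulAut.conj k₁, hconjH k₁ hk₁⟩ * h * ⟨MulAut.conj k₁, hconjH k₁ hk₁⟩⁻¹,
        hNn.conj_mem h hh _, rfl⟩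
    · rw [Subgroup.card_map_of_injective hinj]
      exact hNc
    · exact hdvd
  · intro hcop
    have hle : (FixK n σ).map (MulAut.conj : Gn →* _) ≤
        A ⊓ Subgroup.centralizer {fieldAut (n := n) σ} := by
      rintro _ ⟨k₁, hk₁, rfl⟩
      exact hconjH k₁ hk₁
    refine ⟨((FixK n σ).map (MulAut.conj : Gn →* _)).subgroupOf _, ?_, ?_, ?_⟩
    · refine ⟨fun y hy h => ?_⟩
      rw [Subgroup.mem_subgroupOf] at hy ⊢
      obtain ⟨k₁, hk₁, hk₁n⟩ := hy
      refine ⟨h.1 k₁, ?_, ?_⟩
      · show fieldAut σ (h.1 k₁) = h.1 k₁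
        have hk₁' : fieldAut σ k₁ = k₁ := hk₁
        have := DFunLike.congr_fun (hcentH h.1 h.2) k₁
        rw [MulAut.mul_apply, MulAut.mul_apply, hk₁'] at this
        exact this
      · show MulAut.conj (h.1 k₁) = h.1 * y.1 * h.1⁻¹
        rw [← hk₁n]
        have := conj_comm_aut' h.1 k₁
        calc MulAut.conj (h.1 k₁) = (MulAut.conj (h.1 k₁) * h.1) * h.1⁻¹ := by group
          _ = _ := by rw [← this]
    · rw [Nat.card_congr (Subgroup.subgroupOfEquivOfLe hle).toEquiv,
        Subgroup.card_map_of_injective (conj_injective hn)]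
      exact hcop.symm
    · intro hbot
      have hfix := fieldAut_t0 hn σ
      have h1 : (⟨MulAut.conj (t0 (F := F) hn), hconjH _ hfix⟩ :
          ↥(A ⊓ Subgroup.centralizer {fieldAut (n := n) σ})) ∈
          ((FixK n σ).map (MulAut.conj : Gn →* _)).subgroupOf _ := by
        rw [Subgroup.mem_subgroupOf]
        exact ⟨_, hfix, rfl⟩
      rw [hbot, Subgroup.mem_bot] at h1
      have h2 : MulAut.conj (t0 (F := F) hn) = (1 : MulAut Gn) := congrArg Subtype.val h1
      exact t0_ne_one hn (conj_injective hn (h2.trans (map_one _).symm))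

end main

/-- **Local balance for `PSL_n`, field half**: automorphisms `conjAut g * fieldAut σ` of prime order
`p ≠ r` outside the inner-diagonal group. -/
theorem balance_field [Fintype F] {r : ℕ} [hr : Fact r.Prime] [CharP F r] (hn : 2 ≤ n)
    (A : Subgroup (MulAut Gn)) (hinn : ∀ k : Gn, MulAut.conj k ∈ A) {p : ℕ} [hp : Fact p.Prime]
    (hpr : p ≠ r) (x : MulAut Gn) (hord : orderOf x = p)
    (g : GL (Fin n) F) (σ : F ≃+* F) (hσ1 : σ ≠ 1)
    (hx : x = conjAut g * fieldAut σ) :
    Cfsg.pPrimeCore p ↥(A ⊓ Subgroup.centralizer {x}) ≠ ⊥ ↔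
      Nat.Coprime p (Nat.card
        ↥(MonoidHom.eqLocus x.toMonoidHom (MonoidHom.id Gn))) := by
  -- `σ` has order `p`
  have hxp : x ^ p = 1 := by rw [← hord]; exact pow_orderOf_eq_one x
  have hσp : σ ^ p = 1 := by
    rw [hx, pow_conjAut_mul_fieldAut] at hxp
    have h1 : fieldAut (n := n) (σ ^ p) = conjAut (Cfsg.Agent.Lib.Helper44_H90.PN σ g p)⁻¹ := by
      rw [map_inv, eq_inv_iff_mul_eq_one]
      exact mul_eq_one_comm.mp hxp
    exact eq_one_of_fieldAut_eq_conjAut hn _ _ h1
  have hσ : orderOf σ = p := by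
    have h1 := orderOf_dvd_of_pow_eq_one hσp
    rcases (Nat.dvd_prime hp.out).mp h1 with h | h
    · exact absurd (orderOf_eq_one_iff.mp h) hσ1
    · exact h
  -- Lang: conjugate to the standard field automorphism
  obtain ⟨k, hk⟩ := field_coset_conj hn σ hp.out.pos hσ g (by rw [← hx]; exact hxp)
  rw [← hx] at hk
  have hφ : (conjAut k)⁻¹ * x * (conjAut k)⁻¹⁻¹ = fieldAut σ := by
    rw [hk]; group
  have hcard : Nat.card ↥(MonoidHom.eqLocus x.toMonoidHom (MonoidHom.id Gn)) =
      Nat.card ↥(FixK n σ) := by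
    have h1 : MonoidHom.eqLocus x.toMonoidHom (MonoidHom.id Gn) =
        (FixK n σ).map (conjAut k).toMonoidHom := by
      ext y
      rw [Subgroup.mem_map]
      constructor
      · intro hy
        have hy' : x y = y := hy
        refine ⟨(conjAut k)⁻¹ y, ?_, MulAut.apply_inv_self _ _ _⟩
        show fieldAut σ ((conjAut k)⁻¹ y) = (conjAut k)⁻¹ y
        rw [← hφ]
        simp only [MulAut.mul_apply, inv_inv, MulAut.apply_inv_self, hy']
      · rintro ⟨z, hz, rfl⟩
        have hz' : fieldAut σ z = z := hz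
        show x (conjAut k z) = conjAut k z
        rw [hk]
        simp only [MulAut.mul_apply, MulAut.inv_apply_self, hz']
    rw [h1]
    exact Subgroup.card_map_of_injective (conjAut k).injective
  have hinn' : ∀ k₁ : Gn,
      MulAut.conj k₁ ∈ A.map (MulAut.conj (conjAut k)⁻¹).toMonoidHom := by
    intro k₁
    refine ⟨MulAut.conj (conjAut k k₁), hinn _, ?_⟩
    show (conjAut k)⁻¹ * MulAut.conj (conjAut k k₁) * (conjAut k)⁻¹⁻¹ = MulAut.conj k₁
    have := conj_comm_aut' (conjAut k) k₁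
    calc (conjAut k)⁻¹ * MulAut.conj (conjAut k k₁) * (conjAut k)⁻¹⁻¹
        = (conjAut k)⁻¹ * (MulAut.conj (conjAut k k₁) * conjAut k) := by group
      _ = (conjAut k)⁻¹ * (conjAut k * MulAut.conj k₁) := by rw [this]
      _ = _ := by group
  rw [pPrimeCore_conj_iff A x (conjAut k)⁻¹ p, hφ, balance_std σ hσ hpr hn _ hinn', hcard]

/-- the field half of S2686 in the shape of the frozen statement -/
theorem balance_field_full [Fintype F] {r : ℕ} [hr : Fact r.Prime] [CharP F r] (hn : 2 ≤ n)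
    (A : Subgroup (MulAut Gn)) (hinn : ∀ k : Gn, MulAut.conj k ∈ A) {p : ℕ} [hp : Fact p.Prime]
    (hpr : p ≠ r) (x : MulAut Gn) (hord : orderOf x = p)
    (hnot : ¬ Cfsg.IsInnerDiagonalAutPSL x) (g : GL (Fin n) F) (σ : F ≃+* F)
    (hx : x = conjAut g * fieldAut σ) :
    Cfsg.pPrimeCore p ↥(A ⊓ Subgroup.centralizer {x}) ≠ ⊥ ↔
      ((∃ γ φ : MulAut Gn, Cfsg.IsInnerDiagonalAutPSL γ ∧ Cfsg.IsFieldAutPSL φ ∧ x = φ.trans γ) ∧
        Nat.Coprime p (Nat.card
          ↥(MonoidHom.eqLocus x.toMonoidHom (MonoidHom.id Gn)))) := by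
  have hσ1 : σ ≠ 1 := by
    intro h
    apply hnot
    rw [isInnerDiagonal_iff]
    exact ⟨g, by rw [hx, h, fieldAut_one, mul_one]⟩
  rw [balance_field hn A hinn hpr x hord g σ hσ1 hx]
  constructor
  · intro h
    refine ⟨⟨conjAut g, fieldAut σ, (isInnerDiagonal_iff _).mpr ⟨g, rfl⟩,
      ⟨σ, isStdFieldAut_fieldAut σ⟩, ?_⟩, h⟩
    rw [hx]
    rfl
  · exact fun h => h.2

/-- the field half of S2686 in the shape requested by helper14's assembly -/
theorem balance_PSL_field (F : Type*) [Field F] [Fintype F] (r : ℕ) [Fact r.Prime] [CharP F r]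
    (n : ℕ) (hn : 2 ≤ n)
    (hK : IsSimpleGroup (Matrix.ProjectiveSpecialLinearGroup (Fin n) F))
    (𝒢 : Subgroup (MulAut (Matrix.ProjectiveSpecialLinearGroup (Fin n) F)))
    (hinn : ∀ k : Matrix.ProjectiveSpecialLinearGroup (Fin n) F, MulAut.conj k ∈ 𝒢)
    (p : ℕ) [Fact p.Prime] (hpr : p ≠ r) (g : GL (Fin n) F) (σ : F ≃+* F)
    (hβ : (conjAut g * fieldAut σ : MulAut (Matrix.ProjectiveSpecialLinearGroup (Fin n) F)) ∈ 𝒢)
    (hord : orderOf (conjAut g * fieldAut σ :
      MulAut (Matrix.ProjectiveSpecialLinearGroup (Fin n) F)) = p)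
    (hσ : σ ≠ RingEquiv.refl F) :
    Cfsg.pPrimeCore p ↥(𝒢 ⊓ Subgroup.centralizer
        {(conjAut g * fieldAut σ : MulAut (Matrix.ProjectiveSpecialLinearGroup (Fin n) F))}) ≠ ⊥ ↔
      Nat.Coprime p (Nat.card ↥(MonoidHom.eqLocus
        (conjAut g * fieldAut σ : MulAut (Matrix.ProjectiveSpecialLinearGroup (Fin n) F)).toMonoidHom
        (MonoidHom.id (Matrix.ProjectiveSpecialLinearGroup (Fin n) F)))) :=
  balance_field hn 𝒢 hinn hpr _ hord g σ hσ rfl

end Cfsg.Agent.Lib.Helper44_PSLnBalance
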