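import Mathlib
import Cfsg.Prelude.Def_Classical
import Cfsg.Agent.Lib.Helper44_SpUT
import Cfsg.Agent.Lib.Helper44_PSLnSyl
import Cfsg.Agent.Lib.Helper5_PSpSimple
import Cfsg.Agent.S0246

/-!
# Transvections of `PSp_{2m}(F)` are recognised group-theoretically
-/

set_option autoImplicit false
set_option linter.unusedSectionVars false

namespace Cfsg.Agent.Lib.Helper44_PSpTv

open Matrix Cfsg.Agent.Lib.Helper44_PSLnUT Cfsg.Agent.Lib.Helper5_SpPerfect
  Cfsg.Agent.Lib.Helper44_SpUT Cfsg.Agent.Lib.Helper13_Symp Cfsg.Agent.Lib.Helper13_SympTrans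
  Cfsg.Agent.Lib.Helper5_PSpSimple Cfsg.Agent.Lib.Helper44_PSLnSyl
open scoped Pointwise

variable {F : Type*} [Field F] {m : ℕ}

/-- the projection `Sp → PSp` -/
abbrev pr : symplecticGroup (Fin m) F →* Cfsg.PSp m F :=
  QuotientGroup.mk' (Subgroup.center (symplecticGroup (Fin m) F))

theorem pr_surjective : Function.Surjective (pr (F := F) (m := m)) :=
  QuotientGroup.mk'_surjective _

theorem pr_eq_one_iff {g : symplecticGroup (Fin m) F} :
    pr g = 1 ↔ g ∈ Subgroup.center (symplecticGroup (Fin m) F) :=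
  QuotientGroup.eq_one_iff g

theorem pr_eq_iff {g h : symplecticGroup (Fin m) F} :
    pr g = pr h ↔ g⁻¹ * h ∈ Subgroup.center (symplecticGroup (Fin m) F) :=
  QuotientGroup.eq

/-- a central element of `Sp` lying in `USp` is trivial -/
theorem eq_one_of_mem_center_of_mem_USp (hm : 1 ≤ m) {z : symplecticGroup (Fin m) F}
    (hz : z ∈ Subgroup.center (symplecticGroup (Fin m) F)) (hu : z ∈ USp m F) : z = 1 := by
  rcases Cfsg.Agent.S0246.center_eq_one_or_neg_one m hm z hz with h | h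
  · exact Subtype.ext h
  · have h1 := hu.2.2 ⟨0, hm⟩
    rw [h] at h1
    have h2 : (-1 : Matrix (Fin m ⊕ Fin m) (Fin m ⊕ Fin m) F).toBlocks₁₁ ⟨0, hm⟩ ⟨0, hm⟩ = -1 := by
      simp [Matrix.toBlocks₁₁]
    rw [h2] at h1
    apply Subtype.ext
    rw [h]
    show (-1 : Matrix (Fin m ⊕ Fin m) (Fin m ⊕ Fin m) F) = 1
    have h3 : (-1 : F) = 1 := h1
    ext i j
    by_cases hij : i = j
    · subst hij; simp [h3]
    · simp [Matrix.one_apply_ne hij]

theorem pr_injOn_USp (hm : 1 ≤ m) {g h : symplecticGroup (Fin m) F} (hg : g ∈ USp m F)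
    (hh : h ∈ USp m F) (e : pr g = pr h) : g = h := by
  rw [pr_eq_iff] at e
  have h1 := eq_one_of_mem_center_of_mem_USp hm e ((USp m F).mul_mem ((USp m F).inv_mem hg) hh)
  exact inv_mul_eq_one.mp h1

/-- the image of `USp` in `PSp` -/
def UBar (m : ℕ) (F : Type*) [Field F] : Subgroup (Cfsg.PSp m F) := (USp m F).map pr

theorem exists_sylow_PSp [Fintype F] {p f : ℕ} [hp : Fact p.Prime]
    (hF : Fintype.card F = p ^ f) :
    ∃ P : Sylow p (Cfsg.PSp m F), (P : Subgroup (Cfsg.PSp m F)) = UBar m F := by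
  obtain ⟨P, hP⟩ := exists_sylow_Sp (m := m) hF
  haveI : Finite (symplecticGroup (Fin m) F) := Subtype.finite
  refine ⟨P.mapSurjective pr_surjective, ?_⟩
  rw [Sylow.coe_mapSurjective, hP]
  rfl

/-- projective symplectic transvections -/
def IsTvP (t : Cfsg.PSp m F) : Prop :=
  ∃ (v : Fin m ⊕ Fin m → F) (c : F), v ≠ 0 ∧ c ≠ 0 ∧ t = pr (transv m v c)

/-- the group-theoretic property recognising transvections -/
def Good (p : ℕ) (t : Cfsg.PSp m F) : Prop :=
  IsRootElt p t ∧ (p = 2 → ¬ ∃ u : Cfsg.PSp m F, u * u = t)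

theorem good_map_iff {p : ℕ} (α : MulAut (Cfsg.PSp m F)) (t : Cfsg.PSp m F) :
    Good p (α t) ↔ Good p t := by
  unfold Good
  rw [isRootElt_map_iff]
  constructor
  · rintro ⟨h1, h2⟩
    refine ⟨h1, fun hp => ?_⟩
    rintro ⟨u, hu⟩
    exact h2 hp ⟨α u, by rw [← map_mul, hu]⟩
  · rintro ⟨h1, h2⟩
    refine ⟨h1, fun hp => ?_⟩
    rintro ⟨u, hu⟩
    refine h2 hp ⟨α⁻¹ u, ?_⟩
    rw [← map_mul, hu]
    simp

/-- the first standard basis vector -/
abbrev e0 (k : ℕ) (F : Type*) [Field F] : Fin (k + 2) ⊕ Fin (k + 2) → F := Pi.single (Sum.inl 0) 1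

theorem e0_ne_zero (k : ℕ) : e0 k F ≠ 0 := by
  intro h
  have := congrFun h (Sum.inl 0)
  simp [e0] at this

theorem transv_e0 (k : ℕ) (c : F) :
    transv (k + 2) (e0 k F) c = Xg (Matrix.single 0 0 c) (by simp) := transv_single 0 c

theorem transv_e0_mem (k : ℕ) (c : F) : transv (k + 2) (e0 k F) c ∈ USp (k + 2) F := by
  rw [transv_e0]
  exact Xg_mem_USp _

theorem transv_e0_ne_one (k : ℕ) {c : F} (hc : c ≠ 0) : pr (transv (k + 2) (e0 k F) c) ≠ 1 := by
  intro h
  have h1 : pr (transv (k + 2) (e0 k F) c) = pr 1 := by rw [h, map_one]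
  have h2 := pr_injOn_USp (by omega) (transv_e0_mem k c) ((USp (k + 2) F).one_mem) h1
  rw [transv_e0] at h2
  have h3 := congrArg Subtype.val h2
  have h4 : Xmat (Matrix.single (0 : Fin (k + 2)) 0 c) = 1 := h3
  have h5 := congrFun (congrFun h4 (Sum.inl 0)) (Sum.inr 0)
  simp [Xmat] at h5
  exact hc h5

theorem two_eq_zero_iff {p : ℕ} [hp : Fact p.Prime] [CharP F p] : (2 : F) = 0 ↔ p = 2 := by
  have h := CharP.cast_eq_zero_iff F p 2
  rw [Nat.cast_ofNat] at h
  rw [h]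
  constructor
  · intro hd
    exact (Nat.prime_dvd_prime_iff_eq hp.out Nat.prime_two).mp hd
  · rintro rfl
    exact dvd_rfl

theorem center_eq_bot_of_two (hm : 1 ≤ m) (h2 : (2 : F) = 0)
    {z : symplecticGroup (Fin m) F} (hz : z ∈ Subgroup.center (symplecticGroup (Fin m) F)) :
    z = 1 := by
  rcases Cfsg.Agent.S0246.center_eq_one_or_neg_one m hm z hz with h | h
  · exact Subtype.ext h
  · apply Subtype.ext
    rw [h]
    show (-1 : Matrix (Fin m ⊕ Fin m) (Fin m ⊕ Fin m) F) = 1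
    have h3 : (-1 : F) = 1 := by linear_combination -h2
    ext i j
    by_cases hij : i = j
    · subst hij; simp [h3]
    · simp [Matrix.one_apply_ne hij]

theorem isTvP_conj {t : Cfsg.PSp m F} (ht : IsTvP t) (g : symplecticGroup (Fin m) F) :
    IsTvP (pr g * t * (pr g)⁻¹) := by
  obtain ⟨v, c, hv, hc, rfl⟩ := ht
  refine ⟨g.1 *ᵥ v, c, mulVec_ne_zero m g hv, hc, ?_⟩
  rw [← map_inv, ← map_mul, ← map_mul, conj_transv]

theorem good_of_isTvP {k : ℕ} [Fintype F] {p f : ℕ} [hp : Fact p.Prime] [CharP F p]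
    (hF : Fintype.card F = p ^ f) {t : Cfsg.PSp (k + 2) F} (ht : IsTvP t) : Good p t := by
  classical
  obtain ⟨v, c, hv, hc, rfl⟩ := ht
  obtain ⟨S0, hS0⟩ := exists_sylow_PSp (m := k + 2) hF
  constructor
  · obtain ⟨A, _, hA⟩ := exists_transv_map (k + 2) (e0 k F) v (e0_ne_zero k) hv
    have hstd : IsRootElt p (pr (transv (k + 2) (e0 k F) c)) := by
      refine ⟨transv_e0_ne_one k hc, S0, ?_, ?_⟩
      · show _ ∈ (S0 : Subgroup (Cfsg.PSp (k + 2) F))
        rw [hS0]
        exact ⟨_, transv_e0_mem k c, rfl⟩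
      · intro s hs
        have hs' : s ∈ UBar (k + 2) F := by rw [← hS0]; exact hs
        obtain ⟨u, hu, rfl⟩ := hs'
        show pr u * pr _ = pr _ * pr u
        rw [← map_mul, ← map_mul, transv_e0, Xg_single_central c u hu]
    have := hstd.map (MulAut.conj (pr A))
    rw [MulAut.conj_apply, ← map_inv, ← map_mul, ← map_mul, conj_transv, hA] at this
    exact this
  · intro hp2
    rintro ⟨ubar, hub⟩
    obtain ⟨u, rfl⟩ := pr_surjective ubar
    rw [← map_mul, pr_eq_iff] at hub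
    have h2 : (2 : F) = 0 := two_eq_zero_iff.mpr hp2
    have h1 := center_eq_bot_of_two (by omega) h2 hub
    have h3 : u * u = transv (k + 2) v c := inv_mul_eq_one.mp h1
    exact transv_not_sq h2 v hv c hc u h3

/-- lifting centrality from `UBar` to `USp` -/
theorem central_lift {k : ℕ} {z : symplecticGroup (Fin (k + 2)) F} (hz : z ∈ USp (k + 2) F)
    (hc : ∀ y ∈ UBar (k + 2) F, y * pr z = pr z * y) :
    ∀ u ∈ USp (k + 2) F, u * z = z * u := by
  intro u hu
  have h1 := hc (pr u) ⟨u, hu, rfl⟩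
  rw [← map_mul, ← map_mul] at h1
  exact pr_injOn_USp (by omega) ((USp (k + 2) F).mul_mem hu hz) ((USp (k + 2) F).mul_mem hz hu) h1

/-- a central element of `USp` which is not a square (in characteristic two) is a standard
transvection -/
theorem central_tv {k : ℕ} {p : ℕ} [hp : Fact p.Prime] [CharP F p] (h4 : p = 2 → 1 ≤ k)
    {z : symplecticGroup (Fin (k + 2)) F} (hz : z ∈ USp (k + 2) F)
    (hc : ∀ u ∈ USp (k + 2) F, u * z = z * u)
    (hsq : p = 2 → ¬ ∃ u : symplecticGroup (Fin (k + 2)) F, u * u = z) :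
    ∃ c : F, z = transv (k + 2) (e0 k F) c := by
  obtain ⟨s0, t', h2t, hzX⟩ := central_form z hz hc
  have ht' : t' = 0 := by
    by_cases h2 : (2 : F) = 0
    · have hp2 : p = 2 := two_eq_zero_iff.mp h2
      by_contra htne
      apply hsq hp2
      have hk := h4 hp2
      have h01 : (0 : Fin (k + 2)) ≠ 1 := by
        intro h
        have := congrArg Fin.val h
        simp at this
      by_cases hs0 : s0 = 0
      · have h02 : (0 : Fin (k + 2)) ≠ ⟨2, by omega⟩ := by
          intro h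
          have := congrArg Fin.val h
          simp at this
        have h12 : (1 : Fin (k + 2)) ≠ ⟨2, by omega⟩ := by
          intro h
          have := congrArg Fin.val h
          simp at this
        obtain ⟨u, hu⟩ := sq_case2 h2 h01 h02 h12 t'
        refine ⟨u, Subtype.ext ?_⟩
        rw [hu, hzX, hs0, Matrix.single_zero, zero_add]
      · obtain ⟨u, hu⟩ := sq_case1 h2 h01 s0 t' hs0 htne
        refine ⟨u, Subtype.ext ?_⟩
        rw [hu, hzX]
    · rcases mul_eq_zero.mp h2t with h | h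
      · exact absurd h h2
      · exact h
  refine ⟨s0, ?_⟩
  rw [transv_e0]
  apply Subtype.ext
  show z.1 = Xmat _
  rw [hzX, ht']
  simp

theorem isTvP_of_good {k : ℕ} [Fintype F] {p f : ℕ} [hp : Fact p.Prime] [CharP F p]
    (hF : Fintype.card F = p ^ f) (h4 : p = 2 → 1 ≤ k) {t : Cfsg.PSp (k + 2) F}
    (ht : Good p t) : IsTvP t := by
  classical
  have hfin : Finite (Cfsg.PSp (k + 2) F) := by
    haveI : Finite (symplecticGroup (Fin (k + 2)) F) := Subtype.finite
    exact Finite.of_surjective _ pr_surjective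
  obtain ⟨S0, hS0⟩ := exists_sylow_PSp (m := k + 2) hF
  obtain ⟨⟨ht1, S, hS, hc⟩, hsq⟩ := ht
  obtain ⟨x, hx⟩ := @MulAction.exists_smul_eq (Cfsg.PSp (k + 2) F) (Sylow p (Cfsg.PSp (k + 2) F)) _
    Sylow.isPretransitive_of_finite S S0
  set t0 := x * t * x⁻¹ with ht0
  have ht0S : t0 ∈ (S0 : Subgroup (Cfsg.PSp (k + 2) F)) := by
    rw [← hx, Sylow.coe_subgroup_smul]
    exact (Subgroup.mem_smul_pointwise_iff_exists _ _ _).mpr ⟨t, hS, rfl⟩
  have hc0 : ∀ s ∈ (S0 : Subgroup (Cfsg.PSp (k + 2) F)), s * t0 = t0 * s := by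
    intro s hs
    rw [← hx, Sylow.coe_subgroup_smul] at hs
    obtain ⟨s1, hs1, rfl⟩ := (Subgroup.mem_smul_pointwise_iff_exists _ _ _).mp hs
    rw [MulAut.smul_def, MulAut.conj_apply, ht0]
    have := hc s1 hs1
    calc x * s1 * x⁻¹ * (x * t * x⁻¹) = x * (s1 * t) * x⁻¹ := by group
      _ = x * (t * s1) * x⁻¹ := by rw [this]
      _ = x * t * x⁻¹ * (x * s1 * x⁻¹) := by group
  rw [hS0] at ht0S hc0
  obtain ⟨z, hz, hzt⟩ := ht0S
  have hzc := central_lift hz (by rw [hzt]; exact hc0)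
  have hzsq : p = 2 → ¬ ∃ u : symplecticGroup (Fin (k + 2)) F, u * u = z := by
    intro hp2
    rintro ⟨u, hu⟩
    apply hsq hp2
    refine ⟨x⁻¹ * pr u * x, ?_⟩
    have h1 : pr u * pr u = t0 := by rw [← map_mul, hu, hzt]
    calc x⁻¹ * pr u * x * (x⁻¹ * pr u * x) = x⁻¹ * (pr u * pr u) * x := by group
      _ = x⁻¹ * (x * t * x⁻¹) * x := by rw [h1, ht0]
      _ = t := by group
  obtain ⟨c, hzc'⟩ := central_tv h4 hz hzc hzsq
  have hcne : c ≠ 0 := by
    rintro rfl
    rw [transv_zero] at hzc'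
    apply ht1
    have h0 : t0 = 1 := by rw [← hzt, hzc', map_one]
    have h3 : t = x⁻¹ * t0 * x := by rw [ht0]; group
    rw [h3, h0]
    group
  have ht0tv : IsTvP t0 := ⟨e0 k F, c, e0_ne_zero k, hcne, by rw [← hzt, hzc']⟩
  obtain ⟨g, hg⟩ := pr_surjective (F := F) (m := k + 2) x⁻¹
  have := isTvP_conj ht0tv g
  rw [hg, ht0] at this
  have h3 : x⁻¹ * (x * t * x⁻¹) * x⁻¹⁻¹ = t := by group
  rw [h3] at this
  exact this

theorem isTvP_iff_good {k : ℕ} [Fintype F] {p f : ℕ} [hp : Fact p.Prime] [CharP F p]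
    (hF : Fintype.card F = p ^ f) (h4 : p = 2 → 1 ≤ k) (t : Cfsg.PSp (k + 2) F) :
    IsTvP t ↔ Good p t :=
  ⟨good_of_isTvP hF, isTvP_of_good hF h4⟩

/-- automorphisms of `PSp` preserve transvections -/
theorem isTvP_map_iff {k : ℕ} [Fintype F] {p f : ℕ} [hp : Fact p.Prime] [CharP F p]
    (hF : Fintype.card F = p ^ f) (h4 : p = 2 → 1 ≤ k) (α : MulAut (Cfsg.PSp (k + 2) F))
    (t : Cfsg.PSp (k + 2) F) : IsTvP (α t) ↔ IsTvP t := by
  rw [isTvP_iff_good hF h4, isTvP_iff_good hF h4, good_map_iff]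

end Cfsg.Agent.Lib.Helper44_PSpTv
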