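import Mathlib
import Cfsg.Agent.Lib.Helper44_PSpTv
import Cfsg.Agent.Lib.Helper44_FTPG

/-!
# Root subgroups of `PSp_{2m}(F)` and their permutation by automorphisms
-/

set_option autoImplicit false
set_option linter.unusedSectionVars false

namespace Cfsg.Agent.Lib.Helper44_PSpGeom

open Matrix Cfsg.Agent.Lib.Helper44_PSLnUT Cfsg.Agent.Lib.Helper5_SpPerfect
  Cfsg.Agent.Lib.Helper44_SpUT Cfsg.Agent.Lib.Helper13_Symp Cfsg.Agent.Lib.Helper13_SympTrans
  Cfsg.Agent.Lib.Helper5_PSpSimple Cfsg.Agent.Lib.Helper44_PSLnSyl Cfsg.Agent.Lib.Helper44_PSpTv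
open scoped Pointwise

variable {F : Type*} [Field F] {m : ℕ}

/-- the projective root subgroup of a vector -/
def XP (v : Fin m ⊕ Fin m → F) : Subgroup (Cfsg.PSp m F) := (rootSub m v).map pr

theorem mem_XP {v : Fin m ⊕ Fin m → F} {s : Cfsg.PSp m F} :
    s ∈ XP v ↔ ∃ c : F, s = pr (transv m v c) := by
  unfold XP
  rw [Subgroup.mem_map]
  constructor
  · rintro ⟨g, ⟨c, rfl⟩, rfl⟩
    exact ⟨c, rfl⟩
  · rintro ⟨c, rfl⟩
    exact ⟨_, ⟨c, rfl⟩, rfl⟩

theorem XP_conj (g : symplecticGroup (Fin m) F) (v : Fin m ⊕ Fin m → F) :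
    XP (g.1 *ᵥ v) = (XP v).map (MulAut.conj (pr g)).toMonoidHom := by
  ext s
  rw [mem_XP, Subgroup.mem_map]
  constructor
  · rintro ⟨c, rfl⟩
    refine ⟨pr (transv m v c), mem_XP.mpr ⟨c, rfl⟩, ?_⟩
    show MulAut.conj (pr g) (pr (transv m v c)) = _
    rw [MulAut.conj_apply, ← map_inv, ← map_mul, ← map_mul, conj_transv]
  · rintro ⟨s0, hs0, rfl⟩
    obtain ⟨c, rfl⟩ := mem_XP.mp hs0
    refine ⟨c, ?_⟩
    show MulAut.conj (pr g) (pr (transv m v c)) = _
    rw [MulAut.conj_apply, ← map_inv, ← map_mul, ← map_mul, conj_transv]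

theorem XP_smul (a : F) (ha : a ≠ 0) (v : Fin m ⊕ Fin m → F) : XP (a • v) = XP v := by
  unfold XP
  rw [rootSub_smul m a ha v]

/-- central elements of a subgroup that are trivial or transvections -/
def RS (H : Subgroup (Cfsg.PSp m F)) : Set (Cfsg.PSp m F) :=
  {s | s ∈ H ∧ (∀ y ∈ H, y * s = s * y) ∧ (s = 1 ∨ IsTvP s)}

theorem RS_map {k : ℕ} [Fintype F] {p f : ℕ} [hp : Fact p.Prime] [CharP F p]
    (hF : Fintype.card F = p ^ f) (h4 : p = 2 → 1 ≤ k) (α : MulAut (Cfsg.PSp (k + 2) F))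
    (H : Subgroup (Cfsg.PSp (k + 2) F)) :
    RS (H.map α.toMonoidHom) = α '' RS H := by
  ext s
  constructor
  · rintro ⟨⟨s0, hs0, rfl⟩, hc, htv⟩
    refine ⟨s0, ⟨hs0, ?_, ?_⟩, rfl⟩
    · intro y hy
      have := hc (α y) ⟨y, hy, rfl⟩
      apply α.injective
      rw [map_mul, map_mul]
      exact this
    · rcases htv with h | h
      · left
        apply α.injective
        rw [map_one]
        exact h
      · right
        exact (isTvP_map_iff hF h4 α s0).mp h
  · rintro ⟨s0, ⟨hs0, hc, htv⟩, rfl⟩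
    refine ⟨⟨s0, hs0, rfl⟩, ?_, ?_⟩
    · rintro _ ⟨y, hy, rfl⟩
      show α y * α s0 = α s0 * α y
      rw [← map_mul, ← map_mul, hc y hy]
    · rcases htv with h | h
      · left
        rw [h, map_one]
      · right
        exact (isTvP_map_iff hF h4 α s0).mpr h

theorem RS_UBar {k : ℕ} [Fintype F] {p f : ℕ} [hp : Fact p.Prime] [CharP F p]
    (hF : Fintype.card F = p ^ f) (h4 : p = 2 → 1 ≤ k) :
    RS (UBar (k + 2) F) = (XP (e0 k F) : Set (Cfsg.PSp (k + 2) F)) := by
  ext s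
  constructor
  · rintro ⟨hs, hc, htv⟩
    rcases htv with h | h
    · rw [h]
      exact (XP (e0 k F)).one_mem
    · obtain ⟨z, hz, rfl⟩ := hs
      have hzc := central_lift hz hc
      have hzsq : p = 2 → ¬ ∃ u : symplecticGroup (Fin (k + 2)) F, u * u = z := by
        intro hp2
        rintro ⟨u, hu⟩
        have hg := (good_of_isTvP hF h).2 hp2
        exact hg ⟨pr u, by rw [← map_mul, hu]⟩
      obtain ⟨c, hzc'⟩ := central_tv h4 hz hzc hzsq
      exact mem_XP.mpr ⟨c, by rw [hzc']⟩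
  · intro hs
    obtain ⟨c, rfl⟩ := mem_XP.mp hs
    refine ⟨⟨_, transv_e0_mem k c, rfl⟩, ?_, ?_⟩
    · rintro _ ⟨u, hu, rfl⟩
      show pr u * pr _ = pr _ * pr u
      rw [← map_mul, ← map_mul, transv_e0, Xg_single_central c u hu]
    · by_cases hc : c = 0
      · left
        rw [hc, transv_zero, map_one]
      · right
        exact ⟨e0 k F, c, e0_ne_zero k, hc, rfl⟩

theorem smul_eq_map {G : Type*} [Group G] (α : MulAut G) (H : Subgroup G) :
    α • H = H.map α.toMonoidHom := by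
  ext x
  rw [Subgroup.mem_smul_pointwise_iff_exists, Subgroup.mem_map]
  rfl

/-- automorphisms permute the projective root subgroups -/
theorem map_XP {k : ℕ} [Fintype F] {p f : ℕ} [hp : Fact p.Prime] [CharP F p]
    (hF : Fintype.card F = p ^ f) (h4 : p = 2 → 1 ≤ k) (α : MulAut (Cfsg.PSp (k + 2) F))
    (v : Fin (k + 2) ⊕ Fin (k + 2) → F) (hv : v ≠ 0) :
    ∃ v' : Fin (k + 2) ⊕ Fin (k + 2) → F, v' ≠ 0 ∧ (XP v).map α.toMonoidHom = XP v' := by
  classical
  have hfin : Finite (Cfsg.PSp (k + 2) F) := by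
    haveI : Finite (symplecticGroup (Fin (k + 2)) F) := Subtype.finite
    exact Finite.of_surjective _ pr_surjective
  obtain ⟨S0, hS0⟩ := exists_sylow_PSp (m := k + 2) hF
  obtain ⟨A, _, hA⟩ := exists_transv_map (k + 2) (e0 k F) v (e0_ne_zero k) hv
  set β : MulAut (Cfsg.PSp (k + 2) F) := α * MulAut.conj (pr A) with hβ
  obtain ⟨y, hy⟩ := @MulAction.exists_smul_eq (Cfsg.PSp (k + 2) F) (Sylow p (Cfsg.PSp (k + 2) F)) _
    Sylow.isPretransitive_of_finite S0 (β • S0)
  obtain ⟨h, rfl⟩ := pr_surjective y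
  have hmapeq : (UBar (k + 2) F).map (MulAut.conj (pr h)).toMonoidHom =
      (UBar (k + 2) F).map β.toMonoidHom := by
    have h1 := congrArg (fun P : Sylow p (Cfsg.PSp (k + 2) F) => (P : Subgroup (Cfsg.PSp (k + 2) F))) hy
    simp only [Sylow.coe_subgroup_smul, Sylow.pointwise_smul_def, hS0] at h1
    rw [smul_eq_map, smul_eq_map] at h1
    exact h1
  refine ⟨h.1 *ᵥ e0 k F, mulVec_ne_zero _ h (e0_ne_zero k), ?_⟩
  apply SetLike.coe_injective
  rw [← hA, XP_conj A, Subgroup.map_map, XP_conj h]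
  have e1 : α.toMonoidHom.comp (MulAut.conj (pr A)).toMonoidHom = β.toMonoidHom := rfl
  rw [e1, Subgroup.coe_map, Subgroup.coe_map, ← RS_UBar hF h4]
  have e2 : (β.toMonoidHom : Cfsg.PSp (k + 2) F → Cfsg.PSp (k + 2) F) = β := rfl
  have e3 : ((MulAut.conj (pr h)).toMonoidHom : Cfsg.PSp (k + 2) F → Cfsg.PSp (k + 2) F) =
      MulAut.conj (pr h) := rfl
  rw [e2, e3, ← RS_map hF h4, ← RS_map hF h4, hmapeq]

/-! ### equality of projective transvections -/

theorem exists_not_mem_span_pair (hm : 2 ≤ m) (v w : Fin m ⊕ Fin m → F) :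
    ∃ x : Fin m ⊕ Fin m → F, x ∉ Submodule.span F {v, w} := by
  by_contra hcon
  push Not at hcon
  have htop : Submodule.span F {v, w} = ⊤ := by
    rw [eq_top_iff]
    intro x _
    exact hcon x
  have h1 : Module.finrank F (Submodule.span F ({v, w} : Set (Fin m ⊕ Fin m → F))) ≤ 2 := by
    classical
    have h := finrank_span_finset_le_card (R := F) ({v, w} : Finset (Fin m ⊕ Fin m → F))
    have h2 : (({v, w} : Finset (Fin m ⊕ Fin m → F)) : Set (Fin m ⊕ Fin m → F)) = {v, w} := by simp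
    rw [h2] at h
    exact le_trans h Finset.card_le_two
  rw [htop, finrank_top, Module.finrank_fintype_fun_eq_card, Fintype.card_sum, Fintype.card_fin] at h1
  omega

/-- two elements of `Sp` with the same image in `PSp` agree up to sign -/
theorem eq_or_eq_neg_of_pr_eq (hm : 1 ≤ m) {a b : symplecticGroup (Fin m) F} (h : pr a = pr b) :
    b.1 = a.1 ∨ b.1 = -a.1 := by
  rw [pr_eq_iff] at h
  have hb : b = a * (a⁻¹ * b) := by group
  rcases Cfsg.Agent.S0246.center_eq_one_or_neg_one m hm _ h with h1 | h1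
  · left
    have := congrArg Subtype.val hb
    rw [this]
    show a.1 * (a⁻¹ * b).1 = a.1
    rw [h1, Matrix.mul_one]
  · right
    have := congrArg Subtype.val hb
    rw [this]
    show a.1 * (a⁻¹ * b).1 = -a.1
    rw [h1, Matrix.mul_neg, Matrix.mul_one]

theorem sim_of_pr_transv_eq (hm : 2 ≤ m) {v w : Fin m ⊕ Fin m → F} (hv : v ≠ 0)
    {a b : F} (ha : a ≠ 0) (h : pr (transv m v a) = pr (transv m w b)) :
    ∃ d : F, d ≠ 0 ∧ v = d • w := by
  obtain ⟨x0, hx0⟩ := exists_sympForm_ne_zero m hv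
  have hx0' : Cfsg.sympForm m F x0 v ≠ 0 := by
    rw [sympForm_swap]; exact neg_ne_zero.mpr hx0
  have hfirst : (∀ x, (a * Cfsg.sympForm m F x v) • v = (b * Cfsg.sympForm m F x w) • w) →
      ∃ d : F, d ≠ 0 ∧ v = d • w := by
    intro hall
    have h1 := hall x0
    have hne : a * Cfsg.sympForm m F x0 v ≠ 0 := mul_ne_zero ha hx0'
    refine ⟨(a * Cfsg.sympForm m F x0 v)⁻¹ * (b * Cfsg.sympForm m F x0 w), ?_, ?_⟩
    · intro h0
      apply hv
      have : (a * Cfsg.sympForm m F x0 v) • v = 0 := by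
        rw [h1]
        rcases mul_eq_zero.mp h0 with h2 | h2
        · exact absurd h2 (inv_ne_zero hne)
        · rw [h2, zero_smul]
      exact (smul_eq_zero.mp this).resolve_left hne
    · rw [mul_smul, ← h1, smul_smul, inv_mul_cancel₀ hne, one_smul]
  rcases eq_or_eq_neg_of_pr_eq (by omega) h with h1 | h1
  · apply hfirst
    intro x
    have := congrArg (fun M : Matrix (Fin m ⊕ Fin m) (Fin m ⊕ Fin m) F => M *ᵥ x) h1
    beta_reduce at this
    rw [transv_mulVec, transv_mulVec] at this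
    exact (add_left_cancel this).symm
  · by_cases h2 : (2 : F) = 0
    · apply hfirst
      intro x
      have hneg : (-(transv m v a).1 : Matrix (Fin m ⊕ Fin m) (Fin m ⊕ Fin m) F) = (transv m v a).1 := by
        ext i j
        rw [Matrix.neg_apply]
        have : (transv m v a).1 i j + (transv m v a).1 i j = 0 := by rw [← two_mul, h2, zero_mul]
        linear_combination -this
      rw [hneg] at h1
      have := congrArg (fun M : Matrix (Fin m ⊕ Fin m) (Fin m ⊕ Fin m) F => M *ᵥ x) h1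
      beta_reduce at this
      rw [transv_mulVec, transv_mulVec] at this
      exact (add_left_cancel this).symm
    · exfalso
      obtain ⟨x, hx⟩ := exists_not_mem_span_pair hm v w
      apply hx
      have := congrArg (fun M : Matrix (Fin m ⊕ Fin m) (Fin m ⊕ Fin m) F => M *ᵥ x) h1
      beta_reduce at this
      rw [Matrix.neg_mulVec, transv_mulVec, transv_mulVec] at this
      have h3 : (2 : F) • x = (-(a * Cfsg.sympForm m F x v)) • v + (-(b * Cfsg.sympForm m F x w)) • w := by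
        rw [two_smul, neg_smul, neg_smul]
        have h4 : x + (b * Cfsg.sympForm m F x w) • w + (x + (a * Cfsg.sympForm m F x v) • v) = 0 := by
          rw [this]; abel
        have h5 : x + x = -((a * Cfsg.sympForm m F x v) • v) + -((b * Cfsg.sympForm m F x w) • w) + (x + (b * Cfsg.sympForm m F x w) • w + (x + (a * Cfsg.sympForm m F x v) • v)) := by
          abel
        rw [h5, h4, add_zero]
      have h6 : x = (2 : F)⁻¹ • ((2 : F) • x) := by rw [smul_smul, inv_mul_cancel₀ h2, one_smul]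
      rw [h6, h3]
      apply Submodule.smul_mem
      rw [Submodule.mem_span_pair]
      exact ⟨_, _, rfl⟩

theorem XP_eq_iff (hm : 2 ≤ m) {v w : Fin m ⊕ Fin m → F} (hv : v ≠ 0) (hw : w ≠ 0) :
    XP v = XP w ↔ ∃ d : F, d ≠ 0 ∧ v = d • w := by
  constructor
  · intro h
    have h1 : pr (transv m v 1) ∈ XP w := by
      rw [← h]
      exact mem_XP.mpr ⟨1, rfl⟩
    obtain ⟨b, hb⟩ := mem_XP.mp h1
    exact sim_of_pr_transv_eq hm hv one_ne_zero hb
  · rintro ⟨d, hd, rfl⟩
    exact XP_smul d hd w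

/-! ### commuting root subgroups and orthogonality -/

/-- the root subgroups commute elementwise -/
def Comm (H K : Subgroup (Cfsg.PSp m F)) : Prop := ∀ s ∈ H, ∀ t ∈ K, s * t = t * s

theorem Comm_map (α : MulAut (Cfsg.PSp m F)) (H K : Subgroup (Cfsg.PSp m F)) :
    Comm (H.map α.toMonoidHom) (K.map α.toMonoidHom) ↔ Comm H K := by
  constructor
  · intro h s hs t ht
    apply α.injective
    rw [map_mul, map_mul]
    exact h _ ⟨s, hs, rfl⟩ _ ⟨t, ht, rfl⟩
  · rintro h _ ⟨s, hs, rfl⟩ _ ⟨t, ht, rfl⟩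
    show α s * α t = α t * α s
    rw [← map_mul, ← map_mul, h s hs t ht]

theorem comm_XP_iff (hm : 2 ≤ m) {v w : Fin m ⊕ Fin m → F} (hv : v ≠ 0) (hw : w ≠ 0) :
    Comm (XP v) (XP w) ↔ Cfsg.sympForm m F v w = 0 := by
  constructor
  · intro h
    have h1 := h _ (mem_XP.mpr ⟨1, rfl⟩) _ (mem_XP.mpr ⟨1, rfl⟩)
    -- conjugating `transv w 1` by `transv v 1`
    have h2 : pr (transv m ((transv m v 1).1 *ᵥ w) 1) = pr (transv m w 1) := by
      rw [← conj_transv, map_mul, map_mul, h1, map_inv]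
      group
    have hw' : (transv m v 1).1 *ᵥ w ≠ 0 := mulVec_ne_zero m _ hw
    obtain ⟨d, hd, hdw⟩ := sim_of_pr_transv_eq hm hw' one_ne_zero h2
    rw [transv_mulVec, one_mul] at hdw
    -- `w + f(w,v) v = d w`
    have h3 := congrArg (fun y => Cfsg.sympForm m F y w) hdw
    simp only [sympForm_add_left, sympForm_smul_left, sympForm_self, mul_zero, zero_add] at h3
    rcases mul_eq_zero.mp h3 with h4 | h4
    · rw [sympForm_swap, h4, neg_zero]
    · exact h4
  · intro h
    rintro _ hs _ ht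
    obtain ⟨a, rfl⟩ := mem_XP.mp hs
    obtain ⟨b, rfl⟩ := mem_XP.mp ht
    have hwv : Cfsg.sympForm m F w v = 0 := by rw [sympForm_swap, h, neg_zero]
    have h1 : transv m v a * transv m w b * (transv m v a)⁻¹ = transv m w b := by
      rw [conj_transv, transv_mulVec, hwv, mul_zero, zero_smul, add_zero]
    have h2 : transv m v a * transv m w b = transv m w b * transv m v a := by
      have := mul_inv_eq_iff_eq_mul.mp h1
      exact this
    rw [← map_mul, ← map_mul, h2]

/-! ### the point map -/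

theorem exists_pointMap {k : ℕ} [Fintype F] {p f : ℕ} [hp : Fact p.Prime] [CharP F p]
    (hF : Fintype.card F = p ^ f) (h4 : p = 2 → 1 ≤ k) (α : MulAut (Cfsg.PSp (k + 2) F)) :
    ∃ φ : (Fin (k + 2) ⊕ Fin (k + 2) → F) → (Fin (k + 2) ⊕ Fin (k + 2) → F),
      ∀ v, v ≠ 0 → φ v ≠ 0 ∧ (XP v).map α.toMonoidHom = XP (φ v) := by
  classical
  refine ⟨fun v => if hv : v = 0 then 0 else Classical.choose (map_XP hF h4 α v hv), ?_⟩
  intro v hv
  simp only [hv, dite_false]
  exact Classical.choose_spec (map_XP hF h4 α v hv)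

open Cfsg.Agent.Lib.Helper94_Bridge in
theorem mem_span_pair_iff_perp (v w u : Fin m ⊕ Fin m → F) :
    u ∈ Submodule.span F {v, w} ↔
      ∀ x, Cfsg.sympForm m F x v = 0 → Cfsg.sympForm m F x w = 0 → Cfsg.sympForm m F x u = 0 := by
  constructor
  · intro h x hxv hxw
    rw [Submodule.mem_span_pair] at h
    obtain ⟨a, b, rfl⟩ := h
    rw [sympForm_add_right, sympForm_smul_right, sympForm_smul_right, hxv, hxw, mul_zero, mul_zero,
      add_zero]
  · intro h
    have hrefl : (Bsymp m F).IsRefl := (Bsymp_isAlt m).isRefl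
    rw [← LinearMap.BilinForm.orthogonal_orthogonal (Bsymp_nondegenerate m) hrefl
      (Submodule.span F {v, w})]
    rw [LinearMap.BilinForm.mem_orthogonal_iff]
    intro n hn
    rw [LinearMap.BilinForm.mem_orthogonal_iff] at hn
    have h1 := hn v (Submodule.subset_span (by simp))
    have h2 := hn w (Submodule.subset_span (by simp))
    rw [Bsymp_apply] at h1 h2 ⊢
    apply h n
    · rw [sympForm_swap, h1, neg_zero]
    · rw [sympForm_swap, h2, neg_zero]

open Cfsg.Agent.Lib.Helper44_FTPG in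
theorem pointMap_coll {k : ℕ} [Fintype F] {p f : ℕ} [hp : Fact p.Prime] [CharP F p]
    (hF : Fintype.card F = p ^ f) (h4 : p = 2 → 1 ≤ k) (α : MulAut (Cfsg.PSp (k + 2) F))
    (φ : (Fin (k + 2) ⊕ Fin (k + 2) → F) → (Fin (k + 2) ⊕ Fin (k + 2) → F))
    (hφ : ∀ v, v ≠ 0 → φ v ≠ 0 ∧ (XP v).map α.toMonoidHom = XP (φ v)) : Coll φ := by
  have hm : 2 ≤ k + 2 := by omega
  have hperp : ∀ a b, a ≠ 0 → b ≠ 0 →
      (Cfsg.sympForm (k + 2) F (φ a) (φ b) = 0 ↔ Cfsg.sympForm (k + 2) F a b = 0) := by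
    intro a b ha hb
    rw [← comm_XP_iff hm (hφ a ha).1 (hφ b hb).1, ← comm_XP_iff hm ha hb, ← (hφ a ha).2,
      ← (hφ b hb).2, Comm_map]
  have hsurj : ∀ w, w ≠ 0 → ∃ v, v ≠ 0 ∧ Sim (φ v) w := by
    intro w hw
    obtain ⟨v', hv', hv'eq⟩ := map_XP hF h4 α⁻¹ w hw
    refine ⟨v', hv', ?_⟩
    have h1 : (XP v').map α.toMonoidHom = XP w := by
      rw [← hv'eq, Subgroup.map_map]
      have : α.toMonoidHom.comp (α⁻¹).toMonoidHom = MonoidHom.id _ := by
        ext x
        show α (α⁻¹ x) = x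
        simp
      rw [this, Subgroup.map_id]
    rw [(hφ v' hv').2] at h1
    obtain ⟨d, hd, hdw⟩ := (XP_eq_iff hm (hφ v' hv').1 hw).mp h1
    refine ⟨d⁻¹, inv_ne_zero hd, ?_⟩
    rw [hdw, smul_smul, inv_mul_cancel₀ hd, one_smul]
  refine ⟨fun v hv => (hφ v hv).1, hsurj, ?_⟩
  intro u v w hu hv hw
  rw [mem_span_pair_iff_perp, mem_span_pair_iff_perp]
  constructor
  · intro h y hyv hyw
    by_cases hy : y = 0
    · rw [hy, sympForm_zero_left]
    · obtain ⟨x, hx, c, hc, hcy⟩ := hsurj y hy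
      rw [hcy, sympForm_smul_left] at hyv hyw ⊢
      have h1 : Cfsg.sympForm (k + 2) F (φ x) (φ v) = 0 :=
        (mul_eq_zero.mp hyv).resolve_left hc
      have h2 : Cfsg.sympForm (k + 2) F (φ x) (φ w) = 0 :=
        (mul_eq_zero.mp hyw).resolve_left hc
      have h3 := h x ((hperp x v hx hv).mp h1) ((hperp x w hx hw).mp h2)
      rw [(hperp x u hx hu).mpr h3, mul_zero]
  · intro h x hxv hxw
    by_cases hx : x = 0
    · rw [hx, sympForm_zero_left]
    · have h3 := h (φ x) ((hperp x v hx hv).mpr hxv) ((hperp x w hx hw).mpr hxw)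
      exact (hperp x u hx hu).mp h3

end Cfsg.Agent.Lib.Helper44_PSpGeom
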