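import Mathlib
import Cfsg.Prelude.Def_LieTypeDatum
import Cfsg.Agent.Lib.Helper44_PSpGeom

/-!
# Automorphisms of `PSp_{2m}(F)` induced by semilinear conformal symplectic maps
-/

set_option autoImplicit false
set_option linter.unusedSectionVars false

namespace Cfsg.Agent.Lib.Helper44_PSpSemi

open Matrix Cfsg.Agent.Lib.Helper13_Symp Cfsg.Agent.Lib.Helper13_SympTrans
  Cfsg.Agent.Lib.Helper5_PSpSimple Cfsg.Agent.Lib.Helper44_PSpTv Cfsg.Agent.Lib.Helper44_PSpGeom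

variable {F : Type*} [Field F] {m : ℕ}

theorem mem_GSp_iff {g : GL (Fin m ⊕ Fin m) F} :
    g ∈ Cfsg.GSp m F ↔ ∃ c : Fˣ, ∀ u v : Fin m ⊕ Fin m → F,
      Cfsg.sympForm m F (g.1 *ᵥ u) (g.1 *ᵥ v) = (c : F) * Cfsg.sympForm m F u v := Iff.rfl

theorem conj_mem {g : GL (Fin m ⊕ Fin m) F} (hg : g ∈ Cfsg.GSp m F)
    {A : Matrix (Fin m ⊕ Fin m) (Fin m ⊕ Fin m) F} (hA : A ∈ symplecticGroup (Fin m) F) :
    g.1 * A * (g⁻¹ : GL (Fin m ⊕ Fin m) F).1 ∈ symplecticGroup (Fin m) F := by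
  obtain ⟨c, hc⟩ := mem_GSp_iff.mp hg
  apply mem_symplecticGroup_of_preserves
  intro u v
  have h1 : ∀ x : Fin m ⊕ Fin m → F, (g.1 * A * (g⁻¹ : GL (Fin m ⊕ Fin m) F).1) *ᵥ x =
      g.1 *ᵥ (A *ᵥ ((g⁻¹ : GL (Fin m ⊕ Fin m) F).1 *ᵥ x)) := by
    intro x
    rw [Matrix.mulVec_mulVec, Matrix.mulVec_mulVec, Matrix.mul_assoc]
  have h2 : ∀ x : Fin m ⊕ Fin m → F, g.1 *ᵥ ((g⁻¹ : GL (Fin m ⊕ Fin m) F).1 *ᵥ x) = x := by
    intro x
    rw [Matrix.mulVec_mulVec, ← Units.val_mul, mul_inv_cancel, Units.val_one, Matrix.one_mulVec]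
  rw [h1, h1, hc, sympForm_mulVec_mulVec_of_mem m hA]
  have h3 := hc ((g⁻¹ : GL (Fin m ⊕ Fin m) F).1 *ᵥ u) ((g⁻¹ : GL (Fin m ⊕ Fin m) F).1 *ᵥ v)
  rw [h2, h2] at h3
  exact h3.symm

/-- the field automorphism on `Sp` -/
def fieldSp (σ : F ≃+* F) : symplecticGroup (Fin m) F ≃* symplecticGroup (Fin m) F where
  toFun s := ⟨s.1.map σ, SymplecticGroup.map_mem s.2 σ⟩
  invFun s := ⟨s.1.map σ.symm, SymplecticGroup.map_mem s.2 σ.symm⟩
  left_inv s := by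
    apply Subtype.ext
    ext i j
    simp
  right_inv s := by
    apply Subtype.ext
    ext i j
    simp
  map_mul' s t := by
    apply Subtype.ext
    show (s.1 * t.1).map σ = s.1.map σ * t.1.map σ
    exact Matrix.map_mul

/-- conjugation by a conformal symplectic matrix on `Sp` -/
def conjSp (g : GL (Fin m ⊕ Fin m) F) (hg : g ∈ Cfsg.GSp m F) :
    symplecticGroup (Fin m) F ≃* symplecticGroup (Fin m) F where
  toFun s := ⟨g.1 * s.1 * (g⁻¹ : GL (Fin m ⊕ Fin m) F).1, conj_mem hg s.2⟩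
  invFun s := ⟨(g⁻¹ : GL (Fin m ⊕ Fin m) F).1 * s.1 * g.1, by
    have := conj_mem ((Cfsg.GSp m F).inv_mem hg) s.2
    rwa [inv_inv] at this⟩
  left_inv s := by
    apply Subtype.ext
    show (g⁻¹ : GL (Fin m ⊕ Fin m) F).1 * (g.1 * s.1 * (g⁻¹ : GL (Fin m ⊕ Fin m) F).1) * g.1 = s.1
    simp only [Matrix.mul_assoc]
    rw [← Units.val_mul, inv_mul_cancel, Units.val_one, Matrix.mul_one, ← Matrix.mul_assoc,
      ← Units.val_mul, inv_mul_cancel, Units.val_one, Matrix.one_mul]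
  right_inv s := by
    apply Subtype.ext
    show g.1 * ((g⁻¹ : GL (Fin m ⊕ Fin m) F).1 * s.1 * g.1) * (g⁻¹ : GL (Fin m ⊕ Fin m) F).1 = s.1
    simp only [Matrix.mul_assoc]
    rw [← Units.val_mul, mul_inv_cancel, Units.val_one, Matrix.mul_one, ← Matrix.mul_assoc,
      ← Units.val_mul, mul_inv_cancel, Units.val_one, Matrix.one_mul]
  map_mul' s t := by
    apply Subtype.ext
    show g.1 * (s.1 * t.1) * (g⁻¹ : GL (Fin m ⊕ Fin m) F).1 =
      (g.1 * s.1 * (g⁻¹ : GL (Fin m ⊕ Fin m) F).1) * (g.1 * t.1 * (g⁻¹ : GL (Fin m ⊕ Fin m) F).1)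
    have h : (g⁻¹ : GL (Fin m ⊕ Fin m) F).1 * g.1 = 1 := by
      rw [← Units.val_mul, inv_mul_cancel, Units.val_one]
    calc g.1 * (s.1 * t.1) * (g⁻¹ : GL (Fin m ⊕ Fin m) F).1
        = g.1 * s.1 * 1 * t.1 * (g⁻¹ : GL (Fin m ⊕ Fin m) F).1 := by
          rw [Matrix.mul_one]; simp only [Matrix.mul_assoc]
      _ = _ := by rw [← h]; simp only [Matrix.mul_assoc]

/-- an automorphism of `Sp` descends to `PSp` -/
def descend (e : symplecticGroup (Fin m) F ≃* symplecticGroup (Fin m) F) : MulAut (Cfsg.PSp m F) :=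
  QuotientGroup.congr (Subgroup.center (symplecticGroup (Fin m) F))
    (Subgroup.center (symplecticGroup (Fin m) F)) e
    (Subgroup.characteristic_iff_map_eq.mp inferInstance e)

theorem descend_pr (e : symplecticGroup (Fin m) F ≃* symplecticGroup (Fin m) F)
    (s : symplecticGroup (Fin m) F) : descend e (pr s) = pr (e s) := rfl

/-- the automorphism of `PSp` induced by `v ↦ g σ(v)` -/
def semiAut (g : GL (Fin m ⊕ Fin m) F) (hg : g ∈ Cfsg.GSp m F) (σ : F ≃+* F) :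
    MulAut (Cfsg.PSp m F) := descend ((fieldSp σ).trans (conjSp g hg))

theorem semiAut_pr_coe (g : GL (Fin m ⊕ Fin m) F) (hg : g ∈ Cfsg.GSp m F) (σ : F ≃+* F)
    (s : symplecticGroup (Fin m) F) :
    ∃ s' : symplecticGroup (Fin m) F, s'.1 = g.1 * s.1.map σ * (g⁻¹ : GL (Fin m ⊕ Fin m) F).1 ∧
      semiAut g hg σ (pr s) = pr s' :=
  ⟨(conjSp g hg) ((fieldSp σ) s), rfl, rfl⟩

theorem isInduced_semiAut (g : GL (Fin m ⊕ Fin m) F) (hg : g ∈ Cfsg.GSp m F) (σ : F ≃+* F) :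
    Cfsg.IsInducedBySemilinearPSp g σ (semiAut g hg σ) := by
  intro s s' hs'
  obtain ⟨s'', hs'', heq⟩ := semiAut_pr_coe g hg σ s
  have : s' = s'' := Subtype.ext (by rw [hs', hs''])
  rw [this]
  exact heq


theorem sympForm_map (σ : F ≃+* F) (u v : Fin m ⊕ Fin m → F) :
    Cfsg.sympForm m F (fun i => σ (u i)) (fun i => σ (v i)) = σ (Cfsg.sympForm m F u v) := by
  rw [sympForm_eq, sympForm_eq]
  simp only [map_sum, map_sub, map_mul]

theorem map_mulVec_apply (σ : F ≃+* F) (A : Matrix (Fin m ⊕ Fin m) (Fin m ⊕ Fin m) F)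
    (x : Fin m ⊕ Fin m → F) :
    (A.map σ) *ᵥ (fun i => σ (x i)) = fun i => σ ((A *ᵥ x) i) := by
  ext i
  have := RingHom.map_mulVec (σ : F →+* F) A x i
  simpa [Function.comp_def] using this.symm

theorem fieldSp_transv (σ : F ≃+* F) (v : Fin m ⊕ Fin m → F) (a : F) :
    fieldSp σ (transv m v a) = transv m (fun i => σ (v i)) (σ a) := by
  apply Subtype.ext
  apply Matrix.ext_iff_mulVec.mpr
  intro x
  have hx : x = fun i => σ (σ.symm (x i)) := by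
    ext i; simp
  show ((transv m v a).1.map σ) *ᵥ x = (transv m (fun i => σ (v i)) (σ a)).1 *ᵥ x
  rw [transv_mulVec]
  conv_lhs => rw [hx]
  rw [map_mulVec_apply, transv_mulVec]
  ext i
  simp only [Pi.add_apply, Pi.smul_apply, smul_eq_mul, map_add, map_mul, RingEquiv.apply_symm_apply]
  congr 2
  rw [← sympForm_map]
  simp only [RingEquiv.apply_symm_apply]

theorem conjSp_transv (g : GL (Fin m ⊕ Fin m) F) (hg : g ∈ Cfsg.GSp m F) (c : Fˣ)
    (hc : ∀ u v : Fin m ⊕ Fin m → F,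
      Cfsg.sympForm m F (g.1 *ᵥ u) (g.1 *ᵥ v) = (c : F) * Cfsg.sympForm m F u v)
    (w : Fin m ⊕ Fin m → F) (b : F) :
    conjSp g hg (transv m w b) = transv m (g.1 *ᵥ w) (b * (c : F)⁻¹) := by
  apply Subtype.ext
  apply Matrix.ext_iff_mulVec.mpr
  intro x
  show (g.1 * (transv m w b).1 * (g⁻¹ : GL (Fin m ⊕ Fin m) F).1) *ᵥ x = _
  have h2 : g.1 *ᵥ ((g⁻¹ : GL (Fin m ⊕ Fin m) F).1 *ᵥ x) = x := by
    rw [Matrix.mulVec_mulVec, ← Units.val_mul, mul_inv_cancel, Units.val_one, Matrix.one_mulVec]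
  rw [← Matrix.mulVec_mulVec, ← Matrix.mulVec_mulVec, transv_mulVec, transv_mulVec,
    Matrix.mulVec_add, h2, Matrix.mulVec_smul]
  congr 2
  have h3 := hc ((g⁻¹ : GL (Fin m ⊕ Fin m) F).1 *ᵥ x) w
  rw [h2] at h3
  rw [h3]
  have hc0 : (c : F) ≠ 0 := c.ne_zero
  field_simp

theorem semiAut_transv (g : GL (Fin m ⊕ Fin m) F) (hg : g ∈ Cfsg.GSp m F) (σ : F ≃+* F) (c : Fˣ)
    (hc : ∀ u v : Fin m ⊕ Fin m → F,
      Cfsg.sympForm m F (g.1 *ᵥ u) (g.1 *ᵥ v) = (c : F) * Cfsg.sympForm m F u v)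
    (v : Fin m ⊕ Fin m → F) (a : F) :
    semiAut g hg σ (pr (transv m v a)) =
      pr (transv m (g.1 *ᵥ (fun i => σ (v i))) (σ a * (c : F)⁻¹)) := by
  show pr ((conjSp g hg) ((fieldSp σ) (transv m v a))) = _
  rw [fieldSp_transv, conjSp_transv g hg c hc]

theorem semiAut_XP (g : GL (Fin m ⊕ Fin m) F) (hg : g ∈ Cfsg.GSp m F) (σ : F ≃+* F)
    (v : Fin m ⊕ Fin m → F) :
    (XP v).map (semiAut g hg σ).toMonoidHom = XP (g.1 *ᵥ (fun i => σ (v i))) := by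
  obtain ⟨c, hc⟩ := mem_GSp_iff.mp hg
  ext s
  rw [Subgroup.mem_map, mem_XP]
  constructor
  · rintro ⟨s0, hs0, rfl⟩
    obtain ⟨a, rfl⟩ := mem_XP.mp hs0
    exact ⟨_, semiAut_transv g hg σ c hc v a⟩
  · rintro ⟨b, rfl⟩
    refine ⟨pr (transv m v (σ.symm (b * (c : F)))), mem_XP.mpr ⟨_, rfl⟩, ?_⟩
    show semiAut g hg σ (pr (transv m v (σ.symm (b * (c : F))))) = _
    rw [semiAut_transv g hg σ c hc]
    congr 2
    rw [RingEquiv.apply_symm_apply]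
    have hc0 : (c : F) ≠ 0 := c.ne_zero
    field_simp

end Cfsg.Agent.Lib.Helper44_PSpSemi
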