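import Mathlib
import Cfsg.Agent.Lib.Helper44_PSpSemi

/-!
# Every automorphism of `PSp_{2m}(F)` is induced by a semilinear conformal symplectic map
-/

set_option autoImplicit false
set_option linter.unusedSectionVars false

namespace Cfsg.Agent.Lib.Helper44_PSpAut

open Matrix Cfsg.Agent.Lib.Helper13_Symp Cfsg.Agent.Lib.Helper13_SympTrans
  Cfsg.Agent.Lib.Helper5_PSpSimple Cfsg.Agent.Lib.Helper44_PSpTv Cfsg.Agent.Lib.Helper44_PSpGeom
  Cfsg.Agent.Lib.Helper44_PSpSemi Cfsg.Agent.Lib.Helper44_FTPG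

variable {F : Type*} [Field F] {m : ℕ}

/-- a matrix preserving perpendicularity for the symplectic form is conformal -/
theorem conformal_of_perp (g : Matrix (Fin m ⊕ Fin m) (Fin m ⊕ Fin m) F)
    (h : ∀ u v, Cfsg.sympForm m F u v = 0 → Cfsg.sympForm m F (g *ᵥ u) (g *ᵥ v) = 0) :
    ∃ c : F, ∀ u v, Cfsg.sympForm m F (g *ᵥ u) (g *ᵥ v) = c * Cfsg.sympForm m F u v := by
  classical
  -- the ratio
  have hA : ∀ u w v, Cfsg.sympForm m F (g *ᵥ u) (g *ᵥ v) * Cfsg.sympForm m F u w =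
      Cfsg.sympForm m F (g *ᵥ u) (g *ᵥ w) * Cfsg.sympForm m F u v := by
    intro u w v
    have h1 : Cfsg.sympForm m F u
        (Cfsg.sympForm m F u w • v - Cfsg.sympForm m F u v • w) = 0 := by
      rw [sympForm_sub_right, sympForm_smul_right, sympForm_smul_right]; ring
    have h2 := h _ _ h1
    rw [Matrix.mulVec_sub, Matrix.mulVec_smul, Matrix.mulVec_smul, sympForm_sub_right,
      sympForm_smul_right, sympForm_smul_right] at h2
    linear_combination h2
  have hS : ∀ u v, Cfsg.sympForm m F (g *ᵥ u) (g *ᵥ v) = - Cfsg.sympForm m F (g *ᵥ v) (g *ᵥ u) :=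
    fun u v => sympForm_swap m _ _
  by_cases hex : ∃ e f, Cfsg.sympForm m F e f ≠ 0
  · obtain ⟨e, f, hef⟩ := hex
    refine ⟨Cfsg.sympForm m F (g *ᵥ e) (g *ᵥ f) / Cfsg.sympForm m F e f, ?_⟩
    intro u v
    by_cases huv : Cfsg.sympForm m F u v = 0
    · rw [h u v huv, huv, mul_zero]
    · -- find `w` with `B(u,w) ≠ 0` and `B(e,w) ≠ 0`
      obtain ⟨w, hw1, hw2⟩ : ∃ w, Cfsg.sympForm m F u w ≠ 0 ∧ Cfsg.sympForm m F e w ≠ 0 := by
        by_cases h1 : Cfsg.sympForm m F e v = 0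
        · by_cases h2 : Cfsg.sympForm m F u f = 0
          · refine ⟨v + f, ?_, ?_⟩
            · rw [sympForm_add_right, h2, add_zero]; exact huv
            · rw [sympForm_add_right, h1, zero_add]; exact hef
          · exact ⟨f, h2, hef⟩
        · exact ⟨v, huv, h1⟩
      have hwu : Cfsg.sympForm m F w u ≠ 0 := by
        rw [sympForm_swap]; exact neg_ne_zero.mpr hw1
      have hwe : Cfsg.sympForm m F w e ≠ 0 := by
        rw [sympForm_swap]; exact neg_ne_zero.mpr hw2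
      -- chain of equal ratios
      have e1 := hA u w v
      have e2 := hA w u e
      have e3 := hA e f w
      have s1 := hS u w
      have s2 := hS w e
      have s3 := sympForm_swap m w u
      have s4 := sympForm_swap m w e
      rw [div_mul_eq_mul_div, eq_div_iff hef]
      have hne : Cfsg.sympForm m F u w * Cfsg.sympForm m F e w ≠ 0 := mul_ne_zero hw1 hw2
      apply mul_right_cancel₀ hne
      rw [s1] at e1
      rw [s2, s3, s4] at e2
      linear_combination (Cfsg.sympForm m F e f * Cfsg.sympForm m F e w) * e1 +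
        (-Cfsg.sympForm m F u v * Cfsg.sympForm m F e f) * e2 +
        (Cfsg.sympForm m F u v * Cfsg.sympForm m F u w) * e3
  · push Not at hex
    refine ⟨0, fun u v => ?_⟩
    rw [h u v (hex u v), zero_mul]


/-- a symplectic matrix fixing every projective point is central -/
theorem mem_center_of_sim (g : symplecticGroup (Fin m) F)
    (hg : ∀ v : Fin m ⊕ Fin m → F, v ≠ 0 → ∃ d : F, g.1 *ᵥ v = d • v) :
    g ∈ Subgroup.center (symplecticGroup (Fin m) F) := by
  set f : (Fin m ⊕ Fin m → F) →ₗ[F] (Fin m ⊕ Fin m → F) :=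
    Matrix.toLin' (g : Matrix (Fin m ⊕ Fin m) (Fin m ⊕ Fin m) F) with hf
  obtain ⟨a, ha⟩ := f.exists_eq_smul_id_of_forall_notLinearIndependent
    fun (v : Fin m ⊕ Fin m → F) ↦ by
      by_cases hv : v = 0
      · simp [hv, linearIndependent_fin2]
      · obtain ⟨c, hc⟩ := hg v hv
        rw [LinearIndependent.pair_iff' hv]
        push Not
        exact ⟨c, by rw [hf, Matrix.toLin'_apply]; exact hc.symm⟩
  have hscalar : (g : Matrix (Fin m ⊕ Fin m) (Fin m ⊕ Fin m) F) =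
      Matrix.scalar (Fin m ⊕ Fin m) a := calc
    (g : Matrix (Fin m ⊕ Fin m) (Fin m ⊕ Fin m) F) = LinearMap.toMatrix' f := by
      rw [hf, LinearMap.toMatrix'_toLin']
    _ = (algebraMap F (Module.End F (Fin m ⊕ Fin m → F)) a).toMatrix' :=
      congrArg LinearMap.toMatrix' ha
    _ = Matrix.scalar (Fin m ⊕ Fin m) a := LinearMap.toMatrix'_algebraMap a
  rw [Subgroup.mem_center_iff]
  intro h
  apply Subtype.ext
  show (h : Matrix (Fin m ⊕ Fin m) (Fin m ⊕ Fin m) F) *
      (g : Matrix (Fin m ⊕ Fin m) (Fin m ⊕ Fin m) F)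
    = (g : Matrix (Fin m ⊕ Fin m) (Fin m ⊕ Fin m) F) *
      (h : Matrix (Fin m ⊕ Fin m) (Fin m ⊕ Fin m) F)
  rw [hscalar]
  exact ((Matrix.scalar_commute a (fun r => mul_comm _ _)) _).symm

/-- an automorphism of `PSp` fixing every projective root subgroup is trivial -/
theorem eq_one_of_fix_XP (hm : 2 ≤ m) (γ : MulAut (Cfsg.PSp m F))
    (hγ : ∀ v : Fin m ⊕ Fin m → F, v ≠ 0 → (XP v).map γ.toMonoidHom = XP v) : γ = 1 := by
  ext s
  show γ s = s
  obtain ⟨g0, rfl⟩ := pr_surjective s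
  obtain ⟨g1, hg1⟩ := pr_surjective (γ (pr g0))
  rw [← hg1]
  rw [pr_eq_iff]
  apply mem_center_of_sim
  intro v hv
  have hv0 : g0.1 *ᵥ v ≠ 0 := mulVec_ne_zero m g0 hv
  have hv1 : g1.1 *ᵥ v ≠ 0 := mulVec_ne_zero m g1 hv
  have h1 : XP (g0.1 *ᵥ v) = XP (g1.1 *ᵥ v) := by
    calc XP (g0.1 *ᵥ v) = (XP (g0.1 *ᵥ v)).map γ.toMonoidHom := (hγ _ hv0).symm
      _ = ((XP v).map (MulAut.conj (pr g0)).toMonoidHom).map γ.toMonoidHom := by rw [XP_conj]
      _ = ((XP v).map γ.toMonoidHom).map (MulAut.conj (pr g1)).toMonoidHom := by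
          rw [Subgroup.map_map, Subgroup.map_map]
          congr 1
          ext x
          show γ (MulAut.conj (pr g0) x) = MulAut.conj (pr g1) (γ x)
          rw [MulAut.conj_apply, MulAut.conj_apply, map_mul, map_mul, map_inv, hg1]
      _ = XP (g1.1 *ᵥ v) := by rw [hγ v hv, XP_conj]
  obtain ⟨d, hd, hdv⟩ := (XP_eq_iff hm hv0 hv1).mp h1
  refine ⟨d, ?_⟩
  show (g1⁻¹ * g0).1 *ᵥ v = d • v
  rw [Submonoid.coe_mul, ← Matrix.mulVec_mulVec, hdv, Matrix.mulVec_smul, Matrix.mulVec_mulVec,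
    ← Submonoid.coe_mul, inv_mul_cancel, Submonoid.coe_one, Matrix.one_mulVec]


/-- every automorphism of `PSp_{2m}(F)` (`m ≥ 2`, `(m, p) ≠ (2, 2)`) is induced by a semilinear
conformal symplectic map -/
theorem exists_semiAut {k : ℕ} [Fintype F] {p f : ℕ} [hp : Fact p.Prime] [CharP F p]
    (hF : Fintype.card F = p ^ f) (h4 : p = 2 → 1 ≤ k) (α : MulAut (Cfsg.PSp (k + 2) F)) :
    ∃ (g : GL (Fin (k + 2) ⊕ Fin (k + 2)) F) (hg : g ∈ Cfsg.GSp (k + 2) F) (σ : F ≃+* F),
      α = semiAut g hg σ := by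
  classical
  have hm : 2 ≤ k + 2 := by omega
  obtain ⟨φ, hφ⟩ := exists_pointMap hF h4 α
  have hcoll := pointMap_coll hF h4 α φ hφ
  have h3 : 3 ≤ Fintype.card (Fin (k + 2) ⊕ Fin (k + 2)) := by
    rw [Fintype.card_sum, Fintype.card_fin]; omega
  obtain ⟨g, σ, hgσ⟩ := ftpg hcoll h3
  -- perpendicularity is preserved by `φ`
  have hperp : ∀ a b, a ≠ 0 → b ≠ 0 →
      (Cfsg.sympForm (k + 2) F (φ a) (φ b) = 0 ↔ Cfsg.sympForm (k + 2) F a b = 0) := by
    intro a b ha hb
    rw [← comm_XP_iff hm (hφ a ha).1 (hφ b hb).1, ← comm_XP_iff hm ha hb, ← (hφ a ha).2,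
      ← (hφ b hb).2, Comm_map]
  -- hence by `g`
  have hperp2 : ∀ u v, Cfsg.sympForm (k + 2) F u v = 0 →
      Cfsg.sympForm (k + 2) F (g.1 *ᵥ u) (g.1 *ᵥ v) = 0 := by
    intro u v huv
    by_cases hu : u = 0
    · rw [hu, Matrix.mulVec_zero, sympForm_zero_left]
    by_cases hv : v = 0
    · rw [hv, Matrix.mulVec_zero, sympForm_zero_right]
    have hua : (fun i => σ (σ.symm (u i))) = u := by ext i; simp
    have hvb : (fun i => σ (σ.symm (v i))) = v := by ext i; simp
    have ha : (fun i => σ.symm (u i)) ≠ 0 := by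
      intro h0
      apply hu
      rw [← hua]
      ext i
      have := congrFun h0 i
      simp only [Pi.zero_apply] at this ⊢
      rw [this, map_zero]
    have hb : (fun i => σ.symm (v i)) ≠ 0 := by
      intro h0
      apply hv
      rw [← hvb]
      ext i
      have := congrFun h0 i
      simp only [Pi.zero_apply] at this ⊢
      rw [this, map_zero]
    have hab : Cfsg.sympForm (k + 2) F (fun i => σ.symm (u i)) (fun i => σ.symm (v i)) = 0 := by
      have := sympForm_map σ (fun i => σ.symm (u i)) (fun i => σ.symm (v i))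
      rw [hua, hvb, huv] at this
      exact (map_eq_zero_iff σ σ.injective).mp this.symm
    obtain ⟨c1, hc1, e1⟩ := hgσ _ ha
    obtain ⟨c2, hc2, e2⟩ := hgσ _ hb
    have h5 := (hperp _ _ ha hb).mpr hab
    rw [e1, e2, hua, hvb, sympForm_smul_left, sympForm_smul_right] at h5
    exact (mul_eq_zero.mp ((mul_eq_zero.mp h5).resolve_left hc1)).resolve_left hc2
  obtain ⟨c, hc⟩ := conformal_of_perp g.1 hperp2
  have hgg : ∀ x : Fin (k + 2) ⊕ Fin (k + 2) → F,
      g.1 *ᵥ ((g⁻¹ : GL (Fin (k + 2) ⊕ Fin (k + 2)) F).1 *ᵥ x) = x := by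
    intro x
    rw [Matrix.mulVec_mulVec, ← Units.val_mul, mul_inv_cancel, Units.val_one, Matrix.one_mulVec]
  have hc0 : c ≠ 0 := by
    rintro rfl
    obtain ⟨w, hw⟩ := exists_sympForm_ne_zero (k + 2) (e0_ne_zero (F := F) k)
    apply hw
    have := hc ((g⁻¹ : GL (Fin (k + 2) ⊕ Fin (k + 2)) F).1 *ᵥ e0 k F)
      ((g⁻¹ : GL (Fin (k + 2) ⊕ Fin (k + 2)) F).1 *ᵥ w)
    rw [zero_mul, hgg, hgg] at this
    exact this
  have hg : g ∈ Cfsg.GSp (k + 2) F := mem_GSp_iff.mpr ⟨Units.mk0 c hc0, hc⟩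
  refine ⟨g, hg, σ, ?_⟩
  have hfix : ∀ v : Fin (k + 2) ⊕ Fin (k + 2) → F, v ≠ 0 →
      (XP v).map ((semiAut g hg σ)⁻¹ * α).toMonoidHom = XP v := by
    intro v hv
    have h1 : (XP v).map α.toMonoidHom = (XP v).map (semiAut g hg σ).toMonoidHom := by
      rw [(hφ v hv).2, semiAut_XP]
      obtain ⟨c1, hc1, e1⟩ := hgσ v hv
      rw [e1, XP_smul c1 hc1]
    calc (XP v).map ((semiAut g hg σ)⁻¹ * α).toMonoidHom
        = ((XP v).map α.toMonoidHom).map ((semiAut g hg σ)⁻¹).toMonoidHom := by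
          rw [Subgroup.map_map]; rfl
      _ = ((XP v).map (semiAut g hg σ).toMonoidHom).map ((semiAut g hg σ)⁻¹).toMonoidHom := by
          rw [h1]
      _ = XP v := by
          rw [Subgroup.map_map]
          have : ((semiAut g hg σ)⁻¹).toMonoidHom.comp (semiAut g hg σ).toMonoidHom =
              MonoidHom.id _ := by
            ext x
            show (semiAut g hg σ)⁻¹ (semiAut g hg σ x) = x
            simp
          rw [this, Subgroup.map_id]
  have := eq_one_of_fix_XP hm _ hfix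
  exact (inv_mul_eq_one.mp this).symm

end Cfsg.Agent.Lib.Helper44_PSpAut
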