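import Mathlib
import Cfsg.Agent.Lib.Helper44_PSpAut
import Cfsg.Agent.Lib.Helper44_H90i

/-!
# The group of semilinear-induced automorphisms of `PSp_{2m}(F)`: algebra (helper44)

`cAut : GSp →* Aut(PSp)`, `fAut : Aut(F) →* Aut(PSp)`, multiplier, kernels, and the identification
of `inndiagPSp` with the range of `cAut`.
-/

set_option autoImplicit false
set_option linter.unusedSectionVars false
set_option linter.unusedVariables false
set_option linter.unusedSimpArgs false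

namespace Cfsg.Agent.Lib.Helper44_PSpAlg

open Matrix Cfsg.Agent.Lib.Helper13_Symp Cfsg.Agent.Lib.Helper13_SympTrans
  Cfsg.Agent.Lib.Helper5_PSpSimple Cfsg.Agent.Lib.Helper44_PSpTv Cfsg.Agent.Lib.Helper44_PSpGeom
  Cfsg.Agent.Lib.Helper44_PSpSemi Cfsg.Agent.Lib.Helper44_PSpAut Cfsg.Agent.Lib.Helper44_H90
  Cfsg.Agent.Lib.Helper44_H90i

variable {F : Type*} [Field F] {m : ℕ}

/-! ### matrix form of `GSp` -/

theorem sympForm_mulVec_eq (g : Matrix (Fin m ⊕ Fin m) (Fin m ⊕ Fin m) F)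
    (u v : Fin m ⊕ Fin m → F) :
    Cfsg.sympForm m F (g *ᵥ u) (g *ᵥ v) = u ⬝ᵥ ((gᵀ * J (Fin m) F * g) *ᵥ v) := by
  unfold Cfsg.sympForm
  rw [← Matrix.vecMul_transpose, ← Matrix.dotProduct_mulVec, Matrix.mulVec_mulVec,
    Matrix.mulVec_mulVec, Matrix.mul_assoc]

theorem matrix_eq_of_form {M N : Matrix (Fin m ⊕ Fin m) (Fin m ⊕ Fin m) F}
    (h : ∀ u v : Fin m ⊕ Fin m → F, u ⬝ᵥ (M *ᵥ v) = u ⬝ᵥ (N *ᵥ v)) : M = N := by
  ext i j
  have := h (Pi.single i 1) (Pi.single j 1)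
  simpa using this

theorem mem_GSp_iff_matrix {g : GL (Fin m ⊕ Fin m) F} :
    g ∈ Cfsg.GSp m F ↔ ∃ c : Fˣ, g.1ᵀ * J (Fin m) F * g.1 = (c : F) • J (Fin m) F := by
  rw [mem_GSp_iff]
  constructor
  · rintro ⟨c, hc⟩
    refine ⟨c, matrix_eq_of_form ?_⟩
    intro u v
    rw [← sympForm_mulVec_eq, hc, Matrix.smul_mulVec, dotProduct_smul, smul_eq_mul]
    rfl
  · rintro ⟨c, hc⟩
    refine ⟨c, ?_⟩
    intro u v
    rw [sympForm_mulVec_eq, hc, Matrix.smul_mulVec, dotProduct_smul, smul_eq_mul]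
    rfl

/-! ### the multiplier -/

/-- the multiplier of a conformal symplectic matrix -/
noncomputable def mult (g : ↥(Cfsg.GSp m F)) : Fˣ := Classical.choose (mem_GSp_iff.mp g.2)

theorem mult_spec (g : ↥(Cfsg.GSp m F)) (u v : Fin m ⊕ Fin m → F) :
    Cfsg.sympForm m F (g.1.1 *ᵥ u) (g.1.1 *ᵥ v) = (mult g : F) * Cfsg.sympForm m F u v :=
  Classical.choose_spec (mem_GSp_iff.mp g.2) u v

theorem mult_unique (hm : 1 ≤ m) (g : ↥(Cfsg.GSp m F)) (c : Fˣ)
    (hc : ∀ u v : Fin m ⊕ Fin m → F,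
      Cfsg.sympForm m F (g.1.1 *ᵥ u) (g.1.1 *ᵥ v) = (c : F) * Cfsg.sympForm m F u v) :
    mult g = c := by
  have he : (Pi.single (Sum.inl ⟨0, hm⟩) 1 : Fin m ⊕ Fin m → F) ≠ 0 := by
    intro h
    have := congrFun h (Sum.inl ⟨0, hm⟩)
    simp at this
  obtain ⟨w, hw⟩ := exists_sympForm_ne_zero m he
  have h1 := mult_spec g (Pi.single (Sum.inl ⟨0, hm⟩) 1) w
  rw [hc] at h1
  exact Units.ext (mul_right_cancel₀ hw h1).symm

theorem mult_matrix (g : ↥(Cfsg.GSp m F)) :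
    g.1.1ᵀ * J (Fin m) F * g.1.1 = (mult g : F) • J (Fin m) F := by
  apply matrix_eq_of_form
  intro u v
  rw [← sympForm_mulVec_eq, mult_spec, Matrix.smul_mulVec, dotProduct_smul, smul_eq_mul]
  rfl

/-- the multiplier as a homomorphism -/
noncomputable def multHom (hm : 1 ≤ m) : ↥(Cfsg.GSp m F) →* Fˣ where
  toFun := mult
  map_one' := by
    apply mult_unique hm
    intro u v
    show Cfsg.sympForm m F ((1 : GL (Fin m ⊕ Fin m) F).1 *ᵥ u)
      ((1 : GL (Fin m ⊕ Fin m) F).1 *ᵥ v) = _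
    rw [Units.val_one, Matrix.one_mulVec, Matrix.one_mulVec, Units.val_one, one_mul]
  map_mul' a b := by
    apply mult_unique hm
    intro u v
    show Cfsg.sympForm m F ((a.1 * b.1).1 *ᵥ u) ((a.1 * b.1).1 *ᵥ v) = _
    rw [Units.val_mul, ← Matrix.mulVec_mulVec, ← Matrix.mulVec_mulVec, mult_spec, mult_spec,
      Units.val_mul, mul_assoc]

theorem multHom_apply (hm : 1 ≤ m) (g : ↥(Cfsg.GSp m F)) : multHom hm g = mult g := rfl


/-! ### the homomorphisms `cAut` and `fAut` -/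

theorem descend_trans (e e' : symplecticGroup (Fin m) F ≃* symplecticGroup (Fin m) F) :
    descend (e.trans e') = descend e' * descend e := by
  ext s
  obtain ⟨s, rfl⟩ := pr_surjective s
  rfl

theorem descend_refl :
    descend (MulEquiv.refl (symplecticGroup (Fin m) F)) = 1 := by
  ext s
  obtain ⟨s, rfl⟩ := pr_surjective s
  rfl

theorem conjSp_mul (g g' : GL (Fin m ⊕ Fin m) F) (hg : g ∈ Cfsg.GSp m F)
    (hg' : g' ∈ Cfsg.GSp m F) :
    conjSp (g * g') ((Cfsg.GSp m F).mul_mem hg hg') = (conjSp g' hg').trans (conjSp g hg) := by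
  refine MulEquiv.ext fun s => ?_
  apply Subtype.ext
  show (g * g').1 * s.1 * ((g * g')⁻¹ : GL (Fin m ⊕ Fin m) F).1 =
    g.1 * (g'.1 * s.1 * (g'⁻¹ : GL (Fin m ⊕ Fin m) F).1) * (g⁻¹ : GL (Fin m ⊕ Fin m) F).1
  rw [_root_.mul_inv_rev, Units.val_mul, Units.val_mul]
  simp only [Matrix.mul_assoc]

theorem conjSp_one :
    conjSp (1 : GL (Fin m ⊕ Fin m) F) ((Cfsg.GSp m F).one_mem) = MulEquiv.refl _ := by
  refine MulEquiv.ext fun s => ?_
  apply Subtype.ext
  show (1 : GL (Fin m ⊕ Fin m) F).1 * s.1 * ((1 : GL (Fin m ⊕ Fin m) F)⁻¹).1 = s.1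
  rw [inv_one, Units.val_one, Matrix.one_mul, Matrix.mul_one]

/-- conjugation by conformal symplectic matrices -/
def cAut : ↥(Cfsg.GSp m F) →* MulAut (Cfsg.PSp m F) where
  toFun g := descend (conjSp g.1 g.2)
  map_one' := by
    show descend (conjSp (1 : GL (Fin m ⊕ Fin m) F) _) = 1
    rw [conjSp_one, descend_refl]
  map_mul' a b := by
    show descend (conjSp (a.1 * b.1) _) = _
    rw [conjSp_mul a.1 b.1 a.2 b.2, descend_trans]

theorem cAut_pr (g : ↥(Cfsg.GSp m F)) (s : symplecticGroup (Fin m) F) :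
    cAut g (pr s) = pr (conjSp g.1 g.2 s) := rfl

theorem fieldSp_mul (σ τ : F ≃+* F) :
    fieldSp (m := m) (σ * τ) = (fieldSp τ).trans (fieldSp σ) := by
  refine MulEquiv.ext fun s => ?_
  apply Subtype.ext
  ext i j
  rfl

theorem fieldSp_one : fieldSp (m := m) (1 : F ≃+* F) = MulEquiv.refl _ := by
  refine MulEquiv.ext fun s => ?_
  apply Subtype.ext
  ext i j
  rfl

/-- standard field automorphisms -/
def fAut : (F ≃+* F) →* MulAut (Cfsg.PSp m F) where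
  toFun σ := descend (fieldSp σ)
  map_one' := by rw [fieldSp_one, descend_refl]
  map_mul' σ τ := by rw [fieldSp_mul, descend_trans]

theorem fAut_pr (σ : F ≃+* F) (s : symplecticGroup (Fin m) F) :
    fAut σ (pr s) = pr (fieldSp σ s) := rfl

theorem semiAut_eq (g : GL (Fin m ⊕ Fin m) F) (hg : g ∈ Cfsg.GSp m F) (σ : F ≃+* F) :
    semiAut g hg σ = cAut ⟨g, hg⟩ * fAut σ := descend_trans _ _

theorem mapGLi_mem (σ : F ≃+* F) {g : GL (Fin m ⊕ Fin m) F} (hg : g ∈ Cfsg.GSp m F) :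
    mapGLi σ g ∈ Cfsg.GSp m F := by
  rw [mem_GSp_iff_matrix] at hg ⊢
  obtain ⟨c, hc⟩ := hg
  refine ⟨sigU σ c, ?_⟩
  rw [mapGLi_coe]
  have h1 := congrArg (fun M : Matrix (Fin m ⊕ Fin m) (Fin m ⊕ Fin m) F => M.map σ) hc
  simp only [Matrix.map_mul, Matrix.transpose_map, Matrix.map_J] at h1
  rw [h1]
  ext i j
  simp [Matrix.map_apply, Matrix.smul_apply]
  have := congrFun (congrFun (Matrix.map_J (Fin m) (R := F) (S := F) σ) i) j
  simpa using this

/-- the field automorphism on `GSp` -/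
def sigG (σ : F ≃+* F) : ↥(Cfsg.GSp m F) →* ↥(Cfsg.GSp m F) :=
  ((mapGLi σ).comp (Cfsg.GSp m F).subtype).codRestrict (Cfsg.GSp m F)
    (fun g => mapGLi_mem σ g.2)

theorem sigG_coe (σ : F ≃+* F) (g : ↥(Cfsg.GSp m F)) : (sigG σ g).1 = mapGLi σ g.1 := rfl

theorem fAut_mul_cAut (σ : F ≃+* F) (g : ↥(Cfsg.GSp m F)) :
    fAut σ * cAut g = cAut (sigG σ g) * fAut σ := by
  ext s
  obtain ⟨s, rfl⟩ := pr_surjective s
  show pr (fieldSp σ (conjSp g.1 g.2 s)) = pr (conjSp (sigG σ g).1 (sigG σ g).2 (fieldSp σ s))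
  congr 1
  apply Subtype.ext
  show (g.1.1 * s.1 * (g.1⁻¹ : GL (Fin m ⊕ Fin m) F).1).map σ =
    (mapGLi σ g.1).1 * s.1.map σ * ((mapGLi σ g.1)⁻¹ : GL (Fin m ⊕ Fin m) F).1
  rw [← map_inv, mapGLi_coe, mapGLi_coe, Matrix.map_mul, Matrix.map_mul]


/-! ### kernels -/

/-- a matrix fixing every projective point is scalar -/
theorem scalar_of_sim (M : Matrix (Fin m ⊕ Fin m) (Fin m ⊕ Fin m) F)
    (hM : ∀ v : Fin m ⊕ Fin m → F, v ≠ 0 → ∃ d : F, M *ᵥ v = d • v) :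
    ∃ a : F, M = a • (1 : Matrix (Fin m ⊕ Fin m) (Fin m ⊕ Fin m) F) := by
  set f : (Fin m ⊕ Fin m → F) →ₗ[F] (Fin m ⊕ Fin m → F) := Matrix.toLin' M with hf
  obtain ⟨a, ha⟩ := f.exists_eq_smul_id_of_forall_notLinearIndependent
    fun (v : Fin m ⊕ Fin m → F) ↦ by
      by_cases hv : v = 0
      · simp [hv, linearIndependent_fin2]
      · obtain ⟨c, hc⟩ := hM v hv
        rw [LinearIndependent.pair_iff' hv]
        push Not
        exact ⟨c, by rw [hf, Matrix.toLin'_apply]; exact hc.symm⟩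
  refine ⟨a, ?_⟩
  calc M = LinearMap.toMatrix' f := by rw [hf, LinearMap.toMatrix'_toLin']
    _ = (algebraMap F (Module.End F (Fin m ⊕ Fin m → F)) a).toMatrix' :=
      congrArg LinearMap.toMatrix' ha
    _ = Matrix.scalar (Fin m ⊕ Fin m) a := LinearMap.toMatrix'_algebraMap a
    _ = a • 1 := by rw [Matrix.scalar_apply, Matrix.smul_one_eq_diagonal]

theorem GL_mulVec_ne_zero (g : GL (Fin m ⊕ Fin m) F) {v : Fin m ⊕ Fin m → F} (hv : v ≠ 0) :
    g.1 *ᵥ v ≠ 0 := by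
  intro h
  apply hv
  have : (g⁻¹ : GL (Fin m ⊕ Fin m) F).1 *ᵥ (g.1 *ᵥ v) = 0 := by rw [h, Matrix.mulVec_zero]
  rwa [Matrix.mulVec_mulVec, ← Units.val_mul, inv_mul_cancel, Units.val_one,
    Matrix.one_mulVec] at this

theorem cAut_eq_one_iff (hm : 2 ≤ m) (g : ↥(Cfsg.GSp m F)) :
    cAut g = 1 ↔ g.1 ∈ Cfsg.Geo.scalars (Fin m ⊕ Fin m) F := by
  rw [Cfsg.Geo.mem_scalars_iff]
  constructor
  · intro h
    have h1 : semiAut g.1 g.2 1 = 1 := by
      rw [semiAut_eq, map_one, mul_one]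
      exact h
    have h2 : ∀ v : Fin m ⊕ Fin m → F, v ≠ 0 → ∃ d : F, g.1.1 *ᵥ v = d • v := by
      intro v hv
      have h3 := semiAut_XP g.1 g.2 1 v
      rw [h1] at h3
      have h4 : (XP v).map (1 : MulAut (Cfsg.PSp m F)).toMonoidHom = XP v := by
        ext x
        rw [Subgroup.mem_map]
        constructor
        · rintro ⟨y, hy, rfl⟩
          exact hy
        · intro hx
          exact ⟨x, hx, rfl⟩
      rw [h4] at h3
      have h5 : (fun i => (1 : F ≃+* F) (v i)) = v := rfl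
      rw [h5] at h3
      obtain ⟨d, hd, hdv⟩ := (XP_eq_iff hm hv (GL_mulVec_ne_zero g.1 hv)).mp h3
      refine ⟨d⁻¹, ?_⟩
      nth_rewrite 2 [hdv]
      rw [smul_smul, inv_mul_cancel₀ hd, one_smul]
    obtain ⟨a, ha⟩ := scalar_of_sim g.1.1 h2
    have ha0 : a ≠ 0 := by
      intro h0
      rw [h0, zero_smul] at ha
      have he : (Pi.single (Sum.inl ⟨0, by omega⟩) 1 : Fin m ⊕ Fin m → F) ≠ 0 := by
        intro h
        have := congrFun h (Sum.inl ⟨0, by omega⟩)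
        simp at this
      apply GL_mulVec_ne_zero g.1 he
      rw [ha, Matrix.zero_mulVec]
    exact ⟨Units.mk0 a ha0, ha⟩
  · rintro ⟨c, hc⟩
    ext s
    obtain ⟨s, rfl⟩ := pr_surjective s
    show pr (conjSp g.1 g.2 s) = pr s
    congr 1
    apply Subtype.ext
    show g.1.1 * s.1 * (g.1⁻¹ : GL (Fin m ⊕ Fin m) F).1 = s.1
    have h1 : g.1.1 * s.1 = s.1 * g.1.1 := by
      rw [hc, Matrix.smul_mul, Matrix.mul_smul, Matrix.one_mul, Matrix.mul_one]
    rw [h1, Matrix.mul_assoc, ← Units.val_mul, mul_inv_cancel, Units.val_one, Matrix.mul_one]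

theorem fAut_injective (hm : 2 ≤ m) : Function.Injective (fAut (F := F) (m := m)) := by
  obtain ⟨k, rfl⟩ : ∃ k, m = k + 2 := ⟨m - 2, by omega⟩
  rw [injective_iff_map_eq_one]
  intro σ h
  ext a
  show σ a = a
  have h1 : fAut σ (pr (transv (k + 2) (e0 k F) a)) = pr (transv (k + 2) (e0 k F) a) := by
    rw [h]; rfl
  rw [fAut_pr, fieldSp_transv] at h1
  have he : (fun i => σ (e0 k F i)) = e0 k F := by
    ext i
    by_cases hi : i = Sum.inl 0
    · subst hi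
      simp [e0]
    · simp [e0, Pi.single_apply, hi]
  rw [he] at h1
  have h2 := pr_injOn_USp (by omega) (transv_e0_mem k (σ a)) (transv_e0_mem k a) h1
  have h3 := congrArg (fun s : symplecticGroup (Fin (k + 2)) F =>
    (s.1 *ᵥ (Pi.single (Sum.inr 0) 1 : Fin (k + 2) ⊕ Fin (k + 2) → F)) (Sum.inl 0)) h2
  simp only [transv_mulVec] at h3
  have h4 : Cfsg.sympForm (k + 2) F (Pi.single (Sum.inr 0) 1) (e0 k F) = 1 := by
    unfold Cfsg.sympForm e0
    rw [Matrix.mulVec_single_one, single_dotProduct, one_mul]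
    simp [Matrix.J, Matrix.fromBlocks_apply₂₁]
  rw [h4] at h3
  simpa [e0] using h3

/-! ### the inner-diagonal group and standard field automorphisms -/

theorem isInduced_iff (g : GL (Fin m ⊕ Fin m) F) (hg : g ∈ Cfsg.GSp m F) (σ : F ≃+* F)
    (β : MulAut (Cfsg.PSp m F)) :
    Cfsg.IsInducedBySemilinearPSp g σ β ↔ β = semiAut g hg σ := by
  constructor
  · intro h
    ext s
    obtain ⟨s, rfl⟩ := pr_surjective s
    obtain ⟨s', hs', heq⟩ := semiAut_pr_coe g hg σ s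
    rw [heq]
    exact h s s' hs'
  · rintro rfl
    exact isInduced_semiAut g hg σ

theorem isInnerDiagonal_iff (β : MulAut (Cfsg.PSp m F)) :
    Cfsg.IsInnerDiagonalAutPSp β ↔ ∃ g : ↥(Cfsg.GSp m F), β = cAut g := by
  constructor
  · rintro ⟨g, hg, h⟩
    refine ⟨⟨g, hg⟩, ?_⟩
    rw [(isInduced_iff g hg _ β).mp h, semiAut_eq]
    show cAut ⟨g, hg⟩ * fAut (1 : F ≃+* F) = _
    rw [map_one, mul_one]
  · rintro ⟨g, rfl⟩
    refine ⟨g.1, g.2, ?_⟩
    rw [isInduced_iff g.1 g.2, semiAut_eq]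
    show _ = cAut ⟨g.1, g.2⟩ * fAut (1 : F ≃+* F)
    rw [map_one, mul_one]

theorem inndiagPSp_eq : Cfsg.inndiagPSp m F = (cAut (F := F) (m := m)).range := by
  unfold Cfsg.inndiagPSp Cfsg.autSubgroupOf
  have : {β : MulAut (Cfsg.PSp m F) | Cfsg.IsInnerDiagonalAutPSp β} =
      ((cAut (F := F) (m := m)).range : Set (MulAut (Cfsg.PSp m F))) := by
    ext β
    rw [Set.mem_ofPred_eq, isInnerDiagonal_iff]
    constructor
    · rintro ⟨g, rfl⟩
      exact ⟨g, rfl⟩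
    · rintro ⟨g, rfl⟩
      exact ⟨g, rfl⟩
  rw [this, Subgroup.closure_eq]

theorem isStdFieldAut_iff (σ : F ≃+* F) (β : MulAut (Cfsg.PSp m F)) :
    Cfsg.IsStdFieldAutPSp σ β ↔ β = fAut σ := by
  constructor
  · intro h
    ext s
    obtain ⟨s, rfl⟩ := pr_surjective s
    rw [fAut_pr]
    exact h s (fieldSp σ s) rfl
  · rintro rfl s s' hs'
    show pr (fieldSp σ s) = pr s'
    congr 1
    exact Subtype.ext hs'.symm


/-! ### `Sp` inside `GSp`, inner automorphisms -/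

/-- the inclusion `Sp → GSp` -/
noncomputable def spToGSp : symplecticGroup (Fin m) F →* ↥(Cfsg.GSp m F) where
  toFun s := ⟨(toSpGL m s).1, mem_GSp_iff.mpr ⟨1, fun u v => by
    rw [Units.val_one, one_mul]
    exact (toSpGL m s).2 u v⟩⟩
  map_one' := by
    apply Subtype.ext
    show (toSpGL m (1 : symplecticGroup (Fin m) F)).1 = 1
    rw [map_one]; rfl
  map_mul' a b := by
    apply Subtype.ext
    show (toSpGL m (a * b)).1 = (toSpGL m a).1 * (toSpGL m b).1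
    rw [map_mul]; rfl

theorem spToGSp_coe (s : symplecticGroup (Fin m) F) : (spToGSp s).1.1 = s.1 := rfl

theorem mult_spToGSp (hm : 1 ≤ m) (s : symplecticGroup (Fin m) F) : mult (spToGSp s) = 1 := by
  apply mult_unique hm
  intro u v
  rw [Units.val_one, one_mul]
  exact (toSpGL m s).2 u v

theorem cAut_spToGSp (s : symplecticGroup (Fin m) F) :
    cAut (spToGSp s) = MulAut.conj (pr s) := by
  ext t
  obtain ⟨t, rfl⟩ := pr_surjective t
  rw [MulAut.conj_apply, ← map_inv, ← map_mul, ← map_mul, cAut_pr]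
  congr 1
  apply Subtype.ext
  show (spToGSp s).1.1 * t.1 * ((spToGSp s).1⁻¹ : GL (Fin m ⊕ Fin m) F).1 = (s * t * s⁻¹).1
  have h1 : ((spToGSp s).1⁻¹ : GL (Fin m ⊕ Fin m) F) = (spToGSp s⁻¹).1 := by
    rw [map_inv]; rfl
  rw [h1, spToGSp_coe, spToGSp_coe]
  rfl

/-- scalar matrices in `GSp` -/
def scalarGSp (a : Fˣ) : ↥(Cfsg.GSp m F) :=
  ⟨Matrix.GeneralLinearGroup.scalar (Fin m ⊕ Fin m) a, mem_GSp_iff.mpr ⟨a * a, fun u v => by
    rw [Matrix.GeneralLinearGroup.coe_scalar, Matrix.scalar_apply, ← Matrix.smul_one_eq_diagonal,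
      Matrix.smul_mulVec, Matrix.smul_mulVec, Matrix.one_mulVec, Matrix.one_mulVec,
      sympForm_smul_left, sympForm_smul_right, Units.val_mul, mul_assoc]⟩⟩

theorem scalarGSp_coe (a : Fˣ) :
    (scalarGSp (m := m) a).1.1 = (a : F) • (1 : Matrix (Fin m ⊕ Fin m) (Fin m ⊕ Fin m) F) := by
  show (Matrix.GeneralLinearGroup.scalar (Fin m ⊕ Fin m) a).1 = _
  rw [Matrix.GeneralLinearGroup.coe_scalar, Matrix.scalar_apply, ← Matrix.smul_one_eq_diagonal]

theorem mult_scalarGSp (hm : 1 ≤ m) (a : Fˣ) : mult (scalarGSp (m := m) a) = a * a := by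
  apply mult_unique hm
  intro u v
  rw [scalarGSp_coe, Matrix.smul_mulVec, Matrix.smul_mulVec, Matrix.one_mulVec, Matrix.one_mulVec,
    sympForm_smul_left, sympForm_smul_right, Units.val_mul, mul_assoc]

theorem cAut_scalarGSp (hm : 2 ≤ m) (a : Fˣ) : cAut (scalarGSp (m := m) a) = 1 := by
  rw [cAut_eq_one_iff hm, Cfsg.Geo.mem_scalars_iff]
  exact ⟨a, scalarGSp_coe a⟩

/-- an element of `GSp` with multiplier `1` is symplectic -/
theorem exists_sp_of_mult_eq_one (g : ↥(Cfsg.GSp m F)) (h : mult g = 1) :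
    ∃ s : symplecticGroup (Fin m) F, spToGSp s = g := by
  refine ⟨⟨g.1.1, mem_symplecticGroup_of_preserves m (fun u v => by
    rw [mult_spec, h, Units.val_one, one_mul])⟩, ?_⟩
  apply Subtype.ext
  apply Units.ext
  rfl

theorem inn_le_range : Cfsg.Inn (Cfsg.PSp m F) ≤ (cAut (F := F) (m := m)).range := by
  rintro _ ⟨t, rfl⟩
  obtain ⟨s, rfl⟩ := pr_surjective t
  exact ⟨spToGSp s, cAut_spToGSp s⟩

/-- `cAut g` is inner iff the multiplier is a square (one direction) -/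
theorem cAut_mem_inn_of_sq (hm : 2 ≤ m) (g : ↥(Cfsg.GSp m F)) (d : Fˣ) (hd : mult g = d * d) :
    cAut g ∈ Cfsg.Inn (Cfsg.PSp m F) := by
  have hm1 : 1 ≤ m := by omega
  set g' : ↥(Cfsg.GSp m F) := scalarGSp d⁻¹ * g with hg'
  have h1 : mult g' = 1 := by
    have := map_mul (multHom hm1) (scalarGSp d⁻¹) g
    rw [multHom_apply, multHom_apply, multHom_apply, mult_scalarGSp hm1, hd] at this
    rw [this]
    group
  obtain ⟨s, hs⟩ := exists_sp_of_mult_eq_one g' h1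
  have h2 : cAut g = cAut g' := by
    rw [hg', map_mul, cAut_scalarGSp hm, one_mul]
  rw [h2, ← hs, cAut_spToGSp]
  exact ⟨pr s, rfl⟩

theorem range_eq_inn_of_sq (hm : 2 ≤ m) (hsq : ∀ c : Fˣ, ∃ d : Fˣ, c = d * d) :
    (cAut (F := F) (m := m)).range = Cfsg.Inn (Cfsg.PSp m F) := by
  apply le_antisymm
  · rintro _ ⟨g, rfl⟩
    obtain ⟨d, hd⟩ := hsq (mult g)
    exact cAut_mem_inn_of_sq hm g d hd
  · exact inn_le_range

theorem inn_normal {G : Type*} [Group G] : (Cfsg.Inn G).Normal := by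
  constructor
  rintro _ ⟨t, rfl⟩ α
  refine ⟨α t, ?_⟩
  ext x
  simp [MulAut.conj_apply]

theorem range_normal_of_all
    (h : ∀ α : MulAut (Cfsg.PSp m F), ∃ (g : ↥(Cfsg.GSp m F)) (σ : F ≃+* F),
      α = cAut g * fAut σ) : (cAut (F := F) (m := m)).range.Normal := by
  constructor
  rintro _ ⟨k, rfl⟩ α
  obtain ⟨g, σ, rfl⟩ := h α
  refine ⟨g * sigG σ k * g⁻¹, ?_⟩
  rw [map_mul, map_mul, map_inv]
  have h1 := fAut_mul_cAut σ k
  calc cAut g * cAut (sigG σ k) * (cAut g)⁻¹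
      = cAut g * (cAut (sigG σ k) * fAut σ) * (fAut σ)⁻¹ * (cAut g)⁻¹ := by group
    _ = cAut g * (fAut σ * cAut k) * (fAut σ)⁻¹ * (cAut g)⁻¹ := by rw [h1]
    _ = cAut g * fAut σ * cAut k * (cAut g * fAut σ)⁻¹ := by group

/-- `Inndiag(PSp_{2m}(F))` is normal in the automorphism group -/
theorem inndiag_normal [Fintype F] {p f : ℕ} [hp : Fact p.Prime] [CharP F p]
    (hF : Fintype.card F = p ^ f) (hm : 2 ≤ m) : (Cfsg.inndiagPSp m F).Normal := by
  rw [inndiagPSp_eq]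
  by_cases hp2 : p = 2
  · have hsq : ∀ c : Fˣ, ∃ d : Fˣ, c = d * d := by
      intro c
      have hchar : ringChar F = 2 := by
        rw [← hp2]
        exact ringChar.eq F p
      obtain ⟨d, hd⟩ := FiniteField.isSquare_of_char_two hchar (c : F)
      have hd0 : d ≠ 0 := by
        rintro rfl
        rw [mul_zero] at hd
        exact c.ne_zero hd
      exact ⟨Units.mk0 d hd0, Units.ext hd⟩
    rw [range_eq_inn_of_sq hm hsq]
    exact inn_normal
  · apply range_normal_of_all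
    intro α
    obtain ⟨k, rfl⟩ : ∃ k, m = k + 2 := ⟨m - 2, by omega⟩
    obtain ⟨g, hg, σ, rfl⟩ := exists_semiAut hF (fun h => absurd h hp2) α
    exact ⟨⟨g, hg⟩, σ, semiAut_eq g hg σ⟩

end Cfsg.Agent.Lib.Helper44_PSpAlg
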