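import Mathlib
import Cfsg.Agent.Lib.Helper44_PSpAlg
import Cfsg.Agent.Lib.Helper44_FixField
import Cfsg.Agent.Lib.Helper99_SpBridge

/-!
# Lang's theorem for `GSp_{2m}` and cyclic groups of field automorphisms (helper44)
-/

set_option autoImplicit false
set_option linter.unusedSectionVars false
set_option linter.unusedVariables false
set_option linter.unusedSimpArgs false

namespace Cfsg.Agent.Lib.Helper44_PSpLang

open Matrix Cfsg.Agent.Lib.Helper13_Symp Cfsg.Agent.Lib.Helper13_SympTrans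
  Cfsg.Agent.Lib.Helper5_PSpSimple Cfsg.Agent.Lib.Helper44_PSpTv Cfsg.Agent.Lib.Helper44_PSpGeom
  Cfsg.Agent.Lib.Helper44_PSpSemi Cfsg.Agent.Lib.Helper44_PSpAut Cfsg.Agent.Lib.Helper44_H90
  Cfsg.Agent.Lib.Helper44_H90i Cfsg.Agent.Lib.Helper44_PSpAlg

variable {F : Type*} [Field F] {m : ℕ}

/-- uniqueness of nondegenerate alternating forms, matrix version -/
theorem exists_congr_J (K : Matrix (Fin m ⊕ Fin m) (Fin m ⊕ Fin m) F)
    (halt : ∀ x : Fin m ⊕ Fin m → F, x ⬝ᵥ K *ᵥ x = 0) (hdet : K.det ≠ 0) :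
    ∃ P Q : Matrix (Fin m ⊕ Fin m) (Fin m ⊕ Fin m) F, P * Q = 1 ∧ Pᵀ * J (Fin m) F * P = K := by
  set B : LinearMap.BilinForm F (Fin m ⊕ Fin m → F) := Matrix.toBilin' K with hB
  have hA : B.IsAlt := by
    intro x
    rw [hB, Matrix.toBilin'_apply']
    exact halt x
  have hN : B.Nondegenerate := LinearMap.BilinForm.nondegenerate_toBilin'_of_det_ne_zero' K hdet
  have hdim : Module.finrank F (Fin m ⊕ Fin m → F) = 2 * m := by
    rw [Module.finrank_fintype_fun_eq_card, Fintype.card_sum, Fintype.card_fin]; ring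
  obtain ⟨e, he⟩ := Cfsg.Agent.Lib.Helper99_SpBridge.exists_isometry_standard B hA hN m hdim
  refine ⟨LinearMap.toMatrix' (e : (Fin m ⊕ Fin m → F) →ₗ[F] (Fin m ⊕ Fin m → F)),
    LinearMap.toMatrix' (e.symm : (Fin m ⊕ Fin m → F) →ₗ[F] (Fin m ⊕ Fin m → F)), ?_, ?_⟩
  · rw [← LinearMap.toMatrix'_comp]
    have : (e : (Fin m ⊕ Fin m → F) →ₗ[F] (Fin m ⊕ Fin m → F)).comp
        (e.symm : (Fin m ⊕ Fin m → F) →ₗ[F] (Fin m ⊕ Fin m → F)) = LinearMap.id := by
      ext x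
      simp
    rw [this, LinearMap.toMatrix'_id]
  · apply matrix_eq_of_form
    intro u v
    rw [← sympForm_mulVec_eq, LinearMap.toMatrix'_mulVec, LinearMap.toMatrix'_mulVec,
      ← Cfsg.Agent.Lib.Helper94_Bridge.Bsymp_apply]
    have := he u v
    rw [hB, Matrix.toBilin'_apply'] at this
    exact this

section embed

variable {F₀ : Type*} [Field F₀] (σ : F ≃+* F) (ι : F₀ →+* F)
  (hι : ∀ a : F, σ a = a ↔ a ∈ Set.range ι)

include hι in
theorem exists_map_of_fixedM {n : Type*} (M : Matrix n n F) (h : M.map σ = M) :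
    ∃ M₀ : Matrix n n F₀, M₀.map ι = M := by
  have h1 : ∀ i j, ∃ b : F₀, ι b = M i j := by
    intro i j
    have h2 : σ (M i j) = M i j := congrFun (congrFun h i) j
    exact (hι _).mp h2
  choose kM hkM using h1
  refine ⟨Matrix.of kM, ?_⟩
  ext i j
  exact hkM i j

include hι in
theorem map_map_fixed {n : Type*} (M₀ : Matrix n n F₀) : (M₀.map ι).map σ = M₀.map ι := by
  ext i j
  exact (hι _).mpr ⟨_, rfl⟩

end embed


/-- iterating `K = μ • σ(K)` -/
theorem iterate_smul_map {n : Type*} (σ : F ≃+* F) (K : Matrix n n F) (μ : Fˣ)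
    (hK : K = (μ : F) • K.map σ) (i : ℕ) :
    K = ((Nm σ i μ : Fˣ) : F) • K.map (σ ^ i : F ≃+* F) := by
  induction i with
  | zero =>
    rw [Nm_zero, Units.val_one, one_smul, pow_zero]
    ext a b
    rfl
  | succ i ih =>
    have h1 : K.map (σ ^ i : F ≃+* F) =
        ((sigU (σ ^ i) μ : Fˣ) : F) • K.map (σ ^ (i + 1) : F ≃+* F) := by
      conv_lhs => rw [hK]
      ext a b
      show (σ ^ i) ((μ : F) * σ (K a b)) = (σ ^ i) (μ : F) * (σ ^ (i + 1)) (K a b)
      rw [map_mul, pow_succ]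
      rfl
    rw [Nm_succ, Units.val_mul, mul_smul, ← h1]
    exact ih

section lang

variable {F₀ : Type*} [Field F₀] (σ : F ≃+* F) (ι : F₀ →+* F)
  (hι : ∀ a : F, σ a = a ↔ a ∈ Set.range ι)

include hι in
/-- **Lang's theorem for `GSp`** (cocycle form) -/
theorem lang_GSp (hm : 1 ≤ m) {r : ℕ} (hr : 0 < r) (hord : orderOf σ = r)
    (g : ↥(Cfsg.GSp m F)) (hg : PNi σ g.1 r = 1) :
    ∃ k : ↥(Cfsg.GSp m F), g * sigG σ k = k := by
  classical
  have hσ : σ ^ r = 1 := by rw [← hord]; exact pow_orderOf_eq_one σ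
  obtain ⟨h, hh⟩ := hilbert90_GLi σ hr hord g.1 hg
  have hh' : h.1 = g.1.1 * h.1.map σ := by
    have := congrArg Units.val hh
    rw [Units.val_mul, mapGLi_coe] at this
    exact this.symm
  set K : Matrix (Fin m ⊕ Fin m) (Fin m ⊕ Fin m) F := h.1ᵀ * J (Fin m) F * h.1 with hKdef
  have hμ := mult_matrix g
  have hJσ : (J (Fin m) F).map σ = J (Fin m) F := Matrix.map_J (Fin m) σ
  have hK : K = ((mult g : Fˣ) : F) • K.map σ := by
    have h1 : K.map σ = (h.1.map σ)ᵀ * J (Fin m) F * h.1.map σ := by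
      rw [hKdef, Matrix.map_mul, Matrix.map_mul, Matrix.transpose_map, hJσ]
    rw [h1]
    conv_lhs => rw [hKdef, hh']
    rw [Matrix.transpose_mul]
    calc (h.1.map σ)ᵀ * g.1.1ᵀ * J (Fin m) F * (g.1.1 * h.1.map σ)
        = (h.1.map σ)ᵀ * (g.1.1ᵀ * J (Fin m) F * g.1.1) * h.1.map σ := by
          simp only [Matrix.mul_assoc]
      _ = _ := by
          rw [hμ, Matrix.mul_smul, Matrix.smul_mul]
  -- `K` is invertible
  have hdetK : K.det ≠ 0 := by
    rw [hKdef, Matrix.det_mul, Matrix.det_mul, Matrix.det_transpose]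
    have hdJ : (J (Fin m) F).det ≠ 0 := by
      intro h0
      have := Matrix.J_det_mul_J_det (Fin m) F
      rw [h0, mul_zero] at this
      exact zero_ne_one this
    have hdh : h.1.det ≠ 0 := Matrix.GeneralLinearGroup.det_ne_zero h
    exact mul_ne_zero (mul_ne_zero hdh hdJ) hdh
  -- the norm of the multiplier is `1`
  have hN : Nm σ r (mult g) = 1 := by
    have h1 := iterate_smul_map σ K (mult g) hK r
    rw [hσ] at h1
    have h2 : K.map (1 : F ≃+* F) = K := by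
      ext a b; rfl
    rw [h2] at h1
    have hK0 : K ≠ 0 := by
      intro h0
      apply hdetK
      rw [h0]
      have : Nonempty (Fin m ⊕ Fin m) := ⟨Sum.inl ⟨0, hm⟩⟩
      exact Matrix.det_zero
    have : ∃ a b, K a b ≠ 0 := by
      by_contra hcon
      push Not at hcon
      apply hK0
      ext a b
      exact hcon a b
    obtain ⟨a, b, hab⟩ := this
    have h3 := congrFun (congrFun h1 a) b
    rw [Matrix.smul_apply, smul_eq_mul] at h3
    apply Units.ext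
    rw [Units.val_one]
    exact (mul_right_cancel₀ hab (by rw [one_mul]; exact h3)).symm
  obtain ⟨b, hb⟩ := hilbert90_units σ hr hord (mult g) hN
  -- the rescaled form is `σ`-fixed
  set K' : Matrix (Fin m ⊕ Fin m) (Fin m ⊕ Fin m) F := ((b⁻¹ : Fˣ) : F) • K with hK'def
  have hK'fix : K'.map σ = K' := by
    have h1 : K'.map σ = ((sigU σ b⁻¹ : Fˣ) : F) • K.map σ := by
      ext i j
      show σ (((b⁻¹ : Fˣ) : F) * K i j) = σ ((b⁻¹ : Fˣ) : F) * σ (K i j)
      rw [map_mul]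
    rw [h1, hK'def]
    conv_rhs => rw [hK]
    rw [smul_smul]
    congr 1
    have h2 : sigU σ b⁻¹ = b⁻¹ * mult g := by
      have h3 : sigU σ b = (mult g)⁻¹ * b := eq_inv_mul_of_mul_eq hb
      rw [map_inv, h3, _root_.mul_inv_rev, inv_inv]
    rw [h2, Units.val_mul]
  obtain ⟨K₀, hK₀⟩ := exists_map_of_fixedM σ ι hι K' hK'fix
  -- `K₀` is alternating and nondegenerate
  have halt : ∀ x : Fin m ⊕ Fin m → F₀, x ⬝ᵥ K₀ *ᵥ x = 0 := by
    intro x
    apply ι.injective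
    rw [map_zero, RingHom.map_dotProduct]
    have h1 : (ι ∘ (K₀ *ᵥ x)) = K' *ᵥ (ι ∘ x) := by
      funext i
      rw [← hK₀]
      exact RingHom.map_mulVec ι K₀ x i
    rw [h1, hK'def, Matrix.smul_mulVec, dotProduct_smul, hKdef, ← sympForm_mulVec_eq,
      sympForm_self, smul_zero]
  have hdet₀ : K₀.det ≠ 0 := by
    intro h0
    have h1 : ι K₀.det = K'.det := by
      rw [RingHom.map_det, RingHom.mapMatrix_apply, hK₀]
    rw [h0, map_zero, hK'def, Matrix.det_smul] at h1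
    have : ((b⁻¹ : Fˣ) : F) ^ Fintype.card (Fin m ⊕ Fin m) * K.det ≠ 0 :=
      mul_ne_zero (pow_ne_zero _ (Units.ne_zero _)) hdetK
    exact this h1.symm
  obtain ⟨P, Q, hPQ, hPK⟩ := exists_congr_J K₀ halt hdet₀
  -- transfer to `F`
  have hPQ' : P.map ι * Q.map ι = 1 := by
    rw [← Matrix.map_mul, hPQ]
    exact Matrix.map_one ι (map_zero ι) (map_one ι)
  have hQP' : Q.map ι * P.map ι = 1 := _root_.mul_eq_one_comm.mp hPQ'
  have hPK' : (P.map ι)ᵀ * J (Fin m) F * P.map ι = K' := by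
    rw [← hK₀, ← hPK, Matrix.map_mul, Matrix.map_mul, Matrix.transpose_map, Matrix.map_J]
  let a : GL (Fin m ⊕ Fin m) F := ⟨Q.map ι, P.map ι, hQP', hPQ'⟩
  have haσ : mapGLi σ a = a := by
    apply Units.ext
    rw [mapGLi_coe]
    exact map_map_fixed σ ι hι Q
  have hkmem : h * a ∈ Cfsg.GSp m F := by
    rw [mem_GSp_iff_matrix]
    refine ⟨b, ?_⟩
    show (h.1 * Q.map ι)ᵀ * J (Fin m) F * (h.1 * Q.map ι) = _
    have hKK' : K = (b : F) • K' := by
      rw [hK'def, smul_smul, ← Units.val_mul, mul_inv_cancel, Units.val_one, one_smul]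
    rw [Matrix.transpose_mul]
    calc (Q.map ι)ᵀ * h.1ᵀ * J (Fin m) F * (h.1 * Q.map ι)
        = (Q.map ι)ᵀ * K * Q.map ι := by
          rw [hKdef]; simp only [Matrix.mul_assoc]
      _ = (b : F) • ((Q.map ι)ᵀ * ((P.map ι)ᵀ * J (Fin m) F * P.map ι) * Q.map ι) := by
          rw [hPK', hKK', Matrix.mul_smul, Matrix.smul_mul]
      _ = (b : F) • ((P.map ι * Q.map ι)ᵀ * J (Fin m) F * (P.map ι * Q.map ι)) := by
          rw [Matrix.transpose_mul]; simp only [Matrix.mul_assoc]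
      _ = (b : F) • J (Fin m) F := by
          rw [hPQ', Matrix.transpose_one, Matrix.one_mul, Matrix.mul_one]
  refine ⟨⟨h * a, hkmem⟩, ?_⟩
  apply Subtype.ext
  show g.1 * mapGLi σ (h * a) = h * a
  rw [map_mul, haσ, ← mul_assoc, hh]

end lang


/-! ### cosets of field automorphisms -/

theorem PNi_mem (σ : F ≃+* F) (g : ↥(Cfsg.GSp m F)) (i : ℕ) : PNi σ g.1 i ∈ Cfsg.GSp m F := by
  induction i with
  | zero => rw [PNi_zero]; exact (Cfsg.GSp m F).one_mem
  | succ i ih =>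
    rw [PNi_succ]
    exact (Cfsg.GSp m F).mul_mem ih (mapGLi_mem (σ ^ i) g.2)

/-- partial norms in `GSp` -/
def PNG (σ : F ≃+* F) (g : ↥(Cfsg.GSp m F)) (i : ℕ) : ↥(Cfsg.GSp m F) :=
  ⟨PNi σ g.1 i, PNi_mem σ g i⟩

theorem PNG_coe (σ : F ≃+* F) (g : ↥(Cfsg.GSp m F)) (i : ℕ) : (PNG σ g i).1 = PNi σ g.1 i := rfl

theorem PNG_succ (σ : F ≃+* F) (g : ↥(Cfsg.GSp m F)) (i : ℕ) :
    PNG σ g (i + 1) = PNG σ g i * sigG (σ ^ i) g := by
  apply Subtype.ext
  exact PNi_succ σ g.1 i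

theorem pow_cAut_mul_fAut (σ : F ≃+* F) (g : ↥(Cfsg.GSp m F)) (i : ℕ) :
    (cAut g * fAut σ : MulAut (Cfsg.PSp m F)) ^ i = cAut (PNG σ g i) * fAut (σ ^ i) := by
  induction i with
  | zero =>
    have : PNG σ g 0 = 1 := by
      apply Subtype.ext
      exact PNi_zero σ g.1
    rw [pow_zero, pow_zero, this, map_one, map_one, one_mul]
  | succ i ih =>
    rw [pow_succ, ih, PNG_succ, map_mul, pow_succ, map_mul]
    calc cAut (PNG σ g i) * fAut (σ ^ i) * (cAut g * fAut σ)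
        = cAut (PNG σ g i) * (fAut (σ ^ i) * cAut g) * fAut σ := by
          simp only [mul_assoc]
      _ = cAut (PNG σ g i) * (cAut (sigG (σ ^ i) g) * fAut (σ ^ i)) * fAut σ := by
          rw [fAut_mul_cAut]
      _ = _ := by simp only [mul_assoc]

theorem PNi_scalar_mul (σ : F ≃+* F) (a : Fˣ) (g : GL (Fin m ⊕ Fin m) F) (i : ℕ) :
    PNi σ (Matrix.GeneralLinearGroup.scalar (Fin m ⊕ Fin m) a * g) i
      = Matrix.GeneralLinearGroup.scalar (Fin m ⊕ Fin m) (Nm σ i a) * PNi σ g i := by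
  induction i with
  | zero => rw [PNi_zero, PNi_zero, Nm_zero, map_one, one_mul]
  | succ i ih =>
    rw [PNi_succ, ih, PNi_succ, Nm_succ, map_mul, map_mul, Matrix.GeneralLinearGroup.map_scalar]
    have hc := Matrix.GeneralLinearGroup.scalar_commute (n := Fin m ⊕ Fin m)
      (sigU (σ ^ i) a) (PNi σ g i)
    calc Matrix.GeneralLinearGroup.scalar (Fin m ⊕ Fin m) (Nm σ i a) * PNi σ g i *
          (Matrix.GeneralLinearGroup.scalar (Fin m ⊕ Fin m) (sigU (σ ^ i) a) * mapGLi (σ ^ i) g)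
        = Matrix.GeneralLinearGroup.scalar (Fin m ⊕ Fin m) (Nm σ i a) *
          (PNi σ g i * Matrix.GeneralLinearGroup.scalar (Fin m ⊕ Fin m) (sigU (σ ^ i) a)) *
            mapGLi (σ ^ i) g := by simp only [mul_assoc]
      _ = _ := by
          rw [← hc]
          simp only [mul_assoc]

theorem scalarGSp_val (a : Fˣ) :
    (scalarGSp (F := F) (m := m) a).1 = Matrix.GeneralLinearGroup.scalar (Fin m ⊕ Fin m) a := rfl

theorem scalarGL_injective (hm : 1 ≤ m) {a b : Fˣ}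
    (h : Matrix.GeneralLinearGroup.scalar (Fin m ⊕ Fin m) a =
      Matrix.GeneralLinearGroup.scalar (Fin m ⊕ Fin m) b) : a = b := by
  apply Units.ext
  have h1 := congrArg (fun M : GL (Fin m ⊕ Fin m) F =>
    M.1 (Sum.inl ⟨0, hm⟩) (Sum.inl ⟨0, hm⟩)) h
  simpa [Matrix.GeneralLinearGroup.coe_scalar] using h1

theorem exists_scalar_of_mem_scalars {g : GL (Fin m ⊕ Fin m) F}
    (h : g ∈ Cfsg.Geo.scalars (Fin m ⊕ Fin m) F) :
    ∃ c : Fˣ, g = Matrix.GeneralLinearGroup.scalar (Fin m ⊕ Fin m) c := by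
  rw [Cfsg.Geo.mem_scalars_iff] at h
  obtain ⟨c, hc⟩ := h
  refine ⟨c, ?_⟩
  apply Units.ext
  rw [hc, Matrix.GeneralLinearGroup.coe_scalar, Matrix.scalar_apply,
    ← Matrix.smul_one_eq_diagonal]

/-- **Field automorphism cosets** for `PSp`: if `(cAut g * fAut σ) ^ r = 1` with `r = orderOf σ`
then `cAut g * fAut σ` is conjugate to `fAut σ` under some `cAut k`. -/
theorem field_coset_conj_sp [Finite F] (hm : 2 ≤ m) (σ : F ≃+* F) {r : ℕ} (hr : 0 < r)
    (hord : orderOf σ = r) (g : ↥(Cfsg.GSp m F))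
    (h : (cAut g * fAut σ : MulAut (Cfsg.PSp m F)) ^ r = 1) :
    ∃ k : ↥(Cfsg.GSp m F),
      (cAut g * fAut σ : MulAut (Cfsg.PSp m F)) = cAut k * fAut σ * (cAut k)⁻¹ := by
  have hm1 : 1 ≤ m := by omega
  have hσ : σ ^ r = 1 := by rw [← hord]; exact pow_orderOf_eq_one σ
  rw [pow_cAut_mul_fAut, hσ, map_one, mul_one, cAut_eq_one_iff hm] at h
  obtain ⟨c, hc⟩ := exists_scalar_of_mem_scalars h
  rw [PNG_coe] at hc
  -- `c` is fixed by `σ`
  have hfix : sigU σ c = c := by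
    have h1 := PNi_succ' σ g.1 r
    rw [PNi_succ, hσ, mapGLi_one, hc, Matrix.GeneralLinearGroup.map_scalar,
      Matrix.GeneralLinearGroup.scalar_commute] at h1
    exact (scalarGL_injective hm1 (mul_left_cancel h1)).symm
  obtain ⟨a, ha⟩ := exists_norm_eq σ hr hord c hfix
  set g' : ↥(Cfsg.GSp m F) := scalarGSp a⁻¹ * g with hg'
  have hPN : PNi σ g'.1 r = 1 := by
    have : g'.1 = Matrix.GeneralLinearGroup.scalar (Fin m ⊕ Fin m) a⁻¹ * g.1 := rfl
    rw [this, PNi_scalar_mul, hc, ← map_mul, map_inv, ha, inv_mul_cancel, map_one]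
  have hι : ∀ x : F, σ x = x ↔
      x ∈ Set.range (Cfsg.Agent.Lib.Helper44_FixField.fixField σ).subtype := by
    intro x
    rw [← Cfsg.Agent.Lib.Helper44_FixField.mem_fixField]
    constructor
    · intro hx
      exact ⟨⟨x, hx⟩, rfl⟩
    · rintro ⟨y, rfl⟩
      exact y.2
  obtain ⟨k, hk⟩ := lang_GSp σ (Cfsg.Agent.Lib.Helper44_FixField.fixField σ).subtype hι hm1 hr
    hord g' hPN
  refine ⟨k, ?_⟩
  have h1 : cAut g = cAut g' := by
    rw [hg', map_mul, cAut_scalarGSp hm, one_mul]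
  have h2 : g' = k * (sigG σ k)⁻¹ := by
    rw [eq_mul_inv_iff_mul_eq]
    exact hk
  rw [h1, h2, map_mul, map_inv, mul_assoc, mul_assoc]
  congr 1
  have h3 := fAut_mul_cAut σ k
  calc (cAut (sigG σ k))⁻¹ * fAut σ
      = (cAut (sigG σ k))⁻¹ * (fAut σ * cAut k) * (cAut k)⁻¹ := by group
    _ = (cAut (sigG σ k))⁻¹ * (cAut (sigG σ k) * fAut σ) * (cAut k)⁻¹ := by rw [h3]
    _ = fAut σ * (cAut k)⁻¹ := by group


theorem isConjUnder_of_conj' {A : Type*} [Group A] (D : Subgroup A) [hD : D.Normal] (α x δ : A)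
    (H : ∃ k ∈ D, (α * δ * α⁻¹) * (α * x * α⁻¹) = k * (α * x * α⁻¹) * k⁻¹) :
    Cfsg.IsConjUnder D x (δ * x) := by
  obtain ⟨k, hk, h⟩ := H
  refine ⟨α⁻¹ * k * α, ?_, ?_⟩
  · have := hD.conj_mem k hk α⁻¹
    rwa [inv_inv] at this
  · have h1 : δ * x = α⁻¹ * ((α * δ * α⁻¹) * (α * x * α⁻¹)) * α := by group
    rw [h1, h]
    group

theorem orderOf_fAut (hm : 2 ≤ m) (σ : F ≃+* F) :
    orderOf (fAut (m := m) σ) = orderOf σ :=
  orderOf_injective (fAut (F := F) (m := m)) (fAut_injective hm) σ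

/-- the coset statement for `PSp`, with the characteristic data explicit -/
theorem coset_conj_main [Fintype F] {p f : ℕ} [hp : Fact p.Prime] [CharP F p]
    (hF : Fintype.card F = p ^ f) (hm : 2 ≤ m) (x δ : MulAut (Cfsg.PSp m F))
    (hx : Cfsg.IsFieldAutClassPSp x) {r : ℕ} (hr : r.Prime) (hxr : orderOf x = r)
    (hδ : δ ∈ Cfsg.inndiagPSp m F) :
    orderOf (δ * x) = r ↔ Cfsg.IsConjUnder (Cfsg.inndiagPSp m F) x (δ * x) := by
  have hN : (Cfsg.inndiagPSp m F).Normal := inndiag_normal hF hm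
  constructor
  swap
  · rintro ⟨h, -, hh⟩
    rw [hh, ← MulAut.conj_apply, MulEquiv.orderOf_eq]
    exact hxr
  intro hord
  obtain ⟨α, σ, hσ, hstd⟩ := hx
  have hx' := (isStdFieldAut_iff σ _).mp hstd
  obtain ⟨g, hg⟩ : ∃ g : ↥(Cfsg.GSp m F), α * δ * α⁻¹ = cAut g := by
    have := hN.conj_mem δ hδ α
    rw [inndiagPSp_eq] at this
    obtain ⟨g, hg⟩ := this
    exact ⟨g, hg.symm⟩
  apply isConjUnder_of_conj' _ α
  have hordσ : orderOf σ = r := by
    rw [← orderOf_fAut hm σ, ← hx', ← MulAut.conj_apply, MulEquiv.orderOf_eq]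
    exact hxr
  have hpow : ((α * δ * α⁻¹) * (α * x * α⁻¹)) ^ r = α * (δ * x) ^ r * α⁻¹ := by
    have : (α * δ * α⁻¹) * (α * x * α⁻¹) = α * (δ * x) * α⁻¹ := by group
    rw [this, conj_pow]
  have h1 : (cAut g * fAut σ : MulAut (Cfsg.PSp m F)) ^ r = 1 := by
    rw [← hg, ← hx', hpow, ← hord, pow_orderOf_eq_one, mul_one, mul_inv_cancel]
  obtain ⟨k, hk⟩ := field_coset_conj_sp hm σ hr.pos hordσ g h1
  refine ⟨cAut k, ?_, ?_⟩
  · rw [inndiagPSp_eq]
    exact ⟨k, rfl⟩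
  · rw [hg, hx']
    exact hk

end Cfsg.Agent.Lib.Helper44_PSpLang
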