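import Mathlib
import Cfsg.Agent.Lib.Helper44_H90
import Cfsg.Agent.Lib.Helper44_HermOrtho
import Cfsg.Agent.Lib.Helper44_PSpLang
import Cfsg.Agent.Lib.Helper44_PSLnLang
import Cfsg.Agent.Lib.Helper45_PSUOut
import Cfsg.Agent.Lib.Helper13_HermBridge

/-!
# Cosets of field automorphisms of `PSU_n(q)` (helper44)

Lang's theorem for `GU_n` relative to a field automorphism of odd order, and the conjugacy of the
elements of prime order in a coset `Inndiag · x`, `x` a standard field automorphism.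
-/

set_option autoImplicit false
set_option linter.unusedSectionVars false
set_option linter.unusedVariables false
set_option linter.unusedSimpArgs false
set_option linter.style.haveILetI false

namespace Cfsg.Agent.Lib.Helper44_PSULang

open Matrix Cfsg.Agent.Lib.Helper14_PSLAut Cfsg.Agent.Lib.Helper14_FieldAutPSL
  Cfsg.Agent.Lib.Helper14_Char2Groups Cfsg.Agent.Lib.Helper14_PSUAut Cfsg.Agent.Lib.Helper13_Herm
  Cfsg.Agent.Lib.Helper14_PSUKer Cfsg.Agent.Lib.Helper14_PSUStar Cfsg.Agent.Lib.Helper14_PSUSplit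
  Cfsg.Agent.Lib.Helper45_PSUOut Cfsg.Agent.Lib.Helper44_H90 Cfsg.Agent.Lib.Helper13_HermBridge
  Cfsg.Agent.Lib.Helper44_HermOrtho Cfsg.Agent.Lib.Helper94_Herm

variable {F : Type*} [Field F] {n q : ℕ}

/-! ### partial norms in `GU` -/

theorem PN_mem_GU (σ : F ≃+* F) (g : ↥(Cfsg.GU n F q)) (i : ℕ) : PN σ g.1 i ∈ Cfsg.GU n F q := by
  induction i with
  | zero => rw [PN_zero]; exact (Cfsg.GU n F q).one_mem
  | succ i ih =>
    rw [PN_succ]
    exact (Cfsg.GU n F q).mul_mem ih (glMap_mem_GU (σ ^ i) g.1 g.2)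

/-- partial norms in `GU` -/
def PNU (σ : F ≃+* F) (g : ↥(Cfsg.GU n F q)) (i : ℕ) : ↥(Cfsg.GU n F q) :=
  ⟨PN σ g.1 i, PN_mem_GU σ g i⟩

theorem PNU_coe (σ : F ≃+* F) (g : ↥(Cfsg.GU n F q)) (i : ℕ) : (PNU σ g i).1 = PN σ g.1 i := rfl

theorem PNU_succ (σ : F ≃+* F) (g : ↥(Cfsg.GU n F q)) (i : ℕ) :
    PNU σ g (i + 1) = PNU σ g i * mapU (σ ^ i) g := by
  apply Subtype.ext
  exact PN_succ σ g.1 i

theorem fieldU_mul_conjU (σ : F ≃+* F) (g : ↥(Cfsg.GU n F q)) :
    fieldU σ * conjU g = conjU (mapU σ g) * fieldU σ := by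
  rw [← fieldU_conjU]
  group

theorem pow_conjU_mul_fieldU (σ : F ≃+* F) (g : ↥(Cfsg.GU n F q)) (i : ℕ) :
    (conjU g * fieldU σ : MulAut (Cfsg.PSU n F q)) ^ i = conjU (PNU σ g i) * fieldU (σ ^ i) := by
  induction i with
  | zero =>
    have : PNU σ g 0 = 1 := by
      apply Subtype.ext
      exact PN_zero σ g.1
    rw [pow_zero, pow_zero, this, map_one, map_one, one_mul]
  | succ i ih =>
    rw [pow_succ, ih, PNU_succ, map_mul, pow_succ, map_mul]
    calc conjU (PNU σ g i) * fieldU (σ ^ i) * (conjU g * fieldU σ)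
        = conjU (PNU σ g i) * (fieldU (σ ^ i) * conjU g) * fieldU σ := by
          simp only [mul_assoc]
      _ = conjU (PNU σ g i) * (conjU (mapU (σ ^ i) g) * fieldU (σ ^ i)) * fieldU σ := by
          rw [fieldU_mul_conjU]
      _ = _ := by simp only [mul_assoc]

/-! ### Lang's theorem for `GU` -/

section lang

variable [Fintype F] {F₀ : Type*} [Field F₀] [Finite F₀] (hF : Fintype.card F = q ^ 2)
  (σ : F ≃+* F) (ι : F₀ →+* F) (hι : ∀ a : F, σ a = a ↔ a ∈ Set.range ι)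
  (τ₀ : F₀ →+* F₀) (hτ₀ : ∀ x, ι (τ₀ x) = (ι x) ^ q) (hInv : Invol τ₀)

include hF hι hτ₀ hInv in
/-- **Lang's theorem for `GU`** (cocycle form) -/
theorem lang_GU {r : ℕ} (hr : 0 < r) (hord : orderOf σ = r)
    (g : ↥(Cfsg.GU n F q)) (hg : PN σ g.1 r = 1) :
    ∃ k : ↥(Cfsg.GU n F q), g * mapU σ k = k := by
  classical
  obtain ⟨h, hh⟩ := hilbert90_GL σ hr hord g.1 hg
  have hh' : h.1 = g.1.1 * h.1.map σ := by
    have := congrArg Units.val hh
    rw [Units.val_mul, mapGL_coe] at this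
    exact this.symm
  -- the Frobenius as a ring hom
  set φ : F →+* F := frobQ hF with hφ
  have hφm : ∀ M : Matrix (Fin n) (Fin n) F, M.map (fun x => x ^ q) = M.map φ := fun M => rfl
  have hgram : g.1.1ᵀ * g.1.1.map φ = 1 := (mem_GU_iff_gram hF g.1).mp g.2
  set K : Matrix (Fin n) (Fin n) F := h.1ᵀ * h.1.map φ with hKdef
  have hcomm : ∀ M : Matrix (Fin n) (Fin n) F, (M.map σ).map φ = (M.map φ).map σ := by
    intro M
    ext i j
    show (σ (M i j)) ^ q = σ ((M i j) ^ q)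
    rw [map_pow]
  have hKfix : K.map σ = K := by
    have h1 : K.map σ = (h.1.map σ)ᵀ * (h.1.map σ).map φ := by
      rw [hKdef, Matrix.map_mul, Matrix.transpose_map, hcomm]
    rw [h1]
    conv_rhs => rw [hKdef, hh']
    rw [Matrix.transpose_mul, Matrix.map_mul]
    calc (h.1.map σ)ᵀ * (h.1.map σ).map φ
        = (h.1.map σ)ᵀ * 1 * (h.1.map σ).map φ := by rw [Matrix.mul_one]
      _ = (h.1.map σ)ᵀ * (g.1.1ᵀ * g.1.1.map φ) * (h.1.map σ).map φ := by rw [hgram]
      _ = _ := by simp only [Matrix.mul_assoc]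
  obtain ⟨K₀, hK₀⟩ := Cfsg.Agent.Lib.Helper44_PSpLang.exists_map_of_fixedM σ ι hι K hKfix
  -- transport of the Frobenius
  have hιφ : ∀ M₀ : Matrix (Fin n) (Fin n) F₀, (M₀.map τ₀).map ι = (M₀.map ι).map φ := by
    intro M₀
    ext i j
    show ι (τ₀ (M₀ i j)) = (ι (M₀ i j)) ^ q
    exact hτ₀ _
  have hφφ : ∀ M : Matrix (Fin n) (Fin n) F, (M.map φ).map φ = M := by
    intro M
    ext i j
    exact frobQ_frobQ hF _
  have hιinj : Function.Injective (fun M₀ : Matrix (Fin n) (Fin n) F₀ => M₀.map ι) := by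
    intro A B hAB
    ext i j
    apply ι.injective
    exact congrFun (congrFun hAB i) j
  -- `K₀` is hermitian
  have hK₀H : K₀ᵀ = K₀.map τ₀ := by
    apply hιinj
    show K₀ᵀ.map ι = (K₀.map τ₀).map ι
    rw [hιφ, Matrix.transpose_map, hK₀, hKdef, Matrix.transpose_mul, Matrix.transpose_transpose,
      Matrix.map_mul, hφφ, Matrix.transpose_map]
  -- `K₀` is nondegenerate
  have hdetK : K.det ≠ 0 := by
    rw [hKdef, Matrix.det_mul, Matrix.det_transpose]
    have hdh : h.1.det ≠ 0 := Matrix.GeneralLinearGroup.det_ne_zero h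
    have hdh' : (h.1.map φ).det ≠ 0 := by
      have : (h.1.map φ).det = φ h.1.det := by
        rw [RingHom.map_det, RingHom.mapMatrix_apply]
      rw [this]
      exact (map_ne_zero φ).mpr hdh
    exact mul_ne_zero hdh hdh'
  have hdet₀ : K₀.det ≠ 0 := by
    intro h0
    have h1 : ι K₀.det = K.det := by
      rw [RingHom.map_det, RingHom.mapMatrix_apply, hK₀]
    rw [h0, map_zero] at h1
    exact hdetK h1.symm
  obtain ⟨a, ha⟩ := exists_congr_one K₀ τ₀ hInv hK₀H hdet₀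
  -- transfer to `F`
  set A : Matrix (Fin n) (Fin n) F := a.map ι with hA
  have hAσ : A.map σ = A := Cfsg.Agent.Lib.Helper44_PSpLang.map_map_fixed σ ι hι a
  have hAK : Aᵀ * K * A.map φ = 1 := by
    have := congrArg (fun M₀ : Matrix (Fin n) (Fin n) F₀ => M₀.map ι) ha
    simp only [Matrix.map_mul, Matrix.transpose_map, hιφ, hK₀] at this
    rw [this]
    exact Matrix.map_one ι (map_zero ι) (map_one ι)
  have hgramk : (h.1 * A)ᵀ * (h.1 * A).map (fun x => x ^ q) = 1 := by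
    rw [hφm, Matrix.transpose_mul, Matrix.map_mul]
    calc Aᵀ * h.1ᵀ * (h.1.map φ * A.map φ) = Aᵀ * (h.1ᵀ * h.1.map φ) * A.map φ := by
          simp only [Matrix.mul_assoc]
      _ = 1 := hAK
  refine ⟨⟨gramGL (h.1 * A) hgramk, gramGL_mem hF _ hgramk⟩, ?_⟩
  apply Subtype.ext
  apply Units.ext
  show g.1.1 * (h.1 * A).map σ = h.1 * A
  rw [Matrix.map_mul, hAσ, ← Matrix.mul_assoc, ← hh']

end lang


/-! ### unitary scalars -/

theorem scalar_eq_scalarGL (a : Fˣ) :
    Matrix.GeneralLinearGroup.scalar (Fin n) a = (scalarGL a : GL (Fin n) F) := by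
  apply Units.ext
  rw [Matrix.GeneralLinearGroup.coe_scalar, scalarGL_coe, Matrix.scalar_apply,
    ← Matrix.smul_one_eq_diagonal]

section scalars

variable [Fintype F] (hF : Fintype.card F = q ^ 2)

/-- unitary scalars -/
def scU (c : Fˣ) (hc : c ^ (q + 1) = 1) : ↥(Cfsg.GU n F q) :=
  ⟨scalarGL c, scalarGL_mem_GU hF (tauQ hF) (tauQ_apply hF) c hc⟩

theorem scU_coe (c : Fˣ) (hc : c ^ (q + 1) = 1) :
    (scU (n := n) hF c hc).1 = scalarGL c := rfl

theorem conjU_scU (c : Fˣ) (hc : c ^ (q + 1) = 1) :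
    conjU (scU (n := n) hF c hc) = 1 := by
  rw [conjU_apply]
  exact conjN_eq_one_of_scalar _ (scalarGL_mem c)

include hF in
theorem pow_eq_one_of_scalarGL_mem (hn : 0 < n) (c : Fˣ)
    (hcU : (scalarGL c : GL (Fin n) F) ∈ Cfsg.GU n F q) : c ^ (q + 1) = 1 := by
  have h1 := (mem_GU_iff_cstar hF (tauQ hF) (tauQ_apply hF) _).mp hcU
  rw [cstar_scalarGL, ← scalarGL_mul] at h1
  have h2 := scalarGL_injective hn (h1.trans scalarGL_one.symm)
  apply Units.ext
  have h3 := congrArg Units.val h2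
  rw [Units.val_mul, Units.val_one] at h3
  rw [Units.val_pow_eq_pow_val, Units.val_one, pow_succ, ← tauQ_apply hF]
  exact h3

include hF in
theorem unit_pow_card (a : Fˣ) : a ^ (q ^ 2) = a := by
  apply Units.ext
  rw [Units.val_pow_eq_pow_val, ← hF]
  exact FiniteField.pow_card _

end scalars

theorem sigU_pow_fixed (σ : F ≃+* F) (c : Fˣ) (hc : sigU σ c = c) (i : ℕ) :
    sigU (σ ^ i) c = c := by
  induction i with
  | zero => rw [pow_zero]; exact sigU_one c
  | succ i ih => rw [pow_succ', ← sigU_sigU, ih, hc]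

theorem Nm_of_fixed (σ : F ≃+* F) (c : Fˣ) (hc : sigU σ c = c) (r : ℕ) : Nm σ r c = c ^ r := by
  induction r with
  | zero => rw [Nm_zero, pow_zero]
  | succ r ih => rw [Nm_succ, ih, sigU_pow_fixed σ c hc, pow_succ]

/-- Galois: an automorphism fixing the fixed field of `σ` pointwise is a power of `σ` -/
theorem galois_mem_zpowers [Finite F] (σ τ : F ≃+* F) (h : ∀ a : F, σ a = a → τ a = a) :
    τ ∈ Subgroup.zpowers σ := by
  classical
  have : Finite (F ≃+* F) :=
    Finite.of_injective (fun τ : F ≃+* F => (τ : F → F)) DFunLike.coe_injective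
  let f : F →ₐ[FixedPoints.subfield (Subgroup.zpowers σ) F] F :=
    { (τ : F →+* F) with
      commutes' := fun a => h a.1 ((Cfsg.Agent.Lib.Helper44_FixField.mem_fixField σ a.1).mp a.2) }
  obtain ⟨g, hg⟩ := (FixedPoints.toAlgHom_bijective (Subgroup.zpowers σ) F).2 f
  have h1 : τ = g.1 := by
    ext a
    have := DFunLike.congr_fun hg a
    exact this.symm
  rw [h1]
  exact g.2

section fixfield

open Cfsg.Agent.Lib.Helper44_FixField

variable [Fintype F] (hF : Fintype.card F = q ^ 2) (σ : F ≃+* F)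

/-- the `q`-power map on the fixed field of `σ` -/
def tau0 : fixField σ →+* fixField σ :=
  (frobQ hF).restrict (fixField σ) (fixField σ) (fun x hx => by
    rw [frobQ_apply]; exact pow_mem hx q)

theorem tau0_coe (x : fixField σ) : ((tau0 hF σ x : fixField σ) : F) = (x : F) ^ q := rfl

theorem tauQ_ne_one : tauQ hF ≠ 1 := by
  intro h
  apply frobQ_ne_id hF
  ext x
  have := DFunLike.congr_fun h x
  exact this

theorem orderOf_tauQ : orderOf (tauQ hF) = 2 := by
  apply orderOf_eq_prime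
  · ext x
    show (x ^ q) ^ q = x
    exact pow_q_pow_q hF x
  · exact tauQ_ne_one hF

theorem invol_tau0 (hodd : Odd (orderOf σ)) : Invol (tau0 hF σ) := by
  refine ⟨fun a => Subtype.ext (pow_q_pow_q hF a.1), ?_⟩
  by_contra hcon
  push Not at hcon
  have h1 : tauQ hF ∈ Subgroup.zpowers σ := by
    apply galois_mem_zpowers
    intro a ha
    have := congrArg Subtype.val (hcon ⟨a, (mem_fixField σ a).mpr ha⟩)
    exact this
  have h2 : orderOf (tauQ hF) ∣ orderOf σ := by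
    have : Finite (F ≃+* F) :=
      Finite.of_injective (fun τ : F ≃+* F => (τ : F → F)) DFunLike.coe_injective
    exact orderOf_dvd_of_mem_zpowers h1
  rw [orderOf_tauQ] at h2
  exact (Nat.not_even_iff_odd.mpr hodd) (even_iff_two_dvd.mpr h2)

theorem hι_fixField : ∀ x : F, σ x = x ↔ x ∈ Set.range (fixField σ).subtype := by
  intro x
  rw [← mem_fixField]
  constructor
  · intro hx
    exact ⟨⟨x, hx⟩, rfl⟩
  · rintro ⟨y, rfl⟩
    exact y.2

end fixfield

/-! ### cosets of field automorphisms -/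

/-- **Field automorphism cosets** for `PSU`: if `(conjU g * fieldU σ) ^ r = 1` with
`r = orderOf σ` odd then `conjU g * fieldU σ` is conjugate to `fieldU σ` under some `conjU k`. -/
theorem field_coset_conj_u [Fintype F] (hF : Fintype.card F = q ^ 2) (hn : 3 ≤ n) (σ : F ≃+* F)
    {r : ℕ} (hr : Odd r) (hord : orderOf σ = r) (g : ↥(Cfsg.GU n F q))
    (h : (conjU g * fieldU σ : MulAut (Cfsg.PSU n F q)) ^ r = 1) :
    ∃ k : ↥(Cfsg.GU n F q),
      (conjU g * fieldU σ : MulAut (Cfsg.PSU n F q)) = conjU k * fieldU σ * (conjU k)⁻¹ := by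
  have hn0 : 0 < n := by omega
  have hr0 : 0 < r := hr.pos
  have hσ : σ ^ r = 1 := by rw [← hord]; exact pow_orderOf_eq_one σ
  rw [pow_conjU_mul_fieldU, hσ, map_one, mul_one, conjU_apply, conjN_eq_one_iff hF hn,
    mem_scalars_iff_scalarGL] at h
  obtain ⟨c, hc⟩ := h
  have hc' : PN σ g.1 r = Matrix.GeneralLinearGroup.scalar (Fin n) c := by
    rw [scalar_eq_scalarGL]; exact hc
  -- `c` is fixed by `σ`
  have hfix : sigU σ c = c := by
    have h1 := PN_succ' σ g.1 r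
    rw [PN_succ, hσ, mapGL_one, hc', Matrix.GeneralLinearGroup.map_scalar,
      Matrix.GeneralLinearGroup.scalar_commute] at h1
    exact (Cfsg.Agent.Lib.Helper44_PSLnLang.scalar_injective (by omega)
      (mul_left_cancel h1)).symm
  -- `c` has norm one over the `q`-power map
  have hc1 : c ^ (q + 1) = 1 := by
    apply pow_eq_one_of_scalarGL_mem hF hn0
    have : (scalarGL c : GL (Fin n) F) = PN σ g.1 r := hc.symm
    rw [this]
    exact PN_mem_GU σ g r
  obtain ⟨a, ha⟩ := exists_norm_eq σ hr0 hord c hfix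
  -- a unitary scalar with norm `c`
  obtain ⟨j, hj⟩ := hr
  set a₂ : Fˣ := a * (a ^ q)⁻¹ with ha₂
  have ha₂1 : a₂ ^ (q + 1) = 1 := by
    rw [ha₂, mul_pow, inv_pow, ← pow_mul]
    have h0 : q * (q + 1) = q ^ 2 + q := by ring
    have h1 : a ^ (q * (q + 1)) = a ^ (q + 1) := by
      rw [h0, pow_add, unit_pow_card hF, pow_succ, mul_comm]
    rw [h1, mul_inv_cancel]
  have hcq : c ^ q = c⁻¹ := by
    rw [eq_inv_iff_mul_eq_one, ← pow_succ]; exact hc1
  have hNa₂ : Nm σ r a₂ = c ^ 2 := by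
    rw [ha₂, map_mul, map_inv, map_pow, ha, hcq, inv_inv, pow_two]
  set a' : Fˣ := c * (a₂ ^ j)⁻¹ with ha'
  have ha'1 : a' ^ (q + 1) = 1 := by
    rw [ha', mul_pow, hc1, one_mul, inv_pow, ← pow_mul, mul_comm j, pow_mul, ha₂1, one_pow,
      inv_one]
  have hNa' : Nm σ r a' = c := by
    rw [ha', map_mul, map_inv, map_pow, hNa₂, Nm_of_fixed σ c hfix, hj, ← pow_mul, pow_succ,
      mul_comm (c ^ (2 * j)) c, mul_assoc, mul_inv_cancel, mul_one]
  have ha'inv : a'⁻¹ ^ (q + 1) = 1 := by rw [inv_pow, ha'1, inv_one]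
  set g' : ↥(Cfsg.GU n F q) := scU hF a'⁻¹ ha'inv * g with hg'
  have hPN : PN σ g'.1 r = 1 := by
    have : g'.1 = Matrix.GeneralLinearGroup.scalar (Fin n) a'⁻¹ * g.1 := by
      rw [scalar_eq_scalarGL]; rfl
    rw [this, Cfsg.Agent.Lib.Helper44_PSLnLang.PN_scalar_mul, hc', ← map_mul, map_inv, hNa',
      inv_mul_cancel, map_one]
  have hodd : Odd (orderOf σ) := by rw [hord, hj]; exact ⟨j, rfl⟩
  obtain ⟨k, hk⟩ := lang_GU hF σ (Cfsg.Agent.Lib.Helper44_FixField.fixField σ).subtype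
    (hι_fixField σ) (tau0 hF σ) (fun x => rfl) (invol_tau0 hF σ hodd) hr0 hord g' hPN
  refine ⟨k, ?_⟩
  have h1 : conjU g = conjU g' := by
    rw [hg', map_mul, conjU_scU, one_mul]
  have h2 : g' = k * (mapU σ k)⁻¹ := by
    rw [eq_mul_inv_iff_mul_eq]
    exact hk
  rw [h1, h2, map_mul, map_inv, mul_assoc, mul_assoc]
  congr 1
  have h3 := fieldU_mul_conjU σ k
  calc (conjU (mapU σ k))⁻¹ * fieldU σ
      = (conjU (mapU σ k))⁻¹ * (fieldU σ * conjU k) * (conjU k)⁻¹ := by group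
    _ = (conjU (mapU σ k))⁻¹ * (conjU (mapU σ k) * fieldU σ) * (conjU k)⁻¹ := by rw [h3]
    _ = fieldU σ * (conjU k)⁻¹ := by group


theorem fieldU_injective [Fintype F] (hF : Fintype.card F = q ^ 2) (hn : 3 ≤ n) :
    Function.Injective (fieldU (n := n) (F := F) (q := q)) := by
  rw [injective_iff_map_eq_one]
  intro σ h
  have h1 : conjN (1 : ↥(normSU n F q)) = fieldU σ := by rw [map_one, h]
  exact (eq_one_and_scalar_of_conjN_eq_fieldU hF hn 1 σ h1).1

theorem orderOf_fieldU [Fintype F] (hF : Fintype.card F = q ^ 2) (hn : 3 ≤ n) (σ : F ≃+* F) :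
    orderOf (fieldU (n := n) (q := q) σ) = orderOf σ :=
  orderOf_injective (fieldU (n := n) (F := F) (q := q)) (fieldU_injective hF hn) σ

theorem inndiagPSU_normal (hfac : Fac n F q) : (Cfsg.inndiagPSU n F q).Normal := by
  rw [← DDU_eq_inndiag]
  exact DDU_normal hfac

/-- the coset statement for `PSU`, given the factorisation of `Aut (PSU)` -/
theorem coset_conj_main_u [Fintype F] (hF : Fintype.card F = q ^ 2) (hn : 3 ≤ n)
    (hfac : Fac n F q) (x δ : MulAut (Cfsg.PSU n F q))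
    (hx : Cfsg.IsFieldAutClassPSU x) {r : ℕ} (hr : r.Prime) (hxr : orderOf x = r)
    (hδ : δ ∈ Cfsg.inndiagPSU n F q) :
    orderOf (δ * x) = r ↔ Cfsg.IsConjUnder (Cfsg.inndiagPSU n F q) x (δ * x) := by
  have hN : (Cfsg.inndiagPSU n F q).Normal := inndiagPSU_normal hfac
  constructor
  swap
  · rintro ⟨h, -, hh⟩
    rw [hh, ← MulAut.conj_apply, MulEquiv.orderOf_eq]
    exact hxr
  intro hord
  obtain ⟨α, φ, σ, hσ, hodd, hstd, hαx⟩ := hx
  have hx' : α * x * α⁻¹ = fieldU σ := by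
    rw [hαx]; exact (isFieldAutPSUOf_iff σ φ).mp hstd
  obtain ⟨g, hg⟩ : ∃ g : ↥(Cfsg.GU n F q), α * δ * α⁻¹ = conjU g := by
    have := hN.conj_mem δ hδ α
    rw [inndiagPSU_eq] at this
    obtain ⟨g, hg⟩ := this
    exact ⟨g, hg.symm⟩
  apply Cfsg.Agent.Lib.Helper44_PSpLang.isConjUnder_of_conj' _ α
  have hordσ : orderOf σ = r := by
    rw [← orderOf_fieldU hF hn σ, ← hx', ← MulAut.conj_apply, MulEquiv.orderOf_eq]
    exact hxr
  have hpow : ((α * δ * α⁻¹) * (α * x * α⁻¹)) ^ r = α * (δ * x) ^ r * α⁻¹ := by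
    have : (α * δ * α⁻¹) * (α * x * α⁻¹) = α * (δ * x) * α⁻¹ := by group
    rw [this, conj_pow]
  have h1 : (conjU g * fieldU σ : MulAut (Cfsg.PSU n F q)) ^ r = 1 := by
    rw [← hg, ← hx', hpow, ← hord, pow_orderOf_eq_one, mul_one, mul_inv_cancel]
  have hrodd : Odd r := by rw [← hordσ]; exact hodd
  obtain ⟨k, hk⟩ := field_coset_conj_u hF hn σ hrodd hordσ g h1
  refine ⟨conjU k, ?_, ?_⟩
  · rw [inndiagPSU_eq]
    exact ⟨k, rfl⟩
  · rw [hg, hx']
    exact hk

end Cfsg.Agent.Lib.Helper44_PSULang
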