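import Mathlib
import Cfsg.Agent.Lib.Helper44_PSULang
import Cfsg.Agent.Lib.Helper44_PSLnFieldCent

/-!
# Centralizers and class splitting of field automorphisms of `PSU_n(q)` (helper44)
-/

set_option autoImplicit false
set_option linter.unusedSectionVars false
set_option linter.unusedVariables false
set_option linter.unusedSimpArgs false
set_option linter.style.haveILetI false

namespace Cfsg.Agent.Lib.Helper44_PSUFieldCent

open Matrix Cfsg.Agent.Lib.Helper14_PSLAut Cfsg.Agent.Lib.Helper14_FieldAutPSL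
  Cfsg.Agent.Lib.Helper14_Char2Groups Cfsg.Agent.Lib.Helper14_PSUAut Cfsg.Agent.Lib.Helper13_Herm
  Cfsg.Agent.Lib.Helper14_PSUKer Cfsg.Agent.Lib.Helper14_PSUStar Cfsg.Agent.Lib.Helper14_PSUSplit
  Cfsg.Agent.Lib.Helper45_PSUOut Cfsg.Agent.Lib.Helper44_H90 Cfsg.Agent.Lib.Helper13_HermBridge
  Cfsg.Agent.Lib.Helper44_HermOrtho Cfsg.Agent.Lib.Helper94_Herm Cfsg.Agent.Lib.Helper44_PSULang
  Cfsg.Agent.Lib.Helper14_GraphFieldPSL Cfsg.Agent.Lib.Helper14_PSLSplit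

open Cfsg.Agent.Lib.Helper44_PSLnFieldCent (isConjUnder_conj_iff splitClassCount_conj
  mem_centralizer_singleton centConjEquiv mapGL_pow_of_scalar)

variable {F : Type*} [Field F] {n q : ℕ}

/-! ### base change of unitary groups -/

section basechange

variable [Fintype F] {F₀ : Type*} [Field F₀] [Fintype F₀] {q₀ : ℕ}
  (hF : Fintype.card F = q ^ 2) (hF₀ : Fintype.card F₀ = q₀ ^ 2)
  (σ : F ≃+* F) (ι : F₀ →+* F) (hι : ∀ a : F, σ a = a ↔ a ∈ Set.range ι)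
  (hιq : ∀ x : F₀, ι (x ^ q₀) = (ι x) ^ q)

include hF hF₀ hιq in
theorem glι_mem_GU_iff (k : GL (Fin n) F₀) :
    glι ι k ∈ Cfsg.GU n F q ↔ k ∈ Cfsg.GU n F₀ q₀ := by
  rw [mem_GU_iff_gram hF, mem_GU_iff_gram hF₀, glι_coe]
  have h1 : (k.1.map ι).map (fun x => x ^ q) = (k.1.map (fun x => x ^ q₀)).map ι := by
    ext i j
    simp only [Matrix.map_apply]
    exact (hιq _).symm
  rw [h1, ← Matrix.transpose_map, ← Matrix.map_mul]
  constructor
  · intro h
    ext i j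
    apply ι.injective
    have := congrFun (congrFun h i) j
    rw [Matrix.map_apply] at this
    rw [this, Matrix.one_apply, Matrix.one_apply]
    split_ifs <;> simp
  · intro h
    rw [h]
    exact Matrix.map_one ι (map_zero ι) (map_one ι)

/-- base change `GU_n(F₀) → GU_n(F)` -/
def mapGU : ↥(Cfsg.GU n F₀ q₀) →* ↥(Cfsg.GU n F q) :=
  ((glι ι).comp (Cfsg.GU n F₀ q₀).subtype).codRestrict (Cfsg.GU n F q)
    (fun k => (glι_mem_GU_iff hF hF₀ ι hιq k.1).mpr k.2)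

theorem mapGU_coe (k : ↥(Cfsg.GU n F₀ q₀)) : (mapGU hF hF₀ ι hιq k).1 = glι ι k.1 := rfl

include hι in
theorem mapU_mapGU (k : ↥(Cfsg.GU n F₀ q₀)) :
    mapU σ (mapGU hF hF₀ ι hιq k) = mapGU hF hF₀ ι hιq k := by
  apply Subtype.ext
  rw [mapU_coe, mapGU_coe]
  exact glMap_glι ι σ (fun y => (hι _).mpr ⟨y, rfl⟩) k.1

include hι in
theorem exists_mapGU_of_fixed (g : ↥(Cfsg.GU n F q)) (h : mapU σ g = g) :
    ∃ k : ↥(Cfsg.GU n F₀ q₀), mapGU hF hF₀ ι hιq k = g := by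
  have h0 : glMap σ g.1 = g.1 := congrArg Subtype.val h
  obtain ⟨k, hk⟩ := exists_glι_of_fixed ι σ (fun x hx => (hι x).mp hx) g.1 h0
  have hkm : k ∈ Cfsg.GU n F₀ q₀ := by
    rw [← glι_mem_GU_iff hF hF₀ ι hιq, hk]
    exact g.2
  exact ⟨⟨k, hkm⟩, Subtype.ext hk⟩

include hF₀ in
theorem invol_frobQ₀ : Invol (frobQ hF₀) := by
  refine ⟨frobQ_frobQ hF₀, ?_⟩
  by_contra hcon
  push Not at hcon
  exact frobQ_ne_id hF₀ (RingHom.ext hcon)

include hF hF₀ hι hιq in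
/-- an inner-diagonal automorphism commuting with `fieldU σ` comes from a `σ`-fixed unitary
matrix -/
theorem fixed_of_commute_u (hn : 3 ≤ n) {r : ℕ} (hr : 0 < r) (hord : orderOf σ = r)
    (g : ↥(Cfsg.GU n F q))
    (h : (fieldU σ * conjU g : MulAut (Cfsg.PSU n F q)) = conjU g * fieldU σ) :
    ∃ (b : Fˣ) (hb : b ^ (q + 1) = 1), mapU σ (scU hF b hb * g) = scU hF b hb * g := by
  have hn0 : 0 < n := by omega
  have hσ : σ ^ r = 1 := by rw [← hord]; exact pow_orderOf_eq_one σ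
  rw [fieldU_mul_conjU] at h
  have h1 := mul_right_cancel h
  have h1' : conjU (g⁻¹ * mapU σ g) = 1 := by
    rw [map_mul, h1, map_inv, inv_mul_cancel]
  rw [conjU_apply, conjN_eq_one_iff hF hn, mem_scalars_iff_scalarGL] at h1'
  obtain ⟨c, hc⟩ := h1'
  have hc' : g.1⁻¹ * mapGL σ g.1 = scalarGL c := hc
  have hc1 : c ^ (q + 1) = 1 := by
    apply pow_eq_one_of_scalarGL_mem hF hn0
    rw [← hc']
    exact (g⁻¹ * mapU σ g).2
  have h2 : mapGL σ g.1 = Matrix.GeneralLinearGroup.scalar (Fin n) c * g.1 := by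
    rw [scalar_eq_scalarGL, scalarGL_comm, ← hc', mul_inv_cancel_left]
  have h3 := mapGL_pow_of_scalar σ g.1 c h2 r
  rw [hσ, mapGL_one] at h3
  have h4 : Matrix.GeneralLinearGroup.scalar (Fin n) (Nm σ r c)
      = Matrix.GeneralLinearGroup.scalar (Fin n) 1 := by
    rw [map_one]
    exact (mul_eq_right.mp h3.symm)
  have h5 := Cfsg.Agent.Lib.Helper44_PSLnLang.scalar_injective (by omega : 1 ≤ n) h4
  obtain ⟨b₁, hb₁⟩ := hilbert90_units σ hr hord c h5
  -- the `q + 1`-st power of `b₁` lies in the fixed field of `σ` and of the `q`-power map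
  set lam : Fˣ := b₁ ^ (q + 1) with hlam
  have hlamσ : sigU σ lam = lam := by
    have h6 : (c * sigU σ b₁) ^ (q + 1) = b₁ ^ (q + 1) := congrArg (fun u : Fˣ => u ^ (q + 1)) hb₁
    rw [mul_pow, hc1, one_mul, ← map_pow] at h6
    exact h6
  have hlamq : (lam : F) ^ q = lam := by
    have h0 : (q + 1) * q = q ^ 2 + q := by ring
    have : lam ^ q = lam := by
      rw [hlam, ← pow_mul, h0, pow_add, unit_pow_card hF, pow_succ, mul_comm]
    rw [← Units.val_pow_eq_pow_val, this]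
  obtain ⟨l₀, hl₀⟩ := (hι (lam : F)).mp (congrArg Units.val hlamσ)
  have hl₀q : frobQ hF₀ l₀ = l₀ := by
    apply ι.injective
    rw [frobQ_apply, hιq, hl₀, hlamq]
  obtain ⟨d₀, hd₀⟩ := norm_surj (invol_frobQ₀ hF₀) l₀ hl₀q
  have hd : (ι d₀) ^ (q + 1) = lam := by
    rw [pow_succ', ← hιq, ← map_mul, ← frobQ_apply hF₀, hd₀, hl₀]
  have hd0 : ι d₀ ≠ 0 := by
    intro h0
    rw [h0, zero_pow (by omega)] at hd
    exact lam.ne_zero hd.symm
  set dU : Fˣ := Units.mk0 (ι d₀) hd0 with hdU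
  have hdσ : sigU σ dU = dU := Units.ext ((hι _).mpr ⟨d₀, rfl⟩)
  have hdU1 : dU ^ (q + 1) = lam := Units.ext (by rw [Units.val_pow_eq_pow_val]; exact hd)
  set b : Fˣ := b₁ * dU⁻¹ with hb
  have hb1 : b ^ (q + 1) = 1 := by
    rw [hb, mul_pow, inv_pow, hdU1, ← hlam, mul_inv_cancel]
  have hbσ : c * sigU σ b = b := by
    rw [hb, map_mul, map_inv, hdσ, ← mul_assoc, hb₁]
  refine ⟨b, hb1, ?_⟩
  apply Subtype.ext
  show mapGL σ (scalarGL b * g.1) = scalarGL b * g.1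
  rw [← scalar_eq_scalarGL, map_mul, h2, Matrix.GeneralLinearGroup.map_scalar, ← mul_assoc,
    ← map_mul]
  congr 2
  rw [mul_comm]
  exact hbσ

/-! ### the centralizer of a standard field automorphism in the inner-diagonal group -/

/-- the centralizer of `fieldU σ` in the inner-diagonal group -/
abbrev CDU (n q : ℕ) (σ : F ≃+* F) : Subgroup (MulAut (Cfsg.PSU n F q)) :=
  Cfsg.inndiagPSU n F q ⊓ Subgroup.centralizer {fieldU σ}

omit [Fintype F] in
theorem mem_CDU_iff (y : MulAut (Cfsg.PSU n F q)) :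
    y ∈ CDU n q σ ↔ y ∈ Cfsg.inndiagPSU n F q ∧ fieldU σ * y = y * fieldU σ := by
  rw [Subgroup.mem_inf, Subgroup.mem_centralizer_iff]
  simp only [Set.mem_singleton_iff, forall_eq]

/-- subfield unitary matrices acting on `PSU_n(q)` -/
def PhiU : ↥(Cfsg.GU n F₀ q₀) →* MulAut (Cfsg.PSU n F q) := conjU.comp (mapGU hF hF₀ ι hιq)

theorem PhiU_apply (k : ↥(Cfsg.GU n F₀ q₀)) :
    PhiU hF hF₀ ι hιq k = conjU (mapGU hF hF₀ ι hιq k) := rfl

include hι in
theorem PhiU_mem (k : ↥(Cfsg.GU n F₀ q₀)) : PhiU hF hF₀ ι hιq k ∈ CDU n q σ := by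
  rw [mem_CDU_iff]
  refine ⟨?_, ?_⟩
  · rw [inndiagPSU_eq]
    exact ⟨_, rfl⟩
  · rw [PhiU_apply, fieldU_mul_conjU, mapU_mapGU hF hF₀ σ ι hι hιq]

theorem PhiU_ker (hn : 3 ≤ n) : (PhiU (n := n) hF hF₀ ι hιq).ker =
    (Cfsg.Geo.scalars (Fin n) F₀).subgroupOf (Cfsg.GU n F₀ q₀) := by
  ext k
  rw [MonoidHom.mem_ker, PhiU_apply, conjU_apply, conjN_eq_one_iff hF hn, Subgroup.mem_subgroupOf]
  exact glι_mem_scalars_iff ι k.1

include hι in
theorem PhiU_range (hn : 3 ≤ n) {r : ℕ} (hr : 0 < r) (hord : orderOf σ = r)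
    (y : MulAut (Cfsg.PSU n F q)) (hy : y ∈ CDU n q σ) :
    ∃ k : ↥(Cfsg.GU n F₀ q₀), PhiU hF hF₀ ι hιq k = y := by
  rw [mem_CDU_iff, inndiagPSU_eq] at hy
  obtain ⟨⟨g, rfl⟩, hcomm⟩ := hy
  obtain ⟨b, hb1, hb⟩ := fixed_of_commute_u hF hF₀ σ ι hι hιq hn hr hord g hcomm
  obtain ⟨k, hk⟩ := exists_mapGU_of_fixed hF hF₀ σ ι hι hιq _ hb
  refine ⟨k, ?_⟩
  rw [PhiU_apply, hk, map_mul, conjU_scU, one_mul]

include hF hF₀ hι hιq in
/-- `C_{Inndiag}(field automorphism) ≅ PGU_n(q₀)` -/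
theorem nonempty_centEquiv_u (hn : 3 ≤ n) {r : ℕ} (hr : 0 < r) (hord : orderOf σ = r) :
    Nonempty (↥(CDU n q σ) ≃* Cfsg.PGU n F₀ q₀) := by
  let Φ' : ↥(Cfsg.GU n F₀ q₀) →* ↥(CDU n q σ) :=
    (PhiU hF hF₀ ι hιq).codRestrict (CDU n q σ) (PhiU_mem hF hF₀ σ ι hι hιq)
  have hsurj : Function.Surjective Φ' := by
    rintro ⟨y, hy⟩
    obtain ⟨k, hk⟩ := PhiU_range hF hF₀ σ ι hι hιq hn hr hord y hy
    exact ⟨k, Subtype.ext hk⟩
  have hker : Φ'.ker = (Cfsg.Geo.scalars (Fin n) F₀).subgroupOf (Cfsg.GU n F₀ q₀) := by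
    rw [← PhiU_ker hF hF₀ ι hιq hn]
    ext k
    rw [MonoidHom.mem_ker, MonoidHom.mem_ker]
    constructor
    · intro h
      exact congrArg Subtype.val h
    · intro h
      exact Subtype.ext h
  let e1 := QuotientGroup.quotientKerEquivOfSurjective Φ' hsurj
  let e2 := QuotientGroup.quotientMulEquivOfEq hker
  exact ⟨(e2.symm.trans e1).symm⟩

/-! ### determinants of the centralizer -/

include hF hF₀ hι hιq in
theorem sup_map_detU_cent (hn : 3 ≤ n) {r : ℕ} (hr : 0 < r) (hord : orderOf σ = r) :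
    (powMonoidHom (q - 1) : Fˣ →* Fˣ).range.map (powMonoidHom n) ⊔
      ((Subgroup.centralizer {fieldU σ}).comap (conjU (n := n) (F := F) (q := q))).map detU
    = (powMonoidHom (q - 1) : Fˣ →* Fˣ).range.map (powMonoidHom n) ⊔
      ((powMonoidHom (q₀ - 1) : F₀ˣ →* F₀ˣ).range).map (Units.map (ι : F₀ →* F)) := by
  have hn0 : 0 < n := by omega
  have hq2 : 2 ≤ q := two_le_q hF
  have hker := ker_pow_eq_range_pow (F := F) (card_sub_one_eq' hF) (by omega : 0 < q + 1)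
    (by omega : 0 < q - 1)
  apply le_antisymm
  · apply sup_le le_sup_left
    rintro _ ⟨g, hg, rfl⟩
    rw [SetLike.mem_coe, Subgroup.mem_comap, mem_centralizer_singleton] at hg
    obtain ⟨b, hb1, hb⟩ := fixed_of_commute_u hF hF₀ σ ι hι hιq hn hr hord g hg
    obtain ⟨k, hk⟩ := exists_mapGU_of_fixed hF hF₀ σ ι hι hιq _ hb
    have hg' : g = (scU hF b hb1)⁻¹ * mapGU hF hF₀ ι hιq k := by
      rw [hk, inv_mul_cancel_left]
    have hdet : detU g = (b⁻¹) ^ n * Units.map (ι : F₀ →* F) (detU k) := by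
      rw [hg', map_mul, map_inv, detU_apply, detU_apply, scU_coe, det_scalarGL, mapGU_coe,
        inv_pow]
      congr 1
      exact Matrix.GeneralLinearGroup.map_det _ _
    rw [hdet]
    apply Subgroup.mul_mem_sup
    · refine ⟨b⁻¹, ?_, rfl⟩
      rw [SetLike.mem_coe, ← hker, MonoidHom.mem_ker, powMonoidHom_apply, inv_pow, hb1, inv_one]
    · refine ⟨detU k, ?_, rfl⟩
      rw [SetLike.mem_coe, ← range_detU hF₀ hn0]
      exact ⟨k, rfl⟩
  · apply sup_le le_sup_left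
    rintro _ ⟨u, hu, rfl⟩
    rw [SetLike.mem_coe, ← range_detU hF₀ hn0] at hu
    obtain ⟨k, rfl⟩ := hu
    apply Subgroup.mem_sup_right
    refine ⟨mapGU hF hF₀ ι hιq k, ?_, ?_⟩
    · rw [SetLike.mem_coe, Subgroup.mem_comap, mem_centralizer_singleton]
      have := (mem_CDU_iff σ _).mp (PhiU_mem hF hF₀ σ ι hι hιq k)
      exact this.2
    · rw [detU_apply, detU_apply, mapGU_coe]
      exact Matrix.GeneralLinearGroup.map_det _ _

include hF hF₀ in
/-- the arithmetic of the class count -/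
theorem index_count {r : ℕ} (hrodd : Odd r) (hqq : q = q₀ ^ r) :
    (((powMonoidHom (q - 1) : Fˣ →* Fˣ).range.map (powMonoidHom n) ⊔
      ((powMonoidHom (q₀ - 1) : F₀ˣ →* F₀ˣ).range).map (Units.map (ι : F₀ →* F))).comap
        (powMonoidHom (q - 1) : Fˣ →* Fˣ)).index = Nat.gcd n ((q + 1) / (q₀ + 1)) := by
  have hq2 : 2 ≤ q := two_le_q hF
  have hq₀2 : 2 ≤ q₀ := two_le_q hF₀
  have hdvd : q₀ + 1 ∣ q + 1 := by
    have := Odd.nat_add_dvd_pow_add_pow q₀ 1 hrodd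
    rwa [one_pow, ← hqq] at this
  obtain ⟨m, hm⟩ := hdvd
  have hm0 : 0 < m := by
    rcases Nat.eq_zero_or_pos m with h | h
    · rw [h, mul_zero] at hm; omega
    · exact h
  have hmdiv : (q + 1) / (q₀ + 1) = m := by
    rw [hm, Nat.mul_div_cancel_left _ (by omega : 0 < q₀ + 1)]
  rw [hmdiv]
  have hker := ker_pow_eq_range_pow (F := F) (card_sub_one_eq' hF) (by omega : 0 < q + 1)
    (by omega : 0 < q - 1)
  have hker₀ := ker_pow_eq_range_pow (F := F₀) (card_sub_one_eq' hF₀) (by omega : 0 < q₀ + 1)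
    (by omega : 0 < q₀ - 1)
  have hcardF : Nat.card Fˣ = (q + 1) * (q - 1) := by
    rw [Nat.card_units, Nat.card_eq_fintype_card, card_sub_one_eq' hF]
  have hcardF₀ : Nat.card F₀ˣ = (q₀ + 1) * (q₀ - 1) := by
    rw [Nat.card_units, Nat.card_eq_fintype_card, card_sub_one_eq' hF₀]
  have hinj : Function.Injective (Units.map (ι : F₀ →* F)) :=
    Units.map_injective ι.injective
  -- the image of the norm-one group of `F₀`
  have hZ : ((powMonoidHom (q₀ - 1) : F₀ˣ →* F₀ˣ).range).map (Units.map (ι : F₀ →* F))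
      = (powMonoidHom (q₀ + 1) : Fˣ →* Fˣ).ker := by
    rw [← hker₀]
    apply Subgroup.eq_of_le_of_card_ge
    · rintro _ ⟨u, hu, rfl⟩
      rw [SetLike.mem_coe, MonoidHom.mem_ker, powMonoidHom_apply] at hu
      rw [MonoidHom.mem_ker, powMonoidHom_apply, ← map_pow, hu, map_one]
    · rw [Subgroup.card_map_of_injective hinj, IsCyclic.card_powMonoidHom_ker,
        IsCyclic.card_powMonoidHom_ker, hcardF, hcardF₀,
        Nat.gcd_eq_right (Dvd.intro _ rfl), hm, mul_assoc,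
        Nat.gcd_eq_right (Dvd.intro _ rfl)]
  rw [hZ]
  have hle1 : (powMonoidHom (q - 1) : Fˣ →* Fˣ).range.map (powMonoidHom n)
      ≤ (powMonoidHom (q - 1) : Fˣ →* Fˣ).range := by
    rintro _ ⟨_, ⟨x, rfl⟩, rfl⟩
    refine ⟨x ^ n, ?_⟩
    simp only [powMonoidHom_apply]
    rw [← pow_mul, ← pow_mul, mul_comm]
  have hle2 : (powMonoidHom (q₀ + 1) : Fˣ →* Fˣ).ker
      ≤ (powMonoidHom (q - 1) : Fˣ →* Fˣ).range := by
    rw [← hker]
    intro y hy
    rw [MonoidHom.mem_ker, powMonoidHom_apply] at hy ⊢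
    rw [hm, pow_mul, hy, one_pow]
  rw [← Subgroup.comap_sup_eq_of_le_range _ hle1 hle2, comap_pow_map hF]
  have hcomap : (powMonoidHom (q₀ + 1) : Fˣ →* Fˣ).ker.comap (powMonoidHom (q - 1) : Fˣ →* Fˣ)
      = (powMonoidHom ((q - 1) * (q₀ + 1)) : Fˣ →* Fˣ).ker := by
    ext y
    rw [Subgroup.mem_comap, MonoidHom.mem_ker, MonoidHom.mem_ker, powMonoidHom_apply,
      powMonoidHom_apply, powMonoidHom_apply, ← pow_mul]
  have hab : Fintype.card F - 1 = ((q - 1) * (q₀ + 1)) * m := by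
    rw [card_sub_one_eq' hF, hm]; ring
  rw [hcomap, ker_pow_eq_range_pow hab (Nat.mul_pos (by omega) (by omega)) hm0, range_pow_sup,
    Cfsg.Agent.Lib.Helper14_PSLSplitGraph.index_pow_range]
  have h1 : Nat.gcd (Nat.gcd n (q + 1)) m = Nat.gcd n m := by
    rw [Nat.gcd_assoc, Nat.gcd_eq_right (Dvd.intro_left _ hm.symm)]
  rw [h1]
  apply Nat.gcd_eq_left
  apply (Nat.gcd_dvd_right n m).trans
  rw [hab]
  exact Dvd.intro_left _ rfl

end basechange


/-! ### the main statement -/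

theorem pow_pow_even {F₀ : Type*} [Field F₀] [Fintype F₀] {q₀ : ℕ}
    (hF₀ : Fintype.card F₀ = q₀ ^ 2) (x : F₀) (j : ℕ) : x ^ (q₀ ^ (2 * j)) = x := by
  induction j with
  | zero => simp
  | succ j ih =>
    have : q₀ ^ (2 * (j + 1)) = q₀ ^ (2 * j) * q₀ * q₀ := by ring
    rw [this, pow_mul, pow_mul, ih]
    exact pow_q_pow_q hF₀ x

theorem pow_pow_odd {F₀ : Type*} [Field F₀] [Fintype F₀] {q₀ : ℕ}
    (hF₀ : Fintype.card F₀ = q₀ ^ 2) (x : F₀) {r : ℕ} (hr : Odd r) : x ^ (q₀ ^ r) = x ^ q₀ := by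
  obtain ⟨j, rfl⟩ := hr
  rw [pow_succ, pow_mul, pow_pow_even hF₀]

/-- the centralizer and class-splitting statement for `PSU`, given the factorisation of
`Aut (PSU)` -/
theorem field_cent_main_u [Fintype F] {p f : ℕ} [hp : Fact p.Prime] (hq : q = p ^ f) (hf : 1 ≤ f)
    (hF : Fintype.card F = q ^ 2) (hn : 3 ≤ n) (hfac : Fac n F q)
    (x : MulAut (Cfsg.PSU n F q)) (hx : Cfsg.IsFieldAutClassPSU x) {r : ℕ} (hr : r.Prime)
    (hro : Odd r) (hxr : orderOf x = r) (F₀ : Type*) [Field F₀] [Fintype F₀]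
    (hF₀ : Fintype.card F₀ = p ^ (2 * (f / r))) :
    r ∣ f ∧
      Nonempty (↥(Cfsg.inndiagPSU n F q ⊓ Subgroup.centralizer {x}) ≃*
        Cfsg.PGU n F₀ (p ^ (f / r))) ∧
      Cfsg.splitClassCount (Cfsg.inndiagPSU n F q) (Cfsg.Inn (Cfsg.PSU n F q)) x =
        Nat.gcd n ((q + 1) / (p ^ (f / r) + 1)) := by
  have hN : (Cfsg.inndiagPSU n F q).Normal := inndiagPSU_normal hfac
  obtain ⟨α, φ, σ, hσ, hodd, hstd, hαx⟩ := hx
  have hx' : α * x * α⁻¹ = fieldU σ := by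
    rw [hαx]; exact (isFieldAutPSUOf_iff σ φ).mp hstd
  have hord : orderOf σ = r := by
    rw [← orderOf_fieldU hF hn σ, ← hx', ← MulAut.conj_apply, MulEquiv.orderOf_eq]
    exact hxr
  have hr0 : 0 < r := hr.pos
  have hF' : Fintype.card F = p ^ (2 * f) := by
    rw [hF, hq, ← pow_mul, mul_comm]
  obtain ⟨hr2f, -⟩ := Cfsg.Agent.Lib.Helper44_FixField.card_fixField σ hF' hord
  have hrf : r ∣ f := by
    have hcop : Nat.Coprime r 2 := (Nat.coprime_primes hr Nat.prime_two).mpr (by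
      rintro rfl
      exact absurd hro (by decide))
    exact hcop.dvd_of_dvd_mul_left hr2f
  have hdiv : 2 * f / r = 2 * (f / r) := Nat.mul_div_assoc 2 hrf
  have hF₀' : Fintype.card F₀ = p ^ (2 * f / r) := by rw [hdiv]; exact hF₀
  obtain ⟨ι, hι⟩ := Cfsg.Agent.Lib.Helper44_FixField.exists_embedding σ hF' hord F₀ hF₀'
  have hF₀q : Fintype.card F₀ = (p ^ (f / r)) ^ 2 := by
    rw [hF₀, ← pow_mul, mul_comm]
  have hqq : q = (p ^ (f / r)) ^ r := by
    rw [hq, ← pow_mul, Nat.div_mul_cancel hrf]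
  have hιq : ∀ y : F₀, ι (y ^ (p ^ (f / r))) = (ι y) ^ q := by
    intro y
    rw [← map_pow, hqq, pow_pow_odd hF₀q y hro]
  refine ⟨hrf, ?_, ?_⟩
  · obtain ⟨e⟩ := nonempty_centEquiv_u hF hF₀q σ ι hι hιq hn hr0 hord
    have e1 := centConjEquiv (Cfsg.inndiagPSU n F q) α x
    rw [hx'] at e1
    exact ⟨e1.trans e⟩
  · rw [← splitClassCount_conj (Cfsg.inndiagPSU n F q) _ α x, hx',
      splitClassCountU_eq hF hn (tauQ hF) (tauQ_apply hF),
      sup_map_detU_cent hF hF₀q σ ι hι hιq hn hr0 hord, index_count hF hF₀q ι hro hqq]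

end Cfsg.Agent.Lib.Helper44_PSUFieldCent
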