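import Mathlib
import Cfsg.Agent.Lib.Helper44_PSpAlg

/-!
# Automorphisms of `PSp_{2m}(F)` preserving transvections are semilinear-induced (helper44)

A version of `Helper44_PSpAut.exists_semiAut` in which the hypothesis `(m, p) ≠ (2, 2)` is replaced
by the assumption that the automorphism preserves the set of projective transvections.
-/

set_option autoImplicit false
set_option linter.unusedSectionVars false
set_option linter.unusedVariables false
set_option linter.unusedSimpArgs false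

namespace Cfsg.Agent.Lib.Helper44_PSpAut2

open Matrix Cfsg.Agent.Lib.Helper13_Symp Cfsg.Agent.Lib.Helper13_SympTrans
  Cfsg.Agent.Lib.Helper5_PSpSimple Cfsg.Agent.Lib.Helper5_SpPerfect
  Cfsg.Agent.Lib.Helper44_SpUT Cfsg.Agent.Lib.Helper44_PSpTv
  Cfsg.Agent.Lib.Helper44_PSpGeom Cfsg.Agent.Lib.Helper44_PSpSemi Cfsg.Agent.Lib.Helper44_PSpAut
  Cfsg.Agent.Lib.Helper44_FTPG Cfsg.Agent.Lib.Helper44_PSpAlg

variable {F : Type*} [Field F] {m : ℕ}

/-- `α` preserves the set of projective transvections -/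
def PresTv (α : MulAut (Cfsg.PSp m F)) : Prop := ∀ t, IsTvP (α t) ↔ IsTvP t

theorem presTv_one : PresTv (1 : MulAut (Cfsg.PSp m F)) := fun _ => Iff.rfl

theorem PresTv.mul {α β : MulAut (Cfsg.PSp m F)} (hα : PresTv α) (hβ : PresTv β) :
    PresTv (α * β) := by
  intro t
  show IsTvP (α (β t)) ↔ IsTvP t
  rw [hα, hβ]

theorem PresTv.inv {α : MulAut (Cfsg.PSp m F)} (hα : PresTv α) : PresTv α⁻¹ := by
  intro t
  have h := hα (α⁻¹ t)
  have e : α (α⁻¹ t) = t := by simp
  rw [e] at h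
  exact h.symm

theorem PresTv.pow {α : MulAut (Cfsg.PSp m F)} (hα : PresTv α) (n : ℕ) : PresTv (α ^ n) := by
  induction n with
  | zero => rw [pow_zero]; exact presTv_one
  | succ n ih => rw [pow_succ]; exact ih.mul hα

theorem presTv_conj (s : Cfsg.PSp m F) : PresTv (MulAut.conj s) := by
  obtain ⟨g, rfl⟩ := pr_surjective s
  intro t
  constructor
  · intro h
    have := isTvP_conj h g⁻¹
    rw [MulAut.conj_apply, map_inv] at this
    have h3 : (pr g)⁻¹ * (pr g * t * (pr g)⁻¹) * (pr g)⁻¹⁻¹ = t := by group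
    rw [h3] at this
    exact this
  · intro h
    rw [MulAut.conj_apply]
    exact isTvP_conj h g

theorem presTv_of_ne {k : ℕ} [Fintype F] {p f : ℕ} [hp : Fact p.Prime] [CharP F p]
    (hF : Fintype.card F = p ^ f) (h4 : p = 2 → 1 ≤ k) (α : MulAut (Cfsg.PSp (k + 2) F)) :
    PresTv α := isTvP_map_iff hF h4 α

/-! ### the centre of the Sylow subgroup, general version -/

/-- a central element of `USp` whose image in `PSp` is a transvection is a standard transvection -/
theorem central_tv_of_isTvP {k : ℕ} {p : ℕ} [hp : Fact p.Prime] [CharP F p]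
    {z : symplecticGroup (Fin (k + 2)) F} (hz : z ∈ USp (k + 2) F)
    (hc : ∀ u ∈ USp (k + 2) F, u * z = z * u) (htv : IsTvP (pr z)) :
    ∃ c : F, z = transv (k + 2) (e0 k F) c := by
  obtain ⟨s0, t', h2t, hzX⟩ := central_form z hz hc
  have ht' : t' = 0 := by
    by_cases h2 : (2 : F) = 0
    · -- characteristic two: `z` itself is a transvection, of rank one
      obtain ⟨v, c, hv, hc0, hzv⟩ := htv
      rw [pr_eq_iff] at hzv
      have h1 := center_eq_bot_of_two (by omega) h2 hzv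
      have h3 : z = transv (k + 2) v c := inv_mul_eq_one.mp h1
      have h4 : (z : Matrix (Fin (k + 2) ⊕ Fin (k + 2)) (Fin (k + 2) ⊕ Fin (k + 2)) F) =
          Cfsg.sympTransvection (k + 2) v c := by rw [h3]; rfl
      rw [hzX] at h4
      -- the matrix `N = z - 1` has rank one
      set w := Matrix.J (Fin (k + 2)) F *ᵥ v with hw
      have hN : ∀ i j, Xmat (Matrix.single (0 : Fin (k + 2)) 0 s0 +
          (Matrix.single 0 1 t' + Matrix.single 1 0 t')) i j -
          (1 : Matrix (Fin (k + 2) ⊕ Fin (k + 2)) (Fin (k + 2) ⊕ Fin (k + 2)) F) i j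
            = c * (v i * w j) := by
        intro i j
        rw [h4]
        unfold Cfsg.sympTransvection
        rw [Matrix.add_apply, add_sub_cancel_left, Matrix.smul_apply, Matrix.vecMulVec_apply,
          smul_eq_mul]
      have h01 : (0 : Fin (k + 2)) ≠ 1 := by
        intro h
        have := congrArg Fin.val h
        simp at this
      have e1 : c * (v (Sum.inl 0) * w (Sum.inr 1)) = t' := by
        rw [← hN]; simp [Xmat, h01, h01.symm]
      have e2 : c * (v (Sum.inl 1) * w (Sum.inr 0)) = t' := by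
        rw [← hN]; simp [Xmat, h01, h01.symm]
      have e3 : c * (v (Sum.inl 1) * w (Sum.inr 1)) = 0 := by
        rw [← hN]; simp [Xmat, h01, h01.symm]
      -- `t' * t' = (c v₀ w₁)(c v₁ w₀) = (c v₁ w₁)(c v₀ w₀) = 0`
      have h5 : t' * t' = 0 := by
        calc t' * t' = (c * (v (Sum.inl 0) * w (Sum.inr 1))) *
              (c * (v (Sum.inl 1) * w (Sum.inr 0))) := by rw [e1, e2]
          _ = (c * (v (Sum.inl 1) * w (Sum.inr 1))) *
              (c * (v (Sum.inl 0) * w (Sum.inr 0))) := by ring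
          _ = 0 := by rw [e3, zero_mul]
      exact mul_self_eq_zero.mp h5
    · rcases mul_eq_zero.mp h2t with h | h
      · exact absurd h h2
      · exact h
  refine ⟨s0, ?_⟩
  rw [transv_e0]
  apply Subtype.ext
  show z.1 = Xmat _
  rw [hzX, ht']
  simp

theorem RS_UBar_gen {k : ℕ} {p : ℕ} [hp : Fact p.Prime] [CharP F p] :
    RS (UBar (k + 2) F) = (XP (e0 k F) : Set (Cfsg.PSp (k + 2) F)) := by
  ext s
  constructor
  · rintro ⟨hs, hc, htv⟩
    rcases htv with h | h
    · rw [h]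
      exact (XP (e0 k F)).one_mem
    · obtain ⟨z, hz, rfl⟩ := hs
      have hzc := central_lift hz hc
      obtain ⟨c, hzc'⟩ := central_tv_of_isTvP (p := p) hz hzc h
      exact mem_XP.mpr ⟨c, by rw [hzc']⟩
  · intro hs
    obtain ⟨c, rfl⟩ := mem_XP.mp hs
    refine ⟨⟨_, transv_e0_mem k c, rfl⟩, ?_, ?_⟩
    · rintro _ ⟨u, hu, rfl⟩
      show pr u * pr _ = pr _ * pr u
      rw [← map_mul, ← map_mul, transv_e0, Xg_single_central c u hu]
    · by_cases hc : c = 0
      · left
        rw [hc, transv_zero, map_one]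
      · right
        exact ⟨e0 k F, c, e0_ne_zero k, hc, rfl⟩


theorem RS_map_gen (α : MulAut (Cfsg.PSp m F)) (hα : PresTv α)
    (H : Subgroup (Cfsg.PSp m F)) :
    RS (H.map α.toMonoidHom) = α '' RS H := by
  ext s
  constructor
  · rintro ⟨⟨s0, hs0, rfl⟩, hc, htv⟩
    refine ⟨s0, ⟨hs0, ?_, ?_⟩, rfl⟩
    · intro y hy
      have := hc (α y) ⟨y, hy, rfl⟩
      apply α.injective
      rw [map_mul, map_mul]
      exact this
    · rcases htv with h | h
      · left
        apply α.injective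
        rw [map_one]
        exact h
      · right
        exact (hα s0).mp h
  · rintro ⟨s0, ⟨hs0, hc, htv⟩, rfl⟩
    refine ⟨⟨s0, hs0, rfl⟩, ?_, ?_⟩
    · rintro _ ⟨y, hy, rfl⟩
      show α y * α s0 = α s0 * α y
      rw [← map_mul, ← map_mul, hc y hy]
    · rcases htv with h | h
      · left
        rw [h, map_one]
      · right
        exact (hα s0).mpr h

/-- automorphisms preserving transvections permute the projective root subgroups -/
theorem map_XP_gen {k : ℕ} [Fintype F] {p f : ℕ} [hp : Fact p.Prime] [CharP F p]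
    (hF : Fintype.card F = p ^ f) (α : MulAut (Cfsg.PSp (k + 2) F)) (hα : PresTv α)
    (v : Fin (k + 2) ⊕ Fin (k + 2) → F) (hv : v ≠ 0) :
    ∃ v' : Fin (k + 2) ⊕ Fin (k + 2) → F, v' ≠ 0 ∧ (XP v).map α.toMonoidHom = XP v' := by
  classical
  have hfin : Finite (Cfsg.PSp (k + 2) F) := by
    haveI : Finite (symplecticGroup (Fin (k + 2)) F) := Subtype.finite
    exact Finite.of_surjective _ pr_surjective
  obtain ⟨S0, hS0⟩ := exists_sylow_PSp (m := k + 2) hF
  obtain ⟨A, _, hA⟩ := exists_transv_map (k + 2) (e0 k F) v (e0_ne_zero k) hv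
  set β : MulAut (Cfsg.PSp (k + 2) F) := α * MulAut.conj (pr A) with hβ
  have hβtv : PresTv β := hα.mul (presTv_conj _)
  obtain ⟨y, hy⟩ := @MulAction.exists_smul_eq (Cfsg.PSp (k + 2) F) (Sylow p (Cfsg.PSp (k + 2) F)) _
    Sylow.isPretransitive_of_finite S0 (β • S0)
  obtain ⟨h, rfl⟩ := pr_surjective y
  have hmapeq : (UBar (k + 2) F).map (MulAut.conj (pr h)).toMonoidHom =
      (UBar (k + 2) F).map β.toMonoidHom := by
    have h1 := congrArg (fun P : Sylow p (Cfsg.PSp (k + 2) F) => (P : Subgroup (Cfsg.PSp (k + 2) F))) hy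
    simp only [Sylow.coe_subgroup_smul, Sylow.pointwise_smul_def, hS0] at h1
    rw [smul_eq_map, smul_eq_map] at h1
    exact h1
  refine ⟨h.1 *ᵥ e0 k F, mulVec_ne_zero _ h (e0_ne_zero k), ?_⟩
  apply SetLike.coe_injective
  rw [← hA, XP_conj A, Subgroup.map_map, XP_conj h]
  have e1 : α.toMonoidHom.comp (MulAut.conj (pr A)).toMonoidHom = β.toMonoidHom := rfl
  rw [e1, Subgroup.coe_map, Subgroup.coe_map, ← RS_UBar_gen (p := p)]
  have e2 : (β.toMonoidHom : Cfsg.PSp (k + 2) F → Cfsg.PSp (k + 2) F) = β := rfl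
  have e3 : ((MulAut.conj (pr h)).toMonoidHom : Cfsg.PSp (k + 2) F → Cfsg.PSp (k + 2) F) =
      MulAut.conj (pr h) := rfl
  rw [e2, e3, ← RS_map_gen _ hβtv, ← RS_map_gen _ (presTv_conj _), hmapeq]

theorem exists_pointMap_gen {k : ℕ} [Fintype F] {p f : ℕ} [hp : Fact p.Prime] [CharP F p]
    (hF : Fintype.card F = p ^ f) (α : MulAut (Cfsg.PSp (k + 2) F)) (hα : PresTv α) :
    ∃ φ : (Fin (k + 2) ⊕ Fin (k + 2) → F) → (Fin (k + 2) ⊕ Fin (k + 2) → F),
      ∀ v, v ≠ 0 → φ v ≠ 0 ∧ (XP v).map α.toMonoidHom = XP (φ v) := by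
  classical
  refine ⟨fun v => if hv : v = 0 then 0 else Classical.choose (map_XP_gen hF α hα v hv), ?_⟩
  intro v hv
  simp only [hv, dite_false]
  exact Classical.choose_spec (map_XP_gen hF α hα v hv)

theorem pointMap_coll_gen {k : ℕ} [Fintype F] {p f : ℕ} [hp : Fact p.Prime] [CharP F p]
    (hF : Fintype.card F = p ^ f) (α : MulAut (Cfsg.PSp (k + 2) F)) (hα : PresTv α)
    (φ : (Fin (k + 2) ⊕ Fin (k + 2) → F) → (Fin (k + 2) ⊕ Fin (k + 2) → F))
    (hφ : ∀ v, v ≠ 0 → φ v ≠ 0 ∧ (XP v).map α.toMonoidHom = XP (φ v)) : Coll φ := by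
  have hm : 2 ≤ k + 2 := by omega
  have hperp : ∀ a b, a ≠ 0 → b ≠ 0 →
      (Cfsg.sympForm (k + 2) F (φ a) (φ b) = 0 ↔ Cfsg.sympForm (k + 2) F a b = 0) := by
    intro a b ha hb
    rw [← comm_XP_iff hm (hφ a ha).1 (hφ b hb).1, ← comm_XP_iff hm ha hb, ← (hφ a ha).2,
      ← (hφ b hb).2, Comm_map]
  have hsurj : ∀ w, w ≠ 0 → ∃ v, v ≠ 0 ∧ Sim (φ v) w := by
    intro w hw
    obtain ⟨v', hv', hv'eq⟩ := map_XP_gen hF α⁻¹ hα.inv w hw
    refine ⟨v', hv', ?_⟩
    have h1 : (XP v').map α.toMonoidHom = XP w := by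
      rw [← hv'eq, Subgroup.map_map]
      have : α.toMonoidHom.comp (α⁻¹).toMonoidHom = MonoidHom.id _ := by
        ext x
        show α (α⁻¹ x) = x
        simp
      rw [this, Subgroup.map_id]
    rw [(hφ v' hv').2] at h1
    obtain ⟨d, hd, hdw⟩ := (XP_eq_iff hm (hφ v' hv').1 hw).mp h1
    refine ⟨d⁻¹, inv_ne_zero hd, ?_⟩
    rw [hdw, smul_smul, inv_mul_cancel₀ hd, one_smul]
  refine ⟨fun v hv => (hφ v hv).1, hsurj, ?_⟩
  intro u v w hu hv hw
  rw [mem_span_pair_iff_perp, mem_span_pair_iff_perp]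
  constructor
  · intro h y hyv hyw
    by_cases hy : y = 0
    · rw [hy, sympForm_zero_left]
    · obtain ⟨x, hx, c, hc, hcy⟩ := hsurj y hy
      rw [hcy, sympForm_smul_left] at hyv hyw ⊢
      have h1 : Cfsg.sympForm (k + 2) F (φ x) (φ v) = 0 :=
        (mul_eq_zero.mp hyv).resolve_left hc
      have h2 : Cfsg.sympForm (k + 2) F (φ x) (φ w) = 0 :=
        (mul_eq_zero.mp hyw).resolve_left hc
      have h3 := h x ((hperp x v hx hv).mp h1) ((hperp x w hx hw).mp h2)
      rw [(hperp x u hx hu).mpr h3, mul_zero]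
  · intro h x hxv hxw
    by_cases hx : x = 0
    · rw [hx, sympForm_zero_left]
    · have h3 := h (φ x) ((hperp x v hx hv).mpr hxv) ((hperp x w hx hw).mpr hxw)
      exact (hperp x u hx hu).mp h3

/-- every automorphism of `PSp_{2m}(F)` preserving the projective transvections is induced by a
semilinear conformal symplectic map -/
theorem exists_semiAut_gen {k : ℕ} [Fintype F] {p f : ℕ} [hp : Fact p.Prime] [CharP F p]
    (hF : Fintype.card F = p ^ f) (α : MulAut (Cfsg.PSp (k + 2) F)) (hα : PresTv α) :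
    ∃ (g : GL (Fin (k + 2) ⊕ Fin (k + 2)) F) (hg : g ∈ Cfsg.GSp (k + 2) F) (σ : F ≃+* F),
      α = semiAut g hg σ := by
  classical
  have hm : 2 ≤ k + 2 := by omega
  obtain ⟨φ, hφ⟩ := exists_pointMap_gen hF α hα
  have hcoll := pointMap_coll_gen hF α hα φ hφ
  have h3 : 3 ≤ Fintype.card (Fin (k + 2) ⊕ Fin (k + 2)) := by
    rw [Fintype.card_sum, Fintype.card_fin]; omega
  obtain ⟨g, σ, hgσ⟩ := ftpg hcoll h3
  have hperp : ∀ a b, a ≠ 0 → b ≠ 0 →
      (Cfsg.sympForm (k + 2) F (φ a) (φ b) = 0 ↔ Cfsg.sympForm (k + 2) F a b = 0) := by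
    intro a b ha hb
    rw [← comm_XP_iff hm (hφ a ha).1 (hφ b hb).1, ← comm_XP_iff hm ha hb, ← (hφ a ha).2,
      ← (hφ b hb).2, Comm_map]
  have hperp2 : ∀ u v, Cfsg.sympForm (k + 2) F u v = 0 →
      Cfsg.sympForm (k + 2) F (g.1 *ᵥ u) (g.1 *ᵥ v) = 0 := by
    intro u v huv
    by_cases hu : u = 0
    · rw [hu, Matrix.mulVec_zero, sympForm_zero_left]
    by_cases hv : v = 0
    · rw [hv, Matrix.mulVec_zero, sympForm_zero_right]
    have hua : (fun i => σ (σ.symm (u i))) = u := by ext i; simp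
    have hvb : (fun i => σ (σ.symm (v i))) = v := by ext i; simp
    have ha : (fun i => σ.symm (u i)) ≠ 0 := by
      intro h0
      apply hu
      rw [← hua]
      ext i
      have := congrFun h0 i
      simp only [Pi.zero_apply] at this ⊢
      rw [this, map_zero]
    have hb : (fun i => σ.symm (v i)) ≠ 0 := by
      intro h0
      apply hv
      rw [← hvb]
      ext i
      have := congrFun h0 i
      simp only [Pi.zero_apply] at this ⊢
      rw [this, map_zero]
    have hab : Cfsg.sympForm (k + 2) F (fun i => σ.symm (u i)) (fun i => σ.symm (v i)) = 0 := by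
      have := sympForm_map σ (fun i => σ.symm (u i)) (fun i => σ.symm (v i))
      rw [hua, hvb, huv] at this
      exact (map_eq_zero_iff σ σ.injective).mp this.symm
    obtain ⟨c1, hc1, e1⟩ := hgσ _ ha
    obtain ⟨c2, hc2, e2⟩ := hgσ _ hb
    have h5 := (hperp _ _ ha hb).mpr hab
    rw [e1, e2, hua, hvb, sympForm_smul_left, sympForm_smul_right] at h5
    exact (mul_eq_zero.mp ((mul_eq_zero.mp h5).resolve_left hc1)).resolve_left hc2
  obtain ⟨c, hc⟩ := conformal_of_perp g.1 hperp2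
  have hgg : ∀ x : Fin (k + 2) ⊕ Fin (k + 2) → F,
      g.1 *ᵥ ((g⁻¹ : GL (Fin (k + 2) ⊕ Fin (k + 2)) F).1 *ᵥ x) = x := by
    intro x
    rw [Matrix.mulVec_mulVec, ← Units.val_mul, mul_inv_cancel, Units.val_one, Matrix.one_mulVec]
  have hc0 : c ≠ 0 := by
    rintro rfl
    obtain ⟨w, hw⟩ := exists_sympForm_ne_zero (k + 2) (e0_ne_zero (F := F) k)
    apply hw
    have := hc ((g⁻¹ : GL (Fin (k + 2) ⊕ Fin (k + 2)) F).1 *ᵥ e0 k F)
      ((g⁻¹ : GL (Fin (k + 2) ⊕ Fin (k + 2)) F).1 *ᵥ w)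
    rw [zero_mul, hgg, hgg] at this
    exact this
  have hg : g ∈ Cfsg.GSp (k + 2) F := mem_GSp_iff.mpr ⟨Units.mk0 c hc0, hc⟩
  refine ⟨g, hg, σ, ?_⟩
  have hfix : ∀ v : Fin (k + 2) ⊕ Fin (k + 2) → F, v ≠ 0 →
      (XP v).map ((semiAut g hg σ)⁻¹ * α).toMonoidHom = XP v := by
    intro v hv
    have h1 : (XP v).map α.toMonoidHom = (XP v).map (semiAut g hg σ).toMonoidHom := by
      rw [(hφ v hv).2, semiAut_XP]
      obtain ⟨c1, hc1, e1⟩ := hgσ v hv
      rw [e1, XP_smul c1 hc1]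
    calc (XP v).map ((semiAut g hg σ)⁻¹ * α).toMonoidHom
        = ((XP v).map α.toMonoidHom).map ((semiAut g hg σ)⁻¹).toMonoidHom := by
          rw [Subgroup.map_map]; rfl
      _ = ((XP v).map (semiAut g hg σ).toMonoidHom).map ((semiAut g hg σ)⁻¹).toMonoidHom := by
          rw [h1]
      _ = XP v := by
          rw [Subgroup.map_map]
          have : ((semiAut g hg σ)⁻¹).toMonoidHom.comp (semiAut g hg σ).toMonoidHom =
              MonoidHom.id _ := by
            ext x
            show (semiAut g hg σ)⁻¹ (semiAut g hg σ x) = x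
            simp
          rw [this, Subgroup.map_id]
  have := eq_one_of_fix_XP hm _ hfix
  exact (inv_mul_eq_one.mp this).symm

/-- the same, in terms of `cAut` and `fAut` -/
theorem exists_cAut_fAut_of_presTv [Fintype F] {p f : ℕ} [hp : Fact p.Prime] [CharP F p]
    (hF : Fintype.card F = p ^ f) (hm : 2 ≤ m) (α : MulAut (Cfsg.PSp m F)) (hα : PresTv α) :
    ∃ (g : ↥(Cfsg.GSp m F)) (σ : F ≃+* F), α = cAut g * fAut σ := by
  obtain ⟨k, rfl⟩ : ∃ k, m = k + 2 := ⟨m - 2, by omega⟩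
  obtain ⟨g, hg, σ, rfl⟩ := exists_semiAut_gen hF α hα
  exact ⟨⟨g, hg⟩, σ, semiAut_eq g hg σ⟩

end Cfsg.Agent.Lib.Helper44_PSpAut2
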