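import Mathlib
import Cfsg.Agent.Lib.Helper44_PSpLang
import Cfsg.Agent.Lib.Helper44_PSLnFieldCent

/-!
# Centralizers and class splitting of field automorphisms of `PSp_{2m}(F)` (helper44)
-/

set_option autoImplicit false
set_option linter.unusedSectionVars false
set_option linter.unusedVariables false
set_option linter.unusedSimpArgs false
set_option linter.style.haveILetI false

namespace Cfsg.Agent.Lib.Helper44_PSpFieldCent

open Matrix Cfsg.Agent.Lib.Helper13_Symp Cfsg.Agent.Lib.Helper13_SympTrans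
  Cfsg.Agent.Lib.Helper5_PSpSimple Cfsg.Agent.Lib.Helper44_PSpTv Cfsg.Agent.Lib.Helper44_PSpGeom
  Cfsg.Agent.Lib.Helper44_PSpSemi Cfsg.Agent.Lib.Helper44_PSpAut Cfsg.Agent.Lib.Helper44_H90
  Cfsg.Agent.Lib.Helper44_H90i Cfsg.Agent.Lib.Helper44_PSpAlg Cfsg.Agent.Lib.Helper44_PSpLang

open Cfsg.Agent.Lib.Helper44_PSLnFieldCent (fixU mem_fixU MM index_MM card_fixU
  isConjUnder_conj_iff splitClassCount_conj mem_centralizer_singleton centConjEquiv)

variable {F : Type*} [Field F] {m : ℕ}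

/-! ### subfield matrices -/

section embed

variable {F₀ : Type*} [Field F₀] (σ : F ≃+* F) (ι : F₀ →+* F)
  (hι : ∀ a : F, σ a = a ↔ a ∈ Set.range ι)

theorem map_mem_GSp {k : GL (Fin m ⊕ Fin m) F₀} (hk : k ∈ Cfsg.GSp m F₀) :
    Matrix.GeneralLinearGroup.map ι k ∈ Cfsg.GSp m F := by
  rw [mem_GSp_iff_matrix] at hk ⊢
  obtain ⟨c, hc⟩ := hk
  refine ⟨Units.map (ι : F₀ →* F) c, ?_⟩
  show (k.1.map ι)ᵀ * J (Fin m) F * k.1.map ι = _
  have h1 := congrArg (fun M : Matrix (Fin m ⊕ Fin m) (Fin m ⊕ Fin m) F₀ => M.map ι) hc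
  simp only [Matrix.map_mul, Matrix.transpose_map, Matrix.map_J] at h1
  rw [h1]
  ext i j
  have := congrFun (congrFun (Matrix.map_J (Fin m) (R := F₀) (S := F) ι) i) j
  simp only [Matrix.map_apply, Matrix.smul_apply, smul_eq_mul, map_mul] at this ⊢
  rw [this]
  rfl

/-- base change `GSp(F₀) → GSp(F)` -/
def mapGSp : ↥(Cfsg.GSp m F₀) →* ↥(Cfsg.GSp m F) :=
  ((Matrix.GeneralLinearGroup.map ι).comp (Cfsg.GSp m F₀).subtype).codRestrict (Cfsg.GSp m F)
    (fun k => map_mem_GSp ι k.2)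

theorem mapGSp_coe (k : ↥(Cfsg.GSp m F₀)) :
    (mapGSp (F := F) ι k).1 = Matrix.GeneralLinearGroup.map ι k.1 := rfl

include hι in
theorem sigG_mapGSp (k : ↥(Cfsg.GSp m F₀)) : sigG σ (mapGSp (F := F) ι k) = mapGSp ι k := by
  apply Subtype.ext
  apply Units.ext
  show (k.1.1.map ι).map σ = k.1.1.map ι
  exact map_map_fixed σ ι hι _

include hι in
theorem exists_mapGL_of_fixed (g : GL (Fin m ⊕ Fin m) F) (h : mapGLi σ g = g) :
    ∃ k : GL (Fin m ⊕ Fin m) F₀, Matrix.GeneralLinearGroup.map ι k = g := by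
  have h0 : g.1.map σ = g.1 := congrArg Units.val h
  obtain ⟨M₀, hM₀⟩ := exists_map_of_fixedM σ ι hι g.1 h0
  have hdet : M₀.det ≠ 0 := by
    intro h0
    have h2 : ι M₀.det = g.1.det := by
      rw [RingHom.map_det, RingHom.mapMatrix_apply, hM₀]
    rw [h0, map_zero] at h2
    exact g.det_ne_zero h2.symm
  refine ⟨Matrix.GeneralLinearGroup.mkOfDetNeZero M₀ hdet, ?_⟩
  apply Units.ext
  exact hM₀

include hι in
theorem exists_mapGSp_of_fixed (hm : 1 ≤ m) (g : ↥(Cfsg.GSp m F)) (h : sigG σ g = g) :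
    ∃ k : ↥(Cfsg.GSp m F₀), mapGSp ι k = g := by
  have h0 : mapGLi σ g.1 = g.1 := congrArg Subtype.val h
  obtain ⟨k, hk⟩ := exists_mapGL_of_fixed σ ι hι g.1 h0
  have hkm : (k.1.map ι) = g.1.1 := congrArg Units.val hk
  -- the multiplier
  set N : Matrix (Fin m ⊕ Fin m) (Fin m ⊕ Fin m) F₀ := k.1ᵀ * J (Fin m) F₀ * k.1 with hN
  have hNmap : N.map ι = ((mult g : Fˣ) : F) • J (Fin m) F := by
    rw [hN, Matrix.map_mul, Matrix.map_mul, Matrix.transpose_map, Matrix.map_J, hkm]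
    exact mult_matrix g
  set c₀ : F₀ := - N (Sum.inl ⟨0, hm⟩) (Sum.inr ⟨0, hm⟩) with hc₀
  have hJ01 : J (Fin m) F (Sum.inl ⟨0, hm⟩) (Sum.inr ⟨0, hm⟩) = -1 := by
    simp [Matrix.J, Matrix.fromBlocks_apply₁₂]
  have hc₀' : ι c₀ = (mult g : F) := by
    have := congrFun (congrFun hNmap (Sum.inl ⟨0, hm⟩)) (Sum.inr ⟨0, hm⟩)
    rw [Matrix.map_apply, Matrix.smul_apply, hJ01, smul_eq_mul, mul_neg, mul_one] at this
    rw [hc₀, map_neg, this, neg_neg]
  have hc₀0 : c₀ ≠ 0 := by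
    intro h0
    rw [h0, map_zero] at hc₀'
    exact (mult g).ne_zero hc₀'.symm
  have hkmem : k ∈ Cfsg.GSp m F₀ := by
    rw [mem_GSp_iff_matrix]
    refine ⟨Units.mk0 c₀ hc₀0, ?_⟩
    rw [Units.val_mk0]
    ext i j
    apply ι.injective
    have h1 := congrFun (congrFun hNmap i) j
    have h2 := congrFun (congrFun (Matrix.map_J (Fin m) (R := F₀) (S := F) ι) i) j
    simp only [Matrix.map_apply, Matrix.smul_apply, smul_eq_mul] at h1 h2
    show ι (N i j) = ι ((c₀ • J (Fin m) F₀) i j)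
    rw [h1, Matrix.smul_apply, smul_eq_mul, map_mul, hc₀', h2]
  refine ⟨⟨k, hkmem⟩, ?_⟩
  apply Subtype.ext
  exact hk

end embed


/-! ### the centralizer of a standard field automorphism in the inner-diagonal group -/

theorem mapGLi_pow_of_scalar (σ : F ≃+* F) (g : GL (Fin m ⊕ Fin m) F) (c : Fˣ)
    (h : mapGLi σ g = Matrix.GeneralLinearGroup.scalar (Fin m ⊕ Fin m) c * g) (i : ℕ) :
    mapGLi (σ ^ i) g = Matrix.GeneralLinearGroup.scalar (Fin m ⊕ Fin m) (Nm σ i c) * g := by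
  induction i with
  | zero => rw [pow_zero, mapGLi_one, Nm_zero, map_one, one_mul]
  | succ i ih =>
    rw [pow_succ, mapGLi_mul, h, map_mul, ih, Matrix.GeneralLinearGroup.map_scalar, Nm_succ,
      ← mul_assoc, ← map_mul, mul_comm]
    rfl

/-- an inner-diagonal automorphism commuting with `fAut σ` comes from a `σ`-fixed matrix -/
theorem fixed_of_commute_sp (hm : 2 ≤ m) (σ : F ≃+* F) {r : ℕ} (hr : 0 < r)
    (hord : orderOf σ = r) (g : ↥(Cfsg.GSp m F))
    (h : (fAut σ * cAut g : MulAut (Cfsg.PSp m F)) = cAut g * fAut σ) :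
    ∃ b : Fˣ, sigG σ (scalarGSp b * g) = scalarGSp b * g := by
  have hm1 : 1 ≤ m := by omega
  have hσ : σ ^ r = 1 := by rw [← hord]; exact pow_orderOf_eq_one σ
  rw [fAut_mul_cAut] at h
  have h1 := mul_right_cancel h
  have h1' : cAut (g⁻¹ * sigG σ g) = 1 := by
    rw [map_mul, h1, map_inv, inv_mul_cancel]
  rw [cAut_eq_one_iff hm] at h1'
  obtain ⟨c, hc⟩ := exists_scalar_of_mem_scalars h1'
  have hc' : Matrix.GeneralLinearGroup.scalar (Fin m ⊕ Fin m) c = g.1⁻¹ * mapGLi σ g.1 := hc.symm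
  have h2 : mapGLi σ g.1 = Matrix.GeneralLinearGroup.scalar (Fin m ⊕ Fin m) c * g.1 := by
    rw [Matrix.GeneralLinearGroup.scalar_commute, hc', mul_inv_cancel_left]
  have h3 := mapGLi_pow_of_scalar σ g.1 c h2 r
  rw [hσ, mapGLi_one] at h3
  have h4 : Matrix.GeneralLinearGroup.scalar (Fin m ⊕ Fin m) (Nm σ r c)
      = Matrix.GeneralLinearGroup.scalar (Fin m ⊕ Fin m) 1 := by
    rw [map_one]
    exact (mul_eq_right.mp h3.symm)
  have h5 := scalarGL_injective hm1 h4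
  obtain ⟨b, hb⟩ := hilbert90_units σ hr hord c h5
  refine ⟨b, ?_⟩
  apply Subtype.ext
  show mapGLi σ (Matrix.GeneralLinearGroup.scalar (Fin m ⊕ Fin m) b * g.1) =
    Matrix.GeneralLinearGroup.scalar (Fin m ⊕ Fin m) b * g.1
  rw [map_mul, h2, Matrix.GeneralLinearGroup.map_scalar, ← mul_assoc, ← map_mul]
  congr 2
  rw [mul_comm]
  exact hb

section cent

variable {F₀ : Type*} [Field F₀] (σ : F ≃+* F) (ι : F₀ →+* F)
  (hι : ∀ a : F, σ a = a ↔ a ∈ Set.range ι)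

/-- the centralizer of `fAut σ` in the inner-diagonal group -/
abbrev CDsp (m : ℕ) (σ : F ≃+* F) : Subgroup (MulAut (Cfsg.PSp m F)) :=
  Cfsg.inndiagPSp m F ⊓ Subgroup.centralizer {fAut σ}

theorem mem_CDsp_iff (y : MulAut (Cfsg.PSp m F)) :
    y ∈ CDsp m σ ↔ y ∈ Cfsg.inndiagPSp m F ∧ fAut σ * y = y * fAut σ := by
  rw [Subgroup.mem_inf, Subgroup.mem_centralizer_iff]
  simp only [Set.mem_singleton_iff, forall_eq]

/-- subfield matrices acting on `PSp_{2m}(F)` -/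
def PhiSp : ↥(Cfsg.GSp m F₀) →* MulAut (Cfsg.PSp m F) := cAut.comp (mapGSp ι)

theorem PhiSp_apply (k : ↥(Cfsg.GSp m F₀)) : PhiSp (F := F) ι k = cAut (mapGSp ι k) := rfl

include hι in
theorem PhiSp_mem (k : ↥(Cfsg.GSp m F₀)) : PhiSp (F := F) ι k ∈ CDsp m σ := by
  rw [mem_CDsp_iff]
  refine ⟨?_, ?_⟩
  · rw [inndiagPSp_eq]
    exact ⟨_, rfl⟩
  · rw [PhiSp_apply, fAut_mul_cAut, sigG_mapGSp σ ι hι]

theorem PhiSp_ker (hm : 2 ≤ m) : (PhiSp (F := F) (m := m) ι).ker =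
    (Cfsg.Geo.scalars (Fin m ⊕ Fin m) F₀).subgroupOf (Cfsg.GSp m F₀) := by
  ext k
  rw [MonoidHom.mem_ker, PhiSp_apply, cAut_eq_one_iff hm, Subgroup.mem_subgroupOf,
    Cfsg.Geo.mem_scalars_iff, Cfsg.Geo.mem_scalars_iff]
  constructor
  · rintro ⟨c, hc⟩
    have hent : ∀ i j, ι (k.1.1 i j) = if i = j then (c : F) else 0 := by
      intro i j
      have := congrFun (congrFun hc i) j
      rw [Matrix.smul_apply, Matrix.one_apply, smul_eq_mul, mul_ite, mul_one, mul_zero] at this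
      exact this
    set i0 : Fin m ⊕ Fin m := Sum.inl ⟨0, by omega⟩ with hi0
    have hd : ι (k.1.1 i0 i0) = (c : F) := by rw [hent, if_pos rfl]
    have hd0 : k.1.1 i0 i0 ≠ 0 := by
      intro h0
      rw [h0, map_zero] at hd
      exact c.ne_zero hd.symm
    refine ⟨Units.mk0 _ hd0, ?_⟩
    ext i j
    rw [Matrix.smul_apply, Matrix.one_apply, smul_eq_mul, mul_ite, mul_one, mul_zero,
      Units.val_mk0]
    apply ι.injective
    rw [hent]
    by_cases hij : i = j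
    · rw [if_pos hij, if_pos hij, hd]
    · rw [if_neg hij, if_neg hij, map_zero]
  · rintro ⟨u, hu⟩
    refine ⟨Units.map (ι : F₀ →* F) u, ?_⟩
    show k.1.1.map ι = _
    rw [hu]
    ext i j
    simp only [Matrix.map_apply, Matrix.smul_apply, Matrix.one_apply, smul_eq_mul, map_mul]
    by_cases hij : i = j
    · simp [hij]
    · simp [hij]

include hι in
theorem PhiSp_range (hm : 2 ≤ m) {r : ℕ} (hr : 0 < r) (hord : orderOf σ = r)
    (y : MulAut (Cfsg.PSp m F)) (hy : y ∈ CDsp m σ) :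
    ∃ k : ↥(Cfsg.GSp m F₀), PhiSp (F := F) ι k = y := by
  rw [mem_CDsp_iff, inndiagPSp_eq] at hy
  obtain ⟨⟨g, rfl⟩, hcomm⟩ := hy
  obtain ⟨b, hb⟩ := fixed_of_commute_sp hm σ hr hord g hcomm
  obtain ⟨k, hk⟩ := exists_mapGSp_of_fixed σ ι hι (by omega) _ hb
  refine ⟨k, ?_⟩
  rw [PhiSp_apply, hk, map_mul, cAut_scalarGSp hm, one_mul]

include hι in
/-- `C_{Inndiag}(field automorphism) ≅ PGSp_{2m}(F₀)` -/
theorem nonempty_centEquiv_sp (hm : 2 ≤ m) {r : ℕ} (hr : 0 < r) (hord : orderOf σ = r) :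
    Nonempty (↥(CDsp m σ) ≃* Cfsg.PGSp m F₀) := by
  let Φ' : ↥(Cfsg.GSp m F₀) →* ↥(CDsp m σ) :=
    (PhiSp (F := F) ι).codRestrict (CDsp m σ) (PhiSp_mem σ ι hι)
  have hsurj : Function.Surjective Φ' := by
    rintro ⟨y, hy⟩
    obtain ⟨k, hk⟩ := PhiSp_range σ ι hι hm hr hord y hy
    exact ⟨k, Subtype.ext hk⟩
  have hker : Φ'.ker = (Cfsg.Geo.scalars (Fin m ⊕ Fin m) F₀).subgroupOf (Cfsg.GSp m F₀) := by
    rw [← PhiSp_ker (F := F) ι hm]
    ext k
    rw [MonoidHom.mem_ker, MonoidHom.mem_ker]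
    constructor
    · intro h
      exact congrArg Subtype.val h
    · intro h
      exact Subtype.ext h
  let e1 := QuotientGroup.quotientKerEquivOfSurjective Φ' hsurj
  let e2 := QuotientGroup.quotientMulEquivOfEq hker
  exact ⟨(e2.symm.trans e1).symm⟩

end cent


/-! ### splitting of the class of a field automorphism -/

theorem mult_mul (hm : 1 ≤ m) (a b : ↥(Cfsg.GSp m F)) : mult (a * b) = mult a * mult b :=
  map_mul (multHom hm) a b

theorem mult_inv (hm : 1 ≤ m) (a : ↥(Cfsg.GSp m F)) : mult a⁻¹ = (mult a)⁻¹ :=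
  map_inv (multHom hm) a

theorem mult_sigG (hm : 1 ≤ m) (σ : F ≃+* F) (g : ↥(Cfsg.GSp m F)) :
    mult (sigG σ g) = sigU σ (mult g) := by
  have h1 := mult_matrix (sigG σ g)
  have h2 := congrArg (fun M : Matrix (Fin m ⊕ Fin m) (Fin m ⊕ Fin m) F => M.map σ)
    (mult_matrix g)
  simp only [Matrix.map_mul, Matrix.transpose_map, Matrix.map_J] at h2
  have h3 : (sigG σ g).1.1 = g.1.1.map σ := rfl
  rw [h3, h2] at h1
  have hJ01 : J (Fin m) F (Sum.inl ⟨0, hm⟩) (Sum.inr ⟨0, hm⟩) = -1 := by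
    simp [Matrix.J, Matrix.fromBlocks_apply₁₂]
  have h4 := congrFun (congrFun h1 (Sum.inl ⟨0, hm⟩)) (Sum.inr ⟨0, hm⟩)
  rw [Matrix.map_apply, Matrix.smul_apply, Matrix.smul_apply, hJ01, smul_eq_mul, smul_eq_mul,
    mul_neg, mul_one, mul_neg, mul_one, map_neg, neg_inj] at h4
  apply Units.ext
  exact h4.symm

/-- the diagonal conformal symplectic matrix with multiplier `b` -/
def dG (b : Fˣ) : ↥(Cfsg.GSp m F) :=
  ⟨⟨Matrix.fromBlocks ((b : F) • (1 : Matrix (Fin m) (Fin m) F)) 0 0 1,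
    Matrix.fromBlocks (((b⁻¹ : Fˣ) : F) • (1 : Matrix (Fin m) (Fin m) F)) 0 0 1,
    by
      rw [Matrix.fromBlocks_multiply]
      simp [Matrix.fromBlocks_one],
    by
      rw [Matrix.fromBlocks_multiply]
      simp [Matrix.fromBlocks_one]⟩,
    mem_GSp_iff_matrix.mpr ⟨b, by
      show (Matrix.fromBlocks ((b : F) • (1 : Matrix (Fin m) (Fin m) F)) 0 0 1)ᵀ * J (Fin m) F *
        Matrix.fromBlocks ((b : F) • (1 : Matrix (Fin m) (Fin m) F)) 0 0 1 = (b : F) • J (Fin m) F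
      rw [Matrix.J, Matrix.fromBlocks_transpose, Matrix.fromBlocks_multiply,
        Matrix.fromBlocks_multiply, Matrix.fromBlocks_smul]
      simp⟩⟩

theorem dG_coe (b : Fˣ) : (dG (m := m) b).1.1 =
    Matrix.fromBlocks ((b : F) • (1 : Matrix (Fin m) (Fin m) F)) 0 0 1 := rfl

theorem mult_dG (hm : 1 ≤ m) (b : Fˣ) : mult (dG (m := m) b) = b := by
  have h1 := mult_matrix (dG (m := m) b)
  have h2 : (dG (m := m) b).1.1ᵀ * J (Fin m) F * (dG (m := m) b).1.1 = (b : F) • J (Fin m) F := by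
    rw [dG_coe, Matrix.J, Matrix.fromBlocks_transpose, Matrix.fromBlocks_multiply,
      Matrix.fromBlocks_multiply, Matrix.fromBlocks_smul]
    simp
  rw [h2] at h1
  have hJ01 : J (Fin m) F (Sum.inl ⟨0, hm⟩) (Sum.inr ⟨0, hm⟩) = -1 := by
    simp [Matrix.J, Matrix.fromBlocks_apply₁₂]
  have h4 := congrFun (congrFun h1 (Sum.inl ⟨0, hm⟩)) (Sum.inr ⟨0, hm⟩)
  rw [Matrix.smul_apply, Matrix.smul_apply, hJ01, smul_eq_mul, smul_eq_mul,
    mul_neg, mul_one, mul_neg, mul_one, neg_inj] at h4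
  apply Units.ext
  exact h4.symm

theorem sigG_dG (σ : F ≃+* F) (b : Fˣ) (hb : b ∈ fixU σ) : sigG σ (dG (m := m) b) = dG b := by
  apply Subtype.ext
  apply Units.ext
  show (dG (m := m) b).1.1.map σ = (dG (m := m) b).1.1
  rw [dG_coe, Matrix.fromBlocks_map]
  have hb' : σ (b : F) = (b : F) := congrArg Units.val ((mem_fixU σ b).mp hb)
  congr 1
  · ext i j
    simp only [Matrix.map_apply, Matrix.smul_apply, Matrix.one_apply, smul_eq_mul, map_mul]
    by_cases hij : i = j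
    · simp [hij, hb']
    · simp [hij]
  · ext i j; simp
  · ext i j; simp
  · ext i j
    simp only [Matrix.map_apply, Matrix.one_apply]
    by_cases hij : i = j
    · simp [hij]
    · simp [hij]

theorem commute_dG (σ : F ≃+* F) (b : Fˣ) (hb : b ∈ fixU σ) :
    (fAut σ * cAut (dG (m := m) b) : MulAut (Cfsg.PSp m F)) = cAut (dG b) * fAut σ := by
  rw [fAut_mul_cAut, sigG_dG σ b hb]

theorem mult_mem_MM_of_commute (hm : 2 ≤ m) (σ : F ≃+* F) {r : ℕ} (hr : 0 < r)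
    (hord : orderOf σ = r) (t : ↥(Cfsg.GSp m F))
    (h : (fAut σ * cAut t : MulAut (Cfsg.PSp m F)) = cAut t * fAut σ) :
    mult t ∈ MM 2 σ := by
  have hm1 : 1 ≤ m := by omega
  obtain ⟨b, hb⟩ := fixed_of_commute_sp hm σ hr hord t h
  have h1 := congrArg mult hb
  rw [mult_sigG hm1] at h1
  have h2 : mult (scalarGSp b * t) = b ^ 2 * mult t := by
    rw [mult_mul hm1, mult_scalarGSp hm1, pow_two]
  rw [h2] at h1
  have h3 : mult t = (b⁻¹) ^ 2 * (b ^ 2 * mult t) := by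
    rw [← mul_assoc, ← mul_pow, inv_mul_cancel, one_pow, one_mul]
  rw [h3]
  exact Subgroup.mul_mem_sup ⟨b⁻¹, rfl⟩ h1

/-- when two `Inndiag`-conjugates of `fAut σ` are conjugate under `Inn` -/
theorem cls_iff_sp (hm : 2 ≤ m) (σ : F ≃+* F) {r : ℕ} (hr : 0 < r) (hord : orderOf σ = r)
    (g g' : ↥(Cfsg.GSp m F)) :
    Cfsg.IsConjUnder (Cfsg.Inn (Cfsg.PSp m F)) (cAut g * fAut σ * (cAut g)⁻¹)
        (cAut g' * fAut σ * (cAut g')⁻¹)
      ↔ (mult g')⁻¹ * mult g ∈ MM 2 σ := by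
  have hm1 : 1 ≤ m := by omega
  constructor
  · rintro ⟨k, ⟨z, rfl⟩, hk⟩
    obtain ⟨s, rfl⟩ := pr_surjective z
    rw [← cAut_spToGSp] at hk
    set t : ↥(Cfsg.GSp m F) := g'⁻¹ * spToGSp s * g with ht
    have hcomm : (fAut σ * cAut t : MulAut (Cfsg.PSp m F)) = cAut t * fAut σ := by
      rw [ht, map_mul, map_mul, map_inv]
      set a := (cAut g : MulAut (Cfsg.PSp m F))
      set a' := (cAut g' : MulAut (Cfsg.PSp m F))
      set k := (cAut (spToGSp s) : MulAut (Cfsg.PSp m F))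
      set x' := (fAut σ : MulAut (Cfsg.PSp m F))
      symm
      calc a'⁻¹ * k * a * x' = a'⁻¹ * (k * (a * x' * a⁻¹) * k⁻¹) * (k * a) := by group
        _ = a'⁻¹ * (a' * x' * a'⁻¹) * (k * a) := by rw [hk]
        _ = x' * (a'⁻¹ * k * a) := by group
    have h1 := mult_mem_MM_of_commute hm σ hr hord t hcomm
    have h2 : mult t = (mult g')⁻¹ * mult g := by
      rw [ht, mult_mul hm1, mult_mul hm1, mult_inv hm1, mult_spToGSp hm1, mul_one]
    rw [← h2]
    exact h1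
  · intro h
    obtain ⟨_, ⟨a, rfl⟩, b, hb, hab⟩ := Subgroup.mem_sup.mp h
    rw [powMonoidHom_apply] at hab
    set u : ↥(Cfsg.GSp m F) := g' * dG b * g⁻¹ * scalarGSp a with hu
    have hmu : mult u = 1 := by
      rw [hu, mult_mul hm1, mult_mul hm1, mult_mul hm1, mult_inv hm1, mult_dG hm1,
        mult_scalarGSp hm1]
      have h3 : mult g = mult g' * (a ^ 2 * b) := by
        rw [hab, mul_inv_cancel_left]
      rw [h3, pow_two]
      have : mult g' * b * (mult g' * (a * a * b))⁻¹ * (a * a) = 1 := by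
        rw [_root_.mul_inv_rev, _root_.mul_inv_rev]
        calc mult g' * b * (b⁻¹ * (a * a)⁻¹ * (mult g')⁻¹) * (a * a)
            = (mult g' * (mult g')⁻¹) * (b * b⁻¹) * ((a * a)⁻¹ * (a * a)) := by
              simp only [mul_comm, mul_left_comm, mul_assoc]
          _ = 1 := by rw [mul_inv_cancel, mul_inv_cancel, inv_mul_cancel, one_mul, one_mul]
      exact this
    obtain ⟨s, hs⟩ := exists_sp_of_mult_eq_one u hmu
    refine ⟨MulAut.conj (pr s), ⟨_, rfl⟩, ?_⟩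
    rw [← cAut_spToGSp, hs, hu, map_mul, map_mul, map_mul, map_inv, cAut_scalarGSp hm, mul_one]
    have hc := commute_dG (m := m) σ b hb
    set a1 := (cAut g : MulAut (Cfsg.PSp m F))
    set a' := (cAut g' : MulAut (Cfsg.PSp m F))
    set d := (cAut (dG b) : MulAut (Cfsg.PSp m F))
    set x' := (fAut σ : MulAut (Cfsg.PSp m F))
    symm
    calc a' * d * a1⁻¹ * (a1 * x' * a1⁻¹) * (a' * d * a1⁻¹)⁻¹
        = a' * (d * x') * d⁻¹ * a'⁻¹ := by group
      _ = a' * (x' * d) * d⁻¹ * a'⁻¹ := by rw [hc]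
      _ = a' * x' * a'⁻¹ := by group

/-- the class of a standard field automorphism splits into `[Fˣ : MM 2 σ]` classes -/
theorem splitClassCount_std_sp (hm : 2 ≤ m) (σ : F ≃+* F) {r : ℕ} (hr : 0 < r)
    (hord : orderOf σ = r) :
    Cfsg.splitClassCount (Cfsg.inndiagPSp m F) (Cfsg.Inn (Cfsg.PSp m F)) (fAut σ)
      = (MM 2 σ).index := by
  classical
  have hm1 : 1 ≤ m := by omega
  unfold Cfsg.splitClassCount
  have hex : ∀ y : {y : MulAut (Cfsg.PSp m F) //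
      Cfsg.IsConjUnder (Cfsg.inndiagPSp m F) (fAut σ) y},
      ∃ g : ↥(Cfsg.GSp m F), y.1 = cAut g * fAut σ * (cAut g)⁻¹ := by
    rintro ⟨y, h, hh, hy⟩
    rw [inndiagPSp_eq] at hh
    obtain ⟨g, rfl⟩ := hh
    exact ⟨g, hy⟩
  choose gy hgy using hex
  let f : {y : MulAut (Cfsg.PSp m F) // Cfsg.IsConjUnder (Cfsg.inndiagPSp m F) (fAut σ) y} →
      Fˣ ⧸ MM 2 σ := fun y => QuotientGroup.mk (mult (gy y))
  have hf : ∀ y z, f y = f z ↔ Cfsg.IsConjUnder (Cfsg.Inn (Cfsg.PSp m F)) y.1 z.1 := by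
    intro y z
    show (QuotientGroup.mk (mult (gy y)) : Fˣ ⧸ MM 2 σ) = QuotientGroup.mk (mult (gy z)) ↔ _
    rw [QuotientGroup.eq, hgy y, hgy z, cls_iff_sp hm σ hr hord, ← inv_mem_iff (x := _ * _),
      _root_.mul_inv_rev, inv_inv, mul_comm]
  let fq : Quot (fun y z : {y : MulAut (Cfsg.PSp m F) //
      Cfsg.IsConjUnder (Cfsg.inndiagPSp m F) (fAut σ) y} =>
      Cfsg.IsConjUnder (Cfsg.Inn (Cfsg.PSp m F)) y.1 z.1) → Fˣ ⧸ MM 2 σ :=
    Quot.lift f (fun y z h => (hf y z).mpr h)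
  have hinj : Function.Injective fq := by
    intro a b
    induction a using Quot.ind with
    | mk y =>
      induction b using Quot.ind with
      | mk z =>
        intro h
        exact Quot.sound ((hf y z).mp h)
  have hsurj : Function.Surjective fq := by
    intro q
    obtain ⟨c, rfl⟩ := QuotientGroup.mk_surjective q
    let y : {y : MulAut (Cfsg.PSp m F) // Cfsg.IsConjUnder (Cfsg.inndiagPSp m F) (fAut σ) y} :=
      ⟨cAut (dG c) * fAut σ * (cAut (dG c))⁻¹, cAut (dG c), by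
        rw [inndiagPSp_eq]; exact ⟨_, rfl⟩, rfl⟩
    refine ⟨Quot.mk _ y, ?_⟩
    show (QuotientGroup.mk (mult (gy y)) : Fˣ ⧸ MM 2 σ) = QuotientGroup.mk c
    rw [QuotientGroup.eq, ← mult_dG hm1 c]
    have h1 : Cfsg.IsConjUnder (Cfsg.Inn (Cfsg.PSp m F))
        (cAut (gy y) * fAut σ * (cAut (gy y))⁻¹)
        (cAut (dG c) * fAut σ * (cAut (dG c))⁻¹) := by
      refine ⟨1, Subgroup.one_mem _, ?_⟩
      rw [one_mul, inv_one, mul_one]
      exact hgy y
    rw [cls_iff_sp hm σ hr hord] at h1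
    rw [← inv_mem_iff, _root_.mul_inv_rev, inv_inv]
    exact h1
  rw [Nat.card_congr (Equiv.ofBijective fq ⟨hinj, hsurj⟩)]
  rfl


/-! ### the number of classes -/

theorem gcd_two_of_even {n : ℕ} (h : n % 2 = 0) : Nat.gcd 2 n = 2 :=
  Nat.gcd_eq_left (Nat.dvd_of_mod_eq_zero h)

theorem gcd_two_of_odd {n : ℕ} (h : n % 2 = 1) : Nat.gcd 2 n = 1 := by
  have : Nat.Coprime 2 n := Nat.coprime_two_left.mpr (Nat.odd_iff.mpr h)
  exact this

theorem geom_parity_odd (q : ℕ) (hq : q % 2 = 1) (r : ℕ) :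
    (∑ i ∈ Finset.range r, q ^ i) % 2 = r % 2 := by
  induction r with
  | zero => simp
  | succ r ih =>
    rw [Finset.sum_range_succ]
    have h1 : q ^ r % 2 = 1 := by
      rw [Nat.pow_mod, hq, one_pow]; rfl
    omega

theorem geom_parity_even (q : ℕ) (hq : q % 2 = 0) (r : ℕ) (hr : 0 < r) :
    (∑ i ∈ Finset.range r, q ^ i) % 2 = 1 := by
  obtain ⟨r', rfl⟩ : ∃ r', r = r' + 1 := ⟨r - 1, by omega⟩
  rw [Finset.sum_range_succ', pow_zero]
  have h1 : (∑ i ∈ Finset.range r', q ^ (i + 1)) % 2 = 0 := by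
    apply Nat.mod_eq_zero_of_dvd
    apply Finset.dvd_sum
    intro i _
    rw [pow_succ]
    exact Dvd.dvd.mul_left (Nat.dvd_of_mod_eq_zero hq) _
  omega

theorem gcd_formula {p f r : ℕ} (hp : p.Prime) (hr : r.Prime) (hrf : r ∣ f) (hf : 1 ≤ f) :
    Nat.gcd 2 ((p ^ f - 1) / (p ^ (f / r) - 1)) = Nat.gcd (Nat.gcd 2 (p ^ f - 1)) r := by
  obtain ⟨e, rfl⟩ := hrf
  have hr0 : 0 < r := hr.pos
  have he : 1 ≤ e := by
    rcases Nat.eq_zero_or_pos e with h | h
    · rw [h, mul_zero] at hf; omega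
    · exact h
  rw [Nat.mul_div_cancel_left e hr0]
  have hq2 : 2 ≤ p ^ e := by
    calc 2 ≤ p := hp.two_le
      _ = p ^ 1 := (pow_one p).symm
      _ ≤ p ^ e := Nat.pow_le_pow_right hp.pos he
  have hpow : p ^ (r * e) = (p ^ e) ^ r := by rw [mul_comm, pow_mul]
  rw [hpow, ← Nat.geomSum_eq hq2 r]
  rcases hp.eq_two_or_odd with h2 | hodd
  · -- p = 2
    have hq : p ^ e % 2 = 0 := by
      rw [h2]
      obtain ⟨e', rfl⟩ : ∃ e', e = e' + 1 := ⟨e - 1, by omega⟩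
      rw [pow_succ]; omega
    rw [gcd_two_of_odd (geom_parity_even _ hq r hr0)]
    have h3 : ((p ^ e) ^ r - 1) % 2 = 1 := by
      have h4 : (p ^ e) ^ r % 2 = 0 := by
        rw [Nat.pow_mod, hq]
        obtain ⟨r', rfl⟩ : ∃ r', r = r' + 1 := ⟨r - 1, by omega⟩
        simp
      have h5 : 1 ≤ (p ^ e) ^ r := Nat.one_le_pow _ _ (by omega)
      omega
    rw [gcd_two_of_odd h3, Nat.gcd_one_left]
  · -- p odd
    have hq : p ^ e % 2 = 1 := by rw [Nat.pow_mod, hodd, one_pow]; rfl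
    have h3 : ((p ^ e) ^ r - 1) % 2 = 0 := by
      have h4 : (p ^ e) ^ r % 2 = 1 := by rw [Nat.pow_mod, hq, one_pow]; rfl
      omega
    rw [gcd_two_of_even h3]
    have h6 := geom_parity_odd _ hq r
    rcases Nat.mod_two_eq_zero_or_one r with h7 | h7
    · rw [gcd_two_of_even (by omega), gcd_two_of_even h7]
    · rw [gcd_two_of_odd (by omega), gcd_two_of_odd h7]

/-- the centralizer and class-splitting statement for `PSp`, with the characteristic explicit -/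
theorem field_cent_main [Fintype F] {p f : ℕ} [hp : Fact p.Prime] [CharP F p]
    (hF : Fintype.card F = p ^ f) (hf : 1 ≤ f) (hm : 2 ≤ m) (x : MulAut (Cfsg.PSp m F))
    (hx : Cfsg.IsFieldAutClassPSp x) {r : ℕ} (hr : r.Prime) (hxr : orderOf x = r)
    (F₀ : Type*) [Field F₀] [Fintype F₀] (hF₀ : Fintype.card F₀ = p ^ (f / r)) :
    r ∣ f ∧ Nonempty (↥(Cfsg.inndiagPSp m F ⊓ Subgroup.centralizer {x}) ≃* Cfsg.PGSp m F₀) ∧
      Cfsg.splitClassCount (Cfsg.inndiagPSp m F) (Cfsg.Inn (Cfsg.PSp m F)) x =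
        Nat.gcd (Nat.gcd 2 (p ^ f - 1)) r := by
  have hN : (Cfsg.inndiagPSp m F).Normal := inndiag_normal hF hm
  have hNinn : (Cfsg.Inn (Cfsg.PSp m F)).Normal := inn_normal
  obtain ⟨α, σ, hσ, hstd⟩ := hx
  have hx' := (isStdFieldAut_iff σ _).mp hstd
  have hord : orderOf σ = r := by
    rw [← orderOf_fAut hm σ, ← hx', ← MulAut.conj_apply, MulEquiv.orderOf_eq]
    exact hxr
  have hr0 : 0 < r := hr.pos
  have hrf : r ∣ f := (Cfsg.Agent.Lib.Helper44_FixField.card_fixField σ hF hord).1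
  refine ⟨hrf, ?_, ?_⟩
  · obtain ⟨ι, hι⟩ := Cfsg.Agent.Lib.Helper44_FixField.exists_embedding σ hF hord F₀ hF₀
    obtain ⟨e⟩ := nonempty_centEquiv_sp (m := m) σ ι hι hm hr0 hord
    have e1 := centConjEquiv (Cfsg.inndiagPSp m F) α x
    rw [hx'] at e1
    exact ⟨e1.trans e⟩
  · rw [← splitClassCount_conj (Cfsg.inndiagPSp m F) _ α x, hx',
      splitClassCount_std_sp hm σ hr0 hord, index_MM σ hF hord, gcd_formula hp.out hr hrf hf]

end Cfsg.Agent.Lib.Helper44_PSpFieldCent
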