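import Mathlib
import Cfsg.Agent.Lib.Helper44_PSpAut2

/-!
# Squares of automorphisms of `PSp_{2m}(F)` in characteristic two preserve transvections (helper44)

In characteristic two with `|F| > 2`, every automorphism `α` of `PSp_{2m}(F)` has the property that
`α * α` preserves the set of projective transvections (for `2m = 4` the exceptional graph
automorphism interchanges long and short root elements).
-/

set_option autoImplicit false
set_option linter.unusedSectionVars false
set_option linter.unusedVariables false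
set_option linter.unusedSimpArgs false
set_option linter.style.haveILetI false

namespace Cfsg.Agent.Lib.Helper44_Sp4Char2

open Matrix Cfsg.Agent.Lib.Helper13_Symp Cfsg.Agent.Lib.Helper13_SympTrans
  Cfsg.Agent.Lib.Helper5_PSpSimple Cfsg.Agent.Lib.Helper5_SpPerfect
  Cfsg.Agent.Lib.Helper44_PSLnUT
  Cfsg.Agent.Lib.Helper44_SpUT Cfsg.Agent.Lib.Helper44_PSpTv
  Cfsg.Agent.Lib.Helper44_PSpGeom Cfsg.Agent.Lib.Helper44_PSpSemi Cfsg.Agent.Lib.Helper44_PSpAut
  Cfsg.Agent.Lib.Helper44_PSpAlg Cfsg.Agent.Lib.Helper44_PSpAut2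

variable {F : Type*} [Field F] {k : ℕ}

/-! ### the matrices `Z(s,t)` -/

/-- the symmetric matrix with entries `s` at `(0,0)` and `t` at `(0,1)`, `(1,0)` -/
def Smat (k : ℕ) (s t : F) : Matrix (Fin (k + 2)) (Fin (k + 2)) F :=
  Matrix.single 0 0 s + (Matrix.single 0 1 t + Matrix.single 1 0 t)

theorem Smat_symm (s t : F) : (Smat k s t)ᵀ = Smat k s t := by
  unfold Smat
  rw [Matrix.transpose_add, Matrix.transpose_add, Matrix.transpose_single, Matrix.transpose_single,
    Matrix.transpose_single, add_comm (Matrix.single 1 0 t)]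

theorem Smat_add (s t s' t' : F) : Smat k s t + Smat k s' t' = Smat k (s + s') (t + t') := by
  unfold Smat
  rw [Matrix.single_add, Matrix.single_add, Matrix.single_add]
  abel

theorem h01 : (0 : Fin (k + 2)) ≠ 1 := by
  intro h
  have := congrArg Fin.val h
  simp at this

theorem Smat_00 (s t : F) : Smat k s t 0 0 = s := by
  unfold Smat
  simp [Matrix.single_apply, h01, h01.symm]

theorem Smat_01 (s t : F) : Smat k s t 0 1 = t := by
  unfold Smat
  simp [Matrix.single_apply, h01, h01.symm]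

/-- the element `Z(s,t)` of `USp` -/
def Zg (k : ℕ) (s t : F) : symplecticGroup (Fin (k + 2)) F := Xg (Smat k s t) (Smat_symm s t)

theorem Zg_coe (s t : F) : (Zg k s t).1 = Xmat (Smat k s t) := rfl

theorem Zg_mem (s t : F) : Zg k s t ∈ USp (k + 2) F := Xg_mem_USp _

theorem Zg_mul (s t s' t' : F) : Zg k s t * Zg k s' t' = Zg k (s + s') (t + t') := by
  unfold Zg
  rw [Xg_mul]
  exact Xg_congr (Smat_add s t s' t') _

theorem Zg_inj {s t s' t' : F} (h : Zg k s t = Zg k s' t') : s = s' ∧ t = t' := by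
  have h1 := congrArg Subtype.val h
  rw [Zg_coe, Zg_coe] at h1
  have e1 := congrFun (congrFun h1 (Sum.inl 0)) (Sum.inr 0)
  have e2 := congrFun (congrFun h1 (Sum.inl 0)) (Sum.inr 1)
  simp only [Xmat, Matrix.fromBlocks_apply₁₂, Smat_00, Smat_01] at e1 e2
  exact ⟨e1, e2⟩

theorem Zg_zero_right (s : F) : Zg k s 0 = transv (k + 2) (e0 k F) s := by
  rw [transv_e0]
  unfold Zg
  apply Xg_congr
  unfold Smat
  simp

theorem Zg_zero : Zg k (0 : F) 0 = 1 := by
  rw [Zg_zero_right, transv_zero]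

/-! ### the torus elements -/

/-- the diagonal matrix `diag(1, b, 1, …, 1)` -/
def Db (k : ℕ) (b : F) : Matrix (Fin (k + 2)) (Fin (k + 2)) F :=
  Matrix.diagonal (fun i => if i = 1 then b else 1)

theorem Db_mul {b : F} (hb : b ≠ 0) : Db k b * Db k b⁻¹ = 1 := by
  unfold Db
  rw [Matrix.diagonal_mul_diagonal, ← Matrix.diagonal_one]
  congr 1
  ext i
  by_cases hi : i = 1
  · simp [hi, hb]
  · simp [hi]

theorem Db_transpose (b : F) : (Db k b)ᵀ = Db k b := by
  unfold Db
  rw [Matrix.diagonal_transpose]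

theorem Db_Smat (b s t : F) : Db k b * Smat k s t * (Db k b)ᵀ = Smat k s (b * t) := by
  rw [Db_transpose]
  unfold Db Smat
  ext i j
  rw [Matrix.mul_diagonal, Matrix.diagonal_mul]
  simp only [Matrix.add_apply, Matrix.single_apply]
  by_cases hi0 : i = 0
  · subst hi0
    by_cases hj0 : j = 0
    · subst hj0
      simp [h01, h01.symm]
    · by_cases hj1 : j = 1
      · subst hj1
        simp [h01, h01.symm]
        ring
      · simp [h01, h01.symm, hj0, hj1, Ne.symm hj0, Ne.symm hj1]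
  · by_cases hi1 : i = 1
    · subst hi1
      by_cases hj0 : j = 0
      · subst hj0
        simp [h01, h01.symm]
      · simp [h01, h01.symm, hj0, Ne.symm hj0]
    · simp [hi0, hi1, Ne.symm hi0, Ne.symm hi1]

/-- the torus element -/
def Tb (k : ℕ) (b : F) (hb : b ≠ 0) : symplecticGroup (Fin (k + 2)) F :=
  Lg (Db k b) (Db k b⁻¹) (Db_mul hb)

theorem Tb_conj_Zg (b : F) (hb : b ≠ 0) (s t : F) :
    Tb k b hb * Zg k s t * (Tb k b hb)⁻¹ = Zg k s (b * t) := by
  rw [mul_inv_eq_iff_eq_mul]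
  unfold Tb Zg
  rw [Lg_mul_Xg]
  congr 1
  exact Xg_congr (Db_Smat b s t) _

theorem Tb_conj_mem (b : F) (hb : b ≠ 0) {u : symplecticGroup (Fin (k + 2)) F}
    (hu : u ∈ USp (k + 2) F) : Tb k b hb * u * (Tb k b hb)⁻¹ ∈ USp (k + 2) F := by
  have hinv : (Tb k b hb)⁻¹ = Lg (Db k b⁻¹) (Db k b) (by
      have := Db_mul (k := k) (inv_ne_zero hb); rwa [inv_inv] at this) := by
    rw [inv_eq_iff_mul_eq_one]
    apply Subtype.ext
    show Lmat (Db k b) (Db k b⁻¹) * Lmat (Db k b⁻¹) (Db k b) = 1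
    unfold Lmat
    rw [Matrix.fromBlocks_multiply]
    have h1 := Db_mul (k := k) hb
    have h2 : (Db k b⁻¹)ᵀ * (Db k b)ᵀ = 1 := by
      rw [Db_transpose, Db_transpose]
      have := Db_mul (k := k) (inv_ne_zero hb)
      rwa [inv_inv] at this
    simp [h1, h2, Matrix.fromBlocks_one]
  rw [hinv]
  have hmat : ((Tb k b hb * u * Lg (Db k b⁻¹) (Db k b) (by
      have := Db_mul (k := k) (inv_ne_zero hb); rwa [inv_inv] at this) :
      symplecticGroup (Fin (k + 2)) F) :
      Matrix (Fin (k + 2) ⊕ Fin (k + 2)) (Fin (k + 2) ⊕ Fin (k + 2)) F) =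
      fromBlocks (Db k b * u.1.toBlocks₁₁ * Db k b⁻¹) (Db k b * u.1.toBlocks₁₂ * (Db k b)ᵀ) 0
        ((Db k b⁻¹)ᵀ * u.1.toBlocks₂₂ * (Db k b)ᵀ) := by
    show Lmat (Db k b) (Db k b⁻¹) * u.1 * Lmat (Db k b⁻¹) (Db k b) = _
    conv_lhs => rw [coe_eq_fromBlocks u, hu.1]
    unfold Lmat
    rw [Matrix.fromBlocks_multiply, Matrix.fromBlocks_multiply]
    simp
  refine ⟨?_, ?_⟩
  · show Matrix.toBlocks₂₁ _ = 0
    rw [hmat, Matrix.toBlocks_fromBlocks₂₁]
  · show IsUT (Matrix.toBlocks₁₁ _)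
    rw [hmat, Matrix.toBlocks_fromBlocks₁₁]
    obtain ⟨hl, hd⟩ := hu.2
    unfold Db
    constructor
    · intro i j hij
      rw [Matrix.mul_diagonal, Matrix.diagonal_mul, hl i j hij, mul_zero, zero_mul]
    · intro i
      rw [Matrix.mul_diagonal, Matrix.diagonal_mul, hd i, mul_one]
      by_cases hi : i = 1
      · simp [hi, hb]
      · simp [hi]


theorem Tb_inv (b : F) (hb : b ≠ 0) : (Tb k b hb)⁻¹ = Tb k b⁻¹ (inv_ne_zero hb) := by
  rw [inv_eq_iff_mul_eq_one]
  apply Subtype.ext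
  show Lmat (Db k b) (Db k b⁻¹) * Lmat (Db k b⁻¹) (Db k b⁻¹⁻¹) = 1
  unfold Lmat
  rw [Matrix.fromBlocks_multiply, inv_inv]
  have h1 := Db_mul (k := k) hb
  have h2 : (Db k b⁻¹)ᵀ * (Db k b)ᵀ = 1 := by
    rw [Db_transpose, Db_transpose]
    have := Db_mul (k := k) (inv_ne_zero hb)
    rwa [inv_inv] at this
  simp [h1, h2, Matrix.fromBlocks_one]

/-! ### the centre of `UBar` -/

/-- central elements of `UBar` -/
def IsCentU (w : Cfsg.PSp (k + 2) F) : Prop :=
  w ∈ UBar (k + 2) F ∧ ∀ y ∈ UBar (k + 2) F, y * w = w * y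

theorem isCentU_form {w : Cfsg.PSp (k + 2) F} (hw : IsCentU w) :
    ∃ s t : F, w = pr (Zg k s t) ∧ ∀ u ∈ USp (k + 2) F, u * Zg k s t = Zg k s t * u := by
  obtain ⟨⟨z, hz, rfl⟩, hc⟩ := hw
  have hzc := central_lift hz hc
  obtain ⟨s, t, _, hzX⟩ := central_form z hz hzc
  have hzZ : z = Zg k s t := Subtype.ext hzX
  exact ⟨s, t, by rw [hzZ], by rw [← hzZ]; exact hzc⟩

theorem isCentU_map {γ : MulAut (Cfsg.PSp (k + 2) F)}
    (hγ : (UBar (k + 2) F).map γ.toMonoidHom = UBar (k + 2) F) {w : Cfsg.PSp (k + 2) F}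
    (hw : IsCentU w) : IsCentU (γ w) := by
  refine ⟨?_, ?_⟩
  · rw [← hγ]
    exact ⟨w, hw.1, rfl⟩
  · intro y hy
    rw [← hγ] at hy
    obtain ⟨y', hy', rfl⟩ := hy
    show γ y' * γ w = γ w * γ y'
    rw [← map_mul, ← map_mul, hw.2 y' hy']

theorem map_inv_UBar {γ : MulAut (Cfsg.PSp (k + 2) F)}
    (hγ : (UBar (k + 2) F).map γ.toMonoidHom = UBar (k + 2) F) :
    (UBar (k + 2) F).map (γ⁻¹).toMonoidHom = UBar (k + 2) F := by
  conv_lhs => rw [← hγ]
  rw [Subgroup.map_map]
  have : (γ⁻¹).toMonoidHom.comp γ.toMonoidHom = MonoidHom.id _ := by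
    ext x
    show γ⁻¹ (γ x) = x
    simp
  rw [this, Subgroup.map_id]

theorem map_conj_Tb (b : F) (hb : b ≠ 0) :
    (UBar (k + 2) F).map (MulAut.conj (pr (Tb k b hb))).toMonoidHom = UBar (k + 2) F := by
  apply le_antisymm
  · rintro _ ⟨_, ⟨u, hu, rfl⟩, rfl⟩
    refine ⟨Tb k b hb * u * (Tb k b hb)⁻¹, Tb_conj_mem b hb hu, ?_⟩
    show _ = MulAut.conj (pr (Tb k b hb)) (pr u)
    rw [MulAut.conj_apply, map_mul, map_mul, map_inv]
  · rintro _ ⟨u, hu, rfl⟩
    have h1 := Tb_conj_mem (k := k) b⁻¹ (inv_ne_zero hb) hu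
    have h0 := Tb_inv (k := k) b hb
    rw [← h0, inv_inv] at h1
    refine ⟨pr ((Tb k b hb)⁻¹ * u * Tb k b hb), ⟨_, h1, rfl⟩, ?_⟩
    show MulAut.conj (pr (Tb k b hb)) (pr ((Tb k b hb)⁻¹ * u * Tb k b hb)) = pr u
    rw [MulAut.conj_apply, ← map_inv, ← map_mul, ← map_mul]
    congr 1
    group

theorem isCentU_XP {x : Cfsg.PSp (k + 2) F} (hx : x ∈ XP (e0 k F)) : IsCentU x := by
  obtain ⟨c, rfl⟩ := mem_XP.mp hx
  refine ⟨⟨_, transv_e0_mem k c, rfl⟩, ?_⟩
  rintro _ ⟨u, hu, rfl⟩
  show pr u * pr _ = pr _ * pr u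
  rw [← map_mul, ← map_mul, transv_e0, Xg_single_central c u hu]

section main

variable [Fintype F] {p : ℕ} [hp : Fact p.Prime] [CharP F p]

include hp in
/-- Claim A -/
theorem mem_map_of_isCentU {γ : MulAut (Cfsg.PSp (k + 2) F)}
    (hγ : (UBar (k + 2) F).map γ.toMonoidHom = UBar (k + 2) F) {t₁ : Cfsg.PSp (k + 2) F}
    (ht₁ : IsTvP t₁) (hw : IsCentU (γ t₁)) : γ t₁ ∈ (XP (e0 k F)).map γ.toMonoidHom := by
  have h1 : IsCentU t₁ := by
    have := isCentU_map (map_inv_UBar hγ) hw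
    have e : γ⁻¹ (γ t₁) = t₁ := by simp
    rwa [e] at this
  have h2 : t₁ ∈ RS (UBar (k + 2) F) := ⟨h1.1, h1.2, Or.inr ht₁⟩
  rw [RS_UBar_gen (p := p)] at h2
  exact ⟨t₁, h2, rfl⟩

include hp in
/-- Claim B -/
theorem torus_mem {γ : MulAut (Cfsg.PSp (k + 2) F)}
    (hγ : (UBar (k + 2) F).map γ.toMonoidHom = UBar (k + 2) F) {s' t' : F}
    (hw : pr (Zg k s' t') ∈ (XP (e0 k F)).map γ.toMonoidHom) (hne : pr (Zg k s' t') ≠ 1)
    (b : F) (hb : b ≠ 0) : pr (Zg k s' (b * t')) ∈ (XP (e0 k F)).map γ.toMonoidHom := by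
  obtain ⟨t₁, ht₁, hw'⟩ := hw
  have hw'' : γ t₁ = pr (Zg k s' t') := hw'
  have ht₁ne : t₁ ≠ 1 := by
    rintro rfl
    rw [map_one] at hw''
    exact hne hw''.symm
  have ht₁tv : IsTvP t₁ := by
    obtain ⟨c, rfl⟩ := mem_XP.mp ht₁
    refine ⟨e0 k F, c, e0_ne_zero k, ?_, rfl⟩
    rintro rfl
    rw [transv_zero, map_one] at ht₁ne
    exact ht₁ne rfl
  set d : Cfsg.PSp (k + 2) F := γ⁻¹ (pr (Tb k b hb)) with hd
  have hγd : γ d = pr (Tb k b hb) := by rw [hd]; simp
  have h1 : γ (d * t₁ * d⁻¹) = pr (Zg k s' (b * t')) := by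
    rw [map_mul, map_mul, map_inv, hγd, hw'', ← map_inv, ← map_mul, ← map_mul, Tb_conj_Zg]
  have h2 : IsTvP (d * t₁ * d⁻¹) := by
    have := (presTv_conj d _).mpr ht₁tv
    rwa [MulAut.conj_apply] at this
  have h3 : IsCentU (γ (d * t₁ * d⁻¹)) := by
    rw [h1, ← Tb_conj_Zg b hb, map_mul, map_mul, map_inv, ← MulAut.conj_apply]
    apply isCentU_map (map_conj_Tb b hb)
    rw [← hw'']
    exact isCentU_map hγ (isCentU_XP ht₁)
  have := mem_map_of_isCentU (p := p) hγ h2 h3
  rwa [h1] at this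


/-- the standard transvection -/
def t0 (k : ℕ) (F : Type*) [Field F] : Cfsg.PSp (k + 2) F := pr (transv (k + 2) (e0 k F) 1)

theorem t0_def : t0 k F = pr (transv (k + 2) (e0 k F) 1) := rfl

theorem isCentU_t0 : IsCentU (t0 k F) := isCentU_XP (mem_XP.mpr ⟨1, rfl⟩)

theorem isTvP_t0 : IsTvP (t0 k F) := ⟨e0 k F, 1, e0_ne_zero k, one_ne_zero, rfl⟩

theorem pr_Zg_inj {s t s' t' : F} (h : pr (Zg k s t) = pr (Zg k s' t')) : s = s' ∧ t = t' :=
  Zg_inj (pr_injOn_USp (by omega) (Zg_mem s t) (Zg_mem s' t') h)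

include hp in
/-- Lemma L: the image of the standard transvection under an automorphism normalizing `UBar`
is a long or a short root element -/
theorem long_or_short (h2 : (2 : F) = 0) (hq : 2 < Fintype.card F)
    {γ : MulAut (Cfsg.PSp (k + 2) F)}
    (hγ : (UBar (k + 2) F).map γ.toMonoidHom = UBar (k + 2) F) {s t : F}
    (hst : γ (t0 k F) = pr (Zg k s t)) : s = 0 ∨ t = 0 := by
  classical
  by_contra hcon
  push Not at hcon
  obtain ⟨hs, ht⟩ := hcon
  set Y := (XP (e0 k F)).map γ.toMonoidHom with hY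
  have hz0 : pr (Zg k s t) ∈ Y := by
    rw [← hst]
    exact ⟨t0 k F, mem_XP.mpr ⟨1, rfl⟩, rfl⟩
  have hz0ne : pr (Zg k s t) ≠ 1 := by
    intro h
    have : pr (Zg k s t) = pr (Zg k 0 0) := by rw [h, Zg_zero, map_one]
    exact hs (pr_Zg_inj this).1
  -- an element `b ∉ {0, 1}`
  obtain ⟨b, hb0, hb1⟩ : ∃ b : F, b ≠ 0 ∧ b ≠ 1 := by
    have hlt : ({0, 1} : Finset F).card < (Finset.univ : Finset F).card := by
      rw [Finset.card_univ]
      exact lt_of_le_of_lt Finset.card_le_two hq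
    obtain ⟨b, _, hb⟩ := Finset.exists_mem_notMem_of_card_lt_card hlt
    simp only [Finset.mem_insert, Finset.mem_singleton, not_or] at hb
    exact ⟨b, hb.1, hb.2⟩
  have hwb := torus_mem (p := p) hγ hz0 hz0ne b hb0
  have hprod : pr (Zg k 0 (t + b * t)) ∈ Y := by
    have := Y.mul_mem hz0 hwb
    rw [← map_mul, Zg_mul] at this
    have hss : s + s = 0 := by rw [← two_mul, h2, zero_mul]
    rwa [hss] at this
  have ht'' : t + b * t ≠ 0 := by
    intro h0
    have h1 : (1 + b) * t = 0 := by rw [add_mul, one_mul]; exact h0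
    rcases mul_eq_zero.mp h1 with h | h
    · apply hb1
      have h3 : (-1 : F) = 1 := by linear_combination -h2
      have : b = -1 := by linear_combination h
      rw [this, h3]
    · exact ht h
  have hune : pr (Zg k 0 (t + b * t)) ≠ 1 := by
    intro h
    have : pr (Zg k 0 (t + b * t)) = pr (Zg k 0 0) := by rw [h, Zg_zero, map_one]
    exact ht'' (pr_Zg_inj this).2
  have hall : ∀ d : F, pr (Zg k 0 d) ∈ Y := by
    intro d
    by_cases hd : d = 0
    · rw [hd, Zg_zero, map_one]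
      exact Y.one_mem
    · have := torus_mem (p := p) hγ hprod hune (d / (t + b * t)) (div_ne_zero hd ht'')
      rwa [div_mul_cancel₀ d ht''] at this
  -- counting
  have hfinK : Finite (Cfsg.PSp (k + 2) F) := by
    haveI : Finite (symplecticGroup (Fin (k + 2)) F) := Subtype.finite
    exact Finite.of_surjective _ pr_surjective
  let inj : Option F → Y := fun o =>
    match o with
    | none => ⟨pr (Zg k s t), hz0⟩
    | some d => ⟨pr (Zg k 0 d), hall d⟩
  have hinj : Function.Injective inj := by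
    intro a b hab
    cases a with
    | none =>
      cases b with
      | none => rfl
      | some d =>
        exfalso
        have h1 : pr (Zg k s t) = pr (Zg k 0 d) := congrArg Subtype.val hab
        exact hs (pr_Zg_inj h1).1
    | some d =>
      cases b with
      | none =>
        exfalso
        have h1 : pr (Zg k 0 d) = pr (Zg k s t) := congrArg Subtype.val hab
        exact hs (pr_Zg_inj h1).1.symm
      | some d' =>
        have h1 : pr (Zg k 0 d) = pr (Zg k 0 d') := congrArg Subtype.val hab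
        rw [(pr_Zg_inj h1).2]
  let sur : F → Y := fun c => ⟨γ (pr (transv (k + 2) (e0 k F) c)), ⟨_, mem_XP.mpr ⟨c, rfl⟩, rfl⟩⟩
  have hsur : Function.Surjective sur := by
    rintro ⟨y, x, hx, rfl⟩
    obtain ⟨c, rfl⟩ := mem_XP.mp hx
    exact ⟨c, rfl⟩
  have h1 := Nat.card_le_card_of_injective inj hinj
  have h3 := Nat.card_le_card_of_surjective sur hsur
  rw [Nat.card_eq_fintype_card, Fintype.card_option] at h1
  rw [Nat.card_eq_fintype_card (α := F)] at h3
  omega

include hp in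
/-- all projective transvections are conjugate, in characteristic two -/
theorem exists_conj_t0 (h2 : (2 : F) = 0) {t₁ : Cfsg.PSp (k + 2) F} (ht₁ : IsTvP t₁) :
    ∃ c : Cfsg.PSp (k + 2) F, t₁ = MulAut.conj c (t0 k F) := by
  obtain ⟨v, a, hv, ha, rfl⟩ := ht₁
  have hchar : ringChar F = 2 := by
    have hp2 : p = 2 := two_eq_zero_iff.mp h2
    rw [← hp2]
    exact ringChar.eq F p
  obtain ⟨d, hd⟩ := FiniteField.isSquare_of_char_two hchar a
  have hd0 : d ≠ 0 := by
    rintro rfl
    rw [mul_zero] at hd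
    exact ha hd
  have hdv : d • v ≠ 0 := smul_ne_zero hd0 hv
  obtain ⟨A, _, hA⟩ := exists_transv_map (k + 2) (e0 k F) (d • v) (e0_ne_zero k) hdv
  refine ⟨pr A, ?_⟩
  rw [MulAut.conj_apply]
  show pr (transv (k + 2) v a) = pr A * pr (transv (k + 2) (e0 k F) 1) * (pr A)⁻¹
  rw [← map_inv, ← map_mul, ← map_mul, conj_transv, hA, transv_smul]
  congr 2
  rw [_root_.mul_one]
  exact hd

include hp in
/-- Lemma M -/
theorem isTvP_sq_of_normalizes (h2 : (2 : F) = 0) (hq : 2 < Fintype.card F)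
    {γ : MulAut (Cfsg.PSp (k + 2) F)}
    (hγ : (UBar (k + 2) F).map γ.toMonoidHom = UBar (k + 2) F)
    {t₁ : Cfsg.PSp (k + 2) F} (ht₁ : IsTvP t₁) : IsTvP (γ (γ t₁)) := by
  -- enough to treat `t0`
  suffices h : IsTvP (γ (γ (t0 k F))) by
    obtain ⟨c, rfl⟩ := exists_conj_t0 (p := p) h2 ht₁
    rw [MulAut.conj_apply, map_mul, map_mul, map_inv, map_mul, map_mul, map_inv]
    have := (presTv_conj (γ (γ c)) _).mpr h
    rwa [MulAut.conj_apply] at this
  have hγ' := map_inv_UBar hγ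
  obtain ⟨s, t, hst, hc⟩ := isCentU_form (isCentU_map hγ (isCentU_t0 (k := k) (F := F)))
  obtain ⟨s', t', hst', hc'⟩ := isCentU_form (isCentU_map hγ' (isCentU_t0 (k := k) (F := F)))
  rcases long_or_short (p := p) h2 hq hγ hst with hs | ht
  · -- `γ t0` is a short root element
    subst hs
    rcases long_or_short (p := p) h2 hq hγ' hst' with hs' | ht'
    · subst hs'
      -- `γ (pr (Zg 0 t')) = t0`
      have h1 : γ (pr (Zg k 0 t')) = t0 k F := by rw [← hst']; simp
      have ht0 : t ≠ 0 := by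
        rintro rfl
        rw [Zg_zero, map_one] at hst
        have : γ (t0 k F) = γ 1 := by rw [hst, map_one]
        have h3 := γ.injective this
        have h4 : pr (transv (k + 2) (e0 k F) (1 : F)) = pr (Zg k 0 0) := by
          rw [Zg_zero]; exact h3
        rw [← Zg_zero_right] at h4
        exact one_ne_zero (pr_Zg_inj h4).1
      have ht'0 : t' ≠ 0 := by
        rintro rfl
        rw [Zg_zero, map_one] at hst'
        have : γ⁻¹ (t0 k F) = γ⁻¹ 1 := by rw [hst', map_one]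
        have h3 := (γ⁻¹).injective this
        have h4 : pr (transv (k + 2) (e0 k F) (1 : F)) = pr (Zg k 0 0) := by
          rw [Zg_zero]; exact h3
        rw [← Zg_zero_right] at h4
        exact one_ne_zero (pr_Zg_inj h4).1
      -- `Zg 0 t` is a torus conjugate of `Zg 0 t'`
      have hb : t / t' ≠ 0 := div_ne_zero ht0 ht'0
      have h5 := Tb_conj_Zg (k := k) (t / t') hb 0 t'
      rw [div_mul_cancel₀ t ht'0] at h5
      rw [hst, ← h5, map_mul, map_mul, map_inv, map_mul, map_mul, map_inv, h1]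
      have := (presTv_conj (γ (pr (Tb k (t / t') hb))) _).mpr (isTvP_t0 (k := k) (F := F))
      rwa [MulAut.conj_apply] at this
    · -- `γ⁻¹ t0` is a transvection, impossible
      exfalso
      subst ht'
      have h1 : γ (pr (Zg k s' 0)) = t0 k F := by rw [← hst']; simp
      have hs'0 : s' ≠ 0 := by
        rintro rfl
        rw [Zg_zero, map_one, map_one] at h1
        have h4 : pr (transv (k + 2) (e0 k F) (1 : F)) = pr (Zg k 0 0) := by
          rw [Zg_zero, map_one]; exact h1.symm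
        rw [← Zg_zero_right] at h4
        exact one_ne_zero (pr_Zg_inj h4).1
      have htv : IsTvP (pr (Zg k s' 0)) := by
        rw [Zg_zero_right]
        exact ⟨e0 k F, s', e0_ne_zero k, hs'0, rfl⟩
      obtain ⟨c, hcc⟩ := exists_conj_t0 (p := p) h2 htv
      rw [hcc, MulAut.conj_apply, map_mul, map_mul, map_inv, hst] at h1
      -- so `pr (Zg 0 t)` is a conjugate of `t0`, a transvection
      have h6 : IsTvP (pr (Zg k 0 t)) := by
        have h7 : pr (Zg k 0 t) = (γ c)⁻¹ * t0 k F * (γ c)⁻¹⁻¹ := by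
          rw [← h1]; group
        rw [h7]
        have := (presTv_conj (γ c)⁻¹ _).mpr (isTvP_t0 (k := k) (F := F))
        rwa [MulAut.conj_apply] at this
      obtain ⟨c2, hc2⟩ := central_tv_of_isTvP (p := p) (Zg_mem 0 t) hc h6
      rw [← Zg_zero_right] at hc2
      have ht0 : t = 0 := (Zg_inj hc2).2
      subst ht0
      rw [Zg_zero, map_one] at hst
      have : γ (t0 k F) = γ 1 := by rw [hst, map_one]
      have h3 := γ.injective this
      have h4 : pr (transv (k + 2) (e0 k F) (1 : F)) = pr (Zg k 0 0) := by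
        rw [Zg_zero]; exact h3
      rw [← Zg_zero_right] at h4
      exact one_ne_zero (pr_Zg_inj h4).1
  · -- `γ t0` is a transvection
    subst ht
    have hs0 : s ≠ 0 := by
      rintro rfl
      rw [Zg_zero, map_one] at hst
      have : γ (t0 k F) = γ 1 := by rw [hst, map_one]
      have h3 := γ.injective this
      have h4 : pr (transv (k + 2) (e0 k F) (1 : F)) = pr (Zg k 0 0) := by
        rw [Zg_zero]; exact h3
      rw [← Zg_zero_right] at h4
      exact one_ne_zero (pr_Zg_inj h4).1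
    have htv : IsTvP (γ (t0 k F)) := by
      rw [hst, Zg_zero_right]
      exact ⟨e0 k F, s, e0_ne_zero k, hs0, rfl⟩
    obtain ⟨c, hcc⟩ := exists_conj_t0 (p := p) h2 htv
    rw [hcc, MulAut.conj_apply, map_mul, map_mul, map_inv]
    have := (presTv_conj (γ c) _).mpr htv
    rwa [MulAut.conj_apply] at this

include hp in
/-- the square of an automorphism normalizing `UBar` preserves transvections -/
theorem presTv_sq_of_normalizes (h2 : (2 : F) = 0) (hq : 2 < Fintype.card F)
    {γ : MulAut (Cfsg.PSp (k + 2) F)}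
    (hγ : (UBar (k + 2) F).map γ.toMonoidHom = UBar (k + 2) F) : PresTv (γ * γ) := by
  intro t
  constructor
  · intro h
    have hγ' := map_inv_UBar hγ
    have h1 := isTvP_sq_of_normalizes (p := p) h2 hq hγ' h
    have h3 : γ⁻¹ (γ⁻¹ ((γ * γ) t)) = t := by
      rw [MulAut.mul_apply]
      simp
    rwa [h3] at h1
  · intro h
    exact isTvP_sq_of_normalizes (p := p) h2 hq hγ h

theorem conj_comm_aut {G : Type*} [Group G] (β : MulAut G) (g : G) :
    β * MulAut.conj g = MulAut.conj (β g) * β := by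
  refine MulEquiv.ext fun x => ?_
  simp only [MulAut.mul_apply, MulAut.conj_apply, map_mul, map_inv]

include hp in
/-- in characteristic two with `|F| > 2`, the square of any automorphism preserves
transvections -/
theorem presTv_sq_char2 {f : ℕ} (hF : Fintype.card F = p ^ f) (h2 : (2 : F) = 0)
    (hq : 2 < Fintype.card F) (α : MulAut (Cfsg.PSp (k + 2) F)) : PresTv (α * α) := by
  classical
  have hfin : Finite (Cfsg.PSp (k + 2) F) := by
    haveI : Finite (symplecticGroup (Fin (k + 2)) F) := Subtype.finite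
    exact Finite.of_surjective _ pr_surjective
  obtain ⟨S0, hS0⟩ := exists_sylow_PSp (m := k + 2) hF
  obtain ⟨y, hy⟩ := @MulAction.exists_smul_eq (Cfsg.PSp (k + 2) F) (Sylow p (Cfsg.PSp (k + 2) F)) _
    Sylow.isPretransitive_of_finite S0 (α • S0)
  obtain ⟨h, rfl⟩ := pr_surjective y
  have hmapeq : (UBar (k + 2) F).map (MulAut.conj (pr h)).toMonoidHom =
      (UBar (k + 2) F).map α.toMonoidHom := by
    have h1 := congrArg (fun P : Sylow p (Cfsg.PSp (k + 2) F) => (P : Subgroup (Cfsg.PSp (k + 2) F))) hy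
    simp only [Sylow.coe_subgroup_smul, Sylow.pointwise_smul_def, hS0] at h1
    rw [smul_eq_map, smul_eq_map] at h1
    exact h1
  set β : MulAut (Cfsg.PSp (k + 2) F) := (MulAut.conj (pr h))⁻¹ * α with hβdef
  have hβ : (UBar (k + 2) F).map β.toMonoidHom = UBar (k + 2) F := by
    have e1 : β.toMonoidHom = ((MulAut.conj (pr h))⁻¹).toMonoidHom.comp α.toMonoidHom := rfl
    rw [e1, ← Subgroup.map_map, ← hmapeq, Subgroup.map_map]
    have e2 : ((MulAut.conj (pr h))⁻¹).toMonoidHom.comp (MulAut.conj (pr h)).toMonoidHom =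
        MonoidHom.id _ := by
      refine MonoidHom.ext fun x => ?_
      exact MulEquiv.symm_apply_apply (MulAut.conj (pr h)) x
    rw [e2, Subgroup.map_id]
  have hα : α = MulAut.conj (pr h) * β := by rw [hβdef]; group
  have hsq : α * α = MulAut.conj (pr h) * MulAut.conj (β (pr h)) * (β * β) := by
    rw [hα]
    calc MulAut.conj (pr h) * β * (MulAut.conj (pr h) * β)
        = MulAut.conj (pr h) * (β * MulAut.conj (pr h)) * β := by group
      _ = MulAut.conj (pr h) * (MulAut.conj (β (pr h)) * β) * β := by rw [conj_comm_aut]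
      _ = _ := by group
  rw [hsq]
  exact ((presTv_conj _).mul (presTv_conj _)).mul (presTv_sq_of_normalizes (p := p) h2 hq hβ)

end main

/-- for `PSp_{2m}(F)` other than `PSp_4(2)`, the square of any automorphism preserves
transvections -/
theorem presTv_sq {m : ℕ} [Fintype F] {p f : ℕ} [hp : Fact p.Prime] [CharP F p]
    (hF : Fintype.card F = p ^ f) (hm : 2 ≤ m) (hs : m = 2 → 3 ≤ Fintype.card F)
    (α : MulAut (Cfsg.PSp m F)) : PresTv (α * α) := by
  obtain ⟨k, rfl⟩ : ∃ k, m = k + 2 := ⟨m - 2, by omega⟩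
  by_cases h4 : p = 2 → 1 ≤ k
  · exact presTv_of_ne hF h4 (α * α)
  · push Not at h4
    obtain ⟨hp2, hk⟩ := h4
    have hk0 : k = 0 := by omega
    subst hk0
    have h2 : (2 : F) = 0 := (two_eq_zero_iff (p := p)).mpr hp2
    have hq : 2 < Fintype.card F := by
      have := hs rfl
      omega
    exact presTv_sq_char2 (p := p) hF h2 hq α

/-- an automorphism of odd order preserves transvections -/
theorem presTv_of_odd_order {m : ℕ} [Fintype F] {p f : ℕ} [hp : Fact p.Prime] [CharP F p]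
    (hF : Fintype.card F = p ^ f) (hm : 2 ≤ m) (hs : m = 2 → 3 ≤ Fintype.card F)
    (α : MulAut (Cfsg.PSp m F)) {n : ℕ} (hn : Odd n) (hα : α ^ n = 1) : PresTv α := by
  obtain ⟨j, rfl⟩ := hn
  have h1 : α = (α * α) ^ (j + 1) := by
    rw [← pow_two, ← pow_mul]
    have : 2 * (j + 1) = (2 * j + 1) + 1 := by ring
    rw [this, pow_succ, hα, one_mul]
  rw [h1]
  exact (presTv_sq hF hm hs α).pow _

end Cfsg.Agent.Lib.Helper44_Sp4Char2

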