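import Mathlib
import Cfsg.Agent.Lib.Helper44_Sp4Char2
import Cfsg.Agent.Lib.Helper44_PSpFieldCent

/-!
# Local balance for field automorphisms of `PSp_{2m}(F)` (helper44)

The `p'`-core of `C_A(x)` for `x` a non-inner-diagonal automorphism of prime order `p` different
from the characteristic.
-/

set_option autoImplicit false
set_option linter.unusedSectionVars false
set_option linter.unusedVariables false
set_option linter.unusedSimpArgs false
set_option linter.style.haveILetI false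

namespace Cfsg.Agent.Lib.Helper44_PSpBalance

open scoped LinearAlgebra.Projectivization
open scoped commutatorElement Pointwise
open Matrix Cfsg.Agent.Lib.Helper13_Symp Cfsg.Agent.Lib.Helper13_SympTrans
  Cfsg.Agent.Lib.Helper5_PSpSimple Cfsg.Agent.Lib.Helper5_SpPerfect
  Cfsg.Agent.Lib.Helper44_PSLnUT
  Cfsg.Agent.Lib.Helper44_SpUT Cfsg.Agent.Lib.Helper44_PSpTv
  Cfsg.Agent.Lib.Helper44_PSpGeom Cfsg.Agent.Lib.Helper44_PSpSemi Cfsg.Agent.Lib.Helper44_PSpAut
  Cfsg.Agent.Lib.Helper44_PSpAlg Cfsg.Agent.Lib.Helper44_PSpAut2 Cfsg.Agent.Lib.Helper44_Sp4Char2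
  Cfsg.Agent.Lib.Helper44_PSpLang Cfsg.Agent.Lib.Helper44_PSpFieldCent
  Cfsg.Agent.Lib.Helper44_FixField

/-! ### generalities on groups -/

section general

variable {G : Type*} [Group G]

theorem pPrimeCore_ne_bot_iff (p : ℕ) :
    Cfsg.pPrimeCore p G ≠ ⊥ ↔
      ∃ N : Subgroup G, N.Normal ∧ (Nat.card N).Coprime p ∧ N ≠ ⊥ := by
  unfold Cfsg.pPrimeCore
  rw [Ne, sSup_eq_bot]
  constructor
  · intro h
    push Not at h
    obtain ⟨N, ⟨h1, h2⟩, h3⟩ := h
    exact ⟨N, h1, h2, h3⟩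
  · rintro ⟨N, h1, h2, h3⟩ h
    exact h3 (h N ⟨h1, h2⟩)

theorem pPrimeCore_ne_bot_of_equiv {H : Type*} [Group H] (e : G ≃* H) (p : ℕ)
    (h : Cfsg.pPrimeCore p G ≠ ⊥) : Cfsg.pPrimeCore p H ≠ ⊥ := by
  rw [pPrimeCore_ne_bot_iff] at h ⊢
  obtain ⟨N, h1, h2, h3⟩ := h
  refine ⟨N.map e.toMonoidHom, h1.map _ e.surjective, ?_, ?_⟩
  · rw [Subgroup.card_map_of_injective e.injective]
    exact h2
  · rw [Ne, Subgroup.map_eq_bot_iff_of_injective _ e.injective]
    exact h3

theorem pPrimeCore_ne_bot_congr {H : Type*} [Group H] (e : G ≃* H) (p : ℕ) :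
    Cfsg.pPrimeCore p G ≠ ⊥ ↔ Cfsg.pPrimeCore p H ≠ ⊥ :=
  ⟨pPrimeCore_ne_bot_of_equiv e p, pPrimeCore_ne_bot_of_equiv e.symm p⟩

theorem map_centralizer_conj (x c : G) :
    (Subgroup.centralizer {x}).map (MulAut.conj c).toMonoidHom =
      Subgroup.centralizer {c * x * c⁻¹} := by
  ext y
  rw [Subgroup.mem_map, Subgroup.mem_centralizer_iff]
  constructor
  · rintro ⟨h, hh, rfl⟩ z hz
    rw [Set.mem_singleton_iff] at hz
    subst hz
    rw [Subgroup.mem_centralizer_iff] at hh
    have h1 := hh x rfl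
    show c * x * c⁻¹ * (c * h * c⁻¹) = c * h * c⁻¹ * (c * x * c⁻¹)
    calc c * x * c⁻¹ * (c * h * c⁻¹) = c * (x * h) * c⁻¹ := by group
      _ = c * (h * x) * c⁻¹ := by rw [h1]
      _ = _ := by group
  · intro h
    have h1 := h (c * x * c⁻¹) rfl
    refine ⟨c⁻¹ * y * c, ?_, ?_⟩
    · rw [Subgroup.mem_centralizer_iff]
      intro z hz
      rw [Set.mem_singleton_iff] at hz
      subst hz
      calc z * (c⁻¹ * y * c) = c⁻¹ * (c * z * c⁻¹ * y) * c := by group
        _ = c⁻¹ * (y * (c * z * c⁻¹)) * c := by rw [h1]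
        _ = _ := by group
    · show c * (c⁻¹ * y * c) * c⁻¹ = y
      group

/-- transport of the `p'`-core condition under conjugation -/
theorem pPrimeCore_conj_iff (A : Subgroup G) (x c : G) (p : ℕ) :
    Cfsg.pPrimeCore p ↥(A ⊓ Subgroup.centralizer {x}) ≠ ⊥ ↔
      Cfsg.pPrimeCore p ↥(A.map (MulAut.conj c).toMonoidHom ⊓
        Subgroup.centralizer {c * x * c⁻¹}) ≠ ⊥ := by
  have h1 : (A ⊓ Subgroup.centralizer {x}).map (MulAut.conj c).toMonoidHom =
      A.map (MulAut.conj c).toMonoidHom ⊓ Subgroup.centralizer {c * x * c⁻¹} := by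
    rw [Subgroup.map_inf_eq _ _ _ (MulAut.conj c).injective, map_centralizer_conj]
  exact pPrimeCore_ne_bot_congr
    (((MulAut.conj c).subgroupMap (A ⊓ Subgroup.centralizer {x})).trans
      (MulEquiv.subgroupCongr h1)) p

/-- if `G` is generated by elements of order dividing `r` and `N` is a normal subgroup containing
the commutator subgroup then the index of `N` is a power of `r` -/
theorem index_eq_pow_of_generated [Finite G] {r : ℕ} [hr : Fact r.Prime] (S : Set G)
    (hS : Subgroup.closure S = ⊤) (hSr : ∀ s ∈ S, s ^ r = 1) (N : Subgroup G) [hN : N.Normal]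
    (hc : commutator G ≤ N) : ∃ n : ℕ, N.index = r ^ n := by
  have hcomm : ∀ a b : G ⧸ N, a * b = b * a := by
    intro a b
    obtain ⟨x, rfl⟩ := QuotientGroup.mk_surjective a
    obtain ⟨y, rfl⟩ := QuotientGroup.mk_surjective b
    rw [← QuotientGroup.mk_mul, ← QuotientGroup.mk_mul, QuotientGroup.eq]
    apply hc
    rw [commutator_def]
    have h1 : (x * y)⁻¹ * (y * x) = ⁅y⁻¹, x⁻¹⁆ := by
      rw [commutatorElement_def]
      group
    rw [h1]
    exact Subgroup.commutator_mem_commutator (Subgroup.mem_top _) (Subgroup.mem_top _)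
  have hall : ∀ x : G, ((x : G ⧸ N)) ^ r = 1 := by
    intro x
    have hx : x ∈ Subgroup.closure S := by rw [hS]; trivial
    induction hx using Subgroup.closure_induction with
    | mem s hs => rw [← QuotientGroup.mk_pow, hSr s hs, QuotientGroup.mk_one]
    | one => rw [QuotientGroup.mk_one, one_pow]
    | mul a b _ _ iha ihb =>
      rw [QuotientGroup.mk_mul, (show Commute (a : G ⧸ N) (b : G ⧸ N) from hcomm _ _).mul_pow,
        iha, ihb, one_mul]
    | inv a _ iha => rw [QuotientGroup.mk_inv, inv_pow, iha, inv_one]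
  have hpg : IsPGroup r (G ⧸ N) := by
    intro q
    obtain ⟨x, rfl⟩ := QuotientGroup.mk_surjective q
    exact ⟨1, by rw [pow_one]; exact hall x⟩
  obtain ⟨n, hn⟩ := hpg.exists_card_eq
  exact ⟨n, by rw [Subgroup.index_eq_card, hn]⟩

theorem conj_comm_aut' (β : MulAut G) (g : G) :
    β * MulAut.conj g = MulAut.conj (β g) * β := conj_comm_aut β g

end general

/-! ### decomposition of automorphisms of prime order -/

variable {F : Type*} [Field F]

theorem map_e0 (k : ℕ) (τ : F ≃+* F) : (fun i => τ (e0 k F i)) = e0 k F := by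
  ext i
  by_cases hi : i = Sum.inl 0
  · subst hi
    simp [e0]
  · simp [e0, Pi.single_apply, hi]

theorem pr_transv_e0_inj {k : ℕ} {s s' : F}
    (h : pr (transv (k + 2) (e0 k F) s) = pr (transv (k + 2) (e0 k F) s')) : s = s' := by
  rw [← Zg_zero_right, ← Zg_zero_right] at h
  exact (Zg_inj (pr_injOn_USp (by omega) (Zg_mem s 0) (Zg_mem s' 0) h)).1

theorem fAut_transv_e0 {k : ℕ} (τ : F ≃+* F) (a : F) :
    fAut τ (pr (transv (k + 2) (e0 k F) a)) = pr (transv (k + 2) (e0 k F) (τ a)) := by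
  rw [fAut_pr, fieldSp_transv, map_e0]

theorem cAut_transv {m : ℕ} (g : ↥(Cfsg.GSp m F)) (v : Fin m ⊕ Fin m → F) (a : F) :
    cAut g (pr (transv m v a)) = pr (transv m (g.1.1 *ᵥ v) (a * ((mult g : Fˣ) : F)⁻¹)) := by
  have h := semiAut_transv g.1 g.2 1 (mult g) (mult_spec g) v a
  rw [semiAut_eq, map_one, mul_one] at h
  exact h

/-- a standard field automorphism which is inner-diagonal is trivial -/
theorem eq_one_of_fAut_eq_cAut {k : ℕ} (τ : F ≃+* F) (g : ↥(Cfsg.GSp (k + 2) F))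
    (h : fAut τ = cAut g) : τ = 1 := by
  have key : ∀ a : F, pr (transv (k + 2) (e0 k F) (τ a)) =
      pr (transv (k + 2) (g.1.1 *ᵥ e0 k F) (a * ((mult g : Fˣ) : F)⁻¹)) := by
    intro a
    rw [← fAut_transv_e0, ← cAut_transv, h]
  have h1 : τ 1 ≠ 0 := by rw [map_one]; exact one_ne_zero
  obtain ⟨d, hd0, hd⟩ := sim_of_pr_transv_eq (by omega) (e0_ne_zero k) h1 (key 1)
  have hg : g.1.1 *ᵥ e0 k F = d⁻¹ • e0 k F := by
    have h3 := congrArg (fun w => d⁻¹ • w) hd
    simp only [smul_smul, inv_mul_cancel₀ hd0, one_smul] at h3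
    exact h3.symm
  have key2 : ∀ a : F, τ a = d⁻¹ * d⁻¹ * (a * ((mult g : Fˣ) : F)⁻¹) := by
    intro a
    have := key a
    rw [hg, transv_smul] at this
    exact pr_transv_e0_inj this
  have h2 := key2 1
  rw [map_one, one_mul] at h2
  ext a
  show τ a = a
  rw [key2 a]
  calc d⁻¹ * d⁻¹ * (a * ((mult g : Fˣ) : F)⁻¹) = a * (d⁻¹ * d⁻¹ * ((mult g : Fˣ) : F)⁻¹) := by ring
    _ = a := by rw [← h2, mul_one]

section decomp

variable [Fintype F] {r : ℕ} [hr : Fact r.Prime] [CharP F r] {m : ℕ}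

include hr in
theorem exists_decomp (hm : 2 ≤ m) (hs : m = 2 → 3 ≤ Fintype.card F) {p : ℕ} (hp : p.Prime)
    (hpr : p ≠ r) (x : MulAut (Cfsg.PSp m F)) (hord : orderOf x = p) :
    ∃ (g : ↥(Cfsg.GSp m F)) (σ : F ≃+* F), x = cAut g * fAut σ := by
  obtain ⟨n, -, hF⟩ := FiniteField.card F r
  apply exists_cAut_fAut_of_presTv hF hm
  by_cases hp2 : p = 2
  · obtain ⟨k, rfl⟩ : ∃ k, m = k + 2 := ⟨m - 2, by omega⟩
    apply presTv_of_ne hF
    intro h2
    exact absurd (hp2.trans h2.symm) hpr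
  · have hodd : Odd p := hp.odd_of_ne_two hp2
    apply presTv_of_odd_order hF hm hs x hodd
    rw [← hord]
    exact pow_orderOf_eq_one x

include hr in
/-- an automorphism of prime order `p ≠ r` which is not inner-diagonal is conjugate, under the
inner-diagonal group, to a standard field automorphism of order `p` -/
theorem exists_conj_std (hm : 2 ≤ m) (hs : m = 2 → 3 ≤ Fintype.card F) {p : ℕ} (hp : p.Prime)
    (hpr : p ≠ r) (x : MulAut (Cfsg.PSp m F)) (hord : orderOf x = p)
    (hnot : ¬ Cfsg.IsInnerDiagonalAutPSp x) :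
    ∃ (k : ↥(Cfsg.GSp m F)) (σ : F ≃+* F), orderOf σ = p ∧
      x = cAut k * fAut σ * (cAut k)⁻¹ := by
  obtain ⟨g, σ, hx⟩ := exists_decomp hm hs hp hpr x hord
  have hσ1 : σ ≠ 1 := by
    rintro rfl
    apply hnot
    rw [isInnerDiagonal_iff]
    exact ⟨g, by rw [hx, map_one, mul_one]⟩
  have hxp : (cAut g * fAut σ : MulAut (Cfsg.PSp m F)) ^ p = 1 := by
    rw [← hx, ← hord]
    exact pow_orderOf_eq_one x
  have hσp : σ ^ p = 1 := by
    have h1 := hxp
    rw [pow_cAut_mul_fAut] at h1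
    have h2 : fAut (σ ^ p) = cAut (PNG σ g p)⁻¹ := by
      rw [map_inv]
      exact eq_inv_of_mul_eq_one_right h1
    obtain ⟨k, rfl⟩ : ∃ k, m = k + 2 := ⟨m - 2, by omega⟩
    exact eq_one_of_fAut_eq_cAut _ _ h2
  have hordσ : orderOf σ = p := by
    haveI : Fact p.Prime := ⟨hp⟩
    exact orderOf_eq_prime hσp hσ1
  obtain ⟨k, hk⟩ := field_coset_conj_sp hm σ hp.pos hordσ g hxp
  exact ⟨k, σ, hordσ, by rw [hx, hk]⟩

end decomp

/-! ### automorphisms fixing the subfield subgroup pointwise -/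

/-- Galois: an automorphism fixing the fixed field of `σ` pointwise is a power of `σ` -/
theorem mem_zpowers_of_fixes [Finite F] (σ τ : F ≃+* F) (h : ∀ a : F, σ a = a → τ a = a) :
    τ ∈ Subgroup.zpowers σ := by
  classical
  have : Finite (F ≃+* F) :=
    Finite.of_injective (fun τ : F ≃+* F => (τ : F → F)) DFunLike.coe_injective
  let f : F →ₐ[FixedPoints.subfield (Subgroup.zpowers σ) F] F :=
    { (τ : F →+* F) with
      commutes' := fun a => h a.1 ((mem_fixField σ a.1).mp a.2) }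
  obtain ⟨g, hg⟩ := (FixedPoints.toAlgHom_bijective (Subgroup.zpowers σ) F).2 f
  have h1 : τ = g.1 := by
    ext a
    have := DFunLike.congr_fun hg a
    exact this.symm
  rw [h1]
  exact g.2

theorem mem_scalars_of_eq_smul {m : ℕ} (hm : 1 ≤ m) (g : GL (Fin m ⊕ Fin m) F) (a : F)
    (ha : g.1 = a • (1 : Matrix (Fin m ⊕ Fin m) (Fin m ⊕ Fin m) F)) :
    g ∈ Cfsg.Geo.scalars (Fin m ⊕ Fin m) F := by
  rw [Cfsg.Geo.mem_scalars_iff]
  have ha0 : a ≠ 0 := by
    intro h0
    rw [h0, zero_smul] at ha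
    have he : (Pi.single (Sum.inl ⟨0, by omega⟩) 1 : Fin m ⊕ Fin m → F) ≠ 0 := by
      intro h
      have := congrFun h (Sum.inl ⟨0, by omega⟩)
      simp at this
    apply GL_mulVec_ne_zero g he
    rw [ha, Matrix.zero_mulVec]
  exact ⟨Units.mk0 a ha0, ha⟩

/-- a matrix which maps each `e_i` and each `e_i + e_j` to a multiple of itself is scalar -/
theorem scalar_of_basis_sim {n : Type*} [Fintype n] [DecidableEq n] [Nonempty n]
    (M : Matrix n n F)
    (h1 : ∀ i : n, ∃ d : F, M *ᵥ (Pi.single i 1) = d • (Pi.single i 1 : n → F))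
    (h2 : ∀ i j : n, i ≠ j → ∃ d : F,
      M *ᵥ (Pi.single i 1 + Pi.single j 1) = d • (Pi.single i 1 + Pi.single j 1 : n → F)) :
    ∃ a : F, M = a • (1 : Matrix n n F) := by
  choose d hd using h1
  have hent : ∀ l i, M l i = if l = i then d i else 0 := by
    intro l i
    have := congrFun (hd i) l
    rw [Matrix.mulVec_single_one] at this
    simp only [Matrix.col_apply, Pi.smul_apply, Pi.single_apply, smul_eq_mul, mul_ite, mul_one,
      mul_zero] at this
    exact this
  have heq : ∀ i j, i ≠ j → d i = d j := by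
    intro i j hij
    obtain ⟨c, hc⟩ := h2 i j hij
    rw [Matrix.mulVec_add, hd i, hd j] at hc
    have hi := congrFun hc i
    have hj := congrFun hc j
    simp only [Pi.add_apply, Pi.smul_apply, Pi.single_apply, smul_eq_mul, if_true, if_neg hij,
      if_neg (Ne.symm hij), mul_one, mul_zero, add_zero, zero_add, mul_add] at hi hj
    rw [hi, hj]
  obtain ⟨i0⟩ := ‹Nonempty n›
  refine ⟨d i0, ?_⟩
  ext l i
  rw [hent, Matrix.smul_apply, Matrix.one_apply, smul_eq_mul, mul_ite, mul_one, mul_zero]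
  by_cases hli : l = i
  · rw [if_pos hli, if_pos hli]
    by_cases hi : i = i0
    · rw [hi]
    · exact heq i i0 hi
  · rw [if_neg hli, if_neg hli]

section fixers

variable [Fintype F] {r : ℕ} [hr : Fact r.Prime] [CharP F r] {k : ℕ}

include hr in
/-- an automorphism preserving transvections and fixing all transvections with `σ`-fixed
parameters is a power of `fAut σ` -/
theorem mem_zpowers_of_fixes_transv (σ : F ≃+* F) (y : MulAut (Cfsg.PSp (k + 2) F))
    (hy : PresTv y)
    (hfix : ∀ (v : Fin (k + 2) ⊕ Fin (k + 2) → F) (a : F), (∀ i, σ (v i) = v i) → σ a = a →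
      y (pr (transv (k + 2) v a)) = pr (transv (k + 2) v a)) :
    y ∈ Subgroup.zpowers (fAut (m := k + 2) σ) := by
  classical
  obtain ⟨n, -, hF⟩ := FiniteField.card F r
  have hm : 2 ≤ k + 2 := by omega
  obtain ⟨g, τ, rfl⟩ := exists_cAut_fAut_of_presTv hF hm y hy
  have hsim : ∀ v : Fin (k + 2) ⊕ Fin (k + 2) → F, v ≠ 0 → (∀ i, v i = 0 ∨ v i = 1) →
      ∃ d : F, g.1.1 *ᵥ v = d • v := by
    intro v hv h01
    have hτv : (fun i => τ (v i)) = v := by
      ext i
      rcases h01 i with h | h <;> simp [h]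
    have hσv : ∀ i, σ (v i) = v i := by
      intro i
      rcases h01 i with h | h <;> simp [h]
    have h1 := hfix v 1 hσv (map_one σ)
    rw [MulAut.mul_apply, fAut_pr, fieldSp_transv, hτv, map_one, cAut_transv] at h1
    have hc0 : (1 : F) * ((mult g : Fˣ) : F)⁻¹ ≠ 0 := by
      rw [one_mul]
      exact inv_ne_zero (Units.ne_zero _)
    obtain ⟨d, -, hd⟩ := sim_of_pr_transv_eq hm (GL_mulVec_ne_zero g.1 hv) hc0 h1
    exact ⟨d, hd⟩
  have hsingle : ∀ i : Fin (k + 2) ⊕ Fin (k + 2), (Pi.single i 1 : Fin (k + 2) ⊕ Fin (k + 2) → F) ≠ 0 := by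
    intro i h
    have := congrFun h i
    simp at this
  obtain ⟨a, ha⟩ := scalar_of_basis_sim g.1.1
    (fun i => hsim _ (hsingle i) (fun l => by
      by_cases hl : l = i
      · right; rw [hl]; simp
      · left; simp [Pi.single_apply, hl]))
    (fun i j hij => hsim _ (by
        intro h
        have := congrFun h i
        simp [Pi.single_apply, hij] at this) (fun l => by
      by_cases hl : l = i
      · right; rw [hl]; simp [Pi.single_apply, hij]
      · by_cases hl' : l = j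
        · right; rw [hl']; simp [Pi.single_apply, Ne.symm hij]
        · left; simp [Pi.single_apply, hl, hl']))
  have hcg : cAut g = 1 := (cAut_eq_one_iff hm g).mpr (mem_scalars_of_eq_smul (by omega) g.1 a ha)
  rw [hcg, one_mul] at hfix ⊢
  have hτ : ∀ a : F, σ a = a → τ a = a := by
    intro a ha
    have h1 := hfix (e0 k F) a (fun i => congrFun (map_e0 k σ) i) ha
    rw [fAut_transv_e0] at h1
    exact pr_transv_e0_inj h1
  obtain ⟨n, rfl⟩ := Subgroup.mem_zpowers_iff.mp (mem_zpowers_of_fixes σ τ hτ)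
  rw [map_zpow]
  exact Subgroup.zpow_mem_zpowers _ _

end fixers

/-! ### the subfield subgroup -/

section subfield

variable {F₀ : Type*} [Field F₀] {m : ℕ}

/-- base change `Sp(F₀) → Sp(F)` -/
def mapSp (ι : F₀ →+* F) : symplecticGroup (Fin m) F₀ →* symplecticGroup (Fin m) F where
  toFun s := ⟨s.1.map ι, SymplecticGroup.map_mem s.2 ι⟩
  map_one' := by
    apply Subtype.ext
    show (1 : Matrix (Fin m ⊕ Fin m) (Fin m ⊕ Fin m) F₀).map ι = 1
    exact Matrix.map_one _ (map_zero ι) (map_one ι)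
  map_mul' a b := by
    apply Subtype.ext
    show (a.1 * b.1).map ι = a.1.map ι * b.1.map ι
    exact Matrix.map_mul

theorem mapSp_coe (ι : F₀ →+* F) (s : symplecticGroup (Fin m) F₀) :
    (mapSp ι s).1 = s.1.map ι := rfl

theorem mapGSp_spToGSp (ι : F₀ →+* F) (s : symplecticGroup (Fin m) F₀) :
    mapGSp (F := F) ι (spToGSp s) = spToGSp (mapSp ι s) := by
  apply Subtype.ext
  apply Units.ext
  rfl

theorem sympTransvection_map (ι : F₀ →+* F) (v : Fin m ⊕ Fin m → F₀) (a : F₀) :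
    (Cfsg.sympTransvection m v a).map ι = Cfsg.sympTransvection m (fun i => ι (v i)) (ι a) := by
  unfold Cfsg.sympTransvection
  ext i j
  have hJ : ∀ l, ι ((Matrix.J (Fin m) F₀ *ᵥ v) l) = (Matrix.J (Fin m) F *ᵥ (fun i => ι (v i))) l := by
    intro l
    have := RingHom.map_mulVec ι (Matrix.J (Fin m) F₀) v l
    rw [this, Matrix.map_J]
    rfl
  simp only [Matrix.map_apply, Matrix.add_apply, Matrix.smul_apply, Matrix.vecMulVec_apply,
    smul_eq_mul, map_add, map_mul, hJ, Matrix.one_apply]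
  by_cases hij : i = j
  · simp [hij]
  · simp [hij]

theorem mapSp_transv (ι : F₀ →+* F) (v : Fin m ⊕ Fin m → F₀) (a : F₀) :
    mapSp ι (transv m v a) = transv m (fun i => ι (v i)) (ι a) := by
  apply Subtype.ext
  exact sympTransvection_map ι v a

end subfield

/-! ### the centralizer of a standard field automorphism in the inner automorphisms -/

section core

variable {m : ℕ} (σ : F ≃+* F)

theorem hι_fix (a : F) : σ a = a ↔ a ∈ Set.range (fixField σ).subtype := by
  rw [← mem_fixField]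
  constructor
  · intro hx
    exact ⟨⟨a, hx⟩, rfl⟩
  · rintro ⟨y, rfl⟩
    exact y.2

/-- the fixed points of the standard field automorphism on `PSp` -/
abbrev FixK (m : ℕ) (σ : F ≃+* F) : Subgroup (Cfsg.PSp m F) :=
  MonoidHom.eqLocus (fAut (m := m) σ).toMonoidHom (MonoidHom.id (Cfsg.PSp m F))

theorem mem_FixK {k : Cfsg.PSp m F} : k ∈ FixK m σ ↔ fAut σ k = k := Iff.rfl

/-- the subfield subgroup `Sp(F₀)` acting on `PSp(F)` -/
noncomputable def psi (m : ℕ) (σ : F ≃+* F) :
    symplecticGroup (Fin m) ↥(fixField σ) →* MulAut (Cfsg.PSp m F) :=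
  (PhiSp (F := F) (m := m) (fixField σ).subtype).comp spToGSp

theorem psi_apply (s : symplecticGroup (Fin m) ↥(fixField σ)) :
    psi m σ s = PhiSp (F := F) (fixField σ).subtype (spToGSp s) := rfl

theorem psi_eq_conj (s : symplecticGroup (Fin m) ↥(fixField σ)) :
    psi m σ s = MulAut.conj (pr (mapSp (fixField σ).subtype s)) := by
  rw [psi_apply, PhiSp_apply, mapGSp_spToGSp, cAut_spToGSp]

theorem fAut_mapSp (s : symplecticGroup (Fin m) ↥(fixField σ)) :
    fAut σ (pr (mapSp (fixField σ).subtype s)) = pr (mapSp (fixField σ).subtype s) := by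
  rw [fAut_pr]
  congr 1
  apply Subtype.ext
  show (s.1.map (fixField σ).subtype).map σ = s.1.map (fixField σ).subtype
  exact map_map_fixed σ _ (hι_fix σ) _

theorem conj_injective (hm : 2 ≤ m) :
    Function.Injective (MulAut.conj : Cfsg.PSp m F →* MulAut (Cfsg.PSp m F)) := by
  rw [injective_iff_map_eq_one]
  intro k hk
  obtain ⟨s, rfl⟩ := pr_surjective k
  rw [← cAut_spToGSp, cAut_eq_one_iff hm, Cfsg.Geo.mem_scalars_iff] at hk
  obtain ⟨c, hc⟩ := hk
  rw [spToGSp_coe] at hc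
  rw [pr_eq_one_iff]
  apply mem_center_of_sim
  intro v _
  exact ⟨c, by rw [hc, Matrix.smul_mulVec, Matrix.one_mulVec]⟩

theorem fAut_comm_conj_iff (hm : 2 ≤ m) (k : Cfsg.PSp m F) :
    fAut σ * MulAut.conj k = MulAut.conj k * fAut σ ↔ fAut σ k = k := by
  rw [conj_comm_aut]
  constructor
  · intro h
    exact conj_injective hm (mul_right_cancel h)
  · intro h
    rw [h]

theorem conj_mem_CDsp (hm : 2 ≤ m) {k : Cfsg.PSp m F} (hk : fAut σ k = k) :
    MulAut.conj k ∈ CDsp m σ := by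
  rw [mem_CDsp_iff]
  refine ⟨?_, (fAut_comm_conj_iff σ hm k).mpr hk⟩
  obtain ⟨s, rfl⟩ := pr_surjective k
  rw [inndiagPSp_eq, ← cAut_spToGSp]
  exact ⟨_, rfl⟩

theorem PhiSp_scalarGSp (hm : 2 ≤ m) (a : (↥(fixField σ))ˣ) :
    PhiSp (F := F) (m := m) (fixField σ).subtype (scalarGSp a) = 1 := by
  rw [← MonoidHom.mem_ker, PhiSp_ker _ hm, Subgroup.mem_subgroupOf, Cfsg.Geo.mem_scalars_iff]
  exact ⟨a, by rw [scalarGSp_coe]⟩

variable {p : ℕ} (hp0 : 0 < p) (hord : orderOf σ = p)

include hp0 hord in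
/-- inner automorphisms centralizing `fAut σ` normalize the subfield subgroup -/
theorem psi_conj (hm : 2 ≤ m) {k : Cfsg.PSp m F} (hk : fAut σ k = k)
    (s : symplecticGroup (Fin m) ↥(fixField σ)) :
    ∃ s' : symplecticGroup (Fin m) ↥(fixField σ),
      MulAut.conj k * psi m σ s * (MulAut.conj k)⁻¹ = psi m σ s' := by
  obtain ⟨g₀, hg₀⟩ := PhiSp_range σ _ (hι_fix σ) hm hp0 hord _ (conj_mem_CDsp σ hm hk)
  have hm1 : 1 ≤ m := by omega
  have hmult : mult (g₀ * spToGSp s * g₀⁻¹) = 1 := by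
    rw [mult_mul hm1, mult_mul hm1, mult_inv hm1, mult_spToGSp hm1, mul_one, mul_inv_cancel]
  obtain ⟨s', hs'⟩ := exists_sp_of_mult_eq_one _ hmult
  refine ⟨s', ?_⟩
  rw [psi_apply, psi_apply, hs', ← hg₀, map_mul, map_mul, map_inv]

include hp0 hord in
/-- squares of inner automorphisms centralizing `fAut σ` lie in the subfield subgroup -/
theorem psi_sq (hm : 2 ≤ m) {k : Cfsg.PSp m F} (hk : fAut σ k = k) :
    ∃ s : symplecticGroup (Fin m) ↥(fixField σ),
      MulAut.conj k * MulAut.conj k = psi m σ s := by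
  obtain ⟨g₀, hg₀⟩ := PhiSp_range σ _ (hι_fix σ) hm hp0 hord _ (conj_mem_CDsp σ hm hk)
  have hm1 : 1 ≤ m := by omega
  have hmult : mult (scalarGSp (mult g₀)⁻¹ * (g₀ * g₀)) = 1 := by
    rw [mult_mul hm1, mult_mul hm1, mult_scalarGSp hm1]
    group
  obtain ⟨s, hs⟩ := exists_sp_of_mult_eq_one _ hmult
  refine ⟨s, ?_⟩
  rw [psi_apply, hs, map_mul, PhiSp_scalarGSp σ hm, one_mul, map_mul, hg₀]

end core

/-! ### normal subgroups of the symplectic group -/

section dichotomy

attribute [local instance] Cfsg.Agent.Lib.Helper5_PSpSimple.spAction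

/-- a normal subgroup of `Sp_{2m}(F₀)` consists of scalars or contains the commutator subgroup -/
theorem sp_normal_dichotomy {F₀ : Type*} [Field F₀] [Finite F₀] {m : ℕ} (hm : 1 ≤ m)
    (N : Subgroup (symplecticGroup (Fin m) F₀)) [hN : N.Normal] :
    (∀ g ∈ N, ∃ a : F₀, g.1 = a • (1 : Matrix (Fin m ⊕ Fin m) (Fin m ⊕ Fin m) F₀)) ∨
      commutator (symplecticGroup (Fin m) F₀) ≤ N := by
  haveI := isPreprimitive (F := F₀) m hm
  by_cases hfix : MulAction.fixedPoints N (ℙ F₀ (Fin m ⊕ Fin m → F₀)) = Set.univ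
  · left
    intro g hg
    apply scalar_of_sim
    intro v hv
    have hmem : Projectivization.mk F₀ v hv ∈ MulAction.fixedPoints N _ := by
      rw [hfix]; trivial
    have h1 := hmem ⟨g, hg⟩
    change g • Projectivization.mk F₀ v hv = _ at h1
    rw [smul_mk, Projectivization.mk_eq_mk_iff'] at h1
    obtain ⟨c, hc⟩ := h1
    exact ⟨c, hc.symm⟩
  · right
    exact (iwasawa m).commutator_le N hfix

end dichotomy

theorem transv_pow {F₀ : Type*} [Field F₀] {m : ℕ} (v : Fin m ⊕ Fin m → F₀) (a : F₀) (n : ℕ) :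
    (transv m v a) ^ n = transv m v (n * a) := by
  induction n with
  | zero => rw [pow_zero, Nat.cast_zero, zero_mul, transv_zero]
  | succ n ih => rw [pow_succ, ih, transv_mul, Nat.cast_succ, add_mul, one_mul]

/-! ### the main argument -/

section main

variable [Fintype F] {r : ℕ} [hr : Fact r.Prime] [CharP F r] {k : ℕ} (σ : F ≃+* F)
  {p : ℕ} [hp : Fact p.Prime] (hord : orderOf σ = p) (hpr : p ≠ r)

theorem Tb_neg_one_mul_self {F₀ : Type*} [Field F₀] :
    Tb k (-1 : F₀) (neg_ne_zero.mpr one_ne_zero) * Tb k (-1 : F₀) (neg_ne_zero.mpr one_ne_zero) = 1 := by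
  rw [mul_eq_one_iff_eq_inv, Tb_inv]
  simp only [inv_neg_one]

include hr in
/-- an automorphism fixing the standard transvection preserves transvections -/
theorem presTv_of_fix_t0 (y : MulAut (Cfsg.PSp (k + 2) F)) (hy : y (t0 k F) = t0 k F) :
    PresTv y := by
  obtain ⟨n, -, hF⟩ := FiniteField.card F r
  by_cases h2 : r = 2
  · have h2' : (2 : F) = 0 := (two_eq_zero_iff (p := r)).mpr h2
    have key : ∀ z : MulAut (Cfsg.PSp (k + 2) F), z (t0 k F) = t0 k F →
        ∀ t, IsTvP t → IsTvP (z t) := by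
      intro z hz t ht
      obtain ⟨c, rfl⟩ := exists_conj_t0 (p := r) h2' ht
      rw [MulAut.conj_apply, map_mul, map_mul, map_inv, hz]
      have := (presTv_conj (z c) _).mpr (isTvP_t0 (k := k) (F := F))
      rwa [MulAut.conj_apply] at this
    intro t
    constructor
    · intro h
      have hy' : y⁻¹ (t0 k F) = t0 k F := by
        conv_lhs => rw [← hy]
        exact MulAut.inv_apply_self _ y _
      have h3 := key y⁻¹ hy' _ h
      rwa [MulAut.inv_apply_self] at h3
    · exact key y hy t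
  · exact presTv_of_ne hF (fun h => absurd h h2) y

include hr in
/-- an automorphism fixing all transvections with `σ`-fixed parameters is a power of `fAut σ` -/
theorem mem_zpowers_of_fix (y : MulAut (Cfsg.PSp (k + 2) F))
    (hfix : ∀ (v : Fin (k + 2) ⊕ Fin (k + 2) → F) (a : F), (∀ i, σ (v i) = v i) → σ a = a →
      y (pr (transv (k + 2) v a)) = pr (transv (k + 2) v a)) :
    y ∈ Subgroup.zpowers (fAut (m := k + 2) σ) := by
  apply mem_zpowers_of_fixes_transv σ y _ hfix
  apply presTv_of_fix_t0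
  exact hfix (e0 k F) 1 (fun i => congrFun (map_e0 k σ) i) (map_one σ)

include hr hp hord hpr in
theorem dvd_card_range_psi (hdvd : p ∣ Nat.card ↥(FixK (k + 2) σ)) :
    p ∣ Nat.card ↥(psi (k + 2) σ).range := by
  have hm : 2 ≤ k + 2 := by omega
  by_cases hp2 : p = 2
  · set d : symplecticGroup (Fin (k + 2)) ↥(fixField σ) :=
      Tb k (-1) (neg_ne_zero.mpr one_ne_zero) with hd
    have hdd : d * d = 1 := Tb_neg_one_mul_self
    have h1 : (psi (k + 2) σ d) ^ 2 = 1 := by rw [← map_pow, pow_two, hdd, map_one]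
    have h2 : psi (k + 2) σ d ≠ 1 := by
      intro h
      rw [psi_apply, ← MonoidHom.mem_ker, PhiSp_ker _ hm, Subgroup.mem_subgroupOf,
        Cfsg.Geo.mem_scalars_iff] at h
      obtain ⟨c, hc⟩ := h
      rw [spToGSp_coe] at hc
      have e0 := congrFun (congrFun hc (Sum.inl 0)) (Sum.inl 0)
      have e1 := congrFun (congrFun hc (Sum.inl 1)) (Sum.inl 1)
      have hd1 : d.1 = Lmat (Db k (-1)) (Db k (-1 : ↥(fixField σ))⁻¹) := rfl
      rw [hd1] at e0 e1
      simp only [Lmat, Matrix.fromBlocks_apply₁₁, Db, Matrix.diagonal_apply_eq, Matrix.smul_apply,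
        Matrix.one_apply_eq, smul_eq_mul, mul_one, if_true, if_neg (h01 (k := k))] at e0 e1
      have h3 : (1 : ↥(fixField σ)) = -1 := e0.trans e1.symm
      have h4 : (1 : F) = -1 := by
        have := congrArg (fixField σ).subtype h3
        simpa using this
      have h5 : (2 : F) = 0 := by linear_combination h4
      have h6 : r = 2 := (two_eq_zero_iff (p := r)).mp h5
      exact hpr (hp2.trans h6.symm)
    haveI : Fact (Nat.Prime 2) := ⟨Nat.prime_two⟩
    have h3 := orderOf_eq_prime h1 h2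
    have h4 : p = orderOf (psi (k + 2) σ d) := hp2.trans h3.symm
    rw [h4]
    exact Subgroup.orderOf_dvd_natCard _ (MonoidHom.mem_range.mpr ⟨d, rfl⟩)
  · have hodd : Odd p := hp.out.odd_of_ne_two hp2
    obtain ⟨x, hx⟩ := exists_prime_orderOf_dvd_card' p hdvd
    have hk₁ : fAut σ x.1 = x.1 := x.2
    have hok : orderOf x.1 = p := by rw [Subgroup.orderOf_coe]; exact hx
    have hod : orderOf (MulAut.conj x.1) = p := by
      rw [orderOf_injective _ (conj_injective hm) x.1]; exact hok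
    obtain ⟨s, hs⟩ := psi_sq σ hp.out.pos hord hm hk₁
    obtain ⟨j, hj⟩ := hodd
    have hd : MulAut.conj x.1 = (psi (k + 2) σ s) ^ (j + 1) := by
      rw [← hs, ← pow_two, ← pow_mul]
      have : 2 * (j + 1) = p + 1 := by omega
      rw [this, pow_succ, ← hod, pow_orderOf_eq_one, one_mul]
    rw [← hod]
    apply Subgroup.orderOf_dvd_natCard
    rw [hd]
    exact Subgroup.pow_mem _ (MonoidHom.mem_range.mpr ⟨s, rfl⟩) _

include hr in
theorem psi_transv (v : Fin (k + 2) ⊕ Fin (k + 2) → F) (a : F) (hv : ∀ i, σ (v i) = v i)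
    (ha : σ a = a) :
    ∃ s : symplecticGroup (Fin (k + 2)) ↥(fixField σ),
      psi (k + 2) σ s = MulAut.conj (pr (transv (k + 2) v a)) := by
  refine ⟨transv (k + 2) (fun i => ⟨v i, (mem_fixField σ _).mpr (hv i)⟩)
    ⟨a, (mem_fixField σ _).mpr ha⟩, ?_⟩
  rw [psi_eq_conj, mapSp_transv]
  rfl

/-- if `y` commutes with conjugation by `t` then `y` fixes `t` -/
theorem fix_of_commute_conj (hm : 2 ≤ k + 2) (y : MulAut (Cfsg.PSp (k + 2) F))
    (t : Cfsg.PSp (k + 2) F) (h : y * MulAut.conj t = MulAut.conj t * y) : y t = t := by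
  rw [conj_comm_aut] at h
  exact conj_injective hm (mul_right_cancel h)

include hr hp hord hpr in
/-- the core of the argument: a `p'`-subgroup of `C(fAut σ)` normalized by the inner
automorphisms centralizing `fAut σ` is trivial if `p` divides the number of fixed points -/
theorem core_bot (N' : Subgroup (MulAut (Cfsg.PSp (k + 2) F)))
    (hcent : ∀ n ∈ N', fAut σ * n = n * fAut σ)
    (hnorm : ∀ k₁ : Cfsg.PSp (k + 2) F, fAut σ k₁ = k₁ → ∀ n ∈ N',
      MulAut.conj k₁ * n * (MulAut.conj k₁)⁻¹ ∈ N')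
    (hcop : (Nat.card N').Coprime p)
    (hdvd : p ∣ Nat.card ↥(FixK (k + 2) σ)) : N' = ⊥ := by
  classical
  have hm : 2 ≤ k + 2 := by omega
  have hm1 : 1 ≤ k + 2 := by omega
  have hφord : orderOf (fAut (m := k + 2) σ) = p := by rw [orderOf_fAut hm σ]; exact hord
  have hzp : N' ⊓ Subgroup.zpowers (fAut (m := k + 2) σ) = ⊥ := by
    apply (Subgroup.disjoint_of_coprime_natCard _).eq_bot
    rw [Nat.card_zpowers, hφord]
    exact hcop
  -- `psi s` normalizes `N'`
  have hnormψ : ∀ (s : symplecticGroup (Fin (k + 2)) ↥(fixField σ)), ∀ n ∈ N',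
      psi (k + 2) σ s * n * (psi (k + 2) σ s)⁻¹ ∈ N' := by
    intro s n hn
    rw [psi_eq_conj]
    exact hnorm _ (fAut_mapSp σ s) n hn
  -- the preimage of `N'` in `Sp(F₀)`
  have hDn : (N'.comap (psi (k + 2) σ)).Normal := by
    refine ⟨fun s hs t => ?_⟩
    rw [Subgroup.mem_comap, map_mul, map_mul, map_inv]
    exact hnormψ t _ hs
  have hfinF₀ : Finite ↥(fixField σ) := Subtype.finite
  have hfinSp : Finite (symplecticGroup (Fin (k + 2)) ↥(fixField σ)) := Subtype.finite
  -- `N'` meets the subfield subgroup trivially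
  have hD : ∀ d ∈ N', d ∈ (psi (k + 2) σ).range → d = 1 := by
    rcases sp_normal_dichotomy hm1 (N'.comap (psi (k + 2) σ)) with hA | hB
    · rintro d hd ⟨s, rfl⟩
      obtain ⟨a, ha⟩ := hA s hd
      rw [psi_apply, ← MonoidHom.mem_ker, PhiSp_ker _ hm, Subgroup.mem_subgroupOf]
      exact mem_scalars_of_eq_smul hm1 _ a ha
    · exfalso
      haveI : CharP ↥(fixField σ) r :=
        RingHom.charP (fixField σ).subtype Subtype.val_injective r
      obtain ⟨n, hn⟩ := index_eq_pow_of_generated (r := r)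
        {A : symplecticGroup (Fin (k + 2)) ↥(fixField σ) | ∃ (w : Fin (k + 2) ⊕ Fin (k + 2) →
          ↥(fixField σ)) (c : ↥(fixField σ)), (A : Matrix (Fin (k + 2) ⊕ Fin (k + 2))
            (Fin (k + 2) ⊕ Fin (k + 2)) ↥(fixField σ)) = Cfsg.sympTransvection (k + 2) w c}
        (Cfsg.Agent.S0765.result (k + 2))
        (by
          rintro A ⟨w, c, hA⟩
          have hA' : A = transv (k + 2) w c := Subtype.ext hA
          rw [hA', transv_pow, CharP.cast_eq_zero, zero_mul, transv_zero])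
        (N'.comap (psi (k + 2) σ)) hB
      rw [Subgroup.index_comap] at hn
      have h1 := Subgroup.card_mul_index (N'.subgroupOf (psi (k + 2) σ).range)
      have h2 : (N'.subgroupOf (psi (k + 2) σ).range).index = r ^ n := hn
      rw [h2] at h1
      have h3 := dvd_card_range_psi σ hord hpr hdvd
      rw [← h1] at h3
      have h4 : p ∣ Nat.card ↥(N'.subgroupOf (psi (k + 2) σ).range) := by
        rcases (Nat.Prime.dvd_mul hp.out).mp h3 with h | h
        · exact h
        · exfalso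
          have h5 := hp.out.dvd_of_dvd_pow h
          exact hpr ((Nat.prime_dvd_prime_iff_eq hp.out hr.out).mp h5)
      have h5 : Nat.card ↥(N'.subgroupOf (psi (k + 2) σ).range) ∣ Nat.card ↥N' := by
        rw [← Subgroup.card_map_of_injective (Subgroup.subtype_injective (psi (k + 2) σ).range),
          Subgroup.subgroupOf_map_subtype]
        exact Subgroup.card_dvd_of_le inf_le_left
      have h6 := Nat.dvd_gcd (h4.trans h5) (dvd_refl p)
      rw [Nat.Coprime] at hcop
      rw [hcop] at h6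
      exact hp.out.one_lt.ne' (Nat.dvd_one.mp h6)
  -- inner elements of `N'` centralizing `fAut σ` are trivial
  have hinner : ∀ k₁ : Cfsg.PSp (k + 2) F, fAut σ k₁ = k₁ → MulAut.conj k₁ ∈ N' →
      MulAut.conj k₁ = 1 := by
    intro k₁ hk₁ hmem
    have hcomm : ∀ s : symplecticGroup (Fin (k + 2)) ↥(fixField σ),
        MulAut.conj k₁ * psi (k + 2) σ s = psi (k + 2) σ s * MulAut.conj k₁ := by
      intro s
      have h1 : MulAut.conj k₁ * psi (k + 2) σ s * (MulAut.conj k₁)⁻¹ * (psi (k + 2) σ s)⁻¹ = 1 := by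
        apply hD
        · have h2 := hnormψ s _ (N'.inv_mem hmem)
          have h3 := N'.mul_mem hmem h2
          have h4 : MulAut.conj k₁ * (psi (k + 2) σ s * (MulAut.conj k₁)⁻¹ * (psi (k + 2) σ s)⁻¹) =
              MulAut.conj k₁ * psi (k + 2) σ s * (MulAut.conj k₁)⁻¹ * (psi (k + 2) σ s)⁻¹ := by
            group
          rwa [h4] at h3
        · obtain ⟨s', hs'⟩ := psi_conj σ hp.out.pos hord hm hk₁ s
          rw [hs', ← map_inv, ← map_mul]
          exact MonoidHom.mem_range.mpr ⟨_, rfl⟩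
      calc MulAut.conj k₁ * psi (k + 2) σ s
          = (MulAut.conj k₁ * psi (k + 2) σ s * (MulAut.conj k₁)⁻¹ * (psi (k + 2) σ s)⁻¹) *
            (psi (k + 2) σ s * MulAut.conj k₁) := by group
        _ = _ := by rw [h1, one_mul]
    have hz : MulAut.conj k₁ ∈ Subgroup.zpowers (fAut (m := k + 2) σ) := by
      apply mem_zpowers_of_fix σ
      intro v a hv ha
      obtain ⟨s, hs⟩ := psi_transv σ v a hv ha
      apply fix_of_commute_conj hm
      rw [← hs]
      exact hcomm s
    have : MulAut.conj k₁ ∈ N' ⊓ Subgroup.zpowers (fAut (m := k + 2) σ) := ⟨hmem, hz⟩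
    rw [hzp] at this
    exact this
  -- every element of `N'` fixes the fixed points of `fAut σ`
  rw [eq_bot_iff]
  intro n hn
  have hfixn : ∀ k₁ : Cfsg.PSp (k + 2) F, fAut σ k₁ = k₁ → n k₁ = k₁ := by
    intro k₁ hk₁
    have hnk : fAut σ (n k₁) = n k₁ := by
      have := DFunLike.congr_fun (hcent n hn) k₁
      rw [MulAut.mul_apply, MulAut.mul_apply, hk₁] at this
      exact this
    have h1 : MulAut.conj (n k₁ * k₁⁻¹) ∈ N' := by
      have h2 := hnorm k₁ hk₁ _ (N'.inv_mem hn)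
      have h3 := N'.mul_mem hn h2
      have h4 : n * (MulAut.conj k₁ * n⁻¹ * (MulAut.conj k₁)⁻¹) = MulAut.conj (n k₁ * k₁⁻¹) := by
        rw [map_mul, map_inv]
        calc n * (MulAut.conj k₁ * n⁻¹ * (MulAut.conj k₁)⁻¹)
            = (n * MulAut.conj k₁) * n⁻¹ * (MulAut.conj k₁)⁻¹ := by group
          _ = (MulAut.conj (n k₁) * n) * n⁻¹ * (MulAut.conj k₁)⁻¹ := by rw [conj_comm_aut]
          _ = _ := by group
      rwa [h4] at h3
    have h5 : fAut σ (n k₁ * k₁⁻¹) = n k₁ * k₁⁻¹ := by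
      rw [map_mul, map_inv, hnk, hk₁]
    have h6 := hinner _ h5 h1
    have h7 := conj_injective hm (h6.trans (map_one _).symm)
    exact mul_inv_eq_one.mp h7
  have hz : n ∈ Subgroup.zpowers (fAut (m := k + 2) σ) := by
    apply mem_zpowers_of_fix σ
    intro v a hv ha
    apply hfixn
    rw [fAut_pr, fieldSp_transv, ha]
    congr 2
    ext i
    exact hv i
  have : n ∈ N' ⊓ Subgroup.zpowers (fAut (m := k + 2) σ) := ⟨hn, hz⟩
  rw [hzp] at this
  exact this

theorem t0_ne_one : t0 k F ≠ 1 := by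
  intro h
  have h1 : pr (transv (k + 2) (e0 k F) (1 : F)) = pr (transv (k + 2) (e0 k F) 0) := by
    rw [transv_zero, map_one]
    exact h
  exact one_ne_zero (pr_transv_e0_inj h1)

theorem fAut_t0 : fAut σ (t0 k F) = t0 k F := by
  rw [t0_def, fAut_transv_e0, map_one]

include hr hp hord hpr in
/-- local balance for a standard field automorphism -/
theorem balance_std (A : Subgroup (MulAut (Cfsg.PSp (k + 2) F)))
    (hinn : ∀ k₁ : Cfsg.PSp (k + 2) F, MulAut.conj k₁ ∈ A) :
    Cfsg.pPrimeCore p ↥(A ⊓ Subgroup.centralizer {fAut (m := k + 2) σ}) ≠ ⊥ ↔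
      Nat.Coprime p (Nat.card ↥(FixK (k + 2) σ)) := by
  have hm : 2 ≤ k + 2 := by omega
  have hconjH : ∀ k₁ : Cfsg.PSp (k + 2) F, fAut σ k₁ = k₁ →
      MulAut.conj k₁ ∈ A ⊓ Subgroup.centralizer {fAut (m := k + 2) σ} := by
    intro k₁ hk₁
    refine ⟨hinn k₁, Subgroup.mem_centralizer_iff.mpr ?_⟩
    intro z hz
    rw [Set.mem_singleton_iff] at hz
    subst hz
    exact (fAut_comm_conj_iff σ hm k₁).mpr hk₁
  have hcentH : ∀ h ∈ A ⊓ Subgroup.centralizer {fAut (m := k + 2) σ},
      fAut σ * h = h * fAut σ := by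
    intro h hh
    exact (Subgroup.mem_centralizer_iff.mp hh.2) _ rfl
  rw [pPrimeCore_ne_bot_iff]
  constructor
  · rintro ⟨N, hNn, hNc, hNb⟩
    by_contra hnc
    have hdvd : p ∣ Nat.card ↥(FixK (k + 2) σ) := by
      by_contra hnd
      exact hnc ((Nat.Prime.coprime_iff_not_dvd hp.out).mpr hnd)
    apply hNb
    have hinj := Subgroup.subtype_injective (A ⊓ Subgroup.centralizer {fAut (m := k + 2) σ})
    rw [← Subgroup.map_eq_bot_iff_of_injective N hinj]
    apply core_bot σ hord hpr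
    · rintro n ⟨h, hh, rfl⟩
      exact hcentH h.1 h.2
    · rintro k₁ hk₁ n ⟨h, hh, rfl⟩
      refine ⟨⟨MulAut.conj k₁, hconjH k₁ hk₁⟩ * h * ⟨MulAut.conj k₁, hconjH k₁ hk₁⟩⁻¹,
        hNn.conj_mem h hh _, rfl⟩
    · rw [Subgroup.card_map_of_injective hinj]
      exact hNc
    · exact hdvd
  · intro hcop
    have hle : (FixK (k + 2) σ).map (MulAut.conj : Cfsg.PSp (k + 2) F →* _) ≤
        A ⊓ Subgroup.centralizer {fAut (m := k + 2) σ} := by
      rintro _ ⟨k₁, hk₁, rfl⟩
      exact hconjH k₁ hk₁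
    refine ⟨((FixK (k + 2) σ).map (MulAut.conj : Cfsg.PSp (k + 2) F →* _)).subgroupOf _,
      ?_, ?_, ?_⟩
    · refine ⟨fun n hn h => ?_⟩
      rw [Subgroup.mem_subgroupOf] at hn ⊢
      obtain ⟨k₁, hk₁, hk₁n⟩ := hn
      refine ⟨h.1 k₁, ?_, ?_⟩
      · show fAut σ (h.1 k₁) = h.1 k₁
        have hk₁' : fAut σ k₁ = k₁ := hk₁
        have := DFunLike.congr_fun (hcentH h.1 h.2) k₁
        rw [MulAut.mul_apply, MulAut.mul_apply, hk₁'] at this
        exact this
      · show MulAut.conj (h.1 k₁) = h.1 * n.1 * h.1⁻¹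
        rw [← hk₁n]
        have := conj_comm_aut h.1 k₁
        calc MulAut.conj (h.1 k₁) = (MulAut.conj (h.1 k₁) * h.1) * h.1⁻¹ := by group
          _ = _ := by rw [← this]
    · rw [Nat.card_congr (Subgroup.subgroupOfEquivOfLe hle).toEquiv,
        Subgroup.card_map_of_injective (conj_injective hm)]
      exact hcop.symm
    · intro hbot
      have h1 : (⟨MulAut.conj (t0 k F), hconjH _ (fAut_t0 σ)⟩ :
          ↥(A ⊓ Subgroup.centralizer {fAut (m := k + 2) σ})) ∈
          ((FixK (k + 2) σ).map (MulAut.conj : Cfsg.PSp (k + 2) F →* _)).subgroupOf _ := by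
        rw [Subgroup.mem_subgroupOf]
        exact ⟨t0 k F, fAut_t0 σ, rfl⟩
      rw [hbot, Subgroup.mem_bot] at h1
      have h2 : MulAut.conj (t0 k F) = 1 := congrArg Subtype.val h1
      exact t0_ne_one (conj_injective hm (h2.trans (map_one _).symm))

end main

/-- **Local balance for `PSp`**, automorphisms of prime order outside the inner-diagonal group. -/
theorem balance_main [Fintype F] {r : ℕ} [hr : Fact r.Prime] [CharP F r] {m : ℕ} (hm : 2 ≤ m)
    (hs : m = 2 → 3 ≤ Fintype.card F) (A : Subgroup (MulAut (Cfsg.PSp m F)))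
    (hinn : ∀ k : Cfsg.PSp m F, MulAut.conj k ∈ A) {p : ℕ} [hp : Fact p.Prime] (hpr : p ≠ r)
    (x : MulAut (Cfsg.PSp m F)) (hxA : x ∈ A) (hord : orderOf x = p)
    (hnot : ¬ Cfsg.IsInnerDiagonalAutPSp x) :
    Cfsg.pPrimeCore p ↥(A ⊓ Subgroup.centralizer {x}) ≠ ⊥ ↔
      (Cfsg.IsFieldAutClassPSp x ∧ Nat.Coprime p (Nat.card
        ↥(MonoidHom.eqLocus x.toMonoidHom (MonoidHom.id (Cfsg.PSp m F))))) := by
  obtain ⟨g, σ, hσ, hx⟩ := exists_conj_std hm hs hp.out hpr x hord hnot
  obtain ⟨k, rfl⟩ : ∃ k, m = k + 2 := ⟨m - 2, by omega⟩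
  have hφ : (cAut g)⁻¹ * x * (cAut g)⁻¹⁻¹ = fAut σ := by
    rw [hx]; group
  have hfield : Cfsg.IsFieldAutClassPSp x := by
    refine ⟨(cAut g)⁻¹, σ, ?_, (isStdFieldAut_iff σ _).mpr hφ⟩
    intro h
    have h1 : σ = 1 := h
    rw [h1, orderOf_one] at hσ
    exact hp.out.one_lt.ne hσ
  have hcard : Nat.card ↥(MonoidHom.eqLocus x.toMonoidHom (MonoidHom.id (Cfsg.PSp (k + 2) F))) =
      Nat.card ↥(FixK (k + 2) σ) := by
    have h1 : MonoidHom.eqLocus x.toMonoidHom (MonoidHom.id (Cfsg.PSp (k + 2) F)) =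
        (FixK (k + 2) σ).map (cAut g).toMonoidHom := by
      ext y
      rw [Subgroup.mem_map]
      constructor
      · intro hy
        have hy' : x y = y := hy
        refine ⟨(cAut g)⁻¹ y, ?_, MulAut.apply_inv_self _ _ _⟩
        show fAut σ ((cAut g)⁻¹ y) = (cAut g)⁻¹ y
        rw [← hφ]
        simp only [MulAut.mul_apply, inv_inv, MulAut.apply_inv_self, hy']
      · rintro ⟨z, hz, rfl⟩
        have hz' : fAut σ z = z := hz
        show x (cAut g z) = cAut g z
        rw [hx]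
        simp only [MulAut.mul_apply, MulAut.inv_apply_self, hz']
    rw [h1]
    exact Subgroup.card_map_of_injective (cAut g).injective
  have hinn' : ∀ k₁ : Cfsg.PSp (k + 2) F,
      MulAut.conj k₁ ∈ A.map (MulAut.conj (cAut g)⁻¹).toMonoidHom := by
    intro k₁
    refine ⟨MulAut.conj (cAut g k₁), hinn _, ?_⟩
    show (cAut g)⁻¹ * MulAut.conj (cAut g k₁) * (cAut g)⁻¹⁻¹ = MulAut.conj k₁
    have := conj_comm_aut (cAut g) k₁
    calc (cAut g)⁻¹ * MulAut.conj (cAut g k₁) * (cAut g)⁻¹⁻¹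
        = (cAut g)⁻¹ * (MulAut.conj (cAut g k₁) * cAut g) := by group
      _ = (cAut g)⁻¹ * (cAut g * MulAut.conj k₁) := by rw [this]
      _ = _ := by group
  rw [pPrimeCore_conj_iff A x (cAut g)⁻¹ p, hφ, balance_std σ hσ hpr _ hinn', hcard]
  exact ⟨fun h => ⟨hfield, h⟩, fun h => h.2⟩

end Cfsg.Agent.Lib.Helper44_PSpBalance








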