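import Mathlib

/-!
# S2113 package CYCSYL (architect helper50)
-/

set_option autoImplicit false

namespace Cfsg.Agent.Lib.Helper44_S2113_CYCSYL

/-- The preimage of a cyclic subgroup under a central extension is abelian. -/
theorem comm_of_isCyclic {Γ G : Type*} [Group Γ] [Group G] (σ : Γ →* G)
    (hσ : Function.Surjective σ) (hc : σ.ker ≤ Subgroup.center Γ)
    (H : Subgroup G) (hH : IsCyclic H) (a b : Γ) (ha : σ a ∈ H) (hb : σ b ∈ H) : a * b = b * a := by
  obtain ⟨g, hg⟩ := hH.exists_generator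
  obtain ⟨c, hcg⟩ := hσ g.1
  -- every element of the preimage is `c ^ i * m` with `m` central
  have key : ∀ x : Γ, σ x ∈ H → ∃ (i : ℤ) (m : Γ), (∀ y : Γ, y * m = m * y) ∧ x = c ^ i * m := by
    intro x hx
    obtain ⟨i, hi⟩ := Subgroup.mem_zpowers_iff.1 (hg ⟨σ x, hx⟩)
    have hi' : g.1 ^ i = σ x := by
      have := congrArg Subtype.val hi
      simpa using this
    refine ⟨i, (c ^ i)⁻¹ * x, ?_, by group⟩
    have hker : (c ^ i)⁻¹ * x ∈ σ.ker := by
      rw [MonoidHom.mem_ker, map_mul, map_inv, map_zpow, hcg, hi', inv_mul_cancel]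
    have hcen := hc hker
    rw [Subgroup.mem_center_iff] at hcen
    exact hcen
  obtain ⟨i, m, hm, rfl⟩ := key a ha
  obtain ⟨j, m', hm', rfl⟩ := key b hb
  have hcc : c ^ i * c ^ j = c ^ j * c ^ i := by
    rw [← zpow_add, ← zpow_add, add_comm]
  calc c ^ i * m * (c ^ j * m') = c ^ i * (m * c ^ j) * m' := by group
    _ = c ^ i * (c ^ j * m) * m' := by rw [hm (c ^ j)]
    _ = (c ^ i * c ^ j) * (m * m') := by group
    _ = (c ^ j * c ^ i) * (m' * m) := by rw [hcc, hm m']
    _ = c ^ j * (c ^ i * m') * m := by group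
    _ = c ^ j * (m' * c ^ i) * m := by rw [hm' (c ^ i)]
    _ = c ^ j * m' * (c ^ i * m) := by group

end Cfsg.Agent.Lib.Helper44_S2113_CYCSYL
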