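import Mathlib
import Cfsg.Prelude.Def_KGroupFacts

/-!
# S2113 package GLUE (architect helper50)
-/

set_option autoImplicit false

universe u

namespace Cfsg.Agent.Lib.Helper44_S2113_GLUE

/-- If in every finite stem extension of the finite group `G` the kernel has no element of prime order,
the Schur multiplier of `G` is trivial. -/
theorem schur_one_of_forall {G : Type u} [Group G] [Finite G]
    (H : ∀ (Γ : Type u) [Group Γ] [Finite Γ] (σ : Γ →* G), Cfsg.IsStemExtension σ →
      ∀ p : ℕ, p.Prime → ∀ z ∈ σ.ker, z ^ p = 1 → z = 1) :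
    Cfsg.HasCyclicSchurMultiplier G 1 := by
  refine ⟨⟨G, inferInstance, inferInstance, MonoidHom.id G, ?_, ?_⟩, ?_⟩
  · refine ⟨Function.surjective_id, ?_, ?_⟩
    · rw [MonoidHom.ker_id]; exact bot_le
    · rw [MonoidHom.ker_id]; exact bot_le
  · have hsub : Subsingleton ↥(MonoidHom.id G).ker := by
      rw [MonoidHom.ker_id]; infer_instance
    have hsub' : Subsingleton (Multiplicative (ZMod 1)) :=
      inferInstanceAs (Subsingleton (ZMod 1))
    exact ⟨{ toFun := fun _ => 1
             invFun := fun _ => 1
             left_inv := fun _ => Subsingleton.elim _ _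
             right_inv := fun _ => Subsingleton.elim _ _
             map_mul' := fun _ _ => Subsingleton.elim _ _ }⟩
  · intro Γ _ _ σ hσ
    have hbot : σ.ker = ⊥ := by
      by_contra hne
      have hnt : Nontrivial ↥σ.ker := (Subgroup.nontrivial_iff_ne_bot _).2 hne
      have hcard : Nat.card ↥σ.ker ≠ 1 := by
        intro h1
        have := (Nat.card_eq_one_iff_unique.1 h1).1
        exact not_subsingleton ↥σ.ker this
      obtain ⟨p, hp, hpd⟩ := Nat.exists_prime_and_dvd hcard
      have : Fact p.Prime := ⟨hp⟩
      obtain ⟨z, hz⟩ := exists_prime_orderOf_dvd_card' (G := ↥σ.ker) p hpd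
      have hz1 : (z : Γ) = 1 := by
        apply H Γ σ hσ p hp z.1 z.2
        have : z ^ p = 1 := by rw [← hz]; exact pow_orderOf_eq_one z
        have h2 := congrArg Subtype.val this
        simpa using h2
      have : z = 1 := Subtype.ext hz1
      rw [this, orderOf_one] at hz
      exact hp.one_lt.ne hz
    refine ⟨1, ?_⟩
    intro x
    refine ⟨1, ?_⟩
    have hx : (x : Γ) ∈ (⊥ : Subgroup Γ) := hbot ▸ x.2
    apply Subtype.ext
    rw [Subgroup.mem_bot] at hx
    simp [hx]

end Cfsg.Agent.Lib.Helper44_S2113_GLUE
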