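import Mathlib

set_option autoImplicit false

/-!
# Helper50_ReeMultDefs: the left-normed iterated commutator (for the S2113 market)

`lnc n x = ⁅ ... ⁅⁅x 0, x 1⁆, x 2⁆ ..., x n⁆` for `x : Fin (n + 1) → P`.
-/

namespace Cfsg.Agent.Lib.Helper50_ReeMultDefs

open scoped commutatorElement

/-- The left-normed commutator of `x 0, ..., x n`. -/
def lnc {P : Type*} [Group P] : (n : ℕ) → (Fin (n + 1) → P) → P
  | 0, x => x 0
  | n + 1, x => ⁅lnc n (Fin.init x), x (Fin.last (n + 1))⁆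

theorem lnc_zero {P : Type*} [Group P] (x : Fin 1 → P) : lnc 0 x = x 0 := rfl

theorem lnc_succ {P : Type*} [Group P] (n : ℕ) (x : Fin (n + 2) → P) :
    lnc (n + 1) x = ⁅lnc n (Fin.init x), x (Fin.last (n + 1))⁆ := rfl

end Cfsg.Agent.Lib.Helper50_ReeMultDefs
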