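import Mathlib

/-!
# S2113 package BRK (architect helper50): the commutator is bimultiplicative modulo `[[X,P],P]`,
and the three subgroups lemma.
-/

set_option autoImplicit false

open scoped commutatorElement

namespace Cfsg.Agent.Lib.Helper99_S2113_BRK

variable {P : Type*} [Group P]

theorem brk_mul_left (X : Subgroup P) [X.Normal] (x x' w : P) (hx : x ∈ X) (hx' : x' ∈ X) :
    (⁅x, w⁆ * ⁅x', w⁆)⁻¹ * ⁅x * x', w⁆ ∈ ⁅⁅X, (⊤ : Subgroup P)⁆, (⊤ : Subgroup P)⁆ := by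
  have hc : ⁅x, w⁆ ∈ ⁅X, (⊤ : Subgroup P)⁆ :=
    Subgroup.commutator_mem_commutator hx (Subgroup.mem_top _)
  have hc' : ⁅x', w⁆ ∈ ⁅X, (⊤ : Subgroup P)⁆ :=
    Subgroup.commutator_mem_commutator hx' (Subgroup.mem_top _)
  have h1 : ⁅⁅x', w⁆, x⁆ ∈ ⁅⁅X, (⊤ : Subgroup P)⁆, (⊤ : Subgroup P)⁆ :=
    Subgroup.commutator_mem_commutator hc' (Subgroup.mem_top _)
  have h2 : ⁅(⁅x', w⁆)⁻¹, (⁅x, w⁆)⁻¹⁆ ∈ ⁅⁅X, (⊤ : Subgroup P)⁆, (⊤ : Subgroup P)⁆ :=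
    Subgroup.commutator_mem_commutator (inv_mem hc') (Subgroup.mem_top _)
  have hMn : (⁅⁅X, (⊤ : Subgroup P)⁆, (⊤ : Subgroup P)⁆).Normal := inferInstance
  have key : (⁅x, w⁆ * ⁅x', w⁆)⁻¹ * ⁅x * x', w⁆ =
      ((⁅x, w⁆ * ⁅x', w⁆)⁻¹ * (⁅⁅x', w⁆, x⁆)⁻¹ * ((⁅x, w⁆ * ⁅x', w⁆)⁻¹)⁻¹) *
        ⁅(⁅x', w⁆)⁻¹, (⁅x, w⁆)⁻¹⁆ := by
    simp only [commutatorElement_def]; group
  rw [key]
  exact Subgroup.mul_mem _ (hMn.conj_mem _ (Subgroup.inv_mem _ h1) _) h2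

theorem brk_mul_right (X : Subgroup P) [X.Normal] (x w w' : P) (hx : x ∈ X) :
    (⁅x, w⁆ * ⁅x, w'⁆)⁻¹ * ⁅x, w * w'⁆ ∈ ⁅⁅X, (⊤ : Subgroup P)⁆, (⊤ : Subgroup P)⁆ := by
  have hc' : ⁅x, w'⁆ ∈ ⁅X, (⊤ : Subgroup P)⁆ :=
    Subgroup.commutator_mem_commutator hx (Subgroup.mem_top _)
  have key : (⁅x, w⁆ * ⁅x, w'⁆)⁻¹ * ⁅x, w * w'⁆ = ⁅(⁅x, w'⁆)⁻¹, w⁆ := by
    simp only [commutatorElement_def]; group
  rw [key]
  exact Subgroup.commutator_mem_commutator (inv_mem hc') (Subgroup.mem_top _)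

/-- Three subgroups lemma. -/
theorem brk_comm_right (X : Subgroup P) [X.Normal] (x w : P) (hx : x ∈ X) (hw : w ∈ commutator P) :
    ⁅x, w⁆ ∈ ⁅⁅X, (⊤ : Subgroup P)⁆, (⊤ : Subgroup P)⁆ := by
  obtain ⟨M, hM⟩ : ∃ M, M = ⁅⁅X, (⊤ : Subgroup P)⁆, (⊤ : Subgroup P)⁆ := ⟨_, rfl⟩
  have hMn : M.Normal := by rw [hM]; infer_instance
  rw [← hM]
  have hf : Function.Surjective (QuotientGroup.mk' M) := QuotientGroup.mk'_surjective M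
  have htop : (⊤ : Subgroup P).map (QuotientGroup.mk' M) = ⊤ :=
    Subgroup.map_top_of_surjective _ hf
  have hbot : ⁅⁅X.map (QuotientGroup.mk' M), (⊤ : Subgroup (P ⧸ M))⁆,
      (⊤ : Subgroup (P ⧸ M))⁆ = ⊥ := by
    rw [← htop, ← Subgroup.map_commutator, ← Subgroup.map_commutator, ← hM]
    rw [← le_bot_iff, Subgroup.map_le_iff_le_comap]
    intro m hm
    rw [Subgroup.mem_comap, Subgroup.mem_bot]
    exact (QuotientGroup.eq_one_iff m).2 hm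
  have hbot' : ⁅⁅(⊤ : Subgroup (P ⧸ M)), X.map (QuotientGroup.mk' M)⁆,
      (⊤ : Subgroup (P ⧸ M))⁆ = ⊥ := by
    rw [Subgroup.commutator_comm ⊤ (X.map (QuotientGroup.mk' M))]; exact hbot
  have h3 : ⁅⁅(⊤ : Subgroup (P ⧸ M)), (⊤ : Subgroup (P ⧸ M))⁆, X.map (QuotientGroup.mk' M)⁆ = ⊥ :=
    Subgroup.commutator_commutator_eq_bot_of_rotate hbot' hbot
  have hw' : (QuotientGroup.mk' M) w ∈ ⁅(⊤ : Subgroup (P ⧸ M)), (⊤ : Subgroup (P ⧸ M))⁆ := by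
    have h0 : w ∈ ⁅(⊤ : Subgroup P), (⊤ : Subgroup P)⁆ := hw
    have := Subgroup.mem_map_of_mem (QuotientGroup.mk' M) h0
    rwa [Subgroup.map_commutator, htop] at this
  have h4 : ⁅(QuotientGroup.mk' M) w, (QuotientGroup.mk' M) x⁆ ∈
      ⁅⁅(⊤ : Subgroup (P ⧸ M)), (⊤ : Subgroup (P ⧸ M))⁆, X.map (QuotientGroup.mk' M)⁆ :=
    Subgroup.commutator_mem_commutator hw' (Subgroup.mem_map_of_mem _ hx)
  rw [h3, Subgroup.mem_bot] at h4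
  have h5 : (QuotientGroup.mk' M) ⁅x, w⁆ = 1 := by
    rw [map_commutatorElement, ← commutatorElement_inv, h4, inv_one]
  exact (QuotientGroup.eq_one_iff _).1 h5

end Cfsg.Agent.Lib.Helper99_S2113_BRK
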