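import Mathlib
import Cfsg.Agent.Lib.Helper50_ReeMultDefs
import Cfsg.Agent.Lib.Helper99_S2113_BRK

/-!
# S2113 package LNC1 (architect helper50): basic facts on the left-normed commutator `lnc`.
-/

set_option autoImplicit false

open scoped commutatorElement
open Cfsg.Agent.Lib.Helper50_ReeMultDefs

namespace Cfsg.Agent.Lib.Helper99_S2113_LNC1

variable {P : Type*} [Group P]

/-- (LNC1) -/
theorem lnc_mem (n : ℕ) (x : Fin (n + 1) → P) : lnc n x ∈ (⊤ : Subgroup P).lowerCentralSeries n := by
  induction n with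
  | zero => exact Subgroup.mem_top _
  | succ n ih =>
    rw [lnc_succ, Subgroup.lowerCentralSeries_succ]
    exact Subgroup.commutator_mem_commutator (ih _) (Subgroup.mem_top _)

/-- (LNC1) -/
theorem lnc_map {P' : Type*} [Group P'] (f : P →* P') (n : ℕ) (x : Fin (n + 1) → P) :
    f (lnc n x) = lnc n (f ∘ x) := by
  induction n with
  | zero => rfl
  | succ n ih =>
    rw [lnc_succ, lnc_succ, map_commutatorElement, ih, Fin.comp_init]
    rfl

theorem lnc_center_aux (n : ℕ) (x : Fin (n + 1) → P) (i : Fin (n + 1))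
    (hi : x i ∈ Subgroup.center P) :
    lnc n x ∈ Subgroup.center P ∧ (1 ≤ n → lnc n x = 1) := by
  induction n with
  | zero =>
    refine ⟨?_, fun h => absurd h (by norm_num)⟩
    have : i = 0 := Fin.ext (by omega)
    rw [lnc_zero, ← this]; exact hi
  | succ n ih =>
    have h1 : lnc (n + 1) x = 1 := by
      rw [lnc_succ]
      rcases Fin.eq_castSucc_or_eq_last i with ⟨j, rfl⟩ | rfl
      · have hc := (ih (Fin.init x) j hi).1
        rw [commutatorElement_eq_one_iff_mul_comm]
        exact (Subgroup.mem_center_iff.1 hc _).symm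
      · rw [commutatorElement_eq_one_iff_mul_comm]
        exact Subgroup.mem_center_iff.1 hi _
    exact ⟨by rw [h1]; exact Subgroup.one_mem _, fun _ => h1⟩

/-- (LNC1) -/
theorem lnc_center (n : ℕ) (hn : 1 ≤ n) (x : Fin (n + 1) → P) (i : Fin (n + 1))
    (hi : x i ∈ Subgroup.center P) : lnc n x = 1 :=
  (lnc_center_aux n x i hi).2 hn

/-- (LNC1) -/
theorem lnc_comm (n : ℕ) (x : Fin (n + 1) → P) (i : Fin (n + 1)) (hi : x i ∈ commutator P) :
    lnc n x ∈ (⊤ : Subgroup P).lowerCentralSeries (n + 1) := by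
  induction n with
  | zero =>
    have : i = 0 := Fin.ext (by omega)
    rw [lnc_zero, ← this, Subgroup.top_lowerCentralSeries_one]; exact hi
  | succ n ih =>
    rw [lnc_succ]
    rcases Fin.eq_castSucc_or_eq_last i with ⟨j, rfl⟩ | rfl
    · rw [Subgroup.lowerCentralSeries_succ]
      exact Subgroup.commutator_mem_commutator (ih (Fin.init x) j hi) (Subgroup.mem_top _)
    · have hnorm : ((⊤ : Subgroup P).lowerCentralSeries n).Normal := inferInstance
      have := Helper99_S2113_BRK.brk_comm_right ((⊤ : Subgroup P).lowerCentralSeries n)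
        (lnc n (Fin.init x)) (x (Fin.last (n + 1))) (lnc_mem n _) hi
      exact this

end Cfsg.Agent.Lib.Helper99_S2113_LNC1
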