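import Mathlib
import Cfsg.Agent.Lib.Helper50_ReeMultDefs
import Cfsg.Agent.Lib.Helper99_S2113_BRK
import Cfsg.Agent.Lib.Helper99_S2113_LNC1

set_option autoImplicit false

open scoped commutatorElement
open Cfsg.Agent.Lib.Helper50_ReeMultDefs

namespace Cfsg.Agent.Lib.Helper46_S2113_LNC2

variable {P : Type*} [Group P]

theorem lcs_succ_le (n : ℕ) :
    (⊤ : Subgroup P).lowerCentralSeries (n + 1) ≤ (⊤ : Subgroup P).lowerCentralSeries n :=
  Subgroup.lowerCentralSeries_antitone _ (Nat.le_succ n)

/-- the inductive step of `lnc_update_mul` in an inner variable. -/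
theorem step_inner (n : ℕ) (A A' A'' w : P)
    (hA : A ∈ (⊤ : Subgroup P).lowerCentralSeries n)
    (hA' : A' ∈ (⊤ : Subgroup P).lowerCentralSeries n)
    (hm : (A * A')⁻¹ * A'' ∈ (⊤ : Subgroup P).lowerCentralSeries (n + 1)) :
    (⁅A, w⁆ * ⁅A', w⁆)⁻¹ * ⁅A'', w⁆ ∈ (⊤ : Subgroup P).lowerCentralSeries (n + 2) := by
  have hnorm : ((⊤ : Subgroup P).lowerCentralSeries n).Normal := inferInstance
  obtain ⟨m, hm_def⟩ : ∃ m, m = (A * A')⁻¹ * A'' := ⟨_, rfl⟩
  rw [← hm_def] at hm
  have hA'' : A'' = A * A' * m := by rw [hm_def]; group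
  have e1 := Helper99_S2113_BRK.brk_mul_left ((⊤ : Subgroup P).lowerCentralSeries n) A A' w hA hA'
  have e2 := Helper99_S2113_BRK.brk_mul_left ((⊤ : Subgroup P).lowerCentralSeries n) (A * A') m w
    (Subgroup.mul_mem _ hA hA') (lcs_succ_le n hm)
  have e3 : ⁅m, w⁆ ∈ (⊤ : Subgroup P).lowerCentralSeries (n + 2) := by
    rw [Subgroup.lowerCentralSeries_succ]
    exact Subgroup.commutator_mem_commutator hm (Subgroup.mem_top _)
  have key : (⁅A, w⁆ * ⁅A', w⁆)⁻¹ * ⁅A'', w⁆ =
      ((⁅A, w⁆ * ⁅A', w⁆)⁻¹ * ⁅A * A', w⁆) * ⁅m, w⁆ *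
        ((⁅A * A', w⁆ * ⁅m, w⁆)⁻¹ * ⁅A * A' * m, w⁆) := by
    rw [hA'']; group
  rw [key]
  exact Subgroup.mul_mem _ (Subgroup.mul_mem _ e1 e3) e2

/-- (LNC2) -/
theorem lnc_update_mul (n : ℕ) (x : Fin (n + 1) → P) (i : Fin (n + 1)) (y y' : P) :
    (lnc n (Function.update x i y) * lnc n (Function.update x i y'))⁻¹ *
      lnc n (Function.update x i (y * y')) ∈ (⊤ : Subgroup P).lowerCentralSeries (n + 1) := by
  induction n with
  | zero =>
    have hi : i = 0 := Fin.ext (by omega)
    subst hi
    simp only [lnc_zero, Function.update_self]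
    rw [inv_mul_cancel]; exact Subgroup.one_mem _
  | succ n ih =>
    rcases Fin.eq_castSucc_or_eq_last i with ⟨j, rfl⟩ | rfl
    · have hlast : ∀ c : P, Function.update x (Fin.castSucc j) c (Fin.last (n + 1)) =
          x (Fin.last (n + 1)) := fun c =>
        Function.update_of_ne (Fin.castSucc_lt_last j).ne' _ _
      simp only [lnc_succ, Fin.init_update_castSucc, hlast]
      exact step_inner n _ _ _ _ (Helper99_S2113_LNC1.lnc_mem n _) (Helper99_S2113_LNC1.lnc_mem n _)
        (ih (Fin.init x) j)
    · simp only [lnc_succ, Fin.init_update_last, Function.update_self]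
      have hnorm : ((⊤ : Subgroup P).lowerCentralSeries n).Normal := inferInstance
      exact Helper99_S2113_BRK.brk_mul_right ((⊤ : Subgroup P).lowerCentralSeries n)
        (lnc n (Fin.init x)) y y' (Helper99_S2113_LNC1.lnc_mem n _)

/-- a central-times-commutator entry makes `lnc` fall into the next term. -/
theorem lnc_update_mem (n : ℕ) (hn : 1 ≤ n) (x : Fin (n + 1) → P) (i : Fin (n + 1)) (c : P)
    (hc : c ∈ Subgroup.center P ⊔ commutator P) :
    lnc n (Function.update x i c) ∈ (⊤ : Subgroup P).lowerCentralSeries (n + 1) := by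
  have hc' : c ∈ ((Subgroup.center P ⊔ commutator P : Subgroup P) : Set P) := hc
  rw [Subgroup.normal_mul] at hc'
  obtain ⟨z, hz, k, hk, rfl⟩ := hc'
  have h := lnc_update_mul n x i z k
  have h1 : lnc n (Function.update x i z) = 1 :=
    Helper99_S2113_LNC1.lnc_center n hn _ i (by rw [Function.update_self]; exact hz)
  have h2 : lnc n (Function.update x i k) ∈ (⊤ : Subgroup P).lowerCentralSeries (n + 1) :=
    Helper99_S2113_LNC1.lnc_comm n _ i (by rw [Function.update_self]; exact hk)
  rw [h1, one_mul] at h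
  have : lnc n (Function.update x i (z * k)) = lnc n (Function.update x i k) *
      ((lnc n (Function.update x i k))⁻¹ * lnc n (Function.update x i (z * k))) := by group
  rw [this]
  exact Subgroup.mul_mem _ h2 h

/-- changing one entry by a central-times-commutator factor. -/
theorem lnc_update_congr (n : ℕ) (hn : 1 ≤ n) (x : Fin (n + 1) → P) (i : Fin (n + 1)) (c : P)
    (hc : c ∈ Subgroup.center P ⊔ commutator P) :
    (lnc n x)⁻¹ * lnc n (Function.update x i (x i * c)) ∈
      (⊤ : Subgroup P).lowerCentralSeries (n + 1) := by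
  have h := lnc_update_mul n x i (x i) c
  rw [Function.update_eq_self] at h
  have hB := lnc_update_mem n hn x i c hc
  have : (lnc n x)⁻¹ * lnc n (Function.update x i (x i * c)) =
      lnc n (Function.update x i c) * ((lnc n x * lnc n (Function.update x i c))⁻¹ *
        lnc n (Function.update x i (x i * c))) := by group
  rw [this]
  exact Subgroup.mul_mem _ hB h

/-- (LNC2) -/
theorem lnc_congr (n : ℕ) (hn : 1 ≤ n) (x y : Fin (n + 1) → P)
    (h : ∀ i, (x i)⁻¹ * y i ∈ Subgroup.center P ⊔ commutator P) :
    (lnc n x)⁻¹ * lnc n y ∈ (⊤ : Subgroup P).lowerCentralSeries (n + 1) := by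
  classical
  have key : ∀ s : Finset (Fin (n + 1)),
      (lnc n x)⁻¹ * lnc n (fun i => if i ∈ s then y i else x i) ∈
        (⊤ : Subgroup P).lowerCentralSeries (n + 1) := by
    intro s
    induction s using Finset.induction_on with
    | empty =>
      simp only [Finset.notMem_empty, if_false]
      rw [inv_mul_cancel]; exact Subgroup.one_mem _
    | insert a s ha ih =>
      have hupd : (fun i => if i ∈ insert a s then y i else x i) =
          Function.update (fun i => if i ∈ s then y i else x i) a
            ((fun i => if i ∈ s then y i else x i) a * ((x a)⁻¹ * y a)) := by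
        funext i
        by_cases hia : i = a
        · subst hia
          simp [ha]
        · rw [Function.update_of_ne hia]
          simp [Finset.mem_insert, hia]
      have h2 := lnc_update_congr n hn (fun i => if i ∈ s then y i else x i) a _ (h a)
      rw [← hupd] at h2
      have : (lnc n x)⁻¹ * lnc n (fun i => if i ∈ insert a s then y i else x i) =
          ((lnc n x)⁻¹ * lnc n (fun i => if i ∈ s then y i else x i)) *
          ((lnc n (fun i => if i ∈ s then y i else x i))⁻¹ *
            lnc n (fun i => if i ∈ insert a s then y i else x i)) := by group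
      rw [this]
      exact Subgroup.mul_mem _ ih h2
  have := key Finset.univ
  simpa using this

end Cfsg.Agent.Lib.Helper46_S2113_LNC2
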