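import Mathlib
import Cfsg.Agent.Lib.Helper50_ReeMultDefs
import Cfsg.Agent.Lib.Helper99_S2113_BRK
import Cfsg.Agent.Lib.Helper99_S2113_LNC1

set_option autoImplicit false

open scoped commutatorElement
open Cfsg.Agent.Lib.Helper50_ReeMultDefs

namespace Cfsg.Agent.Lib.Helper46_S2113_LNC3

variable {P : Type*} [Group P]

theorem lcs_succ_le (n : ℕ) :
    (⊤ : Subgroup P).lowerCentralSeries (n + 1) ≤ (⊤ : Subgroup P).lowerCentralSeries n :=
  Subgroup.lowerCentralSeries_antitone _ (Nat.le_succ n)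

/-- the step: commutators `⁅p, q⁆` with `p ∈ lcs n`, given the statement at `n`. -/
theorem comm_mem_of_gen (n : ℕ)
    (ih : (⊤ : Subgroup P).lowerCentralSeries n ≤
      Subgroup.closure (Set.range (lnc (P := P) n)) ⊔ (⊤ : Subgroup P).lowerCentralSeries (n + 1))
    (p : P) (hp : p ∈ (⊤ : Subgroup P).lowerCentralSeries n) (q : P) :
    ⁅p, q⁆ ∈ Subgroup.closure (Set.range (lnc (P := P) (n + 1))) ⊔
      (⊤ : Subgroup P).lowerCentralSeries (n + 2) := by
  set N : Subgroup P := Subgroup.closure (Set.range (lnc (P := P) (n + 1))) ⊔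
      (⊤ : Subgroup P).lowerCentralSeries (n + 2) with hN
  have hMN : (⊤ : Subgroup P).lowerCentralSeries (n + 2) ≤ N := le_sup_right
  have hnorm : ((⊤ : Subgroup P).lowerCentralSeries n).Normal := inferInstance
  -- the subgroup S
  let S : Subgroup P :=
    { carrier := {p | p ∈ (⊤ : Subgroup P).lowerCentralSeries n ∧ ∀ q, ⁅p, q⁆ ∈ N}
      one_mem' := ⟨Subgroup.one_mem _, fun q => by
        rw [commutatorElement_one_left]; exact Subgroup.one_mem _⟩
      mul_mem' := by
        rintro p1 p2 ⟨h1, h1'⟩ ⟨h2, h2'⟩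
        refine ⟨Subgroup.mul_mem _ h1 h2, fun q => ?_⟩
        have hb := Helper99_S2113_BRK.brk_mul_left
          ((⊤ : Subgroup P).lowerCentralSeries n) p1 p2 q h1 h2
        have : ⁅p1 * p2, q⁆ = (⁅p1, q⁆ * ⁅p2, q⁆) * ((⁅p1, q⁆ * ⁅p2, q⁆)⁻¹ * ⁅p1 * p2, q⁆) := by
          group
        rw [this]
        exact Subgroup.mul_mem _ (Subgroup.mul_mem _ (h1' q) (h2' q)) (hMN hb)
      inv_mem' := by
        rintro p1 ⟨h1, h1'⟩
        refine ⟨Subgroup.inv_mem _ h1, fun q => ?_⟩
        have hb := Helper99_S2113_BRK.brk_mul_left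
          ((⊤ : Subgroup P).lowerCentralSeries n) p1 p1⁻¹ q h1 (Subgroup.inv_mem _ h1)
        rw [mul_inv_cancel, commutatorElement_one_left, mul_one] at hb
        have hb' := Subgroup.inv_mem _ hb
        rw [inv_inv] at hb'
        have : ⁅p1⁻¹, q⁆ = (⁅p1, q⁆)⁻¹ * (⁅p1, q⁆ * ⁅p1⁻¹, q⁆) := by group
        rw [this]
        exact Subgroup.mul_mem _ (Subgroup.inv_mem _ (h1' q)) (hMN hb') }
  have hS1 : Subgroup.closure (Set.range (lnc (P := P) n)) ≤ S := by
    rw [Subgroup.closure_le]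
    rintro _ ⟨x, rfl⟩
    refine ⟨Helper99_S2113_LNC1.lnc_mem n x, fun q => ?_⟩
    have : ⁅lnc n x, q⁆ = lnc (n + 1) (Fin.snoc (α := fun _ => P) x q) := by
      rw [lnc_succ, Fin.init_snoc, Fin.snoc_last]
    rw [this]
    exact le_sup_left (a := Subgroup.closure (Set.range (lnc (P := P) (n + 1))))
      (Subgroup.subset_closure ⟨_, rfl⟩)
  have hS2 : (⊤ : Subgroup P).lowerCentralSeries (n + 1) ≤ S := by
    intro m hm
    refine ⟨lcs_succ_le n hm, fun q => hMN ?_⟩
    rw [Subgroup.lowerCentralSeries_succ]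
    exact Subgroup.commutator_mem_commutator hm (Subgroup.mem_top _)
  exact ((ih.trans (sup_le hS1 hS2)) hp).2 q

/-- (LNC3) -/
theorem lnc_gen (n : ℕ) : (⊤ : Subgroup P).lowerCentralSeries n ≤
    Subgroup.closure (Set.range (lnc (P := P) n)) ⊔ (⊤ : Subgroup P).lowerCentralSeries (n + 1) := by
  induction n with
  | zero =>
    intro p _
    refine le_sup_left (a := Subgroup.closure (Set.range (lnc (P := P) 0)))
      (Subgroup.subset_closure ⟨fun _ => p, rfl⟩)
  | succ n ih =>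
    rw [Subgroup.lowerCentralSeries_succ, Subgroup.commutator_le]
    intro p hp q _
    exact comm_mem_of_gen n ih p hp q

end Cfsg.Agent.Lib.Helper46_S2113_LNC3
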