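import Mathlib
import Cfsg.Agent.Lib.Helper30_S2113_INV

/-!
# S2113 package NILKSUM (architect helper50): averaging over the torus
-/

set_option autoImplicit false

namespace Cfsg.Agent.Lib.Helper70_S2113_NILKSUM

/-- product over a finite field = value at `0` times the product over the units -/
theorem prod_eq_zero_mul_prod_units {K : Type*} [Field K] [Fintype K] [DecidableEq K] {A : Type*}
    [CommMonoid A]
    (f : K → A) : ∏ c : K, f c = f 0 * ∏ ν : Kˣ, f (ν : K) := by
  let φ : Kˣ ↪ K := ⟨fun x ↦ x, Units.val_injective⟩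
  have hφ : Finset.univ.map φ = Finset.univ \ {0} := by
    ext x
    simpa only [Finset.mem_map, Finset.mem_univ, Function.Embedding.coeFn_mk, true_and,
      Finset.mem_sdiff, Finset.mem_singleton, φ] using! isUnit_iff_ne_zero
  rw [← Finset.prod_sdiff ({0} : Finset K).subset_univ, Finset.prod_singleton, mul_comm, ← hφ,
    Finset.prod_map]
  rfl

/-- The main argument, with the line sums (package INV) as a hypothesis. -/
theorem fixed_eq_one_of_inv {K : Type*} [Field K] [Fintype K] [CharP K 3] {A : Type*} [CommGroup A]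
    (d k : ℕ) (hK : Fintype.card K = 3 ^ d) (hk1 : 1 ≤ k) (Φ : (Fin k → K) → A)
    (hΦ : ∀ (x : Fin k → K) (i : Fin k) (a b : K),
      Φ (Function.update x i (a + b)) = Φ (Function.update x i a) * Φ (Function.update x i b))
    (hinv : ∀ x : Fin k → K, ∏ c : K, Φ (fun i => c * x i) = 1)
    (ρ : Kˣ → A →* A) (hρ : ∀ (ν : Kˣ) (x : Fin k → K), ρ ν (Φ x) = Φ (fun i => (ν : K) * x i))
    (z : A) (hz : z ∈ Subgroup.closure (Set.range Φ)) (hfix : ∀ ν, ρ ν z = z) : z = 1 := by
  classical
  let i0 : Fin k := ⟨0, hk1⟩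
  -- value `1` when a coordinate vanishes
  have hzero : ∀ x : Fin k → K, Φ (Function.update x i0 0) = 1 := by
    intro x
    have h := hΦ x i0 0 0
    rw [add_zero] at h
    exact (mul_eq_left (a := Φ (Function.update x i0 0))).mp h.symm
  have hzero' : Φ (fun _ => 0) = 1 := by
    have h := hzero (fun _ => 0)
    rwa [Function.update_eq_self_iff.mpr rfl] at h
  -- cubes vanish
  have hcube : ∀ x : Fin k → K, Φ x ^ 3 = 1 := by
    intro x
    have h1 := hΦ x i0 (x i0) (x i0)
    have h2 := hΦ x i0 (x i0 + x i0) (x i0)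
    have h3 : x i0 + x i0 + x i0 = 0 := by
      have : (3 : K) = 0 := by exact_mod_cast CharP.cast_eq_zero K 3
      linear_combination (x i0) * this
    rw [h3, hzero, h1, Function.update_eq_self] at h2
    rw [pow_succ, pow_two]
    exact h2.symm
  have hz3 : z ^ 3 = 1 := by
    have hle : Subgroup.closure (Set.range Φ) ≤ (powMonoidHom 3 : A →* A).ker := by
      rw [Subgroup.closure_le]
      rintro _ ⟨x, rfl⟩
      exact hcube x
    exact hle hz
  -- the norm
  let Nm : A →* A := ∏ ν : Kˣ, ρ ν
  have hNm : ∀ y, Nm y = ∏ ν : Kˣ, ρ ν y := fun y => MonoidHom.finsetProd_apply _ _ y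
  have hNmΦ : ∀ x, Nm (Φ x) = 1 := by
    intro x
    rw [hNm]
    have h := hinv x
    rw [prod_eq_zero_mul_prod_units] at h
    have h0 : (fun i : Fin k => (0 : K) * x i) = fun _ => 0 := by
      funext i; exact zero_mul _
    rw [h0, hzero', one_mul] at h
    rw [← h]
    exact Finset.prod_congr rfl fun ν _ => hρ ν x
  have hNmz : Nm z = 1 := by
    have hle : Subgroup.closure (Set.range Φ) ≤ Nm.ker := by
      rw [Subgroup.closure_le]
      rintro _ ⟨x, rfl⟩
      exact hNmΦ x
    exact hle hz
  have hpow : z ^ (3 ^ d - 1) = 1 := by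
    rw [← hNmz, hNm, Finset.prod_congr rfl fun ν _ => hfix ν, Finset.prod_const, Finset.card_univ,
      Fintype.card_units, hK]
  have hd : 3 ^ d = (3 ^ d - 1) + 1 := by
    have : 0 < 3 ^ d := by positivity
    omega
  have hd1 : 1 ≤ d := by
    rcases Nat.eq_zero_or_pos d with h | h
    · subst h
      have : Fintype.card K = 1 := by simpa using hK
      have := Fintype.one_lt_card (α := K)
      omega
    · exact h
  have h3d : z ^ (3 ^ d) = 1 := by
    obtain ⟨e, rfl⟩ : ∃ e, d = e + 1 := ⟨d - 1, by omega⟩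
    rw [pow_succ', pow_mul, hz3, one_pow]
  rw [hd, pow_succ, hpow, one_mul] at h3d
  exact h3d

/-- Averaging over the torus: an element of the group generated by the values of a multi-additive
equivariant map, fixed by the torus, is trivial. -/
theorem fixed_eq_one {K : Type*} [Field K] [Fintype K] [CharP K 3] {A : Type*} [CommGroup A] (d k : ℕ)
    (hK : Fintype.card K = 3 ^ d) (hk1 : 1 ≤ k) (hk : k < 2 * d) (Φ : (Fin k → K) → A)
    (hΦ : ∀ (x : Fin k → K) (i : Fin k) (a b : K),
      Φ (Function.update x i (a + b)) = Φ (Function.update x i a) * Φ (Function.update x i b))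
    (ρ : Kˣ → A →* A) (hρ : ∀ (ν : Kˣ) (x : Fin k → K), ρ ν (Φ x) = Φ (fun i => (ν : K) * x i))
    (z : A) (hz : z ∈ Subgroup.closure (Set.range Φ)) (hfix : ∀ ν, ρ ν z = z) : z = 1 := by
  refine fixed_eq_one_of_inv d k hK hk1 Φ hΦ ?_ ρ hρ z hz hfix
  intro x
  have h := Cfsg.Agent.Lib.Helper30_S2113_INV.inv_sum (A := Additive A) d k hK hk1 hk
    (fun y => Additive.ofMul (Φ y)) (fun y i a b => congrArg Additive.ofMul (hΦ y i a b)) x
  have h' := congrArg Additive.toMul h
  rw [toMul_sum] at h'
  exact h'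

end Cfsg.Agent.Lib.Helper70_S2113_NILKSUM
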