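import Mathlib
import Cfsg.Agent.Lib.Helper50_ReeMultDefs
import Cfsg.Agent.Lib.Helper99_S2113_LNC1
import Cfsg.Agent.Lib.Helper70_S2113_NILKSUM
import Cfsg.Agent.Lib.Helper46_S2113_LNC2
import Cfsg.Agent.Lib.Helper46_S2113_LNC3

/-!
# S2113 package NILK (architect helper50): a torus-fixed element of `γ_k` lies in `γ_{k+1}`.
-/

set_option autoImplicit false

open scoped commutatorElement
open scoped IsMulCommutative
open Cfsg.Agent.Lib.Helper50_ReeMultDefs

namespace Cfsg.Agent.Lib.Helper44_S2113_NILK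

open Cfsg.Agent.Lib.Helper99_S2113_LNC1 (lnc_mem lnc_map)
open Cfsg.Agent.Lib.Helper46_S2113_LNC2 (lnc_update_mul lnc_congr)
open Cfsg.Agent.Lib.Helper46_S2113_LNC3 (lnc_gen)
open Cfsg.Agent.Lib.Helper70_S2113_NILKSUM (fixed_eq_one)

section core

variable {P K : Type*} [Group P] [Field K] [Fintype K] [CharP K 3]
variable (N : Subgroup P) [N.Normal]

omit [N.Normal] in
theorem mk_eq_of_mem {u v : P} (h : u⁻¹ * v ∈ N) :
    (QuotientGroup.mk u : P ⧸ N) = QuotientGroup.mk v :=
  QuotientGroup.eq.2 h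

/-- the abstract averaging argument in the quotient `P ⧸ N` -/
theorem core (d n : ℕ) (hK : Fintype.card K = 3 ^ d) (hn1 : 1 ≤ n) (hn : n < 2 * d)
    (hNchar : ∀ φ : P ≃* P, N.map φ.toMonoidHom = N)
    (Ψ : (Fin n → K) → P)
    (hcent : ∀ x, (QuotientGroup.mk (Ψ x) : P ⧸ N) ∈ Subgroup.center (P ⧸ N))
    (hadd : ∀ (x : Fin n → K) (i : Fin n) (s t : K),
      (Ψ (Function.update x i s) * Ψ (Function.update x i t))⁻¹ * Ψ (Function.update x i (s + t)) ∈ N)
    (α : Kˣ → P ≃* P)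
    (hα : ∀ (ν : Kˣ) (x : Fin n → K), (α ν (Ψ x))⁻¹ * Ψ (fun i => (ν : K) * x i) ∈ N)
    (z : P) (hz : z ∈ Subgroup.closure (Set.range Ψ) ⊔ N) (hfix : ∀ ν, α ν z = z) : z ∈ N := by
  classical
  let Φ : (Fin n → K) → Subgroup.center (P ⧸ N) := fun x => ⟨QuotientGroup.mk (Ψ x), hcent x⟩
  have hΦval : ∀ x, ((Φ x : Subgroup.center (P ⧸ N)) : P ⧸ N) = QuotientGroup.mk (Ψ x) :=
    fun _ => rfl
  have hΦ : ∀ (x : Fin n → K) (i : Fin n) (s t : K),
      Φ (Function.update x i (s + t)) = Φ (Function.update x i s) * Φ (Function.update x i t) := by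
    intro x i s t
    apply Subtype.ext
    rw [Subgroup.coe_mul, hΦval, hΦval, hΦval, ← QuotientGroup.mk_mul]
    symm
    exact mk_eq_of_mem N (hadd x i s t)
  let ρ : Kˣ → Subgroup.center (P ⧸ N) →* Subgroup.center (P ⧸ N) := fun ν =>
    (Subgroup.centerCongr (QuotientGroup.congr N N (α ν) (hNchar (α ν)))).toMonoidHom
  have hρval : ∀ (ν : Kˣ) (w : Subgroup.center (P ⧸ N)) (u : P),
      (w : P ⧸ N) = QuotientGroup.mk u →
      ((ρ ν w : Subgroup.center (P ⧸ N)) : P ⧸ N) = QuotientGroup.mk (α ν u) := by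
    intro ν w u hw
    show (QuotientGroup.congr N N (α ν) (hNchar (α ν))) (w : P ⧸ N) = _
    rw [hw]
    rfl
  have hρ : ∀ (ν : Kˣ) (x : Fin n → K), ρ ν (Φ x) = Φ (fun i => (ν : K) * x i) := by
    intro ν x
    apply Subtype.ext
    rw [hρval ν (Φ x) _ (hΦval x), hΦval]
    exact mk_eq_of_mem N (hα ν x)
  have hzc : (QuotientGroup.mk z : P ⧸ N) ∈ Subgroup.center (P ⧸ N) := by
    have h2 : (QuotientGroup.mk z : P ⧸ N) ∈
        (Subgroup.closure (Set.range Ψ) ⊔ N).map (QuotientGroup.mk' N) := ⟨z, hz, rfl⟩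
    rw [Subgroup.map_sup, QuotientGroup.map_mk'_self, sup_bot_eq, MonoidHom.map_closure] at h2
    refine (Subgroup.closure_le _).2 ?_ h2
    rintro _ ⟨_, ⟨x, rfl⟩, rfl⟩
    exact hcent x
  have hzcl : (⟨QuotientGroup.mk z, hzc⟩ : Subgroup.center (P ⧸ N)) ∈
      Subgroup.closure (Set.range Φ) := by
    have h2 : (QuotientGroup.mk z : P ⧸ N) ∈
        (Subgroup.closure (Set.range Ψ) ⊔ N).map (QuotientGroup.mk' N) := ⟨z, hz, rfl⟩
    rw [Subgroup.map_sup, QuotientGroup.map_mk'_self, sup_bot_eq, MonoidHom.map_closure] at h2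
    have h3 : (QuotientGroup.mk' N) '' Set.range Ψ ⊆
        (Subgroup.center (P ⧸ N)).subtype '' Set.range Φ := by
      rintro _ ⟨_, ⟨x, rfl⟩, rfl⟩
      exact ⟨Φ x, ⟨_, rfl⟩, rfl⟩
    have h4 := Subgroup.closure_mono h3 h2
    rw [← MonoidHom.map_closure] at h4
    obtain ⟨w, hw, hwz⟩ := h4
    have : w = ⟨QuotientGroup.mk z, hzc⟩ := Subtype.ext hwz
    rw [← this]; exact hw
  have hfix' : ∀ ν, ρ ν ⟨QuotientGroup.mk z, hzc⟩ = ⟨QuotientGroup.mk z, hzc⟩ := by
    intro ν
    apply Subtype.ext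
    rw [hρval ν _ z rfl, hfix ν]
  have h1 := fixed_eq_one d n hK hn1 hn Φ hΦ ρ hρ _ hzcl hfix'
  have h2 : (QuotientGroup.mk z : P ⧸ N) = 1 := congrArg Subtype.val h1
  exact (QuotientGroup.eq_one_iff z).1 h2

end core

section

variable {P : Type*} [Group P] (k : ℕ)

theorem mk_mem_center_of_mem {x : P} (hx : x ∈ (⊤ : Subgroup P).lowerCentralSeries k) :
    (QuotientGroup.mk x : P ⧸ (⊤ : Subgroup P).lowerCentralSeries (k + 1)) ∈
      Subgroup.center (P ⧸ (⊤ : Subgroup P).lowerCentralSeries (k + 1)) := by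
  rw [Subgroup.mem_center_iff]
  intro y
  obtain ⟨y, rfl⟩ := QuotientGroup.mk_surjective y
  rw [← QuotientGroup.mk_mul, ← QuotientGroup.mk_mul]
  apply mk_eq_of_mem
  have : (y * x)⁻¹ * (x * y) = ⁅x⁻¹, y⁻¹⁆ := by
    simp [commutatorElement_def, mul_assoc]
  rw [this]
  exact Subgroup.commutator_mem_commutator (inv_mem hx) (Subgroup.mem_top _)

theorem map_lcs (n : ℕ) (φ : P ≃* P) :
    ((⊤ : Subgroup P).lowerCentralSeries n).map φ.toMonoidHom =
      (⊤ : Subgroup P).lowerCentralSeries n := by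
  have h : ((⊤ : Subgroup P).lowerCentralSeries n).Characteristic := inferInstance
  exact Subgroup.characteristic_iff_map_eq.1 h φ

end

theorem nilk {P K : Type*} [Group P] [Field K] [Fintype K] [CharP K 3] (d k : ℕ)
    (hK : Fintype.card K = 3 ^ d) (hk1 : 1 ≤ k) (hk : k + 1 < 2 * d)
    (a : K → P)
    (ha_add : ∀ t t' : K, (a (t + t'))⁻¹ * (a t * a t') ∈ Subgroup.center P ⊔ commutator P)
    (ha_surj : ∀ x : P, ∃ t : K, (a t)⁻¹ * x ∈ Subgroup.center P ⊔ commutator P)
    (α : Kˣ → P ≃* P)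
    (hα : ∀ (ν : Kˣ) (t : K), (a ((ν : K) * t))⁻¹ * α ν (a t) ∈ Subgroup.center P ⊔ commutator P)
    (z : P) (hz : z ∈ (⊤ : Subgroup P).lowerCentralSeries k) (hfix : ∀ ν, α ν z = z) :
    z ∈ (⊤ : Subgroup P).lowerCentralSeries (k + 1) := by
  classical
  refine core ((⊤ : Subgroup P).lowerCentralSeries (k + 1)) d (k + 1) hK (by omega) hk
    (map_lcs (k + 1)) (fun x => lnc k (a ∘ x)) (fun x => mk_mem_center_of_mem k (lnc_mem k _))
    ?_ α ?_ z ?_ hfix
  · -- additivity
    intro x i s t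
    rw [Function.comp_update, Function.comp_update, Function.comp_update]
    have h1 : (lnc k (Function.update (a ∘ x) i (a s * a t)))⁻¹ *
        lnc k (Function.update (a ∘ x) i (a (s + t))) ∈
        (⊤ : Subgroup P).lowerCentralSeries (k + 1) := by
      apply lnc_congr k hk1
      intro j
      by_cases hj : j = i
      · subst hj
        rw [Function.update_self, Function.update_self]
        have := inv_mem (ha_add s t)
        rw [mul_inv_rev, inv_inv] at this
        exact this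
      · rw [Function.update_of_ne hj, Function.update_of_ne hj, inv_mul_cancel]
        exact one_mem _
    have h2 := lnc_update_mul k (a ∘ x) i (a s) (a t)
    have h3 := mul_mem h2 h1
    rw [mul_assoc, mul_inv_cancel_left] at h3
    exact h3
  · -- equivariance
    intro ν x
    have hm : α ν (lnc k (a ∘ x)) = lnc k ((α ν) ∘ (a ∘ x)) :=
      lnc_map (α ν).toMonoidHom k (a ∘ x)
    rw [hm]
    apply lnc_congr k hk1
    intro j
    have := inv_mem (hα ν (x j))
    rw [mul_inv_rev, inv_inv] at this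
    exact this
  · -- generation
    have h1 : z ∈ Subgroup.closure (Set.range (lnc (P := P) k)) ⊔
        (⊤ : Subgroup P).lowerCentralSeries (k + 1) := lnc_gen k hz
    have h5 : Subgroup.closure (Set.range (lnc (P := P) k)) ⊔
        (⊤ : Subgroup P).lowerCentralSeries (k + 1) ≤
        Subgroup.closure (Set.range fun x : Fin (k + 1) → K => lnc k (a ∘ x)) ⊔
          (⊤ : Subgroup P).lowerCentralSeries (k + 1) := by
      refine sup_le ?_ le_sup_right
      rw [Subgroup.closure_le]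
      rintro _ ⟨y, rfl⟩
      choose t ht using ha_surj
      have h2 : (lnc k (a ∘ fun j => t (y j)))⁻¹ * lnc k y ∈
          (⊤ : Subgroup P).lowerCentralSeries (k + 1) := by
        apply lnc_congr k hk1
        intro j
        exact ht (y j)
      have h3 : lnc k (a ∘ fun j => t (y j)) ∈
          Subgroup.closure (Set.range fun x : Fin (k + 1) → K => lnc k (a ∘ x)) :=
        Subgroup.subset_closure ⟨_, rfl⟩
      have h4 : lnc k y = lnc k (a ∘ fun j => t (y j)) * ((lnc k (a ∘ fun j => t (y j)))⁻¹ * lnc k y) := by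
        group
      rw [SetLike.mem_coe, h4]
      exact Subgroup.mul_mem_sup h3 h2
    exact h5 h1

end Cfsg.Agent.Lib.Helper44_S2113_NILK
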