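import Mathlib
import Cfsg.Agent.Lib.Helper50_ReeMultDefs
import Cfsg.Agent.Lib.Helper44_S2113_NILK

/-!
# S2113 package NILKSUB (architect helper50): NILK for a subgroup of an ambient group.
-/

set_option autoImplicit false

open scoped commutatorElement
open Cfsg.Agent.Lib.Helper50_ReeMultDefs

namespace Cfsg.Agent.Lib.Helper44_S2113_NILKSUB

section

variable {E : Type*} [Group E] (P Z : Subgroup E)

/-- an element of `P` lying in `Z ⊔ ⁅P, P⁆` (`Z` central in `E`) lies in `Z(P) P'` -/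
theorem lift_mem (hZ : Z ≤ Subgroup.center E) (e : E) (heP : e ∈ P) (he : e ∈ Z ⊔ ⁅P, P⁆) :
    (⟨e, heP⟩ : ↥P) ∈ Subgroup.center ↥P ⊔ commutator ↥P := by
  have hZn : Z.Normal := ⟨fun n hn g => by
    have := Subgroup.mem_center_iff.1 (hZ hn) g
    rw [this, mul_inv_cancel_right]; exact hn⟩
  obtain ⟨c, hc, w, hw, rfl⟩ := Subgroup.mem_sup_of_normal_left.1 he
  have hPP : ⁅P, P⁆ ≤ P := by
    rw [Subgroup.commutator_le]
    intro g₁ h₁ g₂ h₂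
    rw [commutatorElement_def]
    exact P.mul_mem (P.mul_mem (P.mul_mem h₁ h₂) (P.inv_mem h₁)) (P.inv_mem h₂)
  have hwP : w ∈ P := hPP hw
  have hcP : c ∈ P := by
    have : c = c * w * w⁻¹ := by group
    rw [this]
    exact P.mul_mem heP (P.inv_mem hwP)
  have h1 : (⟨c, hcP⟩ : ↥P) ∈ Subgroup.center ↥P := by
    rw [Subgroup.mem_center_iff]
    intro y
    apply Subtype.ext
    have := Subgroup.mem_center_iff.1 (hZ hc) y.1
    exact this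
  have h2 : (⟨w, hwP⟩ : ↥P) ∈ commutator ↥P := by
    rw [← Subgroup.map_subtype_commutator] at hw
    obtain ⟨w', hw', hww⟩ := hw
    have : w' = ⟨w, hwP⟩ := Subtype.ext hww
    rw [← this]; exact hw'
  have h3 : (⟨c * w, heP⟩ : ↥P) = ⟨c, hcP⟩ * ⟨w, hwP⟩ := rfl
  rw [h3]
  exact Subgroup.mul_mem_sup h1 h2

/-- conjugation by an element normalising `P`, as an automorphism of `P` -/
def conjP (g : E) (hg : ∀ x : E, x ∈ P ↔ g * x * g⁻¹ ∈ P) : ↥P ≃* ↥P where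
  toFun x := ⟨g * x.1 * g⁻¹, (hg x.1).1 x.2⟩
  invFun x := ⟨g⁻¹ * x.1 * g, by
    rw [hg]
    have : g * (g⁻¹ * x.1 * g) * g⁻¹ = x.1 := by group
    rw [this]; exact x.2⟩
  left_inv x := by
    apply Subtype.ext
    show g⁻¹ * (g * x.1 * g⁻¹) * g = x.1
    group
  right_inv x := by
    apply Subtype.ext
    show g * (g⁻¹ * x.1 * g) * g⁻¹ = x.1
    group
  map_mul' x y := by
    apply Subtype.ext
    show g * (x.1 * y.1) * g⁻¹ = (g * x.1 * g⁻¹) * (g * y.1 * g⁻¹)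
    group

theorem conjP_val (g : E) (hg : ∀ x : E, x ∈ P ↔ g * x * g⁻¹ ∈ P) (x : ↥P) :
    ((conjP P g hg x : ↥P) : E) = g * x.1 * g⁻¹ := rfl

end

theorem nilk_sub {E K : Type*} [Group E] [Field K] [Fintype K] [CharP K 3] (d k : ℕ)
    (hK : Fintype.card K = 3 ^ d) (hk1 : 1 ≤ k) (hk : k + 1 < 2 * d)
    (P Z : Subgroup E) (hZ : Z ≤ Subgroup.center E)
    (a : K → E) (haP : ∀ t, a t ∈ P)
    (ha_add : ∀ t t' : K, (a (t + t'))⁻¹ * (a t * a t') ∈ Z ⊔ ⁅P, P⁆)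
    (ha_surj : ∀ x ∈ P, ∃ t : K, (a t)⁻¹ * x ∈ Z ⊔ ⁅P, P⁆)
    (g : Kˣ → E) (hgP : ∀ (ν : Kˣ) (x : E), x ∈ P ↔ g ν * x * (g ν)⁻¹ ∈ P)
    (hg : ∀ (ν : Kˣ) (t : K), (a ((ν : K) * t))⁻¹ * (g ν * a t * (g ν)⁻¹) ∈ Z ⊔ ⁅P, P⁆)
    (z : E) (hz : z ∈ P.lowerCentralSeries k) (hfix : ∀ ν, g ν * z * (g ν)⁻¹ = z) :
    z ∈ P.lowerCentralSeries (k + 1) := by
  rw [← Subgroup.top_subtype_lowerCentralSeries] at hz ⊢
  obtain ⟨z', hz', rfl⟩ := hz
  refine ⟨z', ?_, rfl⟩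
  refine Cfsg.Agent.Lib.Helper44_S2113_NILK.nilk d k hK hk1 hk (fun t => (⟨a t, haP t⟩ : ↥P))
    ?_ ?_ (fun ν => conjP P (g ν) (hgP ν)) ?_ z' hz' ?_
  · intro t t'
    exact lift_mem P Z hZ _ _ (ha_add t t')
  · intro x
    obtain ⟨t, ht⟩ := ha_surj x.1 x.2
    exact ⟨t, lift_mem P Z hZ _ _ ht⟩
  · intro ν t
    exact lift_mem P Z hZ _ _ (hg ν t)
  · intro ν
    apply Subtype.ext
    rw [conjP_val]
    exact hfix ν

end Cfsg.Agent.Lib.Helper44_S2113_NILKSUB
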