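import Mathlib

/-!
# S2113 package TRANSFER (architect helper50)
-/

set_option autoImplicit false

namespace Cfsg.Agent.Lib.Helper44_S2113_TRANSFER

/-- Transfer into the abelianisation of the preimage of `H`: a central element of the derived subgroup,
raised to the index of `H`, lies in the derived subgroup of the preimage of `H`. -/
theorem transfer_pow_mem {Γ G : Type*} [Group Γ] [Group G] [Finite Γ] (σ : Γ →* G)
    (hσ : Function.Surjective σ) (hc : σ.ker ≤ Subgroup.center Γ) (hd : σ.ker ≤ commutator Γ)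
    (H : Subgroup G) (z : Γ) (hz : z ∈ σ.ker) :
    z ^ H.index ∈ ⁅H.comap σ, H.comap σ⁆ := by
  have hzc : z ∈ Subgroup.center Γ := hc hz
  have hidx : (H.comap σ).index = H.index := Subgroup.index_comap_of_surjective H hσ
  -- the transfer into the abelianisation of the preimage
  let φ : ↥(H.comap σ) →* Abelianization ↥(H.comap σ) := Abelianization.of
  have key : ∀ (k : ℕ) (g₀ : Γ), g₀⁻¹ * z ^ k * g₀ ∈ H.comap σ → g₀⁻¹ * z ^ k * g₀ = z ^ k := by
    intro k g₀ _
    have hk : z ^ k ∈ Subgroup.center Γ := Subgroup.pow_mem _ hzc k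
    rw [Subgroup.mem_center_iff] at hk
    rw [mul_assoc, ← hk g₀, ← mul_assoc, inv_mul_cancel, one_mul]
  have h1 : MonoidHom.transfer φ z = 1 := by
    have hzk : z ∈ (MonoidHom.transfer φ).ker := Abelianization.commutator_subset_ker _ (hd hz)
    exact hzk
  rw [MonoidHom.transfer_eq_pow φ z key] at h1
  have h2 : (⟨z ^ (H.comap σ).index, MonoidHom.transfer_eq_pow_aux z key⟩ : ↥(H.comap σ)) ∈
      commutator ↥(H.comap σ) := by
    rw [← Abelianization.ker_of]
    exact h1
  rw [← Subgroup.map_subtype_commutator, ← hidx]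
  exact ⟨_, h2, rfl⟩

/-- If the preimage of `H` is abelian and `p` does not divide the index of `H`, the kernel has no element of
order `p`. -/
theorem no_torsion_of_comm {Γ G : Type*} [Group Γ] [Group G] [Finite Γ] (σ : Γ →* G)
    (hσ : Function.Surjective σ) (hc : σ.ker ≤ Subgroup.center Γ) (hd : σ.ker ≤ commutator Γ)
    (H : Subgroup G) (p : ℕ) (hp : p.Prime) (hidx : ¬ p ∣ H.index)
    (hab : ∀ a b : Γ, σ a ∈ H → σ b ∈ H → a * b = b * a)
    (z : Γ) (hz : z ∈ σ.ker) (hzp : z ^ p = 1) : z = 1 := by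
  have h1 := transfer_pow_mem σ hσ hc hd H z hz
  have hbot : ⁅H.comap σ, H.comap σ⁆ = ⊥ := by
    rw [Subgroup.commutator_eq_bot_iff_le_centralizer]
    intro a ha b hb
    exact hab b a hb ha
  rw [hbot, Subgroup.mem_bot] at h1
  have hd1 : orderOf z ∣ H.index := orderOf_dvd_of_pow_eq_one h1
  have hd2 : orderOf z ∣ p := orderOf_dvd_of_pow_eq_one hzp
  have hcop : Nat.Coprime p H.index := (Nat.Prime.coprime_iff_not_dvd hp).2 hidx
  have : orderOf z ∣ Nat.gcd p H.index := Nat.dvd_gcd hd2 hd1
  rw [hcop] at this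
  exact orderOf_eq_one_iff.1 (Nat.dvd_one.1 this)

end Cfsg.Agent.Lib.Helper44_S2113_TRANSFER
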