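import Mathlib
import Cfsg.Prelude.Def_TwoFusion
import Cfsg.Agent.Lib.Helper54_S2221Defs

/-!
# S2221 package ARITH (architect helper54): bit arithmetic.
-/

set_option autoImplicit false

open Cfsg.Agent.Lib.Helper54_S2221Defs

namespace Cfsg.Agent.Lib.Helper44_S2221_ARITH

theorem mem_bits_iff (n j : ℕ) : j ∈ bits n ↔ n.testBit j = true := by
  unfold bits
  simp only [Finset.mem_filter, Finset.mem_range]
  constructor
  · exact fun h => h.2
  · intro h
    refine ⟨?_, h⟩
    have h1 : 2 ^ j ≤ n := Nat.ge_two_pow_of_testBit h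
    exact lt_of_lt_of_le Nat.lt_two_pow_self h1

theorem bits_eq_toFinset (n : ℕ) : bits n = n.bitIndices.toFinset := by
  ext j
  rw [mem_bits_iff, List.mem_toFinset, Nat.mem_bitIndices]

theorem sum_bits' (n : ℕ) : ∑ j ∈ bits n, 2 ^ j = n := by
  rw [bits_eq_toFinset, List.sum_toFinset _ Nat.bitIndices_nodup]
  exact Nat.sum_map_two_pow_bitIndices n

theorem bits_two_pow (s : ℕ) : bits (2 ^ s) = {s} := by
  rw [bits_eq_toFinset, Nat.bitIndices_two_pow]
  rfl

/-- shifting by two -/
theorem add_two_mem_bits (n j : ℕ) : j + 2 ∈ bits n ↔ j ∈ bits (n / 4) := by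
  rw [mem_bits_iff, mem_bits_iff]
  have h := Nat.testBit_div_two_pow (n := 2) n j
  have h4 : (2 : ℕ) ^ 2 = 4 := by norm_num
  rw [h4] at h
  rw [h]

theorem filter_two_le (n : ℕ) :
    (bits n).filter (fun j => 2 ≤ j) = (bits (n / 4)).image (fun j => j + 2) := by
  ext j
  simp only [Finset.mem_filter, Finset.mem_image]
  constructor
  · rintro ⟨hj, h2⟩
    refine ⟨j - 2, ?_, by omega⟩
    rw [← add_two_mem_bits]
    have : j - 2 + 2 = j := by omega
    rw [this]; exact hj
  · rintro ⟨i, hi, rfl⟩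
    exact ⟨(add_two_mem_bits n i).2 hi, by omega⟩

theorem erase_filter_eq (n : ℕ) :
    ((bits n).erase 1).filter (fun j => 1 ≤ j) = (bits n).filter (fun j => 2 ≤ j) := by
  ext j
  simp only [Finset.mem_filter, Finset.mem_erase]
  constructor
  · rintro ⟨⟨h1, h2⟩, h3⟩
    exact ⟨h2, by omega⟩
  · rintro ⟨h2, h3⟩
    exact ⟨⟨by omega, h2⟩, by omega⟩

theorem card_filter_two_le (n : ℕ) :
    ((bits n).filter (fun j => 2 ≤ j)).card = (bits (n / 4)).card := by
  rw [filter_two_le]
  exact Finset.card_image_of_injective _ (fun a b h => by simpa using h)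

theorem bits_nonempty {m : ℕ} (hm : 1 ≤ m) : (bits m).Nonempty := by
  by_contra h
  rw [Finset.not_nonempty_iff_eq_empty] at h
  have := sum_bits' m
  rw [h, Finset.sum_empty] at this
  omega

theorem card_bits_eq_one_iff (m : ℕ) : (bits m).card = 1 ↔ ∃ s : ℕ, m = 2 ^ s := by
  constructor
  · intro h
    obtain ⟨s, hs⟩ := Finset.card_eq_one.1 h
    refine ⟨s, ?_⟩
    have := sum_bits' m
    rw [hs, Finset.sum_singleton] at this
    exact this.symm
  · rintro ⟨s, rfl⟩
    rw [bits_two_pow, Finset.card_singleton]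

theorem one_mem_bits (n : ℕ) : 1 ∈ bits n ↔ (n % 4 = 2 ∨ n % 4 = 3) := by
  rw [mem_bits_iff, Nat.testBit_eq_decide_div_mod_eq, decide_eq_true_eq]
  have : (2 : ℕ) ^ 1 = 2 := by norm_num
  rw [this]
  omega

theorem card_filter_bits (n : ℕ) (hn : 4 ≤ n) :
    2 ≤ (((bits n).erase 1).filter (fun j => 1 ≤ j)).card ↔ ∀ r : ℕ, 4 * (n / 4) ≠ 2 ^ r := by
  rw [erase_filter_eq, card_filter_two_le]
  have hm : 1 ≤ n / 4 := by omega
  have hpos : 1 ≤ (bits (n / 4)).card := Finset.card_pos.2 (bits_nonempty hm)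
  constructor
  · intro h r hr
    have h1 : (bits (n / 4)).card = 1 := by
      rw [card_bits_eq_one_iff]
      have hr2 : 2 ≤ r := by
        by_contra hlt
        have : r = 0 ∨ r = 1 := by omega
        rcases this with rfl | rfl <;> omega
      refine ⟨r - 2, ?_⟩
      have hr' : r = (r - 2) + 2 := by omega
      rw [hr', pow_add] at hr
      have h4 : (2 : ℕ) ^ 2 = 4 := by norm_num
      rw [h4] at hr
      have : 4 * (n / 4) = 4 * 2 ^ (r - 2) := by rw [hr]; ring
      exact Nat.eq_of_mul_eq_mul_left (by norm_num) this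
    omega
  · intro h
    by_contra hlt
    have h1 : (bits (n / 4)).card = 1 := by omega
    obtain ⟨s, hs⟩ := (card_bits_eq_one_iff _).1 h1
    apply h (s + 2)
    rw [hs, pow_add]
    ring

theorem filter_bits_eq (n : ℕ) (hn : 4 ≤ n) (h1 : 1 ∉ bits n) :
    (bits n).filter (fun j => 2 ≤ j) = {2} ↔ (n = 4 ∨ n = 5) := by
  rw [one_mem_bits] at h1
  rw [filter_two_le]
  have key : (bits (n / 4)).image (fun j => j + 2) = {2} ↔ bits (n / 4) = {0} := by
    constructor
    · intro h
      ext j
      rw [Finset.mem_singleton]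
      constructor
      · intro hj
        have : j + 2 ∈ (bits (n / 4)).image (fun j => j + 2) := Finset.mem_image_of_mem _ hj
        rw [h, Finset.mem_singleton] at this
        omega
      · rintro rfl
        have : (2 : ℕ) ∈ (bits (n / 4)).image (fun j => j + 2) := by rw [h]; simp
        obtain ⟨i, hi, hi2⟩ := Finset.mem_image.1 this
        have : i = 0 := by omega
        rw [← this]; exact hi
    · intro h
      rw [h]
      rfl
  rw [key]
  constructor
  · intro h
    have := sum_bits' (n / 4)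
    rw [h, Finset.sum_singleton] at this
    omega
  · intro h
    have : n / 4 = 2 ^ 0 := by omega
    rw [this, bits_two_pow]

theorem filter_bits_nonempty (n : ℕ) (hn : 4 ≤ n) : ((bits n).filter (fun j => 2 ≤ j)).Nonempty := by
  rw [filter_two_le]
  exact (bits_nonempty (by omega)).image _

end Cfsg.Agent.Lib.Helper44_S2221_ARITH
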