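import Mathlib
import Cfsg.Prelude.Def_TwoFusion
import Cfsg.Agent.Lib.Helper54_S2221Defs

/-!
# S2221 package BITS (architect helper54): binary digits.
-/

set_option autoImplicit false

open Cfsg.Agent.Lib.Helper54_S2221Defs

namespace Cfsg.Agent.Lib.Helper44_S2221_BITS

theorem mem_bits (n j : ℕ) : j ∈ bits n ↔ n.testBit j = true := by
  unfold bits
  simp only [Finset.mem_filter, Finset.mem_range]
  constructor
  · exact fun h => h.2
  · intro h
    refine ⟨?_, h⟩
    have h1 : 2 ^ j ≤ n := Nat.ge_two_pow_of_testBit h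
    exact lt_of_lt_of_le Nat.lt_two_pow_self h1

theorem bits_eq_toFinset (n : ℕ) : bits n = n.bitIndices.toFinset := by
  ext j
  rw [mem_bits, List.mem_toFinset, Nat.mem_bitIndices]

theorem sum_bits (n : ℕ) : ∑ j ∈ bits n, 2 ^ j = n := by
  rw [bits_eq_toFinset, List.sum_toFinset _ Nat.bitIndices_nodup]
  exact Nat.sum_map_two_pow_bitIndices n

theorem card_Blk (J : Finset ℕ) : Fintype.card (Blk J) = ∑ j ∈ J, 2 ^ j := by
  rw [Fintype.card_sigma]
  have h : ∀ j : J, Fintype.card (Fin j.1 → C2) = 2 ^ j.1 := by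
    intro j
    rw [Fintype.card_fun, Fintype.card_fin]
    congr 1
  simp_rw [h]
  exact Finset.sum_coe_sort J (fun j => 2 ^ j)

end Cfsg.Agent.Lib.Helper44_S2221_BITS
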