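import Mathlib
import Cfsg.Prelude.Def_TwoFusion
import Cfsg.Agent.Lib.Helper54_S2221Defs

/-!
# S2221 package CASEB1 (architect helper54): a single block `k ≥ 2`.
-/

set_option autoImplicit false

open Cfsg.Agent.Lib.Helper54_S2221Defs

namespace Cfsg.Agent.Lib.Helper44_S2221_CASEB1

theorem subsingleton_W0 : Subsingleton (W 0) := by
  show Subsingleton (IteratedWreathProduct C2 0)
  rw [IteratedWreathProduct_zero]; infer_instance

section

variable (J : Finset ℕ) (h1 : 1 ∉ J) (k : ℕ) (hk : J.filter (fun j => 2 ≤ j) = {k})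

include hk in
theorem k_mem : k ∈ J ∧ 2 ≤ k := by
  have : k ∈ J.filter (fun j => 2 ≤ j) := by rw [hk]; exact Finset.mem_singleton_self k
  simpa using this

include h1 hk in
theorem eq_zero_of_ne (j : J) (hj : j.1 ≠ k) : j.1 = 0 := by
  by_contra h0
  have hj1 : j.1 ≠ 1 := fun h => h1 (h ▸ j.2)
  have : j.1 ∈ J.filter (fun j => 2 ≤ j) := by
    rw [Finset.mem_filter]; exact ⟨j.2, by omega⟩
  rw [hk, Finset.mem_singleton] at this
  exact hj this

include h1 hk in
theorem eq_one_of_ne (f : QJ J) (j : J) (hj : j.1 ≠ k) : f j = 1 := by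
  have h0 := eq_zero_of_ne J h1 k hk j hj
  obtain ⟨j, hjJ⟩ := j
  simp only at h0
  subst h0
  have := subsingleton_W0
  exact Subsingleton.elim _ _

include h1 hk in
theorem epsJ_eq (f : QJ J) : epsJ J f = eps k (f ⟨k, (k_mem J k hk).1⟩) := by
  rw [epsJ_apply]
  rw [Fintype.prod_eq_single (⟨k, (k_mem J k hk).1⟩ : J)]
  intro j hj
  have hj' : j.1 ≠ k := fun h => hj (Subtype.ext h)
  rw [eq_one_of_ne J h1 k hk f j hj', map_one]

/-- evaluation at `k` -/
noncomputable def evK : ↥(epsJ J).ker →* ↥(eps k).ker where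
  toFun f := ⟨f.1 ⟨k, (k_mem J k hk).1⟩, by
    rw [MonoidHom.mem_ker, ← epsJ_eq J h1 k hk f.1]
    exact f.2⟩
  map_one' := rfl
  map_mul' _ _ := rfl

theorem evK_bijective : Function.Bijective (evK J h1 k hk) := by
  constructor
  · intro f g hfg
    have hfg' : f.1 ⟨k, (k_mem J k hk).1⟩ = g.1 ⟨k, (k_mem J k hk).1⟩ :=
      congrArg Subtype.val hfg
    apply Subtype.ext
    funext j
    by_cases hj : j.1 = k
    · have : j = ⟨k, (k_mem J k hk).1⟩ := Subtype.ext hj
      rw [this]; exact hfg'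
    · rw [eq_one_of_ne J h1 k hk f.1 j hj, eq_one_of_ne J h1 k hk g.1 j hj]
  · intro x
    classical
    have hmem : (Pi.mulSingle (⟨k, (k_mem J k hk).1⟩ : J) x.1 : QJ J) ∈ (epsJ J).ker := by
      rw [MonoidHom.mem_ker, epsJ_eq J h1 k hk, Pi.mulSingle_eq_same]
      exact x.2
    refine ⟨⟨_, hmem⟩, ?_⟩
    apply Subtype.ext
    show (Pi.mulSingle (⟨k, (k_mem J k hk).1⟩ : J) x.1 : QJ J) ⟨k, (k_mem J k hk).1⟩ = x.1
    rw [Pi.mulSingle_eq_same]

end

theorem caseB1 (hW : WFacts)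
    (hcyc : ∀ {H : Type} [Group H] [Finite H], IsPGroup 2 H → Nat.card (Subgroup.center H) = 2 → ¬ Dec H)
    (hcongr : ∀ {H K : Type} [Group H] [Group K], (H ≃* K) → (Dec H ↔ Dec K))
    (J : Finset ℕ) (h1 : 1 ∉ J) (k : ℕ) (hk : J.filter (fun j => 2 ≤ j) = {k}) :
    Dec ↥(epsJ J).ker ↔ k = 2 := by
  have e : ↥(epsJ J).ker ≃* ↥(eps k).ker :=
    MulEquiv.ofBijective (evK J h1 k hk) (evK_bijective J h1 k hk)
  rw [hcongr e]
  have hk2 := (k_mem J k hk).2
  constructor
  · intro hdec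
    by_contra hne
    have hk3 : 3 ≤ k := by omega
    have hp : IsPGroup 2 (W k) := IsPGroup.of_card (hW.card k)
    have hp' : IsPGroup 2 ↥(eps k).ker := hp.to_subgroup _
    exact hcyc hp' (hW.center_ker k hk3) hdec
  · rintro rfl
    exact hW.ker_two

end Cfsg.Agent.Lib.Helper44_S2221_CASEB1
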