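import Mathlib
import Cfsg.Prelude.Def_TwoFusion
import Cfsg.Agent.Lib.Helper54_S2221Defs

/-!
# S2221 package LEGENDRE (architect helper54): `v_2(n!) = n - s_2(n)`.
-/

set_option autoImplicit false

open Cfsg.Agent.Lib.Helper54_S2221Defs

namespace Cfsg.Agent.Lib.Helper44_S2221_LEGENDRE

theorem mem_bits' (n j : ℕ) : j ∈ bits n ↔ n.testBit j = true := by
  unfold bits
  simp only [Finset.mem_filter, Finset.mem_range]
  constructor
  · exact fun h => h.2
  · intro h
    refine ⟨?_, h⟩
    have h1 : 2 ^ j ≤ n := Nat.ge_two_pow_of_testBit h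
    exact lt_of_lt_of_le Nat.lt_two_pow_self h1

theorem bits_eq_toFinset' (n : ℕ) : bits n = n.bitIndices.toFinset := by
  ext j
  rw [mem_bits', List.mem_toFinset, Nat.mem_bitIndices]

theorem card_bits (n : ℕ) : (bits n).card = n.bitIndices.length := by
  rw [bits_eq_toFinset', List.toFinset_card_of_nodup Nat.bitIndices_nodup]

theorem digits_sum_eq (n : ℕ) : (Nat.digits 2 n).sum = n.bitIndices.length := by
  induction n using Nat.strong_induction_on with
  | _ n ih =>
    rcases Nat.eq_zero_or_pos n with rfl | hpos
    · simp
    · rw [Nat.digits_def' (by norm_num) hpos, List.sum_cons, ih (n / 2) (Nat.div_lt_self hpos (by norm_num))]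
      rcases Nat.mod_two_eq_zero_or_one n with h | h
      · have hn : n = 2 * (n / 2) := by omega
        conv_rhs => rw [hn]
        rw [Nat.bitIndices_two_mul, List.length_map, h]
        omega
      · have hn : n = 2 * (n / 2) + 1 := by omega
        conv_rhs => rw [hn]
        rw [Nat.bitIndices_two_mul_add_one, List.length_cons, List.length_map, h]
        omega

theorem factorization_factorial (n : ℕ) : (Nat.factorial n).factorization 2 = n - (bits n).card := by
  have : Fact (Nat.Prime 2) := ⟨Nat.prime_two⟩
  have h := sub_one_mul_padicValNat_factorial (p := 2) n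
  rw [Nat.factorization_def _ Nat.prime_two, card_bits, ← digits_sum_eq]
  simpa using h

end Cfsg.Agent.Lib.Helper44_S2221_LEGENDRE
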