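import Mathlib
import Cfsg.Agent.Lib.Helper6_S6Defs

/-!
S3333 market (helper6), package EXMIN: a nontrivial finite group has a minimal normal subgroup.
-/

set_option autoImplicit false

namespace Cfsg.Agent.Lib.Helper44_S6_EXMIN

open Cfsg.Agent.Lib.Helper6_S6Defs Equiv Equiv.Perm

variable {G : Type*} [Group G] [Finite G] {S : Subgroup G}

theorem exists_min_normal (hG : Nontrivial G) :
    ∃ L : Subgroup G, L.Normal ∧ L ≠ ⊥ ∧
      ∀ K : Subgroup G, K.Normal → K ≤ L → K = ⊥ ∨ K = L := by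
  classical
  have hex : ∃ n : ℕ, ∃ L : Subgroup G, L.Normal ∧ L ≠ ⊥ ∧ Nat.card L = n :=
    ⟨Nat.card (⊤ : Subgroup G), ⊤, inferInstance, top_ne_bot, rfl⟩
  obtain ⟨L, hLn, hL0, hLc⟩ := Nat.find_spec hex
  refine ⟨L, hLn, hL0, fun K hKn hKL => ?_⟩
  by_cases hK0 : K = ⊥
  · exact Or.inl hK0
  · right
    have h1 : Nat.find hex ≤ Nat.card K := Nat.find_min' hex ⟨K, hKn, hK0, rfl⟩
    rw [← hLc] at h1
    exact Subgroup.eq_of_le_of_card_ge hKL h1

end Cfsg.Agent.Lib.Helper44_S6_EXMIN
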