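import Mathlib
import Cfsg.Agent.Lib.Helper74_S94Defs
import Cfsg.Agent.Lib.Helper66_S96Defs2

set_option autoImplicit false

/-!
Clifford systems for the quadratic space `K^(ι ⊕ ι) × V0` (helper66, COVER block of S2094 / S2099).
-/

namespace Cfsg.Agent.Lib.Helper66_S94

open Cfsg.Agent.Lib.Helper66_S92 Cfsg.Agent.Lib.Helper66_S96 Cfsg.Agent.Lib.Helper74_S94

/-- a Clifford system for the form `qD x + Q0 v` on `K^(ι ⊕ ι) × V0`: `e a` is the image of `b_a`, `ε v`
the image of `v ∈ V0` -/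
structure IsCliffSysB {ι : Type*} {K : Type*} [Field K] {V0 : Type*} [AddCommGroup V0] [Module K V0]
    {A : Type*} [Ring A] [Algebra K A] (Q0 : QuadraticForm K V0) (e : ι ⊕ ι → A) (ε : V0 →ₗ[K] A) :
    Prop extends IsCliffSys e where
  eps_sq : ∀ v, ε v * ε v = algebraMap K A (Q0 v)
  eps_anti : ∀ a v, ε v * e a = -(e a * ε v)

end Cfsg.Agent.Lib.Helper66_S94
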