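import Mathlib
import Cfsg.Agent.Lib.Helper66_S94CoverDefs
import Cfsg.Agent.Lib.Helper69_S96_D_CLIFF

set_option autoImplicit false
set_option linter.unusedVariables false
set_option linter.unusedSimpArgs false

/-!
# S2094 / S2099 COVER block (architect helper66), package B_COV1 (delivered by helper44)

A Clifford system `e : ι ⊕ ι → A`, `ε : V0 →ₗ[K] A` for the form `qD x + Q0 v` gives a `BStAB`
family of units: long root elements `Y a c t = 1 + t • (e a * e c)` (helper69's `h69_Y`), short root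
elements `YS a v = 1 + e a * ε v`.
-/

namespace Cfsg.Agent.Lib.Helper66_S94

open Cfsg.Agent.Lib.Helper5_SteinbergA Cfsg.Agent.Lib.Helper66_S92 Cfsg.Agent.Lib.Helper66_S96
  Cfsg.Agent.Lib.Helper74_S94

section ring

variable {A : Type*} [Ring A]

/-- `(x p)² = 0` when `x² = 0` and `p` anticommutes with `x` -/
theorem h44_sq_zero {x p : A} (hx : x * x = 0) (hpx : p * x = -(x * p)) :
    (x * p) * (x * p) = 0 := by
  calc (x * p) * (x * p) = x * (p * x) * p := by noncomm_ring
    _ = -(x * x * (p * p)) := by rw [hpx]; noncomm_ring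
    _ = 0 := by rw [hx, zero_mul, neg_zero]

/-- additivity of the short root elements -/
theorem h44_sadd_ring {x p q : A} (hx : x * x = 0) (hpx : p * x = -(x * p)) :
    (1 + x * p) * (1 + x * q) = 1 + x * (p + q) := by
  have h1 : (x * p) * (x * q) = 0 := by
    calc (x * p) * (x * q) = x * (p * x) * q := by noncomm_ring
      _ = -(x * x * (p * q)) := by rw [hpx]; noncomm_ring
      _ = 0 := by rw [hx, zero_mul, neg_zero]
  calc (1 + x * p) * (1 + x * q) = 1 + x * p + x * q + (x * p) * (x * q) := by noncomm_ring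
    _ = 1 + x * (p + q) := by rw [h1, add_zero, mul_add, add_assoc]

/-- the commutator of two short root elements -/
theorem h44_ss_ring {x y p q : A} (hx : x * x = 0) (hy : y * y = 0) (hyx : y * x = -(x * y))
    (hpx : p * x = -(x * p)) (hqx : q * x = -(x * q)) (hpy : p * y = -(y * p))
    (hqy : q * y = -(y * q)) :
    (1 + x * p) * (1 + y * q) =
      (1 - (x * y) * (p * q + q * p)) * ((1 + y * q) * (1 + x * p)) := by
  have Rx : ∀ z, x * (x * z) = 0 := fun z => by rw [← mul_assoc, hx, zero_mul]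
  have Ry : ∀ z, y * (y * z) = 0 := fun z => by rw [← mul_assoc, hy, zero_mul]
  have R1 : ∀ z, y * (x * z) = -(x * (y * z)) := fun z => by
    rw [← mul_assoc, hyx, neg_mul, mul_assoc]
  have R2 : ∀ z, p * (x * z) = -(x * (p * z)) := fun z => by
    rw [← mul_assoc, hpx, neg_mul, mul_assoc]
  have R3 : ∀ z, q * (x * z) = -(x * (q * z)) := fun z => by
    rw [← mul_assoc, hqx, neg_mul, mul_assoc]
  have R4 : ∀ z, p * (y * z) = -(y * (p * z)) := fun z => by
    rw [← mul_assoc, hpy, neg_mul, mul_assoc]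
  have R5 : ∀ z, q * (y * z) = -(y * (q * z)) := fun z => by
    rw [← mul_assoc, hqy, neg_mul, mul_assoc]
  simp only [mul_add, add_mul, mul_sub, sub_mul, mul_one, one_mul, mul_assoc, mul_neg, neg_mul,
    mul_zero, zero_mul, hx, hy, hyx, hpx, hqx, hpy, hqy, Rx, Ry, R1, R2, R3, R4, R5, neg_neg,
    neg_zero, sub_zero, add_zero, zero_add, zero_sub, sub_self]
  abel

/-- the commutator of a long and a short root element -/
theorem h44_ls_ring {X y y' p : A} (hX : X * X = 0) (hy : y * y = 0) (hy' : y' * y' = 0)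
    (hyX : y * X = -(X * y)) (hy'X : y' * X = -(X * y')) (hpX : p * X = -(X * p))
    (hpy : p * y = -(y * p)) (hpy' : p * y' = -(y' * p)) (ho : y * y' + y' * y = 1) :
    (1 + X * y) * (1 + y' * p) =
      ((1 + X * p) * (1 + (p * p) * (X * y'))) * ((1 + y' * p) * (1 + X * y)) := by
  have r1 : y' * y = 1 - y * y' := eq_sub_of_add_eq' ho
  have RX : ∀ z, X * (X * z) = 0 := fun z => by rw [← mul_assoc, hX, zero_mul]
  have Ry : ∀ z, y * (y * z) = 0 := fun z => by rw [← mul_assoc, hy, zero_mul]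
  have Ry' : ∀ z, y' * (y' * z) = 0 := fun z => by rw [← mul_assoc, hy', zero_mul]
  have R0 : ∀ z, y' * (y * z) = z - y * (y' * z) := fun z => by
    rw [← mul_assoc, r1, sub_mul, one_mul, mul_assoc]
  have R1 : ∀ z, y * (X * z) = -(X * (y * z)) := fun z => by
    rw [← mul_assoc, hyX, neg_mul, mul_assoc]
  have R2 : ∀ z, y' * (X * z) = -(X * (y' * z)) := fun z => by
    rw [← mul_assoc, hy'X, neg_mul, mul_assoc]
  have R3 : ∀ z, p * (X * z) = -(X * (p * z)) := fun z => by
    rw [← mul_assoc, hpX, neg_mul, mul_assoc]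
  have R4 : ∀ z, p * (y * z) = -(y * (p * z)) := fun z => by
    rw [← mul_assoc, hpy, neg_mul, mul_assoc]
  have R5 : ∀ z, p * (y' * z) = -(y' * (p * z)) := fun z => by
    rw [← mul_assoc, hpy', neg_mul, mul_assoc]
  simp only [mul_add, add_mul, mul_sub, sub_mul, mul_one, one_mul, mul_assoc, mul_neg, neg_mul,
    mul_zero, zero_mul, hX, hy, hy', hyX, hy'X, hpX, hpy, hpy', r1, RX, Ry, Ry', R0, R1, R2, R3,
    R4, R5, neg_neg, neg_zero, sub_zero, add_zero, zero_add, zero_sub, sub_self]
  abel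

end ring

section family

variable {K : Type*} [Field K] {ι : Type*} {V0 : Type*} [AddCommGroup V0] [Module K V0]
  {Q0 : QuadraticForm K V0} {A : Type*} [Ring A] [Algebra K A] {e : ι ⊕ ι → A} {ε : V0 →ₗ[K] A}

theorem h44_eps_polar (he : IsCliffSysB Q0 e ε) (v w : V0) :
    ε v * ε w + ε w * ε v = algebraMap K A (QuadraticMap.polar Q0 v w) := by
  have h1 := he.eps_sq (v + w)
  rw [map_add] at h1
  have h2 : (ε v + ε w) * (ε v + ε w) =
      ε v * ε v + (ε v * ε w + ε w * ε v) + ε w * ε w := by noncomm_ring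
  rw [h2, he.eps_sq v, he.eps_sq w] at h1
  rw [QuadraticMap.polar, map_sub, map_sub, ← h1]
  abel

/-- `e a` anticommutes with `e c` for `c ≠ ng a`, in the other direction -/
theorem h44_anti' (he : IsCliffSysB Q0 e ε) {a c : ι ⊕ ι} (h : c ≠ ng a) :
    e c * e a = -(e a * e c) := by
  rw [he.anti a c h, neg_neg]

theorem h44_YS_sq (he : IsCliffSysB Q0 e ε) (a : ι ⊕ ι) (v : V0) :
    (e a * ε v) * (e a * ε v) = 0 :=
  h44_sq_zero (he.sq a) (he.eps_anti a v)

/-- the short root elements of a Clifford system -/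
noncomputable def h44_YS (he : IsCliffSysB Q0 e ε) (a : ι ⊕ ι) (v : V0) : Aˣ :=
  h69_unit (e a * ε v) (h44_YS_sq he a v)

theorem h44_YS_val (he : IsCliffSysB Q0 e ε) (a : ι ⊕ ι) (v : V0) :
    ((h44_YS he a v : Aˣ) : A) = 1 + e a * ε v := rfl

variable [DecidableEq ι]

theorem h44_bStAB (he : IsCliffSysB Q0 e ε) :
    BStAB Q0 (h69_Y (K := K) e he.toIsCliffSys) (h44_YS he) where
  long := h69_dStAB e he.toIsCliffSys
  sadd := by
    intro a v w
    apply Units.ext
    rw [Units.val_mul, h44_YS_val, h44_YS_val, h44_YS_val, map_add,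
      h44_sadd_ring (he.sq a) (he.eps_anti a v)]
  scomm := by
    intro a d f v t hd hf
    by_cases h : f = ng d
    · rw [h69_Y_eq e he.toIsCliffSys h, one_mul, mul_one]
    apply Units.ext
    have h1 : ε v * (e d * e f) = (e d * e f) * ε v :=
      h69_anti2 (he.eps_anti d v) (he.eps_anti f v)
    have h2 : e a * (e d * e f) = (e d * e f) * e a :=
      h69_anti2 (he.anti a d hd) (he.anti a f hf)
    have hc : (e a * ε v) * (e d * e f) = (e d * e f) * (e a * ε v) := by
      calc (e a * ε v) * (e d * e f) = e a * (ε v * (e d * e f)) := mul_assoc _ _ _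
        _ = e a * ((e d * e f) * ε v) := by rw [h1]
        _ = (e a * (e d * e f)) * ε v := (mul_assoc _ _ _).symm
        _ = ((e d * e f) * e a) * ε v := by rw [h2]
        _ = (e d * e f) * (e a * ε v) := mul_assoc _ _ _
    rw [Units.val_mul, Units.val_mul, h44_YS_val, h69_Y_val e he.toIsCliffSys h]
    simp only [add_mul, mul_add, one_mul, mul_one, mul_smul_comm, smul_mul_assoc, hc, smul_add]
    abel
  ss := by
    intro a c v w hca hca'
    rw [mul_inv_eq_iff_eq_mul, mul_inv_eq_iff_eq_mul]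
    apply Units.ext
    rw [Units.val_mul, Units.val_mul, Units.val_mul, h44_YS_val, h44_YS_val,
      h69_Y_val e he.toIsCliffSys hca', mul_assoc,
      h44_ss_ring (he.sq a) (he.sq c) (h44_anti' he hca') (he.eps_anti a v) (he.eps_anti a w)
        (he.eps_anti c v) (he.eps_anti c w), h44_eps_polar he v w, neg_smul, Algebra.smul_def,
      ← Algebra.commutes, sub_eq_add_neg]
  ls := by
    intro a c t v hca hca'
    have hc'a : ng c ≠ ng a := fun h => hca (ng_injective h)
    rw [mul_inv_eq_iff_eq_mul, mul_inv_eq_iff_eq_mul]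
    apply Units.ext
    rw [Units.val_mul, Units.val_mul, Units.val_mul, Units.val_mul, h44_YS_val, h44_YS_val,
      h69_Y_val e he.toIsCliffSys hca', h69_Y_val e he.toIsCliffSys hc'a]
    -- absorb the scalar `t` into `X := t • e a`
    have hX : (t • e a) * (t • e a) = 0 := by
      rw [smul_mul_smul_comm, he.sq a, smul_zero]
    have hyX : e c * (t • e a) = -((t • e a) * e c) := by
      rw [mul_smul_comm, smul_mul_assoc, h44_anti' he hca', smul_neg]
    have hy'X : e (ng c) * (t • e a) = -((t • e a) * e (ng c)) := by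
      rw [mul_smul_comm, smul_mul_assoc, h44_anti' he hc'a, smul_neg]
    have hpX : ε v * (t • e a) = -((t • e a) * ε v) := by
      rw [mul_smul_comm, smul_mul_assoc, he.eps_anti a v, smul_neg]
    have key := h44_ls_ring hX (he.sq c) (he.sq (ng c)) hyX hy'X hpX (he.eps_anti c v)
      (he.eps_anti (ng c) v) (he.opp c)
    have e1 : t • (e a * e c) = (t • e a) * e c := (smul_mul_assoc _ _ _).symm
    have e2 : e a * ε (t • v) = (t • e a) * ε v := by
      rw [map_smul, mul_smul_comm, smul_mul_assoc]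
    have e3 : (t * Q0 v) • (e a * e (ng c)) = (ε v * ε v) * ((t • e a) * e (ng c)) := by
      rw [he.eps_sq v, mul_comm t, mul_smul, ← Algebra.smul_def, smul_mul_assoc]
    rw [e1, e2, e3]
    exact key.trans (mul_assoc _ _ _).symm

end family

section main

/-- B_COV1 -/
theorem exists_cliff_familyB {K : Type*} [Field K] {ι : Type*} [DecidableEq ι] {V0 : Type*}
    [AddCommGroup V0] [Module K V0] (Q0 : QuadraticForm K V0) {A : Type*} [Ring A] [Algebra K A]
    (e : ι ⊕ ι → A) (ε : V0 →ₗ[K] A) (he : IsCliffSysB Q0 e ε) :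
    ∃ (Y : ι ⊕ ι → ι ⊕ ι → K → Aˣ) (YS : ι ⊕ ι → V0 → Aˣ), BStAB Q0 Y YS ∧
      (∀ a c t, c ≠ ng a → ((Y a c t : Aˣ) : A) = 1 + t • (e a * e c)) ∧
      (∀ a v, ((YS a v : Aˣ) : A) = 1 + e a * ε v) ∧
      ∀ a c, c ≠ a → c ≠ ng a → ((zD Y a c : Aˣ) : A) = -1 :=
  ⟨h69_Y e he.toIsCliffSys, h44_YS he, h44_bStAB he,
    fun a c t h => h69_Y_val e he.toIsCliffSys h t, fun a v => h44_YS_val he a v,
    fun a c h h' => h69_zD e he.toIsCliffSys a c h h'⟩

end main

end Cfsg.Agent.Lib.Helper66_S94
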