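import Mathlib
import Cfsg.Agent.Lib.Helper41_SLRDefs

/-!
# SLR market (sub-architect helper41), package MONO: `ss_isMono`

`ss j` is monomial with permutation `swap (lo j) (hi j)`.  Self-contained: the matrix of `ss j`
(`h44_ss_val`, `h44_ss_apply` = the statement of package SSVAL) is computed here as well.
-/

set_option autoImplicit false
set_option linter.unusedSectionVars false
set_option linter.unusedVariables false
set_option linter.unusedSimpArgs false

namespace Cfsg.Agent.Lib.Helper44_SLR_MONO

open Matrix Cfsg.Agent.Lib.Helper68_MatGrp Cfsg.Agent.Lib.Helper41_SLRDefs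

variable {n : ℕ} {F : Type*} [Field F]

/-- `ss j = 1 - E_aa - E_bb + E_ab - E_ba` with `a = lo j`, `b = hi j` -/
theorem h44_ss_val (j : Fin (n - 1)) :
    (ss j : Matrix.SpecialLinearGroup (Fin n) F).1 =
      1 - Matrix.single (lo j) (lo j) 1 - Matrix.single (hi j) (hi j) 1
        + Matrix.single (lo j) (hi j) 1 - Matrix.single (hi j) (lo j) 1 := by
  have h1 : (ss j : Matrix.SpecialLinearGroup (Fin n) F).1 =
      (1 + Matrix.single (lo j) (hi j) (1 : F)) * (1 + Matrix.single (hi j) (lo j) (-1 : F)) *
        (1 + Matrix.single (lo j) (hi j) (1 : F)) := rfl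
  rw [h1]
  have hab := lo_ne_hi j
  have hba := hi_ne_lo j
  simp only [Matrix.add_mul, Matrix.mul_add, Matrix.one_mul, Matrix.mul_one,
    Matrix.single_mul_single_same, Matrix.single_mul_single_of_ne _ _ _ _ hba, mul_one, mul_neg,
    neg_mul, one_mul]
  have e1 : Matrix.single (hi j) (lo j) (-1 : F) = - Matrix.single (hi j) (lo j) (1 : F) := by
    rw [← Matrix.single_neg]
  have e2 : Matrix.single (lo j) (lo j) (-1 : F) = - Matrix.single (lo j) (lo j) (1 : F) := by
    rw [← Matrix.single_neg]
  have e3 : Matrix.single (hi j) (hi j) (-1 : F) = - Matrix.single (hi j) (hi j) (1 : F) := by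
    rw [← Matrix.single_neg]
  have e4 : Matrix.single (lo j) (hi j) (-1 : F) = - Matrix.single (lo j) (hi j) (1 : F) := by
    rw [← Matrix.single_neg]
  simp only [e1, e2, e3, e4]
  abel

/-- the statement of package SSVAL -/
theorem h44_ss_apply (j : Fin (n - 1)) (a b : Fin n) :
    (ss j : Matrix.SpecialLinearGroup (Fin n) F).1 a b =
      if b = lo j then (if a = hi j then -1 else 0)
      else if b = hi j then (if a = lo j then 1 else 0)
      else (if a = b then 1 else 0) := by
  rw [h44_ss_val]
  have hab := lo_ne_hi j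
  have hba := hi_ne_lo j
  simp only [Matrix.add_apply, Matrix.sub_apply, Matrix.one_apply, Matrix.single_apply]
  by_cases h1 : b = lo j
  · subst h1
    by_cases h2 : a = hi j
    · subst h2
      simp [hab, hba]
    · by_cases h3 : a = lo j
      · subst h3
        simp [hab, hba]
      · simp [h2, h3, Ne.symm h2, Ne.symm h3, hab, hba]
  · by_cases h2 : b = hi j
    · subst h2
      by_cases h3 : a = lo j
      · subst h3
        simp [hab, hba]
      · by_cases h4 : a = hi j
        · subst h4
          simp [hab, hba]
        · simp [h3, h4, Ne.symm h3, Ne.symm h4, hab, hba]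
    · simp [h1, h2, Ne.symm h1, Ne.symm h2]

/-- MONO from the statement of SSVAL -/
theorem ss_isMono_aux (j : Fin (n - 1))
    (hss : ∀ a b : Fin n, (ss j : Matrix.SpecialLinearGroup (Fin n) F).1 a b =
      if b = lo j then (if a = hi j then -1 else 0)
      else if b = hi j then (if a = lo j then 1 else 0)
      else (if a = b then 1 else 0)) :
    IsMono (φ n F) (ss j : Matrix.SpecialLinearGroup (Fin n) F) (Equiv.swap (lo j) (hi j)) := by
  intro a b hab
  rw [φ_apply, hss]
  by_cases h1 : b = lo j
  · subst h1
    rw [Equiv.swap_apply_left] at hab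
    rw [if_pos rfl, if_neg hab]
  · by_cases h2 : b = hi j
    · subst h2
      rw [Equiv.swap_apply_right] at hab
      rw [if_neg h1, if_pos rfl, if_neg hab]
    · rw [Equiv.swap_apply_of_ne_of_ne h1 h2] at hab
      rw [if_neg h1, if_neg h2, if_neg hab]

/-- **SLR-MONO** `ss j` is monomial with permutation `swap (lo j) (hi j)`. -/
theorem ss_isMono (j : Fin (n - 1)) :
    IsMono (φ n F) (ss j : Matrix.SpecialLinearGroup (Fin n) F) (Equiv.swap (lo j) (hi j)) :=
  ss_isMono_aux j (h44_ss_apply j)

end Cfsg.Agent.Lib.Helper44_SLR_MONO
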