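import Mathlib
import Cfsg.Agent.Lib.Helper85_Sp2Defs
import Cfsg.Agent.Lib.Helper85_Sp2Basic
import Cfsg.Prelude.Def_Classical

/-!
# Helper44_Sp2_GEO2: package GEO2 of the S2142 market (architect helper85)

`[Q_v : B] = 4`, `t_v ∉ B`, `P0 ≤ Stab(v)` normalizes `B` ⇒ `|W| - 1 ≤ [Stab(v) : P0]`.
-/

set_option autoImplicit false

namespace Cfsg.Agent.Lib.Helper44_Sp2_GEO2

open Cfsg.Agent.Lib.Helper85_Sp2Defs Cfsg.Agent.Lib.Helper85_Sp2Basic

section general

variable {𝒢 : Type*} {F : Type*} {U : Type*} [Group 𝒢] [Field F] [Fintype F]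
  [AddCommGroup U] [Module F U]

/-- right cancellation for the form -/
theorem eq_of_beta_eq (hF : Fintype.card F = 2) (D : SpAct 𝒢 F U) (a b : U)
    (h : ∀ y, D.β y a = D.β y b) : a = b := by
  refine sub_eq_zero.mp (D.nondeg (a - b) fun y => ?_)
  rw [beta_symm hF D, map_sub, h, sub_self]

/-- every additive functional on a finite symplectic `F₂`-space is `β(·, u)` -/
theorem exists_repr [Finite U] (hF : Fintype.card F = 2) (D : SpAct 𝒢 F U) (f : U → F)
    (hf : ∀ x y, f (x + y) = f x + f y) : ∃ u : U, ∀ x, f x = D.β x u := by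
  have hf0 : f 0 = 0 := by
    have h := hf 0 0
    rw [add_zero] at h
    have : f 0 + f 0 - f 0 = f 0 - f 0 := by rw [← h]
    simpa using this
  let fl : U →ₗ[F] F :=
    { toFun := f
      map_add' := hf
      map_smul' := by
        intro a x
        rcases F2_cases hF a with rfl | rfl
        · simp [hf0]
        · simp }
  have hnd : D.β.Nondegenerate := by
    refine ⟨fun x hx => D.nondeg x hx, fun y hy => D.nondeg y fun x => ?_⟩
    rw [beta_symm hF D]; exact hy x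
  have : FiniteDimensional F U := Module.Finite.of_finite
  refine ⟨(D.β.toDual hnd).symm fl, fun x => ?_⟩
  rw [beta_symm hF D]
  have := LinearMap.BilinForm.apply_toDual_symm_apply (B := D.β) (hB := hnd) fl x
  rw [this]
  rfl

/-- one step: `β(a,b) = 1` ⇒ the transvection of `a + b` maps `a` to `b` -/
theorem one_step (_hF : Fintype.card F = 2) (D : SpAct 𝒢 F U) (htr : D.HasTransv) (a b : U)
    (hab : D.β a b = 1) : ∃ g : 𝒢, D.ρ g a = b := by
  obtain ⟨t, ht⟩ := htr (a + b)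
  refine ⟨t, ?_⟩
  rw [ht a, map_add, D.alt, hab, zero_add, one_smul, ← add_assoc, D.two, zero_add]

/-- a group containing all transvections is transitive on nonzero vectors -/
theorem trans_of_hasTransv (hF : Fintype.card F = 2) (D : SpAct 𝒢 F U) (htr : D.HasTransv)
    (a b : U) (ha : a ≠ 0) (hb : b ≠ 0) : ∃ g : 𝒢, D.ρ g a = b := by
  rcases F2_cases hF (D.β a b) with h0 | h1
  · -- find x with β(x,a) = β(x,b) = 1
    have hx : ∃ x, D.β a x = 1 ∧ D.β x b = 1 := by
      obtain ⟨x₁, hx₁⟩ := exists_partner hF D a ha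
      obtain ⟨x₂, hx₂⟩ := exists_partner hF D b hb
      rw [beta_symm hF D] at hx₂
      rcases F2_cases hF (D.β x₁ b) with h | h
      · rcases F2_cases hF (D.β a x₂) with h' | h'
        · refine ⟨x₁ + x₂, ?_, ?_⟩
          · rw [map_add, hx₁, h', add_zero]
          · rw [map_add, LinearMap.add_apply, h, hx₂, zero_add]
        · exact ⟨x₂, h', hx₂⟩
      · exact ⟨x₁, hx₁, h⟩
    obtain ⟨x, hax, hxb⟩ := hx
    obtain ⟨g₁, hg₁⟩ := one_step hF D htr a x hax
    obtain ⟨g₂, hg₂⟩ := one_step hF D htr x b hxb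
    exact ⟨g₂ * g₁, by rw [D.rho_mul_apply, hg₁, hg₂]⟩
  · exact one_step hF D htr a b h1

end general

variable {𝒢 : Type*} {F : Type*} {U : Type*} [Group 𝒢] [Field F] [Fintype F]
  [AddCommGroup U] [Module F U] [Fintype U]

/-- PKG GEO2 -/
theorem geo_ii [Finite 𝒢] (hF : Fintype.card F = 2) (D : SpAct 𝒢 F U)
    (v vs : U) (hvs : D.β v vs = 1)
    (γ : ↥(D.WSub v vs) × F → 𝒢) (hγ : D.IsParam v vs γ)
    (DW : SpAct ↥(D.Pstab v) F ↥(D.WSub v vs)) (hDW : D.IsInduced v vs DW)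
    (hpp : D.ParamProps v vs γ DW)
    (htrW : DW.HasTransv)
    (B P0 : Subgroup 𝒢) (hB : B ≤ D.Qrad v) (hP0 : P0 ≤ D.Pstab v)
    (hnorm : ∀ p ∈ P0, ∀ b ∈ B, p * b * p⁻¹ ∈ B)
    (hnt : ∀ b ∈ B, ¬ D.ActsTransv b v)
    (hidx : B.relIndex (D.Qrad v) = 4) :
    Nat.card ↥(D.WSub v vs) - 1 ≤ P0.relIndex (D.Pstab v) := by
  classical
  obtain ⟨hmul, hinj, hconj, htv, -, hcard⟩ := hpp
  have hcQ : γ (0, 1) ∈ D.Qrad v := (hγ.2 _).mpr ⟨0, 1, rfl⟩
  have hcB : γ (0, 1) ∉ B := fun h => hnt _ h htv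
  have hww : ∀ w : ↥(D.WSub v vs), w + w = 0 := fun w => Subtype.ext (D.two w)
  have h00 : γ (0, 0) = 1 := by
    have h := hmul 0 0 0 0
    simp only [add_zero, ZeroMemClass.coe_zero, map_zero, LinearMap.zero_apply] at h
    exact mul_left_cancel (h.trans (mul_one _).symm)
  -- the image of `B` in `W`
  let S : AddSubgroup ↥(D.WSub v vs) :=
    { carrier := {w | ∃ t, γ (w, t) ∈ B}
      zero_mem' := ⟨0, by rw [h00]; exact B.one_mem⟩
      add_mem' := by
        rintro a b ⟨t, ht⟩ ⟨t', ht'⟩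
        have := B.mul_mem ht ht'
        rw [hmul] at this
        exact ⟨_, this⟩
      neg_mem' := by
        rintro a ⟨t, ht⟩
        have : -a = a := by rw [neg_eq_iff_add_eq_zero]; exact hww a
        rw [this]
        exact ⟨t, ht⟩ }
  have hSmem : ∀ w, w ∈ S ↔ ∃ t, γ (w, t) ∈ B := fun w => Iff.rfl
  have huniq : ∀ (w : ↥(D.WSub v vs)) (t t' : F), γ (w, t) ∈ B → γ (w, t') ∈ B → t = t' := by
    intro w t t' ht ht'
    by_contra hne
    have h1 : t + t' = 1 := by
      rcases F2_cases hF t with h | h <;> rcases F2_cases hF t' with h' | h'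
      · exact absurd (h.trans h'.symm) hne
      · rw [h, h', zero_add]
      · rw [h, h', add_zero]
      · exact absurd (h.trans h'.symm) hne
    have h3 := B.mul_mem ht ht'
    rw [hmul, hww, D.alt, add_zero, h1] at h3
    exact hcB h3
  -- |S| = |B|
  have hSB : Nat.card S = Nat.card B := by
    have hch : ∀ s : S, ∃ t, γ ((s : ↥(D.WSub v vs)), t) ∈ B := fun s => s.2
    choose τ hτ using hch
    apply Nat.card_eq_of_bijective (fun s : S => (⟨γ ((s : ↥(D.WSub v vs)), τ s), hτ s⟩ : B))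
    constructor
    · intro s s' h
      have h1 : γ ((s : ↥(D.WSub v vs)), τ s) = γ ((s' : ↥(D.WSub v vs)), τ s') :=
        congrArg Subtype.val h
      have h2 := hinj h1
      exact Subtype.ext (congrArg Prod.fst h2)
    · rintro ⟨b, hb⟩
      obtain ⟨w, t, rfl⟩ := (hγ.2 b).mp (hB hb)
      refine ⟨⟨w, ⟨t, hb⟩⟩, ?_⟩
      apply Subtype.ext
      show γ (w, τ ⟨w, ⟨t, hb⟩⟩) = γ (w, t)
      rw [huniq w _ t (hτ ⟨w, ⟨t, hb⟩⟩) hb]
  have hcardB : Nat.card B * 4 = Nat.card ↥(D.Qrad v) := by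
    have h := Subgroup.card_mul_index (B.subgroupOf (D.Qrad v))
    rw [Nat.card_congr (Subgroup.subgroupOfEquivOfLe hB).toEquiv] at h
    rw [← h]
    congr 1
    exact hidx.symm
  have hSW : Nat.card S * 2 = Nat.card ↥(D.WSub v vs) := by omega
  have hSidx : S.index = 2 := by
    have h := AddSubgroup.card_mul_index S
    have hpos : 0 < Nat.card S := Nat.card_pos
    exact Nat.eq_of_mul_eq_mul_left hpos (h.trans hSW.symm)
  -- the functional with kernel `S`
  let f : ↥(D.WSub v vs) → F := fun w => if w ∈ S then 0 else 1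
  have hf0 : ∀ w, w ∈ S → f w = 0 := fun w hw => if_pos hw
  have hf1 : ∀ w, w ∉ S → f w = 1 := fun w hw => if_neg hw
  have hfadd : ∀ a b, f (a + b) = f a + f b := by
    intro a b
    have key := AddSubgroup.add_mem_iff_of_index_two hSidx (a := a) (b := b)
    by_cases ha : a ∈ S <;> by_cases hb : b ∈ S
    · have : a + b ∈ S := key.mpr ⟨fun _ => hb, fun _ => ha⟩
      rw [hf0 _ this, hf0 _ ha, hf0 _ hb, add_zero]
    · have : a + b ∉ S := fun h => hb ((key.mp h).mp ha)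
      rw [hf1 _ this, hf0 _ ha, hf1 _ hb, zero_add]
    · have : a + b ∉ S := fun h => ha ((key.mp h).mpr hb)
      rw [hf1 _ this, hf1 _ ha, hf0 _ hb, add_zero]
    · have : a + b ∈ S := key.mpr ⟨fun h => absurd h ha, fun h => absurd h hb⟩
      rw [hf0 _ this, hf1 _ ha, hf1 _ hb, F2_add_self hF]
  obtain ⟨w₀, hw₀⟩ := exists_repr hF DW f hfadd
  have hS : ∀ w, w ∈ S ↔ DW.β w w₀ = 0 := by
    intro w
    rw [← hw₀ w]
    constructor
    · exact hf0 w
    · intro h
      by_contra hw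
      rw [hf1 w hw] at h
      exact one_ne_zero h
  -- `P0` preserves `S`
  have hpres : ∀ p : ↥(D.Pstab v), (p : 𝒢) ∈ P0 → ∀ w, w ∈ S → DW.ρ p w ∈ S := by
    rintro p hp w ⟨t, ht⟩
    refine ⟨t, ?_⟩
    rw [← hconj p w t]
    exact hnorm _ hp _ ht
  -- `P0` fixes `w₀`
  have hfixw : ∀ p : ↥(D.Pstab v), (p : 𝒢) ∈ P0 → DW.ρ p w₀ = w₀ := by
    intro p hp
    have hp' : ((p⁻¹ : ↥(D.Pstab v)) : 𝒢) ∈ P0 := by
      rw [Subgroup.coe_inv]; exact P0.inv_mem hp
    have hiff : ∀ w, w ∈ S ↔ DW.ρ p w ∈ S := by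
      intro w
      constructor
      · exact hpres p hp w
      · intro h
        have := hpres p⁻¹ hp' _ h
        rwa [DW.rho_inv_apply] at this
    have hval : ∀ w, DW.β w w₀ = DW.β (DW.ρ p w) w₀ := by
      intro w
      have h1 := hiff w
      rw [hS, hS] at h1
      rcases F2_cases hF (DW.β w w₀) with h | h
      · rw [h, h1.mp h]
      · rcases F2_cases hF (DW.β (DW.ρ p w) w₀) with h' | h'
        · rw [h1.mpr h'] at h
          exact absurd h zero_ne_one
        · rw [h, h']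
    apply eq_of_beta_eq hF DW
    intro y
    have h1 := hval (DW.ρ p⁻¹ y)
    rw [DW.rho_apply_inv] at h1
    rw [← h1]
    have h2 := DW.pres p (DW.ρ p⁻¹ y) w₀
    rw [DW.rho_apply_inv] at h2
    exact h2
  -- transitivity of the stabilizer on `W - 0`
  have hw₀ne : w₀ ≠ 0 := by
    intro h0
    have hall : ∀ w, w ∈ S := fun w => by rw [hS, h0, map_zero]
    have : S = ⊤ := by
      ext w
      exact ⟨fun _ => AddSubgroup.mem_top w, fun _ => hall w⟩
    rw [this, AddSubgroup.index_top] at hSidx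
    omega
  have hch : ∀ w : {w : ↥(D.WSub v vs) // w ≠ 0}, ∃ p : ↥(D.Pstab v), DW.ρ p w₀ = w := fun w =>
    trans_of_hasTransv hF DW htrW w₀ w hw₀ne w.2
  choose π hπ using hch
  have hinjq : Function.Injective
      (fun w : {w : ↥(D.WSub v vs) // w ≠ 0} =>
        (QuotientGroup.mk (π w) : ↥(D.Pstab v) ⧸ P0.subgroupOf (D.Pstab v))) := by
    intro w w' h
    have h1 : (π w)⁻¹ * π w' ∈ P0.subgroupOf (D.Pstab v) := QuotientGroup.eq.mp h
    rw [Subgroup.mem_subgroupOf] at h1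
    have h2 := hfixw _ h1
    rw [DW.rho_mul_apply, hπ w'] at h2
    have h3 : DW.ρ (π w) (DW.ρ (π w)⁻¹ (w' : ↥(D.WSub v vs))) = DW.ρ (π w) w₀ := by rw [h2]
    rw [DW.rho_apply_inv, hπ w] at h3
    exact Subtype.ext h3.symm
  have hle := Nat.card_le_card_of_injective _ hinjq
  have hcardW : Nat.card ↥(D.WSub v vs) = Nat.card {w : ↥(D.WSub v vs) // w ≠ 0} + 1 := by
    rw [← Finite.card_option]
    exact (Nat.card_congr (Equiv.optionSubtypeNe (0 : ↥(D.WSub v vs)))).symm
  have hrel : P0.relIndex (D.Pstab v)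
      = Nat.card (↥(D.Pstab v) ⧸ P0.subgroupOf (D.Pstab v)) := rfl
  rw [hrel]
  omega

end Cfsg.Agent.Lib.Helper44_Sp2_GEO2
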