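import Mathlib
import Cfsg.Agent.Lib.Helper85_Sp2Defs
import Cfsg.Agent.Lib.Helper85_Sp2Basic
import Cfsg.Prelude.Def_Classical

/-!
# Helper44_Sp2_GEO3: package GEO3 of the S2142 market (architect helper85)

`[Q_v : B] = 2`, `t_v ∉ B` ⇒ `B` fixes exactly two forms.
-/

set_option autoImplicit false

namespace Cfsg.Agent.Lib.Helper44_Sp2_GEO3

open Cfsg.Agent.Lib.Helper85_Sp2Defs Cfsg.Agent.Lib.Helper85_Sp2Basic

variable {𝒢 : Type*} {F : Type*} {U : Type*} [Group 𝒢] [Field F] [Fintype F]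
  [AddCommGroup U] [Module F U] [Fintype U]

omit [Fintype U] in
theorem Q_smul (hF : Fintype.card F = 2) (D : SpAct 𝒢 F U) (Q : QF D.β) (s : F) (y : U) :
    Q.1 (s • y) = s * Q.1 y := by
  rcases F2_cases hF s with rfl | rfl
  · simp [QF_zero D Q]
  · simp

theorem two_eq_zero_F (hF : Fintype.card F = 2) : (2 : F) = 0 := by
  have := F2_add_self hF (1 : F)
  rw [one_add_one_eq_two] at this; exact this

omit [Fintype U] in
/-- the value of a form on the image of `x` under `γ (w, t)` -/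
theorem Q_gamma (hF : Fintype.card F = 2) (D : SpAct 𝒢 F U) (v vs : U)
    (γ : ↥(D.WSub v vs) × F → 𝒢) (hγ : D.IsParam v vs γ) (Q : QF D.β)
    (w : ↥(D.WSub v vs)) (t : F) (x : U) :
    Q.1 (D.ρ (γ (w, t)) x) = Q.1 x + D.β x v * Q.1 (w : U)
      + (D.β x (w : U) + t * D.β x v) * Q.1 v + t * D.β x v := by
  rw [hγ.1 w t x, Q.2, Q.2, Q.2, Q_smul hF, Q_smul hF, Q_smul hF]
  have hwv : D.β (w : U) v = 0 := w.2.1
  simp only [map_add, map_smul, LinearMap.add_apply, LinearMap.smul_apply, smul_eq_mul, D.alt, hwv]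
  have h2 := two_eq_zero_F (F := F) hF
  have h1 := F2_mul_self hF (D.β x v)
  linear_combination (D.β x v * D.β x (w : U)) * h2 + t * h1

omit [Fintype U] in
/-- the projection `x ↦ x + β(x,vs) v + β(x,v) vs` onto `W` -/
theorem proj_mem (hF : Fintype.card F = 2) (D : SpAct 𝒢 F U) (v vs : U) (hvs : D.β v vs = 1)
    (x : U) : x + D.β x vs • v + D.β x v • vs ∈ D.WSub v vs := by
  have hsv : D.β vs v = 1 := by rw [beta_symm hF D vs v]; exact hvs
  rw [D.mem_WSub]
  simp only [map_add, map_smul, LinearMap.add_apply, LinearMap.smul_apply, smul_eq_mul, D.alt,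
    hvs, hsv, mul_zero, mul_one, add_zero]
  exact ⟨F2_add_self hF _, F2_add_self hF _⟩

/-- PKG GEO3 -/
theorem geo_G (hF : Fintype.card F = 2) (D : SpAct 𝒢 F U)
    (v vs : U) (hvs : D.β v vs = 1)
    (γ : ↥(D.WSub v vs) × F → 𝒢) (hγ : D.IsParam v vs γ)
    (DW : SpAct ↥(D.Pstab v) F ↥(D.WSub v vs))
    (hpp : D.ParamProps v vs γ DW)
    (hW : ∃ w : ↥(D.WSub v vs), w ≠ 0)
    (B : Subgroup 𝒢) (hB : B ≤ D.Qrad v)
    (hnt : ∀ b ∈ B, ¬ D.ActsTransv b v)
    (hidx : B.relIndex (D.Qrad v) = 2) :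
    Nat.card {Q : QF D.β // ∀ b ∈ B, D.FixesQ b Q} = 2 := by
  classical
  obtain ⟨hmul, hinj, -, htv, -, -⟩ := hpp
  have hsv : D.β vs v = 1 := by rw [beta_symm hF D vs v]; exact hvs
  have h2 := two_eq_zero_F (F := F) hF
  have hcQ : γ (0, 1) ∈ D.Qrad v := (hγ.2 _).mpr ⟨0, 1, rfl⟩
  have hcB : γ (0, 1) ∉ B := fun h => hnt _ h htv
  -- dichotomy from index two
  have hdich : ∀ g ∈ D.Qrad v, g ∈ B ∨ g * γ (0, 1) ∈ B := by
    intro g hg
    have key := Subgroup.mul_mem_iff_of_index_two (H := B.subgroupOf (D.Qrad v)) hidx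
      (a := ⟨g, hg⟩) (b := ⟨γ (0, 1), hcQ⟩)
    simp only [Subgroup.mem_subgroupOf, Subgroup.coe_mul] at key
    by_cases hgB : g ∈ B
    · exact Or.inl hgB
    · right
      apply key.mpr
      constructor
      · intro h; exact absurd h hgB
      · intro h; exact absurd h hcB
  have hex : ∀ w : ↥(D.WSub v vs), ∃ t : F, γ (w, t) ∈ B := by
    intro w
    have hg : γ (w, 0) ∈ D.Qrad v := (hγ.2 _).mpr ⟨w, 0, rfl⟩
    rcases hdich _ hg with h | h
    · exact ⟨0, h⟩
    · refine ⟨1, ?_⟩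
      rw [hmul] at h
      simpa using h
  choose q hq using hex
  have hww : ∀ w : ↥(D.WSub v vs), w + w = 0 := fun w => Subtype.ext (D.two w)
  have huniq : ∀ (w : ↥(D.WSub v vs)) (t : F), γ (w, t) ∈ B → t = q w := by
    intro w t ht
    by_contra hne
    have h1 : t + q w = 1 := by
      rcases F2_cases hF t with h | h <;> rcases F2_cases hF (q w) with h' | h'
      · exact absurd (h.trans h'.symm) hne
      · rw [h, h', zero_add]
      · rw [h, h', add_zero]
      · exact absurd (h.trans h'.symm) hne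
    have h3 := B.mul_mem ht (hq w)
    rw [hmul, hww, D.alt, add_zero, h1] at h3
    exact hcB h3
  have hqadd : ∀ w w' : ↥(D.WSub v vs), q (w + w') = q w + q w' + D.β (w : U) (w' : U) := by
    intro w w'
    have h3 := B.mul_mem (hq w) (hq w')
    rw [hmul] at h3
    exact (huniq _ _ h3).symm
  have hq0 : q 0 = 0 := by
    have h := hqadd 0 0
    simp only [add_zero, ZeroMemClass.coe_zero, map_zero, LinearMap.zero_apply] at h
    have : q 0 + q 0 - q 0 = q 0 - q 0 := by rw [← h]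
    simpa using this
  have hBmem : ∀ b ∈ B, ∃ w, b = γ (w, q w) := by
    intro b hb
    obtain ⟨w, t, rfl⟩ := (hγ.2 b).mp (hB hb)
    exact ⟨w, by rw [huniq w t hb]⟩
  -- characterization of fixed forms
  have hchar : ∀ Q : QF D.β, (∀ b ∈ B, D.FixesQ b Q) ↔
      (Q.1 v = 0 ∧ ∀ w : ↥(D.WSub v vs), Q.1 (w : U) = q w) := by
    intro Q
    constructor
    · intro hfix
      have hQv : Q.1 v = 0 := by
        obtain ⟨w, hw⟩ := hW
        -- a partner of w orthogonal to v
        have hwU : (w : U) ≠ 0 := fun h => hw (Subtype.ext h)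
        obtain ⟨x, hx⟩ := exists_partner hF D (w : U) hwU
        have hxw : D.β x (w : U) = 1 := by rw [beta_symm hF D]; exact hx
        have hwvs : D.β vs (w : U) = 0 := by rw [beta_symm hF D]; exact w.2.2
        have h3 := hfix _ (hq w) (x + D.β x v • vs)
        rw [Q_gamma hF D v vs γ hγ] at h3
        simp only [map_add, map_smul, LinearMap.add_apply, LinearMap.smul_apply, smul_eq_mul,
          hsv, hxw, hwvs, mul_one, mul_zero, add_zero, F2_add_self hF, zero_mul, one_mul] at h3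
        have : Q.1 (x + D.β x v • vs) + Q.1 v - Q.1 (x + D.β x v • vs)
            = Q.1 (x + D.β x v • vs) - Q.1 (x + D.β x v • vs) := by rw [h3]
        simpa using this
      refine ⟨hQv, fun w => ?_⟩
      have hwvs : D.β vs (w : U) = 0 := by rw [beta_symm hF D]; exact w.2.2
      have h3 := hfix _ (hq w) vs
      rw [Q_gamma hF D v vs γ hγ, hQv, hsv, hwvs] at h3
      simp only [mul_one, mul_zero, add_zero, one_mul] at h3
      have h4 : Q.1 (w : U) + q w = 0 := by
        have : Q.1 vs + Q.1 (w : U) + q w - Q.1 vs = Q.1 vs - Q.1 vs := by rw [h3]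
        rw [sub_self] at this
        rw [← this]; ring
      have h5 := F2_add_self hF (q w)
      linear_combination h4 - h5
    · rintro ⟨hQv, hQw⟩ b hb x
      obtain ⟨w, rfl⟩ := hBmem b hb
      rw [Q_gamma hF D v vs γ hγ, hQv, hQw]
      have := F2_add_self hF (D.β x v * q w)
      linear_combination this
  -- the base form
  let π : U → ↥(D.WSub v vs) := fun x => ⟨x + D.β x vs • v + D.β x v • vs, proj_mem hF D v vs hvs x⟩
  have hπadd : ∀ x y, π (x + y) = π x + π y := by
    intro x y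
    apply Subtype.ext
    show (x + y) + D.β (x + y) vs • v + D.β (x + y) v • vs
      = (x + D.β x vs • v + D.β x v • vs) + (y + D.β y vs • v + D.β y v • vs)
    simp only [map_add, LinearMap.add_apply, add_smul]
    abel
  have hπβ : ∀ x y, D.β ((π x : ↥(D.WSub v vs)) : U) ((π y : ↥(D.WSub v vs)) : U)
      = D.β x y + D.β x v * D.β y vs + D.β y v * D.β x vs := by
    intro x y
    show D.β (x + D.β x vs • v + D.β x v • vs) (y + D.β y vs • v + D.β y v • vs) = _
    simp only [map_add, map_smul, LinearMap.add_apply, LinearMap.smul_apply, smul_eq_mul, D.alt,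
      hvs, hsv, mul_zero, mul_one, add_zero]
    rw [beta_symm hF D v y, beta_symm hF D vs y]
    linear_combination (D.β x v * D.β y vs + D.β y v * D.β x vs) * h2
  let Q0 : QF D.β := ⟨fun x => D.β x v * D.β x vs + q (π x), fun x y => by
    show D.β (x + y) v * D.β (x + y) vs + q (π (x + y))
      = D.β x v * D.β x vs + q (π x) + (D.β y v * D.β y vs + q (π y)) + D.β x y
    rw [hπadd, hqadd, hπβ]
    simp only [map_add, LinearMap.add_apply]
    linear_combination (D.β x v * D.β y vs + D.β y v * D.β x vs) * h2⟩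
  have hQ0v : Q0.1 v = 0 := by
    show D.β v v * D.β v vs + q (π v) = 0
    have : π v = 0 := by
      apply Subtype.ext
      show v + D.β v vs • v + D.β v v • vs = 0
      rw [hvs, D.alt, one_smul, zero_smul, add_zero, D.two]
    rw [this, hq0, D.alt, zero_mul, add_zero]
  have hQ0w : ∀ w : ↥(D.WSub v vs), Q0.1 (w : U) = q w := by
    intro w
    show D.β (w : U) v * D.β (w : U) vs + q (π (w : U)) = q w
    have : π (w : U) = w := by
      apply Subtype.ext
      show (w : U) + D.β (w : U) vs • v + D.β (w : U) v • vs = w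
      rw [w.2.1, w.2.2, zero_smul, zero_smul, add_zero, add_zero]
    rw [this, w.2.1, zero_mul, zero_add]
  have hQ0vs : Q0.1 vs = 0 := by
    show D.β vs v * D.β vs vs + q (π vs) = 0
    have : π vs = 0 := by
      apply Subtype.ext
      show vs + D.β vs vs • v + D.β vs v • vs = 0
      rw [hsv, D.alt, one_smul, zero_smul, add_zero, D.two]
    rw [this, hq0, D.alt, mul_zero, add_zero]
  let Q1 : QF D.β := translate D Q0 v
  have hQ1v : Q1.1 v = 0 := by
    show Q0.1 v + D.β v v = 0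
    rw [hQ0v, D.alt, add_zero]
  have hQ1w : ∀ w : ↥(D.WSub v vs), Q1.1 (w : U) = q w := by
    intro w
    show Q0.1 (w : U) + D.β (w : U) v = q w
    rw [hQ0w, w.2.1, add_zero]
  have hQ1vs : Q1.1 vs = 1 := by
    show Q0.1 vs + D.β vs v = 1
    rw [hQ0vs, hsv, zero_add]
  -- uniqueness: a fixed form is determined by its value at `vs`
  have hdet : ∀ Q Q' : QF D.β, (Q.1 v = 0 ∧ ∀ w : ↥(D.WSub v vs), Q.1 (w : U) = q w) →
      (Q'.1 v = 0 ∧ ∀ w : ↥(D.WSub v vs), Q'.1 (w : U) = q w) → Q.1 vs = Q'.1 vs → Q = Q' := by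
    intro Q Q' hQ hQ' hvsQ
    apply Subtype.ext
    funext x
    have hx : x = ((π x : ↥(D.WSub v vs)) : U) + (D.β x vs • v + D.β x v • vs) := by
      show x = (x + D.β x vs • v + D.β x v • vs) + (D.β x vs • v + D.β x v • vs)
      rw [add_assoc x, add_assoc x, D.two, add_zero]
    have hform : ∀ (Q : QF D.β) (y : ↥(D.WSub v vs)) (a b : F),
        (Q.1 v = 0 ∧ ∀ w : ↥(D.WSub v vs), Q.1 (w : U) = q w) →
        Q.1 ((y : U) + (b • v + a • vs)) = q y + (b * 0 + a * Q.1 vs + D.β (b • v) (a • vs))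
          + D.β (y : U) (b • v + a • vs) := by
      intro Q y a b hQ
      rw [Q.2, Q.2, Q_smul hF, Q_smul hF, hQ.1, hQ.2]
    rw [hx, hform Q (π x) _ _ hQ, hform Q' (π x) _ _ hQ', hvsQ]
  rw [Nat.card_eq_two_iff]
  refine ⟨⟨Q0, (hchar Q0).mpr ⟨hQ0v, hQ0w⟩⟩, ⟨Q1, (hchar Q1).mpr ⟨hQ1v, hQ1w⟩⟩, ?_, ?_⟩
  · intro h
    have h' : Q0 = Q1 := congrArg Subtype.val h
    have : Q0.1 vs = Q1.1 vs := by rw [h']
    rw [hQ0vs, hQ1vs] at this
    exact zero_ne_one this
  · apply Set.eq_univ_of_forall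
    rintro ⟨Q, hQfix⟩
    have hQ := (hchar Q).mp hQfix
    rcases F2_cases hF (Q.1 vs) with h | h
    · left
      apply Subtype.ext
      exact hdet Q Q0 hQ ⟨hQ0v, hQ0w⟩ (h.trans hQ0vs.symm)
    · right
      rw [Set.mem_singleton_iff]
      apply Subtype.ext
      exact hdet Q Q1 hQ ⟨hQ1v, hQ1w⟩ (h.trans hQ1vs.symm)

end Cfsg.Agent.Lib.Helper44_Sp2_GEO3
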