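import Mathlib
import Cfsg.Agent.S0765
import Cfsg.Agent.Lib.Helper44_Sp4Char2

/-!
# The exceptional graph automorphism of `Sp_4(F)` in characteristic two (helper44)

The map sending a symplectic `4 × 4` matrix to the matrix of its `2 × 2` minors on the pairs
`(12, 14, 34, 23)` (rows and columns) is, in characteristic two, an endomorphism of `Sp_4(F)`
whose square is the Frobenius map.  It induces an automorphism of `PSp_4(F)` that maps
transvections to short root elements.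
-/

set_option autoImplicit false
set_option linter.unusedSectionVars false
set_option linter.unusedVariables false
set_option linter.unusedSimpArgs false
set_option linter.unreachableTactic false
set_option linter.unusedTactic false
set_option linter.style.haveILetI false

namespace Cfsg.Agent.Lib.Helper44_Sp4Graph

open Matrix

/-- the index type of `4 × 4` symplectic matrices -/
abbrev I4 := Fin 2 ⊕ Fin 2

section ring

variable {R : Type*} [CommRing R]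

/-- first index of the pair attached to an index -/
def p1 : I4 → I4 := Sum.elim ![Sum.inl 0, Sum.inl 0] ![Sum.inr 0, Sum.inl 1]
/-- second index of the pair attached to an index -/
def p2 : I4 → I4 := Sum.elim ![Sum.inl 1, Sum.inr 1] ![Sum.inr 1, Sum.inr 0]

/-- `2 × 2` minor -/
def mn (g : Matrix I4 I4 R) (a b c d : I4) : R := g a c * g b d - g a d * g b c

/-- the matrix of `2 × 2` minors on the pairs `(12, 14, 34, 23)` -/
def gam (g : Matrix I4 I4 R) : Matrix I4 I4 R :=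
  Matrix.of fun x y => mn g (p1 x) (p2 x) (p1 y) (p2 y)

theorem gam_apply (g : Matrix I4 I4 R) (x y : I4) :
    gam g x y = mn g (p1 x) (p2 x) (p1 y) (p2 y) := rfl

theorem sum_I4 (f : I4 → R) :
    ∑ i, f i = f (Sum.inl 0) + f (Sum.inl 1) + f (Sum.inr 0) + f (Sum.inr 1) := by
  rw [Fintype.sum_sum_type, Fin.sum_univ_two, Fin.sum_univ_two]
  ring

theorem J_ll (i j : Fin 2) : (J (Fin 2) R) (Sum.inl i) (Sum.inl j) = 0 := by simp [Matrix.J]
theorem J_rr (i j : Fin 2) : (J (Fin 2) R) (Sum.inr i) (Sum.inr j) = 0 := by simp [Matrix.J]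
theorem J_lr (i j : Fin 2) : (J (Fin 2) R) (Sum.inl i) (Sum.inr j) = if i = j then -1 else 0 := by
  simp only [Matrix.J, Matrix.fromBlocks_apply₁₂, Matrix.neg_apply, Matrix.one_apply]
  split_ifs <;> simp
theorem J_rl (i j : Fin 2) : (J (Fin 2) R) (Sum.inr i) (Sum.inl j) = if i = j then 1 else 0 := by
  simp only [Matrix.J, Matrix.fromBlocks_apply₂₁, Matrix.one_apply]

theorem rowrel (g : Matrix I4 I4 R) (hg : g * J (Fin 2) R * gᵀ = J (Fin 2) R) (a b : I4) :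
    mn g a b (Sum.inl 0) (Sum.inr 0) + mn g a b (Sum.inl 1) (Sum.inr 1) = - (J (Fin 2) R) a b := by
  have h := congrFun (congrFun hg a) b
  generalize J (Fin 2) R a b = c at h ⊢
  simp only [Matrix.mul_apply, Matrix.transpose_apply, sum_I4, J_ll, J_rr, J_lr, J_rl] at h
  simp at h
  unfold mn
  linear_combination -h

theorem colrel (g : Matrix I4 I4 R) (hg : gᵀ * J (Fin 2) R * g = J (Fin 2) R) (c d : I4) :
    mn g (Sum.inl 0) (Sum.inr 0) c d + mn g (Sum.inl 1) (Sum.inr 1) c d = - (J (Fin 2) R) c d := by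
  have h := congrFun (congrFun hg c) d
  generalize J (Fin 2) R c d = e at h ⊢
  simp only [Matrix.mul_apply, Matrix.transpose_apply, sum_I4, J_ll, J_rr, J_lr, J_rl] at h
  simp at h
  unfold mn
  linear_combination -h

@[simp] theorem p1_0 : p1 (Sum.inl 0) = Sum.inl 0 := rfl
@[simp] theorem p1_1 : p1 (Sum.inl 1) = Sum.inl 0 := rfl
@[simp] theorem p1_2 : p1 (Sum.inr 0) = Sum.inr 0 := rfl
@[simp] theorem p1_3 : p1 (Sum.inr 1) = Sum.inl 1 := rfl
@[simp] theorem p2_0 : p2 (Sum.inl 0) = Sum.inl 1 := rfl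
@[simp] theorem p2_1 : p2 (Sum.inl 1) = Sum.inr 1 := rfl
@[simp] theorem p2_2 : p2 (Sum.inr 0) = Sum.inr 1 := rfl
@[simp] theorem p2_3 : p2 (Sum.inr 1) = Sum.inr 0 := rfl

/-- Cauchy–Binet for `2 × 2` minors -/
theorem cauchy_binet (g h : Matrix I4 I4 R) (a b c d : I4) :
    mn (g * h) a b c d =
      mn g a b (Sum.inl 0) (Sum.inl 1) * mn h (Sum.inl 0) (Sum.inl 1) c d +
      mn g a b (Sum.inl 0) (Sum.inr 1) * mn h (Sum.inl 0) (Sum.inr 1) c d +
      mn g a b (Sum.inr 0) (Sum.inr 1) * mn h (Sum.inr 0) (Sum.inr 1) c d +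
      mn g a b (Sum.inl 1) (Sum.inr 0) * mn h (Sum.inl 1) (Sum.inr 0) c d +
      mn g a b (Sum.inl 0) (Sum.inr 0) * mn h (Sum.inl 0) (Sum.inr 0) c d +
      mn g a b (Sum.inl 1) (Sum.inr 1) * mn h (Sum.inl 1) (Sum.inr 1) c d := by
  unfold mn
  simp only [Matrix.mul_apply, sum_I4]
  ring

theorem J_p (x : I4) : (J (Fin 2) R) (p1 x) (p2 x) = 0 := by
  rcases x with i | i <;> fin_cases i <;> simp [J_ll, J_rr, J_lr, J_rl]

/-- multiplicativity of `gam` on symplectic matrices, in characteristic two -/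
theorem gam_mul (h2 : (2 : R) = 0) (g h : Matrix I4 I4 R)
    (hg : g * J (Fin 2) R * gᵀ = J (Fin 2) R) (hh : hᵀ * J (Fin 2) R * h = J (Fin 2) R) :
    gam (g * h) = gam g * gam h := by
  ext x y
  rw [Matrix.mul_apply, sum_I4]
  simp only [gam_apply]
  rw [cauchy_binet]
  have r1 := rowrel g hg (p1 x) (p2 x)
  have r2 := colrel h hh (p1 y) (p2 y)
  rw [J_p, neg_zero] at r1 r2
  simp only [p1_0, p1_1, p1_2, p1_3, p2_0, p2_1, p2_2, p2_3]
  linear_combination (mn h (Sum.inl 0) (Sum.inr 0) (p1 y) (p2 y)) * r1 +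
    (mn g (p1 x) (p2 x) (Sum.inl 1) (Sum.inr 1)) * r2 -
    (mn g (p1 x) (p2 x) (Sum.inl 1) (Sum.inr 1)) * (mn h (Sum.inl 0) (Sum.inr 0) (p1 y) (p2 y)) * h2

theorem gam_one : gam (1 : Matrix I4 I4 R) = 1 := by
  ext x y
  rcases x with i | i <;> rcases y with j | j <;> fin_cases i <;> fin_cases j <;>
    simp [gam_apply, mn, Matrix.one_apply]

/-- `J *ᵥ v` -/
def wv (v : I4 → R) : I4 → R := Sum.elim (fun k => - v (Sum.inr k)) (fun k => v (Sum.inl k))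

theorem J_mulVec (v : I4 → R) : J (Fin 2) R *ᵥ v = wv v := by
  funext x
  rcases x with i | i <;> fin_cases i <;>
    simp [Matrix.mulVec, dotProduct, sum_I4, J_ll, J_rr, J_lr, J_rl, wv]

theorem tv_apply (v : I4 → R) (c : R) (x y : I4) :
    Cfsg.sympTransvection 2 v c x y = (if x = y then 1 else 0) + c * (v x * wv v y) := by
  unfold Cfsg.sympTransvection
  rw [J_mulVec, Matrix.add_apply, Matrix.smul_apply, Matrix.vecMulVec_apply, Matrix.one_apply,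
    smul_eq_mul]

-- G3 on transvections
theorem gam_tv_symp_00 (h2 : (2 : R) = 0) (v : I4 → R) (c : R) :
    (gam (Cfsg.sympTransvection 2 v c) * J (Fin 2) R * (gam (Cfsg.sympTransvection 2 v c))ᵀ)
      (Sum.inl 0) (Sum.inl 0) = J (Fin 2) R (Sum.inl 0) (Sum.inl 0) := by
  simp only [Matrix.mul_apply, Matrix.transpose_apply, sum_I4, J_ll, J_rr, J_lr, J_rl, gam_apply, mn,
    p1_0, p1_1, p1_2, p1_3, p2_0, p2_1, p2_2, p2_3, tv_apply, wv, Sum.elim_inl, Sum.elim_inr]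
  first
  | (simp; done)
  | (simp; linear_combination (0) * h2)

theorem gam_tv_symp_01 (h2 : (2 : R) = 0) (v : I4 → R) (c : R) :
    (gam (Cfsg.sympTransvection 2 v c) * J (Fin 2) R * (gam (Cfsg.sympTransvection 2 v c))ᵀ)
      (Sum.inl 0) (Sum.inl 1) = J (Fin 2) R (Sum.inl 0) (Sum.inl 1) := by
  simp only [Matrix.mul_apply, Matrix.transpose_apply, sum_I4, J_ll, J_rr, J_lr, J_rl, gam_apply, mn,
    p1_0, p1_1, p1_2, p1_3, p2_0, p2_1, p2_2, p2_3, tv_apply, wv, Sum.elim_inl, Sum.elim_inr]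
  first
  | (simp; done)
  | (simp; linear_combination ((-1) * v (Sum.inl 0)^2 * c + (1) * v (Sum.inl 0)^3 * v (Sum.inr 0) * c^2) * h2)

theorem gam_tv_symp_02 (h2 : (2 : R) = 0) (v : I4 → R) (c : R) :
    (gam (Cfsg.sympTransvection 2 v c) * J (Fin 2) R * (gam (Cfsg.sympTransvection 2 v c))ᵀ)
      (Sum.inl 0) (Sum.inr 0) = J (Fin 2) R (Sum.inl 0) (Sum.inr 0) := by
  simp only [Matrix.mul_apply, Matrix.transpose_apply, sum_I4, J_ll, J_rr, J_lr, J_rl, gam_apply, mn,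
    p1_0, p1_1, p1_2, p1_3, p2_0, p2_1, p2_2, p2_3, tv_apply, wv, Sum.elim_inl, Sum.elim_inr]
  first
  | (simp; done)
  | (simp; linear_combination ((1) * v (Sum.inl 0) * v (Sum.inl 1) * v (Sum.inr 0) * v (Sum.inr 1) * c^2 + (1) * v (Sum.inl 0)^2 * v (Sum.inr 0)^2 * c^2) * h2)

theorem gam_tv_symp_03 (h2 : (2 : R) = 0) (v : I4 → R) (c : R) :
    (gam (Cfsg.sympTransvection 2 v c) * J (Fin 2) R * (gam (Cfsg.sympTransvection 2 v c))ᵀ)
      (Sum.inl 0) (Sum.inr 1) = J (Fin 2) R (Sum.inl 0) (Sum.inr 1) := by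
  simp only [Matrix.mul_apply, Matrix.transpose_apply, sum_I4, J_ll, J_rr, J_lr, J_rl, gam_apply, mn,
    p1_0, p1_1, p1_2, p1_3, p2_0, p2_1, p2_2, p2_3, tv_apply, wv, Sum.elim_inl, Sum.elim_inr]
  first
  | (simp; done)
  | (simp; linear_combination ((-1) * v (Sum.inl 0) * v (Sum.inl 1)^2 * v (Sum.inr 0) * c^2) * h2)

theorem gam_tv_symp_10 (h2 : (2 : R) = 0) (v : I4 → R) (c : R) :
    (gam (Cfsg.sympTransvection 2 v c) * J (Fin 2) R * (gam (Cfsg.sympTransvection 2 v c))ᵀ)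
      (Sum.inl 1) (Sum.inl 0) = J (Fin 2) R (Sum.inl 1) (Sum.inl 0) := by
  simp only [Matrix.mul_apply, Matrix.transpose_apply, sum_I4, J_ll, J_rr, J_lr, J_rl, gam_apply, mn,
    p1_0, p1_1, p1_2, p1_3, p2_0, p2_1, p2_2, p2_3, tv_apply, wv, Sum.elim_inl, Sum.elim_inr]
  first
  | (simp; done)
  | (simp; linear_combination ((1) * v (Sum.inl 0)^2 * c + (-1) * v (Sum.inl 0)^3 * v (Sum.inr 0) * c^2) * h2)

theorem gam_tv_symp_11 (h2 : (2 : R) = 0) (v : I4 → R) (c : R) :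
    (gam (Cfsg.sympTransvection 2 v c) * J (Fin 2) R * (gam (Cfsg.sympTransvection 2 v c))ᵀ)
      (Sum.inl 1) (Sum.inl 1) = J (Fin 2) R (Sum.inl 1) (Sum.inl 1) := by
  simp only [Matrix.mul_apply, Matrix.transpose_apply, sum_I4, J_ll, J_rr, J_lr, J_rl, gam_apply, mn,
    p1_0, p1_1, p1_2, p1_3, p2_0, p2_1, p2_2, p2_3, tv_apply, wv, Sum.elim_inl, Sum.elim_inr]
  first
  | (simp; done)
  | (simp; linear_combination (0) * h2)

theorem gam_tv_symp_12 (h2 : (2 : R) = 0) (v : I4 → R) (c : R) :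
    (gam (Cfsg.sympTransvection 2 v c) * J (Fin 2) R * (gam (Cfsg.sympTransvection 2 v c))ᵀ)
      (Sum.inl 1) (Sum.inr 0) = J (Fin 2) R (Sum.inl 1) (Sum.inr 0) := by
  simp only [Matrix.mul_apply, Matrix.transpose_apply, sum_I4, J_ll, J_rr, J_lr, J_rl, gam_apply, mn,
    p1_0, p1_1, p1_2, p1_3, p2_0, p2_1, p2_2, p2_3, tv_apply, wv, Sum.elim_inl, Sum.elim_inr]
  first
  | (simp; done)
  | (simp; linear_combination ((1) * v (Sum.inl 0) * v (Sum.inr 0) * v (Sum.inr 1)^2 * c^2) * h2)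

theorem gam_tv_symp_13 (h2 : (2 : R) = 0) (v : I4 → R) (c : R) :
    (gam (Cfsg.sympTransvection 2 v c) * J (Fin 2) R * (gam (Cfsg.sympTransvection 2 v c))ᵀ)
      (Sum.inl 1) (Sum.inr 1) = J (Fin 2) R (Sum.inl 1) (Sum.inr 1) := by
  simp only [Matrix.mul_apply, Matrix.transpose_apply, sum_I4, J_ll, J_rr, J_lr, J_rl, gam_apply, mn,
    p1_0, p1_1, p1_2, p1_3, p2_0, p2_1, p2_2, p2_3, tv_apply, wv, Sum.elim_inl, Sum.elim_inr]
  first
  | (simp; done)
  | (simp; linear_combination ((-1) * v (Sum.inl 0) * v (Sum.inl 1) * v (Sum.inr 0) * v (Sum.inr 1) * c^2 + (1) * v (Sum.inl 0)^2 * v (Sum.inr 0)^2 * c^2) * h2)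

theorem gam_tv_symp_20 (h2 : (2 : R) = 0) (v : I4 → R) (c : R) :
    (gam (Cfsg.sympTransvection 2 v c) * J (Fin 2) R * (gam (Cfsg.sympTransvection 2 v c))ᵀ)
      (Sum.inr 0) (Sum.inl 0) = J (Fin 2) R (Sum.inr 0) (Sum.inl 0) := by
  simp only [Matrix.mul_apply, Matrix.transpose_apply, sum_I4, J_ll, J_rr, J_lr, J_rl, gam_apply, mn,
    p1_0, p1_1, p1_2, p1_3, p2_0, p2_1, p2_2, p2_3, tv_apply, wv, Sum.elim_inl, Sum.elim_inr]
  first
  | (simp; done)
  | (simp; linear_combination ((-1) * v (Sum.inl 0) * v (Sum.inl 1) * v (Sum.inr 0) * v (Sum.inr 1) * c^2 + (-1) * v (Sum.inl 0)^2 * v (Sum.inr 0)^2 * c^2) * h2)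

theorem gam_tv_symp_21 (h2 : (2 : R) = 0) (v : I4 → R) (c : R) :
    (gam (Cfsg.sympTransvection 2 v c) * J (Fin 2) R * (gam (Cfsg.sympTransvection 2 v c))ᵀ)
      (Sum.inr 0) (Sum.inl 1) = J (Fin 2) R (Sum.inr 0) (Sum.inl 1) := by
  simp only [Matrix.mul_apply, Matrix.transpose_apply, sum_I4, J_ll, J_rr, J_lr, J_rl, gam_apply, mn,
    p1_0, p1_1, p1_2, p1_3, p2_0, p2_1, p2_2, p2_3, tv_apply, wv, Sum.elim_inl, Sum.elim_inr]
  first
  | (simp; done)
  | (simp; linear_combination ((-1) * v (Sum.inl 0) * v (Sum.inr 0) * v (Sum.inr 1)^2 * c^2) * h2)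

theorem gam_tv_symp_22 (h2 : (2 : R) = 0) (v : I4 → R) (c : R) :
    (gam (Cfsg.sympTransvection 2 v c) * J (Fin 2) R * (gam (Cfsg.sympTransvection 2 v c))ᵀ)
      (Sum.inr 0) (Sum.inr 0) = J (Fin 2) R (Sum.inr 0) (Sum.inr 0) := by
  simp only [Matrix.mul_apply, Matrix.transpose_apply, sum_I4, J_ll, J_rr, J_lr, J_rl, gam_apply, mn,
    p1_0, p1_1, p1_2, p1_3, p2_0, p2_1, p2_2, p2_3, tv_apply, wv, Sum.elim_inl, Sum.elim_inr]
  first
  | (simp; done)
  | (simp; linear_combination (0) * h2)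

theorem gam_tv_symp_23 (h2 : (2 : R) = 0) (v : I4 → R) (c : R) :
    (gam (Cfsg.sympTransvection 2 v c) * J (Fin 2) R * (gam (Cfsg.sympTransvection 2 v c))ᵀ)
      (Sum.inr 0) (Sum.inr 1) = J (Fin 2) R (Sum.inr 0) (Sum.inr 1) := by
  simp only [Matrix.mul_apply, Matrix.transpose_apply, sum_I4, J_ll, J_rr, J_lr, J_rl, gam_apply, mn,
    p1_0, p1_1, p1_2, p1_3, p2_0, p2_1, p2_2, p2_3, tv_apply, wv, Sum.elim_inl, Sum.elim_inr]
  first
  | (simp; done)
  | (simp; linear_combination ((1) * v (Sum.inr 0)^2 * c + (1) * v (Sum.inl 0) * v (Sum.inr 0)^3 * c^2) * h2)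

theorem gam_tv_symp_30 (h2 : (2 : R) = 0) (v : I4 → R) (c : R) :
    (gam (Cfsg.sympTransvection 2 v c) * J (Fin 2) R * (gam (Cfsg.sympTransvection 2 v c))ᵀ)
      (Sum.inr 1) (Sum.inl 0) = J (Fin 2) R (Sum.inr 1) (Sum.inl 0) := by
  simp only [Matrix.mul_apply, Matrix.transpose_apply, sum_I4, J_ll, J_rr, J_lr, J_rl, gam_apply, mn,
    p1_0, p1_1, p1_2, p1_3, p2_0, p2_1, p2_2, p2_3, tv_apply, wv, Sum.elim_inl, Sum.elim_inr]
  first
  | (simp; done)
  | (simp; linear_combination ((1) * v (Sum.inl 0) * v (Sum.inl 1)^2 * v (Sum.inr 0) * c^2) * h2)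

theorem gam_tv_symp_31 (h2 : (2 : R) = 0) (v : I4 → R) (c : R) :
    (gam (Cfsg.sympTransvection 2 v c) * J (Fin 2) R * (gam (Cfsg.sympTransvection 2 v c))ᵀ)
      (Sum.inr 1) (Sum.inl 1) = J (Fin 2) R (Sum.inr 1) (Sum.inl 1) := by
  simp only [Matrix.mul_apply, Matrix.transpose_apply, sum_I4, J_ll, J_rr, J_lr, J_rl, gam_apply, mn,
    p1_0, p1_1, p1_2, p1_3, p2_0, p2_1, p2_2, p2_3, tv_apply, wv, Sum.elim_inl, Sum.elim_inr]
  first
  | (simp; done)
  | (simp; linear_combination ((1) * v (Sum.inl 0) * v (Sum.inl 1) * v (Sum.inr 0) * v (Sum.inr 1) * c^2 + (-1) * v (Sum.inl 0)^2 * v (Sum.inr 0)^2 * c^2) * h2)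

theorem gam_tv_symp_32 (h2 : (2 : R) = 0) (v : I4 → R) (c : R) :
    (gam (Cfsg.sympTransvection 2 v c) * J (Fin 2) R * (gam (Cfsg.sympTransvection 2 v c))ᵀ)
      (Sum.inr 1) (Sum.inr 0) = J (Fin 2) R (Sum.inr 1) (Sum.inr 0) := by
  simp only [Matrix.mul_apply, Matrix.transpose_apply, sum_I4, J_ll, J_rr, J_lr, J_rl, gam_apply, mn,
    p1_0, p1_1, p1_2, p1_3, p2_0, p2_1, p2_2, p2_3, tv_apply, wv, Sum.elim_inl, Sum.elim_inr]
  first
  | (simp; done)
  | (simp; linear_combination ((-1) * v (Sum.inr 0)^2 * c + (-1) * v (Sum.inl 0) * v (Sum.inr 0)^3 * c^2) * h2)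

theorem gam_tv_symp_33 (h2 : (2 : R) = 0) (v : I4 → R) (c : R) :
    (gam (Cfsg.sympTransvection 2 v c) * J (Fin 2) R * (gam (Cfsg.sympTransvection 2 v c))ᵀ)
      (Sum.inr 1) (Sum.inr 1) = J (Fin 2) R (Sum.inr 1) (Sum.inr 1) := by
  simp only [Matrix.mul_apply, Matrix.transpose_apply, sum_I4, J_ll, J_rr, J_lr, J_rl, gam_apply, mn,
    p1_0, p1_1, p1_2, p1_3, p2_0, p2_1, p2_2, p2_3, tv_apply, wv, Sum.elim_inl, Sum.elim_inr]
  first
  | (simp; done)
  | (simp; linear_combination (0) * h2)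

-- G6 on transvections
theorem gam_gam_tv_00 (h2 : (2 : R) = 0) (v : I4 → R) (c : R) :
    gam (gam (Cfsg.sympTransvection 2 v c)) (Sum.inl 0) (Sum.inl 0)
      = Cfsg.sympTransvection 2 (fun i => v i ^ 2) (c ^ 2) (Sum.inl 0) (Sum.inl 0) := by
  simp only [gam_apply, mn,
    p1_0, p1_1, p1_2, p1_3, p2_0, p2_1, p2_2, p2_3, tv_apply, wv, Sum.elim_inl, Sum.elim_inr]
  first
  | (simp; done)
  | (simp; linear_combination ((-1) * v (Sum.inl 0) * v (Sum.inr 0) * c + (1) * v (Sum.inl 0)^2 * v (Sum.inr 0)^2 * c^2) * h2)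

theorem gam_gam_tv_01 (h2 : (2 : R) = 0) (v : I4 → R) (c : R) :
    gam (gam (Cfsg.sympTransvection 2 v c)) (Sum.inl 0) (Sum.inl 1)
      = Cfsg.sympTransvection 2 (fun i => v i ^ 2) (c ^ 2) (Sum.inl 0) (Sum.inl 1) := by
  simp only [gam_apply, mn,
    p1_0, p1_1, p1_2, p1_3, p2_0, p2_1, p2_2, p2_3, tv_apply, wv, Sum.elim_inl, Sum.elim_inr]
  first
  | (simp; done)
  | (simp; linear_combination (0) * h2)

theorem gam_gam_tv_02 (h2 : (2 : R) = 0) (v : I4 → R) (c : R) :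
    gam (gam (Cfsg.sympTransvection 2 v c)) (Sum.inl 0) (Sum.inr 0)
      = Cfsg.sympTransvection 2 (fun i => v i ^ 2) (c ^ 2) (Sum.inl 0) (Sum.inr 0) := by
  simp only [gam_apply, mn,
    p1_0, p1_1, p1_2, p1_3, p2_0, p2_1, p2_2, p2_3, tv_apply, wv, Sum.elim_inl, Sum.elim_inr]
  first
  | (simp; done)
  | (simp; linear_combination (0) * h2)

theorem gam_gam_tv_03 (h2 : (2 : R) = 0) (v : I4 → R) (c : R) :
    gam (gam (Cfsg.sympTransvection 2 v c)) (Sum.inl 0) (Sum.inr 1)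
      = Cfsg.sympTransvection 2 (fun i => v i ^ 2) (c ^ 2) (Sum.inl 0) (Sum.inr 1) := by
  simp only [gam_apply, mn,
    p1_0, p1_1, p1_2, p1_3, p2_0, p2_1, p2_2, p2_3, tv_apply, wv, Sum.elim_inl, Sum.elim_inr]
  first
  | (simp; done)
  | (simp; linear_combination (0) * h2)

theorem gam_gam_tv_10 (h2 : (2 : R) = 0) (v : I4 → R) (c : R) :
    gam (gam (Cfsg.sympTransvection 2 v c)) (Sum.inl 1) (Sum.inl 0)
      = Cfsg.sympTransvection 2 (fun i => v i ^ 2) (c ^ 2) (Sum.inl 1) (Sum.inl 0) := by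
  simp only [gam_apply, mn,
    p1_0, p1_1, p1_2, p1_3, p2_0, p2_1, p2_2, p2_3, tv_apply, wv, Sum.elim_inl, Sum.elim_inr]
  first
  | (simp; done)
  | (simp; linear_combination (0) * h2)

theorem gam_gam_tv_11 (h2 : (2 : R) = 0) (v : I4 → R) (c : R) :
    gam (gam (Cfsg.sympTransvection 2 v c)) (Sum.inl 1) (Sum.inl 1)
      = Cfsg.sympTransvection 2 (fun i => v i ^ 2) (c ^ 2) (Sum.inl 1) (Sum.inl 1) := by
  simp only [gam_apply, mn,
    p1_0, p1_1, p1_2, p1_3, p2_0, p2_1, p2_2, p2_3, tv_apply, wv, Sum.elim_inl, Sum.elim_inr]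
  first
  | (simp; done)
  | (simp; linear_combination ((-1) * v (Sum.inl 1) * v (Sum.inr 1) * c + (1) * v (Sum.inl 1)^2 * v (Sum.inr 1)^2 * c^2) * h2)

theorem gam_gam_tv_12 (h2 : (2 : R) = 0) (v : I4 → R) (c : R) :
    gam (gam (Cfsg.sympTransvection 2 v c)) (Sum.inl 1) (Sum.inr 0)
      = Cfsg.sympTransvection 2 (fun i => v i ^ 2) (c ^ 2) (Sum.inl 1) (Sum.inr 0) := by
  simp only [gam_apply, mn,
    p1_0, p1_1, p1_2, p1_3, p2_0, p2_1, p2_2, p2_3, tv_apply, wv, Sum.elim_inl, Sum.elim_inr]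
  first
  | (simp; done)
  | (simp; linear_combination ((-1) * v (Sum.inl 0)^2 * v (Sum.inl 1)^2 * c^2) * h2)

theorem gam_gam_tv_13 (h2 : (2 : R) = 0) (v : I4 → R) (c : R) :
    gam (gam (Cfsg.sympTransvection 2 v c)) (Sum.inl 1) (Sum.inr 1)
      = Cfsg.sympTransvection 2 (fun i => v i ^ 2) (c ^ 2) (Sum.inl 1) (Sum.inr 1) := by
  simp only [gam_apply, mn,
    p1_0, p1_1, p1_2, p1_3, p2_0, p2_1, p2_2, p2_3, tv_apply, wv, Sum.elim_inl, Sum.elim_inr]
  first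
  | (simp; done)
  | (simp; linear_combination ((-1) * v (Sum.inl 1)^4 * c^2) * h2)

theorem gam_gam_tv_20 (h2 : (2 : R) = 0) (v : I4 → R) (c : R) :
    gam (gam (Cfsg.sympTransvection 2 v c)) (Sum.inr 0) (Sum.inl 0)
      = Cfsg.sympTransvection 2 (fun i => v i ^ 2) (c ^ 2) (Sum.inr 0) (Sum.inl 0) := by
  simp only [gam_apply, mn,
    p1_0, p1_1, p1_2, p1_3, p2_0, p2_1, p2_2, p2_3, tv_apply, wv, Sum.elim_inl, Sum.elim_inr]
  first
  | (simp; done)
  | (simp; linear_combination ((1) * v (Sum.inr 0)^4 * c^2) * h2)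

theorem gam_gam_tv_21 (h2 : (2 : R) = 0) (v : I4 → R) (c : R) :
    gam (gam (Cfsg.sympTransvection 2 v c)) (Sum.inr 0) (Sum.inl 1)
      = Cfsg.sympTransvection 2 (fun i => v i ^ 2) (c ^ 2) (Sum.inr 0) (Sum.inl 1) := by
  simp only [gam_apply, mn,
    p1_0, p1_1, p1_2, p1_3, p2_0, p2_1, p2_2, p2_3, tv_apply, wv, Sum.elim_inl, Sum.elim_inr]
  first
  | (simp; done)
  | (simp; linear_combination (0) * h2)

theorem gam_gam_tv_22 (h2 : (2 : R) = 0) (v : I4 → R) (c : R) :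
    gam (gam (Cfsg.sympTransvection 2 v c)) (Sum.inr 0) (Sum.inr 0)
      = Cfsg.sympTransvection 2 (fun i => v i ^ 2) (c ^ 2) (Sum.inr 0) (Sum.inr 0) := by
  simp only [gam_apply, mn,
    p1_0, p1_1, p1_2, p1_3, p2_0, p2_1, p2_2, p2_3, tv_apply, wv, Sum.elim_inl, Sum.elim_inr]
  first
  | (simp; done)
  | (simp; linear_combination ((1) * v (Sum.inl 0) * v (Sum.inr 0) * c) * h2)

theorem gam_gam_tv_23 (h2 : (2 : R) = 0) (v : I4 → R) (c : R) :
    gam (gam (Cfsg.sympTransvection 2 v c)) (Sum.inr 0) (Sum.inr 1)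
      = Cfsg.sympTransvection 2 (fun i => v i ^ 2) (c ^ 2) (Sum.inr 0) (Sum.inr 1) := by
  simp only [gam_apply, mn,
    p1_0, p1_1, p1_2, p1_3, p2_0, p2_1, p2_2, p2_3, tv_apply, wv, Sum.elim_inl, Sum.elim_inr]
  first
  | (simp; done)
  | (simp; linear_combination (0) * h2)

theorem gam_gam_tv_30 (h2 : (2 : R) = 0) (v : I4 → R) (c : R) :
    gam (gam (Cfsg.sympTransvection 2 v c)) (Sum.inr 1) (Sum.inl 0)
      = Cfsg.sympTransvection 2 (fun i => v i ^ 2) (c ^ 2) (Sum.inr 1) (Sum.inl 0) := by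
  simp only [gam_apply, mn,
    p1_0, p1_1, p1_2, p1_3, p2_0, p2_1, p2_2, p2_3, tv_apply, wv, Sum.elim_inl, Sum.elim_inr]
  first
  | (simp; done)
  | (simp; linear_combination ((1) * v (Sum.inr 0)^2 * v (Sum.inr 1)^2 * c^2) * h2)

theorem gam_gam_tv_31 (h2 : (2 : R) = 0) (v : I4 → R) (c : R) :
    gam (gam (Cfsg.sympTransvection 2 v c)) (Sum.inr 1) (Sum.inl 1)
      = Cfsg.sympTransvection 2 (fun i => v i ^ 2) (c ^ 2) (Sum.inr 1) (Sum.inl 1) := by
  simp only [gam_apply, mn,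
    p1_0, p1_1, p1_2, p1_3, p2_0, p2_1, p2_2, p2_3, tv_apply, wv, Sum.elim_inl, Sum.elim_inr]
  first
  | (simp; done)
  | (simp; linear_combination (0) * h2)

theorem gam_gam_tv_32 (h2 : (2 : R) = 0) (v : I4 → R) (c : R) :
    gam (gam (Cfsg.sympTransvection 2 v c)) (Sum.inr 1) (Sum.inr 0)
      = Cfsg.sympTransvection 2 (fun i => v i ^ 2) (c ^ 2) (Sum.inr 1) (Sum.inr 0) := by
  simp only [gam_apply, mn,
    p1_0, p1_1, p1_2, p1_3, p2_0, p2_1, p2_2, p2_3, tv_apply, wv, Sum.elim_inl, Sum.elim_inr]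
  first
  | (simp; done)
  | (simp; linear_combination (0) * h2)

theorem gam_gam_tv_33 (h2 : (2 : R) = 0) (v : I4 → R) (c : R) :
    gam (gam (Cfsg.sympTransvection 2 v c)) (Sum.inr 1) (Sum.inr 1)
      = Cfsg.sympTransvection 2 (fun i => v i ^ 2) (c ^ 2) (Sum.inr 1) (Sum.inr 1) := by
  simp only [gam_apply, mn,
    p1_0, p1_1, p1_2, p1_3, p2_0, p2_1, p2_2, p2_3, tv_apply, wv, Sum.elim_inl, Sum.elim_inr]
  first
  | (simp; done)
  | (simp; linear_combination ((1) * v (Sum.inl 1) * v (Sum.inr 1) * c) * h2)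

theorem I4_cases {P : I4 → Prop} (h0 : P (Sum.inl 0)) (h1 : P (Sum.inl 1)) (h2 : P (Sum.inr 0))
    (h3 : P (Sum.inr 1)) : ∀ x, P x := by
  intro x
  rcases x with i | i <;> fin_cases i
  · exact h0
  · exact h1
  · exact h2
  · exact h3

theorem gam_tv_symp (h2 : (2 : R) = 0) (v : I4 → R) (c : R) :
    gam (Cfsg.sympTransvection 2 v c) * J (Fin 2) R * (gam (Cfsg.sympTransvection 2 v c))ᵀ
      = J (Fin 2) R := by
  ext x y
  exact I4_cases (P := fun x => ∀ y, (gam (Cfsg.sympTransvection 2 v c) * J (Fin 2) R *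
      (gam (Cfsg.sympTransvection 2 v c))ᵀ) x y = J (Fin 2) R x y)
    (I4_cases (gam_tv_symp_00 h2 v c) (gam_tv_symp_01 h2 v c) (gam_tv_symp_02 h2 v c)
      (gam_tv_symp_03 h2 v c))
    (I4_cases (gam_tv_symp_10 h2 v c) (gam_tv_symp_11 h2 v c) (gam_tv_symp_12 h2 v c)
      (gam_tv_symp_13 h2 v c))
    (I4_cases (gam_tv_symp_20 h2 v c) (gam_tv_symp_21 h2 v c) (gam_tv_symp_22 h2 v c)
      (gam_tv_symp_23 h2 v c))
    (I4_cases (gam_tv_symp_30 h2 v c) (gam_tv_symp_31 h2 v c) (gam_tv_symp_32 h2 v c)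
      (gam_tv_symp_33 h2 v c)) x y

theorem gam_gam_tv (h2 : (2 : R) = 0) (v : I4 → R) (c : R) :
    gam (gam (Cfsg.sympTransvection 2 v c))
      = Cfsg.sympTransvection 2 (fun i => v i ^ 2) (c ^ 2) := by
  ext x y
  exact I4_cases (P := fun x => ∀ y, gam (gam (Cfsg.sympTransvection 2 v c)) x y
      = Cfsg.sympTransvection 2 (fun i => v i ^ 2) (c ^ 2) x y)
    (I4_cases (gam_gam_tv_00 h2 v c) (gam_gam_tv_01 h2 v c) (gam_gam_tv_02 h2 v c)
      (gam_gam_tv_03 h2 v c))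
    (I4_cases (gam_gam_tv_10 h2 v c) (gam_gam_tv_11 h2 v c) (gam_gam_tv_12 h2 v c)
      (gam_gam_tv_13 h2 v c))
    (I4_cases (gam_gam_tv_20 h2 v c) (gam_gam_tv_21 h2 v c) (gam_gam_tv_22 h2 v c)
      (gam_gam_tv_23 h2 v c))
    (I4_cases (gam_gam_tv_30 h2 v c) (gam_gam_tv_31 h2 v c) (gam_gam_tv_32 h2 v c)
      (gam_gam_tv_33 h2 v c)) x y

end ring


/-! ### the endomorphism of `Sp_4(F)` -/

section field

open Cfsg.Agent.Lib.Helper13_Symp Cfsg.Agent.Lib.Helper13_SympTrans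
  Cfsg.Agent.Lib.Helper5_PSpSimple Cfsg.Agent.Lib.Helper5_SpPerfect Cfsg.Agent.Lib.Helper44_SpUT
  Cfsg.Agent.Lib.Helper44_PSpTv Cfsg.Agent.Lib.Helper44_PSpGeom
  Cfsg.Agent.Lib.Helper44_PSpSemi Cfsg.Agent.Lib.Helper44_PSpAut
  Cfsg.Agent.Lib.Helper44_PSpAlg Cfsg.Agent.Lib.Helper44_PSpAut2 Cfsg.Agent.Lib.Helper44_Sp4Char2

variable {F : Type*} [Field F]

theorem gam_mem (h2 : (2 : F) = 0) (A : symplecticGroup (Fin 2) F) :
    gam A.1 ∈ symplecticGroup (Fin 2) F := by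
  have hA : A ∈ Subgroup.closure {A : symplecticGroup (Fin 2) F |
      ∃ (w : Fin 2 ⊕ Fin 2 → F) (c : F),
        (A : Matrix (Fin 2 ⊕ Fin 2) (Fin 2 ⊕ Fin 2) F) = Cfsg.sympTransvection 2 w c} := by
    rw [Cfsg.Agent.S0765.result]
    trivial
  induction hA using Subgroup.closure_induction with
  | mem x hx =>
    obtain ⟨w, c, hx⟩ := hx
    rw [hx, SymplecticGroup.mem_iff]
    exact gam_tv_symp h2 w c
  | one =>
    show gam (1 : Matrix I4 I4 F) ∈ _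
    rw [gam_one]
    exact one_mem _
  | mul x y _ _ hx hy =>
    have h1 : (x * y).1 = x.1 * y.1 := rfl
    rw [h1, gam_mul h2 x.1 y.1 (SymplecticGroup.mem_iff.mp x.2) (SymplecticGroup.mem_iff'.mp y.2)]
    exact mul_mem hx hy
  | inv x _ hx =>
    have h1 : gam (x⁻¹).1 * gam x.1 = 1 := by
      rw [← gam_mul h2 _ _ (SymplecticGroup.mem_iff.mp (x⁻¹).2) (SymplecticGroup.mem_iff'.mp x.2)]
      have h0 : (x⁻¹).1 * x.1 = 1 := congrArg Subtype.val (inv_mul_cancel x)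
      rw [h0, gam_one]
    set X : symplecticGroup (Fin 2) F := ⟨gam x.1, hx⟩ with hX
    have h3 : gam (x⁻¹).1 = (X⁻¹).1 := by
      have h4 : X.1 * (X⁻¹).1 = 1 := congrArg Subtype.val (mul_inv_cancel X)
      calc gam (x⁻¹).1 = gam (x⁻¹).1 * (X.1 * (X⁻¹).1) := by rw [h4, Matrix.mul_one]
        _ = (gam (x⁻¹).1 * gam x.1) * (X⁻¹).1 := by rw [Matrix.mul_assoc]
        _ = (X⁻¹).1 := by rw [h1, Matrix.one_mul]
    rw [h3]
    exact (X⁻¹).2

/-- the endomorphism `g ↦ gam g` of `Sp_4(F)`, characteristic two -/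
def gamHom (h2 : (2 : F) = 0) : symplecticGroup (Fin 2) F →* symplecticGroup (Fin 2) F where
  toFun A := ⟨gam A.1, gam_mem h2 A⟩
  map_one' := Subtype.ext gam_one
  map_mul' A B := Subtype.ext (gam_mul h2 A.1 B.1 (SymplecticGroup.mem_iff.mp A.2)
    (SymplecticGroup.mem_iff'.mp B.2))

theorem gamHom_coe (h2 : (2 : F) = 0) (A : symplecticGroup (Fin 2) F) :
    (gamHom h2 A).1 = gam A.1 := rfl

/-- the square of `gamHom` is the Frobenius map -/
theorem gamHom_gamHom (h2 : (2 : F) = 0) (σ₂ : F ≃+* F) (hσ₂ : ∀ x, σ₂ x = x ^ 2)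
    (A : symplecticGroup (Fin 2) F) : gamHom h2 (gamHom h2 A) = fieldSp σ₂ A := by
  have h : (gamHom h2).comp (gamHom h2) = (fieldSp (m := 2) σ₂).toMonoidHom := by
    apply MonoidHom.eq_of_eqOn_dense (Cfsg.Agent.S0765.result (F := F) 2)
    rintro x ⟨w, c, hx⟩
    have hx' : x = transv 2 w c := Subtype.ext hx
    show gamHom h2 (gamHom h2 x) = fieldSp σ₂ x
    rw [hx', fieldSp_transv]
    apply Subtype.ext
    show gam (gam (Cfsg.sympTransvection 2 w c)) = Cfsg.sympTransvection 2 _ _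
    rw [gam_gam_tv h2, hσ₂]
    congr 1
    funext i
    exact (hσ₂ _).symm
  exact DFunLike.congr_fun h A

theorem gamHom_bijective (h2 : (2 : F) = 0) (σ₂ : F ≃+* F) (hσ₂ : ∀ x, σ₂ x = x ^ 2) :
    Function.Bijective (gamHom h2) := by
  constructor
  · intro A B hAB
    have := congrArg (gamHom h2) hAB
    rw [gamHom_gamHom h2 σ₂ hσ₂, gamHom_gamHom h2 σ₂ hσ₂] at this
    exact (fieldSp σ₂).injective this
  · intro B
    refine ⟨gamHom h2 ((fieldSp σ₂).symm B), ?_⟩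
    rw [gamHom_gamHom h2 σ₂ hσ₂]
    exact (fieldSp σ₂).apply_symm_apply B

/-- the graph endomorphism as an equivalence -/
noncomputable def gamEquiv (h2 : (2 : F) = 0) (σ₂ : F ≃+* F) (hσ₂ : ∀ x, σ₂ x = x ^ 2) :
    symplecticGroup (Fin 2) F ≃* symplecticGroup (Fin 2) F :=
  MulEquiv.ofBijective (gamHom h2) (gamHom_bijective h2 σ₂ hσ₂)

/-- **the exceptional graph automorphism** of `PSp_4(F)`, characteristic two -/
noncomputable def gAut (h2 : (2 : F) = 0) (σ₂ : F ≃+* F) (hσ₂ : ∀ x, σ₂ x = x ^ 2) :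
    MulAut (Cfsg.PSp 2 F) := descend (gamEquiv h2 σ₂ hσ₂)

theorem gAut_pr (h2 : (2 : F) = 0) (σ₂ : F ≃+* F) (hσ₂ : ∀ x, σ₂ x = x ^ 2)
    (s : symplecticGroup (Fin 2) F) : gAut h2 σ₂ hσ₂ (pr s) = pr (gamHom h2 s) := rfl

theorem gAut_sq (h2 : (2 : F) = 0) (σ₂ : F ≃+* F) (hσ₂ : ∀ x, σ₂ x = x ^ 2) :
    gAut h2 σ₂ hσ₂ * gAut h2 σ₂ hσ₂ = fAut σ₂ := by
  refine MulEquiv.ext fun s => ?_
  obtain ⟨s, rfl⟩ := pr_surjective s
  rw [MulAut.mul_apply, gAut_pr, gAut_pr, fAut_pr, gamHom_gamHom h2 σ₂ hσ₂]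

/-- the graph automorphism maps the standard transvection to a short root element -/
theorem gAut_t0 (h2 : (2 : F) = 0) (σ₂ : F ≃+* F) (hσ₂ : ∀ x, σ₂ x = x ^ 2) :
    gAut h2 σ₂ hσ₂ (t0 0 F) = pr (Zg 0 0 1) := by
  show gAut h2 σ₂ hσ₂ (pr (transv 2 (e0 0 F) 1)) = _
  rw [gAut_pr]
  congr 1
  apply Subtype.ext
  show gam (Cfsg.sympTransvection 2 (e0 0 F) 1) = Xmat (Smat 0 0 1)
  ext x y
  revert y
  revert x
  refine I4_cases (I4_cases ?_ ?_ ?_ ?_) (I4_cases ?_ ?_ ?_ ?_) (I4_cases ?_ ?_ ?_ ?_)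
    (I4_cases ?_ ?_ ?_ ?_)
  all_goals
    first
    | (simp [gam_apply, mn, tv_apply, wv, Xmat, Smat, Matrix.single_apply, Matrix.one_apply]; done)
    | (simp [gam_apply, mn, tv_apply, wv, Xmat, Smat, Matrix.single_apply, Matrix.one_apply]
       linear_combination (-1 : F) * h2)

end field

end Cfsg.Agent.Lib.Helper44_Sp4Graph
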