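import Mathlib
import Cfsg.Agent.Lib.Helper44_Sp4Graph
import Cfsg.Agent.Lib.Helper44_PSpBalance

/-!
# The automorphism group of `PSp_4(2^f)` (helper44)

The automorphisms preserving the class of transvections form a subgroup of index two.
-/

set_option autoImplicit false
set_option linter.unusedSectionVars false
set_option linter.unusedVariables false
set_option linter.unusedSimpArgs false
set_option linter.style.haveILetI false

namespace Cfsg.Agent.Lib.Helper44_Sp4Out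

open Matrix Cfsg.Agent.Lib.Helper13_Symp Cfsg.Agent.Lib.Helper13_SympTrans
  Cfsg.Agent.Lib.Helper5_PSpSimple Cfsg.Agent.Lib.Helper5_SpPerfect Cfsg.Agent.Lib.Helper44_SpUT
  Cfsg.Agent.Lib.Helper44_PSpTv Cfsg.Agent.Lib.Helper44_PSpGeom
  Cfsg.Agent.Lib.Helper44_PSpSemi Cfsg.Agent.Lib.Helper44_PSpAut
  Cfsg.Agent.Lib.Helper44_PSpAlg Cfsg.Agent.Lib.Helper44_PSpAut2 Cfsg.Agent.Lib.Helper44_Sp4Char2
  Cfsg.Agent.Lib.Helper44_PSpBalance Cfsg.Agent.Lib.Helper44_Sp4Graph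
  Cfsg.Agent.Lib.Helper44_PSpLang Cfsg.Agent.Lib.Helper44_PSpFieldCent

variable {F : Type*} [Field F]

/-- a short root element is not a transvection -/
theorem not_isTvP_Zg (h2 : (2 : F) = 0) {t : F} (ht : t ≠ 0) : ¬ IsTvP (pr (Zg 0 0 t)) := by
  rintro ⟨v, c, hv, hc0, hzv⟩
  rw [pr_eq_iff] at hzv
  have h1 := center_eq_bot_of_two (by omega) h2 hzv
  have h3 : Zg 0 0 t = transv 2 v c := inv_mul_eq_one.mp h1
  have h4 : Xmat (Smat 0 0 t) = Cfsg.sympTransvection 2 v c := congrArg Subtype.val h3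
  set w := Matrix.J (Fin 2) F *ᵥ v with hw
  have hN : ∀ i j, Xmat (Smat 0 (0 : F) t) i j -
      (1 : Matrix (Fin 2 ⊕ Fin 2) (Fin 2 ⊕ Fin 2) F) i j = c * (v i * w j) := by
    intro i j
    rw [h4]
    unfold Cfsg.sympTransvection
    rw [Matrix.add_apply, add_sub_cancel_left, Matrix.smul_apply, Matrix.vecMulVec_apply,
      smul_eq_mul]
  have e1 : c * (v (Sum.inl 0) * w (Sum.inr 1)) = t := by
    rw [← hN]; simp [Xmat, Smat, Matrix.single_apply]
  have e2 : c * (v (Sum.inl 1) * w (Sum.inr 0)) = t := by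
    rw [← hN]; simp [Xmat, Smat, Matrix.single_apply]
  have e3 : c * (v (Sum.inl 1) * w (Sum.inr 1)) = 0 := by
    rw [← hN]; simp [Xmat, Smat, Matrix.single_apply]
  have h5 : t * t = 0 := by
    calc t * t = (c * (v (Sum.inl 0) * w (Sum.inr 1))) *
          (c * (v (Sum.inl 1) * w (Sum.inr 0))) := by rw [e1, e2]
      _ = (c * (v (Sum.inl 1) * w (Sum.inr 1))) *
          (c * (v (Sum.inl 0) * w (Sum.inr 0))) := by ring
      _ = 0 := by rw [e3, zero_mul]
  exact ht (mul_self_eq_zero.mp h5)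

/-! ### counting -/

section counting

variable {m : ℕ}

/-- an inner-diagonal automorphism is inner iff its multiplier is a square -/
theorem cAut_mem_inn_iff (hm : 2 ≤ m) (g : ↥(Cfsg.GSp m F)) :
    cAut g ∈ Cfsg.Inn (Cfsg.PSp m F) ↔ ∃ d : Fˣ, mult g = d * d := by
  have hm1 : 1 ≤ m := by omega
  constructor
  · rintro ⟨x, hx⟩
    obtain ⟨s, rfl⟩ := pr_surjective x
    rw [← cAut_spToGSp] at hx
    have h1 : cAut (g⁻¹ * spToGSp s) = 1 := by
      rw [map_mul, hx, map_inv, inv_mul_cancel]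
    rw [cAut_eq_one_iff hm] at h1
    obtain ⟨c, hc⟩ := exists_scalar_of_mem_scalars h1
    have hc' : g⁻¹ * spToGSp s = scalarGSp c := Subtype.ext hc
    have h2 := congrArg mult hc'
    rw [mult_mul hm1, mult_inv hm1, mult_spToGSp hm1, mul_one, mult_scalarGSp hm1] at h2
    refine ⟨c⁻¹, ?_⟩
    rw [← _root_.mul_inv_rev, ← h2, inv_inv]
  · rintro ⟨d, hd⟩
    exact cAut_mem_inn_of_sq hm g d hd

theorem relIndex_inn [Fintype F] (hm : 2 ≤ m) :
    (Cfsg.Inn (Cfsg.PSp m F)).relIndex (cAut (F := F) (m := m)).range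
      = Nat.gcd 2 (Fintype.card F - 1) := by
  classical
  have hm1 : 1 ≤ m := by omega
  rw [← Subgroup.index_comap]
  let ψ : ↥(Cfsg.GSp m F) →* Fˣ ⧸ (powMonoidHom 2 : Fˣ →* Fˣ).range :=
    (QuotientGroup.mk' _).comp (multHom hm1)
  have hker : (Cfsg.Inn (Cfsg.PSp m F)).comap (cAut (F := F) (m := m)) = ψ.ker := by
    ext g
    rw [Subgroup.mem_comap, cAut_mem_inn_iff hm, MonoidHom.mem_ker]
    show _ ↔ (QuotientGroup.mk (mult g) : Fˣ ⧸ (powMonoidHom 2 : Fˣ →* Fˣ).range) = 1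
    rw [QuotientGroup.eq_one_iff]
    constructor
    · rintro ⟨d, hd⟩
      exact ⟨d, by rw [powMonoidHom_apply, pow_two, hd]⟩
    · rintro ⟨d, hd⟩
      exact ⟨d, by rw [← hd, powMonoidHom_apply, pow_two]⟩
  have hsurj : Function.Surjective ψ := by
    intro y
    obtain ⟨b, rfl⟩ := QuotientGroup.mk_surjective y
    refine ⟨dG b, ?_⟩
    show (QuotientGroup.mk (mult (dG (m := m) b)) : Fˣ ⧸ (powMonoidHom 2 : Fˣ →* Fˣ).range) = _
    rw [mult_dG hm1]
  rw [hker, Subgroup.index_ker, MonoidHom.range_eq_top.mpr hsurj, Subgroup.card_top,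
    ← Subgroup.index_eq_card, IsCyclic.index_powMonoidHom_range, Nat.card_units,
    Nat.card_eq_fintype_card, Nat.gcd_comm]

theorem card_inn (hm : 2 ≤ m) :
    Nat.card (Cfsg.Inn (Cfsg.PSp m F)) = Nat.card (Cfsg.PSp m F) := by
  have e := MonoidHom.ofInjective (conj_injective (F := F) hm)
  exact (Nat.card_congr e.toEquiv).symm

theorem card_range_cAut [Fintype F] (hm : 2 ≤ m) :
    Nat.card (cAut (F := F) (m := m)).range
      = Nat.gcd 2 (Fintype.card F - 1) * Nat.card (Cfsg.PSp m F) := by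
  have h1 := Subgroup.relIndex_mul_relIndex (⊥ : Subgroup (MulAut (Cfsg.PSp m F)))
    (Cfsg.Inn (Cfsg.PSp m F)) (cAut (F := F) (m := m)).range bot_le inn_le_range
  rw [Subgroup.relIndex_bot_left, Subgroup.relIndex_bot_left, relIndex_inn hm, card_inn hm] at h1
  rw [← h1, mul_comm]

/-- counting a set of automorphisms of the form `cAut g * fAut σ` -/
theorem card_decomp [Fintype F] {p f : ℕ} [hp : Fact p.Prime] (hF : Fintype.card F = p ^ f)
    (hm : 2 ≤ m) (S : Set (MulAut (Cfsg.PSp m F)))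
    (hS : ∀ α, α ∈ S ↔ ∃ (g : ↥(Cfsg.GSp m F)) (σ : F ≃+* F), α = cAut g * fAut σ) :
    Nat.card S = Nat.card (cAut (F := F) (m := m)).range * f := by
  obtain ⟨k, rfl⟩ : ∃ k, m = k + 2 := ⟨m - 2, by omega⟩
  rw [← Cfsg.Agent.Lib.Helper44_PSLnOut.card_ringAut hF, ← Nat.card_prod]
  symm
  let Φ : ↥(cAut (F := F) (m := k + 2)).range × RingAut F → S := fun x =>
    ⟨x.1.1 * fAut x.2, by
      obtain ⟨g, hg⟩ := x.1.2
      exact (hS _).mpr ⟨g, x.2, by rw [hg]⟩⟩
  apply Nat.card_congr (Equiv.ofBijective Φ ⟨?_, ?_⟩)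
  · rintro ⟨⟨d, g, rfl⟩, σ⟩ ⟨⟨d', g', rfl⟩, σ'⟩ h
    have h1 : cAut g * fAut σ = cAut g' * fAut σ' := congrArg Subtype.val h
    have h2 : fAut (σ * σ'⁻¹) = cAut (g⁻¹ * g') := by
      rw [map_mul, map_mul, map_inv, map_inv]
      calc fAut σ * (fAut σ')⁻¹ = (cAut g)⁻¹ * (cAut g * fAut σ) * (fAut σ')⁻¹ := by group
        _ = (cAut g)⁻¹ * (cAut g' * fAut σ') * (fAut σ')⁻¹ := by rw [h1]
        _ = _ := by group
    have h3 := eq_one_of_fAut_eq_cAut _ _ h2
    have h4 : σ = σ' := mul_inv_eq_one.mp h3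
    subst h4
    have h5 : cAut g = cAut g' := mul_right_cancel h1
    exact Prod.ext (Subtype.ext h5) rfl
  · rintro ⟨α, hα⟩
    obtain ⟨g, σ, rfl⟩ := (hS α).mp hα
    exact ⟨⟨⟨cAut g, g, rfl⟩, σ⟩, rfl⟩

end counting

section main

variable [Fintype F] [CharP F 2]

theorem two_eq_zero_F : (2 : F) = 0 := (two_eq_zero_iff (p := 2)).mpr rfl

/-- the long-or-short property of automorphisms normalizing the Sylow subgroup -/
def LS (F : Type*) [Field F] : Prop :=
  ∀ γ : MulAut (Cfsg.PSp (0 + 2) F), (UBar (0 + 2) F).map γ.toMonoidHom = UBar (0 + 2) F →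
    ∀ s t : F, γ (t0 0 F) = pr (Zg 0 s t) → s = 0 ∨ t = 0

theorem LS_of_card (hq : 2 < Fintype.card F) : LS F := fun γ hγ s t hst =>
  long_or_short (p := 2) two_eq_zero_F hq hγ hst

/-- every automorphism is an inner automorphism times one normalizing the standard Sylow
subgroup -/
theorem exists_normalizing {f : ℕ} (hF : Fintype.card F = 2 ^ f)
    (α : MulAut (Cfsg.PSp (0 + 2) F)) :
    ∃ (h : symplecticGroup (Fin (0 + 2)) F) (β : MulAut (Cfsg.PSp (0 + 2) F)),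
      α = MulAut.conj (pr h) * β ∧ (UBar (0 + 2) F).map β.toMonoidHom = UBar (0 + 2) F := by
  classical
  have hfin : Finite (Cfsg.PSp (0 + 2) F) := by
    haveI : Finite (symplecticGroup (Fin (0 + 2)) F) := Subtype.finite
    exact Finite.of_surjective _ pr_surjective
  obtain ⟨S0, hS0⟩ := exists_sylow_PSp (m := 0 + 2) hF
  obtain ⟨y, hy⟩ := @MulAction.exists_smul_eq (Cfsg.PSp (0 + 2) F) (Sylow 2 (Cfsg.PSp (0 + 2) F)) _
    Sylow.isPretransitive_of_finite S0 (α • S0)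
  obtain ⟨h, rfl⟩ := pr_surjective y
  have hmapeq : (UBar (0 + 2) F).map (MulAut.conj (pr h)).toMonoidHom =
      (UBar (0 + 2) F).map α.toMonoidHom := by
    have h1 := congrArg (fun P : Sylow 2 (Cfsg.PSp (0 + 2) F) =>
      (P : Subgroup (Cfsg.PSp (0 + 2) F))) hy
    simp only [Sylow.coe_subgroup_smul, Sylow.pointwise_smul_def, hS0] at h1
    rw [smul_eq_map, smul_eq_map] at h1
    exact h1
  set β : MulAut (Cfsg.PSp (0 + 2) F) := (MulAut.conj (pr h))⁻¹ * α with hβdef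
  have hβ : (UBar (0 + 2) F).map β.toMonoidHom = UBar (0 + 2) F := by
    have e1 : β.toMonoidHom = ((MulAut.conj (pr h))⁻¹).toMonoidHom.comp α.toMonoidHom := rfl
    rw [e1, ← Subgroup.map_map, ← hmapeq, Subgroup.map_map]
    have e2 : ((MulAut.conj (pr h))⁻¹).toMonoidHom.comp (MulAut.conj (pr h)).toMonoidHom =
        MonoidHom.id _ := by
      refine MonoidHom.ext fun x => ?_
      exact MulEquiv.symm_apply_apply (MulAut.conj (pr h)) x
    rw [e2, Subgroup.map_id]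
  exact ⟨h, β, by rw [hβdef]; group, hβ⟩

/-- an automorphism mapping the standard transvection to a transvection preserves
transvections -/
theorem presTv_of_isTvP_t0 (α : MulAut (Cfsg.PSp (0 + 2) F)) (h : IsTvP (α (t0 0 F))) :
    PresTv α := by
  obtain ⟨c, hc⟩ := exists_conj_t0 (p := 2) two_eq_zero_F h
  have h1 : ((MulAut.conj c)⁻¹ * α) (t0 0 F) = t0 0 F := by
    rw [MulAut.mul_apply, hc]
    exact MulAut.inv_apply_self _ _ _
  have h2 := presTv_of_fix_t0 (r := 2) _ h1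
  have h3 : α = MulAut.conj c * ((MulAut.conj c)⁻¹ * α) := by group
  rw [h3]
  exact (presTv_conj c).mul h2

theorem pr_Zg_ne_one {s t : F} (h : s ≠ 0 ∨ t ≠ 0) : pr (Zg 0 s t) ≠ 1 := by
  intro h1
  have h4 : pr (Zg 0 s t) = pr (Zg 0 0 0) := by rw [h1, Zg_zero, map_one]
  have := pr_Zg_inj h4
  rcases h with h | h
  · exact h this.1
  · exact h this.2

/-- an automorphism normalizing the Sylow subgroup that does not preserve transvections maps
the standard transvection to a short root element -/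
theorem short_of_not_presTv (hLS : LS F) (β : MulAut (Cfsg.PSp (0 + 2) F))
    (hβ : (UBar (0 + 2) F).map β.toMonoidHom = UBar (0 + 2) F) (hn : ¬ PresTv β) :
    ∃ t : F, t ≠ 0 ∧ β (t0 0 F) = pr (Zg 0 0 t) := by
  obtain ⟨s, t, hst, hc⟩ := isCentU_form (isCentU_map hβ (isCentU_t0 (k := 0) (F := F)))
  have hne : β (t0 0 F) ≠ 1 := by
    intro h1
    have : β (t0 0 F) = β 1 := by rw [h1, map_one]
    exact t0_ne_one (β.injective this)
  rcases hLS β hβ s t hst with hs | ht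
  · subst hs
    refine ⟨t, ?_, hst⟩
    rintro rfl
    rw [Zg_zero, map_one] at hst
    exact hne hst
  · exfalso
    subst ht
    have hs0 : s ≠ 0 := by
      rintro rfl
      rw [Zg_zero, map_one] at hst
      exact hne hst
    apply hn
    apply presTv_of_isTvP_t0
    rw [hst, Zg_zero_right]
    exact ⟨e0 0 F, s, e0_ne_zero 0, hs0, rfl⟩

/-- two automorphisms not preserving transvections differ by one that does -/
theorem presTv_inv_mul (hLS : LS F) {f : ℕ} (hF : Fintype.card F = 2 ^ f)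
    (α α' : MulAut (Cfsg.PSp (0 + 2) F)) (hα : ¬ PresTv α) (hα' : ¬ PresTv α') :
    PresTv (α⁻¹ * α') := by
  obtain ⟨h, β, rfl, hβ⟩ := exists_normalizing hF α
  obtain ⟨h', β', rfl, hβ'⟩ := exists_normalizing hF α'
  have hnβ : ¬ PresTv β := fun hp => hα ((presTv_conj _).mul hp)
  have hnβ' : ¬ PresTv β' := fun hp => hα' ((presTv_conj _).mul hp)
  obtain ⟨t, ht0, ht⟩ := short_of_not_presTv hLS β hβ hnβ
  obtain ⟨t', ht'0, ht'⟩ := short_of_not_presTv hLS β' hβ' hnβ'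
  -- `β⁻¹ * β'` maps `t0` to a transvection
  have hb : t' / t ≠ 0 := div_ne_zero ht'0 ht0
  have h5 := Tb_conj_Zg (k := 0) (t' / t) hb 0 t
  rw [div_mul_cancel₀ t' ht0] at h5
  have h6 : (β⁻¹ * β') (t0 0 F) =
      β⁻¹ (pr (Tb 0 (t' / t) hb)) * t0 0 F * (β⁻¹ (pr (Tb 0 (t' / t) hb)))⁻¹ := by
    rw [MulAut.mul_apply, ht', ← h5, map_mul, map_mul, map_inv, map_mul, map_mul, map_inv, ← ht]
    congr 2
    exact MulAut.inv_apply_self _ _ _
  have h7 : PresTv (β⁻¹ * β') := by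
    apply presTv_of_isTvP_t0
    rw [h6]
    have := (presTv_conj (β⁻¹ (pr (Tb 0 (t' / t) hb))) _).mpr (isTvP_t0 (k := 0) (F := F))
    rwa [MulAut.conj_apply] at this
  have h8 : (MulAut.conj (pr h) * β)⁻¹ * (MulAut.conj (pr h') * β') =
      MulAut.conj (β⁻¹ ((pr h)⁻¹ * pr h')) * (β⁻¹ * β') := by
    have h9 := conj_comm_aut β⁻¹ ((pr h)⁻¹ * pr h')
    calc (MulAut.conj (pr h) * β)⁻¹ * (MulAut.conj (pr h') * β')
        = β⁻¹ * MulAut.conj ((pr h)⁻¹ * pr h') * β' := by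
          rw [map_mul, map_inv]; group
      _ = MulAut.conj (β⁻¹ ((pr h)⁻¹ * pr h')) * β⁻¹ * β' := by rw [h9]
      _ = _ := by group
  rw [h8]
  exact (presTv_conj _).mul h7

/-- the automorphisms preserving transvections -/
def TvAut (F : Type*) [Field F] : Subgroup (MulAut (Cfsg.PSp (0 + 2) F)) where
  carrier := {α | PresTv α}
  mul_mem' ha hb := ha.mul hb
  one_mem' := presTv_one
  inv_mem' ha := ha.inv

omit [Fintype F] [CharP F 2] in
theorem mem_TvAut (α : MulAut (Cfsg.PSp (0 + 2) F)) : α ∈ TvAut F ↔ PresTv α := Iff.rfl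

/-- the graph automorphism, on `PSp (0 + 2) F` -/
noncomputable def gAut0 (σ₂ : F ≃+* F) (hσ₂ : ∀ x, σ₂ x = x ^ 2) :
    MulAut (Cfsg.PSp (0 + 2) F) := gAut two_eq_zero_F σ₂ hσ₂

theorem gAut0_t0 (σ₂ : F ≃+* F) (hσ₂ : ∀ x, σ₂ x = x ^ 2) :
    gAut0 σ₂ hσ₂ (t0 0 F) = pr (Zg 0 0 1) := gAut_t0 two_eq_zero_F σ₂ hσ₂

theorem gAut0_sq (σ₂ : F ≃+* F) (hσ₂ : ∀ x, σ₂ x = x ^ 2) :
    gAut0 σ₂ hσ₂ * gAut0 σ₂ hσ₂ = fAut σ₂ := gAut_sq two_eq_zero_F σ₂ hσ₂

theorem gAut0_not_presTv (σ₂ : F ≃+* F) (hσ₂ : ∀ x, σ₂ x = x ^ 2) :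
    ¬ PresTv (gAut0 σ₂ hσ₂) := by
  intro h
  have h1 := (h (t0 0 F)).mpr (isTvP_t0 (k := 0) (F := F))
  rw [gAut0_t0] at h1
  exact not_isTvP_Zg two_eq_zero_F one_ne_zero h1

/-- the transvection-preserving automorphisms have index two -/
theorem index_TvAut (hLS : LS F) {f : ℕ} (hF : Fintype.card F = 2 ^ f)
    (σ₂ : F ≃+* F) (hσ₂ : ∀ x, σ₂ x = x ^ 2) : (TvAut F).index = 2 := by
  rw [Subgroup.index_eq_two_iff_exists_notMem_and]
  refine ⟨gAut0 σ₂ hσ₂, gAut0_not_presTv σ₂ hσ₂, fun b => ?_⟩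
  by_cases hb : PresTv b
  · right
    exact hb
  · left
    have hb' : ¬ PresTv b⁻¹ := fun h => hb (by simpa using h.inv)
    have := presTv_inv_mul hLS hF b⁻¹ (gAut0 σ₂ hσ₂) hb' (gAut0_not_presTv σ₂ hσ₂)
    rwa [inv_inv] at this

/-- the long-or-short property holds over every finite field of characteristic two -/
theorem LS_all : LS F := by
  intro γ _ s t hst
  by_contra hcon
  push Not at hcon
  obtain ⟨hs, ht⟩ := hcon
  obtain ⟨u, hu⟩ := sq_case1 two_eq_zero_F (h01 (k := 0)) s t hs ht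
  have hu' : u * u = Zg 0 s t := Subtype.ext hu
  obtain ⟨w, hw⟩ := pr_surjective (γ⁻¹ (pr u))
  have h1 : pr (w * w) = pr (transv (0 + 2) (e0 0 F) 1) := by
    rw [map_mul, hw, ← map_mul, ← map_mul, hu', ← hst]
    exact MulAut.inv_apply_self _ _ _
  rw [pr_eq_iff] at h1
  have h3 := center_eq_bot_of_two (by omega) two_eq_zero_F h1
  have h4 : transv (0 + 2) (e0 0 F) 1 = w * w := by
    have := inv_mul_eq_one.mp h3
    exact this.symm
  exact transv_not_sq two_eq_zero_F _ (e0_ne_zero 0) 1 one_ne_zero w h4.symm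

omit [Fintype F] [CharP F 2] in
theorem presTv_fAut {m : ℕ} (σ : F ≃+* F) : PresTv (fAut (m := m) σ) := by
  have key : ∀ (τ : F ≃+* F) (t : Cfsg.PSp m F), IsTvP t → IsTvP (fAut τ t) := by
    rintro τ _ ⟨v, c, hv, hc, rfl⟩
    rw [fAut_pr, fieldSp_transv]
    refine ⟨_, _, ?_, ?_, rfl⟩
    · intro h0
      apply hv
      funext i
      have := congrFun h0 i
      exact (map_eq_zero τ).mp this
    · exact (map_ne_zero τ).mpr hc
  intro t
  constructor
  · intro h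
    have h1 := key σ⁻¹ _ h
    rw [← MulAut.mul_apply, ← map_mul, inv_mul_cancel, map_one] at h1
    exact h1
  · exact key σ t

theorem presTv_cAut (g : ↥(Cfsg.GSp (0 + 2) F)) : PresTv (cAut g) := by
  have hsq : ∀ c : Fˣ, ∃ d : Fˣ, c = d * d := by
    intro c
    have hchar : ringChar F = 2 := ringChar.eq F 2
    obtain ⟨d, hd⟩ := FiniteField.isSquare_of_char_two hchar (c : F)
    have hd0 : d ≠ 0 := by
      rintro rfl
      rw [mul_zero] at hd
      exact c.ne_zero hd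
    exact ⟨Units.mk0 d hd0, Units.ext hd⟩
  have h1 : cAut g ∈ (cAut (F := F) (m := 0 + 2)).range := ⟨g, rfl⟩
  rw [range_eq_inn_of_sq (by omega) hsq] at h1
  obtain ⟨x, hx⟩ := h1
  rw [← hx]
  exact presTv_conj x

theorem mem_TvAut_iff {f : ℕ} (hF : Fintype.card F = 2 ^ f) (α : MulAut (Cfsg.PSp (0 + 2) F)) :
    α ∈ (TvAut F : Set (MulAut (Cfsg.PSp (0 + 2) F))) ↔
      ∃ (g : ↥(Cfsg.GSp (0 + 2) F)) (σ : F ≃+* F), α = cAut g * fAut σ := by
  constructor
  · intro h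
    exact exists_cAut_fAut_of_presTv hF (by omega) α h
  · rintro ⟨g, σ, rfl⟩
    exact (presTv_cAut g).mul (presTv_fAut σ)

/-- the Frobenius automorphism -/
noncomputable def frob2 (F : Type*) [Field F] [Fintype F] [CharP F 2] : F ≃+* F :=
  RingEquiv.ofBijective (frobenius F 2)
    ((Finite.injective_iff_bijective).mp (frobenius_inj F 2))

theorem frob2_apply (x : F) : frob2 F x = x ^ 2 := rfl

/-- **the order of `Aut (PSp_4(2^f))`** -/
theorem card_aut_exceptional {f : ℕ} (hF : Fintype.card F = 2 ^ f) :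
    Nat.card (MulAut (Cfsg.PSp (0 + 2) F)) =
      2 * (Nat.card (cAut (F := F) (m := 0 + 2)).range * f) := by
  have h1 := card_decomp hF (by omega) (TvAut F : Set (MulAut (Cfsg.PSp (0 + 2) F)))
    (mem_TvAut_iff hF)
  have h2 := index_TvAut LS_all hF (frob2 F) frob2_apply
  have h3 := Subgroup.index_mul_card (TvAut F)
  rw [h2] at h3
  rw [← h1]
  exact h3.symm

end main

/-- **the order of `Aut (PSp_2m(q))`** -/
theorem card_aut_psp [Fintype F] (p f : ℕ) [hp : Fact p.Prime] (hf : 1 ≤ f)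
    (hF : Fintype.card F = p ^ f) (m : ℕ) (hm : 2 ≤ m) (h22 : m = 2 → 3 ≤ p ^ f) :
    Nat.card (MulAut (Cfsg.PSp m F)) =
      (if m = 2 ∧ p = 2 then 2 else 1) * Nat.gcd 2 (p ^ f - 1) * f *
        Nat.card (Cfsg.PSp m F) := by
  haveI : CharP F p := charP_of_card_eq_prime_pow hF
  by_cases hex : m = 2 ∧ p = 2
  · obtain ⟨rfl, rfl⟩ := hex
    rw [if_pos ⟨rfl, rfl⟩]
    have h1 := card_aut_exceptional hF
    have h2 := card_range_cAut (F := F) (m := 0 + 2) (by omega)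
    rw [hF] at h2
    rw [h2] at h1
    have h3 : Nat.card (MulAut (Cfsg.PSp 2 F)) =
        2 * (Nat.gcd 2 (2 ^ f - 1) * Nat.card (Cfsg.PSp 2 F) * f) := h1
    rw [h3]
    ring
  · rw [if_neg hex, one_mul]
    obtain ⟨k, rfl⟩ : ∃ k, m = k + 2 := ⟨m - 2, by omega⟩
    have h4 : p = 2 → 1 ≤ k := by
      intro hp2
      by_contra hk
      apply hex
      exact ⟨by omega, hp2⟩
    have h1 := card_decomp hF hm (Set.univ : Set (MulAut (Cfsg.PSp (k + 2) F)))
      (fun α => ⟨fun _ => exists_cAut_fAut_of_presTv hF hm α (presTv_of_ne hF h4 α),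
        fun _ => trivial⟩)
    rw [Nat.card_congr (Equiv.Set.univ _)] at h1
    rw [h1, card_range_cAut hm, hF]
    ring

end Cfsg.Agent.Lib.Helper44_Sp4Out
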