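import Mathlib

set_option autoImplicit false
set_option linter.unusedSectionVars false

/-!
Block constructions in symplectic groups (helper44): the orthogonal direct sum
`Sp(l) × Sp(c) → Sp(l ⊕ c)`, the swap of the two summands of `l ⊕ l`, and reindexing along an equivalence of
index types.
-/

namespace Cfsg.Agent.Lib.Helper44_SpWreath

open Matrix

variable {l c : Type} [Fintype l] [DecidableEq l] [Fintype c] [DecidableEq c] {F : Type*} [CommRing F]

/-- The shuffle of coordinates. -/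
def shuf (l c : Type) : (l ⊕ l) ⊕ (c ⊕ c) ≃ (l ⊕ c) ⊕ (l ⊕ c) := Equiv.sumSumSumComm l l c c

/-- A block matrix over `(l ⊕ l) ⊕ (c ⊕ c)` seen over `(l ⊕ c) ⊕ (l ⊕ c)`. -/
def shufMat (M : Matrix ((l ⊕ l) ⊕ (c ⊕ c)) ((l ⊕ l) ⊕ (c ⊕ c)) F) :
    Matrix ((l ⊕ c) ⊕ (l ⊕ c)) ((l ⊕ c) ⊕ (l ⊕ c)) F :=
  M.submatrix (shuf l c).symm (shuf l c).symm

theorem shufMat_mul (M N : Matrix ((l ⊕ l) ⊕ (c ⊕ c)) ((l ⊕ l) ⊕ (c ⊕ c)) F) :
    shufMat (M * N) = shufMat M * shufMat N := by
  unfold shufMat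
  rw [Matrix.submatrix_mul_equiv]

theorem shufMat_transpose (M : Matrix ((l ⊕ l) ⊕ (c ⊕ c)) ((l ⊕ l) ⊕ (c ⊕ c)) F) :
    (shufMat M)ᵀ = shufMat Mᵀ := by
  unfold shufMat
  rw [Matrix.transpose_submatrix]

theorem shufMat_one : shufMat (1 : Matrix ((l ⊕ l) ⊕ (c ⊕ c)) ((l ⊕ l) ⊕ (c ⊕ c)) F) = 1 := by
  unfold shufMat
  rw [Matrix.submatrix_one_equiv]

theorem shufMat_injective :
    Function.Injective (shufMat : Matrix ((l ⊕ l) ⊕ (c ⊕ c)) ((l ⊕ l) ⊕ (c ⊕ c)) F → _) := by
  intro M N h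
  ext i j
  have := congrFun (congrFun h (shuf l c i)) (shuf l c j)
  simpa [shufMat] using this

theorem shufMat_J :
    shufMat (Matrix.fromBlocks (Matrix.J l F) 0 0 (Matrix.J c F)) = Matrix.J (l ⊕ c) F := by
  ext x y
  rcases x with (x | x) | (x | x) <;> rcases y with (y | y) | (y | y) <;>
    simp [shufMat, shuf, Matrix.J, Matrix.one_apply]

/-- The orthogonal direct sum of two matrices. -/
def dsumMat (A : Matrix (l ⊕ l) (l ⊕ l) F) (B : Matrix (c ⊕ c) (c ⊕ c) F) :
    Matrix ((l ⊕ c) ⊕ (l ⊕ c)) ((l ⊕ c) ⊕ (l ⊕ c)) F :=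
  shufMat (Matrix.fromBlocks A 0 0 B)

theorem dsumMat_mul (A A' : Matrix (l ⊕ l) (l ⊕ l) F) (B B' : Matrix (c ⊕ c) (c ⊕ c) F) :
    dsumMat (A * A') (B * B') = dsumMat A B * dsumMat A' B' := by
  unfold dsumMat
  rw [← shufMat_mul, Matrix.fromBlocks_multiply]
  simp

theorem dsumMat_one : dsumMat (1 : Matrix (l ⊕ l) (l ⊕ l) F) (1 : Matrix (c ⊕ c) (c ⊕ c) F) = 1 := by
  unfold dsumMat
  rw [Matrix.fromBlocks_one, shufMat_one]

theorem dsumMat_mem {A : Matrix (l ⊕ l) (l ⊕ l) F} {B : Matrix (c ⊕ c) (c ⊕ c) F}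
    (hA : A ∈ Matrix.symplecticGroup l F) (hB : B ∈ Matrix.symplecticGroup c F) :
    dsumMat A B ∈ Matrix.symplecticGroup (l ⊕ c) F := by
  rw [SymplecticGroup.mem_iff] at hA hB ⊢
  unfold dsumMat
  rw [← shufMat_J, shufMat_transpose, ← shufMat_mul, ← shufMat_mul, Matrix.fromBlocks_transpose,
    Matrix.fromBlocks_multiply, Matrix.fromBlocks_multiply]
  simp [hA, hB]

theorem dsumMat_injective {A A' : Matrix (l ⊕ l) (l ⊕ l) F} {B B' : Matrix (c ⊕ c) (c ⊕ c) F}
    (h : dsumMat A B = dsumMat A' B') : A = A' ∧ B = B' := by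
  unfold dsumMat at h
  have h1 := shufMat_injective h
  rw [Matrix.fromBlocks_inj] at h1
  exact ⟨h1.1, h1.2.2.2⟩

/-- The orthogonal direct sum `Sp(l) × Sp(c) → Sp(l ⊕ c)`. -/
def dsum : ↥(Matrix.symplecticGroup l F) × ↥(Matrix.symplecticGroup c F) →*
    ↥(Matrix.symplecticGroup (l ⊕ c) F) where
  toFun p := ⟨dsumMat p.1.1 p.2.1, dsumMat_mem p.1.2 p.2.2⟩
  map_one' := Subtype.ext dsumMat_one
  map_mul' p p' := Subtype.ext (dsumMat_mul p.1.1 p'.1.1 p.2.1 p'.2.1)

theorem dsum_injective : Function.Injective (dsum (l := l) (c := c) (F := F)) := by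
  intro p p' h
  have h1 := dsumMat_injective (congrArg Subtype.val h)
  exact Prod.ext (Subtype.ext h1.1) (Subtype.ext h1.2)

/-- The swap of the two summands of `l ⊕ l`. -/
def swapMat (l : Type) [Fintype l] [DecidableEq l] (F : Type*) [CommRing F] :
    Matrix ((l ⊕ l) ⊕ (l ⊕ l)) ((l ⊕ l) ⊕ (l ⊕ l)) F :=
  shufMat (Matrix.fromBlocks 0 1 1 0)

theorem swapMat_mem : swapMat l F ∈ Matrix.symplecticGroup (l ⊕ l) F := by
  rw [SymplecticGroup.mem_iff]
  unfold swapMat
  rw [← shufMat_J, shufMat_transpose, ← shufMat_mul, ← shufMat_mul, Matrix.fromBlocks_transpose,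
    Matrix.fromBlocks_multiply, Matrix.fromBlocks_multiply]
  simp

theorem swapMat_mul_self : swapMat l F * swapMat l F = 1 := by
  unfold swapMat
  rw [← shufMat_mul, Matrix.fromBlocks_multiply]
  simp [Matrix.fromBlocks_one, shufMat_one]

theorem swapMat_mul_dsumMat (A B : Matrix (l ⊕ l) (l ⊕ l) F) :
    swapMat l F * dsumMat A B = dsumMat B A * swapMat l F := by
  unfold swapMat dsumMat
  rw [← shufMat_mul, ← shufMat_mul, Matrix.fromBlocks_multiply, Matrix.fromBlocks_multiply]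
  simp

theorem swapMat_ne_dsumMat [Nonempty l] [Nontrivial F] (A B : Matrix (l ⊕ l) (l ⊕ l) F) :
    dsumMat A B * swapMat l F ≠ 1 := by
  intro h
  unfold swapMat dsumMat at h
  rw [← shufMat_mul, Matrix.fromBlocks_multiply, ← shufMat_one] at h
  have h1 := shufMat_injective h
  have h2 : (Matrix.fromBlocks (A * 0 + 0 * 1) (A * 1 + 0 * 0) (0 * 0 + B * 1) (0 * 1 + B * 0) :
      Matrix ((l ⊕ l) ⊕ (l ⊕ l)) ((l ⊕ l) ⊕ (l ⊕ l)) F) = Matrix.fromBlocks 1 0 0 1 := by
    rw [h1, Matrix.fromBlocks_one]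
  rw [Matrix.fromBlocks_inj] at h2
  have h3 := h2.1
  simp only [Matrix.mul_zero, Matrix.zero_mul, add_zero] at h3
  obtain ⟨i⟩ := ‹Nonempty l›
  have h4 := congrFun (congrFun h3 (Sum.inl i)) (Sum.inl i)
  simp at h4

/-- The swap as an element of the symplectic group. -/
def swap (l : Type) [Fintype l] [DecidableEq l] (F : Type*) [CommRing F] :
    ↥(Matrix.symplecticGroup (l ⊕ l) F) := ⟨swapMat l F, swapMat_mem⟩

theorem swap_mul_self : swap l F * swap l F = 1 := Subtype.ext swapMat_mul_self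

theorem swap_mul_dsum (A B : ↥(Matrix.symplecticGroup l F)) :
    swap l F * dsum (A, B) = dsum (B, A) * swap l F :=
  Subtype.ext (swapMat_mul_dsumMat A.1 B.1)

section reindex

variable {l' : Type} [Fintype l'] [DecidableEq l']

/-- Reindexing a matrix over `l ⊕ l` along `e : l ≃ l'`. -/
def reMat (e : l ≃ l') (M : Matrix (l ⊕ l) (l ⊕ l) F) : Matrix (l' ⊕ l') (l' ⊕ l') F :=
  M.submatrix (Equiv.sumCongr e e).symm (Equiv.sumCongr e e).symm

theorem reMat_mul (e : l ≃ l') (M N : Matrix (l ⊕ l) (l ⊕ l) F) :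
    reMat e (M * N) = reMat e M * reMat e N := by
  unfold reMat
  rw [Matrix.submatrix_mul_equiv]

theorem reMat_transpose (e : l ≃ l') (M : Matrix (l ⊕ l) (l ⊕ l) F) : (reMat e M)ᵀ = reMat e Mᵀ := by
  unfold reMat
  rw [Matrix.transpose_submatrix]

theorem reMat_one (e : l ≃ l') : reMat e (1 : Matrix (l ⊕ l) (l ⊕ l) F) = 1 := by
  unfold reMat
  rw [Matrix.submatrix_one_equiv]

theorem reMat_injective (e : l ≃ l') :
    Function.Injective (reMat e : Matrix (l ⊕ l) (l ⊕ l) F → _) := by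
  intro M N h
  ext i j
  have := congrFun (congrFun h (Equiv.sumCongr e e i)) (Equiv.sumCongr e e j)
  simpa [reMat] using this

theorem reMat_J (e : l ≃ l') : reMat e (Matrix.J l F) = Matrix.J l' F := by
  ext x y
  rcases x with x | x <;> rcases y with y | y <;>
    simp [reMat, Matrix.J, Matrix.one_apply]

theorem reMat_mem (e : l ≃ l') {A : Matrix (l ⊕ l) (l ⊕ l) F} (hA : A ∈ Matrix.symplecticGroup l F) :
    reMat e A ∈ Matrix.symplecticGroup l' F := by
  rw [SymplecticGroup.mem_iff] at hA ⊢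
  rw [← reMat_J e, reMat_transpose, ← reMat_mul, ← reMat_mul, hA]

/-- Reindexing the symplectic group. -/
def reSp (e : l ≃ l') : ↥(Matrix.symplecticGroup l F) →* ↥(Matrix.symplecticGroup l' F) where
  toFun A := ⟨reMat e A.1, reMat_mem e A.2⟩
  map_one' := Subtype.ext (reMat_one e)
  map_mul' A B := Subtype.ext (reMat_mul e A.1 B.1)

theorem reSp_injective (e : l ≃ l') : Function.Injective (reSp (F := F) e) := by
  intro A B h
  exact Subtype.ext (reMat_injective e (congrArg Subtype.val h))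

end reindex

section wreath

open RegularWreathProduct

/-- The group of order two. -/
abbrev C2 : Type := Multiplicative (ZMod 2)

/-- Its generator. -/
def gen : C2 := Multiplicative.ofAdd 1

theorem c2_cases (q : C2) : q = 1 ∨ q = gen := by
  revert q
  decide

theorem gen_ne_one : gen ≠ 1 := by decide

theorem gen_inv : gen⁻¹ = gen := by decide

theorem gen_mul_gen : gen * gen = 1 := by decide

variable {W : Type*} [Group W] (ρ : W →* ↥(Matrix.symplecticGroup l F))

/-- The image of an element of `C2`. -/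
def sw (l : Type) [Fintype l] [DecidableEq l] (F : Type*) [CommRing F] (q : C2) :
    ↥(Matrix.symplecticGroup (l ⊕ l) F) := if q = 1 then 1 else swap l F

theorem sw_one : sw l F 1 = 1 := if_pos rfl

theorem sw_gen : sw l F gen = swap l F := if_neg gen_ne_one

theorem sw_mul (q q' : C2) : sw l F (q * q') = sw l F q * sw l F q' := by
  rcases c2_cases q with rfl | rfl <;> rcases c2_cases q' with rfl | rfl
  · rw [one_mul, sw_one, one_mul]
  · rw [one_mul, sw_one, one_mul]
  · rw [mul_one, sw_one, mul_one]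
  · rw [gen_mul_gen, sw_one, sw_gen, swap_mul_self]

/-- The representation of the wreath product with `C2`. -/
def wrFun (w : W ≀ᵣ C2) : ↥(Matrix.symplecticGroup (l ⊕ l) F) :=
  dsum (ρ (w.left 1), ρ (w.left gen)) * sw l F w.right

theorem wrFun_mul (a b : W ≀ᵣ C2) : wrFun ρ (a * b) = wrFun ρ a * wrFun ρ b := by
  unfold wrFun
  rw [RegularWreathProduct.mul_left, RegularWreathProduct.mul_right, sw_mul]
  simp only [Pi.mul_apply, map_mul]
  have h1 : dsum (ρ (a.left 1) * ρ (b.left (a.right⁻¹ * 1)), ρ (a.left gen) * ρ (b.left (a.right⁻¹ * gen)))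
      = dsum (ρ (a.left 1), ρ (a.left gen)) *
        dsum (ρ (b.left (a.right⁻¹ * 1)), ρ (b.left (a.right⁻¹ * gen))) := by
    rw [← Prod.mk_mul_mk, map_mul]
  rw [h1]
  rcases c2_cases a.right with h | h
  · rw [h, inv_one, one_mul, one_mul, sw_one, mul_one]
    group
  · rw [h, gen_inv, mul_one, gen_mul_gen, sw_gen]
    have h2 := swap_mul_dsum (ρ (b.left 1)) (ρ (b.left gen))
    calc dsum (ρ (a.left 1), ρ (a.left gen)) * dsum (ρ (b.left gen), ρ (b.left 1)) * (swap l F * sw l F b.right)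
        = dsum (ρ (a.left 1), ρ (a.left gen)) * (dsum (ρ (b.left gen), ρ (b.left 1)) * swap l F) * sw l F b.right := by
          group
      _ = dsum (ρ (a.left 1), ρ (a.left gen)) * (swap l F * dsum (ρ (b.left 1), ρ (b.left gen))) * sw l F b.right := by
          rw [h2]
      _ = _ := by group

/-- The representation of the wreath product with `C2`, as a homomorphism. -/
def wrHom : W ≀ᵣ C2 →* ↥(Matrix.symplecticGroup (l ⊕ l) F) where
  toFun := wrFun ρ
  map_one' := by
    unfold wrFun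
    rw [RegularWreathProduct.one_left, RegularWreathProduct.one_right, sw_one, mul_one]
    simp only [Pi.one_apply, map_one]
    exact map_one dsum
  map_mul' := wrFun_mul ρ

theorem wrHom_injective [Nonempty l] [Nontrivial F] (hρ : Function.Injective ρ) :
    Function.Injective (wrHom ρ) := by
  rw [injective_iff_map_eq_one]
  intro w hw
  change wrFun ρ w = 1 at hw
  unfold wrFun at hw
  rcases c2_cases w.right with h | h
  · rw [h, sw_one, mul_one] at hw
    have h1 : dsum (ρ (w.left 1), ρ (w.left gen)) = dsum ((1 : ↥(Matrix.symplecticGroup l F)), (1 : ↥(Matrix.symplecticGroup l F))) := by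
      rw [hw]
      exact (map_one dsum).symm
    have h2 := dsum_injective h1
    have h3 : ρ (w.left 1) = 1 := congrArg Prod.fst h2
    have h4 : ρ (w.left gen) = 1 := congrArg Prod.snd h2
    rw [← map_one ρ] at h3 h4
    apply RegularWreathProduct.ext
    · funext q
      rcases c2_cases q with rfl | rfl
      · exact hρ h3
      · exact hρ h4
    · exact h
  · exfalso
    rw [h, sw_gen] at hw
    exact swapMat_ne_dsumMat _ _ (congrArg Subtype.val hw)

end wreath

end Cfsg.Agent.Lib.Helper44_SpWreath
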