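import Mathlib
import Cfsg.Agent.Lib.Helper44_Orth
import Cfsg.Agent.Lib.Helper44_Refl
import Cfsg.Agent.Lib.Helper44_Spinor

set_option autoImplicit false

/-!
Orthogonal direct sums `Q₁ ⊕ Q₂` as bundled quadratic forms on `k ⊕ l → F`: polar form, non-degeneracy,
compatibility of reflections with the block embeddings, the swap isometry of `Q ⊕ Q` (helper44).
-/

namespace Cfsg.Agent.Lib.Helper44_SumForm

open Cfsg Matrix Cfsg.Agent.Lib.Helper44_Orth Cfsg.Agent.Lib.Helper44_Refl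
  Cfsg.Agent.Lib.Helper44_Spinor

variable {k l : Type} [Fintype k] [Fintype l] [DecidableEq k] [DecidableEq l]
  {F : Type*} [Field F]

/-- The orthogonal sum as a bundled quadratic form. -/
def sumQF (Q₁ : QuadraticForm F (k → F)) (Q₂ : QuadraticForm F (l → F)) :
    QuadraticForm F (k ⊕ l → F) :=
  Q₁.comp (LinearMap.funLeft F F (Sum.inl : k → k ⊕ l))
    + Q₂.comp (LinearMap.funLeft F F (Sum.inr : l → k ⊕ l))

omit [Fintype k] [Fintype l] [DecidableEq k] [DecidableEq l] in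
theorem sumQF_apply (Q₁ : QuadraticForm F (k → F)) (Q₂ : QuadraticForm F (l → F))
    (v : k ⊕ l → F) : sumQF Q₁ Q₂ v = Q₁ (v ∘ Sum.inl) + Q₂ (v ∘ Sum.inr) := rfl

omit [Fintype k] [Fintype l] [DecidableEq k] [DecidableEq l] in
theorem coe_sumQF (Q₁ : QuadraticForm F (k → F)) (Q₂ : QuadraticForm F (l → F)) :
    ⇑(sumQF Q₁ Q₂) = sumForm (⇑Q₁) (⇑Q₂) := rfl

omit [Fintype k] [Fintype l] [DecidableEq k] [DecidableEq l] in
theorem coe_sumQF' (Q₁ : QuadraticForm F (k → F)) (Q₂ : QuadraticForm F (l → F)) :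
    ⇑(sumQF Q₁ Q₂) = fun v : k ⊕ l → F => Q₁ (v ∘ Sum.inl) + Q₂ (v ∘ Sum.inr) := rfl

omit [Fintype k] [Fintype l] [DecidableEq k] [DecidableEq l] in
theorem polar_sumQF (Q₁ : QuadraticForm F (k → F)) (Q₂ : QuadraticForm F (l → F))
    (x y : k ⊕ l → F) :
    QuadraticMap.polar (⇑(sumQF Q₁ Q₂)) x y
      = QuadraticMap.polar (⇑Q₁) (x ∘ Sum.inl) (y ∘ Sum.inl)
        + QuadraticMap.polar (⇑Q₂) (x ∘ Sum.inr) (y ∘ Sum.inr) := by
  simp only [QuadraticMap.polar, sumQF_apply]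
  have h1 : (x + y) ∘ (Sum.inl : k → k ⊕ l) = x ∘ Sum.inl + y ∘ Sum.inl := rfl
  have h2 : (x + y) ∘ (Sum.inr : l → k ⊕ l) = x ∘ Sum.inr + y ∘ Sum.inr := rfl
  rw [h1, h2]
  ring

omit [DecidableEq k] [DecidableEq l] in
theorem nondegenerate_sumQF (Q₁ : QuadraticForm F (k → F)) (Q₂ : QuadraticForm F (l → F))
    (h₁ : (QuadraticMap.polarBilin Q₁).Nondegenerate) (h₂ : (QuadraticMap.polarBilin Q₂).Nondegenerate) :
    (QuadraticMap.polarBilin (sumQF Q₁ Q₂)).Nondegenerate := by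
  apply LinearMap.BilinForm.Nondegenerate.ofSeparatingLeft
  intro x hx
  have hl : x ∘ Sum.inl = 0 := by
    apply h₁.1
    intro y₁
    have := hx (Sum.elim y₁ 0)
    rw [QuadraticMap.polarBilin_apply_apply, polar_sumQF] at this
    have e1 : (Sum.elim y₁ (0 : l → F) : k ⊕ l → F) ∘ Sum.inl = y₁ := rfl
    have e2 : (Sum.elim y₁ (0 : l → F) : k ⊕ l → F) ∘ Sum.inr = 0 := rfl
    rw [e1, e2, QuadraticMap.polar_zero_right, add_zero] at this
    rw [QuadraticMap.polarBilin_apply_apply]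
    exact this
  have hr : x ∘ Sum.inr = 0 := by
    apply h₂.1
    intro y₂
    have := hx (Sum.elim 0 y₂)
    rw [QuadraticMap.polarBilin_apply_apply, polar_sumQF] at this
    have e1 : (Sum.elim (0 : k → F) y₂ : k ⊕ l → F) ∘ Sum.inl = 0 := rfl
    have e2 : (Sum.elim (0 : k → F) y₂ : k ⊕ l → F) ∘ Sum.inr = y₂ := rfl
    rw [e1, e2, QuadraticMap.polar_zero_right, zero_add] at this
    rw [QuadraticMap.polarBilin_apply_apply]
    exact this
  funext a
  rcases a with a | a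
  · exact congrFun hl a
  · exact congrFun hr a

/-- The block embedding of a reflection is the reflection in the embedded vector. -/
theorem blockLeft_reflectionMatrix (Q₁ : QuadraticForm F (k → F)) (Q₂ : QuadraticForm F (l → F))
    (v : k → F) :
    Matrix.fromBlocks (Cfsg.reflectionMatrix (⇑Q₁) v) 0 0 (1 : Matrix l l F)
      = Cfsg.reflectionMatrix (⇑(sumQF Q₁ Q₂)) (Sum.elim v 0) := by
  apply matrix_ext_mulVec
  intro x
  rw [reflectionMatrix_mulVec, Matrix.fromBlocks_mulVec, reflectionMatrix_mulVec, sumQF_apply,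
    polar_sumQF]
  have e1 : (Sum.elim v (0 : l → F) : k ⊕ l → F) ∘ Sum.inl = v := rfl
  have e2 : (Sum.elim v (0 : l → F) : k ⊕ l → F) ∘ Sum.inr = 0 := rfl
  rw [e1, e2, map_zero, add_zero, QuadraticMap.polar_zero_left, add_zero]
  funext a
  rcases a with a | a
  · simp
  · simp

theorem blockRight_reflectionMatrix (Q₁ : QuadraticForm F (k → F)) (Q₂ : QuadraticForm F (l → F))
    (v : l → F) :
    Matrix.fromBlocks (1 : Matrix k k F) 0 0 (Cfsg.reflectionMatrix (⇑Q₂) v)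
      = Cfsg.reflectionMatrix (⇑(sumQF Q₁ Q₂)) (Sum.elim 0 v) := by
  apply matrix_ext_mulVec
  intro x
  rw [reflectionMatrix_mulVec, Matrix.fromBlocks_mulVec, reflectionMatrix_mulVec, sumQF_apply,
    polar_sumQF]
  have e1 : (Sum.elim (0 : k → F) v : k ⊕ l → F) ∘ Sum.inl = 0 := rfl
  have e2 : (Sum.elim (0 : k → F) v : k ⊕ l → F) ∘ Sum.inr = v := rfl
  rw [e1, e2, map_zero, zero_add, QuadraticMap.polar_zero_left, zero_add]
  funext a
  rcases a with a | a
  · simp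
  · simp

/-- The block embedding of a product of reflections. -/
theorem blockLeft_prod (Q₁ : QuadraticForm F (k → F)) (Q₂ : QuadraticForm F (l → F))
    (vs : List (k → F)) :
    Matrix.fromBlocks (vs.map (fun v => Cfsg.reflectionMatrix (⇑Q₁) v)).prod 0 0 (1 : Matrix l l F)
      = ((vs.map (fun v => (Sum.elim v 0 : k ⊕ l → F))).map
          (fun w => Cfsg.reflectionMatrix (⇑(sumQF Q₁ Q₂)) w)).prod := by
  induction vs with
  | nil => simp [Matrix.fromBlocks_one]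
  | cons v vs ih =>
    rw [List.map_cons, List.prod_cons, List.map_cons, List.map_cons, List.prod_cons, ← ih,
      ← blockLeft_reflectionMatrix, Matrix.fromBlocks_multiply]
    simp

section swap

open scoped commutatorElement

/-- The swap matrix `[[0,1],[1,0]]` as an invertible matrix. -/
def swapGL (k : Type) [Fintype k] [DecidableEq k] (F : Type*) [Field F] :
    Matrix.GeneralLinearGroup (k ⊕ k) F :=
  ⟨Matrix.fromBlocks 0 1 1 0, Matrix.fromBlocks 0 1 1 0,
    by simp [Matrix.fromBlocks_multiply, Matrix.fromBlocks_one],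
    by simp [Matrix.fromBlocks_multiply, Matrix.fromBlocks_one]⟩

theorem swapGL_coe : ((swapGL k F : Matrix.GeneralLinearGroup (k ⊕ k) F) : Matrix (k ⊕ k) (k ⊕ k) F)
    = Matrix.fromBlocks 0 1 1 0 := rfl

theorem swapGL_inv : (swapGL k F)⁻¹ = swapGL k F := by
  rw [inv_eq_iff_mul_eq_one]
  apply Units.ext
  show (Matrix.fromBlocks 0 1 1 0 : Matrix (k ⊕ k) (k ⊕ k) F) * Matrix.fromBlocks 0 1 1 0 = 1
  simp [Matrix.fromBlocks_multiply, Matrix.fromBlocks_one]

theorem swapGL_mem (Q : (k → F) → F) : swapGL k F ∈ Cfsg.isometryGroup F (sumForm Q Q) := by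
  rw [mem_isometryGroup_iff]
  intro u
  rw [swapGL_coe, Matrix.fromBlocks_mulVec]
  simp only [sumForm]
  have e1 : (Sum.elim ((0 : Matrix k k F) *ᵥ (u ∘ Sum.inl) + (1 : Matrix k k F) *ᵥ (u ∘ Sum.inr))
      ((1 : Matrix k k F) *ᵥ (u ∘ Sum.inl) + (0 : Matrix k k F) *ᵥ (u ∘ Sum.inr))) ∘ Sum.inl
      = u ∘ Sum.inr := by
    funext i; simp
  have e2 : (Sum.elim ((0 : Matrix k k F) *ᵥ (u ∘ Sum.inl) + (1 : Matrix k k F) *ᵥ (u ∘ Sum.inr))
      ((1 : Matrix k k F) *ᵥ (u ∘ Sum.inl) + (0 : Matrix k k F) *ᵥ (u ∘ Sum.inr))) ∘ Sum.inr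
      = u ∘ Sum.inl := by
    funext i; simp
  rw [e1, e2, add_comm]

/-- The swap of the two summands as an isometry of `Q ⊕ Q`. -/
def swapIsom (Q : (k → F) → F) : ↥(Cfsg.isometryGroup F (sumForm Q Q)) := ⟨swapGL k F, swapGL_mem Q⟩

/-- Conjugation by the swap exchanges the two block embeddings. -/
theorem swap_conj (Q : (k → F) → F) (g : ↥(Cfsg.isometryGroup F Q)) :
    swapIsom Q * isomLeft Q Q g * (swapIsom Q)⁻¹ = isomRight Q Q g := by
  apply Subtype.ext
  show swapGL k F * (isomLeft Q Q g : Matrix.GeneralLinearGroup (k ⊕ k) F) * (swapGL k F)⁻¹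
    = (isomRight Q Q g : Matrix.GeneralLinearGroup (k ⊕ k) F)
  rw [swapGL_inv]
  apply Units.ext
  show (Matrix.fromBlocks 0 1 1 0 : Matrix (k ⊕ k) (k ⊕ k) F)
      * Matrix.fromBlocks ((g : Matrix.GeneralLinearGroup k F) : Matrix k k F) 0 0 1
      * Matrix.fromBlocks 0 1 1 0
    = Matrix.fromBlocks 1 0 0 ((g : Matrix.GeneralLinearGroup k F) : Matrix k k F)
  simp [Matrix.fromBlocks_multiply]

/-- In the abelianisation of `O(Q ⊕ Q)`, `diag(g, g)` is a square: `diag(g,g) = a² [a⁻¹, s]`. -/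
theorem diag_eq (Q : (k → F) → F) (g : ↥(Cfsg.isometryGroup F Q)) :
    isomLeft Q Q g * isomRight Q Q g
      = (isomLeft Q Q g * isomLeft Q Q g) * ⁅(isomLeft Q Q g)⁻¹, swapIsom Q⁆ := by
  rw [← swap_conj, commutatorElement_def]
  group

end swap

end Cfsg.Agent.Lib.Helper44_SumForm
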