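import Mathlib
import Cfsg.Agent.Lib.Helper35_Sz8Pres

/-!
# SZ8-PERF (helper44, for helper35's S2112): the presented cover of `Sz(8)` is perfect
-/

set_option autoImplicit false

namespace Cfsg.Agent.Lib.Helper44_Sz8_PERF

open Cfsg.Agent.Lib.Helper35_CosetCertDefs Cfsg.Agent.Lib.Helper35_Sz8CertBase
open Cfsg.Agent.Lib.Helper35_Sz8Pres

/-- a relator holds for the images of the generators under any homomorphism -/
theorem h44_rel_map {G : Type*} [Group G] (f : Cover →* G) {r : List ℕ} (hr : r ∈ rels) :
    wprod (letters (f gX) (f gH) (f gW)) r = 1 := by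
  rw [← map_wprod_letters, rel_cover hr, map_one]

/-- in a commutative group the relators kill the three generators -/
theorem h44_comm_trivial {A : Type*} [CommGroup A] (x h w : A) (hw : w * w = 1)
    (hr : ∀ r ∈ rels, wprod (letters x h w) r = 1) : x = 1 ∧ h = 1 ∧ w = 1 := by
  have r0 := hr [0, 0, 0, 0] (by simp [rels])
  have r1 := hr [2, 4, 2, 4] (by simp [rels])
  have r2 := hr [0, 0, 4, 1, 4, 0, 4] (by simp [rels])
  have r3 := hr [2, 2, 2, 2, 2, 2, 2] (by simp [rels])
  have r10 := hr [0, 2, 0, 3, 3, 3, 0, 2, 2] (by simp [rels])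
  simp only [wprod, letters, letters5, mul_one] at r0 r1 r2 r3 r10
  -- h² = 1
  have h2 : h * h = 1 := by
    have : h * w * (h * w) = (h * h) * (w * w) := by
      rw [mul_mul_mul_comm]
    have e : h * (w * (h * w)) = (h * h) * (w * w) := by
      rw [← this, mul_assoc]
    rw [e, hw, mul_one] at r1
    exact r1
  have h1 : h = 1 := by
    have e : h * (h * (h * (h * (h * (h * h))))) = (h * h) * ((h * h) * ((h * h) * h)) := by
      simp only [mul_assoc]
    rw [e, h2, one_mul, one_mul, one_mul] at r3
    exact r3
  subst h1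
  simp only [one_mul, mul_one, inv_one] at r10
  -- r10 : x * (x * x) = 1
  have x1 : x = 1 := by
    have e : x * (x * (x * x)) = x * (x * x) * x := by
      simp only [mul_assoc]
    rw [e, r10, one_mul] at r0
    exact r0
  subst x1
  simp only [one_mul, inv_one] at r2
  -- r2 : w * (w * w) = 1
  have w1 : w = 1 := by
    rw [hw, mul_one] at r2
    exact r2
  exact ⟨rfl, rfl, w1⟩

/-- SZ8-PERF. The abelianisation of the cover is trivial. -/
theorem commutator_cover : commutator Cover = ⊤ := by
  have key := h44_comm_trivial (Abelianization.of gX) (Abelianization.of gH)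
    (Abelianization.of gW : Abelianization Cover)
    (by rw [← map_mul, gW_mul_gW, map_one])
    (fun r hr => h44_rel_map Abelianization.of hr)
  obtain ⟨hx, hh, hw⟩ := key
  rw [← Abelianization.ker_of Cover, eq_top_iff, ← closure_gens, Subgroup.closure_le]
  rintro g (rfl | rfl | rfl)
  · exact hx
  · exact hh
  · exact hw

end Cfsg.Agent.Lib.Helper44_Sz8_PERF
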