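import Mathlib
import Cfsg.Agent.Lib.Helper67_UT2BrDefs
import Cfsg.Agent.Lib.Helper14_PSULocal1

set_option autoImplicit false
set_option linter.unusedSectionVars false
set_option linter.unusedVariables false

/-!
# UTENS2 bridge, package BR-FORM (architect helper67): the tensor form structure in the coordinates
`Theta e P`.
-/

open Module Matrix
open scoped Kronecker
open Cfsg.Agent.Lib.Helper94_Symp Cfsg.Agent.Lib.Helper94_Herm Cfsg.Agent.Lib.Helper13_PSUSimple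
  Cfsg.Agent.Lib.Helper94_Bridge Cfsg.Agent.Lib.Helper94_SLBridge Cfsg.Agent.Lib.Helper94_HermBridge
  Cfsg.Agent.Lib.Helper94_TensorFrameU Cfsg.Agent.Lib.Helper70_Tens_TP10b
  Cfsg.Agent.Lib.Helper67_Tens2Defs Cfsg.Agent.Lib.Helper67_UT2Defs Cfsg.Agent.Lib.Helper67_UT2BrDefs
  Cfsg.Agent.Lib.Helper9_T2_BR

namespace Cfsg.Agent.Lib.Helper44_UT2_BR_FORM

variable {F : Type*} [Field F] [Fintype F] {q : ℕ}

/-- the Kronecker form in pair coordinates (unitary twin of `Helper9_T2_BR.formOfGram_eq`) -/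
theorem formOfGram_kron (σ : F →+* F) (hσq : ∀ x, σ x = x ^ q) {n₂ : ℕ}
    (G1 : Matrix (Fin 2) (Fin 2) F) (f₂ : (Fin n₂ → F) → (Fin n₂ → F) → F)
    (hf2 : Cfsg.Geo.IsUnitaryFormPow q f₂) (x y : Fin 2 × Fin n₂ → F) :
    Cfsg.Geo.formOfGram (fun x : F => x ^ q) (G1 ⊗ₖ Cfsg.Geo.gramMatrix f₂) x y =
      gf G1 (sesqOf σ hσq f₂ hf2) (fun k => x (0, k), fun k => x (1, k))
        (fun k => y (0, k), fun k => y (1, k)) := by
  unfold Cfsg.Geo.formOfGram gf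
  simp only [sesqOf_apply, form_eq_gram_pow σ hσq f₂ hf2]
  simp only [Fintype.sum_prod_type, Fin.sum_univ_two, Matrix.kroneckerMap_apply,
    Finset.mul_sum, ← Finset.sum_add_distrib]
  apply Finset.sum_congr rfl
  intro k _
  apply Finset.sum_congr rfl
  intro l _
  ring

/-- BR-FORM : the tensor form structure in the coordinates `Theta e P` -/
theorem form_eq (σ : F →+* F) (hσq : ∀ x, σ x = x ^ q) (n n₂ : ℕ)
    (e : Fin n ≃ Fin 2 × Fin n₂) (P : GL (Fin n) F)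
    (f₁ : (Fin 2 → F) → (Fin 2 → F) → F) (f₂ : (Fin n₂ → F) → (Fin n₂ → F) → F)
    (hf1 : Cfsg.Geo.IsUnitaryFormPow q f₁) (hf2 : Cfsg.Geo.IsUnitaryFormPow q f₂) (c : F)
    (hc : ∀ x y : Fin 2 × Fin n₂ → F,
      Cfsg.hermForm n F q ((P : Matrix (Fin n) (Fin n) F) *ᵥ (x ∘ e))
        ((P : Matrix (Fin n) (Fin n) F) *ᵥ (y ∘ e)) =
      c * Cfsg.Geo.formOfGram (fun x : F => x ^ q)
        (Cfsg.Geo.gramMatrix f₁ ⊗ₖ Cfsg.Geo.gramMatrix f₂) x y)
    (v w : Fin n → F) :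
    Cfsg.hermForm n F q v w =
      c * gf (Cfsg.Geo.gramMatrix f₁) (sesqOf σ hσq f₂ hf2) (Theta e P v) (Theta e P w) := by
  set x : Fin 2 × Fin n₂ → F := fun a =>
    (((P⁻¹ : GL (Fin n) F) : Matrix _ _ F) *ᵥ v) (e.symm a) with hx
  set y : Fin 2 × Fin n₂ → F := fun a =>
    (((P⁻¹ : GL (Fin n) F) : Matrix _ _ F) *ᵥ w) (e.symm a) with hy
  have hxv : (P : Matrix _ _ F) *ᵥ (x ∘ e) = v := by
    have : x ∘ e = ((P⁻¹ : GL (Fin n) F) : Matrix _ _ F) *ᵥ v := by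
      funext j
      simp [hx]
    rw [this, Matrix.mulVec_mulVec, ← Units.val_mul, mul_inv_cancel, Units.val_one,
      Matrix.one_mulVec]
  have hyw : (P : Matrix _ _ F) *ᵥ (y ∘ e) = w := by
    have : y ∘ e = ((P⁻¹ : GL (Fin n) F) : Matrix _ _ F) *ᵥ w := by
      funext j
      simp [hy]
    rw [this, Matrix.mulVec_mulVec, ← Units.val_mul, mul_inv_cancel, Units.val_one,
      Matrix.one_mulVec]
  have h := hc x y
  rw [hxv, hyw, formOfGram_kron σ hσq] at h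
  rw [h]
  rfl

end Cfsg.Agent.Lib.Helper44_UT2_BR_FORM
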