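import Mathlib
import Cfsg.Agent.Lib.Helper67_UT2BrDefs
import Cfsg.Agent.Lib.Helper14_PSULocal1

set_option autoImplicit false
set_option linter.unusedSectionVars false
set_option linter.unusedVariables false

/-!
# UTENS2 bridge, package BR-KA (architect helper67): `gf G β` is `uf β` in the coordinates `kA A`.
-/

open Module Matrix
open scoped Kronecker
open Cfsg.Agent.Lib.Helper94_Symp Cfsg.Agent.Lib.Helper94_Herm Cfsg.Agent.Lib.Helper13_PSUSimple
  Cfsg.Agent.Lib.Helper94_Bridge Cfsg.Agent.Lib.Helper94_SLBridge Cfsg.Agent.Lib.Helper94_HermBridge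
  Cfsg.Agent.Lib.Helper94_TensorFrameU Cfsg.Agent.Lib.Helper70_Tens_TP10b
  Cfsg.Agent.Lib.Helper67_Tens2Defs Cfsg.Agent.Lib.Helper67_UT2Defs Cfsg.Agent.Lib.Helper67_UT2BrDefs
  Cfsg.Agent.Lib.Helper9_T2_BR

namespace Cfsg.Agent.Lib.Helper44_UT2_BR_KA

variable {F : Type*} [Field F] [Fintype F] {q : ℕ}

/-- BR-KA : then `gf G β` is `uf β` in the coordinates `kA A` (pure algebra) -/
theorem gf_kA {W : Type*} [AddCommGroup W] [Module F W] (σ : F →+* F)
    (β : W →ₗ[F] W →ₛₗ[σ] F) (G A A' : Matrix (Fin 2) (Fin 2) F) (h : A * A' = 1) (h' : A' * A = 1)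
    (hG : ∀ i j, G i j = A 0 i * σ (A 1 j) + A 1 i * σ (A 0 j)) (x y : W × W) :
    gf G β x y = uf β (kA A A' h h' x) (kA A A' h h' y) := by
  rw [uf_apply, kA_apply, kA_apply]
  simp only [gf, hG, map_add, map_smul, map_smulₛₗ, LinearMap.add_apply, LinearMap.smul_apply,
    smul_eq_mul]
  ring

end Cfsg.Agent.Lib.Helper44_UT2_BR_KA
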