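import Mathlib
import Cfsg.Prelude.Def_OddOrderLocal
import Cfsg.Agent.Lib.Helper2_OmegaTwo
import Cfsg.Agent.Lib.Helper2_OmegaMeta
import Cfsg.Agent.Lib.Helper32_PGroup
import Cfsg.Agent.Lib.Helper1_Transport

/-!
# Blackburn's lifting induction for metacyclic `p`-groups, generically

`isMetacyclic_of_hereditary`: a property `P` of finite `p`-groups which passes to quotients by
central subgroups of order `p` (inside the derived subgroup when this is nontrivial) and which
forces `|Ω₁| ≤ p²` when the derived subgroup has order at most `p`, implies metacyclicity.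
(The argument is helper2's `Helper2_OmegaMeta.isMetacyclic_aux` with the property abstracted.)
-/

set_option autoImplicit false
set_option linter.unusedVariables false
set_option linter.unusedSectionVars false

namespace Cfsg.Agent.Lib.Helper45_MetaLift

open Cfsg Subgroup Cfsg.Agent.Lib.Helper2_OmegaTwo Cfsg.Agent.Lib.Helper2_OmegaMeta

universe u

variable {p : ℕ} [Fact p.Prime]

theorem isMetacyclic_of_hereditary (P : ∀ (R : Type u) [Group R], Prop)
    (hquot : ∀ (R : Type u) [Group R] [Finite R], IsPGroup p R → P R → ¬ IsCyclic R →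
      ∀ (T : Subgroup R) [T.Normal], Nat.card T = p → T ≤ center R →
        (commutator R ≠ ⊥ → T ≤ commutator R) → P (R ⧸ T))
    (hfin : ∀ (R : Type u) [Group R] [Finite R], IsPGroup p R → P R →
      ∀ (T : Subgroup R) [T.Normal], Nat.card T = p → T ≤ center R → commutator R ≤ T →
        Nat.card (omega p R) ≤ p ^ 2) :
    ∀ (n : ℕ) (R : Type u) [Group R] [Finite R], Nat.card R = n → IsPGroup p R → P R →
      IsMetacyclic R := by
  have hpP : p.Prime := Fact.out
  intro n
  induction n using Nat.strong_induction_on with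
  | _ n ih =>
  intro R _ _ hn hR hP
  by_cases hcyc : IsCyclic R
  · refine ⟨⊤, inferInstance, ?_, ?_⟩
    · exact isCyclic_of_surjective (Subgroup.topEquiv (G := R)).symm.toMonoidHom
        (Subgroup.topEquiv (G := R)).symm.surjective
    · have : Subsingleton (R ⧸ (⊤ : Subgroup R)) := QuotientGroup.subsingleton_quotient_top
      exact isCyclic_of_subsingleton
  have hnt : Nontrivial R := by
    by_contra h
    rw [not_nontrivial_iff_subsingleton] at h
    exact hcyc isCyclic_of_subsingleton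
  -- the choice of `T`
  obtain ⟨w, hwc, hwo, hwD⟩ : ∃ w : R, w ∈ center R ∧ orderOf w = p ∧
      (commutator R ≠ ⊥ → w ∈ commutator R) := by
    by_cases hD0 : commutator R = ⊥
    · have htop : (⊤ : Subgroup R) ≠ ⊥ := top_ne_bot
      obtain ⟨w, -, hwc, hwo⟩ := exists_central_order_p hR ⊤ htop
      exact ⟨w, hwc, hwo, fun h => absurd hD0 h⟩
    · obtain ⟨w, hwD, hwc, hwo⟩ := exists_central_order_p hR (commutator R) hD0
      exact ⟨w, hwc, hwo, fun _ => hwD⟩
  set T : Subgroup R := zpowers w with hTdef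
  have hTc : T ≤ center R := by rw [hTdef, zpowers_le]; exact hwc
  have hTn : T.Normal := Cfsg.Agent.Lib.Helper32_PGroup.normal_of_le_center _ hTc
  have hTcard : Nat.card T = p := by rw [hTdef, Nat.card_zpowers, hwo]
  have hTD : commutator R ≠ ⊥ → T ≤ commutator R := by
    intro h
    rw [hTdef, zpowers_le]
    exact hwD h
  have hQ := hquot R hR hP hcyc T hTcard hTc hTD
  have hQcard : Nat.card (R ⧸ T) < n := by
    have h1 := Cfsg.Agent.Lib.Helper1_Transport.card_quotient_mul_card T
    rw [hTcard, hn] at h1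
    have h2 : 0 < Nat.card (R ⧸ T) := Nat.card_pos
    have h3 : 1 < p := hpP.one_lt
    nlinarith
  obtain ⟨Nb, hNbn, hNbc, hQc⟩ := ih _ hQcard (R ⧸ T) rfl (hR.to_quotient T) hQ
  obtain ⟨a', ha'⟩ := hNbc.exists_generator
  obtain ⟨bq, hbq⟩ := hQc.exists_generator
  obtain ⟨b', rfl⟩ := QuotientGroup.mk_surjective bq
  obtain ⟨a, ha⟩ := QuotientGroup.mk_surjective (a' : R ⧸ T)
  obtain ⟨b, rfl⟩ := QuotientGroup.mk_surjective b'
  have hNb : ∀ y ∈ Nb, ∃ i : ℤ, y = (a : R ⧸ T) ^ i := by
    intro y hy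
    obtain ⟨i, hi⟩ := Subgroup.mem_zpowers_iff.mp (ha' ⟨y, hy⟩)
    refine ⟨i, ?_⟩
    have := congrArg Subtype.val hi
    rw [ha]
    simpa using this.symm
  have haNb : (a : R ⧸ T) ∈ Nb := by rw [ha]; exact a'.2
  have hgen : ∀ y : R ⧸ T, ∃ i j : ℤ, y = (b : R ⧸ T) ^ j * (a : R ⧸ T) ^ i := by
    intro y
    obtain ⟨k, hk⟩ := Subgroup.mem_zpowers_iff.mp (hbq (y : (R ⧸ T) ⧸ Nb))
    have h1 : (((b : R ⧸ T) ^ k : R ⧸ T) : (R ⧸ T) ⧸ Nb) = (y : (R ⧸ T) ⧸ Nb) := by
      rw [QuotientGroup.mk_zpow]; exact hk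
    have h2 : ((b : R ⧸ T) ^ k)⁻¹ * y ∈ Nb := QuotientGroup.eq.mp h1
    obtain ⟨i, hi⟩ := hNb _ h2
    refine ⟨i, k, ?_⟩
    rw [← hi]
    group
  have hconj : (b : R ⧸ T)⁻¹ * (a : R ⧸ T) * (b : R ⧸ T) ∈ zpowers (a : R ⧸ T) := by
    have h1 := hNbn.conj_mem _ haNb (b : R ⧸ T)⁻¹
    rw [inv_inv] at h1
    obtain ⟨i, hi⟩ := hNb _ h1
    rw [hi]
    exact zpow_mem (mem_zpowers _) i
  by_cases hTa : T ≤ zpowers a
  · -- the preimage of `Nb` is `⟨a⟩`
    have hcomap : Nb.comap (QuotientGroup.mk' T) = zpowers a := by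
      ext x
      rw [Subgroup.mem_comap]
      constructor
      · intro hx
        obtain ⟨i, hi⟩ := hNb _ hx
        have h1 : (a ^ i)⁻¹ * x ∈ T := by
          apply QuotientGroup.eq.mp
          rw [QuotientGroup.mk_zpow]
          exact hi.symm
        have h2 : x = a ^ i * ((a ^ i)⁻¹ * x) := by group
        rw [h2]
        exact mul_mem (zpow_mem (mem_zpowers a) i) (hTa h1)
      · intro hx
        obtain ⟨i, rfl⟩ := Subgroup.mem_zpowers_iff.mp hx
        rw [map_zpow]
        exact zpow_mem haNb i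
    have hNn : (zpowers a).Normal := by
      rw [← hcomap]
      exact hNbn.comap _
    refine ⟨zpowers a, hNn, inferInstance, ?_⟩
    refine ⟨⟨((b : R) : R ⧸ zpowers a), fun y => ?_⟩⟩
    induction y using QuotientGroup.induction_on with
    | H x =>
      obtain ⟨i, j, t, ht, rfl⟩ := exists_lift T a b hgen x
      refine ⟨j, ?_⟩
      show ((b : R) : R ⧸ zpowers a) ^ j = _
      have h1 : a ^ i * t ∈ zpowers a := mul_mem (zpow_mem (mem_zpowers a) i) (hTa ht)
      have h2 : ((a ^ i * t : R) : R ⧸ zpowers a) = 1 := (QuotientGroup.eq_one_iff _).mpr h1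
      rw [mul_assoc, QuotientGroup.mk_mul, h2, mul_one, QuotientGroup.mk_zpow]
  have hdisj : zpowers a ⊓ T = ⊥ := inf_eq_bot_of_prime_card T hTcard _ hTa
  have hder : commutator R ≤ T :=
    commutator_le_of_quotient_metacyclic hR T hTcard hTc hTD a b hgen hconj hdisj
  have hO : Nat.card (omega p R) ≤ p ^ 2 := hfin R hR hP T hTcard hTc hder
  have hmc : IsMulCommutative (R ⧸ T) :=
    Subgroup.Normal.quotient_commutative_iff_commutator_le.mpr hder
  have hcomm : ∀ x y : R ⧸ T, x * y = y * x := fun x y => hmc.is_comm.comm x y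
  -- compare the orders of `aT` and `bT`
  obtain ⟨α, hα⟩ := (hR.to_quotient T).exists_orderOf_eq_pow (a : R ⧸ T)
  obtain ⟨β, hβ⟩ := (hR.to_quotient T).exists_orderOf_eq_pow (b : R ⧸ T)
  rcases le_total β α with hle | hle
  · apply isMetacyclic_of_commutator_le hR hO T hTcard hder a b hgen
    rw [hα, hβ]
    exact pow_dvd_pow p hle
  · apply isMetacyclic_of_commutator_le hR hO T hTcard hder b a
    · intro y
      obtain ⟨i, j, rfl⟩ := hgen y
      exact ⟨j, i, hcomm _ _⟩
    · rw [hα, hβ]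
      exact pow_dvd_pow p hle

end Cfsg.Agent.Lib.Helper45_MetaLift
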