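import Mathlib
import Cfsg.Agent.Lib.Helper20_PGroupOdd
import Cfsg.Agent.Lib.Helper32_PGroup

/-!
# `p`-central `p`-groups (`p` odd)

A finite `p`-group `L` is `p`-central (`PCentral p L`) when every element of order dividing `p` is
central.  For odd `p`:

* `comm_pow`: if `x ^ p` is central then every commutator `x⁻¹ * (y⁻¹ * x * y)` has order
  dividing `p` (hence is central);
* `mul_pow_p`: then `(x * y) ^ p = x ^ p * y ^ p`;
* `omegaC`: the subgroup of elements of order dividing `p`; `powPre T`: the subgroup of all `x` with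
  `x ^ p ∈ T`, of order at most `|omegaC| * |T|`;
* `pcentral_quotient`: `L ⧸ omegaC` is again `p`-central;
* `index_mho_le`: the subgroup generated by the `p`-th powers has index at most `|omegaC|`.
-/

set_option autoImplicit false
set_option linter.unusedVariables false
set_option linter.unusedSectionVars false

namespace Cfsg.Agent.Lib.Helper45_PCentral

open Subgroup

universe u

/-- every element of order dividing `p` is central -/
def PCentral (p : ℕ) (L : Type*) [Group L] : Prop := ∀ a : L, a ^ p = 1 → a ∈ Subgroup.center L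

theorem PCentral.subgroup {p : ℕ} {L : Type*} [Group L] (hc : PCentral p L) (M : Subgroup L) :
    PCentral p M := by
  intro a ha
  have h1 : (a : L) ^ p = 1 := by
    have := congrArg Subtype.val ha
    simpa using this
  have h2 := hc _ h1
  rw [Subgroup.mem_center_iff] at h2 ⊢
  intro g
  apply Subtype.ext
  exact h2 g

section Comm

variable {p : ℕ} [hpf : Fact p.Prime]

theorem comm_pow_aux (hp2 : p ≠ 2) :
    ∀ (n : ℕ) (L : Type u) [Group L] [Finite L], Nat.card L = n → IsPGroup p L → PCentral p L →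
      ∀ x y : L, x ^ p ∈ Subgroup.center L → (x⁻¹ * (y⁻¹ * x * y)) ^ p = 1 := by
  have hpP : p.Prime := hpf.out
  intro n
  induction n using Nat.strong_induction_on with
  | _ n ih =>
  intro L _ _ hn hL hc x y hx
  by_cases htop : Subgroup.zpowers x = ⊤
  · have hy : y ∈ Subgroup.zpowers x := by rw [htop]; exact Subgroup.mem_top y
    obtain ⟨k, rfl⟩ := Subgroup.mem_zpowers_iff.mp hy
    have hcm : Commute (x ^ k) x := (Commute.refl x).zpow_left k
    have : (x ^ k)⁻¹ * x * x ^ k = x := by
      rw [mul_assoc, ← hcm.eq, inv_mul_cancel_left]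
    rw [this, inv_mul_cancel, one_pow]
  -- a normal subgroup of index `p` containing `x`
  obtain ⟨k, hk⟩ := IsPGroup.iff_card.mp hL
  obtain ⟨j, hj⟩ := IsPGroup.iff_card.mp (hL.to_subgroup (Subgroup.zpowers x))
  have hjk : j < k := by
    by_contra hcon
    push Not at hcon
    apply htop
    apply Subgroup.eq_top_of_card_eq
    have h1 : Nat.card (Subgroup.zpowers x) ∣ Nat.card L := Subgroup.card_subgroup_dvd_card _
    rw [hj, hk] at h1
    have h2 := (Nat.pow_dvd_pow_iff_le_right hpP.one_lt).mp h1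
    rw [hj, hk]
    congr 1
    omega
  have hk1 : 1 ≤ k := by omega
  obtain ⟨M, hMcard, hxM⟩ := Sylow.exists_subgroup_card_pow_prime_le p
    (n := j) (m := k - 1) (by rw [hk]; exact pow_dvd_pow p (by omega)) (Subgroup.zpowers x) hj
    (by omega)
  have hMidx : M.index = p := by
    have h1 := Subgroup.card_mul_index M
    rw [hMcard, hk] at h1
    have h2 : p ^ k = p ^ (k - 1) * p := by rw [← pow_succ]; congr 1; omega
    rw [h2] at h1
    exact Nat.eq_of_mul_eq_mul_left (pow_pos hpP.pos _) h1
  have hMn : M.Normal := by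
    apply Subgroup.normal_of_index_eq_minFac_card
    rw [hMidx, hk, Nat.Prime.pow_minFac hpP (by omega)]
  have hxM' : x ∈ M := hxM (Subgroup.mem_zpowers x)
  have huM : y⁻¹ * x * y ∈ M := by
    have := hMn.conj_mem x hxM' y⁻¹
    rwa [inv_inv] at this
  have hMlt : Nat.card M < n := by
    rw [hMcard, ← hn, hk]
    exact Nat.pow_lt_pow_right hpP.one_lt (by omega)
  have hxc : (⟨x, hxM'⟩ : M) ^ p ∈ Subgroup.center M := by
    rw [Subgroup.mem_center_iff]
    intro g
    apply Subtype.ext
    exact Subgroup.mem_center_iff.mp hx g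
  have key := ih _ hMlt M rfl (hL.to_subgroup M) (hc.subgroup M) ⟨x, hxM'⟩ ⟨y⁻¹ * x * y, huM⟩ hxc
  have key' : (x⁻¹ * ((y⁻¹ * x * y)⁻¹ * x * (y⁻¹ * x * y))) ^ p = 1 := by
    have := congrArg Subtype.val key
    simpa using this
  set u := y⁻¹ * x * y with hu
  set c := x⁻¹ * (u⁻¹ * x * u) with hcdef
  have hcc : c ∈ Subgroup.center L := hc c key'
  have hcomm : ∀ g, g * c = c * g := fun g => Subgroup.mem_center_iff.mp hcc g
  -- `u * x⁻¹ = c * x⁻¹ * u`
  have h2 : u * x * c = x * u := by rw [hcdef]; group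
  have h3 : c * (u * x) = x * u := by rw [← hcomm]; exact h2
  have h1 : u * x⁻¹ = c * x⁻¹ * u := by
    have h4 : u * x⁻¹ = x⁻¹ * (x * u) * x⁻¹ := by group
    rw [h4, ← h3, ← mul_assoc x⁻¹ c, hcomm x⁻¹]
    group
  have h5 := Cfsg.Agent.Lib.Helper20_PGroupOdd.mul_pow_prime_of_comm hpP hp2 h1
    (hcomm x⁻¹).symm (hcomm u).symm key'
  rw [h5]
  have h6 : u ^ p = x ^ p := by
    have h7 : u ^ p = y⁻¹ * x ^ p * y := by
      have := conj_pow (a := y⁻¹) (b := x) (i := p)
      simpa using this
    rw [h7, Subgroup.mem_center_iff.mp hx y⁻¹, mul_assoc, inv_mul_cancel, mul_one]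
  rw [h6, inv_pow, inv_mul_cancel]

variable {L : Type u} [Group L] [Finite L]

/-- in a `p`-central `p`-group (`p` odd) an element whose `p`-th power is central has all its
commutators of order dividing `p` -/
theorem comm_pow (hp2 : p ≠ 2) (hL : IsPGroup p L) (hc : PCentral p L) (x y : L)
    (hx : x ^ p ∈ Subgroup.center L) : (x⁻¹ * (y⁻¹ * x * y)) ^ p = 1 :=
  comm_pow_aux hp2 (Nat.card L) L rfl hL hc x y hx

theorem comm_mem_center (hp2 : p ≠ 2) (hL : IsPGroup p L) (hc : PCentral p L) (x y : L)
    (hx : x ^ p ∈ Subgroup.center L) : x⁻¹ * (y⁻¹ * x * y) ∈ Subgroup.center L :=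
  hc _ (comm_pow hp2 hL hc x y hx)

/-- the `p`-th power map is multiplicative as soon as one `p`-th power is central -/
theorem mul_pow_p (hp2 : p ≠ 2) (hL : IsPGroup p L) (hc : PCentral p L) (x y : L)
    (hx : x ^ p ∈ Subgroup.center L) : (x * y) ^ p = x ^ p * y ^ p := by
  have hpP : p.Prime := hpf.out
  have h1 := comm_pow hp2 hL hc x y⁻¹ hx
  rw [inv_inv] at h1
  set c := x⁻¹ * (y * x * y⁻¹) with hcdef
  have hcc : c ∈ Subgroup.center L := hc c h1
  have hcomm : ∀ g, g * c = c * g := fun g => Subgroup.mem_center_iff.mp hcc g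
  have h2 : y * x = c * x * y := by
    have h3 : y * x = x * c * y := by rw [hcdef]; group
    rw [h3, hcomm x]
  exact Cfsg.Agent.Lib.Helper20_PGroupOdd.mul_pow_prime_of_comm hpP hp2 h2
    (hcomm x).symm (hcomm y).symm h1

omit [Finite L] hpf in
/-- the elements of order dividing `p` of a `p`-central group -/
def omegaC (hc : PCentral p L) : Subgroup L where
  carrier := {a | a ^ p = 1}
  mul_mem' := by
    intro a b ha hb
    have h1 : Commute a b := (Subgroup.mem_center_iff.mp (hc b hb) a)
    show (a * b) ^ p = 1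
    rw [h1.mul_pow, show a ^ p = 1 from ha, show b ^ p = 1 from hb, one_mul]
  one_mem' := one_pow p
  inv_mem' := by
    intro a ha
    show a⁻¹ ^ p = 1
    rw [inv_pow, show a ^ p = 1 from ha, inv_one]

omit [Finite L] hpf in
theorem mem_omegaC (hc : PCentral p L) {a : L} : a ∈ omegaC hc ↔ a ^ p = 1 := Iff.rfl

omit [Finite L] hpf in
theorem omegaC_le_center (hc : PCentral p L) : omegaC hc ≤ Subgroup.center L :=
  fun a ha => hc a ha

omit [Finite L] hpf in
instance omegaC_normal (hc : PCentral p L) : (omegaC hc).Normal :=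
  Cfsg.Agent.Lib.Helper32_PGroup.normal_of_le_center _ (omegaC_le_center hc)

/-- the elements whose `p`-th power lies in a subgroup `T` of exponent `p` -/
def powPre (hp2 : p ≠ 2) (hL : IsPGroup p L) (hc : PCentral p L) (T : Subgroup L)
    (hT : ∀ t ∈ T, t ^ p = 1) : Subgroup L where
  carrier := {x | x ^ p ∈ T}
  mul_mem' := by
    intro a b ha hb
    show (a * b) ^ p ∈ T
    rw [mul_pow_p hp2 hL hc a b (hc _ (hT _ ha))]
    exact T.mul_mem ha hb
  one_mem' := by
    show (1 : L) ^ p ∈ T
    rw [one_pow]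
    exact T.one_mem
  inv_mem' := by
    intro a ha
    show a⁻¹ ^ p ∈ T
    rw [inv_pow]
    exact T.inv_mem ha

theorem mem_powPre (hp2 : p ≠ 2) (hL : IsPGroup p L) (hc : PCentral p L) (T : Subgroup L)
    (hT : ∀ t ∈ T, t ^ p = 1) {x : L} : x ∈ powPre hp2 hL hc T hT ↔ x ^ p ∈ T := Iff.rfl

/-- the `p`-th power homomorphism on `powPre T` -/
def powHom (hp2 : p ≠ 2) (hL : IsPGroup p L) (hc : PCentral p L) (T : Subgroup L)
    (hT : ∀ t ∈ T, t ^ p = 1) : ↥(powPre hp2 hL hc T hT) →* ↥T where
  toFun x := ⟨(x : L) ^ p, x.2⟩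
  map_one' := by
    apply Subtype.ext
    simp
  map_mul' := by
    intro a b
    apply Subtype.ext
    show ((a : L) * (b : L)) ^ p = (a : L) ^ p * (b : L) ^ p
    exact mul_pow_p hp2 hL hc _ _ (hc _ (hT _ a.2))

theorem card_powPre_le (hp2 : p ≠ 2) (hL : IsPGroup p L) (hc : PCentral p L) (T : Subgroup L)
    (hT : ∀ t ∈ T, t ^ p = 1) :
    Nat.card (powPre hp2 hL hc T hT) ≤ Nat.card (omegaC hc) * Nat.card T := by
  set θ := powHom hp2 hL hc T hT with hθ
  have h1 : Nat.card (powPre hp2 hL hc T hT) = Nat.card θ.ker * Nat.card θ.range := by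
    have h2 := Subgroup.card_eq_card_quotient_mul_card_subgroup θ.ker
    rw [h2, Nat.card_congr (QuotientGroup.quotientKerEquivRange θ).toEquiv, mul_comm]
  rw [h1]
  apply Nat.mul_le_mul
  · -- the kernel embeds in `omegaC`
    have hinj : Function.Injective (fun x : θ.ker => (⟨((x : ↥(powPre hp2 hL hc T hT)) : L), by
        have h3 := x.2
        rw [MonoidHom.mem_ker] at h3
        have h4 := congrArg Subtype.val h3
        exact h4⟩ : omegaC hc)) := by
      intro a b hab
      apply Subtype.ext
      apply Subtype.ext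
      have := congrArg (fun t : omegaC hc => (t : L)) hab
      exact this
    exact Nat.card_le_card_of_injective _ hinj
  · exact Subgroup.card_le_card_group _

theorem one_lt_card_omegaC [Nontrivial L] (hL : IsPGroup p L) (hc : PCentral p L) :
    1 < Nat.card (omegaC hc) := by
  have hpP : p.Prime := hpf.out
  obtain ⟨g, hg⟩ := exists_ne (1 : L)
  obtain ⟨k, hk⟩ := hL.exists_orderOf_eq_pow g
  have hk0 : k ≠ 0 := by
    rintro rfl
    rw [pow_zero, orderOf_eq_one_iff] at hk
    exact hg hk
  have ho : orderOf (g ^ p ^ (k - 1)) = p := by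
    rw [orderOf_pow' g (pow_ne_zero _ hpP.ne_zero), hk, Nat.gcd_eq_right (pow_dvd_pow p (by omega))]
    have : p ^ k = p ^ (k - 1) * p := by rw [← pow_succ]; congr 1; omega
    rw [this, Nat.mul_div_cancel_left _ (pow_pos hpP.pos _)]
  have hmem : g ^ p ^ (k - 1) ∈ omegaC hc := by
    rw [mem_omegaC]
    have h4 := pow_orderOf_eq_one (g ^ p ^ (k - 1))
    rwa [ho] at h4
  have hne : g ^ p ^ (k - 1) ≠ 1 := by
    intro h
    have h5 : orderOf (g ^ p ^ (k - 1)) = 1 := by rw [h]; exact orderOf_one
    rw [ho] at h5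
    exact hpP.one_lt.ne' h5
  have : Nontrivial (omegaC hc) := ⟨⟨⟨_, hmem⟩, 1, fun h => hne (congrArg Subtype.val h)⟩⟩
  exact Finite.one_lt_card

/-- the quotient of a `p`-central group by its elements of order dividing `p` is `p`-central -/
theorem pcentral_quotient (hp2 : p ≠ 2) (hL : IsPGroup p L) (hc : PCentral p L) :
    PCentral p (L ⧸ omegaC hc) := by
  intro a ha
  induction a using QuotientGroup.induction_on with
  | H x =>
    have h1 : x ^ p ∈ omegaC hc := by
      rw [← QuotientGroup.eq_one_iff, QuotientGroup.mk_pow]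
      exact ha
    have hx : x ^ p ∈ Subgroup.center L := omegaC_le_center hc h1
    rw [Subgroup.mem_center_iff]
    intro g
    induction g using QuotientGroup.induction_on with
    | H y =>
      rw [← QuotientGroup.mk_mul, ← QuotientGroup.mk_mul]
      apply QuotientGroup.eq.mpr
      -- `(y * x)⁻¹ * (x * y) = x⁻¹ * y⁻¹ * x * y`
      have h2 := comm_pow hp2 hL hc x y hx
      have h3 : (y * x)⁻¹ * (x * y) = x⁻¹ * (y⁻¹ * x * y) := by group
      rw [h3]
      exact h2

end Comm

/-! ### the subgroup generated by the `p`-th powers -/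

/-- the subgroup generated by the `p`-th powers -/
def mho (p : ℕ) (L : Type*) [Group L] : Subgroup L := Subgroup.closure {y : L | ∃ x : L, x ^ p = y}

theorem pow_mem_mho {p : ℕ} {L : Type*} [Group L] (x : L) : x ^ p ∈ mho p L :=
  Subgroup.subset_closure ⟨x, rfl⟩

instance mho_normal (p : ℕ) (L : Type*) [Group L] : (mho p L).Normal := by
  constructor
  intro n hn g
  have hle : (mho p L).map (MulAut.conj g).toMonoidHom ≤ mho p L := by
    unfold mho
    rw [MonoidHom.map_closure, Subgroup.closure_le]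
    rintro _ ⟨_, ⟨x, rfl⟩, rfl⟩
    apply Subgroup.subset_closure
    refine ⟨g * x * g⁻¹, ?_⟩
    simp [conj_pow]
  exact hle ⟨n, hn, rfl⟩

theorem map_mho {p : ℕ} {L L' : Type*} [Group L] [Group L'] (f : L →* L')
    (hf : Function.Surjective f) : (mho p L).map f = mho p L' := by
  unfold mho
  rw [MonoidHom.map_closure]
  congr 1
  ext y
  constructor
  · rintro ⟨_, ⟨x, rfl⟩, rfl⟩
    exact ⟨f x, by rw [map_pow]⟩
  · rintro ⟨x', rfl⟩
    obtain ⟨x, rfl⟩ := hf x'
    exact ⟨x ^ p, ⟨x, rfl⟩, by rw [map_pow]⟩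

theorem card_mul_relIndex'' {G : Type*} [Group G] {M N : Subgroup G} (hM : M ≤ N) :
    Nat.card M * M.relIndex N = Nat.card N := by
  have := Subgroup.relIndex_mul_relIndex (H := (⊥ : Subgroup G)) (K := M) (L := N) bot_le hM
  simpa [Subgroup.relIndex_bot_left] using this

/-- product formula for a subgroup and a normal subgroup -/
theorem card_sup_mul_card_inf' {G : Type*} [Group G] (K N : Subgroup G) [N.Normal] :
    Nat.card ↥(K ⊔ N) * Nat.card ↥(K ⊓ N) = Nat.card K * Nat.card N := by
  have h0 : N.relIndex (K ⊔ N) = N.relIndex K := Subgroup.relIndex_sup_right K N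
  have h1 := card_mul_relIndex'' (le_sup_right : N ≤ K ⊔ N)
  have h2 := card_mul_relIndex'' (inf_le_right : N ⊓ K ≤ K)
  rw [Subgroup.inf_relIndex_right] at h2
  rw [h0] at h1
  rw [inf_comm K N, ← h1, ← h2]
  ring

section MhoIndex

variable {p : ℕ} [hpf : Fact p.Prime]

/-- in a `p`-central `p`-group (`p` odd) the `p`-th powers generate a subgroup of index at most
the number of elements of order dividing `p` -/
theorem card_le_mul_card_mho_aux (hp2 : p ≠ 2) :
    ∀ (n : ℕ) (L : Type u) [Group L] [Finite L], Nat.card L = n → IsPGroup p L →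
      ∀ hc : PCentral p L, Nat.card L ≤ Nat.card (omegaC hc) * Nat.card (mho p L) := by
  have hpP : p.Prime := hpf.out
  intro n
  induction n using Nat.strong_induction_on with
  | _ n ih =>
  intro L _ _ hn hL hc
  by_cases hnt : Nontrivial L
  swap
  · rw [not_nontrivial_iff_subsingleton] at hnt
    have h1 : Nat.card L = 1 := Nat.card_unique
    rw [h1]
    exact Nat.mul_pos Nat.card_pos Nat.card_pos
  set E := omegaC hc with hE
  have hE1 : 1 < Nat.card E := one_lt_card_omegaC hL hc
  have hQcard : Nat.card (L ⧸ E) * Nat.card E = Nat.card L :=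
    (Subgroup.card_eq_card_quotient_mul_card_subgroup E).symm
  have hQlt : Nat.card (L ⧸ E) < n := by
    rw [← hn, ← hQcard]
    have : 0 < Nat.card (L ⧸ E) := Nat.card_pos
    nlinarith
  have hcQ : PCentral p (L ⧸ E) := pcentral_quotient hp2 hL hc
  have key := ih _ hQlt (L ⧸ E) rfl (hL.to_quotient E) hcQ
  have hsurj : Function.Surjective (QuotientGroup.mk' E) := QuotientGroup.mk'_surjective E
  have hEexp : ∀ t ∈ E, t ^ p = 1 := fun t ht => ht
  set W := powPre hp2 hL hc E hEexp with hW
  -- (a)
  have ha : Nat.card (omegaC hcQ) * Nat.card E = Nat.card W := by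
    have h1 : (omegaC hcQ).comap (QuotientGroup.mk' E) = W := by
      ext x
      rw [Subgroup.mem_comap, mem_omegaC, hW, mem_powPre, QuotientGroup.mk'_apply,
        ← QuotientGroup.mk_pow, QuotientGroup.eq_one_iff]
    have h2 := Subgroup.index_comap_of_surjective (omegaC hcQ) hsurj
    rw [h1] at h2
    have h3 := Subgroup.card_mul_index W
    have h4 := Subgroup.card_mul_index (omegaC hcQ)
    rw [h2] at h3
    have h5 : 0 < (omegaC hcQ).index := Nat.pos_of_ne_zero Subgroup.index_ne_zero_of_finite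
    apply Nat.eq_of_mul_eq_mul_right h5
    rw [h3, ← hQcard, ← h4]
    ring
  -- (b)
  have hb : Nat.card (mho p (L ⧸ E)) * Nat.card E = Nat.card ↥(mho p L ⊔ E) := by
    have h1 : (mho p (L ⧸ E)).comap (QuotientGroup.mk' E) = mho p L ⊔ E := by
      rw [← map_mho (QuotientGroup.mk' E) hsurj, Subgroup.comap_map_eq, QuotientGroup.ker_mk']
    have h2 := Subgroup.index_comap_of_surjective (mho p (L ⧸ E)) hsurj
    rw [h1] at h2
    have h3 := Subgroup.card_mul_index (mho p L ⊔ E)
    have h4 := Subgroup.card_mul_index (mho p (L ⧸ E))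
    rw [h2] at h3
    have h5 : 0 < (mho p (L ⧸ E)).index := Nat.pos_of_ne_zero Subgroup.index_ne_zero_of_finite
    apply Nat.eq_of_mul_eq_mul_right h5
    rw [h3, ← hQcard, ← h4]
    ring
  -- (c)
  have hcc := card_sup_mul_card_inf' (mho p L) E
  -- (d)
  have hd : Nat.card W ≤ Nat.card E * Nat.card ↥(mho p L ⊓ E) := by
    set θ := powHom hp2 hL hc E hEexp with hθ
    have h1 : Nat.card W = Nat.card θ.ker * Nat.card θ.range := by
      have h2 := Subgroup.card_eq_card_quotient_mul_card_subgroup θ.ker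
      rw [h2, Nat.card_congr (QuotientGroup.quotientKerEquivRange θ).toEquiv, mul_comm]
    rw [h1]
    apply Nat.mul_le_mul
    · have hinj : Function.Injective (fun x : θ.ker => (⟨((x : ↥W) : L), by
          have h3 := x.2
          rw [MonoidHom.mem_ker] at h3
          have h4 := congrArg Subtype.val h3
          exact h4⟩ : E)) := by
        intro a b hab
        apply Subtype.ext
        apply Subtype.ext
        have := congrArg (fun t : E => (t : L)) hab
        exact this
      exact Nat.card_le_card_of_injective _ hinj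
    · have hinj : Function.Injective (fun x : θ.range => (⟨((x : ↥E) : L), by
          obtain ⟨w, hw⟩ := x.2
          refine ⟨?_, (x : ↥E).2⟩
          rw [← hw]
          exact pow_mem_mho _⟩ : ↥(mho p L ⊓ E))) := by
        intro a b hab
        apply Subtype.ext
        apply Subtype.ext
        have := congrArg (fun t : ↥(mho p L ⊓ E) => (t : L)) hab
        exact this
      exact Nat.card_le_card_of_injective _ hinj
  -- combine
  have hpos : 0 < Nat.card E * Nat.card ↥(mho p L ⊓ E) := Nat.mul_pos Nat.card_pos Nat.card_pos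
  apply Nat.le_of_mul_le_mul_right _ hpos
  calc Nat.card L * (Nat.card E * Nat.card ↥(mho p L ⊓ E))
      = Nat.card (L ⧸ E) * (Nat.card E * Nat.card E * Nat.card ↥(mho p L ⊓ E)) := by
        rw [← hQcard]; ring
    _ ≤ (Nat.card (omegaC hcQ) * Nat.card (mho p (L ⧸ E))) *
          (Nat.card E * Nat.card E * Nat.card ↥(mho p L ⊓ E)) := Nat.mul_le_mul_right _ key
    _ = (Nat.card (omegaC hcQ) * Nat.card E) * ((Nat.card (mho p (L ⧸ E)) * Nat.card E) *
          Nat.card ↥(mho p L ⊓ E)) := by ring
    _ = Nat.card W * (Nat.card (mho p L) * Nat.card E) := by rw [ha, hb, hcc]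
    _ ≤ (Nat.card E * Nat.card ↥(mho p L ⊓ E)) * (Nat.card (mho p L) * Nat.card E) :=
        Nat.mul_le_mul_right _ hd
    _ = Nat.card E * Nat.card (mho p L) * (Nat.card E * Nat.card ↥(mho p L ⊓ E)) := by ring

theorem card_le_mul_card_mho {L : Type u} [Group L] [Finite L] (hp2 : p ≠ 2) (hL : IsPGroup p L)
    (hc : PCentral p L) : Nat.card L ≤ Nat.card (omegaC hc) * Nat.card (mho p L) :=
  card_le_mul_card_mho_aux hp2 (Nat.card L) L rfl hL hc

theorem index_mho_le {L : Type u} [Group L] [Finite L] (hp2 : p ≠ 2) (hL : IsPGroup p L)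
    (hc : PCentral p L) : (mho p L).index ≤ Nat.card (omegaC hc) := by
  have h1 := card_le_mul_card_mho hp2 hL hc
  have h2 := Subgroup.card_mul_index (mho p L)
  rw [← h2] at h1
  have h3 : 0 < Nat.card (mho p L) := Nat.card_pos
  rw [mul_comm (Nat.card (omegaC hc))] at h1
  exact Nat.le_of_mul_le_mul_left h1 h3

end MhoIndex

end Cfsg.Agent.Lib.Helper45_PCentral
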