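import Mathlib
import Cfsg.Prelude.Def_OddOrderLocal
import Cfsg.Agent.Lib.Helper45_PCentral
import Cfsg.Agent.Lib.Helper45_MetaLift
import Cfsg.Agent.Lib.Helper20_PGroupOdd

/-!
# Two metacyclicity criteria for `p`-groups, `p` odd

* `isMetacyclic_of_index_mho`: if the `p`-th powers generate a subgroup of index at most `p²`
  then the group is metacyclic (Huppert III.11.4);
* `isMetacyclic_of_pcentral`: a `p`-central `p`-group with at most `p²` elements of order dividing
  `p` is metacyclic.
-/

set_option autoImplicit false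
set_option linter.unusedVariables false
set_option linter.unusedSectionVars false

namespace Cfsg.Agent.Lib.Helper45_Agemo

open Cfsg Subgroup Cfsg.Agent.Lib.Helper2_OmegaTwo Cfsg.Agent.Lib.Helper45_PCentral
  Cfsg.Agent.Lib.Helper45_MetaLift

universe u

variable {p : ℕ} [hpf : Fact p.Prime]

/-- the index of `mho` does not grow in quotients -/
theorem index_mho_quotient_le {R : Type*} [Group R] [Finite R] (T : Subgroup R) [T.Normal] :
    (mho p (R ⧸ T)).index ≤ (mho p R).index := by
  have hsurj : Function.Surjective (QuotientGroup.mk' T) := QuotientGroup.mk'_surjective T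
  have h1 : (mho p (R ⧸ T)).comap (QuotientGroup.mk' T) = mho p R ⊔ T := by
    rw [← map_mho (QuotientGroup.mk' T) hsurj, Subgroup.comap_map_eq, QuotientGroup.ker_mk']
  have h2 := Subgroup.index_comap_of_surjective (mho p (R ⧸ T)) hsurj
  rw [h1] at h2
  rw [← h2]
  exact Nat.le_of_dvd (Nat.pos_of_ne_zero Subgroup.index_ne_zero_of_finite)
    (Subgroup.index_dvd_of_le le_sup_left)

/-- if the derived subgroup lies in a central subgroup of order `p` (`p` odd) then the number of
elements of order dividing `p` is the index of `mho` -/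
theorem card_omega_le_index_mho {R : Type*} [Group R] [Finite R] (hp2 : p ≠ 2)
    (T : Subgroup R) (hT : Nat.card T = p) (hTc : T ≤ center R) (hder : commutator R ≤ T) :
    Nat.card (omega p R) ≤ (mho p R).index := by
  have hpP : p.Prime := hpf.out
  have hmul : ∀ x y : R, (x * y) ^ p = x ^ p * y ^ p := by
    intro x y
    have hcT : y * x * y⁻¹ * x⁻¹ ∈ T := by
      apply hder
      rw [commutator_def]
      have := Subgroup.commutator_mem_commutator (Subgroup.mem_top y) (Subgroup.mem_top x)
      rwa [commutatorElement_def] at this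
    have hcc := hTc hcT
    have hcomm : ∀ g, g * (y * x * y⁻¹ * x⁻¹) = (y * x * y⁻¹ * x⁻¹) * g :=
      fun g => Subgroup.mem_center_iff.mp hcc g
    have hcp : (y * x * y⁻¹ * x⁻¹) ^ p = 1 :=
      Cfsg.Agent.Lib.Helper2_OmegaMeta.pow_eq_one_of_prime_card T hT hcT
    have h2 : y * x = (y * x * y⁻¹ * x⁻¹) * x * y := by group
    exact Cfsg.Agent.Lib.Helper20_PGroupOdd.mul_pow_prime_of_comm hpP hp2 h2
      (hcomm x).symm (hcomm y).symm hcp
  let θ : R →* R :=
    { toFun := fun x => x ^ p
      map_one' := one_pow p
      map_mul' := hmul }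
  have hker : omega p R = θ.ker := by
    apply le_antisymm
    · unfold omega
      rw [Subgroup.closure_le]
      intro x hx
      exact hx
    · intro x hx
      exact mem_omega hx
  have hrange : mho p R ≤ θ.range := by
    unfold mho
    rw [Subgroup.closure_le]
    rintro _ ⟨x, rfl⟩
    exact ⟨x, rfl⟩
  have h1 : Nat.card R = Nat.card θ.ker * Nat.card θ.range := by
    have h2 := Subgroup.card_eq_card_quotient_mul_card_subgroup θ.ker
    rw [h2, Nat.card_congr (QuotientGroup.quotientKerEquivRange θ).toEquiv, mul_comm]
  have h3 := Subgroup.card_mul_index (mho p R)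
  have h4 : Nat.card (mho p R) ≤ Nat.card θ.range := Subgroup.card_le_of_le hrange
  rw [hker]
  have h5 : 0 < Nat.card (mho p R) := Nat.card_pos
  have h6 : Nat.card θ.ker * Nat.card (mho p R) ≤ (mho p R).index * Nat.card (mho p R) := by
    calc Nat.card θ.ker * Nat.card (mho p R) ≤ Nat.card θ.ker * Nat.card θ.range :=
          Nat.mul_le_mul_left _ h4
      _ = Nat.card R := h1.symm
      _ = (mho p R).index * Nat.card (mho p R) := by rw [← h3]; ring
  exact Nat.le_of_mul_le_mul_right h6 h5

/-- **Huppert III.11.4**: for `p` odd, a `p`-group in which the `p`-th powers generate a subgroup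
of index at most `p²` is metacyclic -/
theorem isMetacyclic_of_index_mho {R : Type u} [Group R] [Finite R] (hp2 : p ≠ 2)
    (hR : IsPGroup p R) (h : (mho p R).index ≤ p ^ 2) : IsMetacyclic R := by
  refine isMetacyclic_of_hereditary (p := p) (fun R _ => (mho p R).index ≤ p ^ 2) ?_ ?_
    (Nat.card R) R rfl hR h
  · intro R _ _ hR hP _ T _ _ _ _
    exact le_trans (index_mho_quotient_le T) hP
  · intro R _ _ hR hP T _ hT hTc hder
    exact le_trans (card_omega_le_index_mho hp2 T hT hTc hder) hP

/-- for `p` odd, a `p`-central `p`-group with at most `p²` elements of order dividing `p` is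
metacyclic -/
theorem isMetacyclic_of_pcentral {L : Type u} [Group L] [Finite L] (hp2 : p ≠ 2)
    (hL : IsPGroup p L) (hc : PCentral p L) (h : Nat.card (omegaC hc) ≤ p ^ 2) :
    IsMetacyclic L :=
  isMetacyclic_of_index_mho hp2 hL (le_trans (index_mho_le hp2 hL hc) h)

end Cfsg.Agent.Lib.Helper45_Agemo
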