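import Mathlib
import Cfsg.Agent.Lib.Helper75_BRDefs
import Cfsg.Agent.Lib.Helper78_CentralNilp
import Cfsg.Agent.Lib.Helper78_CharFacts

set_option autoImplicit false

/-!
# S4607 (Brandt) package A5 (MU), architect helper75: lifting a full set of matrix units along a
surjection onto a matrix algebra whose kernel consists of nilpotent elements.
-/

namespace Cfsg.Agent.Lib.Helper45_BR_A5MU

open Cfsg Cfsg.Agent.Lib.Helper78_LocalRing Cfsg.Agent.Lib.Helper78_GroupRing
  Cfsg.Agent.Lib.Helper79_Residue Cfsg.Agent.Lib.Helper75_BRDefs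

universe u v w

section A

variable {F : Type v} [Field F] {R : Type w} [Ring R] [Algebra F R]

/-- the diagonal matrix units form a complete system of orthogonal idempotents -/
theorem diag_units_complete (n : ℕ) :
    CompleteOrthogonalIdempotents
      (fun i : Fin n => (Matrix.single i i (1 : F) : Matrix (Fin n) (Fin n) F)) := by
  refine ⟨⟨fun i => ?_, fun i j hij => ?_⟩, ?_⟩
  · show Matrix.single i i (1 : F) * Matrix.single i i (1 : F) = Matrix.single i i (1 : F)
    rw [Matrix.single_mul_single_same, mul_one]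
  · show Matrix.single i i (1 : F) * Matrix.single j j (1 : F) = 0
    exact Matrix.single_mul_single_of_ne _ _ _ _ hij _
  · exact Matrix.sum_single_one

/-- one pair `(u, v)` of off-diagonal units over lifted idempotents `e z`, `e i` -/
theorem exists_unit_pair {n : ℕ} (π : R →ₐ[F] Matrix (Fin n) (Fin n) F)
    (hπ : Function.Surjective π) (hnil : ∀ x, π x = 0 → IsNilpotent x)
    (ei ez : R) (i z : Fin n) (hei : IsIdempotentElem ei) (hez : IsIdempotentElem ez)
    (hπi : π ei = Matrix.single i i 1) (hπz : π ez = Matrix.single z z 1) :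
    ∃ u v : R, ei * u = u ∧ u * ez = u ∧ ez * v = v ∧ v * ei = v ∧ v * u = ez ∧ u * v = ei := by
  obtain ⟨r, hr⟩ := hπ (Matrix.single i z 1)
  obtain ⟨r', hr'⟩ := hπ (Matrix.single z i 1)
  obtain ⟨ut, hut⟩ : ∃ ut : R, ut = ei * r * ez := ⟨_, rfl⟩
  obtain ⟨vt, hvt⟩ : ∃ vt : R, vt = ez * r' * ei := ⟨_, rfl⟩
  have hπut : π ut = Matrix.single i z 1 := by
    rw [hut, map_mul, map_mul, hπi, hπz, hr, Matrix.single_mul_single_same,
      Matrix.single_mul_single_same, mul_one, mul_one]
  have hπvt : π vt = Matrix.single z i 1 := by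
    rw [hvt, map_mul, map_mul, hπi, hπz, hr', Matrix.single_mul_single_same,
      Matrix.single_mul_single_same, mul_one, mul_one]
  have heiut : ei * ut = ut := by rw [hut, ← mul_assoc, ← mul_assoc, hei.eq]
  have hutez : ut * ez = ut := by rw [hut, mul_assoc, hez.eq]
  have hezvt : ez * vt = vt := by rw [hvt, ← mul_assoc, ← mul_assoc, hez.eq]
  have hvtei : vt * ei = vt := by rw [hvt, mul_assoc, hei.eq]
  obtain ⟨j, hj⟩ : ∃ j : R, j = ez - vt * ut := ⟨_, rfl⟩
  have hπj : π j = 0 := by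
    rw [hj, map_sub, map_mul, hπut, hπvt, hπz, Matrix.single_mul_single_same, mul_one, sub_self]
  obtain ⟨m, hm⟩ := hnil j hπj
  have hezj : ez * j = j := by
    rw [hj, mul_sub, hez.eq, ← mul_assoc, hezvt]
  have hjez : j * ez = j := by
    rw [hj, sub_mul, hez.eq, mul_assoc, hutez]
  have hcomm : Commute ez j := by
    show ez * j = j * ez
    rw [hezj, hjez]
  obtain ⟨s, hs⟩ : ∃ s : R, s = ∑ k ∈ Finset.range m, j ^ k := ⟨_, rfl⟩
  have hs1 : s * (1 - j) = 1 := by
    rw [hs, geom_sum_mul_neg, hm, sub_zero]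
  have hcs : Commute ez s := by
    rw [hs]
    exact Commute.sum_right _ _ _ (fun k _ => hcomm.pow_right k)
  have hπs : π s = 1 := by
    have h := congrArg π hs1
    rwa [map_mul, map_sub, map_one, hπj, sub_zero, mul_one] at h
  have hvu : vt * ut = ez * (1 - j) := by
    rw [mul_sub, mul_one, hezj, hj, sub_sub_cancel]
  have hvu' : ez * s * vt * ut = ez := by
    rw [mul_assoc (ez * s), hvu, mul_assoc ez s, ← mul_assoc s ez, ← hcs.eq, mul_assoc ez s,
      hs1, mul_one, hez.eq]
  refine ⟨ut, ez * s * vt, heiut, hutez, ?_, ?_, hvu', ?_⟩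
  · rw [← mul_assoc, ← mul_assoc, hez.eq]
  · rw [mul_assoc (ez * s), hvtei]
  · -- u * v = ei
    obtain ⟨q, hq⟩ : ∃ q : R, q = ut * (ez * s * vt) := ⟨_, rfl⟩
    have hqq : IsIdempotentElem q := by
      show q * q = q
      rw [hq, mul_assoc ut, ← mul_assoc (ez * s * vt) ut, hvu', ← mul_assoc ez, ← mul_assoc ez,
        hez.eq]
    have heq : ei * q = q := by
      rw [hq, ← mul_assoc, heiut]
    have hqe : q * ei = q := by
      rw [hq, mul_assoc ut, mul_assoc (ez * s), hvtei]
    have hπq : π q = Matrix.single i i 1 := by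
      rw [hq, map_mul, map_mul, map_mul, hπut, hπvt, hπz, hπs, mul_one,
        Matrix.single_mul_single_same, Matrix.single_mul_single_same, mul_one, mul_one]
    have hnq : IsNilpotent (ei - q) := by
      apply hnil
      rw [map_sub, hπi, hπq, sub_self]
    have hc : Commute ei q := by
      show ei * q = q * ei
      rw [heq, hqe]
    rw [← hq]
    exact (eq_of_isNilpotent_sub_of_isIdempotentElem_of_commute hei hqq hnq hc).symm

/-- **A5 (MU)**. Lifting a full set of matrix units along a surjection with nil kernel. -/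
theorem exists_matrix_units {n : ℕ} (hn : 0 < n) (π : R →ₐ[F] Matrix (Fin n) (Fin n) F)
    (hπ : Function.Surjective π) (hnil : ∀ x, π x = 0 → IsNilpotent x) :
    ∃ e u v : Fin n → R, CompleteOrthogonalIdempotents e ∧
      (∀ i, π (e i) = Matrix.single i i 1) ∧
      (∀ i, e i * u i = u i) ∧ (∀ i, u i * e ⟨0, hn⟩ = u i) ∧
      (∀ i, e ⟨0, hn⟩ * v i = v i) ∧ (∀ i, v i * e i = v i) ∧
      (∀ i, v i * u i = e ⟨0, hn⟩) ∧ (∀ i, u i * v i = e i) := by
  obtain ⟨e, he, hπe⟩ := CompleteOrthogonalIdempotents.lift_of_isNilpotent_ker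
    (π : R →+* Matrix (Fin n) (Fin n) F) (fun x hx => hnil x hx) (diag_units_complete (F := F) n)
    (fun i => ⟨_, (hπ _).choose_spec⟩)
  have hπe' : ∀ i, π (e i) = Matrix.single i i 1 := fun i => congrFun hπe i
  have key : ∀ i, ∃ u v : R, e i * u = u ∧ u * e ⟨0, hn⟩ = u ∧ e ⟨0, hn⟩ * v = v ∧ v * e i = v ∧
      v * u = e ⟨0, hn⟩ ∧ u * v = e i := fun i =>
    exists_unit_pair π hπ hnil (e i) (e ⟨0, hn⟩) i ⟨0, hn⟩ (he.idem i) (he.idem _) (hπe' i) (hπe' _)
  choose u v h1 h2 h3 h4 h5 h6 using key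
  exact ⟨e, u, v, he, hπe', h1, h2, h3, h4, h5, h6⟩

end A

end Cfsg.Agent.Lib.Helper45_BR_A5MU
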