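import Mathlib

/-!
# The isomorphism of `Helper31_D4_ABSTRACT.ABSTRACT`, with its values: `e (θ s) = [φ s]`
-/

set_option autoImplicit false

namespace Cfsg.Agent.Lib.Helper45_D4AbsExplicit

theorem ABSTRACT_explicit {S G E' : Type*} [Group S] [Group G] [Group E'] [IsSimpleGroup G]
    (hG : ∃ x y : G, x * y ≠ y * x)
    (θ : S →* G) (hθ : Function.Surjective θ) (hker : θ.ker = Subgroup.center S)
    (φ : S →* E') (hφ : Function.Surjective φ) (hE : ∃ x y : E', x * y ≠ y * x) :
    ∃ e : G ≃* E' ⧸ Subgroup.center E', ∀ s : S, e (θ s) = QuotientGroup.mk' (Subgroup.center E') (φ s) := by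
  -- the centre of `G` is trivial
  have hcG : Subgroup.center G = ⊥ := by
    rcases (inferInstance : (Subgroup.center G).Normal).eq_bot_or_eq_top with h | h
    · exact h
    · exfalso
      obtain ⟨x, y, hxy⟩ := hG
      apply hxy
      have hx : x ∈ Subgroup.center G := by rw [h]; trivial
      exact ((Subgroup.mem_center_iff.mp hx) y).symm
  -- the kernel of `φ` is central
  have hKn : (φ.ker.map θ).Normal := Subgroup.Normal.map inferInstance θ hθ
  have hKle : φ.ker ≤ θ.ker := by
    rcases hKn.eq_bot_or_eq_top with h | h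
    · intro k hk
      rw [MonoidHom.mem_ker]
      have : θ k ∈ φ.ker.map θ := Subgroup.mem_map_of_mem θ hk
      rwa [h, Subgroup.mem_bot] at this
    · exfalso
      obtain ⟨x, y, hxy⟩ := hE
      apply hxy
      have hdec : ∀ s : S, ∃ z ∈ Subgroup.center S, φ s = φ z := by
        intro s
        have hs : θ s ∈ φ.ker.map θ := by rw [h]; trivial
        obtain ⟨k, hk, hks⟩ := Subgroup.mem_map.mp hs
        refine ⟨s * k⁻¹, ?_, ?_⟩
        · rw [← hker, MonoidHom.mem_ker, map_mul, map_inv, hks, mul_inv_cancel]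
        · rw [map_mul, map_inv, MonoidHom.mem_ker.mp hk, inv_one, mul_one]
      obtain ⟨s₁, rfl⟩ := hφ x
      obtain ⟨s₂, rfl⟩ := hφ y
      obtain ⟨z₁, hz₁, h₁⟩ := hdec s₁
      obtain ⟨z₂, hz₂, h₂⟩ := hdec s₂
      rw [h₁, h₂, ← map_mul, ← map_mul, (Subgroup.mem_center_iff.mp hz₁) z₂]
  let ψ : S →* E' ⧸ Subgroup.center E' := (QuotientGroup.mk' (Subgroup.center E')).comp φ
  have hψ : Function.Surjective ψ := (QuotientGroup.mk'_surjective _).comp hφ
  have hkerψ : θ.ker = ψ.ker := by
    ext x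
    rw [MonoidHom.mem_ker (f := ψ)]
    change x ∈ θ.ker ↔ QuotientGroup.mk' (Subgroup.center E') (φ x) = 1
    rw [QuotientGroup.mk'_apply, QuotientGroup.eq_one_iff, Subgroup.mem_center_iff]
    constructor
    · intro hx e
      rw [hker] at hx
      obtain ⟨s, rfl⟩ := hφ e
      rw [← map_mul, ← map_mul, (Subgroup.mem_center_iff.mp hx) s]
    · intro hx
      have hθx : θ x ∈ Subgroup.center G := by
        rw [Subgroup.mem_center_iff]
        intro g
        obtain ⟨y, rfl⟩ := hθ g
        have hc : y * x * y⁻¹ * x⁻¹ ∈ φ.ker := by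
          rw [MonoidHom.mem_ker, map_mul, map_mul, map_mul, map_inv, map_inv, hx (φ y)]
          group
        have hc' := hKle hc
        rw [MonoidHom.mem_ker, map_mul, map_mul, map_mul, map_inv, map_inv] at hc'
        calc θ y * θ x = (θ y * θ x * (θ y)⁻¹ * (θ x)⁻¹) * θ x * θ y := by group
          _ = θ x * θ y := by rw [hc', one_mul]
      rw [hcG, Subgroup.mem_bot] at hθx
      exact MonoidHom.mem_ker.mpr hθx
  refine ⟨((QuotientGroup.quotientKerEquivOfSurjective θ hθ).symm.trans
    (QuotientGroup.quotientMulEquivOfEq hkerψ)).trans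
    (QuotientGroup.quotientKerEquivOfSurjective ψ hψ), ?_⟩
  intro s
  have h1 : (QuotientGroup.quotientKerEquivOfSurjective θ hθ).symm (θ s) = (s : S ⧸ θ.ker) := by
    rw [MulEquiv.symm_apply_eq]
    rfl
  rw [MulEquiv.trans_apply, MulEquiv.trans_apply, h1]
  rfl

end Cfsg.Agent.Lib.Helper45_D4AbsExplicit
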