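import Mathlib
import Cfsg.Agent.Lib.Helper45_D4Lift
import Cfsg.Agent.Lib.Helper45_D4Orth
import Cfsg.Agent.Lib.Helper45_D4AbsExplicit
import Cfsg.Agent.Lib.Helper81_StMain
import Cfsg.Agent.S1054

/-!
# `D₄(F) ≃* PΩ⁺₈(F)` over every field (S1082): assembly

`main_explicit` also records the values of the isomorphism on the root elements: `x_r(t) ↦ [U r t]`.
The abstract step (two quotients of the Steinberg group) is `Helper45_D4AbsExplicit.ABSTRACT_explicit`, a copy with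
values of helper31's package `Helper31_D4_ABSTRACT.ABSTRACT`.
-/

set_option autoImplicit false

namespace Cfsg.Agent.Lib.Helper45_D4Main

open Cfsg Cfsg.Lie Matrix Cfsg.Agent.Lib.Helper45_D4Defs Cfsg.Agent.Lib.Helper45_D4Table

theorem quot_center_congr {G : Type*} [Group G] {H K : Subgroup G} (h : H = K) :
    ∃ e : ↥H ⧸ Subgroup.center ↥H ≃* ↥K ⧸ Subgroup.center ↥K, ∀ (x : G) (hx : x ∈ H) (hx' : x ∈ K),
      e (QuotientGroup.mk' _ ⟨x, hx⟩) = QuotientGroup.mk' _ ⟨x, hx'⟩ := by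
  subst h
  exact ⟨MulEquiv.refl _, fun _ _ _ => rfl⟩

theorem U_mem_Omega {F : Type*} [Field F] (r : ℕ) (t : F) :
    U r t ∈ Cfsg.Omega F (Cfsg.quadFormPlus 4 F) := by
  rw [Cfsg.Agent.Lib.Helper45_D4Orth.Omega_eq_E (m := 4) (F := F) (by norm_num)]
  exact T_mem_E _ _ _

theorem phi_stGen {F : Type*} [Field F] (r : ℕ) (t : F) :
    ((Cfsg.Agent.Lib.Helper45_D4Lift.phi F (chevD4.stGen F r t) : ↥(E 4 F)) :
      ↥(Cfsg.isometryGroup F (Cfsg.quadFormPlus 4 F))) = U r t := by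
  show Cfsg.Agent.Lib.Helper45_D4Lift.phi0 F (PresentedGroup.mk _ (chevD4.stX r t)) = U r t
  exact Cfsg.Agent.Lib.Helper45_D4Lift.lift_stX r t

/-- The isomorphism `D₄(F) ≃* PΩ⁺₈(F)` maps the root element `x_r(t)` to the class of `U r t`. -/
theorem main_explicit {F : Type*} [Field F] :
    ∃ e : ↥(Cfsg.Lie.chevD4.group F) ≃* Cfsg.POmega F (Cfsg.quadFormPlus 4 F),
      ∀ (r : ℕ) (t : F), r < 24 → ∀ g : ↥(Cfsg.Lie.chevD4.group F),
        ((g : GL chevD4.Idx F) : Matrix chevD4.Idx chevD4.Idx F) = chevD4.x F r t →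
        e g = QuotientGroup.mk' _ ⟨U r t, U_mem_Omega r t⟩ := by
  obtain ⟨hS, hnc⟩ := Cfsg.Agent.S1054.result (F := F) chevD4 (by simp)
  obtain ⟨θ, hθ, hker, h3⟩ :=
    Cfsg.Agent.Lib.Helper81_StMain.exists_hom_ker_eq_center (F := F) chevD4 (by simp)
  have hG : ∃ x y : ↥(chevD4.group F), x * y ≠ y * x := by
    by_contra h
    exact hnc ⟨⟨fun x y => by_contra fun hxy => h ⟨x, y, hxy⟩⟩⟩
  obtain ⟨e, he⟩ := Cfsg.Agent.Lib.Helper45_D4AbsExplicit.ABSTRACT_explicit hG θ hθ hker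
    (Cfsg.Agent.Lib.Helper45_D4Lift.phi F) Cfsg.Agent.Lib.Helper45_D4Lift.phi_surjective
    (Cfsg.Agent.Lib.Helper45_D4Orth.E_not_comm (m := 4) (F := F) (by norm_num))
  obtain ⟨e', he'⟩ := quot_center_congr
    (Cfsg.Agent.Lib.Helper45_D4Orth.Omega_eq_E (m := 4) (F := F) (by norm_num)).symm
  refine ⟨e.trans e', ?_⟩
  intro r t hr g hg
  have hgθ : g = θ (chevD4.stGen F r t) := by
    apply Subtype.ext
    apply Units.ext
    rw [hg, h3 r t hr]
  rw [hgθ, MulEquiv.trans_apply, he]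
  have h4 : Cfsg.Agent.Lib.Helper45_D4Lift.phi F (chevD4.stGen F r t) =
      ⟨U r t, T_mem_E _ _ _⟩ := Subtype.ext (phi_stGen r t)
  rw [h4]
  exact he' (U r t) _ _

theorem main {F : Type*} [Field F] :
    Nonempty (↥(Cfsg.Lie.chevD4.group F) ≃* Cfsg.POmega F (Cfsg.quadFormPlus 4 F)) := by
  obtain ⟨e, -⟩ := main_explicit (F := F)
  exact ⟨e⟩

end Cfsg.Agent.Lib.Helper45_D4Main
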