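import Mathlib
import Cfsg.Agent.Lib.Helper45_D4R2Gen

/-!
# The commutator relations (R2) of `chevD4` for the root elements of `O⁺₈(F)`: first root 11 (S1082)

Generated from the table of the frozen datum: every case is the uniform commutator formula `COMM` with its four
guards evaluated by `decide`.
-/

set_option autoImplicit false

namespace Cfsg.Agent.Lib.Helper45_D4R2_11

open Cfsg Cfsg.Lie Matrix Cfsg.Agent.Lib.Helper45_D4Defs Cfsg.Agent.Lib.Helper45_D4Table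
  Cfsg.Agent.Lib.Helper45_D4R2Gen Cfsg.Agent.Lib.Helper81_StAbs

variable {F : Type*} [Field F]

theorem c11_0 (t u : F) : (U 0 u)⁻¹ * (U 11 t)⁻¹ * U 0 u * U 11 t =
    wordP U (chevD4.commWord F 11 0 t u) := by
  show (T (Sum.inr 1 : I 4) (Sum.inl 0 : I 4) (((1 : ℤ) : F) * u))⁻¹ * (T (Sum.inr 3 : I 4) (Sum.inl 2 : I 4) (((1 : ℤ) : F) * t))⁻¹ *
      T (Sum.inr 1 : I 4) (Sum.inl 0 : I 4) (((1 : ℤ) : F) * u) * T (Sum.inr 3 : I 4) (Sum.inl 2 : I 4) (((1 : ℤ) : F) * t) = 1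
  exact comm0 (by decide) (by decide) (by decide) (by decide) (by decide) (by decide) (by decide) (by decide) _ _

theorem c11_1 (t u : F) : (U 1 u)⁻¹ * (U 11 t)⁻¹ * U 1 u * U 11 t =
    wordP U (chevD4.commWord F 11 1 t u) := by
  show (T (Sum.inr 2 : I 4) (Sum.inl 0 : I 4) (((1 : ℤ) : F) * u))⁻¹ * (T (Sum.inr 3 : I 4) (Sum.inl 2 : I 4) (((1 : ℤ) : F) * t))⁻¹ *
      T (Sum.inr 2 : I 4) (Sum.inl 0 : I 4) (((1 : ℤ) : F) * u) * T (Sum.inr 3 : I 4) (Sum.inl 2 : I 4) (((1 : ℤ) : F) * t) = 1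
  exact comm0 (by decide) (by decide) (by decide) (by decide) (by decide) (by decide) (by decide) (by decide) _ _

theorem c11_2 (t u : F) : (U 2 u)⁻¹ * (U 11 t)⁻¹ * U 2 u * U 11 t =
    wordP U (chevD4.commWord F 11 2 t u) := by
  show (T (Sum.inl 3 : I 4) (Sum.inl 0 : I 4) (((1 : ℤ) : F) * u))⁻¹ * (T (Sum.inr 3 : I 4) (Sum.inl 2 : I 4) (((1 : ℤ) : F) * t))⁻¹ *
      T (Sum.inl 3 : I 4) (Sum.inl 0 : I 4) (((1 : ℤ) : F) * u) * T (Sum.inr 3 : I 4) (Sum.inl 2 : I 4) (((1 : ℤ) : F) * t) =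
    T (Sum.inr 2 : I 4) (Sum.inl 0 : I 4) (((1 : ℤ) : F) * (((-1 : ℤ) : F) * (-t) ^ 1 * u ^ 1)) * 1
  rw [comm3 (by decide) (by decide) (by decide) (by decide) (by decide) (by decide) (by decide) (by decide), mul_one]
  show T (Sum.inr 2 : I 4) (Sum.inl 0 : I 4) _ = _
  congr 1
  push_cast
  ring

theorem c11_3 (t u : F) : (U 3 u)⁻¹ * (U 11 t)⁻¹ * U 3 u * U 11 t =
    wordP U (chevD4.commWord F 11 3 t u) := by
  show (T (Sum.inr 3 : I 4) (Sum.inl 0 : I 4) (((1 : ℤ) : F) * u))⁻¹ * (T (Sum.inr 3 : I 4) (Sum.inl 2 : I 4) (((1 : ℤ) : F) * t))⁻¹ *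
      T (Sum.inr 3 : I 4) (Sum.inl 0 : I 4) (((1 : ℤ) : F) * u) * T (Sum.inr 3 : I 4) (Sum.inl 2 : I 4) (((1 : ℤ) : F) * t) = 1
  exact comm0 (by decide) (by decide) (by decide) (by decide) (by decide) (by decide) (by decide) (by decide) _ _

theorem c11_4 (t u : F) : (U 4 u)⁻¹ * (U 11 t)⁻¹ * U 4 u * U 11 t =
    wordP U (chevD4.commWord F 11 4 t u) := by
  show (T (Sum.inl 2 : I 4) (Sum.inl 0 : I 4) (((-1 : ℤ) : F) * u))⁻¹ * (T (Sum.inr 3 : I 4) (Sum.inl 2 : I 4) (((1 : ℤ) : F) * t))⁻¹ *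
      T (Sum.inl 2 : I 4) (Sum.inl 0 : I 4) (((-1 : ℤ) : F) * u) * T (Sum.inr 3 : I 4) (Sum.inl 2 : I 4) (((1 : ℤ) : F) * t) =
    T (Sum.inr 3 : I 4) (Sum.inl 0 : I 4) (((1 : ℤ) : F) * (((-1 : ℤ) : F) * (-t) ^ 1 * u ^ 1)) * 1
  rw [comm1 (by decide) (by decide) (by decide) (by decide) (by decide) (by decide) (by decide) (by decide), mul_one]
  show T (Sum.inr 3 : I 4) (Sum.inl 0 : I 4) _ = _
  congr 1
  push_cast
  ring

theorem c11_5 (t u : F) : (U 5 u)⁻¹ * (U 11 t)⁻¹ * U 5 u * U 11 t =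
    wordP U (chevD4.commWord F 11 5 t u) := by
  show (T (Sum.inl 1 : I 4) (Sum.inl 0 : I 4) (((1 : ℤ) : F) * u))⁻¹ * (T (Sum.inr 3 : I 4) (Sum.inl 2 : I 4) (((1 : ℤ) : F) * t))⁻¹ *
      T (Sum.inl 1 : I 4) (Sum.inl 0 : I 4) (((1 : ℤ) : F) * u) * T (Sum.inr 3 : I 4) (Sum.inl 2 : I 4) (((1 : ℤ) : F) * t) = 1
  exact comm0 (by decide) (by decide) (by decide) (by decide) (by decide) (by decide) (by decide) (by decide) _ _

theorem c11_6 (t u : F) : (U 6 u)⁻¹ * (U 11 t)⁻¹ * U 6 u * U 11 t =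
    wordP U (chevD4.commWord F 11 6 t u) := by
  show (T (Sum.inr 2 : I 4) (Sum.inl 1 : I 4) (((-1 : ℤ) : F) * u))⁻¹ * (T (Sum.inr 3 : I 4) (Sum.inl 2 : I 4) (((1 : ℤ) : F) * t))⁻¹ *
      T (Sum.inr 2 : I 4) (Sum.inl 1 : I 4) (((-1 : ℤ) : F) * u) * T (Sum.inr 3 : I 4) (Sum.inl 2 : I 4) (((1 : ℤ) : F) * t) = 1
  exact comm0 (by decide) (by decide) (by decide) (by decide) (by decide) (by decide) (by decide) (by decide) _ _

theorem c11_7 (t u : F) : (U 7 u)⁻¹ * (U 11 t)⁻¹ * U 7 u * U 11 t =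
    wordP U (chevD4.commWord F 11 7 t u) := by
  show (T (Sum.inl 3 : I 4) (Sum.inl 1 : I 4) (((-1 : ℤ) : F) * u))⁻¹ * (T (Sum.inr 3 : I 4) (Sum.inl 2 : I 4) (((1 : ℤ) : F) * t))⁻¹ *
      T (Sum.inl 3 : I 4) (Sum.inl 1 : I 4) (((-1 : ℤ) : F) * u) * T (Sum.inr 3 : I 4) (Sum.inl 2 : I 4) (((1 : ℤ) : F) * t) =
    T (Sum.inr 2 : I 4) (Sum.inl 1 : I 4) (((-1 : ℤ) : F) * (((-1 : ℤ) : F) * (-t) ^ 1 * u ^ 1)) * 1
  rw [comm3 (by decide) (by decide) (by decide) (by decide) (by decide) (by decide) (by decide) (by decide), mul_one]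
  show T (Sum.inr 2 : I 4) (Sum.inl 1 : I 4) _ = _
  congr 1
  push_cast
  ring

theorem c11_8 (t u : F) : (U 8 u)⁻¹ * (U 11 t)⁻¹ * U 8 u * U 11 t =
    wordP U (chevD4.commWord F 11 8 t u) := by
  show (T (Sum.inr 3 : I 4) (Sum.inl 1 : I 4) (((-1 : ℤ) : F) * u))⁻¹ * (T (Sum.inr 3 : I 4) (Sum.inl 2 : I 4) (((1 : ℤ) : F) * t))⁻¹ *
      T (Sum.inr 3 : I 4) (Sum.inl 1 : I 4) (((-1 : ℤ) : F) * u) * T (Sum.inr 3 : I 4) (Sum.inl 2 : I 4) (((1 : ℤ) : F) * t) = 1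
  exact comm0 (by decide) (by decide) (by decide) (by decide) (by decide) (by decide) (by decide) (by decide) _ _

theorem c11_9 (t u : F) : (U 9 u)⁻¹ * (U 11 t)⁻¹ * U 9 u * U 11 t =
    wordP U (chevD4.commWord F 11 9 t u) := by
  show (T (Sum.inl 2 : I 4) (Sum.inl 1 : I 4) (((1 : ℤ) : F) * u))⁻¹ * (T (Sum.inr 3 : I 4) (Sum.inl 2 : I 4) (((1 : ℤ) : F) * t))⁻¹ *
      T (Sum.inl 2 : I 4) (Sum.inl 1 : I 4) (((1 : ℤ) : F) * u) * T (Sum.inr 3 : I 4) (Sum.inl 2 : I 4) (((1 : ℤ) : F) * t) =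
    T (Sum.inr 3 : I 4) (Sum.inl 1 : I 4) (((-1 : ℤ) : F) * (((-1 : ℤ) : F) * (-t) ^ 1 * u ^ 1)) * 1
  rw [comm1 (by decide) (by decide) (by decide) (by decide) (by decide) (by decide) (by decide) (by decide), mul_one]
  show T (Sum.inr 3 : I 4) (Sum.inl 1 : I 4) _ = _
  congr 1
  push_cast
  ring

theorem c11_10 (t u : F) : (U 10 u)⁻¹ * (U 11 t)⁻¹ * U 10 u * U 11 t =
    wordP U (chevD4.commWord F 11 10 t u) := by
  show (T (Sum.inl 3 : I 4) (Sum.inl 2 : I 4) (((1 : ℤ) : F) * u))⁻¹ * (T (Sum.inr 3 : I 4) (Sum.inl 2 : I 4) (((1 : ℤ) : F) * t))⁻¹ *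
      T (Sum.inl 3 : I 4) (Sum.inl 2 : I 4) (((1 : ℤ) : F) * u) * T (Sum.inr 3 : I 4) (Sum.inl 2 : I 4) (((1 : ℤ) : F) * t) = 1
  rw [comm3 (by decide) (by decide) (by decide) (by decide) (by decide) (by decide) (by decide) (by decide)]
  exact T_of_not_adm (by decide) _

theorem c11_13 (t u : F) : (U 13 u)⁻¹ * (U 11 t)⁻¹ * U 13 u * U 11 t =
    wordP U (chevD4.commWord F 11 13 t u) := by
  show (T (Sum.inl 2 : I 4) (Sum.inl 3 : I 4) (((1 : ℤ) : F) * u))⁻¹ * (T (Sum.inr 3 : I 4) (Sum.inl 2 : I 4) (((1 : ℤ) : F) * t))⁻¹ *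
      T (Sum.inl 2 : I 4) (Sum.inl 3 : I 4) (((1 : ℤ) : F) * u) * T (Sum.inr 3 : I 4) (Sum.inl 2 : I 4) (((1 : ℤ) : F) * t) = 1
  rw [comm1 (by decide) (by decide) (by decide) (by decide) (by decide) (by decide) (by decide) (by decide)]
  exact T_of_not_adm (by decide) _

theorem c11_14 (t u : F) : (U 14 u)⁻¹ * (U 11 t)⁻¹ * U 14 u * U 11 t =
    wordP U (chevD4.commWord F 11 14 t u) := by
  show (T (Sum.inl 1 : I 4) (Sum.inl 2 : I 4) (((1 : ℤ) : F) * u))⁻¹ * (T (Sum.inr 3 : I 4) (Sum.inl 2 : I 4) (((1 : ℤ) : F) * t))⁻¹ *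
      T (Sum.inl 1 : I 4) (Sum.inl 2 : I 4) (((1 : ℤ) : F) * u) * T (Sum.inr 3 : I 4) (Sum.inl 2 : I 4) (((1 : ℤ) : F) * t) = 1
  exact comm0 (by decide) (by decide) (by decide) (by decide) (by decide) (by decide) (by decide) (by decide) _ _

theorem c11_15 (t u : F) : (U 15 u)⁻¹ * (U 11 t)⁻¹ * U 15 u * U 11 t =
    wordP U (chevD4.commWord F 11 15 t u) := by
  show (T (Sum.inl 1 : I 4) (Sum.inr 3 : I 4) (((-1 : ℤ) : F) * u))⁻¹ * (T (Sum.inr 3 : I 4) (Sum.inl 2 : I 4) (((1 : ℤ) : F) * t))⁻¹ *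
      T (Sum.inl 1 : I 4) (Sum.inr 3 : I 4) (((-1 : ℤ) : F) * u) * T (Sum.inr 3 : I 4) (Sum.inl 2 : I 4) (((1 : ℤ) : F) * t) =
    T (Sum.inl 1 : I 4) (Sum.inl 2 : I 4) (((1 : ℤ) : F) * (((1 : ℤ) : F) * (-t) ^ 1 * u ^ 1)) * 1
  rw [comm4 (by decide) (by decide) (by decide) (by decide) (by decide) (by decide) (by decide) (by decide), mul_one]
  show T (Sum.inl 1 : I 4) (Sum.inl 2 : I 4) _ = _
  congr 1
  push_cast
  ring

theorem c11_16 (t u : F) : (U 16 u)⁻¹ * (U 11 t)⁻¹ * U 16 u * U 11 t =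
    wordP U (chevD4.commWord F 11 16 t u) := by
  show (T (Sum.inl 1 : I 4) (Sum.inl 3 : I 4) (((-1 : ℤ) : F) * u))⁻¹ * (T (Sum.inr 3 : I 4) (Sum.inl 2 : I 4) (((1 : ℤ) : F) * t))⁻¹ *
      T (Sum.inl 1 : I 4) (Sum.inl 3 : I 4) (((-1 : ℤ) : F) * u) * T (Sum.inr 3 : I 4) (Sum.inl 2 : I 4) (((1 : ℤ) : F) * t) = 1
  exact comm0 (by decide) (by decide) (by decide) (by decide) (by decide) (by decide) (by decide) (by decide) _ _

theorem c11_17 (t u : F) : (U 17 u)⁻¹ * (U 11 t)⁻¹ * U 17 u * U 11 t =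
    wordP U (chevD4.commWord F 11 17 t u) := by
  show (T (Sum.inl 1 : I 4) (Sum.inr 2 : I 4) (((-1 : ℤ) : F) * u))⁻¹ * (T (Sum.inr 3 : I 4) (Sum.inl 2 : I 4) (((1 : ℤ) : F) * t))⁻¹ *
      T (Sum.inl 1 : I 4) (Sum.inr 2 : I 4) (((-1 : ℤ) : F) * u) * T (Sum.inr 3 : I 4) (Sum.inl 2 : I 4) (((1 : ℤ) : F) * t) =
    T (Sum.inl 1 : I 4) (Sum.inl 3 : I 4) (((-1 : ℤ) : F) * (((1 : ℤ) : F) * (-t) ^ 1 * u ^ 1)) * 1
  rw [comm2 (by decide) (by decide) (by decide) (by decide) (by decide) (by decide) (by decide) (by decide), mul_one]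
  rw [T_flip (Sum.inr 3 : I 4) (pr (Sum.inl 1 : I 4))]
  show T (Sum.inl 1 : I 4) (Sum.inl 3 : I 4) _ = _
  congr 1
  push_cast
  ring

theorem c11_18 (t u : F) : (U 18 u)⁻¹ * (U 11 t)⁻¹ * U 18 u * U 11 t =
    wordP U (chevD4.commWord F 11 18 t u) := by
  show (T (Sum.inl 0 : I 4) (Sum.inl 1 : I 4) (((1 : ℤ) : F) * u))⁻¹ * (T (Sum.inr 3 : I 4) (Sum.inl 2 : I 4) (((1 : ℤ) : F) * t))⁻¹ *
      T (Sum.inl 0 : I 4) (Sum.inl 1 : I 4) (((1 : ℤ) : F) * u) * T (Sum.inr 3 : I 4) (Sum.inl 2 : I 4) (((1 : ℤ) : F) * t) = 1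
  exact comm0 (by decide) (by decide) (by decide) (by decide) (by decide) (by decide) (by decide) (by decide) _ _

theorem c11_19 (t u : F) : (U 19 u)⁻¹ * (U 11 t)⁻¹ * U 19 u * U 11 t =
    wordP U (chevD4.commWord F 11 19 t u) := by
  show (T (Sum.inl 0 : I 4) (Sum.inl 2 : I 4) (((-1 : ℤ) : F) * u))⁻¹ * (T (Sum.inr 3 : I 4) (Sum.inl 2 : I 4) (((1 : ℤ) : F) * t))⁻¹ *
      T (Sum.inl 0 : I 4) (Sum.inl 2 : I 4) (((-1 : ℤ) : F) * u) * T (Sum.inr 3 : I 4) (Sum.inl 2 : I 4) (((1 : ℤ) : F) * t) = 1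
  exact comm0 (by decide) (by decide) (by decide) (by decide) (by decide) (by decide) (by decide) (by decide) _ _

theorem c11_20 (t u : F) : (U 20 u)⁻¹ * (U 11 t)⁻¹ * U 20 u * U 11 t =
    wordP U (chevD4.commWord F 11 20 t u) := by
  show (T (Sum.inl 0 : I 4) (Sum.inr 3 : I 4) (((1 : ℤ) : F) * u))⁻¹ * (T (Sum.inr 3 : I 4) (Sum.inl 2 : I 4) (((1 : ℤ) : F) * t))⁻¹ *
      T (Sum.inl 0 : I 4) (Sum.inr 3 : I 4) (((1 : ℤ) : F) * u) * T (Sum.inr 3 : I 4) (Sum.inl 2 : I 4) (((1 : ℤ) : F) * t) =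
    T (Sum.inl 0 : I 4) (Sum.inl 2 : I 4) (((-1 : ℤ) : F) * (((1 : ℤ) : F) * (-t) ^ 1 * u ^ 1)) * 1
  rw [comm4 (by decide) (by decide) (by decide) (by decide) (by decide) (by decide) (by decide) (by decide), mul_one]
  show T (Sum.inl 0 : I 4) (Sum.inl 2 : I 4) _ = _
  congr 1
  push_cast
  ring

theorem c11_21 (t u : F) : (U 21 u)⁻¹ * (U 11 t)⁻¹ * U 21 u * U 11 t =
    wordP U (chevD4.commWord F 11 21 t u) := by
  show (T (Sum.inl 0 : I 4) (Sum.inl 3 : I 4) (((1 : ℤ) : F) * u))⁻¹ * (T (Sum.inr 3 : I 4) (Sum.inl 2 : I 4) (((1 : ℤ) : F) * t))⁻¹ *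
      T (Sum.inl 0 : I 4) (Sum.inl 3 : I 4) (((1 : ℤ) : F) * u) * T (Sum.inr 3 : I 4) (Sum.inl 2 : I 4) (((1 : ℤ) : F) * t) = 1
  exact comm0 (by decide) (by decide) (by decide) (by decide) (by decide) (by decide) (by decide) (by decide) _ _

theorem c11_22 (t u : F) : (U 22 u)⁻¹ * (U 11 t)⁻¹ * U 22 u * U 11 t =
    wordP U (chevD4.commWord F 11 22 t u) := by
  show (T (Sum.inl 0 : I 4) (Sum.inr 2 : I 4) (((1 : ℤ) : F) * u))⁻¹ * (T (Sum.inr 3 : I 4) (Sum.inl 2 : I 4) (((1 : ℤ) : F) * t))⁻¹ *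
      T (Sum.inl 0 : I 4) (Sum.inr 2 : I 4) (((1 : ℤ) : F) * u) * T (Sum.inr 3 : I 4) (Sum.inl 2 : I 4) (((1 : ℤ) : F) * t) =
    T (Sum.inl 0 : I 4) (Sum.inl 3 : I 4) (((1 : ℤ) : F) * (((1 : ℤ) : F) * (-t) ^ 1 * u ^ 1)) * 1
  rw [comm2 (by decide) (by decide) (by decide) (by decide) (by decide) (by decide) (by decide) (by decide), mul_one]
  rw [T_flip (Sum.inr 3 : I 4) (pr (Sum.inl 0 : I 4))]
  show T (Sum.inl 0 : I 4) (Sum.inl 3 : I 4) _ = _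
  congr 1
  push_cast
  ring

theorem c11_23 (t u : F) : (U 23 u)⁻¹ * (U 11 t)⁻¹ * U 23 u * U 11 t =
    wordP U (chevD4.commWord F 11 23 t u) := by
  show (T (Sum.inl 0 : I 4) (Sum.inr 1 : I 4) (((1 : ℤ) : F) * u))⁻¹ * (T (Sum.inr 3 : I 4) (Sum.inl 2 : I 4) (((1 : ℤ) : F) * t))⁻¹ *
      T (Sum.inl 0 : I 4) (Sum.inr 1 : I 4) (((1 : ℤ) : F) * u) * T (Sum.inr 3 : I 4) (Sum.inl 2 : I 4) (((1 : ℤ) : F) * t) = 1
  exact comm0 (by decide) (by decide) (by decide) (by decide) (by decide) (by decide) (by decide) (by decide) _ _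

theorem comm_r11 (s : ℕ) (hs : s < 24) (h1 : s ≠ 11) (h2 : s ≠ chevD4.neg 11) (t u : F) :
    (U s u)⁻¹ * (U 11 t)⁻¹ * U s u * U 11 t = wordP U (chevD4.commWord F 11 s t u) := by
  interval_cases s
  · exact c11_0 t u
  · exact c11_1 t u
  · exact c11_2 t u
  · exact c11_3 t u
  · exact c11_4 t u
  · exact c11_5 t u
  · exact c11_6 t u
  · exact c11_7 t u
  · exact c11_8 t u
  · exact c11_9 t u
  · exact c11_10 t u
  · exact absurd rfl h1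
  · exact absurd (by decide) h2
  · exact c11_13 t u
  · exact c11_14 t u
  · exact c11_15 t u
  · exact c11_16 t u
  · exact c11_17 t u
  · exact c11_18 t u
  · exact c11_19 t u
  · exact c11_20 t u
  · exact c11_21 t u
  · exact c11_22 t u
  · exact c11_23 t u

end Cfsg.Agent.Lib.Helper45_D4R2_11
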