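import Mathlib
import Cfsg.Agent.Lib.helper19_CoxE6
import Cfsg.Agent.Lib.helper19_M23Defs
import Cfsg.Agent.Lib.Helper17_M23_E6W

/-!
# S2054 market, package D2 (helper45): the affine E6 subgroup

`d2_of` takes the statement of package E6W (`e6_braid`) as a hypothesis; `d2` is the package statement.
-/

set_option autoImplicit false

namespace Cfsg.Agent.Lib.Helper45_M23_D2

open Cfsg.Agent.Lib.helper19_M23


/-- five commuting elements of order dividing 3 generate a group of order at most `3 ^ 5` -/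
theorem card_closure_le {G : Type*} [Group G] (τ : Fin 5 → G) (hτ3 : ∀ k, τ k ^ 3 = 1)
    (hτc : ∀ k l, τ k * τ l = τ l * τ k) :
    Finite (Subgroup.closure (Set.range τ)) ∧ Nat.card (Subgroup.closure (Set.range τ)) ≤ 3 ^ 5 := by
  classical
  have hcomm : ∀ x ∈ Set.range τ, ∀ y ∈ Set.range τ, x * y = y * x := by
    rintro _ ⟨k, rfl⟩ _ ⟨l, rfl⟩
    exact hτc k l
  letI : CommGroup (Subgroup.closure (Set.range τ)) := Subgroup.closureCommGroupOfComm hcomm
  let t : Fin 5 → Subgroup.closure (Set.range τ) := fun k => ⟨τ k, Subgroup.subset_closure ⟨k, rfl⟩⟩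
  have ht3 : ∀ k, t k ^ 3 = 1 := fun k => Subtype.ext (hτ3 k)
  have hpow : ∀ k (a b : ZMod 3), t k ^ (a + b).val = t k ^ a.val * t k ^ b.val := by
    intro k a b
    rw [ZMod.val_add, ← pow_add, ← pow_eq_pow_mod _ (ht3 k)]
  let φ : Multiplicative (Fin 5 → ZMod 3) →* Subgroup.closure (Set.range τ) :=
    { toFun := fun a => ∏ k, t k ^ (Multiplicative.toAdd a k).val
      map_one' := by simp
      map_mul' := by
        intro a b
        rw [← Finset.prod_mul_distrib]
        apply Finset.prod_congr rfl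
        intro k _
        rw [toAdd_mul, Pi.add_apply, hpow] }
  have hsurj : Function.Surjective φ := by
    rw [← MonoidHom.range_eq_top, eq_top_iff, ← Subgroup.closure_closure_coe_preimage,
      Subgroup.closure_le]
    rintro x ⟨k, hk⟩
    refine ⟨Multiplicative.ofAdd (Pi.single k 1), ?_⟩
    show ∏ j, t j ^ ((Pi.single k (1 : ZMod 3) : Fin 5 → ZMod 3) j).val = x
    rw [Finset.prod_eq_single k]
    · rw [Pi.single_eq_same]
      apply Subtype.ext
      rw [← hk]
      show (t k ^ (1 : ZMod 3).val : Subgroup.closure (Set.range τ)).1 = τ k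
      rw [show (1 : ZMod 3).val = 1 from rfl, pow_one]
    · intro j _ hj
      rw [Pi.single_eq_of_ne hj, ZMod.val_zero, pow_zero]
    · intro h; exact absurd (Finset.mem_univ k) h
  have hfin : Finite (Subgroup.closure (Set.range τ)) := Finite.of_surjective φ hsurj
  refine ⟨hfin, ?_⟩
  have h1 := Nat.card_le_card_of_surjective φ hsurj
  have h2 : Nat.card (Multiplicative (Fin 5 → ZMod 3)) = 3 ^ 5 := by
    rw [Nat.card_congr Multiplicative.toAdd, Nat.card_pi]
    simp
  omega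




theorem hm7 : ∀ i j : Fin 6, CoxeterMatrix.E₆ i j = m7 i.castSucc j.castSucc := by
  have h : ∀ p : Fin 6 × Fin 6, CoxeterMatrix.E₆ p.1 p.2 = m7 p.1.castSucc p.2.castSucc := by
    decide +kernel
  exact fun i j => h (i, j)

theorem card_E6 : Nat.card CoxeterMatrix.E₆.Group = 51840 := by
  have h := Cfsg.Agent.Lib.helper19_CoxE6.card6
  have h2 : Cfsg.Agent.Lib.helper19_CoxChain.truncTo CoxeterMatrix.E₆ 6 (by decide) = CoxeterMatrix.E₆ :=
    Cfsg.Agent.Lib.helper19_CoxChain.truncTo_self CoxeterMatrix.E₆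
  rw [h2] at h
  exact h

/-- if `c` is central and `a b a⁻¹ = c b` then `aⁿ b a⁻ⁿ = cⁿ b` -/
theorem conj_pow_central {Γ : Type*} [Group Γ] (a b c : Γ) (hc : ∀ x, c * x = x * c)
    (h : a * b * a⁻¹ = c * b) (n : ℕ) : a ^ n * b * (a ^ n)⁻¹ = c ^ n * b := by
  induction n with
  | zero => simp
  | succ n ih =>
    have : a ^ (n + 1) * b * (a ^ (n + 1))⁻¹ = a * (a ^ n * b * (a ^ n)⁻¹) * a⁻¹ := by
      rw [pow_succ']; group
    rw [this, ih]
    have h2 : a * (c ^ n * b) * a⁻¹ = c ^ n * (a * b * a⁻¹) := by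
      have hcn : ∀ x, c ^ n * x = x * c ^ n := fun x => ((show Commute c x from hc x).pow_left n)
      rw [← mul_assoc a, ← hcn a]; group
    rw [h2, h, ← mul_assoc, ← pow_succ]




/-- conjugation by an involution `g` which maps the generators of `N` into `N` normalises `N` -/
theorem mem_normalizer_of_invol {G : Type*} [Group G] (S : Set G) (g : G) (hg : g * g = 1)
    (h : ∀ s ∈ S, g * s * g⁻¹ ∈ Subgroup.closure S) :
    g ∈ Subgroup.normalizer ((Subgroup.closure S : Subgroup G) : Set G) := by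
  have hfw : ∀ n ∈ Subgroup.closure S, g * n * g⁻¹ ∈ Subgroup.closure S := by
    intro n hn
    induction hn using Subgroup.closure_induction with
    | mem x hx => exact h x hx
    | one => simp
    | mul x y _ _ hx hy =>
      have : g * (x * y) * g⁻¹ = (g * x * g⁻¹) * (g * y * g⁻¹) := by group
      rw [this]; exact Subgroup.mul_mem _ hx hy
    | inv x _ hx =>
      have : g * x⁻¹ * g⁻¹ = (g * x * g⁻¹)⁻¹ := by group
      rw [this]; exact Subgroup.inv_mem _ hx
  rw [Subgroup.mem_normalizer_iff]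
  intro n
  refine ⟨hfw n, fun hn => ?_⟩
  have h2 := hfw _ hn
  have hginv : g⁻¹ = g := inv_eq_of_mul_eq_one_left hg
  have : g * (g * n * g⁻¹) * g⁻¹ = n := by
    rw [hginv]
    calc g * (g * n * g) * g = (g * g) * n * (g * g) := by group
      _ = n := by rw [hg]; simp
  rwa [this] at h2

/-- the E6 part: the subgroup generated by `y 0 .. y 5` has at most 51840 elements, contains `uword y`,
and the braid relation of `uword y` and `y 1` holds -/
theorem e6_part
    (hE6 : ∀ (s : Fin 7 → CoxeterMatrix.E₆.Group),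
      (∀ i : Fin 6, s (Fin.castSucc i) = CoxeterMatrix.E₆.toCoxeterSystem.simple i) →
      uword s * s 1 * uword s = s 1 * uword s * s 1)
    {Γ : Type} [Group Γ] [Finite Γ] (y : Fin 7 → Γ) (hy : ∀ i j, (y i * y j) ^ m7 i j = 1) :
    ∃ L : Subgroup Γ, L ≤ Subgroup.closure (Set.range y) ∧ Nat.card L ≤ 51840 ∧
      (∀ i : Fin 6, y i.castSucc ∈ L) ∧ uword y ∈ L ∧
      uword y * y 1 * uword y = y 1 * uword y * y 1 := by
  classical
  have hlift : CoxeterMatrix.IsLiftable CoxeterMatrix.E₆ (fun i : Fin 6 => y i.castSucc) := by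
    intro i j
    rw [hm7]
    exact hy _ _
  let cs := CoxeterMatrix.E₆.toCoxeterSystem
  let ψ : CoxeterMatrix.E₆.Group →* Γ := cs.lift ⟨_, hlift⟩
  have hψ : ∀ i : Fin 6, ψ (cs.simple i) = y i.castSucc := fun i => cs.lift_apply_simple hlift i
  have hfin : Finite CoxeterMatrix.E₆.Group := by
    apply Nat.finite_of_card_ne_zero
    rw [card_E6]; norm_num
  let s : Fin 7 → CoxeterMatrix.E₆.Group := fun i => if h : i.val < 6 then cs.simple ⟨i.val, h⟩ else 1
  have hs : ∀ i : Fin 6, s (Fin.castSucc i) = cs.simple i := by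
    intro i
    simp only [s, Fin.val_castSucc, i.2, dite_true, Fin.eta]
  have hψs : ∀ i : Fin 6, ψ (s i.castSucc) = y i.castSucc := fun i => by rw [hs, hψ]
  have h0 := hψs 0
  have h1 := hψs 1
  have h2 := hψs 2
  have h3 := hψs 3
  have h4 := hψs 4
  have h5 := hψs 5
  have e0 : (Fin.castSucc (0 : Fin 6) : Fin 7) = 0 := rfl
  have e1 : (Fin.castSucc (1 : Fin 6) : Fin 7) = 1 := rfl
  have e2 : (Fin.castSucc (2 : Fin 6) : Fin 7) = 2 := rfl
  have e3 : (Fin.castSucc (3 : Fin 6) : Fin 7) = 3 := rfl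
  have e4 : (Fin.castSucc (4 : Fin 6) : Fin 7) = 4 := rfl
  have e5 : (Fin.castSucc (5 : Fin 6) : Fin 7) = 5 := rfl
  rw [e0] at h0; rw [e1] at h1; rw [e2] at h2; rw [e3] at h3; rw [e4] at h4; rw [e5] at h5
  have hu : ψ (uword s) = uword y := by
    unfold uword
    simp only [map_mul, map_inv, h0, h1, h2, h3, h4, h5]
  refine ⟨ψ.range, ?_, ?_, ?_, ?_, ?_⟩
  · rw [MonoidHom.range_eq_map, ← cs.subgroup_closure_range_simple, MonoidHom.map_closure,
      Subgroup.closure_le]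
    rintro _ ⟨_, ⟨i, rfl⟩, rfl⟩
    rw [hψ]
    exact Subgroup.subset_closure ⟨_, rfl⟩
  · have := Nat.card_le_card_of_surjective _ ψ.rangeRestrict_surjective
    rw [card_E6] at this
    exact this
  · intro i
    exact ⟨cs.simple i, hψ i⟩
  · exact ⟨uword s, hu⟩
  · have := congrArg ψ (hE6 s hs)
    simp only [map_mul, hu, h1] at this
    exact this

/-- the abstract argument -/
theorem d2_core {G : Type} [Group G] {Γ : Type} [Group Γ] [Finite Γ] (σ : Γ →* G)
    (hc : σ.ker ≤ Subgroup.center Γ) (h3 : ∀ z ∈ σ.ker, z ^ 3 = 1 → z = 1)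
    (y : Fin 7 → Γ) (hy : ∀ i j, (y i * y j) ^ m7 i j = 1)
    (τ : Fin 5 → G) (hτ3 : ∀ k, τ k ^ 3 = 1) (hτc : ∀ k l, τ k * τ l = τ l * τ k)
    (hτn : ∀ i k, σ (y i) * τ k * (σ (y i))⁻¹ ∈ Subgroup.closure (Set.range τ))
    (hi : σ (y 6) * (σ (uword y))⁻¹ ∈ Subgroup.closure (Set.range τ))
    (hcard : 3 ^ 5 * 51840 ≤ Nat.card (Subgroup.closure (Set.range fun i => σ (y i))))
    (L : Subgroup Γ) (hLS : L ≤ Subgroup.closure (Set.range y)) (hLcard : Nat.card L ≤ 51840)
    (hLy : ∀ i : Fin 6, y i.castSucc ∈ L) (hLu : uword y ∈ L)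
    (hbr : uword y * y 1 * uword y = y 1 * uword y * y 1) :
    ∀ x ∈ Subgroup.closure (Set.range y), σ x = 1 → x = 1 := by
  classical
  obtain ⟨hNfin, hNcard⟩ := card_closure_le τ hτ3 hτc
  have hy2 : ∀ i, y i * y i = 1 := by
    intro i
    have := hy i i
    simpa [m7] using this
  have hcen : ∀ z ∈ σ.ker, ∀ x, z * x = x * z := by
    intro z hz x
    exact ((Subgroup.mem_center_iff.mp (hc hz)) x).symm
  -- `N` is commutative of exponent 3
  have hcommτ : ∀ x ∈ Set.range τ, ∀ y ∈ Set.range τ, x * y = y * x := by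
    rintro _ ⟨k, rfl⟩ _ ⟨l, rfl⟩
    exact hτc k l
  have hNc : ∀ a ∈ Subgroup.closure (Set.range τ), ∀ b ∈ Subgroup.closure (Set.range τ),
      a * b = b * a := by
    intro a ha b hb
    haveI := Subgroup.isMulCommutative_closure hcommτ
    exact Subgroup.mul_comm_of_mem_isMulCommutative _ ha hb
  have hN3 : ∀ a ∈ Subgroup.closure (Set.range τ), a ^ 3 = 1 := by
    intro a ha
    induction ha using Subgroup.closure_induction with
    | mem x hx => obtain ⟨k, rfl⟩ := hx; exact hτ3 k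
    | one => simp
    | mul x y hx hy ihx ihy =>
      rw [(show Commute x y from hNc x hx y hy).mul_pow, ihx, ihy, one_mul]
    | inv x _ ihx => rw [inv_pow, ihx, inv_one]
  -- `σ(St)` normalises `N`
  have hnorm : ∀ x ∈ Subgroup.closure (Set.range y),
      σ x ∈ Subgroup.normalizer ((Subgroup.closure (Set.range τ) : Subgroup G) : Set G) := by
    have : Subgroup.closure (Set.range y) ≤
        (Subgroup.normalizer ((Subgroup.closure (Set.range τ) : Subgroup G) : Set G)).comap σ := by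
      rw [Subgroup.closure_le]
      rintro _ ⟨i, rfl⟩
      rw [SetLike.mem_coe, Subgroup.mem_comap]
      apply mem_normalizer_of_invol
      · rw [← map_mul, hy2, map_one]
      · rintro _ ⟨k, rfl⟩
        exact hτn i k
    exact fun x hx => this hx
  have hconj : ∀ x ∈ Subgroup.closure (Set.range y), ∀ n ∈ Subgroup.closure (Set.range τ),
      σ x * n * (σ x)⁻¹ ∈ Subgroup.closure (Set.range τ) := by
    intro x hx n hn
    exact (Subgroup.mem_normalizer_iff.mp (hnorm x hx) n).mp hn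
  -- the preimage of `N` in `St` is abelian
  have hNt_comm : ∀ a b : Γ, σ a ∈ Subgroup.closure (Set.range τ) →
      σ b ∈ Subgroup.closure (Set.range τ) → a * b = b * a := by
    intro a b ha hb
    set c := a * b * a⁻¹ * b⁻¹ with hcdef
    have hcker : c ∈ σ.ker := by
      rw [MonoidHom.mem_ker, hcdef, map_mul, map_mul, map_mul, map_inv, map_inv, hNc _ ha _ hb]
      group
    have ha3 : a ^ 3 ∈ σ.ker := by
      rw [MonoidHom.mem_ker, map_pow, hN3 _ ha]
    have h1 : a * b * a⁻¹ = c * b := by rw [hcdef]; group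
    have h2 := conj_pow_central a b c (hcen c hcker) h1 3
    have h4 : a ^ 3 * b * (a ^ 3)⁻¹ = b := by
      rw [hcen _ ha3 b, mul_assoc, mul_inv_cancel, mul_one]
    rw [h4] at h2
    have h5 : c ^ 3 = 1 := by
      have : c ^ 3 * b = 1 * b := by rw [one_mul]; exact h2.symm
      exact mul_right_cancel this
    have h6 : c = 1 := h3 c hcker h5
    have : a * b * a⁻¹ = b := by rw [h1, h6, one_mul]
    calc a * b = a * b * a⁻¹ * a := by group
      _ = b * a := by rw [this]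
  -- the 3-torsion subgroup `N0`
  let N0 : Subgroup Γ :=
    { carrier := {a | a ∈ Subgroup.closure (Set.range y) ∧ σ a ∈ Subgroup.closure (Set.range τ) ∧ a ^ 3 = 1}
      one_mem' := ⟨Subgroup.one_mem _, by rw [map_one]; exact Subgroup.one_mem _, one_pow 3⟩
      mul_mem' := by
        rintro a b ⟨ha1, ha2, ha3⟩ ⟨hb1, hb2, hb3⟩
        refine ⟨Subgroup.mul_mem _ ha1 hb1, by rw [map_mul]; exact Subgroup.mul_mem _ ha2 hb2, ?_⟩
        rw [(show Commute a b from hNt_comm a b ha2 hb2).mul_pow, ha3, hb3, one_mul]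
      inv_mem' := by
        rintro a ⟨ha1, ha2, ha3⟩
        exact ⟨Subgroup.inv_mem _ ha1, by rw [map_inv]; exact Subgroup.inv_mem _ ha2,
          by rw [inv_pow, ha3, inv_one]⟩ }
  have hN0mem : ∀ a, a ∈ N0 ↔ (a ∈ Subgroup.closure (Set.range y) ∧
      σ a ∈ Subgroup.closure (Set.range τ) ∧ a ^ 3 = 1) := fun a => Iff.rfl
  have hN0norm : ∀ x ∈ Subgroup.closure (Set.range y), ∀ a ∈ N0, x * a * x⁻¹ ∈ N0 := by
    rintro x hx a ⟨ha1, ha2, ha3⟩
    refine ⟨Subgroup.mul_mem _ (Subgroup.mul_mem _ hx ha1) (Subgroup.inv_mem _ hx), ?_, ?_⟩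
    · rw [map_mul, map_mul, map_inv]; exact hconj x hx _ ha2
    · rw [conj_pow, ha3, mul_one, mul_inv_cancel]
  have hN0ker : ∀ a ∈ N0, σ a = 1 → a = 1 := by
    rintro a ⟨_, _, ha3⟩ ha
    exact h3 a (MonoidHom.mem_ker.mpr ha) ha3
  have hN0card : Nat.card N0 ≤ 3 ^ 5 := by
    let f : N0 → Subgroup.closure (Set.range τ) := fun a => ⟨σ a.1, a.2.2.1⟩
    have hf : Function.Injective f := by
      intro a b hab
      have h1 : σ a.1 = σ b.1 := congrArg Subtype.val hab
      have h2 : a.1 * b.1⁻¹ ∈ N0 := N0.mul_mem a.2 (N0.inv_mem b.2)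
      have h4 : a.1 * b.1⁻¹ = 1 := hN0ker _ h2 (by rw [map_mul, map_inv, h1, mul_inv_cancel])
      exact Subtype.ext (mul_inv_eq_one.mp h4)
    exact (Nat.card_le_card_of_injective f hf).trans hNcard
  -- decomposition of `Ñ`
  have hdec : ∀ a ∈ Subgroup.closure (Set.range y), σ a ∈ Subgroup.closure (Set.range τ) →
      ∃ n0 ∈ N0, ∃ ζ ∈ σ.ker, a = n0 * ζ := by
    intro a ha1 ha2
    let ZS : Subgroup Γ := Subgroup.closure (Set.range y) ⊓ σ.ker
    have hcop : (Nat.card ZS).Coprime 3 := by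
      rw [Nat.coprime_comm, Nat.Prime.coprime_iff_not_dvd Nat.prime_three]
      intro hdvd
      haveI : Fact (Nat.Prime 3) := ⟨Nat.prime_three⟩
      obtain ⟨x, hx⟩ := exists_prime_orderOf_dvd_card' 3 hdvd
      have hx3 : x.1 ^ 3 = 1 := by
        have := pow_orderOf_eq_one x
        rw [hx] at this
        exact congrArg Subtype.val this
      have hx1 : x.1 = 1 := h3 x.1 x.2.2 hx3
      have : x = 1 := Subtype.ext hx1
      rw [this, orderOf_one] at hx
      norm_num at hx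
    have ha3 : a ^ 3 ∈ ZS := ⟨Subgroup.pow_mem _ ha1 3, MonoidHom.mem_ker.mpr (by
      rw [map_pow, hN3 _ ha2])⟩
    obtain ⟨w, hw⟩ := (powCoprime hcop).surjective ⟨a ^ 3, ha3⟩
    have hw3 : w.1 ^ 3 = a ^ 3 := congrArg Subtype.val hw
    refine ⟨a * w.1⁻¹, ⟨Subgroup.mul_mem _ ha1 (Subgroup.inv_mem _ w.2.1), ?_, ?_⟩, w.1, w.2.2, by group⟩
    · rw [map_mul, map_inv, MonoidHom.mem_ker.mp w.2.2, inv_one, mul_one]; exact ha2
    · have hcm : Commute a w.1⁻¹ := by
        have := hcen w.1 w.2.2 a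
        exact (Commute.inv_right (show Commute a w.1 from this.symm))
      rw [hcm.mul_pow, inv_pow, hw3, mul_inv_cancel]
  -- the key element
  have hu_mem : uword y ∈ Subgroup.closure (Set.range y) := hLS hLu
  have hy_mem : ∀ i, y i ∈ Subgroup.closure (Set.range y) := fun i => Subgroup.subset_closure ⟨i, rfl⟩
  obtain ⟨n0, hn0, ζ, hζ, hdecomp⟩ := hdec (y 6 * (uword y)⁻¹)
    (Subgroup.mul_mem _ (hy_mem 6) (Subgroup.inv_mem _ hu_mem))
    (by rw [map_mul, map_inv]; exact hi)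
  have hy6 : y 6 = n0 * ζ * uword y := by
    rw [← hdecomp]; group
  have hζc : ∀ x, ζ * x = x * ζ := hcen ζ hζ
  -- braid relation of `y 6` and `y 1`
  have hbr61 : y 6 * y 1 * y 6 = y 1 * y 6 * y 1 := by
    have h := hy 6 1
    have hm : m7 6 1 = 3 := by decide
    rw [hm] at h
    have e6 : (y 6)⁻¹ = y 6 := inv_eq_of_mul_eq_one_left (hy2 6)
    have e1 : (y 1)⁻¹ = y 1 := inv_eq_of_mul_eq_one_left (hy2 1)
    have : y 6 * y 1 * y 6 = (y 6 * y 1) ^ 3 * (y 1)⁻¹ * (y 6)⁻¹ * (y 1)⁻¹ := by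
      rw [pow_succ, pow_two]; group
    rw [this, h, e1, e6]; group
  set u := uword y with hudef
  have hζN0 : ζ ∈ N0 := by
    have hn0' : (u * y 1) * n0 * (u * y 1)⁻¹ ∈ N0 :=
      hN0norm _ (Subgroup.mul_mem _ hu_mem (hy_mem 1)) _ hn0
    have hn0'' : y 1 * n0 * (y 1)⁻¹ ∈ N0 := hN0norm _ (hy_mem 1) _ hn0
    have hL : y 6 * y 1 * y 6 = ζ * (ζ * (n0 * ((u * y 1) * n0 * (u * y 1)⁻¹) * (u * y 1 * u))) := by
      rw [hy6]
      have e1 : n0 * ζ * u * y 1 * (n0 * ζ * u) = n0 * (ζ * (u * y 1 * n0)) * (ζ * u) := by group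
      rw [e1, hζc (u * y 1 * n0), hζc u]
      have e2 : n0 * (u * y 1 * n0 * ζ) * (u * ζ) = n0 * (u * y 1 * n0) * (ζ * u) * ζ := by group
      rw [e2, hζc u]
      have e3 : n0 * (u * y 1 * n0) * (u * ζ) * ζ = n0 * (u * y 1 * n0 * u) * ζ * ζ := by group
      rw [e3, ← hζc (n0 * (u * y 1 * n0 * u)), mul_assoc, ← hζc (n0 * (u * y 1 * n0 * u))]
      congr 2
      group
    have hR : y 1 * y 6 * y 1 = ζ * ((y 1 * n0 * (y 1)⁻¹) * (y 1 * u * y 1)) := by
      rw [hy6]
      have e1 : y 1 * (n0 * ζ * u) * y 1 = (y 1 * n0) * ζ * (u * y 1) := by group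
      rw [e1, ← hζc (y 1 * n0), mul_assoc]
      congr 1
      group
    rw [hL, hR, hbr] at hbr61
    have h1 := mul_left_cancel hbr61
    rw [← mul_assoc] at h1
    have h2 := mul_right_cancel h1
    -- ζ * n0 * n0' = n0''
    have h3' : ζ = (y 1 * n0 * (y 1)⁻¹) * (n0 * ((u * y 1) * n0 * (u * y 1)⁻¹))⁻¹ := by
      rw [← h2]; group
    rw [h3']
    exact N0.mul_mem hn0'' (N0.inv_mem (N0.mul_mem hn0 hn0'))
  have hζ1 : ζ = 1 := hN0ker ζ hζN0 (MonoidHom.mem_ker.mp hζ)
  have hy6' : y 6 = n0 * u := by rw [hy6, hζ1, mul_one]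
  -- `St = N0 * L`
  have hprod : ∀ x ∈ Subgroup.closure (Set.range y), ∃ n ∈ N0, ∃ l ∈ L, x = n * l := by
    intro x hx
    induction hx using Subgroup.closure_induction with
    | mem x hx =>
      obtain ⟨i, rfl⟩ := hx
      by_cases h6 : i = 6
      · subst h6
        exact ⟨n0, hn0, u, hLu, hy6'⟩
      · have hlt : i.val < 6 := by
          have := i.2
          have h7 : i.val ≠ 6 := fun h => h6 (Fin.ext h)
          omega
        refine ⟨1, N0.one_mem, y i, ?_, (one_mul _).symm⟩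
        have := hLy ⟨i.val, hlt⟩
        simpa using this
    | one => exact ⟨1, N0.one_mem, 1, L.one_mem, (one_mul 1).symm⟩
    | mul a b _ _ iha ihb =>
      obtain ⟨n, hn, l, hl, rfl⟩ := iha
      obtain ⟨n', hn', l', hl', rfl⟩ := ihb
      refine ⟨n * (l * n' * l⁻¹), N0.mul_mem hn (hN0norm l (hLS hl) n' hn'), l * l', L.mul_mem hl hl', by group⟩
    | inv a _ iha =>
      obtain ⟨n, hn, l, hl, rfl⟩ := iha
      refine ⟨l⁻¹ * n⁻¹ * (l⁻¹)⁻¹, hN0norm l⁻¹ (Subgroup.inv_mem _ (hLS hl)) n⁻¹ (N0.inv_mem hn),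
        l⁻¹, L.inv_mem hl, by group⟩
  have hN0le : N0 ≤ Subgroup.closure (Set.range y) := fun a ha => ha.1
  have hStcard : Nat.card (Subgroup.closure (Set.range y)) ≤ 3 ^ 5 * 51840 := by
    let f : N0 × L → Subgroup.closure (Set.range y) :=
      fun p => ⟨p.1.1 * p.2.1, Subgroup.mul_mem _ (hN0le p.1.2) (hLS p.2.2)⟩
    have hf : Function.Surjective f := by
      rintro ⟨x, hx⟩
      obtain ⟨n, hn, l, hl, rfl⟩ := hprod x hx
      exact ⟨(⟨n, hn⟩, ⟨l, hl⟩), rfl⟩
    have h1 := Nat.card_le_card_of_surjective f hf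
    rw [Nat.card_prod] at h1
    exact h1.trans (Nat.mul_le_mul hN0card hLcard)
  -- `σ` is injective on `St`
  have hmap : Subgroup.closure (Set.range fun i => σ (y i)) = (Subgroup.closure (Set.range y)).map σ := by
    rw [MonoidHom.map_closure, ← Set.range_comp]
    rfl
  rw [hmap] at hcard
  let g : Subgroup.closure (Set.range y) → (Subgroup.closure (Set.range y)).map σ :=
    fun x => ⟨σ x.1, Subgroup.mem_map_of_mem σ x.2⟩
  have hg : Function.Surjective g := by
    rintro ⟨_, x, hx, rfl⟩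
    exact ⟨⟨x, hx⟩, rfl⟩
  have hgb := hg.bijective_of_nat_card_le (hStcard.trans hcard)
  intro x hx hσx
  have : g ⟨x, hx⟩ = g ⟨1, Subgroup.one_mem _⟩ := by
    apply Subtype.ext
    show σ x = σ 1
    rw [hσx, map_one]
  exact congrArg Subtype.val (hgb.1 this)

/-- **PKG D2**, with the statement of E6W as a hypothesis. -/
theorem d2_of
    (hE6 : ∀ (s : Fin 7 → CoxeterMatrix.E₆.Group),
      (∀ i : Fin 6, s (Fin.castSucc i) = CoxeterMatrix.E₆.toCoxeterSystem.simple i) →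
      uword s * s 1 * uword s = s 1 * uword s * s 1)
    {G : Type} [Group G] {Γ : Type} [Group Γ] [Finite Γ] (σ : Γ →* G)
    (hc : σ.ker ≤ Subgroup.center Γ) (h3 : ∀ z ∈ σ.ker, z ^ 3 = 1 → z = 1)
    (y : Fin 7 → Γ) (hy : ∀ i j, (y i * y j) ^ m7 i j = 1)
    (τ : Fin 5 → G) (hτ3 : ∀ k, τ k ^ 3 = 1) (hτc : ∀ k l, τ k * τ l = τ l * τ k)
    (hτn : ∀ i k, σ (y i) * τ k * (σ (y i))⁻¹ ∈ Subgroup.closure (Set.range τ))
    (hi : σ (y 6) * (σ (uword y))⁻¹ ∈ Subgroup.closure (Set.range τ))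
    (hcard : 3 ^ 5 * 51840 ≤ Nat.card (Subgroup.closure (Set.range fun i => σ (y i)))) :
    ∀ x ∈ Subgroup.closure (Set.range y), σ x = 1 → x = 1 := by
  obtain ⟨L, hLS, hLcard, hLy, hLu, hbr⟩ := e6_part hE6 y hy
  exact d2_core σ hc h3 y hy τ hτ3 hτc hτn hi hcard L hLS hLcard hLy hLu hbr

/-- **PKG D2** (L, uses E6W).  See section D of pending/helper19/S2054_proof.md.  `σ` has central kernel without 3-torsion; `y 0 .. y 6`
involutions with the affine E6 Coxeter relations; `τ 0 .. τ 4` commuting elements of order 3 of `G` whose closure `N` is normalised by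
the `σ (y i)`; `σ (y 6) ∈ N * σ (uword y)`; `|σ(S~)| ≥ 3^5 * 51840`.  Then `σ` is injective on `S~ = closure (range y)`. -/
theorem d2 {G : Type} [Group G] {Γ : Type} [Group Γ] [Finite Γ] (σ : Γ →* G)
    (hc : σ.ker ≤ Subgroup.center Γ) (h3 : ∀ z ∈ σ.ker, z ^ 3 = 1 → z = 1)
    (y : Fin 7 → Γ) (hy : ∀ i j, (y i * y j) ^ m7 i j = 1)
    (τ : Fin 5 → G) (hτ3 : ∀ k, τ k ^ 3 = 1) (hτc : ∀ k l, τ k * τ l = τ l * τ k)
    (hτn : ∀ i k, σ (y i) * τ k * (σ (y i))⁻¹ ∈ Subgroup.closure (Set.range τ))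
    (hi : σ (y 6) * (σ (uword y))⁻¹ ∈ Subgroup.closure (Set.range τ))
    (hcard : 3 ^ 5 * 51840 ≤ Nat.card (Subgroup.closure (Set.range fun i => σ (y i)))) :
    ∀ x ∈ Subgroup.closure (Set.range y), σ x = 1 → x = 1 :=
  d2_of Cfsg.Agent.Lib.Helper17_M23_E6W.e6_braid σ hc h3 y hy τ hτ3 hτc hτn hi hcard

end Cfsg.Agent.Lib.Helper45_M23_D2
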