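import Mathlib
import Cfsg.Agent.Lib.Helper20_PGroupRank3

/-!
# Odd `p`-groups: elements of order `p` centralizing a normal elementary abelian subgroup

`exists_central_mod_of_centralizing`: `p` odd, `P` a finite `p`-group, `R` a normal abelian subgroup
of exponent `p`, `x ∉ R` of order dividing `p` centralizing `R`.  Then some `w ∉ R` of order
dividing `p` centralizes `R` and is central modulo `R`; hence `R ⊔ ⟨w⟩` is a normal abelian
subgroup of exponent `p` and order `p * #R` (`exists_normal_extension`).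
-/

set_option autoImplicit false

namespace Cfsg.Agent.Lib.Helper45_NormalRank4a

open Cfsg.Agent.Lib.Helper20_PGroupOdd Cfsg.Agent.Lib.Helper20_PGroupRank3

universe u

theorem exists_central_mod_of_centralizing_aux (p : ℕ) [hpf : Fact p.Prime] (hp2 : p ≠ 2) :
    ∀ (n : ℕ) (P : Type u) [Group P] [Finite P], Nat.card P = n → IsPGroup p P →
      ∀ (R : Subgroup P), R.Normal → (∀ x ∈ R, ∀ y ∈ R, x * y = y * x) → (∀ x ∈ R, x ^ p = 1) →
      ∀ x : P, (∀ y ∈ R, y * x = x * y) → x ^ p = 1 → x ∉ R →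
      ∃ w : P, (∀ y ∈ R, y * w = w * y) ∧ w ^ p = 1 ∧ w ∉ R ∧ ∀ g : P, g * w * g⁻¹ * w⁻¹ ∈ R := by
  intro n
  induction n using Nat.strong_induction_on with
  | _ n ih =>
    intro P _ _ hcard hP R hRn hRc hRe x hxc hxp hxR
    by_cases htop : R ⊔ Subgroup.zpowers x = ⊤
    · obtain ⟨hXc, -⟩ := sup_zpowers_comm_exp R hRc hRe hxp hxc
      have hall : ∀ y : P, y ∈ R ⊔ Subgroup.zpowers x := fun y => by
        rw [htop]; exact Subgroup.mem_top y
      refine ⟨x, hxc, hxp, hxR, fun g => ?_⟩
      rw [hXc g (hall g) x (hall x), mul_inv_cancel_right, mul_inv_cancel]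
      exact one_mem _
    · obtain ⟨H, hHco, hXH⟩ := (eq_top_or_exists_le_coatom _).resolve_left htop
      have hnil : Group.IsNilpotent P := hP.isNilpotent
      have hHn : H.Normal :=
        Subgroup.NormalizerCondition.normal_of_coatom H
          Group.normalizerCondition_of_isNilpotent hHco
      have hRH : R ≤ H := le_sup_left.trans hXH
      have hxH : x ∈ H := hXH (Subgroup.mem_sup_right (Subgroup.mem_zpowers x))
      have hHlt : Nat.card H < n := by
        rw [← hcard]
        rcases (Subgroup.card_le_card_group (H := H)).lt_or_eq with hlt | heq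
        · exact hlt
        · exact absurd (Subgroup.eq_top_of_card_eq H heq) hHco.1
      have hHp : IsPGroup p H := hP.to_subgroup H
      obtain ⟨w₁, hw₁c, hw₁p, hw₁R, hw₁⟩ := ih _ hHlt H rfl hHp (R.subgroupOf H)
        inferInstance
        (by
          intro a ha b hb
          exact Subtype.ext (hRc a.1 ha b.1 hb))
        (by
          intro a ha
          exact Subtype.ext (by simpa using hRe a.1 ha))
        ⟨x, hxH⟩
        (by
          intro a ha
          exact Subtype.ext (hxc a.1 ha))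
        (Subtype.ext (by simpa using hxp))
        (fun hmem => hxR (Subgroup.mem_subgroupOf.mp hmem))
      -- translate to P
      have h1 : ∀ y ∈ R, y * (w₁ : P) = (w₁ : P) * y := by
        intro y hy
        have := hw₁c ⟨y, hRH hy⟩ (Subgroup.mem_subgroupOf.mpr hy)
        exact congrArg Subtype.val this
      have h2 : (w₁ : P) ^ p = 1 := by
        have := congrArg Subtype.val hw₁p
        simpa using this
      have h3 : (w₁ : P) ∉ R := fun hmem => hw₁R (Subgroup.mem_subgroupOf.mpr hmem)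
      have h4 : ∀ m ∈ H, m * (w₁ : P) * m⁻¹ * (w₁ : P)⁻¹ ∈ R := by
        intro m hm
        have := hw₁ ⟨m, hm⟩
        rw [Subgroup.mem_subgroupOf] at this
        simpa using this
      -- M = H ⊓ C_P(R)
      have hCn : (Subgroup.centralizer (R : Set P)).Normal := inferInstance
      set M : Subgroup P := H ⊓ Subgroup.centralizer (R : Set P) with hM
      have hMn : M.Normal := inferInstance
      have hMc : ∀ y ∈ R, ∀ m ∈ M, y * m = m * y := by
        intro y hy m hm
        exact (Subgroup.mem_centralizer_iff.mp hm.2 y hy)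
      have hw₁M : (w₁ : P) ∈ M := by
        refine ⟨w₁.2, ?_⟩
        show (w₁ : P) ∈ Subgroup.centralizer (R : Set P)
        rw [Subgroup.mem_centralizer_iff]
        intro y hy
        exact h1 y hy
      obtain ⟨w, hwM, hwR, hwp, hw⟩ :=
        lemmaA hp2 hP M R hMc hRe hw₁M h3 h2 (fun m hm => h4 m hm.1)
      exact ⟨w, fun y hy => hMc y hy w hwM, hwp, hwR, hw⟩

/-- **Alperin-type lemma.** -/
theorem exists_central_mod_of_centralizing {P : Type u} [Group P] [Finite P] {p : ℕ}
    [Fact p.Prime] (hp2 : p ≠ 2) (hP : IsPGroup p P) (R : Subgroup P) [hRn : R.Normal]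
    (hRc : ∀ x ∈ R, ∀ y ∈ R, x * y = y * x) (hRe : ∀ x ∈ R, x ^ p = 1)
    {x : P} (hxc : ∀ y ∈ R, y * x = x * y) (hxp : x ^ p = 1) (hxR : x ∉ R) :
    ∃ w : P, (∀ y ∈ R, y * w = w * y) ∧ w ^ p = 1 ∧ w ∉ R ∧ ∀ g : P, g * w * g⁻¹ * w⁻¹ ∈ R :=
  exists_central_mod_of_centralizing_aux p hp2 (Nat.card P) P rfl hP R hRn hRc hRe x hxc hxp hxR

/-- The resulting larger normal elementary abelian subgroup. -/
theorem exists_normal_extension {P : Type u} [Group P] [Finite P] {p : ℕ}
    [Fact p.Prime] (hp2 : p ≠ 2) (hP : IsPGroup p P) (R : Subgroup P) [hRn : R.Normal]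
    (hRc : ∀ x ∈ R, ∀ y ∈ R, x * y = y * x) (hRe : ∀ x ∈ R, x ^ p = 1)
    {x : P} (hxc : ∀ y ∈ R, y * x = x * y) (hxp : x ^ p = 1) (hxR : x ∉ R) :
    ∃ X : Subgroup P, X.Normal ∧ (∀ a ∈ X, ∀ b ∈ X, a * b = b * a) ∧ (∀ a ∈ X, a ^ p = 1) ∧
      Nat.card X = Nat.card R * p := by
  obtain ⟨w, hwc, hwp, hwR, hw⟩ :=
    exists_central_mod_of_centralizing hp2 hP R hRc hRe hxc hxp hxR
  have hw1 : w ≠ 1 := fun h1 => hwR (h1 ▸ one_mem _)
  have how : orderOf w = p := orderOf_eq_prime hwp hw1
  obtain ⟨hXc, hXe⟩ := sup_zpowers_comm_exp R hRc hRe hwp hwc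
  exact ⟨R ⊔ Subgroup.zpowers w, normal_sup_zpowers R hw, hXc, hXe,
    card_normal_sup_zpowers R how hwR⟩

end Cfsg.Agent.Lib.Helper45_NormalRank4a
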