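import Mathlib
import Cfsg.Agent.Lib.Helper20_PGroupRank3

/-!
# Odd `p`-groups: elementary abelian subgroups of order `p⁴` over a self-`Ω₁`-centralizing normal `p³`

`Setup p R z s r`: `R` normal elementary abelian of order `p³` in the `p`-group `P`, with a
`P`-central flag `⟨z⟩ < ⟨z⟩⟨s⟩ < R = ⟨z⟩⟨s⟩⟨r⟩`, such that every element of order dividing `p`
centralizing `R` lies in `R`.  Then every abelian subgroup of exponent `p` and order `p⁴` is normal
in `P` (`Setup.normal_of_card`).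
-/

set_option autoImplicit false
set_option linter.unusedSectionVars false

namespace Cfsg.Agent.Lib.Helper45_NormalRank4b

open Cfsg.Agent.Lib.Helper20_PGroupOdd Cfsg.Agent.Lib.Helper20_PGroupRank3

universe u

section
variable {P : Type u} [Group P]

/-- the middle term of the flag -/
def R2 (z s : P) : Subgroup P := Subgroup.zpowers z ⊔ Subgroup.zpowers s

structure Setup (p : ℕ) (R : Subgroup P) (z s r : P) : Prop where
  Rn : R.Normal
  Rc : ∀ x ∈ R, ∀ y ∈ R, x * y = y * x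
  Re : ∀ x ∈ R, x ^ p = 1
  Rcard : Nat.card R = p ^ 3
  zc : z ∈ Subgroup.center P
  zo : orderOf z = p
  so : orderOf s = p
  sz : s ∉ Subgroup.zpowers z
  sc : ∀ g : P, g * s * g⁻¹ * s⁻¹ ∈ Subgroup.zpowers z
  rR : r ∈ R
  r2 : r ∉ R2 z s
  rc : ∀ g : P, g * r * g⁻¹ * r⁻¹ ∈ R2 z s
  le : R2 z s ≤ R
  omega : ∀ x : P, (∀ y ∈ R, y * x = x * y) → x ^ p = 1 → x ∈ R

end

section Basic
variable {P : Type u} [Group P] [Finite P] {p : ℕ} [hpf : Fact p.Prime]
variable {R : Subgroup P} {z s r : P}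

theorem Setup.R2_normal (S : Setup p R z s r) : (R2 z s).Normal := by
  have hZn : (Subgroup.zpowers z).Normal :=
    Cfsg.Agent.Lib.Helper32_PGroup.normal_of_le_center _ (Subgroup.zpowers_le.mpr S.zc)
  exact normal_sup_zpowers (Subgroup.zpowers z) S.sc

theorem Setup.R2_card (S : Setup p R z s r) : Nat.card (R2 z s) = p ^ 2 :=
  card_sup_zpowers S.zc S.zo S.so S.sz

/-- commuting with `s` implies commuting with all of `R₂` -/
theorem Setup.comm_R2 (S : Setup p R z s r) {x : P} (hx : x * s = s * x) :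
    ∀ d ∈ R2 z s, x * d = d * x := by
  have h1 : Subgroup.zpowers z ≤ Subgroup.centralizer {x} := by
    rw [Subgroup.zpowers_le, Subgroup.mem_centralizer_singleton_iff]
    exact (Subgroup.mem_center_iff.mp S.zc x).symm
  have h2 : Subgroup.zpowers s ≤ Subgroup.centralizer {x} := by
    rw [Subgroup.zpowers_le, Subgroup.mem_centralizer_singleton_iff]
    exact hx.symm
  intro d hd
  have := (sup_le h1 h2) hd
  rw [Subgroup.mem_centralizer_singleton_iff] at this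
  exact this.symm

/-- `R = R₂⟨y⟩` for every `y ∈ R ∖ R₂` -/
theorem Setup.sup_eq (S : Setup p R z s r) {y : P} (hy : y ∈ R) (hy2 : y ∉ R2 z s) :
    R2 z s ⊔ Subgroup.zpowers y = R := by
  have hn := S.R2_normal
  have hy1 : y ≠ 1 := fun h => hy2 (h ▸ one_mem _)
  have hoy : orderOf y = p := orderOf_eq_prime (S.Re y hy) hy1
  have hle : R2 z s ⊔ Subgroup.zpowers y ≤ R := sup_le S.le (Subgroup.zpowers_le.mpr hy)
  apply Subgroup.eq_of_le_of_card_ge hle
  rw [card_normal_sup_zpowers (R2 z s) hoy hy2, S.R2_card, S.Rcard]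
  exact le_of_eq (by ring)

/-- commuting with `s` and with some `y ∈ R ∖ R₂` implies centralizing `R` -/
theorem Setup.comm_R (S : Setup p R z s r) {x y : P} (hy : y ∈ R) (hy2 : y ∉ R2 z s)
    (hxs : x * s = s * x) (hxy : x * y = y * x) : ∀ t ∈ R, t * x = x * t := by
  have h1 : R2 z s ≤ Subgroup.centralizer {x} := by
    intro d hd
    rw [Subgroup.mem_centralizer_singleton_iff]
    exact (S.comm_R2 hxs d hd).symm
  have h2 : Subgroup.zpowers y ≤ Subgroup.centralizer {x} := by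
    rw [Subgroup.zpowers_le, Subgroup.mem_centralizer_singleton_iff]
    exact hxy.symm
  intro t ht
  rw [← S.sup_eq hy hy2] at ht
  have := (sup_le h1 h2) ht
  rw [Subgroup.mem_centralizer_singleton_iff] at this
  exact this

/-- `R₂ = ⟨z⟩⟨d⟩` for every `d ∈ R₂ ∖ ⟨z⟩` -/
theorem Setup.R2_eq (S : Setup p R z s r) {d : P} (hd : d ∈ R2 z s)
    (hdz : d ∉ Subgroup.zpowers z) : Subgroup.zpowers z ⊔ Subgroup.zpowers d = R2 z s := by
  have hd1 : d ≠ 1 := fun h => hdz (h ▸ one_mem _)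
  have hod : orderOf d = p := orderOf_eq_prime (S.Re d (S.le hd)) hd1
  have hle : Subgroup.zpowers z ⊔ Subgroup.zpowers d ≤ R2 z s :=
    sup_le le_sup_left (Subgroup.zpowers_le.mpr hd)
  apply Subgroup.eq_of_le_of_card_ge hle
  rw [card_sup_zpowers S.zc S.zo hod hdz, S.R2_card]

/-- an element commuting with some `d ∈ R₂ ∖ ⟨z⟩` commutes with `s` -/
theorem Setup.comm_s (S : Setup p R z s r) {x d : P} (hd : d ∈ R2 z s)
    (hdz : d ∉ Subgroup.zpowers z) (hxd : x * d = d * x) : x * s = s * x := by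
  have h1 : Subgroup.zpowers z ≤ Subgroup.centralizer {x} := by
    rw [Subgroup.zpowers_le, Subgroup.mem_centralizer_singleton_iff]
    exact (Subgroup.mem_center_iff.mp S.zc x).symm
  have h2 : Subgroup.zpowers d ≤ Subgroup.centralizer {x} := by
    rw [Subgroup.zpowers_le, Subgroup.mem_centralizer_singleton_iff]
    exact hxd.symm
  have hs : s ∈ R2 z s := Subgroup.mem_sup_right (Subgroup.mem_zpowers s)
  rw [← S.R2_eq hd hdz] at hs
  have := (sup_le h1 h2) hs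
  rw [Subgroup.mem_centralizer_singleton_iff] at this
  exact this.symm

/-- conjugation identity: commuting `a`, `b` with `b` centralizing `[a,r]`, and `[a,r]`, `[b,r]`
commuting: then `a` centralizes `[b,r]`. -/
theorem comm_commutator {a b t : P} (hab : a * b = b * a)
    (hb : b * (a * t * a⁻¹ * t⁻¹) = (a * t * a⁻¹ * t⁻¹) * b)
    (hcc : (a * t * a⁻¹ * t⁻¹) * (b * t * b⁻¹ * t⁻¹) = (b * t * b⁻¹ * t⁻¹) * (a * t * a⁻¹ * t⁻¹)) :
    a * (b * t * b⁻¹ * t⁻¹) = (b * t * b⁻¹ * t⁻¹) * a := by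
  set ca := a * t * a⁻¹ * t⁻¹ with hca
  set cb := b * t * b⁻¹ * t⁻¹ with hcb
  have e1 : a * t * a⁻¹ = ca * t := by rw [hca]; group
  have e2 : b * t * b⁻¹ = cb * t := by rw [hcb]; group
  have hab' : a * b⁻¹ = b⁻¹ * a := by
    have : b⁻¹ * (a * b) * b⁻¹ = b⁻¹ * (b * a) * b⁻¹ := by rw [hab]
    have h2 : b⁻¹ * (a * b) * b⁻¹ = b⁻¹ * a := by group
    have h3 : b⁻¹ * (b * a) * b⁻¹ = a * b⁻¹ := by group
    rw [h2, h3] at this
    exact this.symm
  -- a cb a⁻¹ = b (a t a⁻¹) b⁻¹ (a t a⁻¹)⁻¹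
  have e3 : a * cb * a⁻¹ = b * (a * t * a⁻¹) * b⁻¹ * (a * t * a⁻¹)⁻¹ := by
    have h1 : a * cb * a⁻¹ = (a * b) * t * a⁻¹ * (a * b⁻¹) * a⁻¹ * (a * t⁻¹ * a⁻¹) := by
      rw [hcb]; group
    rw [h1, hab, hab']
    group
  have e4 : b * (ca * t) * b⁻¹ = ca * (cb * t) := by
    calc b * (ca * t) * b⁻¹ = (b * ca) * (t * b⁻¹) := by group
      _ = (ca * b) * (t * b⁻¹) := by rw [hb]
      _ = ca * (b * t * b⁻¹) := by group
      _ = ca * (cb * t) := by rw [e2]
  have e5 : a * cb * a⁻¹ = cb := by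
    rw [e3, e1, e4]
    calc ca * (cb * t) * (ca * t)⁻¹ = (ca * cb) * ca⁻¹ := by group
      _ = (cb * ca) * ca⁻¹ := by rw [hcc]
      _ = cb := by group
  calc a * cb = (a * cb * a⁻¹) * a := by group
    _ = cb * a := by rw [e5]

/-- the commutator-with-`r` homomorphism on a subgroup centralizing `s` -/
def Setup.phi (S : Setup p R z s r) (B : Subgroup P) (hB : ∀ b ∈ B, b * s = s * b) :
    ↥B →* ↥(R2 z s) :=
  MonoidHom.mk' (fun b => ⟨(b : P) * r * (b : P)⁻¹ * r⁻¹, S.rc b⟩) (by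
    intro a b
    apply Subtype.ext
    have hcb : (b : P) * r * (b : P)⁻¹ * r⁻¹ ∈ R2 z s := S.rc b
    have hca : (a : P) * r * (a : P)⁻¹ * r⁻¹ ∈ R2 z s := S.rc a
    have h1 : (a : P) * ((b : P) * r * (b : P)⁻¹ * r⁻¹) = ((b : P) * r * (b : P)⁻¹ * r⁻¹) * a :=
      S.comm_R2 (hB a a.2) _ hcb
    have h2 := S.Rc _ (S.le hca) _ (S.le hcb)
    show ((a : P) * (b : P)) * r * ((a : P) * (b : P))⁻¹ * r⁻¹
      = ((a : P) * r * (a : P)⁻¹ * r⁻¹) * ((b : P) * r * (b : P)⁻¹ * r⁻¹)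
    calc ((a : P) * (b : P)) * r * ((a : P) * (b : P))⁻¹ * r⁻¹
        = ((a : P) * ((b : P) * r * (b : P)⁻¹ * r⁻¹)) * (r * (a : P)⁻¹ * r⁻¹) := by group
      _ = (((b : P) * r * (b : P)⁻¹ * r⁻¹) * a) * (r * (a : P)⁻¹ * r⁻¹) := by rw [h1]
      _ = ((b : P) * r * (b : P)⁻¹ * r⁻¹) * ((a : P) * r * (a : P)⁻¹ * r⁻¹) := by group
      _ = ((a : P) * r * (a : P)⁻¹ * r⁻¹) * ((b : P) * r * (b : P)⁻¹ * r⁻¹) := h2.symm)

theorem Setup.phi_apply (S : Setup p R z s r) (B : Subgroup P) (hB : ∀ b ∈ B, b * s = s * b)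
    (b : ↥B) : ((S.phi B hB b : ↥(R2 z s)) : P) = (b : P) * r * (b : P)⁻¹ * r⁻¹ := rfl

theorem Setup.mem_phi_ker (S : Setup p R z s r) (B : Subgroup P)
    (hB : ∀ b ∈ B, b * s = s * b) (b : ↥B) :
    b ∈ (S.phi B hB).ker ↔ (b : P) * r = r * (b : P) := by
  rw [MonoidHom.mem_ker]
  constructor
  · intro h
    have h1 : (b : P) * r * (b : P)⁻¹ * r⁻¹ = 1 := by
      have := congrArg Subtype.val h
      simpa [Setup.phi_apply] using this
    calc (b : P) * r = ((b : P) * r * (b : P)⁻¹ * r⁻¹) * r * b := by group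
      _ = r * b := by rw [h1, one_mul]
  · intro h
    apply Subtype.ext
    show (b : P) * r * (b : P)⁻¹ * r⁻¹ = 1
    rw [h]; group

/-- `#B ≤ #(B ⊓ C(r)) · #range` -/
theorem Setup.card_le (S : Setup p R z s r) (B : Subgroup P)
    (hB : ∀ b ∈ B, b * s = s * b) :
    Nat.card B = Nat.card (S.phi B hB).ker * Nat.card (S.phi B hB).range ∧
      Nat.card (S.phi B hB).ker ≤ Nat.card ↥(B ⊓ Subgroup.centralizer {r}) := by
  constructor
  · rw [← Subgroup.index_ker, Subgroup.card_mul_index]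
  · refine Nat.card_le_card_of_injective
      (fun k : (S.phi B hB).ker => (⟨((k : ↥B) : P), ⟨(k : ↥B).2, ?_⟩⟩ :
        ↥(B ⊓ Subgroup.centralizer {r}))) ?_
    · show ((k : ↥B) : P) ∈ Subgroup.centralizer {r}
      rw [Subgroup.mem_centralizer_singleton_iff]
      exact (S.mem_phi_ker B hB k).mp k.2
    · intro k k' h
      have := congrArg Subtype.val h
      exact Subtype.ext (Subtype.ext this)

end Basic

section Analysis
variable {P : Type u} [Group P] [Finite P] {p : ℕ} [hpf : Fact p.Prime]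
variable {R : Subgroup P} {z s r : P}

theorem Setup.analysis (S : Setup p R z s r) (hP : IsPGroup p P) (A : Subgroup P)
    (hAc : ∀ x ∈ A, ∀ y ∈ A, x * y = y * x) (hAe : ∀ x ∈ A, x ^ p = 1)
    (hAcard : Nat.card A = p ^ 4) :
    (∀ a ∈ A, a * s = s * a) ∧ A ⊓ R = R2 z s ∧
      ∀ d ∈ R2 z s, ∃ a ∈ A, a * r * a⁻¹ * r⁻¹ = d := by
  have hpP : p.Prime := hpf.out
  have hp1 : 1 < p := hpP.one_lt
  have hp0 : 0 < p := hpP.pos
  have h23 : p ^ 2 < p ^ 3 := Nat.pow_lt_pow_right hp1 (by norm_num)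
  have h34 : p ^ 3 < p ^ 4 := Nat.pow_lt_pow_right hp1 (by norm_num)
  have hr2 := S.r2
  -- elements of A centralizing R lie in D
  have h0 : ∀ a ∈ A, (∀ y ∈ R, y * a = a * y) → a ∈ A ⊓ R :=
    fun a ha hc => ⟨ha, S.omega a hc (hAe a ha)⟩
  have h0' : ∀ a ∈ A, a * s = s * a → a * r = r * a → a ∈ A ⊓ R :=
    fun a ha h1 h2 => h0 a ha (S.comm_R S.rR hr2 h1 h2)
  have hDcard : Nat.card ↥(A ⊓ R) ≤ p ^ 2 := by
    by_contra hlt
    push Not at hlt
    obtain ⟨k, hk⟩ := IsPGroup.iff_card.mp (hP.to_subgroup (A ⊓ R))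
    have hk3 : 3 ≤ k := by
      by_contra h
      push Not at h
      have : p ^ k ≤ p ^ 2 := Nat.pow_le_pow_right hp0 (by omega)
      omega
    have hDR : A ⊓ R = R :=
      Subgroup.eq_of_le_of_card_ge inf_le_right
        (by rw [S.Rcard, hk]; exact Nat.pow_le_pow_right hp0 hk3)
    have hRA : R ≤ A := by rw [← hDR]; exact inf_le_left
    have hAD : A ≤ A ⊓ R := fun a ha => h0 a ha (fun y hy => hAc y (hRA hy) a ha)
    have h1 := Subgroup.card_le_of_le hAD
    have h2 : Nat.card ↥(A ⊓ R) ≤ Nat.card R := Subgroup.card_le_of_le inf_le_right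
    rw [hAcard] at h1
    rw [S.Rcard] at h2
    omega
  set ψ := commHom S.zc S.sc with hψ
  have hψmem : ∀ g : P, g ∈ ψ.ker ↔ g * s = s * g := mem_commHom_ker S.zc S.sc
  -- (F2)
  have hF2 : ∀ a ∈ A, a * s = s * a := by
    by_contra hcon
    push Not at hcon
    obtain ⟨a₀, ha₀, ha₀s⟩ := hcon
    have hA₂s : ∀ b ∈ A ⊓ ψ.ker, b * s = s * b := fun b hb => (hψmem b).mp hb.2
    have hA₂card : Nat.card A ≤ Nat.card ↥(A ⊓ ψ.ker) * p := by
      have h1 := Subgroup.relIndex_mul_relIndex (⊥ : Subgroup P) (A ⊓ ψ.ker) A bot_le inf_le_left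
      rw [Subgroup.relIndex_bot_left, Subgroup.relIndex_bot_left, Subgroup.inf_relIndex_left,
        Subgroup.relIndex_ker] at h1
      rw [← h1]
      apply Nat.mul_le_mul_left
      have h2 : Nat.card ↥(A.map ψ) ≤ Nat.card ↥(Subgroup.zpowers z) :=
        Subgroup.card_le_card_group (A.map ψ)
      rwa [Nat.card_zpowers, S.zo] at h2
    have hA₂ge : p ^ 3 ≤ Nat.card ↥(A ⊓ ψ.ker) := by
      rw [hAcard] at hA₂card
      have h2 : p ^ 4 = p ^ 3 * p := by ring
      rw [h2] at hA₂card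
      exact Nat.le_of_mul_le_mul_right hA₂card hp0
    obtain ⟨hc1, hc2⟩ := S.card_le (A ⊓ ψ.ker) hA₂s
    -- range lies in ⟨z⟩
    have hrange : Nat.card (S.phi (A ⊓ ψ.ker) hA₂s).range ≤ p := by
      have hle : (S.phi (A ⊓ ψ.ker) hA₂s).range ≤ (Subgroup.zpowers z).subgroupOf (R2 z s) := by
        rintro _ ⟨b, rfl⟩
        rw [Subgroup.mem_subgroupOf, Setup.phi_apply]
        by_contra hnz
        have hbA : (b : P) ∈ A := b.2.1
        have hbs : (b : P) * s = s * (b : P) := hA₂s b b.2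
        have hcb : (b : P) * r * (b : P)⁻¹ * r⁻¹ ∈ R2 z s := S.rc b
        have hca : a₀ * r * a₀⁻¹ * r⁻¹ ∈ R2 z s := S.rc a₀
        have hcomm : a₀ * ((b : P) * r * (b : P)⁻¹ * r⁻¹)
            = ((b : P) * r * (b : P)⁻¹ * r⁻¹) * a₀ :=
          comm_commutator (hAc a₀ ha₀ b hbA) (S.comm_R2 hbs _ hca)
            (S.Rc _ (S.le hca) _ (S.le hcb))
        exact ha₀s (S.comm_s hcb hnz hcomm)
      have h1 := Subgroup.card_le_of_le hle
      have h2 : Nat.card ↥((Subgroup.zpowers z).subgroupOf (R2 z s)) ≤ p := by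
        have hzle : Subgroup.zpowers z ≤ R2 z s := le_sup_left
        rw [Nat.card_congr (Subgroup.subgroupOfEquivOfLe hzle).toEquiv, Nat.card_zpowers, S.zo]
      exact h1.trans h2
    -- D₂ = A₂ ⊓ C(r) ≤ D
    have hD₂le : A ⊓ ψ.ker ⊓ Subgroup.centralizer {r} ≤ A ⊓ R := by
      intro b hb
      have hbr : b * r = r * b := Subgroup.mem_centralizer_singleton_iff.mp hb.2
      exact h0' b hb.1.1 (hA₂s b hb.1) hbr
    have hD₂card : p ^ 2 ≤ Nat.card ↥(A ⊓ ψ.ker ⊓ Subgroup.centralizer {r}) := by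
      have h1 : p ^ 3 ≤ Nat.card ↥(A ⊓ ψ.ker ⊓ Subgroup.centralizer {r}) * p := by
        calc p ^ 3 ≤ Nat.card ↥(A ⊓ ψ.ker) := hA₂ge
          _ = Nat.card (S.phi (A ⊓ ψ.ker) hA₂s).ker * Nat.card (S.phi (A ⊓ ψ.ker) hA₂s).range :=
              hc1
          _ ≤ Nat.card ↥(A ⊓ ψ.ker ⊓ Subgroup.centralizer {r}) * p :=
              Nat.mul_le_mul hc2 hrange
      have h2 : p ^ 3 = p ^ 2 * p := by ring
      rw [h2] at h1
      exact Nat.le_of_mul_le_mul_right h1 hp0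
    have hD₂eq : A ⊓ ψ.ker ⊓ Subgroup.centralizer {r} = A ⊓ R :=
      Subgroup.eq_of_le_of_card_ge hD₂le (hDcard.trans hD₂card)
    have hDc : Nat.card ↥(A ⊓ R) = p ^ 2 := le_antisymm hDcard (by rw [← hD₂eq]; exact hD₂card)
    have hDs : ∀ x ∈ A ⊓ R, x * s = s * x := by
      intro x hx
      rw [← hD₂eq] at hx
      exact hA₂s x hx.1
    have hsR2 : s ∈ R2 z s := Subgroup.mem_sup_right (Subgroup.mem_zpowers s)
    have hsD : s ∉ A ⊓ R := fun hs => ha₀s (hAc a₀ ha₀ s hs.1)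
    have hnle : ¬ A ⊓ R ≤ R2 z s := by
      intro hle
      have heq : A ⊓ R = R2 z s :=
        Subgroup.eq_of_le_of_card_ge hle (by rw [S.R2_card, hDc])
      exact hsD (heq ▸ hsR2)
    obtain ⟨x, hxD, hx2⟩ := SetLike.not_le_iff_exists.mp hnle
    have hA₂D : A ⊓ ψ.ker ≤ A ⊓ R := by
      intro b hb
      exact h0 b hb.1 (S.comm_R hxD.2 hx2 (hA₂s b hb) (hAc b hb.1 x hxD.1))
    have := Subgroup.card_le_of_le hA₂D
    omega
  -- now the hom on A
  obtain ⟨hc1, hc2⟩ := S.card_le A hF2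
  have hD₃le : A ⊓ Subgroup.centralizer {r} ≤ A ⊓ R := by
    intro b hb
    exact h0' b hb.1 (hF2 b hb.1) (Subgroup.mem_centralizer_singleton_iff.mp hb.2)
  have hker : Nat.card (S.phi A hF2).ker ≤ p ^ 2 :=
    hc2.trans ((Subgroup.card_le_of_le hD₃le).trans hDcard)
  have hrange : Nat.card (S.phi A hF2).range ≤ p ^ 2 := by
    rw [← S.R2_card]
    exact Subgroup.card_le_card_group _
  have hmul : p ^ 4 = Nat.card (S.phi A hF2).ker * Nat.card (S.phi A hF2).range := by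
    rw [← hAcard]; exact hc1
  have h44 : p ^ 4 = p ^ 2 * p ^ 2 := by ring
  have hker2 : Nat.card (S.phi A hF2).ker = p ^ 2 := by
    apply le_antisymm hker
    by_contra hlt
    push Not at hlt
    have : Nat.card (S.phi A hF2).ker * Nat.card (S.phi A hF2).range < p ^ 2 * p ^ 2 :=
      Nat.mul_lt_mul_of_lt_of_le hlt hrange (by positivity)
    omega
  have hrange2 : Nat.card (S.phi A hF2).range = p ^ 2 := by
    rw [hker2, h44] at hmul
    exact (Nat.eq_of_mul_eq_mul_left (by positivity) hmul).symm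
  have hDc : Nat.card ↥(A ⊓ R) = p ^ 2 := by
    apply le_antisymm hDcard
    rw [← hker2]
    exact hc2.trans (Subgroup.card_le_of_le hD₃le)
  have hDle : A ⊓ R ≤ R2 z s := by
    by_contra hnle
    obtain ⟨x, hxD, hx2⟩ := SetLike.not_le_iff_exists.mp hnle
    have hAD : A ≤ A ⊓ R := by
      intro b hb
      exact h0 b hb (S.comm_R hxD.2 hx2 (hF2 b hb) (hAc b hb x hxD.1))
    have := Subgroup.card_le_of_le hAD
    rw [hAcard] at this
    omega
  refine ⟨hF2, Subgroup.eq_of_le_of_card_ge hDle (by rw [S.R2_card, hDc]), ?_⟩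
  intro d hd
  have htop : (S.phi A hF2).range = ⊤ :=
    Subgroup.eq_top_of_card_eq _ (by rw [hrange2, S.R2_card])
  have : (⟨d, hd⟩ : ↥(R2 z s)) ∈ (S.phi A hF2).range := by rw [htop]; exact Subgroup.mem_top _
  obtain ⟨a, ha⟩ := this
  refine ⟨a, a.2, ?_⟩
  have := congrArg Subtype.val ha
  simpa [Setup.phi_apply] using this

/-- an abelian subgroup of order `p⁴` inside `R ⊔ A` lies in `A` -/
theorem Setup.le_of_le_sup (S : Setup p R z s r) (hP : IsPGroup p P) (A A' : Subgroup P)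
    (hAc : ∀ x ∈ A, ∀ y ∈ A, x * y = y * x) (hAe : ∀ x ∈ A, x ^ p = 1)
    (hAcard : Nat.card A = p ^ 4)
    (hA'c : ∀ x ∈ A', ∀ y ∈ A', x * y = y * x) (hA'card : Nat.card A' = p ^ 4)
    (hle : A' ≤ R ⊔ A) : A' ≤ A := by
  have hpP : p.Prime := hpf.out
  have hp1 : 1 < p := hpP.one_lt
  have hp0 : 0 < p := hpP.pos
  have h23 : p ^ 2 < p ^ 3 := Nat.pow_lt_pow_right hp1 (by norm_num)
  have hRn : R.Normal := S.Rn
  obtain ⟨hF2, hF1, -⟩ := S.analysis hP A hAc hAe hAcard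
  by_contra hnle
  obtain ⟨x', hx'A', hx'A⟩ := SetLike.not_le_iff_exists.mp hnle
  obtain ⟨t, ht, a, ha, rfl⟩ := Subgroup.mem_sup_of_normal_left.mp (hle hx'A')
  have htA : t ∉ A := fun h => hx'A (A.mul_mem h ha)
  have ht2 : t ∉ R2 z s := by
    intro h
    rw [← hF1] at h
    exact htA h.1
  -- index computations
  have hRA : Nat.card ↥(R ⊓ A) = p ^ 2 := by rw [inf_comm, hF1, S.R2_card]
  have e1 : (R ⊓ A).relIndex A = p ^ 2 := by
    have h1 := Subgroup.relIndex_mul_relIndex (⊥ : Subgroup P) (R ⊓ A) A bot_le inf_le_right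
    rw [Subgroup.relIndex_bot_left, Subgroup.relIndex_bot_left, hRA, hAcard] at h1
    have h2 : p ^ 4 = p ^ 2 * p ^ 2 := by ring
    rw [h2] at h1
    exact Nat.eq_of_mul_eq_mul_left (by positivity) h1
  have e2 : R.relIndex (R ⊔ A) = p ^ 2 := by
    rw [Subgroup.relIndex_sup_left, ← Subgroup.inf_relIndex_right, e1]
  have e3 : Nat.card ↥(R ⊔ A) = p ^ 5 := by
    have h1 := Subgroup.relIndex_mul_relIndex (⊥ : Subgroup P) R (R ⊔ A) bot_le le_sup_left
    rw [Subgroup.relIndex_bot_left, Subgroup.relIndex_bot_left, e2, S.Rcard] at h1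
    rw [← h1]; ring
  have e4 : A.relIndex (R ⊔ A) = p := by
    have h1 := Subgroup.relIndex_mul_relIndex (⊥ : Subgroup P) A (R ⊔ A) bot_le le_sup_right
    rw [Subgroup.relIndex_bot_left, Subgroup.relIndex_bot_left, e3, hAcard] at h1
    have h2 : p ^ 5 = p ^ 4 * p := by ring
    rw [h2] at h1
    exact Nat.eq_of_mul_eq_mul_left (by positivity) h1
  have e5 : A.relIndex A' ≤ p := by
    rw [← e4]
    exact Subgroup.relIndex_le_of_le_right hle (by rw [e4]; exact hp0.ne')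
  have e6 : p ^ 3 ≤ Nat.card ↥(A ⊓ A') := by
    have h1 := Subgroup.relIndex_mul_relIndex (⊥ : Subgroup P) (A ⊓ A') A' bot_le inf_le_right
    rw [Subgroup.relIndex_bot_left, Subgroup.relIndex_bot_left, Subgroup.inf_relIndex_right,
      hA'card] at h1
    have h2 : p ^ 4 ≤ Nat.card ↥(A ⊓ A') * p := by
      rw [← h1]; exact Nat.mul_le_mul_left _ e5
    have h3 : p ^ 4 = p ^ 3 * p := by ring
    rw [h3] at h2
    exact Nat.le_of_mul_le_mul_right h2 hp0
  have hn2 : ¬ A ⊓ A' ≤ R2 z s := by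
    intro h
    have := Subgroup.card_le_of_le h
    rw [S.R2_card] at this
    omega
  obtain ⟨y, hy, hy2⟩ := SetLike.not_le_iff_exists.mp hn2
  have hya : y * a = a * y := hAc y hy.1 a ha
  have hyta : y * (t * a) = (t * a) * y := hA'c y hy.2 _ hx'A'
  have hyt : y * t = t * y := by
    calc y * t = (y * (t * a)) * a⁻¹ := by group
      _ = (t * a) * y * a⁻¹ := by rw [hyta]
      _ = t * (a * y) * a⁻¹ := by group
      _ = t * (y * a) * a⁻¹ := by rw [hya]
      _ = t * y := by group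
  have hyR : y ∈ R := S.omega y (S.comm_R ht ht2 (hF2 y hy.1) hyt) (hAe y hy.1)
  apply hy2
  rw [← hF1]
  exact ⟨hy.1, hyR⟩

/-- **Main theorem of the setup**: every abelian subgroup of exponent `p` and order `p⁴` is
normal. -/
theorem Setup.normal_of_card (S : Setup p R z s r) (hp2 : p ≠ 2) (hP : IsPGroup p P)
    (A : Subgroup P) (hAc : ∀ x ∈ A, ∀ y ∈ A, x * y = y * x) (hAe : ∀ x ∈ A, x ^ p = 1)
    (hAcard : Nat.card A = p ^ 4) : A.Normal := by
  have hpP : p.Prime := hpf.out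
  have hRn : R.Normal := S.Rn
  by_contra hN
  have hnil : Group.IsNilpotent P := hP.isNilpotent
  have hNtop : Subgroup.normalizer (A : Set P) < ⊤ :=
    lt_top_iff_ne_top.mpr (fun h => hN (Subgroup.normalizer_eq_top_iff.mp h))
  have hlt := Group.normalizerCondition_of_isNilpotent (G := P) _ hNtop
  obtain ⟨g, hgNN, hgN⟩ := SetLike.exists_of_lt hlt
  set N := Subgroup.normalizer (A : Set P) with hNdef
  have hAN : A ≤ N := Subgroup.le_normalizer
  -- the conjugate A'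
  set A' : Subgroup P := A.map (MulAut.conj g).toMonoidHom with hA'def
  have hA'mem : ∀ x, x ∈ A' ↔ ∃ a ∈ A, g * a * g⁻¹ = x := by
    intro x
    rw [hA'def, Subgroup.mem_map]
    simp only [MulEquiv.coe_toMonoidHom, MulAut.conj_apply]
  have hA'c : ∀ x ∈ A', ∀ y ∈ A', x * y = y * x := by
    intro x hx y hy
    obtain ⟨a, ha, rfl⟩ := (hA'mem x).mp hx
    obtain ⟨b, hb, rfl⟩ := (hA'mem y).mp hy
    calc g * a * g⁻¹ * (g * b * g⁻¹) = g * (a * b) * g⁻¹ := by group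
      _ = g * (b * a) * g⁻¹ := by rw [hAc a ha b hb]
      _ = g * b * g⁻¹ * (g * a * g⁻¹) := by group
  have hA'e : ∀ x ∈ A', x ^ p = 1 := by
    intro x hx
    obtain ⟨a, ha, rfl⟩ := (hA'mem x).mp hx
    rw [conj_pow, hAe a ha, mul_one, mul_inv_cancel]
  have hA'card : Nat.card A' = p ^ 4 := by
    rw [hA'def, Subgroup.card_map_of_injective (MulAut.conj g).injective, hAcard]
  -- A' ≤ N
  have hA'N : A' ≤ N := by
    intro x hx
    obtain ⟨a, ha, rfl⟩ := (hA'mem x).mp hx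
    exact (Subgroup.mem_normalizer_iff.mp hgNN a).mp (hAN ha)
  -- A normalizes A'
  have hAA' : ∀ a ∈ A, ∀ x ∈ A', a * x * a⁻¹ ∈ A' := by
    intro a ha x hx
    obtain ⟨b, hb, rfl⟩ := (hA'mem x).mp hx
    have h1 : g⁻¹ * a * g ∈ N := by
      have := (Subgroup.mem_normalizer_iff''.mp hgNN a).mp (hAN ha)
      exact this
    have h2 : (g⁻¹ * a * g) * b * (g⁻¹ * a * g)⁻¹ ∈ A :=
      (Subgroup.mem_normalizer_iff.mp h1 b).mp hb
    rw [hA'mem]
    exact ⟨_, h2, by group⟩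
  obtain ⟨hF2, hF1, hF3⟩ := S.analysis hP A hAc hAe hAcard
  obtain ⟨hF2', -, -⟩ := S.analysis hP A' hA'c hA'e hA'card
  -- A' ≤ R ⊔ A
  have hle : A' ≤ R ⊔ A := by
    intro x' hx'
    obtain ⟨a, ha, hax⟩ := hF3 (x' * r * x'⁻¹ * r⁻¹) (S.rc x')
    -- y = a⁻¹ x'
    have hys : (a⁻¹ * x') * s = s * (a⁻¹ * x') := by
      have h1 : a * s = s * a := hF2 a ha
      have h2 : x' * s = s * x' := hF2' x' hx'
      have h3 : a⁻¹ * s = s * a⁻¹ := by
        calc a⁻¹ * s = a⁻¹ * (s * a) * a⁻¹ := by group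
          _ = a⁻¹ * (a * s) * a⁻¹ := by rw [h1]
          _ = s * a⁻¹ := by group
      calc (a⁻¹ * x') * s = a⁻¹ * (x' * s) := by group
        _ = a⁻¹ * (s * x') := by rw [h2]
        _ = (a⁻¹ * s) * x' := by group
        _ = (s * a⁻¹) * x' := by rw [h3]
        _ = s * (a⁻¹ * x') := by group
    have hyr : (a⁻¹ * x') * r = r * (a⁻¹ * x') := by
      have h1 : x' * r * x'⁻¹ = a * r * a⁻¹ := by
        calc x' * r * x'⁻¹ = (x' * r * x'⁻¹ * r⁻¹) * r := by group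
          _ = (a * r * a⁻¹ * r⁻¹) * r := by rw [hax]
          _ = a * r * a⁻¹ := by group
      calc (a⁻¹ * x') * r = a⁻¹ * (x' * r * x'⁻¹) * x' := by group
        _ = a⁻¹ * (a * r * a⁻¹) * x' := by rw [h1]
        _ = r * (a⁻¹ * x') := by group
    -- y ^ p = 1
    have hyp : (a⁻¹ * x') ^ p = 1 := by
      set c := x' * a⁻¹ * x'⁻¹ * a with hc
      have hcA : c ∈ A := by
        have h1 : x' * a⁻¹ * x'⁻¹ ∈ A :=
          (Subgroup.mem_normalizer_iff.mp (hA'N hx') a⁻¹).mp (A.inv_mem ha)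
        exact A.mul_mem h1 ha
      have hcA' : c ∈ A' := by
        have h1 : a⁻¹ * x'⁻¹ * a⁻¹⁻¹ ∈ A' := hAA' a⁻¹ (A.inv_mem ha) x'⁻¹ (A'.inv_mem hx')
        have h2 : c = x' * (a⁻¹ * x'⁻¹ * a⁻¹⁻¹) := by rw [hc]; group
        rw [h2]
        exact A'.mul_mem hx' h1
      have h1 : x' * a⁻¹ = c * a⁻¹ * x' := by rw [hc]; group
      have c1 : Commute c a⁻¹ := hAc c hcA a⁻¹ (A.inv_mem ha)
      have c2 : Commute c x' := hA'c c hcA' x' hx'
      rw [mul_pow_prime_of_comm hpP hp2 h1 c1 c2 (hAe c hcA), inv_pow, hAe a ha, hA'e x' hx',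
        inv_one, one_mul]
    have hyR : a⁻¹ * x' ∈ R := S.omega _ (S.comm_R S.rR S.r2 hys hyr) hyp
    have : x' = (a * (a⁻¹ * x') * a⁻¹) * a := by group
    rw [this]
    exact Subgroup.mul_mem_sup (hRn.conj_mem _ hyR a) ha
  have hA'A : A' ≤ A := S.le_of_le_sup hP A A' hAc hAe hAcard hA'c hA'card hle
  have hA'eq : A' = A := Subgroup.eq_of_le_of_card_ge hA'A (by rw [hAcard, hA'card])
  apply hgN
  rw [Subgroup.mem_normalizer_iff_map_conj_eq]
  exact hA'eq

end Analysis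

end Cfsg.Agent.Lib.Helper45_NormalRank4b
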