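import Mathlib
import Cfsg.Agent.Lib.Helper45_NormalRank4a
import Cfsg.Agent.Lib.Helper45_NormalRank4b

/-!
# Odd `p`-groups: an elementary abelian subgroup of order `p⁴` forces a normal one

`exists_normal_rank_four`: for `p` odd, a finite `p`-group with an abelian subgroup of exponent `p`
and order `p⁴` has a normal abelian subgroup of exponent `p` and order `p⁴`.
-/

set_option autoImplicit false

namespace Cfsg.Agent.Lib.Helper45_NormalRank4

open Cfsg.Agent.Lib.Helper20_PGroupOdd Cfsg.Agent.Lib.Helper20_PGroupRank3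
open Cfsg.Agent.Lib.Helper45_NormalRank4a Cfsg.Agent.Lib.Helper45_NormalRank4b

universe u

variable {P : Type u} [Group P] [Finite P] {p : ℕ} [hpf : Fact p.Prime]

/-- a `P`-central flag in a normal elementary abelian subgroup of order `p³` -/
theorem exists_setup (hP : IsPGroup p P) (R : Subgroup P) [hRn : R.Normal]
    (hRc : ∀ x ∈ R, ∀ y ∈ R, x * y = y * x) (hRe : ∀ x ∈ R, x ^ p = 1)
    (hRcard : Nat.card R = p ^ 3)
    (hΩ : ∀ x : P, (∀ y ∈ R, y * x = x * y) → x ^ p = 1 → x ∈ R) :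
    ∃ z s r : P, Setup p R z s r := by
  have hpP : p.Prime := hpf.out
  have hp1 : 1 < p := hpP.one_lt
  have h13 : p ^ 1 < p ^ 3 := Nat.pow_lt_pow_right hp1 (by norm_num)
  have h23 : p ^ 2 < p ^ 3 := Nat.pow_lt_pow_right hp1 (by norm_num)
  -- z
  have hR1 : ¬ R ≤ ⊥ := by
    intro h
    have := Subgroup.card_le_of_le h
    rw [hRcard, Subgroup.card_bot] at this
    have : 1 < p ^ 3 := Nat.one_lt_pow (by norm_num) hp1
    omega
  obtain ⟨z, hzR, hz1, hz⟩ := exists_central_mod hP ⊥ R hR1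
  have hz1' : z ≠ 1 := fun h => hz1 (by rw [h]; exact Subgroup.mem_bot.mpr rfl)
  have hzc : z ∈ Subgroup.center P := by
    rw [Subgroup.mem_center_iff]
    intro g
    have h1 : g * z * g⁻¹ * z⁻¹ = 1 := Subgroup.mem_bot.mp (hz g)
    calc g * z = (g * z * g⁻¹ * z⁻¹) * z * g := by group
      _ = z * g := by rw [h1, one_mul]
  have hzo : orderOf z = p := orderOf_eq_prime (hRe z hzR) hz1'
  have hZn : (Subgroup.zpowers z).Normal :=
    Cfsg.Agent.Lib.Helper32_PGroup.normal_of_le_center _ (Subgroup.zpowers_le.mpr hzc)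
  -- s
  have hR2 : ¬ R ≤ Subgroup.zpowers z := by
    intro h
    have := Subgroup.card_le_of_le h
    rw [hRcard, Nat.card_zpowers, hzo] at this
    rw [pow_one] at h13
    omega
  obtain ⟨s, hsR, hsz, hs⟩ := exists_central_mod hP (Subgroup.zpowers z) R hR2
  have hs1 : s ≠ 1 := fun h => hsz (h ▸ one_mem _)
  have hso : orderOf s = p := orderOf_eq_prime (hRe s hsR) hs1
  have hR2n : (R2 z s).Normal := normal_sup_zpowers (Subgroup.zpowers z) hs
  have hR2card : Nat.card (R2 z s) = p ^ 2 := card_sup_zpowers hzc hzo hso hsz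
  have hR2le : R2 z s ≤ R :=
    sup_le (Subgroup.zpowers_le.mpr hzR) (Subgroup.zpowers_le.mpr hsR)
  -- r
  have hR3 : ¬ R ≤ R2 z s := by
    intro h
    have := Subgroup.card_le_of_le h
    rw [hRcard, hR2card] at this
    omega
  obtain ⟨r, hrR, hr2, hr⟩ := exists_central_mod hP (R2 z s) R hR3
  exact ⟨z, s, r, ⟨hRn, hRc, hRe, hRcard, hzc, hzo, hso, hsz, hs, hrR, hr2, hr, hR2le, hΩ⟩⟩

/-- **Theorem.** For `p` odd, a finite `p`-group containing an abelian subgroup of exponent `p`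
and order `p⁴` has a normal abelian subgroup of exponent `p` and order `p⁴`. -/
theorem exists_normal_rank_four (hp2 : p ≠ 2) (hP : IsPGroup p P) (A : Subgroup P)
    (hAc : ∀ x ∈ A, ∀ y ∈ A, x * y = y * x) (hAe : ∀ x ∈ A, x ^ p = 1)
    (hAcard : Nat.card A = p ^ 4) :
    ∃ X : Subgroup P, X.Normal ∧ (∀ x ∈ X, ∀ y ∈ X, x * y = y * x) ∧ (∀ x ∈ X, x ^ p = 1) ∧
      Nat.card X = p ^ 4 := by
  have hpP : p.Prime := hpf.out
  have h34 : p ^ 3 ≤ p ^ 4 := Nat.pow_le_pow_right hpP.pos (by norm_num)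
  obtain ⟨R, hRn, hRc, hRe, hRcard⟩ :=
    exists_normal_rank_three hp2 hP A hAc hAe (by rw [hAcard]; exact h34)
  by_cases hΩ : ∀ x : P, (∀ y ∈ R, y * x = x * y) → x ^ p = 1 → x ∈ R
  · obtain ⟨z, s, r, S⟩ := exists_setup hP R hRc hRe hRcard hΩ
    exact ⟨A, S.normal_of_card hp2 hP A hAc hAe hAcard, hAc, hAe, hAcard⟩
  · push Not at hΩ
    obtain ⟨x, hxc, hxp, hxR⟩ := hΩ
    obtain ⟨X, hXn, hXc, hXe, hXcard⟩ := exists_normal_extension hp2 hP R hRc hRe hxc hxp hxR
    refine ⟨X, hXn, hXc, hXe, ?_⟩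
    rw [hXcard, hRcard]
    ring

end Cfsg.Agent.Lib.Helper45_NormalRank4
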