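import Mathlib

/-!
# Abstract group lemmas for the fusion of odd prime order semisimple classes (S2720, S2721)

A group `H` with a surjection onto a cyclic group of order `2` or `4` (resp. a Klein four-group) and a
sign character `ψ` killed by nothing outside the kernel...: every element of `H` is a product of an
element of the kernel and a power of `t` (resp. of powers of `s` and `t`) as soon as `ψ t = -1`.
-/

set_option autoImplicit false

namespace Cfsg.Agent.Lib.Helper45_OFus_Abs

variable {H : Type*} [Group H]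

theorem zmod_two_four_key : ∀ x : ZMod 2, (∀ u : ZMod 2, x ≠ u + u) → x * x = 1 := by decide

theorem zmod_four_key : ∀ x : ZMod 4, (∀ u : ZMod 4, x ≠ u + u) → x * x = 1 := by decide

theorem units_int_mul_self (u : ℤˣ) : u * u = 1 := by
  rcases Int.units_eq_one_or u with rfl | rfl <;> rfl

/-- Cyclic quotient of order `2` or `4`: an element with non-trivial sign generates the quotient. -/
theorem exists_factor_of_cyclic {n : ℕ} (hn : n = 2 ∨ n = 4)
    (φ : H →* Multiplicative (ZMod n)) (hφ : Function.Surjective φ) (ψ : H →* ℤˣ)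
    (hψ : φ.ker ≤ ψ.ker) (t : H) (ht : ψ t = -1) (h : H) :
    ∃ k ∈ φ.ker, ∃ j : ℕ, h = k * t ^ j := by
  set x : ZMod n := Multiplicative.toAdd (φ t) with hx
  have hnot : ∀ u : ZMod n, x ≠ u + u := by
    intro u hu
    obtain ⟨s, hs⟩ := hφ (Multiplicative.ofAdd u)
    have h1 : φ (t⁻¹ * (s * s)) = 1 := by
      rw [map_mul, map_inv, map_mul, hs, inv_mul_eq_one]
      apply Multiplicative.toAdd.injective
      rw [← hx, hu]
      rfl
    have h2 := hψ (MonoidHom.mem_ker.mpr h1)
    rw [MonoidHom.mem_ker, map_mul, map_inv, map_mul, units_int_mul_self, mul_one, ht] at h2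
    exact absurd h2 (by decide)
  have hxx : x * x = 1 := by
    rcases hn with rfl | rfl
    · exact zmod_two_four_key x hnot
    · exact zmod_four_key x hnot
  have hn0 : NeZero n := by
    rcases hn with rfl | rfl <;> exact ⟨by norm_num⟩
  set y : ZMod n := Multiplicative.toAdd (φ h) with hy
  set j : ℕ := (y * x).val with hj
  refine ⟨h * (t ^ j)⁻¹, ?_, j, by group⟩
  rw [MonoidHom.mem_ker, map_mul, map_inv, map_pow, mul_inv_eq_one]
  apply Multiplicative.toAdd.injective
  rw [toAdd_pow, ← hy, ← hx, hj, nsmul_eq_mul, ZMod.natCast_val, ZMod.cast_id', id_eq, mul_assoc, hxx,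
    mul_one]

theorem klein_key : ∀ a b c : ZMod 2 × ZMod 2, a ≠ 0 → b ≠ 0 → a ≠ b →
    ∃ i j : Fin 2, c = i.val • a + j.val • b := by decide

/-- Klein quotient: two elements with distinct non-trivial images generate the quotient. -/
theorem exists_factor_of_klein
    (φ : H →* Multiplicative (ZMod 2 × ZMod 2)) (ψ : H →* ℤˣ)
    (hψ : φ.ker ≤ ψ.ker) (t : H) (ht : ψ t = -1) (s : H) (hs : ψ s = 1) (hs' : s ∉ φ.ker) (h : H) :
    ∃ k ∈ φ.ker, ∃ i j : ℕ, h = k * s ^ i * t ^ j := by
  have h1 : Multiplicative.toAdd (φ s) ≠ 0 := by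
    intro h0
    exact hs' (MonoidHom.mem_ker.mpr (Multiplicative.toAdd.injective h0))
  have h2 : Multiplicative.toAdd (φ t) ≠ 0 := by
    intro h0
    have := hψ (MonoidHom.mem_ker.mpr (Multiplicative.toAdd.injective h0))
    rw [MonoidHom.mem_ker, ht] at this
    exact absurd this (by decide)
  have h3 : Multiplicative.toAdd (φ s) ≠ Multiplicative.toAdd (φ t) := by
    intro h0
    have h4 : φ (s⁻¹ * t) = 1 := by
      rw [map_mul, map_inv, inv_mul_eq_one]
      exact Multiplicative.toAdd.injective h0
    have := hψ (MonoidHom.mem_ker.mpr h4)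
    rw [MonoidHom.mem_ker, map_mul, map_inv, hs, ht] at this
    exact absurd this (by decide)
  obtain ⟨i, j, hij⟩ := klein_key _ _ (Multiplicative.toAdd (φ h)) h1 h2 h3
  refine ⟨h * (s ^ i.val * t ^ j.val)⁻¹, ?_, i.val, j.val, by group⟩
  rw [MonoidHom.mem_ker, map_mul, map_inv, map_mul, map_pow, map_pow, mul_inv_eq_one]
  apply Multiplicative.toAdd.injective
  rw [hij, toAdd_mul, toAdd_pow, toAdd_pow]

end Cfsg.Agent.Lib.Helper45_OFus_Abs
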