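import Mathlib
import Cfsg.Agent.Lib.Helper40_OConj
import Cfsg.Agent.Lib.Helper44_WittMat
import Cfsg.Agent.Lib.Helper14_GOChars
import Cfsg.Agent.Lib.Helper14_InndiagQuot

/-!
# Class fusion of semisimple elements of odd order in orthogonal groups: core lemmas (helper45)

* `exists_isometry_rep`: an automorphism of `PΩ(Q)` of odd order `r` induced by a similarity is induced by an
  isometry `g` with `g ^ r = 1`;
* `exists_conj_isometry`: for an isometry `g` of odd order prime to the characteristic and a similarity `h`,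
  the conjugate `h g h⁻¹` is also `k g k⁻¹` for an isometry `k` (via `Helper40_OConj`);
* `isConjUnder_iff_of_le`: abstract fusion criterion.
-/

set_option autoImplicit false
set_option linter.unusedSectionVars false
set_option linter.unusedVariables false

namespace Cfsg.Agent.Lib.Helper45_OFus_Core

open Cfsg Matrix Module Cfsg.Agent.Lib.Helper44_Orth Cfsg.Agent.Lib.Helper14_AutOmega
  Cfsg.Agent.Lib.Helper14_GOChars Cfsg.Agent.Lib.Helper14_CentOmega
  Cfsg.Agent.Lib.Helper14_InndiagQuot Cfsg.Agent.Lib.Helper44_WittMat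
  Cfsg.Agent.Lib.Helper40_OConj

section abstract

variable {X : Type*} [Group X]

/-- If every element of `H` is a product of an element of `K ≤ H` and an element centralizing `x`,
the `H`-class of `x` is its `K`-class. -/
theorem isConjUnder_iff_of_le (K H : Subgroup X) (hKH : K ≤ H) (x : X)
    (hfac : ∀ h ∈ H, ∃ k ∈ K, ∃ c : X, c * x = x * c ∧ h = k * c) (y : X) :
    IsConjUnder K x y ↔ IsConjUnder H x y := by
  constructor
  · rintro ⟨k, hk, rfl⟩
    exact ⟨k, hKH hk, rfl⟩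
  · rintro ⟨h, hh, rfl⟩
    obtain ⟨k, hk, c, hc, rfl⟩ := hfac h hh
    refine ⟨k, hk, ?_⟩
    have : c * x * c⁻¹ = x := by rw [hc, mul_inv_cancel_right]
    calc k * c * x * (k * c)⁻¹ = k * (c * x * c⁻¹) * k⁻¹ := by group
      _ = k * x * k⁻¹ := by rw [this]

end abstract

variable {ι : Type} [Fintype ι] [DecidableEq ι] {F : Type*} [Field F]

theorem scalarGO_mul (Q : QuadraticForm F (ι → F)) (r s : Fˣ) :
    scalarGO Q (r * s) = scalarGO Q r * scalarGO Q s := by
  apply Subtype.ext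
  show Units.map _ (r * s) = Units.map _ r * Units.map _ s
  rw [map_mul]

theorem scalarGO_one (Q : QuadraticForm F (ι → F)) : scalarGO Q 1 = 1 := by
  apply Subtype.ext
  show Units.map _ 1 = 1
  rw [map_one]

theorem scalarGO_pow (Q : QuadraticForm F (ι → F)) (r : Fˣ) (n : ℕ) :
    scalarGO Q (r ^ n) = scalarGO Q r ^ n := by
  induction n with
  | zero => rw [pow_zero, pow_zero, scalarGO_one]
  | succ n ih => rw [pow_succ, pow_succ, scalarGO_mul, ih]

theorem scalarGO_mem_Z' (Q : QuadraticForm F (ι → F)) (r : Fˣ) : scalarGO Q r ∈ Z' Q :=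
  Subgroup.mem_subgroupOf.mpr (scalarGO_mem Q r)

theorem eq_scalarGO_of_mem_Z' (Q : QuadraticForm F (ι → F)) (z : ↥(GO (⇑Q))) (hz : z ∈ Z' Q) :
    ∃ c : Fˣ, z = scalarGO Q c := by
  obtain ⟨c, hc⟩ := (Geo.mem_scalars_iff _).mp (Subgroup.mem_subgroupOf.mp hz)
  refine ⟨c, ?_⟩
  apply Subtype.ext
  apply Units.ext
  rw [hc, scalarGO_coe]

/-- An automorphism of `PΩ(Q)` of odd order `r` induced by a similarity is induced by an isometry `g`
with `g ^ r = 1`. -/
theorem exists_isometry_rep [Fintype F] (Q : QuadraticForm F (ι → F))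
    (hQ : (QuadraticMap.polarBilin Q).Nondegenerate) (hn : 5 ≤ Fintype.card ι)
    (hne : ∃ v, Q v ≠ 0) (x : MulAut (POmega F (⇑Q))) (hx : x ∈ pgoAut F (⇑Q)) {r : ℕ}
    (hro : Odd r) (hxr : x ^ r = 1) :
    ∃ g : ↥(GO (⇑Q)), (g : GL ι F) ∈ isometryGroup F (⇑Q) ∧ g ^ r = 1 ∧ Phi (⇑Q) g = x := by
  rw [pgoAut_eq] at hx
  obtain ⟨g₀, rfl⟩ := hx
  have hker : g₀ ^ r ∈ (Phi (⇑Q)).ker := by
    rw [MonoidHom.mem_ker, map_pow, hxr]
  rw [ker_Phi Q hQ hn] at hker
  obtain ⟨c, hc⟩ := eq_scalarGO_of_mem_Z' Q _ hker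
  set l : Fˣ := mu (⇑Q) g₀ with hl
  have hlr : l ^ r = c * c := by
    have h1 : muHom (⇑Q) hne (g₀ ^ r) = l ^ r := by rw [map_pow, muHom_apply]
    rw [hc, muHom_apply, mu_scalarGO Q hne] at h1
    exact h1.symm
  obtain ⟨k, hk⟩ := hro
  set s : Fˣ := l ^ k * c⁻¹ with hs
  refine ⟨scalarGO Q s * g₀, ?_, ?_, ?_⟩
  · apply isometry_of_mu
    have h1 : muHom (⇑Q) hne (scalarGO Q s * g₀) = 1 := by
      rw [map_mul, muHom_apply, muHom_apply, mu_scalarGO Q hne, ← hl, hs]
      have : l ^ k * c⁻¹ * (l ^ k * c⁻¹) * l = l ^ r * (c * c)⁻¹ := by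
        rw [hk, pow_succ, two_mul, pow_add, mul_inv]
        simp only [mul_comm, mul_left_comm, mul_assoc]
      rw [this, hlr, mul_inv_cancel]
    exact h1
  · have hcomm : Commute (scalarGO Q s) g₀ :=
      (scalar_comm Q (scalarGO Q s) (scalarGO_mem_Z' Q s) g₀).symm
    rw [hcomm.mul_pow, hc, ← scalarGO_pow, ← scalarGO_mul]
    have : s ^ r * c = 1 := by
      rw [hs, mul_pow, ← pow_mul, mul_comm k r, pow_mul, hlr, hk]
      have h3 : (c * c) ^ k * c⁻¹ ^ (2 * k + 1) * c = 1 := by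
        rw [pow_succ, two_mul, pow_add, mul_pow]
        have : c ^ k * c ^ k * (c⁻¹ ^ k * c⁻¹ ^ k * c⁻¹) * c
            = (c ^ k * c⁻¹ ^ k) * (c ^ k * c⁻¹ ^ k) * (c⁻¹ * c) := by
          simp only [mul_comm, mul_left_comm, mul_assoc]
        rw [this, ← mul_pow, mul_inv_cancel, one_pow, inv_mul_cancel, one_mul, one_mul]
      exact h3
    rw [this, scalarGO_one]
  · rw [map_mul, Phi_eq_one_of_scalar (⇑Q) _ (scalarGO_mem Q s), one_mul]

/-- For an isometry `g` with `g ^ N = 1`, `N` odd and invertible in `F`, and a similarity `h`, the conjugate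
`h g h⁻¹` is the conjugate of `g` by an isometry. -/
theorem exists_conj_isometry [Fintype F] (Q : QuadraticForm F (ι → F))
    (hQ : (QuadraticMap.polarBilin Q).Nondegenerate)
    (g : GL ι F) (hg : g ∈ isometryGroup F (⇑Q)) {N : ℕ} (hN : Odd N) (hNF : (N : F) ≠ 0)
    (hgN : g ^ N = 1) (h : GL ι F) (hh : h ∈ GO (⇑Q)) :
    ∃ k : GL ι F, k ∈ isometryGroup F (⇑Q) ∧ k * g * k⁻¹ = h * g * h⁻¹ := by
  classical
  set g' : GL ι F := h * g * h⁻¹ with hg'
  have hg'mem : g' ∈ isometryGroup F (⇑Q) := conj_mem (⇑Q) hh hg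
  have hg'N : g' ^ N = 1 := by
    rw [hg', conj_pow, hgN, mul_one, mul_inv_cancel]
  have hiso : ∀ k : GL ι F, k ∈ isometryGroup F (⇑Q) → ∀ u : ι → F,
      Q (Matrix.toLin' (k : Matrix ι ι F) u) = Q u := by
    intro k hk u
    rw [Matrix.toLin'_apply]
    exact (mem_isometryGroup_iff (⇑Q) k).1 hk u
  have hpow : ∀ k : GL ι F, k ^ N = 1 → (Matrix.toLin' (k : Matrix ι ι F)) ^ N = 1 := by
    intro k hk
    rw [← Matrix.toLin'_pow, ← Units.val_pow_eq_pow_val, hk, Units.val_one, Matrix.toLin'_one]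
    rfl
  have hdA : OData Q (Matrix.toLin' (g : Matrix ι ι F)) N := ⟨hiso g hg, hpow g hgN, hN, hNF⟩
  have hdB : OData Q (Matrix.toLin' (g' : Matrix ι ι F)) N := ⟨hiso g' hg'mem, hpow g' hg'N, hN, hNF⟩
  let C : (ι → F) ≃ₗ[F] (ι → F) :=
    LinearEquiv.ofLinearMap (Matrix.toLin' (h : Matrix ι ι F))
      (Matrix.toLin' ((h⁻¹ : GL ι F) : Matrix ι ι F))
      (by rw [← Matrix.toLin'_mul, ← Units.val_mul, mul_inv_cancel, Units.val_one, Matrix.toLin'_one])
      (by rw [← Matrix.toLin'_mul, ← Units.val_mul, inv_mul_cancel, Units.val_one, Matrix.toLin'_one])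
  have hC : ∀ v, C (Matrix.toLin' (g : Matrix ι ι F) v) = Matrix.toLin' (g' : Matrix ι ι F) (C v) := by
    intro v
    show Matrix.toLin' (h : Matrix ι ι F) (Matrix.toLin' (g : Matrix ι ι F) v) =
      Matrix.toLin' (g' : Matrix ι ι F) (Matrix.toLin' (h : Matrix ι ι F) v)
    rw [← Matrix.toLin'_mul_apply, ← Matrix.toLin'_mul_apply, ← Units.val_mul, ← Units.val_mul, hg',
      inv_mul_cancel_right]
  obtain ⟨e, he1, he2⟩ := exists_isometry_conj Q hQ _ _ N hdA hdB C hC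
  refine ⟨(isomOfEquiv Q e he1 : GL ι F), (isomOfEquiv Q e he1).2, ?_⟩
  rw [mul_inv_eq_iff_eq_mul]
  apply Units.ext
  apply Matrix.toLin'.injective
  apply LinearMap.ext
  intro v
  have h5 : ∀ w, Matrix.toLin' ((isomOfEquiv Q e he1 : GL ι F) : Matrix ι ι F) w = e w := by
    intro w
    rw [Matrix.toLin'_apply, isomOfEquiv_mulVec]
  rw [Units.val_mul, Units.val_mul, Matrix.toLin'_mul_apply, Matrix.toLin'_mul_apply, h5, h5]
  exact he2 v

end Cfsg.Agent.Lib.Helper45_OFus_Core
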