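import Mathlib
import Cfsg.Agent.Lib.Helper14_GOChars
import Cfsg.Agent.Lib.Helper14_SimDet

/-!
# Similarities commuting with a fixed-point-free isometry of odd order are proper (helper45)

If `g` is an isometry of the non-degenerate quadratic form `Q` (dimension `2M`) with `g ^ N = 1`, `N` odd, and
without non-zero fixed vectors, the form `ω(u, v) = B(u, (g - g⁻¹) v)` is alternating and non-degenerate, and
every similarity `c` of `Q` commuting with `g` is a similarity of `ω`; hence `det c = μ(c) ^ M`.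
-/

set_option autoImplicit false
set_option linter.unusedSectionVars false
set_option linter.unusedVariables false

namespace Cfsg.Agent.Lib.Helper45_OFus_Det

open Cfsg Matrix Module Cfsg.Agent.Lib.Helper44_Orth Cfsg.Agent.Lib.Helper14_AutOmega
  Cfsg.Agent.Lib.Helper14_GOChars Cfsg.Agent.Lib.Helper14_SimDet Cfsg.Agent.Lib.Helper14_PSLCent

variable {ι : Type} [Fintype ι] [DecidableEq ι] {F : Type*} [Field F]

/-- The Gram matrix of the polar form. -/
noncomputable abbrev gramB (Q : QuadraticForm F (ι → F)) : Matrix ι ι F :=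
  LinearMap.BilinForm.toMatrix' (QuadraticMap.polarBilin Q)

theorem dot_gramB (Q : QuadraticForm F (ι → F)) (u v : ι → F) :
    u ⬝ᵥ (gramB Q *ᵥ v) = QuadraticMap.polar (⇑Q) u v := by
  have h := Matrix.toBilin'_apply' (gramB Q) u v
  rw [gramB, Matrix.toBilin'_toMatrix'] at h
  exact h.symm

theorem sim_gramB (Q : QuadraticForm F (ι → F)) (c : ↥(GO (⇑Q))) :
    ((c : GL ι F) : Matrix ι ι F)ᵀ * gramB Q * ((c : GL ι F) : Matrix ι ι F) =
      (mu (⇑Q) c : F) • gramB Q := by
  set B : LinearMap.BilinForm F (ι → F) := QuadraticMap.polarBilin Q with hB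
  set M : Matrix ι ι F := ((c : GL ι F) : Matrix ι ι F) with hM
  have hcomp : B.comp (Matrix.toLin' M) (Matrix.toLin' M) = (mu (⇑Q) c : F) • B := by
    refine LinearMap.ext₂ (fun u v => ?_)
    simp only [LinearMap.BilinForm.comp_apply, Matrix.toLin'_apply, LinearMap.smul_apply, smul_eq_mul]
    exact polar_mulVec Q c _ _
  have h1 := congrArg LinearMap.BilinForm.toMatrix' hcomp
  rw [LinearMap.BilinForm.toMatrix'_comp, LinearMap.toMatrix'_toLin', map_smul] at h1
  exact h1

theorem polar_isometry (Q : QuadraticForm F (ι → F)) (g : GL ι F) (hg : g ∈ isometryGroup F (⇑Q))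
    (u v : ι → F) :
    QuadraticMap.polar (⇑Q) ((g : Matrix ι ι F) *ᵥ u) ((g : Matrix ι ι F) *ᵥ v) =
      QuadraticMap.polar (⇑Q) u v := by
  have h := (mem_isometryGroup_iff (⇑Q) g).1 hg
  unfold QuadraticMap.polar
  rw [← Matrix.mulVec_add, h, h, h]

theorem inv_mulVec_mulVec (g : GL ι F) (v : ι → F) :
    ((g⁻¹ : GL ι F) : Matrix ι ι F) *ᵥ ((g : Matrix ι ι F) *ᵥ v) = v := by
  rw [Matrix.mulVec_mulVec, ← Units.val_mul, inv_mul_cancel, Units.val_one, Matrix.one_mulVec]

theorem mulVec_inv_mulVec (g : GL ι F) (v : ι → F) :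
    (g : Matrix ι ι F) *ᵥ (((g⁻¹ : GL ι F) : Matrix ι ι F) *ᵥ v) = v := by
  rw [Matrix.mulVec_mulVec, ← Units.val_mul, mul_inv_cancel, Units.val_one, Matrix.one_mulVec]

/-- If `g v = g⁻¹ v`, `g ^ N = 1` with `N` odd, then `g v = v`. -/
theorem fixed_of_eq_inv (g : GL ι F) {N : ℕ} (hN : Odd N) (hgN : g ^ N = 1) (v : ι → F)
    (hv : (g : Matrix ι ι F) *ᵥ v = ((g⁻¹ : GL ι F) : Matrix ι ι F) *ᵥ v) :
    (g : Matrix ι ι F) *ᵥ v = v := by
  have h2 : (g : Matrix ι ι F) *ᵥ ((g : Matrix ι ι F) *ᵥ v) = v := by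
    rw [hv, mulVec_inv_mulVec]
  have hpow : ∀ k : ℕ, ((g ^ (2 * k) : GL ι F) : Matrix ι ι F) *ᵥ v = v := by
    intro k
    induction k with
    | zero => simp
    | succ k ih =>
      rw [show 2 * (k + 1) = 2 * k + 1 + 1 by ring, pow_succ, pow_succ, Units.val_mul, Units.val_mul,
        ← Matrix.mulVec_mulVec, ← Matrix.mulVec_mulVec, h2, ih]
  obtain ⟨k, hk⟩ := hN
  have h3 : ((g ^ N : GL ι F) : Matrix ι ι F) *ᵥ v = (g : Matrix ι ι F) *ᵥ v := by
    rw [hk, pow_succ', Units.val_mul, ← Matrix.mulVec_mulVec, hpow]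
  rw [hgN, Units.val_one, Matrix.one_mulVec] at h3
  exact h3.symm

theorem bilOf_reindex {n : ℕ} (e : ι ≃ Fin n) (M : Matrix ι ι F) (v : Fin n → F) :
    bilOf (Matrix.reindex e e M) v v = bilOf M (v ∘ e) (v ∘ e) := by
  unfold bilOf
  rw [Matrix.reindex_apply, Matrix.submatrix_mulVec_equiv, Equiv.symm_symm]
  unfold dotProduct
  rw [← Equiv.sum_comp e]
  apply Finset.sum_congr rfl
  intro i _
  simp

/-- A similarity commuting with an isometry `g` of odd order without non-zero fixed vectors has determinant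
`μ ^ M`. -/
theorem det_eq_mu_pow_of_comm (Q : QuadraticForm F (ι → F))
    (hQ : (QuadraticMap.polarBilin Q).Nondegenerate) {M : ℕ} (hcard : Fintype.card ι = 2 * M)
    (g : GL ι F) (hg : g ∈ isometryGroup F (⇑Q)) {N : ℕ} (hN : Odd N) (hgN : g ^ N = 1)
    (hfix : ∀ v : ι → F, (g : Matrix ι ι F) *ᵥ v = v → v = 0)
    (c : ↥(GO (⇑Q))) (hc : (c : GL ι F) * g = g * (c : GL ι F)) :
    ((c : GL ι F) : Matrix ι ι F).det = (mu (⇑Q) c : F) ^ M := by
  classical
  set G : Matrix ι ι F := (g : Matrix ι ι F) with hG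
  set Gi : Matrix ι ι F := ((g⁻¹ : GL ι F) : Matrix ι ι F) with hGi
  set C : Matrix ι ι F := ((c : GL ι F) : Matrix ι ι F) with hC
  set D : Matrix ι ι F := G - Gi with hD
  set W : Matrix ι ι F := gramB Q * D with hW
  -- `C` commutes with `D`
  have hCG : C * G = G * C := by
    have := congrArg (fun z : GL ι F => (z : Matrix ι ι F)) hc
    simpa [Units.val_mul] using this
  have hCGi : C * Gi = Gi * C := by
    have hc' : (c : GL ι F) * g⁻¹ = g⁻¹ * (c : GL ι F) := by
      have : Commute (c : GL ι F) g := hc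
      exact this.inv_right
    have h3 : ((c : GL ι F) * g⁻¹ : GL ι F).val = (g⁻¹ * (c : GL ι F) : GL ι F).val :=
      congrArg Units.val hc'
    rw [Units.val_mul, Units.val_mul] at h3
    exact h3
  have hDC : D * C = C * D := by
    rw [hD, Matrix.sub_mul, Matrix.mul_sub, hCG, hCGi]
  -- `W` is alternating
  have hWalt : ∀ v, bilOf W v v = 0 := by
    intro v
    unfold bilOf
    rw [hW, ← Matrix.mulVec_mulVec, dot_gramB, hD, Matrix.sub_mulVec]
    have h1 : QuadraticMap.polar (⇑Q) v (Gi *ᵥ v) = QuadraticMap.polar (⇑Q) v (G *ᵥ v) := by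
      rw [← polar_isometry Q g hg v (Gi *ᵥ v), ← hG, hGi, mulVec_inv_mulVec,
        QuadraticMap.polar_comm]
    rw [QuadraticMap.polar_sub_right, h1, sub_self]
  -- `W` is non-degenerate
  have hdetB : (gramB Q).det ≠ 0 := by
    rw [← Matrix.nondegenerate_iff_det_ne_zero, LinearMap.BilinForm.nondegenerate_toMatrix'_iff]
    exact hQ
  have hdetD : D.det ≠ 0 := by
    intro h0
    obtain ⟨v, hv0, hv⟩ := Matrix.exists_mulVec_eq_zero_iff.mpr h0
    apply hv0
    apply hfix
    apply fixed_of_eq_inv g hN hgN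
    rw [hD, Matrix.sub_mulVec, sub_eq_zero] at hv
    exact hv
  have hdetW : W.det ≠ 0 := by
    rw [hW, Matrix.det_mul]
    exact mul_ne_zero hdetB hdetD
  -- `C` is a similarity of `W`
  have hsim : Cᵀ * W * C = (mu (⇑Q) c : F) • W := by
    rw [hW, Matrix.mul_assoc, Matrix.mul_assoc, hDC, ← Matrix.mul_assoc (gramB Q), ← Matrix.mul_assoc,
      ← Matrix.mul_assoc, sim_gramB Q c, Matrix.smul_mul]
  -- reindex
  set n := Fintype.card ι with hn
  let e : ι ≃ Fin n := Fintype.equivFin ι
  have hsim' : (Matrix.reindex e e C)ᵀ * Matrix.reindex e e W * Matrix.reindex e e C =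
      (mu (⇑Q) c : F) • Matrix.reindex e e W := by
    calc (Matrix.reindex e e C)ᵀ * Matrix.reindex e e W * Matrix.reindex e e C
        = Matrix.reindex e e (Cᵀ * W * C) := by
          simp only [Matrix.reindex_apply]
          rw [Matrix.transpose_submatrix, Matrix.submatrix_mul_equiv, Matrix.submatrix_mul_equiv]
      _ = Matrix.reindex e e ((mu (⇑Q) c : F) • W) := by rw [hsim]
      _ = (mu (⇑Q) c : F) • Matrix.reindex e e W := by
          simp only [Matrix.reindex_apply, Matrix.submatrix_smul, Pi.smul_apply]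
  have halt' : ∀ v, bilOf (Matrix.reindex e e W) v v = 0 := by
    intro v
    rw [bilOf_reindex]
    exact hWalt _
  have hdet' : (Matrix.reindex e e W).det ≠ 0 := by
    rw [Matrix.det_reindex_self]
    exact hdetW
  have := det_of_sim_alt (m := M) hcard halt' hdet' (Units.ne_zero _) hsim'
  rw [Matrix.det_reindex_self] at this
  exact this

end Cfsg.Agent.Lib.Helper45_OFus_Det
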