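import Mathlib
import Cfsg.Agent.Lib.Helper45_OFus_ZDefs
import Cfsg.Agent.Lib.Helper14_NegOne

/-!
# `Good` passes from an invariant non-degenerate subspace (in coordinates) to the whole space
-/

set_option autoImplicit false

namespace Cfsg.Agent.Lib.Helper45_OFus_Ext

open Cfsg Matrix Module Cfsg.Agent.Lib.Helper44_Orth Cfsg.Agent.Lib.Helper44_Refl
  Cfsg.Agent.Lib.Helper44_Spinor Cfsg.Agent.Lib.Helper45_OFus_ZDefs Cfsg.Agent.Lib.Helper14_NegOne

variable {ι κ : Type} [Fintype ι] [DecidableEq ι] [Fintype κ] [DecidableEq κ] {F : Type*} [Field F]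

omit [Fintype ι] [DecidableEq ι] [Fintype κ] [DecidableEq κ] in
theorem polar_comp (Q : QuadraticForm F (ι → F)) (j : (κ → F) →ₗ[F] (ι → F))
    (Q' : QuadraticForm F (κ → F)) (hQ' : ∀ c, Q' c = Q (j c)) (a b : κ → F) :
    QuadraticMap.polar (⇑Q') a b = QuadraticMap.polar (⇑Q) (j a) (j b) := by
  unfold QuadraticMap.polar
  rw [hQ', hQ', hQ', map_add]

theorem refl_comp (Q : QuadraticForm F (ι → F)) (j : (κ → F) →ₗ[F] (ι → F))
    (Q' : QuadraticForm F (κ → F)) (hQ' : ∀ c, Q' c = Q (j c)) (v c : κ → F) :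
    Cfsg.reflectionMatrix (⇑Q) (j v) *ᵥ (j c) = j (Cfsg.reflectionMatrix (⇑Q') v *ᵥ c) := by
  rw [reflectionMatrix_mulVec, reflectionMatrix_mulVec, map_sub, map_smul, ← hQ',
    polar_comp Q j Q' hQ']

theorem prod_refl_comp (Q : QuadraticForm F (ι → F)) (j : (κ → F) →ₗ[F] (ι → F))
    (Q' : QuadraticForm F (κ → F)) (hQ' : ∀ c, Q' c = Q (j c)) (vs : List (κ → F)) (c : κ → F) :
    ((vs.map j).map (fun v => Cfsg.reflectionMatrix (⇑Q) v)).prod *ᵥ (j c) =
      j ((vs.map (fun v => Cfsg.reflectionMatrix (⇑Q') v)).prod *ᵥ c) := by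
  induction vs generalizing c with
  | nil => simp
  | cons v vs ih =>
    rw [List.map_cons, List.map_cons, List.prod_cons, List.map_cons, List.prod_cons,
      ← Matrix.mulVec_mulVec, ih, refl_comp Q j Q' hQ', ← Matrix.mulVec_mulVec]

/-- **EXT**: `Good` for the restriction to an invariant non-degenerate subspace gives `Good`. -/
theorem good_of_subspace (Q : QuadraticForm F (ι → F)) (g : Matrix ι ι F)
    (hg : ∀ x, Q (g *ᵥ x) = Q x)
    (j : (κ → F) →ₗ[F] (ι → F)) (hj : Function.Injective j)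
    (hnd : ∀ x, (∀ y, QuadraticMap.polar (⇑Q) (j x) (j y) = 0) → x = 0)
    (Q' : QuadraticForm F (κ → F)) (hQ' : ∀ c, Q' c = Q (j c))
    (g' : Matrix κ κ F) (hg' : ∀ c, g *ᵥ (j c) = j (g' *ᵥ c))
    (hgood : Good Q' g') : Good Q g := by
  obtain ⟨vs, hvs, hev, hsq, hcomm⟩ := hgood
  set B : LinearMap.BilinForm F (ι → F) := QuadraticMap.polarBilin Q with hB
  set W : Submodule F (ι → F) := LinearMap.range j with hW
  have hBsymm : B.IsSymm := ⟨fun x y => by
    rw [hB, QuadraticMap.polarBilin_apply_apply, QuadraticMap.polarBilin_apply_apply,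
      QuadraticMap.polar_comm]⟩
  have hpolg : ∀ x y, QuadraticMap.polar (⇑Q) (g *ᵥ x) (g *ᵥ y) = QuadraticMap.polar (⇑Q) x y := by
    intro x y
    unfold QuadraticMap.polar
    rw [← Matrix.mulVec_add, hg, hg, hg]
  -- `W` is complemented by its orthogonal
  have hres : (B.restrict W).Nondegenerate := by
    have hleft : (B.restrict W).SeparatingLeft := by
      rintro ⟨x, c, rfl⟩ hx
      have : c = 0 := by
        apply hnd
        intro y
        have := hx ⟨j y, y, rfl⟩
        simpa [hB] using this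
      subst this
      simp
    refine ⟨hleft, ?_⟩
    intro y hy
    apply hleft
    intro x
    have := hy x
    simp only [LinearMap.BilinForm.restrict_apply, LinearMap.domRestrict_apply] at this ⊢
    rw [hBsymm.eq] at this
    simpa using this
  have hcompl := LinearMap.BilinForm.isCompl_orthogonal_of_restrict_nondegenerate hBsymm.isRefl hres
  -- `g'` is injective, hence `g` maps `W` onto `W`
  have hg'inj : Function.Injective (Matrix.toLin' g') := by
    rw [← LinearMap.ker_eq_bot, LinearMap.ker_eq_bot']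
    intro c hc
    rw [Matrix.toLin'_apply] at hc
    apply hnd
    intro y
    rw [← hpolg, hg', hc, map_zero]
    unfold QuadraticMap.polar
    simp
  have hg'surj : Function.Surjective (Matrix.toLin' g') :=
    LinearMap.surjective_of_injective hg'inj
  have hgorth : ∀ x ∈ B.orthogonal W, g *ᵥ x ∈ B.orthogonal W := by
    intro x hx
    rw [LinearMap.BilinForm.mem_orthogonal_iff] at hx ⊢
    rintro _ ⟨c, rfl⟩
    obtain ⟨c', rfl⟩ := hg'surj c
    rw [Matrix.toLin'_apply, ← hg']
    have h1 := hx (j c') ⟨c', rfl⟩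
    rw [hB, QuadraticMap.polarBilin_apply_apply] at h1 ⊢
    rw [hpolg]
    exact h1
  set R : Matrix ι ι F := ((vs.map j).map (fun v => Cfsg.reflectionMatrix (⇑Q) v)).prod with hR
  set R' : Matrix κ κ F := (vs.map (fun v => Cfsg.reflectionMatrix (⇑Q') v)).prod with hR'
  have hRW : ∀ c, R *ᵥ (j c) = j (R' *ᵥ c) := prod_refl_comp Q j Q' hQ' vs
  have hRorth : ∀ x ∈ B.orthogonal W, R *ᵥ x = x := by
    intro x hx
    apply prod_refl_fix Q (vs.map j) x
    intro v hv
    obtain ⟨v', -, rfl⟩ := List.mem_map.mp hv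
    rw [LinearMap.BilinForm.mem_orthogonal_iff] at hx
    have h1 := hx (j v') ⟨v', rfl⟩
    rw [hB, QuadraticMap.polarBilin_apply_apply] at h1
    exact h1
  refine ⟨vs.map j, ?_, ?_, ?_, ?_⟩
  · intro v hv
    obtain ⟨v', hv', rfl⟩ := List.mem_map.mp hv
    rw [← hQ']
    exact hvs v' hv'
  · rw [List.length_map]
    exact hev
  · have : (vs.map j).map (fun v => Q v) = vs.map (fun v => Q' v) := by
      rw [List.map_map]
      apply List.map_congr_left
      intro v _
      rw [Function.comp_apply, hQ']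
    rw [this]
    exact hsq
  · rw [← hR]
    apply Matrix.toLin'.injective
    apply LinearMap.ext
    intro x
    rw [Matrix.toLin'_apply, Matrix.toLin'_apply]
    have hx : x ∈ W ⊔ B.orthogonal W := by
      rw [hcompl.sup_eq_top]
      exact Submodule.mem_top
    obtain ⟨w, ⟨c, rfl⟩, y, hy, rfl⟩ := Submodule.mem_sup.mp hx
    rw [Matrix.mulVec_add, Matrix.mulVec_add]
    congr 1
    · rw [← Matrix.mulVec_mulVec, ← Matrix.mulVec_mulVec, hg', hRW, hRW, hg']
      congr 1
      rw [Matrix.mulVec_mulVec, Matrix.mulVec_mulVec, hcomm]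
    · rw [← Matrix.mulVec_mulVec, ← Matrix.mulVec_mulVec, hRorth y hy, hRorth _ (hgorth y hy)]

end Cfsg.Agent.Lib.Helper45_OFus_Ext
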