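import Mathlib
import Cfsg.Agent.Lib.Helper45_OFus_Core
import Cfsg.Agent.Lib.Helper45_OFus_Det

/-!
# Fixed vectors of an isometry of odd order; a commuting similarity in `G°` with non-square multiplier

* `exists_fixed_nonsingular`: if an isometry `g` with `g ^ N = 1`, `N ≠ 0` in `F`, fixes a non-zero vector,
  it fixes a non-singular vector (averaging).
* `exists_comm_Gz`: for such a `g` (`N` odd) there is a similarity `c ∈ G°` with non-square multiplier
  commuting with `g`, as soon as some similarity has non-square multiplier.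
-/

set_option autoImplicit false

namespace Cfsg.Agent.Lib.Helper45_OFus_Fix

open Cfsg Matrix Module Cfsg.Agent.Lib.Helper44_Orth Cfsg.Agent.Lib.Helper14_AutOmega
  Cfsg.Agent.Lib.Helper14_GOChars Cfsg.Agent.Lib.Helper14_InndiagQuot Cfsg.Agent.Lib.Helper44_Refl
  Cfsg.Agent.Lib.Helper45_OFus_Core Cfsg.Agent.Lib.Helper45_OFus_Det

variable {ι : Type} [Fintype ι] [DecidableEq ι] {F : Type*} [Field F]

/-- The averaging operator `∑ gⁱ` has image in the fixed space. -/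
theorem mul_sum_pow (g : GL ι F) {N : ℕ} (hgN : g ^ N = 1) :
    (g : Matrix ι ι F) * ∑ i ∈ Finset.range N, ((g ^ i : GL ι F) : Matrix ι ι F) =
      ∑ i ∈ Finset.range N, ((g ^ i : GL ι F) : Matrix ι ι F) := by
  rw [Finset.mul_sum]
  have h1 : ∀ i, (g : Matrix ι ι F) * ((g ^ i : GL ι F) : Matrix ι ι F) =
      ((g ^ (i + 1) : GL ι F) : Matrix ι ι F) := by
    intro i
    rw [pow_succ', Units.val_mul]
  simp_rw [h1]
  have h2 := Finset.sum_range_succ' (fun i => ((g ^ i : GL ι F) : Matrix ι ι F)) N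
  have h3 := Finset.sum_range_succ (fun i => ((g ^ i : GL ι F) : Matrix ι ι F)) N
  rw [h3, hgN, pow_zero] at h2
  exact (add_right_cancel h2).symm

theorem pow_mulVec_fixed (g : GL ι F) (u : ι → F) (hu : (g : Matrix ι ι F) *ᵥ u = u) (i : ℕ) :
    ((g ^ i : GL ι F) : Matrix ι ι F) *ᵥ u = u := by
  induction i with
  | zero => simp
  | succ i ih => rw [pow_succ, Units.val_mul, ← Matrix.mulVec_mulVec, hu, ih]

/-- An isometry of order prime to the characteristic fixing a non-zero vector fixes a non-singular one. -/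
theorem exists_fixed_nonsingular (Q : QuadraticForm F (ι → F))
    (hQ : (QuadraticMap.polarBilin Q).Nondegenerate)
    (g : GL ι F) (hg : g ∈ isometryGroup F (⇑Q)) {N : ℕ} (hNF : (N : F) ≠ 0) (hgN : g ^ N = 1)
    (u : ι → F) (hu : (g : Matrix ι ι F) *ᵥ u = u) (hu0 : u ≠ 0) :
    ∃ w : ι → F, (g : Matrix ι ι F) *ᵥ w = w ∧ Q w ≠ 0 := by
  by_contra hcon
  push Not at hcon
  have hpol : ∀ a b : ι → F, (g : Matrix ι ι F) *ᵥ a = a → (g : Matrix ι ι F) *ᵥ b = b →
      QuadraticMap.polar (⇑Q) a b = 0 := by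
    intro a b ha hb
    unfold QuadraticMap.polar
    rw [hcon a ha, hcon b hb, hcon (a + b) (by rw [Matrix.mulVec_add, ha, hb])]
    ring
  apply hu0
  apply hQ.1
  intro w
  set S : Matrix ι ι F := ∑ i ∈ Finset.range N, ((g ^ i : GL ι F) : Matrix ι ι F) with hS
  have hSw : (g : Matrix ι ι F) *ᵥ (S *ᵥ w) = S *ᵥ w := by
    rw [Matrix.mulVec_mulVec, hS, mul_sum_pow g hgN]
  have h0 := hpol u (S *ᵥ w) hu hSw
  have h1 : S *ᵥ w = ∑ i ∈ Finset.range N, ((g ^ i : GL ι F) : Matrix ι ι F) *ᵥ w := by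
    rw [hS, Matrix.sum_mulVec]
  have h2 : QuadraticMap.polar (⇑Q) u (S *ᵥ w) =
      ∑ i ∈ Finset.range N, QuadraticMap.polar (⇑Q) u (((g ^ i : GL ι F) : Matrix ι ι F) *ᵥ w) := by
    rw [h1]
    exact map_sum (QuadraticMap.polarBilin Q u) _ _
  have h3 : ∀ i ∈ Finset.range N,
      QuadraticMap.polar (⇑Q) u (((g ^ i : GL ι F) : Matrix ι ι F) *ᵥ w) =
        QuadraticMap.polar (⇑Q) u w := by
    intro i _
    have := polar_isometry Q (g ^ i) (Subgroup.pow_mem _ hg i) u w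
    rw [pow_mulVec_fixed g u hu i] at this
    exact this
  rw [h2, Finset.sum_congr rfl h3, Finset.sum_const, Finset.card_range, nsmul_eq_mul] at h0
  rcases mul_eq_zero.mp h0 with h | h
  · exact absurd h hNF
  · exact h

/-- A reflection in a fixed vector of an isometry commutes with it. -/
theorem refl_comm_of_fixed (Q : QuadraticForm F (ι → F)) (g : GL ι F) (hg : g ∈ isometryGroup F (⇑Q))
    (w : ι → F) (hw : Q w ≠ 0) (hgw : (g : Matrix ι ι F) *ᵥ w = w) :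
    (refl Q w hw : GL ι F) * g = g * (refl Q w hw : GL ι F) := by
  have h := conj_reflectionMatrix Q ⟨g, hg⟩ w
  simp only [hgw] at h
  apply Units.ext
  rw [Units.val_mul, Units.val_mul]
  show Cfsg.reflectionMatrix (⇑Q) w * (g : Matrix ι ι F) = (g : Matrix ι ι F) * Cfsg.reflectionMatrix (⇑Q) w
  have hinv : (((⟨g, hg⟩ : ↥(isometryGroup F (⇑Q)))⁻¹ : ↥(isometryGroup F (⇑Q))) : GL ι F).1 *
      (g : Matrix ι ι F) = 1 := by
    show ((g⁻¹ : GL ι F) : Matrix ι ι F) * (g : Matrix ι ι F) = 1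
    rw [← Units.val_mul, inv_mul_cancel, Units.val_one]
  calc Cfsg.reflectionMatrix (⇑Q) w * (g : Matrix ι ι F)
      = ((g : Matrix ι ι F) * Cfsg.reflectionMatrix (⇑Q) w *
          (((⟨g, hg⟩ : ↥(isometryGroup F (⇑Q)))⁻¹ : ↥(isometryGroup F (⇑Q))) : GL ι F).1) *
          (g : Matrix ι ι F) := by rw [h]
    _ = (g : Matrix ι ι F) * Cfsg.reflectionMatrix (⇑Q) w := by
        rw [Matrix.mul_assoc, hinv, Matrix.mul_one]

variable [Fintype F]

/-- For an isometry `g` of odd order prime to the characteristic there is a similarity in `G°` with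
non-square multiplier commuting with `g`. -/
theorem exists_comm_Gz (h2 : (2 : F) ≠ 0) (Q : QuadraticForm F (ι → F))
    (hQ : (QuadraticMap.polarBilin Q).Nondegenerate) (hne : ∃ v, Q v ≠ 0) {M : ℕ}
    (hcard : Fintype.card ι = 2 * M)
    (g : GL ι F) (hg : g ∈ isometryGroup F (⇑Q)) {N : ℕ} (hN : Odd N) (hNF : (N : F) ≠ 0)
    (hgN : g ^ N = 1) (δ : ↥(GO (⇑Q))) (hδ : chiHom Q hne δ = -1) :
    ∃ c : ↥(GO (⇑Q)), c ∈ Gz h2 Q hQ hne hcard ∧ chiHom Q hne c = -1 ∧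
      (c : GL ι F) * g = g * (c : GL ι F) := by
  obtain ⟨k, hk, hkg⟩ := exists_conj_isometry Q hQ g hg hN hNF hgN (δ : GL ι F) δ.2
  set k' : ↥(GO (⇑Q)) := ⟨k, isometryGroup_le_GO (⇑Q) hk⟩ with hk'
  set c₀ : ↥(GO (⇑Q)) := k'⁻¹ * δ with hc₀
  have hc₀g : (c₀ : GL ι F) * g = g * (c₀ : GL ι F) := by
    have h1 : (c₀ : GL ι F) = k⁻¹ * (δ : GL ι F) := rfl
    rw [h1]
    have h3 : (δ : GL ι F) * g = k * g * k⁻¹ * (δ : GL ι F) := by
      rw [hkg, inv_mul_cancel_right]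
    calc k⁻¹ * (δ : GL ι F) * g = k⁻¹ * ((δ : GL ι F) * g) := by group
      _ = k⁻¹ * (k * g * k⁻¹ * (δ : GL ι F)) := by rw [h3]
      _ = g * (k⁻¹ * (δ : GL ι F)) := by group
  have hchi₀ : chiHom Q hne c₀ = -1 := by
    have hk1 : chiHom Q hne k' = 1 := by
      rw [chiHom_eq_one_iff, mu_of_isometry (⇑Q) hne k' hk, Units.val_one]
      exact ⟨1, by simp⟩
    rw [hc₀, map_mul, map_inv, hk1, inv_one, one_mul, hδ]
  by_cases hfix : ∀ v : ι → F, (g : Matrix ι ι F) *ᵥ v = v → v = 0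
  · refine ⟨c₀, ?_, hchi₀, hc₀g⟩
    rw [MonoidHom.mem_ker, sgnHom_eq_one_iff]
    exact det_eq_mu_pow_of_comm Q hQ hcard g hg hN hgN hfix c₀ hc₀g
  · push Not at hfix
    obtain ⟨u, hu, hu0⟩ := hfix
    obtain ⟨w, hgw, hw⟩ := exists_fixed_nonsingular Q hQ g hg hNF hgN u hu hu0
    rcases Int.units_eq_one_or (sgnHom h2 Q hQ hne hcard c₀) with h | h
    · exact ⟨c₀, MonoidHom.mem_ker.mpr h, hchi₀, hc₀g⟩
    · obtain ⟨hs, hc⟩ := sgnHom_refl h2 Q hQ hne hcard w hw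
      set ρ : ↥(GO (⇑Q)) := ⟨(refl Q w hw : GL ι F), isometryGroup_le_GO (⇑Q) (refl Q w hw).2⟩ with hρ
      refine ⟨c₀ * ρ, ?_, ?_, ?_⟩
      · rw [MonoidHom.mem_ker, map_mul, h, hs]
        rfl
      · rw [map_mul, hchi₀, hc, mul_one]
      · have hρg : (ρ : GL ι F) * g = g * (ρ : GL ι F) := refl_comm_of_fixed Q g hg w hw hgw
        rw [Subgroup.coe_mul, mul_assoc, hρg, ← mul_assoc, hc₀g, mul_assoc]

end Cfsg.Agent.Lib.Helper45_OFus_Fix
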