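import Mathlib
import Cfsg.Agent.Lib.Helper45_OFus_Core
import Cfsg.Agent.Lib.Helper45_OFus_Fix
import Cfsg.Agent.Lib.Helper45_OFus_Abs
import Cfsg.Agent.Lib.Helper14_GraphSplit

/-!
# Fusion of the classes of an odd prime order semisimple automorphism of `PΩ(Q)` (S2720, S2721)

Generic theorems, for a non-degenerate quadratic form `Q` in even dimension `2M ≥ 6` over a finite field of
odd characteristic: for `x` induced by a similarity, `x ^ r = 1`, `r` odd and prime to the characteristic,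

* the `PO`-class of `x` is its `PGO`-class (`po_iff_pgo`);
* if `Phi(G°) / Inn` is cyclic of order 2 or 4, the `Inn`-, `PSO`- and `Phi(G°)`-classes coincide
  (`fusion_cyclic`);
* if `Phi(G°) / Inn` is a Klein four-group, the same holds provided every isometry `g` with `g ^ r = 1`
  commutes with an element of `SO ∖ Ω·Z` (`fusion_klein`).
-/

set_option autoImplicit false

namespace Cfsg.Agent.Lib.Helper45_OFus_Main

open Cfsg Matrix Module Cfsg.Agent.Lib.Helper44_Orth Cfsg.Agent.Lib.Helper14_AutOmega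
  Cfsg.Agent.Lib.Helper14_GOChars Cfsg.Agent.Lib.Helper14_InndiagQuot Cfsg.Agent.Lib.Helper44_Refl
  Cfsg.Agent.Lib.Helper14_CentOmega Cfsg.Agent.Lib.Helper14_OmegaIndex
  Cfsg.Agent.Lib.Helper14_GraphSplit
  Cfsg.Agent.Lib.Helper45_OFus_Core Cfsg.Agent.Lib.Helper45_OFus_Det Cfsg.Agent.Lib.Helper45_OFus_Fix
  Cfsg.Agent.Lib.Helper45_OFus_Abs

variable {ι : Type} [Fintype ι] [DecidableEq ι] {F : Type*} [Field F] [Fintype F]

section

variable (h2 : (2 : F) ≠ 0) (Q : QuadraticForm F (ι → F))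
  (hQ : (QuadraticMap.polarBilin Q).Nondegenerate) (hn : 5 ≤ Fintype.card ι)
  (hne : ∃ v, Q v ≠ 0) {M : ℕ} (hcard : Fintype.card ι = 2 * M)

include h2 hQ in
theorem inn_le_pso : Inn (POmega F (⇑Q)) ≤ psoAut F (⇑Q) := by
  rw [psoAut_eq_map, inn_eq_map]
  apply Subgroup.map_mono
  rw [omega_eq_inf h2 Q hQ]
  exact inf_le_left

theorem pso_le : psoAut F (⇑Q) ≤ (Gz h2 Q hQ hne hcard).map (Phi (⇑Q)) := by
  rw [psoAut_eq]
  exact Subgroup.map_mono (le_sup_left.trans (SO'_le_Gz h2 Q hQ hne hcard))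

omit [Fintype F] in
theorem po_le_pgo : poAut F (⇑Q) ≤ pgoAut F (⇑Q) := by
  rw [poAut_eq, pgoAut_eq, MonoidHom.range_eq_map]
  exact Subgroup.map_mono le_top

include h2 hQ hn hcard in
/-- A similarity with non-square multiplier does not induce an element of `PSO`. -/
theorem Phi_not_mem_pso (c : ↥(GO (⇑Q))) (hchi : chiHom Q hne c = -1) :
    Phi (⇑Q) c ∉ psoAut F (⇑Q) := by
  intro hmem
  rw [psoAut_eq] at hmem
  obtain ⟨s, hs, hsc⟩ := hmem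
  have hz : s⁻¹ * c ∈ (Phi (⇑Q)).ker := by
    rw [MonoidHom.mem_ker, map_mul, map_inv, hsc, inv_mul_cancel]
  rw [ker_Phi Q hQ hn] at hz
  have hc : c ∈ SO' Q ⊔ Z' Q := by
    have : c = s * (s⁻¹ * c) := by group
    rw [this]
    exact Subgroup.mul_mem _ (Subgroup.mem_sup_left hs) (Subgroup.mem_sup_right hz)
  rw [← ker_psi h2 Q hQ hne hcard, MonoidHom.mem_ker, psi, MonoidHom.prod_apply, Prod.mk_eq_one] at hc
  rw [hc.1] at hchi
  exact absurd hchi (by decide)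

include hQ hn in
/-- `Phi z` is inner iff `z ∈ Ω·Z`. -/
theorem Phi_mem_inn_iff (z : ↥(GO (⇑Q))) :
    Phi (⇑Q) z ∈ Inn (POmega F (⇑Q)) ↔ z ∈ Om' Q ⊔ Z' Q := by
  have hZ : Z' Q = (Phi (⇑Q)).ker := (ker_Phi Q hQ hn).symm
  have hInn : (Om' Q).map (Phi (⇑Q)) = Inn (POmega F (⇑Q)) := (inn_eq (⇑Q)).symm
  rw [hZ, ← Subgroup.comap_map_eq, Subgroup.mem_comap, hInn]

include hQ hn hne in
/-- The `PO`-class of an automorphism of odd order prime to the characteristic induced by a similarity is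
its `PGO`-class. -/
theorem po_iff_pgo (x : MulAut (POmega F (⇑Q))) (hx : x ∈ pgoAut F (⇑Q)) {r : ℕ}
    (hro : Odd r) (hrF : (r : F) ≠ 0) (hxr : x ^ r = 1) (y : MulAut (POmega F (⇑Q))) :
    IsConjUnder (poAut F (⇑Q)) x y ↔ IsConjUnder (pgoAut F (⇑Q)) x y := by
  constructor
  · rintro ⟨k, hk, rfl⟩
    exact ⟨k, po_le_pgo Q hk, rfl⟩
  · rintro ⟨h, hh, rfl⟩
    obtain ⟨g, hg, hgr, rfl⟩ := exists_isometry_rep Q hQ hn hne x hx hro hxr
    rw [pgoAut_eq] at hh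
    obtain ⟨η, rfl⟩ := hh
    have hgr' : (g : GL ι F) ^ r = 1 := by
      have := congrArg (fun z : ↥(GO (⇑Q)) => (z : GL ι F)) hgr
      simpa using this
    obtain ⟨k, hk, hkg⟩ := exists_conj_isometry Q hQ (g : GL ι F) hg hro hrF hgr' (η : GL ι F) η.2
    set k' : ↥(GO (⇑Q)) := ⟨k, isometryGroup_le_GO (⇑Q) hk⟩ with hk'
    refine ⟨Phi (⇑Q) k', ?_, ?_⟩
    · rw [poAut_eq]
      exact ⟨k', Subgroup.mem_subgroupOf.mpr hk, rfl⟩
    · have h1 : k' * g * k'⁻¹ = η * g * η⁻¹ := by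
        apply Subtype.ext
        exact hkg
      rw [← map_inv, ← map_inv, ← map_mul, ← map_mul, ← map_mul, ← map_mul, h1]

/-- The fusion statement, from a factorisation of `Phi(G°)`. -/
theorem fusion_of_factor (x : MulAut (POmega F (⇑Q)))
    (hfac : ∀ h ∈ (Gz h2 Q hQ hne hcard).map (Phi (⇑Q)), ∃ k ∈ Inn (POmega F (⇑Q)),
      ∃ c : MulAut (POmega F (⇑Q)), c * x = x * c ∧ h = k * c)
    (y : MulAut (POmega F (⇑Q))) :
    (IsConjUnder (Inn (POmega F (⇑Q))) x y ↔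
      IsConjUnder ((Gz h2 Q hQ hne hcard).map (Phi (⇑Q))) x y) ∧
    (IsConjUnder (psoAut F (⇑Q)) x y ↔
      IsConjUnder ((Gz h2 Q hQ hne hcard).map (Phi (⇑Q))) x y) := by
  have h1 := isConjUnder_iff_of_le (Inn (POmega F (⇑Q))) ((Gz h2 Q hQ hne hcard).map (Phi (⇑Q)))
    (inn_le h2 Q hQ hne hcard) x hfac y
  refine ⟨h1, ?_⟩
  constructor
  · rintro ⟨k, hk, rfl⟩
    exact ⟨k, pso_le h2 Q hQ hne hcard hk, rfl⟩
  · intro h
    obtain ⟨k, hk, rfl⟩ := h1.mpr h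
    exact ⟨k, inn_le_pso h2 Q hQ hk, rfl⟩

include hn in
/-- The sign character on `Phi(G°)` with kernel `PSO`, and the facts we need about it. -/
theorem exists_sign (c : ↥(GO (⇑Q))) (hc : c ∈ Gz h2 Q hQ hne hcard) (hchi : chiHom Q hne c = -1) :
    ∃ ψ : ↥((Gz h2 Q hQ hne hcard).map (Phi (⇑Q))) →* ℤˣ,
      Nz h2 Q hQ hne hcard ≤ ψ.ker ∧
      (∀ t : ↥((Gz h2 Q hQ hne hcard).map (Phi (⇑Q))), ψ t = 1 ↔
        (t : MulAut (POmega F (⇑Q))) ∈ psoAut F (⇑Q)) := by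
  obtain ⟨ψ, -, hker⟩ := exists_hom_Iz h2 Q hQ hn hne hcard c hc hchi
  refine ⟨ψ, ?_, ?_⟩
  · rw [hker]
    intro t ht
    rw [Subgroup.mem_subgroupOf] at ht ⊢
    exact inn_le_pso h2 Q hQ ht
  · intro t
    rw [← MonoidHom.mem_ker, hker, Subgroup.mem_subgroupOf]

include hn in
/-- **Cyclic case.** -/
theorem fusion_cyclic (hδ : ∃ δ : ↥(GO (⇑Q)), chiHom Q hne δ = -1)
    (hcyc : ∃ n : ℕ, (n = 2 ∨ n = 4) ∧
      ∃ φ : ↥((Gz h2 Q hQ hne hcard).map (Phi (⇑Q))) →* Multiplicative (ZMod n),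
        Function.Surjective φ ∧ φ.ker = Nz h2 Q hQ hne hcard)
    (x : MulAut (POmega F (⇑Q))) (hx : x ∈ pgoAut F (⇑Q)) {r : ℕ}
    (hro : Odd r) (hrF : (r : F) ≠ 0) (hxr : x ^ r = 1) :
    (∀ y : MulAut (POmega F (⇑Q)),
      (IsConjUnder (Inn (POmega F (⇑Q))) x y ↔
        IsConjUnder ((Gz h2 Q hQ hne hcard).map (Phi (⇑Q))) x y) ∧
      (IsConjUnder (psoAut F (⇑Q)) x y ↔
        IsConjUnder ((Gz h2 Q hQ hne hcard).map (Phi (⇑Q))) x y)) ∧
    (∀ y : MulAut (POmega F (⇑Q)),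
      IsConjUnder (poAut F (⇑Q)) x y ↔ IsConjUnder (pgoAut F (⇑Q)) x y) := by
  refine ⟨?_, po_iff_pgo Q hQ hn hne x hx hro hrF hxr⟩
  obtain ⟨g, hg, hgr, rfl⟩ := exists_isometry_rep Q hQ hn hne x hx hro hxr
  have hgr' : (g : GL ι F) ^ r = 1 := by
    have := congrArg (fun z : ↥(GO (⇑Q)) => (z : GL ι F)) hgr
    simpa using this
  obtain ⟨δ, hδ⟩ := hδ
  obtain ⟨c, hcG, hchi, hcg⟩ := exists_comm_Gz h2 Q hQ hne hcard (g : GL ι F) hg hro hrF hgr' δ hδ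
  have hcg' : c * g = g * c := Subtype.ext hcg
  obtain ⟨ψ, hψker, hψ⟩ := exists_sign h2 Q hQ hn hne hcard c hcG hchi
  obtain ⟨n, hn24, φ, hφs, hφk⟩ := hcyc
  set t : ↥((Gz h2 Q hQ hne hcard).map (Phi (⇑Q))) := ⟨Phi (⇑Q) c, Subgroup.mem_map_of_mem _ hcG⟩
    with ht
  have hψt : ψ t = -1 := by
    rcases Int.units_eq_one_or (ψ t) with h | h
    · exact absurd ((hψ t).mp h) (Phi_not_mem_pso h2 Q hQ hn hne hcard c hchi)
    · exact h
  apply fusion_of_factor h2 Q hQ hne hcard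
  intro h hh
  obtain ⟨k, hk, j, hkj⟩ := exists_factor_of_cyclic hn24 φ hφs ψ (by rw [hφk]; exact hψker) t hψt ⟨h, hh⟩
  rw [hφk, Subgroup.mem_subgroupOf] at hk
  refine ⟨(k : MulAut (POmega F (⇑Q))), hk, (Phi (⇑Q) c) ^ j, ?_, ?_⟩
  · rw [← map_pow, ← map_mul, ← map_mul]
    congr 1
    exact ((Commute.pow_left (show Commute c g from hcg') j)).eq
  · have := congrArg (fun z : ↥((Gz h2 Q hQ hne hcard).map (Phi (⇑Q))) =>
      (z : MulAut (POmega F (⇑Q)))) hkj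
    simpa using this

include hn in
/-- **Klein case.** -/
theorem fusion_klein (hδ : ∃ δ : ↥(GO (⇑Q)), chiHom Q hne δ = -1)
    (hkl : ∃ φ : ↥((Gz h2 Q hQ hne hcard).map (Phi (⇑Q))) →* Multiplicative (ZMod 2 × ZMod 2),
        Function.Surjective φ ∧ φ.ker = Nz h2 Q hQ hne hcard)
    {r : ℕ} (hro : Odd r) (hrF : (r : F) ≠ 0)
    (hz : ∀ g : GL ι F, g ∈ isometryGroup F (⇑Q) → g ^ r = 1 →
      ∃ z : ↥(GO (⇑Q)), z ∈ SO' Q ∧ z ∉ Om' Q ⊔ Z' Q ∧ (z : GL ι F) * g = g * (z : GL ι F))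
    (x : MulAut (POmega F (⇑Q))) (hx : x ∈ pgoAut F (⇑Q)) (hxr : x ^ r = 1) :
    (∀ y : MulAut (POmega F (⇑Q)),
      (IsConjUnder (Inn (POmega F (⇑Q))) x y ↔
        IsConjUnder ((Gz h2 Q hQ hne hcard).map (Phi (⇑Q))) x y) ∧
      (IsConjUnder (psoAut F (⇑Q)) x y ↔
        IsConjUnder ((Gz h2 Q hQ hne hcard).map (Phi (⇑Q))) x y)) ∧
    (∀ y : MulAut (POmega F (⇑Q)),
      IsConjUnder (poAut F (⇑Q)) x y ↔ IsConjUnder (pgoAut F (⇑Q)) x y) := by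
  refine ⟨?_, po_iff_pgo Q hQ hn hne x hx hro hrF hxr⟩
  obtain ⟨g, hg, hgr, rfl⟩ := exists_isometry_rep Q hQ hn hne x hx hro hxr
  have hgr' : (g : GL ι F) ^ r = 1 := by
    have := congrArg (fun z : ↥(GO (⇑Q)) => (z : GL ι F)) hgr
    simpa using this
  obtain ⟨δ, hδ⟩ := hδ
  obtain ⟨c, hcG, hchi, hcg⟩ := exists_comm_Gz h2 Q hQ hne hcard (g : GL ι F) hg hro hrF hgr' δ hδ
  have hcg' : c * g = g * c := Subtype.ext hcg
  obtain ⟨z, hzS, hzO, hzg⟩ := hz (g : GL ι F) hg hgr'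
  have hzg' : z * g = g * z := Subtype.ext hzg
  have hzG : z ∈ Gz h2 Q hQ hne hcard := SO'_le_Gz h2 Q hQ hne hcard (Subgroup.mem_sup_left hzS)
  obtain ⟨ψ, hψker, hψ⟩ := exists_sign h2 Q hQ hn hne hcard c hcG hchi
  obtain ⟨φ, -, hφk⟩ := hkl
  set t : ↥((Gz h2 Q hQ hne hcard).map (Phi (⇑Q))) := ⟨Phi (⇑Q) c, Subgroup.mem_map_of_mem _ hcG⟩
    with ht
  set s : ↥((Gz h2 Q hQ hne hcard).map (Phi (⇑Q))) := ⟨Phi (⇑Q) z, Subgroup.mem_map_of_mem _ hzG⟩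
    with hs
  have hψt : ψ t = -1 := by
    rcases Int.units_eq_one_or (ψ t) with h | h
    · exact absurd ((hψ t).mp h) (Phi_not_mem_pso h2 Q hQ hn hne hcard c hchi)
    · exact h
  have hψs : ψ s = 1 := by
    rw [hψ s, psoAut_eq]
    exact Subgroup.mem_map_of_mem _ hzS
  have hφs : s ∉ φ.ker := by
    rw [hφk, Subgroup.mem_subgroupOf]
    show Phi (⇑Q) z ∉ Inn (POmega F (⇑Q))
    rw [Phi_mem_inn_iff Q hQ hn]
    exact hzO
  apply fusion_of_factor h2 Q hQ hne hcard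
  intro h hh
  obtain ⟨k, hk, i, j, hkj⟩ :=
    exists_factor_of_klein φ ψ (by rw [hφk]; exact hψker) t hψt s hψs hφs ⟨h, hh⟩
  rw [hφk, Subgroup.mem_subgroupOf] at hk
  refine ⟨(k : MulAut (POmega F (⇑Q))), hk, (Phi (⇑Q) z) ^ i * (Phi (⇑Q) c) ^ j, ?_, ?_⟩
  · rw [← map_pow, ← map_pow, ← map_mul, ← map_mul, ← map_mul]
    congr 1
    have h1 : Commute (z ^ i) g := Commute.pow_left (show Commute z g from hzg') i
    have h3 : Commute (c ^ j) g := Commute.pow_left (show Commute c g from hcg') j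
    exact (h1.mul_left h3).eq
  · have := congrArg (fun z : ↥((Gz h2 Q hQ hne hcard).map (Phi (⇑Q))) =>
      (z : MulAut (POmega F (⇑Q)))) hkj
    simpa [mul_assoc] using this

end

end Cfsg.Agent.Lib.Helper45_OFus_Main
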