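import Mathlib
import Cfsg.Agent.Lib.Helper45_OFus_Main
import Cfsg.Agent.Lib.Helper14_OrthMinusGraph

/-!
# Fusion of odd prime order semisimple classes in `PΩ⁻_{2m+2}(q)`, `q` odd (S2721)
-/

set_option autoImplicit false

namespace Cfsg.Agent.Lib.Helper45_OFus_Minus

open Cfsg Matrix Module Cfsg.Agent.Lib.Helper44_Orth Cfsg.Agent.Lib.Helper14_AutOmega
  Cfsg.Agent.Lib.Helper44_StdForms Cfsg.Agent.Lib.Helper14_GOChars
  Cfsg.Agent.Lib.Helper14_InndiagQuot Cfsg.Agent.Lib.Helper14_OrthMinusOut3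
  Cfsg.Agent.Lib.Helper14_OrthMinusAut Cfsg.Agent.Lib.Helper45_OFus_Main

theorem odd_card_of_char {F : Type*} [Field F] [Fintype F] {p : ℕ} [hpf : Fact p.Prime] [CharP F p]
    (hp : p ≠ 2) : Odd (Fintype.card F) := by
  obtain ⟨n, hp', hn⟩ := FiniteField.card F p
  rw [hn]
  exact (hpf.out.eq_two_or_odd'.resolve_left hp).pow

theorem cast_ne_zero_of_prime_ne {F : Type*} [Field F] {p : ℕ} [hpf : Fact p.Prime] [CharP F p]
    {r : ℕ} (hr : r.Prime) (hrp : r ≠ p) : (r : F) ≠ 0 := by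
  intro h
  rw [CharP.cast_eq_zero_iff F p r] at h
  rcases (Nat.dvd_prime hr).mp h with h1 | h1
  · exact hpf.out.one_lt.ne' h1
  · exact hrp h1.symm

theorem fusion_minus {F : Type*} [Field F] [Fintype F] {p : ℕ} [Fact p.Prime] [CharP F p]
    (hp : p ≠ 2) {m : ℕ} (hm : 3 ≤ m) (a b : F)
    (hab : (∀ z₁ z₂ : F, z₁ ^ 2 + a * z₁ * z₂ + b * z₂ ^ 2 = 0 → z₁ = 0 ∧ z₂ = 0))
    (x : MulAut (Cfsg.POmega F (Cfsg.quadFormMinus m F a b)))
    (hx : x ∈ Cfsg.pgoAut F (Cfsg.quadFormMinus m F a b)) {r : ℕ} (hr : r.Prime) (hro : Odd r)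
    (hrp : r ≠ p) (hxr : orderOf x = r) :
    (∀ y : MulAut (Cfsg.POmega F (Cfsg.quadFormMinus m F a b)),
      (Cfsg.IsConjUnder (Cfsg.Inn (Cfsg.POmega F (Cfsg.quadFormMinus m F a b))) x y ↔
        Cfsg.IsConjUnder (Cfsg.inndiagPOmegaMinus m F a b) x y) ∧
      (Cfsg.IsConjUnder (Cfsg.psoAut F (Cfsg.quadFormMinus m F a b)) x y ↔
        Cfsg.IsConjUnder (Cfsg.inndiagPOmegaMinus m F a b) x y)) ∧
    (∀ y : MulAut (Cfsg.POmega F (Cfsg.quadFormMinus m F a b)),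
      Cfsg.IsConjUnder (Cfsg.poAut F (Cfsg.quadFormMinus m F a b)) x y ↔
        Cfsg.IsConjUnder (Cfsg.pgoAut F (Cfsg.quadFormMinus m F a b)) x y) := by
  have hodd : Odd (Fintype.card F) := odd_card_of_char hp
  have h2 : (2 : F) ≠ 0 := Cfsg.Agent.Lib.Helper44_FinSq.two_ne_zero_of_odd_card hodd
  have hrF : (r : F) ≠ 0 := cast_ne_zero_of_prime_ne hr hrp
  have S := setup_minus hm a b hab
  have hQ := S.nd
  have hcard : Fintype.card ((Fin m ⊕ Fin m) ⊕ Fin 2) = 2 * (m + 1) := card_index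
  have hn : 5 ≤ Fintype.card ((Fin m ⊕ Fin m) ⊕ Fin 2) := S.hn
  have hneg := Cfsg.Agent.Lib.Helper14_NegOneStd.negOne_mem_minus_iff (F := F) hodd m a b hab
  have hne : ∃ v, qfMinus m F a b v ≠ 0 := ⟨_, nonsing_minus a b⟩
  have hI := Cfsg.Agent.Lib.Helper14_InndiagMain.autSubgroupOf_preserves_eq h2
    (qfMinus m F a b) hQ hne hcard (PreservesSingularClassesMinus m a b)
    (Cfsg.Agent.Lib.Helper14_InndiagMinus.preserves_minus_iff m a b hodd hab)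
  -- a similarity with non-square multiplier
  obtain ⟨ε, hε⟩ := FiniteField.exists_nonsquare
    (Cfsg.Agent.Lib.Helper44_FinSq.ringChar_ne_two_of_two_ne_zero h2)
  have hε0 : ε ≠ 0 := by
    rintro rfl
    exact hε ⟨0, by simp⟩
  obtain ⟨x₀, y₀, hxy⟩ := Cfsg.Agent.Lib.Helper14_GODelta.exists_bin_eq h2 a b hab ε
  have hν : x₀ ^ 2 + a * x₀ * y₀ + b * y₀ ^ 2 ≠ 0 := by rw [hxy]; exact hε0
  have hmem : Cfsg.Agent.Lib.Helper14_GODelta.dMinusGL m a b x₀ y₀ hν ∈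
      GO (⇑(qfMinus m F a b)) := by
    rw [coe_qfMinus]
    exact Cfsg.Agent.Lib.Helper14_GODelta.dMinusGL_mem m a b x₀ y₀ hν
  have hmu : mu (⇑(qfMinus m F a b))
      ⟨Cfsg.Agent.Lib.Helper14_GODelta.dMinusGL m a b x₀ y₀ hν, hmem⟩ = Units.mk0 _ hν := by
    apply mu_eq
    · exact hne
    · intro v
      rw [Cfsg.Agent.Lib.Helper14_GODelta.dMinusGL_coe, coe_qfMinus,
        Cfsg.Agent.Lib.Helper14_GODelta.quadFormMinus_dMinus, Units.val_mk0]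
  have hchi : chiHom (qfMinus m F a b) hne
      ⟨Cfsg.Agent.Lib.Helper14_GODelta.dMinusGL m a b x₀ y₀ hν, hmem⟩ = -1 := by
    rw [chiHom_eq_neg_one_iff, hmu, Units.val_mk0, hxy]
    exact hε
  have hsq : (⟨Cfsg.Agent.Lib.Helper14_GODelta.dMinusGL m a b x₀ y₀ hν, hmem⟩ :
      ↥(GO (⇑(qfMinus m F a b)))) *
      ⟨Cfsg.Agent.Lib.Helper14_GODelta.dMinusGL m a b x₀ y₀ hν, hmem⟩ ∈ Z' (qfMinus m F a b) :=
    Subgroup.mem_subgroupOf.mpr (Cfsg.Agent.Lib.Helper14_GODelta.dMinusGL_sq_mem m a b x₀ y₀ hν)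
  have hGz : Even m → (⟨Cfsg.Agent.Lib.Helper14_GODelta.dMinusGL m a b x₀ y₀ hν, hmem⟩ :
      ↥(GO (⇑(qfMinus m F a b)))) ∉ Gz h2 (qfMinus m F a b) hQ hne hcard := by
    intro hev
    rw [MonoidHom.mem_ker, sgnHom_eq_one_iff, hmu, Units.val_mk0]
    change ¬ ((Cfsg.Agent.Lib.Helper14_GODelta.dMinusMat m a b x₀ y₀).det = _)
    rw [Cfsg.Agent.Lib.Helper14_InndiagMinus.det_dMinusMat, hev.add_one.neg_one_pow]
    intro h
    have h3 : (2 : F) * (x₀ ^ 2 + a * x₀ * y₀ + b * y₀ ^ 2) ^ (m + 1) = 0 := by linear_combination -h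
    rcases mul_eq_zero.mp h3 with h4 | h4
    · exact h2 h4
    · exact hν (pow_eq_zero_iff (by omega) |>.mp h4)
  have hcyc : ∃ n : ℕ, (n = 2 ∨ n = 4) ∧
      ∃ φ : ↥((Gz h2 (qfMinus m F a b) hQ hne hcard).map (Phi (⇑(qfMinus m F a b)))) →*
          Multiplicative (ZMod n),
        Function.Surjective φ ∧ φ.ker = Nz h2 (qfMinus m F a b) hQ hne hcard := by
    by_cases hc : Even m ∧ Fintype.card F % 4 = 3
    · exact ⟨4, Or.inr rfl,
        exists_hom_cyclic_four h2 (qfMinus m F a b) hQ hn hne hcard (hneg.mpr hc) _ hchi hsq (hGz hc.1)⟩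
    · exact ⟨2, Or.inl rfl,
        exists_hom_two h2 (qfMinus m F a b) hQ hn hne hcard (fun h => hc (hneg.mp h)) _ hchi⟩
  have key : ∀ x : MulAut (POmega F (⇑(qfMinus m F a b))),
      x ∈ pgoAut F (⇑(qfMinus m F a b)) → orderOf x = r →
      (∀ y : MulAut (POmega F (⇑(qfMinus m F a b))),
        (IsConjUnder (Inn (POmega F (⇑(qfMinus m F a b)))) x y ↔
          IsConjUnder ((Gz h2 (qfMinus m F a b) hQ hne hcard).map (Phi (⇑(qfMinus m F a b)))) x y) ∧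
        (IsConjUnder (psoAut F (⇑(qfMinus m F a b))) x y ↔
          IsConjUnder ((Gz h2 (qfMinus m F a b) hQ hne hcard).map (Phi (⇑(qfMinus m F a b)))) x y)) ∧
      (∀ y : MulAut (POmega F (⇑(qfMinus m F a b))),
        IsConjUnder (poAut F (⇑(qfMinus m F a b))) x y ↔
          IsConjUnder (pgoAut F (⇑(qfMinus m F a b))) x y) := by
    intro x hx hxr
    have hxr' : x ^ r = 1 := by rw [← hxr, pow_orderOf_eq_one]
    exact fusion_cyclic h2 (qfMinus m F a b) hQ hn hne hcard ⟨_, hchi⟩ hcyc x hx hro hrF hxr'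
  rw [← hI] at key
  rw [coe_qfMinus] at key
  exact key x hx hxr

end Cfsg.Agent.Lib.Helper45_OFus_Minus
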