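import Mathlib
import Cfsg.Agent.Lib.Helper43_IrredDet

/-!
# The determinant is onto on the polynomials in a simple endomorphism (finite fields)

A strengthening of `Helper43_IrredDet.exists_commute_det` (helper43): the element is a polynomial in the
endomorphism.  Matrix version included.
-/

set_option autoImplicit false

namespace Cfsg.Agent.Lib.Helper45_OFus_Norm

open Module Polynomial Cfsg.Agent.Lib.Helper43_IrredDet
open scoped IsMulCommutative

section lin

variable {F W : Type*} [Field F] [Finite F] [AddCommGroup W] [Module F W] [FiniteDimensional F W]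

/-- For a simple endomorphism `S`, every scalar is the determinant of an element of `F[S]`. -/
theorem exists_mem_adjoin_det (S : End F W) [Nontrivial W]
    (hirr : ∀ U : Submodule F W, (∀ u ∈ U, S u ∈ U) → U = ⊥ ∨ U = ⊤) (lam : F) :
    ∃ a ∈ Algebra.adjoin F ({S} : Set (End F W)), LinearMap.det a = lam := by
  classical
  set A := Algebra.adjoin F ({S} : Set (End F W)) with hA
  obtain ⟨w₀, hw₀⟩ := exists_ne (0 : W)
  have hnt : Nontrivial A := by
    refine ⟨0, 1, fun h => ?_⟩
    have h1 : (0 : End F W) w₀ = (1 : End F W) w₀ := by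
      have := congrArg (fun k : A => k.1 w₀) h
      exact this
    rw [LinearMap.zero_apply, Module.End.one_apply] at h1
    exact hw₀ h1.symm
  have hnzd : NoZeroDivisors A := by
    refine ⟨fun {k k'} h => ?_⟩
    by_cases hk : k = 0
    · left; exact hk
    · right
      have hinj := injective_of_ne_zero S hirr k hk
      apply Subtype.ext
      apply LinearMap.ext
      intro w
      show k'.1 w = 0
      apply hinj
      have h1 : k.1 (k'.1 w) = (k * k').1 w := rfl
      rw [h1, h, map_zero]
      rfl
  have hdom : IsDomain A := NoZeroDivisors.to_isDomain A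
  have hfinA : Finite A := Module.finite_of_finite F
  have := Fintype.ofFinite A
  let _ : Field A := Fintype.fieldOfDomain A
  obtain ⟨a, ha⟩ := FiniteField.norm_surjective F A lam
  refine ⟨a.1, a.2, ?_⟩
  -- the evaluation isomorphism
  let φ : A →ₗ[F] W := (LinearMap.applyₗ w₀) ∘ₗ A.val.toLinearMap
  have hφ : ∀ k : A, φ k = k.1 w₀ := fun k => rfl
  have hφinj : Function.Injective φ := by
    rw [← LinearMap.ker_eq_bot, LinearMap.ker_eq_bot']
    intro k hk
    by_contra hne
    have hinj := injective_of_ne_zero S hirr k hne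
    apply hw₀
    apply hinj
    rw [map_zero]
    exact hk
  have hφsurj : Function.Surjective φ := by
    rw [← LinearMap.range_eq_top]
    have hinv : ∀ u ∈ LinearMap.range φ, S u ∈ LinearMap.range φ := by
      rintro _ ⟨k, rfl⟩
      exact ⟨⟨S, Algebra.subset_adjoin rfl⟩ * k, rfl⟩
    rcases hirr _ hinv with h | h
    · exfalso
      have : w₀ ∈ LinearMap.range φ := ⟨1, by rw [hφ]; rfl⟩
      rw [h, Submodule.mem_bot] at this
      exact hw₀ this
    · exact h
  let e : A ≃ₗ[F] W := LinearEquiv.ofBijective φ ⟨hφinj, hφsurj⟩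
  have hconj : a.1 = (e : A →ₗ[F] W) ∘ₗ (LinearMap.mulLeft F a) ∘ₗ (e.symm : W →ₗ[F] A) := by
    apply LinearMap.ext
    intro w
    obtain ⟨k, rfl⟩ := e.surjective w
    rw [LinearMap.comp_apply, LinearMap.comp_apply, LinearEquiv.coe_coe, LinearEquiv.coe_coe,
      LinearEquiv.symm_apply_apply, LinearMap.mulLeft_apply]
    rfl
  rw [hconj, LinearMap.det_conj, ← ha, Algebra.norm_apply]
  rfl

end lin

section mat

variable {ι : Type} [Fintype ι] [DecidableEq ι] {F : Type*} [Field F] [Finite F]

/-- Matrix version: for a simple matrix `g`, every scalar is the determinant of a polynomial in `g`. -/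
theorem exists_aeval_det [Nonempty ι] (g : Matrix ι ι F)
    (hsimple : ∀ U : Submodule F (ι → F), (∀ u ∈ U, g.mulVec u ∈ U) → U = ⊥ ∨ U = ⊤) (lam : F) :
    ∃ f : F[X], (aeval g f).det = lam := by
  have hnt : Nontrivial (ι → F) := by
    obtain ⟨i⟩ := ‹Nonempty ι›
    refine ⟨0, Pi.single i 1, fun h => ?_⟩
    have := congrFun h i
    simp at this
  obtain ⟨a, ha, hdet⟩ := exists_mem_adjoin_det (Matrix.toLin' g) (by
    intro U hU
    apply hsimple U
    intro u hu
    have := hU u hu
    rwa [Matrix.toLin'_apply] at this) lam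
  rw [Algebra.adjoin_singleton_eq_range_aeval] at ha
  obtain ⟨f, rfl⟩ := ha
  refine ⟨f, ?_⟩
  have h1 : aeval (Matrix.toLin' g) f = Matrix.toLin' (aeval g f) := by
    have := Polynomial.aeval_algHom_apply (Matrix.toLinAlgEquiv' : Matrix ι ι F ≃ₐ[F] _).toAlgHom g f
    exact this
  have h3 : (aeval (Matrix.toLin' g)).toRingHom f = aeval (Matrix.toLin' g) f := rfl
  rw [h3, h1, LinearMap.det_toLin'] at hdet
  exact hdet

end mat

end Cfsg.Agent.Lib.Helper45_OFus_Norm
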