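import Mathlib

set_option autoImplicit false

/-!
# OF-DETID (package of helper45's S2720 market)

`det (a + n) = det ((a² - n²) | ker (T + 1))` for an involution `T`, an invertible `a` commuting with `T` and an invertible
`n` anticommuting with `T`, `a n = n a` (characteristic `≠ 2`).
-/

namespace Cfsg.Agent.Lib.Helper4_OFus_DETID

open Matrix Module

variable {F : Type*} [Field F]

/-- OF-DETID. -/
theorem DETID {V : Type*} [AddCommGroup V] [Module F V] [FiniteDimensional F V] (h2 : (2 : F) ≠ 0)
    (T a n : Module.End F V) (hTT : T * T = 1) (hTa : T * a = a * T) (hTn : T * n = -(n * T))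
    (han : a * n = n * a) (ha : Function.Bijective a) (hn : Function.Bijective n)
    (E : Submodule F V) (hE : ∀ x, x ∈ E ↔ T x = -x) (s : ↥E →ₗ[F] ↥E)
    (hs : ∀ x : ↥E, ((s x : ↥E) : V) = (a * a - n * n) (x : V)) :
    LinearMap.det (a + n) = LinearMap.det s := by
  classical
  -- pointwise forms of the hypotheses
  have hTT' : ∀ x, T (T x) = x := fun x => LinearMap.congr_fun hTT x
  have hTa' : ∀ x, T (a x) = a (T x) := fun x => LinearMap.congr_fun hTa x
  have hTn' : ∀ x, T (n x) = -n (T x) := fun x => by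
    have := LinearMap.congr_fun hTn x
    simpa using this
  have han' : ∀ x, a (n x) = n (a x) := fun x => LinearMap.congr_fun han x
  -- `a` and `n * n` preserve `E`
  have hAE : ∀ x ∈ E, a x ∈ E := by
    intro x hx
    rw [hE] at hx ⊢
    rw [hTa', hx, map_neg]
  have hNE : ∀ x ∈ E, n (n x) ∈ E := by
    intro x hx
    rw [hE] at hx ⊢
    rw [hTn', hTn', hx]
    simp only [map_neg, neg_neg]
  set A : ↥E →ₗ[F] ↥E := a.restrict hAE with hA
  set N2 : ↥E →ₗ[F] ↥E := (n * n).restrict (fun x hx => hNE x hx) with hN2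
  have hAval : ∀ x : ↥E, ((A x : ↥E) : V) = a (x : V) := fun x => rfl
  have hN2val : ∀ x : ↥E, ((N2 x : ↥E) : V) = n (n (x : V)) := fun x => rfl
  have hsA : s = A * A - N2 := by
    ext x
    rw [hs]
    simp only [LinearMap.sub_apply, Module.End.mul_apply, Submodule.coe_sub, hAval, hN2val]
  -- the isomorphism `E × E ≃ V`
  set Θ : (↥E × ↥E) →ₗ[F] V := E.subtype.coprod (n ∘ₗ E.subtype) with hΘ
  have hΘval : ∀ p : ↥E × ↥E, Θ p = (p.1 : V) + n (p.2 : V) := fun p => rfl
  have hΘinj : Function.Injective Θ := by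
    rw [← LinearMap.ker_eq_bot, LinearMap.ker_eq_bot']
    rintro ⟨x, y⟩ hxy
    rw [hΘval] at hxy
    have hx := (hE x).1 x.2
    have hy := (hE y).1 y.2
    have h1 : T ((x : V) + n (y : V)) = 0 := by rw [hxy, map_zero]
    rw [map_add, hx, hTn', hy, map_neg, neg_neg] at h1
    -- `h1 : -x + n y = 0`, `hxy : x + n y = 0`
    have hx0 : (2 : F) • (x : V) = 0 := by
      have : (x : V) + n (y : V) - (-(x : V) + n (y : V)) = 0 := by rw [hxy, h1, sub_zero]
      rw [two_smul]
      rw [← this]
      abel
    have hx0' : (x : V) = 0 := (smul_eq_zero.1 hx0).resolve_left h2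
    have hy0 : n (y : V) = 0 := by rw [hx0', zero_add] at hxy; exact hxy
    have hy0' : (y : V) = 0 := hn.injective (by rw [hy0, map_zero])
    exact Prod.ext (Subtype.ext hx0') (Subtype.ext hy0')
  have hΘsurj : Function.Surjective Θ := by
    intro v
    -- the two components of `v`
    set vm : V := (2 : F)⁻¹ • (v - T v) with hvm
    set vp : V := (2 : F)⁻¹ • (v + T v) with hvp
    have hvmE : vm ∈ E := by
      rw [hE, hvm, map_smul, map_sub, hTT', ← smul_neg, neg_sub]
    have hvpT : T vp = vp := by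
      rw [hvp, map_smul, map_add, hTT', add_comm]
    obtain ⟨y, hy⟩ := hn.surjective vp
    have hyE : y ∈ E := by
      rw [hE]
      apply hn.injective
      rw [map_neg, hy]
      have := hTn' y
      rw [hy, hvpT] at this
      rw [this, neg_neg]
    refine ⟨(⟨vm, hvmE⟩, ⟨y, hyE⟩), ?_⟩
    rw [hΘval]
    show vm + n y = v
    rw [hy, hvm, hvp, ← smul_add]
    have : v - T v + (v + T v) = (2 : F) • v := by rw [two_smul]; abel
    rw [this, smul_smul, inv_mul_cancel₀ h2, one_smul]
  set ΘE : (↥E × ↥E) ≃ₗ[F] V := LinearEquiv.ofBijective Θ ⟨hΘinj, hΘsurj⟩ with hΘE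
  have hΘEval : ∀ p : ↥E × ↥E, ΘE p = (p.1 : V) + n (p.2 : V) := fun p => rfl
  -- the action of `a + n` in these coordinates
  have hact : ∀ p : ↥E × ↥E, (a + n) (ΘE p) = ΘE (A p.1 + N2 p.2, p.1 + A p.2) := by
    intro p
    rw [hΘEval, hΘEval]
    simp only [LinearMap.add_apply, map_add, Submodule.coe_add, hAval, hN2val, han']
    abel
  -- bases
  set b := Module.finBasis F ↥E with hb
  set Bb : Basis (Fin (finrank F ↥E) ⊕ Fin (finrank F ↥E)) F V := (b.prod b).map ΘE with hBb
  set MA := LinearMap.toMatrix b b A with hMA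
  set MN := LinearMap.toMatrix b b N2 with hMN
  have hmat : LinearMap.toMatrix Bb Bb (a + n) = Matrix.fromBlocks MA MN 1 MA := by
    ext i j
    rw [LinearMap.toMatrix_apply, hBb, Basis.map_repr, Basis.map_apply]
    rcases j with j | j
    · have e1 : (b.prod b) (Sum.inl j) = (b j, 0) := by
        ext <;> simp
      rw [e1, hact, LinearEquiv.trans_apply, LinearEquiv.symm_apply_apply]
      simp only [map_zero, add_zero]
      rcases i with i | i
      · rw [Basis.prod_repr_inl, Matrix.fromBlocks_apply₁₁, hMA, LinearMap.toMatrix_apply]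
      · rw [Basis.prod_repr_inr, Matrix.fromBlocks_apply₂₁, Matrix.one_apply, Basis.repr_self,
          Finsupp.single_apply]
        simp only [eq_comm]
    · have e1 : (b.prod b) (Sum.inr j) = (0, b j) := by
        ext <;> simp
      rw [e1, hact, LinearEquiv.trans_apply, LinearEquiv.symm_apply_apply]
      simp only [map_zero, zero_add]
      rcases i with i | i
      · rw [Basis.prod_repr_inl, Matrix.fromBlocks_apply₁₂, hMN, LinearMap.toMatrix_apply]
      · rw [Basis.prod_repr_inr, Matrix.fromBlocks_apply₂₂, hMA, LinearMap.toMatrix_apply]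
  -- `A` is invertible
  have hAinj : Function.Injective A := by
    intro x y hxy
    apply Subtype.ext
    apply ha.injective
    have := congrArg (fun z : ↥E => (z : V)) hxy
    simpa [hAval] using this
  have hAunit : IsUnit (LinearMap.det A) := by
    have hAe : LinearMap.det (LinearEquiv.ofInjectiveEndo A hAinj : ↥E →ₗ[F] ↥E) = LinearMap.det A := by
      congr 1
    rw [← hAe]
    exact LinearEquiv.isUnit_det' _
  have hMAunit : IsUnit MA.det := by
    rw [hMA, LinearMap.det_toMatrix]
    exact hAunit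
  have hinv : Invertible MA := Matrix.invertibleOfIsUnitDet MA hMAunit
  rw [← LinearMap.det_toMatrix Bb, hmat, Matrix.det_fromBlocks₁₁, ← Matrix.det_mul]
  rw [hsA, ← LinearMap.det_toMatrix b, map_sub, LinearMap.toMatrix_mul, ← hMA, ← hMN]
  congr 1
  rw [Matrix.mul_sub, Matrix.one_mul, ← Matrix.mul_assoc, mul_invOf_self, Matrix.one_mul]

end Cfsg.Agent.Lib.Helper4_OFus_DETID
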