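import Mathlib

set_option autoImplicit false

/-!
# OF-TAU (package of helper45's S2720 market)

For a simple isometry `g` of finite order of a non-degenerate quadratic space (characteristic `≠ 2`) there is an isometric involution
`T` inverting `g`: on `V = F[g] u` it is `f(g) u ↦ f(g⁻¹) u`.
-/

namespace Cfsg.Agent.Lib.Helper4_OFus_TAU

open Matrix Module Polynomial QuadraticMap

variable {F : Type*} [Field F]

/-- The coordinate-free form of OF-TAU. -/
theorem tau_end {V : Type*} [AddCommGroup V] [Module F V] (h2 : (2 : F) ≠ 0)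
    (Q : QuadraticForm F V)
    (hQ : ∀ x, (∀ y, polar (⇑Q) x y = 0) → x = 0)
    (G : Module.End F V) (hG : ∀ x, Q (G x) = Q x) {N : ℕ} (hN : 0 < N) (hGN : G ^ N = 1)
    (hsimple : ∀ U : Submodule F V, (∀ u ∈ U, G u ∈ U) → U = ⊥ ∨ U = ⊤) (u : V) (hu : u ≠ 0) :
    ∃ T : Module.End F V, T * T = 1 ∧ (∀ x, Q (T x) = Q x) ∧ T * G = G ^ (N - 1) * T := by
  classical
  set H : Module.End F V := G ^ (N - 1) with hH
  have hGH : G * H = 1 := by rw [hH, ← pow_succ', Nat.sub_add_cancel hN, hGN]
  have hHG : H * G = 1 := by rw [hH, ← pow_succ, Nat.sub_add_cancel hN, hGN]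
  have hGH' : ∀ x, G (H x) = x := fun x => LinearMap.congr_fun hGH x
  have hHG' : ∀ x, H (G x) = x := fun x => LinearMap.congr_fun hHG x
  have hB : ∀ x y, polar (⇑Q) (G x) (G y) = polar (⇑Q) x y := by
    intro x y
    simp only [QuadraticMap.polar, ← map_add, hG]
  have hadj : ∀ x y, polar (⇑Q) (H x) y = polar (⇑Q) x (G y) := by
    intro x y
    rw [← hB (H x) y, hGH']
  have hcomm : ∀ (E : Module.End F V) (f : F[X]), aeval E f * E = E * aeval E f := by
    intro E f
    calc aeval E f * E = aeval E (f * X) := by rw [map_mul, aeval_X]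
      _ = aeval E (X * f) := by rw [mul_comm]
      _ = E * aeval E f := by rw [map_mul, aeval_X]
  have hadjP : ∀ (f : F[X]) (x y : V),
      polar (⇑Q) (aeval H f x) y = polar (⇑Q) x (aeval G f y) := by
    intro f
    induction f using Polynomial.induction_on with
    | C a =>
      intro x y
      simp only [aeval_C, Module.algebraMap_end_apply, polar_smul_left, polar_smul_right]
    | add p q hp hq =>
      intro x y
      simp only [map_add, LinearMap.add_apply, polar_add_left, polar_add_right, hp, hq]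
    | monomial n a ih =>
      intro x y
      have e1 : aeval H (C a * X ^ (n + 1)) = aeval H (C a * X ^ n) * H := by
        rw [pow_succ, ← mul_assoc, map_mul, aeval_X]
      have e2 : aeval G (C a * X ^ (n + 1)) = G * aeval G (C a * X ^ n) := by
        rw [pow_succ, ← mul_assoc, ← hcomm, map_mul, aeval_X]
      rw [e1, e2, Module.End.mul_apply, Module.End.mul_apply, ih, hadj]
  have hadjP' : ∀ (f : F[X]) (x y : V),
      polar (⇑Q) (aeval G f x) y = polar (⇑Q) x (aeval H f y) := by
    intro f x y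
    rw [polar_comm, ← hadjP, polar_comm]
  -- the two parametrisations
  set Φ : F[X] →ₗ[F] V := (LinearMap.applyₗ u) ∘ₗ (aeval G).toLinearMap with hΦ
  set Ψ : F[X] →ₗ[F] V := (LinearMap.applyₗ u) ∘ₗ (aeval H).toLinearMap with hΨ
  have hΦval : ∀ f, Φ f = aeval G f u := fun f => rfl
  have hΨval : ∀ f, Ψ f = aeval H f u := fun f => rfl
  have hΦrange : LinearMap.range Φ = ⊤ := by
    rcases hsimple (LinearMap.range Φ) (by
      rintro v ⟨f, rfl⟩
      refine ⟨X * f, ?_⟩
      rw [hΦval, hΦval, map_mul, aeval_X, Module.End.mul_apply]) with h | h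
    · exfalso
      have h1 : u ∈ LinearMap.range Φ := ⟨1, by rw [hΦval, map_one, Module.End.one_apply]⟩
      rw [h] at h1
      exact hu ((Submodule.mem_bot F).1 h1)
    · exact h
  have hΦsurj : Function.Surjective Φ := LinearMap.range_eq_top.1 hΦrange
  have hkerG : ∀ f, Φ f = 0 → aeval G f = 0 := by
    intro f hf
    rcases hsimple (LinearMap.ker (aeval G f)) (by
      intro v hv
      rw [LinearMap.mem_ker] at hv ⊢
      have h1 : aeval G f (G v) = G (aeval G f v) := by
        rw [← Module.End.mul_apply, hcomm, Module.End.mul_apply]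
      rw [h1, hv, map_zero]) with h | h
    · exfalso
      have h1 : u ∈ LinearMap.ker (aeval G f) := by
        rw [LinearMap.mem_ker, ← hΦval f, hf]
      rw [h] at h1
      exact hu ((Submodule.mem_bot F).1 h1)
    · exact LinearMap.ker_eq_top.1 h
  have hkerH : ∀ f : F[X], aeval G f = 0 → aeval H f = 0 := by
    intro f hf
    apply LinearMap.ext
    intro x
    apply hQ
    intro y
    rw [hadjP, hf, LinearMap.zero_apply, polar_zero_right]
  have hker : ∀ f, Φ f = 0 → Ψ f = 0 := by
    intro f hf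
    rw [hΨval, hkerH f (hkerG f hf), LinearMap.zero_apply]
  obtain ⟨σ, hσ⟩ := LinearMap.exists_rightInverse_of_surjective Φ hΦrange
  have hσ' : ∀ v, Φ (σ v) = v := fun v => LinearMap.congr_fun hσ v
  set T : Module.End F V := Ψ ∘ₗ σ with hT
  have hTΦ : ∀ f, T (Φ f) = Ψ f := by
    intro f
    have h1 : Φ (σ (Φ f) - f) = 0 := by rw [map_sub, hσ', sub_self]
    have h2 := hker _ h1
    rw [map_sub, sub_eq_zero] at h2
    exact h2
  have hΨΦ : ∀ f : F[X], Ψ f = Φ (f.comp (X ^ (N - 1))) := by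
    intro f
    rw [hΨval, hΦval, aeval_comp, aeval_X_pow]
  have hHpow : H ^ (N - 1) = G := by
    calc H ^ (N - 1) = H ^ (N - 1) * (H * G) := by rw [hHG, mul_one]
      _ = H ^ (N - 1 + 1) * G := by rw [pow_succ, mul_assoc]
      _ = H ^ N * G := by rw [Nat.sub_add_cancel hN]
      _ = G := by rw [hH, ← pow_mul, mul_comm, pow_mul, hGN, one_pow, one_mul]
  refine ⟨T, ?_, ?_, ?_⟩
  · apply LinearMap.ext
    intro x
    obtain ⟨f, rfl⟩ := hΦsurj x
    rw [Module.End.mul_apply, hTΦ, hΨΦ, hTΦ, hΨval, aeval_comp, aeval_X_pow, hHpow, Module.End.one_apply,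
      hΦval]
  · intro x
    obtain ⟨f, rfl⟩ := hΦsurj x
    rw [hTΦ]
    have h1 : polar (⇑Q) (Ψ f) (Ψ f) = polar (⇑Q) (Φ f) (Φ f) := by
      rw [hΨval, hΦval, hadjP, hadjP']
      congr 1
      have h3 : aeval H f = aeval G (f.comp (X ^ (N - 1))) := by
        rw [aeval_comp, aeval_X_pow]
      rw [h3, ← Module.End.mul_apply, ← Module.End.mul_apply, ← map_mul, ← map_mul, mul_comm]
    rw [polar_self, polar_self, two_nsmul, two_nsmul, ← two_mul, ← two_mul] at h1
    exact mul_left_cancel₀ h2 h1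
  · apply LinearMap.ext
    intro x
    obtain ⟨f, rfl⟩ := hΦsurj x
    have h1 : G (Φ f) = Φ (X * f) := by
      rw [hΦval, hΦval, map_mul, aeval_X, Module.End.mul_apply]
    rw [Module.End.mul_apply, Module.End.mul_apply, h1, hTΦ, hTΦ, hΨval, hΨval, map_mul, aeval_X,
      Module.End.mul_apply]

variable {ι : Type} [Fintype ι] [DecidableEq ι]

/-- OF-TAU. -/
theorem TAU [Nonempty ι] (h2 : (2 : F) ≠ 0) (Q : QuadraticForm F (ι → F))
    (hQ : (QuadraticMap.polarBilin Q).Nondegenerate) (g : Matrix ι ι F)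
    (hg : ∀ x, Q (g *ᵥ x) = Q x) {N : ℕ} (hN : 0 < N) (hgN : g ^ N = 1)
    (hsimple : ∀ U : Submodule F (ι → F), (∀ u ∈ U, g *ᵥ u ∈ U) → U = ⊥ ∨ U = ⊤) :
    ∃ T : Matrix ι ι F, T * T = 1 ∧ (∀ x, Q (T *ᵥ x) = Q x) ∧ T * g = g ^ (N - 1) * T := by
  classical
  have hu : (fun _ : ι => (1 : F)) ≠ 0 := by
    intro h
    have := congrFun h (Classical.arbitrary ι)
    simp at this
  obtain ⟨T', hTT, hTQ, hTG⟩ := tau_end h2 Q
    (fun x hx => hQ.1 x (fun y => by rw [QuadraticMap.polarBilin_apply_apply]; exact hx y))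
    (Matrix.toLin' g) (fun x => by rw [Matrix.toLin'_apply]; exact hg x) hN
    (by rw [← Matrix.toLin'_pow, hgN, Matrix.toLin'_one]; rfl)
    (fun U hU => hsimple U (fun v hv => by have := hU v hv; rwa [Matrix.toLin'_apply] at this))
    (fun _ : ι => (1 : F)) hu
  refine ⟨LinearMap.toMatrix' T', ?_, ?_, ?_⟩
  · rw [← LinearMap.toMatrix'_mul, hTT, LinearMap.toMatrix'_one]
  · intro x
    rw [← Matrix.toLin'_apply, Matrix.toLin'_toMatrix']
    exact hTQ x
  · have h1 : g = LinearMap.toMatrix' (Matrix.toLin' g) := (LinearMap.toMatrix'_toLin' g).symm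
    have h3 : g ^ (N - 1) = LinearMap.toMatrix' (Matrix.toLin' g ^ (N - 1)) := by
      rw [← Matrix.toLin'_pow, LinearMap.toMatrix'_toLin']
    rw [h3]
    conv_lhs => rw [h1]
    rw [← LinearMap.toMatrix'_mul, ← LinearMap.toMatrix'_mul, hTG]

end Cfsg.Agent.Lib.Helper4_OFus_TAU
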