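import Mathlib
import Cfsg.Agent.Lib.Helper45_OFus_ZDefs
import Cfsg.Agent.Lib.Helper45_OFus_Norm
import Cfsg.Agent.Lib.Helper43_OFus_GRAM
import Cfsg.Agent.Lib.Helper4_OFus_DETID
import Cfsg.Agent.Lib.Helper4_OFus_TAU
import Cfsg.Agent.Lib.Helper44_FinSq

/-!
# `Good Q g` for an isometry `g` of odd order acting simply (S2720)

`K = F[g]` is a field with the adjoint involution; `T` (package TAU) is the isometric involution inverting
`g`; for `M = f(g)` the element `M T M⁻¹ T = f(g) f(g⁻¹)⁻¹` commutes with `g`, and its spinor class is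
`det M` (packages GRAM and DETID), which can be any scalar (norm of finite fields).
-/

set_option autoImplicit false

namespace Cfsg.Agent.Lib.Helper45_OFus_ZSimple

open Cfsg Matrix Module Polynomial Cfsg.Agent.Lib.Helper45_OFus_ZDefs
  Cfsg.Agent.Lib.Helper45_OFus_Norm Cfsg.Agent.Lib.Helper43_OFus_GRAM
  Cfsg.Agent.Lib.Helper4_OFus_DETID Cfsg.Agent.Lib.Helper4_OFus_TAU

variable {ι : Type} [Fintype ι] [DecidableEq ι] {F : Type*} [Field F]

/-- Intertwining passes to polynomials. -/
theorem aeval_intertwine (T A B : Matrix ι ι F) (h : T * A = B * T) (f : F[X]) :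
    T * aeval A f = aeval B f * T := by
  have hpow : ∀ n : ℕ, T * A ^ n = B ^ n * T := by
    intro n
    induction n with
    | zero => simp
    | succ n ih => rw [pow_succ, ← Matrix.mul_assoc, ih, Matrix.mul_assoc, h, ← Matrix.mul_assoc,
        ← pow_succ]
  induction f using Polynomial.induction_on' with
  | add p q hp hq => rw [map_add, map_add, Matrix.mul_add, Matrix.add_mul, hp, hq]
  | monomial n a =>
    rw [Polynomial.aeval_monomial, Polynomial.aeval_monomial, ← Matrix.mul_assoc,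
      ← Algebra.commutes, Matrix.mul_assoc, hpow, Matrix.mul_assoc]

theorem aeval_comm (A : Matrix ι ι F) (f₁ f₂ : F[X]) :
    aeval A f₁ * aeval A f₂ = aeval A f₂ * aeval A f₁ := by
  rw [← map_mul, ← map_mul, mul_comm]

/-- The adjoint of a polynomial in `g` is the polynomial in `g⁻¹`. -/
theorem adj_aeval (Q : QuadraticForm F (ι → F)) (g gi : Matrix ι ι F)
    (hadj : ∀ x y, QuadraticMap.polar (⇑Q) (g *ᵥ x) y = QuadraticMap.polar (⇑Q) x (gi *ᵥ y))
    (f : F[X]) (x y : ι → F) :
    QuadraticMap.polar (⇑Q) ((aeval g f) *ᵥ x) y = QuadraticMap.polar (⇑Q) x ((aeval gi f) *ᵥ y) := by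
  have hpow : ∀ (n : ℕ) (x y : ι → F), QuadraticMap.polar (⇑Q) ((g ^ n) *ᵥ x) y =
      QuadraticMap.polar (⇑Q) x ((gi ^ n) *ᵥ y) := by
    intro n
    induction n with
    | zero => intro x y; simp
    | succ n ih =>
      intro x y
      rw [pow_succ', ← Matrix.mulVec_mulVec, hadj, ih, Matrix.mulVec_mulVec, ← pow_succ]
  induction f using Polynomial.induction_on' with
  | add p q hp hq =>
    rw [map_add, map_add, Matrix.add_mulVec, Matrix.add_mulVec, QuadraticMap.polar_add_left,
      QuadraticMap.polar_add_right, hp, hq]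
  | monomial n a =>
    rw [Polynomial.aeval_monomial, Polynomial.aeval_monomial, Algebra.algebraMap_eq_smul_one,
      Matrix.smul_mul, Matrix.smul_mul, Matrix.one_mul,
      Matrix.one_mul, Matrix.smul_mulVec, Matrix.smul_mulVec, QuadraticMap.polar_smul_left,
      QuadraticMap.polar_smul_right, hpow]

/-- A non-zero matrix commuting with a simple matrix is bijective. -/
theorem bijective_of_comm (g A : Matrix ι ι F)
    (hsimple : ∀ U : Submodule F (ι → F), (∀ u ∈ U, g *ᵥ u ∈ U) → U = ⊥ ∨ U = ⊤)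
    (hA : A * g = g * A) (hA0 : A ≠ 0) : Function.Bijective (Matrix.toLin' A) := by
  have hinj : Function.Injective (Matrix.toLin' A) := by
    rw [← LinearMap.ker_eq_bot]
    rcases hsimple (LinearMap.ker (Matrix.toLin' A)) (by
      intro u hu
      rw [LinearMap.mem_ker, Matrix.toLin'_apply] at hu ⊢
      rw [Matrix.mulVec_mulVec, hA, ← Matrix.mulVec_mulVec, hu, Matrix.mulVec_zero]) with h | h
    · exact h
    · exfalso
      apply hA0
      apply Matrix.toLin'.injective
      rw [map_zero]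
      exact LinearMap.ker_eq_top.mp h
  exact ⟨hinj, LinearMap.surjective_of_injective hinj⟩

/-- The core: a polynomial `f` with `det f(g)` a non-square and both the symmetric and the antisymmetric
part of `f(g)` non-zero. -/
theorem good_of_poly (h2 : (2 : F) ≠ 0) (Q : QuadraticForm F (ι → F))
    (hQ : (QuadraticMap.polarBilin Q).Nondegenerate) (g : Matrix ι ι F)
    (hg : ∀ x, Q (g *ᵥ x) = Q x) {N : ℕ} (hN : 0 < N) (hgN : g ^ N = 1)
    (hsimple : ∀ U : Submodule F (ι → F), (∀ u ∈ U, g *ᵥ u ∈ U) → U = ⊥ ∨ U = ⊤)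
    (T : Matrix ι ι F) (hTT : T * T = 1) (hT : ∀ x, Q (T *ᵥ x) = Q x)
    (hTg : T * g = g ^ (N - 1) * T)
    (f : F[X]) (hdet : ¬ IsSquare (aeval g f).det)
    (ha : aeval g f + aeval (g ^ (N - 1)) f ≠ 0) (hn : aeval g f - aeval (g ^ (N - 1)) f ≠ 0) :
    Good Q g := by
  set gi : Matrix ι ι F := g ^ (N - 1) with hgi
  have hggi : g * gi = 1 := by
    rw [hgi, ← pow_succ', Nat.sub_add_cancel hN, hgN]
  have hgig : gi * g = 1 := by
    rw [hgi, ← pow_succ, Nat.sub_add_cancel hN, hgN]
  have hpolg : ∀ x y, QuadraticMap.polar (⇑Q) (g *ᵥ x) (g *ᵥ y) = QuadraticMap.polar (⇑Q) x y := by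
    intro x y
    unfold QuadraticMap.polar
    rw [← Matrix.mulVec_add, hg, hg, hg]
  have hadj : ∀ x y, QuadraticMap.polar (⇑Q) (g *ᵥ x) y = QuadraticMap.polar (⇑Q) x (gi *ᵥ y) := by
    intro x y
    have := hpolg x (gi *ᵥ y)
    rw [Matrix.mulVec_mulVec, hggi, Matrix.one_mulVec] at this
    exact this
  have hTgi : T * gi = g * T := by
    have h1 : T = gi * T * gi := by
      rw [← hTg, Matrix.mul_assoc, hggi, Matrix.mul_one]
    calc T * gi = (g * gi) * (T * gi) := by rw [hggi, Matrix.one_mul]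
      _ = g * (gi * T * gi) := by simp only [Matrix.mul_assoc]
      _ = g * T := by rw [← h1]
  set M : Matrix ι ι F := aeval g f with hM
  set Ms : Matrix ι ι F := aeval gi f with hMs
  have hMsg : Ms = aeval g (f.comp (X ^ (N - 1))) := by
    rw [hMs, Polynomial.aeval_comp, map_pow, aeval_X]
  have hcomm : M * Ms = Ms * M := by
    rw [hMsg, hM]
    exact aeval_comm g _ _
  have hTM : T * M = Ms * T := aeval_intertwine T g gi hTg f
  have hTMs : T * Ms = M * T := aeval_intertwine T gi g hTgi f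
  have hMg : M * g = g * M := by
    have := aeval_comm g f X
    rwa [aeval_X] at this
  have hMsg' : Ms * g = g * Ms := by
    rw [hMsg]
    have := aeval_comm g (f.comp (X ^ (N - 1))) X
    rwa [aeval_X] at this
  have hMadj : ∀ x y, QuadraticMap.polar (⇑Q) (M *ᵥ x) y = QuadraticMap.polar (⇑Q) x (Ms *ᵥ y) :=
    adj_aeval Q g gi hadj f
  have hMdet0 : M.det ≠ 0 := by
    intro h0
    apply hdet
    rw [h0]
    exact ⟨0, by simp⟩
  have hMunit : IsUnit M.det := isUnit_iff_ne_zero.mpr hMdet0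
  have hMMi : M * M⁻¹ = 1 := Matrix.mul_nonsing_inv M hMunit
  have hMiM : M⁻¹ * M = 1 := Matrix.nonsing_inv_mul M hMunit
  -- the symmetric and antisymmetric parts
  set a' : Matrix ι ι F := (2⁻¹ : F) • (M + Ms) with ha'
  set n' : Matrix ι ι F := (2⁻¹ : F) • (M - Ms) with hn'
  have h2' : (2⁻¹ : F) ≠ 0 := inv_ne_zero h2
  have ha'0 : a' ≠ 0 := by
    intro h0
    rw [ha', smul_eq_zero] at h0
    rcases h0 with h0 | h0
    · exact h2' h0
    · exact ha h0
  have hn'0 : n' ≠ 0 := by
    intro h0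
    rw [hn', smul_eq_zero] at h0
    rcases h0 with h0 | h0
    · exact h2' h0
    · exact hn h0
  have ha'g : a' * g = g * a' := by
    rw [ha', Matrix.smul_mul, Matrix.mul_smul, Matrix.add_mul, Matrix.mul_add, hMg, hMsg']
  have hn'g : n' * g = g * n' := by
    rw [hn', Matrix.smul_mul, Matrix.mul_smul, Matrix.sub_mul, Matrix.mul_sub, hMg, hMsg']
  have hsum : a' + n' = M := by
    rw [ha', hn', ← smul_add]
    have : M + Ms + (M - Ms) = (2 : F) • M := by
      rw [two_smul]; abel
    rw [this, smul_smul, inv_mul_cancel₀ h2, one_smul]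
  have hTa : T * a' = a' * T := by
    rw [ha', Matrix.mul_smul, Matrix.smul_mul, Matrix.mul_add, Matrix.add_mul, hTM, hTMs, add_comm]
  have hTn : T * n' = -(n' * T) := by
    rw [hn', Matrix.mul_smul, Matrix.smul_mul, Matrix.mul_sub, Matrix.sub_mul, hTM, hTMs, ← smul_neg,
      neg_sub]
  have han : a' * n' = n' * a' := by
    rw [ha', hn', Matrix.smul_mul, Matrix.mul_smul, Matrix.smul_mul, Matrix.mul_smul]
    congr 2
    rw [Matrix.add_mul, Matrix.mul_sub, Matrix.mul_sub, Matrix.sub_mul, Matrix.mul_add, Matrix.mul_add,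
      hcomm]
    abel
  have hsq : a' * a' - n' * n' = Ms * M := by
    have e1 : a' * a' = (2⁻¹ * 2⁻¹ : F) • ((M + Ms) * (M + Ms)) := by
      rw [ha', Matrix.smul_mul, Matrix.mul_smul, smul_smul]
    have e2 : n' * n' = (2⁻¹ * 2⁻¹ : F) • ((M - Ms) * (M - Ms)) := by
      rw [hn', Matrix.smul_mul, Matrix.mul_smul, smul_smul]
    rw [e1, e2, ← smul_sub]
    have : (M + Ms) * (M + Ms) - (M - Ms) * (M - Ms) = (4 : F) • (Ms * M) := by
      rw [Matrix.add_mul, Matrix.mul_add, Matrix.mul_add, Matrix.sub_mul, Matrix.mul_sub,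
        Matrix.mul_sub, hcomm]
      have h4 : (4 : F) • (Ms * M) = Ms * M + Ms * M + Ms * M + Ms * M := by
        rw [show (4 : F) = 1 + 1 + 1 + 1 by norm_num, add_smul, add_smul, add_smul, one_smul]
      rw [h4]
      abel
    rw [this, smul_smul]
    have h4 : (2⁻¹ : F) * 2⁻¹ * 4 = 1 := by
      field_simp
      norm_num
    rw [h4, one_smul]
  -- the (-1)-eigenspace of `T`
  set E : Submodule F (ι → F) := LinearMap.ker (Matrix.toLin' (T + 1)) with hEdef
  have hE : ∀ x, x ∈ E ↔ T *ᵥ x = -x := by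
    intro x
    rw [hEdef, LinearMap.mem_ker, Matrix.toLin'_apply, Matrix.add_mulVec, Matrix.one_mulVec,
      add_eq_zero_iff_eq_neg]
  set S : Matrix ι ι F := Ms * M with hS
  have hST : S * T = T * S := by
    rw [hS, Matrix.mul_assoc, ← hTMs, ← Matrix.mul_assoc, ← hTM, Matrix.mul_assoc, hcomm]
  have hSE : ∀ x ∈ E, Matrix.toLin' S x ∈ E := by
    intro x hx
    rw [hE] at hx ⊢
    rw [Matrix.toLin'_apply, Matrix.mulVec_mulVec, ← hST, ← Matrix.mulVec_mulVec, hx,
      Matrix.mulVec_neg]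
  set s : ↥E →ₗ[F] ↥E := (Matrix.toLin' S).restrict hSE with hs
  have hsS : ∀ x : ↥E, ((s x : ↥E) : ι → F) = S *ᵥ (x : ι → F) := by
    intro x
    rw [hs, LinearMap.restrict_coe_apply, Matrix.toLin'_apply]
  -- the determinant identity
  have hdetid : M.det = LinearMap.det s := by
    have hE' : ∀ x, x ∈ E ↔ (Matrix.toLin' T) x = -x := by
      intro x
      rw [Matrix.toLin'_apply]
      exact hE x
    have hmul : ∀ A B : Matrix ι ι F, Matrix.toLin' A * Matrix.toLin' B = Matrix.toLin' (A * B) :=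
      fun A B => (Matrix.toLin'_mul A B).symm
    have := DETID (V := ι → F) h2 (Matrix.toLin' T) (Matrix.toLin' a') (Matrix.toLin' n')
      (by rw [hmul, hTT, Matrix.toLin'_one]; rfl)
      (by rw [hmul, hmul, hTa])
      (by rw [hmul, hmul, hTn, map_neg])
      (by rw [hmul, hmul, han])
      (bijective_of_comm g a' hsimple ha'g ha'0)
      (bijective_of_comm g n' hsimple hn'g hn'0)
      E hE' s (by
        intro x
        rw [hsS, hmul, hmul, ← map_sub, hsq, Matrix.toLin'_apply])
    rw [← map_add, hsum, LinearMap.det_toLin'] at this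
    exact this
  have hdet' : ¬ IsSquare (LinearMap.det s) := by
    rw [← hdetid]
    exact hdet
  -- apply GRAM
  have hSpol : ∀ x y, QuadraticMap.polar (⇑Q) (M *ᵥ x) (M *ᵥ y) =
      QuadraticMap.polar (⇑Q) (S *ᵥ x) y := by
    intro x y
    rw [QuadraticMap.polar_comm, hMadj, QuadraticMap.polar_comm, hS, Matrix.mulVec_mulVec]
  obtain ⟨vs, hvs, hev, hnsq, hprod⟩ := GRAM h2 Q hQ T M M⁻¹ S hTT hT hMMi hSpol hST E hE s hsS hdet'
  refine ⟨vs, hvs, hev, hnsq, ?_⟩
  rw [hprod]
  have hMig : M⁻¹ * gi = gi * M⁻¹ := by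
    have hMgi : M * gi = gi * M := by
      have h1 : gi = aeval g ((X : F[X]) ^ (N - 1)) := by rw [map_pow, aeval_X]
      rw [h1]
      exact aeval_comm g f _
    calc M⁻¹ * gi = M⁻¹ * gi * (M * M⁻¹) := by rw [hMMi, Matrix.mul_one]
      _ = M⁻¹ * (gi * M) * M⁻¹ := by simp only [Matrix.mul_assoc]
      _ = M⁻¹ * (M * gi) * M⁻¹ := by rw [hMgi]
      _ = (M⁻¹ * M) * gi * M⁻¹ := by simp only [Matrix.mul_assoc]
      _ = gi * M⁻¹ := by rw [hMiM, Matrix.one_mul]
  calc M * T * M⁻¹ * T * g = M * T * M⁻¹ * (T * g) := by simp only [Matrix.mul_assoc]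
    _ = M * T * (M⁻¹ * gi) * T := by rw [hTg]; simp only [Matrix.mul_assoc]
    _ = M * (T * gi) * M⁻¹ * T := by rw [hMig]; simp only [Matrix.mul_assoc]
    _ = (M * g) * T * M⁻¹ * T := by rw [hTgi]; simp only [Matrix.mul_assoc]
    _ = g * (M * T * M⁻¹ * T) := by rw [hMg]; simp only [Matrix.mul_assoc]

theorem eq_one_of_pow (g : Matrix ι ι F) {N : ℕ} (hN : Odd N) (hgN : g ^ N = 1) {k : ℕ}
    (hk : g ^ (2 ^ k) = 1) : g = 1 := by
  have h1 := (pow_gcd_eq_one (a := g) (m := 2 ^ k) (n := N)).mpr ⟨hk, hgN⟩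
  have hcop : Nat.Coprime (2 ^ k) N := Nat.Coprime.pow_left k (Nat.coprime_two_left.mpr hN)
  rw [Nat.Coprime] at hcop
  rw [hcop, pow_one] at h1
  exact h1

/-- **ZSIMPLE**: an isometry of odd order acting simply, without fixed vectors, over a finite field. -/
theorem ZSIMPLE [Fintype F] [Nonempty ι] (h2 : (2 : F) ≠ 0) (Q : QuadraticForm F (ι → F))
    (hQ : (QuadraticMap.polarBilin Q).Nondegenerate) (g : Matrix ι ι F)
    (hg : ∀ x, Q (g *ᵥ x) = Q x) {N : ℕ} (hN : Odd N) (hgN : g ^ N = 1)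
    (hsimple : ∀ U : Submodule F (ι → F), (∀ u ∈ U, g *ᵥ u ∈ U) → U = ⊥ ∨ U = ⊤)
    (hfix : ∀ v : ι → F, g *ᵥ v = v → v = 0) : Good Q g := by
  have hNpos : 0 < N := hN.pos
  obtain ⟨T, hTT, hT, hTg⟩ := TAU h2 Q hQ g hg hNpos hgN hsimple
  obtain ⟨ε, hε⟩ := FiniteField.exists_nonsquare (F := F)
    (Cfsg.Agent.Lib.Helper44_FinSq.ringChar_ne_two_of_two_ne_zero h2)
  obtain ⟨f₀, hf₀⟩ := exists_aeval_det g hsimple ε
  set gi : Matrix ι ι F := g ^ (N - 1) with hgi
  have hggi : g * gi = 1 := by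
    rw [hgi, ← pow_succ', Nat.sub_add_cancel hNpos, hgN]
  have hgig : gi * g = 1 := by
    rw [hgi, ← pow_succ, Nat.sub_add_cancel hNpos, hgN]
  have hg1 : g ≠ 1 := by
    intro h1
    obtain ⟨i⟩ := ‹Nonempty ι›
    have := hfix (Pi.single i 1) (by rw [h1, Matrix.one_mulVec])
    have h3 := congrFun this i
    simp at h3
  have hone : (1 : Matrix ι ι F) ≠ -1 := by
    intro h1
    obtain ⟨i⟩ := ‹Nonempty ι›
    have h3 := congrFun (congrFun h1 i) i
    rw [Matrix.neg_apply, Matrix.one_apply_eq] at h3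
    apply h2
    linear_combination h3
  have hdiff : g * g - gi * gi ≠ 0 := by
    intro h0
    rw [sub_eq_zero] at h0
    apply hg1
    apply eq_one_of_pow g hN hgN (k := 2)
    have : g ^ (2 ^ 2) = (g * g) * (g * g) := by
      rw [show (2 : ℕ) ^ 2 = 4 by norm_num, pow_succ, pow_succ, pow_succ, pow_one]
      simp only [Matrix.mul_assoc]
    rw [this]
    nth_rewrite 2 [h0]
    calc g * g * (gi * gi) = g * (g * gi) * gi := by simp only [Matrix.mul_assoc]
      _ = 1 := by rw [hggi, Matrix.mul_one, hggi]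
  have hsum : g * g + gi * gi ≠ 0 := by
    intro h0
    rw [add_eq_zero_iff_eq_neg] at h0
    have h4 : g ^ (2 ^ 2) = -1 := by
      have : g ^ (2 ^ 2) = (g * g) * (g * g) := by
        rw [show (2 : ℕ) ^ 2 = 4 by norm_num, pow_succ, pow_succ, pow_succ, pow_one]
        simp only [Matrix.mul_assoc]
      rw [this]
      nth_rewrite 2 [h0]
      rw [Matrix.mul_neg]
      congr 1
      calc g * g * (gi * gi) = g * (g * gi) * gi := by simp only [Matrix.mul_assoc]
        _ = 1 := by rw [hggi, Matrix.mul_one, hggi]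
    have h8 : g ^ (2 ^ 3) = 1 := by
      rw [show (2 : ℕ) ^ 3 = 2 ^ 2 * 2 by norm_num, pow_mul, h4]
      simp
    have := eq_one_of_pow g hN hgN h8
    rw [this] at h4
    rw [one_pow] at h4
    exact hone h4
  set β : Matrix ι ι F := aeval g f₀ with hβ
  set βs : Matrix ι ι F := aeval gi f₀ with hβs
  have hβdet : β.det ≠ 0 := by
    rw [hf₀]
    rintro rfl
    exact hε ⟨0, by simp⟩
  have hβinj : ∀ X : Matrix ι ι F, β * X = 0 → X = 0 := by
    intro X hX
    have hu : IsUnit β.det := isUnit_iff_ne_zero.mpr hβdet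
    calc X = β⁻¹ * (β * X) := by rw [← Matrix.mul_assoc, Matrix.nonsing_inv_mul β hu, Matrix.one_mul]
      _ = 0 := by rw [hX, Matrix.mul_zero]
  by_cases hcase : β + βs ≠ 0 ∧ β - βs ≠ 0
  · exact good_of_poly h2 Q hQ g hg hNpos hgN hsimple T hTT hT hTg f₀ (by rw [hf₀]; exact hε)
      hcase.1 hcase.2
  · have hgdet : g.det ≠ 0 := by
      intro h0
      have := congrArg Matrix.det hggi
      rw [Matrix.det_mul, h0, zero_mul, Matrix.det_one] at this
      exact zero_ne_one this
    have e1 : aeval g (f₀ * X ^ 2) = β * (g * g) := by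
      rw [map_mul, map_pow, aeval_X, pow_two]
    have e2 : aeval gi (f₀ * X ^ 2) = βs * (gi * gi) := by
      rw [map_mul, map_pow, aeval_X, pow_two]
    have hdet1 : ¬ IsSquare (aeval g (f₀ * X ^ 2)).det := by
      rw [e1, Matrix.det_mul, Matrix.det_mul, hf₀]
      intro hsq
      apply hε
      obtain ⟨r, hr⟩ := hsq
      refine ⟨r / g.det, ?_⟩
      field_simp
      linear_combination hr
    have hor : β + βs = 0 ∨ β - βs = 0 := by
      by_contra hcon
      push Not at hcon
      exact hcase hcon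
    apply good_of_poly h2 Q hQ g hg hNpos hgN hsimple T hTT hT hTg (f₀ * X ^ 2) hdet1
    · rw [← hgi, e1, e2]
      rcases hor with h | h
      · have hs : βs = -β := eq_neg_of_add_eq_zero_right h
        intro h0
        apply hdiff
        apply hβinj
        rw [hs, Matrix.neg_mul, ← sub_eq_add_neg] at h0
        rw [Matrix.mul_sub]
        exact h0
      · have hs : βs = β := by rw [sub_eq_zero] at h; exact h.symm
        intro h0
        apply hsum
        apply hβinj
        rw [hs] at h0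
        rw [Matrix.mul_add]
        exact h0
    · rw [← hgi, e1, e2]
      rcases hor with h | h
      · have hs : βs = -β := eq_neg_of_add_eq_zero_right h
        intro h0
        apply hsum
        apply hβinj
        rw [hs, Matrix.neg_mul, sub_neg_eq_add] at h0
        rw [Matrix.mul_add]
        exact h0
      · have hs : βs = β := by rw [sub_eq_zero] at h; exact h.symm
        intro h0
        apply hdiff
        apply hβinj
        rw [hs] at h0
        rw [Matrix.mul_sub]
        exact h0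

end Cfsg.Agent.Lib.Helper45_OFus_ZSimple
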