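import Mathlib
import Cfsg.Agent.Lib.Helper45_OFus_ZDefs
import Cfsg.Agent.Lib.Helper44_StdForms
import Cfsg.Agent.Lib.Helper43_IrredDet

set_option autoImplicit false

/-!
OF-STRUCT (helper45's package market for row S2720): an isometry `g` of odd order prime to the
characteristic has an invariant subspace which, in coordinates, is either simple and non-degenerate
or a hyperbolic pair `U ⊕ U''` of invariant totally singular subspaces in the coordinates of
`qfPlus d`.
-/

namespace Cfsg.Agent.Lib.Helper73_OFus_STRUCT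

open Module QuadraticMap Matrix

variable {F : Type*} [Field F] {V : Type*} [AddCommGroup V] [Module F V]

/-- the orthogonal of a subspace with respect to the polar form -/
def perp (Q : QuadraticForm F V) (U : Submodule F V) : Submodule F V where
  carrier := {x | ∀ u ∈ U, polar (⇑Q) u x = 0}
  add_mem' := by
    intro a b ha hb u hu
    rw [polar_add_right, ha u hu, hb u hu, add_zero]
  zero_mem' := by
    intro u _
    simp [polar]
  smul_mem' := by
    intro c x hx u hu
    rw [polar_smul_right, hx u hu, smul_zero]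

theorem mem_perp {Q : QuadraticForm F V} {U : Submodule F V} {x : V} :
    x ∈ perp Q U ↔ ∀ u ∈ U, polar (⇑Q) u x = 0 := Iff.rfl

/-- an isometry preserves the polar form -/
theorem polar_map (Q : QuadraticForm F V) (G : End F V) (hG : ∀ x, Q (G x) = Q x) (x y : V) :
    polar (⇑Q) (G x) (G y) = polar (⇑Q) x y := by
  simp only [polar, ← map_add, hG]

theorem pow_inv {G : End F V} {N : ℕ} (hN : N ≠ 0) (hGN : G ^ N = 1) (x : V) :
    (G ^ (N - 1)) (G x) = x := by
  obtain ⟨M, rfl⟩ : ∃ M, N = M + 1 := ⟨N - 1, by omega⟩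
  rw [Nat.add_sub_cancel, ← Module.End.mul_apply, ← pow_succ, hGN, Module.End.one_apply]

theorem pow_mem {G : End F V} {U : Submodule F V} (hU : ∀ u ∈ U, G u ∈ U) (k : ℕ) :
    ∀ u ∈ U, (G ^ k) u ∈ U := by
  induction k with
  | zero => intro u hu; simpa using hu
  | succ k ih =>
    intro u hu
    rw [pow_succ, Module.End.mul_apply]
    exact ih _ (hU u hu)

/-- the orthogonal of an invariant subspace is invariant -/
theorem perp_inv (Q : QuadraticForm F V) (G : End F V) (hG : ∀ x, Q (G x) = Q x) {N : ℕ}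
    (hN : N ≠ 0) (hGN : G ^ N = 1) {U : Submodule F V} (hU : ∀ u ∈ U, G u ∈ U) :
    ∀ x ∈ perp Q U, G x ∈ perp Q U := by
  intro x hx u hu
  have h1 : G ((G ^ (N - 1)) u) = u := by
    rw [← Module.End.mul_apply, ← pow_succ']
    obtain ⟨M, rfl⟩ : ∃ M, N = M + 1 := ⟨N - 1, by omega⟩
    rw [Nat.add_sub_cancel, hGN, Module.End.one_apply]
  rw [← h1, polar_map Q G hG]
  exact hx _ (pow_mem hU _ u hu)

/-- a minimal invariant subspace inside a nonzero invariant subspace -/
theorem exists_min_le [FiniteDimensional F V] (G : End F V) (C : Submodule F V) (hC0 : C ≠ ⊥)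
    (hC : ∀ u ∈ C, G u ∈ C) :
    ∃ W : Submodule F V, W ≤ C ∧ W ≠ ⊥ ∧ (∀ u ∈ W, G u ∈ W) ∧
      ∀ W' : Submodule F V, W' ≤ W → (∀ u ∈ W', G u ∈ W') → W' = ⊥ ∨ W' = W := by
  obtain ⟨W, ⟨hWne, hWinv, hWC⟩, hWmin⟩ := IsArtinian.set_has_minimal
    {W : Submodule F V | W ≠ ⊥ ∧ (∀ u ∈ W, G u ∈ W) ∧ W ≤ C} ⟨C, hC0, hC, le_refl C⟩
  refine ⟨W, hWC, hWne, hWinv, ?_⟩
  intro W' hW'le hW'inv
  by_cases h0 : W' = ⊥
  · exact Or.inl h0
  · right
    by_contra hne
    exact hWmin W' ⟨h0, hW'inv, hW'le.trans hWC⟩ (lt_of_le_of_ne hW'le hne)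

/-- the abstract dichotomy -/
theorem dichotomy [FiniteDimensional F V] [Nontrivial V] (Q : QuadraticForm F V)
    (hQ : (QuadraticMap.polarBilin Q).Nondegenerate) (G : End F V)
    (hG : ∀ x, Q (G x) = Q x) {N : ℕ} (hNF : (N : F) ≠ 0) (hGN : G ^ N = 1) :
    (∃ U : Submodule F V, U ≠ ⊥ ∧ (∀ u ∈ U, G u ∈ U) ∧
        (∀ x ∈ U, (∀ y ∈ U, polar (⇑Q) x y = 0) → x = 0) ∧
        (∀ U' : Submodule F V, U' ≤ U → (∀ u ∈ U', G u ∈ U') → U' = ⊥ ∨ U' = U)) ∨
    (∃ U U'' : Submodule F V, U ≠ ⊥ ∧ (∀ u ∈ U, G u ∈ U) ∧ (∀ u ∈ U'', G u ∈ U'') ∧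
        (∀ x ∈ U, ∀ y ∈ U, polar (⇑Q) x y = 0) ∧ (∀ x ∈ U'', ∀ y ∈ U'', polar (⇑Q) x y = 0) ∧
        (∀ x ∈ U, (∀ y ∈ U'', polar (⇑Q) x y = 0) → x = 0) ∧
        (∀ y ∈ U'', (∀ x ∈ U, polar (⇑Q) x y = 0) → y = 0)) := by
  have hN : N ≠ 0 := by
    intro h; rw [h] at hNF; exact hNF Nat.cast_zero
  have hss := Cfsg.Agent.Lib.Helper43_IrredDet.isSemisimple_of_pow_eq_one G N hNF hGN
  -- the radical of a minimal invariant subspace
  have hrad : ∀ W : Submodule F V, (∀ u ∈ W, G u ∈ W) →
      (∀ W' : Submodule F V, W' ≤ W → (∀ u ∈ W', G u ∈ W') → W' = ⊥ ∨ W' = W) →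
      W ⊓ perp Q W = ⊥ ∨ W ≤ perp Q W := by
    intro W hWinv hWmin
    have h1 : ∀ u ∈ W ⊓ perp Q W, G u ∈ W ⊓ perp Q W := by
      intro u hu
      exact ⟨hWinv u hu.1, perp_inv Q G hG hN hGN hWinv u hu.2⟩
    rcases hWmin _ inf_le_left h1 with h | h
    · exact Or.inl h
    · right
      exact h.symm.le.trans inf_le_right
  by_cases hex : ∃ W : Submodule F V, W ≠ ⊥ ∧ (∀ u ∈ W, G u ∈ W) ∧
      (∀ W' : Submodule F V, W' ≤ W → (∀ u ∈ W', G u ∈ W') → W' = ⊥ ∨ W' = W) ∧
      W ⊓ perp Q W = ⊥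
  · left
    obtain ⟨W, hW0, hWinv, hWmin, hWrad⟩ := hex
    refine ⟨W, hW0, hWinv, ?_, hWmin⟩
    intro x hx hxy
    have : x ∈ W ⊓ perp Q W := by
      refine ⟨hx, fun u hu => ?_⟩
      rw [polar_comm]
      exact hxy u hu
    rw [hWrad] at this
    exact (Submodule.mem_bot F).mp this
  · right
    push Not at hex
    have hiso : ∀ W : Submodule F V, W ≠ ⊥ → (∀ u ∈ W, G u ∈ W) →
        (∀ W' : Submodule F V, W' ≤ W → (∀ u ∈ W', G u ∈ W') → W' = ⊥ ∨ W' = W) →
        W ≤ perp Q W := by
      intro W hW0 hWinv hWmin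
      rcases hrad W hWinv hWmin with h | h
      · exact absurd h (hex W hW0 hWinv hWmin)
      · exact h
    obtain ⟨U, -, hU0, hUinv, hUmin⟩ := exists_min_le G ⊤ top_ne_bot (fun _ _ => trivial)
    have hUiso := hiso U hU0 hUinv hUmin
    have hPinv := perp_inv Q G hG hN hGN hUinv
    obtain ⟨C, hCinv, hcompl⟩ := (Module.End.isSemisimple_iff.1 hss) (perp Q U)
      (by rw [Module.End.mem_invtSubmodule]; exact fun x hx => hPinv x hx)
    rw [Module.End.mem_invtSubmodule] at hCinv
    have hCinv' : ∀ u ∈ C, G u ∈ C := fun u hu => hCinv hu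
    have hC0 : C ≠ ⊥ := by
      intro hC
      rw [hC] at hcompl
      have htop : perp Q U = ⊤ := by
        have := hcompl.sup_eq_top
        rwa [sup_bot_eq] at this
      apply hU0
      rw [eq_bot_iff]
      intro u hu
      rw [Submodule.mem_bot]
      apply hQ.1 u
      intro y
      have hy : y ∈ perp Q U := by rw [htop]; trivial
      exact hy u hu
    obtain ⟨U'', hU''C, hU''0, hU''inv, hU''min⟩ := exists_min_le G C hC0 hCinv'
    have hU''iso := hiso U'' hU''0 hU''inv hU''min
    refine ⟨U, U'', hU0, hUinv, hU''inv, fun x hx y hy => hUiso hy x hx,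
      fun x hx y hy => hU''iso hy x hx, ?_, ?_⟩
    · intro x hx hxy
      have h1 : ∀ u ∈ U ⊓ perp Q U'', G u ∈ U ⊓ perp Q U'' := by
        intro u hu
        exact ⟨hUinv u hu.1, perp_inv Q G hG hN hGN hU''inv u hu.2⟩
      rcases hUmin _ inf_le_left h1 with h | h
      · have : x ∈ U ⊓ perp Q U'' := by
          refine ⟨hx, fun u hu => ?_⟩
          rw [polar_comm]
          exact hxy u hu
        rw [h] at this
        exact (Submodule.mem_bot F).mp this
      · exfalso
        apply hU''0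
        rw [eq_bot_iff]
        intro y hy
        have hyP : y ∈ perp Q U := by
          intro u hu
          have hu' : u ∈ U ⊓ perp Q U'' := by rw [h]; exact hu
          rw [polar_comm]
          exact hu'.2 y hy
        have : y ∈ perp Q U ⊓ C := ⟨hyP, hU''C hy⟩
        rw [hcompl.inf_eq_bot] at this
        exact this
    · intro y hy hxy
      have : y ∈ perp Q U ⊓ C := ⟨fun u hu => hxy u hu, hU''C hy⟩
      rw [hcompl.inf_eq_bot] at this
      exact (Submodule.mem_bot F).mp this

/-- dual bases for a perfect pairing of two subspaces -/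
theorem exists_dual_bases [FiniteDimensional F V] (Q : QuadraticForm F V) (U U'' : Submodule F V)
    (hl : ∀ x ∈ U, (∀ y ∈ U'', polar (⇑Q) x y = 0) → x = 0)
    (hr : ∀ y ∈ U'', (∀ x ∈ U, polar (⇑Q) x y = 0) → y = 0) :
    ∃ (d : ℕ) (bx : Basis (Fin d) F U) (by' : Basis (Fin d) F U''),
      ∀ i k, polar (⇑Q) (bx i : V) (by' k : V) = if i = k then 1 else 0 := by
  classical
  set Φ : U →ₗ[F] Dual F U'' := (polarBilin Q).compl₁₂ U.subtype U''.subtype with hΦ
  set Ψ : U'' →ₗ[F] Dual F U := (polarBilin Q).flip.compl₁₂ U''.subtype U.subtype with hΨ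
  have hΦa : ∀ (x : U) (y : U''), Φ x y = polar (⇑Q) (x : V) (y : V) := fun x y => rfl
  have hΨa : ∀ (y : U'') (x : U), Ψ y x = polar (⇑Q) (x : V) (y : V) := fun y x => rfl
  have hΦinj : Function.Injective Φ := by
    rw [← LinearMap.ker_eq_bot, LinearMap.ker_eq_bot']
    intro x hx
    apply Subtype.ext
    apply hl x x.2
    intro y hy
    have := congrArg (fun f : Dual F U'' => f ⟨y, hy⟩) hx
    simpa [hΦa] using this
  have hΨinj : Function.Injective Ψ := by
    rw [← LinearMap.ker_eq_bot, LinearMap.ker_eq_bot']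
    intro y hy
    apply Subtype.ext
    apply hr y y.2
    intro x hx
    have := congrArg (fun f : Dual F U => f ⟨x, hx⟩) hy
    simpa [hΨa] using this
  have h1 : finrank F U ≤ finrank F U'' := by
    have := LinearMap.finrank_le_finrank_of_injective hΦinj
    rwa [Subspace.dual_finrank_eq] at this
  have h2 : finrank F U'' ≤ finrank F U := by
    have := LinearMap.finrank_le_finrank_of_injective hΨinj
    rwa [Subspace.dual_finrank_eq] at this
  have h3 : finrank F U = finrank F (Dual F U'') := by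
    rw [Subspace.dual_finrank_eq]; omega
  have hΦsurj : Function.Surjective Φ :=
    (LinearMap.injective_iff_surjective_of_finrank_eq_finrank h3).mp hΦinj
  let Φe : U ≃ₗ[F] Dual F U'' := LinearEquiv.ofBijective Φ ⟨hΦinj, hΦsurj⟩
  let by' : Basis (Fin (finrank F U'')) F U'' := finBasis F U''
  refine ⟨finrank F U'', by'.dualBasis.map Φe.symm, by', ?_⟩
  intro i k
  rw [← hΦa]
  have h4 : Φ ((by'.dualBasis.map Φe.symm) i) = by'.dualBasis i := by
    rw [Basis.map_apply]
    exact Φe.apply_symm_apply _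
  rw [h4, Basis.dualBasis_apply_self]
  by_cases hik : i = k
  · rw [if_pos hik, if_pos hik.symm]
  · rw [if_neg hik, if_neg (Ne.symm hik)]

/-- transport of the action along an injective coordinate map with invariant range -/
theorem exists_matrix {κ : Type*} [Fintype κ] [DecidableEq κ] (G : End F V)
    (j : (κ → F) →ₗ[F] V) (hj : Function.Injective j) (hinv : ∀ c, ∃ c', G (j c) = j c') :
    ∃ g' : Matrix κ κ F, ∀ c, G (j c) = j (g' *ᵥ c) := by
  let e : (κ → F) ≃ₗ[F] LinearMap.range j := LinearEquiv.ofInjective j hj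
  have hR : ∀ v ∈ LinearMap.range j, G v ∈ LinearMap.range j := by
    rintro _ ⟨c, rfl⟩
    obtain ⟨c', hc'⟩ := hinv c
    exact ⟨c', hc'.symm⟩
  let G' : (κ → F) →ₗ[F] (κ → F) :=
    e.symm.toLinearMap ∘ₗ (G.restrict hR) ∘ₗ e.toLinearMap
  refine ⟨LinearMap.toMatrix' G', fun c => ?_⟩
  have h1 : LinearMap.toMatrix' G' *ᵥ c = G' c := by
    rw [← Matrix.toLin'_apply, Matrix.toLin'_toMatrix']
  rw [h1]
  have h2 : j (G' c) = ((e (G' c) : LinearMap.range j) : V) := rfl
  rw [h2]
  have h3 : e (G' c) = (G.restrict hR) (e c) := by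
    simp only [G', LinearMap.comp_apply, LinearEquiv.coe_coe, LinearEquiv.apply_symm_apply]
  rw [h3]
  rfl

/-- the coordinate map of a basis of a subspace -/
noncomputable def coordMap {n : ℕ} {U : Submodule F V} (b : Basis (Fin n) F U) :
    (Fin n → F) →ₗ[F] V :=
  U.subtype ∘ₗ b.equivFun.symm.toLinearMap

theorem coordMap_mem {n : ℕ} {U : Submodule F V} (b : Basis (Fin n) F U) (c : Fin n → F) :
    coordMap b c ∈ U := (b.equivFun.symm c).2

theorem coordMap_apply {n : ℕ} {U : Submodule F V} (b : Basis (Fin n) F U) (c : Fin n → F) :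
    coordMap b c = ∑ i, c i • (b i : V) := by
  simp [coordMap, Basis.equivFun_symm_apply]

theorem coordMap_injective {n : ℕ} {U : Submodule F V} (b : Basis (Fin n) F U) :
    Function.Injective (coordMap b) := by
  intro c c' h
  have h1 : b.equivFun.symm c = b.equivFun.symm c' := Subtype.ext h
  exact b.equivFun.symm.injective h1

theorem coordMap_surj {n : ℕ} {U : Submodule F V} (b : Basis (Fin n) F U) {u : V} (hu : u ∈ U) :
    ∃ c, coordMap b c = u := by
  refine ⟨b.equivFun ⟨u, hu⟩, ?_⟩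
  simp [coordMap]


section Final

open Cfsg Cfsg.Agent.Lib.Helper44_StdForms Cfsg.Agent.Lib.Helper45_OFus_ZDefs

variable {ι : Type} [Fintype ι] [DecidableEq ι]

/-- OF-STRUCT. -/
theorem STRUCT [Nonempty ι] (h2 : (2 : F) ≠ 0) (Q : QuadraticForm F (ι → F))
    (hQ : (QuadraticMap.polarBilin Q).Nondegenerate) (g : Matrix ι ι F)
    (hg : ∀ x, Q (g *ᵥ x) = Q x) {N : ℕ} (hNF : (N : F) ≠ 0) (hgN : g ^ N = 1) :
    (∃ (n : ℕ) (j : (Fin n → F) →ₗ[F] (ι → F)) (g' : Matrix (Fin n) (Fin n) F), 0 < n ∧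
        Function.Injective j ∧ (∀ c, g *ᵥ (j c) = j (g' *ᵥ c)) ∧
        (∀ x, (∀ y, QuadraticMap.polar (⇑Q) (j x) (j y) = 0) → x = 0) ∧
        (∀ U : Submodule F (Fin n → F), (∀ u ∈ U, g' *ᵥ u ∈ U) → U = ⊥ ∨ U = ⊤)) ∨
    (∃ (d : ℕ) (j : (Fin d ⊕ Fin d → F) →ₗ[F] (ι → F))
        (g' : Matrix (Fin d ⊕ Fin d) (Fin d ⊕ Fin d) F), 0 < d ∧
        Function.Injective j ∧ (∀ c, g *ᵥ (j c) = j (g' *ᵥ c)) ∧
        (∀ c, Q (j c) = qfPlus d F c) ∧
        (∀ x : Fin d ⊕ Fin d → F, (∀ i, x (Sum.inr i) = 0) → ∀ i, (g' *ᵥ x) (Sum.inr i) = 0) ∧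
        (∀ x : Fin d ⊕ Fin d → F, (∀ i, x (Sum.inl i) = 0) → ∀ i, (g' *ᵥ x) (Sum.inl i) = 0)) := by
  classical
  set G : End F (ι → F) := Matrix.toLin' g with hGdef
  have hGa : ∀ x, G x = g *ᵥ x := fun x => Matrix.toLin'_apply g x
  have hGiso : ∀ x, Q (G x) = Q x := fun x => by rw [hGa]; exact hg x
  have hGN : G ^ N = 1 := by
    rw [hGdef, ← Matrix.toLin'_pow, hgN, Matrix.toLin'_one]
    rfl
  rcases dichotomy Q hQ G hGiso hNF hGN with
    ⟨U, hU0, hUinv, hUnd, hUmin⟩ | ⟨U, U'', hU0, hUinv, hU''inv, hUiso, hU''iso, hl, hr⟩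
  · -- the simple non-degenerate case
    left
    set b : Basis (Fin (finrank F U)) F U := finBasis F U with hb
    have hinv : ∀ c, ∃ c', G (coordMap b c) = coordMap b c' := by
      intro c
      obtain ⟨c', hc'⟩ := coordMap_surj b (hUinv _ (coordMap_mem b c))
      exact ⟨c', hc'.symm⟩
    obtain ⟨g', hg'⟩ := exists_matrix G (coordMap b) (coordMap_injective b) hinv
    refine ⟨finrank F U, coordMap b, g', ?_, coordMap_injective b, ?_, ?_, ?_⟩
    · by_contra hcon
      have h0 : finrank F U = 0 := by omega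
      exact hU0 (Submodule.finrank_eq_zero.mp h0)
    · intro c
      rw [← hGa]
      exact hg' c
    · intro x hx
      have h1 : coordMap b x = 0 := by
        apply hUnd _ (coordMap_mem b x)
        intro y hy
        obtain ⟨c, rfl⟩ := coordMap_surj b hy
        exact hx c
      apply coordMap_injective b
      rw [h1, map_zero]
    · intro U₁ hU₁
      have hWle : U₁.map (coordMap b) ≤ U := by
        rintro _ ⟨c, -, rfl⟩
        exact coordMap_mem b c
      have hWinv : ∀ u ∈ U₁.map (coordMap b), G u ∈ U₁.map (coordMap b) := by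
        rintro _ ⟨c, hc, rfl⟩
        rw [hg' c]
        exact ⟨_, hU₁ c hc, rfl⟩
      rcases hUmin _ hWle hWinv with h | h
      · left
        rw [eq_bot_iff]
        intro c hc
        have h1 : coordMap b c ∈ U₁.map (coordMap b) := ⟨c, hc, rfl⟩
        rw [h, Submodule.mem_bot] at h1
        rw [Submodule.mem_bot]
        apply coordMap_injective b
        rw [h1, map_zero]
      · right
        rw [eq_top_iff]
        intro c _
        have h1 : coordMap b c ∈ U₁.map (coordMap b) := by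
          rw [h]; exact coordMap_mem b c
        obtain ⟨c', hc', hcc'⟩ := h1
        rw [← coordMap_injective b hcc']
        exact hc'
  · -- the hyperbolic case
    right
    obtain ⟨d, bx, by', hpair⟩ := exists_dual_bases Q U U'' hl hr
    have hQU : ∀ u ∈ U, Q u = 0 := by
      intro u hu
      have h1 := hUiso u hu u hu
      rw [QuadraticMap.polar_self, two_smul, ← two_mul] at h1
      rcases mul_eq_zero.mp h1 with h | h
      · exact absurd h h2
      · exact h
    have hQU'' : ∀ u ∈ U'', Q u = 0 := by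
      intro u hu
      have h1 := hU''iso u hu u hu
      rw [QuadraticMap.polar_self, two_smul, ← two_mul] at h1
      rcases mul_eq_zero.mp h1 with h | h
      · exact absurd h h2
      · exact h
    -- coordinate formulas
    have hpx : ∀ (a : Fin d → F) (k : Fin d), polar (⇑Q) (coordMap bx a) (by' k : ι → F) = a k := by
      intro a k
      rw [coordMap_apply, ← QuadraticMap.polarBilin_apply_apply, map_sum, LinearMap.sum_apply]
      simp only [map_smul, LinearMap.smul_apply, QuadraticMap.polarBilin_apply_apply, hpair,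
        smul_eq_mul, mul_ite, mul_one, mul_zero, Finset.sum_ite_eq', Finset.mem_univ, if_true]
    have hpy : ∀ (a : Fin d → F) (k : Fin d), polar (⇑Q) (bx k : ι → F) (coordMap by' a) = a k := by
      intro a k
      rw [coordMap_apply, ← QuadraticMap.polarBilin_apply_apply, map_sum]
      simp only [map_smul, QuadraticMap.polarBilin_apply_apply, hpair,
        smul_eq_mul, mul_ite, mul_one, mul_zero, Finset.sum_ite_eq, Finset.mem_univ, if_true]
    have hpxy : ∀ (a a' : Fin d → F), polar (⇑Q) (coordMap bx a) (coordMap by' a') =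
        ∑ k, a k * a' k := by
      intro a a'
      rw [coordMap_apply by' a', ← QuadraticMap.polarBilin_apply_apply, map_sum]
      apply Finset.sum_congr rfl
      intro k _
      rw [map_smul, QuadraticMap.polarBilin_apply_apply, hpx, smul_eq_mul, mul_comm]
    -- the coordinate map
    set j : (Fin d ⊕ Fin d → F) →ₗ[F] (ι → F) :=
      coordMap bx ∘ₗ (LinearMap.funLeft F F Sum.inl) + coordMap by' ∘ₗ (LinearMap.funLeft F F Sum.inr)
      with hjdef
    have hja : ∀ c, j c = coordMap bx (fun i => c (Sum.inl i)) +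
        coordMap by' (fun i => c (Sum.inr i)) := fun c => rfl
    have hcl : ∀ c k, polar (⇑Q) (j c) (by' k : ι → F) = c (Sum.inl k) := by
      intro c k
      rw [hja, polar_add_left, hpx, hU''iso _ (coordMap_mem by' _) _ (by' k).2, add_zero]
    have hcr : ∀ c k, polar (⇑Q) (bx k : ι → F) (j c) = c (Sum.inr k) := by
      intro c k
      rw [hja, polar_add_right, hpy, hUiso _ (bx k).2 _ (coordMap_mem bx _), zero_add]
    have hjinj : Function.Injective j := by
      rw [← LinearMap.ker_eq_bot, LinearMap.ker_eq_bot']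
      intro c hc
      funext i
      rcases i with k | k
      · rw [← hcl c k, hc]; simp [polar]
      · rw [← hcr c k, hc]; simp [polar]
    have hinv : ∀ c, ∃ c', G (j c) = j c' := by
      intro c
      obtain ⟨a₂, ha₂⟩ := coordMap_surj bx (hUinv _ (coordMap_mem bx (fun i => c (Sum.inl i))))
      obtain ⟨a₂', ha₂'⟩ := coordMap_surj by' (hU''inv _ (coordMap_mem by' (fun i => c (Sum.inr i))))
      refine ⟨Sum.elim a₂ a₂', ?_⟩
      rw [hja c, map_add, hja, ← ha₂, ← ha₂']
      rfl
    obtain ⟨g', hg'⟩ := exists_matrix G j hjinj hinv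
    refine ⟨d, j, g', ?_, hjinj, ?_, ?_, ?_, ?_⟩
    · by_contra hcon
      have hd0 : d = 0 := by omega
      subst hd0
      apply hU0
      rw [eq_bot_iff]
      intro u hu
      obtain ⟨c, rfl⟩ := coordMap_surj bx hu
      rw [coordMap_apply]
      simp
    · intro c
      rw [← hGa]
      exact hg' c
    · intro c
      rw [hja, QuadraticMap.map_add (⇑Q), hQU _ (coordMap_mem bx _), hQU'' _ (coordMap_mem by' _),
        hpxy, zero_add, zero_add]
      simp [qfPlus]
    · intro x hx i
      rw [← hcr (g' *ᵥ x) i, ← hg' x]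
      apply hUiso _ (bx i).2
      apply hUinv
      rw [hja]
      have h0 : (fun i => x (Sum.inr i)) = 0 := funext hx
      rw [h0, map_zero, add_zero]
      exact coordMap_mem bx _
    · intro x hx i
      rw [← hcl (g' *ᵥ x) i, ← hg' x]
      apply hU''iso _ _ _ (by' i).2
      apply hU''inv
      rw [hja]
      have h0 : (fun i => x (Sum.inl i)) = 0 := funext hx
      rw [h0, map_zero, zero_add]
      exact coordMap_mem by' _

end Final

end Cfsg.Agent.Lib.Helper73_OFus_STRUCT
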