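import Mathlib
import Cfsg.Agent.Lib.Helper45_OFus_ZDefs
import Cfsg.Agent.Lib.Helper44_StdForms
import Cfsg.Agent.Lib.Helper44_Levi
import Cfsg.Agent.Lib.Helper43_IrredDet

set_option autoImplicit false

/-!
The hyperbolic case of the existence of an element of the special orthogonal group outside the commutator subgroup
of the isometry group commuting with a given isometry of order prime to the characteristic: when the isometry of the
plus-type form stabilises both halves of the hyperbolic basis, it is a Levi element, and a Levi element with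
non-square determinant commuting with it exists.
-/

namespace Cfsg.Agent.Lib.Helper88_OFus_HYP

open Cfsg Matrix Module Cfsg.Agent.Lib.Helper44_StdForms Cfsg.Agent.Lib.Helper45_OFus_ZDefs
  Cfsg.Agent.Lib.Helper44_Levi

variable {F : Type*} [Field F]

theorem fromBlocks_diag_pow {d : ℕ} (A D : Matrix (Fin d) (Fin d) F) (n : ℕ) :
    (Matrix.fromBlocks A 0 0 D) ^ n = Matrix.fromBlocks (A ^ n) 0 0 (D ^ n) := by
  induction n with
  | zero => rw [pow_zero, pow_zero, pow_zero, Matrix.fromBlocks_one]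
  | succ n ih =>
    rw [pow_succ, ih, Matrix.fromBlocks_multiply, pow_succ, pow_succ]
    simp

/-- OF-HYP. -/
theorem HYP [Fintype F] (h2 : (2 : F) ≠ 0) {d : ℕ} (hd : 0 < d)
    (g : Matrix (Fin d ⊕ Fin d) (Fin d ⊕ Fin d) F)
    (hg : ∀ x, qfPlus d F (g *ᵥ x) = qfPlus d F x)
    (hU : ∀ x : Fin d ⊕ Fin d → F, (∀ i, x (Sum.inr i) = 0) → ∀ i, (g *ᵥ x) (Sum.inr i) = 0)
    (hU' : ∀ x : Fin d ⊕ Fin d → F, (∀ i, x (Sum.inl i) = 0) → ∀ i, (g *ᵥ x) (Sum.inl i) = 0)
    {N : ℕ} (hNF : (N : F) ≠ 0) (hgN : g ^ N = 1) : Good (qfPlus d F) g := by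
  classical
  have : Nonempty (Fin d) := ⟨⟨0, hd⟩⟩
  -- the block form of `g`
  have h12 : g.toBlocks₁₂ = 0 := by
    ext i j
    have h := hU' (Pi.single (Sum.inr j) 1) (fun k => by simp) i
    rw [Matrix.mulVec_single_one] at h
    exact h
  have h21 : g.toBlocks₂₁ = 0 := by
    ext i j
    have h := hU (Pi.single (Sum.inl j) 1) (fun k => by simp) i
    rw [Matrix.mulVec_single_one] at h
    exact h
  obtain ⟨G₁, hG₁⟩ : ∃ G₁, G₁ = g.toBlocks₁₁ := ⟨_, rfl⟩
  obtain ⟨G₂, hG₂⟩ : ∃ G₂, G₂ = g.toBlocks₂₂ := ⟨_, rfl⟩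
  have hgb : g = Matrix.fromBlocks G₁ 0 0 G₂ := by
    have h := (Matrix.fromBlocks_toBlocks g).symm
    rw [h12, h21] at h
    rw [hG₁, hG₂]
    exact h
  -- the isometry condition
  have hiso : G₁ᵀ * G₂ = 1 := by
    ext j k
    have h := hg (Sum.elim (Pi.single j 1) (Pi.single k 1))
    rw [coe_qfPlus, quadFormPlus_eq_dot, quadFormPlus_eq_dot, hgb, Matrix.fromBlocks_mulVec] at h
    simp only [Matrix.zero_mulVec, add_zero, zero_add] at h
    have e1 : (Sum.elim (G₁ *ᵥ (Sum.elim (Pi.single j (1 : F)) (Pi.single k (1 : F)) ∘ Sum.inl))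
        (G₂ *ᵥ (Sum.elim (Pi.single j (1 : F)) (Pi.single k (1 : F)) ∘ Sum.inr)) :
        Fin d ⊕ Fin d → F) ∘ Sum.inl = G₁ *ᵥ (Pi.single j 1) := by
      funext i
      simp
    have e2 : (Sum.elim (G₁ *ᵥ (Sum.elim (Pi.single j (1 : F)) (Pi.single k (1 : F)) ∘ Sum.inl))
        (G₂ *ᵥ (Sum.elim (Pi.single j (1 : F)) (Pi.single k (1 : F)) ∘ Sum.inr)) :
        Fin d ⊕ Fin d → F) ∘ Sum.inr = G₂ *ᵥ (Pi.single k 1) := by
      funext i
      simp
    have e3 : (Sum.elim (Pi.single j (1 : F)) (Pi.single k (1 : F)) : Fin d ⊕ Fin d → F) ∘ Sum.inl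
        = Pi.single j 1 := by
      funext i
      simp
    have e4 : (Sum.elim (Pi.single j (1 : F)) (Pi.single k (1 : F)) : Fin d ⊕ Fin d → F) ∘ Sum.inr
        = Pi.single k 1 := by
      funext i
      simp
    rw [e1, e2, e3, e4, Matrix.mulVec_single_one, Matrix.mulVec_single_one] at h
    rw [Matrix.mul_apply, Matrix.one_apply]
    have h5 : (Pi.single j (1 : F) : Fin d → F) ⬝ᵥ Pi.single k 1 = if j = k then 1 else 0 := by
      rw [single_dotProduct, one_mul, Pi.single_apply]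
    rw [h5] at h
    rw [← h]
    rfl
  have hiso' : G₂ᵀ * G₁ = 1 := by
    have := congrArg Matrix.transpose hiso
    rwa [Matrix.transpose_mul, Matrix.transpose_transpose, Matrix.transpose_one] at this
  have hiso'' : G₁ * G₂ᵀ = 1 := mul_eq_one_comm.mp hiso'
  let G₁u : GL (Fin d) F := ⟨G₁, G₂ᵀ, hiso'', hiso'⟩
  have hgl : ((leviHom d F G₁u : GL (Fin d ⊕ Fin d) F) :
      Matrix (Fin d ⊕ Fin d) (Fin d ⊕ Fin d) F) = g := by
    change blk d F G₁ G₂ᵀ = g
    rw [blk, Matrix.transpose_transpose, hgb]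
  -- the power
  have hG₁N : G₁ ^ N = 1 := by
    rw [hgb, fromBlocks_diag_pow, ← Matrix.fromBlocks_one, Matrix.fromBlocks_inj] at hgN
    exact hgN.1
  -- a commuting matrix with non-square determinant
  have hchar : ringChar F ≠ 2 := by
    intro h
    apply h2
    have h3 : ((2 : ℕ) : F) = 0 := by
      rw [← h]
      exact ringChar.Nat.cast_ringChar
    exact_mod_cast h3
  obtain ⟨lam, hlam⟩ := FiniteField.exists_nonsquare hchar
  have hTN : (Matrix.toLin' G₁) ^ N = 1 := by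
    rw [← Matrix.toLin'_pow, hG₁N, Matrix.toLin'_one]
    rfl
  obtain ⟨c, hcT, hcdet⟩ := Cfsg.Agent.Lib.Helper43_IrredDet.exists_commute_det_of_pow_eq_one
    (Matrix.toLin' G₁) N hNF hTN lam
  obtain ⟨A, hA⟩ : ∃ A, A = LinearMap.toMatrix' c := ⟨_, rfl⟩
  have hAdet : A.det = lam := by
    rw [hA, LinearMap.det_toMatrix', hcdet]
  have hAG : A * G₁ = G₁ * A := by
    have h1 : LinearMap.toMatrix' (c * Matrix.toLin' G₁) = LinearMap.toMatrix' (Matrix.toLin' G₁ * c) := by
      rw [hcT.eq]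
    rw [LinearMap.toMatrix'_mul, LinearMap.toMatrix'_mul, LinearMap.toMatrix'_toLin'] at h1
    rw [hA]
    exact h1
  have hlam0 : lam ≠ 0 := by
    rintro rfl
    exact hlam ⟨0, by rw [mul_zero]⟩
  let Au : GL (Fin d) F := Matrix.GeneralLinearGroup.mkOfDetNeZero A (by rw [hAdet]; exact hlam0)
  have hAu : (Au : Matrix (Fin d) (Fin d) F) = A := rfl
  have hcommu : Au * G₁u = G₁u * Au := by
    apply Units.ext
    rw [Units.val_mul, Units.val_mul]
    exact hAG
  refine good_of_isometry h2 (qfPlus d F) (nondegenerate_qfPlus d F) g (leviHom d F Au) ?_ ?_ ?_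
  · rw [leviHom_mem_omega_iff d F h2 Au, hAu, hAdet]
    exact hlam
  · exact det_leviHom d F Au
  · rw [← hgl]
    have h1 : leviHom d F Au * leviHom d F G₁u = leviHom d F G₁u * leviHom d F Au := by
      rw [← map_mul, ← map_mul, hcommu]
    have h2' := congrArg (fun z : ↥(Cfsg.isometryGroup F (⇑(qfPlus d F))) =>
      ((z : GL (Fin d ⊕ Fin d) F) : Matrix (Fin d ⊕ Fin d) (Fin d ⊕ Fin d) F)) h1
    exact h2'

end Cfsg.Agent.Lib.Helper88_OFus_HYP
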