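import Mathlib
import Cfsg.Agent.Lib.Helper45_OFus_ZDefs
import Cfsg.Agent.Lib.Helper45_OFus_Ext
import Cfsg.Agent.Lib.Helper45_OFus_ZSimple
import Cfsg.Agent.Lib.Helper45_OFus_Fix
import Cfsg.Agent.Lib.Helper88_OFus_HYP
import Cfsg.Agent.Lib.Helper73_OFus_STRUCT
import Cfsg.Agent.Lib.Helper14_OrthChars
import Cfsg.Agent.Lib.Helper44_Levi

/-!
# An element of `SO ∖ Ω` commuting with an isometry of odd order (S2720)

`exists_good`: for an isometry `g` of odd order `N` prime to the characteristic, commuting with a similarity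
with non-square multiplier, `Good Q g` holds.
-/

set_option autoImplicit false

namespace Cfsg.Agent.Lib.Helper45_OFus_ZMain

open Cfsg Matrix Module Cfsg.Agent.Lib.Helper44_Orth Cfsg.Agent.Lib.Helper14_AutOmega
  Cfsg.Agent.Lib.Helper14_GOChars Cfsg.Agent.Lib.Helper44_Refl Cfsg.Agent.Lib.Helper44_StdForms
  Cfsg.Agent.Lib.Helper45_OFus_ZDefs Cfsg.Agent.Lib.Helper45_OFus_Ext
  Cfsg.Agent.Lib.Helper45_OFus_ZSimple Cfsg.Agent.Lib.Helper45_OFus_Fix
  Cfsg.Agent.Lib.Helper45_OFus_Det

variable {ι : Type} [Fintype ι] [DecidableEq ι] {F : Type*} [Field F]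

/-- A second non-singular fixed vector, orthogonal to a given one. -/
theorem exists_fixed_nonsingular_orth (Q : QuadraticForm F (ι → F))
    (hQ : (QuadraticMap.polarBilin Q).Nondegenerate)
    (g : GL ι F) (hg : g ∈ isometryGroup F (⇑Q)) {N : ℕ} (hNF : (N : F) ≠ 0) (hgN : g ^ N = 1)
    (w : ι → F) (hw : (g : Matrix ι ι F) *ᵥ w = w) (hQw : Q w ≠ 0) (h2 : (2 : F) ≠ 0)
    (x : ι → F) (hx : (g : Matrix ι ι F) *ᵥ x = x) (hx0 : x ≠ 0)
    (hxw : QuadraticMap.polar (⇑Q) w x = 0) :
    ∃ w' : ι → F, (g : Matrix ι ι F) *ᵥ w' = w' ∧ Q w' ≠ 0 ∧ QuadraticMap.polar (⇑Q) w w' = 0 := by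
  by_contra hcon
  push Not at hcon
  have hww : QuadraticMap.polar (⇑Q) w w ≠ 0 := by
    rw [Helper44_Refl.polar_self]
    exact mul_ne_zero h2 hQw
  have hpol : ∀ a b : ι → F, (g : Matrix ι ι F) *ᵥ a = a → (g : Matrix ι ι F) *ᵥ b = b →
      QuadraticMap.polar (⇑Q) w a = 0 → QuadraticMap.polar (⇑Q) w b = 0 →
      QuadraticMap.polar (⇑Q) a b = 0 := by
    intro a b ha hb hwa hwb
    have h1 : Q a = 0 := by
      by_contra h
      exact hcon a ha h hwa
    have h3 : Q b = 0 := by
      by_contra h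
      exact hcon b hb h hwb
    have h4 : Q (a + b) = 0 := by
      by_contra h
      exact hcon (a + b) (by rw [Matrix.mulVec_add, ha, hb]) h
        (by rw [QuadraticMap.polar_add_right, hwa, hwb, add_zero])
    unfold QuadraticMap.polar
    rw [h1, h3, h4]
    ring
  apply hx0
  apply hQ.1
  intro y
  set S : Matrix ι ι F := ∑ i ∈ Finset.range N, ((g ^ i : GL ι F) : Matrix ι ι F) with hS
  have hSy : (g : Matrix ι ι F) *ᵥ (S *ᵥ y) = S *ᵥ y := by
    rw [Matrix.mulVec_mulVec, hS, mul_sum_pow g hgN]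
  set t : F := QuadraticMap.polar (⇑Q) w (S *ᵥ y) / QuadraticMap.polar (⇑Q) w w with ht
  set y' : ι → F := S *ᵥ y - t • w with hy'
  have hy'fix : (g : Matrix ι ι F) *ᵥ y' = y' := by
    rw [hy', Matrix.mulVec_sub, Matrix.mulVec_smul, hSy, hw]
  have hy'w : QuadraticMap.polar (⇑Q) w y' = 0 := by
    rw [hy', QuadraticMap.polar_sub_right, QuadraticMap.polar_smul_right, ht, smul_eq_mul]
    field_simp
    ring
  have h0 := hpol x y' hx hy'fix hxw hy'w
  rw [hy', QuadraticMap.polar_sub_right, QuadraticMap.polar_smul_right,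
    QuadraticMap.polar_comm (⇑Q) x w, hxw, smul_zero, sub_zero] at h0
  have h1 : S *ᵥ y = ∑ i ∈ Finset.range N, ((g ^ i : GL ι F) : Matrix ι ι F) *ᵥ y := by
    rw [hS, Matrix.sum_mulVec]
  have h3 : QuadraticMap.polar (⇑Q) x (S *ᵥ y) =
      ∑ i ∈ Finset.range N, QuadraticMap.polar (⇑Q) x (((g ^ i : GL ι F) : Matrix ι ι F) *ᵥ y) := by
    rw [h1]
    exact map_sum (QuadraticMap.polarBilin Q x) _ _
  have h4 : ∀ i ∈ Finset.range N,
      QuadraticMap.polar (⇑Q) x (((g ^ i : GL ι F) : Matrix ι ι F) *ᵥ y) =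
        QuadraticMap.polar (⇑Q) x y := by
    intro i _
    have := polar_isometry Q (g ^ i) (Subgroup.pow_mem _ hg i) x y
    rw [pow_mulVec_fixed g x hx i] at this
    exact this
  rw [h3, Finset.sum_congr rfl h4, Finset.sum_const, Finset.card_range, nsmul_eq_mul] at h0
  rcases mul_eq_zero.mp h0 with h | h
  · exact absurd h hNF
  · exact h

variable [Fintype F]

/-- The case of a non-zero fixed vector. -/
theorem good_of_fixed (h2 : (2 : F) ≠ 0) (Q : QuadraticForm F (ι → F))
    (hQ : (QuadraticMap.polarBilin Q).Nondegenerate)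
    (g : GL ι F) (hg : g ∈ isometryGroup F (⇑Q)) {N : ℕ} (hNF : (N : F) ≠ 0) (hgN : g ^ N = 1)
    (c : ↥(GO (⇑Q))) (hcg : (c : GL ι F) * g = g * (c : GL ι F))
    (hc : ¬ IsSquare ((mu (⇑Q) c : Fˣ) : F))
    (u : ι → F) (hu : (g : Matrix ι ι F) *ᵥ u = u) (hu0 : u ≠ 0) : Good Q (g : Matrix ι ι F) := by
  obtain ⟨w, hw, hQw⟩ := exists_fixed_nonsingular Q hQ g hg hNF hgN u hu hu0
  have hww : QuadraticMap.polar (⇑Q) w w ≠ 0 := by
    rw [Helper44_Refl.polar_self]
    exact mul_ne_zero h2 hQw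
  have hcgm : ((c : GL ι F) : Matrix ι ι F) * (g : Matrix ι ι F) =
      (g : Matrix ι ι F) * ((c : GL ι F) : Matrix ι ι F) := by
    have := congrArg (fun z : GL ι F => (z : Matrix ι ι F)) hcg
    simpa [Units.val_mul] using this
  -- a fixed vector orthogonal to `w`
  obtain ⟨x, hx, hx0, hxw⟩ : ∃ x : ι → F, (g : Matrix ι ι F) *ᵥ x = x ∧ x ≠ 0 ∧
      QuadraticMap.polar (⇑Q) w x = 0 := by
    by_contra hcon
    push Not at hcon
    -- every fixed vector is a multiple of `w`
    have hline : ∀ y : ι → F, (g : Matrix ι ι F) *ᵥ y = y → ∃ l : F, y = l • w := by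
      intro y hy
      set l : F := QuadraticMap.polar (⇑Q) w y / QuadraticMap.polar (⇑Q) w w with hl
      refine ⟨l, ?_⟩
      by_contra hne
      have h1 : y - l • w ≠ 0 := fun h => hne (sub_eq_zero.mp h)
      apply hcon (y - l • w) (by rw [Matrix.mulVec_sub, Matrix.mulVec_smul, hy, hw]) h1
      rw [QuadraticMap.polar_sub_right, QuadraticMap.polar_smul_right, hl, smul_eq_mul]
      field_simp
      ring
    have hcw : (g : Matrix ι ι F) *ᵥ (((c : GL ι F) : Matrix ι ι F) *ᵥ w) =
        ((c : GL ι F) : Matrix ι ι F) *ᵥ w := by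
      rw [Matrix.mulVec_mulVec, ← hcgm, ← Matrix.mulVec_mulVec, hw]
    obtain ⟨l, hl⟩ := hline _ hcw
    have h1 := mu_spec (⇑Q) c w
    rw [hl, QuadraticMap.map_smul, smul_eq_mul] at h1
    have h3 : ((mu (⇑Q) c : Fˣ) : F) = l * l := mul_right_cancel₀ hQw h1.symm
    exact hc ⟨l, h3⟩
  obtain ⟨w', hw', hQw', hww'⟩ :=
    exists_fixed_nonsingular_orth Q hQ g hg hNF hgN w hw hQw h2 x hx hx0 hxw
  -- coordinates on the plane `⟨w, w'⟩`
  set j : (Fin 2 → F) →ₗ[F] (ι → F) :=
    (LinearMap.proj 0).smulRight w + (LinearMap.proj 1).smulRight w' with hj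
  have hjapp : ∀ a : Fin 2 → F, j a = a 0 • w + a 1 • w' := by
    intro a
    simp [hj]
  set Q' : QuadraticForm F (Fin 2 → F) := Q.comp j with hQ'def
  have hQ' : ∀ a, Q' a = Q (j a) := fun a => rfl
  have hpol' : ∀ a b : Fin 2 → F, QuadraticMap.polar (⇑Q) (j a) (j b) =
      a 0 * b 0 * QuadraticMap.polar (⇑Q) w w + a 1 * b 1 * QuadraticMap.polar (⇑Q) w' w' := by
    intro a b
    rw [hjapp, hjapp]
    simp only [QuadraticMap.polar_add_left, QuadraticMap.polar_add_right, QuadraticMap.polar_smul_left,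
      QuadraticMap.polar_smul_right, smul_eq_mul]
    rw [QuadraticMap.polar_comm (⇑Q) w' w, hww']
    ring
  have hw'w' : QuadraticMap.polar (⇑Q) w' w' ≠ 0 := by
    rw [Helper44_Refl.polar_self]
    exact mul_ne_zero h2 hQw'
  have hnd : ∀ a, (∀ b, QuadraticMap.polar (⇑Q) (j a) (j b) = 0) → a = 0 := by
    intro a ha
    have h0 := ha (Pi.single 0 1)
    have h1 := ha (Pi.single 1 1)
    rw [hpol'] at h0 h1
    have e00 : (Pi.single (0 : Fin 2) (1 : F) : Fin 2 → F) 0 = 1 := by simp
    have e01 : (Pi.single (0 : Fin 2) (1 : F) : Fin 2 → F) 1 = 0 := by simp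
    have e10 : (Pi.single (1 : Fin 2) (1 : F) : Fin 2 → F) 0 = 0 := by simp
    have e11 : (Pi.single (1 : Fin 2) (1 : F) : Fin 2 → F) 1 = 1 := by simp
    rw [e00, e01, mul_one, mul_zero, zero_mul, add_zero] at h0
    rw [e10, e11, mul_one, mul_zero, zero_mul, zero_add] at h1
    funext i
    fin_cases i
    · exact (mul_eq_zero.mp h0).resolve_right hww
    · exact (mul_eq_zero.mp h1).resolve_right hw'w'
  have hQ'nd : (QuadraticMap.polarBilin Q').Nondegenerate := by
    have hleft : (QuadraticMap.polarBilin Q').SeparatingLeft := by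
      intro a ha
      apply hnd
      intro b
      have := ha b
      rw [QuadraticMap.polarBilin_apply_apply, polar_comp Q j Q' hQ'] at this
      exact this
    refine ⟨hleft, ?_⟩
    intro b hb
    apply hleft
    intro a
    have := hb a
    rw [QuadraticMap.polarBilin_apply_apply] at this ⊢
    rw [QuadraticMap.polar_comm]
    exact this
  obtain ⟨ε, hε⟩ := FiniteField.exists_nonsquare (F := F)
    (Cfsg.Agent.Lib.Helper44_FinSq.ringChar_ne_two_of_two_ne_zero h2)
  obtain ⟨a, ha⟩ := Cfsg.Agent.Lib.Helper14_OrthChars.exists_norm_eq h2 Q' hQ'nd (by simp) 1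
  obtain ⟨b, hb⟩ := Cfsg.Agent.Lib.Helper14_OrthChars.exists_norm_eq h2 Q' hQ'nd (by simp) ε
  have hgood' : Good Q' (1 : Matrix (Fin 2) (Fin 2) F) := by
    refine ⟨[a, b], ?_, ⟨1, rfl⟩, ?_, ?_⟩
    · intro v hv
      rcases List.mem_pair.mp hv with rfl | rfl
      · rw [ha]; exact one_ne_zero
      · rw [hb]; rintro rfl; exact hε ⟨0, by simp⟩
    · simp only [List.map_cons, List.map_nil, List.prod_cons, List.prod_nil, mul_one, ha, hb, one_mul]
      exact hε
    · rw [Matrix.mul_one, Matrix.one_mul]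
  apply good_of_subspace Q (g : Matrix ι ι F) ((mem_isometryGroup_iff (⇑Q) g).1 hg) j
    (by
      intro a b hab
      have h0 : a - b = 0 := by
        apply hnd
        intro y
        rw [map_sub, hab, sub_self]
        unfold QuadraticMap.polar
        simp
      exact sub_eq_zero.mp h0)
    hnd Q' hQ' 1 ?_ hgood'
  intro a
  rw [Matrix.one_mulVec, hjapp, Matrix.mulVec_add, Matrix.mulVec_smul, Matrix.mulVec_smul, hw, hw']

/-- **Main result**: an isometry of odd order prime to the characteristic commuting with a similarity with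
non-square multiplier commutes with an element of `SO ∖ Ω` (in the form `Good`). -/
theorem exists_good [Nonempty ι] (h2 : (2 : F) ≠ 0) (Q : QuadraticForm F (ι → F))
    (hQ : (QuadraticMap.polarBilin Q).Nondegenerate)
    (g : GL ι F) (hg : g ∈ isometryGroup F (⇑Q)) {N : ℕ} (hN : Odd N) (hNF : (N : F) ≠ 0)
    (hgN : g ^ N = 1)
    (c : ↥(GO (⇑Q))) (hcg : (c : GL ι F) * g = g * (c : GL ι F))
    (hc : ¬ IsSquare ((mu (⇑Q) c : Fˣ) : F)) : Good Q (g : Matrix ι ι F) := by
  by_cases hfix : ∀ v : ι → F, (g : Matrix ι ι F) *ᵥ v = v → v = 0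
  · have hgiso : ∀ x, Q ((g : Matrix ι ι F) *ᵥ x) = Q x := (mem_isometryGroup_iff (⇑Q) g).1 hg
    have hgNm : (g : Matrix ι ι F) ^ N = 1 := by
      rw [← Units.val_pow_eq_pow_val, hgN, Units.val_one]
    rcases Cfsg.Agent.Lib.Helper73_OFus_STRUCT.STRUCT h2 Q hQ (g : Matrix ι ι F) hgiso hNF hgNm with
      ⟨n, j, g', hn, hj, hjg, hnd, hsimple⟩ | ⟨d, j, g', hd, hj, hjg, hjQ, hU, hU'⟩
    · -- simple non-degenerate invariant subspace
      set Q' : QuadraticForm F (Fin n → F) := Q.comp j with hQ'def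
      have hQ' : ∀ a, Q' a = Q (j a) := fun a => rfl
      have hQ'nd : (QuadraticMap.polarBilin Q').Nondegenerate := by
        have hleft : (QuadraticMap.polarBilin Q').SeparatingLeft := by
          intro a ha
          apply hnd
          intro b
          have := ha b
          rw [QuadraticMap.polarBilin_apply_apply, polar_comp Q j Q' hQ'] at this
          exact this
        refine ⟨hleft, ?_⟩
        intro b hb
        apply hleft
        intro a
        have := hb a
        rw [QuadraticMap.polarBilin_apply_apply] at this ⊢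
        rw [QuadraticMap.polar_comm]
        exact this
      have hg'iso : ∀ a, Q' (g' *ᵥ a) = Q' a := by
        intro a
        rw [hQ', hQ', ← hjg, hgiso]
      have hpowj : ∀ (k : ℕ) (a : Fin n → F), (g : Matrix ι ι F) ^ k *ᵥ (j a) = j (g' ^ k *ᵥ a) := by
        intro k
        induction k with
        | zero => intro a; simp
        | succ k ih =>
          intro a
          rw [pow_succ, ← Matrix.mulVec_mulVec, hjg, ih, pow_succ, Matrix.mulVec_mulVec]
      have hg'N : g' ^ N = 1 := by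
        apply Matrix.toLin'.injective
        apply LinearMap.ext
        intro a
        rw [Matrix.toLin'_apply, Matrix.toLin'_apply, Matrix.one_mulVec]
        apply hj
        rw [← hpowj, hgNm, Matrix.one_mulVec]
      have hfix' : ∀ a : Fin n → F, g' *ᵥ a = a → a = 0 := by
        intro a ha
        have h1 : (g : Matrix ι ι F) *ᵥ (j a) = j a := by rw [hjg, ha]
        have := hfix _ h1
        apply hj
        rw [this, map_zero]
      have : Nonempty (Fin n) := ⟨⟨0, hn⟩⟩
      have hgood' := ZSIMPLE h2 Q' hQ'nd g' hg'iso hN hg'N hsimple hfix'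
      exact good_of_subspace Q (g : Matrix ι ι F) hgiso j hj hnd Q' hQ' g' hjg hgood'
    · -- hyperbolic pair
      have hpowj : ∀ (k : ℕ) (a : Fin d ⊕ Fin d → F),
          (g : Matrix ι ι F) ^ k *ᵥ (j a) = j (g' ^ k *ᵥ a) := by
        intro k
        induction k with
        | zero => intro a; simp
        | succ k ih =>
          intro a
          rw [pow_succ, ← Matrix.mulVec_mulVec, hjg, ih, pow_succ, Matrix.mulVec_mulVec]
      have hg'N : g' ^ N = 1 := by
        apply Matrix.toLin'.injective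
        apply LinearMap.ext
        intro a
        rw [Matrix.toLin'_apply, Matrix.toLin'_apply, Matrix.one_mulVec]
        apply hj
        rw [← hpowj, hgNm, Matrix.one_mulVec]
      have hg'iso : ∀ a, qfPlus d F (g' *ᵥ a) = qfPlus d F a := by
        intro a
        rw [← hjQ, ← hjQ, ← hjg, hgiso]
      have hgood' := Cfsg.Agent.Lib.Helper88_OFus_HYP.HYP h2 hd g' hg'iso hU hU' hNF hg'N
      have hnd : ∀ a, (∀ b, QuadraticMap.polar (⇑Q) (j a) (j b) = 0) → a = 0 := by
        intro a ha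
        apply (Cfsg.Agent.Lib.Helper44_Levi.nondegenerate_qfPlus d F).1
        intro b
        rw [QuadraticMap.polarBilin_apply_apply, polar_comp Q j (qfPlus d F) (fun c => (hjQ c).symm)]
        exact ha b
      exact good_of_subspace Q (g : Matrix ι ι F) hgiso j hj hnd (qfPlus d F)
        (fun c => (hjQ c).symm) g' hjg hgood'
  · push Not at hfix
    obtain ⟨u, hu, hu0⟩ := hfix
    exact good_of_fixed h2 Q hQ g hg hNF hgN c hcg hc u hu hu0

end Cfsg.Agent.Lib.Helper45_OFus_ZMain
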