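import Mathlib
import Cfsg.Agent.Lib.Helper45_OFus_Main
import Cfsg.Agent.Lib.Helper45_OFus_Minus
import Cfsg.Agent.Lib.Helper45_OFus_ZMain
import Cfsg.Agent.Lib.Helper14_GraphSplit

/-!
# Fusion of odd prime order semisimple classes in `PΩ⁺_{2m}(q)`, `q` odd (S2720)
-/

set_option autoImplicit false

namespace Cfsg.Agent.Lib.Helper45_OFus_Plus

open Cfsg Matrix Module Cfsg.Agent.Lib.Helper44_Orth Cfsg.Agent.Lib.Helper14_AutOmega
  Cfsg.Agent.Lib.Helper44_StdForms Cfsg.Agent.Lib.Helper14_GOChars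
  Cfsg.Agent.Lib.Helper14_InndiagQuot Cfsg.Agent.Lib.Helper45_OFus_Main
  Cfsg.Agent.Lib.Helper45_OFus_Minus Cfsg.Agent.Lib.Helper45_OFus_ZDefs
  Cfsg.Agent.Lib.Helper45_OFus_ZMain Cfsg.Agent.Lib.Helper45_OFus_Fix

theorem fusion_plus {F : Type*} [Field F] [Fintype F] {p : ℕ} [Fact p.Prime] [CharP F p]
    (hp : p ≠ 2) {m : ℕ} (hm : 4 ≤ m)
    (x : MulAut (Cfsg.POmega F (Cfsg.quadFormPlus m F)))
    (hx : x ∈ Cfsg.pgoAut F (Cfsg.quadFormPlus m F)) {r : ℕ} (hr : r.Prime) (hro : Odd r)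
    (hrp : r ≠ p) (hxr : orderOf x = r) :
    (∀ y : MulAut (Cfsg.POmega F (Cfsg.quadFormPlus m F)),
      (Cfsg.IsConjUnder (Cfsg.Inn (Cfsg.POmega F (Cfsg.quadFormPlus m F))) x y ↔
        Cfsg.IsConjUnder (Cfsg.inndiagPOmegaPlus m F) x y) ∧
      (Cfsg.IsConjUnder (Cfsg.psoAut F (Cfsg.quadFormPlus m F)) x y ↔
        Cfsg.IsConjUnder (Cfsg.inndiagPOmegaPlus m F) x y)) ∧
    (∀ y : MulAut (Cfsg.POmega F (Cfsg.quadFormPlus m F)),
      Cfsg.IsConjUnder (Cfsg.poAut F (Cfsg.quadFormPlus m F)) x y ↔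
        Cfsg.IsConjUnder (Cfsg.pgoAut F (Cfsg.quadFormPlus m F)) x y) := by
  have hodd : Odd (Fintype.card F) := odd_card_of_char hp
  have h2 : (2 : F) ≠ 0 := Cfsg.Agent.Lib.Helper44_FinSq.two_ne_zero_of_odd_card hodd
  have hrF : (r : F) ≠ 0 := cast_ne_zero_of_prime_ne hr hrp
  have hQ := Cfsg.Agent.Lib.Helper14_POmegaSimple.nondegenerate_qfPlus (F := F) m
  have hcard : Fintype.card (Fin m ⊕ Fin m) = 2 * m := by
    rw [Fintype.card_sum, Fintype.card_fin]; ring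
  have hn : 5 ≤ Fintype.card (Fin m ⊕ Fin m) := by rw [hcard]; omega
  have hneg := Cfsg.Agent.Lib.Helper14_NegOneStd.negOne_mem_plus_iff (F := F) hodd m (by omega)
  have hne : ∃ v, qfPlus m F v ≠ 0 :=
    Cfsg.Agent.Lib.Helper14_InndiagPlus.exists_ne_zero m (by omega)
  have hI := Cfsg.Agent.Lib.Helper14_InndiagMain.autSubgroupOf_preserves_eq h2
    (qfPlus m F) hQ hne hcard
    (PreservesSingularClasses (⇑(qfPlus m F)))
    (Cfsg.Agent.Lib.Helper14_InndiagPlus.preserves_plus_iff m h2 (by omega))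
  obtain ⟨ε, hε⟩ := FiniteField.exists_nonsquare
    (Cfsg.Agent.Lib.Helper44_FinSq.ringChar_ne_two_of_two_ne_zero h2)
  have hε0 : ε ≠ 0 := by
    rintro rfl; exact hε ⟨0, by simp⟩
  have hmem : Cfsg.Agent.Lib.Helper14_GODelta.dPlusGL m (Units.mk0 ε hε0) ∈
      GO (⇑(qfPlus m F)) := by
    rw [coe_qfPlus]
    exact Cfsg.Agent.Lib.Helper14_GODelta.dPlusGL_mem m _
  have hmu : mu (⇑(qfPlus m F))
      ⟨Cfsg.Agent.Lib.Helper14_GODelta.dPlusGL m (Units.mk0 ε hε0), hmem⟩ = Units.mk0 ε hε0 := by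
    apply mu_eq
    · exact hne
    · intro v
      rw [Cfsg.Agent.Lib.Helper14_GODelta.dPlusGL_coe, coe_qfPlus,
        Cfsg.Agent.Lib.Helper14_GODelta.quadFormPlus_dPlus]
  have hchi : chiHom (qfPlus m F) hne
      ⟨Cfsg.Agent.Lib.Helper14_GODelta.dPlusGL m (Units.mk0 ε hε0), hmem⟩ = -1 := by
    rw [chiHom_eq_neg_one_iff, hmu, Units.val_mk0]
    exact hε
  have hsq : (⟨Cfsg.Agent.Lib.Helper14_GODelta.dPlusGL m (Units.mk0 ε hε0), hmem⟩ :
      ↥(GO (⇑(qfPlus m F)))) *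
      ⟨Cfsg.Agent.Lib.Helper14_GODelta.dPlusGL m (Units.mk0 ε hε0), hmem⟩ ∈
      Z' (qfPlus m F) :=
    Subgroup.mem_subgroupOf.mpr (Cfsg.Agent.Lib.Helper14_GODelta.dPlusGL_sq_mem m _)
  have hGz : (⟨Cfsg.Agent.Lib.Helper14_GODelta.dPlusGL m (Units.mk0 ε hε0), hmem⟩ :
      ↥(GO (⇑(qfPlus m F)))) ∈ Gz h2 (qfPlus m F) hQ hne hcard ↔ Even m := by
    rw [MonoidHom.mem_ker, sgnHom_eq_one_iff, hmu, Units.val_mk0]
    change (Cfsg.Agent.Lib.Helper14_GODelta.dPlusMat m ε).det = ε ^ m ↔ Even m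
    rw [Cfsg.Agent.Lib.Helper14_InndiagMain.det_dPlusMat]
    constructor
    · intro h
      by_contra hcon
      rw [Nat.not_even_iff_odd] at hcon
      rw [hcon.neg_one_pow] at h
      have h3 : (2 : F) * ε ^ m = 0 := by linear_combination -h
      rcases mul_eq_zero.mp h3 with h4 | h4
      · exact h2 h4
      · exact hε0 (pow_eq_zero_iff (by omega) |>.mp h4)
    · intro h
      rw [h.neg_one_pow, one_mul]
  have key : ∀ x : MulAut (POmega F (⇑(qfPlus m F))),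
      x ∈ pgoAut F (⇑(qfPlus m F)) → orderOf x = r →
      (∀ y : MulAut (POmega F (⇑(qfPlus m F))),
        (IsConjUnder (Inn (POmega F (⇑(qfPlus m F)))) x y ↔
          IsConjUnder ((Gz h2 (qfPlus m F) hQ hne hcard).map (Phi (⇑(qfPlus m F)))) x y) ∧
        (IsConjUnder (psoAut F (⇑(qfPlus m F))) x y ↔
          IsConjUnder ((Gz h2 (qfPlus m F) hQ hne hcard).map (Phi (⇑(qfPlus m F)))) x y)) ∧
      (∀ y : MulAut (POmega F (⇑(qfPlus m F))),
        IsConjUnder (poAut F (⇑(qfPlus m F))) x y ↔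
          IsConjUnder (pgoAut F (⇑(qfPlus m F))) x y) := by
    intro x hx hxr
    have hxr' : x ^ r = 1 := by rw [← hxr, pow_orderOf_eq_one]
    by_cases hin : Cfsg.Agent.Lib.Helper44_Spinor.negOne (qfPlus m F) ∈ Omega F (⇑(qfPlus m F))
    · rcases Nat.even_or_odd m with hev | hod
      · -- Klein case
        have hkl := exists_hom_klein h2 (qfPlus m F) hQ hn hne hcard hin _ hchi hsq (hGz.mpr hev)
        refine fusion_klein h2 (qfPlus m F) hQ hn hne hcard ⟨_, hchi⟩ hkl hro hrF ?_ x hx hxr'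
        intro g hg hgr
        obtain ⟨c, -, hcchi, hcg⟩ := exists_comm_Gz h2 (qfPlus m F) hQ hne hcard g hg hro hrF hgr _ hchi
        have hcns : ¬ IsSquare ((mu (⇑(qfPlus m F)) c : Fˣ) : F) :=
          (chiHom_eq_neg_one_iff (qfPlus m F) hne c).mp hcchi
        have hNE : Nonempty (Fin m ⊕ Fin m) := ⟨Sum.inl ⟨0, by omega⟩⟩
        have hgood := exists_good h2 (qfPlus m F) hQ g hg hro hrF hgr c hcg hcns
        obtain ⟨z₀, hz₀O, hz₀d, hz₀c⟩ := exists_isometry_of_good h2 (qfPlus m F) _ hgood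
        refine ⟨Subgroup.inclusion (isometryGroup_le_GO (⇑(qfPlus m F))) z₀, ?_, ?_, ?_⟩
        · rw [mem_SO'_iff]
          exact ⟨z₀.2, hz₀d⟩
        · intro hcon
          exact hz₀O (mem_omega_of_mem_sup h2 (qfPlus m F) hQ hn hin z₀ hcon)
        · apply Units.ext
          rw [Units.val_mul, Units.val_mul]
          exact hz₀c
      · -- cyclic of order four
        exact fusion_cyclic h2 (qfPlus m F) hQ hn hne hcard ⟨_, hchi⟩
          ⟨4, Or.inr rfl, exists_hom_cyclic_four h2 (qfPlus m F) hQ hn hne hcard hin _ hchi hsq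
            (by rw [hGz]; exact Nat.not_even_iff_odd.mpr hod)⟩ x hx hro hrF hxr'
    · exact fusion_cyclic h2 (qfPlus m F) hQ hn hne hcard ⟨_, hchi⟩
        ⟨2, Or.inl rfl, exists_hom_two h2 (qfPlus m F) hQ hn hne hcard hin _ hchi⟩ x hx hro hrF hxr'
  rw [← hI] at key
  rw [coe_qfPlus] at key
  exact key x hx hxr

end Cfsg.Agent.Lib.Helper45_OFus_Plus
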