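import Mathlib
import Cfsg.Agent.Lib.Helper38_OTDefs
import Cfsg.Agent.Lib.Helper94_OrthVec
import Cfsg.Agent.Lib.Helper17_UT_BAS1

set_option autoImplicit false
set_option linter.unusedSectionVars false
set_option linter.unusedVariables false

/-!
OTENS4, package CASE1 (core): the assembly of Case 1 with the results of the packages
RSO, GEN1, GEN1B, GEN2, GEN3, GEN4, BAS (`tf_nondegenerateO`), OG (`M_le_oG`) as hypotheses.
The verbatim `case1` is in `Helper45_OT_CASE1`.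
-/

namespace Cfsg.Agent.Lib.Helper45_OT_CASE1core

open Matrix Module
open Cfsg.Agent.Lib.Helper98_ExtDefs Cfsg.Agent.Lib.Helper97_TensDefs
open Cfsg.Agent.Lib.Helper94_Herm
open Cfsg.Agent.Lib.Helper67_UT2Defs Cfsg.Agent.Lib.Helper37_UTDefs
open Cfsg.Agent.Lib.Helper37_UTPairDefs
open Cfsg.Agent.Lib.Helper94_OrthSmall Cfsg.Agent.Lib.Helper94_OrthSiegel
open Cfsg.Agent.Lib.Helper94_OrthNondeg (InZ)
open Cfsg.Agent.Lib.Helper67_T2ODefs (IsAltMap aw)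
open Cfsg.Agent.Lib.Helper38_OTDefs

variable {F : Type*} [Field F] {ι κ : Type*} [Fintype ι] [Fintype κ] [DecidableEq ι]
  [DecidableEq κ]
variable {α : LinearMap.BilinForm F (ι → F)} {β : LinearMap.BilinForm F (κ → F)}
variable {Q : Matrix ι κ F → F} {M : Subgroup (Matrix ι κ F ≃ₗ[F] Matrix ι κ F)}

/-- a nonzero vector and a partner, for a form that is nondegenerate on a nonzero space -/
theorem exists_pair_ne {n : Type*} [Fintype n] [DecidableEq n] (hn : 0 < Fintype.card n)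
    {ω : LinearMap.BilinForm F (n → F)} (hωN : NondegOn ω ⊤) :
    ∃ v v' : n → F, v ≠ 0 ∧ v' ≠ 0 ∧ ω v v' ≠ 0 := by
  obtain ⟨i⟩ := Fintype.card_pos_iff.mp hn
  have hv : (Pi.single i (1 : F) : n → F) ≠ 0 := by
    intro h
    have := congrFun h i
    simp at this
  obtain ⟨v', -, hv'⟩ := hωN _ Submodule.mem_top hv
  refine ⟨_, v', hv, ?_, hv'⟩
  rintro rfl
  exact hv' (map_zero _)

/-- Case 1, from the conclusion of GEN4: if `M` contains all the Siegel elements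
`sieg (x ⊗ y) Z`, then `M = Ω`. -/
theorem case1_of_gen4 (hC : OTCtx α β Q M) (hG3 : HG3 α β Q)
    (hnd : LinearMap.BilinForm.Nondegenerate (tf α β)) (hMo : M ≤ oG Q)
    (h4 : ∀ (x : ι → F) (y : κ → F) (Z : Matrix ι κ F), x ≠ 0 → y ≠ 0 →
      tf α β (vecMulVec x y) Z = 0 → sieg Q (tf α β) (vecMulVec x y) Z ∈ M) :
    M = ⁅oG Q, oG Q⁆ := by
  have ha : 0 < Fintype.card ι := lt_of_lt_of_le (by norm_num) hC.ha
  have hb : 0 < Fintype.card κ := lt_of_lt_of_le (by norm_num) hC.hab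
  obtain ⟨x, x', hx, hx', hxx'⟩ := exists_pair_ne ha hC.hαN
  obtain ⟨y, y', hy, hy', hyy'⟩ := exists_pair_ne hb hC.hβN
  have hall := Cfsg.Agent.Lib.Helper94_OrthVec.all_of_pair Q (tf α β) hC.hQs hC.hQp hnd M hMo
    (w1 := vecMulVec x y) (w2 := vecMulVec x' y')
    ⟨hC.hpure x y, fun z hz => h4 x y z hx hy hz⟩
    ⟨hC.hpure x' y', fun z hz => h4 x' y' z hx' hy' hz⟩
    (by rw [Cfsg.Agent.Lib.Helper17_UT_BAS1.tf_pure]; exact mul_ne_zero hxx' hyy')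
  exact le_antisymm hC.hM (hG3 M hall)

/-- Case 1, with the statements of RSO, GEN1, GEN1B, GEN2, GEN3, GEN4 as hypotheses -/
theorem case1_of (hC : OTCtx α β Q M) (hG3 : HG3 α β Q)
    (hnd : LinearMap.BilinForm.Nondegenerate (tf α β)) (hMo : M ≤ oG Q)
    (hrso : ∃ (x : ι → F) (y w : κ → F), x ≠ 0 ∧ y ≠ 0 ∧ β y w = 0 ∧
      w ∉ Submodule.span F {y} ∧ InZ Q (tf α β) M (vecMulVec x y) (vecMulVec x w))
    (hgen1 : ∀ {x : ι → F} {y w : κ → F}, x ≠ 0 → y ≠ 0 → β y w = 0 →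
      w ∉ Submodule.span F {y} → InZ Q (tf α β) M (vecMulVec x y) (vecMulVec x w) →
      ∀ z : κ → F, β y z = 0 → InZ Q (tf α β) M (vecMulVec x y) (vecMulVec x z))
    (hgen1b : ∀ {x : ι → F} {y : κ → F}, x ≠ 0 → y ≠ 0 →
      (∀ z : κ → F, β y z = 0 → InZ Q (tf α β) M (vecMulVec x y) (vecMulVec x z)) →
      ∀ (x' : ι → F) (y' z' : κ → F), x' ≠ 0 → y' ≠ 0 → β y' z' = 0 →
        InZ Q (tf α β) M (vecMulVec x' y') (vecMulVec x' z'))
    (hgen2 : (∀ (x : ι → F) (y z : κ → F), x ≠ 0 → y ≠ 0 → β y z = 0 →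
        InZ Q (tf α β) M (vecMulVec x y) (vecMulVec x z)) →
      ∀ (x a : ι → F) (y z : κ → F), x ≠ 0 → y ≠ 0 → β y z = 0 →
        InZ Q (tf α β) M (vecMulVec x y) (vecMulVec a z))
    (hgen3 : (∀ (x a : ι → F) (y z : κ → F), x ≠ 0 → y ≠ 0 → β y z = 0 →
        InZ Q (tf α β) M (vecMulVec x y) (vecMulVec a z)) →
      ∀ (x c : ι → F) (y b : κ → F), x ≠ 0 → y ≠ 0 → α x c = 0 →
        InZ Q (tf α β) M (vecMulVec x y) (vecMulVec c b))
    (hgen4 : (∀ (x a : ι → F) (y z : κ → F), x ≠ 0 → y ≠ 0 → β y z = 0 →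
        InZ Q (tf α β) M (vecMulVec x y) (vecMulVec a z)) →
      (∀ (x c : ι → F) (y b : κ → F), x ≠ 0 → y ≠ 0 → α x c = 0 →
        InZ Q (tf α β) M (vecMulVec x y) (vecMulVec c b)) →
      ∀ (x : ι → F) (y : κ → F) (Z : Matrix ι κ F), x ≠ 0 → y ≠ 0 →
        tf α β (vecMulVec x y) Z = 0 → sieg Q (tf α β) (vecMulVec x y) Z ∈ M) :
    M = ⁅oG Q, oG Q⁆ := by
  obtain ⟨x, y, w, hx, hy, hyw, hw, h⟩ := hrso
  have h1 := hgen1 hx hy hyw hw h
  have h1b := hgen1b hx hy h1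
  have h2 := hgen2 h1b
  have h3 := hgen3 h2
  exact case1_of_gen4 hC hG3 hnd hMo (hgen4 h2 h3)

end Cfsg.Agent.Lib.Helper45_OT_CASE1core
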