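import Mathlib
import Cfsg.Agent.Lib.Helper17_Sylow
import Cfsg.Agent.Lib.Helper45_SylowTwoP
import Cfsg.Agent.Lib.Helper45_SylowTransfer
import Cfsg.Agent.Lib.Helper45_Order1440

/-!
helper45: tools for "no simple group of order 2016": general numerics of an involution of
`C(P)`, congruences for conjugates inside a `P`-invariant subgroup, and the "normalizer grows"
argument in a Sylow 2-subgroup.
-/

set_option autoImplicit false
set_option linter.unusedSectionVars false

namespace Cfsg.Agent.Lib.Helper45_Order2016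

open Subgroup MulAction
open scoped Pointwise
open Cfsg.Agent.Lib.Helper17_Sylow Cfsg.Agent.Lib.Helper45_SylowTwoP
  Cfsg.Agent.Lib.Helper45_SylowTransfer Cfsg.Agent.Lib.Helper45_Order1440

variable {G : Type*} [Group G] [Finite G] {p : ℕ} [hp : Fact p.Prime]

/-- numerical data of an involution `u ∈ C(P)`, `|P| = p` odd -/
theorem involution_numerics_gen (hodd : p ≠ 2) (P : Sylow p G)
    (hcard : Nat.card (P : Subgroup G) = p) {u : G} (hu : orderOf u = 2)
    (huC : u ∈ centralizer ((P : Subgroup G) : Set G)) :
    Nat.card (normalizer ((P : Subgroup G) : Set G)) * Nat.card {R : Sylow p G // u • R = R} =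
      Nat.card (centralizer ({u} : Set G)) *
        Nat.card {y : G // IsConj u y ∧ y ∈ normalizer ((P : Subgroup G) : Set G)} ∧
      Nat.card (centralizer ({u} : Set G)) ∣ Nat.card G ∧
      Nat.card (centralizer ({u} : Set G) ⊓ normalizer ((P : Subgroup G) : Set G) : Subgroup G) *
        (normalizer ((P : Subgroup G) : Set G)).relIndex (centralizer ({u} : Set G)) =
          Nat.card (centralizer ({u} : Set G)) ∧
      Nat.card (centralizer ({u} : Set G) ⊓ normalizer ((P : Subgroup G) : Set G) : Subgroup G)
        ∣ Nat.card (normalizer ((P : Subgroup G) : Set G)) ∧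
      2 * p ∣ Nat.card
        (centralizer ({u} : Set G) ⊓ normalizer ((P : Subgroup G) : Set G) : Subgroup G) ∧
      (normalizer ((P : Subgroup G) : Set G)).relIndex (centralizer ({u} : Set G)) % p = 1 ∧
      Nat.card {y : G // IsConj u y ∧ y ∈ normalizer ((P : Subgroup G) : Set G)} % p =
        Nat.card {y : G // IsConj u y ∧ y ∈ centralizer ((P : Subgroup G) : Set G)} % p ∧
      1 ≤ Nat.card {y : G // IsConj u y ∧ y ∈ centralizer ((P : Subgroup G) : Set G)} ∧
      (Nat.card {y : G // IsConj u y ∧ y ∈ centralizer ((P : Subgroup G) : Set G)} + 1) * p ≤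
        Nat.card (centralizer ((P : Subgroup G) : Set G)) ∧
      Nat.card {y : G // IsConj u y ∧ y ∈ normalizer ((P : Subgroup G) : Set G)} ≤
        Nat.card {y : G // IsConj u y ∧ y ∈ centralizer ((P : Subgroup G) : Set G)} +
          Nat.card (centralizer ((P : Subgroup G) : Set G)) := by
  have huu : u * u = 1 := by
    have := pow_orderOf_eq_one u
    rwa [hu, pow_two] at this
  have hu1 : u ≠ 1 := by
    intro h
    rw [h, orderOf_one] at hu
    norm_num at hu
  have hPH : (P : Subgroup G) ≤ centralizer ({u} : Set G) := by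
    intro x hx
    rw [mem_centralizer_iff]
    intro h hh
    rw [Set.mem_singleton_iff] at hh
    subst hh
    exact (mem_centralizer_iff.1 huC x hx).symm
  have huH : u ∈ centralizer ({u} : Set G) := by
    rw [mem_centralizer_iff]
    intro h hh
    rw [Set.mem_singleton_iff] at hh
    subst hh
    rfl
  have huN : u ∈ normalizer ((P : Subgroup G) : Set G) := centralizer_le_normalizer _ huC
  refine ⟨?_, ?_, ?_, ?_, ?_, ?_, ?_, ?_, ?_, ?_⟩
  · exact card_normalizer_mul_card_fixed P u
  · exact card_subgroup_dvd_card _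
  · exact card_inf_mul_relIndex _ _
  · exact card_dvd_of_le inf_le_right
  · have h1 : p ∣ Nat.card
        (centralizer ({u} : Set G) ⊓ normalizer ((P : Subgroup G) : Set G) : Subgroup G) := by
      have h3 := card_dvd_of_le (le_inf hPH (le_normalizer (H := (P : Subgroup G))))
      rwa [hcard] at h3
    have h2 : 2 ∣ Nat.card
        (centralizer ({u} : Set G) ⊓ normalizer ((P : Subgroup G) : Set G) : Subgroup G) := by
      have h3 : zpowers u ≤
          centralizer ({u} : Set G) ⊓ normalizer ((P : Subgroup G) : Set G) := by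
        rw [zpowers_le]
        exact ⟨huH, huN⟩
      have h4 := card_dvd_of_le h3
      rwa [Nat.card_zpowers, hu] at h4
    have hcop : Nat.Coprime 2 p := (Nat.coprime_primes Nat.prime_two hp.out).2 (Ne.symm hodd)
    exact Nat.Coprime.mul_dvd_of_dvd_of_dvd hcop h2 h1
  · have h1 := relIndex_normalizer_modEq P _ hPH
    rw [Nat.ModEq] at h1
    rw [h1]
    exact Nat.mod_eq_of_lt hp.out.one_lt
  · exact card_conj_normalizer_modEq P u
  · have : Nonempty {y : G // IsConj u y ∧ y ∈ centralizer ((P : Subgroup G) : Set G)} :=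
      ⟨⟨u, IsConj.refl u, huC⟩⟩
    exact Nat.card_pos
  · have h1 := card_conj_centralizer_succ_le P huu hu1
    have h2 := card_sq_one_mul_le hodd P hcard
    exact (Nat.mul_le_mul_right p h1).trans h2
  · exact card_conj_normalizer_le P hcard huu

/-- a `p`-subgroup `Q` normalizing `H`: `|u^G ∩ H| ≡ |u^G ∩ H ∩ C(Q)| mod p` -/
theorem card_conj_mem_modEq {Q : Subgroup G} (hQ : IsPGroup p Q) (H : Subgroup G)
    (hQH : Q ≤ normalizer (H : Set G)) (u : G) :
    Nat.card {y : G // IsConj u y ∧ y ∈ H} ≡
      Nat.card {y : G // IsConj u y ∧ y ∈ H ∧ y ∈ centralizer (Q : Set G)} [MOD p] := by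
  let inst : MulAction Q {y : G // IsConj u y ∧ y ∈ H} :=
    { smul := fun x y => ⟨(x : G) * y.1 * (x : G)⁻¹, by
        refine ⟨y.2.1.trans (isConj_iff.2 ⟨(x : G), rfl⟩), ?_⟩
        exact (mem_normalizer_iff.1 (hQH x.2) y.1).1 y.2.2⟩
      one_smul := by
        intro y
        apply Subtype.ext
        show ((1 : Q) : G) * y.1 * ((1 : Q) : G)⁻¹ = y.1
        simp
      mul_smul := by
        intro a b y
        apply Subtype.ext
        show ((a * b : Q) : G) * y.1 * ((a * b : Q) : G)⁻¹ =
          (a : G) * ((b : G) * y.1 * (b : G)⁻¹) * (a : G)⁻¹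
        rw [Subgroup.coe_mul]
        group }
  have h1 := hQ.card_modEq_card_fixedPoints {y : G // IsConj u y ∧ y ∈ H}
  have h2 : Nat.card (fixedPoints Q {y : G // IsConj u y ∧ y ∈ H}) =
      Nat.card {y : G // IsConj u y ∧ y ∈ H ∧ y ∈ centralizer (Q : Set G)} := by
    apply Nat.card_congr
    refine
      { toFun := fun y => ⟨y.1.1, y.1.2.1, y.1.2.2, ?_⟩
        invFun := fun y => ⟨⟨y.1, y.2.1, y.2.2.1⟩, ?_⟩
        left_inv := fun y => rfl
        right_inv := fun y => rfl }
    · rw [mem_centralizer_iff]
      intro x hx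
      have h3 := y.2 ⟨x, hx⟩
      have h4 : x * y.1.1 * x⁻¹ = y.1.1 := congrArg Subtype.val h3
      calc x * y.1.1 = x * y.1.1 * x⁻¹ * x := by group
        _ = y.1.1 * x := by rw [h4]
    · intro x
      apply Subtype.ext
      show (x : G) * y.1 * (x : G)⁻¹ = y.1
      have h3 := mem_centralizer_iff.1 y.2.2.2 (x : G) x.2
      rw [h3]
      group
  rw [h2] at h1
  exact h1

/-- an element `z` of prime order `r`: `|u^G| ≡ |u^G ∩ C(z)| mod r` -/
theorem card_conj_modEq_centralizer (u z : G) {r : ℕ} [hr : Fact r.Prime] (hz : orderOf z = r) :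
    Nat.card {y : G // IsConj u y} ≡
      Nat.card {y : G // IsConj u y ∧ y ∈ centralizer ({z} : Set G)} [MOD r] := by
  have h0 : IsPGroup r (zpowers z) :=
    IsPGroup.of_card (n := 1) (by rw [Nat.card_zpowers, hz, pow_one])
  have h1 := card_conj_mem_modEq h0 ⊤ (by rw [normalizer_eq_top]; exact le_top) u
  have e1 : Nat.card {y : G // IsConj u y ∧ y ∈ (⊤ : Subgroup G)} =
      Nat.card {y : G // IsConj u y} := by
    apply Nat.card_congr
    apply Equiv.subtypeEquivRight
    intro y
    simp
  have e2 : Nat.card {y : G // IsConj u y ∧ y ∈ (⊤ : Subgroup G) ∧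
      y ∈ centralizer ((zpowers z : Subgroup G) : Set G)} =
      Nat.card {y : G // IsConj u y ∧ y ∈ centralizer ({z} : Set G)} := by
    apply Nat.card_congr
    apply Equiv.subtypeEquivRight
    intro y
    simp only [mem_top, true_and]
    rw [and_congr_right_iff]
    intro _
    rw [mem_centralizer_iff, mem_centralizer_iff]
    constructor
    · intro h x hx
      rw [Set.mem_singleton_iff] at hx
      subst hx
      exact h x (mem_zpowers x)
    · intro h x hx
      have h3 : zpowers z ≤ centralizer ({y} : Set G) := by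
        rw [zpowers_le, mem_centralizer_iff]
        intro w hw
        rw [Set.mem_singleton_iff] at hw
        subst hw
        exact (h z (Set.mem_singleton z)).symm
      have h4 := mem_centralizer_iff.1 (h3 hx) y (Set.mem_singleton y)
      exact h4.symm
  rw [e1, e2] at h1
  exact h1

/-- `C(P)` is abelian when `|P| = p` is odd and `|C(P)| = 4p` -/
theorem centralizer_comm (hodd : p ≠ 2) (P : Sylow p G) (hcard : Nat.card (P : Subgroup G) = p)
    (hC : Nat.card (centralizer ((P : Subgroup G) : Set G)) = 4 * p) :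
    ∀ a ∈ centralizer ((P : Subgroup G) : Set G), ∀ b ∈ centralizer ((P : Subgroup G) : Set G),
      a * b = b * a := by
  have h2F : Fact (Nat.Prime 2) := ⟨Nat.prime_two⟩
  set C : Subgroup G := centralizer ((P : Subgroup G) : Set G) with hCdef
  have hPc : IsCyclic (P : Subgroup G) := isCyclic_of_prime_card hcard
  have hPC : (P : Subgroup G) ≤ C := le_centralizer_of_isCyclic (P : Subgroup G)
  obtain ⟨T', hT'⟩ := Sylow.exists_subgroup_card_pow_prime (G := C) 2 (n := 2)
    (by rw [hC]; exact Dvd.intro _ rfl)
  set T : Subgroup G := T'.map C.subtype with hTdef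
  have hT4 : Nat.card T = 2 ^ 2 := by
    rw [hTdef, card_map_of_injective (subtype_injective C), hT']
  have hTC : T ≤ C := map_subtype_le T'
  have hTcomm : IsMulCommutative T := IsPGroup.isMulCommutative_of_card_eq_prime_sq hT4
  have hsup : (P : Subgroup G) ⊔ T = C := by
    apply eq_of_le_of_card_ge (sup_le hPC hTC)
    have h1 : p ∣ Nat.card ((P : Subgroup G) ⊔ T : Subgroup G) := by
      have := card_dvd_of_le (le_sup_left : (P : Subgroup G) ≤ (P : Subgroup G) ⊔ T)
      rwa [hcard] at this
    have h2 : 4 ∣ Nat.card ((P : Subgroup G) ⊔ T : Subgroup G) := by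
      have := card_dvd_of_le (le_sup_right : T ≤ (P : Subgroup G) ⊔ T)
      rw [hT4] at this
      norm_num at this
      exact this
    have hcop : Nat.Coprime 4 p := by
      have h3 : Nat.Coprime 2 p := (Nat.coprime_primes Nat.prime_two hp.out).2 (Ne.symm hodd)
      have h4 : Nat.Coprime (2 ^ 2) p := Nat.Coprime.pow_left 2 h3
      norm_num at h4
      exact h4
    have h3 := Nat.Coprime.mul_dvd_of_dvd_of_dvd hcop h2 h1
    rw [hC]
    exact Nat.le_of_dvd Nat.card_pos h3
  have step1 : ∀ b ∈ T, C ≤ centralizer ({b} : Set G) := by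
    intro b hb
    rw [← hsup]
    apply sup_le
    · intro x hx
      rw [mem_centralizer_iff]
      intro h hh
      rw [Set.mem_singleton_iff] at hh
      subst hh
      exact (mem_centralizer_iff.1 (hTC hb) x hx).symm
    · intro x hx
      rw [mem_centralizer_iff]
      intro h hh
      rw [Set.mem_singleton_iff] at hh
      subst hh
      have := hTcomm.is_comm.comm ⟨h, hb⟩ ⟨x, hx⟩
      exact congrArg Subtype.val this
  have step2 : ∀ a ∈ C, C ≤ centralizer ({a} : Set G) := by
    intro a ha
    rw [← hsup]
    apply sup_le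
    · intro x hx
      rw [mem_centralizer_iff]
      intro h hh
      rw [Set.mem_singleton_iff] at hh
      subst hh
      exact (mem_centralizer_iff.1 ha x hx).symm
    · intro b hb
      rw [mem_centralizer_iff]
      intro h hh
      rw [Set.mem_singleton_iff] at hh
      subst hh
      have h1 := step1 b hb ha
      exact (mem_centralizer_iff.1 h1 b (Set.mem_singleton b)).symm
  intro a ha b hb
  have h1 := step2 a ha hb
  exact mem_centralizer_iff.1 h1 a (Set.mem_singleton a)

/-- "normalizer grows": if `C(P)` has index 2 in `N(P)`, `4 ∣ |C(P)|`, no Sylow 2-subgroup of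
`G` lies in `N(P)`, and every involution `v` of `C(P)` is not fused in `C(P)` and has
`C(v) ≤ N(P)`: contradiction. -/
theorem false_of_forall_involution (P : Sylow p G)
    (hrel : (centralizer ((P : Subgroup G) : Set G)).relIndex
      (normalizer ((P : Subgroup G) : Set G)) = 2)
    (h4 : 2 ^ 2 ∣ Nat.card (centralizer ((P : Subgroup G) : Set G)))
    (hSN : ∀ S : Sylow 2 G, ¬ (S : Subgroup G) ≤ normalizer ((P : Subgroup G) : Set G))
    (key : ∀ v : G, orderOf v = 2 → v ∈ centralizer ((P : Subgroup G) : Set G) →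
      (∀ y : G, IsConj v y → y ∈ centralizer ((P : Subgroup G) : Set G) → y = v) ∧
        centralizer ({v} : Set G) ≤ normalizer ((P : Subgroup G) : Set G)) : False := by
  have h2F : Fact (Nat.Prime 2) := ⟨Nat.prime_two⟩
  set N : Subgroup G := normalizer ((P : Subgroup G) : Set G) with hNdef
  set C : Subgroup G := centralizer ((P : Subgroup G) : Set G) with hCdef
  have hCN : C ≤ N := centralizer_le_normalizer _
  obtain ⟨T', hT'⟩ := Sylow.exists_subgroup_card_pow_prime (G := C) 2 (n := 2) h4
  set T : Subgroup G := T'.map C.subtype with hTdef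
  have hT4 : Nat.card T = 4 := by
    rw [hTdef, card_map_of_injective (subtype_injective C), hT']
    norm_num
  have hTC : T ≤ C := map_subtype_le T'
  have hTp : IsPGroup 2 T := IsPGroup.of_card (n := 2) (by rw [hT4]; norm_num)
  obtain ⟨S, hTS⟩ := hTp.exists_le_sylow
  set D : Subgroup G := (S : Subgroup G) ⊓ N with hDdef
  have hSN' : ¬ (S : Subgroup G) ≤ N := hSN S
  have hnil : Group.IsNilpotent (S : Subgroup G) := S.isPGroup'.isNilpotent
  have hnc : NormalizerCondition (S : Subgroup G) :=
    Group.normalizerCondition_of_isNilpotent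
  have hlt : D.subgroupOf (S : Subgroup G) < ⊤ := by
    rw [lt_top_iff_ne_top]
    intro h
    rw [subgroupOf_eq_top] at h
    exact hSN' (h.trans inf_le_right)
  obtain ⟨g, hgn, hgD⟩ := SetLike.exists_of_lt (hnc _ hlt)
  have hgN : (g : G) ∉ N := by
    intro h
    apply hgD
    rw [mem_subgroupOf]
    exact ⟨g.2, h⟩
  have hconjD : ∀ d ∈ D, (g : G) * d * (g : G)⁻¹ ∈ D := by
    intro d hd
    have h1 : (⟨d, hd.1⟩ : (S : Subgroup G)) ∈ D.subgroupOf (S : Subgroup G) := by
      rw [mem_subgroupOf]
      exact hd
    have h2 := (mem_normalizer_iff.1 hgn _).1 h1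
    rw [mem_subgroupOf] at h2
    exact h2
  set K : Subgroup G := T.map (MulAut.conj (g : G)).toMonoidHom with hKdef
  have hK4 : Nat.card K = 4 := by
    rw [hKdef, card_map_of_injective (MulAut.conj (g : G)).injective, hT4]
  have hKN : K ≤ N := by
    intro y hy
    rw [hKdef, mem_map] at hy
    obtain ⟨s, hs, rfl⟩ := hy
    have hsD : s ∈ D := ⟨hTS hs, hCN (hTC hs)⟩
    exact (hconjD s hsD).2
  have hKC : C.relIndex K ≤ 2 := by
    rw [← hrel]
    apply relIndex_le_of_le_right hKN
    rw [hrel]
    norm_num
  have hKinf := card_inf_mul_relIndex K C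
  rw [hK4] at hKinf
  have hcard2 : 2 ∣ Nat.card (K ⊓ C : Subgroup G) := by
    have h1 : Nat.card (K ⊓ C : Subgroup G) ∣ 4 := by
      rw [← hK4]
      exact card_dvd_of_le inf_le_left
    have h2 : Nat.card (K ⊓ C : Subgroup G) ≠ 1 := by
      intro h
      rw [h] at hKinf
      omega
    have h3 : Nat.card (K ⊓ C : Subgroup G) ≤ 4 := Nat.le_of_dvd (by norm_num) h1
    have h4 : 0 < Nat.card (K ⊓ C : Subgroup G) := Nat.card_pos
    interval_cases (Nat.card (K ⊓ C : Subgroup G)) <;> omega
  obtain ⟨y', hy'⟩ := exists_prime_orderOf_dvd_card' (G := (K ⊓ C : Subgroup G)) 2 hcard2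
  have hy : orderOf (y' : G) = 2 := by rw [Subgroup.orderOf_coe]; exact hy'
  have hyK : (y' : G) ∈ T.map (MulAut.conj (g : G)).toMonoidHom := y'.2.1
  have hyC : (y' : G) ∈ C := y'.2.2
  rw [mem_map] at hyK
  obtain ⟨v, hvT, hvy⟩ := hyK
  have hvy' : (g : G) * v * (g : G)⁻¹ = (y' : G) := hvy
  have hv : orderOf v = 2 := by
    rw [← hy, ← hvy']
    exact (orderOf_conj' v (g : G)).symm
  have hvC : v ∈ C := hTC hvT
  obtain ⟨k1, k2⟩ := key v hv hvC
  have h1 : (y' : G) = v := k1 _ (isConj_iff.2 ⟨(g : G), hvy'⟩) hyC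
  apply hgN
  apply k2
  rw [mem_centralizer_iff]
  intro h hh
  rw [Set.mem_singleton_iff] at hh
  subst hh
  rw [h1] at hvy'
  calc h * (g : G) = ((g : G) * h * (g : G)⁻¹) * (g : G) := by rw [hvy']
    _ = (g : G) * h := by group

/-- fixed points on `Sylow p G` of an involution of `C(P)` in a simple group:
`f ≡ 1 mod p`, `f ≡ n_p mod 2`, `f < n_p`, `4 ∣ n_p - f` -/
theorem card_fixedBy_involution_gen (hS : IsSimpleGroup G) (hn1 : Nat.card (Sylow p G) ≠ 1)
    (P : Sylow p G) {z : G} (hz : orderOf z = 2)
    (hzC : z ∈ centralizer ((P : Subgroup G) : Set G)) :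
    Nat.card {R : Sylow p G // z • R = R} % p = 1 % p ∧
      Nat.card {R : Sylow p G // z • R = R} % 2 = Nat.card (Sylow p G) % 2 ∧
      Nat.card {R : Sylow p G // z • R = R} < Nat.card (Sylow p G) ∧
      (Nat.card (Sylow p G) - Nat.card {R : Sylow p G // z • R = R}) % 4 = 0 := by
  classical
  have : Fintype (Sylow p G) := Fintype.ofFinite _
  have h2F : Fact (Nat.Prime 2) := ⟨Nat.prime_two⟩
  have h1 := card_fixedBy_modEq P hzC
  have h2 := card_fixedBy_modEq_prime (p := p) z hz
  have h3 : Nat.card {R : Sylow p G // z • R = R} ≤ Nat.card (Sylow p G) :=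
    Nat.card_le_card_of_injective _ Subtype.val_injective
  have h4 : Nat.card {R : Sylow p G // z • R = R} ≠ Nat.card (Sylow p G) := by
    intro heq
    have hz1 := eq_one_of_card_fixedBy_eq hS hn1 heq
    rw [hz1, orderOf_one] at hz
    norm_num at hz
  set σ : Equiv.Perm (Sylow p G) := MulAction.toPermHom G (Sylow p G) z with hσ
  have hσ2 : σ ^ 2 = 1 := by
    rw [hσ, ← map_pow, ← hz, pow_orderOf_eq_one, map_one]
  have hsign := Equiv.Perm.sign_of_pow_two_eq_one hσ2
  have hfix : Fintype.card (Function.fixedPoints σ) =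
      Nat.card {R : Sylow p G // z • R = R} := by
    rw [← Nat.card_eq_fintype_card]
    apply Nat.card_congr
    apply Equiv.subtypeEquivRight
    intro R
    rfl
  have hcardΩ : Fintype.card (Sylow p G) = Nat.card (Sylow p G) := by
    rw [← Nat.card_eq_fintype_card]
  rw [hfix, hcardΩ, sign_toPermHom hS hn1 z] at hsign
  have heven : Even ((Nat.card (Sylow p G) - Nat.card {R : Sylow p G // z • R = R}) / 2) := by
    by_contra hodd
    rw [Nat.not_even_iff_odd] at hodd
    rw [hodd.neg_one_pow] at hsign
    exact absurd hsign (by decide)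
  obtain ⟨r, hr⟩ := heven
  rw [Nat.ModEq] at h1 h2
  refine ⟨h1, h2.symm, lt_of_le_of_ne h3 h4, ?_⟩
  omega

/-- two non-conjugate involutions: their conjugates in `C(P)`, together with `1`, are distinct
elements of square one -/
theorem card_conj_centralizer_add_succ_le (P : Sylow p G) {u u' : G} (hu : u * u = 1)
    (hu1 : u ≠ 1) (hu' : u' * u' = 1) (hu1' : u' ≠ 1) (hne : ¬ IsConj u u') :
    Nat.card {y : G // IsConj u y ∧ y ∈ centralizer ((P : Subgroup G) : Set G)} +
      Nat.card {y : G // IsConj u' y ∧ y ∈ centralizer ((P : Subgroup G) : Set G)} + 1 ≤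
      Nat.card {y : G // y ∈ centralizer ((P : Subgroup G) : Set G) ∧ y * y = 1} := by
  rw [← Nat.card_sum, ← Finite.card_option]
  let f : Option ({y : G // IsConj u y ∧ y ∈ centralizer ((P : Subgroup G) : Set G)} ⊕
      {y : G // IsConj u' y ∧ y ∈ centralizer ((P : Subgroup G) : Set G)}) →
      {y : G // y ∈ centralizer ((P : Subgroup G) : Set G) ∧ y * y = 1} := fun o =>
    match o with
    | none => ⟨1, one_mem _, one_mul 1⟩
    | some (Sum.inl y) => ⟨y.1, y.2.2, mul_self_of_isConj hu y.2.1⟩
    | some (Sum.inr y) => ⟨y.1, y.2.2, mul_self_of_isConj hu' y.2.1⟩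
  apply Nat.card_le_card_of_injective f
  have hne1 : ∀ y : {y : G // IsConj u y ∧ y ∈ centralizer ((P : Subgroup G) : Set G)},
      y.1 ≠ 1 := by
    intro y h1
    apply hu1
    have h2 := y.2.1
    rw [h1] at h2
    exact (isConj_one_left.1 h2)
  have hne2 : ∀ y : {y : G // IsConj u' y ∧ y ∈ centralizer ((P : Subgroup G) : Set G)},
      y.1 ≠ 1 := by
    intro y h1
    apply hu1'
    have h2 := y.2.1
    rw [h1] at h2
    exact (isConj_one_left.1 h2)
  intro o o' h
  have h0 : (f o).1 = (f o').1 := congrArg Subtype.val h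
  match o, o', h0 with
  | none, none, _ => rfl
  | none, some (Sum.inl y), h0 =>
    exfalso
    have h1 : (1 : G) = y.1 := h0
    exact hne1 y h1.symm
  | none, some (Sum.inr y), h0 =>
    exfalso
    have h1 : (1 : G) = y.1 := h0
    exact hne2 y h1.symm
  | some (Sum.inl y), none, h0 =>
    exfalso
    have h1 : y.1 = (1 : G) := h0
    exact hne1 y h1
  | some (Sum.inr y), none, h0 =>
    exfalso
    have h1 : y.1 = (1 : G) := h0
    exact hne2 y h1
  | some (Sum.inl y), some (Sum.inl y'), h0 =>
    have h1 : y.1 = y'.1 := h0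
    rw [Subtype.ext h1]
  | some (Sum.inr y), some (Sum.inr y'), h0 =>
    have h1 : y.1 = y'.1 := h0
    rw [Subtype.ext h1]
  | some (Sum.inl y), some (Sum.inr y'), h0 =>
    exfalso
    have h1 : y.1 = y'.1 := h0
    apply hne
    have h2 := y'.2.1
    rw [← h1] at h2
    exact y.2.1.trans h2.symm
  | some (Sum.inr y), some (Sum.inl y'), h0 =>
    exfalso
    have h1 : y.1 = y'.1 := h0
    apply hne
    have h2 := y.2.1
    rw [h1] at h2
    exact y'.2.1.trans h2.symm

theorem arith_2016 (c k a d o : ℕ) (h1 : c * k = 448) (h2 : c ∣ 2016) (h3 : d * o = c)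
    (h4 : d ∣ 56) (h5 : 14 ∣ d) (h6 : o % 7 = 1) (h7 : k % 7 = a % 7) (h8 : 1 ≤ a)
    (h9 : (a + 1) * 7 ≤ 28) (h10 : k ≤ a + 28) :
    (a = 1 ∧ c = 56 ∧ o = 1) ∨ (a = 2 ∧ c = 28 ∧ o = 1) ∨ (a = 2 ∧ c = 224 ∧ o = 8) := by
  have hc224 : c ∣ 224 := by
    have h := Nat.dvd_gcd h2 (Dvd.intro k h1)
    norm_num at h
    exact h
  have hc_le : c ≤ 224 := Nat.le_of_dvd (by norm_num) hc224
  have hd_le : d ≤ 56 := Nat.le_of_dvd (by norm_num) h4
  have hk : k ≤ 31 := by omega
  interval_cases k <;> try omega
  all_goals (interval_cases d <;> omega)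

/-- if every conjugate of `v ≠ 1` commutes with `v` in a simple group then `C(v) = G` -/
theorem centralizer_eq_top_of_forall_conj (hS : IsSimpleGroup G) {v : G} (hv1 : v ≠ 1)
    (h : ∀ y : G, IsConj v y → y ∈ centralizer ({v} : Set G)) :
    centralizer ({v} : Set G) = ⊤ := by
  have h1 : normalClosure ({v} : Set G) ≤ centralizer ({v} : Set G) := by
    unfold normalClosure
    rw [closure_le]
    intro y hy
    rw [Group.mem_conjugatesOfSet_iff] at hy
    obtain ⟨s, hs, hsy⟩ := hy
    rw [Set.mem_singleton_iff] at hs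
    subst hs
    exact h y hsy
  have h2 : normalClosure ({v} : Set G) = ⊤ := by
    rcases hS.eq_bot_or_eq_top_of_normal _ (normalClosure_normal (s := ({v} : Set G))) with hb | ht
    · exfalso
      apply hv1
      have h3 : v ∈ normalClosure ({v} : Set G) :=
        subset_normalClosure (Set.mem_singleton v)
      rw [hb, mem_bot] at h3
      exact h3
    · exact ht
  rw [h2] at h1
  exact top_le_iff.1 h1

/-- the case of 36 Sylow 7-subgroups with `|C(P)| = 28` -/
theorem false_of_card_centralizer_twentyeight [h7 : Fact (Nat.Prime 7)] (hS : IsSimpleGroup G)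
    (hG : Nat.card G = 2016) (hn : Nat.card (Sylow 7 G) = 36) (P : Sylow 7 G)
    (hcard : Nat.card (P : Subgroup G) = 7)
    (hN : Nat.card (normalizer ((P : Subgroup G) : Set G)) = 56)
    (hC : Nat.card (centralizer ((P : Subgroup G) : Set G)) = 28) : False := by
  have h2F : Fact (Nat.Prime 2) := ⟨Nat.prime_two⟩
  have hn1 : Nat.card (Sylow 7 G) ≠ 1 := by rw [hn]; norm_num
  have hCN : centralizer ((P : Subgroup G) : Set G) ≤ normalizer ((P : Subgroup G) : Set G) :=
    centralizer_le_normalizer _
  have hcomm := centralizer_comm (by norm_num : (7 : ℕ) ≠ 2) P hcard (by rw [hC])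
  have hrel : (centralizer ((P : Subgroup G) : Set G)).relIndex
      (normalizer ((P : Subgroup G) : Set G)) = 2 := by
    have h1 := card_mul_relIndex_of_le hCN
    rw [hC, hN] at h1
    omega
  -- the three types of involutions of `C(P)`
  have types : ∀ v : G, orderOf v = 2 → v ∈ centralizer ((P : Subgroup G) : Set G) →
      (Nat.card {y : G // IsConj v y ∧ y ∈ centralizer ((P : Subgroup G) : Set G)} = 1 ∧
        Nat.card (centralizer ({v} : Set G)) = 56 ∧
        (normalizer ((P : Subgroup G) : Set G)).relIndex (centralizer ({v} : Set G)) = 1) ∨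
      (Nat.card {y : G // IsConj v y ∧ y ∈ centralizer ((P : Subgroup G) : Set G)} = 2 ∧
        Nat.card (centralizer ({v} : Set G)) = 28 ∧
        (normalizer ((P : Subgroup G) : Set G)).relIndex (centralizer ({v} : Set G)) = 1) ∨
      (Nat.card {y : G // IsConj v y ∧ y ∈ centralizer ((P : Subgroup G) : Set G)} = 2 ∧
        Nat.card (centralizer ({v} : Set G)) = 224 ∧
        (normalizer ((P : Subgroup G) : Set G)).relIndex (centralizer ({v} : Set G)) = 8) := by
    intro v hv hvC
    obtain ⟨e1, e2, e3, e4, e5, e6, e7, e8, e9, e10⟩ :=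
      involution_numerics_gen (by norm_num : (7 : ℕ) ≠ 2) P hcard hv hvC
    obtain ⟨f1, f2, f3, f4⟩ := card_fixedBy_involution_gen hS hn1 P hv hvC
    rw [hn] at f2 f3 f4
    have hf : Nat.card {R : Sylow 7 G // v • R = R} = 8 := by omega
    rw [hN, hf] at e1
    rw [hG] at e2
    rw [hN] at e4
    rw [hC] at e9 e10
    exact arith_2016 _ _ _ _ _ (by rw [← e1]) e2 e3 e4 (by simpa using e5) e6 e7 e8 e9 e10
  by_cases hall : ∀ v : G, orderOf v = 2 → v ∈ centralizer ((P : Subgroup G) : Set G) →
      (Nat.card {y : G // IsConj v y ∧ y ∈ centralizer ((P : Subgroup G) : Set G)} = 1 ∧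
        (normalizer ((P : Subgroup G) : Set G)).relIndex (centralizer ({v} : Set G)) = 1)
  · -- all involutions of type A
    apply false_of_forall_involution P hrel (by rw [hC]; norm_num)
    · intro S hSle
      have h1 := card_dvd_of_le hSle
      have h2 := card_sylow_eq_pow (p := 2) (k := 5) (m := 63) (by rw [hG]; norm_num)
        (by norm_num) S
      rw [h2, hN] at h1
      norm_num at h1
    · intro v hv hvC
      obtain ⟨ha, ho⟩ := hall v hv hvC
      constructor
      · intro y hy hyC
        have hsub : Subsingleton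
            {y : G // IsConj v y ∧ y ∈ centralizer ((P : Subgroup G) : Set G)} :=
          (Finite.card_le_one_iff_subsingleton).1 (by rw [ha])
        have := @Subsingleton.elim _ hsub ⟨y, hy, hyC⟩ ⟨v, IsConj.refl v, hvC⟩
        exact congrArg Subtype.val this
      · exact relIndex_eq_one.1 ho
  · push Not at hall
    obtain ⟨v, hv, hvC, hnot⟩ := hall
    have hvv : v * v = 1 := by
      have := pow_orderOf_eq_one v
      rwa [hv, pow_two] at this
    have hv1 : v ≠ 1 := by
      intro h
      rw [h, orderOf_one] at hv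
      norm_num at hv
    have hav : Nat.card {y : G // IsConj v y ∧ y ∈ centralizer ((P : Subgroup G) : Set G)} = 2 := by
      rcases types v hv hvC with h | h | h
      · exact absurd h.2.2 (hnot h.1)
      · exact h.1
      · exact h.1
    -- a second conjugate `v'` of `v` in `C(P)`
    obtain ⟨v', hvv'c, hv'C, hv'ne⟩ : ∃ v' : G, IsConj v v' ∧
        v' ∈ centralizer ((P : Subgroup G) : Set G) ∧ v' ≠ v := by
      have hnt : Nontrivial {y : G // IsConj v y ∧ y ∈ centralizer ((P : Subgroup G) : Set G)} :=
        (Finite.one_lt_card_iff_nontrivial).1 (by rw [hav]; norm_num)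
      obtain ⟨y, hy⟩ := exists_ne (⟨v, IsConj.refl v, hvC⟩ :
        {y : G // IsConj v y ∧ y ∈ centralizer ((P : Subgroup G) : Set G)})
      refine ⟨y.1, y.2.1, y.2.2, ?_⟩
      intro h
      apply hy
      exact Subtype.ext h
    have hv'v' : v' * v' = 1 := mul_self_of_isConj hvv hvv'c
    have hcvv' : v * v' = v' * v := hcomm v hvC v' hv'C
    -- the third involution
    obtain ⟨w, hw⟩ : ∃ w : G, w = v * v' := ⟨_, rfl⟩
    have hwC : w ∈ centralizer ((P : Subgroup G) : Set G) := by
      rw [hw]; exact mul_mem hvC hv'C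
    have hww : w * w = 1 := by
      calc w * w = v * (v' * v) * v' := by rw [hw]; group
        _ = v * (v * v') * v' := by rw [← hcvv']
        _ = (v * v) * (v' * v') := by group
        _ = 1 := by rw [hvv, hv'v', one_mul]
    have hw1 : w ≠ 1 := by
      intro h
      apply hv'ne
      have h1 : v' = v⁻¹ := by
        rw [eq_inv_iff_mul_eq_one, ← hcvv', ← hw]
        exact h
      rw [h1, inv_eq_iff_mul_eq_one]
      exact hvv
    have hwv : w ≠ v := by
      intro h
      have h1 : v * v' = v * 1 := by rw [mul_one, ← hw]; exact h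
      have h2 : v' = 1 := mul_left_cancel h1
      rw [h2] at hvv'c
      exact hv1 (isConj_one_left.1 hvv'c)
    have hwv' : w ≠ v' := by
      intro h
      have h1 : v * v' = 1 * v' := by rw [one_mul, ← hw]; exact h
      exact hv1 (mul_right_cancel h1)
    have hwo : orderOf w = 2 := orderOf_eq_prime (by rw [pow_two]; exact hww) hw1
    have hnc : ¬ IsConj v w := by
      intro hc
      obtain ⟨x, y, hxy, huniv⟩ := Nat.card_eq_two_iff.1 hav
      have m1 : (⟨v, IsConj.refl v, hvC⟩ :
          {y : G // IsConj v y ∧ y ∈ centralizer ((P : Subgroup G) : Set G)}) ∈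
          ({x, y} : Set _) := by rw [huniv]; exact Set.mem_univ _
      have m2 : (⟨v', hvv'c, hv'C⟩ :
          {y : G // IsConj v y ∧ y ∈ centralizer ((P : Subgroup G) : Set G)}) ∈
          ({x, y} : Set _) := by rw [huniv]; exact Set.mem_univ _
      have m3 : (⟨w, hc, hwC⟩ :
          {y : G // IsConj v y ∧ y ∈ centralizer ((P : Subgroup G) : Set G)}) ∈
          ({x, y} : Set _) := by rw [huniv]; exact Set.mem_univ _
      simp only [Set.mem_insert_iff, Set.mem_singleton_iff] at m1 m2 m3
      have n1 : v' ≠ v := hv'ne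
      rcases m1 with m1 | m1 <;> rcases m2 with m2 | m2 <;> rcases m3 with m3 | m3
      all_goals
        first
        | exact n1 (congrArg Subtype.val (m2.trans m1.symm))
        | exact hwv (congrArg Subtype.val (m3.trans m1.symm))
        | exact hwv' (congrArg Subtype.val (m3.trans m2.symm))
    have haw : Nat.card {y : G // IsConj w y ∧ y ∈ centralizer ((P : Subgroup G) : Set G)} = 1 := by
      have h1 := card_conj_centralizer_add_succ_le P hvv hv1 hww hw1 hnc
      have h2 := card_sq_one_mul_le (by norm_num : (7 : ℕ) ≠ 2) P hcard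
      rw [hC] at h2
      have h3 : 1 ≤ Nat.card
          {y : G // IsConj w y ∧ y ∈ centralizer ((P : Subgroup G) : Set G)} := by
        have : Nonempty {y : G // IsConj w y ∧ y ∈ centralizer ((P : Subgroup G) : Set G)} :=
          ⟨⟨w, IsConj.refl w, hwC⟩⟩
        exact Nat.card_pos
      rw [hav] at h1
      omega
    have hcw : Nat.card (centralizer ({w} : Set G)) = 56 := by
      rcases types w hwo hwC with h | h | h
      · exact h.2.1
      · rw [haw] at h; omega
      · rw [haw] at h; omega
    -- `C(P) ≤ C(v)`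
    have hCv : centralizer ((P : Subgroup G) : Set G) ≤ centralizer ({v} : Set G) := by
      intro y hy
      rw [mem_centralizer_iff]
      intro h hh
      rw [Set.mem_singleton_iff] at hh
      subst hh
      exact hcomm h hvC y hy
    rcases types v hv hvC with h | h | h
    · exact absurd h.2.2 (hnot h.1)
    · -- type B
      obtain ⟨-, hcv, hov⟩ := h
      have hle : centralizer ({v} : Set G) ≤ normalizer ((P : Subgroup G) : Set G) :=
        relIndex_eq_one.1 hov
      have heq : centralizer ((P : Subgroup G) : Set G) = centralizer ({v} : Set G) :=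
        eq_of_le_of_card_ge hCv (by rw [hcv, hC])
      have h1 := card_conj_modEq_centralizer w v (r := 2) hv
      have h2 := card_centralizer_mul_card_conj w
      rw [hcw, hG] at h2
      have h3 : Nat.card {y : G // IsConj w y} = 36 := by omega
      have h4 : Nat.card {y : G // IsConj w y ∧ y ∈ centralizer ({v} : Set G)} = 1 := by
        rw [← heq]
        exact haw
      rw [h3, h4, Nat.ModEq] at h1
      norm_num at h1
    · -- type C
      obtain ⟨-, hcv, -⟩ := h
      have h1 := card_conj_modEq_centralizer v v (r := 2) hv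
      have h2 := card_centralizer_mul_card_conj v
      rw [hcv, hG] at h2
      have h3 : Nat.card {y : G // IsConj v y} = 9 := by omega
      have hPv : (P : Subgroup G) ≤ centralizer ({v} : Set G) := by
        have hPc : IsCyclic (P : Subgroup G) := isCyclic_of_prime_card hcard
        exact (le_centralizer_of_isCyclic (P : Subgroup G)).trans hCv
      have h4 := card_conj_mem_modEq P.isPGroup' (centralizer ({v} : Set G))
        (hPv.trans le_normalizer) v
      have h5 : Nat.card {y : G // IsConj v y ∧ y ∈ centralizer ({v} : Set G) ∧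
          y ∈ centralizer ((P : Subgroup G) : Set G)} = 2 := by
        rw [← hav]
        apply Nat.card_congr
        apply Equiv.subtypeEquivRight
        intro y
        constructor
        · rintro ⟨a, -, c⟩
          exact ⟨a, c⟩
        · rintro ⟨a, c⟩
          exact ⟨a, hCv c, c⟩
      let f : {y : G // IsConj v y ∧ y ∈ centralizer ({v} : Set G)} → {y : G // IsConj v y} :=
        fun y => ⟨y.1, y.2.1⟩
      have hfinj : Function.Injective f := by
        intro y y' hyy
        have h0 : (f y).1 = (f y').1 := congrArg Subtype.val hyy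
        exact Subtype.ext h0
      have h6 : Nat.card {y : G // IsConj v y ∧ y ∈ centralizer ({v} : Set G)} ≤ 9 := by
        rw [← h3]
        exact Nat.card_le_card_of_injective f hfinj
      rw [h3, Nat.ModEq] at h1
      rw [h5, Nat.ModEq] at h4
      have h7 : Nat.card {y : G // IsConj v y ∧ y ∈ centralizer ({v} : Set G)} = 9 := by omega
      have hbij : Function.Bijective f := by
        rw [Nat.bijective_iff_injective_and_card]
        exact ⟨hfinj, by rw [h7, h3]⟩
      have hforall : ∀ y : G, IsConj v y → y ∈ centralizer ({v} : Set G) := by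
        intro y hy
        obtain ⟨y', hyy'⟩ := hbij.2 ⟨y, hy⟩
        have h8 : (f y').1 = y := congrArg Subtype.val hyy'
        have h9 : y'.1 = y := h8
        rw [← h9]
        exact y'.2.2
      have htop := centralizer_eq_top_of_forall_conj hS hv1 hforall
      rw [htop, card_top, hG] at hcv
      norm_num at hcv

/-- the case of 36 Sylow 7-subgroups -/
theorem false_of_card_sylow_thirtysix [h7 : Fact (Nat.Prime 7)] (hS : IsSimpleGroup G)
    (hG : Nat.card G = 2016) (hn : Nat.card (Sylow 7 G) = 36) : False := by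
  obtain ⟨P⟩ : Nonempty (Sylow 7 G) := inferInstance
  have hcard : Nat.card (P : Subgroup G) = 7 := by
    have h1 := card_sylow_eq_pow (p := 7) (k := 1) (m := 288) (by rw [hG]; norm_num)
      (by norm_num) P
    rw [h1]
    norm_num
  have hN : Nat.card (normalizer ((P : Subgroup G) : Set G)) = 56 := by
    have h1 := card_normalizer_mul_card_sylow P
    rw [hn, hG] at h1
    omega
  have hrel := relIndex_centralizer_normalizer_dvd_pred (P : Subgroup G) hcard
  have hCN : centralizer ((P : Subgroup G) : Set G) ≤ normalizer ((P : Subgroup G) : Set G) :=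
    centralizer_le_normalizer _
  have h1 := card_mul_relIndex_of_le hCN
  rw [hN] at h1
  have h4 : (centralizer ((P : Subgroup G) : Set G)).relIndex
      (normalizer ((P : Subgroup G) : Set G)) = 1 ∨
      Nat.card (centralizer ((P : Subgroup G) : Set G)) = 28 := by
    revert hrel h1
    generalize (centralizer ((P : Subgroup G) : Set G)).relIndex
      (normalizer ((P : Subgroup G) : Set G)) = r
    intro hrel h1
    have h2 : r ≤ 6 := Nat.le_of_dvd (by norm_num) hrel
    have h3 : 0 < r := Nat.pos_of_dvd_of_pos hrel (by norm_num)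
    interval_cases r <;> omega
  rcases h4 with h | h
  · have hle := relIndex_eq_one.1 h
    have := hS
    rcases sylow_eq_bot_or_top_of_normalizer_le_centralizer P hle with hb | ht
    · rw [hb, card_bot] at hcard
      norm_num at hcard
    · rw [ht, card_top, hG] at hcard
      norm_num at hcard
  · exact false_of_card_centralizer_twentyeight hS hG hn P hcard hN h

/-- the case of 8 Sylow 7-subgroups -/
theorem false_of_card_sylow_eight [h7 : Fact (Nat.Prime 7)] (hS : IsSimpleGroup G)
    (hG : Nat.card G = 2016) (hn : Nat.card (Sylow 7 G) = 8) : False := by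
  have hn1 : Nat.card (Sylow 7 G) ≠ 1 := by rw [hn]; norm_num
  obtain ⟨P⟩ : Nonempty (Sylow 7 G) := inferInstance
  have hcard : Nat.card (P : Subgroup G) = 7 := by
    have h1 := card_sylow_eq_pow (p := 7) (k := 1) (m := 288) (by rw [hG]; norm_num)
      (by norm_num) P
    rw [h1]
    norm_num
  have hN : Nat.card (normalizer ((P : Subgroup G) : Set G)) = 252 := by
    have h1 := card_normalizer_mul_card_sylow P
    rw [hn, hG] at h1
    omega
  have hrel := relIndex_centralizer_normalizer_dvd_pred (P : Subgroup G) hcard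
  have hCN : centralizer ((P : Subgroup G) : Set G) ≤ normalizer ((P : Subgroup G) : Set G) :=
    centralizer_le_normalizer _
  have h1 := card_mul_relIndex_of_le hCN
  rw [hN] at h1
  have h2 : 2 ∣ Nat.card (centralizer ((P : Subgroup G) : Set G)) := by
    revert hrel h1
    generalize (centralizer ((P : Subgroup G) : Set G)).relIndex
      (normalizer ((P : Subgroup G) : Set G)) = r
    intro hrel h1
    have h2 : r ≤ 6 := Nat.le_of_dvd (by norm_num) hrel
    have h3 : 0 < r := Nat.pos_of_dvd_of_pos hrel (by norm_num)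
    interval_cases r <;> omega
  have h2F : Fact (Nat.Prime 2) := ⟨Nat.prime_two⟩
  obtain ⟨u', hu'⟩ := exists_prime_orderOf_dvd_card'
    (G := centralizer ((P : Subgroup G) : Set G)) 2 h2
  have hu : orderOf (u' : G) = 2 := by rw [Subgroup.orderOf_coe]; exact hu'
  obtain ⟨f1, f2, f3, f4⟩ := card_fixedBy_involution_gen hS hn1 P hu u'.2
  rw [hn] at f2 f3 f4
  omega

end Cfsg.Agent.Lib.Helper45_Order2016
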