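import Mathlib
import Cfsg.Agent.Lib.Helper88_OrthNDDefs

/-!
# The arithmetic right-hand sides `R5974`, `R5988`, `R5990` of helper88's ORTHND packages (helper45)

Verbatim copies of the definitions in `pending/helper88/ORTHND_packages.lean.txt`, so that the
arithmetic packages `A59xx_mp / A59xx_mpr` of different seats talk about the same constants.
-/

set_option autoImplicit false

namespace Cfsg.Agent.Lib.Helper45_OrthND_ADefs

/-- the odd-`r` part of the right-hand side of S5974 -/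
def R5974 (i c d m : ℕ) : Prop :=
  (Odd i ∧ c ≤ m ∧ m % c ≤ (2 * d) % c) ∨
  (Even i ∧
    (((2 * d) % c = 0 ∧ (Odd ((2 * d) / i) ∨ (m % c = 0 ∧ Even (m / i)))) ∨
     (i ≤ m ∧ ((m % c < (2 * d) % c ∧ 0 < m % c) ∨
               ((2 * d) % c = m % c ∧ 0 < m % c ∧ Even ((2 * d + m - 2 * ((2 * d) % c)) / i)) ∨
               (0 < (2 * d) % c ∧ m % c = 0 ∧ Even (m / i))))))

/-- the odd-`r` part of the right-hand side of S5988 -/
def R5988 (i c d m : ℕ) : Prop :=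
  (Odd i ∧ c ≤ m ∧ 0 < m % c ∧ m % c < (2 * d) % c) ∨
  (Even i ∧
    (((2 * d) % c = 0 ∧ (Odd ((2 * d) / i) ∨ (m % c = 0 ∧ Odd (m / i)))) ∨
     (i ≤ m ∧ ((0 < m % c ∧ m % c < (2 * d) % c) ∨
               (0 < m % c ∧ m % c = (2 * d) % c ∧ Odd ((2 * d + m - 2 * ((2 * d) % c)) / i)) ∨
               (m % c = 0 ∧ 0 < (2 * d) % c ∧ Odd (m / i))))))

/-- the odd-`r` part of the right-hand side of S5990 -/
def R5990 (i c d m : ℕ) : Prop :=
  (Odd i ∧ ((2 * d) % c = 0 ∨ (c ≤ m ∧ 0 < m % c ∧ m % c ≤ (2 * d) % c))) ∨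
  (Even i ∧
    (((2 * d) % c = 0 ∧ (Even ((2 * d) / i) ∨ (m % c = 0 ∧ Odd (m / i)))) ∨
     (0 < (2 * d) % c ∧ i ≤ m ∧ ((0 < m % c ∧ m % c < (2 * d) % c) ∨ (m % c = 0 ∧ Odd (m / i)) ∨
        (m % c = (2 * d) % c ∧ Even ((2 * d + m - 2 * ((2 * d) % c)) / i))))))

end Cfsg.Agent.Lib.Helper45_OrthND_ADefs
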