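import Mathlib
import Cfsg.Agent.Lib.Helper88_OrthNDDefs
import Cfsg.Agent.Lib.Helper45_OrthND_ADefs

/-!
# ORTHND package `A5974_mp` (helper45): the model implies the arithmetic condition of S5974
-/

set_option autoImplicit false

namespace Cfsg.Agent.Lib.Helper45_OrthND_A5974_mp

open Cfsg.Agent.Lib.Helper88_OrthNDDefs Cfsg.Agent.Lib.Helper45_OrthND_ADefs

theorem A5974_mp (i c d m : ℕ) (hi : 0 < i) (hc : c = if Even i then i else 2 * i)
    (hd : 4 ≤ d) (hm : 2 ≤ m) (hme : Even m) (hmd : m < d) (hcm : c ≤ m)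
    (h : ∀ a, Valid i c (2 * d) True a → Cfsg.Agent.Lib.Helper88_OrthNDDefs.Fix i c (2 * d) m True True a) :
    R5974 i c d m := by
  have hc0 : 0 < c := by rw [hc]; split_ifs <;> omega
  have hD : 2 * d = c * (2 * d / c) + 2 * d % c := (Nat.div_add_mod _ _).symm
  have hKc : 2 * d % c < c := Nat.mod_lt _ hc0
  have hmM : m = c * (m / c) + m % c := (Nat.div_add_mod _ _).symm
  have hℓc : m % c < c := Nat.mod_lt _ hc0
  have hA1 : 1 ≤ 2 * d / c := (Nat.le_div_iff_mul_le hc0).2 (by omega)
  -- uniqueness of quotient and remainder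
  have huniq : ∀ a' f : ℕ, m = c * a' + f → f < c → a' = m / c ∧ f = m % c := by
    intro a' f hmf hf
    constructor
    · rw [hmf, Nat.mul_add_div hc0, Nat.div_eq_of_lt hf, add_zero]
    · rw [hmf, Nat.mul_add_mod, Nat.mod_eq_of_lt hf]
  rcases Nat.even_or_odd i with hie | hio
  · -- `i` even, `c = i`
    rw [if_pos hie] at hc
    subst hc
    have hno : ¬ Odd c := Nat.not_odd_iff_even.2 hie
    have hSP : ∀ k, SignPlus c k ↔ k % 2 = 0 := fun k => by
      unfold SignPlus; rw [Nat.even_iff]; exact or_iff_right hno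
    unfold R5974
    right
    refine ⟨hie, ?_⟩
    simp only [Nat.even_iff, Nat.odd_iff]
    unfold Valid Cfsg.Agent.Lib.Helper88_OrthNDDefs.Fix at h
    simp only [hSP, true_iff] at h
    generalize hA₀ : 2 * d / c = A₀ at *
    generalize hK : 2 * d % c = K at *
    generalize hM : m / c = M at *
    generalize hℓ : m % c = ℓ at *
    have hsum : K = ℓ → (2 * d + m - 2 * K) / c = A₀ + M := by
      intro hKℓ
      have : 2 * d + m - 2 * K = c * (A₀ + M) := by rw [Nat.mul_add]; omega
      rw [this, Nat.mul_div_cancel_left _ hi]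
    by_cases hK0 : K = 0
    · left
      refine ⟨hK0, ?_⟩
      by_cases hAo : A₀ % 2 = 1
      · left; exact hAo
      · right
        obtain ⟨a', f, -, hmf, hle, hf0, -⟩ := h A₀ ⟨hA1, by omega, fun _ => by omega⟩
        have hf : f = 0 := by omega
        obtain ⟨rfl, rfl⟩ := huniq a' f hmf (by omega)
        exact ⟨hf, hf0 hf⟩
    · right
      refine ⟨hcm, ?_⟩
      obtain ⟨a', f, -, hmf, hle, hf0, hfD⟩ := h A₀ ⟨hA1, by omega, fun _ => by omega⟩
      have hf : f ≤ K := by omega
      obtain ⟨rfl, rfl⟩ := huniq a' f hmf (by omega)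
      by_cases h1 : f = 0
      · right; right
        exact ⟨by omega, h1, hf0 h1⟩
      · by_cases h2 : f = K
        · right; left
          refine ⟨h2.symm, by omega, ?_⟩
          rw [hsum h2.symm]
          have := hfD (by omega)
          omega
        · left
          omega
  · -- `i` odd, `c = 2 i`
    unfold R5974
    left
    refine ⟨hio, hcm, ?_⟩
    have hSP : ∀ k, SignPlus i k := fun k => Or.inl hio
    obtain ⟨a', f, -, hmf, hle, -, -⟩ := h (2 * d / c)
      ⟨hA1, by omega, fun _ => ⟨fun _ => hSP _, fun _ => trivial⟩⟩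
    have hf : f ≤ 2 * d % c := by omega
    obtain ⟨-, rfl⟩ := huniq a' f hmf (by omega)
    exact hf

end Cfsg.Agent.Lib.Helper45_OrthND_A5974_mp
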