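import Mathlib
import Cfsg.Agent.Lib.Helper88_OrthNDDefs
import Cfsg.Agent.Lib.Helper45_OrthND_ADefs

/-!
# ORTHND package `A5974_mpr` (helper45): the arithmetic condition of S5974 implies the model
-/

set_option autoImplicit false

namespace Cfsg.Agent.Lib.Helper45_OrthND_A5974_mpr

open Cfsg.Agent.Lib.Helper88_OrthNDDefs Cfsg.Agent.Lib.Helper45_OrthND_ADefs

theorem A5974_mpr (i c d m : ℕ) (hi : 0 < i) (hc : c = if Even i then i else 2 * i)
    (hd : 4 ≤ d) (hm : 2 ≤ m) (hme : Even m) (hmd : m < d) (h : R5974 i c d m) :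
    ∀ a, Valid i c (2 * d) True a → Fix i c (2 * d) m True True a := by
  intro a hV
  obtain ⟨ha1, haD, haS⟩ := hV
  have hc0 : 0 < c := by rw [hc]; split_ifs <;> omega
  have hD : 2 * d = c * (2 * d / c) + 2 * d % c := (Nat.div_add_mod _ _).symm
  have hKc : 2 * d % c < c := Nat.mod_lt _ hc0
  have hmM : m = c * (m / c) + m % c := (Nat.div_add_mod _ _).symm
  have hℓc : m % c < c := Nat.mod_lt _ hc0
  have haA : a ≤ 2 * d / c := (Nat.le_div_iff_mul_le hc0).2 (by rw [mul_comm]; exact haD)
  have haA' : c * a ≤ c * (2 * d / c) := Nat.mul_le_mul_left c haA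
  rcases Nat.even_or_odd i with hie | hio
  · -- `i` even, `c = i`
    rw [if_pos hie] at hc
    subst hc
    have hno : ¬ Odd c := Nat.not_odd_iff_even.2 hie
    have hSP : ∀ k, SignPlus c k ↔ k % 2 = 0 := fun k => by
      unfold SignPlus; rw [Nat.even_iff]; exact or_iff_right hno
    unfold R5974 at h
    rcases h with ⟨ho, -⟩ | ⟨-, h⟩
    · exact absurd ho hno
    simp only [Nat.even_iff, Nat.odd_iff] at h
    simp only [hSP, true_iff] at haS
    unfold Cfsg.Agent.Lib.Helper88_OrthNDDefs.Fix
    simp only [hSP, true_iff]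
    generalize hA₀ : 2 * d / c = A₀ at *
    generalize hK : 2 * d % c = K at *
    generalize hM : m / c = M at *
    generalize hℓ : m % c = ℓ at *
    have hsum : K = ℓ → (2 * d + m - 2 * K) / c = A₀ + M := by
      intro hKℓ
      have : 2 * d + m - 2 * K = c * (A₀ + M) := by rw [Nat.mul_add]; omega
      rw [this, Nat.mul_div_cancel_left _ hi]
    by_cases h1 : a ≤ M
    · have h1' : c * a ≤ c * M := Nat.mul_le_mul_left c h1
      by_cases h2 : a = M ∧ ℓ = 0 ∧ a % 2 = 1
      · obtain ⟨rfl, hℓ0, hodd⟩ := h2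
        obtain ⟨b, rfl⟩ : ∃ b, a = b + 1 := ⟨a - 1, by omega⟩
        have hb : c * (b + 1) = c * b + c := mul_add_one c b
        refine ⟨b, c, by omega, by omega, ?_, by omega, ?_⟩
        · have : c * 1 ≤ c * (b + 1) := Nat.mul_le_mul_left c (by omega)
          omega
        · have : c * 1 ≤ c * (b + 1) := Nat.mul_le_mul_left c (by omega)
          omega
      · refine ⟨a, m - c * a, le_rfl, by omega, by omega, ?_, by omega⟩
        intro hf
        have hlt : a < M → c * a + c ≤ c * M := fun hlt => by
          have := Nat.mul_le_mul_left c hlt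
          rwa [Nat.mul_succ] at this
        by_cases h3 : a < M
        · have := hlt h3; omega
        · have : a = M := by omega
          subst this
          omega
    · have h1' : c * M + c ≤ c * a := by
        have := Nat.mul_le_mul_left c (show M + 1 ≤ a by omega)
        rwa [Nat.mul_succ] at this
      by_cases h3 : a < A₀
      · have h3' : c * a + c ≤ c * A₀ := by
          have := Nat.mul_le_mul_left c h3
          rwa [Nat.mul_succ] at this
        by_cases h4 : ℓ = 0 ∧ M % 2 = 1
        · obtain ⟨hℓ0, hModd⟩ := h4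
          obtain ⟨b, rfl⟩ : ∃ b, M = b + 1 := ⟨M - 1, by omega⟩
          have hb : c * (b + 1) = c * b + c := mul_add_one c b
          refine ⟨b, c, by omega, by omega, by omega, by omega, ?_⟩
          intro heq
          have hK0 : K = 0 := by omega
          have hcancel : a + 1 = A₀ := by
            apply Nat.eq_of_mul_eq_mul_left hi
            rw [Nat.mul_succ]; omega
          rcases h with ⟨-, h | h⟩ | ⟨-, h | h | h⟩ <;> omega
        · refine ⟨M, ℓ, by omega, by omega, by omega, by omega, by omega⟩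
      · have haeq : a = A₀ := by omega
        subst haeq
        refine ⟨M, ℓ, by omega, by omega, ?_, ?_, ?_⟩
        · rcases h with ⟨h0, h | h⟩ | ⟨-, h | h | h⟩ <;> omega
        · rcases h with ⟨h0, h | h⟩ | ⟨-, h | h | h⟩ <;> omega
        · intro heq
          rcases h with ⟨h0, h | h⟩ | ⟨-, h | h | h⟩
          · omega
          · omega
          · omega
          · have := hsum h.1; rw [this] at h; omega
          · omega
  · -- `i` odd, `c = 2 i`
    have hne : ¬ Even i := Nat.not_even_iff_odd.2 hio
    have hSP : ∀ k, SignPlus i k := fun k => Or.inl hio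
    unfold R5974 at h
    rcases h with ⟨-, hcm, hℓK⟩ | ⟨he, -⟩
    swap
    · exact absurd he hne
    unfold Cfsg.Agent.Lib.Helper88_OrthNDDefs.Fix
    by_cases h1 : a ≤ m / c
    · have h1' : c * a ≤ c * (m / c) := Nat.mul_le_mul_left c h1
      refine ⟨a, m - c * a, le_rfl, by omega, by omega, ?_, ?_⟩
      · intro _; exact ⟨fun _ => hSP _, fun _ => trivial⟩
      · intro _; exact ⟨fun _ => ⟨fun _ => hSP _, fun _ => trivial⟩, fun _ => ⟨fun _ => hSP _, fun _ => trivial⟩⟩
    · refine ⟨m / c, m % c, by omega, hmM, by omega, ?_, ?_⟩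
      · intro _; exact ⟨fun _ => hSP _, fun _ => trivial⟩
      · intro _; exact ⟨fun _ => ⟨fun _ => hSP _, fun _ => trivial⟩, fun _ => ⟨fun _ => hSP _, fun _ => trivial⟩⟩

end Cfsg.Agent.Lib.Helper45_OrthND_A5974_mpr
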