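import Mathlib
import Cfsg.Agent.Lib.Helper88_OrthNDDefs
import Cfsg.Agent.Lib.Helper99_SpAtoms
import Cfsg.Agent.Lib.Helper99_SpOrth
import Cfsg.Agent.Lib.Helper40_OConj

/-!
# ORTHND package `R4` (helper45): invariant nondegenerate subspaces of `[V, T]` of every dimension
`atomDim * a'`

On `[V, T]` the twisted form is alternating, nondegenerate and invariant, so `[V, T]` is an
orthogonal sum of atoms (`Helper99_SpAtoms.exists_pieces`; there are no planes since `T` has no fixed
vectors on `[V, T]`). The sum of `a'` atoms is nondegenerate for the twisted form, hence for the polar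
form since `T - T⁻¹` is bijective on invariant subspaces of `[V, T]`.
-/

set_option autoImplicit false

namespace Cfsg.Agent.Lib.Helper45_OrthND_R4

open Module Cfsg.Agent.Lib.Helper40_SpBasic Cfsg.Agent.Lib.Helper88_OrthNDDefs
  Cfsg.Agent.Lib.Helper99_SpAtoms Cfsg.Agent.Lib.Helper99_SpOrth Cfsg.Agent.Lib.Helper40_OConj
  Cfsg.Agent.Lib.Helper40_OConj.OData Cfsg.Agent.Lib.Helper40_PrimeOrderClasses

universe u

theorem sum_map_const' {α : Type*} (f : α → ℕ) (k : ℕ) (l : List α) (h : ∀ P ∈ l, f P = k) :
    (l.map f).sum = k * l.length := by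
  induction l with
  | nil => simp
  | cons P l ih =>
    rw [List.map_cons, List.sum_cons, h P List.mem_cons_self,
      ih (fun Q hQ => h Q (List.mem_cons_of_mem _ hQ)), List.length_cons]
    ring

variable {F : Type u} [Field F] [Fintype F] (p : ℕ) [Fact p.Prime] [CharP F p]
  {V : Type u} [AddCommGroup V] [Module F V] [FiniteDimensional F V]

/-- R4: invariant nondegenerate subspaces of `[V, T]` of every admissible dimension -/
theorem R4 (Q : QuadraticForm F V) (hQ : (QuadraticMap.polarBilin Q).Nondegenerate)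
    (T : Module.End F V) (hT : ∀ v, Q (T v) = Q v) (r : ℕ) (hr : r.Prime) (hr2 : r ≠ 2)
    (hrp : r ≠ p) (hTr : T ^ r = 1) (a' : ℕ)
    (ha' : atomDim F r * a' ≤ finrank F (LinearMap.range (T - 1))) :
    ∃ U : Submodule F V, U ≤ LinearMap.range (T - 1) ∧ Inv T U ∧
      NDOn (QuadraticMap.polarBilin Q) U ∧ finrank F U = atomDim F r * a' := by
  classical
  have hp : p.Prime := Fact.out
  have hrF : (r : F) ≠ 0 := by
    rw [Ne, CharP.cast_eq_zero_iff F p r]
    intro hdvd
    exact hrp ((Nat.prime_dvd_prime_iff_eq hp hr).1 hdvd).symm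
  have h : OData Q T r := ⟨hT, hTr, hr.odd_of_ne_two hr2, hrF⟩
  have hiso' := h.isoData.restrict (inv_comm T)
  have hB' := nondegenerate_restrict h.isoData (h.ndOn_tw hQ)
  obtain ⟨L, hL, hpw, hsum⟩ :=
    exists_pieces (p := p) hr hr2 hrp (finrank F (comm T)) _ _ rfl hiso' hB'
  have hskew := hiso'.skew
  have hcpos : 0 < atomDim F r :=
    atomDim_pos (exists_cyclotomic_factors (F := F) p r hr hrp).1
  -- all pieces are atoms
  have hall : ∀ P ∈ L, P.2 = true := by
    intro P hP
    by_contra hne
    have hf : P.2 = false := by simpa using hne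
    obtain ⟨h2, hle⟩ := (hL P hP).2.2.2 hf
    have hbot : P.1 = ⊥ := by
      rw [eq_bot_iff]
      intro w hw
      have h3 := hle hw
      rw [Module.End.mem_eigenspace_iff, one_smul] at h3
      rw [Submodule.mem_bot]
      apply Subtype.ext
      exact h.eq_zero_of_fixed _ w.2 (congrArg Subtype.val h3)
    rw [hbot, finrank_bot] at h2
    omega
  have hlen : atomDim F r * L.length = finrank F (comm T) := by
    rw [← hsum, sum_map_const' _ (atomDim F r) _
      (fun P hP => ((hL P hP).2.2.1 (hall P hP)).1)]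
  have ha'L : a' ≤ L.length := by
    have h1 : atomDim F r * a' ≤ atomDim F r * L.length := by rw [hlen]; exact ha'
    exact Nat.le_of_mul_le_mul_left h1 hcpos
  have hsub : (L.take a').Sublist L := List.take_sublist a' L
  have hnd : NDOn ((tw Q T r).restrict (comm T)) (lsup (L.take a')) :=
    ndOn_lsup hskew _ (fun P hP => (hL P (hsub.subset hP)).2.1) (hpw.sublist hsub)
  have hinv : Inv (T.restrict (inv_comm T)) (lsup (L.take a')) :=
    inv_lsup _ (fun P hP => (hL P (hsub.subset hP)).1)
  have hfin : finrank F (lsup (L.take a')) = atomDim F r * a' := by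
    rw [finrank_lsup hskew _ (fun P hP => (hL P (hsub.subset hP)).2.1) (hpw.sublist hsub),
      sum_map_const' _ (atomDim F r) _
        (fun P hP => ((hL P (hsub.subset hP)).2.2.1 (hall P (hsub.subset hP))).1),
      List.length_take, min_eq_left ha'L]
  set W' := lsup (L.take a') with hW'
  set U : Submodule F V := W'.map (comm T).subtype with hU
  have hUc : U ≤ comm T := by
    rintro _ ⟨w, -, rfl⟩
    exact w.2
  have hUinv : Inv T U := by
    rintro _ ⟨w, hw, rfl⟩
    exact ⟨(T.restrict (inv_comm T)) w, hinv w hw, rfl⟩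
  refine ⟨U, hUc, hUinv, ?_, ?_⟩
  · have hdelU : ∀ x ∈ U, del T r x ∈ U := by
      intro x hx
      show (T - T ^ (r - 1)) x ∈ U
      rw [LinearMap.sub_apply]
      exact U.sub_mem (hUinv x hx) (hUinv.pow_mem (r - 1) hx)
    have hinj : Function.Injective ((del T r).restrict hdelU) := by
      intro x y hxy
      apply Subtype.ext
      have h1 : del T r ((x : V) - (y : V)) = 0 := by
        rw [map_sub, sub_eq_zero]
        exact congrArg Subtype.val hxy
      have h3 := h.del_injOn _ (hUc (U.sub_mem x.2 y.2)) h1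
      exact sub_eq_zero.1 h3
    have hsurj : Function.Surjective ((del T r).restrict hdelU) :=
      LinearMap.surjective_of_injective hinj
    intro u hu huv
    obtain ⟨x', hx'⟩ := hsurj ⟨u, hu⟩
    have hx'' : del T r (x' : V) = u := congrArg Subtype.val hx'
    obtain ⟨w₁, hw₁, hw₁x⟩ := x'.2
    have hw0 : w₁ = 0 := by
      apply hnd w₁ hw₁
      intro w₂ hw₂
      show QuadraticMap.polarBilin Q (del T r (w₁ : V)) (w₂ : V) = 0
      have h4 : ((comm T).subtype w₁ : V) = (w₁ : V) := rfl
      rw [← h4, hw₁x, hx'']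
      exact huv _ ⟨w₂, hw₂, rfl⟩
    rw [← hx'', ← hw₁x, hw0, map_zero, map_zero]
  · rw [← hfin]
    exact (Submodule.equivMapOfInjective _ (Submodule.injective_subtype _) W').finrank_eq.symm

end Cfsg.Agent.Lib.Helper45_OrthND_R4
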