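import Cfsg.Agent.Lib.Helper50_PUDefs

/-!
# PU market, package COMMQLJ (helper45)

Three subgroups lemma: `⁅Q, ⟨J^G⟩⁆ ≤ Q₀`.
-/

set_option autoImplicit false

namespace Cfsg.Agent.Lib.Helper45_PU_COMMQLJ

open scoped commutatorElement
open Cfsg.Agent.Lib.Helper50_PUDefs Cfsg.Agent.Lib.Helper51_Offender Cfsg.Agent.Lib.Helper72_AbelianJ

section Main

variable {G : Type*} [Group G] [Finite G] {p : ℕ} [Fact p.Prime] {S : Sylow p G}

local notation "Q" => Cfsg.pCore p G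
local notation "V" => VS (S : Subgroup G)
local notation "Z" => ZS (S : Subgroup G)
local notation "J" => JS (S : Subgroup G)
local notation "Y" => YS (S : Subgroup G)
local notation "B" => BS (S : Subgroup G)
local notation "ZD" => YS (Cfsg.pCore p G)
local notation "LJ" => Subgroup.normalClosure ((JS (S : Subgroup G) : Subgroup G) : Set G)
local notation "Q₀" => Cfsg.pCore p G ⊓ Subgroup.centralizer ((YS (S : Subgroup G) : Subgroup G) : Set G)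

-- PKG COMMQLJ
theorem comm_q_lj (h : MainCase p S) (hvb : VBasic p S) (hYZD : Y ≤ ZD) (hVZD : V ≤ ZD)
    (hc : ⁅ZD, LJ⁆ ≤ V)
    (hNeq : ⁅Y, (S : Subgroup G)⁆ = ⁅Y ⊔ V, Q⁆) (hN : (⁅Y, (S : Subgroup G)⁆).Normal)
    (hNY : ⁅Y, (S : Subgroup G)⁆ ≤ Y)
    (hQ₀ : Q₀ = Q ⊓ Subgroup.centralizer ((Y ⊔ V : Subgroup G) : Set G)) :
    ⁅Q, LJ⁆ ≤ Q₀ := by
  haveI hQn : (Q).Normal := hvb.core_normal
  have hRZD : Y ⊔ V ≤ ZD := sup_le hYZD hVZD
  -- (a) `⁅⁅LJ, R⁆, Q⁆ = ⊥`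
  have ha : ⁅⁅LJ, Y ⊔ V⁆, Q⁆ = ⊥ := by
    have h1 : ⁅LJ, Y ⊔ V⁆ ≤ V := by
      calc ⁅LJ, Y ⊔ V⁆ ≤ ⁅LJ, ZD⁆ := Subgroup.commutator_mono le_rfl hRZD
        _ = ⁅ZD, LJ⁆ := Subgroup.commutator_comm _ _
        _ ≤ V := hc
    have h2 : ⁅V, Q⁆ = ⊥ := by
      rw [Subgroup.commutator_comm, Subgroup.commutator_eq_bot_iff_le_centralizer]
      exact hvb.cent
    exact le_bot_iff.mp (h2 ▸ Subgroup.commutator_mono h1 le_rfl)
  -- (b) `⁅⁅R, Q⁆, LJ⁆ = ⊥`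
  have hb : ⁅⁅Y ⊔ V, Q⁆, LJ⁆ = ⊥ := by
    rw [← hNeq, Subgroup.commutator_comm, Subgroup.commutator_eq_bot_iff_le_centralizer]
    haveI := hN
    apply Subgroup.normalClosure_le_normal
    intro j hj
    rw [SetLike.mem_coe, Subgroup.mem_centralizer_iff]
    intro n hn
    have hnY : n ∈ Y := hNY hn
    have hnC : n ∈ Subgroup.centralizer ((Cfsg.thompsonSubgroupAOf (S : Subgroup G) : Subgroup G) : Set G) :=
      hnY.2
    exact (Subgroup.mem_centralizer_iff.mp hnC j hj).symm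
  have h3 : ⁅⁅Q, LJ⁆, Y ⊔ V⁆ = ⊥ := Subgroup.commutator_commutator_eq_bot_of_rotate ha hb
  rw [hQ₀]
  refine le_inf (Subgroup.commutator_le_left _ _) ?_
  exact Subgroup.commutator_eq_bot_iff_le_centralizer.mp h3

end Main

end Cfsg.Agent.Lib.Helper45_PU_COMMQLJ
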