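import Cfsg.Agent.Lib.Helper50_PUDefs

/-!
# PU market, package JAPI3 (helper45)

API for the abelian-version Thompson subgroup `J(T)` of a subgroup `T` of a finite group, part 3:
`N(T) ≤ N(J(T))`, `N(T) ≤ N(Z(J(T)))`, and `J(U) = J(T)` for `J(T) ≤ U ≤ T`.
-/

set_option autoImplicit false

namespace Cfsg.Agent.Lib.Helper45_PU_JAPI3

open scoped commutatorElement
open Cfsg.Agent.Lib.Helper50_PUDefs Cfsg.Agent.Lib.Helper51_Offender Cfsg.Agent.Lib.Helper72_AbelianJ

universe u

variable {G : Type u} [Group G] [Finite G] {p : ℕ} [Fact p.Prime]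

/-- `J(T)` is generated by the abelian subgroups of `T` of largest order (everything inside `G`). -/
theorem jA_eq_sSup (T : Subgroup G) :
    Cfsg.thompsonSubgroupAOf T = sSup {A : Subgroup G | IsMaxAbIn T A} := by
  apply le_antisymm
  · unfold Cfsg.thompsonSubgroupAOf Cfsg.thompsonSubgroupA
    rw [Subgroup.map_le_iff_le_comap]
    apply sSup_le
    intro A' hA'
    rw [← Subgroup.map_le_iff_le_comap]
    exact le_sSup (isMaxAbIn_map hA')
  · apply sSup_le
    intro A hA
    obtain ⟨hAT, hAc, hAm⟩ := hA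
    have hmem : A.subgroupOf T ∈ Cfsg.maxAbelianSubgroups T := by
      refine ⟨?_, ?_⟩
      · haveI := hAc
        infer_instance
      · intro B hB
        have h1 : Nat.card (B.map T.subtype) = Nat.card B :=
          Subgroup.card_map_of_injective T.subtype_injective
        have h2 : Nat.card (A.subgroupOf T) = Nat.card A :=
          Nat.card_congr (Subgroup.subgroupOfEquivOfLe hAT).toEquiv
        have h3 := hAm (B.map T.subtype) (Subgroup.map_subtype_le _)
          (Subgroup.map_isMulCommutative B T.subtype)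
        omega
    have h4 : (A.subgroupOf T).map T.subtype = A := by
      rw [Subgroup.subgroupOf_map_subtype, inf_eq_left.mpr hAT]
    unfold Cfsg.thompsonSubgroupAOf Cfsg.thompsonSubgroupA
    rw [← h4]
    exact Subgroup.map_mono (le_sSup hmem)

/-- conjugation by an element of `N(T)` maps `T` onto `T` -/
theorem map_conj_eq_of_mem_normalizer {T : Subgroup G} {n : G}
    (hn : n ∈ Subgroup.normalizer (T : Set G)) :
    T.map (MulAut.conj n).toMonoidHom = T := by
  ext x
  constructor
  · rintro ⟨y, hy, rfl⟩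
    exact (Subgroup.mem_normalizer_iff.mp hn y).mp hy
  · intro hx
    refine ⟨n⁻¹ * x * n, ?_, ?_⟩
    · have := (Subgroup.mem_normalizer_iff.mp hn (n⁻¹ * x * n)).mpr (by
        have : n * (n⁻¹ * x * n) * n⁻¹ = x := by group
        rw [this]; exact hx)
      exact this
    · show n * (n⁻¹ * x * n) * n⁻¹ = x
      group

/-- conjugation by an element of `N(T)` permutes the abelian subgroups of `T` of largest order -/
theorem isMaxAbIn_conj {T A : Subgroup G} {n : G} (hn : n ∈ Subgroup.normalizer (T : Set G))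
    (hA : IsMaxAbIn T A) : IsMaxAbIn T (A.map (MulAut.conj n).toMonoidHom) := by
  obtain ⟨hAT, hAc, hAm⟩ := hA
  refine ⟨?_, ?_, ?_⟩
  · calc A.map (MulAut.conj n).toMonoidHom ≤ T.map (MulAut.conj n).toMonoidHom :=
          Subgroup.map_mono hAT
      _ = T := map_conj_eq_of_mem_normalizer hn
  · haveI := hAc
    exact Subgroup.map_isMulCommutative A _
  · intro D hD hDc
    rw [Subgroup.card_map_of_injective (MulAut.conj n).injective]
    exact hAm D hD hDc

/-- if a subgroup `N` maps `K` into itself by conjugation, then `N ≤ N(K)` -/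
theorem le_normalizer_of_map_conj_le {N K : Subgroup G}
    (h : ∀ n ∈ N, K.map (MulAut.conj n).toMonoidHom ≤ K) :
    N ≤ Subgroup.normalizer (K : Set G) := by
  intro n hn
  rw [Subgroup.mem_normalizer_iff]
  intro x
  constructor
  · intro hx
    exact h n hn ⟨x, hx, rfl⟩
  · intro hx
    have := h n⁻¹ (N.inv_mem hn) ⟨n * x * n⁻¹, hx, rfl⟩
    have h2 : (MulAut.conj n⁻¹).toMonoidHom (n * x * n⁻¹) = x := by
      show n⁻¹ * (n * x * n⁻¹) * n⁻¹⁻¹ = x
      group
    rwa [h2] at this

theorem normalizer_le_normalizer_jA (T : Subgroup G) :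
    Subgroup.normalizer (T : Set G) ≤ Subgroup.normalizer (Cfsg.thompsonSubgroupAOf T : Set G) := by
  apply le_normalizer_of_map_conj_le
  intro n hn
  rw [jA_eq_sSup, Subgroup.map_le_iff_le_comap]
  apply sSup_le
  intro A hA
  rw [← Subgroup.map_le_iff_le_comap]
  exact le_sSup (isMaxAbIn_conj hn hA)

/-- `N(K) ≤ N(C(K))` -/
theorem normalizer_le_normalizer_centralizer (K : Subgroup G) :
    Subgroup.normalizer (K : Set G) ≤
      Subgroup.normalizer ((Subgroup.centralizer (K : Set G) : Subgroup G) : Set G) := by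
  apply le_normalizer_of_map_conj_le
  intro n hn
  rintro _ ⟨c, hc, rfl⟩
  rw [Subgroup.mem_centralizer_iff]
  intro j hj
  have hj' : n⁻¹ * j * n ∈ K := by
    have := (Subgroup.mem_normalizer_iff.mp (Subgroup.inv_mem _ hn) j).mp hj
    simpa using this
  have h1 := Subgroup.mem_centralizer_iff.mp hc (n⁻¹ * j * n) hj'
  show j * (n * c * n⁻¹) = n * c * n⁻¹ * j
  have h2 : j * (n * c * n⁻¹) = n * ((n⁻¹ * j * n) * c) * n⁻¹ := by group
  have h3 : n * c * n⁻¹ * j = n * (c * (n⁻¹ * j * n)) * n⁻¹ := by group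
  rw [h2, h3, h1]

theorem normalizer_le_normalizer_zjA (T : Subgroup G) :
    Subgroup.normalizer (T : Set G) ≤ Subgroup.normalizer (Cfsg.centerThompsonAOf T : Set G) := by
  intro n hn
  have h1 := normalizer_le_normalizer_jA T hn
  have h2 := normalizer_le_normalizer_centralizer _ h1
  rw [Subgroup.mem_normalizer_iff] at h1 h2 ⊢
  intro x
  unfold Cfsg.centerThompsonAOf
  rw [Subgroup.mem_inf, Subgroup.mem_inf, h1 x, h2 x]

theorem jA_eq_of_le (T U : Subgroup G) (hJU : Cfsg.thompsonSubgroupAOf T ≤ U) (hUT : U ≤ T) :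
    Cfsg.thompsonSubgroupAOf U = Cfsg.thompsonSubgroupAOf T := by
  obtain ⟨A₀', hA₀'⟩ := Cfsg.Agent.Lib.Helper50_CL2.exists_maxAbelian (G := T)
  have hA₀ : IsMaxAbIn T (A₀'.map T.subtype) := isMaxAbIn_map hA₀'
  set A₀ := A₀'.map T.subtype with hA₀def
  have hle : ∀ A : Subgroup G, IsMaxAbIn T A → A ≤ U := by
    intro A hA
    refine le_trans ?_ hJU
    rw [jA_eq_sSup]
    exact le_sSup hA
  rw [jA_eq_sSup, jA_eq_sSup]
  congr 1
  ext A
  constructor
  · rintro ⟨hAU, hAc, hAm⟩
    refine ⟨hAU.trans hUT, hAc, ?_⟩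
    intro D hD hDc
    exact (hA₀.2.2 D hD hDc).trans (hAm A₀ (hle A₀ hA₀) hA₀.2.1)
  · intro hA
    refine ⟨hle A hA, hA.2.1, ?_⟩
    intro D hD hDc
    exact hA.2.2 D (hD.trans hUT) hDc

-- PKG JAPI3
/-- part 3: invariance under the normalizer (no `p`-group hypothesis) and `J(U) = J(T)` for
`J(T) ≤ U ≤ T`. -/
theorem japi3 (T : Subgroup G) :
    (Subgroup.normalizer (T : Set G) ≤ Subgroup.normalizer (Cfsg.thompsonSubgroupAOf T : Set G)) ∧
    (Subgroup.normalizer (T : Set G) ≤ Subgroup.normalizer (Cfsg.centerThompsonAOf T : Set G)) ∧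
    (∀ U : Subgroup G, Cfsg.thompsonSubgroupAOf T ≤ U → U ≤ T →
      Cfsg.thompsonSubgroupAOf U = Cfsg.thompsonSubgroupAOf T) :=
  ⟨normalizer_le_normalizer_jA T, normalizer_le_normalizer_zjA T,
    fun U h1 h2 => jA_eq_of_le T U h1 h2⟩

end Cfsg.Agent.Lib.Helper45_PU_JAPI3
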