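import Mathlib
import Cfsg.Prelude.Def_OddOrderLocal
import Cfsg.Agent.Lib.Helper20_PGroupOdd
import Cfsg.Agent.Lib.Helper32_PGroup
import Cfsg.Agent.Lib.Helper45_PCentral
import Cfsg.Agent.Lib.Helper45_Agemo
import Cfsg.Agent.Lib.Helper1_Transport

/-!
# Odd `p`-groups of rank two: the common setting

`Ctx p G z y`: `G` is a `p`-group (`p` odd), `(z, y)` a good pair of `G` (so that
`N = ⟨z⟩ ⊔ ⟨y⟩` is a normal elementary abelian subgroup of order `p²`, with `z` central), and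
every element of order dividing `p` which commutes with `y` lies in `N`.

We set `L = C_G(y) = C_G(N)` and `W = {x ∈ L | x ^ p ∈ ⟨z⟩}` and collect the basic facts.
-/

set_option autoImplicit false
set_option linter.unusedVariables false
set_option linter.unusedSectionVars false

namespace Cfsg.Agent.Lib.Helper45_RankTwoSetup

open Cfsg Subgroup Cfsg.Agent.Lib.Helper20_PGroupOdd Cfsg.Agent.Lib.Helper45_PCentral

universe u

/-! ### the commutator `a⁻¹ (g⁻¹ a g)` -/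

section cm

variable {G : Type*} [Group G]

/-- `cm a g = a⁻¹ * (g⁻¹ * a * g)`, so that `g⁻¹ * a * g = a * cm a g` -/
def cm (a g : G) : G := a⁻¹ * (g⁻¹ * a * g)

theorem conj_eq (a g : G) : g⁻¹ * a * g = a * cm a g := by
  unfold cm; group

theorem cm_eq_one_iff {a g : G} : cm a g = 1 ↔ a * g = g * a := by
  unfold cm
  constructor
  · intro h
    have h1 : g⁻¹ * a * g = a := by
      have := congrArg (fun t => a * t) h
      simpa [mul_assoc] using this
    calc a * g = g * (g⁻¹ * a * g) := by group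
      _ = g * a := by rw [h1]
  · intro h
    have : g⁻¹ * a * g = a := by
      rw [mul_assoc, h, ← mul_assoc, inv_mul_cancel, one_mul]
    rw [this, inv_mul_cancel]

theorem cm_one_left (g : G) : cm 1 g = 1 := by unfold cm; group

theorem cm_one_right (a : G) : cm a 1 = 1 := by unfold cm; group

/-- `cm (a * b) g = cm a g * cm b g` when `cm a g` commutes with `b` -/
theorem cm_mul_left {a b g : G} (h : cm a g * b = b * cm a g) :
    cm (a * b) g = cm a g * cm b g := by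
  have h1 : cm (a * b) g = b⁻¹ * cm a g * b * cm b g := by unfold cm; group
  rw [h1, mul_assoc b⁻¹, h, ← mul_assoc, inv_mul_cancel, one_mul]

/-- `cm a (g * h) = cm a h * cm a g` when `cm a g` commutes with `h` -/
theorem cm_mul_right {a g h : G} (hc : cm a g * h = h * cm a g) :
    cm a (g * h) = cm a h * cm a g := by
  have h1 : cm a (g * h) = cm a h * (h⁻¹ * cm a g * h) := by unfold cm; group
  rw [h1, mul_assoc h⁻¹, hc, ← mul_assoc h⁻¹, inv_mul_cancel, one_mul]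

theorem cm_conj (a g k : G) : k⁻¹ * cm a g * k = cm (k⁻¹ * a * k) (k⁻¹ * g * k) := by
  unfold cm; group

end cm

/-! ### elements of order `p` -/

section orderp

variable {G : Type*} [Group G] (p : ℕ) [hpf : Fact p.Prime]

theorem zpow_eq_one_of_dvd {x : G} (hx : x ^ p = 1) {i : ℤ} (hi : (p : ℤ) ∣ i) : x ^ i = 1 := by
  obtain ⟨k, rfl⟩ := hi
  rw [zpow_mul, zpow_natCast, hx, one_zpow]

theorem dvd_of_zpow_eq_one {x : G} (hx : x ^ p = 1) (hx1 : x ≠ 1) {i : ℤ} (hi : x ^ i = 1) :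
    (p : ℤ) ∣ i := by
  have h1 : orderOf x = p := orderOf_eq_prime hx hx1
  rw [← h1]
  exact orderOf_dvd_iff_zpow_eq_one.mpr hi

theorem dvd_of_pow_eq_one {x : G} (hx : x ^ p = 1) (hx1 : x ≠ 1) {i : ℕ} (hi : x ^ i = 1) :
    p ∣ i := by
  have h1 : orderOf x = p := orderOf_eq_prime hx hx1
  rw [← h1]
  exact orderOf_dvd_of_pow_eq_one hi

theorem exists_zpow_eq_of_not_dvd {x : G} (hx : x ^ p = 1) {i : ℤ} (hi : ¬ (p : ℤ) ∣ i) :
    ∃ j : ℤ, (x ^ i) ^ j = x := by
  have hcop : IsCoprime (p : ℤ) i :=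
    (Prime.coprime_iff_not_dvd (Nat.prime_iff_prime_int.mp hpf.out)).mpr hi
  obtain ⟨a, b, hab⟩ := hcop
  refine ⟨b, ?_⟩
  rw [← zpow_mul]
  have h1 : i * b = 1 - a * p := by linarith
  rw [h1, zpow_sub, zpow_one, zpow_mul, zpow_natCast]
  have h2 : (x ^ a) ^ p = 1 := by
    rw [← zpow_natCast, ← zpow_mul, mul_comm, zpow_mul, zpow_natCast, hx, one_zpow]
  rw [h2, inv_one, mul_one]

end orderp

/-! ### the context -/

/-- the common setting -/
structure Ctx (p : ℕ) (G : Type*) [Group G] (z y : G) : Prop where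
  hp2 : p ≠ 2
  pgroup : IsPGroup p G
  good : Good p (⊤ : Subgroup G) z y
  omega : ∀ a : G, a ^ p = 1 → a * y = y * a → a ∈ zpowers z ⊔ zpowers y

/-- `N = ⟨z⟩ ⊔ ⟨y⟩` -/
def NN {G : Type*} [Group G] (z y : G) : Subgroup G := zpowers z ⊔ zpowers y

/-- `L = C_G(y)` -/
def LL {G : Type*} [Group G] (y : G) : Subgroup G := centralizer {y}

theorem mem_LL {G : Type*} [Group G] {y g : G} : g ∈ LL y ↔ g * y = y * g := by
  unfold LL
  rw [mem_centralizer_iff]
  constructor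
  · intro h
    exact (h y rfl).symm
  · rintro h _ rfl
    exact h.symm

namespace Ctx

variable {p : ℕ} [hpf : Fact p.Prime] {G : Type*} [Group G] {z y : G}

section A

variable (h : Ctx p G z y)
include h

theorem z_central (g : G) : g * z = z * g := mem_center_iff.mp h.good.2.2.1 g

theorem Z_le_center : zpowers z ≤ center G := zpowers_le.mpr h.good.2.2.1

theorem Z_comm {a : G} (ha : a ∈ zpowers z) (g : G) : g * a = a * g :=
  mem_center_iff.mp (h.Z_le_center ha) g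

theorem orderOf_z : orderOf z = p := h.good.2.2.2.1

theorem z_pow : z ^ p = 1 := h.good.z_pow

theorem z_ne_one : z ≠ 1 := by
  intro h1
  have := h.orderOf_z
  rw [h1, orderOf_one] at this
  exact hpf.out.one_lt.ne this

theorem y_pow : y ^ p = 1 := h.good.2.2.2.2.1

theorem y_not_mem_Z : y ∉ zpowers z := h.good.2.2.2.2.2.1

theorem Z_pow {a : G} (ha : a ∈ zpowers z) : a ^ p = 1 := by
  obtain ⟨i, rfl⟩ := mem_zpowers_iff.mp ha
  rw [← zpow_natCast, ← zpow_mul, mul_comm, zpow_mul, zpow_natCast, h.z_pow, one_zpow]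

theorem card_Z : Nat.card (zpowers z) = p := by rw [Nat.card_zpowers, h.orderOf_z]

theorem Z_normal : (zpowers z).Normal := h.good.zpowers_normal

theorem Z_le_N : zpowers z ≤ NN z y := le_sup_left

theorem y_mem_N : y ∈ NN z y := mem_sup_right (mem_zpowers y)

theorem z_mem_N : z ∈ NN z y := mem_sup_left (mem_zpowers z)

theorem N_normal : (NN z y).Normal := h.good.B_normal

theorem N_comm {a b : G} (ha : a ∈ NN z y) (hb : b ∈ NN z y) : a * b = b * a :=
  h.good.B_comm a ha b hb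

theorem N_pow {a : G} (ha : a ∈ NN z y) : a ^ p = 1 := h.good.B_exp a ha

theorem card_N : Nat.card (NN z y) = p ^ 2 := h.good.card_B

theorem mem_N_iff {n : G} : n ∈ NN z y ↔ ∃ a ∈ zpowers z, ∃ i : ℤ, n = a * y ^ i := by
  constructor
  · intro hn
    obtain ⟨a, ha, b, hb, rfl⟩ := h.good.mem_B_iff.mp hn
    obtain ⟨i, rfl⟩ := mem_zpowers_iff.mp hb
    exact ⟨a, ha, i, rfl⟩
  · rintro ⟨a, ha, i, rfl⟩
    exact mul_mem (h.Z_le_N ha) (zpow_mem h.y_mem_N i)

/-- a nontrivial element of `⟨z⟩` generates it -/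
theorem zpowers_eq {a : G} (ha : a ∈ zpowers z) (ha1 : a ≠ 1) : zpowers a = zpowers z :=
  zpowers_eq_of_mem_of_ne_one h.orderOf_z ha ha1

theorem orderOf_of_mem_Z {a : G} (ha : a ∈ zpowers z) (ha1 : a ≠ 1) : orderOf a = p :=
  orderOf_eq_prime (h.Z_pow ha) ha1

theorem exists_pow_eq {a b : G} (ha : a ∈ zpowers z) (ha1 : a ≠ 1) (hb : b ∈ zpowers z) :
    ∃ i : ℕ, a ^ i = b := by
  have h1 : b ∈ zpowers a := by rw [h.zpowers_eq ha ha1]; exact hb
  have h2 : IsOfFinOrder a := by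
    rw [← orderOf_pos_iff, h.orderOf_of_mem_Z ha ha1]
    exact hpf.out.pos
  rw [← h2.mem_powers_iff_mem_zpowers] at h1
  exact (Submonoid.mem_powers_iff _ _).mp h1

theorem cm_y_mem (g : G) : cm y g ∈ zpowers z := by
  have h1 := h.good.2.2.2.2.2.2 g⁻¹
  rw [inv_inv] at h1
  have h2 : cm y g = y⁻¹ * (g⁻¹ * y * g * y⁻¹) * y := by unfold cm; group
  rw [h2]
  have := h.Z_normal.conj_mem _ h1 y⁻¹
  simpa using this

/-- `N / ⟨z⟩` is central in `G / ⟨z⟩` -/
theorem cm_N_mem {n : G} (hn : n ∈ NN z y) (g : G) : cm n g ∈ zpowers z := by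
  have : (zpowers z).Normal := h.Z_normal
  have hle : NN z y ≤ (center (G ⧸ zpowers z)).comap (QuotientGroup.mk' (zpowers z)) := by
    apply sup_le
    · rw [zpowers_le, mem_comap]
      have : (QuotientGroup.mk' (zpowers z)) z = 1 := by
        rw [QuotientGroup.mk'_apply, QuotientGroup.eq_one_iff]
        exact mem_zpowers z
      rw [this]
      exact one_mem _
    · rw [zpowers_le, mem_comap, mem_center_iff]
      intro q
      induction q using QuotientGroup.induction_on with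
      | H k =>
        rw [QuotientGroup.mk'_apply, ← QuotientGroup.mk_mul, ← QuotientGroup.mk_mul]
        apply QuotientGroup.eq.mpr
        have h1 : (k * y)⁻¹ * (y * k) = cm y k := by unfold cm; group
        rw [h1]
        exact h.cm_y_mem k
  have h1 := hle hn
  rw [mem_comap, mem_center_iff] at h1
  have h2 := h1 (QuotientGroup.mk' (zpowers z) g)
  rw [QuotientGroup.mk'_apply, QuotientGroup.mk'_apply, ← QuotientGroup.mk_mul,
    ← QuotientGroup.mk_mul] at h2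
  have h3 := QuotientGroup.eq.mp h2
  have h4 : cm n g = (g * n)⁻¹ * (n * g) := by unfold cm; group
  rw [h4]
  exact h3

/-- an element of `N` commuting with an element outside `L` lies in `⟨z⟩` -/
theorem mem_Z_of_comm {n g : G} (hn : n ∈ NN z y) (hg : g * y ≠ y * g) (hc : n * g = g * n) :
    n ∈ zpowers z := by
  obtain ⟨a, ha, i, rfl⟩ := h.mem_N_iff.mp hn
  by_cases hi : (p : ℤ) ∣ i
  · rw [zpow_eq_one_of_dvd p h.y_pow hi, mul_one]
    exact ha
  · exfalso
    obtain ⟨j, hj⟩ := exists_zpow_eq_of_not_dvd p h.y_pow hi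
    apply hg
    have h1 : y ^ i * g = g * y ^ i := by
      have h2 := hc
      rw [← mul_assoc g, h.Z_comm ha g, mul_assoc, mul_assoc] at h2
      exact mul_left_cancel h2
    have h3 : Commute ((y ^ i) ^ j) g := Commute.zpow_left h1 j
    rw [hj] at h3
    exact h3.eq.symm

theorem not_mem_Z_of_not_comm {n g : G} (hn : n ∈ NN z y) (hg : g * y ≠ y * g)
    (hnz : n ∉ zpowers z) : cm n g ≠ 1 := by
  intro h1
  exact hnz (h.mem_Z_of_comm hn hg (cm_eq_one_iff.mp h1))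

end A

/-! ### the centralizer `L` of `N` -/

section B

variable (h : Ctx p G z y)
include h

/-- the homomorphism `g ↦ y⁻¹ g⁻¹ y g` -/
def phi : G →* ↥(zpowers z) where
  toFun g := ⟨cm y g, h.cm_y_mem g⟩
  map_one' := by
    apply Subtype.ext
    exact cm_one_right y
  map_mul' := by
    intro a b
    apply Subtype.ext
    show cm y (a * b) = cm y a * cm y b
    rw [cm_mul_right (h.Z_comm (h.cm_y_mem a) b).symm]
    exact (h.Z_comm (h.cm_y_mem a) _)

theorem phi_apply (g : G) : ((h.phi g : ↥(zpowers z)) : G) = cm y g := rfl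

theorem ker_phi : h.phi.ker = LL y := by
  ext g
  rw [MonoidHom.mem_ker, mem_LL, Subtype.ext_iff, phi_apply, OneMemClass.coe_one, cm_eq_one_iff]
  exact eq_comm

theorem L_normal : (LL y).Normal := by
  rw [← h.ker_phi]
  exact MonoidHom.normal_ker _

theorem cm_y_mul (a b : G) : cm y (a * b) = cm y a * cm y b := by
  have h1 : ((h.phi (a * b) : ↥(zpowers z)) : G) = ((h.phi a * h.phi b : ↥(zpowers z)) : G) := by
    rw [h.phi.map_mul]
  rw [Subgroup.coe_mul, phi_apply, phi_apply, phi_apply] at h1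
  exact h1

theorem cm_y_pow (a : G) (i : ℕ) : cm y (a ^ i) = cm y a ^ i := by
  have h1 : ((h.phi (a ^ i) : ↥(zpowers z)) : G) = ((h.phi a ^ i : ↥(zpowers z)) : G) := by
    rw [h.phi.map_pow]
  rw [Subgroup.coe_pow, phi_apply, phi_apply] at h1
  exact h1

theorem N_le_L : NN z y ≤ LL y := fun n hn => mem_LL.mpr (h.N_comm hn h.y_mem_N)

theorem Z_le_L : zpowers z ≤ LL y := le_trans h.Z_le_N h.N_le_L

theorem L_comm_N {g n : G} (hg : g ∈ LL y) (hn : n ∈ NN z y) : g * n = n * g := by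
  obtain ⟨a, ha, i, rfl⟩ := h.mem_N_iff.mp hn
  have h1 : Commute g (y ^ i) := Commute.zpow_right (mem_LL.mp hg) i
  rw [← mul_assoc, h.Z_comm ha g, mul_assoc, h1.eq, mul_assoc]

theorem omega_L {a : G} (ha : a ∈ LL y) (hap : a ^ p = 1) : a ∈ NN z y :=
  h.omega a hap (mem_LL.mp ha)

theorem index_L [Finite G] (hL : LL y ≠ ⊤) : (LL y).index = p := by
  have h1 : (LL y).index = Nat.card h.phi.range := by
    rw [← h.ker_phi]
    exact Subgroup.index_ker _
  have h2 : Nat.card h.phi.range ∣ p := by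
    have := Subgroup.card_subgroup_dvd_card h.phi.range
    rwa [h.card_Z] at this
  rcases (Nat.dvd_prime hpf.out).mp h2 with h3 | h3
  · exfalso
    apply hL
    rw [← Subgroup.index_eq_one, h1, h3]
  · rw [h1, h3]

theorem card_eq_mul [Finite G] (hL : LL y ≠ ⊤) : Nat.card G = p * Nat.card (LL y) := by
  rw [← h.index_L hL, mul_comm]
  exact (Subgroup.card_mul_index (LL y)).symm

/-- `G = ⟨x⟩ L` for every `x ∉ L` -/
theorem exists_mul_pow_mem {x : G} (hx : x ∉ LL y) (g : G) : ∃ i : ℕ, g * x ^ i ∈ LL y := by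
  have h1 : cm y x ≠ 1 := by
    intro h2
    apply hx
    rw [mem_LL]
    exact (cm_eq_one_iff.mp h2).symm
  obtain ⟨i, hi⟩ := h.exists_pow_eq (h.cm_y_mem x) h1 (inv_mem (h.cm_y_mem g))
  refine ⟨i, ?_⟩
  rw [mem_LL]
  apply Eq.symm
  rw [← cm_eq_one_iff, h.cm_y_mul, h.cm_y_pow, hi, mul_inv_cancel]

/-- a subgroup containing `L` and an element outside `L` is everything -/
theorem eq_top_of_le {x : G} (hx : x ∉ LL y) {H : Subgroup G} (hLH : LL y ≤ H) (hxH : x ∈ H) :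
    H = ⊤ := by
  rw [eq_top_iff]
  intro g _
  obtain ⟨i, hi⟩ := h.exists_mul_pow_mem hx g
  have h1 : g = g * x ^ i * (x ^ i)⁻¹ := by group
  rw [h1]
  exact mul_mem (hLH hi) (inv_mem (pow_mem hxH i))

end B

/-! ### `L` is `p`-central -/

section C

variable [Finite G] (h : Ctx p G z y)
include h

theorem pgroup_L : IsPGroup p ↥(LL y) := h.pgroup.to_subgroup _

theorem pcentral_L : PCentral p ↥(LL y) := by
  intro a ha
  have h1 : (a : G) ^ p = 1 := by
    have := congrArg Subtype.val ha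
    simpa using this
  have h2 : (a : G) ∈ NN z y := h.omega_L a.2 h1
  rw [mem_center_iff]
  intro g
  apply Subtype.ext
  rw [Subgroup.coe_mul, Subgroup.coe_mul]
  exact h.L_comm_N g.2 h2

/-- the `p`-th power map on `L` is multiplicative as soon as one of the powers is central in `L` -/
theorem L_mul_pow {a b : G} (ha : a ∈ LL y) (hb : b ∈ LL y) (hap : a ^ p ∈ NN z y) :
    (a * b) ^ p = a ^ p * b ^ p := by
  have hc : (⟨a, ha⟩ : ↥(LL y)) ^ p ∈ center ↥(LL y) := by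
    rw [mem_center_iff]
    intro g
    apply Subtype.ext
    rw [Subgroup.coe_mul, Subgroup.coe_mul, Subgroup.coe_pow]
    exact h.L_comm_N g.2 hap
  have h1 := mul_pow_p h.hp2 h.pgroup_L h.pcentral_L ⟨a, ha⟩ ⟨b, hb⟩ hc
  have h2 := congrArg Subtype.val h1
  simpa using h2

theorem L_cm_pow {a b : G} (ha : a ∈ LL y) (hb : b ∈ LL y) (hap : a ^ p ∈ NN z y) :
    cm a b ^ p = 1 := by
  have hc : (⟨a, ha⟩ : ↥(LL y)) ^ p ∈ center ↥(LL y) := by
    rw [mem_center_iff]
    intro g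
    apply Subtype.ext
    rw [Subgroup.coe_mul, Subgroup.coe_mul, Subgroup.coe_pow]
    exact h.L_comm_N g.2 hap
  have h1 := comm_pow h.hp2 h.pgroup_L h.pcentral_L ⟨a, ha⟩ ⟨b, hb⟩ hc
  have h2 := congrArg Subtype.val h1
  unfold cm
  simpa using h2

theorem cm_mem_L {a b : G} (ha : a ∈ LL y) (hb : b ∈ LL y) : cm a b ∈ LL y := by
  unfold cm
  exact mul_mem (inv_mem ha) (mul_mem (mul_mem (inv_mem hb) ha) hb)

theorem L_cm_mem_N {a b : G} (ha : a ∈ LL y) (hb : b ∈ LL y) (hap : a ^ p ∈ NN z y) :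
    cm a b ∈ NN z y :=
  h.omega_L (h.cm_mem_L ha hb) (h.L_cm_pow ha hb hap)

theorem card_omegaC_L : Nat.card (omegaC h.pcentral_L) = p ^ 2 := by
  rw [← h.card_N]
  have h1 : (omegaC h.pcentral_L).map (LL y).subtype = NN z y := by
    ext x
    constructor
    · rintro ⟨a, ha, rfl⟩
      have h2 : (a : G) ^ p = 1 := by
        have := congrArg Subtype.val ((mem_omegaC _).mp ha)
        simpa using this
      exact h.omega_L a.2 h2
    · intro hx
      refine ⟨⟨x, h.N_le_L hx⟩, ?_, rfl⟩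
      rw [SetLike.mem_coe, mem_omegaC]
      apply Subtype.ext
      rw [Subgroup.coe_pow, OneMemClass.coe_one]
      exact h.N_pow hx
  rw [← h1]
  exact (Subgroup.card_map_of_injective (LL y).subtype_injective).symm

end C

/-! ### the subgroup `W` -/

section D

variable [Finite G] (h : Ctx p G z y)

/-- `W = {x ∈ L | x ^ p ∈ ⟨z⟩}` -/
def WW (h : Ctx p G z y) : Subgroup G where
  carrier := {x | x ∈ LL y ∧ x ^ p ∈ zpowers z}
  mul_mem' := by
    rintro a b ⟨ha, hap⟩ ⟨hb, hbp⟩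
    refine ⟨mul_mem ha hb, ?_⟩
    rw [h.L_mul_pow ha hb (h.Z_le_N hap)]
    exact mul_mem hap hbp
  one_mem' := ⟨one_mem _, by rw [one_pow]; exact one_mem _⟩
  inv_mem' := by
    rintro a ⟨ha, hap⟩
    exact ⟨inv_mem ha, by rw [inv_pow]; exact inv_mem hap⟩

/-- `W₂ = {x ∈ L | x ^ p ∈ N}` -/
def W2 (h : Ctx p G z y) : Subgroup G where
  carrier := {x | x ∈ LL y ∧ x ^ p ∈ NN z y}
  mul_mem' := by
    rintro a b ⟨ha, hap⟩ ⟨hb, hbp⟩
    refine ⟨mul_mem ha hb, ?_⟩
    rw [h.L_mul_pow ha hb hap]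
    exact mul_mem hap hbp
  one_mem' := ⟨one_mem _, by rw [one_pow]; exact one_mem _⟩
  inv_mem' := by
    rintro a ⟨ha, hap⟩
    exact ⟨inv_mem ha, by rw [inv_pow]; exact inv_mem hap⟩

include h

theorem mem_WW {x : G} : x ∈ h.WW ↔ x ∈ LL y ∧ x ^ p ∈ zpowers z := Iff.rfl

theorem mem_W2 {x : G} : x ∈ h.W2 ↔ x ∈ LL y ∧ x ^ p ∈ NN z y := Iff.rfl

theorem N_le_W : NN z y ≤ h.WW := fun n hn =>
  ⟨h.N_le_L hn, by rw [h.N_pow hn]; exact one_mem _⟩

theorem W_le_L : h.WW ≤ LL y := fun _ hx => hx.1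

theorem W_le_W2 : h.WW ≤ h.W2 := fun _ hx => ⟨hx.1, h.Z_le_N hx.2⟩

theorem card_W_le : Nat.card h.WW ≤ p ^ 3 := by
  have hT : ∀ t ∈ (zpowers z).subgroupOf (LL y), t ^ p = 1 := by
    intro t ht
    apply Subtype.ext
    rw [Subgroup.coe_pow, OneMemClass.coe_one]
    exact h.Z_pow (mem_subgroupOf.mp ht)
  have h1 := card_powPre_le h.hp2 h.pgroup_L h.pcentral_L _ hT
  have h2 : (powPre h.hp2 h.pgroup_L h.pcentral_L _ hT).map (LL y).subtype = h.WW := by
    ext x
    constructor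
    · rintro ⟨a, ha, rfl⟩
      have h3 := (mem_powPre h.hp2 h.pgroup_L h.pcentral_L _ hT).mp ha
      rw [mem_subgroupOf, Subgroup.coe_pow] at h3
      exact ⟨a.2, h3⟩
    · rintro ⟨hx, hxp⟩
      refine ⟨⟨x, hx⟩, ?_, rfl⟩
      rw [SetLike.mem_coe, mem_powPre, mem_subgroupOf, Subgroup.coe_pow]
      exact hxp
  rw [← h2, Subgroup.card_map_of_injective (LL y).subtype_injective]
  have h4 : Nat.card ((zpowers z).subgroupOf (LL y)) = p := by
    rw [Nat.card_congr (Subgroup.subgroupOfEquivOfLe h.Z_le_L).toEquiv, h.card_Z]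
  rw [h.card_omegaC_L, h4] at h1
  calc _ ≤ p ^ 2 * p := h1
    _ = p ^ 3 := by ring

theorem W_conj {w : G} (hw : w ∈ h.WW) (g : G) : g⁻¹ * w * g ∈ h.WW := by
  constructor
  · have := h.L_normal.conj_mem w hw.1 g⁻¹
    simpa using this
  · have h1 : (g⁻¹ * w * g) ^ p = g⁻¹ * w ^ p * g := by
      have := conj_pow (a := g⁻¹) (b := w) (i := p)
      simpa using this
    rw [h1, mul_assoc, ← h.Z_comm hw.2 g, ← mul_assoc, inv_mul_cancel, one_mul]
    exact hw.2

theorem cm_W_mem_N {w : G} (hw : w ∈ h.WW) (g : G) : cm w g ∈ NN z y := by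
  have h1 := h.W_conj hw g
  have h2 : cm w g ∈ LL y := mul_mem (inv_mem hw.1) h1.1
  apply h.omega_L h2
  unfold cm
  have h3 : (w⁻¹) ^ p ∈ NN z y := by
    rw [inv_pow]
    exact inv_mem (h.Z_le_N hw.2)
  rw [h.L_mul_pow (inv_mem hw.1) h1.1 h3]
  have h4 : (g⁻¹ * w * g) ^ p = g⁻¹ * w ^ p * g := by
    have := conj_pow (a := g⁻¹) (b := w) (i := p)
    simpa using this
  rw [h4, mul_assoc g⁻¹, ← h.Z_comm hw.2 g, ← mul_assoc g⁻¹, inv_mul_cancel, one_mul, inv_pow,
    inv_mul_cancel]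

/-- `W = ⟨w⟩ N` for every `w ∈ W ∖ N` -/
theorem W_decomp {w : G} (hw : w ∈ h.WW) (hwN : w ∉ NN z y) {a : G} (ha : a ∈ h.WW) :
    ∃ i : ℕ, ∃ n ∈ NN z y, a = w ^ i * n := by
  have hw1 : w ^ p ≠ 1 := fun h1 => hwN (h.omega_L hw.1 h1)
  obtain ⟨i, hi⟩ := h.exists_pow_eq hw.2 hw1 ha.2
  refine ⟨i, (w ^ i)⁻¹ * a, ?_, by group⟩
  have h1 : (w ^ i)⁻¹ ∈ LL y := inv_mem (pow_mem hw.1 i)
  apply h.omega_L (mul_mem h1 ha.1)
  have h2 : ((w ^ i)⁻¹) ^ p ∈ NN z y := by
    rw [inv_pow, ← pow_mul, mul_comm, pow_mul]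
    exact inv_mem (pow_mem (h.Z_le_N hw.2) i)
  rw [h.L_mul_pow h1 ha.1 h2, inv_pow, ← pow_mul, mul_comm i p, pow_mul, hi, inv_mul_cancel]

theorem W_comm {a b : G} (ha : a ∈ h.WW) (hb : b ∈ h.WW) : a * b = b * a := by
  by_cases hex : ∃ w ∈ h.WW, w ∉ NN z y
  · obtain ⟨w, hw, hwN⟩ := hex
    obtain ⟨i, n, hn, rfl⟩ := h.W_decomp hw hwN ha
    obtain ⟨j, m, hm, rfl⟩ := h.W_decomp hw hwN hb
    have h1 : ∀ k : ℕ, w ^ k ∈ LL y := fun k => pow_mem hw.1 k
    have e1 : n * w ^ j = w ^ j * n := (h.L_comm_N (h1 j) hn).symm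
    have e2 : m * w ^ i = w ^ i * m := (h.L_comm_N (h1 i) hm).symm
    have e3 : n * m = m * n := h.N_comm hn hm
    have e4 : w ^ i * w ^ j = w ^ j * w ^ i := by rw [← pow_add, ← pow_add, add_comm]
    calc w ^ i * n * (w ^ j * m) = w ^ i * (n * w ^ j) * m := by simp only [mul_assoc]
      _ = w ^ i * (w ^ j * n) * m := by rw [e1]
      _ = (w ^ i * w ^ j) * (n * m) := by simp only [mul_assoc]
      _ = (w ^ j * w ^ i) * (m * n) := by rw [e3, e4]
      _ = w ^ j * (w ^ i * m) * n := by simp only [mul_assoc]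
      _ = w ^ j * (m * w ^ i) * n := by rw [e2]
      _ = w ^ j * m * (w ^ i * n) := by simp only [mul_assoc]
  · push Not at hex
    exact h.N_comm (hex a ha) (hex b hb)

theorem not_isCyclic_N : ¬ IsCyclic ↥(NN z y) := by
  intro hc
  obtain ⟨g, hg⟩ := IsCyclic.exists_ofOrder_eq_natCard (α := ↥(NN z y))
  rw [h.card_N] at hg
  have h1 : g ^ p = 1 := by
    apply Subtype.ext
    rw [Subgroup.coe_pow, OneMemClass.coe_one]
    exact h.N_pow g.2
  have h2 := orderOf_dvd_of_pow_eq_one h1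
  rw [hg] at h2
  have h3 := Nat.le_of_dvd hpf.out.pos h2
  have h4 : p < p ^ 2 := by
    have := Nat.pow_lt_pow_right hpf.out.one_lt (show 1 < 2 by norm_num)
    rwa [pow_one] at this
  omega

/-- a subgroup containing an element of `N ∖ ⟨z⟩` and a nontrivial element of `⟨z⟩` contains `N` -/
theorem N_le_of_mem {H : Subgroup G} {c c1 : G} (hc : c ∈ NN z y) (hcz : c ∉ zpowers z)
    (hc1 : c1 ∈ zpowers z) (hc11 : c1 ≠ 1) (hcH : c ∈ H) (hc1H : c1 ∈ H) : NN z y ≤ H := by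
  have hZ : zpowers z ≤ H := by
    rw [← h.zpowers_eq hc1 hc11, zpowers_le]
    exact hc1H
  apply sup_le hZ
  rw [zpowers_le]
  obtain ⟨a, ha, i, rfl⟩ := h.mem_N_iff.mp hc
  have hi : ¬ (p : ℤ) ∣ i := by
    intro hi
    apply hcz
    rw [zpow_eq_one_of_dvd p h.y_pow hi, mul_one]
    exact ha
  obtain ⟨j, hj⟩ := exists_zpow_eq_of_not_dvd p h.y_pow hi
  rw [← hj]
  apply zpow_mem
  have h1 : y ^ i = a⁻¹ * (a * y ^ i) := by group
  rw [h1]
  exact mul_mem (inv_mem (hZ ha)) hcH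

theorem metacyclic_L : IsMetacyclic ↥(LL y) :=
  Cfsg.Agent.Lib.Helper45_Agemo.isMetacyclic_of_pcentral h.hp2 h.pgroup_L h.pcentral_L
    (le_of_eq h.card_omegaC_L)

/-- if `y` is not central then `W / ⟨z⟩` is central in `L / ⟨z⟩` -/
theorem cm_W_L_mem_Z (hy : ∃ k : G, k * y ≠ y * k) {w g : G} (hw : w ∈ h.WW) (hg : g ∈ LL y) :
    cm w g ∈ zpowers z := by
  obtain ⟨k, hk⟩ := hy
  obtain ⟨K, hKn, hKc, hQc⟩ := h.metacyclic_L
  by_contra hcz
  -- commutators of `L` lie in `K`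
  have hcomm : ∀ a b : G, ∀ (ha : a ∈ LL y) (hb : b ∈ LL y),
      (⟨cm a b, h.cm_mem_L ha hb⟩ : ↥(LL y)) ∈ K := by
    intro a b ha hb
    have hmc : ∀ u v : ↥(LL y) ⧸ K, u * v = v * u := fun u v =>
      (IsCyclic.isMulCommutative (α := ↥(LL y) ⧸ K)).is_comm.comm u v
    have h1 : (⟨cm a b, h.cm_mem_L ha hb⟩ : ↥(LL y)) =
        (⟨a, ha⟩ : ↥(LL y))⁻¹ * ((⟨b, hb⟩ : ↥(LL y))⁻¹ * ⟨a, ha⟩ * ⟨b, hb⟩) := by
      apply Subtype.ext
      simp [cm]
    rw [h1, ← QuotientGroup.eq_one_iff]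
    simp only [QuotientGroup.mk_mul, QuotientGroup.mk_inv]
    have h2 : ∀ u v : ↥(LL y) ⧸ K, u⁻¹ * (v⁻¹ * u * v) = 1 := by
      intro u v
      rw [hmc v⁻¹ u, inv_mul_cancel_right, inv_mul_cancel]
    exact h2 _ _
  set KG : Subgroup G := K.map (LL y).subtype with hKG
  have hKGc : IsCyclic ↥KG :=
    (MulEquiv.isCyclic (K.equivMapOfInjective _ (LL y).subtype_injective)).mp hKc
  have hc : cm w g ∈ NN z y := h.cm_W_mem_N hw g
  have hcK : cm w g ∈ KG := ⟨_, hcomm w g hw.1 hg, rfl⟩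
  have hc1 : cm (cm w g) k ∈ zpowers z := h.cm_N_mem hc k
  have hc11 : cm (cm w g) k ≠ 1 := h.not_mem_Z_of_not_comm hc hk hcz
  have hg' : k⁻¹ * g * k ∈ LL y := by
    have := h.L_normal.conj_mem g hg k⁻¹
    simpa using this
  have hc' : k⁻¹ * cm w g * k = cm w (k⁻¹ * g * k) := by
    rw [cm_conj, conj_eq w k]
    have hn' : cm w k ∈ NN z y := h.cm_W_mem_N hw k
    have e1 : cm w (k⁻¹ * g * k) * cm w k = cm w k * cm w (k⁻¹ * g * k) :=
      h.L_comm_N (h.cm_mem_L hw.1 hg') hn'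
    rw [cm_mul_left e1]
    have e2 : cm (cm w k) (k⁻¹ * g * k) = 1 := by
      rw [cm_eq_one_iff]
      exact (h.L_comm_N hg' hn').symm
    rw [e2, mul_one]
  have hc1K : cm (cm w g) k ∈ KG := by
    have h1 : cm (cm w g) k = (cm w g)⁻¹ * cm w (k⁻¹ * g * k) := by
      rw [← hc']
      unfold cm
      group
    rw [h1]
    exact mul_mem (inv_mem hcK) ⟨_, hcomm w _ hw.1 hg', rfl⟩
  have hle : NN z y ≤ KG := h.N_le_of_mem hc hcz hc1 hc11 hcK hc1K
  have : IsCyclic ↥(NN z y) := Subgroup.isCyclic_of_le hle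
  exact h.not_isCyclic_N this

end D

end Ctx

end Cfsg.Agent.Lib.Helper45_RankTwoSetup
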