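import Mathlib
import Cfsg.Agent.Lib.Helper20_PGroupOdd
import Cfsg.Agent.Lib.Helper45_RankTwoSetup

/-!
# Odd `p`-groups of rank two: power computations

For `u, b, c` pairwise commuting with `g⁻¹ u g = u b`, `g⁻¹ b g = b c`, `g⁻¹ c g = c` we have
`(g u)^m = g^m u^m b^(m choose 2) c^(m choose 3)` and, if `g⁻¹ v g = v u`,
`g^(-m) v g^m = v u^m b^(m choose 2) c^(m choose 3)`.  In the setting `Ctx` this gives the map
`tau g u = u^p [[u,g],g]^(p choose 3)` on `W`.
-/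

set_option autoImplicit false
set_option linter.unusedVariables false
set_option linter.unusedSectionVars false

namespace Cfsg.Agent.Lib.Helper45_RankTwoPow

open Cfsg Subgroup Cfsg.Agent.Lib.Helper20_PGroupOdd Cfsg.Agent.Lib.Helper45_RankTwoSetup

section power

variable {G : Type*} [Group G]

theorem cj_mul (g a b : G) : g⁻¹ * (a * b) * g = (g⁻¹ * a * g) * (g⁻¹ * b * g) := by group

theorem cj_pow (g a : G) (n : ℕ) : g⁻¹ * a ^ n * g = (g⁻¹ * a * g) ^ n := by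
  induction n with
  | zero => simp
  | succ n ih => rw [pow_succ, cj_mul, ih, pow_succ]

/-- the product `u^m b^(m choose 2) c^(m choose 3)` -/
def PP (u b c : G) (m : ℕ) : G := u ^ m * b ^ m.choose 2 * c ^ m.choose 3

theorem cj_PP {g u b c : G} (hub : Commute u b) (hbc : Commute b c)
    (hu : g⁻¹ * u * g = u * b) (hb : g⁻¹ * b * g = b * c) (hc : g⁻¹ * c * g = c) (m : ℕ) :
    g⁻¹ * PP u b c m * g =
      u ^ m * (b ^ m * (b ^ m.choose 2 * c ^ m.choose 2) * c ^ m.choose 3) := by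
  unfold PP
  rw [cj_mul, cj_mul, cj_pow, cj_pow, cj_pow, hu, hb, hc, hub.mul_pow, hbc.mul_pow]
  simp only [mul_assoc]

theorem choose_two_succ (m : ℕ) : (m + 1).choose 2 = m + m.choose 2 := by
  rw [Nat.choose_succ_succ' m 1, Nat.choose_one_right]

theorem choose_three_succ (m : ℕ) : (m + 1).choose 3 = m.choose 2 + m.choose 3 :=
  Nat.choose_succ_succ' m 2

theorem PP_succ' {g u b c : G} (hub : Commute u b) (hbc : Commute b c)
    (hu : g⁻¹ * u * g = u * b) (hb : g⁻¹ * b * g = b * c) (hc : g⁻¹ * c * g = c) (m : ℕ) :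
    u * (g⁻¹ * PP u b c m * g) = PP u b c (m + 1) := by
  rw [cj_PP hub hbc hu hb hc]
  unfold PP
  rw [choose_two_succ, choose_three_succ, pow_succ', pow_add, pow_add]
  simp only [mul_assoc]

theorem PP_succ {g u b c : G} (hub : Commute u b) (huc : Commute u c) (hbc : Commute b c)
    (hu : g⁻¹ * u * g = u * b) (hb : g⁻¹ * b * g = b * c) (hc : g⁻¹ * c * g = c) (m : ℕ) :
    g⁻¹ * PP u b c m * g * u = PP u b c (m + 1) := by
  rw [← PP_succ' hub hbc hu hb hc, cj_PP hub hbc hu hb hc]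
  have hX : Commute (u ^ m * (b ^ m * (b ^ m.choose 2 * c ^ m.choose 2) * c ^ m.choose 3)) u := by
    apply Commute.mul_left (Commute.pow_left (Commute.refl u) m)
    apply Commute.mul_left
    · apply Commute.mul_left (hub.symm.pow_left m)
      exact Commute.mul_left (hub.symm.pow_left _) (huc.symm.pow_left _)
    · exact huc.symm.pow_left _
  exact hX.eq

theorem mul_pow_PP {g u b c : G} (hub : Commute u b) (huc : Commute u c) (hbc : Commute b c)
    (hu : g⁻¹ * u * g = u * b) (hb : g⁻¹ * b * g = b * c) (hc : g⁻¹ * c * g = c) (m : ℕ) :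
    (g * u) ^ m = g ^ m * PP u b c m := by
  induction m with
  | zero => simp [PP]
  | succ m ih =>
    rw [pow_succ, ih, ← PP_succ hub huc hbc hu hb hc, pow_succ]
    group

theorem conj_pow_PP {g u b c v : G} (hub : Commute u b) (hbc : Commute b c)
    (hu : g⁻¹ * u * g = u * b) (hb : g⁻¹ * b * g = b * c) (hc : g⁻¹ * c * g = c)
    (hv : g⁻¹ * v * g = v * u) (m : ℕ) :
    (g ^ m)⁻¹ * v * g ^ m = v * PP u b c m := by
  induction m with
  | zero => simp [PP]
  | succ m ih =>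
    have h1 : (g ^ (m + 1))⁻¹ * v * g ^ (m + 1) = g⁻¹ * ((g ^ m)⁻¹ * v * g ^ m) * g := by
      rw [pow_succ]; group
    rw [h1, ih, cj_mul, hv, ← PP_succ' hub hbc hu hb hc, mul_assoc]

theorem PP_prime {p : ℕ} (hp : p.Prime) (hp2 : p ≠ 2) {u b c : G} (hb : b ^ p = 1) :
    PP u b c p = u ^ p * c ^ p.choose 3 := by
  unfold PP
  have h2 : 2 < p := lt_of_le_of_ne hp.two_le (Ne.symm hp2)
  obtain ⟨k, hk⟩ := hp.dvd_choose_self (by norm_num : (2 : ℕ) ≠ 0) h2
  rw [hk, pow_mul, hb, one_pow, mul_one]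

end power

/-! ### the map `tau` -/

section tau

variable {p : ℕ} [hpf : Fact p.Prime] {G : Type*} [Group G] [Finite G] {z y : G}

/-- `tau g u = u ^ p * [[u, g], g] ^ (p choose 3)` -/
def tau (p : ℕ) {G : Type*} [Group G] (g u : G) : G := u ^ p * cm (cm u g) g ^ p.choose 3

variable (h : Ctx p G z y)
include h

theorem cm_cm_mem_Z {u : G} (hu : u ∈ h.WW) (g : G) : cm (cm u g) g ∈ zpowers z :=
  h.cm_N_mem (h.cm_W_mem_N hu g) g

theorem cj_Z {c : G} (hc : c ∈ zpowers z) (g : G) : g⁻¹ * c * g = c := by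
  rw [mul_assoc, ← h.Z_comm hc g, ← mul_assoc, inv_mul_cancel, one_mul]

theorem tau_mem_Z {u : G} (hu : u ∈ h.WW) (g : G) : tau p g u ∈ zpowers z :=
  mul_mem hu.2 (pow_mem (cm_cm_mem_Z h hu g) _)

/-- `(g u)^p = g^p tau(u)` for `u ∈ W` -/
theorem mul_pow_W {u : G} (hu : u ∈ h.WW) (g : G) : (g * u) ^ p = g ^ p * tau p g u := by
  have hb : cm u g ∈ NN z y := h.cm_W_mem_N hu g
  have hc : cm (cm u g) g ∈ zpowers z := cm_cm_mem_Z h hu g
  have hub : Commute u (cm u g) := h.W_comm hu (h.N_le_W hb)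
  have huc : Commute u (cm (cm u g) g) := (h.Z_comm hc u)
  have hbc : Commute (cm u g) (cm (cm u g) g) := (h.Z_comm hc _)
  rw [mul_pow_PP hub huc hbc (conj_eq u g) (conj_eq _ g) (cj_Z h hc g) p,
    PP_prime hpf.out h.hp2 (h.N_pow hb)]
  rfl

/-- `g^(-p) v g^p = v tau([v,g])` if `[v,g] ∈ W` -/
theorem conj_pow_W {v g : G} (hu : cm v g ∈ h.WW) :
    (g ^ p)⁻¹ * v * g ^ p = v * tau p g (cm v g) := by
  have hb : cm (cm v g) g ∈ NN z y := h.cm_W_mem_N hu g
  have hc : cm (cm (cm v g) g) g ∈ zpowers z := cm_cm_mem_Z h hu g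
  have hub : Commute (cm v g) (cm (cm v g) g) := h.W_comm hu (h.N_le_W hb)
  have hbc : Commute (cm (cm v g) g) (cm (cm (cm v g) g) g) := (h.Z_comm hc _)
  rw [conj_pow_PP hub hbc (conj_eq _ g) (conj_eq _ g) (cj_Z h hc g) (conj_eq v g) p,
    PP_prime hpf.out h.hp2 (h.N_pow hb)]
  rfl

theorem cm_mul_W {a b : G} (ha : a ∈ h.WW) (hb : b ∈ h.WW) (g : G) :
    cm (a * b) g = cm a g * cm b g :=
  cm_mul_left (h.L_comm_N hb.1 (h.cm_W_mem_N ha g)).symm

theorem cm_mul_N {a b : G} (ha : a ∈ NN z y) (g : G) :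
    cm (a * b) g = cm a g * cm b g :=
  cm_mul_left (h.Z_comm (h.cm_N_mem ha g) b).symm

theorem tau_mul {a b : G} (ha : a ∈ h.WW) (hb : b ∈ h.WW) (g : G) :
    tau p g (a * b) = tau p g a * tau p g b := by
  unfold tau
  have hca : cm (cm a g) g ∈ zpowers z := cm_cm_mem_Z h ha g
  have hcb : cm (cm b g) g ∈ zpowers z := cm_cm_mem_Z h hb g
  have e1 : Commute (cm (cm a g) g) (cm (cm b g) g) := (h.Z_comm hcb _)
  have e2 : Commute a b := h.W_comm ha hb
  rw [cm_mul_W h ha hb, cm_mul_N h (h.cm_W_mem_N ha g), e1.mul_pow, e2.mul_pow]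
  have e3 : ∀ t : G, t * cm (cm a g) g ^ p.choose 3 = cm (cm a g) g ^ p.choose 3 * t :=
    fun t => h.Z_comm (pow_mem hca _) t
  calc a ^ p * b ^ p * (cm (cm a g) g ^ p.choose 3 * cm (cm b g) g ^ p.choose 3)
      = a ^ p * (b ^ p * cm (cm a g) g ^ p.choose 3) * cm (cm b g) g ^ p.choose 3 := by
        simp only [mul_assoc]
    _ = a ^ p * (cm (cm a g) g ^ p.choose 3 * b ^ p) * cm (cm b g) g ^ p.choose 3 := by rw [e3]
    _ = _ := by simp only [mul_assoc]

theorem tau_N {n : G} (hn : n ∈ NN z y) (g : G) : tau p g n = 1 := by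
  unfold tau
  have h1 : cm (cm n g) g = 1 := by
    rw [cm_eq_one_iff]
    exact (h.Z_comm (h.cm_N_mem hn g) g).symm
  rw [h.N_pow hn, h1, one_pow, one_mul]

theorem tau_pow {w : G} (hw : w ∈ h.WW) (g : G) (i : ℕ) : tau p g (w ^ i) = tau p g w ^ i := by
  induction i with
  | zero =>
    rw [pow_zero, pow_zero]
    exact tau_N h (one_mem _) g
  | succ i ih => rw [pow_succ, tau_mul h (pow_mem hw i) hw, ih, pow_succ]

theorem tau_decomp {w : G} (hw : w ∈ h.WW) {n : G} (hn : n ∈ NN z y) (g : G) (i : ℕ) :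
    tau p g (w ^ i * n) = tau p g w ^ i := by
  rw [tau_mul h (pow_mem hw i) (h.N_le_W hn), tau_pow h hw, tau_N h hn, mul_one]

/-- if `tau w ≠ 1` then the kernel of `tau` on `W` is `N` -/
theorem mem_N_of_tau {w : G} (hw : w ∈ h.WW) (hwN : w ∉ NN z y) {g : G} (hτ : tau p g w ≠ 1)
    {u : G} (hu : u ∈ h.WW) (hτu : tau p g u = 1) : u ∈ NN z y := by
  obtain ⟨i, n, hn, rfl⟩ := h.W_decomp hw hwN hu
  rw [tau_decomp h hw hn] at hτu
  have h1 : p ∣ i := dvd_of_pow_eq_one p (h.Z_pow (tau_mem_Z h hw g)) hτ hτu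
  obtain ⟨k, rfl⟩ := h1
  rw [pow_mul]
  exact mul_mem (pow_mem (h.Z_le_N hw.2) k) hn

/-- for `g' = g a` with `a ∈ W`, `tau` does not change -/
theorem cm_W_mul {u a : G} (hu : u ∈ h.WW) (ha : a ∈ h.WW) (g : G) : cm u (g * a) = cm u g := by
  have h1 : (g * a)⁻¹ * u * (g * a) = a⁻¹ * (g⁻¹ * u * g) * a := by group
  have h2 : a⁻¹ * (g⁻¹ * u * g) * a = g⁻¹ * u * g := by
    rw [mul_assoc, h.W_comm (h.W_conj hu g) ha, ← mul_assoc, inv_mul_cancel, one_mul]
  unfold cm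
  rw [h1, h2]

theorem tau_mul_right {u a : G} (hu : u ∈ h.WW) (ha : a ∈ h.WW) (g : G) :
    tau p (g * a) u = tau p g u := by
  unfold tau
  rw [cm_W_mul h hu ha, cm_W_mul h (h.N_le_W (h.cm_W_mem_N hu g)) ha]

end tau

end Cfsg.Agent.Lib.Helper45_RankTwoPow
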