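import Mathlib
import Cfsg.Agent.Lib.Helper20_PGroupOdd
import Cfsg.Agent.Lib.Helper45_RankTwoSetup
import Cfsg.Agent.Lib.Helper45_RankTwoPow
import Cfsg.Agent.Lib.Helper1_Transport
import Cfsg.Agent.S0112

/-!
# Odd `p`-groups of rank two: an element `g ∉ L` with `g ^ p ∈ ⟨z⟩`

In the setting `Ctx` with `L ≠ N` and `g ∉ L`, `g ^ p ∈ ⟨z⟩`, pick `w ∈ W ∖ N`.  Either
`tau g w = 1`, and then `p = 3` and `G` has maximal class; or there is `x ∉ L` of order `p` such
that every commutator `[v, x]` lying in `W` lies in `N`.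
-/

set_option autoImplicit false
set_option linter.unusedVariables false
set_option linter.unusedSectionVars false

namespace Cfsg.Agent.Lib.Helper45_RankTwoB1

open Cfsg Subgroup Cfsg.Agent.Lib.Helper20_PGroupOdd Cfsg.Agent.Lib.Helper45_RankTwoSetup
  Cfsg.Agent.Lib.Helper45_RankTwoPow

variable {p : ℕ} [hpf : Fact p.Prime] {G : Type*} [Group G] [Finite G] {z y : G}

section basic

variable (h : Ctx p G z y)
include h

theorem cj_mem_L {a : G} (ha : a ∈ LL y) (g : G) : g⁻¹ * a * g ∈ LL y := by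
  have := h.L_normal.conj_mem a ha g⁻¹
  simpa using this

theorem cm_mem_L' {a : G} (ha : a ∈ LL y) (g : G) : cm a g ∈ LL y :=
  mul_mem (inv_mem ha) (cj_mem_L h ha g)

/-- `[a, g]^p = [a^p, g]` for `a ∈ L` with `a ^ p ∈ N` -/
theorem cm_pow_eq {a : G} (ha : a ∈ LL y) (hap : a ^ p ∈ NN z y) (g : G) :
    cm a g ^ p = cm (a ^ p) g := by
  unfold cm
  have h3 : (a⁻¹) ^ p ∈ NN z y := by
    rw [inv_pow]
    exact inv_mem hap
  rw [h.L_mul_pow (inv_mem ha) (cj_mem_L h ha g) h3, inv_pow, cj_pow]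

theorem cm_pow_N {n : G} (hn : n ∈ NN z y) (g : G) (i : ℕ) : cm (n ^ i) g = cm n g ^ i := by
  induction i with
  | zero => rw [pow_zero, pow_zero, cm_one_left]
  | succ i ih => rw [pow_succ, cm_mul_N h (pow_mem hn i), ih, pow_succ]

theorem cm_pow_W {w : G} (hw : w ∈ h.WW) (g : G) (i : ℕ) : cm (w ^ i) g = cm w g ^ i := by
  induction i with
  | zero => rw [pow_zero, pow_zero, cm_one_left]
  | succ i ih => rw [pow_succ, cm_mul_W h (pow_mem hw i) hw, ih, pow_succ]

/-- if `L ≠ N` and `y` is not central then `W ≠ N` -/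
theorem exists_W_not_N (hLN : ¬ LL y ≤ NN z y) {g : G} (hg : g * y ≠ y * g) :
    ∃ w ∈ h.WW, w ∉ NN z y := by
  obtain ⟨a, haL, haN⟩ := SetLike.not_le_iff_exists.mp hLN
  have hex : ∃ k : ℕ, a ^ p ^ k ∈ NN z y := by
    obtain ⟨k, hk⟩ := h.pgroup a
    exact ⟨k, by rw [hk]; exact one_mem _⟩
  classical
  have hk0 : Nat.find hex ≠ 0 := by
    intro h0
    have := Nat.find_spec hex
    rw [h0, pow_zero, pow_one] at this
    exact haN this
  obtain ⟨k, hk⟩ := Nat.exists_eq_succ_of_ne_zero hk0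
  have h1 : a ^ p ^ k ∉ NN z y := Nat.find_min hex (by rw [hk]; exact Nat.lt_succ_self k)
  have h2 : (a ^ p ^ k) ^ p ∈ NN z y := by
    have := Nat.find_spec hex
    rwa [hk, pow_succ, pow_mul] at this
  have h3 : a ^ p ^ k ∈ LL y := pow_mem haL _
  by_cases h4 : (a ^ p ^ k) ^ p ∈ zpowers z
  · exact ⟨a ^ p ^ k, ⟨h3, h4⟩, h1⟩
  · have h5 : cm (a ^ p ^ k) g ^ p = cm ((a ^ p ^ k) ^ p) g := cm_pow_eq h h3 h2 g
    have h6 : cm ((a ^ p ^ k) ^ p) g ≠ 1 := h.not_mem_Z_of_not_comm h2 hg h4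
    refine ⟨cm (a ^ p ^ k) g, ⟨cm_mem_L' h h3 g, ?_⟩, ?_⟩
    · rw [h5]
      exact h.cm_N_mem h2 g
    · intro h7
      apply h6
      rw [← h5]
      exact h.N_pow h7

end basic

/-! ### the case `tau g w ≠ 1` -/

section order_p

variable (h : Ctx p G z y)
include h

theorem exists_order_p {g w : G} (hg : g ∉ LL y) (hgp : g ^ p ∈ zpowers z) (hw : w ∈ h.WW)
    (hwN : w ∉ NN z y) (hτ : tau p g w ≠ 1) :
    ∃ x : G, x ∉ LL y ∧ x ^ p = 1 ∧ ∀ v : G, cm v x ∈ h.WW → cm v x ∈ NN z y := by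
  obtain ⟨i, hi⟩ := h.exists_pow_eq (tau_mem_Z h hw g) hτ (inv_mem hgp)
  have ha : w ^ i ∈ h.WW := pow_mem hw i
  have hxp : (g * w ^ i) ^ p = 1 := by
    rw [mul_pow_W h ha g, tau_pow h hw, hi, mul_inv_cancel]
  refine ⟨g * w ^ i, ?_, hxp, ?_⟩
  · intro hx
    apply hg
    have h1 : g = g * w ^ i * (w ^ i)⁻¹ := by group
    rw [h1]
    exact mul_mem hx (inv_mem ha.1)
  · intro v hv
    have h1 := conj_pow_W h hv
    rw [hxp, inv_one, one_mul, mul_one] at h1
    have h2 : tau p (g * w ^ i) (cm v (g * w ^ i)) = 1 := by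
      have h3 : v * 1 = v * tau p (g * w ^ i) (cm v (g * w ^ i)) := by rw [mul_one]; exact h1
      exact (mul_left_cancel h3).symm
    rw [tau_mul_right h hv ha] at h2
    exact mem_N_of_tau h hw hwN hτ hv h2

end order_p

/-! ### the case `tau g w = 1` -/

section maxclass

variable (h : Ctx p G z y)
include h

theorem eq_three_of_tau {g w : G} (hw : w ∈ h.WW) (hwN : w ∉ NN z y) (hτ : tau p g w = 1) :
    p = 3 := by
  by_contra hp3
  have hpP := hpf.out
  have h5 : 3 < p := by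
    have h2 := hpP.two_le
    have := h.hp2
    omega
  obtain ⟨k, hk⟩ := hpP.dvd_choose_self (by norm_num : (3 : ℕ) ≠ 0) h5
  unfold tau at hτ
  rw [hk, pow_mul, h.Z_pow (cm_cm_mem_Z h hw g), one_pow, mul_one] at hτ
  exact hwN (h.omega_L hw.1 hτ)

theorem cm_not_mem_Z_of_tau {g w : G} (hw : w ∈ h.WW) (hwN : w ∉ NN z y)
    (hτ : tau p g w = 1) : cm w g ∉ zpowers z := by
  intro hb
  have h1 : cm (cm w g) g = 1 := by
    rw [cm_eq_one_iff]
    exact (h.Z_comm hb g).symm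
  unfold tau at hτ
  rw [h1, one_pow, mul_one] at hτ
  exact hwN (h.omega_L hw.1 hτ)

theorem centralizer_L_le {g w : G} (hg : g ∉ LL y) (hw : w ∈ h.WW) (hwN : w ∉ NN z y)
    (hb : cm w g ∉ zpowers z) :
    ∀ k : ℕ, ∀ v ∈ LL y, v * g = g * v → v ^ p ^ k ∈ zpowers z → v ∈ zpowers z := by
  intro k
  induction k with
  | zero =>
    intro v _ _ hv
    simpa using hv
  | succ k ih =>
    intro v hvL hvg hv
    have hvp : v ^ p ∈ zpowers z := by
      apply ih (v ^ p) (pow_mem hvL p) (Commute.pow_left hvg p)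
      rw [← pow_mul, ← pow_succ']
      exact hv
    have hvW : v ∈ h.WW := ⟨hvL, hvp⟩
    obtain ⟨i, n, hn, rfl⟩ := h.W_decomp hw hwN hvW
    have hgy : g * y ≠ y * g := fun h0 => hg (mem_LL.mpr h0)
    have h1 : cm (w ^ i * n) g = 1 := cm_eq_one_iff.mpr hvg
    rw [cm_mul_W h (pow_mem hw i) (h.N_le_W hn), cm_pow_W h hw] at h1
    have h2 : cm w g ^ i ∈ zpowers z := by
      have h3 : cm w g ^ i = (cm n g)⁻¹ := eq_inv_of_mul_eq_one_left h1
      rw [h3]
      exact inv_mem (h.cm_N_mem hn g)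
    have h3 : p ∣ i := by
      by_contra hi
      have hi' : ¬ (p : ℤ) ∣ (i : ℤ) := by rwa [Int.natCast_dvd_natCast]
      obtain ⟨j, hj⟩ := exists_zpow_eq_of_not_dvd p (h.N_pow (h.cm_W_mem_N hw g)) hi'
      apply hb
      rw [← hj, zpow_natCast]
      exact zpow_mem h2 j
    obtain ⟨t, rfl⟩ := h3
    have h4 : w ^ (p * t) * n ∈ NN z y := by
      rw [pow_mul]
      exact mul_mem (pow_mem (h.Z_le_N hw.2) t) hn
    exact h.mem_Z_of_comm h4 hgy hvg

theorem maxclass {n : ℕ} (hG : Nat.card G = p ^ n) {g w : G} (hg : g ∉ LL y)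
    (hgp : g ^ p ∈ zpowers z) (hw : w ∈ h.WW) (hwN : w ∉ NN z y) (hτ : tau p g w = 1) :
    p = 3 ∧ Group.nilpotencyClass G = n - 1 := by
  refine ⟨eq_three_of_tau h hw hwN hτ, ?_⟩
  have hb := cm_not_mem_Z_of_tau h hw hwN hτ
  have hCL : ∀ v ∈ LL y, v * g = g * v → v ∈ zpowers z := by
    intro v hvL hvg
    obtain ⟨k, hk⟩ := h.pgroup v
    exact centralizer_L_le h hg hw hwN hb k v hvL hvg (by rw [hk]; exact one_mem _)
  have hZn : (zpowers z).Normal := h.Z_normal
  have hmk : ∀ a : G, ((a : G ⧸ zpowers z) = 1) ↔ a ∈ zpowers z := fun a =>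
    QuotientGroup.eq_one_iff a
  set A : Subgroup G :=
    (zpowers (g : G ⧸ zpowers z)).comap (QuotientGroup.mk' (zpowers z)) with hA
  have hgZ : g ∉ zpowers z := fun h0 => hg (h.Z_le_L h0)
  have hord : orderOf (g : G ⧸ zpowers z) = p := by
    apply orderOf_eq_prime
    · rw [← QuotientGroup.mk_pow, hmk]
      exact hgp
    · rw [Ne, hmk]
      exact hgZ
  have hcardA : Nat.card A = p ^ 2 := by
    rw [hA, Cfsg.Agent.Lib.Helper1_Transport.card_comap_mk', Nat.card_zpowers, hord, h.card_Z, sq]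
  have hgA : g ∈ A := by
    rw [hA, mem_comap]
    exact mem_zpowers _
  have hAdec : ∀ a ∈ A, ∃ i : ℤ, ∃ c ∈ zpowers z, a = g ^ i * c := by
    intro a ha
    rw [hA, mem_comap] at ha
    obtain ⟨i, hi⟩ := mem_zpowers_iff.mp ha
    rw [QuotientGroup.mk'_apply, ← QuotientGroup.mk_zpow] at hi
    exact ⟨i, (g ^ i)⁻¹ * a, QuotientGroup.eq.mp hi, by group⟩
  have hcent : centralizer (A : Set G) = A := by
    apply le_antisymm
    · intro v hv
      have hvg : v * g = g * v := (mem_centralizer_iff.mp hv g hgA).symm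
      obtain ⟨i, hi⟩ := h.exists_mul_pow_mem hg v
      have h1 : v * g ^ i * g = g * (v * g ^ i) := by
        rw [mul_assoc, ← pow_succ, pow_succ', ← mul_assoc, hvg, mul_assoc]
      have h2 : v * g ^ i ∈ zpowers z := hCL _ hi h1
      rw [hA, mem_comap, QuotientGroup.mk'_apply]
      have h3 : (v : G ⧸ zpowers z) = ((g : G ⧸ zpowers z) ^ i)⁻¹ := by
        have h4 := (hmk _).mpr h2
        rw [QuotientGroup.mk_mul, QuotientGroup.mk_pow] at h4
        exact eq_inv_of_mul_eq_one_left h4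
      rw [h3]
      exact inv_mem (pow_mem (mem_zpowers _) i)
    · intro a ha
      rw [mem_centralizer_iff]
      intro b hb
      obtain ⟨i, c, hc, rfl⟩ := hAdec a ha
      obtain ⟨j, d, hd, rfl⟩ := hAdec b hb
      have e1 : g ^ i * g ^ j = g ^ j * g ^ i := by rw [← zpow_add, ← zpow_add, add_comm]
      calc g ^ j * d * (g ^ i * c) = g ^ j * (d * g ^ i) * c := by simp only [mul_assoc]
        _ = g ^ j * (g ^ i * d) * c := by rw [← h.Z_comm hd]
        _ = (g ^ j * g ^ i) * (d * c) := by simp only [mul_assoc]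
        _ = (g ^ i * g ^ j) * (c * d) := by rw [e1, h.Z_comm hd c]
        _ = g ^ i * (g ^ j * c) * d := by simp only [mul_assoc]
        _ = g ^ i * (c * g ^ j) * d := by rw [h.Z_comm hc]
        _ = g ^ i * c * (g ^ j * d) := by simp only [mul_assoc]
  exact Cfsg.Agent.S0112.result n hG A hcardA hcent

end maxclass

end Cfsg.Agent.Lib.Helper45_RankTwoB1
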