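import Mathlib
import Cfsg.Agent.Lib.Helper20_PGroupOdd
import Cfsg.Agent.Lib.Helper45_RankTwoSetup
import Cfsg.Agent.Lib.Helper45_RankTwoPow
import Cfsg.Agent.Lib.Helper45_RankTwoB1
import Cfsg.Agent.Lib.Helper1_Transport

/-!
# Odd `p`-groups of rank two: the two exceptional families

In the setting `Ctx`, let `x ∉ L` have order `p` and suppose that every commutator `[v, x]` lying
in `W` lies in `N`.  Then `L / N` is cyclic, `L` is abelian, and `G` belongs to one of the two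
families of Blackburn's theorem.
-/

set_option autoImplicit false
set_option linter.unusedVariables false
set_option linter.unusedSectionVars false

namespace Cfsg.Agent.Lib.Helper45_RankTwoFam

open Cfsg Subgroup Cfsg.Agent.Lib.Helper20_PGroupOdd Cfsg.Agent.Lib.Helper45_RankTwoSetup
  Cfsg.Agent.Lib.Helper45_RankTwoPow Cfsg.Agent.Lib.Helper45_RankTwoB1

variable {p : ℕ} [hpf : Fact p.Prime] {G : Type*} [Group G] [Finite G] {z y : G}

section KL

variable (h : Ctx p G z y) {x : G} (hx : x ∉ LL y)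
  (hKL : ∀ v : G, cm v x ∈ h.WW → cm v x ∈ NN z y)
include h hx hKL

/-- no element of `L` has its `p`-th power in `N ∖ ⟨z⟩` -/
theorem pow_mem_Z {u : G} (hu : u ∈ LL y) (hup : u ^ p ∈ NN z y) : u ^ p ∈ zpowers z := by
  by_contra hz
  have hxy : x * y ≠ y * x := fun h0 => hx (mem_LL.mpr h0)
  have h1 : cm u x ^ p = cm (u ^ p) x := cm_pow_eq h hu hup x
  have h2 : cm (u ^ p) x ≠ 1 := h.not_mem_Z_of_not_comm hup hxy hz
  have h3 : cm u x ∈ h.WW := ⟨cm_mem_L' h hu x, by rw [h1]; exact h.cm_N_mem hup x⟩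
  have h4 := hKL u h3
  apply h2
  rw [← h1]
  exact h.N_pow h4

/-- `L / N` is cyclic: a generator -/
theorem exists_gen : ∃ c ∈ LL y, ∃ m : ℕ,
    (∀ a ∈ LL y, ∃ i : ℕ, ∃ n ∈ NN z y, a = c ^ i * n) ∧ Nat.card (LL y) = p ^ (m + 2) ∧
      c ^ p ^ m ∈ zpowers z ∧ c ^ p ^ m ≠ 1 := by
  have hpP : p.Prime := hpf.out
  have hNn : (NN z y).Normal := h.N_normal
  have hNLn : ((NN z y).subgroupOf (LL y)).Normal := inferInstance
  have hQ : IsPGroup p (↥(LL y) ⧸ (NN z y).subgroupOf (LL y)) := h.pgroup_L.to_quotient _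
  have hmkpow : ∀ (a : ↥(LL y)) (k : ℕ),
      ((a : ↥(LL y) ⧸ (NN z y).subgroupOf (LL y)) ^ k = 1) ↔ (a : G) ^ k ∈ NN z y := by
    intro a k
    rw [← QuotientGroup.mk_pow, QuotientGroup.eq_one_iff, mem_subgroupOf, Subgroup.coe_pow]
  have hcardNL : Nat.card ((NN z y).subgroupOf (LL y)) = p ^ 2 := by
    rw [Nat.card_congr (Subgroup.subgroupOfEquivOfLe h.N_le_L).toEquiv, h.card_N]
  have hcyc : IsCyclic (↥(LL y) ⧸ (NN z y).subgroupOf (LL y)) := by
    by_contra hnc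
    have hnc' : ¬ IsCyclic (⊤ : Subgroup (↥(LL y) ⧸ (NN z y).subgroupOf (LL y))) := by
      intro hc
      apply hnc
      exact isCyclic_of_surjective
        (Subgroup.topEquiv (G := ↥(LL y) ⧸ (NN z y).subgroupOf (LL y))).toMonoidHom
        (Subgroup.topEquiv (G := ↥(LL y) ⧸ (NN z y).subgroupOf (LL y))).surjective
    obtain ⟨A, -, -, -, hAexp, hAcard⟩ :=
      Cfsg.Agent.Lib.Helper20_PGroupOdd.exists_normal_rank_two h.hp2 hQ ⊤ hnc'
    have hle : A ≤ (h.WW.subgroupOf (LL y)).map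
        (QuotientGroup.mk' ((NN z y).subgroupOf (LL y))) := by
      intro q hq
      induction q using QuotientGroup.induction_on with
      | H a =>
        have h1 := (hmkpow a p).mp (hAexp _ hq)
        have h2 := pow_mem_Z h hx hKL a.2 h1
        exact ⟨a, mem_subgroupOf.mpr ⟨a.2, h2⟩, rfl⟩
    have hc1 := Subgroup.card_le_of_le hle
    have hNW : (NN z y).subgroupOf (LL y) ≤ h.WW.subgroupOf (LL y) := by
      intro a ha
      rw [mem_subgroupOf] at ha ⊢
      exact h.N_le_W ha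
    have hc2 := Cfsg.Agent.Lib.Helper1_Transport.card_map_mk'_of_le
      ((NN z y).subgroupOf (LL y)) (h.WW.subgroupOf (LL y)) hNW
    have hc3 : Nat.card (h.WW.subgroupOf (LL y)) = Nat.card h.WW :=
      Nat.card_congr (Subgroup.subgroupOfEquivOfLe h.W_le_L).toEquiv
    rw [hcardNL, hc3] at hc2
    have hc4 := h.card_W_le
    rw [hAcard] at hc1
    have hc5 : p ^ 2 * p ^ 2 ≤ p ^ 3 := by
      calc p ^ 2 * p ^ 2 ≤ _ * p ^ 2 := Nat.mul_le_mul_right _ hc1
        _ = Nat.card h.WW := hc2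
        _ ≤ p ^ 3 := hc4
    have hc6 : p ^ 3 < p ^ 2 * p ^ 2 := by
      rw [← pow_add]
      exact Nat.pow_lt_pow_right hpP.one_lt (by norm_num)
    omega
  obtain ⟨q₀, hq₀⟩ := IsCyclic.exists_generator (α := ↥(LL y) ⧸ (NN z y).subgroupOf (LL y))
  obtain ⟨m, hm⟩ := IsPGroup.iff_orderOf.mp hQ q₀
  have hcardQ : Nat.card (↥(LL y) ⧸ (NN z y).subgroupOf (LL y)) = p ^ m := by
    rw [← hm]
    exact (orderOf_eq_card_of_forall_mem_zpowers hq₀).symm
  have hcardL : Nat.card (LL y) = p ^ (m + 2) := by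
    rw [Subgroup.card_eq_card_quotient_mul_card_subgroup ((NN z y).subgroupOf (LL y)), hcardQ,
      hcardNL, pow_add]
  induction q₀ using QuotientGroup.induction_on with
  | H c₀ =>
  rcases Nat.eq_zero_or_pos m with hm0 | hm0
  · -- `L = N`
    subst hm0
    have hLN : LL y ≤ NN z y := by
      have h1 : Nat.card (LL y) = Nat.card (NN z y) := by rw [hcardL, h.card_N]
      have h2 := Subgroup.eq_of_le_of_card_ge h.N_le_L (le_of_eq h1)
      rw [h2]
    refine ⟨z, h.Z_le_L (mem_zpowers z), 0, ?_, hcardL, ?_, ?_⟩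
    · intro a ha
      exact ⟨0, a, hLN ha, by rw [pow_zero, one_mul]⟩
    · rw [pow_zero, pow_one]
      exact mem_zpowers z
    · rw [pow_zero, pow_one]
      exact h.z_ne_one
  · refine ⟨(c₀ : G), c₀.2, m, ?_, hcardL, ?_, ?_⟩
    · intro a ha
      have h1 : ((⟨a, ha⟩ : ↥(LL y)) : ↥(LL y) ⧸ (NN z y).subgroupOf (LL y)) ∈
          zpowers ((c₀ : ↥(LL y)) : ↥(LL y) ⧸ (NN z y).subgroupOf (LL y)) := hq₀ _
      rw [← mem_powers_iff_mem_zpowers] at h1
      obtain ⟨i, hi⟩ := (Submonoid.mem_powers_iff _ _).mp h1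
      rw [← QuotientGroup.mk_pow] at hi
      have h2 := QuotientGroup.eq.mp hi
      rw [mem_subgroupOf] at h2
      refine ⟨i, _, h2, ?_⟩
      simp
    · have h1 : (c₀ : G) ^ p ^ m ∈ NN z y := by
        rw [← hmkpow, ← hm]
        exact pow_orderOf_eq_one _
      have h2 : p ^ m = p ^ (m - 1) * p := by
        rw [← pow_succ]
        congr 1
        omega
      rw [h2, pow_mul] at h1 ⊢
      exact pow_mem_Z h hx hKL (pow_mem c₀.2 _) h1
    · have h2 : p ^ m = p ^ (m - 1) * p := by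
        rw [← pow_succ]
        congr 1
        omega
      have h3 : (c₀ : G) ^ p ^ (m - 1) ∉ NN z y := by
        rw [← hmkpow]
        apply pow_ne_one_of_lt_orderOf (pow_ne_zero _ hpP.ne_zero)
        rw [hm]
        exact Nat.pow_lt_pow_right hpP.one_lt (by omega)
      intro h4
      rw [h2, pow_mul] at h4
      exact h3 (h.omega_L (pow_mem c₀.2 _) h4)

end KL

section gen

variable (h : Ctx p G z y) {c : G} (hc : c ∈ LL y)
  (hgen : ∀ a ∈ LL y, ∃ i : ℕ, ∃ n ∈ NN z y, a = c ^ i * n)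
include h hc hgen

/-- `L` is abelian -/
theorem L_comm {a b : G} (ha : a ∈ LL y) (hb : b ∈ LL y) : a * b = b * a := by
  obtain ⟨i, n, hn, rfl⟩ := hgen a ha
  obtain ⟨j, m, hm, rfl⟩ := hgen b hb
  have h1 : ∀ k : ℕ, c ^ k ∈ LL y := fun k => pow_mem hc k
  have e1 : n * c ^ j = c ^ j * n := (h.L_comm_N (h1 j) hn).symm
  have e2 : m * c ^ i = c ^ i * m := (h.L_comm_N (h1 i) hm).symm
  have e3 : n * m = m * n := h.N_comm hn hm
  have e4 : c ^ i * c ^ j = c ^ j * c ^ i := by rw [← pow_add, ← pow_add, add_comm]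
  calc c ^ i * n * (c ^ j * m) = c ^ i * (n * c ^ j) * m := by simp only [mul_assoc]
    _ = c ^ i * (c ^ j * n) * m := by rw [e1]
    _ = (c ^ i * c ^ j) * (n * m) := by simp only [mul_assoc]
    _ = (c ^ j * c ^ i) * (m * n) := by rw [e3, e4]
    _ = c ^ j * (c ^ i * m) * n := by simp only [mul_assoc]
    _ = c ^ j * (m * c ^ i) * n := by rw [e2]
    _ = c ^ j * m * (c ^ i * n) := by simp only [mul_assoc]

theorem cm_pow_L {v : G} (hv : v ∈ LL y) (g : G) : cm v g ^ p = cm (v ^ p) g := by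
  unfold cm
  have h1 : Commute v⁻¹ (g⁻¹ * v * g) := L_comm h hc hgen (inv_mem hv) (cj_mem_L h hv g)
  rw [h1.mul_pow, inv_pow, cj_pow]

end gen

section KL2

variable (h : Ctx p G z y) {x : G} (hx : x ∉ LL y)
  (hKL : ∀ v : G, cm v x ∈ h.WW → cm v x ∈ NN z y) {c : G} (hc : c ∈ LL y)
  (hgen : ∀ a ∈ LL y, ∃ i : ℕ, ∃ n ∈ NN z y, a = c ^ i * n)
include h hx hKL hc hgen

/-- `[L, x] ≤ N` -/
theorem cm_L_mem_N_aux : ∀ k : ℕ, ∀ v ∈ LL y, v ^ p ^ k = 1 → cm v x ∈ NN z y := by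
  intro k
  induction k with
  | zero =>
    intro v _ hv
    rw [pow_zero, pow_one] at hv
    rw [hv, cm_one_left]
    exact one_mem _
  | succ k ih =>
    intro v hv hvp
    have h1 : cm (v ^ p) x ∈ NN z y := by
      apply ih (v ^ p) (pow_mem hv p)
      rw [← pow_mul, ← pow_succ']
      exact hvp
    rw [← cm_pow_L h hc hgen hv x] at h1
    have h2 : cm v x ∈ LL y := cm_mem_L' h hv x
    have h3 := pow_mem_Z h hx hKL h2 h1
    exact hKL v ⟨h2, h3⟩

theorem cm_L_mem_N {v : G} (hv : v ∈ LL y) : cm v x ∈ NN z y := by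
  obtain ⟨k, hk⟩ := h.pgroup v
  exact cm_L_mem_N_aux h hx hKL hc hgen k v hv hk

end KL2

end Cfsg.Agent.Lib.Helper45_RankTwoFam
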