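import Mathlib
import Cfsg.Agent.Lib.Helper20_PGroupOdd
import Cfsg.Agent.Lib.Helper45_RankTwoSetup
import Cfsg.Agent.Lib.Helper45_RankTwoPow
import Cfsg.Agent.Lib.Helper45_RankTwoB1

/-!
# Odd `p`-groups of rank two: presentation of the two exceptional families

In the setting `Ctx`, let `x ∉ L` have order `p`, `L = ⟨c⟩ N` with `[c, x] ∈ N` and
`c ^ (p ^ m) ∈ ⟨z⟩` nontrivial.  Then `G` has generators satisfying the relations of one of the
two families of Blackburn's theorem.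
-/

set_option autoImplicit false
set_option linter.unusedVariables false
set_option linter.unusedSectionVars false

namespace Cfsg.Agent.Lib.Helper45_RankTwoFinal

open Cfsg Subgroup Cfsg.Agent.Lib.Helper20_PGroupOdd Cfsg.Agent.Lib.Helper45_RankTwoSetup
  Cfsg.Agent.Lib.Helper45_RankTwoPow Cfsg.Agent.Lib.Helper45_RankTwoB1

variable {p : ℕ} [hpf : Fact p.Prime] {G : Type*} [Group G] [Finite G] {z y : G}

section closure

variable (h : Ctx p G z y) {c : G}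
  (hgen : ∀ a ∈ LL y, ∃ i : ℕ, ∃ n ∈ NN z y, a = c ^ i * n)
include h hgen

theorem closure_eq_top' {m : ℕ} {x' y' z' : G} (hx' : x' ∉ LL y) (hy'N : y' ∈ NN z y)
    (hy'Z : y' ∉ zpowers z) (hz1 : z' ^ p ^ m ∈ zpowers z) (hz2 : z' ^ p ^ m ≠ 1)
    (hcz : ∃ n ∈ NN z y, c * n ∈ closure ({x', y', z'} : Set G)) :
    closure ({x', y', z'} : Set G) = ⊤ := by
  have hx'H : x' ∈ closure ({x', y', z'} : Set G) := subset_closure (by simp)
  have hy'H : y' ∈ closure ({x', y', z'} : Set G) := subset_closure (by simp)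
  have hz'H : z' ∈ closure ({x', y', z'} : Set G) := subset_closure (by simp)
  have hN : NN z y ≤ closure ({x', y', z'} : Set G) :=
    h.N_le_of_mem hy'N hy'Z hz1 hz2 hy'H (pow_mem hz'H _)
  obtain ⟨n, hn, hcn⟩ := hcz
  have hcH : c ∈ closure ({x', y', z'} : Set G) := by
    have h1 : c = c * n * n⁻¹ := by group
    rw [h1]
    exact mul_mem hcn (inv_mem (hN hn))
  apply h.eq_top_of_le hx' _ hx'H
  intro a ha
  obtain ⟨i, n', hn', rfl⟩ := hgen a ha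
  exact mul_mem (pow_mem hcH i) (hN hn')

end closure

section final

variable (h : Ctx p G z y) {x : G} (hx : x ∉ LL y) (hxp : x ^ p = 1) {c : G} (hc : c ∈ LL y)
  (hgen : ∀ a ∈ LL y, ∃ i : ℕ, ∃ n ∈ NN z y, a = c ^ i * n) {m : ℕ}
  (hc1 : c ^ p ^ m ∈ zpowers z) (hc2 : c ^ p ^ m ≠ 1)
include h hx hxp hc hgen hc1 hc2

theorem one_le_m (hd1 : cm c x ≠ 1) : 1 ≤ m := by
  by_contra hm0
  have hm : m = 0 := by omega
  subst hm
  rw [pow_zero, pow_one] at hc1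
  apply hd1
  rw [cm_eq_one_iff]
  exact (h.Z_comm hc1 x).symm

theorem familyB (hd : cm c x ∈ zpowers z) :
    ∃ x' y' z' : G, closure ({x', y', z'} : Set G) = ⊤ ∧ x' ^ p = 1 ∧ y' ^ p = 1 ∧
      z' ^ p ^ (m + 1) = 1 ∧ x' * z' = z' * x' ∧ y' * z' = z' * y' ∧
      x'⁻¹ * y' * x' = y' * z' ^ p ^ m := by
  have hxy : x * y ≠ y * x := fun h0 => hx (mem_LL.mpr h0)
  have hyx1 : cm y x ≠ 1 := by
    rw [Ne, cm_eq_one_iff]
    exact fun h0 => hxy h0.symm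
  have hyxZ := h.cm_y_mem x
  -- the central generator
  obtain ⟨c', hc'L, hc'x, hc'p, n₀, hn₀, hcn₀⟩ : ∃ c' ∈ LL y, cm c' x = 1 ∧
      c' ^ p ^ m = c ^ p ^ m ∧ ∃ n ∈ NN z y, c * n = c' := by
    by_cases hd1 : cm c x = 1
    · exact ⟨c, hc, hd1, rfl, 1, one_mem _, mul_one c⟩
    · have hm1 : 1 ≤ m := one_le_m h hx hxp hc hgen hc1 hc2 hd1
      obtain ⟨i, hi⟩ := h.exists_pow_eq hyxZ hyx1 (inv_mem hd)
      have hn : y ^ i ∈ NN z y := pow_mem h.y_mem_N i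
      refine ⟨c * y ^ i, mul_mem hc (h.N_le_L hn), ?_, ?_, y ^ i, hn, rfl⟩
      · rw [cm_mul_left (h.Z_comm hd (y ^ i)).symm, cm_pow_N h h.y_mem_N, hi, mul_inv_cancel]
      · have e1 : Commute c (y ^ i) := h.L_comm_N hc hn
        have e2 : p ^ m = p * p ^ (m - 1) := by
          rw [← pow_succ']
          congr 1
          omega
        have e3 : (y ^ i) ^ p ^ m = 1 := by rw [e2, pow_mul, h.N_pow hn, one_pow]
        rw [e1.mul_pow, e3, mul_one]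
  obtain ⟨j, hj⟩ := h.exists_pow_eq hyxZ hyx1 hc1
  have hy'N : y ^ j ∈ NN z y := pow_mem h.y_mem_N j
  have hy'x : cm (y ^ j) x = c ^ p ^ m := by rw [cm_pow_N h h.y_mem_N, hj]
  have hy'Z : y ^ j ∉ zpowers z := by
    intro h0
    apply hc2
    rw [← hy'x, cm_eq_one_iff]
    exact (h.Z_comm h0 x).symm
  refine ⟨x, y ^ j, c', ?_, hxp, h.N_pow hy'N, ?_, ?_, ?_, ?_⟩
  · apply closure_eq_top' h hgen hx hy'N hy'Z (m := m) (by rw [hc'p]; exact hc1)
      (by rw [hc'p]; exact hc2)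
    exact ⟨n₀, hn₀, by rw [hcn₀]; exact subset_closure (by simp)⟩
  · rw [pow_succ, pow_mul, hc'p]
    exact h.Z_pow hc1
  · exact (cm_eq_one_iff.mp hc'x).symm
  · exact (h.L_comm_N hc'L hy'N).symm
  · rw [conj_eq, hy'x, hc'p]

theorem familyC_aux (hd : cm c x ∈ NN z y) (hdZ : cm c x ∉ zpowers z) {k s : ℕ} (hk : ¬ p ∣ k)
    (hs : (c ^ p ^ m) ^ s = cm (cm c x) x ^ (k * k)) :
    ∃ x' y' z' : G, closure ({x', y', z'} : Set G) = ⊤ ∧ x' ^ p = 1 ∧ y' ^ p = 1 ∧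
      z' ^ p ^ (m + 1) = 1 ∧ y' * z' = z' * y' ∧ x'⁻¹ * y' * x' = y' * z' ^ (s * p ^ m) ∧
      x'⁻¹ * z' * x' = y' * z' := by
  have hxy : x * y ≠ y * x := fun h0 => hx (mem_LL.mpr h0)
  have hyx1 : cm y x ≠ 1 := by
    rw [Ne, cm_eq_one_iff]
    exact fun h0 => hxy h0.symm
  have heZ : cm (cm c x) x ∈ zpowers z := h.cm_N_mem hd x
  have he1 : cm (cm c x) x ≠ 1 := h.not_mem_Z_of_not_comm hd hxy hdZ
  have hde : Commute (cm c x) (cm (cm c x) x) := (h.Z_comm heZ _)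
  have hconj_c : (x ^ k)⁻¹ * c * x ^ k = c * (cm c x ^ k * cm (cm c x) x ^ k.choose 2) := by
    have h1 := conj_pow_PP (g := x) (u := cm c x) (b := cm (cm c x) x) (c := 1) (v := c) hde
      (Commute.one_right _) (conj_eq _ x) (by rw [mul_one]; exact cj_Z h heZ x) (by group)
      (conj_eq c x) k
    rw [h1]
    unfold PP
    rw [one_pow, mul_one]
  have hconj_d : (x ^ k)⁻¹ * cm c x * x ^ k = cm c x * cm (cm c x) x ^ k := by
    have h1 := conj_pow_PP (g := x) (u := cm (cm c x) x) (b := 1) (c := 1) (v := cm c x)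
      (Commute.one_right _) (Commute.one_right 1) (by rw [mul_one]; exact cj_Z h heZ x)
      (by group) (by group) (conj_eq _ x) k
    rw [h1]
    unfold PP
    rw [one_pow, one_pow, mul_one, mul_one]
  have hy'N : cm c x ^ k * cm (cm c x) x ^ k.choose 2 ∈ NN z y :=
    mul_mem (pow_mem hd k) (h.Z_le_N (pow_mem heZ _))
  have hcm_d : cm (cm c x) (x ^ k) = cm (cm c x) x ^ k := by
    unfold cm at hconj_d ⊢
    rw [hconj_d, ← mul_assoc, inv_mul_cancel, one_mul]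
  have hcm_y' : cm (cm c x ^ k * cm (cm c x) x ^ k.choose 2) (x ^ k) =
      cm (cm c x) x ^ (k * k) := by
    rw [cm_mul_N h (pow_mem hd k), cm_pow_N h hd, hcm_d]
    have h1 : cm (cm (cm c x) x ^ k.choose 2) (x ^ k) = 1 := by
      rw [cm_eq_one_iff]
      exact (h.Z_comm (pow_mem heZ _) _).symm
    rw [h1, mul_one, ← pow_mul]
  have hekk : cm (cm c x) x ^ (k * k) ≠ 1 := by
    intro h0
    have h1 := dvd_of_pow_eq_one p (h.Z_pow heZ) he1 h0
    rcases (hpf.out.dvd_mul).mp h1 with h2 | h2 <;> exact hk h2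
  have hy'Z : cm c x ^ k * cm (cm c x) x ^ k.choose 2 ∉ zpowers z := by
    intro h0
    apply hekk
    rw [← hcm_y', cm_eq_one_iff]
    exact (h.Z_comm h0 _).symm
  have hx'L : x ^ k ∉ LL y := by
    intro h0
    have h1 : cm y (x ^ k) = 1 := by
      rw [cm_eq_one_iff]
      exact (mem_LL.mp h0).symm
    rw [h.cm_y_pow] at h1
    exact hk (dvd_of_pow_eq_one p (h.Z_pow (h.cm_y_mem x)) hyx1 h1)
  refine ⟨x ^ k, cm c x ^ k * cm (cm c x) x ^ k.choose 2, c, ?_, ?_, h.N_pow hy'N, ?_, ?_, ?_, ?_⟩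
  · exact closure_eq_top' h hgen hx'L hy'N hy'Z hc1 hc2
      ⟨1, one_mem _, by rw [mul_one]; exact subset_closure (by simp)⟩
  · rw [← pow_mul, mul_comm, pow_mul, hxp, one_pow]
  · rw [pow_succ, pow_mul]
    exact h.Z_pow hc1
  · exact (h.L_comm_N hc hy'N).symm
  · rw [conj_eq, hcm_y', ← hs, ← pow_mul, mul_comm s]
  · rw [hconj_c]
    exact h.L_comm_N hc hy'N

theorem familyC (hd : cm c x ∈ NN z y) (hdZ : cm c x ∉ zpowers z) :
    1 ≤ m ∧ ∃ (s : ℕ) (x' y' z' : G), (s = 1 ∨ ¬ IsSquare (s : ZMod p)) ∧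
      closure ({x', y', z'} : Set G) = ⊤ ∧ x' ^ p = 1 ∧ y' ^ p = 1 ∧
      z' ^ p ^ (m + 1) = 1 ∧ y' * z' = z' * y' ∧ x'⁻¹ * y' * x' = y' * z' ^ (s * p ^ m) ∧
      x'⁻¹ * z' * x' = y' * z' := by
  have hpP : p.Prime := hpf.out
  have hxy : x * y ≠ y * x := fun h0 => hx (mem_LL.mpr h0)
  have hd1 : cm c x ≠ 1 := fun h0 => hdZ (by rw [h0]; exact one_mem _)
  refine ⟨one_le_m h hx hxp hc hgen hc1 hc2 hd1, ?_⟩
  have heZ : cm (cm c x) x ∈ zpowers z := h.cm_N_mem hd x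
  have he1 : cm (cm c x) x ≠ 1 := h.not_mem_Z_of_not_comm hd hxy hdZ
  obtain ⟨s₀, hs₀⟩ := h.exists_pow_eq hc1 hc2 heZ
  by_cases hsq : IsSquare (s₀ : ZMod p)
  · obtain ⟨r, hr⟩ := hsq
    have hr0 : r ≠ 0 := by
      intro h0
      rw [h0, mul_zero, ZMod.natCast_eq_zero_iff] at hr
      obtain ⟨t, rfl⟩ := hr
      apply he1
      rw [← hs₀, pow_mul, h.Z_pow hc1, one_pow]
    have hk : ¬ p ∣ (r⁻¹).val := by
      intro h0
      rw [← ZMod.natCast_eq_zero_iff, ZMod.natCast_zmod_val] at h0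
      exact hr0 (inv_eq_zero.mp h0)
    have hs : (c ^ p ^ m) ^ 1 = cm (cm c x) x ^ ((r⁻¹).val * (r⁻¹).val) := by
      have h1 : cm (cm c x) x ^ ((r⁻¹).val * (r⁻¹).val) =
          (c ^ p ^ m) ^ (s₀ * ((r⁻¹).val * (r⁻¹).val)) := by
        rw [← hs₀, ← pow_mul]
      rw [h1, pow_eq_pow_iff_modEq, h.orderOf_of_mem_Z hc1 hc2, ← ZMod.natCast_eq_natCast_iff]
      push_cast
      rw [ZMod.natCast_zmod_val, hr]
      field_simp
    obtain ⟨x', y', z', hh⟩ := familyC_aux h hx hxp hc hgen hc1 hc2 hd hdZ hk hs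
    exact ⟨1, x', y', z', Or.inl rfl, hh⟩
  · have hs : (c ^ p ^ m) ^ s₀ = cm (cm c x) x ^ (1 * 1) := by rw [hs₀, mul_one, pow_one]
    have hk : ¬ p ∣ 1 := by
      intro h0
      exact hpP.one_lt.ne' (Nat.dvd_one.mp h0)
    obtain ⟨x', y', z', hh⟩ := familyC_aux h hx hxp hc hgen hc1 hc2 hd hdZ hk hs
    exact ⟨s₀, x', y', z', Or.inr hsq, hh⟩

end final

end Cfsg.Agent.Lib.Helper45_RankTwoFinal
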