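import Mathlib
import Cfsg.Prelude.Def_OddOrderLocal
import Cfsg.Agent.Lib.Helper20_PGroupOdd
import Cfsg.Agent.Lib.Helper2_OmegaTwo
import Cfsg.Agent.Lib.Helper2_OmegaMeta
import Cfsg.Agent.Lib.Helper45_PCentral
import Cfsg.Agent.Lib.Helper45_MetaLift
import Cfsg.Agent.Lib.Helper45_Agemo
import Cfsg.Agent.Lib.Helper45_RankTwoSetup
import Cfsg.Agent.Lib.Helper1_Transport

/-!
# Theorem M

Let `R` be a `p`-group, `p` odd, with a good pair `(z, y)` such that `N = ⟨z, y⟩` contains every
element of order dividing `p`, `y` is not central, and no `g` outside `L = C_R(y)` has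
`g ^ p ∈ ⟨z⟩`.  Then `R` is metacyclic.
-/

set_option autoImplicit false
set_option linter.unusedVariables false
set_option linter.unusedSectionVars false

namespace Cfsg.Agent.Lib.Helper45_RankTwoM

open Cfsg Subgroup Cfsg.Agent.Lib.Helper20_PGroupOdd Cfsg.Agent.Lib.Helper45_PCentral
  Cfsg.Agent.Lib.Helper45_RankTwoSetup Cfsg.Agent.Lib.Helper2_OmegaTwo
  Cfsg.Agent.Lib.Helper2_OmegaMeta

universe u

/-- the hypothesis of Theorem M -/
def MHyp (p : ℕ) (R : Type*) [Group R] : Prop :=
  ∃ z y : R, Ctx p R z y ∧ (∃ g : R, g * y ≠ y * g) ∧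
    ∀ g : R, g * y ≠ y * g → g ^ p ∉ zpowers z

/-- the hereditary property -/
def PM (p : ℕ) (R : Type*) [Group R] : Prop := (mho p R).index ≤ p ^ 2 ∨ MHyp p R

section facts

variable {p : ℕ} [hpf : Fact p.Prime] {R : Type*} [Group R] [Finite R] {z y : R}
  (h : Ctx p R z y) (hy : ∃ g : R, g * y ≠ y * g)
  (hiv : ∀ g : R, g * y ≠ y * g → g ^ p ∉ zpowers z)
include h hy hiv

theorem mem_W_of_pow {a : R} (ha : a ^ p ∈ zpowers z) : a ∈ h.WW := by
  refine ⟨?_, ha⟩
  rw [mem_LL]
  by_contra hne
  exact hiv a hne ha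

theorem mem_N_of_pow {a : R} (ha : a ^ p = 1) : a ∈ NN z y := by
  have h1 : a ∈ h.WW := mem_W_of_pow h hy hiv (by rw [ha]; exact one_mem _)
  exact h.omega_L h1.1 ha

theorem eq_Z_of_central (T : Subgroup R) (hT : Nat.card T = p) (hTc : T ≤ center R) :
    T = zpowers z := by
  have hne : T ≠ ⊥ := by
    intro h0
    rw [h0, Subgroup.card_bot] at hT
    exact hpf.out.one_lt.ne hT
  obtain ⟨t, ht⟩ := (Subgroup.ne_bot_iff_exists_ne_one).mp hne
  have htT : (t : R) ∈ T := t.2
  have ht1' : (t : R) ≠ 1 := fun h0 => ht (Subtype.ext h0)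
  have htp : (t : R) ^ p = 1 := pow_eq_one_of_prime_card T hT htT
  have htN : (t : R) ∈ NN z y := mem_N_of_pow h hy hiv htp
  obtain ⟨g, hg⟩ := hy
  have htZ : (t : R) ∈ zpowers z :=
    h.mem_Z_of_comm htN hg (mem_center_iff.mp (hTc htT) g).symm
  rw [← zpowers_eq_of_prime_card T hT htT ht1', h.zpowers_eq htZ ht1']

end facts

section quot

variable {p : ℕ} [hpf : Fact p.Prime]

theorem hquot_MHyp {R : Type u} [Group R] [Finite R] {z y : R}
    (h : Ctx p R z y) (hy : ∃ g : R, g * y ≠ y * g)
    (hiv : ∀ g : R, g * y ≠ y * g → g ^ p ∉ zpowers z) [hZn : (zpowers z).Normal] :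
    PM p (R ⧸ zpowers z) := by
  have hpP : p.Prime := hpf.out
  have hRq : IsPGroup p (R ⧸ zpowers z) := h.pgroup.to_quotient _
  have hmk : ∀ a : R, ((a : R ⧸ zpowers z) = 1) ↔ a ∈ zpowers z := fun a =>
    QuotientGroup.eq_one_iff a
  have hcommq : ∀ a k : R, ((k : R ⧸ zpowers z) * (a : R ⧸ zpowers z) = a * k) ↔
      cm a k ∈ zpowers z := by
    intro a k
    rw [← QuotientGroup.mk_mul, ← QuotientGroup.mk_mul, QuotientGroup.eq]
    have h1 : (k * a)⁻¹ * (a * k) = cm a k := by unfold cm; group
    rw [h1]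
  have hpowq : ∀ a : R, ((a : R ⧸ zpowers z) ^ p = 1) ↔ a ^ p ∈ zpowers z := by
    intro a
    rw [← QuotientGroup.mk_pow, hmk]
  by_cases hα : ∀ w ∈ h.WW, ∀ g : R, cm w g ∈ zpowers z
  · -- the quotient is `p`-central
    left
    have hc : PCentral p (R ⧸ zpowers z) := by
      intro a ha
      induction a using QuotientGroup.induction_on with
      | H a =>
        have haW : a ∈ h.WW := mem_W_of_pow h hy hiv ((hpowq a).mp ha)
        rw [mem_center_iff]
        intro q
        induction q using QuotientGroup.induction_on with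
        | H k => exact (hcommq a k).mpr (hα a haW k)
    have hcard : Nat.card (omegaC hc) ≤ p ^ 2 := by
      have h1 : omegaC hc = h.WW.map (QuotientGroup.mk' (zpowers z)) := by
        ext q
        induction q using QuotientGroup.induction_on with
        | H a =>
          rw [mem_omegaC, hpowq]
          constructor
          · intro ha
            exact ⟨a, mem_W_of_pow h hy hiv ha, rfl⟩
          · rintro ⟨b, hb, hba⟩
            have h2 : ((b : R ⧸ zpowers z) ^ p = 1) := (hpowq b).mpr hb.2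
            rw [QuotientGroup.mk'_apply] at hba
            rw [hba] at h2
            exact (hpowq a).mp h2
      rw [h1]
      have h2 := Cfsg.Agent.Lib.Helper1_Transport.card_map_mk'_of_le (zpowers z) h.WW
        (le_trans h.Z_le_N h.N_le_W)
      rw [h.card_Z] at h2
      have h3 := h.card_W_le
      rw [← h2] at h3
      have h4 : Nat.card (h.WW.map (QuotientGroup.mk' (zpowers z))) * p ≤ p ^ 2 * p := by
        calc _ ≤ p ^ 3 := h3
          _ = p ^ 2 * p := by ring
      exact Nat.le_of_mul_le_mul_right h4 hpP.pos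
    exact le_trans (index_mho_le h.hp2 hRq hc) hcard
  · -- the quotient again satisfies the hypothesis
    right
    push Not at hα
    obtain ⟨w, hw, g, hwg⟩ := hα
    have hwN : w ∉ NN z y := fun hwN => hwg (h.cm_N_mem hwN g)
    have hN_mk : ∀ n ∈ NN z y, (n : R ⧸ zpowers z) ∈ zpowers (y : R ⧸ zpowers z) := by
      intro n hn
      obtain ⟨a, ha, i, rfl⟩ := h.mem_N_iff.mp hn
      rw [QuotientGroup.mk_mul, (hmk a).mpr ha, one_mul, QuotientGroup.mk_zpow]
      exact zpow_mem (mem_zpowers _) i
    have hmk_N : ∀ a : R, (a : R ⧸ zpowers z) ∈ zpowers (y : R ⧸ zpowers z) → a ∈ NN z y := by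
      intro a ha
      obtain ⟨i, hi⟩ := mem_zpowers_iff.mp ha
      rw [← QuotientGroup.mk_zpow] at hi
      have h1 := QuotientGroup.eq.mp hi
      have h2 : a = y ^ i * ((y ^ i)⁻¹ * a) := by group
      rw [h2]
      exact mul_mem (zpow_mem h.y_mem_N i) (h.Z_le_N h1)
    refine ⟨(y : R ⧸ zpowers z), (w : R ⧸ zpowers z), ⟨h.hp2, hRq, ?_, ?_⟩, ?_, ?_⟩
    · -- the good pair
      refine ⟨mem_top _, mem_top _, ?_, ?_, ?_, ?_, ?_⟩
      · rw [mem_center_iff]
        intro q
        induction q using QuotientGroup.induction_on with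
        | H k => exact (hcommq y k).mpr (h.cm_y_mem k)
      · apply orderOf_eq_prime
        · rw [hpowq, h.y_pow]
          exact one_mem _
        · rw [Ne, hmk]
          exact h.y_not_mem_Z
      · rw [hpowq]
        exact hw.2
      · intro hmem
        exact hwN (hmk_N w hmem)
      · intro q
        induction q using QuotientGroup.induction_on with
        | H k =>
          apply hN_mk (k * w * k⁻¹ * w⁻¹)
          have h1 : k * w * k⁻¹ * w⁻¹ = w * cm w k⁻¹ * w⁻¹ := by unfold cm; group
          rw [h1]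
          exact h.N_normal.conj_mem _ (h.cm_W_mem_N hw k⁻¹) w
    · -- elements of order `p`
      intro q hq _
      induction q using QuotientGroup.induction_on with
      | H a =>
        have haW : a ∈ h.WW := mem_W_of_pow h hy hiv ((hpowq a).mp hq)
        obtain ⟨i, n, hn, rfl⟩ := h.W_decomp hw hwN haW
        rw [QuotientGroup.mk_mul, QuotientGroup.mk_pow]
        exact mul_mem (mem_sup_right (pow_mem (mem_zpowers _) i)) (mem_sup_left (hN_mk n hn))
    · refine ⟨(g : R ⧸ zpowers z), ?_⟩
      intro hcomm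
      exact hwg ((hcommq w g).mp hcomm)
    · intro q hq
      induction q using QuotientGroup.induction_on with
      | H k =>
        have hne : cm w k ∉ zpowers z := fun hmem => hq ((hcommq w k).mpr hmem)
        intro hmem
        rw [← QuotientGroup.mk_pow] at hmem
        have hkN : k ^ p ∈ NN z y := hmk_N _ hmem
        by_cases hkL : k ∈ LL y
        · exact hne (h.cm_W_L_mem_Z hy hw hkL)
        · have hky : k * y ≠ y * k := fun h0 => hkL (mem_LL.mpr h0)
          have h1 : k ^ p * k = k * k ^ p := by rw [← pow_succ, ← pow_succ']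
          exact hiv k hky (h.mem_Z_of_comm hkN hky h1)

theorem hquot {R : Type u} [Group R] [Finite R] (hR : IsPGroup p R) (hP : PM p R)
    (T : Subgroup R) [T.Normal] (hT : Nat.card T = p) (hTc : T ≤ center R) : PM p (R ⧸ T) := by
  rcases hP with hP | ⟨z, y, h, hy, hiv⟩
  · left
    exact le_trans (Cfsg.Agent.Lib.Helper45_Agemo.index_mho_quotient_le T) hP
  · obtain rfl := eq_Z_of_central h hy hiv T hT hTc
    exact hquot_MHyp h hy hiv

theorem hfin {R : Type u} [Group R] [Finite R] (hp2 : p ≠ 2) (hR : IsPGroup p R) (hP : PM p R)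
    (T : Subgroup R) [T.Normal] (hT : Nat.card T = p) (hTc : T ≤ center R)
    (hder : commutator R ≤ T) : Nat.card (omega p R) ≤ p ^ 2 := by
  rcases hP with hP | ⟨z, y, h, hy, hiv⟩
  · exact le_trans (Cfsg.Agent.Lib.Helper45_Agemo.card_omega_le_index_mho hp2 T hT hTc hder) hP
  · have h1 : omega p R ≤ NN z y := by
      unfold omega
      rw [closure_le]
      intro a ha
      exact mem_N_of_pow h hy hiv ha
    have h2 := Subgroup.card_le_of_le h1
    rwa [h.card_N] at h2

/-- **Theorem M** -/
theorem theoremM {R : Type u} [Group R] [Finite R] (hM : MHyp p R) : IsMetacyclic R := by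
  obtain ⟨z, y, h, hy, hiv⟩ := hM
  have hp2 := h.hp2
  have hR := h.pgroup
  refine Cfsg.Agent.Lib.Helper45_MetaLift.isMetacyclic_of_hereditary (p := p)
    (fun R _ => PM p R) ?_ ?_ (Nat.card R) R rfl hR (Or.inr ⟨z, y, h, hy, hiv⟩)
  · intro R _ _ hR hP _ T _ hT hTc _
    exact hquot hR hP T hT hTc
  · intro R _ _ hR hP T _ hT hTc hder
    exact hfin hp2 hR hP T hT hTc hder

end quot

end Cfsg.Agent.Lib.Helper45_RankTwoM
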