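import Mathlib

/-!
# Rank two `p`-groups of Blackburn's third family: normal forms (helper45)

`S = ⟨x, y, z⟩ ≤ Ω` of order `p ^ n`, `n ≥ 4`, with `x ^ p = y ^ p = z ^ (p ^ (n-2)) = 1`, `[y, z] = 1`,
`x⁻¹ y x = y z ^ (s p ^ (n-3))`, `x⁻¹ z x = y z`, `p ∤ s`.
Every element is uniquely `x ^ i * (y ^ j * z ^ k)`; conjugation formulas.
-/

set_option autoImplicit false

namespace Cfsg.Agent.Lib.Helper45_ResistStruct

variable {Ω : Type*} [Group Ω]

/-- The presentation data of Blackburn's third family inside `Ω`. -/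
structure FC (p n s : ℕ) (x y z : Ω) (S : Subgroup Ω) : Prop where
  hn : 4 ≤ n
  hp5 : 5 ≤ p
  hs : ¬ p ∣ s
  card : Nat.card S = p ^ n
  gen : S = Subgroup.closure {x, y, z}
  xp : x ^ p = 1
  yp : y ^ p = 1
  zp : z ^ p ^ (n - 2) = 1
  yz : y * z = z * y
  xy : x⁻¹ * y * x = y * z ^ (s * p ^ (n - 3))
  xz : x⁻¹ * z * x = y * z

/-- the normal form `y ^ j * z ^ k` of the elements of `A = ⟨y, z⟩` -/
def nf (y z : Ω) (j k : ℕ) : Ω := y ^ j * z ^ k

theorem cinv_mul (x a b : Ω) : x⁻¹ * (a * b) * x = (x⁻¹ * a * x) * (x⁻¹ * b * x) := by group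

theorem cinv_pow (x a : Ω) (i : ℕ) : x⁻¹ * a ^ i * x = (x⁻¹ * a * x) ^ i := by
  induction i with
  | zero => simp
  | succ i ih => rw [pow_succ, cinv_mul, ih, pow_succ]

namespace FC

variable {p n s : ℕ} {x y z : Ω} {S : Subgroup Ω}

theorem comm_pow (h : FC p n s x y z S) (j k : ℕ) : Commute (y ^ j) (z ^ k) :=
  (Commute.pow_pow (show Commute y z from h.yz) j k)

theorem nf_mul (h : FC p n s x y z S) (j k j' k' : ℕ) :
    nf y z j k * nf y z j' k' = nf y z (j + j') (k + k') := by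
  unfold nf
  rw [pow_add, pow_add]
  have hc : z ^ k * y ^ j' = y ^ j' * z ^ k := (h.comm_pow j' k).eq.symm
  calc y ^ j * z ^ k * (y ^ j' * z ^ k') = y ^ j * (z ^ k * y ^ j') * z ^ k' := by group
    _ = y ^ j * (y ^ j' * z ^ k) * z ^ k' := by rw [hc]
    _ = y ^ j * y ^ j' * (z ^ k * z ^ k') := by group

theorem nf_zero (y z : Ω) : nf y z 0 0 = 1 := by simp [nf]

theorem nf_pow (h : FC p n s x y z S) (j k m : ℕ) :
    (nf y z j k) ^ m = nf y z (j * m) (k * m) := by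
  induction m with
  | zero => simp [nf]
  | succ m ih => rw [pow_succ, ih, h.nf_mul, Nat.mul_succ, Nat.mul_succ]

theorem nf_congr (h : FC p n s x y z S) {j k j' k' : ℕ} (hj : j ≡ j' [MOD p])
    (hk : k ≡ k' [MOD p ^ (n - 2)]) : nf y z j k = nf y z j' k' := by
  unfold nf
  rw [pow_eq_pow_mod j h.yp, pow_eq_pow_mod j' h.yp, pow_eq_pow_mod k h.zp, pow_eq_pow_mod k' h.zp,
    hj, hk]

theorem xpow_congr (h : FC p n s x y z S) {i i' : ℕ} (hi : i ≡ i' [MOD p]) : x ^ i = x ^ i' := by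
  rw [pow_eq_pow_mod i h.xp, pow_eq_pow_mod i' h.xp, hi]

/-- `p ∣ p ^ (n - 3)` -/
theorem dvd_q (h : FC p n s x y z S) : p ∣ p ^ (n - 3) :=
  dvd_pow_self p (by have := h.hn; omega)

theorem q_mul_p (h : FC p n s x y z S) : p ^ (n - 3) * p = p ^ (n - 2) := by
  rw [← pow_succ]
  congr 1
  have := h.hn
  omega

/-- conjugation by `x` on the normal form -/
theorem cx_nf (h : FC p n s x y z S) (j k : ℕ) :
    x⁻¹ * nf y z j k * x = nf y z (j + k) (k + s * p ^ (n - 3) * j) := by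
  have h1 : x⁻¹ * y * x = nf y z 1 (s * p ^ (n - 3)) := by rw [h.xy]; simp [nf]
  have h2 : x⁻¹ * z * x = nf y z 1 1 := by rw [h.xz]; simp [nf]
  calc x⁻¹ * nf y z j k * x = (x⁻¹ * y * x) ^ j * (x⁻¹ * z * x) ^ k := by
        unfold nf; rw [cinv_mul, cinv_pow, cinv_pow]
    _ = nf y z (j + k) (k + s * p ^ (n - 3) * j) := by
        rw [h1, h2, h.nf_pow, h.nf_pow, h.nf_mul]
        congr 1 <;> ring

theorem ci_succ (x g : Ω) (i : ℕ) :
    (x ^ (i + 1))⁻¹ * g * x ^ (i + 1) = x⁻¹ * ((x ^ i)⁻¹ * g * x ^ i) * x := by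
  rw [pow_succ]; group

/-- conjugation by `x ^ i` on the normal form -/
theorem ci_nf (h : FC p n s x y z S) (i j k : ℕ) :
    (x ^ i)⁻¹ * nf y z j k * x ^ i =
      nf y z (j + i * k) (k + s * p ^ (n - 3) * (i * j + i.choose 2 * k)) := by
  induction i with
  | zero => simp
  | succ i ih =>
    rw [ci_succ, ih, h.cx_nf]
    apply h.nf_congr
    · obtain ⟨c, hc⟩ := h.dvd_q
      have : j + i * k + (k + s * p ^ (n - 3) * (i * j + i.choose 2 * k)) =
          j + (i + 1) * k + p * (s * c * (i * j + i.choose 2 * k)) := by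
        rw [hc]; ring
      rw [this]
      show (_ + p * _) % p = _ % p
      rw [Nat.add_mul_mod_self_left]
    · have hch : (i + 1).choose 2 = i + i.choose 2 := by
        rw [Nat.choose_succ_succ, Nat.choose_one_right]
      rw [hch]
      have : k + s * p ^ (n - 3) * (i * j + i.choose 2 * k) + s * p ^ (n - 3) * (j + i * k) =
          k + s * p ^ (n - 3) * ((i + 1) * j + (i + i.choose 2) * k) := by ring
      rw [this]

/-- the multiplication law -/
theorem mul_law (h : FC p n s x y z S) (i j k i' j' k' : ℕ) :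
    (x ^ i * nf y z j k) * (x ^ i' * nf y z j' k') =
      x ^ (i + i') * nf y z (j + i' * k + j')
        (k + s * p ^ (n - 3) * (i' * j + i'.choose 2 * k) + k') := by
  have h1 := h.ci_nf i' j k
  calc (x ^ i * nf y z j k) * (x ^ i' * nf y z j' k')
      = x ^ i * x ^ i' * ((x ^ i')⁻¹ * nf y z j k * x ^ i') * nf y z j' k' := by group
    _ = _ := by rw [h1, ← pow_add, mul_assoc, h.nf_mul]

theorem mem_x (h : FC p n s x y z S) : x ∈ S := by
  rw [h.gen]; exact Subgroup.subset_closure (by simp)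

theorem mem_y (h : FC p n s x y z S) : y ∈ S := by
  rw [h.gen]; exact Subgroup.subset_closure (by simp)

theorem mem_z (h : FC p n s x y z S) : z ∈ S := by
  rw [h.gen]; exact Subgroup.subset_closure (by simp)

theorem nf_mem (h : FC p n s x y z S) (j k : ℕ) : nf y z j k ∈ S :=
  S.mul_mem (S.pow_mem h.mem_y j) (S.pow_mem h.mem_z k)

theorem form_mem (h : FC p n s x y z S) (i j k : ℕ) : x ^ i * nf y z j k ∈ S :=
  S.mul_mem (S.pow_mem h.mem_x i) (h.nf_mem j k)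

/-- every element of `S` has a normal form -/
theorem exists_form (h : FC p n s x y z S) (hp : 0 < p) {g : Ω} (hg : g ∈ S) :
    ∃ i j k : ℕ, g = x ^ i * nf y z j k := by
  have hfin : ∀ t ∈ ({x, y, z} : Set Ω), IsOfFinOrder t := by
    intro t ht
    simp only [Set.mem_insert_iff, Set.mem_singleton_iff] at ht
    rcases ht with rfl | rfl | rfl
    · exact isOfFinOrder_iff_pow_eq_one.2 ⟨p, hp, h.xp⟩
    · exact isOfFinOrder_iff_pow_eq_one.2 ⟨p, hp, h.yp⟩
    · exact isOfFinOrder_iff_pow_eq_one.2 ⟨p ^ (n - 2), pow_pos hp _, h.zp⟩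
  have hg' : g ∈ (Subgroup.closure ({x, y, z} : Set Ω)).toSubmonoid := by
    rw [← h.gen]; exact hg
  rw [Subgroup.closure_toSubmonoid_of_isOfFinOrder hfin] at hg'
  clear hg
  induction hg' using Submonoid.closure_induction with
  | mem t ht =>
    simp only [Set.mem_insert_iff, Set.mem_singleton_iff] at ht
    rcases ht with rfl | rfl | rfl
    · exact ⟨1, 0, 0, by simp [nf]⟩
    · exact ⟨0, 1, 0, by simp [nf]⟩
    · exact ⟨0, 0, 1, by simp [nf]⟩
  | one => exact ⟨0, 0, 0, by simp [nf]⟩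
  | mul a b _ _ ha hb =>
    obtain ⟨i, j, k, rfl⟩ := ha
    obtain ⟨i', j', k', rfl⟩ := hb
    exact ⟨_, _, _, h.mul_law i j k i' j' k'⟩

/-- uniqueness of the normal form -/
theorem ind [Finite S] (h : FC p n s x y z S) (hp : p.Prime) {i j k i' j' k' : ℕ}
    (heq : x ^ i * nf y z j k = x ^ i' * nf y z j' k') :
    i ≡ i' [MOD p] ∧ j ≡ j' [MOD p] ∧ k ≡ k' [MOD p ^ (n - 2)] := by
  have hp0 : 0 < p := hp.pos
  have hm0 : 0 < p ^ (n - 2) := pow_pos hp0 _
  let f : Fin p × Fin p × Fin (p ^ (n - 2)) → ↥S := fun t =>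
    ⟨x ^ (t.1 : ℕ) * nf y z (t.2.1 : ℕ) (t.2.2 : ℕ), h.form_mem _ _ _⟩
  have hred : ∀ a b c : ℕ, x ^ (a % p) * nf y z (b % p) (c % p ^ (n - 2)) = x ^ a * nf y z b c := by
    intro a b c
    rw [h.xpow_congr (Nat.mod_modEq a p), h.nf_congr (Nat.mod_modEq b p) (Nat.mod_modEq c _)]
  have hsurj : Function.Surjective f := by
    rintro ⟨g, hg⟩
    obtain ⟨a, b, c, rfl⟩ := h.exists_form hp0 hg
    refine ⟨(⟨a % p, Nat.mod_lt _ hp0⟩, ⟨b % p, Nat.mod_lt _ hp0⟩,
      ⟨c % p ^ (n - 2), Nat.mod_lt _ hm0⟩), ?_⟩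
    apply Subtype.ext
    exact hred a b c
  have hcard : Nat.card (Fin p × Fin p × Fin (p ^ (n - 2))) ≤ Nat.card ↥S := by
    rw [h.card, Nat.card_prod, Nat.card_prod, Nat.card_fin, Nat.card_fin]
    apply le_of_eq
    have : n = (n - 2) + 2 := by have := h.hn; omega
    conv_rhs => rw [this]
    ring
  have hinj := (hsurj.bijective_of_nat_card_le hcard).1
  have h1 : f (⟨i % p, Nat.mod_lt _ hp0⟩, ⟨j % p, Nat.mod_lt _ hp0⟩,
      ⟨k % p ^ (n - 2), Nat.mod_lt _ hm0⟩) =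
      f (⟨i' % p, Nat.mod_lt _ hp0⟩, ⟨j' % p, Nat.mod_lt _ hp0⟩,
      ⟨k' % p ^ (n - 2), Nat.mod_lt _ hm0⟩) := by
    apply Subtype.ext
    show x ^ (i % p) * nf y z (j % p) (k % p ^ (n - 2)) =
      x ^ (i' % p) * nf y z (j' % p) (k' % p ^ (n - 2))
    rw [hred, hred, heq]
  have h2 := hinj h1
  simp only [Prod.mk.injEq, Fin.mk.injEq] at h2
  exact ⟨h2.1, h2.2.1, h2.2.2⟩

end FC

end Cfsg.Agent.Lib.Helper45_ResistStruct
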