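import Cfsg.Agent.Lib.Helper87_Alperin2
import Cfsg.Agent.Lib.Helper85_Fusion
import Cfsg.Agent.S5301

/-!
`p`-inner families of maps (helper87).

A predicate `Pr P f` on subgroups and functions ("`f` restricted to `P` is a map of the family") is *`p`-inner*
when every automorphism of a subgroup belonging to the family and of order prime to `p` is trivial.  For a
saturated fusion system this says that the system is the inner fusion system.  The maps of the normalizer system
`N_F(Q)` are described by the function predicate `IsNormMapOn F Q`.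
-/

set_option autoImplicit false
set_option linter.style.haveILetI false

universe u

namespace Cfsg.Agent.Lib.Helper87_PInner

open Cfsg Cfsg.FusionSystem Cfsg.Agent.Lib.Helper87_Alperin Cfsg.Agent.Lib.Helper87_Alperin2

variable {Ω : Type u} [Group Ω] {S : Subgroup Ω}

/-- Every automorphism of order prime to `p` belonging to the family is trivial. -/
def PInnerOn (p : ℕ) (Pr : Subgroup Ω → (Ω → Ω) → Prop) : Prop :=
  ∀ (P : Subgroup Ω) (α : MulAut P), Pr P (extFun α) → (orderOf α).Coprime p → α = 1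

theorem PInnerOn.mono {p : ℕ} {Pr Pr' : Subgroup Ω → (Ω → Ω) → Prop}
    (h : ∀ P f, Pr P f → Pr' P f) (h' : PInnerOn p Pr') : PInnerOn p Pr :=
  fun P α hα hc => h' P α (h P _ hα) hc

/-- `f` on `P` is a map of the normalizer system `N_F(Q)`. -/
def IsNormMapOn (F : FusionSystem S) (Q P : Subgroup Ω) (f : Ω → Ω) : Prop :=
  IsMapOn F P f ∧ P ≤ normalizerIn S Q ∧ (∀ x ∈ P, f x ∈ normalizerIn S Q) ∧
    ∃ g : Ω → Ω, IsMapOn F (P ⊔ Q) g ∧ (∀ x ∈ P, g x = f x) ∧ ∀ y, y ∈ Q ↔ ∃ x ∈ Q, g x = y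

theorem IsNormMapOn.isMapOn {F : FusionSystem S} {Q P : Subgroup Ω} {f : Ω → Ω}
    (h : IsNormMapOn F Q P f) : IsMapOn F P f := h.1

theorem IsNormMapOn.congr {F : FusionSystem S} {Q P : Subgroup Ω} {f f' : Ω → Ω}
    (h : IsNormMapOn F Q P f) (hff : ∀ x ∈ P, f x = f' x) : IsNormMapOn F Q P f' := by
  obtain ⟨h1, h2, h3, g, hg1, hg2, hg3⟩ := h
  exact ⟨h1.congr hff, h2, fun x hx => hff x hx ▸ h3 x hx, g, hg1,
    fun x hx => (hg2 x hx).trans (hff x hx), hg3⟩

theorem mem_normalizerHom_iff (F : FusionSystem S) (Q : Subgroup Ω) {P : Subgroup Ω} (φ : P →* Ω) :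
    φ ∈ F.normalizerHom Q P ↔ IsNormMapOn F Q P (extHom φ) := by
  constructor
  · rintro ⟨h1, h2, h3, ψ, hψ, hext, himg⟩
    refine ⟨isMapOn_extHom F h1, h2, fun x hx => ?_, extHom ψ, isMapOn_extHom F hψ, fun x hx => ?_,
      fun y => ?_⟩
    · rw [extHom_apply φ hx]
      exact h3 ⟨x, hx⟩
    · rw [extHom_apply φ hx, extHom_apply ψ ((le_sup_left : P ≤ P ⊔ Q) hx)]
      exact hext ⟨x, hx⟩
    · constructor
      · intro hy
        rw [← himg] at hy
        obtain ⟨z, hz, rfl⟩ := hy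
        refine ⟨z, Subgroup.mem_subgroupOf.1 hz, ?_⟩
        rw [extHom_coe]
      · rintro ⟨x, hx, rfl⟩
        rw [extHom_apply ψ ((le_sup_right : Q ≤ P ⊔ Q) hx)]
        exact Helper85_Fusion.apply_mem_of_map_eq ψ himg _ hx _
  · rintro ⟨h1, h2, h3, g, hg1, hg2, hg3⟩
    obtain ⟨ψ, hψ, hψg⟩ := hg1
    refine ⟨(mem_hom_iff_isMapOn F φ).2 h1, h2, fun x => ?_, ψ, hψ, fun x => ?_, ?_⟩
    · have := h3 x x.2
      rwa [extHom_coe] at this
    · rw [hψg]
      show g (x : Ω) = φ x
      rw [hg2 x x.2, extHom_coe]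
    · ext y
      constructor
      · rintro ⟨z, hz, rfl⟩
        rw [hψg]
        exact (hg3 _).2 ⟨z, Subgroup.mem_subgroupOf.1 hz, rfl⟩
      · intro hy
        obtain ⟨x, hx, rfl⟩ := (hg3 y).1 hy
        refine ⟨⟨x, (le_sup_right : Q ≤ P ⊔ Q) hx⟩, Subgroup.mem_subgroupOf.2 hx, ?_⟩
        rw [hψg]

/-- Powers of an automorphism induced by conjugation. -/
theorem pow_apply_of_conj {P : Subgroup Ω} (α : MulAut P) (g : Ω)
    (h : ∀ x : P, ((α x : P) : Ω) = g * (x : Ω) * g⁻¹) (k : ℕ) (x : P) :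
    (((α ^ k) x : P) : Ω) = g ^ k * (x : Ω) * (g ^ k)⁻¹ := by
  induction k generalizing x with
  | zero => simp
  | succ k ih =>
    rw [pow_succ, MulAut.mul_apply, ih, h, pow_succ]
    group

/-- An automorphism induced by conjugation by an element of `p`-power order, and of order prime to `p`, is
trivial. -/
theorem eq_one_of_conj {p : ℕ} {P : Subgroup Ω} (α : MulAut P) (g : Ω) (k : ℕ) (hg : g ^ (p ^ k) = 1)
    (h : ∀ x : P, ((α x : P) : Ω) = g * (x : Ω) * g⁻¹) (hc : (orderOf α).Coprime p) : α = 1 := by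
  have h1 : α ^ (p ^ k) = 1 := by
    ext x
    rw [pow_apply_of_conj α g h, hg]
    simp
  have h2 : orderOf α ∣ p ^ k := orderOf_dvd_of_pow_eq_one h1
  have h3 : orderOf α = 1 :=
    Nat.eq_one_of_dvd_coprimes (Nat.Coprime.pow_right k hc) dvd_rfl h2
  exact orderOf_eq_one_iff.1 h3

theorem isMapOn_inner_iff (T : Subgroup Ω) (P : Subgroup Ω) (f : Ω → Ω) :
    IsMapOn (innerFusionSystem T) P f ↔ P ≤ T ∧ ∃ g ∈ T, ∀ x ∈ P, f x = g * x * g⁻¹ := by
  constructor
  · rintro ⟨φ, ⟨hP, g, hg, hφ⟩, hf⟩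
    exact ⟨hP, g, hg, fun x hx => by rw [← hf ⟨x, hx⟩, hφ]⟩
  · rintro ⟨hP, g, hg, hf⟩
    exact ⟨conjHom P g, ⟨hP, g, hg, fun x => rfl⟩, fun x => (hf x x.2).symm⟩

/-- The inner fusion system of a `p`-group is `p`-inner. -/
theorem pInnerOn_inner {p : ℕ} {T : Subgroup Ω} (hT : IsPGroup p T) :
    PInnerOn p (IsMapOn (innerFusionSystem T)) := by
  intro P α hα hc
  obtain ⟨-, g, hg, hf⟩ := (isMapOn_inner_iff T P _).1 hα
  obtain ⟨k, hk⟩ := hT ⟨g, hg⟩
  have hk' : g ^ (p ^ k) = 1 := by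
    have := congrArg Subtype.val hk
    simpa using this
  refine eq_one_of_conj α g k hk' (fun x => ?_) hc
  rw [← extFun_coe]
  exact hf x x.2

theorem pInnerOn_of_hom_eq_inner {p : ℕ} {T : Subgroup Ω} (hT : IsPGroup p T) (E : FusionSystem T)
    (h : ∀ P : Subgroup Ω, E.Hom P = (innerFusionSystem T).Hom P) : PInnerOn p (IsMapOn E) := by
  refine PInnerOn.mono (fun P f hf => ?_) (pInnerOn_inner hT)
  obtain ⟨φ, hφ, hφf⟩ := hf
  exact ⟨φ, h P ▸ hφ, hφf⟩

/-- A saturated fusion system that is `p`-inner is the inner fusion system. -/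
theorem hom_eq_inner_of_pInnerOn [Finite S] {p : ℕ} [Fact p.Prime] (hS : IsPGroup p S)
    (F : FusionSystem S) (hF : F.IsSaturated p) (h : PInnerOn p (IsMapOn F)) :
    ∀ P : Subgroup Ω, F.Hom P = (innerFusionSystem S).Hom P := by
  refine eq_inner_of_autGroup_isPGroup F hS hF ?_
  intro Q hQa _
  have hQS : Q ≤ S := hQa.1
  haveI : Finite Q := Finite.of_injective (Subgroup.inclusion hQS) (Subgroup.inclusion_injective hQS)
  haveI : Finite (F.autGroup Q) := inferInstance
  refine isPGroup_of_coprime_eq_one ?_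
  rintro ⟨α, hα⟩ hc
  rw [Subgroup.orderOf_mk] at hc
  exact Subtype.ext (h Q α ((mem_autGroup_iff F hQS α).1 hα) hc)

/-- In a saturated fusion system that is not `p`-inner, some nontrivial fully normalized subgroup has a
normalizer system that is not `p`-inner. -/
theorem exists_of_not_pInnerOn [Finite S] {p : ℕ} [Fact p.Prime] (hS : IsPGroup p S)
    (F : FusionSystem S) (hF : F.IsSaturated p) (h : ¬ PInnerOn p (IsMapOn F)) :
    ∃ X : Subgroup Ω, X ≠ ⊥ ∧ F.IsFullyNormalized X ∧ ¬ PInnerOn p (IsNormMapOn F X) := by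
  by_contra hcon
  apply h
  have hinner : ∀ P : Subgroup Ω, F.Hom P = (innerFusionSystem S).Hom P := by
    refine eq_inner_of_autGroup_isPGroup F hS hF ?_
    intro Q hQa hQr
    have hQS : Q ≤ S := hQa.1
    haveI : Finite Q := Finite.of_injective (Subgroup.inclusion hQS) (Subgroup.inclusion_injective hQS)
    haveI : Finite (F.autGroup Q) := inferInstance
    refine isPGroup_of_coprime_eq_one ?_
    rintro ⟨α, hα⟩ hc
    rw [Subgroup.orderOf_mk] at hc
    apply Subtype.ext
    show α = 1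
    by_cases hQ : Q = ⊥
    · subst hQ
      ext x
      have hx : x = 1 := Subtype.ext (Subgroup.mem_bot.1 x.2)
      rw [hx, map_one]
      rfl
    · have hfn := Cfsg.Agent.S5301.isFullyNormalized_of_isFullyAutomized_of_isReceptive hS F hQa hQr
      have hPI : PInnerOn p (IsNormMapOn F Q) := by
        by_contra hQ'
        exact hcon ⟨Q, hQ, hfn, hQ'⟩
      refine hPI Q α ?_ hc
      have hmap : IsMapOn F Q (extFun α) := (mem_autGroup_iff F hQS α).1 hα
      refine ⟨hmap, le_normalizerIn hQS, fun x hx => le_normalizerIn hQS (extFun_mem α hx),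
        extFun α, ?_, fun _ _ => rfl, fun y => ?_⟩
      · rw [sup_idem]
        exact hmap
      · constructor
        · intro hy
          exact ⟨extFun α⁻¹ y, extFun_mem _ hy, extFun_apply_inv α hy⟩
        · rintro ⟨x, hx, rfl⟩
          exact extFun_mem α hx
  exact pInnerOn_of_hom_eq_inner hS F hinner

end Cfsg.Agent.Lib.Helper87_PInner
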