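import Mathlib
import Cfsg.Prelude.Def_FusionSystem
import Cfsg.Prelude.Def_EvenType
import Cfsg.Agent.Lib.Helper48_SPE
import Cfsg.Agent.Lib.Helper84_Stability
import Cfsg.Agent.Lib.Helper87_Alperin
import Cfsg.Agent.Lib.Helper87_PInner
import Cfsg.Agent.Lib.Helper87_Normal
import Cfsg.Agent.Lib.Helper84_Fusion
import Cfsg.Agent.Lib.Helper84_FusionEssential
import Cfsg.Agent.Lib.Helper88_AbelianEssential
import Cfsg.Agent.S5080
import Cfsg.Prelude.Def_Transfer

/-!
# Strongly `p`-embedded subgroups and groups of "transvections" (helper87)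

* `SPE.le_of_inf_ne_bot`: a `p`-subgroup meeting a strongly `p`-embedded subgroup `M` nontrivially lies in `M`.
* `spe_comap_equiv`: transport of `SPE` along a group isomorphism.
* `false_of_spe_of_transvections`: let `P` be a finite abelian `p`-group, `A ≤ Aut(P)` with a strongly `p`-embedded
  subgroup, `U ≤ A` a `p`-subgroup and `Z ≤ P` with `[P, U] ≤ Z`, `[Z, U] = 1`, such that for every `h ∈ A` some
  nonidentity element of `U` centralizes `h(Z)`.  This is impossible.
-/

set_option autoImplicit false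

namespace Cfsg.Agent.Lib.Helper87_ExtraIdx

open Cfsg Cfsg.Agent.Lib.Helper48_SPE Cfsg.Agent.Lib.Helper84_Stability

section SPEgen

variable {G : Type*} [Group G]

/-- A `p`-subgroup meeting a strongly `p`-embedded subgroup nontrivially is contained in it. -/
theorem SPE.le_of_inf_ne_bot [Finite G] {p : ℕ} [Fact p.Prime] {M : Subgroup G} (hM : SPE p M)
    {R : Subgroup G} (hR : IsPGroup p R) (hne : R ⊓ M ≠ ⊥) : R ≤ M := by
  by_contra hle
  have hlt : R ⊓ M < R := lt_of_le_of_ne inf_le_left (fun h => hle (h ▸ inf_le_right))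
  have h1 := lt_inf_normalizer hR hlt
  have h2 : Subgroup.normalizer ((R ⊓ M : Subgroup G) : Set G) ≤ M :=
    hM.normalizer_le (hR.to_le inf_le_left) hne inf_le_right
  have h3 : R ⊓ Subgroup.normalizer ((R ⊓ M : Subgroup G) : Set G) ≤ R ⊓ M :=
    le_inf inf_le_left (inf_le_right.trans h2)
  exact absurd (lt_of_lt_of_le h1 h3) (lt_irrefl _)

/-- Transport of the working form of "strongly `p`-embedded" along an isomorphism. -/
theorem spe_comap_equiv {G' : Type*} [Group G'] [Finite G] {p : ℕ} [Fact p.Prime] (e : G ≃* G')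
    {H' : Subgroup G'} (hH : SPE p H') : SPE p (H'.comap e.toMonoidHom) := by
  obtain ⟨hdvd, hne, ⟨P, hP⟩, hnorm⟩ := hH
  refine ⟨?_, ?_, ?_, ?_⟩
  · rw [Nat.card_congr e.toEquiv]
    exact hdvd
  · intro h
    apply hne
    rw [eq_top_iff]
    intro y _
    have : e.symm y ∈ H'.comap e.toMonoidHom := h ▸ Subgroup.mem_top _
    rw [Subgroup.mem_comap] at this
    simpa using this
  · have hinj : Function.Injective e.toMonoidHom := e.injective
    have hrange : (P : Subgroup G') ≤ e.toMonoidHom.range := by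
      intro y _
      exact ⟨e.symm y, by simp⟩
    refine ⟨P.comapOfInjective e.toMonoidHom hinj hrange, ?_⟩
    rw [Sylow.coe_comapOfInjective]
    exact Subgroup.comap_mono hP
  · intro Q hQ hQ1 hQH
    have hQ' : IsPGroup p (Q.map e.toMonoidHom) := hQ.map _
    have hQ1' : Q.map e.toMonoidHom ≠ ⊥ := by
      intro h
      apply hQ1
      rw [eq_bot_iff]
      intro x hx
      have : e x ∈ Q.map e.toMonoidHom := ⟨x, hx, rfl⟩
      rw [h, Subgroup.mem_bot] at this
      rw [Subgroup.mem_bot]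
      exact e.injective (this.trans (map_one e).symm)
    have hQH' : Q.map e.toMonoidHom ≤ H' := by
      rintro _ ⟨x, hx, rfl⟩
      exact hQH hx
    have h1 := hnorm _ hQ' hQ1' hQH'
    intro x hx
    rw [Subgroup.mem_comap]
    apply h1
    rw [Subgroup.mem_normalizer_iff] at hx ⊢
    intro y
    constructor
    · rintro ⟨z, hz, rfl⟩
      refine ⟨x * z * x⁻¹, (hx z).1 hz, ?_⟩
      simp
    · rintro ⟨z, hz, hzy⟩
      have h2 : x⁻¹ * z * x ∈ Q := by
        rw [hx]
        have : x * (x⁻¹ * z * x) * x⁻¹ = z := by group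
        rwa [this]
      refine ⟨x⁻¹ * z * x, h2, ?_⟩
      have h3 : e.toMonoidHom z = e.toMonoidHom x * y * (e.toMonoidHom x)⁻¹ := hzy
      have : y = (e.toMonoidHom x)⁻¹ * e.toMonoidHom z * e.toMonoidHom x := by
        rw [h3]; group
      rw [this]
      simp

/-- Conjugates of a strongly `p`-embedded subgroup are strongly `p`-embedded. -/
theorem spe_conj [Finite G] {p : ℕ} [Fact p.Prime] {M : Subgroup G} (hM : SPE p M) (g : G) :
    SPE p (M.comap (MulAut.conj g).toMonoidHom) :=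
  spe_comap_equiv (MulAut.conj g) hM

end SPEgen

section Abstract

variable {P : Type*} [Group P]

/-- The chain `⊥ ≤ Y ≤ ⊤ ≤ ⊤ ≤ …`. -/
def chainY (Y : Subgroup P) : ℕ → Subgroup P
  | 0 => ⊥
  | 1 => Y
  | _ + 2 => ⊤

theorem chainY_mono (Y : Subgroup P) : ∀ j, chainY Y j ≤ chainY Y (j + 1)
  | 0 => bot_le
  | 1 => le_top
  | _ + 2 => le_rfl

theorem stabilizes_chainY {Y : Subgroup P} {α : MulAut P} (hfix : ∀ y ∈ Y, α y = y)
    (hY : ∀ x, x⁻¹ * α x ∈ Y) : Stabilizes (chainY Y) α := by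
  intro j x hx
  match j with
  | 0 =>
    show x⁻¹ * α x ∈ (⊥ : Subgroup P)
    rw [Subgroup.mem_bot, hfix x hx, inv_mul_cancel]
  | 1 => exact hY x
  | _ + 2 => exact Subgroup.mem_top _

/-- **No strongly `p`-embedded subgroup.**  Let `P` be a finite `p`-group, `A ≤ Aut(P)`, `U ≤ A` a `p`-subgroup and
`Z ≤ P` with `[P, U] ≤ Z` and `[Z, U] = 1`.  If for every `h ∈ A` some nonidentity element of `U` centralizes `h(Z)`,
then `A` has no strongly `p`-embedded subgroup. -/
theorem false_of_spe_of_transvections [Finite P] {p : ℕ} [Fact p.Prime] (hP : IsPGroup p P)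
    (A : Subgroup (MulAut P)) (M : Subgroup A) (hM : SPE p M)
    (U : Subgroup (MulAut P)) (hUA : U ≤ A) (hU : IsPGroup p U) (Z : Subgroup P)
    (h1 : ∀ u ∈ U, ∀ x, x⁻¹ * u x ∈ Z) (h2 : ∀ u ∈ U, ∀ z ∈ Z, u z = z)
    (h3 : ∀ h ∈ A, ∃ u ∈ U, u ≠ 1 ∧ ∀ z ∈ Z, u (h z) = h z) : False := by
  have : Finite A := inferInstance
  obtain ⟨P₀, hP₀⟩ := hM.sylow_le
  have hU' : IsPGroup p (U.subgroupOf A) := hU.comap_subtype
  obtain ⟨g, hg⟩ := Cfsg.Agent.Lib.Helper87_Alperin.sylow_conj_into P₀ hU'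
  have hM' := spe_conj hM g
  set M' := M.comap (MulAut.conj g).toMonoidHom with hM'def
  have hUM' : ∀ u (hu : u ∈ U), (⟨u, hUA hu⟩ : A) ∈ M' := by
    intro u hu
    rw [hM'def, Subgroup.mem_comap]
    have := hg ⟨u, hUA hu⟩ (by rw [Subgroup.mem_subgroupOf]; exact hu)
    exact hP₀ this
  apply hM'.2.1
  rw [eq_top_iff]
  rintro ⟨h, hh⟩ -
  obtain ⟨u₁, hu₁U, hu₁ne, hu₁fix⟩ := h3 h hh
  obtain ⟨u', hu'U, hu'ne, hu'fix⟩ := h3 h⁻¹ (A.inv_mem hh)
  have hu'A : u' ∈ A := hUA hu'U
  have hu₂A : h * u' * h⁻¹ ∈ A := A.mul_mem (A.mul_mem hh hu'A) (A.inv_mem hh)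
  set Y : Subgroup P := Z ⊔ Z.map h.toMonoidHom with hY
  have hZY : Z ≤ Y := le_sup_left
  have hhZY : Z.map h.toMonoidHom ≤ Y := le_sup_right
  -- fixed points
  have hfix : ∀ α : MulAut P, (∀ z ∈ Z, α z = z) → (∀ z ∈ Z, α (h z) = h z) → ∀ y ∈ Y, α y = y := by
    intro α ha hb y hy
    have hle : Y ≤ α.toMonoidHom.eqLocus (MonoidHom.id P) := by
      rw [hY]
      refine sup_le (fun z hz => ha z hz) ?_
      rintro _ ⟨z, hz, rfl⟩
      exact hb z hz
    exact hle hy
  set B := stabilityGroup (chainY Y) (chainY_mono Y) A with hB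
  have hBp : IsPGroup p B :=
    isPGroup_stabilityGroup hP (c := chainY Y) rfl (chainY_mono Y) (n := 2) rfl A
  have hu₁B : u₁ ∈ B := by
    rw [hB, mem_stabilityGroup]
    refine ⟨hUA hu₁U, stabilizes_chainY (hfix u₁ (h2 u₁ hu₁U) hu₁fix) fun x => hZY (h1 u₁ hu₁U x)⟩
  have hu₂B : h * u' * h⁻¹ ∈ B := by
    rw [hB, mem_stabilityGroup]
    refine ⟨hu₂A, stabilizes_chainY (hfix _ ?_ ?_) ?_⟩
    · intro z hz
      have := hu'fix z hz
      simp only [MulAut.mul_apply]
      rw [this, MulAut.apply_inv_self]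
    · intro z hz
      simp only [MulAut.mul_apply]
      rw [MulAut.inv_apply_self, h2 u' hu'U z hz]
    · intro x
      apply hhZY
      refine ⟨(h⁻¹ x)⁻¹ * u' (h⁻¹ x), h1 u' hu'U _, ?_⟩
      simp only [MulAut.mul_apply, MulEquiv.coe_toMonoidHom, map_mul, map_inv, MulAut.apply_inv_self]
  have hB'p : IsPGroup p (B.subgroupOf A) := hBp.comap_subtype
  have hne : B.subgroupOf A ⊓ M' ≠ ⊥ := by
    intro hbot
    have hmem1 : (⟨u₁, hUA hu₁U⟩ : A) ∈ B.subgroupOf A := by
      rw [Subgroup.mem_subgroupOf]; exact hu₁B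
    have : (⟨u₁, hUA hu₁U⟩ : A) ∈ B.subgroupOf A ⊓ M' := ⟨hmem1, hUM' u₁ hu₁U⟩
    rw [hbot, Subgroup.mem_bot] at this
    exact hu₁ne (congrArg Subtype.val this)
  have hBM := SPE.le_of_inf_ne_bot hM' hB'p hne
  have hu₂M : (⟨h * u' * h⁻¹, hu₂A⟩ : A) ∈ M' :=
    hBM (by rw [Subgroup.mem_subgroupOf]; exact hu₂B)
  -- now conjugation lemma
  have hQp : IsPGroup p (Subgroup.zpowers (⟨u', hu'A⟩ : A)) := by
    refine hU'.to_le ?_
    rw [Subgroup.zpowers_le, Subgroup.mem_subgroupOf]
    exact hu'U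
  have hQ1 : Subgroup.zpowers (⟨u', hu'A⟩ : A) ≠ ⊥ := by
    rw [Ne, Subgroup.zpowers_eq_bot]
    exact fun h0 => hu'ne (congrArg Subtype.val h0)
  have hQM : Subgroup.zpowers (⟨u', hu'A⟩ : A) ≤ M' := by
    rw [Subgroup.zpowers_le]
    exact hUM' u' hu'U
  refine SPE.mem_of_conj_le' hM' hQp hQ1 hQM (k := ⟨h, hh⟩) ?_
  rw [conj_smul_le_iff]
  rintro _ ⟨n, rfl⟩
  rw [← conj_zpow]
  exact M'.zpow_mem hu₂M n

end Abstract

section TypeLevel

variable {G : Type*} [Group G]

/-- In a group whose commutators are central, `x ↦ [x, y]` is a homomorphism into the centre. -/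
noncomputable def commHom (hc : ∀ x y : G, x * y * x⁻¹ * y⁻¹ ∈ Subgroup.center G) (y : G) :
    G →* Subgroup.center G :=
  MonoidHom.mk' (fun x => ⟨x * y * x⁻¹ * y⁻¹, hc x y⟩) (by
    intro a b
    apply Subtype.ext
    have hb : b * y * b⁻¹ * y⁻¹ ∈ Subgroup.center G := hc b y
    have h1 := Subgroup.mem_center_iff.mp hb a
    show a * b * y * (a * b)⁻¹ * y⁻¹ = (a * y * a⁻¹ * y⁻¹) * (b * y * b⁻¹ * y⁻¹)
    have h2 := Subgroup.mem_center_iff.mp hb (a * y * a⁻¹ * y⁻¹)
    rw [h2]
    calc a * b * y * (a * b)⁻¹ * y⁻¹ = a * (b * y * b⁻¹ * y⁻¹) * y * a⁻¹ * y⁻¹ := by group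
      _ = (b * y * b⁻¹ * y⁻¹) * a * y * a⁻¹ * y⁻¹ := by rw [h1]
      _ = (b * y * b⁻¹ * y⁻¹) * (a * y * a⁻¹ * y⁻¹) := by group)

theorem commHom_apply (hc : ∀ x y : G, x * y * x⁻¹ * y⁻¹ ∈ Subgroup.center G) (y x : G) :
    ((commHom hc y x : Subgroup.center G) : G) = x * y * x⁻¹ * y⁻¹ := rfl

theorem mem_ker_commHom (hc : ∀ x y : G, x * y * x⁻¹ * y⁻¹ ∈ Subgroup.center G) (y x : G) :
    x ∈ (commHom hc y).ker ↔ x * y = y * x := by
  rw [MonoidHom.mem_ker, Subtype.ext_iff, commHom_apply]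
  constructor
  · intro h
    have : x * y = (x * y * x⁻¹ * y⁻¹) * (y * x) := by group
    rw [this, h]
    simp
  · intro h
    have : x * y * x⁻¹ * y⁻¹ = (x * y) * (y * x)⁻¹ := by group
    rw [this, h]
    simp

/-- A subgroup strictly between `E` and a group of order `p|E|` is everything. -/
theorem eq_top_of_lt_of_card [Finite G] {p : ℕ} (hp : p.Prime) {E C : Subgroup G} (hlt : E < C)
    (hcard : Nat.card G = Nat.card E * p) : C = ⊤ := by
  have h1 : Nat.card E ∣ Nat.card C := Subgroup.card_dvd_of_le hlt.le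
  have h2 : Nat.card C ∣ Nat.card G := Subgroup.card_subgroup_dvd_card C
  obtain ⟨m, hm⟩ := h1
  have hEpos : 0 < Nat.card E := Nat.card_pos
  have hmp : m ∣ p := by
    rw [hm, hcard] at h2
    exact (Nat.mul_dvd_mul_iff_left hEpos).1 h2
  rcases (Nat.dvd_prime hp).1 hmp with h | h
  · exfalso
    rw [h, mul_one] at hm
    exact hlt.ne (Subgroup.eq_of_le_of_card_ge hlt.le hm.le)
  · apply Subgroup.eq_top_of_card_eq
    rw [hm, h, hcard]

/-- **Key counting lemma.**  Let `G` be a finite group of order at least `p⁴` whose commutators are central and whose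
centre has order `p`.  If `E` is an abelian subgroup, then every `y ∈ E` commutes with some
element outside `E`. -/
theorem exists_comm_not_mem [Finite G] {p : ℕ} (hp : p.Prime)
    (hc : ∀ x y : G, x * y * x⁻¹ * y⁻¹ ∈ Subgroup.center G)
    (hcard : Nat.card (Subgroup.center G) = p) (h4 : p ^ 4 ≤ Nat.card G)
    (E : Subgroup G) (hab : ∀ a ∈ E, ∀ b ∈ E, a * b = b * a)
    {y : G} (hy : y ∈ E) :
    ∃ x : G, x ∉ E ∧ x * y = y * x := by
  by_contra hcon
  push Not at hcon
  have hcon' : ∀ x : G, x * y = y * x → x ∈ E := fun x hx => by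
    by_contra hxE
    exact hcon x hxE hx
  -- the kernel of `x ↦ [x, y]` is `E`
  have hker : (commHom hc y).ker = E := by
    ext x
    rw [mem_ker_commHom]
    exact ⟨hcon' x, fun hx => hab x hx y hy⟩
  have hdvd : ∀ {H : Type _} [Group H] (f : H →* Subgroup.center G), Nat.card f.range ∣ p := by
    intro H _ f
    rw [← hcard]
    exact Subgroup.card_subgroup_dvd_card _
  have hG : Nat.card G = Nat.card E * Nat.card (commHom hc y).range := by
    rw [← Subgroup.index_ker, ← hker, Subgroup.card_mul_index]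
  have hp2 : 2 ≤ p := hp.two_le
  -- `E ≠ ⊤`
  have hEtop : E ≠ ⊤ := by
    intro hE
    have hcomm : ∀ a b : G, a * b = b * a := fun a b =>
      hab a (hE ▸ Subgroup.mem_top a) b (hE ▸ Subgroup.mem_top b)
    have : Subgroup.center G = ⊤ := by
      rw [eq_top_iff]
      intro a _
      rw [Subgroup.mem_center_iff]
      intro b
      exact hcomm b a
    rw [this, Subgroup.card_top] at hcard
    rw [hcard] at h4
    have : p < p ^ 4 := by
      calc p = p ^ 1 := (pow_one p).symm
        _ < p ^ 4 := Nat.pow_lt_pow_right hp2 (by norm_num)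
    omega
  obtain ⟨x₀, hx₀⟩ : ∃ x₀ : G, x₀ ∉ E := by
    by_contra hall
    push Not at hall
    exact hEtop (eq_top_iff.2 fun a _ => hall a)
  -- `|G| = p |E|`
  have hGp : Nat.card G = Nat.card E * p := by
    rcases (Nat.dvd_prime hp).1 (hdvd (commHom hc y)) with h | h
    · exfalso
      rw [h, mul_one] at hG
      exact hEtop (Subgroup.eq_top_of_card_eq E hG.symm)
    · rw [hG, h]
  -- the second homomorphism
  set g : E →* Subgroup.center G := (commHom hc x₀).comp E.subtype with hg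
  have hE : Nat.card E = Nat.card g.ker * Nat.card g.range := by
    rw [← Subgroup.index_ker, Subgroup.card_mul_index]
  have hkerle : Nat.card g.ker ≤ p := by
    rw [← hcard]
    have hcentral : ∀ e : g.ker, ((e : E) : G) ∈ Subgroup.center G := by
      rintro ⟨⟨e, heE⟩, hek⟩
      have hek' : e * x₀ = x₀ * e := by
        have : (⟨e, heE⟩ : E) ∈ g.ker := hek
        rw [hg, MonoidHom.mem_ker, MonoidHom.comp_apply] at this
        exact (mem_ker_commHom hc x₀ e).1 this
      have hlt : E < Subgroup.centralizer {e} := by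
        refine lt_of_le_of_ne ?_ ?_
        · intro a ha
          rw [Subgroup.mem_centralizer_singleton_iff]
          exact hab a ha e heE
        · intro heq
          apply hx₀
          rw [heq, Subgroup.mem_centralizer_singleton_iff]
          exact hek'.symm
      have htop := eq_top_of_lt_of_card hp hlt hGp
      rw [Subgroup.mem_center_iff]
      intro b
      have : b ∈ Subgroup.centralizer {e} := htop ▸ Subgroup.mem_top b
      rw [Subgroup.mem_centralizer_singleton_iff] at this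
      exact this
    exact Nat.card_le_card_of_injective (fun e : g.ker => (⟨((e : E) : G), hcentral e⟩ : Subgroup.center G))
      (fun a b hab' => by
        have h := congrArg (fun z : Subgroup.center G => (z : G)) hab'
        exact Subtype.ext (Subtype.ext h))
  have hrangele : Nat.card g.range ≤ p := Nat.le_of_dvd hp.pos (hdvd g)
  have hEle : Nat.card E ≤ p * p := by
    rw [hE]
    exact Nat.mul_le_mul hkerle hrangele
  have : Nat.card G ≤ p * p * p := by
    rw [hGp]
    exact Nat.mul_le_mul_right p hEle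
  have h34 : p * p * p < p ^ 4 := by
    have : p ^ 3 < p ^ 4 := Nat.pow_lt_pow_right hp2 (by norm_num)
    calc p * p * p = p ^ 3 := by ring
      _ < p ^ 4 := this
  omega

end TypeLevel

section Extraspecial

variable {Ω : Type*} [Group Ω]

/-- The centre of `Q`, inside the ambient group. -/
def zq (Q : Subgroup Ω) : Subgroup Ω := Q ⊓ Subgroup.centralizer (Q : Set Ω)

theorem zq_le (Q : Subgroup Ω) : zq Q ≤ Q := inf_le_left

theorem zq_comm {Q : Subgroup Ω} {z g : Ω} (hz : z ∈ zq Q) (hg : g ∈ Q) : g * z = z * g :=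
  Subgroup.mem_centralizer_iff.mp hz.2 g hg

theorem card_zq {p : ℕ} {Q : Subgroup Ω} (hQ : IsExtraspecial p Q) : Nat.card (zq Q) = p := by
  rw [zq, Cfsg.Agent.Lib.Helper84_FusionEssential.card_inf_centralizer]
  exact hQ.2

theorem comm_mem_center {p : ℕ} {Q : Subgroup Ω} (hQ : IsExtraspecial p Q) (x y : Q) :
    x * y * x⁻¹ * y⁻¹ ∈ Subgroup.center Q := by
  rw [← hQ.1.2.2, ← commutatorElement_def]
  exact Subgroup.commutator_mem_commutator (Subgroup.mem_top x) (Subgroup.mem_top y)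

theorem comm_mem_zq {p : ℕ} {Q : Subgroup Ω} (hQ : IsExtraspecial p Q) {x y : Ω} (hx : x ∈ Q)
    (hy : y ∈ Q) : x * y * x⁻¹ * y⁻¹ ∈ zq Q := by
  have h := comm_mem_center hQ ⟨x, hx⟩ ⟨y, hy⟩
  rw [zq, ← Cfsg.Agent.Lib.Helper84_FusionEssential.map_center_subtype]
  exact ⟨_, h, rfl⟩

/-- A subgroup containing a nonidentity element of a subgroup of prime order contains that subgroup. -/
theorem le_of_mem_of_card_prime {p : ℕ} (hp : p.Prime) {K H : Subgroup Ω} (hK : Nat.card K = p)
    {c : Ω} (hcK : c ∈ K) (hcH : c ∈ H) (hc1 : c ≠ 1) : K ≤ H := by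
  have : Finite K := Nat.finite_of_card_ne_zero (by rw [hK]; exact hp.ne_zero)
  have hle : K ⊓ H ≤ K := inf_le_left
  have hdvd : Nat.card (K ⊓ H : Subgroup Ω) ∣ p := hK ▸ Subgroup.card_dvd_of_le hle
  rcases (Nat.dvd_prime hp).1 hdvd with h | h
  · exfalso
    have hbot : (K ⊓ H : Subgroup Ω) = ⊥ := Subgroup.card_eq_one.1 h
    have hc : c ∈ (K ⊓ H : Subgroup Ω) := ⟨hcK, hcH⟩
    rw [hbot, Subgroup.mem_bot] at hc
    exact hc1 hc
  · have := Subgroup.eq_of_le_of_card_ge hle (by rw [h, hK])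
    rw [← this]
    exact inf_le_right

/-- In an extraspecial group of order at least `p⁴`, every element of an abelian subgroup `E` commutes with an
element outside `E`. -/
theorem exists_comm_not_mem_of_isExtraspecial {p : ℕ} [Fact p.Prime] {Q : Subgroup Ω} [Finite Q]
    (hQ : IsExtraspecial p Q) (h4 : p ^ 4 ≤ Nat.card Q) {E : Subgroup Ω}
    (hab : ∀ a ∈ E, ∀ b ∈ E, a * b = b * a) {y : Ω} (hyE : y ∈ E) (hyQ : y ∈ Q) :
    ∃ x ∈ Q, x ∉ E ∧ x * y = y * x := by
  obtain ⟨x, hx, hxy⟩ := exists_comm_not_mem (Fact.out : p.Prime) (comm_mem_center hQ) hQ.2 h4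
    (E.subgroupOf Q) (fun a ha b hb => Subtype.ext (hab a ha b hb)) (y := ⟨y, hyQ⟩)
    (Subgroup.mem_subgroupOf.2 hyE)
  exact ⟨x, x.2, fun h => hx (Subgroup.mem_subgroupOf.2 h), congrArg Subtype.val hxy⟩

end Extraspecial

section Fusion

variable {Ω : Type*} [Group Ω] {S : Subgroup Ω}

open Cfsg.FusionSystem Cfsg.Agent.Lib.Helper87_Alperin

/-- Conjugation by an element of `S` normalizing `E` is an `F`-automorphism of `E`. -/
theorem normalizerMonoidHom_mem_autGroup (F : FusionSystem S) {E : Subgroup Ω} (hES : E ≤ S) {g : Ω}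
    (hgS : g ∈ S) (hgN : g ∈ Subgroup.normalizer (E : Set Ω)) :
    E.normalizerMonoidHom ⟨g, hgN⟩ ∈ F.autGroup E := by
  apply autInducedBy_le_autGroup F hES
  rw [mem_autInducedBy_iff]
  exact ⟨g, hgS, fun x => rfl⟩

/-- A nonabelian radical subgroup `E` of an extraspecial subgroup `Q`, containing its centralizer, equals `Q`. -/
theorem eq_of_nonabelian [Finite S] {p : ℕ} [Fact p.Prime] (hS : IsPGroup p S) (F : FusionSystem S)
    {Q E : Subgroup Ω} (hQS : Q ≤ S) (hQ : IsExtraspecial p Q) (hEQ : E ≤ Q)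
    (hcen : centralizerIn S E ≤ E) (hrad : F.IsRadical p E)
    (hnab : ¬ ∀ a ∈ E, ∀ b ∈ E, a * b = b * a) : E = Q := by
  classical
  by_contra hne
  have hES : E ≤ S := hEQ.trans hQS
  have : Finite Q := Finite.of_injective (Subgroup.inclusion hQS) (Subgroup.inclusion_injective hQS)
  have : Finite E := Finite.of_injective (Subgroup.inclusion hES) (Subgroup.inclusion_injective hES)
  have hQp : IsPGroup p Q := hS.to_le hQS
  have hEp : IsPGroup p E := hS.to_le hES
  push Not at hnab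
  obtain ⟨a, ha, b, hb, hab⟩ := hnab
  set c := a * b * a⁻¹ * b⁻¹ with hc
  have hc1 : c ≠ 1 := by
    intro h
    apply hab
    have : a * b = c * (b * a) := by rw [hc]; group
    rw [this, h, one_mul]
  set Z' : Subgroup Ω := (commutator E).map E.subtype with hZ'
  have hmemc : (⟨a, ha⟩ : E) * ⟨b, hb⟩ * (⟨a, ha⟩ : E)⁻¹ * (⟨b, hb⟩ : E)⁻¹ ∈ commutator E := by
    rw [← commutatorElement_def]
    exact Subgroup.commutator_mem_commutator (Subgroup.mem_top _) (Subgroup.mem_top _)
  have hcZ' : c ∈ Z' := ⟨_, hmemc, rfl⟩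
  have hcZq : c ∈ zq Q := comm_mem_zq hQ (hEQ ha) (hEQ hb)
  have hZqZ' : zq Q ≤ Z' := le_of_mem_of_card_prime Fact.out (card_zq hQ) hcZq hcZ' hc1
  have hZ'Zq : Z' ≤ zq Q := by
    rw [hZ', Subgroup.map_le_iff_le_comap, commutator_def, Subgroup.commutator_le]
    intro x _ y _
    rw [Subgroup.mem_comap]
    have := comm_mem_zq hQ (hEQ x.2) (hEQ y.2)
    simpa [commutatorElement_def] using this
  have hN : normalizerIn Q E ≤ E := by
    rintro g ⟨hgQ, hgN⟩
    have hgS := hQS hgQ
    have hgN' : g ∈ Subgroup.normalizer (E : Set Ω) := hgN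
    set β := E.normalizerMonoidHom ⟨g, hgN'⟩ with hβ
    have hβK : β ∈ F.autGroup E := normalizerMonoidHom_mem_autGroup F hES hgS hgN'
    have hβx : ∀ x : E, ((β x : E) : Ω) = g * x * g⁻¹ := fun x => rfl
    let D : ℕ → Subgroup Ω := fun j => if j = 0 then ⊥ else if j = 1 then Z' else E
    have hD0 : D 0 = ⊥ := by simp [D]
    have hD1 : D 1 = Z' := by simp [D]
    have hD2 : D 2 = E := by simp [D]
    have hmem := Cfsg.Agent.Lib.Helper87_Normal.mem_pCore_of_stabilizes_chain hEp (F.autGroup E) D 2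
      hD0 (by rw [hD2]) ?_ β hβK ?_
    · rw [hrad.2] at hmem
      exact Cfsg.Agent.Lib.Helper84_FusionEssential.mem_of_normalizerMonoidHom_mem_inn hcen hgS hES
        hgN' hmem
    · intro j hj α _ x hx
      interval_cases j
      · rw [hD0, Subgroup.mem_bot] at hx ⊢
        have hx1 : x = 1 := Subtype.ext hx
        rw [hx1, map_one]
        rfl
      · rw [hD1] at hx ⊢
        obtain ⟨x', hx', hxx'⟩ := hx
        have hxe : x' = x := Subtype.ext hxx'
        subst hxe
        refine ⟨α x', ?_, rfl⟩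
        have hchar : (commutator E).Characteristic := by
          rw [commutator_def]; infer_instance
        have hmap := Subgroup.characteristic_iff_map_eq.mp hchar α
        rw [← hmap]
        exact ⟨x', hx', rfl⟩
      · rw [hD2]
        exact (α x).2
    · intro j hj x hx
      interval_cases j
      · rw [hD1] at hx
        rw [hD0, Subgroup.mem_bot, hβx]
        have h1 := zq_comm (hZ'Zq hx) hgQ
        rw [h1]
        group
      · rw [hD1]
        apply hZqZ'
        rw [hβx]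
        have h1 := comm_mem_zq hQ (Q.inv_mem (hEQ x.2)) hgQ
        have h2 : ((x : Ω))⁻¹ * g * ((x : Ω))⁻¹⁻¹ * g⁻¹ = (x : Ω)⁻¹ * (g * x * g⁻¹) := by group
        rw [← h2]
        exact h1
  exact absurd (lt_normalizerIn hQp hEQ hne) (not_lt_of_ge hN)

/-- An abelian subgroup `E` of an extraspecial subgroup `Q` of order at least `p⁴`, containing its centralizer in
`S`, does not have a strongly `p`-embedded subgroup in its automizer. -/
theorem false_of_abelian [Finite S] {p : ℕ} [Fact p.Prime] (hS : IsPGroup p S) (F : FusionSystem S)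
    {Q E : Subgroup Ω} (hQS : Q ≤ S) (hQ : IsExtraspecial p Q) (h4 : p ^ 4 ≤ Nat.card Q) (hEQ : E ≤ Q)
    (hcen : centralizerIn S E ≤ E)
    (hspe : ∃ _ : ((Inn E).subgroupOf (F.autGroup E)).Normal,
      ∃ M : Subgroup (F.autGroup E ⧸ (Inn E).subgroupOf (F.autGroup E)), IsStronglyPEmbedded p M)
    (hab : ∀ a ∈ E, ∀ b ∈ E, a * b = b * a) : False := by
  classical
  have hES : E ≤ S := hEQ.trans hQS
  have : Finite Q := Finite.of_injective (Subgroup.inclusion hQS) (Subgroup.inclusion_injective hQS)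
  have : Finite E := Finite.of_injective (Subgroup.inclusion hES) (Subgroup.inclusion_injective hES)
  have hQp : IsPGroup p Q := hS.to_le hQS
  have hEp : IsPGroup p E := hS.to_le hES
  have hp : p.Prime := Fact.out
  obtain ⟨hn, Mbar, hMbar⟩ := hspe
  have hInn : Inn E = ⊥ :=
    Cfsg.Agent.Lib.Helper88_AbelianEssential.inn_eq_bot (fun x y => Subtype.ext (hab x x.2 y y.2))
  have hNbot : (Inn E).subgroupOf (F.autGroup E) = ⊥ := by rw [hInn, Subgroup.bot_subgroupOf]
  have hinj : Function.Injective (QuotientGroup.mk' ((Inn E).subgroupOf (F.autGroup E))) := by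
    rw [← MonoidHom.ker_eq_bot_iff, QuotientGroup.ker_mk', hNbot]
  let e : F.autGroup E ≃* F.autGroup E ⧸ (Inn E).subgroupOf (F.autGroup E) :=
    MulEquiv.ofBijective (QuotientGroup.mk' _) ⟨hinj, QuotientGroup.mk'_surjective _⟩
  have : Finite (F.autGroup E) := inferInstance
  have hM := spe_comap_equiv e (spe_of_isStronglyPEmbedded hMbar)
  -- the centre of `Q` lies in `E`
  have hZE : zq Q ≤ E := by
    intro z hz
    apply hcen
    refine ⟨hQS (zq_le Q hz), ?_⟩
    show z ∈ Subgroup.centralizer (E : Set Ω)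
    rw [Subgroup.mem_centralizer_iff]
    intro x hx
    exact zq_comm hz (hEQ hx)
  -- a generator of the centre
  have hcardZ := card_zq hQ
  obtain ⟨z₀, hz₀, hz₀1⟩ : ∃ z₀ ∈ zq Q, z₀ ≠ 1 := by
    by_contra hcon
    push Not at hcon
    have : zq Q = ⊥ := by
      rw [eq_bot_iff]
      intro z hz
      rw [Subgroup.mem_bot]
      exact hcon z hz
    rw [this, Subgroup.card_bot] at hcardZ
    exact hp.one_lt.ne hcardZ
  have hZgen : zq Q ≤ Subgroup.zpowers z₀ :=
    le_of_mem_of_card_prime hp hcardZ hz₀ (Subgroup.mem_zpowers z₀) hz₀1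
  -- the group `U` of automorphisms induced by `Q`
  set U := autInducedBy Q E with hUdef
  have hUmem : ∀ u ∈ U, ∃ g ∈ Q, ∀ x : E, ((u x : E) : Ω) = g * x * g⁻¹ := fun u hu =>
    (mem_autInducedBy_iff Q E u).1 hu
  have hUA : U ≤ F.autGroup E := by
    intro u hu
    obtain ⟨g, hg, hgu⟩ := hUmem u hu
    apply autInducedBy_le_autGroup F hES
    rw [mem_autInducedBy_iff]
    exact ⟨g, hQS hg, hgu⟩
  have hU : IsPGroup p U := by
    rintro ⟨u, hu⟩
    obtain ⟨g, hg, hgu⟩ := hUmem u hu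
    obtain ⟨k, hk⟩ := hQp ⟨g, hg⟩
    refine ⟨k, Subtype.ext ?_⟩
    have hk' : g ^ p ^ k = 1 := congrArg Subtype.val hk
    show u ^ p ^ k = 1
    ext x
    rw [Cfsg.Agent.Lib.Helper87_PInner.pow_apply_of_conj u g hgu, hk']
    simp
  set Z : Subgroup E := (zq Q).subgroupOf E with hZdef
  refine false_of_spe_of_transvections hEp (F.autGroup E) _ hM U hUA hU Z ?_ ?_ ?_
  · intro u hu x
    obtain ⟨g, hg, hgu⟩ := hUmem u hu
    rw [hZdef, Subgroup.mem_subgroupOf]
    have h1 := comm_mem_zq hQ (Q.inv_mem (hEQ x.2)) hg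
    have h2 : ((x : Ω))⁻¹ * g * ((x : Ω))⁻¹⁻¹ * g⁻¹ = (x : Ω)⁻¹ * (g * x * g⁻¹) := by group
    rw [h2, ← hgu] at h1
    exact h1
  · intro u hu z hz
    obtain ⟨g, hg, hgu⟩ := hUmem u hu
    rw [hZdef, Subgroup.mem_subgroupOf] at hz
    apply Subtype.ext
    rw [hgu, zq_comm hz hg]
    group
  · intro h hh
    set y : E := h ⟨z₀, hZE hz₀⟩ with hy
    obtain ⟨x, hxQ, hxE, hxy⟩ := exists_comm_not_mem_of_isExtraspecial hQ h4 hab y.2 (hEQ y.2)
    have hxN : x ∈ Subgroup.normalizer (E : Set Ω) := by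
      -- `E` contains the commutators `[x, e]`
      rw [Subgroup.mem_normalizer_iff]
      intro e
      constructor
      · intro he
        have h1 := hZE (comm_mem_zq hQ hxQ (hEQ he))
        have h2 : x * e * x⁻¹ = (x * e * x⁻¹ * e⁻¹) * e := by group
        rw [h2]
        exact E.mul_mem h1 he
      · intro he
        have h1 := hZE (comm_mem_zq hQ (Q.inv_mem hxQ) (hEQ he))
        have h2 : e = (x⁻¹ * (x * e * x⁻¹) * x⁻¹⁻¹ * (x * e * x⁻¹)⁻¹) * (x * e * x⁻¹) := by group
        rw [h2]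
        exact E.mul_mem h1 he
    set u := E.normalizerMonoidHom ⟨x, hxN⟩ with hu
    have hux : ∀ t : E, ((u t : E) : Ω) = x * t * x⁻¹ := fun t => rfl
    have huU : u ∈ U := by
      rw [hUdef, mem_autInducedBy_iff]
      exact ⟨x, hxQ, hux⟩
    refine ⟨u, huU, ?_, ?_⟩
    · intro hu1
      apply hxE
      apply hcen
      refine ⟨hQS hxQ, ?_⟩
      show x ∈ Subgroup.centralizer (E : Set Ω)
      rw [Subgroup.mem_centralizer_iff]
      intro t ht
      have h1 := hux ⟨t, ht⟩
      rw [hu1] at h1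
      have h2 : t = x * t * x⁻¹ := h1
      calc t * x = (x * t * x⁻¹) * x := by rw [← h2]
        _ = x * t := by group
    · intro z hz
      rw [hZdef, Subgroup.mem_subgroupOf] at hz
      obtain ⟨n, hn⟩ := hZgen hz
      have hzpow : z = (⟨z₀, hZE hz₀⟩ : E) ^ n := Subtype.ext (by simpa using hn.symm)
      have huy : u y = y := by
        apply Subtype.ext
        rw [hux, hxy]
        group
      rw [hzpow, map_zpow, ← hy, map_zpow, huy]

end Fusion

end Cfsg.Agent.Lib.Helper87_ExtraIdx
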