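import Mathlib
import Cfsg.Agent.Lib.Helper84_Stability
import Cfsg.Agent.Lib.Helper87_ExtraIdx

/-!
# Groups of automorphisms generated by "transvections" of an abelian `p`-group (helper87)

`IsTv Zc H t`: the automorphism `t ≠ 1` of `P` satisfies `[P, t] ≤ Zc ≤ H = Fix(t)`.

`TvSetting p A Zc H u`: `P` abelian, `|Zc| = p`, `u ∈ A` a transvection with centre `Zc` and axis `H`, any two
`A`-conjugates of `u` stabilizing a common chain generate the same cyclic group ("Sylow subgroups of order `p`"), and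
`⟨u⟩` is not normal in `A`.

Main result `TvSetting.main`: there are an `A`-invariant complement `L` of `Zc` in `H` and an element `τ ∈ A`
normalizing `⟨u⟩`, inverting `Zc` and centralizing `L`.
-/

set_option autoImplicit false

namespace Cfsg.Agent.Lib.Helper87_Transvection

open Cfsg.Agent.Lib.Helper84_Stability Cfsg.Agent.Lib.Helper87_ExtraIdx

variable {P : Type*} [Group P]

/-- `t` is a nonidentity automorphism with `[P, t] ≤ Zc ≤ H = Fix(t)`. -/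
structure IsTv (Zc H : Subgroup P) (t : MulAut P) : Prop where
  ne_one : t ≠ 1
  comm_mem : ∀ x, x⁻¹ * t x ∈ Zc
  fix_iff : ∀ x, t x = x ↔ x ∈ H
  le : Zc ≤ H

namespace IsTv

variable {Zc H : Subgroup P} {t : MulAut P}

theorem fix (h : IsTv Zc H t) {x : P} (hx : x ∈ H) : t x = x := (h.fix_iff x).2 hx

theorem conj (h : IsTv Zc H t) (a : MulAut P) :
    IsTv (Zc.map a.toMonoidHom) (H.map a.toMonoidHom) (a * t * a⁻¹) where
  ne_one := by
    intro h1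
    apply h.ne_one
    have : t = a⁻¹ * (a * t * a⁻¹) * a := by group
    rw [this, h1]
    group
  comm_mem := fun x => ⟨(a⁻¹ x)⁻¹ * t (a⁻¹ x), h.comm_mem _, by
    simp [MulAut.mul_apply]⟩
  fix_iff := fun x => by
    constructor
    · intro hx
      refine ⟨a⁻¹ x, (h.fix_iff _).1 ?_, by simp⟩
      have h1 : a (t (a⁻¹ x)) = x := hx
      have h2 : a⁻¹ (a (t (a⁻¹ x))) = a⁻¹ x := by rw [h1]
      rwa [MulAut.inv_apply_self] at h2
    · rintro ⟨y, hy, rfl⟩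
      simp [MulAut.mul_apply, h.fix hy]
  le := Subgroup.map_mono h.le

theorem pow_apply (h : IsTv Zc H t) (k : ℕ) (x : P) : (t ^ k) x = x * (x⁻¹ * t x) ^ k := by
  induction k with
  | zero => simp
  | succ k ih =>
    rw [pow_succ', MulAut.mul_apply, ih, map_mul, map_pow, h.fix (h.le (h.comm_mem x)), pow_succ',
      ← mul_assoc, mul_inv_cancel_left]

theorem pow_fix (h : IsTv Zc H t) (k : ℕ) {x : P} (hx : x ∈ H) : (t ^ k) x = x := by
  rw [h.pow_apply, h.fix hx]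
  simp

theorem zpow_fix (h : IsTv Zc H t) {s : MulAut P} (hs : s ∈ Subgroup.zpowers t) {x : P} (hx : x ∈ H) :
    s x = x := by
  rw [Subgroup.mem_zpowers_iff] at hs
  obtain ⟨k, rfl⟩ := hs
  have hfix : ∀ n : ℕ, (t ^ n) x = x := fun n => h.pow_fix n hx
  rcases Int.eq_nat_or_neg k with ⟨n, rfl | rfl⟩
  · rw [zpow_natCast]
    exact hfix n
  · rw [zpow_neg, zpow_natCast]
    have h1 := hfix n
    have h2 : (t ^ n)⁻¹ ((t ^ n) x) = x := MulAut.inv_apply_self _ _ _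
    rw [h1] at h2
    exact h2

theorem comm_mul (_h : IsTv Zc H t) (hab : ∀ x y : P, x * y = y * x) (x y : P) :
    (x * y)⁻¹ * t (x * y) = (x⁻¹ * t x) * (y⁻¹ * t y) := by
  calc (x * y)⁻¹ * t (x * y) = y⁻¹ * (x⁻¹ * t x) * t y := by rw [map_mul, mul_inv_rev]; group
    _ = (x⁻¹ * t x) * y⁻¹ * t y := by rw [hab y⁻¹ (x⁻¹ * t x)]
    _ = (x⁻¹ * t x) * (y⁻¹ * t y) := by group

theorem comm_pow (h : IsTv Zc H t) (hab : ∀ x y : P, x * y = y * x) (x : P) (k : ℕ) :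
    (x ^ k)⁻¹ * t (x ^ k) = (x⁻¹ * t x) ^ k := by
  induction k with
  | zero => simp
  | succ k ih => rw [pow_succ, h.comm_mul hab, ih, pow_succ]

theorem comm_eq_one_iff (h : IsTv Zc H t) (x : P) : x⁻¹ * t x = 1 ↔ x ∈ H := by
  rw [inv_mul_eq_one, ← h.fix_iff]
  exact eq_comm

theorem pow_eq_one (h : IsTv Zc H t) {p : ℕ} (hcard : Nat.card Zc = p) (hp : p.Prime) : t ^ p = 1 := by
  have : Finite Zc := Nat.finite_of_card_ne_zero (by rw [hcard]; exact hp.ne_zero)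
  ext x
  rw [h.pow_apply, MulAut.one_apply]
  have h1 : (⟨x⁻¹ * t x, h.comm_mem x⟩ : Zc) ^ Nat.card Zc = 1 := pow_card_eq_one'
  have h2 : (x⁻¹ * t x) ^ p = 1 := by
    have := congrArg Subtype.val h1
    rw [hcard] at this
    simpa using this
  rw [h2, mul_one]

theorem card_zpowers (h : IsTv Zc H t) {p : ℕ} (hcard : Nat.card Zc = p) (hp : p.Prime) :
    Nat.card (Subgroup.zpowers t) = p := by
  rw [Nat.card_zpowers]
  have : Fact p.Prime := ⟨hp⟩
  exact orderOf_eq_prime (h.pow_eq_one hcard hp) h.ne_one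

end IsTv

/-- In a subgroup of prime order, every element is a natural power of any nonidentity element. -/
theorem exists_pow_eq {p : ℕ} (hp : p.Prime) {K : Subgroup P} (hK : Nat.card K = p) {c z : P}
    (hc : c ∈ K) (hc1 : c ≠ 1) (hz : z ∈ K) : ∃ j : ℕ, c ^ j = z := by
  have : Finite K := Nat.finite_of_card_ne_zero (by rw [hK]; exact hp.ne_zero)
  have hle : K ≤ Subgroup.zpowers c := le_of_mem_of_card_prime hp hK hc (Subgroup.mem_zpowers c) hc1
  have h1 : (⟨c, hc⟩ : K) ^ Nat.card K = 1 := pow_card_eq_one'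
  have h2 : c ^ p = 1 := by
    have := congrArg Subtype.val h1
    rw [hK] at this
    simpa using this
  have hfin : IsOfFinOrder c := isOfFinOrder_iff_pow_eq_one.2 ⟨p, hp.pos, h2⟩
  have h3 := hfin.mem_powers_iff_mem_zpowers.2 (hle hz)
  exact (Submonoid.mem_powers_iff _ _).1 h3

/-- The chain `⊥ ≤ Y₁ ≤ Y₂ ≤ ⊤ ≤ ⊤ ≤ …`. -/
def chain4 (Y₁ Y₂ : Subgroup P) : ℕ → Subgroup P
  | 0 => ⊥
  | 1 => Y₁
  | 2 => Y₂
  | _ + 3 => ⊤

theorem chain4_mono {Y₁ Y₂ : Subgroup P} (h : Y₁ ≤ Y₂) : ∀ j, chain4 Y₁ Y₂ j ≤ chain4 Y₁ Y₂ (j + 1)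
  | 0 => bot_le
  | 1 => h
  | 2 => le_top
  | _ + 3 => le_rfl

theorem stabilizes_chain4 {Y₁ Y₂ : Subgroup P} {α : MulAut P} (h1 : ∀ y ∈ Y₁, α y = y)
    (h2 : ∀ x ∈ Y₂, x⁻¹ * α x ∈ Y₁) (h3 : ∀ x, x⁻¹ * α x ∈ Y₂) : Stabilizes (chain4 Y₁ Y₂) α := by
  intro j x hx
  match j with
  | 0 =>
    show x⁻¹ * α x ∈ (⊥ : Subgroup P)
    rw [Subgroup.mem_bot, h1 x hx, inv_mul_cancel]
  | 1 => exact h2 x hx
  | 2 => exact h3 x
  | _ + 3 => exact Subgroup.mem_top _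

/-- The standing hypotheses. -/
structure TvSetting (p : ℕ) (A : Subgroup (MulAut P)) (Zc H : Subgroup P) (u : MulAut P) : Prop where
  hab : ∀ x y : P, x * y = y * x
  card : Nat.card Zc = p
  tv : IsTv Zc H u
  mem : u ∈ A
  syl : ∀ t₁ t₂ : MulAut P, (∃ a ∈ A, t₁ = a * u * a⁻¹) → (∃ a ∈ A, t₂ = a * u * a⁻¹) →
    ∀ c : ℕ → Subgroup P, c 0 = ⊥ → (∀ j, c j ≤ c (j + 1)) → (∃ n, c n = ⊤) →
      Stabilizes c t₁ → Stabilizes c t₂ → t₂ ∈ Subgroup.zpowers t₁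
  nn : ∃ a ∈ A, a * u * a⁻¹ ∉ Subgroup.zpowers u

namespace TvSetting

variable {p : ℕ} {A : Subgroup (MulAut P)} {Zc H : Subgroup P} {u : MulAut P}

/-- Two conjugates of `u`, the centre of the first lying in the axis of the second, generate the same cyclic group. -/
theorem mem_zpowers (hS : TvSetting p A Zc H u) {t₁ t₂ : MulAut P} (h₁ : ∃ a ∈ A, t₁ = a * u * a⁻¹)
    (h₂ : ∃ a ∈ A, t₂ = a * u * a⁻¹) {Z₁ H₁ Z₂ H₂ : Subgroup P} (tv₁ : IsTv Z₁ H₁ t₁)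
    (tv₂ : IsTv Z₂ H₂ t₂) (hle : Z₁ ≤ H₂) : t₂ ∈ Subgroup.zpowers t₁ := by
  refine hS.syl t₁ t₂ h₁ h₂ (chain4 Z₁ (Z₁ ⊔ Z₂)) rfl (chain4_mono le_sup_left) ⟨3, rfl⟩ ?_ ?_
  · exact stabilizes_chain4 (fun y hy => tv₁.fix (tv₁.le hy)) (fun x _ => tv₁.comm_mem x)
      (fun x => le_sup_left (a := Z₁) (b := Z₂) (tv₁.comm_mem x))
  · have hfix : ∀ x ∈ Z₁ ⊔ Z₂, t₂ x = x := by
      intro x hx
      have hle' : Z₁ ⊔ Z₂ ≤ H₂ := sup_le hle tv₂.le
      exact tv₂.fix (hle' hx)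
    refine stabilizes_chain4 (fun y hy => tv₂.fix (hle hy)) (fun x hx => ?_)
      (fun x => le_sup_right (a := Z₁) (b := Z₂) (tv₂.comm_mem x))
    rw [hfix x hx, inv_mul_cancel]
    exact Subgroup.one_mem _

theorem self_conj (_hS : TvSetting p A Zc H u) : ∃ a ∈ A, u = a * u * a⁻¹ :=
  ⟨1, A.one_mem, by group⟩


/-- **Main theorem on transvection groups.** -/
theorem main [hpf : Fact p.Prime] (hS : TvSetting p A Zc H u) :
    ∃ (L : Subgroup P) (τ : MulAut P), τ ∈ A ∧ (∀ a ∈ A, ∀ x ∈ L, a x ∈ L) ∧ Zc ⊓ L = ⊥ ∧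
      Zc ⊔ L = H ∧ τ * u * τ⁻¹ ∈ Subgroup.zpowers u ∧ (∀ z ∈ Zc, τ z = z⁻¹) ∧ ∀ x ∈ L, τ x = x := by
  have hp : p.Prime := hpf.out
  have hab := hS.hab
  have hcard := hS.card
  have tv := hS.tv
  obtain ⟨a₀, ha₀, hnn⟩ := hS.nn
  set u' := a₀ * u * a₀⁻¹ with hu'
  set Z' := Zc.map a₀.toMonoidHom with hZ'
  set H' := H.map a₀.toMonoidHom with hH'
  have tv' : IsTv Z' H' u' := tv.conj a₀
  have hcard' : Nat.card Z' = p := by
    rw [hZ', Subgroup.card_map_of_injective a₀.injective]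
    exact hcard
  have hu'A : u' ∈ A := A.mul_mem (A.mul_mem ha₀ hS.mem) (A.inv_mem ha₀)
  have hconj' : ∃ a ∈ A, u' = a * u * a⁻¹ := ⟨a₀, ha₀, rfl⟩
  -- general position
  have hZH' : ¬ Zc ≤ H' := fun hle => hnn (hS.mem_zpowers hS.self_conj hconj' tv tv' hle)
  have hZ'H : ¬ Z' ≤ H := by
    intro hle
    have h1 : u ∈ Subgroup.zpowers u' := hS.mem_zpowers hconj' hS.self_conj tv' tv hle
    have h2 : Subgroup.zpowers u' ≤ Subgroup.zpowers u :=
      le_of_mem_of_card_prime hp (tv'.card_zpowers hcard' hp) h1 (Subgroup.mem_zpowers u) tv.ne_one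
    exact hnn (h2 (Subgroup.mem_zpowers u'))
  -- generators
  obtain ⟨z₀, hz₀, hz₀1⟩ : ∃ z₀ ∈ Zc, z₀ ≠ 1 := by
    by_contra hcon
    push Not at hcon
    have : Zc = ⊥ := by
      rw [eq_bot_iff]
      intro z hz
      rw [Subgroup.mem_bot]
      exact hcon z hz
    rw [this, Subgroup.card_bot] at hcard
    exact hp.one_lt.ne hcard
  have hZgen : Zc ≤ Subgroup.zpowers z₀ :=
    le_of_mem_of_card_prime hp hcard hz₀ (Subgroup.mem_zpowers z₀) hz₀1
  have hz₀H' : z₀ ∉ H' := fun h => hZH' (hZgen.trans ((Subgroup.zpowers_le).2 h))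
  set z' := (u' z₀)⁻¹ * z₀ with hz'
  have hz'Z : z' ∈ Z' := by
    have := Z'.inv_mem (tv'.comm_mem z₀)
    rwa [mul_inv_rev, inv_inv] at this
  have hz'1 : z' ≠ 1 := by
    intro h
    apply hz₀H'
    rw [← tv'.fix_iff]
    rw [hz', inv_mul_eq_one] at h
    exact h
  have hu'z₀ : u' z₀ = z₀ * z'⁻¹ := by rw [hz']; group
  have hZ'gen : Z' ≤ Subgroup.zpowers z' :=
    le_of_mem_of_card_prime hp hcard' hz'Z (Subgroup.mem_zpowers z') hz'1
  have hz'H : z' ∉ H := fun h => hZ'H (hZ'gen.trans ((Subgroup.zpowers_le).2 h))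
  set c := z'⁻¹ * u z' with hc
  have hcZ : c ∈ Zc := tv.comm_mem z'
  have hc1 : c ≠ 1 := fun h => hz'H ((tv.comm_eq_one_iff z').1 h)
  obtain ⟨j, hj⟩ := exists_pow_eq hp hcard hcZ hc1 hz₀
  set ut := u ^ j with hut
  have hutz' : ut z' = z' * z₀ := by rw [hut, tv.pow_apply, ← hc, hj]
  have hutfix : ∀ x ∈ H, ut x = x := fun x hx => tv.pow_fix j hx
  have hutz₀ : ut z₀ = z₀ := hutfix z₀ (tv.le hz₀)
  have hutA : ut ∈ A := A.pow_mem hS.mem j
  have hu'z' : u' z' = z' := tv'.fix (tv'.le hz'Z)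
  -- the element `τ`
  set n := ut * u' * ut with hn
  have hnz₀ : n z₀ = z'⁻¹ := by
    rw [hn, MulAut.mul_apply, MulAut.mul_apply, hutz₀, hu'z₀, map_mul, map_inv, hutz₀, hutz', mul_inv_rev]
    group
  have hnz' : n z' = z₀ := by
    rw [hn, MulAut.mul_apply, MulAut.mul_apply, hutz', map_mul, hu'z', hu'z₀]
    have : z' * (z₀ * z'⁻¹) = z₀ := by rw [hab z₀ z'⁻¹, mul_inv_cancel_left]
    rw [this, hutz₀]
  set τ := n * n with hτ
  have hnA : n ∈ A := A.mul_mem (A.mul_mem hutA hu'A) hutA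
  have hτA : τ ∈ A := A.mul_mem hnA hnA
  have hτz₀ : τ z₀ = z₀⁻¹ := by
    rw [hτ, MulAut.mul_apply, hnz₀, map_inv, hnz']
  have hτZ : ∀ z ∈ Zc, τ z = z⁻¹ := by
    intro z hz
    obtain ⟨k, hk⟩ := exists_pow_eq hp hcard hz₀ hz₀1 hz
    rw [← hk, map_pow, hτz₀, inv_pow]
  set L := H ⊓ H' with hL
  have hτL : ∀ x ∈ L, τ x = x := by
    intro x hx
    have h1 : ut x = x := hutfix x hx.1
    have h2 : u' x = x := tv'.fix hx.2
    have h3 : n x = x := by rw [hn, MulAut.mul_apply, MulAut.mul_apply, h1, h2, h1]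
    rw [hτ, MulAut.mul_apply, h3, h3]
  -- `τ` normalizes `⟨u⟩`
  have hτu : τ * u * τ⁻¹ ∈ Subgroup.zpowers u := by
    refine hS.mem_zpowers hS.self_conj ⟨τ, hτA, rfl⟩ tv (tv.conj τ) ?_
    intro z hz
    refine ⟨z⁻¹, tv.le (Zc.inv_mem hz), ?_⟩
    show τ z⁻¹ = z
    rw [hτZ _ (Zc.inv_mem hz), inv_inv]
  -- every conjugate of `u` centralizes `L`
  have hstar : ∀ b ∈ A, ∀ x ∈ L, (b * u * b⁻¹) x = x := by
    intro b hb x hx
    have tvt : IsTv (Zc.map b.toMonoidHom) (H.map b.toMonoidHom) (b * u * b⁻¹) := tv.conj b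
    have hcardt : Nat.card (Zc.map b.toMonoidHom) = p := by
      rw [Subgroup.card_map_of_injective b.injective]
      exact hcard
    have hconjt : ∃ a ∈ A, b * u * b⁻¹ = a * u * a⁻¹ := ⟨b, hb, rfl⟩
    set t := b * u * b⁻¹ with ht
    by_cases h0 : z₀⁻¹ * t z₀ = 1
    · have hz₀t : z₀ ∈ H.map b.toMonoidHom := (tvt.comm_eq_one_iff z₀).1 h0
      have hle : Zc ≤ H.map b.toMonoidHom := hZgen.trans ((Subgroup.zpowers_le).2 hz₀t)
      have hmem := hS.mem_zpowers hS.self_conj hconjt tv tvt hle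
      exact tv.zpow_fix hmem hx.1
    · have hmemt : (z'⁻¹ * t z')⁻¹ ∈ Zc.map b.toMonoidHom := Subgroup.inv_mem _ (tvt.comm_mem z')
      obtain ⟨m, hm⟩ := exists_pow_eq hp hcardt (tvt.comm_mem z₀) h0 hmemt
      set w := z' * z₀ ^ m with hw
      have hwt : w ∈ H.map b.toMonoidHom := by
        rw [← tvt.comm_eq_one_iff, hw, tvt.comm_mul hab, tvt.comm_pow hab, hm, mul_inv_cancel]
      -- the conjugate `s`
      set s := ut ^ m * u' * (ut ^ m)⁻¹ with hs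
      have tvs : IsTv (Z'.map (ut ^ m).toMonoidHom) (H'.map (ut ^ m).toMonoidHom) s := tv'.conj (ut ^ m)
      have hcards : Nat.card (Z'.map (ut ^ m).toMonoidHom) = p := by
        rw [Subgroup.card_map_of_injective (ut ^ m).injective]
        exact hcard'
      have hconjs : ∃ a ∈ A, s = a * u * a⁻¹ := by
        refine ⟨ut ^ m * a₀, A.mul_mem (A.pow_mem hutA m) ha₀, ?_⟩
        rw [hs, hu']
        group
      have hutm : (ut ^ m) z' = w := by
        rw [hut, ← pow_mul, tv.pow_apply, ← hc, pow_mul, hj]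
      have hws : w ∈ Z'.map (ut ^ m).toMonoidHom := ⟨z', hz'Z, hutm⟩
      have hw1 : w ≠ 1 := by
        intro h
        apply hz'1
        have h1 : (ut ^ m) z' = (ut ^ m) 1 := by rw [hutm, h, map_one]
        exact (ut ^ m).injective h1
      have hle : Z'.map (ut ^ m).toMonoidHom ≤ H.map b.toMonoidHom :=
        (le_of_mem_of_card_prime hp hcards hws (Subgroup.mem_zpowers w) hw1).trans
          ((Subgroup.zpowers_le).2 hwt)
      have hmem := hS.mem_zpowers hconjs hconjt tvs tvt hle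
      have hxs : x ∈ H'.map (ut ^ m).toMonoidHom := by
        refine ⟨x, hx.2, ?_⟩
        show (ut ^ m) x = x
        rw [hut, ← pow_mul]
        exact tv.pow_fix _ hx.1
      exact tvs.zpow_fix hmem hxs
  refine ⟨L, τ, hτA, ?_, ?_, ?_, hτu, hτZ, hτL⟩
  · -- invariance
    intro a ha x hx
    refine ⟨(tv.fix_iff _).1 ?_, (tv'.fix_iff _).1 ?_⟩
    · have h1 := hstar a⁻¹ (A.inv_mem ha) x hx
      rw [inv_inv, MulAut.mul_apply, MulAut.mul_apply] at h1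
      have h2 : a (a⁻¹ (u (a x))) = a x := by rw [h1]
      rwa [MulAut.apply_inv_self] at h2
    · have h1 := hstar (a⁻¹ * a₀) (A.mul_mem (A.inv_mem ha) ha₀) x hx
      have h2 : a⁻¹ * a₀ * u * (a⁻¹ * a₀)⁻¹ = a⁻¹ * u' * a := by rw [hu']; group
      rw [h2, MulAut.mul_apply, MulAut.mul_apply] at h1
      have h3 : a (a⁻¹ (u' (a x))) = a x := by rw [h1]
      rwa [MulAut.apply_inv_self] at h3
  · -- trivial intersection
    rw [eq_bot_iff]
    intro x hx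
    rw [Subgroup.mem_bot]
    by_contra hx1
    exact hZH' ((le_of_mem_of_card_prime hp hcard hx.1 (Subgroup.mem_zpowers x) hx1).trans
      ((Subgroup.zpowers_le).2 hx.2.2))
  · -- product
    apply le_antisymm (sup_le tv.le inf_le_left)
    intro x hx
    have hd : x⁻¹ * u' x ∈ Z' := tv'.comm_mem x
    have hgen : z₀⁻¹ * u' z₀ ∈ Z' := tv'.comm_mem z₀
    have hgen1 : z₀⁻¹ * u' z₀ ≠ 1 := fun h => hz₀H' ((tv'.comm_eq_one_iff z₀).1 h)
    obtain ⟨k, hk⟩ := exists_pow_eq hp hcard' hgen hgen1 hd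
    set y := x * (z₀ ^ k)⁻¹ with hy
    have hyH' : y ∈ H' := by
      rw [← tv'.comm_eq_one_iff, hy, tv'.comm_mul hab, ← hk]
      have h1 : ((z₀ ^ k)⁻¹)⁻¹ * u' (z₀ ^ k)⁻¹ = ((z₀ ^ k)⁻¹ * u' (z₀ ^ k))⁻¹ := by
        rw [map_inv, mul_inv_rev, inv_inv]
        exact hab _ _
      rw [h1, tv'.comm_pow hab, mul_inv_cancel]
    have hyH : y ∈ H := H.mul_mem hx (H.inv_mem (H.pow_mem (tv.le hz₀) k))
    have hxy : x = z₀ ^ k * y := by rw [hy, hab (z₀ ^ k)]; group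
    rw [hxy]
    exact Subgroup.mul_mem_sup (Zc.pow_mem hz₀ k) ⟨hyH, hyH'⟩

end TvSetting

end Cfsg.Agent.Lib.Helper87_Transvection
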