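import Mathlib
import Cfsg.Agent.Lib.Helper87_ExtraIdx
import Cfsg.Agent.Lib.Helper87_Transvection
import Cfsg.Agent.Lib.Helper84_FusionRS
import Cfsg.Agent.Lib.Helper84_FusionSat
import Cfsg.Agent.Lib.Helper84_RelSylow
import Cfsg.Agent.Lib.Helper87_Alperin2
import Cfsg.Agent.Lib.Helper88_Essential

/-!
# Fusion systems on `p`-groups of class at most two with derived subgroup of order `p` (helper87)

Setting: `S` a finite `p`-group, `Zq ≤ Z(S)` of order `p` containing all commutators of `S`.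

* `eq_of_nonabelian'`, `false_of_abelian'`: general forms of the lemmas of `Helper87_ExtraIdx`.
* `card_eq_of_isEssential`: an essential subgroup is abelian of index `p`.
* `exists_edata`: for an essential subgroup `E` there are an `Aut_F(E)`-invariant complement `L` of `Zq` in `Z(S)`
  and an `F`-automorphism of `S` inverting `Zq` and centralizing `L`.
-/

set_option autoImplicit false

namespace Cfsg.Agent.Lib.Helper87_ClassTwo

open Cfsg Cfsg.FusionSystem Cfsg.Agent.Lib.Helper48_SPE Cfsg.Agent.Lib.Helper84_Stability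
  Cfsg.Agent.Lib.Helper87_ExtraIdx Cfsg.Agent.Lib.Helper87_Alperin

section Fusion

variable {Ω : Type*} [Group Ω] {S : Subgroup Ω}

/-- General form: `Q ≤ S` with all commutators in a central subgroup `Zc` of prime order.  A nonabelian radical
subgroup `E ≤ Q` containing its centralizer equals `Q`. -/
theorem eq_of_nonabelian' [Finite S] {p : ℕ} [Fact p.Prime] (hS : IsPGroup p S) (F : FusionSystem S)
    {Q E Zc : Subgroup Ω} (hQS : Q ≤ S) (hZcard : Nat.card Zc = p)
    (hcomm : ∀ x ∈ Q, ∀ y ∈ Q, x * y * x⁻¹ * y⁻¹ ∈ Zc) (hcentral : ∀ z ∈ Zc, ∀ g ∈ Q, g * z = z * g)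
    (hEQ : E ≤ Q)
    (hcen : centralizerIn S E ≤ E) (hrad : F.IsRadical p E)
    (hnab : ¬ ∀ a ∈ E, ∀ b ∈ E, a * b = b * a) : E = Q := by
  classical
  by_contra hne
  have hES : E ≤ S := hEQ.trans hQS
  have : Finite Q := Finite.of_injective (Subgroup.inclusion hQS) (Subgroup.inclusion_injective hQS)
  have : Finite E := Finite.of_injective (Subgroup.inclusion hES) (Subgroup.inclusion_injective hES)
  have hQp : IsPGroup p Q := hS.to_le hQS
  have hEp : IsPGroup p E := hS.to_le hES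
  push Not at hnab
  obtain ⟨a, ha, b, hb, hab⟩ := hnab
  set c := a * b * a⁻¹ * b⁻¹ with hc
  have hc1 : c ≠ 1 := by
    intro h
    apply hab
    have : a * b = c * (b * a) := by rw [hc]; group
    rw [this, h, one_mul]
  set Z' : Subgroup Ω := (commutator E).map E.subtype with hZ'
  have hmemc : (⟨a, ha⟩ : E) * ⟨b, hb⟩ * (⟨a, ha⟩ : E)⁻¹ * (⟨b, hb⟩ : E)⁻¹ ∈ commutator E := by
    rw [← commutatorElement_def]
    exact Subgroup.commutator_mem_commutator (Subgroup.mem_top _) (Subgroup.mem_top _)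
  have hcZ' : c ∈ Z' := ⟨_, hmemc, rfl⟩
  have hcZq : c ∈ Zc := hcomm a (hEQ ha) b (hEQ hb)
  have hZqZ' : Zc ≤ Z' := le_of_mem_of_card_prime Fact.out hZcard hcZq hcZ' hc1
  have hZ'Zq : Z' ≤ Zc := by
    rw [hZ', Subgroup.map_le_iff_le_comap, commutator_def, Subgroup.commutator_le]
    intro x _ y _
    rw [Subgroup.mem_comap]
    have := hcomm x (hEQ x.2) y (hEQ y.2)
    simpa [commutatorElement_def] using this
  have hN : normalizerIn Q E ≤ E := by
    rintro g ⟨hgQ, hgN⟩
    have hgS := hQS hgQ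
    have hgN' : g ∈ Subgroup.normalizer (E : Set Ω) := hgN
    set β := E.normalizerMonoidHom ⟨g, hgN'⟩ with hβ
    have hβK : β ∈ F.autGroup E := normalizerMonoidHom_mem_autGroup F hES hgS hgN'
    have hβx : ∀ x : E, ((β x : E) : Ω) = g * x * g⁻¹ := fun x => rfl
    let D : ℕ → Subgroup Ω := fun j => if j = 0 then ⊥ else if j = 1 then Z' else E
    have hD0 : D 0 = ⊥ := by simp [D]
    have hD1 : D 1 = Z' := by simp [D]
    have hD2 : D 2 = E := by simp [D]
    have hmem := Cfsg.Agent.Lib.Helper87_Normal.mem_pCore_of_stabilizes_chain hEp (F.autGroup E) D 2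
      hD0 (by rw [hD2]) ?_ β hβK ?_
    · rw [hrad.2] at hmem
      exact Cfsg.Agent.Lib.Helper84_FusionEssential.mem_of_normalizerMonoidHom_mem_inn hcen hgS hES
        hgN' hmem
    · intro j hj α _ x hx
      interval_cases j
      · rw [hD0, Subgroup.mem_bot] at hx ⊢
        have hx1 : x = 1 := Subtype.ext hx
        rw [hx1, map_one]
        rfl
      · rw [hD1] at hx ⊢
        obtain ⟨x', hx', hxx'⟩ := hx
        have hxe : x' = x := Subtype.ext hxx'
        subst hxe
        refine ⟨α x', ?_, rfl⟩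
        have hchar : (commutator E).Characteristic := by
          rw [commutator_def]; infer_instance
        have hmap := Subgroup.characteristic_iff_map_eq.mp hchar α
        rw [← hmap]
        exact ⟨x', hx', rfl⟩
      · rw [hD2]
        exact (α x).2
    · intro j hj x hx
      interval_cases j
      · rw [hD1] at hx
        rw [hD0, Subgroup.mem_bot, hβx]
        have h1 := hcentral _ (hZ'Zq hx) g hgQ
        rw [h1]
        group
      · rw [hD1]
        apply hZqZ'
        rw [hβx]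
        have h1 := hcomm _ (Q.inv_mem (hEQ x.2)) g hgQ
        have h2 : ((x : Ω))⁻¹ * g * ((x : Ω))⁻¹⁻¹ * g⁻¹ = (x : Ω)⁻¹ * (g * x * g⁻¹) := by group
        rw [← h2]
        exact h1
  exact absurd (lt_normalizerIn hQp hEQ hne) (not_lt_of_ge hN)

/-- General form: `Q ≤ S` with all commutators in a central subgroup `Zc` of prime order.  If every element of the
abelian subgroup `E ≤ Q` (containing its centralizer in `S`) commutes with an element of `Q` outside `E`, then the
automizer of `E` has no strongly `p`-embedded subgroup. -/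
theorem false_of_abelian' [Finite S] {p : ℕ} [Fact p.Prime] (hS : IsPGroup p S) (F : FusionSystem S)
    {Q E Zc : Subgroup Ω} (hQS : Q ≤ S) (hZQ : Zc ≤ Q) (hZcard : Nat.card Zc = p)
    (hcomm : ∀ x ∈ Q, ∀ y ∈ Q, x * y * x⁻¹ * y⁻¹ ∈ Zc) (hcentral : ∀ z ∈ Zc, ∀ g ∈ Q, g * z = z * g)
    (hEQ : E ≤ Q) (hex : ∀ y ∈ E, ∃ x ∈ Q, x ∉ E ∧ x * y = y * x)
    (hcen : centralizerIn S E ≤ E)
    (hspe : ∃ _ : ((Inn E).subgroupOf (F.autGroup E)).Normal,
      ∃ M : Subgroup (F.autGroup E ⧸ (Inn E).subgroupOf (F.autGroup E)), IsStronglyPEmbedded p M)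
    (hab : ∀ a ∈ E, ∀ b ∈ E, a * b = b * a) : False := by
  classical
  have hES : E ≤ S := hEQ.trans hQS
  have : Finite Q := Finite.of_injective (Subgroup.inclusion hQS) (Subgroup.inclusion_injective hQS)
  have : Finite E := Finite.of_injective (Subgroup.inclusion hES) (Subgroup.inclusion_injective hES)
  have hQp : IsPGroup p Q := hS.to_le hQS
  have hEp : IsPGroup p E := hS.to_le hES
  have hp : p.Prime := Fact.out
  obtain ⟨hn, Mbar, hMbar⟩ := hspe
  have hInn : Inn E = ⊥ :=
    Cfsg.Agent.Lib.Helper88_AbelianEssential.inn_eq_bot (fun x y => Subtype.ext (hab x x.2 y y.2))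
  have hNbot : (Inn E).subgroupOf (F.autGroup E) = ⊥ := by rw [hInn, Subgroup.bot_subgroupOf]
  have hinj : Function.Injective (QuotientGroup.mk' ((Inn E).subgroupOf (F.autGroup E))) := by
    rw [← MonoidHom.ker_eq_bot_iff, QuotientGroup.ker_mk', hNbot]
  let e : F.autGroup E ≃* F.autGroup E ⧸ (Inn E).subgroupOf (F.autGroup E) :=
    MulEquiv.ofBijective (QuotientGroup.mk' _) ⟨hinj, QuotientGroup.mk'_surjective _⟩
  have : Finite (F.autGroup E) := inferInstance
  have hM := spe_comap_equiv e (spe_of_isStronglyPEmbedded hMbar)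
  -- the centre of `Q` lies in `E`
  have hZE : Zc ≤ E := by
    intro z hz
    apply hcen
    refine ⟨hQS (hZQ hz), ?_⟩
    show z ∈ Subgroup.centralizer (E : Set Ω)
    rw [Subgroup.mem_centralizer_iff]
    intro x hx
    exact hcentral z hz x (hEQ hx)
  -- a generator of the centre
  have hcardZ := hZcard
  obtain ⟨z₀, hz₀, hz₀1⟩ : ∃ z₀ ∈ Zc, z₀ ≠ 1 := by
    by_contra hcon
    push Not at hcon
    have : Zc = ⊥ := by
      rw [eq_bot_iff]
      intro z hz
      rw [Subgroup.mem_bot]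
      exact hcon z hz
    rw [this, Subgroup.card_bot] at hcardZ
    exact hp.one_lt.ne hcardZ
  have hZgen : Zc ≤ Subgroup.zpowers z₀ :=
    le_of_mem_of_card_prime hp hcardZ hz₀ (Subgroup.mem_zpowers z₀) hz₀1
  -- the group `U` of automorphisms induced by `Q`
  set U := autInducedBy Q E with hUdef
  have hUmem : ∀ u ∈ U, ∃ g ∈ Q, ∀ x : E, ((u x : E) : Ω) = g * x * g⁻¹ := fun u hu =>
    (mem_autInducedBy_iff Q E u).1 hu
  have hUA : U ≤ F.autGroup E := by
    intro u hu
    obtain ⟨g, hg, hgu⟩ := hUmem u hu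
    apply autInducedBy_le_autGroup F hES
    rw [mem_autInducedBy_iff]
    exact ⟨g, hQS hg, hgu⟩
  have hU : IsPGroup p U := by
    rintro ⟨u, hu⟩
    obtain ⟨g, hg, hgu⟩ := hUmem u hu
    obtain ⟨k, hk⟩ := hQp ⟨g, hg⟩
    refine ⟨k, Subtype.ext ?_⟩
    have hk' : g ^ p ^ k = 1 := congrArg Subtype.val hk
    show u ^ p ^ k = 1
    ext x
    rw [Cfsg.Agent.Lib.Helper87_PInner.pow_apply_of_conj u g hgu, hk']
    simp
  set Z : Subgroup E := Zc.subgroupOf E with hZdef
  refine false_of_spe_of_transvections hEp (F.autGroup E) _ hM U hUA hU Z ?_ ?_ ?_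
  · intro u hu x
    obtain ⟨g, hg, hgu⟩ := hUmem u hu
    rw [hZdef, Subgroup.mem_subgroupOf]
    have h1 := hcomm _ (Q.inv_mem (hEQ x.2)) g hg
    have h2 : ((x : Ω))⁻¹ * g * ((x : Ω))⁻¹⁻¹ * g⁻¹ = (x : Ω)⁻¹ * (g * x * g⁻¹) := by group
    rw [h2, ← hgu] at h1
    exact h1
  · intro u hu z hz
    obtain ⟨g, hg, hgu⟩ := hUmem u hu
    rw [hZdef, Subgroup.mem_subgroupOf] at hz
    apply Subtype.ext
    rw [hgu, hcentral _ hz g hg]
    group
  · intro h hh
    set y : E := h ⟨z₀, hZE hz₀⟩ with hy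
    obtain ⟨x, hxQ, hxE, hxy⟩ := hex y y.2
    have hxN : x ∈ Subgroup.normalizer (E : Set Ω) := by
      -- `E` contains the commutators `[x, e]`
      rw [Subgroup.mem_normalizer_iff]
      intro e
      constructor
      · intro he
        have h1 := hZE (hcomm x hxQ e (hEQ he))
        have h2 : x * e * x⁻¹ = (x * e * x⁻¹ * e⁻¹) * e := by group
        rw [h2]
        exact E.mul_mem h1 he
      · intro he
        have h1 := hZE (hcomm _ (Q.inv_mem hxQ) _ (hEQ he))
        have h2 : e = (x⁻¹ * (x * e * x⁻¹) * x⁻¹⁻¹ * (x * e * x⁻¹)⁻¹) * (x * e * x⁻¹) := by group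
        rw [h2]
        exact E.mul_mem h1 he
    set u := E.normalizerMonoidHom ⟨x, hxN⟩ with hu
    have hux : ∀ t : E, ((u t : E) : Ω) = x * t * x⁻¹ := fun t => rfl
    have huU : u ∈ U := by
      rw [hUdef, mem_autInducedBy_iff]
      exact ⟨x, hxQ, hux⟩
    refine ⟨u, huU, ?_, ?_⟩
    · intro hu1
      apply hxE
      apply hcen
      refine ⟨hQS hxQ, ?_⟩
      show x ∈ Subgroup.centralizer (E : Set Ω)
      rw [Subgroup.mem_centralizer_iff]
      intro t ht
      have h1 := hux ⟨t, ht⟩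
      rw [hu1] at h1
      have h2 : t = x * t * x⁻¹ := h1
      calc t * x = (x * t * x⁻¹) * x := by rw [← h2]
        _ = x * t := by group
    · intro z hz
      rw [hZdef, Subgroup.mem_subgroupOf] at hz
      obtain ⟨n, hn⟩ := hZgen hz
      have hzpow : z = (⟨z₀, hZE hz₀⟩ : E) ^ n := Subtype.ext (by simpa using hn.symm)
      have huy : u y = y := by
        apply Subtype.ext
        rw [hux, hxy]
        group
      rw [hzpow, map_zpow, ← hy, map_zpow, huy]


/-! ### The class-two setting -/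

/-- `S` has all its commutators in the central subgroup `Zq` of order `p`. -/
structure CTwo (p : ℕ) (S Zq : Subgroup Ω) : Prop where
  le : Zq ≤ S ⊓ Subgroup.centralizer (S : Set Ω)
  card : Nat.card Zq = p
  comm : ∀ x ∈ S, ∀ y ∈ S, x * y * x⁻¹ * y⁻¹ ∈ Zq

theorem CTwo.central {p : ℕ} {Zq : Subgroup Ω} (hC : CTwo p S Zq) :
    ∀ z ∈ Zq, ∀ g ∈ S, g * z = z * g := fun _ hz g hg =>
  Subgroup.mem_centralizer_iff.mp (hC.le hz).2 g hg

theorem CTwo.le_S {p : ℕ} {Zq : Subgroup Ω} (hC : CTwo p S Zq) : Zq ≤ S := hC.le.trans inf_le_left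

/-- Commutator homomorphism into a central subgroup containing all commutators. -/
noncomputable def commHom' {G : Type*} [Group G] (Zc : Subgroup G) (hZ : Zc ≤ Subgroup.center G)
    (hc : ∀ x y : G, x * y * x⁻¹ * y⁻¹ ∈ Zc) (y : G) : G →* Zc :=
  MonoidHom.mk' (fun x => ⟨x * y * x⁻¹ * y⁻¹, hc x y⟩) (by
    intro a b
    apply Subtype.ext
    have hb : b * y * b⁻¹ * y⁻¹ ∈ Subgroup.center G := hZ (hc b y)
    have h1 := Subgroup.mem_center_iff.mp hb a
    show a * b * y * (a * b)⁻¹ * y⁻¹ = (a * y * a⁻¹ * y⁻¹) * (b * y * b⁻¹ * y⁻¹)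
    have h2 := Subgroup.mem_center_iff.mp hb (a * y * a⁻¹ * y⁻¹)
    rw [h2]
    calc a * b * y * (a * b)⁻¹ * y⁻¹ = a * (b * y * b⁻¹ * y⁻¹) * y * a⁻¹ * y⁻¹ := by group
      _ = (b * y * b⁻¹ * y⁻¹) * a * y * a⁻¹ * y⁻¹ := by rw [h1]
      _ = (b * y * b⁻¹ * y⁻¹) * (a * y * a⁻¹ * y⁻¹) := by group)

theorem mem_ker_commHom' {G : Type*} [Group G] (Zc : Subgroup G) (hZ : Zc ≤ Subgroup.center G)
    (hc : ∀ x y : G, x * y * x⁻¹ * y⁻¹ ∈ Zc) (y x : G) :
    x ∈ (commHom' Zc hZ hc y).ker ↔ x * y = y * x := by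
  rw [MonoidHom.mem_ker, Subtype.ext_iff]
  show x * y * x⁻¹ * y⁻¹ = 1 ↔ _
  constructor
  · intro h
    have : x * y = (x * y * x⁻¹ * y⁻¹) * (y * x) := by group
    rw [this, h]
    simp
  · intro h
    have : x * y * x⁻¹ * y⁻¹ = (x * y) * (y * x)⁻¹ := by group
    rw [this, h]
    simp

variable [Finite S] {p : ℕ} [Fact p.Prime] {Zq : Subgroup Ω}

/-- Essential subgroups are abelian. -/
theorem abelian_of_isEssential (hS : IsPGroup p S) {F : FusionSystem S} (hF : F.IsSaturated p)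
    (hC : CTwo p S Zq) {E : Subgroup Ω} (hE : F.IsEssential p E) :
    ∀ a ∈ E, ∀ b ∈ E, a * b = b * a := by
  by_contra hnab
  have hES : E ≤ S := hE.1.1
  have hcen : centralizerIn S E ≤ E := hE.1.2 E (Cfsg.Agent.Lib.Helper84_Fusion.isConj_refl F hES)
  have hrad : F.IsRadical p E := Cfsg.Agent.S5080.result p hS F hF E hE
  have := eq_of_nonabelian' hS F le_rfl hC.card hC.comm hC.central hES hcen hrad hnab
  exact (Cfsg.Agent.Lib.Helper88_Essential.lt_of_isEssential hS F hF hE).ne this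

/-- Essential subgroups have index `p`. -/
theorem card_of_isEssential (hS : IsPGroup p S) {F : FusionSystem S} (hF : F.IsSaturated p)
    (hC : CTwo p S Zq) {E : Subgroup Ω} (hE : F.IsEssential p E) :
    Nat.card S = Nat.card E * p := by
  classical
  have hp : p.Prime := Fact.out
  have hES : E ≤ S := hE.1.1
  have hcen : centralizerIn S E ≤ E := hE.1.2 E (Cfsg.Agent.Lib.Helper84_Fusion.isConj_refl F hES)
  have hab := abelian_of_isEssential hS hF hC hE
  have hlt := Cfsg.Agent.Lib.Helper88_Essential.lt_of_isEssential hS F hF hE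
  by_cases hex : ∀ y ∈ E, ∃ x ∈ S, x ∉ E ∧ x * y = y * x
  · exact (false_of_abelian' hS F le_rfl hC.le_S hC.card hC.comm hC.central hES hex hcen hE.2.2 hab).elim
  · push Not at hex
    obtain ⟨y₀, hy₀, hy₀c⟩ := hex
    have hZ : Zq.subgroupOf S ≤ Subgroup.center S := by
      intro z hz
      rw [Subgroup.mem_subgroupOf] at hz
      rw [Subgroup.mem_center_iff]
      intro g
      exact Subtype.ext (hC.central _ hz g g.2)
    have hc : ∀ x y : S, x * y * x⁻¹ * y⁻¹ ∈ Zq.subgroupOf S := fun x y => by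
      rw [Subgroup.mem_subgroupOf]
      exact hC.comm x x.2 y y.2
    set f := commHom' (Zq.subgroupOf S) hZ hc ⟨y₀, hES hy₀⟩ with hf
    have hker : f.ker = E.subgroupOf S := by
      ext x
      rw [hf, mem_ker_commHom', Subgroup.mem_subgroupOf]
      constructor
      · intro h
        by_contra hxE
        exact hy₀c x x.2 hxE (congrArg Subtype.val h)
      · intro hx
        exact Subtype.ext (hab x hx y₀ hy₀)
    have hcardZ : Nat.card (Zq.subgroupOf S) = p := by
      rw [Nat.card_congr (Subgroup.subgroupOfEquivOfLe hC.le_S).toEquiv]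
      exact hC.card
    have hdvd : Nat.card f.range ∣ p := by
      rw [← hcardZ]
      exact Subgroup.card_subgroup_dvd_card _
    have hidx : (E.subgroupOf S).index = Nat.card f.range := by
      rw [← hker, Subgroup.index_ker]
    have hcardE : Nat.card (E.subgroupOf S) = Nat.card E :=
      Nat.card_congr (Subgroup.subgroupOfEquivOfLe hES).toEquiv
    have hmul := Subgroup.card_mul_index (E.subgroupOf S)
    rw [hcardE, hidx] at hmul
    rcases (Nat.dvd_prime hp).1 hdvd with h | h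
    · exfalso
      rw [h] at hidx
      have htop : E.subgroupOf S = ⊤ := Subgroup.index_eq_one.1 hidx
      rw [Subgroup.subgroupOf_eq_top] at htop
      exact hlt.not_ge htop
    · rw [h] at hmul
      exact hmul.symm


/-- Data attached to an essential subgroup `E`: a complement `L` of `Zq` in `Z(S)` invariant under `Aut_F(E)` and an
`F`-automorphism `δ` of `S` inverting `Zq` and centralizing `L`. -/
structure EData (F : FusionSystem S) (Zq E L : Subgroup Ω) (δ : Ω → Ω) : Prop where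
  LE : L ≤ E
  LZ : L ≤ S ⊓ Subgroup.centralizer (S : Set Ω)
  dec : ∀ x ∈ S ⊓ Subgroup.centralizer (S : Set Ω), ∃ z ∈ Zq, ∃ l ∈ L, x = z * l
  inter : ∀ x ∈ Zq, x ∈ L → x = 1
  inv : ∀ α ∈ F.autGroup E, ∀ x : E, (x : Ω) ∈ L → ((α x : E) : Ω) ∈ L
  map : IsMapOn F S δ
  δz : ∀ z ∈ Zq, δ z = z⁻¹
  δl : ∀ l ∈ L, δ l = l

/-- In an abelian group, elements of a join are products. -/
theorem exists_mul_of_mem_sup {P : Type*} [Group P] (hab : ∀ x y : P, x * y = y * x) {A B : Subgroup P}
    {x : P} (hx : x ∈ A ⊔ B) : ∃ a ∈ A, ∃ b ∈ B, x = a * b := by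
  let _ : CommGroup P := { (inferInstance : Group P) with mul_comm := hab }
  obtain ⟨a, ha, b, hb, h⟩ := Subgroup.mem_sup.1 hx
  exact ⟨a, ha, b, hb, h.symm⟩

open Cfsg.Agent.Lib.Helper87_Transvection Cfsg.Agent.Lib.Helper84_RelSylow in
/-- Existence of the data attached to an essential subgroup. -/
theorem exists_edata (hS : IsPGroup p S) {F : FusionSystem S} (hF : F.IsSaturated p)
    (hC : CTwo p S Zq) {E : Subgroup Ω} (hE : F.IsEssential p E) :
    ∃ (L : Subgroup Ω) (δ : Ω → Ω), EData F Zq E L δ := by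
  classical
  have hp : p.Prime := Fact.out
  have hES : E ≤ S := hE.1.1
  have hcen : centralizerIn S E ≤ E := hE.1.2 E (Cfsg.Agent.Lib.Helper84_Fusion.isConj_refl F hES)
  have hab := abelian_of_isEssential hS hF hC hE
  have hlt := Cfsg.Agent.Lib.Helper88_Essential.lt_of_isEssential hS F hF hE
  have hcard := card_of_isEssential hS hF hC hE
  have hrad : F.IsRadical p E := Cfsg.Agent.S5080.result p hS F hF E hE
  have hfn : F.IsFullyNormalized E := hE.2.1
  have : Finite E := Finite.of_injective (Subgroup.inclusion hES) (Subgroup.inclusion_injective hES)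
  have hEp : IsPGroup p E := hS.to_le hES
  have habE : ∀ x y : E, x * y = y * x := fun x y => Subtype.ext (hab x x.2 y y.2)
  -- `Z(S) ≤ E`
  have hZSE : S ⊓ Subgroup.centralizer (S : Set Ω) ≤ E := by
    intro x hx
    apply hcen
    exact ⟨hx.1, Subgroup.centralizer_le (show (E : Set Ω) ⊆ S from hES) hx.2⟩
  have hZqE : Zq ≤ E := hC.le.trans hZSE
  -- `E` is normal in `S`
  have hN : ∀ g ∈ S, g ∈ Subgroup.normalizer (E : Set Ω) := by
    intro g hg
    rw [Subgroup.mem_normalizer_iff]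
    intro e
    constructor
    · intro he
      have h1 := hZqE (hC.comm g hg e (hES he))
      have h2 : g * e * g⁻¹ = (g * e * g⁻¹ * e⁻¹) * e := by group
      rw [h2]
      exact E.mul_mem h1 he
    · intro he
      have h1 := hZqE (hC.comm g⁻¹ (S.inv_mem hg) _ (hES he))
      have h2 : e = (g⁻¹ * (g * e * g⁻¹) * g⁻¹⁻¹ * (g * e * g⁻¹)⁻¹) * (g * e * g⁻¹) := by group
      rw [h2]
      exact E.mul_mem h1 he
  have hSN : S ≤ Subgroup.normalizer (E : Set Ω) := hN
  obtain ⟨x₀, hx₀S, hx₀E⟩ := SetLike.exists_of_lt hlt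
  -- the conjugation homomorphism
  set ψ : S →* MulAut E := E.normalizerMonoidHom.comp (Subgroup.inclusion hSN) with hψ
  have hψapp : ∀ (g : S) (x : E), ((ψ g x : E) : Ω) = g * x * (g : Ω)⁻¹ := fun g x => rfl
  set A := F.autGroup E with hA
  set T := autInducedBy S E with hT
  have hTmem : ∀ α : MulAut E, α ∈ T ↔ ∃ g : S, ψ g = α := by
    intro α
    rw [hT, mem_autInducedBy_iff]
    constructor
    · rintro ⟨g, hg, hgα⟩
      refine ⟨⟨g, hg⟩, ?_⟩
      ext x
      rw [hψapp, hgα]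
    · rintro ⟨g, rfl⟩
      exact ⟨g, g.2, fun x => hψapp g x⟩
  have hTrange : T = ψ.range := by
    ext α
    rw [hTmem, MonoidHom.mem_range]
  have hker : ψ.ker = E.subgroupOf S := by
    ext g
    rw [MonoidHom.mem_ker, Subgroup.mem_subgroupOf]
    constructor
    · intro h
      apply hcen
      refine ⟨g.2, ?_⟩
      show (g : Ω) ∈ Subgroup.centralizer (E : Set Ω)
      rw [Subgroup.mem_centralizer_iff]
      intro t ht
      have h1 := hψapp g ⟨t, ht⟩
      rw [h] at h1
      have h2 : t = g * t * (g : Ω)⁻¹ := h1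
      calc t * g = (g * t * (g : Ω)⁻¹) * g := by rw [← h2]
        _ = g * t := by group
    · intro hg
      ext x
      rw [hψapp, MulAut.one_apply, hab g hg x x.2]
      group
  have hcardE : Nat.card (E.subgroupOf S) = Nat.card E :=
    Nat.card_congr (Subgroup.subgroupOfEquivOfLe hES).toEquiv
  have hcardT : Nat.card T = p := by
    rw [hTrange, ← Subgroup.index_ker, hker]
    have hmul := Subgroup.card_mul_index (E.subgroupOf S)
    rw [hcardE, hcard] at hmul
    exact Nat.eq_of_mul_eq_mul_left Nat.card_pos hmul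
  set u := ψ ⟨x₀, hx₀S⟩ with hu
  have huT : u ∈ T := (hTmem u).2 ⟨_, rfl⟩
  have hu1 : u ≠ 1 := by
    intro h
    have : (⟨x₀, hx₀S⟩ : S) ∈ ψ.ker := h
    rw [hker, Subgroup.mem_subgroupOf] at this
    exact hx₀E this
  have hTle : T ≤ Subgroup.zpowers u :=
    le_of_mem_of_card_prime hp hcardT huT (Subgroup.mem_zpowers u) hu1
  have hTA : T ≤ A := autInducedBy_le_autGroup F hES
  have hSyl : Cfsg.Agent.Lib.Helper84_RelSylow.IsSylowIn p T A :=
    Cfsg.Agent.Lib.Helper84_FusionSat.isSylowIn_of_isFullyAutomized F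
      (Cfsg.Agent.Lib.Helper84_FusionRS.IsSaturated.isFullyAutomized hS hF hfn)
  have hInn : Inn E = ⊥ := Cfsg.Agent.Lib.Helper88_AbelianEssential.inn_eq_bot habE
  -- the transvection setting
  set Zc : Subgroup E := Zq.subgroupOf E with hZc
  set H : Subgroup E := (S ⊓ Subgroup.centralizer (S : Set Ω)).subgroupOf E with hH
  have hcardS : ∀ C : Subgroup Ω, E < C → C ≤ S → C = S := by
    intro C hEC hCS
    have h1 : Nat.card E ∣ Nat.card C := Subgroup.card_dvd_of_le hEC.le
    have : Finite C := Finite.of_injective (Subgroup.inclusion hCS) (Subgroup.inclusion_injective hCS)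
    have h2 : Nat.card C ∣ Nat.card S := Subgroup.card_dvd_of_le hCS
    obtain ⟨m, hm⟩ := h1
    have hEpos : 0 < Nat.card E := Nat.card_pos
    have hmp : m ∣ p := by
      rw [hm, hcard] at h2
      exact (Nat.mul_dvd_mul_iff_left hEpos).1 h2
    rcases (Nat.dvd_prime hp).1 hmp with h | h
    · exfalso
      rw [h, mul_one] at hm
      exact hEC.ne (Subgroup.eq_of_le_of_card_ge hEC.le hm.le)
    · apply Subgroup.eq_of_le_of_card_ge hCS
      rw [hm, h, hcard]
  have tv : IsTv Zc H u := by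
    refine ⟨hu1, ?_, ?_, ?_⟩
    · intro x
      rw [hZc, Subgroup.mem_subgroupOf]
      have h1 := hC.comm _ (S.inv_mem (hES x.2)) x₀ hx₀S
      have h2 : ((x : Ω))⁻¹ * x₀ * ((x : Ω))⁻¹⁻¹ * x₀⁻¹ = (x : Ω)⁻¹ * (x₀ * x * x₀⁻¹) := by group
      rw [h2] at h1
      exact h1
    · intro x
      rw [hH, Subgroup.mem_subgroupOf]
      constructor
      · intro hx
        have hx' : x₀ * (x : Ω) * x₀⁻¹ = x := congrArg Subtype.val hx
        have hcomm : x₀ * (x : Ω) = x * x₀ := by
          calc x₀ * (x : Ω) = (x₀ * x * x₀⁻¹) * x₀ := by group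
            _ = x * x₀ := by rw [hx']
        have hlt' : E < S ⊓ Subgroup.centralizer {(x : Ω)} := by
          refine lt_of_le_of_ne ?_ ?_
          · intro e he
            refine ⟨hES he, ?_⟩
            show e ∈ Subgroup.centralizer {(x : Ω)}
            rw [Subgroup.mem_centralizer_singleton_iff]
            exact hab e he x x.2
          · intro heq
            apply hx₀E
            rw [heq]
            refine ⟨hx₀S, ?_⟩
            show x₀ ∈ Subgroup.centralizer {(x : Ω)}
            rw [Subgroup.mem_centralizer_singleton_iff]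
            exact hcomm
        have htop := hcardS _ hlt' inf_le_left
        refine ⟨hES x.2, ?_⟩
        show (x : Ω) ∈ Subgroup.centralizer (S : Set Ω)
        rw [Subgroup.mem_centralizer_iff]
        intro g hg
        have : g ∈ S ⊓ Subgroup.centralizer {(x : Ω)} := by rw [htop]; exact hg
        have h3 : g ∈ Subgroup.centralizer {(x : Ω)} := this.2
        rw [Subgroup.mem_centralizer_singleton_iff] at h3
        exact h3
      · intro hx
        apply Subtype.ext
        rw [hψapp]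
        show x₀ * (x : Ω) * x₀⁻¹ = x
        have := Subgroup.mem_centralizer_iff.mp hx.2 x₀ hx₀S
        rw [this]
        group
    · intro z hz
      rw [hZc, Subgroup.mem_subgroupOf] at hz
      rw [hH, Subgroup.mem_subgroupOf]
      exact hC.le hz
  have hcardZc : Nat.card Zc = p := by
    rw [hZc, Nat.card_congr (Subgroup.subgroupOfEquivOfLe hZqE).toEquiv]
    exact hC.card
  have hset : TvSetting p A Zc H u := by
    refine ⟨habE, hcardZc, tv, hTA huT, ?_, ?_⟩
    · rintro t₁ t₂ ⟨a, haA, rfl⟩ ⟨b, hbA, rfl⟩ c h0 hmono ⟨n, hn⟩ hs₁ hs₂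
      set R := stabilityGroup c hmono A with hR
      have hRp : IsPGroup p R := isPGroup_stabilityGroup hEp h0 hmono hn A
      have huA : u ∈ A := hTA huT
      have ht₁R : a * u * a⁻¹ ∈ R :=
        ⟨A.mul_mem (A.mul_mem haA huA) (A.inv_mem haA), hs₁⟩
      have ht₂R : b * u * b⁻¹ ∈ R :=
        ⟨A.mul_mem (A.mul_mem hbA huA) (A.inv_mem hbA), hs₂⟩
      obtain ⟨g, -, hg⟩ := hSyl.exists_conj_le (stabilityGroup_le c hmono A) hRp
      have hv₁ := hg _ ht₁R
      have hv₂ := hg _ ht₂R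
      have hv₁1 : g * (a * u * a⁻¹) * g⁻¹ ≠ 1 := by
        intro h
        apply hu1
        have : u = (g * a)⁻¹ * (g * (a * u * a⁻¹) * g⁻¹) * (g * a) := by group
        rw [this, h]
        group
      have hle := le_of_mem_of_card_prime hp hcardT hv₁ (Subgroup.mem_zpowers _) hv₁1
      obtain ⟨k, hk⟩ := Subgroup.mem_zpowers_iff.1 (hle hv₂)
      rw [Subgroup.mem_zpowers_iff]
      refine ⟨k, ?_⟩
      have h1 : (g * (a * u * a⁻¹) * g⁻¹) ^ k = g * (a * u * a⁻¹) ^ k * g⁻¹ := conj_zpow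
      rw [h1] at hk
      have h2 : g⁻¹ * (g * (a * u * a⁻¹) ^ k * g⁻¹) * g = g⁻¹ * (g * (b * u * b⁻¹) * g⁻¹) * g := by
        rw [hk]
      have h3 : g⁻¹ * (g * (a * u * a⁻¹) ^ k * g⁻¹) * g = (a * u * a⁻¹) ^ k := by group
      have h4 : g⁻¹ * (g * (b * u * b⁻¹) * g⁻¹) * g = b * u * b⁻¹ := by group
      rw [h3, h4] at h2
      exact h2
    · by_contra hcon
      push Not at hcon
      set N := Subgroup.zpowers u with hNdef
      have hNp : IsPGroup p N := hSyl.isPGroup.to_le ((Subgroup.zpowers_le).2 huT)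
      have hn : (N.subgroupOf A).Normal := by
        constructor
        intro n hn a
        rw [Subgroup.mem_subgroupOf] at hn ⊢
        obtain ⟨k, hk⟩ := Subgroup.mem_zpowers_iff.1 hn
        have h1 : ((a * n * a⁻¹ : A) : MulAut E) = (a : MulAut E) * u ^ k * (a : MulAut E)⁻¹ := by
          rw [hk]; rfl
        rw [h1, ← conj_zpow]
        exact N.zpow_mem (hcon a a.2) k
      have hle := Cfsg.Agent.Lib.Helper88_AbelianEssential.le_inn_of_normal_pgroup hrad.2 hn hNp
      have : u ∈ N ⊓ A := ⟨Subgroup.mem_zpowers u, hTA huT⟩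
      have h2 := hle this
      rw [hInn, Subgroup.mem_bot] at h2
      exact hu1 h2
  obtain ⟨L₀, τ, hτA, hLinv, hinter, hsup, hτu, hτZ, hτL⟩ := hset.main
  -- the extension of `τ`
  have hEr : F.IsReceptive E :=
    Cfsg.Agent.Lib.Helper84_FusionRS.IsSaturated.isReceptive_of_isFullyNormalized hS hF hfn
  obtain ⟨δ, hδmap, hδE⟩ := Cfsg.Agent.Lib.Helper87_Alperin2.exists_extension_extender F hEr hτA
  have hSext : S ≤ extender S E (Cfsg.Agent.Lib.Helper87_Alperin2.autHom τ) := by
    intro g hg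
    have hgT : ψ ⟨g, hg⟩ ∈ T := (hTmem _).2 ⟨_, rfl⟩
    obtain ⟨k, hk⟩ := Subgroup.mem_zpowers_iff.1 (hTle hgT)
    have h1 : τ * ψ ⟨g, hg⟩ * τ⁻¹ ∈ T := by
      rw [← hk, ← conj_zpow]
      obtain ⟨m, hm⟩ := Subgroup.mem_zpowers_iff.1 hτu
      rw [← hm, ← zpow_mul]
      exact T.zpow_mem huT _
    obtain ⟨h, hh⟩ := (hTmem _).1 h1
    refine Subgroup.subset_closure ⟨hg, hN g hg, h, h.2, ?_⟩
    intro x hx
    have h2 : (⟨g * x * g⁻¹, hx⟩ : E) = ψ ⟨g, hg⟩ x := Subtype.ext (hψapp ⟨g, hg⟩ x).symm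
    rw [Cfsg.Agent.Lib.Helper87_Alperin2.autHom_apply, Cfsg.Agent.Lib.Helper87_Alperin2.autHom_apply, h2]
    have h3 : τ (ψ ⟨g, hg⟩ x) = (τ * ψ ⟨g, hg⟩ * τ⁻¹) (τ x) := by
      simp [MulAut.mul_apply]
    rw [h3, ← hh, hψapp]
  have hδS : IsMapOn F S δ := hδmap.mono hSext
  refine ⟨L₀.map E.subtype, δ, ⟨Subgroup.map_subtype_le _, ?_, ?_, ?_, ?_, hδS, ?_, ?_⟩⟩
  · rintro _ ⟨x, hx, rfl⟩
    have hxH : x ∈ H := hsup ▸ (le_sup_right : L₀ ≤ Zc ⊔ L₀) hx
    rw [hH, Subgroup.mem_subgroupOf] at hxH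
    exact hxH
  · intro x hx
    have hxE : x ∈ E := hZSE hx
    have hxH : (⟨x, hxE⟩ : E) ∈ Zc ⊔ L₀ := by
      rw [hsup, hH, Subgroup.mem_subgroupOf]
      exact hx
    obtain ⟨z, hz, l, hl, hzl⟩ := exists_mul_of_mem_sup habE hxH
    rw [hZc, Subgroup.mem_subgroupOf] at hz
    exact ⟨z, hz, l, ⟨l, hl, rfl⟩, congrArg Subtype.val hzl⟩
  · rintro x hxZ ⟨l, hl, rfl⟩
    have hlZ : l ∈ Zc := by rw [hZc, Subgroup.mem_subgroupOf]; exact hxZ
    have : l ∈ Zc ⊓ L₀ := ⟨hlZ, hl⟩
    rw [hinter, Subgroup.mem_bot] at this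
    rw [this]
    rfl
  · rintro α hα x ⟨l, hl, hlx⟩
    have hxl : l = x := Subtype.ext hlx
    subst hxl
    exact ⟨α l, hLinv α hα l hl, rfl⟩
  · intro z hz
    have hzE : z ∈ E := hZqE hz
    rw [hδE z hzE, extFun_apply τ hzE, hτZ ⟨z, hzE⟩ (by rw [hZc, Subgroup.mem_subgroupOf]; exact hz)]
    rfl
  · rintro _ ⟨l, hl, rfl⟩
    show δ (l : Ω) = (l : Ω)
    rw [hδE _ l.2, extFun_coe, hτL l hl]

end Fusion

end Cfsg.Agent.Lib.Helper87_ClassTwo
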