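import Cfsg.Agent.Lib.Helper87_Constrained2
import Cfsg.Agent.Lib.Helper87_PInner

/-!
The centric step of the Glauberman-Thompson reduction (helper87): if `X` is normal in the saturated system `F` and
every automorphism of order prime to `p` of a subgroup `P ≥ X` acts trivially on `P / X`, then `X C_S(X)` is normal
in `F`.
-/

set_option autoImplicit false
set_option linter.style.haveILetI false

universe u

namespace Cfsg.Agent.Lib.Helper87_GTCentric

open Cfsg Cfsg.FusionSystem Cfsg.Agent.Lib Cfsg.Agent.Lib.Helper87_Alperin Cfsg.Agent.Lib.Helper87_Alperin2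
  Cfsg.Agent.Lib.Helper87_Normal Cfsg.Agent.Lib.Helper87_Normal2 Cfsg.Agent.Lib.Helper87_Constrained
  Cfsg.Agent.Lib.Helper87_PInner

variable {Ω : Type u} [Group Ω] {S : Subgroup Ω}

/-- The automorphisms of order prime to `p` of the subgroups containing `X` act trivially modulo `X`. -/
def ActsTriviallyMod (p : ℕ) (F : FusionSystem S) (X : Subgroup Ω) : Prop :=
  ∀ (P : Subgroup Ω) (α : MulAut P), X ≤ P → IsMapOn F P (extFun α) → (orderOf α).Coprime p →
    ∀ x : P, (x : Ω)⁻¹ * ((α x : P) : Ω) ∈ X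

theorem stronglyClosed_self (F : FusionSystem S) : F.StronglyClosed S :=
  ⟨le_rfl, fun _ _ _ hφ x => hom_mem F hφ x⟩

theorem stronglyClosed_centralizerIn [Finite S] {F : FusionSystem S} {X : Subgroup Ω} (hX : F.IsNormal X) :
    F.StronglyClosed (centralizerIn S X) := by
  have h := stronglyClosed_centralizerIn_inf hX (stronglyClosed_self F)
  rwa [inf_eq_left.2 hX.1] at h

theorem isNormal_sup_centralizerIn [Finite S] {p : ℕ} [Fact p.Prime] (hS : IsPGroup p S)
    (F : FusionSystem S) (hF : F.IsSaturated p) {X : Subgroup Ω} (hX : F.IsNormal X)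
    (hstar : ActsTriviallyMod p F X) : F.IsNormal (X ⊔ centralizerIn S X) := by
  classical
  have hXsc : F.StronglyClosed X := Cfsg.Agent.Lib.Helper84_FusionNormal.IsNormal.stronglyClosed hX
  have hC : F.StronglyClosed (centralizerIn S X) := stronglyClosed_centralizerIn hX
  rw [Cfsg.Agent.S5086.result p hS F hF]
  refine ⟨Cfsg.Agent.S5128.result p hS F hF _ _ hXsc hC, fun P hPc hPrad => ?_⟩
  have hPS : P ≤ S := hPc.1
  have hXP : X ≤ P := Cfsg.Agent.Lib.Helper84_FusionNormal.IsNormal.le_of_isCentric_of_isRadical hS hX hPc hPrad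
  refine sup_le hXP ?_
  by_contra hCP
  have hfinP : Finite P := Finite.of_injective (Subgroup.inclusion hPS) (Subgroup.inclusion_injective hPS)
  have hPp : IsPGroup p P := hS.to_le hPS
  obtain ⟨x, hxC, hxN, hxP⟩ := exists_mem_normalizer_not_mem hS hPS hC.1
    (hPS.trans (stronglyClosed_le_normalizer hC)) hCP
  obtain ⟨hxS, hxX⟩ := hxC
  let β : MulAut P := Subgroup.normalizerMonoidHom P ⟨x, hxN⟩
  have hβ : ∀ y : P, ((β y : P) : Ω) = x * y * x⁻¹ := fun y => rfl
  have hβK : β ∈ F.autGroup P :=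
    autInducedBy_le_autGroup F hPS ((mem_autInducedBy_iff S P β).2 ⟨x, hxS, hβ⟩)
  let U : ℕ → Subgroup Ω := fun _ => X
  let V : ℕ → Subgroup Ω := fun _ => ⊥
  have hinvU : ∀ j < 1, ∀ α ∈ F.autGroup P, ∀ y : P, (y : Ω) ∈ U j → ((α y : P) : Ω) ∈ U j := by
    intro j _ α hα y hy
    exact stronglyClosed_aut_mem hXsc hPS hα y hy
  have hinvV : ∀ j < 1, ∀ α ∈ F.autGroup P, ∀ y : P, (y : Ω) ∈ V j → ((α y : P) : Ω) ∈ V j := by
    intro j _ α _ y hy
    have hy' : (y : Ω) = 1 := Subgroup.mem_bot.1 hy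
    have : y = 1 := Subtype.ext hy'
    show ((α y : P) : Ω) ∈ (⊥ : Subgroup Ω)
    rw [this, map_one]
    exact Subgroup.one_mem _
  have htriv : ∀ α ∈ F.autGroup P, (orderOf α).Coprime p →
      (∀ j < 1, ∀ y : P, (y : Ω) ∈ U j → (y : Ω)⁻¹ * ((α y : P) : Ω) ∈ V j) → α = 1 := by
    intro α hα hαc hstab
    let C : ℕ → Subgroup Ω := fun i => if i = 0 then P else if i = 1 then X else ⊥
    refine aut_eq_one_of_chain hPp α hαc C 2 (by simp [C]) (by simp [C]) ?_
    intro i hi y hy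
    have hi' : i = 0 ∨ i = 1 := by omega
    rcases hi' with rfl | rfl
    · have : C (0 + 1) = X := by simp [C]
      rw [this]
      exact hstar P α hXP ((mem_autGroup_iff F hPS α).1 hα) hαc y
    · have h1 : C 1 = X := by simp [C]
      have h2 : C (1 + 1) = ⊥ := by simp [C]
      rw [h1] at hy
      rw [h2]
      exact hstab 0 (by norm_num) y hy
  have hβstab : ∀ j < 1, ∀ y : P, (y : Ω) ∈ U j → (y : Ω)⁻¹ * ((β y : P) : Ω) ∈ V j := by
    intro j _ y hy
    rw [hβ]
    show (y : Ω)⁻¹ * (x * y * x⁻¹) ∈ (⊥ : Subgroup Ω)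
    rw [Subgroup.mem_bot]
    have h1 : (y : Ω) * x = x * y := hxX (y : Ω) hy
    rw [← h1]
    group
  have hβcore : β ∈ (pCore p (F.autGroup P)).map (F.autGroup P).subtype :=
    mem_pCore_of_stabilizes_pairs (F.autGroup P) U V 1 hinvU hinvV htriv β hβK hβstab
  exact hxP (mem_of_conj_mem_pCore hPc hPrad hxS β hβ hβcore)

/-- A subgroup normal in the system that contains its centralizer in `S` is centric. -/
theorem isCentric_of_isNormal [Finite S] {F : FusionSystem S} {X : Subgroup Ω} (hX : F.IsNormal X)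
    (hc : centralizerIn S X ≤ X) : F.IsCentric X := by
  have hXsc : F.StronglyClosed X := Cfsg.Agent.Lib.Helper84_FusionNormal.IsNormal.stronglyClosed hX
  have hwc := weaklyClosed_of_stronglyClosed' hXsc
  refine ⟨hX.1, ?_⟩
  rintro Q ⟨φ, hφ, rfl⟩
  rw [hwc.2 φ hφ]
  exact hc

/-- If `Q` is normal in the system, every map of the system is a map of the normalizer system of `Q`. -/
theorem isNormMapOn_of_isNormal {F : FusionSystem S} {Q : Subgroup Ω} (hQ : F.IsNormal Q)
    (hQn : S ≤ Subgroup.normalizer (Q : Set Ω)) {P : Subgroup Ω} {f : Ω → Ω} (hf : IsMapOn F P f) :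
    IsNormMapOn F Q P f := by
  obtain ⟨φ, hφ, hφf⟩ := hf
  have hφ' : φ ∈ F.normalizerHom Q P := by
    obtain ⟨ψ, hψ, hext, himg⟩ := hQ.2 P φ hφ
    refine ⟨hφ, ?_, ?_, ψ, hψ, hext, himg⟩
    · exact le_inf (hom_le F hφ) ((hom_le F hφ).trans hQn)
    · intro x
      exact ⟨hom_mem F hφ x, hQn (hom_mem F hφ x)⟩
  have h := (mem_normalizerHom_iff F Q φ).1 hφ'
  refine h.congr fun x hx => ?_
  rw [extHom_apply φ hx]
  exact hφf ⟨x, hx⟩

theorem pInnerOn_of_isNormal {p : ℕ} {F : FusionSystem S} {Q : Subgroup Ω} (hQ : F.IsNormal Q)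
    (hQn : S ≤ Subgroup.normalizer (Q : Set Ω)) (h : PInnerOn p (IsNormMapOn F Q)) :
    PInnerOn p (IsMapOn F) :=
  PInnerOn.mono (fun _ _ hf => isNormMapOn_of_isNormal hQ hQn hf) h

end Cfsg.Agent.Lib.Helper87_GTCentric
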