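import Cfsg.Agent.Lib.Helper87_Factor2
import Cfsg.Agent.Lib.Helper87_GTCentric

/-!
The quotient step of the Glauberman-Thompson reduction (helper87).  For a factor system `E` of the saturated system
`F` modulo the strongly closed subgroup `X`: automorphisms of `E` lift to automorphisms of `F` on the full preimage,
automorphisms of `F` push down to `E`; if `N_F(R)` is `p`-inner for the full preimage `R` of `W'` then `N_E(W')` is
`p`-inner, and if `E` is `p`-inner then the automorphisms of order prime to `p` of `F` act trivially modulo `X`.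
-/

set_option autoImplicit false
set_option linter.style.haveILetI false

universe u v

namespace Cfsg.Agent.Lib.Helper87_GTQuot

open Cfsg Cfsg.FusionSystem Cfsg.Agent.Lib Cfsg.Agent.Lib.Helper87_Alperin Cfsg.Agent.Lib.Helper87_Alperin2
  Cfsg.Agent.Lib.Helper87_Normal Cfsg.Agent.Lib.Helper87_Factor Cfsg.Agent.Lib.Helper87_Factor2
  Cfsg.Agent.Lib.Helper87_PInner Cfsg.Agent.Lib.Helper87_GTCentric

/-! ### Generalities on automorphisms -/

section general

variable {G : Type u} [Group G] {G' : Type v} [Group G']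

/-- Compatibility of powers. -/
theorem extFun_pow_compat {P : Subgroup G} {P' : Subgroup G'} (α : MulAut P) (α' : MulAut P') (t : G → G')
    (htP : ∀ x ∈ P, t x ∈ P') (h : ∀ x ∈ P, t (extFun α x) = extFun α' (t x)) (k : ℕ) :
    ∀ x ∈ P, t (extFun (α ^ k) x) = extFun (α' ^ k) (t x) := by
  induction k with
  | zero =>
    intro x hx
    rw [pow_zero, pow_zero, extFun_apply _ hx, extFun_apply _ (htP x hx)]
    rfl
  | succ k ih =>
    intro x hx
    rw [pow_succ', pow_succ', extFun_mul α _ hx, extFun_mul α' _ (htP x hx), h _ (extFun_mem _ hx), ih x hx]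

/-- A power of `β` congruent to the first power modulo `r` and of order prime to `p`. -/
theorem exists_pow_coprime {A : Type*} [Group A] [Finite A] (β : A) {p r : ℕ} [hp : Fact p.Prime]
    (hr : r.Coprime p) : ∃ k : ℕ, (orderOf (β ^ k)).Coprime p ∧ k ≡ 1 [MOD r] := by
  have ho : orderOf β ≠ 0 := (orderOf_pos β).ne'
  obtain ⟨a, m, hm, hom⟩ := Nat.exists_eq_pow_mul_and_not_dvd ho p hp.out.ne_one
  have hmc : m.Coprime p := ((Nat.Prime.coprime_iff_not_dvd hp.out).2 hm).symm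
  have hpar : (p ^ a).Coprime r := (Nat.Coprime.pow_right a hr).symm
  have hj : ∃ j : ℕ, p ^ a * j ≡ 1 [MOD r] := by
    rcases Nat.lt_or_ge 1 r with h1 | h1
    · obtain ⟨j, -, hj⟩ := Nat.exists_mul_mod_eq_one_of_coprime hpar h1
      refine ⟨j, ?_⟩
      show p ^ a * j % r = 1 % r
      rw [hj, Nat.mod_eq_of_lt h1]
    · have hr' : r = 0 ∨ r = 1 := by omega
      rcases hr' with rfl | rfl
      · exfalso
        rw [Nat.coprime_zero_left] at hr
        exact hp.out.ne_one hr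
      · exact ⟨1, Nat.modEq_one⟩
  obtain ⟨j, hj⟩ := hj
  refine ⟨p ^ a * j, ?_, hj⟩
  have h1 : (β ^ (p ^ a * j)) ^ m = 1 := by
    rw [← pow_mul]
    have : p ^ a * j * m = orderOf β * j := by rw [hom]; ring
    rw [this, pow_mul, pow_orderOf_eq_one, one_pow]
  exact Nat.Coprime.coprime_dvd_left (orderOf_dvd_of_pow_eq_one h1) hmc

end general

variable {Ω : Type u} [Group Ω] {S : Subgroup Ω} {Ω' : Type v} [Group Ω'] {S' : Subgroup Ω'}

/-- A map of the system carrying a finite subgroup into itself gives an automorphism of it. -/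
theorem exists_aut_of_isMapOn {F : FusionSystem S} {Q : Subgroup Ω} [Finite Q] {g : Ω → Ω}
    (hg : IsMapOn F Q g) (hgQ : ∀ x ∈ Q, g x ∈ Q) : ∃ β : MulAut Q, ∀ x ∈ Q, extFun β x = g x := by
  let β₀ : Q →* Q :=
    { toFun := fun x => ⟨g x, hgQ x x.2⟩
      map_one' := Subtype.ext hg.map_one
      map_mul' := fun a b => Subtype.ext (hg.map_mul a.2 b.2) }
  have hinj : Function.Injective β₀ := fun a b hab =>
    Subtype.ext (hg.injOn a.2 b.2 (congrArg Subtype.val hab))
  have hbij : Function.Bijective β₀ := ⟨hinj, Finite.surjective_of_injective hinj⟩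
  refine ⟨MulEquiv.ofBijective β₀ hbij, fun x hx => ?_⟩
  rw [extFun_apply _ hx]
  rfl

theorem preimageAlong_mono (θ : S →* Ω') {A B : Subgroup Ω'} (h : A ≤ B) :
    preimageAlong θ A ≤ preimageAlong θ B := by
  intro y hy
  rw [mem_preimageAlong] at hy ⊢
  exact ⟨hy.1, h hy.2⟩

/-- A map of `F` on `P ⊔ W` carrying `P` and `W` into `P ⊔ W` carries `P ⊔ W` into itself. -/
theorem sup_mem_of_isMapOn {F : FusionSystem S} {P W : Subgroup Ω} {g : Ω → Ω} (hg : IsMapOn F (P ⊔ W) g)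
    (hP : ∀ x ∈ P, g x ∈ P ⊔ W) (hW : ∀ x ∈ W, g x ∈ P ⊔ W) : ∀ x ∈ P ⊔ W, g x ∈ P ⊔ W := by
  let gh : (P ⊔ W : Subgroup Ω) →* Ω :=
    ⟨⟨fun x : (P ⊔ W : Subgroup Ω) => g x, hg.map_one⟩, fun a b => hg.map_mul a.2 b.2⟩
  have hle : P ⊔ W ≤ ((P ⊔ W : Subgroup Ω).comap gh).map (P ⊔ W : Subgroup Ω).subtype := by
    refine sup_le ?_ ?_
    · intro x hx
      exact ⟨⟨x, (le_sup_left : P ≤ P ⊔ W) hx⟩, hP x hx, rfl⟩
    · intro x hx
      exact ⟨⟨x, (le_sup_right : W ≤ P ⊔ W) hx⟩, hW x hx, rfl⟩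
  intro x hx
  obtain ⟨z, hz, hzx⟩ := hle hx
  have : (z : Ω) = x := hzx
  rw [← this]
  exact hz

/-! ### Lifting and pushing automorphisms -/

/-- An automorphism of `P'` in the factor system lifts to an automorphism of the full preimage in `F`. -/
theorem exists_lift_aut [Finite S] {F : FusionSystem S} {X : Subgroup Ω} {θ : S →* Ω'} {E : FusionSystem S'}
    (hE : F.IsFactorSystem X θ E) {P' : Subgroup Ω'} (α' : MulAut P') (hα' : IsMapOn E P' (extFun α')) :
    ∃ α : MulAut (preimageAlong θ P'), IsMapOn F (preimageAlong θ P') (extFun α) ∧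
      ∀ x ∈ preimageAlong θ P', extOn θ (extFun α x) = extFun α' (extOn θ x) := by
  obtain ⟨hXS, hker, hrange, hEhom⟩ := hE
  have hφ' : P'.subtype.comp α'.toMonoidHom ∈ E.Hom P' := (comp_mem_iff_isMapOn E α').2 hα'
  obtain ⟨-, φ, hφ, hind⟩ := (hEhom P' _).1 hφ'
  obtain ⟨hPS, hφS, hφθ⟩ := extOn_of_inducedAlong hind
  have hfin : Finite (preimageAlong θ P') :=
    Finite.of_injective (Subgroup.inclusion hPS) (Subgroup.inclusion_injective hPS)
  have hmem : ∀ x ∈ preimageAlong θ P', extOn θ x ∈ P' := fun x hx => ((mem_preimageAlong θ P' x).1 hx).2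
  have hkey : ∀ x (hx : x ∈ preimageAlong θ P'), extOn θ (extHom φ x) = extFun α' (extOn θ x) := by
    intro x hx
    rw [extHom_apply φ hx, ← hφθ ⟨x, hx⟩ (hmem x hx), extFun_apply α' (hmem x hx)]
    rfl
  have hφP : ∀ x ∈ preimageAlong θ P', extHom φ x ∈ preimageAlong θ P' := by
    intro x hx
    rw [mem_preimageAlong]
    refine ⟨?_, ?_⟩
    · rw [extHom_apply φ hx]
      exact hφS _
    · rw [hkey x hx]
      exact extFun_mem α' (hmem x hx)
  obtain ⟨α, hα⟩ := exists_aut_of_isMapOn (isMapOn_extHom F hφ) hφP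
  refine ⟨α, (isMapOn_extHom F hφ).congr fun x hx => (hα x hx).symm, fun x hx => ?_⟩
  rw [hα x hx, hkey x hx]

/-- An automorphism of `P` in `F` pushes down to an automorphism of the image in the factor system. -/
theorem exists_push_aut [Finite S] [Finite S'] {p : ℕ} [Fact p.Prime] (hS : IsPGroup p S) {F : FusionSystem S}
    (hF : F.IsSaturated p) {X : Subgroup Ω} (hX : F.StronglyClosed X) {θ : S →* Ω'} {E : FusionSystem S'}
    (hE : F.IsFactorSystem X θ E) {P : Subgroup Ω} (α : MulAut P) (hα : IsMapOn F P (extFun α)) :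
    ∃ α' : MulAut (imageAlong θ P), IsMapOn E (imageAlong θ P) (extFun α') ∧
      ∀ x ∈ P, extOn θ (extFun α x) = extFun α' (extOn θ x) := by
  have hPS : P ≤ S := hα.le
  have hφ : P.subtype.comp α.toMonoidHom ∈ F.Hom P := (comp_mem_iff_isMapOn F α).2 hα
  obtain ⟨φ', hφ', hφ'θ⟩ := exists_induced_hom F hS hF hX hE hφ
  have hP'S' : imageAlong θ P ≤ S' := hom_le E hφ'
  have hfin : Finite (imageAlong θ P) :=
    Finite.of_injective (Subgroup.inclusion hP'S') (Subgroup.inclusion_injective hP'S')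
  have hkey : ∀ x (hx : x ∈ P), extHom φ' (extOn θ x) = extOn θ (extFun α x) := by
    intro x hx
    have hx' := extOn_mem_imageAlong θ hPS hx
    rw [extHom_apply φ' hx', hφ'θ ⟨x, hx⟩ hx', extFun_apply α hx]
    rfl
  have hφ'P : ∀ y ∈ imageAlong θ P, extHom φ' y ∈ imageAlong θ P := by
    intro y hy
    obtain ⟨x, -, hx, rfl⟩ := (mem_imageAlong θ P y).1 hy
    rw [hkey x hx]
    exact extOn_mem_imageAlong θ hPS (extFun_mem α hx)
  obtain ⟨α', hα'⟩ := exists_aut_of_isMapOn (isMapOn_extHom E hφ') hφ'P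
  refine ⟨α', (isMapOn_extHom E hφ').congr fun y hy => (hα' y hy).symm, fun x hx => ?_⟩
  rw [hα' _ (extOn_mem_imageAlong θ hPS hx), hkey x hx]

/-! ### The two transfer statements -/

/-- If the factor system is `p`-inner, automorphisms of order prime to `p` of `F` act trivially modulo `X`. -/
theorem actsTriviallyMod_of_pInnerOn [Finite S] [Finite S'] {p : ℕ} [Fact p.Prime] (hS : IsPGroup p S)
    {F : FusionSystem S} (hF : F.IsSaturated p) {X : Subgroup Ω} (hX : F.StronglyClosed X) {θ : S →* Ω'}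
    {E : FusionSystem S'} (hE : F.IsFactorSystem X θ E) (hPI : PInnerOn p (IsMapOn E)) :
    ActsTriviallyMod p F X := by
  intro P α _ hα hc x
  have hPS : P ≤ S := hα.le
  obtain ⟨α', hα', hαα'⟩ := exists_push_aut hS hF hX hE α hα
  have hpow := extFun_pow_compat α α' (extOn θ) (fun x hx => extOn_mem_imageAlong θ hPS hx) hαα'
  have h1 : α' ^ orderOf α = 1 := by
    ext y
    obtain ⟨x, -, hx, hxy⟩ := (mem_imageAlong θ P y).1 y.2
    have := hpow (orderOf α) x hx
    rw [pow_orderOf_eq_one, extFun_apply _ hx, hxy, extFun_coe, MulAut.one_apply] at this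
    rw [MulAut.one_apply, ← this, hxy]
  have h2 : (orderOf α').Coprime p := Nat.Coprime.coprime_dvd_left (orderOf_dvd_of_pow_eq_one h1) hc
  have h3 : α' = 1 := hPI _ α' hα' h2
  have h4 := hαα' x x.2
  rw [h3, extFun_apply _ (extOn_mem_imageAlong θ hPS x.2), extFun_coe] at h4
  have h5 := (extOn_eq_iff hE.2.1 (hPS x.2) (hPS (α x).2)).1 h4.symm
  exact h5

/-- If the normalizer system in `F` of the full preimage of `W'` is `p`-inner, so is the normalizer system of `W'` in
the factor system. -/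
theorem pInnerOn_factor [Finite S] [Finite S'] {p : ℕ} [Fact p.Prime] {F : FusionSystem S} {X : Subgroup Ω}
    {θ : S →* Ω'} {E : FusionSystem S'} (hE : F.IsFactorSystem X θ E) (W' : Subgroup Ω')
    (hPI : PInnerOn p (IsNormMapOn F (preimageAlong θ W'))) : PInnerOn p (IsNormMapOn E W') := by
  classical
  intro P' α' hα' hc
  obtain ⟨h1, h2, h3, g', hg'1, hg'2, hg'3⟩ := hα'
  have hE' := hE
  obtain ⟨hXS, hker, hrange, hEhom⟩ := hE'
  have hQ'S' : P' ⊔ W' ≤ S' := hg'1.le
  have hfinQ' : Finite (P' ⊔ W' : Subgroup Ω') :=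
    Finite.of_injective (Subgroup.inclusion hQ'S') (Subgroup.inclusion_injective hQ'S')
  have hP'Q' : P' ≤ P' ⊔ W' := le_sup_left
  have hW'Q' : W' ≤ P' ⊔ W' := le_sup_right
  -- `g'` is an automorphism `β'` of `P' ⊔ W'`
  have hg'Q' : ∀ y ∈ P' ⊔ W', g' y ∈ P' ⊔ W' := by
    refine sup_mem_of_isMapOn hg'1 (fun y hy => ?_) (fun y hy => ?_)
    · rw [hg'2 y hy]
      exact hP'Q' (extFun_mem α' hy)
    · exact hW'Q' ((hg'3 _).2 ⟨y, hy, rfl⟩)
  obtain ⟨β', hβ'⟩ := exists_aut_of_isMapOn hg'1 hg'Q'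
  have hβ'map : IsMapOn E (P' ⊔ W') (extFun β') := hg'1.congr fun y hy => (hβ' y hy).symm
  have hβ'W : ∀ y ∈ P' ⊔ W', extFun β' y ∈ W' ↔ y ∈ W' := by
    intro y hy
    rw [hβ' y hy]
    constructor
    · intro h
      obtain ⟨x, hx, hxy⟩ := (hg'3 _).1 h
      have : x = y := hg'1.injOn (hW'Q' hx) hy hxy
      rwa [← this]
    · intro h
      exact (hg'3 _).2 ⟨y, h, rfl⟩
  -- lift to `F`
  set Q := preimageAlong θ (P' ⊔ W') with hQ
  obtain ⟨β, hβmap, hββ'⟩ : ∃ β : MulAut Q, IsMapOn F Q (extFun β) ∧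
      ∀ x ∈ Q, extOn θ (extFun β x) = extFun β' (extOn θ x) := exists_lift_aut hE β' hβ'map
  have hQS : Q ≤ S := preimageAlong_le θ _
  have hfinQ : Finite Q := Finite.of_injective (Subgroup.inclusion hQS) (Subgroup.inclusion_injective hQS)
  have hQmem : ∀ x ∈ Q, extOn θ x ∈ P' ⊔ W' := fun x hx => ((mem_preimageAlong θ _ x).1 hx).2
  obtain ⟨k, hkc, hk1⟩ := exists_pow_coprime β (p := p) hc
  have hγmap : IsMapOn F Q (extFun (β ^ k)) :=
    (mem_autGroup_iff F hQS _).1 (Subgroup.pow_mem _ ((mem_autGroup_iff F hQS β).2 hβmap) k)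
  have hγγ' := extFun_pow_compat β β' (extOn θ) hQmem hββ' k
  -- `β' ^ k` restricted to `P'` is `α'`
  have hβ'α' : ∀ y ∈ P', extFun (β' ^ k) y = extFun α' y := by
    intro y hy
    have h4 := extFun_pow_compat α' β' (fun y => y) (fun y hy => hP'Q' hy)
      (fun y hy => by rw [hβ' _ (hP'Q' hy), hg'2 y hy]) k y hy
    have h5 : α' ^ k = α' := by
      have : α' ^ k = α' ^ 1 := (pow_eq_pow_iff_modEq).2 hk1
      rwa [pow_one] at this
    rw [← h4, h5]
  have hβ'kW : ∀ y ∈ P' ⊔ W', extFun (β' ^ k) y ∈ W' ↔ y ∈ W' := by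
    have : ∀ j : ℕ, ∀ y ∈ P' ⊔ W', extFun (β' ^ j) y ∈ W' ↔ y ∈ W' := by
      intro j
      induction j with
      | zero =>
        intro y hy
        rw [pow_zero, extFun_apply _ hy]
        rfl
      | succ j ih =>
        intro y hy
        rw [pow_succ', extFun_mul β' _ hy, hβ'W _ (extFun_mem _ hy), ih y hy]
    exact this k
  set P := preimageAlong θ P' with hP
  set R := preimageAlong θ W' with hR
  have hPQ : P ≤ Q := preimageAlong_mono θ hP'Q'
  have hRQ : R ≤ Q := preimageAlong_mono θ hW'Q'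
  have hPS : P ≤ S := preimageAlong_le θ _
  have hRS : R ≤ S := preimageAlong_le θ _
  have hfinP : Finite P := Finite.of_injective (Subgroup.inclusion hPS) (Subgroup.inclusion_injective hPS)
  have hPmem : ∀ x ∈ P, extOn θ x ∈ P' := fun x hx => ((mem_preimageAlong θ _ x).1 hx).2
  have hRmem : ∀ x ∈ R, extOn θ x ∈ W' := fun x hx => ((mem_preimageAlong θ _ x).1 hx).2
  -- `β ^ k` on `P`
  have hγP : ∀ x ∈ P, extOn θ (extFun (β ^ k) x) = extFun α' (extOn θ x) := by
    intro x hx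
    rw [hγγ' x (hPQ hx), hβ'α' _ (hPmem x hx)]
  have hγPmem : ∀ x ∈ P, extFun (β ^ k) x ∈ P := by
    intro x hx
    rw [hP, mem_preimageAlong]
    refine ⟨hQS (extFun_mem _ (hPQ hx)), ?_⟩
    rw [hγP x hx]
    exact extFun_mem α' (hPmem x hx)
  have hγR : ∀ x ∈ Q, extFun (β ^ k) x ∈ R ↔ x ∈ R := by
    intro x hx
    rw [hR, mem_preimageAlong, mem_preimageAlong, hγγ' x hx, hβ'kW _ (hQmem x hx)]
    constructor
    · intro h
      exact ⟨hQS hx, h.2⟩
    · intro h
      exact ⟨hQS (extFun_mem _ hx), h.2⟩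
  obtain ⟨α, hα⟩ := exists_aut_of_isMapOn (hγmap.mono hPQ) hγPmem
  -- the order of `α`
  have hαpow := extFun_pow_compat α (β ^ k) (fun x => x) (fun x hx => hPQ hx) (fun x hx => hα x hx)
  have hαo : α ^ orderOf (β ^ k) = 1 := by
    ext x
    have := hαpow (orderOf (β ^ k)) x x.2
    rw [pow_orderOf_eq_one, extFun_coe, extFun_apply _ (hPQ x.2)] at this
    rw [this]
    rfl
  have hαc : (orderOf α).Coprime p := Nat.Coprime.coprime_dvd_left (orderOf_dvd_of_pow_eq_one hαo) hkc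
  -- `P` normalizes `R`
  have hPnorm : P ≤ Subgroup.normalizer (R : Set Ω) := by
    refine le_normalizer_of_conj_mem fun g hg x hx => ?_
    rw [hR, mem_preimageAlong]
    refine ⟨S.mul_mem (S.mul_mem (hPS hg) (hRS hx)) (S.inv_mem (hPS hg)), ?_⟩
    rw [extOn_mul θ (S.mul_mem (hPS hg) (hRS hx)) (S.inv_mem (hPS hg)), extOn_mul θ (hPS hg) (hRS hx),
      extOn_inv θ (hPS hg)]
    exact ((h2 (hPmem g hg)).2 _).1 (hRmem x hx)
  have hPN : P ≤ normalizerIn S R := le_inf hPS hPnorm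
  have hαnorm : IsNormMapOn F R P (extFun α) := by
    refine ⟨(hγmap.mono hPQ).congr fun x hx => (hα x hx).symm, hPN, fun x hx => hPN (extFun_mem α hx),
      extFun (β ^ k), hγmap.mono (sup_le hPQ hRQ), fun x hx => (hα x hx).symm, fun y => ?_⟩
    constructor
    · intro hy
      refine ⟨extFun (β ^ k)⁻¹ y, ?_, extFun_apply_inv _ (hRQ hy)⟩
      rw [← hγR _ (extFun_mem _ (hRQ hy)), extFun_apply_inv _ (hRQ hy)]
      exact hy
    · rintro ⟨x, hx, rfl⟩
      exact (hγR x (hRQ hx)).2 hx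
  have hα1 : α = 1 := hPI P α hαnorm hαc
  -- conclusion
  ext y
  have hyS' : (y : Ω') ∈ θ.range := by
    rw [hrange]
    exact h1.le y.2
  obtain ⟨x, hxS, hxy⟩ := exists_extOn_eq_of_mem_range hyS'
  have hxP : x ∈ P := by
    rw [hP, mem_preimageAlong]
    exact ⟨hxS, by rw [hxy]; exact y.2⟩
  have h6 := hγP x hxP
  rw [← hα x hxP, hα1, extFun_apply _ hxP, hxy, extFun_coe, MulAut.one_apply] at h6
  show ((α' y : P') : Ω') = ((y : P') : Ω')
  rw [← h6, hxy]

end Cfsg.Agent.Lib.Helper87_GTQuot
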