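import Mathlib
import Cfsg.Agent.Lib.Helper87_ClassTwo
import Cfsg.Agent.Lib.Helper87_GTQuot
import Cfsg.Agent.Lib.Helper84_FusionAlperin
import Cfsg.Agent.Lib.Helper84_FusionEssential
import Cfsg.Agent.S5087

/-!
# Class two with derived subgroup of order `p`, `p` odd: `O_p(F) ≠ 1` unless `Z(S)` has order `p` (helper87)

Setting: `S` a finite `p`-group, `p` odd, `Zq ≤ Z(S)` of order `p` containing all commutators of `S` (`CTwo p S Zq`),
`F` a saturated fusion system on `S`.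

* `eq_of_stabilizes`: an `F`-automorphism of `S` fixing `Zq` pointwise and acting trivially on `Z(S)/Zq` acts
  trivially on `Z(S)`.
* `ZData`, `ZData.le`: the complement `L` of `Zq` in `Z(S)` centralized by an `F`-automorphism inverting `Zq` is
  unique.
* `core_ne_bot`: if `Zq ≠ Z(S)` then `F.core ≠ ⊥`.
-/

set_option autoImplicit false

namespace Cfsg.Agent.Lib.Helper87_ClassTwo2

open Cfsg Cfsg.FusionSystem Cfsg.Agent.Lib.Helper87_Alperin Cfsg.Agent.Lib.Helper87_ClassTwo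
  Cfsg.Agent.Lib.Helper87_ExtraIdx

variable {Ω : Type*} [Group Ω] {S : Subgroup Ω}

/-- The centre of `S` is invariant under automorphisms of `S`. -/
theorem aut_mem_center (β : MulAut S) {y : S}
    (hy : (y : Ω) ∈ S ⊓ Subgroup.centralizer (S : Set Ω)) :
    ((β y : S) : Ω) ∈ S ⊓ Subgroup.centralizer (S : Set Ω) := by
  refine ⟨(β y).2, ?_⟩
  show ((β y : S) : Ω) ∈ Subgroup.centralizer (S : Set Ω)
  rw [Subgroup.mem_centralizer_iff]
  intro h hh
  have h1 : (β.symm ⟨h, hh⟩ : S) * y = y * β.symm ⟨h, hh⟩ :=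
    Subtype.ext (Subgroup.mem_centralizer_iff.mp hy.2 _ (β.symm ⟨h, hh⟩).2)
  have h2 := congrArg β h1
  rw [map_mul, map_mul, MulEquiv.apply_symm_apply] at h2
  exact congrArg Subtype.val h2

/-- Elements of a subgroup of order `p` have `p`-th power one. -/
theorem pow_eq_one_of_card {p : ℕ} {K : Subgroup Ω} (hK : Nat.card K = p) {c : Ω} (hc : c ∈ K) :
    c ^ p = 1 := by
  have h := pow_card_eq_one' (G := K) (x := ⟨c, hc⟩)
  rw [hK] at h
  exact congrArg Subtype.val h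

/-- An `F`-automorphism of `S` fixing `Zq` pointwise and acting trivially on `Z(S)/Zq` acts trivially on `Z(S)`. -/
theorem eq_of_stabilizes [Finite S] {p : ℕ} [Fact p.Prime] (hS : IsPGroup p S) {F : FusionSystem S}
    (hF : F.IsSaturated p) {Zq : Subgroup Ω} (hcard : Nat.card Zq = p) {f : Ω → Ω}
    (hf : IsMapOn F S f) (hfz : ∀ z ∈ Zq, f z = z)
    (hfy : ∀ y ∈ S ⊓ Subgroup.centralizer (S : Set Ω), y⁻¹ * f y ∈ Zq) :
    ∀ y ∈ S ⊓ Subgroup.centralizer (S : Set Ω), f y = y := by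
  classical
  have hp : p.Prime := Fact.out
  obtain ⟨β, hβ⟩ := Cfsg.Agent.Lib.Helper87_GTQuot.exists_aut_of_isMapOn hf (fun x hx => hf.mem hx)
  have hβA : β ∈ F.autGroup S :=
    (Cfsg.Agent.Lib.Helper87_Alperin.mem_autGroup_iff F le_rfl β).2 (hf.congr fun x hx => (hβ x hx).symm)
  have hβf : ∀ w : S, ((β w : S) : Ω) = f w := fun w => by
    rw [← extFun_coe, hβ _ w.2]
  have hpowz : ∀ (k : ℕ), ∀ c ∈ Zq, f (c ^ k) = c ^ k := fun k c hc => hfz _ (Zq.pow_mem hc k)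
  -- powers of `β` on the centre
  have hpow : ∀ (k : ℕ) (y : S), (y : Ω) ∈ S ⊓ Subgroup.centralizer (S : Set Ω) →
      (((β ^ k) y : S) : Ω) = (y : Ω) * ((y : Ω)⁻¹ * f y) ^ k := by
    intro k y hy
    induction k with
    | zero => simp
    | succ k ih =>
      have hc := hfy _ hy
      have hcS : ((y : Ω)⁻¹ * f y) ^ k ∈ S :=
        S.pow_mem (S.mul_mem (S.inv_mem y.2) (hf.mem y.2)) k
      rw [pow_succ', MulAut.mul_apply, hβf, ih, hf.map_mul y.2 hcS, hpowz k _ hc, pow_succ']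
      rw [mul_assoc ((y : Ω)⁻¹), mul_inv_cancel_left]
  -- decompose the order of `β`
  have hn0 : orderOf β ≠ 0 := (orderOf_pos β).ne'
  obtain ⟨a, m, hm, hn⟩ := Nat.exists_eq_pow_mul_and_not_dvd hn0 p hp.ne_one
  set ε := β ^ m with hε
  have hεpow : ε ^ (p ^ a) = 1 := by
    rw [hε, ← pow_mul, mul_comm, ← hn, pow_orderOf_eq_one]
  have hεA : ε ∈ F.autGroup S := Subgroup.pow_mem _ hβA m
  have hKp : IsPGroup p (Subgroup.zpowers ε) :=
    Cfsg.Agent.Lib.Helper84_FusionEssential.isPGroup_zpowers_of_pow_eq_one hεpow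
  have hSyl : Cfsg.Agent.Lib.Helper84_RelSylow.IsSylowIn p (autInducedBy S S) (F.autGroup S) :=
    Cfsg.Agent.Lib.Helper84_FusionSat.isSylowIn_of_isFullyAutomized F
      (Cfsg.Agent.Lib.Helper84_FusionRS.IsSaturated.isFullyAutomized hS hF
        (Cfsg.Agent.Lib.Helper84_FusionAlperin.isFullyNormalized_S F))
  obtain ⟨g, -, hg⟩ := hSyl.exists_conj_le ((Subgroup.zpowers_le).2 hεA) hKp
  have hgε := hg ε (Subgroup.mem_zpowers ε)
  rw [mem_autInducedBy_iff] at hgε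
  obtain ⟨s, hs, hsε⟩ := hgε
  have hεfix : ∀ y : S, (y : Ω) ∈ S ⊓ Subgroup.centralizer (S : Set Ω) → ε y = y := by
    intro y hy
    have hgy := aut_mem_center g hy
    have h1 := hsε (g y)
    have h2 : s * ((g y : S) : Ω) * s⁻¹ = ((g y : S) : Ω) := by
      rw [Subgroup.mem_centralizer_iff.mp hgy.2 s hs]
      group
    rw [h2] at h1
    have h3 : (g * ε * g⁻¹) (g y) = g (ε y) := by
      simp [MulAut.mul_apply]
    rw [h3] at h1
    exact g.injective (Subtype.ext h1)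
  intro y hy
  have hc := hfy y hy
  have h1 := hpow m ⟨y, hy.1⟩ hy
  rw [← hε, hεfix ⟨y, hy.1⟩ hy] at h1
  have hcm : (y⁻¹ * f y) ^ m = 1 := by
    have h2 : y * 1 = y * (y⁻¹ * f y) ^ m := by rw [mul_one]; exact h1
    exact (mul_left_cancel h2).symm
  have hcp : (y⁻¹ * f y) ^ p = 1 := pow_eq_one_of_card hcard hc
  have hcop : Nat.Coprime m p := ((Nat.Prime.coprime_iff_not_dvd hp).2 hm).symm
  have h3 : (y⁻¹ * f y) ^ (Nat.gcd m p) = 1 := pow_gcd_eq_one.2 ⟨hcm, hcp⟩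
  rw [hcop, pow_one] at h3
  calc f y = y * (y⁻¹ * f y) := by group
    _ = y := by rw [h3, mul_one]

/-- Data on the centre: a complement `L` of `Zq` in `Z(S)` and an `F`-automorphism `δ` of `S` inverting `Zq` and
centralizing `L`. -/
structure ZData (F : FusionSystem S) (Zq L : Subgroup Ω) (δ : Ω → Ω) : Prop where
  LZ : L ≤ S ⊓ Subgroup.centralizer (S : Set Ω)
  dec : ∀ x ∈ S ⊓ Subgroup.centralizer (S : Set Ω), ∃ z ∈ Zq, ∃ l ∈ L, x = z * l
  map : IsMapOn F S δ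
  δz : ∀ z ∈ Zq, δ z = z⁻¹
  δl : ∀ l ∈ L, δ l = l

theorem zdata_of_edata {F : FusionSystem S} {Zq E L : Subgroup Ω} {δ : Ω → Ω} (h : EData F Zq E L δ) :
    ZData F Zq L δ :=
  ⟨h.LZ, h.dec, h.map, h.δz, h.δl⟩

namespace ZData

variable {F : FusionSystem S} {Zq L : Subgroup Ω} {δ : Ω → Ω}

/-- `δ` acts trivially on `Z(S)/Zq`. -/
theorem mod (h : ZData F Zq L δ) (hZq : Zq ≤ S ⊓ Subgroup.centralizer (S : Set Ω)) :
    ∀ y ∈ S ⊓ Subgroup.centralizer (S : Set Ω), y⁻¹ * δ y ∈ Zq := by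
  intro y hy
  obtain ⟨z, hz, l, hl, rfl⟩ := h.dec y hy
  have hzS : z ∈ S := (hZq hz).1
  have hlS : l ∈ S := (h.LZ hl).1
  rw [h.map.map_mul hzS hlS, h.δz z hz, h.δl l hl]
  have hcomm : l * z⁻¹ = z⁻¹ * l :=
    Subgroup.mem_centralizer_iff.mp (hZq (Zq.inv_mem hz)).2 l hlS
  have h1 : (z * l)⁻¹ * (z⁻¹ * l) = l⁻¹ * z⁻¹ * (z⁻¹ * l) := by group
  rw [h1, ← hcomm]
  have h2 : l⁻¹ * z⁻¹ * (l * z⁻¹) = l⁻¹ * (z⁻¹ * l) * z⁻¹ := by group
  rw [h2, ← hcomm]
  have h3 : l⁻¹ * (l * z⁻¹) * z⁻¹ = z⁻¹ * z⁻¹ := by group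
  rw [h3]
  exact Zq.mul_mem (Zq.inv_mem hz) (Zq.inv_mem hz)

/-- `δ` maps the centre to itself. -/
theorem mem_center (h : ZData F Zq L δ) (hZq : Zq ≤ S ⊓ Subgroup.centralizer (S : Set Ω)) :
    ∀ y ∈ S ⊓ Subgroup.centralizer (S : Set Ω), δ y ∈ S ⊓ Subgroup.centralizer (S : Set Ω) := by
  intro y hy
  have h1 := h.mod hZq y hy
  have h2 : δ y = y * (y⁻¹ * δ y) := by group
  rw [h2]
  exact Subgroup.mul_mem _ hy (hZq h1)

/-- For `p` odd, central fixed points of `δ` lie in `L`. -/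
theorem mem_of_fix {p : ℕ} [Fact p.Prime] (hodd : Odd p) (hcard : Nat.card Zq = p)
    (h : ZData F Zq L δ) (hZq : Zq ≤ S ⊓ Subgroup.centralizer (S : Set Ω))
    {x : Ω} (hx : x ∈ S ⊓ Subgroup.centralizer (S : Set Ω)) (hfix : δ x = x) : x ∈ L := by
  obtain ⟨z, hz, l, hl, rfl⟩ := h.dec x hx
  have hzS : z ∈ S := (hZq hz).1
  have hlS : l ∈ S := (h.LZ hl).1
  rw [h.map.map_mul hzS hlS, h.δz z hz, h.δl l hl] at hfix
  have h1 : z⁻¹ = z := mul_right_cancel hfix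
  have h2 : z ^ 2 = 1 := by
    rw [pow_two]
    nth_rw 1 [← h1]
    exact inv_mul_cancel z
  have h3 : z ^ p = 1 := pow_eq_one_of_card hcard hz
  have hcop : Nat.Coprime 2 p := by
    rw [Nat.coprime_two_left]
    exact hodd
  have h4 : z ^ (Nat.gcd 2 p) = 1 := pow_gcd_eq_one.2 ⟨h2, h3⟩
  rw [hcop, pow_one] at h4
  rw [h4, one_mul]
  exact hl

/-- Uniqueness of the complement. -/
theorem le [Finite S] {p : ℕ} [Fact p.Prime] (hodd : Odd p) (hS : IsPGroup p S)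
    (hF : F.IsSaturated p) (hcard : Nat.card Zq = p)
    (hZq : Zq ≤ S ⊓ Subgroup.centralizer (S : Set Ω))
    {L₁ L₂ : Subgroup Ω} {δ₁ δ₂ : Ω → Ω} (h₁ : ZData F Zq L₁ δ₁) (h₂ : ZData F Zq L₂ δ₂) :
    L₁ ≤ L₂ := by
  have hcomp : IsMapOn F S (δ₂ ∘ δ₁) := h₁.map.comp h₂.map (fun x hx => h₁.map.mem hx)
  have hfix := eq_of_stabilizes hS hF hcard hcomp
    (fun z hz => by
      show δ₂ (δ₁ z) = z
      rw [h₁.δz z hz, h₂.δz _ (Zq.inv_mem hz), inv_inv])
    (fun y hy => by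
      show y⁻¹ * δ₂ (δ₁ y) ∈ Zq
      have h1 := h₁.mod hZq y hy
      have h2 := h₂.mod hZq _ (h₁.mem_center hZq y hy)
      have h3 : y⁻¹ * δ₂ (δ₁ y) = (y⁻¹ * δ₁ y) * ((δ₁ y)⁻¹ * δ₂ (δ₁ y)) := by group
      rw [h3]
      exact Zq.mul_mem h1 h2)
  intro l hl
  have hlZ := h₁.LZ hl
  have h1 := hfix l hlZ
  have h2 : δ₂ l = l := by
    have : δ₂ (δ₁ l) = l := h1
    rw [h₁.δl l hl] at this
    exact this
  exact h₂.mem_of_fix hodd hcard hZq hlZ h2

/-- Transport of the data by an `F`-automorphism of `S` leaving `Zq` invariant. -/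
theorem transport (h : ZData F Zq L δ) (hZq : Zq ≤ S ⊓ Subgroup.centralizer (S : Set Ω))
    {β : MulAut S} (hβ : β ∈ F.autGroup S)
    (hinv : ∀ γ : MulAut S, ∀ z : S, (z : Ω) ∈ Zq → ((γ z : S) : Ω) ∈ Zq) :
    ZData F Zq (((L.subgroupOf S).map β.toMonoidHom).map S.subtype)
      (extFun β ∘ δ ∘ extFun β⁻¹) := by
  have hb : IsMapOn F S (extFun β) := (Cfsg.Agent.Lib.Helper87_Alperin.mem_autGroup_iff F le_rfl β).1 hβ
  have hbi : IsMapOn F S (extFun β⁻¹) :=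
    (Cfsg.Agent.Lib.Helper87_Alperin.mem_autGroup_iff F le_rfl β⁻¹).1 (Subgroup.inv_mem _ hβ)
  refine ⟨?_, ?_, ?_, ?_, ?_⟩
  · rintro _ ⟨_, ⟨l, hl, rfl⟩, rfl⟩
    have hl' : (l : Ω) ∈ L := hl
    exact aut_mem_center β (h.LZ hl')
  · intro x hx
    have hx' := aut_mem_center β⁻¹ (y := ⟨x, hx.1⟩) hx
    obtain ⟨z, hz, l, hl, hzl⟩ := h.dec _ hx'
    have hzS : z ∈ S := (hZq hz).1
    have hlS : l ∈ S := (h.LZ hl).1
    refine ⟨((β ⟨z, hzS⟩ : S) : Ω), hinv β ⟨z, hzS⟩ hz, ((β ⟨l, hlS⟩ : S) : Ω),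
      ⟨β ⟨l, hlS⟩, ⟨⟨l, hlS⟩, Subgroup.mem_subgroupOf.2 hl, rfl⟩, rfl⟩, ?_⟩
    have h1 : (β⁻¹ ⟨x, hx.1⟩ : S) = ⟨z, hzS⟩ * ⟨l, hlS⟩ := Subtype.ext hzl
    have h2 : (⟨x, hx.1⟩ : S) = β (⟨z, hzS⟩ * ⟨l, hlS⟩) := by
      rw [← h1]
      simp
    rw [map_mul] at h2
    exact congrArg Subtype.val h2
  · refine (hbi.comp h.map (fun x hx => hbi.mem hx)).comp hb (fun x hx => ?_)
    exact h.map.mem (hbi.mem hx)
  · intro z hz
    have hzS : z ∈ S := (hZq hz).1
    show extFun β (δ (extFun β⁻¹ z)) = z⁻¹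
    have h1 : extFun β⁻¹ z ∈ Zq := by
      rw [extFun_apply _ hzS]
      exact hinv β⁻¹ ⟨z, hzS⟩ hz
    rw [h.δz _ h1, hb.map_inv (hbi.mem hzS), extFun_apply_inv β hzS]
  · rintro _ ⟨_, ⟨l, hl, rfl⟩, rfl⟩
    have hl' : (l : Ω) ∈ L := hl
    show extFun β (δ (extFun β⁻¹ ((β l : S) : Ω))) = ((β l : S) : Ω)
    have h1 : extFun β⁻¹ ((β l : S) : Ω) = l := by
      rw [← extFun_coe β l]
      exact extFun_inv_apply β l.2
    rw [h1, h.δl _ hl', extFun_coe]

end ZData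

section Core

variable [Finite S] {p : ℕ} [Fact p.Prime] {Zq : Subgroup Ω}

omit [Finite S] in
/-- If `S` is not abelian, then `Zq` is invariant under the automorphisms of `S`. -/
theorem aut_mem_zq (hC : CTwo p S Zq) (hnab : ∃ a ∈ S, ∃ b ∈ S, a * b ≠ b * a) (γ : MulAut S)
    (z : S) (hz : (z : Ω) ∈ Zq) : ((γ z : S) : Ω) ∈ Zq := by
  have hp : p.Prime := Fact.out
  obtain ⟨a, ha, b, hb, hab⟩ := hnab
  have hc1 : a * b * a⁻¹ * b⁻¹ ≠ 1 := by
    intro h
    apply hab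
    have : a * b = (a * b * a⁻¹ * b⁻¹) * (b * a) := by group
    rw [this, h, one_mul]
  have hle := le_of_mem_of_card_prime hp hC.card (hC.comm a ha b hb)
    (Subgroup.mem_zpowers (a * b * a⁻¹ * b⁻¹)) hc1
  obtain ⟨k, hk⟩ := Subgroup.mem_zpowers_iff.1 (hle hz)
  have h1 : z = ((⟨a, ha⟩ : S) * ⟨b, hb⟩ * (⟨a, ha⟩ : S)⁻¹ * (⟨b, hb⟩ : S)⁻¹) ^ k :=
    Subtype.ext (by rw [← hk]; rfl)
  rw [h1, map_zpow, map_mul, map_mul, map_mul, map_inv, map_inv]
  refine Zq.zpow_mem ?_ k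
  exact hC.comm _ (γ ⟨a, ha⟩).2 _ (γ ⟨b, hb⟩).2

/-- **Main theorem of the file.**  If `Zq` is not the whole centre of `S`, then `O_p(F) ≠ 1`. -/
theorem core_ne_bot (hodd : Odd p) (hS : IsPGroup p S) {F : FusionSystem S} (hF : F.IsSaturated p)
    (hC : CTwo p S Zq) (hne : Zq ≠ S ⊓ Subgroup.centralizer (S : Set Ω)) : F.core ≠ ⊥ := by
  classical
  have hp : p.Prime := Fact.out
  -- it suffices to find a nontrivial normal subgroup
  suffices hex : ∃ L : Subgroup Ω, L ≠ ⊥ ∧ F.IsNormal L by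
    obtain ⟨L, hL, hLn⟩ := hex
    intro hbot
    apply hL
    have : L ≤ F.core := le_sSup hLn
    rw [hbot] at this
    exact le_bot_iff.1 this
  by_cases hE : ∃ E₀, F.IsEssential p E₀
  · obtain ⟨E₀, hE₀⟩ := hE
    -- `S` is not abelian
    have hnab : ∃ a ∈ S, ∃ b ∈ S, a * b ≠ b * a := by
      by_contra hcon
      push Not at hcon
      have hES : E₀ ≤ S := hE₀.1.1
      have hcen : centralizerIn S E₀ ≤ E₀ :=
        hE₀.1.2 E₀ (Cfsg.Agent.Lib.Helper84_Fusion.isConj_refl F hES)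
      have hlt := Cfsg.Agent.Lib.Helper88_Essential.lt_of_isEssential hS F hF hE₀
      obtain ⟨x, hxS, hxE⟩ := SetLike.exists_of_lt hlt
      apply hxE
      apply hcen
      refine ⟨hxS, ?_⟩
      show x ∈ Subgroup.centralizer (E₀ : Set Ω)
      rw [Subgroup.mem_centralizer_iff]
      intro e he
      exact hcon e (hES he) x hxS
    have hinv := aut_mem_zq hC hnab
    obtain ⟨L, δ, hLδ⟩ := exists_edata hS hF hC hE₀
    have hZ := zdata_of_edata hLδ
    refine ⟨L, ?_, ?_⟩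
    · intro hbot
      apply hne
      apply le_antisymm hC.le
      intro x hx
      obtain ⟨z, hz, l, hl, rfl⟩ := hZ.dec x hx
      rw [hbot, Subgroup.mem_bot] at hl
      rw [hl, mul_one]
      exact hz
    · rw [Cfsg.Agent.S5087.result p hS F hF L]
      -- invariance under `Aut_F(S)`
      have hinvS : ∀ β ∈ F.autGroup S, ∀ x : S, (x : Ω) ∈ L → ((β x : S) : Ω) ∈ L := by
        intro β hβ x hx
        have hT := hZ.transport hC.le hβ hinv
        have hle := ZData.le hodd hS hF hC.card hC.le hT hZ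
        exact hle ⟨β x, ⟨x, Subgroup.mem_subgroupOf.2 hx, rfl⟩, rfl⟩
      rintro P (rfl | hP)
      · refine ⟨hZ.LZ.trans inf_le_left, fun α hα => ?_⟩
        ext x
        constructor
        · rintro ⟨y, hy, rfl⟩
          have hy' : (y : Ω) ∈ L := hy
          rw [Subgroup.mem_subgroupOf]
          exact hinvS α hα y hy'
        · intro hx
          rw [Subgroup.mem_subgroupOf] at hx
          refine ⟨α⁻¹ x, ?_, ?_⟩
          · show α⁻¹ x ∈ L.subgroupOf P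
            rw [Subgroup.mem_subgroupOf]
            exact hinvS α⁻¹ (Subgroup.inv_mem _ hα) x hx
          · simp
      · obtain ⟨L', δ', hL'⟩ := exists_edata hS hF hC hP
        have hZ' := zdata_of_edata hL'
        have hLL' : L = L' :=
          le_antisymm (ZData.le hodd hS hF hC.card hC.le hZ hZ')
            (ZData.le hodd hS hF hC.card hC.le hZ' hZ)
        rw [hLL']
        refine ⟨hL'.LE, fun α hα => ?_⟩
        ext x
        constructor
        · rintro ⟨y, hy, rfl⟩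
          have hy' : (y : Ω) ∈ L' := hy
          rw [Subgroup.mem_subgroupOf]
          exact hL'.inv α hα y hy'
        · intro hx
          rw [Subgroup.mem_subgroupOf] at hx
          refine ⟨α⁻¹ x, ?_, ?_⟩
          · show α⁻¹ x ∈ L'.subgroupOf P
            rw [Subgroup.mem_subgroupOf]
            exact hL'.inv α⁻¹ (Subgroup.inv_mem _ hα) x hx
          · simp
  · push Not at hE
    refine ⟨S, ?_, ?_⟩
    · intro hbot
      have h1 : Zq ≤ S := hC.le_S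
      rw [hbot] at h1
      have h2 : Zq = ⊥ := le_bot_iff.1 h1
      have h3 := hC.card
      rw [h2, Subgroup.card_bot] at h3
      exact hp.one_lt.ne h3
    · rw [Cfsg.Agent.S5087.result p hS F hF S]
      rintro P (rfl | hP)
      · refine ⟨le_rfl, fun α _ => ?_⟩
        ext x
        constructor
        · intro _
          rw [Subgroup.mem_subgroupOf]
          exact x.2
        · intro _
          refine ⟨α⁻¹ x, ?_, by simp⟩
          show α⁻¹ x ∈ P.subgroupOf P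
          rw [Subgroup.mem_subgroupOf]
          exact (α⁻¹ x).2
      · exact (hE P hP).elim

end Core

section Reduction

/-- The elements of `S` whose commutators with all elements of `T` lie in the central subgroup `Zq`. -/
def commSub (S Zq : Subgroup Ω) (hcen : ∀ z ∈ Zq, ∀ g ∈ S, g * z = z * g) (T : Set Ω) : Subgroup Ω where
  carrier := {x | x ∈ S ∧ ∀ y ∈ T, x * y * x⁻¹ * y⁻¹ ∈ Zq}
  one_mem' := ⟨S.one_mem, fun y _ => by
    have : (1 : Ω) * y * 1⁻¹ * y⁻¹ = 1 := by group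
    rw [this]
    exact Zq.one_mem⟩
  mul_mem' := by
    rintro a b ⟨ha, hac⟩ ⟨hb, hbc⟩
    refine ⟨S.mul_mem ha hb, fun y hy => ?_⟩
    have h1 := hcen _ (hbc y hy) a ha
    have h2 : a * b * y * (a * b)⁻¹ * y⁻¹ = (a * (b * y * b⁻¹ * y⁻¹)) * y * a⁻¹ * y⁻¹ := by group
    rw [h2, h1]
    have h3 : (b * y * b⁻¹ * y⁻¹) * a * y * a⁻¹ * y⁻¹ = (b * y * b⁻¹ * y⁻¹) * (a * y * a⁻¹ * y⁻¹) := by
      group
    rw [h3]
    exact Zq.mul_mem (hbc y hy) (hac y hy)
  inv_mem' := by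
    rintro a ⟨ha, hac⟩
    refine ⟨S.inv_mem ha, fun y hy => ?_⟩
    have hc := Zq.inv_mem (hac y hy)
    have h1 := hcen _ hc a ha
    have h2 : a⁻¹ * y * a⁻¹⁻¹ * y⁻¹ = a⁻¹ * ((a * y * a⁻¹ * y⁻¹)⁻¹ * a) := by group
    rw [h2, ← h1, inv_mul_cancel_left]
    exact hc

theorem mem_commSub {S Zq : Subgroup Ω} (hcen : ∀ z ∈ Zq, ∀ g ∈ S, g * z = z * g) (T : Set Ω) (x : Ω) :
    x ∈ commSub S Zq hcen T ↔ x ∈ S ∧ ∀ y ∈ T, x * y * x⁻¹ * y⁻¹ ∈ Zq := Iff.rfl

/-- A subgroup strictly between `Q` and `S`, where `|S| = p |Q|`, is `S`. -/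
theorem eq_of_lt_of_le_of_card [Finite S] {p : ℕ} (hp : p.Prime) {Q C : Subgroup Ω} (hQC : Q < C)
    (hCS : C ≤ S) (hcard : Nat.card S = Nat.card Q * p) : C = S := by
  have h1 : Nat.card Q ∣ Nat.card C := Subgroup.card_dvd_of_le hQC.le
  have : Finite C := Finite.of_injective (Subgroup.inclusion hCS) (Subgroup.inclusion_injective hCS)
  have : Finite Q := Finite.of_injective (Subgroup.inclusion hQC.le) (Subgroup.inclusion_injective hQC.le)
  have h2 : Nat.card C ∣ Nat.card S := Subgroup.card_dvd_of_le hCS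
  obtain ⟨m, hm⟩ := h1
  have hQpos : 0 < Nat.card Q := Nat.card_pos
  have hmp : m ∣ p := by
    rw [hm, hcard] at h2
    exact (Nat.mul_dvd_mul_iff_left hQpos).1 h2
  rcases (Nat.dvd_prime hp).1 hmp with h | h
  · exfalso
    rw [h, mul_one] at hm
    exact hQC.ne (Subgroup.eq_of_le_of_card_ge hQC.le hm.le)
  · apply Subgroup.eq_of_le_of_card_ge hCS
    rw [hm, h, hcard]

/-- If `Q` has index `p` in `S`, all commutators of `Q` lie in the central subgroup `Zq` of `Q` of order `p`, and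
some central element of `S` lies outside `Q`, then `S` is of the type considered in this file. -/
theorem ctwo_of_index [Finite S] {p : ℕ} (hp : p.Prime) {Q Zq : Subgroup Ω} (hQS : Q ≤ S)
    (hcard : Nat.card S = Nat.card Q * p) (hZqQ : Zq ≤ Q)
    (hZqcen : ∀ z ∈ Zq, ∀ g ∈ Q, g * z = z * g) (hZcard : Nat.card Zq = p)
    (hcomm : ∀ x ∈ Q, ∀ y ∈ Q, x * y * x⁻¹ * y⁻¹ ∈ Zq) {t : Ω}
    (ht : t ∈ S ⊓ Subgroup.centralizer (S : Set Ω)) (htQ : t ∉ Q) : CTwo p S Zq := by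
  have htc : ∀ g ∈ S, g * t = t * g := fun g hg => Subgroup.mem_centralizer_iff.mp ht.2 g hg
  have key : ∀ C : Subgroup Ω, Q ≤ C → t ∈ C → C ≤ S → C = S := fun C hQC htC hCS =>
    eq_of_lt_of_le_of_card hp (lt_of_le_of_ne hQC (fun h => htQ (h ▸ htC))) hCS hcard
  -- `Zq` is central in `S`
  have hcen : ∀ z ∈ Zq, ∀ g ∈ S, g * z = z * g := by
    intro z hz g hg
    have h1 := key (S ⊓ Subgroup.centralizer {z}) (fun q hq => ⟨hQS hq, by
        show q ∈ Subgroup.centralizer {z}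
        rw [Subgroup.mem_centralizer_singleton_iff]
        exact hZqcen z hz q hq⟩) ⟨ht.1, by
        show t ∈ Subgroup.centralizer {z}
        rw [Subgroup.mem_centralizer_singleton_iff]
        exact (htc z (hQS (hZqQ hz))).symm⟩ inf_le_left
    have h2 : g ∈ S ⊓ Subgroup.centralizer {z} := by rw [h1]; exact hg
    have h3 : g ∈ Subgroup.centralizer {z} := h2.2
    rw [Subgroup.mem_centralizer_singleton_iff] at h3
    exact h3
  have htcomm : ∀ y ∈ S, t * y * t⁻¹ * y⁻¹ = 1 := by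
    intro y hy
    rw [← htc y hy]
    group
  -- commutators of `S` with `Q`
  have h1 : ∀ x ∈ S, ∀ y ∈ Q, x * y * x⁻¹ * y⁻¹ ∈ Zq := by
    have hK := key (commSub S Zq hcen (Q : Set Ω))
      (fun q hq => ⟨hQS hq, fun y hy => hcomm q hq y hy⟩)
      ⟨ht.1, fun y hy => by rw [htcomm y (hQS hy)]; exact Zq.one_mem⟩
      (fun x hx => hx.1)
    intro x hx
    have : x ∈ commSub S Zq hcen (Q : Set Ω) := by rw [hK]; exact hx
    exact this.2
  -- all commutators of `S`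
  have h2 : ∀ x ∈ S, ∀ y ∈ S, x * y * x⁻¹ * y⁻¹ ∈ Zq := by
    have hK := key (commSub S Zq hcen (S : Set Ω))
      (fun q hq => ⟨hQS hq, fun y hy => by
        have h3 := Zq.inv_mem (h1 y hy q hq)
        have h4 : (y * q * y⁻¹ * q⁻¹)⁻¹ = q * y * q⁻¹ * y⁻¹ := by group
        rw [h4] at h3
        exact h3⟩)
      ⟨ht.1, fun y hy => by rw [htcomm y hy]; exact Zq.one_mem⟩
      (fun x hx => hx.1)
    intro x hx
    have : x ∈ commSub S Zq hcen (S : Set Ω) := by rw [hK]; exact hx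
    exact this.2
  refine ⟨fun z hz => ⟨hQS (hZqQ hz), ?_⟩, hZcard, h2⟩
  show z ∈ Subgroup.centralizer (S : Set Ω)
  rw [Subgroup.mem_centralizer_iff]
  intro g hg
  exact hcen z hz g hg

end Reduction

end Cfsg.Agent.Lib.Helper87_ClassTwo2
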