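import Mathlib
import Cfsg.Agent.Lib.Helper87_ClassTwo2

/-!
# Finite `p`-groups with a unique abelian subgroup of index `p` (helper87)

Group-theoretic preliminaries: `S` a finite nonabelian `p`-group, `A ≤ S` the unique abelian subgroup of index `p`.
For `x ∈ S` outside `A` the commutator map `a ↦ [a, x]` is an endomorphism `κ` of `A` with kernel `Z(S)`.
-/

set_option autoImplicit false

namespace Cfsg.Agent.Lib.Helper87_IndexP

open Cfsg.Agent.Lib.Helper87_ClassTwo2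

variable {Ω : Type*} [Group Ω]

/-- `|H ∩ K| · |K : H ∩ K| = |K|`. -/
theorem card_inf_mul_relIndex (H K : Subgroup Ω) :
    Nat.card (H ⊓ K : Subgroup Ω) * H.relIndex K = Nat.card K := by
  have h1 := Subgroup.card_mul_index (H.subgroupOf K)
  have h2 : Nat.card (H.subgroupOf K) = Nat.card (H ⊓ K : Subgroup Ω) := by
    rw [← Subgroup.inf_subgroupOf_right]
    exact Nat.card_congr (Subgroup.subgroupOfEquivOfLe (inf_le_right : H ⊓ K ≤ K)).toEquiv
  rw [h2] at h1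
  exact h1

/-- In a finite `p`-group `G` with a subgroup `M` of index `p`, a subgroup `K` not contained in `M` meets `M` in a
subgroup of index `p`. -/
theorem card_eq_of_not_le {p : ℕ} [Fact p.Prime] {G M K : Subgroup Ω} [Finite G] (hG : IsPGroup p G)
    (hMG : M ≤ G) (hKG : K ≤ G) (hcard : Nat.card G = Nat.card M * p) (hKM : ¬ K ≤ M) :
    Nat.card K = Nat.card (K ⊓ M : Subgroup Ω) * p := by
  have hp : p.Prime := Fact.out
  have : Finite K := Finite.of_injective (Subgroup.inclusion hKG) (Subgroup.inclusion_injective hKG)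
  have : Finite M := Finite.of_injective (Subgroup.inclusion hMG) (Subgroup.inclusion_injective hMG)
  have h1 := card_inf_mul_relIndex M K
  have h2 := card_inf_mul_relIndex M G
  rw [inf_eq_left.mpr hMG, hcard] at h2
  have hMpos : 0 < Nat.card M := Nat.card_pos
  have h3 : M.relIndex G = p := Nat.eq_of_mul_eq_mul_left hMpos h2
  have h4 : M.relIndex K ≤ p := by
    rw [← h3]
    exact Subgroup.relIndex_le_of_le_right hKG (by rw [h3]; exact hp.ne_zero)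
  have h5 : M.relIndex K ≠ 1 := fun h => hKM (Subgroup.relIndex_eq_one.mp h)
  have h6 : M.relIndex K ∣ Nat.card K := Subgroup.relIndex_dvd_card M K
  obtain ⟨n, hn⟩ := (hG.to_le hKG).exists_card_eq
  rw [hn] at h6
  obtain ⟨j, -, hj⟩ := (Nat.dvd_prime_pow hp).1 h6
  have h7 : M.relIndex K = p := by
    rcases j with _ | j
    · rw [pow_zero] at hj; exact (h5 hj).elim
    · apply le_antisymm h4
      rw [hj, pow_succ]
      exact Nat.le_mul_of_pos_left p (pos_of_ne_zero (pow_ne_zero j hp.ne_zero))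
  rw [h7, inf_comm] at h1
  exact h1.symm

/-- Index `p` in terms of cardinalities. -/
theorem index_subgroupOf_eq_iff {p : ℕ} {B G : Subgroup Ω} [Finite G] (hB : B ≤ G) :
    (B.subgroupOf G).index = p ↔ Nat.card G = Nat.card B * p := by
  have h1 := Subgroup.card_mul_index (B.subgroupOf G)
  rw [Nat.card_congr (Subgroup.subgroupOfEquivOfLe hB).toEquiv] at h1
  have : Finite B := Finite.of_injective (Subgroup.inclusion hB) (Subgroup.inclusion_injective hB)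
  have hBpos : 0 < Nat.card B := Nat.card_pos
  constructor
  · intro h; rw [← h1, h]
  · intro h
    rw [h] at h1
    exact Nat.eq_of_mul_eq_mul_left hBpos h1

/-- The hypotheses on `S` and `A`. -/
structure AbIdx (p : ℕ) (S A : Subgroup Ω) : Prop where
  le : A ≤ S
  ab : ∀ a ∈ A, ∀ b ∈ A, a * b = b * a
  card : Nat.card S = Nat.card A * p
  nab : ∃ a ∈ S, ∃ b ∈ S, a * b ≠ b * a
  uniq : ∀ B : Subgroup Ω, B ≤ S → (∀ a ∈ B, ∀ b ∈ B, a * b = b * a) →
    Nat.card S = Nat.card B * p → B = A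

/-- The hypotheses in the form of the statements. -/
theorem abIdx_of_hyp {p : ℕ} {S A : Subgroup Ω} [Finite S] (hna : ¬ IsMulCommutative ↥S)
    (hA : A ≤ S ∧ IsMulCommutative ↥A ∧ (A.subgroupOf S).index = p)
    (huniq : ∀ B : Subgroup Ω, B ≤ S → IsMulCommutative ↥B → (B.subgroupOf S).index = p → B = A) :
    AbIdx p S A := by
  have hcardof : ∀ B : Subgroup Ω, B ≤ S → ((B.subgroupOf S).index = p ↔ Nat.card S = Nat.card B * p) := by
    intro B hB
    have h1 := Subgroup.card_mul_index (B.subgroupOf S)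
    rw [Nat.card_congr (Subgroup.subgroupOfEquivOfLe hB).toEquiv] at h1
    have : Finite B := Finite.of_injective (Subgroup.inclusion hB) (Subgroup.inclusion_injective hB)
    have hBpos : 0 < Nat.card B := Nat.card_pos
    constructor
    · intro h; rw [← h1, h]
    · intro h
      rw [h] at h1
      exact Nat.eq_of_mul_eq_mul_left hBpos h1
  refine ⟨hA.1, ?_, (hcardof A hA.1).1 hA.2.2, ?_, ?_⟩
  · intro a ha b hb
    have := hA.2.1.is_comm.comm ⟨a, ha⟩ ⟨b, hb⟩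
    exact congrArg Subtype.val this
  · by_contra hcon
    push Not at hcon
    apply hna
    exact ⟨⟨fun a b => Subtype.ext (hcon a a.2 b b.2)⟩⟩
  · intro B hB hab hc
    exact huniq B hB ⟨⟨fun a b => Subtype.ext (hab a a.2 b b.2)⟩⟩ ((hcardof B hB).2 hc)

namespace AbIdx

variable {p : ℕ} {S A : Subgroup Ω}

/-- `A` is normal in `S`. -/
theorem conj_mem (h : AbIdx p S A) {g a : Ω} (hg : g ∈ S) (ha : a ∈ A) : g * a * g⁻¹ ∈ A := by
  have hmap : A.map (MulAut.conj g).toMonoidHom = A := by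
    apply h.uniq
    · rintro _ ⟨b, hb, rfl⟩
      exact S.mul_mem (S.mul_mem hg (h.le hb)) (S.inv_mem hg)
    · rintro _ ⟨b, hb, rfl⟩ _ ⟨c, hc, rfl⟩
      show g * b * g⁻¹ * (g * c * g⁻¹) = g * c * g⁻¹ * (g * b * g⁻¹)
      have := h.ab b hb c hc
      calc g * b * g⁻¹ * (g * c * g⁻¹) = g * (b * c) * g⁻¹ := by group
        _ = g * (c * b) * g⁻¹ := by rw [this]
        _ = g * c * g⁻¹ * (g * b * g⁻¹) := by group
    · rw [h.card]
      congr 1
      exact (Nat.card_congr (A.equivMapOfInjective _ (MulAut.conj g).injective).toEquiv)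
  rw [← hmap]
  exact ⟨a, ha, rfl⟩

/-- `S` normalizes `A`. -/
theorem le_normalizer (h : AbIdx p S A) : S ≤ Subgroup.normalizer (A : Set Ω) := by
  intro g hg
  rw [Subgroup.mem_normalizer_iff]
  intro a
  constructor
  · exact fun ha => h.conj_mem hg ha
  · intro ha
    have := h.conj_mem (S.inv_mem hg) ha
    have h1 : g⁻¹ * (g * a * g⁻¹) * g⁻¹⁻¹ = a := by group
    rw [h1] at this
    exact this

theorem conj_zpow_mem (h : AbIdx p S A) {x a : Ω} (hx : x ∈ S) (ha : a ∈ A) (i : ℤ) :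
    x ^ i * a * (x ^ i)⁻¹ ∈ A := h.conj_mem (S.zpow_mem hx i) ha

/-- The subgroup `A⟨x⟩`. -/
def mulZpowers (h : AbIdx p S A) {x : Ω} (hx : x ∈ S) : Subgroup Ω where
  carrier := {y | ∃ a ∈ A, ∃ i : ℤ, y = a * x ^ i}
  one_mem' := ⟨1, A.one_mem, 0, by simp⟩
  mul_mem' := by
    rintro _ _ ⟨a, ha, i, rfl⟩ ⟨b, hb, j, rfl⟩
    refine ⟨a * (x ^ i * b * (x ^ i)⁻¹), A.mul_mem ha (h.conj_zpow_mem hx hb i), i + j, ?_⟩
    rw [zpow_add]
    group
  inv_mem' := by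
    rintro _ ⟨a, ha, i, rfl⟩
    refine ⟨x ^ (-i) * a⁻¹ * (x ^ (-i))⁻¹, h.conj_zpow_mem hx (A.inv_mem ha) (-i), -i, ?_⟩
    group

/-- Every element of `S` is of the form `a xⁱ`, for `x ∈ S` outside `A`. -/
theorem exists_mul_zpow [Finite S] (hp : p.Prime) (h : AbIdx p S A) {x : Ω} (hx : x ∈ S) (hxA : x ∉ A)
    {y : Ω} (hy : y ∈ S) : ∃ a ∈ A, ∃ i : ℤ, y = a * x ^ i := by
  have hle : A ≤ h.mulZpowers hx := fun a ha => ⟨a, ha, 0, by simp⟩
  have hxm : x ∈ h.mulZpowers hx := ⟨1, A.one_mem, 1, by simp⟩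
  have hlt : A < h.mulZpowers hx := lt_of_le_of_ne hle (fun heq => hxA (heq ▸ hxm))
  have hleS : h.mulZpowers hx ≤ S := by
    rintro _ ⟨a, ha, i, rfl⟩
    exact S.mul_mem (h.le ha) (S.zpow_mem hx i)
  have := eq_of_lt_of_le_of_card hp hlt hleS h.card
  have hy' : y ∈ h.mulZpowers hx := by rw [this]; exact hy
  exact hy'

/-- An element of `A` commuting with some `x ∈ S` outside `A` is central in `S`. -/
theorem mem_center_of_comm [Finite S] (hp : p.Prime) (h : AbIdx p S A) {x : Ω} (hx : x ∈ S) (hxA : x ∉ A)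
    {a : Ω} (ha : a ∈ A) (hax : a * x = x * a) : a ∈ S ⊓ Subgroup.centralizer (S : Set Ω) := by
  refine ⟨h.le ha, ?_⟩
  show a ∈ Subgroup.centralizer (S : Set Ω)
  rw [Subgroup.mem_centralizer_iff]
  intro y hy
  obtain ⟨b, hb, i, rfl⟩ := h.exists_mul_zpow hp hx hxA hy
  have h1 : x ^ i * a = a * x ^ i := ((Commute.zpow_right (show Commute a x from hax) i).eq).symm
  calc b * x ^ i * a = b * (x ^ i * a) := by group
    _ = b * (a * x ^ i) := by rw [h1]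
    _ = (b * a) * x ^ i := by group
    _ = (a * b) * x ^ i := by rw [h.ab b hb a ha]
    _ = a * (b * x ^ i) := by group

/-- The centre of `S` lies in `A`. -/
theorem center_le [Finite S] (hp : p.Prime) (h : AbIdx p S A) :
    S ⊓ Subgroup.centralizer (S : Set Ω) ≤ A := by
  intro z hz
  by_contra hzA
  obtain ⟨u, hu, v, hv, huv⟩ := h.nab
  apply huv
  obtain ⟨a, ha, i, rfl⟩ := h.exists_mul_zpow hp hz.1 hzA hu
  obtain ⟨b, hb, j, rfl⟩ := h.exists_mul_zpow hp hz.1 hzA hv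
  have hzc : ∀ g ∈ S, ∀ k : ℤ, g * z ^ k = z ^ k * g := fun g hg k =>
    (Commute.zpow_right (show Commute g z from Subgroup.mem_centralizer_iff.mp hz.2 g hg) k).eq
  calc a * z ^ i * (b * z ^ j) = a * (z ^ i * b) * z ^ j := by group
    _ = a * (b * z ^ i) * z ^ j := by rw [hzc b (h.le hb) i]
    _ = (a * b) * (z ^ i * z ^ j) := by group
    _ = (b * a) * (z ^ j * z ^ i) := by rw [h.ab a ha b hb, ← zpow_add, ← zpow_add, add_comm]
    _ = b * (a * z ^ j) * z ^ i := by group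
    _ = b * (z ^ j * a) * z ^ i := by rw [hzc a (h.le ha) j]
    _ = b * z ^ j * (a * z ^ i) := by group

end AbIdx

/-- The commutator `[a, x]`. -/
def kap (x a : Ω) : Ω := a * x * a⁻¹ * x⁻¹

theorem kap_eq_one_iff {x a : Ω} : kap x a = 1 ↔ a * x = x * a := by
  unfold kap
  constructor
  · intro h
    have : a * x = (a * x * a⁻¹ * x⁻¹) * (x * a) := by group
    rw [this, h, one_mul]
  · intro h
    have : a * x * a⁻¹ * x⁻¹ = (a * x) * (x * a)⁻¹ := by group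
    rw [this, h, mul_inv_cancel]

theorem conj_eq_kap_mul (x a : Ω) : a * x * a⁻¹ = kap x a * x := by
  unfold kap; group

namespace AbIdx

variable {p : ℕ} {S A : Subgroup Ω}

theorem kap_mem (h : AbIdx p S A) {x a : Ω} (hx : x ∈ S) (ha : a ∈ A) : kap x a ∈ A := by
  have h1 : kap x a = a * (x * a⁻¹ * x⁻¹) := by unfold kap; group
  rw [h1]
  exact A.mul_mem ha (h.conj_mem hx (A.inv_mem ha))

theorem kap_mul (h : AbIdx p S A) {x a b : Ω} (hx : x ∈ S) (ha : a ∈ A) (hb : b ∈ A) :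
    kap x (a * b) = kap x a * kap x b := by
  have h1 : kap x (a * b) = (a * kap x b) * a⁻¹ * kap x a := by unfold kap; group
  rw [h1, h.ab a ha _ (h.kap_mem hx hb), h.ab _ (h.kap_mem hx ha) _ (h.kap_mem hx hb)]
  group

/-- The commutator map as a homomorphism. -/
noncomputable def kapHom (h : AbIdx p S A) {x : Ω} (hx : x ∈ S) : ↥A →* Ω :=
  MonoidHom.mk' (fun a => kap x a) (fun a b => h.kap_mul hx a.2 b.2)

@[simp]
theorem kapHom_apply (h : AbIdx p S A) {x : Ω} (hx : x ∈ S) (a : A) : h.kapHom hx a = kap x a := rfl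

/-- The image of `D ∩ A` under the commutator map. -/
noncomputable def kapIm (h : AbIdx p S A) {x : Ω} (hx : x ∈ S) (D : Subgroup Ω) : Subgroup Ω :=
  (D.subgroupOf A).map (h.kapHom hx)

theorem mem_kapIm (h : AbIdx p S A) {x : Ω} (hx : x ∈ S) (D : Subgroup Ω) (y : Ω) :
    y ∈ h.kapIm hx D ↔ ∃ d ∈ D, d ∈ A ∧ kap x d = y := by
  unfold kapIm
  constructor
  · rintro ⟨d, hd, rfl⟩
    exact ⟨d, Subgroup.mem_subgroupOf.1 hd, d.2, rfl⟩
  · rintro ⟨d, hd, hdA, rfl⟩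
    exact ⟨⟨d, hdA⟩, Subgroup.mem_subgroupOf.2 hd, rfl⟩

theorem kapIm_le (h : AbIdx p S A) {x : Ω} (hx : x ∈ S) (D : Subgroup Ω) : h.kapIm hx D ≤ A := by
  intro y hy
  obtain ⟨d, -, hdA, rfl⟩ := (h.mem_kapIm hx D y).1 hy
  exact h.kap_mem hx hdA

theorem kapIm_mono (h : AbIdx p S A) {x : Ω} (hx : x ∈ S) {D D' : Subgroup Ω} (hDD : D ≤ D') :
    h.kapIm hx D ≤ h.kapIm hx D' := by
  intro y hy
  obtain ⟨d, hd, hdA, rfl⟩ := (h.mem_kapIm hx D y).1 hy
  exact (h.mem_kapIm hx D' _).2 ⟨d, hDD hd, hdA, rfl⟩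

/-- The kernel of the commutator map with `x ∉ A` is the centre of `S`. -/
theorem ker_kapHom [Finite S] (hp : p.Prime) (h : AbIdx p S A) {x : Ω} (hx : x ∈ S) (hxA : x ∉ A) :
    (h.kapHom hx).ker = (S ⊓ Subgroup.centralizer (S : Set Ω)).subgroupOf A := by
  ext a
  rw [MonoidHom.mem_ker, Subgroup.mem_subgroupOf, kapHom_apply, kap_eq_one_iff]
  constructor
  · intro hax
    exact h.mem_center_of_comm hp hx hxA a.2 hax
  · intro ha
    exact (Subgroup.mem_centralizer_iff.mp ha.2 x hx).symm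

/-- `|D| = |Z(S) ∩ D| · |κ(D)|` for `D ≤ A`. -/
theorem card_kapIm [Finite S] (hp : p.Prime) (h : AbIdx p S A) {x : Ω} (hx : x ∈ S) (hxA : x ∉ A)
    {D : Subgroup Ω} (hDA : D ≤ A) :
    Nat.card ((S ⊓ Subgroup.centralizer (S : Set Ω)) ⊓ D : Subgroup Ω) * Nat.card (h.kapIm hx D)
      = Nat.card D := by
  have h1 := Subgroup.relIndex_ker (K := D.subgroupOf A) (h.kapHom hx)
  rw [h.ker_kapHom hp hx hxA, Subgroup.relIndex_subgroupOf hDA] at h1
  have h2 := card_inf_mul_relIndex (S ⊓ Subgroup.centralizer (S : Set Ω)) D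
  rw [h1] at h2
  exact h2

/-- `[a, xⁱ] = [a, x]ⁱ` when `[a, x]` commutes with `x`. -/
theorem kap_zpow_of_comm {x a : Ω} (hc : kap x a * x = x * kap x a) (i : ℤ) :
    kap (x ^ i) a = kap x a ^ i := by
  have h1 : a * x ^ i * a⁻¹ = (a * x * a⁻¹) ^ i := conj_zpow.symm
  have h2 : kap (x ^ i) a = (a * x * a⁻¹) ^ i * (x ^ i)⁻¹ := by
    unfold kap; rw [← h1]
  rw [h2, conj_eq_kap_mul, (show Commute (kap x a) x from hc).mul_zpow]
  group

/-- `[a, b xⁱ] = [a, xⁱ]` for `a, b ∈ A`. -/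
theorem comm_eq_kap (h : AbIdx p S A) {x a b : Ω} (hx : x ∈ S) (ha : a ∈ A) (hb : b ∈ A) (i : ℤ) :
    a * (b * x ^ i) * a⁻¹ * (b * x ^ i)⁻¹ = kap (x ^ i) a := by
  have hk := h.kap_mem (S.zpow_mem hx i) ha
  have h1 : a * (b * x ^ i) * a⁻¹ * (b * x ^ i)⁻¹ = (a * b) * (x ^ i * a⁻¹ * (x ^ i)⁻¹) * b⁻¹ := by group
  rw [h1, h.ab a ha b hb]
  have h2 : (b * a) * (x ^ i * a⁻¹ * (x ^ i)⁻¹) * b⁻¹ = b * kap (x ^ i) a * b⁻¹ := by unfold kap; group
  rw [h2, h.ab b hb _ hk]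
  group

/-- The elements of `A` whose commutator with `x` is central in `S`. -/
noncomputable def Yx (h : AbIdx p S A) {x : Ω} (hx : x ∈ S) : Subgroup Ω :=
  ((S ⊓ Subgroup.centralizer (S : Set Ω)).comap (h.kapHom hx)).map A.subtype

theorem mem_Yx (h : AbIdx p S A) {x : Ω} (hx : x ∈ S) (a : Ω) :
    a ∈ h.Yx hx ↔ a ∈ A ∧ kap x a ∈ S ⊓ Subgroup.centralizer (S : Set Ω) := by
  unfold Yx
  constructor
  · rintro ⟨b, hb, rfl⟩
    exact ⟨b.2, hb⟩
  · rintro ⟨ha, hk⟩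
    exact ⟨⟨a, ha⟩, hk, rfl⟩

theorem Yx_le (h : AbIdx p S A) {x : Ω} (hx : x ∈ S) : h.Yx hx ≤ A := fun a ha =>
  ((h.mem_Yx hx a).1 ha).1

theorem center_le_Yx [Finite S] (hp : p.Prime) (h : AbIdx p S A) {x : Ω} (hx : x ∈ S) :
    S ⊓ Subgroup.centralizer (S : Set Ω) ≤ h.Yx hx := by
  intro z hz
  rw [h.mem_Yx hx]
  refine ⟨h.center_le hp hz, ?_⟩
  have : kap x z = 1 := kap_eq_one_iff.2 (Subgroup.mem_centralizer_iff.mp hz.2 x hx).symm
  rw [this]
  exact Subgroup.one_mem _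

/-- `κ(Y) = Z(S) ∩ κ(A)`. -/
theorem kapIm_Yx (h : AbIdx p S A) {x : Ω} (hx : x ∈ S) :
    h.kapIm hx (h.Yx hx) = (S ⊓ Subgroup.centralizer (S : Set Ω)) ⊓ h.kapIm hx A := by
  ext y
  rw [Subgroup.mem_inf, h.mem_kapIm, h.mem_kapIm]
  constructor
  · rintro ⟨d, hd, hdA, rfl⟩
    exact ⟨((h.mem_Yx hx d).1 hd).2, d, hdA, hdA, rfl⟩
  · rintro ⟨hy, d, hdA, -, rfl⟩
    exact ⟨d, (h.mem_Yx hx d).2 ⟨hdA, hy⟩, hdA, rfl⟩

/-- `|Y| = |Z(S)| · |Z(S) ∩ κ(A)|`. -/
theorem card_Yx [Finite S] (hp : p.Prime) (h : AbIdx p S A) {x : Ω} (hx : x ∈ S) (hxA : x ∉ A) :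
    Nat.card (h.Yx hx) = Nat.card (S ⊓ Subgroup.centralizer (S : Set Ω) : Subgroup Ω) *
      Nat.card ((S ⊓ Subgroup.centralizer (S : Set Ω)) ⊓ h.kapIm hx A : Subgroup Ω) := by
  have h1 := h.card_kapIm hp hx hxA (h.Yx_le hx)
  rw [inf_eq_left.mpr (h.center_le_Yx hp hx), h.kapIm_Yx hx] at h1
  exact h1.symm

/-- For `a ∈ Y`, commutators of `a` with elements of `S` are central. -/
theorem comm_mem_center_of_mem_Yx [Finite S] (hp : p.Prime) (h : AbIdx p S A) {x : Ω} (hx : x ∈ S)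
    (hxA : x ∉ A) {a : Ω} (ha : a ∈ h.Yx hx) {g : Ω} (hg : g ∈ S) :
    a * g * a⁻¹ * g⁻¹ ∈ S ⊓ Subgroup.centralizer (S : Set Ω) := by
  obtain ⟨haA, hk⟩ := (h.mem_Yx hx a).1 ha
  obtain ⟨b, hb, i, rfl⟩ := h.exists_mul_zpow hp hx hxA hg
  rw [h.comm_eq_kap hx haA hb i,
    kap_zpow_of_comm (Subgroup.mem_centralizer_iff.mp hk.2 x hx).symm i]
  exact Subgroup.zpow_mem _ hk i

end AbIdx

/-- The second centre of `S`, as a subgroup of the ambient group. -/
noncomputable def Z2 (S : Subgroup Ω) : Subgroup Ω := (Subgroup.upperCentralSeries ↥S 2).map S.subtype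

theorem mem_Z2 (S : Subgroup Ω) (w : Ω) :
    w ∈ Z2 S ↔ w ∈ S ∧ ∀ g ∈ S, w * g * w⁻¹ * g⁻¹ ∈ S ⊓ Subgroup.centralizer (S : Set Ω) := by
  unfold Z2
  constructor
  · rintro ⟨w, hw, rfl⟩
    refine ⟨w.2, fun g hg => ?_⟩
    have h1 := (Subgroup.mem_upperCentralSeries_succ_iff (G := ↥S) (n := 1)).1 hw ⟨g, hg⟩
    rw [Subgroup.upperCentralSeries_one, Subgroup.mem_center_iff] at h1
    refine ⟨S.mul_mem (S.mul_mem (S.mul_mem w.2 hg) (S.inv_mem w.2)) (S.inv_mem hg), ?_⟩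
    show (w : Ω) * g * (w : Ω)⁻¹ * g⁻¹ ∈ Subgroup.centralizer (S : Set Ω)
    rw [Subgroup.mem_centralizer_iff]
    intro k hk
    have h2 := h1 ⟨k, hk⟩
    have h3 := congrArg Subtype.val h2
    rw [commutatorElement_def] at h3
    exact h3
  · rintro ⟨hw, hc⟩
    refine ⟨⟨w, hw⟩, ?_, rfl⟩
    show (⟨w, hw⟩ : S) ∈ Subgroup.upperCentralSeries (↥S) (1 + 1)
    rw [Subgroup.mem_upperCentralSeries_succ_iff]
    intro g
    rw [Subgroup.upperCentralSeries_one, Subgroup.mem_center_iff]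
    intro k
    apply Subtype.ext
    rw [commutatorElement_def]
    exact Subgroup.mem_centralizer_iff.mp (hc g g.2).2 k k.2

theorem Z2_le (S : Subgroup Ω) : Z2 S ≤ S := fun _ hw => ((mem_Z2 S _).1 hw).1

namespace AbIdx

variable {p : ℕ} {S A : Subgroup Ω}

theorem Yx_le_Z2 [Finite S] (hp : p.Prime) (h : AbIdx p S A) {x : Ω} (hx : x ∈ S) (hxA : x ∉ A) :
    h.Yx hx ≤ Z2 S := by
  intro a ha
  rw [mem_Z2]
  exact ⟨h.le (h.Yx_le hx ha), fun g hg => h.comm_mem_center_of_mem_Yx hp hx hxA ha hg⟩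

theorem Z2_inf_le_Yx (h : AbIdx p S A) {x : Ω} (hx : x ∈ S) : Z2 S ⊓ A ≤ h.Yx hx := by
  rintro a ⟨ha2, haA⟩
  exact (h.mem_Yx hx a).2 ⟨haA, ((mem_Z2 S a).1 ha2).2 x hx⟩

theorem Yx_eq_of_Z2_le [Finite S] (hp : p.Prime) (h : AbIdx p S A) {x : Ω} (hx : x ∈ S) (hxA : x ∉ A)
    (h2 : Z2 S ≤ A) : h.Yx hx = Z2 S :=
  le_antisymm (h.Yx_le_Z2 hp hx hxA) (fun _ ha => h.Z2_inf_le_Yx hx ⟨ha, h2 ha⟩)

/-- If the second centre is not contained in `A`, then `[A, x]` is central. -/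
theorem Yx_eq_of_Z2_not_le [Finite S] (hp : p.Prime) (h : AbIdx p S A) {x : Ω} (hx : x ∈ S)
    (h2 : ¬ Z2 S ≤ A) : h.Yx hx = A := by
  apply le_antisymm (h.Yx_le hx)
  obtain ⟨w, hw2, hwA⟩ := SetLike.not_le_iff_exists.1 h2
  obtain ⟨hwS, hwc⟩ := (mem_Z2 S w).1 hw2
  intro a ha
  rw [h.mem_Yx hx]
  refine ⟨ha, ?_⟩
  obtain ⟨b, hb, i, rfl⟩ := h.exists_mul_zpow hp hwS hwA hx
  have hkw : kap w a ∈ S ⊓ Subgroup.centralizer (S : Set Ω) := by
    have h3 := Subgroup.inv_mem _ (hwc a (h.le ha))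
    have h4 : (w * a * w⁻¹ * a⁻¹)⁻¹ = kap w a := by unfold kap; group
    rw [h4] at h3
    exact h3
  have h5 : kap (b * w ^ i) a = a * (b * w ^ i) * a⁻¹ * (b * w ^ i)⁻¹ := rfl
  rw [h5, h.comm_eq_kap hwS ha hb i,
    kap_zpow_of_comm (Subgroup.mem_centralizer_iff.mp hkw.2 w hwS).symm i]
  exact Subgroup.zpow_mem _ hkw i

end AbIdx

end Cfsg.Agent.Lib.Helper87_IndexP
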