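import Mathlib
import Cfsg.Agent.Lib.Helper87_IndexP
import Cfsg.Agent.Lib.Helper45_ResistStruct1

/-!
# Rank two `p`-groups of Blackburn's third family: subgroups (helper45)

The abelian subgroup `A = ⟨y, z⟩` of index `p`, the centre `Z(S) = ⟨z ^ p⟩`, uniqueness of `A`,
the exponent homomorphism `eps : S → ZMod p` with kernel `A`.
-/

set_option autoImplicit false

namespace Cfsg.Agent.Lib.Helper45_ResistStruct

variable {Ω : Type*} [Group Ω]

/-- cardinality of a subgroup parametrized bijectively by a finite type -/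
theorem card_eq_of_param {H : Subgroup Ω} {ι : Type*} [Fintype ι] (f : ι → Ω) (hf : ∀ t, f t ∈ H)
    (hsurj : ∀ g ∈ H, ∃ t, g = f t) (hinj : Function.Injective f) :
    Nat.card H = Fintype.card ι := by
  rw [← Nat.card_eq_fintype_card]
  symm
  apply Nat.card_congr
  refine Equiv.ofBijective (fun t => (⟨f t, hf t⟩ : ↥H)) ⟨?_, ?_⟩
  · intro a b hab
    exact hinj (congrArg Subtype.val hab)
  · rintro ⟨g, hg⟩
    obtain ⟨t, rfl⟩ := hsurj g hg
    exact ⟨t, rfl⟩

namespace FC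

variable {p n s : ℕ} {x y z : Ω} {S : Subgroup Ω}

/-- the abelian subgroup `A = ⟨y, z⟩` -/
def AA (_h : FC p n s x y z S) : Subgroup Ω := Subgroup.closure {y, z}

theorem mem_AA_iff (h : FC p n s x y z S) (hp : 0 < p) {g : Ω} :
    g ∈ h.AA ↔ ∃ j k : ℕ, g = nf y z j k := by
  constructor
  · intro hg
    have hfin : ∀ t ∈ ({y, z} : Set Ω), IsOfFinOrder t := by
      intro t ht
      simp only [Set.mem_insert_iff, Set.mem_singleton_iff] at ht
      rcases ht with rfl | rfl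
      · exact isOfFinOrder_iff_pow_eq_one.2 ⟨p, hp, h.yp⟩
      · exact isOfFinOrder_iff_pow_eq_one.2 ⟨p ^ (n - 2), pow_pos hp _, h.zp⟩
    have hg' : g ∈ (Subgroup.closure ({y, z} : Set Ω)).toSubmonoid := hg
    rw [Subgroup.closure_toSubmonoid_of_isOfFinOrder hfin] at hg'
    clear hg
    induction hg' using Submonoid.closure_induction with
    | mem t ht =>
      simp only [Set.mem_insert_iff, Set.mem_singleton_iff] at ht
      rcases ht with rfl | rfl
      · exact ⟨1, 0, by simp [nf]⟩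
      · exact ⟨0, 1, by simp [nf]⟩
    | one => exact ⟨0, 0, by simp [nf]⟩
    | mul a b _ _ ha hb =>
      obtain ⟨j, k, rfl⟩ := ha
      obtain ⟨j', k', rfl⟩ := hb
      exact ⟨_, _, h.nf_mul j k j' k'⟩
  · rintro ⟨j, k, rfl⟩
    exact Subgroup.mul_mem _ (Subgroup.pow_mem _ (Subgroup.subset_closure (by simp)) _)
      (Subgroup.pow_mem _ (Subgroup.subset_closure (by simp)) _)

theorem nf_mem_AA (h : FC p n s x y z S) (j k : ℕ) : nf y z j k ∈ h.AA :=
  Subgroup.mul_mem _ (Subgroup.pow_mem _ (Subgroup.subset_closure (by simp)) _)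
    (Subgroup.pow_mem _ (Subgroup.subset_closure (by simp)) _)

theorem AA_le (h : FC p n s x y z S) : h.AA ≤ S := by
  unfold AA
  rw [Subgroup.closure_le]
  intro t ht
  simp only [Set.mem_insert_iff, Set.mem_singleton_iff] at ht
  rcases ht with rfl | rfl
  · exact h.mem_y
  · exact h.mem_z

theorem AA_comm (h : FC p n s x y z S) : IsMulCommutative ↥h.AA := by
  apply Subgroup.isMulCommutative_closure
  intro a ha b hb
  simp only [Set.mem_insert_iff, Set.mem_singleton_iff] at ha hb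
  rcases ha with rfl | rfl <;> rcases hb with rfl | rfl
  · rfl
  · exact h.yz
  · exact h.yz.symm
  · rfl

theorem nf_eq_form (x y z : Ω) (j k : ℕ) : nf y z j k = x ^ 0 * nf y z j k := by simp

/-- an element `x ^ i * a` with `a ∈ A` lies in `A` iff `p ∣ i` -/
theorem form_mem_AA_iff [Finite S] (h : FC p n s x y z S) (hp : p.Prime) (i j k : ℕ) :
    x ^ i * nf y z j k ∈ h.AA ↔ i ≡ 0 [MOD p] := by
  constructor
  · intro hg
    obtain ⟨j', k', hjk⟩ := (h.mem_AA_iff hp.pos).1 hg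
    rw [nf_eq_form x y z j' k'] at hjk
    exact (h.ind hp hjk).1
  · intro hi
    rw [h.xpow_congr hi, pow_zero, one_mul]
    exact h.nf_mem_AA j k

theorem card_AA [Finite S] (h : FC p n s x y z S) (hp : p.Prime) : Nat.card h.AA = p ^ (n - 1) := by
  have hp0 := hp.pos
  have hm0 : 0 < p ^ (n - 2) := pow_pos hp0 _
  have h1 := card_eq_of_param (H := h.AA) (ι := Fin p × Fin (p ^ (n - 2)))
    (fun t => nf y z (t.1 : ℕ) (t.2 : ℕ)) (fun t => h.nf_mem_AA _ _) ?_ ?_
  · rw [h1, Fintype.card_prod, Fintype.card_fin, Fintype.card_fin, ← pow_succ']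
    congr 1
    have := h.hn
    omega
  · intro g hg
    obtain ⟨j, k, rfl⟩ := (h.mem_AA_iff hp0).1 hg
    exact ⟨(⟨j % p, Nat.mod_lt _ hp0⟩, ⟨k % p ^ (n - 2), Nat.mod_lt _ hm0⟩),
      h.nf_congr (Nat.mod_modEq j p).symm (Nat.mod_modEq k _).symm⟩
  · rintro ⟨⟨j, hj⟩, ⟨k, hk⟩⟩ ⟨⟨j', hj'⟩, ⟨k', hk'⟩⟩ hjk
    simp only at hjk
    rw [nf_eq_form x y z j k, nf_eq_form x y z j' k'] at hjk
    obtain ⟨-, h2, h3⟩ := h.ind hp hjk
    have e1 : j = j' := by
      have := h2
      unfold Nat.ModEq at this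
      rwa [Nat.mod_eq_of_lt hj, Nat.mod_eq_of_lt hj'] at this
    have e2 : k = k' := by
      have := h3
      unfold Nat.ModEq at this
      rwa [Nat.mod_eq_of_lt hk, Nat.mod_eq_of_lt hk'] at this
    subst e1 e2
    rfl

theorem card_S_eq [Finite S] (h : FC p n s x y z S) (hp : p.Prime) :
    Nat.card S = Nat.card h.AA * p := by
  rw [h.card, h.card_AA hp, ← pow_succ]
  congr 1
  have := h.hn
  omega

theorem index_AA [Finite S] (h : FC p n s x y z S) (hp : p.Prime) :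
    (h.AA.subgroupOf S).index = p :=
  (Cfsg.Agent.Lib.Helper87_IndexP.index_subgroupOf_eq_iff h.AA_le).2 (h.card_S_eq hp)

/-! ### special cases of the multiplication law -/

theorem form_mul_z (h : FC p n s x y z S) (i j k : ℕ) :
    (x ^ i * nf y z j k) * z = x ^ i * nf y z j (k + 1) := by
  have h1 := h.mul_law i j k 0 0 1
  have h2 : x ^ 0 * nf y z 0 1 = z := by simp [nf]
  rw [h2] at h1
  rw [h1]
  simp

theorem z_mul_form (h : FC p n s x y z S) (i j k : ℕ) :
    z * (x ^ i * nf y z j k) =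
      x ^ i * nf y z (i + j) (1 + s * p ^ (n - 3) * i.choose 2 + k) := by
  have h1 := h.mul_law 0 0 1 i j k
  have h2 : x ^ 0 * nf y z 0 1 = z := by simp [nf]
  rw [h2] at h1
  rw [h1]
  simp

theorem form_mul_x (h : FC p n s x y z S) (i j k : ℕ) :
    (x ^ i * nf y z j k) * x = x ^ (i + 1) * nf y z (j + k) (k + s * p ^ (n - 3) * j) := by
  have h1 := h.mul_law i j k 1 0 0
  have h2 : x ^ 1 * nf y z 0 0 = x := by simp [nf]
  rw [h2] at h1
  rw [h1]
  simp

theorem x_mul_form (h : FC p n s x y z S) (i j k : ℕ) :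
    x * (x ^ i * nf y z j k) = x ^ (1 + i) * nf y z j k := by
  have h1 := h.mul_law 1 0 0 i j k
  have h2 : x ^ 1 * nf y z 0 0 = x := by simp [nf]
  rw [h2] at h1
  rw [h1]
  simp

/-- `a * (x ^ i * b)` for `a, b ∈ A` -/
theorem nf_mul_form (h : FC p n s x y z S) (j k i j' k' : ℕ) :
    nf y z j k * (x ^ i * nf y z j' k') =
      x ^ i * nf y z (j + i * k + j') (k + s * p ^ (n - 3) * (i * j + i.choose 2 * k) + k') := by
  have h1 := h.mul_law 0 j k i j' k'
  rw [pow_zero, one_mul, zero_add] at h1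
  exact h1

/-- `(x ^ i * a) * b` for `a, b ∈ A` -/
theorem form_mul_nf (h : FC p n s x y z S) (i j k j' k' : ℕ) :
    (x ^ i * nf y z j k) * nf y z j' k' = x ^ i * nf y z (j + j') (k + k') := by
  rw [mul_assoc, h.nf_mul]

/-! ### arithmetic helpers -/

theorem modEq_zero_of_add {m a b : ℕ} (hab : a ≡ b + a [MOD m]) : b ≡ 0 [MOD m] := by
  have h1 : 0 + a ≡ b + a [MOD m] := by rwa [zero_add]
  exact (Nat.ModEq.add_right_cancel' a h1).symm

theorem modEq_zero_of_add' {m a b : ℕ} (hab : a + b ≡ a [MOD m]) : b ≡ 0 [MOD m] := by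
  have h1 : b + a ≡ 0 + a [MOD m] := by rwa [zero_add, add_comm]
  exact Nat.ModEq.add_right_cancel' a h1

/-- `s q t ≡ 0 (mod p^(n-2))` implies `t ≡ 0 (mod p)` -/
theorem dvd_of_sq (h : FC p n s x y z S) (hp : p.Prime) {t : ℕ}
    (ht : s * p ^ (n - 3) * t ≡ 0 [MOD p ^ (n - 2)]) : t ≡ 0 [MOD p] := by
  rw [Nat.modEq_zero_iff_dvd] at ht ⊢
  rw [← h.q_mul_p] at ht
  have h1 : p ^ (n - 3) * p ∣ p ^ (n - 3) * (s * t) := by
    have : s * p ^ (n - 3) * t = p ^ (n - 3) * (s * t) := by ring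
    rwa [this] at ht
  have h2 : p ∣ s * t := Nat.dvd_of_mul_dvd_mul_left (pow_pos hp.pos _) h1
  rcases (Nat.Prime.dvd_mul hp).1 h2 with h3 | h3
  · exact absurd h3 h.hs
  · exact h3

/-! ### the centre -/

theorem central_form (h : FC p n s x y z S) (k' i j k : ℕ) :
    nf y z 0 (p * k') * (x ^ i * nf y z j k) = (x ^ i * nf y z j k) * nf y z 0 (p * k') := by
  rw [h.nf_mul_form, h.form_mul_nf]
  congr 1
  apply h.nf_congr
  · have : 0 + i * (p * k') + j = j + 0 + p * (i * k') := by ring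
    rw [this]
    show (_ + p * _) % p = _ % p
    rw [Nat.add_mul_mod_self_left]
  · have : p * k' + s * p ^ (n - 3) * (i * 0 + i.choose 2 * (p * k')) + k =
        k + p * k' + p ^ (n - 2) * (s * i.choose 2 * k') := by
      rw [← h.q_mul_p]; ring
    rw [this]
    show (_ + p ^ (n - 2) * _) % p ^ (n - 2) = _ % p ^ (n - 2)
    rw [Nat.add_mul_mod_self_left]

theorem mem_center_iff [Finite S] (h : FC p n s x y z S) (hp : p.Prime) {g : Ω} :
    g ∈ S ⊓ Subgroup.centralizer (S : Set Ω) ↔ ∃ k' : ℕ, g = nf y z 0 (p * k') := by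
  constructor
  · intro hg
    obtain ⟨hgS, hgC⟩ := Subgroup.mem_inf.1 hg
    obtain ⟨i, j, k, rfl⟩ := h.exists_form hp.pos hgS
    rw [Subgroup.mem_centralizer_iff] at hgC
    have h1 := hgC z h.mem_z
    rw [h.form_mul_z, h.z_mul_form] at h1
    have hi : i ≡ 0 [MOD p] := modEq_zero_of_add (h.ind hp h1).2.1.symm
    have h2 := hgC x h.mem_x
    rw [h.form_mul_x, h.x_mul_form] at h2
    obtain ⟨-, h3, h4⟩ := h.ind hp h2
    have hk : k ≡ 0 [MOD p] := modEq_zero_of_add' h3.symm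
    have hj : j ≡ 0 [MOD p] := h.dvd_of_sq hp (modEq_zero_of_add' h4.symm)
    obtain ⟨k', hk'⟩ := (Nat.modEq_zero_iff_dvd.1 hk)
    refine ⟨k', ?_⟩
    rw [h.xpow_congr hi, pow_zero, one_mul, ← hk']
    exact h.nf_congr hj (Nat.ModEq.refl _)
  · rintro ⟨k', rfl⟩
    refine Subgroup.mem_inf.2 ⟨h.nf_mem _ _, ?_⟩
    rw [Subgroup.mem_centralizer_iff]
    intro g hg
    obtain ⟨i, j, k, rfl⟩ := h.exists_form hp.pos hg
    exact (h.central_form k' i j k).symm

theorem center_le_AA [Finite S] (h : FC p n s x y z S) (hp : p.Prime) :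
    S ⊓ Subgroup.centralizer (S : Set Ω) ≤ h.AA := by
  intro g hg
  obtain ⟨k', rfl⟩ := (h.mem_center_iff hp).1 hg
  exact h.nf_mem_AA _ _

theorem card_center [Finite S] (h : FC p n s x y z S) (hp : p.Prime) :
    Nat.card ↥(S ⊓ Subgroup.centralizer (S : Set Ω)) = p ^ (n - 3) := by
  have hq0 : 0 < p ^ (n - 3) := pow_pos hp.pos _
  have h1 := card_eq_of_param (H := S ⊓ Subgroup.centralizer (S : Set Ω)) (ι := Fin (p ^ (n - 3)))
    (fun t => nf y z 0 (p * (t : ℕ))) (fun t => (h.mem_center_iff hp).2 ⟨_, rfl⟩) ?_ ?_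
  · rw [h1, Fintype.card_fin]
  · intro g hg
    obtain ⟨k', rfl⟩ := (h.mem_center_iff hp).1 hg
    refine ⟨⟨k' % p ^ (n - 3), Nat.mod_lt _ hq0⟩, ?_⟩
    apply h.nf_congr (Nat.ModEq.refl _)
    rw [← h.q_mul_p, mul_comm (p ^ (n - 3)) p]
    exact Nat.ModEq.mul_left' p (Nat.mod_modEq k' _).symm
  · rintro ⟨k, hk⟩ ⟨k', hk'⟩ hkk
    simp only at hkk
    rw [nf_eq_form x y z, nf_eq_form x y z 0 (p * k')] at hkk
    have h3 := (h.ind hp hkk).2.2
    rw [← h.q_mul_p, mul_comm (p ^ (n - 3)) p] at h3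
    have h4 : k ≡ k' [MOD p ^ (n - 3)] := Nat.ModEq.mul_left_cancel' hp.ne_zero h3
    unfold Nat.ModEq at h4
    rw [Nat.mod_eq_of_lt hk, Nat.mod_eq_of_lt hk'] at h4
    subst h4
    rfl

/-! ### `A` is the unique abelian subgroup of index `p` -/

theorem not_comm [Finite S] (h : FC p n s x y z S) (hp : p.Prime) : ¬ IsMulCommutative ↥S := by
  intro hc
  have h1 : (⟨x, h.mem_x⟩ : ↥S) * ⟨z, h.mem_z⟩ = ⟨z, h.mem_z⟩ * ⟨x, h.mem_x⟩ :=
    hc.is_comm.comm _ _
  have h2 : x * z = z * x := congrArg Subtype.val h1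
  have h3 := h.x_mul_form 0 0 1
  have h4 := h.form_mul_x 0 0 1
  have hz : x ^ 0 * nf y z 0 1 = z := by simp [nf]
  rw [hz] at h3 h4
  rw [h3, h4] at h2
  have h5 := (h.ind hp h2).2.1
  have h6 : (1 : ℕ) ≡ 0 [MOD p] := by simpa using h5.symm
  rw [Nat.modEq_zero_iff_dvd] at h6
  exact hp.one_lt.ne' (Nat.dvd_one.1 h6)

theorem uniq_AA [Finite S] [Fact p.Prime] (h : FC p n s x y z S) (hS : IsPGroup p S)
    (B : Subgroup Ω) (hBS : B ≤ S) (hBc : IsMulCommutative ↥B)
    (hBi : (B.subgroupOf S).index = p) : B = h.AA := by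
  have hp : p.Prime := Fact.out
  by_contra hne
  have hcardB : Nat.card S = Nat.card B * p :=
    (Cfsg.Agent.Lib.Helper87_IndexP.index_subgroupOf_eq_iff hBS).1 hBi
  have hfinA : Finite h.AA :=
    Finite.of_injective (Subgroup.inclusion h.AA_le) (Subgroup.inclusion_injective h.AA_le)
  have hBA : ¬ B ≤ h.AA := by
    intro hle
    apply hne
    apply Subgroup.eq_of_le_of_card_ge hle
    have h1 := h.card_S_eq hp
    rw [hcardB] at h1
    exact (Nat.eq_of_mul_eq_mul_right hp.pos h1).symm.le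
  obtain ⟨b, hbB, hbA⟩ := SetLike.not_le_iff_exists.1 hBA
  obtain ⟨i, j, k, rfl⟩ := h.exists_form hp.pos (hBS hbB)
  have hi : ¬ i ≡ 0 [MOD p] := fun hi => hbA ((h.form_mem_AA_iff hp i j k).2 hi)
  have hle : B ⊓ h.AA ≤ S ⊓ Subgroup.centralizer (S : Set Ω) := by
    intro c hc
    obtain ⟨hcB, hcA⟩ := Subgroup.mem_inf.1 hc
    obtain ⟨j', k', rfl⟩ := (h.mem_AA_iff hp.pos).1 hcA
    have hcomm : nf y z j' k' * (x ^ i * nf y z j k) = (x ^ i * nf y z j k) * nf y z j' k' := by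
      have := hBc.is_comm.comm (⟨_, hcB⟩ : ↥B) ⟨_, hbB⟩
      exact congrArg Subtype.val this
    rw [h.nf_mul_form, h.form_mul_nf] at hcomm
    obtain ⟨-, h1, h2⟩ := h.ind hp hcomm
    have h1' : i * k' ≡ 0 [MOD p] := by
      have : j' + i * k' + j = (j + j') + i * k' := by ring
      rw [this] at h1
      exact modEq_zero_of_add' h1
    have hk' : k' ≡ 0 [MOD p] := by
      rw [Nat.modEq_zero_iff_dvd] at h1' hi ⊢
      rcases (Nat.Prime.dvd_mul hp).1 h1' with h3 | h3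
      · exact absurd h3 hi
      · exact h3
    have h2' : i * j' + i.choose 2 * k' ≡ 0 [MOD p] := by
      apply h.dvd_of_sq hp
      have : k' + s * p ^ (n - 3) * (i * j' + i.choose 2 * k') + k =
          (k + k') + s * p ^ (n - 3) * (i * j' + i.choose 2 * k') := by ring
      rw [this] at h2
      exact modEq_zero_of_add' h2
    have hj' : j' ≡ 0 [MOD p] := by
      rw [Nat.modEq_zero_iff_dvd] at h2' hk' hi ⊢
      have h3 : p ∣ i * j' := (Nat.dvd_add_left (Dvd.dvd.mul_left hk' _)).1 h2'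
      rcases (Nat.Prime.dvd_mul hp).1 h3 with h4 | h4
      · exact absurd h4 hi
      · exact h4
    obtain ⟨t, ht⟩ := Nat.modEq_zero_iff_dvd.1 hk'
    rw [h.mem_center_iff hp]
    refine ⟨t, ?_⟩
    rw [← ht]
    exact h.nf_congr hj' (Nat.ModEq.refl _)
  have hcard1 := Cfsg.Agent.Lib.Helper87_IndexP.card_eq_of_not_le hS h.AA_le hBS (h.card_S_eq hp) hBA
  have hfinZ : Finite ↥(S ⊓ Subgroup.centralizer (S : Set Ω)) :=
    Finite.of_injective (Subgroup.inclusion (inf_le_left : S ⊓ Subgroup.centralizer (S : Set Ω) ≤ S))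
      (Subgroup.inclusion_injective _)
  have hcard2 := Subgroup.card_le_of_le hle
  rw [h.card_center hp] at hcard2
  have h3 : Nat.card B * p = p ^ (n - 3) * p * p * p := by
    rw [← hcardB, h.card, ← pow_succ, ← pow_succ, ← pow_succ]
    congr 1
    have := h.hn
    omega
  have h4 : Nat.card B = p ^ (n - 3) * p * p := Nat.eq_of_mul_eq_mul_right hp.pos h3
  rw [h4] at hcard1
  have h5 : p ^ (n - 3) * p = Nat.card ↥(B ⊓ h.AA) := Nat.eq_of_mul_eq_mul_right hp.pos hcard1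
  rw [← h5] at hcard2
  have hq0 : 0 < p ^ (n - 3) := pow_pos hp.pos _
  have := hp.one_lt
  nlinarith

end FC

end Cfsg.Agent.Lib.Helper45_ResistStruct
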