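import Mathlib
import Cfsg.Agent.Lib.Helper45_ResistStruct2

/-!
# Rank two `p`-groups of Blackburn's third family: exponent map, second centre (helper45)

* `eps`: the `x`-exponent `S → ZMod p`, a homomorphism with kernel `A`.
* the second centre `Z₂(S) = ⟨y, z ^ p⟩`.
-/

set_option autoImplicit false

namespace Cfsg.Agent.Lib.Helper45_ResistStruct

variable {Ω : Type*} [Group Ω]

open Classical in
/-- the `x`-exponent of an element of `S`, as an element of `ZMod p` -/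
noncomputable def eps (p : ℕ) (x y z : Ω) (g : Ω) : ZMod p :=
  if hg : ∃ i j k : ℕ, g = x ^ i * nf y z j k then ((Classical.choose hg : ℕ) : ZMod p) else 0

/-- the second centre, as a subgroup of `Ω` -/
def Z2 (S : Subgroup Ω) : Subgroup Ω := (Subgroup.upperCentralSeries ↥S 2).map S.subtype

theorem mem_Z2_iff (S : Subgroup Ω) {u : Ω} :
    u ∈ Z2 S ↔ u ∈ S ∧ ∀ g ∈ S, u * g * u⁻¹ * g⁻¹ ∈ S ⊓ Subgroup.centralizer (S : Set Ω) := by
  unfold Z2
  have h2 : (2 : ℕ) = 1 + 1 := rfl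
  constructor
  · rintro ⟨u', hu', rfl⟩
    refine ⟨u'.2, fun g hg => ?_⟩
    rw [SetLike.mem_coe, h2, Subgroup.mem_upperCentralSeries_succ_iff] at hu'
    have h1 := hu' ⟨g, hg⟩
    rw [Subgroup.upperCentralSeries_one, Subgroup.mem_center_iff] at h1
    refine Subgroup.mem_inf.2 ⟨?_, ?_⟩
    · exact S.mul_mem (S.mul_mem (S.mul_mem u'.2 hg) (S.inv_mem u'.2)) (S.inv_mem hg)
    · rw [Subgroup.mem_centralizer_iff]
      intro t ht
      have := h1 ⟨t, ht⟩
      exact congrArg Subtype.val this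
  · rintro ⟨huS, hu⟩
    refine ⟨⟨u, huS⟩, ?_, rfl⟩
    rw [SetLike.mem_coe, h2, Subgroup.mem_upperCentralSeries_succ_iff]
    intro g
    rw [Subgroup.upperCentralSeries_one, Subgroup.mem_center_iff]
    intro t
    have := (Subgroup.mem_centralizer_iff.1 (Subgroup.mem_inf.1 (hu g g.2)).2) t t.2
    exact Subtype.ext this


namespace FC

variable {p n s : ℕ} {x y z : Ω} {S : Subgroup Ω}

theorem eps_form [Finite S] (h : FC p n s x y z S) (hp : p.Prime) (i j k : ℕ) :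
    eps p x y z (x ^ i * nf y z j k) = (i : ZMod p) := by
  unfold eps
  have hg : ∃ i' j' k' : ℕ, x ^ i * nf y z j k = x ^ i' * nf y z j' k' := ⟨i, j, k, rfl⟩
  rw [dif_pos hg]
  obtain ⟨j', k', hjk⟩ := Classical.choose_spec hg
  have := (h.ind hp hjk).1
  exact ((ZMod.natCast_eq_natCast_iff _ _ _).2 this).symm

theorem eps_mul [Finite S] (h : FC p n s x y z S) (hp : p.Prime) {g g' : Ω} (hg : g ∈ S)
    (hg' : g' ∈ S) : eps p x y z (g * g') = eps p x y z g + eps p x y z g' := by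
  obtain ⟨i, j, k, rfl⟩ := h.exists_form hp.pos hg
  obtain ⟨i', j', k', rfl⟩ := h.exists_form hp.pos hg'
  rw [h.mul_law, h.eps_form hp, h.eps_form hp, h.eps_form hp]
  push_cast
  rfl

theorem eps_one [Finite S] (h : FC p n s x y z S) (hp : p.Prime) : eps p x y z 1 = 0 := by
  have h1 : (1 : Ω) = x ^ 0 * nf y z 0 0 := by simp [nf]
  rw [h1, h.eps_form hp]
  simp

theorem eps_pow [Finite S] (h : FC p n s x y z S) (hp : p.Prime) {g : Ω} (hg : g ∈ S) (m : ℕ) :
    eps p x y z (g ^ m) = (m : ZMod p) * eps p x y z g := by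
  induction m with
  | zero => simp [h.eps_one hp]
  | succ m ih =>
    rw [pow_succ, h.eps_mul hp (S.pow_mem hg m) hg, ih]
    push_cast
    ring

theorem eps_eq_zero_iff [Finite S] (h : FC p n s x y z S) (hp : p.Prime) {g : Ω} (hg : g ∈ S) :
    eps p x y z g = 0 ↔ g ∈ h.AA := by
  obtain ⟨i, j, k, rfl⟩ := h.exists_form hp.pos hg
  rw [h.eps_form hp, h.form_mem_AA_iff hp, ZMod.natCast_eq_zero_iff, Nat.modEq_zero_iff_dvd]

theorem eps_x [Finite S] (h : FC p n s x y z S) (hp : p.Prime) : eps p x y z x = 1 := by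
  have h1 := h.eps_form hp 1 0 0
  have h2 : x ^ 1 * nf y z 0 0 = x := by simp [nf]
  rw [h2] at h1
  rw [h1]
  simp

/-! ### the second centre -/

theorem comm_eq_of_mul_eq {u g c : Ω} (hc : u * g = g * u * c) (hcc : c * (u⁻¹ * g⁻¹) = (u⁻¹ * g⁻¹) * c) :
    u * g * u⁻¹ * g⁻¹ = c := by
  calc u * g * u⁻¹ * g⁻¹ = g * u * (c * (u⁻¹ * g⁻¹)) := by rw [hc]; group
    _ = c := by rw [hcc]; group

theorem mem_Z2_of_form [Finite S] (h : FC p n s x y z S) (hp : p.Prime) (j k : ℕ) :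
    nf y z j (p * k) ∈ Z2 S := by
  rw [mem_Z2_iff]
  refine ⟨h.nf_mem _ _, fun g hg => ?_⟩
  obtain ⟨i, j', k', rfl⟩ := h.exists_form hp.pos hg
  obtain ⟨c₀, hc₀⟩ := h.dvd_q
  have hc : nf y z j (p * k) * (x ^ i * nf y z j' k') =
      (x ^ i * nf y z j' k') * nf y z j (p * k) *
        nf y z 0 (p * (s * c₀ * (i * j + i.choose 2 * (p * k)))) := by
    rw [h.nf_mul_form, h.form_mul_nf, h.form_mul_nf]
    congr 1
    apply h.nf_congr
    · have : j + i * (p * k) + j' = j' + j + 0 + p * (i * k) := by ring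
      rw [this]
      show (_ + p * _) % p = _ % p
      rw [Nat.add_mul_mod_self_left]
    · have : k' + p * k + p * (s * c₀ * (i * j + i.choose 2 * (p * k))) =
          p * k + s * p ^ (n - 3) * (i * j + i.choose 2 * (p * k)) + k' := by
        rw [hc₀]; ring
      rw [this]
  have hcen : nf y z 0 (p * (s * c₀ * (i * j + i.choose 2 * (p * k)))) ∈
      S ⊓ Subgroup.centralizer (S : Set Ω) := (h.mem_center_iff hp).2 ⟨_, rfl⟩
  have hcc := (Subgroup.mem_centralizer_iff.1 (Subgroup.mem_inf.1 hcen).2)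
    ((nf y z j (p * k))⁻¹ * (x ^ i * nf y z j' k')⁻¹)
    (S.mul_mem (S.inv_mem (h.nf_mem _ _)) (S.inv_mem (h.form_mem _ _ _)))
  rw [comm_eq_of_mul_eq hc hcc.symm]
  exact hcen

theorem form_of_mem_Z2 [Finite S] (h : FC p n s x y z S) (hp : p.Prime) {u : Ω} (hu : u ∈ Z2 S) :
    ∃ j k : ℕ, u = nf y z j (p * k) := by
  rw [mem_Z2_iff] at hu
  obtain ⟨huS, hu⟩ := hu
  obtain ⟨i, j, k, rfl⟩ := h.exists_form hp.pos huS
  -- commutator with `z`
  obtain ⟨t, ht⟩ := (h.mem_center_iff hp).1 (hu z h.mem_z)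
  have h1 : (x ^ i * nf y z j k) * z = nf y z 0 (p * t) * (z * (x ^ i * nf y z j k)) := by
    rw [← ht]; group
  rw [h.form_mul_z, h.z_mul_form, h.nf_mul_form] at h1
  have hi : i ≡ 0 [MOD p] := by
    have h2 := (h.ind hp h1).2.1
    have : 0 + i * (p * t) + (i + j) = j + i + p * (i * t) := by ring
    rw [this] at h2
    have h3 : j + i + p * (i * t) ≡ j + i [MOD p] := by
      show (_ + p * _) % p = _ % p
      rw [Nat.add_mul_mod_self_left]
    exact modEq_zero_of_add' (h2.trans h3).symm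
  -- commutator with `x`
  obtain ⟨t', ht'⟩ := (h.mem_center_iff hp).1 (hu x h.mem_x)
  have h4 : (x ^ i * nf y z j k) * x = nf y z 0 (p * t') * (x * (x ^ i * nf y z j k)) := by
    rw [← ht']; group
  rw [h.form_mul_x, h.x_mul_form, h.nf_mul_form] at h4
  have hk : k ≡ 0 [MOD p] := by
    have h5 := (h.ind hp h4).2.1
    have : 0 + (1 + i) * (p * t') + j = j + p * ((1 + i) * t') := by ring
    rw [this] at h5
    have h6 : j + p * ((1 + i) * t') ≡ j [MOD p] := by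
      show (_ + p * _) % p = _ % p
      rw [Nat.add_mul_mod_self_left]
    exact modEq_zero_of_add' (h5.trans h6)
  obtain ⟨k', hk'⟩ := Nat.modEq_zero_iff_dvd.1 hk
  refine ⟨j, k', ?_⟩
  rw [h.xpow_congr hi, pow_zero, one_mul, hk']

theorem mem_Z2_iff_form [Finite S] (h : FC p n s x y z S) (hp : p.Prime) {u : Ω} :
    u ∈ Z2 S ↔ ∃ j k : ℕ, u = nf y z j (p * k) :=
  ⟨h.form_of_mem_Z2 hp, by rintro ⟨j, k, rfl⟩; exact h.mem_Z2_of_form hp j k⟩

theorem Z2_le_AA [Finite S] (h : FC p n s x y z S) (hp : p.Prime) : Z2 S ≤ h.AA := by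
  intro u hu
  obtain ⟨j, k, rfl⟩ := h.form_of_mem_Z2 hp hu
  exact h.nf_mem_AA _ _

theorem Z2_le [Finite S] (S : Subgroup Ω) : Z2 S ≤ S := fun _ hu => ((mem_Z2_iff S).1 hu).1

theorem center_le_Z2 [Finite S] (h : FC p n s x y z S) (hp : p.Prime) :
    S ⊓ Subgroup.centralizer (S : Set Ω) ≤ Z2 S := by
  intro u hu
  obtain ⟨k, rfl⟩ := (h.mem_center_iff hp).1 hu
  exact h.mem_Z2_of_form hp 0 k

theorem y_mem_Z2 [Finite S] (h : FC p n s x y z S) (hp : p.Prime) : y ∈ Z2 S := by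
  have h1 := h.mem_Z2_of_form hp 1 0
  have h2 : nf y z 1 (p * 0) = y := by simp [nf]
  rwa [h2] at h1

theorem card_Z2 [Finite S] (h : FC p n s x y z S) (hp : p.Prime) : Nat.card (Z2 S) = p ^ (n - 2) := by
  have hp0 := hp.pos
  have hq0 : 0 < p ^ (n - 3) := pow_pos hp0 _
  have h1 := card_eq_of_param (H := Z2 S) (ι := Fin p × Fin (p ^ (n - 3)))
    (fun t => nf y z (t.1 : ℕ) (p * (t.2 : ℕ))) (fun t => h.mem_Z2_of_form hp _ _) ?_ ?_
  · rw [h1, Fintype.card_prod, Fintype.card_fin, Fintype.card_fin, ← pow_succ']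
    congr 1
    have := h.hn
    omega
  · intro g hg
    obtain ⟨j, k, rfl⟩ := h.form_of_mem_Z2 hp hg
    refine ⟨(⟨j % p, Nat.mod_lt _ hp0⟩, ⟨k % p ^ (n - 3), Nat.mod_lt _ hq0⟩), ?_⟩
    apply h.nf_congr (Nat.mod_modEq j p).symm
    rw [← h.q_mul_p, mul_comm (p ^ (n - 3)) p]
    exact Nat.ModEq.mul_left' p (Nat.mod_modEq k _).symm
  · rintro ⟨⟨j, hj⟩, ⟨k, hk⟩⟩ ⟨⟨j', hj'⟩, ⟨k', hk'⟩⟩ hjk
    simp only at hjk
    rw [nf_eq_form x y z j, nf_eq_form x y z j'] at hjk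
    obtain ⟨-, h2, h3⟩ := h.ind hp hjk
    have e1 : j = j' := by
      have := h2
      unfold Nat.ModEq at this
      rwa [Nat.mod_eq_of_lt hj, Nat.mod_eq_of_lt hj'] at this
    rw [← h.q_mul_p, mul_comm (p ^ (n - 3)) p] at h3
    have h4 : k ≡ k' [MOD p ^ (n - 3)] := Nat.ModEq.mul_left_cancel' hp.ne_zero h3
    unfold Nat.ModEq at h4
    rw [Nat.mod_eq_of_lt hk, Nat.mod_eq_of_lt hk'] at h4
    subst e1 h4
    rfl

end FC

end Cfsg.Agent.Lib.Helper45_ResistStruct
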