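import Mathlib
import Cfsg.Agent.Lib.Helper45_ResistStruct3

/-!
# Rank two `p`-groups of Blackburn's third family: injective endomorphisms (helper45)

An injective homomorphism `ψ : S → S` multiplies the `x`-exponent `eps` by some `r` with `r² = 1`.
-/

set_option autoImplicit false

namespace Cfsg.Agent.Lib.Helper45_ResistStruct

variable {Ω : Type*} [Group Ω]

namespace FC

variable {p n s : ℕ} {x y z : Ω} {S : Subgroup Ω}

/-- an injective endomorphism of `S` stabilizes `A` -/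
theorem map_AA [Finite S] [Fact p.Prime] (h : FC p n s x y z S) (hS : IsPGroup p S)
    (ψ : ↥S →* Ω) (hinj : Function.Injective ψ) (hψS : ∀ u : ↥S, ψ u ∈ S) {a : Ω} (ha : a ∈ h.AA) :
    ψ ⟨a, h.AA_le ha⟩ ∈ h.AA := by
  have hp : p.Prime := Fact.out
  set B : Subgroup Ω := (h.AA.subgroupOf S).map ψ with hB
  have hBS : B ≤ S := by
    rintro _ ⟨u, -, rfl⟩
    exact hψS u
  have hBc : IsMulCommutative ↥B := by
    refine ⟨⟨?_⟩⟩
    rintro ⟨_, u, hu, rfl⟩ ⟨_, v, hv, rfl⟩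
    apply Subtype.ext
    show ψ u * ψ v = ψ v * ψ u
    rw [← map_mul, ← map_mul]
    congr 1
    apply Subtype.ext
    have := h.AA_comm.is_comm.comm (⟨u, hu⟩ : ↥h.AA) ⟨v, hv⟩
    have h3 : (u : Ω) * (v : Ω) = (v : Ω) * (u : Ω) := congrArg Subtype.val this
    exact h3
  have hcard : Nat.card B = Nat.card h.AA := by
    rw [hB, Subgroup.card_map_of_injective hinj]
    exact Nat.card_congr (Subgroup.subgroupOfEquivOfLe h.AA_le).toEquiv
  have hBi : (B.subgroupOf S).index = p := by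
    rw [Cfsg.Agent.Lib.Helper87_IndexP.index_subgroupOf_eq_iff hBS, hcard]
    exact h.card_S_eq hp
  have hBA := h.uniq_AA hS B hBS hBc hBi
  rw [← hBA]
  exact ⟨⟨a, h.AA_le ha⟩, ha, rfl⟩

theorem zq_ne_one [Finite S] (h : FC p n s x y z S) (hp : p.Prime) : z ^ p ^ (n - 3) ≠ 1 := by
  intro h1
  have h2 : x ^ 0 * nf y z 0 (p ^ (n - 3)) = x ^ 0 * nf y z 0 0 := by simp [nf, h1]
  have h3 := (h.ind hp h2).2.2
  rw [Nat.modEq_zero_iff_dvd, ← h.q_mul_p] at h3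
  have hq0 : 0 < p ^ (n - 3) := pow_pos hp.pos _
  have h4 := Nat.le_of_dvd hq0 h3
  have := hp.one_lt
  nlinarith

theorem aut_claim [Finite S] [Fact p.Prime] (h : FC p n s x y z S) (hS : IsPGroup p S)
    (ψ : ↥S →* Ω) (hinj : Function.Injective ψ) (hψS : ∀ u : ↥S, ψ u ∈ S) :
    ∃ r : ZMod p, r * r = 1 ∧ ∀ u : ↥S, eps p x y z (ψ u) = r * eps p x y z (u : Ω) := by
  have hp : p.Prime := Fact.out
  obtain ⟨r, j₀, k₀, hX⟩ := h.exists_form hp.pos (hψS ⟨x, h.mem_x⟩)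
  obtain ⟨b, a, hζ⟩ := (h.mem_AA_iff hp.pos).1
    (h.map_AA hS ψ hinj hψS (h.nf_mem_AA 0 1 |> fun t => by simpa [nf] using t : z ∈ h.AA))
  obtain ⟨b', a', hη⟩ := (h.mem_AA_iff hp.pos).1
    (h.map_AA hS ψ hinj hψS (h.nf_mem_AA 1 0 |> fun t => by simpa [nf] using t : y ∈ h.AA))
  have hzS : (⟨z, h.AA_le (h.nf_mem_AA 0 1 |> fun t => by simpa [nf] using t : z ∈ h.AA)⟩ : ↥S) =
      ⟨z, h.mem_z⟩ := rfl
  have hyS : (⟨y, h.AA_le (h.nf_mem_AA 1 0 |> fun t => by simpa [nf] using t : y ∈ h.AA)⟩ : ↥S) =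
      ⟨y, h.mem_y⟩ := rfl
  rw [hzS] at hζ
  rw [hyS] at hη
  -- the first relation
  have hr1 : (⟨z, h.mem_z⟩ : ↥S) * ⟨x, h.mem_x⟩ = ⟨x, h.mem_x⟩ * (⟨y, h.mem_y⟩ * ⟨z, h.mem_z⟩) := by
    apply Subtype.ext
    show z * x = x * (y * z)
    rw [← h.xz]; group
  have hr1' := congrArg ψ hr1
  rw [map_mul, map_mul, map_mul, hX, hζ, hη, h.nf_mul_form, h.nf_mul, h.form_mul_nf] at hr1'
  obtain ⟨-, E1, E2⟩ := h.ind hp hr1'
  -- the second relation
  have hr2 : (⟨y, h.mem_y⟩ : ↥S) * ⟨x, h.mem_x⟩ =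
      ⟨x, h.mem_x⟩ * (⟨y, h.mem_y⟩ * ⟨z, h.mem_z⟩ ^ (s * p ^ (n - 3))) := by
    apply Subtype.ext
    show y * x = x * (y * z ^ (s * p ^ (n - 3)))
    rw [← h.xy]; group
  have hr2' := congrArg ψ hr2
  rw [map_mul, map_mul, map_mul, map_pow, hX, hζ, hη, h.nf_pow, h.nf_mul_form, h.nf_mul,
    h.form_mul_nf] at hr2'
  obtain ⟨-, -, E3⟩ := h.ind hp hr2'
  -- `p ∤ a`
  have ha : ¬ p ∣ a := by
    intro hpa
    have h1 : ψ (⟨z, h.mem_z⟩ ^ p ^ (n - 3)) = 1 := by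
      rw [map_pow, hζ, h.nf_pow]
      have : nf y z (b * p ^ (n - 3)) (a * p ^ (n - 3)) = nf y z 0 0 := by
        apply h.nf_congr
        · rw [Nat.modEq_zero_iff_dvd]
          exact Dvd.dvd.mul_left h.dvd_q _
        · rw [Nat.modEq_zero_iff_dvd, ← h.q_mul_p, mul_comm a]
          exact Nat.mul_dvd_mul_left _ hpa
      rw [this]
      simp [nf]
    have h2 : (⟨z, h.mem_z⟩ : ↥S) ^ p ^ (n - 3) = 1 := hinj (by rw [h1, map_one])
    exact h.zq_ne_one hp (congrArg Subtype.val h2)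
  -- translate to `ZMod p`
  have hq : ((p : ℕ) : ZMod p) ^ (n - 3) = 0 := by
    rw [← Nat.cast_pow]
    exact (ZMod.natCast_eq_zero_iff _ _).2 h.dvd_q
  have F1 : (b' : ZMod p) = (r : ZMod p) * (a : ZMod p) := by
    have := (ZMod.natCast_eq_natCast_iff _ _ _).2 E1
    push_cast at this
    linear_combination -this
  have F2 : (a' : ZMod p) = 0 := by
    have E2' : a + s * p ^ (n - 3) * (r * b + r.choose 2 * a) + k₀ ≡ k₀ + (a' + a) [MOD p] :=
      Nat.ModEq.of_dvd (dvd_pow_self p (by have := h.hn; omega)) E2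
    have := (ZMod.natCast_eq_natCast_iff _ _ _).2 E2'
    push_cast at this
    rw [hq] at this
    linear_combination -this
  have F3 : (s : ZMod p) * ((r : ZMod p) * (b' : ZMod p) + (r.choose 2 : ZMod p) * (a' : ZMod p)) =
      (a : ZMod p) * (s : ZMod p) := by
    have h1 : (a' + k₀) + p ^ (n - 3) * (s * (r * b' + r.choose 2 * a')) ≡
        (a' + k₀) + p ^ (n - 3) * (a * s) [MOD p ^ (n - 3) * p] := by
      rw [h.q_mul_p]
      have e1 : a' + k₀ + p ^ (n - 3) * (s * (r * b' + r.choose 2 * a')) =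
          a' + s * p ^ (n - 3) * (r * b' + r.choose 2 * a') + k₀ := by ring
      have e2 : a' + k₀ + p ^ (n - 3) * (a * s) = k₀ + (a' + a * (s * p ^ (n - 3))) := by ring
      rw [e1, e2]
      exact E3
    have h2 := Nat.ModEq.mul_left_cancel' (pow_pos hp.pos _).ne' (Nat.ModEq.add_left_cancel' _ h1)
    have := (ZMod.natCast_eq_natCast_iff _ _ _).2 h2
    push_cast at this
    exact this
  have hs0 : (s : ZMod p) ≠ 0 := by
    rw [Ne, ZMod.natCast_eq_zero_iff]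
    exact h.hs
  have ha0 : (a : ZMod p) ≠ 0 := by
    rw [Ne, ZMod.natCast_eq_zero_iff]
    exact ha
  have hrr : (r : ZMod p) * (r : ZMod p) = 1 := by
    rw [F1, F2] at F3
    have h1 : ((r : ZMod p) * (r : ZMod p) - 1) * ((s : ZMod p) * (a : ZMod p)) = 0 := by
      linear_combination F3
    rcases mul_eq_zero.1 h1 with h2 | h2
    · linear_combination h2
    · exact absurd h2 (mul_ne_zero hs0 ha0)
  refine ⟨(r : ZMod p), hrr, ?_⟩
  rintro ⟨u, hu⟩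
  obtain ⟨i, j, k, rfl⟩ := h.exists_form hp.pos hu
  have h1 : (⟨x ^ i * nf y z j k, hu⟩ : ↥S) = ⟨x, h.mem_x⟩ ^ i * ⟨nf y z j k, h.nf_mem j k⟩ := by
    apply Subtype.ext
    rfl
  have h2 : eps p x y z (ψ ⟨nf y z j k, h.nf_mem j k⟩) = 0 :=
    (h.eps_eq_zero_iff hp (hψS _)).2 (h.map_AA hS ψ hinj hψS (h.nf_mem_AA j k))
  have h3 : ψ ⟨x ^ i * nf y z j k, hu⟩ =
      ψ ⟨x, h.mem_x⟩ ^ i * ψ ⟨nf y z j k, h.nf_mem j k⟩ := by
    rw [h1, map_mul, map_pow]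
  show eps p x y z (ψ ⟨x ^ i * nf y z j k, hu⟩) = (r : ZMod p) * eps p x y z (x ^ i * nf y z j k)
  rw [h3, h.eps_mul hp (S.pow_mem (hψS _) _) (hψS _), h.eps_pow hp (hψS _), h2, hX,
    h.eps_form hp, h.eps_form hp]
  ring

end FC

end Cfsg.Agent.Lib.Helper45_ResistStruct
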