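import Mathlib
import Cfsg.Agent.Lib.Helper20_PGroupOdd
import Cfsg.Agent.Lib.Helper45_ResistStruct4

/-!
# Rank two `p`-groups of Blackburn's third family: the subgroups `Z₂(S)⟨g⟩` (helper45)

For `g ∈ S` outside `A`, the subgroup `P = Z₂(S)⟨g⟩` has centre `Z(S)`, `P / Z(S)` is elementary abelian of
order `p²`, `P ∩ A = Z₂(S)`.
-/

set_option autoImplicit false

namespace Cfsg.Agent.Lib.Helper45_ResistStruct

variable {Ω : Type*} [Group Ω]

theorem conj_mem_Z2 {S : Subgroup Ω} {t u : Ω} (ht : t ∈ S) (hu : u ∈ Z2 S) : t * u * t⁻¹ ∈ Z2 S := by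
  unfold Z2 at hu ⊢
  rw [Subgroup.mem_map] at hu ⊢
  obtain ⟨u', hu', hu'u⟩ := hu
  have hn : (Subgroup.upperCentralSeries ↥S 2).Normal := inferInstance
  have h1 := hn.conj_mem u' hu' ⟨t, ht⟩
  refine ⟨_, h1, ?_⟩
  rw [← hu'u]
  simp

theorem mem_normalizer_Z2 {S : Subgroup Ω} {t : Ω} (ht : t ∈ S) :
    t ∈ Subgroup.normalizer (Z2 S : Set Ω) := by
  rw [Subgroup.mem_normalizer_iff]
  intro u
  constructor
  · exact conj_mem_Z2 ht
  · intro hu
    have := conj_mem_Z2 (S.inv_mem ht) hu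
    have e : t⁻¹ * (t * u * t⁻¹) * t⁻¹⁻¹ = u := by group
    rwa [e] at this

/-- an element normalizing a finite subgroup into itself normalizes it -/
theorem mem_normalizer_of_conj_mem {P : Subgroup Ω} [Finite P] {t : Ω}
    (h : ∀ a ∈ P, t * a * t⁻¹ ∈ P) : t ∈ Subgroup.normalizer (P : Set Ω) := by
  rw [Subgroup.mem_normalizer_iff]
  intro a
  refine ⟨h a, fun ha => ?_⟩
  let f : ↥P → ↥P := fun b => ⟨t * b * t⁻¹, h b b.2⟩
  have hf : Function.Injective f := by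
    intro b c hbc
    have : t * (b : Ω) * t⁻¹ = t * (c : Ω) * t⁻¹ := congrArg Subtype.val hbc
    exact Subtype.ext (mul_left_cancel (mul_right_cancel this))
  obtain ⟨b, hb⟩ := (Finite.injective_iff_surjective.1 hf) ⟨t * a * t⁻¹, ha⟩
  have : t * (b : Ω) * t⁻¹ = t * a * t⁻¹ := congrArg Subtype.val hb
  have e : (b : Ω) = a := mul_left_cancel (mul_right_cancel this)
  rw [← e]
  exact b.2

namespace FC

variable {p n s : ℕ} {x y z : Ω} {S : Subgroup Ω}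

/-- the data of helper87's `AbIdx` -/
theorem abIdx [Finite S] [Fact p.Prime] (h : FC p n s x y z S) (hS : IsPGroup p S) :
    Cfsg.Agent.Lib.Helper87_IndexP.AbIdx p S h.AA := by
  have hp : p.Prime := Fact.out
  refine ⟨h.AA_le, ?_, h.card_S_eq hp, ?_, ?_⟩
  · intro a ha b hb
    have := h.AA_comm.is_comm.comm (⟨a, ha⟩ : ↥h.AA) ⟨b, hb⟩
    exact congrArg Subtype.val this
  · by_contra hcon
    push Not at hcon
    apply h.not_comm hp
    exact ⟨⟨fun a b => Subtype.ext (hcon a a.2 b b.2)⟩⟩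
  · intro B hB hab hc
    exact h.uniq_AA hS B hB ⟨⟨fun a b => Subtype.ext (hab a a.2 b b.2)⟩⟩
      ((Cfsg.Agent.Lib.Helper87_IndexP.index_subgroupOf_eq_iff hB).2 hc)

/-- the commutator of an element of `Z₂(S)` with an element of `S` -/
theorem Z2_comm_form (h : FC p n s x y z S) (j k i j' k' : ℕ) :
    nf y z j (p * k) * (x ^ i * nf y z j' k') =
      (x ^ i * nf y z j' k') * nf y z j (p * k) *
        nf y z 0 (p ^ (n - 3) * (s * (i * j + i.choose 2 * (p * k)))) := by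
  rw [h.nf_mul_form, h.form_mul_nf, h.form_mul_nf]
  congr 1
  apply h.nf_congr
  · have : j + i * (p * k) + j' = j' + j + 0 + p * (i * k) := by ring
    rw [this]
    show (_ + p * _) % p = _ % p
    rw [Nat.add_mul_mod_self_left]
  · have : k' + p * k + p ^ (n - 3) * (s * (i * j + i.choose 2 * (p * k))) =
        p * k + s * p ^ (n - 3) * (i * j + i.choose 2 * (p * k)) + k' := by ring
    rw [this]

theorem nf_q_mem_center [Finite S] (h : FC p n s x y z S) (hp : p.Prime) (e : ℕ) :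
    nf y z 0 (p ^ (n - 3) * e) ∈ S ⊓ Subgroup.centralizer (S : Set Ω) := by
  obtain ⟨c₀, hc₀⟩ := h.dvd_q
  rw [h.mem_center_iff hp]
  exact ⟨c₀ * e, by rw [hc₀, mul_assoc]⟩

theorem nf_q_pow (h : FC p n s x y z S) (e : ℕ) : (nf y z 0 (p ^ (n - 3) * e)) ^ p = 1 := by
  rw [h.nf_pow]
  have : nf y z (0 * p) (p ^ (n - 3) * e * p) = nf y z 0 0 := by
    apply h.nf_congr
    · rw [zero_mul]
    · rw [Nat.modEq_zero_iff_dvd, ← h.q_mul_p]
      exact ⟨e, by ring⟩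
  rw [this, nf_zero]

theorem central_comm {S : Subgroup Ω} {c t : Ω} (hc : c ∈ S ⊓ Subgroup.centralizer (S : Set Ω))
    (ht : t ∈ S) : t * c = c * t :=
  Subgroup.mem_centralizer_iff.1 (Subgroup.mem_inf.1 hc).2 t ht

/-! ### the subgroup `Z₂(S)⟨g⟩` for `g ∉ A` -/

section PP

variable [Finite S] [Fact p.Prime] (h : FC p n s x y z S) {g : Ω}

theorem eps_g_ne (hg : g ∈ S) (hgA : g ∉ h.AA) : eps p x y z g ≠ 0 := fun h0 =>
  hgA ((h.eps_eq_zero_iff Fact.out hg).1 h0)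

theorem dvd_of_eps_mul (hg : g ∈ S) (hgA : g ∉ h.AA) {l : ℕ} (hl : (l : ZMod p) * eps p x y z g = 0) : p ∣ l := by
  rcases mul_eq_zero.1 hl with h1 | h1
  · exact (ZMod.natCast_eq_zero_iff _ _).1 h1
  · exact absurd h1 (h.eps_g_ne hg hgA)


theorem g_pow_p_center (hS : IsPGroup p S) (hg : g ∈ S) (hgA : g ∉ h.AA) : g ^ p ∈ S ⊓ Subgroup.centralizer (S : Set Ω) := by
  have hp : p.Prime := Fact.out
  have h1 : g ^ p ∈ h.AA := by
    rw [← h.eps_eq_zero_iff hp (S.pow_mem hg p), h.eps_pow hp hg]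
    simp
  exact (h.abIdx hS).mem_center_of_comm hp hg hgA h1 (by rw [← pow_succ, ← pow_succ'])

theorem g_pow_center (hS : IsPGroup p S) (hg : g ∈ S) (hgA : g ∉ h.AA) {l : ℕ} (hl : p ∣ l) : g ^ l ∈ S ⊓ Subgroup.centralizer (S : Set Ω) := by
  obtain ⟨l', rfl⟩ := hl
  rw [pow_mul]
  exact Subgroup.pow_mem _ (h.g_pow_p_center hS hg hgA) l'

omit [Fact p.Prime] in
theorem exists_PP_form (hg : g ∈ S) {u : Ω} (hu : u ∈ Z2 S ⊔ Subgroup.zpowers g) :
    ∃ v ∈ Z2 S, ∃ l : ℕ, u = v * g ^ l := by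
  have hle : Subgroup.zpowers g ≤ Subgroup.normalizer (Z2 S : Set Ω) :=
    Subgroup.zpowers_le.2 (mem_normalizer_Z2 hg)
  have h1 := Subgroup.coe_mul_of_right_le_normalizer_left (Z2 S) (Subgroup.zpowers g) hle
  have h2 : u ∈ ((Z2 S ⊔ Subgroup.zpowers g : Subgroup Ω) : Set Ω) := hu
  rw [h1] at h2
  obtain ⟨v, hv, w, hw, rfl⟩ := Set.mem_mul.1 h2
  have hfo : IsOfFinOrder g := by
    rw [isOfFinOrder_iff_pow_eq_one]
    refine ⟨Nat.card S, Nat.card_pos, ?_⟩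
    have := pow_card_eq_one' (G := ↥S) (x := ⟨g, hg⟩)
    exact congrArg Subtype.val this
  obtain ⟨l, rfl⟩ := (Submonoid.mem_powers_iff _ _).1 (hfo.mem_powers_iff_mem_zpowers.2 hw)
  exact ⟨v, hv, l, rfl⟩

theorem PP_inf_AA (hS : IsPGroup p S) (hg : g ∈ S) (hgA : g ∉ h.AA) {u : Ω} (hu : u ∈ Z2 S ⊔ Subgroup.zpowers g) (huA : u ∈ h.AA) : u ∈ Z2 S := by
  have hp : p.Prime := Fact.out
  obtain ⟨v, hv, l, rfl⟩ := exists_PP_form hg hu
  have hvA : v ∈ h.AA := h.Z2_le_AA hp hv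
  have h1 : eps p x y z (v * g ^ l) = 0 :=
    (h.eps_eq_zero_iff hp (S.mul_mem (h.AA_le hvA) (S.pow_mem hg l))).2 huA
  rw [h.eps_mul hp (h.AA_le hvA) (S.pow_mem hg l), (h.eps_eq_zero_iff hp (h.AA_le hvA)).2 hvA,
    h.eps_pow hp hg, zero_add] at h1
  have h2 := h.g_pow_center hS hg hgA (h.dvd_of_eps_mul hg hgA h1)
  exact Subgroup.mul_mem _ hv (h.center_le_Z2 hp h2)

omit [Finite S] [Fact p.Prime] in
theorem g_mem_PP (S : Subgroup Ω) (g : Ω) : g ∈ Z2 S ⊔ Subgroup.zpowers g :=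
  (le_sup_right : Subgroup.zpowers g ≤ _) (Subgroup.mem_zpowers g)

theorem y_mem_PP (h' : FC p n s x y z S) (g : Ω) : y ∈ Z2 S ⊔ Subgroup.zpowers g :=
  (le_sup_left : Z2 S ≤ _) (h'.y_mem_Z2 Fact.out)

/-- the commutator of `y` and `g` -/
theorem comm_y_g (hg : g ∈ S) (hgA : g ∉ h.AA) : ∃ e : ℕ, y * g * y⁻¹ * g⁻¹ = nf y z 0 (p ^ (n - 3) * e) ∧
    nf y z 0 (p ^ (n - 3) * e) ≠ 1 := by
  have hp : p.Prime := Fact.out
  obtain ⟨m, j₀, k₀, rfl⟩ := h.exists_form hp.pos hg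
  have hm : ¬ m ≡ 0 [MOD p] := fun hm => hgA ((h.form_mem_AA_iff hp m j₀ k₀).2 hm)
  have h1 := h.Z2_comm_form 1 0 m j₀ k₀
  have hy : nf y z 1 (p * 0) = y := by simp [nf]
  rw [hy] at h1
  refine ⟨s * (m * 1 + m.choose 2 * (p * 0)), ?_, ?_⟩
  · apply comm_eq_of_mul_eq h1
    have hc := h.nf_q_mem_center hp (s * (m * 1 + m.choose 2 * (p * 0)))
    exact (central_comm hc (S.mul_mem (S.inv_mem h.mem_y) (S.inv_mem (h.form_mem _ _ _)))).symm
  · intro h2
    have h3 : x ^ 0 * nf y z 0 (p ^ (n - 3) * (s * (m * 1 + m.choose 2 * (p * 0)))) =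
        x ^ 0 * nf y z 0 0 := by rw [h2, nf_zero]
    have h4 := (h.ind hp h3).2.2
    have h5 : s * p ^ (n - 3) * m ≡ 0 [MOD p ^ (n - 2)] := by
      have : p ^ (n - 3) * (s * (m * 1 + m.choose 2 * (p * 0))) = s * p ^ (n - 3) * m := by ring
      rwa [this] at h4
    exact hm (h.dvd_of_sq hp h5)

/-- the centre of `Z₂(S)⟨g⟩` is `Z(S)` -/
theorem PP_center (hS : IsPGroup p S) (hg : g ∈ S) (hgA : g ∉ h.AA) {a : Ω} (ha : a ∈ Z2 S ⊔ Subgroup.zpowers g)
    (hac : ∀ b ∈ Z2 S ⊔ Subgroup.zpowers g, a * b = b * a) :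
    a ∈ S ⊓ Subgroup.centralizer (S : Set Ω) := by
  have hp : p.Prime := Fact.out
  obtain ⟨v, hv, l, rfl⟩ := exists_PP_form hg ha
  have hvA : v ∈ h.AA := h.Z2_le_AA hp hv
  -- `g ^ l` commutes with `y`
  have h1 : g ^ l * y = y * g ^ l := by
    have h2 := hac y (h.y_mem_PP g)
    have h3 : v * y = y * v := (h.abIdx hS).ab v hvA y (h.Z2_le_AA hp (h.y_mem_Z2 hp))
    have h4 : v * (g ^ l * y) = v * (y * g ^ l) := by
      calc v * (g ^ l * y) = v * g ^ l * y := by group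
        _ = y * (v * g ^ l) := h2
        _ = (y * v) * g ^ l := by group
        _ = (v * y) * g ^ l := by rw [h3]
        _ = v * (y * g ^ l) := by group
    exact mul_left_cancel h4
  obtain ⟨i', j', k', ht⟩ := h.exists_form hp.pos (S.pow_mem hg l)
  have hy : y = nf y z 1 0 := by simp [nf]
  have h5 : (x ^ i' * nf y z j' k') * nf y z 1 0 = nf y z 1 0 * (x ^ i' * nf y z j' k') := by
    rw [← ht, ← hy]; exact h1
  rw [h.form_mul_nf, h.nf_mul_form] at h5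
  have h6 := (h.ind hp h5).2.2
  have hi' : i' ≡ 0 [MOD p] := by
    apply h.dvd_of_sq hp
    have : 0 + s * p ^ (n - 3) * (i' * 1 + i'.choose 2 * 0) + k' = (k' + 0) + s * p ^ (n - 3) * i' := by
      ring
    rw [this] at h6
    exact modEq_zero_of_add' h6.symm
  have h7 : eps p x y z (g ^ l) = 0 := by
    rw [ht, h.eps_form hp, ZMod.natCast_eq_zero_iff]
    exact Nat.modEq_zero_iff_dvd.1 hi'
  rw [h.eps_pow hp hg] at h7
  have hgl := h.g_pow_center hS hg hgA (h.dvd_of_eps_mul hg hgA h7)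
  -- now `a ∈ Z₂(S)`
  have haZ2 : v * g ^ l ∈ Z2 S := Subgroup.mul_mem _ hv (h.center_le_Z2 hp hgl)
  obtain ⟨j'', k'', hjk⟩ := h.form_of_mem_Z2 hp haZ2
  rw [hjk] at hac ⊢
  obtain ⟨m, j₀, k₀, rfl⟩ := h.exists_form hp.pos hg
  have hm : ¬ m ≡ 0 [MOD p] := fun hm => hgA ((h.form_mem_AA_iff hp m j₀ k₀).2 hm)
  have h8 := h.Z2_comm_form j'' k'' m j₀ k₀
  rw [hac _ (g_mem_PP S _)] at h8
  have h9 : nf y z 0 (p ^ (n - 3) * (s * (m * j'' + m.choose 2 * (p * k'')))) = 1 := by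
    have := mul_left_cancel (a := x ^ m * nf y z j₀ k₀ * nf y z j'' (p * k'')) (b := 1)
      (c := nf y z 0 (p ^ (n - 3) * (s * (m * j'' + m.choose 2 * (p * k''))))) (by rw [mul_one]; exact h8)
    exact this.symm
  have h10 : x ^ 0 * nf y z 0 (p ^ (n - 3) * (s * (m * j'' + m.choose 2 * (p * k'')))) =
      x ^ 0 * nf y z 0 0 := by rw [h9, nf_zero]
  have h11 := (h.ind hp h10).2.2
  have h12 : m * j'' + m.choose 2 * (p * k'') ≡ 0 [MOD p] := by
    apply h.dvd_of_sq hp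
    have : p ^ (n - 3) * (s * (m * j'' + m.choose 2 * (p * k''))) =
        s * p ^ (n - 3) * (m * j'' + m.choose 2 * (p * k'')) := by ring
    rwa [this] at h11
  have hj'' : j'' ≡ 0 [MOD p] := by
    rw [Nat.modEq_zero_iff_dvd] at h12 hm ⊢
    have h13 : p ∣ m * j'' :=
      (Nat.dvd_add_left (Dvd.dvd.mul_left (Dvd.intro _ rfl) _)).1 h12
    rcases (Nat.Prime.dvd_mul hp).1 h13 with h14 | h14
    · exact absurd h14 hm
    · exact h14
  rw [h.mem_center_iff hp]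
  exact ⟨k'', h.nf_congr hj'' (Nat.ModEq.refl _)⟩

/-- `p`-th powers of elements of `Z₂(S)⟨g⟩` are central -/
theorem PP_pow_p (hS : IsPGroup p S) (hg : g ∈ S) (hgA : g ∉ h.AA) {a : Ω} (ha : a ∈ Z2 S ⊔ Subgroup.zpowers g) :
    a ^ p ∈ S ⊓ Subgroup.centralizer (S : Set Ω) := by
  have hp : p.Prime := Fact.out
  have hp2 : p ≠ 2 := by have := h.hp5; omega
  obtain ⟨v, hv, l, rfl⟩ := exists_PP_form hg ha
  obtain ⟨j, k, rfl⟩ := h.form_of_mem_Z2 hp hv
  obtain ⟨i', j', k', ht⟩ := h.exists_form hp.pos (S.pow_mem hg l)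
  have h1 := h.Z2_comm_form j k i' j' k'
  rw [← ht] at h1
  set c := nf y z 0 (p ^ (n - 3) * (s * (i' * j + i'.choose 2 * (p * k)))) with hc
  have hcc : c ∈ S ⊓ Subgroup.centralizer (S : Set Ω) := h.nf_q_mem_center hp _
  have hcp : c ^ p = 1 := h.nf_q_pow _
  have hvS : nf y z j (p * k) ∈ S := h.nf_mem _ _
  have htS : g ^ l ∈ S := S.pow_mem hg l
  have hcv : nf y z j (p * k) * c = c * nf y z j (p * k) := central_comm hcc hvS
  have hct : g ^ l * c = c * g ^ l := central_comm hcc htS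
  have h2 : g ^ l * nf y z j (p * k) = c⁻¹ * nf y z j (p * k) * g ^ l := by
    have hcgv : g ^ l * nf y z j (p * k) * c = c * (g ^ l * nf y z j (p * k)) :=
      central_comm hcc (S.mul_mem htS hvS)
    rw [mul_assoc c⁻¹, h1, hcgv, inv_mul_cancel_left]
  have h3 := Cfsg.Agent.Lib.Helper20_PGroupOdd.mul_pow_prime_of_comm hp hp2 h2
    (show Commute c⁻¹ (nf y z j (p * k)) from (Commute.inv_left (show Commute c _ from hcv.symm)))
    (show Commute c⁻¹ (g ^ l) from (Commute.inv_left (show Commute c _ from hct.symm)))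
    (by rw [inv_pow, hcp, inv_one])
  rw [h3]
  apply Subgroup.mul_mem
  · rw [h.nf_pow, h.mem_center_iff hp]
    refine ⟨k * p, h.nf_congr ?_ (by rw [mul_assoc])⟩
    rw [Nat.modEq_zero_iff_dvd]
    exact Dvd.intro_left _ rfl
  · rw [← pow_mul, mul_comm, pow_mul]
    exact Subgroup.pow_mem _ (h.g_pow_p_center hS hg hgA) l

end PP

end FC

end Cfsg.Agent.Lib.Helper45_ResistStruct
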