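import Mathlib
import Cfsg.Prelude.Def_FusionSystem
import Cfsg.Agent.S5087
import Cfsg.Agent.S5187
import Cfsg.Agent.Lib.Helper13_FratBound
import Cfsg.Agent.Lib.Helper84_Fusion
import Cfsg.Agent.Lib.Helper88_Essential

/-!
# Resistance of rank two `p`-groups, `p ≥ 5`: generic fusion lemmas (helper45)

* `isNormal_of_no_essential`: a saturated fusion system without essential subgroups has `S` normal.
* `two_gen_comm`: an essential subgroup generated by two commuting elements is elementary abelian
  of order `p ^ 2` (for `p ≥ 5`).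
* `center_le_of_isEssential`: essential subgroups contain `Z(S)`.
-/

set_option autoImplicit false

namespace Cfsg.Agent.Lib.Helper45_ResistCore

open Cfsg Cfsg.FusionSystem

variable {Ω : Type*} [Group Ω] {S : Subgroup Ω}

theorem isNormal_of_no_essential [Finite S] (p : ℕ) [Fact p.Prime] (hS : IsPGroup p S)
    (F : FusionSystem S) (hF : F.IsSaturated p) (h : ∀ P : Subgroup Ω, ¬ F.IsEssential p P) :
    F.IsNormal S := by
  rw [Cfsg.Agent.S5087.result p hS F hF S]
  intro P hP
  rcases hP with hP | hP
  · subst hP
    refine ⟨le_rfl, fun α _ => ?_⟩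
    rw [Subgroup.subgroupOf_self]
    exact Subgroup.map_top_of_surjective _ α.surjective
  · exact absurd hP (h P)

theorem center_le_of_isEssential {p : ℕ} (F : FusionSystem S) {P : Subgroup Ω}
    (hP : F.IsEssential p P) : S ⊓ Subgroup.centralizer (S : Set Ω) ≤ P := by
  have hPS : P ≤ S := hP.1.1
  have h1 : centralizerIn S P ≤ P := hP.1.2 P (Cfsg.Agent.Lib.Helper84_Fusion.isConj_refl F hPS)
  refine le_trans ?_ h1
  exact inf_le_inf_left S (Subgroup.centralizer_le hPS)

theorem two_gen_comm [Finite S] (p : ℕ) [Fact p.Prime] (hS : IsPGroup p S)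
    (F : FusionSystem S) (hF : F.IsSaturated p) (hp : 5 ≤ p)
    (P : Subgroup Ω) (hP : F.IsEssential p P) (k g : Ω) (hkg : k * g = g * k)
    (hPkg : P = Subgroup.zpowers k ⊔ Subgroup.zpowers g) :
    IsElementaryAbelian p P ∧ Nat.card P = p ^ 2 := by
  have hPS : P ≤ S := hP.1.1
  have hfin : Finite P := Finite.of_injective (Subgroup.inclusion hPS) (Subgroup.inclusion_injective hPS)
  have hPp : IsPGroup p P := hS.to_le hPS
  have hcl : P = Subgroup.closure {k, g} := by
    rw [hPkg, Subgroup.zpowers_eq_closure, Subgroup.zpowers_eq_closure, ← Subgroup.closure_union,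
      Set.singleton_union]
  have hab : IsMulCommutative ↥P := by
    rw [hcl]
    apply Subgroup.isMulCommutative_closure
    intro a ha b hb
    simp only [Set.mem_insert_iff, Set.mem_singleton_iff] at ha hb
    rcases ha with rfl | rfl <;> rcases hb with rfl | rfl
    · rfl
    · exact hkg
    · exact hkg.symm
    · rfl
  have hk : k ∈ P := by rw [hcl]; exact Subgroup.subset_closure (by simp)
  have hg : g ∈ P := by rw [hcl]; exact Subgroup.subset_closure (by simp)
  have hfr : (frattini ↥P).index ≤ p ^ 2 := by
    let K : Subgroup ↥P := Subgroup.zpowers ⟨k, hk⟩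
    have hKn : K.Normal := by
      constructor
      intro n hn a
      rw [hab.is_comm.comm a n, mul_inv_cancel_right]
      exact hn
    have hcyc : IsCyclic (↥P ⧸ K) := by
      rw [isCyclic_iff_exists_zpowers_eq_top]
      refine ⟨QuotientGroup.mk' K ⟨g, hg⟩, ?_⟩
      rw [eq_top_iff]
      rintro q -
      obtain ⟨a, rfl⟩ := QuotientGroup.mk'_surjective K q
      let M : Subgroup ↥P := (Subgroup.zpowers (QuotientGroup.mk' K ⟨g, hg⟩)).comap (QuotientGroup.mk' K)
      have hle : P ≤ M.map P.subtype := by
        conv_lhs => rw [hcl]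
        rw [Subgroup.closure_le]
        intro b hb
        simp only [Set.mem_insert_iff, Set.mem_singleton_iff] at hb
        rcases hb with rfl | rfl
        · refine ⟨⟨b, hk⟩, ?_, rfl⟩
          show QuotientGroup.mk' K ⟨b, hk⟩ ∈ Subgroup.zpowers _
          have : QuotientGroup.mk' K ⟨b, hk⟩ = 1 := by
            rw [QuotientGroup.mk'_apply, QuotientGroup.eq_one_iff]
            exact Subgroup.mem_zpowers _
          rw [this]
          exact Subgroup.one_mem _
        · exact ⟨⟨b, hg⟩, Subgroup.mem_zpowers _, rfl⟩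
      obtain ⟨b, hb, hba⟩ := hle a.2
      have : b = a := Subtype.ext hba
      rw [← this]
      exact hb
    have h1 := Cfsg.Agent.Lib.Helper13_FratBound.frattini_index_le_mul hPp K
    have hK : IsPGroup p K := hPp.to_subgroup K
    have hQ : IsPGroup p (↥P ⧸ K) := hPp.to_quotient K
    have h2 : (frattini (↥P ⧸ K)).index ≤ p :=
      Cfsg.Agent.Lib.Helper13_FratBound.frattini_index_le_of_isCyclic hQ
    have h3 : (frattini ↥K).index ≤ p :=
      Cfsg.Agent.Lib.Helper13_FratBound.frattini_index_le_of_isCyclic hK
    calc (frattini ↥P).index ≤ _ := h1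
      _ ≤ p * p := Nat.mul_le_mul h2 h3
      _ = p ^ 2 := by ring
  rcases Cfsg.Agent.S5187.result p hS F hF P hP hab hfr with h | h
  · exact h
  · omega

end Cfsg.Agent.Lib.Helper45_ResistCore
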