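import Mathlib
import Cfsg.Agent.S5185

/-!
# The torus element of `SL₂(p)` inside a subgroup of `Aut(V)`, `|V| = p²` (helper45)

Let `V` be elementary abelian of order `p²`, `Q1 ≤ Aut(V)` a `p`-subgroup and `u2 ∈ Aut(V)` of `p`-power
order such that `⟨Q1, u2⟩` is not a `p`-group. Then `⟨Q1, u2⟩` contains the image of `SL₂(p)` with respect
to a basis `e1, e2` with `e1` fixed by `Q1`; in particular it contains the diagonal elements
`e1 ↦ e1 ^ d`, `e2 ↦ e2 ^ d'` (`d d' ≡ 1`), which normalize `Q1`.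
Built on helper85's `S5185` machinery.
-/

set_option autoImplicit false

namespace Cfsg.Agent.Lib.Helper45_ResistTorus

open Cfsg.Agent.S5185

variable {p : ℕ} [Fact p.Prime] {V : Type*} [CommGroup V]

/-- the diagonal matrix `diag(d, d')` of determinant one -/
def dg (d d' : ZMod p) (h : d * d' = 1) : Matrix.SpecialLinearGroup (Fin 2) (ZMod p) :=
  ⟨!![d, 0; 0, d'], by rw [Matrix.det_fin_two_of]; simp [h]⟩

omit [Fact p.Prime] in
theorem isPGroup_zpowers {X : Type*} [Group X] {u : X} {k : ℕ} (h : u ^ (p ^ k) = 1) :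
    IsPGroup p (Subgroup.zpowers u) := by
  rintro ⟨y, hy⟩
  obtain ⟨n, rfl⟩ := Subgroup.mem_zpowers_iff.1 hy
  refine ⟨k, Subtype.ext ?_⟩
  show (u ^ n) ^ (p ^ k) = 1
  rw [← zpow_natCast, ← zpow_mul, mul_comm, zpow_mul, zpow_natCast, h, one_zpow]

theorem torus (hcard : Nat.card V = p ^ 2) (hexp : ∀ x : V, x ^ p = 1) (Q1 : Subgroup (MulAut V))
    (hQ1 : IsPGroup p Q1) (u2 : MulAut V) (k : ℕ) (hu2 : u2 ^ (p ^ k) = 1)
    (hnp : ¬ IsPGroup p ↥(Q1 ⊔ Subgroup.zpowers u2)) (d d' : ℕ)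
    (hdd : (d : ZMod p) * (d' : ZMod p) = 1) :
    ∃ (β : MulAut V) (e1 e2 : V), β ∈ Q1 ⊔ Subgroup.zpowers u2 ∧ e1 ≠ 1 ∧
      e2 ∉ Subgroup.zpowers e1 ∧ (∀ γ ∈ Q1, γ e1 = e1) ∧ (∃ γ ∈ Q1, γ e2 ≠ e2) ∧
      β e1 = e1 ^ d ∧ β e2 = e2 ^ d' ∧ ∀ γ ∈ Q1, β * γ * β⁻¹ ∈ Q1 := by
  have hfin : Finite V :=
    Nat.finite_of_card_ne_zero (by rw [hcard]; exact pow_ne_zero _ (Fact.out : p.Prime).ne_zero)
  obtain ⟨e1, he1, hf1⟩ := exists_fixed hcard Q1 hQ1
  have hU2 : IsPGroup p (Subgroup.zpowers u2) := isPGroup_zpowers hu2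
  obtain ⟨e2, he2, hf2⟩ := exists_fixed hcard (Subgroup.zpowers u2) hU2
  have hu2e2 : u2 e2 = e2 := hf2 u2 (Subgroup.mem_zpowers u2)
  have hpow1 : ∀ γ ∈ Q1, ∃ k : ℕ, γ ^ (p ^ k) = 1 := by
    intro γ hγ
    obtain ⟨k, hk⟩ := hQ1 ⟨γ, hγ⟩
    exact ⟨k, by simpa using congrArg Subtype.val hk⟩
  have hstab : ∀ h : V, h ∉ Subgroup.zpowers e1 → ∀ γ ∈ Q1, γ ∈ stabB e1 h := by
    intro h hh γ hγ
    rw [mem_stabB]
    obtain ⟨k, hk⟩ := hpow1 γ hγ
    obtain ⟨a, ha⟩ := exists_pow_of_fix hcard e1 h (hexp e1) (hexp h) he1 hh γ (hf1 γ hγ) hk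
    refine ⟨hf1 γ hγ, ?_⟩
    rw [ha, mul_inv_cancel_right]
    exact Subgroup.pow_mem _ (Subgroup.mem_zpowers e1) a
  have hnot : e2 ∉ Subgroup.zpowers e1 := by
    intro hmem
    obtain ⟨h, hh⟩ := exists_not_mem_zpowers hcard e1 (hexp e1) he1
    have h1 : e1 ∈ Subgroup.zpowers e2 := mem_zpowers_symm (hexp e1) (hexp e2) he1 he2 hmem
    have hu2e1 : u2 e1 = e1 := fix_zpowers hu2e2 h1
    apply hnp
    have hle : Q1 ⊔ Subgroup.zpowers u2 ≤ stabB e1 h := by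
      rw [sup_le_iff]
      refine ⟨fun γ hγ => hstab h hh γ hγ, ?_⟩
      rw [Subgroup.zpowers_le, mem_stabB]
      obtain ⟨a, ha⟩ := exists_pow_of_fix hcard e1 h (hexp e1) (hexp h) he1 hh u2 hu2e1 hu2
      refine ⟨hu2e1, ?_⟩
      rw [ha, mul_inv_cancel_right]
      exact Subgroup.pow_mem _ (Subgroup.mem_zpowers e1) a
    exact (isPGroup_stabB hcard hexp e1 h he1 hh).to_le hle
  have hnot' : e1 ∉ Subgroup.zpowers e2 := fun hmem =>
    hnot (mem_zpowers_symm (hexp e2) (hexp e1) he2 he1 hmem)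
  obtain ⟨u1, hu1Q, hu1⟩ : ∃ u1 ∈ Q1, u1 ≠ 1 := by
    by_contra hall
    push Not at hall
    apply hnp
    have : Q1 = ⊥ := (Subgroup.eq_bot_iff_forall _).2 hall
    rw [this, bot_sup_eq]
    exact hU2
  have hu2ne : u2 ≠ 1 := by
    intro h
    apply hnp
    rw [h, Subgroup.zpowers_one_eq_bot, sup_bot_eq]
    exact hQ1
  obtain ⟨k1, hk1⟩ := hpow1 u1 hu1Q
  obtain ⟨m1, hm1e, hm1h⟩ :=
    exists_pow_transvection hcard hexp e1 e2 he1 hnot u1 hu1 (hf1 u1 hu1Q) hk1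
  obtain ⟨m2, hm2e, hm2h⟩ :=
    exists_pow_transvection hcard hexp e2 e1 he2 hnot' u2 hu2ne hu2e2 hu2
  set c := coordEquiv hcard e1 e2 (hexp e1) (hexp e2) he1 hnot with hc
  have hupp : rho c (upp 1) = u1 ^ m1 := by
    apply aut_ext hcard e1 e2 (hexp e1) (hexp e2) he1 hnot
    · rw [hm1e, hc, rho_e1]
      simp [upp, ZMod.val_one]
    · rw [hm1h, hc, rho_e2]
      simp [upp, ZMod.val_one]
  have hlow : rho c (low 1) = u2 ^ m2 := by
    apply aut_ext hcard e1 e2 (hexp e1) (hexp e2) he1 hnot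
    · rw [hm2h, hc, rho_e1]
      simp [low, ZMod.val_one, mul_comm]
    · rw [hm2e, hc, rho_e2]
      simp [low, ZMod.val_one]
  have hrange : ∀ M : Matrix.SpecialLinearGroup (Fin 2) (ZMod p),
      rho c M ∈ Q1 ⊔ Subgroup.zpowers u2 := by
    intro M
    have h1 : Subgroup.closure ({upp 1, low 1} : Set (Matrix.SpecialLinearGroup (Fin 2) (ZMod p))) ≤
        (Q1 ⊔ Subgroup.zpowers u2).comap (rho c) := by
      rw [Subgroup.closure_le]
      intro x hx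
      rcases hx with rfl | hx
      · show rho c (upp 1) ∈ Q1 ⊔ Subgroup.zpowers u2
        rw [hupp]
        exact (le_sup_left : Q1 ≤ Q1 ⊔ Subgroup.zpowers u2) (Q1.pow_mem hu1Q _)
      · rw [Set.mem_singleton_iff] at hx
        subst hx
        show rho c (low 1) ∈ Q1 ⊔ Subgroup.zpowers u2
        rw [hlow]
        exact (le_sup_right : Subgroup.zpowers u2 ≤ Q1 ⊔ Subgroup.zpowers u2)
          (Subgroup.pow_mem _ (Subgroup.mem_zpowers u2) _)
    exact h1 (mem_closure M)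
  have hβ1 : rho c (dg (d : ZMod p) (d' : ZMod p) hdd) e1 = e1 ^ d := by
    rw [hc, rho_e1]
    simp only [dg, Matrix.SpecialLinearGroup.coe_mk, Matrix.of_apply, Matrix.cons_val', Matrix.cons_val_zero,
      Matrix.cons_val_one, Matrix.cons_val_fin_one, ZMod.val_zero, pow_zero, mul_one]
    exact pow_eq_of_natCast_eq (hexp e1) (by rw [ZMod.natCast_zmod_val])
  have hβ2 : rho c (dg (d : ZMod p) (d' : ZMod p) hdd) e2 = e2 ^ d' := by
    rw [hc, rho_e2]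
    simp only [dg, Matrix.SpecialLinearGroup.coe_mk, Matrix.of_apply, Matrix.cons_val', Matrix.cons_val_zero,
      Matrix.cons_val_one, Matrix.cons_val_fin_one, ZMod.val_zero, pow_zero, one_mul]
    exact pow_eq_of_natCast_eq (hexp e2) (by rw [ZMod.natCast_zmod_val])
  refine ⟨rho c (dg (d : ZMod p) (d' : ZMod p) hdd), e1, e2, hrange _, he1, hnot, hf1, ?_, hβ1, hβ2, ?_⟩
  · refine ⟨u1 ^ m1, Q1.pow_mem hu1Q m1, ?_⟩
    rw [hm1h]
    intro h
    apply he1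
    simpa using h
  · intro γ hγ
    set β := rho c (dg (d : ZMod p) (d' : ZMod p) hdd) with hβ
    obtain ⟨kγ, hkγ⟩ := hpow1 γ hγ
    obtain ⟨a, ha⟩ := exists_pow_of_fix hcard e1 e2 (hexp e1) (hexp e2) he1 hnot γ (hf1 γ hγ) hkγ
    have hγt : γ (e1 ^ a) = e1 ^ a := by rw [map_pow, hf1 γ hγ]
    have hγe1 : ∀ n : ℕ, (γ ^ n) e1 = e1 := by
      intro n
      induction n with
      | zero => simp
      | succ n ih => rw [pow_succ', MulAut.mul_apply, ih, hf1 γ hγ]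
    have key : β * γ = γ ^ (d * d) * β := by
      apply aut_ext hcard e1 e2 (hexp e1) (hexp e2) he1 hnot
      · rw [MulAut.mul_apply, MulAut.mul_apply, hf1 γ hγ, hβ1, map_pow, hγe1]
      · rw [MulAut.mul_apply, MulAut.mul_apply, ha, map_mul, map_pow, hβ1, hβ2, map_pow,
          pow_apply_of_fix hγt ha, mul_pow, ← pow_mul, ← pow_mul, ← pow_mul]
        congr 1
        apply pow_eq_of_natCast_eq (hexp e1)
        push_cast
        linear_combination (-(a : ZMod p) * (d : ZMod p)) * hdd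
    have : β * γ * β⁻¹ = γ ^ (d * d) := by
      rw [key, mul_inv_cancel_right]
    rw [this]
    exact Q1.pow_mem hγ _

end Cfsg.Agent.Lib.Helper45_ResistTorus
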