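import Mathlib
import Cfsg.Prelude.Def_FusionSystem
import Cfsg.Agent.S5080
import Cfsg.Agent.Lib.Helper84_FusionEssential
import Cfsg.Agent.Lib.Helper88_Essential
import Cfsg.Agent.Lib.Helper45_ResistTorus

/-!
# Extending a torus element of an essential subgroup to its normalizer (helper45)

Let `P` be an essential subgroup of a saturated fusion system over `S`, and `N₀` a subgroup with
`P / (P ∩ N₀)` elementary abelian of order `p²`, invariant under `Aut_F(P)`, such that the automorphisms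
in `Aut_F(P)` acting trivially on the quotient have `p`-power order. Then for `d d' ≡ 1 (mod p)` some map
of the system defined on `N_S(P)` stabilizes `P` and raises some `e ∈ P`, whose class is not fixed by
`N_S(P)`, to the power `d'` modulo `N₀`.
-/

set_option autoImplicit false

namespace Cfsg.Agent.Lib.Helper45_ResistExt

open Cfsg Cfsg.FusionSystem Cfsg.Agent.Lib.Helper85_Fusion Cfsg.Agent.Lib.Helper84_FusionSat
  Cfsg.Agent.Lib.Helper84_FusionRS Cfsg.Agent.Lib.Helper84_FusionAlperin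
  Cfsg.Agent.Lib.Helper84_FusionEssential

section Quot

variable {G : Type*} [Group G]

theorem map_eq_of_invariant (A : Subgroup (MulAut G)) (N : Subgroup G)
    (hN : ∀ α ∈ A, ∀ x ∈ N, α x ∈ N) (a : A) :
    N.map ((a : MulAut G) : G ≃* G).toMonoidHom = N := by
  apply le_antisymm
  · rintro _ ⟨x, hx, rfl⟩
    exact hN a a.2 x hx
  · intro x hx
    refine ⟨(a : MulAut G)⁻¹ x, hN _ (A.inv_mem a.2) x hx, ?_⟩
    show (a : MulAut G) ((a : MulAut G)⁻¹ x) = x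
    rw [MulAut.apply_inv_self]

/-- the action of a group of automorphisms on the quotient by an invariant normal subgroup -/
noncomputable def quotHom (A : Subgroup (MulAut G)) (N : Subgroup G) [N.Normal]
    (hN : ∀ α ∈ A, ∀ x ∈ N, α x ∈ N) : ↥A →* MulAut (G ⧸ N) where
  toFun a := QuotientGroup.congr N N (a : MulAut G) (map_eq_of_invariant A N hN a)
  map_one' := by
    ext x
    induction x using QuotientGroup.induction_on with
    | H x => rfl
  map_mul' a b := by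
    ext x
    induction x using QuotientGroup.induction_on with
    | H x => rfl

theorem quotHom_mk (A : Subgroup (MulAut G)) (N : Subgroup G) [N.Normal]
    (hN : ∀ α ∈ A, ∀ x ∈ N, α x ∈ N) (a : A) (g : G) :
    quotHom A N hN a (g : G ⧸ N) = (((a : MulAut G) g : G) : G ⧸ N) := rfl

end Quot

variable {Ω : Type*} [Group Ω] {S : Subgroup Ω}

/-- the abstract form, with the quotient given by a surjection `π` onto `V` -/
theorem exists_torus_extension_aux [Finite S] (p : ℕ) [Fact p.Prime] (hS : IsPGroup p S)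
    (F : FusionSystem S) (hF : F.IsSaturated p) (P : Subgroup Ω) (hP : F.IsEssential p P)
    {V : Type*} [CommGroup V] (π : ↥P →* V) (hπ : Function.Surjective π)
    (hcard : Nat.card V = p ^ 2) (hexpV : ∀ v : V, v ^ p = 1)
    (θ : ↥(F.autGroup P) →* MulAut V)
    (hθ : ∀ (a : ↥(F.autGroup P)) (x : ↥P), θ a (π x) = π ((a : MulAut ↥P) x))
    (hkerθ : ∀ a : ↥(F.autGroup P), θ a = 1 → ∃ k : ℕ, a ^ (p ^ k) = 1)
    (d d' : ℕ) (hdd : (d : ZMod p) * (d' : ZMod p) = 1) :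
    ∃ ψ ∈ F.Hom (normalizerIn S P),
      (∀ (u : Ω) (hu : u ∈ normalizerIn S P), u ∈ P → ψ ⟨u, hu⟩ ∈ P) ∧
      ∃ (e : Ω) (he : e ∈ normalizerIn S P) (heP : e ∈ P),
        (∃ h : ψ ⟨e, he⟩ ∈ P, π ⟨ψ ⟨e, he⟩, h⟩ = π ⟨e, heP⟩ ^ d') ∧
        ∃ t ∈ normalizerIn S P, ∃ h : t * e * t⁻¹ ∈ P, π ⟨t * e * t⁻¹, h⟩ ≠ π ⟨e, heP⟩ := by
  have hPS : P ≤ S := hP.1.1
  have hPlt : P < S := Cfsg.Agent.Lib.Helper88_Essential.lt_of_isEssential hS F hF hP
  have hfinP : Finite P := finite_of_le_S hPS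
  have hne := extClosure_ne_of_isEssential hS F hF hPlt hP
  obtain ⟨hcen, hfn, -, -, -⟩ := hP
  obtain ⟨-, R, hR⟩ := IsSaturated.isFullyAutomized hS hF hfn
  have hrec := IsSaturated.isReceptive_of_isFullyNormalized hS hF hfn
  have hmemR : ∀ a : ↥(F.autGroup P), a ∈ (R : Subgroup ↥(F.autGroup P)) ↔
      (a : MulAut P) ∈ autInducedBy S P := by
    intro a
    rw [hR, Subgroup.mem_subgroupOf]
  have hPN : P ≤ normalizerIn S P := le_inf hPS Subgroup.le_normalizer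
  -- (1) a `p`-element outside the Sylow subgroup `Aut_S(P)`
  have h1 : ∃ u : ↥(F.autGroup P), (∃ k : ℕ, u ^ (p ^ k) = 1) ∧
      ¬ IsPGroup p ↥((R : Subgroup ↥(F.autGroup P)) ⊔ Subgroup.zpowers u) := by
    by_contra hcon
    push Not at hcon
    have hall : ∀ u : ↥(F.autGroup P), (∃ k : ℕ, u ^ (p ^ k) = 1) →
        u ∈ (R : Subgroup ↥(F.autGroup P)) := by
      intro u hu
      have h2 := R.is_maximal' (hcon u hu) le_sup_left
      have h3 : u ∈ (R : Subgroup ↥(F.autGroup P)) ⊔ Subgroup.zpowers u :=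
        (le_sup_right : Subgroup.zpowers u ≤ _) (Subgroup.mem_zpowers u)
      rwa [h2] at h3
    apply hne
    apply le_antisymm (extClosure_le_autGroup F)
    intro α hα
    apply Subgroup.subset_closure
    apply mem_extSet_of_lt_extender F hrec hα
    refine lt_of_lt_of_le (lt_normalizerIn hS hPlt) ?_
    rintro g ⟨hgS, hgN⟩
    apply mem_extender_of_conj_mem α hgS hgN
    have hc : P.normalizerMonoidHom ⟨g, hgN⟩ ∈ autInducedBy S P :=
      normalizerMonoidHom_mem_autInducedBy hgS hgN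
    let a : ↥(F.autGroup P) := ⟨α, hα⟩
    let b : ↥(F.autGroup P) := ⟨_, autInducedBy_le_autGroup F hPS hc⟩
    have hb : b ∈ (R : Subgroup ↥(F.autGroup P)) := (hmemR b).2 hc
    obtain ⟨k, hk⟩ := R.2 ⟨b, hb⟩
    have hbk : b ^ (p ^ k) = 1 := by simpa using congrArg Subtype.val hk
    have h4 : (a * b * a⁻¹) ∈ (R : Subgroup ↥(F.autGroup P)) := by
      apply hall
      refine ⟨k, ?_⟩
      rw [conj_pow, hbk, mul_one, mul_inv_cancel]
    exact (hmemR _).1 h4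
  obtain ⟨u, ⟨k, hk⟩, hnp⟩ := h1
  -- (2) the kernel of `θ` is a normal `p`-subgroup, hence lies in `R`
  have hKp : IsPGroup p θ.ker := by
    rintro ⟨a, ha⟩
    obtain ⟨j, hj⟩ := hkerθ a (MonoidHom.mem_ker.1 ha)
    exact ⟨j, Subtype.ext hj⟩
  have hKR : θ.ker ≤ (R : Subgroup ↥(F.autGroup P)) := hKp.le_sylow_of_normal R
  -- (3) push to `Aut(V)`
  set Q1 : Subgroup (MulAut V) := (R : Subgroup ↥(F.autGroup P)).map θ with hQ1def
  have hQ1 : IsPGroup p Q1 := R.2.map θ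
  have hu2 : (θ u) ^ (p ^ k) = 1 := by rw [← map_pow, hk, map_one]
  have hsup : Q1 ⊔ Subgroup.zpowers (θ u) =
      ((R : Subgroup ↥(F.autGroup P)) ⊔ Subgroup.zpowers u).map θ := by
    rw [Subgroup.map_sup, MonoidHom.map_zpowers]
  have hnp' : ¬ IsPGroup p ↥(Q1 ⊔ Subgroup.zpowers (θ u)) := by
    intro h
    apply hnp
    rintro ⟨g, hg⟩
    have hθg : θ g ∈ Q1 ⊔ Subgroup.zpowers (θ u) := by
      rw [hsup]
      exact ⟨g, hg, rfl⟩
    obtain ⟨j, hj⟩ := h ⟨θ g, hθg⟩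
    have hj' : (θ g) ^ (p ^ j) = 1 := by simpa using congrArg Subtype.val hj
    have hgk : g ^ (p ^ j) ∈ θ.ker := by
      rw [MonoidHom.mem_ker, map_pow, hj']
    obtain ⟨i, hi⟩ := hKp ⟨g ^ (p ^ j), hgk⟩
    have hi' : (g ^ (p ^ j)) ^ (p ^ i) = 1 := by simpa using congrArg Subtype.val hi
    refine ⟨j + i, Subtype.ext ?_⟩
    show g ^ (p ^ (j + i)) = 1
    rw [pow_add, pow_mul, hi']
  -- (4) the torus element
  obtain ⟨β, e1, e2, hβmem, he1, hnot, hf1, ⟨γ0, hγ0, hγ0e⟩, hβ1, hβ2, hnorm⟩ :=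
    Cfsg.Agent.Lib.Helper45_ResistTorus.torus hcard hexpV Q1 hQ1 (θ u) k hu2 hnp' d d' hdd
  rw [hsup] at hβmem
  obtain ⟨a, -, rfl⟩ := hβmem
  -- (5) `N_S(P)` lies in the extender of `a`
  have hle : normalizerIn S P ≤ extender S P (P.subtype.comp (a : MulAut ↥P).toMonoidHom) := by
    rintro g ⟨hgS, hgN⟩
    apply mem_extender_of_conj_mem (a : MulAut ↥P) hgS hgN
    have hc : P.normalizerMonoidHom ⟨g, hgN⟩ ∈ autInducedBy S P :=
      normalizerMonoidHom_mem_autInducedBy hgS hgN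
    let b : ↥(F.autGroup P) := ⟨_, autInducedBy_le_autGroup F hPS hc⟩
    have hb : b ∈ (R : Subgroup ↥(F.autGroup P)) := (hmemR b).2 hc
    have h2 : θ a * θ b * (θ a)⁻¹ ∈ Q1 := hnorm (θ b) ⟨b, hb, rfl⟩
    obtain ⟨r, hr, hrθ⟩ := h2
    have h3 : (a * b * a⁻¹) * r⁻¹ ∈ θ.ker := by
      rw [MonoidHom.mem_ker, map_mul, map_mul, map_mul, map_inv, map_inv, hrθ, mul_inv_cancel]
    have h4 : (a * b * a⁻¹) ∈ (R : Subgroup ↥(F.autGroup P)) := by
      have h5 := (R : Subgroup ↥(F.autGroup P)).mul_mem (hKR h3) hr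
      rwa [inv_mul_cancel_right] at h5
    exact (hmemR _).1 h4
  -- (6) the extension
  obtain ⟨ψ', hψ', hψ'α⟩ := hrec.2 P _ ((mem_autGroup_iff F hPS (a : MulAut ↥P)).1 a.2)
    (range_subtype_comp_equiv (a : MulAut ↥P))
  have hψ : ψ'.comp (Subgroup.inclusion hle) ∈ F.Hom (normalizerIn S P) :=
    Cfsg.Agent.Lib.Helper85_Fusion.restrict_mem F hle hψ'
  have hψα : ∀ (x : Ω) (hx : x ∈ normalizerIn S P) (hxP : x ∈ P),
      (ψ'.comp (Subgroup.inclusion hle)) ⟨x, hx⟩ = (((a : MulAut ↥P) ⟨x, hxP⟩ : ↥P) : Ω) := by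
    intro x hx hxP
    exact hψ'α x hxP (hle hx)
  refine ⟨ψ'.comp (Subgroup.inclusion hle), hψ, ?_, ?_⟩
  · intro x hx hxP
    rw [hψα x hx hxP]
    exact ((a : MulAut ↥P) ⟨x, hxP⟩).2
  · obtain ⟨ê, rfl⟩ := hπ e2
    refine ⟨(ê : Ω), hPN ê.2, ê.2, ⟨?_, ?_⟩, ?_⟩
    · rw [hψα _ _ ê.2]
      exact ((a : MulAut ↥P) ⟨ê, ê.2⟩).2
    · have h6 : (⟨(ψ'.comp (Subgroup.inclusion hle)) ⟨(ê : Ω), hPN ê.2⟩, by
          rw [hψα _ _ ê.2]; exact ((a : MulAut ↥P) ⟨ê, ê.2⟩).2⟩ : ↥P) = (a : MulAut ↥P) ê := by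
        apply Subtype.ext
        exact hψα _ _ ê.2
      rw [h6, ← hθ, hβ2]
    · obtain ⟨r, hr, rfl⟩ := hγ0
      obtain ⟨t, htS, ht⟩ := (mem_autInducedBy_iff S P _).1 ((hmemR r).1 hr)
      have htN : t ∈ Subgroup.normalizer (P : Set Ω) := mem_normalizer_of_aut _ t ht
      have hte : t * (ê : Ω) * t⁻¹ ∈ P := by
        rw [← ht ê]
        exact ((r : MulAut ↥P) ê).2
      refine ⟨t, ⟨htS, htN⟩, hte, ?_⟩
      have h7 : (⟨t * (ê : Ω) * t⁻¹, hte⟩ : ↥P) = (r : MulAut ↥P) ê := Subtype.ext (ht ê).symm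
      rw [h7, ← hθ]
      exact hγ0e

/-- the concrete form, with the quotient `P / (P ∩ N₀)` -/
theorem exists_torus_extension [Finite S] (p : ℕ) [Fact p.Prime] (hS : IsPGroup p S)
    (F : FusionSystem S) (hF : F.IsSaturated p) (P : Subgroup Ω) (hP : F.IsEssential p P)
    (N₀ : Subgroup Ω)
    (hinv : ∀ α ∈ F.autGroup P, ∀ a : ↥P, (a : Ω) ∈ N₀ → ((α a : ↥P) : Ω) ∈ N₀)
    (hidx : (N₀.subgroupOf P).index = p ^ 2)
    (hcomm : ∀ a ∈ P, ∀ b ∈ P, a * b * a⁻¹ * b⁻¹ ∈ N₀)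
    (hexp : ∀ a ∈ P, a ^ p ∈ N₀)
    (hker : ∀ α ∈ F.autGroup P, (∀ a : ↥P, (a : Ω)⁻¹ * ((α a : ↥P) : Ω) ∈ N₀) →
      ∃ k : ℕ, α ^ (p ^ k) = 1)
    (d d' : ℕ) (hdd : (d : ZMod p) * (d' : ZMod p) = 1) :
    ∃ ψ ∈ F.Hom (normalizerIn S P),
      (∀ (u : Ω) (hu : u ∈ normalizerIn S P), u ∈ P → ψ ⟨u, hu⟩ ∈ P) ∧
      ∃ (e : Ω) (he : e ∈ normalizerIn S P), e ∈ P ∧ (e ^ d')⁻¹ * ψ ⟨e, he⟩ ∈ N₀ ∧
        ∃ t ∈ normalizerIn S P, e⁻¹ * (t * e * t⁻¹) ∉ N₀ := by
  have hNn : (N₀.subgroupOf P).Normal := by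
    constructor
    intro n hn a
    rw [Subgroup.mem_subgroupOf] at hn ⊢
    have h1 := hcomm a a.2 n n.2
    have h2 : ((a * n * a⁻¹ : ↥P) : Ω) = ((a : Ω) * n * (a : Ω)⁻¹ * (n : Ω)⁻¹) * n := by
      simp [mul_assoc]
    rw [h2]
    exact N₀.mul_mem h1 hn
  let instV : CommGroup (↥P ⧸ N₀.subgroupOf P) :=
    { QuotientGroup.Quotient.group (N₀.subgroupOf P) with
      mul_comm := by
        intro q r
        induction q using QuotientGroup.induction_on with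
        | H a =>
          induction r using QuotientGroup.induction_on with
          | H b =>
            show ((a * b : ↥P) : ↥P ⧸ N₀.subgroupOf P) = ((b * a : ↥P) : ↥P ⧸ N₀.subgroupOf P)
            rw [QuotientGroup.eq, Subgroup.mem_subgroupOf]
            have h1 := hcomm (b : Ω)⁻¹ (P.inv_mem b.2) (a : Ω)⁻¹ (P.inv_mem a.2)
            have h2 : (((a * b)⁻¹ * (b * a) : ↥P) : Ω) =
                (b : Ω)⁻¹ * (a : Ω)⁻¹ * ((b : Ω)⁻¹)⁻¹ * ((a : Ω)⁻¹)⁻¹ := by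
              simp [mul_assoc]
            rw [h2]
            exact h1 }
  have hinv' : ∀ α ∈ F.autGroup P, ∀ x ∈ N₀.subgroupOf P, α x ∈ N₀.subgroupOf P :=
    fun α hα x hx => hinv α hα x hx
  have hexpV : ∀ v : ↥P ⧸ N₀.subgroupOf P, v ^ p = 1 := by
    intro v
    induction v using QuotientGroup.induction_on with
    | H a =>
      show ((a ^ p : ↥P) : ↥P ⧸ N₀.subgroupOf P) = 1
      rw [QuotientGroup.eq_one_iff, Subgroup.mem_subgroupOf]
      exact hexp a a.2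
  have hkerθ : ∀ a : ↥(F.autGroup P), quotHom (F.autGroup P) (N₀.subgroupOf P) hinv' a = 1 →
      ∃ k : ℕ, a ^ (p ^ k) = 1 := by
    intro a ha
    obtain ⟨k, hk⟩ := hker (a : MulAut ↥P) a.2 (by
      intro x
      have h1 : quotHom (F.autGroup P) (N₀.subgroupOf P) hinv' a (x : ↥P ⧸ N₀.subgroupOf P) =
          (x : ↥P ⧸ N₀.subgroupOf P) := by rw [ha]; rfl
      rw [quotHom_mk] at h1
      have h2 := (QuotientGroup.eq.1 h1.symm)
      exact h2)
    exact ⟨k, Subtype.ext hk⟩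
  obtain ⟨ψ, hψ, h1, e, he, heP, ⟨h2, h3⟩, t, ht, h4, h5⟩ :=
    exists_torus_extension_aux p hS F hF P hP (V := ↥P ⧸ N₀.subgroupOf P)
      (QuotientGroup.mk' (N₀.subgroupOf P)) (QuotientGroup.mk'_surjective _)
      (by rw [← Subgroup.index_eq_card, hidx]) hexpV
      (quotHom (F.autGroup P) (N₀.subgroupOf P) hinv') (fun a x => rfl) hkerθ d d' hdd
  refine ⟨ψ, hψ, h1, e, he, heP, ?_, t, ht, ?_⟩
  · have h6 := QuotientGroup.eq.1 h3.symm
    rw [Subgroup.mem_subgroupOf] at h6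
    exact h6
  · intro h7
    apply h5
    symm
    show ((⟨e, heP⟩ : ↥P) : ↥P ⧸ N₀.subgroupOf P) = ((⟨t * e * t⁻¹, h4⟩ : ↥P) : ↥P ⧸ N₀.subgroupOf P)
    rw [QuotientGroup.eq, Subgroup.mem_subgroupOf]
    exact h7

end Cfsg.Agent.Lib.Helper45_ResistExt
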