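import Mathlib
import Cfsg.Agent.Lib.Helper84_Stability

/-!
# Automorphisms acting trivially modulo a cyclic central subgroup (helper45)

Let `Q` be a finite `p`-group, `Z = ⟨ζ⟩` a cyclic central subgroup and `α` an automorphism of `Q` with
`a⁻¹ α(a) ∈ Z` for all `a`. If some commutator `w ∈ Z` has order `p`, then `α` has `p`-power order.
-/

set_option autoImplicit false

namespace Cfsg.Agent.Lib.Helper45_ResistKer

open Cfsg.Agent.Lib.Helper84_Stability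

variable {Q : Type*} [Group Q]

/-- the elements of `⟨ζ⟩` of order dividing `p ^ j` -/
def omegaZ (ζ : Q) (hζ : ζ ∈ Subgroup.center Q) (p j : ℕ) : Subgroup Q where
  carrier := {u | u ∈ Subgroup.zpowers ζ ∧ u ^ (p ^ j) = 1}
  one_mem' := ⟨Subgroup.one_mem _, one_pow _⟩
  mul_mem' := by
    rintro u v ⟨hu, hu1⟩ ⟨hv, hv1⟩
    refine ⟨Subgroup.mul_mem _ hu hv, ?_⟩
    have hc : Commute u v := by
      have : u ∈ Subgroup.center Q := (Subgroup.zpowers_le.2 hζ) hu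
      exact (Subgroup.mem_center_iff.1 this v).symm
    rw [hc.mul_pow, hu1, hv1, one_mul]
  inv_mem' := by
    rintro u ⟨hu, hu1⟩
    exact ⟨Subgroup.inv_mem _ hu, by rw [inv_pow, hu1, inv_one]⟩

theorem mem_omegaZ {ζ : Q} {hζ : ζ ∈ Subgroup.center Q} {p j : ℕ} {u : Q} :
    u ∈ omegaZ ζ hζ p j ↔ u ∈ Subgroup.zpowers ζ ∧ u ^ (p ^ j) = 1 := Iff.rfl

theorem comm_central {a b c₁ c₂ : Q} (h1 : c₁ ∈ Subgroup.center Q) (h2 : c₂ ∈ Subgroup.center Q) :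
    (a * c₁) * (b * c₂) * (a * c₁)⁻¹ * (b * c₂)⁻¹ = a * b * a⁻¹ * b⁻¹ := by
  have e1 : ∀ g, g * c₁ = c₁ * g := Subgroup.mem_center_iff.1 h1
  have e2 : ∀ g, g * c₂ = c₂ * g := Subgroup.mem_center_iff.1 h2
  calc (a * c₁) * (b * c₂) * (a * c₁)⁻¹ * (b * c₂)⁻¹
      = a * (c₁ * b) * c₂ * c₁⁻¹ * a⁻¹ * c₂⁻¹ * b⁻¹ := by group
    _ = a * (b * c₁) * c₂ * c₁⁻¹ * a⁻¹ * c₂⁻¹ * b⁻¹ := by rw [← e1 b]
    _ = a * b * (c₁ * c₂) * c₁⁻¹ * a⁻¹ * c₂⁻¹ * b⁻¹ := by group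
    _ = a * b * (c₂ * c₁) * c₁⁻¹ * a⁻¹ * c₂⁻¹ * b⁻¹ := by rw [e2 c₁]
    _ = a * b * (c₂ * a⁻¹) * c₂⁻¹ * b⁻¹ := by group
    _ = a * b * (a⁻¹ * c₂) * c₂⁻¹ * b⁻¹ := by rw [← e2 a⁻¹]
    _ = a * b * a⁻¹ * b⁻¹ := by group

theorem exists_pow_eq_one [Finite Q] {p : ℕ} [Fact p.Prime] (hQ : IsPGroup p Q) (ζ : Q)
    (hζ : ζ ∈ Subgroup.center Q) (α : MulAut Q)
    (hα : ∀ a : Q, a⁻¹ * α a ∈ Subgroup.zpowers ζ)
    (w : Q) (hwZ : w ∈ Subgroup.zpowers ζ) (hw1 : w ≠ 1) (hwp : w ^ p = 1)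
    (a b : Q) (hab : w = a * b * a⁻¹ * b⁻¹) : ∃ k : ℕ, α ^ (p ^ k) = 1 := by
  have hp : p.Prime := Fact.out
  have hZc : Subgroup.zpowers ζ ≤ Subgroup.center Q := Subgroup.zpowers_le.2 hζ
  -- `α` fixes `w`
  have hαw : α w = w := by
    have h1 : α a = a * (a⁻¹ * α a) := by group
    have h2 : α b = b * (b⁻¹ * α b) := by group
    rw [hab, map_mul, map_mul, map_mul, map_inv, map_inv, h1, h2]
    exact comm_central (hZc (hα a)) (hZc (hα b))
  -- `α` acts on `Z` as a power map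
  obtain ⟨t, ht⟩ := Subgroup.mem_zpowers_iff.1 (hα ζ)
  have hαZ : ∀ u ∈ Subgroup.zpowers ζ, u⁻¹ * α u = u ^ t := by
    intro u hu
    obtain ⟨l, rfl⟩ := Subgroup.mem_zpowers_iff.1 hu
    have h1 : α ζ = ζ ^ (1 + t) := by
      rw [zpow_add, zpow_one, ht]; group
    rw [map_zpow, h1, ← zpow_mul, ← zpow_mul, ← zpow_neg, ← zpow_add]
    congr 1
    ring
  -- `p ∣ t`
  have hpt : (p : ℤ) ∣ t := by
    have h1 : w ^ t = 1 := by
      rw [← hαZ w hwZ, hαw, inv_mul_cancel]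
    have h2 : orderOf w = p := by
      have h3 : orderOf w ∣ p := orderOf_dvd_of_pow_eq_one hwp
      rcases (Nat.dvd_prime hp).1 h3 with h4 | h4
      · exact absurd (orderOf_eq_one_iff.1 h4) hw1
      · exact h4
    rw [← h2]
    exact orderOf_dvd_iff_zpow_eq_one.2 h1
  obtain ⟨t', ht'⟩ := hpt
  obtain ⟨M, hM⟩ := hQ.exists_card_eq
  -- the chain
  let c : ℕ → Subgroup Q := fun j => if j ≤ M then omegaZ ζ hζ p j else ⊤
  have h0 : c 0 = ⊥ := by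
    show (if 0 ≤ M then omegaZ ζ hζ p 0 else ⊤) = ⊥
    rw [if_pos (Nat.zero_le M), eq_bot_iff]
    rintro u ⟨-, hu⟩
    rw [pow_zero, pow_one] at hu
    exact hu
  have hmono : ∀ j, c j ≤ c (j + 1) := by
    intro j
    show (if j ≤ M then omegaZ ζ hζ p j else ⊤) ≤ (if j + 1 ≤ M then omegaZ ζ hζ p (j + 1) else ⊤)
    by_cases h1 : j + 1 ≤ M
    · rw [if_pos h1, if_pos (by omega : j ≤ M)]
      rintro u ⟨hu, hu1⟩
      exact ⟨hu, by rw [pow_succ, pow_mul, hu1, one_pow]⟩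
    · rw [if_neg h1]
      exact le_top
  have hn : c (M + 1) = ⊤ := by
    show (if M + 1 ≤ M then omegaZ ζ hζ p (M + 1) else ⊤) = ⊤
    rw [if_neg (by omega)]
  have hstab : Stabilizes c α := by
    intro j u hu
    show u⁻¹ * α u ∈ (if j ≤ M then omegaZ ζ hζ p j else ⊤)
    by_cases h1 : j ≤ M
    · rw [if_pos h1]
      by_cases h2 : j + 1 ≤ M
      · have hu' : u ∈ omegaZ ζ hζ p (j + 1) := by
          have : c (j + 1) = omegaZ ζ hζ p (j + 1) := by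
            show (if j + 1 ≤ M then omegaZ ζ hζ p (j + 1) else ⊤) = _
            rw [if_pos h2]
          rwa [this] at hu
        obtain ⟨huZ, hu1⟩ := hu'
        rw [hαZ u huZ]
        refine ⟨Subgroup.zpow_mem _ huZ t, ?_⟩
        rw [ht', ← zpow_natCast, ← zpow_mul]
        have : (p : ℤ) * t' * ((p ^ j : ℕ) : ℤ) = ((p ^ (j + 1) : ℕ) : ℤ) * t' := by
          push_cast; ring
        rw [this, zpow_mul, zpow_natCast, hu1, one_zpow]
      · refine ⟨hα u, ?_⟩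
        have hjM : j = M := by omega
        rw [hjM, ← hM]
        exact pow_card_eq_one'
    · rw [if_neg h1]
      exact Subgroup.mem_top _
  exact hstab.exists_pow_eq_one hQ h0 hmono hn

end Cfsg.Agent.Lib.Helper45_ResistKer
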