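import Mathlib
import Cfsg.Agent.Lib.Helper45_ResistApps1
import Cfsg.Agent.Lib.Helper45_ResistExt
import Cfsg.Agent.Lib.Helper45_ResistKer
import Cfsg.Agent.Lib.Helper45_ResistCore
import Cfsg.Agent.Lib.Helper84_FusionEssential

/-!
# Rank two `p`-groups of Blackburn's third family: `Z₂(S)⟨g⟩` is not essential (helper45)
-/

set_option autoImplicit false

namespace Cfsg.Agent.Lib.Helper45_ResistStruct

open Cfsg Cfsg.FusionSystem

variable {Ω : Type*} [Group Ω]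

/-! ### general counting lemmas -/

theorem card_sandwich {p a : ℕ} (hp : p.Prime) {A B C : Subgroup Ω} [Finite C] (hAB : A < B)
    (hBC : B < C) (hA : Nat.card A = p ^ a) (hC : Nat.card C = p ^ (a + 2)) :
    Nat.card B = p ^ (a + 1) := by
  have hBfin : Finite B :=
    Finite.of_injective (Subgroup.inclusion hBC.le) (Subgroup.inclusion_injective _)
  have h1 : Nat.card B ∣ Nat.card C := Subgroup.card_dvd_of_le hBC.le
  rw [hC] at h1
  obtain ⟨k, hk, hBk⟩ := (Nat.dvd_prime_pow hp).1 h1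
  have h2 : Nat.card A ∣ Nat.card B := Subgroup.card_dvd_of_le hAB.le
  rw [hA, hBk] at h2
  have hak : a ≤ k := (Nat.pow_dvd_pow_iff_le_right hp.one_lt).1 h2
  have hne1 : k ≠ a := by
    rintro rfl
    exact hAB.ne (Subgroup.eq_of_le_of_card_ge hAB.le (by rw [hA, hBk]))
  have hne2 : k ≠ a + 2 := by
    rintro rfl
    exact hBC.ne (Subgroup.eq_of_le_of_card_ge hBC.le (by rw [hC, hBk]))
  have : k = a + 1 := by omega
  rw [hBk, this]

theorem eq_of_lt_of_card {p a : ℕ} (hp : p.Prime) {A B C : Subgroup Ω} [Finite C] (hAB : A < B)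
    (hBC : B ≤ C) (hA : Nat.card A = p ^ a) (hC : Nat.card C = p ^ (a + 1)) : B = C := by
  have hBfin : Finite B :=
    Finite.of_injective (Subgroup.inclusion hBC) (Subgroup.inclusion_injective _)
  have h1 : Nat.card B ∣ Nat.card C := Subgroup.card_dvd_of_le hBC
  rw [hC] at h1
  obtain ⟨k, hk, hBk⟩ := (Nat.dvd_prime_pow hp).1 h1
  have h2 : Nat.card A ∣ Nat.card B := Subgroup.card_dvd_of_le hAB.le
  rw [hA, hBk] at h2
  have hak : a ≤ k := (Nat.pow_dvd_pow_iff_le_right hp.one_lt).1 h2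
  have hne1 : k ≠ a := by
    rintro rfl
    exact hAB.ne (Subgroup.eq_of_le_of_card_ge hAB.le (by rw [hA, hBk]))
  have : k = a + 1 := by omega
  exact Subgroup.eq_of_le_of_card_ge hBC (by rw [hC, hBk, this])

theorem le_normalizer_of_card {p : ℕ} [Fact p.Prime] {S : Subgroup Ω} [Finite S] (hS : IsPGroup p S)
    {N : Subgroup Ω} (hN : N ≤ S) (hc : Nat.card S = Nat.card N * p) :
    S ≤ Subgroup.normalizer (N : Set Ω) := by
  have hp : p.Prime := Fact.out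
  have hidx : (N.subgroupOf S).index = p :=
    (Cfsg.Agent.Lib.Helper87_IndexP.index_subgroupOf_eq_iff hN).2 hc
  obtain ⟨m, hm⟩ := hS.exists_card_eq
  have hm0 : m ≠ 0 := by
    rintro rfl
    rw [pow_zero] at hm
    rw [hm] at hc
    have : p ∣ 1 := Dvd.intro_left _ hc.symm
    exact hp.one_lt.ne' (Nat.dvd_one.1 this)
  have hmin : (Nat.card S).minFac = p := by
    rw [hm, Nat.Prime.pow_minFac hp hm0]
  have hnorm : (N.subgroupOf S).Normal :=
    Subgroup.normal_of_index_eq_minFac_card (by rw [hidx, hmin])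
  exact (Subgroup.normal_subgroupOf_iff_le_normalizer hN).1 hnorm

theorem Z2_conj {S : Subgroup Ω} {u t : Ω} (hu : u ∈ Z2 S) (ht : t ∈ S) :
    u⁻¹ * (t * u * t⁻¹) ∈ S ⊓ Subgroup.centralizer (S : Set Ω) := by
  obtain ⟨huS, hu'⟩ := (mem_Z2_iff S).1 hu
  have hc := hu' t ht
  have hci := Subgroup.inv_mem _ hc
  have h1 : u * (u * t * u⁻¹ * t⁻¹)⁻¹ = (u * t * u⁻¹ * t⁻¹)⁻¹ * u := FC.central_comm hci huS
  have h2 : u⁻¹ * (t * u * t⁻¹) = (u * t * u⁻¹ * t⁻¹)⁻¹ := by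
    have : t * u * t⁻¹ = (u * t * u⁻¹ * t⁻¹)⁻¹ * u := by group
    rw [this, ← h1]
    group
  rw [h2]
  exact hci

/-- a map of the system sending a finite `Q` into itself gives an element of `Aut_F(Q)` -/
theorem exists_aut_of_hom {S : Subgroup Ω} (F : FusionSystem S) {Q : Subgroup Ω} [Finite Q]
    {ψ : ↥Q →* Ω} (hψ : ψ ∈ F.Hom Q) (hQ : ∀ u : ↥Q, ψ u ∈ Q) :
    ∃ α ∈ F.autGroup Q, ∀ u : ↥Q, ((α u : ↥Q) : Ω) = ψ u := by
  have hQS : Q ≤ S := (F.le_of_mem hψ).1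
  have hinj : Function.Injective (ψ.codRestrict Q hQ) := by
    intro a b hab
    apply F.injective_of_mem hψ
    exact congrArg Subtype.val hab
  have hbij : Function.Bijective (ψ.codRestrict Q hQ) :=
    ⟨hinj, Finite.injective_iff_surjective.1 hinj⟩
  refine ⟨MulEquiv.ofBijective (ψ.codRestrict Q hQ) hbij, ?_, fun s => rfl⟩
  rw [Cfsg.Agent.Lib.Helper85_Fusion.mem_autGroup_iff F hQS]
  exact Cfsg.Agent.Lib.Helper85_Fusion.mem_of_eq F hψ (fun s => rfl)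

namespace FC

variable {p n s : ℕ} {x y z : Ω} {S : Subgroup Ω}

/-- the centre of `S` is generated by `z ^ p` -/
theorem center_eq_zpowers [Finite S] (h : FC p n s x y z S) (hp : p.Prime) {c : Ω} :
    c ∈ S ⊓ Subgroup.centralizer (S : Set Ω) ↔ ∃ k' : ℕ, c = (z ^ p) ^ k' := by
  rw [h.mem_center_iff hp]
  constructor
  · rintro ⟨k', rfl⟩
    exact ⟨k', by simp [nf, pow_mul]⟩
  · rintro ⟨k', rfl⟩
    exact ⟨k', by simp [nf, pow_mul]⟩

theorem three_ne_zero (h : FC p n s x y z S) [Fact p.Prime] : (3 : ZMod p) ≠ 0 := by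
  intro h3
  have h4 : ((3 : ℕ) : ZMod p) = 0 := by exact_mod_cast h3
  rw [ZMod.natCast_eq_zero_iff] at h4
  have := Nat.le_of_dvd (by norm_num) h4
  have := h.hp5
  omega

theorem half_mul_two (h : FC p n s x y z S) (hp : p.Prime) :
    (((p + 1) / 2 : ℕ) : ZMod p) * ((2 : ℕ) : ZMod p) = 1 := by
  have hodd : p % 2 = 1 := by
    rcases hp.eq_two_or_odd with h2 | h2
    · have := h.hp5; omega
    · exact h2
  have h1 : (p + 1) / 2 * 2 = p + 1 := by omega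
  rw [← Nat.cast_mul, h1]
  simp

/-- `Z₂(S)⟨g⟩`, `g ∉ A`, is not essential -/
theorem not_isEssential_PP [Finite S] [Fact p.Prime] (h : FC p n s x y z S) (hS : IsPGroup p S)
    (F : FusionSystem S) (hF : F.IsSaturated p) {g : Ω} (hg : g ∈ S) (hgA : g ∉ h.AA) :
    ¬ F.IsEssential p (Z2 S ⊔ Subgroup.zpowers g) := by
  intro hP
  have hp : p.Prime := Fact.out
  have hn := h.hn
  set P := Z2 S ⊔ Subgroup.zpowers g with hPdef
  have hPS : P ≤ S := hP.1.1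
  have hgP : g ∈ P := g_mem_PP S g
  have hfinP : Finite P := Finite.of_injective (Subgroup.inclusion hPS) (Subgroup.inclusion_injective _)
  have hZ2P : Z2 S < P :=
    lt_of_le_of_ne le_sup_left (fun heq => hgA (h.Z2_le_AA hp (by rw [heq]; exact hgP)))
  have hPlt : P < S := Cfsg.Agent.Lib.Helper88_Essential.lt_of_isEssential hS F hF hP
  have hcardP : Nat.card P = p ^ (n - 2 + 1) :=
    card_sandwich hp hZ2P hPlt (h.card_Z2 hp) (by rw [h.card]; congr 1; omega)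
  have hZP : S ⊓ Subgroup.centralizer (S : Set Ω) ≤ P := (h.center_le_Z2 hp).trans le_sup_left
  -- index of the centre
  have hidx : ((S ⊓ Subgroup.centralizer (S : Set Ω)).subgroupOf P).index = p ^ 2 := by
    have h1 := Subgroup.card_mul_index ((S ⊓ Subgroup.centralizer (S : Set Ω)).subgroupOf P)
    rw [Nat.card_congr (Subgroup.subgroupOfEquivOfLe hZP).toEquiv, h.card_center hp, hcardP] at h1
    have h2 : p ^ (n - 2 + 1) = p ^ (n - 3) * p ^ 2 := by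
      rw [← pow_add]; congr 1; omega
    rw [h2] at h1
    exact Nat.eq_of_mul_eq_mul_left (pow_pos hp.pos _) h1
  have hZn : ((S ⊓ Subgroup.centralizer (S : Set Ω)).subgroupOf P).Normal := by
    constructor
    intro c hc a
    rw [Subgroup.mem_subgroupOf] at hc ⊢
    have h1 : (a : Ω) * (c : Ω) = (c : Ω) * (a : Ω) := central_comm hc (hPS a.2)
    have h2 : ((a * c * a⁻¹ : ↥P) : Ω) = c := by
      show (a : Ω) * (c : Ω) * (a : Ω)⁻¹ = c
      rw [h1, mul_inv_cancel_right]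
    rw [h2]
    exact hc
  have hcomm : ∀ a ∈ P, ∀ b ∈ P, a * b * a⁻¹ * b⁻¹ ∈ S ⊓ Subgroup.centralizer (S : Set Ω) := by
    intro a ha b hb
    have hcardQ : Nat.card (↥P ⧸ (S ⊓ Subgroup.centralizer (S : Set Ω)).subgroupOf P) = p ^ 2 := by
      rw [← Subgroup.index_eq_card]; exact hidx
    have hQc := IsPGroup.isMulCommutative_of_card_eq_prime_sq hcardQ
    have h1 : ((⟨a, ha⟩ * ⟨b, hb⟩ * ⟨a, ha⟩⁻¹ * ⟨b, hb⟩⁻¹ : ↥P) :
        ↥P ⧸ (S ⊓ Subgroup.centralizer (S : Set Ω)).subgroupOf P) = 1 := by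
      rw [QuotientGroup.mk_mul, QuotientGroup.mk_mul, QuotientGroup.mk_mul, QuotientGroup.mk_inv,
        QuotientGroup.mk_inv]
      rw [hQc.is_comm.comm (QuotientGroup.mk ⟨a, ha⟩) (QuotientGroup.mk ⟨b, hb⟩)]
      group
    rw [QuotientGroup.eq_one_iff, Subgroup.mem_subgroupOf] at h1
    exact h1
  have hinv : ∀ α ∈ F.autGroup P, ∀ a : ↥P, (a : Ω) ∈ S ⊓ Subgroup.centralizer (S : Set Ω) →
      ((α a : ↥P) : Ω) ∈ S ⊓ Subgroup.centralizer (S : Set Ω) := by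
    intro α _ a ha
    apply h.PP_center hS hg hgA (α a).2
    intro b hb
    obtain ⟨b', hb'⟩ := α.surjective ⟨b, hb⟩
    have h1 : a * b' = b' * a := Subtype.ext (central_comm ha (hPS b'.2)).symm
    have h2 := congrArg (fun u : ↥P => ((α u : ↥P) : Ω)) h1
    simp only [map_mul, Subgroup.coe_mul, hb'] at h2
    exact h2
  -- the kernel hypothesis
  have hzpS : z ^ p ∈ S ⊓ Subgroup.centralizer (S : Set Ω) := (h.center_eq_zpowers hp).2 ⟨1, (pow_one _).symm⟩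
  have hker : ∀ α ∈ F.autGroup P, (∀ a : ↥P, (a : Ω)⁻¹ * ((α a : ↥P) : Ω) ∈
      S ⊓ Subgroup.centralizer (S : Set Ω)) → ∃ k : ℕ, α ^ (p ^ k) = 1 := by
    intro α _ hα
    obtain ⟨e, hwe, hw1⟩ := h.comm_y_g hg hgA
    have hwc := h.nf_q_mem_center hp e
    have hwp := h.nf_q_pow e
    obtain ⟨kw, hkw⟩ := (h.center_eq_zpowers hp).1 hwc
    have hζc : (⟨z ^ p, hZP hzpS⟩ : ↥P) ∈ Subgroup.center ↥P := by
      rw [Subgroup.mem_center_iff]
      intro b
      exact Subtype.ext (central_comm hzpS (hPS b.2))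
    refine Cfsg.Agent.Lib.Helper45_ResistKer.exists_pow_eq_one (hS.to_le hPS) ⟨z ^ p, hZP hzpS⟩ hζc α ?_
      ⟨nf y z 0 (p ^ (n - 3) * e), hZP hwc⟩ ?_ ?_ ?_ ⟨y, h.y_mem_PP g⟩ ⟨g, hgP⟩ ?_
    · intro a
      obtain ⟨k', hk'⟩ := (h.center_eq_zpowers hp).1 (hα a)
      rw [Subgroup.mem_zpowers_iff]
      refine ⟨(k' : ℤ), Subtype.ext ?_⟩
      rw [zpow_natCast]
      show (z ^ p) ^ k' = (a : Ω)⁻¹ * ((α a : ↥P) : Ω)
      exact hk'.symm
    · rw [Subgroup.mem_zpowers_iff]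
      refine ⟨(kw : ℤ), Subtype.ext ?_⟩
      rw [zpow_natCast]
      show (z ^ p) ^ kw = nf y z 0 (p ^ (n - 3) * e)
      exact hkw.symm
    · intro h1
      exact hw1 (congrArg Subtype.val h1)
    · exact Subtype.ext hwp
    · exact Subtype.ext hwe.symm
  obtain ⟨ψ, hψ, -, e₀, he₀N, he₀P, he₀ψ, t, htN, hte⟩ :=
    Cfsg.Agent.Lib.Helper45_ResistExt.exists_torus_extension p hS F hF P hP
      (S ⊓ Subgroup.centralizer (S : Set Ω)) hinv hidx hcomm (fun a ha => h.PP_pow_p hS hg hgA ha) hker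
      ((p + 1) / 2) 2 (h.half_mul_two hp)
  have htS : t ∈ S := (Subgroup.mem_inf.1 htN).1
  -- `e₀ ∉ A`
  have he₀S : e₀ ∈ S := hPS he₀P
  have he₀A : e₀ ∉ h.AA := by
    intro hA
    exact hte (Z2_conj (h.PP_inf_AA hS hg hgA he₀P hA) htS)
  -- `S` normalizes `P`
  have hSN : S ≤ Subgroup.normalizer (P : Set Ω) := by
    apply le_normalizer_of_card hS hPS
    rw [h.card, hcardP, ← pow_succ]
    congr 1
    omega
  have hle : S ≤ normalizerIn S P := le_inf le_rfl hSN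
  have hψ' := Cfsg.Agent.Lib.Helper85_Fusion.restrict_mem F hle hψ
  obtain ⟨r, hr1, hr⟩ := h.aut_claim hS (ψ.comp (Subgroup.inclusion hle))
    (F.injective_of_mem hψ') (fun u => (F.le_of_mem hψ').2 u)
  have h1 := hr ⟨e₀, he₀S⟩
  have h2 : (ψ.comp (Subgroup.inclusion hle)) ⟨e₀, he₀S⟩ = ψ ⟨e₀, he₀N⟩ := rfl
  rw [h2] at h1
  have h3 : ψ ⟨e₀, he₀N⟩ = e₀ ^ 2 * ((e₀ ^ 2)⁻¹ * ψ ⟨e₀, he₀N⟩) := by group
  have hcS : (e₀ ^ 2)⁻¹ * ψ ⟨e₀, he₀N⟩ ∈ S := (Subgroup.mem_inf.1 he₀ψ).1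
  have h4 : eps p x y z ((e₀ ^ 2)⁻¹ * ψ ⟨e₀, he₀N⟩) = 0 :=
    (h.eps_eq_zero_iff hp hcS).2 (h.center_le_AA hp he₀ψ)
  rw [h3, h.eps_mul hp (S.pow_mem he₀S 2) hcS, h4, add_zero, h.eps_pow hp he₀S] at h1
  have h5 : ((2 : ℕ) : ZMod p) = r :=
    mul_right_cancel₀ (h.eps_g_ne he₀S he₀A) h1
  rw [← h5] at hr1
  apply h.three_ne_zero
  have : ((2 : ℕ) : ZMod p) * ((2 : ℕ) : ZMod p) - 1 = 0 := by rw [hr1, sub_self]
  rw [← this]
  push_cast
  ring

end FC

end Cfsg.Agent.Lib.Helper45_ResistStruct
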