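import Mathlib
import Cfsg.Agent.Lib.Helper45_ResistApps2

/-!
# Rank two `p`-groups of Blackburn's third family: `Z(S)⟨g⟩` is not essential (helper45)
-/

set_option autoImplicit false

namespace Cfsg.Agent.Lib.Helper45_ResistStruct

open Cfsg Cfsg.FusionSystem

variable {Ω : Type*} [Group Ω]

namespace FC

variable {p n s : ℕ} {x y z : Ω} {S : Subgroup Ω}

/-- `Z(S)⟨g⟩`, `g ∉ A`, is not essential -/
theorem not_isEssential_ZZ [Finite S] [Fact p.Prime] (h : FC p n s x y z S) (hS : IsPGroup p S)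
    (F : FusionSystem S) (hF : F.IsSaturated p) {g : Ω} (hg : g ∈ S) (hgA : g ∉ h.AA)
    (hNidx : (((S ⊓ Subgroup.centralizer (S : Set Ω)) ⊔ Subgroup.zpowers g).subgroupOf
      (S ⊓ Subgroup.normalizer
        (((S ⊓ Subgroup.centralizer (S : Set Ω)) ⊔ Subgroup.zpowers g : Subgroup Ω) : Set Ω))).index = p) :
    ¬ F.IsEssential p ((S ⊓ Subgroup.centralizer (S : Set Ω)) ⊔ Subgroup.zpowers g) := by
  intro hP
  have hp : p.Prime := Fact.out
  have hn := h.hn
  set P := (S ⊓ Subgroup.centralizer (S : Set Ω)) ⊔ Subgroup.zpowers g with hPdef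
  have hPS : P ≤ S := hP.1.1
  have hgP : g ∈ P := (le_sup_right : Subgroup.zpowers g ≤ P) (Subgroup.mem_zpowers g)
  have hZP : S ⊓ Subgroup.centralizer (S : Set Ω) ≤ P := le_sup_left
  have hfinP : Finite P := Finite.of_injective (Subgroup.inclusion hPS) (Subgroup.inclusion_injective _)
  have hzpS : z ^ p ∈ S ⊓ Subgroup.centralizer (S : Set Ω) :=
    (h.center_eq_zpowers hp).2 ⟨1, (pow_one _).symm⟩
  have hZeq : S ⊓ Subgroup.centralizer (S : Set Ω) = Subgroup.zpowers (z ^ p) := by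
    apply le_antisymm
    · intro c hc
      obtain ⟨k', rfl⟩ := (h.center_eq_zpowers hp).1 hc
      exact Subgroup.pow_mem _ (Subgroup.mem_zpowers _) _
    · exact Subgroup.zpowers_le.2 hzpS
  obtain ⟨⟨hPc, hPe⟩, hcardP⟩ := Cfsg.Agent.Lib.Helper45_ResistCore.two_gen_comm p hS F hF h.hp5 P hP
    (z ^ p) g (central_comm hzpS hg).symm (by rw [hPdef, hZeq])
  have hPcomm : ∀ a ∈ P, ∀ b ∈ P, a * b = b * a := fun a ha b hb =>
    congrArg Subtype.val (hPc.is_comm.comm (⟨a, ha⟩ : ↥P) ⟨b, hb⟩)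
  have hgZ : g ∉ S ⊓ Subgroup.centralizer (S : Set Ω) := fun hgz => hgA (h.center_le_AA hp hgz)
  have hZlt : S ⊓ Subgroup.centralizer (S : Set Ω) < P :=
    lt_of_le_of_ne hZP (fun heq => hgZ (by rw [heq]; exact hgP))
  have hn4 : n = 4 := by
    by_contra hne
    have h5 : 5 ≤ n := by omega
    apply hZlt.ne
    apply Subgroup.eq_of_le_of_card_ge hZP
    rw [hcardP, h.card_center hp]
    exact Nat.pow_le_pow_right hp.pos (by omega)
  have hcardS : Nat.card S = p ^ (3 + 1) := by rw [h.card, hn4]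
  have hcardZ2 : Nat.card (Z2 S) = p ^ 2 := by rw [h.card_Z2 hp, hn4]
  -- the torus extension
  have hinv : ∀ α ∈ F.autGroup P, ∀ a : ↥P, (a : Ω) ∈ (⊥ : Subgroup Ω) →
      ((α a : ↥P) : Ω) ∈ (⊥ : Subgroup Ω) := by
    intro α _ a ha
    rw [Subgroup.mem_bot] at ha ⊢
    have : a = 1 := Subtype.ext ha
    rw [this, map_one]
    rfl
  have hidx : ((⊥ : Subgroup Ω).subgroupOf P).index = p ^ 2 := by
    rw [Subgroup.bot_subgroupOf, Subgroup.index_bot, hcardP]
  have hcomm : ∀ a ∈ P, ∀ b ∈ P, a * b * a⁻¹ * b⁻¹ ∈ (⊥ : Subgroup Ω) := by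
    intro a ha b hb
    rw [Subgroup.mem_bot, hPcomm a ha b hb]
    group
  have hexp : ∀ a ∈ P, a ^ p ∈ (⊥ : Subgroup Ω) := by
    intro a ha
    rw [Subgroup.mem_bot]
    exact hPe a ha
  have hker : ∀ α ∈ F.autGroup P, (∀ a : ↥P, (a : Ω)⁻¹ * ((α a : ↥P) : Ω) ∈ (⊥ : Subgroup Ω)) →
      ∃ k : ℕ, α ^ (p ^ k) = 1 := by
    intro α _ hα
    refine ⟨0, ?_⟩
    rw [pow_zero, pow_one]
    ext a
    have := hα a
    rw [Subgroup.mem_bot, inv_mul_eq_one] at this
    rw [MulAut.one_apply]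
    exact this.symm
  obtain ⟨ψ, hψ, hψP, e₀, he₀N, he₀P, he₀ψ, t, htN, hte⟩ :=
    Cfsg.Agent.Lib.Helper45_ResistExt.exists_torus_extension p hS F hF P hP
      ⊥ hinv hidx hcomm hexp hker ((p + 1) / 2) 2 (h.half_mul_two hp)
  have htS : t ∈ S := (Subgroup.mem_inf.1 htN).1
  have he₀S : e₀ ∈ S := hPS he₀P
  have hψe : ψ ⟨e₀, he₀N⟩ = e₀ ^ 2 := by
    rw [Subgroup.mem_bot, inv_mul_eq_one] at he₀ψ
    exact he₀ψ.symm
  have he₀A : e₀ ∉ h.AA := by
    intro hA
    apply hte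
    have hcen : e₀ ∈ S ⊓ Subgroup.centralizer (S : Set Ω) :=
      (h.abIdx hS).mem_center_of_comm hp hg hgA hA (hPcomm e₀ he₀P g hgP)
    rw [Subgroup.mem_bot, central_comm hcen htS, mul_inv_cancel_right, inv_mul_cancel]
  -- the normalizer of `P`
  have hN1S : (normalizerIn S P) ≤ S := inf_le_left
  have hfinN1 : Finite (normalizerIn S P) := Finite.of_injective (Subgroup.inclusion hN1S) (Subgroup.inclusion_injective _)
  have hPN1 : P ≤ (normalizerIn S P) := le_inf hPS Subgroup.le_normalizer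
  have hcardN1 : Nat.card (normalizerIn S P) = p ^ (2 + 1) := by
    have := (Cfsg.Agent.Lib.Helper87_IndexP.index_subgroupOf_eq_iff hPN1).1 hNidx
    rw [this, hcardP]
    exact (pow_succ p 2).symm
  have hZ2N1 : Z2 S ≤ (normalizerIn S P) := by
    intro u hu
    obtain ⟨huS, hu'⟩ := (mem_Z2_iff S).1 hu
    refine Subgroup.mem_inf.2 ⟨huS, mem_normalizer_of_conj_mem (fun a ha => ?_)⟩
    have h1 : u * a * u⁻¹ = (u * a * u⁻¹ * a⁻¹) * a := by group
    rw [h1]
    exact P.mul_mem (hZP (hu' a (hPS ha))) ha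
  have hN1eq : Z2 S ⊔ Subgroup.zpowers g = (normalizerIn S P) := by
    have hlt : Z2 S < Z2 S ⊔ Subgroup.zpowers g :=
      lt_of_le_of_ne le_sup_left
        (fun heq => hgA (h.Z2_le_AA hp (by rw [heq]; exact g_mem_PP S g)))
    exact eq_of_lt_of_card hp hlt (sup_le hZ2N1 (Subgroup.zpowers_le.2 (hPN1 hgP))) hcardZ2 hcardN1
  have hness : ¬ F.IsEssential p (normalizerIn S P) := by
    rw [← hN1eq]
    exact h.not_isEssential_PP hS F hF hg hgA
  have hN1lt : (normalizerIn S P) < S := by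
    refine lt_of_le_of_ne hN1S (fun heq => ?_)
    have h1 : Nat.card (normalizerIn S P) = Nat.card S := by rw [heq]
    rw [hcardN1, hcardS] at h1
    have := Nat.pow_right_injective hp.two_le h1
    omega
  have hSN1 : S ≤ Subgroup.normalizer ((normalizerIn S P) : Set Ω) := by
    apply le_normalizer_of_card hS hN1S
    rw [hcardS, hcardN1, ← pow_succ]
  have hfn : F.IsFullyNormalized (normalizerIn S P) := by
    refine ⟨hN1S, fun Q _ => ?_⟩
    have h1 : normalizerIn S (normalizerIn S P) = S := inf_eq_left.2 hSN1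
    rw [h1]
    exact Subgroup.card_le_of_le inf_le_left
  have hcl := Cfsg.Agent.Lib.Helper84_FusionEssential.autGroup_le_extClosure_of_not_isEssential
    hS F hF hN1lt hfn hness
  -- `ψ` maps `(normalizerIn S P)` into itself
  have hψinj := F.injective_of_mem hψ
  have hsurj : ∀ a ∈ P, ∃ (a' : Ω) (ha' : a' ∈ P), ψ ⟨a', hPN1 ha'⟩ = a := by
    let f : ↥P → ↥P := fun a => ⟨ψ ⟨a, hPN1 a.2⟩, hψP _ _ a.2⟩
    have hf : Function.Injective f := by
      intro a b hab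
      have h1 : ψ ⟨a, hPN1 a.2⟩ = ψ ⟨b, hPN1 b.2⟩ := congrArg Subtype.val hab
      have h2 := hψinj h1
      exact Subtype.ext (Subtype.mk.inj h2)
    intro a ha
    obtain ⟨a', ha'⟩ := (Finite.injective_iff_surjective.1 hf) ⟨a, ha⟩
    exact ⟨a', a'.2, congrArg Subtype.val ha'⟩
  have hψN : ∀ u : ↥(normalizerIn S P), ψ u ∈ (normalizerIn S P) := by
    intro u
    refine Subgroup.mem_inf.2 ⟨(F.le_of_mem hψ).2 u, mem_normalizer_of_conj_mem (fun a ha => ?_)⟩
    obtain ⟨a', ha', rfl⟩ := hsurj a ha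
    have hu : (u : Ω) ∈ Subgroup.normalizer (P : Set Ω) := (Subgroup.mem_inf.1 u.2).2
    have h1 : (u : Ω) * a' * (u : Ω)⁻¹ ∈ P := (Subgroup.mem_normalizer_iff.1 hu a').1 ha'
    have h2 : ψ u * ψ ⟨a', hPN1 ha'⟩ * (ψ u)⁻¹ = ψ ⟨(u : Ω) * a' * (u : Ω)⁻¹, hPN1 h1⟩ := by
      rw [← map_inv, ← map_mul, ← map_mul]
      rfl
    rw [h2]
    exact hψP _ _ h1
  obtain ⟨γ, hγ, hγψ⟩ := exists_aut_of_hom F hψ hψN
  -- all elements of the closure act on `S / A` by a sign
  have hall : ∀ α ∈ Cfsg.Agent.Lib.Helper84_FusionEssential.extClosure F (normalizerIn S P),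
      ∃ r : ZMod p, r * r = 1 ∧ ∀ u : ↥(normalizerIn S P), eps p x y z ((α u : ↥(normalizerIn S P)) : Ω) = r * eps p x y z (u : Ω) := by
    intro α hα
    unfold Cfsg.Agent.Lib.Helper84_FusionEssential.extClosure at hα
    induction hα using Subgroup.closure_induction with
    | mem α hα =>
      obtain ⟨Q, hlt, φ, hφ, hφα⟩ := hα
      have hQS : Q ≤ S := (F.le_of_mem hφ).1
      have hQeq : Q = S := eq_of_lt_of_card hp hlt hQS hcardN1 hcardS
      have hφ' := Cfsg.Agent.Lib.Helper85_Fusion.restrict_mem F hQeq.ge hφ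
      obtain ⟨r, hr1, hr⟩ := h.aut_claim hS (φ.comp (Subgroup.inclusion hQeq.ge))
        (F.injective_of_mem hφ') (fun u => (F.le_of_mem hφ').2 u)
      refine ⟨r, hr1, fun u => ?_⟩
      rw [← hφα u]
      exact hr ⟨u, hN1S u.2⟩
    | one => exact ⟨1, one_mul 1, fun u => by rw [MulAut.one_apply, one_mul]⟩
    | mul α β _ _ ha hb =>
      obtain ⟨r1, h1, h1'⟩ := ha
      obtain ⟨r2, h2, h2'⟩ := hb
      refine ⟨r1 * r2, by rw [mul_mul_mul_comm, h1, h2, one_mul], fun u => ?_⟩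
      rw [MulAut.mul_apply, h1', h2', mul_assoc]
    | inv α _ ha =>
      obtain ⟨r, h1, h1'⟩ := ha
      refine ⟨r, h1, fun u => ?_⟩
      have := h1' (α⁻¹ u)
      rw [MulAut.apply_inv_self] at this
      rw [this, ← mul_assoc, h1, one_mul]
  obtain ⟨r, hr1, hr⟩ := hall γ (hcl hγ)
  have h1 := hr ⟨e₀, he₀N⟩
  rw [hγψ, hψe, h.eps_pow hp he₀S] at h1
  have h5 : ((2 : ℕ) : ZMod p) = r :=
    mul_right_cancel₀ (h.eps_g_ne he₀S he₀A) h1
  rw [← h5] at hr1
  apply h.three_ne_zero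
  have : ((2 : ℕ) : ZMod p) * ((2 : ℕ) : ZMod p) - 1 = 0 := by rw [hr1, sub_self]
  rw [← this]
  push_cast
  ring

end FC

end Cfsg.Agent.Lib.Helper45_ResistStruct
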