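import Mathlib
import Cfsg.Agent.Lib.Helper20_PGroupOdd

/-!
# Rank two `p`-groups of Blackburn's second family (helper45)

`G = ⟨x, y, z⟩` with `x ^ p = y ^ p = 1`, `z` central, `x⁻¹ y x = y z ^ q`.
Normal forms `x ^ i * y ^ j * z ^ k`, the bound `|G| ≤ p² |z|`, and exponent `p` when `z ^ p = 1`.
-/

set_option autoImplicit false

namespace Cfsg.Agent.Lib.Helper45_ResistFamB

variable {G : Type*} [Group G]

/-- The presentation data of Blackburn's second family. -/
structure FB (p q : ℕ) (x y z : G) : Prop where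
  gen : Subgroup.closure ({x, y, z} : Set G) = ⊤
  xp : x ^ p = 1
  yp : y ^ p = 1
  xz : x * z = z * x
  yz : y * z = z * y
  xy : x⁻¹ * y * x = y * z ^ q

namespace FB

variable {p q : ℕ} {x y z : G}

theorem z_central (h : FB p q x y z) (g : G) : g * z = z * g := by
  have h1 : Subgroup.closure ({x, y, z} : Set G) ≤ Subgroup.centralizer {z} := by
    rw [Subgroup.closure_le]
    intro t ht
    rw [SetLike.mem_coe, Subgroup.mem_centralizer_iff]
    intro w hw
    rw [Set.mem_singleton_iff] at hw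
    subst hw
    simp only [Set.mem_insert_iff, Set.mem_singleton_iff] at ht
    rcases ht with rfl | rfl | rfl
    · exact h.xz.symm
    · exact h.yz.symm
    · rfl
  have h2 : g ∈ Subgroup.centralizer {z} := h1 (by rw [h.gen]; trivial)
  rw [Subgroup.mem_centralizer_iff] at h2
  exact (h2 z rfl).symm

theorem zpow_central (h : FB p q x y z) (k : ℕ) (g : G) : g * z ^ k = z ^ k * g :=
  (Commute.pow_right (show Commute g z from h.z_central g) k).eq

theorem yx (h : FB p q x y z) : y * x = x * y * z ^ q := by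
  rw [mul_assoc, ← h.xy]; group

theorem conj_y (h : FB p q x y z) (i : ℕ) : y * x ^ i = x ^ i * y * z ^ (q * i) := by
  induction i with
  | zero => simp
  | succ i ih =>
    calc y * x ^ (i + 1) = (y * x ^ i) * x := by rw [pow_succ, mul_assoc]
      _ = x ^ i * y * (z ^ (q * i) * x) := by rw [ih]; group
      _ = x ^ i * y * (x * z ^ (q * i)) := by rw [h.zpow_central (q * i) x]
      _ = x ^ i * (y * x) * z ^ (q * i) := by group
      _ = x ^ i * (x * y * z ^ q) * z ^ (q * i) := by rw [h.yx]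
      _ = x ^ (i + 1) * y * (z ^ q * z ^ (q * i)) := by rw [pow_succ]; group
      _ = x ^ (i + 1) * y * z ^ (q * (i + 1)) := by rw [← pow_add]; congr 2; ring

theorem conj_yj (h : FB p q x y z) (i j : ℕ) : y ^ j * x ^ i = x ^ i * y ^ j * z ^ (q * i * j) := by
  induction j with
  | zero => simp
  | succ j ih =>
    calc y ^ (j + 1) * x ^ i = y ^ j * (y * x ^ i) := by rw [pow_succ, mul_assoc]
      _ = (y ^ j * x ^ i) * y * z ^ (q * i) := by rw [h.conj_y]; group
      _ = x ^ i * y ^ j * (z ^ (q * i * j) * y) * z ^ (q * i) := by rw [ih]; group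
      _ = x ^ i * y ^ j * (y * z ^ (q * i * j)) * z ^ (q * i) := by rw [h.zpow_central _ y]
      _ = x ^ i * y ^ (j + 1) * (z ^ (q * i * j) * z ^ (q * i)) := by rw [pow_succ]; group
      _ = x ^ i * y ^ (j + 1) * z ^ (q * i * (j + 1)) := by rw [← pow_add]; congr 2

theorem mul_law (h : FB p q x y z) (i j k i' j' k' : ℕ) :
    (x ^ i * y ^ j * z ^ k) * (x ^ i' * y ^ j' * z ^ k') =
      x ^ (i + i') * y ^ (j + j') * z ^ (k + k' + q * i' * j) := by
  calc (x ^ i * y ^ j * z ^ k) * (x ^ i' * y ^ j' * z ^ k')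
      = x ^ i * y ^ j * (z ^ k * (x ^ i' * y ^ j')) * z ^ k' := by group
    _ = x ^ i * y ^ j * ((x ^ i' * y ^ j') * z ^ k) * z ^ k' := by rw [h.zpow_central k]
    _ = x ^ i * (y ^ j * x ^ i') * y ^ j' * z ^ k * z ^ k' := by group
    _ = x ^ i * (x ^ i' * y ^ j * z ^ (q * i' * j)) * y ^ j' * z ^ k * z ^ k' := by rw [h.conj_yj]
    _ = x ^ i * x ^ i' * y ^ j * (z ^ (q * i' * j) * y ^ j') * z ^ k * z ^ k' := by group
    _ = x ^ i * x ^ i' * y ^ j * (y ^ j' * z ^ (q * i' * j)) * z ^ k * z ^ k' := by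
        rw [h.zpow_central _ (y ^ j')]
    _ = (x ^ i * x ^ i') * (y ^ j * y ^ j') * (z ^ (q * i' * j) * z ^ k * z ^ k') := by group
    _ = x ^ (i + i') * y ^ (j + j') * z ^ (k + k' + q * i' * j) := by
        rw [← pow_add, ← pow_add, ← pow_add, ← pow_add]; congr 2; ring

theorem exists_form [Finite G] (h : FB p q x y z) (g : G) : ∃ i j k : ℕ, g = x ^ i * y ^ j * z ^ k := by
  have hfin : ∀ t ∈ ({x, y, z} : Set G), IsOfFinOrder t := fun t _ => isOfFinOrder_of_finite t
  have hg' : g ∈ (Subgroup.closure ({x, y, z} : Set G)).toSubmonoid := by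
    rw [h.gen]; trivial
  rw [Subgroup.closure_toSubmonoid_of_isOfFinOrder hfin] at hg'
  induction hg' using Submonoid.closure_induction with
  | mem t ht =>
    simp only [Set.mem_insert_iff, Set.mem_singleton_iff] at ht
    rcases ht with rfl | rfl | rfl
    · exact ⟨1, 0, 0, by simp⟩
    · exact ⟨0, 1, 0, by simp⟩
    · exact ⟨0, 0, 1, by simp⟩
  | one => exact ⟨0, 0, 0, by simp⟩
  | mul a b _ _ ha hb =>
    obtain ⟨i, j, k, rfl⟩ := ha
    obtain ⟨i', j', k', rfl⟩ := hb
    exact ⟨_, _, _, h.mul_law i j k i' j' k'⟩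

theorem card_le [Finite G] (h : FB p q x y z) (hp : 0 < p) : Nat.card G ≤ p * p * orderOf z := by
  have ho : 0 < orderOf z := orderOf_pos z
  let f : Fin p × Fin p × Fin (orderOf z) → G := fun t =>
    x ^ (t.1 : ℕ) * y ^ (t.2.1 : ℕ) * z ^ (t.2.2 : ℕ)
  have hsurj : Function.Surjective f := by
    intro g
    obtain ⟨i, j, k, rfl⟩ := h.exists_form g
    refine ⟨(⟨i % p, Nat.mod_lt _ hp⟩, ⟨j % p, Nat.mod_lt _ hp⟩, ⟨k % orderOf z, Nat.mod_lt _ ho⟩), ?_⟩
    show x ^ (i % p) * y ^ (j % p) * z ^ (k % orderOf z) = x ^ i * y ^ j * z ^ k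
    rw [pow_mod_orderOf z k]
    congr 2
    · exact (pow_eq_pow_mod i h.xp).symm
    · exact (pow_eq_pow_mod j h.yp).symm
  have := Nat.card_le_card_of_surjective f hsurj
  rw [Nat.card_prod, Nat.card_prod, Nat.card_fin, Nat.card_fin, ← mul_assoc] at this
  exact this

theorem pow_p_eq_one [Finite G] (h : FB p q x y z) (hp : p.Prime) (hp2 : p ≠ 2) (hzp : z ^ p = 1)
    (g : G) : g ^ p = 1 := by
  obtain ⟨i, j, k, rfl⟩ := h.exists_form g
  have hc : Commute (x ^ i * y ^ j) (z ^ k) := h.zpow_central k _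
  rw [hc.mul_pow]
  have h1 : y ^ j * x ^ i = z ^ (q * i * j) * x ^ i * y ^ j := by
    rw [h.conj_yj, mul_assoc (z ^ (q * i * j)), ← h.zpow_central]
  have h2 := Cfsg.Agent.Lib.Helper20_PGroupOdd.mul_pow_prime_of_comm hp hp2 h1
    (show Commute (z ^ (q * i * j)) (x ^ i) from (h.zpow_central _ _).symm)
    (show Commute (z ^ (q * i * j)) (y ^ j) from (h.zpow_central _ _).symm)
    (by rw [← pow_mul, mul_comm, pow_mul, hzp, one_pow])
  rw [h2, ← pow_mul, ← pow_mul, ← pow_mul, mul_comm i, mul_comm j, mul_comm k, pow_mul, pow_mul,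
    pow_mul, h.xp, h.yp, hzp, one_pow, one_pow, one_pow, one_mul, one_mul]

theorem exponent_eq [Finite G] (h : FB p q x y z) (hp : p.Prime) (hp2 : p ≠ 2) (hzp : z ^ p = 1)
    (hcard : 1 < Nat.card G) : Monoid.exponent G = p := by
  have h1 : Monoid.exponent G ∣ p := Monoid.exponent_dvd_of_forall_pow_eq_one (h.pow_p_eq_one hp hp2 hzp)
  rcases (Nat.dvd_prime hp).1 h1 with h2 | h2
  · exfalso
    have h3 : ∀ g : G, g = 1 := fun g => by
      have := Monoid.pow_exponent_eq_one g
      rwa [h2, pow_one] at this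
    have : Nat.card G = 1 := by
      rw [Nat.card_eq_one_iff_unique]
      exact ⟨⟨fun a b => by rw [h3 a, h3 b]⟩, ⟨1⟩⟩
    omega
  · exact h2

end FB

end Cfsg.Agent.Lib.Helper45_ResistFamB
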