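import Mathlib
import Cfsg.Agent.Lib.Helper87_IndexP
import Cfsg.Agent.Lib.Helper87_Normal
import Cfsg.Agent.Lib.Helper87_ExtraIdx
import Cfsg.Agent.Lib.Helper87_Alperin
import Cfsg.Agent.Lib.Helper88_Essential
import Cfsg.Agent.S5080
import Cfsg.Agent.Lib.Helper48_SPE
import Cfsg.Agent.Lib.Helper84_Stability
import Cfsg.Agent.Lib.Helper84_RelSylow
import Cfsg.Agent.Lib.Helper84_FusionSat
import Cfsg.Agent.Lib.Helper84_FusionRS
import Cfsg.Agent.Lib.Helper88_AbelianEssential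

/-!
# Essential subgroups of `p`-groups with a unique abelian subgroup of index `p` (helper87)

`S` a finite nonabelian `p`-group with a unique abelian subgroup `A` of index `p`, `F` a saturated fusion system on `S`,
`P ≠ A` an essential subgroup.  Then `P = Z(S)⟨x⟩` or `P = Z₂(S)⟨x⟩`, and `|N_S(P) : P| = p`.
-/

set_option autoImplicit false
set_option linter.unusedSectionVars false

namespace Cfsg.Agent.Lib.Helper87_IndexP2

open Cfsg Cfsg.FusionSystem Cfsg.Agent.Lib.Helper87_Alperin Cfsg.Agent.Lib.Helper87_IndexP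
  Cfsg.Agent.Lib.Helper87_ExtraIdx

variable {Ω : Type*} [Group Ω] {S : Subgroup Ω}

/-- **Radical chain lemma.**  Let `P` be a radical subgroup containing its centralizer in `S`, `N ≤ P` invariant under
`Aut_F(P)`.  An element of `N_S(P)` centralizing `N` and `P/N` lies in `P`. -/
theorem mem_of_stabilizes [Finite S] {p : ℕ} [Fact p.Prime] (hS : IsPGroup p S) {F : FusionSystem S}
    {P N : Subgroup Ω} (hPS : P ≤ S) (hcen : centralizerIn S P ≤ P) (hrad : F.IsRadical p P)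
    (hNinv : ∀ α ∈ F.autGroup P, ∀ y : P, (y : Ω) ∈ N → ((α y : P) : Ω) ∈ N)
    {d : Ω} (hdS : d ∈ S) (hdN : d ∈ Subgroup.normalizer (P : Set Ω))
    (h1 : ∀ y ∈ P, y⁻¹ * (d * y * d⁻¹) ∈ N) (h2 : ∀ n ∈ N, d * n * d⁻¹ = n) : d ∈ P := by
  classical
  have : Finite P := Finite.of_injective (Subgroup.inclusion hPS) (Subgroup.inclusion_injective hPS)
  have hPp : IsPGroup p P := hS.to_le hPS
  set β := P.normalizerMonoidHom ⟨d, hdN⟩ with hβ
  have hβA : β ∈ F.autGroup P := normalizerMonoidHom_mem_autGroup F hPS hdS hdN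
  have hβapp : ∀ y : P, ((β y : P) : Ω) = d * y * d⁻¹ := fun y => rfl
  let D : ℕ → Subgroup Ω := fun j => if j = 0 then ⊥ else if j = 1 then N else P
  have hmem := Cfsg.Agent.Lib.Helper87_Normal.mem_pCore_of_stabilizes_chain hPp (F.autGroup P) D 2 rfl
    (le_of_eq rfl) (by
      intro j hj α hα y hy
      match j, hj, hy with
      | 0, _, hy =>
        have hy' : (y : Ω) ∈ (⊥ : Subgroup Ω) := hy
        rw [Subgroup.mem_bot] at hy'
        have : y = 1 := Subtype.ext hy'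
        rw [this, map_one]
        exact Subgroup.one_mem _
      | 1, _, hy => exact hNinv α hα y hy
      | 2, _, _ => exact (α y).2) β hβA (by
      intro j hj y hy
      match j, hj, hy with
      | 0, _, hy =>
        have hy' : (y : Ω) ∈ N := hy
        show (y : Ω)⁻¹ * ((β y : P) : Ω) ∈ (⊥ : Subgroup Ω)
        rw [hβapp, h2 _ hy', inv_mul_cancel]
        exact Subgroup.one_mem _
      | 1, _, _ =>
        show (y : Ω)⁻¹ * ((β y : P) : Ω) ∈ N
        rw [hβapp]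
        exact h1 y y.2)
  rw [hrad.2] at hmem
  obtain ⟨y, hy⟩ := hmem
  have hyd : ∀ t : P, (y : Ω) * t * (y : Ω)⁻¹ = d * t * d⁻¹ := by
    intro t
    have := congrArg (fun γ : MulAut P => ((γ t : P) : Ω)) hy
    rw [← hβapp t]
    simpa [MulAut.conj_apply] using this
  have hc : (y : Ω)⁻¹ * d ∈ centralizerIn S P := by
    refine ⟨S.mul_mem (S.inv_mem (hPS y.2)) hdS, ?_⟩
    show (y : Ω)⁻¹ * d ∈ Subgroup.centralizer (P : Set Ω)
    rw [Subgroup.mem_centralizer_iff]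
    intro t ht
    have h3 := hyd ⟨t, ht⟩
    have h4 : t * ((y : Ω)⁻¹ * d) = (y : Ω)⁻¹ * ((y : Ω) * t * (y : Ω)⁻¹) * d := by group
    rw [h4, h3]
    group
  have h5 := P.mul_mem y.2 (hcen hc)
  rw [mul_inv_cancel_left] at h5
  exact h5

section Abstract

variable {P : Type*} [Group P]

open Cfsg.Agent.Lib.Helper48_SPE Cfsg.Agent.Lib.Helper84_Stability

/-- With a strongly `p`-embedded subgroup, some conjugate of a `p`-subgroup `T` meets `T` trivially. -/
theorem exists_conj_inf_eq_bot [Finite P] {p : ℕ} [Fact p.Prime] (A : Subgroup (MulAut P))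
    (M : Subgroup A) (hM : SPE p M) (T : Subgroup (MulAut P)) (hTA : T ≤ A) (hT : IsPGroup p T) :
    ∃ α ∈ A, ∀ t ∈ T, α * t * α⁻¹ ∈ T → t = 1 := by
  have : Finite A := inferInstance
  obtain ⟨P₀, hP₀⟩ := hM.sylow_le
  have hT' : IsPGroup p (T.subgroupOf A) := hT.comap_subtype
  obtain ⟨g, hg⟩ := sylow_conj_into P₀ hT'
  have hM' := spe_conj hM g
  set M' := M.comap (MulAut.conj g).toMonoidHom with hM'def
  have hTM' : ∀ t (ht : t ∈ T), (⟨t, hTA ht⟩ : A) ∈ M' := by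
    intro t ht
    rw [hM'def, Subgroup.mem_comap]
    exact hP₀ (hg ⟨t, hTA ht⟩ (by rw [Subgroup.mem_subgroupOf]; exact ht))
  obtain ⟨k, hk⟩ : ∃ k : A, k ∉ M' := by
    by_contra hcon
    push Not at hcon
    exact hM'.2.1 (eq_top_iff.2 fun k _ => hcon k)
  refine ⟨k, k.2, fun t ht hkt => ?_⟩
  by_contra ht1
  apply hk
  have hQp : IsPGroup p (Subgroup.zpowers (⟨t, hTA ht⟩ : A)) :=
    hT'.to_le ((Subgroup.zpowers_le).2 (by rw [Subgroup.mem_subgroupOf]; exact ht))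
  have hQ1 : Subgroup.zpowers (⟨t, hTA ht⟩ : A) ≠ ⊥ := by
    intro h
    rw [Subgroup.zpowers_eq_bot] at h
    exact ht1 (congrArg Subtype.val h)
  refine hM'.mem_of_conj_le' hQp hQ1 ((Subgroup.zpowers_le).2 (hTM' t ht)) ?_
  rw [conj_smul_le_iff]
  intro y hy
  obtain ⟨n, rfl⟩ := Subgroup.mem_zpowers_iff.1 hy
  have h1 : k * (⟨t, hTA ht⟩ : A) ^ n * k⁻¹ = (k * ⟨t, hTA ht⟩ * k⁻¹) ^ n := conj_zpow.symm
  rw [h1]
  refine M'.zpow_mem ?_ n
  exact hTM' _ hkt

/-- Let `T` be a Sylow `p`-subgroup of `A ≤ Aut(P)` fixing `Z ≤ P` elementwise and `α ∈ A` with `T ∩ αTα⁻¹ = 1`.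
An element `t ∈ T` with `[P, t] ≤ Z ∩ α(Z)` is trivial. -/
theorem eq_one_of_comm_mem_inf [Finite P] {p : ℕ} [Fact p.Prime] (hP : IsPGroup p P)
    (A : Subgroup (MulAut P)) (T : Subgroup (MulAut P))
    (hT : Cfsg.Agent.Lib.Helper84_RelSylow.IsSylowIn p T A) (Z : Subgroup P)
    (hfix : ∀ t ∈ T, ∀ z ∈ Z, t z = z) {α : MulAut P} (hα : α ∈ A)
    (hαT : ∀ t ∈ T, α * t * α⁻¹ ∈ T → t = 1) {t : MulAut P} (ht : t ∈ T)
    (hcomm : ∀ y, y⁻¹ * t y ∈ Z ⊓ Z.map α.toMonoidHom) : t = 1 := by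
  set C : Subgroup P := Z ⊓ Z.map α.toMonoidHom with hC
  set R₁ := stabilityGroup (chainY C) (chainY_mono C) A with hR₁
  have hR₁p : IsPGroup p R₁ := isPGroup_stabilityGroup hP rfl (chainY_mono C) (n := 2) rfl A
  set T' := T.map (MulAut.conj α).toMonoidHom with hT'
  have hT'syl : Cfsg.Agent.Lib.Helper84_RelSylow.IsSylowIn p T' A := by
    have h1 := hT.conj α
    have h2 : A.map (MulAut.conj α).toMonoidHom = A := by
      ext β
      constructor
      · rintro ⟨γ, hγ, rfl⟩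
        exact A.mul_mem (A.mul_mem hα hγ) (A.inv_mem hα)
      · intro hβ
        refine ⟨α⁻¹ * β * α, A.mul_mem (A.mul_mem (A.inv_mem hα) hβ) hα, ?_⟩
        show α * (α⁻¹ * β * α) * α⁻¹ = β
        group
    rw [h2] at h1
    exact h1
  -- elements of `T'` fix `C` elementwise
  have hT'fix : ∀ γ ∈ T', ∀ c ∈ C, γ c = c := by
    rintro _ ⟨s, hs, rfl⟩ c hc
    obtain ⟨z, hz, rfl⟩ := hc.2
    show (α * s * α⁻¹) (α z) = α z
    simp only [MulAut.mul_apply, MulAut.inv_apply_self]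
    rw [hfix s hs z hz]
  have hT'fixinv : ∀ γ ∈ T', ∀ c ∈ C, γ⁻¹ c = c := by
    intro γ hγ c hc
    have := hT'fix γ hγ c hc
    nth_rw 1 [← this]
    exact MulAut.inv_apply_self _ γ c
  -- `T'` normalizes `R₁`
  have hnorm : T' ≤ Subgroup.normalizer (R₁ : Set (MulAut P)) := by
    intro γ hγ
    rw [Subgroup.mem_normalizer_iff]
    have key : ∀ δ : MulAut P, δ ∈ T' → ∀ β ∈ R₁, δ * β * δ⁻¹ ∈ R₁ := by
      intro δ hδ β hβ
      have hδA : δ ∈ A := hT'syl.le hδ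
      refine ⟨A.mul_mem (A.mul_mem hδA hβ.1) (A.inv_mem hδA), ?_⟩
      have hβ0 : ∀ c ∈ C, β c = c := by
        intro c hc
        have := hβ.2 0 c hc
        have h0 : c⁻¹ * β c = 1 := Subgroup.mem_bot.1 this
        calc β c = c * (c⁻¹ * β c) := by group
          _ = c := by rw [h0, mul_one]
      have hβ1 : ∀ y, y⁻¹ * β y ∈ C := fun y => hβ.2 1 y (Subgroup.mem_top y)
      apply stabilizes_chainY
      · intro c hc
        simp only [MulAut.mul_apply]
        rw [hT'fixinv δ hδ c hc, hβ0 c hc, hT'fix δ hδ c hc]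
      · intro y
        simp only [MulAut.mul_apply]
        have h1 := hβ1 (δ⁻¹ y)
        have h2 : y⁻¹ * δ (β (δ⁻¹ y)) = δ ((δ⁻¹ y)⁻¹ * β (δ⁻¹ y)) := by
          rw [map_mul, map_inv, MulAut.apply_inv_self]
        rw [h2, hT'fix δ hδ _ h1]
        exact h1
    intro β
    constructor
    · intro hβ
      exact key γ hγ β hβ
    · intro hβ
      have := key γ⁻¹ (T'.inv_mem hγ) _ hβ
      have h3 : γ⁻¹ * (γ * β * γ⁻¹) * γ⁻¹⁻¹ = β := by group
      rw [h3] at this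
      exact this
  have hsup : IsPGroup p (R₁ ⊔ T' : Subgroup (MulAut P)) :=
    IsPGroup.to_sup_of_normal_left' hR₁p hT'syl.isPGroup hnorm
  have hle : R₁ ⊔ T' ≤ A := sup_le (stabilityGroup_le _ _ A) hT'syl.le
  have heq := hT'syl.eq_of_le le_sup_right hle hsup
  have htR : t ∈ R₁ := by
    refine ⟨hT.le ht, ?_⟩
    apply stabilizes_chainY
    · intro c hc
      exact hfix t ht c hc.1
    · exact hcomm
  have htT' : t ∈ T' := by
    rw [← heq]
    exact le_sup_left (a := R₁) htR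
  obtain ⟨s, hs, hst⟩ := htT'
  have hst' : α * s * α⁻¹ = t := hst
  have hs1 : s = 1 := hαT s hs (by rw [hst']; exact ht)
  rw [← hst', hs1]
  group

end Abstract

section PGroupCard

/-- A proper subgroup of a finite `p`-group has index at least `p`. -/
theorem card_mul_le_of_lt {p : ℕ} [Fact p.Prime] {H K : Subgroup Ω} [Finite K] (hK : IsPGroup p K)
    (hlt : H < K) : Nat.card H * p ≤ Nat.card K := by
  have hp : p.Prime := Fact.out
  obtain ⟨n, hn⟩ := hK.exists_card_eq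
  have hdvd : Nat.card H ∣ Nat.card K := Subgroup.card_dvd_of_le hlt.le
  rw [hn] at hdvd
  obtain ⟨m, hmn, hm⟩ := (Nat.dvd_prime_pow hp).1 hdvd
  have hlt' : Nat.card H < Nat.card K := card_lt_of_lt hlt
  rw [hn, hm] at hlt' ⊢
  have hmn' : m < n := (Nat.pow_lt_pow_iff_right hp.one_lt).1 hlt'
  rw [← pow_succ]
  exact Nat.pow_le_pow_right hp.pos hmn'

end PGroupCard

section Fusion

variable [Finite S] {p : ℕ} [Fact p.Prime] {A : Subgroup Ω} {F : FusionSystem S} {P : Subgroup Ω} {x : Ω}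

/-- The standing hypotheses: `P ≠ A` essential, `x ∈ P` outside `A`. -/
structure Ctx (p : ℕ) (S A : Subgroup Ω) (F : FusionSystem S) (P : Subgroup Ω) (x : Ω) : Prop where
  pS : IsPGroup p S
  sat : F.IsSaturated p
  ab : AbIdx p S A
  ess : F.IsEssential p P
  xP : x ∈ P
  xA : x ∉ A

namespace Ctx

theorem PS (h : Ctx p S A F P x) : P ≤ S := h.ess.1.1

theorem xS (h : Ctx p S A F P x) : x ∈ S := h.PS h.xP

theorem cen (h : Ctx p S A F P x) : centralizerIn S P ≤ P :=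
  h.ess.1.2 P (Cfsg.Agent.Lib.Helper84_Fusion.isConj_refl F h.PS)

theorem rad (h : Ctx p S A F P x) : F.IsRadical p P := Cfsg.Agent.S5080.result p h.pS F h.sat P h.ess

theorem lt (h : Ctx p S A F P x) : P < S :=
  Cfsg.Agent.Lib.Helper88_Essential.lt_of_isEssential h.pS F h.sat h.ess

theorem finP (h : Ctx p S A F P x) : Finite P :=
  Finite.of_injective (Subgroup.inclusion h.PS) (Subgroup.inclusion_injective h.PS)

theorem pP (h : Ctx p S A F P x) : IsPGroup p P := h.pS.to_le h.PS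

theorem prime (_h : Ctx p S A F P x) : p.Prime := Fact.out

theorem center_le (h : Ctx p S A F P x) : S ⊓ Subgroup.centralizer (S : Set Ω) ≤ P := by
  intro z hz
  apply h.cen
  exact ⟨hz.1, Subgroup.centralizer_le (show (P : Set Ω) ⊆ S from h.PS) hz.2⟩

theorem center_le_P0 (h : Ctx p S A F P x) : S ⊓ Subgroup.centralizer (S : Set Ω) ≤ P ⊓ A :=
  le_inf h.center_le (h.ab.center_le h.prime)

/-- Every element of `P` is of the form `a xⁱ` with `a ∈ P ∩ A`. -/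
theorem exists_mul_zpow (h : Ctx p S A F P x) {y : Ω} (hy : y ∈ P) :
    ∃ a ∈ P ⊓ A, ∃ i : ℤ, y = a * x ^ i := by
  obtain ⟨a, ha, i, rfl⟩ := h.ab.exists_mul_zpow h.prime h.xS h.xA (h.PS hy)
  refine ⟨a, ⟨?_, ha⟩, i, rfl⟩
  have := P.mul_mem hy (P.zpow_mem h.xP (-i))
  rw [zpow_neg, mul_inv_cancel_right] at this
  exact this

theorem card_P (h : Ctx p S A F P x) : Nat.card P = Nat.card (P ⊓ A : Subgroup Ω) * p :=
  card_eq_of_not_le h.pS h.ab.le h.PS h.ab.card (fun hle => h.xA (hle h.xP))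

theorem card_N (h : Ctx p S A F P x) :
    Nat.card (normalizerIn S P) = Nat.card (normalizerIn S P ⊓ A : Subgroup Ω) * p :=
  card_eq_of_not_le h.pS h.ab.le (normalizerIn_le S P) h.ab.card
    (fun hle => h.xA (hle (le_normalizerIn h.PS h.xP)))

theorem P0_lt_B (h : Ctx p S A F P x) : P ⊓ A < normalizerIn S P ⊓ A := by
  have hle : P ⊓ A ≤ normalizerIn S P ⊓ A := inf_le_inf_right A (le_normalizerIn h.PS)
  refine lt_of_le_of_ne hle (fun heq => ?_)
  have h1 := h.card_N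
  rw [← heq, ← h.card_P] at h1
  have : Finite (normalizerIn S P) :=
    Finite.of_injective (Subgroup.inclusion (normalizerIn_le S P))
      (Subgroup.inclusion_injective (normalizerIn_le S P))
  have h2 := card_lt_of_lt (lt_normalizerIn h.pS h.PS h.lt.ne)
  omega

/-- Conjugation by `b ∈ A` with `[b, x] ∈ P` maps `P` into `P`. -/
theorem conj_mem_of_kap_mem (h : Ctx p S A F P x) {b : Ω} (hb : b ∈ A) (hk : kap x b ∈ P) {y : Ω}
    (hy : y ∈ P) : b * y * b⁻¹ ∈ P := by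
  obtain ⟨a, ha, i, rfl⟩ := h.exists_mul_zpow hy
  have h1 : b * (a * x ^ i) * b⁻¹ = (b * a * b⁻¹) * (b * x * b⁻¹) ^ i := by
    rw [conj_zpow]; group
  have h2 : b * a * b⁻¹ = a := by
    rw [h.ab.ab b hb a ha.2]; group
  rw [h1, h2, conj_eq_kap_mul]
  exact P.mul_mem ha.1 (P.zpow_mem (P.mul_mem hk h.xP) i)

theorem mem_B_iff (h : Ctx p S A F P x) (b : Ω) :
    b ∈ normalizerIn S P ⊓ A ↔ b ∈ A ∧ kap x b ∈ P := by
  constructor
  · rintro ⟨⟨-, hbN⟩, hbA⟩
    refine ⟨hbA, ?_⟩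
    have h1 : b * x * b⁻¹ ∈ P := (Subgroup.mem_normalizer_iff.1 hbN x).1 h.xP
    exact P.mul_mem h1 (P.inv_mem h.xP)
  · rintro ⟨hbA, hk⟩
    refine ⟨⟨h.ab.le hbA, ?_⟩, hbA⟩
    show b ∈ Subgroup.normalizer (P : Set Ω)
    rw [Subgroup.mem_normalizer_iff]
    intro y
    constructor
    · exact fun hy => h.conj_mem_of_kap_mem hbA hk hy
    · intro hy
      have hk' : kap x b⁻¹ ∈ P := by
        have h1 := h.ab.kap_mul h.xS hbA (A.inv_mem hbA)
        rw [mul_inv_cancel] at h1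
        have h2 : kap x (1 : Ω) = 1 := by unfold kap; group
        rw [h2] at h1
        have h3 : kap x b⁻¹ = (kap x b)⁻¹ := eq_inv_of_mul_eq_one_right h1.symm
        rw [h3]
        exact P.inv_mem hk
      have := h.conj_mem_of_kap_mem (A.inv_mem hbA) hk' hy
      have h4 : b⁻¹ * (b * y * b⁻¹) * b⁻¹⁻¹ = y := by group
      rw [h4] at this
      exact this

theorem Yx_le_B_of_center (h : Ctx p S A F P x) : h.ab.Yx h.xS ≤ normalizerIn S P ⊓ A := by
  intro a ha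
  obtain ⟨haA, hk⟩ := (h.ab.mem_Yx h.xS a).1 ha
  exact (h.mem_B_iff a).2 ⟨haA, h.center_le hk⟩

/-- If `P ∩ A` is central in `S`, then `P` is abelian. -/
theorem abelian_of_P0_le (h : Ctx p S A F P x)
    (hle : P ⊓ A ≤ S ⊓ Subgroup.centralizer (S : Set Ω)) : ∀ a ∈ P, ∀ b ∈ P, a * b = b * a := by
  intro u hu v hv
  obtain ⟨a, ha, i, rfl⟩ := h.exists_mul_zpow hu
  obtain ⟨b, hb, j, rfl⟩ := h.exists_mul_zpow hv
  have hac : ∀ k : ℤ, x ^ k * a = a * x ^ k := fun k =>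
    Subgroup.mem_centralizer_iff.mp (hle ha).2 _ (S.zpow_mem h.xS k)
  have hbc : ∀ k : ℤ, x ^ k * b = b * x ^ k := fun k =>
    Subgroup.mem_centralizer_iff.mp (hle hb).2 _ (S.zpow_mem h.xS k)
  calc a * x ^ i * (b * x ^ j) = a * (x ^ i * b) * x ^ j := by group
    _ = a * (b * x ^ i) * x ^ j := by rw [hbc i]
    _ = (a * b) * (x ^ i * x ^ j) := by group
    _ = (b * a) * (x ^ j * x ^ i) := by
        rw [h.ab.ab a ha.2 b hb.2, ← zpow_add, ← zpow_add, add_comm]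
    _ = b * (a * x ^ j) * x ^ i := by group
    _ = b * (x ^ j * a) * x ^ i := by rw [hac j]
    _ = b * x ^ j * (a * x ^ i) := by group

/-- Some `F`-automorphism of `P` does not leave `P ∩ A` invariant. -/
theorem exists_not_mem (h : Ctx p S A F P x) :
    ∃ α ∈ F.autGroup P, ∃ y : P, (y : Ω) ∈ P ⊓ A ∧ ((α y : P) : Ω) ∉ A := by
  by_contra hcon
  push Not at hcon
  obtain ⟨d, hdB, hdP⟩ := SetLike.exists_of_lt h.P0_lt_B
  apply hdP
  obtain ⟨⟨hdS, hdN⟩, hdA⟩ := hdB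
  refine ⟨?_, hdA⟩
  refine mem_of_stabilizes h.pS h.PS h.cen h.rad (N := P ⊓ A)
    (fun α hα y hy => ⟨(α y).2, hcon α hα y hy⟩) hdS hdN ?_ ?_
  · intro y hy
    have h1 : d * y * d⁻¹ ∈ P := (Subgroup.mem_normalizer_iff.1 hdN y).1 hy
    refine ⟨P.mul_mem (P.inv_mem hy) h1, ?_⟩
    have h2 : y⁻¹ * (d * y * d⁻¹) = (y⁻¹ * d * y⁻¹⁻¹) * d⁻¹ := by group
    rw [h2]
    exact A.mul_mem (h.ab.conj_mem (S.inv_mem (h.PS hy)) hdA) (A.inv_mem hdA)
  · intro n hn
    rw [h.ab.ab d hdA n hn.2]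
    group

/-! ### The abelian case -/

theorem P0_eq_of_abelian (h : Ctx p S A F P x) (hab : ∀ a ∈ P, ∀ b ∈ P, a * b = b * a) :
    P ⊓ A = S ⊓ Subgroup.centralizer (S : Set Ω) := by
  apply le_antisymm _ h.center_le_P0
  intro a ha
  exact h.ab.mem_center_of_comm h.prime h.xS h.xA ha.2 (hab a ha.1 x h.xP)

theorem B_eq_of_abelian (h : Ctx p S A F P x) (hab : ∀ a ∈ P, ∀ b ∈ P, a * b = b * a) :
    normalizerIn S P ⊓ A = h.ab.Yx h.xS := by
  apply le_antisymm _ h.Yx_le_B_of_center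
  intro b hb
  obtain ⟨hbA, hk⟩ := (h.mem_B_iff b).1 hb
  rw [h.ab.mem_Yx h.xS]
  refine ⟨hbA, ?_⟩
  rw [← h.P0_eq_of_abelian hab]
  exact ⟨hk, h.ab.kap_mem h.xS hbA⟩

open Cfsg.Agent.Lib.Helper48_SPE in
/-- In the abelian case `Z(S) ∩ [A, x]` has order `p`. -/
theorem card_Z0_of_abelian (h : Ctx p S A F P x) (hab : ∀ a ∈ P, ∀ b ∈ P, a * b = b * a) :
    Nat.card ((S ⊓ Subgroup.centralizer (S : Set Ω)) ⊓ h.ab.kapIm h.xS A : Subgroup Ω) = p := by
  classical
  have hp := h.prime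
  have := h.finP
  have hPS := h.PS
  have habP : ∀ u v : P, u * v = v * u := fun u v => Subtype.ext (hab u u.2 v v.2)
  have hP0 := h.P0_eq_of_abelian hab
  -- the strongly embedded subgroup
  obtain ⟨hn, Mbar, hMbar⟩ := h.ess.2.2
  have hInn : Inn P = ⊥ := Cfsg.Agent.Lib.Helper88_AbelianEssential.inn_eq_bot habP
  have hNbot : (Inn P).subgroupOf (F.autGroup P) = ⊥ := by rw [hInn, Subgroup.bot_subgroupOf]
  have hinj : Function.Injective (QuotientGroup.mk' ((Inn P).subgroupOf (F.autGroup P))) := by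
    rw [← MonoidHom.ker_eq_bot_iff, QuotientGroup.ker_mk', hNbot]
  let e : F.autGroup P ≃* F.autGroup P ⧸ (Inn P).subgroupOf (F.autGroup P) :=
    MulEquiv.ofBijective (QuotientGroup.mk' _) ⟨hinj, QuotientGroup.mk'_surjective _⟩
  have : Finite (F.autGroup P) := inferInstance
  have hM := spe_comap_equiv e (spe_of_isStronglyPEmbedded hMbar)
  -- the Sylow subgroup
  set T := autInducedBy S P with hT
  have hSyl : Cfsg.Agent.Lib.Helper84_RelSylow.IsSylowIn p T (F.autGroup P) :=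
    Cfsg.Agent.Lib.Helper84_FusionSat.isSylowIn_of_isFullyAutomized F
      (Cfsg.Agent.Lib.Helper84_FusionRS.IsSaturated.isFullyAutomized h.pS h.sat h.ess.2.1)
  obtain ⟨α, hα, hαT⟩ := exists_conj_inf_eq_bot (F.autGroup P) _ hM T hSyl.le hSyl.isPGroup
  set Zp : Subgroup P := (S ⊓ Subgroup.centralizer (S : Set Ω)).subgroupOf P with hZp
  have hfix : ∀ t ∈ T, ∀ z ∈ Zp, t z = z := by
    intro t ht z hz
    rw [hT, mem_autInducedBy_iff] at ht
    obtain ⟨g, hg, hgt⟩ := ht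
    rw [hZp, Subgroup.mem_subgroupOf] at hz
    apply Subtype.ext
    rw [hgt, Subgroup.mem_centralizer_iff.mp hz.2 g hg]
    group
  set αZ : Subgroup Ω := (Zp.map α.toMonoidHom).map P.subtype with hαZ
  -- the key claim
  have hkey : ∀ c ∈ (S ⊓ Subgroup.centralizer (S : Set Ω)) ⊓ h.ab.kapIm h.xS A, c ∈ αZ → c = 1 := by
    rintro c ⟨hcZ, hcK⟩ hcα
    obtain ⟨b, -, hbA, rfl⟩ := (h.ab.mem_kapIm h.xS A c).1 hcK
    have hbY : b ∈ h.ab.Yx h.xS := (h.ab.mem_Yx h.xS b).2 ⟨hbA, hcZ⟩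
    have hbB := h.Yx_le_B_of_center hbY
    obtain ⟨⟨hbS, hbN⟩, -⟩ := hbB
    set t := P.normalizerMonoidHom ⟨b, hbN⟩ with ht
    have htapp : ∀ y : P, ((t y : P) : Ω) = b * y * b⁻¹ := fun y => rfl
    have htT : t ∈ T := by
      rw [hT, mem_autInducedBy_iff]
      exact ⟨b, hbS, htapp⟩
    have hcomm : ∀ y : P, y⁻¹ * t y ∈ Zp ⊓ Zp.map α.toMonoidHom := by
      intro y
      obtain ⟨a, ha, i, hy⟩ := h.exists_mul_zpow y.2
      have hcx : kap x b * x = x * kap x b := (Subgroup.mem_centralizer_iff.mp hcZ.2 x h.xS).symm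
      have h1 : ((y⁻¹ * t y : P) : Ω) = kap x b ^ i := by
        show (y : Ω)⁻¹ * ((t y : P) : Ω) = kap x b ^ i
        rw [htapp, hy]
        have h2 : b * (a * x ^ i) * b⁻¹ = (b * a * b⁻¹) * (b * x * b⁻¹) ^ i := by
          rw [conj_zpow]; group
        have h3 : b * a * b⁻¹ = a := by rw [h.ab.ab b hbA a ha.2]; group
        rw [h2, h3, conj_eq_kap_mul, (show Commute (kap x b) x from hcx).mul_zpow]
        have h4 : x ^ i * kap x b ^ i = kap x b ^ i * x ^ i :=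
          ((show Commute (kap x b) x from hcx).zpow_zpow i i).eq.symm
        calc (a * x ^ i)⁻¹ * (a * (kap x b ^ i * x ^ i)) = (x ^ i)⁻¹ * (kap x b ^ i * x ^ i) := by group
          _ = (x ^ i)⁻¹ * (x ^ i * kap x b ^ i) := by rw [h4]
          _ = kap x b ^ i := by group
      constructor
      · show y⁻¹ * t y ∈ Zp
        rw [hZp, Subgroup.mem_subgroupOf, h1]
        exact Subgroup.zpow_mem _ hcZ i
      · show y⁻¹ * t y ∈ Zp.map α.toMonoidHom
        have h5 : kap x b ^ i ∈ αZ := αZ.zpow_mem hcα i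
        rw [hαZ] at h5
        obtain ⟨w, hw, hwe⟩ := h5
        have : w = y⁻¹ * t y := Subtype.ext (by rw [h1]; exact hwe)
        rw [← this]
        exact hw
    have ht1 := eq_one_of_comm_mem_inf h.pP (F.autGroup P) T hSyl Zp hfix hα hαT htT hcomm
    have h6 := htapp ⟨x, h.xP⟩
    rw [ht1] at h6
    have h7 : x = b * x * b⁻¹ := h6
    unfold kap
    rw [← h7]
    group
  -- cardinalities
  have hZP : S ⊓ Subgroup.centralizer (S : Set Ω) ≤ P := h.center_le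
  have hcardαZ : Nat.card αZ = Nat.card (S ⊓ Subgroup.centralizer (S : Set Ω) : Subgroup Ω) := by
    rw [hαZ, Nat.card_congr ((Zp.map α.toMonoidHom).equivMapOfInjective _ P.subtype_injective).toEquiv.symm,
      Nat.card_congr (Zp.equivMapOfInjective _ α.injective).toEquiv.symm, hZp,
      Nat.card_congr (Subgroup.subgroupOfEquivOfLe hZP).toEquiv]
  have hαZP : αZ ≤ P := by
    rw [hαZ]
    exact Subgroup.map_subtype_le _
  have hcardP : Nat.card P = Nat.card αZ * p := by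
    rw [hcardαZ, ← hP0]
    exact h.card_P
  set Z₀ : Subgroup Ω := (S ⊓ Subgroup.centralizer (S : Set Ω)) ⊓ h.ab.kapIm h.xS A with hZ₀
  have hZ₀P : Z₀ ≤ P := inf_le_left.trans hZP
  have hinf : Z₀ ⊓ αZ = ⊥ := by
    rw [eq_bot_iff]
    rintro c ⟨hc1, hc2⟩
    rw [Subgroup.mem_bot]
    exact hkey c hc1 hc2
  by_cases hle : Z₀ ≤ αZ
  · exfalso
    have hZ₀bot : Z₀ = ⊥ := by rw [← hinf]; exact (inf_eq_left.mpr hle).symm
    have hcardY := h.ab.card_Yx hp h.xS h.xA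
    rw [← hZ₀, hZ₀bot, Subgroup.card_bot, mul_one] at hcardY
    have hlt := h.P0_lt_B
    rw [h.B_eq_of_abelian hab, hP0] at hlt
    have : Finite (h.ab.Yx h.xS) :=
      Finite.of_injective (Subgroup.inclusion ((h.ab.Yx_le h.xS).trans h.ab.le))
        (Subgroup.inclusion_injective _)
    have := card_lt_of_lt hlt
    omega
  · have := card_eq_of_not_le h.pP hαZP hZ₀P hcardP hle
    rw [hinf, Subgroup.card_bot, one_mul] at this
    exact this

/-! ### The nonabelian case -/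

/-- In the nonabelian case the centre of `P` is the centre of `S`. -/
theorem center_P_of_nonabelian (h : Ctx p S A F P x) (hnab : ¬ ∀ a ∈ P, ∀ b ∈ P, a * b = b * a)
    {c : Ω} (hc : c ∈ P) (hcc : ∀ y ∈ P, c * y = y * c) :
    c ∈ S ⊓ Subgroup.centralizer (S : Set Ω) := by
  have hp := h.prime
  by_cases hcA : c ∈ A
  · exact h.ab.mem_center_of_comm hp h.xS h.xA hcA (hcc x h.xP)
  · exfalso
    apply hnab
    apply h.abelian_of_P0_le
    intro a ha
    exact h.ab.mem_center_of_comm hp (h.PS hc) hcA ha.2 (hcc a ha.1).symm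

theorem Z_inv_of_nonabelian (h : Ctx p S A F P x) (hnab : ¬ ∀ a ∈ P, ∀ b ∈ P, a * b = b * a)
    (α : MulAut P) (y : P) (hy : (y : Ω) ∈ S ⊓ Subgroup.centralizer (S : Set Ω)) :
    ((α y : P) : Ω) ∈ S ⊓ Subgroup.centralizer (S : Set Ω) := by
  apply h.center_P_of_nonabelian hnab (α y).2
  intro w hw
  have h1 : y * α.symm ⟨w, hw⟩ = α.symm ⟨w, hw⟩ * y :=
    Subtype.ext (Subgroup.mem_centralizer_iff.mp hy.2 _ (h.PS (α.symm ⟨w, hw⟩).2)).symm
  have h2 := congrArg α h1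
  rw [map_mul, map_mul, MulEquiv.apply_symm_apply] at h2
  exact congrArg Subtype.val h2

/-- In the nonabelian case `P ∩ A = Y`, and `|Y| = p |Z(S)|`. -/
theorem P0_eq_of_nonabelian (h : Ctx p S A F P x) (hnab : ¬ ∀ a ∈ P, ∀ b ∈ P, a * b = b * a) :
    P ⊓ A = h.ab.Yx h.xS ∧
      Nat.card (P ⊓ A : Subgroup Ω) = Nat.card (S ⊓ Subgroup.centralizer (S : Set Ω) : Subgroup Ω) * p := by
  classical
  have hp := h.prime
  have := h.finP
  obtain ⟨α, hα, y₀, hy₀, hw⟩ := h.exists_not_mem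
  set w : Ω := ((α y₀ : P) : Ω) with hwdef
  have hwP : w ∈ P := (α y₀).2
  have hwS : w ∈ S := h.PS hwP
  set Q₀ : Subgroup P := (P ⊓ A).subgroupOf P with hQ₀
  set P₀' : Subgroup Ω := (Q₀.map α.toMonoidHom).map P.subtype with hP₀'
  have hP₀'P : P₀' ≤ P := by rw [hP₀']; exact Subgroup.map_subtype_le _
  have hmemP₀' : ∀ u : Ω, u ∈ P₀' ↔ ∃ n : P, (n : Ω) ∈ A ∧ ((α n : P) : Ω) = u := by
    intro u
    rw [hP₀']
    constructor
    · rintro ⟨_, ⟨n, hn, rfl⟩, rfl⟩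
      have hn' : (n : Ω) ∈ P ⊓ A := hn
      exact ⟨n, hn'.2, rfl⟩
    · rintro ⟨n, hn, rfl⟩
      have hn' : n ∈ Q₀ := by
        rw [hQ₀, Subgroup.mem_subgroupOf]; exact ⟨n.2, hn⟩
      exact ⟨α n, ⟨n, hn', rfl⟩, rfl⟩
  have hwP₀' : w ∈ P₀' := (hmemP₀' w).2 ⟨y₀, hy₀.2, rfl⟩
  -- `P₀'` is abelian
  have habP₀' : ∀ u ∈ P₀', ∀ v ∈ P₀', u * v = v * u := by
    intro u hu v hv
    obtain ⟨n, hn, rfl⟩ := (hmemP₀' u).1 hu
    obtain ⟨m, hm, rfl⟩ := (hmemP₀' v).1 hv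
    have h1 : n * m = m * n := Subtype.ext (h.ab.ab _ hn _ hm)
    have h2 := congrArg α h1
    rw [map_mul, map_mul] at h2
    exact congrArg Subtype.val h2
  -- `P₀'` is normal in `P`
  have hnormP₀' : ∀ g ∈ P, ∀ u ∈ P₀', g * u * g⁻¹ ∈ P₀' := by
    intro g hg u hu
    obtain ⟨n, hn, rfl⟩ := (hmemP₀' u).1 hu
    rw [hmemP₀']
    refine ⟨α.symm ⟨g, hg⟩ * n * (α.symm ⟨g, hg⟩)⁻¹, ?_, ?_⟩
    · exact h.ab.conj_mem (h.PS (α.symm ⟨g, hg⟩).2) hn
    · rw [map_mul, map_mul, map_inv, MulEquiv.apply_symm_apply]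
      rfl
  -- the intersection is the centre
  have hZle : S ⊓ Subgroup.centralizer (S : Set Ω) ≤ P₀' := by
    intro z hz
    rw [hmemP₀']
    have hzP : z ∈ P := h.center_le hz
    have h1 := h.Z_inv_of_nonabelian hnab α.symm ⟨z, hzP⟩ hz
    exact ⟨α.symm ⟨z, hzP⟩, h.ab.center_le hp h1, by rw [MulEquiv.apply_symm_apply]⟩
  have hinf : (P ⊓ A) ⊓ P₀' = S ⊓ Subgroup.centralizer (S : Set Ω) := by
    apply le_antisymm
    · rintro a ⟨ha, ha'⟩
      exact h.ab.mem_center_of_comm hp hwS hw ha.2 (habP₀' a ha' w hwP₀')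
    · exact le_inf h.center_le_P0 hZle
  -- cardinalities
  have hcardP₀' : Nat.card P₀' = Nat.card (P ⊓ A : Subgroup Ω) := by
    rw [hP₀', Nat.card_congr ((Q₀.map α.toMonoidHom).equivMapOfInjective _ P.subtype_injective).toEquiv.symm,
      Nat.card_congr (Q₀.equivMapOfInjective _ α.injective).toEquiv.symm, hQ₀,
      Nat.card_congr (Subgroup.subgroupOfEquivOfLe (inf_le_left : P ⊓ A ≤ P)).toEquiv]
  have hcardP : Nat.card P = Nat.card P₀' * p := by rw [hcardP₀']; exact h.card_P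
  have hnle : ¬ P ⊓ A ≤ P₀' := by
    intro hle
    have : Finite P₀' := Finite.of_injective (Subgroup.inclusion hP₀'P) (Subgroup.inclusion_injective hP₀'P)
    have heq := Subgroup.eq_of_le_of_card_ge hle (le_of_eq hcardP₀')
    have : w ∈ P ⊓ A := by rw [heq]; exact hwP₀'
    exact hw this.2
  have hcardP0 := card_eq_of_not_le h.pP hP₀'P (inf_le_left : P ⊓ A ≤ P) hcardP hnle
  rw [hinf] at hcardP0
  refine ⟨?_, hcardP0⟩
  -- `P ∩ A ≤ Y`
  apply le_antisymm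
  · intro a ha
    have hk : kap w a ∈ S ⊓ Subgroup.centralizer (S : Set Ω) := by
      rw [← hinf]
      refine ⟨⟨?_, h.ab.kap_mem hwS ha.2⟩, ?_⟩
      · exact P.mul_mem (P.mul_mem (P.mul_mem ha.1 hwP) (P.inv_mem ha.1)) (P.inv_mem hwP)
      · exact P₀'.mul_mem (hnormP₀' a ha.1 w hwP₀') (P₀'.inv_mem hwP₀')
    have haY : a ∈ h.ab.Yx hwS := (h.ab.mem_Yx hwS a).2 ⟨ha.2, hk⟩
    have := h.ab.comm_mem_center_of_mem_Yx hp hwS hw haY h.xS
    exact (h.ab.mem_Yx h.xS a).2 ⟨ha.2, this⟩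
  · -- `Y ≤ P ∩ A` by the radical chain lemma
    intro a ha
    have haA := h.ab.Yx_le h.xS ha
    obtain ⟨⟨haS, haN⟩, -⟩ := h.Yx_le_B_of_center ha
    refine ⟨?_, haA⟩
    refine mem_of_stabilizes h.pS h.PS h.cen h.rad (N := S ⊓ Subgroup.centralizer (S : Set Ω))
      (fun β _ y hy => h.Z_inv_of_nonabelian hnab β y hy) haS haN ?_ ?_
    · intro y hy
      have h1 := h.ab.comm_mem_center_of_mem_Yx hp h.xS h.xA ha (h.PS hy)
      have h2 := Subgroup.mem_centralizer_iff.mp h1.2 y (h.PS hy)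
      have h3 : y⁻¹ * (a * y * a⁻¹) = y⁻¹ * ((a * y * a⁻¹ * y⁻¹) * y) := by group
      rw [h3, ← h2]
      have h4 : y⁻¹ * (y * (a * y * a⁻¹ * y⁻¹)) = a * y * a⁻¹ * y⁻¹ := by group
      rw [h4]
      exact h1
    · intro n hn
      rw [Subgroup.mem_centralizer_iff.mp hn.2 a haS]
      group

/-! ### Consequences in both cases -/

/-- `Z(S) ∩ [A, x]` has order `p`. -/
theorem card_Z0 (h : Ctx p S A F P x) :
    Nat.card ((S ⊓ Subgroup.centralizer (S : Set Ω)) ⊓ h.ab.kapIm h.xS A : Subgroup Ω) = p := by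
  by_cases hab : ∀ a ∈ P, ∀ b ∈ P, a * b = b * a
  · exact h.card_Z0_of_abelian hab
  · obtain ⟨h1, h2⟩ := h.P0_eq_of_nonabelian hab
    have h3 := h.ab.card_Yx h.prime h.xS h.xA
    rw [← h1, h2] at h3
    have : Finite (S ⊓ Subgroup.centralizer (S : Set Ω) : Subgroup Ω) :=
      Finite.of_injective (Subgroup.inclusion (inf_le_left : S ⊓ Subgroup.centralizer (S : Set Ω) ≤ S))
        (Subgroup.inclusion_injective _)
    have hpos : 0 < Nat.card (S ⊓ Subgroup.centralizer (S : Set Ω) : Subgroup Ω) := Nat.card_pos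
    exact (Nat.eq_of_mul_eq_mul_left hpos h3).symm

/-- `|Y| = p |Z(S)|`. -/
theorem card_Yx (h : Ctx p S A F P x) :
    Nat.card (h.ab.Yx h.xS) = Nat.card (S ⊓ Subgroup.centralizer (S : Set Ω) : Subgroup Ω) * p := by
  rw [h.ab.card_Yx h.prime h.xS h.xA, h.card_Z0]

/-- `|N_A(P)| = p |Y|` in the nonabelian case. -/
theorem card_B_of_nonabelian (h : Ctx p S A F P x) (hnab : ¬ ∀ a ∈ P, ∀ b ∈ P, a * b = b * a) :
    Nat.card (normalizerIn S P ⊓ A : Subgroup Ω) = Nat.card (h.ab.Yx h.xS) * p := by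
  have hp := h.prime
  obtain ⟨hP0, -⟩ := h.P0_eq_of_nonabelian hnab
  have hBA : normalizerIn S P ⊓ A ≤ A := inf_le_right
  have hBS : normalizerIn S P ⊓ A ≤ S := hBA.trans h.ab.le
  have hfinB : Finite (normalizerIn S P ⊓ A : Subgroup Ω) :=
    Finite.of_injective (Subgroup.inclusion hBS) (Subgroup.inclusion_injective hBS)
  have hlt := h.P0_lt_B
  rw [hP0] at hlt
  apply le_antisymm _ (card_mul_le_of_lt (h.pS.to_le hBS) hlt)
  -- upper bound
  set Z := S ⊓ Subgroup.centralizer (S : Set Ω) with hZ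
  set B := normalizerIn S P ⊓ A with hB
  have hZB : Z ≤ B := (h.ab.center_le_Yx hp h.xS).trans hlt.le
  have h1 := h.ab.card_kapIm hp h.xS h.xA hBA
  rw [← hZ, inf_eq_left.mpr hZB] at h1
  have hκBY : h.ab.kapIm h.xS B ≤ h.ab.Yx h.xS := by
    intro c hc
    obtain ⟨b, hb, hbA, rfl⟩ := (h.ab.mem_kapIm h.xS B c).1 hc
    rw [← hP0]
    exact ⟨((h.mem_B_iff b).1 hb).2, h.ab.kap_mem h.xS hbA⟩
  have hκBA : h.ab.kapIm h.xS B ≤ A := h.ab.kapIm_le h.xS B
  have h2 := h.ab.card_kapIm hp h.xS h.xA hκBA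
  rw [← hZ] at h2
  have hZ0 := h.card_Z0
  rw [← hZ] at hZ0
  have hfinA : Finite A := Finite.of_injective (Subgroup.inclusion h.ab.le) (Subgroup.inclusion_injective _)
  have hfinZ0 : Finite (Z ⊓ h.ab.kapIm h.xS A : Subgroup Ω) :=
    Finite.of_injective (Subgroup.inclusion (inf_le_right.trans (h.ab.kapIm_le h.xS A)))
      (Subgroup.inclusion_injective _)
  have h3 : Nat.card (Z ⊓ h.ab.kapIm h.xS B : Subgroup Ω) ≤ p :=
    (Subgroup.card_le_of_le (inf_le_inf_left Z (h.ab.kapIm_mono h.xS hBA))).trans hZ0.le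
  have h4 : Nat.card (h.ab.kapIm h.xS (h.ab.kapIm h.xS B)) ≤ p := by
    have h6 : h.ab.kapIm h.xS (h.ab.kapIm h.xS B) ≤ Z ⊓ h.ab.kapIm h.xS A := by
      rw [hZ, ← h.ab.kapIm_Yx h.xS]
      exact h.ab.kapIm_mono h.xS hκBY
    exact (Subgroup.card_le_of_le h6).trans hZ0.le
  have h5 : Nat.card (h.ab.kapIm h.xS B) ≤ p * p := by
    rw [← h2]
    exact Nat.mul_le_mul h3 h4
  rw [← h1, h.card_Yx, ← hZ, mul_assoc]
  exact Nat.mul_le_mul_left _ h5

/-- `|N_S(P) : P| = p`. -/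
theorem card_N_eq (h : Ctx p S A F P x) : Nat.card (normalizerIn S P) = Nat.card P * p := by
  rw [h.card_N, h.card_P]
  congr 1
  by_cases hab : ∀ a ∈ P, ∀ b ∈ P, a * b = b * a
  · rw [h.B_eq_of_abelian hab, h.P0_eq_of_abelian hab, h.card_Yx]
  · rw [h.card_B_of_nonabelian hab, (h.P0_eq_of_nonabelian hab).1]

/-- The second centre lies in `A`. -/
theorem Z2_le (h : Ctx p S A F P x) : Z2 S ≤ A := by
  have hp := h.prime
  by_contra hnle
  have hYA := h.ab.Yx_eq_of_Z2_not_le hp h.xS hnle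
  by_cases hab : ∀ a ∈ P, ∀ b ∈ P, a * b = b * a
  · -- `P` would be a second abelian subgroup of index `p`
    have h1 := h.card_Yx
    rw [hYA, ← h.P0_eq_of_abelian hab, ← h.card_P] at h1
    have h2 := h.ab.uniq P h.PS hab (by rw [h.ab.card, h1])
    exact h.xA (h2 ▸ h.xP)
  · have hlt := h.P0_lt_B
    rw [(h.P0_eq_of_nonabelian hab).1, hYA] at hlt
    exact hlt.not_ge inf_le_right

theorem Z2_eq (h : Ctx p S A F P x) : Z2 S = h.ab.Yx h.xS :=
  (h.ab.Yx_eq_of_Z2_le h.prime h.xS h.xA h.Z2_le).symm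

theorem card_Z2 (h : Ctx p S A F P x) :
    Nat.card (Z2 S) = Nat.card (S ⊓ Subgroup.centralizer (S : Set Ω) : Subgroup Ω) * p := by
  rw [h.Z2_eq, h.card_Yx]

/-- `P = (P ∩ A)⟨x⟩`. -/
theorem P_eq (h : Ctx p S A F P x) : P = (P ⊓ A) ⊔ Subgroup.zpowers x := by
  apply le_antisymm
  · intro y hy
    obtain ⟨a, ha, i, rfl⟩ := h.exists_mul_zpow hy
    exact Subgroup.mul_mem _ (Subgroup.mem_sup_left ha)
      (Subgroup.mem_sup_right (Subgroup.zpow_mem_zpowers x i))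
  · exact sup_le inf_le_left ((Subgroup.zpowers_le).2 h.xP)

/-- The shape of `P`. -/
theorem shape (h : Ctx p S A F P x) :
    P = (S ⊓ Subgroup.centralizer (S : Set Ω)) ⊔ Subgroup.zpowers x ∨
      P = Z2 S ⊔ Subgroup.zpowers x := by
  by_cases hab : ∀ a ∈ P, ∀ b ∈ P, a * b = b * a
  · left
    rw [← h.P0_eq_of_abelian hab]
    exact h.P_eq
  · right
    rw [h.Z2_eq, ← (h.P0_eq_of_nonabelian hab).1]
    exact h.P_eq

end Ctx

end Fusion

end Cfsg.Agent.Lib.Helper87_IndexP2
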