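import Mathlib
import Cfsg.Agent.S5254
import Cfsg.Agent.Lib.Helper45_ResistApps3
import Cfsg.Agent.Lib.Helper45_ResistFamB

/-!
# Resistance of rank two `p`-groups, `p ≥ 5`: the families have no essential subgroups (helper45)
-/

set_option autoImplicit false

namespace Cfsg.Agent.Lib.Helper45_ResistMain

open Cfsg Cfsg.FusionSystem Cfsg.Agent.Lib.Helper45_ResistStruct Cfsg.Agent.Lib.Helper45_ResistFamB

variable {Ω : Type*} [Group Ω] {S : Subgroup Ω}

/-- Blackburn's second family, `n ≥ 4`: no essential subgroups -/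
theorem famB_not_essential [Finite S] (p : ℕ) [Fact p.Prime] (hS : IsPGroup p S)
    (F : FusionSystem S) (hF : F.IsSaturated p) (hp : 5 ≤ p) (n q : ℕ) (hn4 : 4 ≤ n)
    (hcard : Nat.card S = p ^ n) (xb yb zb : ↥S) (hfb : FB p q xb yb zb)
    (hzp : zb ^ p ^ (n - 2) = 1) (P : Subgroup Ω) : ¬ F.IsEssential p P := by
  intro hP
  have hpr : p.Prime := Fact.out
  have hζS : (zb : Ω) ∈ S := zb.2
  have hζc : ∀ t ∈ S, t * (zb : Ω) = (zb : Ω) * t := fun t ht =>
    congrArg Subtype.val (hfb.z_central ⟨t, ht⟩)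
  have hζZ : (zb : Ω) ∈ S ⊓ Subgroup.centralizer (S : Set Ω) :=
    Subgroup.mem_inf.2 ⟨hζS, Subgroup.mem_centralizer_iff.2 (fun t ht => hζc t ht)⟩
  have hAP : Subgroup.zpowers (zb : Ω) ≤ P :=
    Subgroup.zpowers_le.2 (Cfsg.Agent.Lib.Helper45_ResistCore.center_le_of_isEssential F hP hζZ)
  have hPS : P ≤ S := hP.1.1
  have hfinP : Finite P := Finite.of_injective (Subgroup.inclusion hPS) (Subgroup.inclusion_injective _)
  have hord : orderOf (zb : Ω) = orderOf zb := Subgroup.orderOf_coe zb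
  have horddvd : orderOf zb ∣ p ^ (n - 2) := orderOf_dvd_of_pow_eq_one hzp
  obtain ⟨a, ha, hoa⟩ := (Nat.dvd_prime_pow hpr).1 horddvd
  have hcardA : Nat.card (Subgroup.zpowers (zb : Ω)) = p ^ a := by
    rw [Nat.card_zpowers, hord, hoa]
  have hle := hfb.card_le hpr.pos
  rw [hcard, hoa] at hle
  have hna : n ≤ a + 2 := by
    have h1 : p * p * p ^ a = p ^ (a + 2) := by ring
    rw [h1] at hle
    exact (Nat.pow_le_pow_iff_right hpr.one_lt).1 hle
  have hcardS : Nat.card S = p ^ (a + 2) := by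
    rw [hcard]; congr 1; omega
  have hPlt : P < S := Cfsg.Agent.Lib.Helper88_Essential.lt_of_isEssential hS F hF hP
  have hex : ∃ g ∈ S, P = Subgroup.zpowers (zb : Ω) ⊔ Subgroup.zpowers g := by
    by_cases hAeq : Subgroup.zpowers (zb : Ω) = P
    · exact ⟨1, S.one_mem, by rw [Subgroup.zpowers_one_eq_bot, sup_bot_eq, hAeq]⟩
    · have hAlt : Subgroup.zpowers (zb : Ω) < P := lt_of_le_of_ne hAP hAeq
      obtain ⟨g, hgP, hgA⟩ := SetLike.exists_of_lt hAlt
      have hcardP : Nat.card P = p ^ (a + 1) := card_sandwich hpr hAlt hPlt hcardA hcardS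
      have hlt : Subgroup.zpowers (zb : Ω) < Subgroup.zpowers (zb : Ω) ⊔ Subgroup.zpowers g :=
        lt_of_le_of_ne le_sup_left (fun heq => hgA (by
          rw [heq]; exact (le_sup_right : Subgroup.zpowers g ≤ _) (Subgroup.mem_zpowers g)))
      exact ⟨g, hPS hgP, (eq_of_lt_of_card hpr hlt (sup_le hAP (Subgroup.zpowers_le.2 hgP))
        hcardA hcardP).symm⟩
  obtain ⟨g, hgS, hPg⟩ := hex
  obtain ⟨⟨-, hPe⟩, -⟩ := Cfsg.Agent.Lib.Helper45_ResistCore.two_gen_comm p hS F hF hp P hP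
    (zb : Ω) g (hζc g hgS).symm hPg
  have h1 : (zb : Ω) ^ p = 1 := hPe _ (hAP (Subgroup.mem_zpowers _))
  have h2 : orderOf (zb : Ω) ∣ p := orderOf_dvd_of_pow_eq_one h1
  rw [hord, hoa] at h2
  have h3 : a ≤ 1 := (Nat.pow_dvd_pow_iff_le_right hpr.one_lt).1 (by rwa [pow_one])
  omega

/-- Blackburn's third family: no essential subgroups -/
theorem famC_not_essential [Finite S] (p : ℕ) [Fact p.Prime] (hS : IsPGroup p S)
    (F : FusionSystem S) (hF : F.IsSaturated p) {n s : ℕ} {x y z : Ω} (h : FC p n s x y z S)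
    (P : Subgroup Ω) : ¬ F.IsEssential p P := by
  intro hP
  have hpr : p.Prime := Fact.out
  have hp5 := h.hp5
  have hn := h.hn
  have hp2 : p ≠ 2 := by omega
  obtain ⟨hcases, hNidx⟩ := Cfsg.Agent.S5254.result p hS F hF hp2 (h.not_comm hpr) h.AA
    ⟨h.AA_le, h.AA_comm, h.index_AA hpr⟩ (fun B hB hBc hBi => h.uniq_AA hS B hB hBc hBi) P hP
  rcases hcases with hPA | ⟨g, hg, hgA, hPg⟩ | ⟨-, g, hg, hgA, hPg⟩
  · -- `P = A`
    have hPyz : P = Subgroup.zpowers y ⊔ Subgroup.zpowers z := by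
      rw [hPA, Subgroup.zpowers_eq_closure, Subgroup.zpowers_eq_closure, ← Subgroup.closure_union,
        Set.singleton_union]
      rfl
    obtain ⟨-, hcardP⟩ := Cfsg.Agent.Lib.Helper45_ResistCore.two_gen_comm p hS F hF hp5 P hP
      y z h.yz hPyz
    rw [hPA, h.card_AA hpr] at hcardP
    have := Nat.pow_right_injective hpr.two_le hcardP
    omega
  · subst hPg
    exact h.not_isEssential_ZZ hS F hF hg hgA hNidx hP
  · subst hPg
    exact h.not_isEssential_PP hS F hF hg hgA hP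

end Cfsg.Agent.Lib.Helper45_ResistMain
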