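import Mathlib
import Cfsg.Prelude.Def_KGroupFacts

/-!
# Uniqueness of an extension `K.S₃` inside `Aut K` when `Out K ≃ S₄` (abstract part of S5515)
-/

set_option autoImplicit false

namespace Cfsg.Agent.Lib.Helper45_S5515Abs

open Cfsg

/-! ### Subgroups of order six of `S₄` -/

theorem fix_unique : ∀ c : Equiv.Perm (Fin 4), c ^ 3 = 1 → c ≠ 1 → ∀ i j, c i = i → c j = j → i = j := by
  decide

theorem fix_exists : ∀ c : Equiv.Perm (Fin 4), c ^ 3 = 1 → c ≠ 1 → ∃ i, c i = i := by decide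

theorem card_stab : ∀ i : Fin 4, Fintype.card {σ : Equiv.Perm (Fin 4) // σ i = i} = 6 := by decide

theorem card_stabilizer (i : Fin 4) : Nat.card ↥(MulAction.stabilizer (Equiv.Perm (Fin 4)) i) = 6 := by
  rw [← card_stab i, Nat.card_eq_fintype_card]
  apply Fintype.card_congr
  exact Equiv.subtypeEquivRight (fun σ => by rw [MulAction.mem_stabilizer_iff]; rfl)

theorem eq_stabilizer_of_card_six (H : Subgroup (Equiv.Perm (Fin 4))) (hH : Nat.card ↥H = 6) :
    ∃ i : Fin 4, H = MulAction.stabilizer (Equiv.Perm (Fin 4)) i := by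
  have : Fact (Nat.Prime 3) := ⟨by norm_num⟩
  have h3 : 3 ∣ Nat.card ↥H := by rw [hH]; norm_num
  obtain ⟨c, hc⟩ := exists_prime_orderOf_dvd_card' 3 h3
  have hc3 : (c : Equiv.Perm (Fin 4)) ^ 3 = 1 := by
    have : c ^ 3 = 1 := by rw [← hc]; exact pow_orderOf_eq_one c
    exact_mod_cast congrArg Subtype.val this
  have hc1 : (c : Equiv.Perm (Fin 4)) ≠ 1 := by
    intro h
    have : c = 1 := Subtype.ext h
    rw [this, orderOf_one] at hc
    omega
  obtain ⟨i, hi⟩ := fix_exists _ hc3 hc1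
  -- `⟨c⟩` is normal in `H`
  have hcard : Nat.card ↥(Subgroup.zpowers c) = 3 := by rw [Nat.card_zpowers, hc]
  have hidx : (Subgroup.zpowers c).index = 2 := by
    have := Subgroup.card_mul_index (Subgroup.zpowers c)
    rw [hcard, hH] at this
    omega
  haveI : (Subgroup.zpowers c).Normal := Subgroup.normal_of_index_eq_two hidx
  have hfix : ∀ h : ↥H, (h : Equiv.Perm (Fin 4)) i = i := by
    intro h
    have hmem : h * c * h⁻¹ ∈ Subgroup.zpowers c :=
      ‹(Subgroup.zpowers c).Normal›.conj_mem c (Subgroup.mem_zpowers c) h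
    obtain ⟨k, hk⟩ := hmem
    set d : Equiv.Perm (Fin 4) := (h : Equiv.Perm (Fin 4)) * c * (h : Equiv.Perm (Fin 4))⁻¹ with hd
    have hdk : d = (c : Equiv.Perm (Fin 4)) ^ k := by
      have := congrArg Subtype.val hk
      simp only [Subgroup.coe_zpow, Subgroup.coe_mul, Subgroup.coe_inv] at this
      rw [hd, ← this]
    have hd3 : d ^ 3 = 1 := by
      rw [hd, conj_pow, hc3, mul_one, mul_inv_cancel]
    have hd1 : d ≠ 1 := by
      intro h1
      apply hc1
      have : (h : Equiv.Perm (Fin 4)) * c * (h : Equiv.Perm (Fin 4))⁻¹ = 1 := h1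
      have h2 := congrArg (fun x => (h : Equiv.Perm (Fin 4))⁻¹ * x * (h : Equiv.Perm (Fin 4))) this
      simp only [mul_one, inv_mul_cancel] at h2
      rw [← h2]
      group
    have hdi : d i = i := by
      rw [hdk]
      exact Equiv.Perm.zpow_apply_eq_self_of_apply_eq_self hi k
    have hdh : d ((h : Equiv.Perm (Fin 4)) i) = (h : Equiv.Perm (Fin 4)) i := by
      rw [hd]
      simp [hi]
    exact (fix_unique d hd3 hd1 i _ hdi hdh).symm
  refine ⟨i, ?_⟩
  have hle : H ≤ MulAction.stabilizer (Equiv.Perm (Fin 4)) i := by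
    intro h hh
    rw [MulAction.mem_stabilizer_iff]
    exact hfix ⟨h, hh⟩
  exact Subgroup.eq_of_le_of_card_ge hle (by rw [card_stabilizer, hH])

theorem conj_of_card_six (H H' : Subgroup (Equiv.Perm (Fin 4))) (hH : Nat.card ↥H = 6)
    (hH' : Nat.card ↥H' = 6) : ∃ s : Equiv.Perm (Fin 4), H' = H.map (MulAut.conj s).toMonoidHom := by
  obtain ⟨i, rfl⟩ := eq_stabilizer_of_card_six H hH
  obtain ⟨i', rfl⟩ := eq_stabilizer_of_card_six H' hH'
  refine ⟨Equiv.swap i i', ?_⟩
  rw [← MulAction.stabilizer_smul_eq_stabilizer_map_conj]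
  congr 1
  exact (Equiv.swap_apply_left i i').symm

/-- The same in any group isomorphic to `S₄ × 1`. -/
theorem conj_of_card_six' {Q : Type*} [Group Q] (ψ : Q ≃* Equiv.Perm (Fin 4) × Multiplicative (ZMod 1))
    (H H' : Subgroup Q) (hH : Nat.card ↥H = 6) (hH' : Nat.card ↥H' = 6) :
    ∃ s : Q, H' = H.map (MulAut.conj s).toMonoidHom := by
  let ψ₁ : Q ≃* Equiv.Perm (Fin 4) := ψ.trans MulEquiv.prodUnique
  have h1 : Nat.card ↥(H.map ψ₁.toMonoidHom) = 6 := by
    rw [← hH]
    exact (Nat.card_congr (ψ₁.subgroupMap H).toEquiv).symm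
  have h1' : Nat.card ↥(H'.map ψ₁.toMonoidHom) = 6 := by
    rw [← hH']
    exact (Nat.card_congr (ψ₁.subgroupMap H').toEquiv).symm
  obtain ⟨s, hs⟩ := conj_of_card_six _ _ h1 h1'
  refine ⟨ψ₁.symm s, ?_⟩
  apply Subgroup.map_injective (f := ψ₁.toMonoidHom) ψ₁.injective
  show H'.map ψ₁.toMonoidHom = (H.map (MulAut.conj (ψ₁.symm s)).toMonoidHom).map ψ₁.toMonoidHom
  rw [hs, Subgroup.map_map, Subgroup.map_map]
  congr 1
  ext x
  simp

/-! ### Subgroups containing a normal subgroup, with conjugate images in the quotient -/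

theorem eq_map_conj_of_images {A : Type*} [Group A] (I : Subgroup A) [I.Normal] (X X' : Subgroup A)
    (hX : I ≤ X) (hX' : I ≤ X') (o : A)
    (h : X'.map (QuotientGroup.mk' I) =
      (X.map (QuotientGroup.mk' I)).map (MulAut.conj (QuotientGroup.mk' I o)).toMonoidHom) :
    X' = X.map (MulAut.conj o).toMonoidHom := by
  apply Subgroup.map_injective_of_ker_le (QuotientGroup.mk' I)
  · rw [QuotientGroup.ker_mk']
    exact hX'
  · rw [QuotientGroup.ker_mk']
    intro x hx
    refine ⟨o⁻¹ * x * o, hX ?_, ?_⟩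
    · have := ‹I.Normal›.conj_mem x hx o⁻¹
      rwa [inv_inv] at this
    · show o * (o⁻¹ * x * o) * o⁻¹ = x
      group
  · rw [h, Subgroup.map_map, Subgroup.map_map]
    congr 1

/-! ### The embedding into the automorphism group of the generalized Fitting subgroup -/

section embed

variable {G : Type*} [Group G] (K : Subgroup G) [K.Normal] {P : Type*} [Group P] (e : ↥K ≃* P)

/-- The action of `G` on `P ≃ K` by conjugation. -/
noncomputable def act : G →* MulAut P := (MulAut.congr e).toMonoidHom.comp (MulAut.conjNormal (H := K))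

theorem act_apply (g : G) (p : P) : act K e g p = e (MulAut.conjNormal g (e.symm p)) := rfl

theorem act_coe (g : G) (k : ↥K) : ((e.symm (act K e g (e k)) : ↥K) : G) = g * k * g⁻¹ := by
  rw [act_apply, MulEquiv.symm_apply_apply, MulEquiv.symm_apply_apply, MulAut.conjNormal_apply]

theorem act_mem (k : ↥K) : act K e (k : G) = MulAut.conj (e k) := by
  apply MulEquiv.ext
  intro p
  rw [act_apply, MulAut.conj_apply]
  have : MulAut.conjNormal (k : G) (e.symm p) = k * e.symm p * k⁻¹ := by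
    apply Subtype.ext
    rw [MulAut.conjNormal_apply]
    rfl
  rw [this, map_mul, map_mul, map_inv, MulEquiv.apply_symm_apply]

theorem act_injective (hZ : Subgroup.center P = ⊥) (hC : Subgroup.centralizer (K : Set G) ≤ K) :
    Function.Injective (act K e) := by
  rw [← MonoidHom.ker_eq_bot_iff, eq_bot_iff]
  intro g hg
  rw [MonoidHom.mem_ker] at hg
  have hcent : g ∈ Subgroup.centralizer (K : Set G) := by
    rw [Subgroup.mem_centralizer_iff]
    intro k hk
    have h1 := act_coe K e g ⟨k, hk⟩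
    rw [hg, MulAut.one_apply, MulEquiv.symm_apply_apply] at h1
    have h2 : k = g * k * g⁻¹ := h1
    calc k * g = g * k * g⁻¹ * g := by rw [← h2]
      _ = g * k := by group
  have hgK : g ∈ K := hC hcent
  have hz : e ⟨g, hgK⟩ ∈ Subgroup.center P := by
    rw [Subgroup.mem_center_iff]
    intro p
    obtain ⟨k, rfl⟩ := e.surjective p
    rw [← map_mul, ← map_mul]
    congr 1
    apply Subtype.ext
    have := (Subgroup.mem_centralizer_iff.mp hcent) k k.2
    exact this
  rw [hZ, Subgroup.mem_bot] at hz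
  have : (⟨g, hgK⟩ : ↥K) = 1 := by
    apply e.injective
    rw [hz, map_one]
  rw [Subgroup.mem_bot]
  exact congrArg Subtype.val this

theorem inn_le_range : Cfsg.Inn P ≤ (act K e).range := by
  rintro _ ⟨p, rfl⟩
  obtain ⟨k, rfl⟩ := e.surjective p
  exact ⟨(k : G), act_mem K e k⟩

omit [K.Normal] in
include e in
theorem card_inn (hZ : Subgroup.center P = ⊥) : Nat.card ↥(Cfsg.Inn P) = Nat.card ↥K := by
  have hinj : Function.Injective (MulAut.conj : P →* MulAut P) := by
    rw [← MonoidHom.ker_eq_bot_iff, eq_bot_iff]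
    intro g hg
    rw [← hZ, Subgroup.mem_center_iff]
    intro x
    have h2 : MulAut.conj g x = x := by
      rw [MonoidHom.mem_ker.mp hg]
      rfl
    rw [MulAut.conj_apply] at h2
    calc x * g = g * x * g⁻¹ * g := by rw [h2]
      _ = g * x := by group
  rw [← Nat.card_congr (MonoidHom.ofInjective hinj).toEquiv]
  exact (Nat.card_congr e.toEquiv).symm

include e in
/-- The image of `G` in `Aut P`. -/
theorem embed [Finite G] (hZ : Subgroup.center P = ⊥) (hC : Subgroup.centralizer (K : Set G) ≤ K)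
    (h6 : Nat.card (G ⧸ K) = 6) :
    ∃ X : Subgroup (MulAut P), Cfsg.Inn P ≤ X ∧
      Nat.card ↥(X.map (QuotientGroup.mk' (Cfsg.Inn P))) = 6 ∧ Nonempty (G ≃* ↥X) := by
  haveI : Finite P := Finite.of_equiv _ e.toEquiv
  refine ⟨(act K e).range, inn_le_range K e, ?_, ⟨MonoidHom.ofInjective (act_injective K e hZ hC)⟩⟩
  -- `|X̄| |Inn| = |X| = |G| = 6 |K|`
  have h1 : Nat.card ↥(((act K e).range).map (QuotientGroup.mk' (Cfsg.Inn P))) *
      Nat.card ↥((act K e).range ⊓ Cfsg.Inn P) = Nat.card ↥(act K e).range := by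
    let f : ↥(act K e).range →* MulAut P ⧸ Cfsg.Inn P :=
      (QuotientGroup.mk' (Cfsg.Inn P)).comp (act K e).range.subtype
    have hr : f.range = ((act K e).range).map (QuotientGroup.mk' (Cfsg.Inn P)) := by
      rw [MonoidHom.range_comp, Subgroup.range_subtype]
    have hk : Nat.card ↥f.ker = Nat.card ↥((act K e).range ⊓ Cfsg.Inn P) := by
      apply Nat.card_congr
      refine ⟨fun x => ⟨x.1.1, x.1.2, ?_⟩, fun y => ⟨⟨y.1, y.2.1⟩, ?_⟩, fun x => rfl, fun y => rfl⟩
      · have := x.2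
        rw [MonoidHom.mem_ker] at this
        exact (QuotientGroup.eq_one_iff _).mp this
      · rw [MonoidHom.mem_ker]
        exact (QuotientGroup.eq_one_iff _).mpr y.2.2
    rw [← hr, ← hk, mul_comm]
    have := Subgroup.card_mul_index f.ker
    rw [Subgroup.index_ker] at this
    exact this
  have h2 : (act K e).range ⊓ Cfsg.Inn P = Cfsg.Inn P := inf_eq_right.mpr (inn_le_range K e)
  have h3 : Nat.card ↥(act K e).range = Nat.card G :=
    (Nat.card_congr (MonoidHom.ofInjective (act_injective K e hZ hC)).toEquiv).symm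
  have h4 : Nat.card G = Nat.card (G ⧸ K) * Nat.card ↥K := Subgroup.card_eq_card_quotient_mul_card_subgroup K
  rw [h2, card_inn K e hZ, h3, h4, h6] at h1
  have hpos : 0 < Nat.card ↥K := Nat.card_pos
  exact Nat.eq_of_mul_eq_mul_right hpos h1

end embed

/-- **Abstract form of S5515.** -/
theorem iso_of_out {P : Type*} [Group P] (hZ : Subgroup.center P = ⊥)
    (ψ : Cfsg.Out P ≃* Equiv.Perm (Fin 4) × Multiplicative (ZMod 1))
    {G G' : Type*} [Group G] [Finite G] [Group G'] [Finite G']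
    (K : Subgroup G) [K.Normal] (K' : Subgroup G') [K'.Normal] (e : ↥K ≃* P) (e' : ↥K' ≃* P)
    (hC : Subgroup.centralizer (K : Set G) ≤ K) (hC' : Subgroup.centralizer (K' : Set G') ≤ K')
    (h6 : Nat.card (G ⧸ K) = 6) (h6' : Nat.card (G' ⧸ K') = 6) : Nonempty (G ≃* G') := by
  obtain ⟨X, hIX, hX6, ⟨f⟩⟩ := embed K e hZ hC h6
  obtain ⟨X', hIX', hX6', ⟨f'⟩⟩ := embed K' e' hZ hC' h6'
  obtain ⟨s, hs⟩ := conj_of_card_six' ψ _ _ hX6 hX6'
  obtain ⟨o, rfl⟩ := QuotientGroup.mk'_surjective (Cfsg.Inn P) s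
  have hXX := eq_map_conj_of_images (Cfsg.Inn P) X X' hIX hIX' o hs
  have g : ↥X ≃* ↥X' := ((MulAut.conj o).subgroupMap X).trans (MulEquiv.subgroupCongr hXX.symm)
  exact ⟨(f.trans g).trans f'.symm⟩

end Cfsg.Agent.Lib.Helper45_S5515Abs
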