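import Mathlib

/-!
Sylow-number lemmas (helper72).  The first block (`relIndex_sup_eq'`, `card_sylow_quotient`,
`normalizer_le_normalizer_sup`, `frattini`, ...) is copied from helper64's `Cfsg/Agent/S3867.lean`
so that this file does not depend on another seat's statement file.
-/

set_option autoImplicit false
open scoped Pointwise

namespace Cfsg.Agent.Lib.Helper72_SylowNum

variable {G : Type*} [Group G]

/-- second isomorphism theorem, index form -/
lemma relIndex_sup_eq' [Finite G] (R T : Subgroup G) [T.Normal] :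
    R.relIndex (R ⊔ T) = R.relIndex T := by
  have e1 : Nat.card (R ⊓ T : Subgroup G) * T.relIndex R = Nat.card R := by
    rw [← Subgroup.inf_relIndex_left, ← Subgroup.relIndex_bot_left, ← Subgroup.relIndex_bot_left,
      inf_comm]
    exact Subgroup.relIndex_mul_relIndex _ _ _ bot_le inf_le_right
  have e2 : Nat.card (R ⊓ T : Subgroup G) * R.relIndex T = Nat.card T := by
    rw [← Subgroup.inf_relIndex_right, ← Subgroup.relIndex_bot_left, ← Subgroup.relIndex_bot_left]
    exact Subgroup.relIndex_mul_relIndex _ _ _ bot_le inf_le_right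
  have e3 : Nat.card T * T.relIndex R = Nat.card (R ⊔ T : Subgroup G) := by
    rw [← Subgroup.relIndex_sup_right, ← Subgroup.relIndex_bot_left, ← Subgroup.relIndex_bot_left]
    exact Subgroup.relIndex_mul_relIndex _ _ _ bot_le le_sup_right
  have e4 : Nat.card R * R.relIndex (R ⊔ T) = Nat.card (R ⊔ T : Subgroup G) := by
    rw [← Subgroup.relIndex_bot_left, ← Subgroup.relIndex_bot_left]
    exact Subgroup.relIndex_mul_relIndex _ _ _ bot_le le_sup_left
  have hpos : 0 < Nat.card (R ⊓ T : Subgroup G) * T.relIndex R := by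
    rw [e1]; exact Nat.card_pos
  have : Nat.card (R ⊓ T : Subgroup G) * T.relIndex R * R.relIndex (R ⊔ T) =
      Nat.card (R ⊓ T : Subgroup G) * T.relIndex R * R.relIndex T := by
    calc Nat.card (R ⊓ T : Subgroup G) * T.relIndex R * R.relIndex (R ⊔ T)
        = Nat.card R * R.relIndex (R ⊔ T) := by rw [e1]
      _ = Nat.card T * T.relIndex R := by rw [e4, e3]
      _ = Nat.card (R ⊓ T : Subgroup G) * R.relIndex T * T.relIndex R := by rw [e2]
      _ = _ := by ring
  exact Nat.eq_of_mul_eq_mul_left hpos this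

/-- L1: the number of Sylow subgroups of a quotient -/
lemma card_sylow_quotient [Finite G] {p : ℕ} [Fact p.Prime] (P : Sylow p G) (K : Subgroup G)
    [K.Normal] :
    Nat.card (Sylow p (G ⧸ K)) =
      (Subgroup.normalizer (((P : Subgroup G) ⊔ K : Subgroup G) : Set G)).index := by
  have hsurj : Function.Surjective (QuotientGroup.mk' K) := QuotientGroup.mk'_surjective K
  let Pbar : Sylow p (G ⧸ K) := P.mapSurjective hsurj
  rw [Sylow.card_eq_index_normalizer Pbar]
  change (Subgroup.normalizer ((Pbar : Subgroup (G ⧸ K)) : Set (G ⧸ K))).index = _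
  rw [← Subgroup.index_comap_of_surjective _ hsurj]
  rw [Subgroup.comap_normalizer_eq_of_surjective _ hsurj]
  have : ((Pbar : Subgroup (G ⧸ K))).comap (QuotientGroup.mk' K) = (P : Subgroup G) ⊔ K := by
    rw [Sylow.coe_mapSurjective, Subgroup.comap_map_eq, QuotientGroup.ker_mk']
  rw [← this]

/-- elements of `P ⊔ K` have a `p`-power power in `K` -/
lemma exists_pow_mem {p : ℕ} (P : Subgroup G) (hP : IsPGroup p P) (K : Subgroup G)
    [K.Normal] (g : G) (hg : g ∈ P ⊔ K) : ∃ k : ℕ, g ^ p ^ k ∈ K := by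
  have hg' : g ∈ ((P ⊔ K : Subgroup G) : Set G) := hg
  rw [Subgroup.mul_normal] at hg'
  obtain ⟨x, hx, m, hm, rfl⟩ := hg'
  obtain ⟨k, hk⟩ := hP ⟨x, hx⟩
  refine ⟨k, ?_⟩
  rw [← QuotientGroup.eq_one_iff, QuotientGroup.mk_pow, QuotientGroup.mk_mul,
    (QuotientGroup.eq_one_iff m).mpr hm, mul_one, ← QuotientGroup.mk_pow]
  have : x ^ p ^ k = 1 := by
    have := congrArg Subtype.val hk
    simpa using this
  rw [this]; rfl

/-- the key fact: `PM ∩ PN = P` when `M ∩ N = 1` -/
lemma sup_inf_sup_eq {p : ℕ} (P : Sylow p G) (M N : Subgroup G) [M.Normal] [N.Normal]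
    (hMN : M ⊓ N = ⊥) : ((P : Subgroup G) ⊔ M) ⊓ ((P : Subgroup G) ⊔ N) = P := by
  have hX : IsPGroup p (((P : Subgroup G) ⊔ M) ⊓ ((P : Subgroup G) ⊔ N) : Subgroup G) := by
    rintro ⟨g, hg⟩
    obtain ⟨k, hk⟩ := exists_pow_mem (P : Subgroup G) P.isPGroup' M g hg.1
    have h2 : g ^ p ^ k ∈ (P : Subgroup G) ⊔ N := Subgroup.pow_mem _ hg.2 _
    obtain ⟨j, hj⟩ := exists_pow_mem (P : Subgroup G) P.isPGroup' N _ h2
    have h3 : (g ^ p ^ k) ^ p ^ j ∈ M := Subgroup.pow_mem _ hk _
    have h4 : (g ^ p ^ k) ^ p ^ j ∈ M ⊓ N := ⟨h3, hj⟩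
    rw [hMN, Subgroup.mem_bot, ← pow_mul, ← pow_add] at h4
    refine ⟨k + j, ?_⟩
    apply Subtype.ext
    simpa using h4
  exact P.is_maximal' hX (le_inf le_sup_left le_sup_left)

/-- `N(P) ≤ N(P ⊔ K)` -/
lemma normalizer_le_normalizer_sup (P K : Subgroup G) [K.Normal] :
    Subgroup.normalizer (P : Set G) ≤ Subgroup.normalizer ((P ⊔ K : Subgroup G) : Set G) := by
  intro g hg
  rw [Subgroup.mem_normalizer_iff_map_conj_eq] at hg ⊢
  rw [Subgroup.map_sup, hg, Subgroup.Normal.map_conj_eq]

/-- crux: `M ∩ N(P ⊔ N) = M ∩ N(P)` -/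
lemma crux [Finite G] {p : ℕ} (P : Sylow p G) (M N : Subgroup G) [M.Normal] [N.Normal]
    (hMN : M ⊓ N = ⊥) :
    Subgroup.normalizer (((P : Subgroup G) ⊔ N : Subgroup G) : Set G) ⊓ M =
      Subgroup.normalizer ((P : Subgroup G) : Set G) ⊓ M := by
  apply le_antisymm
  · intro m hm
    rw [Subgroup.mem_inf] at hm ⊢
    obtain ⟨hmN, hmM⟩ := hm
    refine ⟨?_, hmM⟩
    have key : ∀ m : G, m ∈ Subgroup.normalizer (((P : Subgroup G) ⊔ N : Subgroup G) : Set G) →
        m ∈ M → ∀ x ∈ (P : Subgroup G), m * x * m⁻¹ ∈ (P : Subgroup G) := by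
      intro m hmN hmM x hx
      rw [← sup_inf_sup_eq P M N hMN]
      constructor
      · have h1 : m * x * m⁻¹ = x * ((x⁻¹ * m * x) * m⁻¹) := by group
        rw [h1]
        apply Subgroup.mul_mem_sup hx
        apply M.mul_mem _ (M.inv_mem hmM)
        have := Subgroup.Normal.conj_mem (inferInstance : M.Normal) m hmM x⁻¹
        simpa using this
      · exact (Subgroup.mem_normalizer_iff.mp hmN x).mp (Subgroup.mem_sup_left hx)
    rw [Subgroup.mem_normalizer_iff]
    intro x
    constructor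
    · exact key m hmN hmM x
    · intro hx
      have := key m⁻¹ (Subgroup.inv_mem _ hmN) (M.inv_mem hmM) _ hx
      simpa [mul_assoc] using this
  · exact inf_le_inf_right _ (normalizer_le_normalizer_sup _ _)

/-- L2 (Frattini): `N(P ⊔ K) = N(P) ⊔ K` -/
lemma frattini [Finite G] {p : ℕ} [Fact p.Prime] (P : Sylow p G) (K : Subgroup G) [K.Normal] :
    Subgroup.normalizer (((P : Subgroup G) ⊔ K : Subgroup G) : Set G) =
      Subgroup.normalizer ((P : Subgroup G) : Set G) ⊔ K := by
  apply le_antisymm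
  · intro g hg
    -- g • P ≤ P ⊔ K
    have hgP : ((g • P : Sylow p G) : Subgroup G) ≤ (P : Subgroup G) ⊔ K := by
      rw [Sylow.coe_subgroup_smul]
      intro z hz
      rw [Subgroup.mem_pointwise_smul_iff_inv_smul_mem] at hz
      have h1 : g⁻¹ * z * g ∈ (P : Subgroup G) := by
        simpa [MulAut.smul_def, MulAut.conj_inv_apply] using hz
      have h2 := (Subgroup.mem_normalizer_iff.mp hg _).mp (Subgroup.mem_sup_left h1)
      simpa [mul_assoc] using h2
    have hP : (P : Subgroup G) ≤ (P : Subgroup G) ⊔ K := le_sup_left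
    obtain ⟨h, hh⟩ := MulAction.exists_smul_eq ((P : Subgroup G) ⊔ K : Subgroup G)
      ((g • P).subtype hgP) (P.subtype hP)
    rw [Sylow.smul_subtype] at hh
    have hh' : (h : G) • (g • P) = P := Sylow.subtype_injective hh
    rw [← mul_smul] at hh'
    have hn : (h : G) * g ∈ Subgroup.normalizer ((P : Subgroup G) : Set G) :=
      Sylow.smul_eq_iff_mem_normalizer.mp hh'
    have : g = (h : G)⁻¹ * ((h : G) * g) := by group
    rw [this]
    apply Subgroup.mul_mem
    · apply Subgroup.inv_mem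
      exact (sup_le_sup_right Subgroup.le_normalizer K) h.2
    · exact Subgroup.mem_sup_left hn
  · apply sup_le (normalizer_le_normalizer_sup _ _)
    exact le_sup_right.trans Subgroup.le_normalizer


/-- **M. Hall's first factor**: `n_p(G) = n_p(G/K) * |K : N_K(P)|`. -/
theorem card_sylow_eq_mul [Finite G] {p : ℕ} [Fact p.Prime] (P : Sylow p G) (K : Subgroup G)
    [K.Normal] :
    Nat.card (Sylow p G) =
      Nat.card (Sylow p (G ⧸ K)) * (Subgroup.normalizer ((P : Subgroup G) : Set G)).relIndex K := by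
  rw [Sylow.card_eq_index_normalizer P, card_sylow_quotient P K, frattini P K,
    ← relIndex_sup_eq' (Subgroup.normalizer ((P : Subgroup G) : Set G)) K, mul_comm]
  exact (Subgroup.relIndex_mul_index le_sup_left).symm

end Cfsg.Agent.Lib.Helper72_SylowNum
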