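import Mathlib
import Cfsg.Agent.S4303

/-!
helper45: reduction of "no group has exactly `n` Sylow `p`-subgroups" to simple groups, via
M. Hall's factorization (S4303).
-/

set_option autoImplicit false

namespace Cfsg.Agent.Lib.Helper45_SylowReduce

universe u

/-- If `n ≠ 1` has no proper factorization into Sylow numbers (prime powers `≡ 1 mod p` or Sylow
numbers of simple groups), then a group with `n` Sylow `p`-subgroups yields a simple one. -/
theorem exists_simple_of_card_sylow {G : Type u} [Group G] [Finite G] (p : ℕ) [Fact p.Prime]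
    (n : ℕ) (hn : Nat.card (Sylow p G) = n) (hn1 : n ≠ 1)
    (hpp : ∀ d, d ∣ n → IsPrimePow d → d % p ≠ 1)
    (hdiv : ∀ d, d ∣ n → d % p = 1 → d = 1 ∨ d = n) :
    ∃ (S : Type u) (_ : Group S) (_ : Finite S), IsSimpleGroup S ∧ Nat.card (Sylow p S) = n := by
  obtain ⟨l, hl, hfac⟩ := Cfsg.Agent.S4303.result (G := G) p
  rw [hn] at hl
  by_contra hcon
  apply hn1
  rw [← hl]
  apply List.prod_eq_one
  intro m hm
  have hmn : m ∣ n := hl ▸ List.dvd_prod hm
  rcases hfac m hm with ⟨h1, h2⟩ | ⟨S, iG, iF, hS, hmS⟩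
  · exact absurd h2 (hpp m hmn h1)
  · have hmod : m % p = 1 := by
      have h3 : Nat.card (Sylow p S) ≡ 1 [MOD p] := card_sylow_modEq_one p S
      rw [← hmS] at h3
      have hp1 : 1 < p := (Fact.out : p.Prime).one_lt
      rw [Nat.ModEq, Nat.mod_eq_of_lt hp1] at h3
      exact h3
    rcases hdiv m hmn hmod with h | h
    · exact h
    · exfalso
      apply hcon
      exact ⟨S, iG, iF, hS, by rw [← hmS, h]⟩

end Cfsg.Agent.Lib.Helper45_SylowReduce
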