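import Mathlib
import Cfsg.Agent.Lib.Helper67_T2ODefs
import Cfsg.Agent.Lib.Helper94_OrthNondeg
import Cfsg.Agent.Lib.Helper82_T2_KR
import Cfsg.Agent.Lib.Helper9_T2_BR
import Cfsg.Agent.Lib.Helper78_UT2_NEXA

set_option autoImplicit false
set_option linter.unusedSectionVars false
set_option linter.unusedVariables false

/-!
# TENS2O package BRFORM (architect helper67): the alternating form `ω` on `F^{n₂}` with
`Q = qf ω ∘ Θ`, from a tensor form structure `Sp_2 ⊗ Sp_{n₂}` on the polar form of `Q` together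
with the vanishing of `Q` on pure tensors.
-/

open Module
open Cfsg.Agent.Lib.Helper94_Symp Cfsg.Agent.Lib.Helper94_OrthSmall
  Cfsg.Agent.Lib.Helper94_OrthSiegel Cfsg.Agent.Lib.Helper94_OrthNondeg
  Cfsg.Agent.Lib.Helper67_Tens2Defs Cfsg.Agent.Lib.Helper67_T2ODefs

namespace Cfsg.Agent.Lib.Helper45_T2O_BRFORM

open Matrix Cfsg.Geo
open scoped Kronecker
open Cfsg.Agent.Lib.Helper70_Tens_TP10b Cfsg.Agent.Lib.Helper94_Bridge Cfsg.Agent.Lib.Helper9_T2_BR

/-- a bilinear form in the sense of the prelude is the `toBilin'` of its Gram matrix -/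
theorem toBilin_gram_apply {F : Type*} [Field F] {n₂ : ℕ}
    (f₂ : (Fin n₂ → F) → (Fin n₂ → F) → F) (hb : Cfsg.Geo.IsBilinearForm f₂)
    (u v : Fin n₂ → F) :
    Matrix.toBilin' (gramMatrix f₂) u v = f₂ u v := by
  set B₂ : LinearMap.BilinForm F (Fin n₂ → F) :=
    LinearMap.mk₂ F f₂ hb.add_left hb.smul_left hb.add_right hb.smul_right with hB₂
  have hG : gramMatrix f₂ = LinearMap.BilinForm.toMatrix' B₂ := by
    ext i j
    rw [LinearMap.BilinForm.toMatrix'_apply]
    rfl
  rw [hG, Matrix.toBilin'_toMatrix']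
  rfl

/-- the pure tensor `![1,0] ⊗ u` in pair coordinates -/
theorem pairFn_left {F : Type*} [Field F] {n₂ : ℕ} (u : Fin n₂ → F) :
    pairFn ((u, 0) : (Fin n₂ → F) × (Fin n₂ → F)) =
      fun a : Fin 2 × Fin n₂ => (![1, 0] : Fin 2 → F) a.1 * u a.2 := by
  funext a
  obtain ⟨i, k⟩ := a
  fin_cases i
  · simp [pairFn]
  · simp [pairFn]

/-- the pure tensor `![0,1] ⊗ u` in pair coordinates -/
theorem pairFn_right {F : Type*} [Field F] {n₂ : ℕ} (u : Fin n₂ → F) :
    pairFn ((0, u) : (Fin n₂ → F) × (Fin n₂ → F)) =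
      fun a : Fin 2 × Fin n₂ => (![0, 1] : Fin 2 → F) a.1 * u a.2 := by
  funext a
  obtain ⟨i, k⟩ := a
  fin_cases i
  · simp [pairFn]
  · simp [pairFn]

/-- BRFORM : the alternating form `ω` on `F^{n₂}` with `Q = qf ω ∘ Θ` -/
theorem form_data {F : Type*} [Field F] [Fintype F] (n n₂ : ℕ) (hn2 : 1 ≤ n₂)
    (Q : (Fin n → F) → F) (hQ : Cfsg.Geo.IsNondegenerateQuadraticForm Q)
    (e : Fin n ≃ Fin 2 × Fin n₂) (P : Matrix.GeneralLinearGroup (Fin n) F)
    (f₁ : (Fin 2 → F) → (Fin 2 → F) → F) (f₂ : (Fin n₂ → F) → (Fin n₂ → F) → F)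
    (hf1 : Cfsg.Geo.IsSymplecticForm f₁) (hf2 : Cfsg.Geo.IsSymplecticForm f₂)
    (hT : Cfsg.Geo.IsTensorFormStructure id (QuadraticMap.polar Q) f₁ f₂ e P)
    (hpure : ∀ (x₁ : Fin 2 → F) (x₂ : Fin n₂ → F),
      Q (Matrix.mulVec (P : Matrix (Fin n) (Fin n) F)
        ((fun a : Fin 2 × Fin n₂ => x₁ a.1 * x₂ a.2) ∘ e)) = 0) :
    ∃ ω : LinearMap.BilinForm F (Fin n₂ → F), ω.IsAlt ∧ ω.Nondegenerate ∧
      ∀ v : Fin n → F, Q v = qf ω (Theta e P v) := by
  obtain ⟨c, hc0, hc⟩ := hT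
  set G2 : Matrix (Fin n₂) (Fin n₂) F := gramMatrix f₂ with hG2
  set β : LinearMap.BilinForm F (Fin n₂ → F) := Matrix.toBilin' G2 with hβ
  set κ : F := c * gramMatrix f₁ 0 1 with hκdef
  -- the form identity
  have hform : ∀ v w : Fin n → F,
      QuadraticMap.polar Q v w = κ * tf β (Theta e P v) (Theta e P w) := by
    intro v w
    set x : Fin 2 × Fin n₂ → F := fun a =>
      (((P⁻¹ : GL (Fin n) F) : Matrix _ _ F) *ᵥ v) (e.symm a) with hx
    set y : Fin 2 × Fin n₂ → F := fun a =>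
      (((P⁻¹ : GL (Fin n) F) : Matrix _ _ F) *ᵥ w) (e.symm a) with hy
    have hxv : (P : Matrix _ _ F) *ᵥ (x ∘ e) = v := by
      have : x ∘ e = ((P⁻¹ : GL (Fin n) F) : Matrix _ _ F) *ᵥ v := by
        funext j
        simp [hx]
      rw [this, Matrix.mulVec_mulVec, ← Units.val_mul, mul_inv_cancel, Units.val_one,
        Matrix.one_mulVec]
    have hyw : (P : Matrix _ _ F) *ᵥ (y ∘ e) = w := by
      have : y ∘ e = ((P⁻¹ : GL (Fin n) F) : Matrix _ _ F) *ᵥ w := by
        funext j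
        simp [hy]
      rw [this, Matrix.mulVec_mulVec, ← Units.val_mul, mul_inv_cancel, Units.val_one,
        Matrix.one_mulVec]
    have h := hc x y
    rw [hxv, hyw, formOfGram_eq f₁ hf1] at h
    rw [h, hκdef, mul_assoc]
    rfl
  -- β agrees with f₂
  have hβf : ∀ u v, β u v = f₂ u v := fun u v => toBilin_gram_apply f₂ hf2.bilinear u v
  -- the form ω
  set ω : LinearMap.BilinForm F (Fin n₂ → F) := κ • β with hω
  have hωapp : ∀ u v, ω u v = κ * β u v := fun u v => rfl
  have halt : ω.IsAlt := by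
    intro u
    rw [hωapp, hβf, hf2.alternating, mul_zero]
  -- ω is nondegenerate
  have hω1 : ∀ u, (∀ v, ω u v = 0) → u = 0 := by
    intro u hu
    have h0 : (Theta e P).symm (u, 0) = 0 := by
      by_contra hne
      obtain ⟨-, ⟨w, hw⟩⟩ := hQ.nondegenerate _ hne
      apply hw
      rw [hform, LinearEquiv.apply_symm_apply, tf_apply]
      have := hu (Theta e P w).2
      rw [hωapp] at this
      simp only [map_zero, LinearMap.zero_apply, sub_zero]
      exact this
    have h1 : ((u, 0) : (Fin n₂ → F) × (Fin n₂ → F)) = 0 := by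
      have := congrArg (Theta e P) h0
      rwa [LinearEquiv.apply_symm_apply, map_zero] at this
    exact congrArg Prod.fst h1
  have hωn : ω.Nondegenerate :=
    ⟨hω1, fun v hv => hω1 v (fun u => by rw [alt_swap ω halt v u, hv u, neg_zero])⟩
  refine ⟨ω, halt, hωn, ?_⟩
  intro v
  set u : Fin n₂ → F := (Theta e P v).1 with hu
  set u' : Fin n₂ → F := (Theta e P v).2 with hu'
  set a : Fin n → F := (Theta e P).symm (u, 0) with ha
  set b : Fin n → F := (Theta e P).symm (0, u') with hb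
  have hab : v = a + b := by
    rw [ha, hb, ← map_add]
    have : ((u, 0) : (Fin n₂ → F) × (Fin n₂ → F)) + (0, u') = Theta e P v := by
      ext k <;> simp [hu, hu']
    rw [this, LinearEquiv.symm_apply_apply]
  have hQa : Q a = 0 := by
    rw [ha, Theta_symm_apply, pairFn_left]
    exact hpure _ _
  have hQb : Q b = 0 := by
    rw [hb, Theta_symm_apply, pairFn_right]
    exact hpure _ _
  have hpol : QuadraticMap.polar Q a b = ω u u' := by
    rw [hform, ha, hb, LinearEquiv.apply_symm_apply, LinearEquiv.apply_symm_apply, tf_apply, hωapp]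
    simp
  have hsum : Q (a + b) = QuadraticMap.polar Q a b + Q a + Q b := by
    unfold QuadraticMap.polar
    ring
  rw [qf_apply]
  conv_lhs => rw [hab]
  rw [hsum, hQa, hQb, hpol, add_zero, add_zero]

end Cfsg.Agent.Lib.Helper45_T2O_BRFORM
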