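import Mathlib
import Cfsg.Agent.Lib.Helper45_NormalRank4

/-!
# 3-groups of rank at least 4: centralizers of elementary abelian subgroups of order 9

* `card_le_cube`: an element `y` of order dividing 3 normalizing an abelian group `K` of exponent 3
  satisfies `#K ≤ #C_K(y)³` (because `(T - 1)³ = T³ - 1 = 0` in characteristic 3).
* `exists_centralizing_not_mem`: in a finite 3-group `P` with a normal elementary abelian `B` of
  order 81, every abelian `X` of exponent 3 and order 9 is centralized by some `b ∈ B`, `b ∉ X`.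
-/

set_option autoImplicit false

namespace Cfsg.Agent.Lib.Helper45_ThreeRank4

universe u

/-- additive core: `(T - 1)³ = 0` if `T³ = 1` and `3 = 0` -/
theorem add_delta_cube {V : Type*} [AddCommGroup V] (T : V →+ V) (hT : ∀ v, T (T (T v)) = v)
    (h3 : ∀ v : V, 3 • v = 0) (v : V) :
    T (T (T v - v) - (T v - v)) - (T (T v - v) - (T v - v)) = 0 := by
  simp only [map_sub, hT]
  have : v - T (T v) - (T (T v) - T v) - (T (T v) - T v - (T v - v))
      = 3 • T v - 3 • T (T v) := by abel
  rw [this, h3, h3, sub_zero]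

/-- multiplicative version -/
theorem mul_delta_cube {C : Type*} [CommGroup C] (T : C →* C) (hT : ∀ c, T (T (T c)) = c)
    (h3 : ∀ c : C, c ^ 3 = 1) (c : C) :
    T (T (T c / c) / (T c / c)) / (T (T c / c) / (T c / c)) = 1 :=
  add_delta_cube (V := Additive C) (MonoidHom.toAdditive T) hT (fun v => h3 v.toMul)
    (Additive.ofMul c)

/-- `#f⁻¹(H) ≤ #ker f · #H` -/
theorem card_comap_le {G G' : Type*} [Group G] [Group G'] [Finite G] [Finite G'] (f : G →* G')
    (H : Subgroup G') : Nat.card (H.comap f) ≤ Nat.card f.ker * Nat.card H := by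
  have hle : f.ker ≤ H.comap f := by
    intro x hx
    rw [Subgroup.mem_comap, MonoidHom.mem_ker.mp hx]
    exact H.one_mem
  have h1 := Subgroup.relIndex_mul_relIndex (⊥ : Subgroup G) f.ker (H.comap f) bot_le hle
  rw [Subgroup.relIndex_bot_left, Subgroup.relIndex_bot_left, Subgroup.relIndex_ker] at h1
  rw [← h1]
  apply Nat.mul_le_mul_left
  have h2 : (H.comap f).map f ≤ H := Subgroup.map_comap_le f H
  exact Nat.card_le_card_of_injective _ (Subgroup.inclusion_injective h2)

/-- abstract version: `#C ≤ #ker(T - 1)³` -/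
theorem card_le_ker_cube {C : Type*} [CommGroup C] [Finite C] (T : C →* C)
    (hT : ∀ c, T (T (T c)) = c) (h3 : ∀ c : C, c ^ 3 = 1) :
    Nat.card C ≤ Nat.card (T / MonoidHom.id C).ker ^ 3 := by
  set δ : C →* C := T / MonoidHom.id C with hδ
  have hδa : ∀ c, δ c = T c / c := fun c => rfl
  have h3' : ∀ c, δ (δ (δ c)) = 1 := by
    intro c
    simp only [hδa]
    exact mul_delta_cube T hT h3 c
  have htop : ((δ.ker.comap δ).comap δ) = ⊤ := by
    ext c
    simp only [Subgroup.mem_comap, MonoidHom.mem_ker, h3', Subgroup.mem_top]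
  have h1 := card_comap_le δ (δ.ker.comap δ)
  have h2 := card_comap_le δ δ.ker
  rw [htop, Subgroup.card_top] at h1
  calc Nat.card C ≤ Nat.card δ.ker * Nat.card (δ.ker.comap δ) := h1
    _ ≤ Nat.card δ.ker * (Nat.card δ.ker * Nat.card δ.ker) := Nat.mul_le_mul_left _ h2
    _ = Nat.card δ.ker ^ 3 := by ring

/-- an element `y` with `y³ = 1` normalizing an abelian group `K` of exponent 3 has
`#K ≤ #C_K(y)³` -/
theorem card_le_cube {P : Type*} [Group P] [Finite P] (K : Subgroup P)
    (hKc : ∀ a ∈ K, ∀ b ∈ K, a * b = b * a) (hKe : ∀ a ∈ K, a ^ 3 = 1) (y : P) (hy3 : y ^ 3 = 1)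
    (hyK : ∀ k ∈ K, y * k * y⁻¹ ∈ K) :
    Nat.card K ≤ Nat.card ↥(K ⊓ Subgroup.centralizer {y}) ^ 3 := by
  let _ : CommGroup ↥K := { (inferInstance : Group ↥K) with
    mul_comm := fun a b => Subtype.ext (hKc a a.2 b b.2) }
  let T : ↥K →* ↥K :=
    { toFun := fun k => ⟨y * k * y⁻¹, hyK k k.2⟩
      map_one' := by ext; simp
      map_mul' := fun a b => by ext; simp [mul_assoc] }
  have hTa : ∀ c : ↥K, ((T c : ↥K) : P) = y * c * y⁻¹ := fun c => rfl
  have hT : ∀ c, T (T (T c)) = c := by
    intro c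
    ext
    rw [hTa, hTa, hTa]
    have : y * (y * (y * (c:P) * y⁻¹) * y⁻¹) * y⁻¹ = y^3 * c * (y^3)⁻¹ := by
      rw [pow_succ, pow_succ, pow_one]
      simp only [mul_inv_rev, mul_assoc]
    rw [this, hy3]; simp
  have h3 : ∀ c : ↥K, c ^ 3 = 1 := fun c => Subtype.ext (by simpa using hKe c c.2)
  have h := card_le_ker_cube T hT h3
  have hker : (T / MonoidHom.id ↥K).ker = (K ⊓ Subgroup.centralizer {y}).subgroupOf K := by
    ext c
    rw [MonoidHom.mem_ker, Subgroup.mem_subgroupOf, Subgroup.mem_inf,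
      Subgroup.mem_centralizer_iff]
    have h1 : (T / MonoidHom.id ↥K) c = T c / c := rfl
    rw [h1, div_eq_one]
    constructor
    · intro hc
      refine ⟨c.2, ?_⟩
      intro z hz
      rw [Set.mem_singleton_iff] at hz
      rw [hz]
      have := congrArg (Subtype.val) hc
      rw [hTa] at this
      calc y * (c:P) = (y * (c:P) * y⁻¹) * y := by
            rw [inv_mul_cancel_right]
        _ = (c:P) * y := by rw [this]
    · rintro ⟨-, hc⟩
      ext
      rw [hTa]
      have := hc y (Set.mem_singleton y)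
      rw [this]; group
  rw [hker] at h
  have hcard : Nat.card ((K ⊓ Subgroup.centralizer {y}).subgroupOf K)
      = Nat.card ↥(K ⊓ Subgroup.centralizer {y}) :=
    Nat.card_congr (Subgroup.subgroupOfEquivOfLe inf_le_left).toEquiv
  rw [hcard] at h
  exact h

/-- a subgroup `X` of order 9 is contained in any subgroup containing `u ≠ 1` of order 3 and
`v ∉ ⟨u⟩` (`u, v ∈ X`) -/
theorem le_of_mem_of_card_nine {P : Type*} [Group P] [Finite P] (X S : Subgroup P)
    (hX : Nat.card X = 9) (u v : P) (huX : u ∈ X) (hvX : v ∈ X) (hu1 : u ≠ 1) (hu3 : u ^ 3 = 1)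
    (hv : v ∉ Subgroup.zpowers u) (huS : u ∈ S) (hvS : v ∈ S) : X ≤ S := by
  set Z := X ⊓ S with hZ
  have hZX : Z ≤ X := inf_le_left
  have hdvd : Nat.card Z ∣ 3 ^ 2 := by
    have := Subgroup.card_dvd_of_le hZX
    rw [hX] at this
    exact this
  have huZ : u ∈ Z := ⟨huX, huS⟩
  have hvZ : v ∈ Z := ⟨hvX, hvS⟩
  have hzu : Subgroup.zpowers u ≤ Z := by rwa [Subgroup.zpowers_le]
  have hord : orderOf u = 3 := by
    have : orderOf u ∣ 3 := orderOf_dvd_of_pow_eq_one hu3
    rcases (Nat.dvd_prime Nat.prime_three).mp this with h | h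
    · exact absurd (orderOf_eq_one_iff.mp h) hu1
    · exact h
  have hcz : Nat.card (Subgroup.zpowers u) = 3 := by rw [Nat.card_zpowers, hord]
  have hne3 : Nat.card Z ≠ 3 := by
    intro h3
    have : Subgroup.zpowers u = Z := Subgroup.eq_of_le_of_card_ge hzu (by rw [h3, hcz])
    exact hv (this ▸ hvZ)
  have hge : 3 ≤ Nat.card Z := hcz ▸ Subgroup.card_le_of_le hzu
  have h9 : Nat.card Z = 9 := by
    obtain ⟨m, hm, h⟩ := (Nat.dvd_prime_pow Nat.prime_three).mp hdvd
    interval_cases m
    · rw [h] at hge; norm_num at hge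
    · rw [h] at hne3; norm_num at hne3
    · rw [h]; norm_num
  have : Z = X := Subgroup.eq_of_le_of_card_ge hZX (by rw [h9, hX])
  rw [← this]; exact inf_le_right

/-- in a finite group with a normal elementary abelian 3-subgroup `B` of order 81, every
elementary abelian `X` of order 9 is centralized by an element `b ∉ X` of order 3 -/
theorem exists_centralizing_not_mem {P : Type*} [Group P] [Finite P] (B : Subgroup P)
    [hBn : B.Normal]
    (hBc : ∀ a ∈ B, ∀ b ∈ B, a * b = b * a) (hBe : ∀ a ∈ B, a ^ 3 = 1) (hB : Nat.card B = 81)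
    (X : Subgroup P) (hXc : ∀ a ∈ X, ∀ b ∈ X, a * b = b * a) (hXe : ∀ a ∈ X, a ^ 3 = 1)
    (hX : Nat.card X = 9) :
    ∃ b, b ∉ X ∧ b ^ 3 = 1 ∧ ∀ x ∈ X, b * x = x * b := by
  by_cases hXB : X ≤ B
  · have : ∃ b ∈ B, b ∉ X := by
      by_contra hcon
      push Not at hcon
      have hle : B ≤ X := hcon
      have := Subgroup.card_le_of_le hle
      omega
    obtain ⟨b, hbB, hbX⟩ := this
    exact ⟨b, hbX, hBe b hbB, fun x hx => hBc b hbB x (hXB hx)⟩
  · obtain ⟨x, hxX, hxB⟩ := SetLike.not_le_iff_exists.mp hXB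
    have hx3 := hXe x hxX
    have hx1 : x ≠ 1 := fun h => hxB (h ▸ B.one_mem)
    set K := B ⊓ Subgroup.centralizer {x} with hK
    have hKB : K ≤ B := inf_le_left
    have hcube := card_le_cube B hBc hBe x hx3 (fun k hk => hBn.conj_mem k hk x)
    have hKdvd : Nat.card K ∣ 3 ^ 4 := by
      have := Subgroup.card_dvd_of_le hKB
      rw [hB] at this
      exact this
    have hK9 : 9 ≤ Nat.card K := by
      obtain ⟨m, hm, h⟩ := (Nat.dvd_prime_pow Nat.prime_three).mp hKdvd
      rw [hB, ← hK, h] at hcube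
      rw [h]
      interval_cases m <;> first | (exfalso; norm_num at hcube; done) | norm_num
    have hKx : ∀ k ∈ K, k * x = x * k := fun k hk =>
      Subgroup.mem_centralizer_singleton_iff.mp hk.2
    -- the finishing step: `b ∉ X` commuting with generators `u, v` of `X`
    have finish : ∀ b u v : P, b ∈ B → b ∉ X → u ∈ X → v ∈ X → u ≠ 1 →
        v ∉ Subgroup.zpowers u → b * u = u * b → b * v = v * b →
        ∃ b, b ∉ X ∧ b ^ 3 = 1 ∧ ∀ x ∈ X, b * x = x * b := by
      intro b u v hbB hbX huX hvX hu1 hv hbu hbv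
      refine ⟨b, hbX, hBe b hbB, ?_⟩
      have hle : X ≤ Subgroup.centralizer {b} :=
        le_of_mem_of_card_nine X _ hX u v huX hvX hu1 (hXe u huX) hv
          (Subgroup.mem_centralizer_singleton_iff.mpr hbu.symm)
          (Subgroup.mem_centralizer_singleton_iff.mpr hbv.symm)
      intro z hz
      exact (Subgroup.mem_centralizer_singleton_iff.mp (hle hz)).symm
    set D := X ⊓ B with hD
    by_cases hD1 : D = ⊥
    · -- `X ∩ B = 1`
      have hzx : ∃ y ∈ X, y ∉ Subgroup.zpowers x := by
        by_contra hcon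
        push Not at hcon
        have hle : X ≤ Subgroup.zpowers x := hcon
        have h1 := Subgroup.card_le_of_le hle
        have h2 : Nat.card (Subgroup.zpowers x) ≤ 3 := by
          rw [Nat.card_zpowers]
          exact Nat.le_of_dvd (by norm_num) (orderOf_dvd_of_pow_eq_one hx3)
        omega
      obtain ⟨y, hyX, hyx⟩ := hzx
      have hxy : x * y = y * x := hXc x hxX y hyX
      have hKc : ∀ a ∈ K, ∀ b ∈ K, a * b = b * a := fun a ha b hb => hBc a (hKB ha) b (hKB hb)
      have hKe : ∀ a ∈ K, a ^ 3 = 1 := fun a ha => hBe a (hKB ha)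
      have hyK : ∀ k ∈ K, y * k * y⁻¹ ∈ K := by
        intro k hk
        refine ⟨hBn.conj_mem k (hKB hk) y, ?_⟩
        show y * k * y⁻¹ ∈ Subgroup.centralizer {x}
        rw [Subgroup.mem_centralizer_singleton_iff]
        have hkx := hKx k hk
        calc y * k * y⁻¹ * x = y * k * (y⁻¹ * x) := by group
          _ = y * k * (x * y⁻¹) := by
              have : y⁻¹ * x = x * y⁻¹ := by
                rw [inv_mul_eq_iff_eq_mul, ← mul_assoc, ← hxy, mul_assoc, mul_inv_cancel, mul_one]
              rw [this]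
          _ = y * (k * x) * y⁻¹ := by group
          _ = y * (x * k) * y⁻¹ := by rw [hkx]
          _ = (y * x) * k * y⁻¹ := by group
          _ = (x * y) * k * y⁻¹ := by rw [hxy]
          _ = x * (y * k * y⁻¹) := by group
      have hcube2 := card_le_cube K hKc hKe y (hXe y hyX) hyK
      have hne : K ⊓ Subgroup.centralizer {y} ≠ ⊥ := by
        intro h
        rw [h, Subgroup.card_bot] at hcube2
        omega
      obtain ⟨b, hb1⟩ := (Subgroup.ne_bot_iff_exists_ne_one).mp hne
      have hbK : (b : P) ∈ K := b.2.1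
      have hby : (b : P) * y = y * b := Subgroup.mem_centralizer_singleton_iff.mp b.2.2
      have hbX : (b : P) ∉ X := by
        intro hbX
        have : (b : P) ∈ D := ⟨hbX, hKB hbK⟩
        rw [hD1, Subgroup.mem_bot] at this
        exact hb1 (Subtype.ext this)
      exact finish b x y (hKB hbK) hbX hxX hyX hx1 hyx (hKx b hbK) hby
    · -- `X ∩ B ≠ 1`
      obtain ⟨y, hy1⟩ := (Subgroup.ne_bot_iff_exists_ne_one).mp hD1
      have hyX : (y : P) ∈ X := y.2.1
      have hyB : (y : P) ∈ B := y.2.2
      have hy1' : (y : P) ≠ 1 := fun h => hy1 (Subtype.ext h)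
      have hxy : x ∉ Subgroup.zpowers (y : P) := by
        intro h
        have hle : Subgroup.zpowers (y : P) ≤ B := by rwa [Subgroup.zpowers_le]
        exact hxB (hle h)
      have hDlt : Nat.card D < 9 := by
        by_contra hcon
        push Not at hcon
        have : D = X := Subgroup.eq_of_le_of_card_ge inf_le_left (by rw [hX]; exact hcon)
        have hXD : X ≤ D := this.ge
        exact hxB (hXD hxX).2
      have hKX : ∃ b ∈ K, b ∉ X := by
        by_contra hcon
        push Not at hcon
        have hle : K ≤ D := fun k hk => ⟨hcon k hk, hKB hk⟩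
        have := Subgroup.card_le_of_le hle
        omega
      obtain ⟨b, hbK, hbX⟩ := hKX
      exact finish b y x (hKB hbK) hbX hyX hxX hy1' hxy (hBc b (hKB hbK) y hyB) (hKx b hbK)

end Cfsg.Agent.Lib.Helper45_ThreeRank4
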