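import Mathlib
import Cfsg.Prelude.Def_FusionSystem
import Cfsg.Agent.Lib.Helper87_F2L3Defs

/-!
# F2L3-INVB (package of helper87's S5318 market)

An involution `u ≠ 1` of determinant `1` on `F³` (characteristic `≠ 2`) has a basis of
eigenvectors with eigenvalues `-1, -1, 1`.
-/

set_option autoImplicit false

open Matrix Cfsg.Agent.Lib.Helper87_F2L3

namespace Cfsg.Agent.Lib.Helper46_F2L3_INVB

variable {F : Type*} [Field F]

section generic

variable {V : Type*} [AddCommGroup V] [Module F V]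

/-- The `(-1)`-eigenspace of `f`. -/
def Vm (f : V →ₗ[F] V) : Submodule F V := LinearMap.ker (f + LinearMap.id)

/-- The `1`-eigenspace of `f`. -/
def Vp (f : V →ₗ[F] V) : Submodule F V := LinearMap.ker (f - LinearMap.id)

theorem mem_Vm {f : V →ₗ[F] V} {x : V} : x ∈ Vm f ↔ f x = -x := by
  unfold Vm
  rw [LinearMap.mem_ker, LinearMap.add_apply, LinearMap.id_apply, add_eq_zero_iff_eq_neg]

theorem mem_Vp {f : V →ₗ[F] V} {x : V} : x ∈ Vp f ↔ f x = x := by
  unfold Vp
  rw [LinearMap.mem_ker, LinearMap.sub_apply, LinearMap.id_apply, sub_eq_zero]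

theorem isCompl_Vm_Vp (h2 : (2 : F) ≠ 0) (f : V →ₗ[F] V) (hf : ∀ x, f (f x) = x) :
    IsCompl (Vm f) (Vp f) := by
  constructor
  · rw [Submodule.disjoint_def]
    intro x hm hp
    rw [mem_Vm] at hm
    rw [mem_Vp] at hp
    have h : (2 : F) • x = 0 := by
      rw [two_smul]
      nth_rewrite 1 [← hp]
      rw [hm, neg_add_cancel]
    rcases smul_eq_zero.mp h with h | h
    · exact absurd h h2
    · exact h
  · rw [codisjoint_iff, eq_top_iff]
    intro x _
    have h1 : (2 : F)⁻¹ • (x - f x) ∈ Vm f := by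
      rw [mem_Vm, map_smul, map_sub, hf, ← smul_neg, neg_sub]
    have h3 : (2 : F)⁻¹ • (x + f x) ∈ Vp f := by
      rw [mem_Vp, map_smul, map_add, hf, add_comm]
    have hx : x = (2 : F)⁻¹ • (x - f x) + (2 : F)⁻¹ • (x + f x) := by
      rw [← smul_add, sub_add_add_cancel, ← two_smul F x, smul_smul, inv_mul_cancel₀ h2, one_smul]
    rw [hx]
    exact Submodule.add_mem_sup h1 h3

theorem det_eq [FiniteDimensional F V] (h2 : (2 : F) ≠ 0) (f : V →ₗ[F] V)
    (hf : ∀ x, f (f x) = x) :
    LinearMap.det f = (-1) ^ Module.finrank F (Vm f) := by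
  have hc := isCompl_Vm_Vp h2 f hf
  set e := Submodule.prodEquivOfIsCompl (Vm f) (Vp f) hc with he
  have hfe : f = (e : (Vm f × Vp f) →ₗ[F] V) ∘ₗ
      (LinearMap.prodMap ((-1 : F) • LinearMap.id) LinearMap.id) ∘ₗ
        (e.symm : V →ₗ[F] (Vm f × Vp f)) := by
    apply LinearMap.ext
    intro x
    obtain ⟨y, rfl⟩ := e.surjective x
    simp only [LinearMap.comp_apply, LinearEquiv.coe_coe, LinearEquiv.symm_apply_apply]
    rw [he, Submodule.coe_prodEquivOfIsCompl', Submodule.coe_prodEquivOfIsCompl', map_add]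
    simp only [LinearMap.prodMap_apply, LinearMap.smul_apply, LinearMap.id_apply]
    rw [mem_Vm.mp y.1.2, mem_Vp.mp y.2.2]
    simp
  have hd : LinearMap.det f = LinearMap.det
      (LinearMap.prodMap ((-1 : F) • (LinearMap.id : Vm f →ₗ[F] Vm f))
        (LinearMap.id : Vp f →ₗ[F] Vp f)) := by
    conv_lhs => rw [hfe]
    exact LinearMap.det_conj _ e
  rw [hd, LinearMap.det_prodMap, LinearMap.det_smul, LinearMap.det_id, LinearMap.det_id, mul_one,
    mul_one]

end generic

/-- **F2L3-INVB**. -/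
theorem invol_basis (h2 : (2 : F) ≠ 0) (u : Matrix (Fin 3) (Fin 3) F) (hu : u * u = 1)
    (hdet : u.det = 1) (hne : u ≠ 1) :
    ∃ g : Matrix (Fin 3) (Fin 3) F, g.det ≠ 0 ∧
      u * g = g * !![-1, 0, 0; 0, -1, 0; 0, 0, 1] := by
  classical
  set f : (Fin 3 → F) →ₗ[F] (Fin 3 → F) := Matrix.toLin' u with hfdef
  have hf : ∀ x, f (f x) = x := by
    intro x
    rw [hfdef, Matrix.toLin'_apply, Matrix.toLin'_apply, Matrix.mulVec_mulVec, hu,
      Matrix.one_mulVec]
  have hc := isCompl_Vm_Vp h2 f hf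
  have hdet' : ((-1 : F)) ^ Module.finrank F (Vm f) = 1 := by
    rw [← det_eq h2 f hf, hfdef, LinearMap.det_toLin', hdet]
  have hsum : Module.finrank F (Vm f) + Module.finrank F (Vp f) = 3 := by
    rw [Submodule.finrank_add_eq_of_isCompl hc, Module.finrank_fin_fun]
  have hne1 : (-1 : F) ≠ 1 := by
    intro h
    apply h2
    have : (2 : F) = 1 - (-1) := by norm_num
    rw [this, h, sub_self]
  have heven : Even (Module.finrank F (Vm f)) := by
    rcases Nat.even_or_odd (Module.finrank F (Vm f)) with h | h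
    · exact h
    · rw [h.neg_one_pow] at hdet'
      exact absurd hdet' hne1
  have hnz : Module.finrank F (Vm f) ≠ 0 := by
    intro h0
    have hbot : Vm f = ⊥ := Submodule.finrank_eq_zero.mp h0
    apply hne
    have hid : f = LinearMap.id := by
      apply LinearMap.ext
      intro x
      have h1 : x - f x ∈ Vm f := by
        rw [mem_Vm, map_sub, hf, neg_sub]
      rw [hbot, Submodule.mem_bot, sub_eq_zero] at h1
      rw [LinearMap.id_apply, ← h1]
    have : Matrix.toLin' u = Matrix.toLin' (1 : Matrix (Fin 3) (Fin 3) F) := by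
      rw [Matrix.toLin'_one]
      exact hid
    exact Matrix.toLin'.injective this
  have hdm : Module.finrank F (Vm f) = 2 := by
    obtain ⟨k, hk⟩ := heven
    omega
  have hdp : Module.finrank F (Vp f) = 1 := by omega
  let bm : Module.Basis (Fin 2) F (Vm f) := Module.finBasisOfFinrankEq F _ hdm
  let bp : Module.Basis (Fin 1) F (Vp f) := Module.finBasisOfFinrankEq F _ hdp
  let B : Module.Basis (Fin 3) F (Fin 3 → F) :=
    ((bm.prod bp).map (Submodule.prodEquivOfIsCompl (Vm f) (Vp f) hc)).reindex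
      (finSumFinEquiv : Fin 2 ⊕ Fin 1 ≃ Fin 3)
  have hBl : ∀ i : Fin 2, B (Fin.castAdd 1 i) = (bm i : Fin 3 → F) := by
    intro i
    simp only [B, Module.Basis.reindex_apply, Module.Basis.map_apply,
      Submodule.coe_prodEquivOfIsCompl']
    rw [finSumFinEquiv_symm_apply_castAdd, Module.Basis.prod_apply_inl_fst,
      Module.Basis.prod_apply_inl_snd, ZeroMemClass.coe_zero, add_zero]
  have hBr : ∀ i : Fin 1, B (Fin.natAdd 2 i) = (bp i : Fin 3 → F) := by
    intro i
    simp only [B, Module.Basis.reindex_apply, Module.Basis.map_apply,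
      Submodule.coe_prodEquivOfIsCompl']
    rw [finSumFinEquiv_symm_apply_natAdd, Module.Basis.prod_apply_inr_fst,
      Module.Basis.prod_apply_inr_snd, ZeroMemClass.coe_zero, zero_add]
  have hB0 : f (B 0) = - B 0 := by
    have := hBl 0
    rw [show (Fin.castAdd 1 (0 : Fin 2) : Fin 3) = 0 from rfl] at this
    rw [this]
    exact mem_Vm.mp (bm 0).2
  have hB1 : f (B 1) = - B 1 := by
    have := hBl 1
    rw [show (Fin.castAdd 1 (1 : Fin 2) : Fin 3) = 1 from rfl] at this
    rw [this]
    exact mem_Vm.mp (bm 1).2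
  have hB2 : f (B 2) = B 2 := by
    have := hBr 0
    rw [show (Fin.natAdd 2 (0 : Fin 1) : Fin 3) = 2 from rfl] at this
    rw [this]
    exact mem_Vp.mp (bp 0).2
  refine ⟨(Pi.basisFun F (Fin 3)).toMatrix B, ?_, ?_⟩
  · have := (Pi.basisFun F (Fin 3)).isUnit_det B
    rw [Module.Basis.det_apply] at this
    exact this.ne_zero
  · have hcol : ∀ j i, (u * (Pi.basisFun F (Fin 3)).toMatrix B) i j = f (B j) i := by
      intro j i
      rw [hfdef, Matrix.toLin'_apply, Matrix.mul_apply, Matrix.mulVec, dotProduct]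
      apply Finset.sum_congr rfl
      intro k _
      rw [Module.Basis.toMatrix_apply, Pi.basisFun_repr]
    ext i j
    rw [hcol]
    have hg : ∀ i j, (Pi.basisFun F (Fin 3)).toMatrix B i j = B j i := by
      intro i j
      rw [Module.Basis.toMatrix_apply, Pi.basisFun_repr]
    rw [Matrix.mul_apply, Fin.sum_univ_three, hg, hg, hg]
    fin_cases j
    · simp [hB0]
    · simp [hB1]
    · simp [hB2]

end Cfsg.Agent.Lib.Helper46_F2L3_INVB
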