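import Mathlib
import Cfsg.Agent.Lib.Helper83_FrCDefs

set_option autoImplicit false
set_option linter.unusedVariables false
set_option linter.unusedSectionVars false

/-!
S5655 case (C), package PK02 (helper83's market): the norm-one group of `F_{q²}` is cyclic of order `q + 1`.
-/

namespace Cfsg.Agent.Lib.Helper46_FrC_PK02

open Module Cfsg.Agent.Lib.Helper94_Herm Cfsg.Agent.Lib.Helper13_PSUSimple
  Cfsg.Agent.Lib.Helper94_FrmDefs Cfsg.Agent.Lib.Helper83_FrCDefs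

variable {F V ι : Type*} [Field F] [AddCommGroup V] [Module F V] [Fintype ι] [DecidableEq ι]
variable {σ : F →+* F} {B : V →ₗ[F] V →ₛₗ[σ] F} {e : ι → V}

/-- PK02a. -/
theorem exists_mu_gen [Fintype F] (hσ : Invol σ) (q : ℕ) (hq : ∀ x : F, σ x = x ^ q)
    (hcard : Fintype.card F = q ^ 2) :
    ∃ z : F, z * σ z = 1 ∧ ∀ k : ℕ, z ^ k = 1 → (q + 1) ∣ k := by
  classical
  have hq2 : 2 ≤ q := by
    have h1 : 1 < Fintype.card F := Fintype.one_lt_card
    rw [hcard] at h1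
    by_contra hlt
    push Not at hlt
    interval_cases q <;> simp at h1
  have hfac : q ^ 2 - 1 = (q - 1) * (q + 1) := by
    obtain ⟨s, rfl⟩ : ∃ s, q = s + 2 := ⟨q - 2, by omega⟩
    have h1 : s + 2 - 1 = s + 1 := by omega
    rw [h1]
    apply Nat.sub_eq_of_eq_add
    ring
  obtain ⟨γ, hγ⟩ := IsCyclic.exists_ofOrder_eq_natCard (α := Fˣ)
  have hord : orderOf γ = (q - 1) * (q + 1) := by
    rw [hγ, Nat.card_eq_fintype_card, Fintype.card_units, hcard, hfac]
  refine ⟨((γ ^ (q - 1) : Fˣ) : F), ?_, ?_⟩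
  · rw [hq, ← pow_succ', ← Units.val_pow_eq_pow_val, ← pow_mul]
    have : (q - 1) * (q + 1) = orderOf γ := hord.symm
    rw [this, pow_orderOf_eq_one, Units.val_one]
  · intro k hk
    rw [← Units.val_pow_eq_pow_val, Units.val_eq_one, ← pow_mul] at hk
    have hdvd := orderOf_dvd_of_pow_eq_one hk
    rw [hord] at hdvd
    exact Nat.dvd_of_mul_dvd_mul_left (by omega : 0 < q - 1) hdvd

/-- PK02b. -/
theorem exists_good [Fintype F] (hσ : Invol σ) (q : ℕ) (hq : ∀ x : F, σ x = x ^ q)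
    (hcard : Fintype.card F = q ^ 2) (h4 : 4 ≤ q) : ∃ z : F, Good σ z := by
  obtain ⟨z, hz1, hz2⟩ := exists_mu_gen hσ q hq hcard
  refine ⟨z, hz1, ?_, ?_⟩
  · intro h3
    have := Nat.le_of_dvd (by norm_num) (hz2 3 h3)
    omega
  · intro h3
    have := Nat.le_of_dvd (by norm_num) (hz2 4 h3)
    omega

/-- PK02c. -/
theorem exists_i3 [Fintype F] (hσ : Invol σ) (hq : ∀ x : F, σ x = x ^ 3)
    (hcard : Fintype.card F = 3 ^ 2) : ∃ i0 : F, i0 * i0 = -1 ∧ σ i0 = -i0 := by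
  obtain ⟨z, hz1, hz2⟩ := exists_mu_gen hσ 3 hq hcard
  have hz4 : z ^ 4 = 1 := by
    rw [hq] at hz1
    rw [← hz1]
    ring
  have hz2ne : z ^ 2 ≠ 1 := by
    intro h
    have := Nat.le_of_dvd (by norm_num) (hz2 2 h)
    omega
  have hsq : z * z = -1 := by
    have hfac : (z ^ 2 - 1) * (z ^ 2 + 1) = 0 := by
      have : (z ^ 2 - 1) * (z ^ 2 + 1) = z ^ 4 - 1 := by ring
      rw [this, hz4, sub_self]
    rcases mul_eq_zero.mp hfac with h | h
    · exact absurd (sub_eq_zero.mp h) hz2ne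
    · have : z ^ 2 = -1 := eq_neg_of_add_eq_zero_left h
      rw [← this]
      ring
  refine ⟨z, hsq, ?_⟩
  rw [hq]
  have : z ^ 3 = (z * z) * z := by ring
  rw [this, hsq]
  ring

end Cfsg.Agent.Lib.Helper46_FrC_PK02
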