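import Mathlib

/-!
# Helper46_G23Seven

The seven-dimensional module of `G₂(3)` over `ZMod 3` (short root vectors and `h_a` of the
Chevalley basis), its invariant alternating product `cr`, the restrictions `g7 r c` of the root
elements, and the determination of all matrices commuting with explicit elements of orders `13`
and `7` that preserve `cr`.
-/

set_option autoImplicit false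

namespace Cfsg.Agent.Lib.Helper46_G23Seven

open Matrix

abbrev V7 := Fin 7 → ZMod 3
abbrev M7 := Matrix (Fin 7) (Fin 7) (ZMod 3)

/-- Unrolled matrix-vector product. -/
def mv7 (M : M7) (u : V7) : V7 :=
  ![M 0 0 * u 0 + M 0 1 * u 1 + M 0 2 * u 2 + M 0 3 * u 3 + M 0 4 * u 4 + M 0 5 * u 5 + M 0 6 * u 6,
    M 1 0 * u 0 + M 1 1 * u 1 + M 1 2 * u 2 + M 1 3 * u 3 + M 1 4 * u 4 + M 1 5 * u 5 + M 1 6 * u 6,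
    M 2 0 * u 0 + M 2 1 * u 1 + M 2 2 * u 2 + M 2 3 * u 3 + M 2 4 * u 4 + M 2 5 * u 5 + M 2 6 * u 6,
    M 3 0 * u 0 + M 3 1 * u 1 + M 3 2 * u 2 + M 3 3 * u 3 + M 3 4 * u 4 + M 3 5 * u 5 + M 3 6 * u 6,
    M 4 0 * u 0 + M 4 1 * u 1 + M 4 2 * u 2 + M 4 3 * u 3 + M 4 4 * u 4 + M 4 5 * u 5 + M 4 6 * u 6,
    M 5 0 * u 0 + M 5 1 * u 1 + M 5 2 * u 2 + M 5 3 * u 3 + M 5 4 * u 4 + M 5 5 * u 5 + M 5 6 * u 6,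
    M 6 0 * u 0 + M 6 1 * u 1 + M 6 2 * u 2 + M 6 3 * u 3 + M 6 4 * u 4 + M 6 5 * u 5 + M 6 6 * u 6]

theorem mv7_eq (M : M7) (u : V7) : mv7 M u = M *ᵥ u := by
  ext i
  fin_cases i <;> simp [mv7, Matrix.mulVec, dotProduct, Fin.sum_univ_seven]

/-- Unrolled matrix product. -/
def mul7 (A B : M7) : M7 :=
  Matrix.of fun i j => A i 0 * B 0 j + A i 1 * B 1 j + A i 2 * B 2 j + A i 3 * B 3 j + A i 4 * B 4 j + A i 5 * B 5 j + A i 6 * B 6 j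

theorem mul7_eq (A B : M7) : mul7 A B = A * B := by
  ext i j
  simp [mul7, Matrix.mul_apply, Fin.sum_univ_seven]

theorem vec_eta7 (w : V7) : ![w 0, w 1, w 2, w 3, w 4, w 5, w 6] = w := by
  ext i; fin_cases i <;> rfl

/-- The invariant alternating product. -/
def cr (u w : V7) : V7 :=
  ![u 1 * w 6 - u 2 * w 5 - u 3 * w 4 + u 4 * w 3 + u 5 * w 2 - u 6 * w 1,
    -u 0 * w 1 + u 1 * w 0 + u 2 * w 3 - u 3 * w 2,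
    u 0 * w 2 + u 1 * w 4 - u 2 * w 0 - u 4 * w 1,
    u 0 * w 3 - u 1 * w 5 - u 3 * w 0 + u 5 * w 1,
    -u 0 * w 4 - u 2 * w 6 + u 4 * w 0 + u 6 * w 2,
    -u 0 * w 5 + u 3 * w 6 + u 5 * w 0 - u 6 * w 3,
    u 0 * w 6 + u 4 * w 5 - u 5 * w 4 - u 6 * w 0]

theorem cr_add_left (u u' w : V7) : cr (u + u') w = cr u w + cr u' w := by
  ext i; fin_cases i <;> simp [cr] <;> ring

theorem cr_smul_left (c : ZMod 3) (u w : V7) : cr (c • u) w = c • cr u w := by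
  ext i; fin_cases i <;> simp [cr] <;> ring

theorem cr_add_right (u w w' : V7) : cr u (w + w') = cr u w + cr u w' := by
  ext i; fin_cases i <;> simp [cr] <;> ring

theorem cr_smul_right (c : ZMod 3) (u w : V7) : cr u (c • w) = c • cr u w := by
  ext i; fin_cases i <;> simp [cr] <;> ring

/-- `cr` as a bilinear map. -/
def crL : V7 →ₗ[ZMod 3] V7 →ₗ[ZMod 3] V7 :=
  LinearMap.mk₂ (ZMod 3) cr cr_add_left cr_smul_left cr_add_right cr_smul_right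

/-- `R` preserves the product. -/
def Pres (R : M7) : Prop := ∀ u w : V7, R *ᵥ cr u w = cr (R *ᵥ u) (R *ᵥ w)

/-- `R` preserves the product on the standard basis. -/
def PresB (R : M7) : Prop := ∀ a b : Fin 7,
  mv7 R (cr (Pi.single a 1) (Pi.single b 1)) = cr (mv7 R (Pi.single a 1)) (mv7 R (Pi.single b 1))

instance (R : M7) : Decidable (PresB R) := by unfold PresB; infer_instance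

theorem pres_of_presB {R : M7} (h : PresB R) : Pres R := by
  have key : crL.compr₂ (Matrix.toLin' R) = crL.compl₁₂ (Matrix.toLin' R) (Matrix.toLin' R) := by
    apply (Pi.basisFun (ZMod 3) (Fin 7)).ext
    intro a
    apply (Pi.basisFun (ZMod 3) (Fin 7)).ext
    intro b
    have h1 := h a b
    rw [mv7_eq, mv7_eq, mv7_eq] at h1
    simpa [crL] using h1
  intro u w
  have h2 := LinearMap.congr_fun (LinearMap.congr_fun key u) w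
  simpa [crL] using h2

theorem pres_one : Pres (1 : M7) := by
  intro u w; simp

theorem pres_mul {R S : M7} (hR : Pres R) (hS : Pres S) : Pres (R * S) := by
  intro u w
  rw [← Matrix.mulVec_mulVec, ← Matrix.mulVec_mulVec, ← Matrix.mulVec_mulVec, hS, hR]

theorem pres_inv {R Ri : M7} (h1 : R * Ri = 1) (hR : Pres R) : Pres Ri := by
  have h2 : Ri * R = 1 := mul_eq_one_comm.1 h1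
  intro u w
  have e := hR (Ri *ᵥ u) (Ri *ᵥ w)
  rw [Matrix.mulVec_mulVec, Matrix.mulVec_mulVec, h1, Matrix.one_mulVec, Matrix.one_mulVec] at e
  rw [← e, Matrix.mulVec_mulVec, h2, Matrix.one_mulVec]

/-! ### The root elements -/

/-- The restrictions of the root elements `x_r(c)`. -/
def g7tab : Fin 12 → Fin 3 → M7 :=
  ![![!![1, 0, 0, 0, 0, 0, 0; 0, 1, 0, 0, 0, 0, 0; 0, 0, 1, 0, 0, 0, 0; 0, 0, 0, 1, 0, 0, 0; 0, 0, 0, 0, 1, 0, 0; 0, 0, 0, 0, 0, 1, 0; 0, 0, 0, 0, 0, 0, 1],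
     !![1, 0, 0, 0, 0, 0, 0; 0, 1, 0, 0, 0, 1, 0; 0, 0, 1, 0, 0, 0, 2; 0, 0, 0, 1, 0, 0, 0; 0, 0, 0, 0, 1, 0, 0; 0, 0, 0, 0, 0, 1, 0; 0, 0, 0, 0, 0, 0, 1],
     !![1, 0, 0, 0, 0, 0, 0; 0, 1, 0, 0, 0, 2, 0; 0, 0, 1, 0, 0, 0, 1; 0, 0, 0, 1, 0, 0, 0; 0, 0, 0, 0, 1, 0, 0; 0, 0, 0, 0, 0, 1, 0; 0, 0, 0, 0, 0, 0, 1]],
    ![!![1, 0, 0, 0, 0, 0, 0; 0, 1, 0, 0, 0, 0, 0; 0, 0, 1, 0, 0, 0, 0; 0, 0, 0, 1, 0, 0, 0; 0, 0, 0, 0, 1, 0, 0; 0, 0, 0, 0, 0, 1, 0; 0, 0, 0, 0, 0, 0, 1],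
     !![1, 0, 0, 0, 0, 0, 0; 0, 1, 0, 0, 1, 0, 0; 0, 0, 1, 0, 0, 0, 0; 0, 0, 0, 1, 0, 0, 2; 0, 0, 0, 0, 1, 0, 0; 0, 0, 0, 0, 0, 1, 0; 0, 0, 0, 0, 0, 0, 1],
     !![1, 0, 0, 0, 0, 0, 0; 0, 1, 0, 0, 2, 0, 0; 0, 0, 1, 0, 0, 0, 0; 0, 0, 0, 1, 0, 0, 1; 0, 0, 0, 0, 1, 0, 0; 0, 0, 0, 0, 0, 1, 0; 0, 0, 0, 0, 0, 0, 1]],
    ![!![1, 0, 0, 0, 0, 0, 0; 0, 1, 0, 0, 0, 0, 0; 0, 0, 1, 0, 0, 0, 0; 0, 0, 0, 1, 0, 0, 0; 0, 0, 0, 0, 1, 0, 0; 0, 0, 0, 0, 0, 1, 0; 0, 0, 0, 0, 0, 0, 1],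
     !![1, 0, 0, 0, 0, 0, 1; 1, 1, 0, 0, 0, 0, 2; 0, 0, 1, 0, 1, 0, 0; 0, 0, 0, 1, 0, 2, 0; 0, 0, 0, 0, 1, 0, 0; 0, 0, 0, 0, 0, 1, 0; 0, 0, 0, 0, 0, 0, 1],
     !![1, 0, 0, 0, 0, 0, 2; 2, 1, 0, 0, 0, 0, 2; 0, 0, 1, 0, 2, 0, 0; 0, 0, 0, 1, 0, 1, 0; 0, 0, 0, 0, 1, 0, 0; 0, 0, 0, 0, 0, 1, 0; 0, 0, 0, 0, 0, 0, 1]],
    ![!![1, 0, 0, 0, 0, 0, 0; 0, 1, 0, 0, 0, 0, 0; 0, 0, 1, 0, 0, 0, 0; 0, 0, 0, 1, 0, 0, 0; 0, 0, 0, 0, 1, 0, 0; 0, 0, 0, 0, 0, 1, 0; 0, 0, 0, 0, 0, 0, 1],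
     !![1, 0, 0, 0, 0, 2, 0; 0, 1, 0, 1, 0, 0, 0; 2, 0, 1, 0, 0, 2, 0; 0, 0, 0, 1, 0, 0, 0; 0, 0, 0, 0, 1, 0, 2; 0, 0, 0, 0, 0, 1, 0; 0, 0, 0, 0, 0, 0, 1],
     !![1, 0, 0, 0, 0, 1, 0; 0, 1, 0, 2, 0, 0, 0; 1, 0, 1, 0, 0, 2, 0; 0, 0, 0, 1, 0, 0, 0; 0, 0, 0, 0, 1, 0, 1; 0, 0, 0, 0, 0, 1, 0; 0, 0, 0, 0, 0, 0, 1]],
    ![!![1, 0, 0, 0, 0, 0, 0; 0, 1, 0, 0, 0, 0, 0; 0, 0, 1, 0, 0, 0, 0; 0, 0, 0, 1, 0, 0, 0; 0, 0, 0, 0, 1, 0, 0; 0, 0, 0, 0, 0, 1, 0; 0, 0, 0, 0, 0, 0, 1],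
     !![1, 0, 0, 0, 2, 0, 0; 0, 1, 2, 0, 0, 0, 0; 0, 0, 1, 0, 0, 0, 0; 2, 0, 0, 1, 2, 0, 0; 0, 0, 0, 0, 1, 0, 0; 0, 0, 0, 0, 0, 1, 1; 0, 0, 0, 0, 0, 0, 1],
     !![1, 0, 0, 0, 1, 0, 0; 0, 1, 1, 0, 0, 0, 0; 0, 0, 1, 0, 0, 0, 0; 1, 0, 0, 1, 2, 0, 0; 0, 0, 0, 0, 1, 0, 0; 0, 0, 0, 0, 0, 1, 2; 0, 0, 0, 0, 0, 0, 1]],
    ![!![1, 0, 0, 0, 0, 0, 0; 0, 1, 0, 0, 0, 0, 0; 0, 0, 1, 0, 0, 0, 0; 0, 0, 0, 1, 0, 0, 0; 0, 0, 0, 0, 1, 0, 0; 0, 0, 0, 0, 0, 1, 0; 0, 0, 0, 0, 0, 0, 1],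
     !![1, 0, 0, 0, 0, 0, 0; 0, 1, 0, 0, 0, 0, 0; 0, 0, 1, 2, 0, 0, 0; 0, 0, 0, 1, 0, 0, 0; 0, 0, 0, 0, 1, 1, 0; 0, 0, 0, 0, 0, 1, 0; 0, 0, 0, 0, 0, 0, 1],
     !![1, 0, 0, 0, 0, 0, 0; 0, 1, 0, 0, 0, 0, 0; 0, 0, 1, 1, 0, 0, 0; 0, 0, 0, 1, 0, 0, 0; 0, 0, 0, 0, 1, 2, 0; 0, 0, 0, 0, 0, 1, 0; 0, 0, 0, 0, 0, 0, 1]],
    ![!![1, 0, 0, 0, 0, 0, 0; 0, 1, 0, 0, 0, 0, 0; 0, 0, 1, 0, 0, 0, 0; 0, 0, 0, 1, 0, 0, 0; 0, 0, 0, 0, 1, 0, 0; 0, 0, 0, 0, 0, 1, 0; 0, 0, 0, 0, 0, 0, 1],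
     !![1, 0, 0, 0, 0, 0, 0; 0, 1, 0, 0, 0, 0, 0; 0, 0, 1, 0, 0, 0, 0; 0, 0, 2, 1, 0, 0, 0; 0, 0, 0, 0, 1, 0, 0; 0, 0, 0, 0, 1, 1, 0; 0, 0, 0, 0, 0, 0, 1],
     !![1, 0, 0, 0, 0, 0, 0; 0, 1, 0, 0, 0, 0, 0; 0, 0, 1, 0, 0, 0, 0; 0, 0, 1, 1, 0, 0, 0; 0, 0, 0, 0, 1, 0, 0; 0, 0, 0, 0, 2, 1, 0; 0, 0, 0, 0, 0, 0, 1]],
    ![!![1, 0, 0, 0, 0, 0, 0; 0, 1, 0, 0, 0, 0, 0; 0, 0, 1, 0, 0, 0, 0; 0, 0, 0, 1, 0, 0, 0; 0, 0, 0, 0, 1, 0, 0; 0, 0, 0, 0, 0, 1, 0; 0, 0, 0, 0, 0, 0, 1],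
     !![1, 0, 0, 1, 0, 0, 0; 0, 1, 0, 0, 0, 0, 0; 0, 2, 1, 0, 0, 0, 0; 0, 0, 0, 1, 0, 0, 0; 1, 0, 0, 2, 1, 0, 0; 0, 0, 0, 0, 0, 1, 0; 0, 0, 0, 0, 0, 1, 1],
     !![1, 0, 0, 2, 0, 0, 0; 0, 1, 0, 0, 0, 0, 0; 0, 1, 1, 0, 0, 0, 0; 0, 0, 0, 1, 0, 0, 0; 2, 0, 0, 2, 1, 0, 0; 0, 0, 0, 0, 0, 1, 0; 0, 0, 0, 0, 0, 2, 1]],
    ![!![1, 0, 0, 0, 0, 0, 0; 0, 1, 0, 0, 0, 0, 0; 0, 0, 1, 0, 0, 0, 0; 0, 0, 0, 1, 0, 0, 0; 0, 0, 0, 0, 1, 0, 0; 0, 0, 0, 0, 0, 1, 0; 0, 0, 0, 0, 0, 0, 1],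
     !![1, 0, 1, 0, 0, 0, 0; 0, 1, 0, 0, 0, 0, 0; 0, 0, 1, 0, 0, 0, 0; 0, 1, 0, 1, 0, 0, 0; 0, 0, 0, 0, 1, 0, 0; 1, 0, 2, 0, 0, 1, 0; 0, 0, 0, 0, 2, 0, 1],
     !![1, 0, 2, 0, 0, 0, 0; 0, 1, 0, 0, 0, 0, 0; 0, 0, 1, 0, 0, 0, 0; 0, 2, 0, 1, 0, 0, 0; 0, 0, 0, 0, 1, 0, 0; 2, 0, 2, 0, 0, 1, 0; 0, 0, 0, 0, 1, 0, 1]],
    ![!![1, 0, 0, 0, 0, 0, 0; 0, 1, 0, 0, 0, 0, 0; 0, 0, 1, 0, 0, 0, 0; 0, 0, 0, 1, 0, 0, 0; 0, 0, 0, 0, 1, 0, 0; 0, 0, 0, 0, 0, 1, 0; 0, 0, 0, 0, 0, 0, 1],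
     !![1, 2, 0, 0, 0, 0, 0; 0, 1, 0, 0, 0, 0, 0; 0, 0, 1, 0, 0, 0, 0; 0, 0, 0, 1, 0, 0, 0; 0, 0, 1, 0, 1, 0, 0; 0, 0, 0, 2, 0, 1, 0; 2, 2, 0, 0, 0, 0, 1],
     !![1, 1, 0, 0, 0, 0, 0; 0, 1, 0, 0, 0, 0, 0; 0, 0, 1, 0, 0, 0, 0; 0, 0, 0, 1, 0, 0, 0; 0, 0, 2, 0, 1, 0, 0; 0, 0, 0, 1, 0, 1, 0; 1, 2, 0, 0, 0, 0, 1]],
    ![!![1, 0, 0, 0, 0, 0, 0; 0, 1, 0, 0, 0, 0, 0; 0, 0, 1, 0, 0, 0, 0; 0, 0, 0, 1, 0, 0, 0; 0, 0, 0, 0, 1, 0, 0; 0, 0, 0, 0, 0, 1, 0; 0, 0, 0, 0, 0, 0, 1],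
     !![1, 0, 0, 0, 0, 0, 0; 0, 1, 0, 0, 0, 0, 0; 0, 0, 1, 0, 0, 0, 0; 0, 0, 0, 1, 0, 0, 0; 0, 1, 0, 0, 1, 0, 0; 0, 0, 0, 0, 0, 1, 0; 0, 0, 0, 2, 0, 0, 1],
     !![1, 0, 0, 0, 0, 0, 0; 0, 1, 0, 0, 0, 0, 0; 0, 0, 1, 0, 0, 0, 0; 0, 0, 0, 1, 0, 0, 0; 0, 2, 0, 0, 1, 0, 0; 0, 0, 0, 0, 0, 1, 0; 0, 0, 0, 1, 0, 0, 1]],
    ![!![1, 0, 0, 0, 0, 0, 0; 0, 1, 0, 0, 0, 0, 0; 0, 0, 1, 0, 0, 0, 0; 0, 0, 0, 1, 0, 0, 0; 0, 0, 0, 0, 1, 0, 0; 0, 0, 0, 0, 0, 1, 0; 0, 0, 0, 0, 0, 0, 1],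
     !![1, 0, 0, 0, 0, 0, 0; 0, 1, 0, 0, 0, 0, 0; 0, 0, 1, 0, 0, 0, 0; 0, 0, 0, 1, 0, 0, 0; 0, 0, 0, 0, 1, 0, 0; 0, 1, 0, 0, 0, 1, 0; 0, 0, 2, 0, 0, 0, 1],
     !![1, 0, 0, 0, 0, 0, 0; 0, 1, 0, 0, 0, 0, 0; 0, 0, 1, 0, 0, 0, 0; 0, 0, 0, 1, 0, 0, 0; 0, 0, 0, 0, 1, 0, 0; 0, 2, 0, 0, 0, 1, 0; 0, 0, 1, 0, 0, 0, 1]]]

/-- The restriction of `x_r(c)`. -/
def g7 (r : Fin 12) (c : ZMod 3) : M7 := g7tab r c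

set_option maxRecDepth 100000 in
theorem g7_mul_neg : ∀ r : Fin 12, ∀ c : ZMod 3, mul7 (g7 r c) (g7 r (-c)) = 1 := by
  decide +kernel

set_option maxRecDepth 100000 in
theorem presB_g7 : ∀ r : Fin 12, ∀ c : ZMod 3, PresB (g7 r c) := by
  decide +kernel

theorem pres_g7 (r : Fin 12) (c : ZMod 3) : Pres (g7 r c) := pres_of_presB (presB_g7 r c)

theorem g7_mul_neg' (r : Fin 12) (c : ZMod 3) : g7 r c * g7 r (-c) = 1 := by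
  rw [← mul7_eq]; exact g7_mul_neg r c

theorem g7_zero : ∀ r : Fin 12, g7 r 0 = 1 := by decide +kernel

/-! ### Centralizers: the general argument -/

/-- Data for the determination of the matrices commuting with `x` and preserving `cr`. -/
structure CData (N : ℕ) [NeZero N] where
  x : M7
  P : M7
  K : M7
  Ki : M7
  v : V7
  m : ℕ
  u : Fin N → V7
  hP : x ^ m = P
  hbase : cr v (x *ᵥ v) = P *ᵥ v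
  hu0 : u 0 = v
  hu : ∀ i : Fin N, x *ᵥ u i = u (Fin.ofNat N (i.val + 1))
  hK : ∀ i : Fin 7, (fun b => K b i) = u (Fin.ofNat N i.val)
  hKi : K * Ki = 1
  hcheck : ∀ w : V7, cr w (x *ᵥ w) = P *ᵥ w → w = 0 ∨ ∃ i, w = u i

namespace CData

variable {N : ℕ} [NeZero N] (D : CData N)

theorem pow_mulVec (n : ℕ) : D.x ^ n *ᵥ D.v = D.u (Fin.ofNat N n) := by
  induction n with
  | zero =>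
    rw [pow_zero, Matrix.one_mulVec, ← D.hu0]
    rfl
  | succ n ih =>
    rw [pow_succ', ← Matrix.mulVec_mulVec, ih, D.hu]
    congr 1
    apply Fin.ext
    simp [Nat.mod_add_mod]

theorem eq_of_mulVec_eq {y z : M7} (hy : y * D.x = D.x * y) (hz : z * D.x = D.x * z)
    (h : y *ᵥ D.v = z *ᵥ D.v) : y = z := by
  have hyn : ∀ n : ℕ, y * D.x ^ n = D.x ^ n * y := fun n => (Commute.pow_right hy n)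
  have hzn : ∀ n : ℕ, z * D.x ^ n = D.x ^ n * z := fun n => (Commute.pow_right hz n)
  have h1 : ∀ n : ℕ, y *ᵥ D.u (Fin.ofNat N n) = z *ᵥ D.u (Fin.ofNat N n) := by
    intro n
    rw [← D.pow_mulVec, Matrix.mulVec_mulVec, Matrix.mulVec_mulVec, hyn, hzn,
      ← Matrix.mulVec_mulVec, ← Matrix.mulVec_mulVec, h]
  have h2 : y * D.K = z * D.K := by
    ext a i
    have := congrFun (h1 i.val) a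
    simp only [Matrix.mulVec, dotProduct] at this
    have hK : ∀ b, D.K b i = D.u (Fin.ofNat N i.val) b := fun b => congrFun (D.hK i) b
    simp only [Matrix.mul_apply, hK]
    exact this
  calc y = y * (D.K * D.Ki) := by rw [D.hKi, mul_one]
    _ = z * (D.K * D.Ki) := by rw [← mul_assoc, h2, mul_assoc]
    _ = z := by rw [D.hKi, mul_one]

theorem exists_pow {y : M7} (hy : y * D.x = D.x * y) (hpres : Pres y) (hne : y *ᵥ D.v ≠ 0) :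
    ∃ k : ℕ, y = D.x ^ k := by
  have hyP : y * D.P = D.P * y := by rw [← D.hP]; exact (Commute.pow_right hy D.m)
  have h1 : cr (y *ᵥ D.v) (D.x *ᵥ (y *ᵥ D.v)) = D.P *ᵥ (y *ᵥ D.v) := by
    rw [Matrix.mulVec_mulVec, ← hy, ← Matrix.mulVec_mulVec, ← hpres, D.hbase,
      Matrix.mulVec_mulVec, hyP, ← Matrix.mulVec_mulVec]
  rcases D.hcheck _ h1 with h0 | ⟨i, hi⟩
  · exact absurd h0 hne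
  · refine ⟨(i : ℕ), ?_⟩
    apply D.eq_of_mulVec_eq hy (Commute.pow_left (Commute.refl D.x) _)
    rw [hi, D.pow_mulVec]
    congr 1
    apply Fin.ext
    simp

end CData

/-! ### The element of order `13` -/

def x13m : M7 := !![1, 2, 2, 0, 2, 0, 0; 2, 0, 2, 2, 0, 1, 1; 1, 1, 1, 0, 0, 0, 2; 2, 1, 2, 1, 2, 0, 0; 0, 0, 1, 0, 1, 0, 0; 2, 2, 0, 2, 0, 1, 1; 2, 2, 0, 0, 0, 0, 1]
def A2 : M7 := !![1, 1, 1, 1, 1, 2, 0; 0, 0, 1, 1, 2, 1, 0; 2, 1, 2, 2, 2, 1, 2; 2, 1, 0, 0, 2, 1, 2; 1, 1, 2, 0, 1, 0, 2; 2, 1, 0, 2, 2, 0, 1; 2, 0, 2, 1, 1, 2, 0]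
def A3 : M7 := !![1, 2, 2, 1, 2, 0, 2; 2, 1, 2, 0, 1, 1, 0; 1, 2, 2, 0, 1, 2, 2; 1, 1, 2, 1, 0, 2, 1; 0, 2, 1, 2, 0, 1, 1; 1, 2, 0, 1, 1, 1, 2; 1, 2, 0, 2, 1, 2, 0]
def A4 : M7 := !![1, 0, 0, 2, 0, 2, 2; 2, 2, 0, 1, 2, 2, 0; 0, 0, 0, 2, 0, 1, 1; 1, 2, 2, 1, 1, 0, 2; 1, 1, 0, 2, 1, 0, 0; 1, 0, 0, 1, 2, 0, 2; 1, 2, 2, 1, 1, 1, 1]
def P13 : M7 := !![1, 0, 0, 0, 0, 1, 2; 0, 0, 0, 0, 2, 2, 2; 1, 0, 1, 2, 2, 1, 1; 1, 0, 1, 2, 2, 1, 2; 2, 1, 0, 2, 0, 0, 2; 1, 2, 0, 1, 1, 2, 2; 1, 0, 1, 1, 2, 0, 1]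
def v13 : V7 := ![0, 0, 0, 0, 1, 0, 2]
def u13 : Fin 13 → V7 := ![![0, 0, 0, 0, 1, 0, 2], ![2, 2, 1, 2, 1, 2, 2], ![1, 2, 0, 0, 2, 1, 1], ![0, 1, 2, 2, 2, 2, 1], ![1, 2, 2, 2, 1, 0, 0], ![2, 1, 2, 0, 0, 1, 0], ![2, 0, 2, 0, 2, 1, 0], ![1, 0, 1, 0, 1, 2, 1], ![2, 1, 1, 0, 2, 2, 0], ![1, 2, 1, 2, 0, 2, 0], ![1, 1, 1, 2, 1, 0, 0], ![1, 2, 0, 0, 2, 2, 1], ![0, 2, 2, 2, 2, 0, 1]]
def K13 : M7 := !![0, 2, 1, 0, 1, 2, 2; 0, 2, 2, 1, 2, 1, 0; 0, 1, 0, 2, 2, 2, 2; 0, 2, 0, 2, 2, 0, 0; 1, 1, 2, 2, 1, 0, 2; 0, 2, 1, 2, 0, 1, 1; 2, 2, 1, 1, 0, 0, 0]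
def K13i : M7 := !![0, 1, 0, 1, 2, 2, 1; 1, 0, 1, 0, 0, 2, 0; 0, 2, 2, 0, 1, 0, 1; 1, 2, 2, 1, 1, 1, 1; 1, 1, 0, 1, 2, 0, 2; 1, 2, 1, 0, 2, 1, 2; 1, 1, 0, 1, 1, 0, 1]

set_option maxRecDepth 100000 in
theorem x13m_facts : mul7 (mul7 (g7 0 1) (g7 4 1)) (g7 9 1) = x13m ∧ mul7 x13m x13m = A2 ∧
    mul7 A2 x13m = A3 ∧ mul7 A2 A2 = A4 ∧ mul7 A4 A3 = P13 ∧
    cr v13 (mv7 x13m v13) = mv7 P13 v13 ∧ u13 0 = v13 ∧ (∀ i : Fin 13, mv7 x13m (u13 i) = u13 (Fin.ofNat 13 (i.val + 1))) ∧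
    (∀ i : Fin 7, (fun b => K13 b i) = u13 (Fin.ofNat 13 i.val)) ∧ mul7 K13 K13i = 1 := by
  decide +kernel

set_option maxRecDepth 100000 in
theorem check13 : ∀ a b c d e f g : ZMod 3,
    cr ![a, b, c, d, e, f, g] (mv7 x13m ![a, b, c, d, e, f, g]) = mv7 P13 ![a, b, c, d, e, f, g] →
    (![a, b, c, d, e, f, g] = 0 ∨ ∃ i : Fin 13, ![a, b, c, d, e, f, g] = u13 i) := by
  decide +kernel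

theorem x13m_eq : x13m = g7 0 1 * g7 4 1 * g7 9 1 := by
  rw [← mul7_eq, ← mul7_eq]; exact x13m_facts.1.symm

theorem x13m_pow7 : x13m ^ 7 = P13 := by
  obtain ⟨-, h2, h3, h4, h7, -⟩ := x13m_facts
  rw [mul7_eq] at h2 h3 h4 h7
  rw [← h7, ← h4, ← h3, ← h2]
  simp only [pow_succ, pow_zero, one_mul, mul_assoc]

/-- The data for `x13m`. -/
def D13 : CData 13 where
  x := x13m
  P := P13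
  K := K13
  Ki := K13i
  v := v13
  m := 7
  u := u13
  hP := x13m_pow7
  hbase := by
    have := x13m_facts.2.2.2.2.2.1
    rwa [mv7_eq, mv7_eq] at this
  hu0 := x13m_facts.2.2.2.2.2.2.1
  hu := by
    intro i
    have := x13m_facts.2.2.2.2.2.2.2.1 i
    rwa [mv7_eq] at this
  hK := x13m_facts.2.2.2.2.2.2.2.2.1
  hKi := by
    have := x13m_facts.2.2.2.2.2.2.2.2.2
    rwa [mul7_eq] at this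
  hcheck := by
    intro w hw
    have := check13 (w 0) (w 1) (w 2) (w 3) (w 4) (w 5) (w 6)
    rw [vec_eta7, mv7_eq, mv7_eq] at this
    exact this hw

/-! ### The element of order `7` -/

def x7m : M7 := !![1, 2, 0, 0, 0, 2, 0; 0, 2, 1, 1, 1, 1, 2; 2, 2, 2, 0, 0, 2, 2; 0, 0, 1, 1, 0, 0, 2; 0, 0, 1, 0, 1, 0, 2; 0, 1, 0, 0, 0, 1, 0; 0, 0, 2, 0, 0, 0, 1]
def B2 : M7 := !![1, 2, 2, 2, 2, 0, 1; 2, 1, 1, 0, 0, 2, 0; 0, 2, 1, 2, 2, 0, 1; 2, 2, 1, 1, 0, 2, 0; 2, 2, 1, 0, 1, 2, 0; 0, 0, 1, 1, 1, 2, 2; 1, 1, 0, 0, 0, 1, 2]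
def P7 : M7 := !![2, 2, 1, 2, 2, 1, 2; 1, 1, 2, 2, 2, 0, 1; 1, 1, 1, 1, 1, 1, 0; 2, 1, 1, 0, 2, 1, 1; 2, 1, 1, 2, 0, 1, 1; 0, 2, 2, 2, 2, 1, 0; 2, 2, 1, 0, 0, 0, 1]
def v7 : V7 := ![0, 1, 0, 0, 2, 0, 0]
def u7 : Fin 7 → V7 := ![![0, 1, 0, 0, 2, 0, 0], ![2, 1, 2, 0, 2, 1, 0], ![0, 1, 0, 2, 1, 2, 1], ![0, 0, 2, 1, 0, 0, 1], ![0, 2, 0, 2, 1, 0, 2], ![1, 2, 2, 0, 2, 2, 2], ![0, 2, 0, 0, 2, 1, 0]]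
def K7 : M7 := !![0, 2, 0, 0, 0, 1, 0; 1, 1, 1, 0, 2, 2, 2; 0, 2, 0, 2, 0, 2, 0; 0, 0, 2, 1, 2, 0, 0; 2, 2, 1, 0, 1, 2, 2; 0, 1, 2, 0, 0, 2, 1; 0, 0, 1, 1, 2, 2, 0]
def K7i : M7 := !![1, 0, 2, 1, 2, 2, 1; 1, 1, 0, 0, 1, 2, 0; 1, 2, 0, 1, 2, 1, 2; 0, 1, 2, 0, 1, 2, 0; 2, 2, 2, 1, 2, 1, 1; 2, 1, 0, 0, 1, 2, 0; 2, 2, 0, 1, 2, 2, 2]

set_option maxRecDepth 100000 in
theorem x7m_facts : mul7 (mul7 (mul7 (g7 0 1) (g7 1 1)) (g7 3 1)) (g7 11 1) = x7m ∧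
    mul7 x7m x7m = B2 ∧ mul7 B2 B2 = P7 ∧
    cr v7 (mv7 x7m v7) = mv7 P7 v7 ∧ u7 0 = v7 ∧ (∀ i : Fin 7, mv7 x7m (u7 i) = u7 (Fin.ofNat 7 (i.val + 1))) ∧
    (∀ i : Fin 7, (fun b => K7 b i) = u7 (Fin.ofNat 7 i.val)) ∧ mul7 K7 K7i = 1 := by
  decide +kernel

set_option maxRecDepth 100000 in
theorem check7 : ∀ a b c d e f g : ZMod 3,
    cr ![a, b, c, d, e, f, g] (mv7 x7m ![a, b, c, d, e, f, g]) = mv7 P7 ![a, b, c, d, e, f, g] →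
    (![a, b, c, d, e, f, g] = 0 ∨ ∃ i : Fin 7, ![a, b, c, d, e, f, g] = u7 i) := by
  decide +kernel

theorem x7m_eq : x7m = g7 0 1 * g7 1 1 * g7 3 1 * g7 11 1 := by
  rw [← mul7_eq, ← mul7_eq, ← mul7_eq]; exact x7m_facts.1.symm

theorem x7m_pow4 : x7m ^ 4 = P7 := by
  obtain ⟨-, h2, h4, -⟩ := x7m_facts
  rw [mul7_eq] at h2 h4
  rw [← h4, ← h2]
  simp only [pow_succ, pow_zero, one_mul, mul_assoc]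

/-- The data for `x7m`. -/
def D7 : CData 7 where
  x := x7m
  P := P7
  K := K7
  Ki := K7i
  v := v7
  m := 4
  u := u7
  hP := x7m_pow4
  hbase := by
    have := x7m_facts.2.2.2.1
    rwa [mv7_eq, mv7_eq] at this
  hu0 := x7m_facts.2.2.2.2.1
  hu := by
    intro i
    have := x7m_facts.2.2.2.2.2.1 i
    rwa [mv7_eq] at this
  hK := x7m_facts.2.2.2.2.2.2.1
  hKi := by
    have := x7m_facts.2.2.2.2.2.2.2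
    rwa [mul7_eq] at this
  hcheck := by
    intro w hw
    have := check7 (w 0) (w 1) (w 2) (w 3) (w 4) (w 5) (w 6)
    rw [vec_eta7, mv7_eq, mv7_eq] at this
    exact this hw

/-! ### The element of order `6` -/

def x6m : M7 := !![1, 0, 0, 0, 0, 0, 0; 0, 0, 0, 0, 0, 1, 0; 0, 0, 0, 0, 0, 0, 2; 0, 0, 0, 1, 0, 0, 0; 0, 0, 0, 0, 1, 0, 0; 0, 2, 0, 0, 0, 1, 0; 0, 0, 1, 0, 0, 0, 1]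
def S2 : M7 := !![1, 0, 0, 0, 0, 0, 0; 0, 2, 0, 0, 0, 1, 0; 0, 0, 2, 0, 0, 0, 2; 0, 0, 0, 1, 0, 0, 0; 0, 0, 0, 0, 1, 0, 0; 0, 2, 0, 0, 0, 0, 0; 0, 0, 1, 0, 0, 0, 0]
def S3 : M7 := !![1, 0, 0, 0, 0, 0, 0; 0, 2, 0, 0, 0, 0, 0; 0, 0, 2, 0, 0, 0, 0; 0, 0, 0, 1, 0, 0, 0; 0, 0, 0, 0, 1, 0, 0; 0, 0, 0, 0, 0, 2, 0; 0, 0, 0, 0, 0, 0, 2]

set_option maxRecDepth 100000 in
theorem x6m_facts : mul7 (g7 0 1) (g7 11 2) = x6m ∧ mul7 x6m x6m = S2 ∧ mul7 S2 x6m = S3 ∧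
    mul7 S3 S3 = 1 ∧ S2 ≠ 1 ∧ S3 ≠ 1 ∧ g7 0 1 ≠ 1 := by
  decide +kernel

theorem x6m_eq : x6m = g7 0 1 * g7 11 2 := by
  rw [← mul7_eq]; exact x6m_facts.1.symm

theorem x6m_pow2 : x6m ^ 2 = S2 := by
  rw [pow_two, ← mul7_eq]; exact x6m_facts.2.1

theorem x6m_pow3 : x6m ^ 3 = S3 := by
  rw [pow_succ, x6m_pow2, ← mul7_eq]; exact x6m_facts.2.2.1

theorem x6m_pow6 : x6m ^ 6 = 1 := by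
  have : x6m ^ 6 = x6m ^ 3 * x6m ^ 3 := by rw [← pow_add]
  rw [this, x6m_pow3, ← mul7_eq]; exact x6m_facts.2.2.2.1

end Cfsg.Agent.Lib.Helper46_G23Seven
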