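import Mathlib
import Cfsg.Agent.Lib.Helper61_TableHom

/-!
# Helper61_FamilyIso3

Coded Cayley tables, indexed by natural numbers, for large explicit groups.

`Fam ι N r X gen m par pj dep` says: `X i` (`i < N`) are elements of a monoid `M` (matrices),
`X 0 = 1`, `X i * ι (gen j) = X (m i j)` for the generators `gen j` (`j < r`) of a group `G` mapped
to `M` by `ι`, and every index is reached from `0` (`par`, `pj`, with `dep` decreasing).  Then, for
`ι` injective and `G` finite, the subgroup generated by the `gen j` consists of the preimages of the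
`X i`; two families with the same tables (one injective, the other with trivial kernel) generate
isomorphic subgroups.
-/

set_option autoImplicit false

namespace Cfsg.Agent.Lib.Helper61_FamilyIso3

open Cfsg.Agent.Lib.Helper61_TableHom

/-- A coded family. -/
structure Fam {G M : Type*} [Group G] [Monoid M] (ι : G →* M) (N r : ℕ) (X : ℕ → M) (gen : ℕ → G)
    (m : ℕ → ℕ → ℕ) (par pj dep : ℕ → ℕ) : Prop where
  one : X 0 = 1
  mul : ∀ i < N, ∀ j < r, X i * ι (gen j) = X (m i j)
  mlt : ∀ i < N, ∀ j < r, m i j < N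
  tree : ∀ i < N, i ≠ 0 → par i < N ∧ pj i < r ∧ m (par i) (pj i) = i ∧ dep (par i) < dep i

/-- The subgroup generated by the first `r` generators. -/
abbrev gens {G : Type*} [Group G] (r : ℕ) (gen : ℕ → G) : Subgroup G :=
  Subgroup.closure (gen '' {j | j < r})

section one

variable {G M : Type*} [Group G] [Monoid M] {ι : G →* M} {N r : ℕ} {X : ℕ → M} {gen : ℕ → G}
  {m : ℕ → ℕ → ℕ} {par pj dep : ℕ → ℕ}

theorem gen_mem {j : ℕ} (hj : j < r) : gen j ∈ gens r gen :=
  Subgroup.subset_closure ⟨j, hj, rfl⟩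

theorem exists_lift (h : Fam ι N r X gen m par pj dep) :
    ∀ d i, dep i = d → i < N → ∃ g ∈ gens r gen, ι g = X i := by
  intro d
  induction d using Nat.strong_induction_on with
  | _ d ih =>
    intro i hd hi
    by_cases h0 : i = 0
    · subst h0
      exact ⟨1, one_mem _, by rw [map_one, h.one]⟩
    · obtain ⟨hp, hj, hm, hdep⟩ := h.tree i hi h0
      obtain ⟨g, hg, hgX⟩ := ih (dep (par i)) (hd ▸ hdep) (par i) rfl hp
      refine ⟨g * gen (pj i), mul_mem hg (gen_mem hj), ?_⟩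
      rw [map_mul, hgX, h.mul _ hp _ hj, hm]

open Classical in
/-- The group element coded by the index `i`. -/
noncomputable def lift (ι : G →* M) (r : ℕ) (X : ℕ → M) (gen : ℕ → G) (i : ℕ) : G :=
  if h : ∃ g ∈ gens r gen, ι g = X i then h.choose else 1

theorem lift_spec (h : Fam ι N r X gen m par pj dep) {i : ℕ} (hi : i < N) :
    lift ι r X gen i ∈ gens r gen ∧ ι (lift ι r X gen i) = X i := by
  have hex := exists_lift h (dep i) i rfl hi
  unfold lift
  rw [dif_pos hex]
  exact hex.choose_spec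

theorem lift_mem (h : Fam ι N r X gen m par pj dep) {i : ℕ} (hi : i < N) :
    lift ι r X gen i ∈ gens r gen := (lift_spec h hi).1

theorem map_lift (h : Fam ι N r X gen m par pj dep) {i : ℕ} (hi : i < N) :
    ι (lift ι r X gen i) = X i := (lift_spec h hi).2

variable (hι : Function.Injective ι)
include hι

theorem lift_zero (h : Fam ι N r X gen m par pj dep) (hN : 0 < N) : lift ι r X gen 0 = 1 := by
  apply hι
  rw [map_lift h hN, map_one, h.one]

theorem lift_mul (h : Fam ι N r X gen m par pj dep) {i j : ℕ} (hi : i < N) (hj : j < r) :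
    lift ι r X gen i * gen j = lift ι r X gen (m i j) := by
  apply hι
  rw [map_mul, map_lift h hi, map_lift h (h.mlt i hi j hj), h.mul i hi j hj]

theorem gen_eq_lift (h : Fam ι N r X gen m par pj dep) (hN : 0 < N) {j : ℕ} (hj : j < r) :
    gen j = lift ι r X gen (m 0 j) := by
  rw [← lift_mul hι h hN hj, lift_zero hι h hN, one_mul]

theorem exists_of_mem_gens [Finite G] (h : Fam ι N r X gen m par pj dep) (hN : 0 < N) {a : G}
    (ha : a ∈ gens r gen) : ∃ i < N, a = lift ι r X gen i := by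
  have key : ∀ b, b ∈ Submonoid.closure (gen '' {j | j < r}) → ∃ i < N, b = lift ι r X gen i := by
    intro b hb
    induction hb using Submonoid.closure_induction_right with
    | one => exact ⟨0, hN, (lift_zero hι h hN).symm⟩
    | mul_right a' _ s hs ih =>
      obtain ⟨j, hj, rfl⟩ := hs
      obtain ⟨i, hi, rfl⟩ := ih
      exact ⟨m i j, h.mlt i hi j hj, lift_mul hι h hi hj⟩
  apply key
  have hfin : ∀ s ∈ gen '' {j | j < r}, IsOfFinOrder s := fun s _ => isOfFinOrder_of_finite s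
  rw [← Subgroup.closure_toSubmonoid_of_isOfFinOrder hfin]
  exact ha

theorem mem_gens_iff [Finite G] (h : Fam ι N r X gen m par pj dep) (hN : 0 < N) (a : G) :
    a ∈ gens r gen ↔ ∃ i < N, ι a = X i := by
  constructor
  · intro ha
    obtain ⟨i, hi, rfl⟩ := exists_of_mem_gens hι h hN ha
    exact ⟨i, hi, map_lift h hi⟩
  · rintro ⟨i, hi, hia⟩
    have : a = lift ι r X gen i := hι (by rw [hia, map_lift h hi])
    rw [this]
    exact lift_mem h hi

omit hι in
theorem lift_injOn (h : Fam ι N r X gen m par pj dep)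
    (hinj : ∀ i < N, ∀ i' < N, X i = X i' → i = i') {i i' : ℕ} (hi : i < N) (hi' : i' < N)
    (he : lift ι r X gen i = lift ι r X gen i') : i = i' := by
  apply hinj i hi i' hi'
  rw [← map_lift h hi, ← map_lift h hi', he]

theorem card_gens [Finite G] (h : Fam ι N r X gen m par pj dep) (hN : 0 < N)
    (hinj : ∀ i < N, ∀ i' < N, X i = X i' → i = i') : Nat.card ↥(gens r gen) = N := by
  let f : Fin N → ↥(gens r gen) := fun i => ⟨lift ι r X gen i.val, lift_mem h i.isLt⟩
  have hf : Function.Bijective f := by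
    constructor
    · intro i i' hii
      apply Fin.ext
      exact lift_injOn h hinj i.isLt i'.isLt (congrArg Subtype.val hii)
    · intro a
      obtain ⟨i, hi, hia⟩ := exists_of_mem_gens hι h hN a.2
      exact ⟨⟨i, hi⟩, Subtype.ext hia.symm⟩
  rw [← Nat.card_congr (Equiv.ofBijective f hf), Nat.card_eq_fintype_card, Fintype.card_fin]

end one

section two

variable {G₁ G₂ M₁ M₂ : Type*} [Group G₁] [Group G₂] [Monoid M₁] [Monoid M₂] [Finite G₁] [Finite G₂]
  {ι₁ : G₁ →* M₁} {ι₂ : G₂ →* M₂} {N r : ℕ} {X₁ : ℕ → M₁} {X₂ : ℕ → M₂} {gen₁ : ℕ → G₁}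
  {gen₂ : ℕ → G₂} {m : ℕ → ℕ → ℕ} {par pj dep : ℕ → ℕ}

/-- Two families with the same tables, the first injective and the second with trivial kernel,
generate isomorphic subgroups. -/
theorem exists_mulEquiv (hι₁ : Function.Injective ι₁) (hι₂ : Function.Injective ι₂)
    (h₁ : Fam ι₁ N r X₁ gen₁ m par pj dep) (h₂ : Fam ι₂ N r X₂ gen₂ m par pj dep) (hN : 0 < N)
    (hinj : ∀ i < N, ∀ i' < N, X₁ i = X₁ i' → i = i') (hker : ∀ i < N, X₂ i = 1 → i = 0) :
    Nonempty (↥(gens r gen₁) ≃* ↥(gens r gen₂)) := by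
  classical
  have hex : ∀ a : ↥(gens r gen₁), ∃ i, i < N ∧ (a : G₁) = lift ι₁ r X₁ gen₁ i := fun a =>
    exists_of_mem_gens hι₁ h₁ hN a.2
  let idx : ↥(gens r gen₁) → ℕ := fun a => (hex a).choose
  have hidx : ∀ a, idx a < N ∧ (a : G₁) = lift ι₁ r X₁ gen₁ (idx a) := fun a => (hex a).choose_spec
  have hidx' : ∀ (a : ↥(gens r gen₁)) (i : ℕ), i < N → (a : G₁) = lift ι₁ r X₁ gen₁ i →
      idx a = i := by
    intro a i hi hai
    exact lift_injOn h₁ hinj (hidx a).1 hi ((hidx a).2.symm.trans hai)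
  let φ : ↥(gens r gen₁) → ↥(gens r gen₂) := fun a =>
    ⟨lift ι₂ r X₂ gen₂ (idx a), lift_mem h₂ (hidx a).1⟩
  have hφ1 : φ 1 = 1 := by
    apply Subtype.ext
    show lift ι₂ r X₂ gen₂ (idx 1) = 1
    rw [hidx' 1 0 hN (lift_zero hι₁ h₁ hN).symm, lift_zero hι₂ h₂ hN]
  have hmul : ∀ a b, φ (a * b) = φ a * φ b := by
    apply map_mul_of_closure φ (((↑) : ↥(gens r gen₁) → G₁) ⁻¹' (gen₁ '' {j | j < r}))
      Subgroup.closure_closure_coe_preimage hφ1
    rintro a s ⟨j, hj, hjs⟩
    apply Subtype.ext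
    show lift ι₂ r X₂ gen₂ (idx (a * s)) = lift ι₂ r X₂ gen₂ (idx a) * lift ι₂ r X₂ gen₂ (idx s)
    have hs : idx s = m 0 j := by
      apply hidx' s _ (h₁.mlt 0 hN j hj)
      rw [← hjs]
      exact gen_eq_lift hι₁ h₁ hN hj
    have has : idx (a * s) = m (idx a) j := by
      apply hidx' (a * s) _ (h₁.mlt _ (hidx a).1 j hj)
      rw [Subgroup.coe_mul, ← hjs, ← lift_mul hι₁ h₁ (hidx a).1 hj, ← (hidx a).2]
    rw [hs, has, ← lift_mul hι₂ h₂ (hidx a).1 hj, ← gen_eq_lift hι₂ h₂ hN hj]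
  let Φ : ↥(gens r gen₁) →* ↥(gens r gen₂) := MonoidHom.mk' φ hmul
  have hinjΦ : Function.Injective Φ := by
    rw [injective_iff_map_eq_one]
    intro a ha
    have h1 : lift ι₂ r X₂ gen₂ (idx a) = 1 := congrArg Subtype.val ha
    have h2 : X₂ (idx a) = 1 := by
      rw [← map_lift h₂ (hidx a).1, h1, map_one]
    have h3 := hker _ (hidx a).1 h2
    apply Subtype.ext
    rw [(hidx a).2, h3, lift_zero hι₁ h₁ hN]
    rfl
  have hsurjΦ : Function.Surjective Φ := by
    intro b
    obtain ⟨i, hi, hib⟩ := exists_of_mem_gens hι₂ h₂ hN b.2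
    refine ⟨⟨lift ι₁ r X₁ gen₁ i, lift_mem h₁ hi⟩, ?_⟩
    apply Subtype.ext
    show lift ι₂ r X₂ gen₂ (idx _) = (b : G₂)
    rw [hidx' (⟨lift ι₁ r X₁ gen₁ i, lift_mem h₁ hi⟩ : ↥(gens r gen₁)) i hi rfl, hib]
  exact ⟨MulEquiv.ofBijective Φ ⟨hinjΦ, hsurjΦ⟩⟩

end two

end Cfsg.Agent.Lib.Helper61_FamilyIso3
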