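import Mathlib
import Cfsg.Agent.Lib.Helper61_G22Data
import Cfsg.Agent.Lib.Helper61_FamilyIso3

/-!
# Helper61_G22Bridge

Matrices over `𝔽₂` coded by rows of bits: decoding, the row form of the matrix product (xor of the
selected rows), injectivity of the decoding, and the verification (`decide +kernel`) of the Cayley
table `Helper61_G22Data` for the two generators `A`, `B` of `G₂(2)′` as `14 × 14` matrices.
-/

set_option autoImplicit false

namespace Cfsg.Agent.Lib.Helper61_G22Bridge

open Matrix Cfsg.Agent.Lib.Helper61_G22Data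

universe u

/-- Strict application (the kernel evaluates `n` first). -/
@[inline] def frc {α : Sort u} (n : ℕ) (f : ℕ → α) : α :=
  Nat.rec (motive := fun _ => α) (f 0) (fun a _ => f a) (Nat.add n 1)

theorem frc_eq {α : Sort u} (n : ℕ) (f : ℕ → α) : frc n f = f n := rfl

/-- `f 0 ∧ … ∧ f (n - 1)`. -/
def allLt (n : ℕ) (f : ℕ → Bool) : Bool := Nat.rec true (fun k ih => f k && ih) n

theorem allLt_spec (n : ℕ) (f : ℕ → Bool) (h : allLt n f = true) : ∀ i < n, f i = true := by
  induction n with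
  | zero => intro i hi; omega
  | succ k ih =>
    have h' : (f k && allLt k f) = true := h
    rw [Bool.and_eq_true] at h'
    intro i hi
    rcases Nat.lt_succ_iff_lt_or_eq.1 hi with h1 | h1
    · exact ih h'.2 i h1
    · rw [h1]; exact h'.1

/-- The index type of the `14 × 14` matrices. -/
abbrev I14 := Fin 2 ⊕ Fin 12

/-- Position of an index. -/
def pos : I14 → ℕ
  | .inl i => i.val
  | .inr u => 2 + u.val

theorem pos_lt (p : I14) : pos p < 14 := by
  rcases p with i | u
  · have := i.isLt; simp only [pos]; omega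
  · have := u.isLt; simp only [pos]; omega

def bitZ (b : Bool) : ZMod 2 := bif b then 1 else 0

theorem bitZ_xor (a b : Bool) : bitZ (a ^^ b) = bitZ a + bitZ b := by
  cases a <;> cases b <;> decide

theorem bitZ_inj {a b : Bool} (h : bitZ a = bitZ b) : a = b := by
  revert h; cases a <;> cases b <;> decide

/-- Row `r` of a coded matrix. -/
def rowOf (c r : ℕ) : ℕ := Nat.land (Nat.shiftRight c (Nat.mul 14 r)) 16383

theorem rowOf_eq (c r : ℕ) : rowOf c r = (c >>> (14 * r)) &&& 16383 := rfl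

/-- Decode a row. -/
def decRow (v : ℕ) : I14 → ZMod 2 := fun q => bitZ (v.testBit (pos q))

/-- Decode a matrix. -/
def decM (c : ℕ) : Matrix I14 I14 (ZMod 2) := fun p q => decRow (rowOf c (pos p)) q

/-- `g` if bit `k` of `v` is set, else `0`. -/
def sl (v k g : ℕ) : ℕ :=
  Nat.rec (motive := fun _ => ℕ) 0 (fun _ _ => g) (Nat.land (Nat.shiftRight v k) 1)

theorem sl_eq (v k g : ℕ) : sl v k g = bif v.testBit k then g else 0 := by
  have h1 : Nat.land (Nat.shiftRight v k) 1 = v / 2 ^ k % 2 := by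
    show (v >>> k) &&& 1 = _
    rw [Nat.and_one_is_mod, Nat.shiftRight_eq_div_pow]
  unfold sl
  rw [h1, Nat.testBit_eq_decide_div_mod_eq]
  rcases Nat.mod_two_eq_zero_or_one (v / 2 ^ k) with h | h <;> rw [h] <;> rfl

theorem decRow_xor (a b : ℕ) (q : I14) : decRow (Nat.xor a b) q = decRow a q + decRow b q := by
  unfold decRow
  show bitZ ((a ^^^ b).testBit (pos q)) = _
  rw [Nat.testBit_xor, bitZ_xor]

theorem decRow_sl (v k g : ℕ) (q : I14) :
    decRow (sl v k g) q = bitZ (v.testBit k) * decRow g q := by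
  rw [sl_eq]
  cases v.testBit k
  · simp [decRow, bitZ]
  · simp [bitZ]

/-- A row times a coded matrix: xor of the selected rows. -/
def rop (g v : ℕ) : ℕ :=
  Nat.xor (Nat.xor (Nat.xor (Nat.xor (Nat.xor (Nat.xor (Nat.xor (Nat.xor (Nat.xor (Nat.xor (Nat.xor
  (Nat.xor (Nat.xor (sl v 0 (rowOf g 0)) (sl v 1 (rowOf g 1))) (sl v 2 (rowOf g 2)))
  (sl v 3 (rowOf g 3))) (sl v 4 (rowOf g 4))) (sl v 5 (rowOf g 5))) (sl v 6 (rowOf g 6)))
  (sl v 7 (rowOf g 7))) (sl v 8 (rowOf g 8))) (sl v 9 (rowOf g 9))) (sl v 10 (rowOf g 10)))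
  (sl v 11 (rowOf g 11))) (sl v 12 (rowOf g 12))) (sl v 13 (rowOf g 13))

theorem sum_I14 (f : I14 → ZMod 2) : ∑ k, f k = f (.inl 0) + f (.inl 1) + f (.inr 0) + f (.inr 1) +
    f (.inr 2) + f (.inr 3) + f (.inr 4) + f (.inr 5) + f (.inr 6) + f (.inr 7) + f (.inr 8) +
    f (.inr 9) + f (.inr 10) + f (.inr 11) := by
  rw [Fintype.sum_sum_type, Fin.sum_univ_two]
  simp only [Fin.sum_univ_succ, Fin.sum_univ_zero]
  simp only [add_zero, add_assoc]
  rfl

theorem decRow_rop (g v : ℕ) (q : I14) :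
    decRow (rop g v) q = ∑ k, decRow v k * decM g k q := by
  rw [sum_I14]
  unfold rop
  simp only [decRow_xor, decRow_sl]
  rfl

theorem decM_mul_of_rows (a g c : ℕ) (h : ∀ p < 14, rowOf c p = rop g (rowOf a p)) :
    decM a * decM g = decM c := by
  ext p q
  rw [Matrix.mul_apply]
  show ∑ k, decRow (rowOf a (pos p)) k * decM g k q = decRow (rowOf c (pos p)) q
  rw [← decRow_rop, h (pos p) (pos_lt p)]

/-- Check of a product of coded matrices. -/
def mulOK (a g c : ℕ) : Bool := allLt 14 fun p => Nat.beq (rowOf c p) (rop g (rowOf a p))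

theorem decM_mul {a g c : ℕ} (h : mulOK a g c = true) : decM a * decM g = decM c := by
  apply decM_mul_of_rows
  intro p hp
  exact Nat.eq_of_beq_eq_true (allLt_spec _ _ h p hp)

/-! ### Injectivity of the decoding -/

def idxOf (r : ℕ) : I14 :=
  if h : r < 2 then .inl ⟨r, h⟩ else if h2 : r - 2 < 12 then .inr ⟨r - 2, h2⟩ else .inl 0

theorem pos_idxOf {r : ℕ} (hr : r < 14) : pos (idxOf r) = r := by
  unfold idxOf
  split_ifs with h h2
  · rfl
  · simp only [pos]; omega
  · omega

theorem testBit_rowOf (c r q : ℕ) (hq : q < 14) :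
    (rowOf c r).testBit q = c.testBit (14 * r + q) := by
  rw [rowOf_eq, Nat.testBit_and, Nat.testBit_shiftRight]
  have : (16383 : ℕ) = 2 ^ 14 - 1 := by norm_num
  rw [this, Nat.testBit_two_pow_sub_one]
  simp [hq]

theorem decM_inj {c c' : ℕ} (hc : c < 2 ^ 196) (hc' : c' < 2 ^ 196) (h : decM c = decM c') :
    c = c' := by
  apply Nat.eq_of_testBit_eq
  intro k
  by_cases hk : k < 196
  · have hr : k / 14 < 14 := by omega
    have hq : k % 14 < 14 := Nat.mod_lt _ (by norm_num)
    have h1 := congrFun (congrFun h (idxOf (k / 14))) (idxOf (k % 14))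
    simp only [decM, decRow, pos_idxOf hr, pos_idxOf hq] at h1
    have h2 := bitZ_inj h1
    rw [testBit_rowOf _ _ _ hq, testBit_rowOf _ _ _ hq, Nat.div_add_mod] at h2
    exact h2
  · have hk' : 196 ≤ k := by omega
    rw [Nat.testBit_lt_two_pow (lt_of_lt_of_le hc (Nat.pow_le_pow_right (by norm_num) hk')),
      Nat.testBit_lt_two_pow (lt_of_lt_of_le hc' (Nat.pow_le_pow_right (by norm_num) hk'))]

/-! ### The tables -/

/-- The code of the `i`-th matrix. -/
def look (i : ℕ) : ℕ := Nat.land (Nat.shiftRight E1 (Nat.mul 196 i)) (2 ^ 196 - 1)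

theorem look_lt (i : ℕ) : look i < 2 ^ 196 := by
  show (E1 >>> (196 * i)) &&& (2 ^ 196 - 1) < 2 ^ 196
  exact lt_of_le_of_lt Nat.and_le_right (by norm_num)

/-- The multiplication table. -/
def mtb (i j : ℕ) : ℕ :=
  Nat.land (Nat.shiftRight MT (Nat.mul 16 (Nat.add (Nat.mul 2 i) j))) 65535

def slot (i : ℕ) : ℕ := Nat.land (Nat.shiftRight TT (Nat.mul 32 i)) 4294967295
def par (i : ℕ) : ℕ := Nat.land (slot i) 8191
def pj (i : ℕ) : ℕ := Nat.land (Nat.shiftRight (slot i) 13) 1
def dep (i : ℕ) : ℕ := Nat.shiftRight (slot i) 16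

def ropA (v : ℕ) : ℕ :=
  Nat.xor (Nat.xor (Nat.xor (Nat.xor (Nat.xor (Nat.xor (Nat.xor (Nat.xor (Nat.xor (Nat.xor (Nat.xor (Nat.xor (Nat.xor (sl v 0 8193) (sl v 1 2)) (sl v 2 8198)) (sl v 3 264)) (sl v 4 1040)) (sl v 5 2080)) (sl v 6 64)) (sl v 7 4224)) (sl v 8 256)) (sl v 9 512)) (sl v 10 1024)) (sl v 11 2048)) (sl v 12 4096)) (sl v 13 8192)

def ropB (v : ℕ) : ℕ :=
  Nat.xor (Nat.xor (Nat.xor (Nat.xor (Nat.xor (Nat.xor (Nat.xor (Nat.xor (Nat.xor (Nat.xor (Nat.xor (Nat.xor (Nat.xor (sl v 0 4229) (sl v 1 535)) (sl v 2 4644)) (sl v 3 15609)) (sl v 4 6837)) (sl v 5 644)) (sl v 6 5279)) (sl v 7 128)) (sl v 8 8462)) (sl v 9 164)) (sl v 10 6383)) (sl v 11 528)) (sl v 12 132)) (sl v 13 4239)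

theorem ropA_eq (v : ℕ) : ropA v = rop gcA v := rfl

theorem ropB_eq (v : ℕ) : ropB v = rop gcB v := rfl

/-- The check of the products `x i * A`, `x i * B`. -/
def chk1 (i : ℕ) : Bool :=
  frc (look i) fun c => frc (look (mtb i 0)) fun c0 => frc (look (mtb i 1)) fun c1 =>
    (allLt 14 fun p => frc (rowOf c p) fun v => Nat.beq (rowOf c0 p) (ropA v)) &&
    (allLt 14 fun p => frc (rowOf c p) fun v => Nat.beq (rowOf c1 p) (ropB v)) &&
    Nat.ble (Nat.add (mtb i 0) 1) 6048 && Nat.ble (Nat.add (mtb i 1) 1) 6048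

set_option maxRecDepth 100000 in
theorem chk1_all : allLt 6048 chk1 = true := by decide +kernel

/-- The code of the identity matrix. -/
def oneC : ℕ := 0x8001000200040008001000200040008001000200040008001

/-- Strictly increasing keys. -/
def chk2 (i : ℕ) : Bool :=
  Nat.ble (Nat.add (Nat.xor (look i) oneC) 1) (Nat.xor (look (Nat.add i 1)) oneC)

set_option maxRecDepth 100000 in
theorem chk2_all : allLt 6047 chk2 = true := by decide +kernel

/-- The spanning tree. -/
def chk3 (i : ℕ) : Bool :=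
  Nat.beq i 0 ||
    (Nat.ble (Nat.add (par i) 1) 6048 && Nat.ble (Nat.add (pj i) 1) 2 &&
      Nat.beq (mtb (par i) (pj i)) i && Nat.ble (Nat.add (dep (par i)) 1) (dep i))

set_option maxRecDepth 100000 in
theorem chk3_all : allLt 6048 chk3 = true := by decide +kernel

set_option maxRecDepth 100000 in
theorem look_zero : look 0 = oneC := by decide +kernel

set_option maxRecDepth 100000 in
theorem decM_one : decM oneC = 1 := by decide +kernel

/-! ### Consequences -/

theorem mtb_lt {i j : ℕ} (hi : i < 6048) (hj : j < 2) : mtb i j < 6048 := by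
  have h := allLt_spec _ _ chk1_all i hi
  simp only [chk1, frc_eq, Bool.and_eq_true] at h
  obtain ⟨⟨⟨_, _⟩, h0⟩, h1⟩ := h
  have h0' := Nat.le_of_ble_eq_true h0
  have h1' := Nat.le_of_ble_eq_true h1
  have hj' : j = 0 ∨ j = 1 := by omega
  rcases hj' with rfl | rfl
  · exact h0'
  · exact h1'

theorem mul_A {i : ℕ} (hi : i < 6048) : decM (look i) * decM gcA = decM (look (mtb i 0)) := by
  have h := allLt_spec _ _ chk1_all i hi
  simp only [chk1, frc_eq, Bool.and_eq_true] at h
  obtain ⟨⟨⟨hA, _⟩, _⟩, _⟩ := h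
  apply decM_mul_of_rows
  intro p hp
  rw [← ropA_eq]
  exact Nat.eq_of_beq_eq_true (allLt_spec _ _ hA p hp)

theorem mul_B {i : ℕ} (hi : i < 6048) : decM (look i) * decM gcB = decM (look (mtb i 1)) := by
  have h := allLt_spec _ _ chk1_all i hi
  simp only [chk1, frc_eq, Bool.and_eq_true] at h
  obtain ⟨⟨⟨_, hB⟩, _⟩, _⟩ := h
  apply decM_mul_of_rows
  intro p hp
  rw [← ropB_eq]
  exact Nat.eq_of_beq_eq_true (allLt_spec _ _ hB p hp)

theorem key_strictMono {i j : ℕ} (hij : i < j) (hj : j < 6048) :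
    Nat.xor (look i) oneC < Nat.xor (look j) oneC := by
  induction j with
  | zero => omega
  | succ k ih =>
    have hk : Nat.xor (look k) oneC < Nat.xor (look (k + 1)) oneC := by
      have h := allLt_spec _ _ chk2_all k (by omega)
      exact Nat.le_of_ble_eq_true h
    rcases Nat.lt_succ_iff_lt_or_eq.1 hij with h1 | h1
    · exact lt_trans (ih h1 (by omega)) hk
    · rw [h1]; exact hk

theorem look_inj {i j : ℕ} (hi : i < 6048) (hj : j < 6048) (h : look i = look j) : i = j := by
  rcases Nat.lt_trichotomy i j with h1 | h1 | h1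
  · have := key_strictMono h1 hj
    rw [h] at this
    exact absurd this (lt_irrefl _)
  · exact h1
  · have := key_strictMono h1 hi
    rw [h] at this
    exact absurd this (lt_irrefl _)

theorem decM_look_inj {i j : ℕ} (hi : i < 6048) (hj : j < 6048)
    (h : decM (look i) = decM (look j)) : i = j :=
  look_inj hi hj (decM_inj (look_lt i) (look_lt j) h)

theorem tree {i : ℕ} (hi : i < 6048) (h0 : i ≠ 0) :
    par i < 6048 ∧ pj i < 2 ∧ mtb (par i) (pj i) = i ∧ dep (par i) < dep i := by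
  have h := allLt_spec _ _ chk3_all i hi
  simp only [chk3, Bool.or_eq_true, Bool.and_eq_true] at h
  rcases h with h | ⟨⟨⟨h1, h2⟩, h3⟩, h4⟩
  · exact absurd (Nat.eq_of_beq_eq_true h) h0
  · exact ⟨Nat.le_of_ble_eq_true h1, Nat.le_of_ble_eq_true h2, Nat.eq_of_beq_eq_true h3,
      Nat.le_of_ble_eq_true h4⟩

/-! ### Some products -/

set_option maxRecDepth 100000 in
theorem prod_checks :
    (allLt 12 fun r => mulOK (xc r) (xc r) oneC) = true ∧
    mulOK (xc 2) (xc 9) 0x912122420460404080100020240048008008001000200c001 = true ∧ mulOK 0x912122420460404080100020240048008008001000200c001 (xc 11) 0x91792a420d6046428010802024164a008208019080209c005 = true ∧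
    mulOK 0x91792a420d6046428010802024164a008208019080209c005 (xc 2) 0x48fc0840851a66028254802016370a01820e899080081d225 = true ∧ mulOK 0x48fc0840851a66028254802016370a01820e899080081d225 (xc 11) 0x4aec0840851ac6028255602016a30a01880ea01000080d2a1 = true ∧
    mulOK 0x4aec0840851ac6028255602016a30a01880ea01000080d2a1 (xc 9) gcB = true ∧
    mulOK (xc 1) (xc 5) 0x80030002000400180210006048400180610c42c18dc40b001 = true ∧ mulOK 0x80030002000400180210006048400180610c42c18dc40b001 (xc 1) 0x800300020004001800100c6040402180410042210e040a001 = true ∧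
    mulOK 0x800300020004001800100c6040402180410042210e040a001 (xc 5) gcA = true ∧
    mulOK (xc 2) gcA 0x80010002002400480010042020406082c119523a26200a001 = true ∧ mulOK 0x80010002002400480010042020406082c119523a26200a001 (xc 2) (look 1) = true ∧
    mulOK (xc 2) gcB 0x423c0840840860008210e020041008008208019080001d085 = true ∧ mulOK 0x423c0840840860008210e020041008008208019080001d085 (xc 2) (look 1252) = true ∧
    mulOK (xc 3) (xc 2) (look 9) = true ∧ mulOK (xc 4) (xc 2) (look 6) = true ∧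
    mulOK (xc 7) (xc 2) (look 65) = true ∧ mulOK (xc 8) (xc 2) (look 2402) = true ∧
    mulOK (xc 9) (xc 2) (look 3168) = true ∧
    xc 0 = look 1 ∧ xc 1 = look 2 ∧ xc 5 = look 48 ∧ xc 6 = look 1536 ∧ xc 10 = look 192 ∧
    xc 11 = look 96 ∧ gcA = xc 0 := by
  decide +kernel

end Cfsg.Agent.Lib.Helper61_G22Bridge
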