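import Mathlib
import Cfsg.Agent.Lib.Helper61_G22Bridge

/-!
# Helper61_Mat3Code

`14 × 14` matrices over `ZMod 3` coded by natural numbers (base `4` digits, digit `14 p + q` for the
entry `(p, q)`), with a computed product `mulC` and its specification
`decM3 (mulC a g) = decM3 a * decM3 g`.
-/

set_option autoImplicit false

namespace Cfsg.Agent.Lib.Helper61_Mat3Code

open Matrix Cfsg.Agent.Lib.Helper61_G22Bridge

/-- Digit `k` in base `4`. -/
def ent (c k : ℕ) : ℕ := Nat.land (Nat.shiftRight c (Nat.mul 2 k)) 3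

theorem ent_eq (c k : ℕ) : ent c k = c / 4 ^ k % 4 := by
  show (c >>> (2 * k)) &&& 3 = _
  have h3 : (3 : ℕ) = 2 ^ 2 - 1 := by norm_num
  rw [Nat.shiftRight_eq_div_pow, h3, Nat.and_two_pow_sub_one_eq_mod, pow_mul]
  norm_num

/-- `∑_{k < n} f k * 4 ^ k`. -/
def hsum (f : ℕ → ℕ) (n : ℕ) : ℕ :=
  Nat.rec (motive := fun _ => ℕ) 0 (fun k acc => Nat.add acc (Nat.mul (f k) (Nat.pow 4 k))) n

theorem hsum_succ (f : ℕ → ℕ) (n : ℕ) : hsum f (n + 1) = hsum f n + f n * 4 ^ n := rfl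

theorem hsum_lt (f : ℕ → ℕ) (n : ℕ) (hf : ∀ j < n, f j < 4) : hsum f n < 4 ^ n := by
  induction n with
  | zero => exact Nat.one_pos
  | succ n ih =>
    rw [hsum_succ, pow_succ]
    have h1 := ih (fun j hj => hf j (by omega))
    have h2 := hf n (by omega)
    nlinarith

theorem digit_hsum (f : ℕ → ℕ) (n : ℕ) (hf : ∀ j < n, f j < 4) {k : ℕ} (hk : k < n) :
    hsum f n / 4 ^ k % 4 = f k := by
  induction n with
  | zero => omega
  | succ n ih =>
    rw [hsum_succ]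
    have hf' : ∀ j < n, f j < 4 := fun j hj => hf j (by omega)
    rcases Nat.lt_succ_iff_lt_or_eq.1 hk with h1 | h1
    · have e : 4 ^ n = 4 ^ k * (4 * 4 ^ (n - k - 1)) := by
        rw [← pow_succ', ← pow_add]
        congr 1
        omega
      rw [e, ← mul_assoc, mul_comm (f n), mul_assoc, Nat.add_mul_div_left _ _ (by positivity),
        mul_comm (f n), mul_assoc, Nat.add_mul_mod_self_left]
      exact ih hf' h1
    · rw [h1, Nat.add_mul_div_right _ _ (by positivity), Nat.div_eq_of_lt (hsum_lt f n hf'),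
        zero_add]
      exact Nat.mod_eq_of_lt (hf n (by omega))

theorem ent_hsum (f : ℕ → ℕ) (n : ℕ) (hf : ∀ j < n, f j < 4) {k : ℕ} (hk : k < n) :
    ent (hsum f n) k = f k := by
  rw [ent_eq, digit_hsum f n hf hk]

/-- Entry `(p, q)` of the product, reduced mod `3`. -/
def dot (a g p q : ℕ) : ℕ :=
  Nat.mod (Nat.add (Nat.add (Nat.add (Nat.add (Nat.add (Nat.add (Nat.add (Nat.add (Nat.add (Nat.add
  (Nat.add (Nat.add (Nat.add
  (Nat.mul (ent a (Nat.add (Nat.mul 14 p) 0)) (ent g (Nat.add 0 q)))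
  (Nat.mul (ent a (Nat.add (Nat.mul 14 p) 1)) (ent g (Nat.add 14 q))))
  (Nat.mul (ent a (Nat.add (Nat.mul 14 p) 2)) (ent g (Nat.add 28 q))))
  (Nat.mul (ent a (Nat.add (Nat.mul 14 p) 3)) (ent g (Nat.add 42 q))))
  (Nat.mul (ent a (Nat.add (Nat.mul 14 p) 4)) (ent g (Nat.add 56 q))))
  (Nat.mul (ent a (Nat.add (Nat.mul 14 p) 5)) (ent g (Nat.add 70 q))))
  (Nat.mul (ent a (Nat.add (Nat.mul 14 p) 6)) (ent g (Nat.add 84 q))))
  (Nat.mul (ent a (Nat.add (Nat.mul 14 p) 7)) (ent g (Nat.add 98 q))))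
  (Nat.mul (ent a (Nat.add (Nat.mul 14 p) 8)) (ent g (Nat.add 112 q))))
  (Nat.mul (ent a (Nat.add (Nat.mul 14 p) 9)) (ent g (Nat.add 126 q))))
  (Nat.mul (ent a (Nat.add (Nat.mul 14 p) 10)) (ent g (Nat.add 140 q))))
  (Nat.mul (ent a (Nat.add (Nat.mul 14 p) 11)) (ent g (Nat.add 154 q))))
  (Nat.mul (ent a (Nat.add (Nat.mul 14 p) 12)) (ent g (Nat.add 168 q))))
  (Nat.mul (ent a (Nat.add (Nat.mul 14 p) 13)) (ent g (Nat.add 182 q)))) 3

theorem dot_eq (a g p q : ℕ) : dot a g p q =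
    (ent a (14 * p + 0) * ent g (0 + q) +
    ent a (14 * p + 1) * ent g (14 + q) +
    ent a (14 * p + 2) * ent g (28 + q) +
    ent a (14 * p + 3) * ent g (42 + q) +
    ent a (14 * p + 4) * ent g (56 + q) +
    ent a (14 * p + 5) * ent g (70 + q) +
    ent a (14 * p + 6) * ent g (84 + q) +
    ent a (14 * p + 7) * ent g (98 + q) +
    ent a (14 * p + 8) * ent g (112 + q) +
    ent a (14 * p + 9) * ent g (126 + q) +
    ent a (14 * p + 10) * ent g (140 + q) +
    ent a (14 * p + 11) * ent g (154 + q) +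
    ent a (14 * p + 12) * ent g (168 + q) +
    ent a (14 * p + 13) * ent g (182 + q)) % 3 := rfl

theorem dot_cast (a g p q : ℕ) : ((dot a g p q : ℕ) : ZMod 3) =
    (ent a (14 * p + 0) : ZMod 3) * (ent g (0 + q) : ZMod 3) +
    (ent a (14 * p + 1) : ZMod 3) * (ent g (14 + q) : ZMod 3) +
    (ent a (14 * p + 2) : ZMod 3) * (ent g (28 + q) : ZMod 3) +
    (ent a (14 * p + 3) : ZMod 3) * (ent g (42 + q) : ZMod 3) +
    (ent a (14 * p + 4) : ZMod 3) * (ent g (56 + q) : ZMod 3) +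
    (ent a (14 * p + 5) : ZMod 3) * (ent g (70 + q) : ZMod 3) +
    (ent a (14 * p + 6) : ZMod 3) * (ent g (84 + q) : ZMod 3) +
    (ent a (14 * p + 7) : ZMod 3) * (ent g (98 + q) : ZMod 3) +
    (ent a (14 * p + 8) : ZMod 3) * (ent g (112 + q) : ZMod 3) +
    (ent a (14 * p + 9) : ZMod 3) * (ent g (126 + q) : ZMod 3) +
    (ent a (14 * p + 10) : ZMod 3) * (ent g (140 + q) : ZMod 3) +
    (ent a (14 * p + 11) : ZMod 3) * (ent g (154 + q) : ZMod 3) +
    (ent a (14 * p + 12) : ZMod 3) * (ent g (168 + q) : ZMod 3) +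
    (ent a (14 * p + 13) : ZMod 3) * (ent g (182 + q) : ZMod 3) := by
  rw [dot_eq, ZMod.natCast_mod]
  push_cast
  rfl

theorem dot_lt (a g p q : ℕ) : dot a g p q < 4 :=
  lt_trans (Nat.mod_lt _ (by norm_num)) (by norm_num)

/-- The code of the product. -/
def mulC (a g : ℕ) : ℕ :=
  frc a fun a' => frc g fun g' => hsum (fun k => dot a' g' (Nat.div k 14) (Nat.mod k 14)) 196

theorem mulC_eq (a g : ℕ) : mulC a g = hsum (fun k => dot a g (k / 14) (k % 14)) 196 := rfl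

/-- Decode a matrix. -/
def decM3 (c : ℕ) : Matrix I14 I14 (ZMod 3) :=
  fun p q => ((ent c (14 * pos p + pos q) : ℕ) : ZMod 3)

theorem sum_I14' {α : Type*} [AddCommMonoid α] (f : I14 → α) :
    ∑ k, f k = f (.inl 0) + f (.inl 1) + f (.inr 0) + f (.inr 1) +
    f (.inr 2) + f (.inr 3) + f (.inr 4) + f (.inr 5) + f (.inr 6) + f (.inr 7) + f (.inr 8) +
    f (.inr 9) + f (.inr 10) + f (.inr 11) := by
  rw [Fintype.sum_sum_type, Fin.sum_univ_two]
  simp only [Fin.sum_univ_succ, Fin.sum_univ_zero]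
  simp only [add_zero, add_assoc]
  rfl

theorem decM3_mulC (a g : ℕ) : decM3 (mulC a g) = decM3 a * decM3 g := by
  ext p q
  rw [Matrix.mul_apply, sum_I14']
  have hp := pos_lt p
  have hq := pos_lt q
  have hk : 14 * pos p + pos q < 196 := by omega
  show ((ent (mulC a g) (14 * pos p + pos q) : ℕ) : ZMod 3) = _
  rw [mulC_eq, ent_hsum _ _ (fun j _ => dot_lt _ _ _ _) hk]
  have e1 : (14 * pos p + pos q) / 14 = pos p := by omega
  have e2 : (14 * pos p + pos q) % 14 = pos q := by omega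
  rw [e1, e2, dot_cast]
  simp only [decM3]
  rfl

end Cfsg.Agent.Lib.Helper61_Mat3Code
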