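import Mathlib
import Cfsg.Agent.Lib.Helper61_F8
import Cfsg.Agent.Lib.Helper61_R3Data
import Cfsg.Agent.Lib.Helper61_G22Bridge

/-!
# Helper61_SL28Bridge

The verification (`decide +kernel`) of the Cayley table `Helper61_R3Data` for the two generators of
`SL₂(8)` as `2 × 2` matrices over `F8`: a matrix is coded by its two rows (`6` bits each), a row by
its two entries (`3` bits each).
-/

set_option autoImplicit false

namespace Cfsg.Agent.Lib.Helper61_SL28Bridge

open Matrix Cfsg.Agent.Lib.Helper61_F8 Cfsg.Agent.Lib.Helper61_R3Data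
open Cfsg.Agent.Lib.Helper61_G22Bridge (frc frc_eq allLt allLt_spec)

/-- The element of `F8` with index `k`. -/
def ofIdx8 (k : ℕ) : F8 :=
  F8.mk ((k % 2 : ℕ) : ZMod 2) ((k / 2 % 2 : ℕ) : ZMod 2) ((k / 4 % 2 : ℕ) : ZMod 2)

/-- The index of an element of `F8`. -/
def idx8 (x : F8) : ℕ := x.c0.val + 2 * x.c1.val + 4 * x.c2.val

/-- Row `p` of a coded matrix. -/
def row8 (c p : ℕ) : ℕ := Nat.land (Nat.shiftRight c (Nat.mul 6 p)) 63

theorem row8_lt (c p : ℕ) : row8 c p < 64 := by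
  show (c >>> (6 * p)) &&& 63 < 64
  exact lt_of_le_of_lt Nat.and_le_right (by norm_num)

/-- Entry `q` of a coded row. -/
def dig8 (v q : ℕ) : ℕ := Nat.land (Nat.shiftRight v (Nat.mul 3 q)) 7

/-- Decode a row. -/
def decRow8 (v : ℕ) : Fin 2 → F8 := fun q => ofIdx8 (dig8 v q.val)

/-- Decode a matrix. -/
def decM8 (c : ℕ) : Matrix (Fin 2) (Fin 2) F8 := fun p q => decRow8 (row8 c p.val) q

/-- Encode a matrix. -/
def encM8 (M : Matrix (Fin 2) (Fin 2) F8) : ℕ :=
  idx8 (M 0 0) + 8 * idx8 (M 0 1) + 64 * idx8 (M 1 0) + 512 * idx8 (M 1 1)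

set_option maxRecDepth 100000 in
theorem enc_dec : ∀ c : Fin 4096, encM8 (decM8 c.val) = c.val := by decide +kernel

theorem decM8_inj {c c' : ℕ} (hc : c < 4096) (hc' : c' < 4096) (h : decM8 c = decM8 c') :
    c = c' := by
  have h1 := enc_dec ⟨c, hc⟩
  have h2 := enc_dec ⟨c', hc'⟩
  simp only at h1 h2
  rw [← h1, ← h2, h]

/-- The code of the `i`-th matrix. -/
def look8 (i : ℕ) : ℕ := Nat.land (Nat.shiftRight E8 (Nat.mul 16 i)) 4095

theorem look8_lt (i : ℕ) : look8 i < 4096 := by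
  show (E8 >>> (16 * i)) &&& 4095 < 4096
  exact lt_of_le_of_lt Nat.and_le_right (by norm_num)

/-- The multiplication table. -/
def mtb (i j : ℕ) : ℕ :=
  Nat.land (Nat.shiftRight MT (Nat.mul 16 (Nat.add (Nat.mul 2 i) j))) 65535

def slot (i : ℕ) : ℕ := Nat.land (Nat.shiftRight TT (Nat.mul 32 i)) 4294967295
def par (i : ℕ) : ℕ := Nat.land (slot i) 8191
def pj (i : ℕ) : ℕ := Nat.land (Nat.shiftRight (slot i) 13) 1
def dep (i : ℕ) : ℕ := Nat.shiftRight (slot i) 16

def rop8A (v : ℕ) : ℕ := Nat.land (Nat.shiftRight R8A (Nat.mul 6 v)) 63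
def rop8B (v : ℕ) : ℕ := Nat.land (Nat.shiftRight R8B (Nat.mul 6 v)) 63

/-- The two generators. -/
def MA : Matrix (Fin 2) (Fin 2) F8 := decM8 g8A
def MB : Matrix (Fin 2) (Fin 2) F8 := decM8 g8B

set_option maxRecDepth 100000 in
theorem rop8A_check : ∀ v : Fin 64, ∀ q : Fin 2, decRow8 (rop8A v.val) q =
    decRow8 v.val 0 * MA 0 q + decRow8 v.val 1 * MA 1 q := by
  decide +kernel

set_option maxRecDepth 100000 in
theorem rop8B_check : ∀ v : Fin 64, ∀ q : Fin 2, decRow8 (rop8B v.val) q =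
    decRow8 v.val 0 * MB 0 q + decRow8 v.val 1 * MB 1 q := by
  decide +kernel

/-- The check of the products `y i * A`, `y i * B`. -/
def chk1 (i : ℕ) : Bool :=
  frc (look8 i) fun c => frc (look8 (mtb i 0)) fun c0 => frc (look8 (mtb i 1)) fun c1 =>
    (allLt 2 fun p => Nat.beq (row8 c0 p) (rop8A (row8 c p)) &&
      Nat.beq (row8 c1 p) (rop8B (row8 c p))) &&
    Nat.ble (Nat.add (mtb i 0) 1) 504 && Nat.ble (Nat.add (mtb i 1) 1) 504

set_option maxRecDepth 100000 in
theorem chk1_all : allLt 504 chk1 = true := by decide +kernel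

/-- Strictly increasing keys. -/
def chk2 (i : ℕ) : Bool :=
  Nat.ble (Nat.add (Nat.xor (look8 i) one8) 1) (Nat.xor (look8 (Nat.add i 1)) one8)

set_option maxRecDepth 100000 in
theorem chk2_all : allLt 503 chk2 = true := by decide +kernel

/-- The spanning tree. -/
def chk3 (i : ℕ) : Bool :=
  Nat.beq i 0 ||
    (Nat.ble (Nat.add (par i) 1) 504 && Nat.ble (Nat.add (pj i) 1) 2 &&
      Nat.beq (mtb (par i) (pj i)) i && Nat.ble (Nat.add (dep (par i)) 1) (dep i))

set_option maxRecDepth 100000 in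
theorem chk3_all : allLt 504 chk3 = true := by decide +kernel

set_option maxRecDepth 100000 in
theorem decM8_zero : decM8 (look8 0) = 1 := by decide +kernel

set_option maxRecDepth 100000 in
theorem gens_det : MA.det = 1 ∧ MB.det = 1 := by
  rw [Matrix.det_fin_two, Matrix.det_fin_two]
  decide +kernel

theorem mtb_lt {i j : ℕ} (hi : i < 504) (hj : j < 2) : mtb i j < 504 := by
  have h := allLt_spec _ _ chk1_all i hi
  simp only [chk1, frc_eq, Bool.and_eq_true] at h
  obtain ⟨⟨_, h0⟩, h1⟩ := h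
  have h0' := Nat.le_of_ble_eq_true h0
  have h1' := Nat.le_of_ble_eq_true h1
  have hj' : j = 0 ∨ j = 1 := by omega
  rcases hj' with rfl | rfl
  · exact h0'
  · exact h1'

theorem mul8_A {i : ℕ} (hi : i < 504) : decM8 (look8 i) * MA = decM8 (look8 (mtb i 0)) := by
  have h := allLt_spec _ _ chk1_all i hi
  simp only [chk1, frc_eq, Bool.and_eq_true] at h
  obtain ⟨⟨h, _⟩, _⟩ := h
  ext p q
  rw [Matrix.mul_apply, Fin.sum_univ_two]
  have hp := allLt_spec _ _ h p.val p.isLt
  rw [Bool.and_eq_true] at hp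
  show decRow8 (row8 (look8 i) p.val) 0 * MA 0 q + decRow8 (row8 (look8 i) p.val) 1 * MA 1 q =
    decRow8 (row8 (look8 (mtb i 0)) p.val) q
  rw [Nat.eq_of_beq_eq_true hp.1]
  exact (rop8A_check ⟨row8 (look8 i) p.val, row8_lt _ _⟩ q).symm

theorem mul8_B {i : ℕ} (hi : i < 504) : decM8 (look8 i) * MB = decM8 (look8 (mtb i 1)) := by
  have h := allLt_spec _ _ chk1_all i hi
  simp only [chk1, frc_eq, Bool.and_eq_true] at h
  obtain ⟨⟨h, _⟩, _⟩ := h
  ext p q
  rw [Matrix.mul_apply, Fin.sum_univ_two]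
  have hp := allLt_spec _ _ h p.val p.isLt
  rw [Bool.and_eq_true] at hp
  show decRow8 (row8 (look8 i) p.val) 0 * MB 0 q + decRow8 (row8 (look8 i) p.val) 1 * MB 1 q =
    decRow8 (row8 (look8 (mtb i 1)) p.val) q
  rw [Nat.eq_of_beq_eq_true hp.2]
  exact (rop8B_check ⟨row8 (look8 i) p.val, row8_lt _ _⟩ q).symm

theorem key_strictMono {i j : ℕ} (hij : i < j) (hj : j < 504) :
    Nat.xor (look8 i) one8 < Nat.xor (look8 j) one8 := by
  induction j with
  | zero => omega
  | succ k ih =>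
    have hk : Nat.xor (look8 k) one8 < Nat.xor (look8 (k + 1)) one8 := by
      have h := allLt_spec _ _ chk2_all k (by omega)
      exact Nat.le_of_ble_eq_true h
    rcases Nat.lt_succ_iff_lt_or_eq.1 hij with h1 | h1
    · exact lt_trans (ih h1 (by omega)) hk
    · rw [h1]; exact hk

theorem look8_inj {i j : ℕ} (hi : i < 504) (hj : j < 504) (h : look8 i = look8 j) : i = j := by
  rcases Nat.lt_trichotomy i j with h1 | h1 | h1
  · have := key_strictMono h1 hj
    rw [h] at this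
    exact absurd this (lt_irrefl _)
  · exact h1
  · have := key_strictMono h1 hi
    rw [h] at this
    exact absurd this (lt_irrefl _)

theorem decM8_look_inj {i j : ℕ} (hi : i < 504) (hj : j < 504)
    (h : decM8 (look8 i) = decM8 (look8 j)) : i = j :=
  look8_inj hi hj (decM8_inj (look8_lt i) (look8_lt j) h)

theorem tree {i : ℕ} (hi : i < 504) (h0 : i ≠ 0) :
    par i < 504 ∧ pj i < 2 ∧ mtb (par i) (pj i) = i ∧ dep (par i) < dep i := by
  have h := allLt_spec _ _ chk3_all i hi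
  simp only [chk3, Bool.or_eq_true, Bool.and_eq_true] at h
  rcases h with h | ⟨⟨⟨h1, h2⟩, h3⟩, h4⟩
  · exact absurd (Nat.eq_of_beq_eq_true h) h0
  · exact ⟨Nat.le_of_ble_eq_true h1, Nat.le_of_ble_eq_true h2, Nat.eq_of_beq_eq_true h3,
      Nat.le_of_ble_eq_true h4⟩

end Cfsg.Agent.Lib.Helper61_SL28Bridge
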