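import Mathlib
import Cfsg.Prelude.Def_ChevG2
import Cfsg.Agent.Lib.Helper61_R3Data
import Cfsg.Agent.Lib.Helper61_Mat3Code
import Cfsg.Agent.Lib.Helper61_SL28Bridge

/-!
# Helper61_R3Bridge

The verification (`decide +kernel`) of the Cayley table `Helper61_R3Data` for the two generators of
the commutator subgroup of `²G₂(3)` as `14 × 14` matrices over `ZMod 3`, the codes of the root
elements and of the generating words of `²G₂(3)`, and the coset witnesses.
-/

set_option autoImplicit false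

namespace Cfsg.Agent.Lib.Helper61_R3Bridge

open Matrix Cfsg.Lie Cfsg.Agent.Lib.Helper61_R3Data Cfsg.Agent.Lib.Helper61_Mat3Code
open Cfsg.Agent.Lib.Helper61_G22Bridge (frc frc_eq allLt allLt_spec I14 pos pos_lt)
open Cfsg.Agent.Lib.Helper61_SL28Bridge (mtb par pj dep)

/-- The code of the `i`-th matrix. -/
def look3 (i : ℕ) : ℕ := Nat.land (Nat.shiftRight E3 (Nat.mul 392 i)) (2 ^ 392 - 1)

/-- The check of the products `x i * A`, `x i * B`. -/
def chk4 (i : ℕ) : Bool :=
  frc (look3 i) fun c =>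
    Nat.beq (mulC c gcA) (look3 (mtb i 0)) && Nat.beq (mulC c gcB) (look3 (mtb i 1))

set_option maxRecDepth 100000 in
theorem chk4_all : allLt 504 chk4 = true := by decide +kernel

/-- The kernel check. -/
def chk5 (i : ℕ) : Bool := Nat.beq i 0 || !(decide (decM3 (look3 i) = 1))

set_option maxRecDepth 100000 in
theorem chk5_all : allLt 504 chk5 = true := by decide +kernel

set_option maxRecDepth 100000 in
theorem look3_zero : look3 0 = one3 := by decide +kernel

set_option maxRecDepth 100000 in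
theorem decM3_one : decM3 one3 = 1 := by decide +kernel

theorem mul3_A {i : ℕ} (hi : i < 504) : decM3 (look3 i) * decM3 gcA = decM3 (look3 (mtb i 0)) := by
  have h := allLt_spec _ _ chk4_all i hi
  simp only [chk4, frc_eq, Bool.and_eq_true] at h
  rw [← decM3_mulC, Nat.eq_of_beq_eq_true h.1]

theorem mul3_B {i : ℕ} (hi : i < 504) : decM3 (look3 i) * decM3 gcB = decM3 (look3 (mtb i 1)) := by
  have h := allLt_spec _ _ chk4_all i hi
  simp only [chk4, frc_eq, Bool.and_eq_true] at h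
  rw [← decM3_mulC, Nat.eq_of_beq_eq_true h.2]

theorem ker3 {i : ℕ} (hi : i < 504) (h : decM3 (look3 i) = 1) : i = 0 := by
  have h5 := allLt_spec _ _ chk5_all i hi
  simp only [chk5, Bool.or_eq_true, Bool.not_eq_true', decide_eq_false_iff_not] at h5
  rcases h5 with h5 | h5
  · exact Nat.eq_of_beq_eq_true h5
  · exact absurd h h5

/-! ### Root elements and words -/

/-- The code of `x_r(c)`. -/
def rootc (r c : ℕ) : ℕ :=
  Nat.rec (motive := fun _ => ℕ) one3
    (fun c' _ => Nat.land (Nat.shiftRight XC (Nat.mul 392 (Nat.add (Nat.mul 2 r) c'))) (2 ^ 392 - 1)) c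

/-- The root matrices. -/
def XM3 (r : Fin 12) (c : ZMod 3) : Matrix I14 I14 (ZMod 3) := chevG2.xMat (ZMod 3) r c

set_option maxRecDepth 100000 in
theorem root3 : ∀ r : Fin 12, ∀ c : ZMod 3, XM3 r c = decM3 (rootc r.val c.val) := by
  decide +kernel

/-- The code of the word `U(t, u, v)`. -/
def wcodeU (t u v : ℕ) : ℕ :=
  mulC (rootc 7 t) (mulC (rootc 6 t) (mulC (rootc 8 ((t * t + u) % 3))
    (mulC (rootc 9 ((t * t * t + v) % 3)) (mulC (rootc 10 u) (rootc 11 v)))))

/-- The code of the word `V(t, u, v)`. -/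
def wcodeV (t u v : ℕ) : ℕ :=
  mulC (rootc 4 ((3 - t) % 3)) (mulC (rootc 5 ((3 - t) % 3)) (mulC (rootc 3 ((3 - (t * t + u) % 3) % 3))
    (mulC (rootc 2 ((3 - (t * t * t + v) % 3) % 3)) (mulC (rootc 1 ((3 - u) % 3)) (rootc 0 ((3 - v) % 3))))))

/-- Powers of `s`. -/
def spow (k : ℕ) : ℕ :=
  Nat.rec (motive := fun _ => ℕ) one3
    (fun k' _ => Nat.rec (motive := fun _ => ℕ) sc (fun _ _ => mulC sc sc) k') k

def wk (n : ℕ) : ℕ := Nat.land (Nat.shiftRight WIT (Nat.add (Nat.mul 16 n) 10)) 3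
def wi (n : ℕ) : ℕ := Nat.land (Nat.shiftRight WIT (Nat.mul 16 n)) 1023

set_option maxRecDepth 100000 in
theorem witU : ∀ t u v : ZMod 3,
    mulC (wcodeU t.val u.val v.val) (spow (wk (9 * t.val + 3 * u.val + v.val))) =
      look3 (wi (9 * t.val + 3 * u.val + v.val)) ∧ wi (9 * t.val + 3 * u.val + v.val) < 504 ∧
      wk (9 * t.val + 3 * u.val + v.val) < 3 := by
  decide +kernel

set_option maxRecDepth 100000 in
theorem witV : ∀ t u v : ZMod 3,
    mulC (wcodeV t.val u.val v.val) (spow (wk (27 + 9 * t.val + 3 * u.val + v.val))) =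
      look3 (wi (27 + 9 * t.val + 3 * u.val + v.val)) ∧
      wi (27 + 9 * t.val + 3 * u.val + v.val) < 504 ∧
      wk (27 + 9 * t.val + 3 * u.val + v.val) < 3 := by
  decide +kernel

set_option maxRecDepth 100000 in
theorem misc_checks :
    mulC gcA gcA = one3 ∧ mulC gcB gcBi = one3 ∧ mulC gcBi gcB = one3 ∧
    mulC sc sci = one3 ∧ mulC sci sc = one3 ∧ sc = wcodeU 0 1 0 ∧
    mulC (wcodeV 0 1 0) wi30 = one3 ∧ mulC wi30 (wcodeV 0 1 0) = one3 ∧
    mulC (wcodeU 1 0 0) wi9 = one3 ∧ mulC wi9 (wcodeU 1 0 0) = one3 ∧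
    mulC (mulC (mulC sc (wcodeV 0 1 0)) sci) wi30 = gcA ∧
    mulC (mulC (mulC sc (wcodeU 1 0 0)) sci) wi9 = gcB ∧
    mulC (mulC sc gcA) sci = look3 503 ∧ mulC (mulC sc gcB) sci = look3 42 ∧
    mulC (mulC sci gcA) sc = look3 430 ∧ mulC (mulC sci gcB) sc = look3 42 ∧
    mulC sc (mulC sc sc) = one3 := by
  decide +kernel

end Cfsg.Agent.Lib.Helper61_R3Bridge
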