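import Mathlib
import Cfsg.Prelude.Def_ChevG2
import Cfsg.Agent.Lib.Helper61_R3Bridge
import Cfsg.Agent.Lib.Helper46_G23Seven
import Cfsg.Agent.S1055

/-!
# Helper46_G23Rho

The restriction of `G₂(3) = chevG2.group (ZMod 3)` to its seven-dimensional submodule (spanned by
`h_a` and the short root vectors) is an injective homomorphism `rho` into `GL₇(3)` whose image
preserves the product `cr`.  Consequences: explicit elements `X13`, `X7` of orders `13`, `7` are
self-centralizing, so no element of `G₂(3)` has order `13 s` or `7 s` with `s > 1`; and there is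
an element of order `6`.
-/

set_option autoImplicit false

namespace Cfsg.Agent.Lib.Helper46_G23Rho

open Matrix Cfsg.Lie Cfsg.Agent.Lib.Helper61_Mat3Code Cfsg.Agent.Lib.Helper61_R3Bridge
  Cfsg.Agent.Lib.Helper61_R3Data Cfsg.Agent.Lib.Helper46_G23Seven
open Cfsg.Agent.Lib.Helper61_G22Bridge (I14 pos pos_lt)

abbrev M14 := Matrix I14 I14 (ZMod 3)
abbrev GL14 := GL I14 (ZMod 3)
abbrev GL7 := GL (Fin 7) (ZMod 3)

/-! ### A general lemma on self-centralizing elements of prime order -/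

theorem orderOf_eq_of_self_centralizing {G : Type*} [Group G] [Finite G] {p : ℕ}
    [hp : Fact p.Prime] (hp2 : ¬ p ^ 2 ∣ Nat.card G) (X : G) (hX : orderOf X = p)
    (hC : ∀ g : G, Commute g X → g ^ p = 1) (g : G) (hpg : p ∣ orderOf g) : orderOf g = p := by
  obtain ⟨s, hs⟩ := hpg
  have hgpos : 0 < orderOf g := orderOf_pos g
  have hspos : 0 < s := by
    rcases Nat.eq_zero_or_pos s with h | h
    · rw [h, mul_zero] at hs; omega
    · exact h
  have hzord : orderOf (g ^ s) = p := by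
    rw [orderOf_pow' g hspos.ne', hs, Nat.gcd_eq_right (Dvd.intro_left p rfl),
      Nat.mul_div_cancel _ hspos]
  have hfac : (Nat.card G).factorization p = 1 := by
    have h1 : p ∣ Nat.card G := by rw [← hX]; exact orderOf_dvd_natCard X
    have hne : Nat.card G ≠ 0 := Nat.card_pos.ne'
    have hle : 1 ≤ (Nat.card G).factorization p :=
      (hp.out.dvd_iff_one_le_factorization hne).1 h1
    have hlt : (Nat.card G).factorization p < 2 := by
      apply Nat.lt_of_not_le
      intro hge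
      exact hp2 ((hp.out.pow_dvd_iff_le_factorization hne).2 hge)
    omega
  have cardP : Nat.card (Subgroup.zpowers (g ^ s)) = p ^ (Nat.card G).factorization p := by
    rw [Nat.card_zpowers, hzord, hfac, pow_one]
  have cardQ : Nat.card (Subgroup.zpowers X) = p ^ (Nat.card G).factorization p := by
    rw [Nat.card_zpowers, hX, hfac, pow_one]
  obtain ⟨h, hh⟩ := MulAction.exists_smul_eq G (Sylow.ofCard _ cardP) (Sylow.ofCard _ cardQ)
  have hmem : h * g ^ s * h⁻¹ ∈ Subgroup.zpowers X := by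
    have h1 : h * g ^ s * h⁻¹ ∈ ((h • Sylow.ofCard _ cardP : Sylow p G) : Subgroup G) := by
      rw [Sylow.coe_subgroup_smul, Subgroup.mem_pointwise_smul_iff_inv_smul_mem]
      simp only [MulAut.smul_def, MulAut.conj_inv_apply]
      have : h⁻¹ * (h * g ^ s * h⁻¹) * h = g ^ s := by group
      rw [this, Sylow.coe_ofCard]
      exact Subgroup.mem_zpowers _
    rw [hh, Sylow.coe_ofCard] at h1
    exact h1
  obtain ⟨g', hg'⟩ : ∃ g', g' = h * g * h⁻¹ := ⟨_, rfl⟩
  have hg's : g' ^ s = h * g ^ s * h⁻¹ := by rw [hg', conj_pow]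
  have hne1 : g' ^ s ≠ 1 := by
    rw [hg's, Ne, conj_eq_one_iff]
    intro h1
    rw [h1, orderOf_one] at hzord
    exact hp.out.one_lt.ne hzord
  have hle : Subgroup.zpowers (g' ^ s) ≤ Subgroup.zpowers X := by
    rw [Subgroup.zpowers_le, hg's]; exact hmem
  have hcard : Nat.card (Subgroup.zpowers (g' ^ s)) = p := by
    have h1 : Nat.card (Subgroup.zpowers (g' ^ s)) ∣ p := by
      have := Subgroup.card_dvd_of_le hle
      rwa [Nat.card_zpowers X, hX] at this
    rcases (Nat.dvd_prime hp.out).1 h1 with h2 | h2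
    · exfalso
      rw [Nat.card_zpowers, orderOf_eq_one_iff] at h2
      exact hne1 h2
    · exact h2
  have heq : Subgroup.zpowers (g' ^ s) = Subgroup.zpowers X := by
    apply Subgroup.eq_of_le_of_card_ge hle
    rw [hcard, Nat.card_zpowers, hX]
  have hXmem : X ∈ Subgroup.zpowers (g' ^ s) := by rw [heq]; exact Subgroup.mem_zpowers X
  obtain ⟨m, hm⟩ := Subgroup.mem_zpowers_iff.1 hXmem
  have hcomm : Commute g' X := by
    rw [← hm]
    exact Commute.zpow_right (Commute.pow_right (Commute.refl g') s) m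
  have h1 := hC g' hcomm
  rw [hg', conj_pow, conj_eq_one_iff] at h1
  have h2 : orderOf g ∣ p := orderOf_dvd_of_pow_eq_one h1
  exact Nat.dvd_antisymm h2 ⟨s, hs⟩

/-! ### The seven-dimensional submodule -/

/-- Position of a coordinate of the 14-dimensional module in the submodule. -/
def pinv : I14 → Option (Fin 7)
  | .inl i => if i.val = 0 then some 0 else none
  | .inr u => if u.val = 2 then some 1 else if u.val = 3 then some 2 else if u.val = 4 then some 3
      else if u.val = 7 then some 4 else if u.val = 8 then some 5 else if u.val = 9 then some 6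
      else none

/-- The coordinates of the submodule. -/
def ι7 : Fin 7 → I14 := ![.inl 0, .inr 2, .inr 3, .inr 4, .inr 7, .inr 8, .inr 9]

theorem pinv_ι7 : ∀ b, pinv (ι7 b) = some b := by decide

theorem ι7_of_pinv : ∀ k b, pinv k = some b → k = ι7 b := by decide

/-- The inclusion matrix. -/
def E : Matrix I14 (Fin 7) (ZMod 3) := fun i a => if pinv i = some a then 1 else 0

/-- The projection matrix. -/
def Pm : Matrix (Fin 7) I14 (ZMod 3) := fun a i => if pinv i = some a then 1 else 0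

theorem Pm_mul_E : Pm * E = 1 := by
  ext a b
  rw [Matrix.mul_apply, Finset.sum_eq_single (ι7 a)]
  · simp [Pm, E, pinv_ι7, Matrix.one_apply]
  · intro k _ hk
    have : pinv k ≠ some a := fun h => hk (ι7_of_pinv k a h)
    simp [Pm, this]
  · simp

/-- `M` leaves the submodule invariant and induces `R` on it. -/
def Rel (M : M14) (R : M7) : Prop := M * E = E * R

theorem rel_one : Rel 1 1 := by simp [Rel]

theorem rel_mul {M N : M14} {R S : M7} (h1 : Rel M R) (h2 : Rel N S) : Rel (M * N) (R * S) := by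
  unfold Rel at *
  rw [Matrix.mul_assoc, h2, ← Matrix.mul_assoc, h1, Matrix.mul_assoc]

theorem rel_unique {M : M14} {R R' : M7} (h : Rel M R) (h' : Rel M R') : R = R' := by
  have h0 : E * R = E * R' := by rw [← h, ← h']
  calc R = (Pm * E) * R := by rw [Pm_mul_E, Matrix.one_mul]
    _ = Pm * (E * R) := Matrix.mul_assoc _ _ _
    _ = Pm * (E * R') := by rw [h0]
    _ = R' := by rw [← Matrix.mul_assoc, Pm_mul_E, Matrix.one_mul]

theorem rel_inv {M Mi : M14} {R Ri : M7} (hM : Mi * M = 1) (hR : R * Ri = 1) (h : Rel M R) :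
    Rel Mi Ri := by
  unfold Rel at *
  calc Mi * E = Mi * (E * (R * Ri)) := by rw [hR, Matrix.mul_one]
    _ = Mi * ((M * E) * Ri) := by rw [← Matrix.mul_assoc E, h]
    _ = (Mi * M) * E * Ri := by simp only [Matrix.mul_assoc]
    _ = E * Ri := by rw [hM, Matrix.one_mul]

/-- The entry `(i, b)` of `E * R`. -/
def entOf (R : M7) (i : I14) (b : Fin 7) : ZMod 3 :=
  match pinv i with
  | some a => R a b
  | none => 0

theorem rel_of_entries (M : M14) (R : M7)
    (h : ∀ (i : I14) (b : Fin 7), M i (ι7 b) = entOf R i b) : Rel M R := by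
  unfold Rel
  ext i b
  rw [Matrix.mul_apply, Matrix.mul_apply]
  have hL : ∑ k, M i k * E k b = M i (ι7 b) := by
    rw [Finset.sum_eq_single (ι7 b)]
    · simp [E, pinv_ι7]
    · intro k _ hk
      have : pinv k ≠ some b := fun h => hk (ι7_of_pinv k b h)
      simp [E, this]
    · simp
  have hR : ∑ a, E i a * R a b = entOf R i b := by
    unfold entOf
    cases hp : pinv i with
    | none => simp [E, hp]
    | some a0 => simp [E, hp]
  rw [hL, hR, h]

/-! ### The root elements -/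

set_option maxRecDepth 100000 in
theorem gen_entries : ∀ r : Fin 12, ∀ c : ZMod 3, ∀ (i : I14) (b : Fin 7),
    decM3 (rootc r.val c.val) i (ι7 b) = entOf (g7 r c) i b := by
  decide +kernel

theorem gen_rel (r : Fin 12) (c : ZMod 3) : Rel (XM3 r c) (g7 r c) := by
  rw [root3]; exact rel_of_entries _ _ (gen_entries r c)

set_option maxRecDepth 100000 in
theorem root_inv_code : ∀ r : Fin 12, ∀ c : ZMod 3,
    mulC (rootc r.val c.val) (rootc r.val (-c).val) = one3 := by
  decide +kernel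

theorem XM3_mul_neg (r : Fin 12) (c : ZMod 3) : XM3 r c * XM3 r (-c) = 1 := by
  rw [root3, root3, ← decM3_mulC, root_inv_code, decM3_one]

/-- The root element `x_r(c)` in `GL₁₄(3)`. -/
def xG (r : Fin 12) (c : ZMod 3) : GL14 :=
  ⟨XM3 r c, XM3 r (-c), XM3_mul_neg r c, by have := XM3_mul_neg r (-c); rwa [neg_neg] at this⟩

/-- The restriction of `x_r(c)` in `GL₇(3)`. -/
def mk7 (r : Fin 12) (c : ZMod 3) : GL7 :=
  ⟨g7 r c, g7 r (-c), g7_mul_neg' r c, by have := g7_mul_neg' r (-c); rwa [neg_neg] at this⟩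

/-- `G₂(3)` as a subgroup of `GL14`. -/
def G3 : Subgroup GL14 := chevG2.group (ZMod 3)

theorem G3_eq : G3 = Subgroup.closure
    {g : GL14 | ∃ (r : Fin 12) (c : ZMod 3), (g : M14) = XM3 r c} := rfl

theorem xG_mem (r : Fin 12) (c : ZMod 3) : xG r c ∈ G3 := by
  rw [G3_eq]
  exact Subgroup.subset_closure ⟨r, c, rfl⟩

/-- Pairs `(g, R)` with `g` inducing `R` on the submodule and `R` preserving the product. -/
def S : Subgroup (GL14 × GL7) where
  carrier := {p | Rel (p.1 : M14) (p.2 : M7) ∧ Pres (p.2 : M7)}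
  mul_mem' := by
    rintro ⟨a, a'⟩ ⟨b, b'⟩ ⟨h1, h2⟩ ⟨h3, h4⟩
    exact ⟨rel_mul h1 h3, pres_mul h2 h4⟩
  one_mem' := ⟨rel_one, pres_one⟩
  inv_mem' := by
    rintro ⟨a, a'⟩ ⟨h1, h2⟩
    exact ⟨rel_inv (Units.inv_mul a) (Units.mul_inv a') h1, pres_inv (Units.mul_inv a') h2⟩

theorem G3_le : G3 ≤ S.map (MonoidHom.fst GL14 GL7) := by
  rw [G3_eq, Subgroup.closure_le]
  rintro g ⟨r, t, hg⟩
  refine ⟨(g, mk7 r t), ⟨?_, pres_g7 r t⟩, rfl⟩
  show Rel (g : M14) (g7 r t)
  rw [hg]
  exact gen_rel r t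

theorem exists_rel (g : G3) : ∃ R : GL7, ((g : GL14), R) ∈ S := by
  obtain ⟨⟨a, R⟩, hmem, hfst⟩ := G3_le g.2
  have h1 : a = (g : GL14) := hfst
  rw [h1] at hmem
  exact ⟨R, hmem⟩

/-- The restriction map on elements. -/
noncomputable def rhoFun (g : G3) : GL7 := Classical.choose (exists_rel g)

theorem rhoFun_spec (g : G3) : ((g : GL14), rhoFun g) ∈ S := Classical.choose_spec (exists_rel g)

theorem S_unique {g : GL14} {R R' : GL7} (h : (g, R) ∈ S) (h' : (g, R') ∈ S) : R = R' :=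
  Units.ext (rel_unique h.1 h'.1)

theorem rhoFun_mul (a b : G3) : rhoFun (a * b) = rhoFun a * rhoFun b := by
  have h := S.mul_mem (rhoFun_spec a) (rhoFun_spec b)
  rw [Prod.mk_mul_mk] at h
  exact S_unique (rhoFun_spec (a * b)) h

/-- The restriction homomorphism. -/
noncomputable def rho : G3 →* GL7 := MonoidHom.mk' rhoFun rhoFun_mul

theorem rho_eq {g : G3} {R : GL7} (h : ((g : GL14), R) ∈ S) : rho g = R :=
  S_unique (rhoFun_spec g) h

theorem rho_pres (g : G3) : Pres (rho g : M7) := (rhoFun_spec g).2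

/-- The root element `x_r(c)` in `G₂(3)`. -/
def xE (r : Fin 12) (c : ZMod 3) : G3 := ⟨xG r c, xG_mem r c⟩

theorem rho_xE (r : Fin 12) (c : ZMod 3) : rho (xE r c) = mk7 r c :=
  rho_eq ⟨gen_rel r c, pres_g7 r c⟩

theorem rho_injective : Function.Injective rho := by
  have hs : IsSimpleGroup ↥G3 :=
    (Cfsg.Agent.S1055.result (F := ZMod 3) ⟨2, by decide, by decide⟩).1
  rw [← MonoidHom.ker_eq_bot_iff]
  rcases hs.eq_bot_or_eq_top_of_normal rho.ker (MonoidHom.normal_ker rho) with h | h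
  · exact h
  · exfalso
    have h1 : xE 0 1 ∈ rho.ker := by rw [h]; trivial
    rw [MonoidHom.mem_ker, rho_xE] at h1
    have h2 : g7 0 1 = 1 := congrArg (fun u : GL7 => (u : M7)) h1
    exact x6m_facts.2.2.2.2.2.2 h2

/-! ### Self-centralizing elements -/

theorem cdata_pow_N {N : ℕ} [NeZero N] (D : CData N) : D.x ^ N = 1 := by
  apply D.eq_of_mulVec_eq (Commute.pow_left (Commute.refl D.x) _) (by simp)
  rw [D.pow_mulVec, Matrix.one_mulVec, ← D.hu0]
  congr 1
  apply Fin.ext
  simp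

theorem cdata_pow {N : ℕ} [NeZero N] (D : CData N) (X : G3) (hX : (rho X : M7) = D.x)
    (hv : D.v ≠ 0) (g : G3) (hc : Commute g X) : g ^ N = 1 := by
  have h1 : (rho g : M7) * D.x = D.x * (rho g : M7) := by
    rw [← hX, ← Units.val_mul, ← Units.val_mul, ← map_mul, ← map_mul, hc.eq]
  have hne : (rho g : M7) *ᵥ D.v ≠ 0 := by
    intro h0
    apply hv
    have h2 : ((rho g)⁻¹ : GL7).val *ᵥ ((rho g : M7) *ᵥ D.v) = D.v := by
      rw [Matrix.mulVec_mulVec, Units.inv_mul, Matrix.one_mulVec]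
    rw [← h2, h0, Matrix.mulVec_zero]
  obtain ⟨k, hk⟩ := D.exists_pow h1 (rho_pres g) hne
  apply rho_injective
  rw [map_pow, map_one]
  apply Units.ext
  rw [Units.val_pow_eq_pow_val, hk, ← pow_mul, mul_comm, pow_mul, cdata_pow_N, one_pow]
  rfl

theorem orderOf_of_cdata {N : ℕ} [NeZero N] [hN : Fact N.Prime] (D : CData N) (X : G3)
    (hX : (rho X : M7) = D.x) (hv : D.v ≠ 0) (hx1 : D.x ≠ 1) : orderOf X = N := by
  apply orderOf_eq_prime (cdata_pow D X hX hv X (Commute.refl X))
  intro h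
  apply hx1
  rw [← hX, h, map_one]
  rfl

theorem orderOf_eq_of_cdata {N : ℕ} [NeZero N] [hN : Fact N.Prime] (D : CData N) (X : G3)
    (hX : (rho X : M7) = D.x) (hv : D.v ≠ 0) (hx1 : D.x ≠ 1)
    (hN2 : ¬ N ^ 2 ∣ Nat.card G3) (g : G3) (hg : N ∣ orderOf g) : orderOf g = N :=
  orderOf_eq_of_self_centralizing hN2 X (orderOf_of_cdata D X hX hv hx1)
    (fun g hc => cdata_pow D X hX hv g hc) g hg

/-- An element of order `13`. -/
noncomputable def X13 : G3 := xE 0 1 * xE 4 1 * xE 9 1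

/-- An element of order `7`. -/
noncomputable def X7 : G3 := xE 0 1 * xE 1 1 * xE 3 1 * xE 11 1

/-- An element of order `6`. -/
noncomputable def X6 : G3 := xE 0 1 * xE 11 2

theorem rho_X13 : (rho X13 : M7) = D13.x := by
  rw [X13, map_mul, map_mul, rho_xE, rho_xE, rho_xE]
  exact x13m_eq.symm

theorem rho_X7 : (rho X7 : M7) = D7.x := by
  rw [X7, map_mul, map_mul, map_mul, rho_xE, rho_xE, rho_xE, rho_xE]
  exact x7m_eq.symm

theorem rho_X6 : (rho X6 : M7) = x6m := by
  rw [X6, map_mul, rho_xE, rho_xE]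
  exact x6m_eq.symm

theorem misc_ne : D13.v ≠ 0 ∧ D13.x ≠ 1 ∧ D7.v ≠ 0 ∧ D7.x ≠ 1 := by
  refine ⟨?_, ?_, ?_, ?_⟩
  · show v13 ≠ 0; decide
  · show x13m ≠ 1; decide
  · show v7 ≠ 0; decide
  · show x7m ≠ 1; decide

instance : Fact (Nat.Prime 13) := ⟨by norm_num⟩
instance : Fact (Nat.Prime 7) := ⟨by norm_num⟩

theorem orderOf_eq_thirteen (h2 : ¬ 13 ^ 2 ∣ Nat.card G3) (g : G3) (hg : 13 ∣ orderOf g) :
    orderOf g = 13 :=
  orderOf_eq_of_cdata D13 X13 rho_X13 misc_ne.1 misc_ne.2.1 h2 g hg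

theorem orderOf_eq_seven (h2 : ¬ 7 ^ 2 ∣ Nat.card G3) (g : G3) (hg : 7 ∣ orderOf g) :
    orderOf g = 7 :=
  orderOf_eq_of_cdata D7 X7 rho_X7 misc_ne.2.2.1 misc_ne.2.2.2 h2 g hg

theorem orderOf_X6 : orderOf X6 = 6 := by
  have hpow : ∀ k : ℕ, X6 ^ k = 1 ↔ x6m ^ k = 1 := by
    intro k
    constructor
    · intro h
      have := congrArg (fun z : G3 => ((rho z : GL7) : M7)) h
      simp only [map_pow, map_one, Units.val_pow_eq_pow_val, rho_X6] at this
      exact this
    · intro h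
      apply rho_injective
      rw [map_pow, map_one]
      apply Units.ext
      rw [Units.val_pow_eq_pow_val, rho_X6, h]
      rfl
  apply orderOf_eq_of_pow_and_pow_div_prime (by norm_num)
  · rw [hpow]; exact x6m_pow6
  · intro p hp hp6
    have hp' : p = 2 ∨ p = 3 := by
      have : p ∣ 2 * 3 := hp6
      rcases (Nat.Prime.dvd_mul hp).1 this with h | h
      · left; exact (Nat.prime_dvd_prime_iff_eq hp Nat.prime_two).1 h
      · right; exact (Nat.prime_dvd_prime_iff_eq hp Nat.prime_three).1 h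
    rcases hp' with rfl | rfl
    · rw [Ne, hpow]
      show ¬ x6m ^ 3 = 1
      rw [x6m_pow3]; exact x6m_facts.2.2.2.2.2.1
    · rw [Ne, hpow]
      show ¬ x6m ^ 2 = 1
      rw [x6m_pow2]; exact x6m_facts.2.2.2.2.1

end Cfsg.Agent.Lib.Helper46_G23Rho
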