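import Cfsg.Agent.Lib.Helper46_PairCard
import Cfsg.Agent.Lib.Helper18_ChevRootHom
import Cfsg.Agent.Lib.Helper18_ChevData5
import Cfsg.Agent.Lib.Helper5_SLPresA
import Cfsg.Agent.S1030

set_option autoImplicit false

/-!
The Chevalley group of type `G₂`: the torus elements `torGL a b = h_a(a) h_b(b)`, their action on the root
subgroups, the conjugation by `n_b`, and the homomorphisms `SL₂ → G₂(F)` attached to the roots.
-/

namespace Cfsg.Agent.Lib.Helper46_G2Base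

open Cfsg Cfsg.Lie
open Cfsg.Agent.Lib.Helper18_ChevWeyl Cfsg.Agent.Lib.Helper18_ChevGL Cfsg.Agent.Lib.Helper18_ChevTorus
  Cfsg.Agent.Lib.Helper18_ChevDiag Cfsg.Agent.Lib.Helper18_ChevCar Cfsg.Agent.Lib.Helper18_ChevBorel
  Cfsg.Agent.Lib.Helper18_ChevBN Cfsg.Agent.Lib.Helper18_ChevMono Cfsg.Agent.Lib.Helper18_ChevUni
  Cfsg.Agent.Lib.Helper18_ChevFacts
  Cfsg.Agent.Lib.Helper46_PairGroup Cfsg.Agent.Lib.Helper5_SteinbergA Cfsg.Agent.Lib.Helper5_SLPresA

variable {F : Type*} [Field F]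

theorem memG2 : chevG2 ∈ [chevG2, chevB2, chevD4, chevF4, chevE6, chevE7, chevE8] := by simp

theorem cG : DCert chevG2 Cfsg.Agent.Lib.Helper18_ChevDatumG2.Ns := Cfsg.Agent.Lib.Helper18_ChevDatumG2.dcert

theorem tG : TCert chevG2 := Cfsg.Agent.Lib.Helper18_ChevTCertG2.tcert

theorem aG : Cfsg.Agent.Lib.Helper18_ChevAdd.ACert chevG2 Cfsg.Agent.Lib.Helper18_ChevACerts.wlG2
    Cfsg.Agent.Lib.Helper18_ChevACerts.wsG2 1 := Cfsg.Agent.Lib.Helper18_ChevACerts.acertG2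

theorem gG : Cfsg.Agent.Lib.Helper18_ChevTri.GCert chevG2 Cfsg.Agent.Lib.Helper18_ChevGCertG2.w 1 :=
  Cfsg.Agent.Lib.Helper18_ChevGCertG2.gcert

theorem r2G : R2All chevG2 F := Cfsg.Agent.Lib.Helper18_ChevComm2.r2_all cG Cfsg.Agent.Lib.Helper18_ChevPCertG2.pcert

theorem dG : Cfsg.Agent.Lib.Helper18_ChevJCerts.Descent chevG2 :=
  Cfsg.Agent.Lib.Helper18_ChevJCerts.descent_all chevG2 memG2

/-! ### Torus elements -/

/-- torus parameters -/
def tf (a b : F) : ℕ → F := fun i => if i = 0 then a else b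

theorem tf_ne_zero (a b : Fˣ) (i : ℕ) : tf (a : F) (b : F) i ≠ 0 := by
  unfold tf
  split_ifs
  · exact a.ne_zero
  · exact b.ne_zero

theorem torusChar_tf (a b : F) (s : ℕ) :
    torusChar chevG2 (tf a b) s = a ^ chevG2.cartan 0 s * b ^ chevG2.cartan 1 s := by
  unfold torusChar
  have : chevG2.rank = 2 := rfl
  rw [this, Finset.prod_range_succ, Finset.prod_range_one]
  rfl

/-- the torus element `h_a(a) h_b(b)` -/
def torGL (a b : Fˣ) : GL chevG2.Idx F := hGL cG 7 (a : F) * hGL cG 6 (b : F)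

theorem torGL_coe (a b : Fˣ) :
    ((torGL a b : GL chevG2.Idx F) : Matrix chevG2.Idx chevG2.Idx F) = torusMat chevG2 (tf (a : F) (b : F)) := by
  unfold torGL
  rw [Units.val_mul, hGL_coe, hGL_coe, hMat_all cG tG 7 (by decide) _ a.ne_zero,
    hMat_all cG tG 6 (by decide) _ b.ne_zero, diagMat_mul]
  unfold torusMat
  apply diagMat_congr
  intro s _
  rw [torusChar_tf]
  have h7 := tG.cartanR_simple 0 (by decide) s
  have h6 := tG.cartanR_simple 1 (by decide) s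
  have e7 : chevG2.simple 0 = 7 := by decide
  have e6 : chevG2.simple 1 = 6 := by decide
  rw [e7] at h7
  rw [e6] at h6
  rw [h7, h6]

theorem tf_mul (a b a' b' : F) : (fun i => tf a b i * tf a' b' i) = tf (a * a') (b * b') := by
  funext i
  unfold tf
  split_ifs <;> rfl

theorem torGL_mul (a b a' b' : Fˣ) : torGL a b * torGL a' b' = torGL (a * a') (b * b') := by
  apply Units.ext
  rw [Units.val_mul, torGL_coe, torGL_coe, torGL_coe, torusMat_mul, tf_mul, Units.val_mul, Units.val_mul]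

theorem torGL_one : torGL (1 : Fˣ) 1 = 1 := by
  apply Units.ext
  rw [torGL_coe]
  show torusMat chevG2 (tf (((1 : Fˣ) : Fˣ) : F) (((1 : Fˣ) : Fˣ) : F)) = (1 : Matrix chevG2.Idx chevG2.Idx F)
  rw [← torusMat_one (D := chevG2) (F := F)]
  congr 1
  funext i
  unfold tf
  split_ifs <;> simp

theorem torGL_inv (a b : Fˣ) : (torGL a b)⁻¹ = torGL a⁻¹ b⁻¹ := by
  rw [inv_eq_iff_mul_eq_one, torGL_mul, mul_inv_cancel, mul_inv_cancel, torGL_one]

theorem torGL_mem (a b : Fˣ) : torGL a b ∈ chevG2.diagonalSubgroup F :=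
  Subgroup.mul_mem _ (hGL_mem cG 7 (by decide) _ a.ne_zero) (hGL_mem cG 6 (by decide) _ b.ne_zero)

theorem torGL_comm (a b a' b' : Fˣ) : torGL a b * torGL a' b' = torGL a' b' * torGL a b := by
  rw [torGL_mul, torGL_mul, mul_comm a, mul_comm b]

theorem exists_torGL_of_mem (h : GL chevG2.Idx F) (hh : h ∈ chevG2.diagonalSubgroup F) :
    ∃ a b : Fˣ, h = torGL a b := by
  obtain ⟨t, ht, e⟩ := exists_torus_of_mem cG tG h hh
  refine ⟨Units.mk0 (t 0) (ht 0), Units.mk0 (t 1) (ht 1), ?_⟩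
  apply Units.ext
  rw [e, torGL_coe]
  unfold torusMat
  apply diagMat_congr
  intro s _
  rw [torusChar_tf]
  unfold torusChar
  have : chevG2.rank = 2 := rfl
  rw [this, Finset.prod_range_succ, Finset.prod_range_one]
  rfl

/-- the character of `torGL a b` -/
def chi (a b : Fˣ) (r : ℕ) : F := (a : F) ^ chevG2.cartan 0 r * (b : F) ^ chevG2.cartan 1 r

theorem torGL_conj (a b : Fˣ) (r : ℕ) (hr : r < chevG2.nroots) (t : F) :
    torGL a b * xGL cG r t * (torGL a b)⁻¹ = xGL cG r (chi a b r * t) := by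
  rw [mul_inv_eq_iff_eq_mul]
  apply Units.ext
  rw [Units.val_mul, Units.val_mul, xGL_coe, xGL_coe, torGL_coe]
  have := torus_conj cG tG (tf (a : F) (b : F)) (tf_ne_zero a b) r hr t
  rw [torusChar_tf] at this
  exact this

theorem hGL_eq_torGL (r : ℕ) (hr : r < chevG2.nroots) (δ : Fˣ) :
    hGL cG r (δ : F) = torGL (δ ^ cor chevG2 r 0) (δ ^ cor chevG2 r 1) := by
  apply Units.ext
  rw [hGL_coe, hMat_all cG tG r hr _ δ.ne_zero, torGL_coe]
  unfold torusMat
  apply diagMat_congr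
  intro s _
  rw [cartanR_char r _ δ.ne_zero s, torusChar_tf]
  unfold torusChar
  have : chevG2.rank = 2 := rfl
  rw [this, Finset.prod_range_succ, Finset.prod_range_one, Units.val_zpow_eq_zpow_val, Units.val_zpow_eq_zpow_val]

theorem hGL_7 (δ : Fˣ) : hGL cG 7 (δ : F) = torGL δ 1 := by
  rw [hGL_eq_torGL 7 (by decide)]
  have h0 : cor chevG2 7 0 = 1 := by decide
  have h1 : cor chevG2 7 1 = 0 := by decide
  rw [h0, h1, zpow_one, zpow_zero]

theorem hGL_6 (δ : Fˣ) : hGL cG 6 (δ : F) = torGL 1 δ := by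
  rw [hGL_eq_torGL 6 (by decide)]
  have h0 : cor chevG2 6 0 = 0 := by decide
  have h1 : cor chevG2 6 1 = 1 := by decide
  rw [h0, h1, zpow_one, zpow_zero]

theorem hGL_11 (δ : Fˣ) : hGL cG 11 (δ : F) = torGL δ (δ ^ 2) := by
  rw [hGL_eq_torGL 11 (by decide)]
  have h0 : cor chevG2 11 0 = 1 := by decide
  have h1 : cor chevG2 11 1 = 2 := by decide
  rw [h0, h1, zpow_one]
  rfl

theorem hGL_8 (δ : Fˣ) : hGL cG 8 (δ : F) = torGL δ (δ ^ 3) := by
  rw [hGL_eq_torGL 8 (by decide)]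
  have h0 : cor chevG2 8 0 = 1 := by decide
  have h1 : cor chevG2 8 1 = 3 := by decide
  rw [h0, h1, zpow_one]
  rfl

theorem hGL_5 (δ : Fˣ) : hGL cG 5 (δ : F) = torGL 1 δ⁻¹ := by
  rw [hGL_eq_torGL 5 (by decide)]
  have h0 : cor chevG2 5 0 = 0 := by decide
  have h1 : cor chevG2 5 1 = -1 := by decide
  rw [h0, h1, zpow_zero, zpow_neg_one]

theorem torGL_split (a b : Fˣ) : torGL a b = hGL cG 7 (a : F) * hGL cG 6 (b : F) := rfl

/-- conjugation of the torus by `n_b` -/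
theorem nGL_conj_torGL (a b : Fˣ) :
    nGL cG 1 * torGL a b * (nGL cG 1)⁻¹ = torGL a (a ^ 3 * b⁻¹) := by
  have h7 := nGL_conj_hGL cG tG 1 (by decide) 7 (by decide) (a : F) a.ne_zero
  have h6 := nGL_conj_hGL cG tG 1 (by decide) 6 (by decide) (b : F) b.ne_zero
  have r7 : chevG2.reflectRoot 1 7 = 8 := by decide
  have r6 : chevG2.reflectRoot 1 6 = 5 := by decide
  rw [r7, hGL_8] at h7
  rw [r6, hGL_5] at h6
  rw [torGL_split]
  calc nGL cG 1 * (hGL cG 7 (a : F) * hGL cG 6 (b : F)) * (nGL cG 1)⁻¹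
      = (nGL cG 1 * hGL cG 7 (a : F) * (nGL cG 1)⁻¹) * (nGL cG 1 * hGL cG 6 (b : F) * (nGL cG 1)⁻¹) := by group
    _ = torGL a (a ^ 3 * b⁻¹) := by rw [h7, h6, torGL_mul, mul_one]

end Cfsg.Agent.Lib.Helper46_G2Base
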