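import Cfsg.Agent.Lib.Helper46_PairFusion

set_option autoImplicit false

/-!
The structure of the centralizer of the central involution of `M = (SL₂ ∘ SL₂).2`, when it equals `M`;
conjugation of pair data.
-/

namespace Cfsg.Agent.Lib.Helper46_PairGroup.PairData

open Matrix Cfsg.Agent.Lib.Helper46_PairGroup Cfsg.Agent.Lib.Helper46_PairConj
  Cfsg.Agent.Lib.Helper46_PairCard Cfsg.Agent.Lib.Helper46_PairFusion

variable {F : Type*} [Field F] {G : Type*} [Group G]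

variable (P : PairData F G)

theorem range_sup_range : P.φ1.range ⊔ P.φ2.range = P.K := by
  rw [← P.κ_range]
  exact (MonoidHom.noncommCoprod_range P.φ1 P.φ2 (fun A B => P.comm A B)).symm

theorem z_eq_phi1 : P.z = P.φ1 (-1) := P.zeq.symm

theorem range_inf_range (h2 : (2 : F) ≠ 0) : P.φ1.range ⊓ P.φ2.range = Subgroup.zpowers P.z := by
  apply le_antisymm
  · rintro x ⟨⟨A, rfl⟩, ⟨B, hB⟩⟩
    have hk : ((A, B⁻¹) : SL2 F × SL2 F) ∈ P.κ.ker := by
      rw [MonoidHom.mem_ker, κ_apply]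
      show P.φ1 A * P.φ2 B⁻¹ = 1
      rw [map_inv, hB, mul_inv_cancel]
    rcases (P.κ_ker h2 _).mp hk with h | h
    · have hA : A = 1 := congrArg Prod.fst h
      rw [hA, map_one]
      exact Subgroup.one_mem _
    · have hA : A = -1 := congrArg Prod.fst h
      rw [hA, ← P.z_eq_phi1]
      exact Subgroup.mem_zpowers _
  · rw [Subgroup.zpowers_le]
    exact Subgroup.mem_inf.mpr ⟨⟨-1, P.z_eq_phi1.symm⟩, ⟨-1, rfl⟩⟩

/-- the structure of the centralizer of `z` -/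
theorem cent_structure [Fintype F] [DecidableEq F] (h2 : (2 : F) ≠ 0)
    (hC : Subgroup.centralizer ({P.z} : Set G) = P.M) :
    Nat.card (Subgroup.centralizer ({P.z} : Set G)) = Nat.card (SL2 F) ^ 2 ∧
      ∃ L₁ L₂ : Subgroup G, Nonempty (L₁ ≃* SL2 F) ∧ Nonempty (L₂ ≃* SL2 F) ∧
        (∀ x ∈ L₁, ∀ y ∈ L₂, x * y = y * x) ∧ L₁ ⊓ L₂ = Subgroup.zpowers P.z ∧
        L₁ ⊔ L₂ ≤ Subgroup.centralizer ({P.z} : Set G) ∧
        (L₁ ⊔ L₂).relIndex (Subgroup.centralizer ({P.z} : Set G)) = 2 := by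
  refine ⟨by rw [hC]; exact P.card_M h2, P.φ1.range, P.φ2.range,
    ⟨(MonoidHom.ofInjective P.inj1).symm⟩, ⟨(MonoidHom.ofInjective P.inj2).symm⟩, ?_,
    P.range_inf_range h2, ?_, ?_⟩
  · rintro _ ⟨A, rfl⟩ _ ⟨B, rfl⟩
    exact P.comm A B
  · rw [P.range_sup_range, hC]
    exact P.K_le_M
  · rw [P.range_sup_range, hC]
    exact P.relIndex_K_M h2

/-! ### conjugation -/

/-- the pair data conjugated by `g` -/
def conjP (g : G) : PairData F G where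
  φ1 := (MulAut.conj g).toMonoidHom.comp P.φ1
  φ2 := (MulAut.conj g).toMonoidHom.comp P.φ2
  h0 := (MulAut.conj g).toMonoidHom.comp P.h0
  comm A B := by
    show g * P.φ1 A * g⁻¹ * (g * P.φ2 B * g⁻¹) = g * P.φ2 B * g⁻¹ * (g * P.φ1 A * g⁻¹)
    calc g * P.φ1 A * g⁻¹ * (g * P.φ2 B * g⁻¹) = g * (P.φ1 A * P.φ2 B) * g⁻¹ := by group
      _ = g * (P.φ2 B * P.φ1 A) * g⁻¹ := by rw [P.comm]
      _ = _ := by group
  conj1 δ A := by
    show g * P.h0 δ * g⁻¹ * (g * P.φ1 A * g⁻¹) * (g * P.h0 δ * g⁻¹)⁻¹ = g * P.φ1 (conjD δ A) * g⁻¹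
    rw [← P.conj1]
    group
  conj2 δ A := by
    show g * P.h0 δ * g⁻¹ * (g * P.φ2 A * g⁻¹) * (g * P.h0 δ * g⁻¹)⁻¹ = g * P.φ2 (conjD δ A) * g⁻¹
    rw [← P.conj2]
    group
  sq c := by
    show g * P.h0 (c ^ 2) * g⁻¹ = g * P.φ1 (dg c) * g⁻¹ * (g * P.φ2 (dg c) * g⁻¹)
    rw [P.sq]
    group
  inj1 := by
    intro A B h
    apply P.inj1
    have h' : g * P.φ1 A * g⁻¹ = g * P.φ1 B * g⁻¹ := h
    have := congrArg (fun x => g⁻¹ * x * g) h'
    simpa [mul_assoc] using this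
  inj2 := by
    intro A B h
    apply P.inj2
    have h' : g * P.φ2 A * g⁻¹ = g * P.φ2 B * g⁻¹ := h
    have := congrArg (fun x => g⁻¹ * x * g) h'
    simpa [mul_assoc] using this
  zeq := by
    show g * P.φ1 (-1) * g⁻¹ = g * P.φ2 (-1) * g⁻¹
    rw [P.zeq]

theorem conjP_z (g : G) : (P.conjP g).z = g * P.z * g⁻¹ := rfl

theorem conjP_Ψ (g : G) (A B : M2 F) (δ : Fˣ) : (P.conjP g).Ψ A B δ = g * P.Ψ A B δ * g⁻¹ := by
  show g * P.φ1 (toSL A δ) * g⁻¹ * (g * P.φ2 (toSL B δ) * g⁻¹) * (g * P.h0 δ * g⁻¹) =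
    g * (P.φ1 (toSL A δ) * P.φ2 (toSL B δ) * P.h0 δ) * g⁻¹
  group

theorem mem_conjP_M (g x : G) : x ∈ (P.conjP g).M ↔ g⁻¹ * x * g ∈ P.M := by
  constructor
  · rintro ⟨A, B, δ, hA, hB, rfl⟩
    rw [conjP_Ψ]
    refine ⟨A, B, δ, hA, hB, ?_⟩
    group
  · rintro ⟨A, B, δ, hA, hB, h⟩
    refine ⟨A, B, δ, hA, hB, ?_⟩
    rw [conjP_Ψ, ← h]
    group

theorem conjP_centralizer (g : G) (hC : Subgroup.centralizer ({P.z} : Set G) = P.M) :
    Subgroup.centralizer ({(P.conjP g).z} : Set G) = (P.conjP g).M := by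
  ext x
  rw [mem_conjP_M, ← hC, Subgroup.mem_centralizer_iff, Subgroup.mem_centralizer_iff, conjP_z]
  constructor
  · intro h y hy
    rw [Set.mem_singleton_iff] at hy
    have := h _ (Set.mem_singleton _)
    rw [hy]
    calc P.z * (g⁻¹ * x * g) = g⁻¹ * (g * P.z * g⁻¹ * x) * g := by group
      _ = g⁻¹ * (x * (g * P.z * g⁻¹)) * g := by rw [this]
      _ = _ := by group
  · intro h y hy
    rw [Set.mem_singleton_iff] at hy
    have := h _ (Set.mem_singleton _)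
    rw [hy]
    calc g * P.z * g⁻¹ * x = g * (P.z * (g⁻¹ * x * g)) * g⁻¹ := by group
      _ = g * (g⁻¹ * x * g * P.z) * g⁻¹ := by rw [this]
      _ = _ := by group

end Cfsg.Agent.Lib.Helper46_PairGroup.PairData
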