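import Cfsg.Agent.Lib.Helper46_G2Fusion
import Cfsg.Agent.Lib.Helper46_PairCent

set_option autoImplicit false

/-!
The centralizer of the involution `z = h_a(-1)` of `G₂(q)`, `q` odd, is `M = (SL₂ ∘ SL₂).2`.
-/

namespace Cfsg.Agent.Lib.Helper46_G2Cent

open Cfsg Cfsg.Lie
open Cfsg.Agent.Lib.Helper18_ChevWeyl Cfsg.Agent.Lib.Helper18_ChevGL Cfsg.Agent.Lib.Helper18_ChevTorus
  Cfsg.Agent.Lib.Helper18_ChevDiag Cfsg.Agent.Lib.Helper18_ChevCar Cfsg.Agent.Lib.Helper18_ChevBorel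
  Cfsg.Agent.Lib.Helper18_ChevBN Cfsg.Agent.Lib.Helper18_ChevMono Cfsg.Agent.Lib.Helper18_ChevUni
  Cfsg.Agent.Lib.Helper18_ChevFacts Cfsg.Agent.Lib.Helper18_ChevSimp Cfsg.Agent.Lib.Helper18_ChevBNPair
  Cfsg.Agent.Lib.Helper18_ChevRootHom Cfsg.Agent.Lib.Helper18_ChevBruhat
  Cfsg.Agent.Lib.Helper46_PairGroup Cfsg.Agent.Lib.Helper46_PairConj Cfsg.Agent.Lib.Helper46_PairCard
  Cfsg.Agent.Lib.Helper46_G2Base Cfsg.Agent.Lib.Helper46_G2Hom
  Cfsg.Agent.Lib.Helper46_G2Data Cfsg.Agent.Lib.Helper46_G2Weyl Cfsg.Agent.Lib.Helper46_G2Fusion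
  Cfsg.Agent.Lib.Helper5_SteinbergA

variable {F : Type*} [Field F]

/-! ### the Weyl group as a table -/

def F0 : List ℕ := [0, 5, 3, 2, 7, 1, 10, 4, 9, 8, 6, 11]
def F1 : List ℕ := [1, 0, 2, 4, 3, 6, 5, 8, 7, 9, 11, 10]
def Vid : List ℕ := [0, 1, 2, 3, 4, 5, 6, 7, 8, 9, 10, 11]
def V11 : List ℕ := [11, 6, 8, 9, 4, 10, 1, 7, 2, 3, 5, 0]
def Vneg : List ℕ := [11, 10, 9, 8, 7, 6, 5, 4, 3, 2, 1, 0]

def Wl : List (List ℕ) :=
  [[0, 1, 2, 3, 4, 5, 6, 7, 8, 9, 10, 11],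
   [0, 5, 3, 2, 7, 1, 10, 4, 9, 8, 6, 11],
   [1, 0, 2, 4, 3, 6, 5, 8, 7, 9, 11, 10],
   [1, 6, 4, 2, 8, 0, 11, 3, 9, 7, 5, 10],
   [5, 0, 3, 7, 2, 10, 1, 9, 4, 8, 11, 6],
   [5, 10, 7, 3, 9, 0, 11, 2, 8, 4, 1, 6],
   [6, 1, 4, 8, 2, 11, 0, 9, 3, 7, 10, 5],
   [6, 11, 8, 4, 9, 1, 10, 2, 7, 3, 0, 5],
   [10, 5, 7, 9, 3, 11, 0, 8, 2, 4, 6, 1],
   [10, 11, 9, 7, 8, 5, 6, 3, 4, 2, 0, 1],
   [11, 6, 8, 9, 4, 10, 1, 7, 2, 3, 5, 0],
   [11, 10, 9, 8, 7, 6, 5, 4, 3, 2, 1, 0]]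

theorem Wl_f0 : ∀ v ∈ Wl, v.map (fun i => F0.getD i 0) ∈ Wl := by decide
theorem Wl_f1 : ∀ v ∈ Wl, v.map (fun i => F1.getD i 0) ∈ Wl := by decide
theorem Wl_stab : ∀ v ∈ Wl, v.getD 7 0 ∈ [0, 4, 7, 11] → v = Vid ∨ v = F0 ∨ v = V11 ∨ v = Vneg := by decide

theorem refl0 : ∀ r : Fin chevG2.nroots, chevG2.reflectRoot 0 r = F0.getD r 0 := by decide
theorem refl1 : ∀ r : Fin chevG2.nroots, chevG2.reflectRoot 1 r = F1.getD r 0 := by decide

/-- the table of a permutation of the roots -/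
def tbl (σ : Equiv.Perm (Fin chevG2.nroots)) : List ℕ :=
  List.ofFn (fun r : Fin chevG2.nroots => ((σ r : Fin chevG2.nroots) : ℕ))

theorem tbl_injective : Function.Injective tbl := by
  intro σ τ h
  have h1 := List.ofFn_injective h
  ext r
  exact congrFun h1 r

theorem tbl_mul_gen (x y : Equiv.Perm (Fin chevG2.nroots)) (Fi : List ℕ)
    (hx : ∀ r : Fin chevG2.nroots, ((x r : Fin chevG2.nroots) : ℕ) = Fi.getD r 0) :
    tbl (x * y) = (tbl y).map (fun i => Fi.getD i 0) := by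
  unfold tbl
  rw [List.map_ofFn]
  congr 1
  funext r
  exact hx (y r)

theorem gen_inv (x : Equiv.Perm (Fin chevG2.nroots)) (i : ℕ) (hi : i < chevG2.rank)
    (hx : ∀ r : Fin chevG2.nroots, ((x r : Fin chevG2.nroots) : ℕ) = chevG2.reflectRoot i r) : x⁻¹ = x := by
  rw [inv_eq_iff_mul_eq_one]
  ext r
  show ((x (x r) : Fin chevG2.nroots) : ℕ) = r
  rw [hx, hx]
  exact cG.reflect_reflect i hi r r.2

theorem tbl_mem_Wl (σ : Equiv.Perm (Fin chevG2.nroots)) (hσ : σ ∈ weylPerm chevG2) : tbl σ ∈ Wl := by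
  unfold weylPerm at hσ
  induction hσ using Subgroup.closure_induction_left with
  | one => decide
  | mul_left x hx y _ ih =>
    obtain ⟨i, hi, hx⟩ := hx
    have hi2 : i = 0 ∨ i = 1 := by
      have : chevG2.rank = 2 := rfl
      omega
    rcases hi2 with rfl | rfl
    · rw [tbl_mul_gen x y F0 (fun r => (hx r).trans (refl0 r))]
      exact Wl_f0 _ ih
    · rw [tbl_mul_gen x y F1 (fun r => (hx r).trans (refl1 r))]
      exact Wl_f1 _ ih
  | inv_mul_cancel x hx y _ ih =>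
    obtain ⟨i, hi, hx⟩ := hx
    rw [gen_inv x i hi hx]
    have hi2 : i = 0 ∨ i = 1 := by
      have : chevG2.rank = 2 := rfl
      omega
    rcases hi2 with rfl | rfl
    · rw [tbl_mul_gen x y F0 (fun r => (hx r).trans (refl0 r))]
      exact Wl_f0 _ ih
    · rw [tbl_mul_gen x y F1 (fun r => (hx r).trans (refl1 r))]
      exact Wl_f1 _ ih

theorem tbl_getD_7 (σ : Equiv.Perm (Fin chevG2.nroots)) :
    (tbl σ).getD 7 0 = ((σ ⟨7, by decide⟩ : Fin chevG2.nroots) : ℕ) := rfl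

theorem tbl_s0 : tbl (reflPerm cG 0 (by decide)) = F0 := by decide

theorem tbl_one : tbl 1 = Vid := by decide

theorem tbl_w11 : tbl (reflPerm cG 1 (by decide) * (reflPerm cG 0 (by decide) * reflPerm cG 1 (by decide) *
    (reflPerm cG 0 (by decide))⁻¹) * (reflPerm cG 1 (by decide))⁻¹) = V11 := by decide

theorem tbl_neg : tbl (reflPerm cG 1 (by decide) * (reflPerm cG 0 (by decide) * reflPerm cG 1 (by decide) *
    (reflPerm cG 0 (by decide))⁻¹) * (reflPerm cG 1 (by decide))⁻¹ * reflPerm cG 0 (by decide)) = Vneg := by decide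

/-! ### the image of `M` in the general linear group -/

/-- the image of `M` in the general linear group -/
noncomputable def MGL (F : Type*) [Field F] : Subgroup (GL chevG2.Idx F) := (pairG2 F).M.map (chevG2.group F).subtype

theorem mem_MGL_of {x : GG F} (hx : x ∈ (pairG2 F).M) : (x : GL chevG2.Idx F) ∈ MGL F :=
  ⟨x, hx, rfl⟩

theorem mem_M_of_MGL {x : GG F} (hx : (x : GL chevG2.Idx F) ∈ MGL F) : x ∈ (pairG2 F).M := by
  obtain ⟨y, hy, e⟩ := hx
  have : y = x := Subtype.ext e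
  rw [← this]
  exact hy

theorem torGL_mem_MGL (a b : Fˣ) : torGL a b ∈ MGL F := mem_MGL_of (tor_mem_M a b)

theorem diag_le_MGL : chevG2.diagonalSubgroup F ≤ MGL F := by
  intro h hh
  obtain ⟨a, b, rfl⟩ := exists_torGL_of_mem h hh
  exact torGL_mem_MGL a b

theorem phiGL11_mem_MGL (A : SL2 F) : phiGL 11 (by decide) A ∈ MGL F :=
  mem_MGL_of (x := (pairG2 F).φ1 A) ((pairG2 F).K_le_M ((pairG2 F).phi1_mem_K A))

theorem phiGL7_mem_MGL (A : SL2 F) : phiGL 7 (by decide) A ∈ MGL F :=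
  mem_MGL_of (x := (pairG2 F).φ2 A) ((pairG2 F).K_le_M ((pairG2 F).phi2_mem_K A))

/-! ### the character of `z` -/

/-- `z` in the general linear group -/
def zv (F : Type*) [Field F] : GL chevG2.Idx F := torGL (-1 : Fˣ) 1

theorem chi_z (s : ℕ) : chi (-1 : Fˣ) 1 s = (-1 : F) ^ chevG2.cartan 0 s := by
  unfold chi
  rw [Units.val_one, one_zpow, mul_one, Units.val_neg, Units.val_one]

theorem chi_z_cases (h2 : (2 : F) ≠ 0) (s : ℕ) (hs : s < chevG2.nroots) (h : chi (-1 : Fˣ) 1 s = 1) :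
    s = 0 ∨ s = 4 ∨ s = 7 ∨ s = 11 := by
  rw [chi_z] at h
  have hne : (-1 : F) ≠ 1 := by
    intro h'
    apply h2
    linear_combination -h'
  have hodd : ∀ k : ℤ, Odd k → (-1 : F) ^ k ≠ 1 := by
    intro k hk
    rw [hk.neg_one_zpow]
    exact hne
  have h12 : chevG2.nroots = 12 := rfl
  rw [h12] at hs
  interval_cases s
  · left; rfl
  · exact absurd h (hodd _ (by decide))
  · exact absurd h (hodd _ (by decide))
  · exact absurd h (hodd _ (by decide))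
  · right; left; rfl
  · exact absurd h (hodd _ (by decide))
  · exact absurd h (hodd _ (by decide))
  · right; right; left; rfl
  · exact absurd h (hodd _ (by decide))
  · exact absurd h (hodd _ (by decide))
  · exact absurd h (hodd _ (by decide))
  · right; right; right; rfl

theorem chi_z_7 : chi (-1 : Fˣ) 1 7 = 1 := by
  rw [chi_z]
  have : chevG2.cartan 0 7 = 2 := by decide
  rw [this]
  norm_num

theorem chi_z_neg (s : ℕ) (hs : s < chevG2.nroots)
    (hs' : s ≠ 0 ∧ s ≠ 4 ∧ s ≠ 7 ∧ s ≠ 11) : chi (-1 : Fˣ) 1 s = -1 := by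
  rw [chi_z]
  have h12 : chevG2.nroots = 12 := rfl
  rw [h12] at hs
  obtain ⟨h0, h4, h7, h11⟩ := hs'
  have hodd : ∀ k : ℤ, Odd k → (-1 : F) ^ k = -1 := fun k hk => hk.neg_one_zpow
  interval_cases s
  · exact absurd rfl h0
  · exact hodd _ (by decide)
  · exact hodd _ (by decide)
  · exact hodd _ (by decide)
  · exact absurd rfl h4
  · exact hodd _ (by decide)
  · exact hodd _ (by decide)
  · exact absurd rfl h7
  · exact hodd _ (by decide)
  · exact hodd _ (by decide)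
  · exact hodd _ (by decide)
  · exact absurd rfl h11

theorem xGL_inj (s : ℕ) (hs : s < chevG2.nroots) (a b : F) (h : xGL cG s a = xGL cG s b) : a = b := by
  have h1 : xGL cG s (a - b) = 1 := by
    rw [sub_eq_add_neg, ← xGL_mul, ← xGL_inv, h, mul_inv_cancel]
  have h2 : xGL cG s (a - b) ∈ chevG2.diagonalSubgroup F := by
    rw [h1]
    exact Subgroup.one_mem _
  have := eq_zero_of_xGL_mem_diagonal cG tG aG s hs _ h2
  linear_combination this

/-! ### conjugation of words by the torus -/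

theorem torGL_conj_word (a b : Fˣ) (w : List (ℕ × F)) (hw : ∀ p ∈ w, p.1 < chevG2.nroots) :
    torGL a b * wordGL cG w * (torGL a b)⁻¹ = wordGL cG (w.map fun p => (p.1, chi a b p.1 * p.2)) := by
  induction w with
  | nil => simp [wordGL_nil]
  | cons p w ih =>
    rw [List.map_cons, wordGL_cons, wordGL_cons, ← ih (fun q hq => hw q (List.mem_cons_of_mem _ hq)),
      ← torGL_conj a b p.1 (hw p List.mem_cons_self)]
    group

/-! ### the centralizer of `z` in `U` -/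

theorem posRoots_G2 : chevG2.posRoots = [6, 7, 8, 9, 10, 11] := by decide

theorem eq_zero_of_neg_eq (h2 : (2 : F) ≠ 0) {x : F} (h : (-1 : F) * x = x) : x = 0 := by
  have : (2 : F) * x = 0 := by linear_combination -h
  rcases mul_eq_zero.mp this with h' | h'
  · exact absurd h' h2
  · exact h'

theorem cent_pos (h2 : (2 : F) ≠ 0) (u : GL chevG2.Idx F) (hu : u ∈ chevG2.posUnipotent F)
    (hz : zv F * u * (zv F)⁻¹ = u) : u ∈ MGL F := by
  obtain ⟨t, rfl⟩ := posUnipotent_exists_word cG tG aG r2G u hu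
  have hw : ∀ p ∈ (chevG2.posRoots.map fun r => (r, t r)), p.1 < chevG2.nroots := by
    intro p hp
    rw [List.mem_map] at hp
    obtain ⟨r, hr, rfl⟩ := hp
    exact ((mem_posRoots r).mp hr).1
  unfold zv at hz
  rw [torGL_conj_word _ _ _ hw, List.map_map] at hz
  have hz' := congrArg (fun g : GL chevG2.Idx F => (g : Matrix chevG2.Idx chevG2.Idx F)) hz
  simp only [wordGL_coe] at hz'
  have key := unique_word cG tG aG chevG2.posRoots posRoots_nodup (fun s hs => (mem_posRoots s).mp hs)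
    (fun r => chi (-1 : Fˣ) 1 r * t r) t hz'
  have h6 : chi (-1 : Fˣ) 1 6 * t 6 = t 6 := key 6 (by rw [posRoots_G2]; decide)
  have h8 : chi (-1 : Fˣ) 1 8 * t 8 = t 8 := key 8 (by rw [posRoots_G2]; decide)
  have h9 : chi (-1 : Fˣ) 1 9 * t 9 = t 9 := key 9 (by rw [posRoots_G2]; decide)
  have h10 : chi (-1 : Fˣ) 1 10 * t 10 = t 10 := key 10 (by rw [posRoots_G2]; decide)
  rw [chi_z_neg 6 (by decide) (by decide)] at h6
  rw [chi_z_neg 8 (by decide) (by decide)] at h8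
  rw [chi_z_neg 9 (by decide) (by decide)] at h9
  rw [chi_z_neg 10 (by decide) (by decide)] at h10
  have t6 := eq_zero_of_neg_eq h2 h6
  have t8 := eq_zero_of_neg_eq h2 h8
  have t9 := eq_zero_of_neg_eq h2 h9
  have t10 := eq_zero_of_neg_eq h2 h10
  rw [posRoots_G2]
  simp only [List.map_cons, List.map_nil, wordGL_cons, wordGL_nil, t6, t8, t9, t10, xGL_zero, one_mul, mul_one]
  rw [← phiGL_true 7 (by decide), ← phiGL_true 11 (by decide)]
  exact mul_mem (phiGL7_mem_MGL _) (phiGL11_mem_MGL _)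

/-! ### the centralizer of `z` in `N` -/

/-- `n_{3a+2b}` as an element of `N` -/
def nr11N : ↥(chevG2.monomialSubgroup F) :=
  nN 1 (by decide) * (nN 0 (by decide) * nN 1 (by decide) * (nN 0 (by decide))⁻¹) * (nN 1 (by decide))⁻¹

theorem nr11N_coe : ((nr11N : ↥(chevG2.monomialSubgroup F)) : GL chevG2.Idx F) = nrGL cG 11 (1 : F) := by
  rw [nr11_eq]
  rfl

theorem nN0_mem_MGL : ((nN 0 (by decide) : ↥(chevG2.monomialSubgroup F)) : GL chevG2.Idx F) ∈ MGL F := by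
  show nGL cG 0 ∈ MGL F
  rw [← nr7_eq, ← phiGL_J 7 (by decide)]
  exact phiGL7_mem_MGL _

theorem nr11N_mem_MGL : ((nr11N : ↥(chevG2.monomialSubgroup F)) : GL chevG2.Idx F) ∈ MGL F := by
  rw [nr11N_coe, ← phiGL_J 11 (by decide)]
  exact phiGL11_mem_MGL _

theorem t0N_mem_MGL : ((t0N : ↥(chevG2.monomialSubgroup F)) : GL chevG2.Idx F) ∈ MGL F := by
  rw [t0N_coe, ← phiGL_J 11 (by decide), ← phiGL_J 7 (by decide)]
  exact mul_mem (phiGL11_mem_MGL _) (phiGL7_mem_MGL _)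

theorem mem_MGL_of_rho_eq (n m : ↥(chevG2.monomialSubgroup F)) (h : rho n = rho m)
    (hm : (m : GL chevG2.Idx F) ∈ MGL F) : (n : GL chevG2.Idx F) ∈ MGL F := by
  have hd : rho (n * m⁻¹) = 1 := by rw [map_mul, map_inv, h, mul_inv_cancel]
  have h1 := diag_le_MGL (mem_diag_of_rho _ hd)
  have : (n : GL chevG2.Idx F) = ((n * m⁻¹ : ↥(chevG2.monomialSubgroup F)) : GL chevG2.Idx F) * (m : GL chevG2.Idx F) := by
    rw [← Subgroup.coe_mul, inv_mul_cancel_right]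
  rw [this]
  exact mul_mem h1 hm

theorem cent_mono (h2 : (2 : F) ≠ 0) (n : GL chevG2.Idx F) (hn : n ∈ chevG2.monomialSubgroup F)
    (hz : zv F * n * (zv F)⁻¹ = n) : n ∈ MGL F := by
  have hσ : rho (⟨n, hn⟩ : ↥(chevG2.monomialSubgroup F)) ∈ weylPerm chevG2 := by
    rw [← rootHom_range (F := F) cG tG aG]
    exact ⟨⟨n, hn⟩, rfl⟩
  have htbl := tbl_mem_Wl _ hσ
  obtain ⟨h1, a, ha, e⟩ := piOf_actsAs cG tG (⟨n, hn⟩ : ↥(chevG2.monomialSubgroup F)) 7 (by decide)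
  have hπ : ((rho (⟨n, hn⟩ : ↥(chevG2.monomialSubgroup F)) ⟨7, by decide⟩ : Fin chevG2.nroots) : ℕ) =
      piOf cG tG (⟨n, hn⟩ : ↥(chevG2.monomialSubgroup F)) 7 := rfl
  generalize piOf cG tG (⟨n, hn⟩ : ↥(chevG2.monomialSubgroup F)) 7 = s at h1 e hπ
  have e1 : n * xGL cG 7 1 * n⁻¹ = xGL cG s (a * 1) := e 1
  have hc : zv F * xGL cG s (a * 1) * (zv F)⁻¹ = xGL cG s (a * 1) := by
    rw [← e1]
    calc zv F * (n * xGL cG 7 1 * n⁻¹) * (zv F)⁻¹
        = (zv F * n * (zv F)⁻¹) * (zv F * xGL cG 7 1 * (zv F)⁻¹) * (zv F * n * (zv F)⁻¹)⁻¹ := by group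
      _ = n * xGL cG 7 1 * n⁻¹ := by
        rw [hz]
        unfold zv
        rw [torGL_conj _ _ 7 (by decide), chi_z_7, one_mul]
  unfold zv at hc
  rw [torGL_conj _ _ s h1] at hc
  have hchi := xGL_inj s h1 _ _ hc
  have hchi1 : chi (-1 : Fˣ) 1 s = 1 := by
    have ha1 : a * 1 ≠ 0 := by rw [mul_one]; exact ha
    have : (chi (-1 : Fˣ) 1 s - 1) * (a * 1) = 0 := by linear_combination hchi
    rcases mul_eq_zero.mp this with h' | h'
    · linear_combination h'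
    · exact absurd h' ha1
  have hs4 := chi_z_cases h2 s h1 hchi1
  have hmem : (tbl (rho (⟨n, hn⟩ : ↥(chevG2.monomialSubgroup F)))).getD 7 0 ∈ [0, 4, 7, 11] := by
    rw [tbl_getD_7, hπ]
    rcases hs4 with h | h | h | h <;> rw [h] <;> decide
  rcases Wl_stab _ htbl hmem with h | h | h | h
  · have h' : rho (⟨n, hn⟩ : ↥(chevG2.monomialSubgroup F)) = 1 := by
      apply tbl_injective
      rw [h, tbl_one]
    exact diag_le_MGL (mem_diag_of_rho _ h')
  · have h' : rho (⟨n, hn⟩ : ↥(chevG2.monomialSubgroup F)) = rho (nN (F := F) 0 (by decide)) := by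
      apply tbl_injective
      rw [h, rho_nN, tbl_s0]
    exact mem_MGL_of_rho_eq ⟨n, hn⟩ _ h' nN0_mem_MGL
  · have h' : rho (⟨n, hn⟩ : ↥(chevG2.monomialSubgroup F)) = rho (nr11N (F := F)) := by
      apply tbl_injective
      rw [h]
      unfold nr11N
      simp only [map_mul, map_inv, rho_nN]
      exact tbl_w11.symm
    exact mem_MGL_of_rho_eq ⟨n, hn⟩ _ h' nr11N_mem_MGL
  · have h' : rho (⟨n, hn⟩ : ↥(chevG2.monomialSubgroup F)) = rho (t0N (F := F)) := by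
      apply tbl_injective
      rw [h]
      unfold t0N
      simp only [map_mul, map_inv, rho_nN]
      exact tbl_neg.symm
    exact mem_MGL_of_rho_eq ⟨n, hn⟩ _ h' t0N_mem_MGL

/-! ### the centralizer of `z` -/

theorem diag_comm (h h' : GL chevG2.Idx F) (hh : h ∈ chevG2.diagonalSubgroup F)
    (hh' : h' ∈ chevG2.diagonalSubgroup F) : h * h' = h' * h := by
  obtain ⟨a, b, rfl⟩ := exists_torGL_of_mem h hh
  obtain ⟨a', b', rfl⟩ := exists_torGL_of_mem h' hh'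
  exact torGL_comm a b a' b'

theorem cent_le (h2 : (2 : F) ≠ 0) (g : GG F) (hg : g * (pairG2 F).z = (pairG2 F).z * g) :
    g ∈ (pairG2 F).M := by
  apply mem_M_of_MGL
  have hzv : zv F * (g : GL chevG2.Idx F) * (zv F)⁻¹ = (g : GL chevG2.Idx F) := by
    rw [z_eq] at hg
    have h1 : (g : GL chevG2.Idx F) * torGL (-1 : Fˣ) 1 = torGL (-1 : Fˣ) 1 * (g : GL chevG2.Idx F) :=
      congrArg Subtype.val hg
    unfold zv
    rw [mul_inv_eq_iff_eq_mul]
    exact h1.symm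
  obtain ⟨b, hb, n, hn, u, hu, e⟩ := canonical_exists cG tG aG gG dG r2G (g : GL chevG2.Idx F) g.2
  have hzH : zv F ∈ chevG2.diagonalSubgroup F := torGL_mem _ _
  obtain ⟨h'', hdef⟩ : ∃ h'' : GL chevG2.Idx F, h'' = zv F * n * (zv F)⁻¹ * n⁻¹ := ⟨_, rfl⟩
  have hh'' : h'' ∈ chevG2.diagonalSubgroup F := by
    have hzN : (zv F)⁻¹ ∈ chevG2.monomialSubgroup F := diagonal_le_monomial (Subgroup.inv_mem _ hzH)
    have hρ : rho ((⟨n, hn⟩ : ↥(chevG2.monomialSubgroup F)) * ⟨(zv F)⁻¹, hzN⟩ *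
        (⟨n, hn⟩ : ↥(chevG2.monomialSubgroup F))⁻¹) = 1 := by
      rw [map_mul, map_mul, map_inv, rho_of_mem_diag ⟨(zv F)⁻¹, hzN⟩ (Subgroup.inv_mem _ hzH), mul_one,
        mul_inv_cancel]
    have h1 : n * (zv F)⁻¹ * n⁻¹ ∈ chevG2.diagonalSubgroup F := mem_diag_of_rho _ hρ
    have e1 : h'' = zv F * (n * (zv F)⁻¹ * n⁻¹) := by rw [hdef]; group
    rw [e1]
    exact Subgroup.mul_mem _ hzH h1
  have hzB : zv F ∈ chevG2.borelSubgroup F := Subgroup.mem_sup_right hzH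
  have hb' : zv F * b * (zv F)⁻¹ * h'' ∈ chevG2.borelSubgroup F :=
    mul_mem (mul_mem (mul_mem hzB hb) (inv_mem hzB)) (Subgroup.mem_sup_right hh'')
  have hu' : zv F * u * (zv F)⁻¹ ∈ Subgroup.closure (flipGens chevG2 F n) := by
    apply conj_closure_le (zv F) _ _ _ u hu
    rintro s ⟨r, t, hr, hflip, hs⟩
    rw [eq_xGL cG hs]
    unfold zv
    rw [torGL_conj _ _ r hr.1]
    exact Subgroup.subset_closure ⟨r, _, hr, hflip, rfl⟩
  have e' : b * n * u = zv F * b * (zv F)⁻¹ * h'' * n * (zv F * u * (zv F)⁻¹) := by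
    have : zv F * b * (zv F)⁻¹ * h'' * n * (zv F * u * (zv F)⁻¹) = zv F * (b * n * u) * (zv F)⁻¹ := by
      rw [hdef]; group
    rw [this, ← e, hzv]
  obtain ⟨-, huniq⟩ := canonical_unique cG tG aG gG r2G b _ n n u _ hb hb' hn hn hu hu' e'
  obtain ⟨eb, eu⟩ := huniq rfl
  have huM : u ∈ MGL F := cent_pos h2 u (flipGens_le_pos n hu) eu.symm
  obtain ⟨ub, hub, hb0, hhb0, rfl⟩ := exists_mul_of_mem_sup _ _ (diagonal_le_normalizer_pos cG tG) hb
  have hcomm : zv F * hb0 * (zv F)⁻¹ = hb0 := by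
    rw [diag_comm _ _ hzH hhb0]; group
  have hubz : zv F * ub * (zv F)⁻¹ ∈ chevG2.posUnipotent F :=
    (Subgroup.mem_normalizer_iff.mp (diagonal_le_normalizer_pos cG tG hzH) ub).mp hub
  have hy : (zv F * ub * (zv F)⁻¹)⁻¹ * ub = hb0 * h'' * hb0⁻¹ := by
    have h3 : zv F * (ub * hb0) * (zv F)⁻¹ * h'' =
        (zv F * ub * (zv F)⁻¹) * (zv F * hb0 * (zv F)⁻¹) * h'' := by group
    rw [h3, hcomm] at eb
    calc (zv F * ub * (zv F)⁻¹)⁻¹ * ub = (zv F * ub * (zv F)⁻¹)⁻¹ * (ub * hb0) * hb0⁻¹ := by group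
      _ = (zv F * ub * (zv F)⁻¹)⁻¹ * ((zv F * ub * (zv F)⁻¹) * hb0 * h'') * hb0⁻¹ := by rw [← eb]
      _ = hb0 * h'' * hb0⁻¹ := by group
  have hy1 : (zv F * ub * (zv F)⁻¹)⁻¹ * ub = 1 := by
    have hmem : (zv F * ub * (zv F)⁻¹)⁻¹ * ub ∈ chevG2.posUnipotent F ⊓ chevG2.diagonalSubgroup F := by
      refine Subgroup.mem_inf.mpr ⟨mul_mem (inv_mem hubz) hub, ?_⟩
      rw [hy]
      exact mul_mem (mul_mem hhb0 hh'') (inv_mem hhb0)
    rw [pos_inf_diagonal cG tG gG, Subgroup.mem_bot] at hmem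
    exact hmem
  have hub_fix : zv F * ub * (zv F)⁻¹ = ub := by
    rw [inv_mul_eq_one] at hy1
    exact hy1
  have hh''1 : h'' = 1 := by
    rw [hy1] at hy
    have h4 : h'' = hb0⁻¹ * (hb0 * h'' * hb0⁻¹) * hb0 := by group
    rw [h4, ← hy]; group
  have hn_fix : zv F * n * (zv F)⁻¹ = n := by
    have h5 : zv F * n * (zv F)⁻¹ = h'' * n := by rw [hdef]; group
    rw [h5, hh''1, one_mul]
  have hubM := cent_pos h2 ub hub hub_fix
  have hnM := cent_mono h2 n hn hn_fix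
  rw [e]
  exact mul_mem (mul_mem (mul_mem hubM (diag_le_MGL hhb0)) hnM) huM

/-- the centralizer of `z` is `M` -/
theorem centralizer_z (h2 : (2 : F) ≠ 0) :
    Subgroup.centralizer ({(pairG2 F).z} : Set (GG F)) = (pairG2 F).M := by
  apply le_antisymm
  · intro g hg
    rw [Subgroup.mem_centralizer_iff] at hg
    exact cent_le h2 g (hg _ (Set.mem_singleton _)).symm
  · exact (pairG2 F).M_le_centralizer

/-- the structure of the centralizer of an involution of `G₂(q)`, `q` odd -/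
theorem cent_invol [Fintype F] (hF : Odd (Fintype.card F)) (t : GG F) (ht : orderOf t = 2) :
    Nat.card (Subgroup.centralizer ({t} : Set (GG F))) = Fintype.card F ^ 2 * (Fintype.card F ^ 2 - 1) ^ 2 ∧
      ∃ L₁ L₂ : Subgroup (GG F), Nonempty (L₁ ≃* Matrix.SpecialLinearGroup (Fin 2) F) ∧
        Nonempty (L₂ ≃* Matrix.SpecialLinearGroup (Fin 2) F) ∧
        (∀ x ∈ L₁, ∀ y ∈ L₂, x * y = y * x) ∧ L₁ ⊓ L₂ = Subgroup.zpowers t ∧
        L₁ ⊔ L₂ ≤ Subgroup.centralizer ({t} : Set (GG F)) ∧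
        (L₁ ⊔ L₂).relIndex (Subgroup.centralizer ({t} : Set (GG F))) = 2 := by
  classical
  have h2 := two_ne_zero_of_odd hF
  obtain ⟨c, hc⟩ := isConj_iff.mp (isConj_z hF t ht).symm
  have hz : ((pairG2 F).conjP c).z = t := hc
  have hC := (pairG2 F).conjP_centralizer c (centralizer_z h2)
  have := ((pairG2 F).conjP c).cent_structure h2 hC
  rw [hz, Cfsg.Agent.Lib.Helper5_PSLCard.card_SL_two, mul_pow] at this
  exact this

end Cfsg.Agent.Lib.Helper46_G2Cent
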