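import Cfsg.Agent.Lib.Helper46_G2D4Order

set_option autoImplicit false
set_option linter.unusedSectionVars false
set_option maxRecDepth 100000

/-!
# Helper46_G2D4Fix

Every element of the Chevalley group of type `D₄` over a finite field fixed by the triality graph automorphism lies
in `G2in K` (the subgroup generated by the fixed fundamental root elements): by helper36's normal form of fixed
elements, applied to the subgroup of all fixed elements.
-/

namespace Cfsg.Agent.Lib.Helper46_G2D4Fix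

open Cfsg Cfsg.Lie Cfsg.Agent.Lib.Helper36_ChevTorus Cfsg.Agent.Lib.Helper36_ChevTorusAll
  Cfsg.Agent.Lib.Helper36_ChevW0 Cfsg.Agent.Lib.Helper36_ChevW0All Cfsg.Agent.Lib.Helper36_ChevTables
  Cfsg.Agent.Lib.Helper36_ChevOrder Cfsg.Agent.Lib.Helper36_ChevOrderAll Cfsg.Agent.Lib.Helper36_WeylChain
  Cfsg.Agent.Lib.Helper36_WeylLit Cfsg.Agent.Lib.Helper36_WeylLit.RootLit
  Cfsg.Agent.Lib.Helper36_TwistU Cfsg.Agent.Lib.Helper36_TwistW Cfsg.Agent.Lib.Helper36_TwistWeyl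
  Cfsg.Agent.Lib.Helper36_TwistOrder Cfsg.Agent.Lib.Helper36_TwistTabD4 Cfsg.Agent.Lib.Helper36_TwistD4
  Cfsg.Agent.Lib.Helper36_TwistWeylD4 Cfsg.Agent.Lib.Helper36_ChevDataD4Lit Cfsg.Agent.Lib.Helper36_ChevDataD4LitOK
  Cfsg.Agent.Lib.Helper36_TwistOrderD4 Cfsg.Agent.Lib.Helper36_TwistWeylHomD4
  Cfsg.Agent.Lib.Helper46_G2D4Twist Cfsg.Agent.Lib.Helper46_G2D4H Cfsg.Agent.Lib.Helper46_TwistCount
  Cfsg.Agent.Lib.Helper46_G2D4Order

variable {K : Type*} [Field K] [Fintype K]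

/-- The subgroup of all elements of the Chevalley group of type `D₄` fixed by the triality. -/
noncomputable def Gfix (K : Type*) [Field K] : Subgroup (GL chevD4.Idx K) :=
  chevD4.group K ⊓ (sg K).eqLocus (MonoidHom.id _)

theorem mem_Gfix (g : GL chevD4.Idx K) : g ∈ Gfix K ↔ g ∈ chevD4.group K ∧ sg K g = g := Iff.rfl

/-- The hypotheses of the descent for the subgroup of all fixed elements. -/
theorem twDataFix : TwData (facts_of_mem chevD4 hD K) lit wf (certs (K := K)) (σ := sg K) (pi := pi) (eps := eps)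
    (f := fid K) piPerm Cfsg.Agent.Lib.Helper36_TwistWeylD4.rho W1 (Gfix K) where
  T := (Cfsg.Agent.Lib.Helper46_G2D4Order.twData (K := K)).T
  piok := (Cfsg.Agent.Lib.Helper46_G2D4Order.twData (K := K)).piok
  eps1 := (Cfsg.Agent.Lib.Helper46_G2D4Order.twData (K := K)).eps1
  fsurj := (Cfsg.Agent.Lib.Helper46_G2D4Order.twData (K := K)).fsurj
  sH := (Cfsg.Agent.Lib.Helper46_G2D4Order.twData (K := K)).sH
  sN := (Cfsg.Agent.Lib.Helper46_G2D4Order.twData (K := K)).sN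
  G1fix := fun g hg => hg.2
  G1le := inf_le_left
  Ufix := fun g hg h => ⟨Cfsg.Agent.Lib.Helper18_ChevGL.posUnipotent_le_group dc hg, h⟩
  Hfix := fun g hg h => ⟨Cfsg.Agent.Lib.Helper18_ChevGL.diagonal_le_group dc hg, h⟩
  W1le := (Cfsg.Agent.Lib.Helper46_G2D4Order.twData (K := K)).W1le
  W1comm := (Cfsg.Agent.Lib.Helper46_G2D4Order.twData (K := K)).W1comm
  W1fix := (Cfsg.Agent.Lib.Helper46_G2D4Order.twData (K := K)).W1fix
  W1rep := fun x hx => by
    obtain ⟨m, hm, hmG, hact⟩ := (Cfsg.Agent.Lib.Helper46_G2D4Order.twData (K := K)).W1rep x hx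
    exact ⟨m, hm, ⟨(Cfsg.Agent.Lib.Helper46_G2D4Order.twData (K := K)).G1le hmG, (Cfsg.Agent.Lib.Helper46_G2D4Order.twData (K := K)).G1fix m hmG⟩, hact⟩

/-- Every fixed element lies in `G2in`. -/
theorem Gfix_le : Gfix K ≤ G2in K := by
  intro g hg
  have h1036 := Cfsg.Agent.S1036.result (F := K) chevD4 hD
  have h1100 := Cfsg.Agent.S1100.result (F := K) chevD4 hD
  obtain ⟨x, hx, hnf⟩ := exists_normal_form (facts_of_mem chevD4 hD K) (twDataFix (K := K)) litOK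
    (chainOK_of_mem chevD4 hD) (allConj_of_mem chevD4 hD K) (nGen_of_mem chevD4 hD) (xInj_of_mem chevD4 hD)
    (fun r hr a h => (Cfsg.Agent.S1024.result chevD4 hD r hr a).mp h)
    (Cfsg.Agent.S1037.result chevD4 hD).1 (normalizer_pos chevD4 hD noZero) (Cfsg.Agent.S1040.result chevD4 hD).2
    h1100.1 h1100.2 h1036.1 h1036.2 g hg
  obtain ⟨m, hm, hmG, hact⟩ := (Cfsg.Agent.Lib.Helper46_G2D4Order.twData (K := K)).W1rep x hx
  obtain ⟨u0, hu0, h0, hh0, u, hu, rfl⟩ :=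
    hnf m hm ⟨(Cfsg.Agent.Lib.Helper46_G2D4Order.twData (K := K)).G1le hmG, (Cfsg.Agent.Lib.Helper46_G2D4Order.twData (K := K)).G1fix m hmG⟩ hact
  have h1 : u0 ∈ G2in K := (Cfsg.Agent.Lib.Helper46_G2D4Order.twData (K := K)).Ufix u0 hu0.1 hu0.2.2
  have h2 : h0 ∈ G2in K := (Cfsg.Agent.Lib.Helper46_G2D4Order.twData (K := K)).Hfix h0 hh0.1 hh0.2.2
  have h3 : u ∈ G2in K := (Cfsg.Agent.Lib.Helper46_G2D4Order.twData (K := K)).Ufix u (Um_le_pos chevD4 K m hu.1) hu.2.2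
  exact mul_mem (mul_mem (mul_mem h1 h2) hmG) h3

/-- The fixed elements are exactly `G2in`. -/
theorem Gfix_eq : Gfix K = G2in K :=
  le_antisymm Gfix_le (fun g hg => ⟨(Cfsg.Agent.Lib.Helper46_G2D4Order.twData (K := K)).G1le hg, (Cfsg.Agent.Lib.Helper46_G2D4Order.twData (K := K)).G1fix g hg⟩)

end Cfsg.Agent.Lib.Helper46_G2D4Fix
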