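import Cfsg.Agent.Lib.Helper36_TwistD4

set_option autoImplicit false

/-!
# Helper46_G2D4Twist

The subgroup `G2in K = twistedD4 K 1` of the Chevalley group of type `D₄` over any field `K`: it is generated by
`x_{±p₂}(t)` and `x_{±p₁}(t) x_{±p₃}(t) x_{±p₄}(t)`.  This is helper36's twisted group for the trivial field
automorphism (`f = id`, `q = 1`): it is fixed by the graph automorphism `sig (RingHom.id K)`, and it contains all
fixed elements of `U`.
-/

namespace Cfsg.Agent.Lib.Helper46_G2D4Twist

open Cfsg Cfsg.Lie Cfsg.Agent.Lib.Helper18_ChevFast Cfsg.Agent.Lib.Helper18_ChevEngine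
  Cfsg.Agent.Lib.Helper18_ChevN Cfsg.Agent.Lib.Helper18_ChevWeyl
  Cfsg.Agent.Lib.Helper18_ChevGL Cfsg.Agent.Lib.Helper18_ChevTri
  Cfsg.Agent.Lib.Helper18_ChevAdd Cfsg.Agent.Lib.Helper18_ChevUni
  Cfsg.Agent.Lib.Helper36_TwistU Cfsg.Agent.Lib.Helper36_TwistW Cfsg.Agent.Lib.Helper36_TwistS
  Cfsg.Agent.Lib.Helper36_TwistTabD4 Cfsg.Agent.Lib.Helper36_ChevDataD4AutA
  Cfsg.Agent.Lib.Helper36_TwistD4

variable {K : Type*} [Field K] [Fintype K]

/-- The copy of `G₂(K)` inside `D₄(K)`. -/
abbrev G2in (K : Type*) [Field K] : Subgroup (GL chevD4.Idx K) := twistedD4 K 1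

/-- The trivial field automorphism. -/
abbrev fid (K : Type*) [Field K] : K →+* K := RingHom.id K

theorem hfid : ∀ x : K, fid K x = x ^ 1 := fun x => by simp

/-- The graph automorphism, as an endomorphism of the general linear group. -/
noncomputable abbrev sg (K : Type*) [Field K] : GL chevD4.Idx K →* GL chevD4.Idx K := sig (fid K)

theorem closes_all (p : ℕ × ℕ) (he : epsProd pi eps p.2 p.1 = 1) (x : K) : Closes pi eps (fid K) p x := by
  rw [closes_iff p he]
  exact Function.iterate_fixed rfl _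

theorem closes_gen (p : ℕ × ℕ) (hp : p ∈ gens) (x : K) : Closes pi eps (fid K) p x :=
  closes_all p (gensOK p hp).2.2.2.2.2.1 x

theorem closes_cls (p : ℕ × ℕ) (hp : p ∈ cls) (x : K) : Closes pi eps (fid K) p x :=
  closes_all p (classesOK p hp).2.2.2.2.2.1 x

/-- The elements of the fundamental orbits lie in `G2in`. -/
theorem gen_mem (p : ℕ × ℕ) (hp : p ∈ gens) (x : K) : yS dc pi eps (fid K) p x ∈ G2in K := by
  have hp' := hp
  simp only [gens, List.mem_cons, List.not_mem_nil, or_false] at hp'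
  rcases hp' with rfl | rfl | rfl | rfl
  · rw [yS_single]
    exact single_mem 14 (by simp [d4p2]) x (pow_one x)
  · rw [yS_triple (fid K) 18 13 12 pi18]
    exact triple_mem (fid K) hfid (d4p1, d4p3, d4p4) (by simp) x
  · rw [yS_triple (fid K) 5 10 11 pi5]
    exact triple_mem (fid K) hfid (d4m1, d4m3, d4m4) (by simp) x
  · rw [yS_single]
    exact single_mem 9 (by simp [d4m2]) x (pow_one x)

/-- `G2in` is fixed by the graph automorphism. -/
theorem fixed (g : GL chevD4.Idx K) (hg : g ∈ G2in K) : sg K g = g := by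
  have hle : G2in K ≤ (sg K).eqLocus (MonoidHom.id _) := by
    unfold G2in twistedD4 ChevalleyDatum.genSubgroup
    rw [Subgroup.closure_le]
    rintro g ⟨wd, hwd, hg⟩
    rw [eq_wordGL dc hg]
    show sg K (wordGL dc wd) = wordGL dc wd
    rcases hwd with ⟨t, -, r, hr, rfl⟩ | ⟨t, rs, hrs, rfl⟩
    · simp only [List.mem_cons, List.not_mem_nil, or_false] at hr
      have key : ∀ r' : ℕ, (r', 1) ∈ gens → r = r' → sg K (wordGL dc [(r, t)]) = wordGL dc [(r, t)] := by
        rintro r' hmem rfl
        rw [← yS_single (fid K)]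
        exact orb_fixed certs (twist (fid K)) _ (orbOK _ hmem) t (closes_gen _ hmem t)
      rcases hr with h | h
      · exact key 14 (by decide) h
      · exact key 9 (by decide) h
    · simp only [List.mem_cons, List.not_mem_nil, or_false] at hrs
      have key : ∀ r r' r'' : ℕ, (r, 3) ∈ gens → (pi r = r' ∧ eps r = 1 ∧ pi r' = r'' ∧ eps r' = 1) →
          rs = (r, r', r'') →
          sg K (wordGL dc [(rs.1, t), (rs.2.1, t ^ 1), (rs.2.2, t ^ (1 ^ 2))]) =
            wordGL dc [(rs.1, t), (rs.2.1, t ^ 1), (rs.2.2, t ^ (1 ^ 2))] := by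
        rintro r r' r'' hmem hpi rfl
        have e1 : t ^ 1 = fid K t := by simp
        have e2 : t ^ (1 ^ 2) = fid K (fid K t) := by simp
        rw [e2, e1, ← yS_triple (fid K) r r' r'' hpi]
        exact orb_fixed certs (twist (fid K)) _ (orbOK _ hmem) t (closes_gen _ hmem t)
      rcases hrs with h | h
      · exact key 18 13 12 (by decide) pi18 h
      · exact key 5 10 11 (by decide) pi5 h
  exact hle hg

/-- The elements `n_J` of the orbits of the nodes lie in `G2in`. -/
theorem nJ_mem' (J : List ℕ) (hJ : J ∈ Js) : nJ dc K J ∈ G2in K :=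
  nJ_mem (fid K) hfid J hJ

/-- The elements of all classes of positive roots lie in `G2in`. -/
theorem class_mem (p : ℕ × ℕ) (hp : p ∈ cls) (x : K) (hx : Closes pi eps (fid K) p x) :
    yS dc pi eps (fid K) p x ∈ G2in K := by
  have hgood := chain_good (σ := sg K) certs (G2in K) fixed Js
    (fun J hJ => ⟨JsOK J hJ, nJ_mem' J hJ⟩) steps (baseCls.map fun p => orbRoots pi p.2 p.1) stepsOK
    (by
      intro S hS
      rw [List.mem_map] at hS
      obtain ⟨b, hb, rfl⟩ := hS
      obtain ⟨hb1, hb2⟩ := baseOK b hb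
      exact good_base certs (twist (fid K)) _ b (classOK b hb1) (fun x _ => gen_mem b hb2 x))
    chainOK _ (reachOK p hp)
  exact yS_mem_of_good certs (twist (fid K)) _ p (classOK p hp) hgood x hx

/-- `|U ∩ G2in| = q ^ 6`. -/
theorem card_U : Nat.card ↥(chevD4.posUnipotent K ⊓ G2in K) = Fintype.card K ^ 6 := by
  rw [main certs (twist (fid K)) clsOK (G2in K) fixed class_mem]
  have h1 : (cls.map fun p => Nat.card {x : K // Closes pi eps (fid K) p x}) = cls.map fun _ => Fintype.card K := by
    apply List.map_congr_left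
    intro p hp
    rw [← Nat.card_eq_fintype_card]
    exact Nat.card_congr (Equiv.subtypeUnivEquiv (closes_cls p hp))
  rw [h1]
  simp [cls]
  ring

end Cfsg.Agent.Lib.Helper46_G2D4Twist
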