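import Cfsg.Agent.Lib.Helper36_TwistHD4
import Cfsg.Agent.Lib.Helper46_G2D4Twist

set_option autoImplicit false
set_option linter.unusedSimpArgs false
set_option linter.unusedSectionVars false

/-!
# Helper46_G2D4H

The diagonal part of `G2in K = twistedD4 K 1`: every diagonal element of `D₄(K)` fixed by the graph automorphism
lies in `G2in K`, and `|H ∩ G2in| = (q - 1) ^ 2`.
-/

namespace Cfsg.Agent.Lib.Helper46_G2D4H

open Cfsg Cfsg.Lie Cfsg.Agent.Lib.Helper18_ChevFast Cfsg.Agent.Lib.Helper18_ChevEngine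
  Cfsg.Agent.Lib.Helper18_ChevN Cfsg.Agent.Lib.Helper18_ChevWeyl
  Cfsg.Agent.Lib.Helper18_ChevGL Cfsg.Agent.Lib.Helper18_ChevTri
  Cfsg.Agent.Lib.Helper18_ChevAdd Cfsg.Agent.Lib.Helper18_ChevUni Cfsg.Agent.Lib.Helper18_ChevBN
  Cfsg.Agent.Lib.Helper36_TwistU Cfsg.Agent.Lib.Helper36_TwistW Cfsg.Agent.Lib.Helper36_TwistH
  Cfsg.Agent.Lib.Helper36_TwistTabD4 Cfsg.Agent.Lib.Helper36_TwistD4
  Cfsg.Agent.Lib.Helper36_ChevTorus Cfsg.Agent.Lib.Helper36_ChevHOrder
  Cfsg.Agent.Lib.Helper36_TwistHD4 Cfsg.Agent.Lib.Helper46_G2D4Twist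

variable {K : Type*} [Field K] [Fintype K]

theorem map_fid (t : Kˣ) : Units.map ((fid K : K →+* K) : K →* K) t = t := Units.ext rfl

theorem tau_tau_tau (u : Fin chevD4.rank → Kˣ) :
    tau chevD4 K rho (fid K) (tau chevD4 K rho (fid K) (tau chevD4 K rho (fid K) u)) = u := by
  have h3 : ∀ j : Fin chevD4.rank, rho.symm (rho.symm (rho.symm j)) = j := by decide +kernel
  funext k
  rw [tau_apply, tau_apply, tau_apply, h3, map_fid, map_fid, map_fid]

theorem lift (u : Fin chevD4.rank → Kˣ)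
    (hu : u * (tau chevD4 K rho (fid K) u)⁻¹ ∈ (torusHom chevD4 K).ker) :
    ∃ z ∈ (torusHom chevD4 K).ker, tau chevD4 K rho (fid K) (u * z) = u * z :=
  fix_lift3 (tau chevD4 K rho (fid K)) (torusHom chevD4 K).ker
    (tau_ker certs (twist (fid K)) (Helper36_ChevDataD4T.facts K) rho nodes) tau_tau_tau
    (fun z hz => ker_exponent (Helper36_ChevDataD4T.facts K) Helper36_ChevDataD4HO.rootInd matB 2 matB_spec z hz) u hu

/-- The diagonal elements with fixed parameters lie in `G2in`. -/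
theorem mem_of_fixed' (u : Fin chevD4.rank → Kˣ) (hu : tau chevD4 K rho (fid K) u = u) :
    torusHom chevD4 K u ∈ G2in K :=
  mem_of_fixed (fid K) hfid u hu

theorem card_diag_aux :
    Nat.card {u : Fin chevD4.rank → Kˣ // tau chevD4 K rho (fid K) u = u ∧ u ∈ (torusHom chevD4 K).ker} *
      Nat.card ↥(chevD4.diagonalSubgroup K ⊓ G2in K) =
      Nat.card {u : Fin chevD4.rank → Kˣ // tau chevD4 K rho (fid K) u = u} :=
  card_fixed_diag certs (twist (fid K)) (Helper36_ChevDataD4T.facts K) rho nodes lift (G2in K) fixed mem_of_fixed'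

theorem tau_vec (a c : Kˣ) : tau chevD4 K rho (fid K) (vec a c a a) = vec a c a a := by
  obtain ⟨r0, r1, r2, r3⟩ := rho_vals
  funext k
  revert k
  apply forall4
  · rw [tau_apply, r0, vec_n3, vec_n0, map_fid]
  · rw [tau_apply, r1, vec_n1, map_fid]
  · rw [tau_apply, r2, vec_n0, vec_n2, map_fid]
  · rw [tau_apply, r3, vec_n2, vec_n3, map_fid]

theorem fixed_shape (u : Fin chevD4.rank → Kˣ) (hu : tau chevD4 K rho (fid K) u = u) :
    u n2 = u n0 ∧ u n3 = u n0 := by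
  obtain ⟨r0, r1, r2, r3⟩ := rho_vals
  have h2 : u n0 = u n2 := by
    have := congrFun hu n2
    rwa [tau_apply, r2, map_fid] at this
  have h3 : u n2 = u n3 := by
    have := congrFun hu n3
    rwa [tau_apply, r3, map_fid] at this
  exact ⟨h2.symm, by rw [← h3, ← h2]⟩

/-- The number of fixed parameters. -/
theorem card_T1 :
    Nat.card {u : Fin chevD4.rank → Kˣ // tau chevD4 K rho (fid K) u = u} = (Fintype.card K - 1) ^ 2 := by
  have hU : Nat.card Kˣ = Fintype.card K - 1 := by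
    classical
    rw [Nat.card_eq_fintype_card, Fintype.card_units]
  let e : {u : Fin chevD4.rank → Kˣ // tau chevD4 K rho (fid K) u = u} ≃ Kˣ × Kˣ :=
    { toFun := fun u => (u.1 n0, u.1 n1)
      invFun := fun p => ⟨vec p.1 p.2 p.1 p.1, tau_vec _ _⟩
      left_inv := fun u => by
        apply Subtype.ext
        show vec (u.1 n0) (u.1 n1) (u.1 n0) (u.1 n0) = u.1
        obtain ⟨h2, h3⟩ := fixed_shape u.1 u.2
        conv_rhs => rw [vec_eta u.1, h2, h3]
      right_inv := fun p => rfl }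
  rw [Nat.card_congr e, Nat.card_prod, hU]
  ring

/-- The fixed parameters in the kernel are trivial. -/
theorem card_Z1 :
    Nat.card {u : Fin chevD4.rank → Kˣ // tau chevD4 K rho (fid K) u = u ∧ u ∈ (torusHom chevD4 K).ker} = 1 := by
  have hker := mem_ker_torusHom chevD4 K (Helper36_ChevDataD4T.facts K) Helper36_ChevDataD4HO.rootInd
  have key : ∀ u : Fin chevD4.rank → Kˣ, tau chevD4 K rho (fid K) u = u → u ∈ (torusHom chevD4 K).ker → u = 1 := by
    intro u hu hk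
    obtain ⟨h2, h3⟩ := fixed_shape u hu
    have hz := (hker u).mp hk
    rw [cartan_eq] at hz
    have k0 : u n0 ^ (2 : ℤ) * u n1 ^ (-1 : ℤ) * u n2 ^ (0 : ℤ) * u n3 ^ (0 : ℤ) = 1 :=
      (zact4' matC u n0).symm.trans (congrFun hz n0)
    have k1 : u n0 ^ (-1 : ℤ) * u n1 ^ (2 : ℤ) * u n2 ^ (-1 : ℤ) * u n3 ^ (-1 : ℤ) = 1 :=
      (zact4' matC u n1).symm.trans (congrFun hz n1)
    rw [h2, h3] at k0 k1
    -- `a² = b` and `b² = a³`, hence `a = 1`
    have e1 : u n1 = u n0 ^ (2 : ℤ) := by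
      rw [zpow_zero, mul_one, mul_one, zpow_neg, zpow_one, mul_inv_eq_one] at k0
      exact k0.symm
    rw [e1] at k1
    have e0 : u n0 = 1 := by
      have : u n0 ^ (-1 : ℤ) * (u n0 ^ (2 : ℤ)) ^ (2 : ℤ) * u n0 ^ (-1 : ℤ) * u n0 ^ (-1 : ℤ) = u n0 := by
        rw [← zpow_mul, ← zpow_add, ← zpow_add, ← zpow_add]
        norm_num
      rw [← this]
      exact k1
    have e1' : u n1 = 1 := by rw [e1, e0, one_zpow]
    rw [vec_eta u, h2, h3, e0, e1']
    funext k
    revert k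
    apply forall4 <;> rfl
  rw [Nat.card_eq_one_iff_unique]
  exact ⟨⟨fun a b => Subtype.ext ((key a.1 a.2.1 a.2.2).trans (key b.1 b.2.1 b.2.2).symm)⟩,
    ⟨⟨1, map_one _, Subgroup.one_mem _⟩⟩⟩

/-- `|H ∩ G2in| = (q - 1)^2`. -/
theorem card_diag : Nat.card ↥(chevD4.diagonalSubgroup K ⊓ G2in K) = (Fintype.card K - 1) ^ 2 := by
  have h := card_diag_aux (K := K)
  rw [card_Z1, one_mul, card_T1] at h
  exact h

end Cfsg.Agent.Lib.Helper46_G2D4H
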