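import Cfsg.Agent.Lib.Helper36_TwistOrderD4
import Cfsg.Agent.Lib.Helper36_TwistWeylHomD4
import Cfsg.Agent.Lib.Helper46_G2D4H
import Cfsg.Agent.Lib.Helper46_TwistCount

set_option autoImplicit false
set_option linter.unusedSectionVars false
set_option maxRecDepth 100000

/-!
# Helper46_G2D4Order

The hypotheses of helper36's descent of the normal form for `G2in K = twistedD4 K 1` (trivial field automorphism),
and the order `|G2in K| = q ^ 6 (q ^ 2 - 1) (q ^ 6 - 1)`.
-/

namespace Cfsg.Agent.Lib.Helper46_G2D4Order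

open Cfsg Cfsg.Lie Cfsg.Agent.Lib.Helper36_ChevTorus Cfsg.Agent.Lib.Helper36_ChevTorusAll
  Cfsg.Agent.Lib.Helper36_ChevW0 Cfsg.Agent.Lib.Helper36_ChevW0All Cfsg.Agent.Lib.Helper36_ChevTables
  Cfsg.Agent.Lib.Helper36_ChevOrder Cfsg.Agent.Lib.Helper36_ChevOrderAll Cfsg.Agent.Lib.Helper36_WeylChain
  Cfsg.Agent.Lib.Helper36_WeylLit Cfsg.Agent.Lib.Helper36_WeylLit.RootLit
  Cfsg.Agent.Lib.Helper36_TwistU Cfsg.Agent.Lib.Helper36_TwistW Cfsg.Agent.Lib.Helper36_TwistWeyl
  Cfsg.Agent.Lib.Helper36_TwistOrder Cfsg.Agent.Lib.Helper36_TwistTabD4 Cfsg.Agent.Lib.Helper36_TwistD4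
  Cfsg.Agent.Lib.Helper36_TwistWeylD4 Cfsg.Agent.Lib.Helper36_ChevDataD4Lit Cfsg.Agent.Lib.Helper36_ChevDataD4LitOK
  Cfsg.Agent.Lib.Helper36_TwistOrderD4 Cfsg.Agent.Lib.Helper36_TwistWeylHomD4
  Cfsg.Agent.Lib.Helper46_G2D4Twist Cfsg.Agent.Lib.Helper46_G2D4H Cfsg.Agent.Lib.Helper46_TwistCount

/-- The twisted Weyl group. -/
abbrev W1 : Subgroup (Equiv.Perm (Fin lit.n)) := lit'.W wf' (List.range 2)

section

variable {K : Type*} [Field K] [Fintype K]

/-- The hypotheses of the descent. -/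
theorem twData : TwData (facts_of_mem chevD4 hD K) lit wf (certs (K := K)) (σ := sg K) (pi := pi) (eps := eps)
    (f := fid K) piPerm Cfsg.Agent.Lib.Helper36_TwistWeylD4.rho W1 (G2in K) where
  T := twist (fid K)
  piok := piOK
  eps1 := epsOK
  fsurj := fun x => ⟨x, rfl⟩
  sH := sigma_diag (facts_of_mem chevD4 hD K) certs (twist (fid K)) Cfsg.Agent.Lib.Helper36_TwistHD4.rho
    Cfsg.Agent.Lib.Helper36_TwistHD4.nodes
  sN := sigma_mono (facts_of_mem chevD4 hD K) certs (twist (fid K)) Cfsg.Agent.Lib.Helper36_TwistHD4.rho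
    Cfsg.Agent.Lib.Helper36_TwistHD4.nodes (nGen_of_mem chevD4 hD)
  G1fix := fixed
  G1le := genSubgroup_le certs _
  Ufix := Ufix_of certs (twist (fid K)) clsOK (G2in K) class_mem
  Hfix := Hfix_of (facts_of_mem chevD4 hD K) certs (twist (fid K)) Cfsg.Agent.Lib.Helper36_TwistHD4.rho
    Cfsg.Agent.Lib.Helper36_TwistHD4.nodes (G2in K) lift mem_of_fixed'
  W1le := W1_le wf refl' 2 wf' Js JsOK'
  W1comm := W1_comm refl' 2 wf' piOK'
  W1fix := fun x hx hfix => fixed_mem piOK wf refl' 2 wf' _ _ fixChainOK x hx hfix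
  W1rep := W1rep_of (facts_of_mem chevD4 hD K) lit wf certs (allConj_of_mem chevD4 hD K) litOK refl' 2 wf' Js JsOK'
    (G2in K) (fun a ha => nJ_mem' _ (JsMem a ha))

end

/-! ### The twelve elements of the twisted Weyl group -/

/-- The alternating words. -/
def words : List (List ℕ) :=
  [[], [0], [1], [0, 1], [1, 0], [0, 1, 0], [1, 0, 1], [0, 1, 0, 1], [1, 0, 1, 0], [0, 1, 0, 1, 0],
    [1, 0, 1, 0, 1], [0, 1, 0, 1, 0, 1]]

/-- The lengths of the alternating words. -/
def lens : List ℕ := [0, 1, 1, 2, 2, 3, 3, 4, 4, 5, 5, 6]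

/-- The elements of the twisted Weyl group. -/
def elems (i : Fin 12) : Equiv.Perm (Fin lit.n) := lit'.wPerm wf' (words.getD i.val [])

theorem elems_mem (i : Fin 12) : elems i ∈ W1 := by
  apply wPerm_mem
  revert i
  decide

/-- The image of a root index, as a natural number. -/
def img (x : Equiv.Perm (Fin lit.n)) (s : ℕ) : ℕ := if h : s < lit.n then (x ⟨s, h⟩ : ℕ) else 0

/-- A computable form of the number of classes made negative. -/
def wtB (x : Equiv.Perm (Fin lit.n)) : ℕ :=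
  (cls.filter fun p => if h : p.1 < lit.n then !(lit.ps (x ⟨p.1, h⟩)) else false).length

open scoped Classical in
theorem wt_eq (x : Equiv.Perm (Fin lit.n)) : wt chevD4 lit cls x = wtB x := by
  unfold wt wtB
  congr 1
  apply List.filter_congr
  intro p hp
  have hpos : chevD4.IsPosRoot p.1 := (classOK p hp).pos _ (head_mem p (classOK p hp))
  have hlt : p.1 < lit.n := litOK.hn ▸ hpos.1
  rw [dif_pos hlt]
  cases hb : lit.ps (x ⟨p.1, hlt⟩)
  · simp only [Bool.not_false, decide_eq_true_eq]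
    exact ⟨hpos, hlt, hb⟩
  · simp only [Bool.not_true, decide_eq_false_iff_not]
    rintro ⟨-, h, hb'⟩
    rw [hb] at hb'
    exact Bool.noConfusion hb'

theorem wtB_elems : ∀ i : Fin 12, wtB (elems i) = lens.getD i.val 0 := by decide +kernel

theorem elems_injective : Function.Injective elems := by
  have h : ∀ i j : Fin 12, (∀ s < 24, img (elems i) s = img (elems j) s) → i = j := by decide +kernel
  intro i j e
  exact h i j (fun s _ => by rw [e])

/-- The twelve elements, as a bijection onto the twisted Weyl group. -/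
noncomputable def elemsEquiv : Fin 12 ≃ W1 := by
  refine Equiv.ofBijective (fun i => ⟨elems i, elems_mem i⟩) ?_
  apply Function.Injective.bijective_of_nat_card_le
  · intro i j e
    exact elems_injective (congrArg Subtype.val e)
  · rw [Nat.card_eq_fintype_card (α := Fin 12), Fintype.card_fin]
    exact le_of_eq card_W1

open scoped Classical in
/-- The sum of `q ^ wt x` over the twisted Weyl group. -/
theorem sum_wt [Fintype W1] (q : ℕ) :
    ∑ x : W1, q ^ wt chevD4 lit cls x.1 = 1 + 2 * q + 2 * q ^ 2 + 2 * q ^ 3 + 2 * q ^ 4 + 2 * q ^ 5 + q ^ 6 := by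
  rw [← Equiv.sum_comp elemsEquiv]
  have : ∀ i : Fin 12, q ^ wt chevD4 lit cls (elemsEquiv i).1 = q ^ lens.getD i.val 0 := by
    intro i
    show q ^ wt chevD4 lit cls (elems i) = _
    rw [wt_eq, wtB_elems]
  rw [Finset.sum_congr rfl (fun i _ => this i)]
  simp [Fin.sum_univ_succ, lens]
  ring

/-- `|G2in K| = q ^ 6 (q ^ 2 - 1) (q ^ 6 - 1)`. -/
theorem card_G2in {K : Type*} [Field K] [Fintype K] :
    Nat.card ↥(G2in K) = Fintype.card K ^ 6 * (Fintype.card K ^ 2 - 1) * (Fintype.card K ^ 6 - 1) := by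
  classical
  have hq1 : 1 ≤ Fintype.card K := Fintype.card_pos
  have h1036 := Cfsg.Agent.S1036.result (F := K) chevD4 hD
  have h1100 := Cfsg.Agent.S1100.result (F := K) chevD4 hD
  have hcard := card_twisted1 (facts_of_mem chevD4 hD K) (twData (K := K)) litOK (chainOK_of_mem chevD4 hD)
    (allConj_of_mem chevD4 hD K) (nGen_of_mem chevD4 hD) (xInj_of_mem chevD4 hD)
    (fun r hr a h => (Cfsg.Agent.S1024.result chevD4 hD r hr a).mp h)
    (Cfsg.Agent.S1037.result chevD4 hD).1 (normalizer_pos chevD4 hD noZero) (Cfsg.Agent.S1040.result chevD4 hD).2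
    h1100.1 h1100.2 h1036.1 h1036.2 clsOK hq1
    (fun p hp => by
      rw [← Nat.card_eq_fintype_card]
      exact Nat.card_congr (Equiv.subtypeUnivEquiv (closes_cls p hp)))
  rw [hcard, Cfsg.Agent.Lib.Helper46_G2D4Twist.card_U, Cfsg.Agent.Lib.Helper46_G2D4H.card_diag, sum_wt]
  generalize Fintype.card K = q at hq1 ⊢
  have hpow : ∀ k : ℕ, 1 ≤ q ^ k := fun k => Nat.one_le_pow _ _ hq1
  apply Nat.cast_injective (R := ℤ)
  simp only [Nat.cast_mul, Nat.cast_pow, Nat.cast_add, Nat.cast_one, Nat.cast_sub (hpow _), Nat.cast_sub hq1,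
    Nat.cast_ofNat]
  ring

end Cfsg.Agent.Lib.Helper46_G2D4Order
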