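import Cfsg.Agent.Lib.Helper46_PolySparse
import Cfsg.Agent.Lib.Helper46_G2D4Order
import Cfsg.Agent.Lib.Helper36_ChevDataG2
import Cfsg.Agent.Lib.Helper18_ChevDatumG2
import Cfsg.Agent.S1059

set_option autoImplicit false
set_option maxRecDepth 100000

/-!
# Helper46_G2D4Rho

The isomorphism `G2in K ≃* chevG2.group K` for a finite field `K`: the subgroup `G2in K` of the Chevalley group of type
`D₄` acts on the 14-dimensional space spanned by the (signed) orbit sums of the triality, and in the basis of the orbit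
sums its generators act as the fundamental root elements of the Chevalley group of type `G₂`.
-/

namespace Cfsg.Agent.Lib.Helper46_G2D4Rho

open Cfsg Cfsg.Lie Cfsg.Agent.Lib.Helper36_ChevSparse Cfsg.Agent.Lib.Helper36_ChevCoeff
  Cfsg.Agent.Lib.Helper46_PolySparse Cfsg.Agent.Lib.Helper46_G2D4Twist Cfsg.Agent.Lib.Helper18_ChevGL
  Cfsg.Agent.Lib.Helper36_ChevGen

/-- The signed orbit sums of the triality on the coordinates of type `D₄`, as columns indexed by the coordinates of
type `G₂`. -/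
def Esp : SMat := fun c =>
  [[(0, 1), (2, 1), (3, 1)], [(1, 1)], [(4, -1)], [(5, -1)], [(6, -1), (7, -1), (10, 1)], [(8, 1), (11, -1), (12, -1)],
    [(9, 1), (14, 1), (15, 1)], [(13, 1)], [(18, 1)], [(16, 1), (17, 1), (22, 1)], [(19, -1), (20, -1), (23, 1)],
    [(21, 1), (24, -1), (25, -1)], [(26, -1)], [(27, -1)]].getD c []

/-- A left inverse of the orbit sums. -/
def Epl : SMat := fun c =>
  [[(0, 1)], [(1, 1)], [], [], [(2, -1)], [(3, -1)], [(4, -1)], [], [(5, 1)], [(6, 1)], [], [], [], [(7, 1)], [], [],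
    [(9, 1)], [], [(8, 1)], [(10, -1)], [], [(11, 1)], [], [], [], [], [(12, -1)], [(13, -1)]].getD c []

/-- The certificate of the datum of type `G₂`. -/
theorem dcG : Cfsg.Agent.Lib.Helper18_ChevWeyl.DCert chevG2 Cfsg.Agent.Lib.Helper18_ChevDatumG2.Ns :=
  Cfsg.Agent.Lib.Helper18_ChevDatumG2.dcert

theorem chk_inv : matEq (dim chevG2) (mul (dim chevD4) Epl Esp) one = true := by decide +kernel

theorem chk_a : peq (dim chevG2)
    (pmul (dim chevD4) (xPoly chevD4 18) (pmul (dim chevD4) (xPoly chevD4 13) (pmul (dim chevD4) (xPoly chevD4 12) [Esp])))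
    (pmul (dim chevG2) [Esp] (xPoly chevG2 7)) = true := by decide +kernel

theorem chk_ma : peq (dim chevG2)
    (pmul (dim chevD4) (xPoly chevD4 5) (pmul (dim chevD4) (xPoly chevD4 10) (pmul (dim chevD4) (xPoly chevD4 11) [Esp])))
    (pmul (dim chevG2) [Esp] (xPoly chevG2 4)) = true := by decide +kernel

theorem chk_b : peq (dim chevG2) (pmul (dim chevD4) (xPoly chevD4 14) [Esp])
    (pmul (dim chevG2) [Esp] (xPoly chevG2 6)) = true := by decide +kernel

theorem chk_mb : peq (dim chevG2) (pmul (dim chevD4) (xPoly chevD4 9) [Esp])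
    (pmul (dim chevG2) [Esp] (xPoly chevG2 5)) = true := by decide +kernel

section

variable (K : Type*) [Field K]

/-- The orbit sums over `K`. -/
def EK : Matrix chevD4.Idx chevG2.Idx K := toMatK chevD4 chevG2 K Esp

/-- The left inverse over `K`. -/
def EplK : Matrix chevG2.Idx chevD4.Idx K := toMatK chevG2 chevD4 K Epl

theorem Epl_E : EplK K * EK K = 1 := by
  unfold EplK EK
  rw [← toMatK_mul, toMatK_eq_of_matEq chevG2 chevG2 K _ one chk_inv, toMatK_one]

variable {K}

theorem rel3 (a b c s : ℕ) (ha : a < chevD4.nroots) (hb : b < chevD4.nroots) (hc : c < chevD4.nroots)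
    (hs : s < chevG2.nroots)
    (h : peq (dim chevG2)
      (pmul (dim chevD4) (xPoly chevD4 a) (pmul (dim chevD4) (xPoly chevD4 b) (pmul (dim chevD4) (xPoly chevD4 c) [Esp])))
      (pmul (dim chevG2) [Esp] (xPoly chevG2 s)) = true) (t : K) :
    chevD4.wordMat K [(a, t), (b, t), (c, t)] * EK K = EK K * chevG2.x K s t := by
  have h' := evalP_eq_of_peq chevD4 chevG2 K t _ _ h
  rw [evalP_pmul chevD4 chevD4 chevG2, evalP_pmul chevD4 chevD4 chevG2, evalP_pmul chevD4 chevD4 chevG2,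
    evalP_pmul chevD4 chevG2 chevG2, evalP_const, evalP_xPoly' chevD4 K t Cfsg.Agent.Lib.Helper36_ChevDataD4.lenOK a ha,
    evalP_xPoly' chevD4 K t Cfsg.Agent.Lib.Helper36_ChevDataD4.lenOK b hb,
    evalP_xPoly' chevD4 K t Cfsg.Agent.Lib.Helper36_ChevDataD4.lenOK c hc,
    evalP_xPoly' chevG2 K t Cfsg.Agent.Lib.Helper36_ChevDataG2.lenOK s hs] at h'
  simp only [ChevalleyDatum.wordMat, List.map_cons, List.map_nil, List.prod_cons, List.prod_nil, mul_one, EK,
    Matrix.mul_assoc]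
  exact h'

theorem rel1 (a s : ℕ) (ha : a < chevD4.nroots) (hs : s < chevG2.nroots)
    (h : peq (dim chevG2) (pmul (dim chevD4) (xPoly chevD4 a) [Esp])
      (pmul (dim chevG2) [Esp] (xPoly chevG2 s)) = true) (t : K) :
    chevD4.wordMat K [(a, t)] * EK K = EK K * chevG2.x K s t := by
  have h' := evalP_eq_of_peq chevD4 chevG2 K t _ _ h
  rw [evalP_pmul chevD4 chevD4 chevG2, evalP_pmul chevD4 chevG2 chevG2, evalP_const,
    evalP_xPoly' chevD4 K t Cfsg.Agent.Lib.Helper36_ChevDataD4.lenOK a ha,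
    evalP_xPoly' chevG2 K t Cfsg.Agent.Lib.Helper36_ChevDataG2.lenOK s hs] at h'
  simp only [ChevalleyDatum.wordMat, List.map_cons, List.map_nil, List.prod_cons, List.prod_nil, mul_one, EK]
  exact h'

/-- The intertwining relation. -/
def Rel (g : GL chevD4.Idx K) (m : GL chevG2.Idx K) : Prop :=
  (g : Matrix chevD4.Idx chevD4.Idx K) * EK K = EK K * (m : Matrix chevG2.Idx chevG2.Idx K)

theorem rel_one : Rel (1 : GL chevD4.Idx K) 1 := by
  simp [Rel]

theorem rel_mul {g g' : GL chevD4.Idx K} {m m' : GL chevG2.Idx K} (h : Rel g m) (h' : Rel g' m') :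
    Rel (g * g') (m * m') := by
  unfold Rel at *
  rw [Units.val_mul, Units.val_mul, Matrix.mul_assoc, h', ← Matrix.mul_assoc, h, Matrix.mul_assoc]

theorem rel_inv {g : GL chevD4.Idx K} {m : GL chevG2.Idx K} (h : Rel g m) : Rel g⁻¹ m⁻¹ := by
  unfold Rel at *
  have h1 : ((g⁻¹ : GL chevD4.Idx K) : Matrix chevD4.Idx chevD4.Idx K) * EK K =
      ((g⁻¹ : GL chevD4.Idx K) : Matrix chevD4.Idx chevD4.Idx K) *
        (EK K * (m : Matrix chevG2.Idx chevG2.Idx K)) * ((m⁻¹ : GL chevG2.Idx K) : Matrix chevG2.Idx chevG2.Idx K) := by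
    rw [Matrix.mul_assoc, Matrix.mul_assoc, ← Units.val_mul, mul_inv_cancel, Units.val_one, Matrix.mul_one]
  rw [h1, ← h, ← Matrix.mul_assoc, ← Units.val_mul, inv_mul_cancel, Units.val_one, Matrix.one_mul]

theorem rel_unique {g : GL chevD4.Idx K} {m m' : GL chevG2.Idx K} (h : Rel g m) (h' : Rel g m') : m = m' := by
  apply Units.ext
  have h1 : EK K * (m : Matrix chevG2.Idx chevG2.Idx K) = EK K * (m' : Matrix chevG2.Idx chevG2.Idx K) :=
    h.symm.trans h'
  have h2 := congrArg (fun X => EplK K * X) h1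
  simpa only [← Matrix.mul_assoc, Epl_E, Matrix.one_mul] using h2

variable (K) in
/-- The elements of `GL₂₈(K)` acting on the span of the orbit sums as an element of `G₂(K)`. -/
def S : Subgroup (GL chevD4.Idx K) where
  carrier := {g | ∃ m ∈ chevG2.group K, Rel g m}
  mul_mem' := by
    rintro g g' ⟨m, hm, h⟩ ⟨m', hm', h'⟩
    exact ⟨m * m', mul_mem hm hm', rel_mul h h'⟩
  one_mem' := ⟨1, one_mem _, rel_one⟩
  inv_mem' := by
    rintro g ⟨m, hm, h⟩
    exact ⟨m⁻¹, inv_mem hm, rel_inv h⟩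

theorem rel_gen_b (g : GL chevD4.Idx K) (t : K)
    (hg : (g : Matrix chevD4.Idx chevD4.Idx K) = chevD4.wordMat K [(d4p2, t)]) : Rel g (xGL dcG 6 t) := by
  unfold Rel
  rw [hg]
  exact rel1 14 6 (by decide) (by decide) chk_b t

theorem rel_gen_mb (g : GL chevD4.Idx K) (t : K)
    (hg : (g : Matrix chevD4.Idx chevD4.Idx K) = chevD4.wordMat K [(d4m2, t)]) : Rel g (xGL dcG 5 t) := by
  unfold Rel
  rw [hg]
  exact rel1 9 5 (by decide) (by decide) chk_mb t

theorem rel_gen_a (g : GL chevD4.Idx K) (t : K)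
    (hg : (g : Matrix chevD4.Idx chevD4.Idx K) =
      chevD4.wordMat K [(d4p1, t), (d4p3, t ^ 1), (d4p4, t ^ 1 ^ 2)]) : Rel g (xGL dcG 7 t) := by
  unfold Rel
  rw [hg, one_pow, pow_one]
  exact rel3 18 13 12 7 (by decide) (by decide) (by decide) (by decide) chk_a t

theorem rel_gen_ma (g : GL chevD4.Idx K) (t : K)
    (hg : (g : Matrix chevD4.Idx chevD4.Idx K) =
      chevD4.wordMat K [(d4m1, t), (d4m3, t ^ 1), (d4m4, t ^ 1 ^ 2)]) : Rel g (xGL dcG 4 t) := by
  unfold Rel
  rw [hg, one_pow, pow_one]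
  exact rel3 5 10 11 4 (by decide) (by decide) (by decide) (by decide) chk_ma t

theorem G2in_le_S : G2in K ≤ S K := by
  unfold G2in twistedD4 ChevalleyDatum.genSubgroup
  rw [Subgroup.closure_le]
  rintro g ⟨wd, hwd, hg⟩
  rcases hwd with ⟨t, -, r, hr, rfl⟩ | ⟨t, rs, hrs, rfl⟩
  · simp only [List.mem_cons, List.not_mem_nil, or_false] at hr
    rcases hr with rfl | rfl
    · exact ⟨xGL dcG 6 t, xGL_mem_group _ _ _, rel_gen_b g t hg⟩
    · exact ⟨xGL dcG 5 t, xGL_mem_group _ _ _, rel_gen_mb g t hg⟩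
  · simp only [List.mem_cons, List.not_mem_nil, or_false] at hrs
    rcases hrs with rfl | rfl
    · exact ⟨xGL dcG 7 t, xGL_mem_group _ _ _, rel_gen_a g t hg⟩
    · exact ⟨xGL dcG 4 t, xGL_mem_group _ _ _, rel_gen_ma g t hg⟩

theorem exists_rel (g : G2in K) : ∃ m : chevG2.group K, Rel g.1 m.1 := by
  obtain ⟨m, hm, h⟩ := G2in_le_S g.2
  exact ⟨⟨m, hm⟩, h⟩

/-- The action on the span of the orbit sums. -/
noncomputable def rhoFun (g : G2in K) : chevG2.group K := Classical.choose (exists_rel g)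

theorem rhoFun_spec (g : G2in K) : Rel g.1 (rhoFun g).1 := Classical.choose_spec (exists_rel g)

/-- The action on the span of the orbit sums, as a homomorphism. -/
noncomputable def rho : G2in K →* chevG2.group K where
  toFun := rhoFun
  map_one' := Subtype.ext (rel_unique (rhoFun_spec 1) rel_one)
  map_mul' := fun g g' => Subtype.ext (rel_unique (rhoFun_spec (g * g')) (rel_mul (rhoFun_spec g) (rhoFun_spec g')))

theorem rho_eq (g : G2in K) (m : chevG2.group K) (h : Rel g.1 m.1) : rho g = m :=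
  Subtype.ext (rel_unique (rhoFun_spec g) h)

theorem rho_surjective : Function.Surjective (rho (K := K)) := by
  have hle : chevG2.group K ≤ (rho (K := K)).range.map (chevG2.group K).subtype := by
    refine le_trans (le_of_eq (Cfsg.Agent.Lib.Helper36_ChevDataG2.group_eq K)) ?_
    unfold fundSubgroup
    rw [Subgroup.closure_le]
    rintro m ⟨i, hi, t, hm⟩
    have hmem : ∀ wd : List (ℕ × K), wd ∈ d4Words K 1 → wordGL Cfsg.Agent.Lib.Helper36_TwistD4.dc wd ∈ G2in K :=
      fun wd hwd => Subgroup.subset_closure ⟨wd, hwd, wordGL_coe _ _⟩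
    have key : ∀ (wd : List (ℕ × K)) (hwd : wd ∈ d4Words K 1) (s : ℕ),
        Rel (wordGL Cfsg.Agent.Lib.Helper36_TwistD4.dc wd) (xGL dcG s t) →
        (m : Matrix chevG2.Idx chevG2.Idx K) = chevG2.x K s t →
        m ∈ ((rho (K := K)).range.map (chevG2.group K).subtype : Set (GL chevG2.Idx K)) := by
      intro wd hwd s hrel hms
      have hm' : m = xGL dcG s t := eq_xGL dcG hms
      refine ⟨⟨m, hm' ▸ xGL_mem_group dcG s t⟩, ⟨⟨_, hmem wd hwd⟩, ?_⟩, rfl⟩
      apply rho_eq
      show Rel _ m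
      rw [hm']
      exact hrel
    have hi' : i = 0 ∨ i = 1 := by
      have : i < 2 := hi
      omega
    rcases hi' with rfl | rfl
    · rcases hm with hm | hm
      · exact key [(d4p1, t), (d4p3, t ^ 1), (d4p4, t ^ 1 ^ 2)] (Or.inr ⟨t, (d4p1, d4p3, d4p4), by simp, rfl⟩) 7
          (rel_gen_a _ t (wordGL_coe _ _)) hm
      · exact key [(d4m1, t), (d4m3, t ^ 1), (d4m4, t ^ 1 ^ 2)] (Or.inr ⟨t, (d4m1, d4m3, d4m4), by simp, rfl⟩) 4
          (rel_gen_ma _ t (wordGL_coe _ _)) hm
    · rcases hm with hm | hm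
      · exact key [(d4p2, t)] (Or.inl ⟨t, pow_one t, d4p2, by simp, rfl⟩) 6 (rel_gen_b _ t (wordGL_coe _ _)) hm
      · exact key [(d4m2, t)] (Or.inl ⟨t, pow_one t, d4m2, by simp, rfl⟩) 5 (rel_gen_mb _ t (wordGL_coe _ _)) hm
  intro m
  obtain ⟨m', ⟨g, rfl⟩, hm'⟩ := hle m.2
  exact ⟨g, Subtype.ext hm'⟩

end

section finite

variable {K : Type*} [Field K] [Fintype K]

theorem rho_bijective : Function.Bijective (rho (K := K)) := by
  classical
  apply Function.Surjective.bijective_of_nat_card_le rho_surjective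
  rw [Cfsg.Agent.Lib.Helper46_G2D4Order.card_G2in, Cfsg.Agent.S1059.result (F := K) rfl]

/-- `G2in K ≃* G₂(K)`. -/
noncomputable def rhoEquiv : G2in K ≃* chevG2.group K := MulEquiv.ofBijective rho rho_bijective

end finite

end Cfsg.Agent.Lib.Helper46_G2D4Rho
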