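import Cfsg.Agent.Lib.Helper46_G2Hom

set_option autoImplicit false

/-!
The pair data `(φ₁₁, φ₇, h₀)` of the Chevalley group of type `G₂`.
-/

namespace Cfsg.Agent.Lib.Helper46_G2Data

open Cfsg Cfsg.Lie
open Cfsg.Agent.Lib.Helper18_ChevWeyl Cfsg.Agent.Lib.Helper18_ChevGL Cfsg.Agent.Lib.Helper18_ChevTorus
  Cfsg.Agent.Lib.Helper18_ChevDiag Cfsg.Agent.Lib.Helper18_ChevCar Cfsg.Agent.Lib.Helper18_ChevBorel
  Cfsg.Agent.Lib.Helper18_ChevBN Cfsg.Agent.Lib.Helper18_ChevMono Cfsg.Agent.Lib.Helper18_ChevUni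
  Cfsg.Agent.Lib.Helper18_ChevFacts Cfsg.Agent.Lib.Helper18_ChevSimp Cfsg.Agent.Lib.Helper18_ChevBNPair
  Cfsg.Agent.Lib.Helper46_PairGroup Cfsg.Agent.Lib.Helper5_SteinbergA Cfsg.Agent.Lib.Helper5_SLPresA
  Cfsg.Agent.Lib.Helper46_G2Base Cfsg.Agent.Lib.Helper46_G2Hom

variable {F : Type*} [Field F]

/-! ### decomposition in `SL₂` -/

theorem sl2_decomp_ne (A : SL2 F) (hc : A.1 1 0 ≠ 0) :
    A = mx (true, (A.1 0 0 - 1) / A.1 1 0) * mx (false, A.1 1 0) * mx (true, (A.1 1 1 - 1) / A.1 1 0) := by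
  have hd := A.2
  rw [Matrix.det_fin_two] at hd
  apply Subtype.ext
  simp only [Matrix.SpecialLinearGroup.coe_mul, mx_true, mx_false]
  ext i j
  fin_cases i <;> fin_cases j <;> simp [Matrix.mul_apply, Fin.sum_univ_two] <;> field_simp <;>
    first | ring1 | linear_combination -hd | linear_combination (-2 : F) * hd | linear_combination hd |
      linear_combination (2 : F) * hd

theorem dg_one : dg (1 : Fˣ) = 1 := by
  apply Subtype.ext
  ext i j
  fin_cases i <;> fin_cases j <;> simp [dg]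

theorem mx_true_zero : mx (true, (0 : F)) = 1 := by
  apply Subtype.ext
  ext i j
  fin_cases i <;> fin_cases j <;> simp [mx_true]

theorem sl2_decomp_zero (A : SL2 F) (hc : A.1 1 0 = 0) :
    ∃ (a : Fˣ) (y : F), A = dg a * mx (true, y) := by
  have hd := A.2
  rw [Matrix.det_fin_two, hc, mul_zero, sub_zero] at hd
  have ha : A.1 0 0 ≠ 0 := by
    intro h
    rw [h, zero_mul] at hd
    exact zero_ne_one hd
  refine ⟨Units.mk0 _ ha, A.1 0 1 / A.1 0 0, ?_⟩
  have hinv : (A.1 0 0)⁻¹ = A.1 1 1 := by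
    field_simp
    linear_combination -hd
  apply Subtype.ext
  rw [Matrix.SpecialLinearGroup.coe_mul, mx_true]
  ext i j
  fin_cases i <;> fin_cases j <;> simp [dg, Matrix.mul_apply, Fin.sum_univ_two, hc, hinv] <;> field_simp

/-! ### injectivity -/

theorem torGL_chi_eq_one (a b : Fˣ) (h : torGL a b = 1) (s : ℕ) (hs : s < chevG2.nroots) : chi a b s = 1 := by
  have h1 := congrArg (fun g : GL chevG2.Idx F => (g : Matrix chevG2.Idx chevG2.Idx F)) h
  simp only [torGL_coe, Units.val_one] at h1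
  have h2 := congrFun (congrFun h1 (Sum.inr ⟨s, hs⟩)) (Sum.inr ⟨s, hs⟩)
  unfold torusMat diagMat at h2
  rw [Matrix.diagonal_apply_eq, Matrix.one_apply_eq] at h2
  simp only [Sum.elim_inr] at h2
  rw [torusChar_tf] at h2
  exact h2

theorem torGL_eq_one (a b : Fˣ) (h : torGL a b = 1) : a = 1 ∧ b = 1 := by
  have h7 := torGL_chi_eq_one a b h 7 (by decide)
  have h6 := torGL_chi_eq_one a b h 6 (by decide)
  unfold chi at h7 h6
  have e1 : chevG2.cartan 0 7 = 2 := by decide
  have e2 : chevG2.cartan 1 7 = -1 := by decide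
  have e3 : chevG2.cartan 0 6 = -3 := by decide
  have e4 : chevG2.cartan 1 6 = 2 := by decide
  rw [e1, e2] at h7
  rw [e3, e4] at h6
  have ha : (a : F) ≠ 0 := a.ne_zero
  have hb : (b : F) ≠ 0 := b.ne_zero
  have k7 : (a : F) ^ 2 = (b : F) := by
    rw [zpow_neg_one] at h7
    field_simp at h7
    exact_mod_cast h7
  have k6 : (b : F) ^ 2 = (a : F) ^ 3 := by
    rw [zpow_neg] at h6
    field_simp at h6
    exact_mod_cast h6
  have ha1 : (a : F) = 1 := by
    have : (a : F) ^ 3 * ((a : F) - 1) = 0 := by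
      rw [← k7] at k6
      linear_combination k6
    rcases mul_eq_zero.mp this with h' | h'
    · exact absurd (pow_eq_zero_iff (by norm_num) |>.mp h') ha
    · linear_combination h'
  have hb1 : (b : F) = 1 := by rw [← k7, ha1]; ring
  exact ⟨Units.ext ha1, Units.ext hb1⟩

theorem phiGL_injective (r : ℕ) (hr : r < chevG2.nroots) (hpos : chevG2.IsPosRoot r)
    (hdet : ∀ a : Fˣ, hGL cG r (a : F) = 1 → a = 1) : Function.Injective (phiGL (F := F) r hr) := by
  rw [injective_iff_map_eq_one]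
  intro A hA
  by_cases hc : A.1 1 0 = 0
  · obtain ⟨a, y, e⟩ := sl2_decomp_zero A hc
    rw [e, map_mul, phiGL_dg, phiGL_true] at hA
    have hx : xGL cG r y = (hGL cG r (a : F))⁻¹ := eq_inv_of_mul_eq_one_right hA
    have hmem : xGL cG r y ∈ chevG2.diagonalSubgroup F := by
      rw [hx]
      exact Subgroup.inv_mem _ (hGL_mem cG r hr _ a.ne_zero)
    have hy := eq_zero_of_xGL_mem_diagonal cG tG aG r hr y hmem
    rw [hy, xGL_zero, mul_one] at hA
    have ha := hdet a hA
    rw [e, ha, hy, dg_one, mx_true_zero, mul_one]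
  · exfalso
    have e := sl2_decomp_ne A hc
    rw [e, map_mul, map_mul, phiGL_true, phiGL_true, phiGL_false] at hA
    have hx : xGL cG (chevG2.neg r) (A.1 1 0) =
        (xGL cG r ((A.1 0 0 - 1) / A.1 1 0))⁻¹ * (xGL cG r ((A.1 1 1 - 1) / A.1 1 0))⁻¹ := by
      calc xGL cG (chevG2.neg r) (A.1 1 0)
          = (xGL cG r ((A.1 0 0 - 1) / A.1 1 0))⁻¹ * (xGL cG r ((A.1 0 0 - 1) / A.1 1 0) *
              xGL cG (chevG2.neg r) (A.1 1 0) * xGL cG r ((A.1 1 1 - 1) / A.1 1 0)) *
              (xGL cG r ((A.1 1 1 - 1) / A.1 1 0))⁻¹ := by group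
        _ = _ := by rw [hA, mul_one]
    have hU : ∀ t : F, xGL cG r t ∈ chevG2.posUnipotent F :=
      fun t => Subgroup.subset_closure ⟨r, t, hpos, rfl⟩
    have hmem : xGL cG (chevG2.neg r) (A.1 1 0) ∈ chevG2.borelSubgroup F := by
      rw [hx]
      exact Subgroup.mem_sup_left
        (Subgroup.mul_mem _ (Subgroup.inv_mem _ (hU _)) (Subgroup.inv_mem _ (hU _)))
    exact hc (eq_zero_of_xGL_neg_mem_borel cG tG aG gG _ (neg_isNeg cG tG aG r hpos) _ hmem)

theorem phiGL_11_injective : Function.Injective (phiGL (F := F) 11 (by decide)) := by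
  apply phiGL_injective 11 (by decide) (by decide)
  intro a h
  rw [hGL_11] at h
  exact (torGL_eq_one _ _ h).1

theorem phiGL_7_injective : Function.Injective (phiGL (F := F) 7 (by decide)) := by
  apply phiGL_injective 7 (by decide) (by decide)
  intro a h
  rw [hGL_7] at h
  exact (torGL_eq_one _ _ h).1

/-! ### the pair data -/

/-- the group -/
abbrev GG (F : Type*) [Field F] := ↥(chevG2.group F)

/-- the homomorphism attached to the root `r`, into the Chevalley group -/
noncomputable def phi (r : ℕ) (hr : r < chevG2.nroots) : SL2 F →* GG F :=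
  (phiGL r hr).codRestrict _ (phiGL_mem r hr)

theorem phi_coe (r : ℕ) (hr : r < chevG2.nroots) (A : SL2 F) : ((phi r hr A : GG F) : GL chevG2.Idx F) = phiGL r hr A :=
  rfl

/-- torus elements in the Chevalley group -/
def tor (a b : Fˣ) : GG F := ⟨torGL a b, diagonal_le_group cG (torGL_mem a b)⟩

theorem tor_coe (a b : Fˣ) : ((tor a b : GG F) : GL chevG2.Idx F) = torGL a b := rfl

theorem tor_mul (a b a' b' : Fˣ) : (tor a b : GG F) * tor a' b' = tor (a * a') (b * b') :=
  Subtype.ext (torGL_mul a b a' b')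

theorem tor_one : (tor 1 1 : GG F) = 1 := Subtype.ext torGL_one

/-- the homomorphism `δ ↦ h_a(δ) h_b(δ)` -/
def h0 : Fˣ →* GG F where
  toFun δ := tor δ δ
  map_one' := tor_one
  map_mul' a b := (tor_mul a a b b).symm

theorem h0_apply (δ : Fˣ) : (h0 δ : GG F) = tor δ δ := rfl

/-- the pair data of `G₂` -/
noncomputable def pairG2 (F : Type*) [Field F] : PairData F (GG F) where
  φ1 := phi 11 (by decide)
  φ2 := phi 7 (by decide)
  h0 := h0
  comm A B := Subtype.ext (phiGL_comm A B)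
  conj1 δ A := Subtype.ext (h0_conj_11 δ A)
  conj2 δ A := Subtype.ext (h0_conj_7 δ A)
  sq c := by
    apply Subtype.ext
    show torGL (c ^ 2) (c ^ 2) = phiGL 11 (by decide) (dg c) * phiGL 7 (by decide) (dg c)
    rw [phiGL_dg, phiGL_dg, hGL_11, hGL_7, torGL_mul, mul_one, pow_two]
  inj1 := by
    intro A B h
    exact phiGL_11_injective (congrArg Subtype.val h)
  inj2 := by
    intro A B h
    exact phiGL_7_injective (congrArg Subtype.val h)
  zeq := by
    apply Subtype.ext
    show phiGL 11 (by decide) (-1) = phiGL 7 (by decide) (-1)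
    rw [← dg_neg_one, phiGL_dg, phiGL_dg, hGL_11, hGL_7]
    congr 1
    simp

end Cfsg.Agent.Lib.Helper46_G2Data
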