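import Cfsg.Agent.Lib.Helper46_PairCard

set_option autoImplicit false

/-!
Fusion of involutions in a finite group containing `M = (SL₂ ∘ SL₂).2` with odd index.
-/

namespace Cfsg.Agent.Lib.Helper46_PairFusion

open Matrix Cfsg.Agent.Lib.Helper46_PairGroup Cfsg.Agent.Lib.Helper46_PairConj

variable {G : Type*} [Group G]

/-- In a finite group, an involution is conjugate into every subgroup of odd index. -/
theorem exists_conj_mem_of_odd_index [Finite G] (M : Subgroup G) (hodd : Odd M.index) (s : G)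
    (hs : orderOf s = 2) : ∃ c : G, c * s * c⁻¹ ∈ M := by
  haveI : Fact (Nat.Prime 2) := ⟨Nat.prime_two⟩
  -- a Sylow 2-subgroup of `M`, seen in `G`
  obtain ⟨PM⟩ : Nonempty (Sylow 2 M) := inferInstance
  set S : Subgroup G := (PM : Subgroup M).map M.subtype with hS
  have hSM : S ≤ M := by
    rintro _ ⟨x, -, rfl⟩
    exact x.2
  have hScard : Nat.card S = 2 ^ (Nat.card M).factorization 2 := by
    rw [hS, Subgroup.card_map_of_injective M.subtype_injective]
    exact PM.card_eq_multiplicity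
  have hSp : IsPGroup 2 S := IsPGroup.of_card hScard
  obtain ⟨Q', hQ'⟩ := hSp.exists_le_sylow
  have hfac : (Nat.card G).factorization 2 = (Nat.card M).factorization 2 := by
    rw [← M.card_mul_index, Nat.factorization_mul Nat.card_pos.ne' hodd.pos.ne', Finsupp.add_apply,
      Nat.factorization_eq_zero_of_not_dvd (n := M.index) (p := 2), add_zero]
    intro h
    exact (Nat.not_even_iff_odd.mpr hodd) (even_iff_two_dvd.mpr h)
  have hQ'card : Nat.card (Q' : Subgroup G) = Nat.card S := by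
    rw [Q'.card_eq_multiplicity, hfac, hScard]
  have hSQ' : S = (Q' : Subgroup G) := Subgroup.eq_of_le_of_card_ge hQ' hQ'card.le
  -- a Sylow 2-subgroup containing `s`
  have hsp : IsPGroup 2 (Subgroup.zpowers s) := by
    apply IsPGroup.of_card (n := 1)
    rw [Nat.card_zpowers, hs, pow_one]
  obtain ⟨Q, hQ⟩ := hsp.exists_le_sylow
  obtain ⟨c, hc⟩ := MulAction.exists_smul_eq G Q Q'
  refine ⟨c, hSM ?_⟩
  rw [hSQ', ← hc, Sylow.coe_subgroup_smul, Subgroup.mem_smul_pointwise_iff_exists]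
  exact ⟨s, hQ (Subgroup.mem_zpowers s), by rw [MulAut.smul_def, MulAut.conj_apply]⟩

end Cfsg.Agent.Lib.Helper46_PairFusion

namespace Cfsg.Agent.Lib.Helper46_PairGroup.PairData

open Matrix Cfsg.Agent.Lib.Helper46_PairGroup Cfsg.Agent.Lib.Helper46_PairConj
  Cfsg.Agent.Lib.Helper46_PairCard Cfsg.Agent.Lib.Helper46_PairFusion

variable {F : Type*} [Field F] {G : Type*} [Group G]

variable (P : PairData F G)

theorem z_mul_z : P.z * P.z = 1 := by
  unfold z
  rw [← map_mul]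
  have : (-1 : SL2 F) * -1 = 1 := by simp
  rw [this, map_one]

theorem z_ne_one (h2 : (2 : F) ≠ 0) : P.z ≠ 1 := by
  intro h
  exact neg_one_ne_one h2 (P.inj2 (h.trans (map_one P.φ2).symm))

theorem z_mem_K : P.z ∈ P.K := P.phi2_mem_K _

theorem z_comm {m : G} (hm : m ∈ P.M) : m * P.z = P.z * m := by
  obtain ⟨A, B, δ, hA, hB, rfl⟩ := hm
  rw [← P.Ψ_neg_one]
  have d1 : (1 : M2 F).det = ((1 : Fˣ) : F) := by simp
  have d2 : (-1 : M2 F).det = ((1 : Fˣ) : F) := by simp [Matrix.det_neg, Fintype.card_fin]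
  rw [P.Ψ_mul hA hB d1 d2, P.Ψ_mul d1 d2 hA hB]
  simp

theorem M_le_centralizer : P.M ≤ Subgroup.centralizer {P.z} := by
  intro m hm
  rw [Subgroup.mem_centralizer_iff]
  intro x hx
  rw [Set.mem_singleton_iff] at hx
  rw [hx]
  exact (P.z_comm hm).symm

/-- the non-central involutions of `M` are given by pairs of matrices of trace zero -/
theorem exists_trace_zero (h2 : (2 : F) ≠ 0) {g : G} (hg : g ∈ P.M) (hsq : g * g = 1) (h1 : g ≠ 1)
    (hz : g ≠ P.z) :
    ∃ (A B : M2 F) (δ : Fˣ), A.det = (δ : F) ∧ B.det = (δ : F) ∧ A.trace = 0 ∧ B.trace = 0 ∧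
      g = P.Ψ A B δ := by
  obtain ⟨A, B, δ, hA, hB, rfl⟩ := hg
  rcases P.invol_cases h2 hA hB hsq with (h | h) | ⟨tA, tB⟩
  · exact absurd h h1
  · exact absurd h hz
  · exact ⟨A, B, δ, hA, hB, tA, tB, rfl⟩

/-- two non-central involutions of `M` of the same type are conjugate -/
theorem conj_of_same_type [Fintype F] [DecidableEq F] (h2 : (2 : F) ≠ 0) (hodd : Fintype.card F % 2 = 1)
    {g g' : G} (hg : g ∈ P.M) (hsq : g * g = 1) (h1 : g ≠ 1) (hz : g ≠ P.z)
    (hg' : g' ∈ P.M) (hsq' : g' * g' = 1) (h1' : g' ≠ 1) (hz' : g' ≠ P.z)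
    (htype : g ∈ P.K ↔ g' ∈ P.K) : IsConj g g' := by
  obtain ⟨A, B, δ, hA, hB, tA, tB, rfl⟩ := P.exists_trace_zero h2 hg hsq h1 hz
  obtain ⟨A', B', δ', hA', hB', tA', tB', rfl⟩ := P.exists_trace_zero h2 hg' hsq' h1' hz'
  rw [P.mem_K_iff hA hB, P.mem_K_iff hA' hB'] at htype
  obtain ⟨k, -, hk⟩ := Cfsg.Agent.Lib.Helper46_PairConj.PairData.conj_T P h2 hodd hA hB hA' hB' tA tB tA' tB' htype
  exact isConj_iff.mpr ⟨k, hk⟩

/-- The fusion theorem: all involutions are conjugate. -/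
theorem all_invol_conj [Finite G] [Fintype F] [DecidableEq F] (h2 : (2 : F) ≠ 0)
    (hodd : Fintype.card F % 2 = 1) (hidx : Odd P.M.index)
    (n : G) (hn : n * P.z * n⁻¹ ∈ P.M) (hnz : n * P.z * n⁻¹ ≠ P.z)
    (t t' : G) (ht : t ∈ P.K) (ht2 : t * t = 1) (ht1 : t ≠ 1) (htz : t ≠ P.z)
    (ht' : t' ∈ P.M) (ht'K : t' ∉ P.K) (ht'2 : t' * t' = 1) (hconj : IsConj t t')
    (s : G) (hs : orderOf s = 2) : IsConj s P.z := by
  have ht'1 : t' ≠ 1 := fun h => ht'K (h ▸ Subgroup.one_mem _)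
  have ht'z : t' ≠ P.z := fun h => ht'K (h ▸ P.z_mem_K)
  have htM : t ∈ P.M := P.K_le_M ht
  -- the conjugate of `z`
  set z' := n * P.z * n⁻¹ with hz'
  have hz'2 : z' * z' = 1 := by
    rw [hz']
    calc n * P.z * n⁻¹ * (n * P.z * n⁻¹) = n * (P.z * P.z) * n⁻¹ := by group
      _ = 1 := by rw [P.z_mul_z]; group
  have hz'1 : z' ≠ 1 := by
    intro h
    apply P.z_ne_one h2
    have : P.z = n⁻¹ * z' * n := by rw [hz']; group
    rw [this, h]; group
  have hzz' : IsConj z' P.z := by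
    rw [isConj_iff]
    exact ⟨n⁻¹, by rw [hz']; group⟩
  -- the involutions of `M`
  have stepA : ∀ g ∈ P.M, g * g = 1 → g ≠ 1 → IsConj g P.z := by
    intro g hg hg2 hg1
    by_cases hgz : g = P.z
    · rw [hgz]
    by_cases htype : g ∈ P.K ↔ z' ∈ P.K
    · exact (P.conj_of_same_type h2 hodd hg hg2 hg1 hgz hn hz'2 hz'1 hnz htype).trans hzz'
    · by_cases hgK : g ∈ P.K
      · have hz'K : z' ∉ P.K := fun h => htype ⟨fun _ => h, fun _ => hgK⟩
        have c1 := P.conj_of_same_type h2 hodd hg hg2 hg1 hgz htM ht2 ht1 htz ⟨fun _ => ht, fun _ => hgK⟩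
        have c2 := P.conj_of_same_type h2 hodd ht' ht'2 ht'1 ht'z hn hz'2 hz'1 hnz
          ⟨fun h => absurd h ht'K, fun h => absurd h hz'K⟩
        exact ((c1.trans hconj).trans c2).trans hzz'
      · have hz'K : z' ∈ P.K := by
          by_contra h
          exact htype ⟨fun h' => absurd h' hgK, fun h' => absurd h' h⟩
        have c1 := P.conj_of_same_type h2 hodd hg hg2 hg1 hgz ht' ht'2 ht'1 ht'z
          ⟨fun h => absurd h hgK, fun h => absurd h ht'K⟩
        have c2 := P.conj_of_same_type h2 hodd htM ht2 ht1 htz hn hz'2 hz'1 hnz ⟨fun _ => hz'K, fun _ => ht⟩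
        exact ((c1.trans hconj.symm).trans c2).trans hzz'
  -- all involutions
  obtain ⟨c, hc⟩ := exists_conj_mem_of_odd_index P.M hidx s hs
  have hs2 : s * s = 1 := by
    rw [← pow_two, ← hs, pow_orderOf_eq_one]
  have hs1 : s ≠ 1 := by
    intro h
    rw [h, orderOf_one] at hs
    exact absurd hs (by norm_num)
  have h2' : c * s * c⁻¹ * (c * s * c⁻¹) = 1 := by
    calc c * s * c⁻¹ * (c * s * c⁻¹) = c * (s * s) * c⁻¹ := by group
      _ = 1 := by rw [hs2]; group
  have h1' : c * s * c⁻¹ ≠ 1 := by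
    intro h
    apply hs1
    have : s = c⁻¹ * (c * s * c⁻¹) * c := by group
    rw [this, h]; group
  have := stepA _ hc h2' h1'
  exact (isConj_iff.mpr ⟨c, rfl⟩).trans this

/-! ### the order of `M` -/

theorem h0_not_mem_K {ν : Fˣ} (hν : ¬ IsSquare ν) : P.h0 ν ∉ P.K := by
  rw [P.h0_eq, P.mem_K_iff (Dm_det _) (Dm_det _)]
  exact hν

theorem relIndex_K_M [Fintype F] [DecidableEq F] (h2 : (2 : F) ≠ 0) : P.K.relIndex P.M = 2 := by
  have hchar : ringChar F ≠ 2 := by
    intro h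
    apply h2
    have := CharP.cast_eq_zero F (ringChar F)
    rw [h] at this
    exact_mod_cast this
  obtain ⟨ν0, hν0⟩ := FiniteField.exists_nonsquare hchar
  have hν00 : ν0 ≠ 0 := by
    rintro rfl
    exact hν0 ⟨0, by simp⟩
  set ν : Fˣ := Units.mk0 ν0 hν00 with hν
  have hνns : ¬ IsSquare (ν : F) := hν0
  rw [Subgroup.relIndex_eq_two_iff]
  refine ⟨P.h0 ν, P.h0_mem_M ν, ?_⟩
  rintro _ ⟨A, B, δ, hA, hB, rfl⟩
  rw [P.h0_eq, P.Ψ_mul hA hB (Dm_det _) (Dm_det _)]
  have dA : (A * Dm (ν : F)).det = ((δ * ν : Fˣ) : F) := by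
    rw [Matrix.det_mul, hA, Dm_det, Units.val_mul]
  have dB : (B * Dm (ν : F)).det = ((δ * ν : Fˣ) : F) := by
    rw [Matrix.det_mul, hB, Dm_det, Units.val_mul]
  rw [P.mem_K_iff dA dB, P.mem_K_iff hA hB, isSquare_units_iff, isSquare_units_iff, Units.val_mul]
  have hq : quadraticChar F (ν : F) = -1 := quadraticChar_neg_one_iff_not_isSquare.mpr hνns
  rw [← quadraticChar_one_iff_isSquare (mul_ne_zero δ.ne_zero ν.ne_zero),
    ← quadraticChar_one_iff_isSquare δ.ne_zero, map_mul, hq]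
  rcases quadraticChar_dichotomy δ.ne_zero with h | h
  · rw [h]
    right
    exact ⟨rfl, by norm_num⟩
  · rw [h]
    left
    exact ⟨by norm_num, by norm_num⟩

theorem card_M [Fintype F] [DecidableEq F] (h2 : (2 : F) ≠ 0) : Nat.card P.M = Nat.card (SL2 F) ^ 2 := by
  have h1 := (P.K.subgroupOf P.M).card_mul_index
  have h3 : Nat.card (P.K.subgroupOf P.M) = Nat.card P.K :=
    Nat.card_congr (Subgroup.subgroupOfEquivOfLe P.K_le_M).toEquiv
  have h4 : (P.K.subgroupOf P.M).index = 2 := P.relIndex_K_M h2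
  rw [h3, h4] at h1
  rw [← h1, mul_comm, P.card_K h2]

end Cfsg.Agent.Lib.Helper46_PairGroup.PairData
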