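import Cfsg.Agent.Lib.Helper46_G2Weyl
import Cfsg.Agent.Lib.Helper46_PairFusion
import Cfsg.Agent.Lib.Helper5_PSLCard
import Cfsg.Agent.S1059

set_option autoImplicit false

/-!
All involutions of `G₂(q)`, `q` odd, are conjugate.
-/

namespace Cfsg.Agent.Lib.Helper46_G2Fusion

open Cfsg Cfsg.Lie
open Cfsg.Agent.Lib.Helper18_ChevWeyl Cfsg.Agent.Lib.Helper18_ChevGL Cfsg.Agent.Lib.Helper18_ChevTorus
  Cfsg.Agent.Lib.Helper18_ChevDiag Cfsg.Agent.Lib.Helper18_ChevCar Cfsg.Agent.Lib.Helper18_ChevBorel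
  Cfsg.Agent.Lib.Helper18_ChevBN Cfsg.Agent.Lib.Helper18_ChevMono Cfsg.Agent.Lib.Helper18_ChevUni
  Cfsg.Agent.Lib.Helper18_ChevFacts Cfsg.Agent.Lib.Helper18_ChevSimp Cfsg.Agent.Lib.Helper18_ChevBNPair
  Cfsg.Agent.Lib.Helper18_ChevRootHom
  Cfsg.Agent.Lib.Helper46_PairGroup Cfsg.Agent.Lib.Helper46_PairConj Cfsg.Agent.Lib.Helper46_PairCard
  Cfsg.Agent.Lib.Helper46_G2Base Cfsg.Agent.Lib.Helper46_G2Hom
  Cfsg.Agent.Lib.Helper46_G2Data Cfsg.Agent.Lib.Helper46_G2Weyl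

variable {F : Type*} [Field F]

theorem two_ne_zero_of_odd [Fintype F] (hF : Odd (Fintype.card F)) : (2 : F) ≠ 0 := by
  apply Ring.two_ne_zero
  intro h
  have := FiniteField.even_card_of_char_two h
  rw [Nat.odd_iff] at hF
  omega

/-! ### torus elements in `M` -/

theorem z_eq : (pairG2 F).z = tor (-1) 1 := by
  apply Subtype.ext
  show phiGL 7 (by decide) (-1) = torGL (-1) 1
  rw [← dg_neg_one, phiGL_dg, hGL_7]

theorem tor_eq (a b : Fˣ) : (tor a b : GG F) = (pairG2 F).φ2 (dg (a * b⁻¹)) * (pairG2 F).h0 b := by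
  apply Subtype.ext
  show torGL a b = phiGL 7 (by decide) (dg (a * b⁻¹)) * torGL b b
  rw [phiGL_dg, hGL_7, torGL_mul, one_mul, inv_mul_cancel_right]

theorem tor_mem_M (a b : Fˣ) : (tor a b : GG F) ∈ (pairG2 F).M := by
  rw [(pairG2 F).mem_M_iff']
  exact ⟨1, dg (a * b⁻¹), b, by rw [map_one, one_mul]; exact tor_eq a b⟩

theorem trace_mul_Dm (X : M2 F) (δ : F) : (X * Dm δ).trace = δ * X 0 0 + X 1 1 := by
  rw [Matrix.trace_fin_two, mul_Dm_apply, mul_Dm_apply]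
  simp [mul_comm]

/-- the element `t₀ = n_{3a+2b} n_a` -/
noncomputable def t0 : GG F := (pairG2 F).φ1 Jm * (pairG2 F).φ2 Jm

theorem t0_mul_tor (a b : Fˣ) : (t0 : GG F) * tor a b =
    (pairG2 F).Ψ ((Jm : SL2 F).1 * Dm (b : F)) ((Jm * dg (a * b⁻¹) : SL2 F).1 * Dm (b : F)) b := by
  rw [← (pairG2 F).Ψ_of, tor_eq, map_mul]
  unfold t0
  group

theorem Jm_trace (b : F) : ((Jm : SL2 F).1 * Dm b).trace = 0 := by
  rw [trace_mul_Dm]
  simp [Jm]

theorem Jm_dg_trace (c : Fˣ) (b : F) : ((Jm * dg c : SL2 F).1 * Dm b).trace = 0 := by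
  rw [trace_mul_Dm, Matrix.SpecialLinearGroup.coe_mul]
  simp [Jm, dg, Matrix.mul_apply, Fin.sum_univ_two]

theorem t0_tor_props (h2 : (2 : F) ≠ 0) (a b : Fˣ) :
    (t0 : GG F) * tor a b ∈ (pairG2 F).M ∧ (t0 : GG F) * tor a b * ((t0 : GG F) * tor a b) = 1 ∧
      (t0 : GG F) * tor a b ≠ 1 ∧ (t0 : GG F) * tor a b ≠ (pairG2 F).z ∧
      ((t0 : GG F) * tor a b ∈ (pairG2 F).K ↔ IsSquare b) := by
  rw [t0_mul_tor]
  have dA := det_mul_Dm (Jm : SL2 F) b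
  have dB := det_mul_Dm (Jm * dg (a * b⁻¹) : SL2 F) b
  have tA := Jm_trace (F := F) (b : F)
  have tB := Jm_dg_trace (a * b⁻¹) (b : F)
  exact ⟨(pairG2 F).mem_M dA dB, (pairG2 F).Ψ_sq_of_trace_zero dA dB tA tB,
    (pairG2 F).Ψ_ne_one_of_trace_zero h2 dA dB tA, (pairG2 F).Ψ_ne_z_of_trace_zero h2 dA dB tA,
    (pairG2 F).mem_K_iff dA dB⟩

/-! ### conjugation by `n_b` -/

/-- `n_b` in the group -/
def nG : GG F := ⟨nGL cG 1, monomial_le_group cG (nGL_mem_monomial cG 1 (by decide))⟩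

theorem nG_conj_tor (a b : Fˣ) : (nG : GG F) * tor a b * nG⁻¹ = tor a (a ^ 3 * b⁻¹) :=
  Subtype.ext (nGL_conj_torGL a b)

theorem t0_coe : ((t0 : GG F) : GL chevG2.Idx F) = ((t0N : ↥(chevG2.monomialSubgroup F)) : GL chevG2.Idx F) := by
  rw [t0N_coe, ← phiGL_J, ← phiGL_J]
  rfl

theorem nG_conj_t0 : ∃ ζa ζb : Fˣ, (nG : GG F) * t0 * nG⁻¹ = t0 * tor ζa ζb := by
  obtain ⟨ζa, ζb, h⟩ := exists_torGL_of_mem _ (zeta_mem (F := F))
  refine ⟨ζa, ζb, ?_⟩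
  apply Subtype.ext
  show nGL cG 1 * ((t0 : GG F) : GL chevG2.Idx F) * (nGL cG 1)⁻¹ = ((t0 : GG F) : GL chevG2.Idx F) * torGL ζa ζb
  rw [← h, t0_coe]
  group

/-! ### the index of `M` -/

theorem odd_index [Fintype F] (hF : Odd (Fintype.card F)) : Odd (pairG2 F).M.index := by
  classical
  have h2 := two_ne_zero_of_odd hF
  have hM := (pairG2 F).card_M h2
  rw [Cfsg.Agent.Lib.Helper5_PSLCard.card_SL_two] at hM
  have hG := Cfsg.Agent.S1059.result (F := F) rfl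
  have hmi := (pairG2 F).M.card_mul_index
  rw [hM, hG] at hmi
  obtain ⟨k, hk⟩ := hF
  have hq1 : 1 < Fintype.card F := Fintype.one_lt_card
  have hk1 : 1 ≤ k := by omega
  set q := Fintype.card F with hq
  have e2 : q ^ 2 - 1 = 4 * k ^ 2 + 4 * k := by
    apply Nat.sub_eq_of_eq_add
    rw [hk]; ring
  have e6 : q ^ 6 - 1 = (4 * k ^ 2 + 4 * k) * (q ^ 4 + q ^ 2 + 1) := by
    apply Nat.sub_eq_of_eq_add
    rw [hk]; ring
  rw [e2, e6] at hmi
  have hpos : 0 < (q * (4 * k ^ 2 + 4 * k)) ^ 2 := by positivity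
  have hidx : (pairG2 F).M.index = q ^ 4 * (q ^ 4 + q ^ 2 + 1) := by
    apply Nat.eq_of_mul_eq_mul_left hpos
    rw [hmi]; ring
  rw [hidx, hk]
  refine ⟨((2 * k + 1) ^ 4 * ((2 * k + 1) ^ 4 + (2 * k + 1) ^ 2 + 1) - 1) / 2, ?_⟩
  have : ((2 * k + 1) ^ 4 * ((2 * k + 1) ^ 4 + (2 * k + 1) ^ 2 + 1)) % 2 = 1 := by
    simp [Nat.mul_mod, Nat.add_mod, Nat.pow_mod]
  omega

/-! ### the main theorem -/

theorem tor_injective_snd (h2 : (2 : F) ≠ 0) : (tor (-1) (-1) : GG F) ≠ tor (-1) 1 := by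
  intro h
  have h1 : torGL (-1 : Fˣ) (-1) = torGL (-1 : Fˣ) 1 := congrArg Subtype.val h
  have h3 : torGL (1 : Fˣ) (-1) = 1 := by
    have : torGL (1 : Fˣ) (-1) = torGL (-1 : Fˣ) (-1) * (torGL (-1 : Fˣ) 1)⁻¹ := by
      rw [torGL_inv, torGL_mul]
      simp
    rw [this, h1, mul_inv_cancel]
  have := (torGL_eq_one _ _ h3).2
  apply h2
  have h4 := congrArg (fun u : Fˣ => (u : F)) this
  simp only [Units.val_neg, Units.val_one] at h4
  linear_combination -h4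

/-- every involution of `G₂(q)`, `q` odd, is conjugate to `z = h_a(-1)` -/
theorem isConj_z [Fintype F] (hF : Odd (Fintype.card F)) (s : GG F) (hs : orderOf s = 2) :
    IsConj s (pairG2 F).z := by
  classical
  have h2 := two_ne_zero_of_odd hF
  have hodd : Fintype.card F % 2 = 1 := Nat.odd_iff.mp hF
  have hchar : ringChar F ≠ 2 := by
    intro h
    apply h2
    have := CharP.cast_eq_zero F (ringChar F)
    rw [h] at this
    exact_mod_cast this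
  obtain ⟨ν0, hν0⟩ := FiniteField.exists_nonsquare hchar
  have hν00 : ν0 ≠ 0 := by
    rintro rfl
    exact hν0 ⟨0, by simp⟩
  set ν : Fˣ := Units.mk0 ν0 hν00 with hν
  have hνns : ¬ IsSquare ν := by
    rw [isSquare_units_iff]
    exact hν0
  obtain ⟨ζa, ζb, hζ⟩ := nG_conj_t0 (F := F)
  set u : Fˣ := ν * ζb⁻¹ with hu
  have hconjz : (nG : GG F) * (pairG2 F).z * nG⁻¹ = tor (-1) (-1) := by
    rw [z_eq, nG_conj_tor]
    congr 1
    rw [inv_one, mul_one, Odd.neg_one_pow (by decide)]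
  have ht' : (nG : GG F) * (t0 * tor u 1) * nG⁻¹ = t0 * tor (ζa * u) (ζb * u ^ 3) := by
    calc (nG : GG F) * (t0 * tor u 1) * nG⁻¹ = (nG * t0 * nG⁻¹) * (nG * tor u 1 * nG⁻¹) := by group
      _ = t0 * tor (ζa * u) (ζb * u ^ 3) := by
        rw [hζ, nG_conj_tor, mul_assoc, tor_mul, inv_one, mul_one]
  obtain ⟨p1, p2, p3, p4, p5⟩ := t0_tor_props h2 u (1 : Fˣ)
  obtain ⟨q1, q2, q3, q4, q5⟩ := t0_tor_props h2 (ζa * u) (ζb * u ^ 3)
  have hns : ¬ IsSquare (ζb * u ^ 3) := by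
    rw [isSquare_units_iff]
    rintro ⟨r, hr⟩
    apply hν0
    have hζ0 : (ζb : F) ≠ 0 := ζb.ne_zero
    refine ⟨r * (ζb : F) / ν0, ?_⟩
    rw [hu] at hr
    simp only [Units.val_mul, Units.val_pow_eq_pow_val, Units.val_inv_eq_inv_val, hν, Units.val_mk0] at hr
    field_simp
    field_simp at hr
    linear_combination hr
  apply (pairG2 F).all_invol_conj h2 hodd (odd_index hF) nG
    (by rw [hconjz]; exact tor_mem_M _ _)
    (by rw [hconjz, z_eq]; exact tor_injective_snd h2)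
    (t0 * tor u 1) (t0 * tor (ζa * u) (ζb * u ^ 3))
    (p5.mpr ⟨1, by simp⟩) p2 p3 p4 q1 (fun h => hns (q5.mp h)) q2
    (isConj_iff.mpr ⟨nG, ht'⟩) s hs

end Cfsg.Agent.Lib.Helper46_G2Fusion
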