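import Cfsg.Agent.Lib.Helper46_G2Base

set_option autoImplicit false

/-!
The homomorphisms `SL₂(F) → G₂(F)` attached to the roots, their values on the standard elements, the
commutation of the homomorphisms of the orthogonal roots `3a+2b` and `a`, the action of the torus, injectivity.
-/

namespace Cfsg.Agent.Lib.Helper46_G2Hom

open Cfsg Cfsg.Lie
open Cfsg.Agent.Lib.Helper18_ChevWeyl Cfsg.Agent.Lib.Helper18_ChevGL Cfsg.Agent.Lib.Helper18_ChevTorus
  Cfsg.Agent.Lib.Helper18_ChevDiag Cfsg.Agent.Lib.Helper18_ChevCar Cfsg.Agent.Lib.Helper18_ChevBorel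
  Cfsg.Agent.Lib.Helper18_ChevBN Cfsg.Agent.Lib.Helper18_ChevMono Cfsg.Agent.Lib.Helper18_ChevUni
  Cfsg.Agent.Lib.Helper18_ChevFacts
  Cfsg.Agent.Lib.Helper46_PairGroup Cfsg.Agent.Lib.Helper5_SteinbergA Cfsg.Agent.Lib.Helper5_SLPresA
  Cfsg.Agent.Lib.Helper46_G2Base

variable {F : Type*} [Field F]

/-! ### matrices in `SL₂` -/

/-- the Weyl element of `SL₂` -/
def Jm : SL2 F := ⟨!![0, 1; -1, 0], by simp [Matrix.det_fin_two]⟩

theorem Jm_eq : (Jm : SL2 F) = mx (true, 1) * mx (false, -(1 : F)⁻¹) * mx (true, 1) := by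
  apply Subtype.ext
  simp only [Matrix.SpecialLinearGroup.coe_mul, mx_true, mx_false, Jm]
  ext i j
  fin_cases i <;> fin_cases j <;> simp [Matrix.mul_apply, Fin.sum_univ_two]

theorem dg_eq (δ : Fˣ) : dg δ = mx (true, (δ : F)) * mx (false, -(δ : F)⁻¹) * mx (true, (δ : F)) *
    (mx (true, (-1 : F)) * mx (false, -(-1 : F)⁻¹) * mx (true, (-1 : F))) := by
  apply Subtype.ext
  simp only [Matrix.SpecialLinearGroup.coe_mul, mx_true, mx_false, dg]
  have hd : (δ : F) ≠ 0 := δ.ne_zero
  ext i j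
  fin_cases i <;> fin_cases j <;> simp [Matrix.mul_apply, Fin.sum_univ_two] <;> field_simp <;> ring

theorem dg_mul (a b : Fˣ) : dg a * dg b = dg (a * b) := by
  apply Subtype.ext
  rw [Matrix.SpecialLinearGroup.coe_mul]
  ext i j
  fin_cases i <;> fin_cases j <;> simp [dg, Matrix.mul_apply, Fin.sum_univ_two, mul_comm]

theorem dg_neg_one : dg (-1 : Fˣ) = -1 := by
  apply Subtype.ext
  ext i j
  fin_cases i <;> fin_cases j <;> simp [dg]

theorem conjD_true (ε : Fˣ) (t : F) : conjD ε (mx (true, t)) = mx (true, (ε : F) * t) := by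
  apply Subtype.ext
  ext i j
  fin_cases i <;> fin_cases j <;> simp [conjD, mx_true]

theorem conjD_false (ε : Fˣ) (t : F) : conjD ε (mx (false, t)) = mx (false, ((ε⁻¹ : Fˣ) : F) * t) := by
  apply Subtype.ext
  ext i j
  fin_cases i <;> fin_cases j <;> simp [conjD, mx_false]

theorem conjD_mul (ε : Fˣ) (X Y : SL2 F) : conjD ε (X * Y) = conjD ε X * conjD ε Y := by
  apply Subtype.ext
  rw [Matrix.SpecialLinearGroup.coe_mul, conjD_coe, conjD_coe, conjD_coe, Matrix.SpecialLinearGroup.coe_mul]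
  have e1 : Dm ((ε⁻¹ : Fˣ) : F) * Dm (ε : F) = 1 := by
    rw [Dm_mul, units_inv_mul_val, Dm_one]
  calc Dm (ε : F) * (X.1 * Y.1) * Dm ((ε⁻¹ : Fˣ) : F)
      = Dm (ε : F) * X.1 * (1 : M2 F) * Y.1 * Dm ((ε⁻¹ : Fˣ) : F) := by
        rw [Matrix.mul_one]; simp only [Matrix.mul_assoc]
    _ = Dm (ε : F) * X.1 * Dm ((ε⁻¹ : Fˣ) : F) * (Dm (ε : F) * Y.1 * Dm ((ε⁻¹ : Fˣ) : F)) := by
        rw [← e1]; simp only [Matrix.mul_assoc]

theorem conjD_one (ε : Fˣ) : conjD ε (1 : SL2 F) = 1 := by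
  apply Subtype.ext
  rw [conjD_coe, Matrix.SpecialLinearGroup.coe_one, Matrix.mul_one, Dm_mul, units_mul_inv_val, Dm_one]

/-- conjugation by `diag(ε,1)` as a homomorphism -/
def conjDHom (ε : Fˣ) : SL2 F →* SL2 F where
  toFun := conjD ε
  map_one' := conjD_one ε
  map_mul' := conjD_mul ε

/-- every element of `SL₂` lies in a subgroup containing the elementary matrices -/
theorem mem_of_mx (S : Subgroup (SL2 F)) (h : ∀ p, mx p ∈ S) (A : SL2 F) : A ∈ S := by
  have : (⊤ : Subgroup (SL2 F)) ≤ S := by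
    rw [← closure_mx, Subgroup.closure_le]
    rintro _ ⟨p, rfl⟩
    exact h p
  exact this (Subgroup.mem_top A)

/-! ### the homomorphisms -/

/-- the homomorphism attached to the root `r`, into the general linear group -/
noncomputable def phiGL (r : ℕ) (hr : r < chevG2.nroots) : SL2 F →* GL chevG2.Idx F :=
  (Cfsg.Agent.S1030.result (F := F) chevG2 memG2 r hr).choose

theorem phiGL_true (r : ℕ) (hr : r < chevG2.nroots) (t : F) : phiGL r hr (mx (true, t)) = xGL cG r t := by
  apply Units.ext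
  rw [xGL_coe]
  exact ((Cfsg.Agent.S1030.result (F := F) chevG2 memG2 r hr).choose_spec.2 _ t).1 (mx_true t)

theorem phiGL_false (r : ℕ) (hr : r < chevG2.nroots) (t : F) :
    phiGL r hr (mx (false, t)) = xGL cG (chevG2.neg r) t := by
  apply Units.ext
  rw [xGL_coe]
  exact ((Cfsg.Agent.S1030.result (F := F) chevG2 memG2 r hr).choose_spec.2 _ t).2 (mx_false t)

theorem phiGL_mem (r : ℕ) (hr : r < chevG2.nroots) (A : SL2 F) : phiGL r hr A ∈ chevG2.group F := by
  apply mem_of_mx ((chevG2.group F).comap (phiGL r hr))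
  rintro ⟨b, t⟩
  rw [Subgroup.mem_comap]
  cases b
  · rw [phiGL_false]
    exact xGL_mem_group cG _ t
  · rw [phiGL_true]
    exact xGL_mem_group cG _ t

theorem phiGL_dg (r : ℕ) (hr : r < chevG2.nroots) (δ : Fˣ) : phiGL r hr (dg δ) = hGL cG r (δ : F) := by
  rw [dg_eq]
  simp only [map_mul, phiGL_true, phiGL_false]
  simp [hGL, wordGL, ChevalleyDatum.hWord, ChevalleyDatum.nWord, mul_assoc]

theorem phiGL_J (r : ℕ) (hr : r < chevG2.nroots) : phiGL r hr (Jm : SL2 F) = nrGL cG r 1 := by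
  rw [Jm_eq]
  simp only [map_mul, phiGL_true, phiGL_false]
  simp [nrGL, wordGL, ChevalleyDatum.nWord, mul_assoc]

/-! ### commutation -/

theorem x_comm (r s : ℕ) (hr : r < chevG2.nroots) (hs : s < chevG2.nroots) (hrs : s ≠ r)
    (hneg : s ≠ chevG2.neg r) (hw : chevG2.commTerms r s = []) (t u : F) :
    xGL cG s u * xGL cG r t = xGL cG r t * xGL cG s u := by
  apply Units.ext
  rw [Units.val_mul, Units.val_mul, xGL_coe, xGL_coe]
  have := r2G (F := F) r s hr hs hrs hneg t u
  rw [this]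
  unfold ChevalleyDatum.commWord
  rw [hw]
  simp [ChevalleyDatum.wordMat]

theorem phiGL_comm_mx (p q : Bool × F) :
    phiGL 11 (by decide) (mx p) * phiGL 7 (by decide) (mx q) =
      phiGL 7 (by decide) (mx q) * phiGL 11 (by decide) (mx p) := by
  obtain ⟨b, t⟩ := p
  obtain ⟨b', u⟩ := q
  have n11 : chevG2.neg 11 = 0 := by decide
  have n7 : chevG2.neg 7 = 4 := by decide
  cases b <;> cases b'
  · rw [phiGL_false, phiGL_false, n11, n7]
    exact (x_comm 4 0 (by decide) (by decide) (by decide) (by decide) (by decide) u t)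
  · rw [phiGL_false, phiGL_true, n11]
    exact (x_comm 7 0 (by decide) (by decide) (by decide) (by decide) (by decide) u t)
  · rw [phiGL_true, phiGL_false, n7]
    exact (x_comm 4 11 (by decide) (by decide) (by decide) (by decide) (by decide) u t)
  · rw [phiGL_true, phiGL_true]
    exact (x_comm 7 11 (by decide) (by decide) (by decide) (by decide) (by decide) u t)

theorem phiGL_comm (A B : SL2 F) :
    phiGL 11 (by decide) A * phiGL 7 (by decide) B = phiGL 7 (by decide) B * phiGL 11 (by decide) A := by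
  have step : ∀ (p : Bool × F) (B : SL2 F), phiGL 11 (by decide) (mx p) * phiGL 7 (by decide) B =
      phiGL 7 (by decide) B * phiGL 11 (by decide) (mx p) := by
    intro p B
    have := mem_of_mx ((Subgroup.centralizer {phiGL 11 (by decide) (mx p)}).comap (phiGL 7 (by decide)))
      (fun q => by
        rw [Subgroup.mem_comap, Subgroup.mem_centralizer_iff]
        intro x hx
        rw [Set.mem_singleton_iff] at hx
        rw [hx]
        exact phiGL_comm_mx p q) B
    rw [Subgroup.mem_comap, Subgroup.mem_centralizer_iff] at this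
    exact this _ rfl
  have := mem_of_mx ((Subgroup.centralizer {phiGL 7 (by decide) B}).comap (phiGL 11 (by decide)))
    (fun p => by
      rw [Subgroup.mem_comap, Subgroup.mem_centralizer_iff]
      intro x hx
      rw [Set.mem_singleton_iff] at hx
      rw [hx]
      exact (step p B).symm) A
  rw [Subgroup.mem_comap, Subgroup.mem_centralizer_iff] at this
  exact (this _ rfl).symm

/-! ### the action of the torus -/

theorem torGL_conj_phiGL (a b ε : Fˣ) (r : ℕ) (hr : r < chevG2.nroots) (h1 : chi a b r = (ε : F))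
    (h2 : chi a b (chevG2.neg r) = ((ε⁻¹ : Fˣ) : F)) (hn : chevG2.neg r < chevG2.nroots) (A : SL2 F) :
    torGL a b * phiGL r hr A * (torGL a b)⁻¹ = phiGL r hr (conjD ε A) := by
  have key : (MulAut.conj (torGL a b)).toMonoidHom.comp (phiGL r hr) = (phiGL r hr).comp (conjDHom ε) := by
    apply hom_ext_mx
    rintro ⟨b', t⟩
    show torGL a b * phiGL r hr (mx (b', t)) * (torGL a b)⁻¹ = phiGL r hr (conjD ε (mx (b', t)))
    cases b'
    · rw [conjD_false, phiGL_false, phiGL_false, torGL_conj a b _ hn, h2]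
    · rw [conjD_true, phiGL_true, phiGL_true, torGL_conj a b _ hr, h1]
  exact DFunLike.congr_fun key A

theorem chi_11 (δ : Fˣ) : chi δ δ 11 = (δ : F) := by
  unfold chi
  have h0 : chevG2.cartan 0 11 = 0 := by decide
  have h1 : chevG2.cartan 1 11 = 1 := by decide
  rw [h0, h1, zpow_zero, zpow_one, one_mul]

theorem chi_0 (δ : Fˣ) : chi δ δ 0 = ((δ⁻¹ : Fˣ) : F) := by
  unfold chi
  have h0 : chevG2.cartan 0 0 = 0 := by decide
  have h1 : chevG2.cartan 1 0 = -1 := by decide
  rw [h0, h1, zpow_zero, zpow_neg_one, one_mul, Units.val_inv_eq_inv_val]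

theorem chi_7 (δ : Fˣ) : chi δ δ 7 = (δ : F) := by
  unfold chi
  have h0 : chevG2.cartan 0 7 = 2 := by decide
  have h1 : chevG2.cartan 1 7 = -1 := by decide
  rw [h0, h1, zpow_neg_one]
  have : (δ : F) ≠ 0 := δ.ne_zero
  field_simp

theorem chi_4 (δ : Fˣ) : chi δ δ 4 = ((δ⁻¹ : Fˣ) : F) := by
  unfold chi
  have h0 : chevG2.cartan 0 4 = -2 := by decide
  have h1 : chevG2.cartan 1 4 = 1 := by decide
  rw [h0, h1, zpow_one, Units.val_inv_eq_inv_val]
  have : (δ : F) ≠ 0 := δ.ne_zero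
  rw [zpow_neg]
  field_simp

theorem h0_conj_11 (δ : Fˣ) (A : SL2 F) :
    torGL δ δ * phiGL 11 (by decide) A * (torGL δ δ)⁻¹ = phiGL 11 (by decide) (conjD δ A) :=
  torGL_conj_phiGL δ δ δ 11 (by decide) (chi_11 δ) (by rw [show chevG2.neg 11 = 0 by decide]; exact chi_0 δ)
    (by decide) A

theorem h0_conj_7 (δ : Fˣ) (A : SL2 F) :
    torGL δ δ * phiGL 7 (by decide) A * (torGL δ δ)⁻¹ = phiGL 7 (by decide) (conjD δ A) :=
  torGL_conj_phiGL δ δ δ 7 (by decide) (chi_7 δ) (by rw [show chevG2.neg 7 = 4 by decide]; exact chi_4 δ)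
    (by decide) A

end Cfsg.Agent.Lib.Helper46_G2Hom
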