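import Cfsg.Agent.Lib.Helper46_G2Data

set_option autoImplicit false

/-!
Weyl group computations in `G₂`: the elements `n_{3a+2b}`, `n_a` and the element `t₀ = n_{3a+2b} n_a`
which acts as `-1` on the roots, so that `n_b t₀ n_b⁻¹ ∈ t₀ H`.
-/

namespace Cfsg.Agent.Lib.Helper46_G2Weyl

open Cfsg Cfsg.Lie
open Cfsg.Agent.Lib.Helper18_ChevWeyl Cfsg.Agent.Lib.Helper18_ChevGL Cfsg.Agent.Lib.Helper18_ChevTorus
  Cfsg.Agent.Lib.Helper18_ChevDiag Cfsg.Agent.Lib.Helper18_ChevCar Cfsg.Agent.Lib.Helper18_ChevBorel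
  Cfsg.Agent.Lib.Helper18_ChevBN Cfsg.Agent.Lib.Helper18_ChevMono Cfsg.Agent.Lib.Helper18_ChevUni
  Cfsg.Agent.Lib.Helper18_ChevFacts Cfsg.Agent.Lib.Helper18_ChevSimp Cfsg.Agent.Lib.Helper18_ChevBNPair
  Cfsg.Agent.Lib.Helper18_ChevRootHom
  Cfsg.Agent.Lib.Helper46_PairGroup Cfsg.Agent.Lib.Helper46_G2Base Cfsg.Agent.Lib.Helper46_G2Hom
  Cfsg.Agent.Lib.Helper46_G2Data

variable {F : Type*} [Field F]

/-- the fundamental `n_i` as elements of `N` -/
def nN (i : ℕ) (hi : i < chevG2.rank) : ↥(chevG2.monomialSubgroup F) := ⟨nGL cG i, nGL_mem_monomial cG i hi⟩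

/-- the action of `N` on the roots -/
noncomputable def rho : ↥(chevG2.monomialSubgroup F) →* Equiv.Perm (Fin chevG2.nroots) := rootHom cG tG aG

theorem rho_nN (i : ℕ) (hi : i < chevG2.rank) : rho (nN (F := F) i hi) = reflPerm cG i hi :=
  rootHom_nGL cG tG aG i hi _

theorem mem_diag_of_rho (n : ↥(chevG2.monomialSubgroup F)) (h : rho n = 1) :
    (n : GL chevG2.Idx F) ∈ chevG2.diagonalSubgroup F :=
  mem_diagonal_of_rootHom_eq_one cG tG aG gG r2G n h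

theorem rho_of_mem_diag (n : ↥(chevG2.monomialSubgroup F)) (h : (n : GL chevG2.Idx F) ∈ chevG2.diagonalSubgroup F) :
    rho n = 1 := by
  have : n ∈ (rootHom (F := F) cG tG aG).ker := by
    rw [rootHom_ker cG tG aG gG r2G, Subgroup.mem_subgroupOf]
    exact h
  exact this

theorem nr7_eq : nrGL cG 7 (1 : F) = nGL cG 0 := by
  have : chevG2.simple 0 = 7 := by decide
  rw [← this]
  rfl

theorem nr6_eq : nrGL cG 6 (1 : F) = nGL cG 1 := by
  have : chevG2.simple 1 = 6 := by decide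
  rw [← this]
  rfl

theorem nr10_eq : nrGL cG 10 (1 : F) = nGL cG 0 * nGL cG 1 * (nGL cG 0)⁻¹ := by
  have h := nrGL_reflect (F := F) cG 0 (by decide) 6 (by decide) 1
  have e1 : chevG2.reflectRoot 0 6 = 10 := by decide
  have e2 : etaZ Cfsg.Agent.Lib.Helper18_ChevDatumG2.Ns 0 6 = 1 := by decide
  rw [e1, e2, Int.cast_one, one_mul, nr6_eq] at h
  exact h

theorem nr11_eq : nrGL cG 11 (1 : F) =
    nGL cG 1 * (nGL cG 0 * nGL cG 1 * (nGL cG 0)⁻¹) * (nGL cG 1)⁻¹ := by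
  have h := nrGL_reflect (F := F) cG 1 (by decide) 10 (by decide) 1
  have e1 : chevG2.reflectRoot 1 10 = 11 := by decide
  have e2 : etaZ Cfsg.Agent.Lib.Helper18_ChevDatumG2.Ns 1 10 = 1 := by decide
  rw [e1, e2, Int.cast_one, one_mul, nr10_eq] at h
  exact h

/-- `t₀` as an element of `N` -/
def t0N : ↥(chevG2.monomialSubgroup F) :=
  nN 1 (by decide) * (nN 0 (by decide) * nN 1 (by decide) * (nN 0 (by decide))⁻¹) * (nN 1 (by decide))⁻¹ *
    nN 0 (by decide)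

theorem t0N_coe : ((t0N : ↥(chevG2.monomialSubgroup F)) : GL chevG2.Idx F) =
    nrGL cG 11 (1 : F) * nrGL cG 7 (1 : F) := by
  rw [nr11_eq, nr7_eq]
  rfl

/-- `ζ = t₀⁻¹ n_b t₀ n_b⁻¹` lies in `H` -/
theorem zeta_mem : ((t0N : ↥(chevG2.monomialSubgroup F)) : GL chevG2.Idx F)⁻¹ * nGL cG 1 *
    ((t0N : ↥(chevG2.monomialSubgroup F)) : GL chevG2.Idx F) * (nGL cG 1)⁻¹ ∈ chevG2.diagonalSubgroup F := by
  have h : rho ((t0N : ↥(chevG2.monomialSubgroup F))⁻¹ * nN 1 (by decide) * t0N * (nN 1 (by decide))⁻¹) = 1 := by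
    unfold t0N
    simp only [map_mul, map_inv, rho_nN]
    decide
  exact mem_diag_of_rho _ h

end Cfsg.Agent.Lib.Helper46_G2Weyl
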