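import Mathlib
import Cfsg.Prelude.Def_Classical

set_option autoImplicit false
set_option linter.unusedVariables false
set_option linter.unusedSectionVars false

namespace Cfsg.Agent.Lib.Helper46_GU2

section field
variable {F : Type*} [Field F] [Fintype F] {q : ℕ}

theorem one_lt_q (hF : Fintype.card F = q ^ 2) : 1 < q := by
  have h1 := Fintype.one_lt_card (α := F)
  rw [hF] at h1
  by_contra h
  have : q ≤ 1 := by omega
  interval_cases q <;> simp at h1

theorem pow_q_pow_q (hF : Fintype.card F = q ^ 2) (x : F) : (x ^ q) ^ q = x := by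
  rw [← pow_mul, ← pow_two, ← hF, FiniteField.pow_card]

theorem exists_char (hF : Fintype.card F = q ^ 2) :
    ∃ p j : ℕ, ∃ _ : Fact p.Prime, ∃ _ : CharP F p, q = p ^ j := by
  obtain ⟨p, hp⟩ := CharP.exists F
  obtain ⟨n, hpp, hn⟩ := FiniteField.card F p
  have hq : q ∣ p ^ (n : ℕ) := by rw [← hn, hF]; exact dvd_pow_self q two_ne_zero
  obtain ⟨j, _, hj⟩ := (Nat.dvd_prime_pow hpp).mp hq
  exact ⟨p, j, ⟨hpp⟩, hp, hj⟩

theorem add_pow_q (hF : Fintype.card F = q ^ 2) (x y : F) : (x + y) ^ q = x ^ q + y ^ q := by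
  obtain ⟨p, j, hp, hc, rfl⟩ := exists_char hF
  exact add_pow_char_pow x y p j

theorem sub_pow_q (hF : Fintype.card F = q ^ 2) (x y : F) : (x - y) ^ q = x ^ q - y ^ q := by
  obtain ⟨p, j, hp, hc, rfl⟩ := exists_char hF
  exact sub_pow_char_pow x y j

theorem two_pow_q (hF : Fintype.card F = q ^ 2) : (2 : F) ^ q = 2 := by
  have : (2 : F) = 1 + 1 := by norm_num
  rw [this, add_pow_q hF, one_pow]

theorem norm_fixed (hF : Fintype.card F = q ^ 2) (a : F) : (a ^ (q + 1)) ^ q = a ^ (q + 1) := by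
  rw [pow_succ, mul_pow, pow_q_pow_q hF, mul_comm]

theorem sq_sub_one (hq : 1 ≤ q) : q ^ 2 - 1 = (q + 1) * (q - 1) := by
  obtain ⟨k, rfl⟩ : ∃ k, q = k + 1 := ⟨q - 1, by omega⟩
  rw [Nat.add_sub_cancel]
  apply Nat.sub_eq_of_eq_add
  ring

theorem card_units_eq (hF : Fintype.card F = q ^ 2) : Nat.card Fˣ = (q + 1) * (q - 1) := by
  rw [Nat.card_units, Nat.card_eq_fintype_card, hF, sq_sub_one (one_lt_q hF).le]

theorem card_norm_one (hF : Fintype.card F = q ^ 2) :
    Nat.card {x : F // x ^ (q + 1) = 1} = q + 1 := by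
  have e : {x : F // x ^ (q + 1) = 1} ≃ (powMonoidHom (q + 1) : Fˣ →* Fˣ).ker :=
    { toFun := fun x => ⟨Units.mk0 x.1 (by
          intro h0
          have := x.2
          rw [h0, zero_pow (by omega)] at this
          exact zero_ne_one this), by
          rw [MonoidHom.mem_ker, powMonoidHom_apply]
          apply Units.ext
          rw [Units.val_pow_eq_pow_val, Units.val_mk0, x.2, Units.val_one]⟩
      invFun := fun u => ⟨(u.1 : F), by
          have := u.2
          rw [MonoidHom.mem_ker, powMonoidHom_apply] at this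
          rw [← Units.val_pow_eq_pow_val, this, Units.val_one]⟩
      left_inv := fun x => Subtype.ext (by simp)
      right_inv := fun u => Subtype.ext (Units.ext (by simp)) }
  rw [Nat.card_congr e, IsCyclic.card_powMonoidHom_ker, card_units_eq hF]
  exact Nat.gcd_eq_right (dvd_mul_right _ _)

theorem exists_norm_eq (hF : Fintype.card F = q ^ 2) (t : F) (ht0 : t ≠ 0) (ht : t ^ q = t) :
    ∃ c : F, c ^ (q + 1) = t := by
  have hq1 := one_lt_q hF
  have hle : (powMonoidHom (q + 1) : Fˣ →* Fˣ).range ≤ (powMonoidHom (q - 1) : Fˣ →* Fˣ).ker := by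
    rintro _ ⟨u, rfl⟩
    rw [MonoidHom.mem_ker, powMonoidHom_apply, powMonoidHom_apply, ← pow_mul, ← card_units_eq hF]
    exact pow_card_eq_one'
  have hcard : Nat.card (powMonoidHom (q - 1) : Fˣ →* Fˣ).ker ≤
      Nat.card (powMonoidHom (q + 1) : Fˣ →* Fˣ).range := by
    rw [IsCyclic.card_powMonoidHom_ker, IsCyclic.card_powMonoidHom_range, card_units_eq hF,
      Nat.gcd_eq_right (dvd_mul_left _ _), Nat.gcd_eq_right (dvd_mul_right _ _),
      Nat.mul_div_cancel_left _ (by omega)]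
  have heq := Subgroup.eq_of_le_of_card_ge hle hcard
  have hmem : Units.mk0 t ht0 ∈ (powMonoidHom (q - 1) : Fˣ →* Fˣ).ker := by
    rw [MonoidHom.mem_ker, powMonoidHom_apply]
    apply Units.ext
    rw [Units.val_pow_eq_pow_val, Units.val_mk0, Units.val_one]
    apply mul_right_cancel₀ ht0
    rw [← pow_succ, Nat.sub_add_cancel hq1.le, ht, one_mul]
  rw [← heq] at hmem
  obtain ⟨u, hu⟩ := hmem
  refine ⟨(u : F), ?_⟩
  rw [powMonoidHom_apply] at hu
  rw [← Units.val_pow_eq_pow_val, hu, Units.val_mk0]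

theorem card_norm_fiber (hF : Fintype.card F = q ^ 2) (t : F) (ht0 : t ≠ 0) (ht : t ^ q = t) :
    Nat.card {c : F // c ^ (q + 1) = t} = q + 1 := by
  obtain ⟨c₀, hc₀⟩ := exists_norm_eq hF t ht0 ht
  have hc0 : c₀ ≠ 0 := by
    rintro rfl
    rw [zero_pow (by omega)] at hc₀
    exact ht0 hc₀.symm
  have e : {c : F // c ^ (q + 1) = t} ≃ {x : F // x ^ (q + 1) = 1} :=
    { toFun := fun c => ⟨c.1 * c₀⁻¹, by rw [mul_pow, c.2, inv_pow, hc₀, mul_inv_cancel₀ ht0]⟩
      invFun := fun x => ⟨x.1 * c₀, by rw [mul_pow, x.2, one_mul, hc₀]⟩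
      left_inv := fun c => Subtype.ext (by simp [hc0])
      right_inv := fun x => Subtype.ext (by simp [hc0]) }
  rw [Nat.card_congr e, card_norm_one hF]

theorem card_norm_zero : Nat.card {c : F // c ^ (q + 1) = 0} = 1 := by
  rw [Nat.card_eq_one_iff_unique]
  refine ⟨⟨fun a b => Subtype.ext ?_⟩, ⟨⟨0, by simp⟩⟩⟩
  have ha := a.2
  have hb := b.2
  rw [pow_eq_zero_iff (by omega)] at ha hb
  rw [ha, hb]

theorem card_fiber_vec (hF : Fintype.card F = q ^ 2) [DecidableEq F] (a : F) :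
    Nat.card {c : F // a ^ (q + 1) + c ^ (q + 1) = 1} = if a ^ (q + 1) = 1 then 1 else q + 1 := by
  have e : {c : F // a ^ (q + 1) + c ^ (q + 1) = 1} ≃ {c : F // c ^ (q + 1) = 1 - a ^ (q + 1)} :=
    Equiv.subtypeEquivRight (fun c => by
      constructor <;> intro h <;> linear_combination h)
  rw [Nat.card_congr e]
  split_ifs with h
  · rw [h, sub_self]
    exact card_norm_zero
  · apply card_norm_fiber hF
    · intro h0
      apply h
      linear_combination -h0
    · rw [sub_pow_q hF, one_pow, norm_fixed hF]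

theorem card_vectors (hF : Fintype.card F = q ^ 2) :
    Nat.card {p : F × F // p.1 ^ (q + 1) + p.2 ^ (q + 1) = 1} =
      (q + 1) + (q ^ 2 - (q + 1)) * (q + 1) := by
  classical
  have e := Equiv.subtypeProdEquivSigmaSubtype (fun a c : F => a ^ (q + 1) + c ^ (q + 1) = 1)
  rw [Nat.card_congr e, Nat.card_sigma]
  simp_rw [card_fiber_vec hF]
  rw [Finset.sum_ite, Finset.sum_const, Finset.sum_const, smul_eq_mul, smul_eq_mul, mul_one]
  have h1 : (Finset.univ.filter (fun a : F => a ^ (q + 1) = 1)).card = q + 1 := by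
    rw [← Fintype.card_subtype, ← Nat.card_eq_fintype_card, card_norm_one hF]
  have h2 := Finset.card_filter_add_card_filter_not (s := (Finset.univ : Finset F)) (fun a : F => a ^ (q + 1) = 1)
  rw [h1, Finset.card_univ, hF] at h2
  rw [h1]
  congr 1
  congr 1
  omega

end field

section GU
open scoped MatrixGroups
variable {F : Type*} [Field F] [Fintype F] {q : ℕ}

/-- the unitary group of the statement -/
abbrev GU (F : Type*) [Field F] (q : ℕ) : Subgroup (GL (Fin 2) F) :=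
  Cfsg.preserving (Units.coeHom (Matrix (Fin 2) (Fin 2) F)) (Cfsg.hermForm 2 F q)

theorem hermForm_two (u v : Fin 2 → F) :
    Cfsg.hermForm 2 F q u v = u 0 * v 0 ^ q + u 1 * v 1 ^ q := by
  simp [Cfsg.hermForm, Fin.sum_univ_two]

theorem mem_GU_def (g : GL (Fin 2) F) : g ∈ GU F q ↔
    ∀ u v : Fin 2 → F, Cfsg.hermForm 2 F q ((g : Matrix (Fin 2) (Fin 2) F).mulVec u)
      ((g : Matrix (Fin 2) (Fin 2) F).mulVec v) = Cfsg.hermForm 2 F q u v := Iff.rfl

theorem mulVec_two (M : Matrix (Fin 2) (Fin 2) F) (u : Fin 2 → F) :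
    M.mulVec u = ![M 0 0 * u 0 + M 0 1 * u 1, M 1 0 * u 0 + M 1 1 * u 1] := by
  funext i
  fin_cases i <;> simp [Matrix.mulVec, dotProduct, Fin.sum_univ_two]

theorem mem_GU_iff (hF : Fintype.card F = q ^ 2) (g : GL (Fin 2) F) : g ∈ GU F q ↔
    ((g : Matrix (Fin 2) (Fin 2) F) 0 0 * (g : Matrix (Fin 2) (Fin 2) F) 0 0 ^ q +
        (g : Matrix (Fin 2) (Fin 2) F) 1 0 * (g : Matrix (Fin 2) (Fin 2) F) 1 0 ^ q = 1 ∧
      (g : Matrix (Fin 2) (Fin 2) F) 0 0 * (g : Matrix (Fin 2) (Fin 2) F) 0 1 ^ q +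
        (g : Matrix (Fin 2) (Fin 2) F) 1 0 * (g : Matrix (Fin 2) (Fin 2) F) 1 1 ^ q = 0 ∧
      (g : Matrix (Fin 2) (Fin 2) F) 0 1 * (g : Matrix (Fin 2) (Fin 2) F) 0 0 ^ q +
        (g : Matrix (Fin 2) (Fin 2) F) 1 1 * (g : Matrix (Fin 2) (Fin 2) F) 1 0 ^ q = 0 ∧
      (g : Matrix (Fin 2) (Fin 2) F) 0 1 * (g : Matrix (Fin 2) (Fin 2) F) 0 1 ^ q +
        (g : Matrix (Fin 2) (Fin 2) F) 1 1 * (g : Matrix (Fin 2) (Fin 2) F) 1 1 ^ q = 1) := by
  have hq0 : q ≠ 0 := by have := one_lt_q hF; omega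
  rw [mem_GU_def]
  generalize (g : Matrix (Fin 2) (Fin 2) F) = M
  constructor
  · intro h
    have h00 := h (Pi.single 0 1) (Pi.single 0 1)
    have h01 := h (Pi.single 0 1) (Pi.single 1 1)
    have h10 := h (Pi.single 1 1) (Pi.single 0 1)
    have h11 := h (Pi.single 1 1) (Pi.single 1 1)
    simp only [Matrix.mulVec_single_one, hermForm_two, Matrix.col_apply] at h00 h01 h10 h11
    simp [hq0] at h00 h01 h10 h11
    exact ⟨h00, h01, h10, h11⟩
  · rintro ⟨h1, h2, h3, h4⟩ u v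
    rw [mulVec_two, mulVec_two, hermForm_two, hermForm_two]
    simp only [Matrix.cons_val_zero, Matrix.cons_val_one]
    rw [add_pow_q hF, add_pow_q hF, mul_pow, mul_pow, mul_pow, mul_pow]
    linear_combination (u 0 * v 0 ^ q) * h1 + (u 0 * v 1 ^ q) * h2 + (u 1 * v 0 ^ q) * h3 +
      (u 1 * v 1 ^ q) * h4

theorem second_col (a b c d : F)
    (h1 : a * a ^ q + c * c ^ q = 1) (h3 : b * a ^ q + d * c ^ q = 0) :
    b = -((a * d - b * c) * c ^ q) ∧ d = (a * d - b * c) * a ^ q := by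
  constructor
  · linear_combination (-b) * h1 + a * h3
  · linear_combination (-d) * h1 + c * h3

theorem norm_det (hF : Fintype.card F = q ^ 2) (hq : Odd q) (a b c d l : F)
    (h1 : a * a ^ q + c * c ^ q = 1) (h4 : b * b ^ q + d * d ^ q = 1)
    (hb : b = -(l * c ^ q)) (hd : d = l * a ^ q) : l ^ (q + 1) = 1 := by
  rw [hb, hd, hq.neg_pow, mul_pow, mul_pow, pow_q_pow_q hF, pow_q_pow_q hF] at h4
  rw [pow_succ]
  linear_combination h4 - (l ^ q * l) * h1

/-- the parametrising map -/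
noncomputable def param (hF : Fintype.card F = q ^ 2) (hq : Odd q) (g : GU F q) :
    {p : F × F // p.1 ^ (q + 1) + p.2 ^ (q + 1) = 1} × {l : F // l ^ (q + 1) = 1} :=
  ⟨⟨(((g : GL (Fin 2) F) : Matrix (Fin 2) (Fin 2) F) 0 0,
      ((g : GL (Fin 2) F) : Matrix (Fin 2) (Fin 2) F) 1 0), by
      have h := ((mem_GU_iff hF (g : GL (Fin 2) F)).mp g.2).1
      rw [pow_succ, pow_succ, mul_comm _ (_ : F), mul_comm (_ ^ q) (_ : F)]
      exact h⟩,
    ⟨(((g : GL (Fin 2) F) : Matrix (Fin 2) (Fin 2) F)).det, by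
      obtain ⟨h1, h2, h3, h4⟩ := (mem_GU_iff hF (g : GL (Fin 2) F)).mp g.2
      obtain ⟨hb, hd⟩ := second_col _ _ _ _ h1 h3
      rw [Matrix.det_fin_two]
      exact norm_det hF hq _ _ _ _ _ h1 h4 hb hd⟩⟩

theorem param_injective (hF : Fintype.card F = q ^ 2) (hq : Odd q) :
    Function.Injective (param hF hq) := by
  intro g g' h
  obtain ⟨h1, h2, h3, h4⟩ := (mem_GU_iff hF (g : GL (Fin 2) F)).mp g.2
  obtain ⟨h1', h2', h3', h4'⟩ := (mem_GU_iff hF (g' : GL (Fin 2) F)).mp g'.2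
  obtain ⟨hb, hd⟩ := second_col _ _ _ _ h1 h3
  obtain ⟨hb', hd'⟩ := second_col _ _ _ _ h1' h3'
  have e1 := congrArg (fun x => x.1.1.1) h
  have e2 := congrArg (fun x => x.1.1.2) h
  have e3 := congrArg (fun x => x.2.1) h
  simp only [param] at e1 e2 e3
  rw [Matrix.det_fin_two, Matrix.det_fin_two] at e3
  apply Subtype.ext
  apply Units.ext
  ext i j
  fin_cases i <;> fin_cases j
  · exact e1
  · show ((g : GL (Fin 2) F) : Matrix (Fin 2) (Fin 2) F) 0 1 = ((g' : GL (Fin 2) F) : Matrix (Fin 2) (Fin 2) F) 0 1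
    rw [hb, hb', e3, e2]
  · exact e2
  · show ((g : GL (Fin 2) F) : Matrix (Fin 2) (Fin 2) F) 1 1 = ((g' : GL (Fin 2) F) : Matrix (Fin 2) (Fin 2) F) 1 1
    rw [hd, hd', e3, e1]

theorem param_surjective (hF : Fintype.card F = q ^ 2) (hq : Odd q) :
    Function.Surjective (param hF hq) := by
  rintro ⟨⟨⟨a, c⟩, hac⟩, ⟨l, hl⟩⟩
  simp only at hac
  have hdet : (!![a, -(l * c ^ q); c, l * a ^ q] : Matrix (Fin 2) (Fin 2) F).det = l := by
    rw [Matrix.det_fin_two_of]
    rw [pow_succ] at hac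
    rw [pow_succ] at hac
    linear_combination l * hac
  have hl0 : l ≠ 0 := by
    rintro rfl
    rw [zero_pow (by omega)] at hl
    exact zero_ne_one hl
  let g : GL (Fin 2) F := Matrix.GeneralLinearGroup.mkOfDetNeZero
    (!![a, -(l * c ^ q); c, l * a ^ q] : Matrix (Fin 2) (Fin 2) F) (by rw [hdet]; exact hl0)
  have hg : (g : Matrix (Fin 2) (Fin 2) F) = !![a, -(l * c ^ q); c, l * a ^ q] := rfl
  have hmem : g ∈ GU F q := by
    rw [mem_GU_iff hF, hg]
    simp only [Matrix.of_apply, Matrix.cons_val', Matrix.cons_val_zero, Matrix.cons_val_one,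
      Matrix.cons_val_fin_one]
    rw [pow_succ, pow_succ] at hac
    rw [pow_succ] at hl
    refine ⟨by linear_combination hac, ?_, by ring, ?_⟩
    · rw [hq.neg_pow, mul_pow, mul_pow, pow_q_pow_q hF, pow_q_pow_q hF]
      ring
    · rw [hq.neg_pow, mul_pow, mul_pow, pow_q_pow_q hF, pow_q_pow_q hF]
      linear_combination (l ^ q * l) * hac + hl
  refine ⟨⟨g, hmem⟩, ?_⟩
  apply Prod.ext
  · apply Subtype.ext
    simp only [param]
    rw [hg]
    simp
  · apply Subtype.ext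
    simp only [param]
    rw [hg, hdet]

theorem card_GU (hF : Fintype.card F = q ^ 2) (hq : Odd q) :
    Nat.card (GU F q) = ((q + 1) + (q ^ 2 - (q + 1)) * (q + 1)) * (q + 1) := by
  rw [Nat.card_eq_of_bijective (param hF hq) ⟨param_injective hF hq, param_surjective hF hq⟩,
    Nat.card_prod, card_vectors hF, card_norm_one hF]

end GU

end Cfsg.Agent.Lib.Helper46_GU2
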