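import Mathlib
import Cfsg.Prelude.Def_Characters
import Cfsg.Prelude.Def_TwoFusion
import Cfsg.Prelude.Def_Solvable
import Cfsg.Agent.Lib.Helper80_CharBasic
import Cfsg.Agent.Lib.Helper80_CharComplete
import Cfsg.Agent.Lib.Helper3_CharBridge
import Cfsg.Agent.Lib.Helper75_CharArith
import Cfsg.Agent.Lib.Helper79_Linear
import Cfsg.Agent.Lib.Helper17_H27Defs
import Cfsg.Agent.Lib.Helper33_H27_MULT1
import Cfsg.Agent.Lib.Helper76_H648Defs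
import Cfsg.Agent.Lib.Helper86_H648_STRUCTaux

/-!
# S3702 package MULTJ (architect helper76)

`multJ_aux`: the statement `multJ` of the market, from the statement of `tabJ` (elements of `J` of equal
weight are conjugate in `G` to the representative `repW`) as an explicit hypothesis.
The numbers are multiplicities of linear characters of `J = ⟨a⟩ × ⟨b⟩ × ⟨c⟩` in the restriction of `χ`:
`m0` for the trivial character, `n_i = m_i - m0` with `m_1, m_2, m_3` for `ζ^x`, `ζ^(x+y)`, `ζ^(x+y+z)`.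
Also: `mult_gen` (general linear character `ζ^(p x + q y + r z)`), `rels` (`a, b, c` commute, of exponent 3).
-/

set_option autoImplicit false
set_option linter.unusedSectionVars false
open scoped ComplexConjugate

namespace Cfsg.Agent.Lib.Helper46_H648_MULTJ

open Cfsg Cfsg.Agent.Lib.Helper80_CharBasic
  Cfsg.Agent.Lib.Helper76_H648Defs
open Cfsg.Agent.Lib.Helper17_H27Defs (elt)

theorem sum_zmod3 {M : Type*} [AddCommMonoid M] (f : ZMod 3 → M) :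
    ∑ x : ZMod 3, f x = f 0 + f 1 + f 2 := by
  exact Fin.sum_univ_three (M := M) f

theorem sum27 {M : Type*} [AddCommMonoid M] (f : ZMod 3 × ZMod 3 × ZMod 3 → M) :
    ∑ e, f e =
      f ((0 : ZMod 3), (0 : ZMod 3), (0 : ZMod 3)) +
      f ((0 : ZMod 3), (0 : ZMod 3), (1 : ZMod 3)) +
      f ((0 : ZMod 3), (0 : ZMod 3), (2 : ZMod 3)) +
      f ((0 : ZMod 3), (1 : ZMod 3), (0 : ZMod 3)) +
      f ((0 : ZMod 3), (1 : ZMod 3), (1 : ZMod 3)) +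
      f ((0 : ZMod 3), (1 : ZMod 3), (2 : ZMod 3)) +
      f ((0 : ZMod 3), (2 : ZMod 3), (0 : ZMod 3)) +
      f ((0 : ZMod 3), (2 : ZMod 3), (1 : ZMod 3)) +
      f ((0 : ZMod 3), (2 : ZMod 3), (2 : ZMod 3)) +
      f ((1 : ZMod 3), (0 : ZMod 3), (0 : ZMod 3)) +
      f ((1 : ZMod 3), (0 : ZMod 3), (1 : ZMod 3)) +
      f ((1 : ZMod 3), (0 : ZMod 3), (2 : ZMod 3)) +
      f ((1 : ZMod 3), (1 : ZMod 3), (0 : ZMod 3)) +
      f ((1 : ZMod 3), (1 : ZMod 3), (1 : ZMod 3)) +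
      f ((1 : ZMod 3), (1 : ZMod 3), (2 : ZMod 3)) +
      f ((1 : ZMod 3), (2 : ZMod 3), (0 : ZMod 3)) +
      f ((1 : ZMod 3), (2 : ZMod 3), (1 : ZMod 3)) +
      f ((1 : ZMod 3), (2 : ZMod 3), (2 : ZMod 3)) +
      f ((2 : ZMod 3), (0 : ZMod 3), (0 : ZMod 3)) +
      f ((2 : ZMod 3), (0 : ZMod 3), (1 : ZMod 3)) +
      f ((2 : ZMod 3), (0 : ZMod 3), (2 : ZMod 3)) +
      f ((2 : ZMod 3), (1 : ZMod 3), (0 : ZMod 3)) +
      f ((2 : ZMod 3), (1 : ZMod 3), (1 : ZMod 3)) +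
      f ((2 : ZMod 3), (1 : ZMod 3), (2 : ZMod 3)) +
      f ((2 : ZMod 3), (2 : ZMod 3), (0 : ZMod 3)) +
      f ((2 : ZMod 3), (2 : ZMod 3), (1 : ZMod 3)) +
      f ((2 : ZMod 3), (2 : ZMod 3), (2 : ZMod 3)) := by
  simp only [Fintype.sum_prod_type, sum_zmod3]
  abel

theorem expand000 (V Z : ℕ → ℂ) :
    ∑ e : ZMod 3 × ZMod 3 × ZMod 3,
      V (wt e) * Z (((0 : ZMod 3) * e.1 + (0 : ZMod 3) * e.2.1 + (0 : ZMod 3) * e.2.2).val) =
      1 * (V 0 * Z 0) + 6 * (V 1 * Z 0) + 12 * (V 2 * Z 0) + 8 * (V 3 * Z 0) := by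
  rw [sum27]
  show V 0 * Z 0 +
      V 1 * Z 0 +
      V 1 * Z 0 +
      V 1 * Z 0 +
      V 2 * Z 0 +
      V 2 * Z 0 +
      V 1 * Z 0 +
      V 2 * Z 0 +
      V 2 * Z 0 +
      V 1 * Z 0 +
      V 2 * Z 0 +
      V 2 * Z 0 +
      V 2 * Z 0 +
      V 3 * Z 0 +
      V 3 * Z 0 +
      V 2 * Z 0 +
      V 3 * Z 0 +
      V 3 * Z 0 +
      V 1 * Z 0 +
      V 2 * Z 0 +
      V 2 * Z 0 +
      V 2 * Z 0 +
      V 3 * Z 0 +
      V 3 * Z 0 +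
      V 2 * Z 0 +
      V 3 * Z 0 +
      V 3 * Z 0 = _
  ring

theorem expand100 (V Z : ℕ → ℂ) :
    ∑ e : ZMod 3 × ZMod 3 × ZMod 3,
      V (wt e) * Z (((1 : ZMod 3) * e.1 + (0 : ZMod 3) * e.2.1 + (0 : ZMod 3) * e.2.2).val) =
      1 * (V 0 * Z 0) + 4 * (V 1 * Z 0) + 1 * (V 1 * Z 1) + 1 * (V 1 * Z 2) + 4 * (V 2 * Z 0) + 4 * (V 2 * Z 1) + 4 * (V 2 * Z 2) + 4 * (V 3 * Z 1) + 4 * (V 3 * Z 2) := by
  rw [sum27]
  show V 0 * Z 0 +
      V 1 * Z 0 +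
      V 1 * Z 0 +
      V 1 * Z 0 +
      V 2 * Z 0 +
      V 2 * Z 0 +
      V 1 * Z 0 +
      V 2 * Z 0 +
      V 2 * Z 0 +
      V 1 * Z 1 +
      V 2 * Z 1 +
      V 2 * Z 1 +
      V 2 * Z 1 +
      V 3 * Z 1 +
      V 3 * Z 1 +
      V 2 * Z 1 +
      V 3 * Z 1 +
      V 3 * Z 1 +
      V 1 * Z 2 +
      V 2 * Z 2 +
      V 2 * Z 2 +
      V 2 * Z 2 +
      V 3 * Z 2 +
      V 3 * Z 2 +
      V 2 * Z 2 +
      V 3 * Z 2 +
      V 3 * Z 2 = _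
  ring

theorem expand110 (V Z : ℕ → ℂ) :
    ∑ e : ZMod 3 × ZMod 3 × ZMod 3,
      V (wt e) * Z (((1 : ZMod 3) * e.1 + (1 : ZMod 3) * e.2.1 + (0 : ZMod 3) * e.2.2).val) =
      1 * (V 0 * Z 0) + 2 * (V 1 * Z 0) + 2 * (V 1 * Z 1) + 2 * (V 1 * Z 2) + 2 * (V 2 * Z 0) + 5 * (V 2 * Z 1) + 5 * (V 2 * Z 2) + 4 * (V 3 * Z 0) + 2 * (V 3 * Z 1) + 2 * (V 3 * Z 2) := by
  rw [sum27]
  show V 0 * Z 0 +
      V 1 * Z 0 +
      V 1 * Z 0 +
      V 1 * Z 1 +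
      V 2 * Z 1 +
      V 2 * Z 1 +
      V 1 * Z 2 +
      V 2 * Z 2 +
      V 2 * Z 2 +
      V 1 * Z 1 +
      V 2 * Z 1 +
      V 2 * Z 1 +
      V 2 * Z 2 +
      V 3 * Z 2 +
      V 3 * Z 2 +
      V 2 * Z 0 +
      V 3 * Z 0 +
      V 3 * Z 0 +
      V 1 * Z 2 +
      V 2 * Z 2 +
      V 2 * Z 2 +
      V 2 * Z 0 +
      V 3 * Z 0 +
      V 3 * Z 0 +
      V 2 * Z 1 +
      V 3 * Z 1 +
      V 3 * Z 1 = _
  ring

theorem expand111 (V Z : ℕ → ℂ) :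
    ∑ e : ZMod 3 × ZMod 3 × ZMod 3,
      V (wt e) * Z (((1 : ZMod 3) * e.1 + (1 : ZMod 3) * e.2.1 + (1 : ZMod 3) * e.2.2).val) =
      1 * (V 0 * Z 0) + 3 * (V 1 * Z 1) + 3 * (V 1 * Z 2) + 6 * (V 2 * Z 0) + 3 * (V 2 * Z 1) + 3 * (V 2 * Z 2) + 2 * (V 3 * Z 0) + 3 * (V 3 * Z 1) + 3 * (V 3 * Z 2) := by
  rw [sum27]
  show V 0 * Z 0 +
      V 1 * Z 1 +
      V 1 * Z 2 +
      V 1 * Z 1 +
      V 2 * Z 2 +
      V 2 * Z 0 +
      V 1 * Z 2 +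
      V 2 * Z 0 +
      V 2 * Z 1 +
      V 1 * Z 1 +
      V 2 * Z 2 +
      V 2 * Z 0 +
      V 2 * Z 2 +
      V 3 * Z 0 +
      V 3 * Z 1 +
      V 2 * Z 0 +
      V 3 * Z 1 +
      V 3 * Z 2 +
      V 1 * Z 2 +
      V 2 * Z 0 +
      V 2 * Z 1 +
      V 2 * Z 0 +
      V 3 * Z 1 +
      V 3 * Z 2 +
      V 2 * Z 1 +
      V 3 * Z 2 +
      V 3 * Z 0 = _
  ring

open Cfsg.Agent.Lib.Helper33_H27_MULT1 (A3 eltHom pow_val_add)

/-- the linear character `e ↦ w^(p x + q y + r z)` of `(ℤ/3)³` -/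
def lamHomG (w : ℂˣ) (hw : w ^ 3 = 1) (p q r : ZMod 3) : A3 →* ℂˣ where
  toFun e := w ^ (p * (Multiplicative.toAdd e).1 + q * (Multiplicative.toAdd e).2.1 +
    r * (Multiplicative.toAdd e).2.2).val
  map_one' := by simp
  map_mul' x y := by
    rw [← pow_val_add hw]
    congr 2
    simp only [toAdd_mul, Prod.fst_add, Prod.snd_add]
    ring

/-- multiplicity of the linear character `e ↦ ζ^(p x + q y + r z)` of `⟨a⟩ × ⟨b⟩ × ⟨c⟩`
in the restriction of a character -/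
theorem mult_gen {G : Type*} [Group G] {a b c : G} (ha : a ^ 3 = 1) (hb : b ^ 3 = 1)
    (hc : c ^ 3 = 1) (hab : a * b = b * a) (hac : a * c = c * a) (hbc : b * c = c * b)
    {χ : G → ℂ} (hχ : IsCharacter G χ) (ζ : ℂ) (hζ : ζ ^ 2 + ζ + 1 = 0) (p q r : ZMod 3) :
    ∃ m : ℕ, ∑ e : ZMod 3 × ZMod 3 × ZMod 3,
      χ (elt a b c e) * ζ ^ (p * e.1 + q * e.2.1 + r * e.2.2).val = 27 * (m : ℂ) := by
  classical
  have hζ3 : ζ ^ 3 = 1 := by linear_combination (ζ - 1) * hζ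
  have hcζ3 : (conj ζ) ^ 3 = 1 := by rw [← map_pow, hζ3, map_one]
  have hcζ0 : conj ζ ≠ 0 := by
    intro h0
    rw [h0] at hcζ3
    norm_num at hcζ3
  set w : ℂˣ := Units.mk0 (conj ζ) hcζ0 with hw
  have hw3 : w ^ 3 = 1 := by
    apply Units.ext
    rw [Units.val_pow_eq_pow_val, Units.val_one, hw, Units.val_mk0, hcζ3]
  set f : A3 →* G := eltHom a b c ha hb hc hab hac hbc with hf
  set μ : A3 →* ℂˣ := lamHomG w hw3 p q r with hμ
  have hχA : IsCharacter A3 (fun x : A3 => χ (f x)) :=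
    Cfsg.Agent.Lib.Helper75_CharArith.isCharacter_comp f hχ
  have hμA : IsCharacter A3 (fun x : A3 => ((μ x : ℂˣ) : ℂ)) :=
    Cfsg.Agent.Lib.Helper3_CharBridge.isCharacter_of_isIrrCharacter
      (Cfsg.Agent.Lib.Helper79_Linear.isIrrCharacter_of_hom μ)
  obtain ⟨m, hm⟩ := Cfsg.Agent.Lib.Helper75_CharArith.classInner_isCharacter_nat hχA hμA
  refine ⟨m, ?_⟩
  unfold classInner at hm
  have hcard : Nat.card A3 = 27 := by
    rw [Nat.card_eq_fintype_card]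
    rfl
  rw [hcard] at hm
  have h27 : ((27 : ℕ) : ℂ) ≠ 0 := by norm_num
  rw [inv_mul_eq_iff_eq_mul₀ h27] at hm
  have hsum : ∑ x : A3, χ (f x) * conj ((μ x : ℂˣ) : ℂ) =
      ∑ e : ZMod 3 × ZMod 3 × ZMod 3,
        χ (elt a b c e) * ζ ^ (p * e.1 + q * e.2.1 + r * e.2.2).val := by
    refine (Fintype.sum_equiv Multiplicative.ofAdd _ _ fun e => ?_).symm
    congr 1
    rw [hμ]
    simp only [lamHomG, MonoidHom.coe_mk, OneHom.coe_mk, toAdd_ofAdd, Units.val_pow_eq_pow_val, hw,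
      Units.val_mk0, map_pow, Complex.conj_conj]
  rw [← hsum, hm]
  push_cast
  ring

section grp
variable {G : Type*} [Group G] [Finite G] {H J : Subgroup G} {a b c σ u v s : G}

/-- the relations of `a, b, c` from the configuration -/
theorem rels (h : Hyp G H J a b c σ u v s) :
    a ^ 3 = 1 ∧ b ^ 3 = 1 ∧ c ^ 3 = 1 ∧ a * b = b * a ∧ a * c = c * a ∧ b * c = c * b := by
  obtain ⟨ψ, hinj, hrange, ha, hσ, hu, hv⟩ := h.iso
  set kA : ↥(Subgroup.closure S0) := ⟨g1, g1_mem⟩ with hkA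
  set kS : ↥(Subgroup.closure S0) := ⟨g2, g2_mem⟩ with hkS
  set kB : ↥(Subgroup.closure S0) := kS * kA * kS⁻¹ with hkB
  set kC : ↥(Subgroup.closure S0) := kS * kB * kS⁻¹ with hkC
  have vA : (kA : Equiv.Perm (Fin 9)) = pA := rfl
  have vB : (kB : Equiv.Perm (Fin 9)) = pB := rfl
  have vC : (kC : Equiv.Perm (Fin 9)) = pC := rfl
  have ψB : ψ kB = b := by rw [hkB, map_mul, map_mul, map_inv, hσ, ha, h.hb]
  have ψC : ψ kC = c := by rw [hkC, map_mul, map_mul, map_inv, hσ, ψB, h.hc]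
  have kA3 : kA ^ 3 = 1 :=
    Subtype.ext (by simpa [vA] using Cfsg.Agent.Lib.Helper86_H648_STRUCTaux.pA3)
  have kB3 : kB ^ 3 = 1 :=
    Subtype.ext (by simpa [vB] using Cfsg.Agent.Lib.Helper86_H648_STRUCTaux.pB3)
  have kC3 : kC ^ 3 = 1 :=
    Subtype.ext (by simpa [vC] using Cfsg.Agent.Lib.Helper86_H648_STRUCTaux.pC3)
  have kAB : kA * kB = kB * kA :=
    Subtype.ext (by simpa [vA, vB] using Cfsg.Agent.Lib.Helper86_H648_STRUCTaux.pAB)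
  have kAC : kA * kC = kC * kA :=
    Subtype.ext (by simpa [vA, vC] using Cfsg.Agent.Lib.Helper86_H648_STRUCTaux.pAC)
  have kBC : kB * kC = kC * kB :=
    Subtype.ext (by simpa [vB, vC] using Cfsg.Agent.Lib.Helper86_H648_STRUCTaux.pBC)
  refine ⟨?_, ?_, ?_, ?_, ?_, ?_⟩
  · rw [← ha, ← map_pow, kA3, map_one]
  · rw [← ψB, ← map_pow, kB3, map_one]
  · rw [← ψC, ← map_pow, kC3, map_one]
  · rw [← ha, ← ψB, ← map_mul, kAB, map_mul]
  · rw [← ha, ← ψC, ← map_mul, kAC, map_mul]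
  · rw [← ψB, ← ψC, ← map_mul, kBC, map_mul]

/-- **MULTJ**, from the fusion table of `J` (the statement of `tabJ`) as a hypothesis. -/
theorem multJ_aux (h : Hyp G H J a b c σ u v s)
    (htab : ∀ e : ZMod 3 × ZMod 3 × ZMod 3, e ≠ 0 → IsConj (elt a b c e) (repW a b c (wt e)))
    (χ : IrrCharacter G) :
    ∃ (m0 : ℕ) (n1 n2 n3 : ℤ),
      ((χ : G → ℂ) 1 + 6 * (χ : G → ℂ) c + 12 * (χ : G → ℂ) (a * b) + 8 * (χ : G → ℂ) (a * b * c)) / 27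
        = m0 ∧
      -((χ : G → ℂ) c + 4 * (χ : G → ℂ) (a * b) + 4 * (χ : G → ℂ) (a * b * c)) / 9 = n1 ∧
      -(2 * (χ : G → ℂ) c + 5 * (χ : G → ℂ) (a * b) + 2 * (χ : G → ℂ) (a * b * c)) / 9 = n2 ∧
      -((χ : G → ℂ) c + (χ : G → ℂ) (a * b) + (χ : G → ℂ) (a * b * c)) / 3 = n3 := by
  obtain ⟨a3, b3, c3, ab, ac, bc⟩ := rels h
  have hχ : IsCharacter G (χ : G → ℂ) :=
    Cfsg.Agent.Lib.Helper3_CharBridge.isCharacter_of_isIrrCharacter χ.2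
  -- a primitive cube root of unity
  obtain ⟨ζ, hζ⟩ : ∃ ζ : ℂ, ζ ^ 2 + ζ + 1 = 0 := by
    refine ⟨(-1 + s3 * Complex.I) / 2, ?_⟩
    have hs3 : s3 ^ 2 = 3 := by
      unfold s3
      rw [← Complex.ofReal_pow, Real.sq_sqrt (by norm_num : (0:ℝ) ≤ 3)]
      norm_num
    have hI : Complex.I ^ 2 = -1 := Complex.I_sq
    linear_combination (Complex.I ^ 2 / 4) * hs3 + (3 / 4) * hI
  have hZ2 : ζ ^ 2 = -1 - ζ := by linear_combination hζ
  -- the values through the table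
  have hval : ∀ e : ZMod 3 × ZMod 3 × ZMod 3,
      (χ : G → ℂ) (elt a b c e) = (χ : G → ℂ) (repW a b c (wt e)) := by
    intro e
    by_cases he : e = 0
    · subst he
      have : elt a b c 0 = 1 := by simp [elt]
      rw [this]
      rfl
    · exact irr_isConj χ (htab e he)
  obtain ⟨V, hV⟩ : ∃ V : ℕ → ℂ, V = fun w : ℕ => (χ : G → ℂ) (repW a b c w) := ⟨_, rfl⟩
  obtain ⟨Z, hZ⟩ : ∃ Z : ℕ → ℂ, Z = fun j : ℕ => ζ ^ j := ⟨_, rfl⟩
  have hgen : ∀ p q r : ZMod 3, ∃ m : ℕ, ∑ e : ZMod 3 × ZMod 3 × ZMod 3,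
      V (wt e) * Z ((p * e.1 + q * e.2.1 + r * e.2.2).val) = 27 * (m : ℂ) := by
    intro p q r
    obtain ⟨m, hm⟩ := mult_gen a3 b3 c3 ab ac bc hχ ζ hζ p q r
    refine ⟨m, ?_⟩
    rw [← hm]
    refine Finset.sum_congr rfl fun e _ => ?_
    rw [hval e, hV, hZ]
  obtain ⟨m0, e0⟩ := hgen 0 0 0
  obtain ⟨m1, e1⟩ := hgen 1 0 0
  obtain ⟨m2, e2⟩ := hgen 1 1 0
  obtain ⟨m3, e3⟩ := hgen 1 1 1
  rw [expand000] at e0
  rw [expand100] at e1
  rw [expand110] at e2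
  rw [expand111] at e3
  simp only [hV, hZ, repW, pow_zero, pow_one, hZ2] at e0 e1 e2 e3
  refine ⟨m0, (m1 : ℤ) - m0, (m2 : ℤ) - m0, (m3 : ℤ) - m0, ?_, ?_, ?_, ?_⟩
  · linear_combination (1/27) * e0
  · push_cast
    linear_combination (1/27) * e1 - (1/27) * e0
  · push_cast
    linear_combination (1/27) * e2 - (1/27) * e0
  · push_cast
    linear_combination (1/27) * e3 - (1/27) * e0

end grp

end Cfsg.Agent.Lib.Helper46_H648_MULTJ
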