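import Mathlib

/-!
# Helper46_L3CoverLU

A factorisation theorem (after Sourour) for `3 × 3` matrices over a field: every non-scalar invertible
matrix is conjugate to a product `L * U` of a lower and an upper triangular matrix with prescribed
diagonals (the product of all the diagonal entries being the determinant).
-/

set_option autoImplicit false
set_option linter.unusedSectionVars false
set_option linter.unusedVariables false
set_option linter.unusedSimpArgs false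

namespace Cfsg.Agent.Lib.Helper46_L3CoverLU

open Matrix

variable {F : Type*} [Field F]

/-- If `v, g v, w` is a basis, then in that basis the first column of `g` is `(0, 1, 0)`. -/
theorem first_col_of_det (g : Matrix (Fin 3) (Fin 3) F) (v w : Fin 3 → F)
    (hd : (Matrix.of fun i j => ![v i, (g *ᵥ v) i, w i] j : Matrix (Fin 3) (Fin 3) F).det ≠ 0) :
    ∃ R R' : Matrix (Fin 3) (Fin 3) F, R * R' = 1 ∧ R' * R = 1 ∧ (R' * g * R) 0 0 = 0 ∧
      (R' * g * R) 1 0 = 1 ∧ (R' * g * R) 2 0 = 0 := by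
  obtain ⟨R, hR⟩ : ∃ R : Matrix (Fin 3) (Fin 3) F,
      R = Matrix.of fun i j => ![v i, (g *ᵥ v) i, w i] j := ⟨_, rfl⟩
  rw [← hR] at hd
  have hu : IsUnit R.det := isUnit_iff_ne_zero.mpr hd
  have hcol : ∀ k, (g * R) k 0 = R k 1 := by
    intro k
    rw [hR]
    simp [Matrix.mul_apply, Matrix.mulVec, dotProduct]
  have key : ∀ i, (R⁻¹ * g * R) i 0 = (1 : Matrix (Fin 3) (Fin 3) F) i 1 := by
    intro i
    rw [Matrix.mul_assoc, Matrix.mul_apply]
    simp_rw [hcol]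
    rw [← Matrix.mul_apply, Matrix.nonsing_inv_mul _ hu]
  refine ⟨R, R⁻¹, Matrix.mul_nonsing_inv _ hu, Matrix.nonsing_inv_mul _ hu, ?_, ?_, ?_⟩
  · rw [key]; simp
  · rw [key]; simp
  · rw [key]; simp

/-- A non-scalar `3 × 3` matrix is conjugate to one with first column `(0, 1, 0)`. -/
theorem exists_first_col (g : Matrix (Fin 3) (Fin 3) F)
    (hg : ¬ ∃ c : F, g = c • (1 : Matrix (Fin 3) (Fin 3) F)) :
    ∃ R R' : Matrix (Fin 3) (Fin 3) F, R * R' = 1 ∧ R' * R = 1 ∧ (R' * g * R) 0 0 = 0 ∧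
      (R' * g * R) 1 0 = 1 ∧ (R' * g * R) 2 0 = 0 := by
  by_cases h10 : g 1 0 = 0
  swap
  · refine first_col_of_det g ![1, 0, 0] ![0, 0, 1] ?_
    rw [Matrix.det_fin_three]
    simpa [Matrix.mulVec, dotProduct, Fin.sum_univ_three] using h10
  by_cases h20 : g 2 0 = 0
  swap
  · refine first_col_of_det g ![1, 0, 0] ![0, 1, 0] ?_
    rw [Matrix.det_fin_three]
    simpa [Matrix.mulVec, dotProduct, Fin.sum_univ_three] using h20
  by_cases h01 : g 0 1 = 0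
  swap
  · refine first_col_of_det g ![0, 1, 0] ![0, 0, 1] ?_
    rw [Matrix.det_fin_three]
    simpa [Matrix.mulVec, dotProduct, Fin.sum_univ_three] using h01
  by_cases h21 : g 2 1 = 0
  swap
  · refine first_col_of_det g ![0, 1, 0] ![1, 0, 0] ?_
    rw [Matrix.det_fin_three]
    simpa [Matrix.mulVec, dotProduct, Fin.sum_univ_three] using h21
  by_cases h02 : g 0 2 = 0
  swap
  · refine first_col_of_det g ![0, 0, 1] ![0, 1, 0] ?_
    rw [Matrix.det_fin_three]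
    simpa [Matrix.mulVec, dotProduct, Fin.sum_univ_three] using h02
  by_cases h12 : g 1 2 = 0
  swap
  · refine first_col_of_det g ![0, 0, 1] ![1, 0, 0] ?_
    rw [Matrix.det_fin_three]
    simpa [Matrix.mulVec, dotProduct, Fin.sum_univ_three] using h12
  by_cases ha : g 0 0 = g 1 1
  swap
  · refine first_col_of_det g ![1, 1, 0] ![0, 0, 1] ?_
    rw [Matrix.det_fin_three]
    simp [Matrix.mulVec, dotProduct, Fin.sum_univ_three, h10, h20, h01, h21, h02, h12]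
    intro h
    exact ha (sub_eq_zero.mp h).symm
  by_cases hb : g 1 1 = g 2 2
  swap
  · refine first_col_of_det g ![0, 1, 1] ![1, 0, 0] ?_
    rw [Matrix.det_fin_three]
    simp [Matrix.mulVec, dotProduct, Fin.sum_univ_three, h10, h20, h01, h21, h02, h12]
    intro h
    exact hb (sub_eq_zero.mp h).symm
  exfalso
  apply hg
  refine ⟨g 0 0, ?_⟩
  ext i j
  fin_cases i <;> fin_cases j <;> simp [h10, h20, h01, h21, h02, h12, ← ha, ← hb]

/-- The Schur complement of the `(0,0)` entry (assumed to be `δ`). -/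
def schur (δ : F) (G : Matrix (Fin 3) (Fin 3) F) : Matrix (Fin 2) (Fin 2) F :=
  !![G 1 1 - G 1 0 * G 0 1 / δ, G 1 2 - G 1 0 * G 0 2 / δ;
     G 2 1 - G 2 0 * G 0 1 / δ, G 2 2 - G 2 0 * G 0 2 / δ]

/-- A `2 × 2` matrix is scalar. -/
def IsScalar2 (S : Matrix (Fin 2) (Fin 2) F) : Prop := S 0 1 = 0 ∧ S 1 0 = 0 ∧ S 0 0 = S 1 1

/-- Second normalisation: the `(0,0)` entry becomes `δ` and the Schur complement is not scalar. -/
theorem exists_schur (G : Matrix (Fin 3) (Fin 3) F) (h00 : G 0 0 = 0) (h10 : G 1 0 = 1)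
    (h20 : G 2 0 = 0) (hdet : G.det ≠ 0) (δ : F) (hδ : δ ≠ 0) :
    ∃ R R' : Matrix (Fin 3) (Fin 3) F, R * R' = 1 ∧ R' * R = 1 ∧ (R' * G * R) 0 0 = δ ∧
      ¬ IsScalar2 (schur δ (R' * G * R)) := by
  have hG : G = !![0, G 0 1, G 0 2; 1, G 1 1, G 1 2; 0, G 2 1, G 2 2] := by
    ext i j
    fin_cases i <;> fin_cases j <;> simp [h00, h10, h20]
  have hdet' : G 0 2 * G 2 1 - G 0 1 * G 2 2 ≠ 0 := by
    intro h
    apply hdet
    rw [Matrix.det_fin_three, h00, h10, h20]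
    linear_combination h
  -- the conjugating matrices for a parameter `c`
  have hinv : ∀ c : F, (!![1, -δ, c; 0, 1, 0; 0, 0, 1] : Matrix (Fin 3) (Fin 3) F) *
      !![1, δ, -c; 0, 1, 0; 0, 0, 1] = 1 ∧
      (!![1, δ, -c; 0, 1, 0; 0, 0, 1] : Matrix (Fin 3) (Fin 3) F) *
      !![1, -δ, c; 0, 1, 0; 0, 0, 1] = 1 := by
    intro c
    constructor <;>
    · ext i j
      fin_cases i <;> fin_cases j <;> simp [Matrix.mul_apply, Fin.sum_univ_three]
  have hconj : ∀ c : F, (!![1, δ, -c; 0, 1, 0; 0, 0, 1] : Matrix (Fin 3) (Fin 3) F) * G *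
      !![1, -δ, c; 0, 1, 0; 0, 0, 1] =
      !![δ, G 0 1 + δ * (G 1 1 - δ) - c * G 2 1, G 0 2 + δ * (G 1 2 + c) - c * G 2 2;
         1, G 1 1 - δ, G 1 2 + c;
         0, G 2 1, G 2 2] := by
    intro c
    rw [hG]
    ext i j
    fin_cases i <;> fin_cases j <;> simp [Matrix.mul_apply, Fin.sum_univ_three] <;> ring
  have hschur : ∀ c : F, schur δ ((!![1, δ, -c; 0, 1, 0; 0, 0, 1] : Matrix (Fin 3) (Fin 3) F) * G *
      !![1, -δ, c; 0, 1, 0; 0, 0, 1]) =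
      !![(c * G 2 1 - G 0 1) / δ, (c * G 2 2 - G 0 2) / δ; G 2 1, G 2 2] := by
    intro c
    rw [hconj c]
    unfold schur
    ext i j
    fin_cases i <;> fin_cases j <;> simp <;> field_simp <;> ring
  have h00' : ∀ c : F, ((!![1, δ, -c; 0, 1, 0; 0, 0, 1] : Matrix (Fin 3) (Fin 3) F) * G *
      !![1, -δ, c; 0, 1, 0; 0, 0, 1]) 0 0 = δ := by
    intro c
    rw [hconj c]
    simp
  by_cases hm : G 2 1 = 0
  swap
  · refine ⟨_, _, (hinv 0).1, (hinv 0).2, h00' 0, ?_⟩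
    rw [hschur 0]
    rintro ⟨-, h2, -⟩
    apply hm
    simpa using h2
  have hn : G 2 2 ≠ 0 := by
    intro h
    apply hdet'
    rw [hm, h]
    ring
  by_cases hx : G 0 2 = 0
  · refine ⟨_, _, (hinv 1).1, (hinv 1).2, h00' 1, ?_⟩
    rw [hschur 1]
    rintro ⟨h1, -, -⟩
    have h3 : (1 * G 2 2 - G 0 2) / δ = 0 := by simpa using h1
    rw [hx, one_mul, sub_zero, div_eq_zero_iff] at h3
    rcases h3 with h3 | h3
    · exact hn h3
    · exact hδ h3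
  · refine ⟨_, _, (hinv 0).1, (hinv 0).2, h00' 0, ?_⟩
    rw [hschur 0]
    rintro ⟨h1, -, -⟩
    have h3 : (0 * G 2 2 - G 0 2) / δ = 0 := by simpa using h1
    rw [zero_mul, zero_sub, div_eq_zero_iff] at h3
    rcases h3 with h3 | h3
    · exact hx (neg_eq_zero.mp h3)
    · exact hδ h3

/-- If `w, S w` is a basis, then in the basis `w, S w - δ₂ w` the first column of `S` is `(δ₂, 1)`. -/
theorem two_normal_of_det (S : Matrix (Fin 2) (Fin 2) F) (δ₂ : F) (w : Fin 2 → F)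
    (hd : w 0 * (S *ᵥ w) 1 - w 1 * (S *ᵥ w) 0 ≠ 0) :
    ∃ T T' : Matrix (Fin 2) (Fin 2) F, T * T' = 1 ∧ T' * T = 1 ∧ (T' * S * T) 0 0 = δ₂ ∧
      (T' * S * T) 1 0 = 1 := by
  obtain ⟨T, hT⟩ : ∃ T : Matrix (Fin 2) (Fin 2) F,
      T = Matrix.of fun i j => ![w i, (S *ᵥ w) i - δ₂ * w i] j := ⟨_, rfl⟩
  have hdet : T.det = w 0 * (S *ᵥ w) 1 - w 1 * (S *ᵥ w) 0 := by
    rw [Matrix.det_fin_two, hT]
    simp
    ring
  have hu : IsUnit T.det := by
    rw [hdet]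
    exact isUnit_iff_ne_zero.mpr hd
  have hcol : ∀ k, (S * T) k 0 = δ₂ * T k 0 + T k 1 := by
    intro k
    rw [hT]
    simp [Matrix.mul_apply, Matrix.mulVec, dotProduct]
  have key : ∀ i, (T⁻¹ * S * T) i 0 = δ₂ * (1 : Matrix (Fin 2) (Fin 2) F) i 0 +
      (1 : Matrix (Fin 2) (Fin 2) F) i 1 := by
    intro i
    rw [Matrix.mul_assoc, Matrix.mul_apply]
    simp_rw [hcol, mul_add]
    rw [Finset.sum_add_distrib, ← Matrix.nonsing_inv_mul _ hu, Matrix.mul_apply, Matrix.mul_apply,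
      Finset.mul_sum]
    congr 1
    apply Finset.sum_congr rfl
    intro k _
    ring
  refine ⟨T, T⁻¹, Matrix.mul_nonsing_inv _ hu, Matrix.nonsing_inv_mul _ hu, ?_, ?_⟩
  · rw [key]; simp
  · rw [key]; simp

/-- A non-scalar `2 × 2` matrix is conjugate to one with first column `(δ₂, 1)`. -/
theorem exists_two_normal (S : Matrix (Fin 2) (Fin 2) F) (hS : ¬ IsScalar2 S) (δ₂ : F) :
    ∃ T T' : Matrix (Fin 2) (Fin 2) F, T * T' = 1 ∧ T' * T = 1 ∧ (T' * S * T) 0 0 = δ₂ ∧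
      (T' * S * T) 1 0 = 1 := by
  by_cases h10 : S 1 0 = 0
  swap
  · refine two_normal_of_det S δ₂ ![1, 0] ?_
    simpa [Matrix.mulVec, dotProduct, Fin.sum_univ_two] using h10
  by_cases h01 : S 0 1 = 0
  swap
  · refine two_normal_of_det S δ₂ ![0, 1] ?_
    simpa [Matrix.mulVec, dotProduct, Fin.sum_univ_two] using h01
  have hne : S 0 0 ≠ S 1 1 := fun h => hS ⟨h01, h10, h⟩
  refine two_normal_of_det S δ₂ ![1, 1] ?_
  simp [Matrix.mulVec, dotProduct, Fin.sum_univ_two, h10, h01]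
  intro h
  exact hne (sub_eq_zero.mp h).symm

/-- Embedding of `2 × 2` matrices as the lower right block. -/
def emb (T : Matrix (Fin 2) (Fin 2) F) : Matrix (Fin 3) (Fin 3) F :=
  !![1, 0, 0; 0, T 0 0, T 0 1; 0, T 1 0, T 1 1]

theorem emb_mul (T T' : Matrix (Fin 2) (Fin 2) F) : emb T * emb T' = emb (T * T') := by
  ext i j
  fin_cases i <;> fin_cases j <;>
    simp [emb, Matrix.mul_apply, Fin.sum_univ_three, Fin.sum_univ_two]

theorem emb_one : emb (1 : Matrix (Fin 2) (Fin 2) F) = 1 := by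
  ext i j
  fin_cases i <;> fin_cases j <;> simp [emb]

theorem conj_emb_zero (G : Matrix (Fin 3) (Fin 3) F) (T T' : Matrix (Fin 2) (Fin 2) F) :
    (emb T' * G * emb T) 0 0 = G 0 0 := by
  simp [emb, Matrix.mul_apply, Fin.sum_univ_three, Matrix.vecMul, dotProduct]

theorem schur_conj (δ : F) (G : Matrix (Fin 3) (Fin 3) F) (T T' : Matrix (Fin 2) (Fin 2) F) :
    schur δ (emb T' * G * emb T) = T' * schur δ G * T := by
  ext i j
  fin_cases i <;> fin_cases j <;>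
    simp [schur, emb, Matrix.mul_apply, Fin.sum_univ_three, Fin.sum_univ_two, Matrix.vecMul,
      dotProduct] <;> ring

/-- Lower triangular matrices. -/
def lower (b₁ b₂ b₃ l₂₁ l₃₁ l₃₂ : F) : Matrix (Fin 3) (Fin 3) F :=
  !![b₁, 0, 0; l₂₁, b₂, 0; l₃₁, l₃₂, b₃]

/-- Upper triangular matrices. -/
def upper (c₁ c₂ c₃ u₁₂ u₁₃ u₂₃ : F) : Matrix (Fin 3) (Fin 3) F :=
  !![c₁, u₁₂, u₁₃; 0, c₂, u₂₃; 0, 0, c₃]

theorem det_eq_schur (G : Matrix (Fin 3) (Fin 3) F) (δ : F) (hδ : δ ≠ 0) (h00 : G 0 0 = δ) :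
    G.det = δ * (schur δ G).det := by
  rw [Matrix.det_fin_three, Matrix.det_fin_two, h00]
  simp [schur]
  field_simp
  ring

/-- The factorisation once the Schur complement is in normal form. -/
theorem lu_of_schur (G : Matrix (Fin 3) (Fin 3) F) (b₁ b₂ b₃ c₁ c₂ c₃ : F)
    (hb₁ : b₁ ≠ 0) (hb₂ : b₂ ≠ 0) (hc₁ : c₁ ≠ 0) (hc₂ : c₂ ≠ 0)
    (h00 : G 0 0 = b₁ * c₁) (hs00 : schur (b₁ * c₁) G 0 0 = b₂ * c₂)
    (hs10 : schur (b₁ * c₁) G 1 0 = 1)
    (hdet : G.det = b₁ * b₂ * b₃ * (c₁ * c₂ * c₃)) :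
    G = lower b₁ b₂ b₃ (G 1 0 / c₁) (G 2 0 / c₁) (1 / c₂) *
      upper c₁ c₂ c₃ (G 0 1 / b₁) (G 0 2 / b₁) (schur (b₁ * c₁) G 0 1 / b₂) := by
  have hδ : b₁ * c₁ ≠ 0 := mul_ne_zero hb₁ hc₁
  have hd := det_eq_schur G (b₁ * c₁) hδ h00
  rw [hdet, Matrix.det_fin_two, hs00, hs10] at hd
  have h11 : schur (b₁ * c₁) G 1 1 = schur (b₁ * c₁) G 0 1 / (b₂ * c₂) + b₃ * c₃ := by
    have hδ₂ : b₂ * c₂ ≠ 0 := mul_ne_zero hb₂ hc₂
    field_simp
    have : b₁ * c₁ * (b₂ * c₂ * schur (b₁ * c₁) G 1 1 - schur (b₁ * c₁) G 0 1 * 1 -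
        (b₂ * c₂) * (b₃ * c₃)) = 0 := by
      linear_combination -hd
    rcases mul_eq_zero.mp this with h | h
    · exact absurd h hδ
    · linear_combination h
  simp only [schur, Matrix.of_apply, Matrix.cons_val', Matrix.cons_val_zero, Matrix.cons_val_one,
    Matrix.cons_val_fin_one] at hs00 hs10 h11
  ext i j
  fin_cases i <;> fin_cases j <;>
    simp [lower, upper, schur, Matrix.mul_apply, Fin.sum_univ_three]
  · exact h00
  · field_simp
  · field_simp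
  · field_simp
  · field_simp
    field_simp at hs00
    linear_combination hs00
  · field_simp
    ring
  · field_simp
  · field_simp
    field_simp at hs10
    linear_combination hs10
  · field_simp
    field_simp at h11
    linear_combination h11

/-- **Sourour's factorisation** for `3 × 3` matrices. -/
theorem exists_lu (g : Matrix (Fin 3) (Fin 3) F)
    (hg : ¬ ∃ c : F, g = c • (1 : Matrix (Fin 3) (Fin 3) F)) (b₁ b₂ b₃ c₁ c₂ c₃ : F)
    (hb₁ : b₁ ≠ 0) (hb₂ : b₂ ≠ 0) (hb₃ : b₃ ≠ 0) (hc₁ : c₁ ≠ 0) (hc₂ : c₂ ≠ 0) (hc₃ : c₃ ≠ 0)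
    (hdet : g.det = b₁ * b₂ * b₃ * (c₁ * c₂ * c₃)) :
    ∃ (R R' : Matrix (Fin 3) (Fin 3) F) (l₂₁ l₃₁ l₃₂ u₁₂ u₁₃ u₂₃ : F), R * R' = 1 ∧ R' * R = 1 ∧
      R' * g * R = lower b₁ b₂ b₃ l₂₁ l₃₁ l₃₂ * upper c₁ c₂ c₃ u₁₂ u₁₃ u₂₃ := by
  have hdet0 : g.det ≠ 0 := by
    rw [hdet]
    exact mul_ne_zero (mul_ne_zero (mul_ne_zero hb₁ hb₂) hb₃) (mul_ne_zero (mul_ne_zero hc₁ hc₂) hc₃)
  have hconjdet : ∀ (A B B' : Matrix (Fin 3) (Fin 3) F), B * B' = 1 → (B' * A * B).det = A.det := by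
    intro A B B' h
    have h1 : B.det * B'.det = 1 := by rw [← Matrix.det_mul, h, Matrix.det_one]
    rw [Matrix.det_mul, Matrix.det_mul]
    linear_combination A.det * h1
  obtain ⟨R₁, R₁', h1, h1', e00, e10, e20⟩ := exists_first_col g hg
  have hd1 : (R₁' * g * R₁).det ≠ 0 := by rw [hconjdet g R₁ R₁' h1]; exact hdet0
  have hδ : b₁ * c₁ ≠ 0 := mul_ne_zero hb₁ hc₁
  obtain ⟨R₂, R₂', h2, h2', d00, hns⟩ := exists_schur (R₁' * g * R₁) e00 e10 e20 hd1 (b₁ * c₁) hδ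
  obtain ⟨T, T', ht, ht', s00, s10⟩ :=
    exists_two_normal (schur (b₁ * c₁) (R₂' * (R₁' * g * R₁) * R₂)) hns (b₂ * c₂)
  have hG3 : (emb T' * (R₂' * (R₁' * g * R₁) * R₂) * emb T).det =
      b₁ * b₂ * b₃ * (c₁ * c₂ * c₃) := by
    rw [hconjdet _ (emb T) (emb T') (by rw [emb_mul, ht, emb_one]), hconjdet _ R₂ R₂' h2,
      hconjdet g R₁ R₁' h1, hdet]
  obtain ⟨l₂₁, l₃₁, l₃₂, u₁₂, u₁₃, u₂₃, hlu⟩ : ∃ l₂₁ l₃₁ l₃₂ u₁₂ u₁₃ u₂₃ : F,
      emb T' * (R₂' * (R₁' * g * R₁) * R₂) * emb T =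
        lower b₁ b₂ b₃ l₂₁ l₃₁ l₃₂ * upper c₁ c₂ c₃ u₁₂ u₁₃ u₂₃ :=
    ⟨_, _, _, _, _, _, lu_of_schur (emb T' * (R₂' * (R₁' * g * R₁) * R₂) * emb T) b₁ b₂ b₃ c₁ c₂ c₃
      hb₁ hb₂ hc₁ hc₂ (by rw [conj_emb_zero, d00]) (by rw [schur_conj, s00])
      (by rw [schur_conj, s10]) hG3⟩
  refine ⟨R₁ * R₂ * emb T, emb T' * R₂' * R₁', l₂₁, l₃₁, l₃₂, u₁₂, u₁₃, u₂₃, ?_, ?_, ?_⟩
  · calc R₁ * R₂ * emb T * (emb T' * R₂' * R₁')
        = R₁ * (R₂ * (emb T * emb T') * R₂') * R₁' := by simp only [Matrix.mul_assoc]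
      _ = 1 := by rw [emb_mul, ht, emb_one, Matrix.mul_one, h2, Matrix.mul_one, h1]
  · calc emb T' * R₂' * R₁' * (R₁ * R₂ * emb T)
        = emb T' * (R₂' * (R₁' * R₁) * R₂) * emb T := by simp only [Matrix.mul_assoc]
      _ = 1 := by rw [h1', Matrix.mul_one, h2', Matrix.mul_one, emb_mul, ht', emb_one]
  · rw [← hlu]
    simp only [Matrix.mul_assoc]

/-- A lower triangular matrix with distinct diagonal entries is diagonalisable, by a matrix of
determinant one. -/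
theorem lower_diag (a b c l₂₁ l₃₁ l₃₂ : F) (hab : a ≠ b) (hac : a ≠ c) (hbc : b ≠ c) :
    ∃ N : Matrix (Fin 3) (Fin 3) F, N.det = 1 ∧
      lower a b c l₂₁ l₃₁ l₃₂ * N = N * Matrix.diagonal ![a, b, c] := by
  have h1 : a - b ≠ 0 := sub_ne_zero.mpr hab
  have h2 : a - c ≠ 0 := sub_ne_zero.mpr hac
  have h3 : b - c ≠ 0 := sub_ne_zero.mpr hbc
  refine ⟨!![1, 0, 0; l₂₁ / (a - b), 1, 0;
    (l₃₁ + l₃₂ * (l₂₁ / (a - b))) / (a - c), l₃₂ / (b - c), 1], ?_, ?_⟩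
  · rw [Matrix.det_fin_three]
    simp
  · ext i j
    fin_cases i <;> fin_cases j <;>
      simp [lower, Matrix.mul_apply, Fin.sum_univ_three, Matrix.diagonal] <;> field_simp <;> ring

/-- An upper triangular matrix with distinct diagonal entries is diagonalisable, by a matrix of
determinant one. -/
theorem upper_diag (a b c u₁₂ u₁₃ u₂₃ : F) (hab : a ≠ b) (hac : a ≠ c) (hbc : b ≠ c) :
    ∃ N : Matrix (Fin 3) (Fin 3) F, N.det = 1 ∧
      upper a b c u₁₂ u₁₃ u₂₃ * N = N * Matrix.diagonal ![a, b, c] := by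
  have h1 : b - a ≠ 0 := sub_ne_zero.mpr hab.symm
  have h2 : c - a ≠ 0 := sub_ne_zero.mpr hac.symm
  have h3 : c - b ≠ 0 := sub_ne_zero.mpr hbc.symm
  refine ⟨!![1, u₁₂ / (b - a), (u₁₂ * (u₂₃ / (c - b)) + u₁₃) / (c - a); 0, 1, u₂₃ / (c - b);
    0, 0, 1], ?_, ?_⟩
  · rw [Matrix.det_fin_three]
    simp
  · ext i j
    fin_cases i <;> fin_cases j <;>
      simp [upper, Matrix.mul_apply, Fin.sum_univ_three, Matrix.diagonal] <;> field_simp <;> ring

end Cfsg.Agent.Lib.Helper46_L3CoverLU
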