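import Mathlib
import Cfsg.Agent.Lib.Helper46_L3CoverLU
import Cfsg.Agent.Lib.Helper46_L3CoverTable

/-!
# Helper46_L3Cover

Products of two conjugates in `SL₃(F)`: every non-scalar element is a product of two conjugates of
`diag(a, b, c)` (`a, b, c` distinct with product one), and, over the field with three elements, of
two conjugates of a fixed element of order eight.
-/

set_option autoImplicit false
set_option linter.unusedSectionVars false
set_option linter.unusedVariables false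
set_option linter.unusedSimpArgs false

namespace Cfsg.Agent.Lib.Helper46_L3Cover

open Matrix Cfsg.Agent.Lib.Helper46_L3CoverLU Cfsg.Agent.Lib.Helper46_L3CoverTable

variable {F : Type*} [Field F]

theorem conj_coe (u x : Matrix.SpecialLinearGroup (Fin 3) F) (B : Matrix (Fin 3) (Fin 3) F)
    (h : (u : Matrix (Fin 3) (Fin 3) F) * (x : Matrix (Fin 3) (Fin 3) F) =
      B * (u : Matrix (Fin 3) (Fin 3) F)) :
    ((u * x * u⁻¹ : Matrix.SpecialLinearGroup (Fin 3) F) : Matrix (Fin 3) (Fin 3) F) = B := by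
  have h1 : ((u * x * u⁻¹ : Matrix.SpecialLinearGroup (Fin 3) F) : Matrix (Fin 3) (Fin 3) F) =
      (u : Matrix (Fin 3) (Fin 3) F) * (x : Matrix (Fin 3) (Fin 3) F) *
        ((u⁻¹ : Matrix.SpecialLinearGroup (Fin 3) F) : Matrix (Fin 3) (Fin 3) F) := by
    simp only [Matrix.SpecialLinearGroup.coe_mul]
  rw [h1, h, Matrix.mul_assoc, ← Matrix.SpecialLinearGroup.coe_mul, mul_inv_cancel,
    Matrix.SpecialLinearGroup.coe_one, Matrix.mul_one]

/-- Assembling a factorisation into two conjugates. -/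
theorem assemble (g x : Matrix.SpecialLinearGroup (Fin 3) F)
    (R R' B C P Q : Matrix (Fin 3) (Fin 3) F)
    (hRR' : R * R' = 1) (hR'R : R' * R = 1)
    (hg : R' * (g : Matrix (Fin 3) (Fin 3) F) * R = B * C)
    (hP : B * P = P * (x : Matrix (Fin 3) (Fin 3) F))
    (hQ : C * Q = Q * (x : Matrix (Fin 3) (Fin 3) F)) (hPd : P.det = 1) (hQd : Q.det = 1)
    (hx : ∀ e : F, Matrix.diagonal ![e, 1, 1] * (x : Matrix (Fin 3) (Fin 3) F) =
      (x : Matrix (Fin 3) (Fin 3) F) * Matrix.diagonal ![e, 1, 1]) :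
    ∃ u v : Matrix.SpecialLinearGroup (Fin 3) F, g = u * x * u⁻¹ * (v * x * v⁻¹) := by
  have hr : R.det * R'.det = 1 := by rw [← Matrix.det_mul, hRR', Matrix.det_one]
  have hr0 : R.det ≠ 0 := left_ne_zero_of_mul_eq_one hr
  have hE : (Matrix.diagonal ![R.det⁻¹, 1, 1] : Matrix (Fin 3) (Fin 3) F).det = R.det⁻¹ := by
    rw [Matrix.det_diagonal, Fin.prod_univ_three]
    simp
  have hU : (R * P * Matrix.diagonal ![R.det⁻¹, 1, 1]).det = 1 := by
    rw [Matrix.det_mul, Matrix.det_mul, hPd, hE, mul_one, mul_inv_cancel₀ hr0]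
  have hV : (R * Q * Matrix.diagonal ![R.det⁻¹, 1, 1]).det = 1 := by
    rw [Matrix.det_mul, Matrix.det_mul, hQd, hE, mul_one, mul_inv_cancel₀ hr0]
  have hgg : (g : Matrix (Fin 3) (Fin 3) F) = (R * B * R') * (R * C * R') := by
    calc (g : Matrix (Fin 3) (Fin 3) F)
        = (R * R') * (g : Matrix (Fin 3) (Fin 3) F) * (R * R') := by
          rw [hRR', Matrix.one_mul, Matrix.mul_one]
      _ = R * (R' * (g : Matrix (Fin 3) (Fin 3) F) * R) * R' := by simp only [Matrix.mul_assoc]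
      _ = R * (B * C) * R' := by rw [hg]
      _ = R * B * 1 * C * R' := by rw [Matrix.mul_one]; simp only [Matrix.mul_assoc]
      _ = R * B * (R' * R) * C * R' := by rw [hR'R]
      _ = (R * B * R') * (R * C * R') := by simp only [Matrix.mul_assoc]
  have key : ∀ (B P : Matrix (Fin 3) (Fin 3) F), B * P = P * (x : Matrix (Fin 3) (Fin 3) F) →
      R * P * Matrix.diagonal ![R.det⁻¹, 1, 1] * (x : Matrix (Fin 3) (Fin 3) F) =
        R * B * R' * (R * P * Matrix.diagonal ![R.det⁻¹, 1, 1]) := by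
    intro B P hBP
    calc R * P * Matrix.diagonal ![R.det⁻¹, 1, 1] * (x : Matrix (Fin 3) (Fin 3) F)
        = R * P * (Matrix.diagonal ![R.det⁻¹, 1, 1] * (x : Matrix (Fin 3) (Fin 3) F)) := by
          simp only [Matrix.mul_assoc]
      _ = R * P * ((x : Matrix (Fin 3) (Fin 3) F) * Matrix.diagonal ![R.det⁻¹, 1, 1]) := by
          rw [hx]
      _ = R * (P * (x : Matrix (Fin 3) (Fin 3) F)) * Matrix.diagonal ![R.det⁻¹, 1, 1] := by
          simp only [Matrix.mul_assoc]
      _ = R * (B * P) * Matrix.diagonal ![R.det⁻¹, 1, 1] := by rw [hBP]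
      _ = R * B * 1 * P * Matrix.diagonal ![R.det⁻¹, 1, 1] := by
          rw [Matrix.mul_one]; simp only [Matrix.mul_assoc]
      _ = R * B * (R' * R) * P * Matrix.diagonal ![R.det⁻¹, 1, 1] := by rw [hR'R]
      _ = R * B * R' * (R * P * Matrix.diagonal ![R.det⁻¹, 1, 1]) := by
          simp only [Matrix.mul_assoc]
  obtain ⟨u, hu⟩ : ∃ u : Matrix.SpecialLinearGroup (Fin 3) F,
      (u : Matrix (Fin 3) (Fin 3) F) = R * P * Matrix.diagonal ![R.det⁻¹, 1, 1] := ⟨⟨_, hU⟩, rfl⟩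
  obtain ⟨v, hv⟩ : ∃ v : Matrix.SpecialLinearGroup (Fin 3) F,
      (v : Matrix (Fin 3) (Fin 3) F) = R * Q * Matrix.diagonal ![R.det⁻¹, 1, 1] := ⟨⟨_, hV⟩, rfl⟩
  refine ⟨u, v, ?_⟩
  have h1 := conj_coe u x (R * B * R') (by rw [hu]; exact key B P hP)
  have h2 := conj_coe v x (R * C * R') (by rw [hv]; exact key C Q hQ)
  have h3 : ((u * x * u⁻¹ * (v * x * v⁻¹) : Matrix.SpecialLinearGroup (Fin 3) F) :
      Matrix (Fin 3) (Fin 3) F) = (g : Matrix (Fin 3) (Fin 3) F) := by
    rw [Matrix.SpecialLinearGroup.coe_mul, h1, h2]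
    exact hgg.symm
  exact (Subtype.ext h3).symm

/-- Every non-scalar element of `SL₃(F)` is a product of two conjugates of `diag(a, b, c)`,
for `a, b, c` distinct. -/
theorem exists_conj_diag (a b c : F) (ha : a ≠ 0) (hb : b ≠ 0) (hc : c ≠ 0) (hab : a ≠ b)
    (hac : a ≠ c) (hbc : b ≠ c) (x : Matrix.SpecialLinearGroup (Fin 3) F)
    (hx : (x : Matrix (Fin 3) (Fin 3) F) = Matrix.diagonal ![a, b, c])
    (g : Matrix.SpecialLinearGroup (Fin 3) F)
    (hg : ¬ ∃ e : F, (g : Matrix (Fin 3) (Fin 3) F) = e • (1 : Matrix (Fin 3) (Fin 3) F)) :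
    ∃ u v : Matrix.SpecialLinearGroup (Fin 3) F, g = u * x * u⁻¹ * (v * x * v⁻¹) := by
  have habc : a * b * c = 1 := by
    have h1 := x.2
    rw [hx, Matrix.det_diagonal, Fin.prod_univ_three] at h1
    simpa using h1
  have hdet : (g : Matrix (Fin 3) (Fin 3) F).det = a * b * c * (a * b * c) := by
    rw [g.2, habc, mul_one]
  obtain ⟨R, R', l₂₁, l₃₁, l₃₂, u₁₂, u₁₃, u₂₃, h1, h2, h3⟩ :=
    exists_lu (g : Matrix (Fin 3) (Fin 3) F) hg a b c a b c ha hb hc ha hb hc hdet
  obtain ⟨N₁, hN₁, hL⟩ := lower_diag a b c l₂₁ l₃₁ l₃₂ hab hac hbc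
  obtain ⟨N₂, hN₂, hU⟩ := upper_diag a b c u₁₂ u₁₃ u₂₃ hab hac hbc
  refine assemble g x R R' _ _ N₁ N₂ h1 h2 h3 (by rw [hx]; exact hL) (by rw [hx]; exact hU)
    hN₁ hN₂ ?_
  intro e
  rw [hx, Matrix.diagonal_mul_diagonal, Matrix.diagonal_mul_diagonal]
  congr 1
  funext i
  exact mul_comm _ _

theorem X3_pow : X3 ^ 8 = 1 := by
  decide

/-- A field with three elements has characteristic three. -/
theorem charP_three [Fintype F] (hF : Fintype.card F = 3) : CharP F 3 := by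
  have h3 : ((3 : ℕ) : F) = 0 := by
    rw [← hF]
    exact Nat.cast_card_eq_zero F
  have h1 : ringChar F ∣ 3 := ringChar.dvd h3
  have h2 : ringChar F ≠ 1 := CharP.ringChar_ne_one
  have h4 : ringChar F = 3 := by
    rcases (Nat.dvd_prime Nat.prime_three).mp h1 with h | h
    · exact absurd h h2
    · exact h
  have := ringChar.charP F
  rwa [h4] at this

/-- Over the field with three elements, every non-identity element of `SL₃` is a product of two
conjugates of a fixed element of order eight. -/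
theorem exists_conj_three [Fintype F] (hF : Fintype.card F = 3)
    (x : Matrix.SpecialLinearGroup (Fin 3) F)
    (hx : (x : Matrix (Fin 3) (Fin 3) F) = !![-1, 0, 0; 0, 0, 1; 0, 1, 1])
    (g : Matrix.SpecialLinearGroup (Fin 3) F)
    (hg : ¬ ∃ e : F, (g : Matrix (Fin 3) (Fin 3) F) = e • (1 : Matrix (Fin 3) (Fin 3) F)) :
    ∃ u v : Matrix.SpecialLinearGroup (Fin 3) F, g = u * x * u⁻¹ * (v * x * v⁻¹) := by
  have := charP_three hF
  obtain ⟨φ, hφ⟩ : ∃ φ : ZMod 3 →+* F, φ = ZMod.castHom (dvd_refl 3) F := ⟨_, rfl⟩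
  have hinj : Function.Injective φ := φ.injective
  have hsurj : Function.Surjective φ := by
    have hb : Function.Bijective φ := by
      rw [Fintype.bijective_iff_injective_and_card]
      exact ⟨hinj, by rw [ZMod.card, hF]⟩
    exact hb.2
  obtain ⟨R, R', h1, h1', e00, e10, e20⟩ := exists_first_col (g : Matrix (Fin 3) (Fin 3) F) hg
  have hdetG : (R' * (g : Matrix (Fin 3) (Fin 3) F) * R).det = 1 := by
    have h2 : R.det * R'.det = 1 := by rw [← Matrix.det_mul, h1, Matrix.det_one]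
    rw [Matrix.det_mul, Matrix.det_mul, g.2]
    linear_combination h2
  obtain ⟨x2, hx2⟩ := hsurj ((R' * (g : Matrix (Fin 3) (Fin 3) F) * R) 0 1)
  obtain ⟨x3, hx3⟩ := hsurj ((R' * (g : Matrix (Fin 3) (Fin 3) F) * R) 0 2)
  obtain ⟨a, ha⟩ := hsurj ((R' * (g : Matrix (Fin 3) (Fin 3) F) * R) 1 1)
  obtain ⟨b, hb⟩ := hsurj ((R' * (g : Matrix (Fin 3) (Fin 3) F) * R) 1 2)
  obtain ⟨m, hm⟩ := hsurj ((R' * (g : Matrix (Fin 3) (Fin 3) F) * R) 2 1)
  obtain ⟨n, hn⟩ := hsurj ((R' * (g : Matrix (Fin 3) (Fin 3) F) * R) 2 2)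
  have hG : R' * (g : Matrix (Fin 3) (Fin 3) F) * R = (shape x2 x3 a b m n).map φ := by
    ext i j
    fin_cases i <;> fin_cases j <;> simp [shape, e00, e10, e20, hx2, hx3, ha, hb, hm, hn]
  have hdet0 : x3 * m - x2 * n = 1 := by
    apply hinj
    rw [map_sub, map_mul, map_mul, map_one, hx2, hx3, hm, hn]
    rw [Matrix.det_fin_three, e00, e10, e20] at hdetG
    linear_combination hdetG
  obtain ⟨B, C, P, Q, t1, t2, t3, t4, t5⟩ := table3 x2 x3 a b m n hdet0
  have hX : (X3.map φ : Matrix (Fin 3) (Fin 3) F) = (x : Matrix (Fin 3) (Fin 3) F) := by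
    rw [hx]
    ext i j
    fin_cases i <;> fin_cases j <;> simp [X3]
  refine assemble g x R R' (B.map φ) (C.map φ) (P.map φ) (Q.map φ) h1 h1' ?_ ?_ ?_ ?_ ?_ ?_
  · rw [hG, t1, Matrix.map_mul]
  · rw [← hX, ← Matrix.map_mul, ← Matrix.map_mul, t2]
  · rw [← hX, ← Matrix.map_mul, ← Matrix.map_mul, t3]
  · rw [← RingHom.mapMatrix_apply, ← RingHom.map_det, t4, map_one]
  · rw [← RingHom.mapMatrix_apply, ← RingHom.map_det, t5, map_one]
  · intro e
    rw [hx]
    ext i j
    fin_cases i <;> fin_cases j <;> simp [Matrix.mul_apply, Fin.sum_univ_three, Matrix.diagonal]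

end Cfsg.Agent.Lib.Helper46_L3Cover
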