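import Mathlib
import Cfsg.Agent.Lib.Helper13_Herm

/-!
# Helper46_U3SpecPoly

Polynomial lemmas for the spectrum of `PSU₃(q)`: for every `τ` in the field `F` with `q ^ 2`
elements the polynomial `chi q τ = X ^ 3 - τ X ^ 2 + τ ^ q X - 1` (the shape of the characteristic
polynomial of an element of `SU₃(q)`) divides some `X ^ k - c` with `k` one of
`q + 1`, `p (q + 1) / d`, `(q ^ 2 - 1) / d`, `(q ^ 2 - q + 1) / d`.
-/

set_option autoImplicit false
set_option linter.unusedSectionVars false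
set_option linter.unusedVariables false

namespace Cfsg.Agent.Lib.Helper46_U3SpecPoly

open Polynomial Cfsg.Agent.Lib.Helper13_Herm

section basic
variable {F : Type*} [Field F]

/-- The shape of the characteristic polynomial of an element of `SU₃(q)` of trace `τ`. -/
noncomputable def chi (q : ℕ) (τ : F) : F[X] := X ^ 3 - C τ * X ^ 2 + C (τ ^ q) * X - 1

theorem chi_eq (q : ℕ) (τ : F) :
    chi q τ = X ^ 3 - (C τ * X ^ 2 - C (τ ^ q) * X + 1) := by
  unfold chi; ring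

theorem chi_monic (q : ℕ) (τ : F) : (chi q τ).Monic := by
  rw [chi_eq]
  apply monic_X_pow_sub
  compute_degree!

theorem chi_natDegree (q : ℕ) (τ : F) : (chi q τ).natDegree = 3 := by
  unfold chi
  compute_degree!

theorem aeval_chi {L : Type*} [Field L] [Algebra F L] (q : ℕ) (τ : F) (y : L) :
    aeval y (chi q τ) =
      y ^ 3 - algebraMap F L τ * y ^ 2 + algebraMap F L (τ ^ q) * y - 1 := by
  unfold chi
  simp only [map_sub, map_add, map_mul, map_pow, aeval_X, aeval_C, map_one]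

theorem isRoot_chi_iff (q : ℕ) (τ x : F) :
    (chi q τ).IsRoot x ↔ x ^ 3 - τ * x ^ 2 + τ ^ q * x - 1 = 0 := by
  unfold chi
  simp only [IsRoot.def, eval_sub, eval_add, eval_mul, eval_pow, eval_X, eval_C, eval_one]

/-- Three pairwise distinct roots. -/
theorem three_roots_dvd (P : F[X]) (a b c : F) (hab : a ≠ b) (hac : a ≠ c) (hbc : b ≠ c)
    (ha : P.IsRoot a) (hb : P.IsRoot b) (hc : P.IsRoot c) :
    (X - C a) * (X - C b) * (X - C c) ∣ P := by
  have h1 : IsCoprime (X - C a : F[X]) (X - C b) :=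
    isCoprime_X_sub_C_of_isUnit_sub (sub_ne_zero.mpr hab).isUnit
  have h2 : IsCoprime (X - C a : F[X]) (X - C c) :=
    isCoprime_X_sub_C_of_isUnit_sub (sub_ne_zero.mpr hac).isUnit
  have h3 : IsCoprime (X - C b : F[X]) (X - C c) :=
    isCoprime_X_sub_C_of_isUnit_sub (sub_ne_zero.mpr hbc).isUnit
  exact (h2.mul_left h3).mul_dvd (h1.mul_dvd (dvd_iff_isRoot.mpr ha) (dvd_iff_isRoot.mpr hb))
    (dvd_iff_isRoot.mpr hc)

/-- The explicit expansion of a product of three linear factors. -/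
theorem prod_three (a b c : F) :
    (X - C a) * (X - C b) * (X - C c) =
      X ^ 3 - C (a + b + c) * X ^ 2 + C (a * b + a * c + b * c) * X - C (a * b * c) := by
  simp only [map_add, map_mul]; ring

end basic

section finite
variable {F : Type*} [Field F] [Fintype F] {q : ℕ}

/-- If `x` is a root of `chi q τ` in an extension, so is `(x ^ q)⁻¹`. -/
theorem aeval_recip (hF : Fintype.card F = q ^ 2) {L : Type*} [Field L] [Algebra F L]
    (φ : L →+* L) (hφ : ∀ x, φ x = x ^ q) (τ : F) (x : L) (hx : aeval x (chi q τ) = 0) :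
    aeval ((x ^ q)⁻¹) (chi q τ) = 0 := by
  rw [aeval_chi] at hx ⊢
  have hx0 : x ≠ 0 := by
    rintro rfl
    simp at hx
  have h1 := congrArg φ hx
  simp only [map_sub, map_add, map_mul, map_pow, map_one, map_zero] at h1
  rw [hφ x, hφ (algebraMap F L τ)] at h1
  have h3 : (algebraMap F L τ ^ q) ^ q = algebraMap F L τ := by
    rw [← map_pow, ← map_pow, pow_q_pow_q hF]
  rw [h3] at h1
  have hu : x ^ q ≠ 0 := pow_ne_zero _ hx0
  rw [map_pow]
  field_simp
  linear_combination (-1 : L) * h1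

/-- If `x` is a root of `chi q τ` in an extension, so is `x ^ (q ^ 2)`. -/
theorem aeval_frob (hF : Fintype.card F = q ^ 2) {L : Type*} [Field L] [Algebra F L]
    (ψ : L →+* L) (hψ : ∀ x, ψ x = x ^ (q ^ 2)) (τ : F) (x : L) (hx : aeval x (chi q τ) = 0) :
    aeval (x ^ (q ^ 2)) (chi q τ) = 0 := by
  rw [aeval_chi] at hx ⊢
  have h1 := congrArg ψ hx
  simp only [map_sub, map_add, map_mul, map_pow, map_one, map_zero] at h1
  have h2 : ∀ c : F, ψ (algebraMap F L c) = algebraMap F L c := by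
    intro c
    rw [hψ, ← map_pow, ← hF, FiniteField.pow_card]
  rw [h2, hψ x] at h1
  rw [map_pow]
  exact h1

/-- Elements of an extension fixed by `x ↦ x ^ |F|` lie in `F`. -/
theorem mem_range_of_pow_card {L : Type*} [Field L] [Algebra F L] (y : L)
    (hy : y ^ Fintype.card F = y) : ∃ c : F, algebraMap F L c = y := by
  classical
  have hcard : 1 < Fintype.card F := Fintype.one_lt_card
  set P : L[X] := X ^ Fintype.card F - X with hP
  have hP0 : P ≠ 0 := FiniteField.X_pow_card_sub_X_ne_zero L hcard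
  have hdeg : P.natDegree = Fintype.card F := FiniteField.X_pow_card_sub_X_natDegree_eq L hcard
  set S : Finset L := Finset.univ.image (algebraMap F L) with hS
  have hScard : S.card = Fintype.card F := by
    rw [hS, Finset.card_image_of_injective _ (algebraMap F L).injective, Finset.card_univ]
  have hsub : S ⊆ P.roots.toFinset := by
    intro z hz
    rw [hS, Finset.mem_image] at hz
    obtain ⟨c, _, rfl⟩ := hz
    rw [Multiset.mem_toFinset, mem_roots hP0, IsRoot.def, hP, eval_sub, eval_pow, eval_X,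
      ← map_pow, FiniteField.pow_card, sub_self]
  have hle : P.roots.toFinset.card ≤ S.card := by
    rw [hScard, ← hdeg]
    exact (Multiset.toFinset_card_le _).trans (card_roots' P)
  have heq := Finset.eq_of_subset_of_card_le hsub hle
  have hyr : y ∈ P.roots.toFinset := by
    rw [Multiset.mem_toFinset, mem_roots hP0, IsRoot.def, hP, eval_sub, eval_pow, eval_X, hy,
      sub_self]
  rw [← heq, hS, Finset.mem_image] at hyr
  obtain ⟨c, _, hc⟩ := hyr
  exact ⟨c, hc⟩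

theorem pow_sq_sub_one (hF : Fintype.card F = q ^ 2) (x : F) (hx : x ≠ 0) :
    x ^ (q ^ 2 - 1) = 1 := by
  rw [← hF]
  exact FiniteField.pow_card_sub_one_eq_one x hx

/-- `x ↦ x ^ q` as a ring endomorphism of `F`. -/
noncomputable def frobQ (hF : Fintype.card F = q ^ 2) : F →+* F where
  toFun x := x ^ q
  map_one' := one_pow q
  map_mul' x y := mul_pow x y q
  map_zero' := zero_pow (by have := two_le_q hF; omega)
  map_add' := add_pow_q hF

theorem frobQ_apply (hF : Fintype.card F = q ^ 2) (x : F) : frobQ hF x = x ^ q := rfl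

theorem isRoot_recip (hF : Fintype.card F = q ^ 2) (τ x : F) (hx : (chi q τ).IsRoot x) :
    (chi q τ).IsRoot ((x ^ q)⁻¹) := by
  have h := aeval_recip hF (L := F) (frobQ hF) (frobQ_apply hF) τ x
    (by rw [coe_aeval_eq_eval]; exact hx)
  rw [coe_aeval_eq_eval] at h
  exact h

/-- No root `l` of `chi q τ` satisfies `l ^ q = l ^ 2` unless `l ^ (q + 1) = 1`. -/
theorem norm_one_of_pow_q_eq_sq (hF : Fintype.card F = q ^ 2) (l : F) (hl0 : l ≠ 0)
    (h : l ^ q = l ^ 2) : l ^ (q + 1) = 1 := by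
  have h1 : (l ^ q) ^ q = l := pow_q_pow_q hF l
  have h2 : l ^ 4 = l := by
    calc l ^ 4 = (l ^ 2) ^ 2 := by ring
      _ = (l ^ q) ^ 2 := by rw [h]
      _ = (l ^ 2) ^ q := by ring
      _ = (l ^ q) ^ q := by rw [h]
      _ = l := h1
  have h3 : l ^ 3 = 1 := by
    apply mul_left_cancel₀ hl0
    linear_combination h2
  rw [pow_succ, h]
  linear_combination h3

/-- Case of a root of norm different from one: then `chi q τ` has three distinct roots in `F`
and divides `X ^ ((q - 1) e) - c`. -/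
theorem dvd_of_root_norm_ne (hF : Fintype.card F = q ^ 2) (d e : ℕ) (hde : q + 1 = d * e)
    (hd3 : d ∣ 3) (τ l : F) (hl : (chi q τ).IsRoot l) (hN : l ^ (q + 1) ≠ 1) :
    chi q τ ∣ X ^ ((q - 1) * e) - C (l ^ ((q - 1) * e)) := by
  have hq2 : 2 ≤ q := two_le_q hF
  have hm := isRoot_recip hF τ l hl
  obtain ⟨u, hu⟩ : ∃ u, u = l ^ q := ⟨_, rfl⟩
  rw [← hu] at hm
  have hl' := (isRoot_chi_iff q τ l).mp hl
  have hm' := (isRoot_chi_iff q τ _).mp hm
  have hl0 : l ≠ 0 := by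
    rintro rfl
    simp at hl'
  have hu0 : u ≠ 0 := by rw [hu]; exact pow_ne_zero _ hl0
  have huq : u ^ q = l := by rw [hu]; exact pow_q_pow_q hF l
  have hlu : l * u ≠ 1 := by
    intro h
    apply hN
    rw [pow_succ, ← hu, mul_comm]
    exact h
  obtain ⟨m, hmdef⟩ : ∃ m, m = u⁻¹ := ⟨_, rfl⟩
  rw [← hmdef] at hm hm'
  have hmu : m * u = 1 := by rw [hmdef]; exact inv_mul_cancel₀ hu0
  have hlm : l ≠ m := by
    intro h
    apply hlu
    rw [h]; exact hmu
  obtain ⟨ρ, hρ⟩ : ∃ ρ, ρ = τ - l - m := ⟨_, rfl⟩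
  obtain ⟨T, hT⟩ : ∃ T, T = τ ^ q := ⟨_, rfl⟩
  rw [← hT] at hl' hm'
  have e2 : T = l * m + l * ρ + m * ρ := by
    have h0 : (l - m) * (T - (l * m + l * ρ + m * ρ)) = 0 := by
      rw [hρ]; linear_combination hl' - hm'
    rcases mul_eq_zero.mp h0 with h | h
    · exact absurd (sub_eq_zero.mp h) hlm
    · exact sub_eq_zero.mp h
  have e3 : l * m * ρ = 1 := by
    rw [e2] at hl'
    rw [hρ] at hl' ⊢
    linear_combination hl'
  have hfac : chi q τ = (X - C l) * (X - C m) * (X - C ρ) := by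
    have h1 : l + m + ρ = τ := by rw [hρ]; ring
    rw [prod_three, e3, ← e2, h1, hT, C_1]
    rfl
  -- `ρ = u / l`
  have hρl' : ρ * l = u := by
    have : l * ρ * (m * u) = u * (l * m * ρ) := by ring
    rw [hmu, e3] at this
    linear_combination this
  have hρl_ne : ρ ≠ l := by
    intro h
    apply hN
    apply norm_one_of_pow_q_eq_sq hF l hl0
    rw [← hu, ← hρl', h]; ring
  have hρm_ne : ρ ≠ m := by
    intro h
    apply hN
    apply norm_one_of_pow_q_eq_sq hF l hl0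
    -- `l = u ^ 2`
    have h1 : l = u ^ 2 := by
      have : l * (m * u) * (m * u) = u ^ 2 * (l * m * ρ) := by rw [h]; ring
      rw [hmu, e3] at this
      linear_combination this
    calc l ^ q = u := hu.symm
      _ = (u ^ 2) ^ q := by rw [← h1]; exact hu
      _ = (u ^ q) ^ 2 := by ring
      _ = l ^ 2 := by rw [huq]
  -- the three roots of `X ^ k - l ^ k`
  set k := (q - 1) * e with hk
  have hpow1 : l ^ (q ^ 2 - 1) = 1 := pow_sq_sub_one hF l hl0
  have hq21 : q ^ 2 - 1 = (q - 1) * (q + 1) := by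
    obtain ⟨q', rfl⟩ : ∃ q', q = q' + 1 := ⟨q - 1, by omega⟩
    simp only [Nat.add_sub_cancel]
    have : (q' + 1) ^ 2 = q' * (q' + 1 + 1) + 1 := by ring
    rw [this, Nat.add_sub_cancel]
  have hlk_u : l ^ k * u ^ k = 1 := by
    rw [← mul_pow, hu, ← pow_succ', hk, ← pow_mul]
    have : (q + 1) * ((q - 1) * e) = (q ^ 2 - 1) * e := by rw [hq21]; ring
    rw [this, pow_mul, hpow1, one_pow]
  obtain ⟨f, hf⟩ : d ∣ q - 2 := by
    have h1 : d ∣ q + 1 := ⟨e, hde⟩
    have h2 : q - 2 = (q + 1) - 3 := by omega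
    rw [h2]
    exact Nat.dvd_sub h1 hd3
  have hlqk : u ^ k = l ^ (2 * k) := by
    have h1 : q * k = 2 * k + (q - 2) * k := by
      have : q = 2 + (q - 2) := by omega
      conv_lhs => rw [this]
      ring
    have h2 : (q - 2) * k = (q ^ 2 - 1) * f := by
      rw [hk, hf, hq21, hde]; ring
    rw [hu, ← pow_mul, h1, pow_add, h2, pow_mul l (q ^ 2 - 1), hpow1, one_pow, mul_one]
  have hr1 : (X ^ k - C (l ^ k) : F[X]).IsRoot l := by
    simp
  have hr2 : (X ^ k - C (l ^ k) : F[X]).IsRoot m := by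
    simp only [IsRoot.def, eval_sub, eval_pow, eval_X, eval_C]
    have : m ^ k * (l ^ k * u ^ k) = l ^ k * (m * u) ^ k := by ring
    rw [hlk_u, hmu, one_pow, mul_one, mul_one] at this
    rw [this, sub_self]
  have hr3 : (X ^ k - C (l ^ k) : F[X]).IsRoot ρ := by
    simp only [IsRoot.def, eval_sub, eval_pow, eval_X, eval_C]
    have h1 : ρ ^ k * l ^ k = l ^ (2 * k) := by rw [← mul_pow, hρl', hlqk]
    have h2 : l ^ k ≠ 0 := pow_ne_zero _ hl0
    have h3 : ρ ^ k = l ^ k := by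
      apply mul_right_cancel₀ h2
      rw [h1]; ring
    rw [h3, sub_self]
  rw [hfac]
  exact three_roots_dvd _ l m ρ hlm (Ne.symm hρl_ne) (Ne.symm hρm_ne) hr1 hr2 hr3

/-- A repeated root of norm one. -/
theorem dvd_of_repeated (p : ℕ) [Fact p.Prime] [CharP F p] (hp2 : p ≠ 2)
    (hF : Fintype.card F = q ^ 2) (d e : ℕ) (hde : q + 1 = d * e) (hd3 : d ∣ 3)
    (P : F[X]) (a b : F) (hP : P = (X - C a) * (X - C a) * (X - C b))
    (ha : a ^ (q + 1) = 1) (hab : a * a * b = 1) :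
    P ∣ X ^ (p * e) - C (a ^ (p * e)) := by
  obtain ⟨f, hf⟩ := hd3
  have h3e : a ^ (3 * e) = 1 := by
    have : 3 * e = (q + 1) * f := by rw [hf, hde]; ring
    rw [this, pow_mul, ha, one_pow]
  have hbe : b ^ e = a ^ e := by
    have h1 : (a * a * b) ^ e = 1 := by rw [hab, one_pow]
    calc b ^ e = b ^ e * a ^ (3 * e) := by rw [h3e, mul_one]
      _ = (a * a * b) ^ e * a ^ e := by ring
      _ = a ^ e := by rw [h1, one_mul]
  set R : F[X] := X ^ e - C (a ^ e) with hR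
  have hRa : (X - C a) ∣ R := by
    rw [dvd_iff_isRoot, hR]; simp
  have hRb : (X - C b) ∣ R := by
    rw [dvd_iff_isRoot, hR]; simp [hbe]
  have h3 : P ∣ R ^ 3 := by
    rw [hP, pow_succ, pow_two]
    exact mul_dvd_mul (mul_dvd_mul hRa hRa) hRb
  have hp3 : 3 ≤ p := by
    have := (Fact.out : p.Prime).two_le
    omega
  have hRp : R ^ p = X ^ (p * e) - C (a ^ (p * e)) := by
    rw [hR, sub_pow_char, ← pow_mul, ← C_pow, ← pow_mul, mul_comm e p]
  rw [← hRp]
  exact h3.trans (pow_dvd_pow R hp3)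

/-- Case where all roots in `F` have norm one and there is at least one. -/
theorem dvd_of_roots_norm_one (p : ℕ) [Fact p.Prime] [CharP F p] (hp2 : p ≠ 2)
    (hF : Fintype.card F = q ^ 2) (hqo : Odd q) (d e : ℕ) (hde : q + 1 = d * e) (hd3 : d ∣ 3)
    (τ l : F) (hl : (chi q τ).IsRoot l)
    (hall : ∀ x, (chi q τ).IsRoot x → x ^ (q + 1) = 1) :
    chi q τ ∣ X ^ (q + 1) - C 1 ∨ ∃ c, chi q τ ∣ X ^ (p * e) - C c := by
  have hq2 : 2 ≤ q := two_le_q hF
  have hchar : ringChar F ≠ 2 := by rw [ringChar.eq F p]; exact hp2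
  have h20 : (2 : F) ≠ 0 := Ring.two_ne_zero hchar
  have hl' := (isRoot_chi_iff q τ l).mp hl
  have hl0 : l ≠ 0 := by
    rintro rfl
    simp at hl'
  obtain ⟨u, hu⟩ : ∃ u, u = l ^ q := ⟨_, rfl⟩
  obtain ⟨T, hT⟩ : ∃ T, T = τ ^ q := ⟨_, rfl⟩
  have hlu : l * u = 1 := by
    have := hall l hl
    rw [pow_succ, ← hu] at this
    rw [mul_comm]; exact this
  have huq : u ^ q = l := by rw [hu]; exact pow_q_pow_q hF l
  rw [← hT] at hl'
  have hTeq : T = u - l ^ 2 + τ * l := by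
    linear_combination u * hl' - (l ^ 2 - τ * l + T) * hlu
  obtain ⟨D, hD⟩ : ∃ D, D = (l - τ) ^ 2 - 4 * u := ⟨_, rfl⟩
  have hDq : D ^ q = l ^ 2 * D := by
    have h1 : D ^ q = frobQ hF D := rfl
    rw [h1, hD]
    simp only [map_sub, map_mul, map_pow, map_ofNat, frobQ_apply]
    rw [← hu, ← hT, huq, hTeq]
    linear_combination (4 * l) * hlu
  have hsq : IsSquare D := by
    by_cases hD0 : D = 0
    · exact ⟨0, by rw [hD0, mul_zero]⟩
    · rw [FiniteField.isSquare_iff hchar hD0, hF]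
      obtain ⟨j, hj⟩ := hqo
      have h1 : D ^ (q - 1) = l ^ 2 := by
        apply mul_right_cancel₀ hD0
        rw [← pow_succ, ← hDq]
        congr 1
        omega
      have h2 : q ^ 2 / 2 = (q - 1) * (j + 1) := by
        have h3 : q ^ 2 = 2 * ((q - 1) * (j + 1)) + 1 := by
          rw [hj]
          simp only [Nat.add_sub_cancel]
          ring
        omega
      have h4 : l ^ (q + 1) = 1 := hall l hl
      rw [h2, pow_mul, h1, ← pow_mul]
      have : 2 * (j + 1) = q + 1 := by omega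
      rw [this, h4]
  obtain ⟨s, hs⟩ := hsq
  obtain ⟨α, hα⟩ : ∃ α, α = (τ - l + s) / 2 := ⟨_, rfl⟩
  obtain ⟨β, hβ⟩ : ∃ β, β = (τ - l - s) / 2 := ⟨_, rfl⟩
  have hsum : α + β = τ - l := by rw [hα, hβ]; field_simp; ring
  have hprod : α * β = u := by
    rw [hα, hβ]
    field_simp
    linear_combination hs - hD
  have hfac : chi q τ = (X - C l) * (X - C α) * (X - C β) := by
    have h1 : l + α + β = τ := by linear_combination hsum
    have h2 : l * α + l * β + α * β = T := by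
      rw [hTeq, hprod]
      linear_combination l * hsum
    have h3 : l * α * β = 1 := by
      rw [mul_assoc, hprod, hlu]
    rw [prod_three, h1, h2, h3, hT, C_1]
    rfl
  have hrα : (chi q τ).IsRoot α := by
    rw [hfac]; simp
  have hrβ : (chi q τ).IsRoot β := by
    rw [hfac]; simp
  have hNl := hall l hl
  have hNα := hall α hrα
  have hNβ := hall β hrβ
  have hlαβ : l * α * β = 1 := by rw [mul_assoc, hprod, hlu]
  by_cases hdist : l ≠ α ∧ l ≠ β ∧ α ≠ β
  · left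
    rw [hfac]
    apply three_roots_dvd _ l α β hdist.1 hdist.2.1 hdist.2.2
    · simp [hNl]
    · simp [hNα]
    · simp [hNβ]
  · right
    by_cases h1 : l = α
    · refine ⟨_, dvd_of_repeated p hp2 hF d e hde hd3 (chi q τ) l β ?_ hNl ?_⟩
      · rw [hfac, ← h1]
      · rw [← hlαβ, ← h1]
    by_cases h2 : l = β
    · refine ⟨_, dvd_of_repeated p hp2 hF d e hde hd3 (chi q τ) l α ?_ hNl ?_⟩
      · rw [hfac, ← h2]; ring
      · rw [← hlαβ, ← h2]; ring
    have h3 : α = β := by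
      by_contra h3
      exact hdist ⟨h1, h2, h3⟩
    refine ⟨_, dvd_of_repeated p hp2 hF d e hde hd3 (chi q τ) α l ?_ hNα ?_⟩
    · rw [hfac, ← h3]; ring
    · rw [← hlαβ, ← h3]; ring

theorem sq_sub_one_eq (q : ℕ) (hq : 1 ≤ q) : q ^ 2 - 1 = (q - 1) * (q + 1) := by
  obtain ⟨q', rfl⟩ : ∃ q', q = q' + 1 := ⟨q - 1, by omega⟩
  simp only [Nat.add_sub_cancel]
  have : (q' + 1) ^ 2 = q' * (q' + 1 + 1) + 1 := by ring
  rw [this, Nat.add_sub_cancel]

theorem nn_add (q : ℕ) : q ^ 2 - q + 1 + q = q ^ 2 + 1 := by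
  have : q ≤ q ^ 2 := by nlinarith
  omega

theorem dvd_nn (q d e : ℕ) (hde : q + 1 = d * e) (hd3 : d ∣ 3) : d ∣ q ^ 2 - q + 1 := by
  have h1 : q ^ 2 - q + 1 = (q + 1) ^ 2 - 3 * q := by
    have h2 : (q + 1) ^ 2 = q ^ 2 - q + 1 + 3 * q := by
      have : q ≤ q ^ 2 := by nlinarith
      have h3 : (q + 1) ^ 2 = q ^ 2 + 2 * q + 1 := by ring
      omega
    omega
  rw [h1]
  apply Nat.dvd_sub
  · rw [hde]; exact Dvd.dvd.pow (dvd_mul_right d e) two_ne_zero
  · exact Dvd.dvd.mul_right hd3 q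

/-- Case without roots in `F`: the irreducible case. -/
theorem dvd_of_no_root (p : ℕ) [Fact p.Prime] [CharP F p] (hF : Fintype.card F = q ^ 2)
    (n : ℕ) (hqn : q = p ^ n) (d e : ℕ) (hde : q + 1 = d * e) (hd3 : d ∣ 3) (τ : F)
    (hno : ∀ x, ¬ (chi q τ).IsRoot x) :
    ∃ c, chi q τ ∣ X ^ ((q ^ 2 - q + 1) / d) - C c := by
  classical
  have hq2 : 2 ≤ q := two_le_q hF
  have hirr : Irreducible (chi q τ) := by
    rw [Polynomial.Monic.irreducible_iff_roots_eq_zero_of_degree_le_three (chi_monic q τ)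
      (by rw [chi_natDegree]; norm_num) (by rw [chi_natDegree])]
    rw [Multiset.eq_zero_iff_forall_notMem]
    intro t ht
    exact hno t (isRoot_of_mem_roots ht)
  have : Fact (Irreducible (chi q τ)) := ⟨hirr⟩
  obtain ⟨ζ, hζdef⟩ : ∃ ζ : AdjoinRoot (chi q τ), ζ = AdjoinRoot.root (chi q τ) := ⟨_, rfl⟩
  have key : ∀ P : F[X], aeval ζ P = 0 ↔ chi q τ ∣ P := by
    intro P
    rw [hζdef, AdjoinRoot.aeval_eq, AdjoinRoot.mk_eq_zero]
  have hζ : aeval ζ (chi q τ) = 0 := (key _).mpr dvd_rfl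
  have : CharP (AdjoinRoot (chi q τ)) p :=
    charP_of_injective_algebraMap (algebraMap F (AdjoinRoot (chi q τ))).injective p
  obtain ⟨φ, hφ⟩ : ∃ φ : AdjoinRoot (chi q τ) →+* AdjoinRoot (chi q τ), ∀ x, φ x = x ^ q :=
    ⟨iterateFrobenius _ p n, fun x => by
      rw [iterateFrobenius_def]
      exact congrArg (fun k => x ^ k) hqn.symm⟩
  obtain ⟨ψ, hψ⟩ : ∃ ψ : AdjoinRoot (chi q τ) →+* AdjoinRoot (chi q τ),
      ∀ x, ψ x = x ^ (q ^ 2) :=
    ⟨φ.comp φ, fun x => by rw [RingHom.comp_apply, hφ, hφ, ← pow_mul, sq]⟩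
  obtain ⟨ζ₁, hζ₁⟩ : ∃ ζ₁, ζ₁ = ζ ^ (q ^ 2) := ⟨_, rfl⟩
  obtain ⟨ζ₂, hζ₂⟩ : ∃ ζ₂, ζ₂ = ζ₁ ^ (q ^ 2) := ⟨_, rfl⟩
  have hr1 : aeval ζ₁ (chi q τ) = 0 := by rw [hζ₁]; exact aeval_frob hF ψ hψ τ ζ hζ
  have hr2 : aeval ζ₂ (chi q τ) = 0 := by rw [hζ₂]; exact aeval_frob hF ψ hψ τ ζ₁ hr1
  have hcardF : Nat.card F = q ^ 2 := by rw [Nat.card_eq_fintype_card, hF]
  have hne1 : ζ₁ ≠ ζ := by
    intro h
    have h1 : aeval ζ (X ^ (Nat.card F) ^ 1 - X : F[X]) = 0 := by
      rw [map_sub, map_pow, aeval_X, hcardF, pow_one, ← hζ₁, h, sub_self]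
    have h2 := hirr.natDegree_dvd_of_dvd_X_pow_card_pow_sub_X ((key _).mp h1)
    rw [chi_natDegree] at h2
    omega
  have hne2 : ζ₂ ≠ ζ := by
    intro h
    have h1 : aeval ζ (X ^ (Nat.card F) ^ 2 - X : F[X]) = 0 := by
      rw [map_sub, map_pow, aeval_X, hcardF, pow_two (q ^ 2), pow_mul, ← hζ₁, ← hζ₂, h, sub_self]
    have h2 := hirr.natDegree_dvd_of_dvd_X_pow_card_pow_sub_X ((key _).mp h1)
    rw [chi_natDegree] at h2
    omega
  have hne12 : ζ₂ ≠ ζ₁ := by
    intro h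
    apply hne1
    have : ψ ζ₁ = ψ ζ := by rw [hψ, hψ, ← hζ₂, ← hζ₁, h]
    exact ψ.injective this
  have hfac : (chi q τ).map (algebraMap F (AdjoinRoot (chi q τ))) =
      (X - C ζ) * (X - C ζ₁) * (X - C ζ₂) := by
    have hdvd : (X - C ζ) * (X - C ζ₁) * (X - C ζ₂) ∣
        (chi q τ).map (algebraMap F (AdjoinRoot (chi q τ))) := by
      apply three_roots_dvd _ ζ ζ₁ ζ₂ (Ne.symm hne1) (Ne.symm hne2) (Ne.symm hne12)
      all_goals rw [IsRoot.def, eval_map_algebraMap]; assumption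
    have hmon1 : ((X - C ζ) * (X - C ζ₁) * (X - C ζ₂)).Monic :=
      ((monic_X_sub_C ζ).mul (monic_X_sub_C ζ₁)).mul (monic_X_sub_C ζ₂)
    have hmon2 := (chi_monic q τ).map (algebraMap F (AdjoinRoot (chi q τ)))
    apply eq_of_monic_of_dvd_of_natDegree_le hmon1 hmon2 hdvd
    rw [(chi_monic q τ).natDegree_map, chi_natDegree,
      (((monic_X_sub_C ζ).mul (monic_X_sub_C ζ₁))).natDegree_mul (monic_X_sub_C ζ₂),
      (monic_X_sub_C ζ).natDegree_mul (monic_X_sub_C ζ₁), natDegree_X_sub_C, natDegree_X_sub_C,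
      natDegree_X_sub_C]
  have hev : ∀ x : AdjoinRoot (chi q τ),
      aeval x (chi q τ) = (x - ζ) * (x - ζ₁) * (x - ζ₂) := by
    intro x
    rw [← eval_map_algebraMap, hfac]
    simp
  have hprod : ζ * ζ₁ * ζ₂ = 1 := by
    have h0 := hev 0
    rw [aeval_chi] at h0
    simp only [ne_eq, OfNat.ofNat_ne_zero, not_false_eq_true, zero_pow, mul_zero, sub_zero,
      add_zero, zero_sub] at h0
    linear_combination h0
  have hζ0 : ζ ≠ 0 := by
    rintro rfl
    simp at hprod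
  obtain ⟨u, hu⟩ : ∃ u, u = ζ ^ q := ⟨_, rfl⟩
  have hu0 : u ≠ 0 := by rw [hu]; exact pow_ne_zero _ hζ0
  have hφζ : φ ζ = u := by rw [hφ, hu]
  have hφu : φ u = ζ₁ := by rw [hφ, hu, ← pow_mul, ← sq, hζ₁]
  have hnorm : ζ * u ≠ 1 := by
    intro h
    apply hne1
    have h1 : ζ ^ (q + 1) = 1 := by rw [pow_succ', ← hu]; exact h
    have h2 : ζ ^ (q ^ 2 - 1) = 1 := by
      rw [sq_sub_one_eq q (by omega), mul_comm, pow_mul, h1, one_pow]
    have h3 : q ^ 2 = q ^ 2 - 1 + 1 := by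
      have : 1 ≤ q ^ 2 := Nat.one_le_pow _ _ (by omega)
      omega
    rw [hζ₁, h3, pow_succ, h2, one_mul]
  have hy := aeval_recip hF φ hφ τ ζ hζ
  rw [← hu, hev] at hy
  have hcase : u⁻¹ = ζ₂ := by
    rcases mul_eq_zero.mp hy with h | h
    · rcases mul_eq_zero.mp h with h | h
      · exfalso
        apply hnorm
        rw [← sub_eq_zero.mp h]
        exact inv_mul_cancel₀ hu0
      · exfalso
        apply hnorm
        have h1 : ζ₁ * u = 1 := by
          rw [← sub_eq_zero.mp h]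
          exact inv_mul_cancel₀ hu0
        have h2 : φ (ζ * u) = φ 1 := by
          rw [map_mul, map_one, hφζ, hφu, mul_comm]
          exact h1
        exact φ.injective h2
    · exact sub_eq_zero.mp h
  have hNN : ζ ^ (q ^ 2 - q + 1) = 1 := by
    have h1 : ζ * ζ₁ = u := by
      have : ζ * ζ₁ * ζ₂ * u = u := by rw [hprod, one_mul]
      rw [← hcase, mul_assoc, inv_mul_cancel₀ hu0, mul_one] at this
      exact this
    have h2 : ζ ^ (q ^ 2 - q + 1) * u = u := by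
      rw [hu, ← pow_add, nn_add, pow_succ', ← hζ₁, ← hu]
      exact h1
    exact mul_right_cancel₀ hu0 (by rw [h2, one_mul])
  have hdN : d ∣ q ^ 2 - q + 1 := dvd_nn q d e hde hd3
  obtain ⟨y, hy'⟩ : ∃ y, y = ζ ^ ((q ^ 2 - q + 1) / d) := ⟨_, rfl⟩
  have hyd : y ^ d = 1 := by
    rw [hy', ← pow_mul, Nat.div_mul_cancel hdN, hNN]
  have hyq : y ^ (q ^ 2 - 1) = 1 := by
    rw [sq_sub_one_eq q (by omega), hde]
    have : (q - 1) * (d * e) = d * ((q - 1) * e) := by ring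
    rw [this, pow_mul, hyd, one_pow]
  have hyQ : y ^ Fintype.card F = y := by
    have h3 : q ^ 2 = q ^ 2 - 1 + 1 := by
      have : 1 ≤ q ^ 2 := Nat.one_le_pow _ _ (by omega)
      omega
    rw [hF, h3, pow_succ, hyq, one_mul]
  obtain ⟨c, hc⟩ := mem_range_of_pow_card y hyQ
  refine ⟨c, (key _).mp ?_⟩
  rw [map_sub, map_pow, aeval_X, aeval_C, hc, hy', sub_self]

theorem exists_pow_eq (p : ℕ) [Fact p.Prime] [CharP F p] (hF : Fintype.card F = q ^ 2) :
    ∃ n, q = p ^ n := by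
  obtain ⟨p', j, hp', hchar', hq⟩ := exists_char_pow hF
  have : p' = p := CharP.eq F hchar' ‹CharP F p›
  rw [this] at hq
  exact ⟨j, hq⟩

theorem odd_q (p : ℕ) [Fact p.Prime] [CharP F p] (hp2 : p ≠ 2) (hF : Fintype.card F = q ^ 2) :
    Odd q := by
  obtain ⟨n, rfl⟩ := exists_pow_eq p hF
  exact ((Fact.out : p.Prime).eq_two_or_odd'.resolve_left hp2).pow

/-- Summary: `chi q τ` divides `X ^ k - c` for one of the four admissible `k`. -/
theorem exists_dvd (p : ℕ) [Fact p.Prime] [CharP F p] (hp2 : p ≠ 2)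
    (hF : Fintype.card F = q ^ 2) (τ : F) :
    ∃ k c, (k = q + 1 ∨ k = p * (q + 1) / Nat.gcd 3 (q + 1) ∨
        k = (q ^ 2 - 1) / Nat.gcd 3 (q + 1) ∨ k = (q ^ 2 - q + 1) / Nat.gcd 3 (q + 1)) ∧
      chi q τ ∣ X ^ k - C c := by
  have hq2 : 2 ≤ q := two_le_q hF
  obtain ⟨n, hqn⟩ := exists_pow_eq p hF
  have hqo : Odd q := odd_q p hp2 hF
  obtain ⟨d, hd⟩ : ∃ d, d = Nat.gcd 3 (q + 1) := ⟨_, rfl⟩
  have hd3 : d ∣ 3 := by rw [hd]; exact Nat.gcd_dvd_left _ _
  have hdq : d ∣ q + 1 := by rw [hd]; exact Nat.gcd_dvd_right _ _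
  have hdpos : 0 < d := Nat.pos_of_dvd_of_pos hd3 (by norm_num)
  obtain ⟨e, hde⟩ := hdq
  rw [← hd]
  have hk2 : p * (q + 1) / d = p * e := by
    rw [hde, ← mul_assoc, mul_comm p d, mul_assoc, Nat.mul_div_cancel_left _ hdpos]
  have hk3 : (q ^ 2 - 1) / d = (q - 1) * e := by
    apply Nat.div_eq_of_eq_mul_right hdpos
    rw [sq_sub_one_eq q (by omega), hde]; ring
  by_cases h1 : ∃ l, (chi q τ).IsRoot l ∧ l ^ (q + 1) ≠ 1
  · obtain ⟨l, hl, hN⟩ := h1
    exact ⟨_, _, Or.inr (Or.inr (Or.inl hk3.symm)), dvd_of_root_norm_ne hF d e hde hd3 τ l hl hN⟩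
  · by_cases h2 : ∃ l, (chi q τ).IsRoot l
    · obtain ⟨l, hl⟩ := h2
      have hall : ∀ x, (chi q τ).IsRoot x → x ^ (q + 1) = 1 := by
        intro x hx
        by_contra hne
        exact h1 ⟨x, hx, hne⟩
      rcases dvd_of_roots_norm_one p hp2 hF hqo d e hde hd3 τ l hl hall with h | ⟨c, h⟩
      · exact ⟨_, _, Or.inl rfl, h⟩
      · exact ⟨_, c, Or.inr (Or.inl hk2.symm), h⟩
    · have hno : ∀ x, ¬ (chi q τ).IsRoot x := fun x hx => h2 ⟨x, hx⟩
      obtain ⟨c, hc⟩ := dvd_of_no_root p hF n hqn d e hde hd3 τ hno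
      exact ⟨_, c, Or.inr (Or.inr (Or.inr rfl)), hc⟩

end finite

end Cfsg.Agent.Lib.Helper46_U3SpecPoly
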