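import Mathlib
import Cfsg.Agent.Lib.Helper46_U3SpecPoly

/-!
# Helper46_L3SpecPoly

Polynomial lemmas for the spectrum of `PSL₃(q)`: every monic cubic `psi a b = X ^ 3 - a X ^ 2 + b X - 1`
over the field `F` with `q` elements divides some `X ^ k - c` with `k` one of
`(q ^ 2 + q + 1) / d`, `(q ^ 2 - 1) / d`, `q - 1`, `p (q - 1) / d`, or `4` when `p = 2`.
-/

set_option autoImplicit false
set_option linter.unusedSectionVars false
set_option linter.unusedVariables false

namespace Cfsg.Agent.Lib.Helper46_L3SpecPoly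

open Polynomial Cfsg.Agent.Lib.Helper46_U3SpecPoly

section basic
variable {F : Type*} [Field F]

/-- The general shape of the characteristic polynomial of an element of `SL₃`. -/
noncomputable def psi (a b : F) : F[X] := X ^ 3 - C a * X ^ 2 + C b * X - 1

theorem psi_monic (a b : F) : (psi a b).Monic := by
  have : psi a b = X ^ 3 - (C a * X ^ 2 - C b * X + 1) := by unfold psi; ring
  rw [this]
  apply monic_X_pow_sub
  compute_degree!

theorem psi_natDegree (a b : F) : (psi a b).natDegree = 3 := by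
  unfold psi
  compute_degree!

theorem aeval_psi {L : Type*} [Field L] [Algebra F L] (a b : F) (y : L) :
    aeval y (psi a b) =
      y ^ 3 - algebraMap F L a * y ^ 2 + algebraMap F L b * y - 1 := by
  unfold psi
  simp only [map_sub, map_add, map_mul, map_pow, aeval_X, aeval_C, map_one]

theorem isRoot_psi_iff (a b x : F) :
    (psi a b).IsRoot x ↔ x ^ 3 - a * x ^ 2 + b * x - 1 = 0 := by
  unfold psi
  simp only [IsRoot.def, eval_sub, eval_add, eval_mul, eval_pow, eval_X, eval_C, eval_one]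

end basic

section finite
variable {F : Type*} [Field F] [Fintype F]

/-- A repeated root. -/
theorem dvd_of_repeated' (p : ℕ) [Fact p.Prime] [CharP F p] (q : ℕ) (hq : Fintype.card F = q)
    (d e : ℕ) (hde : q - 1 = d * e) (hd3 : d ∣ 3)
    (P : F[X]) (a b : F) (hP : P = (X - C a) * (X - C a) * (X - C b)) (hab : a * a * b = 1) :
    (∃ c, P ∣ X ^ (p * e) - C c) ∨ (p = 2 ∧ ∃ c, P ∣ X ^ 4 - C c) := by
  have ha0 : a ≠ 0 := by
    rintro rfl
    simp at hab
  have haq : a ^ (q - 1) = 1 := by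
    rw [← hq]; exact FiniteField.pow_card_sub_one_eq_one a ha0
  obtain ⟨f, hf⟩ := hd3
  have h3e : a ^ (3 * e) = 1 := by
    have : 3 * e = (q - 1) * f := by rw [hf, hde]; ring
    rw [this, pow_mul, haq, one_pow]
  have hbe : b ^ e = a ^ e := by
    have h1 : (a * a * b) ^ e = 1 := by rw [hab, one_pow]
    calc b ^ e = b ^ e * a ^ (3 * e) := by rw [h3e, mul_one]
      _ = (a * a * b) ^ e * a ^ e := by ring
      _ = a ^ e := by rw [h1, one_mul]
  set R : F[X] := X ^ e - C (a ^ e) with hR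
  have hRa : (X - C a) ∣ R := by
    rw [dvd_iff_isRoot, hR]; simp
  have hRb : (X - C b) ∣ R := by
    rw [dvd_iff_isRoot, hR]; simp [hbe]
  have hRp : R ^ p = X ^ (p * e) - C (a ^ (p * e)) := by
    rw [hR, sub_pow_char, ← pow_mul, ← C_pow, ← pow_mul, mul_comm e p]
  have hp2 := (Fact.out : p.Prime).two_le
  by_cases hp3 : 3 ≤ p
  · left
    refine ⟨a ^ (p * e), ?_⟩
    rw [← hRp]
    have h3 : P ∣ R ^ 3 := by
      rw [hP, pow_succ, pow_two]
      exact mul_dvd_mul (mul_dvd_mul hRa hRa) hRb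
    exact h3.trans (pow_dvd_pow R hp3)
  · have hp : p = 2 := by omega
    by_cases hne : a = b
    · right
      refine ⟨hp, a ^ 4, ?_⟩
      have h4 : (X - C a : F[X]) ^ 4 = X ^ 4 - C (a ^ 4) := by
        have h5 : (X - C a : F[X]) ^ p ^ 2 = X ^ p ^ 2 - (C a) ^ p ^ 2 := sub_pow_char_pow ..
        rw [hp] at h5
        norm_num at h5
        rw [h5, C_pow]
      rw [← h4, hP, ← hne, pow_succ, pow_succ, pow_two]
      exact Dvd.intro _ rfl
    · left
      refine ⟨a ^ (p * e), ?_⟩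
      rw [← hRp, hp, pow_two, hP, mul_assoc]
      apply mul_dvd_mul hRa
      exact (isCoprime_X_sub_C_of_isUnit_sub (sub_ne_zero.mpr hne).isUnit).mul_dvd hRa hRb

/-- The completely split case. -/
theorem dvd_of_split (p : ℕ) [Fact p.Prime] [CharP F p] (q : ℕ) (hq : Fintype.card F = q)
    (d e : ℕ) (hde : q - 1 = d * e) (hd3 : d ∣ 3)
    (P : F[X]) (r s t : F) (hP : P = (X - C r) * (X - C s) * (X - C t)) (hrst : r * s * t = 1) :
    P ∣ X ^ (q - 1) - C 1 ∨ (∃ c, P ∣ X ^ (p * e) - C c) ∨ (p = 2 ∧ ∃ c, P ∣ X ^ 4 - C c) := by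
  have hr0 : r ≠ 0 := by rintro rfl; simp at hrst
  have hs0 : s ≠ 0 := by rintro rfl; simp at hrst
  have ht0 : t ≠ 0 := by rintro rfl; simp at hrst
  have hpow : ∀ x : F, x ≠ 0 → x ^ (q - 1) = 1 := by
    intro x hx
    rw [← hq]; exact FiniteField.pow_card_sub_one_eq_one x hx
  by_cases hdist : r ≠ s ∧ r ≠ t ∧ s ≠ t
  · left
    rw [hP]
    apply three_roots_dvd _ r s t hdist.1 hdist.2.1 hdist.2.2
    · simp [hpow r hr0]
    · simp [hpow s hs0]
    · simp [hpow t ht0]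
  · right
    by_cases h1 : r = s
    · refine dvd_of_repeated' p q hq d e hde hd3 P r t ?_ ?_
      · rw [hP, ← h1]
      · rw [← hrst, ← h1]
    by_cases h2 : r = t
    · refine dvd_of_repeated' p q hq d e hde hd3 P r s ?_ ?_
      · rw [hP, ← h2]; ring
      · rw [← hrst, ← h2]; ring
    have h3 : s = t := by
      by_contra h3
      exact hdist ⟨h1, h2, h3⟩
    refine dvd_of_repeated' p q hq d e hde hd3 P s r ?_ ?_
    · rw [hP, ← h3]; ring
    · rw [← hrst, ← h3]; ring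

theorem exists_frobenius (p : ℕ) [Fact p.Prime] [CharP F p] (q : ℕ)
    (hq : Fintype.card F = q) {L : Type*} [Field L] [Algebra F L] :
    ∃ φ : L →+* L, ∀ x, φ x = x ^ q := by
  obtain ⟨n, -, hn⟩ := FiniteField.card F p
  have : CharP L p := charP_of_injective_algebraMap (algebraMap F L).injective p
  refine ⟨iterateFrobenius L p n, fun x => ?_⟩
  rw [iterateFrobenius_def]
  exact congrArg (fun k => x ^ k) (by rw [← hq, hn])

theorem frob_algebraMap (q : ℕ) (hq : Fintype.card F = q) {L : Type*} [Field L] [Algebra F L]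
    (c : F) : (algebraMap F L c) ^ q = algebraMap F L c := by
  rw [← map_pow, ← hq, FiniteField.pow_card]

omit [Fintype F] in
theorem aeval_quad {L : Type*} [Field L] [Algebra F L] (u v : F) (Qd : F[X])
    (hQd : Qd = X ^ 2 + C u * X + C v) (x : L) :
    aeval x Qd = x ^ 2 + algebraMap F L u * x + algebraMap F L v := by
  rw [hQd]
  simp only [map_add, map_mul, map_pow, aeval_X, aeval_C]

/-- One root in `F` and an irreducible quadratic factor. -/
theorem dvd_of_quadratic (p : ℕ) [Fact p.Prime] [CharP F p] (q : ℕ) (hq : Fintype.card F = q)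
    (d e : ℕ) (hde : q - 1 = d * e) (hd3 : d ∣ 3) (r u v : F) (hrv : r * v = 1)
    (hno : ∀ x, ¬ (X ^ 2 + C u * X + C v : F[X]).IsRoot x) :
    (X - C r) * (X ^ 2 + C u * X + C v) ∣ X ^ ((q + 1) * e) - C (r ^ ((q + 1) * e)) := by
  classical
  have hq2 : 2 ≤ q := by rw [← hq]; exact Fintype.one_lt_card
  obtain ⟨Qd, hQd⟩ : ∃ Qd : F[X], Qd = X ^ 2 + C u * X + C v := ⟨_, rfl⟩
  rw [← hQd] at hno ⊢
  have hmonic : Qd.Monic := by
    have : Qd = X ^ 2 + (C u * X + C v) := by rw [hQd]; ring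
    rw [this]
    apply monic_X_pow_add
    compute_degree!
  have hdeg : Qd.natDegree = 2 := by
    rw [hQd]; compute_degree!
  have hirr : Irreducible Qd := by
    rw [Polynomial.Monic.irreducible_iff_roots_eq_zero_of_degree_le_three hmonic
      (by rw [hdeg]) (by rw [hdeg]; norm_num)]
    rw [Multiset.eq_zero_iff_forall_notMem]
    intro t ht
    exact hno t (isRoot_of_mem_roots ht)
  have : Fact (Irreducible Qd) := ⟨hirr⟩
  obtain ⟨β, hβdef⟩ : ∃ β : AdjoinRoot Qd, β = AdjoinRoot.root Qd := ⟨_, rfl⟩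
  have key : ∀ P : F[X], aeval β P = 0 ↔ Qd ∣ P := by
    intro P
    rw [hβdef, AdjoinRoot.aeval_eq, AdjoinRoot.mk_eq_zero]
  have hβ : aeval β Qd = 0 := (key _).mpr dvd_rfl
  obtain ⟨φ, hφ⟩ := exists_frobenius p q hq (L := AdjoinRoot Qd)
  have hφa : ∀ c : F, φ (algebraMap F (AdjoinRoot Qd) c) = algebraMap F (AdjoinRoot Qd) c := by
    intro c; rw [hφ, frob_algebraMap q hq]
  have haev : ∀ x : AdjoinRoot Qd, aeval x Qd =
      x ^ 2 + algebraMap F (AdjoinRoot Qd) u * x + algebraMap F (AdjoinRoot Qd) v := by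
    intro x
    exact aeval_quad u v Qd hQd x
  have hfrob : ∀ x : AdjoinRoot Qd, aeval x Qd = 0 → aeval (φ x) Qd = 0 := by
    intro x hx
    rw [haev] at hx ⊢
    have h1 := congrArg φ hx
    simp only [map_add, map_mul, map_pow, map_zero, hφa] at h1
    exact h1
  obtain ⟨β₁, hβ₁⟩ : ∃ β₁, β₁ = φ β := ⟨_, rfl⟩
  have hr1 : aeval β₁ Qd = 0 := by rw [hβ₁]; exact hfrob β hβ
  have hcardF : Nat.card F = q := by rw [Nat.card_eq_fintype_card, hq]
  have hne1 : β₁ ≠ β := by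
    intro h
    have h1 : aeval β (X ^ (Nat.card F) ^ 1 - X : F[X]) = 0 := by
      rw [map_sub, map_pow, aeval_X, hcardF, pow_one, ← hφ, ← hβ₁, h, sub_self]
    have h2 := hirr.natDegree_dvd_of_dvd_X_pow_card_pow_sub_X ((key _).mp h1)
    rw [hdeg] at h2
    omega
  have hfac : Qd.map (algebraMap F (AdjoinRoot Qd)) = (X - C β) * (X - C β₁) := by
    have hdvd : (X - C β) * (X - C β₁) ∣ Qd.map (algebraMap F (AdjoinRoot Qd)) := by
      apply (isCoprime_X_sub_C_of_isUnit_sub (sub_ne_zero.mpr (Ne.symm hne1)).isUnit).mul_dvd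
      · rw [dvd_iff_isRoot, IsRoot.def, eval_map_algebraMap]; exact hβ
      · rw [dvd_iff_isRoot, IsRoot.def, eval_map_algebraMap]; exact hr1
    have hmon1 : ((X - C β) * (X - C β₁)).Monic := (monic_X_sub_C β).mul (monic_X_sub_C β₁)
    have hmon2 := hmonic.map (algebraMap F (AdjoinRoot Qd))
    apply eq_of_monic_of_dvd_of_natDegree_le hmon1 hmon2 hdvd
    rw [hmonic.natDegree_map, hdeg, (monic_X_sub_C β).natDegree_mul (monic_X_sub_C β₁),
      natDegree_X_sub_C, natDegree_X_sub_C]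
  have hev : ∀ x : AdjoinRoot Qd, aeval x Qd = (x - β) * (x - β₁) := by
    intro x
    rw [← eval_map_algebraMap, hfac]
    simp
  have hprod : β * β₁ = algebraMap F (AdjoinRoot Qd) v := by
    have h0 := hev 0
    rw [haev] at h0
    simp only [ne_eq, OfNat.ofNat_ne_zero, not_false_eq_true, zero_pow, mul_zero, add_zero,
      zero_add, zero_sub] at h0
    rw [h0]; ring
  have hv0 : v ≠ 0 := by
    rintro rfl
    simp at hrv
  have hβ0 : β ≠ 0 := by
    rintro rfl
    rw [zero_mul] at hprod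
    exact hv0 ((map_eq_zero _).mp hprod.symm)
  have hφβ₁ : φ β₁ = β := by
    have h2 := hfrob β₁ hr1
    rw [hev] at h2
    rcases mul_eq_zero.mp h2 with h | h
    · exact sub_eq_zero.mp h
    · exfalso
      apply hne1
      have : φ β₁ = φ β := by rw [sub_eq_zero.mp h, hβ₁]
      exact φ.injective this
  have hβQ : β ^ (q ^ 2 - 1) = 1 := by
    have h1 : β ^ (q ^ 2) = β := by
      rw [sq, pow_mul, ← hφ β, ← hβ₁, ← hφ β₁, hφβ₁]
    have h3 : q ^ 2 = q ^ 2 - 1 + 1 := by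
      have : 1 ≤ q ^ 2 := Nat.one_le_pow _ _ (by omega)
      omega
    rw [h3, pow_succ] at h1
    exact mul_right_cancel₀ hβ0 (by rw [h1, one_mul])
  -- the key identity `β ^ k = r ^ k`
  obtain ⟨k, hk⟩ : ∃ k, k = (q + 1) * e := ⟨_, rfl⟩
  rw [← hk]
  have hrβ : algebraMap F (AdjoinRoot Qd) r * β ^ (q + 1) = 1 := by
    rw [pow_succ', ← hφ, ← hβ₁, hprod, ← map_mul, hrv, map_one]
  obtain ⟨f, hf⟩ := hd3
  have hβk : β ^ k = algebraMap F (AdjoinRoot Qd) (r ^ k) := by
    have h1 : (algebraMap F (AdjoinRoot Qd) r) ^ k * β ^ ((q + 1) * k) = 1 := by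
      rw [pow_mul β (q + 1) k, ← mul_pow, hrβ, one_pow]
    have h2 : β ^ ((q + 2) * k) = 1 := by
      have : (q + 2) * k = (q ^ 2 - 1) * (e + f) := by
        rw [hk, sq_sub_one_eq q (by omega)]
        have : q + 2 = d * (e + f) := by
          rw [Nat.mul_add, ← hde, ← hf]; omega
        rw [this, hde]; ring
      rw [this, pow_mul, hβQ, one_pow]
    have h3 : β ^ k * β ^ ((q + 1) * k) = 1 := by
      rw [← pow_add, ← h2]
      congr 1
      ring
    have h4 : β ^ ((q + 1) * k) ≠ 0 := pow_ne_zero _ hβ0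
    rw [map_pow]
    apply mul_right_cancel₀ h4
    rw [h3, h1]
  have hQdvd : Qd ∣ X ^ k - C (r ^ k) := by
    rw [← key, map_sub, map_pow, aeval_X, aeval_C, hβk, sub_self]
  have hrdvd : (X - C r) ∣ X ^ k - C (r ^ k) := by
    rw [dvd_iff_isRoot]; simp
  have hcop : IsCoprime (X - C r) Qd := by
    rw [(irreducible_X_sub_C r).coprime_iff_not_dvd, dvd_iff_isRoot]
    exact hno r
  exact hcop.mul_dvd hrdvd hQdvd

theorem nn3_eq (q d e f : ℕ) (hq : 2 ≤ q) (hde : q - 1 = d * e) (hf : 3 = d * f) :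
    q ^ 2 + q + 1 = d * (e * (q + 2) + f) := by
  rw [Nat.mul_add, ← mul_assoc, ← hde, ← hf]
  obtain ⟨q', rfl⟩ : ∃ q', q = q' + 1 := ⟨q - 1, by omega⟩
  simp only [Nat.add_sub_cancel]
  ring

/-- The irreducible case. -/
theorem dvd_of_no_root' (p : ℕ) [Fact p.Prime] [CharP F p] (q : ℕ) (hq : Fintype.card F = q)
    (d e : ℕ) (hde : q - 1 = d * e) (hd3 : d ∣ 3) (a b : F)
    (hno : ∀ x, ¬ (psi a b).IsRoot x) :
    ∃ c, psi a b ∣ X ^ ((q ^ 2 + q + 1) / d) - C c := by
  classical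
  have hq2 : 2 ≤ q := by rw [← hq]; exact Fintype.one_lt_card
  have hirr : Irreducible (psi a b) := by
    rw [Polynomial.Monic.irreducible_iff_roots_eq_zero_of_degree_le_three (psi_monic a b)
      (by rw [psi_natDegree]; norm_num) (by rw [psi_natDegree])]
    rw [Multiset.eq_zero_iff_forall_notMem]
    intro t ht
    exact hno t (isRoot_of_mem_roots ht)
  have : Fact (Irreducible (psi a b)) := ⟨hirr⟩
  obtain ⟨ζ, hζdef⟩ : ∃ ζ : AdjoinRoot (psi a b), ζ = AdjoinRoot.root (psi a b) := ⟨_, rfl⟩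
  have key : ∀ P : F[X], aeval ζ P = 0 ↔ psi a b ∣ P := by
    intro P
    rw [hζdef, AdjoinRoot.aeval_eq, AdjoinRoot.mk_eq_zero]
  have hζ : aeval ζ (psi a b) = 0 := (key _).mpr dvd_rfl
  obtain ⟨φ, hφ⟩ := exists_frobenius p q hq (L := AdjoinRoot (psi a b))
  have hφa : ∀ c : F, φ (algebraMap F (AdjoinRoot (psi a b)) c) =
      algebraMap F (AdjoinRoot (psi a b)) c := by
    intro c; rw [hφ, frob_algebraMap q hq]
  have hfrob : ∀ x : AdjoinRoot (psi a b), aeval x (psi a b) = 0 → aeval (φ x) (psi a b) = 0 := by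
    intro x hx
    rw [aeval_psi] at hx ⊢
    have h1 := congrArg φ hx
    simp only [map_sub, map_add, map_mul, map_pow, map_zero, map_one, hφa] at h1
    exact h1
  obtain ⟨ζ₁, hζ₁⟩ : ∃ ζ₁, ζ₁ = φ ζ := ⟨_, rfl⟩
  obtain ⟨ζ₂, hζ₂⟩ : ∃ ζ₂, ζ₂ = φ ζ₁ := ⟨_, rfl⟩
  have hr1 : aeval ζ₁ (psi a b) = 0 := by rw [hζ₁]; exact hfrob ζ hζ
  have hr2 : aeval ζ₂ (psi a b) = 0 := by rw [hζ₂]; exact hfrob ζ₁ hr1
  have hcardF : Nat.card F = q := by rw [Nat.card_eq_fintype_card, hq]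
  have hne1 : ζ₁ ≠ ζ := by
    intro h
    have h1 : aeval ζ (X ^ (Nat.card F) ^ 1 - X : F[X]) = 0 := by
      rw [map_sub, map_pow, aeval_X, hcardF, pow_one, ← hφ, ← hζ₁, h, sub_self]
    have h2 := hirr.natDegree_dvd_of_dvd_X_pow_card_pow_sub_X ((key _).mp h1)
    rw [psi_natDegree] at h2
    omega
  have hne2 : ζ₂ ≠ ζ := by
    intro h
    have h1 : aeval ζ (X ^ (Nat.card F) ^ 2 - X : F[X]) = 0 := by
      rw [map_sub, map_pow, aeval_X, hcardF, sq, pow_mul, ← hφ ζ, ← hζ₁, ← hφ ζ₁, ← hζ₂, h,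
        sub_self]
    have h2 := hirr.natDegree_dvd_of_dvd_X_pow_card_pow_sub_X ((key _).mp h1)
    rw [psi_natDegree] at h2
    omega
  have hne12 : ζ₂ ≠ ζ₁ := by
    intro h
    apply hne1
    have : φ ζ₁ = φ ζ := by rw [← hζ₂, ← hζ₁, h]
    exact φ.injective this
  have hfac : (psi a b).map (algebraMap F (AdjoinRoot (psi a b))) =
      (X - C ζ) * (X - C ζ₁) * (X - C ζ₂) := by
    have hdvd : (X - C ζ) * (X - C ζ₁) * (X - C ζ₂) ∣
        (psi a b).map (algebraMap F (AdjoinRoot (psi a b))) := by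
      apply three_roots_dvd _ ζ ζ₁ ζ₂ (Ne.symm hne1) (Ne.symm hne2) (Ne.symm hne12)
      all_goals rw [IsRoot.def, eval_map_algebraMap]; assumption
    have hmon1 : ((X - C ζ) * (X - C ζ₁) * (X - C ζ₂)).Monic :=
      ((monic_X_sub_C ζ).mul (monic_X_sub_C ζ₁)).mul (monic_X_sub_C ζ₂)
    have hmon2 := (psi_monic a b).map (algebraMap F (AdjoinRoot (psi a b)))
    apply eq_of_monic_of_dvd_of_natDegree_le hmon1 hmon2 hdvd
    rw [(psi_monic a b).natDegree_map, psi_natDegree,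
      (((monic_X_sub_C ζ).mul (monic_X_sub_C ζ₁))).natDegree_mul (monic_X_sub_C ζ₂),
      (monic_X_sub_C ζ).natDegree_mul (monic_X_sub_C ζ₁), natDegree_X_sub_C, natDegree_X_sub_C,
      natDegree_X_sub_C]
  have hev : ∀ x : AdjoinRoot (psi a b),
      aeval x (psi a b) = (x - ζ) * (x - ζ₁) * (x - ζ₂) := by
    intro x
    rw [← eval_map_algebraMap, hfac]
    simp
  have hprod : ζ * ζ₁ * ζ₂ = 1 := by
    have h0 := hev 0
    rw [aeval_psi] at h0
    simp only [ne_eq, OfNat.ofNat_ne_zero, not_false_eq_true, zero_pow, mul_zero, sub_zero,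
      add_zero, zero_sub] at h0
    linear_combination h0
  obtain ⟨f, hf⟩ := hd3
  have hN := nn3_eq q d e f hq2 hde hf
  have hdpos : 0 < d := by
    rcases Nat.eq_zero_or_pos d with h | h
    · rw [h, zero_mul] at hf; omega
    · exact h
  have hNN : ζ ^ (q ^ 2 + q + 1) = 1 := by
    have : q ^ 2 + q + 1 = 1 + q + q * q := by ring
    rw [this, pow_add, pow_add, pow_one, pow_mul, ← hφ ζ, ← hζ₁, ← hφ ζ₁, ← hζ₂]
    exact hprod
  obtain ⟨y, hy'⟩ : ∃ y, y = ζ ^ ((q ^ 2 + q + 1) / d) := ⟨_, rfl⟩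
  have hyd : y ^ d = 1 := by
    rw [hy', ← pow_mul, Nat.div_mul_cancel ⟨_, hN⟩, hNN]
  have hyq : y ^ (q - 1) = 1 := by
    rw [hde, pow_mul, hyd, one_pow]
  have hyQ : y ^ Fintype.card F = y := by
    have h3 : q = q - 1 + 1 := by omega
    rw [hq, h3, pow_succ, hyq, one_mul]
  obtain ⟨c, hc⟩ := mem_range_of_pow_card y hyQ
  refine ⟨c, (key _).mp ?_⟩
  rw [map_sub, map_pow, aeval_X, aeval_C, hc, hy', sub_self]

/-- Summary: every `psi a b` divides some `X ^ k - c` with `k` admissible. -/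
theorem exists_dvd_psi (p : ℕ) [Fact p.Prime] [CharP F p] (a b : F) :
    ∃ k c, (k = (Fintype.card F ^ 2 + Fintype.card F + 1) / Nat.gcd 3 (Fintype.card F - 1) ∨
        k = (Fintype.card F ^ 2 - 1) / Nat.gcd 3 (Fintype.card F - 1) ∨
        k = Fintype.card F - 1 ∨
        k = p * (Fintype.card F - 1) / Nat.gcd 3 (Fintype.card F - 1) ∨ (p = 2 ∧ k = 4)) ∧
      psi a b ∣ X ^ k - C c := by
  obtain ⟨q, hq⟩ : ∃ q, Fintype.card F = q := ⟨_, rfl⟩
  rw [hq]
  have hq2 : 2 ≤ q := by rw [← hq]; exact Fintype.one_lt_card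
  obtain ⟨d, hd⟩ : ∃ d, d = Nat.gcd 3 (q - 1) := ⟨_, rfl⟩
  have hd3 : d ∣ 3 := by rw [hd]; exact Nat.gcd_dvd_left _ _
  have hdq : d ∣ q - 1 := by rw [hd]; exact Nat.gcd_dvd_right _ _
  have hdpos : 0 < d := Nat.pos_of_dvd_of_pos hd3 (by norm_num)
  obtain ⟨e, hde⟩ := hdq
  rw [← hd]
  have hk4 : p * (q - 1) / d = p * e := by
    rw [hde, ← mul_assoc, mul_comm p d, mul_assoc, Nat.mul_div_cancel_left _ hdpos]
  have hk2 : (q ^ 2 - 1) / d = (q + 1) * e := by
    apply Nat.div_eq_of_eq_mul_right hdpos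
    rw [sq_sub_one_eq q (by omega), hde]; ring
  by_cases h1 : ∃ r, (psi a b).IsRoot r
  · obtain ⟨r, hr⟩ := h1
    have hr' := (isRoot_psi_iff a b r).mp hr
    obtain ⟨u, hu⟩ : ∃ u, u = r - a := ⟨_, rfl⟩
    obtain ⟨v, hv⟩ : ∃ v, v = b + r * u := ⟨_, rfl⟩
    have hrv : r * v = 1 := by rw [hv, hu]; linear_combination hr'
    have hfac : psi a b = (X - C r) * (X ^ 2 + C u * X + C v) := by
      have h1 : (1 : F[X]) = C (r * v) := by rw [hrv, C_1]
      have h2 : C a = C r - C u := by rw [hu]; simp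
      have h3 : C b = C v - C r * C u := by rw [hv]; simp
      unfold psi
      rw [h1, h2, h3, C_mul]
      ring
    by_cases h2 : ∃ s, (X ^ 2 + C u * X + C v : F[X]).IsRoot s
    · obtain ⟨s, hs⟩ := h2
      simp only [IsRoot.def, eval_add, eval_mul, eval_pow, eval_X, eval_C] at hs
      obtain ⟨t, ht⟩ : ∃ t, t = -u - s := ⟨_, rfl⟩
      have hst : s * t = v := by rw [ht]; linear_combination (-1 : F) * hs
      have hfac2 : psi a b = (X - C r) * (X - C s) * (X - C t) := by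
        rw [hfac, mul_assoc]
        congr 1
        have h4 : C u = -(C s + C t) := by rw [ht]; simp
        rw [← hst, h4, C_mul]
        ring
      have hrst : r * s * t = 1 := by rw [mul_assoc, hst, hrv]
      rcases dvd_of_split p q hq d e hde hd3 (psi a b) r s t hfac2 hrst with h | ⟨c, h⟩ | ⟨hp, c, h⟩
      · exact ⟨_, _, Or.inr (Or.inr (Or.inl rfl)), h⟩
      · exact ⟨_, c, Or.inr (Or.inr (Or.inr (Or.inl hk4.symm))), h⟩
      · exact ⟨_, c, Or.inr (Or.inr (Or.inr (Or.inr ⟨hp, rfl⟩))), h⟩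
    · have hno : ∀ x, ¬ (X ^ 2 + C u * X + C v : F[X]).IsRoot x := fun x hx => h2 ⟨x, hx⟩
      refine ⟨(q + 1) * e, r ^ ((q + 1) * e), Or.inr (Or.inl hk2.symm), ?_⟩
      rw [hfac]
      exact dvd_of_quadratic p q hq d e hde hd3 r u v hrv hno
  · have hno : ∀ x, ¬ (psi a b).IsRoot x := fun x hx => h1 ⟨x, hx⟩
    obtain ⟨c, hc⟩ := dvd_of_no_root' p q hq d e hde hd3 a b hno
    exact ⟨_, c, Or.inl rfl, hc⟩

end finite

end Cfsg.Agent.Lib.Helper46_L3SpecPoly
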