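import Mathlib
import Cfsg.Agent.Lib.Helper46_U3SpecPoly
import Cfsg.Agent.Lib.Helper46_U3Trace
import Cfsg.Agent.Lib.Helper5_SUCenter

/-!
# Helper46_U3SpecUpper

Every element of `PSU₃(q)`, `q` odd, has order dividing one of `q + 1`, `p (q + 1) / d`,
`(q ^ 2 - 1) / d`, `(q ^ 2 - q + 1) / d`, where `d = gcd (3, q + 1)`.
Also the general dictionary between powers of an element of `SU₃(q)` lying in the centre and
powers of its matrix being scalar.
-/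

set_option autoImplicit false
set_option linter.unusedSectionVars false
set_option linter.unusedVariables false

namespace Cfsg.Agent.Lib.Helper46_U3SpecUpper

open Polynomial Matrix Cfsg.Agent.Lib.Helper13_Herm Cfsg.Agent.Lib.Helper5_SUCenter
  Cfsg.Agent.Lib.Helper46_U3SpecPoly Cfsg.Agent.Lib.Helper46_U3Trace

variable {F : Type*} [Field F] [Fintype F] {q : ℕ}

theorem coe_pow_SU {n : ℕ} (g : ↥(Cfsg.SU n F q)) (k : ℕ) :
    (((g ^ k : ↥(Cfsg.SU n F q)).1 : Matrix.SpecialLinearGroup (Fin n) F) :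
      Matrix (Fin n) (Fin n) F) = (g.1 : Matrix (Fin n) (Fin n) F) ^ k := by
  simp

theorem mem_center_of_scalar {n : ℕ} (g : ↥(Cfsg.SU n F q)) (c : F)
    (h : (g.1 : Matrix (Fin n) (Fin n) F) = c • (1 : Matrix (Fin n) (Fin n) F)) :
    g ∈ Subgroup.center ↥(Cfsg.SU n F q) := by
  rw [Subgroup.mem_center_iff]
  intro x
  apply Subtype.ext
  apply Subtype.ext
  show (x.1 : Matrix (Fin n) (Fin n) F) * (g.1 : Matrix (Fin n) (Fin n) F) =
    (g.1 : Matrix (Fin n) (Fin n) F) * (x.1 : Matrix (Fin n) (Fin n) F)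
  rw [h, Matrix.mul_smul, Matrix.smul_mul, Matrix.mul_one, Matrix.one_mul]

theorem pow_mem_center_iff (hF : Fintype.card F = q ^ 2) (g : ↥(Cfsg.SU 3 F q)) (k : ℕ) :
    g ^ k ∈ Subgroup.center ↥(Cfsg.SU 3 F q) ↔
      ∃ c : F, (g.1 : Matrix (Fin 3) (Fin 3) F) ^ k = c • (1 : Matrix (Fin 3) (Fin 3) F) := by
  constructor
  · intro h
    refine ⟨(((g ^ k : ↥(Cfsg.SU 3 F q)).1 : Matrix.SpecialLinearGroup (Fin 3) F) :
      Matrix (Fin 3) (Fin 3) F) 0 0, ?_⟩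
    rw [← coe_pow_SU]
    exact center_eq_smul hF (g ^ k) h 0
  · rintro ⟨c, hc⟩
    apply mem_center_of_scalar (g ^ k) c
    rw [coe_pow_SU]
    exact hc

theorem mk_pow_eq_one_iff (g : ↥(Cfsg.SU 3 F q)) (k : ℕ) :
    (QuotientGroup.mk g : Cfsg.PSU 3 F q) ^ k = 1 ↔ g ^ k ∈ Subgroup.center ↥(Cfsg.SU 3 F q) := by
  rw [← QuotientGroup.mk_pow, QuotientGroup.eq_one_iff]

/-- If `chi q (trace g)` divides `X ^ k - c`, the `k`-th power of `g` is scalar. -/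
theorem pow_eq_smul_of_dvd (hF : Fintype.card F = q ^ 2) (g : ↥(Cfsg.SU 3 F q)) (k : ℕ) (c : F)
    (h : chi q ((g.1 : Matrix (Fin 3) (Fin 3) F)).trace ∣ X ^ k - C c) :
    (g.1 : Matrix (Fin 3) (Fin 3) F) ^ k = c • (1 : Matrix (Fin 3) (Fin 3) F) := by
  have h1 : ((g.1 : Matrix (Fin 3) (Fin 3) F)).charpoly =
      chi q ((g.1 : Matrix (Fin 3) (Fin 3) F)).trace := by
    rw [charpoly_SU hF g, C_1]
    rfl
  obtain ⟨f, hf⟩ := h
  have h2 := congrArg (aeval (g.1 : Matrix (Fin 3) (Fin 3) F)) hf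
  rw [map_mul, ← h1, Matrix.aeval_self_charpoly, zero_mul, map_sub, map_pow, aeval_X, aeval_C,
    Algebra.algebraMap_eq_smul_one] at h2
  exact sub_eq_zero.mp h2

theorem upper (p : ℕ) [Fact p.Prime] [CharP F p] (hp2 : p ≠ 2) (hF : Fintype.card F = q ^ 2)
    (x : Cfsg.PSU 3 F q) :
    orderOf x ∣ q + 1 ∨ orderOf x ∣ p * (q + 1) / Nat.gcd 3 (q + 1) ∨
      orderOf x ∣ (q ^ 2 - 1) / Nat.gcd 3 (q + 1) ∨
      orderOf x ∣ (q ^ 2 - q + 1) / Nat.gcd 3 (q + 1) := by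
  obtain ⟨g, rfl⟩ := QuotientGroup.mk_surjective x
  obtain ⟨k, c, hk, hdvd⟩ := exists_dvd p hp2 hF ((g.1 : Matrix (Fin 3) (Fin 3) F)).trace
  have h1 := pow_eq_smul_of_dvd hF g k c hdvd
  have h2 : (QuotientGroup.mk g : Cfsg.PSU 3 F q) ^ k = 1 := by
    rw [mk_pow_eq_one_iff, pow_mem_center_iff hF]
    exact ⟨c, h1⟩
  have h3 := orderOf_dvd_of_pow_eq_one h2
  rcases hk with rfl | rfl | rfl | rfl
  · exact Or.inl h3
  · exact Or.inr (Or.inl h3)
  · exact Or.inr (Or.inr (Or.inl h3))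
  · exact Or.inr (Or.inr (Or.inr h3))

end Cfsg.Agent.Lib.Helper46_U3SpecUpper
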