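import Mathlib
import Cfsg.Agent.Lib.Helper46_U3SpecUpper

/-!
# Helper46_U3SpecLow1

Lower bounds for the spectrum of `PSU₃(q)`: general tools, and the elements of orders
`q + 1` and `p (q + 1) / d`.
-/

set_option autoImplicit false
set_option linter.unusedSectionVars false
set_option linter.unusedVariables false

namespace Cfsg.Agent.Lib.Helper46_U3SpecLow1

open Polynomial Matrix Cfsg.Agent.Lib.Helper13_Herm Cfsg.Agent.Lib.Helper5_SUCenter
  Cfsg.Agent.Lib.Helper5_GUOrder Cfsg.Agent.Lib.Helper5_SUOrder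
  Cfsg.Agent.Lib.Helper46_U3SpecPoly Cfsg.Agent.Lib.Helper46_U3Trace
  Cfsg.Agent.Lib.Helper46_U3SpecUpper

section arith

theorem setup_de (q : ℕ) : ∃ d e f, d = Nat.gcd 3 (q + 1) ∧ 0 < d ∧ q + 1 = d * e ∧ 3 = d * f ∧
    Nat.Coprime e f ∧ (q + 1) / Nat.gcd 3 (q + 1) = e := by
  have hdpos : 0 < Nat.gcd 3 (q + 1) := Nat.gcd_pos_of_pos_left _ (by norm_num)
  refine ⟨Nat.gcd 3 (q + 1), (q + 1) / Nat.gcd 3 (q + 1), 3 / Nat.gcd 3 (q + 1), rfl, hdpos,
    (Nat.mul_div_cancel' (Nat.gcd_dvd_right _ _)).symm,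
    (Nat.mul_div_cancel' (Nat.gcd_dvd_left _ _)).symm, ?_, rfl⟩
  exact (Nat.coprime_div_gcd_div_gcd hdpos).symm

theorem arith_e (q k : ℕ) (h : q + 1 ∣ 3 * k) : (q + 1) / Nat.gcd 3 (q + 1) ∣ k := by
  obtain ⟨d, e, f, hd, hdpos, hde, hdf, hcop, he⟩ := setup_de q
  rw [he]
  have h1 : d * e ∣ d * (k * f) := by
    have : d * (k * f) = 3 * k := by rw [hdf]; ring
    rw [this, ← hde]; exact h
  exact hcop.dvd_of_dvd_mul_right (Nat.dvd_of_mul_dvd_mul_left hdpos h1)

theorem arith3 (q k : ℕ) (hq : 2 ≤ q) (h1 : q ^ 2 - 1 ∣ (q + 1) * k) (h2 : q ^ 2 - 1 ∣ (q - 2) * k) :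
    (q ^ 2 - 1) / Nat.gcd 3 (q + 1) ∣ k := by
  obtain ⟨d, e, f, hd, hdpos, hde, hdf, hcop, he⟩ := setup_de q
  rw [← hd]
  have hk3 : (q ^ 2 - 1) / d = (q - 1) * e := by
    apply Nat.div_eq_of_eq_mul_right hdpos
    rw [sq_sub_one_eq q (by omega), hde]; ring
  rw [hk3]
  rw [sq_sub_one_eq q (by omega)] at h1 h2
  have h3 : q - 1 ∣ k := by
    apply Nat.dvd_of_mul_dvd_mul_right (Nat.succ_pos q)
    rw [mul_comm k]; exact h1
  obtain ⟨k', rfl⟩ := h3
  have h4 : q + 1 ∣ (q - 2) * k' := by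
    apply Nat.dvd_of_mul_dvd_mul_left (show 0 < q - 1 by omega)
    have : (q - 1) * ((q - 2) * k') = (q - 2) * ((q - 1) * k') := by ring
    rw [this]; exact h2
  have hfe : f ≤ e := by
    have : d * f ≤ d * e := by omega
    exact Nat.le_of_mul_le_mul_left this hdpos
  have hq2 : q - 2 = d * (e - f) := by
    rw [Nat.mul_sub, ← hde, ← hdf]; omega
  have h5 : e ∣ (e - f) * k' := by
    apply Nat.dvd_of_mul_dvd_mul_left hdpos
    have : d * ((e - f) * k') = (q - 2) * k' := by rw [hq2]; ring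
    rw [this, ← hde]; exact h4
  have hcop' : Nat.Coprime e (e - f) := (Nat.coprime_self_sub_right hfe).mpr hcop
  have h6 : e ∣ k' := hcop'.dvd_of_dvd_mul_left h5
  exact Nat.mul_dvd_mul_left _ h6

theorem arith4 (q k : ℕ) (hq : 2 ≤ q) (h : q ^ 2 - q + 1 ∣ k * (q ^ 2 - 1)) :
    (q ^ 2 - q + 1) / Nat.gcd 3 (q + 1) ∣ k := by
  obtain ⟨d, e, f, hd, hdpos, hde, hdf, hcop, he⟩ := setup_de q
  rw [← hd]
  have hd3 : d ∣ 3 := ⟨f, hdf⟩
  obtain ⟨N', hN'⟩ := dvd_nn q d e hde hd3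
  have hdiv : (q ^ 2 - q + 1) / d = N' := Nat.div_eq_of_eq_mul_right hdpos hN'
  rw [hdiv]
  have hle : q ≤ q ^ 2 := by nlinarith
  -- `N' = e (q - 2) + f`
  have h1 : N' = e * (q - 2) + f := by
    apply Nat.eq_of_mul_eq_mul_left hdpos
    rw [← hN', Nat.mul_add, ← mul_assoc, ← hde, ← hdf]
    obtain ⟨q', rfl⟩ : ∃ q', q = q' + 2 := ⟨q - 2, by omega⟩
    simp only [Nat.add_sub_cancel]
    have : (q' + 2) ^ 2 = (q' + 2 + 1) * q' + 3 + (q' + 2) - 1 := by
      have : (q' + 2) ^ 2 = (q' + 2 + 1) * q' + (q' + 4) := by ring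
      omega
    omega
  have hc1 : Nat.Coprime N' e := by
    rw [h1]
    exact (Nat.coprime_mul_left_add_left f e (q - 2)).mpr hcop.symm
  have hc2 : Nat.Coprime N' (q - 1) := by
    have h2 : Nat.Coprime (q ^ 2 - q + 1) (q - 1) := by
      have : q ^ 2 - q + 1 = (q - 1) * q + 1 := by
        obtain ⟨q', rfl⟩ : ∃ q', q = q' + 1 := ⟨q - 1, by omega⟩
        simp only [Nat.add_sub_cancel]
        have : (q' + 1) ^ 2 = q' * (q' + 1) + (q' + 1) := by ring
        omega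
      rw [this]
      exact (Nat.coprime_mul_left_add_left 1 (q - 1) q).mpr (Nat.coprime_one_left _)
    exact Nat.Coprime.coprime_dvd_left ⟨d, by rw [hN']; ring⟩ h2
  have h3 : N' ∣ k * ((q - 1) * e) := by
    apply Nat.dvd_of_mul_dvd_mul_left hdpos
    have : d * (k * ((q - 1) * e)) = k * (q ^ 2 - 1) := by
      rw [sq_sub_one_eq q (by omega), hde]; ring
    rw [this, ← hN']; exact h
  exact (hc2.mul_right hc1).dvd_of_dvd_mul_right h3

end arith

section tools
variable {K : Type*} [Field K]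

theorem pow_mulVec_eig (G : Matrix (Fin 3) (Fin 3) K) (v : Fin 3 → K) (a : K)
    (h : G *ᵥ v = a • v) (k : ℕ) : (G ^ k) *ᵥ v = a ^ k • v := by
  induction k with
  | zero => simp
  | succ k ih =>
    rw [pow_succ, ← Matrix.mulVec_mulVec, h, Matrix.mulVec_smul, ih, smul_smul, pow_succ, mul_comm]

theorem eig_pow_eq (G : Matrix (Fin 3) (Fin 3) K) (v : Fin 3 → K) (hv : v ≠ 0) (a : K)
    (h : G *ᵥ v = a • v) (k : ℕ) (c : K) (hk : G ^ k = c • (1 : Matrix (Fin 3) (Fin 3) K)) :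
    a ^ k = c := by
  have h1 := pow_mulVec_eig G v a h k
  rw [hk, Matrix.smul_mulVec, Matrix.one_mulVec] at h1
  obtain ⟨i, hi⟩ : ∃ i, v i ≠ 0 := Function.ne_iff.mp hv
  have h2 := congrFun h1 i
  simp only [Pi.smul_apply, smul_eq_mul] at h2
  exact (mul_right_cancel₀ hi h2).symm

theorem pow_mulVec_jordan (G : Matrix (Fin 3) (Fin 3) K) (v w : Fin 3 → K) (a b : K)
    (hv : G *ᵥ v = a • v) (hw : G *ᵥ w = a • w + (a * b) • v) (k : ℕ) :
    (G ^ k) *ᵥ w = a ^ k • w + ((k : K) * a ^ k * b) • v := by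
  induction k with
  | zero => simp
  | succ k ih =>
    rw [pow_succ, ← Matrix.mulVec_mulVec, hw, Matrix.mulVec_add, Matrix.mulVec_smul,
      Matrix.mulVec_smul, ih, pow_mulVec_eig G v a hv k]
    ext i
    simp only [Pi.add_apply, Pi.smul_apply, smul_eq_mul]
    push_cast
    ring

/-- Existence of elements of prescribed order in a finite field. -/
theorem exists_orderOf_eq [Finite K] (m : ℕ) (hm : m ∣ Nat.card K - 1) :
    ∃ x : K, x ≠ 0 ∧ orderOf x = m := by
  obtain ⟨g, hg⟩ := IsCyclic.exists_ofOrder_eq_natCard (α := Kˣ)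
  rw [Nat.card_units] at hg
  have hpos : 0 < Nat.card K - 1 := by
    have : 1 < Nat.card K := Finite.one_lt_card
    omega
  obtain ⟨j, hj⟩ := hm
  have hj0 : j ≠ 0 := by
    rintro rfl
    rw [mul_zero] at hj
    omega
  have hm0 : m ≠ 0 := by
    rintro rfl
    rw [zero_mul] at hj
    omega
  refine ⟨((g ^ j : Kˣ) : K), Units.ne_zero _, ?_⟩
  rw [orderOf_units, orderOf_pow_of_dvd hj0 (by rw [hg, hj]; exact dvd_mul_left j m), hg, hj,
    Nat.mul_div_cancel _ (Nat.pos_of_ne_zero hj0)]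

end tools

section psu
variable {F : Type*} [Field F] [Fintype F] {q : ℕ}

/-- The abstract criterion: if `m` divides every `k` such that the `k`-th power of the matrix of
`g` is scalar, then all divisors of `m` are orders of elements of `PSU₃(q)`. -/
theorem mem_range_of_forall (hF : Fintype.card F = q ^ 2) (g : ↥(Cfsg.SU 3 F q)) (m : ℕ)
    (h : ∀ (k : ℕ) (c : F),
      (g.1 : Matrix (Fin 3) (Fin 3) F) ^ k = c • (1 : Matrix (Fin 3) (Fin 3) F) → m ∣ k)
    (s : ℕ) (hs : s ∣ m) : s ∈ Set.range (orderOf : Cfsg.PSU 3 F q → ℕ) := by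
  set x : Cfsg.PSU 3 F q := QuotientGroup.mk g with hx
  have ho : orderOf x ≠ 0 := (orderOf_pos x).ne'
  have h1 : x ^ orderOf x = 1 := pow_orderOf_eq_one x
  rw [hx, mk_pow_eq_one_iff, pow_mem_center_iff hF] at h1
  obtain ⟨c, hc⟩ := h1
  have hm : m ∣ orderOf x := h _ c hc
  exact ⟨x ^ (orderOf x / s), orderOf_pow_orderOf_div ho (hs.trans hm)⟩

theorem exists_unit_order (hF : Fintype.card F = q ^ 2) (m : ℕ) (hm : m ∣ q ^ 2 - 1) :
    ∃ x : F, x ≠ 0 ∧ orderOf x = m :=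
  exists_orderOf_eq m (by rw [Nat.card_eq_fintype_card, hF]; exact hm)

/-- Elements of order dividing `q + 1`. -/
theorem low_one (hF : Fintype.card F = q ^ 2) (s : ℕ) (hs : s ∣ q + 1) :
    s ∈ Set.range (orderOf : Cfsg.PSU 3 F q → ℕ) := by
  have hq2 : 2 ≤ q := two_le_q hF
  obtain ⟨l, hl0, hl⟩ := exists_unit_order hF (q + 1)
    (by rw [sq_sub_one_eq q (by omega)]; exact dvd_mul_left _ _)
  have hlN : l * l ^ q = 1 := by
    rw [← pow_succ', ← hl]; exact pow_orderOf_eq_one l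
  have hU : IsU 3 q (Matrix.diagonal ![l, 1, l⁻¹]) := by
    apply isU_diagonal
    intro i
    fin_cases i
    · simpa using hlN
    · simp
    · simp only [Fin.reduceFinMk, Matrix.cons_val]
      rw [inv_pow, ← mul_inv, hlN, inv_one]
  have hdet : (Matrix.diagonal ![l, 1, l⁻¹]).det = 1 := by
    rw [Matrix.det_diagonal, Fin.prod_univ_three]
    simp [hl0]
  refine mem_range_of_forall hF (mkSU _ hU hdet) (q + 1) ?_ s hs
  intro k c hk
  rw [mkSU_val, Matrix.diagonal_pow] at hk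
  have h1 := congrFun (congrFun hk 1) 1
  have h0 := congrFun (congrFun hk 0) 0
  simp at h1 h0
  rw [← hl]
  apply orderOf_dvd_of_pow_eq_one
  rw [h0, ← h1]

/-- Elements of order dividing `p (q + 1) / d`. -/
theorem low_two (p : ℕ) [Fact p.Prime] [CharP F p] (hF : Fintype.card F = q ^ 2) (s : ℕ)
    (hs : s ∣ p * (q + 1) / Nat.gcd 3 (q + 1)) :
    s ∈ Set.range (orderOf : Cfsg.PSU 3 F q → ℕ) := by
  have hq2 : 2 ≤ q := two_le_q hF
  have hq0 : q ≠ 0 := by omega
  obtain ⟨n, hqn⟩ := exists_pow_eq p hF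
  have hk2 : p * (q + 1) / Nat.gcd 3 (q + 1) = p * ((q + 1) / Nat.gcd 3 (q + 1)) :=
    Nat.mul_div_assoc p (Nat.gcd_dvd_right _ _)
  rw [hk2] at hs
  have hcop : Nat.Coprime p ((q + 1) / Nat.gcd 3 (q + 1)) := by
    have hn0 : n ≠ 0 := by
      rintro rfl
      rw [pow_zero] at hqn
      omega
    have h1 : Nat.Coprime q (q + 1) := by simp
    have h2 : p ∣ q := by rw [hqn]; exact dvd_pow_self p hn0
    exact (h1.coprime_dvd_left h2).coprime_dvd_right (Nat.div_dvd_of_dvd (Nat.gcd_dvd_right _ _))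
  obtain ⟨α, hα0, hα⟩ := exists_unit_order hF (q + 1)
    (by rw [sq_sub_one_eq q (by omega)]; exact dvd_mul_left _ _)
  have hαN : α * α ^ q = 1 := by
    rw [← pow_succ', ← hα]; exact pow_orderOf_eq_one α
  obtain ⟨η, hη⟩ := exists_norm_neg_one hF
  obtain ⟨a₀, ha₀0, ha₀⟩ := exists_trace_zero hF
  have hη0 : η ≠ 0 := by
    rintro rfl
    simp [hq0] at hη
  obtain ⟨v, hvdef⟩ : ∃ v : Fin 3 → F, v = ![1, η, 0] := ⟨_, rfl⟩
  have hform : ∀ x : Fin 3 → F, Cfsg.hermForm 3 F q x v = x 0 + x 1 * η ^ q := by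
    intro x
    unfold Cfsg.hermForm
    rw [Fin.sum_univ_three, hvdef]
    simp [hq0]
  have hv : Cfsg.hermForm 3 F q v v = 0 := by
    rw [hform, hvdef]
    simp only [Matrix.cons_val_zero, Matrix.cons_val_one]
    linear_combination hη
  have hUT : IsU 3 q (Cfsg.unitaryTransvection 3 q v a₀) := by
    apply isU_transvection hF
    rw [hv]; linear_combination ha₀
  have hdetT : (Cfsg.unitaryTransvection 3 q v a₀).det = 1 := by
    rw [det_unitaryTransvection, hv, mul_zero, add_zero]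
  have hUS : IsU 3 q (Matrix.diagonal ![α, α, (α * α)⁻¹]) := by
    apply isU_diagonal
    intro i
    fin_cases i
    · simpa using hαN
    · simpa using hαN
    · simp only [Fin.reduceFinMk, Matrix.cons_val]
      rw [inv_pow, ← mul_inv, mul_pow, mul_mul_mul_comm, hαN, mul_one, inv_one]
  have hdetS : (Matrix.diagonal ![α, α, (α * α)⁻¹]).det = 1 := by
    rw [Matrix.det_diagonal, Fin.prod_univ_three]
    simp
    field_simp
  obtain ⟨G, hG⟩ : ∃ G, G = Matrix.diagonal ![α, α, (α * α)⁻¹] *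
    Cfsg.unitaryTransvection 3 q v a₀ := ⟨_, rfl⟩
  have hgG : ((mkSU _ hUS hdetS * mkSU _ hUT hdetT : ↥(Cfsg.SU 3 F q)).1 :
      Matrix (Fin 3) (Fin 3) F) = G := by
    rw [hG]; rfl
  have hGx : ∀ x : Fin 3 → F, G *ᵥ x =
      ![α * (x 0 + a₀ * (x 0 + x 1 * η ^ q)), α * (x 1 + a₀ * (x 0 + x 1 * η ^ q) * η),
        (α * α)⁻¹ * x 2] := by
    intro x
    rw [hG, ← Matrix.mulVec_mulVec, unitaryTransvection_mulVec, hform]
    ext i
    rw [Matrix.mulVec_diagonal, hvdef]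
    fin_cases i <;> simp
  have h0 : 1 + η * η ^ q = 0 := by linear_combination hη
  have h1 : G *ᵥ v = α • v := by
    rw [hGx, hvdef]
    ext i
    fin_cases i <;> simp [h0]
  have h2 : G *ᵥ ![1, 0, 0] = α • ![1, 0, 0] + (α * a₀) • v := by
    rw [hGx, hvdef]
    ext i
    fin_cases i
    · simp; ring
    · simp; ring
    · simp
  have h3 : G *ᵥ ![0, 0, 1] = (α * α)⁻¹ • ![0, 0, 1] := by
    rw [hGx]
    ext i
    fin_cases i <;> simp
  refine mem_range_of_forall hF (mkSU _ hUS hdetS * mkSU _ hUT hdetT) _ ?_ s hs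
  intro k c hk
  rw [hgG] at hk
  have hv0 : v ≠ 0 := by
    intro h
    have := congrFun h 0
    rw [hvdef] at this
    simp at this
  have he0 : (![0, 0, 1] : Fin 3 → F) ≠ 0 := by
    intro h
    have := congrFun h 2
    simp at this
  have e1 := eig_pow_eq G v hv0 α h1 k c hk
  have e2 := eig_pow_eq G _ he0 _ h3 k c hk
  have e3 := pow_mulVec_jordan G v ![1, 0, 0] α a₀ h1 h2 k
  rw [hk, Matrix.smul_mulVec, Matrix.one_mulVec] at e3
  have e4 := congrFun e3 1
  rw [hvdef] at e4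
  simp at e4
  have hk0 : (k : F) = 0 := by
    rcases e4 with h | h
    · rcases h with h | h
      · rcases h with h | h
        · exact h
        · exact absurd h.1 hα0
      · exact absurd h ha₀0
    · exact absurd h hη0
  have hpk : p ∣ k := (CharP.cast_eq_zero_iff F p k).mp hk0
  have h3k : α ^ (3 * k) = 1 := by
    have : α ^ k * (α * α) ^ k = 1 := by
      rw [e1, ← e2, inv_pow, inv_mul_cancel₀ (pow_ne_zero _ (mul_ne_zero hα0 hα0))]
    rw [← this]; ring
  have hek : (q + 1) / Nat.gcd 3 (q + 1) ∣ k := by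
    apply arith_e
    rw [← hα]
    exact orderOf_dvd_of_pow_eq_one h3k
  exact hcop.mul_dvd_of_dvd_of_dvd hpk hek

end psu

end Cfsg.Agent.Lib.Helper46_U3SpecLow1
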