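import Mathlib
import Cfsg.Agent.Lib.Helper46_U3SpecLow1
import Cfsg.Agent.Lib.Helper46_U3Triple

/-!
# Helper46_U3SpecLow2

Lower bounds for the spectrum of `PSU₃(q)`: the elements of orders `(q ^ 2 - 1) / d` and
`(q ^ 2 - q + 1) / d`, obtained from the fact that every `τ₀` with `τ₀ ^ q ≠ τ₀` is the trace of
an element of `SU₃(q)`.
-/

set_option autoImplicit false
set_option linter.unusedSectionVars false
set_option linter.unusedVariables false

namespace Cfsg.Agent.Lib.Helper46_U3SpecLow2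

open Polynomial Matrix Cfsg.Agent.Lib.Helper13_Herm Cfsg.Agent.Lib.Helper5_SUCenter
  Cfsg.Agent.Lib.Helper5_SUOrder
  Cfsg.Agent.Lib.Helper46_U3SpecPoly Cfsg.Agent.Lib.Helper46_U3Trace
  Cfsg.Agent.Lib.Helper46_U3SpecUpper Cfsg.Agent.Lib.Helper46_U3SpecLow1
  Cfsg.Agent.Lib.Helper94_Herm Cfsg.Agent.Lib.Helper94_HermBridge
  Cfsg.Agent.Lib.Helper46_U3Triple

variable {F : Type*} [Field F] [Fintype F] {q : ℕ}

/-- Every `τ₀` not fixed by `x ↦ x ^ q` is the trace of an element of `SU₃(q)`. -/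
theorem exists_elt_of_trace (hF : Fintype.card F = q ^ 2) (τ₀ : F) (hτ : τ₀ ^ q ≠ τ₀) :
    ∃ g : ↥(Cfsg.SU 3 F q), ((g.1 : Matrix (Fin 3) (Fin 3) F)).trace = τ₀ := by
  obtain ⟨σ, hσq, hσ⟩ := exists_frob hF
  obtain ⟨v₁, v₂, v₃, a, ha0, hσa, hv₁0, hv₂0, hv₃0, hv₁, hv₂, hv₃, htr⟩ :=
    exists_triple hF σ hσq hσ τ₀ (by rw [hσq]; exact hτ)
  obtain ⟨s₁, hs₁M, -⟩ := exists_tv_elt hF σ hσq v₁ a hσa hv₁
  obtain ⟨s₂, hs₂M, -⟩ := exists_tv_elt hF σ hσq v₂ a hσa hv₂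
  obtain ⟨s₃, hs₃M, -⟩ := exists_tv_elt hF σ hσq v₃ a hσa hv₃
  refine ⟨s₁ * s₂ * s₃, ?_⟩
  have e1 : ((s₁ * s₂ * s₃).1 : Matrix (Fin 3) (Fin 3) F) =
      (s₁.1 : Matrix (Fin 3) (Fin 3) F) * (s₂.1 : Matrix (Fin 3) (Fin 3) F) *
        (s₃.1 : Matrix (Fin 3) (Fin 3) F) := by
    simp
  rw [e1, hs₁M, hs₂M, hs₃M, htr]

/-- Roots of the characteristic polynomial give eigenvectors (no finiteness). -/
theorem exists_eigen_of_isRoot' {K : Type*} [Field K] (M : Matrix (Fin 3) (Fin 3) K) (t : K)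
    (ht : M.charpoly.IsRoot t) : ∃ v : Fin 3 → K, v ≠ 0 ∧ M *ᵥ v = t • v := by
  rw [Polynomial.IsRoot.def, Matrix.eval_charpoly] at ht
  obtain ⟨v, hv0, hv⟩ := Matrix.exists_mulVec_eq_zero_iff.mpr ht
  refine ⟨v, hv0, ?_⟩
  rw [Matrix.sub_mulVec] at hv
  have h1 : (Matrix.scalar (Fin 3) t) *ᵥ v = t • v := by
    ext i
    rw [Matrix.scalar_apply, Matrix.mulVec_diagonal, Pi.smul_apply, smul_eq_mul]
  rw [h1] at hv
  exact (sub_eq_zero.mp hv).symm

omit [Fintype F] in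
/-- If a power of `G` is the scalar `c`, every root of the characteristic polynomial (in any
extension) has that power equal to `c`. -/
theorem root_pow_of_scalar {L : Type*} [Field L] [Algebra F L] (G : Matrix (Fin 3) (Fin 3) F)
    (z : L) (hz : aeval z G.charpoly = 0) (k : ℕ) (c : F)
    (hk : G ^ k = c • (1 : Matrix (Fin 3) (Fin 3) F)) : z ^ k = algebraMap F L c := by
  have h1 : (G.map (algebraMap F L)).charpoly.IsRoot z := by
    rw [Matrix.charpoly_map, IsRoot.def, eval_map_algebraMap]; exact hz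
  obtain ⟨v, hv0, hv⟩ := exists_eigen_of_isRoot' _ z h1
  apply eig_pow_eq (G.map (algebraMap F L)) v hv0 z hv k
  have h2 : (G.map (algebraMap F L)) ^ k = (G ^ k).map (algebraMap F L) := by
    rw [← RingHom.mapMatrix_apply, ← map_pow, RingHom.mapMatrix_apply]
  rw [h2, hk]
  ext i j
  simp only [Matrix.map_apply, Matrix.smul_apply, Matrix.one_apply, smul_eq_mul]
  split_ifs <;> simp

/-- From a factorisation of `chi q τ₀` over an extension with no root equal to one, an element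
of `SU₃(q)` whose scalar powers are controlled by the roots. -/
theorem low_of_roots (hF : Fintype.card F = q ^ 2) {L : Type*} [Field L] [Algebra F L] (τ₀ : F)
    (a b c : L)
    (hfac : (chi q τ₀).map (algebraMap F L) = (X - C a) * (X - C b) * (X - C c))
    (ha1 : a ≠ 1) (hb1 : b ≠ 1) (hc1 : c ≠ 1) :
    ∃ g : ↥(Cfsg.SU 3 F q), ∀ (k : ℕ) (c₀ : F),
      (g.1 : Matrix (Fin 3) (Fin 3) F) ^ k = c₀ • (1 : Matrix (Fin 3) (Fin 3) F) →
        a ^ k = algebraMap F L c₀ ∧ b ^ k = algebraMap F L c₀ ∧ c ^ k = algebraMap F L c₀ := by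
  have hev : ∀ x : L, aeval x (chi q τ₀) = (x - a) * (x - b) * (x - c) := by
    intro x
    rw [← eval_map_algebraMap, hfac]
    simp
  have hτ : τ₀ ^ q ≠ τ₀ := by
    intro h
    have h1 : aeval (1 : L) (chi q τ₀) = 0 := by
      rw [aeval_chi, h]; ring
    rw [hev] at h1
    rcases mul_eq_zero.mp h1 with h2 | h2
    · rcases mul_eq_zero.mp h2 with h3 | h3
      · exact ha1 (sub_eq_zero.mp h3).symm
      · exact hb1 (sub_eq_zero.mp h3).symm
    · exact hc1 (sub_eq_zero.mp h2).symm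
  obtain ⟨g, hg⟩ := exists_elt_of_trace hF τ₀ hτ
  refine ⟨g, ?_⟩
  have hχ : ((g.1 : Matrix (Fin 3) (Fin 3) F)).charpoly = chi q τ₀ := by
    rw [charpoly_SU hF g, C_1, hg]
    rfl
  intro k c₀ hk
  refine ⟨root_pow_of_scalar _ a ?_ k c₀ hk, root_pow_of_scalar _ b ?_ k c₀ hk,
    root_pow_of_scalar _ c ?_ k c₀ hk⟩
  · rw [hχ, hev]; ring
  · rw [hχ, hev]; ring
  · rw [hχ, hev]; ring

/-- Elements of order dividing `(q ^ 2 - 1) / d`. -/
theorem low_three (hF : Fintype.card F = q ^ 2) (s : ℕ)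
    (hs : s ∣ (q ^ 2 - 1) / Nat.gcd 3 (q + 1)) :
    s ∈ Set.range (orderOf : Cfsg.PSU 3 F q → ℕ) := by
  have hq2 : 2 ≤ q := two_le_q hF
  have hq0 : q ≠ 0 := by omega
  obtain ⟨μ, hμ0, hμ⟩ := exists_unit_order hF (q ^ 2 - 1) dvd_rfl
  have hbig : q < q ^ 2 - 1 := by
    have : 2 * q ≤ q ^ 2 := by nlinarith
    omega
  obtain ⟨u, hu⟩ : ∃ u, u = μ ^ q := ⟨_, rfl⟩
  have hu0 : u ≠ 0 := by rw [hu]; exact pow_ne_zero _ hμ0
  have huq : u ^ q = μ := by rw [hu]; exact pow_q_pow_q hF μ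
  obtain ⟨m, hm⟩ : ∃ m, m = u⁻¹ := ⟨_, rfl⟩
  obtain ⟨ρ, hρ⟩ : ∃ ρ, ρ = u * μ⁻¹ := ⟨_, rfl⟩
  obtain ⟨τ₀, hτ₀⟩ : ∃ τ₀, τ₀ = μ + m + ρ := ⟨_, rfl⟩
  have hτq : τ₀ ^ q = μ * m + μ * ρ + m * ρ := by
    have h1 : τ₀ ^ q = frobQ hF τ₀ := rfl
    rw [h1, hτ₀, hm, hρ]
    simp only [map_add, map_mul, map_inv₀, frobQ_apply]
    rw [← hu, huq]
    field_simp
    ring
  have hprod : μ * m * ρ = 1 := by
    rw [hm, hρ]; field_simp
  have hfac : (chi q τ₀).map (algebraMap F F) =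
      (Polynomial.X - C μ) * (Polynomial.X - C m) * (Polynomial.X - C ρ) := by
    rw [Algebra.algebraMap_self, Polynomial.map_id, prod_three, hprod, ← hτq, ← hτ₀, C_1]
    rfl
  have hμ1 : μ ≠ 1 := by
    rintro rfl
    rw [orderOf_one] at hμ
    omega
  have hm1 : m ≠ 1 := by
    intro h
    rw [hm, inv_eq_one, hu] at h
    have := orderOf_dvd_of_pow_eq_one h
    rw [hμ] at this
    have := Nat.le_of_dvd (by omega) this
    omega
  have hρ1 : ρ ≠ 1 := by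
    intro h
    rw [hρ] at h
    have h1 : u = μ := by
      field_simp at h
      exact h
    have h2 : μ ^ (q - 1) = 1 := by
      apply mul_right_cancel₀ hμ0
      rw [← pow_succ, one_mul, Nat.sub_add_cancel (by omega), ← hu, h1]
    have := orderOf_dvd_of_pow_eq_one h2
    rw [hμ] at this
    have := Nat.le_of_dvd (by omega) this
    omega
  obtain ⟨g, hg⟩ := low_of_roots hF τ₀ μ m ρ hfac hμ1 hm1 hρ1
  refine mem_range_of_forall hF g _ ?_ s hs
  intro k c₀ hk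
  obtain ⟨e1, e2, e3⟩ := hg k c₀ hk
  rw [Algebra.algebraMap_self, RingHom.id_apply] at e1 e2 e3
  have hc0 : c₀ ≠ 0 := by rw [← e1]; exact pow_ne_zero _ hμ0
  have h1 : μ ^ ((q + 1) * k) = 1 := by
    have : μ ^ k * u ^ k = 1 := by
      rw [e1, ← e2, hm, inv_pow, inv_mul_cancel₀ (pow_ne_zero _ hu0)]
    rw [← this, hu, ← pow_mul, ← pow_add]
    congr 1
    ring
  have h2 : μ ^ ((q - 2) * k) = 1 := by
    have h3 : u ^ k = μ ^ k * μ ^ k := by
      have : ρ ^ k * μ ^ k = u ^ k := by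
        rw [hρ, ← mul_pow, mul_assoc, inv_mul_cancel₀ hμ0, mul_one]
      rw [← this, e3, e1]
    apply mul_right_cancel₀ (pow_ne_zero (2 * k) hμ0)
    rw [one_mul, ← pow_add]
    have : (q - 2) * k + 2 * k = q * k := by
      have : q = (q - 2) + 2 := by omega
      conv_rhs => rw [this]
      ring
    rw [this, pow_mul, ← hu, h3, ← pow_add]
    congr 1
    ring
  apply arith3 q k hq2
  · rw [← hμ]; exact orderOf_dvd_of_pow_eq_one h1
  · rw [← hμ]; exact orderOf_dvd_of_pow_eq_one h2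

theorem nn_dvd (q : ℕ) (hq : 2 ≤ q) : q ^ 2 - q + 1 ∣ (q ^ 2) ^ 3 - 1 := by
  have hle : q ≤ q ^ 2 := by nlinarith
  have h1 : 1 ≤ (q ^ 2) ^ 3 := Nat.one_le_pow _ _ (by positivity)
  have h2 : ((q ^ 2 - q + 1 : ℕ) : ℤ) ∣ (((q ^ 2) ^ 3 - 1 : ℕ) : ℤ) := by
    rw [Nat.cast_sub h1]
    push_cast [Nat.cast_sub hle]
    exact ⟨((q : ℤ) + 1) * ((q : ℤ) ^ 3 - 1), by ring⟩
  exact Int.natCast_dvd_natCast.mp h2

/-- Elements of order dividing `(q ^ 2 - q + 1) / d`. -/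
theorem low_four (p : ℕ) [Fact p.Prime] [CharP F p] (hF : Fintype.card F = q ^ 2) (s : ℕ)
    (hs : s ∣ (q ^ 2 - q + 1) / Nat.gcd 3 (q + 1)) :
    s ∈ Set.range (orderOf : Cfsg.PSU 3 F q → ℕ) := by
  have hq2 : 2 ≤ q := two_le_q hF
  have hq0 : q ≠ 0 := by omega
  obtain ⟨n, hqn⟩ := exists_pow_eq p hF
  have hcardL : Nat.card (FiniteField.Extension F p 3) = (q ^ 2) ^ 3 := by
    rw [FiniteField.natCard_extension, Nat.card_eq_fintype_card, hF]
  have : CharP (FiniteField.Extension F p 3) p :=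
    charP_of_injective_algebraMap (algebraMap F (FiniteField.Extension F p 3)).injective p
  obtain ⟨φ, hφ⟩ : ∃ φ : FiniteField.Extension F p 3 →+* FiniteField.Extension F p 3,
      ∀ x, φ x = x ^ q :=
    ⟨iterateFrobenius _ p n, fun x => by
      rw [iterateFrobenius_def]
      exact congrArg (fun k => x ^ k) hqn.symm⟩
  have hNbig : q < q ^ 2 - q + 1 := by
    have : 2 * q ≤ q ^ 2 := by nlinarith
    omega
  obtain ⟨ζ, hζ0, hζ⟩ := exists_orderOf_eq (K := FiniteField.Extension F p 3) (q ^ 2 - q + 1)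
    (by rw [hcardL]; exact nn_dvd q hq2)
  have hζN : ζ ^ (q ^ 2 - q + 1) = 1 := by rw [← hζ]; exact pow_orderOf_eq_one ζ
  obtain ⟨u, hu⟩ : ∃ u, u = ζ ^ q := ⟨_, rfl⟩
  have hu0 : u ≠ 0 := by rw [hu]; exact pow_ne_zero _ hζ0
  have hrel : u ^ q * ζ = u := by
    rw [hu, ← pow_mul, ← pow_succ, ← sq, ← nn_add, pow_add, hζN, one_mul]
  have huq : u ^ q = u * ζ⁻¹ := by
    rw [eq_mul_inv_iff_mul_eq₀ hζ0]; exact hrel
  have hφζ : φ ζ = u := by rw [hφ, hu]
  have hφu : φ u = u * ζ⁻¹ := by rw [hφ, huq]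
  obtain ⟨b, hb⟩ : ∃ b, b = u * ζ⁻¹ := ⟨_, rfl⟩
  obtain ⟨c, hc⟩ : ∃ c, c = u⁻¹ := ⟨_, rfl⟩
  obtain ⟨t, ht⟩ : ∃ t, t = ζ + b + c := ⟨_, rfl⟩
  have hφt : φ t = ζ * b + ζ * c + b * c := by
    rw [ht, hb, hc]
    simp only [map_add, map_mul, map_inv₀, hφζ, hφu]
    field_simp
    ring
  have hφφt : φ (φ t) = t := by
    rw [hφt, hb, hc]
    simp only [map_add, map_mul, map_inv₀, hφζ, hφu]
    rw [ht, hb, hc]
    field_simp
    ring
  have htQ : t ^ Fintype.card F = t := by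
    rw [hF, sq, pow_mul, ← hφ, ← hφ]; exact hφφt
  obtain ⟨τ₀, hτ₀⟩ := mem_range_of_pow_card t htQ
  have hτq : algebraMap F (FiniteField.Extension F p 3) (τ₀ ^ q) = ζ * b + ζ * c + b * c := by
    rw [map_pow, hτ₀, ← hφ, hφt]
  have hprod : ζ * b * c = 1 := by
    rw [hb, hc]; field_simp
  have hfac : (chi q τ₀).map (algebraMap F (FiniteField.Extension F p 3)) =
      (Polynomial.X - C ζ) * (Polynomial.X - C b) * (Polynomial.X - C c) := by
    rw [prod_three, hprod, ← hτq, ← ht, ← hτ₀, C_1]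
    unfold chi
    simp only [Polynomial.map_sub, Polynomial.map_add, Polynomial.map_mul, Polynomial.map_pow,
      Polynomial.map_X, Polynomial.map_C, Polynomial.map_one]
  have hζ1 : ζ ≠ 1 := by
    rintro rfl
    rw [orderOf_one] at hζ
    omega
  have hb1 : b ≠ 1 := by
    intro h
    rw [hb] at h
    have h1 : u = ζ := by
      field_simp at h
      exact h
    have h2 : ζ ^ (q - 1) = 1 := by
      apply mul_right_cancel₀ hζ0
      rw [← pow_succ, one_mul, Nat.sub_add_cancel (by omega), ← hu, h1]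
    have := orderOf_dvd_of_pow_eq_one h2
    rw [hζ] at this
    have := Nat.le_of_dvd (by omega) this
    omega
  have hc1 : c ≠ 1 := by
    intro h
    rw [hc, inv_eq_one, hu] at h
    have := orderOf_dvd_of_pow_eq_one h
    rw [hζ] at this
    have := Nat.le_of_dvd (by omega) this
    omega
  obtain ⟨g, hg⟩ := low_of_roots hF τ₀ ζ b c hfac hζ1 hb1 hc1
  refine mem_range_of_forall hF g _ ?_ s hs
  intro k c₀ hk
  obtain ⟨e1, -, -⟩ := hg k c₀ hk
  have hc0 : c₀ ≠ 0 := by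
    rintro rfl
    rw [map_zero] at e1
    exact pow_ne_zero _ hζ0 e1
  have h1 : ζ ^ (k * (q ^ 2 - 1)) = 1 := by
    rw [pow_mul, e1, ← map_pow, pow_sq_sub_one hF c₀ hc0, map_one]
  apply arith4 q k hq2
  rw [← hζ]
  exact orderOf_dvd_of_pow_eq_one h1

end Cfsg.Agent.Lib.Helper46_U3SpecLow2
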