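import Mathlib
import Cfsg.Agent.Lib.Helper46_L3SpecPoly
import Cfsg.Agent.Lib.Helper46_U3SpecLow2

/-!
# Helper46_L3Spec

The spectrum of `PSL₃(q)`: dictionary between central powers and scalar matrices, the upper bound
(every element order divides one of the admissible numbers) and the abstract lower bound tools
(companion matrices: every `psi a b` is the characteristic polynomial of an element of `SL₃`).
-/

set_option autoImplicit false
set_option linter.unusedSectionVars false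
set_option linter.unusedVariables false

namespace Cfsg.Agent.Lib.Helper46_L3Spec

open Polynomial Matrix Cfsg.Agent.Lib.Helper46_U3SpecPoly Cfsg.Agent.Lib.Helper46_L3SpecPoly
  Cfsg.Agent.Lib.Helper46_U3Trace Cfsg.Agent.Lib.Helper46_U3SpecLow1
  Cfsg.Agent.Lib.Helper46_U3SpecLow2

variable {F : Type*} [Field F] [Fintype F]

theorem pow_mem_center_iff_sl (g : Matrix.SpecialLinearGroup (Fin 3) F) (k : ℕ) :
    g ^ k ∈ Subgroup.center (Matrix.SpecialLinearGroup (Fin 3) F) ↔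
      ∃ c : F, (g : Matrix (Fin 3) (Fin 3) F) ^ k = c • (1 : Matrix (Fin 3) (Fin 3) F) := by
  rw [Matrix.SpecialLinearGroup.mem_center_iff]
  constructor
  · rintro ⟨r, -, hr⟩
    refine ⟨r, ?_⟩
    rw [← Matrix.SpecialLinearGroup.coe_pow, ← hr, Matrix.smul_one_eq_diagonal]
    rfl
  · rintro ⟨c, hc⟩
    refine ⟨c, ?_, ?_⟩
    · have h1 : ((g ^ k : Matrix.SpecialLinearGroup (Fin 3) F) : Matrix (Fin 3) (Fin 3) F).det = 1 :=
        (g ^ k).2
      rw [Matrix.SpecialLinearGroup.coe_pow, hc, Matrix.det_smul, Matrix.det_one, mul_one] at h1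
      exact h1
    · rw [Matrix.SpecialLinearGroup.coe_pow, hc, Matrix.smul_one_eq_diagonal]
      rfl

theorem mk_pow_eq_one_iff_sl (g : Matrix.SpecialLinearGroup (Fin 3) F) (k : ℕ) :
    (QuotientGroup.mk g : Matrix.ProjectiveSpecialLinearGroup (Fin 3) F) ^ k = 1 ↔
      g ^ k ∈ Subgroup.center (Matrix.SpecialLinearGroup (Fin 3) F) := by
  rw [← QuotientGroup.mk_pow, QuotientGroup.eq_one_iff]

theorem charpoly_SL (g : Matrix.SpecialLinearGroup (Fin 3) F) :
    ((g : Matrix (Fin 3) (Fin 3) F)).charpoly =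
      psi ((g : Matrix (Fin 3) (Fin 3) F)).trace ((g : Matrix (Fin 3) (Fin 3) F)).adjugate.trace := by
  rw [charpoly_fin_three, g.2, C_1]
  rfl

theorem pow_eq_smul_of_dvd_sl (g : Matrix.SpecialLinearGroup (Fin 3) F) (k : ℕ) (c : F)
    (h : ((g : Matrix (Fin 3) (Fin 3) F)).charpoly ∣ Polynomial.X ^ k - C c) :
    (g : Matrix (Fin 3) (Fin 3) F) ^ k = c • (1 : Matrix (Fin 3) (Fin 3) F) := by
  obtain ⟨f, hf⟩ := h
  have h2 := congrArg (aeval (g : Matrix (Fin 3) (Fin 3) F)) hf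
  rw [map_mul, Matrix.aeval_self_charpoly, zero_mul, map_sub, map_pow, aeval_X, aeval_C,
    Algebra.algebraMap_eq_smul_one] at h2
  exact sub_eq_zero.mp h2

theorem upper_sl (p : ℕ) [Fact p.Prime] [CharP F p]
    (x : Matrix.ProjectiveSpecialLinearGroup (Fin 3) F) :
    orderOf x ∣ (Fintype.card F ^ 2 + Fintype.card F + 1) / Nat.gcd 3 (Fintype.card F - 1) ∨
      orderOf x ∣ (Fintype.card F ^ 2 - 1) / Nat.gcd 3 (Fintype.card F - 1) ∨
      orderOf x ∣ Fintype.card F - 1 ∨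
      orderOf x ∣ p * (Fintype.card F - 1) / Nat.gcd 3 (Fintype.card F - 1) ∨
      (p = 2 ∧ orderOf x ∣ 4) := by
  obtain ⟨g, rfl⟩ := QuotientGroup.mk_surjective x
  obtain ⟨k, c, hk, hdvd⟩ := exists_dvd_psi p ((g : Matrix (Fin 3) (Fin 3) F)).trace
    ((g : Matrix (Fin 3) (Fin 3) F)).adjugate.trace
  rw [← charpoly_SL] at hdvd
  have h1 := pow_eq_smul_of_dvd_sl g k c hdvd
  have h2 : (QuotientGroup.mk g : Matrix.ProjectiveSpecialLinearGroup (Fin 3) F) ^ k = 1 := by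
    rw [mk_pow_eq_one_iff_sl, pow_mem_center_iff_sl]
    exact ⟨c, h1⟩
  have h3 := orderOf_dvd_of_pow_eq_one h2
  rcases hk with rfl | rfl | rfl | rfl | ⟨hp, rfl⟩
  · exact Or.inl h3
  · exact Or.inr (Or.inl h3)
  · exact Or.inr (Or.inr (Or.inl h3))
  · exact Or.inr (Or.inr (Or.inr (Or.inl h3)))
  · exact Or.inr (Or.inr (Or.inr (Or.inr ⟨hp, h3⟩)))

/-- The abstract lower bound criterion for `PSL₃`. -/
theorem mem_range_of_forall_sl (g : Matrix.SpecialLinearGroup (Fin 3) F) (m : ℕ)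
    (h : ∀ (k : ℕ) (c : F),
      (g : Matrix (Fin 3) (Fin 3) F) ^ k = c • (1 : Matrix (Fin 3) (Fin 3) F) → m ∣ k)
    (s : ℕ) (hs : s ∣ m) :
    s ∈ Set.range (orderOf : Matrix.ProjectiveSpecialLinearGroup (Fin 3) F → ℕ) := by
  set x : Matrix.ProjectiveSpecialLinearGroup (Fin 3) F := QuotientGroup.mk g with hx
  have ho : orderOf x ≠ 0 := (orderOf_pos x).ne'
  have h1 : x ^ orderOf x = 1 := pow_orderOf_eq_one x
  rw [hx, mk_pow_eq_one_iff_sl, pow_mem_center_iff_sl] at h1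
  obtain ⟨c, hc⟩ := h1
  have hm : m ∣ orderOf x := h _ c hc
  exact ⟨x ^ (orderOf x / s), orderOf_pow_orderOf_div ho (hs.trans hm)⟩

/-- Companion matrices: every `psi a b` is a characteristic polynomial in `SL₃`. -/
theorem exists_elt_of_psi (a b : F) :
    ∃ g : Matrix.SpecialLinearGroup (Fin 3) F,
      ((g : Matrix (Fin 3) (Fin 3) F)).charpoly = psi a b := by
  have hdet : (!![0, 0, 1; 1, 0, -b; 0, 1, a] : Matrix (Fin 3) (Fin 3) F).det = 1 := by
    rw [Matrix.det_fin_three]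
    simp
  refine ⟨⟨_, hdet⟩, ?_⟩
  rw [charpoly_fin_three, hdet, C_1]
  have h1 : (!![0, 0, 1; 1, 0, -b; 0, 1, a] : Matrix (Fin 3) (Fin 3) F).trace = a := by
    rw [Matrix.trace_fin_three]
    simp
  have h2 : (!![0, 0, 1; 1, 0, -b; 0, 1, a] : Matrix (Fin 3) (Fin 3) F).adjugate.trace = b := by
    rw [Matrix.trace_fin_three, Matrix.adjugate_fin_three]
    simp
  show Polynomial.X ^ 3 -
    C (!![0, 0, 1; 1, 0, -b; 0, 1, a] : Matrix (Fin 3) (Fin 3) F).trace * Polynomial.X ^ 2 +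
    C (!![0, 0, 1; 1, 0, -b; 0, 1, a] : Matrix (Fin 3) (Fin 3) F).adjugate.trace * Polynomial.X
      - 1 = psi a b
  rw [h1, h2]
  rfl

/-- From a factorisation of `psi a b` over an extension, an element of `SL₃` whose scalar powers
are controlled by the roots. -/
theorem low_of_roots_sl {L : Type*} [Field L] [Algebra F L] (a b : F) (x y z : L)
    (hfac : (psi a b).map (algebraMap F L) =
      (Polynomial.X - C x) * (Polynomial.X - C y) * (Polynomial.X - C z)) :
    ∃ g : Matrix.SpecialLinearGroup (Fin 3) F, ∀ (k : ℕ) (c₀ : F),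
      (g : Matrix (Fin 3) (Fin 3) F) ^ k = c₀ • (1 : Matrix (Fin 3) (Fin 3) F) →
        x ^ k = algebraMap F L c₀ ∧ y ^ k = algebraMap F L c₀ ∧ z ^ k = algebraMap F L c₀ := by
  have hev : ∀ w : L, aeval w (psi a b) = (w - x) * (w - y) * (w - z) := by
    intro w
    rw [← eval_map_algebraMap, hfac]
    simp
  obtain ⟨g, hg⟩ := exists_elt_of_psi a b
  refine ⟨g, ?_⟩
  intro k c₀ hk
  refine ⟨root_pow_of_scalar _ x ?_ k c₀ hk, root_pow_of_scalar _ y ?_ k c₀ hk,
    root_pow_of_scalar _ z ?_ k c₀ hk⟩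
  · rw [hg, hev]; ring
  · rw [hg, hev]; ring
  · rw [hg, hev]; ring

end Cfsg.Agent.Lib.Helper46_L3Spec
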