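import Mathlib
import Cfsg.Agent.Lib.Helper46_L3Spec

/-!
# Helper46_L3SpecLow

Lower bounds for the spectrum of `PSL₃(q)`: elements whose orders are the five maximal numbers.
-/

set_option autoImplicit false
set_option linter.unusedSectionVars false
set_option linter.unusedVariables false

namespace Cfsg.Agent.Lib.Helper46_L3SpecLow

open Polynomial Matrix Cfsg.Agent.Lib.Helper46_U3SpecPoly Cfsg.Agent.Lib.Helper46_L3SpecPoly
  Cfsg.Agent.Lib.Helper46_U3Trace Cfsg.Agent.Lib.Helper46_U3SpecLow1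
  Cfsg.Agent.Lib.Helper46_U3SpecLow2 Cfsg.Agent.Lib.Helper46_L3Spec

section arith

theorem setup_m (m : ℕ) : ∃ d e f, d = Nat.gcd 3 m ∧ 0 < d ∧ m = d * e ∧ 3 = d * f ∧
    Nat.Coprime e f ∧ m / Nat.gcd 3 m = e := by
  have hdpos : 0 < Nat.gcd 3 m := Nat.gcd_pos_of_pos_left _ (by norm_num)
  refine ⟨Nat.gcd 3 m, m / Nat.gcd 3 m, 3 / Nat.gcd 3 m, rfl, hdpos,
    (Nat.mul_div_cancel' (Nat.gcd_dvd_right _ _)).symm,
    (Nat.mul_div_cancel' (Nat.gcd_dvd_left _ _)).symm, ?_, rfl⟩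
  exact (Nat.coprime_div_gcd_div_gcd hdpos).symm

theorem arithL4 (q k : ℕ) (h : q - 1 ∣ 3 * k) : (q - 1) / Nat.gcd 3 (q - 1) ∣ k := by
  obtain ⟨d, e, f, hd, hdpos, hde, hdf, hcop, he⟩ := setup_m (q - 1)
  rw [he]
  have h1 : d * e ∣ d * (k * f) := by
    have : d * (k * f) = 3 * k := by rw [hdf]; ring
    rw [this, ← hde]; exact h
  exact hcop.dvd_of_dvd_mul_right (Nat.dvd_of_mul_dvd_mul_left hdpos h1)

theorem arithL1 (q k : ℕ) (hq : 2 ≤ q) (h : q ^ 2 + q + 1 ∣ k * (q - 1)) :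
    (q ^ 2 + q + 1) / Nat.gcd 3 (q - 1) ∣ k := by
  obtain ⟨d, e, f, hd, hdpos, hde, hdf, hcop, he⟩ := setup_m (q - 1)
  rw [← hd]
  have hN := nn3_eq q d e f hq hde hdf
  have hdiv : (q ^ 2 + q + 1) / d = e * (q + 2) + f := Nat.div_eq_of_eq_mul_right hdpos hN
  rw [hdiv]
  have hc1 : Nat.Coprime (e * (q + 2) + f) e :=
    (Nat.coprime_mul_left_add_left f e (q + 2)).mpr hcop.symm
  have h3 : e * (q + 2) + f ∣ k * e := by
    apply Nat.dvd_of_mul_dvd_mul_left hdpos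
    have : d * (k * e) = k * (q - 1) := by rw [hde]; ring
    rw [this, ← hN]; exact h
  exact hc1.dvd_of_dvd_mul_right h3

theorem arithL2 (q k : ℕ) (hq : 2 ≤ q) (h1 : q ^ 2 - 1 ∣ (q - 1) * k)
    (h2 : q ^ 2 - 1 ∣ (q + 2) * k) : (q ^ 2 - 1) / Nat.gcd 3 (q - 1) ∣ k := by
  obtain ⟨d, e, f, hd, hdpos, hde, hdf, hcop, he⟩ := setup_m (q - 1)
  rw [← hd]
  have hk3 : (q ^ 2 - 1) / d = (q + 1) * e := by
    apply Nat.div_eq_of_eq_mul_right hdpos
    rw [sq_sub_one_eq q (by omega), hde]; ring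
  rw [hk3]
  rw [sq_sub_one_eq q (by omega)] at h1 h2
  have h3 : q + 1 ∣ k := by
    apply Nat.dvd_of_mul_dvd_mul_left (show 0 < q - 1 by omega)
    exact h1
  obtain ⟨k', rfl⟩ := h3
  have h4 : q - 1 ∣ (q + 2) * k' := by
    apply Nat.dvd_of_mul_dvd_mul_right (Nat.succ_pos q)
    have : (q + 2) * k' * (q + 1) = (q + 2) * ((q + 1) * k') := by ring
    rw [this]; exact h2
  have hq2 : q + 2 = d * (e + f) := by
    rw [Nat.mul_add, ← hde, ← hdf]; omega
  have h5 : e ∣ (e + f) * k' := by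
    apply Nat.dvd_of_mul_dvd_mul_left hdpos
    have : d * ((e + f) * k') = (q + 2) * k' := by rw [hq2]; ring
    rw [this, ← hde]; exact h4
  have hcop' : Nat.Coprime e (e + f) := Nat.coprime_self_add_right.mpr hcop
  have h6 : e ∣ k' := hcop'.dvd_of_dvd_mul_left h5
  exact Nat.mul_dvd_mul_left _ h6

end arith

section low
variable {F : Type*} [Field F] [Fintype F]

/-- Elements of order dividing `q - 1`. -/
theorem low_sl_three (s : ℕ) (hs : s ∣ Fintype.card F - 1) :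
    s ∈ Set.range (orderOf : Matrix.ProjectiveSpecialLinearGroup (Fin 3) F → ℕ) := by
  obtain ⟨l, hl0, hl⟩ := exists_orderOf_eq (K := F) (Fintype.card F - 1)
    (by rw [Nat.card_eq_fintype_card])
  have hdet : (Matrix.diagonal ![l, 1, l⁻¹]).det = 1 := by
    rw [Matrix.det_diagonal, Fin.prod_univ_three]
    simp [hl0]
  refine mem_range_of_forall_sl ⟨_, hdet⟩ _ ?_ s hs
  intro k c hk
  have hk' : (Matrix.diagonal ![l, 1, l⁻¹]) ^ k = c • (1 : Matrix (Fin 3) (Fin 3) F) := hk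
  rw [Matrix.diagonal_pow] at hk'
  have h1 := congrFun (congrFun hk' 1) 1
  have h0 := congrFun (congrFun hk' 0) 0
  simp at h1 h0
  rw [← hl]
  apply orderOf_dvd_of_pow_eq_one
  rw [h0, ← h1]

/-- Elements of order dividing `p (q - 1) / d`. -/
theorem low_sl_four (p : ℕ) [Fact p.Prime] [CharP F p] (s : ℕ)
    (hs : s ∣ p * (Fintype.card F - 1) / Nat.gcd 3 (Fintype.card F - 1)) :
    s ∈ Set.range (orderOf : Matrix.ProjectiveSpecialLinearGroup (Fin 3) F → ℕ) := by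
  obtain ⟨q, hq⟩ : ∃ q, Fintype.card F = q := ⟨_, rfl⟩
  rw [hq] at hs
  have hq2 : 2 ≤ q := by rw [← hq]; exact Fintype.one_lt_card
  have hk2 : p * (q - 1) / Nat.gcd 3 (q - 1) = p * ((q - 1) / Nat.gcd 3 (q - 1)) :=
    Nat.mul_div_assoc p (Nat.gcd_dvd_right _ _)
  rw [hk2] at hs
  have hcop : Nat.Coprime p ((q - 1) / Nat.gcd 3 (q - 1)) := by
    obtain ⟨n, -, hn⟩ := FiniteField.card F p
    have hpq : p ∣ q := by rw [← hq, hn]; exact dvd_pow_self p n.ne_zero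
    have h1 : Nat.Coprime q (q - 1) := by
      have : q = (q - 1) + 1 := by omega
      conv_lhs => rw [this]
      simp
    exact (h1.coprime_dvd_left hpq).coprime_dvd_right (Nat.div_dvd_of_dvd (Nat.gcd_dvd_right _ _))
  obtain ⟨a, ha0, ha⟩ := exists_orderOf_eq (K := F) (q - 1)
    (by rw [Nat.card_eq_fintype_card, hq])
  obtain ⟨G, hG⟩ : ∃ G : Matrix (Fin 3) (Fin 3) F,
      G = !![a, a, 0; 0, a, 0; 0, 0, (a * a)⁻¹] := ⟨_, rfl⟩
  have hdet : G.det = 1 := by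
    rw [hG, Matrix.det_fin_three]
    simp
    field_simp
  have h1 : G *ᵥ ![1, 0, 0] = a • ![1, 0, 0] := by
    rw [hG]
    ext i
    fin_cases i <;> simp [Matrix.mulVec, dotProduct, Fin.sum_univ_three]
  have h2 : G *ᵥ ![0, 1, 0] = a • ![0, 1, 0] + (a * 1) • ![1, 0, 0] := by
    rw [hG]
    ext i
    fin_cases i <;> simp [Matrix.mulVec, dotProduct, Fin.sum_univ_three]
  have h3 : G *ᵥ ![0, 0, 1] = (a * a)⁻¹ • ![0, 0, 1] := by
    rw [hG]
    ext i
    fin_cases i <;> simp [Matrix.mulVec, dotProduct, Fin.sum_univ_three]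
  refine mem_range_of_forall_sl ⟨G, hdet⟩ _ ?_ s hs
  intro k c hk
  have hk' : G ^ k = c • (1 : Matrix (Fin 3) (Fin 3) F) := hk
  have hv0 : (![1, 0, 0] : Fin 3 → F) ≠ 0 := by
    intro h
    have := congrFun h 0
    simp at this
  have he0 : (![0, 0, 1] : Fin 3 → F) ≠ 0 := by
    intro h
    have := congrFun h 2
    simp at this
  have e1 := eig_pow_eq G _ hv0 a h1 k c hk'
  have e2 := eig_pow_eq G _ he0 _ h3 k c hk'
  have e3 := pow_mulVec_jordan G ![1, 0, 0] ![0, 1, 0] a 1 h1 h2 k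
  rw [hk', Matrix.smul_mulVec, Matrix.one_mulVec] at e3
  have e4 := congrFun e3 0
  simp at e4
  have hk0 : (k : F) = 0 := by
    rcases e4 with h | h
    · exact h
    · exact absurd h.1 ha0
  have hpk : p ∣ k := (CharP.cast_eq_zero_iff F p k).mp hk0
  have h3k : a ^ (3 * k) = 1 := by
    have : a ^ k * (a * a) ^ k = 1 := by
      rw [e1, ← e2, inv_pow, inv_mul_cancel₀ (pow_ne_zero _ (mul_ne_zero ha0 ha0))]
    rw [← this]; ring
  have hek : (q - 1) / Nat.gcd 3 (q - 1) ∣ k := by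
    apply arithL4
    rw [← ha]
    exact orderOf_dvd_of_pow_eq_one h3k
  exact hcop.mul_dvd_of_dvd_of_dvd hpk hek

/-- Elements of order dividing `4` in characteristic two. -/
theorem low_sl_five [CharP F 2] (s : ℕ) (hs : s ∣ 4) :
    s ∈ Set.range (orderOf : Matrix.ProjectiveSpecialLinearGroup (Fin 3) F → ℕ) := by
  obtain ⟨G, hG⟩ : ∃ G : Matrix (Fin 3) (Fin 3) F,
      G = !![1, 1, 0; 0, 1, 1; 0, 0, 1] := ⟨_, rfl⟩
  have h20 : (2 : F) = 0 := CharTwo.two_eq_zero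
  have hdet : G.det = 1 := by
    rw [hG, Matrix.det_fin_three]
    simp
  have hG2 : G ^ 2 = !![1, 0, 1; 0, 1, 0; 0, 0, 1] := by
    rw [hG, pow_two]
    ext i j
    fin_cases i <;> fin_cases j <;>
      simp [Matrix.mul_apply, Fin.sum_univ_three, one_add_one_eq_two, h20]
  have hG4 : G ^ 4 = 1 := by
    have : G ^ 4 = G ^ 2 * G ^ 2 := by rw [← pow_add]
    rw [this, hG2]
    ext i j
    fin_cases i <;> fin_cases j <;>
      simp [Matrix.mul_apply, Fin.sum_univ_three, one_add_one_eq_two, h20]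
  have hG2ne : G ^ 2 ≠ 1 := by
    intro h
    rw [hG2] at h
    have := congrFun (congrFun h 0) 2
    simp at this
  have : Fact (Nat.Prime 2) := ⟨Nat.prime_two⟩
  have hord : orderOf G = 4 := by
    have := orderOf_eq_prime_pow (x := G) (p := 2) (n := 1) (by simpa using hG2ne)
      (by simpa using hG4)
    simpa using this
  have h1 : G *ᵥ ![1, 0, 0] = (1 : F) • ![1, 0, 0] := by
    rw [hG]
    ext i
    fin_cases i <;> simp [Matrix.mulVec, dotProduct, Fin.sum_univ_three]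
  refine mem_range_of_forall_sl ⟨G, hdet⟩ _ ?_ s hs
  intro k c hk
  have hk' : G ^ k = c • (1 : Matrix (Fin 3) (Fin 3) F) := hk
  have hv0 : (![1, 0, 0] : Fin 3 → F) ≠ 0 := by
    intro h
    have := congrFun h 0
    simp at this
  have e1 := eig_pow_eq G _ hv0 1 h1 k c hk'
  rw [one_pow] at e1
  rw [← e1, one_smul] at hk'
  rw [← hord]
  exact orderOf_dvd_of_pow_eq_one hk'

theorem nn3_dvd (q : ℕ) (hq : 2 ≤ q) : q ^ 2 + q + 1 ∣ q ^ 3 - 1 := by
  have h1 : 1 ≤ q ^ 3 := Nat.one_le_pow _ _ (by omega)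
  have h2 : ((q ^ 2 + q + 1 : ℕ) : ℤ) ∣ ((q ^ 3 - 1 : ℕ) : ℤ) := by
    rw [Nat.cast_sub h1]
    push_cast
    exact ⟨(q : ℤ) - 1, by ring⟩
  exact Int.natCast_dvd_natCast.mp h2

/-- Elements of order dividing `(q ^ 2 + q + 1) / d`. -/
theorem low_sl_one (p : ℕ) [Fact p.Prime] [CharP F p] (s : ℕ)
    (hs : s ∣ (Fintype.card F ^ 2 + Fintype.card F + 1) / Nat.gcd 3 (Fintype.card F - 1)) :
    s ∈ Set.range (orderOf : Matrix.ProjectiveSpecialLinearGroup (Fin 3) F → ℕ) := by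
  obtain ⟨q, hq⟩ : ∃ q, Fintype.card F = q := ⟨_, rfl⟩
  rw [hq] at hs
  have hq2 : 2 ≤ q := by rw [← hq]; exact Fintype.one_lt_card
  have hcardL : Nat.card (FiniteField.Extension F p 3) = q ^ 3 := by
    rw [FiniteField.natCard_extension, Nat.card_eq_fintype_card, hq]
  obtain ⟨φ, hφ⟩ := exists_frobenius p q hq (L := FiniteField.Extension F p 3)
  obtain ⟨ζ, hζ0, hζ⟩ := exists_orderOf_eq (K := FiniteField.Extension F p 3) (q ^ 2 + q + 1)
    (by rw [hcardL]; exact nn3_dvd q hq2)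
  have hζN : ζ ^ (q ^ 2 + q + 1) = 1 := by rw [← hζ]; exact pow_orderOf_eq_one ζ
  obtain ⟨y, hy⟩ : ∃ y, y = φ ζ := ⟨_, rfl⟩
  obtain ⟨z, hz⟩ : ∃ z, z = φ y := ⟨_, rfl⟩
  have hprod : ζ * y * z = 1 := by
    rw [hz, hφ y, hy, hφ ζ, ← pow_mul, ← hζN]
    have : q ^ 2 + q + 1 = 1 + q + q * q := by ring
    rw [this, pow_add, pow_add, pow_one]
  have hφz : φ z = ζ := by
    have h1 : φ (ζ * y * z) = 1 := by rw [hprod, map_one]
    rw [map_mul, map_mul, ← hy, ← hz] at h1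
    have hy0 : y ≠ 0 := by rw [hy, hφ]; exact pow_ne_zero _ hζ0
    have hz0 : z ≠ 0 := by rw [hz, hφ]; exact pow_ne_zero _ hy0
    have h2 : y * z * φ z = y * z * ζ := by rw [h1]; rw [← hprod]; ring
    exact mul_left_cancel₀ (mul_ne_zero hy0 hz0) h2
  obtain ⟨a, ha⟩ : ∃ a : F, algebraMap F (FiniteField.Extension F p 3) a = ζ + y + z := by
    apply mem_range_of_pow_card
    rw [hq, ← hφ, map_add, map_add, ← hy, ← hz, hφz]; ring
  obtain ⟨b, hb⟩ : ∃ b : F, algebraMap F (FiniteField.Extension F p 3) b =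
      ζ * y + ζ * z + y * z := by
    apply mem_range_of_pow_card
    rw [hq, ← hφ]
    simp only [map_add, map_mul]
    rw [← hy, ← hz, hφz]; ring
  have hfac : (psi a b).map (algebraMap F (FiniteField.Extension F p 3)) =
      (Polynomial.X - C ζ) * (Polynomial.X - C y) * (Polynomial.X - C z) := by
    rw [prod_three, hprod, ← ha, ← hb, C_1]
    unfold psi
    simp only [Polynomial.map_sub, Polynomial.map_add, Polynomial.map_mul, Polynomial.map_pow,
      Polynomial.map_X, Polynomial.map_C, Polynomial.map_one]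
  obtain ⟨g, hg⟩ := low_of_roots_sl a b ζ y z hfac
  refine mem_range_of_forall_sl g _ ?_ s hs
  intro k c₀ hk
  obtain ⟨e1, -, -⟩ := hg k c₀ hk
  have hc0 : c₀ ≠ 0 := by
    rintro rfl
    rw [map_zero] at e1
    exact pow_ne_zero _ hζ0 e1
  have h1 : ζ ^ (k * (q - 1)) = 1 := by
    rw [pow_mul, e1, ← map_pow, ← hq, FiniteField.pow_card_sub_one_eq_one c₀ hc0, map_one]
  apply arithL1 q k hq2
  rw [← hζ]
  exact orderOf_dvd_of_pow_eq_one h1

/-- Elements of order dividing `(q ^ 2 - 1) / d`. -/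
theorem low_sl_two (p : ℕ) [Fact p.Prime] [CharP F p] (s : ℕ)
    (hs : s ∣ (Fintype.card F ^ 2 - 1) / Nat.gcd 3 (Fintype.card F - 1)) :
    s ∈ Set.range (orderOf : Matrix.ProjectiveSpecialLinearGroup (Fin 3) F → ℕ) := by
  obtain ⟨q, hq⟩ : ∃ q, Fintype.card F = q := ⟨_, rfl⟩
  rw [hq] at hs
  have hq2 : 2 ≤ q := by rw [← hq]; exact Fintype.one_lt_card
  have hcardL : Nat.card (FiniteField.Extension F p 2) = q ^ 2 := by
    rw [FiniteField.natCard_extension, Nat.card_eq_fintype_card, hq]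
  obtain ⟨φ, hφ⟩ := exists_frobenius p q hq (L := FiniteField.Extension F p 2)
  obtain ⟨β, hβ0, hβ⟩ := exists_orderOf_eq (K := FiniteField.Extension F p 2) (q ^ 2 - 1)
    (by rw [hcardL])
  have hβN : β ^ (q ^ 2 - 1) = 1 := by rw [← hβ]; exact pow_orderOf_eq_one β
  obtain ⟨y, hy⟩ : ∃ y, y = φ β := ⟨_, rfl⟩
  have hy0 : y ≠ 0 := by rw [hy, hφ]; exact pow_ne_zero _ hβ0
  have hφy : φ y = β := by
    rw [hy, hφ, hφ, ← pow_mul, ← sq]
    have h3 : q ^ 2 = q ^ 2 - 1 + 1 := by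
      have : 1 ≤ q ^ 2 := Nat.one_le_pow _ _ (by omega)
      omega
    rw [h3, pow_succ, hβN, one_mul]
  obtain ⟨w₀, hw⟩ : ∃ w₀ : F, algebraMap F (FiniteField.Extension F p 2) w₀ = β * y := by
    apply mem_range_of_pow_card
    rw [hq, ← hφ, map_mul, ← hy, hφy]; ring
  obtain ⟨t₀, ht⟩ : ∃ t₀ : F, algebraMap F (FiniteField.Extension F p 2) t₀ = β + y := by
    apply mem_range_of_pow_card
    rw [hq, ← hφ, map_add, ← hy, hφy]; ring
  have hw0 : w₀ ≠ 0 := by
    rintro rfl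
    rw [map_zero] at hw
    exact mul_ne_zero hβ0 hy0 hw.symm
  obtain ⟨z, hz⟩ : ∃ z, z = algebraMap F (FiniteField.Extension F p 2) w₀⁻¹ := ⟨_, rfl⟩
  have hzw : β * y * z = 1 := by
    rw [hz, ← hw, ← map_mul, mul_inv_cancel₀ hw0, map_one]
  have hfac : (psi (t₀ + w₀⁻¹) (w₀ + t₀ * w₀⁻¹)).map
      (algebraMap F (FiniteField.Extension F p 2)) =
      (Polynomial.X - C β) * (Polynomial.X - C y) * (Polynomial.X - C z) := by
    have h1 : β + y + z = algebraMap F (FiniteField.Extension F p 2) (t₀ + w₀⁻¹) := by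
      rw [map_add, ht, hz]
    have h2 : β * y + β * z + y * z =
        algebraMap F (FiniteField.Extension F p 2) (w₀ + t₀ * w₀⁻¹) := by
      rw [map_add, map_mul, hw, ht, ← hz]; ring
    rw [prod_three, hzw, h1, h2, C_1]
    unfold psi
    simp only [Polynomial.map_sub, Polynomial.map_add, Polynomial.map_mul, Polynomial.map_pow,
      Polynomial.map_X, Polynomial.map_C, Polynomial.map_one]
  obtain ⟨g, hg⟩ := low_of_roots_sl _ _ β y z hfac
  refine mem_range_of_forall_sl g _ ?_ s hs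
  intro k c₀ hk
  obtain ⟨e1, e2, e3⟩ := hg k c₀ hk
  have hβk0 : β ^ k ≠ 0 := pow_ne_zero _ hβ0
  have h1 : β ^ ((q - 1) * k) = 1 := by
    have h4 : β ^ (q * k) = β ^ k := by
      rw [pow_mul, ← hφ, ← hy, e2, e1]
    have h5 : q * k = (q - 1) * k + k := by
      have : q = (q - 1) + 1 := by omega
      conv_lhs => rw [this]
      ring
    rw [h5, pow_add] at h4
    exact mul_right_cancel₀ hβk0 (by rw [h4, one_mul])
  have h2 : β ^ ((q + 2) * k) = 1 := by
    have h4 : β ^ k * (β * y) ^ k = 1 := by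
      have : (β * y) ^ k * z ^ k = 1 := by rw [← mul_pow, hzw, one_pow]
      rw [e1, ← e3, mul_comm]; exact this
    rw [← h4, hy, hφ, ← pow_succ', ← pow_mul, ← pow_add]
    congr 1
    ring
  apply arithL2 q k hq2
  · rw [← hβ]; exact orderOf_dvd_of_pow_eq_one h1
  · rw [← hβ]; exact orderOf_dvd_of_pow_eq_one h2

end low

end Cfsg.Agent.Lib.Helper46_L3SpecLow
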