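import Mathlib
import Cfsg.Agent.Lib.Helper6_MXDefs

set_option autoImplicit false
set_option linter.unusedSectionVars false

/-!
# S4017 market (architect helper6), package MX-E2A: `hyper`.
-/

namespace Cfsg.Agent.Lib.Helper46_MX_E2A

open Cfsg.Agent.Lib.Helper6_MXDefs

variable {G : Type*} [Group G] [Finite G] {p a : ℕ} {Q : Subgroup G} {x : G}

theorem card_mul_relIndex_of_le {H K : Subgroup G} (h : H ≤ K) :
    Nat.card H * H.relIndex K = Nat.card K := by
  have := Subgroup.relIndex_mul_relIndex (⊥ : Subgroup G) H K bot_le h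
  rwa [Subgroup.relIndex_bot_left, Subgroup.relIndex_bot_left] at this

/-- two subgroups of index two of a group of order at least eight meet non-trivially. -/
theorem exists_ne_one_mem_inf {Q U U' : Subgroup G} (hU : U ≤ Q) (hU' : U' ≤ Q)
    (hc : 2 * Nat.card U = Nat.card Q) (hc' : 2 * Nat.card U' = Nat.card Q)
    (h8 : 8 ≤ Nat.card Q) : ∃ s, s ∈ U ∧ s ∈ U' ∧ s ≠ 1 := by
  have hUpos : 0 < Nat.card U := Nat.card_pos
  have hU'pos : 0 < Nat.card U' := Nat.card_pos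
  have h1 := card_mul_relIndex_of_le hU
  have h2 := card_mul_relIndex_of_le hU'
  have hr1 : U.relIndex Q = 2 := by
    have : Nat.card U * U.relIndex Q = Nat.card U * 2 := by rw [h1, ← hc, mul_comm]
    exact Nat.eq_of_mul_eq_mul_left hUpos this
  have hr2 : U'.relIndex Q = 2 := by
    have : Nat.card U' * U'.relIndex Q = Nat.card U' * 2 := by rw [h2, ← hc', mul_comm]
    exact Nat.eq_of_mul_eq_mul_left hU'pos this
  have h3 := Subgroup.relIndex_inf_le (H := U) (K := U') (L := Q)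
  rw [hr1, hr2] at h3
  have h4 := card_mul_relIndex_of_le (H := U ⊓ U') (K := Q) (inf_le_left.trans hU)
  have h5 : 2 ≤ Nat.card (U ⊓ U' : Subgroup G) := by
    by_contra hlt
    push Not at hlt
    have : Nat.card (U ⊓ U' : Subgroup G) * (U ⊓ U').relIndex Q ≤ 1 * 4 :=
      Nat.mul_le_mul (by omega) h3
    omega
  have hnt : Nontrivial (U ⊓ U' : Subgroup G) := by
    rw [← Finite.one_lt_card_iff_nontrivial]
    omega
  obtain ⟨⟨s, hs⟩, hs1⟩ := exists_ne (1 : (U ⊓ U' : Subgroup G))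
  refine ⟨s, hs.1, hs.2, ?_⟩
  intro h
  apply hs1
  exact Subtype.ext h

theorem isPEl_conj {g : G} (n : G) (hg : IsPEl p g) : IsPEl p (n * g * n⁻¹) := by
  obtain ⟨k, hk⟩ := hg
  refine ⟨k, ?_⟩
  rw [conj_pow, hk, mul_one, mul_inv_cancel]

/-- MX-E2A. -/
theorem hyper (hF : UFacts G p a) (hR : RStarProp G p a) : HyperProp G p a := by
  intro Q x h hII ha U hUQ hUc g hgU hgp
  have F := hF Q x h
  have hcardQ : Nat.card Q = 2 ^ a := h.cardQ
  have h8 : 8 ≤ Nat.card Q := by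
    rw [hcardQ]
    calc 8 = 2 ^ 3 := by norm_num
      _ ≤ 2 ^ a := Nat.pow_le_pow_right (by norm_num) ha
  -- the set `S`
  set S : Set G := {g | IsPEl p g ∧ ∃ U' : Subgroup G, U' ≤ Q ∧ 2 * Nat.card U' = Nat.card Q ∧
    ∀ v ∈ U', g * v = v * g} with hS
  have hS1 : ∀ g ∈ S, IsPEl p g := fun g hg => hg.1
  have hS2 : ∀ g ∈ S, ∀ g' ∈ S, g * g' = g' * g := by
    rintro g ⟨hg, U', hU', hc', hcen'⟩ g' ⟨hg', U'', hU'', hc'', hcen''⟩
    obtain ⟨s, hs1, hs2, hsne⟩ := exists_ne_one_mem_inf hU' hU'' hc' hc'' h8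
    have hsQ : s ∈ Q := hU' hs1
    have hot := (F.ot s hsQ hsne).1
    have hgO : g ∈ Op p s := Subgroup.subset_closure ⟨hcen' s hs1, hg⟩
    have hgO' : g' ∈ Op p s := Subgroup.subset_closure ⟨hcen'' s hs2, hg'⟩
    exact h.abel (Op p s) hot g hgO g' hgO'
  have hS3 : ∀ n ∈ NQ Q, ∀ g ∈ S, n * g * n⁻¹ ∈ S := by
    rintro n hn g ⟨hg, U', hU', hc', hcen'⟩
    refine ⟨isPEl_conj n hg, U'.map (MulAut.conj n).toMonoidHom, ?_, ?_, ?_⟩
    · rintro _ ⟨v, hv, rfl⟩
      have := (Subgroup.mem_normalizer_iff.1 hn v).1 (hU' hv)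
      simpa using this
    · rw [Subgroup.card_map_of_injective (MulAut.conj n).injective]
      exact hc'
    · rintro _ ⟨v, hv, rfl⟩
      have hv' := hcen' v hv
      simp only [MulEquiv.toMonoidHom_eq_coe, MonoidHom.coe_coe, MulAut.conj_apply]
      calc n * g * n⁻¹ * (n * v * n⁻¹) = n * (g * v) * n⁻¹ := by group
        _ = n * (v * g) * n⁻¹ := by rw [hv']
        _ = n * v * n⁻¹ * (n * g * n⁻¹) := by group
  have hgS : g ∈ S := ⟨hgp, U, hUQ, hUc, hgU⟩
  have hgN : g ∈ NQ Q := hR Q x h S hS1 hS2 hS3 g hgS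
  -- a non-trivial element of `U`
  have hU2 : 2 ≤ Nat.card U := by omega
  have hnt : Nontrivial U := by
    rw [← Finite.one_lt_card_iff_nontrivial]
    omega
  obtain ⟨⟨s, hs⟩, hs1⟩ := exists_ne (1 : U)
  have hsne : s ≠ 1 := fun h => hs1 (Subtype.ext h)
  have hfix : g * s * g⁻¹ = s := by
    rw [hgU s hs, mul_inv_cancel_right]
  have hcent : CentQ Q g := F.stab g hgN s (hUQ hs) hsne hfix
  exact hII g hgp hcent

end Cfsg.Agent.Lib.Helper46_MX_E2A
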