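import Mathlib
import Cfsg.Agent.Lib.Helper6_MXDefs

set_option autoImplicit false
set_option linter.unusedSectionVars false

/-!
# S4017 market (architect helper6), package MX-E2B: `vfour`.
-/

namespace Cfsg.Agent.Lib.Helper46_MX_E2B

open Cfsg.Agent.Lib.Helper6_MXDefs

variable {G : Type*} [Group G] [Finite G] {p a : ℕ} {Q : Subgroup G} {x : G}

/-- a subgroup `F` with `4 |F| ≤ |Q|`: there are `u, v ∈ Q` with `u, v, u v ∉ F`. -/
theorem exists_two_outside {Q F : Subgroup G} (_hFQ : F ≤ Q) (h4 : 4 * Nat.card F ≤ Nat.card Q) :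
    ∃ u ∈ Q, ∃ v ∈ Q, u ∉ F ∧ v ∉ F ∧ u * v ∉ F := by
  classical
  have hFpos : 0 < Nat.card F := Nat.card_pos
  have hFn : (F : Set G).ncard = Nat.card F := (Nat.card_coe_set_eq (F : Set G)).symm
  have hQn : (Q : Set G).ncard = Nat.card Q := (Nat.card_coe_set_eq (Q : Set G)).symm
  -- first `u`
  have h1 : (F : Set G).ncard < (Q : Set G).ncard := by rw [hFn, hQn]; omega
  obtain ⟨u, huQ, huF⟩ := Set.exists_mem_notMem_of_ncard_lt_ncard h1 (Set.toFinite _)
  -- then `v`
  set T : Set G := (F : Set G) ∪ (fun f => u⁻¹ * f) '' (F : Set G) with hT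
  have hTn : T.ncard ≤ Nat.card F + Nat.card F := by
    refine (Set.ncard_union_le _ _).trans ?_
    rw [hFn]
    exact Nat.add_le_add_left ((Set.ncard_image_le (Set.toFinite _)).trans (le_of_eq hFn)) _
  have h2 : T.ncard < (Q : Set G).ncard := by rw [hQn]; omega
  obtain ⟨v, hvQ, hvT⟩ := Set.exists_mem_notMem_of_ncard_lt_ncard h2 (Set.toFinite _)
  refine ⟨u, huQ, v, hvQ, huF, fun hv => hvT (Or.inl hv), fun huv => hvT (Or.inr ⟨u * v, huv, ?_⟩)⟩
  simp

theorem isPEl_eq_one_of_sq {g : G} (hp : p.Prime) (hp2 : p ≠ 2) (hg : IsPEl p g) (h2 : g * g = 1) :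
    g = 1 := by
  obtain ⟨k, hk⟩ := hg
  have h1 : orderOf g ∣ p ^ k := orderOf_dvd_of_pow_eq_one hk
  have h2' : orderOf g ∣ 2 := orderOf_dvd_of_pow_eq_one (by rw [pow_two, h2])
  have hcop : Nat.Coprime (p ^ k) 2 := by
    apply Nat.Coprime.pow_left
    rw [Nat.coprime_primes hp Nat.prime_two]
    exact hp2
  have : orderOf g ∣ 1 := by
    have := Nat.dvd_gcd h1 h2'
    rwa [hcop] at this
  exact orderOf_eq_one_iff.1 (Nat.dvd_one.1 this)

/-- MX-E2B. -/
theorem vfour (hF : UFacts G p a) : VFourProp G p a := by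
  intro Q x h F hFQ hFne h4 hIH g hgF hgp
  have Fc := hF Q x h
  obtain ⟨hsq, hcomm⟩ := Fc.elem
  -- a non-trivial `s ∈ F`
  obtain ⟨s, hsF, hs1⟩ : ∃ s ∈ F, s ≠ 1 := by
    by_contra hcon
    push Not at hcon
    exact hFne ((Subgroup.eq_bot_iff_forall _).2 hcon)
  have hsQ : s ∈ Q := hFQ hsF
  have hot := (Fc.ot s hsQ hs1).1
  have hgs : g * s = s * g := hgF s hsF
  have hgO : g ∈ Op p s := Subgroup.subset_closure ⟨hgs, hgp⟩
  -- the key: every `w ∈ Q \ F` inverts `g`
  have key : ∀ w ∈ Q, w ∉ F → w * g * w⁻¹ = g⁻¹ := by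
    intro w hwQ hwF
    have hww : w * w = 1 := hsq w hwQ
    have hwinv : w⁻¹ = w := inv_eq_of_mul_eq_one_left hww
    have hcp : IsPEl p (w * g * w⁻¹) := by
      obtain ⟨k, hk⟩ := hgp
      exact ⟨k, by rw [conj_pow, hk, mul_one, mul_inv_cancel]⟩
    -- `w g w⁻¹` commutes with every `f ∈ F`
    have hcF : ∀ f ∈ F, w * g * w⁻¹ * f = f * (w * g * w⁻¹) := by
      intro f hf
      have hwf : w * f = f * w := hcomm w hwQ f (hFQ hf)
      have hgf : g * f = f * g := hgF f hf
      rw [hwinv]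
      calc w * g * w * f = w * g * (w * f) := by group
        _ = w * g * (f * w) := by rw [hwf]
        _ = w * (g * f) * w := by group
        _ = w * (f * g) * w := by rw [hgf]
        _ = (w * f) * g * w := by group
        _ = (f * w) * g * w := by rw [hwf]
        _ = f * (w * g * w) := by group
    have hcO : w * g * w⁻¹ ∈ Op p s := Subgroup.subset_closure ⟨hcF s hsF, hcp⟩
    have hgc : g * (w * g * w⁻¹) = w * g * w⁻¹ * g := h.abel (Op p s) hot g hgO _ hcO
    obtain ⟨m, hm⟩ : ∃ m : G, m = g * (w * g * w⁻¹) := ⟨_, rfl⟩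
    have hmO : m ∈ Op p s := by rw [hm]; exact mul_mem hgO hcO
    have hmp : IsPEl p m := by
      obtain ⟨k, hk⟩ := hot ⟨m, hmO⟩
      refine ⟨k, ?_⟩
      have := congrArg Subtype.val hk
      simpa using this
    have hmF : ∀ f ∈ F, m * f = f * m := by
      intro f hf
      rw [hm, mul_assoc, hcF f hf, ← mul_assoc, hgF f hf, mul_assoc]
    have hgc' : g * (w * g * w) = w * g * w * g := by
      have := hgc
      rwa [hwinv] at this
    have hmw : m * w = w * m := by
      rw [hm, hwinv]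
      calc g * (w * g * w) * w = g * w * g * (w * w) := by group
        _ = g * w * g := by rw [hww, mul_one]
        _ = (w * w) * (g * w * g) := by rw [hww, one_mul]
        _ = w * ((w * g * w) * g) := by group
        _ = w * (g * (w * g * w)) := by rw [← hgc']
    -- `m` centralizes `F ⊔ zpowers w`
    have hle : F ⊔ Subgroup.zpowers w ≤ Subgroup.centralizer ({m} : Set G) := by
      apply sup_le
      · intro f hf
        rw [Subgroup.mem_centralizer_singleton_iff]
        exact (hmF f hf).symm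
      · rw [Subgroup.zpowers_le, Subgroup.mem_centralizer_singleton_iff]
        exact hmw.symm
    have hF'Q : F ⊔ Subgroup.zpowers w ≤ Q := sup_le hFQ (by rwa [Subgroup.zpowers_le])
    have hlt : F < F ⊔ Subgroup.zpowers w := by
      refine lt_of_le_of_ne le_sup_left ?_
      intro heq
      apply hwF
      rw [heq]
      exact (le_sup_right : Subgroup.zpowers w ≤ _) (Subgroup.mem_zpowers w)
    have hm1 : m = 1 := by
      refine hIH _ hF'Q hlt m ?_ hmp
      intro v hv
      have := hle hv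
      rw [Subgroup.mem_centralizer_singleton_iff] at this
      exact this.symm
    rw [hm] at hm1
    exact (eq_inv_of_mul_eq_one_right hm1)
  obtain ⟨u, huQ, v, hvQ, huF, hvF, huvF⟩ := exists_two_outside hFQ h4
  have h1 := key u huQ huF
  have h2 := key v hvQ hvF
  have h3 := key (u * v) (mul_mem huQ hvQ) huvF
  have h4' : u * v * g * (u * v)⁻¹ = g := by
    calc u * v * g * (u * v)⁻¹ = u * (v * g * v⁻¹) * u⁻¹ := by group
      _ = u * g⁻¹ * u⁻¹ := by rw [h2]
      _ = (u * g * u⁻¹)⁻¹ := by group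
      _ = g := by rw [h1, inv_inv]
  have h5 : g = g⁻¹ := h4'.symm.trans h3
  have h6 : g * g = 1 := by
    nth_rewrite 2 [h5]
    exact mul_inv_cancel g
  exact isPEl_eq_one_of_sq h.hp h.hp2 hgp h6

end Cfsg.Agent.Lib.Helper46_MX_E2B
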