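import Mathlib
import Cfsg.Agent.Lib.Helper48_OODefs

set_option autoImplicit false

/-!
OO package ARITH (helper48's S2344 market): arithmetic of `bodd q n = (q^(2n) - 1)/(q^2 - 1)`.
-/

namespace Cfsg.Agent.Lib.Helper46_OO_ARITH

open Cfsg.Agent.Lib.Helper48_OODefs

theorem bodd_mul (q n : ℕ) (hq : 2 ≤ q) : (q ^ 2 - 1) * bodd q n = q ^ (2 * n) - 1 := by
  unfold bodd
  apply Nat.mul_div_cancel'
  have h := Nat.sub_one_dvd_pow_sub_one (q ^ 2) n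
  rwa [← pow_mul] at h

theorem D_pos (q : ℕ) (hq : 2 ≤ q) : 3 ≤ q ^ 2 - 1 := by
  have : 4 ≤ q ^ 2 := by nlinarith
  omega

theorem one_le_pow' (q k : ℕ) (hq : 2 ≤ q) : 1 ≤ q ^ k := Nat.one_le_pow _ _ (by omega)

theorem bodd_succ (q n : ℕ) (hq : 2 ≤ q) (hn : 1 ≤ n) :
    bodd q n = q ^ (2 * (n - 1)) + bodd q (n - 1) := by
  have hD := D_pos q hq
  apply Nat.eq_of_mul_eq_mul_left (show 0 < q ^ 2 - 1 by omega)
  rw [mul_add, bodd_mul q n hq, bodd_mul q (n - 1) hq]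
  have hpow : q ^ (2 * n) = q ^ 2 * q ^ (2 * (n - 1)) := by
    rw [← pow_add]
    congr 1
    omega
  have h1 := one_le_pow' q (2 * (n - 1)) hq
  have h4 : 4 ≤ q ^ 2 := by nlinarith
  rw [hpow, Nat.sub_mul, one_mul]
  have h5 : q ^ (2 * (n - 1)) ≤ q ^ 2 * q ^ (2 * (n - 1)) := Nat.le_mul_of_pos_left _ (by omega)
  omega

/-- `8 B_m ≤ q^(2m) - 1` for `q ≥ 3` -/
theorem eight_bodd_le (q m : ℕ) (hq : 3 ≤ q) : 8 * bodd q m ≤ q ^ (2 * m) - 1 := by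
  rw [← bodd_mul q m (by omega)]
  apply Nat.mul_le_mul_right
  have : 9 ≤ q ^ 2 := by nlinarith
  omega

theorem bodd_le_two_sing (q n : ℕ) (hq : 3 ≤ q) (hn : 2 ≤ n) :
    bodd q n ≤ 2 * (q ^ (2 * (n - 1)) - 1) := by
  rw [bodd_succ q n (by omega) (by omega)]
  have h8 := eight_bodd_le q (n - 1) hq
  have h9 : 9 ≤ q ^ (2 * (n - 1)) := by
    have : 2 * (n - 1) = 2 + (2 * (n - 1) - 2) := by omega
    rw [this, pow_add]
    have h1 := one_le_pow' q (2 * (n - 1) - 2) (by omega)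
    have h2 : 9 ≤ q ^ 2 := by nlinarith
    nlinarith
  omega

theorem bodd_le_two_level (q n : ℕ) (hq : 3 ≤ q) (hn : 3 ≤ n) :
    bodd q n ≤ 2 * (q ^ (2 * (n - 1)) - q ^ (n - 1)) := by
  rw [bodd_succ q n (by omega) (by omega)]
  have h8 := eight_bodd_le q (n - 1) hq
  have hsq : q ^ (2 * (n - 1)) = q ^ (n - 1) * q ^ (n - 1) := by
    rw [← pow_add]
    congr 1
    omega
  have h3 : 3 ≤ q ^ (n - 1) := by
    have : n - 1 = 1 + (n - 2) := by omega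
    rw [this, pow_add, pow_one]
    have h1 := one_le_pow' q (n - 2) (by omega)
    nlinarith
  rw [hsq] at h8 ⊢
  have h9 : 3 * q ^ (n - 1) ≤ q ^ (n - 1) * q ^ (n - 1) := Nat.mul_le_mul_right _ h3
  omega

end Cfsg.Agent.Lib.Helper46_OO_ARITH
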