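import Mathlib

/-!
Arithmetic for S2363: if `d * n = q ^ N * M` with `q = p ^ f`, `p ∤ d`, `p ∤ M`, `M < q ^ D`, then
`v_p(n) = f * N`, `n < p ^ (3 v_p(n))` when `D ≤ 2 N`, and `n ^ 3 < p ^ (8 v_p(n))` when `3 D ≤ 5 N`.
Plus the bounds and non-divisibility of the cofactors `M` occurring in the order formulas of the groups of Lie type.
-/

set_option autoImplicit false

namespace Cfsg.Agent.Lib.Helper46_OrderBound

/-- first conclusion of S2363 for the number `n`. -/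
def P1 (p n : ℕ) : Prop := n < p ^ (3 * n.factorization p)

/-- second conclusion of S2363 for the number `n`. -/
def P2 (p n : ℕ) : Prop := n ^ 3 < p ^ (8 * n.factorization p)

theorem core {p f d n N M D : ℕ} (hp : p.Prime) (hd : 1 ≤ d) (hdp : ¬ p ∣ d) (hMp : ¬ p ∣ M)
    (h : d * n = (p ^ f) ^ N * M) (hM : M < (p ^ f) ^ D) :
    n.factorization p = f * N ∧ (D ≤ 2 * N → P1 p n) ∧ (3 * D ≤ 5 * N → P2 p n) := by
  have hM0 : M ≠ 0 := fun h0 => hMp (h0 ▸ dvd_zero p)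
  have hd0 : d ≠ 0 := by omega
  have hq0 : (p ^ f) ^ N ≠ 0 := pow_ne_zero _ (pow_ne_zero _ hp.ne_zero)
  have hn0 : n ≠ 0 := by
    intro h0
    rw [h0, mul_zero] at h
    exact (mul_ne_zero hq0 hM0) h.symm
  have hfac : n.factorization p = f * N := by
    have h1 : (d * n).factorization p = ((p ^ f) ^ N * M).factorization p := by rw [h]
    rw [Nat.factorization_mul hd0 hn0, Nat.factorization_mul hq0 hM0, ← pow_mul,
      hp.factorization_pow] at h1
    simp only [Finsupp.coe_add, Pi.add_apply, Finsupp.single_eq_same] at h1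
    rw [Nat.factorization_eq_zero_of_not_dvd hdp, Nat.factorization_eq_zero_of_not_dvd hMp] at h1
    omega
  have hp1 : 1 ≤ p := hp.one_lt.le
  have hn_le : n ≤ (p ^ f) ^ N * M := by
    rw [← h]
    exact Nat.le_mul_of_pos_left n (by omega)
  have hlt : n < (p ^ f) ^ (N + D) := by
    calc n ≤ (p ^ f) ^ N * M := hn_le
      _ < (p ^ f) ^ N * (p ^ f) ^ D := Nat.mul_lt_mul_of_pos_left hM (Nat.pos_of_ne_zero hq0)
      _ = (p ^ f) ^ (N + D) := (pow_add _ _ _).symm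
  refine ⟨hfac, ?_, ?_⟩
  · intro hD
    unfold P1
    rw [hfac]
    calc n < (p ^ f) ^ (N + D) := hlt
      _ = p ^ (f * (N + D)) := (pow_mul _ _ _).symm
      _ ≤ p ^ (3 * (f * N)) := by
          apply Nat.pow_le_pow_right hp1
          nlinarith
  · intro hD
    unfold P2
    rw [hfac]
    calc n ^ 3 < ((p ^ f) ^ (N + D)) ^ 3 := Nat.pow_lt_pow_left hlt (by norm_num)
      _ = p ^ (f * (N + D) * 3) := by rw [← pow_mul, ← pow_mul, mul_assoc]
      _ ≤ p ^ (8 * (f * N)) := by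
          apply Nat.pow_le_pow_right hp1
          nlinarith

/-! ### non-divisibility -/

theorem not_dvd_sub_one {p q i : ℕ} (hp : p.Prime) (hq0 : 0 < q) (hpq : p ∣ q) (hi : 1 ≤ i) :
    ¬ p ∣ q ^ i - 1 := by
  intro h
  have hq : p ∣ q ^ i := dvd_pow hpq (by omega)
  have hpos : 1 ≤ q ^ i := Nat.one_le_pow _ _ hq0
  have h1 : p ∣ q ^ i - (q ^ i - 1) := Nat.dvd_sub hq h
  have : q ^ i - (q ^ i - 1) = 1 := by omega
  rw [this] at h1
  exact hp.one_lt.ne' (Nat.dvd_one.mp h1)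

theorem not_dvd_add_one {p q i : ℕ} (hp : p.Prime) (hpq : p ∣ q) (hi : 1 ≤ i) : ¬ p ∣ q ^ i + 1 := by
  intro h
  have hq : p ∣ q ^ i := dvd_pow hpq (by omega)
  have h1 : p ∣ 1 := (Nat.dvd_add_right hq).mp h
  exact hp.one_lt.ne' (Nat.dvd_one.mp h1)

theorem not_dvd_of_dvd_sub_one {p q i d : ℕ} (hp : p.Prime) (hq0 : 0 < q) (hpq : p ∣ q) (hi : 1 ≤ i)
    (hd : d ∣ q ^ i - 1) : ¬ p ∣ d := fun h => not_dvd_sub_one hp hq0 hpq hi (h.trans hd)

theorem not_dvd_of_dvd_add_one {p q i d : ℕ} (hp : p.Prime) (hpq : p ∣ q) (hi : 1 ≤ i)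
    (hd : d ∣ q ^ i + 1) : ¬ p ∣ d := fun h => not_dvd_add_one hp hpq hi (h.trans hd)

theorem not_dvd_prod {ι : Type*} {p : ℕ} (hp : p.Prime) (s : Finset ι) (g : ι → ℕ)
    (h : ∀ i ∈ s, ¬ p ∣ g i) : ¬ p ∣ ∏ i ∈ s, g i := by
  intro hd
  obtain ⟨i, hi, hpi⟩ := (Prime.dvd_finset_prod_iff hp.prime g).mp hd
  exact h i hi hpi

/-! ### bounds -/

theorem one_le_pow' {q : ℕ} (hq : 2 ≤ q) (i : ℕ) : 1 ≤ q ^ i := Nat.one_le_pow _ _ (by omega)

theorem sub_one_lt {q : ℕ} (hq : 2 ≤ q) (i : ℕ) : q ^ i - 1 < q ^ i := by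
  have := one_le_pow' hq i
  omega

theorem sub_one_pos {q : ℕ} (hq : 2 ≤ q) {i : ℕ} (hi : 1 ≤ i) : 0 < q ^ i - 1 := by
  have h1 : q ^ 1 ≤ q ^ i := Nat.pow_le_pow_right (by omega) hi
  simp at h1
  omega

theorem add_one_le {q : ℕ} (hq : 2 ≤ q) (i : ℕ) : q ^ i + 1 ≤ q ^ (i + 1) := by
  have := one_le_pow' hq i
  rw [pow_succ]
  nlinarith

/-- `(q^a - 1)(q^b + 1) < q^(a+b)` for `a ≤ b`. -/
theorem pair_lt {q : ℕ} (hq : 2 ≤ q) {a b : ℕ} (hab : a ≤ b) :
    (q ^ a - 1) * (q ^ b + 1) < q ^ (a + b) := by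
  have hx := one_le_pow' hq a
  have hxy : q ^ a ≤ q ^ b := Nat.pow_le_pow_right (by omega) hab
  obtain ⟨x, hx'⟩ : ∃ x, q ^ a = x + 1 := ⟨q ^ a - 1, by omega⟩
  rw [pow_add, hx']
  simp only [Nat.add_sub_cancel]
  rw [hx'] at hxy
  nlinarith

/-- product of `q ^ e i - 1` over a nonempty finset. -/
theorem prod_sub_one_lt {ι : Type*} {q : ℕ} (hq : 2 ≤ q) (s : Finset ι) (hs : s.Nonempty) (e : ι → ℕ)
    (he : ∀ i ∈ s, 1 ≤ e i) : ∏ i ∈ s, (q ^ e i - 1) < q ^ (∑ i ∈ s, e i) := by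
  rw [← Finset.prod_pow_eq_pow_sum]
  apply Finset.prod_lt_prod_of_nonempty
  · intro i hi
    exact sub_one_pos hq (he i hi)
  · intro i _
    exact sub_one_lt hq _
  · exact hs

theorem prod_sub_one_le {ι : Type*} {q : ℕ} (hq : 2 ≤ q) (s : Finset ι) (e : ι → ℕ) :
    ∏ i ∈ s, (q ^ e i - 1) ≤ q ^ (∑ i ∈ s, e i) := by
  rw [← Finset.prod_pow_eq_pow_sum]
  apply Finset.prod_le_prod'
  intro i _
  exact (sub_one_lt hq _).le

/-! ### exponent sums -/

theorem sum_two_mul_succ (m : ℕ) : ∑ i ∈ Finset.range m, 2 * (i + 1) = m * (m + 1) := by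
  induction m with
  | zero => simp
  | succ k ih => rw [Finset.sum_range_succ, ih]; ring

/-- `S m = ∑_{j<m} (j+2)`; `2 S m = m (m+3)`. -/
theorem two_mul_sum_add_two (m : ℕ) : 2 * ∑ j ∈ Finset.range m, (j + 2) = m * (m + 3) := by
  induction m with
  | zero => simp
  | succ k ih => rw [Finset.sum_range_succ, mul_add, ih]; ring

theorem two_mul_choose (n : ℕ) : 2 * (n * (n - 1) / 2) = n * (n - 1) := by
  have h : 2 ∣ n * (n - 1) := by
    rcases Nat.even_or_odd n with hn | hn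
    · exact (hn.two_dvd).mul_right _
    · have : Even (n - 1) := by
        rcases hn with ⟨k, rfl⟩
        simp
      exact (this.two_dvd).mul_left _
  exact Nat.mul_div_cancel' h

end Cfsg.Agent.Lib.Helper46_OrderBound
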