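import Cfsg.Agent.Lib.Helper46_OrderBound

/-!
S2363, the families: from the shape of each order formula (as an identity of natural numbers) to the two bounds.
-/

set_option autoImplicit false

namespace Cfsg.Agent.Lib.Helper46_OrderBound

open Finset

theorem finish {p f q d c N M D : ℕ} (hp : p.Prime) (hq : q = p ^ f) (hd : 1 ≤ d) (hdp : ¬ p ∣ d)
    (hMp : ¬ p ∣ M) (h : d * c = q ^ N * M) (hM : M < q ^ D) (h1 : D ≤ 2 * N) (h2 : 3 * D ≤ 5 * N) :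
    P1 p c ∧ P2 p c := by
  subst hq
  obtain ⟨_, a, b⟩ := core hp hd hdp hMp h hM
  exact ⟨a h1, b h2⟩

section basics
variable {p f q : ℕ}

theorem two_le_q (hp : p.Prime) (hf : 1 ≤ f) (hq : q = p ^ f) : 2 ≤ q := by
  subst hq
  calc 2 ≤ p := hp.two_le
    _ = p ^ 1 := (pow_one p).symm
    _ ≤ p ^ f := Nat.pow_le_pow_right hp.one_lt.le hf

theorem p_dvd_q (hf : 1 ≤ f) (hq : q = p ^ f) : p ∣ q := by
  subst hq
  exact dvd_pow_self p (by omega)

end basics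

/-! ### PSL -/

theorem prod_psl (q k : ℕ) (hq : 1 ≤ q) :
    ∏ i : Fin (k + 1), (q ^ (k + 1) - q ^ (i : ℕ)) =
      q ^ (∑ i ∈ range (k + 1), i) * ((∏ j ∈ range k, (q ^ (j + 2) - 1)) * (q - 1)) := by
  rw [Fin.prod_univ_eq_prod_range (fun i => q ^ (k + 1) - q ^ i) (k + 1)]
  have h1 : ∀ i ∈ range (k + 1), q ^ (k + 1) - q ^ i = q ^ i * (q ^ (k + 1 - i) - 1) := by
    intro i hi
    have hi' : i < k + 1 := mem_range.mp hi
    rw [Nat.mul_sub, ← pow_add, mul_one]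
    congr 2
    omega
  rw [prod_congr rfl h1, prod_mul_distrib, prod_pow_eq_pow_sum]
  congr 1
  have h2 := prod_range_reflect (fun j => q ^ (j + 1) - 1) (k + 1)
  have h3 : ∀ j ∈ range (k + 1), q ^ (k + 1 - j) - 1 = q ^ (k + 1 - 1 - j + 1) - 1 := by
    intro j hj
    have hj' : j < k + 1 := mem_range.mp hj
    congr 2
    omega
  rw [prod_congr rfl h3, h2, prod_range_succ']
  simp

theorem fam_psl {p f q n c : ℕ} (hp : p.Prime) (hf : 1 ≤ f) (hq : q = p ^ f) (hn : 2 ≤ n)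
    (h : Nat.gcd n (q - 1) * ((q - 1) * c) = ∏ i : Fin n, (q ^ n - q ^ (i : ℕ))) :
    c.factorization p = f * (∑ i ∈ range n, i) ∧ P1 p c ∧ (3 ≤ n → P2 p c) := by
  have hq2 := two_le_q hp hf hq
  have hpq := p_dvd_q hf hq
  obtain ⟨k, rfl⟩ : ∃ k, n = k + 1 := ⟨n - 1, by omega⟩
  rw [prod_psl q k (by omega)] at h
  have hq1 : 0 < q - 1 := by omega
  have h' : Nat.gcd (k + 1) (q - 1) * c = q ^ (∑ i ∈ range (k + 1), i) * ∏ j ∈ range k, (q ^ (j + 2) - 1) := by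
    apply Nat.eq_of_mul_eq_mul_right hq1
    calc Nat.gcd (k + 1) (q - 1) * c * (q - 1) = Nat.gcd (k + 1) (q - 1) * ((q - 1) * c) := by ring
      _ = _ := h
      _ = _ := by ring
  have hd : 1 ≤ Nat.gcd (k + 1) (q - 1) := Nat.gcd_pos_of_pos_right _ hq1
  have hdp : ¬ p ∣ Nat.gcd (k + 1) (q - 1) := by
    apply not_dvd_of_dvd_sub_one hp (by omega) hpq (le_refl 1)
    rw [pow_one]
    exact Nat.gcd_dvd_right _ _
  have hMp : ¬ p ∣ ∏ j ∈ range k, (q ^ (j + 2) - 1) :=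
    not_dvd_prod hp _ _ (fun j _ => not_dvd_sub_one hp (by omega) hpq (by omega))
  have hM : ∏ j ∈ range k, (q ^ (j + 2) - 1) < q ^ (∑ j ∈ range k, (j + 2)) :=
    prod_sub_one_lt hq2 (range k) (nonempty_range_iff.mpr (by omega)) _ (fun j _ => by omega)
  subst hq
  obtain ⟨a, b, c'⟩ := core hp hd hdp hMp h' hM
  have e1 := two_mul_sum_add_two k
  have e2 := Finset.sum_range_id_mul_two (k + 1)
  simp only [Nat.add_sub_cancel] at e2
  refine ⟨a, b ?_, fun h3 => c' ?_⟩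
  · nlinarith
  · have : 2 ≤ k := by omega
    nlinarith

/-! ### PSU -/

/-- the `i`-th factor of the unitary order formula. -/
def tU (q i : ℕ) : ℕ := if Even i then q ^ (i + 1) + 1 else q ^ (i + 1) - 1

theorem psu_inv {q : ℕ} (hq : 2 ≤ q) (m : ℕ) :
    (Even m → (∏ j ∈ range m, tU q (j + 1) ≤ q ^ (∑ j ∈ range m, (j + 2))) ∧
        (1 ≤ m → ∏ j ∈ range m, tU q (j + 1) < q ^ (∑ j ∈ range m, (j + 2)))) ∧
      (¬ Even m → (∏ j ∈ range m, tU q (j + 1)) * (q ^ (m + 2) + 1) <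
        q ^ ((∑ j ∈ range m, (j + 2)) + (m + 2))) := by
  induction m with
  | zero => simp
  | succ m ih =>
    obtain ⟨ih1, ih2⟩ := ih
    rw [prod_range_succ, sum_range_succ]
    constructor
    · intro hev
      have hm : ¬ Even m := by
        intro h
        exact (Nat.even_add_one.mp hev) h
      have ht : tU q (m + 1) = q ^ (m + 2) + 1 := by
        unfold tU
        rw [if_pos hev]
      rw [ht]
      have := ih2 hm
      exact ⟨this.le, fun _ => this⟩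
    · intro hodd
      have hm : Even m := by
        by_contra h
        exact hodd (Nat.even_add_one.mpr h)
      have ht : tU q (m + 1) = q ^ (m + 2) - 1 := by
        unfold tU
        rw [if_neg hodd]
      rw [ht]
      have h1 := (ih1 hm).1
      have h2 : (q ^ (m + 2) - 1) * (q ^ (m + 3) + 1) < q ^ (m + 2 + (m + 3)) :=
        pair_lt hq (by omega)
      have hpos : 0 < q ^ (∑ j ∈ range m, (j + 2)) := pow_pos (by omega) _
      calc (∏ j ∈ range m, tU q (j + 1)) * (q ^ (m + 2) - 1) * (q ^ (m + 1 + 2) + 1)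
          = (∏ j ∈ range m, tU q (j + 1)) * ((q ^ (m + 2) - 1) * (q ^ (m + 3) + 1)) := by ring
        _ ≤ q ^ (∑ j ∈ range m, (j + 2)) * ((q ^ (m + 2) - 1) * (q ^ (m + 3) + 1)) :=
            Nat.mul_le_mul_right _ h1
        _ < q ^ (∑ j ∈ range m, (j + 2)) * q ^ (m + 2 + (m + 3)) :=
            Nat.mul_lt_mul_of_pos_left h2 hpos
        _ = q ^ ((∑ j ∈ range m, (j + 2)) + (m + 2) + (m + 1 + 2)) := by
            rw [← pow_add]
            congr 1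
            ring

theorem psu_lt {q : ℕ} (hq : 2 ≤ q) {m : ℕ} (hm : 1 ≤ m) :
    ∏ j ∈ range m, tU q (j + 1) < q ^ (∑ j ∈ range m, (j + 2)) := by
  obtain ⟨h1, h2⟩ := psu_inv hq m
  by_cases hev : Even m
  · exact (h1 hev).2 hm
  · have h := h2 hev
    rw [pow_add q (∑ j ∈ range m, (j + 2)) (m + 2)] at h
    have hpos : 0 < q ^ (m + 2) := pow_pos (by omega) _
    have h3 : (∏ j ∈ range m, tU q (j + 1)) * q ^ (m + 2) <
        q ^ (∑ j ∈ range m, (j + 2)) * q ^ (m + 2) :=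
      lt_of_le_of_lt (Nat.mul_le_mul_left _ (Nat.le_succ _)) h
    exact Nat.lt_of_mul_lt_mul_right h3

theorem tU_not_dvd {p q : ℕ} (hp : p.Prime) (hq0 : 0 < q) (hpq : p ∣ q) (i : ℕ) : ¬ p ∣ tU q i := by
  unfold tU
  split_ifs
  · exact not_dvd_add_one hp hpq (by omega)
  · exact not_dvd_sub_one hp hq0 hpq (by omega)

theorem fam_psu {p f q n c : ℕ} (hp : p.Prime) (hf : 1 ≤ f) (hq : q = p ^ f) (hn : 3 ≤ n)
    (h : Nat.gcd n (q + 1) * ((q + 1) * c) = q ^ (n * (n - 1) / 2) *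
      ∏ i ∈ range n, (if Even i then q ^ (i + 1) + 1 else q ^ (i + 1) - 1)) :
    P1 p c ∧ P2 p c := by
  have hq2 := two_le_q hp hf hq
  have hpq := p_dvd_q hf hq
  obtain ⟨k, rfl⟩ : ∃ k, n = k + 1 := ⟨n - 1, by omega⟩
  have hprod : ∏ i ∈ range (k + 1), (if Even i then q ^ (i + 1) + 1 else q ^ (i + 1) - 1) =
      (∏ j ∈ range k, tU q (j + 1)) * (q + 1) := by
    rw [prod_range_succ']
    simp [tU]
  rw [hprod] at h
  have hq1 : 0 < q + 1 := by omega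
  have h' : Nat.gcd (k + 1) (q + 1) * c = q ^ ((k + 1) * (k + 1 - 1) / 2) * ∏ j ∈ range k, tU q (j + 1) := by
    apply Nat.eq_of_mul_eq_mul_right hq1
    calc Nat.gcd (k + 1) (q + 1) * c * (q + 1) = Nat.gcd (k + 1) (q + 1) * ((q + 1) * c) := by ring
      _ = _ := h
      _ = _ := by ring
  have hd : 1 ≤ Nat.gcd (k + 1) (q + 1) := Nat.gcd_pos_of_pos_right _ hq1
  have hdp : ¬ p ∣ Nat.gcd (k + 1) (q + 1) := by
    apply not_dvd_of_dvd_add_one hp hpq (le_refl 1)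
    rw [pow_one]
    exact Nat.gcd_dvd_right _ _
  have hMp : ¬ p ∣ ∏ j ∈ range k, tU q (j + 1) :=
    not_dvd_prod hp _ _ (fun j _ => tU_not_dvd hp (by omega) hpq _)
  have hM := psu_lt hq2 (m := k) (by omega)
  have e1 := two_mul_sum_add_two k
  have e2 := two_mul_choose (k + 1)
  simp only [Nat.add_sub_cancel] at e2 h'
  have hk : 2 ≤ k := by omega
  refine finish hp hq hd hdp hMp h' hM ?_ ?_
  · nlinarith
  · nlinarith

/-! ### symplectic shape (PSp, PΩ odd) -/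

theorem fam_sp {p f q m d c : ℕ} (hp : p.Prime) (hf : 1 ≤ f) (hq : q = p ^ f) (hm : 2 ≤ m)
    (hd : 1 ≤ d) (hdp : ¬ p ∣ d)
    (h : d * c = q ^ (m ^ 2) * ∏ i ∈ range m, (q ^ (2 * (i + 1)) - 1)) :
    P1 p c ∧ P2 p c := by
  have hq2 := two_le_q hp hf hq
  have hpq := p_dvd_q hf hq
  have hMp : ¬ p ∣ ∏ i ∈ range m, (q ^ (2 * (i + 1)) - 1) :=
    not_dvd_prod hp _ _ (fun j _ => not_dvd_sub_one hp (by omega) hpq (by omega))
  have hM : ∏ i ∈ range m, (q ^ (2 * (i + 1)) - 1) < q ^ (m * (m + 1)) := by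
    rw [← sum_two_mul_succ]
    exact prod_sub_one_lt hq2 (range m) (nonempty_range_iff.mpr (by omega)) _ (fun j _ => by omega)
  refine finish hp hq hd hdp hMp h hM ?_ ?_
  · nlinarith
  · nlinarith

/-! ### orthogonal plus / minus -/

theorem fam_plus {p f q m c : ℕ} (hp : p.Prime) (hf : 1 ≤ f) (hq : q = p ^ f) (hm : 3 ≤ m)
    (h : Nat.gcd 4 (q ^ m - 1) * c = q ^ (m * (m - 1)) * (q ^ m - 1) *
      ∏ i ∈ range (m - 1), (q ^ (2 * (i + 1)) - 1)) :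
    P1 p c ∧ P2 p c := by
  have hq2 := two_le_q hp hf hq
  have hpq := p_dvd_q hf hq
  obtain ⟨k, rfl⟩ : ∃ k, m = k + 1 := ⟨m - 1, by omega⟩
  simp only [Nat.add_sub_cancel] at h
  have hd : 1 ≤ Nat.gcd 4 (q ^ (k + 1) - 1) := Nat.gcd_pos_of_pos_left _ (by norm_num)
  have hdp : ¬ p ∣ Nat.gcd 4 (q ^ (k + 1) - 1) :=
    not_dvd_of_dvd_sub_one hp (by omega) hpq (by omega) (Nat.gcd_dvd_right _ _)
  have hMp : ¬ p ∣ (q ^ (k + 1) - 1) * ∏ i ∈ range k, (q ^ (2 * (i + 1)) - 1) :=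
    hp.not_dvd_mul (not_dvd_sub_one hp (by omega) hpq (by omega))
      (not_dvd_prod hp _ _ (fun j _ => not_dvd_sub_one hp (by omega) hpq (by omega)))
  have hM : (q ^ (k + 1) - 1) * ∏ i ∈ range k, (q ^ (2 * (i + 1)) - 1) < q ^ ((k + 1) + k * (k + 1)) := by
    rw [pow_add q (k + 1) (k * (k + 1)), ← sum_two_mul_succ]
    exact Nat.mul_lt_mul_of_lt_of_le (sub_one_lt hq2 _) (prod_sub_one_le hq2 _ _) (pow_pos (by omega) _)
  rw [mul_assoc] at h
  have hk : 2 ≤ k := by omega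
  refine finish hp hq hd hdp hMp h hM ?_ ?_
  · nlinarith
  · nlinarith

theorem fam_minus {p f q m c : ℕ} (hp : p.Prime) (hf : 1 ≤ f) (hq : q = p ^ f) (hm : 4 ≤ m)
    (h : Nat.gcd 4 (q ^ m + 1) * c = q ^ (m * (m - 1)) * (q ^ m + 1) *
      ∏ i ∈ range (m - 1), (q ^ (2 * (i + 1)) - 1)) :
    P1 p c ∧ P2 p c := by
  have hq2 := two_le_q hp hf hq
  have hpq := p_dvd_q hf hq
  obtain ⟨k, rfl⟩ : ∃ k, m = k + 1 := ⟨m - 1, by omega⟩
  simp only [Nat.add_sub_cancel] at h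
  have hd : 1 ≤ Nat.gcd 4 (q ^ (k + 1) + 1) := Nat.gcd_pos_of_pos_left _ (by norm_num)
  have hdp : ¬ p ∣ Nat.gcd 4 (q ^ (k + 1) + 1) :=
    not_dvd_of_dvd_add_one hp hpq (by omega) (Nat.gcd_dvd_right _ _)
  have hMp : ¬ p ∣ (q ^ (k + 1) + 1) * ∏ i ∈ range k, (q ^ (2 * (i + 1)) - 1) :=
    hp.not_dvd_mul (not_dvd_add_one hp hpq (by omega))
      (not_dvd_prod hp _ _ (fun j _ => not_dvd_sub_one hp (by omega) hpq (by omega)))
  have hM : (q ^ (k + 1) + 1) * ∏ i ∈ range k, (q ^ (2 * (i + 1)) - 1) < q ^ ((k + 2) + k * (k + 1)) := by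
    rw [pow_add q (k + 2) (k * (k + 1)), ← sum_two_mul_succ]
    have hk0 : k ≠ 0 := by omega
    exact Nat.mul_lt_mul_of_le_of_lt (add_one_le hq2 _)
      (prod_sub_one_lt hq2 (range k) (nonempty_range_iff.mpr hk0) _ (fun j _ => by omega)) (pow_pos (by omega) _)
  rw [mul_assoc] at h
  have hk : 3 ≤ k := by omega
  refine finish hp hq hd hdp hMp h hM ?_ ?_
  · nlinarith
  · nlinarith

/-! ### explicit cofactors (exceptional and twisted types) -/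

theorem mul_lt_pow {q a b x y : ℕ} (h1 : x < q ^ a) (h2 : y < q ^ b) : x * y < q ^ (a + b) := by
  rw [pow_add]
  exact Nat.mul_lt_mul'' h1 h2

theorem add_one_lt {q : ℕ} (hq : 2 ≤ q) {i : ℕ} (hi : 1 ≤ i) : q ^ i + 1 < q ^ (i + 1) := by
  have h1 : q ^ 1 ≤ q ^ i := Nat.pow_le_pow_right (by omega) hi
  rw [pow_one] at h1
  rw [pow_succ]
  nlinarith

section explicit
variable {p f q c : ℕ}

theorem fam_g2 (hp : p.Prime) (hf : 1 ≤ f) (hq : q = p ^ f)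
    (h : c = q ^ 6 * (q ^ 2 - 1) * (q ^ 6 - 1)) : P1 p c ∧ P2 p c := by
  have hq2 := two_le_q hp hf hq
  have hpq := p_dvd_q hf hq
  have nd : ∀ i, 1 ≤ i → ¬ p ∣ q ^ i - 1 := fun i hi => not_dvd_sub_one hp (by omega) hpq hi
  have hM := mul_lt_pow (sub_one_lt hq2 2) (sub_one_lt hq2 6)
  have hMp := hp.not_dvd_mul (nd 2 (by norm_num)) (nd 6 (by norm_num))
  refine finish (d := 1) (N := 6) hp hq (le_refl 1) (by simpa using hp.one_lt.ne') hMp ?_ hM (by norm_num) (by norm_num)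
  rw [h]; ring

theorem fam_f4 (hp : p.Prime) (hf : 1 ≤ f) (hq : q = p ^ f)
    (h : c = q ^ 24 * (q ^ 2 - 1) * (q ^ 6 - 1) * (q ^ 8 - 1) * (q ^ 12 - 1)) : P1 p c ∧ P2 p c := by
  have hq2 := two_le_q hp hf hq
  have hpq := p_dvd_q hf hq
  have nd : ∀ i, 1 ≤ i → ¬ p ∣ q ^ i - 1 := fun i hi => not_dvd_sub_one hp (by omega) hpq hi
  have hM := mul_lt_pow (mul_lt_pow (mul_lt_pow (sub_one_lt hq2 2) (sub_one_lt hq2 6)) (sub_one_lt hq2 8))
    (sub_one_lt hq2 12)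
  have hMp := hp.not_dvd_mul (hp.not_dvd_mul (hp.not_dvd_mul (nd 2 (by norm_num)) (nd 6 (by norm_num)))
    (nd 8 (by norm_num))) (nd 12 (by norm_num))
  refine finish (d := 1) (N := 24) hp hq (le_refl 1) (by simpa using hp.one_lt.ne') hMp ?_ hM (by norm_num) (by norm_num)
  rw [h]; ring

theorem fam_e6 (hp : p.Prime) (hf : 1 ≤ f) (hq : q = p ^ f)
    (h : Nat.gcd 3 (q - 1) * c =
      q ^ 36 * (q ^ 2 - 1) * (q ^ 5 - 1) * (q ^ 6 - 1) * (q ^ 8 - 1) * (q ^ 9 - 1) * (q ^ 12 - 1)) :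
    P1 p c ∧ P2 p c := by
  have hq2 := two_le_q hp hf hq
  have hpq := p_dvd_q hf hq
  have nd : ∀ i, 1 ≤ i → ¬ p ∣ q ^ i - 1 := fun i hi => not_dvd_sub_one hp (by omega) hpq hi
  have hM := mul_lt_pow (mul_lt_pow (mul_lt_pow (mul_lt_pow (mul_lt_pow (sub_one_lt hq2 2) (sub_one_lt hq2 5))
    (sub_one_lt hq2 6)) (sub_one_lt hq2 8)) (sub_one_lt hq2 9)) (sub_one_lt hq2 12)
  have hMp := hp.not_dvd_mul (hp.not_dvd_mul (hp.not_dvd_mul (hp.not_dvd_mul (hp.not_dvd_mul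
    (nd 2 (by norm_num)) (nd 5 (by norm_num))) (nd 6 (by norm_num))) (nd 8 (by norm_num)))
    (nd 9 (by norm_num))) (nd 12 (by norm_num))
  have hd : 1 ≤ Nat.gcd 3 (q - 1) := Nat.gcd_pos_of_pos_left _ (by norm_num)
  have hdp : ¬ p ∣ Nat.gcd 3 (q - 1) := by
    apply not_dvd_of_dvd_sub_one hp (by omega) hpq (le_refl 1)
    rw [pow_one]
    exact Nat.gcd_dvd_right _ _
  refine finish (N := 36) hp hq hd hdp hMp ?_ hM (by norm_num) (by norm_num)
  rw [h]; ring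

theorem fam_e7 (hp : p.Prime) (hf : 1 ≤ f) (hq : q = p ^ f)
    (h : Nat.gcd 2 (q - 1) * c = q ^ 63 * (q ^ 2 - 1) * (q ^ 6 - 1) * (q ^ 8 - 1) * (q ^ 10 - 1) *
      (q ^ 12 - 1) * (q ^ 14 - 1) * (q ^ 18 - 1)) :
    P1 p c ∧ P2 p c := by
  have hq2 := two_le_q hp hf hq
  have hpq := p_dvd_q hf hq
  have nd : ∀ i, 1 ≤ i → ¬ p ∣ q ^ i - 1 := fun i hi => not_dvd_sub_one hp (by omega) hpq hi
  have hM := mul_lt_pow (mul_lt_pow (mul_lt_pow (mul_lt_pow (mul_lt_pow (mul_lt_pow (sub_one_lt hq2 2)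
    (sub_one_lt hq2 6)) (sub_one_lt hq2 8)) (sub_one_lt hq2 10)) (sub_one_lt hq2 12)) (sub_one_lt hq2 14))
    (sub_one_lt hq2 18)
  have hMp := hp.not_dvd_mul (hp.not_dvd_mul (hp.not_dvd_mul (hp.not_dvd_mul (hp.not_dvd_mul (hp.not_dvd_mul
    (nd 2 (by norm_num)) (nd 6 (by norm_num))) (nd 8 (by norm_num))) (nd 10 (by norm_num)))
    (nd 12 (by norm_num))) (nd 14 (by norm_num))) (nd 18 (by norm_num))
  have hd : 1 ≤ Nat.gcd 2 (q - 1) := Nat.gcd_pos_of_pos_left _ (by norm_num)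
  have hdp : ¬ p ∣ Nat.gcd 2 (q - 1) := by
    apply not_dvd_of_dvd_sub_one hp (by omega) hpq (le_refl 1)
    rw [pow_one]
    exact Nat.gcd_dvd_right _ _
  refine finish (N := 63) hp hq hd hdp hMp ?_ hM (by norm_num) (by norm_num)
  rw [h]; ring

theorem fam_e8 (hp : p.Prime) (hf : 1 ≤ f) (hq : q = p ^ f)
    (h : c = q ^ 120 * (q ^ 2 - 1) * (q ^ 8 - 1) * (q ^ 12 - 1) * (q ^ 14 - 1) * (q ^ 18 - 1) *
      (q ^ 20 - 1) * (q ^ 24 - 1) * (q ^ 30 - 1)) : P1 p c ∧ P2 p c := by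
  have hq2 := two_le_q hp hf hq
  have hpq := p_dvd_q hf hq
  have nd : ∀ i, 1 ≤ i → ¬ p ∣ q ^ i - 1 := fun i hi => not_dvd_sub_one hp (by omega) hpq hi
  have hM := mul_lt_pow (mul_lt_pow (mul_lt_pow (mul_lt_pow (mul_lt_pow (mul_lt_pow (mul_lt_pow
    (sub_one_lt hq2 2) (sub_one_lt hq2 8)) (sub_one_lt hq2 12)) (sub_one_lt hq2 14)) (sub_one_lt hq2 18))
    (sub_one_lt hq2 20)) (sub_one_lt hq2 24)) (sub_one_lt hq2 30)
  have hMp := hp.not_dvd_mul (hp.not_dvd_mul (hp.not_dvd_mul (hp.not_dvd_mul (hp.not_dvd_mul (hp.not_dvd_mul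
    (hp.not_dvd_mul (nd 2 (by norm_num)) (nd 8 (by norm_num))) (nd 12 (by norm_num))) (nd 14 (by norm_num)))
    (nd 18 (by norm_num))) (nd 20 (by norm_num))) (nd 24 (by norm_num))) (nd 30 (by norm_num))
  refine finish (d := 1) (N := 120) hp hq (le_refl 1) (by simpa using hp.one_lt.ne') hMp ?_ hM (by norm_num) (by norm_num)
  rw [h]; ring

theorem fam_2e6 (hp : p.Prime) (hf : 1 ≤ f) (hq : q = p ^ f)
    (h : Nat.gcd 3 (q + 1) * c =
      q ^ 36 * (q ^ 2 - 1) * (q ^ 5 + 1) * (q ^ 6 - 1) * (q ^ 8 - 1) * (q ^ 9 + 1) * (q ^ 12 - 1)) :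
    P1 p c ∧ P2 p c := by
  have hq2 := two_le_q hp hf hq
  have hpq := p_dvd_q hf hq
  have nd : ∀ i, 1 ≤ i → ¬ p ∣ q ^ i - 1 := fun i hi => not_dvd_sub_one hp (by omega) hpq hi
  have nd' : ∀ i, 1 ≤ i → ¬ p ∣ q ^ i + 1 := fun i hi => not_dvd_add_one hp hpq hi
  have hM := mul_lt_pow (mul_lt_pow (mul_lt_pow (mul_lt_pow (mul_lt_pow (sub_one_lt hq2 2)
    (add_one_lt hq2 (i := 5) (by norm_num)))
    (sub_one_lt hq2 6)) (sub_one_lt hq2 8)) (add_one_lt hq2 (i := 9) (by norm_num))) (sub_one_lt hq2 12)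
  have hMp := hp.not_dvd_mul (hp.not_dvd_mul (hp.not_dvd_mul (hp.not_dvd_mul (hp.not_dvd_mul
    (nd 2 (by norm_num)) (nd' 5 (by norm_num))) (nd 6 (by norm_num))) (nd 8 (by norm_num)))
    (nd' 9 (by norm_num))) (nd 12 (by norm_num))
  have hd : 1 ≤ Nat.gcd 3 (q + 1) := Nat.gcd_pos_of_pos_left _ (by norm_num)
  have hdp : ¬ p ∣ Nat.gcd 3 (q + 1) := by
    apply not_dvd_of_dvd_add_one hp hpq (le_refl 1)
    rw [pow_one]
    exact Nat.gcd_dvd_right _ _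
  refine finish (N := 36) hp hq hd hdp hMp ?_ hM (by norm_num) (by norm_num)
  rw [h]; ring

theorem fam_3d4 (hp : p.Prime) (hf : 1 ≤ f) (hq : q = p ^ f)
    (h : c = q ^ 12 * (q ^ 2 - 1) * (q ^ 6 - 1) * (q ^ 8 + q ^ 4 + 1)) : P1 p c ∧ P2 p c := by
  have hq2 := two_le_q hp hf hq
  have hpq := p_dvd_q hf hq
  have nd : ∀ i, 1 ≤ i → ¬ p ∣ q ^ i - 1 := fun i hi => not_dvd_sub_one hp (by omega) hpq hi
  have h9 : q ^ 8 + q ^ 4 + 1 < q ^ 9 := by
    have h4 : 16 ≤ q ^ 4 := by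
      calc 16 = 2 ^ 4 := by norm_num
        _ ≤ q ^ 4 := Nat.pow_le_pow_left hq2 4
    have e8 : q ^ 8 = q ^ 4 * q ^ 4 := by ring
    have e9 : q ^ 9 = q * (q ^ 4 * q ^ 4) := by ring
    rw [e8, e9]
    nlinarith
  have hnd9 : ¬ p ∣ q ^ 8 + q ^ 4 + 1 := by
    intro hd
    have h1 : p ∣ q ^ 8 + q ^ 4 := dvd_add (dvd_pow hpq (by norm_num)) (dvd_pow hpq (by norm_num))
    have h2 : p ∣ 1 := (Nat.dvd_add_right h1).mp hd
    exact hp.one_lt.ne' (Nat.dvd_one.mp h2)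
  have hM := mul_lt_pow (mul_lt_pow (sub_one_lt hq2 2) (sub_one_lt hq2 6)) h9
  have hMp := hp.not_dvd_mul (hp.not_dvd_mul (nd 2 (by norm_num)) (nd 6 (by norm_num))) hnd9
  refine finish (d := 1) (N := 12) hp hq (le_refl 1) (by simpa using hp.one_lt.ne') hMp ?_ hM (by norm_num) (by norm_num)
  rw [h]; ring

theorem fam_sz (hp : p.Prime) (hf : 1 ≤ f) (hq : q = p ^ f)
    (h : c = q ^ 2 * (q - 1) * (q ^ 2 + 1)) : P1 p c ∧ P2 p c := by
  have hq2 := two_le_q hp hf hq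
  have hpq := p_dvd_q hf hq
  have hM : (q - 1) * (q ^ 2 + 1) < q ^ (1 + 2) := by
    have := pair_lt hq2 (a := 1) (b := 2) (by norm_num)
    simpa using this
  have hnd1 : ¬ p ∣ q - 1 := by
    have := not_dvd_sub_one hp (by omega) hpq (le_refl 1)
    simpa using this
  have hMp := hp.not_dvd_mul hnd1 (not_dvd_add_one hp hpq (i := 2) (by norm_num))
  refine finish (d := 1) (N := 2) hp hq (le_refl 1) (by simpa using hp.one_lt.ne') hMp ?_ hM (by norm_num) (by norm_num)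
  rw [h]; ring

theorem fam_2f4 (hp : p.Prime) (hf : 1 ≤ f) (hq : q = p ^ f)
    (h : c = q ^ 12 * (q - 1) * (q ^ 3 + 1) * (q ^ 4 - 1) * (q ^ 6 + 1)) : P1 p c ∧ P2 p c := by
  have hq2 := two_le_q hp hf hq
  have hpq := p_dvd_q hf hq
  have hlt1 : q - 1 < q ^ 1 := by rw [pow_one]; omega
  have hM := mul_lt_pow (mul_lt_pow (mul_lt_pow hlt1 (add_one_lt hq2 (i := 3) (by norm_num)))
    (sub_one_lt hq2 4)) (add_one_lt hq2 (i := 6) (by norm_num))
  have hnd1 : ¬ p ∣ q - 1 := by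
    have := not_dvd_sub_one hp (by omega) hpq (le_refl 1)
    simpa using this
  have hMp := hp.not_dvd_mul (hp.not_dvd_mul (hp.not_dvd_mul hnd1
    (not_dvd_add_one hp hpq (i := 3) (by norm_num)))
    (not_dvd_sub_one hp (by omega) hpq (i := 4) (by norm_num)))
    (not_dvd_add_one hp hpq (i := 6) (by norm_num))
  refine finish (d := 1) (N := 12) hp hq (le_refl 1) (by simpa using hp.one_lt.ne') hMp ?_ hM (by norm_num) (by norm_num)
  rw [h]; ring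

theorem fam_2g2 (hp : p.Prime) (hf : 1 ≤ f) (hq : q = p ^ f)
    (h : c = q ^ 3 * (q - 1) * (q ^ 3 + 1)) : P1 p c ∧ P2 p c := by
  have hq2 := two_le_q hp hf hq
  have hpq := p_dvd_q hf hq
  have hlt1 : q - 1 < q ^ 1 := by rw [pow_one]; omega
  have hM := mul_lt_pow hlt1 (add_one_lt hq2 (i := 3) (by norm_num))
  have hnd1 : ¬ p ∣ q - 1 := by
    have := not_dvd_sub_one hp (by omega) hpq (le_refl 1)
    simpa using this
  have hMp := hp.not_dvd_mul hnd1 (not_dvd_add_one hp hpq (i := 3) (by norm_num))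
  refine finish (d := 1) (N := 3) hp hq (le_refl 1) (by simpa using hp.one_lt.ne') hMp ?_ hM (by norm_num) (by norm_num)
  rw [h]; ring

end explicit

end Cfsg.Agent.Lib.Helper46_OrderBound
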