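import Mathlib

/-!
# Helper46_PSL2Thirteen

Element orders of `PSL₂(ZMod 13)`: every element has order dividing `6`, `7` or `13`, and there is
an element of order `6`.  The proof uses the Lucas sequence `U_n(t)`: for a `2 × 2` matrix `M` of
determinant one and trace `t`, `M ^ (n + 1) = U_{n+1}(t) M - U_n(t)`.
-/

set_option autoImplicit false

namespace Cfsg.Agent.Lib.Helper46_PSL2Thirteen

open Matrix

section Lucas

variable {R : Type*} [CommRing R]

/-- The pair `(U_n(t), U_{n+1}(t))`. -/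
def lucasPair (t : R) : ℕ → R × R
  | 0 => (0, 1)
  | n + 1 => ((lucasPair t n).2, t * (lucasPair t n).2 - (lucasPair t n).1)

/-- The Lucas sequence `U_n(t)`. -/
def lucasU (t : R) (n : ℕ) : R := (lucasPair t n).1

theorem lucasU_zero (t : R) : lucasU t 0 = 0 := rfl

theorem lucasU_one (t : R) : lucasU t 1 = 1 := rfl

theorem lucasU_succ_succ (t : R) (n : ℕ) :
    lucasU t (n + 2) = t * lucasU t (n + 1) - lucasU t n := rfl

theorem pow_succ_eq (M : Matrix (Fin 2) (Fin 2) R) (t : R) (h : M * M = t • M - 1) (n : ℕ) :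
    M ^ (n + 1) = lucasU t (n + 1) • M - lucasU t n • (1 : Matrix (Fin 2) (Fin 2) R) := by
  induction n with
  | zero => simp [lucasU_one, lucasU_zero]
  | succ n ih =>
    rw [pow_succ, ih, lucasU_succ_succ, sub_mul, smul_mul_assoc, smul_mul_assoc, one_mul, h]
    module

theorem sl2_sq (A : Matrix.SpecialLinearGroup (Fin 2) R) :
    A.1 * A.1 = (A.1 0 0 + A.1 1 1) • A.1 - 1 := by
  have hdet : A.1 0 0 * A.1 1 1 - A.1 0 1 * A.1 1 0 = 1 := by
    rw [← Matrix.det_fin_two]; exact A.2
  ext i j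
  fin_cases i <;> fin_cases j
  · simp [Matrix.mul_apply, Fin.sum_univ_two]; linear_combination (-1 : R) * hdet
  · simp [Matrix.mul_apply, Fin.sum_univ_two]; ring
  · simp [Matrix.mul_apply, Fin.sum_univ_two]; ring
  · simp [Matrix.mul_apply, Fin.sum_univ_two]; linear_combination (-1 : R) * hdet

theorem pow_mem_center (A : Matrix.SpecialLinearGroup (Fin 2) R) (n : ℕ)
    (h : lucasU (A.1 0 0 + A.1 1 1) (n + 1) = 0) :
    A ^ (n + 1) ∈ Subgroup.center (Matrix.SpecialLinearGroup (Fin 2) R) := by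
  have h1 := pow_succ_eq A.1 _ (sl2_sq A) n
  rw [h, zero_smul, zero_sub] at h1
  rw [Subgroup.mem_center_iff]
  intro B
  apply Subtype.ext
  rw [Matrix.SpecialLinearGroup.coe_mul, Matrix.SpecialLinearGroup.coe_mul, Matrix.SpecialLinearGroup.coe_pow, h1]
  simp

end Lucas

set_option maxRecDepth 100000 in
theorem lucas13 : ∀ t : ZMod 13, lucasU t 6 = 0 ∨ lucasU t 7 = 0 ∨ lucasU t 13 = 0 := by
  decide +kernel

abbrev PSL13 := Matrix.ProjectiveSpecialLinearGroup (Fin 2) (ZMod 13)

theorem orderOf_dvd (y : PSL13) : orderOf y ∣ 6 ∨ orderOf y ∣ 7 ∨ orderOf y ∣ 13 := by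
  induction y using QuotientGroup.induction_on with
  | H A =>
    rcases lucas13 (A.1 0 0 + A.1 1 1) with h | h | h
    · left
      apply orderOf_dvd_of_pow_eq_one
      rw [← QuotientGroup.mk_pow, QuotientGroup.eq_one_iff]
      exact pow_mem_center A 5 h
    · right; left
      apply orderOf_dvd_of_pow_eq_one
      rw [← QuotientGroup.mk_pow, QuotientGroup.eq_one_iff]
      exact pow_mem_center A 6 h
    · right; right
      apply orderOf_dvd_of_pow_eq_one
      rw [← QuotientGroup.mk_pow, QuotientGroup.eq_one_iff]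
      exact pow_mem_center A 12 h

/-- The diagonal matrix `diag(2, 7)`. -/
def A0 : Matrix.SpecialLinearGroup (Fin 2) (ZMod 13) :=
  ⟨!![2, 0; 0, 7], by rw [Matrix.det_fin_two_of]; decide⟩

/-- An upper unitriangular matrix. -/
def B0 : Matrix.SpecialLinearGroup (Fin 2) (ZMod 13) :=
  ⟨!![1, 1; 0, 1], by rw [Matrix.det_fin_two_of]; decide⟩

theorem A0_pow (k : ℕ) : (A0 ^ k).1 = !![(2 : ZMod 13) ^ k, 0; 0, (7 : ZMod 13) ^ k] := by
  induction k with
  | zero =>
    rw [pow_zero]
    ext i j; fin_cases i <;> fin_cases j <;> simp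
  | succ k ih =>
    rw [pow_succ, Matrix.SpecialLinearGroup.coe_mul, ih]
    ext i j
    fin_cases i <;> fin_cases j <;> simp [A0, Matrix.mul_apply, Fin.sum_univ_two, pow_succ]

theorem A0_pow_not_mem (k : ℕ) (hk : (2 : ZMod 13) ^ k ≠ (7 : ZMod 13) ^ k) :
    A0 ^ k ∉ Subgroup.center (Matrix.SpecialLinearGroup (Fin 2) (ZMod 13)) := by
  intro h
  rw [Subgroup.mem_center_iff] at h
  have h0 : B0 * A0 ^ k = A0 ^ k * B0 := h B0
  have h1 : (B0 : Matrix (Fin 2) (Fin 2) (ZMod 13)) *
      ((A0 ^ k : Matrix.SpecialLinearGroup (Fin 2) (ZMod 13)) : Matrix (Fin 2) (Fin 2) (ZMod 13)) =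
      ((A0 ^ k : Matrix.SpecialLinearGroup (Fin 2) (ZMod 13)) : Matrix (Fin 2) (Fin 2) (ZMod 13)) *
      (B0 : Matrix (Fin 2) (Fin 2) (ZMod 13)) := by
    rw [← Matrix.SpecialLinearGroup.coe_mul, ← Matrix.SpecialLinearGroup.coe_mul, h0]
  rw [A0_pow] at h1
  have h2 := congrFun (congrFun h1 0) 1
  simp [B0, Matrix.mul_apply, Fin.sum_univ_two] at h2
  exact hk h2.symm

theorem exists_orderOf_six : ∃ y : PSL13, orderOf y = 6 := by
  refine ⟨QuotientGroup.mk A0, ?_⟩
  apply orderOf_eq_of_pow_and_pow_div_prime (by norm_num)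
  · rw [← QuotientGroup.mk_pow, QuotientGroup.eq_one_iff]
    apply pow_mem_center A0 5
    simp only [A0]
    decide +kernel
  · intro p hp hp6
    have hp' : p = 2 ∨ p = 3 := by
      have : p ∣ 2 * 3 := hp6
      rcases (Nat.Prime.dvd_mul hp).1 this with h | h
      · left; exact (Nat.prime_dvd_prime_iff_eq hp Nat.prime_two).1 h
      · right; exact (Nat.prime_dvd_prime_iff_eq hp Nat.prime_three).1 h
    rcases hp' with rfl | rfl
    · rw [← QuotientGroup.mk_pow, Ne, QuotientGroup.eq_one_iff]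
      exact A0_pow_not_mem _ (by decide)
    · rw [← QuotientGroup.mk_pow, Ne, QuotientGroup.eq_one_iff]
      exact A0_pow_not_mem _ (by decide)

/-- Products of two distinct primes among the element orders of `PSL₂(13)`. -/
theorem orderOf_eq_mul_iff {r s : ℕ} (hr : r.Prime) (hs : s.Prime) (hrs : r ≠ s) :
    (∃ y : PSL13, orderOf y = r * s) ↔ (r = 2 ∧ s = 3) ∨ (r = 3 ∧ s = 2) := by
  constructor
  · rintro ⟨y, hy⟩
    have key : ∀ q : ℕ, q.Prime → r * s ∣ q → False := by
      intro q hq hd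
      have h1 : r = q := (Nat.prime_dvd_prime_iff_eq hr hq).1 (dvd_trans (dvd_mul_right r s) hd)
      have h2 : s = q := (Nat.prime_dvd_prime_iff_eq hs hq).1 (dvd_trans (dvd_mul_left s r) hd)
      exact hrs (h1.trans h2.symm)
    rcases orderOf_dvd y with h | h | h
    · rw [hy] at h
      have h1 : r ∣ 2 * 3 := dvd_trans (dvd_mul_right r s) h
      have h2 : s ∣ 2 * 3 := dvd_trans (dvd_mul_left s r) h
      have h1' : r = 2 ∨ r = 3 := by
        rcases (Nat.Prime.dvd_mul hr).1 h1 with h | h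
        · left; exact (Nat.prime_dvd_prime_iff_eq hr Nat.prime_two).1 h
        · right; exact (Nat.prime_dvd_prime_iff_eq hr Nat.prime_three).1 h
      have h2' : s = 2 ∨ s = 3 := by
        rcases (Nat.Prime.dvd_mul hs).1 h2 with h | h
        · left; exact (Nat.prime_dvd_prime_iff_eq hs Nat.prime_two).1 h
        · right; exact (Nat.prime_dvd_prime_iff_eq hs Nat.prime_three).1 h
      rcases h1' with rfl | rfl <;> rcases h2' with rfl | rfl
      · exact absurd rfl hrs
      · left; exact ⟨rfl, rfl⟩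
      · right; exact ⟨rfl, rfl⟩
      · exact absurd rfl hrs
    · rw [hy] at h
      exact (key 7 (by norm_num) h).elim
    · rw [hy] at h
      exact (key 13 (by norm_num) h).elim
  · rintro (⟨rfl, rfl⟩ | ⟨rfl, rfl⟩)
    · exact exists_orderOf_six
    · exact exists_orderOf_six

end Cfsg.Agent.Lib.Helper46_PSL2Thirteen
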