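import Cfsg.Agent.Lib.Helper50_PUDefs

/-!
# S2768 market (architect helper50), package AGEMO

`z ∈ Z(S)`, `b ∈ T`: `w = ⁅z,b⁆` commutes with `z` (`V` abelian) and with `b` (`⁅V,T⁆ ≤ C(T)`), so
`⁅z^p,b⁆ = w^p = ⁅z,b^p⁆ = 1` as `b^p ∈ Q ≤ C(V)`; hence `z^p ∈ C_V(S) ∩ C_V(T) = V ∩ Z(G)`.
-/

set_option autoImplicit false

namespace Cfsg.Agent.Lib.Helper46_PU_AGEMO

open scoped commutatorElement
open Cfsg.Agent.Lib.Helper50_PUDefs Cfsg.Agent.Lib.Helper51_Offender Cfsg.Agent.Lib.Helper72_AbelianJ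

/-- if `w = z b z⁻¹ b⁻¹` commutes with `z` then `z^n b = w^n b z^n` -/
theorem pow_mul_of_comm {G : Type*} [Group G] {z b w : G} (hw : w = z * b * z⁻¹ * b⁻¹)
    (hwz : w * z = z * w) (n : ℕ) : z ^ n * b = w ^ n * b * z ^ n := by
  have h1 : z * b = w * b * z := by rw [hw]; group
  induction n with
  | zero => simp
  | succ n ih =>
    have hc : Commute z w := hwz.symm
    calc z ^ (n + 1) * b = z * (z ^ n * b) := by rw [pow_succ', mul_assoc]
      _ = z * (w ^ n * b * z ^ n) := by rw [ih]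
      _ = (z * w ^ n) * b * z ^ n := by simp only [mul_assoc]
      _ = (w ^ n * z) * b * z ^ n := by rw [(hc.pow_right n).eq]
      _ = w ^ n * (z * b) * z ^ n := by simp only [mul_assoc]
      _ = w ^ n * (w * b * z) * z ^ n := by rw [h1]
      _ = w ^ (n + 1) * b * z ^ (n + 1) := by rw [pow_succ, pow_succ']; simp only [mul_assoc]

/-- if `w = z b z⁻¹ b⁻¹` commutes with `b` then `z b^n = w^n b^n z` -/
theorem mul_pow_of_comm {G : Type*} [Group G] {z b w : G} (hw : w = z * b * z⁻¹ * b⁻¹)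
    (hwb : w * b = b * w) (n : ℕ) : z * b ^ n = w ^ n * b ^ n * z := by
  have h1 : z * b = w * b * z := by rw [hw]; group
  induction n with
  | zero => simp
  | succ n ih =>
    have hc : Commute b w := hwb.symm
    calc z * b ^ (n + 1) = (z * b ^ n) * b := by rw [pow_succ, mul_assoc]
      _ = w ^ n * b ^ n * z * b := by rw [ih]
      _ = w ^ n * b ^ n * (z * b) := by simp only [mul_assoc]
      _ = w ^ n * b ^ n * (w * b * z) := by rw [h1]
      _ = w ^ n * (b ^ n * w) * b * z := by simp only [mul_assoc]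
      _ = w ^ n * (w * b ^ n) * b * z := by rw [(hc.pow_left n).eq]
      _ = w ^ (n + 1) * b ^ (n + 1) * z := by rw [pow_succ, pow_succ]; simp only [mul_assoc]

section Main

variable {G : Type*} [Group G] [Finite G] {p : ℕ} [Fact p.Prime] {S : Sylow p G}

local notation "Q" => Cfsg.pCore p G
local notation "V" => VS (S : Subgroup G)
local notation "Z" => ZS (S : Subgroup G)

-- PKG AGEMO
theorem agemo (h : MainCase p S) (hvb : VBasic p S) (T : Sylow p G) (htr : Transp p S T)
    (hvx : VXFacts p S T) : ∀ z ∈ Z, z ^ p ∈ Subgroup.center G := by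
  intro z hz
  have hVn : (V : Subgroup G).Normal := Subgroup.normalClosure_normal
  have hzV : z ∈ V := Subgroup.subset_normalClosure hz
  have hzpZ : z ^ p ∈ Z := Subgroup.pow_mem _ hz p
  have hzpS : z ^ p ∈ CV V (S : Subgroup G) := by rw [hvb.cv]; exact hzpZ
  have hzpT : z ^ p ∈ CV V (T : Subgroup G) := by
    rw [mem_CV]
    refine ⟨Subgroup.pow_mem _ hzV p, fun b hb => ?_⟩
    obtain ⟨w, hw⟩ : ∃ w : G, w = z * b * z⁻¹ * b⁻¹ := ⟨_, rfl⟩
    have hwc : w = ⁅z, b⁆ := by rw [hw, commutatorElement_def]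
    have hwV : w ∈ V := by
      have h1 : b * z⁻¹ * b⁻¹ ∈ V := hVn.conj_mem z⁻¹ (inv_mem hzV) b
      have h2 : z * (b * z⁻¹ * b⁻¹) ∈ V := mul_mem hzV h1
      rw [hw]
      simpa only [mul_assoc] using h2
    have hwz : w * z = z * w := by
      have hcomm := hvb.comm
      exact congrArg Subtype.val (hcomm.is_comm.comm (⟨w, hwV⟩ : ↥V) ⟨z, hzV⟩)
    have hwb : w * b = b * w := by
      have h1 : w ∈ ⁅V, (T : Subgroup G)⁆ := by
        rw [hwc]
        exact Subgroup.commutator_mem_commutator hzV hb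
      have h2 := htr.quad h1
      rw [Subgroup.mem_centralizer_iff] at h2
      exact (h2 b hb).symm
    have hbp : b ^ p ∈ Q := htr.expo b hb
    have hbpz : z * b ^ p = b ^ p * z := by
      have h1 := hvb.cent hbp
      rw [Subgroup.mem_centralizer_iff] at h1
      exact h1 z hzV
    have hwp : w ^ p = 1 := by
      have h1 := mul_pow_of_comm hw hwb p
      rw [hbpz] at h1
      have h2 : w ^ p * (b ^ p * z) = 1 * (b ^ p * z) := by
        rw [one_mul, ← mul_assoc]
        exact h1.symm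
      exact mul_right_cancel h2
    have h3 := pow_mul_of_comm hw hwz p
    rw [hwp, one_mul] at h3
    exact h3.symm
  have hmem : z ^ p ∈ CV V (S : Subgroup G) ⊓ CV V (T : Subgroup G) := ⟨hzpS, hzpT⟩
  rw [hvx.inf] at hmem
  exact hmem.2

end Main

end Cfsg.Agent.Lib.Helper46_PU_AGEMO
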