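import Cfsg.Agent.Lib.Helper46_PairConj

set_option autoImplicit false

/-!
Orders of `SL₂ ∘ SL₂` and `(SL₂ ∘ SL₂).2` in the abstract setting of `Helper46_PairGroup`.
-/

namespace Cfsg.Agent.Lib.Helper46_PairCard

open Matrix Cfsg.Agent.Lib.Helper46_PairGroup Cfsg.Agent.Lib.Helper46_PairConj

variable {F : Type*} [Field F] {G : Type*} [Group G]

theorem toSL_mul_Dm (X : SL2 F) (δ : Fˣ) : toSL (X.1 * Dm (δ : F)) δ = X := by
  have hd : (X.1 * Dm (δ : F)).det = (δ : F) := by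
    rw [Matrix.det_mul, X.2, Dm_det, one_mul]
  apply Subtype.ext
  rw [toSL_coe hd, Matrix.mul_assoc, Dm_mul, units_mul_inv_val, Dm_one, Matrix.mul_one]

theorem det_mul_Dm (X : SL2 F) (δ : Fˣ) : (X.1 * Dm (δ : F)).det = (δ : F) := by
  rw [Matrix.det_mul, X.2, Dm_det, one_mul]

theorem central_of_comm (A : SL2 F) (h : ∀ X : SL2 F, A * X = X * A) : A = 1 ∨ A = -1 := by
  have h1 := congrArg (fun Y : SL2 F => (Y : M2 F)) (h PairData.uE)
  have h2 := congrArg (fun Y : SL2 F => (Y : M2 F)) (h PairData.lE)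
  simp only [Matrix.SpecialLinearGroup.coe_mul] at h1 h2
  have hs := scalar_of_comm A.1 h1 h2
  have hd := A.2
  rw [hs, smul_one_det] at hd
  have : (A.1 0 0 - 1) * (A.1 0 0 + 1) = 0 := by linear_combination hd
  rcases mul_eq_zero.mp this with h' | h'
  · left
    apply Subtype.ext
    rw [hs]
    have : A.1 0 0 = 1 := by linear_combination h'
    rw [this, one_smul]; rfl
  · right
    apply Subtype.ext
    rw [hs]
    have : A.1 0 0 = -1 := by linear_combination h'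
    rw [this, neg_smul, one_smul]; rfl

theorem neg_one_ne_one (h2 : (2 : F) ≠ 0) : (-1 : SL2 F) ≠ 1 := by
  intro h
  have := congrArg (fun Y : SL2 F => (Y : M2 F) 0 0) h
  simp at this
  apply h2
  linear_combination -this

end Cfsg.Agent.Lib.Helper46_PairCard

namespace Cfsg.Agent.Lib.Helper46_PairGroup.PairData

open Matrix Cfsg.Agent.Lib.Helper46_PairGroup Cfsg.Agent.Lib.Helper46_PairConj
  Cfsg.Agent.Lib.Helper46_PairCard

variable {F : Type*} [Field F] {G : Type*} [Group G]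

variable (P : PairData F G)

theorem Ψ_of (X Y : SL2 F) (δ : Fˣ) :
    P.φ1 X * P.φ2 Y * P.h0 δ = P.Ψ (X.1 * Dm (δ : F)) (Y.1 * Dm (δ : F)) δ := by
  unfold PairData.Ψ
  rw [toSL_mul_Dm, toSL_mul_Dm]

theorem Ψ_of_one (X Y : SL2 F) : P.φ1 X * P.φ2 Y = P.Ψ X.1 Y.1 1 := by
  have := P.Ψ_of X Y 1
  rw [map_one, mul_one, Units.val_one, Dm_one, Matrix.mul_one, Matrix.mul_one] at this
  exact this

theorem mem_K_iff' (g : G) : g ∈ P.K ↔ ∃ X Y : SL2 F, g = P.φ1 X * P.φ2 Y := by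
  constructor
  · rintro ⟨A, B, hA, hB, rfl⟩
    exact ⟨⟨A, hA⟩, ⟨B, hB⟩, (P.Ψ_of_one ⟨A, hA⟩ ⟨B, hB⟩).symm⟩
  · rintro ⟨X, Y, rfl⟩
    exact ⟨X.1, Y.1, X.2, Y.2, P.Ψ_of_one X Y⟩

theorem phi1_mem_K (X : SL2 F) : P.φ1 X ∈ P.K :=
  (P.mem_K_iff' _).mpr ⟨X, 1, by rw [map_one, mul_one]⟩

theorem phi2_mem_K (Y : SL2 F) : P.φ2 Y ∈ P.K :=
  (P.mem_K_iff' _).mpr ⟨1, Y, by rw [map_one, one_mul]⟩

theorem h0_eq (δ : Fˣ) : P.h0 δ = P.Ψ (Dm (δ : F)) (Dm (δ : F)) δ := by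
  have := P.Ψ_of 1 1 δ
  rw [map_one, map_one, one_mul, one_mul] at this
  simpa using this

theorem h0_mem_M (δ : Fˣ) : P.h0 δ ∈ P.M := by
  rw [P.h0_eq]
  exact P.mem_M (Dm_det _) (Dm_det _)

theorem mem_M_iff' (g : G) : g ∈ P.M ↔ ∃ (X Y : SL2 F) (δ : Fˣ), g = P.φ1 X * P.φ2 Y * P.h0 δ := by
  constructor
  · rintro ⟨A, B, δ, hA, hB, rfl⟩
    exact ⟨toSL A δ, toSL B δ, δ, rfl⟩
  · rintro ⟨X, Y, δ, rfl⟩
    rw [P.Ψ_of]
    exact P.mem_M (det_mul_Dm X δ) (det_mul_Dm Y δ)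

/-- the homomorphism `SL₂ × SL₂ → G` -/
def κ : SL2 F × SL2 F →* G := MonoidHom.noncommCoprod P.φ1 P.φ2 (fun A B => P.comm A B)

theorem κ_apply (p : SL2 F × SL2 F) : P.κ p = P.φ1 p.1 * P.φ2 p.2 := rfl

theorem κ_range : P.κ.range = P.K := by
  ext g
  rw [P.mem_K_iff', MonoidHom.mem_range]
  constructor
  · rintro ⟨⟨X, Y⟩, rfl⟩
    exact ⟨X, Y, rfl⟩
  · rintro ⟨X, Y, rfl⟩
    exact ⟨(X, Y), rfl⟩

theorem κ_ker (h2 : (2 : F) ≠ 0) (p : SL2 F × SL2 F) :
    p ∈ P.κ.ker ↔ p = 1 ∨ p = ((-1 : SL2 F), (-1 : SL2 F)) := by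
  rw [MonoidHom.mem_ker, κ_apply]
  constructor
  · intro h
    obtain ⟨A, B⟩ := p
    simp only at h
    have hA : P.φ1 A = (P.φ2 B)⁻¹ := eq_inv_of_mul_eq_one_left h
    have cA : ∀ X : SL2 F, A * X = X * A := by
      intro X
      apply P.inj1
      rw [map_mul, map_mul, hA, ← map_inv]
      exact (P.comm X B⁻¹).symm
    have hB : P.φ2 B = (P.φ1 A)⁻¹ := eq_inv_of_mul_eq_one_right h
    have cB : ∀ X : SL2 F, B * X = X * B := by
      intro X
      apply P.inj2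
      rw [map_mul, map_mul, hB, ← map_inv]
      exact P.comm A⁻¹ X
    rcases central_of_comm A cA with rfl | rfl
    · rcases central_of_comm B cB with rfl | rfl
      · left; rfl
      · exfalso
        rw [map_one, one_mul] at h
        have := P.inj2 (h.trans (map_one P.φ2).symm)
        exact neg_one_ne_one h2 this
    · rcases central_of_comm B cB with rfl | rfl
      · exfalso
        rw [map_one, mul_one] at h
        have := P.inj1 (h.trans (map_one P.φ1).symm)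
        exact neg_one_ne_one h2 this
      · right; rfl
  · rintro (rfl | rfl)
    · simp
    · simp only
      rw [P.zeq, ← map_mul]
      have : (-1 : SL2 F) * -1 = 1 := by simp
      rw [this, map_one]

theorem card_κ_ker [Fintype F] (h2 : (2 : F) ≠ 0) : Nat.card P.κ.ker = 2 := by
  have hsq : (((-1 : SL2 F), (-1 : SL2 F)) : SL2 F × SL2 F) ^ 2 = 1 := by
    ext <;> simp
  have hz : orderOf (((-1 : SL2 F), (-1 : SL2 F)) : SL2 F × SL2 F) = 2 := by
    apply orderOf_eq_prime hsq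
    intro h
    have := congrArg Prod.fst h
    exact neg_one_ne_one h2 this
  have : P.κ.ker = Subgroup.zpowers (((-1 : SL2 F), (-1 : SL2 F)) : SL2 F × SL2 F) := by
    ext p
    rw [P.κ_ker h2, Subgroup.mem_zpowers_iff]
    constructor
    · rintro (rfl | rfl)
      · exact ⟨0, by simp⟩
      · exact ⟨1, by simp⟩
    · rintro ⟨k, rfl⟩
      rcases Int.emod_two_eq_zero_or_one k with hk | hk
      · left
        obtain ⟨m, rfl⟩ : ∃ m, k = 2 * m := ⟨k / 2, by omega⟩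
        rw [_root_.zpow_mul, zpow_ofNat, hsq, _root_.one_zpow]
      · right
        obtain ⟨m, rfl⟩ : ∃ m, k = 2 * m + 1 := ⟨k / 2, by omega⟩
        rw [_root_.zpow_add, _root_.zpow_mul, zpow_ofNat, hsq, _root_.one_zpow, one_mul, zpow_one]
  rw [this, Nat.card_zpowers, hz]

theorem card_K [Fintype F] (h2 : (2 : F) ≠ 0) : 2 * Nat.card P.K = Nat.card (SL2 F) ^ 2 := by
  have h1 := Subgroup.card_mul_index P.κ.ker
  rw [Subgroup.index_ker, P.κ_range, P.card_κ_ker h2, Nat.card_prod] at h1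
  rw [h1, pow_two]

end Cfsg.Agent.Lib.Helper46_PairGroup.PairData
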