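import Cfsg.Agent.Lib.Helper46_PairGroup

set_option autoImplicit false

/-!
Conjugacy of the non-central involutions of `(SL₂ ∘ SL₂).2` over a finite field of odd order: two classes,
the inner ones (in `SL₂ ∘ SL₂`) and the outer ones.
-/

namespace Cfsg.Agent.Lib.Helper46_PairConj

open Matrix Cfsg.Agent.Lib.Helper46_PairGroup

variable {F : Type*} [Field F] {G : Type*} [Group G]

/-- the companion matrix of `x² + δ` -/
def Cm (δ : F) : M2 F := !![0, -δ; 1, 0]

theorem exists_cyclic (h2 : (2 : F) ≠ 0) {A : M2 F} {δ : F} (hδ : δ ≠ 0) (tA : A.trace = 0)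
    (dA : A.det = δ) : ∃ P : M2 F, P.det ≠ 0 ∧ A * P = P * Cm δ := by
  rw [Matrix.trace_fin_two] at tA
  rw [Matrix.det_fin_two] at dA
  have h11 : A 1 1 = -A 0 0 := by linear_combination tA
  by_cases hc : A 1 0 = 0
  · by_cases hb : A 0 1 = 0
    · -- diagonal
      have ha : A 0 0 ≠ 0 := by
        intro ha
        apply hδ
        rw [← dA, hb, ha]; ring
      refine ⟨!![1, A 0 0; 1, -A 0 0], ?_, ?_⟩
      · rw [Matrix.det_fin_two]
        simp
        intro h
        have : (2 : F) * A 0 0 = 0 := by linear_combination -h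
        rcases mul_eq_zero.mp this with h' | h'
        · exact h2 h'
        · exact ha h'
      · ext i j
        fin_cases i <;> fin_cases j <;>
          simp [Cm, Matrix.mul_apply, Fin.sum_univ_two, hb, hc, h11]
        · rw [← dA, hb, h11]; ring
        · rw [← dA, hb, h11]; ring
    · refine ⟨!![0, A 0 1; 1, -A 0 0], ?_, ?_⟩
      · rw [Matrix.det_fin_two]
        simpa using hb
      · ext i j
        fin_cases i <;> fin_cases j <;>
          simp [Cm, Matrix.mul_apply, Fin.sum_univ_two, hc, h11]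
        · ring
        · rw [← dA, hc, h11]; ring
  · refine ⟨!![1, A 0 0; 0, A 1 0], ?_, ?_⟩
    · rw [Matrix.det_fin_two]
      simpa using hc
    · ext i j
      fin_cases i <;> fin_cases j <;>
        simp [Cm, Matrix.mul_apply, Fin.sum_univ_two, h11]
      · rw [← dA, h11]; ring
      · ring

theorem det_lin_of_trace_zero {A : M2 F} (tA : A.trace = 0) (x y : F) :
    (x • (1 : M2 F) + y • A).det = x ^ 2 + A.det * y ^ 2 := by
  rw [Matrix.trace_fin_two] at tA
  have h11 : A 1 1 = -A 0 0 := by linear_combination tA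
  rw [Matrix.det_fin_two, Matrix.det_fin_two]
  simp [h11]
  ring

theorem exists_conj_of_trace_zero [Fintype F] (h2 : (2 : F) ≠ 0) (hodd : Fintype.card F % 2 = 1)
    {A A' : M2 F} {δ : F} (hδ : δ ≠ 0) (tA : A.trace = 0) (tA' : A'.trace = 0) (dA : A.det = δ)
    (dA' : A'.det = δ) : ∃ X : M2 F, X.det = 1 ∧ A' * X = X * A := by
  obtain ⟨P, hP, eP⟩ := exists_cyclic h2 hδ tA dA
  obtain ⟨P', hP', eP'⟩ := exists_cyclic h2 hδ tA' dA'
  have hPu : IsUnit P.det := isUnit_iff_ne_zero.mpr hP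
  have e1 : P⁻¹ * A = Cm δ * P⁻¹ := by
    calc P⁻¹ * A = P⁻¹ * (A * P) * P⁻¹ := by
          rw [Matrix.mul_assoc, Matrix.mul_assoc, Matrix.mul_nonsing_inv P hPu, Matrix.mul_one]
      _ = Cm δ * P⁻¹ := by
          rw [eP, ← Matrix.mul_assoc, Matrix.nonsing_inv_mul P hPu, Matrix.one_mul]
  obtain ⟨X0, hX0⟩ : ∃ X0 : M2 F, X0 = P' * P⁻¹ := ⟨_, rfl⟩
  have hX0A : A' * X0 = X0 * A := by
    rw [hX0, ← Matrix.mul_assoc, eP', Matrix.mul_assoc, Matrix.mul_assoc, e1]
  have hd0 : X0.det ≠ 0 := by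
    rw [hX0, Matrix.det_mul, Matrix.det_nonsing_inv, Ring.inverse_eq_inv']
    exact mul_ne_zero hP' (inv_ne_zero hP)
  -- solve x² + δ y² = (det X0)⁻¹
  obtain ⟨x, y, hxy⟩ : ∃ x y : F, x ^ 2 + δ * y ^ 2 = (X0.det)⁻¹ := by
    have hf : (Polynomial.X ^ 2 : Polynomial F).degree = 2 := Polynomial.degree_X_pow 2
    have hg : (Polynomial.C δ * Polynomial.X ^ 2 - Polynomial.C (X0.det)⁻¹ : Polynomial F).degree = 2 := by
      rw [Polynomial.degree_sub_C (by rw [Polynomial.degree_C_mul_X_pow 2 hδ]; norm_num),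
        Polynomial.degree_C_mul_X_pow 2 hδ]
      rfl
    obtain ⟨a, b, hab⟩ := FiniteField.exists_root_sum_quadratic hf hg hodd
    refine ⟨a, b, ?_⟩
    simp only [Polynomial.eval_pow, Polynomial.eval_X, Polynomial.eval_sub, Polynomial.eval_mul,
      Polynomial.eval_C] at hab
    linear_combination hab
  refine ⟨X0 * (x • (1 : M2 F) + y • A), ?_, ?_⟩
  · rw [Matrix.det_mul, det_lin_of_trace_zero tA, dA, hxy, mul_inv_cancel₀ hd0]
  · have hZ : A * (x • (1 : M2 F) + y • A) = (x • (1 : M2 F) + y • A) * A := by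
      simp [Matrix.mul_add, Matrix.add_mul]
    calc A' * (X0 * (x • (1 : M2 F) + y • A))
        = (A' * X0) * (x • (1 : M2 F) + y • A) := (Matrix.mul_assoc _ _ _).symm
      _ = X0 * A * (x • (1 : M2 F) + y • A) := by rw [hX0A]
      _ = X0 * (A * (x • (1 : M2 F) + y • A)) := Matrix.mul_assoc _ _ _
      _ = X0 * ((x • (1 : M2 F) + y • A) * A) := by rw [hZ]
      _ = X0 * (x • (1 : M2 F) + y • A) * A := (Matrix.mul_assoc _ _ _).symm

theorem isSquare_units_iff (δ : Fˣ) : IsSquare δ ↔ IsSquare (δ : F) := by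
  constructor
  · rintro ⟨r, rfl⟩
    exact ⟨(r : F), by rw [Units.val_mul]⟩
  · rintro ⟨r, hr⟩
    have hr0 : r ≠ 0 := by
      intro h
      rw [h, mul_zero] at hr
      exact δ.ne_zero hr
    exact ⟨Units.mk0 r hr0, Units.ext (by rw [Units.val_mul]; exact hr)⟩

theorem exists_sq_ratio [Fintype F] [DecidableEq F] (δ δ' : Fˣ)
    (h : IsSquare δ ↔ IsSquare δ') : ∃ c : Fˣ, δ' = c ^ 2 * δ := by
  have key : IsSquare ((δ' * δ⁻¹ : Fˣ) : F) := by
    have hne : ((δ' * δ⁻¹ : Fˣ) : F) ≠ 0 := Units.ne_zero _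
    rw [← quadraticChar_one_iff_isSquare hne, Units.val_mul, map_mul]
    rcases quadraticChar_dichotomy δ.ne_zero with h1 | h1
    · have hs : IsSquare δ := (isSquare_units_iff δ).mpr ((quadraticChar_one_iff_isSquare δ.ne_zero).mp h1)
      have hs' := (isSquare_units_iff δ').mp (h.mp hs)
      rw [(quadraticChar_one_iff_isSquare δ'.ne_zero).mpr hs']
      have : quadraticChar F ((δ⁻¹ : Fˣ) : F) = 1 := by
        rw [quadraticChar_one_iff_isSquare (Units.ne_zero _)]
        obtain ⟨r, hr⟩ := hs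
        exact ⟨((r⁻¹ : Fˣ) : F), by rw [hr, ← Units.val_mul, mul_inv]⟩
      rw [this, mul_one]
    · have hns : ¬ IsSquare δ := by
        intro hs
        have := (quadraticChar_neg_one_iff_not_isSquare (F := F)).mp h1
        exact this ((isSquare_units_iff δ).mp hs)
      have hns' : ¬ IsSquare (δ' : F) := fun hs' => hns (h.mpr ((isSquare_units_iff δ').mpr hs'))
      rw [quadraticChar_neg_one_iff_not_isSquare.mpr hns']
      have : quadraticChar F ((δ⁻¹ : Fˣ) : F) = -1 := by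
        rw [quadraticChar_neg_one_iff_not_isSquare]
        rintro ⟨r, hr⟩
        apply hns
        have hr0 : r ≠ 0 := by
          intro h0
          rw [h0, mul_zero] at hr
          exact (Units.ne_zero _) hr
        refine ⟨(Units.mk0 r hr0)⁻¹, ?_⟩
        have : δ⁻¹ = Units.mk0 r hr0 * Units.mk0 r hr0 := Units.ext (by rw [Units.val_mul]; exact hr)
        rw [← mul_inv, ← this, inv_inv]
      rw [this]
      norm_num
  obtain ⟨c, hc⟩ := (isSquare_units_iff _).mpr key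
  refine ⟨c, ?_⟩
  rw [pow_two, ← hc]
  group

namespace PairData

open Cfsg.Agent.Lib.Helper46_PairGroup.PairData

variable (P : PairData F G)

/-- Two non-central involutions of the same type (inner or outer) are conjugate under `SL₂ ∘ SL₂`. -/
theorem conj_T [Fintype F] [DecidableEq F] (h2 : (2 : F) ≠ 0) (hodd : Fintype.card F % 2 = 1)
    {A B A' B' : M2 F} {δ δ' : Fˣ} (hA : A.det = (δ : F)) (hB : B.det = (δ : F))
    (hA' : A'.det = (δ' : F)) (hB' : B'.det = (δ' : F)) (tA : A.trace = 0) (tB : B.trace = 0)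
    (tA' : A'.trace = 0) (tB' : B'.trace = 0) (hsq : IsSquare δ ↔ IsSquare δ') :
    ∃ k ∈ P.K, k * P.Ψ A B δ * k⁻¹ = P.Ψ A' B' δ' := by
  obtain ⟨c, hc⟩ := exists_sq_ratio δ δ' hsq
  have hδ : c⁻¹ ^ 2 * δ' = δ := by rw [hc]; group
  have e := P.Ψ_smul hA' hB' c⁻¹
  rw [hδ] at e
  have dA'' : (((c⁻¹ : Fˣ) : F) • A').det = (δ : F) := by
    rw [smul_det, hA', ← Units.val_pow_eq_pow_val, ← Units.val_mul, hδ]
  have dB'' : (((c⁻¹ : Fˣ) : F) • B').det = (δ : F) := by
    rw [smul_det, hB', ← Units.val_pow_eq_pow_val, ← Units.val_mul, hδ]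
  have tA'' : (((c⁻¹ : Fˣ) : F) • A').trace = 0 := by rw [Matrix.trace_smul, tA', smul_zero]
  have tB'' : (((c⁻¹ : Fˣ) : F) • B').trace = 0 := by rw [Matrix.trace_smul, tB', smul_zero]
  obtain ⟨X, dX, eX⟩ := exists_conj_of_trace_zero h2 hodd δ.ne_zero tA tA'' hA dA''
  obtain ⟨Y, dY, eY⟩ := exists_conj_of_trace_zero h2 hodd δ.ne_zero tB tB'' hB dB''
  have dX1 : X.det = ((1 : Fˣ) : F) := by simpa using dX
  have dY1 : Y.det = ((1 : Fˣ) : F) := by simpa using dY
  refine ⟨P.Ψ X Y 1, ⟨X, Y, dX, dY, rfl⟩, ?_⟩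
  rw [← e, mul_inv_eq_iff_eq_mul, P.Ψ_mul dX1 dY1 hA hB, P.Ψ_mul dA'' dB'' dX1 dY1, eX, eY, one_mul, mul_one]

end PairData

end Cfsg.Agent.Lib.Helper46_PairConj
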