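import Mathlib

set_option autoImplicit false

/-!
The group `(SL₂ ∘ SL₂).2` given abstractly: two commuting injective homomorphisms `φ₁ φ₂ : SL₂(F) → G`
with `φ₁(-1) = φ₂(-1)` and a homomorphism `h₀ : Fˣ → G` acting on both copies as conjugation by `diag(δ,1)`,
with `h₀(c²) = φ₁(diag(c,c⁻¹)) φ₂(diag(c,c⁻¹))`.  Elements are written `Ψ A B δ` for pairs of `2 × 2`
matrices of common determinant `δ`; `Ψ` is multiplicative with kernel the scalar pairs.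
-/

namespace Cfsg.Agent.Lib.Helper46_PairGroup

open Matrix

variable {F : Type*} [Field F] {G : Type*} [Group G]

abbrev SL2 (F : Type*) [Field F] := Matrix.SpecialLinearGroup (Fin 2) F
abbrev M2 (F : Type*) [Field F] := Matrix (Fin 2) (Fin 2) F

/-- `diag(δ, 1)`. -/
def Dm (δ : F) : M2 F := Matrix.diagonal ![δ, 1]

theorem Dm_det (δ : F) : (Dm δ).det = δ := by
  simp [Dm, Matrix.det_diagonal, Fin.prod_univ_two]

theorem Dm_mul (a b : F) : Dm a * Dm b = Dm (a * b) := by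
  unfold Dm
  rw [Matrix.diagonal_mul_diagonal]
  congr 1
  funext i
  fin_cases i <;> simp

theorem Dm_one : Dm (1 : F) = 1 := by
  unfold Dm
  rw [← Matrix.diagonal_one]
  congr 1
  funext i
  fin_cases i <;> simp

theorem Dm_mul_apply (δ : F) (X : M2 F) (i j : Fin 2) : (Dm δ * X) i j = ![δ, 1] i * X i j := by
  unfold Dm
  rw [Matrix.diagonal_mul]

theorem mul_Dm_apply (δ : F) (X : M2 F) (i j : Fin 2) : (X * Dm δ) i j = X i j * ![δ, 1] j := by
  unfold Dm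
  rw [Matrix.mul_diagonal]

/-- `A * diag(δ,1)⁻¹` as an element of `SL₂` when `det A = δ`. -/
def mkD (A : M2 F) (δ : Fˣ) (h : A.det = (δ : F)) : SL2 F :=
  ⟨A * Dm ((δ⁻¹ : Fˣ) : F), by
    rw [Matrix.det_mul, Dm_det, h, ← Units.val_mul, mul_inv_cancel, Units.val_one]⟩

open scoped Classical in
/-- `A * diag(δ,1)⁻¹` as an element of `SL₂` when `det A = δ` (the identity otherwise). -/
noncomputable def toSL (A : M2 F) (δ : Fˣ) : SL2 F :=
  if h : A.det = (δ : F) then mkD A δ h else 1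

theorem toSL_coe {A : M2 F} {δ : Fˣ} (h : A.det = (δ : F)) :
    ((toSL A δ : SL2 F) : M2 F) = A * Dm ((δ⁻¹ : Fˣ) : F) := by
  unfold toSL
  rw [dif_pos h]
  rfl

/-- conjugation by `diag(δ,1)` on `SL₂`. -/
def conjD (δ : Fˣ) (X : SL2 F) : SL2 F :=
  ⟨!![X.1 0 0, (δ : F) * X.1 0 1; ((δ⁻¹ : Fˣ) : F) * X.1 1 0, X.1 1 1], by
    have h := X.2
    rw [Matrix.det_fin_two] at h
    rw [Matrix.det_fin_two]
    simp only [Matrix.of_apply, Matrix.cons_val', Matrix.cons_val_zero, Matrix.cons_val_one,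
      Matrix.cons_val_fin_one]
    have : (δ : F) * X.1 0 1 * (((δ⁻¹ : Fˣ) : F) * X.1 1 0) = X.1 0 1 * X.1 1 0 := by
      have hd : (δ : F) * ((δ⁻¹ : Fˣ) : F) = 1 := by rw [← Units.val_mul, mul_inv_cancel, Units.val_one]
      calc (δ : F) * X.1 0 1 * (((δ⁻¹ : Fˣ) : F) * X.1 1 0)
          = ((δ : F) * ((δ⁻¹ : Fˣ) : F)) * (X.1 0 1 * X.1 1 0) := by ring
        _ = X.1 0 1 * X.1 1 0 := by rw [hd, one_mul]
    rw [this]
    exact h⟩

theorem conjD_coe (δ : Fˣ) (X : SL2 F) :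
    ((conjD δ X : SL2 F) : M2 F) = Dm (δ : F) * X.1 * Dm ((δ⁻¹ : Fˣ) : F) := by
  ext i j
  rw [mul_Dm_apply, Dm_mul_apply]
  have hd : (δ : F) ≠ 0 := δ.ne_zero
  fin_cases i <;> fin_cases j <;> simp [conjD] <;> field_simp

theorem units_mul_inv_val (δ : Fˣ) : (δ : F) * ((δ⁻¹ : Fˣ) : F) = 1 := by
  rw [← Units.val_mul, mul_inv_cancel, Units.val_one]

theorem units_inv_mul_val (δ : Fˣ) : ((δ⁻¹ : Fˣ) : F) * (δ : F) = 1 := by
  rw [← Units.val_mul, inv_mul_cancel, Units.val_one]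

theorem toSL_mul {A A' : M2 F} {δ δ' : Fˣ} (h : A.det = (δ : F)) (h' : A'.det = (δ' : F)) :
    toSL (A * A') (δ * δ') = toSL A δ * conjD δ (toSL A' δ') := by
  have hAA : (A * A').det = ((δ * δ' : Fˣ) : F) := by
    rw [Matrix.det_mul, h, h', Units.val_mul]
  apply Subtype.ext
  rw [toSL_coe hAA, Matrix.SpecialLinearGroup.coe_mul, toSL_coe h, conjD_coe, toSL_coe h']
  have e1 : Dm ((δ⁻¹ : Fˣ) : F) * Dm (δ : F) = 1 := by
    rw [Dm_mul, units_inv_mul_val, Dm_one]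
  have e2 : Dm ((δ'⁻¹ : Fˣ) : F) * Dm ((δ⁻¹ : Fˣ) : F) = Dm (((δ * δ')⁻¹ : Fˣ) : F) := by
    rw [Dm_mul, ← Units.val_mul, _root_.mul_inv_rev]
  calc A * A' * Dm (((δ * δ')⁻¹ : Fˣ) : F)
      = A * (1 : M2 F) * A' * (Dm ((δ'⁻¹ : Fˣ) : F) * Dm ((δ⁻¹ : Fˣ) : F)) := by rw [e2, Matrix.mul_one]
    _ = A * Dm ((δ⁻¹ : Fˣ) : F) * (Dm (δ : F) * (A' * Dm ((δ'⁻¹ : Fˣ) : F)) * Dm ((δ⁻¹ : Fˣ) : F)) := by
        rw [← e1]; simp only [Matrix.mul_assoc]

/-- `diag(c, c⁻¹)`. -/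
def dg (c : Fˣ) : SL2 F :=
  ⟨!![(c : F), 0; 0, ((c⁻¹ : Fˣ) : F)], by
    rw [Matrix.det_fin_two]
    simp⟩

/-- The data of the abstract group `(SL₂ ∘ SL₂).2`. -/
structure PairData (F : Type*) [Field F] (G : Type*) [Group G] where
  φ1 : SL2 F →* G
  φ2 : SL2 F →* G
  h0 : Fˣ →* G
  comm : ∀ A B, φ1 A * φ2 B = φ2 B * φ1 A
  conj1 : ∀ (δ : Fˣ) (A : SL2 F), h0 δ * φ1 A * (h0 δ)⁻¹ = φ1 (conjD δ A)
  conj2 : ∀ (δ : Fˣ) (A : SL2 F), h0 δ * φ2 A * (h0 δ)⁻¹ = φ2 (conjD δ A)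
  sq : ∀ c : Fˣ, h0 (c ^ 2) = φ1 (dg c) * φ2 (dg c)
  inj1 : Function.Injective φ1
  inj2 : Function.Injective φ2
  zeq : φ1 (-1) = φ2 (-1)

namespace PairData

variable (P : PairData F G)

/-- The element attached to a pair of matrices of determinant `δ`. -/
noncomputable def Ψ (A B : M2 F) (δ : Fˣ) : G := P.φ1 (toSL A δ) * P.φ2 (toSL B δ) * P.h0 δ

theorem Ψ_mul {A B A' B' : M2 F} {δ δ' : Fˣ} (hA : A.det = (δ : F)) (hB : B.det = (δ : F))
    (hA' : A'.det = (δ' : F)) (hB' : B'.det = (δ' : F)) :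
    P.Ψ A B δ * P.Ψ A' B' δ' = P.Ψ (A * A') (B * B') (δ * δ') := by
  unfold Ψ
  rw [toSL_mul hA hA', toSL_mul hB hB', map_mul, map_mul, map_mul, ← P.conj1, ← P.conj2]
  have c1 : ∀ X Y, P.φ2 X * P.φ1 Y = P.φ1 Y * P.φ2 X := fun X Y => (P.comm Y X).symm
  set a := P.φ1 (toSL A δ)
  set b := P.φ2 (toSL B δ)
  set a' := P.φ1 (toSL A' δ')
  set b' := P.φ2 (toSL B' δ')
  set h := P.h0 δ
  set h' := P.h0 δ'
  have e : b * (h * a' * h⁻¹) = (h * a' * h⁻¹) * b := by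
    rw [P.conj1]; exact c1 _ _
  calc a * b * h * (a' * b' * h')
      = a * (b * (h * a' * h⁻¹)) * (h * b' * h⁻¹) * (h * h') := by group
    _ = a * ((h * a' * h⁻¹) * b) * (h * b' * h⁻¹) * (h * h') := by rw [e]
    _ = a * (h * a' * h⁻¹) * (b * (h * b' * h⁻¹)) * (h * h') := by group

theorem toSL_one : toSL (1 : M2 F) 1 = 1 := by
  apply Subtype.ext
  rw [toSL_coe (by simp)]
  simp [Dm_one]

theorem Ψ_one : P.Ψ 1 1 1 = 1 := by
  unfold Ψ
  rw [toSL_one, map_one, map_one, map_one, one_mul, one_mul]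

end PairData

/-! ### matrices -/

theorem smul_one_det (c : F) : ((c • (1 : M2 F)) : M2 F).det = c ^ 2 := by
  rw [Matrix.det_smul, Matrix.det_one, mul_one, Fintype.card_fin]

theorem toSL_scalar (c : Fˣ) : toSL (((c : F) • (1 : M2 F)) : M2 F) (c ^ 2) = dg c⁻¹ := by
  have hdet : (((c : F) • (1 : M2 F)) : M2 F).det = ((c ^ 2 : Fˣ) : F) := by
    rw [smul_one_det, Units.val_pow_eq_pow_val]
  apply Subtype.ext
  rw [toSL_coe hdet]
  have hc : (c : F) ≠ 0 := c.ne_zero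
  ext i j
  rw [mul_Dm_apply]
  fin_cases i <;> fin_cases j <;> simp [dg] <;> field_simp

theorem dg_inv_mul (c : Fˣ) : (dg c⁻¹ : SL2 F) * dg c = 1 := by
  apply Subtype.ext
  rw [Matrix.SpecialLinearGroup.coe_mul]
  ext i j
  fin_cases i <;> fin_cases j <;> simp [dg, Matrix.mul_apply, Fin.sum_univ_two]

/-- A matrix commuting with the two elementary matrices is scalar. -/
theorem scalar_of_comm (A : M2 F) (h1 : A * !![1, 1; 0, 1] = !![1, 1; 0, 1] * A)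
    (h2 : A * !![1, 0; 1, 1] = !![1, 0; 1, 1] * A) : A = (A 0 0) • (1 : M2 F) := by
  have e1 := congrFun (congrFun h1 0) 0
  have e2 := congrFun (congrFun h1 0) 1
  have e3 := congrFun (congrFun h2 0) 0
  simp [Matrix.mul_apply, Fin.sum_univ_two] at e1 e2 e3
  ext i j
  fin_cases i <;> fin_cases j <;> simp
  · exact e3
  · exact e1
  · linear_combination -e2

namespace PairData

variable (P : PairData F G)

theorem Ψ_scalar (c : Fˣ) :
    P.Ψ (((c : F) • (1 : M2 F)) : M2 F) (((c : F) • (1 : M2 F)) : M2 F) (c ^ 2) = 1 := by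
  unfold Ψ
  rw [toSL_scalar, P.sq]
  have e : P.φ2 (dg c⁻¹) * P.φ1 (dg c) = P.φ1 (dg c) * P.φ2 (dg c⁻¹) := (P.comm _ _).symm
  calc P.φ1 (dg c⁻¹) * P.φ2 (dg c⁻¹) * (P.φ1 (dg c) * P.φ2 (dg c))
      = P.φ1 (dg c⁻¹) * (P.φ2 (dg c⁻¹) * P.φ1 (dg c)) * P.φ2 (dg c) := by group
    _ = P.φ1 (dg c⁻¹) * (P.φ1 (dg c) * P.φ2 (dg c⁻¹)) * P.φ2 (dg c) := by rw [e]
    _ = (P.φ1 (dg c⁻¹) * P.φ1 (dg c)) * (P.φ2 (dg c⁻¹) * P.φ2 (dg c)) := by group
    _ = 1 := by rw [← map_mul, ← map_mul, dg_inv_mul, map_one, map_one, one_mul]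

theorem conj_phi1 (a b X : SL2 F) :
    (P.φ1 a * P.φ2 b)⁻¹ * P.φ1 X * (P.φ1 a * P.φ2 b) = P.φ1 (a⁻¹ * X * a) := by
  have hy : P.φ1 (a⁻¹ * X * a) = (P.φ1 a)⁻¹ * P.φ1 X * P.φ1 a := by
    rw [map_mul, map_mul, map_inv]
  have hc : P.φ1 (a⁻¹ * X * a) * P.φ2 b = P.φ2 b * P.φ1 (a⁻¹ * X * a) := P.comm _ _
  calc (P.φ1 a * P.φ2 b)⁻¹ * P.φ1 X * (P.φ1 a * P.φ2 b)
      = (P.φ2 b)⁻¹ * ((P.φ1 a)⁻¹ * P.φ1 X * P.φ1 a) * P.φ2 b := by group
    _ = (P.φ2 b)⁻¹ * (P.φ1 (a⁻¹ * X * a) * P.φ2 b) := by rw [← hy]; group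
    _ = (P.φ2 b)⁻¹ * (P.φ2 b * P.φ1 (a⁻¹ * X * a)) := by rw [hc]
    _ = P.φ1 (a⁻¹ * X * a) := by group

theorem conj_phi2 (a b X : SL2 F) :
    (P.φ1 a * P.φ2 b)⁻¹ * P.φ2 X * (P.φ1 a * P.φ2 b) = P.φ2 (b⁻¹ * X * b) := by
  have hy : P.φ2 (b⁻¹ * X * b) = (P.φ2 b)⁻¹ * P.φ2 X * P.φ2 b := by
    rw [map_mul, map_mul, map_inv]
  have hc : P.φ1 a * P.φ2 (b⁻¹ * X * b) = P.φ2 (b⁻¹ * X * b) * P.φ1 a := P.comm _ _
  have e2 : P.φ1 a * P.φ2 b = P.φ2 b * P.φ1 a := P.comm _ _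
  calc (P.φ1 a * P.φ2 b)⁻¹ * P.φ2 X * (P.φ1 a * P.φ2 b)
      = (P.φ2 b * P.φ1 a)⁻¹ * P.φ2 X * (P.φ2 b * P.φ1 a) := by rw [e2]
    _ = (P.φ1 a)⁻¹ * ((P.φ2 b)⁻¹ * P.φ2 X * P.φ2 b) * P.φ1 a := by group
    _ = (P.φ1 a)⁻¹ * (P.φ2 (b⁻¹ * X * b) * P.φ1 a) := by rw [← hy]; group
    _ = (P.φ1 a)⁻¹ * (P.φ1 a * P.φ2 (b⁻¹ * X * b)) := by rw [hc]
    _ = P.φ2 (b⁻¹ * X * b) := by group

theorem comm_of_toSL {A : M2 F} {δ : Fˣ} (hA : A.det = (δ : F)) (X : SL2 F)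
    (h : conjD δ X = (toSL A δ)⁻¹ * X * toSL A δ) : A * X.1 = X.1 * A := by
  have h2 : toSL A δ * conjD δ X = X * toSL A δ := by rw [h]; group
  have h3 := congrArg (fun Y : SL2 F => (Y : M2 F)) h2
  simp only [Matrix.SpecialLinearGroup.coe_mul] at h3
  rw [toSL_coe hA, conjD_coe] at h3
  have e1 : Dm ((δ⁻¹ : Fˣ) : F) * Dm (δ : F) = 1 := by
    rw [Dm_mul, units_inv_mul_val, Dm_one]
  have h4 : A * X.1 * Dm ((δ⁻¹ : Fˣ) : F) = X.1 * A * Dm ((δ⁻¹ : Fˣ) : F) := by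
    calc A * X.1 * Dm ((δ⁻¹ : Fˣ) : F)
        = A * (1 : M2 F) * X.1 * Dm ((δ⁻¹ : Fˣ) : F) := by rw [Matrix.mul_one]
      _ = A * Dm ((δ⁻¹ : Fˣ) : F) * (Dm (δ : F) * X.1 * Dm ((δ⁻¹ : Fˣ) : F)) := by
          rw [← e1]; simp only [Matrix.mul_assoc]
      _ = X.1 * (A * Dm ((δ⁻¹ : Fˣ) : F)) := h3
      _ = X.1 * A * Dm ((δ⁻¹ : Fˣ) : F) := by rw [Matrix.mul_assoc]
  have h5 := congrArg (fun Y : M2 F => Y * Dm (δ : F)) h4
  simp only [Matrix.mul_assoc, e1, Matrix.mul_one] at h5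
  simpa [Matrix.mul_assoc] using h5

/-- the two elementary matrices -/
def uE : SL2 F := ⟨!![1, 1; 0, 1], by simp [Matrix.det_fin_two]⟩
def lE : SL2 F := ⟨!![1, 0; 1, 1], by simp [Matrix.det_fin_two]⟩

theorem mul_Dm_cancel {A B : M2 F} (δ : Fˣ)
    (h : A * Dm ((δ⁻¹ : Fˣ) : F) = B * Dm ((δ⁻¹ : Fˣ) : F)) : A = B := by
  have e1 : Dm ((δ⁻¹ : Fˣ) : F) * Dm (δ : F) = 1 := by
    rw [Dm_mul, units_inv_mul_val, Dm_one]
  have h5 := congrArg (fun Y : M2 F => Y * Dm (δ : F)) h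
  simp only [Matrix.mul_assoc, e1, Matrix.mul_one] at h5
  exact h5

theorem scalar_of_Ψ_eq_one {A B : M2 F} {δ : Fˣ} (hA : A.det = (δ : F)) (hB : B.det = (δ : F))
    (h : P.Ψ A B δ = 1) : A = (A 0 0) • (1 : M2 F) ∧ B = (B 0 0) • (1 : M2 F) := by
  unfold Ψ at h
  have hh : P.h0 δ = (P.φ1 (toSL A δ) * P.φ2 (toSL B δ))⁻¹ := eq_inv_of_mul_eq_one_right h
  have key1 : ∀ X : SL2 F, A * X.1 = X.1 * A := by
    intro X
    apply comm_of_toSL hA X
    apply P.inj1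
    rw [← P.conj1, hh, inv_inv, P.conj_phi1]
  have key2 : ∀ X : SL2 F, B * X.1 = X.1 * B := by
    intro X
    apply comm_of_toSL hB X
    apply P.inj2
    rw [← P.conj2, hh, inv_inv, P.conj_phi2]
  exact ⟨scalar_of_comm A (key1 uE) (key1 lE), scalar_of_comm B (key2 uE) (key2 lE)⟩

theorem ker_Ψ {A B : M2 F} {δ : Fˣ} (hA : A.det = (δ : F)) (hB : B.det = (δ : F))
    (h : P.Ψ A B δ = 1) :
    ∃ c : Fˣ, A = (c : F) • (1 : M2 F) ∧ B = (c : F) • (1 : M2 F) ∧ δ = c ^ 2 := by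
  obtain ⟨hAs, hBs⟩ := P.scalar_of_Ψ_eq_one hA hB h
  have hα : (A 0 0) ^ 2 = (δ : F) := by
    rw [← hA]; conv_rhs => rw [hAs]
    rw [smul_one_det]
  have hα0 : A 0 0 ≠ 0 := by
    intro h0
    rw [h0] at hα
    exact δ.ne_zero (by rw [← hα]; ring)
  set c : Fˣ := Units.mk0 (A 0 0) hα0 with hc
  have hcv : (c : F) = A 0 0 := rfl
  have hδ : δ = c ^ 2 := by
    apply Units.ext
    rw [Units.val_pow_eq_pow_val, hcv, hα]
  refine ⟨c, by rw [hcv]; exact hAs, ?_, hδ⟩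
  have h' := P.Ψ_scalar c
  have hA' : A = (c : F) • (1 : M2 F) := by rw [hcv]; exact hAs
  rw [hA', hδ] at h
  unfold Ψ at h h'
  have e := h.trans h'.symm
  have e2 := mul_left_cancel (mul_right_cancel e)
  have e3 := P.inj2 e2
  have hB' : B.det = ((c ^ 2 : Fˣ) : F) := by rw [← hδ]; exact hB
  have hs' : (((c : F) • (1 : M2 F)) : M2 F).det = ((c ^ 2 : Fˣ) : F) := by
    rw [smul_one_det, Units.val_pow_eq_pow_val]
  have e4 := congrArg (fun Y : SL2 F => (Y : M2 F)) e3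
  simp only [toSL_coe hB', toSL_coe hs'] at e4
  exact mul_Dm_cancel _ e4

theorem det_inv_of {A : M2 F} {δ : Fˣ} (hA : A.det = (δ : F)) : (A⁻¹).det = ((δ⁻¹ : Fˣ) : F) := by
  rw [Matrix.det_nonsing_inv, Ring.inverse_eq_inv', hA, Units.val_inv_eq_inv_val]

theorem mul_inv_of {A : M2 F} {δ : Fˣ} (hA : A.det = (δ : F)) : A * A⁻¹ = 1 :=
  Matrix.mul_nonsing_inv A (by rw [hA]; exact δ.isUnit)

theorem inv_mul_of {A : M2 F} {δ : Fˣ} (hA : A.det = (δ : F)) : A⁻¹ * A = 1 :=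
  Matrix.nonsing_inv_mul A (by rw [hA]; exact δ.isUnit)

theorem Ψ_inv {A B : M2 F} {δ : Fˣ} (hA : A.det = (δ : F)) (hB : B.det = (δ : F)) :
    (P.Ψ A B δ)⁻¹ = P.Ψ A⁻¹ B⁻¹ δ⁻¹ := by
  apply inv_eq_of_mul_eq_one_right
  rw [P.Ψ_mul hA hB (det_inv_of hA) (det_inv_of hB), mul_inv_of hA, mul_inv_of hB, mul_inv_cancel, P.Ψ_one]

theorem Ψ_smul {A B : M2 F} {δ : Fˣ} (hA : A.det = (δ : F)) (hB : B.det = (δ : F)) (c : Fˣ) :
    P.Ψ ((c : F) • A) ((c : F) • B) (c ^ 2 * δ) = P.Ψ A B δ := by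
  have hs : (((c : F) • (1 : M2 F)) : M2 F).det = ((c ^ 2 : Fˣ) : F) := by
    rw [smul_one_det, Units.val_pow_eq_pow_val]
  have := P.Ψ_mul hs hs hA hB
  rw [P.Ψ_scalar, one_mul, Matrix.smul_mul, Matrix.smul_mul, Matrix.one_mul, Matrix.one_mul] at this
  exact this.symm

theorem smul_det (c : F) (A : M2 F) : (c • A).det = c ^ 2 * A.det := by
  rw [Matrix.det_smul, Fintype.card_fin]

theorem Ψ_eq {A B A' B' : M2 F} {δ δ' : Fˣ} (hA : A.det = (δ : F)) (hB : B.det = (δ : F))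
    (hA' : A'.det = (δ' : F)) (hB' : B'.det = (δ' : F)) (h : P.Ψ A B δ = P.Ψ A' B' δ') :
    ∃ c : Fˣ, A' = (c : F) • A ∧ B' = (c : F) • B ∧ δ' = c ^ 2 * δ := by
  have h1 : P.Ψ A' B' δ' * (P.Ψ A B δ)⁻¹ = 1 := by rw [h, mul_inv_cancel]
  rw [P.Ψ_inv hA hB, P.Ψ_mul hA' hB' (det_inv_of hA) (det_inv_of hB)] at h1
  have d1 : (A' * A⁻¹).det = ((δ' * δ⁻¹ : Fˣ) : F) := by
    rw [Matrix.det_mul, hA', det_inv_of hA, Units.val_mul]
  have d2 : (B' * B⁻¹).det = ((δ' * δ⁻¹ : Fˣ) : F) := by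
    rw [Matrix.det_mul, hB', det_inv_of hB, Units.val_mul]
  obtain ⟨c, e1, e2, e3⟩ := P.ker_Ψ d1 d2 h1
  refine ⟨c, ?_, ?_, ?_⟩
  · have := congrArg (fun Y : M2 F => Y * A) e1
    simp only [Matrix.mul_assoc, inv_mul_of hA, Matrix.mul_one, Matrix.smul_mul, Matrix.one_mul] at this
    exact this
  · have := congrArg (fun Y : M2 F => Y * B) e2
    simp only [Matrix.mul_assoc, inv_mul_of hB, Matrix.mul_one, Matrix.smul_mul, Matrix.one_mul] at this
    exact this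
  · rw [← e3]; group

/-- The group `(SL₂ ∘ SL₂).2`. -/
def M : Subgroup G where
  carrier := {g | ∃ (A B : M2 F) (δ : Fˣ), A.det = (δ : F) ∧ B.det = (δ : F) ∧ g = P.Ψ A B δ}
  one_mem' := ⟨1, 1, 1, by simp, by simp, P.Ψ_one.symm⟩
  mul_mem' := by
    rintro _ _ ⟨A, B, δ, hA, hB, rfl⟩ ⟨A', B', δ', hA', hB', rfl⟩
    refine ⟨A * A', B * B', δ * δ', ?_, ?_, P.Ψ_mul hA hB hA' hB'⟩
    · rw [Matrix.det_mul, hA, hA', Units.val_mul]
    · rw [Matrix.det_mul, hB, hB', Units.val_mul]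
  inv_mem' := by
    rintro _ ⟨A, B, δ, hA, hB, rfl⟩
    exact ⟨A⁻¹, B⁻¹, δ⁻¹, det_inv_of hA, det_inv_of hB, P.Ψ_inv hA hB⟩

/-- The central product `SL₂ ∘ SL₂`. -/
def K : Subgroup G where
  carrier := {g | ∃ (A B : M2 F), A.det = 1 ∧ B.det = 1 ∧ g = P.Ψ A B 1}
  one_mem' := ⟨1, 1, by simp, by simp, P.Ψ_one.symm⟩
  mul_mem' := by
    rintro _ _ ⟨A, B, hA, hB, rfl⟩ ⟨A', B', hA', hB', rfl⟩
    refine ⟨A * A', B * B', ?_, ?_, ?_⟩
    · rw [Matrix.det_mul, hA, hA', one_mul]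
    · rw [Matrix.det_mul, hB, hB', one_mul]
    · have := P.Ψ_mul (δ := 1) (δ' := 1) (by simpa using hA) (by simpa using hB) (by simpa using hA')
        (by simpa using hB')
      rw [this, one_mul]
  inv_mem' := by
    rintro _ ⟨A, B, hA, hB, rfl⟩
    have hA1 : A.det = ((1 : Fˣ) : F) := by simpa using hA
    have hB1 : B.det = ((1 : Fˣ) : F) := by simpa using hB
    refine ⟨A⁻¹, B⁻¹, ?_, ?_, ?_⟩
    · have := det_inv_of hA1; simpa using this
    · have := det_inv_of hB1; simpa using this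
    · rw [P.Ψ_inv hA1 hB1, inv_one]

theorem K_le_M : P.K ≤ P.M := by
  rintro _ ⟨A, B, hA, hB, rfl⟩
  exact ⟨A, B, 1, by simpa using hA, by simpa using hB, rfl⟩

theorem mem_M {A B : M2 F} {δ : Fˣ} (hA : A.det = (δ : F)) (hB : B.det = (δ : F)) : P.Ψ A B δ ∈ P.M :=
  ⟨A, B, δ, hA, hB, rfl⟩

theorem mem_K_iff {A B : M2 F} {δ : Fˣ} (hA : A.det = (δ : F)) (hB : B.det = (δ : F)) :
    P.Ψ A B δ ∈ P.K ↔ IsSquare δ := by
  constructor
  · rintro ⟨A', B', hA', hB', h⟩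
    obtain ⟨c, -, -, e⟩ := P.Ψ_eq hA hB (δ' := 1) (by simpa using hA') (by simpa using hB') h
    refine ⟨c⁻¹, ?_⟩
    have : δ = (c ^ 2)⁻¹ := by
      rw [eq_inv_iff_mul_eq_one, mul_comm]; exact e.symm
    rw [this]; group
  · rintro ⟨c, rfl⟩
    have h := P.Ψ_smul hA hB c⁻¹
    rw [← h]
    have e : c⁻¹ ^ 2 * (c * c) = 1 := by group
    rw [e]
    refine ⟨_, _, ?_, ?_, rfl⟩
    · rw [smul_det, hA, Units.val_mul]
      have := units_inv_mul_val c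
      rw [pow_two, mul_mul_mul_comm, this, one_mul]
    · rw [smul_det, hB, Units.val_mul]
      have := units_inv_mul_val c
      rw [pow_two, mul_mul_mul_comm, this, one_mul]

end PairData

/-! ### `2 × 2` matrices with scalar square -/

theorem cayley2 (A : M2 F) : A * A = A.trace • A - A.det • (1 : M2 F) := by
  ext i j
  fin_cases i <;> fin_cases j <;>
    simp [Matrix.mul_apply, Fin.sum_univ_two, Matrix.trace_fin_two, Matrix.det_fin_two] <;> ring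

theorem sq_of_trace_zero {A : M2 F} (h : A.trace = 0) : A * A = (-A.det) • (1 : M2 F) := by
  rw [cayley2, h, zero_smul, zero_sub, neg_smul]

theorem sq_scalar_cases (A : M2 F) (μ : F) (h : A * A = μ • (1 : M2 F)) :
    A = (A 0 0) • (1 : M2 F) ∨ (A.trace = 0 ∧ A.det = -μ) := by
  have e00 := congrFun (congrFun h 0) 0
  have e01 := congrFun (congrFun h 0) 1
  have e10 := congrFun (congrFun h 1) 0
  have e11 := congrFun (congrFun h 1) 1
  simp [Matrix.mul_apply, Fin.sum_univ_two] at e00 e01 e10 e11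
  by_cases ht : A 0 0 + A 1 1 = 0
  · right
    refine ⟨by rw [Matrix.trace_fin_two]; exact ht, ?_⟩
    rw [Matrix.det_fin_two]
    have : A 1 1 = -A 0 0 := by linear_combination ht
    rw [this]
    linear_combination -e00
  · left
    have h01 : A 0 1 = 0 := by
      have : A 0 1 * (A 0 0 + A 1 1) = 0 := by linear_combination e01
      rcases mul_eq_zero.mp this with h | h
      · exact h
      · exact absurd h ht
    have h10 : A 1 0 = 0 := by
      have : A 1 0 * (A 0 0 + A 1 1) = 0 := by linear_combination e10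
      rcases mul_eq_zero.mp this with h | h
      · exact h
      · exact absurd h ht
    have h11 : A 1 1 = A 0 0 := by
      have : (A 1 1 - A 0 0) * (A 0 0 + A 1 1) = 0 := by linear_combination e11 - e00
      rcases mul_eq_zero.mp this with h | h
      · linear_combination h
      · exact absurd h ht
    ext i j
    fin_cases i <;> fin_cases j <;> simp [h01, h10, h11]

theorem not_scalar_of_trace_zero (h2 : (2 : F) ≠ 0) {A : M2 F} (ht : A.trace = 0) (hd : A.det ≠ 0)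
    (c : F) : A ≠ c • (1 : M2 F) := by
  intro h
  rw [h, Matrix.trace_fin_two] at ht
  simp at ht
  have hc : c = 0 := by
    have : (2 : F) * c = 0 := by linear_combination ht
    rcases mul_eq_zero.mp this with h' | h'
    · exact absurd h' h2
    · exact h'
  rw [h, hc, zero_smul] at hd
  simp at hd

namespace PairData

variable (P : PairData F G)

/-- the central involution -/
def z : G := P.φ2 (-1)

theorem toSL_neg_one : toSL (-1 : M2 F) 1 = -1 := by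
  apply Subtype.ext
  rw [toSL_coe (by simp [Matrix.det_neg, Fintype.card_fin])]
  simp [Dm_one]

theorem Ψ_neg_one : P.Ψ 1 (-1) 1 = P.z := by
  unfold Ψ z
  rw [toSL_one, toSL_neg_one, map_one, map_one, one_mul, mul_one]

theorem Ψ_sq_of_trace_zero {A B : M2 F} {δ : Fˣ} (hA : A.det = (δ : F)) (hB : B.det = (δ : F))
    (tA : A.trace = 0) (tB : B.trace = 0) : P.Ψ A B δ * P.Ψ A B δ = 1 := by
  rw [P.Ψ_mul hA hB hA hB, sq_of_trace_zero tA, sq_of_trace_zero tB, hA, hB]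
  have := P.Ψ_scalar (-δ)
  rw [Units.val_neg, neg_sq, pow_two] at this
  exact this

theorem Ψ_ne_one_of_trace_zero (h2 : (2 : F) ≠ 0) {A B : M2 F} {δ : Fˣ} (hA : A.det = (δ : F))
    (hB : B.det = (δ : F)) (tA : A.trace = 0) : P.Ψ A B δ ≠ 1 := by
  intro h
  obtain ⟨hs, -⟩ := P.scalar_of_Ψ_eq_one hA hB h
  exact not_scalar_of_trace_zero h2 tA (by rw [hA]; exact δ.ne_zero) _ hs

theorem Ψ_ne_z_of_trace_zero (h2 : (2 : F) ≠ 0) {A B : M2 F} {δ : Fˣ} (hA : A.det = (δ : F))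
    (hB : B.det = (δ : F)) (tA : A.trace = 0) : P.Ψ A B δ ≠ P.z := by
  intro h
  rw [← P.Ψ_neg_one] at h
  obtain ⟨c, e1, -, -⟩ := P.Ψ_eq (δ := 1) (by simp) (by simp [Matrix.det_neg, Fintype.card_fin]) hA hB h.symm
  exact not_scalar_of_trace_zero h2 tA (by rw [hA]; exact δ.ne_zero) _ e1

/-- The involutions of `M`: the central one, and the pairs of matrices of trace `0`. -/
theorem invol_cases (h2 : (2 : F) ≠ 0) {A B : M2 F} {δ : Fˣ} (hA : A.det = (δ : F)) (hB : B.det = (δ : F))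
    (h : P.Ψ A B δ * P.Ψ A B δ = 1) :
    (P.Ψ A B δ = 1 ∨ P.Ψ A B δ = P.z) ∨ (A.trace = 0 ∧ B.trace = 0) := by
  have hAA : (A * A).det = ((δ * δ : Fˣ) : F) := by rw [Matrix.det_mul, hA, Units.val_mul]
  have hBB : (B * B).det = ((δ * δ : Fˣ) : F) := by rw [Matrix.det_mul, hB, Units.val_mul]
  rw [P.Ψ_mul hA hB hA hB] at h
  obtain ⟨c, eA, eB, -⟩ := P.ker_Ψ hAA hBB h
  rcases sq_scalar_cases A c eA with sA | ⟨tA, dA⟩
  · rcases sq_scalar_cases B c eB with sB | ⟨tB, dB⟩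
    · left
      -- both scalar
      have hα : (A 0 0) ^ 2 = (δ : F) := by
        rw [← hA]; conv_rhs => rw [sA]
        rw [smul_one_det]
      have hβ : (B 0 0) ^ 2 = (δ : F) := by
        rw [← hB]; conv_rhs => rw [sB]
        rw [smul_one_det]
      have hα0 : A 0 0 ≠ 0 := by
        intro h0
        rw [h0] at hα
        exact δ.ne_zero (by rw [← hα]; ring)
      set a : Fˣ := Units.mk0 (A 0 0) hα0 with ha
      have hav : (a : F) = A 0 0 := rfl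
      have hδ : δ = a ^ 2 := by
        apply Units.ext
        rw [Units.val_pow_eq_pow_val, hav, hα]
      have hcases : B 0 0 = A 0 0 ∨ B 0 0 = -A 0 0 := by
        have : (B 0 0 - A 0 0) * (B 0 0 + A 0 0) = 0 := by linear_combination hβ - hα
        rcases mul_eq_zero.mp this with h' | h'
        · left; linear_combination h'
        · right; linear_combination h'
      rcases hcases with hb | hb
      · left
        rw [sA, sB, hb, ← hav, hδ]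
        exact P.Ψ_scalar a
      · right
        have hs : (((a : F) • (1 : M2 F)) : M2 F).det = ((a ^ 2 : Fˣ) : F) := by
          rw [smul_one_det, Units.val_pow_eq_pow_val]
        have hm := P.Ψ_mul hs hs (A' := 1) (B' := -1) (δ' := 1) (by simp)
          (by simp [Matrix.det_neg, Fintype.card_fin])
        rw [P.Ψ_scalar, one_mul, P.Ψ_neg_one, Matrix.mul_one, Matrix.mul_neg, Matrix.mul_one, mul_one] at hm
        rw [hm, sA, sB, hb, ← hav, hδ, neg_smul]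
    · exfalso
      -- A scalar, B of trace 0
      have h1 : c = (A 0 0) ^ 2 := by
        have := congrFun (congrFun eA 0) 0
        rw [sA] at this
        simp at this
        rw [← this]; ring
      have h3 : (A 0 0) ^ 2 = (δ : F) := by
        rw [← hA]; conv_rhs => rw [sA]
        rw [smul_one_det]
      have : (2 : F) * (δ : F) = 0 := by
        rw [hB] at dB
        linear_combination dB - h1 - h3
      rcases mul_eq_zero.mp this with h' | h'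
      · exact h2 h'
      · exact δ.ne_zero h'
  · rcases sq_scalar_cases B c eB with sB | ⟨tB, dB⟩
    · exfalso
      have h1 : c = (B 0 0) ^ 2 := by
        have := congrFun (congrFun eB 0) 0
        rw [sB] at this
        simp at this
        rw [← this]; ring
      have h3 : (B 0 0) ^ 2 = (δ : F) := by
        rw [← hB]; conv_rhs => rw [sB]
        rw [smul_one_det]
      have : (2 : F) * (δ : F) = 0 := by
        rw [hA] at dA
        linear_combination dA - h1 - h3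
      rcases mul_eq_zero.mp this with h' | h'
      · exact h2 h'
      · exact δ.ne_zero h'
    · right
      exact ⟨tA, tB⟩

end PairData

end Cfsg.Agent.Lib.Helper46_PairGroup
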