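import Cfsg.Prelude.Def_LocalEven

set_option autoImplicit false

namespace Cfsg.Agent.Lib.Helper46_Qd

open Matrix

variable {R : Type*} [CommRing R]

/-- The affine subgroup of `SL₃(R)`: matrices with last row `(0, 0, 1)`. -/
def affineSub (R : Type*) [CommRing R] : Subgroup (Matrix.SpecialLinearGroup (Fin 3) R) where
  carrier := {M | (M : Matrix (Fin 3) (Fin 3) R) 2 0 = 0 ∧ (M : Matrix (Fin 3) (Fin 3) R) 2 1 = 0 ∧
    (M : Matrix (Fin 3) (Fin 3) R) 2 2 = 1}
  one_mem' := by simp
  mul_mem' := by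
    rintro M N ⟨hM0, hM1, hM2⟩ ⟨hN0, hN1, hN2⟩
    refine ⟨?_, ?_, ?_⟩ <;>
    simp [Matrix.SpecialLinearGroup.coe_mul, Matrix.mul_apply, Fin.sum_univ_three, hM0, hM1, hM2, hN0, hN1, hN2]
  inv_mem' := by
    rintro M ⟨hM0, hM1, hM2⟩
    have hdet := M.det_coe
    rw [Matrix.det_fin_three] at hdet
    simp only [hM0, hM1, hM2] at hdet
    refine ⟨?_, ?_, ?_⟩
    · rw [Matrix.SpecialLinearGroup.coe_inv, Matrix.adjugate_fin_three]
      simp [hM0, hM1]
    · rw [Matrix.SpecialLinearGroup.coe_inv, Matrix.adjugate_fin_three]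
      simp [hM0, hM1]
    · rw [Matrix.SpecialLinearGroup.coe_inv, Matrix.adjugate_fin_three]
      simp
      linear_combination hdet

theorem mem_affineSub_iff (M : Matrix.SpecialLinearGroup (Fin 3) R) :
    M ∈ affineSub R ↔ (M : Matrix (Fin 3) (Fin 3) R) 2 0 = 0 ∧ (M : Matrix (Fin 3) (Fin 3) R) 2 1 = 0 ∧
      (M : Matrix (Fin 3) (Fin 3) R) 2 2 = 1 := Iff.rfl

theorem closure_eq_affineSub :
    Subgroup.closure {M : Matrix.SpecialLinearGroup (Fin 3) R | (M : Matrix (Fin 3) (Fin 3) R) 2 0 = 0 ∧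
      (M : Matrix (Fin 3) (Fin 3) R) 2 1 = 0 ∧ (M : Matrix (Fin 3) (Fin 3) R) 2 2 = 1} = affineSub R :=
  Subgroup.closure_eq (affineSub R)

theorem qd_eq (p : ℕ) : Cfsg.qd p = affineSub (ZMod p) := closure_eq_affineSub

theorem qdOver_eq (F : Type*) [Field F] : Cfsg.qdOver F = affineSub F := closure_eq_affineSub

/-! ### Block and translation parts -/

/-- The affine matrix with linear part `g` and translation part `(a, b)`. -/
def mk (g : Matrix.SpecialLinearGroup (Fin 2) R) (a b : R) : affineSub R :=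
  ⟨⟨!![(g : Matrix (Fin 2) (Fin 2) R) 0 0, (g : Matrix (Fin 2) (Fin 2) R) 0 1, a;
        (g : Matrix (Fin 2) (Fin 2) R) 1 0, (g : Matrix (Fin 2) (Fin 2) R) 1 1, b;
        0, 0, 1], by
      have h := g.det_coe
      rw [Matrix.det_fin_two] at h
      rw [Matrix.det_fin_three]
      simp
      linear_combination h⟩, by
    refine ⟨?_, ?_, ?_⟩ <;> simp⟩

/-- The linear part (upper-left `2 × 2` block) of an affine matrix. -/
def blockFun (M : affineSub R) : Matrix.SpecialLinearGroup (Fin 2) R :=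
  ⟨!![((M : Matrix.SpecialLinearGroup (Fin 3) R) : Matrix (Fin 3) (Fin 3) R) 0 0,
      ((M : Matrix.SpecialLinearGroup (Fin 3) R) : Matrix (Fin 3) (Fin 3) R) 0 1;
      ((M : Matrix.SpecialLinearGroup (Fin 3) R) : Matrix (Fin 3) (Fin 3) R) 1 0,
      ((M : Matrix.SpecialLinearGroup (Fin 3) R) : Matrix (Fin 3) (Fin 3) R) 1 1], by
    obtain ⟨M, hM0, hM1, hM2⟩ := M
    have hdet := M.det_coe
    rw [Matrix.det_fin_three] at hdet
    simp only [hM0, hM1, hM2] at hdet
    rw [Matrix.det_fin_two]
    simp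
    linear_combination hdet⟩

theorem coe_blockFun (M : affineSub R) :
    (blockFun M : Matrix (Fin 2) (Fin 2) R) =
      !![((M : Matrix.SpecialLinearGroup (Fin 3) R) : Matrix (Fin 3) (Fin 3) R) 0 0,
      ((M : Matrix.SpecialLinearGroup (Fin 3) R) : Matrix (Fin 3) (Fin 3) R) 0 1;
      ((M : Matrix.SpecialLinearGroup (Fin 3) R) : Matrix (Fin 3) (Fin 3) R) 1 0,
      ((M : Matrix.SpecialLinearGroup (Fin 3) R) : Matrix (Fin 3) (Fin 3) R) 1 1] := rfl

/-- The translation part of an affine matrix. -/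
def transFun (M : affineSub R) : R × R :=
  (((M : Matrix.SpecialLinearGroup (Fin 3) R) : Matrix (Fin 3) (Fin 3) R) 0 2,
   ((M : Matrix.SpecialLinearGroup (Fin 3) R) : Matrix (Fin 3) (Fin 3) R) 1 2)

theorem mk_blockFun_transFun (M : affineSub R) : mk (blockFun M) (transFun M).1 (transFun M).2 = M := by
  obtain ⟨M, hM0, hM1, hM2⟩ := M
  apply Subtype.ext
  apply Subtype.ext
  ext i j
  fin_cases i <;> fin_cases j <;> simp [mk, blockFun, transFun, hM0, hM1, hM2]

theorem blockFun_mk (g : Matrix.SpecialLinearGroup (Fin 2) R) (a b : R) : blockFun (mk g a b) = g := by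
  apply Subtype.ext
  ext i j
  fin_cases i <;> fin_cases j <;> simp [mk, blockFun]

theorem transFun_mk (g : Matrix.SpecialLinearGroup (Fin 2) R) (a b : R) : transFun (mk g a b) = (a, b) := by
  simp [mk, transFun]

/-- `affineSub R` is in bijection with `SL₂(R) × R²`. -/
def equivProd : affineSub R ≃ Matrix.SpecialLinearGroup (Fin 2) R × (R × R) where
  toFun M := (blockFun M, transFun M)
  invFun x := mk x.1 x.2.1 x.2.2
  left_inv M := mk_blockFun_transFun M
  right_inv x := by
    obtain ⟨g, a, b⟩ := x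
    simp [blockFun_mk, transFun_mk]

theorem card_affineSub :
    Nat.card (affineSub R) = Nat.card (Matrix.SpecialLinearGroup (Fin 2) R) * (Nat.card R * Nat.card R) := by
  rw [Nat.card_congr (equivProd (R := R)), Nat.card_prod, Nat.card_prod]

/-- The linear part as a group homomorphism. -/
def block : affineSub R →* Matrix.SpecialLinearGroup (Fin 2) R where
  toFun := blockFun
  map_one' := by
    apply Subtype.ext
    ext i j
    fin_cases i <;> fin_cases j <;> simp [blockFun]
  map_mul' := by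
    intro M N
    apply Subtype.ext
    rw [Matrix.SpecialLinearGroup.coe_mul, coe_blockFun, coe_blockFun, coe_blockFun]
    obtain ⟨M, hM0, hM1, hM2⟩ := M
    obtain ⟨N, hN0, hN1, hN2⟩ := N
    ext i j
    fin_cases i <;> fin_cases j <;>
    simp [Matrix.SpecialLinearGroup.coe_mul, Matrix.mul_apply, Fin.sum_univ_three, hN0, hN1]

theorem block_apply (M : affineSub R) : block M = blockFun M := rfl

theorem block_surjective : Function.Surjective (block (R := R)) := fun g => ⟨mk g 0 0, blockFun_mk g 0 0⟩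

/-! ### The action on the affine plane -/

/-- The action of an affine matrix on a point of the plane `R²` (the points `(x, y, 1)` of `R³`). -/
def affSmul (M : affineSub R) (v : R × R) : R × R :=
    (((M : Matrix.SpecialLinearGroup (Fin 3) R) : Matrix (Fin 3) (Fin 3) R) 0 0 * v.1 +
      ((M : Matrix.SpecialLinearGroup (Fin 3) R) : Matrix (Fin 3) (Fin 3) R) 0 1 * v.2 +
      ((M : Matrix.SpecialLinearGroup (Fin 3) R) : Matrix (Fin 3) (Fin 3) R) 0 2,
     ((M : Matrix.SpecialLinearGroup (Fin 3) R) : Matrix (Fin 3) (Fin 3) R) 1 0 * v.1 +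
      ((M : Matrix.SpecialLinearGroup (Fin 3) R) : Matrix (Fin 3) (Fin 3) R) 1 1 * v.2 +
      ((M : Matrix.SpecialLinearGroup (Fin 3) R) : Matrix (Fin 3) (Fin 3) R) 1 2)

theorem affSmul_one (v : R × R) : affSmul (1 : affineSub R) v = v := by
  obtain ⟨x, y⟩ := v
  simp [affSmul]

theorem affSmul_mul (M N : affineSub R) (v : R × R) : affSmul (M * N) v = affSmul M (affSmul N v) := by
  obtain ⟨M, hM0, hM1, hM2⟩ := M
  obtain ⟨N, hN0, hN1, hN2⟩ := N
  obtain ⟨x, y⟩ := v
  simp only [affSmul, Subgroup.coe_mul, Matrix.SpecialLinearGroup.coe_mul, Matrix.mul_apply, Fin.sum_univ_three,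
    hN0, hN1, hN2, mul_zero, add_zero, mul_one, Prod.mk.injEq]
  constructor <;> ring

/-- The action of the affine group on the plane. -/
@[instance_reducible]
def affineAction : MulAction (affineSub R) (R × R) where
  smul := affSmul
  one_smul := affSmul_one
  mul_smul := affSmul_mul

/-- The permutation representation on the affine plane. -/
def affinePermHom : affineSub R →* Equiv.Perm (R × R) :=
  letI := affineAction (R := R)
  MulAction.toPermHom (affineSub R) (R × R)

theorem affinePermHom_apply (M : affineSub R) (v : R × R) :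
    affinePermHom M v = affSmul M v := rfl

theorem affinePermHom_injective : Function.Injective (affinePermHom (R := R)) := by
  rw [injective_iff_map_eq_one]
  intro M hM
  have h00 := congrArg (fun σ : Equiv.Perm (R × R) => σ (0, 0)) hM
  have h10 := congrArg (fun σ : Equiv.Perm (R × R) => σ (1, 0)) hM
  have h01 := congrArg (fun σ : Equiv.Perm (R × R) => σ (0, 1)) hM
  simp only [affinePermHom_apply, affSmul, Equiv.Perm.coe_one, id_eq, Prod.mk.injEq,
    mul_zero, mul_one, add_zero, zero_add] at h00 h10 h01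
  obtain ⟨M, hM0, hM1, hM2⟩ := M
  simp only at h00 h10 h01
  obtain ⟨a1, a2⟩ := h00
  obtain ⟨b1, b2⟩ := h10
  obtain ⟨c1, c2⟩ := h01
  rw [a1, add_zero] at b1 c1
  rw [a2, add_zero] at b2 c2
  apply Subtype.ext
  apply Subtype.ext
  ext i j
  fin_cases i <;> fin_cases j <;> simp [*]

end Cfsg.Agent.Lib.Helper46_Qd
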