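import Mathlib
import Cfsg.Agent.Lib.Helper40_SylowLarge

set_option autoImplicit false

/-!
REE-SYLP package GL7CYC (helper37's market): for a prime `p ≠ 3` dividing `q² - q + 1`, every `p`-subgroup of
`GL_7(q)` is cyclic.
-/

open scoped MatrixGroups

namespace Cfsg.Agent.Lib.Helper46_ReeSylP_GL7CYC

open Cfsg.Agent.Lib.Helper40_SylowLarge

/-- `q` has order 6 modulo `p` and `p ∤ q` -/
theorem order_six (q p : ℕ) [Fact p.Prime] (hq : 2 ≤ q) (hp3 : p ≠ 3) (hp : p ∣ q ^ 2 - q + 1) :
    ¬ p ∣ q ∧ orderOf (q : ZMod p) = 6 := by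
  have hpp : p.Prime := Fact.out
  have hle : q ≤ q ^ 2 := by nlinarith
  -- the relation in `ZMod p`
  have hx : (q : ZMod p) ^ 2 - (q : ZMod p) + 1 = 0 := by
    have := (ZMod.natCast_eq_zero_iff (q ^ 2 - q + 1) p).mpr hp
    rw [Nat.cast_add, Nat.cast_sub hle] at this
    simpa using this
  set x : ZMod p := (q : ZMod p) with hxdef
  have h10 : (1 : ZMod p) ≠ 0 := one_ne_zero
  have hnd : ¬ p ∣ q := by
    intro hd
    have h0 : x = 0 := (ZMod.natCast_eq_zero_iff q p).mpr hd
    rw [h0] at hx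
    apply h10
    linear_combination hx
  have hx3 : x ^ 3 = -1 := by linear_combination (x + 1) * hx
  have hx6 : x ^ 6 = 1 := by
    have : x ^ 6 = (x ^ 3) ^ 2 := by ring
    rw [this, hx3]
    ring
  -- `p ≠ 2`
  have hp2 : p ≠ 2 := by
    rintro rfl
    have heven : Even (q ^ 2 - q) := by
      have : q ^ 2 - q = q * (q - 1) := by
        rw [Nat.mul_sub, mul_one, sq]
      rw [this]
      exact Nat.even_mul_pred_self q
    obtain ⟨k, hk⟩ := heven
    omega
  have h2ne : (2 : ZMod p) ≠ 0 := by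
    intro h
    have h2 : ((2 : ℕ) : ZMod p) = 0 := by exact_mod_cast h
    have := (ZMod.natCast_eq_zero_iff 2 p).mp h2
    exact hp2 ((Nat.prime_dvd_prime_iff_eq hpp Nat.prime_two).mp this)
  have h3ne : (3 : ZMod p) ≠ 0 := by
    intro h
    have h2 : ((3 : ℕ) : ZMod p) = 0 := by exact_mod_cast h
    have := (ZMod.natCast_eq_zero_iff 3 p).mp h2
    exact hp3 ((Nat.prime_dvd_prime_iff_eq hpp Nat.prime_three).mp this)
  refine ⟨hnd, ?_⟩
  have hdvd : orderOf x ∣ 6 := orderOf_dvd_of_pow_eq_one hx6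
  have hmem : orderOf x ∈ Nat.divisors 6 := Nat.mem_divisors.mpr ⟨hdvd, by norm_num⟩
  have hdiv : Nat.divisors 6 = {1, 2, 3, 6} := by decide
  rw [hdiv] at hmem
  simp only [Finset.mem_insert, Finset.mem_singleton] at hmem
  rcases hmem with h | h | h | h
  · -- order 1
    exfalso
    have h1 : x = 1 := orderOf_eq_one_iff.mp h
    rw [h1] at hx
    apply h10
    linear_combination hx
  · -- order 2
    exfalso
    have h1 : x ^ 2 = 1 := by rw [← h]; exact pow_orderOf_eq_one x
    have h2 : x = 2 := by linear_combination h1 - hx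
    rw [h2] at h1
    apply h3ne
    linear_combination h1
  · -- order 3
    exfalso
    have h1 : x ^ 3 = 1 := by rw [← h]; exact pow_orderOf_eq_one x
    apply h2ne
    linear_combination hx3 - h1
  · exact h

/-- the `p`-part of `|GL_7(q)|` -/
theorem factorization_gl7 (q p : ℕ) [Fact p.Prime] (hq : 2 ≤ q) (hnd : ¬ p ∣ q)
    (h6 : orderOf (q : ZMod p) = 6) :
    (∏ i : Fin 7, (q ^ 7 - q ^ (i : ℕ))).factorization p = padicValNat p (q ^ 6 - 1) := by
  have hpp : p.Prime := Fact.out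
  have hq1 : 1 ≤ q := by omega
  rw [Fin.prod_univ_eq_prod_range (fun i => q ^ 7 - q ^ i) 7]
  have hne : ∀ i ∈ Finset.range 7, q ^ 7 - q ^ i ≠ 0 := by
    intro i hi
    have : q ^ i < q ^ 7 := Nat.pow_lt_pow_right (by omega) (Finset.mem_range.mp hi)
    omega
  rw [Nat.factorization_prod hne, Finsupp.finsetSum_apply]
  have h1 : ∀ i ∈ Finset.range 7, (q ^ 7 - q ^ i).factorization p =
      if i = 1 then padicValNat p (q ^ 6 - 1) else 0 := by
    intro i hi
    have hi' := Finset.mem_range.mp hi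
    have e1 : q ^ 7 - q ^ i = q ^ i * (q ^ (7 - i) - 1) := by
      have : 7 = i + (7 - i) := by omega
      conv_lhs => rw [this, pow_add]
      rw [Nat.mul_sub, mul_one]
    have h0 : q ^ (7 - i) - 1 ≠ 0 := by
      have : 1 < q ^ (7 - i) := Nat.one_lt_pow (by omega) (by omega)
      omega
    rw [e1, Nat.factorization_mul (pow_ne_zero _ (by omega)) h0, Finsupp.add_apply,
      Nat.factorization_pow, Finsupp.smul_apply, Nat.factorization_eq_zero_of_not_dvd hnd,
      smul_zero, zero_add, Nat.factorization_def _ hpp]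
    split_ifs with hi1
    · subst hi1
      rfl
    · apply padicValNat.eq_zero_of_not_dvd
      rw [dvd_pow_sub_one_iff p hq1, h6]
      omega
  rw [Finset.sum_congr rfl h1, Finset.sum_ite_eq' (Finset.range 7) 1, if_pos (by simp)]

/-- every Sylow `p`-subgroup of `GL_7(q)` is cyclic -/
theorem sylow_gl7_cyclic {F : Type*} [Field F] [Fintype F] (p : ℕ) [Fact p.Prime] (hp3 : p ≠ 3)
    (hp : p ∣ Fintype.card F ^ 2 - Fintype.card F + 1) (P : Sylow p (GL (Fin 7) F)) :
    IsCyclic (P : Subgroup (GL (Fin 7) F)) := by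
  classical
  have hq2 : 2 ≤ Fintype.card F := Fintype.one_lt_card
  obtain ⟨hnd, h6⟩ := order_six (Fintype.card F) p hq2 hp3 hp
  set a := padicValNat p (Fintype.card F ^ 6 - 1) with ha
  obtain ⟨p₀, hp₀⟩ := CharP.exists F
  have := hp₀
  have : Fact p₀.Prime := ⟨CharP.char_is_prime F p₀⟩
  have : NeZero 6 := ⟨by norm_num⟩
  have hfr : Module.finrank F (FiniteField.Extension F p₀ 6) = 6 :=
    FiniteField.finrank_extension F p₀ 6
  have hKcard : Nat.card (FiniteField.Extension F p₀ 6)ˣ = Fintype.card F ^ 6 - 1 := by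
    rw [Nat.card_units, FiniteField.natCard_extension, Nat.card_eq_fintype_card]
  obtain ⟨f, hf⟩ := exists_zmod_embedding (G := (FiniteField.Extension F p₀ 6)ˣ) (N := p ^ a)
    (by rw [hKcard]; exact pow_padicValNat_dvd)
  obtain ⟨Φ, hΦ⟩ := exists_torus_embedding (F := F) (K := FiniteField.Extension F p₀ 6) 1 7
    (by rw [hfr]; norm_num)
  let g : Multiplicative (ZMod (p ^ a)) →* (Fin 1 → (FiniteField.Extension F p₀ 6)ˣ) :=
    { toFun := fun x _ => f x
      map_one' := by
        funext i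
        exact map_one f
      map_mul' := by
        intro x y
        funext i
        exact map_mul f x y }
  have hg : Function.Injective g := by
    intro x y hxy
    exact hf (congrFun hxy 0)
  have hpa : NeZero (p ^ a) := ⟨pow_ne_zero _ (Fact.out : p.Prime).ne_zero⟩
  obtain ⟨e⟩ := sylow_mulEquiv_of_injective p (Φ.comp g) (hΦ.comp hg) (by
    rw [Matrix.card_GL_field, factorization_gl7 _ p hq2 hnd h6, Nat.card_eq_fintype_card,
      Fintype.card_multiplicative, ZMod.card]) P
  exact isCyclic_of_surjective e.symm.toMonoidHom e.symm.surjective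

/-- PKG GL7CYC. -/
theorem gl7_pgroup_cyclic {n : Type*} [Fintype n] [DecidableEq n] (hn : Fintype.card n = 7)
    {F : Type*} [Field F] [Fintype F] (p : ℕ) [Fact p.Prime] (hp3 : p ≠ 3)
    (hp : p ∣ Fintype.card F ^ 2 - Fintype.card F + 1) (Q : Subgroup (GL n F)) (hQ : IsPGroup p Q) :
    IsCyclic Q := by
  classical
  have e : n ≃ Fin 7 := Fintype.equivFinOfCardEq hn
  let ρ : GL n F ≃* GL (Fin 7) F := Units.mapEquiv (Matrix.reindexAlgEquiv F F e).toMulEquiv
  have hQ' : IsPGroup p (Q.map ρ.toMonoidHom) := hQ.map ρ.toMonoidHom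
  obtain ⟨P, hP⟩ := hQ'.exists_le_sylow
  have : IsCyclic (P : Subgroup (GL (Fin 7) F)) := sylow_gl7_cyclic p hp3 hp P
  -- `Q ≃ Q.map ρ ≃ (Q.map ρ).subgroupOf P`, a subgroup of a cyclic group
  have e1 : Q ≃* Q.map ρ.toMonoidHom := Q.equivMapOfInjective ρ.toMonoidHom ρ.injective
  have e2 : ((Q.map ρ.toMonoidHom).subgroupOf (P : Subgroup (GL (Fin 7) F))) ≃* Q.map ρ.toMonoidHom :=
    Subgroup.subgroupOfEquivOfLe hP
  have e3 : ((Q.map ρ.toMonoidHom).subgroupOf (P : Subgroup (GL (Fin 7) F))) ≃* Q := e2.trans e1.symm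
  exact isCyclic_of_surjective e3.toMonoidHom e3.surjective

end Cfsg.Agent.Lib.Helper46_ReeSylP_GL7CYC
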