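import Mathlib
import Cfsg.Agent.Lib.Helper72_SLnUceDefs

/-!
# S2086-HW (package of helper72's S2086 market): the four index step
-/

set_option autoImplicit false

namespace Cfsg.Agent.Lib.Helper46_S2086_HW

open Matrix Cfsg.Agent.Lib.Helper81_UceA Cfsg.Agent.Lib.Helper66_StCalc Cfsg.Agent.Lib.Helper72_SLnUce

/-- The Hall–Witt type identity behind HW: with `p = [u,v]`, `r = [v,w]`, `q = [p,w]`, if `u, w` commute,
`p, r` commute and `r, q` commute, then `[u, r] = q`. -/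
theorem hw_group {E : Type*} [Group E] (u v w p r q : E) (hp : p = u * v * u⁻¹ * v⁻¹)
    (hr : r = v * w * v⁻¹ * w⁻¹) (hq : q = p * w * p⁻¹ * w⁻¹)
    (h1 : u * w = w * u) (h2 : p * r = r * p) (h3 : r * q = q * r) :
    u * r * u⁻¹ * r⁻¹ = q := by
  have e1 : u * w * u⁻¹ = w := by rw [h1]; group
  have e2 : u * r * u⁻¹ = (p * v) * w * (p * v)⁻¹ * w⁻¹ := by
    have h : u * r * u⁻¹ = (u * v * u⁻¹) * (u * w * u⁻¹) * (u * v * u⁻¹)⁻¹ * (u * w * u⁻¹)⁻¹ := by
      rw [hr]; group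
    rw [h, e1]
    have h' : u * v * u⁻¹ = p * v := by rw [hp]; group
    rw [h']
  have e3 : (p * v) * w * (p * v)⁻¹ * w⁻¹ = p * r * p⁻¹ * q := by rw [hr, hq]; group
  have e4 : p * r * p⁻¹ = r := by rw [h2]; group
  rw [e2, e3, e4, h3]
  group

variable {ι : Type*} [Fintype ι] [DecidableEq ι] {K : Type*} [Field K] {E : Type*} [Group E]
  {π : E →* Matrix.SpecialLinearGroup ι K}

/-- HW (M): the four index step. -/
theorem HW (hc : CExt π) (hL : LiftComm π) {i k l j : ι} (hik : i ≠ k) (hil : i ≠ l) (hij : i ≠ j)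
    (hkl : k ≠ l) (hkj : k ≠ j) (hlj : l ≠ j) (a b c : K) :
    ff hc.surj i k j a (b * c) = ff hc.surj i l j (a * b) c := by
  obtain ⟨u, hu⟩ := hc.surj (TT ι K i k a)
  obtain ⟨v, hv⟩ := hc.surj (TT ι K k l b)
  obtain ⟨w, hw⟩ := hc.surj (TT ι K l j c)
  have hp : π (u * v * u⁻¹ * v⁻¹) = TT ι K i l (a * b) := by
    rw [map_mul, map_mul, map_mul, map_inv, map_inv, hu, hv]
    exact (stRelAB_TT (ι := ι) (K := K)).comm3 i k l a b hik hkl hil
  have hr : π (v * w * v⁻¹ * w⁻¹) = TT ι K k j (b * c) := by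
    rw [map_mul, map_mul, map_mul, map_inv, map_inv, hv, hw]
    exact (stRelAB_TT (ι := ι) (K := K)).comm3 k l j b c hkl hlj hkj
  have hq : π ((u * v * u⁻¹ * v⁻¹) * w * (u * v * u⁻¹ * v⁻¹)⁻¹ * w⁻¹) = TT ι K i j (a * b * c) := by
    rw [map_mul, map_mul, map_mul, map_inv (f := π) w, map_inv, hp, hw]
    exact (stRelAB_TT (ι := ι) (K := K)).comm3 i l j (a * b) c hil hlj hij
  unfold ff
  rw [cm_eq hc hu hr, cm_eq hc hp hw]
  apply hw_group u v w _ _ _ rfl rfl rfl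
  · exact hL i k l j a c u w hik hlj hkl hij hu hw
  · exact hL i l k j (a * b) (b * c) _ _ hil hkj hkl.symm hij hp hr
  · exact hL k j i j (b * c) (a * b * c) _ _ hkj hij hij.symm hkj hr hq

end Cfsg.Agent.Lib.Helper46_S2086_HW
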