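import Mathlib
import Cfsg.Agent.Lib.Helper72_SLnUceDefs

/-!
# S2086-YREL (package of helper72's S2086 market): the lifted root elements

`y i j t := ff i m j t 1` (any `m ∉ {i, j}`) satisfy the Steinberg relations (A), (B) and lift `TT`.
-/

set_option autoImplicit false

namespace Cfsg.Agent.Lib.Helper46_S2086_YREL

open Matrix Cfsg.Agent.Lib.Helper81_UceA Cfsg.Agent.Lib.Helper66_StCalc Cfsg.Agent.Lib.Helper72_SLnUce

variable {ι : Type*} [Fintype ι] [DecidableEq ι] {K : Type*} [Field K] {E : Type*} [Group E]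
  {π : E →* Matrix.SpecialLinearGroup ι K}

omit [DecidableEq ι] in
/-- with at least three indices there is an index different from two given ones -/
theorem exists_third (h3 : 3 ≤ Fintype.card ι) (i j : ι) : ∃ m, m ≠ i ∧ m ≠ j := by
  classical
  by_contra h
  push_neg at h
  have h2 : Fintype.card ι ≤ 2 := by
    have hsub : (Finset.univ : Finset ι) ⊆ {i, j} := by
      intro m _
      by_cases hm : m = i
      · simp [hm]
      · simp [h m hm]
    calc Fintype.card ι = (Finset.univ : Finset ι).card := rfl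
      _ ≤ ({i, j} : Finset ι).card := Finset.card_le_card hsub
      _ ≤ 2 := Finset.card_le_two
  omega

/-- additivity of `ff` in the first variable (half of FF_ADD) -/
theorem ff_add_left (hc : CExt π) (hL : LiftComm π) {i k j : ι} (hik : i ≠ k) (hkj : k ≠ j)
    (hij : i ≠ j) (a a' b : K) :
    ff hc.surj i k j (a + a') b = ff hc.surj i k j a b * ff hc.surj i k j a' b := by
  obtain ⟨u, hu⟩ := hc.surj (TT ι K i k a)
  have h1 : ff hc.surj i k j (a + a') b =
      u * ff hc.surj i k j a' b * u⁻¹ * ff hc.surj i k j a b := by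
    unfold ff
    rw [← (stRelAB_TT (ι := ι) (K := K)).add i k a a']
    exact cm_mul_left hc _ _ _ hu
  have h2 : u * ff hc.surj i k j a' b = ff hc.surj i k j a' b * u :=
    hL i k i j a (a' * b) _ _ hik hij hik.symm hij hu (map_ff hc hik hkj hij a' b)
  have h3 : ff hc.surj i k j a' b * ff hc.surj i k j a b =
      ff hc.surj i k j a b * ff hc.surj i k j a' b :=
    hL i j i j (a' * b) (a * b) _ _ hij hij hij.symm hij (map_ff hc hik hkj hij a' b)
      (map_ff hc hik hkj hij a b)
  rw [h1, h2, mul_assoc (ff hc.surj i k j a' b) u, mul_inv_cancel, mul_one, h3]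

/-- YREL (M): the lifted root elements. -/
theorem YREL (hc : CExt π) (h3 : 3 ≤ Fintype.card ι) (hL : LiftComm π)
    (hbal : ∀ (i k j : ι) (a b : K), i ≠ k → k ≠ j → i ≠ j →
      ff hc.surj i k j a b = ff hc.surj i k j (a * b) 1)
    (hmid : ∀ (i k l j : ι) (a b : K), i ≠ k → k ≠ j → i ≠ l → l ≠ j → i ≠ j →
      ff hc.surj i k j a b = ff hc.surj i l j a b) :
    ∃ y : ι → ι → K → E, StRelAB y ∧ ∀ i j t, π (y i j t) = TT ι K i j t := by
  classical
  choose m hmi hmj using exists_third h3
  obtain ⟨y, hy⟩ : ∃ y : ι → ι → K → E,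
      ∀ i j t, y i j t = if i = j then 1 else ff hc.surj i (m i j) j t 1 :=
    ⟨_, fun _ _ _ => rfl⟩
  have hyd : ∀ i t, y i i t = 1 := by
    intro i t
    rw [hy, if_pos rfl]
  have hyn : ∀ i j t, i ≠ j → y i j t = ff hc.surj i (m i j) j t 1 := by
    intro i j t hij
    rw [hy, if_neg hij]
  have hπ : ∀ i j t, π (y i j t) = TT ι K i j t := by
    intro i j t
    by_cases hij : i = j
    · subst hij
      rw [hyd, map_one, TT_diag]
    · rw [hyn i j t hij, map_ff hc (hmi i j).symm (hmj i j) hij, mul_one]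
  refine ⟨y, ⟨hyd, ?_, ?_, ?_⟩, hπ⟩
  · intro i j t u
    by_cases hij : i = j
    · subst hij
      rw [hyd, hyd, hyd, mul_one]
    · rw [hyn i j t hij, hyn i j u hij, hyn i j (t + u) hij]
      exact (ff_add_left hc hL (hmi i j).symm (hmj i j) hij t u 1).symm
  · intro i j k l t u hij hkl hil hjk
    exact hL i j k l t u _ _ hij hkl hjk hil (hπ i j t) (hπ k l u)
  · intro i j l t u hij hjl hil
    rw [← cm_eq hc (hπ i j t) (hπ j l u), hyn i l (t * u) hil]
    have h1 : cm hc.surj (TT ι K i j t) (TT ι K j l u) = ff hc.surj i j l t u := rfl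
    rw [h1, hbal i j l t u hij hjl hil]
    exact hmid i j (m i l) l (t * u) 1 hij hjl (hmi i l).symm (hmj i l) hil

end Cfsg.Agent.Lib.Helper46_S2086_YREL
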