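import Mathlib

set_option autoImplicit false

open scoped commutatorElement

namespace Cfsg.Agent.Lib.Helper46_S2113_UCLASS

variable {G K : Type*} [Group G] [Field K]

/-- if `a * b = c * (b * a)` then the commutator of `a` and `b` is `c`. -/
theorem comm_eq_of_mul_eq {a b c : G} (h : a * b = c * (b * a)) : ⁅a, b⁆ = c := by
  rw [commutatorElement_def]
  have : a * b * a⁻¹ * b⁻¹ = (a * b) * (b * a)⁻¹ := by group
  rw [this, h]
  group

theorem w_zero (s : K →+* K) (w : K → K → K → G)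
    (w_mul : ∀ t u v t' u' v' : K, w t u v * w t' u' v' =
      w (t + t') (u + u' - t * s t') (v + v' - t' * u + t * t' * s t' - t ^ 2 * s t')) :
    w 0 0 0 = 1 := by
  have h := w_mul 0 0 0 0 0 0
  simp only [add_zero, map_zero, mul_zero, sub_zero, ne_eq, OfNat.ofNat_ne_zero, not_false_eq_true,
    zero_pow] at h
  exact mul_eq_left.mp h

theorem w_inv (s : K →+* K) (w : K → K → K → G)
    (w_mul : ∀ t u v t' u' v' : K, w t u v * w t' u' v' =
      w (t + t') (u + u' - t * s t') (v + v' - t' * u + t * t' * s t' - t ^ 2 * s t'))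
    (t u v : K) :
    (w t u v)⁻¹ = w (-t) (-u - t * s t) (-v - t * u - 2 * t ^ 2 * s t) := by
  symm
  apply eq_inv_of_mul_eq_one_right
  rw [w_mul, ← w_zero s w w_mul]
  congr 1
  · ring
  · rw [map_neg]; ring
  · rw [map_neg]; ring

/-- the general commutator formula. -/
theorem comm_w (s : K →+* K) (w : K → K → K → G)
    (w_mul : ∀ t u v t' u' v' : K, w t u v * w t' u' v' =
      w (t + t') (u + u' - t * s t') (v + v' - t' * u + t * t' * s t' - t ^ 2 * s t'))
    (t u v t' u' v' : K) :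
    ⁅w t u v, w t' u' v'⁆ = w 0 (t' * s t - t * s t')
      ((v + v' - t' * u + t * t' * s t' - t ^ 2 * s t')
        - (v' + v - t * u' + t' * t * s t - t' ^ 2 * s t)
        + (t + t') * (t' * s t - t * s t')) := by
  apply comm_eq_of_mul_eq
  rw [w_mul, w_mul, w_mul]
  congr 1
  · ring
  · ring
  · ring

/-- the subgroup `{w 0 u v}`. -/
def V1 (s : K →+* K) (w : K → K → K → G)
    (w_mul : ∀ t u v t' u' v' : K, w t u v * w t' u' v' =
      w (t + t') (u + u' - t * s t') (v + v' - t' * u + t * t' * s t' - t ^ 2 * s t')) :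
    Subgroup G where
  carrier := {g | ∃ u v : K, g = w 0 u v}
  mul_mem' := by
    rintro a b ⟨u, v, rfl⟩ ⟨u', v', rfl⟩
    refine ⟨u + u' - 0 * s 0, v + v' - 0 * u + 0 * 0 * s 0 - 0 ^ 2 * s 0, ?_⟩
    rw [w_mul, add_zero]
  one_mem' := ⟨0, 0, (w_zero s w w_mul).symm⟩
  inv_mem' := by
    rintro a ⟨u, v, rfl⟩
    refine ⟨-u - 0 * s 0, -v - 0 * u - 2 * 0 ^ 2 * s 0, ?_⟩
    rw [w_inv s w w_mul, neg_zero]

/-- the subgroup `{w 0 0 v}`. -/
def V2 (s : K →+* K) (w : K → K → K → G)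
    (w_mul : ∀ t u v t' u' v' : K, w t u v * w t' u' v' =
      w (t + t') (u + u' - t * s t') (v + v' - t' * u + t * t' * s t' - t ^ 2 * s t')) :
    Subgroup G where
  carrier := {g | ∃ v : K, g = w 0 0 v}
  mul_mem' := by
    rintro a b ⟨v, rfl⟩ ⟨v', rfl⟩
    refine ⟨v + v' - 0 * 0 + 0 * 0 * s 0 - 0 ^ 2 * s 0, ?_⟩
    rw [w_mul]
    congr 1
    · ring
    · simp
  one_mem' := ⟨0, (w_zero s w w_mul).symm⟩
  inv_mem' := by
    rintro a ⟨v, rfl⟩
    refine ⟨-v - 0 * 0 - 2 * 0 ^ 2 * s 0, ?_⟩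
    rw [w_inv s w w_mul]
    congr 1
    · simp
    · simp

theorem u_class (s : K →+* K) (w : K → K → K → G)
    (w_mul : ∀ t u v t' u' v' : K, w t u v * w t' u' v' =
      w (t + t') (u + u' - t * s t') (v + v' - t' * u + t * t' * s t' - t ^ 2 * s t'))
    (U : Subgroup G) (hU : ∀ g, g ∈ U ↔ ∃ t u v : K, g = w t u v) :
    U.lowerCentralSeries 3 = ⊥ := by
  have h1 : U.lowerCentralSeries 1 ≤ V1 s w w_mul := by
    rw [Subgroup.lowerCentralSeries_succ, Subgroup.lowerCentralSeries_zero, Subgroup.commutator_le]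
    intro a ha b hb
    obtain ⟨t, u, v, rfl⟩ := (hU a).1 ha
    obtain ⟨t', u', v', rfl⟩ := (hU b).1 hb
    rw [comm_w s w w_mul]
    exact ⟨_, _, rfl⟩
  have h2 : U.lowerCentralSeries 2 ≤ V2 s w w_mul := by
    rw [Subgroup.lowerCentralSeries_succ]
    refine (Subgroup.commutator_mono h1 le_rfl).trans ?_
    rw [Subgroup.commutator_le]
    intro a ha b hb
    obtain ⟨u, v, rfl⟩ := ha
    obtain ⟨t', u', v', rfl⟩ := (hU b).1 hb
    rw [comm_w s w w_mul]
    have h0 : t' * s 0 - 0 * s t' = 0 := by simp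
    rw [h0]
    exact ⟨_, rfl⟩
  rw [Subgroup.lowerCentralSeries_succ, eq_bot_iff]
  refine (Subgroup.commutator_mono h2 le_rfl).trans ?_
  rw [Subgroup.commutator_le]
  intro a ha b hb
  obtain ⟨v, rfl⟩ := ha
  obtain ⟨t', u', v', rfl⟩ := (hU b).1 hb
  rw [comm_w s w w_mul, Subgroup.mem_bot, ← w_zero s w w_mul]
  congr 1
  · simp
  · simp only [map_zero]; ring

end Cfsg.Agent.Lib.Helper46_S2113_UCLASS
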