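import Mathlib
import Cfsg.Agent.Lib.Helper46_S2113_UCLASS

set_option autoImplicit false

open scoped commutatorElement

namespace Cfsg.Agent.Lib.Helper46_S2113_UDERGRP

open Cfsg.Agent.Lib.Helper46_S2113_UCLASS

variable {G K : Type*} [Group G] [Field K]

theorem w_zero_mem_commutator (s : K →+* K) (w : K → K → K → G)
    (w_mul : ∀ t u v t' u' v' : K, w t u v * w t' u' v' =
      w (t + t') (u + u' - t * s t') (v + v' - t' * u + t * t' * s t' - t ^ 2 * s t'))
    (U : Subgroup G) (hU : ∀ g, g ∈ U ↔ ∃ t u v : K, g = w t u v)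
    (hspan : AddSubgroup.closure {y : K | ∃ t t' : K, y = t' * s t - t * s t'} = ⊤) (u v : K) :
    w 0 u v ∈ ⁅U, U⁆ := by
  have hmem : ∀ t u v : K, w t u v ∈ U := fun t u v => (hU _).2 ⟨t, u, v, rfl⟩
  -- step 1: the central part
  have h1 : ∀ v : K, w 0 0 v ∈ ⁅U, U⁆ := by
    intro v
    have hc := Subgroup.commutator_mem_commutator (hmem 1 0 0) (hmem 0 v 0)
    rw [comm_w s w w_mul] at hc
    have e1 : (0 : K) * s 1 - 1 * s 0 = 0 := by simp
    have e2 : ((0 : K) + 0 - 0 * 0 + 1 * 0 * s 0 - 1 ^ 2 * s 0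
        - (0 + 0 - 1 * v + 0 * 1 * s 1 - 0 ^ 2 * s 1) + (1 + 0) * (0 * s 1 - 1 * s 0)) = v := by
      simp
    rw [e2, e1] at hc
    exact hc
  -- the product rule inside `{w 0 u v}`
  have hm : ∀ y v y' v' : K, w 0 y v * w 0 y' v' = w 0 (y + y') (v + v') := by
    intro y v y' v'
    rw [w_mul]
    congr 1
    · ring
    · simp
    · simp
  -- step 2: generators
  have h2 : ∀ t t' v : K, w 0 (t' * s t - t * s t') v ∈ ⁅U, U⁆ := by
    intro t t' v
    have hc := Subgroup.commutator_mem_commutator (hmem t 0 0) (hmem t' 0 0)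
    rw [comm_w s w w_mul] at hc
    have := Subgroup.mul_mem _ hc (h1 (v - ((0 + 0 - t' * 0 + t * t' * s t' - t ^ 2 * s t')
        - (0 + 0 - t * 0 + t' * t * s t - t' ^ 2 * s t)
        + (t + t') * (t' * s t - t * s t'))))
    rw [hm] at this
    convert this using 2 <;> ring
  -- step 3: closure induction
  have h3 : ∀ y : K, ∀ v : K, w 0 y v ∈ ⁅U, U⁆ := by
    intro y
    have hy : y ∈ AddSubgroup.closure {y : K | ∃ t t' : K, y = t' * s t - t * s t'} := by
      rw [hspan]; trivial
    induction hy using AddSubgroup.closure_induction with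
    | mem x hx =>
      obtain ⟨t, t', rfl⟩ := hx
      exact h2 t t'
    | zero => exact h1
    | add x y _ _ hx hy =>
      intro v
      have := Subgroup.mul_mem _ (hx v) (hy 0)
      rw [hm, add_zero] at this
      exact this
    | neg x _ hx =>
      intro v
      have := Subgroup.inv_mem _ (hx (-v))
      rw [w_inv s w w_mul] at this
      convert this using 2 <;> simp
  exact h3 u v

end Cfsg.Agent.Lib.Helper46_S2113_UDERGRP
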