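import Mathlib
import Cfsg.Agent.Lib.Helper6_S6Defs

/-!
helper61: S3333 market `s6_packages` (architect helper6), package ORB in aux form: `two_orbits_of` is the statement of
`two_orbits` with the conclusions of ELEM (`S` abelian), REFL (for one reflection), FUS and CARDN as hypotheses.
-/

set_option autoImplicit false
set_option linter.unusedSectionVars false

namespace Cfsg.Agent.Lib.Helper61_S6_ORBaux

open Cfsg.Agent.Lib.Helper6_S6Defs Equiv Equiv.Perm

variable {G : Type*} [Group G] [Finite G] {S : Subgroup G}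

/-- the conjugation action of a subgroup on the group -/
@[reducible] def conjAction (N : Subgroup G) : MulAction ↥N G :=
  MulAction.compHom G ((ConjAct.toConjAct (G := G)).toMonoidHom.comp N.subtype)

theorem conjAction_smul (N : Subgroup G) (m : ↥N) (x : G) :
    (conjAction N).toSMul.smul m x = (m : G) * x * (m : G)⁻¹ := by
  show ConjAct.toConjAct (m : G) • x = _
  rw [ConjAct.toConjAct_smul]

/-- ORB with ELEM (commutativity), REFL, FUS, CARDN as hypotheses -/
theorem two_orbits_of (D : Setup G S)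
    (hcomm : ∀ a ∈ S, ∀ b ∈ S, a * b = b * a)
    (hrefl : ∀ n : ↥(Subgroup.normalizer (S : Set G)), D.π n = DihedralGroup.sr 0 →
      ∃ x ∈ S, x ≠ 1 ∧ (n : G) * x * (n : G)⁻¹ = x)
    (hfus : ∀ x y g : G, x ∈ S → y ∈ S → g * x * g⁻¹ = y →
      ∃ n ∈ Subgroup.normalizer (S : Set G), n * x * n⁻¹ = y)
    (hcard : Nat.card ↥(Subgroup.normalizer (S : Set G)) = 72) :
    ∃ x₀ ∈ S, ∃ x₁ ∈ S, x₀ ≠ 1 ∧ x₁ ≠ 1 ∧ ∀ g : G, g * x₀ * g⁻¹ ≠ x₁ := by
  classical
  set N := Subgroup.normalizer (S : Set G) with hN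
  obtain ⟨n, hn⟩ := D.surj (DihedralGroup.sr 0)
  obtain ⟨x₀, hx₀S, hx₀1, hnx₀⟩ := hrefl n hn
  let _ : MulAction ↥N G := conjAction N
  have hsmul : ∀ (m : ↥N) (x : G), m • x = (m : G) * x * (m : G)⁻¹ := conjAction_smul N
  -- the stabilizer `C` of `x₀` in `N`
  set C : Subgroup ↥N := MulAction.stabilizer ↥N x₀ with hC
  have hmemC : ∀ m : ↥N, m ∈ C ↔ (m : G) * x₀ * (m : G)⁻¹ = x₀ := by
    intro m
    rw [hC, MulAction.mem_stabilizer_iff, hsmul]
  have hSN : S ≤ N := Subgroup.le_normalizer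
  have hSC : S.subgroupOf N ≤ C := by
    intro m hm
    rw [Subgroup.mem_subgroupOf] at hm
    rw [hmemC, hcomm _ hm _ hx₀S, mul_inv_cancel_right]
  have hnC : n ∈ C := (hmemC n).2 hnx₀
  have hnS : n ∉ S.subgroupOf N := by
    intro h
    rw [Subgroup.mem_subgroupOf] at h
    have h1 := (D.ker n).2 h
    rw [hn, DihedralGroup.one_def] at h1
    cases h1
  have hcS : Nat.card ↥(S.subgroupOf N) = 9 := by
    rw [Nat.card_congr (Subgroup.subgroupOfEquivOfLe hSN).toEquiv, D.card]
  have h9 : 9 ∣ Nat.card C := by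
    rw [← hcS]
    exact Subgroup.card_dvd_of_le hSC
  have hne9 : Nat.card C ≠ 9 := by
    intro h
    have heq : S.subgroupOf N = C := Subgroup.eq_of_le_of_card_ge hSC (by rw [hcS, h])
    exact hnS (heq ▸ hnC)
  have hpos : 0 < Nat.card C := Nat.card_pos
  have h18 : 18 ≤ Nat.card C := by
    obtain ⟨k, hk⟩ := h9
    omega
  -- orbit-stabilizer
  have hos : (MulAction.orbit ↥N x₀).ncard * Nat.card C = 72 := by
    rw [← MulAction.index_stabilizer, ← hcard]
    exact Subgroup.index_mul_card C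
  have horb4 : (MulAction.orbit ↥N x₀).ncard ≤ 4 := by
    by_contra h
    push Not at h
    have : 5 * 18 ≤ (MulAction.orbit ↥N x₀).ncard * Nat.card C := Nat.mul_le_mul h h18
    omega
  -- the orbit is contained in `S \ {1}`, which has 8 elements
  have hSfin : (S : Set G).Finite := Set.toFinite _
  have hScard : ((S : Set G) \ {1}).ncard = 8 := by
    have h1 : (S : Set G).ncard = 9 := by
      rw [← D.card]
      exact (Nat.card_coe_set_eq (S : Set G)).symm
    have h2 : ({1} : Set G) ⊆ (S : Set G) := by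
      intro x hx
      rw [Set.mem_singleton_iff] at hx
      rw [hx]
      exact S.one_mem
    have h3 := Set.ncard_sdiff_add_ncard_of_subset h2 hSfin
    rw [Set.ncard_singleton] at h3
    omega
  have hex : ∃ x₁ ∈ (S : Set G) \ {1}, x₁ ∉ MulAction.orbit ↥N x₀ := by
    by_contra hcon
    push Not at hcon
    have hsub : (S : Set G) \ {1} ⊆ MulAction.orbit ↥N x₀ := hcon
    have := Set.ncard_le_ncard hsub (Set.toFinite _)
    omega
  obtain ⟨x₁, ⟨hx₁S, hx₁1⟩, hx₁O⟩ := hex
  refine ⟨x₀, hx₀S, x₁, hx₁S, hx₀1, by simpa using hx₁1, ?_⟩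
  intro g hg
  obtain ⟨m, hm, hmx⟩ := hfus x₀ x₁ g hx₀S hx₁S hg
  apply hx₁O
  rw [MulAction.mem_orbit_iff]
  refine ⟨⟨m, hm⟩, ?_⟩
  rw [hsmul]
  exact hmx

end Cfsg.Agent.Lib.Helper61_S6_ORBaux
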