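import Mathlib
import Cfsg.Agent.Lib.Helper6_S6Defs

/-!
helper61: S3333 market `s6_packages` (architect helper6), package REFL in aux form: `refl_fix_of` is the statement of `refl_fix`
with the conclusions of ELEM (`S` abelian) and ROT (`rot_inv`) as hypotheses.
-/

set_option autoImplicit false
set_option linter.unusedSectionVars false

namespace Cfsg.Agent.Lib.Helper61_S6_REFLaux

open Cfsg.Agent.Lib.Helper6_S6Defs Equiv Equiv.Perm

variable {G : Type*} [Group G] [Finite G] {S : Subgroup G}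

/-- REFL with ELEM (commutativity) and ROT as hypotheses -/
theorem refl_fix_of (D : Setup G S)
    (hcomm : ∀ a ∈ S, ∀ b ∈ S, a * b = b * a)
    (hrot : ∀ n : ↥(Subgroup.normalizer (S : Set G)), D.π n = DihedralGroup.r 2 →
      ∀ x ∈ S, (n : G) * x * (n : G)⁻¹ = x⁻¹)
    (n : ↥(Subgroup.normalizer (S : Set G))) (i : ZMod 4)
    (hn : D.π n = DihedralGroup.sr i) :
    ∃ x ∈ S, x ≠ 1 ∧ (n : G) * x * (n : G)⁻¹ = x := by
  classical
  -- `d x = n x n⁻¹` maps `S` to `S`
  have hdS : ∀ x ∈ S, (n : G) * x * (n : G)⁻¹ ∈ S := by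
    intro x hx
    exact (Subgroup.mem_normalizer_iff.1 n.2 x).1 hx
  -- `n ^ 2 ∈ S`
  have hn2 : (n : G) * (n : G) ∈ S := by
    have h1 : D.π (n * n) = 1 := by
      rw [map_mul, hn, DihedralGroup.sr_mul_sr, sub_self]
      rfl
    exact (D.ker (n * n)).1 h1
  -- `d (d x) = x`
  have hdd : ∀ x ∈ S, (n : G) * ((n : G) * x * (n : G)⁻¹) * (n : G)⁻¹ = x := by
    intro x hx
    have h1 := hcomm _ hn2 x hx
    calc (n : G) * ((n : G) * x * (n : G)⁻¹) * (n : G)⁻¹
        = ((n : G) * (n : G) * x) * ((n : G)⁻¹ * (n : G)⁻¹) := by group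
      _ = (x * ((n : G) * (n : G))) * ((n : G)⁻¹ * (n : G)⁻¹) := by rw [h1]
      _ = x := by group
  -- not all of `S` is inverted
  have hex : ∃ x ∈ S, (n : G) * x * (n : G)⁻¹ ≠ x⁻¹ := by
    by_contra hcon
    push Not at hcon
    obtain ⟨c, hc⟩ := D.surj (DihedralGroup.r 2)
    have hcinv := hrot c hc
    have hcen : ((n * c : ↥(Subgroup.normalizer (S : Set G))) : G) ∈
        Subgroup.centralizer (S : Set G) := by
      rw [Subgroup.mem_centralizer_iff]
      intro x hx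
      have hx' : x ∈ S := hx
      have h1 : (n : G) * ((c : G) * x * (c : G)⁻¹) * (n : G)⁻¹ = x := by
        rw [hcinv x hx', hcon x⁻¹ (S.inv_mem hx'), inv_inv]
      rw [Subgroup.coe_mul]
      calc x * ((n : G) * (c : G))
          = ((n : G) * ((c : G) * x * (c : G)⁻¹) * (n : G)⁻¹) * ((n : G) * (c : G)) := by rw [h1]
        _ = (n : G) * (c : G) * x := by group
    rw [D.cent] at hcen
    have h1 : D.π (n * c) = 1 := (D.ker (n * c)).2 hcen
    rw [map_mul, hn, hc, DihedralGroup.sr_mul_r] at h1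
    rw [DihedralGroup.one_def] at h1
    cases h1
  obtain ⟨x, hx, hxne⟩ := hex
  refine ⟨x * ((n : G) * x * (n : G)⁻¹), S.mul_mem hx (hdS x hx), ?_, ?_⟩
  · intro h
    apply hxne
    exact (eq_inv_of_mul_eq_one_right h)
  · have h1 : (n : G) * (x * ((n : G) * x * (n : G)⁻¹)) * (n : G)⁻¹ =
        ((n : G) * x * (n : G)⁻¹) * ((n : G) * ((n : G) * x * (n : G)⁻¹) * (n : G)⁻¹) := by group
    rw [h1, hdd x hx]
    exact hcomm _ (hdS x hx) x hx

end Cfsg.Agent.Lib.Helper61_S6_REFLaux
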