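import Mathlib
import Cfsg.Agent.Lib.Helper6_S6Defs
import Cfsg.Agent.Lib.Helper31_S6_ELEM
import Cfsg.Agent.Lib.Helper55_S6_ROT
import Cfsg.Agent.Lib.Helper61_S6_REFLaux

/-!
helper61: S3333 market `s6_packages` (architect helper6), package REFL (verbatim wrapper of `refl_fix_of` with ELEM, ROT).
-/

set_option autoImplicit false
set_option linter.unusedSectionVars false

namespace Cfsg.Agent.Lib.Helper61_S6_REFL

open Cfsg.Agent.Lib.Helper6_S6Defs Equiv Equiv.Perm

variable {G : Type*} [Group G] [Finite G] {S : Subgroup G}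

/-- **PKG REFL** -/
theorem refl_fix (D : Setup G S) (n : ↥(Subgroup.normalizer (S : Set G))) (i : ZMod 4)
    (hn : D.π n = DihedralGroup.sr i) :
    ∃ x ∈ S, x ≠ 1 ∧ (n : G) * x * (n : G)⁻¹ = x :=
  Cfsg.Agent.Lib.Helper61_S6_REFLaux.refl_fix_of D (Cfsg.Agent.Lib.Helper31_S6_ELEM.elem D).1
    (fun m hm => Cfsg.Agent.Lib.Helper55_S6_ROT.rot_inv D m hm) n i hn

end Cfsg.Agent.Lib.Helper61_S6_REFL
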