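import Mathlib
import Cfsg.Agent.Lib.Helper6_S6Defs
import Cfsg.Agent.Lib.Helper31_S6_ELEM
import Cfsg.Agent.Lib.Helper31_S6_CARDN
import Cfsg.Agent.Lib.Helper42_S6_FUS
import Cfsg.Agent.Lib.Helper61_S6_REFL
import Cfsg.Agent.Lib.Helper61_S6_ORBaux

/-!
helper61: S3333 market `s6_packages` (architect helper6), package ORB (verbatim wrapper of `two_orbits_of` with ELEM, REFL,
FUS, CARDN).
-/

set_option autoImplicit false
set_option linter.unusedSectionVars false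

namespace Cfsg.Agent.Lib.Helper61_S6_ORB

open Cfsg.Agent.Lib.Helper6_S6Defs Equiv Equiv.Perm

variable {G : Type*} [Group G] [Finite G] {S : Subgroup G}

/-- **PKG ORB** -/
theorem two_orbits (D : Setup G S) :
    ∃ x₀ ∈ S, ∃ x₁ ∈ S, x₀ ≠ 1 ∧ x₁ ≠ 1 ∧ ∀ g : G, g * x₀ * g⁻¹ ≠ x₁ :=
  Cfsg.Agent.Lib.Helper61_S6_ORBaux.two_orbits_of D (Cfsg.Agent.Lib.Helper31_S6_ELEM.elem D).1
    (fun n hn => Cfsg.Agent.Lib.Helper61_S6_REFL.refl_fix D n 0 hn)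
    (fun x y g hx hy h => Cfsg.Agent.Lib.Helper42_S6_FUS.fusion D x y g hx hy h)
    (Cfsg.Agent.Lib.Helper31_S6_CARDN.card_normalizer D)

end Cfsg.Agent.Lib.Helper61_S6_ORB
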