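import Mathlib
import Cfsg.Prelude.Def_Characters
import Cfsg.Agent.Lib.Helper80_CharBasic
import Cfsg.Agent.Lib.Helper80_CharComplete
import Cfsg.Agent.Lib.Helper6_A6Defs

/-!
S3341-SQ4 (helper6's market): the six characters of `Data4` are distinct, so their squared degrees add up to
at most `|G|`.
-/

set_option autoImplicit false
set_option linter.unusedSectionVars false
open scoped ComplexConjugate

namespace Cfsg.Agent.Lib.Helper52_A6_SQ4

open Cfsg Cfsg.Agent.Lib.Helper80_CharBasic Cfsg.Agent.Lib.Helper6_A6Defs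

variable {G : Type*} [Group G] [Finite G] {S : Subgroup G}

/-- the degree of an irreducible character as a natural number -/
noncomputable def dg (χ : IrrCharacter G) : ℕ := Classical.choose (irr_apply_one χ)

theorem dg_spec (χ : IrrCharacter G) : (χ : G → ℂ) 1 = (dg χ : ℂ) :=
  (Classical.choose_spec (irr_apply_one χ)).2

theorem dg_eq (χ : IrrCharacter G) {n : ℕ} (h : (χ : G → ℂ) 1 = (n : ℂ)) : dg χ = n := by
  have := dg_spec χ
  rw [h] at this
  exact (Nat.cast_injective this).symm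

theorem sum_dg_sq [Fintype (IrrCharacter G)] : ∑ χ : IrrCharacter G, dg χ ^ 2 = Nat.card G := by
  have h := Cfsg.Agent.Lib.Helper80_CharComplete.sum_sq_degrees (G := G)
  rw [finsum_eq_sum_of_fintype] at h
  have h2 : ((∑ χ : IrrCharacter G, dg χ ^ 2 : ℕ) : ℂ) = (Nat.card G : ℂ) := by
    rw [← h]
    push_cast
    exact Finset.sum_congr rfl fun χ _ => by rw [dg_spec]
  exact Nat.cast_injective h2

theorem sq_le4 {s s' : G} (D : Data4 G s s') :
    1 + ∑ j, (D.x j) ^ 2 + 2 * D.d ^ 2 ≤ Nat.card G := by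
  classical
  have : Fintype (IrrCharacter G) := Fintype.ofFinite _
  rw [← sum_dg_sq]
  have hsub : insert (oneIrr G) (insert D.Λ₁ (insert D.Λ₂ (Finset.univ.image D.X))) ⊆
      (Finset.univ : Finset (IrrCharacter G)) := Finset.subset_univ _
  refine le_trans (le_of_eq ?_) (Finset.sum_le_sum_of_subset (f := fun χ : IrrCharacter G => dg χ ^ 2) hsub)
  have h1 : oneIrr G ∉ insert D.Λ₁ (insert D.Λ₂ (Finset.univ.image D.X)) := by
    simp only [Finset.mem_insert, Finset.mem_image, Finset.mem_univ, true_and, not_or, not_exists]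
    exact ⟨D.Λ_ne.2.1.symm, D.Λ_ne.2.2.symm, fun j => (D.X_ne j).1⟩
  have h2 : D.Λ₁ ∉ insert D.Λ₂ (Finset.univ.image D.X) := by
    simp only [Finset.mem_insert, Finset.mem_image, Finset.mem_univ, true_and, not_or, not_exists]
    exact ⟨D.Λ_ne.1, fun j => (D.X_ne j).2.1⟩
  have h3 : D.Λ₂ ∉ Finset.univ.image D.X := by
    simp only [Finset.mem_image, Finset.mem_univ, true_and, not_exists]
    exact fun j => (D.X_ne j).2.2
  rw [Finset.sum_insert h1, Finset.sum_insert h2, Finset.sum_insert h3,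
    Finset.sum_image (fun a _ b _ hab => D.X_inj hab)]
  have e1 : dg (oneIrr G) = 1 := dg_eq _ (by simp [oneIrr])
  have e2 : dg D.Λ₁ = D.d := dg_eq _ D.Λ₁_one
  have e3 : dg D.Λ₂ = D.d := dg_eq _ D.Λ₂_one
  have e4 : ∀ j, dg (D.X j) = D.x j := fun j => dg_eq _ (D.X_one j)
  simp only [e1, e2, e3, e4]
  ring

end Cfsg.Agent.Lib.Helper52_A6_SQ4
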