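import Mathlib
import Cfsg.Prelude.Def_Characters
import Cfsg.Agent.Lib.Helper80_CharBasic
import Cfsg.Agent.Lib.Helper6_A6Defs

/-!
# S3341 package E1 (architect helper6): a simple group with the standing hypotheses has `N(S) ≠ S`
(Burnside transfer)
-/

set_option autoImplicit false
open scoped ComplexConjugate

namespace Cfsg.Agent.Lib.Helper60_A6_E1

open Cfsg Cfsg.Agent.Lib.Helper80_CharBasic Cfsg.Agent.Lib.Helper6_A6Defs

section grp
variable {G : Type*} [Group G] [Finite G] {S : Subgroup G}

theorem normalizer_ne [IsSimpleGroup G] (h : Hyp G S) (P : Sylow 3 G) (hSP : S = P) :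
    Subgroup.normalizer (S : Set G) ≠ S := by
  classical
  intro hN
  have : Fact (Nat.Prime 3) := ⟨Nat.prime_three⟩
  have hP : Subgroup.normalizer ((P : Subgroup G) : Set G) ≤
      Subgroup.centralizer ((P : Subgroup G) : Set G) := by
    rw [← hSP, hN]
    intro x hx
    rw [Subgroup.mem_centralizer_iff]
    intro y hy
    exact h.comm y hy x hx
  have hcomp := MonoidHom.ker_transferSylow_isComplement' P hP
  have hcard := hcomp.card_mul_card
  have hP9 : Nat.card (P : Subgroup G) = 9 := by rw [← hSP]; exact h.card
  rw [hP9] at hcard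
  have hGpos : 0 < Nat.card G := Nat.card_pos
  rcases (MonoidHom.normal_ker (MonoidHom.transferSylow P hP)).eq_bot_or_eq_top with hK | hK
  · -- `G = S` is abelian: a cyclic subgroup of order three is normal
    rw [hK, Subgroup.card_bot, one_mul] at hcard
    have hStop : S = ⊤ := by
      apply Subgroup.eq_top_of_card_eq
      rw [h.card, hcard]
    have hcomm : ∀ a b : G, a * b = b * a := by
      intro a b
      exact h.comm a (by rw [hStop]; trivial) b (by rw [hStop]; trivial)
    have hnt : Nontrivial S := by
      rw [← Finite.one_lt_card_iff_nontrivial, h.card]; norm_num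
    obtain ⟨s, hs⟩ := exists_ne (1 : S)
    have hs1 : (s : G) ≠ 1 := fun h1 => hs (Subtype.ext h1)
    have hnorm : (Subgroup.zpowers (s : G)).Normal := by
      constructor
      intro n hn g
      have : g * n * g⁻¹ = n := by rw [hcomm g n, mul_inv_cancel_right]
      rw [this]; exact hn
    rcases hnorm.eq_bot_or_eq_top with hz | hz
    · rw [Subgroup.zpowers_eq_bot] at hz
      exact hs1 hz
    · have h3 : orderOf (s : G) = 3 := by
        apply orderOf_eq_prime
        · exact h.exp _ s.2
        · exact hs1
      have : Nat.card (Subgroup.zpowers (s : G)) = Nat.card G := by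
        rw [hz, Subgroup.card_top]
      rw [Nat.card_zpowers, h3, ← hcard] at this
      norm_num at this
  · rw [hK, Subgroup.card_top] at hcard
    have : Nat.card G * 9 = Nat.card G * 1 := by rw [hcard, mul_one]
    have := Nat.eq_of_mul_eq_mul_left hGpos this
    norm_num at this

end grp

end Cfsg.Agent.Lib.Helper60_A6_E1
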