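import Mathlib
import Cfsg.Prelude.Def_Characters
import Cfsg.Agent.Lib.Helper80_CharBasic
import Cfsg.Agent.Lib.Helper80_CharComplete
import Cfsg.Agent.Lib.Helper6_A6Defs
import Cfsg.Agent.Lib.Helper30_ThreePQ
import Cfsg.Agent.S0840

/-!
S3341 package E2 (helper6's market), AUX form: the fusion pattern `|N(S):S| = 2` is impossible in
a perfect group, with the packages CNT2, GRAM2, SUN2 as explicit hypotheses.  helper63.
-/

set_option autoImplicit false
open scoped ComplexConjugate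

namespace Cfsg.Agent.Lib.Helper63_A6_E2aux

open Cfsg Cfsg.Agent.Lib.Helper80_CharBasic Cfsg.Agent.Lib.Helper6_A6Defs

section grp
variable {G : Type*} [Group G] [Finite G] {S : Subgroup G}

omit [Finite G] in
theorem exists_avoid (h : Hyp G S) (A : Finset G) (hA : A.card < 9) : ∃ x ∈ S, x ∉ A := by
  by_contra hcon
  push Not at hcon
  have hsub : (S : Set G) ⊆ (A : Set G) := fun x hx => hcon x hx
  have h1 : Nat.card S ≤ A.card := by
    calc Nat.card S = (S : Set G).ncard := (Nat.card_coe_set_eq _)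
      _ ≤ (A : Set G).ncard := Set.ncard_le_ncard hsub (Finset.finite_toSet A)
      _ = A.card := Set.ncard_coe_finset A
  rw [h.card] at h1
  omega

omit [Finite G] in
/-- representatives of the four subgroups of order three -/
theorem exists_four (h : Hyp G S) : ∃ t : Fin 4 → G, (∀ i, t i ∈ S) ∧ (∀ i, t i ≠ 1) ∧
    ∀ i j, i ≠ j → t i ≠ t j ∧ t i ≠ (t j)⁻¹ := by
  classical
  obtain ⟨t0, h0S, h0⟩ := exists_avoid h ([1].toFinset)
    (lt_of_le_of_lt (List.toFinset_card_le _) (by simp))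
  obtain ⟨t1, h1S, h1⟩ := exists_avoid h ([1, t0, t0⁻¹].toFinset)
    (lt_of_le_of_lt (List.toFinset_card_le _) (by simp))
  obtain ⟨t2, h2S, h2⟩ := exists_avoid h ([1, t0, t0⁻¹, t1, t1⁻¹].toFinset)
    (lt_of_le_of_lt (List.toFinset_card_le _) (by simp))
  obtain ⟨t3, h3S, h3⟩ := exists_avoid h ([1, t0, t0⁻¹, t1, t1⁻¹, t2, t2⁻¹].toFinset)
    (lt_of_le_of_lt (List.toFinset_card_le _) (by simp))
  simp only [List.mem_toFinset, List.mem_cons, List.not_mem_nil, or_false, not_or] at h0 h1 h2 h3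
  have sw : ∀ {a b : G}, a ≠ b⁻¹ → b ≠ a⁻¹ := fun hab e => hab (by rw [e, inv_inv])
  refine ⟨![t0, t1, t2, t3], ?_, ?_, ?_⟩
  · intro i
    fin_cases i
    · exact h0S
    · exact h1S
    · exact h2S
    · exact h3S
  · intro i
    fin_cases i
    · exact h0
    · exact h1.1
    · exact h2.1
    · exact h3.1
  · intro i j hij
    fin_cases i <;> fin_cases j
    · exact absurd rfl hij
    · exact ⟨Ne.symm h1.2.1, sw h1.2.2⟩
    · exact ⟨Ne.symm h2.2.1, sw h2.2.2.1⟩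
    · exact ⟨Ne.symm h3.2.1, sw h3.2.2.1⟩
    · exact ⟨h1.2.1, h1.2.2⟩
    · exact absurd rfl hij
    · exact ⟨Ne.symm h2.2.2.2.1, sw h2.2.2.2.2⟩
    · exact ⟨Ne.symm h3.2.2.2.1, sw h3.2.2.2.2.1⟩
    · exact ⟨h2.2.1, h2.2.2.1⟩
    · exact ⟨h2.2.2.2.1, h2.2.2.2.2⟩
    · exact absurd rfl hij
    · exact ⟨Ne.symm h3.2.2.2.2.2.1, sw h3.2.2.2.2.2.2⟩
    · exact ⟨h3.2.1, h3.2.2.1⟩
    · exact ⟨h3.2.2.2.1, h3.2.2.2.2.1⟩
    · exact ⟨h3.2.2.2.2.2.1, h3.2.2.2.2.2.2⟩
    · exact absurd rfl hij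

end grp

theorem sum_six {I M : Type*} [Fintype I] [DecidableEq I] [AddCommMonoid M] (f : I → M)
    (o x : I) (l : Fin 4 → I) (hl : Function.Injective l) (hxo : x ≠ o)
    (hlo : ∀ k, l k ≠ o ∧ l k ≠ x)
    (hf : ∀ i, i ≠ o → i ≠ x → (∀ m, i ≠ l m) → f i = 0) :
    ∑ i, f i = f o + (f x + (f (l 0) + f (l 1) + f (l 2) + f (l 3))) := by
  have hT : ∑ i, f i = ∑ i ∈ insert o (insert x (Finset.univ.image l)), f i := by
    symm
    apply Finset.sum_subset (Finset.subset_univ _)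
    intro i _ hi
    simp only [Finset.mem_insert, Finset.mem_image, Finset.mem_univ, true_and, not_or,
      not_exists] at hi
    exact hf i hi.1 hi.2.1 (fun m e => hi.2.2 m e.symm)
  rw [hT, Finset.sum_insert, Finset.sum_insert, Finset.sum_image (fun a _ b _ e => hl e),
    Fin.sum_univ_four]
  · simp only [Finset.mem_image, Finset.mem_univ, true_and, not_exists]
    intro m e
    exact (hlo m).2 e
  · simp only [Finset.mem_insert, Finset.mem_image, Finset.mem_univ, true_and, not_or,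
      not_exists]
    exact ⟨hxo.symm, fun m e => (hlo m).1 e⟩

section chr
variable {G : Type*} [Group G] [Finite G] {S : Subgroup G}

/-- E2 with CNT2 (`hcount`), GRAM2 (`hgram`) and SUN2 at `I = IrrCharacter G` (`hsun`) as explicit
hypotheses. -/
theorem fus2_false_aux (h : Hyp G S) (hperf : commutator G = ⊤)
    (hcount : ∀ {s s' : G}, s ∈ S → s ≠ 1 → s' ∈ S → s' ≠ 1 → s' ≠ s → s' ≠ s⁻¹ →
      Nat.card {p : G × G // IsConj s p.1 ∧ IsConj s p.2 ∧ p.1 * p.2 = s'} = 0)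
    (hgram : ∀ (t : Fin 4 → G), (∀ i, t i ∈ S) → (∀ i, t i ≠ 1) →
      (∀ i j, i ≠ j → t i ≠ t j ∧ t i ≠ (t j)⁻¹) →
      ∃ α : Fin 4 → IrrCharacter G → ℤ,
        (∀ (χ : IrrCharacter G) (i : Fin 4),
          (χ : G → ℂ) (t i) = (∑ j, (α j χ : ℂ)) - 3 * (α i χ : ℂ)) ∧
        (∀ i, α i (oneIrr G) = 1) ∧
        (∀ i, ∑ᶠ χ : IrrCharacter G, α i χ ^ 2 = 3) ∧
        (∀ i j, i ≠ j → ∑ᶠ χ : IrrCharacter G, α i χ * α j χ = 2) ∧
        (∀ i, ∑ᶠ χ : IrrCharacter G, (α i χ : ℂ) * (χ : G → ℂ) 1 = 0))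
    (hsun : ∀ [Fintype (IrrCharacter G)] [DecidableEq (IrrCharacter G)] (o : IrrCharacter G)
      (deg : IrrCharacter G → ℕ), (∀ i, 0 < deg i) → ∀ (α : Fin 4 → IrrCharacter G → ℤ),
      (∀ k, ∑ i, α k i ^ 2 = 3) → (∀ k l, k ≠ l → ∑ i, α k i * α l i = 2) →
      (∀ k, α k o = 1) → (∀ k, ∑ i, α k i * (deg i : ℤ) = 0) →
      ∃ (ε c : ℤ) (x : IrrCharacter G) (l : Fin 4 → IrrCharacter G),
        (ε = 1 ∨ ε = -1) ∧ (c = 1 ∨ c = -1) ∧ Function.Injective l ∧ x ≠ o ∧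
        (∀ k, l k ≠ o ∧ l k ≠ x) ∧ (∀ k, deg (l k) = deg (l 0)) ∧
        (∀ k, α k x = c) ∧ (∀ k m, α k (l m) = if k = m then ε else 0) ∧
        (∀ k i, i ≠ o → i ≠ x → (∀ m, i ≠ l m) → α k i = 0)) : False := by
  classical
  obtain ⟨t, htS, ht1, hti⟩ := exists_four h
  obtain ⟨α, hval, hαo, hnorm, hprod, hdeg⟩ := hgram t htS ht1 hti
  have : Fintype (IrrCharacter G) := Fintype.ofFinite _
  choose deg hdegpos hdegval using (fun χ : IrrCharacter G => irr_apply_one χ)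
  simp only [finsum_eq_sum_of_fintype] at hnorm hprod hdeg
  have hd : ∀ k, ∑ χ, α k χ * (deg χ : ℤ) = 0 := by
    intro k
    have h1 := hdeg k
    simp only [hdegval] at h1
    exact_mod_cast h1
  obtain ⟨ε, c, x, l, hε, hc, hl, hxo, hlo, hdl, hαx, hαl, hα0⟩ :=
    hsun (oneIrr G) deg hdegpos α hnorm hprod hαo hd
  -- `deg o = 1`
  have hdo : deg (oneIrr G) = 1 := by
    have h1 := hdegval (oneIrr G)
    have h2 : ((oneIrr G : IrrCharacter G) : G → ℂ) 1 = 1 := rfl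
    rw [h2] at h1
    exact_mod_cast h1.symm
  -- the degree equation
  have hdegeq : (1 : ℤ) + c * (deg x : ℤ) + ε * (deg (l 0) : ℤ) = 0 := by
    have h1 := hd 0
    rw [sum_six (fun χ => α 0 χ * (deg χ : ℤ)) (oneIrr G) x l hl hxo hlo (by
      intro χ h1 h2 h3
      show α 0 χ * (deg χ : ℤ) = 0
      rw [hα0 0 χ h1 h2 h3, zero_mul])] at h1
    simp only [hαo, hαx, hαl, hdo] at h1
    simp at h1
    linarith [h1]
  -- integer values
  have hv : ∀ (χ : IrrCharacter G) (i : Fin 4),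
      (χ : G → ℂ) (t i) = (((∑ j, α j χ) - 3 * α i χ : ℤ) : ℂ) := by
    intro χ i
    rw [hval χ i]
    push_cast
    ring
  have val_o : ∀ i, ((oneIrr G : IrrCharacter G) : G → ℂ) (t i) = 1 := fun i => rfl
  have val_x : ∀ i, (x : G → ℂ) (t i) = (c : ℂ) := by
    intro i
    rw [hv x i]
    have e : (∑ j, α j x) - 3 * α i x = c := by
      simp only [hαx, Finset.sum_const, Finset.card_univ, Fintype.card_fin]
      ring
    rw [e]
  have val_l : ∀ m i, (l m : G → ℂ) (t i) = ((if i = m then -2 * ε else ε : ℤ) : ℂ) := by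
    intro m i
    rw [hv (l m) i]
    simp only [hαl, Finset.sum_ite_eq', Finset.mem_univ, if_true]
    by_cases him : i = m
    · rw [if_pos him, if_pos him]
      congr 1
      ring
    · rw [if_neg him, if_neg him]
      congr 1
      ring
  -- S0840
  have hcnt := hcount (htS 0) (ht1 0) (htS 1) (ht1 1) (hti 1 0 (by decide)).1
    (hti 1 0 (by decide)).2
  have hS := Cfsg.Agent.S0840.result (t 0) (t 0) (t 1)
  rw [hcnt, Nat.cast_zero, finsum_eq_sum_of_fintype] at hS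
  have hK : (Nat.card {y : G // IsConj (t 0) y} : ℂ) ≠ 0 := by
    have : 0 < Nat.card {y : G // IsConj (t 0) y} :=
      Nat.card_pos_iff.2 ⟨⟨⟨t 0, IsConj.refl _⟩⟩, inferInstance⟩
    exact_mod_cast this.ne'
  have hG : (Nat.card G : ℂ) ≠ 0 := by exact_mod_cast Nat.card_pos.ne'
  have hSig : ∑ χ : IrrCharacter G, (χ : G → ℂ) (t 0) * (χ : G → ℂ) (t 0) *
      conj ((χ : G → ℂ) (t 1)) / (χ : G → ℂ) 1 = 0 := by
    rcases mul_eq_zero.1 hS.symm with h1 | h1
    · exfalso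
      rcases div_eq_zero_iff.1 h1 with h2 | h2
      · rcases mul_eq_zero.1 h2 with h3 | h3 <;> exact hK h3
      · exact hG h2
    · exact h1
  rw [sum_six _ (oneIrr G) x l hl hxo hlo (by
    intro χ h1 h2 h3
    have h4 : (χ : G → ℂ) (t 0) = 0 := by
      rw [hv χ 0]
      simp only [hα0 _ χ h1 h2 h3]
      simp
    rw [h4, zero_mul, zero_mul, zero_div])] at hSig
  simp only [val_o, val_x, val_l, hdegval, hdl, hdo] at hSig
  simp only [if_true, Fin.reduceEq, if_false, map_one, map_intCast, Nat.cast_one] at hSig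
  have hQ : (1 : ℚ) + (c : ℚ) ^ 3 / (deg x : ℚ) + 4 * (ε : ℚ) ^ 3 / (deg (l 0) : ℚ) = 0 := by
    have h1 : (1 : ℂ) + (c : ℂ) ^ 3 / (deg x : ℂ) + 4 * (ε : ℂ) ^ 3 / (deg (l 0) : ℂ) = 0 := by
      rw [← hSig]
      push_cast
      ring
    exact_mod_cast h1
  have hdx := hdegpos x
  have hdl0 := hdegpos (l 0)
  have hdxQ : (0 : ℚ) < (deg x : ℚ) := by exact_mod_cast hdx
  have hdlQ : (0 : ℚ) < (deg (l 0) : ℚ) := by exact_mod_cast hdl0
  -- it suffices to show `deg x = 1`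
  have hfin : deg x = 1 → False := by
    intro h1
    apply hxo
    apply Cfsg.Agent.Lib.Helper30_ThreePQ.eq_one_of_linear hperf
    rw [hdegval, h1, Nat.cast_one]
  rcases hc with rfl | rfl <;> rcases hε with rfl | rfl
  · omega
  · -- `c = 1`, `ε = -1`
    have hdQ : (deg (l 0) : ℚ) = 1 + (deg x : ℚ) := by
      have : (deg (l 0) : ℤ) = 1 + (deg x : ℤ) := by
        linarith
      exact_mod_cast this
    rw [hdQ] at hQ
    have hne : (1 + (deg x : ℚ)) ≠ 0 := by positivity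
    have hne2 : (deg x : ℚ) ≠ 0 := hdxQ.ne'
    field_simp at hQ
    have hsq : ((deg x : ℚ) - 1) ^ 2 = 0 := by
      push_cast at hQ
      linear_combination hQ
    have h1 : (deg x : ℚ) = 1 := by
      have := pow_eq_zero_iff (two_ne_zero) |>.1 hsq
      linarith
    exact hfin (by exact_mod_cast h1)
  · -- `c = -1`, `ε = 1`
    have hxQ : (deg x : ℚ) = 1 + (deg (l 0) : ℚ) := by
      have : (deg x : ℤ) = 1 + (deg (l 0) : ℤ) := by
        linarith
      exact_mod_cast this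
    have h1 : (1 : ℚ) / (deg x : ℚ) ≤ 1 := by
      rw [div_le_one hdxQ]
      have : (1 : ℚ) ≤ (deg x : ℚ) := by exact_mod_cast hdx
      exact this
    have h2 : (0 : ℚ) < 4 / (deg (l 0) : ℚ) := by positivity
    push_cast at hQ
    have e1 : ((-1 : ℚ)) ^ 3 / (deg x : ℚ) = - (1 / (deg x : ℚ)) := by ring
    have e2 : (4 : ℚ) * 1 ^ 3 / (deg (l 0) : ℚ) = 4 / (deg (l 0) : ℚ) := by ring
    rw [e1, e2] at hQ
    linarith
  · omega

end chr

end Cfsg.Agent.Lib.Helper63_A6_E2aux
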