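import Mathlib
import Cfsg.Agent.Lib.Helper69_A6_SUN4

/-!
# S3341 package SUN2 (architect helper6, proof helper69): the sunflower

Four integer vectors of norm 3, pairwise inner products 2, all `1` at `o`, orthogonal to a positive vector
`deg`: outside `o` the supports are four 2-sets pairwise meeting in exactly one point, hence a star
(four edges pairwise meeting cannot form a triangle).
-/

set_option autoImplicit false

namespace Cfsg.Agent.Lib.Helper69_A6_SUN2

open Cfsg.Agent.Lib.Helper69_A6_SUN4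

/-- small sums of squares: values and size of the support -/
theorem card_supp {I : Type*} [DecidableEq I] (s : Finset I) (f : I → ℤ) (n : ℕ) (hn : n ≤ 3)
    (h : ∑ i ∈ s, f i ^ 2 = n) :
    (∀ i ∈ s, f i = 0 ∨ f i = 1 ∨ f i = -1) ∧ (s.filter (fun i => f i ≠ 0)).card = n := by
  have hval : ∀ i ∈ s, f i = 0 ∨ f i = 1 ∨ f i = -1 := by
    intro i hi
    by_cases h0 : f i = 0
    · exact Or.inl h0
    · right
      apply pm_of_sq_le h0
      have h1 : f i ^ 2 ≤ ∑ j ∈ s, f j ^ 2 :=
        Finset.single_le_sum (f := fun j => f j ^ 2) (fun j _ => sq_nonneg (f j)) hi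
      have h2 : (n : ℤ) ≤ 3 := by exact_mod_cast hn
      linarith
  refine ⟨hval, ?_⟩
  have h1 : ∑ i ∈ s, f i ^ 2 = ∑ i ∈ s, (if f i ≠ 0 then (1 : ℤ) else 0) := by
    apply Finset.sum_congr rfl
    intro i hi
    rcases hval i hi with h0 | h0 | h0 <;> rw [h0] <;> norm_num
  rw [h1, Finset.sum_boole] at h
  exact_mod_cast h

/-- the other element of a 2-set -/
theorem other {I : Type*} [DecidableEq I] (E : Finset I) (h2 : E.card = 2) (x : I) (hx : x ∈ E) :
    ∃ a, a ≠ x ∧ E = {x, a} := by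
  have h1 : (E.erase x).card = 1 := by rw [Finset.card_erase_of_mem hx, h2]
  obtain ⟨a, ha⟩ := Finset.card_eq_one.mp h1
  have ha' : a ∈ E.erase x := by rw [ha]; exact Finset.mem_singleton_self a
  refine ⟨a, Finset.ne_of_mem_erase ha', ?_⟩
  rw [← Finset.insert_erase hx, ha]

theorem ne_of_inter_card {I : Type*} [DecidableEq I] {x a c : I} (hax : a ≠ x)
    (h : (({x, c} : Finset I) ∩ {x, a}).card = 1) : c ≠ a := by
  intro hca
  rw [hca, Finset.inter_self, Finset.card_pair hax.symm] at h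
  omega

theorem mem_of_inter_card {I : Type*} [DecidableEq I] {x a : I} {E : Finset I} (hx : x ∉ E)
    (h : (E ∩ {x, a}).card = 1) : a ∈ E := by
  by_contra ha
  have h1 : E ∩ {x, a} = ∅ := by
    rw [Finset.eq_empty_iff_forall_notMem]
    intro y hy
    rw [Finset.mem_inter, Finset.mem_insert, Finset.mem_singleton] at hy
    rcases hy.2 with h | h
    · exact hx (h ▸ hy.1)
    · exact ha (h ▸ hy.1)
  rw [h1] at h
  simp at h

/-- four 2-sets pairwise meeting in exactly one point: the common point of the first two lies in the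
third -/
theorem star_aux {I : Type*} [DecidableEq I] (E0 E1 Ek Ek' : Finset I)
    (c0 : E0.card = 2) (c1 : E1.card = 2) (ck : Ek.card = 2) (ck' : Ek'.card = 2)
    (hk0 : (Ek ∩ E0).card = 1) (hk1 : (Ek ∩ E1).card = 1)
    (hk'0 : (Ek' ∩ E0).card = 1) (hk'1 : (Ek' ∩ E1).card = 1) (hkk' : (Ek ∩ Ek').card = 1)
    (h01 : (E0 ∩ E1).card = 1)
    {x : I} (hx0 : x ∈ E0) (hx1 : x ∈ E1) : x ∈ Ek := by
  obtain ⟨a, hax, hE0⟩ := other E0 c0 x hx0
  obtain ⟨b, hbx, hE1⟩ := other E1 c1 x hx1
  have hab : a ≠ b := by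
    rw [hE0, hE1] at h01
    exact ne_of_inter_card hbx h01
  by_contra hxk
  -- `Ek = {a, b}`
  rw [hE0] at hk0 hk'0
  rw [hE1] at hk1 hk'1
  have hak : a ∈ Ek := mem_of_inter_card hxk hk0
  have hbk : b ∈ Ek := mem_of_inter_card hxk hk1
  have hEk : Ek = {a, b} := by
    symm
    apply Finset.eq_of_subset_of_card_le
    · intro y hy
      rw [Finset.mem_insert, Finset.mem_singleton] at hy
      rcases hy with h | h
      · exact h ▸ hak
      · exact h ▸ hbk
    · rw [ck, Finset.card_pair hab]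
  by_cases hxk' : x ∈ Ek'
  · obtain ⟨c, hcx, hEk'⟩ := other Ek' ck' x hxk'
    rw [hEk'] at hk'0 hk'1
    have hca : c ≠ a := ne_of_inter_card hax hk'0
    have hcb : c ≠ b := ne_of_inter_card hbx hk'1
    have h1 : Ek ∩ Ek' = ∅ := by
      rw [Finset.eq_empty_iff_forall_notMem, hEk, hEk']
      intro y hy
      simp only [Finset.mem_inter, Finset.mem_insert, Finset.mem_singleton] at hy
      rcases hy with ⟨h | h, h' | h'⟩
      · exact hax (h.symm.trans h')
      · exact hca (h'.symm.trans h)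
      · exact hbx (h.symm.trans h')
      · exact hcb (h'.symm.trans h)
    rw [h1] at hkk'
    simp at hkk'
  · have hak' : a ∈ Ek' := mem_of_inter_card hxk' hk'0
    have hbk' : b ∈ Ek' := mem_of_inter_card hxk' hk'1
    have hEk' : Ek' = {a, b} := by
      symm
      apply Finset.eq_of_subset_of_card_le
      · intro y hy
        rw [Finset.mem_insert, Finset.mem_singleton] at hy
        rcases hy with h | h
        · exact h ▸ hak'
        · exact h ▸ hbk'
      · rw [ck', Finset.card_pair hab]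
    rw [hEk, hEk', Finset.inter_self, Finset.card_pair hab] at hkk'
    omega

theorem inter_card_comm {I : Type*} [DecidableEq I] {A B : Finset I} {n : ℕ}
    (h : (A ∩ B).card = n) : (B ∩ A).card = n := by
  rwa [Finset.inter_comm]

theorem star {I : Type*} [DecidableEq I] (E : Fin 4 → Finset I) (h2 : ∀ k, (E k).card = 2)
    (h1 : ∀ k l, k ≠ l → (E k ∩ E l).card = 1) : ∃ x, ∀ k, x ∈ E k := by
  obtain ⟨x, hx⟩ := Finset.card_eq_one.mp (h1 0 1 (by decide))
  have hxm : x ∈ E 0 ∩ E 1 := by rw [hx]; exact Finset.mem_singleton_self x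
  have hx0 : x ∈ E 0 := (Finset.mem_inter.mp hxm).1
  have hx1 : x ∈ E 1 := (Finset.mem_inter.mp hxm).2
  refine ⟨x, ?_⟩
  intro k
  fin_cases k
  · exact hx0
  · exact hx1
  · exact star_aux (E 0) (E 1) (E 2) (E 3) (h2 0) (h2 1) (h2 2) (h2 3) (h1 2 0 (by decide))
      (h1 2 1 (by decide)) (h1 3 0 (by decide)) (h1 3 1 (by decide)) (h1 2 3 (by decide))
      (h1 0 1 (by decide)) hx0 hx1
  · exact star_aux (E 0) (E 1) (E 3) (E 2) (h2 0) (h2 1) (h2 3) (h2 2) (h1 3 0 (by decide))
      (h1 3 1 (by decide)) (h1 2 0 (by decide)) (h1 2 1 (by decide)) (h1 3 2 (by decide))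
      (h1 0 1 (by decide)) hx0 hx1

theorem sun2 {I : Type*} [Fintype I] [DecidableEq I] (o : I) (deg : I → ℕ)
    (hdeg : ∀ i, 0 < deg i) (α : Fin 4 → I → ℤ)
    (hn : ∀ k, ∑ i, α k i ^ 2 = 3) (hp : ∀ k l, k ≠ l → ∑ i, α k i * α l i = 2)
    (ho : ∀ k, α k o = 1) (hd : ∀ k, ∑ i, α k i * (deg i : ℤ) = 0) :
    ∃ (ε c : ℤ) (x : I) (l : Fin 4 → I),
      (ε = 1 ∨ ε = -1) ∧ (c = 1 ∨ c = -1) ∧ Function.Injective l ∧ x ≠ o ∧
      (∀ k, l k ≠ o ∧ l k ≠ x) ∧ (∀ k, deg (l k) = deg (l 0)) ∧
      (∀ k, α k x = c) ∧ (∀ k m, α k (l m) = if k = m then ε else 0) ∧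
      (∀ k i, i ≠ o → i ≠ x → (∀ m, i ≠ l m) → α k i = 0) := by
  obtain ⟨U, hU⟩ : ∃ U : Finset I, U = Finset.univ.erase o := ⟨_, rfl⟩
  have hmemU : ∀ i, i ∈ U ↔ i ≠ o := by
    intro i
    rw [hU, Finset.mem_erase]
    exact ⟨fun h => h.1, fun h => ⟨h, Finset.mem_univ _⟩⟩
  -- norms on `U`
  have hnU : ∀ k, ∑ i ∈ U, α k i ^ 2 = ((2 : ℕ) : ℤ) := by
    intro k
    have e1 := Finset.add_sum_erase Finset.univ (fun i => α k i ^ 2) (Finset.mem_univ o)
    rw [← hU] at e1
    have e2 := hn k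
    have e3 := ho k
    rw [e3] at e1
    push_cast
    linarith
  have hval : ∀ k, ∀ i ∈ U, α k i = 0 ∨ α k i = 1 ∨ α k i = -1 :=
    fun k => (card_supp U (α k) 2 (by norm_num) (hnU k)).1
  obtain ⟨E, hE⟩ : ∃ E : Fin 4 → Finset I, ∀ k, E k = U.filter (fun i => α k i ≠ 0) :=
    ⟨fun k => U.filter (fun i => α k i ≠ 0), fun k => rfl⟩
  have hEcard : ∀ k, (E k).card = 2 := by
    intro k
    rw [hE]
    exact (card_supp U (α k) 2 (by norm_num) (hnU k)).2
  have hmemE : ∀ k i, i ∈ E k ↔ i ≠ o ∧ α k i ≠ 0 := by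
    intro k i
    rw [hE, Finset.mem_filter, hmemU]
  have hpm : ∀ k, ∀ i ∈ E k, α k i = 1 ∨ α k i = -1 := by
    intro k i hi
    obtain ⟨hio, hi0⟩ := (hmemE k i).mp hi
    rcases hval k i ((hmemU i).mpr hio) with h | h
    · exact absurd h hi0
    · exact h
  -- inner products on `U`
  have hpU : ∀ k l, k ≠ l → ∑ i ∈ U, α k i * α l i = 1 := by
    intro k l hkl
    have e1 := Finset.add_sum_erase Finset.univ (fun i => α k i * α l i) (Finset.mem_univ o)
    rw [← hU] at e1
    have e2 := hp k l hkl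
    rw [ho k, ho l] at e1
    linarith
  have hinter : ∀ k l, k ≠ l → (E k ∩ E l).card = 1 ∧ ∀ y ∈ E k ∩ E l, α k y * α l y = 1 := by
    intro k l hkl
    have hsub : E k ∩ E l ⊆ U := by
      intro y hy
      exact (hmemU y).mpr ((hmemE k y).mp (Finset.mem_inter.mp hy).1).1
    have hsum : ∑ i ∈ E k ∩ E l, α k i * α l i = 1 := by
      rw [← hpU k l hkl]
      apply Finset.sum_subset hsub
      intro y hyU hy
      rw [Finset.mem_inter, hmemE, hmemE] at hy
      have hyo := (hmemU y).mp hyU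
      by_cases h0 : α k y = 0
      · rw [h0, zero_mul]
      · have h1 : α l y = 0 := by
          by_contra h1
          exact hy ⟨⟨hyo, h0⟩, ⟨hyo, h1⟩⟩
        rw [h1, mul_zero]
    have hterm : ∀ y ∈ E k ∩ E l, α k y * α l y = 1 ∨ α k y * α l y = -1 := by
      intro y hy
      obtain ⟨hyk, hyl⟩ := Finset.mem_inter.mp hy
      rcases hpm k y hyk with h | h <;> rcases hpm l y hyl with h' | h' <;> rw [h, h'] <;> norm_num
    have hle : (E k ∩ E l).card ≤ 2 := by
      rw [← hEcard k]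
      exact Finset.card_le_card Finset.inter_subset_left
    have hcases : (E k ∩ E l).card = 0 ∨ (E k ∩ E l).card = 1 ∨ (E k ∩ E l).card = 2 := by omega
    rcases hcases with h0 | h1 | h2
    · exfalso
      rw [Finset.card_eq_zero] at h0
      rw [h0, Finset.sum_empty] at hsum
      omega
    · refine ⟨h1, ?_⟩
      obtain ⟨y, hy⟩ := Finset.card_eq_one.mp h1
      intro y' hy'
      rw [hy, Finset.mem_singleton] at hy'
      rw [hy, Finset.sum_singleton] at hsum
      rw [hy']
      exact hsum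
    · exfalso
      obtain ⟨y, z, hyz, hyzE⟩ := Finset.card_eq_two.mp h2
      have hyM : y ∈ E k ∩ E l := by rw [hyzE]; simp
      have hzM : z ∈ E k ∩ E l := by rw [hyzE]; simp
      rw [hyzE, Finset.sum_pair hyz] at hsum
      rcases hterm y hyM with h | h <;> rcases hterm z hzM with h' | h' <;> rw [h, h'] at hsum <;>
        omega
  -- the common point
  obtain ⟨x, hx⟩ := star E hEcard (fun k l hkl => (hinter k l hkl).1)
  have hxo : x ≠ o := ((hmemE 0 x).mp (hx 0)).1
  have hl : ∀ k, ∃ a, a ≠ x ∧ E k = {x, a} := fun k => other (E k) (hEcard k) x (hx k)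
  choose l hlx hEl using hl
  have hlmem : ∀ k, l k ∈ E k := by
    intro k
    rw [hEl k]
    simp
  have hlo : ∀ k, l k ≠ o := fun k => ((hmemE k (l k)).mp (hlmem k)).1
  have hlinj : Function.Injective l := by
    intro k m hkm
    by_contra hne
    have h1 := (hinter k m hne).1
    rw [hEl k, hEl m, hkm, Finset.inter_self, Finset.card_pair (hlx m).symm] at h1
    omega
  have hlnot : ∀ k m, k ≠ m → l m ∉ E k := by
    intro k m hkm hmem
    rw [hEl k, Finset.mem_insert, Finset.mem_singleton] at hmem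
    rcases hmem with h | h
    · exact hlx m h
    · exact hkm (hlinj h).symm
  have hzero : ∀ k i, i ≠ o → i ∉ E k → α k i = 0 := by
    intro k i hio hi
    by_contra h0
    exact hi ((hmemE k i).mpr ⟨hio, h0⟩)
  -- the value at `x`
  have hcx : ∀ k, α k x = α 0 x := by
    intro k
    by_cases hk : k = 0
    · rw [hk]
    · have h1 := (hinter k 0 hk).2 x (Finset.mem_inter.mpr ⟨hx k, hx 0⟩)
      rcases hpm k x (hx k) with h | h <;> rcases hpm 0 x (hx 0) with h' | h' <;>
        rw [h, h'] at h1 ⊢ <;> omega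
  -- degrees
  have hdeg3 : ∀ k, (deg o : ℤ) + α 0 x * (deg x : ℤ) + α k (l k) * (deg (l k) : ℤ) = 0 := by
    intro k
    have hm1 : x ∈ (Finset.univ : Finset I).erase o := Finset.mem_erase.mpr ⟨hxo, Finset.mem_univ _⟩
    have hm2 : l k ∈ ((Finset.univ : Finset I).erase o).erase x :=
      Finset.mem_erase.mpr ⟨hlx k, Finset.mem_erase.mpr ⟨hlo k, Finset.mem_univ _⟩⟩
    have e1 := Finset.add_sum_erase Finset.univ (fun i => α k i * (deg i : ℤ)) (Finset.mem_univ o)
    have e2 := Finset.add_sum_erase _ (fun i => α k i * (deg i : ℤ)) hm1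
    have e3 := Finset.add_sum_erase _ (fun i => α k i * (deg i : ℤ)) hm2
    have e4 : ∑ i ∈ ((Finset.univ.erase o).erase x).erase (l k), α k i * (deg i : ℤ) = 0 := by
      apply Finset.sum_eq_zero
      intro i hi
      have hi1 := Finset.ne_of_mem_erase hi
      have hi2 := Finset.ne_of_mem_erase (Finset.mem_of_mem_erase hi)
      have hi3 := Finset.ne_of_mem_erase (Finset.mem_of_mem_erase (Finset.mem_of_mem_erase hi))
      rw [hzero k i hi3 (by
        rw [hEl k, Finset.mem_insert, Finset.mem_singleton]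
        rintro (h | h)
        · exact hi2 h
        · exact hi1 h), zero_mul]
    have e5 := hd k
    rw [ho k, one_mul] at e1
    rw [hcx k] at e2
    linarith
  have hek : ∀ k, α k (l k) = α 0 (l 0) ∧ deg (l k) = deg (l 0) := by
    intro k
    have h1 := hdeg3 k
    have h2 := hdeg3 0
    have h3 : α k (l k) * (deg (l k) : ℤ) = α 0 (l 0) * (deg (l 0) : ℤ) := by linarith
    have hp1 := hdeg (l k)
    have hp2 := hdeg (l 0)
    rcases hpm k (l k) (hlmem k) with h | h <;> rcases hpm 0 (l 0) (hlmem 0) with h' | h' <;>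
      rw [h, h'] at h3 ⊢ <;> constructor <;> omega
  refine ⟨α 0 (l 0), α 0 x, x, l, hpm 0 (l 0) (hlmem 0), hpm 0 x (hx 0), hlinj, hxo,
    fun k => ⟨hlo k, hlx k⟩, fun k => (hek k).2, hcx, ?_, ?_⟩
  · intro k m
    by_cases hkm : k = m
    · rw [if_pos hkm, ← hkm]
      exact (hek k).1
    · rw [if_neg hkm]
      exact hzero k (l m) (hlo m) (hlnot k m hkm)
  · intro k i hio hix hil
    apply hzero k i hio
    rw [hEl k, Finset.mem_insert, Finset.mem_singleton]
    rintro (h | h)
    · exact hix h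
    · exact hil k h

end Cfsg.Agent.Lib.Helper69_A6_SUN2
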