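import Mathlib
import Cfsg.Prelude.Def_Characters
import Cfsg.Agent.Lib.Helper80_CharBasic
import Cfsg.Agent.Lib.Helper6_A6Defs

/-!
# S3341 package CNT2 (architect helper6), aux form

In the fusion pattern `Fus2`, an element `s' ∈ S ∖ {1, s, s⁻¹}` is not a product of two conjugates of `s`.
`count2_aux` takes the `(3,3,3)`-lemma (package L333) as an explicit hypothesis.
-/

set_option autoImplicit false

namespace Cfsg.Agent.Lib.Helper89_A6_CNT2

open Cfsg Cfsg.Agent.Lib.Helper80_CharBasic Cfsg.Agent.Lib.Helper6_A6Defs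

variable {G : Type*} [Group G] {S : Subgroup G}

theorem orderOf_eq_three' (h : Hyp G S) {s : G} (hs : s ∈ S) (hs1 : s ≠ 1) : orderOf s = 3 := by
  have h3 : orderOf s ∣ 3 := orderOf_dvd_of_pow_eq_one (h.exp s hs)
  rcases (Nat.dvd_prime Nat.prime_three).mp h3 with h1 | h1
  · exact absurd (orderOf_eq_one_iff.mp h1) hs1
  · exact h1

theorem orderOf_of_isConj {x y : G} (h : IsConj x y) : orderOf y = orderOf x := by
  obtain ⟨c, hc⟩ := isConj_iff.mp h
  rw [← hc]
  exact orderOf_conj' x c |>.trans rfl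
where
  orderOf_conj' (g h : G) : orderOf (h * g * h⁻¹) = orderOf g := by
    have : h * g * h⁻¹ = MulAut.conj h g := by rw [MulAut.conj_apply]
    rw [this]
    exact MulEquiv.orderOf_eq _ _

/-- CNT2 with the `(3,3,3)`-lemma as an explicit hypothesis. -/
theorem count2_aux (h : Hyp G S) (hf : Fus2 G S)
    (h333 : ∀ {u v : G}, orderOf u = 3 → orderOf v = 3 → u * v ∈ S → u * v ≠ 1 →
      (u ∈ S ∧ v ∈ S) ∨ (IsConj u v ∧ IsConj (u * v) u⁻¹))
    {s s' : G} (hs : s ∈ S) (hs1 : s ≠ 1)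
    (hs' : s' ∈ S) (hs'1 : s' ≠ 1) (hne : s' ≠ s) (hne' : s' ≠ s⁻¹) :
    Nat.card {p : G × G // IsConj s p.1 ∧ IsConj s p.2 ∧ p.1 * p.2 = s'} = 0 := by
  have hempty : IsEmpty {p : G × G // IsConj s p.1 ∧ IsConj s p.2 ∧ p.1 * p.2 = s'} := by
    constructor
    rintro ⟨⟨u, v⟩, hu, hv, huv⟩
    simp only at hu hv huv
    have hso : orderOf s = 3 := orderOf_eq_three' h hs hs1
    have huo : orderOf u = 3 := (orderOf_of_isConj hu).trans hso
    have hvo : orderOf v = 3 := (orderOf_of_isConj hv).trans hso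
    have hs3 : s ^ 3 = 1 := h.exp s hs
    have hss : s * s = s⁻¹ := by
      apply eq_inv_of_mul_eq_one_left
      rw [← hs3, pow_succ, pow_two]
    rcases h333 huo hvo (huv ▸ hs') (huv ▸ hs'1) with ⟨huS, hvS⟩ | ⟨-, hc⟩
    · -- both in `S`
      have hu' := (hf s hs hs1 u huS).mp hu
      have hv' := (hf s hs hs1 v hvS).mp hv
      rcases hu' with rfl | rfl <;> rcases hv' with rfl | rfl
      · exact hne' (huv ▸ hss)
      · exact hs'1 (by rw [← huv, mul_inv_cancel])
      · exact hs'1 (by rw [← huv, inv_mul_cancel])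
      · apply hne
        rw [← huv, ← mul_inv_rev, hss, inv_inv]
    · -- `s' = u v ~ u⁻¹ ~ s⁻¹ ~ s`
      rw [huv] at hc
      have h1 : IsConj s⁻¹ u⁻¹ := by
        obtain ⟨c, hc'⟩ := isConj_iff.mp hu
        rw [isConj_iff]
        exact ⟨c, by rw [← hc']; group⟩
      have h2 : IsConj s s⁻¹ := (hf s hs hs1 s⁻¹ (S.inv_mem hs)).mpr (Or.inr rfl)
      have h3 : IsConj s s' := (h2.trans h1).trans hc.symm
      rcases (hf s hs hs1 s' hs').mp h3 with h4 | h4
      · exact hne h4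
      · exact hne' h4
  exact Nat.card_of_isEmpty

end Cfsg.Agent.Lib.Helper89_A6_CNT2
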