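import Mathlib
import Cfsg.Prelude.Def_Characters
import Cfsg.Agent.Lib.Helper80_CharBasic
import Cfsg.Agent.Lib.Helper80_CharComplete
import Cfsg.Agent.Lib.Helper30_SelfCent3
import Cfsg.Agent.Lib.Helper6_A6Defs

/-!
# S3341 package GRAM2 (helper8 for helper6): the Gram data of the four integer vectors `α i` attached to
the values of the irreducible characters on the four classes of 3-elements (fusion pattern `Fus2`).
-/

set_option autoImplicit false
set_option linter.unusedSectionVars false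
open scoped ComplexConjugate

namespace Cfsg.Agent.Lib.Helper8_A6_GRAM2

open Cfsg Cfsg.Agent.Lib.Helper80_CharBasic Cfsg.Agent.Lib.Helper6_A6Defs

/-- counting the common part of two erased index sets -/
theorem erase_count : ∀ i j : Fin 4,
    ∑ k ∈ (Finset.univ.erase i : Finset (Fin 4)), ∑ l ∈ (Finset.univ.erase j : Finset (Fin 4)),
      (if k = l then (9 : ℤ) else 0) = if i = j then 27 else 18 := by
  decide

/-- four integers congruent to `d` modulo `3` are `(∑ a) - 3 a i` for an integer vector `a` -/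
theorem int_aux (n : Fin 4 → ℤ) (d : ℤ) (hn : ∀ i, (3 : ℤ) ∣ d - n i) :
    ∃ a : Fin 4 → ℤ, ∀ i, n i = (∑ j, a j) - 3 * a i := by
  obtain ⟨k0, hk0⟩ := hn 0
  obtain ⟨k1, hk1⟩ := hn 1
  obtain ⟨k2, hk2⟩ := hn 2
  obtain ⟨k3, hk3⟩ := hn 3
  refine ⟨fun i => ![k0, k1, k2, k3] i + d - (k0 + k1 + k2 + k3), ?_⟩
  intro i
  fin_cases i <;> simp [Fin.sum_univ_four] <;> linarith

section grp
variable {G : Type*} [Group G] [Finite G] {S : Subgroup G}

theorem gram2 (h : Hyp G S) (hf : Fus2 G S) (t : Fin 4 → G) (ht : ∀ i, t i ∈ S) (ht1 : ∀ i, t i ≠ 1)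
    (hti : ∀ i j, i ≠ j → t i ≠ t j ∧ t i ≠ (t j)⁻¹) :
    ∃ α : Fin 4 → IrrCharacter G → ℤ,
      (∀ (χ : IrrCharacter G) (i : Fin 4),
        (χ : G → ℂ) (t i) = (∑ j, (α j χ : ℂ)) - 3 * (α i χ : ℂ)) ∧
      (∀ i, α i (oneIrr G) = 1) ∧
      (∀ i, ∑ᶠ χ : IrrCharacter G, α i χ ^ 2 = 3) ∧
      (∀ i j, i ≠ j → ∑ᶠ χ : IrrCharacter G, α i χ * α j χ = 2) ∧
      (∀ i, ∑ᶠ χ : IrrCharacter G, (α i χ : ℂ) * (χ : G → ℂ) 1 = 0) := by
  classical
  have := Fintype.ofFinite G
  let _ : Fintype (IrrCharacter G) := Fintype.ofFinite _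
  have ho : ∀ i, orderOf (t i) = 3 := fun i => orderOf_eq_prime (h.exp _ (ht i)) (ht1 i)
  have hreal : ∀ i, IsConj (t i) (t i)⁻¹ := fun i =>
    (hf (t i) (ht i) (ht1 i) _ (S.inv_mem (ht i))).2 (Or.inr rfl)
  have hnc : ∀ i j, i ≠ j → ¬ IsConj (t i) (t j) := by
    intro i j hij hc
    rcases (hf (t i) (ht i) (ht1 i) _ (ht j)).1 hc with e | e
    · exact (hti i j hij).1 e.symm
    · exact (hti i j hij).2 (by rw [e, inv_inv])
  have hnc1 : ∀ i, ¬ IsConj (t i) 1 := fun i hc => ht1 i (isConj_one_left.mp hc)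
  have hcard : ∀ i, Nat.card (Subgroup.centralizer ({t i} : Set G)) = 9 := fun i => by
    rw [h.cent _ (ht i) (ht1 i), h.card]
  -- integrality
  have hex : ∀ χ : IrrCharacter G, ∃ a : Fin 4 → ℤ, ∀ i,
      (χ : G → ℂ) (t i) = (((∑ j, a j) - 3 * a i : ℤ) : ℂ) := by
    intro χ
    have hχ : IsCharacter G (χ : G → ℂ) :=
      Cfsg.Agent.Lib.Helper3_CharBridge.isCharacter_of_isIrrCharacter χ.2
    have hv : ∀ i, ∃ (n : ℤ) (d : ℕ), (χ : G → ℂ) (t i) = n ∧ (χ : G → ℂ) 1 = d ∧
        (3 : ℤ) ∣ (d : ℤ) - n := fun i =>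
      Cfsg.Agent.Lib.Helper30_SelfCent3.value_at_three hχ (ho i) (hreal i)
    choose n d hn hd hdn using hv
    have hdd : ∀ i, d i = d 0 := by
      intro i
      have : (d i : ℂ) = (d 0 : ℂ) := by rw [← hd i, ← hd 0]
      exact_mod_cast this
    obtain ⟨a, ha⟩ := int_aux n (d 0 : ℤ) (fun i => by rw [← hdd i]; exact hdn i)
    refine ⟨a, fun i => ?_⟩
    rw [hn i, ha i]
  choose α hval using hex
  set p : Fin 4 → IrrCharacter G → ℤ := fun i χ => (∑ j, α χ j) - 3 * α χ i with hp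
  have hval' : ∀ (χ : IrrCharacter G) i, (χ : G → ℂ) (t i) = ((p i χ : ℤ) : ℂ) := fun χ i => hval χ i
  have hdeg : ∀ χ : IrrCharacter G, ∃ n : ℕ, (χ : G → ℂ) 1 = n := by
    intro χ
    obtain ⟨n, -, hn⟩ := irr_apply_one χ
    exact ⟨n, hn⟩
  choose dg hdg using hdeg
  -- second orthogonality
  have hP : ∀ k l, ∑ χ : IrrCharacter G, p k χ * p l χ = if k = l then 9 else 0 := by
    intro k l
    have o := Cfsg.Agent.Lib.Helper80_CharComplete.second_orthogonality_sum (t k) (t l)
    by_cases hkl : k = l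
    · subst hkl
      rw [if_pos (IsConj.refl _), hcard] at o
      simp only [hval', map_intCast] at o
      rw [if_pos rfl]
      exact_mod_cast o
    · rw [if_neg (hnc k l hkl)] at o
      simp only [hval', map_intCast] at o
      rw [if_neg hkl]
      exact_mod_cast o
  have hD : ∀ k, ∑ χ : IrrCharacter G, p k χ * (dg χ : ℤ) = 0 := by
    intro k
    have o := Cfsg.Agent.Lib.Helper80_CharComplete.second_orthogonality_sum (t k) (1 : G)
    rw [if_neg (hnc1 k)] at o
    simp only [hval', hdg, map_natCast] at o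
    exact_mod_cast o
  -- inverting the matrix `J - 3`
  have h3 : ∀ (χ : IrrCharacter G) i, 3 * α χ i = ∑ k ∈ Finset.univ.erase i, p k χ := by
    intro χ i
    rw [Finset.sum_erase_eq_sub (Finset.mem_univ i)]
    have : ∑ k, p k χ = ∑ j, α χ j := by
      simp only [hp, Fin.sum_univ_four]
      ring
    rw [this]
    simp only [hp]
    ring
  have hG : ∀ i j, 9 * ∑ χ : IrrCharacter G, α χ i * α χ j = if i = j then 27 else 18 := by
    intro i j
    rw [← erase_count i j, Finset.mul_sum]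
    have e : ∀ χ : IrrCharacter G, 9 * (α χ i * α χ j)
        = ∑ k ∈ Finset.univ.erase i, ∑ l ∈ Finset.univ.erase j, p k χ * p l χ := by
      intro χ
      rw [← Finset.sum_mul_sum, ← h3, ← h3]
      ring
    rw [Finset.sum_congr rfl (fun χ _ => e χ), Finset.sum_comm]
    refine Finset.sum_congr rfl (fun k _ => ?_)
    rw [Finset.sum_comm]
    exact Finset.sum_congr rfl (fun l _ => hP k l)
  have hE : ∀ i, 3 * ∑ χ : IrrCharacter G, α χ i * (dg χ : ℤ) = 0 := by
    intro i
    rw [Finset.mul_sum]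
    have e : ∀ χ : IrrCharacter G, 3 * (α χ i * (dg χ : ℤ))
        = ∑ k ∈ Finset.univ.erase i, p k χ * (dg χ : ℤ) := by
      intro χ
      rw [← Finset.sum_mul, ← h3]
      ring
    rw [Finset.sum_congr rfl (fun χ _ => e χ), Finset.sum_comm]
    exact Finset.sum_eq_zero (fun k _ => hD k)
  -- the principal character
  have hone : ∀ i, α (oneIrr G) i = 1 := by
    intro i
    have hp1 : ∀ k, p k (oneIrr G) = 1 := by
      intro k
      have e := hval' (oneIrr G) k
      have e1 : ((oneIrr G : IrrCharacter G) : G → ℂ) (t k) = 1 := rfl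
      rw [e1] at e
      exact_mod_cast e.symm
    have := h3 (oneIrr G) i
    simp only [hp1, Finset.sum_const, Finset.card_erase_of_mem (Finset.mem_univ i),
      Finset.card_univ, Fintype.card_fin, nsmul_eq_mul] at this
    norm_num at this
    omega
  refine ⟨fun i χ => α χ i, ?_, hone, ?_, ?_, ?_⟩
  · intro χ i
    rw [hval χ i]
    push_cast
    ring
  · intro i
    rw [finsum_eq_sum_of_fintype]
    have := hG i i
    rw [if_pos rfl] at this
    have e : ∑ χ : IrrCharacter G, α χ i ^ 2 = ∑ χ : IrrCharacter G, α χ i * α χ i :=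
      Finset.sum_congr rfl (fun χ _ => pow_two _)
    show ∑ χ : IrrCharacter G, α χ i ^ 2 = 3
    rw [e]
    omega
  · intro i j hij
    rw [finsum_eq_sum_of_fintype]
    have := hG i j
    rw [if_neg hij] at this
    show ∑ χ : IrrCharacter G, α χ i * α χ j = 2
    omega
  · intro i
    rw [finsum_eq_sum_of_fintype]
    simp only [hdg]
    have := hE i
    have e : ∑ χ : IrrCharacter G, α χ i * (dg χ : ℤ) = 0 := by omega
    exact_mod_cast e

end grp

end Cfsg.Agent.Lib.Helper8_A6_GRAM2
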