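import Mathlib
import Cfsg.Prelude.Def_Characters
import Cfsg.Agent.Lib.Helper80_CharBasic
import Cfsg.Agent.Lib.Helper6_A6Defs

/-!
# Helper8_A6_L333: the (3,3,3)-lemma (package S3341-L333)

`u`, `v` of order `3` with `u v ∈ S ∖ 1`: either `u, v ∈ S`, or `u ~ v` and `u v ~ u⁻¹`.
-/

set_option autoImplicit false

namespace Cfsg.Agent.Lib.Helper8_A6_L333

open Cfsg Cfsg.Agent.Lib.Helper80_CharBasic Cfsg.Agent.Lib.Helper6_A6Defs

variable {G : Type*} [Group G] [Finite G] {S : Subgroup G}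

omit [Finite G] in
/-- the centralizer of an element of order three is abelian of exponent three -/
theorem cent3 (h : Hyp G S) {b : G} (hb : orderOf b = 3) :
    (∀ x y : G, x * b = b * x → y * b = b * y → x * y = y * x) ∧
      (∀ x : G, x * b = b * x → x ^ 3 = 1) := by
  obtain ⟨g, hg⟩ := h.syl b hb
  have hs1 : g * b * g⁻¹ ≠ 1 := by
    intro h1
    have : b = 1 := by
      calc b = g⁻¹ * (g * b * g⁻¹) * g := by group
        _ = 1 := by rw [h1]; group
    rw [this, orderOf_one] at hb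
    omega
  have hmem : ∀ x : G, x * b = b * x → g * x * g⁻¹ ∈ S := by
    intro x hx
    rw [← h.cent _ hg hs1, Subgroup.mem_centralizer_singleton_iff]
    calc g * x * g⁻¹ * (g * b * g⁻¹) = g * (x * b) * g⁻¹ := by group
      _ = g * (b * x) * g⁻¹ := by rw [hx]
      _ = g * b * g⁻¹ * (g * x * g⁻¹) := by group
  constructor
  · intro x y hx hy
    have hc := h.comm _ (hmem x hx) _ (hmem y hy)
    calc x * y = g⁻¹ * ((g * x * g⁻¹) * (g * y * g⁻¹)) * g := by group
      _ = g⁻¹ * ((g * y * g⁻¹) * (g * x * g⁻¹)) * g := by rw [hc]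
      _ = y * x := by group
  · intro x hx
    have he := h.exp _ (hmem x hx)
    calc x ^ 3 = g⁻¹ * (g * x * g⁻¹) ^ 3 * g := by rw [conj_pow]; group
      _ = 1 := by rw [he]; group

theorem lemma333 (h : Hyp G S) {u v : G} (hu : orderOf u = 3) (hv : orderOf v = 3)
    (huv : u * v ∈ S) (huv1 : u * v ≠ 1) :
    (u ∈ S ∧ v ∈ S) ∨ (IsConj u v ∧ IsConj (u * v) u⁻¹) := by
  have hu3 : u ^ 3 = 1 := by rw [← hu]; exact pow_orderOf_eq_one u
  have hv3 : v ^ 3 = 1 := by rw [← hv]; exact pow_orderOf_eq_one v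
  have huu : u * u = u⁻¹ := by
    have : u * u * u = 1 := by rw [← hu3, pow_three']
    exact eq_inv_of_mul_eq_one_left this
  have hui : u⁻¹ * u⁻¹ = u := by
    have : u⁻¹ * u⁻¹ = (u * u)⁻¹ := by group
    rw [this, huu, inv_inv]
  have hw3 : (u * v) ^ 3 = 1 := h.exp _ huv
  have hvu3 : (v * u) ^ 3 = 1 := by
    have : v * u = u⁻¹ * (u * v) * (u⁻¹)⁻¹ := by group
    rw [this, conj_pow, hw3]
    group
  -- `a = v u⁻¹` and its conjugates under `u`
  set a := v * u⁻¹ with ha
  set p := u * a * u⁻¹ with hp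
  set q := u⁻¹ * a * u with hq
  have hau : a * u = v := by rw [ha]; group
  have haui : a * u⁻¹ = v * u := by rw [ha, mul_assoc, hui]
  have e1 : a * p * q = 1 := by
    calc a * p * q = a * (u * a * u⁻¹) * (u⁻¹ * a * u) := rfl
      _ = a * u * a * (u⁻¹ * u⁻¹) * a * u := by group
      _ = a * u * a * u * a * u := by rw [hui]
      _ = (a * u) ^ 3 := by rw [pow_three']; simp only [mul_assoc]
      _ = 1 := by rw [hau, hv3]
  have e2 : a * q * p = 1 := by
    calc a * q * p = a * (u⁻¹ * a * u) * (u * a * u⁻¹) := rfl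
      _ = a * u⁻¹ * a * (u * u) * a * u⁻¹ := by group
      _ = a * u⁻¹ * a * u⁻¹ * a * u⁻¹ := by rw [huu]
      _ = (a * u⁻¹) ^ 3 := by rw [pow_three']; simp only [mul_assoc]
      _ = 1 := by rw [haui, hvu3]
  have hpq : p * q = q * p := by
    have a1 : p * q = a⁻¹ := by
      calc p * q = a⁻¹ * (a * p * q) := by group
        _ = a⁻¹ := by rw [e1, mul_one]
    have a2 : q * p = a⁻¹ := by
      calc q * p = a⁻¹ * (a * q * p) := by group
        _ = a⁻¹ := by rw [e2, mul_one]
    rw [a1, a2]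
  have hav : a = q⁻¹ * p⁻¹ := by
    calc a = (a * p * q) * q⁻¹ * p⁻¹ := by group
      _ = q⁻¹ * p⁻¹ := by rw [e1]; group
  have cpq : Commute p q := hpq
  have hap : a * p = p * a := by
    have c1 : Commute p (q⁻¹ * p⁻¹) := cpq.inv_right.mul_right (Commute.refl p).inv_right
    rw [← hav] at c1
    exact c1.symm.eq
  have haq : a * q = q * a := by
    have c1 : Commute q (q⁻¹ * p⁻¹) := (Commute.refl q).inv_right.mul_right cpq.symm.inv_right
    rw [← hav] at c1
    exact c1.symm.eq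
  -- the abelian `u`-invariant subgroup `B`
  let T : Set G := {a, p, q}
  have hTcomm : ∀ x ∈ T, ∀ y ∈ T, x * y = y * x := by
    intro x hx y hy
    simp only [T, Set.mem_insert_iff, Set.mem_singleton_iff] at hx hy
    rcases hx with rfl | rfl | rfl <;> rcases hy with rfl | rfl | rfl
    · rfl
    · exact hap
    · exact haq
    · exact hap.symm
    · rfl
    · exact hpq
    · exact haq.symm
    · exact hpq.symm
    · rfl
  let B : Subgroup G := Subgroup.closure T
  have hBcomm : ∀ x ∈ B, ∀ y ∈ B, x * y = y * x := by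
    intro x hx y hy
    have hc := Subgroup.isMulCommutative_closure hTcomm
    have := hc.is_comm.comm (⟨x, hx⟩ : Subgroup.closure T) ⟨y, hy⟩
    exact congrArg Subtype.val this
  have haB : a ∈ B := Subgroup.subset_closure (by simp [T])
  have hpB : p ∈ B := Subgroup.subset_closure (by simp [T])
  have hconjT : ∀ s ∈ T, u * s * u⁻¹ ∈ T := by
    intro s hs
    simp only [T, Set.mem_insert_iff, Set.mem_singleton_iff] at hs ⊢
    rcases hs with rfl | rfl | rfl
    · right; left; rfl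
    · right; right
      calc u * (u * a * u⁻¹) * u⁻¹ = (u * u) * a * (u⁻¹ * u⁻¹) := by group
        _ = u⁻¹ * a * u := by rw [huu, hui]
    · left
      show u * (u⁻¹ * a * u) * u⁻¹ = a
      group
  have hconjB : ∀ b ∈ B, u * b * u⁻¹ ∈ B := by
    intro b hb
    have hle : B ≤ B.comap (MulAut.conj u).toMonoidHom := by
      show Subgroup.closure T ≤ _
      rw [Subgroup.closure_le]
      intro s hs
      show (MulAut.conj u) s ∈ B
      rw [MulAut.conj_apply]
      exact Subgroup.subset_closure (hconjT s hs)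
    have := hle hb
    rw [Subgroup.mem_comap] at this
    simpa [MulAut.conj_apply] using this
  have hconjB' : ∀ b ∈ B, u⁻¹ * b * u ∈ B := by
    intro b hb
    have h1 := hconjB _ (hconjB b hb)
    have : u * (u * b * u⁻¹) * u⁻¹ = u⁻¹ * b * u := by
      calc u * (u * b * u⁻¹) * u⁻¹ = (u * u) * b * (u⁻¹ * u⁻¹) := by group
        _ = u⁻¹ * b * u := by rw [huu, hui]
    rw [this] at h1
    exact h1
  have huuu : u * u * u = 1 := by rw [← hu3, pow_three']
  have : Fact (Nat.Prime 3) := ⟨Nat.prime_three⟩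
  by_cases h3 : 3 ∣ Nat.card B
  · -- `B` is a nontrivial `3`-group: `u` has a nontrivial fixed point in `B`
    left
    obtain ⟨y, hy⟩ := exists_prime_orderOf_dvd_card' (G := B) 3 h3
    have hy' : orderOf (y : G) = 3 := by rw [Subgroup.orderOf_coe]; exact hy
    have hyc := cent3 h hy'
    have hB3 : ∀ b ∈ B, b ^ 3 = 1 := fun b hb => hyc.2 b (hBcomm b hb y y.2)
    have hy1' : (y : G) ≠ 1 := by
      intro h1
      rw [h1, orderOf_one] at hy'
      omega
    obtain ⟨c, hcB, hc1, hcu⟩ : ∃ c ∈ B, c ≠ 1 ∧ u * c = c * u := by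
      obtain ⟨y0, hy0⟩ : ∃ y0 : G, y0 = (y : G) := ⟨_, rfl⟩
      have hy0B : y0 ∈ B := by rw [hy0]; exact y.2
      have hy01 : y0 ≠ 1 := by rw [hy0]; exact hy1'
      obtain ⟨y1, hy1⟩ : ∃ y1 : G, y1 = u * y0 * u⁻¹ := ⟨_, rfl⟩
      obtain ⟨y2, hy2⟩ : ∃ y2 : G, y2 = u * y1 * u⁻¹ := ⟨_, rfl⟩
      have hy1B : y1 ∈ B := by rw [hy1]; exact hconjB y0 hy0B
      have hy2B : y2 ∈ B := by rw [hy2]; exact hconjB y1 hy1B
      have hy3 : u * y2 * u⁻¹ = y0 := by
        rw [hy2, hy1]
        calc u * (u * (u * y0 * u⁻¹) * u⁻¹) * u⁻¹ = (u * u * u) * y0 * (u * u * u)⁻¹ := by group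
          _ = y0 := by rw [huuu]; group
      have c01 : Commute y0 y1 := hBcomm y0 hy0B y1 hy1B
      have c02 : Commute y0 y2 := hBcomm y0 hy0B y2 hy2B
      by_cases hN : y0 * y1 * y2 = 1
      · by_cases hz : y0⁻¹ * y1 = 1
        · refine ⟨y0, hy0B, hy01, ?_⟩
          have h10 : y1 = y0 := by
            calc y1 = y0 * (y0⁻¹ * y1) := by group
              _ = y0 := by rw [hz, mul_one]
          calc u * y0 = (u * y0 * u⁻¹) * u := by group
            _ = y0 * u := by rw [← hy1, h10]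
        · refine ⟨y0⁻¹ * y1, B.mul_mem (B.inv_mem hy0B) hy1B, hz, ?_⟩
          have hy2' : y2 = y1⁻¹ * y0⁻¹ := by
            calc y2 = (y0 * y1)⁻¹ * (y0 * y1 * y2) := by group
              _ = y1⁻¹ * y0⁻¹ := by rw [hN]; group
          have hy1i : y1⁻¹ * y1⁻¹ = y1 := by
            have h13 := hB3 y1 hy1B
            have : y1 * y1 * y1 = 1 := by rw [← h13, pow_three']
            calc y1⁻¹ * y1⁻¹ = y1⁻¹ * y1⁻¹ * (y1 * y1 * y1) := by rw [this, mul_one]
              _ = y1 := by group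
          have hconj : u * (y0⁻¹ * y1) * u⁻¹ = y0⁻¹ * y1 := by
            calc u * (y0⁻¹ * y1) * u⁻¹ = (u * y0 * u⁻¹)⁻¹ * (u * y1 * u⁻¹) := by group
              _ = y1⁻¹ * y2 := by rw [← hy1, ← hy2]
              _ = (y1⁻¹ * y1⁻¹) * y0⁻¹ := by rw [hy2']; group
              _ = y1 * y0⁻¹ := by rw [hy1i]
              _ = y0⁻¹ * y1 := (c01.inv_left.eq).symm
          calc u * (y0⁻¹ * y1) = (u * (y0⁻¹ * y1) * u⁻¹) * u := by group
            _ = y0⁻¹ * y1 * u := by rw [hconj]
      · refine ⟨y0 * y1 * y2, B.mul_mem (B.mul_mem hy0B hy1B) hy2B, hN, ?_⟩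
        have hconj : u * (y0 * y1 * y2) * u⁻¹ = y0 * y1 * y2 := by
          calc u * (y0 * y1 * y2) * u⁻¹
              = (u * y0 * u⁻¹) * (u * y1 * u⁻¹) * (u * y2 * u⁻¹) := by group
            _ = y1 * y2 * y0 := by rw [← hy1, ← hy2, hy3]
            _ = y0 * (y1 * y2) := ((c01.mul_right c02).eq).symm
            _ = y0 * y1 * y2 := (mul_assoc _ _ _).symm
        calc u * (y0 * y1 * y2) = (u * (y0 * y1 * y2) * u⁻¹) * u := by group
          _ = y0 * y1 * y2 * u := by rw [hconj]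
    have hc3 : orderOf c = 3 := orderOf_eq_prime (hB3 c hcB) hc1
    have hcc := cent3 h hc3
    have hua : u * a = a * u := hcc.1 u a hcu (hBcomm a haB c hcB)
    have hcomm : u * v = v * u := by
      rw [← hau]
      calc u * (a * u) = (u * a) * u := by group
        _ = a * u * u := by rw [hua]
    have hSc := h.cent _ huv huv1
    constructor
    · rw [← hSc, Subgroup.mem_centralizer_singleton_iff]
      calc u * (u * v) = u * (v * u) := by rw [hcomm]
        _ = u * v * u := by group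
    · rw [← hSc, Subgroup.mem_centralizer_singleton_iff]
      calc v * (u * v) = (v * u) * v := by group
        _ = u * v * v := by rw [← hcomm]
  · -- `3 ∤ |B|`: `u` acts fixed-point-freely on `B`
    right
    have hfix : ∀ c ∈ B, u * c = c * u → c = 1 := by
      intro c hc hcu
      have hc3 : c ^ 3 = 1 := (cent3 h hu).2 c hcu.symm
      have hd : orderOf c ∣ 3 := orderOf_dvd_of_pow_eq_one hc3
      have hdB : orderOf c ∣ Nat.card B := by
        have := orderOf_dvd_natCard (⟨c, hc⟩ : B)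
        rwa [Subgroup.orderOf_mk] at this
      rcases (Nat.dvd_prime Nat.prime_three).mp hd with h1 | h3'
      · exact orderOf_eq_one_iff.mp h1
      · exact absurd (h3' ▸ hdB) h3
    have key : ∀ w : G, (∀ b ∈ B, w * b * w⁻¹ ∈ B) → (∀ c ∈ B, w * c = c * w → c = 1) →
        ∀ t ∈ B, ∃ c ∈ B, c⁻¹ * (w * c * w⁻¹) = t := by
      intro w hw hfw t ht
      let φ : B → B := fun c => ⟨(c : G)⁻¹ * (w * c * w⁻¹), B.mul_mem (B.inv_mem c.2) (hw c c.2)⟩
      have hinj : Function.Injective φ := by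
        intro c d hcd
        have h1 : (c : G)⁻¹ * (w * c * w⁻¹) = (d : G)⁻¹ * (w * d * w⁻¹) :=
          congrArg Subtype.val hcd
        have h2 : (d : G) * (c : G)⁻¹ = w * ((d : G) * (c : G)⁻¹) * w⁻¹ := by
          calc (d : G) * (c : G)⁻¹
              = d * ((c : G)⁻¹ * (w * c * w⁻¹)) * (w * c * w⁻¹)⁻¹ := by group
            _ = d * ((d : G)⁻¹ * (w * d * w⁻¹)) * (w * c * w⁻¹)⁻¹ := by rw [h1]
            _ = w * ((d : G) * (c : G)⁻¹) * w⁻¹ := by group
        have h3 : w * ((d : G) * (c : G)⁻¹) = (d : G) * (c : G)⁻¹ * w := by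
          calc w * ((d : G) * (c : G)⁻¹) = (w * ((d : G) * (c : G)⁻¹) * w⁻¹) * w := by group
            _ = (d : G) * (c : G)⁻¹ * w := by rw [← h2]
        have h4 := hfw _ (B.mul_mem d.2 (B.inv_mem c.2)) h3
        apply Subtype.ext
        calc (c : G) = ((d : G) * (c : G)⁻¹)⁻¹ * d := by group
          _ = d := by rw [h4]; group
      obtain ⟨c, hc⟩ := (Finite.injective_iff_surjective.mp hinj) ⟨t, ht⟩
      exact ⟨c, c.2, congrArg Subtype.val hc⟩
    constructor
    · obtain ⟨c, -, hc⟩ := key u hconjB hfix a haB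
      rw [isConj_iff]
      refine ⟨c⁻¹, ?_⟩
      calc c⁻¹ * u * c⁻¹⁻¹ = (c⁻¹ * (u * c * u⁻¹)) * u := by group
        _ = a * u := by rw [hc]
        _ = v := hau
    · have hw : ∀ b ∈ B, u⁻¹ * b * u⁻¹⁻¹ ∈ B := by
        intro b hb
        rw [inv_inv]
        exact hconjB' b hb
      have hfw : ∀ c ∈ B, u⁻¹ * c = c * u⁻¹ → c = 1 := by
        intro c hc hcu
        apply hfix c hc
        calc u * c = u * (c * u⁻¹) * u := by group
          _ = u * (u⁻¹ * c) * u := by rw [hcu]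
          _ = c * u := by group
      obtain ⟨c, -, hc⟩ := key u⁻¹ hw hfw p hpB
      rw [inv_inv] at hc
      have hpu : p * u⁻¹ = u * v := by
        rw [hp, ha]
        calc u * (v * u⁻¹) * u⁻¹ * u⁻¹ = u * v * (u⁻¹ * u⁻¹ * u⁻¹) := by group
          _ = u * v * (u * u * u)⁻¹ := by group
          _ = u * v := by rw [huuu]; group
      rw [isConj_iff]
      refine ⟨c, ?_⟩
      calc c * (u * v) * c⁻¹ = c * (p * u⁻¹) * c⁻¹ := by rw [hpu]
        _ = c * ((c⁻¹ * (u⁻¹ * c * u)) * u⁻¹) * c⁻¹ := by rw [hc]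
        _ = u⁻¹ := by group

end Cfsg.Agent.Lib.Helper8_A6_L333
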