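import Mathlib
import Cfsg.Prelude.Def_Characters
import Cfsg.Agent.Lib.Helper80_CharBasic
import Cfsg.Agent.Lib.Helper6_A6Defs
import Cfsg.Agent.Lib.Helper8_A6_L333
import Cfsg.Agent.Lib.Helper8_A6_GRAM2
import Cfsg.Agent.Lib.Helper69_A6_SUN2
import Cfsg.Agent.Lib.Helper89_A6_CNT2
import Cfsg.Agent.Lib.Helper63_A6_E2aux

/-!
S3341 package E2 (helper6's market), verbatim form: the fusion pattern `|N(S):S| = 2` is impossible
in a perfect group.  Wrapper of `Helper63_A6_E2aux.fus2_false_aux` over the landed packages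
L333 + CNT2 (helper8, helper89), GRAM2 (helper8), SUN2 (helper69).  helper63.
-/

set_option autoImplicit false
open scoped ComplexConjugate

namespace Cfsg.Agent.Lib.Helper63_A6_E2

open Cfsg Cfsg.Agent.Lib.Helper80_CharBasic Cfsg.Agent.Lib.Helper6_A6Defs

section chr
variable {G : Type*} [Group G] [Finite G] {S : Subgroup G}

/-- CNT2 verbatim (from helper89's `count2_aux` and helper8's `lemma333`) -/
theorem count2 (h : Hyp G S) (hf : Fus2 G S) {s s' : G} (hs : s ∈ S) (hs1 : s ≠ 1)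
    (hs' : s' ∈ S) (hs'1 : s' ≠ 1) (hne : s' ≠ s) (hne' : s' ≠ s⁻¹) :
    Nat.card {p : G × G // IsConj s p.1 ∧ IsConj s p.2 ∧ p.1 * p.2 = s'} = 0 :=
  Cfsg.Agent.Lib.Helper89_A6_CNT2.count2_aux h hf
    (fun hu hv huv huv1 => Cfsg.Agent.Lib.Helper8_A6_L333.lemma333 h hu hv huv huv1)
    hs hs1 hs' hs'1 hne hne'

/-- **E2** -/
theorem fus2_false (h : Hyp G S) (hf : Fus2 G S) (hperf : commutator G = ⊤) : False :=
  Cfsg.Agent.Lib.Helper63_A6_E2aux.fus2_false_aux h hperf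
    (fun hs hs1 hs' hs'1 hne hne' => count2 h hf hs hs1 hs' hs'1 hne hne')
    (Cfsg.Agent.Lib.Helper8_A6_GRAM2.gram2 h hf)
    (fun o deg hdeg α hn hp ho hd =>
      Cfsg.Agent.Lib.Helper69_A6_SUN2.sun2 o deg hdeg α hn hp ho hd)

end chr

end Cfsg.Agent.Lib.Helper63_A6_E2
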