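import Mathlib
import Cfsg.Prelude.Def_Characters
import Cfsg.Agent.Lib.Helper80_CharBasic
import Cfsg.Agent.Lib.Helper6_A6Defs

/-!
S3341-BASIC (helper6's market): local structure of a self-centralising elementary abelian subgroup of order 9.
-/

set_option autoImplicit false
set_option linter.unusedSectionVars false
open scoped ComplexConjugate

namespace Cfsg.Agent.Lib.Helper52_A6_BASIC

open Cfsg Cfsg.Agent.Lib.Helper80_CharBasic Cfsg.Agent.Lib.Helper6_A6Defs

variable {G : Type*} [Group G] [Finite G] {S : Subgroup G}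

theorem orderOf_eq_three (h : Hyp G S) {s : G} (hs : s ∈ S) (hs1 : s ≠ 1) : orderOf s = 3 := by
  have h3 : orderOf s ∣ 3 := orderOf_dvd_of_pow_eq_one (h.exp s hs)
  rcases (Nat.dvd_prime Nat.prime_three).mp h3 with h1 | h1
  · exact absurd (orderOf_eq_one_iff.mp h1) hs1
  · exact h1

/-- conjugation by `g` maps `S` into `S` as soon as it maps one non-identity element into `S` -/
theorem conj_mem_of_conj (h : Hyp G S) {s : G} (hs : s ∈ S) (hs1 : s ≠ 1) {g : G}
    (hg : g * s * g⁻¹ ∈ S) {x : G} (hx : x ∈ S) : g * x * g⁻¹ ∈ S := by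
  have h1 : g * s * g⁻¹ ≠ 1 := by
    intro e
    apply hs1
    have : s = g⁻¹ * (g * s * g⁻¹) * g := by group
    rw [this, e]
    group
  rw [← h.cent _ hg h1, Subgroup.mem_centralizer_iff]
  intro y hy
  rw [Set.mem_singleton_iff] at hy
  subst hy
  have := h.comm s hs x hx
  calc g * s * g⁻¹ * (g * x * g⁻¹) = g * (s * x) * g⁻¹ := by group
    _ = g * (x * s) * g⁻¹ := by rw [this]
    _ = g * x * g⁻¹ * (g * s * g⁻¹) := by group

theorem mem_normalizer_of_conj (h : Hyp G S) {s : G} (hs : s ∈ S) (hs1 : s ≠ 1) {g : G}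
    (hg : g * s * g⁻¹ ∈ S) : g ∈ Subgroup.normalizer (S : Set G) := by
  rw [Subgroup.mem_normalizer_iff]
  intro x
  constructor
  · intro hx
    exact conj_mem_of_conj h hs hs1 hg hx
  · intro hx
    have h1 : g * s * g⁻¹ ≠ 1 := by
      intro e
      apply hs1
      have : s = g⁻¹ * (g * s * g⁻¹) * g := by group
      rw [this, e]
      group
    have h2 : g⁻¹ * (g * s * g⁻¹) * g⁻¹⁻¹ ∈ S := by
      have : g⁻¹ * (g * s * g⁻¹) * g⁻¹⁻¹ = s := by group
      rw [this]
      exact hs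
    have h3 := conj_mem_of_conj h hg h1 h2 hx
    have : g⁻¹ * (g * x * g⁻¹) * g⁻¹⁻¹ = x := by group
    rwa [this] at h3

theorem cent_order_three (h : Hyp G S) {b : G} (hb : orderOf b = 3) :
    Nat.card (Subgroup.centralizer ({b} : Set G)) = 9 ∧
    (∀ u ∈ Subgroup.centralizer ({b} : Set G), ∀ v ∈ Subgroup.centralizer ({b} : Set G),
      u * v = v * u) ∧
    (∀ u ∈ Subgroup.centralizer ({b} : Set G), u ^ 3 = 1) := by
  obtain ⟨g, hg⟩ := h.syl b hb
  have hb1 : b ≠ 1 := by
    intro e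
    rw [e, orderOf_one] at hb
    omega
  have h1 : g * b * g⁻¹ ≠ 1 := by
    intro e
    apply hb1
    have : b = g⁻¹ * (g * b * g⁻¹) * g := by group
    rw [this, e]
    group
  have hC : ∀ u : G, u ∈ Subgroup.centralizer ({b} : Set G) ↔ g * u * g⁻¹ ∈ S := by
    intro u
    rw [← h.cent _ hg h1, Subgroup.mem_centralizer_iff, Subgroup.mem_centralizer_iff]
    constructor
    · intro hu y hy
      rw [Set.mem_singleton_iff] at hy
      subst hy
      have := hu b rfl
      calc g * b * g⁻¹ * (g * u * g⁻¹) = g * (b * u) * g⁻¹ := by group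
        _ = g * (u * b) * g⁻¹ := by rw [this]
        _ = g * u * g⁻¹ * (g * b * g⁻¹) := by group
    · intro hu y hy
      rw [Set.mem_singleton_iff] at hy
      subst hy
      have := hu (g * y * g⁻¹) rfl
      calc y * u = g⁻¹ * (g * y * g⁻¹ * (g * u * g⁻¹)) * g := by group
        _ = g⁻¹ * (g * u * g⁻¹ * (g * y * g⁻¹)) * g := by rw [this]
        _ = u * y := by group
  refine ⟨?_, ?_, ?_⟩
  · rw [← h.card]
    refine Nat.card_congr ⟨fun u => ⟨g * u.1 * g⁻¹, (hC u.1).mp u.2⟩,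
      fun y => ⟨g⁻¹ * y.1 * g, (hC _).mpr ?_⟩, ?_, ?_⟩
    · have : g * (g⁻¹ * y.1 * g) * g⁻¹ = y.1 := by group
      rw [this]
      exact y.2
    · intro u
      apply Subtype.ext
      show g⁻¹ * (g * u.1 * g⁻¹) * g = u.1
      group
    · intro y
      apply Subtype.ext
      show g * (g⁻¹ * y.1 * g) * g⁻¹ = y.1
      group
  · intro u hu v hv
    have := h.comm _ ((hC u).mp hu) _ ((hC v).mp hv)
    calc u * v = g⁻¹ * (g * u * g⁻¹ * (g * v * g⁻¹)) * g := by group
      _ = g⁻¹ * (g * v * g⁻¹ * (g * u * g⁻¹)) * g := by rw [this]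
      _ = v * u := by group
  · intro u hu
    have := h.exp _ ((hC u).mp hu)
    have e : (g * u * g⁻¹) ^ 3 = g * u ^ 3 * g⁻¹ := by
      rw [pow_succ, pow_succ, pow_one, pow_succ, pow_succ, pow_one]; group
    rw [e] at this
    have : u ^ 3 = g⁻¹ * (g * u ^ 3 * g⁻¹) * g := by group
    rw [this, ‹g * u ^ 3 * g⁻¹ = 1›]
    group

end Cfsg.Agent.Lib.Helper52_A6_BASIC
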