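import Mathlib
import Cfsg.Agent.Lib.Helper6_A6Defs
import Cfsg.Agent.Lib.Helper52_A6_BASIC
import Cfsg.Agent.Lib.Helper8_A6_L333

/-!
# S3341 package CNT4 (architect helper6): counting pairs in the case `Fus4`  (helper73)
-/

set_option autoImplicit false

namespace Cfsg.Agent.Lib.Helper73_A6_CNT4

open Cfsg Cfsg.Agent.Lib.Helper6_A6Defs

variable {G : Type*} [Group G] {S : Subgroup G}

/-- in a group, `a ^ 3 = 1` gives `a * a = a⁻¹` -/
theorem mul_self_eq_inv {a : G} (ha : a ^ 3 = 1) : a * a = a⁻¹ := by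
  rw [eq_inv_iff_mul_eq_one, ← ha, pow_succ, pow_two]

variable [Finite G]

/-- the explicit hypotheses version: `L333` and `orderOf_eq_three` as hypotheses -/
theorem count4_aux (h : Hyp G S) {s s' : G} (hf : Fus4 G S s s')
    (h333 : ∀ {u v : G}, orderOf u = 3 → orderOf v = 3 → u * v ∈ S → u * v ≠ 1 →
      (u ∈ S ∧ v ∈ S) ∨ (IsConj u v ∧ IsConj (u * v) u⁻¹))
    (h3 : ∀ {t : G}, t ∈ S → t ≠ 1 → orderOf t = 3) :
    Nat.card {p : G × G // IsConj s p.1 ∧ IsConj s p.2 ∧ p.1 * p.2 = s * s'} = 2 ∧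
    1 ≤ Nat.card {p : G × G // IsConj s p.1 ∧ IsConj s p.2 ∧ p.1 * p.2 = s} := by
  have hs := hf.hs
  have hs' := hf.hs'
  have hs1 := hf.hs1
  have hs'1 := hf.hs'1
  have hne := hf.hne
  have hne' := hf.hne'
  have hcomm : s * s' = s' * s := h.comm s hs s' hs'
  have hss : s * s = s⁻¹ := mul_self_eq_inv (h.exp s hs)
  have hss' : s' * s' = s'⁻¹ := mul_self_eq_inv (h.exp s' hs')
  have hsinvS : s⁻¹ ∈ S := S.inv_mem hs
  have hs'invS : s'⁻¹ ∈ S := S.inv_mem hs'
  have hc_inv : IsConj s s⁻¹ := (hf.cls1 _ hsinvS).2 (Or.inr (Or.inl rfl))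
  have hc_s' : IsConj s s' := (hf.cls1 _ hs').2 (Or.inr (Or.inr (Or.inl rfl)))
  have hprodS : s * s' ∈ S := S.mul_mem hs hs'
  have hprod1 : s * s' ≠ 1 := by
    intro e
    exact hne' (eq_inv_of_mul_eq_one_right e)
  have hord : ∀ p : G, IsConj s p → orderOf p = 3 := by
    intro p hp
    obtain ⟨g, hg⟩ := isConj_iff.mp hp
    have e1 : orderOf (MulAut.conj g s) = orderOf s := (MulAut.conj g).orderOf_eq s
    rw [MulAut.conj_apply, hg] at e1
    rw [e1]
    exact h3 hs hs1
  refine ⟨?_, ?_⟩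
  · rw [Nat.card_eq_two_iff]
    refine ⟨⟨(s, s'), IsConj.refl s, hc_s', rfl⟩, ⟨(s', s), hc_s', IsConj.refl s, hcomm.symm⟩, ?_, ?_⟩
    · intro e
      have := congrArg (fun p => p.1.1) e
      exact hne this.symm
    · rw [Set.eq_univ_iff_forall]
      rintro ⟨⟨p, q⟩, hp, hq, hpq⟩
      simp only at hp hq hpq
      have hpS : p ∈ S ∧ q ∈ S := by
        have hpqS : p * q ∈ S := by rw [hpq]; exact hprodS
        have hpq1 : p * q ≠ 1 := by rw [hpq]; exact hprod1
        rcases h333 (hord p hp) (hord q hq) hpqS hpq1 with h1 | ⟨_, h2⟩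
        · exact h1
        · exfalso
          -- s * s' ~ p⁻¹ ~ s⁻¹ ~ s
          rw [hpq] at h2
          have h4 : IsConj p⁻¹ s⁻¹ := by
            obtain ⟨g, hg⟩ := isConj_iff.mp hp
            refine isConj_iff.mpr ⟨g⁻¹, ?_⟩
            rw [← hg]; group
          have h5 : IsConj s (s * s') := (hc_inv.trans h4.symm).trans h2.symm
          rcases (hf.cls1 _ hprodS).1 h5 with e | e | e | e
          · exact hs'1 (mul_left_cancel (a := s) (by rw [e, mul_one]))
          · -- s * s' = s⁻¹ → s' = s⁻¹ * s⁻¹ = s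
            apply hne
            have : s' = s⁻¹ * (s * s') := by group
            rw [e] at this
            rw [this, ← mul_inv_rev, hss, inv_inv]
          · exact hs1 (mul_right_cancel (b := s') (by rw [e, one_mul]))
          · apply hne
            have : s = (s * s') * s'⁻¹ := by group
            rw [e] at this
            rw [this, ← mul_inv_rev, hss', inv_inv]
      obtain ⟨hpS, hqS⟩ := hpS
      have hp4 := (hf.cls1 p hpS).1 hp
      have hq4 := (hf.cls1 q hqS).1 hq
      rw [Set.mem_insert_iff, Set.mem_singleton_iff, Subtype.mk.injEq, Subtype.mk.injEq,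
        Prod.mk.injEq, Prod.mk.injEq]
      rcases hp4 with e0 | e0 | e0 | e0 <;> rw [e0] at hpq
      · left; exact ⟨e0, mul_left_cancel hpq⟩
      · exfalso
        -- q = s * s * s' = s⁻¹ * s'
        have hq' : q = s⁻¹ * s' := by
          have : q = s * (s⁻¹ * q) := by group
          rw [hpq] at this
          rw [this, ← mul_assoc, hss]
        rcases hq4 with e | e | e | e <;> rw [hq'] at e
        · -- s⁻¹ * s' = s
          apply hne'
          have : s' = s * (s⁻¹ * s') := by group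
          rw [e] at this
          rw [this, hss]
        · exact hs'1 (mul_left_cancel (a := s⁻¹) (by rw [e, mul_one]))
        · apply hs1
          have : s⁻¹ = 1 := mul_right_cancel (b := s') (by rw [e, one_mul])
          exact inv_eq_one.mp this
        · -- s⁻¹ * s' = s'⁻¹ → s = s' * s' = s'⁻¹
          apply hne'
          have e' : s⁻¹ = (s⁻¹ * s') * s'⁻¹ := by group
          rw [e, ← mul_inv_rev, hss', inv_inv, inv_eq_iff_eq_inv] at e'
          rw [e', inv_inv]
      · right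
        refine ⟨e0, ?_⟩
        have : q = s'⁻¹ * (s' * q) := by group
        rw [hpq] at this
        rw [this, hcomm]; group
      · exfalso
        have hq' : q = s * s'⁻¹ := by
          have : q = s' * (s'⁻¹ * q) := by group
          rw [hpq] at this
          rw [this, hcomm, ← mul_assoc, hss', ← h.comm s hs s'⁻¹ hs'invS]
        rcases hq4 with e | e | e | e <;> rw [hq'] at e
        · apply hs'1
          have : s'⁻¹ = 1 := mul_left_cancel (a := s) (by rw [e, mul_one])
          exact inv_eq_one.mp this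
        · -- s * s'⁻¹ = s⁻¹ → s' = s * s = s⁻¹
          apply hne'
          have e' : s'⁻¹ = s⁻¹ * (s * s'⁻¹) := by group
          rw [e, ← mul_inv_rev, hss, inv_inv, inv_eq_iff_eq_inv] at e'
          exact e' 
        · -- s * s'⁻¹ = s' → s = s' * s' = s'⁻¹
          apply hne'
          have e' : s = (s * s'⁻¹) * s' := by group
          rw [e, hss'] at e'
          rw [e', inv_inv]
        · apply hs1
          exact mul_right_cancel (b := s'⁻¹) (by rw [e, one_mul])
  · have : Nonempty {p : G × G // IsConj s p.1 ∧ IsConj s p.2 ∧ p.1 * p.2 = s} :=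
      ⟨⟨(s⁻¹, s⁻¹), hc_inv, hc_inv, by
        show s⁻¹ * s⁻¹ = s
        rw [← mul_inv_rev, hss, inv_inv]⟩⟩
    exact Nat.card_pos

/-- `count4` with only the `(3,3,3)`-lemma (package L333) as a hypothesis -/
theorem count4_of_l333 (h : Hyp G S) {s s' : G} (hf : Fus4 G S s s')
    (h333 : ∀ {u v : G}, orderOf u = 3 → orderOf v = 3 → u * v ∈ S → u * v ≠ 1 →
      (u ∈ S ∧ v ∈ S) ∨ (IsConj u v ∧ IsConj (u * v) u⁻¹)) :
    Nat.card {p : G × G // IsConj s p.1 ∧ IsConj s p.2 ∧ p.1 * p.2 = s * s'} = 2 ∧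
    1 ≤ Nat.card {p : G × G // IsConj s p.1 ∧ IsConj s p.2 ∧ p.1 * p.2 = s} :=
  count4_aux h hf h333
    (fun ht ht1 => Cfsg.Agent.Lib.Helper52_A6_BASIC.orderOf_eq_three h ht ht1)

theorem count4 (h : Hyp G S) {s s' : G} (hf : Fus4 G S s s') :
    Nat.card {p : G × G // IsConj s p.1 ∧ IsConj s p.2 ∧ p.1 * p.2 = s * s'} = 2 ∧
    1 ≤ Nat.card {p : G × G // IsConj s p.1 ∧ IsConj s p.2 ∧ p.1 * p.2 = s} :=
  count4_of_l333 h hf
    (fun hu hv huv huv1 => Cfsg.Agent.Lib.Helper8_A6_L333.lemma333 h hu hv huv huv1)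

end Cfsg.Agent.Lib.Helper73_A6_CNT4
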