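import Mathlib
import Cfsg.Prelude.Def_Characters
import Cfsg.Agent.Lib.Helper80_CharBasic
import Cfsg.Agent.Lib.Helper6_A6Defs
import Cfsg.Agent.Lib.Helper30_KleinCount
import Cfsg.Agent.S0840
import Cfsg.Agent.Lib.Helper73_A6_CNT4

/-!
# S3341 package EQS4 (architect helper6): the two class-algebra equations in the case `Fus4`  (helper73)
-/

set_option autoImplicit false
open scoped ComplexConjugate

namespace Cfsg.Agent.Lib.Helper73_A6_EQS4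

open Cfsg Cfsg.Agent.Lib.Helper80_CharBasic Cfsg.Agent.Lib.Helper6_A6Defs

variable {G : Type*} [Group G] {S : Subgroup G}

/-- a finsum over the irreducible characters of a function vanishing off the six characters of `Data4` -/
theorem finsum_six {s s' : G} (D : Data4 G s s') (f : IrrCharacter G → ℂ)
    (hf : ∀ χ : IrrCharacter G, (χ : G → ℂ) s = 0 → (χ : G → ℂ) (s * s') = 0 → f χ = 0) :
    ∑ᶠ χ : IrrCharacter G, f χ = f (oneIrr G) + ∑ j, f (D.X j) + f D.Λ₁ + f D.Λ₂ := by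
  classical
  let e : Unit ⊕ (Fin 3 ⊕ Bool) → IrrCharacter G :=
    Sum.elim (fun _ => oneIrr G) (Sum.elim D.X (fun b => if b then D.Λ₁ else D.Λ₂))
  have he : Function.Injective e := by
    rintro (_ | j | b) (_ | j' | b') hij
    · rfl
    · exact absurd hij.symm (D.X_ne j').1
    · cases b'
      · exact absurd hij.symm D.Λ_ne.2.2
      · exact absurd hij.symm D.Λ_ne.2.1
    · exact absurd hij (D.X_ne j).1
    · rw [D.X_inj hij]
    · cases b'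
      · exact absurd hij (D.X_ne j).2.2
      · exact absurd hij (D.X_ne j).2.1
    · cases b
      · exact absurd hij D.Λ_ne.2.2
      · exact absurd hij D.Λ_ne.2.1
    · cases b
      · exact absurd hij.symm (D.X_ne j').2.2
      · exact absurd hij.symm (D.X_ne j').2.1
    · cases b <;> cases b'
      · rfl
      · exact absurd hij.symm D.Λ_ne.1
      · exact absurd hij D.Λ_ne.1
      · rfl
  have hsupp : Function.support f ⊆ ((Finset.univ.map ⟨e, he⟩ : Finset (IrrCharacter G)) :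
      Set (IrrCharacter G)) := by
    intro χ hχ
    rw [Function.mem_support] at hχ
    have h1 : (χ : G → ℂ) s ≠ 0 ∨ (χ : G → ℂ) (s * s') ≠ 0 := by
      by_contra hcon
      push Not at hcon
      exact hχ (hf χ hcon.1 hcon.2)
    rw [Finset.coe_map, Finset.coe_univ, Set.image_univ]
    rcases D.supp χ h1 with rfl | ⟨j, rfl⟩ | rfl | rfl
    · exact ⟨Sum.inl (), rfl⟩
    · exact ⟨Sum.inr (Sum.inl j), rfl⟩
    · exact ⟨Sum.inr (Sum.inr true), rfl⟩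
    · exact ⟨Sum.inr (Sum.inr false), rfl⟩
  rw [finsum_eq_sum_of_support_subset f hsupp, Finset.sum_map]
  simp only [Function.Embedding.coeFn_mk, Fintype.sum_sum_type, Finset.univ_unique,
    Finset.sum_singleton, Fintype.sum_bool, e, Sum.elim_inl, Sum.elim_inr, if_true,
    Bool.false_eq_true, if_false]
  ring

variable [Finite G]

/-- class size times 9 is the group order -/
theorem class_mul_nine (h : Hyp G S) {s : G} (hs : s ∈ S) (hs1 : s ≠ 1) :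
    Nat.card {w : G // IsConj s w} * 9 = Nat.card G := by
  have := Cfsg.Agent.Lib.Helper30_KleinCount.card_class_mul s
  rw [h.cent s hs hs1] at this
  rw [← this]
  congr 1
  exact h.card.symm

/-- the class-algebra constant, with class size `|G|/9` -/
theorem count_eq (h : Hyp G S) {s : G} (hs : s ∈ S) (hs1 : s ≠ 1) (c : G) :
    (81 : ℂ) * (Nat.card {p : G × G // IsConj s p.1 ∧ IsConj s p.2 ∧ p.1 * p.2 = c} : ℂ) =
      (Nat.card G : ℂ) * ∑ᶠ χ : IrrCharacter G,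
        (χ : G → ℂ) s * (χ : G → ℂ) s * conj ((χ : G → ℂ) c) / (χ : G → ℂ) 1 := by
  have key := Cfsg.Agent.S0840.result s s c
  have hcls := class_mul_nine h hs hs1
  have hcls' : (Nat.card {w : G // IsConj s w} : ℂ) * 9 = (Nat.card G : ℂ) := by exact_mod_cast hcls
  have hg : (Nat.card G : ℂ) ≠ 0 := by
    have : Nat.card G ≠ 0 := Nat.card_pos.ne'
    exact_mod_cast this
  rw [key, ← hcls']
  rw [← hcls'] at hg
  have h9 : (Nat.card {w : G // IsConj s w} : ℂ) ≠ 0 := left_ne_zero_of_mul hg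
  field_simp
  ring

theorem eqs4_aux (h : Hyp G S) {s s' : G} (hf : Fus4 G S s s') (D : Data4 G s s')
    (hcnt : Nat.card {p : G × G // IsConj s p.1 ∧ IsConj s p.2 ∧ p.1 * p.2 = s * s'} = 2 ∧
      1 ≤ Nat.card {p : G × G // IsConj s p.1 ∧ IsConj s p.2 ∧ p.1 * p.2 = s}) :
    (Nat.card G : ℚ) * (1 + ∑ j, (D.c j : ℚ) / (D.x j : ℚ) - 2 * (D.ε : ℚ) / (D.d : ℚ)) = 162 ∧
    81 ≤ (Nat.card G : ℚ) * (1 + ∑ j, (D.c j : ℚ) / (D.x j : ℚ) + 7 * (D.ε : ℚ) / (D.d : ℚ)) := by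
  have hc3 : ∀ j, (D.c j : ℂ) * (D.c j : ℂ) * (D.c j : ℂ) = (D.c j : ℂ) := by
    intro j
    rcases D.hc j with e | e <;> rw [e] <;> push_cast <;> ring
  have hε3 : (D.ε : ℂ) * (D.ε : ℂ) * (D.ε : ℂ) = (D.ε : ℂ) := by
    rcases D.hε with e | e <;> rw [e] <;> push_cast <;> ring
  have hone : ∀ g : G, ((oneIrr G : IrrCharacter G) : G → ℂ) g = 1 := fun _ => rfl
  constructor
  · have h1 := count_eq h hf.hs hf.hs1 (s * s')
    rw [hcnt.1, finsum_six D] at h1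
    · simp only [hone, D.X_s, D.X_ss, D.X_one, D.Λ₁_s, D.Λ₁_ss, D.Λ₁_one, D.Λ₂_s, D.Λ₂_ss, D.Λ₂_one,
        map_intCast, map_neg, map_mul, map_ofNat, map_one] at h1
      have h2 : ∀ j, (D.c j : ℂ) * (D.c j : ℂ) * (D.c j : ℂ) / (D.x j : ℂ) = (D.c j : ℂ) / (D.x j : ℂ) := by
        intro j; rw [hc3]
      have h3 : -(D.ε : ℂ) * -(D.ε : ℂ) * (2 * (D.ε : ℂ)) / (D.d : ℂ) = 2 * (D.ε : ℂ) / (D.d : ℂ) := by
        rw [show -(D.ε : ℂ) * -(D.ε : ℂ) * (2 * (D.ε : ℂ)) = 2 * ((D.ε : ℂ) * (D.ε : ℂ) * (D.ε : ℂ)) by ring, hε3]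
      have h4 : 2 * (D.ε : ℂ) * (2 * (D.ε : ℂ)) * -(D.ε : ℂ) / (D.d : ℂ) = -(4 * (D.ε : ℂ) / (D.d : ℂ)) := by
        rw [show 2 * (D.ε : ℂ) * (2 * (D.ε : ℂ)) * -(D.ε : ℂ) = -(4 * ((D.ε : ℂ) * (D.ε : ℂ) * (D.ε : ℂ))) by ring,
          hε3, neg_div]
      simp only [h2, h3, h4] at h1
      apply Rat.cast_injective (α := ℂ)
      push_cast
      rw [show (162 : ℂ) = 81 * ((2 : ℕ) : ℂ) by norm_num, h1]
      ring
    · intro χ hs0 _
      rw [hs0]; simp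
  · have h1 := count_eq h hf.hs hf.hs1 s
    rw [finsum_six D] at h1
    · simp only [hone, D.X_s, D.X_one, D.Λ₁_s, D.Λ₁_one, D.Λ₂_s, D.Λ₂_one,
        map_intCast, map_neg, map_mul, map_ofNat, map_one] at h1
      have h2 : ∀ j, (D.c j : ℂ) * (D.c j : ℂ) * (D.c j : ℂ) / (D.x j : ℂ) = (D.c j : ℂ) / (D.x j : ℂ) := by
        intro j; rw [hc3]
      have h3 : -(D.ε : ℂ) * -(D.ε : ℂ) * -(D.ε : ℂ) / (D.d : ℂ) = -((D.ε : ℂ) / (D.d : ℂ)) := by
        rw [show -(D.ε : ℂ) * -(D.ε : ℂ) * -(D.ε : ℂ) = -((D.ε : ℂ) * (D.ε : ℂ) * (D.ε : ℂ)) by ring, hε3, neg_div]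
      have h4 : 2 * (D.ε : ℂ) * (2 * (D.ε : ℂ)) * (2 * (D.ε : ℂ)) / (D.d : ℂ) = 8 * (D.ε : ℂ) / (D.d : ℂ) := by
        rw [show 2 * (D.ε : ℂ) * (2 * (D.ε : ℂ)) * (2 * (D.ε : ℂ)) = 8 * ((D.ε : ℂ) * (D.ε : ℂ) * (D.ε : ℂ)) by ring,
          hε3]
      simp only [h2, h3, h4] at h1
      set N := Nat.card {p : G × G // IsConj s p.1 ∧ IsConj s p.2 ∧ p.1 * p.2 = s} with hN
      have h5 : ((81 * (N : ℚ) : ℚ) : ℂ) = (((Nat.card G : ℚ) *
          (1 + ∑ j, (D.c j : ℚ) / (D.x j : ℚ) + 7 * (D.ε : ℚ) / (D.d : ℚ)) : ℚ) : ℂ) := by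
        push_cast
        rw [h1]
        ring
      have h6 := Rat.cast_injective h5
      rw [← h6]
      have : (1 : ℚ) ≤ (N : ℚ) := by exact_mod_cast hcnt.2
      linarith
    · intro χ hs0 _
      rw [hs0]; simp

/-- `eqs4` with only the `(3,3,3)`-lemma (package L333) as a hypothesis -/
theorem eqs4_of_l333 (h : Hyp G S) {s s' : G} (hf : Fus4 G S s s') (D : Data4 G s s')
    (h333 : ∀ {u v : G}, orderOf u = 3 → orderOf v = 3 → u * v ∈ S → u * v ≠ 1 →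
      (u ∈ S ∧ v ∈ S) ∨ (IsConj u v ∧ IsConj (u * v) u⁻¹)) :
    (Nat.card G : ℚ) * (1 + ∑ j, (D.c j : ℚ) / (D.x j : ℚ) - 2 * (D.ε : ℚ) / (D.d : ℚ)) = 162 ∧
    81 ≤ (Nat.card G : ℚ) * (1 + ∑ j, (D.c j : ℚ) / (D.x j : ℚ) + 7 * (D.ε : ℚ) / (D.d : ℚ)) :=
  eqs4_aux h hf D (Cfsg.Agent.Lib.Helper73_A6_CNT4.count4_of_l333 h hf h333)

theorem eqs4 (h : Hyp G S) {s s' : G} (hf : Fus4 G S s s') (D : Data4 G s s') :
    (Nat.card G : ℚ) * (1 + ∑ j, (D.c j : ℚ) / (D.x j : ℚ) - 2 * (D.ε : ℚ) / (D.d : ℚ)) = 162 ∧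
    81 ≤ (Nat.card G : ℚ) * (1 + ∑ j, (D.c j : ℚ) / (D.x j : ℚ) + 7 * (D.ε : ℚ) / (D.d : ℚ)) :=
  eqs4_aux h hf D (Cfsg.Agent.Lib.Helper73_A6_CNT4.count4 h hf)

end Cfsg.Agent.Lib.Helper73_A6_EQS4
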