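import Mathlib
import Cfsg.Prelude.Def_Characters
import Cfsg.Agent.Lib.Helper80_CharBasic
import Cfsg.Agent.Lib.Helper3_CharBridge
import Cfsg.Agent.Lib.Helper75_CharArith
import Cfsg.Agent.Lib.Helper6_A6Defs

/-!
# S3341 package FIX9 (architect helper6)

In the fusion pattern `Fus4`, for every irreducible character `χ`,
`χ 1 + 4 χ s + 4 χ (s s')` is `9` times the dimension of the fixed space of `S`.
-/

set_option autoImplicit false
open scoped ComplexConjugate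

namespace Cfsg.Agent.Lib.Helper89_A6_FIX9

open Cfsg Cfsg.Agent.Lib.Helper80_CharBasic Cfsg.Agent.Lib.Helper6_A6Defs

variable {G : Type*} [Group G] [Finite G] {S : Subgroup G}

omit [Finite G] in
theorem orderOf_eq_three' (h : Hyp G S) {s : G} (hs : s ∈ S) (hs1 : s ≠ 1) : orderOf s = 3 := by
  have h3 : orderOf s ∣ 3 := orderOf_dvd_of_pow_eq_one (h.exp s hs)
  rcases (Nat.dvd_prime Nat.prime_three).mp h3 with h1 | h1
  · exact absurd (orderOf_eq_one_iff.mp h1) hs1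
  · exact h1

omit [Finite G] in
/-- `⟨s⟩ ∩ ⟨s'⟩ = 1` -/
theorem eq_one_of_mem_zpowers (h : Hyp G S) {s s' : G} (hf : Fus4 G S s s') {x : G}
    (hx : x ∈ Subgroup.zpowers s) (hx' : x ∈ Subgroup.zpowers s') : x = 1 := by
  by_contra hne
  have hso : orderOf s = 3 := orderOf_eq_three' h hf.hs hf.hs1
  have hs'o : orderOf s' = 3 := orderOf_eq_three' h hf.hs' hf.hs'1
  have hxS : x ∈ S := (Subgroup.zpowers_le.mpr hf.hs) hx
  have hxo : orderOf x = 3 := orderOf_eq_three' h hxS hne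
  -- `zpowers x = zpowers s'`, so `s' ∈ zpowers x ≤ zpowers s`
  have hfin : Finite (Subgroup.zpowers s') := by
    apply Nat.finite_of_card_ne_zero
    rw [Nat.card_zpowers, hs'o]; norm_num
  have h1 : Subgroup.zpowers x = Subgroup.zpowers s' := by
    apply Subgroup.eq_of_le_of_card_ge (by rwa [Subgroup.zpowers_le])
    rw [Nat.card_zpowers, Nat.card_zpowers, hxo, hs'o]
  have h2 : s' ∈ Subgroup.zpowers s := by
    have : s' ∈ Subgroup.zpowers x := h1 ▸ Subgroup.mem_zpowers s'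
    exact (Subgroup.zpowers_le.mpr hx) this
  have hfin' : IsOfFinOrder s := by
    rw [← orderOf_pos_iff, hso]; norm_num
  classical
  rw [← hfin'.mem_powers_iff_mem_zpowers, hfin'.mem_powers_iff_mem_range_orderOf, hso,
    Finset.mem_image] at h2
  obtain ⟨i, hi, hi'⟩ := h2
  rw [Finset.mem_range] at hi
  have hs3 : s ^ 3 = 1 := h.exp s hf.hs
  interval_cases i
  · exact hf.hs'1 (by rw [← hi', pow_zero])
  · exact hf.hne (by rw [← hi', pow_one])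
  · apply hf.hne'
    rw [← hi']
    apply eq_inv_of_mul_eq_one_left
    rw [← pow_succ]; exact hs3

/-- the parametrization `(i, j) ↦ s ^ i * s' ^ j` of `S` -/
def param {s s' : G} (hf : Fus4 G S s s') : Fin 3 × Fin 3 → S := fun p =>
  ⟨s ^ (p.1 : ℕ) * s' ^ (p.2 : ℕ), S.mul_mem (S.pow_mem hf.hs _) (S.pow_mem hf.hs' _)⟩

omit [Finite G] in
theorem param_injective (h : Hyp G S) {s s' : G} (hf : Fus4 G S s s') :
    Function.Injective (param hf) := by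
  rintro ⟨i, j⟩ ⟨k, l⟩ hp
  have hp' : s ^ (i : ℕ) * s' ^ (j : ℕ) = s ^ (k : ℕ) * s' ^ (l : ℕ) := congrArg Subtype.val hp
  have hso : orderOf s = 3 := orderOf_eq_three' h hf.hs hf.hs1
  have hs'o : orderOf s' = 3 := orderOf_eq_three' h hf.hs' hf.hs'1
  -- `x = (s^k)⁻¹ s^i = s'^l (s'^j)⁻¹`
  have hx : (s ^ (k : ℕ))⁻¹ * s ^ (i : ℕ) = s' ^ (l : ℕ) * (s' ^ (j : ℕ))⁻¹ := by
    have : s ^ (i : ℕ) = s ^ (k : ℕ) * s' ^ (l : ℕ) * (s' ^ (j : ℕ))⁻¹ := by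
      rw [← hp']; group
    rw [this]; group
  have hx1 : (s ^ (k : ℕ))⁻¹ * s ^ (i : ℕ) ∈ Subgroup.zpowers s :=
    Subgroup.mul_mem _ (Subgroup.inv_mem _ (Subgroup.pow_mem _ (Subgroup.mem_zpowers s) _))
      (Subgroup.pow_mem _ (Subgroup.mem_zpowers s) _)
  have hx2 : (s ^ (k : ℕ))⁻¹ * s ^ (i : ℕ) ∈ Subgroup.zpowers s' := by
    rw [hx]
    exact Subgroup.mul_mem _ (Subgroup.pow_mem _ (Subgroup.mem_zpowers s') _)
      (Subgroup.inv_mem _ (Subgroup.pow_mem _ (Subgroup.mem_zpowers s') _))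
  have h1 := eq_one_of_mem_zpowers h hf hx1 hx2
  have h2 : s' ^ (l : ℕ) * (s' ^ (j : ℕ))⁻¹ = 1 := by rw [← hx, h1]
  have e1 : s ^ (i : ℕ) = s ^ (k : ℕ) := by
    have := inv_mul_eq_one.mp h1
    exact this.symm
  have e2 : s' ^ (l : ℕ) = s' ^ (j : ℕ) := mul_inv_eq_one.mp h2
  have hi : (i : ℕ) = (k : ℕ) := by
    apply pow_injOn_Iio_orderOf _ _ e1
    · rw [Set.mem_Iio, hso]; exact i.2
    · rw [Set.mem_Iio, hso]; exact k.2
  have hj : (l : ℕ) = (j : ℕ) := by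
    apply pow_injOn_Iio_orderOf _ _ e2
    · rw [Set.mem_Iio, hs'o]; exact l.2
    · rw [Set.mem_Iio, hs'o]; exact j.2
  rw [Prod.mk.injEq]
  exact ⟨Fin.ext hi, Fin.ext hj.symm⟩

omit [Finite G] in
theorem sum_S (h : Hyp G S) {s s' : G} (hf : Fus4 G S s s') [Fintype S] (f : G → ℂ) :
    ∑ u : S, f u = ∑ p : Fin 3 × Fin 3, f (s ^ (p.1 : ℕ) * s' ^ (p.2 : ℕ)) := by
  have hbij : Function.Bijective (param hf) := by
    rw [Fintype.bijective_iff_injective_and_card]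
    refine ⟨param_injective h hf, ?_⟩
    rw [Fintype.card_prod, Fintype.card_fin, ← Nat.card_eq_fintype_card, h.card]
  exact (Fintype.sum_bijective (param hf) hbij _ _ (fun p => rfl)).symm

/-- **FIX9**, first part. -/
theorem cong4 (h : Hyp G S) {s s' : G} (hf : Fus4 G S s s') (χ : IrrCharacter G) :
    ∃ m : ℕ, (χ : G → ℂ) 1 + 4 * (χ : G → ℂ) s + 4 * (χ : G → ℂ) (s * s') = 9 * (m : ℂ) := by
  classical
  have := Fintype.ofFinite S
  have hχ : IsCharacter G (χ : G → ℂ) :=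
    Cfsg.Agent.Lib.Helper3_CharBridge.isCharacter_of_isIrrCharacter χ.2
  have hχS : IsCharacter S (fun u : S => (χ : G → ℂ) u) :=
    Cfsg.Agent.Lib.Helper75_CharArith.isCharacter_restrict S hχ
  have h1S : IsCharacter S (fun _ : S => (1 : ℂ)) :=
    Cfsg.Agent.Lib.Helper3_CharBridge.isCharacter_of_isIrrCharacter
      (Cfsg.Agent.Lib.Helper80_CharBasic.isIrrCharacter_one _)
  obtain ⟨m, hm⟩ := Cfsg.Agent.Lib.Helper75_CharArith.classInner_isCharacter_nat hχS h1S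
  refine ⟨m, ?_⟩
  unfold classInner at hm
  rw [h.card] at hm
  have h2 : ∑ u : S, (χ : G → ℂ) (u : G) * conj (1 : ℂ) = ∑ u : S, (χ : G → ℂ) (u : G) := by
    refine Finset.sum_congr rfl fun u _ => ?_
    simp
  rw [h2, sum_S h hf (χ : G → ℂ)] at hm
  -- evaluate the nine terms
  have hs3 : s ^ 3 = 1 := h.exp s hf.hs
  have hs'3 : s' ^ 3 = 1 := h.exp s' hf.hs'
  have hs2 : s ^ 2 = s⁻¹ := by
    apply eq_inv_of_mul_eq_one_left; rw [← pow_succ]; exact hs3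
  have hs'2 : s' ^ 2 = s'⁻¹ := by
    apply eq_inv_of_mul_eq_one_left; rw [← pow_succ]; exact hs'3
  have c1 : ∀ u ∈ S, (u = s ∨ u = s⁻¹ ∨ u = s' ∨ u = s'⁻¹) → (χ : G → ℂ) u = (χ : G → ℂ) s := by
    intro u hu hcase
    exact (irr_isConj χ ((hf.cls1 u hu).mpr hcase)).symm
  have c2 : ∀ u ∈ S, (u = s * s' ∨ u = s * s'⁻¹ ∨ u = s⁻¹ * s' ∨ u = s⁻¹ * s'⁻¹) →
      (χ : G → ℂ) u = (χ : G → ℂ) (s * s') := by
    intro u hu hcase
    exact (irr_isConj χ ((hf.cls2 u hu).mpr hcase)).symm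
  have hsi : s⁻¹ ∈ S := S.inv_mem hf.hs
  have hs'i : s'⁻¹ ∈ S := S.inv_mem hf.hs'
  rw [Fintype.sum_prod_type, Fin.sum_univ_three] at hm
  simp only [Fin.sum_univ_three, Fin.val_zero, Fin.val_one, Fin.val_two, pow_zero, pow_one, one_mul,
    mul_one, hs2, hs'2] at hm
  rw [c1 s' hf.hs' (by tauto), c1 s'⁻¹ hs'i (by tauto),
    c2 (s * s'⁻¹) (S.mul_mem hf.hs hs'i) (by tauto), c1 s⁻¹ hsi (by tauto),
    c2 (s⁻¹ * s') (S.mul_mem hsi hf.hs') (by tauto),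
    c2 (s⁻¹ * s'⁻¹) (S.mul_mem hsi hs'i) (by tauto)] at hm
  have h9 : ((9 : ℕ) : ℂ) ≠ 0 := by norm_num
  rw [inv_mul_eq_iff_eq_mul₀ h9] at hm
  push_cast at hm
  linear_combination hm

/-- **FIX9**, second part. -/
theorem cong_data4 (h : Hyp G S) {s s' : G} (hf : Fus4 G S s s') (D : Data4 G s s') :
    (∀ j, (9 : ℤ) ∣ (D.x j : ℤ) - D.c j) ∧ (9 : ℤ) ∣ (D.d : ℤ) + 4 * D.ε := by
  constructor
  · intro j
    obtain ⟨m, hm⟩ := cong4 h hf (D.X j)
    rw [D.X_one, D.X_s, D.X_ss] at hm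
    refine ⟨(m : ℤ) - D.c j, ?_⟩
    have : ((D.x j : ℤ) : ℂ) - ((D.c j : ℤ) : ℂ) = 9 * (((m : ℤ) : ℂ) - ((D.c j : ℤ) : ℂ)) := by
      push_cast
      linear_combination hm
    exact_mod_cast this
  · obtain ⟨m, hm⟩ := cong4 h hf D.Λ₁
    rw [D.Λ₁_one, D.Λ₁_s, D.Λ₁_ss] at hm
    refine ⟨(m : ℤ), ?_⟩
    have : ((D.d : ℤ) : ℂ) + 4 * ((D.ε : ℤ) : ℂ) = 9 * ((m : ℤ) : ℂ) := by
      push_cast
      linear_combination hm
    exact_mod_cast this

end Cfsg.Agent.Lib.Helper89_A6_FIX9
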