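import Mathlib
import Cfsg.Agent.S0494

/-!
# Recognition of alternating groups from a subgroup of small index (helper55)

A finite simple group of order `n! / 2` with a subgroup of index `n` is isomorphic to `Aₙ`.
-/

set_option autoImplicit false

namespace Cfsg.Agent.Lib.Helper55_AltRecog

open Subgroup

variable {G : Type*} [Group G] [Finite G] [IsSimpleGroup G]

theorem nonempty_equiv_alt_of_index (H : Subgroup G) (n : ℕ) (hH : H.index = n) (hn : 2 ≤ n)
    (hcard : 2 * Nat.card G = n.factorial) : Nonempty (G ≃* alternatingGroup (Fin n)) := by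
  classical
  have hne : H ≠ ⊤ := by
    intro ht; rw [ht, Subgroup.index_top] at hH; omega
  have : Fintype (G ⧸ H) := Fintype.ofFinite _
  have hc : Fintype.card (G ⧸ H) = n := by
    rw [← Nat.card_eq_fintype_card, ← Subgroup.index_eq_card]; exact hH
  have hf : Function.Injective (MulAction.toPermHom G (G ⧸ H)) :=
    Cfsg.Agent.S0494.toPermHom_injective H hne
  have hrange : Nat.card (MulAction.toPermHom G (G ⧸ H)).range = Nat.card G :=
    (Nat.card_congr (MonoidHom.ofInjective hf).toEquiv).symm
  have hidx : (MulAction.toPermHom G (G ⧸ H)).range.index = 2 := by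
    have h1 := (MulAction.toPermHom G (G ⧸ H)).range.card_mul_index
    rw [hrange, Nat.card_perm, ← Subgroup.index_eq_card, hH, ← hcard] at h1
    have hpos : 0 < Nat.card G := Nat.card_pos
    have h2 : Nat.card G * (MulAction.toPermHom G (G ⧸ H)).range.index = Nat.card G * 2 := by
      rw [h1]; ring
    exact Nat.eq_of_mul_eq_mul_left hpos h2
  have halt : (MulAction.toPermHom G (G ⧸ H)).range = alternatingGroup (G ⧸ H) :=
    Equiv.Perm.eq_alternatingGroup_of_index_eq_two hidx
  have e : (G ⧸ H) ≃ Fin n := Fintype.equivFinOfCardEq hc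
  exact ⟨(MonoidHom.ofInjective hf).trans
    ((MulEquiv.subgroupCongr halt).trans (Equiv.altCongrHom e))⟩

/-- a simple group of order `360` containing a copy of `A₅` is isomorphic to `A₆` -/
theorem nonempty_equiv_A6 (hcard : Nat.card G = 360) (φ : alternatingGroup (Fin 5) →* G)
    (hφ : Function.Injective φ) : Nonempty (G ≃* alternatingGroup (Fin 6)) := by
  have h60 : Nat.card φ.range = 60 := by
    rw [← Nat.card_congr (MonoidHom.ofInjective hφ).toEquiv, nat_card_alternatingGroup]
    simp [Nat.factorial]
  have hidx : φ.range.index = 6 := by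
    have h1 := φ.range.card_mul_index
    rw [h60, hcard] at h1
    omega
  exact nonempty_equiv_alt_of_index φ.range 6 hidx (by norm_num)
    (by rw [hcard]; simp [Nat.factorial])

end Cfsg.Agent.Lib.Helper55_AltRecog
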