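import Mathlib
import Cfsg.Agent.Lib.Helper55_DihedralCoord
import Cfsg.Agent.Lib.Helper55_Transfer
import Cfsg.Agent.Lib.Helper75_SelfCent
import Cfsg.Agent.Lib.Helper17_Sylow
import Cfsg.Agent.Lib.Helper4_InvPairs

/-!
# Groups with an involution whose centralizer is dihedral of order 8 (helper55)

Group-theoretic part of Isaacs, Character Theory, Theorem 7.10: coordinates in `D = C_G(t)`,
`D` is a Sylow `2`-subgroup, `C_G(a) = ⟨a⟩` for `a` of order `4`, and (for perfect `G`) all
involutions of `D` are conjugate to `t`.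
-/

set_option autoImplicit false

namespace Cfsg.Agent.Lib.Helper55_D8Cent

open Subgroup Cfsg.Agent.Lib.Helper55_DihedralCoord Cfsg.Agent.Lib.Helper4_InvPairs

variable {G : Type*} [Group G] {t : G} (e : ↥(centralizer ({t} : Set G)) ≃* DihedralGroup 4)

theorem mem_cent_iff (g : G) : g ∈ centralizer ({t} : Set G) ↔ g * t = t * g :=
  Subgroup.mem_centralizer_singleton_iff

theorem zmod4_a (i : ZMod 4) (h : 0 - i = 0 + i) : i = 0 ∨ i = 2 := by
  revert i; decide

theorem zmod4_b (i : ZMod 4) (h : i + 1 = i - 1) : False := by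
  revert i; decide

theorem zmod4_c (i : ZMod 4) (h : i - 1 = i + 1) : False := by
  revert i; decide

theorem zmod4_d (i : ZMod 4) (h : i + 1 + -i = -1) : False := by
  revert i; decide

theorem zmod4_e (j : ZMod 4) (h : j + j = 0) (h0 : j ≠ 0) : j = 2 := by
  revert j; decide

/-- elements of `D` commuting with `R 1` and `SR 0` -/
theorem central_cases {x : G} (hx : x ∈ centralizer ({t} : Set G))
    (h1 : x * R e 1 = R e 1 * x) (h2 : x * SR e 0 = SR e 0 * x) : x = 1 ∨ x = R e 2 := by
  rcases cases_mem e hx with ⟨i, rfl⟩ | ⟨i, rfl⟩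
  · rw [R_mul_SR, SR_mul_R] at h2
    have h3 := SR_injective e h2
    rcases zmod4_a i h3 with rfl | rfl
    · left; exact R_zero e
    · right; rfl
  · exfalso
    rw [SR_mul_R, R_mul_SR] at h1
    exact zmod4_b i (SR_injective e h1)

include e in
theorem t_mem : t ∈ centralizer ({t} : Set G) := (mem_cent_iff t).mpr rfl

theorem t_eq (ht : orderOf t = 2) : t = R e 2 := by
  have hc : ∀ y ∈ centralizer ({t} : Set G), t * y = y * t :=
    fun y hy => ((mem_cent_iff y).mp hy).symm
  rcases central_cases e (t_mem e) (hc _ (R_mem e 1)) (hc _ (SR_mem e 0)) with h | h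
  · exact absurd h (ne_one_of_orderOf_two ht)
  · exact h

theorem R_one_sq (ht : orderOf t = 2) : R e 1 * R e 1 = t := by
  have h : (1 : ZMod 4) + 1 = 2 := by decide
  rw [R_mul_R, h]; exact (t_eq e ht).symm

theorem R_three_sq (ht : orderOf t = 2) : R e 3 * R e 3 = t := by
  have h : (3 : ZMod 4) + 3 = 2 := by decide
  rw [R_mul_R, h]; exact (t_eq e ht).symm

theorem R_one_inv : (R e 1)⁻¹ = R e 3 := by
  rw [R_inv]; rfl

/-- an element conjugating a square root of `t` to a square root of `t` centralizes `t` -/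
theorem mem_of_conj_sq {g x y : G} (hx : x * x = t) (hy : y * y = t) (h : g⁻¹ * x * g = y) :
    g ∈ centralizer ({t} : Set G) := by
  rw [mem_cent_iff]
  have h1 : g⁻¹ * t * g = t := by
    calc g⁻¹ * t * g = g⁻¹ * (x * x) * g := by rw [hx]
      _ = (g⁻¹ * x * g) * (g⁻¹ * x * g) := by group
      _ = t := by rw [h, hy]
  calc g * t = g * (g⁻¹ * t * g) := by rw [h1]
    _ = t * g := by group

/-- the centralizer of `a = R 1` -/
theorem centralizer_R_one (ht : orderOf t = 2) :
    centralizer ({R e 1} : Set G) = zpowers (R e 1) := by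
  apply le_antisymm
  · intro g hg
    rw [Subgroup.mem_centralizer_singleton_iff] at hg
    have hgD : g ∈ centralizer ({t} : Set G) := by
      apply mem_of_conj_sq (R_one_sq e ht) (R_one_sq e ht) (g := g)
      calc g⁻¹ * R e 1 * g = g⁻¹ * (R e 1 * g) := by group
        _ = g⁻¹ * (g * R e 1) := by rw [hg]
        _ = R e 1 := by group
    rcases cases_mem e hgD with ⟨i, rfl⟩ | ⟨i, rfl⟩
    · exact (mem_zpowers_iff e _).mpr ⟨i, rfl⟩
    · exfalso
      rw [SR_mul_R, R_mul_SR] at hg
      exact zmod4_b i (SR_injective e hg)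
  · rw [Subgroup.zpowers_le, Subgroup.mem_centralizer_singleton_iff]

theorem card_centralizer_R_one (ht : orderOf t = 2) :
    Nat.card (centralizer ({R e 1} : Set G)) = 4 := by
  rw [centralizer_R_one e ht, Nat.card_zpowers, orderOf_R_one]

include e in
theorem card_D : Nat.card (centralizer ({t} : Set G)) = 8 := by
  rw [card_eq e]

/-- an involution inverting `a` is a reflection of `D` -/
theorem exists_SR_of_inverts (ht : orderOf t = 2) {u : G} (hu : u * R e 1 * u⁻¹ = (R e 1)⁻¹) :
    ∃ j, u = SR e j := by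
  have huD : u⁻¹ ∈ centralizer ({t} : Set G) := by
    apply mem_of_conj_sq (R_one_sq e ht) (R_three_sq e ht) (g := u⁻¹)
    rw [inv_inv, hu, R_one_inv]
  have huD' : u ∈ centralizer ({t} : Set G) := by
    have := inv_mem huD
    rwa [inv_inv] at this
  rcases cases_mem e huD' with ⟨i, rfl⟩ | ⟨i, rfl⟩
  · exfalso
    rw [R_inv, R_inv, R_mul_R, R_mul_R] at hu
    exact zmod4_d i (R_injective e hu)
  · exact ⟨i, rfl⟩

section finite

variable [Finite G]

include e in
/-- `D` is a Sylow `2`-subgroup -/
theorem exists_sylow (ht : orderOf t = 2) :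
    ∃ S : Sylow 2 G, (S : Subgroup G) = centralizer ({t} : Set G) := by
  have : Fact (Nat.Prime 2) := ⟨Nat.prime_two⟩
  have hD2 : IsPGroup 2 (centralizer ({t} : Set G)) := by
    apply IsPGroup.of_card (n := 3)
    rw [card_D e]; norm_num
  obtain ⟨S, hS⟩ := hD2.exists_le_sylow
  refine ⟨S, le_antisymm ?_ hS⟩
  have htS : t ∈ (S : Subgroup G) := hS (t_mem e)
  have hnt : Nontrivial (S : Subgroup G) :=
    ⟨⟨⟨t, htS⟩, 1, fun h => ne_one_of_orderOf_two ht (congrArg Subtype.val h)⟩⟩
  have hcn : Nontrivial (center (S : Subgroup G)) := IsPGroup.center_nontrivial S.2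
  obtain ⟨z, hz⟩ := exists_ne (1 : center (S : Subgroup G))
  have hzc : ∀ s : (S : Subgroup G), s * (z : (S : Subgroup G)) = (z : (S : Subgroup G)) * s :=
    fun s => Subgroup.mem_center_iff.mp z.2 s
  have hzG : ∀ y ∈ (S : Subgroup G), y * ((z : (S : Subgroup G)) : G) =
      ((z : (S : Subgroup G)) : G) * y := by
    intro y hy
    exact congrArg Subtype.val (hzc ⟨y, hy⟩)
  have hzD : ((z : (S : Subgroup G)) : G) ∈ centralizer ({t} : Set G) :=
    (mem_cent_iff _).mpr (hzG t htS).symm
  have hzt : ((z : (S : Subgroup G)) : G) = t := by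
    rcases central_cases e hzD (hzG _ (hS (R_mem e 1))).symm (hzG _ (hS (SR_mem e 0))).symm with
      h | h
    · exfalso
      apply hz
      apply Subtype.ext
      apply Subtype.ext
      exact h
    · rw [h, ← t_eq e ht]
  intro s hs
  rw [mem_cent_iff, ← hzt]
  exact hzG s hs

/-- for perfect `G`, every reflection of `D` is conjugate to `t` -/
theorem isConj_SR (hperf : commutator G = ⊤) (ht : orderOf t = 2) (i : ZMod 4) :
    IsConj t (SR e i) := by
  by_contra hcon
  have hNe : NeZero 4 := ⟨by norm_num⟩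
  obtain ⟨S, hSD⟩ := exists_sylow e ht
  have hQT : zpowers (R e 1) ≤ (S : Subgroup G) := by rw [hSD]; exact zpowers_le e
  have hQi : (zpowers (R e 1)).relIndex (S : Subgroup G) = 2 := by
    rw [hSD]; exact relIndex_zpowers e
  obtain ⟨M, hM2, -⟩ := Cfsg.Agent.Lib.Helper55_Transfer.exists_index_two_of_nonextremal S
    (zpowers (R e 1)) hQT hQi (SR e i) (orderOf_SR e i) (by
      intro y hy hc
      exfalso
      apply hcon
      obtain ⟨j, rfl⟩ := (mem_zpowers_iff e y).mp hy
      have ho : orderOf (R e j) = 2 := by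
        rw [Helper17_Sylow.orderOf_of_isConj hc]; exact orderOf_SR e i
      have h1 := mul_self_of_orderOf_two ho
      have h2 := ne_one_of_orderOf_two ho
      rw [R_mul_R, ← R_zero e] at h1
      have h3 := R_injective e h1
      have h4 : j = 2 := by
        apply zmod4_e j h3
        intro h; apply h2; rw [h, R_zero]
      rw [h4] at hc
      have h5 : R e 2 = t := (t_eq e ht).symm
      rw [h5] at hc
      exact hc.symm)
  have hMn : M.Normal := Subgroup.normal_of_index_eq_two hM2
  have hle := Cfsg.Agent.Lib.Helper75_SelfCent.commutator_le_of_index_prime Nat.prime_two M hM2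
  rw [hperf, top_le_iff] at hle
  rw [hle, Subgroup.index_top] at hM2
  omega

end finite

end Cfsg.Agent.Lib.Helper55_D8Cent
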