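import Mathlib
import Cfsg.Prelude.Def_Characters

/-!
# A vector of norm four (helper55)

Combinatorial core for the generalized character `1 + ε₁χ₁ + ε₂χ₂ + ε₃χ₃` of Isaacs 7.10.
-/

set_option autoImplicit false

namespace Cfsg.Agent.Lib.Helper55_ExcQuad

variable {I : Type*} [DecidableEq I]

/-- peel off a nonzero entry of an integer vector with positive square sum on a finset -/
theorem exists_peel (v : I → ℤ) (s : Finset I) (k : ℤ) (hk : 0 < k)
    (hs : ∑ ψ ∈ s, v ψ * v ψ = k) :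
    ∃ a ∈ s, v a ≠ 0 ∧ ∑ ψ ∈ s.erase a, v ψ * v ψ = k - v a * v a := by
  obtain ⟨a, hamem, hane⟩ : ∃ a ∈ s, v a * v a ≠ 0 := by
    apply Finset.exists_ne_zero_of_sum_ne_zero
    rw [hs]; omega
  refine ⟨a, hamem, ?_, ?_⟩
  · intro h; apply hane; rw [h, mul_zero]
  · rw [← hs, ← Finset.add_sum_erase s (fun ψ => v ψ * v ψ) hamem]
    ring

theorem sq_eq_one_of_le_three (x : ℤ) (hx : x ≠ 0) (h : x * x ≤ 3) : x = 1 ∨ x = -1 := by
  have h1 : -2 < x := by nlinarith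
  have h2 : x < 2 := by nlinarith
  omega

variable [Fintype I]

/-- An integer vector of norm `4` with coefficient `1` at `i₀` has exactly three further non-zero
entries, all `±1`. -/
theorem eq_of_norm_four (v : I → ℤ) (i₀ : I) (h4 : ∑ ψ, v ψ * v ψ = 4) (hv0 : v i₀ = 1) :
    ∃ a b c : I, a ≠ i₀ ∧ b ≠ i₀ ∧ c ≠ i₀ ∧ a ≠ b ∧ a ≠ c ∧ b ≠ c ∧
      (v a = 1 ∨ v a = -1) ∧ (v b = 1 ∨ v b = -1) ∧ (v c = 1 ∨ v c = -1) ∧
      ∀ ψ, ψ ≠ i₀ → ψ ≠ a → ψ ≠ b → ψ ≠ c → v ψ = 0 := by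
  have h3 : ∑ ψ ∈ Finset.univ.erase i₀, v ψ * v ψ = 3 := by
    have h5 : v i₀ * v i₀ + ∑ ψ ∈ Finset.univ.erase i₀, v ψ * v ψ = ∑ ψ, v ψ * v ψ :=
      Finset.add_sum_erase Finset.univ (fun ψ => v ψ * v ψ) (Finset.mem_univ i₀)
    rw [h4, hv0] at h5
    omega
  obtain ⟨a, ha, hane, hra⟩ := exists_peel v _ 3 (by norm_num) h3
  have hnn : ∀ s : Finset I, 0 ≤ ∑ ψ ∈ s, v ψ * v ψ :=
    fun s => Finset.sum_nonneg (fun ψ _ => mul_self_nonneg (v ψ))
  have hva : v a = 1 ∨ v a = -1 := by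
    apply sq_eq_one_of_le_three _ hane
    have := hnn ((Finset.univ.erase i₀).erase a)
    omega
  have hva2 : v a * v a = 1 := by rcases hva with h | h <;> rw [h] <;> norm_num
  rw [hva2] at hra
  obtain ⟨b, hb, hbne, hrb⟩ := exists_peel v _ (3 - 1) (by norm_num) hra
  have hvb : v b = 1 ∨ v b = -1 := by
    apply sq_eq_one_of_le_three _ hbne
    have := hnn (((Finset.univ.erase i₀).erase a).erase b)
    omega
  have hvb2 : v b * v b = 1 := by rcases hvb with h | h <;> rw [h] <;> norm_num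
  rw [hvb2] at hrb
  obtain ⟨c, hc, hcne, hrc⟩ := exists_peel v _ (3 - 1 - 1) (by norm_num) hrb
  have hvc : v c = 1 ∨ v c = -1 := by
    apply sq_eq_one_of_le_three _ hcne
    have := hnn ((((Finset.univ.erase i₀).erase a).erase b).erase c)
    omega
  have hvc2 : v c * v c = 1 := by rcases hvc with h | h <;> rw [h] <;> norm_num
  rw [hvc2] at hrc
  have hai : a ≠ i₀ := (Finset.mem_erase.mp ha).1
  have hb' := Finset.mem_erase.mp hb
  have hc' := Finset.mem_erase.mp hc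
  have hc'' := Finset.mem_erase.mp hc'.2
  refine ⟨a, b, c, hai, (Finset.mem_erase.mp hb'.2).1, (Finset.mem_erase.mp hc''.2).1,
    hb'.1.symm, hc''.1.symm, hc'.1.symm, hva, hvb, hvc, ?_⟩
  intro ψ h1 h2 h3' h4'
  have h0 : ∑ ψ ∈ (((Finset.univ.erase i₀).erase a).erase b).erase c, v ψ * v ψ = 0 := by
    rw [hrc]; norm_num
  have hother := (Finset.sum_eq_zero_iff_of_nonneg (fun ψ _ => mul_self_nonneg (v ψ))).mp h0
  have := hother ψ (Finset.mem_erase.mpr ⟨h4', Finset.mem_erase.mpr ⟨h3', Finset.mem_erase.mpr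
    ⟨h2, Finset.mem_erase.mpr ⟨h1, Finset.mem_univ ψ⟩⟩⟩⟩)
  rcases mul_eq_zero.mp this with h | h <;> exact h

/-- the four distinguished indices -/
def four (i₀ a b c : I) : Finset I := insert i₀ (insert a (insert b {c}))

theorem mem_four {i₀ a b c ψ : I} : ψ ∈ four i₀ a b c ↔ ψ = i₀ ∨ ψ = a ∨ ψ = b ∨ ψ = c := by
  unfold four
  simp only [Finset.mem_insert, Finset.mem_singleton]

theorem sum_four_eq {M : Type*} [AddCommMonoid M] (f : I → M) {i₀ a b c : I} (h01 : i₀ ≠ a)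
    (h02 : i₀ ≠ b) (h03 : i₀ ≠ c) (h12 : a ≠ b) (h13 : a ≠ c) (h23 : b ≠ c) :
    ∑ ψ ∈ four i₀ a b c, f ψ = f i₀ + (f a + (f b + f c)) := by
  unfold four
  rw [Finset.sum_insert, Finset.sum_insert, Finset.sum_insert, Finset.sum_singleton]
  · simpa using h23
  · simp only [Finset.mem_insert, Finset.mem_singleton, not_or]
    exact ⟨h12, h13⟩
  · simp only [Finset.mem_insert, Finset.mem_singleton, not_or]
    exact ⟨h01, h02, h03⟩

theorem sum_split {M : Type*} [AddCommMonoid M] (f : I → M) {i₀ a b c : I} (h01 : i₀ ≠ a)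
    (h02 : i₀ ≠ b) (h03 : i₀ ≠ c) (h12 : a ≠ b) (h13 : a ≠ c) (h23 : b ≠ c) :
    ∑ ψ, f ψ = f i₀ + (f a + (f b + f c)) + ∑ ψ ∈ Finset.univ \ four i₀ a b c, f ψ := by
  rw [← sum_four_eq f h01 h02 h03 h12 h13 h23, add_comm,
    Finset.sum_sdiff (Finset.subset_univ _)]

end Cfsg.Agent.Lib.Helper55_ExcQuad
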