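import Mathlib
import Cfsg.Prelude.Def_Characters
import Cfsg.Agent.Lib.Helper55_ExcQuad
import Cfsg.Agent.Lib.Helper3_CharColumn
import Cfsg.Agent.Lib.Helper3_CharComplete
import Cfsg.Agent.Lib.Helper80_CharBasic

/-!
# Consequences of column orthogonality for four distinguished characters (helper55)
-/

set_option autoImplicit false

namespace Cfsg.Agent.Lib.Helper55_ColOrth

open scoped ComplexConjugate
open Cfsg.Agent.Lib.Helper3_CharColumn Cfsg.Agent.Lib.Helper3_CharComplete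
  Cfsg.Agent.Lib.Helper55_ExcQuad

variable {G : Type*} [Group G] [Fintype G]

/-- column orthogonality in terms of `normSq`, as a real number -/
theorem sum_normSq (g : G) :
    ∑ ψ : Cfsg.IrrCharacter G, Complex.normSq ((ψ : G → ℂ) g) =
      (Nat.card (Subgroup.centralizer ({g} : Set G)) : ℝ) := by
  have h1 := column_orthogonality_self g
  have h2 : ∀ ψ : Cfsg.IrrCharacter G, (ψ : G → ℂ) g * conj ((ψ : G → ℂ) g) =
      ((Complex.normSq ((ψ : G → ℂ) g) : ℝ) : ℂ) := fun ψ => Complex.mul_conj _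
  rw [Finset.sum_congr rfl (fun ψ _ => h2 ψ)] at h1
  have h3 : ((∑ ψ : Cfsg.IrrCharacter G, Complex.normSq ((ψ : G → ℂ) g) : ℝ) : ℂ) =
      ((Nat.card (Subgroup.centralizer ({g} : Set G)) : ℝ) : ℂ) := by
    push_cast
    exact h1
  exact_mod_cast h3

theorem normSq_sign_mul (ε : ℤ) (hε : ε = 1 ∨ ε = -1) (z : ℂ) :
    Complex.normSq ((ε : ℂ) * z) = Complex.normSq z := by
  rcases hε with rfl | rfl
  · simp
  · simp

/-- If `1 + ε₁χ₁(a) + ε₂χ₂(a) + ε₃χ₃(a) = 4` and `|C(a)| = 4`, then `εᵢχᵢ(a) = 1` and all other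
irreducible characters vanish at `a`. -/
theorem values_of_sum_eq_four {χ₁ χ₂ χ₃ : G → ℂ} (h1 : Cfsg.IsIrrCharacter G χ₁)
    (h2 : Cfsg.IsIrrCharacter G χ₂) (h3 : Cfsg.IsIrrCharacter G χ₃)
    (hn1 : χ₁ ≠ (fun _ => (1 : ℂ))) (hn2 : χ₂ ≠ (fun _ => (1 : ℂ)))
    (hn3 : χ₃ ≠ (fun _ => (1 : ℂ))) (h12 : χ₁ ≠ χ₂) (h13 : χ₁ ≠ χ₃) (h23 : χ₂ ≠ χ₃)
    (ε₁ ε₂ ε₃ : ℤ) (he1 : ε₁ = 1 ∨ ε₁ = -1) (he2 : ε₂ = 1 ∨ ε₂ = -1) (he3 : ε₃ = 1 ∨ ε₃ = -1)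
    (a : G) (hcard : Nat.card (Subgroup.centralizer ({a} : Set G)) = 4)
    (hV : 1 + (ε₁ : ℂ) * χ₁ a + (ε₂ : ℂ) * χ₂ a + (ε₃ : ℂ) * χ₃ a = 4) :
    (ε₁ : ℂ) * χ₁ a = 1 ∧ (ε₂ : ℂ) * χ₂ a = 1 ∧ (ε₃ : ℂ) * χ₃ a = 1 ∧
      ∀ ψ : Cfsg.IrrCharacter G, (ψ : G → ℂ) ≠ (fun _ => (1 : ℂ)) → (ψ : G → ℂ) ≠ χ₁ →
        (ψ : G → ℂ) ≠ χ₂ → (ψ : G → ℂ) ≠ χ₃ → (ψ : G → ℂ) a = 0 := by
  classical
  have hone := Cfsg.Agent.Lib.Helper80_CharBasic.isIrrCharacter_one G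
  obtain ⟨i₀, hi₀⟩ : ∃ i₀ : Cfsg.IrrCharacter G, i₀ = ⟨fun _ => (1 : ℂ), hone⟩ := ⟨_, rfl⟩
  obtain ⟨ia, hia⟩ : ∃ ia : Cfsg.IrrCharacter G, ia = ⟨χ₁, h1⟩ := ⟨_, rfl⟩
  obtain ⟨ib, hib⟩ : ∃ ib : Cfsg.IrrCharacter G, ib = ⟨χ₂, h2⟩ := ⟨_, rfl⟩
  obtain ⟨ic, hic⟩ : ∃ ic : Cfsg.IrrCharacter G, ic = ⟨χ₃, h3⟩ := ⟨_, rfl⟩
  have d01 : i₀ ≠ ia := by
    rw [hi₀, hia]; intro h; exact hn1 (congrArg Subtype.val h).symm
  have d02 : i₀ ≠ ib := by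
    rw [hi₀, hib]; intro h; exact hn2 (congrArg Subtype.val h).symm
  have d03 : i₀ ≠ ic := by
    rw [hi₀, hic]; intro h; exact hn3 (congrArg Subtype.val h).symm
  have d12 : ia ≠ ib := by
    rw [hia, hib]; intro h; exact h12 (congrArg Subtype.val h)
  have d13 : ia ≠ ic := by
    rw [hia, hic]; intro h; exact h13 (congrArg Subtype.val h)
  have d23 : ib ≠ ic := by
    rw [hib, hic]; intro h; exact h23 (congrArg Subtype.val h)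
  have hsum := sum_normSq a
  rw [hcard, sum_split (fun ψ : Cfsg.IrrCharacter G => Complex.normSq ((ψ : G → ℂ) a))
    d01 d02 d03 d12 d13 d23] at hsum
  rw [hi₀, hia, hib, hic] at hsum
  simp only [map_one] at hsum
  rw [← hi₀, ← hia, ← hib, ← hic] at hsum
  obtain ⟨rest, hrest⟩ : ∃ rest : ℝ, rest = ∑ ψ ∈ Finset.univ \ four i₀ ia ib ic,
      Complex.normSq ((ψ : G → ℂ) a) := ⟨_, rfl⟩
  rw [← hrest] at hsum
  have hrest0 : 0 ≤ rest := by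
    rw [hrest]; exact Finset.sum_nonneg (fun ψ _ => Complex.normSq_nonneg _)
  obtain ⟨w₁, hw₁⟩ : ∃ w₁ : ℂ, w₁ = (ε₁ : ℂ) * χ₁ a := ⟨_, rfl⟩
  obtain ⟨w₂, hw₂⟩ : ∃ w₂ : ℂ, w₂ = (ε₂ : ℂ) * χ₂ a := ⟨_, rfl⟩
  obtain ⟨w₃, hw₃⟩ : ∃ w₃ : ℂ, w₃ = (ε₃ : ℂ) * χ₃ a := ⟨_, rfl⟩
  have hn₁ : Complex.normSq w₁ = Complex.normSq (χ₁ a) := by
    rw [hw₁]; exact normSq_sign_mul ε₁ he1 _
  have hn₂ : Complex.normSq w₂ = Complex.normSq (χ₂ a) := by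
    rw [hw₂]; exact normSq_sign_mul ε₂ he2 _
  have hn₃ : Complex.normSq w₃ = Complex.normSq (χ₃ a) := by
    rw [hw₃]; exact normSq_sign_mul ε₃ he3 _
  rw [← hw₁, ← hw₂, ← hw₃] at hV ⊢
  rw [← hn₁, ← hn₂, ← hn₃] at hsum
  have hsum' : 1 + (Complex.normSq w₁ + (Complex.normSq w₂ + Complex.normSq w₃)) + rest
      = 4 := by
    rw [hsum]; norm_num
  have hre : w₁.re + w₂.re + w₃.re = 3 := by
    have h4 : w₁ + w₂ + w₃ = 3 := by linear_combination hV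
    have h5 := congrArg Complex.re h4
    simpa using h5
  have hsub : ∀ w : ℂ, Complex.normSq (w - 1) = Complex.normSq w + 1 - 2 * w.re := by
    intro w
    rw [Complex.normSq_sub]
    simp
  have hs₁ := hsub w₁
  have hs₂ := hsub w₂
  have hs₃ := hsub w₃
  have hp₁ := Complex.normSq_nonneg (w₁ - 1)
  have hp₂ := Complex.normSq_nonneg (w₂ - 1)
  have hp₃ := Complex.normSq_nonneg (w₃ - 1)
  have hz₁ : Complex.normSq (w₁ - 1) = 0 := by linarith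
  have hz₂ : Complex.normSq (w₂ - 1) = 0 := by linarith
  have hz₃ : Complex.normSq (w₃ - 1) = 0 := by linarith
  have hrest1 : rest = 0 := by linarith
  refine ⟨sub_eq_zero.mp (Complex.normSq_eq_zero.mp hz₁),
    sub_eq_zero.mp (Complex.normSq_eq_zero.mp hz₂),
    sub_eq_zero.mp (Complex.normSq_eq_zero.mp hz₃), ?_⟩
  intro ψ hψ0 hψ1 hψ2 hψ3
  rw [hrest] at hrest1
  have hmem : ψ ∈ Finset.univ \ four i₀ ia ib ic := by
    rw [Finset.mem_sdiff, mem_four]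
    refine ⟨Finset.mem_univ _, ?_⟩
    rintro (h | h | h | h)
    · apply hψ0; rw [h, hi₀]
    · apply hψ1; rw [h, hia]
    · apply hψ2; rw [h, hib]
    · apply hψ3; rw [h, hic]
  have := (Finset.sum_eq_zero_iff_of_nonneg (fun ψ _ => Complex.normSq_nonneg _)).mp hrest1 ψ hmem
  exact Complex.normSq_eq_zero.mp this

/-- bound on the values at an element from column orthogonality -/
theorem sum_sq_le {χ₁ χ₂ χ₃ : G → ℂ} (h1 : Cfsg.IsIrrCharacter G χ₁)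
    (h2 : Cfsg.IsIrrCharacter G χ₂) (h3 : Cfsg.IsIrrCharacter G χ₃)
    (hn1 : χ₁ ≠ (fun _ => (1 : ℂ))) (hn2 : χ₂ ≠ (fun _ => (1 : ℂ)))
    (hn3 : χ₃ ≠ (fun _ => (1 : ℂ))) (h12 : χ₁ ≠ χ₂) (h13 : χ₁ ≠ χ₃) (h23 : χ₂ ≠ χ₃)
    (g : G) (z₁ z₂ z₃ : ℤ) (hz₁ : χ₁ g = z₁) (hz₂ : χ₂ g = z₂) (hz₃ : χ₃ g = z₃) :
    1 + z₁ * z₁ + z₂ * z₂ + z₃ * z₃ ≤ (Nat.card (Subgroup.centralizer ({g} : Set G)) : ℤ) := by
  classical
  have hone := Cfsg.Agent.Lib.Helper80_CharBasic.isIrrCharacter_one G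
  obtain ⟨i₀, hi₀⟩ : ∃ i₀ : Cfsg.IrrCharacter G, i₀ = ⟨fun _ => (1 : ℂ), hone⟩ := ⟨_, rfl⟩
  obtain ⟨ia, hia⟩ : ∃ ia : Cfsg.IrrCharacter G, ia = ⟨χ₁, h1⟩ := ⟨_, rfl⟩
  obtain ⟨ib, hib⟩ : ∃ ib : Cfsg.IrrCharacter G, ib = ⟨χ₂, h2⟩ := ⟨_, rfl⟩
  obtain ⟨ic, hic⟩ : ∃ ic : Cfsg.IrrCharacter G, ic = ⟨χ₃, h3⟩ := ⟨_, rfl⟩
  have d01 : i₀ ≠ ia := by
    rw [hi₀, hia]; intro h; exact hn1 (congrArg Subtype.val h).symm
  have d02 : i₀ ≠ ib := by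
    rw [hi₀, hib]; intro h; exact hn2 (congrArg Subtype.val h).symm
  have d03 : i₀ ≠ ic := by
    rw [hi₀, hic]; intro h; exact hn3 (congrArg Subtype.val h).symm
  have d12 : ia ≠ ib := by
    rw [hia, hib]; intro h; exact h12 (congrArg Subtype.val h)
  have d13 : ia ≠ ic := by
    rw [hia, hic]; intro h; exact h13 (congrArg Subtype.val h)
  have d23 : ib ≠ ic := by
    rw [hib, hic]; intro h; exact h23 (congrArg Subtype.val h)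
  have hsum := sum_normSq g
  rw [sum_split (fun ψ : Cfsg.IrrCharacter G => Complex.normSq ((ψ : G → ℂ) g))
    d01 d02 d03 d12 d13 d23] at hsum
  rw [hi₀, hia, hib, hic] at hsum
  simp only [map_one, hz₁, hz₂, hz₃, Complex.normSq_intCast] at hsum
  rw [← hi₀, ← hia, ← hib, ← hic] at hsum
  have hrest0 : 0 ≤ ∑ ψ ∈ Finset.univ \ four i₀ ia ib ic,
      Complex.normSq ((ψ : G → ℂ) g) := Finset.sum_nonneg (fun ψ _ => Complex.normSq_nonneg _)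
  have h4 : ((1 + z₁ * z₁ + z₂ * z₂ + z₃ * z₃ : ℤ) : ℝ) ≤
      ((Nat.card (Subgroup.centralizer ({g} : Set G)) : ℤ) : ℝ) := by
    push_cast
    linarith
  exact_mod_cast h4

end Cfsg.Agent.Lib.Helper55_ColOrth
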