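import Mathlib
import Cfsg.Prelude.Def_Characters
import Cfsg.Agent.Lib.Helper55_ExcQuad
import Cfsg.Agent.Lib.Helper55_ColOrth
import Cfsg.Agent.Lib.Helper3_CharColumn
import Cfsg.Agent.Lib.Helper3_CharComplete
import Cfsg.Agent.Lib.Helper80_CharBasic

/-!
# Column orthogonality for five distinguished characters (helper55)

If the principal character and four further irreducible characters have integer values at `g`,
then the sum of the squares of these values is at most `|C(g)|`; in the case of equality all other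
irreducible characters vanish at `g`, and the orthogonality of the columns of `1` and `g` only
involves these five characters.
-/

set_option autoImplicit false

namespace Cfsg.Agent.Lib.Helper55_ColOrth2

open scoped ComplexConjugate
open Cfsg.Agent.Lib.Helper3_CharColumn Cfsg.Agent.Lib.Helper3_CharComplete
  Cfsg.Agent.Lib.Helper55_ExcQuad Cfsg.Agent.Lib.Helper55_ColOrth

variable {G : Type*} [Group G] [Fintype G]

theorem five_sums {χ₁ χ₂ χ₃ χ : G → ℂ} (h1 : Cfsg.IsIrrCharacter G χ₁)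
    (h2 : Cfsg.IsIrrCharacter G χ₂) (h3 : Cfsg.IsIrrCharacter G χ₃)
    (hχ : Cfsg.IsIrrCharacter G χ)
    (hn1 : χ₁ ≠ (fun _ => (1 : ℂ))) (hn2 : χ₂ ≠ (fun _ => (1 : ℂ)))
    (hn3 : χ₃ ≠ (fun _ => (1 : ℂ))) (h12 : χ₁ ≠ χ₂) (h13 : χ₁ ≠ χ₃) (h23 : χ₂ ≠ χ₃)
    (hn : χ ≠ (fun _ => (1 : ℂ))) (hχ1 : χ ≠ χ₁) (hχ2 : χ ≠ χ₂) (hχ3 : χ ≠ χ₃)
    (g : G) (hg : ¬ IsConj (1 : G) g) (d₁ d₂ d₃ d : ℕ) (z₁ z₂ z₃ z : ℤ)
    (hd₁ : χ₁ 1 = (d₁ : ℂ)) (hd₂ : χ₂ 1 = (d₂ : ℂ)) (hd₃ : χ₃ 1 = (d₃ : ℂ)) (hd : χ 1 = (d : ℂ))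
    (hz₁ : χ₁ g = z₁) (hz₂ : χ₂ g = z₂) (hz₃ : χ₃ g = z₃) (hz : χ g = z) :
    1 + z₁ * z₁ + z₂ * z₂ + z₃ * z₃ + z * z ≤
        (Nat.card (Subgroup.centralizer ({g} : Set G)) : ℤ) ∧
      (1 + z₁ * z₁ + z₂ * z₂ + z₃ * z₃ + z * z =
          (Nat.card (Subgroup.centralizer ({g} : Set G)) : ℤ) →
        1 + (d₁ : ℤ) * z₁ + (d₂ : ℤ) * z₂ + (d₃ : ℤ) * z₃ + (d : ℤ) * z = 0) := by
  classical
  have hone := Cfsg.Agent.Lib.Helper80_CharBasic.isIrrCharacter_one G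
  obtain ⟨i₀, hi₀⟩ : ∃ i₀ : Cfsg.IrrCharacter G, i₀ = ⟨fun _ => (1 : ℂ), hone⟩ := ⟨_, rfl⟩
  obtain ⟨ia, hia⟩ : ∃ ia : Cfsg.IrrCharacter G, ia = ⟨χ₁, h1⟩ := ⟨_, rfl⟩
  obtain ⟨ib, hib⟩ : ∃ ib : Cfsg.IrrCharacter G, ib = ⟨χ₂, h2⟩ := ⟨_, rfl⟩
  obtain ⟨ic, hic⟩ : ∃ ic : Cfsg.IrrCharacter G, ic = ⟨χ₃, h3⟩ := ⟨_, rfl⟩
  obtain ⟨ix, hix⟩ : ∃ ix : Cfsg.IrrCharacter G, ix = ⟨χ, hχ⟩ := ⟨_, rfl⟩
  have d01 : i₀ ≠ ia := by
    rw [hi₀, hia]; intro h; exact hn1 (congrArg Subtype.val h).symm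
  have d02 : i₀ ≠ ib := by
    rw [hi₀, hib]; intro h; exact hn2 (congrArg Subtype.val h).symm
  have d03 : i₀ ≠ ic := by
    rw [hi₀, hic]; intro h; exact hn3 (congrArg Subtype.val h).symm
  have d12 : ia ≠ ib := by
    rw [hia, hib]; intro h; exact h12 (congrArg Subtype.val h)
  have d13 : ia ≠ ic := by
    rw [hia, hic]; intro h; exact h13 (congrArg Subtype.val h)
  have d23 : ib ≠ ic := by
    rw [hib, hic]; intro h; exact h23 (congrArg Subtype.val h)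
  have hmem : ix ∈ Finset.univ \ four i₀ ia ib ic := by
    rw [Finset.mem_sdiff, mem_four]
    refine ⟨Finset.mem_univ _, ?_⟩
    rintro (h | h | h | h)
    · apply hn; rw [hix, hi₀] at h; exact congrArg Subtype.val h
    · apply hχ1; rw [hix, hia] at h; exact congrArg Subtype.val h
    · apply hχ2; rw [hix, hib] at h; exact congrArg Subtype.val h
    · apply hχ3; rw [hix, hic] at h; exact congrArg Subtype.val h
  -- the norm of the column of `g`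
  have hsum := sum_normSq g
  rw [sum_split (fun ψ : Cfsg.IrrCharacter G => Complex.normSq ((ψ : G → ℂ) g))
    d01 d02 d03 d12 d13 d23,
    ← Finset.add_sum_erase _ (fun ψ : Cfsg.IrrCharacter G => Complex.normSq ((ψ : G → ℂ) g))
      hmem] at hsum
  rw [hi₀, hia, hib, hic, hix] at hsum
  simp only [map_one, hz₁, hz₂, hz₃, hz, Complex.normSq_intCast] at hsum
  rw [← hi₀, ← hia, ← hib, ← hic, ← hix] at hsum
  obtain ⟨rest, hrest⟩ : ∃ rest : ℝ, rest = ∑ ψ ∈ (Finset.univ \ four i₀ ia ib ic).erase ix,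
      Complex.normSq ((ψ : G → ℂ) g) := ⟨_, rfl⟩
  rw [← hrest] at hsum
  have hrest0 : 0 ≤ rest := by
    rw [hrest]; exact Finset.sum_nonneg (fun ψ _ => Complex.normSq_nonneg _)
  constructor
  · have h4 : ((1 + z₁ * z₁ + z₂ * z₂ + z₃ * z₃ + z * z : ℤ) : ℝ) ≤
        ((Nat.card (Subgroup.centralizer ({g} : Set G)) : ℤ) : ℝ) := by
      push_cast
      linarith
    exact_mod_cast h4
  · intro heq
    have heq' : ((1 + z₁ * z₁ + z₂ * z₂ + z₃ * z₃ + z * z : ℤ) : ℝ) =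
        ((Nat.card (Subgroup.centralizer ({g} : Set G)) : ℤ) : ℝ) := by rw [heq]
    push_cast at heq'
    have hrest1 : rest = 0 := by linarith
    rw [hrest] at hrest1
    have hvan : ∀ ψ ∈ (Finset.univ \ four i₀ ia ib ic).erase ix, (ψ : G → ℂ) g = 0 := by
      intro ψ hψ
      have := (Finset.sum_eq_zero_iff_of_nonneg (fun ψ _ => Complex.normSq_nonneg _)).mp
        hrest1 ψ hψ
      exact Complex.normSq_eq_zero.mp this
    have hcol := column_orthogonality (1 : G) g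
    rw [if_neg hg, sum_split (fun ψ : Cfsg.IrrCharacter G =>
        (ψ : G → ℂ) 1 * conj ((ψ : G → ℂ) g)) d01 d02 d03 d12 d13 d23,
      ← Finset.add_sum_erase _ (fun ψ : Cfsg.IrrCharacter G =>
        (ψ : G → ℂ) 1 * conj ((ψ : G → ℂ) g)) hmem] at hcol
    have hrest2 : ∑ ψ ∈ (Finset.univ \ four i₀ ia ib ic).erase ix,
        (ψ : G → ℂ) 1 * conj ((ψ : G → ℂ) g) = 0 := by
      apply Finset.sum_eq_zero
      intro ψ hψ
      rw [hvan ψ hψ, map_zero, mul_zero]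
    rw [hrest2, add_zero, hi₀, hia, hib, hic, hix] at hcol
    simp only [hd₁, hd₂, hd₃, hd, hz₁, hz₂, hz₃, hz, map_intCast, map_one, mul_one] at hcol
    have h5 : ((1 + (d₁ : ℤ) * z₁ + (d₂ : ℤ) * z₂ + (d₃ : ℤ) * z₃ + (d : ℤ) * z : ℤ) : ℂ) = 0 := by
      push_cast
      linear_combination hcol
    exact_mod_cast h5

end Cfsg.Agent.Lib.Helper55_ColOrth2
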