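import Mathlib

/-!
# The arithmetic endgame of Isaacs 7.10 (helper55)

Signed degrees `D₁ ≡ 1`, `D₂ ≡ D₃ ≡ 3 (mod 4)` with `|Dᵢ| ≥ 3`, `D₁ + D₂ + D₃ = -1`,
`256·D₁D₂D₃ = N·(D₁D₂D₃ + D₂D₃ + D₁D₃ + D₁D₂)`, `8 ∣ N`, `Dᵢ² ≤ N` force `N = 168` or `N = 360`.
-/

set_option autoImplicit false

namespace Cfsg.Agent.Lib.Helper55_D8Arith

theorem inv_ge (D : ℤ) (h : D ≤ -3 ∨ 3 ≤ D) : (-1 / 3 : ℚ) ≤ 1 / (D : ℚ) := by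
  rcases h with h | h
  · have h1 : (D : ℚ) ≤ -3 := by exact_mod_cast h
    have h2 : (D : ℚ) < 0 := by linarith
    have hne : (D : ℚ) ≠ 0 := ne_of_lt h2
    rw [← sub_nonneg]
    have h3 : 1 / (D : ℚ) - (-1 / 3) = (3 + (D : ℚ)) / (3 * (D : ℚ)) := by
      field_simp
      ring
    rw [h3]
    exact div_nonneg_of_nonpos (by linarith) (by linarith)
  · have h1 : (3 : ℚ) ≤ (D : ℚ) := by exact_mod_cast h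
    have h2 : (0 : ℚ) < 1 / (D : ℚ) := by positivity
    linarith

theorem inv_pos' (D : ℤ) (h : 3 ≤ D) : (0 : ℚ) < 1 / (D : ℚ) := by
  have h1 : (3 : ℚ) ≤ (D : ℚ) := by exact_mod_cast h
  positivity

/-- the bound `N < 768` -/
theorem bound (N D₁ D₂ D₃ : ℤ) (h₁ : D₁ ≤ -3 ∨ 3 ≤ D₁) (h₂ : D₂ ≤ -3 ∨ 3 ≤ D₂)
    (h₃ : D₃ ≤ -3 ∨ 3 ≤ D₃) (hsum : D₁ + D₂ + D₃ = -1) (hN : 0 < N)
    (heq : 256 * (D₁ * D₂ * D₃) = N * (D₁ * D₂ * D₃ + D₂ * D₃ + D₁ * D₃ + D₁ * D₂)) :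
    N < 768 := by
  have hD₁ : (D₁ : ℚ) ≠ 0 := by
    have : D₁ ≠ 0 := by omega
    exact_mod_cast this
  have hD₂ : (D₂ : ℚ) ≠ 0 := by
    have : D₂ ≠ 0 := by omega
    exact_mod_cast this
  have hD₃ : (D₃ : ℚ) ≠ 0 := by
    have : D₃ ≠ 0 := by omega
    exact_mod_cast this
  have hq : (N : ℚ) * (1 + 1 / (D₁ : ℚ) + 1 / (D₂ : ℚ) + 1 / (D₃ : ℚ)) = 256 := by
    have h1 : (256 : ℚ) * ((D₁ : ℚ) * D₂ * D₃) =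
        (N : ℚ) * ((D₁ : ℚ) * D₂ * D₃ + D₂ * D₃ + D₁ * D₃ + D₁ * D₂) := by exact_mod_cast heq
    field_simp
    linarith
  have hR : (1 / 3 : ℚ) < 1 + 1 / (D₁ : ℚ) + 1 / (D₂ : ℚ) + 1 / (D₃ : ℚ) := by
    have i₁ := inv_ge D₁ h₁
    have i₂ := inv_ge D₂ h₂
    have i₃ := inv_ge D₃ h₃
    -- one of them is positive
    have hpos : 3 ≤ D₁ ∨ 3 ≤ D₂ ∨ 3 ≤ D₃ := by omega
    rcases hpos with h | h | h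
    · have := inv_pos' D₁ h; linarith
    · have := inv_pos' D₂ h; linarith
    · have := inv_pos' D₃ h; linarith
  have hNq : (N : ℚ) < 768 := by
    have hNpos : (0 : ℚ) < N := by exact_mod_cast hN
    nlinarith
  exact_mod_cast hNq

/-- the enumeration -/
theorem endgame (N D₁ D₂ D₃ : ℤ) (h₁ : D₁ ≤ -3 ∨ 3 ≤ D₁) (h₂ : D₂ ≤ -3 ∨ 3 ≤ D₂)
    (h₃ : D₃ ≤ -3 ∨ 3 ≤ D₃) (hm₂ : D₂ % 4 = 3) (hm₃ : D₃ % 4 = 3)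
    (hsum : D₁ + D₂ + D₃ = -1)
    (heq : 256 * (D₁ * D₂ * D₃) = N * (D₁ * D₂ * D₃ + D₂ * D₃ + D₁ * D₃ + D₁ * D₂))
    (h8 : (8 : ℤ) ∣ N) (hs₁ : D₁ * D₁ ≤ N) (hs₂ : D₂ * D₂ ≤ N) (hs₃ : D₃ * D₃ ≤ N) :
    N = 168 ∨ N = 360 := by
  have hN : 0 < N := by
    have : 9 ≤ D₁ * D₁ := by rcases h₁ with h | h <;> nlinarith
    omega
  have hb := bound N D₁ D₂ D₃ h₁ h₂ h₃ hsum hN heq
  have hb₂ : -27 ≤ D₂ ∧ D₂ ≤ 27 := by constructor <;> nlinarith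
  have hb₃ : -27 ≤ D₃ ∧ D₃ ≤ 27 := by constructor <;> nlinarith
  obtain ⟨j, hj⟩ : ∃ j : ℤ, D₂ = 4 * j + 3 := ⟨(D₂ - 3) / 4, by omega⟩
  obtain ⟨k, hk⟩ : ∃ k : ℤ, D₃ = 4 * k + 3 := ⟨(D₃ - 3) / 4, by omega⟩
  have hD₁ : D₁ = -7 - 4 * j - 4 * k := by omega
  subst hj hk hD₁
  have hj1 : -7 ≤ j := by omega
  have hj2 : j ≤ 6 := by omega
  have hk1 : -7 ≤ k := by omega
  have hk2 : k ≤ 6 := by omega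
  clear hb₂ hb₃ hm₂ hm₃ hsum h₂ h₃
  interval_cases j <;> interval_cases k <;> omega

end Cfsg.Agent.Lib.Helper55_D8Arith
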