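import Mathlib
import Cfsg.Agent.Lib.Helper55_D8Arith

/-!
# The arithmetic endgame of Isaacs 7.10, with the values of the signed degrees (helper55)
-/

set_option autoImplicit false

namespace Cfsg.Agent.Lib.Helper55_D8Arith2

open Cfsg.Agent.Lib.Helper55_D8Arith

/-- the enumeration, with the signed degrees -/
theorem endgame_values (N D₁ D₂ D₃ : ℤ) (h₁ : D₁ ≤ -3 ∨ 3 ≤ D₁) (h₂ : D₂ ≤ -3 ∨ 3 ≤ D₂)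
    (h₃ : D₃ ≤ -3 ∨ 3 ≤ D₃) (hm₂ : D₂ % 4 = 3) (hm₃ : D₃ % 4 = 3)
    (hsum : D₁ + D₂ + D₃ = -1)
    (heq : 256 * (D₁ * D₂ * D₃) = N * (D₁ * D₂ * D₃ + D₂ * D₃ + D₁ * D₃ + D₁ * D₂))
    (h8 : (8 : ℤ) ∣ N) (hs₁ : D₁ * D₁ ≤ N) (hs₂ : D₂ * D₂ ≤ N) (hs₃ : D₃ * D₃ ≤ N) :
    (N = 168 ∧ D₁ = -7 ∧ D₂ = 3 ∧ D₃ = 3) ∨ (N = 360 ∧ D₁ = 9 ∧ D₂ = -5 ∧ D₃ = -5) := by
  have hN : 0 < N := by
    have : 9 ≤ D₁ * D₁ := by rcases h₁ with h | h <;> nlinarith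
    omega
  have hb := bound N D₁ D₂ D₃ h₁ h₂ h₃ hsum hN heq
  have hb₂ : -27 ≤ D₂ ∧ D₂ ≤ 27 := by constructor <;> nlinarith
  have hb₃ : -27 ≤ D₃ ∧ D₃ ≤ 27 := by constructor <;> nlinarith
  obtain ⟨j, hj⟩ : ∃ j : ℤ, D₂ = 4 * j + 3 := ⟨(D₂ - 3) / 4, by omega⟩
  obtain ⟨k, hk⟩ : ∃ k : ℤ, D₃ = 4 * k + 3 := ⟨(D₃ - 3) / 4, by omega⟩
  have hD₁ : D₁ = -7 - 4 * j - 4 * k := by omega
  subst hj hk hD₁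
  have hj1 : -7 ≤ j := by omega
  have hj2 : j ≤ 6 := by omega
  have hk1 : -7 ≤ k := by omega
  have hk2 : k ≤ 6 := by omega
  clear hb₂ hb₃ hm₂ hm₃ hsum h₂ h₃
  interval_cases j <;> interval_cases k <;> omega

/-- symmetric form: the multiset of signed degrees in the case `N = 360` -/
theorem values_sym (N D₁ D₂ D₃ y₁ y₂ y₃ : ℤ) (h₁ : D₁ ≤ -3 ∨ 3 ≤ D₁) (h₂ : D₂ ≤ -3 ∨ 3 ≤ D₂)
    (h₃ : D₃ ≤ -3 ∨ 3 ≤ D₃) (hy₁ : y₁ = 1 ∨ y₁ = -1) (hy₂ : y₂ = 1 ∨ y₂ = -1)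
    (hy₃ : y₃ = 1 ∨ y₃ = -1) (hy : 1 + y₁ + y₂ + y₃ = 0)
    (hm₁ : (D₁ - y₁) % 4 = 0) (hm₂ : (D₂ - y₂) % 4 = 0) (hm₃ : (D₃ - y₃) % 4 = 0)
    (hsum : D₁ + D₂ + D₃ = -1)
    (heq : 256 * (D₁ * D₂ * D₃) = N * (D₁ * D₂ * D₃ + D₂ * D₃ + D₁ * D₃ + D₁ * D₂))
    (h8 : (8 : ℤ) ∣ N) (hs₁ : D₁ * D₁ ≤ N) (hs₂ : D₂ * D₂ ≤ N) (hs₃ : D₃ * D₃ ≤ N)
    (hN : N = 360) :
    (D₁ = 9 ∨ D₁ = -5) ∧ (D₂ = 9 ∨ D₂ = -5) ∧ (D₃ = 9 ∨ D₃ = -5) := by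
  rcases hy₁ with rfl | rfl <;> rcases hy₂ with rfl | rfl <;> rcases hy₃ with rfl | rfl
  all_goals first
    | (exfalso; omega)
    | (have h := endgame_values N D₁ D₂ D₃ h₁ h₂ h₃ (by omega) (by omega)
        hsum heq h8 hs₁ hs₂ hs₃
       omega)
    | (have h := endgame_values N D₂ D₁ D₃ h₂ h₁ h₃ (by omega) (by omega)
        (by omega) (by linear_combination heq) h8 hs₂ hs₁ hs₃
       omega)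
    | (have h := endgame_values N D₃ D₂ D₁ h₃ h₂ h₁ (by omega) (by omega)
        (by omega) (by linear_combination heq) h8 hs₃ hs₂ hs₁
       omega)

end Cfsg.Agent.Lib.Helper55_D8Arith2
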