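import Mathlib
import Cfsg.Prelude.Def_Characters
import Cfsg.Agent.Lib.Helper55_BSChar
import Cfsg.Agent.Lib.Helper55_ExcQuad

/-!
# The generalized character `(1_C - lam)^G` for a real linear character (helper55)

Same setting as `Helper55_BSChar` but with `lam² = 1`, `lam ≠ 1`: then `Θ = (1_C - lam)^G` has norm
`4` and equals `1 + ε₁χ₁ + ε₂χ₂ + ε₃χ₃` (Isaacs, Character theory, proof of 7.10).
-/

set_option autoImplicit false
set_option linter.unusedSectionVars false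

namespace Cfsg.Agent.Lib.Helper55_BSChar

open scoped ComplexConjugate
open Cfsg.Agent.Lib.Helper3_CharBridge Cfsg.Agent.Lib.Helper3_CharOrtho
  Cfsg.Agent.Lib.Helper3_CharComplete Cfsg.Agent.Lib.Helper3_CharColumn
open Cfsg.Agent.Lib.Helper75_Induced Cfsg.Agent.Lib.Helper75_CharArith
  Cfsg.Agent.Lib.Helper75_IndChar Cfsg.Agent.Lib.Helper75_LinChar
open Cfsg.Agent.Lib.Helper55_ExcQuad

section real

variable {G : Type*} [Group G] [Fintype G] (C Nn : Subgroup G) (lam : C → ℂ)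
variable (hlam : IsLin C lam) (hCN : C ≤ Nn) (hcard : Nat.card Nn = 2 * Nat.card C)
  (hinv : ∀ g ∈ Nn, g ∉ C → ∀ x ∈ C, ext1 C lam (g⁻¹ * x * g) = (ext1 C lam x)⁻¹)
  (hTI : ∀ g x : G, ext1 C lam x ≠ 1 → ext1 C lam (g⁻¹ * x * g) ≠ 1 → g ∈ Nn)
  (hreal : ∀ x : C, lam x * lam x = 1) (hne : lam ≠ (fun _ => (1 : ℂ)))

include hlam hCN hcard hinv hTI hreal hne

theorem classInner_Theta_one_real :
    Cfsg.classInner (Theta C lam) (fun _ => (1 : ℂ)) = 1 := by
  classical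
  have : Fintype C := Fintype.ofFinite C
  unfold Theta
  rw [frobenius_reciprocity C _ _ (isClassFunction_of_isIrrCharacter
    (Cfsg.Agent.Lib.Helper80_CharBasic.isIrrCharacter_one G))]
  have h1 : (fun x : C => 1 - lam x) = (fun _ : C => (1 : ℂ)) - lam := by
    funext x; rfl
  rw [h1, classInner_sub_left,
    classInner_irr (Cfsg.Agent.Lib.Helper80_CharBasic.isIrrCharacter_one C)
      (Cfsg.Agent.Lib.Helper80_CharBasic.isIrrCharacter_one C),
    classInner_irr hlam.irr (Cfsg.Agent.Lib.Helper80_CharBasic.isIrrCharacter_one C),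
    if_pos rfl, if_neg hne]
  norm_num

theorem classInner_Theta_self_real :
    Cfsg.classInner (Theta C lam) (Theta C lam) = 4 := by
  classical
  have : Fintype C := Fintype.ofFinite C
  have hone := Cfsg.Agent.Lib.Helper80_CharBasic.isIrrCharacter_one C
  have hfr := frobenius_reciprocity C (fun x : C => 1 - lam x) (Theta C lam)
    (isClassFunction_Theta C lam)
  rw [show Cfsg.classInner (Theta C lam) (Theta C lam) =
    Cfsg.classInner (Cfsg.indFun C fun x : C => 1 - lam x) (Theta C lam) from rfl, hfr]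
  have hinvl : ∀ x : C, (lam x)⁻¹ = lam x := by
    intro x
    exact inv_eq_of_mul_eq_one_left (hreal x)
  have hrepl : Cfsg.classInner (fun x : C => 1 - lam x) (fun h : C => Theta C lam h) =
      Cfsg.classInner (fun x : C => 1 - lam x)
        ((2 : ℂ) • ((fun _ : C => (1 : ℂ)) - lam)) := by
    unfold Cfsg.classInner
    congr 1
    apply Finset.sum_congr rfl
    intro x _
    show (1 - lam x) * conj (Theta C lam (x : G)) =
      (1 - lam x) * conj ((2 : ℂ) * (1 - lam x))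
    by_cases hx : lam x = 1
    · rw [hx, sub_self, zero_mul, zero_mul]
    · have hx' : ext1 C lam (x : G) ≠ 1 := by
        rw [ext1_of_mem C lam x.2]; exact hx
      rw [Theta_apply_of_ne C Nn lam hlam hCN hcard hinv hTI (x : G) hx',
        ext1_of_mem C lam x.2, hinvl]
      congr 2
      ring
  rw [hrepl]
  have h1 : (fun x : C => 1 - lam x) = (fun _ : C => (1 : ℂ)) - lam := by
    funext x; rfl
  rw [h1, classInner_smul_right, classInner_sub_left,
    Cfsg.Agent.Lib.Helper3_Exceptional.classInner_sub_right',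
    Cfsg.Agent.Lib.Helper3_Exceptional.classInner_sub_right',
    classInner_irr hone hone, classInner_irr hone hlam.irr,
    classInner_irr hlam.irr hone, classInner_irr hlam.irr hlam.irr,
    if_pos rfl, if_pos rfl, if_neg (Ne.symm hne), if_neg hne]
  have h2 : (starRingEnd ℂ) (2 : ℂ) = 2 := map_ofNat _ 2
  rw [h2]
  norm_num

/-- **The decomposition** `Θ = 1 + ε₁χ₁ + ε₂χ₂ + ε₃χ₃`. -/
theorem exists_quad :
    ∃ (χ₁ χ₂ χ₃ : G → ℂ) (ε₁ ε₂ ε₃ : ℤ), Cfsg.IsIrrCharacter G χ₁ ∧ Cfsg.IsIrrCharacter G χ₂ ∧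
      Cfsg.IsIrrCharacter G χ₃ ∧
      χ₁ ≠ (fun _ => (1 : ℂ)) ∧ χ₂ ≠ (fun _ => (1 : ℂ)) ∧ χ₃ ≠ (fun _ => (1 : ℂ)) ∧
      χ₁ ≠ χ₂ ∧ χ₁ ≠ χ₃ ∧ χ₂ ≠ χ₃ ∧
      (ε₁ = 1 ∨ ε₁ = -1) ∧ (ε₂ = 1 ∨ ε₂ = -1) ∧ (ε₃ = 1 ∨ ε₃ = -1) ∧
      ∀ g : G, Theta C lam g = 1 + (ε₁ : ℂ) * χ₁ g + (ε₂ : ℂ) * χ₂ g + (ε₃ : ℂ) * χ₃ g := by
  classical
  have hone := Cfsg.Agent.Lib.Helper80_CharBasic.isIrrCharacter_one G
  have hC1 : Cfsg.IsCharacter G (Cfsg.indFun C (fun _ : C => (1 : ℂ))) :=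
    isCharacter_indFun C (isCharacter_of_isIrrCharacter
      (Cfsg.Agent.Lib.Helper80_CharBasic.isIrrCharacter_one C))
  have hC2 : Cfsg.IsCharacter G (Cfsg.indFun C lam) := isCharacter_indFun C hlam.1
  obtain ⟨m₁, hm₁, -⟩ := exists_multiplicities hC1
  obtain ⟨m₂, hm₂, -⟩ := exists_multiplicities hC2
  have hThsub : Theta C lam = Cfsg.indFun C (fun _ : C => (1 : ℂ)) - Cfsg.indFun C lam := by
    unfold Theta
    rw [← Cfsg.Agent.Lib.Helper3_Exceptional.indFun_sub']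
    rfl
  obtain ⟨v, hvdef⟩ : ∃ v : Cfsg.IrrCharacter G → ℤ, v = fun ψ => (m₁ ψ : ℤ) - (m₂ ψ : ℤ) :=
    ⟨_, rfl⟩
  have hv : ∀ ψ : Cfsg.IrrCharacter G, Cfsg.classInner (Theta C lam) ψ = ((v ψ : ℤ) : ℂ) := by
    intro ψ
    rw [hThsub, classInner_sub_left, hm₁, hm₂, hvdef]
    push_cast
    rfl
  obtain ⟨i₀, hi₀⟩ : ∃ i₀ : Cfsg.IrrCharacter G, i₀ = ⟨fun _ => (1 : ℂ), hone⟩ := ⟨_, rfl⟩
  have hcl := isClassFunction_Theta C lam
  have h4 : ∑ ψ, v ψ * v ψ = 4 := by
    have h1 := classInner_self_eq_sum hcl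
    rw [classInner_Theta_self_real C Nn lam hlam hCN hcard hinv hTI hreal hne] at h1
    have h2 : ((4 : ℤ) : ℂ) = ((∑ ψ, v ψ * v ψ : ℤ) : ℂ) := by
      push_cast
      rw [h1]
      apply Finset.sum_congr rfl
      intro ψ _
      rw [hv ψ, map_intCast]
    exact_mod_cast h2.symm
  have hv0 : v i₀ = 1 := by
    have h1 := hv i₀
    rw [hi₀] at h1
    simp only at h1
    rw [classInner_Theta_one_real C Nn lam hlam hCN hcard hinv hTI hreal hne] at h1
    rw [hi₀]
    exact_mod_cast h1.symm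
  have hexp : ∀ g : G, Theta C lam g =
      ∑ ψ : Cfsg.IrrCharacter G, ((v ψ : ℤ) : ℂ) * (ψ : G → ℂ) g := by
    intro g
    have h1 := congrFun (classFunction_eq_sum (Theta C lam) hcl) g
    rw [h1, Finset.sum_apply]
    apply Finset.sum_congr rfl
    intro ψ _
    rw [Pi.smul_apply, smul_eq_mul, hv ψ]
  obtain ⟨a, b, c, hai, hbi, hci, hab, hac, hbc, hva, hvb, hvc, hzero⟩ :=
    eq_of_norm_four v i₀ h4 hv0
  refine ⟨a.1, b.1, c.1, v a, v b, v c, a.2, b.2, c.2, ?_, ?_, ?_, ?_, ?_, ?_, hva, hvb, hvc, ?_⟩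
  · intro h; apply hai; rw [hi₀]; exact Subtype.ext h
  · intro h; apply hbi; rw [hi₀]; exact Subtype.ext h
  · intro h; apply hci; rw [hi₀]; exact Subtype.ext h
  · intro h; exact hab (Subtype.ext h)
  · intro h; exact hac (Subtype.ext h)
  · intro h; exact hbc (Subtype.ext h)
  · intro g
    rw [hexp g]
    have h1 : ∀ ψ : Cfsg.IrrCharacter G, ((v ψ : ℤ) : ℂ) * (ψ : G → ℂ) g =
        (if ψ = i₀ then (ψ : G → ℂ) g else 0) +
          (if ψ = a then ((v a : ℤ) : ℂ) * (ψ : G → ℂ) g else 0) +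
          (if ψ = b then ((v b : ℤ) : ℂ) * (ψ : G → ℂ) g else 0) +
          (if ψ = c then ((v c : ℤ) : ℂ) * (ψ : G → ℂ) g else 0) := by
      intro ψ
      by_cases h1 : ψ = i₀
      · rw [if_pos h1, if_neg (fun h : ψ = a => hai (h.symm.trans h1)),
          if_neg (fun h : ψ = b => hbi (h.symm.trans h1)),
          if_neg (fun h : ψ = c => hci (h.symm.trans h1)), h1, hv0]
        push_cast; ring
      by_cases h2 : ψ = a
      · rw [if_neg h1, if_pos h2, if_neg (fun h : ψ = b => hab (h2.symm.trans h)),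
          if_neg (fun h : ψ = c => hac (h2.symm.trans h)), h2]
        ring
      by_cases h3 : ψ = b
      · rw [if_neg h1, if_neg h2, if_pos h3, if_neg (fun h : ψ = c => hbc (h3.symm.trans h)), h3]
        ring
      by_cases h4' : ψ = c
      · rw [if_neg h1, if_neg h2, if_neg h3, if_pos h4', h4']
        ring
      · rw [if_neg h1, if_neg h2, if_neg h3, if_neg h4', hzero ψ h1 h2 h3 h4']
        push_cast; ring
    rw [Finset.sum_congr rfl (fun ψ _ => h1 ψ), Finset.sum_add_distrib, Finset.sum_add_distrib,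
      Finset.sum_add_distrib, Finset.sum_ite_eq', Finset.sum_ite_eq', Finset.sum_ite_eq',
      Finset.sum_ite_eq']
    simp only [Finset.mem_univ, if_true]
    rw [hi₀]

end real

end Cfsg.Agent.Lib.Helper55_BSChar
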