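import Mathlib
import Cfsg.Prelude.Def_Characters
import Cfsg.Agent.Lib.Helper55_DihedralCoord
import Cfsg.Agent.Lib.Helper55_D8Cent
import Cfsg.Agent.Lib.Helper55_CycQuot
import Cfsg.Agent.Lib.Helper55_BSChar
import Cfsg.Agent.Lib.Helper55_BSChar2
import Cfsg.Agent.Lib.Helper75_LinChar
import Cfsg.Agent.Lib.Helper75_CharArith

/-!
# Characters for a dihedral involution centralizer of order 8 (helper55)

Character-theoretic part of Isaacs 7.10: the linear characters of `A = ⟨a⟩` (`a` of order 4 in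
`D = C_G(t)`), the generalized character `Θ = (1_A - μ)^G = 1 + ε₁χ₁ + ε₂χ₂ + ε₃χ₃` and its
values, and the multiplicities of the restriction of a character to `A`.
-/

set_option autoImplicit false

namespace Cfsg.Agent.Lib.Helper55_D8Char

open scoped ComplexConjugate
open Subgroup Cfsg.Agent.Lib.Helper55_DihedralCoord Cfsg.Agent.Lib.Helper55_D8Cent
  Cfsg.Agent.Lib.Helper55_CycQuot Cfsg.Agent.Lib.Helper55_BSChar
  Cfsg.Agent.Lib.Helper75_LinChar Cfsg.Agent.Lib.Helper75_CharArith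

variable {G : Type*} [Group G] {t : G} (e : ↥(centralizer ({t} : Set G)) ≃* DihedralGroup 4)

/-- the rotation `R i` as an element of `A = ⟨R 1⟩` -/
def rA (i : ZMod 4) : ↥(zpowers (R e 1)) := ⟨R e i, (mem_zpowers_iff e _).mpr ⟨i, rfl⟩⟩

theorem rA_coe (i : ZMod 4) : ((rA e i : ↥(zpowers (R e 1))) : G) = R e i := rfl

theorem rA_mul (i j : ZMod 4) : rA e i * rA e j = rA e (i + j) :=
  Subtype.ext (R_mul_R e i j)

theorem rA_zero : rA e 0 = 1 := Subtype.ext (R_zero e)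

theorem rA_injective : Function.Injective (rA e) := by
  intro i j h
  have h1 : ((rA e i : ↥(zpowers (R e 1))) : G) = ((rA e j : ↥(zpowers (R e 1))) : G) := by
    rw [h]
  exact R_injective e h1

theorem rA_surjective : Function.Surjective (rA e) := by
  rintro ⟨x, hx⟩
  obtain ⟨i, rfl⟩ := (mem_zpowers_iff e x).mp hx
  exact ⟨i, rfl⟩

/-- `ZMod 4 ≃ A` -/
noncomputable def rAEquiv : ZMod 4 ≃ ↥(zpowers (R e 1)) :=
  Equiv.ofBijective (rA e) ⟨rA_injective e, rA_surjective e⟩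

theorem sum_A [Fintype ↥(zpowers (R e 1))] (F : ↥(zpowers (R e 1)) → ℂ) :
    ∑ x, F x = F (rA e 0) + F (rA e 1) + F (rA e 2) + F (rA e 3) := by
  rw [← Fintype.sum_equiv (rAEquiv e) (fun i => F (rA e i)) F (fun i => rfl)]
  exact Fin.sum_univ_four (fun i : Fin 4 => F (rA e i))

/-- the faithful linear character of `A`, as a homomorphism to `ℂˣ` -/
theorem exists_hom : ∃ f : ↥(zpowers (R e 1)) →* ℂˣ, f (rA e 1) = Iu := by
  have hgen : ∀ x : ↥(zpowers (R e 1)), x ∈ zpowers (rA e 1) := by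
    rintro ⟨x, hx⟩
    obtain ⟨k, hk⟩ := hx
    refine ⟨k, ?_⟩
    apply Subtype.ext
    rw [Subgroup.coe_zpow]
    exact hk
  have ho : orderOf (rA e 1) = 4 := by
    have h1 : orderOf ((rA e 1 : ↥(zpowers (R e 1))) : G) = 4 := orderOf_R_one e
    rwa [Subgroup.orderOf_coe] at h1
  have hdv : orderOf Iu ∣ orderOf (rA e 1) := by rw [orderOf_Iu, ho]
  exact ⟨monoidHomOfForallMemZpowers hgen hdv, monoidHomOfForallMemZpowers_apply_gen hgen hdv⟩

theorem hom_apply (f : ↥(zpowers (R e 1)) →* ℂˣ) (hf : f (rA e 1) = Iu) (i : ZMod 4) :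
    f (rA e i) = Iu ^ i.val := by
  have h1 : rA e i = (rA e 1) ^ i.val := by
    apply Subtype.ext
    rw [Subgroup.coe_pow, rA_coe, rA_coe]
    have h2 : R e 1 ^ i.val = R e 1 ^ ((i.val : ℕ) : ℤ) := (zpow_natCast _ _).symm
    rw [h2, R_one_zpow]
    congr 1
    push_cast
    exact (ZMod.natCast_zmod_val i).symm
  rw [h1, map_pow, hf]

theorem Iu_pow_val (i : ZMod 4) : ((Iu ^ i.val : ℂˣ) : ℂ) = Complex.I ^ i.val := by
  rw [Units.val_pow_eq_pow_val, Iu_val]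

theorem card_A : Nat.card ↥(zpowers (R e 1)) = 4 := by
  rw [Nat.card_zpowers, orderOf_R_one]

/-- multiplicities of the three characters `1, μ, λ` of `A` in the restriction of a character -/
theorem restrict_mults [Finite G] {χ : G → ℂ} (hχ : Cfsg.IsCharacter G χ) :
    ∃ m₁ m₂ m₃ : ℕ,
      4 * (m₁ : ℂ) = χ 1 + χ (R e 1) + χ (R e 2) + χ (R e 3) ∧
      4 * (m₂ : ℂ) = χ 1 - χ (R e 1) + χ (R e 2) - χ (R e 3) ∧
      4 * (m₃ : ℂ) = χ 1 - Complex.I * χ (R e 1) - χ (R e 2) + Complex.I * χ (R e 3) := by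
  classical
  have : Fintype ↥(zpowers (R e 1)) := Fintype.ofFinite _
  obtain ⟨f, hf⟩ := exists_hom e
  have hres := isCharacter_restrict (zpowers (R e 1)) hχ
  have hl1 : IsLin ↥(zpowers (R e 1)) (fun x => (((Units.coeHom ℂ).comp f) x)) :=
    isLin_of_hom ((Units.coeHom ℂ).comp f)
  have hl2 : IsLin ↥(zpowers (R e 1)) (fun x => (((Units.coeHom ℂ).comp (f ^ 2)) x)) :=
    isLin_of_hom ((Units.coeHom ℂ).comp (f ^ 2))
  have hl0 : IsLin ↥(zpowers (R e 1)) (fun _ => (1 : ℂ)) := isLin_one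
  obtain ⟨m₁, hm₁⟩ := classInner_isCharacter_nat hres hl0.1
  obtain ⟨m₂, hm₂⟩ := classInner_isCharacter_nat hres hl2.1
  obtain ⟨m₃, hm₃⟩ := classInner_isCharacter_nat hres hl1.1
  have hcard : (Nat.card ↥(zpowers (R e 1)) : ℂ) = 4 := by rw [card_A e]; norm_num
  have hI2 : Complex.I ^ 2 = -1 := Complex.I_sq
  have hI3 : Complex.I ^ 3 = -Complex.I := by
    rw [pow_succ, hI2]; ring
  have hv : ∀ i : ZMod 4, ((f (rA e i) : ℂˣ) : ℂ) = Complex.I ^ i.val := by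
    intro i; rw [hom_apply e f hf i, Iu_pow_val]
  have hv0 : ((f (rA e 0) : ℂˣ) : ℂ) = 1 := by rw [hv]; rfl
  have hv1 : ((f (rA e 1) : ℂˣ) : ℂ) = Complex.I := by rw [hv]; exact pow_one _
  have hv2 : ((f (rA e 2) : ℂˣ) : ℂ) = -1 := by rw [hv]; exact hI2
  have hv3 : ((f (rA e 3) : ℂˣ) : ℂ) = -Complex.I := by rw [hv]; exact hI3
  have h10 : (1 : G) = R e 0 := (R_zero e).symm
  refine ⟨m₁, m₂, m₃, ?_, ?_, ?_⟩
  · rw [← hm₁]
    unfold Cfsg.classInner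
    rw [hcard, sum_A e]
    simp only [rA_coe, map_one, mul_one]
    rw [h10]
    ring
  · rw [← hm₂]
    unfold Cfsg.classInner
    rw [hcard, sum_A e]
    simp only [rA_coe, MonoidHom.comp_apply, MonoidHom.pow_apply, Units.coeHom_apply,
      Units.val_pow_eq_pow_val, hv0, hv1, hv2, hv3]
    rw [h10]
    simp only [hI2, map_pow, map_neg, map_one, Complex.conj_I]
    ring_nf
    rw [hI2]
    ring
  · rw [← hm₃]
    unfold Cfsg.classInner
    rw [hcard, sum_A e]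
    simp only [rA_coe, MonoidHom.comp_apply, Units.coeHom_apply, hv0, hv1, hv2, hv3]
    rw [h10]
    simp only [map_neg, map_one, Complex.conj_I]
    ring

section theta

variable [Fintype G]

/-- **Isaacs 7.10, the generalized character.** -/
theorem exists_theta (ht : orderOf t = 2) :
    ∃ (χ₁ χ₂ χ₃ : G → ℂ) (ε₁ ε₂ ε₃ : ℤ), Cfsg.IsIrrCharacter G χ₁ ∧ Cfsg.IsIrrCharacter G χ₂ ∧
      Cfsg.IsIrrCharacter G χ₃ ∧
      χ₁ ≠ (fun _ => (1 : ℂ)) ∧ χ₂ ≠ (fun _ => (1 : ℂ)) ∧ χ₃ ≠ (fun _ => (1 : ℂ)) ∧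
      χ₁ ≠ χ₂ ∧ χ₁ ≠ χ₃ ∧ χ₂ ≠ χ₃ ∧
      (ε₁ = 1 ∨ ε₁ = -1) ∧ (ε₂ = 1 ∨ ε₂ = -1) ∧ (ε₃ = 1 ∨ ε₃ = -1) ∧
      (1 + (ε₁ : ℂ) * χ₁ 1 + (ε₂ : ℂ) * χ₂ 1 + (ε₃ : ℂ) * χ₃ 1 = 0) ∧
      (1 + (ε₁ : ℂ) * χ₁ t + (ε₂ : ℂ) * χ₂ t + (ε₃ : ℂ) * χ₃ t = 0) ∧
      (1 + (ε₁ : ℂ) * χ₁ (R e 1) + (ε₂ : ℂ) * χ₂ (R e 1) + (ε₃ : ℂ) * χ₃ (R e 1) = 4) := by
  classical
  obtain ⟨f, hf⟩ := exists_hom e
  obtain ⟨mu, hmu⟩ : ∃ mu : ↥(zpowers (R e 1)) → ℂ,
    mu = fun x => (((Units.coeHom ℂ).comp (f ^ 2)) x) := ⟨_, rfl⟩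
  have hlam : IsLin ↥(zpowers (R e 1)) mu := by
    rw [hmu]; exact isLin_of_hom ((Units.coeHom ℂ).comp (f ^ 2))
  have hI2 : Complex.I ^ 2 = -1 := Complex.I_sq
  have hmuv : ∀ i : ZMod 4, mu (rA e i) = (Complex.I ^ i.val) ^ 2 := by
    intro i
    rw [hmu]
    simp only [MonoidHom.comp_apply, MonoidHom.pow_apply, Units.coeHom_apply,
      Units.val_pow_eq_pow_val]
    rw [hom_apply e f hf i, Iu_pow_val]
  have hmu0 : mu (rA e 0) = 1 := by rw [hmuv]; simp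
  have hmu1 : mu (rA e 1) = -1 := by
    rw [hmuv]
    have : (1 : ZMod 4).val = 1 := rfl
    rw [this, pow_one, hI2]
  have hmu2 : mu (rA e 2) = 1 := by
    rw [hmuv]
    have : (2 : ZMod 4).val = 2 := rfl
    rw [this, hI2]; norm_num
  have hmu3 : mu (rA e 3) = -1 := by
    rw [hmuv]
    have : (3 : ZMod 4).val = 3 := rfl
    rw [this, ← pow_mul]
    have h6 : Complex.I ^ (3 * 2) = (Complex.I ^ 2) ^ 3 := by rw [← pow_mul]
    rw [h6, hI2]; norm_num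
  have hcases : ∀ i : ZMod 4, i = 0 ∨ i = 1 ∨ i = 2 ∨ i = 3 := by decide
  -- elements where `ext1 ≠ 1`
  have hX : ∀ g : G, ext1 (zpowers (R e 1)) mu g ≠ 1 → g = R e 1 ∨ g = R e 3 := by
    intro g hg
    have hgA := mem_of_ext1_ne_one _ mu hg
    rw [ext1_of_mem _ mu hgA] at hg
    obtain ⟨i, rfl⟩ := (mem_zpowers_iff e g).mp hgA
    have h1 : (⟨R e i, hgA⟩ : ↥(zpowers (R e 1))) = rA e i := rfl
    rw [h1] at hg
    rcases hcases i with rfl | rfl | rfl | rfl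
    · exact absurd hmu0 hg
    · left; rfl
    · exact absurd hmu2 hg
    · right; rfl
  have hsq : ∀ g : G, g = R e 1 ∨ g = R e 3 → g * g = t := by
    rintro g (rfl | rfl)
    · exact R_one_sq e ht
    · exact R_three_sq e ht
  have hCN : zpowers (R e 1) ≤ centralizer ({t} : Set G) :=
    Cfsg.Agent.Lib.Helper55_DihedralCoord.zpowers_le e
  have hcard : Nat.card (centralizer ({t} : Set G)) = 2 * Nat.card (zpowers (R e 1)) := by
    rw [card_D e, card_A e]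
  have hinv : ∀ g ∈ centralizer ({t} : Set G), g ∉ zpowers (R e 1) → ∀ x ∈ zpowers (R e 1),
      ext1 (zpowers (R e 1)) mu (g⁻¹ * x * g) = (ext1 (zpowers (R e 1)) mu x)⁻¹ := by
    intro g hgD hgA x hxA
    rcases cases_mem e hgD with ⟨j, rfl⟩ | ⟨j, rfl⟩
    · exact absurd ((mem_zpowers_iff e _).mpr ⟨j, rfl⟩) hgA
    · obtain ⟨i, rfl⟩ := (mem_zpowers_iff e x).mp hxA
      have h1 : (SR e j)⁻¹ * R e i * SR e j = (R e i)⁻¹ := by
        have h2 := SR_conj_R e j i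
        rw [SR_inv] at h2 ⊢
        exact h2
      rw [h1, ext1_of_mem _ mu (inv_mem hxA), ext1_of_mem _ mu hxA]
      exact hlam.map_inv ⟨R e i, hxA⟩
  have hTI : ∀ g x : G, ext1 (zpowers (R e 1)) mu x ≠ 1 →
      ext1 (zpowers (R e 1)) mu (g⁻¹ * x * g) ≠ 1 → g ∈ centralizer ({t} : Set G) := by
    intro g x hx hgx
    exact mem_of_conj_sq (hsq _ (hX _ hx)) (hsq _ (hX _ hgx)) rfl
  have hreal : ∀ x : ↥(zpowers (R e 1)), mu x * mu x = 1 := by
    intro x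
    obtain ⟨i, rfl⟩ := rA_surjective e x
    rcases hcases i with rfl | rfl | rfl | rfl
    · rw [hmu0]; norm_num
    · rw [hmu1]; norm_num
    · rw [hmu2]; norm_num
    · rw [hmu3]; norm_num
  have hne : mu ≠ (fun _ => (1 : ℂ)) := by
    intro h
    have h1 := congrFun h (rA e 1)
    rw [hmu1] at h1
    norm_num at h1
  obtain ⟨χ₁, χ₂, χ₃, ε₁, ε₂, ε₃, h1, h2, h3, hn1, hn2, hn3, h12, h13, h23, he1, he2, he3, hΘ⟩ :=
    exists_quad (zpowers (R e 1)) (centralizer ({t} : Set G)) mu hlam hCN hcard hinv hTI hreal hne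
  refine ⟨χ₁, χ₂, χ₃, ε₁, ε₂, ε₃, h1, h2, h3, hn1, hn2, hn3, h12, h13, h23, he1, he2, he3,
    ?_, ?_, ?_⟩
  · rw [← hΘ 1]
    exact Theta_one (zpowers (R e 1)) (centralizer ({t} : Set G)) mu hlam hCN hcard hinv hTI
  · rw [← hΘ t]
    apply Theta_eq_zero
    intro y
    by_contra hy
    have h4 := hsq _ (hX _ hy)
    have h5 : y⁻¹ * t * y * (y⁻¹ * t * y) = 1 := by
      have h6 : t * t = 1 := Cfsg.Agent.Lib.Helper4_InvPairs.mul_self_of_orderOf_two ht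
      calc y⁻¹ * t * y * (y⁻¹ * t * y) = y⁻¹ * (t * t) * y := by group
        _ = 1 := by rw [h6]; group
    rw [h5] at h4
    exact Cfsg.Agent.Lib.Helper4_InvPairs.ne_one_of_orderOf_two ht h4.symm
  · rw [← hΘ (R e 1)]
    have hx : ext1 (zpowers (R e 1)) mu (R e 1) ≠ 1 := by
      rw [ext1_of_mem _ mu ((mem_zpowers_iff e _).mpr ⟨1, rfl⟩)]
      have h4 : (⟨R e 1, (mem_zpowers_iff e _).mpr ⟨1, rfl⟩⟩ : ↥(zpowers (R e 1))) = rA e 1 := rfl
      rw [h4, hmu1]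
      norm_num
    rw [Theta_apply_of_ne (zpowers (R e 1)) (centralizer ({t} : Set G)) mu hlam hCN hcard hinv hTI
      _ hx, ext1_of_mem _ mu ((mem_zpowers_iff e _).mpr ⟨1, rfl⟩)]
    have h4 : (⟨R e 1, (mem_zpowers_iff e _).mpr ⟨1, rfl⟩⟩ : ↥(zpowers (R e 1))) = rA e 1 := rfl
    rw [h4, hmu1]
    norm_num

end theta

end Cfsg.Agent.Lib.Helper55_D8Char
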