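import Mathlib
import Cfsg.Prelude.Def_Characters
import Cfsg.Agent.Lib.Helper55_DihedralCoord
import Cfsg.Agent.Lib.Helper55_D8Cent
import Cfsg.Agent.Lib.Helper55_D8Char
import Cfsg.Agent.Lib.Helper55_ColOrth
import Cfsg.Agent.Lib.Helper3_CharColumn
import Cfsg.Agent.Lib.Helper3_CharBridge
import Cfsg.Agent.Lib.Helper4_InvPairs
import Cfsg.Agent.Lib.Helper17_Sylow
import Cfsg.Agent.Lib.Helper79_Linear
import Cfsg.Agent.Lib.Helper3_CharComplete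
import Cfsg.Agent.Lib.Helper55_ExcQuad
import Cfsg.Agent.Lib.Helper55_D8Arith
import Cfsg.Agent.Lib.Helper80_CharBasic
import Cfsg.Agent.S0840

/-!
# Groups whose involution centralizer is dihedral of order 8: character-theoretic data (helper55)
-/

set_option autoImplicit false

namespace Cfsg.Agent.Lib.Helper55_D8Main

open Subgroup DihedralGroup Cfsg.Agent.Lib.Helper55_DihedralCoord Cfsg.Agent.Lib.Helper55_D8Cent
  Cfsg.Agent.Lib.Helper55_D8Char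
open scoped ComplexConjugate

variable {G : Type*} [Group G] {t : G} (e : ↥(centralizer ({t} : Set G)) ≃* DihedralGroup 4)

/-- the number of pairs of conjugates of `t` with product `a` -/
theorem card_pairs [Finite G] (hperf : commutator G = ⊤) (ht : orderOf t = 2) :
    Nat.card {p : G × G // IsConj t p.1 ∧ IsConj t p.2 ∧ p.1 * p.2 = R e 1} = 4 := by
  have hmul : ∀ j : ZMod 4, SR e j * SR e (j + 1) = R e 1 := by
    intro j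
    rw [SR_mul_SR]
    congr 1
    ring
  have hbij : Function.Bijective (fun j : ZMod 4 =>
      (⟨(SR e j, SR e (j + 1)), isConj_SR e hperf ht j, isConj_SR e hperf ht (j + 1), hmul j⟩ :
        {p : G × G // IsConj t p.1 ∧ IsConj t p.2 ∧ p.1 * p.2 = R e 1})) := by
    constructor
    · intro i j hij
      have h1 := congrArg (fun p : {p : G × G // IsConj t p.1 ∧ IsConj t p.2 ∧
        p.1 * p.2 = R e 1} => p.1.1) hij
      exact SR_injective e h1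
    · rintro ⟨⟨u, v⟩, hu, hv, huv⟩
      have hu2 : orderOf u = 2 := by
        rw [Cfsg.Agent.Lib.Helper17_Sylow.orderOf_of_isConj hu]; exact ht
      have hv2 : orderOf v = 2 := by
        rw [Cfsg.Agent.Lib.Helper17_Sylow.orderOf_of_isConj hv]; exact ht
      have hui := Cfsg.Agent.Lib.Helper4_InvPairs.inv_eq_self_of_orderOf_two hu2
      have hvi := Cfsg.Agent.Lib.Helper4_InvPairs.inv_eq_self_of_orderOf_two hv2
      have huu := Cfsg.Agent.Lib.Helper4_InvPairs.mul_self_of_orderOf_two hu2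
      simp only at huv
      have hinv : u * R e 1 * u⁻¹ = (R e 1)⁻¹ := by
        rw [← huv, mul_inv_rev, hui, hvi, ← mul_assoc, huu, one_mul]
      obtain ⟨j, hj⟩ := exists_SR_of_inverts e ht hinv
      refine ⟨j, ?_⟩
      apply Subtype.ext
      have hv' : v = SR e (j + 1) := by
        have : v = u * R e 1 := by
          rw [← huv, ← mul_assoc, huu, one_mul]
        rw [this, hj, SR_mul_R]
      simp only [hj, hv']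
  rw [← Nat.card_eq_of_bijective _ hbij, Nat.card_zmod]

/-- arithmetic data of an irreducible character with value `ε = ±1` at `a` -/
theorem char_data [Finite G] (ht : orderOf t = 2) {χ : G → ℂ} (hχ : Cfsg.IsIrrCharacter G χ)
    (ε : ℤ) (hε : ε = 1 ∨ ε = -1) (ha : (ε : ℂ) * χ (R e 1) = 1) :
    ∃ (d : ℕ) (z : ℤ), 0 < d ∧ χ 1 = (d : ℂ) ∧ χ t = (z : ℂ) ∧ χ (R e 1) = (ε : ℂ) ∧
      (d : ℤ) % 2 = 1 ∧ ((d : ℤ) - z) % 4 = 0 := by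
  classical
  have : Fintype G := Fintype.ofFinite G
  obtain ⟨d, hd0, hd⟩ := Cfsg.Agent.Lib.Helper3_CharColumn.irr_one_eq_natCast hχ
  have hcf := Cfsg.Agent.Lib.Helper3_CharBridge.isClassFunction_of_isIrrCharacter hχ
  have hch := Cfsg.Agent.Lib.Helper3_CharBridge.isCharacter_of_isIrrCharacter hχ
  have ha' : χ (R e 1) = (ε : ℂ) := by
    rcases hε with rfl | rfl
    · simpa using ha
    · have : χ (R e 1) = -1 := by linear_combination -ha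
      simpa using this
  have h3 : χ (R e 3) = χ (R e 1) := by
    have h := hcf (R e 1) (SR e 0)
    rw [SR_conj_R, R_one_inv] at h
    exact h
  have h2 : χ (R e 2) = χ t := by rw [← t_eq e ht]
  obtain ⟨m₁, m₂, m₃, hm₁, hm₂, hm₃⟩ := restrict_mults e hch
  rw [h3, h2, ha', hd] at hm₁ hm₂ hm₃
  refine ⟨d, (d : ℤ) - 4 * m₃, hd0, hd, ?_, ha', ?_, ?_⟩
  · push_cast
    linear_combination hm₃
  · have h4 : ((4 * (m₁ : ℤ) + 4 * m₃ : ℤ) : ℂ) = ((2 * (d : ℤ) + 2 * ε : ℤ) : ℂ) := by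
      push_cast
      linear_combination hm₁ + hm₃
    have h5 : 4 * (m₁ : ℤ) + 4 * m₃ = 2 * (d : ℤ) + 2 * ε := by exact_mod_cast h4
    rcases hε with rfl | rfl <;> omega
  · omega

/-- a nonprincipal irreducible character of a perfect group is not linear -/
theorem deg_ne_one [Finite G] (hperf : commutator G = ⊤) {χ : G → ℂ}
    (hχ : Cfsg.IsIrrCharacter G χ) (hn : χ ≠ (fun _ => (1 : ℂ))) (d : ℕ) (hd : χ 1 = (d : ℂ)) :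
    d ≠ 1 := by
  rintro rfl
  apply hn
  funext k
  have h1 : ((⟨χ, hχ⟩ : Cfsg.IrrCharacter G) : G → ℂ) 1 = 1 := by
    simpa using hd
  have hk : k ∈ commutator G := by rw [hperf]; exact Subgroup.mem_top k
  exact Cfsg.Agent.Lib.Helper79_Linear.linear_commutator ⟨⟨χ, hχ⟩, h1⟩ hk

/-- squares of degrees are at most the group order -/
theorem deg_sq_le [Fintype G] {χ : G → ℂ} (hχ : Cfsg.IsIrrCharacter G χ) (d : ℕ)
    (hd : χ 1 = (d : ℂ)) : d * d ≤ Nat.card G := by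
  classical
  choose deg hdegpos hdeg using fun ψ : Cfsg.IrrCharacter G =>
    Cfsg.Agent.Lib.Helper3_CharColumn.irr_one_eq_natCast ψ.2
  have hsum := Cfsg.Agent.Lib.Helper3_CharColumn.sum_sq_irr_one (G := G)
  have h2 : ((∑ ψ : Cfsg.IrrCharacter G, deg ψ ^ 2 : ℕ) : ℂ) = (Nat.card G : ℂ) := by
    rw [← hsum]
    push_cast
    exact Finset.sum_congr rfl (fun ψ _ => by rw [hdeg ψ])
  have h3 : ∑ ψ : Cfsg.IrrCharacter G, deg ψ ^ 2 = Nat.card G := by exact_mod_cast h2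
  have h4 : deg ⟨χ, hχ⟩ = d := by
    have h := hdeg ⟨χ, hχ⟩
    have h' : χ 1 = (deg ⟨χ, hχ⟩ : ℂ) := h
    rw [hd] at h'
    exact_mod_cast h'.symm
  have h5 := Finset.single_le_sum (f := fun ψ : Cfsg.IrrCharacter G => deg ψ ^ 2)
    (fun _ _ => Nat.zero_le _) (Finset.mem_univ (⟨χ, hχ⟩ : Cfsg.IrrCharacter G))
  simp only [h4] at h5
  rw [h3] at h5
  rw [← pow_two]
  exact h5

open Cfsg.Agent.Lib.Helper3_CharComplete Cfsg.Agent.Lib.Helper55_ExcQuad in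
/-- the class equation for the pairs of conjugates of `t` with product `a` -/
theorem class_eq [Fintype G] (hperf : commutator G = ⊤) (ht : orderOf t = 2)
    {χ₁ χ₂ χ₃ : G → ℂ} (h1 : Cfsg.IsIrrCharacter G χ₁)
    (h2 : Cfsg.IsIrrCharacter G χ₂) (h3 : Cfsg.IsIrrCharacter G χ₃)
    (hn1 : χ₁ ≠ (fun _ => (1 : ℂ))) (hn2 : χ₂ ≠ (fun _ => (1 : ℂ)))
    (hn3 : χ₃ ≠ (fun _ => (1 : ℂ))) (h12 : χ₁ ≠ χ₂) (h13 : χ₁ ≠ χ₃) (h23 : χ₂ ≠ χ₃)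
    (ε₁ ε₂ ε₃ : ℤ) (d₁ d₂ d₃ : ℕ) (z₁ z₂ z₃ : ℤ)
    (hd₁0 : 0 < d₁) (hd₂0 : 0 < d₂) (hd₃0 : 0 < d₃)
    (hd₁ : χ₁ 1 = (d₁ : ℂ)) (hd₂ : χ₂ 1 = (d₂ : ℂ)) (hd₃ : χ₃ 1 = (d₃ : ℂ))
    (hz₁ : χ₁ t = (z₁ : ℂ)) (hz₂ : χ₂ t = (z₂ : ℂ)) (hz₃ : χ₃ t = (z₃ : ℂ))
    (hzz₁ : z₁ * z₁ = 1) (hzz₂ : z₂ * z₂ = 1) (hzz₃ : z₃ * z₃ = 1)
    (ha₁ : χ₁ (R e 1) = (ε₁ : ℂ)) (ha₂ : χ₂ (R e 1) = (ε₂ : ℂ)) (ha₃ : χ₃ (R e 1) = (ε₃ : ℂ))
    (hrest : ∀ ψ : Cfsg.IrrCharacter G, (ψ : G → ℂ) ≠ (fun _ => (1 : ℂ)) → (ψ : G → ℂ) ≠ χ₁ →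
        (ψ : G → ℂ) ≠ χ₂ → (ψ : G → ℂ) ≠ χ₃ → (ψ : G → ℂ) (R e 1) = 0) :
    256 * ((d₁ : ℤ) * d₂ * d₃) = (Nat.card G : ℤ) *
      ((d₁ : ℤ) * d₂ * d₃ + ε₁ * (d₂ * d₃) + ε₂ * (d₁ * d₃) + ε₃ * (d₁ * d₂)) := by
  classical
  have hS := Cfsg.Agent.S0840.result t t (R e 1)
  rw [card_pairs e hperf ht] at hS
  have hK := Cfsg.Agent.Lib.Helper17_Sylow.card_centralizer_mul_card_conj t
  rw [card_D e] at hK
  obtain ⟨K, hKdef⟩ : ∃ K : ℕ, K = Nat.card {x : G // IsConj t x} := ⟨_, rfl⟩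
  rw [← hKdef] at hS hK
  rw [finsum_eq_sum_of_fintype] at hS
  have hone := Cfsg.Agent.Lib.Helper80_CharBasic.isIrrCharacter_one G
  obtain ⟨i₀, hi₀⟩ : ∃ i₀ : Cfsg.IrrCharacter G, i₀ = ⟨fun _ => (1 : ℂ), hone⟩ := ⟨_, rfl⟩
  obtain ⟨ia, hia⟩ : ∃ ia : Cfsg.IrrCharacter G, ia = ⟨χ₁, h1⟩ := ⟨_, rfl⟩
  obtain ⟨ib, hib⟩ : ∃ ib : Cfsg.IrrCharacter G, ib = ⟨χ₂, h2⟩ := ⟨_, rfl⟩
  obtain ⟨ic, hic⟩ : ∃ ic : Cfsg.IrrCharacter G, ic = ⟨χ₃, h3⟩ := ⟨_, rfl⟩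
  have d01 : i₀ ≠ ia := by
    rw [hi₀, hia]; intro h; exact hn1 (congrArg Subtype.val h).symm
  have d02 : i₀ ≠ ib := by
    rw [hi₀, hib]; intro h; exact hn2 (congrArg Subtype.val h).symm
  have d03 : i₀ ≠ ic := by
    rw [hi₀, hic]; intro h; exact hn3 (congrArg Subtype.val h).symm
  have d12 : ia ≠ ib := by
    rw [hia, hib]; intro h; exact h12 (congrArg Subtype.val h)
  have d13 : ia ≠ ic := by
    rw [hia, hic]; intro h; exact h13 (congrArg Subtype.val h)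
  have d23 : ib ≠ ic := by
    rw [hib, hic]; intro h; exact h23 (congrArg Subtype.val h)
  rw [sum_split (fun ψ : Cfsg.IrrCharacter G => (ψ : G → ℂ) t * (ψ : G → ℂ) t *
    conj ((ψ : G → ℂ) (R e 1)) / (ψ : G → ℂ) 1) d01 d02 d03 d12 d13 d23] at hS
  have hrest0 : ∑ ψ ∈ Finset.univ \ four i₀ ia ib ic, (ψ : G → ℂ) t * (ψ : G → ℂ) t *
      conj ((ψ : G → ℂ) (R e 1)) / (ψ : G → ℂ) 1 = 0 := by
    apply Finset.sum_eq_zero
    intro ψ hψ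
    rw [Finset.mem_sdiff, mem_four] at hψ
    have h0 : (ψ : G → ℂ) (R e 1) = 0 := by
      apply hrest ψ
      · intro h; apply hψ.2; left; rw [hi₀]; exact Subtype.ext h
      · intro h; apply hψ.2; right; left; rw [hia]; exact Subtype.ext h
      · intro h; apply hψ.2; right; right; left; rw [hib]; exact Subtype.ext h
      · intro h; apply hψ.2; right; right; right; rw [hic]; exact Subtype.ext h
    rw [h0, map_zero, mul_zero, zero_div]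
  rw [hrest0, add_zero, hi₀, hia, hib, hic] at hS
  simp only [hd₁, hd₂, hd₃, hz₁, hz₂, hz₃, ha₁, ha₂, ha₃, map_intCast, map_one, mul_one,
    div_one] at hS
  have hN : (Nat.card G : ℂ) = 8 * (K : ℂ) := by
    rw [← hK]; push_cast; ring
  have hNpos : 0 < Nat.card G := Nat.card_pos
  have hK0 : (K : ℂ) ≠ 0 := by
    intro h
    have : K = 0 := by exact_mod_cast h
    rw [this] at hK
    omega
  have hd₁' : (d₁ : ℂ) ≠ 0 := by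
    have : d₁ ≠ 0 := by omega
    exact_mod_cast this
  have hd₂' : (d₂ : ℂ) ≠ 0 := by
    have : d₂ ≠ 0 := by omega
    exact_mod_cast this
  have hd₃' : (d₃ : ℂ) ≠ 0 := by
    have : d₃ ≠ 0 := by omega
    exact_mod_cast this
  have hzc₁ : (z₁ : ℂ) * z₁ = 1 := by exact_mod_cast hzz₁
  have hzc₂ : (z₂ : ℂ) * z₂ = 1 := by exact_mod_cast hzz₂
  have hzc₃ : (z₃ : ℂ) * z₃ = 1 := by exact_mod_cast hzz₃
  rw [hzc₁, hzc₂, hzc₃, hN] at hS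
  have hmain : (256 : ℂ) * ((d₁ : ℂ) * d₂ * d₃) = (8 * (K : ℂ)) *
      ((d₁ : ℂ) * d₂ * d₃ + ε₁ * (d₂ * d₃) + ε₂ * (d₁ * d₃) + ε₃ * (d₁ * d₂)) := by
    have h5 : (K : ℂ) * K / (8 * K) = K / 8 := by
      field_simp
    rw [h5] at hS
    field_simp at hS
    linear_combination (8 : ℂ) * hS
  rw [← hN] at hmain
  exact_mod_cast hmain

/-- the arithmetic endgame, symmetric in the three characters -/
theorem endgame_sym (N D₁ D₂ D₃ y₁ y₂ y₃ : ℤ) (h₁ : D₁ ≤ -3 ∨ 3 ≤ D₁) (h₂ : D₂ ≤ -3 ∨ 3 ≤ D₂)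
    (h₃ : D₃ ≤ -3 ∨ 3 ≤ D₃) (hy₁ : y₁ = 1 ∨ y₁ = -1) (hy₂ : y₂ = 1 ∨ y₂ = -1)
    (hy₃ : y₃ = 1 ∨ y₃ = -1) (hy : 1 + y₁ + y₂ + y₃ = 0)
    (hm₁ : (D₁ - y₁) % 4 = 0) (hm₂ : (D₂ - y₂) % 4 = 0) (hm₃ : (D₃ - y₃) % 4 = 0)
    (hsum : D₁ + D₂ + D₃ = -1)
    (heq : 256 * (D₁ * D₂ * D₃) = N * (D₁ * D₂ * D₃ + D₂ * D₃ + D₁ * D₃ + D₁ * D₂))
    (h8 : (8 : ℤ) ∣ N) (hs₁ : D₁ * D₁ ≤ N) (hs₂ : D₂ * D₂ ≤ N) (hs₃ : D₃ * D₃ ≤ N) :
    N = 168 ∨ N = 360 := by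
  rcases hy₁ with rfl | rfl <;> rcases hy₂ with rfl | rfl <;> rcases hy₃ with rfl | rfl
  all_goals first
    | (exfalso; omega)
    | exact Cfsg.Agent.Lib.Helper55_D8Arith.endgame N D₁ D₂ D₃ h₁ h₂ h₃ (by omega) (by omega)
        hsum heq h8 hs₁ hs₂ hs₃
    | exact Cfsg.Agent.Lib.Helper55_D8Arith.endgame N D₂ D₁ D₃ h₂ h₁ h₃ (by omega) (by omega)
        (by omega) (by linear_combination heq) h8 hs₂ hs₁ hs₃
    | exact Cfsg.Agent.Lib.Helper55_D8Arith.endgame N D₃ D₂ D₁ h₃ h₂ h₁ (by omega) (by omega)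
        (by omega) (by linear_combination heq) h8 hs₃ hs₂ hs₁

theorem sq_eq_one_of_odd (z : ℤ) (hodd : z % 2 = 1) (hle : z * z ≤ 5) : z = 1 ∨ z = -1 := by
  have h1 : -2 ≤ z := by nlinarith
  have h2 : z ≤ 2 := by nlinarith
  omega

open Cfsg.Agent.Lib.Helper55_ColOrth

include e in
/-- **Isaacs 7.10**: a perfect group with an involution whose centralizer is dihedral of order
`8` has order `168` or `360`. -/
theorem main [Finite G] (hperf : commutator G = ⊤) (ht : orderOf t = 2) :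
    Nat.card G = 168 ∨ Nat.card G = 360 := by
  classical
  have : Fintype G := Fintype.ofFinite G
  obtain ⟨χ₁, χ₂, χ₃, ε₁, ε₂, ε₃, h1, h2, h3, hn1, hn2, hn3, h12, h13, h23, he1, he2, he3,
    V1, V2, V3⟩ := exists_theta e ht
  obtain ⟨W1, W2, W3, Wrest⟩ := values_of_sum_eq_four h1 h2 h3 hn1 hn2 hn3 h12 h13 h23
    ε₁ ε₂ ε₃ he1 he2 he3 (R e 1) (card_centralizer_R_one e ht) V3
  obtain ⟨d₁, z₁, hd₁0, hd₁, hz₁, ha₁, hodd₁, hmod₁⟩ := char_data e ht h1 ε₁ he1 W1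
  obtain ⟨d₂, z₂, hd₂0, hd₂, hz₂, ha₂, hodd₂, hmod₂⟩ := char_data e ht h2 ε₂ he2 W2
  obtain ⟨d₃, z₃, hd₃0, hd₃, hz₃, ha₃, hodd₃, hmod₃⟩ := char_data e ht h3 ε₃ he3 W3
  have hzle := sum_sq_le h1 h2 h3 hn1 hn2 hn3 h12 h13 h23 t z₁ z₂ z₃ hz₁ hz₂ hz₃
  rw [card_D e] at hzle
  have hzle' : 1 + z₁ * z₁ + z₂ * z₂ + z₃ * z₃ ≤ 8 := by exact_mod_cast hzle
  have hzo₁ : z₁ % 2 = 1 := by omega
  have hzo₂ : z₂ % 2 = 1 := by omega
  have hzo₃ : z₃ % 2 = 1 := by omega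
  have hzp : ∀ z : ℤ, z % 2 = 1 → 1 ≤ z * z := by
    intro z hz
    have : z ≠ 0 := by rintro rfl; simp at hz
    rcases lt_or_gt_of_ne this with h | h <;> nlinarith
  have hp₁ := hzp z₁ hzo₁
  have hp₂ := hzp z₂ hzo₂
  have hp₃ := hzp z₃ hzo₃
  have hzz₁ : z₁ = 1 ∨ z₁ = -1 := sq_eq_one_of_odd z₁ hzo₁ (by linarith)
  have hzz₂ : z₂ = 1 ∨ z₂ = -1 := sq_eq_one_of_odd z₂ hzo₂ (by linarith)
  have hzz₃ : z₃ = 1 ∨ z₃ = -1 := by exact sq_eq_one_of_odd z₃ hzo₃ (by linarith)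
  have hsq₁ : z₁ * z₁ = 1 := by rcases hzz₁ with rfl | rfl <;> norm_num
  have hsq₂ : z₂ * z₂ = 1 := by rcases hzz₂ with rfl | rfl <;> norm_num
  have hsq₃ : z₃ * z₃ = 1 := by rcases hzz₃ with rfl | rfl <;> norm_num
  have heq := class_eq e hperf ht h1 h2 h3 hn1 hn2 hn3 h12 h13 h23 ε₁ ε₂ ε₃ d₁ d₂ d₃ z₁ z₂ z₃
    hd₁0 hd₂0 hd₃0 hd₁ hd₂ hd₃ hz₁ hz₂ hz₃ hsq₁ hsq₂ hsq₃ ha₁ ha₂ ha₃ Wrest
  have hne₁ := deg_ne_one hperf h1 hn1 d₁ hd₁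
  have hne₂ := deg_ne_one hperf h2 hn2 d₂ hd₂
  have hne₃ := deg_ne_one hperf h3 hn3 d₃ hd₃
  have hs₁ := deg_sq_le h1 d₁ hd₁
  have hs₂ := deg_sq_le h2 d₂ hd₂
  have hs₃ := deg_sq_le h3 d₃ hd₃
  have h8 : (8 : ℤ) ∣ (Nat.card G : ℤ) := by
    have := Subgroup.card_subgroup_dvd_card (centralizer ({t} : Set G))
    rw [card_D e] at this
    exact_mod_cast this
  rw [hd₁, hd₂, hd₃] at V1
  rw [hz₁, hz₂, hz₃] at V2
  have V1' : 1 + ε₁ * (d₁ : ℤ) + ε₂ * (d₂ : ℤ) + ε₃ * (d₃ : ℤ) = 0 := by exact_mod_cast V1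
  have V2' : 1 + ε₁ * z₁ + ε₂ * z₂ + ε₃ * z₃ = 0 := by exact_mod_cast V2
  obtain ⟨N, hN⟩ : ∃ N : ℤ, N = (Nat.card G : ℤ) := ⟨_, rfl⟩
  have hs₁' : (d₁ : ℤ) * d₁ ≤ N := by rw [hN]; exact_mod_cast hs₁
  have hs₂' : (d₂ : ℤ) * d₂ ≤ N := by rw [hN]; exact_mod_cast hs₂
  have hs₃' : (d₃ : ℤ) * d₃ ≤ N := by rw [hN]; exact_mod_cast hs₃
  rw [← hN] at heq h8
  have hfin : N = 168 ∨ N = 360 := by
    have hee : ∀ ε : ℤ, (ε = 1 ∨ ε = -1) → ε * ε = 1 := by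
      rintro ε (rfl | rfl) <;> norm_num
    have hdm : ∀ (ε z : ℤ) (d : ℕ), ((d : ℤ) - z) % 4 = 0 → (ε * d - ε * z) % 4 = 0 := by
      intro ε z d h
      have h1 : (4 : ℤ) ∣ (d : ℤ) - z := Int.dvd_of_emod_eq_zero h
      have h2 : (4 : ℤ) ∣ ε * d - ε * z := by
        rw [← mul_sub]; exact Dvd.dvd.mul_left h1 ε
      exact Int.emod_eq_zero_of_dvd h2
    have hD : ∀ (ε : ℤ) (d : ℕ), (ε = 1 ∨ ε = -1) → 0 < d → (d : ℤ) % 2 = 1 → d ≠ 1 →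
        (ε * d ≤ -3 ∨ 3 ≤ ε * (d : ℤ)) := by
      rintro ε d (rfl | rfl) h0 hodd hne <;> omega
    have hy : ∀ ε z : ℤ, (ε = 1 ∨ ε = -1) → (z = 1 ∨ z = -1) → (ε * z = 1 ∨ ε * z = -1) := by
      rintro ε z (rfl | rfl) (rfl | rfl) <;> norm_num
    have e1 := hee ε₁ he1
    have e2 := hee ε₂ he2
    have e3 := hee ε₃ he3
    apply endgame_sym N (ε₁ * d₁) (ε₂ * d₂) (ε₃ * d₃) (ε₁ * z₁) (ε₂ * z₂) (ε₃ * z₃)
      (hD ε₁ d₁ he1 hd₁0 hodd₁ hne₁) (hD ε₂ d₂ he2 hd₂0 hodd₂ hne₂) (hD ε₃ d₃ he3 hd₃0 hodd₃ hne₃)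
      (hy ε₁ z₁ he1 hzz₁) (hy ε₂ z₂ he2 hzz₂) (hy ε₃ z₃ he3 hzz₃) (by linarith)
      (hdm ε₁ z₁ d₁ hmod₁) (hdm ε₂ z₂ d₂ hmod₂) (hdm ε₃ z₃ d₃ hmod₃) (by linarith)
    · -- the class equation in terms of the signed degrees
      linear_combination (ε₁ * ε₂ * ε₃) * heq + (N * ε₂ * ε₃ * d₂ * d₃) * e1
        + (N * ε₁ * ε₃ * d₁ * d₃) * e2 + (N * ε₁ * ε₂ * d₁ * d₂) * e3
    · exact h8
    · calc ε₁ * ↑d₁ * (ε₁ * ↑d₁) = (ε₁ * ε₁) * ((d₁ : ℤ) * d₁) := by ring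
        _ = (d₁ : ℤ) * d₁ := by rw [e1, one_mul]
        _ ≤ N := hs₁'
    · calc ε₂ * ↑d₂ * (ε₂ * ↑d₂) = (ε₂ * ε₂) * ((d₂ : ℤ) * d₂) := by ring
        _ = (d₂ : ℤ) * d₂ := by rw [e2, one_mul]
        _ ≤ N := hs₂'
    · calc ε₃ * ↑d₃ * (ε₃ * ↑d₃) = (ε₃ * ε₃) * ((d₃ : ℤ) * d₃) := by ring
        _ = (d₃ : ℤ) * d₃ := by rw [e3, one_mul]
        _ ≤ N := hs₃'
  rcases hfin with h | h
  · left; rw [hN] at h; exact_mod_cast h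
  · right; rw [hN] at h; exact_mod_cast h

end Cfsg.Agent.Lib.Helper55_D8Main
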