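import Mathlib
import Cfsg.Prelude.Def_Characters
import Cfsg.Agent.Lib.Helper55_DihedralCoord
import Cfsg.Agent.Lib.Helper55_D8Cent
import Cfsg.Agent.Lib.Helper55_D8Char
import Cfsg.Agent.Lib.Helper55_ColOrth
import Cfsg.Agent.Lib.Helper55_ColOrth2
import Cfsg.Agent.Lib.Helper55_D8Main
import Cfsg.Agent.Lib.Helper55_D8Arith2
import Cfsg.Agent.Lib.Helper3_CharColumn
import Cfsg.Agent.Lib.Helper3_CharBridge

/-!
# Dihedral involution centralizer of order 8, the case `|G| = 360` (helper55)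

Every nonprincipal irreducible character of a perfect group `G` of order `360` with an involution
`t` such that `C_G(t)` is dihedral of order `8` vanishes at `t` or has degree divisible by `5`
or `9` (the degrees are `5, 5, 8, 8, 9, 10`, and the characters of degree `8` vanish at `t`).
-/

set_option autoImplicit false

namespace Cfsg.Agent.Lib.Helper55_D8Char360

open Subgroup DihedralGroup Cfsg.Agent.Lib.Helper55_DihedralCoord Cfsg.Agent.Lib.Helper55_D8Cent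
  Cfsg.Agent.Lib.Helper55_D8Char Cfsg.Agent.Lib.Helper55_D8Main Cfsg.Agent.Lib.Helper55_ColOrth
  Cfsg.Agent.Lib.Helper55_ColOrth2
open scoped ComplexConjugate

variable {G : Type*} [Group G] {t : G} (e : ↥(centralizer ({t} : Set G)) ≃* DihedralGroup 4)

/-- arithmetic data of an irreducible character vanishing at `a` -/
theorem char_data0 [Finite G] (ht : orderOf t = 2) {χ : G → ℂ} (hχ : Cfsg.IsIrrCharacter G χ)
    (ha : χ (R e 1) = 0) :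
    ∃ (d : ℕ) (z : ℤ), 0 < d ∧ χ 1 = (d : ℂ) ∧ χ t = (z : ℂ) ∧
      (d : ℤ) % 2 = 0 ∧ ((d : ℤ) - z) % 4 = 0 := by
  classical
  have : Fintype G := Fintype.ofFinite G
  obtain ⟨d, hd0, hd⟩ := Cfsg.Agent.Lib.Helper3_CharColumn.irr_one_eq_natCast hχ
  have hcf := Cfsg.Agent.Lib.Helper3_CharBridge.isClassFunction_of_isIrrCharacter hχ
  have hch := Cfsg.Agent.Lib.Helper3_CharBridge.isCharacter_of_isIrrCharacter hχ
  have h3 : χ (R e 3) = χ (R e 1) := by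
    have h := hcf (R e 1) (SR e 0)
    rw [SR_conj_R, R_one_inv] at h
    exact h
  have h2 : χ (R e 2) = χ t := by rw [← t_eq e ht]
  obtain ⟨m₁, m₂, m₃, hm₁, hm₂, hm₃⟩ := restrict_mults e hch
  rw [h3, h2, ha, hd] at hm₁ hm₂ hm₃
  refine ⟨d, (d : ℤ) - 4 * m₃, hd0, hd, ?_, ?_, ?_⟩
  · push_cast
    linear_combination hm₃
  · have h4 : ((4 * (m₁ : ℤ) + 4 * m₃ : ℤ) : ℂ) = ((2 * (d : ℤ) : ℤ) : ℂ) := by
      push_cast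
      linear_combination hm₁ + hm₃
    have h5 : 4 * (m₁ : ℤ) + 4 * m₃ = 2 * (d : ℤ) := by exact_mod_cast h4
    omega
  · omega

/-- the element `t` is not conjugate to `1` -/
theorem not_isConj_one (ht : orderOf t = 2) : ¬ IsConj (1 : G) t := by
  intro h
  have h1 : t = 1 := isConj_one_right.mp h
  rw [h1, orderOf_one] at ht
  omega

include e in
/-- In the case `|G| = 360`, every nonprincipal irreducible character vanishes at `t` or has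
degree divisible by `5` or by `9`. -/
theorem vanish_or_dvd [Finite G] (hperf : commutator G = ⊤) (ht : orderOf t = 2)
    (hcard : Nat.card G = 360) {χ : G → ℂ} (hχ : Cfsg.IsIrrCharacter G χ)
    (hn : χ ≠ (fun _ => (1 : ℂ))) :
    χ t = 0 ∨ ∃ d : ℕ, χ 1 = (d : ℂ) ∧ (5 ∣ d ∨ 9 ∣ d) := by
  classical
  have : Fintype G := Fintype.ofFinite G
  obtain ⟨χ₁, χ₂, χ₃, ε₁, ε₂, ε₃, h1, h2, h3, hn1, hn2, hn3, h12, h13, h23, he1, he2, he3,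
    V1, V2, V3⟩ := exists_theta e ht
  obtain ⟨W1, W2, W3, Wrest⟩ := values_of_sum_eq_four h1 h2 h3 hn1 hn2 hn3 h12 h13 h23
    ε₁ ε₂ ε₃ he1 he2 he3 (R e 1) (card_centralizer_R_one e ht) V3
  obtain ⟨d₁, z₁, hd₁0, hd₁, hz₁, ha₁, hodd₁, hmod₁⟩ := char_data e ht h1 ε₁ he1 W1
  obtain ⟨d₂, z₂, hd₂0, hd₂, hz₂, ha₂, hodd₂, hmod₂⟩ := char_data e ht h2 ε₂ he2 W2
  obtain ⟨d₃, z₃, hd₃0, hd₃, hz₃, ha₃, hodd₃, hmod₃⟩ := char_data e ht h3 ε₃ he3 W3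
  have hzle := sum_sq_le h1 h2 h3 hn1 hn2 hn3 h12 h13 h23 t z₁ z₂ z₃ hz₁ hz₂ hz₃
  rw [card_D e] at hzle
  have hzle' : 1 + z₁ * z₁ + z₂ * z₂ + z₃ * z₃ ≤ 8 := by exact_mod_cast hzle
  have hzo₁ : z₁ % 2 = 1 := by omega
  have hzo₂ : z₂ % 2 = 1 := by omega
  have hzo₃ : z₃ % 2 = 1 := by omega
  have hzp : ∀ z : ℤ, z % 2 = 1 → 1 ≤ z * z := by
    intro z hz
    have : z ≠ 0 := by rintro rfl; simp at hz
    rcases lt_or_gt_of_ne this with h | h <;> nlinarith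
  have hp₁ := hzp z₁ hzo₁
  have hp₂ := hzp z₂ hzo₂
  have hp₃ := hzp z₃ hzo₃
  have hzz₁ : z₁ = 1 ∨ z₁ = -1 := sq_eq_one_of_odd z₁ hzo₁ (by linarith)
  have hzz₂ : z₂ = 1 ∨ z₂ = -1 := sq_eq_one_of_odd z₂ hzo₂ (by linarith)
  have hzz₃ : z₃ = 1 ∨ z₃ = -1 := by exact sq_eq_one_of_odd z₃ hzo₃ (by linarith)
  have hsq₁ : z₁ * z₁ = 1 := by rcases hzz₁ with rfl | rfl <;> norm_num
  have hsq₂ : z₂ * z₂ = 1 := by rcases hzz₂ with rfl | rfl <;> norm_num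
  have hsq₃ : z₃ * z₃ = 1 := by rcases hzz₃ with rfl | rfl <;> norm_num
  have heq := class_eq e hperf ht h1 h2 h3 hn1 hn2 hn3 h12 h13 h23 ε₁ ε₂ ε₃ d₁ d₂ d₃ z₁ z₂ z₃
    hd₁0 hd₂0 hd₃0 hd₁ hd₂ hd₃ hz₁ hz₂ hz₃ hsq₁ hsq₂ hsq₃ ha₁ ha₂ ha₃ Wrest
  have hne₁ := deg_ne_one hperf h1 hn1 d₁ hd₁
  have hne₂ := deg_ne_one hperf h2 hn2 d₂ hd₂
  have hne₃ := deg_ne_one hperf h3 hn3 d₃ hd₃
  have hs₁ := deg_sq_le h1 d₁ hd₁
  have hs₂ := deg_sq_le h2 d₂ hd₂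
  have hs₃ := deg_sq_le h3 d₃ hd₃
  have h8 : (8 : ℤ) ∣ (Nat.card G : ℤ) := by
    have := Subgroup.card_subgroup_dvd_card (centralizer ({t} : Set G))
    rw [card_D e] at this
    exact_mod_cast this
  have V1c := V1
  have V2c := V2
  rw [hd₁, hd₂, hd₃] at V1c
  rw [hz₁, hz₂, hz₃] at V2c
  have V1' : 1 + ε₁ * (d₁ : ℤ) + ε₂ * (d₂ : ℤ) + ε₃ * (d₃ : ℤ) = 0 := by exact_mod_cast V1c
  have V2' : 1 + ε₁ * z₁ + ε₂ * z₂ + ε₃ * z₃ = 0 := by exact_mod_cast V2c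
  obtain ⟨N, hN⟩ : ∃ N : ℤ, N = (Nat.card G : ℤ) := ⟨_, rfl⟩
  have hN360 : N = 360 := by rw [hN, hcard]; norm_num
  have hs₁' : (d₁ : ℤ) * d₁ ≤ N := by rw [hN]; exact_mod_cast hs₁
  have hs₂' : (d₂ : ℤ) * d₂ ≤ N := by rw [hN]; exact_mod_cast hs₂
  have hs₃' : (d₃ : ℤ) * d₃ ≤ N := by rw [hN]; exact_mod_cast hs₃
  rw [← hN] at heq h8
  have hvals : (ε₁ * d₁ = 9 ∨ ε₁ * (d₁ : ℤ) = -5) ∧ (ε₂ * d₂ = 9 ∨ ε₂ * (d₂ : ℤ) = -5) ∧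
      (ε₃ * d₃ = 9 ∨ ε₃ * (d₃ : ℤ) = -5) := by
    have hee : ∀ ε : ℤ, (ε = 1 ∨ ε = -1) → ε * ε = 1 := by
      rintro ε (rfl | rfl) <;> norm_num
    have hdm : ∀ (ε z : ℤ) (d : ℕ), ((d : ℤ) - z) % 4 = 0 → (ε * d - ε * z) % 4 = 0 := by
      intro ε z d h
      have h1 : (4 : ℤ) ∣ (d : ℤ) - z := Int.dvd_of_emod_eq_zero h
      have h2 : (4 : ℤ) ∣ ε * d - ε * z := by
        rw [← mul_sub]; exact Dvd.dvd.mul_left h1 ε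
      exact Int.emod_eq_zero_of_dvd h2
    have hD : ∀ (ε : ℤ) (d : ℕ), (ε = 1 ∨ ε = -1) → 0 < d → (d : ℤ) % 2 = 1 → d ≠ 1 →
        (ε * d ≤ -3 ∨ 3 ≤ ε * (d : ℤ)) := by
      rintro ε d (rfl | rfl) h0 hodd hne <;> omega
    have hy : ∀ ε z : ℤ, (ε = 1 ∨ ε = -1) → (z = 1 ∨ z = -1) → (ε * z = 1 ∨ ε * z = -1) := by
      rintro ε z (rfl | rfl) (rfl | rfl) <;> norm_num
    have e1 := hee ε₁ he1
    have e2 := hee ε₂ he2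
    have e3 := hee ε₃ he3
    apply Cfsg.Agent.Lib.Helper55_D8Arith2.values_sym N (ε₁ * d₁) (ε₂ * d₂) (ε₃ * d₃)
      (ε₁ * z₁) (ε₂ * z₂) (ε₃ * z₃)
      (hD ε₁ d₁ he1 hd₁0 hodd₁ hne₁) (hD ε₂ d₂ he2 hd₂0 hodd₂ hne₂) (hD ε₃ d₃ he3 hd₃0 hodd₃ hne₃)
      (hy ε₁ z₁ he1 hzz₁) (hy ε₂ z₂ he2 hzz₂) (hy ε₃ z₃ he3 hzz₃) (by linarith)
      (hdm ε₁ z₁ d₁ hmod₁) (hdm ε₂ z₂ d₂ hmod₂) (hdm ε₃ z₃ d₃ hmod₃) (by linarith)
    · linear_combination (ε₁ * ε₂ * ε₃) * heq + (N * ε₂ * ε₃ * d₂ * d₃) * e1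
        + (N * ε₁ * ε₃ * d₁ * d₃) * e2 + (N * ε₁ * ε₂ * d₁ * d₂) * e3
    · exact h8
    · calc ε₁ * ↑d₁ * (ε₁ * ↑d₁) = (ε₁ * ε₁) * ((d₁ : ℤ) * d₁) := by ring
        _ = (d₁ : ℤ) * d₁ := by rw [e1, one_mul]
        _ ≤ N := hs₁'
    · calc ε₂ * ↑d₂ * (ε₂ * ↑d₂) = (ε₂ * ε₂) * ((d₂ : ℤ) * d₂) := by ring
        _ = (d₂ : ℤ) * d₂ := by rw [e2, one_mul]
        _ ≤ N := hs₂'
    · calc ε₃ * ↑d₃ * (ε₃ * ↑d₃) = (ε₃ * ε₃) * ((d₃ : ℤ) * d₃) := by ring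
        _ = (d₃ : ℤ) * d₃ := by rw [e3, one_mul]
        _ ≤ N := hs₃'
    · exact hN360
  -- the degrees and the values at `t` of the three special characters
  have key : (z₁ = 1 ∧ z₂ = 1 ∧ z₃ = 1) ∧ (d₁ : ℤ) + d₂ + d₃ = 19 ∧
      (d₁ = 9 ∨ d₁ = 5) ∧ (d₂ = 9 ∨ d₂ = 5) ∧ (d₃ = 9 ∨ d₃ = 5) := by
    obtain ⟨hv₁, hv₂, hv₃⟩ := hvals
    rcases he1 with rfl | rfl <;> rcases he2 with rfl | rfl <;> rcases he3 with rfl | rfl <;>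
      omega
  obtain ⟨⟨rfl, rfl, rfl⟩, hdsum, hdd₁, hdd₂, hdd₃⟩ := key
  by_cases hc1 : χ = χ₁
  · right
    refine ⟨d₁, by rw [hc1]; exact hd₁, ?_⟩
    rcases hdd₁ with h | h <;> rw [h] <;> norm_num
  by_cases hc2 : χ = χ₂
  · right
    refine ⟨d₂, by rw [hc2]; exact hd₂, ?_⟩
    rcases hdd₂ with h | h <;> rw [h] <;> norm_num
  by_cases hc3 : χ = χ₃
  · right
    refine ⟨d₃, by rw [hc3]; exact hd₃, ?_⟩
    rcases hdd₃ with h | h <;> rw [h] <;> norm_num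
  have hχa : χ (R e 1) = 0 := Wrest ⟨χ, hχ⟩ hn hc1 hc2 hc3
  obtain ⟨d, z, hd0, hd, hz, heven, hmod⟩ := char_data0 e ht hχ hχa
  obtain ⟨hle, hsat⟩ := five_sums h1 h2 h3 hχ hn1 hn2 hn3 h12 h13 h23 hn hc1 hc2 hc3 t
    (not_isConj_one ht) d₁ d₂ d₃ d 1 1 1 z hd₁ hd₂ hd₃ hd hz₁ hz₂ hz₃ hz
  rw [card_D e] at hle hsat
  have hle' : z * z ≤ 4 := by
    have : (1 : ℤ) + 1 * 1 + 1 * 1 + 1 * 1 + z * z ≤ 8 := by exact_mod_cast hle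
    linarith
  have hz2 : -2 ≤ z ∧ z ≤ 2 := by constructor <;> nlinarith
  have hzeven : z % 2 = 0 := by omega
  have hzcases : z = 0 ∨ z = 2 ∨ z = -2 := by omega
  rcases hzcases with rfl | rfl | rfl
  · left
    rw [hz]; norm_num
  · exfalso
    have h5 := hsat (by norm_num)
    omega
  · right
    have h5 := hsat (by norm_num)
    refine ⟨d, hd, Or.inl ?_⟩
    omega

end Cfsg.Agent.Lib.Helper55_D8Char360
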