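import Mathlib
import Cfsg.Prelude.Def_Characters
import Cfsg.Prelude.Def_Blocks
import Cfsg.Agent.Lib.Helper55_DihedralCoord
import Cfsg.Agent.Lib.Helper55_D8Char360
import Cfsg.Agent.Lib.Helper17_Sylow
import Cfsg.Agent.Lib.Helper79_CharVals
import Cfsg.Agent.Lib.Helper80_CharBasic
import Cfsg.Agent.S0840
import Cfsg.Agent.S4478

/-!
# Dihedral involution centralizer of order 8, the case `|G| = 360`: generators (helper55)

A perfect group `G` of order `360` with an involution `t` such that `C_G(t)` is dihedral of order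
`8` contains elements `g₀` of order `3` and `g₁` of order `5` such that `g₀ g₁` is an involution:
the class multiplication coefficient of the classes of elements of orders `3`, `2`, `5` is not
zero, since every nonprincipal irreducible character vanishes on one of the three classes.
-/

set_option autoImplicit false

namespace Cfsg.Agent.Lib.Helper55_D8Gen360

open Subgroup DihedralGroup Cfsg.Agent.Lib.Helper55_D8Char360
open scoped ComplexConjugate

variable {G : Type*} [Group G] {t : G} (e : ↥(centralizer ({t} : Set G)) ≃* DihedralGroup 4)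

theorem factorization_360_five : (360 : ℕ).factorization 5 = 1 := by
  have h : (360 : ℕ) = 5 ^ 1 * 72 := by norm_num
  rw [h, Nat.factorization_mul (by norm_num) (by norm_num),
    Nat.Prime.factorization_pow (by norm_num)]
  simp
  apply Nat.factorization_eq_zero_of_not_dvd
  norm_num

theorem factorization_360_three : (360 : ℕ).factorization 3 = 2 := by
  have h : (360 : ℕ) = 3 ^ 2 * 40 := by norm_num
  rw [h, Nat.factorization_mul (by norm_num) (by norm_num),
    Nat.Prime.factorization_pow (by norm_num)]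
  simp
  apply Nat.factorization_eq_zero_of_not_dvd
  norm_num

include e in
/-- the class multiplication sum for elements of orders `3`, `2`, `5` -/
theorem sum_eq_one [Finite G] (hperf : commutator G = ⊤) (ht : orderOf t = 2)
    (hcard : Nat.card G = 360) (x y : G) (hx : orderOf x = 3) (hy : orderOf y = 5) :
    ∑ᶠ χ : Cfsg.IrrCharacter G, (χ : G → ℂ) x * (χ : G → ℂ) t * conj ((χ : G → ℂ) y) /
      (χ : G → ℂ) 1 = 1 := by
  classical
  have : Fintype G := Fintype.ofFinite G
  rw [finsum_eq_sum_of_fintype]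
  have hone := Cfsg.Agent.Lib.Helper80_CharBasic.isIrrCharacter_one G
  obtain ⟨i₀, hi₀⟩ : ∃ i₀ : Cfsg.IrrCharacter G, i₀ = ⟨fun _ => (1 : ℂ), hone⟩ := ⟨_, rfl⟩
  rw [Finset.sum_eq_single i₀]
  · rw [hi₀]
    simp
  · intro χ _ hχ
    have hn : (χ : G → ℂ) ≠ (fun _ => (1 : ℂ)) := by
      intro h
      apply hχ
      rw [hi₀]
      exact Subtype.ext h
    rcases vanish_or_dvd e hperf ht hcard χ.2 hn with h | ⟨d, hd, h5 | h9⟩
    · rw [h, mul_zero, zero_mul, zero_div]
    · have hdeg : Cfsg.charDegree (χ : G → ℂ) = d :=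
        Cfsg.Agent.Lib.Helper79_CharVals.charDegree_of_eq_natCast hd
      have h0 : (χ : G → ℂ) y = 0 := by
        apply Cfsg.Agent.S4478.vanish χ 5 (by norm_num) _ y (by rw [hy])
        rw [hcard, factorization_360_five, hdeg]
        simpa using h5
      rw [h0, map_zero, mul_zero, zero_div]
    · have hdeg : Cfsg.charDegree (χ : G → ℂ) = d :=
        Cfsg.Agent.Lib.Helper79_CharVals.charDegree_of_eq_natCast hd
      have h0 : (χ : G → ℂ) x = 0 := by
        apply Cfsg.Agent.S4478.vanish χ 3 (by norm_num) _ x (by rw [hx])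
        rw [hcard, factorization_360_three, hdeg]
        simpa using h9
      rw [h0, zero_mul, zero_mul, zero_div]
  · intro h
    exact absurd (Finset.mem_univ _) h

include e in
/-- generators satisfying the relations of `A₅` -/
theorem exists_gens [Finite G] (hperf : commutator G = ⊤) (ht : orderOf t = 2)
    (hcard : Nat.card G = 360) :
    ∃ g₀ g₁ : G, g₀ ^ 3 = 1 ∧ g₁ ^ 5 = 1 ∧ (g₀ * g₁) ^ 2 = 1 ∧ g₁ ≠ 1 := by
  classical
  haveI : Fact (Nat.Prime 3) := ⟨by norm_num⟩
  haveI : Fact (Nat.Prime 5) := ⟨by norm_num⟩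
  obtain ⟨x, hx⟩ := exists_prime_orderOf_dvd_card' (G := G) 3 (by rw [hcard]; norm_num)
  obtain ⟨y, hy⟩ := exists_prime_orderOf_dvd_card' (G := G) 5 (by rw [hcard]; norm_num)
  have hS := Cfsg.Agent.S0840.result x t y
  rw [sum_eq_one e hperf ht hcard x y hx hy, mul_one] at hS
  have hpos : ∀ g : G, (Nat.card {u : G // IsConj g u} : ℂ) ≠ 0 := by
    intro g
    have : Nonempty {u : G // IsConj g u} := ⟨⟨g, IsConj.refl g⟩⟩
    have h := Nat.card_pos (α := {u : G // IsConj g u})
    exact_mod_cast h.ne'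
  have hGpos : (Nat.card G : ℂ) ≠ 0 := by
    have h := Nat.card_pos (α := G)
    exact_mod_cast h.ne'
  have hne : (Nat.card {p : G × G // IsConj x p.1 ∧ IsConj t p.2 ∧ p.1 * p.2 = y} : ℂ) ≠ 0 := by
    rw [hS]
    exact div_ne_zero (mul_ne_zero (hpos x) (hpos t)) hGpos
  have hne' : Nat.card {p : G × G // IsConj x p.1 ∧ IsConj t p.2 ∧ p.1 * p.2 = y} ≠ 0 := by
    intro h
    apply hne
    rw [h]
    simp
  obtain ⟨⟨⟨u, v⟩, hu, hv, huv⟩⟩ := (Nat.card_ne_zero.mp hne').1
  simp only at hu hv huv
  have hu3 : orderOf u = 3 := by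
    rw [Cfsg.Agent.Lib.Helper17_Sylow.orderOf_of_isConj hu]; exact hx
  have hv2 : orderOf v = 2 := by
    rw [Cfsg.Agent.Lib.Helper17_Sylow.orderOf_of_isConj hv]; exact ht
  refine ⟨u⁻¹, y, ?_, ?_, ?_, ?_⟩
  · rw [inv_pow, ← hu3, pow_orderOf_eq_one, inv_one]
  · rw [← hy, pow_orderOf_eq_one]
  · rw [← huv, inv_mul_cancel_left, ← hv2, pow_orderOf_eq_one]
  · intro h
    rw [h, orderOf_one] at hy
    omega

end Cfsg.Agent.Lib.Helper55_D8Gen360
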