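import Mathlib
import Cfsg.Agent.Lib.Helper55_DihedralCoord
import Cfsg.Agent.Lib.Helper55_D8Cent
import Cfsg.Agent.Lib.Helper55_Transfer
import Cfsg.Agent.Lib.Helper4_InvPairs
import Cfsg.Agent.Lib.Helper17_Sylow
import Cfsg.Agent.S0739

/-!
# A group without subgroups of index 2 in which an involution has a dihedral centralizer of
order 8 is simple (helper55)
-/

set_option autoImplicit false

namespace Cfsg.Agent.Lib.Helper55_D8Simple

open Subgroup DihedralGroup Cfsg.Agent.Lib.Helper55_DihedralCoord Cfsg.Agent.Lib.Helper55_D8Cent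
  Cfsg.Agent.Lib.Helper4_InvPairs

variable {G : Type*} [Group G] {t : G} (e : ↥(centralizer ({t} : Set G)) ≃* DihedralGroup 4)
variable [Finite G]

/-- without subgroups of index `2`, every reflection of `D` is conjugate to `t` -/
theorem isConj_SR' (hG : ∀ H : Subgroup G, H.index ≠ 2) (ht : orderOf t = 2) (i : ZMod 4) :
    IsConj t (SR e i) := by
  by_contra hcon
  have hNe : NeZero 4 := ⟨by norm_num⟩
  obtain ⟨S, hSD⟩ := exists_sylow e ht
  have hQT : zpowers (R e 1) ≤ (S : Subgroup G) := by rw [hSD]; exact zpowers_le e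
  have hQi : (zpowers (R e 1)).relIndex (S : Subgroup G) = 2 := by
    rw [hSD]; exact relIndex_zpowers e
  obtain ⟨M, hM2, -⟩ := Cfsg.Agent.Lib.Helper55_Transfer.exists_index_two_of_nonextremal S
    (zpowers (R e 1)) hQT hQi (SR e i) (orderOf_SR e i) (by
      intro y hy hc
      exfalso
      apply hcon
      obtain ⟨j, rfl⟩ := (mem_zpowers_iff e y).mp hy
      have ho : orderOf (R e j) = 2 := by
        rw [Helper17_Sylow.orderOf_of_isConj hc]; exact orderOf_SR e i
      have h1 := mul_self_of_orderOf_two ho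
      have h2 := ne_one_of_orderOf_two ho
      rw [R_mul_R, ← R_zero e] at h1
      have h3 := R_injective e h1
      have h4 : j = 2 := by
        apply zmod4_e j h3
        intro h; apply h2; rw [h, R_zero]
      rw [h4] at hc
      have h5 : R e 2 = t := (t_eq e ht).symm
      rw [h5] at hc
      exact hc.symm)
  exact hG M hM2

include e in
/-- every involution of `G` is conjugate to `t` -/
theorem isConj_of_orderOf_two (hG : ∀ H : Subgroup G, H.index ≠ 2) (ht : orderOf t = 2)
    {u : G} (hu : orderOf u = 2) : IsConj t u := by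
  have : Fact (Nat.Prime 2) := ⟨Nat.prime_two⟩
  obtain ⟨S, hSD⟩ := exists_sylow e ht
  -- `u` lies in a conjugate of `S`
  have hu2 : IsPGroup 2 (zpowers u) := by
    apply IsPGroup.of_card (n := 1)
    rw [Nat.card_zpowers, hu]; norm_num
  obtain ⟨S', hS'⟩ := hu2.exists_le_sylow
  obtain ⟨g, hg⟩ := MulAction.exists_smul_eq G S' S
  have huS' : u ∈ (S' : Subgroup G) := hS' (mem_zpowers u)
  have hguS : g * u * g⁻¹ ∈ (S : Subgroup G) := by
    rw [← hg, Sylow.coe_subgroup_smul, Subgroup.mem_pointwise_smul_iff_inv_smul_mem]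
    simp only [MulAut.smul_def, MulAut.conj_inv_apply]
    rw [show g⁻¹ * (g * u * g⁻¹) * g = u by group]
    exact huS'
  rw [hSD] at hguS
  have ho : orderOf (g * u * g⁻¹) = 2 := by
    rw [show g * u * g⁻¹ = MulAut.conj g u from rfl, MulEquiv.orderOf_eq]; exact hu
  have hconj : IsConj (g * u * g⁻¹) u := by
    rw [isConj_comm, isConj_iff]; exact ⟨g, rfl⟩
  refine IsConj.trans ?_ hconj
  rcases cases_mem e hguS with ⟨j, hj⟩ | ⟨j, hj⟩
  · rw [hj] at ho ⊢
    have h1 := mul_self_of_orderOf_two ho
    have h2 := ne_one_of_orderOf_two ho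
    rw [R_mul_R, ← R_zero e] at h1
    have h3 := R_injective e h1
    have h4 : j = 2 := by
      apply zmod4_e j h3
      intro h; apply h2; rw [h, R_zero]
    rw [h4, ← t_eq e ht]
  · rw [hj]; exact isConj_SR' e hG ht j

include e in
/-- the normalizer of `D` is `D` -/
theorem normalizer_le (ht : orderOf t = 2) :
    normalizer ((centralizer ({t} : Set G) : Subgroup G) : Set G) ≤ centralizer ({t} : Set G) := by
  intro g hg
  rw [Subgroup.mem_normalizer_iff] at hg
  have htD : t ∈ centralizer ({t} : Set G) := t_mem e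
  have h1 : g * t * g⁻¹ ∈ centralizer ({t} : Set G) := (hg t).mp htD
  -- `g t g⁻¹` is central in `D`
  have hc : ∀ d ∈ centralizer ({t} : Set G), (g * t * g⁻¹) * d = d * (g * t * g⁻¹) := by
    intro d hd
    have hd' : g⁻¹ * d * g ∈ centralizer ({t} : Set G) := by
      have := (hg (g⁻¹ * d * g)).mpr (by
        rw [show g * (g⁻¹ * d * g) * g⁻¹ = d by group]; exact hd)
      exact this
    have h2 := (mem_cent_iff (g⁻¹ * d * g)).mp hd'
    calc g * t * g⁻¹ * d = g * (t * (g⁻¹ * d * g)) * g⁻¹ := by group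
      _ = g * ((g⁻¹ * d * g) * t) * g⁻¹ := by rw [h2]
      _ = d * (g * t * g⁻¹) := by group
  rcases central_cases e h1 (hc _ (R_mem e 1)) (hc _ (SR_mem e 0)) with h | h
  · exfalso
    have : t = 1 := by
      have h3 : g⁻¹ * (g * t * g⁻¹) * g = g⁻¹ * 1 * g := by rw [h]
      rw [show g⁻¹ * (g * t * g⁻¹) * g = t by group] at h3
      rw [h3]; group
    exact ne_one_of_orderOf_two ht this
  · rw [← t_eq e ht] at h
    rw [mem_cent_iff]
    have h3 : g * t = t * g := by
      calc g * t = (g * t * g⁻¹) * g := by group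
        _ = t * g := by rw [h]
    exact h3

include e in
/-- **simplicity** -/
theorem isSimpleGroup (hG : ∀ H : Subgroup G, H.index ≠ 2) (ht : orderOf t = 2) :
    IsSimpleGroup G := by
  have : Fact (Nat.Prime 2) := ⟨Nat.prime_two⟩
  have hnt : Nontrivial G := ⟨⟨t, 1, ne_one_of_orderOf_two ht⟩⟩
  refine ⟨fun M hM => ?_⟩
  by_cases htM : t ∈ M
  · -- `M` contains `D`, hence is everything by the Frattini argument
    right
    have hSRM : ∀ i, SR e i ∈ M := by
      intro i
      obtain ⟨c, hc⟩ := isConj_iff.mp (isConj_SR' e hG ht i)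
      rw [← hc]
      exact hM.conj_mem t htM c
    have hRM : ∀ i, R e i ∈ M := by
      intro i
      have h := M.mul_mem (hSRM 0) (hSRM i)
      rw [SR_mul_SR, sub_zero] at h
      exact h
    have hDM : centralizer ({t} : Set G) ≤ M := by
      intro x hx
      rcases cases_mem e hx with ⟨i, rfl⟩ | ⟨i, rfl⟩
      · exact hRM i
      · exact hSRM i
    obtain ⟨S, hSD⟩ := exists_sylow e ht
    have hSM : (S : Subgroup G) ≤ M := by rw [hSD]; exact hDM
    have hfr := Sylow.normalizer_sup_eq_top (S.subtype hSM)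
    have hmap : ((S.subtype hSM : Sylow 2 ↥M) : Subgroup ↥M).map M.subtype = (S : Subgroup G) := by
      rw [Sylow.coe_subtype]
      exact Subgroup.map_subgroupOf_eq_of_le hSM
    rw [hmap, hSD] at hfr
    rw [eq_top_iff, ← hfr]
    exact sup_le ((normalizer_le e ht).trans hDM) le_rfl
  · -- `M` has no involutions, so it is inverted by all involutions, hence trivial
    left
    have hnoinv : ∀ u ∈ M, orderOf u ≠ 2 := by
      intro u huM hu
      apply htM
      obtain ⟨c, hc⟩ := isConj_iff.mp (isConj_of_orderOf_two e hG ht hu)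
      have h1 : t = c⁻¹ * u * c := by rw [← hc]; group
      rw [h1]
      have := hM.conj_mem u huM c⁻¹
      rwa [inv_inv] at this
    -- no element of `M` other than `1` commutes with an involution
    have hfpf : ∀ u : G, orderOf u = 2 → ∀ m ∈ M, u * m = m * u → m = 1 := by
      intro u hu m hm hum
      obtain ⟨c, hc⟩ := isConj_iff.mp (isConj_of_orderOf_two e hG ht hu)
      -- move to `t`
      have hm' : c⁻¹ * m * c ∈ M := by
        have := hM.conj_mem m hm c⁻¹
        rwa [inv_inv] at this
      have hcomm : (c⁻¹ * m * c) * t = t * (c⁻¹ * m * c) := by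
        have hu' : u = c * t * c⁻¹ := hc.symm
        rw [hu'] at hum
        calc c⁻¹ * m * c * t = c⁻¹ * (m * (c * t * c⁻¹)) * c := by group
          _ = c⁻¹ * ((c * t * c⁻¹) * m) * c := by rw [hum]
          _ = t * (c⁻¹ * m * c) := by group
      have hD : c⁻¹ * m * c ∈ centralizer ({t} : Set G) := (mem_cent_iff _).mpr hcomm
      -- an element of the `2`-group `D` lying in `M` is trivial
      have hD2 : IsPGroup 2 (centralizer ({t} : Set G)) := by
        apply IsPGroup.of_card (n := 3)
        rw [card_D e]; norm_num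
      obtain ⟨k, hk⟩ := hD2 ⟨c⁻¹ * m * c, hD⟩
      have hk' : (c⁻¹ * m * c) ^ 2 ^ k = 1 := by
        have := congrArg Subtype.val hk
        simpa using this
      have h1 : c⁻¹ * m * c = 1 := by
        by_contra hne
        -- some power is an involution in `M`
        have hord : orderOf (c⁻¹ * m * c) ∣ 2 ^ k := orderOf_dvd_of_pow_eq_one hk'
        obtain ⟨j, hj, hoj⟩ := (Nat.dvd_prime_pow Nat.prime_two).mp hord
        have hj0 : j ≠ 0 := by
          rintro rfl
          rw [pow_zero, orderOf_eq_one_iff] at hoj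
          exact hne hoj
        obtain ⟨j', rfl⟩ := Nat.exists_eq_succ_of_ne_zero hj0
        have h2 : orderOf ((c⁻¹ * m * c) ^ 2 ^ j') = 2 := by
          rw [orderOf_pow' _ (by positivity), hoj, Nat.gcd_eq_right (pow_dvd_pow 2 (Nat.le_succ j')),
            pow_succ, Nat.mul_div_cancel_left _ (by positivity)]
        exact hnoinv _ (M.pow_mem hm' _) h2
      have : m = c * (c⁻¹ * m * c) * c⁻¹ := by group
      rw [this, h1]; group
    have hinv : ∀ u : G, orderOf u = 2 → ∀ m ∈ M, u * m * u⁻¹ = m⁻¹ := by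
      intro u hu
      apply Cfsg.Agent.S0739.inverts_of_fpf M u (mul_self_of_orderOf_two hu)
      · intro h hh; exact hM.conj_mem h hh u
      · exact hfpf u hu
    rw [Subgroup.eq_bot_iff_forall]
    intro m hm
    have h0 := hinv (SR e 0) (orderOf_SR e 0)
    have h1 := hinv (SR e 1) (orderOf_SR e 1)
    -- `R e 1` centralizes `M`
    have hR1 : R e 1 * m * (R e 1)⁻¹ = m := by
      have hR : R e 1 = SR e 0 * SR e 1 := by rw [SR_mul_SR, sub_zero]
      rw [hR]
      calc SR e 0 * SR e 1 * m * (SR e 0 * SR e 1)⁻¹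
          = SR e 0 * (SR e 1 * m * (SR e 1)⁻¹) * (SR e 0)⁻¹ := by group
        _ = SR e 0 * m⁻¹ * (SR e 0)⁻¹ := by rw [h1 m hm]
        _ = (m⁻¹)⁻¹ := h0 m⁻¹ (M.inv_mem hm)
        _ = m := inv_inv m
    have htm : t * m * t⁻¹ = m := by
      rw [← R_one_sq e ht]
      calc R e 1 * R e 1 * m * (R e 1 * R e 1)⁻¹
          = R e 1 * (R e 1 * m * (R e 1)⁻¹) * (R e 1)⁻¹ := by group
        _ = m := by rw [hR1, hR1]
    have htm' := hinv t ht m hm
    rw [htm] at htm'
    -- `m = m⁻¹` and `m` is not an involution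
    by_contra hne
    have h2 : orderOf m = 2 := by
      apply orderOf_two_of_mul_self _ hne
      calc m * m = m * m⁻¹ := by rw [← htm']
        _ = 1 := mul_inv_cancel m
    exact hnoinv m hm h2

end Cfsg.Agent.Lib.Helper55_D8Simple
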