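import Mathlib
import Cfsg.Agent.Lib.Helper55_DihedralCoord
import Cfsg.Agent.Lib.Helper55_D8Cent
import Cfsg.Agent.Lib.Helper55_D8Main
import Cfsg.Agent.Lib.Helper55_D8Simple
import Cfsg.Agent.Lib.Helper55_D8Gen360
import Cfsg.Agent.Lib.Helper55_AltRecog
import Cfsg.Agent.Lib.Helper42_PSL211Ex
import Cfsg.Agent.S0495

/-!
# Groups with a dihedral involution centralizer of order 8 and no subgroup of index 2 (helper55)

Such a group is isomorphic to `A₆` or to `PSL₂(7)`.
-/

set_option autoImplicit false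

namespace Cfsg.Agent.Lib.Helper55_D8Final

open Subgroup DihedralGroup Cfsg.Agent.Lib.Helper55_DihedralCoord Cfsg.Agent.Lib.Helper55_D8Cent

variable {G : Type*} [Group G] {t : G} (e : ↥(centralizer ({t} : Set G)) ≃* DihedralGroup 4)

include e in
/-- a simple group with such an involution is perfect -/
theorem commutator_eq_top [IsSimpleGroup G] : commutator G = ⊤ := by
  rcases (inferInstance : (commutator G).Normal).eq_bot_or_eq_top with h | h
  · exfalso
    rw [commutator_eq_bot_iff_center_eq_top] at h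
    have hmem : R e 1 ∈ center G := by rw [h]; exact mem_top _
    have hcomm : SR e 0 * R e 1 = R e 1 * SR e 0 := (mem_center_iff.mp hmem (SR e 0))
    have h1 : SR e 0 * R e 1 * (SR e 0)⁻¹ = R e 1 := by
      rw [hcomm, mul_inv_cancel_right]
    rw [SR_conj_R, R_one_inv] at h1
    have h2 := R_injective e h1
    revert h2
    decide
  · exact h

include e in
theorem final [Finite G] (hG : ∀ H : Subgroup G, H.index ≠ 2) (ht : orderOf t = 2) :
    Nonempty (G ≃* ↥(alternatingGroup (Fin 6))) ∨
      Nonempty (G ≃* Matrix.ProjectiveSpecialLinearGroup (Fin 2) (ZMod 7)) := by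
  haveI : Fact (Nat.Prime 7) := ⟨by norm_num⟩
  haveI hsimple : IsSimpleGroup G := Cfsg.Agent.Lib.Helper55_D8Simple.isSimpleGroup e hG ht
  have hperf : commutator G = ⊤ := commutator_eq_top e
  rcases Cfsg.Agent.Lib.Helper55_D8Main.main e hperf ht with h | h
  · right
    exact Cfsg.Agent.S0495.result h (ZMod.card 7)
  · left
    obtain ⟨g₀, g₁, r0, r1, r2, hne⟩ := Cfsg.Agent.Lib.Helper55_D8Gen360.exists_gens e hperf ht h
    obtain ⟨φ, hφ, -, -⟩ := Cfsg.Agent.Lib.Helper42_PSL211Ex.exists_A5_of_rel g₀ g₁ r0 r1 r2 hne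
    exact Cfsg.Agent.Lib.Helper55_AltRecog.nonempty_equiv_A6 h φ hφ

end Cfsg.Agent.Lib.Helper55_D8Final
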