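import Mathlib

/-!
# Nonabelian groups of order 8 (helper55)

A nonabelian group of order `8` has an element `c` of order `4` whose square is central, and either
an involution outside `⟨c⟩` inverting `c` (dihedral case; then every element outside `⟨c⟩` is an
involution), or `c ^ 2` is the only involution (quaternion case).
-/

set_option autoImplicit false

namespace Cfsg.Agent.Lib.Helper55_Ord8

open Subgroup

section Abstract

variable {S : Type*} [Group S]

theorem mem_zpowers_four {c x : S} (hc : orderOf c = 4) (hx : x ∈ zpowers c) :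
    x = 1 ∨ x = c ∨ x = c ^ 2 ∨ x = c ^ 3 := by
  obtain ⟨k, rfl⟩ := mem_zpowers_iff.mp hx
  rw [← zpow_mod_orderOf, hc]
  have h0 : 0 ≤ k % ((4 : ℕ) : ℤ) := Int.emod_nonneg _ (by norm_num)
  have h4 : k % ((4 : ℕ) : ℤ) < 4 := Int.emod_lt_of_pos _ (by norm_num)
  obtain ⟨n, hn⟩ : ∃ n : ℕ, k % ((4 : ℕ) : ℤ) = n := ⟨(k % ((4 : ℕ) : ℤ)).toNat, by omega⟩
  rw [hn, zpow_natCast]
  have hn4 : n < 4 := by omega
  interval_cases n
  · left; simp
  · right; left; simp
  · right; right; left; rfl
  · right; right; right; rfl

theorem pow_four_eq_one {c : S} (hc : orderOf c = 4) : c ^ 4 = 1 := by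
  rw [← hc]; exact pow_orderOf_eq_one c

theorem pow_three_eq_inv {c : S} (hc : orderOf c = 4) : c ^ 3 = c⁻¹ := by
  rw [eq_inv_iff_mul_eq_one, ← pow_succ]
  exact pow_four_eq_one hc

theorem orderOf_sq {c : S} (hc : orderOf c = 4) : orderOf (c ^ 2) = 2 := by
  rw [orderOf_pow' c (by norm_num), hc]; norm_num

theorem orderOf_cube {c : S} (hc : orderOf c = 4) : orderOf (c ^ 3) = 4 := by
  rw [pow_three_eq_inv hc, orderOf_inv, hc]

/-- elements of order `4` in `⟨c⟩` -/
theorem eq_or_eq_inv_of_orderOf_four {c x : S} (hc : orderOf c = 4) (hx : x ∈ zpowers c)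
    (hx4 : orderOf x = 4) : x = c ∨ x = c⁻¹ := by
  rcases mem_zpowers_four hc hx with h | h | h | h
  · rw [h, orderOf_one] at hx4; omega
  · left; exact h
  · rw [h, orderOf_sq hc] at hx4; omega
  · right; rw [h, pow_three_eq_inv hc]

/-- the involution of `⟨c⟩` -/
theorem eq_sq_of_orderOf_two {c x : S} (hc : orderOf c = 4) (hx : x ∈ zpowers c)
    (hx2 : orderOf x = 2) : x = c ^ 2 := by
  rcases mem_zpowers_four hc hx with h | h | h | h
  · rw [h, orderOf_one] at hx2; omega
  · rw [h, hc] at hx2; omega
  · exact h
  · rw [h, orderOf_cube hc] at hx2; omega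

theorem orderOf_conj' (g x : S) : orderOf (g * x * g⁻¹) = orderOf x := by
  have := MulEquiv.orderOf_eq (MulAut.conj g) x
  simp [MulAut.conj_apply] at this
  exact this

theorem conj_pow' (g x : S) (n : ℕ) : (g * x * g⁻¹) ^ n = g * x ^ n * g⁻¹ := by
  have := map_pow (MulAut.conj g) x n
  simp only [MulAut.conj_apply] at this
  exact this.symm

variable [Finite S]

theorem exists_orderOf_four (hS : Nat.card S = 8) (hnab : ¬ ∀ a b : S, a * b = b * a) :
    ∃ c : S, orderOf c = 4 := by
  by_contra hno
  push Not at hno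
  have hord : ∀ x : S, orderOf x = 1 ∨ orderOf x = 2 ∨ orderOf x = 8 := by
    intro x
    have hd : orderOf x ∣ 8 := hS ▸ orderOf_dvd_natCard x
    have hle : orderOf x ≤ 8 := Nat.le_of_dvd (by norm_num) hd
    have hpos : 0 < orderOf x := orderOf_pos x
    have h4 := hno x
    interval_cases h : orderOf x <;> simp_all
  have hno8 : ∀ x : S, orderOf x ≠ 8 := by
    intro x hx
    apply hno (x ^ 2)
    rw [orderOf_pow' x (by norm_num), hx]; norm_num
  have hsq : ∀ x : S, x * x = 1 := by
    intro x
    rcases hord x with h | h | h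
    · rw [orderOf_eq_one_iff] at h; simp [h]
    · rw [← pow_two, ← h]; exact pow_orderOf_eq_one x
    · exact absurd h (hno8 x)
  apply hnab
  intro a b
  have ha : a⁻¹ = a := mul_eq_one_iff_inv_eq.mp (hsq a)
  have hb : b⁻¹ = b := mul_eq_one_iff_inv_eq.mp (hsq b)
  have hab : (a * b)⁻¹ = a * b := mul_eq_one_iff_inv_eq.mp (hsq (a * b))
  rw [mul_inv_rev, ha, hb] at hab
  exact hab.symm

theorem order8_structure (hS : Nat.card S = 8) (hnab : ¬ ∀ a b : S, a * b = b * a) :
    ∃ c : S, orderOf c = 4 ∧ (∀ s : S, s * c ^ 2 = c ^ 2 * s) ∧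
      ((∃ a : S, a ∉ zpowers c ∧ a * a = 1 ∧ a * c * a⁻¹ = c⁻¹ ∧
          ∀ x : S, x ∉ zpowers c → x * x = 1) ∨
       (∀ x : S, orderOf x = 2 → x = c ^ 2)) := by
  obtain ⟨c, hc⟩ := exists_orderOf_four hS hnab
  have hM : Nat.card (zpowers c) = 4 := by rw [Nat.card_zpowers, hc]
  have hidx : (zpowers c).index = 2 := by
    have h1 := (zpowers c).card_mul_index
    rw [hM, hS] at h1
    omega
  have hMn : (zpowers c).Normal := normal_of_index_eq_two hidx
  have hconj : ∀ s : S, s * c * s⁻¹ = c ∨ s * c * s⁻¹ = c⁻¹ := by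
    intro s
    have h1 : s * c * s⁻¹ ∈ zpowers c := hMn.conj_mem c (mem_zpowers c) s
    exact eq_or_eq_inv_of_orderOf_four hc h1 (by rw [orderOf_conj', hc])
  have hc4 := pow_four_eq_one hc
  have hcen : ∀ s : S, s * c ^ 2 = c ^ 2 * s := by
    intro s
    have h1 : s * c ^ 2 * s⁻¹ = c ^ 2 := by
      rw [← conj_pow']
      rcases hconj s with h | h
      · rw [h]
      · rw [h, inv_pow, inv_eq_iff_mul_eq_one, ← pow_add]
        exact hc4
    calc s * c ^ 2 = s * c ^ 2 * s⁻¹ * s := by group
      _ = c ^ 2 * s := by rw [h1]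
  refine ⟨c, hc, hcen, ?_⟩
  by_cases hex : ∃ a : S, a ∉ zpowers c ∧ a * a = 1
  · left
    obtain ⟨a, haM, ha2⟩ := hex
    have hainv : a⁻¹ = a := mul_eq_one_iff_inv_eq.mp ha2
    -- every element outside `M` is `a * m`
    have hcoset : ∀ x : S, x ∉ zpowers c → a⁻¹ * x ∈ zpowers c := by
      intro x hx
      rw [mul_mem_iff_of_index_two hidx]
      constructor
      · intro h; exact absurd (inv_mem_iff.mp h) haM
      · intro h; exact absurd h hx
    have hac : a * c * a⁻¹ = c⁻¹ := by
      rcases hconj a with h | h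
      · exfalso
        have hacomm : a * c = c * a := by
          calc a * c = a * c * a⁻¹ * a := by group
            _ = c * a := by rw [h]
        -- `c` commutes with everything
        have hcall : ∀ x : S, x * c = c * x := by
          intro x
          by_cases hx : x ∈ zpowers c
          · obtain ⟨k, rfl⟩ := mem_zpowers_iff.mp hx
            exact ((Commute.refl c).zpow_left k).eq
          · obtain ⟨k, hk⟩ := mem_zpowers_iff.mp (hcoset x hx)
            have hx' : x = a * c ^ k := by rw [hk]; group
            rw [hx']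
            have h1 : c ^ k * c = c * c ^ k := ((Commute.refl c).zpow_left k).eq
            calc a * c ^ k * c = a * (c ^ k * c) := by group
              _ = a * (c * c ^ k) := by rw [h1]
              _ = a * c * c ^ k := by group
              _ = c * a * c ^ k := by rw [hacomm]
              _ = c * (a * c ^ k) := by group
        have haall : ∀ x : S, x * a = a * x := by
          intro x
          by_cases hx : x ∈ zpowers c
          · obtain ⟨k, rfl⟩ := mem_zpowers_iff.mp hx
            have : Commute c a := (hcall a).symm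
            exact (this.zpow_left k).eq
          · obtain ⟨k, hk⟩ := mem_zpowers_iff.mp (hcoset x hx)
            have hx' : x = a * c ^ k := by rw [hk]; group
            have hca' : Commute c a := (hcall a).symm
            have h1 : c ^ k * a = a * c ^ k := (hca'.zpow_left k).eq
            rw [hx']
            calc a * c ^ k * a = a * (c ^ k * a) := by group
              _ = a * (a * c ^ k) := by rw [h1]
        apply hnab
        intro x y
        -- both central
        have hcenter : ∀ w : S, w ∈ center S := by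
          intro w
          have hcc : c ∈ center S := mem_center_iff.mpr hcall
          have hca : a ∈ center S := mem_center_iff.mpr haall
          by_cases hw : w ∈ zpowers c
          · exact (zpowers_le.mpr hcc) hw
          · have h1 : a⁻¹ * w ∈ center S := (zpowers_le.mpr hcc) (hcoset w hw)
            have h2 : a * (a⁻¹ * w) ∈ center S := mul_mem hca h1
            simpa using h2
        exact (mem_center_iff.mp (hcenter y) x)
      · exact h
    refine ⟨a, haM, ha2, hac, ?_⟩
    intro x hx
    obtain ⟨k, hk⟩ := mem_zpowers_iff.mp (hcoset x hx)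
    have hx' : x = a * c ^ k := by rw [hk]; group
    have hinvk : a * c ^ k * a⁻¹ = (c ^ k)⁻¹ := by
      have h1 := map_zpow (MulAut.conj a) c k
      simp only [MulAut.conj_apply] at h1
      rw [h1, hac, inv_zpow]
    rw [hx']
    calc a * c ^ k * (a * c ^ k) = (a * c ^ k * a⁻¹) * (a * a) * c ^ k := by group
      _ = 1 := by rw [hinvk, ha2]; group
  · right
    push Not at hex
    intro x hx
    have hx2 : x * x = 1 := by rw [← pow_two, ← hx]; exact pow_orderOf_eq_one x
    have hxM : x ∈ zpowers c := by
      by_contra h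
      exact hex x h hx2
    exact eq_sq_of_orderOf_two hc hxM hx

end Abstract

end Cfsg.Agent.Lib.Helper55_Ord8
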