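import Mathlib
import Cfsg.Agent.S0494
import Cfsg.Agent.S0092
import Cfsg.Agent.S0215
import Cfsg.Agent.Lib.Helper2_PResidual
import Cfsg.Agent.Lib.Helper55_D8Gen360
import Cfsg.Agent.Lib.Helper55_Ord8
import Cfsg.Agent.Lib.Helper54_TwoGroups

/-!
# Simple groups of order 360: the centralizer of a 2-central involution (helper55)

In a simple group of order `360` a Sylow 2-subgroup `S` is dihedral of order `8` and equals the
centralizer of its central involution.
-/

set_option autoImplicit false
set_option linter.unusedSectionVars false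

namespace Cfsg.Agent.Lib.Helper55_Ord360

open Subgroup Cfsg

/-! ### conjugation as a permutation of a normalized subgroup -/

section Conj

variable {G : Type*} [Group G]

/-- the permutation of a subgroup induced by an element of its normalizer -/
def conjPerm (A : Subgroup G) (q : G) (hq : q ∈ normalizer (A : Set G)) : Equiv.Perm A where
  toFun a := ⟨q * a * q⁻¹, (mem_normalizer_iff.mp hq a).mp a.2⟩
  invFun a := ⟨q⁻¹ * a * q, by
    have := (mem_normalizer_iff.mp (inv_mem hq) a).mp a.2
    simpa using this⟩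
  left_inv a := by
    apply Subtype.ext
    simp only
    group
  right_inv a := by
    apply Subtype.ext
    simp only
    group

theorem conjPerm_apply (A : Subgroup G) (q : G) (hq : q ∈ normalizer (A : Set G)) (a : A) :
    ((conjPerm A q hq a : A) : G) = q * a * q⁻¹ := rfl

theorem conjPerm_pow_apply (A : Subgroup G) (q : G) (hq : q ∈ normalizer (A : Set G)) (k : ℕ)
    (a : A) : (((conjPerm A q hq ^ k) a : A) : G) = q ^ k * a * (q ^ k)⁻¹ := by
  induction k generalizing a with
  | zero => simp
  | succ k ih =>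
    rw [pow_succ', Equiv.Perm.mul_apply, conjPerm_apply, ih, pow_succ']
    group

theorem conjPerm_pow_eq_one (A : Subgroup G) (q : G) (hq : q ∈ normalizer (A : Set G)) (p : ℕ)
    (hqp : q ^ p = 1) : conjPerm A q hq ^ p = 1 := by
  ext a
  rw [conjPerm_pow_apply, hqp]
  simp

open scoped Classical in
theorem card_fixed_modEq (A : Subgroup G) [Fintype A] (q : G) (hq : q ∈ normalizer (A : Set G))
    (p : ℕ) [Fact p.Prime] (hqp : q ^ p = 1) :
    (Finset.univ.filter (fun a : A => q * (a : G) * q⁻¹ = a)).card ≡ Fintype.card A [MOD p] := by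
  classical
  have hσ : conjPerm A q hq ^ p ^ 1 = 1 := by
    rw [pow_one]; exact conjPerm_pow_eq_one A q hq p hqp
  have h1 := Equiv.Perm.card_compl_support_modEq hσ
  have h2 : (conjPerm A q hq).supportᶜ =
      Finset.univ.filter (fun a : A => q * (a : G) * q⁻¹ = a) := by
    ext a
    simp only [Finset.mem_compl, Equiv.Perm.mem_support, not_not, Finset.mem_filter,
      Finset.mem_univ, true_and]
    constructor
    · intro ha
      have := congrArg Subtype.val ha
      rwa [conjPerm_apply] at this
    · intro ha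
      apply Subtype.ext
      rw [conjPerm_apply]; exact ha
  rw [h2] at h1
  exact h1

/-- a `p`-element normalizing a subgroup whose order is not `1` modulo `p` centralizes a
nonidentity element of it -/
theorem exists_fixed_ne_one (A : Subgroup G) [Finite A] (q : G) (hq : q ∈ normalizer (A : Set G))
    (p : ℕ) [Fact p.Prime] (hqp : q ^ p = 1) (hcard : ¬ Nat.card A ≡ 1 [MOD p]) :
    ∃ u ∈ A, u ≠ 1 ∧ q * u = u * q := by
  classical
  have : Fintype A := Fintype.ofFinite A
  by_contra hno
  push Not at hno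
  have h1 := card_fixed_modEq A q hq p hqp
  have h2 : Finset.univ.filter (fun a : A => q * (a : G) * q⁻¹ = a) = {1} := by
    ext a
    simp only [Finset.mem_filter, Finset.mem_univ, true_and, Finset.mem_singleton]
    constructor
    · intro ha
      by_contra hne
      have hne' : (a : G) ≠ 1 := fun h => hne (Subtype.ext h)
      apply hno a a.2 hne'
      calc q * (a : G) = q * a * q⁻¹ * q := by group
        _ = a * q := by rw [ha]
    · rintro rfl
      simp
  rw [h2, Finset.card_singleton, ← Nat.card_eq_fintype_card] at h1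
  exact hcard h1.symm

/-- a `3`-element normalizing a subgroup of order `4` and centralizing two of its elements
centralizes it -/
theorem centralizes_of_card_four (A : Subgroup G) (hA : Nat.card A = 4) (q : G)
    (hq : q ∈ normalizer (A : Set G)) (hq3 : q ^ 3 = 1) (z : G) (hzA : z ∈ A) (hz1 : z ≠ 1)
    (hqz : q * z * q⁻¹ = z) : ∀ a ∈ A, q * a * q⁻¹ = a := by
  classical
  have : Finite A := Nat.finite_of_card_ne_zero (by rw [hA]; norm_num)
  have : Fintype A := Fintype.ofFinite A
  have : Fact (Nat.Prime 3) := ⟨by norm_num⟩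
  have h1 := card_fixed_modEq A q hq 3 hq3
  rw [← Nat.card_eq_fintype_card, hA] at h1
  set F := Finset.univ.filter (fun a : A => q * (a : G) * q⁻¹ = a) with hF
  have hle : F.card ≤ 4 := by
    have := Finset.card_le_univ F
    rwa [← Nat.card_eq_fintype_card, hA] at this
  have h2 : 2 ≤ F.card := by
    have hsub : ({1, ⟨z, hzA⟩} : Finset A) ⊆ F := by
      intro a ha
      simp only [Finset.mem_insert, Finset.mem_singleton] at ha
      rw [hF, Finset.mem_filter]
      refine ⟨Finset.mem_univ _, ?_⟩
      rcases ha with rfl | rfl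
      · simp
      · exact hqz
    have hc : ({1, ⟨z, hzA⟩} : Finset A).card = 2 := by
      rw [Finset.card_pair]
      intro h
      exact hz1 (congrArg Subtype.val h).symm
    calc 2 = ({1, ⟨z, hzA⟩} : Finset A).card := hc.symm
      _ ≤ F.card := Finset.card_le_card hsub
  have h4 : F.card = 4 := by
    have : F.card % 3 = 4 % 3 := h1
    omega
  have hFu : F = Finset.univ := by
    apply Finset.eq_univ_of_card
    rw [h4, ← Nat.card_eq_fintype_card, hA]
  intro a ha
  have : (⟨a, ha⟩ : A) ∈ F := by rw [hFu]; exact Finset.mem_univ _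
  rw [hF, Finset.mem_filter] at this
  exact this.2

end Conj

/-! ### basic facts on simple groups of order 360 -/

section Basic

open scoped Nat

variable {G : Type*} [Group G] [Finite G] [IsSimpleGroup G]

theorem six_le_index (h360 : Nat.card G = 360) (H : Subgroup G) (hH : H ≠ ⊤) : 6 ≤ H.index := by
  by_contra hlt
  push Not at hlt
  have h1 := Cfsg.Agent.S0494.card_dvd_factorial_index H hH
  have h2 : (H.index)! ∣ 5! := Nat.factorial_dvd_factorial (by omega)
  rw [h360] at h1
  have h3 := h1.trans h2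
  norm_num [Nat.factorial] at h3

theorem card_le_sixty (h360 : Nat.card G = 360) (H : Subgroup G) (hH : H ≠ ⊤) :
    Nat.card H ≤ 60 := by
  have h1 := H.card_mul_index
  rw [h360] at h1
  have h2 := six_le_index h360 H hH
  nlinarith

theorem eq_top_of_sixty_lt (h360 : Nat.card G = 360) (H : Subgroup G) (h : 60 < Nat.card H) :
    H = ⊤ := by
  by_contra hne
  have := card_le_sixty h360 H hne
  omega

theorem card_dvd (h360 : Nat.card G = 360) (H : Subgroup G) : Nat.card H ∣ 360 :=
  h360 ▸ H.card_subgroup_dvd_card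

theorem card_normal (h360 : Nat.card G = 360) (N : Subgroup G) [hN : N.Normal] :
    Nat.card N = 1 ∨ Nat.card N = 360 := by
  rcases hN.eq_bot_or_eq_top with h | h
  · left; rw [h]; exact Subgroup.card_bot
  · right; rw [h, Subgroup.card_top]; exact h360

theorem center_eq_bot (h360 : Nat.card G = 360) : center G = ⊥ := by
  rcases (inferInstance : (center G).Normal).eq_bot_or_eq_top with h | h
  · exact h
  · exfalso
    have : Fact (Nat.Prime 5) := ⟨by norm_num⟩
    obtain ⟨y, hy⟩ := exists_prime_orderOf_dvd_card' (G := G) 5 (by rw [h360]; norm_num)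
    have hn : (zpowers y).Normal := by
      constructor
      intro n hn g
      have hg : g ∈ center G := by rw [h]; exact mem_top g
      have h1 : g * n * g⁻¹ = n := by
        rw [mem_center_iff] at hg
        rw [← hg n, mul_inv_cancel_right]
      rw [h1]; exact hn
    have h2 := card_normal h360 (zpowers y)
    rw [Nat.card_zpowers, hy] at h2
    omega

theorem centralizer_ne_top (h360 : Nat.card G = 360) {x : G} (hx : x ≠ 1) :
    centralizer ({x} : Set G) ≠ ⊤ := by
  intro h
  apply hx
  have hc : x ∈ center G := by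
    rw [mem_center_iff]
    intro g
    have hg : g ∈ centralizer ({x} : Set G) := by rw [h]; exact mem_top g
    exact (mem_centralizer_iff.mp hg x rfl).symm
  rw [center_eq_bot h360, mem_bot] at hc
  exact hc

theorem pResidual_eq_top (h360 : Nat.card G = 360) (p : ℕ) (hp : Nat.Coprime 5 p) :
    pResidual p G = ⊤ := by
  have : Fact (Nat.Prime 5) := ⟨by norm_num⟩
  have hn : (pResidual p G).Normal := Cfsg.Agent.Lib.Helper2_PResidual.pResidual_normal
  rcases card_normal h360 (pResidual p G) with h | h
  · exfalso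
    obtain ⟨y, hy⟩ := exists_prime_orderOf_dvd_card' (G := G) 5 (by rw [h360]; norm_num)
    have hmem : y ∈ pResidual p G :=
      Cfsg.Agent.Lib.Helper2_PResidual.mem_pResidual_of_coprime (by rw [hy]; exact hp)
    have hb : pResidual p G = ⊥ := Subgroup.card_eq_one.mp h
    rw [hb, mem_bot] at hmem
    rw [hmem, orderOf_one] at hy
    omega
  · exact (Subgroup.card_eq_iff_eq_top _).mp (h.trans h360.symm)

theorem factorization_360_two : (360 : ℕ).factorization 2 = 3 := by
  have h : (360 : ℕ) = 2 ^ 3 * 45 := by norm_num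
  rw [h, Nat.factorization_mul (by norm_num) (by norm_num),
    Nat.Prime.factorization_pow (by norm_num)]
  simp only [Finsupp.coe_add, Pi.add_apply, Finsupp.single_eq_same]
  have : (45 : ℕ).factorization 2 = 0 := by
    apply Nat.factorization_eq_zero_of_not_dvd
    norm_num
  omega

theorem card_sylow_two (h360 : Nat.card G = 360) (S : Sylow 2 G) :
    Nat.card (S : Subgroup G) = 8 := by
  have : Fact (Nat.Prime 2) := ⟨Nat.prime_two⟩
  rw [S.card_eq_multiplicity, h360, factorization_360_two]
  norm_num

theorem card_sylow_three (h360 : Nat.card G = 360) (P : Sylow 3 G) :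
    Nat.card (P : Subgroup G) = 9 := by
  have : Fact (Nat.Prime 3) := ⟨by norm_num⟩
  rw [P.card_eq_multiplicity, h360, Cfsg.Agent.Lib.Helper55_D8Gen360.factorization_360_three]
  norm_num

/-- no subgroup of order `8 k` with `k ∉ {1, 3, 5}` -/
theorem card_cases (h360 : Nat.card G = 360) (H : Subgroup G) (hH : H ≠ ⊤)
    (h8 : 8 ∣ Nat.card H) : Nat.card H = 8 ∨ Nat.card H = 24 ∨ Nat.card H = 40 := by
  have h1 := card_le_sixty h360 H hH
  have h2 := card_dvd h360 H
  have h3 : 0 < Nat.card H := Nat.card_pos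
  obtain ⟨k, hk⟩ := h8
  rw [hk] at h1 h2 h3 ⊢
  have hk7 : k ≤ 7 := by omega
  interval_cases k <;> simp_all

end Basic

/-! ### the Sylow 2-subgroups are not abelian -/

section Sylow2

variable {G : Type*} [Group G] [Finite G] [IsSimpleGroup G]

theorem sylow_two_not_comm (h360 : Nat.card G = 360) (S : Sylow 2 G) :
    ¬ ∀ a ∈ (S : Subgroup G), ∀ b ∈ (S : Subgroup G), a * b = b * a := by
  intro hab
  have : Fact (Nat.Prime 2) := ⟨Nat.prime_two⟩
  have hS8 := card_sylow_two h360 S
  have hSN : (S : Subgroup G) ≤ normalizer ((S : Subgroup G) : Set G) := le_normalizer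
  have hNne : normalizer ((S : Subgroup G) : Set G) ≠ ⊤ := by
    intro h
    have hn : (S : Subgroup G).Normal := normalizer_eq_top_iff.mp h
    have := card_normal h360 (S : Subgroup G)
    omega
  have h8N : 8 ∣ Nat.card (normalizer ((S : Subgroup G) : Set G)) :=
    hS8 ▸ Subgroup.card_dvd_of_le hSN
  -- a nonidentity element of `S` central in the normalizer
  have key : ∃ u ∈ (S : Subgroup G), u ≠ 1 ∧
      ∀ n ∈ normalizer ((S : Subgroup G) : Set G), n * u = u * n := by
    have hfix : ∀ p : ℕ, p.Prime → Nat.Coprime 8 p → ¬ (8 ≡ 1 [MOD p]) →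
        Nat.card (normalizer ((S : Subgroup G) : Set G)) = 8 * p →
        ∃ u ∈ (S : Subgroup G), u ≠ 1 ∧
          ∀ n ∈ normalizer ((S : Subgroup G) : Set G), n * u = u * n := by
      intro p hp hcop hmod hcard
      have : Fact p.Prime := ⟨hp⟩
      obtain ⟨q', hq'⟩ := exists_prime_orderOf_dvd_card'
        (G := normalizer ((S : Subgroup G) : Set G)) p (by rw [hcard]; exact dvd_mul_left p 8)
      have hq : (q' : G) ∈ normalizer ((S : Subgroup G) : Set G) := q'.2
      have hqo : orderOf (q' : G) = p := by rw [Subgroup.orderOf_coe]; exact hq'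
      have hqp : (q' : G) ^ p = 1 := by rw [← hqo]; exact pow_orderOf_eq_one _
      obtain ⟨u, hu, hu1, hqu⟩ := exists_fixed_ne_one (S : Subgroup G) (q' : G) hq p hqp
        (by rw [hS8]; exact hmod)
      refine ⟨u, hu, hu1, ?_⟩
      -- `K = N ∩ C(u)` has order `8 p`
      have hSK : (S : Subgroup G) ≤
          normalizer ((S : Subgroup G) : Set G) ⊓ centralizer ({u} : Set G) := by
        refine le_inf hSN ?_
        intro s hs
        rw [mem_centralizer_iff]
        intro h hh
        rw [Set.mem_singleton_iff] at hh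
        rw [hh]
        exact hab u hu s hs
      have hqK : (q' : G) ∈
          normalizer ((S : Subgroup G) : Set G) ⊓ centralizer ({u} : Set G) := by
        refine mem_inf.mpr ⟨hq, ?_⟩
        rw [mem_centralizer_iff]
        intro h hh
        rw [Set.mem_singleton_iff] at hh
        rw [hh]
        exact hqu.symm
      have h8K : 8 ∣ Nat.card
          ↥(normalizer ((S : Subgroup G) : Set G) ⊓ centralizer ({u} : Set G)) :=
        hS8 ▸ Subgroup.card_dvd_of_le hSK
      have hpK : p ∣ Nat.card
          ↥(normalizer ((S : Subgroup G) : Set G) ⊓ centralizer ({u} : Set G)) := by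
        have h1 := orderOf_dvd_natCard (⟨(q' : G), hqK⟩ :
          ↥(normalizer ((S : Subgroup G) : Set G) ⊓ centralizer ({u} : Set G)))
        rwa [Subgroup.orderOf_mk, hqo] at h1
      have hdvd : 8 * p ∣ Nat.card
          ↥(normalizer ((S : Subgroup G) : Set G) ⊓ centralizer ({u} : Set G)) :=
        Nat.Coprime.mul_dvd_of_dvd_of_dvd hcop h8K hpK
      have hKN : normalizer ((S : Subgroup G) : Set G) ⊓ centralizer ({u} : Set G) =
          normalizer ((S : Subgroup G) : Set G) := by
        apply Subgroup.eq_of_le_of_card_ge inf_le_left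
        rw [hcard]
        exact Nat.le_of_dvd Nat.card_pos hdvd
      intro n hn
      rw [← hKN] at hn
      exact (mem_centralizer_iff.mp (mem_inf.mp hn).2 u rfl).symm
    rcases card_cases h360 _ hNne h8N with h | h | h
    · -- `N = S`
      have hNS : (S : Subgroup G) = normalizer ((S : Subgroup G) : Set G) :=
        Subgroup.eq_of_le_of_card_ge hSN (by rw [h, hS8])
      obtain ⟨u', hu'⟩ := exists_prime_orderOf_dvd_card' (G := (S : Subgroup G)) 2
        (by rw [hS8]; norm_num)
      refine ⟨(u' : G), u'.2, ?_, ?_⟩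
      · intro h1
        have : u' = 1 := Subtype.ext h1
        rw [this, orderOf_one] at hu'
        omega
      · intro n hn
        rw [← hNS] at hn
        exact hab n hn u' u'.2
    · exact hfix 3 (by norm_num) (by norm_num) (by decide) h
    · exact hfix 5 (by norm_num) (by norm_num) (by decide) h
  obtain ⟨u, hu, hu1, hc⟩ := key
  have hcomm : IsMulCommutative (S : Subgroup G) :=
    ⟨⟨fun a b => Subtype.ext (hab a a.2 b b.2)⟩⟩
  exact hu1 (Cfsg.Agent.S0092.eq_one_of_central_normalizer
    (pResidual_eq_top h360 2 (by norm_num)) S u hu hc)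

end Sylow2

/-! ### the Sylow 2-subgroups are dihedral -/

section Data

variable {G : Type*} [Group G] [Finite G] [IsSimpleGroup G]

theorem coe_mem_zpowers_iff (H : Subgroup G) (c x : H) :
    (x : G) ∈ zpowers (c : G) ↔ x ∈ zpowers c := by
  constructor
  · intro h
    obtain ⟨k, hk⟩ := mem_zpowers_iff.mp h
    exact mem_zpowers_iff.mpr ⟨k, Subtype.ext (by rw [Subgroup.coe_zpow]; exact hk)⟩
  · intro h
    obtain ⟨k, hk⟩ := mem_zpowers_iff.mp h
    refine mem_zpowers_iff.mpr ⟨k, ?_⟩
    rw [← hk, Subgroup.coe_zpow]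

theorem exists_dihedral_data (h360 : Nat.card G = 360) (S : Sylow 2 G) :
    ∃ c a : G, c ∈ (S : Subgroup G) ∧ a ∈ (S : Subgroup G) ∧ orderOf c = 4 ∧
      (∀ s ∈ (S : Subgroup G), s * c ^ 2 = c ^ 2 * s) ∧ a ∉ zpowers c ∧ a * a = 1 ∧
      a * c * a⁻¹ = c⁻¹ ∧ ∀ x ∈ (S : Subgroup G), x ∉ zpowers c → x * x = 1 := by
  have hS8 := card_sylow_two h360 S
  have hnab : ¬ ∀ a b : (S : Subgroup G), a * b = b * a := by
    intro h
    apply sylow_two_not_comm h360 S
    intro a ha b hb
    exact congrArg Subtype.val (h ⟨a, ha⟩ ⟨b, hb⟩)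
  obtain ⟨c', hc', hcen, hcase⟩ := Cfsg.Agent.Lib.Helper55_Ord8.order8_structure hS8 hnab
  have hco : orderOf (c' : G) = 4 := by rw [Subgroup.orderOf_coe]; exact hc'
  rcases hcase with ⟨a', ha'M, ha'2, ha'c, hall⟩ | huniq
  · refine ⟨(c' : G), (a' : G), c'.2, a'.2, hco, ?_, ?_, ?_, ?_, ?_⟩
    · intro s hs
      have := congrArg Subtype.val (hcen ⟨s, hs⟩)
      simpa using this
    · intro h
      exact ha'M ((coe_mem_zpowers_iff _ c' a').mp h)
    · have := congrArg Subtype.val ha'2
      simpa using this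
    · have := congrArg Subtype.val ha'c
      simpa using this
    · intro x hx hxM
      have h1 : (⟨x, hx⟩ : (S : Subgroup G)) ∉ zpowers c' := by
        intro h
        exact hxM ((coe_mem_zpowers_iff _ c' ⟨x, hx⟩).mpr h)
      have := congrArg Subtype.val (hall ⟨x, hx⟩ h1)
      simpa using this
  · exfalso
    -- the unique involution is isolated: Glauberman's Z*-theorem
    have hu2 : orderOf ((c' : G) ^ 2) = 2 := Cfsg.Agent.Lib.Helper55_Ord8.orderOf_sq hco
    have huS : (c' : G) ^ 2 ∈ (S : Subgroup G) := pow_mem c'.2 2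
    have hiso : ∀ g : G, g * (c' : G) ^ 2 * g⁻¹ ∈ S → g * (c' : G) ^ 2 * g⁻¹ = (c' : G) ^ 2 := by
      intro g hg
      have ho : orderOf (⟨g * (c' : G) ^ 2 * g⁻¹, hg⟩ : (S : Subgroup G)) = 2 := by
        rw [Subgroup.orderOf_mk, Cfsg.Agent.Lib.Helper55_Ord8.orderOf_conj', hu2]
      have := congrArg Subtype.val (huniq _ ho)
      simpa using this
    obtain ⟨N, hN, hodd, hcomm⟩ := Cfsg.Agent.S0215.result S ((c' : G) ^ 2) hu2 huS hiso
    have hN1 : Nat.card N = 1 := by
      rcases card_normal h360 N with h | h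
      · exact h
      · rw [h] at hodd
        exact absurd hodd (by decide)
    have hNb : N = ⊥ := Subgroup.card_eq_one.mp hN1
    have hu1 : (c' : G) ^ 2 ≠ 1 := by
      intro h
      rw [h, orderOf_one] at hu2
      omega
    apply centralizer_ne_top h360 hu1
    rw [eq_top_iff]
    intro g _
    rw [mem_centralizer_iff]
    intro h hh
    rw [Set.mem_singleton_iff] at hh
    rw [hh]
    have h1 := hcomm g
    rw [hNb, mem_bot] at h1
    calc (c' : G) ^ 2 * g = (c' : G) ^ 2 * g * ((c' : G) ^ 2)⁻¹ * g⁻¹ * g * (c' : G) ^ 2 := by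
          group
      _ = g * (c' : G) ^ 2 := by rw [h1]; group

end Data

/-! ### no subgroup of order 40 -/

section Forty

variable {G : Type*} [Group G] [Finite G] [IsSimpleGroup G]

theorem factorization_40_five : (40 : ℕ).factorization 5 = 1 := by
  have h : (40 : ℕ) = 5 ^ 1 * 8 := by norm_num
  rw [h, Nat.factorization_mul (by norm_num) (by norm_num),
    Nat.Prime.factorization_pow (by norm_num)]
  simp only [Finsupp.coe_add, Pi.add_apply, Finsupp.single_eq_same]
  have : (8 : ℕ).factorization 5 = 0 := by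
    apply Nat.factorization_eq_zero_of_not_dvd
    norm_num
  omega

theorem card_ne_forty (h360 : Nat.card G = 360) (C : Subgroup G) (hC : Nat.card C = 40) :
    False := by
  have : Fact (Nat.Prime 5) := ⟨by norm_num⟩
  let Q₀ : Sylow 5 C := default
  have hn1 : Nat.card (Sylow 5 C) = 1 := by
    have h1 : Nat.card (Sylow 5 C) % 5 = 1 % 5 := card_sylow_modEq_one 5 C
    have h2 : Nat.card (Sylow 5 C) ∣ 40 := by
      have h3 := Q₀.card_dvd_index
      exact h3.trans (hC ▸ (Q₀ : Subgroup C).index_dvd_card)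
    have h3 : Nat.card (Sylow 5 C) ≤ 40 := Nat.le_of_dvd (by norm_num) h2
    have h4 : 0 < Nat.card (Sylow 5 C) := Nat.card_pos
    generalize Nat.card (Sylow 5 C) = n at *
    interval_cases n <;> simp_all
  have hsub : Subsingleton (Sylow 5 C) := (Nat.card_eq_one_iff_unique.mp hn1).1
  have hQn : (Q₀ : Subgroup C).Normal := Sylow.normal_of_subsingleton Q₀
  have hQ₀card : Nat.card (Q₀ : Subgroup C) = 5 := by
    rw [Q₀.card_eq_multiplicity, hC, factorization_40_five]
    norm_num
  have hQcard : Nat.card ((Q₀ : Subgroup C).map C.subtype) = 5 := by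
    rw [Subgroup.card_map_of_injective C.subtype_injective]; exact hQ₀card
  have hCN : C ≤ normalizer (((Q₀ : Subgroup C).map C.subtype : Subgroup G) : Set G) := by
    intro g hg
    rw [mem_normalizer_iff]
    intro x
    constructor
    · rintro ⟨x', hx', rfl⟩
      exact ⟨⟨g, hg⟩ * x' * ⟨g, hg⟩⁻¹, hQn.conj_mem x' hx' ⟨g, hg⟩, by simp⟩
    · rintro ⟨y', hy', hy⟩
      refine ⟨⟨g, hg⟩⁻¹ * y' * ⟨g, hg⟩, ?_, ?_⟩
      · have := hQn.conj_mem y' hy' ⟨g, hg⟩⁻¹
        rw [inv_inv] at this
        exact this
      · simp only [Subgroup.subtype_apply, Subgroup.coe_mul, Subgroup.coe_inv] at hy ⊢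
        rw [hy]
        group
  have hNne : normalizer (((Q₀ : Subgroup C).map C.subtype : Subgroup G) : Set G) ≠ ⊤ := by
    intro h
    have hn : ((Q₀ : Subgroup C).map C.subtype).Normal := normalizer_eq_top_iff.mp h
    have := card_normal h360 ((Q₀ : Subgroup C).map C.subtype)
    omega
  have h40N : 40 ∣ Nat.card
      (normalizer (((Q₀ : Subgroup C).map C.subtype : Subgroup G) : Set G)) :=
    hC ▸ Subgroup.card_dvd_of_le hCN
  have hN40 : Nat.card
      (normalizer (((Q₀ : Subgroup C).map C.subtype : Subgroup G) : Set G)) = 40 := by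
    have h1 := card_le_sixty h360 _ hNne
    obtain ⟨k, hk⟩ := h40N
    have h2 : 0 < Nat.card
      (normalizer (((Q₀ : Subgroup C).map C.subtype : Subgroup G) : Set G)) := Nat.card_pos
    rw [hk] at h1 h2 ⊢
    have : k = 1 := by omega
    rw [this]
  let P : Sylow 5 G := Sylow.ofCard ((Q₀ : Subgroup C).map C.subtype)
    (by rw [hQcard, h360, Cfsg.Agent.Lib.Helper55_D8Gen360.factorization_360_five]; norm_num)
  have h1 : Nat.card (Sylow 5 G) % 5 = 1 % 5 := card_sylow_modEq_one 5 G
  have h2 : Nat.card (Sylow 5 G) = (normalizer ((P : Subgroup G) : Set G)).index :=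
    Sylow.card_eq_index_normalizer P
  have h3 : (normalizer (((Q₀ : Subgroup C).map C.subtype : Subgroup G) : Set G)).index = 9 := by
    have h4 := (normalizer (((Q₀ : Subgroup C).map C.subtype : Subgroup G) : Set G)).card_mul_index
    rw [hN40, h360] at h4
    omega
  have h5 : (normalizer ((P : Subgroup G) : Set G)).index = 9 := h3
  rw [h2, h5] at h1
  norm_num at h1

end Forty

/-! ### the centralizer of the central involution does not have order 24 -/

section TwentyFour

variable {G : Type*} [Group G]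

theorem card_mul_relIndex' {H K : Subgroup G} (h : H ≤ K) :
    Nat.card H * H.relIndex K = Nat.card K := by
  have h1 := (H.subgroupOf K).card_mul_index
  rw [Nat.card_congr (Subgroup.subgroupOfEquivOfLe h).toEquiv] at h1
  exact h1

theorem mul_mem_iff_of_relIndex_two' {H L : Subgroup G} (h2 : H.relIndex L = 2) {a b : G}
    (ha : a ∈ L) (hb : b ∈ L) : a * b ∈ H ↔ (a ∈ H ↔ b ∈ H) := by
  have := Subgroup.mul_mem_iff_of_index_two (H := H.subgroupOf L) h2 (a := ⟨a, ha⟩) (b := ⟨b, hb⟩)
  simpa [mem_subgroupOf] using this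

theorem conj_mem_iff_of_relIndex_two' {H L : Subgroup G} (h2 : H.relIndex L = 2) {g x : G}
    (hg : g ∈ L) (hx : x ∈ L) : g * x * g⁻¹ ∈ H ↔ x ∈ H := by
  rw [mul_mem_iff_of_relIndex_two' h2 (mul_mem hg hx) (inv_mem hg),
    mul_mem_iff_of_relIndex_two' h2 hg hx, inv_mem_iff]
  tauto

theorem le_normalizer_zpowers (C : Subgroup G) (y : G)
    (h : ∀ g ∈ C, g * y * g⁻¹ ∈ zpowers y) : C ≤ normalizer ((zpowers y : Subgroup G) : Set G) := by
  have hfwd : ∀ g ∈ C, ∀ x ∈ zpowers y, g * x * g⁻¹ ∈ zpowers y := by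
    intro g hg x hx
    obtain ⟨k, rfl⟩ := mem_zpowers_iff.mp hx
    have h1 := map_zpow (MulAut.conj g) y k
    simp only [MulAut.conj_apply] at h1
    rw [h1]
    exact zpow_mem (h g hg) k
  intro g hg
  rw [mem_normalizer_iff]
  intro x
  constructor
  · exact hfwd g hg x
  · intro hx
    have h1 := hfwd g⁻¹ (inv_mem hg) _ hx
    have h2 : g⁻¹ * (g * x * g⁻¹) * g⁻¹⁻¹ = x := by group
    rwa [h2] at h1

variable [Finite G] [IsSimpleGroup G]

theorem factorization_12_three : (12 : ℕ).factorization 3 = 1 := by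
  have h : (12 : ℕ) = 3 ^ 1 * 4 := by norm_num
  rw [h, Nat.factorization_mul (by norm_num) (by norm_num),
    Nat.Prime.factorization_pow (by norm_num)]
  simp only [Finsupp.coe_add, Pi.add_apply, Finsupp.single_eq_same]
  have : (4 : ℕ).factorization 3 = 0 := by
    apply Nat.factorization_eq_zero_of_not_dvd
    norm_num
  omega

/-- in a group of order 12 with a central element `y` of order 3, every element of order 3 is a
power of `y` -/
theorem mem_zpowers_of_card_twelve (Y : Subgroup G) (hY : Nat.card Y = 12) (y w : G)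
    (hyY : y ∈ Y) (hwY : w ∈ Y) (hy3 : orderOf y = 3) (hw3 : orderOf w = 3)
    (hcen : ∀ h ∈ Y, h * y = y * h) : w ∈ zpowers y := by
  have : Fact (Nat.Prime 3) := ⟨by norm_num⟩
  have hy'3 : orderOf (⟨y, hyY⟩ : Y) = 3 := by rw [Subgroup.orderOf_mk]; exact hy3
  have hw'3 : orderOf (⟨w, hwY⟩ : Y) = 3 := by rw [Subgroup.orderOf_mk]; exact hw3
  have hRn : (zpowers (⟨y, hyY⟩ : Y)).Normal := by
    constructor
    intro n hn h
    obtain ⟨k, rfl⟩ := mem_zpowers_iff.mp hn
    have hcomm : Commute h (⟨y, hyY⟩ : Y) := Subtype.ext (hcen h h.2)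
    have h1 : h * (⟨y, hyY⟩ : Y) ^ k * h⁻¹ = (⟨y, hyY⟩ : Y) ^ k := by
      rw [(hcomm.zpow_right k).eq, mul_inv_cancel_right]
    rw [h1]
    exact zpow_mem (mem_zpowers _) k
  let PR : Sylow 3 Y := Sylow.ofCard (zpowers (⟨y, hyY⟩ : Y))
    (by rw [Nat.card_zpowers, hy'3, hY, factorization_12_three]; norm_num)
  have hPRn : (PR : Subgroup Y).Normal := hRn
  have huniq : Unique (Sylow 3 Y) := Sylow.unique_of_normal PR hPRn
  have hWp : IsPGroup 3 (zpowers (⟨w, hwY⟩ : Y)) :=
    IsPGroup.of_card (n := 1) (by rw [Nat.card_zpowers, hw'3]; norm_num)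
  obtain ⟨Q, hQ⟩ := hWp.exists_le_sylow
  have hQPR : Q = PR := Subsingleton.elim _ _
  have hmem : (⟨w, hwY⟩ : Y) ∈ zpowers (⟨y, hyY⟩ : Y) := by
    have h1 := hQ (mem_zpowers (⟨w, hwY⟩ : Y))
    rw [hQPR] at h1
    exact h1
  exact (coe_mem_zpowers_iff Y ⟨y, hyY⟩ ⟨w, hwY⟩).mpr hmem

theorem card_centralizer_ne_twentyfour (h360 : Nat.card G = 360) (S : Sylow 2 G) (c : G)
    (hcS : c ∈ (S : Subgroup G)) (hc4 : orderOf c = 4)
    (hcen : ∀ s ∈ (S : Subgroup G), s * c ^ 2 = c ^ 2 * s)
    (hall : ∀ x ∈ (S : Subgroup G), x ∉ zpowers c → x * x = 1)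
    (hC : Nat.card (centralizer ({c ^ 2} : Set G)) = 24) : False := by
  have hS8 := card_sylow_two h360 S
  have hz2 : orderOf (c ^ 2) = 2 := Cfsg.Agent.Lib.Helper55_Ord8.orderOf_sq hc4
  have hz1 : c ^ 2 ≠ 1 := by
    intro h
    rw [h, orderOf_one] at hz2
    omega
  have hzS : c ^ 2 ∈ (S : Subgroup G) := pow_mem hcS 2
  have hSC : (S : Subgroup G) ≤ centralizer ({c ^ 2} : Set G) := by
    intro s hs
    rw [mem_centralizer_iff]
    intro h hh
    rw [Set.mem_singleton_iff] at hh
    rw [hh]
    exact (hcen s hs).symm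
  have hCmem : ∀ g : G, g ∈ centralizer ({c ^ 2} : Set G) ↔ g * c ^ 2 = c ^ 2 * g := by
    intro g
    rw [mem_centralizer_iff]
    constructor
    · intro h; exact (h _ rfl).symm
    · intro h x hx
      rw [Set.mem_singleton_iff] at hx
      rw [hx]; exact h.symm
  -- an element of order 3 in `C`
  have : Fact (Nat.Prime 3) := ⟨by norm_num⟩
  obtain ⟨y', hy'⟩ := exists_prime_orderOf_dvd_card' (G := centralizer ({c ^ 2} : Set G)) 3
    (by rw [hC]; norm_num)
  obtain ⟨y, hyC, hy3⟩ : ∃ y : G, y ∈ centralizer ({c ^ 2} : Set G) ∧ orderOf y = 3 :=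
    ⟨(y' : G), y'.2, by rw [Subgroup.orderOf_coe]; exact hy'⟩
  have hy3' : y ^ 3 = 1 := by rw [← hy3]; exact pow_orderOf_eq_one y
  have hy1 : y ≠ 1 := by
    intro h
    rw [h, orderOf_one] at hy3
    omega
  have hyz : y * c ^ 2 * y⁻¹ = c ^ 2 := by
    rw [(hCmem y).mp hyC, mul_inv_cancel_right]
  have hCy : ∀ g : G, g ∈ centralizer ({y} : Set G) ↔ g * y = y * g := by
    intro g
    rw [mem_centralizer_iff]
    constructor
    · intro h; exact (h _ rfl).symm
    · intro h x hx
      rw [Set.mem_singleton_iff] at hx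
      rw [hx]; exact h.symm
  -- a Sylow 3-subgroup containing `y`
  have hRp : IsPGroup 3 (zpowers y) :=
    IsPGroup.of_card (n := 1) (by rw [Nat.card_zpowers, hy3]; norm_num)
  obtain ⟨P, hP⟩ := hRp.exists_le_sylow
  have hP9 := card_sylow_three h360 P
  have hPcomm : IsMulCommutative (P : Subgroup G) :=
    IsPGroup.isMulCommutative_of_card_eq_prime_sq (p := 3) (by rw [hP9]; norm_num)
  have hyP : y ∈ (P : Subgroup G) := hP (mem_zpowers y)
  have hPy : (P : Subgroup G) ≤ centralizer ({y} : Set G) := by
    intro g hg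
    rw [hCy]
    exact congrArg Subtype.val (hPcomm.is_comm.comm ⟨g, hg⟩ ⟨y, hyP⟩)
  -- `Y = C ∩ C(y)` has order divisible by 4
  have hyY : y ∈ centralizer ({c ^ 2} : Set G) ⊓ centralizer ({y} : Set G) :=
    mem_inf.mpr ⟨hyC, (hCy y).mpr rfl⟩
  have h4Y : 4 ∣ Nat.card ↥(centralizer ({c ^ 2} : Set G) ⊓ centralizer ({y} : Set G)) := by
    by_cases hnorm : centralizer ({c ^ 2} : Set G) ≤ normalizer ((S : Subgroup G) : Set G)
    · -- `y` normalizes `S`, hence centralizes `c`
      have hyN := hnorm hyC
      have h1 : y * c * y⁻¹ ∈ (S : Subgroup G) := (mem_normalizer_iff.mp hyN c).mp hcS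
      have h2 : orderOf (y * c * y⁻¹) = 4 := by
        rw [Cfsg.Agent.Lib.Helper55_Ord8.orderOf_conj', hc4]
      have h3 : y * c * y⁻¹ ∈ zpowers c := by
        by_contra hno
        have h4 := hall _ h1 hno
        have h5 : orderOf (y * c * y⁻¹) ∣ 2 := orderOf_dvd_of_pow_eq_one (by rw [pow_two]; exact h4)
        rw [h2] at h5
        omega
      have hyc : y * c * y⁻¹ = c := by
        rcases Cfsg.Agent.Lib.Helper55_Ord8.eq_or_eq_inv_of_orderOf_four hc4 h3 h2 with h | h
        · exact h
        · exfalso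
          -- `y²` commutes with `c`, so `y = y⁴` does
          have h6 : y * y * c * (y * y)⁻¹ = c := by
            calc y * y * c * (y * y)⁻¹ = y * (y * c * y⁻¹) * y⁻¹ := by group
              _ = y * c⁻¹ * y⁻¹ := by rw [h]
              _ = (y * c * y⁻¹)⁻¹ := by group
              _ = c := by rw [h, inv_inv]
          have h7 : y = y * y * (y * y) := by
            have : y * y * (y * y) = y ^ 3 * y := by
              simp only [pow_succ, pow_zero, one_mul, mul_assoc]
            rw [this, hy3', one_mul]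
          have h8 : y * c * y⁻¹ = c := by
            calc y * c * y⁻¹ = (y * y) * ((y * y) * c * (y * y)⁻¹) * (y * y)⁻¹ := by
                  conv_lhs => rw [h7]
                  group
              _ = c := by rw [h6, h6]
          rw [h8] at h
          have h9 : c ^ 2 = 1 := by
            rw [pow_two]
            calc c * c = c * c⁻¹ := by rw [← h]
              _ = 1 := mul_inv_cancel c
          exact hz1 h9
      have hcY : c ∈ centralizer ({c ^ 2} : Set G) ⊓ centralizer ({y} : Set G) := by
        refine mem_inf.mpr ⟨hSC hcS, (hCy c).mpr ?_⟩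
        calc c * y = (y * c * y⁻¹) * y := by rw [hyc]
          _ = y * c := by group
      have h10 := orderOf_dvd_natCard (⟨c, hcY⟩ :
        ↥(centralizer ({c ^ 2} : Set G) ⊓ centralizer ({y} : Set G)))
      rwa [Subgroup.orderOf_mk, hc4] at h10
    · -- another Sylow 2-subgroup of `C`
      obtain ⟨g, hgC, hgN⟩ := SetLike.not_le_iff_exists.mp hnorm
      have hgz : g * c ^ 2 * g⁻¹ = c ^ 2 := by
        rw [(hCmem g).mp hgC, mul_inv_cancel_right]
      obtain ⟨T, hT⟩ : ∃ T : Subgroup G, T = (S : Subgroup G).map (MulAut.conj g).toMonoidHom :=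
        ⟨_, rfl⟩
      have hTmem : ∀ x : G, x ∈ T ↔ ∃ s ∈ (S : Subgroup G), g * s * g⁻¹ = x := by
        intro x
        rw [hT, mem_map]
        simp only [MulEquiv.coe_toMonoidHom, MulAut.conj_apply]
      have hT8 : Nat.card T = 8 := by
        rw [hT, Subgroup.card_map_of_injective (MulAut.conj g).injective]
        exact hS8
      have hTC : T ≤ centralizer ({c ^ 2} : Set G) := by
        intro x hx
        obtain ⟨s, hs, rfl⟩ := (hTmem x).mp hx
        exact mul_mem (mul_mem hgC (hSC hs)) (inv_mem hgC)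
      have hTS : T ≠ (S : Subgroup G) := by
        intro h
        apply hgN
        rw [mem_normalizer_iff]
        intro x
        constructor
        · intro hx
          rw [← h]
          exact (hTmem _).mpr ⟨x, hx, rfl⟩
        · intro hx
          rw [← h] at hx
          obtain ⟨s, hs, hsx⟩ := (hTmem _).mp hx
          have : s = x := by
            have h1 : g⁻¹ * (g * s * g⁻¹) * g = g⁻¹ * (g * x * g⁻¹) * g := by rw [hsx]
            simpa [mul_assoc] using h1
          rw [← this]; exact hs
      -- `D = S ∩ T` has order 4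
      have hrel3 : (S : Subgroup G).relIndex (centralizer ({c ^ 2} : Set G)) = 3 := by
        have h1 := card_mul_relIndex' hSC
        rw [hS8, hC] at h1
        omega
      have hrelle : (S : Subgroup G).relIndex T ≤ 3 := by
        rw [← hrel3]
        exact relIndex_le_of_le_right hTC (by rw [hrel3]; norm_num)
      have hD1 : Nat.card ↥((S : Subgroup G) ⊓ T) * ((S : Subgroup G) ⊓ T).relIndex T = 8 := by
        rw [card_mul_relIndex' inf_le_right, hT8]
      rw [inf_relIndex_right] at hD1
      have hD2 : Nat.card ↥((S : Subgroup G) ⊓ T) ∣ 8 := Dvd.intro _ hD1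
      have hDne8 : Nat.card ↥((S : Subgroup G) ⊓ T) ≠ 8 := by
        intro h
        have e1 : (S : Subgroup G) ⊓ T = (S : Subgroup G) :=
          Subgroup.eq_of_le_of_card_ge inf_le_left (by rw [h, hS8])
        have e2 : (S : Subgroup G) ⊓ T = T :=
          Subgroup.eq_of_le_of_card_ge inf_le_right (by rw [h, hT8])
        exact hTS (e2.symm.trans e1)
      have hD4 : Nat.card ↥((S : Subgroup G) ⊓ T) = 4 := by
        have hpos : 0 < Nat.card ↥((S : Subgroup G) ⊓ T) := Nat.card_pos
        have hle : Nat.card ↥((S : Subgroup G) ⊓ T) ≤ 8 := Nat.le_of_dvd (by norm_num) hD2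
        generalize Nat.card ↥((S : Subgroup G) ⊓ T) = d at *
        generalize (S : Subgroup G).relIndex T = r at *
        interval_cases d <;> omega
      have hrelS : ((S : Subgroup G) ⊓ T).relIndex (S : Subgroup G) = 2 := by
        have h1 := card_mul_relIndex' (inf_le_left : (S : Subgroup G) ⊓ T ≤ (S : Subgroup G))
        rw [hD4, hS8] at h1
        omega
      have hrelT : ((S : Subgroup G) ⊓ T).relIndex T = 2 := by
        have h1 := card_mul_relIndex' (inf_le_right : (S : Subgroup G) ⊓ T ≤ T)
        rw [hD4, hT8] at h1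
        omega
      -- `C` normalizes `D`
      have hSN : (S : Subgroup G) ≤ centralizer ({c ^ 2} : Set G) ⊓
          normalizer ((((S : Subgroup G) ⊓ T : Subgroup G)) : Set G) := by
        refine le_inf hSC ?_
        intro s hs
        rw [mem_normalizer_iff]
        intro x
        constructor
        · intro hx
          exact (conj_mem_iff_of_relIndex_two' hrelS hs (mem_inf.mp hx).1).mpr hx
        · intro hx
          have hxS : x ∈ (S : Subgroup G) := by
            have h2 : s * x * s⁻¹ ∈ (S : Subgroup G) := (mem_inf.mp hx).1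
            have h3 : s⁻¹ * (s * x * s⁻¹) * s ∈ (S : Subgroup G) :=
              mul_mem (mul_mem (inv_mem hs) h2) hs
            have h4 : s⁻¹ * (s * x * s⁻¹) * s = x := by group
            rwa [h4] at h3
          exact (conj_mem_iff_of_relIndex_two' hrelS hs hxS).mp hx
      have hTN : T ≤ centralizer ({c ^ 2} : Set G) ⊓
          normalizer ((((S : Subgroup G) ⊓ T : Subgroup G)) : Set G) := by
        refine le_inf hTC ?_
        intro s hs
        rw [mem_normalizer_iff]
        intro x
        constructor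
        · intro hx
          exact (conj_mem_iff_of_relIndex_two' hrelT hs (mem_inf.mp hx).2).mpr hx
        · intro hx
          have hxT : x ∈ T := by
            have h2 : s * x * s⁻¹ ∈ T := (mem_inf.mp hx).2
            have h3 : s⁻¹ * (s * x * s⁻¹) * s ∈ T :=
              mul_mem (mul_mem (inv_mem hs) h2) hs
            have h4 : s⁻¹ * (s * x * s⁻¹) * s = x := by group
            rwa [h4] at h3
          exact (conj_mem_iff_of_relIndex_two' hrelT hs hxT).mp hx
      have hK24 : Nat.card ↥(centralizer ({c ^ 2} : Set G) ⊓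
          normalizer ((((S : Subgroup G) ⊓ T : Subgroup G)) : Set G)) = 24 := by
        have h8 : 8 ∣ Nat.card ↥(centralizer ({c ^ 2} : Set G) ⊓
            normalizer ((((S : Subgroup G) ⊓ T : Subgroup G)) : Set G)) :=
          hS8 ▸ Subgroup.card_dvd_of_le hSN
        have h24 : Nat.card ↥(centralizer ({c ^ 2} : Set G) ⊓
            normalizer ((((S : Subgroup G) ⊓ T : Subgroup G)) : Set G)) ∣ 24 :=
          hC ▸ Subgroup.card_dvd_of_le inf_le_left
        have hne8 : Nat.card ↥(centralizer ({c ^ 2} : Set G) ⊓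
            normalizer ((((S : Subgroup G) ⊓ T : Subgroup G)) : Set G)) ≠ 8 := by
          intro h
          have e1 := Subgroup.eq_of_le_of_card_ge hSN (by rw [h, hS8])
          have e2 := Subgroup.eq_of_le_of_card_ge hTN (by rw [h, hT8])
          exact hTS (e2.trans e1.symm)
        have hle : Nat.card ↥(centralizer ({c ^ 2} : Set G) ⊓
            normalizer ((((S : Subgroup G) ⊓ T : Subgroup G)) : Set G)) ≤ 24 :=
          Nat.le_of_dvd (by norm_num) h24
        generalize Nat.card ↥(centralizer ({c ^ 2} : Set G) ⊓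
            normalizer ((((S : Subgroup G) ⊓ T : Subgroup G)) : Set G)) = k at *
        obtain ⟨j, rfl⟩ := h8
        have : j ≤ 3 := by omega
        interval_cases j <;> omega
      have hCN : centralizer ({c ^ 2} : Set G) ≤
          normalizer ((((S : Subgroup G) ⊓ T : Subgroup G)) : Set G) := by
        have e1 : centralizer ({c ^ 2} : Set G) ⊓
            normalizer ((((S : Subgroup G) ⊓ T : Subgroup G)) : Set G) =
            centralizer ({c ^ 2} : Set G) :=
          Subgroup.eq_of_le_of_card_ge inf_le_left (by rw [hK24, hC])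
        rw [← e1]
        exact inf_le_right
      have hzD : c ^ 2 ∈ (S : Subgroup G) ⊓ T :=
        mem_inf.mpr ⟨hzS, (hTmem _).mpr ⟨c ^ 2, hzS, hgz⟩⟩
      have hcent := centralizes_of_card_four ((S : Subgroup G) ⊓ T) hD4 y (hCN hyC) hy3'
        (c ^ 2) hzD hz1 hyz
      have hDY : (S : Subgroup G) ⊓ T ≤
          centralizer ({c ^ 2} : Set G) ⊓ centralizer ({y} : Set G) := by
        intro d hd
        refine mem_inf.mpr ⟨hSC (mem_inf.mp hd).1, (hCy d).mpr ?_⟩
        have h1 := hcent d hd
        calc d * y = (y * d * y⁻¹) * y := by rw [h1]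
          _ = y * d := by group
      exact hD4 ▸ Subgroup.card_dvd_of_le hDY
  -- so `Y` has order 12 or 24
  have h3Y : 3 ∣ Nat.card ↥(centralizer ({c ^ 2} : Set G) ⊓ centralizer ({y} : Set G)) := by
    have h1 := orderOf_dvd_natCard (⟨y, hyY⟩ :
      ↥(centralizer ({c ^ 2} : Set G) ⊓ centralizer ({y} : Set G)))
    rwa [Subgroup.orderOf_mk, hy3] at h1
  have hY24 : Nat.card ↥(centralizer ({c ^ 2} : Set G) ⊓ centralizer ({y} : Set G)) ∣ 24 :=
    hC ▸ Subgroup.card_dvd_of_le inf_le_left
  have h12Y : 12 ∣ Nat.card ↥(centralizer ({c ^ 2} : Set G) ⊓ centralizer ({y} : Set G)) :=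
    Nat.Coprime.mul_dvd_of_dvd_of_dvd (by norm_num : Nat.Coprime 4 3) h4Y h3Y
  -- `C` normalizes `⟨y⟩`
  have hconj : ∀ g ∈ centralizer ({c ^ 2} : Set G), g * y * g⁻¹ ∈ zpowers y := by
    have hcases : Nat.card ↥(centralizer ({c ^ 2} : Set G) ⊓ centralizer ({y} : Set G)) = 12 ∨
        Nat.card ↥(centralizer ({c ^ 2} : Set G) ⊓ centralizer ({y} : Set G)) = 24 := by
      have hle : Nat.card ↥(centralizer ({c ^ 2} : Set G) ⊓ centralizer ({y} : Set G)) ≤ 24 :=
        Nat.le_of_dvd (by norm_num) hY24
      have hpos : 0 < Nat.card ↥(centralizer ({c ^ 2} : Set G) ⊓ centralizer ({y} : Set G)) :=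
        Nat.card_pos
      obtain ⟨j, hj⟩ := h12Y
      rw [hj] at hle hpos ⊢
      have : j = 1 ∨ j = 2 := by omega
      rcases this with rfl | rfl
      · left; rfl
      · right; rfl
    rcases hcases with h12 | h24
    · intro g hg
      have hrel : (centralizer ({c ^ 2} : Set G) ⊓ centralizer ({y} : Set G)).relIndex
          (centralizer ({c ^ 2} : Set G)) = 2 := by
        have h1 := card_mul_relIndex'
          (inf_le_left : centralizer ({c ^ 2} : Set G) ⊓ centralizer ({y} : Set G) ≤ _)
        rw [h12, hC] at h1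
        omega
      have hwY : g * y * g⁻¹ ∈ centralizer ({c ^ 2} : Set G) ⊓ centralizer ({y} : Set G) :=
        (conj_mem_iff_of_relIndex_two' hrel hg hyC).mpr hyY
      exact mem_zpowers_of_card_twelve _ h12 y (g * y * g⁻¹) hyY hwY hy3
        (by rw [Cfsg.Agent.Lib.Helper55_Ord8.orderOf_conj', hy3])
        (fun h hh => ((hCy h).mp (mem_inf.mp hh).2))
    · intro g hg
      have e1 : centralizer ({c ^ 2} : Set G) ⊓ centralizer ({y} : Set G) =
          centralizer ({c ^ 2} : Set G) :=
        Subgroup.eq_of_le_of_card_ge inf_le_left (by rw [h24, hC])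
      have hgy : g ∈ centralizer ({y} : Set G) := by
        rw [← e1] at hg
        exact (mem_inf.mp hg).2
      have h1 : g * y * g⁻¹ = y := by
        rw [(hCy g).mp hgy, mul_inv_cancel_right]
      rw [h1]
      exact mem_zpowers y
  -- the normalizer of `⟨y⟩` is too large
  have hCN := le_normalizer_zpowers _ y hconj
  have hPN : (P : Subgroup G) ≤ normalizer ((zpowers y : Subgroup G) : Set G) := by
    apply le_normalizer_zpowers
    intro g hg
    have h1 : g * y * g⁻¹ = y := by
      rw [(hCy g).mp (hPy hg), mul_inv_cancel_right]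
    rw [h1]
    exact mem_zpowers y
  have h72 : 72 ∣ Nat.card ↥(normalizer ((zpowers y : Subgroup G) : Set G)) := by
    have h1 : 24 ∣ Nat.card ↥(normalizer ((zpowers y : Subgroup G) : Set G)) :=
      hC ▸ Subgroup.card_dvd_of_le hCN
    have h2 : 9 ∣ Nat.card ↥(normalizer ((zpowers y : Subgroup G) : Set G)) :=
      hP9 ▸ Subgroup.card_dvd_of_le hPN
    have h3 : Nat.lcm 24 9 ∣ Nat.card ↥(normalizer ((zpowers y : Subgroup G) : Set G)) :=
      Nat.lcm_dvd h1 h2
    exact h3
  have htop : normalizer ((zpowers y : Subgroup G) : Set G) = ⊤ := by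
    apply eq_top_of_sixty_lt h360
    have hpos : 0 < Nat.card ↥(normalizer ((zpowers y : Subgroup G) : Set G)) := Nat.card_pos
    have := Nat.le_of_dvd hpos h72
    omega
  have hn : (zpowers y).Normal := normalizer_eq_top_iff.mp htop
  have h5 := card_normal h360 (zpowers y)
  rw [Nat.card_zpowers, hy3] at h5
  omega

end TwentyFour

/-! ### conclusion -/

section Final

variable {G : Type*} [Group G] [Finite G] [IsSimpleGroup G]

/-- a simple group of order 360 has an involution whose centralizer is dihedral of order 8 -/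
theorem exists_dihedral_centralizer (h360 : Nat.card G = 360) :
    ∃ t : G, orderOf t = 2 ∧
      Nonempty (↥(centralizer ({t} : Set G)) ≃* DihedralGroup 4) := by
  have : Fact (Nat.Prime 2) := ⟨Nat.prime_two⟩
  let S : Sylow 2 G := default
  have hS8 := card_sylow_two h360 S
  obtain ⟨c, a, hcS, haS, hc4, hcen, haM, ha2, hac, hall⟩ := exists_dihedral_data h360 S
  have hz2 : orderOf (c ^ 2) = 2 := Cfsg.Agent.Lib.Helper55_Ord8.orderOf_sq hc4
  have hz1 : c ^ 2 ≠ 1 := by
    intro h
    rw [h, orderOf_one] at hz2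
    omega
  have hSC : (S : Subgroup G) ≤ centralizer ({c ^ 2} : Set G) := by
    intro s hs
    rw [mem_centralizer_iff]
    intro h hh
    rw [Set.mem_singleton_iff] at hh
    rw [hh]
    exact (hcen s hs).symm
  have h8C : 8 ∣ Nat.card (centralizer ({c ^ 2} : Set G)) := hS8 ▸ Subgroup.card_dvd_of_le hSC
  refine ⟨c ^ 2, hz2, ?_⟩
  rcases card_cases h360 _ (centralizer_ne_top h360 hz1) h8C with h | h | h
  · have hc' : orderOf (⟨c, hSC hcS⟩ : centralizer ({c ^ 2} : Set G)) = 4 := by
      rw [Subgroup.orderOf_mk]; exact hc4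
    refine Cfsg.Agent.Lib.Helper54_TwoGroups.nonempty_mulEquiv_dihedralGroup 4
      (⟨c, hSC hcS⟩ : centralizer ({c ^ 2} : Set G)) ⟨a, hSC haS⟩ hc'
      (Subtype.ext ha2) (Subtype.ext hac) ?_ (by rw [h])
    intro hmem
    exact haM ((coe_mem_zpowers_iff _ ⟨c, hSC hcS⟩ ⟨a, hSC haS⟩).mpr hmem)
  · exact (card_centralizer_ne_twentyfour h360 S c hcS hc4 hcen hall h).elim
  · exact (card_ne_forty h360 _ h).elim

end Final

end Cfsg.Agent.Lib.Helper55_Ord360
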