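import Mathlib
import Cfsg.Agent.Lib.Helper6_S6Defs
import Cfsg.Agent.Lib.Helper31_S6_ELEM
import Cfsg.Agent.Lib.Helper70_S6_TRANS
import Cfsg.Agent.Lib.Helper61_S6_ORB
import Cfsg.Agent.S3341

/-!
# S3333 market (architect helper6), package CASECC

The case where `N ∩ L` acts fixed point freely on `S ∖ 1`: then `C_L(x) = S` for `x ∈ S ∖ 1`, the
elements `x₀, x₁` of ORB are not conjugate in `L`, and S3341 applied to the simple group `L` gives
`L ≅ A₆`.
-/

set_option autoImplicit false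

namespace Cfsg.Agent.Lib.Helper46_S6_CASECC

open Cfsg.Agent.Lib.Helper6_S6Defs Equiv Equiv.Perm

variable {G : Type*} [Group G] [Finite G] {S : Subgroup G}

/-- CASECC with the conclusions of ELEM, TRANS and ORB as hypotheses -/
theorem case_cc_of (D : Setup G S) (L : Subgroup G) [L.Normal] (hSL : S ≤ L)
    (hs : IsSimpleGroup ↥L)
    (hcc : ∀ x ∈ S, x ≠ 1 → ∀ n ∈ Subgroup.normalizer (S : Set G) ⊓ L, n * x = x * n → n ∈ S)
    (hel : (∀ a ∈ S, ∀ b ∈ S, a * b = b * a) ∧ (∀ a ∈ S, a ^ 3 = 1))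
    (hsyl : ∃ P : Sylow 3 ↥L, S.subgroupOf L = P) (hcard : Nat.card ↥(S.subgroupOf L) = 9)
    (horb : ∃ x₀ ∈ S, ∃ x₁ ∈ S, x₀ ≠ 1 ∧ x₁ ≠ 1 ∧ ∀ g : G, g * x₀ * g⁻¹ ≠ x₁) :
    Nonempty (↥L ≃* alternatingGroup (Fin 6)) := by
  obtain ⟨P, hP⟩ := hsyl
  obtain ⟨hcomm, hexp⟩ := hel
  obtain ⟨x0, hx0, x1, hx1, hx01, hx11, hne⟩ := horb
  have := hs
  have hmem : ∀ l : ↥L, l ∈ S.subgroupOf L ↔ (l : G) ∈ S := fun l => Subgroup.mem_subgroupOf
  have hcommL : IsMulCommutative ↥(S.subgroupOf L) := by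
    refine ⟨⟨fun a b => ?_⟩⟩
    have ha : ((a : ↥L) : G) ∈ S := (hmem _).mp a.2
    have hb : ((b : ↥L) : G) ∈ S := (hmem _).mp b.2
    apply Subtype.ext
    apply Subtype.ext
    exact hcomm _ ha _ hb
  have hexpL : ∀ a ∈ S.subgroupOf L, a ^ 3 = 1 := by
    intro a ha
    apply Subtype.ext
    exact hexp _ ((hmem _).mp ha)
  have hord : ∀ x ∈ S, x ≠ 1 → ∀ hx : x ∈ L, orderOf (⟨x, hx⟩ : ↥L) = 3 := by
    intro x hxS hx1 hxL
    have : Fact (Nat.Prime 3) := ⟨Nat.prime_three⟩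
    apply orderOf_eq_prime
    · apply Subtype.ext
      exact hexp x hxS
    · intro h
      exact hx1 (congrArg Subtype.val h)
  have hclasses : ∃ a b : ↥L, orderOf a = 3 ∧ orderOf b = 3 ∧ ∀ g : ↥L, g * a * g⁻¹ ≠ b := by
    refine ⟨⟨x0, hSL hx0⟩, ⟨x1, hSL hx1⟩, hord x0 hx0 hx01 _, hord x1 hx1 hx11 _, ?_⟩
    intro g hg
    exact hne (g : G) (congrArg Subtype.val hg)
  have hcent : ∀ t ∈ S.subgroupOf L, t ≠ 1 →
      Subgroup.centralizer ({t} : Set ↥L) = S.subgroupOf L := by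
    intro t ht ht1
    have htS : (t : G) ∈ S := (hmem t).mp ht
    have ht1' : (t : G) ≠ 1 := fun h => ht1 (Subtype.ext h)
    apply le_antisymm
    · intro k hk
      rw [Subgroup.mem_centralizer_singleton_iff] at hk
      have hkG : (k : G) * (t : G) = (t : G) * (k : G) := congrArg Subtype.val hk
      have hkN : (k : G) ∈ Subgroup.normalizer (S : Set G) := by
        apply D.loc (t : G) htS ht1'
        rw [Subgroup.mem_centralizer_singleton_iff]
        exact hkG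
      exact (hmem k).mpr (hcc (t : G) htS ht1' (k : G) ⟨hkN, k.2⟩ hkG)
    · intro k hk
      rw [Subgroup.mem_centralizer_singleton_iff]
      apply Subtype.ext
      exact hcomm _ ((hmem k).mp hk) _ htS
  exact Cfsg.Agent.S3341.result P (S.subgroupOf L) hP hcommL hexpL hcard hclasses hcent

/-- **PKG CASECC** (S3333 market of helper6), verbatim statement. -/
theorem case_cc (D : Setup G S) (L : Subgroup G) [L.Normal] (hSL : S ≤ L)
    (hs : IsSimpleGroup ↥L)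
    (hcc : ∀ x ∈ S, x ≠ 1 → ∀ n ∈ Subgroup.normalizer (S : Set G) ⊓ L, n * x = x * n → n ∈ S) :
    Nonempty (↥L ≃* alternatingGroup (Fin 6)) :=
  case_cc_of D L hSL hs hcc (Cfsg.Agent.Lib.Helper31_S6_ELEM.elem D)
    (Cfsg.Agent.Lib.Helper70_S6_TRANS.trans_facts D L hSL).1
    (Cfsg.Agent.Lib.Helper70_S6_TRANS.trans_facts D L hSL).2.1
    (Cfsg.Agent.Lib.Helper61_S6_ORB.two_orbits D)

end Cfsg.Agent.Lib.Helper46_S6_CASECC
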