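import Mathlib
import Cfsg.Agent.Lib.Helper97_SpTensBasic

set_option autoImplicit false
set_option linter.unusedSectionVars false
set_option linter.unusedVariables false

/-!
SP3 package ALG3 (helper97's market): a `3 × 3` matrix `Ψ` with `Ψ + Ψ* = c` and `Ψ Ψ* = c'` scalar
(`Ψ* = S0 Ψᵀ S0` the `be`-adjoint) is scalar.
-/

namespace Cfsg.Agent.Lib.Helper46_SP3_ALG3

open Matrix Module
open Cfsg.Agent.Lib.Helper98_ExtDefs Cfsg.Agent.Lib.Helper97_TensDefs
  Cfsg.Agent.Lib.Helper97_SpTensDefs Cfsg.Agent.Lib.Helper97_SpTensBasic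

variable {F : Type*} [Field F] [Fintype F] {m : ℕ}

local notation "V" => Matrix (Fin m ⊕ Fin m) (Fin 3) F

theorem star_apply (Ψ : Matrix (Fin 3) (Fin 3) F) (i j : Fin 3) :
    (S0 F * Ψᵀ * S0 F) i j = Ψ (2 - j) (2 - i) := by
  fin_cases i <;> fin_cases j <;>
    simp [S0, Matrix.mul_apply, Fin.sum_univ_three, Matrix.vecMul, dotProduct]

/-- **ALG3**. -/
theorem scalar_of_sym_norm (h2 : (2 : F) ≠ 0) (Ψ : Matrix (Fin 3) (Fin 3) F) (c c' : F)
    (h : Ψ + S0 F * Ψᵀ * S0 F = c • 1) (h' : Ψ * (S0 F * Ψᵀ * S0 F) = c' • 1) :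
    ∃ l : F, Ψ = l • 1 := by
  have e : ∀ i j : Fin 3, Ψ i j + Ψ (2 - j) (2 - i) = c * (1 : Matrix (Fin 3) (Fin 3) F) i j := by
    intro i j
    have := congrFun (congrFun h i) j
    rwa [Matrix.add_apply, star_apply, Matrix.smul_apply, smul_eq_mul] at this
  have e' : ∀ i j : Fin 3, Ψ i 0 * Ψ (2 - j) 2 + Ψ i 1 * Ψ (2 - j) 1 + Ψ i 2 * Ψ (2 - j) 0 =
      c' * (1 : Matrix (Fin 3) (Fin 3) F) i j := by
    intro i j
    have := congrFun (congrFun h' i) j
    rw [Matrix.mul_apply, Fin.sum_univ_three, star_apply, star_apply, star_apply,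
      Matrix.smul_apply, smul_eq_mul] at this
    simpa using this
  have e00 := e 0 0
  have e11 := e 1 1
  have e02 := e 0 2
  have e20 := e 2 0
  have e01 := e 0 1
  have e10 := e 1 0
  have e'00 := e' 0 0
  have e'11 := e' 1 1
  have e'02 := e' 0 2
  have e'20 := e' 2 0
  simp at e00 e11 e02 e20 e01 e10 e'00 e'11 e'02 e'20
  have two_mul_eq_zero : ∀ x : F, x + x = 0 → x = 0 := by
    intro x hx
    have : (2 : F) * x = 0 := by linear_combination hx
    exact (mul_eq_zero.mp this).resolve_left h2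
  have p02 : Ψ 0 2 = 0 := two_mul_eq_zero _ e02
  have p20 : Ψ 2 0 = 0 := two_mul_eq_zero _ e20
  have p01 : Ψ 0 1 = 0 := by
    have : Ψ 0 1 ^ 2 = 0 := by
      rw [p02] at e'02
      linear_combination e'02
    exact pow_eq_zero_iff (by norm_num) |>.mp this
  have p21 : Ψ 2 1 = 0 := by
    have : Ψ 2 1 ^ 2 = 0 := by
      rw [p20] at e'20
      linear_combination e'20
    exact pow_eq_zero_iff (by norm_num) |>.mp this
  have p12 : Ψ 1 2 = 0 := by
    rw [p01] at e01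
    linear_combination e01
  have p10 : Ψ 1 0 = 0 := by
    rw [p21] at e10
    linear_combination e10
  have hd : (Ψ 0 0 - Ψ 2 2) ^ 2 = 0 := by
    rw [p01, p02] at e'00
    rw [p10, p12] at e'11
    linear_combination (Ψ 0 0 + Ψ 2 2 + 2 * Ψ 1 1) * e00 - (Ψ 0 0 + Ψ 2 2 + 2 * Ψ 1 1) * e11
      - 4 * e'00 + 4 * e'11
  have h02 : Ψ 0 0 = Ψ 2 2 := by
    have := pow_eq_zero_iff (by norm_num) |>.mp hd
    linear_combination this
  have h01 : Ψ 0 0 = Ψ 1 1 := by
    have : (2 : F) * (Ψ 0 0 - Ψ 1 1) = 0 := by linear_combination e00 - e11 + h02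
    have := (mul_eq_zero.mp this).resolve_left h2
    linear_combination this
  refine ⟨Ψ 1 1, ?_⟩
  ext i j
  fin_cases i <;> fin_cases j <;> simp [p01, p02, p10, p12, p20, p21, ← h01, ← h02]

end Cfsg.Agent.Lib.Helper46_SP3_ALG3
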