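import Mathlib
import Cfsg.Agent.Lib.Helper97_SpTensBasic

set_option autoImplicit false
set_option linter.unusedSectionVars false
set_option linter.unusedVariables false

/-!
SP3 package INVOL (helper97's market): the involutions `refl y` of `B = F^3` and `rA x x'` of `A = F^(2m)`.
-/

namespace Cfsg.Agent.Lib.Helper46_SP3_INVOL

open Matrix Module
open Cfsg.Agent.Lib.Helper98_ExtDefs Cfsg.Agent.Lib.Helper97_TensDefs
  Cfsg.Agent.Lib.Helper97_SpTensDefs Cfsg.Agent.Lib.Helper97_SpTensBasic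
open Cfsg.Agent.Lib.Helper13_Symp

variable {F : Type*} [Field F] [Fintype F] {m : ℕ}

local notation "V" => Matrix (Fin m ⊕ Fin m) (Fin 3) F

/-- **INVOL** 1. -/
theorem refl_mulVec (y b : Fin 3 → F) : refl y *ᵥ b = b - (2 * be b y / be y y) • y := by
  unfold Cfsg.Agent.Lib.Helper97_SpTensDefs.refl
  rw [Matrix.sub_mulVec, Matrix.one_mulVec, Matrix.smul_mulVec, Matrix.vecMulVec_mulVec]
  congr 1
  have h1 : (S0 F *ᵥ y) ⬝ᵥ b = be b y := by rw [dotProduct_comm, ← be_eq_dotProduct]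
  rw [h1]
  ext i
  simp only [Pi.smul_apply, MulOpposite.smul_eq_mul_unop, MulOpposite.unop_op, smul_eq_mul]
  ring

theorem be_refl (y : Fin 3 → F) (hy : be y y ≠ 0) (a b : Fin 3 → F) :
    be (refl y *ᵥ a) (refl y *ᵥ b) = be a b := by
  rw [refl_mulVec, refl_mulVec]
  simp only [be_sub_left, be_sub_right, be_smul_left, be_smul_right]
  rw [be_comm y b]
  field_simp
  ring

/-- a matrix preserving `be` is orthogonal -/
theorem orth_of_preserves (R : Matrix (Fin 3) (Fin 3) F)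
    (h : ∀ a b : Fin 3 → F, be (R *ᵥ a) (R *ᵥ b) = be a b) : Rᵀ * S0 F * R = S0 F := by
  ext i j
  have h1 := h (Pi.single i 1) (Pi.single j 1)
  rw [be_eq_dotProduct, be_eq_dotProduct, Matrix.mulVec_mulVec, ← Matrix.vecMul_transpose,
    dotProduct_mulVec, Matrix.vecMul_vecMul, ← Matrix.mul_assoc, ← dotProduct_mulVec] at h1
  simpa [Matrix.mulVec_single_one, single_one_dotProduct, Matrix.col_apply] using h1

/-- **INVOL** 2. -/
theorem refl_orth (h2 : (2 : F) ≠ 0) (y : Fin 3 → F) (hy : be y y ≠ 0) :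
    (refl y)ᵀ * S0 F * refl y = S0 F :=
  orth_of_preserves (refl y) (be_refl y hy)

/-- **INVOL** 3. -/
theorem refl_sq (h2 : (2 : F) ≠ 0) (y : Fin 3 → F) (hy : be y y ≠ 0) : refl y * refl y = 1 := by
  apply Matrix.toLin'.injective
  apply LinearMap.ext
  intro b
  rw [Matrix.toLin'_mul, LinearMap.comp_apply, Matrix.toLin'_apply, Matrix.toLin'_apply,
    Matrix.toLin'_one, LinearMap.id_apply, refl_mulVec y b, refl_mulVec]
  simp only [be_sub_left, be_smul_left]
  ext i
  simp only [Pi.sub_apply, Pi.smul_apply, smul_eq_mul]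
  field_simp
  ring

/-- **INVOL** 4. -/
theorem rA_mulVec (x x' v : Fin m ⊕ Fin m → F) :
    rA m x x' *ᵥ v = v - (2 : F) • (Cfsg.sympForm m F v x' • x - Cfsg.sympForm m F v x • x') := by
  unfold rA
  rw [Matrix.sub_mulVec, Matrix.one_mulVec, Matrix.smul_mulVec, Matrix.sub_mulVec,
    Matrix.vecMulVec_mulVec, Matrix.vecMulVec_mulVec]
  have h1 : (Matrix.J (Fin m) F *ᵥ x') ⬝ᵥ v = Cfsg.sympForm m F v x' := by
    rw [dotProduct_comm]; rfl
  have h2 : (Matrix.J (Fin m) F *ᵥ x) ⬝ᵥ v = Cfsg.sympForm m F v x := by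
    rw [dotProduct_comm]; rfl
  rw [h1, h2]
  ext i
  simp only [Pi.sub_apply, Pi.smul_apply, MulOpposite.smul_eq_mul_unop, MulOpposite.unop_op,
    smul_eq_mul]
  ring

/-- **INVOL** 5. -/
theorem rA_mem (x x' : Fin m ⊕ Fin m → F) (h : Cfsg.sympForm m F x x' = 1) :
    rA m x x' ∈ Matrix.symplecticGroup (Fin m) F := by
  apply mem_symplecticGroup_of_preserves
  intro u v
  have h' : Cfsg.sympForm m F x' x = -1 := by rw [sympForm_swap, h]
  rw [rA_mulVec, rA_mulVec]
  simp only [sympForm_sub_left, sympForm_sub_right, sympForm_smul_left, sympForm_smul_right,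
    sympForm_self, h, h']
  rw [sympForm_swap m x v, sympForm_swap m x' v]
  ring

/-- **INVOL** 6. -/
theorem rA_sq (x x' : Fin m ⊕ Fin m → F) (h : Cfsg.sympForm m F x x' = 1) :
    rA m x x' * rA m x x' = 1 := by
  have h' : Cfsg.sympForm m F x' x = -1 := by rw [sympForm_swap, h]
  apply Matrix.toLin'.injective
  apply LinearMap.ext
  intro v
  rw [Matrix.toLin'_mul, LinearMap.comp_apply, Matrix.toLin'_apply, Matrix.toLin'_apply,
    Matrix.toLin'_one, LinearMap.id_apply, rA_mulVec x x' v, rA_mulVec]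
  simp only [sympForm_sub_left, sympForm_smul_left, sympForm_self, h, h']
  ext i
  simp only [Pi.sub_apply, Pi.smul_apply, smul_eq_mul]
  ring

/-- **INVOL** 7. -/
theorem rA_mulVec_self (x x' : Fin m ⊕ Fin m → F) (h : Cfsg.sympForm m F x x' = 1) :
    rA m x x' *ᵥ x = - x := by
  rw [rA_mulVec, h, sympForm_self]
  ext i
  simp only [Pi.sub_apply, Pi.smul_apply, Pi.neg_apply, smul_eq_mul]
  ring

end Cfsg.Agent.Lib.Helper46_SP3_INVOL
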