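import Mathlib
import Cfsg.Agent.Lib.Helper97_SpTensBasic

set_option autoImplicit false
set_option linter.unusedSectionVars false
set_option linter.unusedVariables false

/-!
# SP3 market (architect helper97): common lemmas for the packages QRADI and QRADFIN

The element `q_u = (1 + n_u) ⊗ 1 ∈ M`, `n_u v = sympForm v x • u + sympForm v u • x` (`u ⊥ x`), root elements as Kronecker
maps, a dual vector `x'` with `sympForm x' x = 1`, and `(x^⊥)^⊥ = ⟨x⟩`.
-/

namespace Cfsg.Agent.Lib.Helper99_SP3_QCommon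

open Matrix Module
open Cfsg.Agent.Lib.Helper98_ExtDefs Cfsg.Agent.Lib.Helper97_TensDefs
  Cfsg.Agent.Lib.Helper97_SpTensDefs Cfsg.Agent.Lib.Helper97_SpTensBasic
  Cfsg.Agent.Lib.Helper13_Symp Cfsg.Agent.Lib.Helper13_SympTrans Cfsg.Agent.Lib.Helper97_TensBasic

variable {F : Type*} [Field F] {m : ℕ}

local notation "V" => Matrix (Fin m ⊕ Fin m) (Fin 3) F

theorem ctr_add_left (x u : Fin m ⊕ Fin m → F) (X : V) :
    ctr m (x + u) X = ctr m x X + ctr m u X := by
  funext k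
  simp only [ctr, sympForm_add_right, Pi.add_apply]

theorem vecMulVec_zero_right (x : Fin m ⊕ Fin m → F) : vecMulVec x (0 : Fin 3 → F) = 0 := by
  ext i k; simp [vecMulVec_apply]

theorem vecMulVec_sub_right (x : Fin m ⊕ Fin m → F) (y y' : Fin 3 → F) :
    vecMulVec x (y - y') = vecMulVec x y - vecMulVec x y' := by
  ext i k; simp [vecMulVec_apply, mul_sub]

theorem vecMulVec_neg_right (x : Fin m ⊕ Fin m → F) (y : Fin 3 → F) :
    vecMulVec x (-y) = - vecMulVec x y := by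
  ext i k; simp [vecMulVec_apply]

/-- the root element `t_x(c) ⊗ 1` as a Kronecker map -/
theorem root_kron (x : Fin m ⊕ Fin m → F) (c : F) (X : V) :
    Cfsg.sympTransvection m x c * X * (1 : Matrix (Fin 3) (Fin 3) F)ᵀ = X + c • nA m x X := by
  rw [transpose_one, Matrix.mul_one, eq_sum_cols X]
  simp only [Matrix.mul_add, map_add, smul_add, nA_vecMulVec, mul_vecMulVec, sympTransvection_mulVec,
    add_vecMulVec, smul_vecMulVec, smul_smul]
  abel

/-- the root element `1 + c N_x` as an element of `M` which is Kronecker -/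
theorem exists_root {M : Subgroup (V ≃ₗ[F] V)} (hK : KronSp m M) (x : Fin m ⊕ Fin m → F) (c : F) :
    ∃ g ∈ M, IsKron g ∧ ∀ X, g X = X + c • nA m x X := by
  obtain ⟨g, hg, hgx⟩ := hasMap_root hK x c
  refine ⟨g, hg, ⟨Cfsg.sympTransvection m x c, 1, fun X => ?_⟩, hgx⟩
  rw [hgx, root_kron]

/-- the element `q_u = (1 + n_u) ⊗ 1` of `M`, `u ⊥ x` -/
theorem exists_q {M : Subgroup (V ≃ₗ[F] V)} (hK : KronSp m M) (x u : Fin m ⊕ Fin m → F)
    (hu : Cfsg.sympForm m F u x = 0) :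
    ∃ q ∈ M, IsKron q ∧ ∀ X, q X = X + vecMulVec u (ctr m x X) + vecMulVec x (ctr m u X) := by
  obtain ⟨g₁, hg₁, hk₁, h₁⟩ := exists_root hK (x + u) 1
  obtain ⟨g₂, hg₂, hk₂, h₂⟩ := exists_root hK x (-1)
  obtain ⟨g₃, hg₃, hk₃, h₃⟩ := exists_root hK u (-1)
  refine ⟨g₁ * (g₂ * g₃), M.mul_mem hg₁ (M.mul_mem hg₂ hg₃), isKron_mul hk₁ (isKron_mul hk₂ hk₃), ?_⟩
  intro X
  have hxu : Cfsg.sympForm m F x u = 0 := by rw [sympForm_swap, hu, neg_zero]
  rw [LinearEquiv.mul_apply, LinearEquiv.mul_apply, h₃, h₂, h₁]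
  have e3 : X + (-1 : F) • nA m u X = X - vecMulVec u (ctr m u X) := by
    rw [nA_apply, neg_one_smul, sub_eq_add_neg]
  rw [e3]
  have cx3 : ctr m x (X - vecMulVec u (ctr m u X)) = ctr m x X := by
    rw [ctr_sub, ctr_vecMulVec, hu, zero_smul, sub_zero]
  have cu3 : ctr m u (X - vecMulVec u (ctr m u X)) = ctr m u X := by
    rw [ctr_sub, ctr_self, sub_zero]
  have e2 : (X - vecMulVec u (ctr m u X)) + (-1 : F) • nA m x (X - vecMulVec u (ctr m u X)) =
      X - vecMulVec u (ctr m u X) - vecMulVec x (ctr m x X) := by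
    rw [nA_apply, cx3, neg_one_smul, ← sub_eq_add_neg]
  rw [e2]
  have cx2 : ctr m x (X - vecMulVec u (ctr m u X) - vecMulVec x (ctr m x X)) = ctr m x X := by
    rw [ctr_sub, cx3, ctr_self, sub_zero]
  have cu2 : ctr m u (X - vecMulVec u (ctr m u X) - vecMulVec x (ctr m x X)) = ctr m u X := by
    rw [ctr_sub, cu3, ctr_vecMulVec, hxu, zero_smul, sub_zero]
  rw [one_smul, nA_apply, ctr_add_left, cx2, cu2, add_vecMulVec, vecMulVec_add, vecMulVec_add]
  abel

/-- a vector `x'` with `sympForm x' x = 1` -/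
theorem exists_dual {x : Fin m ⊕ Fin m → F} (hx : x ≠ 0) :
    ∃ x' : Fin m ⊕ Fin m → F, Cfsg.sympForm m F x' x = 1 := by
  obtain ⟨w, hw⟩ := exists_sympForm_ne_zero m hx
  have hw' : Cfsg.sympForm m F w x ≠ 0 := by
    rw [sympForm_swap]; exact neg_ne_zero.mpr hw
  refine ⟨(Cfsg.sympForm m F w x)⁻¹ • w, ?_⟩
  rw [sympForm_smul_left, inv_mul_cancel₀ hw']

/-- `(x^⊥)^⊥ = ⟨x⟩` -/
theorem mem_span_of_perp {x : Fin m ⊕ Fin m → F} (hx : x ≠ 0) (v : Fin m ⊕ Fin m → F)
    (h : ∀ w, Cfsg.sympForm m F w x = 0 → Cfsg.sympForm m F v w = 0) : ∃ c : F, v = c • x := by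
  obtain ⟨x', hx'⟩ := exists_dual hx
  refine ⟨- Cfsg.sympForm m F v x', ?_⟩
  by_contra hne
  have hne' : v - (- Cfsg.sympForm m F v x') • x ≠ 0 := fun h0 => hne (sub_eq_zero.mp h0)
  obtain ⟨w, hw⟩ := exists_sympForm_ne_zero m hne'
  apply hw
  have h1 : Cfsg.sympForm m F (w - Cfsg.sympForm m F w x • x') x = 0 := by
    rw [sympForm_sub_left, sympForm_smul_left, hx', mul_one, sub_self]
  have h2 := h _ h1
  rw [sympForm_sub_right, sympForm_smul_right] at h2
  rw [sympForm_sub_left, sympForm_smul_left, sympForm_swap m x w]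
  linear_combination h2

/-- if `Y` is `tf`-orthogonal to `x ⊗ B` then its contraction with `x` vanishes -/
theorem ctr_eq_zero_of_tf (Y : V) (x : Fin m ⊕ Fin m → F)
    (h : ∀ b : Fin 3 → F, tf m Y (vecMulVec x b) = 0) : ctr m x Y = 0 := by
  apply eq_zero_of_be
  intro b
  rw [← tf_vecMulVec_right]
  exact h b

/-- the `be`-adjoint of `Ψ` is `S0 Ψᵀ S0` -/
theorem be_adj (Ψ : Matrix (Fin 3) (Fin 3) F) (b b' : Fin 3 → F) :
    be ((S0 F * Ψᵀ * S0 F) *ᵥ b) b' = be b (Ψ *ᵥ b') := by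
  simp only [be, S0, Matrix.mulVec, dotProduct, Fin.sum_univ_three, Matrix.mul_apply,
    Matrix.transpose_apply, Matrix.of_apply, Matrix.cons_val', Matrix.cons_val_zero,
    Matrix.cons_val_one, Matrix.cons_val_two, Matrix.empty_val', Matrix.cons_val_fin_one]
  simp
  ring

end Cfsg.Agent.Lib.Helper99_SP3_QCommon
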