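import Mathlib
import Cfsg.Agent.Lib.Helper97_SpTensBasic
import Cfsg.Agent.Lib.Helper99_SP3_QCommon

set_option autoImplicit false
set_option linter.unusedSectionVars false
set_option linter.unusedVariables false

/-!
SP3 package LEVI2 (helper97's market): an element of `M` fixing `l_x` pointwise and acting "tensorially" on
`l_x^⊥ / l_x` agrees modulo `l_x` on `l_x^⊥` with a Kronecker element `P ⊗ 1` of `M`.
-/

namespace Cfsg.Agent.Lib.Helper46_SP3_LEVI2

open Matrix Module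
open Cfsg.Agent.Lib.Helper98_ExtDefs Cfsg.Agent.Lib.Helper97_TensDefs
  Cfsg.Agent.Lib.Helper97_SpTensDefs Cfsg.Agent.Lib.Helper97_SpTensBasic
open Cfsg.Agent.Lib.Helper13_Symp Cfsg.Agent.Lib.Helper99_SP3_QCommon

variable {F : Type*} [Field F] [Fintype F] {m : ℕ}

local notation "V" => Matrix (Fin m ⊕ Fin m) (Fin 3) F

/-- `u ↦ u ⊗ b` -/
def tensL (b : Fin 3 → F) : (Fin m ⊕ Fin m → F) →ₗ[F] V where
  toFun u := vecMulVec u b
  map_add' u u' := add_vecMulVec u u' b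
  map_smul' c u := by rw [smul_vecMulVec, RingHom.id_apply]

/-- the `k`-th column -/
def colL (k : Fin 3) : V →ₗ[F] (Fin m ⊕ Fin m → F) where
  toFun X := colv X k
  map_add' _ _ := rfl
  map_smul' _ _ := rfl

/-- `v ↦ sympForm v w` -/
def sfL (w : Fin m ⊕ Fin m → F) : (Fin m ⊕ Fin m → F) →ₗ[F] F where
  toFun v := Cfsg.sympForm m F v w
  map_add' v v' := sympForm_add_left m v v' w
  map_smul' c v := by rw [sympForm_smul_left, RingHom.id_apply, smul_eq_mul]

/-- `π₀ u = ` the `e1`-column of `g (u ⊗ e1)` -/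
def pi0 (g : V ≃ₗ[F] V) : (Fin m ⊕ Fin m → F) →ₗ[F] (Fin m ⊕ Fin m → F) :=
  colL 1 ∘ₗ g.toLinearMap ∘ₗ tensL e1

theorem pi0_apply (g : V ≃ₗ[F] V) (u : Fin m ⊕ Fin m → F) :
    pi0 g u = colv (g (vecMulVec u e1)) 1 := rfl

/-- the projection onto `⟨x, x'⟩^⊥` -/
def projL (x x' : Fin m ⊕ Fin m → F) : (Fin m ⊕ Fin m → F) →ₗ[F] (Fin m ⊕ Fin m → F) :=
  LinearMap.id + (sfL x').smulRight x - (sfL x).smulRight x'

theorem projL_apply (x x' v : Fin m ⊕ Fin m → F) :
    projL x x' v = v + Cfsg.sympForm m F v x' • x - Cfsg.sympForm m F v x • x' := rfl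

/-- the symplectic map `P` -/
def PL (g : V ≃ₗ[F] V) (x x' : Fin m ⊕ Fin m → F) :
    (Fin m ⊕ Fin m → F) →ₗ[F] (Fin m ⊕ Fin m → F) :=
  (sfL x).smulRight x' - (sfL x').smulRight x + pi0 g ∘ₗ projL x x' +
    ((sfL x') ∘ₗ pi0 g ∘ₗ projL x x').smulRight x

theorem PL_apply (g : V ≃ₗ[F] V) (x x' v : Fin m ⊕ Fin m → F) :
    PL g x x' v = Cfsg.sympForm m F v x • x' - Cfsg.sympForm m F v x' • x + pi0 g (projL x x' v) +
      Cfsg.sympForm m F (pi0 g (projL x x' v)) x' • x := rfl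

theorem pi0_x (x : Fin m ⊕ Fin m → F) (g : V ≃ₗ[F] V)
    (hg1 : ∀ y : Fin 3 → F, g (vecMulVec x y) = vecMulVec x y) : pi0 g x = x := by
  rw [pi0_apply, hg1, colv_vecMulVec]
  simp [e1]

theorem pi0_spec (x : Fin m ⊕ Fin m → F) (g : V ≃ₗ[F] V)
    (hten : ∀ u : Fin m ⊕ Fin m → F, Cfsg.sympForm m F u x = 0 →
      ∃ γ : Fin m ⊕ Fin m → F, Cfsg.sympForm m F γ x = 0 ∧
        ∀ b : Fin 3 → F, g (vecMulVec u b) - vecMulVec γ b ∈ bfib x)
    (u : Fin m ⊕ Fin m → F) (hu : Cfsg.sympForm m F u x = 0) :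
    Cfsg.sympForm m F (pi0 g u) x = 0 ∧
      ∀ b : Fin 3 → F, g (vecMulVec u b) - vecMulVec (pi0 g u) b ∈ bfib x := by
  obtain ⟨γ, hγ, hb⟩ := hten u hu
  obtain ⟨y, hy⟩ := hb e1
  have h1 : pi0 g u = γ + y 1 • x := by
    have := congrArg (fun X => colv X 1) hy
    simp only [colv_sub, colv_vecMulVec] at this
    rw [pi0_apply]
    have he : (e1 : Fin 3 → F) 1 = 1 := by simp [e1]
    rw [he, one_smul] at this
    rw [← this]
    abel
  refine ⟨?_, fun b => ?_⟩
  · rw [h1, sympForm_add_left, sympForm_smul_left, hγ, sympForm_self, mul_zero, add_zero]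
  · have h2 : g (vecMulVec u b) - vecMulVec (pi0 g u) b =
        (g (vecMulVec u b) - vecMulVec γ b) - vecMulVec x (y 1 • b) := by
      rw [h1, add_vecMulVec, smul_vecMulVec, vecMulVec_smul]
      abel
    rw [h2]
    exact (bfib x).sub_mem (hb b) (vecMulVec_mem_bfib x _)

theorem pi0_isom (M : Subgroup (V ≃ₗ[F] V)) (hSp : MSp m M) (x : Fin m ⊕ Fin m → F)
    (g : V ≃ₗ[F] V) (hg : g ∈ M)
    (hten : ∀ u : Fin m ⊕ Fin m → F, Cfsg.sympForm m F u x = 0 →
      ∃ γ : Fin m ⊕ Fin m → F, Cfsg.sympForm m F γ x = 0 ∧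
        ∀ b : Fin 3 → F, g (vecMulVec u b) - vecMulVec γ b ∈ bfib x)
    (u u' : Fin m ⊕ Fin m → F) (hu : Cfsg.sympForm m F u x = 0)
    (hu' : Cfsg.sympForm m F u' x = 0) :
    Cfsg.sympForm m F (pi0 g u) (pi0 g u') = Cfsg.sympForm m F u u' := by
  obtain ⟨hp, hb⟩ := pi0_spec x g hten u hu
  obtain ⟨hp', hb'⟩ := pi0_spec x g hten u' hu'
  obtain ⟨y, hy⟩ := hb e1
  obtain ⟨y', hy'⟩ := hb' e1
  have e : g (vecMulVec u e1) = vecMulVec (pi0 g u) e1 + vecMulVec x y := by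
    rw [← hy]; abel
  have e' : g (vecMulVec u' e1) = vecMulVec (pi0 g u') e1 + vecMulVec x y' := by
    rw [← hy']; abel
  have h := hSp g hg (vecMulVec u e1) (vecMulVec u' e1)
  have hp'' : Cfsg.sympForm m F x (pi0 g u') = 0 := by rw [sympForm_swap, hp', neg_zero]
  rw [e, e', tf_vecMulVec] at h
  simp only [tf_add_left, tf_add_right, tf_vecMulVec, hp, hp'', sympForm_self, be_e1_e1, zero_mul,
    mul_one, add_zero] at h
  exact h


theorem projL_perp (x x' : Fin m ⊕ Fin m → F) (hx' : Cfsg.sympForm m F x' x = 1)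
    (v : Fin m ⊕ Fin m → F) : Cfsg.sympForm m F (projL x x' v) x = 0 := by
  rw [projL_apply]
  simp only [sympForm_add_left, sympForm_sub_left, sympForm_smul_left, sympForm_self, hx']
  ring

theorem PL_isom (M : Subgroup (V ≃ₗ[F] V)) (hSp : MSp m M) (x x' : Fin m ⊕ Fin m → F)
    (hx' : Cfsg.sympForm m F x' x = 1) (g : V ≃ₗ[F] V) (hg : g ∈ M)
    (hten : ∀ u : Fin m ⊕ Fin m → F, Cfsg.sympForm m F u x = 0 →
      ∃ γ : Fin m ⊕ Fin m → F, Cfsg.sympForm m F γ x = 0 ∧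
        ∀ b : Fin 3 → F, g (vecMulVec u b) - vecMulVec γ b ∈ bfib x)
    (v v' : Fin m ⊕ Fin m → F) :
    Cfsg.sympForm m F (PL g x x' v) (PL g x x' v') = Cfsg.sympForm m F v v' := by
  have hxx' : Cfsg.sympForm m F x x' = -1 := by rw [sympForm_swap, hx']
  have hw : Cfsg.sympForm m F (projL x x' v) x = 0 := projL_perp x x' hx' v
  have hw' : Cfsg.sympForm m F (projL x x' v') x = 0 := projL_perp x x' hx' v'
  have hww' : Cfsg.sympForm m F (projL x x' v) (projL x x' v') =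
      Cfsg.sympForm m F v v' + Cfsg.sympForm m F v x * Cfsg.sympForm m F v' x'
        - Cfsg.sympForm m F v' x * Cfsg.sympForm m F v x' := by
    rw [projL_apply, projL_apply]
    simp only [sympForm_add_left, sympForm_add_right, sympForm_sub_left, sympForm_sub_right,
      sympForm_smul_left, sympForm_smul_right, sympForm_self, hx', hxx']
    rw [sympForm_swap m x v', sympForm_swap m x' v']
    ring
  obtain ⟨hp, -⟩ := pi0_spec x g hten _ hw
  obtain ⟨hp', -⟩ := pi0_spec x g hten _ hw'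
  have hiso := pi0_isom M hSp x g hg hten _ _ hw hw'
  have hxp' : Cfsg.sympForm m F x (pi0 g (projL x x' v')) = 0 := by
    rw [sympForm_swap, hp', neg_zero]
  have hx'p' : Cfsg.sympForm m F x' (pi0 g (projL x x' v')) =
      - Cfsg.sympForm m F (pi0 g (projL x x' v')) x' := sympForm_swap m _ _
  rw [PL_apply, PL_apply]
  simp only [sympForm_add_left, sympForm_add_right, sympForm_sub_left, sympForm_sub_right,
    sympForm_smul_left, sympForm_smul_right, sympForm_self, hx', hxx', hp, hxp', hx'p', hiso, hww']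
  ring

/-- **LEVI2**. -/
theorem levi_finish (h2 : (2 : F) ≠ 0) (M : Subgroup (V ≃ₗ[F] V)) (hSp : MSp m M) (hK : KronSp m M)
    (x : Fin m ⊕ Fin m → F) (hx : x ≠ 0)
    (g : V ≃ₗ[F] V) (hg : g ∈ M) (hg1 : ∀ y : Fin 3 → F, g (vecMulVec x y) = vecMulVec x y)
    (hten : ∀ u : Fin m ⊕ Fin m → F, Cfsg.sympForm m F u x = 0 →
      ∃ γ : Fin m ⊕ Fin m → F, Cfsg.sympForm m F γ x = 0 ∧
        ∀ b : Fin 3 → F, g (vecMulVec u b) - vecMulVec γ b ∈ bfib x) :
    ∃ h ∈ M, IsKron h ∧ (∀ y : Fin 3 → F, h (vecMulVec x y) = vecMulVec x y) ∧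
      ∀ X : V, ctr m x X = 0 → g X - h X ∈ bfib x := by
  obtain ⟨x', hx'⟩ := exists_dual hx
  have hxx' : Cfsg.sympForm m F x x' = -1 := by rw [sympForm_swap, hx']
  have hPv : ∀ v, LinearMap.toMatrix' (PL g x x') *ᵥ v = PL g x x' v :=
    fun v => LinearMap.toMatrix'_mulVec _ _
  have hPmem : LinearMap.toMatrix' (PL g x x') ∈ Matrix.symplecticGroup (Fin m) F := by
    apply mem_symplecticGroup_of_preserves
    intro u v
    rw [hPv, hPv]
    exact PL_isom M hSp x x' hx' g hg hten u v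
  have hQ : (1 : Matrix (Fin 3) (Fin 3) F)ᵀ * S0 F * 1 = S0 F := by
    rw [transpose_one, Matrix.one_mul, Matrix.mul_one]
  obtain ⟨h, hhM, hhx0⟩ := hK _ 1 hPmem hQ
  have hhx : ∀ X : V, h X = LinearMap.toMatrix' (PL g x x') * X * (1 : Matrix (Fin 3) (Fin 3) F)ᵀ :=
    hhx0
  have hh : ∀ (u : Fin m ⊕ Fin m → F) (b : Fin 3 → F),
      h (vecMulVec u b) = vecMulVec (PL g x x' u) b := by
    intro u b
    rw [hhx, kron_vecMulVec, hPv, Matrix.one_mulVec]
  have hPu : ∀ u : Fin m ⊕ Fin m → F, Cfsg.sympForm m F u x = 0 →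
      ∃ c : F, PL g x x' u = pi0 g u + c • x := by
    intro u hu
    have hproj : projL x x' u = u + Cfsg.sympForm m F u x' • x := by
      rw [projL_apply, hu, zero_smul, sub_zero]
    have hpi : pi0 g (projL x x' u) = pi0 g u + Cfsg.sympForm m F u x' • x := by
      rw [hproj, map_add, map_smul, pi0_x x g hg1]
    refine ⟨Cfsg.sympForm m F (pi0 g (projL x x' u)) x', ?_⟩
    rw [PL_apply, hu, zero_smul]
    generalize Cfsg.sympForm m F (pi0 g (projL x x' u)) x' = c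
    rw [hpi]
    abel
  have hPx : PL g x x' x = x := by
    have hproj : projL x x' x = 0 := by
      rw [projL_apply, sympForm_self, hxx', zero_smul, sub_zero, neg_one_smul, add_neg_cancel]
    rw [PL_apply, hproj, map_zero, sympForm_self, hxx', sympForm_zero_left, zero_smul, zero_smul,
      neg_one_smul]
    abel
  have key : ∀ u : Fin m ⊕ Fin m → F, Cfsg.sympForm m F u x = 0 → ∀ b : Fin 3 → F,
      g (vecMulVec u b) - h (vecMulVec u b) ∈ bfib x := by
    intro u hu b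
    obtain ⟨-, hb⟩ := pi0_spec x g hten u hu
    obtain ⟨c, hc⟩ := hPu u hu
    have e : g (vecMulVec u b) - h (vecMulVec u b) =
        (g (vecMulVec u b) - vecMulVec (pi0 g u) b) - vecMulVec x (c • b) := by
      rw [hh, hc, add_vecMulVec, smul_vecMulVec, vecMulVec_smul]
      abel
    rw [e]
    exact (bfib x).sub_mem (hb b) (vecMulVec_mem_bfib x _)
  refine ⟨h, hhM, ⟨_, 1, hhx⟩, fun y => by rw [hh, hPx], ?_⟩
  intro X hX
  have hcol : ∀ k, Cfsg.sympForm m F (colv X k) x = 0 := fun k => congrFun hX k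
  have e : g X - h X =
      (g (vecMulVec (colv X 0) e0) - h (vecMulVec (colv X 0) e0)) +
      (g (vecMulVec (colv X 1) e1) - h (vecMulVec (colv X 1) e1)) +
      (g (vecMulVec (colv X 2) e2) - h (vecMulVec (colv X 2) e2)) := by
    conv_lhs => rw [eq_sum_cols X]
    simp only [map_add]
    abel
  rw [e]
  exact (bfib x).add_mem ((bfib x).add_mem (key _ (hcol 0) e0) (key _ (hcol 1) e1))
    (key _ (hcol 2) e2)

end Cfsg.Agent.Lib.Helper46_SP3_LEVI2
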