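import Cfsg.Agent.Lib.Helper13_SimsDefs
import Cfsg.Agent.Lib.Helper91_Sims_BASE
import Cfsg.Agent.Lib.Helper91_Sims_ARC

/-!
# Sims package C-EX (architect helper13): existence of the critical distance.
-/

set_option autoImplicit false

namespace Cfsg.Agent.Lib.Helper46_Sims_CEX

open MulAction Cfsg.Agent.Lib.Helper13_SimsDefs
open Cfsg.Agent.Lib.Helper91_Sims_BASE Cfsg.Agent.Lib.Helper91_Sims_ARC

section
variable {G Ω : Type*} [Group G] [MulAction G Ω] {a b : Ω}

/-- connectivity in the orbital graph is `G`-invariant -/
theorem conn_smul (g : G) {x y : Ω} (h : Relation.ReflTransGen (Adj G a b) x y) :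
    Relation.ReflTransGen (Adj G a b) (g • x) (g • y) := by
  induction h with
  | refl => exact Relation.ReflTransGen.refl
  | tail _ hyz ih => exact ih.tail (adj_smul g hyz)

theorem conn_symm {x y : Ω} (h : Relation.ReflTransGen (Adj G a b) x y) :
    Relation.ReflTransGen (Adj G a b) y x := by
  induction h with
  | refl => exact Relation.ReflTransGen.refl
  | tail _ hyz ih => exact Relation.ReflTransGen.head (adj_symm hyz) ih

/-- the setwise stabiliser of the connected component of `a` -/
def compStab (G : Type*) {Ω : Type*} [Group G] [MulAction G Ω] (a b : Ω) : Subgroup G where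
  carrier := {g | ∀ y, Relation.ReflTransGen (Adj G a b) a (g • y) ↔
    Relation.ReflTransGen (Adj G a b) a y}
  one_mem' := fun y => by rw [one_smul]
  mul_mem' := by
    intro g k hg hk y
    rw [mul_smul, hg, hk]
  inv_mem' := by
    intro g hg y
    rw [← hg (g⁻¹ • y), smul_inv_smul]

theorem mem_compStab_of_conn (g : G) (h : Relation.ReflTransGen (Adj G a b) a (g • a)) :
    g ∈ compStab G a b := by
  intro y
  constructor
  · intro hy
    -- `g • a ~> g • y` hence, applying `g⁻¹`, `a ~> y`
    have h1 : Relation.ReflTransGen (Adj G a b) (g • a) (g • y) := (conn_symm h).trans hy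
    have h2 := conn_smul g⁻¹ h1
    rwa [inv_smul_smul, inv_smul_smul] at h2
  · intro hy
    exact h.trans (conn_smul g hy)

/-- the orbital graph is connected -/
theorem connected (H : Hyp G a b) (y : Ω) : Relation.ReflTransGen (Adj G a b) a y := by
  have hab : Adj G a b a b := Or.inl arc_ab
  have hca : stabilizer G a ≤ compStab G a b := by
    intro g hg
    apply mem_compStab_of_conn
    rw [mem_stabilizer_iff.mp hg]
  have hcb : stabilizer G b ≤ compStab G a b := by
    intro g hg
    apply mem_compStab_of_conn
    -- `a ~ b = g • b ~ g • a`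
    have h1 : Relation.ReflTransGen (Adj G a b) (g • b) (g • a) :=
      conn_smul g (Relation.ReflTransGen.single (adj_symm hab))
    rw [mem_stabilizer_iff.mp hg] at h1
    exact (Relation.ReflTransGen.single hab).trans h1
  have htop : compStab G a b = ⊤ := by
    apply top_unique
    rw [← gen_top H (a_ne_b H)]
    exact sup_le hca hcb
  obtain ⟨g, rfl⟩ := trans H a y
  have hg : g ∈ compStab G a b := by rw [htop]; exact Subgroup.mem_top g
  exact (hg a).mpr Relation.ReflTransGen.refl

/-- a path gives a walk -/
theorem exists_walk {x y : Ω} (h : Relation.ReflTransGen (Adj G a b) x y) :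
    ∃ (w : ℕ → Ω) (j : ℕ), IsWalk G a b w j ∧ w 0 = x ∧ w j = y := by
  induction h with
  | refl => exact ⟨fun _ => x, 0, fun i hi => absurd hi (Nat.not_lt_zero i), rfl, rfl⟩
  | @tail y z _ hyz ih =>
    obtain ⟨w, j, hw, h0, hj⟩ := ih
    refine ⟨fun i => if i ≤ j then w i else z, j + 1, ?_, ?_, ?_⟩
    · intro i hi
      rcases Nat.lt_or_ge i j with hlt | hge
      · have h1 : i ≤ j := by omega
        have h2 : i + 1 ≤ j := by omega
        simp only [h1, h2, if_true]
        exact hw i hlt
      · have hij : i = j := by omega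
        subst hij
        have h2 : ¬ (i + 1 ≤ i) := by omega
        simp only [le_refl, if_true, h2, if_false]
        rw [hj]
        exact hyz
    · simp only [Nat.zero_le, if_true]
      exact h0
    · have h2 : ¬ (j + 1 ≤ j) := by omega
      simp only [h2, if_false]

theorem Vst_le_Kst' (x : Ω) : Vst G a b x ≤ Kst G a b x := fun _ hg => hg.1

/-- **C-EX**. -/
theorem exists_crit (H : Hyp G a b) (F : FF G a b) : ∃ bb, 1 ≤ bb ∧ IsCrit G a b bb := by
  classical
  have hfin := H.fin
  have hfaith := H.faith
  -- some bad walk exists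
  have hex : ∃ j, ∃ w, IsBad G a b w j := by
    by_contra hcon
    push Not at hcon
    have hV : ∀ v ∈ Vst G a b a, v = 1 := by
      intro v hv
      apply hfaith.eq_of_smul_eq_smul
      intro y
      rw [one_smul]
      obtain ⟨w, j, hw, h0, hj⟩ := exists_walk (connected H y)
      have hnb := hcon j w
      unfold IsBad at hnb
      push Not at hnb
      have hle := hnb hw
      rw [h0, hj] at hle
      have hvK : v ∈ Kst G a b y := hle hv
      exact mem_stabilizer_iff.mp hvK.1
    have hbot : Vst G a b a = ⊥ := (Subgroup.eq_bot_iff_forall _).mpr hV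
    have hc := F.cardV a
    rw [hbot, Subgroup.card_bot] at hc
    omega
  refine ⟨Nat.find hex, ?_, Nat.find_spec hex, ?_⟩
  · rw [Nat.one_le_iff_ne_zero]
    intro h0
    obtain ⟨w, hw, hbad⟩ := Nat.find_spec hex
    rw [h0] at hbad
    exact hbad (Vst_le_Kst' (w 0))
  · intro j hj w hbad
    exact Nat.find_min hex hj ⟨w, hbad⟩

end

end Cfsg.Agent.Lib.Helper46_Sims_CEX
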