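import Mathlib

set_option autoImplicit false

/-!
# S2342 market (architect helper23), package D: `(q-1)(q⁴+q³+1)` does not divide `|³D₄(q)|`.
-/

namespace Cfsg.Agent.Lib.Helper46_TD4_D

/-- the integer form. -/
theorem not_dvd_int (x : ℤ) (hx : 2 ≤ x) :
    ¬ (x ^ 5 - x ^ 3 + x - 1) ∣ x ^ 12 * (x ^ 2 - 1) * (x ^ 6 - 1) * (x ^ 8 + x ^ 4 + 1) := by
  intro hz
  have hA : x ^ 5 - x ^ 3 + x - 1 = (x - 1) * (x ^ 4 + x ^ 3 + 1) := by ring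
  have hM : x ^ 12 * (x ^ 2 - 1) * (x ^ 6 - 1) * (x ^ 8 + x ^ 4 + 1) =
      (x - 1) * ((x ^ 12 * (x + 1) * (x + 1) * (x ^ 4 - x ^ 2 + 1)) *
        ((x - 1) * (x ^ 4 + x ^ 2 + 1) * (x ^ 4 + x ^ 2 + 1))) := by ring
  rw [hA, hM] at hz
  have hx1 : x - 1 ≠ 0 := by omega
  have hz' := (mul_dvd_mul_iff_left hx1).1 hz
  have c_q : IsCoprime (x ^ 4 + x ^ 3 + 1) x := ⟨1, -(x ^ 3 + x ^ 2), by ring⟩
  have c_q1 : IsCoprime (x ^ 4 + x ^ 3 + 1) (x + 1) := ⟨1, -x ^ 3, by ring⟩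
  have c_B' : IsCoprime (x ^ 4 + x ^ 3 + 1) (x ^ 4 - x ^ 2 + 1) := by
    have h1 : IsCoprime (x ^ 4 + x ^ 3 + 1) (x ^ 2 * (x + 1)) := (c_q.pow_right).mul_right c_q1
    have h3 : x ^ 4 - x ^ 2 + 1 = -(x ^ 2 * (x + 1)) + (x ^ 4 + x ^ 3 + 1) * 1 := by ring
    rw [h3]
    exact (h1.neg_right).add_mul_left_right 1
  have c_all : IsCoprime (x ^ 4 + x ^ 3 + 1) (x ^ 12 * (x + 1) * (x + 1) * (x ^ 4 - x ^ 2 + 1)) :=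
    (((c_q.pow_right).mul_right c_q1).mul_right c_q1).mul_right c_B'
  have h4 : (x ^ 4 + x ^ 3 + 1) ∣ (x - 1) * (x ^ 4 + x ^ 2 + 1) * (x ^ 4 + x ^ 2 + 1) :=
    c_all.dvd_of_dvd_mul_left hz'
  have h5 : (x - 1) * (x ^ 4 + x ^ 2 + 1) * (x ^ 4 + x ^ 2 + 1) =
      (x ^ 4 + x ^ 3 + 1) * ((x - 1) * ((x ^ 4 + x ^ 3 + 1) - 2 * x ^ 2 * (x - 1))) +
        x ^ 4 * (x - 1) ^ 3 := by ring
  rw [h5] at h4
  have h6 : (x ^ 4 + x ^ 3 + 1) ∣ x ^ 4 * (x - 1) ^ 3 :=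
    (dvd_add_right (Dvd.intro _ rfl)).1 h4
  have h7 : (x ^ 4 + x ^ 3 + 1) ∣ (x - 1) ^ 3 := (c_q.pow_right (n := 4)).dvd_of_dvd_mul_left h6
  have hpos : 0 < (x - 1) ^ 3 := pow_pos (by omega : (0 : ℤ) < x - 1) 3
  have hle := Int.le_of_dvd hpos h7
  nlinarith [sq_nonneg x, sq_nonneg (x - 1), pow_pos (by omega : (0 : ℤ) < x) 4]

/-- PKG D (M).  Step D, arithmetic: `(q-1)(q⁴+q³+1)` does not divide `|³D₄(q)|`. -/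
theorem not_dvd_order (q : ℕ) (hq : 2 ≤ q) :
    ¬ (q ^ 5 - q ^ 3 + q - 1) ∣ q ^ 12 * (q ^ 2 - 1) * (q ^ 6 - 1) * (q ^ 8 + q ^ 4 + 1) := by
  intro hdvd
  have h53 : q ^ 3 ≤ q ^ 5 := Nat.pow_le_pow_right (by omega) (by norm_num)
  have h1 : 1 ≤ q ^ 5 - q ^ 3 + q := by omega
  have h2 : 1 ≤ q ^ 2 := Nat.one_le_pow _ _ (by omega)
  have h6 : 1 ≤ q ^ 6 := Nat.one_le_pow _ _ (by omega)
  have hz := Int.natCast_dvd_natCast.2 hdvd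
  rw [Nat.cast_mul, Nat.cast_mul, Nat.cast_mul, Nat.cast_sub h1, Nat.cast_add, Nat.cast_sub h53,
    Nat.cast_sub h2, Nat.cast_sub h6] at hz
  push_cast at hz
  exact not_dvd_int (q : ℤ) (by exact_mod_cast hq) hz

end Cfsg.Agent.Lib.Helper46_TD4_D
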