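import Cfsg.Agent.Lib.Helper36_TwistPerfE6
import Cfsg.Agent.Lib.Helper36_ChevCore
import Cfsg.Agent.Lib.Helper36_Gen2

set_option autoImplicit false
set_option maxRecDepth 100000

/-!
The twisted group of type `²E₆` over the field with `q ^ 2` elements is generated by two elements (S2406): the product
of a diagonal element `h` (of a generator of the multiplicative group, on the nodes `1` and `6`) and the root element
`x_{p₄}(1)`, and the product of the element of parameter `1` of the class of the nodes `3, 5` and a representative of a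
Coxeter element.
-/

namespace Cfsg.Agent.Lib.Helper46_TE6Gen

open Cfsg Cfsg.Lie Cfsg.Agent.Lib.Helper18_ChevFast Cfsg.Agent.Lib.Helper18_ChevEngine
  Cfsg.Agent.Lib.Helper18_ChevN Cfsg.Agent.Lib.Helper18_ChevWeyl
  Cfsg.Agent.Lib.Helper18_ChevGL Cfsg.Agent.Lib.Helper18_ChevTri
  Cfsg.Agent.Lib.Helper18_ChevAdd Cfsg.Agent.Lib.Helper18_ChevUni Cfsg.Agent.Lib.Helper18_ChevBN
  Cfsg.Agent.Lib.Helper36_TwistU Cfsg.Agent.Lib.Helper36_TwistW Cfsg.Agent.Lib.Helper36_TwistH
  Cfsg.Agent.Lib.Helper36_TwistTabE6 Cfsg.Agent.Lib.Helper36_TwistE6 Cfsg.Agent.Lib.Helper36_TwistHE6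
  Cfsg.Agent.Lib.Helper36_ChevTorus Cfsg.Agent.Lib.Helper36_ChevHOrder Cfsg.Agent.Lib.Helper36_ChevTables
  Cfsg.Agent.Lib.Helper36_TwistPerf Cfsg.Agent.Lib.Helper36_Gen2

section field

variable {K : Type*} [Field K] [Fintype K] {q : ℕ} (hK : Fintype.card K = q ^ 2)

include hK in
theorem two_le_q : 2 ≤ q := by
  have h1 : 1 < Fintype.card K := Fintype.one_lt_card
  rw [hK] at h1
  by_contra hcon
  have : q ≤ 1 := by omega
  have : q ^ 2 ≤ 1 ^ 2 := Nat.pow_le_pow_left this 2
  omega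

include hK in
theorem card_units2 : Nat.card Kˣ = q ^ 2 - 1 := by
  rw [Nat.card_units, Nat.card_eq_fintype_card, hK]

include hK in
/-- A generator of the multiplicative group and its order. -/
theorem exists_gen2 : ∃ g : Kˣ, (∀ x : Kˣ, x ∈ Submonoid.powers g) ∧ orderOf g = q ^ 2 - 1 := by
  obtain ⟨g, hg⟩ := IsCyclic.exists_generator (α := Kˣ)
  refine ⟨g, fun x => ?_, ?_⟩
  · rw [(isOfFinOrder_of_finite g).mem_powers_iff_mem_zpowers]
    exact hg x
  · rw [orderOf_eq_card_of_forall_mem_zpowers hg, card_units2 hK]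

include hK in
/-- The norm to the subfield with `q` elements is onto. -/
theorem norm_surj (g : Kˣ) (hg : ∀ x : Kˣ, x ∈ Submonoid.powers g) (ho : orderOf g = q ^ 2 - 1)
    (z : K) (hz0 : z ≠ 0) (hz : z ^ q = z) : ∃ t : Kˣ, (t : K) * (t : K) ^ q = z := by
  have h2 := two_le_q hK
  obtain ⟨i, hi⟩ := (Submonoid.mem_powers_iff (Units.mk0 z hz0) g).mp (hg _)
  have hzi : (g : K) ^ i = z := by
    have := congrArg Units.val hi
    simpa using this
  have h3 : (g ^ i) ^ (q - 1) = 1 := by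
    apply Units.ext
    have h4 : ((g ^ i : Kˣ) : K) ≠ 0 := Units.ne_zero _
    have h5 : ((g ^ i : Kˣ) : K) ^ (q - 1) * ((g ^ i : Kˣ) : K) = 1 * ((g ^ i : Kˣ) : K) := by
      rw [← pow_succ, one_mul, Nat.sub_add_cancel (by omega), Units.val_pow_eq_pow_val, hzi]
      exact hz
    rw [Units.val_pow_eq_pow_val, Units.val_one]
    exact mul_right_cancel₀ h4 h5
  rw [← pow_mul] at h3
  have h6 : orderOf g ∣ i * (q - 1) := orderOf_dvd_of_pow_eq_one h3
  have e : q ^ 2 - 1 = (q + 1) * (q - 1) := by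
    rw [← Nat.sq_sub_sq, one_pow]
  rw [ho, e] at h6
  have h7 : q + 1 ∣ i := Nat.dvd_of_mul_dvd_mul_right (by omega) h6
  obtain ⟨j, rfl⟩ := h7
  refine ⟨g ^ j, ?_⟩
  rw [← hzi, Units.val_pow_eq_pow_val]
  ring

end field

section generic

variable {D : ChevalleyDatum} {Ns : List NData} {K : Type*} [Field K]
variable {wl : List ℤ} {ws : List (List ℤ)} {sc : ℤ} {w : List ℤ}
variable (C : Certs D Ns K wl ws sc w)

include C in
/-- Conjugation of a root subgroup by `n_J`, with a sign that does not depend on the parameter. -/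
theorem nJ_conj_unif (J : List ℕ) (hJ : ∀ i ∈ J, i < D.rank) (s : ℕ) (hs : s < D.nroots) :
    ∃ η : K, η ≠ 0 ∧ ∀ t : K, nJ C.c K J * xGL C.c s t * (nJ C.c K J)⁻¹ = xGL C.c (reflJ D J s) (η * t) := by
  induction J with
  | nil =>
    refine ⟨1, one_ne_zero, fun t => ?_⟩
    simp [nJ, reflJ]
  | cons i J ih =>
    obtain ⟨η, hη0, hη⟩ := ih (fun j hj => hJ j (List.mem_cons_of_mem _ hj))
    have hlt := reflJ_lt C J (fun j hj => hJ j (List.mem_cons_of_mem _ hj)) s hs
    have hi := hJ i (by simp)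
    have hne : ((etaZ Ns i (reflJ D J s) : ℤ) : K) ≠ 0 := by
      have := eta_cast_sq (F := K) (C.c.etaZ_pm i hi _ hlt)
      intro h0
      rw [h0, mul_zero] at this
      exact zero_ne_one this
    refine ⟨((etaZ Ns i (reflJ D J s) : ℤ) : K) * η, mul_ne_zero hne hη0, fun t => ?_⟩
    rw [nJ_cons, reflJ_cons, mul_assoc _ η t, ← nGL_conj C.c i hi _ hlt, ← hη]
    group

end generic

section fill

variable {Γ K : Type*} [Group Γ] [Field K] (X : K → Γ) (hadd : ∀ s t : K, X (s + t) = X s * X t)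

include hadd in
/-- A root subgroup is filled by one non-trivial element and a diagonal element acting through a generator of the
multiplicative group. -/
theorem fill1 (G1 : Subgroup Γ) (h : Γ) (hG : h ∈ G1) (r : Kˣ) (hr : ∀ u : Kˣ, u ∈ Submonoid.powers r)
    (hh : ∀ t, h * X t * h⁻¹ = X ((r : K) * t)) (d : K) (hd : d ≠ 0) (hX : X d ∈ G1) (t : K) : X t ∈ G1 := by
  have hpow : ∀ k : ℕ, ∀ t : K, X t ∈ G1 → X ((r : K) ^ k * t) ∈ G1 := by
    intro k
    induction k with
    | zero => intro t ht; simpa using ht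
    | succ k ih =>
      intro t ht
      have h1 := ih t ht
      have h2 : X ((r : K) * ((r : K) ^ k * t)) ∈ G1 := by
        rw [← hh]
        exact G1.mul_mem (G1.mul_mem hG h1) (G1.inv_mem hG)
      have e : (r : K) ^ (k + 1) * t = (r : K) * ((r : K) ^ k * t) := by ring
      rw [e]
      exact h2
  by_cases ht : t = 0
  · rw [ht, X_zero X hadd]
    exact G1.one_mem
  · have hu : t / d ≠ 0 := div_ne_zero ht hd
    obtain ⟨k, hk⟩ := hr (Units.mk0 (t / d) hu)
    have e : t = (r : K) ^ k * d := by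
      have h1 := congrArg Units.val hk
      simp only [Units.val_pow_eq_pow_val, Units.val_mk0] at h1
      rw [h1, div_mul_cancel₀ _ hd]
    rw [e]
    exact hpow k d hX

end fill

section e6

variable {K : Type*} [Field K] [Fintype K] {q : ℕ} (hK : Fintype.card K = q ^ 2)
  (f : K →+* K) (hf : ∀ x : K, f x = x ^ q)

include hf in
/-- The element `h_i(a) h_j(f a)` of a pair of nodes exchanged by the symmetry lies in a subgroup that contains the
elements of the two classes of the pair. -/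
theorem pair_part_sub (G1 : Subgroup (GL chevE6.Idx K)) (i j : Fin chevE6.rank) (hij : Cross chevE6 i j)
    (r s r' s' : ℕ)
    (hr : chevE6.simple i = r ∧ chevE6.simple j = s ∧ chevE6.neg r = r' ∧ chevE6.neg s = s')
    (h1 : ∀ a : K, xGL dc r a * xGL dc s (f a) ∈ G1) (h2 : ∀ a : K, xGL dc r' a * xGL dc s' (f a) ∈ G1) (a : Kˣ) :
    torusHom chevE6 K (Pi.mulSingle i a * Pi.mulSingle j (Units.map (f : K →* K) a)) ∈ G1 := by
  rw [map_mul, torusHom_single chevE6 K (Helper36_ChevDataE6T.facts K) dc,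
    torusHom_single chevE6 K (Helper36_ChevDataE6T.facts K) dc, hGL_two certs hij, nT_two certs hij, nT_two certs hij,
    hr.1, hr.2.1, hr.2.2.1, hr.2.2.2]
  have e1 : ((Units.map (f : K →* K) a : Kˣ) : K) = f a := rfl
  have e2 : (-(f (a : K))⁻¹) = f (-(a : K)⁻¹) := (frob_neg_inv f hf _).symm
  have e3 : (-1 : K) = f (-1) := by rw [map_neg, map_one]
  have e4 : (-(-1 : K)⁻¹) = f (-(-1 : K)⁻¹) := by
    rw [frob_neg_inv f hf, map_neg, map_one]
  rw [e1, e2]
  refine Subgroup.mul_mem _ (Subgroup.mul_mem _ (Subgroup.mul_mem _ (h1 _) (h2 _)) (h1 _)) ?_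
  have h5 : xGL dc r (-1 : K) * xGL dc s (-1) ∈ G1 := by
    have := h1 (-1)
    rwa [← e3] at this
  have h6 : xGL dc r' (-(-1 : K)⁻¹) * xGL dc s' (-(-1 : K)⁻¹) ∈ G1 := by
    have := h2 (-(-1 : K)⁻¹)
    rwa [← e4] at this
  exact Subgroup.mul_mem _ (Subgroup.mul_mem _ h5 h6) h5

/-- The nodes of a Coxeter element. -/
def cox : List ℕ := [1, 3, 2, 4, 0, 5]

theorem cox_lt : ∀ i ∈ cox, i < chevE6.rank := by decide +kernel

include hf in
theorem omega_mem : nJ dc K cox ∈ twistedE6 K q := by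
  have h1 : nJ dc K [1] ∈ twistedE6 K q := nJ_mem f hf [1] (by simp [Js])
  have h3 : nJ dc K [3] ∈ twistedE6 K q := nJ_mem f hf [3] (by simp [Js])
  have h24 : nJ dc K [2, 4] ∈ twistedE6 K q := nJ_mem f hf [2, 4] (by simp [Js])
  have h05 : nJ dc K [0, 5] ∈ twistedE6 K q := nJ_mem f hf [0, 5] (by simp [Js])
  have e : nJ dc K cox = nJ dc K [1] * nJ dc K [3] * nJ dc K [2, 4] * nJ dc K [0, 5] := by
    unfold cox nJ
    simp only [List.map_cons, List.map_nil, List.prod_cons, List.prod_nil, mul_one, mul_assoc]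
  rw [e]
  exact mul_mem (mul_mem (mul_mem h1 h3) h24) h05

omit [Fintype K] in
theorem omega_mono : nJ dc K cox ∈ chevE6.monomialSubgroup K := by
  unfold nJ
  apply Subgroup.list_prod_mem
  intro g hg
  rw [List.mem_map] at hg
  obtain ⟨i, hi, rfl⟩ := hg
  exact nGL_mem_monomial dc i (cox_lt i hi)

theorem tabE : reflJ chevE6 cox 41 = 42 ∧ (41 : ℕ) < chevE6.nroots ∧ (42 : ℕ) < chevE6.nroots ∧
    chevE6.neg 42 < chevE6.nroots ∧ chevE6.neg 42 ≠ 42 ∧ (39 : ℕ) < chevE6.nroots := by decide +kernel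

omit [Fintype K] in
theorem xGL42_inj (a b : K) (h : xGL dc 42 a = xGL dc 42 b) : a = b := by
  obtain ⟨-, -, l42, ln, hne, -⟩ := tabE
  have h1 : xGL dc 42 (a + -b) = 1 := by
    rw [← xGL_mul, h, xGL_mul, add_neg_cancel, xGL_zero]
  have h2 : chevE6.x K 42 (a + -b) = 1 := by
    rw [← xGL_coe dc, h1]
    rfl
  have := Cfsg.Agent.Lib.Helper36_ChevCore.x_eq_one_imp chevE6 K 42 l42 ln hne _ h2
  linear_combination this

omit [Fintype K] in
theorem torusHom_mem_diag (u : Fin chevE6.rank → Kˣ) : torusHom chevE6 K u ∈ chevE6.diagonalSubgroup K := by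
  rw [← range_torusHom chevE6 K (Helper36_ChevDataE6T.facts K)]
  exact ⟨u, rfl⟩


def stepsS : List (List ℕ × List ℕ) :=
  [([41, 58], cox), ([62, 52], cox), ([43, 40], cox), ([49, 61], cox), ([15, 35], cox), ([29, 34], cox),
    ([30, 13], cox), ([9, 19], cox), ([28, 31], cox), ([22, 10], cox), ([56, 36], cox)]

def stepsL : List (List ℕ × List ℕ) :=
  [([46], cox), ([8], cox), ([27], cox), ([6], cox), ([20], cox), ([32], cox), ([25], cox)]

theorem chainS : chainValid chevE6 [[42, 37]] stepsS = true := by decide +kernel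

theorem chainL : chainValid chevE6 [[39]] stepsL = true := by decide +kernel

theorem orbTab : orbRoots pi 2 42 = [42, 37] ∧ orbRoots pi 2 29 = [29, 34] ∧ orbRoots pi 1 39 = [39] := by
  decide +kernel

theorem cartanTabE : chevE6.cartan 0 42 = -1 ∧ chevE6.cartan 5 42 = 0 ∧ chevE6.cartan 0 41 = 0 ∧
    chevE6.cartan 5 41 = 1 ∧ chevE6.cartan 0 39 = 0 ∧ chevE6.cartan 5 39 = 0 ∧ chevE6.cartan 2 39 = -1 ∧
    chevE6.cartan 4 39 = -1 := by decide +kernel

theorem memTab : ((42, 2) : ℕ × ℕ) ∈ cls ∧ ((42, 2) : ℕ × ℕ) ∈ gens ∧ ((29, 2) : ℕ × ℕ) ∈ gens ∧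
    ((39, 1) : ℕ × ℕ) ∈ cls ∧ ((39, 1) : ℕ × ℕ) ∈ gens := by decide +kernel


/-- The parameters of the diagonal generator. -/
def uh (f : K →+* K) (v : Kˣ) : Fin chevE6.rank → Kˣ :=
  Pi.mulSingle n0 v⁻¹ * Pi.mulSingle n5 (Units.map (f : K →* K) v⁻¹)

/-- The parameters of the diagonal elements of the nodes `3, 5`. -/
def uk (f : K →+* K) (t : Kˣ) : Fin chevE6.rank → Kˣ :=
  Pi.mulSingle n2 t * Pi.mulSingle n4 (Units.map (f : K →* K) t)

omit [Fintype K] in
theorem chi_uh (v : Kˣ) (s : ℕ) : chi chevE6 K (ext chevE6 K (uh f v)) s =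
    v⁻¹ ^ chevE6.cartan 0 s * (Units.map (f : K →* K) v⁻¹) ^ chevE6.cartan 5 s := by
  rw [uh, ext_mul, chi_mul, ext_mulSingle, ext_mulSingle, Pi.mul_apply,
    chi_single chevE6 K _ (by decide), chi_single chevE6 K _ (by decide)]
  rfl

omit [Fintype K] in
theorem chi_uk (t : Kˣ) (s : ℕ) : chi chevE6 K (ext chevE6 K (uk f t)) s =
    t ^ chevE6.cartan 2 s * (Units.map (f : K →* K) t) ^ chevE6.cartan 4 s := by
  rw [uk, ext_mul, chi_mul, ext_mulSingle, ext_mulSingle, Pi.mul_apply,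
    chi_single chevE6 K _ (by decide), chi_single chevE6 K _ (by decide)]
  rfl

omit [Fintype K] in
theorem chi_uh42 (v : Kˣ) : ((chi chevE6 K (ext chevE6 K (uh f v)) 42 : Kˣ) : K) = v := by
  obtain ⟨c1, c2, -⟩ := cartanTabE
  rw [chi_uh, c1, c2]
  simp

omit [Fintype K] in
theorem chi_uh41 (v : Kˣ) : ((chi chevE6 K (ext chevE6 K (uh f v)) 41 : Kˣ) : K) = (f (v : K))⁻¹ := by
  obtain ⟨-, -, c1, c2, -⟩ := cartanTabE
  rw [chi_uh, c1, c2]
  simp

omit [Fintype K] in
theorem chi_uh39 (v : Kˣ) : ((chi chevE6 K (ext chevE6 K (uh f v)) 39 : Kˣ) : K) = 1 := by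
  obtain ⟨-, -, -, -, c1, c2, -⟩ := cartanTabE
  rw [chi_uh, c1, c2]
  simp

omit [Fintype K] in
theorem chi_uk39 (t : Kˣ) : ((chi chevE6 K (ext chevE6 K (uk f t)) 39 : Kˣ) : K) = ((t : K) * f (t : K))⁻¹ := by
  obtain ⟨-, -, -, -, -, -, c1, c2⟩ := cartanTabE
  rw [chi_uk, c1, c2]
  simp [mul_comm]

include hf in
theorem uh_mem (v : Kˣ) : torusHom chevE6 K (uh f v) ∈ twistedE6 K q := by
  obtain ⟨s0, s1, s2, s3, s4, s5, m0, m1, m2, m3, m4, m5⟩ := simples
  exact pair_part f hf n0 n5 (crossOK [0, 5] (by decide) 0 (by decide) 5 (by decide) (by decide)) 56 36 15 35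
    ⟨s0, s5, m0, m5⟩ (by simp [e6p1, e6p6]) (by simp [e6m1, e6m6]) v⁻¹


include hK hf in
/-- The elements of the class of the nodes `3, 5` multiply as their parameters add. -/
theorem X_add (s t : K) : yS dc pi eps f (42, 2) (s + t) = yS dc pi eps f (42, 2) s * yS dc pi eps f (42, 2) t :=
  ((yS_mul certs (twist f) (42, 2) (classOK _ memTab.1) s t (closes_pair hK f hf _ memTab.2.1 rfl s)
    (closes_pair hK f hf _ memTab.2.1 rfl t)).2).symm

include hK hf in
/-- Conjugation of the elements of the class of the nodes `3, 5` by a diagonal element of the twisted group. -/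
theorem torus_X (χ : ℕ → Kˣ) (hG : torusGL chevE6 K (chi chevE6 K χ) ∈ twistedE6 K q) (t : K) :
    torusGL chevE6 K (chi chevE6 K χ) * yS dc pi eps f (42, 2) t * (torusGL chevE6 K (chi chevE6 K χ))⁻¹ =
      yS dc pi eps f (42, 2) ((chi chevE6 K χ 42 : K) * t) :=
  (torus_conj_yS certs (twist f) chainOK_E6 _
    (isRootCharacter_chi chevE6 K (Helper36_ChevDataE6T.facts K).hca χ) (fixed hK f hf _ hG) (42, 2)
    (classOK _ memTab.1) t (closes_pair hK f hf _ memTab.2.1 rfl t)).2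

include hK hf in
/-- The commutator of `h` and its conjugate by `x n` is a non-trivial element of the class of the nodes `3, 5`. -/
theorem step_A (v : Kˣ) (G1 : Subgroup (GL chevE6.Idx K))
    (hh : torusHom chevE6 K (uh f v) ∈ G1) (hb : yS dc pi eps f (42, 2) 1 * nJ dc K cox ∈ G1) :
    yS dc pi eps f (42, 2) (((v : K) - 1) * (1 - (f (v : K))⁻¹)) ∈ G1 := by
  have hF := Helper36_ChevDataE6T.facts K
  set h := torusHom chevE6 K (uh f v) with hh_def
  set ω := nJ dc K cox with hω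
  set X : K → GL chevE6.Idx K := fun t => yS dc pi eps f (42, 2) t with hX
  have hadd : ∀ s t, X (s + t) = X s * X t := fun s t => X_add hK f hf s t
  have hωG : ω ∈ twistedE6 K q := omega_mem f hf
  have hhG : h ∈ twistedE6 K q := uh_mem f hf v
  set h' := ω * h * ω⁻¹ with hh'
  have hdiag : h ∈ chevE6.diagonalSubgroup K := torusHom_mem_diag _
  have hdiag' : h' ∈ chevE6.diagonalSubgroup K :=
    ((Subgroup.mem_normalizer_iff).mp
      (Cfsg.Agent.Lib.Helper36_ChevCore.monomial_le_normalizer chevE6 K hF omega_mono) h).mp hdiag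
  obtain ⟨u, hu⟩ := (hF.mem_diag h').mp hdiag'
  have hu0 : h = torusGL chevE6 K (chi chevE6 K (ext chevE6 K (uh f v))) := rfl
  have hcomm : Commute h h' := by
    rw [hu, hu0]
    show _ * _ = _ * _
    rw [← torusGL_mul, ← torusGL_mul, mul_comm]
  have hG' : torusGL chevE6 K (chi chevE6 K u) ∈ twistedE6 K q := by
    rw [← hu]
    exact mul_mem (mul_mem hωG hhG) (inv_mem hωG)
  have hX' : h' * X 1 * h'⁻¹ = X ((chi chevE6 K u 42 : Kˣ) : K) := by
    have := torus_X hK f hf u hG' 1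
    rw [mul_one] at this
    rw [hu]
    exact this
  have hβ : ((chi chevE6 K u 42 : Kˣ) : K) = (f (v : K))⁻¹ := by
    obtain ⟨t1, l41, l42, -, -, -⟩ := tabE
    obtain ⟨η, hη0, hη⟩ := nJ_conj_unif (K := K) certs cox cox_lt 41 l41
    rw [t1] at hη
    have e1 : h' * xGL dc 42 (η * 1) * h'⁻¹ = xGL dc 42 (((chi chevE6 K u 42 : Kˣ) : K) * (η * 1)) := by
      rw [hu]
      exact torus_conj_x dc chainOK_E6 _ (isRootCharacter_chi chevE6 K hF.hca u) 42 l42 _
    have e2 : h' * xGL dc 42 (η * 1) * h'⁻¹ = xGL dc 42 (η * ((f (v : K))⁻¹ * 1)) := by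
      have c1 : ω * xGL dc 41 1 * ω⁻¹ = xGL dc 42 (η * 1) := hη 1
      have c2 : ω * xGL dc 41 ((f (v : K))⁻¹ * 1) * ω⁻¹ = xGL dc 42 (η * ((f (v : K))⁻¹ * 1)) := hη _
      have c3 : h * xGL dc 41 1 * h⁻¹ = xGL dc 41 ((f (v : K))⁻¹ * 1) := by
        rw [← chi_uh41 f v, hu0]
        exact torus_conj_x dc chainOK_E6 _ (isRootCharacter_chi chevE6 K hF.hca _) 41 l41 1
      rw [← c1, ← c2, ← c3, hh']
      group
    have e3 := xGL42_inj _ _ (e1.symm.trans e2)
    rw [mul_one, mul_one, mul_comm] at e3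
    exact mul_left_cancel₀ hη0 e3
  rw [hβ] at hX'
  have hκ : ∀ t, h * X t * h⁻¹ = X ((v : K) * t) := by
    intro t
    have := torus_X hK f hf (ext chevE6 K (uh f v)) hhG t
    rw [chi_uh42] at this
    exact this
  have hg := trick X hadd h h' hcomm (v : K) ((f (v : K))⁻¹) hκ hX'
  have hbh : X 1 * h' * (X 1)⁻¹ ∈ G1 := by
    have : X 1 * h' * (X 1)⁻¹ = (X 1 * ω) * h * (X 1 * ω)⁻¹ := by
      rw [hh']
      group
    rw [this]
    exact G1.mul_mem (G1.mul_mem hb hh) (G1.inv_mem hb)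
  show X _ ∈ G1
  rw [← hg]
  exact G1.mul_mem (G1.mul_mem (G1.mul_mem hh hbh) (G1.inv_mem hh)) (G1.inv_mem hbh)


omit [Fintype K] in
theorem X39_pow (t : K) (k : ℕ) : xGL dc 39 t ^ k = xGL dc 39 ((k : K) * t) := by
  induction k with
  | zero => rw [pow_zero, Nat.cast_zero, zero_mul, xGL_zero]
  | succ k ih => rw [pow_succ, ih, xGL_mul, Nat.cast_succ, add_mul, one_mul]

theorem uh_pow (v : Kˣ) : torusHom chevE6 K (uh f v) ^ (Fintype.card K - 1) = 1 := by
  have hN : Nat.card Kˣ = Fintype.card K - 1 := by rw [Nat.card_units, Nat.card_eq_fintype_card]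
  rw [← map_pow]
  have : uh f v ^ (Fintype.card K - 1) = 1 := by
    funext k
    rw [Pi.pow_apply, Pi.one_apply, ← hN]
    exact pow_card_eq_one'
  rw [this, map_one]

include hK in
theorem gen_ne (v : Kˣ) (hord : orderOf v = q ^ 2 - 1) : (v : K) ≠ 1 ∧ (v : K) ^ q ≠ 1 := by
  have h2 := two_le_q hK
  have h3 : q < q ^ 2 - 1 := by
    have : q * 2 ≤ q * q := Nat.mul_le_mul_left q h2
    have e : q ^ 2 = q * q := sq q
    omega
  constructor
  · intro h
    have h1 : v = 1 := Units.ext h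
    rw [h1, orderOf_one] at hord
    omega
  · intro h
    have h1 : v ^ q = 1 := Units.ext (by rw [Units.val_pow_eq_pow_val, h, Units.val_one])
    have h4 := Nat.le_of_dvd (by omega) (orderOf_dvd_of_pow_eq_one h1)
    omega

include hK hf in
/-- A subgroup of the twisted group that contains the two generators contains the twisted group. -/
theorem le_of_mem (v : Kˣ) (hv : ∀ u : Kˣ, u ∈ Submonoid.powers v) (hord : orderOf v = q ^ 2 - 1)
    (G1 : Subgroup (GL chevE6.Idx K)) (hle : G1 ≤ twistedE6 K q)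
    (ha : torusHom chevE6 K (uh f v) * xGL dc 39 1 ∈ G1) (hb : yS dc pi eps f (42, 2) 1 * nJ dc K cox ∈ G1) :
    twistedE6 K q ≤ G1 := by
  have hF := Helper36_ChevDataE6T.facts K
  obtain ⟨o42, o29, o39⟩ := orbTab
  obtain ⟨m42c, m42g, m29g, m39c, m39g⟩ := memTab
  obtain ⟨-, l41, l42, -, -, l39⟩ := tabE
  have hfix : ∀ g ∈ G1, sig f g = g := fun g hg => fixed hK f hf g (hle hg)
  set h := torusHom chevE6 K (uh f v) with hh_def
  have hhG : h ∈ twistedE6 K q := uh_mem f hf v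
  -- `h` and `x₃₉(1)` are powers of the first generator
  have hc39 : h * xGL dc 39 1 * h⁻¹ = xGL dc 39 1 := by
    have := torus_conj_x dc chainOK_E6 _ (isRootCharacter_chi chevE6 K hF.hca (ext chevE6 K (uh f v))) 39 l39
      (1 : K)
    rw [chi_uh39, one_mul] at this
    exact this
  have hcomm39 : Commute h (xGL dc 39 1) := mul_inv_eq_iff_eq_mul.mp hc39
  have hx39m : xGL dc 39 (-1 : K) ∈ G1 := by
    have e : (h * xGL dc 39 1) ^ (Fintype.card K - 1) = xGL dc 39 (-1) := by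
      rw [hcomm39.mul_pow, uh_pow f v, one_mul, X39_pow, mul_one, Nat.cast_sub Fintype.card_pos,
        Nat.cast_card_eq_zero, Nat.cast_one, zero_sub]
    rw [← e]
    exact G1.pow_mem ha _
  have hx39 : xGL dc 39 (1 : K) ∈ G1 := by
    have : xGL dc 39 (1 : K) = (xGL dc 39 (-1))⁻¹ := by rw [xGL_inv, neg_neg]
    rw [this]
    exact G1.inv_mem hx39m
  have hh : h ∈ G1 := by
    have : h = h * xGL dc 39 1 * xGL dc 39 (-1) := by
      rw [mul_assoc, xGL_mul, add_neg_cancel, xGL_zero, mul_one]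
    rw [this]
    exact G1.mul_mem ha hx39m
  -- the class of the nodes `3, 5`
  set X : K → GL chevE6.Idx K := fun t => yS dc pi eps f (42, 2) t with hX
  have hadd : ∀ s t, X (s + t) = X s * X t := fun s t => X_add hK f hf s t
  have hκ : ∀ t, h * X t * h⁻¹ = X ((v : K) * t) := by
    intro t
    have := torus_X hK f hf (ext chevE6 K (uh f v)) hhG t
    rw [chi_uh42] at this
    exact this
  obtain ⟨hv1, hvq⟩ := gen_ne hK v hord
  have hd0 : ((v : K) - 1) * (1 - (f (v : K))⁻¹) ≠ 0 := by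
    refine mul_ne_zero (sub_ne_zero.mpr hv1) (sub_ne_zero.mpr ?_)
    intro e
    apply hvq
    rw [← hf]
    exact inv_eq_one.mp e.symm
  have hXall : ∀ t, X t ∈ G1 := fill1 X hadd G1 h hh v hv hκ _ hd0 (step_A hK f hf v G1 hh hb)
  have hωG1 : nJ dc K cox ∈ G1 := by
    have : nJ dc K cox = (X 1)⁻¹ * (X 1 * nJ dc K cox) := by group
    rw [this]
    exact G1.mul_mem (G1.inv_mem (hXall 1)) hb
  have hJs : ∀ J ∈ [cox], (∀ i ∈ J, i < chevE6.rank) ∧ nJ dc K J ∈ G1 := by
    intro J hJ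
    rw [List.mem_singleton] at hJ
    subst hJ
    exact ⟨cox_lt, hωG1⟩
  have hgoodA : Good dc (sig f) G1 [42, 37] := by
    have := good_base certs (twist f) G1 (42, 2) (classOK _ m42c) (fun x _ => hXall x)
    rw [o42] at this
    exact this
  have hshort := chain_good (σ := sig f) certs G1 hfix [cox] hJs stepsS [[42, 37]] (by decide)
    (by
      intro S hS
      rw [List.mem_singleton] at hS
      subst hS
      exact hgoodA) chainS
  have g29 : Good dc (sig f) G1 [29, 34] := hshort [29, 34] (by decide)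
  have g56 : Good dc (sig f) G1 [56, 36] := hshort [56, 36] (by decide)
  have g15 : Good dc (sig f) G1 [15, 35] := hshort [15, 35] (by decide)
  -- the diagonal elements of the nodes `3, 5`
  have hY42 : ∀ a : K, xGL dc 42 a * xGL dc 37 (f a) ∈ G1 := by
    intro a
    have := hXall a
    rw [hX] at this
    simp only at this
    rwa [yS_pair f 42 37 pi42, wordGL_cons, wordGL_cons, wordGL_nil, mul_one] at this
  have hY29 : ∀ a : K, xGL dc 29 a * xGL dc 34 (f a) ∈ G1 := by
    intro a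
    have e : yS dc pi eps f (29, 2) a = wordGL dc [(29, a), (34, f a)] := yS_pair f 29 34 pi29 a
    have h1 : sig f (wordGL dc [(29, a), (34, f a)]) = wordGL dc [(29, a), (34, f a)] := by
      rw [← e]
      exact orb_fixed certs (twist f) _ (orbOK _ m29g) a (closes_pair hK f hf _ m29g rfl a)
    have := g29 _ (wordGL_mem_XS dc [29, 34] _ (by simp)) h1
    rwa [wordGL_cons, wordGL_cons, wordGL_nil, mul_one] at this
  obtain ⟨s0, s1, s2, s3, s4, s5, m0, m1, m2, m3, m4, m5⟩ := simples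
  have hk : ∀ t : Kˣ, torusHom chevE6 K (uk f t) ∈ G1 := fun t =>
    pair_part_sub f hf G1 n2 n4 (crossOK [2, 4] (by decide) 2 (by decide) 4 (by decide) (by decide)) 42 37 29 34
      ⟨s2, s4, m2, m4⟩ hY42 hY29 t
  -- the root elements of the node `4`
  have he : ∀ z : K, z ^ q = z → xGL dc 39 z ∈ G1 := by
    intro z hz
    by_cases hz0 : z = 0
    · rw [hz0, xGL_zero]
      exact G1.one_mem
    · obtain ⟨t, ht⟩ := norm_surj hK v hv hord z⁻¹ (inv_ne_zero hz0) (by rw [inv_pow, hz])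
      have e1 := torus_conj_x dc chainOK_E6 _ (isRootCharacter_chi chevE6 K hF.hca (ext chevE6 K (uk f t))) 39 l39
        (1 : K)
      rw [chi_uk39, hf, ht, inv_inv, mul_one] at e1
      rw [← e1]
      exact G1.mul_mem (G1.mul_mem (hk t) hx39) (G1.inv_mem (hk t))
  have hgoodE : Good dc (sig f) G1 [39] := by
    have := good_base certs (twist f) G1 (39, 1) (classOK _ m39c) (fun x hx => by
      rw [yS_single, wordGL_single]
      exact he x ((closes_single f hf _ m39g rfl x).mp hx))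
    rw [o39] at this
    exact this
  have hlong := chain_good (σ := sig f) certs G1 hfix [cox] hJs stepsL [[39]] (by decide)
    (by
      intro S hS
      rw [List.mem_singleton] at hS
      subst hS
      exact hgoodE) chainL
  have g46 : Good dc (sig f) G1 [46] := hlong [46] (by decide)
  have g25 : Good dc (sig f) G1 [25] := hlong [25] (by decide)
  have g32 : Good dc (sig f) G1 [32] := hlong [32] (by decide)
  -- the generators
  have hgfix : ∀ g ∈ twistedE6 K q, sig f g = g := fixed hK f hf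
  show twistedE6 K q ≤ G1
  unfold twistedE6 ChevalleyDatum.genSubgroup
  rw [Subgroup.closure_le]
  rintro g ⟨wd, hwd, hg⟩
  have hgG : g ∈ twistedE6 K q := Subgroup.subset_closure ⟨wd, hwd, hg⟩
  have hσ := hgfix g hgG
  rw [eq_wordGL dc hg] at hσ ⊢
  rcases hwd with ⟨t, ht, r', hr', rfl⟩ | ⟨t, rs, hrs, rfl⟩
  · simp only [List.mem_cons, List.not_mem_nil, or_false] at hr'
    rcases hr' with rfl | rfl | rfl | rfl
    · exact g46 _ (wordGL_mem_XS dc [46] _ (by simp [e6p2])) hσ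
    · exact g25 _ (wordGL_mem_XS dc [25] _ (by simp [e6m2])) hσ
    · exact hgoodE _ (wordGL_mem_XS dc [39] _ (by simp [e6p4])) hσ
    · exact g32 _ (wordGL_mem_XS dc [32] _ (by simp [e6m4])) hσ
  · simp only [List.mem_cons, List.not_mem_nil, or_false] at hrs
    rcases hrs with rfl | rfl | rfl | rfl
    · exact g56 _ (wordGL_mem_XS dc [56, 36] _ (by simp [e6p1, e6p6])) hσ
    · exact g15 _ (wordGL_mem_XS dc [15, 35] _ (by simp [e6m1, e6m6])) hσ
    · exact hgoodA _ (wordGL_mem_XS dc [42, 37] _ (by simp [e6p3, e6p5])) hσ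
    · exact g29 _ (wordGL_mem_XS dc [29, 34] _ (by simp [e6m3, e6m5])) hσ

include hK in
/-- The twisted group of type `²E₆` is generated by two elements. -/
theorem two_generated (hq : IsPrimePow q) :
    ∃ a b : ↥(twistedE6 K q), Subgroup.closure ({a, b} : Set ↥(twistedE6 K q)) = ⊤ := by
  obtain ⟨f, hf⟩ := Cfsg.Agent.Lib.Helper36_TwistF.exists_frob hq hK
  obtain ⟨v, hv, hord⟩ := exists_gen2 hK
  have hx39 : xGL dc 39 (1 : K) ∈ twistedE6 K q := by
    rw [← wordGL_single]
    exact single_mem 39 (by simp [e6p4]) 1 (one_pow q)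
  have hy : yS dc pi eps f (42, 2) 1 ∈ twistedE6 K q :=
    gen_mem hK f hf _ memTab.2.1 1 (closes_pair hK f hf _ memTab.2.1 rfl 1)
  set a : ↥(twistedE6 K q) := ⟨torusHom chevE6 K (uh f v) * xGL dc 39 1, mul_mem (uh_mem f hf v) hx39⟩ with ha
  set b : ↥(twistedE6 K q) := ⟨yS dc pi eps f (42, 2) 1 * nJ dc K cox, mul_mem hy (omega_mem f hf)⟩ with hb
  refine ⟨a, b, ?_⟩
  set H := Subgroup.closure ({a, b} : Set ↥(twistedE6 K q)) with hH
  have hle : H.map (twistedE6 K q).subtype ≤ twistedE6 K q := by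
    rintro g ⟨x, -, rfl⟩
    exact x.2
  have h1 : torusHom chevE6 K (uh f v) * xGL dc 39 1 ∈ H.map (twistedE6 K q).subtype :=
    ⟨a, Subgroup.subset_closure (by simp), rfl⟩
  have h2 : yS dc pi eps f (42, 2) 1 * nJ dc K cox ∈ H.map (twistedE6 K q).subtype :=
    ⟨b, Subgroup.subset_closure (by simp), rfl⟩
  have h3 := le_of_mem hK f hf v hv hord _ hle h1 h2
  rw [eq_top_iff]
  intro x _
  obtain ⟨y, hy, hxy⟩ := h3 x.2
  have : y = x := Subtype.ext hxy
  rw [← this]
  exact hy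

end e6

end Cfsg.Agent.Lib.Helper46_TE6Gen
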