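import Mathlib
import Cfsg.Prelude.Def_Solvable
import Cfsg.Prelude.Def_CaseTheorems
import Cfsg.Agent.Lib.Helper84_TutteDefs
import Cfsg.Agent.Lib.Helper84_TutteAPI
import Cfsg.Agent.Lib.Helper1_Cores

set_option autoImplicit false

open scoped commutatorElement
open Cfsg.Agent.Lib.Helper84_TutteDefs

namespace Cfsg.Agent.Lib.Helper46_Tutte_SDIH1

/-! ### The intrinsic version -/

section intrinsic

variable {X : Type*} [Group X] [Finite X]

/-- arithmetic: `2^k * i = 2^m * (2 * n)` with `i`, `n` odd gives `k = m + 1` and `i = n`. -/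
theorem arith_two_pow (k m i n : ℕ) (hi : ¬ 2 ∣ i) (hn : Odd n) (h : 2 ^ k * i = 2 ^ m * (2 * n)) :
    k = m + 1 ∧ i = n := by
  have hn2 : ¬ 2 ∣ n := by
    rcases hn with ⟨a, rfl⟩; omega
  have h' : 2 ^ k * i = 2 ^ (m + 1) * n := by rw [h, pow_succ]; ring
  have hik : Nat.Coprime (2 ^ k) n :=
    Nat.Coprime.pow_left k ((Nat.Prime.coprime_iff_not_dvd Nat.prime_two).2 hn2)
  have him : Nat.Coprime (2 ^ (m + 1)) i :=
    Nat.Coprime.pow_left _ ((Nat.Prime.coprime_iff_not_dvd Nat.prime_two).2 hi)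
  have d1 : 2 ^ k ∣ 2 ^ (m + 1) := hik.dvd_of_dvd_mul_right ⟨i, h'.symm⟩
  have d2 : 2 ^ (m + 1) ∣ 2 ^ k := him.dvd_of_dvd_mul_right ⟨n, h'⟩
  have e : 2 ^ k = 2 ^ (m + 1) := Nat.dvd_antisymm d1 d2
  have hk : k = m + 1 := Nat.pow_right_injective (le_refl 2) e
  refine ⟨hk, ?_⟩
  rw [e] at h'
  exact Nat.eq_of_mul_eq_mul_left (by positivity) h'

theorem dih_basic_X (n : ℕ) (hodd : Odd n) (hn3 : 3 ≤ n)
    (e : X ⧸ Cfsg.pCore 2 X ≃* DihedralGroup n) (P' : Subgroup X) (hP : IsPGroup 2 P')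
    (hidx : ¬ 2 ∣ P'.index) :
    Cfsg.pCore 2 X ≤ P' ∧ Nat.card P' = 2 * Nat.card (Cfsg.pCore 2 X) ∧ P'.index = n ∧
      ¬ IsPGroup 2 X := by
  have : Fact (Nat.Prime 2) := ⟨Nat.prime_two⟩
  have hle : Cfsg.pCore 2 X ≤ P' := by
    have := Cfsg.Agent.Lib.Helper1_Cores.pCore_le_sylow 2 (hP.toSylow hidx)
    simpa using this
  obtain ⟨k, hk⟩ := IsPGroup.iff_card.1 hP
  obtain ⟨m, hm⟩ := IsPGroup.iff_card.1 (Cfsg.Agent.Lib.Helper1_Cores.pCore_isPGroup (G := X) 2)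
  have hq : Nat.card (X ⧸ Cfsg.pCore 2 X) = 2 * n := by
    rw [Nat.card_congr e.toEquiv, DihedralGroup.nat_card]
  have h1 : Nat.card X = Nat.card (X ⧸ Cfsg.pCore 2 X) * Nat.card (Cfsg.pCore 2 X) :=
    Subgroup.card_eq_card_quotient_mul_card_subgroup _
  have h2 : Nat.card P' * P'.index = Nat.card X := Subgroup.card_mul_index P'
  have h3 : 2 ^ k * P'.index = 2 ^ m * (2 * n) := by
    rw [← hk, h2, h1, hq, hm]; ring
  obtain ⟨hkm, hin⟩ := arith_two_pow k m P'.index n hidx hodd h3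
  refine ⟨hle, ?_, hin, ?_⟩
  · rw [hk, hm, hkm, pow_succ]; ring
  · intro hX
    obtain ⟨a, ha⟩ := IsPGroup.iff_card.1 hX
    have hdvd : n ∣ 2 ^ a := by
      rw [← ha, ← h2, hin]; exact Dvd.intro_left _ rfl
    obtain ⟨b, _, hb⟩ := (Nat.dvd_prime_pow Nat.prime_two).1 hdvd
    rcases hodd with ⟨c, hc⟩
    cases b with
    | zero => rw [pow_zero] at hb; omega
    | succ b => rw [pow_succ] at hb; omega

end intrinsic

variable {G : Type*} [Group G] {H : Subgroup G} {g x0 : G} {s lam : ℕ}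

/-- the image of a normal subgroup of `↥H` is invariant under `H`. -/
theorem cj_map_subtype_eq (H : Subgroup G) (Q : Subgroup ↥H) [Q.Normal] (h : G) (hh : h ∈ H) :
    cj h (Q.map H.subtype) = Q.map H.subtype := by
  have A : ∀ u ∈ H, cj u (Q.map H.subtype) ≤ Q.map H.subtype := by
    intro u hu y hy
    rw [mem_cj] at hy
    obtain ⟨q, hq, hqy⟩ := hy
    have hqn : (⟨u, hu⟩ : ↥H) * q * (⟨u, hu⟩ : ↥H)⁻¹ ∈ Q := ‹Q.Normal›.conj_mem q hq _
    refine ⟨_, hqn, ?_⟩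
    show u * (H.subtype q) * u⁻¹ = y
    rw [hqy]; group
  refine le_antisymm (A h hh) ?_
  have := A h⁻¹ (H.inv_mem hh)
  rw [cj_le_iff, inv_inv] at this
  exact this

/-- S-DIH1 (M/L), paper (0.2). -/
theorem dih_basic [Finite G] (H P : Subgroup G) (n : ℕ) (hodd : Odd n) (hn3 : 3 ≤ n)
    (hdih : Nonempty (↥H ⧸ Cfsg.pCore 2 ↥H ≃* DihedralGroup n)) (hPH : P ≤ H) (hP : IsPGroup 2 P)
    (hPsyl : ¬ 2 ∣ P.relIndex H) :
    (Cfsg.pCore 2 ↥H).map H.subtype ≤ P ∧ ((Cfsg.pCore 2 ↥H).map H.subtype).relIndex P = 2 ∧ P.relIndex H = n ∧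
      (∀ h ∈ H, cj h ((Cfsg.pCore 2 ↥H).map H.subtype) = (Cfsg.pCore 2 ↥H).map H.subtype) ∧ ¬ IsPGroup 2 H := by
  obtain ⟨e⟩ := hdih
  have hP' : IsPGroup 2 (P.subgroupOf H) := hP.comap_subtype
  obtain ⟨hle, hcard, hin, hnot⟩ := dih_basic_X n hodd hn3 e (P.subgroupOf H) hP' hPsyl
  have hQP : (Cfsg.pCore 2 ↥H).map H.subtype ≤ P := Subgroup.map_le_iff_le_comap.2 hle
  refine ⟨hQP, ?_, hin, ?_, hnot⟩
  · have c1 : Nat.card ((Cfsg.pCore 2 ↥H).map H.subtype) = Nat.card (Cfsg.pCore 2 ↥H) :=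
      Subgroup.card_subtype H _
    have c2 : Nat.card (P.subgroupOf H) = Nat.card P :=
      Nat.card_congr (Subgroup.subgroupOfEquivOfLe hPH).toEquiv
    have c3 := Subgroup.relIndex_mul_relIndex ⊥ _ P bot_le hQP
    rw [Subgroup.relIndex_bot_left, Subgroup.relIndex_bot_left, c1, ← c2, hcard] at c3
    have hpos : 0 < Nat.card (Cfsg.pCore 2 ↥H) := Nat.card_pos
    have : Nat.card (Cfsg.pCore 2 ↥H) * ((Cfsg.pCore 2 ↥H).map H.subtype).relIndex P =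
        Nat.card (Cfsg.pCore 2 ↥H) * 2 := by rw [c3]; ring
    exact Nat.eq_of_mul_eq_mul_left hpos this
  · intro h hh
    exact cj_map_subtype_eq H _ h hh

end Cfsg.Agent.Lib.Helper46_Tutte_SDIH1
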