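import Mathlib
import Cfsg.Prelude.Def_Solvable
import Cfsg.Prelude.Def_CaseTheorems
import Cfsg.Agent.Lib.Helper84_TutteDefs
import Cfsg.Agent.Lib.Helper84_TutteAPI
import Cfsg.Agent.Lib.Helper1_Cores
import Cfsg.Agent.Lib.Helper46_Tutte_SDIH1

set_option autoImplicit false

open scoped commutatorElement
open Cfsg.Agent.Lib.Helper84_TutteDefs

namespace Cfsg.Agent.Lib.Helper46_Tutte_SDIH2

open Cfsg.Agent.Lib.Helper46_Tutte_SDIH1

theorem zmod_add_self_eq_zero {n : ℕ} (hodd : Odd n) (z : ZMod n) (hzz : z + z = 0) : z = 0 := by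
  obtain ⟨c, hc⟩ := hodd
  have hn0 : ((2 * c + 1 : ℕ) : ZMod n) = 0 := by rw [← hc]; exact ZMod.natCast_self n
  push_cast at hn0
  linear_combination ((c : ZMod n) + 1) * hzz - z * hn0

/-- in `DihedralGroup n`, `n` odd: an element commuting with `sr i` is `1` or `sr i`. -/
theorem dihedral_commute_sr {n : ℕ} (hodd : Odd n) (i : ZMod n) (x : DihedralGroup n)
    (hx : x * DihedralGroup.sr i = DihedralGroup.sr i * x) : x = 1 ∨ x = DihedralGroup.sr i := by
  cases x with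
  | r j =>
    left
    rw [DihedralGroup.r_mul_sr, DihedralGroup.sr_mul_r] at hx
    have h1 : i - j = i + j := DihedralGroup.sr.inj hx
    have h2 : j + j = 0 := by linear_combination -h1
    rw [zmod_add_self_eq_zero hodd j h2, DihedralGroup.r_zero]
  | sr j =>
    right
    rw [DihedralGroup.sr_mul_sr, DihedralGroup.sr_mul_sr] at hx
    have h1 : i - j = j - i := DihedralGroup.r.inj hx
    have h2 : (i - j) + (i - j) = 0 := by linear_combination h1
    have h3 := zmod_add_self_eq_zero hodd _ h2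
    have : j = i := by linear_combination -h3
    rw [this]

/-- in `DihedralGroup n`, `n` odd: an element `≠ 1` with square `1` is some `sr i`. -/
theorem dihedral_invol {n : ℕ} (hodd : Odd n) (x : DihedralGroup n) (hx : x * x = 1) (hx1 : x ≠ 1) :
    ∃ i, x = DihedralGroup.sr i := by
  cases x with
  | r j =>
    exfalso
    rw [DihedralGroup.r_mul_r, DihedralGroup.one_def] at hx
    have h2 : j + j = 0 := DihedralGroup.r.inj hx
    apply hx1
    rw [zmod_add_self_eq_zero hodd j h2, DihedralGroup.r_zero]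
  | sr j => exact ⟨j, rfl⟩

section intrinsic

variable {X : Type*} [Group X] [Finite X]

theorem dih_normalizer_X (n : ℕ) (hodd : Odd n) (hn3 : 3 ≤ n)
    (e : X ⧸ Cfsg.pCore 2 X ≃* DihedralGroup n) (P' : Subgroup X) (hP : IsPGroup 2 P')
    (hidx : ¬ 2 ∣ P'.index) (h : X) (hnorm : ∀ p ∈ P', h * p * h⁻¹ ∈ P') : h ∈ P' := by
  obtain ⟨hle, hcard, -, -⟩ := dih_basic_X n hodd hn3 e P' hP hidx
  have hQn : (Cfsg.pCore 2 X).Normal := Cfsg.Agent.Lib.Helper1_Cores.pCore_normal 2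
  -- the projection
  obtain ⟨π, hπ⟩ : ∃ π : X →* DihedralGroup n, ∀ x, π x = 1 ↔ x ∈ Cfsg.pCore 2 X := by
    refine ⟨e.toMonoidHom.comp (QuotientGroup.mk' (Cfsg.pCore 2 X)), fun x => ?_⟩
    rw [MonoidHom.comp_apply]
    show e (QuotientGroup.mk' _ x) = 1 ↔ _
    rw [MulEquiv.map_eq_one_iff, QuotientGroup.mk'_apply, QuotientGroup.eq_one_iff]
  -- index two
  have hrel : (Cfsg.pCore 2 X).relIndex P' = 2 := by
    have c3 := Subgroup.relIndex_mul_relIndex ⊥ _ P' bot_le hle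
    rw [Subgroup.relIndex_bot_left, Subgroup.relIndex_bot_left, hcard] at c3
    have hpos : 0 < Nat.card (Cfsg.pCore 2 X) := Nat.card_pos
    have : Nat.card (Cfsg.pCore 2 X) * (Cfsg.pCore 2 X).relIndex P' =
        Nat.card (Cfsg.pCore 2 X) * 2 := by rw [c3]; ring
    exact Nat.eq_of_mul_eq_mul_left hpos this
  have hmul : ∀ a ∈ P', ∀ b ∈ P', (a * b ∈ Cfsg.pCore 2 X ↔ (a ∈ Cfsg.pCore 2 X ↔ b ∈ Cfsg.pCore 2 X)) := by
    intro a ha b hb
    have := Subgroup.mul_mem_iff_of_index_two (H := (Cfsg.pCore 2 X).subgroupOf P') hrel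
      (a := ⟨a, ha⟩) (b := ⟨b, hb⟩)
    simpa [Subgroup.mem_subgroupOf] using this
  -- an element of `P'` outside the core
  obtain ⟨t, htP, htQ⟩ : ∃ t ∈ P', t ∉ Cfsg.pCore 2 X := by
    by_contra hcon
    push Not at hcon
    have heq : P' = Cfsg.pCore 2 X := le_antisymm hcon hle
    rw [heq] at hcard
    have hpos : 0 < Nat.card (Cfsg.pCore 2 X) := Nat.card_pos
    omega
  have htt : t * t ∈ Cfsg.pCore 2 X := (hmul t htP t htP).2 Iff.rfl
  have hτ1 : π t ≠ 1 := fun h1 => htQ ((hπ t).1 h1)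
  have hττ : π t * π t = 1 := by rw [← map_mul]; exact (hπ _).2 htt
  obtain ⟨i, hi⟩ := dihedral_invol hodd (π t) hττ hτ1
  -- the conjugate
  have ht'P : h * t * h⁻¹ ∈ P' := hnorm t htP
  have ht'Q : h * t * h⁻¹ ∉ Cfsg.pCore 2 X := by
    intro hc
    apply htQ
    have := hQn.conj_mem _ hc h⁻¹
    have e1 : h⁻¹ * (h * t * h⁻¹) * h⁻¹⁻¹ = t := by group
    rwa [e1] at this
  have htinvQ : t⁻¹ ∉ Cfsg.pCore 2 X := fun hc => htQ (by simpa using Subgroup.inv_mem _ hc)
  have hprod : h * t * h⁻¹ * t⁻¹ ∈ Cfsg.pCore 2 X :=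
    (hmul _ ht'P _ (P'.inv_mem htP)).2 ⟨fun hc => absurd hc ht'Q, fun hc => absurd hc htinvQ⟩
  have hcomm : π h * DihedralGroup.sr i = DihedralGroup.sr i * π h := by
    have := (hπ _).2 hprod
    rw [map_mul, map_mul, map_mul, map_inv, map_inv, hi] at this
    have e2 : π h * DihedralGroup.sr i =
        (π h * DihedralGroup.sr i * (π h)⁻¹ * (DihedralGroup.sr i)⁻¹) * (DihedralGroup.sr i * π h) := by
      group
    rw [e2, this, one_mul]
  rcases dihedral_commute_sr hodd i (π h) hcomm with h1 | h1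
  · exact hle ((hπ h).1 h1)
  · have : h * t⁻¹ ∈ Cfsg.pCore 2 X := by
      rw [← hπ, map_mul, map_inv, h1, hi, mul_inv_cancel]
    have hmem := P'.mul_mem (hle this) htP
    rwa [inv_mul_cancel_right] at hmem

end intrinsic

variable {G : Type*} [Group G] {H : Subgroup G} {g x0 : G} {s lam : ℕ}

/-- S-DIH2 (M/L), paper (0.3): `N_H(P) = P`. -/
theorem dih_normalizer [Finite G] (H P : Subgroup G) (n : ℕ) (hodd : Odd n) (hn3 : 3 ≤ n)
    (hdih : Nonempty (↥H ⧸ Cfsg.pCore 2 ↥H ≃* DihedralGroup n)) (hPH : P ≤ H) (hP : IsPGroup 2 P)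
    (hPsyl : ¬ 2 ∣ P.relIndex H) : ∀ h ∈ H, cj h P = P → h ∈ P := by
  intro h hh hcj
  obtain ⟨e⟩ := hdih
  have hP' : IsPGroup 2 (P.subgroupOf H) := hP.comap_subtype
  have key := dih_normalizer_X n hodd hn3 e (P.subgroupOf H) hP' hPsyl ⟨h, hh⟩ (by
    intro p hp
    rw [Subgroup.mem_subgroupOf] at hp ⊢
    have := conj_mem_cj (u := h) hp
    rw [hcj] at this
    exact this)
  exact Subgroup.mem_subgroupOf.1 key

end Cfsg.Agent.Lib.Helper46_Tutte_SDIH2
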