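import Mathlib
import Cfsg.Agent.Lib.Helper27_UQDefs
import Cfsg.Agent.Lib.Helper94_HermWitt
import Cfsg.Agent.Lib.Helper94_HermIrr
import Cfsg.Agent.Lib.Helper54_U5_D3WITT
import Cfsg.Agent.Lib.Helper32_U5_D3CNTa

/-!
# U5 package D3-FQ4 (helper85's S2151-T5 market): the `F_q`-form lemma, case of a full isotropic line
-/

set_option autoImplicit false
set_option linter.unusedSectionVars false
set_option linter.unusedVariables false

open Module Cfsg.Agent.Lib.Helper94_Symp Cfsg.Agent.Lib.Helper94_Herm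
  Cfsg.Agent.Lib.Helper94_HermEich Cfsg.Agent.Lib.Helper94_HermPara
  Cfsg.Agent.Lib.Helper94_HermTrans
  Cfsg.Agent.Lib.Helper13_SUGen Cfsg.Agent.Lib.Helper13_PSUSimple
  Cfsg.Agent.Lib.Helper46_U3TI Cfsg.Agent.Lib.Helper14_PSULocal1
  Cfsg.Agent.Lib.Helper27_UQDefs

namespace Cfsg.Agent.Lib.Helper46_U5_D3FQ4

variable {F U : Type*} [Field F] [AddCommGroup U] [Module F U] {σ : F →+* F}
variable {C : U →ₗ[F] U →ₛₗ[σ] F}

/-- a norm-one element not fixed by `σ` -/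
theorem exists_norm_one_not_fixed (hσ : Invol σ) : ∃ ζ : F, ζ * σ ζ = 1 ∧ σ ζ ≠ ζ := by
  obtain ⟨ω, hω⟩ := hσ.ne_id
  -- an element neither fixed nor skew
  obtain ⟨θ, hθ1, hθ2⟩ : ∃ θ : F, σ θ ≠ θ ∧ σ θ ≠ -θ := by
    by_cases h : σ ω = -ω
    · by_cases h2 : (2 : F) = 0
      · exfalso
        apply hω
        rw [h]
        linear_combination (-ω) * h2
      · refine ⟨1 + ω, ?_, ?_⟩
        · rw [map_add, map_one]
          intro h'
          exact hω (add_left_cancel h')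
        · rw [map_add, map_one, h]
          intro h'
          apply h2
          linear_combination h'
    · exact ⟨ω, hω, h⟩
  have hθ0 : θ ≠ 0 := by
    intro h
    apply hθ1
    rw [h, map_zero]
  have hsθ0 : σ θ ≠ 0 := (map_ne_zero σ).mpr hθ0
  refine ⟨θ / σ θ, ?_, ?_⟩
  · rw [map_div₀, hσ.invol]
    field_simp
  · rw [map_div₀, hσ.invol]
    intro h
    have h1 : (σ θ - θ) * (σ θ + θ) = 0 := by
      field_simp at h
      linear_combination h
    rcases mul_eq_zero.mp h1 with h2 | h2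
    · exact hθ1 (sub_eq_zero.mp h2)
    · exact hθ2 (by linear_combination h2)

/-- the index of the stabiliser of an isotropic point is at least the number of nonzero isotropic
vectors divided by `|F| - 1` -/
theorem card_iso_le [Finite F] [FiniteDimensional F U] (hσ : Invol σ) (hC : IsHerm C)
    (hN : NondegOn C ⊤) (h3 : finrank F U = 3) {a : U} (ha0 : a ≠ 0) (haa : C a a = 0) :
    Nat.card {x : U // x ≠ 0 ∧ C x x = 0} ≤ (Pv C a).relIndex (SUg C) * (Nat.card F - 1) := by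
  classical
  have : Finite U := Module.finite_of_finite F
  have : Finite (U ≃ₗ[F] U) := Finite.of_injective (fun e => (e : U → U)) DFunLike.coe_injective
  set P : Subgroup ↥(SUg C) := (Pv C a).subgroupOf (SUg C) with hP
  have hex : ∀ x : {x : U // x ≠ 0 ∧ C x x = 0}, ∃ t : ↥(SUg C), (t : U ≃ₗ[F] U) a = x.1 := by
    intro x
    obtain ⟨t, ht, hta⟩ := Cfsg.Agent.Lib.Helper94_HermWitt.exists_tv_iso hσ hC (U := ⊤) hN (by rw [finrank_top, h3])
      Submodule.mem_top Submodule.mem_top ha0 x.2.1 haa x.2.2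
    exact ⟨⟨t, tvGroup_le_SUg hC ⊤ ht⟩, hta⟩
  choose t ht using hex
  have hsc : ∀ x : {x : U // x ≠ 0 ∧ C x x = 0}, ∃ c : Fˣ,
      x.1 = (c : F) • ((Quotient.out (QuotientGroup.mk (t x) : ↥(SUg C) ⧸ P) : ↥(SUg C)) :
        U ≃ₗ[F] U) a := by
    intro x
    set r : ↥(SUg C) := Quotient.out (QuotientGroup.mk (t x) : ↥(SUg C) ⧸ P) with hr
    have h1 : (QuotientGroup.mk r : ↥(SUg C) ⧸ P) = QuotientGroup.mk (t x) :=
      QuotientGroup.out_eq' _
    rw [QuotientGroup.eq] at h1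
    rw [hP, Subgroup.mem_subgroupOf] at h1
    obtain ⟨-, c, hc, hca⟩ := h1
    refine ⟨Units.mk0 c hc, ?_⟩
    rw [Units.val_mk0, ← map_smul, ← hca]
    have : ((r⁻¹ * t x : ↥(SUg C)) : U ≃ₗ[F] U) = (r : U ≃ₗ[F] U)⁻¹ * (t x : U ≃ₗ[F] U) := by
      simp
    rw [this, LinearEquiv.mul_apply, ht]
    exact (apply_inv_apply' _ _).symm
  choose c hc using hsc
  have hinj : Function.Injective
      (fun x : {x : U // x ≠ 0 ∧ C x x = 0} =>
        ((QuotientGroup.mk (t x) : ↥(SUg C) ⧸ P), c x)) := by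
    intro x x' h
    simp only [Prod.mk.injEq] at h
    apply Subtype.ext
    rw [hc x, hc x', h.1, h.2]
  have := Nat.card_le_card_of_injective _ hinj
  rw [Nat.card_prod, Nat.card_units] at this
  exact this

/-- **D3-FQ4**, with the statements of the packages D3-WITT (`witt_one`) and D3-CNT (`card_iso`) as
hypotheses. -/
theorem fq_case_line_aux [Finite F] [FiniteDimensional F U] (hσ : Invol σ) (hC : IsHerm C)
    (hN : NondegOn C ⊤) {q : ℕ} (hq : 2 ≤ q) (hF : Nat.card F = q ^ 2) (h3 : finrank F U = 3)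
    (hwitt : ∀ {a u : U}, a ≠ 0 → C a a = 0 → C u u = 0 → C a u = 0 → ∃ c : F, u = c • a)
    (hcnt : Nat.card {x : U // x ≠ 0 ∧ C x x = 0} = (q ^ 2 - 1) * (q ^ 3 + 1))
    (I : AddSubgroup U) (hcard : Nat.card I = q ^ 3) (hI : ∀ x ∈ I, ∀ y ∈ I, σ (C x y) = C x y)
    {a : U} (ha : a ∈ I) (ha0 : a ≠ 0) (haa : C a a = 0) (hline : ∀ μ : F, μ • a ∈ I)
    (E : Subgroup (U ≃ₗ[F] U)) (hE : E ≤ SUg C) (hEI : ∀ g ∈ E, ∀ x ∈ I, g x ∈ I) :
    2 * (q ^ 3 + 1) ≤ E.relIndex (SUg C) := by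
  classical
  have : Finite U := Module.finite_of_finite F
  have : Finite (U ≃ₗ[F] U) := Finite.of_injective (fun e => (e : U → U)) DFunLike.coe_injective
  -- (1) `I ⊆ a^⊥`
  have hperp : ∀ x ∈ I, C a x = 0 := by
    intro x hx
    by_contra hc
    obtain ⟨θ, hθ⟩ := hσ.ne_id
    have h1 := hI ((θ / C a x) • a) (hline _) x hx
    rw [map_smul, LinearMap.smul_apply, smul_eq_mul, div_mul_cancel₀ _ hc] at h1
    exact hθ h1
  -- (2) `E ≤ Pv C a`
  have hEP : E ≤ Pv C a := by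
    intro g hg
    have hgS : g ∈ SUg C := hE hg
    have hgu : g ∈ uG C := (mem_SUg.mp hgS).1
    have h1 : C (g a) (g a) = 0 := by rw [hgu a a, haa]
    have h2 : C a (g a) = 0 := hperp _ (hEI g hg a ha)
    obtain ⟨c, hc⟩ := hwitt ha0 haa h1 h2
    refine ⟨hgS, c, ?_, hc⟩
    intro h0
    rw [h0, zero_smul] at hc
    exact ha0 (g.map_eq_zero_iff.mp hc)
  -- (3) an element of `Pv C a` outside `E`
  obtain ⟨a', -, ha'a', haa'⟩ := exists_partner hσ hC hN (Submodule.mem_top (x := a)) ha0 haa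
  have h : HypPair C a a' := hypPair_mk hC haa ha'a' haa'
  obtain ⟨y, hyI, hy⟩ : ∃ y ∈ I, ∀ μ : F, y ≠ μ • a := by
    by_contra hcon
    push Not at hcon
    have hinj : Function.Injective (fun x : I => (Classical.choose (hcon x.1 x.2) : F)) := by
      intro x x' hxx'
      apply Subtype.ext
      rw [Classical.choose_spec (hcon x.1 x.2), Classical.choose_spec (hcon x'.1 x'.2)]
      simp only at hxx'
      rw [hxx']
    have := Nat.card_le_card_of_injective _ hinj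
    rw [hcard, hF] at this
    have : q ^ 2 * q ≤ q ^ 2 * 1 := by
      calc q ^ 2 * q = q ^ 3 := by ring
        _ ≤ q ^ 2 := this
        _ = q ^ 2 * 1 := by ring
    have hq2 : 0 < q ^ 2 := by positivity
    have := Nat.le_of_mul_le_mul_left this hq2
    omega
  have hay : C a y = 0 := hperp y hyI
  have hya : C y a = 0 := herm_eq_zero hC hay
  have hyy : C y y ≠ 0 := by
    intro h0
    obtain ⟨c, hc⟩ := hwitt ha0 haa h0 hay
    exact hy c hc
  obtain ⟨ζ, hζ1, hζ2⟩ := exists_norm_one_not_fixed hσ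
  have hζ0 : ζ ≠ 0 := by
    intro h0
    rw [h0, zero_mul] at hζ1
    exact zero_ne_one hζ1
  have hsζ1 : σ ζ * σ (σ ζ) = 1 := by rw [hσ.invol, mul_comm]; exact hζ1
  obtain ⟨lam, hlam0, hlam⟩ := hilbert90 hσ hsζ1
  have hslam0 : σ lam ≠ 0 := (map_ne_zero σ).mpr hlam0
  have hslam : σ lam = lam * ζ := by
    have : lam * ζ = σ ζ * ζ * σ lam := by
      calc lam * ζ = σ ζ * σ lam * ζ := by rw [← hlam]
        _ = σ ζ * ζ * σ lam := by ring
    rw [this, mul_comm (σ ζ) ζ, hζ1, one_mul]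
  have hab : lam * σ ((σ lam)⁻¹) = 1 := by
    rw [map_inv₀, hσ.invol, mul_inv_cancel₀ hlam0]
  set g₀ : U ≃ₗ[F] U := dgE h hlam0 (inv_ne_zero hslam0) hζ0 with hg₀
  have hg₀u : g₀ ∈ uG C := dgE_mem_uG hσ hC h hlam0 (inv_ne_zero hslam0) hζ0 hab hζ1
  have hg₀S : g₀ ∈ SUg C := by
    rw [mem_SUg]
    refine ⟨hg₀u, ?_⟩
    apply Units.ext
    rw [det_dgE h hlam0 (inv_ne_zero hslam0) hζ0, h3, Units.val_one, hslam]
    field_simp
  have hg₀P : g₀ ∈ Pv C a := ⟨hg₀S, lam, hlam0, dgE_e h hlam0 (inv_ne_zero hslam0) hζ0⟩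
  have hg₀y : C (g₀ y) y = ζ * C y y := by
    rw [hg₀, dgE_apply, hya, mul_zero, zero_smul, add_zero, map_add, LinearMap.add_apply, map_smul,
      LinearMap.smul_apply, map_smul, LinearMap.smul_apply, hay, smul_zero, add_zero, smul_eq_mul]
  have hg₀E : g₀ ∉ E := by
    intro hmem
    have h1 := hI (g₀ y) (hEI g₀ hmem y hyI) y hyI
    rw [hg₀y, map_mul, herm_self hC] at h1
    exact hζ2 (mul_right_cancel₀ hyy h1)
  -- (4) the two indices
  have hidx1 : 2 ≤ E.relIndex (Pv C a) := by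
    have h0 : E.relIndex (Pv C a) ≠ 0 := by
      rw [Subgroup.relIndex]
      exact Subgroup.index_ne_zero_of_finite
    have h1 : E.relIndex (Pv C a) ≠ 1 := by
      rw [Ne, Subgroup.relIndex_eq_one]
      intro hle
      exact hg₀E (hle hg₀P)
    omega
  have hidx2 : q ^ 3 + 1 ≤ (Pv C a).relIndex (SUg C) := by
    have := card_iso_le hσ hC hN h3 ha0 haa
    rw [hcnt, hF, mul_comm] at this
    have hpos : 0 < q ^ 2 - 1 := by
      have : 4 ≤ q ^ 2 := by nlinarith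
      omega
    exact Nat.le_of_mul_le_mul_right this hpos
  rw [← Subgroup.relIndex_mul_relIndex E (Pv C a) (SUg C) hEP (Pv_le C a)]
  exact Nat.mul_le_mul hidx1 hidx2

/-- **D3-FQ4** (M/L).  Case (d4): `I` contains a full isotropic `F`-line. -/
theorem fq_case_line [Finite F] [FiniteDimensional F U] (hσ : Invol σ) (hC : IsHerm C)
    (hN : NondegOn C ⊤) {q : ℕ} (hq : 2 ≤ q) (hF : Nat.card F = q ^ 2) (h3 : finrank F U = 3)
    (I : AddSubgroup U) (hcard : Nat.card I = q ^ 3) (hI : ∀ x ∈ I, ∀ y ∈ I, σ (C x y) = C x y)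
    (hcl : ∀ a : F, σ a = a → ∀ x ∈ I, a • x ∈ I)
    {a : U} (ha : a ∈ I) (ha0 : a ≠ 0) (haa : C a a = 0) (hline : ∀ μ : F, μ • a ∈ I)
    (E : Subgroup (U ≃ₗ[F] U)) (hE : E ≤ SUg C) (hEI : ∀ g ∈ E, ∀ x ∈ I, g x ∈ I) :
    2 * (q ^ 3 + 1) ≤ E.relIndex (SUg C) :=
  fq_case_line_aux hσ hC hN hq hF h3
    (fun ha0 haa huu hau =>
      Cfsg.Agent.Lib.Helper54_U5_D3WITT.witt_one hσ hC hN h3 ha0 haa huu hau)
    (Cfsg.Agent.Lib.Helper32_U5_D3CNTa.card_iso hσ hC hN hF h3)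
    I hcard hI ha ha0 haa hline E hE hEI

end Cfsg.Agent.Lib.Helper46_U5_D3FQ4
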