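import Mathlib
import Cfsg.Agent.Lib.Helper27_UQDefs
import Cfsg.Agent.Lib.Helper94_HermWitt
import Cfsg.Agent.Lib.Helper94_HermIrr
import Cfsg.Agent.Lib.Helper27_UQ_CARD
import Cfsg.Agent.Lib.Helper95_UQ_FLD
import Cfsg.Agent.Lib.Helper46_U5_D3FQ4

set_option autoImplicit false
set_option linter.unusedSectionVars false
set_option linter.unusedVariables false

/-!
# U5 package V5-FIXS (helper85's S2151-T5 market)

The torus element `s = dgE h ha hb hc` for the `f = 0` killer in dimension 5: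
`|C_{Q_v}(s)| ≤ q` while `|C_{Q_{v₁}}(s)| ≥ q^3` for an isotropic `v₁ ∈ W = ⟨v,v'⟩^⊥`.
-/

open Module Cfsg.Agent.Lib.Helper94_Symp Cfsg.Agent.Lib.Helper94_Herm
  Cfsg.Agent.Lib.Helper94_HermEich Cfsg.Agent.Lib.Helper94_HermPara
  Cfsg.Agent.Lib.Helper94_HermTrans
  Cfsg.Agent.Lib.Helper13_SUGen Cfsg.Agent.Lib.Helper13_PSUSimple
  Cfsg.Agent.Lib.Helper46_U3TI Cfsg.Agent.Lib.Helper14_PSULocal1
  Cfsg.Agent.Lib.Helper27_UQDefs

namespace Cfsg.Agent.Lib.Helper46_U5_V5FIXS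

variable {F V : Type*} [Field F] [AddCommGroup V] [Module F V] {σ : F →+* F}
variable {B : V →ₗ[F] V →ₛₗ[σ] F}

/-- powers of a diagonal element -/
theorem dgE_pow {v v' : V} (h : HypPair B v v') {a b c : F} (ha : a ≠ 0) (hb : b ≠ 0)
    (hc : c ≠ 0) (n : ℕ) :
    (((dgE h ha hb hc) ^ n : V ≃ₗ[F] V) : V →ₗ[F] V) = dg B v v' (a ^ n) (b ^ n) (c ^ n) := by
  induction n with
  | zero =>
    simp only [pow_zero]
    rw [dg_one]
    rfl
  | succ n ih =>
    rw [pow_succ]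
    have h1 : (((dgE h ha hb hc) ^ n * dgE h ha hb hc : V ≃ₗ[F] V) : V →ₗ[F] V) =
        (((dgE h ha hb hc) ^ n : V ≃ₗ[F] V) : V →ₗ[F] V) ∘ₗ
          ((dgE h ha hb hc : V ≃ₗ[F] V) : V →ₗ[F] V) := rfl
    have h2 : ((dgE h ha hb hc : V ≃ₗ[F] V) : V →ₗ[F] V) = dg B v v' a b c := rfl
    rw [h1, ih, h2, dg_comp h, pow_succ, pow_succ, pow_succ]

theorem dgE_pow_eq_one {v v' : V} (h : HypPair B v v') {a b c : F} (ha : a ≠ 0) (hb : b ≠ 0)
    (hc : c ≠ 0) {r : ℕ} (har : a ^ r = 1) (hbr : b ^ r = 1) (hcr : c ^ r = 1) :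
    (dgE h ha hb hc) ^ r = 1 := by
  apply LinearEquiv.toLinearMap_injective
  rw [dgE_pow, har, hbr, hcr, dg_one]
  rfl

/-- a nonzero vector of `W` orthogonal to a hyperbolic pair of `W`, `finrank W = 3` -/
theorem exists_config [Finite F] [FiniteDimensional F V] (hσ : Invol σ) (hB : IsHerm B)
    (hN : NondegOn B ⊤) (h5 : finrank F V = 5) {v v' : V} (h : HypPair B v v') :
    ∃ v₁ f e : V, v₁ ∈ Wsub B v v' ∧ f ∈ Wsub B v v' ∧ e ∈ Wsub B v v' ∧ HypPair B v₁ f ∧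
      e ≠ 0 ∧ B e v₁ = 0 ∧ B e f = 0 := by
  have hW : NondegOn B (Wsub B v v') := by
    rw [Wsub_eq_Wp]
    exact nondegOn_Wp hB hN h
  have h3 : finrank F ↥(Wsub B v v') = 3 := by
    have := Cfsg.Agent.Lib.Helper27_UQ_CARD.finrank_Wsub h
    omega
  -- a nonzero vector of W
  obtain ⟨x, hx0⟩ : ∃ x : ↥(Wsub B v v'), x ≠ 0 := by
    apply (Module.finrank_pos_iff_exists_ne_zero (R := F)).mp
    omega
  have hx0' : (x : V) ≠ 0 := fun h0 => hx0 (Subtype.ext h0)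
  -- a second independent one
  obtain ⟨y, hyW, hy⟩ : ∃ y ∈ Wsub B v v', y ∉ Submodule.span F {(x : V)} := by
    by_contra hcon
    push Not at hcon
    have hle : Wsub B v v' ≤ Submodule.span F {(x : V)} := hcon
    have h1 := Submodule.finrank_mono hle
    rw [finrank_span_singleton hx0', h3] at h1
    omega
  obtain ⟨a, b, hne, hiso⟩ := exists_iso hσ hB hx0' hy
  set v₁ : V := a • (x : V) + b • y with hv₁
  have hv₁W : v₁ ∈ Wsub B v v' :=
    (Wsub B v v').add_mem ((Wsub B v v').smul_mem _ x.2) ((Wsub B v v').smul_mem _ hyW)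
  obtain ⟨f, hfW, hff, hvf⟩ := exists_partner hσ hB hW hv₁W hne hiso
  have h₁ : HypPair B v₁ f := hypPair_mk hB hiso hff hvf
  -- a vector of W outside the span of the pair
  obtain ⟨w, hwW, hw⟩ : ∃ w ∈ Wsub B v v', w ∉ Submodule.span F {v₁, f} := by
    by_contra hcon
    push Not at hcon
    have hle : Wsub B v v' ≤ Submodule.span F {v₁, f} := hcon
    have h1 := Submodule.finrank_mono hle
    have h2 : finrank F ↥(Submodule.span F {v₁, f}) ≤ 2 := by
      classical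
      have := finrank_span_finset_le_card (R := F) ({v₁, f} : Finset V)
      rw [Finset.coe_insert, Finset.coe_singleton] at this
      exact this.trans Finset.card_le_two
    omega
  refine ⟨v₁, f, perpPart B v₁ f w, hv₁W, hfW, ?_, h₁, ?_, perpPart_e h₁ w, perpPart_f h₁ w⟩
  · unfold perpPart
    exact (Wsub B v v').sub_mem ((Wsub B v v').sub_mem hwW ((Wsub B v v').smul_mem _ hv₁W))
      ((Wsub B v v').smul_mem _ hfW)
  · intro h0
    apply hw
    unfold perpPart at h0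
    have hw' : w = B w f • v₁ + B w v₁ • f := by
      calc w = (w - B w f • v₁ - B w v₁ • f) + (B w f • v₁ + B w v₁ • f) := by abel
        _ = B w f • v₁ + B w v₁ • f := by rw [h0, zero_add]
    rw [hw']
    exact Submodule.add_mem _ (Submodule.smul_mem _ _ (Submodule.subset_span (by simp)))
      (Submodule.smul_mem _ _ (Submodule.subset_span (by simp)))

/-- the general statement: a diagonal element `dgE h ha hb hc` of prime order `r ∤ q` with
`σ a * c ≠ 1` does the job -/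
theorem fix_elt_aux [Finite F] [FiniteDimensional F V] (hσ : Invol σ) (hB : IsHerm B)
    (hN : NondegOn B ⊤) {q : ℕ} (hF : Nat.card F = q ^ 2) (h5 : finrank F V = 5)
    {v v' : V} (h : HypPair B v v')
    {a b c : F} (ha : a ≠ 0) (hb : b ≠ 0) (hc : c ≠ 0) (hab : a * σ b = 1) (hcc : c * σ c = 1)
    (hdet : c ^ 3 * a * b = 1) {r : ℕ} (hr : r.Prime) (hrq : ¬ r ∣ q)
    (har : a ^ r = 1) (hbr : b ^ r = 1) (hcr : c ^ r = 1) (hne : σ a * c ≠ 1) :
    ∃ (s : V ≃ₗ[F] V) (r : ℕ) (v₁ : V), s ∈ SUg B ∧ r.Prime ∧ ¬ r ∣ q ∧ s ^ r = 1 ∧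
      (∃ c : F, c ≠ 0 ∧ s v = c • v) ∧ v₁ ≠ 0 ∧ B v₁ v₁ = 0 ∧ (∃ c : F, c ≠ 0 ∧ s v₁ = c • v₁) ∧
      Nat.card {g : ↥(Qv B v) // s * (g : V ≃ₗ[F] V) * s⁻¹ = g} ≤ q ∧
      q ^ 3 ≤ Nat.card {g : ↥(Qv B v₁) // s * (g : V ≃ₗ[F] V) * s⁻¹ = g} := by
  obtain ⟨v₁, f, e, hv₁W, hfW, heW, h₁, he0, hev, hef⟩ := exists_config hσ hB hN h5 h
  haveI : Finite V := Module.finite_of_finite F
  haveI : Finite (V ≃ₗ[F] V) := Finite.of_injective (fun g => (g : V → V)) DFunLike.coe_injective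
  set s : V ≃ₗ[F] V := dgE h ha hb hc with hs
  have hsu : s ∈ uG B := dgE_mem_uG hσ hB h ha hb hc hab hcc
  have hsS : s ∈ SUg B := by
    rw [mem_SUg]
    refine ⟨hsu, ?_⟩
    apply Units.ext
    rw [det_dgE h ha hb hc, h5, Units.val_one]
    field_simp
    linear_combination hdet
  have hsW : ∀ w ∈ Wsub B v v', s w = c • w := fun w hw => dgE_W h ha hb hc hw.1 hw.2
  have hv₁0 : v₁ ≠ 0 := Cfsg.Agent.Lib.Helper27_UQ_CARD.hyp_ne_zero h₁
  refine ⟨s, r, v₁, hsS, hr, hrq, dgE_pow_eq_one h ha hb hc har hbr hcr,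
    ⟨a, ha, dgE_e h ha hb hc⟩, hv₁0, h₁.ee, ⟨c, hc, hsW v₁ hv₁W⟩, ?_, ?_⟩
  · -- the centraliser in `Qv B v`
    have key : ∀ g : {g : ↥(Qv B v) // s * (g : V ≃ₗ[F] V) * s⁻¹ = g},
        ∃ d : {d : F // σ d = -d}, ((g.1 : ↥(Qv B v)) : V ≃ₗ[F] V) = eich B v 0 d.1 := by
      rintro ⟨⟨g, hg⟩, hcent⟩
      obtain ⟨w, c₀, hw, hc₀, rfl⟩ := (mem_Qv_iff_eich hB h g).mp hg
      have hconj := conj_eich_levi hσ h.ee hw.1 (herm_eq_zero hB hw.1) hsu ha
        (dgE_e h ha hb hc) c₀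
      simp only at hcent
      rw [hconj, hsW w hw, smul_smul] at hcent
      have hmem : (σ a * c) • w ∈ Wsub B v v' := (Wsub B v v').smul_mem _ hw
      obtain ⟨h1, h2⟩ := Cfsg.Agent.Lib.Helper27_UQ_CARD.eich_inj' hB h hmem hw hcent
      have hw0 : w = 0 := by
        have : (σ a * c - 1) • w = 0 := by rw [sub_smul, h1, one_smul, sub_self]
        rcases smul_eq_zero.mp this with h3 | h3
        · exact absurd (sub_eq_zero.mp h3) hne
        · exact h3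
      subst hw0
      refine ⟨⟨c₀, ?_⟩, rfl⟩
      simp only [map_zero, LinearMap.zero_apply, neg_zero] at hc₀
      linear_combination hc₀
    choose fn hfn using key
    have finj : Function.Injective fn := by
      intro g g' hgg'
      apply Subtype.ext
      apply Subtype.ext
      rw [hfn g, hfn g', hgg']
    calc Nat.card {g : ↥(Qv B v) // s * (g : V ≃ₗ[F] V) * s⁻¹ = g}
        ≤ Nat.card {d : F // σ d = -d} := Nat.card_le_card_of_injective fn finj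
      _ = q := Cfsg.Agent.Lib.Helper95_UQ_FLD.card_skew hσ hF
  · -- the centraliser in `Qv B v₁`
    have htr : ∀ β : F, ∃ l : F, l + σ l = -(B (β • e) (β • e)) := fun β =>
      tr_surj hσ _ (by rw [map_neg, herm_self hB])
    choose cf hcf using htr
    have hβe : ∀ β : F, B (β • e) v₁ = 0 := fun β => by
      rw [map_smul, LinearMap.smul_apply, hev, smul_zero]
    have hβf : ∀ β : F, B (β • e) f = 0 := fun β => by
      rw [map_smul, LinearMap.smul_apply, hef, smul_zero]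
    have hβW : ∀ β : F, β • e ∈ Wsub B v v' := fun β => (Wsub B v v').smul_mem _ heW
    have hmem : ∀ (β : F) (d : {d : F // σ d = -d}),
        eich B v₁ (β • e) (cf β + d.1) ∈ Qv B v₁ := by
      intro β d
      apply eich_mem_Qv hB h₁.ee (hβe β)
      rw [map_add, d.2]
      linear_combination hcf β
    have hcent : ∀ (β : F) (d : {d : F // σ d = -d}),
        s * eich B v₁ (β • e) (cf β + d.1) * s⁻¹ = eich B v₁ (β • e) (cf β + d.1) := by
      intro β d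
      rw [conj_eich_levi hσ h₁.ee (hβe β) (herm_eq_zero hB (hβe β)) hsu hc (hsW v₁ hv₁W),
        hsW _ (hβW β), smul_smul, mul_comm (σ c) c, hcc, one_smul, one_mul]
    let φ : F × {d : F // σ d = -d} →
        {g : ↥(Qv B v₁) // s * (g : V ≃ₗ[F] V) * s⁻¹ = g} := fun p =>
      ⟨⟨eich B v₁ (p.1 • e) (cf p.1 + p.2.1), hmem p.1 p.2⟩, hcent p.1 p.2⟩
    have φinj : Function.Injective φ := by
      rintro ⟨β, d⟩ ⟨β', d'⟩ hpp
      have h1 : eich B v₁ (β • e) (cf β + d.1) = eich B v₁ (β' • e) (cf β' + d'.1) :=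
        congrArg (fun g : {g : ↥(Qv B v₁) // s * (g : V ≃ₗ[F] V) * s⁻¹ = g} =>
          ((g.1 : ↥(Qv B v₁)) : V ≃ₗ[F] V)) hpp
      obtain ⟨h2, h3⟩ := eich_inj h₁ (hβe β) (hβf β) (herm_eq_zero hB (hβe β))
        (herm_eq_zero hB (hβf β)) (hβe β') (hβf β') (herm_eq_zero hB (hβe β'))
        (herm_eq_zero hB (hβf β')) h1
      have hββ : β = β' := smul_left_injective F he0 h2
      subst hββ
      have h4 : d.1 = d'.1 := add_left_cancel h3
      rw [Subtype.ext h4]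
    calc q ^ 3 = Nat.card (F × {d : F // σ d = -d}) := by
          rw [Nat.card_prod, hF, Cfsg.Agent.Lib.Helper95_UQ_FLD.card_skew hσ hF]
          ring
      _ ≤ Nat.card {g : ↥(Qv B v₁) // s * (g : V ≃ₗ[F] V) * s⁻¹ = g} :=
          Nat.card_le_card_of_injective φ φinj

/-- for `q ≥ 3` the fixed field contains an element of prime order `r ∣ q - 1` -/
theorem exists_fixed_prime_order [Finite F] (hσ : Invol σ) {q : ℕ} (hq : 3 ≤ q)
    (hF : Nat.card F = q ^ 2) :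
    ∃ (α : F) (r : ℕ), α ≠ 0 ∧ σ α = α ∧ α ≠ 1 ∧ r.Prime ∧ ¬ r ∣ q ∧ α ^ r = 1 := by
  have hcf := Cfsg.Agent.Lib.Helper95_UQ_FLD.card_fixed hσ hF
  obtain ⟨a, haf, ha0, ha1⟩ : ∃ a : F, σ a = a ∧ a ≠ 0 ∧ a ≠ 1 := by
    by_contra hcon
    push Not at hcon
    have hsub : {a : F | σ a = a} ⊆ {0, 1} := by
      intro a ha
      by_cases h0 : a = 0
      · simp [h0]
      · simp [hcon a ha h0]
    have h1 := Set.ncard_le_ncard hsub (Set.toFinite _)
    have h2 : ({0, 1} : Set F).ncard ≤ 2 := by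
      have := Set.ncard_insert_le (0 : F) {1}
      rwa [Set.ncard_singleton] at this
    have h3 : Nat.card {a : F // σ a = a} = ({a : F | σ a = a}).ncard :=
      Nat.card_coe_set_eq _
    omega
  set x : Fˣ := Units.mk0 a ha0 with hx
  have hx1 : x ≠ 1 := by
    intro h
    apply ha1
    have := congrArg Units.val h
    simpa [hx] using this
  have hord : orderOf x ≠ 1 := fun h => hx1 (orderOf_eq_one_iff.mp h)
  have hord0 : orderOf x ≠ 0 := (orderOf_pos x).ne'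
  have hrp : (orderOf x).minFac.Prime := Nat.minFac_prime hord
  have hrd : (orderOf x).minFac ∣ orderOf x := Nat.minFac_dvd _
  have hyord : orderOf (x ^ (orderOf x / (orderOf x).minFac)) = (orderOf x).minFac :=
    orderOf_pow_orderOf_div hord0 hrd
  refine ⟨((x ^ (orderOf x / (orderOf x).minFac) : Fˣ) : F), (orderOf x).minFac,
    Units.ne_zero _, ?_, ?_, hrp, ?_, ?_⟩
  · rw [Units.val_pow_eq_pow_val, map_pow, hx, Units.val_mk0, haf]
  · intro h
    have h1 : x ^ (orderOf x / (orderOf x).minFac) = 1 := Units.ext h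
    rw [h1, orderOf_one] at hyord
    exact hrp.one_lt.ne hyord
  · intro hdq
    have h1 : (orderOf x).minFac ∣ Nat.card Fˣ := hrd.trans (orderOf_dvd_natCard x)
    rw [Nat.card_units, hF] at h1
    have h2 : (orderOf x).minFac ∣ q ^ 2 := dvd_pow hdq (by norm_num)
    have h4 : q ^ 2 - 1 + 1 = q ^ 2 := Nat.sub_add_cancel (Nat.one_le_pow _ _ (by omega))
    have h3 : (orderOf x).minFac ∣ 1 := by
      rw [← h4] at h2
      exact (Nat.dvd_add_right h1).mp h2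
    exact hrp.one_lt.ne' (Nat.dvd_one.mp h3)
  · have h1 := pow_orderOf_eq_one (x ^ (orderOf x / (orderOf x).minFac))
    rw [hyord] at h1
    rw [← Units.val_pow_eq_pow_val, h1, Units.val_one]

/-- for `q = 2` a norm-one element `ζ ≠ 1` with `ζ ^ 3 = 1` -/
theorem exists_cube_root [Finite F] (hσ : Invol σ) (hF : Nat.card F = 2 ^ 2) :
    ∃ ζ : F, ζ ≠ 0 ∧ ζ * σ ζ = 1 ∧ ζ ≠ 1 ∧ ζ ^ 3 = 1 := by
  obtain ⟨ζ, hζ1, hζ2⟩ := Cfsg.Agent.Lib.Helper46_U5_D3FQ4.exists_norm_one_not_fixed hσ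
  have hζ0 : ζ ≠ 0 := by
    rintro rfl
    simp at hζ1
  refine ⟨ζ, hζ0, hζ1, ?_, ?_⟩
  · rintro rfl
    exact hζ2 (map_one σ)
  · have h3 : Nat.card Fˣ = 3 := by
      rw [Nat.card_units, hF]
      norm_num
    have h4 := pow_card_eq_one' (G := Fˣ) (x := Units.mk0 ζ hζ0)
    rw [h3] at h4
    have h5 := congrArg Units.val h4
    simpa using h5

/-- **V5-FIXS**. -/
theorem exists_fix_elt [Finite F] [FiniteDimensional F V] (hσ : Invol σ) (hB : IsHerm B)
    (hN : NondegOn B ⊤) {q : ℕ} (hq : 2 ≤ q) (hF : Nat.card F = q ^ 2) (h5 : finrank F V = 5)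
    {v v' : V} (h : HypPair B v v') :
    ∃ (s : V ≃ₗ[F] V) (r : ℕ) (v₁ : V), s ∈ SUg B ∧ r.Prime ∧ ¬ r ∣ q ∧ s ^ r = 1 ∧
      (∃ c : F, c ≠ 0 ∧ s v = c • v) ∧ v₁ ≠ 0 ∧ B v₁ v₁ = 0 ∧ (∃ c : F, c ≠ 0 ∧ s v₁ = c • v₁) ∧
      Nat.card {g : ↥(Qv B v) // s * (g : V ≃ₗ[F] V) * s⁻¹ = g} ≤ q ∧
      q ^ 3 ≤ Nat.card {g : ↥(Qv B v₁) // s * (g : V ≃ₗ[F] V) * s⁻¹ = g} := by
  rcases Nat.lt_or_ge q 3 with hq3 | hq3
  · have hq2 : q = 2 := by omega
    subst hq2
    obtain ⟨ζ, hζ0, hζ1, hζne, hζ3⟩ := exists_cube_root hσ hF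
    exact fix_elt_aux hσ hB hN hF h5 h one_ne_zero one_ne_zero hζ0 (by simp) hζ1
      (by rw [hζ3]; ring) Nat.prime_three (by norm_num) (one_pow 3) (one_pow 3) hζ3
      (by rw [map_one, one_mul]; exact hζne)
  · obtain ⟨α, r, hα0, hαf, hα1, hrp, hrq, hαr⟩ := exists_fixed_prime_order hσ hq3 hF
    exact fix_elt_aux hσ hB hN hF h5 h hα0 (inv_ne_zero hα0) one_ne_zero
      (by rw [map_inv₀, hαf, mul_inv_cancel₀ hα0]) (by simp)
      (by rw [one_pow, one_mul, mul_inv_cancel₀ hα0]) hrp hrq hαr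
      (by rw [inv_pow, hαr, inv_one]) (one_pow r) (by rw [hαf, mul_one]; exact hα1)

end Cfsg.Agent.Lib.Helper46_U5_V5FIXS
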