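import Mathlib
import Cfsg.Agent.Lib.Helper84_RelSylow
import Cfsg.Agent.Lib.Helper70_BG106
import Cfsg.Agent.Lib.Helper1_CRBasic

/-!
# Assembly for B-G Lemma 12.11 (helper47): pure group theory

`E` a finite group (a subgroup of `G`), `S` a set of primes such that for every `p ∈ S` the group `E` has
a normal abelian Sylow `p`-subgroup `P_p` containing an `E`-invariant subgroup `C_p` of the same
exponent whose nonidentity elements act freely on `Q`, while the `S'`-elements of `E` act freely on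
`Q`.  Then the conclusion of B-G 12.11 holds.
-/

set_option autoImplicit false

namespace Cfsg.Agent.Lib.Helper47_BG1211c

open Subgroup

variable {G : Type*} [Group G]

/-- a subgroup of `E` of order prime to the index of a normal subgroup `N` of `E` lies in `N` -/
theorem le_of_coprime_relIndex [Finite G] {D N E : Subgroup G} (hDE : D ≤ E) (hNE : N ≤ E)
    (hn : E ≤ normalizer (N : Set G)) (h : (Nat.card D).Coprime (N.relIndex E)) : D ≤ N := by
  have : (N.subgroupOf E).Normal := (normal_subgroupOf_iff_le_normalizer hNE).mpr hn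
  have h1 : D.subgroupOf E ≤ N.subgroupOf E := by
    apply Cfsg.Agent.Lib.Helper70_BG106.le_of_coprime_index
    rw [Nat.card_congr (Subgroup.subgroupOfEquivOfLe hDE).toEquiv]
    exact h
  intro x hx
  exact h1 (mem_subgroupOf.mpr hx : (⟨x, hDE hx⟩ : E) ∈ D.subgroupOf E)

/-- conjugation-stability gives membership in the normalizer -/
theorem le_normalizer_of_conj_mem {E N : Subgroup G}
    (h : ∀ e ∈ E, ∀ x ∈ N, e * x * e⁻¹ ∈ N) : E ≤ normalizer (N : Set G) := by
  intro e he
  rw [mem_normalizer_iff]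
  intro x
  refine ⟨h e he x, fun hx => ?_⟩
  have := h e⁻¹ (E.inv_mem he) _ hx
  have e1 : e⁻¹ * (e * x * e⁻¹) * e⁻¹⁻¹ = x := by group
  rwa [e1] at this

section Family

variable {ι : Type*} (F : ι → Subgroup G) {E : Subgroup G}

theorem le_normalizer_iSup (hF : ∀ i, E ≤ normalizer (F i : Set G)) :
    E ≤ normalizer ((⨆ i, F i : Subgroup G) : Set G) := by
  apply le_normalizer_of_conj_mem
  intro e he x hx
  refine Subgroup.iSup_induction F (C := fun x => e * x * e⁻¹ ∈ ⨆ i, F i) hx ?_ ?_ ?_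
  · intro i y hy
    exact mem_iSup_of_mem i ((mem_normalizer_iff.mp (hF i he) y).mp hy)
  · simp
  · intro y z hy hz
    have e1 : e * (y * z) * e⁻¹ = (e * y * e⁻¹) * (e * z * e⁻¹) := by group
    rw [e1]
    exact mul_mem hy hz

/-- pairwise commuting subgroups generate a commutative subgroup -/
theorem commute_iSup (hF : ∀ i j, ∀ x ∈ F i, ∀ y ∈ F j, x * y = y * x) :
    ∀ x ∈ ⨆ i, F i, ∀ y ∈ ⨆ i, F i, x * y = y * x := by
  have h1 : ∀ j, (⨆ i, F i) ≤ centralizer (F j : Set G) := by
    intro j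
    apply iSup_le
    intro i x hx
    rw [mem_centralizer_iff]
    intro y hy
    exact (hF i j x hx y hy).symm
  have h2 : (⨆ i, F i) ≤ centralizer (((⨆ i, F i : Subgroup G)) : Set G) := by
    apply iSup_le
    intro j
    rw [Subgroup.le_centralizer_iff]
    exact h1 j
  intro x hx y hy
  have := h2 hx
  rw [mem_centralizer_iff] at this
  exact (this y hy).symm

end Family

theorem orderOf_conj_eq (g c : G) : orderOf (c * g * c⁻¹) = orderOf g :=
  orderOf_injective (MulAut.conj c).toMonoidHom (MulAut.conj c).injective g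

/-- **Assembly** for B-G 12.11 -/
theorem assembly [Finite G] (E Q : Subgroup G) (S : Set ℕ) (hS : ∀ p ∈ S, p.Prime)
    (hfree : ∀ e ∈ E, e ≠ 1 → (∀ q : ℕ, q.Prime → q ∣ orderOf e → q ∉ S) →
      Q ⊓ centralizer ({e} : Set G) = ⊥)
    (hdata : ∀ p ∈ S, ∃ P C : Subgroup G, P ≤ E ∧ E ≤ normalizer (P : Set G) ∧
      (∀ a ∈ P, ∀ b ∈ P, a * b = b * a) ∧ IsPGroup p P ∧ ¬ p ∣ P.relIndex E ∧
      C ≤ P ∧ E ≤ normalizer (C : Set G) ∧ Monoid.exponent P ∣ Monoid.exponent C ∧
      ∀ c ∈ C, c ≠ 1 → Q ⊓ centralizer ({c} : Set G) = ⊥) :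
    (∃ A₀ : Subgroup G, A₀ ≤ E ∧ E ≤ normalizer (A₀ : Set G) ∧ IsMulCommutative A₀ ∧
        ∀ x ∈ Q, x ≠ 1 → E ⊓ centralizer ({x} : Set G) ≤ A₀) ∧
      ∃ E₀ : Subgroup G, E₀ ≤ E ∧ Monoid.exponent E₀ = Monoid.exponent E ∧
        ∀ e ∈ E₀, e ≠ 1 → Q ⊓ centralizer ({e} : Set G) = ⊥ := by
  classical
  choose! Pf Cf hPE hPn hPc hPp hPi hCP hCn hexp hCfree using hdata
  set A₀ : Subgroup G := ⨆ p : S, Pf p with hA₀
  set C₀ : Subgroup G := ⨆ p : S, Cf p with hC₀
  have hA₀E : A₀ ≤ E := iSup_le fun p => hPE p p.2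
  have hA₀n : E ≤ normalizer (A₀ : Set G) := le_normalizer_iSup _ fun p => hPn p p.2
  have hC₀A₀ : C₀ ≤ A₀ := iSup_mono fun p => hCP p p.2
  have hC₀n : E ≤ normalizer (C₀ : Set G) := le_normalizer_iSup _ fun p => hCn p p.2
  have hPfA₀ : ∀ p (hp : p ∈ S), Pf p ≤ A₀ := fun p hp => le_iSup (fun p : S => Pf p) ⟨p, hp⟩
  have hCfC₀ : ∀ p (hp : p ∈ S), Cf p ≤ C₀ := fun p hp => le_iSup (fun p : S => Cf p) ⟨p, hp⟩
  -- generators commute
  have hgen : ∀ i j : S, ∀ x ∈ Pf i, ∀ y ∈ Pf j, x * y = y * x := by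
    intro i j x hx y hy
    by_cases hij : i = j
    · subst hij; exact hPc i i.2 x hx y hy
    · have hne : (i : ℕ) ≠ j := fun h => hij (Subtype.ext h)
      have h1 : x * y * x⁻¹ * y⁻¹ ∈ Pf i ⊓ Pf j := by
        constructor
        · have : y * x⁻¹ * y⁻¹ ∈ Pf i :=
            (mem_normalizer_iff.mp (hPn i i.2 (hPE j j.2 hy)) x⁻¹).mp ((Pf i).inv_mem hx)
          have h2 := (Pf i).mul_mem hx this
          have e1 : x * (y * x⁻¹ * y⁻¹) = x * y * x⁻¹ * y⁻¹ := by group
          rwa [e1] at h2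
        · have : x * y * x⁻¹ ∈ Pf j := (mem_normalizer_iff.mp (hPn j j.2 (hPE i i.2 hx)) y).mp hy
          exact (Pf j).mul_mem this ((Pf j).inv_mem hy)
      have h3 : Pf i ⊓ Pf j = ⊥ := by
        apply (Subgroup.disjoint_of_coprime_natCard _).eq_bot
        have : Fact (i : ℕ).Prime := ⟨hS i i.2⟩
        have : Fact (j : ℕ).Prime := ⟨hS j j.2⟩
        obtain ⟨a, ha⟩ := IsPGroup.iff_card.mp (hPp i i.2)
        obtain ⟨b, hb⟩ := IsPGroup.iff_card.mp (hPp j j.2)
        rw [ha, hb]
        exact Nat.Coprime.pow _ _ ((Nat.coprime_primes (hS i i.2) (hS j j.2)).mpr hne)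
      rw [h3, mem_bot] at h1
      calc x * y = (x * y * x⁻¹ * y⁻¹) * (y * x) := by group
        _ = y * x := by rw [h1, one_mul]
  have hcomm : ∀ x ∈ A₀, ∀ y ∈ A₀, x * y = y * x := commute_iSup _ hgen
  -- elements of `Pf p` have `p`-power order
  have hPford : ∀ p ∈ S, ∀ y ∈ Pf p, ∃ k, orderOf y ∣ p ^ k := by
    intro p hp y hy
    obtain ⟨k, hk⟩ := hPp p hp ⟨y, hy⟩
    refine ⟨k, orderOf_dvd_of_pow_eq_one ?_⟩
    exact congrArg Subtype.val hk
  -- elements of `A₀` are `S`-elements
  have hSel : ∀ x ∈ A₀, ∀ q : ℕ, q.Prime → q ∣ orderOf x → q ∈ S := by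
    intro x hx
    refine Subgroup.iSup_induction' (fun p : S => Pf p)
      (C := fun x _ => ∀ q : ℕ, q.Prime → q ∣ orderOf x → q ∈ S) ?_ ?_ ?_ hx
    · intro i y hy q hq hqy
      obtain ⟨k, hk⟩ := hPford i i.2 y hy
      have h1 : q ∣ (i : ℕ) := hq.dvd_of_dvd_pow (hqy.trans hk)
      rw [(Nat.prime_dvd_prime_iff_eq hq (hS i i.2)).mp h1]
      exact i.2
    · intro q hq hq1
      rw [orderOf_one] at hq1
      exact absurd (Nat.dvd_one.mp hq1) hq.one_lt.ne'
    · intro y z hy hz ihy ihz q hq hqyz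
      have hc : Commute y z := hcomm y hy z hz
      have h1 : q ∣ orderOf y * orderOf z := hqyz.trans hc.orderOf_mul_dvd_mul_orderOf
      rcases (Nat.Prime.dvd_mul hq).mp h1 with h | h
      · exact ihy q hq h
      · exact ihz q hq h
  have hHall : ∀ p ∈ S, ¬ p ∣ A₀.relIndex E := by
    intro p hp hd
    apply hPi p hp
    rw [← Subgroup.relIndex_mul_relIndex (Pf p) A₀ E (hPfA₀ p hp) hA₀E]
    exact Dvd.dvd.mul_left hd _
  have hDle : ∀ D : Subgroup G, D ≤ E → (∀ q : ℕ, q.Prime → q ∣ Nat.card D → q ∈ S) → D ≤ A₀ := by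
    intro D hDE hD
    apply le_of_coprime_relIndex hDE hA₀E hA₀n
    exact Nat.coprime_of_dvd fun q hq h1 h2 => hHall q (hD q hq h1) h2
  have hA₀S : ∀ q : ℕ, q.Prime → q ∣ Nat.card A₀ → q ∈ S := by
    intro q hq hqA
    have : Fact q.Prime := ⟨hq⟩
    obtain ⟨a, ha⟩ := exists_prime_orderOf_dvd_card' q hqA
    refine hSel a a.2 q hq ?_
    rw [Subgroup.orderOf_coe, ha]
  refine ⟨⟨A₀, hA₀E, hA₀n, ⟨⟨fun a b => Subtype.ext (hcomm a.1 a.2 b.1 b.2)⟩⟩, ?_⟩, ?_⟩
  · intro x hxQ hx1
    apply hDle _ inf_le_left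
    intro q hq hqD
    by_contra hqS
    have : Fact q.Prime := ⟨hq⟩
    obtain ⟨e, he⟩ := exists_prime_orderOf_dvd_card' q hqD
    have heo : orderOf (e : G) = q := by rw [Subgroup.orderOf_coe]; exact he
    have he1 : (e : G) ≠ 1 := by
      intro h
      rw [h, orderOf_one] at heo
      exact hq.one_lt.ne heo
    have h3 := hfree e e.2.1 he1 (fun r hr hre => by
      rw [heo] at hre
      rw [(Nat.prime_dvd_prime_iff_eq hr hq).mp hre]
      exact hqS)
    have hx : x ∈ Q ⊓ centralizer ({(e : G)} : Set G) := by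
      refine Subgroup.mem_inf.mpr ⟨hxQ, ?_⟩
      rw [mem_centralizer_iff]
      intro y hy
      rw [Set.mem_singleton_iff] at hy
      subst hy
      have : (e : G) ∈ centralizer ({x} : Set G) := e.2.2
      rw [mem_centralizer_iff] at this
      exact (this x rfl).symm
    rw [h3, mem_bot] at hx
    exact hx1 hx
  · -- the complement
    have hNn : (A₀.subgroupOf E).Normal := (normal_subgroupOf_iff_le_normalizer hA₀E).mpr hA₀n
    have hcardN : Nat.card (A₀.subgroupOf E) = Nat.card A₀ :=
      Nat.card_congr (subgroupOfEquivOfLe hA₀E).toEquiv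
    have hcop : (Nat.card (A₀.subgroupOf E)).Coprime (A₀.subgroupOf E).index := by
      rw [hcardN]
      exact Nat.coprime_of_dvd fun q hq h1 h2 => hHall q (hA₀S q hq h1) h2
    obtain ⟨H', hH'⟩ := Subgroup.exists_right_complement'_of_coprime hcop
    set H : Subgroup G := H'.map E.subtype with hH
    have hHE : H ≤ E := map_subtype_le _
    have hAH : A₀ ⊓ H = ⊥ := by
      rw [eq_bot_iff]
      rintro x ⟨hxA, ⟨y, hy, rfl⟩⟩
      have h1 : y ∈ A₀.subgroupOf E ⊓ H' := ⟨mem_subgroupOf.mpr hxA, hy⟩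
      rw [hH'.disjoint.eq_bot, mem_bot] at h1
      rw [h1]
      exact mem_bot.mpr rfl
    have hcardH : Nat.card A₀ * Nat.card H = Nat.card E := by
      have h1 := hH'.card_mul_card
      rw [hcardN] at h1
      rw [← h1]
      congr 1
      exact Nat.card_congr (H'.equivMapOfInjective E.subtype E.subtype_injective).symm.toEquiv
    have hE₀E : C₀ ⊔ H ≤ E := sup_le (hC₀A₀.trans hA₀E) hHE
    have hE₀A : ∀ x ∈ C₀ ⊔ H, x ∈ A₀ → x ∈ C₀ := by
      intro x hx hxA
      rw [sup_comm] at hx
      obtain ⟨h, hh, c, hc, rfl⟩ :=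
        Cfsg.Agent.Lib.Helper1_CRBasic.exists_mul_of_mem_sup (hHE.trans hC₀n) hx
      have h1 : h ∈ A₀ ⊓ H := by
        refine ⟨?_, hh⟩
        have := A₀.mul_mem hxA (A₀.inv_mem (hC₀A₀ hc))
        simpa using this
      rw [hAH, mem_bot] at h1
      rw [h1, one_mul]
      exact hc
    have hC₀r : ∀ r ∈ S, ∀ x ∈ C₀, x ∈ Pf r → x ∈ Cf r := by
      intro r hr x hx hxP
      have hrp : r.Prime := hS r hr
      set m := Nat.card E / r ^ (Nat.card E).factorization r with hm
      have hrm : r.Coprime m := Nat.coprime_ordCompl hrp Nat.card_pos.ne'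
      have hEm : r ^ (Nat.card E).factorization r * m = Nat.card E :=
        Nat.ordProj_mul_ordCompl_eq_self _ _
      have key : ∀ x ∈ C₀, x ^ m ∈ Cf r := by
        intro x hx
        refine Subgroup.iSup_induction' (fun p : S => Cf p)
          (C := fun x _ => x ^ m ∈ Cf r) ?_ ?_ ?_ hx
        · intro i y hy
          by_cases hir : (i : ℕ) = r
          · rw [← hir]
            exact pow_mem hy _
          · have h1 : orderOf y ∣ m := by
              obtain ⟨k, hk⟩ := hPford i i.2 y (hCP i i.2 hy)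
              have h2 : orderOf y ∣ Nat.card E := by
                have := orderOf_dvd_natCard (⟨y, hPE i i.2 (hCP i i.2 hy)⟩ : ↥E)
                rwa [Subgroup.orderOf_mk] at this
              rw [← hEm] at h2
              have h3 : (orderOf y).Coprime (r ^ (Nat.card E).factorization r) := by
                apply Nat.Coprime.coprime_dvd_left hk
                exact Nat.Coprime.pow _ _ ((Nat.coprime_primes (hS i i.2) hrp).mpr hir)
              exact h3.dvd_of_dvd_mul_left h2
            rw [orderOf_dvd_iff_pow_eq_one.mp h1]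
            exact one_mem _
        · rw [one_pow]; exact one_mem _
        · intro y z hy hz ihy ihz
          have hc : Commute y z := hcomm y (hC₀A₀ hy) z (hC₀A₀ hz)
          rw [hc.mul_pow]
          exact mul_mem ihy ihz
      have h1 := key x hx
      obtain ⟨k, hk⟩ := hPford r hr x hxP
      have h2 : m.Coprime (orderOf x) :=
        Nat.Coprime.coprime_dvd_right hk (Nat.Coprime.pow_right _ hrm.symm)
      obtain ⟨j, hj⟩ := exists_pow_eq_self_of_coprime h2
      rw [← hj]
      exact pow_mem h1 _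
    -- a nonidentity element of prime order
    have hzp : ∀ (e : G) (r : ℕ), r.Prime → e ∈ E → orderOf e ∣ r ^ (Nat.card E).factorization r →
        r ∈ S → e ∈ Pf r := by
      intro e r hr heE hre hrS
      have : zpowers e ≤ Pf r := by
        apply le_of_coprime_relIndex (zpowers_le.mpr heE) (hPE r hrS) (hPn r hrS)
        rw [Nat.card_zpowers]
        apply Nat.Coprime.coprime_dvd_left hre
        exact Nat.Coprime.pow_left _ ((Nat.Prime.coprime_iff_not_dvd hr).mpr (hPi r hrS))
      exact this (mem_zpowers e)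
    have hfreeE₀ : ∀ e ∈ C₀ ⊔ H, e ≠ 1 → Q ⊓ centralizer ({e} : Set G) = ⊥ := by
      intro e he he1
      rw [eq_bot_iff]
      intro x hx
      rw [mem_bot]
      by_contra hx1
      have ho : orderOf e ≠ 1 := fun h => he1 (orderOf_eq_one_iff.mp h)
      obtain ⟨r, hr, hre⟩ := Nat.exists_prime_and_dvd ho
      set e' := e ^ (orderOf e / r) with he'
      have hoe' : orderOf e' = r := orderOf_pow_orderOf_div (orderOf_pos e).ne' hre
      have he'E₀ : e' ∈ C₀ ⊔ H := pow_mem he _
      have he'E : e' ∈ E := hE₀E he'E₀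
      have he'1 : e' ≠ 1 := by
        intro h
        rw [h, orderOf_one] at hoe'
        exact hr.one_lt.ne hoe'
      have hxe' : x ∈ Q ⊓ centralizer ({e'} : Set G) := by
        refine Subgroup.mem_inf.mpr ⟨hx.1, ?_⟩
        rw [mem_centralizer_iff]
        intro y hy
        rw [Set.mem_singleton_iff] at hy
        subst hy
        have : x ∈ centralizer ({e} : Set G) := hx.2
        rw [mem_centralizer_iff] at this
        have hc : Commute e x := this e rfl
        exact (hc.pow_left _).eq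
      by_cases hrS : r ∈ S
      · have h1 : e' ∈ Pf r := by
          apply hzp e' r hr he'E _ hrS
          rw [hoe']
          have hrE : r ∣ Nat.card E := by
            have := orderOf_dvd_natCard (⟨e', he'E⟩ : ↥E)
            rwa [Subgroup.orderOf_mk, hoe'] at this
          have : 0 < (Nat.card E).factorization r :=
            hr.factorization_pos_of_dvd Nat.card_pos.ne' hrE
          exact dvd_pow_self r this.ne'
        have h2 : e' ∈ C₀ := hE₀A e' he'E₀ (hPfA₀ r hrS h1)
        have h3 := hCfree r hrS e' (hC₀r r hrS e' h2 h1) he'1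
        rw [h3, mem_bot] at hxe'
        exact hx1 hxe'
      · have h3 := hfree e' he'E he'1 (fun q hq hqe => by
          rw [hoe'] at hqe
          rw [(Nat.prime_dvd_prime_iff_eq hq hr).mp hqe]
          exact hrS)
        rw [h3, mem_bot] at hxe'
        exact hx1 hxe'
    refine ⟨C₀ ⊔ H, hE₀E, ?_, hfreeE₀⟩
    apply Nat.dvd_antisymm
    · exact Monoid.exponent_dvd_of_monoidHom (Subgroup.inclusion hE₀E)
        (Subgroup.inclusion_injective hE₀E)
    · rw [← Nat.factorization_le_iff_dvd Monoid.exponent_ne_zero_of_finite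
        Monoid.exponent_ne_zero_of_finite]
      intro q
      by_cases hq : q.Prime
      swap
      · rw [Nat.factorization_eq_zero_of_not_prime _ hq]; exact Nat.zero_le _
      obtain ⟨g, hg⟩ := hq.exists_orderOf_eq_pow_factorization_exponent (G := ↥E)
      set k := (Monoid.exponent ↥E).factorization q with hk
      suffices h : q ^ k ∣ Monoid.exponent ↥(C₀ ⊔ H : Subgroup G) from
        (hq.pow_dvd_iff_le_factorization Monoid.exponent_ne_zero_of_finite).mp h
      have hgo : orderOf (g : G) = q ^ k := by rw [Subgroup.orderOf_coe]; exact hg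
      have hkE : q ^ k ∣ q ^ (Nat.card E).factorization q := by
        apply pow_dvd_pow
        rw [← hq.pow_dvd_iff_le_factorization Nat.card_pos.ne', ← hg]
        exact orderOf_dvd_natCard g
      by_cases hqS : q ∈ S
      · have h1 : (g : G) ∈ Pf q := hzp g q hq g.2 (by rw [hgo]; exact hkE) hqS
        have h2 : q ^ k ∣ Monoid.exponent ↥(Pf q) := by
          rw [← hgo, ← Subgroup.orderOf_mk (g : G) h1]
          exact Monoid.order_dvd_exponent _
        have hle : Cf q ≤ C₀ ⊔ H := (hCfC₀ q hqS).trans le_sup_left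
        have h3 : Monoid.exponent ↥(Cf q) ∣ Monoid.exponent ↥(C₀ ⊔ H : Subgroup G) :=
          Monoid.exponent_dvd_of_monoidHom (Subgroup.inclusion hle)
            (Subgroup.inclusion_injective hle)
        exact h2.trans ((hexp q hqS).trans h3)
      · have : Fact q.Prime := ⟨hq⟩
        obtain ⟨T₀⟩ : Nonempty (Sylow q ↥H) := inferInstance
        have hT := Cfsg.Agent.Lib.Helper84_RelSylow.isSylowIn_of_sylow T₀
        set T : Subgroup G := (T₀ : Subgroup ↥H).map H.subtype with hTdef
        have hqA : ¬ q ∣ Nat.card A₀ := fun h => hqS (hA₀S q hq h)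
        have hHidx : H.relIndex E = Nat.card A₀ := by
          have h1 : H.relIndex E * Nat.card H = Nat.card E := by
            have := Subgroup.relIndex_mul_relIndex (⊥ : Subgroup G) H E bot_le hHE
            rw [Subgroup.relIndex_bot_left, Subgroup.relIndex_bot_left] at this
            rw [mul_comm]; exact this
          have h2 : Nat.card A₀ * Nat.card H = H.relIndex E * Nat.card H := by rw [hcardH, h1]
          exact (Nat.eq_of_mul_eq_mul_right Nat.card_pos h2).symm
        have hTE : Cfsg.Agent.Lib.Helper84_RelSylow.IsSylowIn q T E := by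
          refine ⟨hT.1.trans hHE, hT.2.1, ?_⟩
          rw [← Subgroup.relIndex_mul_relIndex T H E hT.1 hHE, hHidx]
          intro hd
          rcases (Nat.Prime.dvd_mul hq).mp hd with h | h
          · exact hT.2.2 h
          · exact hqA h
        have hgq : IsPGroup q (zpowers (g : G)) := by
          apply IsPGroup.of_card (n := k)
          rw [Nat.card_zpowers, hgo]
        obtain ⟨c, hc, hcT⟩ := hTE.exists_conj_le (zpowers_le.mpr g.2) hgq
        have h1 : c * (g : G) * c⁻¹ ∈ C₀ ⊔ H :=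
          (le_sup_right : H ≤ C₀ ⊔ H) (hT.1 (hcT _ (mem_zpowers _)))
        have h2 : orderOf (⟨c * (g : G) * c⁻¹, h1⟩ : ↥(C₀ ⊔ H : Subgroup G)) = q ^ k := by
          rw [Subgroup.orderOf_mk, orderOf_conj_eq, hgo]
        rw [← h2]
        exact Monoid.order_dvd_exponent _

end Cfsg.Agent.Lib.Helper47_BG1211c
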