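import Mathlib
import Cfsg.Agent.Lib.Helper47_BG1214b
import Cfsg.Agent.Lib.Helper73_BG126
import Cfsg.Agent.Lib.Helper59_BG142c
import Cfsg.Agent.Lib.Helper63_Maschke
import Cfsg.Agent.Lib.Helper76_BG13c
import Cfsg.Agent.Lib.Helper52_FrobFormula
import Cfsg.Agent.Lib.Helper48_Generation
import Cfsg.Agent.Lib.Helper70_BG127
import Cfsg.Agent.Lib.Helper52_BG12d
import Cfsg.Agent.Lib.Helper30_SigmaPartA
import Cfsg.Agent.Lib.Helper23_PLength
import Cfsg.Agent.S1414
import Cfsg.Agent.S1350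

/-!
# Piece P5' of helper47's plan for S1421 (B-G 12.11), by helper52

`le_centralizer_of_irreducible`: in the abelian Sylow case, if `N_G(A)` normalizes no subgroup of order
`p` of `A`, then the complement `E` centralizes `A`.
-/

set_option autoImplicit false

namespace Cfsg.Agent.Lib.Helper52_BG1211e

open Subgroup Cfsg Cfsg.Agent.Lib.Helper49_Sigma Cfsg.Agent.Lib.Helper70_BG106
  Cfsg.Agent.Lib.Helper73_BG12 Cfsg.Agent.Lib.Helper73_BG126 Cfsg.Agent.Lib.Helper84_RelSylow
  Cfsg.Agent.Lib.Helper48_Generation Cfsg.Agent.Lib.Helper22_Radical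

universe u

section general

variable {G : Type*} [Group G]

/-- Generation by centralizers, for commuting elements whose `r`-th powers act trivially. -/
theorem le_of_centralizers_le' {r : ℕ} [Fact r.Prime] (Q : Subgroup G) [Finite Q] [Group.IsNilpotent Q]
    (hcop : ¬ r ∣ Nat.card Q) (a b : G)
    (ha : a ∈ normalizer (Q : Set G)) (hb : b ∈ normalizer (Q : Set G))
    (hap : a ^ r ∈ centralizer (Q : Set G)) (hbp : b ^ r ∈ centralizer (Q : Set G))
    (hab : a * b = b * a) (T : Subgroup G)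
    (hTb : Q ⊓ centralizer ({b} : Set G) ≤ T)
    (hTa : ∀ i : ℕ, Q ⊓ centralizer ({a * b ^ i} : Set G) ≤ T) : Q ≤ T := by
  let a' : normalizer (Q : Set G) := ⟨a, ha⟩
  let b' : normalizer (Q : Set G) := ⟨b, hb⟩
  have hab' : a' * b' = b' * a' := Subtype.ext (by simpa using hab)
  have hfix : ∀ (g : normalizer (Q : Set G)) (x : Q), normAut Q g x = x →
      (x : G) ∈ Q ⊓ centralizer ({(g : G)} : Set G) := by
    intro g x hx
    refine mem_inf.mpr ⟨x.2, ?_⟩
    rw [mem_centralizer_singleton_iff]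
    have h1 : (g : G) * x * (g : G)⁻¹ = x := congrArg Subtype.val hx
    calc (x : G) * g = ((g : G) * x * (g : G)⁻¹) * g := by rw [h1]
      _ = g * x := by group
  have htriv : ∀ g : normalizer (Q : Set G), (g : G) ∈ centralizer (Q : Set G) → normAut Q g = 1 := by
    intro g hg
    ext x
    rw [normAut_apply_coe]
    have := mem_centralizer_iff.mp hg x x.2
    simp only [MulAut.one_apply]
    calc (g : G) * x * (g : G)⁻¹ = (x * g) * (g : G)⁻¹ := by rw [this]
      _ = x := by group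
  have key := eq_top_of_fixed_le (p := r) Q hcop (normAut Q a') (normAut Q b')
    (by rw [← map_pow]; exact htriv _ (by simpa using hap))
    (by rw [← map_pow]; exact htriv _ (by simpa using hbp))
    (by rw [← map_mul, hab', map_mul]) (T.subgroupOf Q)
    (by
      intro x hx
      rw [mem_subgroupOf]
      exact hTb (hfix b' x hx))
    (by
      intro i x hx
      rw [mem_subgroupOf]
      rw [← map_pow, ← map_mul] at hx
      have := hfix (a' * b' ^ i) x hx
      exact hTa i (by simpa using this))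
  intro x hx
  have : (⟨x, hx⟩ : Q) ∈ T.subgroupOf Q := by rw [key]; trivial
  rwa [mem_subgroupOf] at this

/-- if a Sylow `p`-subgroup `P` has only `p ^ 2` elements of order dividing `p`, forming the subgroup
`A`, then every subgroup of exponent `p` is conjugate into `A` -/
theorem exists_conj_le_of_omega [Finite G] {p : ℕ} [Fact p.Prime] {A P : Subgroup G}
    (hPS : IsSylowIn p P ⊤) (hΩ : ∀ x ∈ P, x ^ p = 1 ↔ x ∈ A) {B : Subgroup G}
    (hB : ∀ b ∈ B, b ^ p = 1) : ∃ g : G, ∀ b ∈ B, g * b * g⁻¹ ∈ A := by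
  have hBp : IsPGroup p B := by
    rintro ⟨b, hb⟩
    exact ⟨1, Subtype.ext (by simpa using hB b hb)⟩
  have : Finite (⊤ : Subgroup G) := inferInstance
  obtain ⟨g, -, hg⟩ := hPS.exists_conj_le (K := B) le_top hBp
  refine ⟨g, fun b hb => ?_⟩
  rw [← hΩ _ (hg b hb), conj_pow, hB b hb]
  group

/-- under the same hypothesis every subgroup has `p`-rank at most two -/
theorem pRankLE_two_of_omega [Finite G] {p : ℕ} [Fact p.Prime] {A P : Subgroup G}
    (hPS : IsSylowIn p P ⊤) (hΩ : ∀ x ∈ P, x ^ p = 1 ↔ x ∈ A) (hA2 : Nat.card A = p ^ 2)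
    (L : Subgroup G) : PRankLE p 2 ↥L := by
  intro B _ hBe
  obtain ⟨g, hg⟩ := exists_conj_le_of_omega hPS hΩ (B := B.map L.subtype) (by
    rintro _ ⟨b, hb, rfl⟩
    rw [← map_pow, hBe b hb, map_one])
  have hle : (B.map L.subtype).map (MulAut.conj g).toMonoidHom ≤ A := by
    rintro _ ⟨b, hb, rfl⟩
    exact hg b hb
  have h1 := Subgroup.card_le_of_le hle
  rw [Subgroup.card_map_of_injective (MulAut.conj g).injective,
    Subgroup.card_map_of_injective L.subtype_injective, hA2] at h1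
  exact h1

/-- if `N_G(A)' ≤ C_G(A)` and `N_G(A)` normalizes no subgroup of order `p` of `A` (of order `p ^ 2`),
then every element of `N_G(A)` outside `C_G(A)` acts freely on `A` -/
theorem free_of_irreducible [Finite G] {p : ℕ} [Fact p.Prime] {A : Subgroup G}
    (hA2 : Nat.card A = p ^ 2)
    (hN' : ⁅normalizer (A : Set G), normalizer (A : Set G)⁆ ≤ centralizer (A : Set G))
    (hirr : ∀ Y : Subgroup G, Y ≤ A → Nat.card Y = p →
      ¬ normalizer (A : Set G) ≤ normalizer (Y : Set G))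
    {n : G} (hn : n ∈ normalizer (A : Set G)) (hnC : n ∉ centralizer (A : Set G)) :
    A ⊓ centralizer ({n} : Set G) = ⊥ := by
  have hpp : p.Prime := Fact.out
  set F : Subgroup G := A ⊓ centralizer ({n} : Set G) with hF
  have hFN : normalizer (A : Set G) ≤ normalizer (F : Set G) := by
    apply Cfsg.Agent.Lib.Helper52_BG12c.le_normalizer_of_conj_mem
    intro m hm a ha
    obtain ⟨haA, haC⟩ := mem_inf.mp ha
    rw [mem_centralizer_singleton_iff] at haC
    refine mem_inf.mpr ⟨(mem_normalizer_iff.mp hm a).mp haA, ?_⟩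
    rw [mem_centralizer_singleton_iff]
    -- `c = n⁻¹ m⁻¹ n m` centralizes `A`
    have hc : n⁻¹ * m⁻¹ * n * m ∈ centralizer (A : Set G) := by
      apply hN'
      have := Subgroup.commutator_mem_commutator (inv_mem hn) (inv_mem hm)
      rw [commutatorElement_def] at this
      simpa using this
    have hca := mem_centralizer_iff.mp hc a haA
    -- haC : a * n = n * a ; hca : a * c = c * a
    have e1 : m * a * m⁻¹ * n = m * (a * (n * (n⁻¹ * m⁻¹ * n * m))) * m⁻¹ := by group
    have e2 : n * (m * a * m⁻¹) = m * (n * ((n⁻¹ * m⁻¹ * n * m) * a)) * m⁻¹ := by group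
    rw [e1, e2, ← hca, ← mul_assoc a, haC, mul_assoc n a]
  have hFA : F ≤ A := inf_le_left
  have hdvd : Nat.card F ∣ p ^ 2 := hA2 ▸ Subgroup.card_dvd_of_le hFA
  obtain ⟨k, hk, hFk⟩ := (Nat.dvd_prime_pow hpp).mp hdvd
  interval_cases k
  · rw [pow_zero] at hFk
    exact Subgroup.card_eq_one.mp hFk
  · rw [pow_one] at hFk
    exact absurd hFN (hirr F hFA hFk)
  · exfalso
    apply hnC
    have hFeq : F = A := Subgroup.eq_of_le_of_card_ge hFA (by rw [hFk, hA2])
    rw [mem_centralizer_iff]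
    intro a ha
    have : a ∈ F := hFeq ▸ ha
    exact mem_centralizer_singleton_iff.mp (mem_inf.mp this).2

end general

variable {G : Type u} [Group G] [Finite G]

theorem core (hG : IsMinSimpleOddOrder G) (hU : UniqHyp G) (h44 : H1444.{u})
    (hC : CentHyp G) (h17 : Hyp1417Full G) {M : Subgroup G} (hM : IsCoatom M) {E : Subgroup G}
    (hE : IsComplIn E (sigmaCore M) M)
    (hH : ∀ e ∈ E, e ≠ 1 → (∀ q : ℕ, q.Prime → q ∣ orderOf e → q ∈ tau1 M ∪ tau3 M) →
      sigmaCore M ⊓ centralizer ({e} : Set G) = ⊥)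
    {p : ℕ} [Fact p.Prime] (hp : p ∈ tau2 M) {A : Subgroup G}
    (hAE : A ≤ E) (hAe : IsElementaryAbelian p A) (hA2 : Nat.card A = p ^ 2)
    {P L : Subgroup G} (hAP : A ≤ P) (hPE : P ≤ E) (hPS : IsSylowIn p P ⊤)
    (hΩ : ∀ x ∈ P, x ^ p = 1 ↔ x ∈ A)
    (hNP : normalizer (A : Set G) ≤ normalizer (P : Set G))
    (hN' : ⁅normalizer (A : Set G), normalizer (A : Set G)⁆ ≤ centralizer (A : Set G))
    (hL : IsCoatom L) (hNL : normalizer (A : Set G) ≤ L) (hpL : p ∈ sigma L)
    (hidx : ∀ r : ℕ, r.Prime → r ∉ sigma L → ¬ r ∣ (normalizer (A : Set G)).relIndex L)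
    (hirr : ∀ Y : Subgroup G, Y ≤ A → Nat.card Y = p →
      ¬ normalizer (A : Set G) ≤ normalizer (Y : Set G))
    {r : ℕ} [Fact r.Prime] (hrτ : r ∈ tau1 M ∪ tau3 M)
    {e : G} (heE : e ∈ E) (heC : e ∉ centralizer (A : Set G))
    (her : e ^ r ∈ centralizer (A : Set G)) {k : ℕ} (hek : e ^ (r ^ k) = 1) : False := by
  have hpp : p.Prime := Fact.out
  have hrp : r.Prime := Fact.out
  have hEM : E ≤ M := hE.1
  obtain ⟨⟨hEN, -⟩, ⟨hCA, hMN, -⟩, -⟩ := statement_S1418 hG hC h17 M hM E hE hp A ⟨hAE, hAe, hA2⟩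
  have hCE : centralizer (A : Set G) ≤ E := by rw [← hMN]; exact hCA
  obtain ⟨-, -, -, h17d, -, -⟩ := h17 M hM p hp A ⟨hAE.trans hEM, hAe, hA2⟩
  have hr1 : PRankLE r 1 ↥M := by
    rcases hrτ with h | h
    · exact h.2.2.2.2
    · exact h.2.2.2
  have hrσ : r ∉ sigma M := by
    rcases hrτ with h | h
    · exact h.2.1
    · exact h.2.1
  have hrp_ne : r ≠ p := by
    rintro rfl
    exact hp.2.2.2 hr1
  have hp2 : p ≠ 2 := by
    rintro rfl
    have h1 : 2 ∣ Nat.card A := by rw [hA2]; exact dvd_pow_self 2 (by norm_num)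
    have h6 : 2 ∣ Nat.card G := h1.trans (Subgroup.card_subgroup_dvd_card _)
    exact (Nat.not_even_iff_odd.mpr hG.1) (even_iff_two_dvd.mpr h6)
  have he1 : e ≠ 1 := by
    rintro rfl
    exact heC (one_mem _)
  have heN : e ∈ normalizer (A : Set G) := hEN heE
  have hfree : ∀ n ∈ normalizer (A : Set G), n ∉ centralizer (A : Set G) →
      A ⊓ centralizer ({n} : Set G) = ⊥ :=
    fun n hn hnC => free_of_irreducible hA2 hN' hirr hn hnC
  have hcopA : ¬ r ∣ Nat.card A := by
    rw [hA2]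
    intro h
    exact hrp_ne ((Nat.prime_dvd_prime_iff_eq hrp hpp).mp (hrp.dvd_of_dvd_pow h))
  have horder : ∀ q : ℕ, q.Prime → q ∣ orderOf e → q = r := by
    intro q hq hd
    have : orderOf e ∣ r ^ k := orderOf_dvd_of_pow_eq_one hek
    exact (Nat.prime_dvd_prime_iff_eq hq hrp).mp (hq.dvd_of_dvd_pow (hd.trans this))
  have hcoprp : Nat.Coprime r p := (Nat.coprime_primes hrp hpp).mpr hrp_ne
  have hecop : (orderOf e).Coprime p :=
    Nat.Coprime.coprime_dvd_left (orderOf_dvd_of_pow_eq_one hek) (Nat.Coprime.pow_left k hcoprp)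
  have hZr : IsPGroup r (zpowers e) := by
    rintro ⟨y, hy⟩
    obtain ⟨n, rfl⟩ := mem_zpowers_iff.mp hy
    refine ⟨k, Subtype.ext ?_⟩
    rw [Subgroup.coe_pow, Subgroup.coe_one]
    show (e ^ n) ^ r ^ k = 1
    rw [← zpow_natCast, ← zpow_mul, mul_comm, zpow_mul, zpow_natCast, hek, one_zpow]
  by_cases her1 : e ^ r = 1
  · -- Frobenius case
    have hZE : zpowers e ≤ E := zpowers_le.mpr heE
    have hcardZ : Nat.card (zpowers e) = r := by
      rw [Nat.card_zpowers]; exact orderOf_eq_prime her1 he1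
    have hZ1 : zpowers e ≠ ⊥ := by rw [Ne, zpowers_eq_bot]; exact he1
    have hZC : ∀ d ∈ zpowers e, d ≠ 1 → d ∉ centralizer (A : Set G) := by
      intro d hd hd1 hdC
      have h1 : Nat.card ↥(zpowers e ⊓ centralizer (A : Set G)) ∣ r :=
        hcardZ ▸ Subgroup.card_dvd_of_le inf_le_left
      rcases (Nat.dvd_prime hrp).mp h1 with h | h
      · have h2 := Subgroup.card_eq_one.mp h
        have hd' : d ∈ zpowers e ⊓ centralizer (A : Set G) := mem_inf.mpr ⟨hd, hdC⟩
        rw [h2, mem_bot] at hd'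
        exact hd1 hd'
      · have h2 : zpowers e ⊓ centralizer (A : Set G) = zpowers e :=
          Subgroup.eq_of_le_of_card_ge inf_le_left (by rw [h, hcardZ])
        have h3 : e ∈ zpowers e ⊓ centralizer (A : Set G) := by
          rw [h2]; exact mem_zpowers e
        exact heC (mem_inf.mp h3).2
    have hMσn : M ≤ normalizer ((sigmaCore M : Subgroup G) : Set G) :=
      Cfsg.Agent.Lib.Helper22_BGTrans.le_normalizer_piCoreOf (sigma M) M
    have hσM : sigmaCore M ≤ M := Cfsg.Agent.Lib.Helper23_SigmaHall.sigmaCore_le M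
    have hsolvM : Group.IsSolvable ↥M := hG.2.2.2 M hM.1
    have hsolv : Group.IsSolvable ↥(sigmaCore M) :=
      Group.isSolvable_of_isSolvable_injective (Subgroup.inclusion_injective hσM)
    have hcop : (Nat.card ↥(A ⊔ zpowers e)).Coprime (Nat.card ↥(sigmaCore M)) := by
      apply Nat.Coprime.coprime_dvd_left (Subgroup.card_dvd_of_le (sup_le hAE hZE))
      apply Nat.coprime_of_dvd
      intro q hq hd1 hd2
      exact Cfsg.Agent.Lib.Helper52_BG12d.not_mem_sigma_of_dvd_card_compl hG hU h44 hM hE hd1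
        (Cfsg.Agent.Lib.Helper76_BG13b.mem_sigma_of_dvd_card_le_sigmaCore le_rfl hq hd2)
    have hform := Cfsg.Agent.Lib.Helper52_FrobFormula.frobenius_formula A (zpowers e) (sigmaCore M) hZ1
      (fun d hd u hu => (mem_normalizer_iff.mp (hEN (hZE hd)) u).mp hu)
      (fun d hd hd1 u hu hdu => by
        have h1 := hfree d (hEN (hZE hd)) (hZC d hd hd1)
        have hu' : u ∈ A ⊓ centralizer ({d} : Set G) :=
          mem_inf.mpr ⟨hu, mem_centralizer_singleton_iff.mpr hdu.symm⟩
        rw [h1, mem_bot] at hu'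
        exact hu')
      ((sup_le hAE hZE).trans (hEM.trans hMσn)) hsolv hcop
    have hC1 : sigmaCore M ⊓ centralizer ((A ⊔ zpowers e : Subgroup G) : Set G) = ⊥ := by
      rw [eq_bot_iff, ← h17d]
      exact inf_le_inf_left _ (Subgroup.centralizer_le (by exact_mod_cast (le_sup_left : A ≤ A ⊔ zpowers e)))
    have hC2 : sigmaCore M ⊓ centralizer ((zpowers e : Subgroup G) : Set G) = ⊥ := by
      rw [eq_bot_iff, ← hH e heE he1 (fun q hq hd => (horder q hq hd) ▸ hrτ)]
      exact inf_le_inf_left _ (Subgroup.centralizer_le (by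
        intro x hx
        rw [Set.mem_singleton_iff] at hx
        rw [hx]
        exact mem_zpowers e))
    rw [hC1, hC2, h17d, Subgroup.card_bot, one_pow, one_mul, one_mul] at hform
    exact Cfsg.Agent.Lib.Helper52_BG12a.sigmaCore_ne_bot hG hU h44 hM (Subgroup.card_eq_one.mp hform)
  · -- `f = e ^ r ≠ 1` centralizes `A`, hence `P`
    have hfE : e ^ r ∈ E := E.pow_mem heE r
    have hfP : ∀ x ∈ P, e ^ r * x = x * e ^ r := by
      apply Cfsg.Agent.Lib.Helper23_PLength.centralizes_of_fix_omega hp2 P hPS.isPGroup (e ^ r)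
        (hNP (hEN hfE))
      · have h1 : orderOf (e ^ r) ∣ r ^ k :=
          orderOf_dvd_of_pow_eq_one (by rw [← pow_mul, mul_comm, pow_mul, hek, one_pow])
        exact Nat.Coprime.coprime_dvd_left h1 (Nat.Coprime.pow_left k hcoprp)
      · intro x hx hxp
        exact (mem_centralizer_iff.mp her x ((hΩ x hx).mp hxp)).symm
    have hPN : P ≤ normalizer (A : Set G) := hPE.trans hEN
    have hPL : P ≤ L := hPN.trans hNL
    have heL : e ∈ L := hNL heN
    have hHallL := (Cfsg.Agent.S1350.result hG L hL).1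
    have hPσ : P ≤ sigmaCore L :=
      Cfsg.Agent.Lib.Helper30_SigmaPartA.le_sigmaCore_of_isPGroup hHallL hpL hPL hPS.isPGroup
    have heNP : e ∈ normalizer (P : Set G) := hNP heN
    suffices hcomm : ∀ x ∈ P, e * x = x * e by
      apply heC
      rw [mem_centralizer_iff]
      intro a ha
      exact (hcomm a (hAP ha)).symm
    by_cases hrσL : r ∈ sigma L
    · -- `e ∈ L_σ`, which has a normal `p`-complement
      have heσ : e ∈ sigmaCore L :=
        Cfsg.Agent.Lib.Helper30_SigmaPartA.le_sigmaCore_of_isPGroup hHallL hrσL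
          (zpowers_le.mpr heL) hZr (mem_zpowers e)
      have hpβ : p ∉ beta L := fun h => h.1.2 (pRankLE_two_of_omega hPS hΩ hA2 L)
      obtain ⟨-, hnc, -⟩ := (Cfsg.Agent.S1414.result hG L hL).2.2.2.2 p hpp hpL.2.1 hpβ
      intro x hx
      exact Cfsg.Agent.Lib.Helper30_SigmaPartA.commute_of_hasNormalPComplement hnc hPσ hPS.isPGroup
        heσ heNP hecop hx
    · have hidx' := hidx r hrp hrσL
      obtain ⟨R, hZR, hRN⟩ := exists_isSylowIn_ge (H := normalizer (A : Set G))
        (zpowers_le.mpr heN) hZr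
      have heR : e ∈ R := hZR (mem_zpowers e)
      have hfR : e ^ r ∈ R := R.pow_mem heR r
      have hRL : IsSylowIn r R L := by
        refine ⟨hRN.le.trans hNL, hRN.isPGroup, ?_⟩
        rw [← Subgroup.relIndex_mul_relIndex R _ L hRN.le hNL]
        intro hd
        rcases (Nat.Prime.dvd_mul hrp).mp hd with h | h
        · exact hRN.not_dvd h
        · exact hidx' h
      have hr2L : PRankLE r 2 ↥L :=
        Cfsg.Agent.Lib.Helper23_SigmaHall.pRankLE_of_not_mem_sigma hG hU hL hrp hrσL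
      have hr2 : r ≠ 2 := by
        rintro rfl
        have h1 : 2 ∣ Nat.card (zpowers e) := by
          rw [Nat.card_zpowers]
          obtain ⟨q, hq, hd⟩ := Nat.exists_prime_and_dvd (n := orderOf e) (by
            rw [Ne, orderOf_eq_one_iff]; exact he1)
          rwa [horder q hq hd] at hd
        have h6 : 2 ∣ Nat.card G := h1.trans (Subgroup.card_subgroup_dvd_card _)
        exact (Nat.not_even_iff_odd.mpr hG.1) (even_iff_two_dvd.mpr h6)
      by_cases hr1L : PRankLE r 1 ↥L
      · -- `R` cyclic: B-G 13.2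
        obtain ⟨EL, hEL, hREL⟩ := Cfsg.Agent.Lib.Helper59_BG142c.exists_compl_ge hHallL hrσL hRL.le
          hRL.isPGroup
        have hRsE : IsSylowIn r R EL := hRL.mono hREL hEL.1
        have hSmap : ((hRsE.toSylow : Sylow r EL) : Subgroup EL).map EL.subtype = R := by
          rw [hRsE.coe_toSylow, Subgroup.map_subgroupOf_eq_of_le hREL]
        have hS1 : ((hRsE.toSylow : Sylow r EL) : Subgroup EL) ≠ ⊥ := by
          intro h
          rw [h, Subgroup.map_bot] at hSmap
          rw [← hSmap, mem_bot] at heR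
          exact he1 heR
        have hSc : IsCyclic ((hRsE.toSylow : Sylow r EL) : Subgroup EL) := by
          apply Cfsg.Agent.Lib.Helper29_BG12a.isCyclic_of_pRankLE_one hr2 (hRsE.toSylow).isPGroup'
          exact Cfsg.Agent.Lib.Helper2_PRank.pRankLE_of_injective' r 1
            ((Subgroup.inclusion hEL.1).comp (Subgroup.subtype _))
            ((Subgroup.inclusion_injective hEL.1).comp (Subgroup.subtype_injective _)) hr1L
        have h17' : Cfsg.Agent.Lib.Helper79_BG141.Hyp1417 G :=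
          fun M hM p _ hp A hA => h17 M hM p hp A hA
        have h18a : Cfsg.Agent.Lib.Helper76_BG13c.Hyp1418a G :=
          fun M hM E hE p _ hp A hAE hAe hA2 =>
            (statement_S1418 hG hC h17 M hM E hE hp A ⟨hAE, hAe, hA2⟩).1.1
        have h132 := Cfsg.Agent.Lib.Helper76_BG13c.bg13_2 hG hC h17' h18a L hL EL hEL r hRsE.toSylow
          hS1 hSc (e ^ r) (by rw [hSmap]; exact hfR) her1
        rw [hSmap] at h132
        intro x hx
        have hx1 : x ∈ sigmaCore L ⊓ centralizer ({e ^ r} : Set G) :=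
          mem_inf.mpr ⟨hPσ hx, mem_centralizer_singleton_iff.mpr (hfP x hx).symm⟩
        rw [h132] at hx1
        exact mem_centralizer_iff.mp (mem_inf.mp hx1).2 e heR
      · -- `r ∈ τ₂(L)`
        exfalso
        have hrτ2 : r ∈ tau2 L := ⟨hrp, hrσL, hr2L, hr1L⟩
        obtain ⟨B, hBL, hBe, hB2⟩ := Cfsg.Agent.Lib.Helper49_Alpha3.exists_elemAb_sq hr2L hr1L
        obtain ⟨-, h17bL, -⟩ := h17 L hL r hrτ2 B ⟨hBL, hBe, hB2⟩
        have hRc : ∀ a ∈ R, ∀ b ∈ R, a * b = b * a := by
          obtain ⟨hcomm, -⟩ := h17bL hRL.toSylow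
          intro a ha b hb
          have ha' : (⟨a, hRL.le ha⟩ : L) ∈ (hRL.toSylow : Subgroup L) := (hRL.mem_toSylow _).mpr ha
          have hb' : (⟨b, hRL.le hb⟩ : L) ∈ (hRL.toSylow : Subgroup L) := (hRL.mem_toSylow _).mpr hb
          have h1 := hcomm.is_comm.comm ⟨⟨a, hRL.le ha⟩, ha'⟩ ⟨⟨b, hRL.le hb⟩, hb'⟩
          have h2 := congrArg (fun z : ↥(hRL.toSylow : Subgroup L) => ((z : L) : G)) h1
          exact h2
        have hBr : IsPGroup r B := IsPGroup.of_card hB2
        obtain ⟨m, hmL, hmB⟩ := hRL.exists_conj_le hBL hBr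
        have : Group.IsNilpotent ↥A := (IsPGroup.of_card hA2).isNilpotent
        have hBE : ∀ b ∈ B, m * b * m⁻¹ ∈ E := by
          intro b hb
          have haR : m * b * m⁻¹ ∈ R := hmB b hb
          have haN : m * b * m⁻¹ ∈ normalizer (A : Set G) := hRN.le haR
          have har : (m * b * m⁻¹) ^ r = 1 := by
            rw [conj_pow, hBe.2 b hb]; group
          have hae : (m * b * m⁻¹) * e = e * (m * b * m⁻¹) := hRc _ haR e heR
          by_contra haE
          have hle := le_of_centralizers_le' (r := r) A hcopA (m * b * m⁻¹) e haN heN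
            (by rw [har]; exact one_mem _) her hae ⊥ (hfree e heN heC).le
            (fun i => (hfree (m * b * m⁻¹ * e ^ i) (mul_mem haN (pow_mem heN i)) (fun hc => haE (by
              have h1 : m * b * m⁻¹ * e ^ i ∈ E := hCE hc
              have h2 : m * b * m⁻¹ = (m * b * m⁻¹ * e ^ i) * (e ^ i)⁻¹ := by group
              rw [h2]
              exact E.mul_mem h1 (E.inv_mem (E.pow_mem heE i))))).le)
          have h1 : Nat.card A = 1 := by rw [le_bot_iff.mp hle, Subgroup.card_bot]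
          rw [hA2] at h1
          have := hpp.one_lt
          nlinarith
        have hBM : cj m B ≤ M := by
          rintro _ ⟨b, hb, rfl⟩
          exact hEM (hBE b hb)
        exact Cfsg.Agent.Lib.Helper76_BG13a.not_pRankLE_one_of_elemAb hrp hBM
          (Cfsg.Agent.Lib.Helper52_BG12d.isElementaryAbelian_cj hBe m)
          (by rw [Cfsg.Agent.Lib.Helper22_BGTrans.card_cj, hB2]) hr1

/-- **P5'** (helper47's plan for B-G 12.11): in the abelian Sylow case, if `N_G(A)` normalizes no
subgroup of order `p` of `A`, then `E` centralizes `A`.  (`hH` is `FreeHyp M E` unfolded.) -/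
theorem le_centralizer_of_irreducible (hG : IsMinSimpleOddOrder G) (hU : UniqHyp G) (h44 : H1444.{u})
    (hC : CentHyp G) (h17 : Hyp1417Full G) {M : Subgroup G} (hM : IsCoatom M) {E : Subgroup G}
    (hE : IsComplIn E (sigmaCore M) M)
    (hH : ∀ e ∈ E, e ≠ 1 → (∀ q : ℕ, q.Prime → q ∣ orderOf e → q ∈ tau1 M ∪ tau3 M) →
      sigmaCore M ⊓ centralizer ({e} : Set G) = ⊥)
    {p : ℕ} [Fact p.Prime] (hp : p ∈ tau2 M) {A : Subgroup G}
    (hAE : A ≤ E) (hAe : IsElementaryAbelian p A) (hA2 : Nat.card A = p ^ 2)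
    {P L : Subgroup G} (hAP : A ≤ P) (hPE : P ≤ E) (hPS : IsSylowIn p P ⊤) (hPc : IsMulCommutative P)
    (hΩ : ∀ x ∈ P, x ^ p = 1 ↔ x ∈ A)
    (hNP : normalizer (A : Set G) ≤ normalizer (P : Set G))
    (hN' : ⁅normalizer (A : Set G), normalizer (A : Set G)⁆ ≤ centralizer (A : Set G))
    (hL : IsCoatom L) (hNL : normalizer (A : Set G) ≤ L) (hpL : p ∈ sigma L)
    (hidx : ∀ r : ℕ, r.Prime → r ∉ sigma L → ¬ r ∣ (normalizer (A : Set G)).relIndex L)
    (hτ₂ : ∀ e ∈ E, (∀ q : ℕ, q.Prime → q ∣ orderOf e → q ∈ tau2 M) → e ∈ centralizer (A : Set G))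
    (hirr : ∀ Y : Subgroup G, Y ≤ A → Nat.card Y = p →
      ¬ normalizer (A : Set G) ≤ normalizer (Y : Set G)) :
    E ≤ centralizer (A : Set G) := by
  have hpp : p.Prime := Fact.out
  have key : ∀ (r : ℕ) [Fact r.Prime], r ∈ tau1 M ∪ tau3 M → ∀ k : ℕ, ∀ e ∈ E, e ^ (r ^ k) = 1 →
      e ∈ centralizer (A : Set G) := by
    intro r _ hrτ k
    induction k with
    | zero =>
      intro e _ he
      rw [pow_zero, pow_one] at he
      rw [he]
      exact one_mem _
    | succ k ih =>
      intro e heE hek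
      by_contra heC
      have her : e ^ r ∈ centralizer (A : Set G) :=
        ih (e ^ r) (E.pow_mem heE r) (by rw [← pow_mul, ← pow_succ']; exact hek)
      exact core hG hU h44 hC h17 hM hE hH hp hAE hAe hA2 hAP hPE hPS hΩ hNP hN' hL hNL hpL hidx hirr
        hrτ heE heC her hek
  intro x hx
  apply Cfsg.Agent.Lib.Helper70_BG127.mem_of_primary_parts_mem
  intro q hq hqd
  have hyE : x ^ (orderOf x / q ^ (orderOf x).factorization q) ∈ E := E.pow_mem hx _
  have hyq : (x ^ (orderOf x / q ^ (orderOf x).factorization q)) ^ (q ^ (orderOf x).factorization q)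
      = 1 := by
    rw [← pow_mul, Nat.div_mul_cancel (Nat.ordProj_dvd _ _), pow_orderOf_eq_one]
  have hxE : orderOf x ∣ Nat.card E := by
    have := orderOf_dvd_natCard (⟨x, hx⟩ : E)
    rwa [Subgroup.orderOf_mk] at this
  have hqE : q ∣ Nat.card E := hqd.trans hxE
  have hqσ : q ∉ sigma M :=
    Cfsg.Agent.Lib.Helper52_BG12d.not_mem_sigma_of_dvd_card_compl hG hU h44 hM hE hqE
  have hq2 : PRankLE q 2 ↥M :=
    Cfsg.Agent.Lib.Helper23_SigmaHall.pRankLE_of_not_mem_sigma hG hU hM hq hqσ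
  by_cases hq1 : PRankLE q 1 ↥M
  · have hqτ : q ∈ tau1 M ∪ tau3 M := by
      have hqM : q ∣ Nat.card M := hqE.trans (Subgroup.card_dvd_of_le hE.1)
      by_cases hd : q ∣ Nat.card ↥⁅M, M⁆
      · right
        exact ⟨hq, hqσ, hd, hq1⟩
      · left
        exact ⟨hq, hqσ, hqM, hd, hq1⟩
    have : Fact q.Prime := ⟨hq⟩
    exact key q hqτ _ _ hyE hyq
  · apply hτ₂ _ hyE
    intro q' hq' hd
    have h1 : orderOf (x ^ (orderOf x / q ^ (orderOf x).factorization q)) ∣
        q ^ (orderOf x).factorization q := orderOf_dvd_of_pow_eq_one hyq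
    have h2 := (Nat.prime_dvd_prime_iff_eq hq' hq).mp (hq'.dvd_of_dvd_pow (hd.trans h1))
    rw [h2]
    exact ⟨hq, hqσ, hq2, hq1⟩

end Cfsg.Agent.Lib.Helper52_BG1211e
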