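import Mathlib
import Cfsg.Agent.Lib.Helper63_Maschke

set_option autoImplicit false

namespace Cfsg.Agent.Lib.Helper88_InvCyclic

open Cfsg.Agent.Lib.Helper63_Maschke

variable {P : Type*} [CommGroup P] [Finite P] {p : ℕ} [Fact p.Prime]

/-- One step: from an invariant cyclic subgroup `⟨c⟩` of order `p ^ (j+1)` whose generator is a
`p`-th power of an element `d'` of the invariant subgroup `Pk`, produce an invariant cyclic
subgroup `⟨l⟩` of order `p ^ (j+2)` with `l ∈ Pk`. -/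
theorem step (hP : IsPGroup p P) (X : Subgroup (MulAut P)) (hX : (Nat.card X).Coprime p)
    (Pk : Subgroup P) (hPk : Inv X Pk) (j : ℕ) (c d' : P) (hc : orderOf c = p ^ (j + 1))
    (hcinv : Inv X (Subgroup.zpowers c)) (hd' : d' ∈ Pk) (hd'c : d' ^ p = c) :
    ∃ l : P, orderOf l = p ^ (j + 2) ∧ Inv X (Subgroup.zpowers l) ∧ l ∈ Pk := by
  have hp : p.Prime := Fact.out
  set Yk : Subgroup P := Subgroup.zpowers c with hYk
  have hcPk : c ∈ Pk := by rw [← hd'c]; exact Pk.pow_mem hd' p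
  have hYkPk : Yk ≤ Pk := (Subgroup.zpowers_le).2 hcPk
  set Mk : Subgroup P := Pk ⊓ Yk.comap (powMonoidHom p) with hMk
  set Ωk : Subgroup P := Pk ⊓ (powMonoidHom p : P →* P).ker with hΩk
  set Nk : Subgroup P := Yk ⊔ Ωk with hNk
  have hMkinv : Inv X Mk := hPk.inf (hcinv.comap_powHom p)
  have hΩkinv : Inv X Ωk := hPk.inf (inv_ker_pow X p)
  have hNkinv : Inv X Nk := hcinv.sup hΩkinv
  have hYM : Yk ≤ Mk := by
    intro y hy
    refine Subgroup.mem_inf.2 ⟨hYkPk hy, ?_⟩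
    rw [Subgroup.mem_comap, powMonoidHom_apply]
    exact Yk.pow_mem hy p
  have hΩM : Ωk ≤ Mk := by
    intro w hw
    obtain ⟨hw1, hw2⟩ := Subgroup.mem_inf.1 hw
    refine Subgroup.mem_inf.2 ⟨hw1, ?_⟩
    rw [MonoidHom.mem_ker, powMonoidHom_apply] at hw2
    rw [Subgroup.mem_comap, powMonoidHom_apply, hw2]
    exact Yk.one_mem
  have hNM : Nk ≤ Mk := sup_le hYM hΩM
  have hYN : Yk ≤ Nk := le_sup_left
  have hpow : ∀ x ∈ Mk, x ^ p ∈ Yk := by
    intro x hx
    have hx2 := (Subgroup.mem_inf.1 hx).2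
    rwa [Subgroup.mem_comap, powMonoidHom_apply] at hx2
  obtain ⟨L₀, -, -, hL₀N, hL₀sup⟩ := exists_rel_compl (N := Nk) hp hYM hpow
  obtain ⟨L, hLinv, hYL, hLM, hLN, hLsup⟩ :=
    exists_inv_rel_compl hP X hX hcinv hNkinv hMkinv hYN hNM hL₀N hL₀sup
  -- decompose d'
  have hd'M : d' ∈ Mk := by
    refine Subgroup.mem_inf.2 ⟨hd', ?_⟩
    rw [Subgroup.mem_comap, powMonoidHom_apply, hd'c]
    exact Subgroup.mem_zpowers c
  obtain ⟨l, hl, n, hn, hln⟩ := Subgroup.mem_sup.1 (hLsup hd'M)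
  obtain ⟨y, hy, w, hw, hyw⟩ := Subgroup.mem_sup.1 hn
  have hwp : w ^ p = 1 := by
    have := (Subgroup.mem_inf.1 hw).2
    rwa [MonoidHom.mem_ker, powMonoidHom_apply] at this
  have hcl : c = l ^ p * y ^ p := by
    rw [← hd'c, ← hln, ← hyw, mul_pow, mul_pow, hwp, mul_one]
  -- order of y divides p^(j+1)
  have hyord : y ^ p ^ (j + 1) = 1 := by
    have h1 : orderOf y ∣ p ^ (j + 1) := by
      rw [← hc, ← Nat.card_zpowers c]
      exact Subgroup.orderOf_dvd_natCard _ hy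
    exact orderOf_dvd_iff_pow_eq_one.1 h1
  have hlpY : l ^ p ∈ Yk := hpow l (hLM hl)
  have hlp1 : (l ^ p) ^ p ^ (j + 1) = 1 := by
    have h1 : orderOf (l ^ p) ∣ p ^ (j + 1) := by
      rw [← hc, ← Nat.card_zpowers c]
      exact Subgroup.orderOf_dvd_natCard _ hlpY
    exact orderOf_dvd_iff_pow_eq_one.1 h1
  have hlp2 : ¬ (l ^ p) ^ p ^ j = 1 := by
    intro h
    have h1 : c ^ p ^ j = 1 := by
      rw [hcl, mul_pow, h, one_mul, ← pow_mul, ← pow_succ']
      exact hyord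
    have h2 : orderOf c ∣ p ^ j := orderOf_dvd_of_pow_eq_one h1
    rw [hc] at h2
    have h3 := Nat.le_of_dvd (pow_pos hp.pos j) h2
    have h4 : p ^ j < p ^ (j + 1) := Nat.pow_lt_pow_right hp.one_lt (Nat.lt_succ_self j)
    omega
  have hlpord : orderOf (l ^ p) = p ^ (j + 1) := orderOf_eq_prime_pow hlp2 hlp1
  have hlord : orderOf l = p ^ (j + 2) := by
    apply orderOf_eq_prime_pow
    · rw [pow_succ', pow_mul]; exact hlp2
    · rw [pow_succ', pow_mul]; exact hlp1
  -- zpowers (l^p) = Yk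
  have hzlp : Subgroup.zpowers (l ^ p) = Yk := by
    apply Subgroup.eq_of_le_of_card_ge ((Subgroup.zpowers_le).2 hlpY)
    rw [Nat.card_zpowers, Nat.card_zpowers, hlpord, hc]
  -- L = zpowers l
  have hLeq : Subgroup.zpowers l = L := by
    apply le_antisymm ((Subgroup.zpowers_le).2 hl)
    intro x hx
    have hxp : x ^ p ∈ Yk := hpow x (hLM hx)
    rw [← hzlp] at hxp
    obtain ⟨t, ht⟩ := Subgroup.mem_zpowers_iff.1 hxp
    have h1 : (x * (l ^ t)⁻¹) ^ p = 1 := by
      rw [mul_pow, inv_pow, ← ht, ← zpow_natCast (l ^ t) p, ← zpow_mul, mul_comm t, zpow_mul,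
        zpow_natCast, mul_inv_cancel]
    have h2 : x * (l ^ t)⁻¹ ∈ L := L.mul_mem hx (L.inv_mem (L.zpow_mem hl t))
    have h3 : x * (l ^ t)⁻¹ ∈ Ωk := by
      refine Subgroup.mem_inf.2 ⟨(Subgroup.mem_inf.1 (hLM h2)).1, ?_⟩
      rw [MonoidHom.mem_ker, powMonoidHom_apply]
      exact h1
    have h4 : x * (l ^ t)⁻¹ ∈ Yk := hLN (Subgroup.mem_inf.2 ⟨h2, (le_sup_right : Ωk ≤ Nk) h3⟩)
    rw [← hzlp] at h4
    have h5 : x * (l ^ t)⁻¹ ∈ Subgroup.zpowers l :=
      (Subgroup.zpowers_le.2 (Subgroup.pow_mem _ (Subgroup.mem_zpowers l) p)) h4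
    have h6 : x = x * (l ^ t)⁻¹ * l ^ t := by rw [inv_mul_cancel_right]
    rw [h6]
    exact Subgroup.mul_mem _ h5 (Subgroup.zpow_mem _ (Subgroup.mem_zpowers l) t)
  refine ⟨l, hlord, ?_, (Subgroup.mem_inf.1 (hLM hl)).1⟩
  rw [hLeq]
  exact hLinv

/-- P2 of helper47's plan for S1421 (statement verbatim from
`pending/helper47/S1421_pieces.lean.txt`): a `p'`-group `X` of automorphisms of an abelian
`p`-group `P` of rank at most 2 which fixes a subgroup of order `p` fixes a cyclic subgroup of order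
the exponent of `P`. -/
theorem exists_inv_cyclic {P : Type*} [CommGroup P] [Finite P] {p : ℕ} [Fact p.Prime]
    (hP : IsPGroup p P) (X : Subgroup (MulAut P)) (hX : (Nat.card X).Coprime p)
    (hrank : Nat.card {a : P // a ^ p = 1} ≤ p ^ 2)
    (Y : Subgroup P) (hY : Nat.card Y = p) (hYinv : Cfsg.Agent.Lib.Helper63_Maschke.Inv X Y) :
    ∃ C : Subgroup P, IsCyclic C ∧ Cfsg.Agent.Lib.Helper63_Maschke.Inv X C ∧
      Nat.card C = Monoid.exponent P := by
  have hp : p.Prime := Fact.out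
  -- the exponent is `p ^ m`
  obtain ⟨n, hn⟩ := hP.exists_card_eq
  obtain ⟨m, -, hm⟩ := (Nat.dvd_prime_pow hp).1 (hn ▸ Group.exponent_dvd_nat_card (G := P))
  obtain ⟨e, he⟩ := Monoid.exists_orderOf_eq_exponent (Monoid.ExponentExists.of_finite (G := P))
  -- a nontrivial element of `Y`
  have hYnt : ∃ y ∈ Y, y ≠ 1 := by
    by_contra hcon
    push Not at hcon
    have : Y = ⊥ := (Subgroup.eq_bot_iff_forall Y).2 hcon
    rw [this, Subgroup.card_bot] at hY
    exact hp.one_lt.ne hY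
  obtain ⟨y, hyY, hy1⟩ := hYnt
  have hyp : y ^ p = 1 := by
    have h1 : orderOf y ∣ p := hY ▸ Subgroup.orderOf_dvd_natCard _ hyY
    exact orderOf_dvd_iff_pow_eq_one.1 h1
  have hyord : orderOf y = p := orderOf_eq_prime hyp hy1
  have hzy : Subgroup.zpowers y = Y := by
    apply Subgroup.eq_of_le_of_card_ge ((Subgroup.zpowers_le).2 hyY)
    rw [Nat.card_zpowers, hyord, hY]
  have hm0 : m ≠ 0 := by
    intro h0
    rw [h0, pow_zero] at hm
    have : orderOf y ∣ 1 := hm ▸ Monoid.order_dvd_exponent y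
    rw [hyord] at this
    exact hp.one_lt.ne' (Nat.dvd_one.1 this)
  obtain ⟨m', rfl⟩ := Nat.exists_eq_succ_of_ne_zero hm0
  rw [Nat.succ_eq_add_one] at hm
  have hexp : ∀ a : P, a ^ p ^ (m' + 1) = 1 := fun a => hm ▸ Monoid.pow_exponent_eq_one a
  -- the base subgroup
  set I : Subgroup P := (⊤ : Subgroup P).map (powMonoidHom (p ^ m')) with hI
  have hIinv : Inv X I := (inv_top X).map_powHom (p ^ m')
  set c₀ : P := e ^ p ^ m' with hc₀
  have hc₀I : c₀ ∈ I := ⟨e, Subgroup.mem_top e, rfl⟩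
  have hc₀p : c₀ ^ p = 1 := by rw [hc₀, ← pow_mul, ← pow_succ]; exact hexp e
  have hc₀1 : c₀ ≠ 1 := by
    intro h
    have h1 : orderOf e ∣ p ^ m' := orderOf_dvd_of_pow_eq_one h
    rw [he, hm] at h1
    have h3 := Nat.le_of_dvd (pow_pos hp.pos m') h1
    have h4 : p ^ m' < p ^ (m' + 1) := Nat.pow_lt_pow_right hp.one_lt (Nat.lt_succ_self m')
    omega
  have hc₀ord : orderOf c₀ = p := orderOf_eq_prime hc₀p hc₀1
  -- base case
  have base : ∃ c : P, orderOf c = p ^ (0 + 1) ∧ Inv X (Subgroup.zpowers c) ∧ c ∈ I := by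
    by_cases hYI : Y ≤ I
    · exact ⟨y, by rw [hyord]; simp, by rw [hzy]; exact hYinv, hYI hyY⟩
    · refine ⟨c₀, by rw [hc₀ord]; simp, ?_, hc₀I⟩
      set Ω : Subgroup P := (powMonoidHom p : P →* P).ker with hΩ
      have hΩcard : Nat.card Ω ≤ p ^ 2 := by
        have : Nat.card Ω = Nat.card {a : P // a ^ p = 1} :=
          Nat.card_congr (Equiv.subtypeEquivRight (fun a => by
            rw [hΩ, MonoidHom.mem_ker, powMonoidHom_apply]))
        rw [this]; exact hrank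
      have hIΩ : I ≤ Ω := by
        rintro _ ⟨a, -, rfl⟩
        rw [hΩ, MonoidHom.mem_ker, powMonoidHom_apply, powMonoidHom_apply, ← pow_mul, ← pow_succ]
        exact hexp a
      have hYΩ : Y ≤ Ω := by
        intro z hz
        rw [← hzy] at hz
        obtain ⟨t, rfl⟩ := Subgroup.mem_zpowers_iff.1 hz
        rw [hΩ, MonoidHom.mem_ker, powMonoidHom_apply, ← zpow_natCast, ← zpow_mul, mul_comm,
          zpow_mul, zpow_natCast, hyp, one_zpow]
      obtain ⟨i, hi⟩ := (hP.to_subgroup I).exists_card_eq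
      obtain ⟨a, ha⟩ := (hP.to_subgroup Ω).exists_card_eq
      have hia : i ≤ a := by
        have := Subgroup.card_dvd_of_le hIΩ
        rw [hi, ha] at this
        exact (Nat.pow_dvd_pow_iff_le_right hp.one_lt).1 this
      have ha2 : a ≤ 2 := by
        rw [ha] at hΩcard
        exact (Nat.pow_le_pow_iff_right hp.one_lt).1 hΩcard
      have hi0 : i ≠ 0 := by
        intro h0
        rw [h0, pow_zero] at hi
        have : I = ⊥ := Subgroup.card_eq_one.1 hi
        rw [this, Subgroup.mem_bot] at hc₀I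
        exact hc₀1 hc₀I
      have hi2 : i ≠ 2 := by
        intro h2
        have ha2' : a = 2 := by omega
        have : I = Ω := Subgroup.eq_of_le_of_card_ge hIΩ (by rw [hi, ha, h2, ha2'])
        exact hYI (this ▸ hYΩ)
      have hi1 : i = 1 := by omega
      have hzc : Subgroup.zpowers c₀ = I := by
        apply Subgroup.eq_of_le_of_card_ge ((Subgroup.zpowers_le).2 hc₀I)
        rw [Nat.card_zpowers, hc₀ord, hi, hi1, pow_one]
      rw [hzc]; exact hIinv
  -- induction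
  have main : ∀ j : ℕ, j ≤ m' → ∃ c : P, orderOf c = p ^ (j + 1) ∧ Inv X (Subgroup.zpowers c) ∧
      c ∈ (⊤ : Subgroup P).map (powMonoidHom (p ^ (m' - j))) := by
    intro j
    induction j with
    | zero => intro _; exact base
    | succ j ih =>
      intro hj
      obtain ⟨c, hc, hcinv, d, -, hd⟩ := ih (by omega)
      rw [powMonoidHom_apply] at hd
      have hsplit : m' - j = (m' - (j + 1)) + 1 := by omega
      have hd' : (d ^ p ^ (m' - (j + 1))) ^ p = c := by
        rw [← pow_mul, ← pow_succ, ← hsplit]; exact hd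
      exact step hP X hX ((⊤ : Subgroup P).map (powMonoidHom (p ^ (m' - (j + 1)))))
        ((inv_top X).map_powHom _) j c (d ^ p ^ (m' - (j + 1))) hc hcinv
        ⟨d, Subgroup.mem_top d, rfl⟩ hd'
  obtain ⟨c, hc, hcinv, -⟩ := main m' le_rfl
  exact ⟨Subgroup.zpowers c, Subgroup.isCyclic_zpowers c, hcinv, by rw [Nat.card_zpowers, hc, hm]⟩

end Cfsg.Agent.Lib.Helper88_InvCyclic
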