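import Mathlib
import Cfsg.Agent.Lib.Helper47_BG1211a
import Cfsg.Agent.Lib.Helper47_BG1211c
import Cfsg.Agent.Lib.Helper88_InvCyclic
import Cfsg.Agent.Lib.Helper13_BG1211b
import Cfsg.Agent.Lib.Helper52_BG1211e
import Cfsg.Agent.Lib.Helper97_BG1211f
import Cfsg.Agent.Lib.Helper23_PLength

/-!
# Bender–Glauberman Lemma 12.11 (statement S1421), final assembly (helper47)

Pieces: P2 `Helper88_InvCyclic`, P3 `Helper47_BG1211a`, P3b `Helper13_BG1211b`, P5' `Helper52_BG1211e`,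
P6 `Helper97_BG1211f`, P7 `Helper47_BG1211c`.
-/

set_option autoImplicit false

namespace Cfsg.Agent.Lib.Helper47_BG1211d

open Subgroup Cfsg Cfsg.Agent.Lib.Helper49_Sigma Cfsg.Agent.Lib.Helper70_BG106
  Cfsg.Agent.Lib.Helper73_BG12 Cfsg.Agent.Lib.Helper73_BG126 Cfsg.Agent.Lib.Helper84_RelSylow
  Cfsg.Agent.Lib.Helper59_BG142c Cfsg.Agent.Lib.Helper22_Radical Cfsg.Agent.Lib.Helper22_BGTrans
  Cfsg.Agent.Lib.Helper47_BG1211c

section General

variable {G : Type*} [Group G]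

/-- an element of a `p`-group `P` different from `1` has a power of order `p` -/
theorem exists_pow_orderOf_eq_prime {p : ℕ} (hp : p.Prime) {P : Subgroup G} (hP : IsPGroup p P) {c : G}
    (hc : c ∈ P) (hc1 : c ≠ 1) : orderOf (c ^ (orderOf c / p)) = p := by
  obtain ⟨k, hk⟩ := hP ⟨c, hc⟩
  have hk' : c ^ p ^ k = 1 := congrArg Subtype.val hk
  have h1 : orderOf c ∣ p ^ k := orderOf_dvd_of_pow_eq_one hk'
  obtain ⟨j, -, hj⟩ := (Nat.dvd_prime_pow hp).mp h1
  have hj0 : j ≠ 0 := by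
    rintro rfl
    rw [pow_zero] at hj
    exact hc1 (orderOf_eq_one_iff.mp hj)
  have hpc : p ∣ orderOf c := by rw [hj]; exact dvd_pow_self p hj0
  have hpos : orderOf c ≠ 0 := by rw [hj]; exact (pow_pos hp.pos j).ne'
  exact orderOf_pow_orderOf_div hpos hpc

/-- `Ω₁` of a nontrivial cyclic subgroup of `P` has order `p` -/
theorem card_inf_omega [Finite G] {p : ℕ} (hp : p.Prime) {A P C : Subgroup G} (hAP : A ≤ P) (hP : IsPGroup p P)
    (hΩ : ∀ x ∈ P, x ^ p = 1 ↔ x ∈ A) (hCP : C ≤ P) (hCc : IsCyclic C) (hC1 : C ≠ ⊥) :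
    Nat.card ↥(C ⊓ A) = p := by
  have hY : ∀ y ∈ C ⊓ A, y ^ p = 1 := fun y hy => (hΩ y (hAP hy.2)).mpr hy.2
  have hcyc : IsCyclic ↥(C ⊓ A : Subgroup G) :=
    isCyclic_of_injective (Subgroup.inclusion (inf_le_left : C ⊓ A ≤ C))
      (Subgroup.inclusion_injective _)
  have h1 : Nat.card ↥(C ⊓ A : Subgroup G) ∣ p := by
    rw [← IsCyclic.exponent_eq_card]
    apply Monoid.exponent_dvd_of_forall_pow_eq_one
    intro y
    exact Subtype.ext (hY y.1 y.2)
  rcases (Nat.dvd_prime hp).mp h1 with h | h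
  · exfalso
    obtain ⟨c, hc⟩ := (Subgroup.ne_bot_iff_exists_ne_one).mp hC1
    have hcC : (c : G) ∈ C := c.2
    have hc1' : (c : G) ≠ 1 := fun h => hc (Subtype.ext h)
    have ho := exists_pow_orderOf_eq_prime hp hP (hCP hcC) hc1'
    set c₁ := (c : G) ^ (orderOf (c : G) / p) with hc₁
    have hc₁C : c₁ ∈ C := C.pow_mem hcC _
    have hc₁A : c₁ ∈ A := (hΩ c₁ (hCP hc₁C)).mp (by rw [← ho]; exact pow_orderOf_eq_one c₁)
    have hbot : C ⊓ A = ⊥ := Subgroup.card_eq_one.mp h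
    have : c₁ ∈ C ⊓ A := ⟨hc₁C, hc₁A⟩
    rw [hbot, Subgroup.mem_bot] at this
    rw [this, orderOf_one] at ho
    exact hp.one_lt.ne ho
  · exact h

/-- if `Ω₁(C)` acts freely then so does the cyclic group `C` -/
theorem free_of_cyclic [Finite G] {p : ℕ} (hp : p.Prime) {A P C Q : Subgroup G} (hAP : A ≤ P) (hP : IsPGroup p P)
    (hΩ : ∀ x ∈ P, x ^ p = 1 ↔ x ∈ A) (hCP : C ≤ P) (hCc : IsCyclic C)
    (hreg : Q ⊓ centralizer ((C ⊓ A : Subgroup G) : Set G) = ⊥) :
    ∀ c ∈ C, c ≠ 1 → Q ⊓ centralizer ({c} : Set G) = ⊥ := by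
  intro c hcC hc1
  have hC1 : C ≠ ⊥ := fun h => hc1 (by rw [h, Subgroup.mem_bot] at hcC; exact hcC)
  have hcard := card_inf_omega hp hAP hP hΩ hCP hCc hC1
  have ho := exists_pow_orderOf_eq_prime hp hP (hCP hcC) hc1
  set c₁ := c ^ (orderOf c / p) with hc₁
  have hc₁C : c₁ ∈ C := C.pow_mem hcC _
  have hc₁A : c₁ ∈ A := (hΩ c₁ (hCP hc₁C)).mp (by rw [← ho]; exact pow_orderOf_eq_one c₁)
  have hz : zpowers c₁ = C ⊓ A := by
    apply Subgroup.eq_of_le_of_card_ge
    · rw [Subgroup.zpowers_le]; exact ⟨hc₁C, hc₁A⟩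
    · rw [Nat.card_zpowers, ho, hcard]
  rw [eq_bot_iff]
  intro x hx
  rw [← hreg]
  refine Subgroup.mem_inf.mpr ⟨hx.1, ?_⟩
  have hxc : x ∈ centralizer ({c} : Set G) := hx.2
  rw [Subgroup.mem_centralizer_iff] at hxc ⊢
  have hcx : Commute c x := hxc c rfl
  intro y hy
  rw [SetLike.mem_coe, ← hz, Subgroup.mem_zpowers_iff] at hy
  obtain ⟨k, rfl⟩ := hy
  exact ((hcx.pow_left _).zpow_left k).eq

/-- `p`-part / `p'`-part: a subgroup containing `e ^ (p ^ a)` and `e ^ m` with `orderOf e = p ^ a * m`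
contains `e` -/
theorem mem_of_pow_mem {H : Subgroup G} {e : G} {a m : ℕ} (hcop : (a).Coprime m)
    (h1 : e ^ a ∈ H) (h2 : e ^ m ∈ H) : e ∈ H := by
  have h3 : (a : ℤ) * Nat.gcdA a m + m * Nat.gcdB a m = 1 := by
    have := Nat.gcd_eq_gcd_ab a m
    rw [hcop.gcd_eq_one] at this
    exact_mod_cast this.symm
  have h4 : e = (e ^ a) ^ (Nat.gcdA a m) * (e ^ m) ^ (Nat.gcdB a m) := by
    rw [← zpow_natCast, ← zpow_mul, ← zpow_natCast e m, ← zpow_mul, ← zpow_add, h3, zpow_one]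
  rw [h4]
  exact H.mul_mem (H.zpow_mem h1 _) (H.zpow_mem h2 _)

end General

section CaseR

open scoped IsMulCommutative

variable {G : Type*} [Group G] [Finite G]

/-- **Case R** (pure group theory, from P2): an invariant line gives an invariant cyclic subgroup of
maximal order -/
theorem exists_cyclic_of_invariant_line {p : ℕ} [Fact p.Prime] {A P Y N : Subgroup G} (hAP : A ≤ P)
    (hPS : IsSylowIn p P ⊤) (hPc : IsMulCommutative P) (hΩ : ∀ x ∈ P, x ^ p = 1 ↔ x ∈ A)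
    (hA2 : Nat.card A = p ^ 2) (hPN : P ≤ N) (hNP : N ≤ normalizer (P : Set G))
    (hYA : Y ≤ A) (hY : Nat.card Y = p) (hNY : N ≤ normalizer (Y : Set G)) :
    ∃ C : Subgroup G, C ≤ P ∧ N ≤ normalizer (C : Set G) ∧ IsCyclic C ∧
      Nat.card C = Monoid.exponent P := by
  have hpp : p.Prime := Fact.out
  have hPp : IsPGroup p P := hPS.isPGroup
  set φ := Cfsg.Agent.Lib.Helper2_Coprime.conjAut P N hNP with hφ
  set X : Subgroup (MulAut ↥P) := φ.range with hX
  -- `|X|` is prime to `p`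
  have hker : P.subgroupOf N ≤ φ.ker := by
    intro x hx
    rw [MonoidHom.mem_ker]
    ext a
    rw [Cfsg.Agent.Lib.Helper2_Coprime.conjAut_apply_coe]
    have hxP : (x : G) ∈ P := Subgroup.mem_subgroupOf.mp hx
    have h1 : (x : G) * (a : G) = (a : G) * (x : G) :=
      congrArg Subtype.val (hPc.is_comm.comm ⟨(x : G), hxP⟩ a)
    show (x : G) * (a : G) * (x : G)⁻¹ = (a : G)
    rw [h1, mul_inv_cancel_right]
  have hXcop : (Nat.card X).Coprime p := by
    have h1 : Nat.card X = φ.ker.index := (Subgroup.index_ker φ).symm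
    have h2 : φ.ker.index ∣ (P.subgroupOf N).index := Subgroup.index_dvd_of_le hker
    have h3 : ¬ p ∣ P.relIndex N := (hPS.mono hPN le_top).not_dvd
    rw [h1]
    apply Nat.Coprime.symm
    rw [Nat.Prime.coprime_iff_not_dvd hpp]
    exact fun hd => h3 (hd.trans h2)
  have hrank : Nat.card {a : ↥P // a ^ p = 1} ≤ p ^ 2 := by
    rw [← hA2]
    let f : {a : ↥P // a ^ p = 1} → ↥A := fun a => ⟨(a.1 : G), (hΩ _ a.1.2).mp (by
      have := congrArg Subtype.val a.2
      simpa using this)⟩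
    have hf : Function.Injective f := by
      intro a b hab
      apply Subtype.ext
      apply Subtype.ext
      exact congrArg (fun z : ↥A => (z : G)) hab
    exact Nat.card_le_card_of_injective f hf
  have hYP : Y ≤ P := hYA.trans hAP
  set Y' : Subgroup ↥P := Y.subgroupOf P with hY'
  have hY'card : Nat.card Y' = p := by
    rw [hY', Nat.card_congr (Subgroup.subgroupOfEquivOfLe hYP).toEquiv, hY]
  have hYinv : Cfsg.Agent.Lib.Helper63_Maschke.Inv X Y' := by
    rintro x ⟨n, rfl⟩ b hb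
    rw [hY', Subgroup.mem_subgroupOf, Cfsg.Agent.Lib.Helper2_Coprime.conjAut_apply_coe]
    exact (Subgroup.mem_normalizer_iff.mp (hNY n.2) _).mp (Subgroup.mem_subgroupOf.mp hb)
  have hPp' : IsPGroup p ↥P := hPp
  obtain ⟨C', hC'c, hC'inv, hC'card⟩ :=
    Cfsg.Agent.Lib.Helper88_InvCyclic.exists_inv_cyclic hPp' X hXcop hrank Y' hY'card hYinv
  refine ⟨C'.map P.subtype, Subgroup.map_subtype_le _, ?_, ?_, ?_⟩
  · apply le_normalizer_of_conj_mem
    rintro n hn _ ⟨c, hc, rfl⟩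
    have h1 := hC'inv (φ ⟨n, hn⟩) ⟨⟨n, hn⟩, rfl⟩ c hc
    refine ⟨φ ⟨n, hn⟩ c, h1, ?_⟩
    rw [Subgroup.coe_subtype, Cfsg.Agent.Lib.Helper2_Coprime.conjAut_apply_coe]
  · have e := C'.equivMapOfInjective P.subtype P.subtype_injective
    exact isCyclic_of_surjective e e.surjective
  · rw [← hC'card]
    exact Nat.card_congr (C'.equivMapOfInjective P.subtype P.subtype_injective).symm.toEquiv

end CaseR

section Main

universe u

variable {G : Type u} [Group G] [Finite G]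

/-- an `N_G(A)`-invariant line of `A` is regular -/
theorem regular_of_invariant (hG : IsMinSimpleOddOrder G) (hC : CentHyp G) (h17 : Hyp1417Full G)
    {M : Subgroup G} (hM : IsCoatom M) {E : Subgroup G} (hE : IsComplIn E (sigmaCore M) M)
    {p : ℕ} [Fact p.Prime] (hp : p ∈ tau2 M) {A : Subgroup G} (hAE : A ≤ E)
    (hAe : IsElementaryAbelian p A) (hA2 : Nat.card A = p ^ 2) {Y : Subgroup G} (hYA : Y ≤ A)
    (hY : Nat.card Y = p) (hNY : normalizer (A : Set G) ≤ normalizer (Y : Set G)) :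
    sigmaCore M ⊓ centralizer (Y : Set G) = ⊥ := by
  have hpp : p.Prime := Fact.out
  by_contra hne
  obtain ⟨-, ⟨-, -, hNM⟩, h3⟩ := statement_S1418 hG hC h17 M hM E hE hp A ⟨hAE, hAe, hA2⟩
  obtain ⟨-, huniq⟩ := h3 Y hYA hY hne
  have hY1 : Y ≠ ⊥ := by
    intro h
    rw [h, Subgroup.card_bot] at hY
    exact hpp.one_lt.ne hY
  have hYtop : Y ≠ ⊤ := ne_top_of_le_ne_top hM.1 (hYA.trans (hAE.trans hE.1))
  obtain ⟨L', hL', hNL'⟩ :=
    Cfsg.Agent.Lib.Helper22_Uniq.exists_isCoatom_ge (normalizer_ne_top hG hY1 hYtop)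
  have h4 := huniq L' hL' ((Subgroup.centralizer_le_normalizer _).trans hNL')
  exact hNM (hNY.trans (h4 ▸ hNL'))

/-- if `E` centralizes `A = Ω₁(P)` then `E` centralizes the normal abelian Sylow subgroup `P` -/
theorem le_centralizer_sylow (hG : IsMinSimpleOddOrder G) {E : Subgroup G} {p : ℕ} [Fact p.Prime]
    {A P : Subgroup G} (hPE : P ≤ E) (hPS : IsSylowIn p P ⊤) (hPc : IsMulCommutative P)
    (hΩ : ∀ x ∈ P, x ^ p = 1 ↔ x ∈ A) (hEP : E ≤ normalizer (P : Set G))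
    (hEA : E ≤ centralizer (A : Set G)) (hP1 : P ≠ ⊥) : E ≤ centralizer (P : Set G) := by
  have hpp : p.Prime := Fact.out
  have hPp : IsPGroup p P := hPS.isPGroup
  have hp2 : p ≠ 2 := by
    apply Cfsg.Agent.Lib.Helper22_Uniq.two_ne_of_dvd_card hG
    exact Cfsg.Agent.Lib.Helper22_Uniq.dvd_card_of_ne_bot hPp hP1
  have hPcen : P ≤ centralizer (P : Set G) := by
    intro x hx
    rw [Subgroup.mem_centralizer_iff]
    intro y hy
    exact congrArg Subtype.val (hPc.is_comm.comm ⟨y, hy⟩ ⟨x, hx⟩)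
  intro e he
  set n := orderOf e with hn
  have hn0 : n ≠ 0 := (orderOf_pos e).ne'
  set a := p ^ n.factorization p with ha
  set m := n / a with hm
  have ham : a * m = n := Nat.ordProj_mul_ordCompl_eq_self n p
  have hcop : a.Coprime m := Nat.Coprime.pow_left _ (Nat.coprime_ordCompl hpp hn0)
  apply mem_of_pow_mem hcop
  · -- the `p'`-part
    have h1 : (orderOf (e ^ a)).Coprime p := by
      have : orderOf (e ^ a) ∣ m := by
        apply orderOf_dvd_of_pow_eq_one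
        rw [← pow_mul, ham]
        exact pow_orderOf_eq_one e
      exact Nat.Coprime.coprime_dvd_left this (Nat.coprime_ordCompl hpp hn0).symm
    have h2 := Cfsg.Agent.Lib.Helper23_PLength.centralizes_of_fix_omega hp2 P hPp (e ^ a)
      (hEP (E.pow_mem he a)) h1 (fun x hx hxp => by
        have := hEA (E.pow_mem he a)
        rw [Subgroup.mem_centralizer_iff] at this
        exact (this x ((hΩ x hx).mp hxp)).symm)
    rw [Subgroup.mem_centralizer_iff]
    intro x hx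
    exact (h2 x hx).symm
  · -- the `p`-part
    have h1 : zpowers (e ^ m) ≤ P := by
      apply le_of_coprime_relIndex (Subgroup.zpowers_le.mpr (E.pow_mem he m)) hPE hEP
      rw [Nat.card_zpowers]
      have h2 : orderOf (e ^ m) ∣ a := by
        apply orderOf_dvd_of_pow_eq_one
        rw [← pow_mul, mul_comm, ham]
        exact pow_orderOf_eq_one e
      apply Nat.Coprime.coprime_dvd_left h2
      apply Nat.Coprime.pow_left
      rw [Nat.Prime.coprime_iff_not_dvd hpp]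
      exact (hPS.mono hPE le_top).not_dvd
    exact hPcen (h1 (Subgroup.mem_zpowers _))

omit [Finite G] in
/-- two disjoint subgroups normalized by `E ≥ P₁, P₂` commute elementwise -/
theorem commute_of_normal_disjoint {E P₁ P₂ : Subgroup G} (h1 : P₁ ≤ E) (h2 : P₂ ≤ E)
    (hn1 : E ≤ normalizer (P₁ : Set G)) (hn2 : E ≤ normalizer (P₂ : Set G)) (hd : P₁ ⊓ P₂ = ⊥) :
    ∀ x ∈ P₁, ∀ y ∈ P₂, x * y = y * x := by
  intro x hx y hy
  have h3 : x * y * x⁻¹ * y⁻¹ ∈ P₁ ⊓ P₂ := by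
    constructor
    · have : y * x⁻¹ * y⁻¹ ∈ P₁ :=
        (mem_normalizer_iff.mp (hn1 (h2 hy)) x⁻¹).mp (P₁.inv_mem hx)
      have h4 := P₁.mul_mem hx this
      have e1 : x * (y * x⁻¹ * y⁻¹) = x * y * x⁻¹ * y⁻¹ := by group
      rwa [e1] at h4
    · have : x * y * x⁻¹ ∈ P₂ := (mem_normalizer_iff.mp (hn2 (h1 hx)) y).mp hy
      exact P₂.mul_mem this (P₂.inv_mem hy)
  rw [hd, mem_bot] at h3
  calc x * y = (x * y * x⁻¹ * y⁻¹) * (y * x) := by group
    _ = y * x := by rw [h3, one_mul]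

open scoped IsMulCommutative in
/-- **Case I**, choice of the cyclic subgroup: some cyclic subgroup of `P` of order `exp P` has a regular `Ω₁` -/
theorem exists_regular_cyclic (hG : IsMinSimpleOddOrder G) (hC : CentHyp G) (h17 : Hyp1417Full G)
    {M : Subgroup G} (hM : IsCoatom M) {E : Subgroup G} (hE : IsComplIn E (sigmaCore M) M)
    {p : ℕ} [Fact p.Prime] (hp : p ∈ tau2 M) {A : Subgroup G} (hAE : A ≤ E)
    (hAe : IsElementaryAbelian p A) (hA2 : Nat.card A = p ^ 2) {P : Subgroup G} (hAP : A ≤ P)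
    (hPS : IsSylowIn p P ⊤) (hPc : IsMulCommutative P) (hΩ : ∀ x ∈ P, x ^ p = 1 ↔ x ∈ A)
    (hNPM : ¬ normalizer (P : Set G) ≤ M) :
    ∃ C : Subgroup G, C ≤ P ∧ IsCyclic C ∧ Nat.card C = Monoid.exponent P ∧
      sigmaCore M ⊓ centralizer ((C ⊓ A : Subgroup G) : Set G) = ⊥ := by
  have hpp : p.Prime := Fact.out
  have hPp : IsPGroup p P := hPS.isPGroup
  have hA1 : A ≠ ⊥ := by
    intro h
    rw [h, Subgroup.card_bot] at hA2
    have : 1 < p ^ 2 := Nat.one_lt_pow (by norm_num) hpp.one_lt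
    omega
  have hP1 : P ≠ ⊥ := fun h => hA1 (le_bot_iff.mp (h ▸ hAP))
  obtain ⟨u₀, hu₀⟩ := Monoid.exists_orderOf_eq_exponent (G := ↥P) Monoid.ExponentExists.of_finite
  set C₀ : Subgroup G := zpowers (u₀ : G) with hC₀
  have hC₀P : C₀ ≤ P := Subgroup.zpowers_le.mpr u₀.2
  have hC₀card : Nat.card C₀ = Monoid.exponent ↥P := by
    rw [hC₀, Nat.card_zpowers, Subgroup.orderOf_coe, hu₀]
  have hC₀1 : C₀ ≠ ⊥ := by
    intro h
    rw [h, Subgroup.card_bot] at hC₀card
    have := Monoid.exp_eq_one_iff.mp hC₀card.symm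
    exact hP1 (@Subgroup.eq_bot_of_subsingleton _ _ P this)
  by_cases hreg : sigmaCore M ⊓ centralizer ((C₀ ⊓ A : Subgroup G) : Set G) = ⊥
  · exact ⟨C₀, hC₀P, inferInstance, hC₀card, hreg⟩
  · -- conjugate by `g ∈ N_G(P) - M`
    obtain ⟨g, hgN, hgM⟩ := SetLike.not_le_iff_exists.mp hNPM
    have hgP : cj g P = P := Cfsg.Agent.Lib.Helper33_Conj.mem_normalizer_iff_cj.mp hgN
    have hgA : cj g A = A := Cfsg.Agent.Lib.Helper33_Conj.mem_normalizer_iff_cj.mp
      (Cfsg.Agent.Lib.Helper52_BG12d.normalizer_le_normalizer_of_omega hAP hΩ hgN)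
    set C₁ : Subgroup G := cj g C₀ with hC₁
    have hC₁P : C₁ ≤ P := by rw [← hgP]; exact Subgroup.map_mono hC₀P
    have e := C₀.equivMapOfInjective (MulAut.conj g).toMonoidHom (MulAut.conj g).injective
    have hC₁c : IsCyclic C₁ := isCyclic_of_surjective e e.surjective
    have hC₁card : Nat.card C₁ = Monoid.exponent ↥P := by
      rw [← hC₀card]; exact Nat.card_congr e.symm.toEquiv
    refine ⟨C₁, hC₁P, hC₁c, hC₁card, ?_⟩
    by_contra hreg₁
    have hinf : C₁ ⊓ A = cj g (C₀ ⊓ A) := by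
      rw [hC₁]
      conv_lhs => rw [← hgA]
      exact (Subgroup.map_inf C₀ A _ (MulAut.conj g).injective).symm
    have hY₀ : Nat.card ↥(C₀ ⊓ A : Subgroup G) = p :=
      card_inf_omega hpp hAP hPp hΩ hC₀P inferInstance hC₀1
    have hY₁ : Nat.card ↥(C₁ ⊓ A : Subgroup G) = p := by
      rw [hinf, card_cj]; exact hY₀
    obtain ⟨-, -, h3⟩ := statement_S1418 hG hC h17 M hM E hE hp A ⟨hAE, hAe, hA2⟩
    obtain ⟨hCM₀, -⟩ := h3 (C₀ ⊓ A) inf_le_right hY₀ hreg
    obtain ⟨-, huniq₁⟩ := h3 (C₁ ⊓ A) inf_le_right hY₁ hreg₁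
    have h4 : centralizer ((C₁ ⊓ A : Subgroup G) : Set G) ≤ cj g M := by
      rw [hinf, ← Cfsg.Agent.Lib.Helper33_Conj.cj_centralizer]
      exact Subgroup.map_mono hCM₀
    have h5 := huniq₁ (cj g M) (Cfsg.Agent.Lib.Helper22_Uniq.isCoatom_cj hM g) h4
    have h6 : g ∈ normalizer (M : Set G) := Cfsg.Agent.Lib.Helper33_Conj.mem_normalizer_iff_cj.mpr h5
    rw [Cfsg.Agent.Lib.Helper49_Alpha3.normalizer_coatom hG hM
      (Cfsg.Agent.Lib.Helper52_BG12a.coatom_ne_bot hG hM)] at h6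
    exact hgM h6

/-- pass 1: the structure of a Sylow `p`-subgroup of `E`, `p ∈ τ₂(M)`, in the abelian case -/
theorem pass1 (hG : IsMinSimpleOddOrder G) (hU : UniqHyp G) (h44 : H1444.{u})
    (hC : CentHyp G) (h17 : Hyp1417Full G) {M : Subgroup G} (hM : IsCoatom M) {E : Subgroup G}
    (hE : IsComplIn E (sigmaCore M) M) {p : ℕ} [Fact p.Prime] (hp : p ∈ tau2 M)
    (hab : ∀ S : Sylow p G, IsMulCommutative (S : Subgroup G)) :
    ∃ A P L : Subgroup G, A ≤ E ∧ IsElementaryAbelian p A ∧ Nat.card A = p ^ 2 ∧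
      E ≤ normalizer (A : Set G) ∧ A ≤ P ∧ P ≤ E ∧ IsSylowIn p P ⊤ ∧ IsMulCommutative P ∧
      (∀ x ∈ P, x ^ p = 1 ↔ x ∈ A) ∧ ¬ normalizer (P : Set G) ≤ M ∧
      normalizer (A : Set G) ≤ normalizer (P : Set G) ∧
      ⁅normalizer (A : Set G), normalizer (A : Set G)⁆ ≤ centralizer (A : Set G) ∧
      IsCoatom L ∧ normalizer (A : Set G) ≤ L ∧ p ∈ sigma L ∧
      (∀ r : ℕ, r.Prime → r ∉ sigma L → ¬ r ∣ (normalizer (A : Set G)).relIndex L) := by
  obtain ⟨A, hAE, hAe, hA2⟩ :=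
    Cfsg.Agent.Lib.Helper52_BG12d.exists_elemAb_sq_le_compl hG hU h44 hM hE hp
  obtain ⟨P, L, hAP, hPE, hPS, hPc, hΩ, hNPM, hNP, hL, hNL, hpL, hidx⟩ :=
    Cfsg.Agent.Lib.Helper47_BG1211a.abelian_case_structure hG hU h44 hC h17 hM hE hp hAE hAe hA2 hab
  obtain ⟨⟨hEN, -⟩, -, -⟩ := statement_S1418 hG hC h17 M hM E hE hp A ⟨hAE, hAe, hA2⟩
  have hN' := Cfsg.Agent.Lib.Helper13_BG1211b.commutator_normalizer_le_centralizer hG hAP hPS hPc hΩ hA2
  exact ⟨A, P, L, hAE, hAe, hA2, hEN, hAP, hPE, hPS, hPc, hΩ, hNPM, hNP, hN', hL, hNL, hpL, hidx⟩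

/-- pass 2: the data needed by the assembly, for one prime `p ∈ τ₂(M)` -/
theorem prime_data (hG : IsMinSimpleOddOrder G) (hU : UniqHyp G) (h44 : H1444.{u})
    (hC : CentHyp G) (h17 : Hyp1417Full G) {M : Subgroup G} (hM : IsCoatom M) {E : Subgroup G}
    (hE : IsComplIn E (sigmaCore M) M)
    (hH : ∀ e ∈ E, e ≠ 1 → (∀ q : ℕ, q.Prime → q ∣ orderOf e → q ∈ tau1 M ∪ tau3 M) →
      sigmaCore M ⊓ centralizer ({e} : Set G) = ⊥)
    (hab : ∀ q ∈ tau2 M, ∀ S : Sylow q G, IsMulCommutative (S : Subgroup G))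
    {p : ℕ} (hp : p ∈ tau2 M) :
    ∃ P C : Subgroup G, P ≤ E ∧ E ≤ normalizer (P : Set G) ∧
      (∀ a ∈ P, ∀ b ∈ P, a * b = b * a) ∧ IsPGroup p P ∧ ¬ p ∣ P.relIndex E ∧
      C ≤ P ∧ E ≤ normalizer (C : Set G) ∧ Monoid.exponent P ∣ Monoid.exponent C ∧
      ∀ c ∈ C, c ≠ 1 → sigmaCore M ⊓ centralizer ({c} : Set G) = ⊥ := by
  have hpp : p.Prime := hp.1
  have : Fact p.Prime := ⟨hpp⟩
  obtain ⟨A, P, L, hAE, hAe, hA2, hEN, hAP, hPE, hPS, hPc, hΩ, hNPM, hNP, hN', hL, hNL, hpL, hidx⟩ :=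
    pass1 hG hU h44 hC h17 hM hE hp (hab p hp)
  have hPp : IsPGroup p P := hPS.isPGroup
  have hEP : E ≤ normalizer (P : Set G) := hEN.trans hNP
  have hPcomm : ∀ a ∈ P, ∀ b ∈ P, a * b = b * a := fun a ha b hb =>
    congrArg Subtype.val (hPc.is_comm.comm ⟨a, ha⟩ ⟨b, hb⟩)
  have hPidx : ¬ p ∣ P.relIndex E := (hPS.mono hPE le_top).not_dvd
  have hA1 : A ≠ ⊥ := by
    intro h
    rw [h, Subgroup.card_bot] at hA2
    have : 1 < p ^ 2 := Nat.one_lt_pow (by norm_num) hpp.one_lt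
    omega
  have hP1 : P ≠ ⊥ := fun h => hA1 (le_bot_iff.mp (h ▸ hAP))
  -- the common conclusion from a cyclic subgroup with regular `Ω₁`
  have fin : ∀ C : Subgroup G, C ≤ P → E ≤ normalizer (C : Set G) → IsCyclic C →
      Nat.card C = Monoid.exponent P →
      sigmaCore M ⊓ centralizer ((C ⊓ A : Subgroup G) : Set G) = ⊥ →
      ∃ P C : Subgroup G, P ≤ E ∧ E ≤ normalizer (P : Set G) ∧
        (∀ a ∈ P, ∀ b ∈ P, a * b = b * a) ∧ IsPGroup p P ∧ ¬ p ∣ P.relIndex E ∧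
        C ≤ P ∧ E ≤ normalizer (C : Set G) ∧ Monoid.exponent P ∣ Monoid.exponent C ∧
        ∀ c ∈ C, c ≠ 1 → sigmaCore M ⊓ centralizer ({c} : Set G) = ⊥ := by
    intro C hCP hEC hCc hCcard hreg
    refine ⟨P, C, hPE, hEP, hPcomm, hPp, hPidx, hCP, hEC, ?_, ?_⟩
    · have h1 : Monoid.exponent ↥C = Monoid.exponent ↥P := by
        rw [IsCyclic.exponent_eq_card, hCcard]
      rw [h1]
    · exact free_of_cyclic hpp hAP hPp hΩ hCP hCc hreg
  by_cases hirr : ∃ Y : Subgroup G, Y ≤ A ∧ Nat.card Y = p ∧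
      normalizer (A : Set G) ≤ normalizer (Y : Set G)
  · -- Case R
    obtain ⟨Y, hYA, hY, hNY⟩ := hirr
    obtain ⟨C, hCP, hNC, hCc, hCcard⟩ :=
      exists_cyclic_of_invariant_line hAP hPS hPc hΩ hA2 (hPE.trans hEN) hNP hYA hY hNY
    have hC1 : C ≠ ⊥ := by
      intro h
      rw [h, Subgroup.card_bot] at hCcard
      have := Monoid.exp_eq_one_iff.mp hCcard.symm
      exact hP1 (@Subgroup.eq_bot_of_subsingleton _ _ P this)
    have hY₁ : Nat.card ↥(C ⊓ A : Subgroup G) = p := card_inf_omega hpp hAP hPp hΩ hCP hCc hC1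
    have hNY₁ : normalizer (A : Set G) ≤ normalizer ((C ⊓ A : Subgroup G) : Set G) :=
      le_normalizer_inf' hNC le_rfl
    exact fin C hCP (hEN.trans hNC) hCc hCcard
      (regular_of_invariant hG hC h17 hM hE hp hAE hAe hA2 inf_le_right hY₁ hNY₁)
  · -- Case I
    have hirr' : ∀ Y : Subgroup G, Y ≤ A → Nat.card Y = p →
        ¬ normalizer (A : Set G) ≤ normalizer (Y : Set G) :=
      fun Y hYA hY hNY => hirr ⟨Y, hYA, hY, hNY⟩
    -- `τ₂`-elements of `E` centralize `A`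
    have hτ₂ : ∀ e ∈ E, (∀ q : ℕ, q.Prime → q ∣ orderOf e → q ∈ tau2 M) →
        e ∈ centralizer (A : Set G) := by
      intro e he heτ
      have hEnC : E ≤ normalizer ((E ⊓ centralizer (A : Set G) : Subgroup G) : Set G) :=
        le_normalizer_inf' le_normalizer
          (hEN.trans (Cfsg.Agent.Lib.Helper1_CRBasic.normalizer_le_normalizer_centralizer A))
      have h1 : zpowers e ≤ E ⊓ centralizer (A : Set G) := by
        apply le_of_coprime_relIndex (Subgroup.zpowers_le.mpr he) inf_le_left hEnC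
        rw [Nat.card_zpowers]
        apply Nat.coprime_of_dvd
        intro q hq hqe hqi
        have hqτ := heτ q hq hqe
        have : Fact q.Prime := ⟨hq⟩
        -- a normal Sylow `q`-subgroup of `E` inside `C_E(A)`
        have key : ∃ T : Subgroup G, T ≤ E ⊓ centralizer (A : Set G) ∧ ¬ q ∣ T.relIndex E := by
          by_cases hqp : q = p
          · subst hqp
            refine ⟨P, le_inf hPE ?_, hPidx⟩
            intro x hx
            rw [Subgroup.mem_centralizer_iff]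
            intro a ha
            exact hPcomm a (hAP ha) x hx
          · obtain ⟨A', P', L', hA'E, -, -, hEN', hA'P', hP'E, hP'S, -, -, -, hN'P', -⟩ :=
              pass1 hG hU h44 hC h17 hM hE hqτ (hab q hqτ)
            have hEP' : E ≤ normalizer (P' : Set G) := hEN'.trans hN'P'
            have hdisj : P' ⊓ P = ⊥ := by
              apply (Subgroup.disjoint_of_coprime_natCard _).eq_bot
              obtain ⟨a, ha⟩ := IsPGroup.iff_card.mp hP'S.isPGroup
              obtain ⟨b, hb⟩ := IsPGroup.iff_card.mp hPp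
              rw [ha, hb]
              exact Nat.Coprime.pow _ _ ((Nat.coprime_primes hq hpp).mpr hqp)
            refine ⟨P', le_inf hP'E ?_, (hP'S.mono hP'E le_top).not_dvd⟩
            intro x hx
            rw [Subgroup.mem_centralizer_iff]
            intro a ha
            exact (commute_of_normal_disjoint hP'E hPE hEP' hEP hdisj x hx a (hAP ha)).symm
        obtain ⟨T, hT, hTi⟩ := key
        apply hTi
        rw [← Subgroup.relIndex_mul_relIndex T _ E hT inf_le_left]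
        exact Dvd.dvd.mul_left hqi _
      exact (h1 (Subgroup.mem_zpowers e)).2
    have hEA : E ≤ centralizer (A : Set G) :=
      Cfsg.Agent.Lib.Helper52_BG1211e.le_centralizer_of_irreducible hG hU h44 hC h17 hM hE hH hp
        hAE hAe hA2 hAP hPE hPS hPc hΩ hNP hN' hL hNL hpL hidx hτ₂ hirr'
    have hEcP : E ≤ centralizer (P : Set G) := le_centralizer_sylow hG hPE hPS hPc hΩ hEP hEA hP1
    obtain ⟨C, hCP, hCc, hCcard, hreg⟩ :=
      exists_regular_cyclic hG hC h17 hM hE hp hAE hAe hA2 hAP hPS hPc hΩ hNPM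
    have hEC : E ≤ normalizer (C : Set G) := by
      apply le_normalizer_of_conj_mem
      intro e he c hc
      have := hEcP he
      rw [Subgroup.mem_centralizer_iff] at this
      have h2 : c * e = e * c := this c (hCP hc)
      rw [← h2, mul_inv_cancel_right]
      exact hc
    exact fin C hCP hEC hCc hCcard hreg

/-- if one Sylow `p`-subgroup is commutative then all are -/
theorem sylow_comm_all {p : ℕ} [Fact p.Prime] (S : Sylow p G) (hS : IsMulCommutative (S : Subgroup G))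
    (T : Sylow p G) : IsMulCommutative (T : Subgroup G) := by
  obtain ⟨g, rfl⟩ := MulAction.exists_smul_eq G S T
  have e := Sylow.equivSMul S g
  refine ⟨⟨fun a b => ?_⟩⟩
  obtain ⟨a', rfl⟩ := e.surjective a
  obtain ⟨b', rfl⟩ := e.surjective b
  rw [← map_mul, ← map_mul, hS.is_comm.comm a' b']

/-- **Bender–Glauberman, Lemma 12.11** (statement S1421), with S1403, S1444, S1416 (first clause),
S1417 and S1419 as hypotheses. -/
theorem statement_S1421 (hG : IsMinSimpleOddOrder G) (hU : UniqHyp G) (h44 : H1444.{u})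
    (hC : CentHyp G) (h17 : Hyp1417Full G) (h19 : H1419 G) (M : Subgroup G) (hM : IsCoatom M)
    (E : Subgroup G) (hE : IsComplIn E (sigmaCore M) M)
    (hH : ∀ e ∈ E, e ≠ 1 → (∀ q : ℕ, q.Prime → q ∣ orderOf e → q ∈ tau1 M ∪ tau3 M) →
      sigmaCore M ⊓ centralizer ({e} : Set G) = ⊥) :
    (∃ A₀ : Subgroup G, A₀ ≤ E ∧ E ≤ normalizer (A₀ : Set G) ∧ IsMulCommutative A₀ ∧
        ∀ x ∈ sigmaCore M, x ≠ 1 → E ⊓ centralizer ({x} : Set G) ≤ A₀) ∧
      ∃ E₀ : Subgroup G, E₀ ≤ E ∧ Monoid.exponent E₀ = Monoid.exponent E ∧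
        ∀ e ∈ E₀, e ≠ 1 → sigmaCore M ⊓ centralizer ({e} : Set G) = ⊥ := by
  by_cases hna : ∃ p ∈ tau2 M, ∃ S : Sylow p G, ¬ IsMulCommutative (S : Subgroup G)
  · obtain ⟨p, hp, S, hS⟩ := hna
    have : Fact p.Prime := ⟨hp.1⟩
    obtain ⟨A, hAE, hAe, hA2⟩ :=
      Cfsg.Agent.Lib.Helper52_BG12d.exists_elemAb_sq_le_compl hG hU h44 hM hE hp
    exact Cfsg.Agent.Lib.Helper97_BG1211f.nonabelian_case hG hU h44 hC h17 h19 hM hE hH hp hAE hAe hA2
      (fun T hT => hS (sylow_comm_all T hT S))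
  · push Not at hna
    apply assembly E (sigmaCore M) (tau2 M) (fun p hp => hp.1) ?_
      (fun p hp => prime_data hG hU h44 hC h17 hM hE hH hna hp)
    intro e he he1 hq
    apply hH e he he1
    intro q hq' hqe
    have hqE : q ∣ Nat.card E := by
      have := orderOf_dvd_natCard (⟨e, he⟩ : ↥E)
      rw [Subgroup.orderOf_mk] at this
      exact hqe.trans this
    rcases Cfsg.Agent.Lib.Helper97_BG1211f.mem_tau_of_dvd_card hG hU hM hE hq' hqE with h | h
    · exact h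
    · exact absurd h (hq q hq' hqe)

end Main

end Cfsg.Agent.Lib.Helper47_BG1211d
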