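import Cfsg.Agent.Lib.Helper77_BRDefs
import Cfsg.Agent.Lib.Helper75_Induced

/-!
helper47: package BR-MACK of helper77's S0999 (Brauer-Reynolds): Mackey's irreducibility criterion,
in the form needed: if `μ^G` is irreducible and `h ∈ N_G(Q) \ N_G(P)`, then `μ` and its `h`-conjugate
differ on `Q`.
-/

set_option autoImplicit false
set_option linter.unusedSectionVars false
set_option linter.unusedVariables false

namespace Cfsg.Agent.Lib.Helper47_BR_MACK

open Cfsg Cfsg.Agent.Lib.Helper80_CharBasic Cfsg.Agent.Lib.Helper77_BRDefs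
  Cfsg.Agent.Lib.Helper75_Induced
open scoped ComplexConjugate

universe u

variable {G : Type u} [Group G] [Fintype G] {p : ℕ} [hp : Fact p.Prime]

section mu
variable {P : Sylow p G} (L : LinData P) (i : L.ι)

theorem mu_one : L.μ i 1 = 1 := L.hμ_P i 1 (Subgroup.one_mem _)

theorem mu_mul_inv {x : G} (hx : x ∈ Nrm P) : L.μ i x * L.μ i x⁻¹ = 1 := by
  rw [← L.hμ_mul i x hx x⁻¹ (Subgroup.inv_mem _ hx), mul_inv_cancel, mu_one]

theorem mu_ne_zero {x : G} (hx : x ∈ Nrm P) : L.μ i x ≠ 0 := by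
  intro h0
  have := mu_mul_inv L i hx
  rw [h0, zero_mul] at this
  exact zero_ne_one this

theorem mu_pow {x : G} (hx : x ∈ Nrm P) (k : ℕ) : L.μ i (x ^ k) = L.μ i x ^ k := by
  induction k with
  | zero => rw [pow_zero, pow_zero, mu_one]
  | succ k ih =>
    rw [pow_succ, pow_succ, L.hμ_mul i _ (Subgroup.pow_mem _ hx k) x hx, ih]

theorem mu_norm {x : G} (hx : x ∈ Nrm P) : ‖L.μ i x‖ = 1 := by
  have h1 : L.μ i x ^ orderOf x = 1 := by
    rw [← mu_pow L i hx, pow_orderOf_eq_one, mu_one]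
  have h2 : ‖L.μ i x‖ ^ orderOf x = 1 := by
    rw [← norm_pow, h1, norm_one]
  exact (pow_eq_one_iff_of_nonneg (norm_nonneg _) (orderOf_pos x).ne').1 h2

theorem mu_mul_conj {x : G} (hx : x ∈ Nrm P) : L.μ i x * conj (L.μ i x) = 1 := by
  rw [← Complex.inv_eq_conj (mu_norm L i hx)]
  exact mul_inv_cancel₀ (mu_ne_zero L i hx)

theorem mu_conj_inv {b y : G} (hb : b ∈ Nrm P) (hy : y ∈ Nrm P) :
    L.μ i (b⁻¹ * y * b) = L.μ i y := by
  have hb' : b⁻¹ ∈ Nrm P := Subgroup.inv_mem _ hb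
  rw [L.hμ_mul i _ (Subgroup.mul_mem _ hb' hy) b hb, L.hμ_mul i _ hb' y hy]
  have := mu_mul_inv L i hb
  calc L.μ i b⁻¹ * L.μ i y * L.μ i b = L.μ i y * (L.μ i b * L.μ i b⁻¹) := by ring
    _ = L.μ i y := by rw [this, mul_one]

end mu

section struct
variable (P : Sylow p G)

/-- `p`-elements of `N_G(P)` lie in `P` -/
theorem mem_of_pow_eq_one {y : G} (hy : y ∈ Nrm P) (hyp : y ^ p = 1) :
    y ∈ (P : Subgroup G) := by
  have hK : IsPGroup p (Subgroup.zpowers y) := by
    intro z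
    obtain ⟨k, hk⟩ := Subgroup.mem_zpowers_iff.1 z.2
    refine ⟨1, ?_⟩
    apply Subtype.ext
    rw [pow_one, Subgroup.coe_pow, Subgroup.coe_one, ← hk, ← zpow_natCast, ← zpow_mul, mul_comm,
      zpow_mul, zpow_natCast, hyp, one_zpow]
  have hle : Subgroup.zpowers y ≤ Subgroup.normalizer ((P : Subgroup G) : Set G) := by
    rw [Subgroup.zpowers_le]; exact hy
  have hsup := IsPGroup.to_sup_of_normal_left' P.isPGroup' hK hle
  have h1 := P.is_maximal' hsup le_sup_left
  have h2 : Subgroup.zpowers y ≤ (P : Subgroup G) := by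
    rw [← h1]; exact le_sup_right
  exact h2 (Subgroup.mem_zpowers y)

/-- `|N_G(P)| = p q` when `C_G(P) = P` has order `p` -/
theorem card_Nrm (hP : Nat.card P = p) (hC : ∀ c ∈ Cen P, c ∈ (P : Subgroup G)) :
    Nat.card (Nrm P) = p * qq P := by
  have hPC : (P : Subgroup G) ≤ Cen P := by
    have hcyc : IsCyclic ↥(P : Subgroup G) := isCyclic_of_prime_card hP
    intro x hx
    rw [Subgroup.mem_centralizer_iff]
    intro y hy
    let _ := IsCyclic.commGroup (α := ↥(P : Subgroup G))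
    have h1 : (⟨y, hy⟩ : ↥(P : Subgroup G)) * ⟨x, hx⟩ = ⟨x, hx⟩ * ⟨y, hy⟩ := mul_comm _ _
    exact congrArg Subtype.val h1
  have hCP : Cen P = (P : Subgroup G) := le_antisymm (fun c hc => hC c hc) hPC
  have h1 := Subgroup.relIndex_mul_relIndex (⊥ : Subgroup G) (Cen P) (Nrm P) bot_le
    (Subgroup.centralizer_le_normalizer _)
  rw [Subgroup.relIndex_bot_left, Subgroup.relIndex_bot_left] at h1
  unfold qq
  rw [← h1, hCP]
  have hP' : Nat.card ↥(P : Subgroup G) = p := hP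
  rw [hP']

/-- `N ∩ h⁻¹ N h = Q` for `h ∈ N_G(Q) \ N_G(P)` -/
theorem mem_Q_of_conj_mem (hP : Nat.card P = p) (hC : ∀ c ∈ Cen P, c ∈ (P : Subgroup G))
    (Q : Subgroup G) (hQN : Q ≤ Nrm P) (hQP : Q ⊓ (P : Subgroup G) = ⊥)
    (hQcard : Nat.card Q = qq P) (h : G) (hh : h ∈ Subgroup.normalizer (Q : Set G))
    (hhN : h ∉ Nrm P) : ∀ x ∈ Nrm P, h * x * h⁻¹ ∈ Nrm P → x ∈ Q := by
  have hpp : p.Prime := hp.out
  let D : Subgroup G := Nrm P ⊓ (Nrm P).comap (MulAut.conj h).toMonoidHom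
  have hDmem : ∀ x, x ∈ D ↔ x ∈ Nrm P ∧ h * x * h⁻¹ ∈ Nrm P := fun x => Iff.rfl
  have hQD : Q ≤ D := by
    intro x hx
    rw [hDmem]
    exact ⟨hQN hx, hQN ((Subgroup.mem_normalizer_iff.1 hh x).1 hx)⟩
  have hPle : (P : Subgroup G) ≤ Nrm P := Subgroup.le_normalizer
  have hDP : ∀ x ∈ D, x ∈ (P : Subgroup G) → x = 1 := by
    intro x hxD hxP
    by_contra hx1
    apply hhN
    have hxp : x ^ p = 1 := by
      have h1 : (⟨x, hxP⟩ : ↥(P : Subgroup G)) ^ Nat.card ↥(P : Subgroup G) = 1 := pow_card_eq_one'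
      have hP' : Nat.card ↥(P : Subgroup G) = p := hP
      rw [hP'] at h1
      exact congrArg Subtype.val h1
    have hyp : (h * x * h⁻¹) ^ p = 1 := by
      rw [conj_pow, hxp, mul_one, mul_inv_cancel]
    have hyP : h * x * h⁻¹ ∈ (P : Subgroup G) :=
      mem_of_pow_eq_one P ((hDmem x).1 hxD).2 hyp
    apply Subgroup.mem_normalizer_fintype
    intro z hz
    have hne : (⟨x, hxP⟩ : ↥(P : Subgroup G)) ≠ 1 := fun h0 => hx1 (congrArg Subtype.val h0)
    have hzx : (⟨z, hz⟩ : ↥(P : Subgroup G)) ∈ Subgroup.zpowers (⟨x, hxP⟩ : ↥(P : Subgroup G)) :=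
      mem_zpowers_of_prime_card hP hne
    obtain ⟨k, hk⟩ := Subgroup.mem_zpowers_iff.1 hzx
    have hk' : x ^ k = z := by
      have := congrArg Subtype.val hk
      simpa using this
    have h2 : h * z * h⁻¹ = (h * x * h⁻¹) ^ k := by
      rw [← hk']
      exact map_zpow (MulAut.conj h) x k
    show h * z * h⁻¹ ∈ (P : Subgroup G)
    rw [h2]
    exact Subgroup.zpow_mem _ hyP k
  have hcop : Nat.Coprime (Nat.card D) p := by
    rw [Nat.coprime_comm, Nat.Prime.coprime_iff_not_dvd hpp]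
    intro hdvd
    obtain ⟨x, hx⟩ := exists_prime_orderOf_dvd_card' (G := ↥D) p hdvd
    have hxp : (x : G) ^ p = 1 := by
      have h1 : x ^ p = 1 := by rw [← hx]; exact pow_orderOf_eq_one x
      have := congrArg Subtype.val h1
      simpa using this
    have hxP := mem_of_pow_eq_one P ((hDmem x).1 x.2).1 hxp
    have hx1 : (x : G) = 1 := hDP x x.2 hxP
    have hx1' : x = 1 := Subtype.ext hx1
    rw [hx1', orderOf_one] at hx
    exact hpp.one_lt.ne hx
  have hdvd : Nat.card D ∣ qq P := by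
    have h1 : Nat.card D ∣ Nat.card (Nrm P) := Subgroup.card_dvd_of_le inf_le_left
    rw [card_Nrm P hP hC] at h1
    exact hcop.dvd_of_dvd_mul_left h1
  have hqpos : 0 < qq P := by rw [← hQcard]; exact Nat.card_pos
  have hle : Nat.card D ≤ Nat.card Q := by
    rw [hQcard]; exact Nat.le_of_dvd hqpos hdvd
  have hQeq : Q = D := Subgroup.eq_of_le_of_card_ge hQD hle
  intro x hx hx'
  rw [hQeq, hDmem]
  exact ⟨hx, hx'⟩

end struct

/-- **MACK** (M). Mackey: if `μ^G` is irreducible and `h ∈ N_G(Q) \ N_G(P)` then `μ` and its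
`h`-conjugate differ on `Q` (otherwise `⟨μ^G, μ^G⟩ ≥ 2`; here `N ∩ hNh⁻¹ = Q`). -/
theorem MACK (P : Sylow p G) (hP : Nat.card P = p)
    (hC : ∀ c ∈ Cen P, c ∈ (P : Subgroup G)) (L : LinData P) (i : L.ι)
    (χ : IrrCharacter G)
    (hind : ∀ g : G, indFun (Nrm P) (fun x : ↥(Nrm P) => L.μ i (x : G)) g = (χ : G → ℂ) g)
    (Q : Subgroup G) (hQN : Q ≤ Nrm P) (hQP : Q ⊓ (P : Subgroup G) = ⊥)
    (hQcard : Nat.card Q = qq P) (h : G) (hh : h ∈ Subgroup.normalizer (Q : Set G))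
    (hhN : h ∉ Nrm P) : ∃ σ ∈ Q, L.μ i (h * σ * h⁻¹) ≠ L.μ i σ := by
  classical
  by_contra hcon
  push Not at hcon
  have hpp : p.Prime := hp.out
  have hQmem := mem_Q_of_conj_mem P hP hC Q hQN hQP hQcard h hh hhN
  let θ : ↥(Nrm P) → ℂ := fun x => L.μ i (x : G)
  let e : G → ℂ := extendByZero (Nrm P) θ
  have he_mem : ∀ x, x ∈ Nrm P → e x = L.μ i x := fun x hx => extendByZero_of_mem _ θ hx
  have he_not : ∀ x, x ∉ Nrm P → e x = 0 := fun x hx => extendByZero_of_not_mem _ θ hx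
  have he_conj : ∀ b ∈ Nrm P, ∀ y : G, e (b⁻¹ * y * b) = e y := by
    intro b hb y
    by_cases hy : y ∈ Nrm P
    · rw [he_mem _ (Subgroup.mul_mem _ (Subgroup.mul_mem _ (Subgroup.inv_mem _ hb) hy) hb),
        he_mem _ hy, mu_conj_inv L i hb hy]
    · have hn : b⁻¹ * y * b ∉ Nrm P := by
        intro hc
        apply hy
        have h1 : y = b * (b⁻¹ * y * b) * b⁻¹ := by group
        rw [h1]
        exact Subgroup.mul_mem _ (Subgroup.mul_mem _ hb hc) (Subgroup.inv_mem _ hb)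
      rw [he_not _ hy, he_not _ hn]
  let T : G → ℂ := fun g => ∑ x : G, e x * conj (e (g⁻¹ * x * g))
  have hTdef : ∀ g, T g = ∑ x : G, e x * conj (e (g⁻¹ * x * g)) := fun g => rfl
  have hNne : (Nat.card (Nrm P) : ℂ) ≠ 0 := by
    rw [Nat.cast_ne_zero]; exact Nat.card_pos.ne'
  -- (1) the total
  have htotal : ∑ g : G, T g = (Nat.card (Nrm P) : ℂ) * (Nat.card (Nrm P) : ℂ) := by
    have hχχ : classInner (χ : G → ℂ) (χ : G → ℂ) = 1 := by
      unfold classInner
      have h1 : ∑ g : G, (χ : G → ℂ) g * conj ((χ : G → ℂ) g) = (Nat.card G : ℂ) := by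
        rw [← irr_norm χ]
        apply Finset.sum_congr rfl
        intro g _
        rw [irr_inv]
      rw [h1]
      apply inv_mul_cancel₀
      rw [Nat.cast_ne_zero]; exact Nat.card_pos.ne'
    have hfrob := frobenius_reciprocity (Nrm P) θ (χ : G → ℂ) (fun g k => irr_conj χ g k)
    have hindeq : indFun (Nrm P) θ = (χ : G → ℂ) := funext hind
    rw [hindeq, hχχ] at hfrob
    unfold classInner at hfrob
    have h2 : ∀ x : ↥(Nrm P), θ x * conj ((χ : G → ℂ) x) =
        (Nat.card (Nrm P) : ℂ)⁻¹ * (θ x * ∑ g : G, conj (e (g⁻¹ * (x : G) * g))) := by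
      intro x
      rw [← hind, indFun_apply, map_mul, map_inv₀, Complex.conj_natCast, map_sum]
      ring
    rw [Finset.sum_congr rfl (fun x _ => h2 x), ← Finset.mul_sum,
      ← sum_extendByZero_mul (Nrm P) θ (fun x => ∑ g : G, conj (e (g⁻¹ * x * g)))] at hfrob
    have h3 : ∑ g : G, extendByZero (Nrm P) θ g * ∑ g_1 : G, conj (e (g_1⁻¹ * g * g_1)) =
        ∑ g : G, T g := by
      rw [Finset.sum_congr rfl (fun x _ => Finset.mul_sum _ _ _)]
      rw [Finset.sum_comm]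
    rw [h3] at hfrob
    field_simp at hfrob
    rw [← hfrob]
    ring
  -- (2) every term is a non-negative real
  have hTnonneg : ∀ g : G, 0 ≤ (T g).re := by
    intro g
    let D : Subgroup G := Nrm P ⊓ (Nrm P).comap (MulAut.conj g⁻¹).toMonoidHom
    have hDmem : ∀ x, x ∈ D ↔ x ∈ Nrm P ∧ g⁻¹ * x * g ∈ Nrm P := by
      intro x
      have h1 : x ∈ D ↔ x ∈ Nrm P ∧ g⁻¹ * x * g⁻¹⁻¹ ∈ Nrm P := Iff.rfl
      rw [h1, inv_inv]
    let ν : ↥D →* ℂ :=
      { toFun := fun x => L.μ i (x : G) * conj (L.μ i (g⁻¹ * (x : G) * g))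
        map_one' := by
          show L.μ i ((1 : ↥D) : G) * conj (L.μ i (g⁻¹ * ((1 : ↥D) : G) * g)) = 1
          rw [Subgroup.coe_one, mul_one, inv_mul_cancel, mu_one, map_one, mul_one]
        map_mul' := fun x y => by
          have hx := (hDmem x).1 x.2
          have hy := (hDmem y).1 y.2
          have h1 : g⁻¹ * ((x * y : ↥D) : G) * g = (g⁻¹ * x * g) * (g⁻¹ * y * g) := by
            rw [Subgroup.coe_mul]; group
          show L.μ i ((x * y : ↥D) : G) * conj (L.μ i (g⁻¹ * ((x * y : ↥D) : G) * g)) = _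
          rw [h1, Subgroup.coe_mul, L.hμ_mul i _ hx.1 _ hy.1, L.hμ_mul i _ hx.2 _ hy.2, map_mul]
          ring }
    have hνdef : ∀ x : ↥D, ν x = L.μ i (x : G) * conj (L.μ i (g⁻¹ * (x : G) * g)) := fun x => rfl
    have hT : T g = ∑ x : ↥D, ν x := by
      have hF : ∀ x : G, e x * conj (e (g⁻¹ * x * g)) =
          extendByZero D (fun x : ↥D => ν x) x := by
        intro x
        by_cases hx : x ∈ D
        · rw [extendByZero_of_mem D _ hx]
          obtain ⟨h1, h2⟩ := (hDmem x).1 hx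
          rw [he_mem _ h1, he_mem _ h2, hνdef]
        · rw [extendByZero_of_not_mem D _ hx]
          by_cases h1 : x ∈ Nrm P
          · have h2 : g⁻¹ * x * g ∉ Nrm P := fun h2 => hx ((hDmem x).2 ⟨h1, h2⟩)
            rw [he_not _ h2, map_zero, mul_zero]
          · rw [he_not _ h1, zero_mul]
      rw [hTdef, Finset.sum_congr rfl (fun x _ => hF x), sum_extendByZero]
    by_cases hν : ν = 1
    · rw [hT, hν]
      simp
    · rw [hT, sum_hom_units_eq_zero ν hν]
      simp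
  -- (3) invariance under the double action of `N`
  have hTinv : ∀ a ∈ Nrm P, ∀ b ∈ Nrm P, ∀ g : G, T (a * g * b) = T g := by
    intro a ha b hb g
    rw [hTdef, hTdef]
    apply Fintype.sum_equiv (MulAut.conj a⁻¹).toEquiv
    intro x
    have h1 : (a * g * b)⁻¹ * x * (a * g * b) = b⁻¹ * (g⁻¹ * (a⁻¹ * x * a) * g) * b := by group
    rw [h1, he_conj b hb]
    simp only [MulEquiv.toEquiv_eq_coe, EquivLike.coe_coe, MulAut.conj_apply, inv_inv]
    rw [he_conj a ha x]
  -- (4) the trivial double coset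
  have hT1 : T 1 = (Nat.card (Nrm P) : ℂ) := by
    rw [hTdef]
    simp only [inv_one, one_mul, mul_one]
    rw [sum_extendByZero_mul (Nrm P) θ (fun x => conj (e x))]
    have h1 : ∀ x : ↥(Nrm P), θ x * conj (e (x : G)) = 1 := by
      intro x
      rw [he_mem _ x.2]
      exact mu_mul_conj L i x.2
    rw [Finset.sum_congr rfl (fun x _ => h1 x)]
    simp [Nat.card_eq_fintype_card]
  -- (5) the double coset of `h⁻¹`
  have hTh : T h⁻¹ = (Nat.card Q : ℂ) := by
    rw [hTdef, inv_inv]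
    have hF : ∀ x : G, e x * conj (e (h * x * h⁻¹)) =
        extendByZero Q (fun _ : ↥Q => (1 : ℂ)) x := by
      intro x
      by_cases hx : x ∈ Q
      · have hxN := hQN hx
        have hx' : h * x * h⁻¹ ∈ Q := (Subgroup.mem_normalizer_iff.1 hh x).1 hx
        rw [extendByZero_of_mem Q _ hx, he_mem _ hxN, he_mem _ (hQN hx'), hcon x hx,
          mu_mul_conj L i hxN]
      · rw [extendByZero_of_not_mem Q _ hx]
        by_cases h1 : x ∈ Nrm P
        · have h2 : h * x * h⁻¹ ∉ Nrm P := fun h2 => hx (hQmem x h1 h2)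
          rw [he_not _ h2, map_zero, mul_zero]
        · rw [he_not _ h1, zero_mul]
    rw [Finset.sum_congr rfl (fun x _ => hF x), sum_extendByZero]
    simp [Nat.card_eq_fintype_card]
  -- (6) counting
  let A : Finset G := Finset.univ.filter (fun g => g ∈ Nrm P)
  let φ : ↥(P : Subgroup G) × ↥(Nrm P) → G := fun zb => (zb.1 : G) * h⁻¹ * (zb.2 : G)
  let B : Finset G := Finset.univ.image φ
  have hPle : (P : Subgroup G) ≤ Nrm P := Subgroup.le_normalizer
  have hφinj : Function.Injective φ := by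
    rintro ⟨z, b⟩ ⟨z', b'⟩ hzb
    have h0 : (z : G) * h⁻¹ * (b : G) = (z' : G) * h⁻¹ * (b' : G) := hzb
    have h1 : h * ((z' : G)⁻¹ * (z : G)) * h⁻¹ = (b' : G) * (b : G)⁻¹ := by
      calc h * ((z' : G)⁻¹ * (z : G)) * h⁻¹
          = h * (z' : G)⁻¹ * ((z : G) * h⁻¹ * (b : G)) * (b : G)⁻¹ := by group
        _ = (b' : G) * (b : G)⁻¹ := by rw [h0]; group
    have hcP : (z' : G)⁻¹ * (z : G) ∈ (P : Subgroup G) :=
      Subgroup.mul_mem _ (Subgroup.inv_mem _ z'.2) z.2
    have hcQ : (z' : G)⁻¹ * (z : G) ∈ Q := by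
      apply hQmem _ (hPle hcP)
      rw [h1]
      exact Subgroup.mul_mem _ b'.2 (Subgroup.inv_mem _ b.2)
    have hc1 : (z' : G)⁻¹ * (z : G) = 1 := by
      have : (z' : G)⁻¹ * (z : G) ∈ Q ⊓ (P : Subgroup G) := Subgroup.mem_inf.2 ⟨hcQ, hcP⟩
      rw [hQP] at this
      exact Subgroup.mem_bot.1 this
    have hz : (z : G) = (z' : G) := by
      calc (z : G) = (z' : G) * ((z' : G)⁻¹ * (z : G)) := by group
        _ = (z' : G) := by rw [hc1, mul_one]
    have hb : (b : G) = (b' : G) := by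
      rw [hz] at h0
      exact mul_left_cancel h0
    exact Prod.ext (Subtype.ext hz) (Subtype.ext hb)
  have hdisj : Disjoint A B := by
    rw [Finset.disjoint_left]
    intro g hgA hgB
    rw [Finset.mem_filter] at hgA
    obtain ⟨⟨z, b⟩, -, rfl⟩ := Finset.mem_image.1 hgB
    apply hhN
    have h1 : h⁻¹ = (z : G)⁻¹ * ((z : G) * h⁻¹ * (b : G)) * (b : G)⁻¹ := by group
    have h2 : h⁻¹ ∈ Nrm P := by
      rw [h1]
      exact Subgroup.mul_mem _ (Subgroup.mul_mem _ (Subgroup.inv_mem _ (hPle z.2)) hgA.2)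
        (Subgroup.inv_mem _ b.2)
    have := Subgroup.inv_mem _ h2
    rwa [inv_inv] at this
  have hsumA : ∑ g ∈ A, (T g).re = (Nat.card (Nrm P) : ℝ) * (Nat.card (Nrm P) : ℝ) := by
    have h1 : ∀ g ∈ A, (T g).re = (Nat.card (Nrm P) : ℝ) := by
      intro g hg
      have hgN : g ∈ Nrm P := (Finset.mem_filter.1 hg).2
      have h2 := hTinv g hgN 1 (Subgroup.one_mem _) 1
      rw [mul_one, mul_one] at h2
      rw [h2, hT1, Complex.natCast_re]
    rw [Finset.sum_congr rfl h1, Finset.sum_const, nsmul_eq_mul]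
    congr 1
    have h3 : A.card = Fintype.card ↥(Nrm P) := by
      rw [Fintype.card_subtype]
    rw [h3, Nat.card_eq_fintype_card]
  have hsumB : ∑ g ∈ B, (T g).re = (Nat.card (Nrm P) : ℝ) * (Nat.card (Nrm P) : ℝ) := by
    rw [Finset.sum_image (fun x _ y _ hxy => hφinj hxy)]
    have h1 : ∀ zb : ↥(P : Subgroup G) × ↥(Nrm P), (T (φ zb)).re = (Nat.card Q : ℝ) := by
      intro zb
      have h2 := hTinv (zb.1 : G) (hPle zb.1.2) (zb.2 : G) zb.2.2 h⁻¹
      show (T ((zb.1 : G) * h⁻¹ * (zb.2 : G))).re = _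
      rw [h2, hTh, Complex.natCast_re]
    rw [Finset.sum_congr rfl (fun zb _ => h1 zb), Finset.sum_const, nsmul_eq_mul, Finset.card_univ,
      Fintype.card_prod, ← Nat.card_eq_fintype_card, ← Nat.card_eq_fintype_card]
    have hP' : Nat.card ↥(P : Subgroup G) = p := hP
    rw [hP', hQcard, card_Nrm P hP hC]
    push_cast
    ring
  have hsumle : ∑ g ∈ A ∪ B, (T g).re ≤ ∑ g : G, (T g).re :=
    Finset.sum_le_sum_of_subset_of_nonneg (Finset.subset_univ _) (fun g _ _ => hTnonneg g)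
  rw [Finset.sum_union hdisj, hsumA, hsumB] at hsumle
  have htotal' : ∑ g : G, (T g).re = (Nat.card (Nrm P) : ℝ) * (Nat.card (Nrm P) : ℝ) := by
    rw [← Complex.re_sum, htotal, ← Nat.cast_mul, Complex.natCast_re, Nat.cast_mul]
  rw [htotal'] at hsumle
  have hpos : (0 : ℝ) < (Nat.card (Nrm P) : ℝ) := by
    rw [Nat.cast_pos]; exact Nat.card_pos
  nlinarith

end Cfsg.Agent.Lib.Helper47_BR_MACK
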