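import Cfsg.Agent.S4089
import Cfsg.Agent.Lib.Helper24_CoprimeAction
import Cfsg.Agent.Lib.Helper47_Conj
import Cfsg.Agent.Lib.Helper47_HH

/-!
# Casolo's formula for subnormalizers in `p`-solvable groups

`snSet p H` is the set of `g` normalizing some `p`-subgroup containing `H` (by
`Cfsg.Agent.S4089.sn_iff` this is the set of `g` with `H` subnormal in `⟨H, g⟩`).

* `card_snSet_of_ker_isPGroup`: for a surjection `f` with `p`-group kernel,
  `|S_G(H)| = |ker f| * |S_{f G}(f H)|`;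
* `card_snSet_of_ker_coprime`: for a surjection `f` with `p'`-kernel,
  `|S_G(H)| = |S_{f G}(f H)| * |C_{ker f}(H)|`.
-/

set_option autoImplicit false

namespace Cfsg.Agent.Lib.Helper47_Casolo

open Cfsg
open Cfsg.Agent.Lib.Helper47_Conj

universe u v

variable {G : Type u} [Group G]

/-- The subnormalizer set of a `p`-subgroup, in the form given by `S4089.sn_iff`. -/
def snSet (p : ℕ) (H : Subgroup G) : Set G :=
  {g | ∃ R : Subgroup G, H ≤ R ∧ IsPGroup p R ∧ g ∈ Subgroup.normalizer (R : Set G)}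

/-! ### Counting lemmas -/

theorem card_eq_mul_of_fiber {α β : Type*} [Finite α] [Finite β] (f : α → β) (k : ℕ)
    (h : ∀ b, Nat.card {a // f a = b} = k) : Nat.card α = Nat.card β * k := by
  cases nonempty_fintype β
  rw [← Nat.card_congr (Equiv.sigmaFiberEquiv f), Nat.card_sigma]
  simp [h]

theorem card_set_eq_mul_of_fiber {α β : Type*} [Finite α] [Finite β] (f : α → β)
    (S : Set α) (S' : Set β) (hf : ∀ a ∈ S, f a ∈ S') (k : ℕ)
    (h : ∀ b ∈ S', Nat.card {a // f a = b ∧ a ∈ S} = k) : Nat.card S = Nat.card S' * k := by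
  apply card_eq_mul_of_fiber (fun a : S => (⟨f a.1, hf a.1 a.2⟩ : S'))
  rintro ⟨b, hb⟩
  rw [← h b hb]
  apply Nat.card_congr
  exact
    { toFun := fun a => ⟨a.1.1, congrArg Subtype.val a.2, a.1.2⟩
      invFun := fun a => ⟨⟨a.1, a.2.2⟩, Subtype.ext a.2.1⟩
      left_inv := fun a => rfl
      right_inv := fun a => rfl }

theorem card_eq_of_right_coset (K : Subgroup G) (g0 : G) (P : G → Prop)
    (hP : ∀ g, P g ↔ g * g0⁻¹ ∈ K) : Nat.card {g // P g} = Nat.card K :=
  Nat.card_congr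
    { toFun := fun g => ⟨g.1 * g0⁻¹, (hP g.1).1 g.2⟩
      invFun := fun k => ⟨k.1 * g0, (hP _).2 (by simp)⟩
      left_inv := fun g => by ext; simp
      right_inv := fun k => by ext; simp }

theorem card_fiber_eq_card_ker {G' : Type v} [Group G'] (f : G →* G')
    (hf : Function.Surjective f) (b : G') : Nat.card {g // f g = b} = Nat.card f.ker := by
  obtain ⟨g0, rfl⟩ := hf b
  apply card_eq_of_right_coset f.ker g0
  intro g
  rw [MonoidHom.mem_ker, map_mul, map_inv, mul_inv_eq_one]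

/-- The preimage of a set under a surjective homomorphism. -/
theorem card_preimage {G' : Type v} [Group G'] [Finite G] (f : G →* G')
    (hf : Function.Surjective f) (S' : Set G') :
    Nat.card (f ⁻¹' S') = Nat.card S' * Nat.card f.ker := by
  have : Finite G' := Finite.of_surjective f hf
  apply card_set_eq_mul_of_fiber f (f ⁻¹' S') S' (fun a ha => ha)
  intro b hb
  rw [← card_fiber_eq_card_ker f hf b]
  apply Nat.card_congr
  exact
    { toFun := fun a => ⟨a.1, a.2.1⟩
      invFun := fun a => ⟨a.1, a.2, by rw [Set.mem_preimage, a.2]; exact hb⟩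
      left_inv := fun a => rfl
      right_inv := fun a => rfl }

/-! ### Images and preimages of the subnormalizer set -/

theorem map_mem_snSet {G' : Type v} [Group G'] (p : ℕ) (f : G →* G') (H : Subgroup G) {g : G}
    (hg : g ∈ snSet p H) : f g ∈ snSet p (H.map f) := by
  obtain ⟨R, h1, h2, h3⟩ := hg
  exact ⟨R.map f, Subgroup.map_mono h1, h2.map f, Subgroup.le_normalizer_map f ⟨g, h3, rfl⟩⟩

theorem mem_snSet_of_map_mem {G' : Type v} [Group G'] (p : ℕ) (f : G →* G')
    (hker : IsPGroup p f.ker) (H : Subgroup G) {g : G} (hg : f g ∈ snSet p (H.map f)) :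
    g ∈ snSet p H := by
  obtain ⟨R, h1, h2, h3⟩ := hg
  refine ⟨R.comap f, Subgroup.map_le_iff_le_comap.mp h1, h2.comap_of_ker_isPGroup f hker, ?_⟩
  exact Subgroup.le_normalizer_comap f h3

/-- **Normal `p`-subgroups**: the subnormalizer set is a full preimage. -/
theorem card_snSet_of_ker_isPGroup {G' : Type v} [Group G'] [Finite G] (p : ℕ) (f : G →* G')
    (hf : Function.Surjective f) (hker : IsPGroup p f.ker) (H : Subgroup G) :
    Nat.card (snSet p H) = Nat.card (snSet p (H.map f)) * Nat.card f.ker := by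
  rw [← card_preimage f hf]
  apply Nat.card_congr
  apply Equiv.setCongr
  ext g
  exact ⟨map_mem_snSet p f H, mem_snSet_of_map_mem p f hker H⟩

/-! ### Normal `p'`-subgroups: the fibre count -/

section core

variable {G' : Type v} [Group G'] [Finite G] (p : ℕ) [Fact p.Prime] (f : G →* G')

theorem coprime_card_of_isPGroup (hker : (Nat.card f.ker).Coprime p) {Q : Subgroup G}
    (hQ : IsPGroup p Q) : (Nat.card Q).Coprime (Nat.card f.ker) := by
  obtain ⟨k, hk⟩ := IsPGroup.iff_card.mp hQ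
  rw [hk]
  exact Nat.Coprime.pow_left k hker.symm

theorem inf_ker_eq_bot (hker : (Nat.card f.ker).Coprime p) {Q : Subgroup G}
    (hQ : IsPGroup p Q) : Q ⊓ f.ker = ⊥ :=
  (Subgroup.disjoint_of_coprime_natCard (coprime_card_of_isPGroup p f hker hQ)).eq_bot

theorem card_map_eq (hker : (Nat.card f.ker).Coprime p) {Q : Subgroup G}
    (hQ : IsPGroup p Q) : Nat.card (Q.map f) = Nat.card Q := by
  have hinj : Function.Injective (f.comp Q.subtype) := by
    rw [injective_iff_map_eq_one]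
    intro x hx
    have h1 : (x : G) ∈ Q ⊓ f.ker := ⟨x.2, hx⟩
    rw [inf_ker_eq_bot p f hker hQ, Subgroup.mem_bot] at h1
    exact Subtype.ext h1
  have h2 : (f.comp Q.subtype).range = Q.map f := by
    rw [MonoidHom.range_comp, Subgroup.range_subtype]
  rw [← h2]
  exact (Nat.card_congr (MonoidHom.ofInjective hinj).toEquiv).symm

theorem exists_conj_of_map_eq (hker : (Nat.card f.ker).Coprime p) {Q Q' : Subgroup G}
    (hQ : IsPGroup p Q) (hQ' : IsPGroup p Q') (h : Q.map f = Q'.map f) :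
    ∃ n ∈ f.ker, Q.map (MulAut.conj n).toMonoidHom = Q' := by
  have : Group.IsNilpotent Q := hQ.isNilpotent
  apply Helper24_CoprimeAction.sz_rel_conj Q f.ker Q'
  · rw [Subgroup.normalizer_eq_top]; exact le_top
  · exact coprime_card_of_isPGroup p f hker hQ
  · left; infer_instance
  · have h1 : Q' ≤ (Q'.map f).comap f := Subgroup.le_comap_map f Q'
    rw [← h, Subgroup.comap_map_eq] at h1
    rwa [sup_comm]
  · rw [← card_map_eq p f hker hQ', ← h, card_map_eq p f hker hQ]

omit [Finite G] in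
theorem map_map_conj (n : G) (Q : Subgroup G) :
    (Q.map (MulAut.conj n).toMonoidHom).map f = (Q.map f).map (MulAut.conj (f n)).toMonoidHom := by
  rw [Subgroup.map_map, Subgroup.map_map]
  congr 1
  ext x
  simp

/-- An element of the kernel normalizing a `p`-subgroup centralizes it. -/
theorem commute_of_mem_ker_of_mem_normalizer (hker : (Nat.card f.ker).Coprime p) {Q : Subgroup G}
    (hQ : IsPGroup p Q) {n : G} (hn : n ∈ f.ker) (hnQ : n ∈ Subgroup.normalizer (Q : Set G)) :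
    ∀ q ∈ Q, q * n = n * q := by
  apply Helper24_CoprimeAction.commute_of_map_conj_eq Q f.ker
  · rw [Subgroup.normalizer_eq_top]; exact le_top
  · rw [inf_comm]; exact inf_ker_eq_bot p f hker hQ
  · exact hn
  · exact mem_normalizer_iff_map_conj_eq'.mp hnQ

/-- A minimal `gb`-invariant `p`-subgroup `Rb` of the image containing the image of `H`. -/
structure MinData (p : ℕ) (f : G →* G') (H : Subgroup G) (gb : G') (Rb : Subgroup G') : Prop where
  le : H.map f ≤ Rb
  pg : IsPGroup p Rb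
  nz : gb ∈ Subgroup.normalizer (Rb : Set G')
  min : ∀ X : Subgroup G', H.map f ≤ X → IsPGroup p X →
    gb ∈ Subgroup.normalizer (X : Set G') → X ≤ Rb → X = Rb

omit [Finite G] [Fact p.Prime] in
theorem exists_minData [Finite G'] {H : Subgroup G} {gb : G'} (hgb : gb ∈ snSet p (H.map f)) :
    ∃ Rb : Subgroup G', MinData p f H gb Rb := by
  let S : Set (Subgroup G') :=
    {X | H.map f ≤ X ∧ IsPGroup p X ∧ gb ∈ Subgroup.normalizer (X : Set G')}
  have hne : S.Nonempty := hgb
  obtain ⟨Rb, hRS, hmin⟩ := (wellFounded_lt (α := Subgroup G')).has_min S hne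
  refine ⟨Rb, hRS.1, hRS.2.1, hRS.2.2, ?_⟩
  intro X h1 h2 h3 h4
  by_contra hne'
  exact hmin X ⟨h1, h2, h3⟩ (lt_of_le_of_ne h4 hne')

variable {p f}
variable {H : Subgroup G} {gb : G'} {Rb : Subgroup G'}

omit [Finite G] [Fact p.Prime] in
/-- existence of the `p`-subgroup `Q` over `Rb` normalized by `g` -/
theorem MinData.exists_Q (hm : MinData p f H gb Rb) {g : G} (hg : f g = gb)
    (hgs : g ∈ snSet p H) :
    ∃ Q : Subgroup G, (H ≤ Q ∧ IsPGroup p Q ∧ Q.map f = Rb) ∧
      g ∈ Subgroup.normalizer (Q : Set G) := by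
  obtain ⟨R, h1, h2, h3⟩ := hgs
  have hgc : g ∈ Subgroup.normalizer ((Rb.comap f : Subgroup G) : Set G) := by
    apply Subgroup.le_normalizer_comap f
    rw [Subgroup.mem_comap, hg]
    exact hm.nz
  have hgQ : g ∈ Subgroup.normalizer ((R ⊓ Rb.comap f : Subgroup G) : Set G) :=
    Helper47_HH.mem_normalizer_inf h3 hgc
  have hHQ : H ≤ R ⊓ Rb.comap f := le_inf h1 (Subgroup.map_le_iff_le_comap.mp hm.le)
  have hQp : IsPGroup p (R ⊓ Rb.comap f : Subgroup G) := h2.to_le inf_le_left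
  refine ⟨R ⊓ Rb.comap f, ⟨hHQ, hQp, ?_⟩, hgQ⟩
  apply hm.min _ (Subgroup.map_mono hHQ) (hQp.map f)
  · rw [← hg]
    exact Subgroup.le_normalizer_map f ⟨g, hgQ, rfl⟩
  · exact Subgroup.map_le_iff_le_comap.mpr inf_le_right

/-- uniqueness of the `p`-subgroup `Q` over `Rb` normalized by `g` -/
theorem MinData.unique_Q (hm : MinData p f H gb Rb) (hker : (Nat.card f.ker).Coprime p)
    {g : G} (hg : f g = gb) {Q₁ Q₂ : Subgroup G}
    (h₁ : H ≤ Q₁ ∧ IsPGroup p Q₁ ∧ Q₁.map f = Rb) (h₂ : H ≤ Q₂ ∧ IsPGroup p Q₂ ∧ Q₂.map f = Rb)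
    (hg₁ : g ∈ Subgroup.normalizer (Q₁ : Set G)) (hg₂ : g ∈ Subgroup.normalizer (Q₂ : Set G)) :
    Q₁ = Q₂ := by
  have hgQ : g ∈ Subgroup.normalizer ((Q₁ ⊓ Q₂ : Subgroup G) : Set G) :=
    Helper47_HH.mem_normalizer_inf hg₁ hg₂
  have hHQ : H ≤ Q₁ ⊓ Q₂ := le_inf h₁.1 h₂.1
  have hQp : IsPGroup p (Q₁ ⊓ Q₂ : Subgroup G) := h₁.2.1.to_le inf_le_left
  have hmap : (Q₁ ⊓ Q₂).map f = Rb := by
    apply hm.min _ (Subgroup.map_mono hHQ) (hQp.map f)
    · rw [← hg]
      exact Subgroup.le_normalizer_map f ⟨g, hgQ, rfl⟩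
    · rw [← h₁.2.2]; exact Subgroup.map_mono inf_le_left
  have hc : Nat.card (Q₁ ⊓ Q₂ : Subgroup G) = Nat.card Rb := by
    rw [← hmap, card_map_eq p f hker hQp]
  have hc₁ : Nat.card Q₁ = Nat.card Rb := by
    rw [← h₁.2.2, card_map_eq p f hker h₁.2.1]
  have hc₂ : Nat.card Q₂ = Nat.card Rb := by
    rw [← h₂.2.2, card_map_eq p f hker h₂.2.1]
  have e₁ : Q₁ ⊓ Q₂ = Q₁ := Subgroup.eq_of_le_of_card_ge inf_le_left (by rw [hc, hc₁])
  have e₂ : Q₁ ⊓ Q₂ = Q₂ := Subgroup.eq_of_le_of_card_ge inf_le_right (by rw [hc, hc₂])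
  rw [← e₁]; exact e₂

/-- Frattini: some element of the fibre normalizes `Q`. -/
theorem MinData.exists_mem_normalizer (hm : MinData p f H gb Rb) (hf : Function.Surjective f)
    (hker : (Nat.card f.ker).Coprime p) {Q : Subgroup G}
    (hQ : H ≤ Q ∧ IsPGroup p Q ∧ Q.map f = Rb) :
    ∃ g₀ : G, f g₀ = gb ∧ g₀ ∈ Subgroup.normalizer (Q : Set G) := by
  obtain ⟨g₁, hg₁⟩ := hf gb
  have h1 : (Q.map (MulAut.conj g₁).toMonoidHom).map f = Q.map f := by
    rw [map_map_conj, hQ.2.2, hg₁]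
    exact mem_normalizer_iff_map_conj_eq'.mp hm.nz
  obtain ⟨n, hn, hnQ⟩ := exists_conj_of_map_eq p f hker hQ.2.1
    (hQ.2.1.map (MulAut.conj g₁).toMonoidHom) h1.symm
  refine ⟨n⁻¹ * g₁, ?_, ?_⟩
  · rw [map_mul, map_inv, MonoidHom.mem_ker.mp hn, inv_one, one_mul, hg₁]
  · rw [mem_normalizer_iff_map_conj_eq', ← map_conj_map_conj, ← hnQ, map_conj_inv_map_conj]

/-- Two `p`-subgroups over `Rb` containing `H` are conjugate under `C_{ker f}(H)`. -/
theorem MinData.exists_conj (hker : (Nat.card f.ker).Coprime p) {Q₀ Q : Subgroup G}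
    (h₀ : H ≤ Q₀ ∧ IsPGroup p Q₀ ∧ Q₀.map f = Rb) (hQ : H ≤ Q ∧ IsPGroup p Q ∧ Q.map f = Rb) :
    ∃ c : G, c ∈ f.ker ∧ (∀ h ∈ H, h * c = c * h) ∧
      Q₀.map (MulAut.conj c).toMonoidHom = Q := by
  obtain ⟨n, hn, hnQ⟩ := exists_conj_of_map_eq p f hker h₀.2.1 hQ.2.1 (h₀.2.2.trans hQ.2.2.symm)
  refine ⟨n, hn, ?_, hnQ⟩
  intro h hh
  -- `n⁻¹ h n ∈ Q₀` and `h ∈ Q₀`
  have h1 : h ∈ Q₀.map (MulAut.conj n).toMonoidHom := by rw [hnQ]; exact hQ.1 hh
  obtain ⟨y, hy, hyh⟩ := h1
  have hyh' : n * y * n⁻¹ = h := hyh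
  have h2 : h⁻¹ * y ∈ Q₀ := Q₀.mul_mem (Q₀.inv_mem (h₀.1 hh)) hy
  have h3 : h⁻¹ * y ∈ f.ker := by
    rw [MonoidHom.mem_ker, ← hyh', map_mul, map_inv, map_mul, map_mul, map_inv,
      MonoidHom.mem_ker.mp hn]
    simp
  have h4 : h⁻¹ * y ∈ Q₀ ⊓ f.ker := ⟨h2, h3⟩
  rw [inf_ker_eq_bot p f hker h₀.2.1, Subgroup.mem_bot] at h4
  have h5 : y = h := by
    have := congrArg (fun z => h * z) h4
    simpa using this
  rw [h5] at hyh'
  -- n h n⁻¹ = h
  calc h * n = (n * h * n⁻¹) * n := by rw [hyh']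
    _ = n * h := by group

/-- There is a `p`-subgroup over `Rb` containing `H`. -/
theorem MinData.exists_Q₀ (hm : MinData p f H gb Rb) (hf : Function.Surjective f)
    (hH : IsPGroup p H) :
    ∃ Q₀ : Subgroup G, H ≤ Q₀ ∧ IsPGroup p Q₀ ∧ Q₀.map f = Rb := by
  have hHT : H ≤ Rb.comap f := Subgroup.map_le_iff_le_comap.mp hm.le
  obtain ⟨P, hP⟩ := (hH.comap_subtype (K := Rb.comap f)).exists_le_sylow
  have hsurj := MonoidHom.subgroupComap_surjective_of_surjective f Rb hf
  have htop : ((P.mapSurjective hsurj : Sylow p Rb) : Subgroup Rb) = ⊤ := by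
    have hp : IsPGroup p (⊤ : Subgroup Rb) := fun x => by
      obtain ⟨k, hk⟩ := hm.pg x.1
      exact ⟨k, Subtype.ext hk⟩
    exact ((P.mapSurjective hsurj).is_maximal' hp le_top).symm
  refine ⟨(P : Subgroup (Rb.comap f)).map (Rb.comap f).subtype, ?_, P.isPGroup'.map _, ?_⟩
  · intro x hx
    exact ⟨⟨x, hHT hx⟩, hP (Subgroup.mem_subgroupOf.mpr hx), rfl⟩
  · apply le_antisymm
    · rintro _ ⟨_, ⟨y, _, rfl⟩, rfl⟩
      exact y.2
    · intro x hx
      have h1 : (⟨x, hx⟩ : Rb) ∈ ((P.mapSurjective hsurj : Sylow p Rb) : Subgroup Rb) := by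
        rw [htop]; exact Subgroup.mem_top _
      rw [Sylow.coe_mapSurjective] at h1
      obtain ⟨y, hy, hyx⟩ := h1
      refine ⟨y.1, ⟨y, hy, rfl⟩, ?_⟩
      exact congrArg Subtype.val hyx

/-- **The fibre count**: over an element `gb` of the subnormalizer set of the image of `H`, the
fibre of `f` contains exactly `|C_{ker f}(H)|` elements of the subnormalizer set of `H`. -/
theorem card_fiber_snSet (hf : Function.Surjective f) (hker : (Nat.card f.ker).Coprime p)
    (hH : IsPGroup p H) (hgb : gb ∈ snSet p (H.map f)) :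
    Nat.card {g : G // f g = gb ∧ g ∈ snSet p H} =
      Nat.card {u : G // u ∈ f.ker ∧ ∀ h ∈ H, h * u = u * h} := by
  have : Finite G' := Finite.of_surjective f hf
  obtain ⟨Rb, hm⟩ := exists_minData p f hgb
  obtain ⟨Q₀, h₀⟩ := hm.exists_Q₀ hf hH
  let 𝒬 := {Q : Subgroup G // H ≤ Q ∧ IsPGroup p Q ∧ Q.map f = Rb}
  -- first bijection
  have e1 : Nat.card {g : G // f g = gb ∧ g ∈ snSet p H} =
      Nat.card (Σ Q : 𝒬, {g : G // f g = gb ∧ g ∈ Subgroup.normalizer (Q.1 : Set G)}) := by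
    symm
    apply Nat.card_congr
    apply Equiv.ofBijective
      (fun x => (⟨x.2.1, x.2.2.1, x.1.1, x.1.2.1, x.1.2.2.1, x.2.2.2⟩ :
        {g : G // f g = gb ∧ g ∈ snSet p H}))
    constructor
    · rintro ⟨Q1, g1, hg1, hn1⟩ ⟨Q2, g2, hg2, hn2⟩ h
      have hgg : g1 = g2 := congrArg Subtype.val h
      subst hgg
      have hQQ : Q1 = Q2 := Subtype.ext (hm.unique_Q hker hg1 Q1.2 Q2.2 hn1 hn2)
      subst hQQ
      rfl
    · rintro ⟨g, hg, hgs⟩
      obtain ⟨Q, hQ, hgQ⟩ := hm.exists_Q hg hgs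
      exact ⟨⟨⟨Q, hQ⟩, g, hg, hgQ⟩, rfl⟩
  have e2 : Nat.card {u : G // u ∈ f.ker ∧ ∀ h ∈ H, h * u = u * h} =
      Nat.card (Σ Q : 𝒬, {c : G // (c ∈ f.ker ∧ ∀ h ∈ H, h * c = c * h) ∧
        Q₀.map (MulAut.conj c).toMonoidHom = Q.1}) := by
    symm
    apply Nat.card_congr
    apply Equiv.ofBijective
      (fun x => (⟨x.2.1, x.2.2.1⟩ : {u : G // u ∈ f.ker ∧ ∀ h ∈ H, h * u = u * h}))
    constructor
    · rintro ⟨Q1, c1, hc1, hq1⟩ ⟨Q2, c2, hc2, hq2⟩ h
      have hcc : c1 = c2 := congrArg Subtype.val h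
      subst hcc
      have hQQ : Q1 = Q2 := Subtype.ext (hq1.symm.trans hq2)
      subst hQQ
      rfl
    · rintro ⟨c, hc1, hc2⟩
      refine ⟨⟨⟨Q₀.map (MulAut.conj c).toMonoidHom, ?_, ?_, ?_⟩, c, ⟨hc1, hc2⟩, rfl⟩, rfl⟩
      · intro h hh
        refine ⟨h, h₀.1 hh, ?_⟩
        show c * h * c⁻¹ = h
        rw [← hc2 h hh]; group
      · exact h₀.2.1.map _
      · rw [map_map_conj, h₀.2.2, MonoidHom.mem_ker.mp hc1]; exact map_conj_one Rb
  rw [e1, e2]
  cases nonempty_fintype 𝒬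
  rw [Nat.card_sigma, Nat.card_sigma]
  apply Finset.sum_congr rfl
  intro Q _
  obtain ⟨g₀, hg₀, hg₀Q⟩ := hm.exists_mem_normalizer hf hker Q.2
  obtain ⟨c₀, hc₀1, hc₀2, hc₀3⟩ := MinData.exists_conj hker h₀ Q.2
  have a1 : Nat.card {g : G // f g = gb ∧ g ∈ Subgroup.normalizer (Q.1 : Set G)} =
      Nat.card (f.ker ⊓ Subgroup.normalizer (Q.1 : Set G) : Subgroup G) := by
    apply card_eq_of_right_coset (f.ker ⊓ Subgroup.normalizer (Q.1 : Set G)) g₀
      (fun g => f g = gb ∧ g ∈ Subgroup.normalizer (Q.1 : Set G))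
    intro g
    constructor
    · rintro ⟨hg, hn⟩
      refine Subgroup.mem_inf.mpr ⟨?_, ?_⟩
      · rw [MonoidHom.mem_ker, map_mul, map_inv, hg, hg₀, mul_inv_cancel]
      · exact Subgroup.mul_mem _ hn (Subgroup.inv_mem _ hg₀Q)
    · intro hk'
      obtain ⟨hk, hn⟩ := Subgroup.mem_inf.mp hk'
      refine ⟨?_, ?_⟩
      · have h1 : f (g * g₀⁻¹) = 1 := hk
        rw [map_mul, map_inv, hg₀, mul_inv_eq_one] at h1
        exact h1
      · have h1 := Subgroup.mul_mem _ hn hg₀Q
        simpa using h1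
  have a2 : Nat.card {c : G // (c ∈ f.ker ∧ ∀ h ∈ H, h * c = c * h) ∧
        Q₀.map (MulAut.conj c).toMonoidHom = Q.1} =
      Nat.card (f.ker ⊓ Subgroup.normalizer (Q.1 : Set G) : Subgroup G) := by
    apply card_eq_of_right_coset (f.ker ⊓ Subgroup.normalizer (Q.1 : Set G)) c₀
      (fun c => (c ∈ f.ker ∧ ∀ h ∈ H, h * c = c * h) ∧
        Q₀.map (MulAut.conj c).toMonoidHom = Q.1)
    intro c
    constructor
    · rintro ⟨⟨hc1, hc2⟩, hc3⟩
      refine Subgroup.mem_inf.mpr ⟨f.ker.mul_mem hc1 (f.ker.inv_mem hc₀1), ?_⟩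
      rw [mem_normalizer_iff_map_conj_eq']
      conv_lhs => rw [← hc₀3]
      rw [map_conj_map_conj, inv_mul_cancel_right, hc3]
    · intro hk'
      obtain ⟨hk, hn⟩ := Subgroup.mem_inf.mp hk'
      have hm' := commute_of_mem_ker_of_mem_normalizer p f hker Q.2.2.1 hk hn
      refine ⟨⟨?_, ?_⟩, ?_⟩
      · have h1 := f.ker.mul_mem hk hc₀1
        simpa using h1
      · intro h hh
        have e1 := hm' h (Q.2.1 hh)
        have e2 := hc₀2 h hh
        calc h * c = h * (c * c₀⁻¹) * c₀ := by group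
          _ = (c * c₀⁻¹) * h * c₀ := by rw [e1]
          _ = (c * c₀⁻¹) * (h * c₀) := by group
          _ = (c * c₀⁻¹) * (c₀ * h) := by rw [e2]
          _ = c * h := by group
      · have h1 : Q₀.map (MulAut.conj c).toMonoidHom =
            (Q₀.map (MulAut.conj c₀).toMonoidHom).map (MulAut.conj (c * c₀⁻¹)).toMonoidHom := by
          rw [map_conj_map_conj, inv_mul_cancel_right]
        rw [h1, hc₀3]
        exact mem_normalizer_iff_map_conj_eq'.mp hn
  rw [a1, a2]

/-- **Normal `p'`-subgroups**: `|S_G(H)| = |S_{f G}(f H)| * |C_{ker f}(H)|`. -/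
theorem card_snSet_of_ker_coprime (hf : Function.Surjective f)
    (hker : (Nat.card f.ker).Coprime p) (hH : IsPGroup p H) :
    Nat.card (snSet p H) = Nat.card (snSet p (H.map f)) *
      Nat.card {u : G // u ∈ f.ker ∧ ∀ h ∈ H, h * u = u * h} := by
  have : Finite G' := Finite.of_surjective f hf
  apply card_set_eq_mul_of_fiber f (snSet p H) (snSet p (H.map f))
    (fun a ha => map_mem_snSet p f H ha)
  intro b hb
  exact card_fiber_snSet hf hker hH hb

end core

/-! ### The factors of the formula -/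

/-- the factor contributed by the section `B/A` -/
noncomputable def fac (p : ℕ) (H A B : Subgroup G) : ℕ :=
  if (A.relIndex B).Coprime p then
    Nat.card {u : G // u ∈ B ∧ ∀ h ∈ H, h * u * h⁻¹ * u⁻¹ ∈ A} / Nat.card A
  else 1

theorem mem_iff_map_mem {G' : Type v} [Group G'] (f : G →* G') {A : Subgroup G}
    (hA : f.ker ≤ A) (x : G) : f x ∈ A.map f ↔ x ∈ A := by
  constructor
  · intro h
    have h1 : x ∈ (A.map f).comap f := h
    rwa [Subgroup.comap_map_eq_self hA] at h1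
  · intro h
    exact Subgroup.mem_map_of_mem f h

theorem card_eq_card_map_mul {G' : Type v} [Group G'] [Finite G] (f : G →* G')
    (hf : Function.Surjective f) {A : Subgroup G} (hA : f.ker ≤ A) :
    Nat.card A = Nat.card (A.map f) * Nat.card f.ker := by
  have h1 := card_preimage f hf ((A.map f : Subgroup G') : Set G')
  have h2 : Nat.card A = Nat.card (f ⁻¹' ((A.map f : Subgroup G') : Set G')) := by
    apply Nat.card_congr
    exact Equiv.setCongr (s := (A : Set G)) (by ext x; exact (mem_iff_map_mem f hA x).symm)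
  exact h2.trans h1

theorem fac_map {G' : Type v} [Group G'] [Finite G] (p : ℕ) (f : G →* G')
    (hf : Function.Surjective f) (H : Subgroup G) {A B : Subgroup G} (hA : f.ker ≤ A)
    (hB : f.ker ≤ B) : fac p (H.map f) (A.map f) (B.map f) = fac p H A B := by
  have hrel : (A.map f).relIndex (B.map f) = A.relIndex B := by
    rw [← Subgroup.relIndex_comap, Subgroup.comap_map_eq_self hA]
  have hnum : Nat.card {u : G // u ∈ B ∧ ∀ h ∈ H, h * u * h⁻¹ * u⁻¹ ∈ A} =
      Nat.card {u : G' // u ∈ B.map f ∧ ∀ h ∈ H.map f, h * u * h⁻¹ * u⁻¹ ∈ A.map f} *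
        Nat.card f.ker := by
    have h1 := card_preimage f hf
      {u : G' | u ∈ B.map f ∧ ∀ h ∈ H.map f, h * u * h⁻¹ * u⁻¹ ∈ A.map f}
    refine Eq.trans ?_ h1
    apply Nat.card_congr
    apply Equiv.setCongr (s := {u : G | u ∈ B ∧ ∀ h ∈ H, h * u * h⁻¹ * u⁻¹ ∈ A})
    ext x
    simp only [Set.mem_ofPred_eq, Set.mem_preimage]
    constructor
    · rintro ⟨h2, h3⟩
      refine ⟨Subgroup.mem_map_of_mem f h2, ?_⟩
      rintro _ ⟨h, hh, rfl⟩
      have := Subgroup.mem_map_of_mem f (h3 h hh)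
      simpa using this
    · rintro ⟨h2, h3⟩
      refine ⟨(mem_iff_map_mem f hB x).mp h2, ?_⟩
      intro h hh
      apply (mem_iff_map_mem f hA _).mp
      have := h3 (f h) (Subgroup.mem_map_of_mem f hh)
      simpa using this
  have hden := card_eq_card_map_mul f hf hA
  have hkpos : 0 < Nat.card f.ker := Nat.card_pos
  unfold fac
  rw [hrel, hnum, hden, Nat.mul_div_mul_right _ _ hkpos]

/-! ### Orders of Sylow subgroups of quotients -/

theorem card_sylow_eq_of_coprime [Finite G] (p : ℕ) [Fact p.Prime] (N : Subgroup G) [N.Normal]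
    (hN : (Nat.card N).Coprime p) (P : Sylow p G) (P' : Sylow p (G ⧸ N)) :
    Nat.card (P : Subgroup G) = Nat.card (P' : Subgroup (G ⧸ N)) := by
  have hp : p.Prime := Fact.out
  rw [Sylow.card_eq_multiplicity, Sylow.card_eq_multiplicity,
    Subgroup.card_eq_card_quotient_mul_card_subgroup N,
    Nat.factorization_mul Nat.card_pos.ne' Nat.card_pos.ne', Finsupp.add_apply,
    Nat.factorization_eq_zero_of_not_dvd ((Nat.Prime.coprime_iff_not_dvd hp).mp hN.symm),
    add_zero]

theorem card_sylow_eq_of_card_pow [Finite G] (p : ℕ) [Fact p.Prime] (N : Subgroup G) [N.Normal]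
    {m : ℕ} (hN : Nat.card N = p ^ m) (P : Sylow p G) (P' : Sylow p (G ⧸ N)) :
    Nat.card (P : Subgroup G) = Nat.card (P' : Subgroup (G ⧸ N)) * Nat.card N := by
  have hp : p.Prime := Fact.out
  rw [Sylow.card_eq_multiplicity, Sylow.card_eq_multiplicity,
    Subgroup.card_eq_card_quotient_mul_card_subgroup N,
    Nat.factorization_mul Nat.card_pos.ne' Nat.card_pos.ne', Finsupp.add_apply, hN,
    hp.factorization_pow, Finsupp.single_eq_same, pow_add]

/-! ### The formula -/

theorem one_mem_snSet (p : ℕ) (H : Subgroup G) (hH : IsPGroup p H) : (1 : G) ∈ snSet p H :=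
  ⟨H, le_rfl, hH, Subgroup.one_mem _⟩

/-- **Casolo's formula** along a normal series with `p`- and `p'`-factors. -/
theorem card_snSet_chain (p : ℕ) [Fact p.Prime] :
    ∀ (n : ℕ) (G : Type u) [Group G] [Finite G] (H : Subgroup G) (_ : IsPGroup p H)
      (P : Sylow p G) (M : Fin (n + 1) → Subgroup G) (_ : M 0 = ⊥) (_ : M (Fin.last n) = ⊤)
      (_ : Monotone M) (_ : ∀ i, (M i).Normal)
      (_ : ∀ i : Fin n, (∃ m : ℕ, (M i.castSucc).relIndex (M i.succ) = p ^ m) ∨
        ((M i.castSucc).relIndex (M i.succ)).Coprime p),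
      Nat.card (snSet p H) =
        Nat.card (P : Subgroup G) * ∏ i : Fin n, fac p H (M i.castSucc) (M i.succ) := by
  intro n
  induction n with
  | zero =>
    intro G _ _ H hH P M h0 hn _ _ _
    have hbt : (⊥ : Subgroup G) = ⊤ := by rw [← h0, ← hn]; rfl
    have hss : Subsingleton (Subgroup G) := subsingleton_of_bot_eq_top hbt
    have hsG : Subsingleton G := Subgroup.subsingleton_iff.mp hss
    have h1 : Nat.card (snSet p H) = 1 :=
      Nat.card_eq_one_iff_unique.mpr ⟨inferInstance, ⟨⟨1, one_mem_snSet p H hH⟩⟩⟩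
    have h2 : Nat.card (P : Subgroup G) = 1 :=
      Nat.card_eq_one_iff_unique.mpr ⟨inferInstance, ⟨1⟩⟩
    rw [h1, h2]
    simp
  | succ n ih =>
    intro G _ _ H hH P M h0 hn hmono hnormal hfac
    have hN : (M 1).Normal := hnormal 1
    let f : G →* G ⧸ M 1 := QuotientGroup.mk' (M 1)
    have hf : Function.Surjective f := QuotientGroup.mk'_surjective (M 1)
    have hker : f.ker = M 1 := QuotientGroup.ker_mk' (M 1)
    let M' : Fin (n + 1) → Subgroup (G ⧸ M 1) := fun i => (M i.succ).map f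
    have hle : ∀ i : Fin (n + 1), f.ker ≤ M i.succ := by
      intro i
      rw [hker]
      apply hmono
      rw [← Fin.succ_zero_eq_one]
      exact Fin.succ_le_succ_iff.mpr (Fin.zero_le i)
    have h0' : M' 0 = ⊥ := by
      show (M (Fin.succ 0)).map f = ⊥
      rw [Fin.succ_zero_eq_one]
      exact QuotientGroup.map_mk'_self (M 1)
    have hn' : M' (Fin.last n) = ⊤ := by
      show (M (Fin.last n).succ).map f = ⊤
      rw [Fin.succ_last, hn]
      exact Subgroup.map_top_of_surjective f hf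
    have hmono' : Monotone M' := by
      intro i j hij
      exact Subgroup.map_mono (hmono (Fin.succ_le_succ_iff.mpr hij))
    have hnormal' : ∀ i, (M' i).Normal := fun i => (hnormal i.succ).map f hf
    have hrel : ∀ i : Fin n, (M' i.castSucc).relIndex (M' i.succ) =
        (M i.succ.castSucc).relIndex (M i.succ.succ) := by
      intro i
      show ((M i.castSucc.succ).map f).relIndex ((M i.succ.succ).map f) = _
      rw [← Subgroup.relIndex_comap, Subgroup.comap_map_eq_self (hle _), Fin.succ_castSucc]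
    have hfac' : ∀ i : Fin n, (∃ m : ℕ, (M' i.castSucc).relIndex (M' i.succ) = p ^ m) ∨
        ((M' i.castSucc).relIndex (M' i.succ)).Coprime p := by
      intro i
      rw [hrel i]
      exact hfac i.succ
    obtain ⟨P'⟩ : Nonempty (Sylow p (G ⧸ M 1)) := inferInstance
    have hih := ih (G ⧸ M 1) (H.map f) (hH.map f) P' M' h0' hn' hmono' hnormal' hfac'
    have hprod : ∏ i : Fin n, fac p (H.map f) (M' i.castSucc) (M' i.succ) =
        ∏ i : Fin n, fac p H (M i.succ.castSucc) (M i.succ.succ) := by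
      apply Finset.prod_congr rfl
      intro i _
      show fac p (H.map f) ((M i.castSucc.succ).map f) ((M i.succ.succ).map f) = _
      rw [fac_map p f hf H (hle _) (hle _), Fin.succ_castSucc]
    rw [hprod] at hih
    rw [Fin.prod_univ_succ]
    have hcardN : (M (Fin.castSucc 0)).relIndex (M (Fin.succ 0)) = Nat.card (M 1) := by
      rw [Fin.castSucc_zero, Fin.succ_zero_eq_one, h0, Subgroup.relIndex_bot_left]
    by_cases hc : ((M (Fin.castSucc 0)).relIndex (M (Fin.succ 0))).Coprime p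
    · -- `M 1` is a `p'`-group
      have hkc : (Nat.card f.ker).Coprime p := by rw [hker, ← hcardN]; exact hc
      have hB := card_snSet_of_ker_coprime (p := p) (f := f) hf hkc hH
      have hfac0 : fac p H (M (Fin.castSucc 0)) (M (Fin.succ 0)) =
          Nat.card {u : G // u ∈ f.ker ∧ ∀ h ∈ H, h * u = u * h} := by
        unfold fac
        rw [if_pos hc, Fin.castSucc_zero, Fin.succ_zero_eq_one, h0, Subgroup.card_bot,
          Nat.div_one]
        apply Nat.card_congr
        apply Equiv.subtypeEquivRight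
        intro u
        rw [hker]
        apply and_congr Iff.rfl
        apply forall₂_congr
        intro h _
        rw [Subgroup.mem_bot, mul_inv_eq_one, mul_inv_eq_iff_eq_mul]
      have hP : Nat.card (P : Subgroup G) = Nat.card (P' : Subgroup (G ⧸ M 1)) :=
        card_sylow_eq_of_coprime p (M 1) (by rw [← hcardN]; exact hc) P P'
      rw [hB, hih, hfac0, hP]
      ring
    · -- `M 1` is a `p`-group
      obtain ⟨m, hm⟩ := (hfac 0).resolve_right hc
      rw [hcardN] at hm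
      have hkp : IsPGroup p f.ker := by rw [hker]; exact IsPGroup.of_card hm
      have hA := card_snSet_of_ker_isPGroup p f hf hkp H
      have hfac0 : fac p H (M (Fin.castSucc 0)) (M (Fin.succ 0)) = 1 := by
        unfold fac
        rw [if_neg hc]
      have hP : Nat.card (P : Subgroup G) =
          Nat.card (P' : Subgroup (G ⧸ M 1)) * Nat.card (M 1) :=
        card_sylow_eq_of_card_pow p (M 1) hm P P'
      rw [hA, hih, hfac0, hP, hker]
      ring

end Cfsg.Agent.Lib.Helper47_Casolo
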