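import Mathlib
import Cfsg.Prelude.Def_DegreeGraph
import Cfsg.Agent.Lib.Helper34_DG_Aff
import Cfsg.Agent.Lib.Helper51_Isaacs124
import Cfsg.Agent.Lib.Helper75_LinChar
import Cfsg.Agent.Lib.Helper79_CharVals

/-!
# Helper47_DG_HC (S3670 package DG-HC, helper47)

`Aff R = R ⋊ Rˣ` has an irreducible character of degree `|Rˣ|` as soon as `R` carries a primitive
additive character `ψ`: the linear character `ψ̃` of the translation subgroup `N = ker (Aff R → Rˣ)`
is moved by every element outside `N`, so it induces irreducibly.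
-/

set_option autoImplicit false

namespace Cfsg.Agent.Lib.Helper47_DG_HC

open Cfsg Cfsg.Agent.Lib.Helper34_DG_Aff

/-- the translation subgroup of `Aff R` -/
abbrev transl (R : Type) [CommRing R] : Subgroup (Aff R) :=
  (SemidirectProduct.rightHom : Aff R →* Rˣ).ker

theorem right_eq_one {R : Type} [CommRing R] (n : transl R) : n.1.right = 1 :=
  n.2

/-- the linear character of the translation subgroup attached to an additive character -/
noncomputable def translHom {R : Type} [CommRing R] (ψ : AddChar R ℂ) : transl R →* ℂ where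
  toFun n := ψ (Multiplicative.toAdd n.1.left)
  map_one' := by
    show ψ (Multiplicative.toAdd (1 : Aff R).left) = 1
    rw [SemidirectProduct.one_left, toAdd_one, AddChar.map_zero_eq_one]
  map_mul' n m := by
    show ψ (Multiplicative.toAdd (n.1 * m.1).left) = _
    rw [SemidirectProduct.mul_left, right_eq_one n, map_one, MulAut.one_apply, toAdd_mul,
      AddChar.map_add_eq_mul]

theorem index_transl {R : Type} [CommRing R] : (transl R).index = Nat.card Rˣ := by
  rw [Subgroup.index_ker]
  rw [MonoidHom.range_eq_top.mpr SemidirectProduct.rightHom_surjective]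
  exact Nat.card_congr Subgroup.topEquiv.toEquiv

theorem exists_irr_of_primitive {R : Type} [CommRing R] [Finite R] (ψ : AddChar R ℂ)
    (hψ : ψ.IsPrimitive) :
    ∃ χ : Cfsg.IrrCharacter (Aff R), Cfsg.charDegree (χ : Aff R → ℂ) = Nat.card Rˣ := by
  classical
  have : Fintype (Aff R) := Fintype.ofFinite _
  have : Fintype (transl R) := Fintype.ofFinite _
  let θ : IrrCharacter (transl R) :=
    ⟨fun n => translHom ψ n, (Helper75_LinChar.isLin_of_hom (translHom ψ)).irr⟩
  have hcon : ∀ g : Aff R, g ∉ transl R →
      Helper74_PQuot.cjIrr (transl R) g θ ≠ θ := by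
    intro g hg heq
    have hu : g.right ≠ 1 := hg
    have hu' : ((g.right⁻¹ : Rˣ) : R) - 1 ≠ 0 := by
      intro h
      apply hu
      have : ((g.right⁻¹ : Rˣ) : R) = ((1 : Rˣ) : R) := by
        rw [Units.val_one]; exact sub_eq_zero.mp h
      have h2 : g.right⁻¹ = 1 := Units.ext this
      exact inv_eq_one.mp h2
    have hne := hψ hu'
    apply hne
    ext a
    rw [AddChar.mulShift_apply, AddChar.one_apply]
    -- evaluate at the translation by `a`
    let n : transl R := ⟨SemidirectProduct.inl (Multiplicative.ofAdd a), by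
      show (SemidirectProduct.inl (Multiplicative.ofAdd a) : Aff R).right = 1
      exact SemidirectProduct.right_inl _⟩
    have h1 := congrFun (congrArg Subtype.val heq) n
    rw [Helper74_PQuot.cjIrr_apply] at h1
    have h2 : (θ : transl R → ℂ) n = ψ a := by
      show ψ (Multiplicative.toAdd (SemidirectProduct.inl (Multiplicative.ofAdd a) : Aff R).left)
        = ψ a
      rw [SemidirectProduct.left_inl, toAdd_ofAdd]
    have h3 : (θ : transl R → ℂ) ⟨g⁻¹ * (n : Aff R) * g⁻¹⁻¹,
        (inferInstance : (transl R).Normal).conj_mem n n.2 g⁻¹⟩ =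
        ψ (((g.right⁻¹ : Rˣ) : R) * a) := by
      show ψ (Multiplicative.toAdd
        (g⁻¹ * (SemidirectProduct.inl (Multiplicative.ofAdd a) : Aff R) * g⁻¹⁻¹).left) = _
      congr 1
      rw [inv_inv]
      simp only [SemidirectProduct.mul_left, SemidirectProduct.mul_right,
        SemidirectProduct.inv_left, SemidirectProduct.inv_right, SemidirectProduct.left_inl,
        SemidirectProduct.right_inl, mul_one]
      rw [unitsAct_apply]
      rw [toAdd_mul, toAdd_mul, toAdd_ofAdd]
      have h4 : ∀ (u : Rˣ) (x : Multiplicative R),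
          Multiplicative.toAdd (unitsAct R u x) = (u : R) * Multiplicative.toAdd x := by
        intro u x; rfl
      rw [h4, h4, toAdd_inv]
      ring
    rw [h2, h3] at h1
    rw [sub_mul, one_mul, sub_eq_add_neg, AddChar.map_add_eq_mul, AddChar.map_neg_eq_inv, h1]
    have h5 : ψ a ≠ 0 := by
      have h6 : ψ a * ψ (-a) = 1 := by
        rw [← AddChar.map_add_eq_mul, add_neg_cancel, AddChar.map_zero_eq_one]
      exact left_ne_zero_of_mul_eq_one h6
    exact mul_inv_cancel₀ h5
  have hirr := Helper51_Isaacs124.isIrr_indFun_of_no_fix (transl R) θ hcon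
  refine ⟨⟨indFun (transl R) (θ : transl R → ℂ), hirr⟩, ?_⟩
  apply Helper79_CharVals.charDegree_of_eq_natCast
  show indFun (transl R) (θ : transl R → ℂ) 1 = _
  rw [Helper51_Isaacs124.indFun_degree (transl R) θ, index_transl]
  have h7 : (θ : transl R → ℂ) 1 = 1 := map_one (translHom ψ)
  rw [h7, mul_one]

end Cfsg.Agent.Lib.Helper47_DG_HC
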