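import Mathlib
import Cfsg.Agent.Lib.Helper46_SzInv

/-!
# Helper47_Fpf_SZREAL (S2863 package SZ-REAL, helper47)

In `Cfsg.Sz F m` (`m ≥ 1`) every element of odd prime order is inverted by an involution:
an element with a fixed point on the ovoid fixes two points and is conjugate into the torus `hQ t`,
which is inverted by `wQ`; a fixed-point-free element lies in a torus of index `4` in its
normalizer, and an involution of the normalizer inverts the torus.
-/

set_option autoImplicit false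
open Cfsg

namespace Cfsg.Agent.Lib.Helper47_Fpf_SZREAL

open Cfsg.Agent.Helper37Sz Cfsg.Agent.Lib.Helper6_SzTori Cfsg.Agent.Lib.Helper6_SzToriClass
  Cfsg.Agent.Lib.Helper6_SzToriCount

variable {F : Type*} [Field F] [Fintype F] {m : ℕ}

/-- an involution normalizing the torus of a fixed-point-free element inverts the torus -/
theorem inverts_torus (hm : 1 ≤ m) (hF : Fintype.card F = 2 ^ (2 * m + 1))
    {g : Cfsg.Sz F m} (hg : Fpf g) {j : Cfsg.Sz F m} (hjj : j * j = 1) (hj1 : j ≠ 1)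
    (hjN : ∀ c, c ∈ torus g → j * c * j⁻¹ ∈ torus g) {x : Cfsg.Sz F m} (hxT : x ∈ torus g) :
    j * x * j⁻¹ = x⁻¹ := by
  have hjo : orderOf j = 2 := orderOf_eq_prime (by rw [pow_two]; exact hjj) hj1
  have hTodd : ¬ 2 ∣ Nat.card (torus g) := by
    intro h
    exact card_sq_add_one_odd hF (dvd_trans h (card_torus_dvd hm hF hg))
  have hjinv : j⁻¹ = j := inv_eq_of_mul_eq_one_left hjj
  have hfpf : ∀ c, c ∈ torus g → j * c * j⁻¹ = c → c = 1 := by
    intro c hc hcj
    by_contra hc1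
    have hjc : j ∈ torus c := by
      rw [mem_torus_iff]
      have : j * c = c * j := by
        have := congrArg (fun z => z * j) hcj
        simpa [mul_assoc] using this
      exact this
    rw [torus_eq hm hF hg hc hc1] at hjc
    have h3 : orderOf (⟨j, hjc⟩ : torus g) ∣ Nat.card (torus g) := orderOf_dvd_natCard _
    rw [Subgroup.orderOf_mk, hjo] at h3
    exact hTodd h3
  have hw : x * (j * x * j⁻¹) ∈ torus g := (torus g).mul_mem hxT (hjN x hxT)
  have hfix : j * (x * (j * x * j⁻¹)) * j⁻¹ = x * (j * x * j⁻¹) := by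
    have h3 : j * (x * (j * x * j⁻¹)) * j⁻¹ = (j * x * j⁻¹) * x := by
      rw [hjinv]
      calc j * (x * (j * x * j)) * j = j * x * j * x * (j * j) := by group
        _ = j * x * j * x := by rw [hjj, mul_one]
    rw [h3]
    exact torus_comm hm hF hg (hjN x hxT) hxT
  have h4 := hfpf _ hw hfix
  exact (eq_inv_of_mul_eq_one_right h4)

theorem sz_real {F : Type*} [Field F] [Fintype F] {m : ℕ} (hm : 1 ≤ m)
    (hF : Fintype.card F = 2 ^ (2 * m + 1)) (g : Cfsg.Sz F m) (hg : (orderOf g).Prime)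
    (hg2 : orderOf g ≠ 2) : ∃ t : Cfsg.Sz F m, t ≠ 1 ∧ t * t = 1 ∧ t * g * t⁻¹ = g⁻¹ := by
  classical
  have h2 : (2 : F) = 0 := two_eq_zero_of_card hF
  have hSdef : ∀ z, (sgHom F m h2) z = z ^ 2 ^ (m + 1) := fun z => sgHom_apply m h2 z
  have hS : ∀ z, (sgHom F m h2) ((sgHom F m h2) z) = z ^ 2 := fun z => sgHom_sgHom hF h2 z
  by_cases hfp : Fpf g
  · -- fixed-point-free case
    obtain ⟨g₁, g₂, hg₁, hg₂, -, -, hn₁, hn₂, hall⟩ := tori_classification hm hF
    obtain ⟨g₀, hg₀, hN, hY⟩ : ∃ g₀ : Cfsg.Sz F m, Fpf g₀ ∧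
        Nat.card (Subgroup.normalizer (torus g₀ : Set (Cfsg.Sz F m))) = 4 * Nat.card (torus g₀) ∧
        InY g₀ g := by
      rcases hall g hfp with h | h
      · exact ⟨g₁, hg₁, hn₁, h⟩
      · exact ⟨g₂, hg₂, hn₂, h⟩
    obtain ⟨-, k, hk⟩ := hY
    have : Fact (Nat.Prime 2) := ⟨Nat.prime_two⟩
    have h2N : 2 ∣ Nat.card (Subgroup.normalizer (torus g₀ : Set (Cfsg.Sz F m))) := by
      rw [hN]; exact dvd_mul_of_dvd_left (by norm_num) _
    obtain ⟨j', hj'⟩ := exists_prime_orderOf_dvd_card' 2 h2N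
    set j : Cfsg.Sz F m := (j' : Cfsg.Sz F m) with hj
    have hjo : orderOf j = 2 := by rw [hj, Subgroup.orderOf_coe]; exact hj'
    have hjj : j * j = 1 := by
      rw [← pow_two, ← hjo]; exact pow_orderOf_eq_one j
    have hj1 : j ≠ 1 := by
      intro h
      rw [h, orderOf_one] at hjo
      omega
    have hjN : ∀ c, c ∈ torus g₀ → j * c * j⁻¹ ∈ torus g₀ := by
      intro c hc
      exact (Subgroup.mem_normalizer_iff.mp j'.2 c).mp hc
    have hinv := inverts_torus hm hF hg₀ hjj hj1 hjN hk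
    refine ⟨k * j * k⁻¹, ?_, ?_, ?_⟩
    · intro h
      apply hj1
      have e : j = k⁻¹ * (k * j * k⁻¹) * k := by group
      rw [e, h]; group
    · calc k * j * k⁻¹ * (k * j * k⁻¹) = k * (j * j) * k⁻¹ := by group
        _ = 1 := by rw [hjj]; group
    · calc k * j * k⁻¹ * g * (k * j * k⁻¹)⁻¹ = k * (j * (k⁻¹ * g * k) * j⁻¹) * k⁻¹ := by group
        _ = k * (k⁻¹ * g * k)⁻¹ * k⁻¹ := by rw [hinv]
        _ = g⁻¹ := by group
  · -- `g` has a fixed point, hence two
    unfold Fpf at hfp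
    push Not at hfp
    obtain ⟨a, ha⟩ := hfp
    have hr := hg
    set r := orderOf g with hrdef
    have hgr : g ^ r = 1 := pow_orderOf_eq_one g
    have hcard := Cfsg.Agent.Lib.Helper6_SzCent.card_fixed_modEq (F := F) (m := m) hr g hgr
    have : Finite (Cfsg.suzukiOvoid F m) := (Set.toFinite _).to_subtype
    have hex : ∃ b : Cfsg.suzukiOvoid F m, g • b = b ∧ b ≠ a := by
      by_contra hcon
      push Not at hcon
      have h1 : Nat.card {c : Cfsg.suzukiOvoid F m // g • c = c} = 1 := by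
        rw [Nat.card_eq_one_iff_unique]
        refine ⟨⟨?_⟩, ⟨⟨a, ha⟩⟩⟩
        rintro ⟨c, hc⟩ ⟨c', hc'⟩
        apply Subtype.ext
        show c = c'
        rw [hcon c hc, hcon c' hc']
      rw [h1] at hcard
      have h3 : r ∣ Fintype.card F ^ 2 := by
        have := (Nat.modEq_iff_dvd' (by omega : 1 ≤ Fintype.card F ^ 2 + 1)).mp hcard.symm
        simpa using this
      have h4 : r ∣ 2 := by
        rw [hF, ← pow_mul] at h3
        exact hr.dvd_of_dvd_pow h3
      have h5 : r = 2 := (Nat.prime_dvd_prime_iff_eq hr Nat.prime_two).mp h4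
      exact hg2 h5
    obtain ⟨b, hb, hba⟩ := hex
    obtain ⟨k, hka, hkb⟩ := exists_smul_pair h2 hS hSdef (Ne.symm hba)
    have hx1 : (k * g * k⁻¹) • ptInf F m = ptInf F m := by
      rw [← hka, mul_smul, mul_smul, inv_smul_smul, ha]
    have hx0 : (k * g * k⁻¹) • ptAff hSdef 0 0 = ptAff hSdef 0 0 := by
      rw [← hkb, mul_smul, mul_smul, inv_smul_smul, hb]
    obtain ⟨t, ht⟩ := fix_two_eq_hQ hm hF h2 hS hSdef hx1 hx0
    set w : Cfsg.Sz F m := wQ h2 hS hSdef with hw
    have hww : w * w = 1 := Cfsg.Agent.Lib.Helper6_SzCent.wQ_mul_self h2 hS hSdef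
    have hwinv : w⁻¹ = w := inv_eq_of_mul_eq_one_left hww
    have hw1 : w ≠ 1 := by
      intro h
      have h3 := wQ_smul_ptInf (m := m) h2 hS hSdef
      rw [← hw, h, one_smul] at h3
      exact ptAff_ne_ptInf hSdef 0 0 h3.symm
    have hinv : w * (k * g * k⁻¹) * w⁻¹ = (k * g * k⁻¹)⁻¹ := by
      rw [ht, hwinv, Cfsg.Agent.Lib.Helper6_SzCent.wQ_mul_hQ_mul_wQ,
        Cfsg.Agent.Lib.Helper6_SzCent.hQ_inv]
    refine ⟨k⁻¹ * w * k, ?_, ?_, ?_⟩
    · intro h
      apply hw1
      have e : w = k * (k⁻¹ * w * k) * k⁻¹ := by group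
      rw [e, h]; group
    · calc k⁻¹ * w * k * (k⁻¹ * w * k) = k⁻¹ * (w * w) * k := by group
        _ = 1 := by rw [hww]; group
    · calc k⁻¹ * w * k * g * (k⁻¹ * w * k)⁻¹ = k⁻¹ * (w * (k * g * k⁻¹) * w⁻¹) * k := by group
        _ = k⁻¹ * (k * g * k⁻¹)⁻¹ * k := by rw [hinv]
        _ = g⁻¹ := by group

end Cfsg.Agent.Lib.Helper47_Fpf_SZREAL
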