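import Mathlib
import Cfsg.Agent.Lib.Helper46_SzInv

/-!
# Helper47_Fpf_SZSEMI (S2863 package SZ-SEMI, helper47)

In `Cfsg.Sz F m` (`m ≥ 1`, `|F| = q = 2^(2m+1)`) let `P` be elementary abelian of order `q`.  Then
`P` is a conjugate `g Z g⁻¹` of the centre `Z = {uQ 0 b}` of the standard Sylow 2-subgroup, every
non-identity element of `P` fixes exactly the point `g • ∞` of the ovoid, and the stabiliser of that
point normalizes `P`.  Hence if `x ∉ N(P)` no non-identity `t ∈ P` normalizes `x P x⁻¹`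
(`t` would fix the unique fixed point `x g • ∞` of `x P x⁻¹`, forcing `x g • ∞ = g • ∞`).
-/

set_option autoImplicit false
open Cfsg

namespace Cfsg.Agent.Lib.Helper47_Fpf_SZSEMI

open Cfsg.Agent.Helper37Sz Cfsg.Agent.Lib.Helper6_SzCent

section Aux

variable {F : Type*} [Field F] [Fintype F] {S : F →+* F} {m : ℕ}

/-- a conjugate of a central involution of `Q` fixes exactly one point -/
theorem fix_conj (h2 : (2 : F) = 0) (hS : ∀ z, S (S z) = z ^ 2)
    (hSdef : ∀ z, S z = z ^ 2 ^ (m + 1)) (g : Cfsg.Sz F m) {b : F} (hb : b ≠ 0)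
    (p : Cfsg.suzukiOvoid F m) (hp : (g * uQ h2 hS hSdef 0 b * g⁻¹) • p = p) :
    p = g • ptInf F m := by
  have h1 : uQ h2 hS hSdef 0 b • (g⁻¹ • p) = g⁻¹ • p := by
    calc uQ h2 hS hSdef 0 b • (g⁻¹ • p)
        = g⁻¹ • ((g * uQ h2 hS hSdef 0 b * g⁻¹) • p) := by
          simp only [mul_smul, inv_smul_smul]
      _ = g⁻¹ • p := by rw [hp]
  have h4 := uQ_zero_fix h2 hS hSdef hb _ h1
  rw [← h4, smul_inv_smul]

/-- a conjugate of a central involution of `Q` does fix its point -/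
theorem conj_fixes (h2 : (2 : F) = 0) (hS : ∀ z, S (S z) = z ^ 2)
    (hSdef : ∀ z, S z = z ^ 2 ^ (m + 1)) (g : Cfsg.Sz F m) (b : F) :
    (g * uQ h2 hS hSdef 0 b * g⁻¹) • (g • ptInf F m) = g • ptInf F m := by
  simp only [mul_smul, inv_smul_smul, uQ_smul_ptInf]

/-- the stabiliser of `∞` normalizes the centre of `Q` -/
theorem stab_normalizes (hm : 1 ≤ m) (hF : Fintype.card F = 2 ^ (2 * m + 1)) (h2 : (2 : F) = 0)
    (hS : ∀ z, S (S z) = z ^ 2) (hSdef : ∀ z, S z = z ^ 2 ^ (m + 1)) {n : Cfsg.Sz F m}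
    (hn : n • ptInf F m = ptInf F m) (c : F) :
    ∃ c' : F, n * uQ h2 hS hSdef 0 c * n⁻¹ = uQ h2 hS hSdef 0 c' := by
  obtain ⟨a, b, s, rfl⟩ := stab_inf hm hF h2 hS hSdef hn
  refine ⟨S (s : F) ^ 2 * (s : F) ^ 2 * c, ?_⟩
  have e1 : uQ h2 hS hSdef a b * hQ hS hSdef s * uQ h2 hS hSdef 0 c
      = uQ h2 hS hSdef 0 (S (s : F) ^ 2 * (s : F) ^ 2 * c) * (uQ h2 hS hSdef a b * hQ hS hSdef s) := by
    rw [mul_assoc, hQ_mul_uQ h2 hS hSdef s 0 c, mul_zero, ← mul_assoc, ← mul_assoc, uQ_mul, uQ_mul]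
    congr 2
    · rw [add_zero, zero_add]
    · rw [map_zero, zero_mul, mul_zero]; ring
  rw [e1, mul_assoc, mul_inv_cancel, mul_one]

/-- an involution (or `1`) fixing `∞` lies in the centre of `Q` -/
theorem inv_fix_inf (hm : 1 ≤ m) (hF : Fintype.card F = 2 ^ (2 * m + 1)) (h2 : (2 : F) = 0)
    (hS : ∀ z, S (S z) = z ^ 2) (hSdef : ∀ z, S z = z ^ 2 ^ (m + 1)) {i : Cfsg.Sz F m}
    (hi : i * i = 1) (hfix : i • ptInf F m = ptInf F m) :
    ∃ b : F, i = uQ h2 hS hSdef 0 b := by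
  obtain ⟨g, b, hib⟩ := involution_conj hm hF h2 hS hSdef hi
  by_cases hb : b = 0
  · refine ⟨0, ?_⟩
    rw [hib, hb, uQ_zero]; group
  · have h1 : ptInf F m = g • ptInf F m := by
      apply fix_conj h2 hS hSdef g hb
      rw [← hib]; exact hfix
    obtain ⟨c', hc'⟩ := stab_normalizes hm hF h2 hS hSdef h1.symm b
    exact ⟨c', by rw [hib, hc']⟩

end Aux

theorem sz_semi {F : Type*} [Field F] [Fintype F] {m : ℕ} (hm : 1 ≤ m)
    (hF : Fintype.card F = 2 ^ (2 * m + 1)) (P : Subgroup (Cfsg.Sz F m))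
    (hPc : ∀ y ∈ P, ∀ z ∈ P, y * z = z * y) (hPe : ∀ y ∈ P, y ^ 2 = 1)
    (hPq : Nat.card P = 2 ^ (2 * m + 1)) (x : Cfsg.Sz F m)
    (hx : x ∉ Subgroup.normalizer (P : Set (Cfsg.Sz F m))) (t : Cfsg.Sz F m) (ht : t ∈ P)
    (ht1 : t ≠ 1) :
    t ∉ Subgroup.normalizer
      ((P.map (MulAut.conj x).toMonoidHom : Subgroup (Cfsg.Sz F m)) : Set (Cfsg.Sz F m)) := by
  classical
  have h2 : (2 : F) = 0 := two_eq_zero_of_card hF
  have hSdef : ∀ z, (sgHom F m h2) z = z ^ 2 ^ (m + 1) := fun z => sgHom_apply m h2 z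
  have hS : ∀ z, (sgHom F m h2) ((sgHom F m h2) z) = z ^ 2 := fun z => sgHom_sgHom hF h2 z
  intro htN
  have htt : t * t = 1 := by rw [← pow_two]; exact hPe t ht
  obtain ⟨g, b, htb⟩ := involution_conj hm hF h2 hS hSdef htt
  have hb : b ≠ 0 := by
    rintro rfl
    apply ht1
    rw [htb, uQ_zero]; group
  -- every element of `P` is `g * uQ 0 c * g⁻¹`
  have hPsub : ∀ y ∈ P, ∃ c : F, y = g * uQ h2 hS hSdef 0 c * g⁻¹ := by
    intro y hy
    have hyfix : y • (g • ptInf F m) = g • ptInf F m := by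
      apply fix_conj h2 hS hSdef g hb
      rw [← htb, ← mul_smul, ← hPc y hy t ht, mul_smul]
      congr 1
      rw [htb]
      exact conj_fixes h2 hS hSdef g b
    have hyy : y * y = 1 := by rw [← pow_two]; exact hPe y hy
    have h1 : (g⁻¹ * y * g) * (g⁻¹ * y * g) = 1 := by
      have : (g⁻¹ * y * g) * (g⁻¹ * y * g) = g⁻¹ * (y * y) * g := by group
      rw [this, hyy]; group
    have h3 : (g⁻¹ * y * g) • ptInf F m = ptInf F m := by
      rw [mul_smul, mul_smul, hyfix, inv_smul_smul]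
    obtain ⟨c, hc⟩ := inv_fix_inf hm hF h2 hS hSdef h1 h3
    refine ⟨c, ?_⟩
    rw [← hc]; group
  -- conversely every `g * uQ 0 c * g⁻¹` lies in `P`, by counting
  let f : F → Cfsg.Sz F m := fun c => g * uQ h2 hS hSdef 0 c * g⁻¹
  have hfinj : Function.Injective f := by
    intro c c' hcc
    have h1 : uQ h2 hS hSdef 0 c = uQ (m := m) h2 hS hSdef 0 c' := by
      have := congrArg (fun z => g⁻¹ * z * g) hcc
      simp only [f] at this
      have e : ∀ u : Cfsg.Sz F m, g⁻¹ * (g * u * g⁻¹) * g = u := fun u => by group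
      rw [e, e] at this
      exact this
    exact (uQ_inj h2 hS hSdef h1).2
  have hsub : (P : Set (Cfsg.Sz F m)) ⊆ Set.range f := by
    intro y hy
    obtain ⟨c, hc⟩ := hPsub y hy
    exact ⟨c, hc.symm⟩
  have hcard : (Set.range f).ncard ≤ (P : Set (Cfsg.Sz F m)).ncard := by
    rw [Set.ncard_range_of_injective hfinj, Nat.card_eq_fintype_card, hF]
    have : (P : Set (Cfsg.Sz F m)).ncard = Nat.card P := rfl
    rw [this, hPq]
  have hPeq : (P : Set (Cfsg.Sz F m)) = Set.range f :=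
    Set.eq_of_subset_of_ncard_le hsub hcard (Set.toFinite _)
  have hPmem : ∀ c : F, g * uQ h2 hS hSdef 0 c * g⁻¹ ∈ P := by
    intro c
    have : f c ∈ (P : Set (Cfsg.Sz F m)) := by rw [hPeq]; exact ⟨c, rfl⟩
    exact this
  -- the element `s = x * (g * uQ 0 1 * g⁻¹) * x⁻¹` of `x P x⁻¹`
  set s : Cfsg.Sz F m := x * (g * uQ h2 hS hSdef 0 1 * g⁻¹) * x⁻¹ with hs
  have hsmem : s ∈ P.map (MulAut.conj x).toMonoidHom := by
    rw [Subgroup.mem_map]
    exact ⟨_, hPmem 1, rfl⟩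
  have hts : t * s * t⁻¹ ∈ P.map (MulAut.conj x).toMonoidHom :=
    (Subgroup.mem_normalizer_iff.mp htN s).mp hsmem
  rw [Subgroup.mem_map] at hts
  obtain ⟨y, hyP, hy⟩ := hts
  obtain ⟨c, hc⟩ := hPsub y hyP
  have hy' : x * y * x⁻¹ = t * s * t⁻¹ := hy
  have hc0 : c ≠ 0 := by
    rintro rfl
    rw [uQ_zero] at hc
    have hy1 : y = 1 := by rw [hc]; group
    rw [hy1] at hy'
    have hs1 : s = 1 := by
      have h5 : t * s * t⁻¹ = 1 := by rw [← hy']; group
      have h6 : s = t⁻¹ * (t * s * t⁻¹) * t := by group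
      rw [h6, h5]; group
    rw [hs] at hs1
    have h7 : uQ (m := m) h2 hS hSdef 0 1 = 1 := by
      have h8 : uQ (m := m) h2 hS hSdef 0 1
          = g⁻¹ * (x⁻¹ * (x * (g * uQ h2 hS hSdef 0 1 * g⁻¹) * x⁻¹) * x) * g := by group
      rw [h8, hs1]; group
    rw [← uQ_zero h2 hS hSdef] at h7
    exact one_ne_zero (uQ_inj h2 hS hSdef h7).2
  -- `t * s * t⁻¹` fixes only `(t * x * g) • ∞`, and it fixes `(x * g) • ∞`
  have e1 : t * s * t⁻¹ = (t * x * g) * uQ h2 hS hSdef 0 1 * (t * x * g)⁻¹ := by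
    rw [hs]; group
  have e2 : t * s * t⁻¹ = (x * g) * uQ h2 hS hSdef 0 c * (x * g)⁻¹ := by
    rw [← hy', hc]; group
  have h9 : (x * g) • ptInf F m = (t * x * g) • ptInf F m := by
    apply fix_conj h2 hS hSdef (t * x * g) one_ne_zero
    rw [← e1, e2]
    exact conj_fixes h2 hS hSdef (x * g) c
  -- so `t` fixes `(x * g) • ∞`, which must be `g • ∞`
  have h10 : (x * g) • ptInf F m = g • ptInf F m := by
    apply fix_conj h2 hS hSdef g hb
    rw [← htb]
    conv_rhs => rw [h9]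
    rw [← mul_smul, ← mul_assoc]
  have hn : (g⁻¹ * x * g) • ptInf F m = ptInf F m := by
    rw [mul_assoc, mul_smul, h10, inv_smul_smul]
  have hn' : (g⁻¹ * x * g)⁻¹ • ptInf F m = ptInf F m := by
    rw [inv_smul_eq_iff, hn]
  -- hence `x` normalizes `P`
  apply hx
  rw [Subgroup.mem_normalizer_iff]
  intro h
  constructor
  · intro hh
    obtain ⟨d, hd⟩ := hPsub h hh
    obtain ⟨d', hd'⟩ := stab_normalizes hm hF h2 hS hSdef hn d
    have : x * h * x⁻¹ = g * uQ h2 hS hSdef 0 d' * g⁻¹ := by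
      rw [← hd', hd]; group
    rw [this]
    exact hPmem d'
  · intro hh
    obtain ⟨d, hd⟩ := hPsub _ hh
    obtain ⟨d', hd'⟩ := stab_normalizes hm hF h2 hS hSdef hn' d
    have : h = g * uQ h2 hS hSdef 0 d' * g⁻¹ := by
      rw [← hd']
      have e3 : h = x⁻¹ * (x * h * x⁻¹) * x := by group
      rw [e3, hd]; group
    rw [this]
    exact hPmem d'

end Cfsg.Agent.Lib.Helper47_Fpf_SZSEMI
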