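import Cfsg.Agent.Lib.Helper47_TL
import Cfsg.Agent.Lib.Helper47_PClosed
import Cfsg.Agent.Lib.Helper47_Conj

set_option autoImplicit false

namespace Cfsg.Agent.Lib.Helper47_YMin

open Cfsg
open Cfsg.Agent.Lib.Helper47_PLocal Cfsg.Agent.Lib.Helper47_SubAPI Cfsg.Agent.Lib.Helper47_Conj
  Cfsg.Agent.Lib.Helper47_PClosed Cfsg.Agent.Lib.Helper47_YL Cfsg.Agent.Lib.Helper47_TL
open scoped commutatorElement Pointwise

variable {G : Type*} [Group G] {p : ℕ}

/-- A Sylow `p`-subgroup `T` of the subgroup `M` meets a subgroup `C ≤ M` normalized by `M`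
in a Sylow `p`-subgroup of `C`. -/
theorem exists_sylow_eq_inf_subgroupOf_of_le [Finite G] [Fact p.Prime] (M : Subgroup G)
    (T : Sylow p ↥M) (C : Subgroup G) (hCM : C ≤ M) (hMC : M ≤ Subgroup.normalizer (C : Set G)) :
    ∃ P : Sylow p ↥C, (P : Subgroup ↥C) = ((T : Subgroup ↥M).map M.subtype ⊓ C).subgroupOf C := by
  have hn : (C.subgroupOf M).Normal := (Subgroup.normal_subgroupOf_iff_le_normalizer hCM).mpr hMC
  have h := Cfsg.Agent.Lib.Helper32_Sylow.not_dvd_relIndex_inf_normal T (C.subgroupOf M)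
  have h2 : (T : Subgroup ↥M) ⊓ C.subgroupOf M =
      ((T : Subgroup ↥M).map M.subtype ⊓ C).subgroupOf M := by
    ext x
    simp only [Subgroup.mem_inf, Subgroup.mem_subgroupOf, Subgroup.mem_map, Subgroup.subtype_apply]
    constructor
    · rintro ⟨h1, h2⟩; exact ⟨⟨x, h1, rfl⟩, h2⟩
    · rintro ⟨⟨y, hy, hyx⟩, h2⟩
      have : y = x := Subtype.ext hyx
      exact ⟨this ▸ hy, h2⟩
  rw [h2, Subgroup.relIndex_subgroupOf hCM] at h
  have hp : IsPGroup p (((T : Subgroup ↥M).map M.subtype ⊓ C).subgroupOf C) :=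
    ((T.isPGroup'.map M.subtype).to_le inf_le_left).comap_subtype
  exact ⟨IsPGroup.toSylow hp h, IsPGroup.toSylow_coe _ _⟩

/-- A subgroup of index prime to `p` contains a conjugate of every `p`-subgroup. -/
theorem exists_le_map_conj_of_not_dvd_index [Finite G] [Fact p.Prime] {M Y : Subgroup G}
    (hM : ¬ p ∣ M.index) (hY : IsPGroup p Y) :
    ∃ g : G, Y ≤ M.map (MulAut.conj g).toMonoidHom := by
  obtain ⟨S, hYS⟩ := hY.exists_le_sylow
  obtain ⟨P⟩ : Nonempty (Sylow p ↥M) := inferInstance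
  have hP' : IsPGroup p ((P : Subgroup ↥M).map M.subtype) := P.isPGroup'.map _
  have hidx : ¬ p ∣ ((P : Subgroup ↥M).map M.subtype).index := by
    rw [← Subgroup.relIndex_mul_index (Subgroup.map_subtype_le (P : Subgroup ↥M))]
    have h1 : ((P : Subgroup ↥M).map M.subtype).relIndex M = (P : Subgroup ↥M).index := by
      rw [Subgroup.relIndex, Subgroup.subgroupOf,
        Subgroup.comap_map_eq_self_of_injective M.subtype_injective]
    rw [h1]
    intro h
    rcases (Nat.Prime.dvd_mul Fact.out).mp h with h | h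
    · exact P.not_dvd_index h
    · exact hM h
  obtain ⟨g, hg⟩ := MulAction.exists_smul_eq G (IsPGroup.toSylow hP' hidx) S
  refine ⟨g, hYS.trans ?_⟩
  rw [← hg, sylow_smul_eq_map_conj, IsPGroup.toSylow_coe]
  exact Subgroup.map_mono (Subgroup.map_subtype_le _)

/-- A group with a normal Sylow `p`-subgroup is `p`-closed. -/
theorem isPClosed_of_normal_sylow [Finite G] [Fact p.Prime] (P : Sylow p G)
    (hP : (P : Subgroup G).Normal) : Cfsg.IsPClosed p G := by
  intro P'
  obtain ⟨g, rfl⟩ := MulAction.exists_smul_eq G P P'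
  rw [Sylow.smul_eq_of_normal]
  exact hP

end Cfsg.Agent.Lib.Helper47_YMin
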