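import Cfsg.Agent.Lib.Helper47_PxQ
import Cfsg.Agent.Lib.Helper47_Avg
import Cfsg.Agent.Lib.Helper10_Thompson

set_option autoImplicit false

namespace Cfsg.Agent.Lib.Helper47_YSubn

open Cfsg
open Cfsg.Agent.Lib.Helper47_PLocal Cfsg.Agent.Lib.Helper47_SubAPI Cfsg.Agent.Lib.Helper47_PReduced
  Cfsg.Agent.Lib.Helper47_PClosed Cfsg.Agent.Lib.Helper47_Subn Cfsg.Agent.Lib.Helper47_Large2
  Cfsg.Agent.Lib.Helper47_PxQ Cfsg.Agent.Lib.Helper47_Conj Cfsg.Agent.Lib.Helper47_WeaklyClosed
open scoped commutatorElement Pointwise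

variable {G : Type*} [Group G] {p : ℕ}

/-! ### `PRedIn` and conjugation -/

theorem PRedIn.map_conj {L V : Subgroup G} (hV : PRedIn p L V) (g : G) :
    PRedIn p (L.map (MulAut.conj g).toMonoidHom) (V.map (MulAut.conj g).toMonoidHom) := by
  obtain ⟨hVL, hLV, hel, hred⟩ := hV
  refine ⟨Subgroup.map_mono hVL, ?_, Cfsg.Agent.Lib.Helper10_Thompson.ea_map hel _, ?_⟩
  · rw [normalizer_map_conj]; exact Subgroup.map_mono hLV
  · intro D hDL hLD hDp
    have h1 : D.map (MulAut.conj g⁻¹).toMonoidHom ≤ L := (le_map_conj_iff g D L).mp hDL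
    have h2 : L ≤ Subgroup.normalizer
        ((D.map (MulAut.conj g⁻¹).toMonoidHom : Subgroup G) : Set G) := by
      rw [normalizer_map_conj, le_map_conj_iff, inv_inv]; exact hLD
    have h3 : ∀ d ∈ D.map (MulAut.conj g⁻¹).toMonoidHom, ∃ k : ℕ,
        d ^ (p ^ k) ∈ Subgroup.centralizer (V : Set G) := by
      rintro _ ⟨d, hd, rfl⟩
      obtain ⟨k, hk⟩ := hDp d hd
      refine ⟨k, ?_⟩
      rw [Cfsg.Agent.Lib.Helper47_Large.centralizer_map_conj] at hk
      have h4 := Subgroup.mem_map_of_mem (MulAut.conj g⁻¹).toMonoidHom hk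
      rw [map_conj_inv_map_conj] at h4
      rwa [map_pow] at h4
    have h5 := hred _ h1 h2 h3
    rw [Cfsg.Agent.Lib.Helper47_Large.centralizer_map_conj, le_map_conj_iff]
    exact h5

theorem map_conj_largestPReducedOf (g : G) (L : Subgroup G) :
    (Cfsg.largestPReducedOf p L).map (MulAut.conj g).toMonoidHom =
      Cfsg.largestPReducedOf p (L.map (MulAut.conj g).toMonoidHom) := by
  have key : ∀ (g : G) (L : Subgroup G),
      (Cfsg.largestPReducedOf p L).map (MulAut.conj g).toMonoidHom ≤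
        Cfsg.largestPReducedOf p (L.map (MulAut.conj g).toMonoidHom) := fun g L =>
    (PRedIn.map_conj (pRedIn_largestPReducedOf p L) g).le_largestPReducedOf
  apply le_antisymm (key g L)
  have h1 := key g⁻¹ (L.map (MulAut.conj g).toMonoidHom)
  rw [map_conj_inv_map_conj] at h1
  rw [le_map_conj_iff]
  exact h1

theorem normalizer_le_normalizer_largestPReducedOf (L : Subgroup G) :
    Subgroup.normalizer (L : Set G) ≤
      Subgroup.normalizer ((Cfsg.largestPReducedOf p L : Subgroup G) : Set G) := by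
  intro g hg
  rw [mem_normalizer_iff_map_conj_eq'] at hg ⊢
  rw [map_conj_largestPReducedOf, hg]

/-! ### `PRedIn p ⊤` -/

theorem pRedIn_top_iff {V : Subgroup G} : PRedIn p ⊤ V ↔ Cfsg.IsPReducedNormal p V := by
  rw [isPReducedNormal_iff]
  constructor
  · rintro ⟨_, h2, h3, h4⟩
    refine ⟨Subgroup.normalizer_eq_top_iff.mp (top_le_iff.mp h2), h3, ?_⟩
    intro D hD hDp
    exact h4 D le_top (by rw [Subgroup.normalizer_eq_top_iff.mpr hD]) hDp
  · rintro ⟨h1, h2, h3⟩
    refine ⟨le_top, ?_, h2, ?_⟩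
    · rw [Subgroup.normalizer_eq_top_iff.mpr h1]
    · intro D _ hD hDp
      exact h3 D (Subgroup.normalizer_eq_top_iff.mp (top_le_iff.mp hD)) hDp

theorem largestPReducedOf_top : Cfsg.largestPReducedOf p (⊤ : Subgroup G) = Cfsg.largestPReduced p G := by
  apply le_antisymm
  · exact le_largestPReduced (pRedIn_top_iff.mp (pRedIn_largestPReducedOf p ⊤))
  · exact (pRedIn_top_iff.mpr (isPReducedNormal_largestPReduced p G)).le_largestPReducedOf

/-! ### Subnormality helper -/

theorem isSubnormal_subgroupOf_of_normal_of_normal {D L K : Subgroup G} (hDL : D ≤ L)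
    (hLK : L ≤ K) (hKL : K ≤ Subgroup.normalizer (L : Set G))
    (hLD : L ≤ Subgroup.normalizer (D : Set G)) : (D.subgroupOf K).IsSubnormal := by
  have h1 : (L.subgroupOf K).Normal :=
    (Subgroup.normal_subgroupOf_iff_le_normalizer hLK).mpr hKL
  refine Subgroup.IsSubnormal.step (D.subgroupOf K) (L.subgroupOf K)
    (Subgroup.comap_mono hDL) h1.isSubnormal ?_
  constructor
  rintro ⟨⟨n, hnK⟩, hnL⟩ hn ⟨⟨g, hgK⟩, hgL⟩
  have hgL' : g ∈ L := Subgroup.mem_subgroupOf.mp hgL
  have hn' : n ∈ D := hn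
  show g * n * g⁻¹ ∈ D
  exact (Subgroup.mem_normalizer_iff.mp (hLD hgL') n).mp hn'

/-! ### Intersecting a `p`-reduced normal subgroup with a normal subgroup -/

/-- Key step: if `V` is `p`-reduced normal in `K`, `L ⊴ K`, and `D ⊴ L` acts as a `p`-group on
`V ∩ L`, then `D` centralizes `V`. -/
theorem PRedIn.le_centralizer_of_pAction_inf [Finite G] [Fact p.Prime] {K V L D : Subgroup G}
    (hV : PRedIn p K V) (hLK : L ≤ K) (hKL : K ≤ Subgroup.normalizer (L : Set G))
    (hDL : D ≤ L) (hLD : L ≤ Subgroup.normalizer (D : Set G))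
    (hDp : ∀ d ∈ D, ∃ k : ℕ, d ^ (p ^ k) ∈ Subgroup.centralizer ((V ⊓ L : Subgroup G) : Set G)) :
    D ≤ Subgroup.centralizer (V : Set G) := by
  obtain ⟨hVK, hKV, hel, _⟩ := id hV
  have hWp : IsPGroup p (V ⊓ L : Subgroup G) :=
    (isPGroup_of_isElementaryAbelian hel).to_le inf_le_left
  have ha : ∀ x ∈ D, (orderOf x).Coprime p → x ∈ Subgroup.centralizer (V : Set G) := by
    intro x hx hxc
    obtain ⟨k, hk⟩ := hDp x hx
    have hxW : x ∈ Subgroup.centralizer ((V ⊓ L : Subgroup G) : Set G) :=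
      mem_of_pow_mem_of_coprime hxc hk
    have hxL : x ∈ L := hDL hx
    rw [Subgroup.mem_centralizer_iff]
    intro v hv
    have := commute_of_coprime_of_commutator_mem V (V ⊓ L) x hxc
      (fun r hr => by
        rw [commutatorElement_def]
        refine ⟨?_, ?_⟩
        · have h1 : x * r⁻¹ * x⁻¹ ∈ V :=
            (Subgroup.mem_normalizer_iff.mp (hKV (hLK hxL)) r⁻¹).mp (V.inv_mem hr)
          have h2 : r * x * r⁻¹ * x⁻¹ = r * (x * r⁻¹ * x⁻¹) := by group
          rw [h2]; exact V.mul_mem hr h1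
        · have h1 : r * x * r⁻¹ ∈ L :=
            (Subgroup.mem_normalizer_iff.mp (hKL (hVK hr)) x).mp hxL
          exact L.mul_mem h1 (L.inv_mem hxL))
      (fun c hc => ((Subgroup.mem_centralizer_iff.mp hxW) c hc).symm)
      (fun c hc => orderOf_eq_pow_of_mem hWp hc) v hv
    exact this.eq.symm
  have hb : ∀ d ∈ D, ∃ k : ℕ, d ^ (p ^ k) ∈ Subgroup.centralizer (V : Set G) := by
    intro d hd
    obtain ⟨j, hj⟩ := exists_pow_coprime (p := p) d
    exact ⟨j, ha _ (Subgroup.pow_mem _ hd _) hj⟩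
  exact PRedIn.le_centralizer_of_isSubnormal hV
    (isSubnormal_subgroupOf_of_normal_of_normal hDL hLK hKL hLD) (hDL.trans hLK) hb

theorem PRedIn.inf_of_normal [Finite G] [Fact p.Prime] {K V L : Subgroup G}
    (hV : PRedIn p K V) (hLK : L ≤ K) (hKL : K ≤ Subgroup.normalizer (L : Set G)) :
    PRedIn p L (V ⊓ L) ∧
      L ⊓ Subgroup.centralizer ((V ⊓ L : Subgroup G) : Set G) ≤ Subgroup.centralizer (V : Set G) := by
  obtain ⟨hVK, hKV, hel, _⟩ := id hV
  have hLW : L ≤ Subgroup.normalizer ((V ⊓ L : Subgroup G) : Set G) :=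
    (le_inf (hLK.trans hKV) Subgroup.le_normalizer).trans (normalizer_inf_le_normalizer_inf _ _)
  refine ⟨⟨inf_le_right, hLW, Cfsg.Agent.Lib.Helper47_Avg.isElementaryAbelian_of_le hel inf_le_left, ?_⟩, ?_⟩
  · intro D hDL hLD hDp
    exact (PRedIn.le_centralizer_of_pAction_inf hV hLK hKL hDL hLD hDp).trans
      (Subgroup.centralizer_le (SetLike.coe_subset_coe.mpr inf_le_left))
  · apply PRedIn.le_centralizer_of_pAction_inf hV hLK hKL inf_le_left
    · exact (le_inf Subgroup.le_normalizer (hLW.trans (normalizer_le_normalizer_centralizer _))).trans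
        (normalizer_inf_le_normalizer_inf _ _)
    · intro d hd
      exact ⟨0, by simpa using hd.2⟩

/-- `V ∩ L` is `p`-reduced normal in the subnormal subgroup `L`, and `C_L(V ∩ L) = C_L(V)`. -/
theorem pRedIn_inf_of_isSubnormal [Finite G] [Fact p.Prime] {V : Subgroup G}
    (hV : Cfsg.IsPReducedNormal p V) {L : Subgroup G} (hL : L.IsSubnormal) :
    PRedIn p L (V ⊓ L) ∧
      L ⊓ Subgroup.centralizer ((V ⊓ L : Subgroup G) : Set G) ≤ Subgroup.centralizer (V : Set G) := by
  induction hL with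
  | top =>
    rw [inf_top_eq]
    exact ⟨pRedIn_top_iff.mpr hV, inf_le_right⟩
  | step H K hHK _ hN ih =>
    have hKH : K ≤ Subgroup.normalizer (H : Set G) :=
      (Subgroup.normal_subgroupOf_iff_le_normalizer hHK).mp hN
    obtain ⟨h1, h2⟩ := PRedIn.inf_of_normal ih.1 hHK hKH
    have h3 : V ⊓ K ⊓ H = V ⊓ H := by rw [inf_assoc, inf_eq_right.mpr hHK]
    rw [h3] at h1 h2
    refine ⟨h1, ?_⟩
    intro x hx
    exact ih.2 ⟨hHK hx.1, h2 hx⟩

/-! ### `C_L(Y_L) = C_L(Y_K)` for `L ⊴ K` -/

theorem inf_centralizer_largestPReducedOf_of_normal [Finite G] [Fact p.Prime] {K L : Subgroup G}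
    (hLK : L ≤ K) (hKL : K ≤ Subgroup.normalizer (L : Set G)) :
    L ⊓ Subgroup.centralizer ((Cfsg.largestPReducedOf p L : Subgroup G) : Set G) =
      L ⊓ Subgroup.centralizer ((Cfsg.largestPReducedOf p K : Subgroup G) : Set G) := by
  have hV := pRedIn_largestPReducedOf p L
  have hYK := pRedIn_largestPReducedOf p K
  have hKV : K ≤ Subgroup.normalizer ((Cfsg.largestPReducedOf p L : Subgroup G) : Set G) :=
    hKL.trans (normalizer_le_normalizer_largestPReducedOf L)
  apply le_antisymm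
  · obtain ⟨h1, h2⟩ := PRedIn.inf_of_normal hYK hLK hKL
    have h3 : Cfsg.largestPReducedOf p K ⊓ L ≤ Cfsg.largestPReducedOf p L := h1.le_largestPReducedOf
    intro x hx
    exact ⟨hx.1, h2 ⟨hx.1, Subgroup.centralizer_le (SetLike.coe_subset_coe.mpr h3) hx.2⟩⟩
  · -- minimal `K`-invariant `N ≤ Y_L` with `C_L(N) ≤ C(Y_L)`
    let s : Set (Subgroup G) := {N | N ≤ Cfsg.largestPReducedOf p L ∧
      K ≤ Subgroup.normalizer (N : Set G) ∧
      L ⊓ Subgroup.centralizer (N : Set G) ≤
        Subgroup.centralizer ((Cfsg.largestPReducedOf p L : Subgroup G) : Set G)}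
    obtain ⟨N, hN⟩ := (Set.toFinite s).exists_minimal ⟨Cfsg.largestPReducedOf p L, le_rfl, hKV, inf_le_right⟩
    obtain ⟨hNV, hKN, hNC⟩ := hN.prop
    have hNel : Cfsg.IsElementaryAbelian p N :=
      Cfsg.Agent.Lib.Helper47_Avg.isElementaryAbelian_of_le hV.2.2.1 hNV
    have hNp : IsPGroup p N := isPGroup_of_isElementaryAbelian hNel
    have hNK : PRedIn p K N := by
      refine ⟨hNV.trans (hV.1.trans hLK), hKN, hNel, ?_⟩
      intro D hDK hKD hDp
      have hKN' : K ≤ Subgroup.normalizer ((N ⊓ Subgroup.centralizer (D : Set G) : Subgroup G) : Set G) :=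
        (le_inf hKN (hKD.trans (normalizer_le_normalizer_centralizer D))).trans
          (normalizer_inf_le_normalizer_inf _ _)
      -- `D ∩ L` centralizes `Y_L`
      have hDL : D ⊓ L ≤ Subgroup.centralizer ((Cfsg.largestPReducedOf p L : Subgroup G) : Set G) := by
        apply hV.2.2.2 (D ⊓ L) inf_le_right
        · exact (le_inf (hLK.trans hKD) Subgroup.le_normalizer).trans
            (normalizer_inf_le_normalizer_inf _ _)
        · intro d hd
          obtain ⟨k, hk⟩ := hDp d hd.1
          exact ⟨k, hNC ⟨Subgroup.pow_mem _ hd.2 _, hk⟩⟩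
      have hN's : (N ⊓ Subgroup.centralizer (D : Set G) : Subgroup G) ∈ s := by
        refine ⟨inf_le_left.trans hNV, hKN', ?_⟩
        apply hV.2.2.2 _ inf_le_left
        · exact (le_inf Subgroup.le_normalizer
            ((hLK.trans hKN').trans (normalizer_le_normalizer_centralizer _))).trans
            (normalizer_inf_le_normalizer_inf _ _)
        · intro e he
          obtain ⟨j, hj⟩ := exists_pow_coprime (p := p) e
          refine ⟨j, ?_⟩
          have hxE : e ^ (p ^ j) ∈ L ⊓ Subgroup.centralizer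
              ((N ⊓ Subgroup.centralizer (D : Set G) : Subgroup G) : Set G) := Subgroup.pow_mem _ he _
          have hxL : e ^ (p ^ j) ∈ L := hxE.1
          have hxK : e ^ (p ^ j) ∈ K := hLK hxL
          apply hNC
          refine ⟨hxL, ?_⟩
          have hpxq := commute_of_pxq (N := N) (D := D) (x := e ^ (p ^ j)) hNp
            (fun a ha b hb => Cfsg.Agent.Lib.Helper10_Thompson.ea_comm hNel ha hb)
            (hDK.trans hKN) hDp (hKN hxK) hj
            (by
              intro d hd
              have hdK : d ∈ K := hDK hd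
              have h1 : (e ^ (p ^ j))⁻¹ * d * e ^ (p ^ j) ∈ D := by
                have := (Subgroup.mem_normalizer_iff.mp (hKD (K.inv_mem hxK)) d).mp hd
                simpa using this
              have h2 : d⁻¹ * (e ^ (p ^ j))⁻¹ * d ∈ L := by
                have := (Subgroup.mem_normalizer_iff.mp (hKL (K.inv_mem hdK)) (e ^ (p ^ j))⁻¹).mp
                  (L.inv_mem hxL)
                simpa using this
              have h3 : d⁻¹ * ((e ^ (p ^ j))⁻¹ * d * e ^ (p ^ j)) ∈ D ⊓ L := by
                refine ⟨D.mul_mem (D.inv_mem hd) h1, ?_⟩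
                have h4 : d⁻¹ * ((e ^ (p ^ j))⁻¹ * d * e ^ (p ^ j)) =
                    (d⁻¹ * (e ^ (p ^ j))⁻¹ * d) * e ^ (p ^ j) := by group
                rw [h4]; exact L.mul_mem h2 hxL
              exact Subgroup.centralizer_le (SetLike.coe_subset_coe.mpr hNV) (hDL h3))
            (by
              intro n hn hnD
              have h1 := Subgroup.mem_centralizer_iff.mp hxE.2 n ⟨hn, hnD⟩
              exact h1.symm)
          show e ^ (p ^ j) ∈ Subgroup.centralizer (N : Set G)
          rw [Subgroup.mem_centralizer_iff]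
          intro n hn
          exact (hpxq n hn).eq.symm
      have h5 : N ≤ N ⊓ Subgroup.centralizer (D : Set G) := hN.le_of_le hN's inf_le_left
      rw [Subgroup.le_centralizer_iff]
      exact h5.trans inf_le_right
    have h6 : N ≤ Cfsg.largestPReducedOf p K := hNK.le_largestPReducedOf
    intro x hx
    exact ⟨hx.1, hNC ⟨hx.1, Subgroup.centralizer_le (SetLike.coe_subset_coe.mpr h6) hx.2⟩⟩

/-- `C_L(Y_L) = C_L(Y_G)` for a subnormal subgroup `L`. -/
theorem inf_centralizer_largestPReducedOf_of_isSubnormal [Finite G] [Fact p.Prime]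
    {L : Subgroup G} (hL : L.IsSubnormal) :
    L ⊓ Subgroup.centralizer ((Cfsg.largestPReducedOf p L : Subgroup G) : Set G) =
      L ⊓ Subgroup.centralizer (Cfsg.largestPReduced p G : Set G) := by
  induction hL with
  | top => rw [largestPReducedOf_top]
  | step H K hHK _ hN ih =>
    have hKH : K ≤ Subgroup.normalizer (H : Set G) :=
      (Subgroup.normal_subgroupOf_iff_le_normalizer hHK).mp hN
    rw [inf_centralizer_largestPReducedOf_of_normal hHK hKH]
    apply le_antisymm
    · intro x hx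
      have h1 : x ∈ K ⊓ Subgroup.centralizer (Cfsg.largestPReduced p G : Set G) := by
        rw [← ih]; exact ⟨hHK hx.1, hx.2⟩
      exact ⟨hx.1, h1.2⟩
    · intro x hx
      have h1 : x ∈ K ⊓ Subgroup.centralizer ((Cfsg.largestPReducedOf p K : Subgroup G) : Set G) := by
        rw [ih]; exact ⟨hHK hx.1, hx.2⟩
      exact ⟨hx.1, h1.2⟩

end Cfsg.Agent.Lib.Helper47_YSubn
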