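import Cfsg.Agent.Lib.Helper47_TL2
import Cfsg.Agent.Lib.Helper47_YMin
import Cfsg.Agent.Lib.Helper47_YSubn
import Cfsg.Agent.Lib.Helper10_Thompson
import Cfsg.Agent.S2822
import Cfsg.Agent.S2824

/-!
The basic property `𝔐_H`: existence of members (helper47).
-/

set_option autoImplicit false

namespace Cfsg.Agent.Lib.Helper47_FrakM

open Cfsg
open Cfsg.Agent.Lib.Helper47_PLocal Cfsg.Agent.Lib.Helper47_SubAPI Cfsg.Agent.Lib.Helper47_PReduced
  Cfsg.Agent.Lib.Helper47_PClosed Cfsg.Agent.Lib.Helper47_Conj Cfsg.Agent.Lib.Helper47_YL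
  Cfsg.Agent.Lib.Helper47_TL Cfsg.Agent.Lib.Helper47_TL2 Cfsg.Agent.Lib.Helper47_YMin
open scoped Pointwise

variable {G : Type*} [Group G] {p : ℕ}

/-! ### `p`-reduced normal subgroups seen inside a bigger subgroup -/

theorem pRedIn_subgroupOf {A V : Subgroup G} (hV : PRedIn p A V) {B : Subgroup G} (hAB : A ≤ B) :
    PRedIn p (A.subgroupOf B) (V.subgroupOf B) := by
  obtain ⟨hVA, hAV, hel, hred⟩ := hV
  refine ⟨Subgroup.comap_mono hVA, ?_, Cfsg.Agent.Lib.Helper10_Thompson.ea_subgroupOf hel B, ?_⟩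
  · intro x hx
    rw [Subgroup.mem_subgroupOf] at hx
    have h1 := hAV hx
    rw [Subgroup.mem_normalizer_iff] at h1 ⊢
    intro y
    simp only [Subgroup.mem_subgroupOf]
    simpa using h1 (y : G)
  · intro D hDA hAD hDp
    have h1 : D.map B.subtype ≤ A := by
      rintro _ ⟨d, hd, rfl⟩
      exact Subgroup.mem_subgroupOf.mp (hDA hd)
    have h2 : A ≤ Subgroup.normalizer ((D.map B.subtype : Subgroup G) : Set G) := by
      intro a ha
      have h3 : (⟨a, hAB ha⟩ : B) ∈ Subgroup.normalizer (D : Set B) :=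
        hAD (Subgroup.mem_subgroupOf.mpr ha)
      rw [Subgroup.mem_normalizer_iff] at h3 ⊢
      intro y
      constructor
      · rintro ⟨d, hd, rfl⟩
        refine ⟨⟨a, hAB ha⟩ * d * (⟨a, hAB ha⟩ : B)⁻¹, (h3 d).mp hd, by simp⟩
      · rintro ⟨d, hd, hdy⟩
        have hyB : y ∈ B := by
          have : y = a⁻¹ * (d : G) * a := by
            have hdy' : (d : G) = a * y * a⁻¹ := hdy
            rw [hdy']; group
          rw [this]
          exact B.mul_mem (B.mul_mem (B.inv_mem (hAB ha)) d.2) (hAB ha)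
        refine ⟨⟨y, hyB⟩, ?_, rfl⟩
        apply (h3 ⟨y, hyB⟩).mpr
        have : (⟨a, hAB ha⟩ : B) * ⟨y, hyB⟩ * (⟨a, hAB ha⟩ : B)⁻¹ = d := by
          apply Subtype.ext
          simpa using hdy.symm
        rw [this]; exact hd
    have h3 : ∀ d ∈ D.map B.subtype, ∃ k : ℕ, d ^ (p ^ k) ∈ Subgroup.centralizer (V : Set G) := by
      rintro _ ⟨d, hd, rfl⟩
      obtain ⟨k, hk⟩ := hDp d hd
      refine ⟨k, ?_⟩
      rw [Subgroup.mem_centralizer_iff] at hk ⊢
      intro v hv
      have := hk ⟨v, hAB (hVA hv)⟩ (Subgroup.mem_subgroupOf.mpr hv)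
      simpa using congrArg Subtype.val this
    have h4 := hred _ h1 h2 h3
    intro d hd
    rw [Subgroup.mem_centralizer_iff]
    intro v hv
    have h5 := h4 (Subgroup.mem_map_of_mem B.subtype hd)
    rw [Subgroup.mem_centralizer_iff] at h5
    apply Subtype.ext
    simpa using h5 (v : G) (Subgroup.mem_subgroupOf.mp hv)

/-! ### Monotonicity of `Y_L` above a Sylow subgroup -/

/-- `T ≤ A ≤ B` with `B` of characteristic `p`: `Y_A ≤ Y_B`. -/
theorem largestPReducedOf_le_of_sylow_le [Finite G] [Fact p.Prime] (T : Sylow p G)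
    {A B : Subgroup G} (hTA : (T : Subgroup G) ≤ A) (hAB : A ≤ B)
    (hB : Subgroup.centralizer (Cfsg.pCore p ↥B : Set ↥B) ≤ Cfsg.pCore p ↥B) :
    Cfsg.largestPReducedOf p A ≤ Cfsg.largestPReducedOf p B := by
  have hYA : PRedIn p A (Cfsg.largestPReducedOf p A) := pRedIn_largestPReducedOf p A
  have hX := pRedIn_subgroupOf hYA hAB
  have hT' : ((T.subtype (hTA.trans hAB) : Sylow p ↥B) : Subgroup ↥B) ≤ A.subgroupOf B := by
    rw [Sylow.coe_subtype]
    exact Subgroup.comap_mono hTA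
  have h := isPReducedNormal_normalClosure_of_pRedIn (G := ↥B) hB (T.subtype (hTA.trans hAB)) hT' hX
  have h2 : (Cfsg.largestPReducedOf p A).subgroupOf B ≤ Cfsg.largestPReduced p ↥B :=
    Subgroup.le_normalClosure.trans (le_largestPReduced h)
  have h3 := Subgroup.map_mono (f := B.subtype) h2
  rwa [Subgroup.map_subgroupOf_eq_of_le (hYA.1.trans hAB)] at h3

/-! ### The family `𝓛_H` -/

theorem charP_of_mem_charPSubgroups {B : Subgroup G} (hB : B ∈ Cfsg.charPSubgroups p G) :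
    Subgroup.centralizer (Cfsg.pCore p ↥B : Set ↥B) ≤ Cfsg.pCore p ↥B :=
  (Cfsg.Agent.Lib.Helper47_SubAPI.charP_iff B).mpr (inf_le_right.trans hB.2)

theorem pCoreOf_ne_bot_of_mem_charPSubgroups {B : Subgroup G} (hB : B ∈ Cfsg.charPSubgroups p G) :
    Cfsg.pCoreOf p B ≠ ⊥ := by
  intro h
  apply hB.1
  unfold Cfsg.pCoreOf at h
  exact (Subgroup.map_eq_bot_iff_of_injective _ B.subtype_injective).mp h

theorem mem_charPSubgroups_iff {B : Subgroup G} :
    B ∈ Cfsg.charPSubgroups p G ↔ Cfsg.pCoreOf p B ≠ ⊥ ∧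
      Subgroup.centralizer ((Cfsg.pCoreOf p B : Subgroup G) : Set G) ≤ Cfsg.pCoreOf p B := by
  constructor
  · intro hB
    exact ⟨pCoreOf_ne_bot_of_mem_charPSubgroups hB, hB.2⟩
  · rintro ⟨h1, h2⟩
    refine ⟨?_, h2⟩
    intro h
    apply h1
    unfold Cfsg.pCoreOf
    rw [h, Subgroup.map_bot]

/-- `T ≤ A ≤ B ∈ 𝓛_H` implies `A ∈ 𝓛_H`. -/
theorem mem_charPSubgroups_of_sylow_le [Finite G] [Fact p.Prime] (T : Sylow p G)
    {A B : Subgroup G} (hTA : (T : Subgroup G) ≤ A) (hAB : A ≤ B)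
    (hB : B ∈ Cfsg.charPSubgroups p G) : A ∈ Cfsg.charPSubgroups p G := by
  rw [mem_charPSubgroups_iff] at hB ⊢
  have h1 : Cfsg.pCoreOf p B ≤ Cfsg.pCoreOf p A :=
    le_pCoreOf ((pCoreOf_le_sylow T (hTA.trans hAB)).trans hTA)
      (hAB.trans (le_normalizer_pCoreOf B)) (isPGroup_pCoreOf B)
  refine ⟨?_, ?_⟩
  · intro h
    apply hB.1
    rw [h] at h1
    exact le_bot_iff.mp h1
  · exact (Subgroup.centralizer_le (SetLike.coe_subset_coe.mpr h1)).trans (hB.2.trans h1)

/-- In a group of parabolic characteristic `p`, the normalizer of a nontrivial `p`-subgroup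
belongs to `𝓛_H` as soon as it contains a Sylow `p`-subgroup. -/
theorem normalizer_mem_charPSubgroups [Finite G] [Fact p.Prime]
    (hH : Cfsg.IsOfParabolicCharacteristic p G) (T : Sylow p G) {Y : Subgroup G}
    (hYp : IsPGroup p Y) (hY1 : Y ≠ ⊥) (hTN : (T : Subgroup G) ≤ Subgroup.normalizer (Y : Set G)) :
    Subgroup.normalizer (Y : Set G) ∈ Cfsg.charPSubgroups p G := by
  rw [mem_charPSubgroups_iff]
  have h1 := (Cfsg.Agent.Lib.Helper47_SubAPI.charP_iff _).mp (hH Y hYp hY1 ⟨T, hTN⟩)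
  have h2 : Y ≤ Cfsg.pCoreOf p (Subgroup.normalizer (Y : Set G)) :=
    le_pCoreOf Subgroup.le_normalizer le_rfl hYp
  refine ⟨?_, ?_⟩
  · intro h
    rw [h] at h2
    exact hY1 (le_bot_iff.mp h2)
  · intro x hx
    apply h1
    refine ⟨?_, hx⟩
    have h3 : x ∈ Subgroup.centralizer (Y : Set G) :=
      Subgroup.centralizer_le (SetLike.coe_subset_coe.mpr h2) hx
    exact Subgroup.centralizer_le_normalizer _ h3

/-! ### `Y_X ≠ 1` for `X ∈ 𝓛_H` containing a Sylow subgroup -/

theorem omegaOne_ne_bot [Finite G] [Fact p.Prime] {Z : Subgroup G} (hZ : IsPGroup p Z)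
    (hZ1 : Z ≠ ⊥) : Cfsg.omegaOne p Z ≠ ⊥ := by
  have : Nontrivial Z := (Subgroup.nontrivial_iff_ne_bot Z).mpr hZ1
  obtain ⟨n, hn0, hn⟩ := hZ.nontrivial_iff_card.mp this
  have hdvd : p ∣ Nat.card Z := by
    rw [hn]; exact dvd_pow_self p (Nat.pos_iff_ne_zero.mp hn0)
  obtain ⟨z, hz⟩ := exists_prime_orderOf_dvd_card' p hdvd
  intro hbot
  have h1 : (z : G) ∈ Cfsg.omegaOne p Z := by
    unfold Cfsg.omegaOne
    apply Subgroup.subset_closure
    refine ⟨z.2, ?_⟩
    have : z ^ p = 1 := by rw [← hz]; exact pow_orderOf_eq_one z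
    simpa using congrArg Subtype.val this
  rw [hbot, Subgroup.mem_bot] at h1
  have h2 : z = 1 := Subtype.ext h1
  rw [h2, orderOf_one] at hz
  exact (Fact.out : p.Prime).one_lt.ne hz

theorem largestPReducedOf_ne_bot [Finite G] [Fact p.Prime] (T : Sylow p G) {X : Subgroup G}
    (hTX : (T : Subgroup G) ≤ X) (hX : X ∈ Cfsg.charPSubgroups p G) :
    Cfsg.largestPReducedOf p X ≠ ⊥ := by
  have hT1 : (T : Subgroup G) ≠ ⊥ := by
    intro h
    have := pCoreOf_le_sylow T hTX
    rw [h] at this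
    exact pCoreOf_ne_bot_of_mem_charPSubgroups hX (le_bot_iff.mp this)
  have h1 := omegaOne_center_sylow_le_largestPReducedOf X (charP_of_mem_charPSubgroups hX)
    (T.subtype hTX)
  rw [Sylow.coe_subtype, Subgroup.map_subgroupOf_eq_of_le hTX] at h1
  have h2 : Cfsg.omegaOne p ((T : Subgroup G) ⊓ Subgroup.centralizer ((T : Subgroup G) : Set G)) ≠ ⊥ :=
    omegaOne_ne_bot (T.isPGroup'.to_le inf_le_left)
      (Cfsg.Agent.Lib.Helper47_Large.inf_centralizer_ne_bot T.isPGroup' hT1)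
  intro h
  rw [h] at h1
  exact h2 (le_bot_iff.mp h1)

/-! ### A Frattini-quotient criterion -/

/-- Let `D` be a normal subgroup of `G` in which `O_p(G)` has index prime to `p`, and suppose
`G` is minimal among the subgroups `X ≥ T` with `X D = G`. Then the image of `D` in `G / O_p(G)`
lies in the Frattini subgroup. -/
theorem map_mk'_le_frattini_of_minimal [Finite G] [Fact p.Prime] (T : Sylow p G)
    (D : Subgroup G) [hDn : D.Normal]
    (hQD : Cfsg.pCore p G ≤ D) (hidx : ¬ p ∣ (Cfsg.pCore p G).relIndex D)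
    (hmin : ∀ X : Subgroup G, (T : Subgroup G) ≤ X → X ⊔ D = ⊤ → X = ⊤) :
    D.map (QuotientGroup.mk' (Cfsg.pCore p G)) ≤ frattini (G ⧸ Cfsg.pCore p G) := by
  unfold frattini Order.radical
  refine le_iInf₂ fun Mb hMb => ?_
  have hMb' : IsCoatom Mb := hMb
  set M : Subgroup G := Mb.comap (QuotientGroup.mk' (Cfsg.pCore p G)) with hM
  have hMc : IsCoatom M := (isCoatom_comap_mk'_iff (Cfsg.pCore p G) Mb).mpr hMb'
  have hQM : Cfsg.pCore p G ≤ M := QuotientGroup.le_comap_mk' (Cfsg.pCore p G) Mb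
  have hDM : D ≤ M := by
    by_contra hDM
    have hsup : M ⊔ D = ⊤ := hMc.2 _ (lt_of_le_of_ne le_sup_left
      (fun h => hDM (h ▸ le_sup_right)))
    have hidx' : ¬ p ∣ M.index := by
      have h1 := Cfsg.Agent.Lib.Helper32_Sylow.relIndex_inf_of_normal M D
      rw [hsup, Subgroup.relIndex_top_right] at h1
      rw [← h1]
      intro h
      exact hidx (h.trans (Subgroup.relIndex_dvd_of_le_left D (le_inf hQM hQD)))
    obtain ⟨g, hg⟩ := exists_le_map_conj_of_not_dvd_index hidx' T.isPGroup'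
    have hMg : IsCoatom (M.map (MulAut.conj g).toMonoidHom) :=
      ((MulAut.conj g).mapSubgroup.isCoatom_iff M).mpr hMc
    have h5 : D.map (MulAut.conj g).toMonoidHom = D :=
      mem_normalizer_iff_map_conj_eq'.mp
        (by rw [Subgroup.normalizer_eq_top_iff.mpr hDn]; exact Subgroup.mem_top _)
    have hsup' : M.map (MulAut.conj g).toMonoidHom ⊔ D = ⊤ := by
      rw [← h5, ← Subgroup.map_sup, hsup, ← MonoidHom.range_eq_map]
      exact MonoidHom.range_eq_top.mpr (MulAut.conj g).surjective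
    exact hMg.1 (hmin _ hg hsup')
  rw [Subgroup.map_le_iff_le_comap]
  exact hDM

/-! ### The auxiliary family `𝒴` -/

/-- The family of all `X ∈ 𝓛_H` containing `T` with `Y_L ≤ Y_X` and
`L C_H(Y_L) = (X ∩ L C_H(Y_L)) C_H(Y_L)`. -/
def famY (p : ℕ) (T : Sylow p G) (L : Subgroup G) : Set (Subgroup G) :=
  {X | (T : Subgroup G) ≤ X ∧ X ∈ Cfsg.charPSubgroups p G ∧
    Cfsg.largestPReducedOf p L ≤ Cfsg.largestPReducedOf p X ∧
    L ≤ (X ⊓ (L ⊔ Subgroup.centralizer ((Cfsg.largestPReducedOf p L : Subgroup G) : Set G))) ⊔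
      Subgroup.centralizer ((Cfsg.largestPReducedOf p L : Subgroup G) : Set G)}

theorem self_mem_famY (T : Sylow p G) {L : Subgroup G} (hTL : (T : Subgroup G) ≤ L)
    (hL : L ∈ Cfsg.charPSubgroups p G) : L ∈ famY p T L :=
  ⟨hTL, hL, le_rfl, (le_inf le_rfl le_sup_left).trans le_sup_left⟩

theorem mem_famY_of_le [Finite G] [Fact p.Prime] (T : Sylow p G) {L X X' : Subgroup G}
    (hX : X ∈ famY p T L) (hXX' : X ≤ X') (hX' : X' ∈ Cfsg.charPSubgroups p G) :
    X' ∈ famY p T L := by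
  obtain ⟨h1, -, h3, h4⟩ := hX
  refine ⟨h1.trans hXX', hX', h3.trans
    (largestPReducedOf_le_of_sylow_le T h1 hXX' (charP_of_mem_charPSubgroups hX')), h4.trans ?_⟩
  exact sup_le_sup_right (inf_le_inf_right _ hXX') _

theorem exists_max_famY [Finite G] (T : Sylow p G) {L : Subgroup G}
    (hTL : (T : Subgroup G) ≤ L) (hL : L ∈ Cfsg.charPSubgroups p G) :
    ∃ Mt ∈ famY p T L,
      (∀ X ∈ famY p T L, Nat.card (Cfsg.largestPReducedOf p X) ≤
        Nat.card (Cfsg.largestPReducedOf p Mt)) ∧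
      (∀ X ∈ famY p T L, Nat.card (Cfsg.largestPReducedOf p Mt) ≤
        Nat.card (Cfsg.largestPReducedOf p X) → Nat.card X ≤ Nat.card Mt) := by
  obtain ⟨X₁, hX₁, hmax₁⟩ := Set.exists_max_image (famY p T L)
    (fun X => Nat.card (Cfsg.largestPReducedOf p X)) (Set.toFinite _) ⟨L, self_mem_famY T hTL hL⟩
  obtain ⟨Mt, hMt, hmax₂⟩ := Set.exists_max_image
    {X | X ∈ famY p T L ∧ Nat.card (Cfsg.largestPReducedOf p X₁) ≤
      Nat.card (Cfsg.largestPReducedOf p X)}
    (fun X => Nat.card X) (Set.toFinite _) ⟨X₁, hX₁, le_rfl⟩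
  refine ⟨Mt, hMt.1, fun X hX => (hmax₁ X hX).trans hMt.2, fun X hX hle => ?_⟩
  exact hmax₂ X ⟨hX, hMt.2.trans hle⟩

/-- Consequences of the maximal choice. -/
theorem largestPReducedOf_eq_of_max [Finite G] {T : Sylow p G} {L Mt X : Subgroup G}
    (hmax : ∀ X ∈ famY p T L, Nat.card (Cfsg.largestPReducedOf p X) ≤
      Nat.card (Cfsg.largestPReducedOf p Mt))
    (hX : X ∈ famY p T L)
    (hle : Cfsg.largestPReducedOf p Mt ≤ Cfsg.largestPReducedOf p X) :
    Cfsg.largestPReducedOf p X = Cfsg.largestPReducedOf p Mt :=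
  (Subgroup.eq_of_le_of_card_ge hle (hmax X hX)).symm

theorem eq_of_max [Finite G] {T : Sylow p G} {L Mt X : Subgroup G}
    (hmax₂ : ∀ X ∈ famY p T L, Nat.card (Cfsg.largestPReducedOf p Mt) ≤
      Nat.card (Cfsg.largestPReducedOf p X) → Nat.card X ≤ Nat.card Mt)
    (hX : X ∈ famY p T L)
    (hle : Cfsg.largestPReducedOf p Mt ≤ Cfsg.largestPReducedOf p X) (hMX : Mt ≤ X) :
    X = Mt :=
  (Subgroup.eq_of_le_of_card_ge hMX (hmax₂ X hX (Subgroup.card_le_of_le hle))).symm

/-! ### Existence of members of `𝔐_H` -/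

/-- Dedekind-type step: if `Mt = M C` with `C` normalized by `M`, `C ≤ C' ≤ D`, then
`Mt ∩ D ≤ (M ∩ D) C'`. -/
theorem inf_le_inf_sup_of_sup_eq {M C C' D Mt : Subgroup G}
    (hMC : M ≤ Subgroup.normalizer (C : Set G)) (hsup : M ⊔ C = Mt) (hCC' : C ≤ C') (hC'D : C' ≤ D) :
    Mt ⊓ D ≤ (M ⊓ D) ⊔ C' := by
  intro x hx
  have hx1 : x ∈ C ⊔ M := by rw [sup_comm, hsup]; exact hx.1
  obtain ⟨c, hc, m, hm, rfl⟩ :=
    Cfsg.Agent.Lib.Helper47_WC2.exists_mul_of_mem_sup_of_le_normalizer hMC hx1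
  have hmD : m ∈ D := by
    have : m = c⁻¹ * (c * m) := by group
    rw [this]
    exact D.mul_mem (D.inv_mem (hC'D (hCC' hc))) hx.2
  exact Subgroup.mul_mem _ (Subgroup.mem_sup_right (hCC' hc)) (Subgroup.mem_sup_left ⟨hm, hmD⟩)

theorem exists_isInFrakM [Finite G] [Fact p.Prime] (hH : Cfsg.IsOfParabolicCharacteristic p G)
    (T : Sylow p G) (L : Subgroup G) (hTL : (T : Subgroup G) ≤ L)
    (hL : L ∈ Cfsg.charPSubgroups p G) :
    ∃ M Ls : Subgroup G, (T : Subgroup G) ≤ M ∧ Cfsg.IsInFrakM p M ∧ (T : Subgroup G) ≤ Ls ∧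
      Ls ≤ M ∧ Ls ∈ Cfsg.charPSubgroups p G ∧
      Cfsg.largestPReducedOf p L = Cfsg.largestPReducedOf p Ls ∧
      Cfsg.largestPReducedOf p L ≤ Cfsg.largestPReducedOf p M ∧
      L ⊔ Subgroup.centralizer ((Cfsg.largestPReducedOf p L : Subgroup G) : Set G) =
        Ls ⊔ Subgroup.centralizer ((Cfsg.largestPReducedOf p L : Subgroup G) : Set G) := by
  obtain ⟨Mt, hMt0, hMt1, hMt2⟩ := exists_max_famY T hTL hL
  have hMt0' := hMt0
  obtain ⟨hTMt, hMtL, hYLMt, hLMt⟩ := hMt0'
  have hYL : PRedIn p L (Cfsg.largestPReducedOf p L) := pRedIn_largestPReducedOf p L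
  have hYM : PRedIn p Mt (Cfsg.largestPReducedOf p Mt) := pRedIn_largestPReducedOf p Mt
  have hYMp : IsPGroup p (Cfsg.largestPReducedOf p Mt) := isPGroup_of_isElementaryAbelian hYM.2.2.1
  have hYM1 : Cfsg.largestPReducedOf p Mt ≠ ⊥ := largestPReducedOf_ne_bot T hTMt hMtL
  have hMtc := charP_of_mem_charPSubgroups hMtL
  -- (1) `N_H(Y_Mt) = Mt`
  have hN : Subgroup.normalizer ((Cfsg.largestPReducedOf p Mt : Subgroup G) : Set G) ∈
      Cfsg.charPSubgroups p G :=
    normalizer_mem_charPSubgroups hH T hYMp hYM1 (hTMt.trans hYM.2.1)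
  have hNfam := mem_famY_of_le T hMt0 hYM.2.1 hN
  have hNeq : Subgroup.normalizer ((Cfsg.largestPReducedOf p Mt : Subgroup G) : Set G) = Mt :=
    eq_of_max hMt2 hNfam
      (largestPReducedOf_le_of_sylow_le T hTMt hYM.2.1 (charP_of_mem_charPSubgroups hN)) hYM.2.1
  -- (2) `Mt` is maximal in `𝓛_H`
  have hMtmax : Mt ∈ Cfsg.maxCharPSubgroups p G := by
    refine ⟨hMtL, fun X hX hMX => ?_⟩
    exact eq_of_max hMt2 (mem_famY_of_le T hMt0 hMX hX)
      (largestPReducedOf_le_of_sylow_le T hTMt hMX (charP_of_mem_charPSubgroups hX)) hMX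
  -- (3)
  have hCM : Subgroup.centralizer ((Cfsg.largestPReducedOf p Mt : Subgroup G) : Set G) ≤ Mt :=
    (Subgroup.centralizer_le_normalizer _).trans hNeq.le
  -- (4) minimal `M`
  obtain ⟨M, hMmin⟩ := (Set.toFinite {A : Subgroup G | (T : Subgroup G) ≤ A ∧ A ≤ Mt ∧
    A ⊔ Subgroup.centralizer ((Cfsg.largestPReducedOf p Mt : Subgroup G) : Set G) = Mt}).exists_minimal
    ⟨Mt, hTMt, le_rfl, sup_eq_left.mpr hCM⟩
  obtain ⟨hTM, hMMt, hMsup⟩ := hMmin.prop
  have hML : M ∈ Cfsg.charPSubgroups p G := mem_charPSubgroups_of_sylow_le T hTM hMMt hMtL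
  have hMc := charP_of_mem_charPSubgroups hML
  -- (5)
  have hYeq : Cfsg.largestPReducedOf p M = Cfsg.largestPReducedOf p Mt := by
    apply le_antisymm (largestPReducedOf_le_of_sylow_le T hTM hMMt hMtc)
    apply Cfsg.Agent.S2822.result T M Mt hTM hTMt hMc hMtc
    rw [hMsup, sup_eq_left.mpr hCM]
  -- (6)
  have hMd : M ⊔ Subgroup.centralizer ((Cfsg.largestPReducedOf p M : Subgroup G) : Set G) = Mt := by
    rw [hYeq]; exact hMsup
  have hYMM : PRedIn p M (Cfsg.largestPReducedOf p M) := pRedIn_largestPReducedOf p M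
  -- `M` normalizes `C(Y_M)`
  have hMnC : M ≤ Subgroup.normalizer ((Subgroup.centralizer
      ((Cfsg.largestPReducedOf p M : Subgroup G) : Set G) : Subgroup G) : Set G) :=
    hYMM.2.1.trans (normalizer_le_normalizer_centralizer _)
  -- `C(Y_Mt) ≤ C(Y_L)`
  have hCC : Subgroup.centralizer ((Cfsg.largestPReducedOf p M : Subgroup G) : Set G) ≤
      Subgroup.centralizer ((Cfsg.largestPReducedOf p L : Subgroup G) : Set G) := by
    rw [hYeq]
    exact Subgroup.centralizer_le (SetLike.coe_subset_coe.mpr hYLMt)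
  -- `P(M)`
  have hPM : L ≤ (M ⊓ (L ⊔ Subgroup.centralizer ((Cfsg.largestPReducedOf p L : Subgroup G) : Set G))) ⊔
      Subgroup.centralizer ((Cfsg.largestPReducedOf p L : Subgroup G) : Set G) :=
    hLMt.trans (sup_le (inf_le_inf_sup_of_sup_eq hMnC hMd hCC le_sup_right) le_sup_right)
  -- (7)
  have huniq : ∀ X ∈ Cfsg.maxCharPSubgroups p G, M ≤ X → X = Mt := by
    intro X hX hMX
    have hXc := charP_of_mem_charPSubgroups hX.1
    have hYMX : Cfsg.largestPReducedOf p Mt ≤ Cfsg.largestPReducedOf p X := by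
      rw [← hYeq]; exact largestPReducedOf_le_of_sylow_le T hTM hMX hXc
    have hXfam : X ∈ famY p T L :=
      ⟨hTM.trans hMX, hX.1, hYLMt.trans hYMX,
        hPM.trans (sup_le_sup_right (inf_le_inf_right _ hMX) _)⟩
    have hYX := largestPReducedOf_eq_of_max hMt1 hXfam hYMX
    have hXMt : X ≤ Mt := by
      refine le_trans ?_ hNeq.le
      rw [← hYX]
      exact (pRedIn_largestPReducedOf p X).2.1
    exact (hX.2 Mt hMtL hXMt).symm
  -- (8) `T ∩ C(Y_M)` is normal in `M`
  have hTnorm : M ≤ Subgroup.normalizer ((((T : Subgroup G) ⊓ Subgroup.centralizer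
      ((Cfsg.largestPReducedOf p M : Subgroup G) : Set G) : Subgroup G)) : Set G) := by
    have h1 := le_inf_normalizer_sup_of_le_normalizer T M _ hTM hMnC
    have hTn : (T : Subgroup G) ≤ Subgroup.normalizer ((((T : Subgroup G) ⊓ Subgroup.centralizer
        ((Cfsg.largestPReducedOf p M : Subgroup G) : Set G) : Subgroup G)) : Set G) :=
      (le_inf Subgroup.le_normalizer (hTM.trans hMnC)).trans (normalizer_inf_le_normalizer_inf _ _)
    have h2 := hMmin.le_of_le (y := M ⊓ Subgroup.normalizer ((((T : Subgroup G) ⊓ Subgroup.centralizer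
        ((Cfsg.largestPReducedOf p M : Subgroup G) : Set G) : Subgroup G)) : Set G))
      ⟨le_inf hTM hTn, inf_le_left.trans hMMt, by
        rw [← hYeq]
        apply le_antisymm
        · rw [← hMd]; exact sup_le_sup_right inf_le_left _
        · rw [← hMd]; exact sup_le h1 le_sup_right⟩ inf_le_left
    exact h2.trans inf_le_right
  -- abbreviations
  have hTnC₀ : (T : Subgroup G) ≤ Subgroup.normalizer ((M ⊓ Subgroup.centralizer
      ((Cfsg.largestPReducedOf p M : Subgroup G) : Set G) : Subgroup G) : Set G) :=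
    hTM.trans ((le_inf Subgroup.le_normalizer hMnC).trans (normalizer_inf_le_normalizer_inf _ _))
  have hMnC₀ : M ≤ Subgroup.normalizer ((M ⊓ Subgroup.centralizer
      ((Cfsg.largestPReducedOf p M : Subgroup G) : Set G) : Subgroup G) : Set G) :=
    (le_inf Subgroup.le_normalizer hMnC).trans (normalizer_inf_le_normalizer_inf _ _)
  have hT₀eq : (T : Subgroup G) ⊓ (M ⊓ Subgroup.centralizer
      ((Cfsg.largestPReducedOf p M : Subgroup G) : Set G)) = (T : Subgroup G) ⊓
      Subgroup.centralizer ((Cfsg.largestPReducedOf p M : Subgroup G) : Set G) := by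
    rw [← inf_assoc, inf_eq_left.mpr hTM]
  have hT₀C₀ : (T : Subgroup G) ⊓ Subgroup.centralizer
      ((Cfsg.largestPReducedOf p M : Subgroup G) : Set G) ≤ M ⊓ Subgroup.centralizer
      ((Cfsg.largestPReducedOf p M : Subgroup G) : Set G) :=
    inf_le_inf_right _ hTM
  -- `C_M(Y_M)` is `p`-closed
  have hclosed : Cfsg.IsPClosed p ↥(M ⊓ Subgroup.centralizer
      ((Cfsg.largestPReducedOf p M : Subgroup G) : Set G)) := by
    obtain ⟨P, hP⟩ := exists_sylow_eq_inf_subgroupOf T _ hTnC₀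
    apply isPClosed_of_normal_sylow P
    rw [hP, hT₀eq]
    exact (Subgroup.normal_subgroupOf_iff_le_normalizer hT₀C₀).mpr (inf_le_left.trans hTnorm)
  -- `O_p(M) = T ∩ C(Y_M)`
  have hOp : Cfsg.pCoreOf p M = (T : Subgroup G) ⊓ Subgroup.centralizer
      ((Cfsg.largestPReducedOf p M : Subgroup G) : Set G) :=
    le_antisymm (le_inf (pCoreOf_le_sylow T hTM) hYMM.pCoreOf_le_centralizer)
      (le_pCoreOf (inf_le_left.trans hTM) hTnorm (T.isPGroup'.to_le inf_le_left))
  -- the Frattini condition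
  have hfrat : ((M ⊓ Subgroup.centralizer ((Cfsg.largestPReducedOf p M : Subgroup G) : Set G)).subgroupOf
      M).map (QuotientGroup.mk' (Cfsg.pCore p ↥M)) ≤ frattini (↥M ⧸ Cfsg.pCore p ↥M) := by
    have hDn : ((M ⊓ Subgroup.centralizer
        ((Cfsg.largestPReducedOf p M : Subgroup G) : Set G)).subgroupOf M).Normal :=
      (Subgroup.normal_subgroupOf_iff_le_normalizer inf_le_left).mpr hMnC₀
    have hcore : Cfsg.pCore p ↥M = (Cfsg.pCoreOf p M).subgroupOf M := by
      unfold Cfsg.pCoreOf Subgroup.subgroupOf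
      rw [Subgroup.comap_map_eq_self_of_injective M.subtype_injective]
    apply map_mk'_le_frattini_of_minimal (T.subtype hTM)
    · rw [hcore, hOp]
      exact Subgroup.comap_mono hT₀C₀
    · rw [hcore, hOp, Subgroup.relIndex_subgroupOf inf_le_left, ← hT₀eq]
      exact not_dvd_relIndex_inf_of_le_normalizer T _ hTnC₀
    · intro X hTX hXD
      rw [Sylow.coe_subtype] at hTX
      have hA1 : (T : Subgroup G) ≤ X.map M.subtype := by
        have := Subgroup.map_mono (f := M.subtype) hTX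
        rwa [Subgroup.map_subgroupOf_eq_of_le hTM] at this
      have hA2 : X.map M.subtype ≤ M := Subgroup.map_subtype_le X
      have hA3 : M ≤ X.map M.subtype ⊔ Subgroup.centralizer
          ((Cfsg.largestPReducedOf p M : Subgroup G) : Set G) := by
        have h1 := congrArg (Subgroup.map M.subtype) hXD
        rw [Subgroup.map_sup, Subgroup.map_subgroupOf_eq_of_le inf_le_left,
          ← MonoidHom.range_eq_map, Subgroup.range_subtype] at h1
        exact h1.ge.trans (sup_le_sup_left inf_le_right _)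
      have hA4 := hMmin.le_of_le (y := X.map M.subtype)
        ⟨hA1, hA2.trans hMMt, by
          rw [← hYeq]
          apply le_antisymm
          · rw [← hMd]; exact sup_le_sup_right hA2 _
          · rw [← hMd]; exact sup_le hA3 le_sup_right⟩ hA2
      rw [eq_top_iff]
      intro x _
      obtain ⟨y, hy, hyx⟩ := Subgroup.mem_map.mp (hA4 x.2)
      have : y = x := Subtype.ext hyx
      rwa [this] at hy
  -- (9) the subgroup `L*`
  have hTM' : (T : Subgroup G) ≤ M ⊓ (L ⊔ Subgroup.centralizer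
      ((Cfsg.largestPReducedOf p L : Subgroup G) : Set G)) := le_inf hTM (hTL.trans le_sup_left)
  have hM'L : M ⊓ (L ⊔ Subgroup.centralizer
      ((Cfsg.largestPReducedOf p L : Subgroup G) : Set G)) ∈ Cfsg.charPSubgroups p G :=
    mem_charPSubgroups_of_sylow_le T hTM' inf_le_left hML
  have hfac : (M ⊓ (L ⊔ Subgroup.centralizer
      ((Cfsg.largestPReducedOf p L : Subgroup G) : Set G))) ⊔ Subgroup.centralizer
      ((Cfsg.largestPReducedOf p L : Subgroup G) : Set G) = L ⊔ Subgroup.centralizer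
      ((Cfsg.largestPReducedOf p L : Subgroup G) : Set G) :=
    le_antisymm (sup_le inf_le_right le_sup_right) (sup_le hPM le_sup_right)
  have h24 := Cfsg.Agent.S2824.result T L _ hTL hTM' (charP_of_mem_charPSubgroups hL)
    (charP_of_mem_charPSubgroups hM'L) _ rfl hfac _ rfl
  have hTnL : (T : Subgroup G) ≤ Subgroup.normalizer ((((T : Subgroup G) ⊓ Subgroup.centralizer
      ((Cfsg.largestPReducedOf p L : Subgroup G) : Set G) : Subgroup G)) : Set G) :=
    (le_inf Subgroup.le_normalizer (hTL.trans (hYL.2.1.trans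
      (normalizer_le_normalizer_centralizer _)))).trans (normalizer_inf_le_normalizer_inf _ _)
  have hTLs : (T : Subgroup G) ≤ (M ⊓ (L ⊔ Subgroup.centralizer
      ((Cfsg.largestPReducedOf p L : Subgroup G) : Set G))) ⊓ Subgroup.normalizer
      ((((T : Subgroup G) ⊓ Subgroup.centralizer
      ((Cfsg.largestPReducedOf p L : Subgroup G) : Set G) : Subgroup G)) : Set G) :=
    le_inf hTM' hTnL
  have hLsM : (M ⊓ (L ⊔ Subgroup.centralizer
      ((Cfsg.largestPReducedOf p L : Subgroup G) : Set G))) ⊓ Subgroup.normalizer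
      ((((T : Subgroup G) ⊓ Subgroup.centralizer
      ((Cfsg.largestPReducedOf p L : Subgroup G) : Set G) : Subgroup G)) : Set G) ≤ M :=
    inf_le_left.trans inf_le_left
  refine ⟨M, _, hTM, ⟨hML, ?_, ?_, ?_, hclosed, hfrat⟩, hTLs, hLsM,
    mem_charPSubgroups_of_sylow_le T hTLs hLsM hML, h24.1.symm, ?_, h24.2⟩
  · rw [hMd]; exact hMtmax
  · intro X hX hMX
    rw [hMd]; exact huniq X hX hMX
  · rw [hMd]; exact hYeq
  · rw [hYeq]; exact hYLMt

end Cfsg.Agent.Lib.Helper47_FrakM
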