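import Mathlib
import Cfsg.Agent.Lib.Helper32_OFDefs
import Cfsg.Agent.Lib.Helper32_OFRoot
import Cfsg.Agent.Lib.Helper31_OF_API
import Cfsg.Agent.Lib.Helper94_OrthVec
import Cfsg.Agent.Lib.Helper94_OrthNondeg
import Cfsg.Agent.Lib.Helper80_GrowDefs

set_option autoImplicit false
set_option linter.unusedSimpArgs false
set_option linter.unusedVariables false
set_option linter.unusedSectionVars false

/-!
GROW market (helper80 architect), package **GROW-ENDIN**, core: from the Siegel elements of a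
coordinate subspace `V_S`, `|S| ≥ 3`, to an input of GROW-END.  The statements of GROW-CONJ and
GROW-TOR3 are hypotheses here.  (helper47)
-/

namespace Cfsg.Agent.Lib.Helper47_GROW_ENDINaux

open Module Cfsg.Agent.Lib.Helper94_Symp Cfsg.Agent.Lib.Helper94_OrthSmall
  Cfsg.Agent.Lib.Helper94_OrthSiegel Cfsg.Agent.Lib.Helper94_OrthSiegel2
  Cfsg.Agent.Lib.Helper94_OrthNondeg Cfsg.Agent.Lib.Helper94_OrthVec
  Cfsg.Agent.Lib.Helper32_OFDefs Cfsg.Agent.Lib.Helper32_OFRoot
  Cfsg.Agent.Lib.Helper80_GrowDefs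

variable {F V : Type*} [Field F] [AddCommGroup V] [Module F V]
variable {Q : V → F} {B : LinearMap.BilinForm F V}
variable {ι : Type*} [Fintype ι] [DecidableEq ι] {c : F} {e : ι → V}
variable {L : Subgroup (V ≃ₗ[F] V)}

lemma inZ_of_sgOn {A : Submodule F V} (h : SgOn Q B L A) {u z : V} (hu : u ∈ A) (hz : z ∈ A)
    (hQ : Q u = 0) (huz : B u z = 0) : InZ Q B L u z :=
  ⟨huz, fun t => h u hu (t • z) (A.smul_mem t hz) hQ (by rw [map_smul, huz, smul_zero])⟩

lemma e_mem_VS (hfr : OFr Q B c e) {S : Finset ι} {i : ι} (hi : i ∈ S) : e i ∈ VS B e S := by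
  intro j hj
  exact hfr.orth i j (fun hij => hj (hij ▸ hi))

/-- the vector `x e_a + y e_b + z e_d` -/
lemma B_three (hfr : OFr Q B c e) {a b d : ι} (x y z : F) (j : ι) :
    B (x • e a + y • e b + z • e d) (e j) =
      x * (if a = j then 2 * c else 0) + y * (if b = j then 2 * c else 0) +
        z * (if d = j then 2 * c else 0) := by
  simp only [map_add, map_smul, LinearMap.add_apply, LinearMap.smul_apply, smul_eq_mul, hfr.Bee']

lemma Q_three (hfr : OFr Q B c e) {a b d : ι} (hab : a ≠ b) (had : a ≠ d) (hbd : b ≠ d)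
    (x y z : F) : Q (x • e a + y • e b + z • e d) = c * (x ^ 2 + y ^ 2 + z ^ 2) := by
  rw [hfr.hQp, hfr.hQp, hfr.hQs, hfr.hQs, hfr.hQs, hfr.Qe, hfr.Qe, hfr.Qe]
  simp only [map_add, map_smul, LinearMap.add_apply, LinearMap.smul_apply, smul_eq_mul,
    hfr.orth a b hab, hfr.orth a d had, hfr.orth b d hbd]
  ring

lemma three_mem_VS (hfr : OFr Q B c e) {S : Finset ι} {a b d : ι} (ha : a ∈ S) (hb : b ∈ S)
    (hd : d ∈ S) (x y z : F) : x • e a + y • e b + z • e d ∈ VS B e S :=
  (VS B e S).add_mem ((VS B e S).add_mem ((VS B e S).smul_mem _ (e_mem_VS hfr ha))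
    ((VS B e S).smul_mem _ (e_mem_VS hfr hb))) ((VS B e S).smul_mem _ (e_mem_VS hfr hd))

/-- a sum of two squares equal to `-1` in a finite field of odd characteristic -/
lemma exists_sq_add_sq [Finite F] (h2 : (2 : F) ≠ 0) : ∃ x y : F, x ^ 2 + y ^ 2 = -1 := by
  classical
  have : Fintype F := Fintype.ofFinite F
  have hodd : Fintype.card F % 2 = 1 := by
    rcases Nat.even_or_odd (Fintype.card F) with he | ho
    · exfalso
      apply h2
      have h0 : ((Fintype.card F : ℕ) : F) = 0 := Nat.cast_card_eq_zero F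
      obtain ⟨p, hp⟩ := CharP.exists F
      haveI := hp
      have hpd : p ∣ Fintype.card F := (CharP.cast_eq_zero_iff F p _).mp h0
      obtain ⟨n, hpp, hn⟩ := FiniteField.card F p
      have hp2 : p = 2 := by
        have h2d : 2 ∣ p ^ (n : ℕ) := by rw [← hn]; exact he.two_dvd
        have := (Nat.prime_dvd_prime_iff_eq Nat.prime_two hpp).mp
          (Nat.Prime.dvd_of_dvd_pow Nat.prime_two h2d)
        exact this.symm
      subst hp2
      exact_mod_cast CharP.cast_eq_zero F 2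
    · exact Nat.odd_iff.mp ho
  obtain ⟨x, y, hxy⟩ := FiniteField.exists_root_sum_quadratic (R := F)
    (f := Polynomial.X ^ 2) (g := Polynomial.X ^ 2 + Polynomial.C 1)
    (Polynomial.degree_X_pow 2) (by
      rw [Polynomial.degree_add_C]
      · exact Polynomial.degree_X_pow 2
      · rw [Polynomial.degree_X_pow 2]; norm_num) hodd
  refine ⟨x, y, ?_⟩
  simp only [Polynomial.eval_add, Polynomial.eval_pow, Polynomial.eval_X, Polynomial.eval_C]
    at hxy
  linear_combination hxy

/-- over a field of prime order, `(n : F) = 0` for a prime `n` forces `Nat.card F = n` -/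
lemma card_eq_of_cast_eq_zero [Finite F] (hp : (Nat.card F).Prime) {n : ℕ} (hn : n.Prime)
    (h : (n : F) = 0) : Nat.card F = n := by
  classical
  haveI : Fintype F := Fintype.ofFinite F
  have h0 : ((Nat.card F : ℕ) : F) = 0 := by
    rw [Nat.card_eq_fintype_card]; exact Nat.cast_card_eq_zero F
  obtain ⟨p, hpc⟩ := CharP.exists F
  haveI := hpc
  have h1 : p ∣ Nat.card F := (CharP.cast_eq_zero_iff F p _).mp h0
  have h2 : p ∣ n := (CharP.cast_eq_zero_iff F p _).mp h
  have hpp : p.Prime := CharP.char_is_prime F p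
  rw [← (Nat.prime_dvd_prime_iff_eq hpp hp).mp h1, (Nat.prime_dvd_prime_iff_eq hpp hn).mp h2]

lemma exists_two_notMem (hn : 7 ≤ Fintype.card ι) (T : Finset ι) (hT : T.card ≤ 4) :
    ∃ k' k'' : ι, k' ∉ T ∧ k'' ∉ T ∧ k' ≠ k'' := by
  obtain ⟨k', -, hk'⟩ : ∃ x ∈ (Finset.univ : Finset ι), x ∉ T := by
    apply Finset.exists_mem_notMem_of_card_lt_card
    rw [Finset.card_univ]; omega
  obtain ⟨k'', -, hk''⟩ : ∃ x ∈ (Finset.univ : Finset ι), x ∉ insert k' T := by
    apply Finset.exists_mem_notMem_of_card_lt_card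
    rw [Finset.card_univ]
    have := Finset.card_insert_le k' T
    omega
  simp only [Finset.mem_insert, not_or] at hk''
  exact ⟨k', k'', hk', hk''.2, Ne.symm hk''.1⟩

/-- common end of all cases -/
lemma finish (hfr : OFr Q B c e) (hn : 7 ≤ Fintype.card ι) {a b d k : ι} (hab : a ≠ b)
    (had : a ≠ d) (hbd : b ≠ d) (x y z : F) (hq : x ^ 2 + y ^ 2 + z ^ 2 = 0)
    (hne : y ≠ 0 ∨ z ≠ 0) (hI : InZ Q B L (x • e a + y • e b + z • e d) (e k)) :
    ∃ (w : V) (k k' k'' : ι), Q w = 0 ∧ w ≠ 0 ∧ B w (e k) = 0 ∧ InZ Q B L w (e k) ∧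
      k ≠ k' ∧ k ≠ k'' ∧ k' ≠ k'' ∧ B w (e k') = 0 ∧ B w (e k'') = 0 := by
  obtain ⟨k', k'', hk', hk'', hne'⟩ :=
    exists_two_notMem hn ({a, b, d, k} : Finset ι) Finset.card_le_four
  simp only [Finset.mem_insert, Finset.mem_singleton, not_or] at hk' hk''
  refine ⟨_, k, k', k'', ?_, ?_, hI.1, hI, Ne.symm hk'.2.2.2, Ne.symm hk''.2.2.2, hne', ?_, ?_⟩
  · rw [Q_three hfr hab had hbd, hq, mul_zero]
  · intro h0
    have hb := B_three hfr (a := a) (b := b) (d := d) x y z b
    have hd := B_three hfr (a := a) (b := b) (d := d) x y z d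
    rw [h0, map_zero, LinearMap.zero_apply, if_neg hab, if_pos rfl, if_neg (Ne.symm hbd)] at hb
    rw [h0, map_zero, LinearMap.zero_apply, if_neg had, if_neg hbd, if_pos rfl] at hd
    have h2c := hfr.two_c
    rcases hne with h | h
    · apply h
      have : y * (2 * c) = 0 := by linear_combination -hb
      exact (mul_eq_zero.mp this).resolve_right h2c
    · apply h
      have : z * (2 * c) = 0 := by linear_combination -hd
      exact (mul_eq_zero.mp this).resolve_right h2c
  · rw [B_three hfr, if_neg (Ne.symm hk'.1), if_neg (Ne.symm hk'.2.1), if_neg (Ne.symm hk'.2.2.1)]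
    ring
  · rw [B_three hfr, if_neg (Ne.symm hk''.1), if_neg (Ne.symm hk''.2.1),
      if_neg (Ne.symm hk''.2.2.1)]
    ring

/-- The core of **GROW-ENDIN**. -/
theorem endin_aux (hC : GCtx Q B c e L)
    (hCONJ : ∀ {τ : V ≃ₗ[F] V}, τ ∈ L → ∀ (π : Equiv.Perm ι), (∀ i, τ (e i) = e (π i)) →
      ∀ (S : Finset ι), SgOn Q B L (VS B e S) → SgOn Q B L (VS B e (S.map π.toEmbedding)))
    (hTOR3 : (16 : F) ≠ 1 → ∀ {a b d k : ι}, a ≠ b → a ≠ k → b ≠ k → a ≠ d → b ≠ d → k ≠ d →
      SgOn Q B L (VS B e {a, b, k}) → SgOn Q B L (VS B e {a, b, d}) → ∀ va vb : F,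
      va ^ 2 + vb ^ 2 = -1 → InZ Q B L (va • e a + vb • e b + e d) (e k))
    (hn : 7 ≤ Fintype.card ι) (S : Finset ι) (hS : 3 ≤ S.card)
    (h : SgOn Q B L (VS B e S)) (h3 : S.card = 3 → Nat.card F ≠ 3) :
    ∃ (w : V) (k k' k'' : ι), Q w = 0 ∧ w ≠ 0 ∧ B w (e k) = 0 ∧ InZ Q B L w (e k) ∧
      k ≠ k' ∧ k ≠ k'' ∧ k' ≠ k'' ∧ B w (e k') = 0 ∧ B w (e k'') = 0 := by
  classical
  have hfr := hC.fr
  haveI : Finite F := Nat.finite_of_card_ne_zero hC.hp.ne_zero
  obtain ⟨va, vb, hv⟩ := exists_sq_add_sq (F := F) hfr.h2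
  have hq1 : va ^ 2 + vb ^ 2 + (1 : F) ^ 2 = 0 := by rw [hv]; ring
  by_cases h4 : 4 ≤ S.card
  · -- four distinct indices in `S`
    obtain ⟨a, b, d, ha, hb, hd, hab, had, hbd⟩ := Finset.two_lt_card_iff.mp (by omega : 2 < S.card)
    obtain ⟨i, hi, hi'⟩ : ∃ x ∈ S, x ∉ ({a, b, d} : Finset ι) := by
      apply Finset.exists_mem_notMem_of_card_lt_card
      have := Finset.card_le_three (a := a) (b := b) (c := d)
      omega
    simp only [Finset.mem_insert, Finset.mem_singleton, not_or] at hi'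
    refine finish hfr hn (k := i) hab had hbd va vb 1 hq1 (Or.inr one_ne_zero) ?_
    refine inZ_of_sgOn h (three_mem_VS hfr ha hb hd _ _ _) (e_mem_VS hfr hi)
      (by rw [Q_three hfr hab had hbd, hq1, mul_zero]) ?_
    rw [B_three hfr, if_neg (Ne.symm hi'.1), if_neg (Ne.symm hi'.2.1), if_neg (Ne.symm hi'.2.2)]
    ring
  · have hS3 : S.card = 3 := by omega
    have hF3 := h3 hS3
    obtain ⟨a, b, k, hab, hak, hbk, hSeq⟩ := Finset.card_eq_three.mp hS3
    have haS : a ∈ S := by rw [hSeq]; simp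
    have hbS : b ∈ S := by rw [hSeq]; simp
    have hkS : k ∈ S := by rw [hSeq]; simp
    by_cases h16 : (16 : F) = 1
    · -- then `5 = 0` and `-1 = 2 ^ 2`
      have h15 : (3 : F) * 5 = 0 := by linear_combination h16
      have h5 : (5 : F) = 0 := by
        rcases mul_eq_zero.mp h15 with h | h
        · exfalso
          apply hF3
          exact card_eq_of_cast_eq_zero hC.hp Nat.prime_three (by exact_mod_cast h)
        · exact h
      have hq2 : (2 : F) ^ 2 + (1 : F) ^ 2 + (0 : F) ^ 2 = 0 := by linear_combination h5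
      refine finish hfr hn (k := k) hab hak hbk 2 1 0 hq2 (Or.inl one_ne_zero) ?_
      refine inZ_of_sgOn h (three_mem_VS hfr haS hbS hkS _ _ _) (e_mem_VS hfr hkS)
        (by rw [Q_three hfr hab hak hbk, hq2, mul_zero]) ?_
      rw [B_three hfr, if_neg hak, if_neg hbk, if_pos rfl]
      ring
    · -- the torus trick
      obtain ⟨d, f, hd, hf, hdf⟩ := exists_two_notMem hn S (by omega)
      have hda : d ≠ a := fun hh => hd (hh ▸ haS)
      have hdb : d ≠ b := fun hh => hd (hh ▸ hbS)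
      have hdk : d ≠ k := fun hh => hd (hh ▸ hkS)
      have hfa : f ≠ a := fun hh => hf (hh ▸ haS)
      have hfb : f ≠ b := fun hh => hf (hh ▸ hbS)
      have hfk : f ≠ k := fun hh => hf (hh ▸ hkS)
      obtain ⟨τ, hτL, hτk, hτd, hτf, hτo⟩ := hC.h3 k d f (Ne.symm hdk) (Ne.symm hfk) hdf
      obtain ⟨π, hπdef⟩ : ∃ π : Equiv.Perm ι, π = Equiv.swap k d * Equiv.swap d f := ⟨_, rfl⟩
      have hπk : π k = d := by
        rw [hπdef, Equiv.Perm.mul_apply, Equiv.swap_apply_of_ne_of_ne (Ne.symm hdk) (Ne.symm hfk),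
          Equiv.swap_apply_left]
      have hπd : π d = f := by
        rw [hπdef, Equiv.Perm.mul_apply, Equiv.swap_apply_left,
          Equiv.swap_apply_of_ne_of_ne hfk (Ne.symm hdf)]
      have hπf : π f = k := by
        rw [hπdef, Equiv.Perm.mul_apply, Equiv.swap_apply_right, Equiv.swap_apply_right]
      have hπo : ∀ i, i ≠ k → i ≠ d → i ≠ f → π i = i := by
        intro i hik hid hif
        rw [hπdef, Equiv.Perm.mul_apply, Equiv.swap_apply_of_ne_of_ne hid hif,
          Equiv.swap_apply_of_ne_of_ne hik hid]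
      have hπ : ∀ i, τ (e i) = e (π i) := by
        intro i
        by_cases hik : i = k
        · rw [hik, hπk, hτk]
        by_cases hid : i = d
        · rw [hid, hπd, hτd]
        by_cases hif : i = f
        · rw [hif, hπf, hτf]
        rw [hπo i hik hid hif, hτo i hik hid hif]
      have hmap : S.map π.toEmbedding = {a, b, d} := by
        rw [hSeq, Finset.map_insert, Finset.map_insert, Finset.map_singleton]
        simp only [Equiv.coe_toEmbedding]
        rw [hπk, hπo a hak (Ne.symm hda) (Ne.symm hfa),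
          hπo b hbk (Ne.symm hdb) (Ne.symm hfb)]
      have h2 : SgOn Q B L (VS B e {a, b, d}) := by
        have := hCONJ hτL π hπ S h
        rwa [hmap] at this
      have h1 : SgOn Q B L (VS B e {a, b, k}) := by rwa [hSeq] at h
      have hT := hTOR3 h16 hab hak hbk (Ne.symm hda) (Ne.symm hdb) (Ne.symm hdk) h1 h2 va vb hv
      have hT' : InZ Q B L (va • e a + vb • e b + (1 : F) • e d) (e k) := by
        rwa [one_smul]
      exact finish hfr hn hab (Ne.symm hda) (Ne.symm hdb) va vb 1 hq1 (Or.inr one_ne_zero) hT'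

end Cfsg.Agent.Lib.Helper47_GROW_ENDINaux
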