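import Mathlib
import Cfsg.Agent.Lib.Helper32_OFDefs
import Cfsg.Agent.Lib.Helper32_OFRoot
import Cfsg.Agent.Lib.Helper31_OF_API
import Cfsg.Agent.Lib.Helper94_OrthVec
import Cfsg.Agent.Lib.Helper94_OrthNondeg
import Cfsg.Agent.Lib.Helper80_GrowDefs
import Cfsg.Agent.Lib.Helper88_GROW_WEYL
import Cfsg.Agent.Lib.Helper47_GROW_ENDINaux

set_option autoImplicit false
set_option linter.unusedSimpArgs false
set_option linter.unusedVariables false
set_option linter.unusedSectionVars false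

/-!
GROW market (helper80 architect), package **GROW-TOR3** (parallel copy, used by
`Helper47_GROW_ENDIN`): the torus trick.  (helper47)
-/

namespace Cfsg.Agent.Lib.Helper47_GROW_TOR3

open Module Cfsg.Agent.Lib.Helper94_Symp Cfsg.Agent.Lib.Helper94_OrthSmall
  Cfsg.Agent.Lib.Helper94_OrthSiegel Cfsg.Agent.Lib.Helper94_OrthSiegel2
  Cfsg.Agent.Lib.Helper94_OrthNondeg Cfsg.Agent.Lib.Helper94_OrthVec
  Cfsg.Agent.Lib.Helper32_OFDefs Cfsg.Agent.Lib.Helper32_OFRoot
  Cfsg.Agent.Lib.Helper80_GrowDefs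

variable {F V : Type*} [Field F] [AddCommGroup V] [Module F V]
variable {Q : V → F} {B : LinearMap.BilinForm F V}
variable {ι : Type*} [Fintype ι] [DecidableEq ι] {c : F} {e : ι → V}
variable {L : Subgroup (V ≃ₗ[F] V)}

lemma inv_apply_eq {g : V ≃ₗ[F] V} {x y : V} (h : g x = y) : g⁻¹ y = x := by
  rw [← h]; exact inv_apply_apply' g x

lemma Q_of_B (hfr : OFr Q B c e) {x : V} {r : F} (h : B x x = 2 * r) : Q x = r := by
  have h1 := B_self Q B hfr.hQs hfr.hQp x
  rw [h] at h1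
  exact (mul_left_cancel₀ hfr.h2 h1).symm

/-- **GROW-TOR3** -/
theorem tor3 (hC : GCtx Q B c e L) (h16 : (16 : F) ≠ 1) {a b d k : ι} (hab : a ≠ b)
    (hak : a ≠ k) (hbk : b ≠ k) (had : a ≠ d) (hbd : b ≠ d) (hkd : k ≠ d)
    (h1 : SgOn Q B L (VS B e {a, b, k})) (h2 : SgOn Q B L (VS B e {a, b, d})) (va vb : F)
    (hv : va ^ 2 + vb ^ 2 = -1) : InZ Q B L (va • e a + vb • e b + e d) (e k) := by
  classical
  have hfr := hC.fr
  have hFin : Finite F := Nat.finite_of_card_ne_zero hC.hp.ne_zero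
  have hFD : FiniteDimensional F V := by
    have htop : Submodule.span F (Set.range e) = ⊤ := by
      rw [eq_top_iff]
      intro x _
      rw [hfr.exp x]
      exact Submodule.sum_mem _ fun i _ =>
        Submodule.smul_mem _ _ (Submodule.subset_span ⟨i, rfl⟩)
    exact ⟨⟨Finset.univ.image e, by
      rw [Finset.coe_image, Finset.coe_univ, Set.image_univ, htop]⟩⟩
  have hQs := hfr.hQs
  have hQp := hfr.hQp
  have h2F := hfr.h2
  have hc0 := hfr.c0
  -- the vectors
  obtain ⟨v, hvdef⟩ : ∃ v : V, v = va • e a + vb • e b := ⟨_, rfl⟩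
  obtain ⟨v', hv'def⟩ : ∃ v' : V, v' = vb • e a - va • e b := ⟨_, rfl⟩
  obtain ⟨wp, hwpdef⟩ : ∃ wp : V, wp = e k + v' := ⟨_, rfl⟩
  obtain ⟨wm, hwmdef⟩ : ∃ wm : V, wm = e k - v' := ⟨_, rfl⟩
  obtain ⟨w, hwdef⟩ : ∃ w : V, w = v + e d := ⟨_, rfl⟩
  have hgoal : va • e a + vb • e b + e d = w := by rw [hwdef, hvdef]
  rw [hgoal]
  -- bilinear form values
  have hBaa := hfr.Bee a
  have hBbb := hfr.Bee b
  have hBkk := hfr.Bee k
  have hBdd := hfr.Bee d
  have hBab := hfr.orth a b hab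
  have hBba := hfr.orth b a (Ne.symm hab)
  have hBak := hfr.orth a k hak
  have hBka := hfr.orth k a (Ne.symm hak)
  have hBbk := hfr.orth b k hbk
  have hBkb := hfr.orth k b (Ne.symm hbk)
  have hBad := hfr.orth a d had
  have hBda := hfr.orth d a (Ne.symm had)
  have hBbd := hfr.orth b d hbd
  have hBdb := hfr.orth d b (Ne.symm hbd)
  have hBkd := hfr.orth k d hkd
  have hBdk := hfr.orth d k (Ne.symm hkd)
  have hvv : B v v = 2 * (-c) := by
    rw [hvdef]
    simp only [map_add, map_sub, map_smul, LinearMap.add_apply, LinearMap.sub_apply,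
      LinearMap.smul_apply, smul_eq_mul, hBaa, hBbb, hBab, hBba]
    linear_combination (2 * c) * hv
  have hv'v' : B v' v' = 2 * (-c) := by
    rw [hv'def]
    simp only [map_add, map_sub, map_smul, LinearMap.add_apply, LinearMap.sub_apply,
      LinearMap.smul_apply, smul_eq_mul, hBaa, hBbb, hBab, hBba]
    linear_combination (2 * c) * hv
  have hvv' : B v v' = 0 := by
    rw [hvdef, hv'def]
    simp only [map_add, map_sub, map_smul, LinearMap.add_apply, LinearMap.sub_apply,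
      LinearMap.smul_apply, smul_eq_mul, hBaa, hBbb, hBab, hBba]
    ring
  have hv'v : B v' v = 0 := by rw [hfr.symm, hvv']
  have hkv : B (e k) v = 0 := by
    rw [hvdef]
    simp only [map_add, map_smul, smul_eq_mul, hBka, hBkb]
    ring
  have hvk : B v (e k) = 0 := by rw [hfr.symm, hkv]
  have hkv' : B (e k) v' = 0 := by
    rw [hv'def]
    simp only [map_sub, map_smul, smul_eq_mul, hBka, hBkb]
    ring
  have hv'k : B v' (e k) = 0 := by rw [hfr.symm, hkv']
  have hdv : B (e d) v = 0 := by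
    rw [hvdef]
    simp only [map_add, map_smul, smul_eq_mul, hBda, hBdb]
    ring
  have hvd : B v (e d) = 0 := by rw [hfr.symm, hdv]
  have hdv' : B (e d) v' = 0 := by
    rw [hv'def]
    simp only [map_sub, map_smul, smul_eq_mul, hBda, hBdb]
    ring
  have hv'd : B v' (e d) = 0 := by rw [hfr.symm, hdv']
  -- quadratic values
  have hQv : Q v = -c := Q_of_B hfr hvv
  have hQwp : Q wp = 0 := by
    apply Q_of_B hfr
    rw [hwpdef]
    simp only [map_add, LinearMap.add_apply, hBkk, hkv', hv'k, hv'v']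
    ring
  have hQwm : Q wm = 0 := by
    apply Q_of_B hfr
    rw [hwmdef]
    simp only [map_sub, LinearMap.sub_apply, hBkk, hkv', hv'k, hv'v']
    ring
  have hQw : Q w = 0 := by
    apply Q_of_B hfr
    rw [hwdef]
    simp only [map_add, LinearMap.add_apply, hBdd, hdv, hvd, hvv]
    ring
  have hβ : B wp wm = 4 * c := by
    rw [hwpdef, hwmdef]
    simp only [map_add, map_sub, LinearMap.add_apply, LinearMap.sub_apply, hBkk, hkv', hv'k,
      hv'v']
    ring
  have hwpv : B wp v = 0 := by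
    rw [hwpdef]
    simp only [map_add, LinearMap.add_apply, hkv, hv'v]
    ring
  have hwmv : B wm v = 0 := by
    rw [hwmdef]
    simp only [map_sub, LinearMap.sub_apply, hkv, hv'v]
    ring
  have hdwp : B (e d) wp = 0 := by
    rw [hwpdef]
    simp only [map_add, hBdk, hdv']
    ring
  have hdwm : B (e d) wm = 0 := by
    rw [hwmdef]
    simp only [map_sub, hBdk, hdv']
    ring
  have hwv' : B w v' = 0 := by
    rw [hwdef]
    simp only [map_add, LinearMap.add_apply, hvv', hdv']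
    ring
  -- memberships
  have hS1 : ∀ x y z : F, x • e a + y • e b + z • e k ∈ VS B e {a, b, k} := fun x y z =>
    Cfsg.Agent.Lib.Helper47_GROW_ENDINaux.three_mem_VS hfr (by simp) (by simp) (by simp) x y z
  have hS2 : ∀ x y z : F, x • e a + y • e b + z • e d ∈ VS B e {a, b, d} := fun x y z =>
    Cfsg.Agent.Lib.Helper47_GROW_ENDINaux.three_mem_VS hfr (by simp) (by simp) (by simp) x y z
  have hv1 : v ∈ VS B e {a, b, k} := by
    have := hS1 va vb 0
    rwa [zero_smul, add_zero, ← hvdef] at this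
  have hwp1 : wp ∈ VS B e {a, b, k} := by
    have := hS1 vb (-va) 1
    have e1 : vb • e a + (-va) • e b + (1 : F) • e k = wp := by
      rw [hwpdef, hv'def]; module
    rwa [e1] at this
  have hwm1 : wm ∈ VS B e {a, b, k} := by
    have := hS1 (-vb) va 1
    have e1 : (-vb) • e a + va • e b + (1 : F) • e k = wm := by
      rw [hwmdef, hv'def]; module
    rwa [e1] at this
  have hw2 : w ∈ VS B e {a, b, d} := by
    have := hS2 va vb 1
    have e1 : va • e a + vb • e b + (1 : F) • e d = w := by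
      rw [hwdef, hvdef]; module
    rwa [e1] at this
  have hv'2 : v' ∈ VS B e {a, b, d} := by
    have := hS2 vb (-va) 0
    have e1 : vb • e a + (-va) • e b + (0 : F) • e d = v' := by
      rw [hv'def]; module
    rwa [e1] at this
  -- the Weyl elements
  have hIp : InZ Q B L wp v :=
    Cfsg.Agent.Lib.Helper47_GROW_ENDINaux.inZ_of_sgOn h1 hwp1 hv1 hQwp hwpv
  have hIm : InZ Q B L wm v :=
    Cfsg.Agent.Lib.Helper47_GROW_ENDINaux.inZ_of_sgOn h1 hwm1 hv1 hQwm hwmv
  have hβ0 : B wp wm ≠ 0 := by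
    rw [hβ]
    exact mul_ne_zero (by
      have : (4 : F) = 2 * 2 := by norm_num
      rw [this]; exact mul_ne_zero h2F h2F) hc0
  have hq0 : Q v ≠ 0 := by rw [hQv]; exact neg_ne_zero.mpr hc0
  obtain ⟨n1, hn1def⟩ : ∃ n1 : V ≃ₗ[F] V, n1 = weyl Q B wp wm v 1 := ⟨_, rfl⟩
  obtain ⟨n2, hn2def⟩ : ∃ n2 : V ≃ₗ[F] V, n2 = weyl Q B wp wm v 2 := ⟨_, rfl⟩
  have hn1L : n1 ∈ L := by rw [hn1def]; exact weyl_mem hIp hIm 1
  have hn2L : n2 ∈ L := by rw [hn2def]; exact weyl_mem hIp hIm 2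
  obtain ⟨a1, b1, c1, d1, o1⟩ := Cfsg.Agent.Lib.Helper88_GROW_WEYL.weyl_spec hQs hQp hQwp hQwm
    hβ0 hwpv hwmv hq0 (t := 1) one_ne_zero
  obtain ⟨a2, b2, c2, d2, o2⟩ := Cfsg.Agent.Lib.Helper88_GROW_WEYL.weyl_spec hQs hQp hQwp hQwm
    hβ0 hwpv hwmv hq0 (t := 2) h2F
  rw [← hn1def] at a1 b1 c1 d1 o1
  rw [← hn2def] at a2 b2 c2 d2 o2
  obtain ⟨κ1, hκ1⟩ : ∃ κ1 : F, κ1 = B wp wm * Q v * 1 * 1 := ⟨_, rfl⟩
  obtain ⟨κ2, hκ2⟩ : ∃ κ2 : F, κ2 = B wp wm * Q v * 2 * 2 := ⟨_, rfl⟩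
  rw [← hκ1] at a1 b1
  rw [← hκ2] at a2 b2
  have hκ10 : κ1 ≠ 0 := by
    rw [hκ1, mul_one, mul_one]; exact mul_ne_zero hβ0 hq0
  have hκ21 : κ2 = 4 * κ1 := by rw [hκ1, hκ2]; ring
  have h40 : (4 : F) ≠ 0 := by
    have : (4 : F) = 2 * 2 := by norm_num
    rw [this]; exact mul_ne_zero h2F h2F
  have hκ20 : κ2 ≠ 0 := by rw [hκ21]; exact mul_ne_zero h40 hκ10
  -- the torus element
  obtain ⟨g, hgdef⟩ : ∃ g : V ≃ₗ[F] V, g = n2 * n1⁻¹ := ⟨_, rfl⟩
  have hgL : g ∈ L := by rw [hgdef]; exact L.mul_mem hn2L (L.inv_mem hn1L)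
  have hgO : g ∈ oG Q := by rw [hgdef]; exact (oG Q).mul_mem o2 ((oG Q).inv_mem o1)
  have hn1wp : n1⁻¹ wp = (-κ1)⁻¹ • wm := by
    apply inv_apply_eq
    rw [map_smul, b1, smul_smul, inv_mul_cancel₀ (neg_ne_zero.mpr hκ10), one_smul]
  have hn1wm : n1⁻¹ wm = (-κ1) • wp := by
    apply inv_apply_eq
    rw [map_smul, a1, smul_smul]
    have : -κ1 * -κ1⁻¹ = 1 := by field_simp
    rw [this, one_smul]
  have hn1v : n1⁻¹ v = -v := by
    apply inv_apply_eq
    rw [map_neg, c1, neg_neg]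
  have hdd1 : n1 (e d) = e d := d1 (e d) hdwp hdwm hdv
  have hdd2 : n2 (e d) = e d := d2 (e d) hdwp hdwm hdv
  have hn1d : n1⁻¹ (e d) = e d := inv_apply_eq hdd1
  have hgwp : g wp = (4 : F) • wp := by
    rw [hgdef, LinearEquiv.mul_apply, hn1wp, map_smul, b2, smul_smul]
    congr 1
    rw [hκ21]
    field_simp
  obtain ⟨s, hs⟩ : ∃ s : F, 4 * s = 1 := ⟨4⁻¹, mul_inv_cancel₀ h40⟩
  have hgwm : g wm = s • wm := by
    rw [hgdef, LinearEquiv.mul_apply, hn1wm, map_smul, a2, smul_smul]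
    congr 1
    rw [hκ21]
    have hs' : s = 4⁻¹ := by
      rw [eq_comm, inv_eq_iff_eq_inv, eq_comm]
      exact (eq_inv_of_mul_eq_one_left hs).symm ▸ rfl
    rw [hs']
    field_simp
  have hgv : g v = v := by
    rw [hgdef, LinearEquiv.mul_apply, hn1v, map_neg, c2, neg_neg]
  have hgd : g (e d) = e d := by
    rw [hgdef, LinearEquiv.mul_apply, hn1d, hdd2]
  have hgw : g w = w := by rw [hwdef, map_add, hgv, hgd]
  -- transport
  have hI0 : InZ Q B L w v' :=
    Cfsg.Agent.Lib.Helper47_GROW_ENDINaux.inZ_of_sgOn h2 hw2 hv'2 hQw hwv'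
  have hI1 : InZ Q B L w (g v') := by
    have := InZ_map hQs hQp hgL hgO hQw hI0
    rwa [hgw] at this
  have h2v' : (2 : F) • v' = wp - wm := by rw [hwpdef, hwmdef]; module
  have h2X : (2 : F) • g v' = (4 : F) • wp - s • wm := by
    rw [← map_smul, h2v', map_sub, hgwp, hgwm]
  have h8 : (8 : F) • g v' = (16 : F) • wp - wm := by
    calc (8 : F) • g v' = (4 : F) • ((2 : F) • g v') := by
          rw [smul_smul]; norm_num
      _ = (4 : F) • ((4 : F) • wp - s • wm) := by rw [h2X]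
      _ = (16 : F) • wp - (4 * s) • wm := by
          rw [smul_sub, smul_smul, smul_smul]; norm_num
      _ = (16 : F) • wp - wm := by rw [hs, one_smul]
  have h15 : (8 : F) • g v' - (17 : F) • v' = (15 : F) • e k := by
    rw [h8, hwpdef, hwmdef]; module
  have h150 : (15 : F) ≠ 0 := by
    intro h
    apply h16
    linear_combination h
  have hfin : InZ Q B L w ((15 : F)⁻¹ • ((8 : F) • g v' - (17 : F) • v')) :=
    InZ_smul _ (InZ_sub hQs hQp hQw (InZ_smul 8 hI1) (InZ_smul 17 hI0))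
  rwa [h15, smul_smul, inv_mul_cancel₀ h150, one_smul] at hfin

end Cfsg.Agent.Lib.Helper47_GROW_TOR3
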