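import Mathlib
import Cfsg.Agent.Lib.Helper32_OFDefs
import Cfsg.Agent.Lib.Helper32_OFRoot
import Cfsg.Agent.Lib.Helper31_OF_API
import Cfsg.Agent.Lib.Helper94_OrthVec
import Cfsg.Agent.Lib.Helper94_OrthNondeg
import Cfsg.Agent.Lib.Helper80_GrowDefs

set_option autoImplicit false
set_option linter.unusedSimpArgs false
set_option linter.unusedVariables false
set_option linter.unusedSectionVars false

/-!
# GROW market (architect helper80, rows S5679 + S5696): package GROW-CONJ (helper99)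

`SgOn Q B L (VS B e S)` is transported by an element `τ ∈ L` inducing the permutation `π` of the
frame: `τ` maps the coordinate subspace `VS B e S` onto `VS B e (π S)`.
-/

namespace Cfsg.Agent.Lib.Helper99_GROW_CONJ

open Module Cfsg.Agent.Lib.Helper94_Symp Cfsg.Agent.Lib.Helper94_OrthSmall
  Cfsg.Agent.Lib.Helper94_OrthSiegel Cfsg.Agent.Lib.Helper94_OrthSiegel2
  Cfsg.Agent.Lib.Helper94_OrthNondeg Cfsg.Agent.Lib.Helper94_OrthVec
  Cfsg.Agent.Lib.Helper32_OFDefs Cfsg.Agent.Lib.Helper32_OFRoot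
  Cfsg.Agent.Lib.Helper80_GrowDefs

variable {F V : Type*} [Field F] [AddCommGroup V] [Module F V]
variable {Q : V → F} {B : LinearMap.BilinForm F V}
variable {ι : Type*} [Fintype ι] [DecidableEq ι] {c : F} {e : ι → V}
variable {L : Subgroup (V ≃ₗ[F] V)}

/-- the inverse of a frame permutation `τ` maps `VS B e (π S)` into `VS B e S` -/
theorem inv_mem_VS (hQp : ∀ u v : V, Q (u + v) = Q u + Q v + B u v) {τ : V ≃ₗ[F] V}
    (hτO : τ ∈ oG Q) (π : Equiv.Perm ι) (hπ : ∀ i, τ (e i) = e (π i)) (S : Finset ι) {y : V}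
    (hy : y ∈ VS B e (S.map π.toEmbedding)) : τ⁻¹ y ∈ VS B e S := by
  intro i hi
  have h1 : B (τ⁻¹ y) (e i) = B y (e (π i)) := by
    rw [← oG_B Q B hQp hτO (τ⁻¹ y) (e i), apply_inv_apply', hπ]
  rw [h1]
  apply hy
  intro hmem
  apply hi
  have h2 : π.toEmbedding i ∈ S.map π.toEmbedding := hmem
  exact (Finset.mem_map' π.toEmbedding).mp h2

theorem sgOn_conj (hC : GCtx Q B c e L) {τ : V ≃ₗ[F] V} (hτ : τ ∈ L) (π : Equiv.Perm ι)
    (hπ : ∀ i, τ (e i) = e (π i)) (S : Finset ι) (h : SgOn Q B L (VS B e S)) :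
    SgOn Q B L (VS B e (S.map π.toEmbedding)) := by
  have hfr := hC.fr
  have hQs := hfr.hQs
  have hQp := hfr.hQp
  have hτO : τ ∈ oG Q := hC.hLO hτ
  have hτO' : τ⁻¹ ∈ oG Q := (oG Q).inv_mem hτO
  intro u hu z hz hQu huz
  have hu' : τ⁻¹ u ∈ VS B e S := inv_mem_VS hQp hτO π hπ S hu
  have hz' : τ⁻¹ z ∈ VS B e S := inv_mem_VS hQp hτO π hπ S hz
  have hQu' : Q (τ⁻¹ u) = 0 := by rw [hτO' u, hQu]
  have huz' : B (τ⁻¹ u) (τ⁻¹ z) = 0 := by rw [oG_B Q B hQp hτO', huz]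
  have h1 : sieg Q B (τ⁻¹ u) (τ⁻¹ z) ∈ L := h _ hu' _ hz' hQu' huz'
  have h2 := conj_sieg Q B hQs hQp hτO hQu' huz'
  rw [apply_inv_apply', apply_inv_apply'] at h2
  rw [← h2]
  exact L.mul_mem (L.mul_mem hτ h1) (L.inv_mem hτ)

end Cfsg.Agent.Lib.Helper99_GROW_CONJ
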