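import Mathlib
import Cfsg.Agent.Lib.Helper32_OFDefs
import Cfsg.Agent.Lib.Helper32_OFRoot
import Cfsg.Agent.Lib.Helper31_OF_API
import Cfsg.Agent.Lib.Helper94_OrthVec
import Cfsg.Agent.Lib.Helper94_OrthNondeg
import Cfsg.Agent.Lib.Helper80_GrowDefs
import Cfsg.Agent.Lib.Helper99_GROW_CONJ
import Cfsg.Agent.Lib.Helper47_GROW_ENDINaux
import Cfsg.Agent.Lib.Helper47_GROW_TOR3

set_option autoImplicit false
set_option linter.unusedSimpArgs false
set_option linter.unusedVariables false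
set_option linter.unusedSectionVars false

/-!
GROW market (helper80 architect), package **GROW-ENDIN**: from the Siegel elements of a
coordinate subspace `V_S`, `|S| ≥ 3`, to an input of GROW-END.  (helper47)
-/

namespace Cfsg.Agent.Lib.Helper47_GROW_ENDIN

open Module Cfsg.Agent.Lib.Helper94_Symp Cfsg.Agent.Lib.Helper94_OrthSmall
  Cfsg.Agent.Lib.Helper94_OrthSiegel Cfsg.Agent.Lib.Helper94_OrthSiegel2
  Cfsg.Agent.Lib.Helper94_OrthNondeg Cfsg.Agent.Lib.Helper94_OrthVec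
  Cfsg.Agent.Lib.Helper32_OFDefs Cfsg.Agent.Lib.Helper32_OFRoot
  Cfsg.Agent.Lib.Helper80_GrowDefs

variable {F V : Type*} [Field F] [AddCommGroup V] [Module F V]
variable {Q : V → F} {B : LinearMap.BilinForm F V}
variable {ι : Type*} [Fintype ι] [DecidableEq ι] {c : F} {e : ι → V}
variable {L : Subgroup (V ≃ₗ[F] V)}

/-- **GROW-ENDIN** -/
theorem endin (hC : GCtx Q B c e L) (hn : 7 ≤ Fintype.card ι) (S : Finset ι) (hS : 3 ≤ S.card)
    (h : SgOn Q B L (VS B e S)) (h3 : S.card = 3 → Nat.card F ≠ 3) :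
    ∃ (w : V) (k k' k'' : ι), Q w = 0 ∧ w ≠ 0 ∧ B w (e k) = 0 ∧ InZ Q B L w (e k) ∧
      k ≠ k' ∧ k ≠ k'' ∧ k' ≠ k'' ∧ B w (e k') = 0 ∧ B w (e k'') = 0 :=
  Cfsg.Agent.Lib.Helper47_GROW_ENDINaux.endin_aux hC
    (fun hτ π hπ S h => Cfsg.Agent.Lib.Helper99_GROW_CONJ.sgOn_conj hC hτ π hπ S h)
    (fun h16 _ _ _ _ hab hak hbk had hbd hkd h1 h2 va vb hv =>
      Cfsg.Agent.Lib.Helper47_GROW_TOR3.tor3 hC h16 hab hak hbk had hbd hkd h1 h2 va vb hv)
    hn S hS h h3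

end Cfsg.Agent.Lib.Helper47_GROW_ENDIN
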