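/-
helper47: package GROSS-GG2 of helper9's S3795 (Gross): coprime action lemmas for a minimal configuration.
-/
import Mathlib
import Cfsg.Agent.Lib.Helper9_GrossDefs

set_option autoImplicit false
set_option linter.unusedSectionVars false
set_option linter.unusedVariables false

namespace Cfsg.Agent.Lib.Helper47_Gross_GG2

open Module Cfsg.Agent.Lib.Helper9_GrossDefs
open scoped commutatorElement

universe u

/-- invariance under conjugation by `τ` gives invariance under conjugation by its powers -/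
theorem conj_pow_mem {G : Type*} [Group G] (H : Subgroup G) (τ : G)
    (h : ∀ a ∈ H, τ * a * τ⁻¹ ∈ H) (k : ℕ) : ∀ a ∈ H, τ ^ k * a * (τ ^ k)⁻¹ ∈ H := by
  induction k with
  | zero => intro a ha; simpa using ha
  | succ k ih =>
    intro a ha
    have h1 := h _ (ih a ha)
    have h2 : τ ^ (k + 1) * a * (τ ^ (k + 1))⁻¹ = τ * (τ ^ k * a * (τ ^ k)⁻¹) * τ⁻¹ := by
      rw [pow_succ']; group
    rw [h2]
    exact h1

/-- invariance under conjugation by `τ` gives invariance under conjugation by `τ⁻¹` (finite order) -/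
theorem conj_inv_mem {G : Type*} [Group G] [Finite G] (H : Subgroup G) (τ : G)
    (h : ∀ a ∈ H, τ * a * τ⁻¹ ∈ H) : ∀ a ∈ H, τ⁻¹ * a * τ ∈ H := by
  intro a ha
  have hpos : 0 < orderOf τ := orderOf_pos τ
  have h1 : τ ^ (orderOf τ - 1) = τ⁻¹ := by
    apply eq_inv_of_mul_eq_one_left
    rw [← pow_succ, Nat.sub_add_cancel hpos, pow_orderOf_eq_one]
  have h2 := conj_pow_mem H τ h (orderOf τ - 1) a ha
  rw [h1, inv_inv] at h2
  exact h2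

/-- the key coprimality lemma: a commutator `c a c⁻¹ a⁻¹` lying in `fixF` with `c ∈ Q₁` is trivial -/
theorem comm_eq_one {G : Type*} [Group G] [Finite G] {q r₁ : ℕ} [Fact q.Prime] [Fact r₁.Prime]
    {Q₁ R₁ : Subgroup G} (hqr : q ≠ r₁) (hQ : IsPGroup q Q₁) (hR : IsPGroup r₁ R₁) (c : G)
    (hc : c ∈ Q₁) (a : G) (h : c * a * c⁻¹ * a⁻¹ ∈ fixF Q₁ R₁) : c * a * c⁻¹ * a⁻¹ = 1 := by
  set f := c * a * c⁻¹ * a⁻¹ with hf
  obtain ⟨hfR, hfc⟩ := mem_fixF.1 h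
  have hcf : c * f = f * c := hfc c hc
  have hconj : c * a * c⁻¹ = f * a := by rw [hf]; group
  have hpow : ∀ k : ℕ, c ^ k * a * (c ^ k)⁻¹ = f ^ k * a := by
    intro k
    induction k with
    | zero => simp
    | succ k ih =>
      have h1 : c ^ (k + 1) * a * (c ^ (k + 1))⁻¹ = c * (c ^ k * a * (c ^ k)⁻¹) * c⁻¹ := by
        rw [pow_succ']; group
      rw [h1, ih]
      have h2 : c * (f ^ k * a) * c⁻¹ = (c * f ^ k * c⁻¹) * (c * a * c⁻¹) := by group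
      have h3 : c * f ^ k * c⁻¹ = f ^ k := by
        have : Commute c (f ^ k) := (show Commute c f from hcf).pow_right k
        rw [this.eq]; group
      rw [h2, h3, hconj, pow_succ, mul_assoc (f ^ k) f a]
  obtain ⟨j, hj⟩ := hQ ⟨c, hc⟩
  have hcj : c ^ (q ^ j) = 1 := by
    have := congrArg Subtype.val hj
    simpa using this
  obtain ⟨i, hi⟩ := hR ⟨f, hfR⟩
  have hfi : f ^ (r₁ ^ i) = 1 := by
    have := congrArg Subtype.val hi
    simpa using this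
  have hfj : f ^ (q ^ j) = 1 := by
    have h4 := hpow (q ^ j)
    rw [hcj] at h4
    simp only [one_mul, inv_one, mul_one] at h4
    exact (mul_eq_right).1 h4.symm
  have hq : q.Prime := Fact.out
  have hr : r₁.Prime := Fact.out
  have hcop : Nat.Coprime (q ^ j) (r₁ ^ i) :=
    Nat.Coprime.pow j i ((Nat.coprime_primes hq hr).2 hqr)
  have h5 : f ^ Nat.gcd (q ^ j) (r₁ ^ i) = 1 := pow_gcd_eq_one.2 ⟨hfj, hfi⟩
  rw [hcop.gcd_eq_one, pow_one] at h5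
  exact h5

section GG2
variable {G : Type*} [Group G] [Finite G] {q r₁ N : ℕ} [Fact q.Prime] [Fact r₁.Prime]
  {τ : G} {Q₁ R₁ : Subgroup G}

theorem fix_le (hq2 : q ≠ 2) (cfg : GCfg q r₁ N τ Q₁ R₁) (R₂ : Subgroup G) (hR₂ : R₂ ≤ R₁)
    (hτR₂ : ∀ a ∈ R₂, τ * a * τ⁻¹ ∈ R₂) (hQR₂ : ∀ g ∈ Q₁, ∀ a ∈ R₂, g * a * g⁻¹ ∈ R₂)
    (hne : R₂ ≠ R₁) : R₂ ≤ fixF Q₁ R₁ := by
  classical
  set τ₀ := τ ^ 2 ^ N with hτ₀
  have hτ₀sq : τ₀ * τ₀ = 1 := by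
    rw [hτ₀, ← pow_add, ← two_mul, ← pow_succ']
    exact cfg.hτ
  have hτ₀inv : τ₀⁻¹ = τ₀ := inv_eq_of_mul_eq_one_right hτ₀sq
  -- `d_g ∈ Q₁`
  have hdQ : ∀ g ∈ Q₁, τ₀ * g * τ₀⁻¹ * g⁻¹ ∈ Q₁ := fun g hg =>
    Q₁.mul_mem (conj_pow_mem Q₁ τ cfg.hτQ (2 ^ N) g hg) (Q₁.inv_mem hg)
  -- the centraliser of `R₂` in `Q₁`
  let T : Subgroup G := Q₁ ⊓ Subgroup.centralizer (R₂ : Set G)
  have hTQ : T ≤ Q₁ := inf_le_left
  have hTτ : ∀ g ∈ T, τ * g * τ⁻¹ ∈ T := by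
    intro g hg
    obtain ⟨hgQ, hgC⟩ := Subgroup.mem_inf.1 hg
    refine Subgroup.mem_inf.2 ⟨cfg.hτQ g hgQ, ?_⟩
    rw [Subgroup.mem_centralizer_iff] at hgC ⊢
    intro a ha
    have h1 := hgC _ (conj_inv_mem R₂ τ hτR₂ a ha)
    calc a * (τ * g * τ⁻¹) = τ * ((τ⁻¹ * a * τ) * g) * τ⁻¹ := by group
      _ = τ * (g * (τ⁻¹ * a * τ)) * τ⁻¹ := by rw [h1]
      _ = τ * g * τ⁻¹ * a := by group
  by_cases hT : T = Q₁
  · -- `Q₁` centralises `R₂`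
    intro a ha
    rw [mem_fixF]
    refine ⟨hR₂ ha, fun g hg => ?_⟩
    have hgT : g ∈ T := by rw [hT]; exact hg
    have hgC := (Subgroup.mem_inf.1 hgT).2
    rw [Subgroup.mem_centralizer_iff] at hgC
    exact (hgC a ha).symm
  · exfalso
    have hm2 := cfg.m2 R₂ hR₂ hτR₂ hQR₂ hne
    have hm1 := cfg.m1 T hTQ hTτ hT
    have hdT : ∀ g ∈ Q₁, τ₀ * g * τ₀⁻¹ * g⁻¹ ∈ T := by
      intro g hg
      refine Subgroup.mem_inf.2 ⟨hdQ g hg, ?_⟩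
      rw [Subgroup.mem_centralizer_iff]
      intro a ha
      exact ((hm2 g hg a ha).eq).symm
    obtain ⟨g, hg, a, ha, hna⟩ := cfg.hmoved
    apply hna
    set d := τ₀ * g * τ₀⁻¹ * g⁻¹ with hd
    have hdT' : d ∈ T := hdT g hg
    -- `d_d * d² = 1`
    have hdd : (τ₀ * d * τ₀⁻¹ * d⁻¹) * (d * d) = 1 := by
      have h1 : τ₀ * g * τ₀⁻¹ = d * g := by rw [hd]; group
      have h2 : τ₀ * (τ₀ * g * τ₀⁻¹) * τ₀⁻¹ = g := by
        rw [hτ₀inv]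
        calc τ₀ * (τ₀ * g * τ₀) * τ₀ = (τ₀ * τ₀) * g * (τ₀ * τ₀) := by group
          _ = g := by rw [hτ₀sq, one_mul, mul_one]
      rw [h1] at h2
      have h3 : τ₀ * (d * g) * τ₀⁻¹ = (τ₀ * d * τ₀⁻¹) * (τ₀ * g * τ₀⁻¹) := by group
      rw [h3, h1] at h2
      calc (τ₀ * d * τ₀⁻¹ * d⁻¹) * (d * d) = (τ₀ * d * τ₀⁻¹ * (d * g)) * g⁻¹ := by group
        _ = 1 := by rw [h2, mul_inv_cancel]
    have hdsq : Commute (d * d) a := by
      have h1 : d * d = (τ₀ * d * τ₀⁻¹ * d⁻¹)⁻¹ := eq_inv_of_mul_eq_one_right hdd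
      rw [h1]
      exact (hm1 d hdT' a ha).inv_left
    -- `d` is a power of `d²`
    obtain ⟨j, hj⟩ := cfg.hQ ⟨d, hdQ g hg⟩
    have hdj : d ^ (q ^ j) = 1 := by
      have := congrArg Subtype.val hj
      simpa using this
    have hq : q.Prime := Fact.out
    have hodd : Odd (q ^ j) := (hq.odd_of_ne_two hq2).pow
    obtain ⟨m, hm⟩ := hodd
    have hdpow : d = (d * d) ^ (m + 1) := by
      rw [← pow_two, ← pow_mul]
      have : 2 * (m + 1) = q ^ j + 1 := by omega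
      rw [this, pow_succ, hdj, one_mul]
    rw [hdpow]
    exact hdsq.pow_left (m + 1)

theorem faithful_mod (hqr : q ≠ r₁) (hQ : IsPGroup q Q₁) (hR : IsPGroup r₁ R₁) (c : G)
    (hc : c ∈ Q₁) (h : ∀ a ∈ R₁, c * a * c⁻¹ * a⁻¹ ∈ fixF Q₁ R₁) : ∀ a ∈ R₁, Commute c a := by
  intro a ha
  have h1 := comm_eq_one hqr hQ hR c hc a (h a ha)
  show c * a = a * c
  calc c * a = (c * a * c⁻¹ * a⁻¹) * (a * c) := by group
    _ = a * c := by rw [h1, one_mul]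

theorem fixed_mod (hqr : q ≠ r₁) (hQ : IsPGroup q Q₁) (hR : IsPGroup r₁ R₁)
    (hQR : ∀ g ∈ Q₁, ∀ a ∈ R₁, g * a * g⁻¹ ∈ R₁) (a : G) (ha : a ∈ R₁)
    (h : ∀ g ∈ Q₁, g * a * g⁻¹ * a⁻¹ ∈ fixF Q₁ R₁) : a ∈ fixF Q₁ R₁ := by
  rw [mem_fixF]
  refine ⟨ha, fun g hg => ?_⟩
  have h1 := comm_eq_one hqr hQ hR g hg a (h g hg)
  calc g * a = (g * a * g⁻¹ * a⁻¹) * (a * g) := by group
    _ = a * g := by rw [h1, one_mul]

end GG2

end Cfsg.Agent.Lib.Helper47_Gross_GG2
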