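/-
helper47: package GROSS-GG3 of helper9's S3795 (Gross): in a minimal configuration `R₁ / fixF` is elementary abelian.
-/
import Mathlib
import Cfsg.Agent.Lib.Helper9_GrossDefs
import Cfsg.Agent.Lib.Helper47_Gross_GG2

set_option autoImplicit false
set_option linter.unusedSectionVars false
set_option linter.unusedVariables false

namespace Cfsg.Agent.Lib.Helper47_Gross_GG3

open Module Cfsg.Agent.Lib.Helper9_GrossDefs Cfsg.Agent.Lib.Helper47_Gross_GG2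
open scoped commutatorElement

universe u

section GG2
variable {G : Type*} [Group G] [Finite G] {q r₁ N : ℕ} [Fact q.Prime] [Fact r₁.Prime]
  {τ : G} {Q₁ R₁ : Subgroup G}

theorem fixF_le : fixF Q₁ R₁ ≤ R₁ := fun a ha => (mem_fixF.1 ha).1

theorem fixF_ne (cfg : GCfg q r₁ N τ Q₁ R₁) : fixF Q₁ R₁ ≠ R₁ := by
  intro h
  obtain ⟨g, hg, a, ha, hna⟩ := cfg.hmoved
  apply hna
  have haF : a ∈ fixF Q₁ R₁ := by rw [h]; exact ha
  have hd : τ ^ 2 ^ N * g * (τ ^ 2 ^ N)⁻¹ * g⁻¹ ∈ Q₁ :=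
    Q₁.mul_mem (conj_pow_mem Q₁ τ cfg.hτQ (2 ^ N) g hg) (Q₁.inv_mem hg)
  exact (mem_fixF.1 haF).2 _ hd

theorem fixF_tau (cfg : GCfg q r₁ N τ Q₁ R₁) : ∀ f ∈ fixF Q₁ R₁, τ * f * τ⁻¹ ∈ fixF Q₁ R₁ := by
  intro f hf
  obtain ⟨hfR, hfc⟩ := mem_fixF.1 hf
  rw [mem_fixF]
  refine ⟨cfg.hτR f hfR, fun g hg => ?_⟩
  have h1 := hfc _ (conj_inv_mem Q₁ τ cfg.hτQ g hg)
  calc g * (τ * f * τ⁻¹) = τ * ((τ⁻¹ * g * τ) * f) * τ⁻¹ := by group
    _ = τ * (f * (τ⁻¹ * g * τ)) * τ⁻¹ := by rw [h1]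
    _ = τ * f * τ⁻¹ * g := by group

theorem fixF_Q : ∀ g ∈ Q₁, ∀ f ∈ fixF Q₁ R₁, g * f * g⁻¹ ∈ fixF Q₁ R₁ := by
  intro g hg f hf
  have h1 := (mem_fixF.1 hf).2 g hg
  have h2 : g * f * g⁻¹ = f := by rw [h1]; group
  rw [h2]
  exact hf

/-- conjugation maps a commutator subgroup of invariant subgroups into itself -/
theorem conj_commutator_mem (H K : Subgroup G) (t : G) (hH : ∀ a ∈ H, t * a * t⁻¹ ∈ H)
    (hK : ∀ a ∈ K, t * a * t⁻¹ ∈ K) : ∀ x ∈ ⁅H, K⁆, t * x * t⁻¹ ∈ ⁅H, K⁆ := by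
  intro x hx
  have h1 : (MulAut.conj t).toMonoidHom x ∈ Subgroup.map (MulAut.conj t).toMonoidHom ⁅H, K⁆ :=
    Subgroup.mem_map_of_mem _ hx
  rw [Subgroup.map_commutator] at h1
  have hH' : Subgroup.map (MulAut.conj t).toMonoidHom H ≤ H := by
    rintro y ⟨a, ha, rfl⟩
    exact hH a ha
  have hK' : Subgroup.map (MulAut.conj t).toMonoidHom K ≤ K := by
    rintro y ⟨a, ha, rfl⟩
    exact hK a ha
  exact Subgroup.commutator_mono hH' hK' h1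

theorem comm_mem_fixF (hq2 : q ≠ 2) (hqr : q ≠ r₁) (cfg : GCfg q r₁ N τ Q₁ R₁) :
    ∀ a ∈ R₁, ∀ b ∈ R₁, ⁅a, b⁆ ∈ fixF Q₁ R₁ := by
  have hle : ⁅R₁, R₁⁆ ≤ R₁ := by
    rw [Subgroup.commutator_le]
    intro a ha b hb
    rw [commutatorElement_def]
    exact R₁.mul_mem (R₁.mul_mem (R₁.mul_mem ha hb) (R₁.inv_mem ha)) (R₁.inv_mem hb)
  have hne : ⁅R₁, R₁⁆ ≠ R₁ := by
    intro h
    have hnil : Group.IsNilpotent ↥R₁ := cfg.hR.isNilpotent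
    have hnt : Nontrivial ↥R₁ := by
      rw [Subgroup.nontrivial_iff_ne_bot]
      intro hb
      apply fixF_ne cfg
      apply le_antisymm fixF_le
      rw [hb]
      exact bot_le
    have hlt := Group.IsSolvable.commutator_lt_top_of_nontrivial ↥R₁
    have h1 := Subgroup.map_subtype_commutator R₁
    rw [h] at h1
    have h2 : Subgroup.map R₁.subtype ⊤ = R₁ := by
      rw [← MonoidHom.range_eq_map, Subgroup.range_subtype]
    have h3 : commutator ↥R₁ = ⊤ :=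
      Subgroup.map_injective R₁.subtype_injective (h1.trans h2.symm)
    exact hlt.ne h3
  have hF := fix_le hq2 cfg ⁅R₁, R₁⁆ hle
    (conj_commutator_mem R₁ R₁ τ cfg.hτR cfg.hτR)
    (fun g hg => conj_commutator_mem R₁ R₁ g (cfg.hQR g hg) (cfg.hQR g hg)) hne
  intro a ha b hb
  exact hF (Subgroup.commutator_mem_commutator ha hb)

theorem fixF_conj_mem (hq2 : q ≠ 2) (hqr : q ≠ r₁) (cfg : GCfg q r₁ N τ Q₁ R₁) :
    ∀ a ∈ R₁, ∀ f ∈ fixF Q₁ R₁, a * f * a⁻¹ ∈ fixF Q₁ R₁ := by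
  intro a ha f hf
  have h1 := comm_mem_fixF hq2 hqr cfg a ha f (fixF_le hf)
  have h2 : a * f * a⁻¹ = ⁅a, f⁆ * f := by
    rw [commutatorElement_def]; group
  rw [h2]
  exact Subgroup.mul_mem _ h1 hf

/-- modulo `fixF` powers are multiplicative -/
theorem mul_pow_mod (hq2 : q ≠ 2) (hqr : q ≠ r₁) (cfg : GCfg q r₁ N τ Q₁ R₁) (a b : G)
    (ha : a ∈ R₁) (hb : b ∈ R₁) (n : ℕ) :
    ∃ f ∈ fixF Q₁ R₁, (a * b) ^ n = a ^ n * b ^ n * f := by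
  induction n with
  | zero => exact ⟨1, Subgroup.one_mem _, by simp⟩
  | succ n ih =>
    obtain ⟨f, hf, he⟩ := ih
    have hab : a * b ∈ R₁ := R₁.mul_mem ha hb
    have hf₁ : (a * b)⁻¹ * f * (a * b) ∈ fixF Q₁ R₁ := by
      have := fixF_conj_mem hq2 hqr cfg (a * b)⁻¹ (R₁.inv_mem hab) f hf
      rwa [inv_inv] at this
    have hc : ⁅(b ^ n)⁻¹, a⁻¹⁆ ∈ fixF Q₁ R₁ :=
      comm_mem_fixF hq2 hqr cfg _ (R₁.inv_mem (R₁.pow_mem hb n)) _ (R₁.inv_mem ha)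
    have hc' : b⁻¹ * ⁅(b ^ n)⁻¹, a⁻¹⁆ * b ∈ fixF Q₁ R₁ := by
      have := fixF_conj_mem hq2 hqr cfg b⁻¹ (R₁.inv_mem hb) _ hc
      rwa [inv_inv] at this
    refine ⟨(b⁻¹ * ⁅(b ^ n)⁻¹, a⁻¹⁆ * b) * ((a * b)⁻¹ * f * (a * b)),
      Subgroup.mul_mem _ hc' hf₁, ?_⟩
    rw [pow_succ, he, commutatorElement_def, pow_succ, pow_succ]
    group

theorem pow_mem_fixF (hq2 : q ≠ 2) (hqr : q ≠ r₁) (cfg : GCfg q r₁ N τ Q₁ R₁) :
    ∀ a ∈ R₁, a ^ r₁ ∈ fixF Q₁ R₁ := by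
  classical
  -- the preimage of `Ω₁ (R₁ / F)`
  let P : Subgroup G :=
    { carrier := {a | a ∈ R₁ ∧ a ^ r₁ ∈ fixF Q₁ R₁}
      one_mem' := ⟨R₁.one_mem, by rw [one_pow]; exact Subgroup.one_mem _⟩
      mul_mem' := fun {a b} ha hb => ⟨R₁.mul_mem ha.1 hb.1, by
        obtain ⟨f, hf, he⟩ := mul_pow_mod hq2 hqr cfg a b ha.1 hb.1 r₁
        rw [he]
        exact Subgroup.mul_mem _ (Subgroup.mul_mem _ ha.2 hb.2) hf⟩
      inv_mem' := fun {a} ha => ⟨R₁.inv_mem ha.1, by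
        rw [inv_pow]; exact Subgroup.inv_mem _ ha.2⟩ }
  have hPmem : ∀ a, a ∈ P ↔ a ∈ R₁ ∧ a ^ r₁ ∈ fixF Q₁ R₁ := fun a => Iff.rfl
  have hPle : P ≤ R₁ := fun a ha => ((hPmem a).1 ha).1
  have hconjpow : ∀ t a : G, (t * a * t⁻¹) ^ r₁ = t * a ^ r₁ * t⁻¹ := by
    intro t a
    exact (map_pow (MulAut.conj t) a r₁).symm
  have hPτ : ∀ a ∈ P, τ * a * τ⁻¹ ∈ P := by
    intro a ha
    obtain ⟨haR, haF⟩ := (hPmem a).1 ha
    rw [hPmem, hconjpow]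
    exact ⟨cfg.hτR a haR, fixF_tau cfg _ haF⟩
  have hPQ : ∀ g ∈ Q₁, ∀ a ∈ P, g * a * g⁻¹ ∈ P := by
    intro g hg a ha
    obtain ⟨haR, haF⟩ := (hPmem a).1 ha
    rw [hPmem, hconjpow]
    exact ⟨cfg.hQR g hg a haR, fixF_Q g hg _ haF⟩
  -- an element of `P` outside `F`
  have hex : ∃ b ∈ P, b ∉ fixF Q₁ R₁ := by
    have hlt : fixF Q₁ R₁ < R₁ := lt_of_le_of_ne fixF_le (fixF_ne cfg)
    obtain ⟨a, haR, haF⟩ := SetLike.exists_of_lt hlt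
    have hexk : ∃ k : ℕ, a ^ r₁ ^ k ∈ fixF Q₁ R₁ := by
      obtain ⟨i, hi⟩ := cfg.hR ⟨a, haR⟩
      refine ⟨i, ?_⟩
      have h1 : a ^ r₁ ^ i = 1 := by
        have := congrArg Subtype.val hi
        simpa using this
      rw [h1]
      exact Subgroup.one_mem _
    have hk0 : Nat.find hexk ≠ 0 := by
      intro h0
      have := Nat.find_spec hexk
      rw [h0, pow_zero, pow_one] at this
      exact haF this
    obtain ⟨k, hk⟩ := Nat.exists_eq_succ_of_ne_zero hk0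
    refine ⟨a ^ r₁ ^ k, ?_, ?_⟩
    · rw [hPmem]
      refine ⟨R₁.pow_mem haR _, ?_⟩
      have := Nat.find_spec hexk
      rw [hk, Nat.succ_eq_add_one, pow_succ, pow_mul] at this
      exact this
    · exact Nat.find_min hexk (by omega)
  have hPeq : P = R₁ := by
    by_contra hne
    obtain ⟨b, hbP, hbF⟩ := hex
    exact hbF (fix_le hq2 cfg P hPle hPτ hPQ hne hbP)
  intro a ha
  have haP : a ∈ P := by rw [hPeq]; exact ha
  exact ((hPmem a).1 haP).2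

end GG2

end Cfsg.Agent.Lib.Helper47_Gross_GG3
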