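/-
helper47: package GROSS-GG4 of helper9's S3795 (Gross): in a minimal configuration `fixF` is central in `R₁`
(three subgroups lemma).
-/
import Mathlib
import Cfsg.Agent.Lib.Helper9_GrossDefs
import Cfsg.Agent.Lib.Helper47_Gross_GG2
import Cfsg.Agent.Lib.Helper47_Gross_GG3

set_option autoImplicit false
set_option linter.unusedSectionVars false
set_option linter.unusedVariables false

namespace Cfsg.Agent.Lib.Helper47_Gross_GG4

open Module Cfsg.Agent.Lib.Helper9_GrossDefs Cfsg.Agent.Lib.Helper47_Gross_GG2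
  Cfsg.Agent.Lib.Helper47_Gross_GG3
open scoped commutatorElement

universe u

section GG2
variable {G : Type*} [Group G] [Finite G] {q r₁ N : ℕ} [Fact q.Prime] [Fact r₁.Prime]
  {τ : G} {Q₁ R₁ : Subgroup G}

/-- `[Q₁, R₁] = R₁` in a minimal configuration -/
theorem commutator_eq (hq2 : q ≠ 2) (hqr : q ≠ r₁) (cfg : GCfg q r₁ N τ Q₁ R₁) :
    ⁅Q₁, R₁⁆ = R₁ := by
  have hle : ⁅Q₁, R₁⁆ ≤ R₁ := by
    rw [Subgroup.commutator_le]
    intro g hg a ha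
    rw [commutatorElement_def]
    exact R₁.mul_mem (cfg.hQR g hg a ha) (R₁.inv_mem ha)
  by_contra hne
  have hF := fix_le hq2 cfg ⁅Q₁, R₁⁆ hle
    (conj_commutator_mem Q₁ R₁ τ cfg.hτQ cfg.hτR)
    (fun g hg => conj_commutator_mem Q₁ R₁ g
      (fun x hx => Q₁.mul_mem (Q₁.mul_mem hg hx) (Q₁.inv_mem hg)) (cfg.hQR g hg)) hne
  obtain ⟨g, hg, a, ha, hna⟩ := cfg.hmoved
  apply hna
  have hd : τ ^ 2 ^ N * g * (τ ^ 2 ^ N)⁻¹ * g⁻¹ ∈ Q₁ :=
    Q₁.mul_mem (conj_pow_mem Q₁ τ cfg.hτQ (2 ^ N) g hg) (Q₁.inv_mem hg)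
  refine faithful_mod hqr cfg.hQ cfg.hR _ hd (fun b hb => ?_) a ha
  have := hF (Subgroup.commutator_mem_commutator hd hb)
  rwa [commutatorElement_def] at this

theorem fixF_central (hq2 : q ≠ 2) (hqr : q ≠ r₁) (cfg : GCfg q r₁ N τ Q₁ R₁) :
    ∀ f ∈ fixF Q₁ R₁, ∀ a ∈ R₁, Commute f a := by
  have hFQ : ⁅fixF Q₁ R₁, Q₁⁆ = ⊥ := by
    rw [Subgroup.commutator_eq_bot_iff_le_centralizer]
    unfold fixF
    exact inf_le_right
  have hRF : ⁅R₁, fixF Q₁ R₁⁆ ≤ fixF Q₁ R₁ := by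
    rw [Subgroup.commutator_le]
    intro a ha f hf
    rw [commutatorElement_def]
    exact Subgroup.mul_mem _ (fixF_conj_mem hq2 hqr cfg a ha f hf) (Subgroup.inv_mem _ hf)
  have h1 : ⁅⁅R₁, fixF Q₁ R₁⁆, Q₁⁆ = ⊥ := by
    rw [eq_bot_iff, ← hFQ]
    exact Subgroup.commutator_mono hRF le_rfl
  have h2 : ⁅⁅fixF Q₁ R₁, Q₁⁆, R₁⁆ = ⊥ := by
    rw [hFQ]
    exact Subgroup.commutator_bot_left R₁
  have h3 := Subgroup.commutator_commutator_eq_bot_of_rotate h1 h2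
  rw [commutator_eq hq2 hqr cfg, Subgroup.commutator_eq_bot_iff_le_centralizer] at h3
  intro f hf a ha
  have h4 := h3 ha
  rw [Subgroup.mem_centralizer_iff] at h4
  exact h4 f hf

end GG2

end Cfsg.Agent.Lib.Helper47_Gross_GG4
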