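import Mathlib
import Cfsg.Prelude.Def_Characters
import Cfsg.Prelude.Def_TwoFusion
import Cfsg.Prelude.Def_Solvable
import Cfsg.Agent.Lib.Helper80_CharBasic
import Cfsg.Agent.Lib.Helper17_H27Defs
import Cfsg.Agent.Lib.Helper76_H648Defs
import Cfsg.Agent.Lib.Helper1_Cores
import Cfsg.Agent.Lib.Helper2_H27_PERM

/-!
S3702 package LOC (helper76's market `h648_packages`), auxiliary form: the local analysis
`exists_hyp_of`, with the statement of package CORE (`perm_core`) as an explicit hypothesis.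

If `H ≅ K₀ = ⟨S0⟩ ≤ Sym(9)`, `J = O₃(H)`, `C_G(j) ≤ H` for `j ∈ J ∖ 1` and `J` is strongly closed in
`H` with respect to `G`, then the configuration `Hyp G H J a b c σ u v s` holds for the images of the
generators under `ψ = H.subtype ∘ φ⁻¹`.
-/

set_option autoImplicit false
set_option linter.unusedVariables false
set_option linter.unusedSectionVars false
set_option linter.unusedSimpArgs false
set_option linter.style.haveILetI false

namespace Cfsg.Agent.Lib.Helper47_H648_LOCaux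

open Cfsg Cfsg.Agent.Lib.Helper80_CharBasic
  Cfsg.Agent.Lib.Helper76_H648Defs
open Cfsg.Agent.Lib.Helper17_H27Defs (elt)

/-- the statement of package CORE -/
def CoreStmt : Prop :=
    (∀ k ∈ Subgroup.closure S0, ∀ e : ZMod 3 × ZMod 3 × ZMod 3,
      ∃ e' : ZMod 3 × ZMod 3 × ZMod 3, k * elt pA pB pC e * k⁻¹ = elt pA pB pC e') ∧
    (∀ N : Subgroup ↥(Subgroup.closure S0), N.Normal → IsPGroup 3 N →
      ∀ x ∈ N, ∃ e : ZMod 3 × ZMod 3 × ZMod 3, (x : Equiv.Perm (Fin 9)) = elt pA pB pC e)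

/-! ### generic facts on `elt` -/

section generic
variable {A : Type*} [Group A] {a b c : A}

theorem elt_add' (a3 : a ^ 3 = 1) (b3 : b ^ 3 = 1) (c3 : c ^ 3 = 1) (ab : a * b = b * a)
    (ac : a * c = c * a) (bc : b * c = c * b) (e e' : ZMod 3 × ZMod 3 × ZMod 3) :
    elt a b c (e + e') = elt a b c e * elt a b c e' := by
  unfold elt
  simp only [Prod.fst_add, Prod.snd_add]
  rw [← Cfsg.Agent.Lib.Helper2_H27_PERM.pow_val_add a3,
    ← Cfsg.Agent.Lib.Helper2_H27_PERM.pow_val_add b3,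
    ← Cfsg.Agent.Lib.Helper2_H27_PERM.pow_val_add c3]
  have hab : Commute a b := ab
  have hac : Commute a c := ac
  have hbc : Commute b c := bc
  exact Cfsg.Agent.Lib.Helper2_H27_PERM.six_swap _ _ _ _ _ _ (hab.pow_pow _ _).eq
    (hac.pow_pow _ _).eq (hbc.pow_pow _ _).eq

theorem elt_zero' : elt a b c 0 = 1 := by
  simp [elt]

theorem map_elt' {B : Type*} [Group B] (f : A →* B) (e : ZMod 3 × ZMod 3 × ZMod 3) :
    f (elt a b c e) = elt (f a) (f b) (f c) e := by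
  simp [elt, map_mul, map_pow]

end generic

/-! ### the permutations -/

set_option maxRecDepth 100000 in
theorem pA3 : pA ^ 3 = 1 := by decide
set_option maxRecDepth 100000 in
theorem pB3 : pB ^ 3 = 1 := by decide
set_option maxRecDepth 100000 in
theorem pC3 : pC ^ 3 = 1 := by decide
set_option maxRecDepth 100000 in
theorem pAB : pA * pB = pB * pA := by decide
set_option maxRecDepth 100000 in
theorem pAC : pA * pC = pC * pA := by decide
set_option maxRecDepth 100000 in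
theorem pBC : pB * pC = pC * pB := by decide

theorem pelt_add (e e' : ZMod 3 × ZMod 3 × ZMod 3) :
    elt pA pB pC (e + e') = elt pA pB pC e * elt pA pB pC e' :=
  elt_add' pA3 pB3 pC3 pAB pAC pBC e e'

theorem pelt_neg (e : ZMod 3 × ZMod 3 × ZMod 3) :
    (elt pA pB pC e)⁻¹ = elt pA pB pC (-e) := by
  symm
  apply eq_inv_of_mul_eq_one_right
  rw [← pelt_add, add_neg_cancel, elt_zero']

theorem pelt_pow_three (e : ZMod 3 × ZMod 3 × ZMod 3) : elt pA pB pC e ^ 3 = 1 := by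
  have h3 : e + e + e = 0 := by
    have : ∀ x : ZMod 3, x + x + x = 0 := by decide
    ext <;> simp [this]
  rw [pow_succ, pow_two, ← pelt_add, ← pelt_add, h3, elt_zero']

/-- `J₀ = {elt pA pB pC e}` as a subgroup of `K₀` -/
def J0 : Subgroup ↥(Subgroup.closure S0) where
  carrier := {x | ∃ e : ZMod 3 × ZMod 3 × ZMod 3, (x : Equiv.Perm (Fin 9)) = elt pA pB pC e}
  mul_mem' := by
    rintro x y ⟨e, he⟩ ⟨e', he'⟩
    refine ⟨e + e', ?_⟩
    rw [pelt_add, ← he, ← he']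
    rfl
  one_mem' := ⟨0, by rw [elt_zero']; rfl⟩
  inv_mem' := by
    rintro x ⟨e, he⟩
    refine ⟨-e, ?_⟩
    rw [← pelt_neg, ← he]
    rfl

theorem mem_J0 (x : ↥(Subgroup.closure S0)) :
    x ∈ J0 ↔ ∃ e : ZMod 3 × ZMod 3 × ZMod 3, (x : Equiv.Perm (Fin 9)) = elt pA pB pC e := Iff.rfl

theorem J0_normal (hcore : CoreStmt) : J0.Normal := by
  constructor
  rintro x ⟨e, he⟩ k
  obtain ⟨e', he'⟩ := hcore.1 k.1 k.2 e
  refine ⟨e', ?_⟩
  rw [← he', ← he]
  rfl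

theorem J0_isPGroup : IsPGroup 3 J0 := by
  rintro ⟨x, e, he⟩
  refine ⟨1, ?_⟩
  apply Subtype.ext
  apply Subtype.ext
  show (x : Equiv.Perm (Fin 9)) ^ 3 ^ 1 = 1
  rw [pow_one, he, pelt_pow_three]

theorem pCore_eq_J0 (hcore : CoreStmt) : Cfsg.pCore 3 ↥(Subgroup.closure S0) = J0 := by
  haveI : Fact (Nat.Prime 3) := ⟨Nat.prime_three⟩
  apply le_antisymm
  · intro x hx
    exact hcore.2 _ (Cfsg.Agent.Lib.Helper1_Cores.pCore_normal 3)
      (Cfsg.Agent.Lib.Helper1_Cores.pCore_isPGroup 3) x hx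
  · exact Cfsg.Agent.Lib.Helper1_Cores.le_pCore (J0_normal hcore) J0_isPGroup

/-! ### transport of the `p`-core along an isomorphism -/

theorem map_pCore_le {A B : Type*} [Group A] [Group B] (p : ℕ) [Fact p.Prime] (φ : A ≃* B) :
    (Cfsg.pCore p A).map φ.toMonoidHom ≤ Cfsg.pCore p B := by
  apply Cfsg.Agent.Lib.Helper1_Cores.le_pCore
  · exact (Cfsg.Agent.Lib.Helper1_Cores.pCore_normal p).map _ φ.surjective
  · exact (Cfsg.Agent.Lib.Helper1_Cores.pCore_isPGroup p).map _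

theorem mem_pCore_iff_equiv {A B : Type*} [Group A] [Group B] (p : ℕ) [Fact p.Prime] (φ : A ≃* B)
    (x : A) : x ∈ Cfsg.pCore p A ↔ φ x ∈ Cfsg.pCore p B := by
  constructor
  · intro hx
    exact map_pCore_le p φ (Subgroup.mem_map_of_mem _ hx)
  · intro hx
    have := map_pCore_le p φ.symm (Subgroup.mem_map_of_mem _ hx)
    simpa using this

section grp
variable {G : Type*} [Group G] [Finite G]

theorem exists_hyp_of (hcore : CoreStmt)
    (H : Subgroup G) (hH : Nonempty (↥H ≃* ↥(Subgroup.closure S0)))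
    (J : Subgroup G) (hJ : J = (Cfsg.pCore 3 ↥H).map H.subtype)
    (hC : ∀ j ∈ J, j ≠ 1 → Subgroup.centralizer ({j} : Set G) ≤ H)
    (hsc : Cfsg.IsStronglyClosed J H) :
    ∃ a b c σ u v s : G, Hyp G H J a b c σ u v s := by
  haveI : Fact (Nat.Prime 3) := ⟨Nat.prime_three⟩
  obtain ⟨φ⟩ := hH
  obtain ⟨ψ, hψ⟩ : ∃ ψ : ↥(Subgroup.closure S0) →* G, ψ = H.subtype.comp φ.symm.toMonoidHom :=
    ⟨_, rfl⟩
  have hψval : ∀ x, ψ x = ((φ.symm x : H) : G) := by
    intro x; rw [hψ]; rfl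
  have hψinj : Function.Injective ψ := by
    intro x y hxy
    rw [hψval, hψval] at hxy
    exact φ.symm.injective (Subtype.ext hxy)
  have hψrange : ψ.range = H := by
    ext n
    constructor
    · rintro ⟨x, rfl⟩
      rw [hψval]
      exact (φ.symm x).2
    · intro hn
      refine ⟨φ ⟨n, hn⟩, ?_⟩
      rw [hψval, MulEquiv.symm_apply_apply]
  -- the generators in `K₀`
  obtain ⟨kA, hkA⟩ : ∃ k : ↥(Subgroup.closure S0), k = ⟨g1, g1_mem⟩ := ⟨_, rfl⟩
  obtain ⟨kS, hkS⟩ : ∃ k : ↥(Subgroup.closure S0), k = ⟨g2, g2_mem⟩ := ⟨_, rfl⟩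
  obtain ⟨kU, hkU⟩ : ∃ k : ↥(Subgroup.closure S0), k = ⟨g3, g3_mem⟩ := ⟨_, rfl⟩
  obtain ⟨kV, hkV⟩ : ∃ k : ↥(Subgroup.closure S0), k = ⟨g4, g4_mem⟩ := ⟨_, rfl⟩
  have cA : (kA : Equiv.Perm (Fin 9)) = pA := by rw [hkA]; rfl
  have cB : ((kS * kA * kS⁻¹ : ↥(Subgroup.closure S0)) : Equiv.Perm (Fin 9)) = pB := by
    rw [hkA, hkS]; rfl
  have cC : ((kS * (kS * kA * kS⁻¹) * kS⁻¹ : ↥(Subgroup.closure S0)) : Equiv.Perm (Fin 9)) = pC := by
    rw [hkA, hkS]; rfl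
  -- elements of `J₀` in terms of the generators
  have hJ0 : ∀ x : ↥(Subgroup.closure S0), x ∈ J0 ↔
      ∃ e : ZMod 3 × ZMod 3 × ZMod 3,
        x = elt kA (kS * kA * kS⁻¹) (kS * (kS * kA * kS⁻¹) * kS⁻¹) e := by
    intro x
    rw [mem_J0]
    constructor
    · rintro ⟨e, he⟩
      refine ⟨e, Subtype.ext ?_⟩
      have := map_elt' (a := kA) (b := kS * kA * kS⁻¹) (c := kS * (kS * kA * kS⁻¹) * kS⁻¹)
        (Subgroup.closure S0).subtype e
      rw [Subgroup.coe_subtype, cA, cB, cC] at this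
      rw [this, he]
    · rintro ⟨e, he⟩
      refine ⟨e, ?_⟩
      have := map_elt' (a := kA) (b := kS * kA * kS⁻¹) (c := kS * (kS * kA * kS⁻¹) * kS⁻¹)
        (Subgroup.closure S0).subtype e
      rw [Subgroup.coe_subtype, cA, cB, cC] at this
      rw [he, this]
  have hmemJ : ∀ t : G, t ∈ J ↔ ∃ e : ZMod 3 × ZMod 3 × ZMod 3,
      t = elt (ψ kA) (ψ kS * ψ kA * (ψ kS)⁻¹) (ψ kS * (ψ kS * ψ kA * (ψ kS)⁻¹) * (ψ kS)⁻¹) e := by
    intro t
    have hmap : ∀ e : ZMod 3 × ZMod 3 × ZMod 3,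
        ψ (elt kA (kS * kA * kS⁻¹) (kS * (kS * kA * kS⁻¹) * kS⁻¹) e) =
          elt (ψ kA) (ψ kS * ψ kA * (ψ kS)⁻¹)
            (ψ kS * (ψ kS * ψ kA * (ψ kS)⁻¹) * (ψ kS)⁻¹) e := by
      intro e
      rw [map_elt']
      simp only [map_mul, map_inv]
    rw [hJ]
    constructor
    · rintro ⟨h, hh, rfl⟩
      have h1 : φ h ∈ Cfsg.pCore 3 ↥(Subgroup.closure S0) :=
        (mem_pCore_iff_equiv 3 φ h).1 hh
      rw [pCore_eq_J0 hcore, hJ0] at h1
      obtain ⟨e, he⟩ := h1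
      refine ⟨e, ?_⟩
      rw [← hmap, ← he, hψval, MulEquiv.symm_apply_apply]
      rfl
    · rintro ⟨e, rfl⟩
      rw [← hmap]
      refine ⟨φ.symm (elt kA (kS * kA * kS⁻¹) (kS * (kS * kA * kS⁻¹) * kS⁻¹) e), ?_, ?_⟩
      · rw [SetLike.mem_coe, mem_pCore_iff_equiv 3 φ, MulEquiv.apply_symm_apply, pCore_eq_J0 hcore,
          hJ0]
        exact ⟨e, rfl⟩
      · rw [hψval]
        rfl
  refine ⟨ψ kA, ψ kS * ψ kA * (ψ kS)⁻¹, ψ kS * (ψ kS * ψ kA * (ψ kS)⁻¹) * (ψ kS)⁻¹, ψ kS, ψ kU,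
    ψ kV, ψ kV * (ψ kS * ψ kU * (ψ kS)⁻¹), ?_⟩
  exact
    { iso := ⟨ψ, hψinj, hψrange, by rw [hkA], by rw [hkS], by rw [hkU], by rw [hkV]⟩
      hb := rfl
      hc := rfl
      hs := rfl
      memJ := hmemJ
      loc := hC
      sc := hsc.2 }

end grp

end Cfsg.Agent.Lib.Helper47_H648_LOCaux
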