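import Mathlib
import Cfsg.Prelude.Def_Solvable
import Cfsg.Agent.Lib.Helper17_H27Defs
import Cfsg.Agent.Lib.Helper76_H648Defs
import Cfsg.Agent.Lib.Helper1_Cores
import Cfsg.Agent.Lib.Helper52_H648_PERM
import Cfsg.Agent.Lib.Helper47_H648_LOCaux

/-!
S3702 package CORE (helper76's market `h648_packages`; second seat): `J₀ = {elt pA pB pC e}` is normal
in `K₀ = ⟨S0⟩` and contains every normal 3-subgroup of `K₀`.

Part 2: `O = O₃(K₀)` is a normal 3-group containing `N` and `J₀`; for `x = elt e * W i ∈ N` the factor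
`W i` lies in `O`, and if `i ≠ 0` then one of `W i`, `(W i)²`, `[W i, u]` is an involution of `O`.
-/

set_option autoImplicit false
set_option linter.unusedVariables false
set_option linter.unusedSectionVars false
set_option linter.unusedSimpArgs false
set_option linter.style.haveILetI false

namespace Cfsg.Agent.Lib.Helper47_H648_CORE

open Cfsg Cfsg.Agent.Lib.Helper76_H648Defs
open Cfsg.Agent.Lib.Helper17_H27Defs (elt)
open Cfsg.Agent.Lib.Helper52_H648_PERM (J_mul J_zero rep_exists J_mem Wfun_mem mem_pS mem_pU mem_pV)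

/-! ### Part 1: `J₀` is normal -/

set_option maxRecDepth 100000 in
theorem conj_gen1 : ∀ e : ZMod 3 × ZMod 3 × ZMod 3, ∃ e' : ZMod 3 × ZMod 3 × ZMod 3,
    g1 * elt pA pB pC e * g1⁻¹ = elt pA pB pC e' := by
  decide +kernel

set_option maxRecDepth 100000 in
theorem conj_gen2 : ∀ e : ZMod 3 × ZMod 3 × ZMod 3, ∃ e' : ZMod 3 × ZMod 3 × ZMod 3,
    g2 * elt pA pB pC e * g2⁻¹ = elt pA pB pC e' := by
  decide +kernel

set_option maxRecDepth 100000 in
theorem conj_gen3 : ∀ e : ZMod 3 × ZMod 3 × ZMod 3, ∃ e' : ZMod 3 × ZMod 3 × ZMod 3,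
    g3 * elt pA pB pC e * g3⁻¹ = elt pA pB pC e' := by
  decide +kernel

set_option maxRecDepth 100000 in
theorem conj_gen4 : ∀ e : ZMod 3 × ZMod 3 × ZMod 3, ∃ e' : ZMod 3 × ZMod 3 × ZMod 3,
    g4 * elt pA pB pC e * g4⁻¹ = elt pA pB pC e' := by
  decide +kernel

set_option maxRecDepth 100000 in
theorem conj_gen1' : ∀ e : ZMod 3 × ZMod 3 × ZMod 3, ∃ e' : ZMod 3 × ZMod 3 × ZMod 3,
    g1⁻¹ * elt pA pB pC e * g1⁻¹⁻¹ = elt pA pB pC e' := by
  decide +kernel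

set_option maxRecDepth 100000 in
theorem conj_gen2' : ∀ e : ZMod 3 × ZMod 3 × ZMod 3, ∃ e' : ZMod 3 × ZMod 3 × ZMod 3,
    g2⁻¹ * elt pA pB pC e * g2⁻¹⁻¹ = elt pA pB pC e' := by
  decide +kernel

set_option maxRecDepth 100000 in
theorem conj_gen3' : ∀ e : ZMod 3 × ZMod 3 × ZMod 3, ∃ e' : ZMod 3 × ZMod 3 × ZMod 3,
    g3⁻¹ * elt pA pB pC e * g3⁻¹⁻¹ = elt pA pB pC e' := by
  decide +kernel

set_option maxRecDepth 100000 in
theorem conj_gen4' : ∀ e : ZMod 3 × ZMod 3 × ZMod 3, ∃ e' : ZMod 3 × ZMod 3 × ZMod 3,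
    g4⁻¹ * elt pA pB pC e * g4⁻¹⁻¹ = elt pA pB pC e' := by
  decide +kernel

theorem conj_mem_J : ∀ k ∈ Subgroup.closure S0, ∀ e : ZMod 3 × ZMod 3 × ZMod 3,
    ∃ e' : ZMod 3 × ZMod 3 × ZMod 3, k * elt pA pB pC e * k⁻¹ = elt pA pB pC e' := by
  intro k hk
  induction hk using Subgroup.closure_induction'' with
  | mem x hx =>
    simp only [S0, Set.mem_insert_iff, Set.mem_singleton_iff] at hx
    rcases hx with rfl | rfl | rfl | rfl
    · exact conj_gen1
    · exact conj_gen2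
    · exact conj_gen3
    · exact conj_gen4
  | inv_mem x hx =>
    simp only [S0, Set.mem_insert_iff, Set.mem_singleton_iff] at hx
    rcases hx with rfl | rfl | rfl | rfl
    · exact conj_gen1'
    · exact conj_gen2'
    · exact conj_gen3'
    · exact conj_gen4'
  | one =>
    intro e
    exact ⟨e, by group⟩
  | mul x y hx hy ihx ihy =>
    intro e
    obtain ⟨e₁, h₁⟩ := ihy e
    obtain ⟨e₂, h₂⟩ := ihx e₁
    refine ⟨e₂, ?_⟩
    rw [← h₂, ← h₁]
    group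

/-! ### Part 2: normal 3-subgroups lie in `J₀` -/

set_option maxRecDepth 100000 in
theorem invol_table : ∀ i : Fin 24, i ≠ 0 →
    (Wfun pS pU pV i ≠ 1 ∧ Wfun pS pU pV i * Wfun pS pU pV i = 1) ∨
    (Wfun pS pU pV i * Wfun pS pU pV i ≠ 1 ∧
      (Wfun pS pU pV i * Wfun pS pU pV i) * (Wfun pS pU pV i * Wfun pS pU pV i) = 1) ∨
    (Wfun pS pU pV i * (pU * (Wfun pS pU pV i)⁻¹ * pU⁻¹) ≠ 1 ∧
      (Wfun pS pU pV i * (pU * (Wfun pS pU pV i)⁻¹ * pU⁻¹)) *
        (Wfun pS pU pV i * (pU * (Wfun pS pU pV i)⁻¹ * pU⁻¹)) = 1) := by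
  decide +kernel

/-- an involution does not lie in a 3-group -/
theorem no_invol {A : Type*} [Group A] {O : Subgroup A} (hO : IsPGroup 3 O) {z : A} (hz : z ∈ O)
    (hz2 : z * z = 1) : z = 1 := by
  obtain ⟨m, hm⟩ := hO ⟨z, hz⟩
  have hm' : z ^ 3 ^ m = 1 := by
    have := congrArg Subtype.val hm
    simpa using this
  have h1 : orderOf z ∣ 3 ^ m := orderOf_dvd_of_pow_eq_one hm'
  have h2 : orderOf z ∣ 2 := orderOf_dvd_of_pow_eq_one (by rw [pow_two]; exact hz2)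
  have hc : Nat.Coprime (3 ^ m) 2 := Nat.Coprime.pow_left m (by norm_num)
  have h3 : orderOf z ∣ 1 := by
    have := Nat.dvd_gcd h1 h2
    rwa [hc] at this
  exact orderOf_eq_one_iff.mp (Nat.dvd_one.mp h3)

theorem le_J (N : Subgroup ↥(Subgroup.closure S0)) (hN : N.Normal) (hN3 : IsPGroup 3 N) :
    ∀ x ∈ N, ∃ e : ZMod 3 × ZMod 3 × ZMod 3, (x : Equiv.Perm (Fin 9)) = elt pA pB pC e := by
  haveI : Fact (Nat.Prime 3) := ⟨Nat.prime_three⟩
  intro x hx
  obtain ⟨O, hOdef⟩ : ∃ O : Subgroup ↥(Subgroup.closure S0),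
      O = Cfsg.pCore 3 ↥(Subgroup.closure S0) := ⟨_, rfl⟩
  have hOn : O.Normal := by rw [hOdef]; exact Cfsg.Agent.Lib.Helper1_Cores.pCore_normal 3
  have hO3 : IsPGroup 3 O := by rw [hOdef]; exact Cfsg.Agent.Lib.Helper1_Cores.pCore_isPGroup 3
  have hNO : N ≤ O := by rw [hOdef]; exact Cfsg.Agent.Lib.Helper1_Cores.le_pCore hN hN3
  have hJn : Cfsg.Agent.Lib.Helper47_H648_LOCaux.J0.Normal := by
    constructor
    rintro y ⟨e, he⟩ k
    obtain ⟨e', he'⟩ := conj_mem_J k.1 k.2 e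
    refine ⟨e', ?_⟩
    rw [← he', ← he]
    rfl
  have hJO : Cfsg.Agent.Lib.Helper47_H648_LOCaux.J0 ≤ O := by
    rw [hOdef]
    exact Cfsg.Agent.Lib.Helper1_Cores.le_pCore hJn Cfsg.Agent.Lib.Helper47_H648_LOCaux.J0_isPGroup
  obtain ⟨e, i, hxe⟩ := rep_exists x.1 x.2
  -- the two factors as elements of `K₀`
  obtain ⟨jK, hjK⟩ : ∃ j : ↥(Subgroup.closure S0), j = ⟨elt pA pB pC e, J_mem e⟩ := ⟨_, rfl⟩
  obtain ⟨wK, hwK⟩ : ∃ w : ↥(Subgroup.closure S0),
      w = ⟨Wfun pS pU pV i, Wfun_mem _ mem_pS mem_pU mem_pV i⟩ := ⟨_, rfl⟩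
  obtain ⟨uK, huK⟩ : ∃ u : ↥(Subgroup.closure S0), u = ⟨pU, mem_pU⟩ := ⟨_, rfl⟩
  have hjO : jK ∈ O := hJO ⟨e, by rw [hjK]⟩
  have hxjw : x = jK * wK := by
    apply Subtype.ext
    rw [hjK, hwK]
    exact hxe
  have hwO : wK ∈ O := by
    have : wK = jK⁻¹ * x := by rw [hxjw]; group
    rw [this]
    exact O.mul_mem (O.inv_mem hjO) (hNO hx)
  by_cases hi : i = 0
  · refine ⟨e, ?_⟩
    rw [hxe, hi]
    simp [Wfun]
  · exfalso
    have hcw : (wK : Equiv.Perm (Fin 9)) = Wfun pS pU pV i := by rw [hwK]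
    have hcu : (uK : Equiv.Perm (Fin 9)) = pU := by rw [huK]
    rcases invol_table i hi with ⟨h1, h2⟩ | ⟨h1, h2⟩ | ⟨h1, h2⟩
    · have hz : wK * wK = 1 := by
        apply Subtype.ext
        rw [Subgroup.coe_mul, hcw]
        exact h2
      have := no_invol hO3 hwO hz
      apply h1
      rw [← hcw, this]
      rfl
    · have hz : (wK * wK) * (wK * wK) = 1 := by
        apply Subtype.ext
        simp only [Subgroup.coe_mul, hcw]
        exact h2
      have := no_invol hO3 (O.mul_mem hwO hwO) hz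
      apply h1
      have h3 := congrArg Subtype.val this
      simp only [Subgroup.coe_mul, hcw] at h3
      exact h3
    · have hmem : wK * (uK * wK⁻¹ * uK⁻¹) ∈ O :=
        O.mul_mem hwO (hOn.conj_mem _ (O.inv_mem hwO) uK)
      have hz : (wK * (uK * wK⁻¹ * uK⁻¹)) * (wK * (uK * wK⁻¹ * uK⁻¹)) = 1 := by
        apply Subtype.ext
        simp only [Subgroup.coe_mul, Subgroup.coe_inv, hcw, hcu]
        exact h2
      have := no_invol hO3 hmem hz
      apply h1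
      have h3 := congrArg Subtype.val this
      simp only [Subgroup.coe_mul, Subgroup.coe_inv, hcw, hcu] at h3
      exact h3

/-- **CORE**: `J₀` is normal in `K₀` and contains every normal 3-subgroup of `K₀` (so `J₀ = O₃(K₀)`) -/
theorem perm_core :
    (∀ k ∈ Subgroup.closure S0, ∀ e : ZMod 3 × ZMod 3 × ZMod 3,
      ∃ e' : ZMod 3 × ZMod 3 × ZMod 3, k * elt pA pB pC e * k⁻¹ = elt pA pB pC e') ∧
    (∀ N : Subgroup ↥(Subgroup.closure S0), N.Normal → IsPGroup 3 N →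
      ∀ x ∈ N, ∃ e : ZMod 3 × ZMod 3 × ZMod 3, (x : Equiv.Perm (Fin 9)) = elt pA pB pC e) :=
  ⟨conj_mem_J, le_J⟩

end Cfsg.Agent.Lib.Helper47_H648_CORE
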