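import Mathlib
import Cfsg.Prelude.Def_Characters
import Cfsg.Prelude.Def_TwoFusion
import Cfsg.Prelude.Def_Solvable
import Cfsg.Agent.Lib.Helper80_CharBasic
import Cfsg.Agent.Lib.Helper17_H27Defs
import Cfsg.Agent.Lib.Helper76_H648Defs
import Cfsg.Agent.Lib.Helper47_H648_LOCaux
import Cfsg.Agent.Lib.Helper47_H648_CORE

/-!
S3702 package LOC (helper76's market `h648_packages`): the local analysis `exists_hyp`, verbatim
(`Helper47_H648_LOCaux.exists_hyp_of` applied to `Helper47_H648_CORE.perm_core`).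
-/

set_option autoImplicit false

namespace Cfsg.Agent.Lib.Helper47_H648_LOC

open Cfsg Cfsg.Agent.Lib.Helper80_CharBasic
  Cfsg.Agent.Lib.Helper76_H648Defs
open Cfsg.Agent.Lib.Helper17_H27Defs (elt)

section grp
variable {G : Type*} [Group G] [Finite G]

/-! ### LOC: the local analysis -/
theorem exists_hyp (H : Subgroup G) (hH : Nonempty (↥H ≃* ↥(Subgroup.closure S0)))
    (J : Subgroup G) (hJ : J = (Cfsg.pCore 3 ↥H).map H.subtype)
    (hC : ∀ j ∈ J, j ≠ 1 → Subgroup.centralizer ({j} : Set G) ≤ H)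
    (hsc : Cfsg.IsStronglyClosed J H) :
    ∃ a b c σ u v s : G, Hyp G H J a b c σ u v s :=
  Cfsg.Agent.Lib.Helper47_H648_LOCaux.exists_hyp_of Cfsg.Agent.Lib.Helper47_H648_CORE.perm_core
    H hH J hJ hC hsc

end grp

end Cfsg.Agent.Lib.Helper47_H648_LOC
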