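import Mathlib
import Cfsg.Agent.Lib.Helper83_HP2Defs
import Cfsg.Agent.Lib.Helper70_Q2_TAN
import Cfsg.Agent.Lib.Helper78_HP2_ROTREFL
import Cfsg.Agent.Lib.Helper70_HP2_SWPREFL
import Cfsg.Agent.Lib.Helper53_HP2_RINV

/-!
HP2 market (architect helper83), package HP2-SIEGB, auxiliary form `SIEGB_of` with the statements of
the packages HP2-PIG0 and HP2-SPANW as explicit hypotheses (twin of `Helper7_Q2_SIEGP.SIEGP_of`):
from a reflection vector `w` with two nonsingular coordinates `l, m` and a third nonzero coordinate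
`j` to a singular vector `u` supported on `{l, m}` whose Siegel elements `sieg u z`, `z ∈ pD j`, lie
in `L`.
-/

set_option autoImplicit false
set_option linter.unusedSectionVars false
set_option linter.unusedVariables false

namespace Cfsg.Agent.Lib.Helper47_HP2_SIEGBaux

open Module Cfsg.Agent.Lib.Helper94_Symp Cfsg.Agent.Lib.Helper94_OrthSmall
  Cfsg.Agent.Lib.Helper94_OrthSiegel Cfsg.Agent.Lib.Helper94_OrthNondeg
  Cfsg.Agent.Lib.Helper29_ODDefs Cfsg.Agent.Lib.Helper94_Q2Defs Cfsg.Agent.Lib.Helper83_HP2Defs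

variable {F : Type*} [Field F] [Finite F] {t : ℕ} {S M L : Subgroup (PV F t ≃ₗ[F] PV F t)}

/-- statement of package HP2-PIG0 (after the hypothesis `7 ≤ |F|`) -/
def PIG0Stmt (F : Type*) [Field F] : Prop :=
  ∀ (ν₁ ν₂ : F), ν₁ ≠ 0 → ν₂ ≠ 0 →
    ∃ c₁ c₂ : F, c₁ ≠ 0 ∧ c₂ ≠ 0 ∧ c₁ ≠ 1 ∧ c₂ ≠ 1 ∧ ν₁ * gam c₁ + ν₂ * gam c₂ = 0

/-- statement of package HP2-SPANW (after the hypothesis `5 ≤ |F|`) -/
def SPANWStmt (F : Type*) [Field F] : Prop :=
  ∀ (ζ : F × F), ζ ≠ 0 → ∀ (A : AddSubgroup (F × F)),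
    (∀ c : F, c ≠ 0 → rotAct c ζ - ζ ∈ A) → (∀ b : F, b ≠ 0 → swpAct b ζ - ζ ∈ A) → A = ⊤

/-- rotations of one coordinate lie in `L` -/
theorem exists_rot (hC : PCtxR F t S L) (l : Fin t) {c : F} (hc : c ≠ 0) :
    ∃ g ∈ L, ∀ v j, g v j = if j = l then rotAct c (v j) else v j := by
  obtain ⟨x, y, hx, hy, hx0, hy0, hact⟩ :=
    Cfsg.Agent.Lib.Helper78_HP2_ROTREFL.ROTREFL (F := F) (t := t) l hc
  exact ⟨prefl F t hx0 * prefl F t hy0,
    L.mul_mem (hC.hR x ⟨hx0, l, hx⟩ hx0) (hC.hR y ⟨hy0, l, hy⟩ hy0), hact⟩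

/-- reflections of one coordinate lie in `L` -/
theorem exists_swp (hC : PCtxR F t S L) (l : Fin t) {b : F} (hb : b ≠ 0) :
    ∃ g ∈ L, ∀ v j, g v j = if j = l then swpAct b (v j) else v j := by
  obtain ⟨x, hx, -, hx0, hact⟩ :=
    Cfsg.Agent.Lib.Helper70_HP2_SWPREFL.SWPREFL (F := F) (t := t) l hb
  exact ⟨prefl F t hx0, hC.hR x ⟨hx0, l, hx⟩ hx0, hact⟩

/-- orthogonality from equal norms -/
theorem B_eq_zero_of_Q_sub' {V : Type*} [AddCommGroup V] [Module F V] (Q : V → F)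
    (B : LinearMap.BilinForm F V) (hQs : ∀ (c : F) (v : V), Q (c • v) = c * c * Q v)
    (hQp : ∀ u v : V, Q (u + v) = Q u + Q v + B u v) {x u : V} (h : Q (x - u) = Q x)
    (hu : Q u = 0) : B u x = 0 := by
  have h1 := hQp (x - u) u
  rw [sub_add_cancel, h, hu, add_zero] at h1
  have h2 : B (x - u) u = 0 := by linear_combination -h1
  rw [map_sub, LinearMap.sub_apply, B_self Q B hQs hQp u, hu, mul_zero, sub_zero] at h2
  rw [B_symm Q B hQp, h2]

/-- the Siegel elements at `u` inside `L`, as an additive subgroup -/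
def ZLp (L : Subgroup (PV F t ≃ₗ[F] PV F t)) (u : PV F t) (hu : pQ F t u = 0) :
    AddSubgroup (PV F t) where
  carrier := {z | pB F t u z = 0 ∧ sieg (pQ F t) (pB F t) u z ∈ L}
  add_mem' := by
    intro z z' hz hz'
    refine ⟨by rw [map_add, hz.1, hz'.1, add_zero], ?_⟩
    rw [← sieg_mul (pQ F t) (pB F t) (pQs F t) (pQp F t) hu hz.1 hz'.1]
    exact L.mul_mem hz.2 hz'.2
  zero_mem' := by
    refine ⟨by simp, ?_⟩
    rw [sieg_zero_right (pQ F t) (pB F t) (pQs F t) (pQp F t) hu]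
    exact L.one_mem
  neg_mem' := by
    intro z hz
    refine ⟨by rw [map_neg, hz.1, neg_zero], ?_⟩
    rw [← sieg_inv (pQ F t) (pB F t) (pQs F t) (pQp F t) hu hz.1]
    exact L.inv_mem hz.2

theorem mem_ZLp {u : PV F t} {hu : pQ F t u = 0} {z : PV F t} :
    z ∈ ZLp L u hu ↔ pB F t u z = 0 ∧ sieg (pQ F t) (pB F t) u z ∈ L := Iff.rfl

theorem SIEGB_of (hPIG : PIG0Stmt F) (hSPAN : SPANWStmt F)
    (hC : PCtxR F t S L) {w : PV F t} (hw : PInRc L w) {l m j : Fin t}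
    (hlm : l ≠ m) (hlj : l ≠ j) (hmj : m ≠ j) (hl : ¬ Sing (w l)) (hm : ¬ Sing (w m))
    (hj : w j ≠ 0) :
    ∃ u : PV F t, pQ F t u = 0 ∧ u l ≠ 0 ∧ u m ≠ 0 ∧ (∀ i, i ≠ l → i ≠ m → u i = 0) ∧
      ∀ z ∈ pD F t j, InZ (pQ F t) (pB F t) L u z := by
  classical
  have hν₁ : (w l).1 * (w l).2 ≠ 0 := hl
  have hν₂ : (w m).1 * (w m).2 ≠ 0 := hm
  obtain ⟨c₁, c₂, hc₁0, hc₂0, hc₁1, hc₂1, hsum⟩ := hPIG _ _ hν₁ hν₂
  obtain ⟨g₁, hg₁L, hg₁⟩ := exists_rot hC l hc₁0
  obtain ⟨g₂, hg₂L, hg₂⟩ := exists_rot hC m hc₂0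
  obtain ⟨h, hh⟩ : ∃ h : PV F t ≃ₗ[F] PV F t, h = g₁ * g₂ := ⟨_, rfl⟩
  have hhL : h ∈ L := by rw [hh]; exact L.mul_mem hg₁L hg₂L
  have hhO : h ∈ oG (pQ F t) := hC.hLO hhL
  have hact : ∀ v i, h v i =
      if i = l then rotAct c₁ (v i) else if i = m then rotAct c₂ (v i) else v i := by
    intro v i
    rw [hh, LinearEquiv.mul_apply, hg₁, hg₂]
    by_cases h1 : i = l
    · subst h1
      rw [if_pos rfl, if_pos rfl, if_neg hlm]
    · rw [if_neg h1, if_neg h1]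
  -- the vector `u`
  let u : PV F t := fun i =>
    if i = l then w l - rotAct c₁ (w l) else if i = m then w m - rotAct c₂ (w m) else 0
  have hul : u l = w l - rotAct c₁ (w l) := by simp [u]
  have hum : u m = w m - rotAct c₂ (w m) := by simp [u, hlm.symm]
  have hu0 : ∀ i, i ≠ l → i ≠ m → u i = 0 := by
    intro i h1 h2; simp [u, h1, h2]
  have huj : u j = 0 := hu0 j hlj.symm hmj.symm
  -- `v - h v = u` whenever `v` agrees with `w` at `l` and `m`
  have hsub : ∀ v : PV F t, v l = w l → v m = w m → v - h v = u := by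
    intro v hvl hvm
    funext i
    rw [Pi.sub_apply, hact]
    by_cases h1 : i = l
    · subst h1
      rw [if_pos rfl, hul, hvl]
    · by_cases h2 : i = m
      · subst h2
        rw [if_neg h1, if_pos rfl, hum, hvm]
      · rw [if_neg h1, if_neg h2, hu0 i h1 h2, sub_self]
  have hprod : ∀ (c : F) (ζ : F × F), c ≠ 0 →
      (ζ - rotAct c ζ).1 * (ζ - rotAct c ζ).2 = ζ.1 * ζ.2 * gam c := by
    intro c ζ hc
    unfold rotAct gam
    simp only [Prod.fst_sub, Prod.snd_sub]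
    ring
  have hQu : pQ F t u = 0 := by
    rw [pQ_apply, Finset.sum_eq_add l m hlm]
    · rw [hul, hum, hprod c₁ _ hc₁0, hprod c₂ _ hc₂0]
      exact hsum
    · intro i _ hi
      rw [hu0 i hi.1 hi.2]
      simp
    · intro h'; exact absurd (Finset.mem_univ l) h'
    · intro h'; exact absurd (Finset.mem_univ m) h'
  have hne : ∀ (c : F) (ζ : F × F), c ≠ 1 → ζ.1 * ζ.2 ≠ 0 → ζ - rotAct c ζ ≠ 0 := by
    intro c ζ hc hζ h0
    have h1 : (ζ - rotAct c ζ).1 = 0 := by rw [h0]; rfl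
    unfold rotAct at h1
    simp only [Prod.fst_sub] at h1
    have h2 : (1 - c) * ζ.1 = 0 := by linear_combination h1
    rcases mul_eq_zero.mp h2 with h3 | h3
    · exact hc (sub_eq_zero.mp h3).symm
    · exact hζ (by rw [h3, zero_mul])
  refine ⟨u, hQu, by rw [hul]; exact hne c₁ _ hc₁1 hν₁, by rw [hum]; exact hne c₂ _ hc₂1 hν₂,
    hu0, ?_⟩
  obtain ⟨hw0, hwL⟩ := hw
  -- `pB u z = 0` for `z` in the plane `j`
  have hBuz : ∀ ζ : F × F, pB F t u (Pi.single j ζ) = 0 := by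
    intro ζ
    rw [Cfsg.Agent.Lib.Helper78_HP2_ROTREFL.h78_pB_single, huj]
    simp
  -- the Siegel elements attached to the moved vectors
  have hS : ∀ c ∈ L, c w l = w l → c w m = w m →
      pB F t u (c w) = 0 ∧ sieg (pQ F t) (pB F t) u ((pQ F t w)⁻¹ • c w) ∈ L := by
    intro c hcL hvl hvm
    have hcO : c ∈ oG (pQ F t) := hC.hLO hcL
    have hv1 : PInRc L (c w) := Cfsg.Agent.Lib.Helper53_HP2_RINV.RINV hC.hLO ⟨hw0, hwL⟩ hcL
    have hv2 : PInRc L (h (c w)) := Cfsg.Agent.Lib.Helper53_HP2_RINV.RINV hC.hLO hv1 hhL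
    obtain ⟨hq1, hr1⟩ := hv1
    obtain ⟨hq2, hr2⟩ := hv2
    have hd : c w - h (c w) = u := hsub (c w) hvl hvm
    have hQeq : pQ F t (c w) = pQ F t (h (c w)) := (hhO (c w)).symm
    have htan := Cfsg.Agent.Lib.Helper70_Q2_TAN.TAN_mem (pQ F t) (pB F t) (pQs F t)
      (pQp F t) hq1 hq2 hQeq (by rw [hd]; exact hQu) L hr1 hr2
    rw [hd, hcO w] at htan
    refine ⟨?_, htan⟩
    apply B_eq_zero_of_Q_sub' (pQ F t) (pB F t) (pQs F t) (pQp F t) _ hQu
    have : c w - u = h (c w) := by rw [← hd]; abel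
    rw [this, hhO]
  obtain ⟨hBv₁, hSv₁⟩ : pB F t u w = 0 ∧
      sieg (pQ F t) (pB F t) u ((pQ F t w)⁻¹ • w) ∈ L := by
    have := hS 1 L.one_mem rfl rfl
    simpa using this
  -- the additive subgroup `A`
  let φ : F × F →+ PV F t :=
    AddMonoidHom.mk' (fun ζ => (pQ F t w)⁻¹ • (Pi.single j ζ : PV F t)) (by
      intro ζ ζ'
      rw [Pi.single_add, smul_add])
  have hφ : ∀ ζ, φ ζ = (pQ F t w)⁻¹ • (Pi.single j ζ : PV F t) := fun ζ => rfl
  -- the key step: differences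
  have hdiff : ∀ c ∈ L, c w l = w l → c w m = w m → (∀ i, i ≠ j → c w i = w i) →
      c w j - w j ∈ (ZLp L u hQu).comap φ := by
    intro c hcL hvl hvm hother
    obtain ⟨hBv, hSv⟩ := hS c hcL hvl hvm
    rw [AddSubgroup.mem_comap, mem_ZLp, hφ]
    have hd : (pQ F t w)⁻¹ • (Pi.single j (c w j - w j) : PV F t) =
        (pQ F t w)⁻¹ • c w + -((pQ F t w)⁻¹ • w) := by
      rw [← smul_neg, ← smul_add]
      congr 1
      funext i
      rw [Pi.add_apply, Pi.neg_apply]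
      by_cases hi : i = j
      · subst hi
        rw [Pi.single_eq_same, sub_eq_add_neg]
      · rw [Pi.single_eq_of_ne hi, hother i hi, add_neg_cancel]
    have hB1 : pB F t u ((pQ F t w)⁻¹ • c w) = 0 := by rw [map_smul, hBv, smul_zero]
    have hB2 : pB F t u ((pQ F t w)⁻¹ • w) = 0 := by rw [map_smul, hBv₁, smul_zero]
    refine ⟨by rw [map_smul, hBuz, smul_zero], ?_⟩
    rw [hd, ← sieg_mul (pQ F t) (pB F t) (pQs F t) (pQp F t) hQu hB1
      (by rw [map_neg, hB2, neg_zero]),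
      ← sieg_inv (pQ F t) (pB F t) (pQs F t) (pQp F t) hQu hB2]
    exact L.mul_mem hSv (L.inv_mem hSv₁)
  have hA : (ZLp L u hQu).comap φ = ⊤ := by
    apply hSPAN (w j) hj
    · intro c hc
      obtain ⟨g, hgL, hg⟩ := exists_rot hC j hc
      have := hdiff g hgL (by rw [hg, if_neg hlj]) (by rw [hg, if_neg hmj])
        (fun i hi => by rw [hg, if_neg hi])
      rwa [hg, if_pos rfl] at this
    · intro b hb
      obtain ⟨g, hgL, hg⟩ := exists_swp hC j hb
      have := hdiff g hgL (by rw [hg, if_neg hlj]) (by rw [hg, if_neg hmj])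
        (fun i hi => by rw [hg, if_neg hi])
      rwa [hg, if_pos rfl] at this
  -- conclusion
  intro z hz
  have hzs : z = Pi.single j (z j) := by
    funext i
    by_cases hi : i = j
    · subst hi; rw [Pi.single_eq_same]
    · rw [Pi.single_eq_of_ne hi, hz i hi]
  refine ⟨by rw [hzs]; exact hBuz _, fun s => ?_⟩
  have hmem : (pQ F t w • (s • z j)) ∈ (ZLp L u hQu).comap φ := by
    rw [hA]; exact AddSubgroup.mem_top _
  rw [AddSubgroup.mem_comap, mem_ZLp, hφ] at hmem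
  have he : (pQ F t w)⁻¹ • (Pi.single j (pQ F t w • (s • z j)) : PV F t) = s • z := by
    funext i
    rw [Pi.smul_apply, Pi.smul_apply]
    by_cases hi : i = j
    · subst hi
      rw [Pi.single_eq_same, inv_smul_smul₀ hw0]
    · rw [Pi.single_eq_of_ne hi, smul_zero, hz i hi, smul_zero]
  rw [he] at hmem
  exact hmem.2

end Cfsg.Agent.Lib.Helper47_HP2_SIEGBaux
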