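import Cfsg.Agent.Lib.Helper47_IsoBase

/-!
# Isolated `p`-minimal subgroups: the configuration in `G / O_p(G)` when `Ȳ` is perfect (helper47, S3044)

`BarHyp p Y C S W` abstracts what is known in `H = G / O_p(G)` about `Y = Ȳ`, `C = image of O_p(L)`,
`S = S̄`, `W = image of O^p(P)` in the case where `Ȳ` is perfect.
-/

set_option autoImplicit false

open Cfsg
open scoped commutatorElement Pointwise

namespace Cfsg.Agent.Lib.Helper47_IsoBar

universe u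

/-- The configuration in `H = G / O_p(G)`: `Y = ⟨W^H⟩` is perfect, nontrivial, `Y = [Y, C]`, `C ≤ S` `p`-groups,
`O_p(H) = 1`, `H = Y N_H(C)`, and the two dichotomies. -/
structure BarHyp (p : ℕ) {H : Type u} [Group H] (Y C S W : Subgroup H) : Prop where
  hYn : Y.Normal
  hY : Y = Subgroup.normalClosure (W : Set H)
  hW : W ≠ ⊥
  hS : IsPGroup p ↥S
  hCS : C ≤ S
  hcore : Cfsg.pCore p H = ⊥
  hYC : Y ≤ ⁅Y, C⁆
  hperf : Y ≤ ⁅Y, Y⁆
  hgen : Y ⊔ Subgroup.normalizer (C : Set H) = ⊤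
  hSC : S ≤ Subgroup.normalizer (C : Set H)
  normal_dich : ∀ N : Subgroup H, N.Normal → W ≤ N ∨ (⁅N, C⁆ = ⊥ ∧ ⁅N, Y⁆ = ⊥)
  sub_dich : ∀ N : Subgroup H, S ≤ Subgroup.normalizer (N : Set H) →
    W ≤ N ∨ (N ≤ Subgroup.normalizer (C : Set H) ∧ ⁅N, C⁆ ≤ N ⊓ C)

namespace BarHyp

variable {H : Type u} [Group H] {p : ℕ} {Y C S W : Subgroup H}

theorem W_le_Y (hb : BarHyp p Y C S W) : W ≤ Y := by
  rw [hb.hY]; exact Subgroup.subset_normalClosure

theorem Y_ne_bot (hb : BarHyp p Y C S W) : Y ≠ ⊥ := by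
  intro h
  apply hb.hW
  rw [eq_bot_iff, ← h]
  exact hb.W_le_Y

theorem Y_le_of_W_le (hb : BarHyp p Y C S W) {N : Subgroup H} (hN : N.Normal) (h : W ≤ N) : Y ≤ N := by
  rw [hb.hY]
  exact Subgroup.normalClosure_le_normal h

theorem isPGroup_C (hb : BarHyp p Y C S W) : IsPGroup p ↥C := hb.hS.to_le hb.hCS

/-- `Y` is not abelian. -/
theorem commutator_self_ne_bot (hb : BarHyp p Y C S W) : ⁅Y, Y⁆ ≠ ⊥ := by
  intro h
  apply hb.Y_ne_bot
  rw [eq_bot_iff, ← h]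
  exact hb.hperf

/-- `C` does not centralize `Y`. -/
theorem commutator_C_ne_bot (hb : BarHyp p Y C S W) : ⁅Y, C⁆ ≠ ⊥ := by
  intro h
  apply hb.Y_ne_bot
  rw [eq_bot_iff, ← h]
  exact hb.hYC

/-- No subgroup `N ≥ Y`... : if `Y ≤ N` then `[N, Y] ≠ ⊥`. -/
theorem commutator_ne_bot_of_le (hb : BarHyp p Y C S W) {N : Subgroup H} (h : Y ≤ N) : ⁅N, Y⁆ ≠ ⊥ := by
  intro h1
  apply hb.commutator_self_ne_bot
  rw [eq_bot_iff, ← h1]
  exact Subgroup.commutator_mono h le_rfl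

/-- For a normal `N` not containing `Y`: `[N, C] = 1` and `[N, Y] = 1`. -/
theorem normal_dich' (hb : BarHyp p Y C S W) {N : Subgroup H} (hN : N.Normal) (h : ¬ Y ≤ N) :
    ⁅N, C⁆ = ⊥ ∧ ⁅N, Y⁆ = ⊥ := by
  rcases hb.normal_dich N hN with h1 | h1
  · exact absurd (hb.Y_le_of_W_le hN h1) h
  · exact h1

end BarHyp

end Cfsg.Agent.Lib.Helper47_IsoBar
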