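import Cfsg.Agent.Lib.Helper48_Op
import Cfsg.Agent.Lib.Lead_Subnormal
import Cfsg.Agent.Lib.Helper21_Components
import Cfsg.Agent.Lib.Helper22_Cores
import Cfsg.Agent.Lib.Helper23_PComp
import Cfsg.Agent.Lib.Helper2_PResidual
import Cfsg.Agent.Lib.Helper48_SPE

/-!
# Wielandt's theorem on `O^p` of a join of subnormal subgroups (helper48)

* `normal_of_Op_eq`: if `R = O^p(R)` and `B` are subnormal in the finite group `J = ⟨R, B⟩` and
  `O^p(B) ≤ R`, then `R` is normal in `J`.
* `le_normalizer_of_Op_le`: relative form, `B ≤ N_G(R)`.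
* `pResidual_le_sup_Op`: if `A`, `B` are subnormal and `⟨A, B⟩ = G` then `O^p(G) = ⟨O^p(A), O^p(B)⟩`.
-/

set_option autoImplicit false
open Cfsg
open scoped Pointwise commutatorElement
open Cfsg.Agent.Lib.Helper48_SPE Cfsg.Agent.Lib.Helper48_Op Cfsg.Agent.Lib.Lead_Subnormal

namespace Cfsg.Agent.Lib.Helper48_OpJoin

universe u

section General

variable {G : Type*} [Group G]

theorem mem_normalizer_of_conj_smul_le {x : G} {D : Subgroup G} (h1 : MulAut.conj x • D ≤ D)
    (h2 : MulAut.conj x⁻¹ • D ≤ D) : x ∈ Subgroup.normalizer (D : Set G) := by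
  rw [Subgroup.mem_normalizer_iff]
  intro y
  constructor
  · intro hy
    exact h1 (conj_mem_conj_smul hy)
  · intro hy
    have := h2 (conj_mem_conj_smul hy)
    have e : x⁻¹ * (x * y * x⁻¹) * x⁻¹⁻¹ = y := by group
    rwa [e] at this

/-- If the normal subgroup `N` normalizes `R`, then `R` normalizes `(N ∩ R)(N ∩ B)`. -/
theorem le_normalizer_inf_sup_inf {N R : Subgroup G} (B : Subgroup G) [hN : N.Normal]
    (hNR : N ≤ Subgroup.normalizer (R : Set G)) :
    R ≤ Subgroup.normalizer (((N ⊓ R) ⊔ (N ⊓ B) : Subgroup G) : Set G) := by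
  have key : ∀ r ∈ R, MulAut.conj r • ((N ⊓ R) ⊔ (N ⊓ B)) ≤ (N ⊓ R) ⊔ (N ⊓ B) := by
    intro r hr
    rw [Subgroup.smul_sup]
    apply sup_le
    · refine le_trans ?_ le_sup_left
      intro y hy
      rw [mem_conj_smul_iff] at hy
      have e : r * (r⁻¹ * y * r) * r⁻¹ = y := by group
      constructor
      · have := hN.conj_mem _ hy.1 r
        rwa [e] at this
      · have := R.mul_mem (R.mul_mem hr hy.2) (R.inv_mem hr)
        rwa [e] at this
    · intro y hy
      rw [mem_conj_smul_iff] at hy
      -- `y = [r, x] x` with `x = r⁻¹ y r`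
      have hx := hy
      have e : y = (r * (r⁻¹ * y * r) * r⁻¹ * (r⁻¹ * y * r)⁻¹) * (r⁻¹ * y * r) := by group
      rw [e]
      refine Subgroup.mul_mem_sup ⟨?_, ?_⟩ hx
      · exact N.mul_mem (hN.conj_mem _ hx.1 r) (N.inv_mem hx.1)
      · have h1 : (r⁻¹ * y * r) * r⁻¹ * (r⁻¹ * y * r)⁻¹ ∈ R :=
          (Subgroup.mem_normalizer_iff.mp (hNR hx.1) r⁻¹).mp (R.inv_mem hr)
        have := R.mul_mem hr h1
        have e2 : r * ((r⁻¹ * y * r) * r⁻¹ * (r⁻¹ * y * r)⁻¹) =
            r * (r⁻¹ * y * r) * r⁻¹ * (r⁻¹ * y * r)⁻¹ := by group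
        rwa [e2] at this
  intro r hr
  exact mem_normalizer_of_conj_smul_le (key r hr) (key r⁻¹ (R.inv_mem hr))

/-- A normal subgroup normalizing `R` and meeting it trivially centralizes `R`. -/
theorem le_centralizer_of_inf_eq_bot {N R : Subgroup G} [hN : N.Normal]
    (hNR : N ≤ Subgroup.normalizer (R : Set G)) (h : N ⊓ R = ⊥) :
    N ≤ Subgroup.centralizer (R : Set G) := by
  intro n hn
  rw [Subgroup.mem_centralizer_iff]
  intro r hr
  have h1 : n * r * n⁻¹ * r⁻¹ ∈ N ⊓ R := by
    constructor
    · have := N.mul_mem hn (hN.conj_mem _ (N.inv_mem hn) r)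
      have e : n * (r * n⁻¹ * r⁻¹) = n * r * n⁻¹ * r⁻¹ := by group
      rwa [e] at this
    · exact R.mul_mem ((Subgroup.mem_normalizer_iff.mp (hNR hn) r).mp hr) (R.inv_mem hr)
  rw [h, Subgroup.mem_bot] at h1
  calc r * n = (n * r * n⁻¹ * r⁻¹)⁻¹ * n * r := by group
    _ = n * r := by rw [h1]; group

end General

/-- **Wielandt**: if `R = O^p(R)` and `B` are subnormal, `O^p(B) ≤ R` and `⟨R, B⟩ = J`, then `R ⊴ J`
(induction on the order of `J`). -/
theorem normal_of_Op_eq_aux (p : ℕ) [Fact p.Prime] : ∀ (n : ℕ) (J : Type u) [Group J] [Finite J],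
    Nat.card J = n → ∀ R B : Subgroup J, R.IsSubnormal → B.IsSubnormal → Op p R = R →
      Op p B ≤ R → R ⊔ B = ⊤ → R.Normal := by
  have hp : p.Prime := Fact.out
  intro n
  induction n using Nat.strong_induction_on with
  | _ n ih =>
    intro J _ _ hn R B hR hB hOpR hOpB htop
    -- quotient step
    have hquot : ∀ L : Subgroup J, L.Normal → L ≠ ⊥ → (R ⊔ L).Normal := by
      intro L hL hL1
      have hcard : Nat.card (J ⧸ L) < n := by
        have h1 := Subgroup.card_eq_card_quotient_mul_card_subgroup L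
        have h2 : 1 < Nat.card ↥L := (Subgroup.one_lt_card_iff_ne_bot L).mpr hL1
        have h3 : 0 < Nat.card (J ⧸ L) := Nat.card_pos
        rw [← hn, h1]
        nlinarith
      have hsurj : Function.Surjective (QuotientGroup.mk' L) := QuotientGroup.mk'_surjective L
      have h := ih _ hcard (J ⧸ L) rfl (R.map (QuotientGroup.mk' L)) (B.map (QuotientGroup.mk' L))
        (hR.map hsurj) (hB.map hsurj) (by rw [← Op_map, hOpR])
        (by rw [← Op_map]; exact Subgroup.map_mono hOpB)
        (by rw [← Subgroup.map_sup, htop, Subgroup.map_top_of_surjective _ hsurj])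
      have h2 : ((R.map (QuotientGroup.mk' L)).comap (QuotientGroup.mk' L)).Normal := h.comap _
      rw [Subgroup.comap_map_eq, QuotientGroup.ker_mk'] at h2
      exact h2
    by_cases hP : pCore p J = ⊥
    swap
    · -- `O_p(J) ≠ 1`
      have hn1 : (R ⊔ pCore p J).Normal := hquot (pCore p J) inferInstance hP
      have h1 : Op p (R ⊔ pCore p J) = R := by
        apply le_antisymm (Op_sup_pCore_le hR)
        have := Op_mono (p := p) (le_sup_left : R ≤ R ⊔ pCore p J)
        rwa [hOpR] at this
      rw [← h1]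
      exact Op_normal p _
    · by_cases hJ : (⊤ : Subgroup J) = ⊥
      · have hRtop : R = ⊤ := by
          rw [hJ]
          exact le_bot_iff.mp (hJ ▸ le_top)
        rw [hRtop]
        infer_instance
      obtain ⟨N, hNmin, -⟩ := exists_isMinNormal_le (⊤ : Subgroup J) inferInstance hJ
      have hNn : N.Normal := hNmin.1
      have hRN : (R ⊔ N).Normal := hquot N hNn hNmin.2.1
      have hNR : N ≤ Subgroup.normalizer (R : Set J) := IsMinNormal.le_normalizer hR hNmin
      have hNB : N ≤ Subgroup.normalizer (B : Set J) := IsMinNormal.le_normalizer hB hNmin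
      have hDn : ((N ⊓ R) ⊔ (N ⊓ B)).Normal := by
        rw [← Subgroup.normalizer_eq_top_iff, eq_top_iff, ← htop]
        apply sup_le (le_normalizer_inf_sup_inf B hNR)
        have := le_normalizer_inf_sup_inf R hNB
        rwa [sup_comm] at this
      rcases hNmin.2.2 _ hDn (sup_le inf_le_left inf_le_left) with hD | hD
      · -- `N` is central
        rw [sup_eq_bot_iff] at hD
        have hNcR := le_centralizer_of_inf_eq_bot hNR hD.1
        have hNcB := le_centralizer_of_inf_eq_bot hNB hD.2
        have hNZ : N ≤ Subgroup.center J := by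
          intro z hz
          rw [Subgroup.mem_center_iff]
          intro g
          have hg : g ∈ Subgroup.centralizer ({z} : Set J) := by
            have h1 : R ⊔ B ≤ Subgroup.centralizer ({z} : Set J) := by
              apply sup_le
              · intro r hr
                rw [Subgroup.mem_centralizer_singleton_iff]
                exact Subgroup.mem_centralizer_iff.mp (hNcR hz) r hr
              · intro b hb
                rw [Subgroup.mem_centralizer_singleton_iff]
                exact Subgroup.mem_centralizer_iff.mp (hNcB hz) b hb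
            rw [htop] at h1
            exact h1 (Subgroup.mem_top g)
          rw [Subgroup.mem_centralizer_singleton_iff] at hg
          exact hg
        have hKR : ⁅R ⊔ N, R ⊔ N⁆ ≤ R := by
          rw [Subgroup.commutator_le]
          intro a ha b hb
          obtain ⟨r, hr, z, hz, rfl⟩ := Subgroup.mem_sup_of_normal_right.mp ha
          obtain ⟨r', hr', z', hz', rfl⟩ := Subgroup.mem_sup_of_normal_right.mp hb
          rw [Cfsg.Agent.Lib.Helper21_Components.commutatorElement_mul_center_left (hNZ hz),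
            Cfsg.Agent.Lib.Helper21_Components.commutatorElement_mul_center_right (hNZ hz')]
          exact (Subgroup.commutator_le_self R) (Subgroup.commutator_mem_commutator hr hr')
        by_cases hK : ⁅R ⊔ N, R ⊔ N⁆ = ⊥
        · -- `Q = R N` is an abelian normal `p'`-group
          have hQc : IsMulCommutative ↥(R ⊔ N) := by
            rw [Subgroup.commutator_eq_bot_iff_le_centralizer] at hK
            refine ⟨⟨fun a b => Subtype.ext ?_⟩⟩
            have := Subgroup.mem_centralizer_iff.mp (hK a.2) b b.2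
            exact this.symm
          have hQ : ¬ p ∣ Nat.card ↥(R ⊔ N) := by
            intro hdvd
            obtain ⟨TQ, hTQ⟩ := exists_isSylowIn p (R ⊔ N)
            have hQN : R ⊔ N ≤ Subgroup.normalizer (TQ : Set J) := by
              rw [Subgroup.commutator_eq_bot_iff_le_centralizer] at hK
              exact (hK.trans (Subgroup.centralizer_le hTQ.le)).trans
                (Subgroup.centralizer_le_normalizer _)
            have h1 := Cfsg.Agent.Lib.Helper22_Cores.le_pCore_of_le_isSubnormal p hRN.isSubnormal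
              hTQ.le hQN hTQ.isPGroup
            rw [hP, le_bot_iff] at h1
            exact hTQ.ne_bot hdvd h1
          obtain ⟨SB, hSB⟩ := exists_isSylowIn p B
          have h1 : ⁅R ⊔ N, SB⁆ ≤ B :=
            commutator_le_of_isSubnormal_of_coprime (R ⊔ N) hQ hB SB hSB.le hSB.isPGroup
          have h2 : ⁅R ⊔ N, SB⁆ ≤ R ⊔ N := Subgroup.commutator_le_left _ _
          have h3 : B ⊓ (R ⊔ N) ≤ Op p B := by
            intro x hx
            apply mem_Op hx.1
            have hord : orderOf x ∣ Nat.card ↥(R ⊔ N) := by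
              have := Subgroup.orderOf_dvd_natCard (R ⊔ N) hx.2
              exact this
            exact Nat.Coprime.coprime_dvd_left hord
              ((Nat.Prime.coprime_iff_not_dvd hp).mpr hQ).symm
          have h4 : ⁅R ⊔ N, SB⁆ ≤ R := (le_inf h1 h2).trans (h3.trans hOpB)
          have hSBn : SB ≤ Subgroup.normalizer (R : Set J) := by
            have key : ∀ s ∈ SB, MulAut.conj s • R ≤ R := by
              intro s hs y hy
              rw [mem_conj_smul_iff] at hy
              have hc : ⁅s, s⁻¹ * y * s⁆ ∈ ⁅R ⊔ N, SB⁆ := by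
                rw [Subgroup.commutator_comm]
                exact Subgroup.commutator_mem_commutator hs (Subgroup.mem_sup_left hy)
              have := R.mul_mem (h4 hc) hy
              have e : ⁅s, s⁻¹ * y * s⁆ * (s⁻¹ * y * s) = y := by
                rw [commutatorElement_def]
                group
              rwa [e] at this
            intro s hs
            exact mem_normalizer_of_conj_smul_le (key s hs) (key s⁻¹ (SB.inv_mem hs))
          have hBn : B ≤ Subgroup.normalizer (R : Set J) := by
            rw [← Op_sup_isSylowIn hSB]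
            exact sup_le (hOpB.trans Subgroup.le_normalizer) hSBn
          rw [← Subgroup.normalizer_eq_top_iff, eq_top_iff, ← htop]
          exact sup_le Subgroup.le_normalizer hBn
        · have h1 := hquot _ inferInstance hK
          rwa [sup_eq_left.mpr hKR] at h1
      · -- `N = (N ∩ R)(N ∩ B)`: then `R N / R` is a `p`-group
        have h1 : Op p (R ⊔ N) = R := by
          apply le_antisymm
          · apply Op_le_of_normal_of_relIndex le_sup_left (sup_le Subgroup.le_normalizer hNR)
            have e1 : R.relIndex (R ⊔ N) = R.relIndex N := by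
              rw [sup_comm]
              exact Cfsg.Agent.Lib.Helper23_PComp.relIndex_sup_of_le_normalizer R N hNR
            have e2 : R.relIndex N = (N ⊓ R).relIndex N := by
              rw [inf_comm]
              exact (Subgroup.inf_relIndex_right R N).symm
            have hNN : N ⊓ B ≤ Subgroup.normalizer ((N ⊓ R : Subgroup J) : Set J) := by
              intro x hx
              have hxR := hNR hx.1
              rw [Subgroup.mem_normalizer_iff] at hxR ⊢
              intro y
              constructor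
              · rintro ⟨hy1, hy2⟩
                exact ⟨hNn.conj_mem _ hy1 x, (hxR y).mp hy2⟩
              · rintro ⟨hy1, hy2⟩
                refine ⟨?_, (hxR y).mpr hy2⟩
                have := hNn.conj_mem _ hy1 x⁻¹
                have e : x⁻¹ * (x * y * x⁻¹) * x⁻¹⁻¹ = y := by group
                rwa [e] at this
            have e3 : (N ⊓ R).relIndex N = (N ⊓ R).relIndex (N ⊓ B) := by
              have := Cfsg.Agent.Lib.Helper23_PComp.relIndex_sup_of_le_normalizer (N ⊓ R) (N ⊓ B) hNN
              rw [sup_comm, hD] at this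
              exact this
            have hle : Op p (N ⊓ B) ≤ N ⊓ R :=
              le_inf ((Op_le p _).trans inf_le_left) ((Op_mono inf_le_right).trans hOpB)
            have hdvd : (N ⊓ R).relIndex (N ⊓ B) ∣ (Op p (N ⊓ B)).relIndex (N ⊓ B) :=
              Subgroup.relIndex_dvd_of_le_left (N ⊓ B) hle
            obtain ⟨j, hj⟩ := relIndex_Op p (N ⊓ B)
            rw [hj] at hdvd
            obtain ⟨i, -, hi⟩ := (Nat.dvd_prime_pow hp).mp hdvd
            exact ⟨i, by rw [e1, e2, e3, hi]⟩
          · have := Op_mono (p := p) (le_sup_left : R ≤ R ⊔ N)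
            rwa [hOpR] at this
        rw [← h1]
        exact Op_normal p _

/-- **Wielandt**: if `R = O^p(R)` and `B` are subnormal in `J = ⟨R, B⟩` and `O^p(B) ≤ R` then `R ⊴ J`. -/
theorem normal_of_Op_eq {J : Type u} [Group J] [Finite J] {p : ℕ} [Fact p.Prime] {R B : Subgroup J}
    (hR : R.IsSubnormal) (hB : B.IsSubnormal) (hOpR : Op p R = R) (hOpB : Op p B ≤ R)
    (htop : R ⊔ B = ⊤) : R.Normal :=
  normal_of_Op_eq_aux p _ J rfl R B hR hB hOpR hOpB htop

section Relative

variable {G : Type u} [Group G] [Finite G] {p : ℕ} [Fact p.Prime]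

/-- Relative form of Wielandt's theorem: a subnormal `B` with `O^p(B) ≤ R` normalizes the subnormal
subgroup `R = O^p(R)`. -/
theorem le_normalizer_of_Op_le {R B : Subgroup G} (hR : R.IsSubnormal) (hB : B.IsSubnormal)
    (hOpR : Op p R = R) (hOpB : Op p B ≤ R) : B ≤ Subgroup.normalizer (R : Set G) := by
  have hinj : Function.Injective (R ⊔ B).subtype := (R ⊔ B).subtype_injective
  have hRm : (R.subgroupOf (R ⊔ B)).map (R ⊔ B).subtype = R :=
    Subgroup.map_subgroupOf_eq_of_le le_sup_left
  have hBm : (B.subgroupOf (R ⊔ B)).map (R ⊔ B).subtype = B :=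
    Subgroup.map_subgroupOf_eq_of_le le_sup_right
  have h1 : Op p (R.subgroupOf (R ⊔ B)) = R.subgroupOf (R ⊔ B) := by
    apply Subgroup.map_injective hinj
    rw [Op_map_of_injective p _ hinj, hRm, hOpR]
  have h2 : Op p (B.subgroupOf (R ⊔ B)) ≤ R.subgroupOf (R ⊔ B) := by
    rw [← Subgroup.map_le_map_iff_of_injective hinj, Op_map_of_injective p _ hinj, hBm, hRm]
    exact hOpB
  have h3 : R.subgroupOf (R ⊔ B) ⊔ B.subgroupOf (R ⊔ B) = ⊤ := by
    apply Subgroup.map_injective hinj
    rw [Subgroup.map_sup, hRm, hBm, ← MonoidHom.range_eq_map, Subgroup.range_subtype]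
  have h4 : (R.subgroupOf (R ⊔ B)).Normal :=
    normal_of_Op_eq hR.subgroupOf hB.subgroupOf h1 h2 h3
  rw [Subgroup.normal_subgroupOf_iff_le_normalizer le_sup_left] at h4
  exact le_sup_right.trans h4

omit [Finite G] [Fact p.Prime] in
/-- `O^p(A)` is subnormal when `A` is. -/
theorem isSubnormal_Op {A : Subgroup G} (hA : A.IsSubnormal) : (Op p A).IsSubnormal := by
  have h1 : ((Op p A).subgroupOf A).Normal :=
    (Subgroup.normal_subgroupOf_iff_le_normalizer (Op_le p A)).mpr
      (Subgroup.le_normalizer.trans (normalizer_le_normalizer_Op p A))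
  exact Subgroup.IsSubnormal.trans (Op_le p A) h1.isSubnormal hA

/-- **Wielandt**: for subnormal `A`, `B` the subgroup `⟨O^p(A), O^p(B)⟩` is normalized by `A` and `B`. -/
theorem le_normalizer_Op_sup_Op {A B : Subgroup G} (hA : A.IsSubnormal) (hB : B.IsSubnormal) :
    A ⊔ B ≤ Subgroup.normalizer ((Op p A ⊔ Op p B : Subgroup G) : Set G) := by
  have hR : (Op p A ⊔ Op p B).IsSubnormal := isSubnormal_sup (isSubnormal_Op hA) (isSubnormal_Op hB)
  have hOpR : Op p (Op p A ⊔ Op p B) = Op p A ⊔ Op p B := Op_sup_eq_of_eq (Op_Op p A) (Op_Op p B)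
  exact sup_le (le_normalizer_of_Op_le hR hA hOpR le_sup_left)
    (le_normalizer_of_Op_le hR hB hOpR le_sup_right)

/-- **Wielandt**: if `G = ⟨A, B⟩` with `A`, `B` subnormal then `O^p(G) = ⟨O^p(A), O^p(B)⟩`. -/
theorem pResidual_le_sup_Op {A B : Subgroup G} (hA : A.IsSubnormal) (hB : B.IsSubnormal)
    (htop : A ⊔ B = ⊤) : pResidual p G ≤ Op p A ⊔ Op p B := by
  have hRn : (Op p A ⊔ Op p B).Normal := by
    rw [← Subgroup.normalizer_eq_top_iff, eq_top_iff, ← htop]
    exact le_normalizer_Op_sup_Op hA hB
  have hsurj : Function.Surjective (QuotientGroup.mk' (Op p A ⊔ Op p B)) :=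
    QuotientGroup.mk'_surjective _
  have hpg : ∀ C : Subgroup G, Op p C ≤ Op p A ⊔ Op p B →
      IsPGroup p ↥(C.map (QuotientGroup.mk' (Op p A ⊔ Op p B))) := by
    intro C hC
    rintro ⟨_, ⟨c, hc, rfl⟩⟩
    obtain ⟨k, hk⟩ := exists_pow_mem_Op (p := p) hc
    refine ⟨k, ?_⟩
    apply Subtype.ext
    rw [Subgroup.coe_pow, Subgroup.coe_one, ← map_pow]
    exact (QuotientGroup.eq_one_iff _).mpr (hC hk)
  have h1 : A.map (QuotientGroup.mk' (Op p A ⊔ Op p B)) ≤ pCore p (G ⧸ (Op p A ⊔ Op p B)) :=
    Cfsg.Agent.Lib.Helper22_Cores.le_pCore_of_isSubnormal p (hA.map hsurj) (hpg A le_sup_left)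
  have h2 : B.map (QuotientGroup.mk' (Op p A ⊔ Op p B)) ≤ pCore p (G ⧸ (Op p A ⊔ Op p B)) :=
    Cfsg.Agent.Lib.Helper22_Cores.le_pCore_of_isSubnormal p (hB.map hsurj) (hpg B le_sup_right)
  have h3 : pCore p (G ⧸ (Op p A ⊔ Op p B)) = ⊤ := by
    rw [eq_top_iff, ← Subgroup.map_top_of_surjective _ hsurj, ← htop, Subgroup.map_sup]
    exact sup_le h1 h2
  have h4 : IsPGroup p (G ⧸ (Op p A ⊔ Op p B)) := by
    have h5 := Cfsg.Agent.Lib.Helper1_Cores.pCore_isPGroup (G := G ⧸ (Op p A ⊔ Op p B)) p
    rw [h3] at h5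
    exact h5.of_equiv Subgroup.topEquiv
  exact Cfsg.Agent.Lib.Helper2_PResidual.pResidual_le_of_isPGroup_quotient _ h4

/-- **Wielandt**: `O^p(⟨A, B⟩) = ⟨O^p(A), O^p(B)⟩` when `⟨A, B⟩ = G`. -/
theorem pResidual_eq_sup_Op {A B : Subgroup G} (hA : A.IsSubnormal) (hB : B.IsSubnormal)
    (htop : A ⊔ B = ⊤) : pResidual p G = Op p A ⊔ Op p B := by
  apply le_antisymm (pResidual_le_sup_Op hA hB htop)
  rw [← Op_top]
  exact sup_le (Op_mono le_top) (Op_mono le_top)

end Relative

end Cfsg.Agent.Lib.Helper48_OpJoin
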