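import Cfsg.Agent.S2790
import Cfsg.Agent.Lib.Helper47_SubAPI
import Cfsg.Agent.Lib.Helper47_PClosed
import Cfsg.Agent.Lib.Helper48_PMinimal2
import Cfsg.Agent.Lib.Helper48_OpJoin
import Cfsg.Agent.Lib.Helper22_Cores
import Cfsg.Agent.Lib.Helper24_CoprimeAction
import Cfsg.Prelude.Def_LocalEven

/-!
# Isolated `p`-minimal subgroups: basic machinery (helper47, for S3044 / S3045)

`S` a Sylow `p`-subgroup of `G`, `P ≥ S` a `p`-minimal subgroup, `L = ⟨N_G(S), P' ≠ P⟩`,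
`C = O_p(L) ≰ O_p(P)`, `W = O^p(P)`, `Y = ⟨W^G⟩`, `Q = O_p(G)`.

* `gen_claim`: every `H ≥ S` is generated by `N_H(S)` and the `p`-minimal subgroups of `H` over `S`.
* `IsoHyp.dich`: for every `X ≥ S`: `P ≤ X` or `X ≤ L`.
* `IsoHyp.Op_le_of_le`: a subgroup `D ≥ C` normalized by `P` contains `W`.
* `IsoHyp.sub_dich`, `IsoHyp.normal_dich`: for `N` normalized by `S`: `W ≤ N` or `N ≤ L`, `[N, C] ≤ N ∩ C`;
  for `N ⊴ G`: `W ≤ N` or `[N, C] ≤ Q` and `[N, Y] ≤ Q`.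
* `IsoHyp.Y_sup_L`, `IsoHyp.Y_le`: `G = Y L`, `Y ≤ [Y, C] Q`.
-/

set_option autoImplicit false
set_option linter.unusedSectionVars false
set_option linter.style.haveILetI false

namespace Cfsg.Agent.Lib.Helper47_IsoBase

open Cfsg
open Cfsg.Agent.Lib.Helper47_SubAPI Cfsg.Agent.Lib.Helper48_Op Cfsg.Agent.Lib.Helper48_PMinimal
open scoped commutatorElement Pointwise

variable {G : Type*} [Group G] {p : ℕ}

/-! ### General lemmas -/

/-- A `p'`-element of `N T`, with `T` a `p`-group normalizing `N`, lies in `N`. -/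
theorem mem_of_mem_sup_of_coprime' [Fact p.Prime] {N T : Subgroup G}
    (hTN : T ≤ Subgroup.normalizer (N : Set G)) (hT : IsPGroup p T) {g : G} (hg : g ∈ N ⊔ T)
    (hgp : (orderOf g).Coprime p) : g ∈ N := by
  have hK : N ⊔ T ≤ Subgroup.normalizer (N : Set G) := sup_le Subgroup.le_normalizer hTN
  haveI : (N.subgroupOf (N ⊔ T)).Normal :=
    (Subgroup.normal_subgroupOf_iff_le_normalizer le_sup_left).mpr hK
  have h1 : (⟨g, hg⟩ : ↥(N ⊔ T)) ∈ N.subgroupOf (N ⊔ T) ⊔ T.subgroupOf (N ⊔ T) := by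
    rw [← Subgroup.subgroupOf_sup le_sup_left le_sup_right, Subgroup.subgroupOf_self]
    trivial
  have h2 := Cfsg.Agent.Lib.Helper47_PClosed.mem_of_mem_sup_of_coprime (p := p)
    (hT.comap_subtype (K := N ⊔ T)) h1 (by rw [Subgroup.orderOf_mk]; exact hgp)
  exact h2

/-- `O^p(N T) ≤ N` for a `p`-group `T` normalizing `N`. -/
theorem Op_sup_le [Fact p.Prime] {N T : Subgroup G}
    (hTN : T ≤ Subgroup.normalizer (N : Set G)) (hT : IsPGroup p T) : Op p (N ⊔ T) ≤ N := by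
  rw [Op_le_iff]
  intro x hx hc
  exact mem_of_mem_sup_of_coprime' hTN hT hx hc

theorem le_normalizer_sup {X A B : Subgroup G} (hA : X ≤ Subgroup.normalizer (A : Set G))
    (hB : X ≤ Subgroup.normalizer (B : Set G)) : X ≤ Subgroup.normalizer ((A ⊔ B : Subgroup G) : Set G) := by
  apply Cfsg.Agent.Lib.Helper47_PClosed.le_normalizer_of_forall_map_conj_le
  intro g hg
  rw [Subgroup.map_sup]
  apply sup_le_sup
  · exact ((Subgroup.mem_normalizer_iff_map_conj_eq).mp (hA hg)).le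
  · exact ((Subgroup.mem_normalizer_iff_map_conj_eq).mp (hB hg)).le

/-- `A` normalizes `[A, B]`. -/
theorem le_normalizer_commutator_left (A B : Subgroup G) :
    A ≤ Subgroup.normalizer ((⁅A, B⁆ : Subgroup G) : Set G) := by
  apply Cfsg.Agent.Lib.Helper47_PClosed.le_normalizer_of_forall_map_conj_le
  intro g hg
  rw [Subgroup.map_le_iff_le_comap, Subgroup.commutator_le]
  intro a ha b hb
  rw [Subgroup.mem_comap]
  have e : (MulAut.conj g).toMonoidHom ⁅a, b⁆ = ⁅g * a, b⁆ * ⁅g, b⁆⁻¹ := by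
    simp only [MulEquiv.coe_toMonoidHom, MulAut.conj_apply, commutatorElement_def]
    group
  rw [e]
  exact Subgroup.mul_mem _ (Subgroup.commutator_mem_commutator (A.mul_mem hg ha) hb)
    (Subgroup.inv_mem _ (Subgroup.commutator_mem_commutator hg hb))

theorem commutator_self_le (H : Subgroup G) : ⁅H, H⁆ ≤ H := by
  rw [Subgroup.commutator_le]
  intro a ha b hb
  rw [commutatorElement_def]
  exact H.mul_mem (H.mul_mem (H.mul_mem ha hb) (H.inv_mem ha)) (H.inv_mem hb)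

/-- A solvable perfect subgroup is trivial. -/
theorem eq_bot_of_isSolvable_of_le_commutator {H : Subgroup G} (hs : Group.IsSolvable ↥H)
    (hp : H ≤ ⁅H, H⁆) : H = ⊥ := by
  have hc : commutator ↥H = ⊤ := by
    rw [eq_top_iff]
    intro x _
    have h1 : (x : G) ∈ (commutator ↥H).map H.subtype := by
      rw [Subgroup.map_subtype_commutator]; exact hp x.2
    obtain ⟨y, hy, hyx⟩ := h1
    have : y = x := Subtype.ext hyx
    rw [← this]; exact hy
  have hd : ∀ n : ℕ, derivedSeries ↥H n = ⊤ := by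
    intro n
    induction n with
    | zero => rfl
    | succ n ih =>
      rw [derivedSeries_succ, ih]
      exact hc
  obtain ⟨n, hn⟩ := (Group.isSolvable_def ↥H).mp hs
  rw [hd n] at hn
  rw [eq_bot_iff]
  intro x hx
  have h1 : (⟨x, hx⟩ : ↥H) ∈ (⊤ : Subgroup ↥H) := Subgroup.mem_top _
  rw [hn, Subgroup.mem_bot] at h1
  rw [Subgroup.mem_bot]
  exact congrArg Subtype.val h1

/-- `[A₁ A₂, C] ≤ N` when `[A₁, C], [A₂, C] ≤ N` and `A₁ A₂` normalizes `N`. -/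
theorem commutator_sup_le {A₁ A₂ C N : Subgroup G} (h1 : ⁅A₁, C⁆ ≤ N) (h2 : ⁅A₂, C⁆ ≤ N)
    (hn : A₁ ⊔ A₂ ≤ Subgroup.normalizer (N : Set G)) : ⁅A₁ ⊔ A₂, C⁆ ≤ N := by
  rw [Subgroup.commutator_le]
  intro a ha c hc
  have key : a ∈ Subgroup.normalizer (N : Set G) ∧ ⁅a, c⁆ ∈ N := by
    rw [Subgroup.sup_eq_closure] at ha
    induction ha using Subgroup.closure_induction with
    | mem x hx =>
      rcases hx with hx | hx
      · exact ⟨hn (Subgroup.mem_sup_left hx), h1 (Subgroup.commutator_mem_commutator hx hc)⟩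
      · exact ⟨hn (Subgroup.mem_sup_right hx), h2 (Subgroup.commutator_mem_commutator hx hc)⟩
    | one =>
      refine ⟨Subgroup.one_mem _, ?_⟩
      rw [commutatorElement_def]; simp
    | mul x y _ _ ihx ihy =>
      refine ⟨Subgroup.mul_mem _ ihx.1 ihy.1, ?_⟩
      have e : ⁅x * y, c⁆ = (x * ⁅y, c⁆ * x⁻¹) * ⁅x, c⁆ := by
        simp only [commutatorElement_def]; group
      rw [e]
      exact N.mul_mem ((Subgroup.mem_normalizer_iff.mp ihx.1 _).mp ihy.2) ihx.2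
    | inv x _ ihx =>
      refine ⟨Subgroup.inv_mem _ ihx.1, ?_⟩
      have e : ⁅x⁻¹, c⁆ = x⁻¹ * (⁅x, c⁆)⁻¹ * x⁻¹⁻¹ := by
        simp only [commutatorElement_def]; group
      rw [e]
      exact (Subgroup.mem_normalizer_iff.mp (Subgroup.inv_mem _ ihx.1) _).mp (N.inv_mem ihx.2)
  exact key.2

/-- In a group of class at most two, a subgroup `A` with `Y = A Y'` is all of `Y`. -/
theorem le_of_class_two {Y A : Subgroup G} (hA : A ≤ Y) (h3 : ⁅⁅Y, Y⁆, Y⁆ = ⊥)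
    (hle : Y ≤ A ⊔ ⁅Y, Y⁆) : Y ≤ A := by
  have hcomm : ∀ z ∈ ⁅Y, Y⁆, ∀ y ∈ Y, z * y = y * z := by
    intro z hz y hy
    have h1 : ⁅z, y⁆ ∈ ⁅⁅Y, Y⁆, Y⁆ := Subgroup.commutator_mem_commutator hz hy
    rw [h3, Subgroup.mem_bot, commutatorElement_eq_one_iff_mul_comm] at h1
    exact h1
  have hYY : ⁅Y, Y⁆ ≤ Y := commutator_self_le Y
  have hnorm : A ≤ Subgroup.normalizer ((⁅Y, Y⁆ : Subgroup G) : Set G) := by
    intro a ha
    rw [Subgroup.mem_normalizer_iff]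
    intro z
    constructor
    · intro hz
      have : a * z * a⁻¹ = z := by
        rw [← hcomm z hz a (hA ha)]; group
      rw [this]; exact hz
    · intro hz
      have h1 : a * z * a⁻¹ * a = a * (a * z * a⁻¹) := hcomm _ hz a (hA ha)
      have h2 : z = a * z * a⁻¹ := by
        have : a * z = a * (a * z * a⁻¹) := by rw [← h1]; group
        exact mul_left_cancel this
      rw [h2]; exact hz
  have hdec : ∀ y ∈ Y, ∃ a ∈ A, ∃ z ∈ ⁅Y, Y⁆, y = z * a := by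
    intro y hy
    have h1 : y ∈ ⁅Y, Y⁆ ⊔ A := by rw [sup_comm]; exact hle hy
    obtain ⟨z, hz, a, ha, e⟩ :=
      Cfsg.Agent.Lib.Helper24_CoprimeAction.exists_mul_of_mem_sup A ⁅Y, Y⁆ hnorm h1
    exact ⟨a, ha, z, hz, e⟩
  have hYA : ⁅Y, Y⁆ ≤ A := by
    rw [Subgroup.commutator_le]
    intro y₁ hy₁ y₂ hy₂
    obtain ⟨a₁, ha₁, z₁, hz₁, rfl⟩ := hdec y₁ hy₁
    obtain ⟨a₂, ha₂, z₂, hz₂, rfl⟩ := hdec y₂ hy₂
    have c1 := hcomm z₁ hz₁
    have c2 := hcomm z₂ hz₂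
    have e : ⁅z₁ * a₁, z₂ * a₂⁆ = ⁅a₁, a₂⁆ := by
      rw [commutatorElement_def, commutatorElement_def]
      have e1 : z₁ * a₁ * (z₂ * a₂) * (z₁ * a₁)⁻¹ * (z₂ * a₂)⁻¹ =
          z₁ * (a₁ * (z₂ * (a₂ * (a₁⁻¹ * (z₁⁻¹ * (a₂⁻¹ * z₂⁻¹)))))) := by group
      rw [e1]
      have hz₁' : z₁⁻¹ ∈ ⁅Y, Y⁆ := Subgroup.inv_mem _ hz₁
      have hz₂' : z₂⁻¹ ∈ ⁅Y, Y⁆ := Subgroup.inv_mem _ hz₂
      have c1' := hcomm z₁⁻¹ hz₁'
      have c2' := hcomm z₂⁻¹ hz₂'
      have ha₁Y := hA ha₁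
      have ha₂Y := hA ha₂
      -- move `z₂⁻¹` to the left
      have s1 : a₂⁻¹ * z₂⁻¹ = z₂⁻¹ * a₂⁻¹ := (c2' _ (Y.inv_mem ha₂Y)).symm
      rw [s1]
      have s2 : z₁⁻¹ * (z₂⁻¹ * a₂⁻¹) = z₂⁻¹ * (z₁⁻¹ * a₂⁻¹) := by
        rw [← mul_assoc, ← c2' z₁⁻¹ (hYY hz₁'), mul_assoc]
      rw [s2]
      have s3 : a₁⁻¹ * (z₂⁻¹ * (z₁⁻¹ * a₂⁻¹)) = z₂⁻¹ * (a₁⁻¹ * (z₁⁻¹ * a₂⁻¹)) := by
        rw [← mul_assoc, ← c2' a₁⁻¹ (Y.inv_mem ha₁Y), mul_assoc]
      rw [s3]
      have s4 : a₂ * (z₂⁻¹ * (a₁⁻¹ * (z₁⁻¹ * a₂⁻¹))) = z₂⁻¹ * (a₂ * (a₁⁻¹ * (z₁⁻¹ * a₂⁻¹))) := by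
        rw [← mul_assoc, ← c2' a₂ ha₂Y, mul_assoc]
      rw [s4]
      have s5 : z₂ * (z₂⁻¹ * (a₂ * (a₁⁻¹ * (z₁⁻¹ * a₂⁻¹)))) = a₂ * (a₁⁻¹ * (z₁⁻¹ * a₂⁻¹)) := by
        group
      rw [s5]
      -- move `z₁⁻¹` to the left
      have t1 : a₁⁻¹ * (z₁⁻¹ * a₂⁻¹) = z₁⁻¹ * (a₁⁻¹ * a₂⁻¹) := by
        rw [← mul_assoc, ← c1' a₁⁻¹ (Y.inv_mem ha₁Y), mul_assoc]
      rw [t1]
      have t2 : a₂ * (z₁⁻¹ * (a₁⁻¹ * a₂⁻¹)) = z₁⁻¹ * (a₂ * (a₁⁻¹ * a₂⁻¹)) := by
        rw [← mul_assoc, ← c1' a₂ ha₂Y, mul_assoc]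
      rw [t2]
      have t3 : a₁ * (z₁⁻¹ * (a₂ * (a₁⁻¹ * a₂⁻¹))) = z₁⁻¹ * (a₁ * (a₂ * (a₁⁻¹ * a₂⁻¹))) := by
        rw [← mul_assoc, ← c1' a₁ ha₁Y, mul_assoc]
      rw [t3]
      group
    rw [e]
    exact commutator_self_le A (Subgroup.commutator_mem_commutator ha₁ ha₂)
  exact hle.trans (sup_le le_rfl hYA)

/-- The centralizer of `N` modulo the normal subgroup `Q`. -/
def cmod (Q N : Subgroup G) [Q.Normal] : Subgroup G :=
  (Subgroup.centralizer ((N.map (QuotientGroup.mk' Q) : Subgroup (G ⧸ Q)) : Set (G ⧸ Q))).comap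
    (QuotientGroup.mk' Q)

theorem mem_cmod {Q N : Subgroup G} [Q.Normal] {g : G} :
    g ∈ cmod Q N ↔ ∀ n ∈ N, ⁅n, g⁆ ∈ Q := by
  unfold cmod
  rw [Subgroup.mem_comap, Subgroup.mem_centralizer_iff]
  constructor
  · intro h n hn
    have h1 := h _ (Subgroup.mem_map_of_mem (QuotientGroup.mk' Q) hn)
    rw [← (QuotientGroup.eq_one_iff (N := Q) ⁅n, g⁆), commutatorElement_def]
    simp only [QuotientGroup.mk'_apply] at h1
    rw [QuotientGroup.mk_mul, QuotientGroup.mk_mul, QuotientGroup.mk_mul, h1, QuotientGroup.mk_inv,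
      QuotientGroup.mk_inv]
    group
  · rintro h _ ⟨n, hn, rfl⟩
    have h1 := (QuotientGroup.eq_one_iff (N := Q) ⁅n, g⁆).mpr (h n hn)
    rw [commutatorElement_def, QuotientGroup.mk_mul, QuotientGroup.mk_mul, QuotientGroup.mk_mul,
      QuotientGroup.mk_inv, QuotientGroup.mk_inv] at h1
    simp only [QuotientGroup.mk'_apply]
    have h2 : (n : G ⧸ Q) * (g : G ⧸ Q) = ((n : G ⧸ Q) * (g : G ⧸ Q) * (n : G ⧸ Q)⁻¹ * (g : G ⧸ Q)⁻¹) *
        ((g : G ⧸ Q) * (n : G ⧸ Q)) := by group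
    rw [h2, h1, one_mul]

theorem le_cmod_iff {Q N D : Subgroup G} [Q.Normal] : D ≤ cmod Q N ↔ ⁅N, D⁆ ≤ Q := by
  rw [Subgroup.commutator_le]
  constructor
  · intro h n hn d hd
    exact mem_cmod.mp (h hd) n hn
  · intro h d hd
    exact mem_cmod.mpr (fun n hn => h n hn d hd)

instance cmod_normal {Q N : Subgroup G} [Q.Normal] [hN : N.Normal] : (cmod Q N).Normal := by
  unfold cmod
  haveI : (N.map (QuotientGroup.mk' Q)).Normal :=
    hN.map _ (QuotientGroup.mk'_surjective Q)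
  exact Subgroup.Normal.comap inferInstance _

/-! ### The generation lemma, relative form -/

theorem gen_claim [Finite G] [Fact p.Prime] (S : Sylow p G) :
    ∀ n : ℕ, ∀ H : Subgroup G, Nat.card H = n → (S : Subgroup G) ≤ H →
      H ≤ (Subgroup.normalizer ((S : Subgroup G) : Set G) ⊓ H) ⊔
        ⨆ P' : {P' : Subgroup G // (S : Subgroup G) ≤ P' ∧ P' ≤ H ∧ Cfsg.IsPMinimal p ↥P'},
          (P' : Subgroup G) := by
  intro n
  induction n using Nat.strong_induction_on with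
  | _ n ih =>
  intro H hn hSH
  obtain ⟨S₀, hS₀⟩ : ∃ S₀ : Sylow p H, S₀ = S.subtype hSH := ⟨_, rfl⟩
  have hmem : ∀ (x : G) (hx : x ∈ H), (⟨x, hx⟩ : H) ∈ (S₀ : Subgroup H) ↔ x ∈ (S : Subgroup G) := by
    intro x hx
    rw [hS₀, Sylow.coe_subtype, Subgroup.mem_subgroupOf]
  by_cases hN : (S₀ : Subgroup H).Normal
  · apply le_sup_of_le_left
    intro h hh
    refine ⟨?_, hh⟩
    show h ∈ Subgroup.normalizer ((S : Subgroup G) : Set G)
    rw [Subgroup.mem_normalizer_iff]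
    intro x
    constructor
    · intro hx
      have h1 : (⟨h, hh⟩ : H) * ⟨x, hSH hx⟩ * (⟨h, hh⟩ : H)⁻¹ ∈ (S₀ : Subgroup H) :=
        hN.conj_mem _ ((hmem x (hSH hx)).2 hx) _
      exact (hmem _ _).1 h1
    · intro hx
      have hx' : h * x * h⁻¹ ∈ H := hSH hx
      have h1 : (⟨h, hh⟩ : H)⁻¹ * ⟨h * x * h⁻¹, hx'⟩ * ((⟨h, hh⟩ : H)⁻¹)⁻¹ ∈ (S₀ : Subgroup H) :=
        hN.conj_mem _ ((hmem _ hx').2 hx) _
      have h2 := (hmem _ (Subgroup.mul_mem _ (Subgroup.mul_mem _ (Subgroup.inv_mem _ hh) hx')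
        (Subgroup.inv_mem _ (Subgroup.inv_mem _ hh)))).1 h1
      have e : h⁻¹ * (h * x * h⁻¹) * h⁻¹⁻¹ = x := by group
      rw [e] at h2
      exact h2
  · by_cases hU : ∃! M' : Subgroup H, IsCoatom M' ∧ (S₀ : Subgroup H) ≤ M'
    · have hmin : Cfsg.IsPMinimal p ↥H := Cfsg.Agent.S2790.isPMinimal_of_one S₀ ⟨hN, hU⟩
      apply le_sup_of_le_right
      exact le_iSup_of_le ⟨H, hSH, le_rfl, hmin⟩ le_rfl
    · have hne : (S₀ : Subgroup H) ≠ ⊤ := by
        intro h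
        apply hN
        rw [h]
        infer_instance
      obtain ⟨M1, hM1, hSM1⟩ := (eq_top_or_exists_le_coatom (S₀ : Subgroup H)).resolve_left hne
      have hex : ∃ M2 : Subgroup H, (IsCoatom M2 ∧ (S₀ : Subgroup H) ≤ M2) ∧ M2 ≠ M1 := by
        by_contra hcon
        push Not at hcon
        exact hU ⟨M1, ⟨hM1, hSM1⟩, fun M2 h2 => hcon M2 h2⟩
      obtain ⟨M2, ⟨hM2, hSM2⟩, hne12⟩ := hex
      have hsup : M1 ⊔ M2 = ⊤ := hM1.sup_eq_top_of_ne hM2 hne12.symm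
      have key : ∀ M' : Subgroup H, IsCoatom M' → (S₀ : Subgroup H) ≤ M' →
          M'.map H.subtype ≤ (Subgroup.normalizer ((S : Subgroup G) : Set G) ⊓ H) ⊔
            ⨆ P' : {P' : Subgroup G // (S : Subgroup G) ≤ P' ∧ P' ≤ H ∧ Cfsg.IsPMinimal p ↥P'},
              (P' : Subgroup G) := by
        intro M' hM' hSM'
        have hle : M'.map H.subtype ≤ H := Subgroup.map_subtype_le _
        have h1 := ih (Nat.card (M'.map H.subtype)) ?_ _ rfl ?_
        · refine h1.trans (sup_le_sup (inf_le_inf_left _ hle) ?_)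
          apply iSup_le
          rintro ⟨P', hSP', hP'M, hmin⟩
          exact le_iSup_of_le ⟨P', hSP', hP'M.trans hle, hmin⟩ le_rfl
        · rw [← hn, Nat.card_congr
            (Subgroup.equivMapOfInjective M' H.subtype Subtype.coe_injective).toEquiv.symm]
          apply lt_of_le_of_ne (Subgroup.card_le_card_group M')
          intro hc
          exact hM'.1 ((Subgroup.card_eq_iff_eq_top M').1 hc)
        · intro x hx
          exact ⟨⟨x, hSH hx⟩, hSM' ((hmem x (hSH hx)).2 hx), rfl⟩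
      have hH : H = (M1 ⊔ M2).map H.subtype := by
        rw [hsup, ← MonoidHom.range_eq_map, Subgroup.range_subtype]
      have hH' : H ≤ (M1 ⊔ M2).map H.subtype := hH.le
      refine hH'.trans ?_
      rw [Subgroup.map_sup]
      exact sup_le (key M1 hM1 hSM1) (key M2 hM2 hSM2)

/-! ### The hypotheses -/

/-- The hypotheses of S3044 / S3045: `P ≥ S` is an isolated `p`-minimal subgroup. -/
structure IsoHyp (p : ℕ) (S : Sylow p G) (P L : Subgroup G) : Prop where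
  hSP : (S : Subgroup G) ≤ P
  hPmin : Cfsg.IsPMinimal p ↥P
  hL : L = Subgroup.normalizer ((S : Subgroup G) : Set G) ⊔
    ⨆ P' : {P' : Subgroup G // (S : Subgroup G) ≤ P' ∧ Cfsg.IsPMinimal p ↥P' ∧ P' ≠ P},
      (P' : Subgroup G)
  hiso : ¬ Cfsg.pCoreOf p L ≤ Cfsg.pCoreOf p P

namespace IsoHyp

variable [Finite G] [Fact p.Prime] {S : Sylow p G} {P L : Subgroup G}

theorem normalizer_le (h : IsoHyp p S P L) : Subgroup.normalizer ((S : Subgroup G) : Set G) ≤ L := by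
  rw [h.hL]; exact le_sup_left

theorem S_le_L (h : IsoHyp p S P L) : (S : Subgroup G) ≤ L :=
  Subgroup.le_normalizer.trans h.normalizer_le

theorem le_L (h : IsoHyp p S P L) {P' : Subgroup G} (hSP' : (S : Subgroup G) ≤ P')
    (hmin : Cfsg.IsPMinimal p ↥P') (hne : P' ≠ P) : P' ≤ L := by
  rw [h.hL]
  exact le_sup_of_le_right (le_iSup_of_le ⟨P', hSP', hmin, hne⟩ le_rfl)

/-- **The dichotomy**: every subgroup over `S` contains `P` or lies in `L`. -/
theorem dich (h : IsoHyp p S P L) {X : Subgroup G} (hSX : (S : Subgroup G) ≤ X) :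
    P ≤ X ∨ X ≤ L := by
  by_cases hPX : P ≤ X
  · exact Or.inl hPX
  · right
    refine (gen_claim S _ X rfl hSX).trans (sup_le (inf_le_left.trans h.normalizer_le) ?_)
    apply iSup_le
    rintro ⟨P', hSP', hP'X, hmin⟩
    exact h.le_L hSP' hmin (fun e => hPX (e ▸ hP'X))

theorem C_le_S (h : IsoHyp p S P L) : Cfsg.pCoreOf p L ≤ (S : Subgroup G) :=
  pCoreOf_le_sylow S h.S_le_L

theorem C_le_P (h : IsoHyp p S P L) : Cfsg.pCoreOf p L ≤ P := h.C_le_S.trans h.hSP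

theorem L_le_normalizer_C (_h : IsoHyp p S P L) :
    L ≤ Subgroup.normalizer ((Cfsg.pCoreOf p L : Subgroup G) : Set G) := le_normalizer_pCoreOf L

theorem isPGroup_C (_h : IsoHyp p S P L) : IsPGroup p ↥(Cfsg.pCoreOf p L) := isPGroup_pCoreOf L

theorem not_P_le_L (h : IsoHyp p S P L) : ¬ P ≤ L := by
  intro hPL
  exact h.hiso (le_pCoreOf h.C_le_P (hPL.trans h.L_le_normalizer_C) h.isPGroup_C)

theorem Q_le_S (_h : IsoHyp p S P L) : Cfsg.pCore p G ≤ (S : Subgroup G) :=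
  Cfsg.Agent.Lib.Helper1_Cores.pCore_le_sylow p S

theorem Q_le_pCoreOf_P (h : IsoHyp p S P L) : Cfsg.pCore p G ≤ Cfsg.pCoreOf p P := by
  apply le_pCoreOf (h.Q_le_S.trans h.hSP)
  · intro x _
    have : (Cfsg.pCore p G).Normal := inferInstance
    rw [Subgroup.normalizer_eq_top_iff.mpr this]
    trivial
  · exact Cfsg.Agent.Lib.Helper1_Cores.pCore_isPGroup p

/-- `P = O^p(P) S`. -/
theorem P_le (h : IsoHyp p S P L) : P ≤ Op p P ⊔ (S : Subgroup G) := by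
  intro x hx
  have h1 := Cfsg.Agent.Lib.Helper2_PResidual.sylow_sup_pResidual (S.subtype h.hSP)
  have h2 : (⟨x, hx⟩ : ↥P) ∈ ((S.subtype h.hSP : Sylow p ↥P) : Subgroup ↥P) ⊔ pResidual p ↥P := by
    rw [h1]; trivial
  have h3 := Subgroup.mem_map_of_mem P.subtype h2
  rw [Subgroup.map_sup, Sylow.coe_subtype, Subgroup.map_subgroupOf_eq_of_le h.hSP,
    ← Op_eq_map_pResidual] at h3
  rw [sup_comm]
  exact h3

/-- A subgroup `D ≥ C` normalized by `P` contains `O^p(P)`. -/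
theorem Op_le_of_le (h : IsoHyp p S P L) {D : Subgroup G}
    (hPD : P ≤ Subgroup.normalizer (D : Set G)) (hCD : Cfsg.pCoreOf p L ≤ D) : Op p P ≤ D := by
  obtain ⟨-, M, ⟨hM, hSM⟩, -⟩ := h.hPmin (S.subtype h.hSP)
  have hDn : ((D ⊓ P).subgroupOf P).Normal := by
    rw [Subgroup.normal_subgroupOf_iff_le_normalizer inf_le_right]
    exact (le_inf hPD Subgroup.le_normalizer).trans (normalizer_inf_le_normalizer_inf D P)
  rcases pResidual_le_or_le_normalCore h.hPmin (S.subtype h.hSP) hM hSM _ hDn with h1 | h1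
  · rw [Op_eq_map_pResidual]
    refine (Subgroup.map_mono h1).trans ?_
    rw [Subgroup.map_subgroupOf_eq_of_le inf_le_right]
    exact inf_le_left
  · exfalso
    apply h.hiso
    have h2 := sylow_inf_normalCore_le_pCore h.hPmin (S.subtype h.hSP) hM hSM
    intro x hx
    have hxS := h.C_le_S hx
    have hxP := h.hSP hxS
    have h3 : (⟨x, hxP⟩ : ↥P) ∈ Cfsg.pCore p ↥P := by
      apply h2
      refine ⟨?_, h1 ?_⟩
      · rw [Sylow.coe_subtype]
        show (⟨x, hxP⟩ : ↥P) ∈ (S : Subgroup G).subgroupOf P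
        rw [Subgroup.mem_subgroupOf]; exact hxS
      · rw [Subgroup.mem_subgroupOf]; exact ⟨hCD hx, hxP⟩
    exact ⟨⟨x, hxP⟩, h3, rfl⟩

/-- For `N` normalized by `S`: `O^p(P) ≤ N`, or `N ≤ L` and `[N, C] ≤ N ∩ C`. -/
theorem sub_dich (h : IsoHyp p S P L) {N : Subgroup G}
    (hSN : (S : Subgroup G) ≤ Subgroup.normalizer (N : Set G)) :
    Op p P ≤ N ∨ (N ≤ L ∧ ⁅N, Cfsg.pCoreOf p L⁆ ≤ N ⊓ Cfsg.pCoreOf p L) := by
  rcases h.dich (X := N ⊔ (S : Subgroup G)) le_sup_right with h1 | h1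
  · left
    exact (Op_mono h1).trans (Op_sup_le hSN S.isPGroup')
  · right
    have hNL : N ≤ L := le_sup_left.trans h1
    refine ⟨hNL, ?_⟩
    rw [Subgroup.commutator_le]
    intro n hn c hc
    refine ⟨?_, ?_⟩
    · have h2 : c * n⁻¹ * c⁻¹ ∈ N :=
        (Subgroup.mem_normalizer_iff.mp (hSN (h.C_le_S hc)) n⁻¹).mp (N.inv_mem hn)
      have e : ⁅n, c⁆ = n * (c * n⁻¹ * c⁻¹) := by rw [commutatorElement_def]; group
      rw [e]; exact N.mul_mem hn h2
    · have h2 : n * c * n⁻¹ ∈ Cfsg.pCoreOf p L :=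
        (Subgroup.mem_normalizer_iff.mp (h.L_le_normalizer_C (hNL hn)) c).mp hc
      rw [commutatorElement_def]
      exact Subgroup.mul_mem _ h2 (Subgroup.inv_mem _ hc)

/-- For `N ⊴ G`: `O^p(P) ≤ N`, or `[N, C] ≤ O_p(G)` and `[N, ⟨O^p(P)^G⟩] ≤ O_p(G)`. -/
theorem normal_dich (h : IsoHyp p S P L) {N : Subgroup G} (hN : N.Normal) :
    Op p P ≤ N ∨ (N ≤ L ∧ N ⊓ Cfsg.pCoreOf p L ≤ Cfsg.pCore p G ∧
      ⁅N, Cfsg.pCoreOf p L⁆ ≤ Cfsg.pCore p G ∧
      ⁅N, Subgroup.normalClosure ((Op p P : Subgroup G) : Set G)⁆ ≤ Cfsg.pCore p G) := by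
  have hSN : (S : Subgroup G) ≤ Subgroup.normalizer (N : Set G) := by
    rw [Subgroup.normalizer_eq_top_iff.mpr hN]; exact le_top
  rcases h.sub_dich hSN with h1 | ⟨hNL, h1⟩
  · exact Or.inl h1
  · right
    have hsub : (N ⊓ Cfsg.pCoreOf p L).IsSubnormal := by
      refine Subgroup.IsSubnormal.step _ N inf_le_left hN.isSubnormal ?_
      rw [Subgroup.normal_subgroupOf_iff_le_normalizer inf_le_left]
      exact (le_inf Subgroup.le_normalizer (hNL.trans h.L_le_normalizer_C)).trans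
        (normalizer_inf_le_normalizer_inf N _)
    have h2 : N ⊓ Cfsg.pCoreOf p L ≤ Cfsg.pCore p G :=
      Cfsg.Agent.Lib.Helper22_Cores.le_pCore_of_isSubnormal p hsub (h.isPGroup_C.to_le inf_le_right)
    have h3 : ⁅N, Cfsg.pCoreOf p L⁆ ≤ Cfsg.pCore p G := h1.trans h2
    refine ⟨hNL, h2, h3, ?_⟩
    have hCD : Cfsg.pCoreOf p L ≤ cmod (Cfsg.pCore p G) N := le_cmod_iff.mpr h3
    haveI := hN
    have hDn : (cmod (Cfsg.pCore p G) N).Normal := cmod_normal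
    have hPD : P ≤ Subgroup.normalizer ((cmod (Cfsg.pCore p G) N : Subgroup G) : Set G) := by
      rw [Subgroup.normalizer_eq_top_iff.mpr hDn]; exact le_top
    have hW := h.Op_le_of_le hPD hCD
    have hY : Subgroup.normalClosure ((Op p P : Subgroup G) : Set G) ≤ cmod (Cfsg.pCore p G) N :=
      Subgroup.normalClosure_le_normal hW
    exact le_cmod_iff.mp hY

/-- `O^p(P)` is not a `p`-group: `O^p(P) ≰ O_p(G)`. -/
theorem not_Op_le_Q (h : IsoHyp p S P L) : ¬ Op p P ≤ Cfsg.pCore p G := by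
  intro hle
  have h1 : P ≤ (S : Subgroup G) := h.P_le.trans (sup_le (hle.trans h.Q_le_S) le_rfl)
  obtain ⟨hnn, -⟩ := h.hPmin (S.subtype h.hSP)
  apply hnn
  have : ((S.subtype h.hSP : Sylow p ↥P) : Subgroup ↥P) = ⊤ := by
    rw [Sylow.coe_subtype, eq_top_iff]
    intro x _
    rw [Subgroup.mem_subgroupOf]
    exact h1 x.2
  rw [this]
  infer_instance

/-- `G = Y L`. -/
theorem Y_sup_L (h : IsoHyp p S P L) :
    Subgroup.normalClosure ((Op p P : Subgroup G) : Set G) ⊔ L = ⊤ := by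
  rw [eq_top_iff]
  have h1 := gen_claim S _ (⊤ : Subgroup G) rfl le_top
  refine h1.trans (sup_le (inf_le_left.trans (h.normalizer_le.trans le_sup_right)) ?_)
  apply iSup_le
  rintro ⟨P', hSP', -, hmin⟩
  by_cases hP' : P' = P
  · show P' ≤ _
    rw [hP']
    exact h.P_le.trans (sup_le_sup Subgroup.subset_normalClosure h.S_le_L)
  · exact (h.le_L hSP' hmin hP').trans le_sup_right

/-- `Y ≤ [Y, C] O_p(G)`. -/
theorem Y_le (h : IsoHyp p S P L) :
    Subgroup.normalClosure ((Op p P : Subgroup G) : Set G) ≤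
      ⁅Subgroup.normalClosure ((Op p P : Subgroup G) : Set G), Cfsg.pCoreOf p L⁆ ⊔ Cfsg.pCore p G := by
  obtain ⟨Y, hY⟩ : ∃ Y : Subgroup G, Y = Subgroup.normalClosure ((Op p P : Subgroup G) : Set G) :=
    ⟨_, rfl⟩
  rw [← hY]
  have hYn : Y.Normal := by rw [hY]; exact Subgroup.normalClosure_normal
  have hQn : (Cfsg.pCore p G).Normal := inferInstance
  have hYL : Y ⊔ L = ⊤ := by rw [hY]; exact h.Y_sup_L
  -- `N₂ = [Y, C] Q` is normal
  have hN₂ : (⁅Y, Cfsg.pCoreOf p L⁆ ⊔ Cfsg.pCore p G).Normal := by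
    rw [← Subgroup.normalizer_eq_top_iff, eq_top_iff, ← hYL]
    apply sup_le
    · apply le_normalizer_sup (le_normalizer_commutator_left Y _)
      rw [Subgroup.normalizer_eq_top_iff.mpr hQn]; exact le_top
    · apply le_normalizer_sup
      · refine le_trans (le_inf ?_ h.L_le_normalizer_C)
          (Cfsg.Agent.Lib.Helper47_PClosed.normalizer_inf_le_normalizer_commutator Y _)
        rw [Subgroup.normalizer_eq_top_iff.mpr hYn]; exact le_top
      · rw [Subgroup.normalizer_eq_top_iff.mpr hQn]; exact le_top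
  -- `P` normalizes `N₂ C`
  have hPD : P ≤ Subgroup.normalizer
      (((⁅Y, Cfsg.pCoreOf p L⁆ ⊔ Cfsg.pCore p G) ⊔ Cfsg.pCoreOf p L : Subgroup G) : Set G) := by
    refine h.P_le.trans (sup_le ?_ ?_)
    · refine (show Op p P ≤ Y from hY ▸ Subgroup.subset_normalClosure).trans ?_
      apply Cfsg.Agent.Lib.Helper47_PClosed.le_normalizer_of_forall_map_conj_le
      intro y hy
      rw [Subgroup.map_sup]
      apply sup_le
      · apply le_sup_of_le_left
        have hyN : y ∈ Subgroup.normalizer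
            ((⁅Y, Cfsg.pCoreOf p L⁆ ⊔ Cfsg.pCore p G : Subgroup G) : Set G) := by
          rw [Subgroup.normalizer_eq_top_iff.mpr hN₂]; trivial
        exact ((Subgroup.mem_normalizer_iff_map_conj_eq).mp hyN).le
      · rintro _ ⟨c, hc, rfl⟩
        have e : (MulAut.conj y).toMonoidHom c = ⁅y, c⁆ * c := by
          simp only [MulEquiv.coe_toMonoidHom, MulAut.conj_apply, commutatorElement_def]; group
        rw [e]
        exact Subgroup.mul_mem _
          (Subgroup.mem_sup_left (Subgroup.mem_sup_left (Subgroup.commutator_mem_commutator hy hc)))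
          (Subgroup.mem_sup_right hc)
    · apply le_normalizer_sup
      · rw [Subgroup.normalizer_eq_top_iff.mpr hN₂]; exact le_top
      · exact h.S_le_L.trans h.L_le_normalizer_C
  have hW := h.Op_le_of_le hPD le_sup_right
  have hW' : Op p P ≤ ⁅Y, Cfsg.pCoreOf p L⁆ ⊔ Cfsg.pCore p G := by
    rw [Op_le_iff]
    intro x hx hc
    haveI := hN₂
    exact Cfsg.Agent.Lib.Helper47_PClosed.mem_of_mem_sup_of_coprime h.isPGroup_C (hW (mem_Op hx hc)) hc
  have hfin : Subgroup.normalClosure ((Op p P : Subgroup G) : Set G) ≤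
      ⁅Y, Cfsg.pCoreOf p L⁆ ⊔ Cfsg.pCore p G := by
    haveI := hN₂
    exact Subgroup.normalClosure_le_normal hW'
  rw [hY]
  rw [hY] at hfin
  exact hfin

end IsoHyp

end Cfsg.Agent.Lib.Helper47_IsoBase
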