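import Cfsg.Agent.Lib.Helper47_IsoBase
import Cfsg.Agent.Lib.Helper21_FStar
import Cfsg.Agent.Lib.Helper22_Layer
import Cfsg.Agent.Lib.Helper22_Quasisimple
import Cfsg.Agent.Lib.Helper29_Local
import Cfsg.Agent.Lib.Helper48_Trans2

/-!
# S3044 / S3045, package QCONS (architect helper47)

Transfer of `t`-group / class `≤ 2` / cardinality along the injective hom `Y / O_p(Y) → G / O_p(G)`.
-/

set_option autoImplicit false

open Cfsg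
open Cfsg.Agent.Lib.Helper47_IsoBase Cfsg.Agent.Lib.Helper47_SubAPI Cfsg.Agent.Lib.Helper48_Op
open scoped commutatorElement Pointwise

namespace Cfsg.Agent.Lib.Helper93_Iso_QCONS

universe u

variable {G : Type u} [Group G] [Finite G] {p : ℕ} [Fact p.Prime] {S : Sylow p G} {P L : Subgroup G}

/-- the range of the hom is `Y.map π` -/
theorem range_eq (Y : Subgroup G) [Y.Normal]
    (φ : (↥Y ⧸ Cfsg.pCore p ↥Y) →* (G ⧸ Cfsg.pCore p G))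
    (hφ : ∀ y : ↥Y, φ (QuotientGroup.mk y) = QuotientGroup.mk (y : G)) :
    φ.range = Y.map (QuotientGroup.mk' (Cfsg.pCore p G)) := by
  ext z
  constructor
  · rintro ⟨x, rfl⟩
    induction x using QuotientGroup.induction_on with
    | H y =>
      rw [hφ]
      exact ⟨(y : G), y.2, rfl⟩
  · rintro ⟨y, hy, rfl⟩
    exact ⟨QuotientGroup.mk ⟨y, hy⟩, hφ ⟨y, hy⟩⟩

/-- the bijection onto `Y.map π` -/
theorem exists_equiv (Y : Subgroup G) [Y.Normal]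
    (hφ : ∃ φ : (↥Y ⧸ Cfsg.pCore p ↥Y) →* (G ⧸ Cfsg.pCore p G), Function.Injective φ ∧
      ∀ y : ↥Y, φ (QuotientGroup.mk y) = QuotientGroup.mk (y : G)) :
    Nonempty ((↥Y ⧸ Cfsg.pCore p ↥Y) ≃* ↥(Y.map (QuotientGroup.mk' (Cfsg.pCore p G)))) := by
  obtain ⟨φ, hinj, hφ'⟩ := hφ
  have hr := range_eq Y φ hφ'
  exact ⟨(MonoidHom.ofInjective hinj).trans (MulEquiv.subgroupCongr hr)⟩

theorem isPGroup_quot (Y : Subgroup G) [Y.Normal]
    (hφ : ∃ φ : (↥Y ⧸ Cfsg.pCore p ↥Y) →* (G ⧸ Cfsg.pCore p G), Function.Injective φ ∧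
      ∀ y : ↥Y, φ (QuotientGroup.mk y) = QuotientGroup.mk (y : G))
    {t : ℕ} (ht : IsPGroup t ↥(Y.map (QuotientGroup.mk' (Cfsg.pCore p G)))) :
    IsPGroup t (↥Y ⧸ Cfsg.pCore p ↥Y) := by
  obtain ⟨e⟩ := exists_equiv Y hφ
  exact ht.of_injective e.toMonoidHom e.injective

theorem class_le_two_quot (Y : Subgroup G) [Y.Normal]
    (hφ : ∃ φ : (↥Y ⧸ Cfsg.pCore p ↥Y) →* (G ⧸ Cfsg.pCore p G), Function.Injective φ ∧
      ∀ y : ↥Y, φ (QuotientGroup.mk y) = QuotientGroup.mk (y : G))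
    (h3 : ⁅⁅Y, Y⁆, Y⁆ ≤ Cfsg.pCore p G) :
    ∃ _ : Group.IsNilpotent (↥Y ⧸ Cfsg.pCore p ↥Y),
      Group.nilpotencyClass (↥Y ⧸ Cfsg.pCore p ↥Y) ≤ 2 := by
  obtain ⟨φ, hinj, hφ'⟩ := hφ
  have hr := range_eq Y φ hφ'
  have h2 : (⊤ : Subgroup (↥Y ⧸ Cfsg.pCore p ↥Y)).lowerCentralSeries 2 = ⊥ := by
    have e : (⊤ : Subgroup (↥Y ⧸ Cfsg.pCore p ↥Y)).lowerCentralSeries 2 =
        ⁅⁅(⊤ : Subgroup (↥Y ⧸ Cfsg.pCore p ↥Y)), ⊤⁆, ⊤⁆ := rfl
    rw [e]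
    apply (Subgroup.map_eq_bot_iff_of_injective _ hinj).mp
    rw [Subgroup.map_commutator, Subgroup.map_commutator, ← MonoidHom.range_eq_map, hr,
      ← Subgroup.map_commutator, ← Subgroup.map_commutator]
    rw [eq_bot_iff]
    calc (⁅⁅Y, Y⁆, Y⁆).map (QuotientGroup.mk' (Cfsg.pCore p G))
        ≤ (Cfsg.pCore p G).map (QuotientGroup.mk' (Cfsg.pCore p G)) := Subgroup.map_mono h3
      _ = ⊥ := by
        rw [Subgroup.map_eq_bot_iff, QuotientGroup.ker_mk']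
  have hnil : Group.IsNilpotent (↥Y ⧸ Cfsg.pCore p ↥Y) :=
    Subgroup.nilpotent_iff_lowerCentralSeries.mpr ⟨2, h2⟩
  exact ⟨hnil, Subgroup.lowerCentralSeries_eq_bot_iff_nilpotencyClass_le.mp h2⟩

theorem card_quot (Y : Subgroup G) [Y.Normal]
    (hφ : ∃ φ : (↥Y ⧸ Cfsg.pCore p ↥Y) →* (G ⧸ Cfsg.pCore p G), Function.Injective φ ∧
      ∀ y : ↥Y, φ (QuotientGroup.mk y) = QuotientGroup.mk (y : G)) :
    Nat.card (↥Y ⧸ Cfsg.pCore p ↥Y) =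
      Nat.card ↥(Y.map (QuotientGroup.mk' (Cfsg.pCore p G))) := by
  obtain ⟨e⟩ := exists_equiv Y hφ
  exact Nat.card_congr e.toEquiv

end Cfsg.Agent.Lib.Helper93_Iso_QCONS
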