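import Cfsg.Agent.Lib.Helper47_IsoBar
import Cfsg.Agent.Lib.Helper47_IsoMain
import Cfsg.Agent.Lib.Helper21_Components
import Cfsg.Agent.Lib.Helper21_FStar
import Cfsg.Agent.Lib.Helper22_Layer
import Cfsg.Agent.Lib.Helper22_Quasisimple
import Cfsg.Agent.Lib.Helper29_Local
import Cfsg.Agent.Lib.Helper48_Trans2
import Cfsg.Agent.Lib.Helper24_CoprimeAction
import Cfsg.Agent.Lib.Helper1_Cores
import Cfsg.Agent.Lib.Helper93_Iso_QCONS

/-!
# S3044, package TRB2 (helper47): transitivity on component preimages, transferred to `Y / O_p(Y)`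
-/

set_option autoImplicit false

open Cfsg
open Cfsg.Agent.Lib.Helper47_IsoBase Cfsg.Agent.Lib.Helper47_IsoBar Cfsg.Agent.Lib.Helper47_SubAPI
  Cfsg.Agent.Lib.Helper48_Op
open scoped commutatorElement Pointwise

namespace Cfsg.Agent.Lib.Helper47_Iso_TRB2

universe u

/-- The image of a component of `Y / O_p(Y)` under the injective hom is a component of `G / O_p(G)` in `Ȳ`. -/
theorem isComponent_map {G : Type u} [Group G] [Finite G] {p : ℕ} [Fact p.Prime] (Y : Subgroup G) [Y.Normal]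
    (φ : (↥Y ⧸ Cfsg.pCore p ↥Y) →* (G ⧸ Cfsg.pCore p G)) (hinj : Function.Injective φ)
    (hφ : ∀ y : ↥Y, φ (QuotientGroup.mk y) = QuotientGroup.mk (y : G))
    {K : Subgroup (↥Y ⧸ Cfsg.pCore p ↥Y)} (hK : Cfsg.IsComponent K) :
    Cfsg.IsComponent (K.map φ) ∧ K.map φ ≤ Y.map (QuotientGroup.mk' (Cfsg.pCore p G)) := by
  have hrange := Cfsg.Agent.Lib.Helper93_Iso_QCONS.range_eq Y φ hφ
  have hrn : φ.range.Normal := by
    rw [hrange]
    exact Subgroup.Normal.map inferInstance _ (QuotientGroup.mk'_surjective _)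
  have h1 := Cfsg.Agent.Lib.Helper29_Local.isComponent_map_mulEquiv (MonoidHom.ofInjective hinj) hK
  have h2 := Cfsg.Agent.Lib.Helper22_Layer.IsComponent.map_subtype hrn.isSubnormal h1
  rw [Subgroup.map_map] at h2
  have e : φ.range.subtype.comp ((MonoidHom.ofInjective hinj : _ ≃* _) : _ →* _) = φ := by
    ext x; rfl
  rw [e] at h2
  refine ⟨h2, ?_⟩
  rw [← hrange]
  rintro _ ⟨x, -, rfl⟩
  exact ⟨x, rfl⟩

/-- KEY: the preimage in `Y` of `K ≤ Y / O_p(Y)` is `Y ∩ π⁻¹(φ K)`. -/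
theorem map_comap_eq {G : Type u} [Group G] {p : ℕ} (Y : Subgroup G) [Y.Normal]
    [(Cfsg.pCore p ↥Y).Normal] [(Cfsg.pCore p G).Normal]
    (φ : (↥Y ⧸ Cfsg.pCore p ↥Y) →* (G ⧸ Cfsg.pCore p G)) (hinj : Function.Injective φ)
    (hφ : ∀ y : ↥Y, φ (QuotientGroup.mk y) = QuotientGroup.mk (y : G))
    (K : Subgroup (↥Y ⧸ Cfsg.pCore p ↥Y)) :
    (K.comap (QuotientGroup.mk' (Cfsg.pCore p ↥Y))).map Y.subtype =
      Y ⊓ (K.map φ).comap (QuotientGroup.mk' (Cfsg.pCore p G)) := by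
  ext x
  constructor
  · rintro ⟨y, hy, rfl⟩
    refine ⟨y.2, Subgroup.mem_comap.mpr ?_⟩
    exact ⟨QuotientGroup.mk y, hy, hφ y⟩
  · rintro ⟨hxY, hx⟩
    obtain ⟨q, hq, hqx⟩ := Subgroup.mem_comap.mp hx
    refine ⟨⟨x, hxY⟩, ?_, rfl⟩
    have hqe : q = QuotientGroup.mk ⟨x, hxY⟩ := hinj (hqx.trans (hφ ⟨x, hxY⟩).symm)
    show QuotientGroup.mk' _ ⟨x, hxY⟩ ∈ K
    rw [QuotientGroup.mk'_apply, ← hqe]
    exact hq

theorem trb_trans {G : Type u} [Group G] [Finite G] {p : ℕ} [Fact p.Prime] (Y : Subgroup G) [Y.Normal]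
    (S : Subgroup G)
    (hφ : ∃ φ : (↥Y ⧸ Cfsg.pCore p ↥Y) →* (G ⧸ Cfsg.pCore p G), Function.Injective φ ∧
      ∀ y : ↥Y, φ (QuotientGroup.mk y) = QuotientGroup.mk (y : G))
    (htrans : ∀ K₁ K₂ : Subgroup (G ⧸ Cfsg.pCore p G),
      Cfsg.IsComponent K₁ → K₁ ≤ Y.map (QuotientGroup.mk' (Cfsg.pCore p G)) →
      Cfsg.IsComponent K₂ → K₂ ≤ Y.map (QuotientGroup.mk' (Cfsg.pCore p G)) →
      ∃ s ∈ S.map (QuotientGroup.mk' (Cfsg.pCore p G)), K₂ = K₁.map (MulAut.conj s).toMonoidHom)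
    (K₁ K₂ : Subgroup (↥Y ⧸ Cfsg.pCore p ↥Y)) (h1 : Cfsg.IsComponent K₁) (h2 : Cfsg.IsComponent K₂) :
    ∃ s ∈ S, (K₂.comap (QuotientGroup.mk' (Cfsg.pCore p ↥Y))).map Y.subtype =
      ((K₁.comap (QuotientGroup.mk' (Cfsg.pCore p ↥Y))).map Y.subtype).map
        (MulAut.conj s).toMonoidHom := by
  obtain ⟨φ, hinj, hφm⟩ := hφ
  obtain ⟨hc1, hl1⟩ := isComponent_map Y φ hinj hφm h1
  obtain ⟨hc2, hl2⟩ := isComponent_map Y φ hinj hφm h2
  obtain ⟨_, ⟨s, hs, rfl⟩, hK⟩ := htrans _ _ hc1 hl1 hc2 hl2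
  refine ⟨s, hs, ?_⟩
  rw [map_comap_eq Y φ hinj hφm, map_comap_eq Y φ hinj hφm, hK]
  ext x
  constructor
  · rintro ⟨hxY, hx⟩
    obtain ⟨w, hw, hwx⟩ := Subgroup.mem_comap.mp hx
    refine ⟨s⁻¹ * x * s, ⟨?_, Subgroup.mem_comap.mpr ?_⟩, ?_⟩
    · have := (inferInstance : Y.Normal).conj_mem x hxY s⁻¹
      simpa using this
    · have e : (QuotientGroup.mk' (Cfsg.pCore p G)) (s⁻¹ * x * s) = w := by
        rw [map_mul, map_mul, ← hwx]
        simp only [MulEquiv.coe_toMonoidHom, MulAut.conj_apply, map_inv]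
        group
      rw [e]; exact hw
    · simp only [MulEquiv.coe_toMonoidHom, MulAut.conj_apply]
      group
  · rintro ⟨z, ⟨hzY, hz⟩, rfl⟩
    have hz' := Subgroup.mem_comap.mp hz
    refine ⟨?_, Subgroup.mem_comap.mpr ?_⟩
    · exact (inferInstance : Y.Normal).conj_mem z hzY s
    · refine ⟨(QuotientGroup.mk' (Cfsg.pCore p G)) z, hz', ?_⟩
      simp only [MulEquiv.coe_toMonoidHom, MulAut.conj_apply, map_mul, map_inv]

end Cfsg.Agent.Lib.Helper47_Iso_TRB2
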