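import Cfsg.Agent.Lib.Helper49_CharP4
import Cfsg.Prelude.Def_Amalgam

/-!
helper49: groups of characteristic `p`, part 5: centralizers of `p`-subgroups acting on a
subgroup of characteristic `p`; `C_H(P)` has characteristic `p` as soon as `C_H(y)` has for some
`y ∈ P`.
-/

set_option autoImplicit false

namespace Cfsg.Agent.Lib.Helper49_CharP

open Cfsg

variable {H : Type*} [Group H]

/-- An element normalizing `K` normalizes `O_p(K)` (as a subgroup of the ambient group). -/
theorem conj_mem_pCoreOf {p : ℕ} {K : Subgroup H} {g : H}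
    (hg : g ∈ Subgroup.normalizer (K : Set H)) {r : H} (hr : r ∈ pCoreOf p K) :
    g * r * g⁻¹ ∈ pCoreOf p K := by
  -- the conjugate of `O_p(K)` by `g` is a normal `p`-subgroup of `K`
  set R : Subgroup H := pCoreOf p K with hR
  have hRK : R ≤ K := by
    rw [hR]; unfold pCoreOf; exact Subgroup.map_subtype_le _
  have hRp : IsPGroup p R := by
    rw [hR]; unfold pCoreOf; exact (pCore_isPGroup p ↥K).map _
  have hRn : ∀ k ∈ K, ∀ s ∈ R, k * s * k⁻¹ ∈ R := by
    intro k hk s hs
    rw [hR] at hs ⊢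
    unfold pCoreOf at hs ⊢
    obtain ⟨s', hs', rfl⟩ := hs
    have := (pCoreNormal p ↥K).conj_mem s' hs' ⟨k, hk⟩
    exact ⟨_, this, by simp⟩
  set R' : Subgroup H := R.map (MulAut.conj g).toMonoidHom with hR'
  have hR'K : R' ≤ K := by
    rintro _ ⟨s, hs, rfl⟩
    simp only [MulEquiv.coe_toMonoidHom, MulAut.conj_apply]
    exact (Subgroup.mem_normalizer_iff.mp hg s).mp (hRK hs)
  have hR'n : (R'.subgroupOf K).Normal := by
    refine ⟨fun a ha k => ?_⟩
    rw [Subgroup.mem_subgroupOf] at ha ⊢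
    obtain ⟨s, hs, hsa⟩ := ha
    simp only [MulEquiv.coe_toMonoidHom, MulAut.conj_apply] at hsa
    have hk' : g⁻¹ * (k : H) * g ∈ K := (Subgroup.mem_normalizer_iff''.mp hg _).mp k.2
    refine ⟨(g⁻¹ * (k : H) * g) * s * (g⁻¹ * (k : H) * g)⁻¹, hRn _ hk' s hs, ?_⟩
    simp only [MulEquiv.coe_toMonoidHom, MulAut.conj_apply, Subgroup.coe_mul, Subgroup.coe_inv]
    rw [← hsa]; group
  have hR'p : IsPGroup p (R'.subgroupOf K) := (hRp.map _).comap_subtype
  have hle : R'.subgroupOf K ≤ pCore p ↥K := le_pCore hR'n hR'p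
  have hmem : g * r * g⁻¹ ∈ R' := ⟨r, hr, by simp [MulAut.conj_apply]⟩
  have : (⟨g * r * g⁻¹, hR'K hmem⟩ : ↥K) ∈ pCore p ↥K :=
    hle (by rw [Subgroup.mem_subgroupOf]; exact hmem)
  exact ⟨_, this, rfl⟩

theorem pCoreOf_le {p : ℕ} (K : Subgroup H) : pCoreOf p K ≤ K := by
  unfold pCoreOf; exact Subgroup.map_subtype_le _

theorem pCoreOf_isPGroup {p : ℕ} (K : Subgroup H) : IsPGroup p ↥(pCoreOf p K) := by
  unfold pCoreOf; exact (pCore_isPGroup p ↥K).map _

theorem mem_pCoreOf_iff {p : ℕ} {K : Subgroup H} {x : H} (hx : x ∈ K) :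
    x ∈ pCoreOf p K ↔ (⟨x, hx⟩ : ↥K) ∈ pCore p ↥K := by
  unfold pCoreOf
  constructor
  · rintro ⟨y, hy, hyx⟩
    have : y = ⟨x, hx⟩ := Subtype.ext hyx
    rw [← this]; exact hy
  · intro h
    exact ⟨_, h, rfl⟩

/-- A `p`-subgroup `D` of `K` normalized by `K` lies in `O_p(K)`. -/
theorem le_pCoreOf {p : ℕ} {K D : Subgroup H} (hDK : D ≤ K) (hD : IsPGroup p ↥D)
    (hn : K ≤ Subgroup.normalizer (D : Set H)) : D ≤ pCoreOf p K := by
  have h1 : (D.subgroupOf K).Normal := (Subgroup.normal_subgroupOf_iff_le_normalizer hDK).mpr hn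
  have h2 : D.subgroupOf K ≤ pCore p ↥K := le_pCore h1 hD.comap_subtype
  intro d hd
  rw [mem_pCoreOf_iff (hDK hd)]
  exact h2 (by rw [Subgroup.mem_subgroupOf]; exact hd)

/-- `IsCharP` for a subgroup, in terms of the ambient group. -/
theorem isCharP_subgroup_iff {p : ℕ} (K : Subgroup H) :
    IsCharP p ↥K ↔ K ⊓ Subgroup.centralizer (pCoreOf p K : Set H) ≤ pCoreOf p K := by
  constructor
  · intro h x hx
    rw [mem_pCoreOf_iff hx.1]
    apply h
    rw [Subgroup.mem_centralizer_iff]
    intro q hq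
    have hq' : (q : H) ∈ pCoreOf p K := (mem_pCoreOf_iff q.2).mpr hq
    exact Subtype.ext ((Subgroup.mem_centralizer_iff.mp hx.2) q hq')
  · intro h x hx
    have hx' : (x : H) ∈ K ⊓ Subgroup.centralizer (pCoreOf p K : Set H) := by
      refine Subgroup.mem_inf.mpr ⟨x.2, ?_⟩
      rw [Subgroup.mem_centralizer_iff]
      intro q hq
      have hqK : q ∈ K := pCoreOf_le K hq
      have := (Subgroup.mem_centralizer_iff.mp hx) ⟨q, hqK⟩ ((mem_pCoreOf_iff hqK).mp hq)
      exact congrArg Subtype.val this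
    exact (mem_pCoreOf_iff x.2).mp (h hx')

/-- To prove that a finite subgroup `K` has characteristic `p` it suffices to show that the
`p'`-elements of `C_K(O_p(K))` are trivial. -/
theorem isCharP_subgroup_of_forall_coprime {p : ℕ} [Fact p.Prime] [Finite H] (K : Subgroup H)
    (h : ∀ x ∈ K, (∀ q ∈ pCoreOf p K, Commute x q) → (orderOf x).Coprime p → x = 1) :
    IsCharP p ↥K := by
  have hn : (pCore p ↥K).Normal := pCoreNormal p ↥K
  set Y : Subgroup ↥K := Subgroup.centralizer (pCore p ↥K : Set ↥K) with hY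
  have hYn : Y.Normal := Subgroup.normal_centralizer
  have hYp : IsPGroup p Y := by
    apply isPGroup_of_forall_coprime_eq_one
    intro x hx hxo
    have hxo' : (orderOf (x : H)).Coprime p := by rwa [Subgroup.orderOf_coe]
    have : (x : H) = 1 := by
      apply h _ x.2 _ hxo'
      intro q hq
      have hqK : q ∈ K := pCoreOf_le K hq
      have := (Subgroup.mem_centralizer_iff.mp hx) ⟨q, hqK⟩ ((mem_pCoreOf_iff hqK).mp hq)
      exact (congrArg Subtype.val this).symm
    exact Subtype.ext this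
  exact le_pCore hYn hYp

theorem le_normalizer_of_conj_mem {C D : Subgroup H}
    (h : ∀ c ∈ C, ∀ z ∈ D, c * z * c⁻¹ ∈ D) : C ≤ Subgroup.normalizer (D : Set H) := by
  intro c hc
  rw [Subgroup.mem_normalizer_iff]
  intro z
  constructor
  · exact h c hc z
  · intro hz
    have := h c⁻¹ (inv_mem hc) _ hz
    have e : c⁻¹ * (c * z * c⁻¹) * c⁻¹⁻¹ = z := by group
    rwa [e] at this

/-- If `K` has characteristic `p` and the `p`-subgroup `A` normalizes `K`, then `C_K(A)` has
characteristic `p`. -/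
theorem IsCharP.inf_centralizer {p : ℕ} [Fact p.Prime] [Finite H] {K A : Subgroup H}
    (hK : IsCharP p ↥K) (hA : IsPGroup p ↥A) (hAK : A ≤ Subgroup.normalizer (K : Set H)) :
    IsCharP p ↥(K ⊓ Subgroup.centralizer (A : Set H)) := by
  classical
  apply isCharP_subgroup_of_forall_coprime
  intro x hx hxC hxo
  set C : Subgroup H := K ⊓ Subgroup.centralizer (A : Set H) with hC
  set R : Subgroup H := pCoreOf p K with hR
  have hRp : IsPGroup p ↥R := pCoreOf_isPGroup K
  have hRK : R ≤ K := pCoreOf_le K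
  have hxK : x ∈ K := hx.1
  have hxA : ∀ a ∈ A, Commute x a := fun a ha =>
    ((Subgroup.mem_centralizer_iff.mp hx.2) a ha).symm
  have hKR : ∀ k ∈ K, ∀ r ∈ R, k * r * k⁻¹ ∈ R := fun k hk r hr =>
    conj_mem_pCoreOf (Subgroup.le_normalizer hk) hr
  have hAR : ∀ a ∈ A, ∀ r ∈ R, a * r * a⁻¹ ∈ R := fun a ha r hr =>
    conj_mem_pCoreOf (hAK ha) hr
  have hA_norm : A ≤ Subgroup.normalizer (R : Set H) := le_normalizer_of_conj_mem hAR
  -- `C_R(A)` lies in `O_p(C)`
  have hRA : R ⊓ Subgroup.centralizer (A : Set H) ≤ pCoreOf p C := by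
    apply le_pCoreOf
    · exact inf_le_inf_right _ hRK
    · exact hRp.to_le inf_le_left
    · apply le_normalizer_of_conj_mem
      intro c hc z hz
      refine ⟨hKR c hc.1 z hz.1, ?_⟩
      exact (Subgroup.centralizer (A : Set H)).mul_mem
        ((Subgroup.centralizer (A : Set H)).mul_mem hc.2 hz.2)
        ((Subgroup.centralizer (A : Set H)).inv_mem hc.2)
  have hxRA : ∀ c ∈ R ⊓ Subgroup.centralizer (A : Set H), Commute x c :=
    fun c hc => hxC c (hRA hc)
  -- `x` centralizes `N_R(A)`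
  have hxNR : ∀ r ∈ R, r ∈ Subgroup.normalizer (A : Set H) → Commute x r := by
    intro r hr hrN
    set c : H := r⁻¹ * x * r * x⁻¹ with hc
    have hxr : x * r * x⁻¹ ∈ R := hKR x hxK r hr
    have hcR : c ∈ R := by
      have : c = r⁻¹ * (x * r * x⁻¹) := by rw [hc]; group
      rw [this]; exact mul_mem (inv_mem hr) hxr
    have hcA : c ∈ Subgroup.centralizer (A : Set H) := by
      rw [Subgroup.mem_centralizer_iff]
      intro b hb
      have hb' : r * b * r⁻¹ ∈ A := (Subgroup.mem_normalizer_iff.mp hrN b).mp hb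
      have h1 : x * b = b * x := (hxA b hb).eq
      have h2 : x * (r * b * r⁻¹) = (r * b * r⁻¹) * x := (hxA _ hb').eq
      have h1' : x⁻¹ * b = b * x⁻¹ := by
        have := (hxA b hb).inv_left
        exact this.eq
      -- (x r x⁻¹) b = (r b r⁻¹) (x r x⁻¹)
      have h3 : x * r * x⁻¹ * b = r * b * r⁻¹ * (x * r * x⁻¹) := by
        calc x * r * x⁻¹ * b = x * r * (x⁻¹ * b) := by group
          _ = x * r * (b * x⁻¹) := by rw [h1']
          _ = x * (r * b * r⁻¹) * r * x⁻¹ := by group
          _ = (r * b * r⁻¹) * x * r * x⁻¹ := by rw [h2]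
          _ = r * b * r⁻¹ * (x * r * x⁻¹) := by group
      calc b * c = b * (r⁻¹ * (x * r * x⁻¹)) := by rw [hc]; group
        _ = r⁻¹ * (r * b * r⁻¹ * (x * r * x⁻¹)) := by group
        _ = r⁻¹ * (x * r * x⁻¹ * b) := by rw [h3]
        _ = c * b := by rw [hc]; group
    exact commute_of_coprime_of_conj_eq_mul (p := p) x r c hxo (by rw [hc]; group)
      (hxRA c ⟨hcR, hcA⟩) (orderOf_eq_pow_of_mem hRp hcR)
  -- the `p`-group `RA`
  set P' : Subgroup H := R ⊔ A with hP'
  have hP'p : IsPGroup p ↥P' := IsPGroup.to_sup_of_normal_left' hRp hA hA_norm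
  have hdecomp : ∀ z ∈ P', ∃ r ∈ R, ∃ a ∈ A, z = r * a := by
    intro z hz
    have : z ∈ ((R ⊔ A : Subgroup H) : Set H) := hz
    rw [Subgroup.coe_mul_of_right_le_normalizer_left R A hA_norm] at this
    obtain ⟨r, hr, a, ha, rfl⟩ := this
    exact ⟨r, hr, a, ha, rfl⟩
  set Q' : Subgroup H := P' ⊓ Subgroup.normalizer (A : Set H) with hQ'
  have hxQ' : ∀ q ∈ Q', Commute x q := by
    intro q hq
    obtain ⟨r, hr, a, ha, rfl⟩ := hdecomp q hq.1
    have hrN : r ∈ Subgroup.normalizer (A : Set H) := by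
      have : r = r * a * a⁻¹ := by group
      rw [this]
      exact mul_mem hq.2 (inv_mem (Subgroup.le_normalizer ha))
    exact (hxNR r hr hrN).mul_right (hxA a ha)
  have hxP' : ∀ z ∈ P', x * z * x⁻¹ ∈ P' := by
    intro z hz
    obtain ⟨r, hr, a, ha, rfl⟩ := hdecomp z hz
    have h1 : x * a * x⁻¹ = a := by
      rw [(hxA a ha).eq]; group
    have : x * (r * a) * x⁻¹ = (x * r * x⁻¹) * (x * a * x⁻¹) := by group
    rw [this, h1]
    exact mul_mem ((le_sup_left : R ≤ P') (hKR x hxK r hr)) ((le_sup_right : A ≤ P') ha)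
  have hCQ : P' ⊓ Subgroup.centralizer (Q' : Set H) ≤ Q' := by
    rintro z ⟨hzP, hzC⟩
    refine ⟨hzP, ?_⟩
    have hAQ' : A ≤ Q' := le_inf le_sup_right Subgroup.le_normalizer
    have : z ∈ Subgroup.centralizer (A : Set H) :=
      Subgroup.centralizer_le (by exact_mod_cast hAQ') hzC
    exact Subgroup.centralizer_le_normalizer _ this
  have hcomm := commute_of_selfCentralizing P' Q' hP'p inf_le_left hCQ x hxo hxQ' hxP'
  have hxR : x ∈ K ⊓ Subgroup.centralizer (R : Set H) := by
    refine Subgroup.mem_inf.mpr ⟨hxK, ?_⟩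
    rw [Subgroup.mem_centralizer_iff]
    intro r hr
    exact ((hcomm r ((le_sup_left : R ≤ P') hr)).eq).symm
  have hxR' : x ∈ R := (isCharP_subgroup_iff K).mp hK hxR
  exact eq_one_of_coprime_of_mem hRp hxR' hxo

theorem normalizer_le_normalizer_centralizer (U : Subgroup H) :
    Subgroup.normalizer (U : Set H) ≤
      Subgroup.normalizer ((Subgroup.centralizer (U : Set H) : Subgroup H) : Set H) := by
  apply le_normalizer_of_conj_mem
  intro g hg z hz
  rw [Subgroup.mem_centralizer_iff] at hz ⊢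
  intro u hu
  have hu' : g⁻¹ * u * g ∈ U := (Subgroup.mem_normalizer_iff''.mp hg u).mp hu
  have := hz _ hu'
  calc u * (g * z * g⁻¹) = g * ((g⁻¹ * u * g) * z) * g⁻¹ := by group
    _ = g * (z * (g⁻¹ * u * g)) * g⁻¹ := by rw [this]
    _ = g * z * g⁻¹ * u := by group

theorem isCharP_centralizer_aux {p : ℕ} [Fact p.Prime] [Finite H] (P : Subgroup H)
    (hP : IsPGroup p ↥P) : ∀ n : ℕ, ∀ U : Subgroup H, U ≤ P → Nat.card ↥P - Nat.card ↥U = n →
      IsCharP p ↥(Subgroup.centralizer (U : Set H)) →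
      IsCharP p ↥(Subgroup.centralizer (P : Set H)) := by
  intro n
  induction n using Nat.strong_induction_on with
  | _ n ih =>
    intro U hUP hn hU
    by_cases hUeq : U = P
    · rw [← hUeq]; exact hU
    · -- the normalizer of `U` in `P` is strictly bigger
      have hne : U.subgroupOf P ≠ ⊤ := by
        intro h
        apply hUeq
        exact le_antisymm hUP (Subgroup.subgroupOf_eq_top.mp h)
      have : Group.IsNilpotent ↥P := hP.isNilpotent
      have hnc : NormalizerCondition ↥P := Group.normalizerCondition_of_isNilpotent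
      have hlt := hnc (U.subgroupOf P) (lt_top_iff_ne_top.mpr hne)
      obtain ⟨m, hmN, hmU⟩ := SetLike.exists_of_lt hlt
      rw [← Subgroup.subgroupOf_normalizer_eq hUP, Subgroup.mem_subgroupOf] at hmN
      rw [Subgroup.mem_subgroupOf] at hmU
      set U' : Subgroup H := P ⊓ Subgroup.normalizer (U : Set H) with hU'
      have hUU' : U ≤ U' := le_inf hUP Subgroup.le_normalizer
      have hU'P : U' ≤ P := inf_le_left
      have hmU' : (m : H) ∈ U' := ⟨m.2, hmN⟩
      have hlt' : U < U' := lt_of_le_of_ne hUU' (fun h => hmU (by rw [h]; exact hmU'))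
      have hcard : Nat.card ↥U < Nat.card ↥U' := by
        have h1 : (U : Set H) ⊂ (U' : Set H) := by exact_mod_cast hlt'
        have := Set.ncard_lt_ncard h1 (Set.toFinite _)
        simpa [← Nat.card_coe_set_eq] using this
      have hcard' : Nat.card ↥U' ≤ Nat.card ↥P := Subgroup.card_le_of_le hU'P
      have hU'p : IsPGroup p ↥U' := hP.to_le hU'P
      have hnorm : U' ≤ Subgroup.normalizer
          ((Subgroup.centralizer (U : Set H) : Subgroup H) : Set H) :=
        le_trans inf_le_right (normalizer_le_normalizer_centralizer U)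
      have h1 := hU.inf_centralizer hU'p hnorm
      have e : Subgroup.centralizer (U : Set H) ⊓ Subgroup.centralizer (U' : Set H) =
          Subgroup.centralizer (U' : Set H) :=
        inf_eq_right.mpr (Subgroup.centralizer_le (by exact_mod_cast hUU'))
      rw [e] at h1
      exact ih (Nat.card ↥P - Nat.card ↥U') (by omega) U' hU'P rfl h1

/-- If `C_H(y)` has characteristic `p` for some element `y` of the `p`-subgroup `P`, then
`C_H(P)` has characteristic `p`. -/
theorem IsCharP.centralizer_of_mem {p : ℕ} [Fact p.Prime] [Finite H] {P : Subgroup H}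
    (hP : IsPGroup p ↥P) {y : H} (hy : y ∈ P)
    (hC : IsCharP p ↥(Subgroup.centralizer ({y} : Set H))) :
    IsCharP p ↥(Subgroup.centralizer (P : Set H)) := by
  have e : Subgroup.centralizer ((Subgroup.zpowers y : Subgroup H) : Set H) =
      Subgroup.centralizer ({y} : Set H) := by
    rw [Subgroup.zpowers_eq_closure, Subgroup.centralizer_closure]
  have hU : IsCharP p ↥(Subgroup.centralizer ((Subgroup.zpowers y : Subgroup H) : Set H)) := by
    rw [e]; exact hC
  exact isCharP_centralizer_aux P hP _ (Subgroup.zpowers y)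
    (by rw [Subgroup.zpowers_le]; exact hy) rfl hU

end Cfsg.Agent.Lib.Helper49_CharP
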