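import Cfsg.Agent.Lib.Helper47_Trace
import Cfsg.Agent.Lib.Helper47_YMin
import Cfsg.Agent.Lib.Helper23_CharP2
import Cfsg.Agent.Lib.Helper49_CharP5
import Cfsg.Agent.S2826
import Cfsg.Agent.Lib.Helper10_Thompson

set_option autoImplicit false

namespace Cfsg.Agent.Lib.Helper47_Kieler

open Cfsg
open Cfsg.Agent.Lib.Helper47_PLocal Cfsg.Agent.Lib.Helper47_SubAPI Cfsg.Agent.Lib.Helper47_PClosed
  Cfsg.Agent.Lib.Helper47_YL Cfsg.Agent.Lib.Helper47_TL Cfsg.Agent.Lib.Helper47_TL2
  Cfsg.Agent.Lib.Helper47_Trace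
open scoped commutatorElement Pointwise

variable {G : Type*} [Group G] {p : ℕ}

/-! ### `Ω₁(Z(S))` -/

theorem mem_omegaOne_center {S : Subgroup G} {x : G} (hxS : x ∈ S)
    (hxC : x ∈ Subgroup.centralizer (S : Set G)) (hxp : x ^ p = 1) :
    x ∈ Cfsg.omegaOne p (S ⊓ Subgroup.centralizer (S : Set G)) :=
  Subgroup.subset_closure ⟨⟨hxS, hxC⟩, hxp⟩

theorem pow_eq_one_of_mem_omegaOne_center {S : Subgroup G} {x : G}
    (hx : x ∈ Cfsg.omegaOne p (S ⊓ Subgroup.centralizer (S : Set G))) : x ^ p = 1 :=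
  (isElementaryAbelian_omegaOne_center (p := p) S).2 x hx

/-- A criterion for `Ω₁(Z(S)) ≤ Ω₁(Z(Q))`. -/
theorem omegaOne_center_le_omegaOne_center {S Q : Subgroup G}
    (h1 : S ⊓ Subgroup.centralizer (S : Set G) ≤ Q)
    (h2 : S ⊓ Subgroup.centralizer (S : Set G) ≤ Subgroup.centralizer (Q : Set G)) :
    Cfsg.omegaOne p (S ⊓ Subgroup.centralizer (S : Set G)) ≤
      Cfsg.omegaOne p (Q ⊓ Subgroup.centralizer (Q : Set G)) := by
  unfold Cfsg.omegaOne
  rw [Subgroup.closure_le]
  rintro x ⟨hx, hxp⟩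
  exact Subgroup.subset_closure ⟨⟨h1 hx, h2 hx⟩, hxp⟩

/-! ### Kieler's Lemma, normal case with `G = E T` -/

theorem kieler_normal [Finite G] [Fact p.Prime]
    (hchar : Subgroup.centralizer (Cfsg.pCore p G : Set G) ≤ Cfsg.pCore p G) (T : Sylow p G)
    (E : Subgroup G) [hE : E.Normal] (hET : E ⊔ (T : Subgroup G) = ⊤) :
    E ⊓ Subgroup.centralizer
        ((Cfsg.omegaOne p ((T : Subgroup G) ⊓ Subgroup.centralizer ((T : Subgroup G) : Set G)) :
          Subgroup G) : Set G) =
      E ⊓ Subgroup.centralizer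
        ((Cfsg.omegaOne p (((T : Subgroup G) ⊓ E) ⊓
          Subgroup.centralizer ((((T : Subgroup G) ⊓ E : Subgroup G)) : Set G)) : Subgroup G) : Set G) := by
  have hQn : (Cfsg.pCore p G).Normal := inferInstance
  have hQT : Cfsg.pCore p G ≤ (T : Subgroup G) := pCore_le_sylow T
  set Z := Cfsg.omegaOne p ((T : Subgroup G) ⊓ Subgroup.centralizer ((T : Subgroup G) : Set G))
    with hZ
  set Z₀ := Cfsg.omegaOne p (((T : Subgroup G) ⊓ E) ⊓
    Subgroup.centralizer ((((T : Subgroup G) ⊓ E : Subgroup G)) : Set G)) with hZ₀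
  have hZT : Z ≤ (T : Subgroup G) := (omegaOne_le p _).trans inf_le_left
  have hZC : Z ≤ Subgroup.centralizer ((T : Subgroup G) : Set G) := (omegaOne_le p _).trans inf_le_right
  have hTZ : (T : Subgroup G) ≤ Subgroup.centralizer (Z : Set G) := by
    rw [Subgroup.le_centralizer_iff]; exact hZC
  -- `Z ∩ E ≤ Z₀`
  have hZE : Z ⊓ E ≤ Z₀ := by
    intro x hx
    refine mem_omegaOne_center ⟨hZT hx.1, hx.2⟩ ?_ (pow_eq_one_of_mem_omegaOne_center hx.1)
    exact Subgroup.centralizer_le (SetLike.coe_subset_coe.mpr inf_le_left) (hZC hx.1)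
  apply le_antisymm
  · -- direction B: `C_E(Z) ≤ C_E(Z₀)` by the transfer argument
    have hEchar : Cfsg.Agent.Lib.Helper49_CharP.IsCharP p ↥E :=
      Cfsg.Agent.Lib.Helper49_CharP.IsCharP.of_normal (G := G) hchar E
    have hEchar' : E ⊓ Subgroup.centralizer ((Cfsg.pCoreOf p E : Subgroup G) : Set G) ≤
        Cfsg.pCoreOf p E := (charP_iff E).mp hEchar
    have hEtop : (⊤ : Subgroup G) ≤ Subgroup.normalizer (E : Set G) := by
      rw [Subgroup.normalizer_eq_top_iff.mpr hE]
    have hQEtop : (⊤ : Subgroup G) ≤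
        Subgroup.normalizer ((Cfsg.pCoreOf p E : Subgroup G) : Set G) :=
      le_normalizer_pCoreOf_of_le_normalizer hEtop
    have hQEn : (Cfsg.pCoreOf p E).Normal :=
      Subgroup.normalizer_eq_top_iff.mp (top_le_iff.mp hQEtop)
    have hQEp : IsPGroup p (Cfsg.pCoreOf p E) := isPGroup_pCoreOf E
    have hQET : Cfsg.pCoreOf p E ≤ (T : Subgroup G) := (le_pCore hQEn hQEp).trans hQT
    have hQES : Cfsg.pCoreOf p E ≤ (T : Subgroup G) ⊓ E := le_inf hQET (pCoreOf_le E)
    set V := Cfsg.omegaOne p (Cfsg.pCoreOf p E ⊓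
      Subgroup.centralizer ((Cfsg.pCoreOf p E : Subgroup G) : Set G)) with hV
    have hVtop : (⊤ : Subgroup G) ≤ Subgroup.normalizer (V : Set G) :=
      hQEtop.trans (normalizer_le_normalizer_omegaOne_center (p := p) (Cfsg.pCoreOf p E))
    have hVel : Cfsg.IsElementaryAbelian p V := isElementaryAbelian_omegaOne_center _
    have hVQ : V ≤ Cfsg.pCoreOf p E := (omegaOne_le p _).trans inf_le_left
    have hZ₀V : Z₀ ≤ V := by
      apply omegaOne_center_le_omegaOne_center
      · intro x hx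
        exact hEchar' ⟨hx.1.2, Subgroup.centralizer_le (SetLike.coe_subset_coe.mpr hQES) hx.2⟩
      · intro x hx
        exact Subgroup.centralizer_le (SetLike.coe_subset_coe.mpr hQES) hx.2
    have hZ₀S : Z₀ ≤ Subgroup.centralizer ((((T : Subgroup G) ⊓ E : Subgroup G)) : Set G) :=
      omegaOne_center_le_centralizer _
    have hTC : (T : Subgroup G) ≤ Subgroup.normalizer
        ((E ⊓ Subgroup.centralizer (Z : Set G) : Subgroup G) : Set G) :=
      (le_inf (le_top.trans hEtop) (hTZ.trans Subgroup.le_normalizer)).trans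
        (normalizer_inf_le_normalizer_inf _ _)
    have hTS : (T : Subgroup G) ≤ Subgroup.normalizer ((((T : Subgroup G) ⊓ E : Subgroup G)) : Set G) :=
      (le_inf Subgroup.le_normalizer (le_top.trans hEtop)).trans (normalizer_inf_le_normalizer_inf _ _)
    have hSeq : (T : Subgroup G) ⊓ (E ⊓ Subgroup.centralizer (Z : Set G)) = (T : Subgroup G) ⊓ E := by
      apply le_antisymm
      · intro x hx; exact ⟨hx.1, hx.2.1⟩
      · intro x hx; exact ⟨hx.1, hx.2, hTZ hx.1⟩
    have hidx : ¬ p ∣ ((T : Subgroup G) ⊓ E).relIndex (E ⊓ Subgroup.centralizer (Z : Set G)) := by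
      have := not_dvd_relIndex_inf_of_le_normalizer T _ hTC
      rwa [hSeq] at this
    have key := mem_centralizer_of_fixedPoints (p := p)
      (C := E ⊓ Subgroup.centralizer (Z : Set G)) (S := (T : Subgroup G) ⊓ E) (V := V)
      (R := (T : Subgroup G))
      (fun a ha b hb => Cfsg.Agent.Lib.Helper10_Thompson.ea_comm hVel ha hb)
      (Cfsg.Agent.Lib.Helper47_PReduced.isPGroup_of_isElementaryAbelian hVel)
      (fun x hx => ⟨hx.2, hTZ hx.1⟩) hidx (le_top.trans hVtop) T.isPGroup' hTC hTS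
      (le_top.trans hVtop)
      (by
        intro z hzV _ hzT
        have hzZ : z ∈ Z :=
          mem_omegaOne_center (hQET (hVQ hzV)) hzT (pow_eq_one_of_mem_omegaOne_center hzV)
        rw [Subgroup.mem_centralizer_iff]
        intro c hc
        exact ((Subgroup.mem_centralizer_iff.mp hc.2) z hzZ).symm)
    intro x hx
    refine ⟨hx.1, ?_⟩
    show x ∈ Subgroup.centralizer (Z₀ : Set G)
    rw [Subgroup.mem_centralizer_iff]
    intro z hz
    have h1 := key z (hZ₀V hz) (hZ₀S hz)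
    exact ((Subgroup.mem_centralizer_iff.mp h1) x hx).symm
  · -- direction A: `C_E(Z₀) ≤ C_E(Z)` by S2826
    set VG := Cfsg.omegaOne p (Cfsg.pCore p G ⊓ Subgroup.centralizer (Cfsg.pCore p G : Set G))
      with hVG
    haveI hVGn : VG.Normal := by
      rw [← Subgroup.normalizer_eq_top_iff, eq_top_iff]
      refine le_trans ?_ (normalizer_le_normalizer_omegaOne_center (p := p) (Cfsg.pCore p G))
      rw [Subgroup.normalizer_eq_top_iff.mpr hQn]
    have hVGel : Cfsg.IsElementaryAbelian p VG := isElementaryAbelian_omegaOne_center _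
    have hZVG : Z ≤ VG := by
      apply omegaOne_center_le_omegaOne_center
      · intro x hx
        exact hchar (Subgroup.centralizer_le (SetLike.coe_subset_coe.mpr hQT) hx.2)
      · intro x hx
        exact Subgroup.centralizer_le (SetLike.coe_subset_coe.mpr hQT) hx.2
    have h26 := Cfsg.Agent.S2826.result hchar T VG hVGel hZVG
    have hOE : Cfsg.pResidual p G ≤ E :=
      pResidual_le_of_isPGroup_quotient (isPGroup_quotient_of_sup_eq_top T.isPGroup' hET)
    have hWE : ⁅VG, Cfsg.pResidual p G⁆ ≤ E :=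
      (Subgroup.commutator_mono le_top hOE).trans (Subgroup.commutator_le_right ⊤ E)
    intro x hx
    refine ⟨hx.1, ?_⟩
    rw [← hZ] at h26
    rw [h26]
    refine Subgroup.centralizer_le (SetLike.coe_subset_coe.mpr ?_) hx.2
    intro y hy
    exact hZE ⟨hy.2, hWE hy.1⟩

/-! ### Transfer to subgroups -/

theorem map_inf_centralizer_subtype (K' : Subgroup G) (E' W' : Subgroup ↥K') :
    (E' ⊓ Subgroup.centralizer (W' : Set ↥K')).map K'.subtype =
      E'.map K'.subtype ⊓ Subgroup.centralizer ((W'.map K'.subtype : Subgroup G) : Set G) := by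
  rw [centralizer_eq_subgroupOf, map_inf_subgroupOf]

theorem map_omegaOne_center (K' : Subgroup G) (A : Subgroup ↥K') :
    (Cfsg.omegaOne p (A ⊓ Subgroup.centralizer (A : Set ↥K'))).map K'.subtype =
      Cfsg.omegaOne p (A.map K'.subtype ⊓
        Subgroup.centralizer ((A.map K'.subtype : Subgroup G) : Set G)) := by
  rw [map_omegaOne, map_inf_centralizer]

/-- Kieler's Lemma for a normal subgroup `L` of a subgroup `K` of characteristic `p`, `S` a Sylow
`p`-subgroup of `K`; stated in the ambient group. -/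
theorem kieler_normal_ambient [Finite G] [Fact p.Prime] {K L : Subgroup G}
    (hK : Cfsg.Agent.Lib.Helper49_CharP.IsCharP p ↥K) (P : Sylow p ↥K) (hLK : L ≤ K)
    (hKL : K ≤ Subgroup.normalizer (L : Set G)) :
    L ⊓ Subgroup.centralizer
        ((Cfsg.omegaOne p ((P : Subgroup ↥K).map K.subtype ⊓
          Subgroup.centralizer (((P : Subgroup ↥K).map K.subtype : Subgroup G) : Set G)) :
          Subgroup G) : Set G) =
      L ⊓ Subgroup.centralizer
        ((Cfsg.omegaOne p (((P : Subgroup ↥K).map K.subtype ⊓ L) ⊓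
          Subgroup.centralizer ((((P : Subgroup ↥K).map K.subtype ⊓ L : Subgroup G)) : Set G)) :
          Subgroup G) : Set G) := by
  set S := (P : Subgroup ↥K).map K.subtype with hS
  have hSK : S ≤ K := Subgroup.map_subtype_le _
  have hSp : IsPGroup p S := P.isPGroup'.map _
  have hSL : S ≤ Subgroup.normalizer (L : Set G) := hSK.trans hKL
  have hK'K : L ⊔ S ≤ K := sup_le hLK hSK
  have hL : Cfsg.Agent.Lib.Helper49_CharP.IsCharP p ↥L :=
    Cfsg.Agent.Lib.Helper23_CharP2.IsCharP.of_le_of_normal hK hLK hKL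
  have hK' : Cfsg.Agent.Lib.Helper49_CharP.IsCharP p ↥(L ⊔ S : Subgroup G) :=
    Cfsg.Agent.Lib.Helper23_CharP2.IsCharP.sup_of_isPGroup hL hSp hSL
  -- `S` is a Sylow `p`-subgroup of `K' = L S`
  have hidxK : ¬ p ∣ S.relIndex K := by
    have h1 : S.subgroupOf K = (P : Subgroup ↥K) := map_subtype_subgroupOf_map K _
    rw [Subgroup.relIndex, h1]
    exact P.not_dvd_index
  have hidx : ¬ p ∣ (S.subgroupOf (L ⊔ S)).index := by
    intro h
    apply hidxK
    rw [← Subgroup.relIndex_mul_relIndex S (L ⊔ S) K le_sup_right hK'K]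
    exact Dvd.dvd.mul_right h _
  have hSp' : IsPGroup p (S.subgroupOf (L ⊔ S)) := hSp.comap_subtype
  set T' : Sylow p ↥(L ⊔ S : Subgroup G) := IsPGroup.toSylow hSp' hidx with hT'
  have hT'c : (T' : Subgroup ↥(L ⊔ S : Subgroup G)) = S.subgroupOf (L ⊔ S) :=
    IsPGroup.toSylow_coe _ _
  have hT'map : (T' : Subgroup ↥(L ⊔ S : Subgroup G)).map (L ⊔ S).subtype = S := by
    rw [hT'c, Subgroup.map_subgroupOf_eq_of_le le_sup_right]
  haveI hE'n : (L.subgroupOf (L ⊔ S)).Normal :=
    (Subgroup.normal_subgroupOf_iff_le_normalizer le_sup_left).mpr (hK'K.trans hKL)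
  have hE'map : (L.subgroupOf (L ⊔ S)).map (L ⊔ S).subtype = L :=
    Subgroup.map_subgroupOf_eq_of_le le_sup_left
  have hsup : L.subgroupOf (L ⊔ S) ⊔ (T' : Subgroup ↥(L ⊔ S : Subgroup G)) = ⊤ := by
    rw [hT'c, ← Subgroup.subgroupOf_sup le_sup_left le_sup_right, Subgroup.subgroupOf_self]
  have hkn := kieler_normal hK' T' (L.subgroupOf (L ⊔ S)) hsup
  have h2 := congrArg (Subgroup.map (L ⊔ S).subtype) hkn
  rw [map_inf_centralizer_subtype, map_inf_centralizer_subtype, map_omegaOne_center,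
    map_omegaOne_center, map_inf_subgroupOf, hE'map, hT'map] at h2
  exact h2

/-- Kieler's Lemma: `C_L(Ω₁(Z(T))) = C_L(Ω₁(Z(T ∩ L)))` for a subnormal subgroup `L` of a group of
characteristic `p`; moreover `T ∩ L` is a Sylow `p`-subgroup of `L`. -/
theorem kieler [Finite G] [Fact p.Prime]
    (hchar : Subgroup.centralizer (Cfsg.pCore p G : Set G) ≤ Cfsg.pCore p G) (T : Sylow p G)
    {L : Subgroup G} (hL : L.IsSubnormal) :
    (∃ P : Sylow p ↥L, (P : Subgroup ↥L).map L.subtype = (T : Subgroup G) ⊓ L) ∧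
    L ⊓ Subgroup.centralizer
        ((Cfsg.omegaOne p ((T : Subgroup G) ⊓ Subgroup.centralizer ((T : Subgroup G) : Set G)) :
          Subgroup G) : Set G) =
      L ⊓ Subgroup.centralizer
        ((Cfsg.omegaOne p (((T : Subgroup G) ⊓ L) ⊓
          Subgroup.centralizer ((((T : Subgroup G) ⊓ L : Subgroup G)) : Set G)) : Subgroup G) : Set G) := by
  induction hL with
  | top =>
    refine ⟨?_, ?_⟩
    · obtain ⟨P, hP⟩ := exists_sylow_eq_inf_subgroupOf T ⊤ (by
        rw [Subgroup.normalizer_eq_top_iff.mpr (inferInstance : (⊤ : Subgroup G).Normal)]; exact le_top)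
      refine ⟨P, ?_⟩
      rw [hP, Subgroup.map_subgroupOf_eq_of_le inf_le_right]
    · rw [inf_top_eq]
  | step H K hHK hK hN ih =>
    obtain ⟨⟨PK, hPK⟩, ihK⟩ := ih
    have hKH : K ≤ Subgroup.normalizer (H : Set G) :=
      (Subgroup.normal_subgroupOf_iff_le_normalizer hHK).mp hN
    have hTKH : ((T : Subgroup G) ⊓ K) ⊓ H = (T : Subgroup G) ⊓ H := by
      rw [inf_assoc, inf_eq_right.mpr hHK]
    refine ⟨?_, ?_⟩
    · obtain ⟨P, hP⟩ :=
        Cfsg.Agent.Lib.Helper47_YMin.exists_sylow_eq_inf_subgroupOf_of_le K PK H hHK hKH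
      refine ⟨P, ?_⟩
      rw [hP, Subgroup.map_subgroupOf_eq_of_le inf_le_right, hPK, hTKH]
    · have hKc : Cfsg.Agent.Lib.Helper49_CharP.IsCharP p ↥K :=
        Cfsg.Agent.Lib.Helper49_CharP.IsCharP.of_isSubnormal (G := G) hchar K hK
      have kna := kieler_normal_ambient hKc PK hHK hKH
      rw [hPK, hTKH] at kna
      apply le_antisymm
      · intro x hx
        have h1 : x ∈ K ⊓ Subgroup.centralizer
            ((Cfsg.omegaOne p (((T : Subgroup G) ⊓ K) ⊓
              Subgroup.centralizer ((((T : Subgroup G) ⊓ K : Subgroup G)) : Set G)) : Subgroup G) : Set G) := by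
          rw [← ihK]; exact ⟨hHK hx.1, hx.2⟩
        rw [← kna]
        exact ⟨hx.1, h1.2⟩
      · intro x hx
        rw [← kna] at hx
        have h1 : x ∈ K ⊓ Subgroup.centralizer
            ((Cfsg.omegaOne p ((T : Subgroup G) ⊓ Subgroup.centralizer ((T : Subgroup G) : Set G)) :
              Subgroup G) : Set G) := by
          rw [ihK]; exact ⟨hHK hx.1, hx.2⟩
        exact ⟨hx.1, h1.2⟩

end Cfsg.Agent.Lib.Helper47_Kieler
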