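import Cfsg.Agent.Lib.Helper47_Large
import Cfsg.Agent.Lib.Helper47_WC2
import Cfsg.Agent.Lib.Helper47_Subn
import Cfsg.Agent.Lib.Helper32_PGroup

set_option autoImplicit false

namespace Cfsg.Agent.Lib.Helper47_Large2

open Cfsg
open Cfsg.Agent.Lib.Helper47_PLocal Cfsg.Agent.Lib.Helper47_SubAPI Cfsg.Agent.Lib.Helper47_Conj
  Cfsg.Agent.Lib.Helper47_WeaklyClosed Cfsg.Agent.Lib.Helper47_Large Cfsg.Agent.Lib.Helper47_WC2
  Cfsg.Agent.Lib.Helper47_Subn
open scoped commutatorElement Pointwise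

variable {G : Type*} [Group G] {p : ℕ}

/-- A `p`-group `P` normalizing a nontrivial `p`-group `Y` centralizes a nontrivial element
of `Y`. -/
theorem exists_mem_centralizer_of_le_normalizer [Finite G] [Fact p.Prime] {Y P : Subgroup G}
    (hY : IsPGroup p Y) (hP : IsPGroup p P) (hPY : P ≤ Subgroup.normalizer (Y : Set G))
    (hY1 : Y ≠ ⊥) : ∃ z ∈ Y, z ≠ 1 ∧ z ∈ Subgroup.centralizer (P : Set G) := by
  have hR : IsPGroup p (P ⊔ Y : Subgroup G) := IsPGroup.to_sup_of_normal_right' hP hY hPY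
  have hYR : Y ≤ P ⊔ Y := le_sup_right
  have hRY : P ⊔ Y ≤ Subgroup.normalizer (Y : Set G) := sup_le hPY Subgroup.le_normalizer
  have hn : (Y.subgroupOf (P ⊔ Y)).Normal :=
    (Subgroup.normal_subgroupOf_iff_le_normalizer hYR).mpr hRY
  have hne : Y.subgroupOf (P ⊔ Y) ≠ ⊥ := by
    intro h
    apply hY1
    rw [eq_bot_iff]
    intro y hy
    have : (⟨y, hYR hy⟩ : ↥(P ⊔ Y)) ∈ Y.subgroupOf (P ⊔ Y) := Subgroup.mem_subgroupOf.mpr hy
    rw [h, Subgroup.mem_bot] at this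
    rw [Subgroup.mem_bot]
    exact congrArg Subtype.val this
  obtain ⟨z, hzN, hzc, hz1⟩ :=
    Cfsg.Agent.Lib.Helper32_PGroup.exists_mem_center_of_normal hR (Y.subgroupOf (P ⊔ Y)) hne
  refine ⟨z.1, Subgroup.mem_subgroupOf.mp hzN, fun h => hz1 (Subtype.ext h), ?_⟩
  rw [Subgroup.mem_centralizer_iff]
  intro x hx
  have := (Subgroup.mem_center_iff.mp hzc) ⟨x, Subgroup.mem_sup_left hx⟩
  exact congrArg Subtype.val this

/-- If the large `p`-subgroup `Q` normalizes the nontrivial `p`-subgroup `Y`, then `C(Y)`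
normalizes `Q`. -/
theorem IsLarge.centralizer_le_normalizer [Finite G] [Fact p.Prime] {Q Y : Subgroup G}
    (hQp : IsPGroup p Q) (hL : Cfsg.IsLarge Q) (hYp : IsPGroup p Y) (hY1 : Y ≠ ⊥)
    (hQY : Q ≤ Subgroup.normalizer (Y : Set G)) :
    Subgroup.centralizer (Y : Set G) ≤ Subgroup.normalizer (Q : Set G) := by
  obtain ⟨z, hzY, hz1, hzQ⟩ := exists_mem_centralizer_of_le_normalizer hYp hQp hQY hY1
  have h1 : Subgroup.zpowers z ≤ Subgroup.centralizer (Q : Set G) := Subgroup.zpowers_le.mpr hzQ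
  have h2 : Subgroup.zpowers z ≠ ⊥ := by
    intro h
    exact hz1 (Subgroup.zpowers_eq_bot.mp h)
  refine le_trans ?_ (hL.2 _ h1 h2)
  refine le_trans (Subgroup.centralizer_le ?_) (Subgroup.centralizer_le_normalizer _)
  exact Subgroup.zpowers_le.mpr hzY

end Cfsg.Agent.Lib.Helper47_Large2
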