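import Mathlib
import Cfsg.Agent.Lib.Helper13_LevDefs
import Cfsg.Agent.Lib.Helper47_Lev_Core

/-!
helper47: package LEV-TRANSV of helper13's S2522: a transvection (rank-one unipotent of determinant one) in
dimension at least three is a product of two regular unipotents.
-/

set_option autoImplicit false

namespace Cfsg.Agent.Lib.Helper47_Lev_TRANSV

open Module Cfsg.Agent.Lib.Helper13_LevDefs Cfsg.Agent.Lib.Helper47_Lev_Core

variable {K : Type*} [Field K] {V : Type*} [AddCommGroup V] [Module K V]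

/-- a basis whose first two vectors are prescribed -/
theorem exists_adapted_basis [FiniteDimensional K V] (m : ℕ) (hm : finrank K V = m + 2) (a w : V)
    (h : LinearIndependent K ![a, w]) :
    ∃ B : Basis (Fin (m + 2)) K V, B 0 = a ∧ B 1 = w := by
  have claim : ∀ k : ℕ, k ≤ m → ∃ f : Fin (k + 2) → V, LinearIndependent K f ∧ f 0 = a ∧ f 1 = w := by
    intro k
    induction k with
    | zero => intro _; exact ⟨![a, w], h, rfl, rfl⟩
    | succ k ih =>
      intro hk
      obtain ⟨f, hf, hf0, hf1⟩ := ih (by omega)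
      obtain ⟨x, hx⟩ := exists_linearIndependent_snoc_of_lt_finrank hf (by omega)
      refine ⟨Fin.snoc (α := fun _ => V) f x, hx, ?_, ?_⟩
      · have := Fin.snoc_castSucc (α := fun _ => V) x f 0
        rw [Fin.castSucc_zero] at this
        rw [this, hf0]
      · have := Fin.snoc_castSucc (α := fun _ => V) x f 1
        rw [Fin.castSucc_one] at this
        rw [this, hf1]
  obtain ⟨f, hf, hf0, hf1⟩ := claim m le_rfl
  have hcard : Fintype.card (Fin (m + 2)) = finrank K V := by rw [Fintype.card_fin, hm]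
  refine ⟨basisOfLinearIndependentOfCardEqFinrank hf hcard, ?_, ?_⟩
  · rw [coe_basisOfLinearIndependentOfCardEqFinrank]; exact hf0
  · rw [coe_basisOfLinearIndependentOfCardEqFinrank]; exact hf1

section shift
variable {n : ℕ} (B : Basis (Fin n) K V)

/-- the basis extended by zero to all natural indices -/
noncomputable def cvec (j : ℕ) : V := if h : j < n then B ⟨j, h⟩ else 0

/-- the downward shift `B i ↦ B (i - 1)`, `B 0 ↦ 0` -/
noncomputable def shiftEnd : V →ₗ[K] V :=
  B.constr K (fun i : Fin n => if (i : ℕ) = 0 then 0 else cvec B ((i : ℕ) - 1))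

theorem cvec_of_lt {j : ℕ} (h : j < n) : cvec B j = B ⟨j, h⟩ := by
  unfold cvec; rw [dif_pos h]

theorem shiftEnd_cvec {j : ℕ} (h : j < n) :
    shiftEnd B (cvec B j) = if j = 0 then 0 else cvec B (j - 1) := by
  rw [cvec_of_lt B h]
  unfold shiftEnd
  rw [Basis.constr_basis]

theorem shiftEnd_pow_cvec (k : ℕ) {j : ℕ} (h : j < n) :
    (shiftEnd B ^ k) (cvec B j) = if k ≤ j then cvec B (j - k) else 0 := by
  induction k with
  | zero => simp
  | succ k ih =>
    rw [pow_succ', Module.End.mul_apply, ih]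
    by_cases hk : k ≤ j
    · rw [if_pos hk, shiftEnd_cvec B (by omega)]
      by_cases hk' : j - k = 0
      · rw [if_pos hk', if_neg (by omega)]
      · rw [if_neg hk', if_pos (by omega)]
        congr 1
    · rw [if_neg hk, map_zero, if_neg (by omega)]

theorem shiftEnd_pow_eq_zero : shiftEnd B ^ n = 0 := by
  apply B.ext
  intro i
  rw [← cvec_of_lt B i.2, shiftEnd_pow_cvec B n i.2, if_neg (by have := i.2; omega)]
  rfl

end shift

/-- the inverse of a regular unipotent `1 + M` is regular unipotent -/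
theorem ru_inv [FiniteDimensional K V] (M u₁ : V →ₗ[K] V) (hM : RU (1 + M))
    (h1 : u₁ * (1 + M) = 1) (h2 : (1 + M) * u₁ = 1) : RU u₁ := by
  obtain ⟨hnil, hrk⟩ := hM
  rw [add_sub_cancel_left] at hnil hrk
  have e1 : u₁ - 1 = -(u₁ * M) := by
    have : u₁ + u₁ * M = 1 := by rw [← h1, mul_add, mul_one]
    rw [← this]; abel
  have e2 : M * u₁ = u₁ * M := by
    have ha : u₁ + u₁ * M = 1 := by rw [← h1, mul_add, mul_one]
    have hb : u₁ + M * u₁ = 1 := by rw [← h2, add_mul, one_mul]
    have := ha.trans hb.symm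
    exact (add_left_cancel this).symm
  constructor
  · rw [e1]
    apply IsNilpotent.neg
    exact Commute.isNilpotent_mul_left (show Commute u₁ M from e2.symm) hnil
  · rw [e1, LinearMap.range_neg]
    have hinj : LinearMap.ker u₁ = ⊥ := by
      rw [LinearMap.ker_eq_bot']
      intro x hx
      have : ((1 + M) * u₁) x = x := by rw [h2]; rfl
      rw [Module.End.mul_apply, hx, map_zero] at this
      exact this.symm
    have hker : LinearMap.ker (u₁ * M) = LinearMap.ker M := by
      rw [Module.End.mul_eq_comp]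
      exact LinearMap.ker_comp_of_ker_eq_bot M hinj
    have r1 := LinearMap.finrank_range_add_finrank_ker (u₁ * M)
    have r2 := LinearMap.finrank_range_add_finrank_ker M
    rw [hker] at r1
    omega

/-- TRANSV -/
theorem transv [FiniteDimensional K V] (hn : 3 ≤ finrank K V) (g : V →ₗ[K] V)
    (hdet : LinearMap.det g = 1) (hr : finrank K (LinearMap.range (g - 1)) = 1) :
    ∃ u₁ u₂ : V →ₗ[K] V, RU u₁ ∧ RU u₂ ∧ g = u₁ * u₂ := by
  classical
  -- rank one decomposition `g - 1 = a ⊗ φ`
  obtain ⟨a', ha'0, ha'⟩ := finrank_eq_one_iff'.1 hr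
  set a : V := (a' : V) with ha
  have ha0 : a ≠ 0 := fun h0 => ha'0 (Subtype.ext h0)
  obtain ⟨ψ, hψ⟩ : ∃ ψ : Dual K V, ψ a ≠ 0 := by
    by_contra hcon
    push Not at hcon
    exact ha0 ((Module.forall_dual_apply_eq_zero_iff K a).1 hcon)
  let φ : Dual K V := (ψ a)⁻¹ • (ψ ∘ₗ (g - 1))
  have hN : ∀ x, (g - 1) x = φ x • a := by
    intro x
    obtain ⟨c, hc⟩ := ha' ⟨(g - 1) x, LinearMap.mem_range_self _ x⟩
    have hc' : c • a = (g - 1) x := congrArg Subtype.val hc
    have h1 : φ x = c := by
      show (ψ a)⁻¹ • (ψ ((g - 1) x)) = c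
      rw [← hc', map_smul, smul_eq_mul, smul_eq_mul]
      field_simp
    rw [h1, hc']
  let T : V →ₗ[K] V := φ.smulRight a
  have hT : g - 1 = T := by
    apply LinearMap.ext
    intro x
    rw [hN x, LinearMap.smulRight_apply]
  have hg : g = 1 + T := by rw [← hT]; abel
  have hφa : φ a = 0 := by
    have h1 : g = LinearMap.transvection φ a := by
      apply LinearMap.ext
      intro x
      rw [LinearMap.transvection.apply, hg, LinearMap.add_apply, Module.End.one_apply,
        LinearMap.smulRight_apply]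
    rw [h1, LinearMap.transvection.det] at hdet
    exact add_eq_left.1 hdet
  have hφ0 : φ ≠ 0 := by
    intro h0
    have h1 : g - 1 = 0 := by
      apply LinearMap.ext
      intro x
      rw [hN x, h0, LinearMap.zero_apply, zero_smul, LinearMap.zero_apply]
    rw [h1, LinearMap.range_zero, finrank_bot] at hr
    exact zero_ne_one hr
  -- a second vector of `ker φ`
  have hkerdim : finrank K (LinearMap.ker φ) + 1 = finrank K V := by
    have h1 := LinearMap.finrank_range_add_finrank_ker φ
    have h2 : LinearMap.range φ = ⊤ := LinearMap.range_eq_top.2 (LinearMap.surjective hφ0)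
    rw [h2, finrank_top, finrank_self] at h1
    omega
  have haW : (⟨a, LinearMap.mem_ker.2 hφa⟩ : LinearMap.ker φ) ≠ 0 :=
    fun h0 => ha0 (congrArg Subtype.val h0)
  obtain ⟨w', hw'⟩ := exists_linearIndependent_pair_of_one_lt_finrank
    (show 1 < finrank K (LinearMap.ker φ) by omega) haW
  have hpair : LinearIndependent K ![a, (w' : V)] := by
    have h1 := hw'.map' (LinearMap.ker φ).subtype (Submodule.ker_subtype _)
    have h2 : ((LinearMap.ker φ).subtype ∘ ![(⟨a, LinearMap.mem_ker.2 hφa⟩ : LinearMap.ker φ), w']) =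
        ![a, (w' : V)] := by
      funext i
      fin_cases i <;> rfl
    rwa [h2] at h1
  obtain ⟨m, hm⟩ : ∃ m, finrank K V = m + 2 := ⟨finrank K V - 2, by omega⟩
  obtain ⟨B, hB0, hB1⟩ := exists_adapted_basis m hm a (w' : V) hpair
  have hm1 : 1 ≤ m := by omega
  set M : V →ₗ[K] V := shiftEnd B with hMdef
  have hMn : M ^ (m + 2) = 0 := shiftEnd_pow_eq_zero B
  have hMnil : IsNilpotent M := ⟨m + 2, hMn⟩
  have hc0 : cvec B 0 = a := by rw [cvec_of_lt B (by omega : 0 < m + 2)]; exact hB0
  have hc1 : cvec B 1 = (w' : V) := by rw [cvec_of_lt B (by omega : 1 < m + 2)]; exact hB1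
  set e : V := cvec B (m + 1) with he
  have hMe1 : (M ^ (m + 1)) e = a := by
    rw [he, hMdef, shiftEnd_pow_cvec B (m + 1) (by omega : m + 1 < m + 2), if_pos le_rfl,
      Nat.sub_self, hc0]
  have hMe2 : (M ^ m) e = (w' : V) := by
    rw [he, hMdef, shiftEnd_pow_cvec B m (by omega : m + 1 < m + 2), if_pos (by omega)]
    have : m + 1 - m = 1 := by omega
    rw [this, hc1]
  have hMa : M a = 0 := by
    rw [← hc0, hMdef, shiftEnd_cvec B (by omega : 0 < m + 2), if_pos rfl]
  -- `RU (1 + M)`
  have hRU1 : RU (1 + M) := by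
    apply ru_of_cyclic M hMnil e
    rw [hm]
    have : m + 2 - 1 = m + 1 := by omega
    rw [this, hMe1]
    exact ha0
  -- the inverse
  have hunit : IsUnit (1 + M) := hMnil.isUnit_one_add
  obtain ⟨U, hU⟩ := hunit
  have hU1 : ((U⁻¹ : (V →ₗ[K] V)ˣ) : V →ₗ[K] V) * (1 + M) = 1 := by rw [← hU]; exact U.inv_mul
  have hU2 : (1 + M) * ((U⁻¹ : (V →ₗ[K] V)ˣ) : V →ₗ[K] V) = 1 := by rw [← hU]; exact U.mul_inv
  -- the second factor
  have hMT : M * T = 0 := by
    apply LinearMap.ext
    intro x
    rw [Module.End.mul_apply, LinearMap.smulRight_apply, map_smul, hMa, smul_zero]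
    rfl
  have hTT : T * T = 0 := by
    apply LinearMap.ext
    intro x
    rw [Module.End.mul_apply, LinearMap.smulRight_apply, LinearMap.smulRight_apply, map_smul, hφa,
      smul_zero, zero_smul]
    rfl
  have hpow : ∀ k : ℕ, (M + T) ^ (k + 1) = M ^ (k + 1) + T * M ^ k := by
    intro k
    induction k with
    | zero => simp
    | succ k ih =>
      rw [pow_succ' (M + T) (k + 1), ih, add_mul, mul_add, mul_add, ← mul_assoc M T, hMT, zero_mul,
        ← mul_assoc T T, hTT, zero_mul, add_zero, add_zero, ← pow_succ' M (k + 1),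
        pow_succ' M k]
  have hM'nil : IsNilpotent (M + T) := by
    refine ⟨m + 2 + 1, ?_⟩
    rw [hpow (m + 2), pow_succ, hMn, zero_mul, mul_zero, add_zero]
  have hRU2 : RU (1 + (M + T)) := by
    apply ru_of_cyclic (M + T) hM'nil e
    rw [hm]
    have h1 : m + 2 - 1 = m + 1 := by omega
    rw [h1, hpow m, LinearMap.add_apply, Module.End.mul_apply, hMe1, hMe2,
      LinearMap.smulRight_apply]
    have hw0 : φ (w' : V) = 0 := w'.2
    rw [hw0, zero_smul, add_zero]
    exact ha0
  refine ⟨((U⁻¹ : (V →ₗ[K] V)ˣ) : V →ₗ[K] V), 1 + (M + T), ru_inv M _ hRU1 hU1 hU2, hRU2, ?_⟩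
  have h3 : 1 + (M + T) = (1 + M) * g := by
    rw [hg, add_mul, one_mul, mul_add, mul_one, hMT, add_zero]
    abel
  rw [h3, ← mul_assoc, hU1, one_mul]

end Cfsg.Agent.Lib.Helper47_Lev_TRANSV
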