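import Mathlib
import Cfsg.Agent.Lib.Helper44_M3MDefs
import Cfsg.Agent.Lib.Helper55_MI3_DICHG

set_option autoImplicit false

/-!
# S2147 (q = 3 slice) package M3M-TRICHG (architect helper44): from one singular vector to all, three outcomes

Adaptation of `Helper55_MI3_DICHG.dichotomy_global` (helper55) by helper47: the third alternative (a regular point for
`v₀`, `|Ω| + 1 = N`) is transported by conjugation in the same way.
-/

namespace Cfsg.Agent.Lib.Helper47_M3M_TRICHG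

open Module Cfsg.Agent.Lib.Helper14_OmegaSimple Cfsg.Agent.Lib.Helper22_MI2Defs
  Cfsg.Agent.Lib.Helper44_MI3Defs Cfsg.Agent.Lib.Helper44_M3MDefs Cfsg.Agent.Lib.Helper94_OrthSmall
  Cfsg.Agent.Lib.Helper55_MI3_DICHG

variable {F V : Type*} [Field F] [AddCommGroup V] [Module F V]

section action

variable {X : Type*} [MulAction (V ≃ₗ[F] V) X]

theorem trichotomy_global [Finite F] [FiniteDimensional F V] (Q : QuadraticForm F V)
    (hQ : (QuadraticMap.polarBilin Q).Nondegenerate) (hdim : 5 ≤ finrank F V)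
    (Ω : Set X) (hΩ : IsOrbit Q Ω) {v₀ : V} (hv₀ : v₀ ≠ 0) (hQv₀ : Q v₀ = 0) (N : ℕ)
    (hloc : (∀ ω ∈ Ω, ∃ lam : V, ∀ w : V, QuadraticMap.polar (⇑Q) v₀ w = 0 →
        QuadraticMap.polar (⇑Q) lam w = 0 → E Q v₀ w • ω = ω) ∨
      (∀ ω ∈ Ω, (∀ w : V, QuadraticMap.polar (⇑Q) v₀ w = 0 → E Q v₀ w • ω = ω) ∨
        (∀ w : V, QuadraticMap.polar (⇑Q) v₀ w = 0 → E Q v₀ w • ω = ω →
          w ∈ Submodule.span F {v₀})) ∨
      (Ω.ncard + 1 = N ∧ ∃ ω ∈ Ω, ∀ w : V, QuadraticMap.polar (⇑Q) v₀ w = 0 →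
        E Q v₀ w • ω = ω → w ∈ Submodule.span F {v₀})) :
    AllSmall Q Ω ∨ FixOrReg3 Q Ω ∨
      (Ω.ncard + 1 = N ∧ ∀ u : V, u ≠ 0 → Q u = 0 → ∃ ω ∈ Ω, ∀ w : V,
        QuadraticMap.polar (⇑Q) u w = 0 → E Q u w • ω = ω → w ∈ Submodule.span F {u}) := by
  have key : ∀ v : V, v ≠ 0 → Q v = 0 → ∃ g ∈ T Q, ∃ c : F, c ≠ 0 ∧ g v₀ = c • v :=
    fun v hv hQv => exists_mem_T_map Q hQ hdim hv₀ hQv₀ hv hQv
  rcases hloc with hL | hR | hE
  · left
    intro v hv hQv ω hω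
    obtain ⟨g, hgT, c, hc, hgv⟩ := key v hv hQv
    have hgO := T_le_oG Q hgT
    have hω' : g⁻¹ • ω ∈ Ω := hΩ.inv g⁻¹ ((T Q).inv_mem hgT) ω hω
    obtain ⟨lam₀, hlam₀⟩ := hL _ hω'
    refine ⟨g lam₀, ?_⟩
    intro w hvw hlw
    obtain ⟨h1, h2⟩ := transfer Q hgO hc hgv hQv₀ hQv hvw
    have h3 : QuadraticMap.polar (⇑Q) lam₀ (c⁻¹ • g⁻¹ w) = 0 := by
      rw [QuadraticMap.polar_smul_right, polar_inv_right Q hgO, hlw, smul_zero]
    rw [h2, mul_smul, mul_smul, hlam₀ _ h1 h3, smul_inv_smul]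
  · right; left
    intro v hv hQv ω hω
    obtain ⟨g, hgT, c, hc, hgv⟩ := key v hv hQv
    have hgO := T_le_oG Q hgT
    have hω' : g⁻¹ • ω ∈ Ω := hΩ.inv g⁻¹ ((T Q).inv_mem hgT) ω hω
    rcases hR _ hω' with hfix | hreg
    · left
      intro w hvw
      obtain ⟨h1, h2⟩ := transfer Q hgO hc hgv hQv₀ hQv hvw
      rw [h2, mul_smul, mul_smul, hfix _ h1, smul_inv_smul]
    · right
      intro w hvw hfix
      obtain ⟨h1, h2⟩ := transfer Q hgO hc hgv hQv₀ hQv hvw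
      have h3 : E Q v₀ (c⁻¹ • g⁻¹ w) • g⁻¹ • ω = g⁻¹ • ω := by
        have h4 : E Q v₀ (c⁻¹ • g⁻¹ w) = g⁻¹ * E Q v w * g := by
          rw [h2]; group
        rw [h4, mul_smul, mul_smul, smul_inv_smul, hfix]
      have h5 := hreg _ h1 h3
      obtain ⟨a, ha⟩ := Submodule.mem_span_singleton.mp h5
      rw [Submodule.mem_span_singleton]
      refine ⟨c * a * c, ?_⟩
      have h6 : w = c • g (c⁻¹ • g⁻¹ w) := by
        rw [map_smul, apply_inv_apply, smul_smul, mul_inv_cancel₀ hc, one_smul]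
      rw [h6, ← ha, map_smul, hgv, smul_smul, smul_smul]
  · right; right
    obtain ⟨hN, ω₀, hω₀, hreg⟩ := hE
    refine ⟨hN, ?_⟩
    intro u hu hQu
    obtain ⟨g, hgT, c, hc, hgv⟩ := key u hu hQu
    have hgO := T_le_oG Q hgT
    refine ⟨g • ω₀, hΩ.inv g hgT ω₀ hω₀, ?_⟩
    intro w hvw hfix
    obtain ⟨h1, h2⟩ := transfer Q hgO hc hgv hQv₀ hQu hvw
    have h3 : E Q v₀ (c⁻¹ • g⁻¹ w) • ω₀ = ω₀ := by
      have h4 : E Q v₀ (c⁻¹ • g⁻¹ w) = g⁻¹ * E Q u w * g := by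
        rw [h2]; group
      rw [h4, mul_smul, mul_smul, hfix, inv_smul_smul]
    have h5 := hreg _ h1 h3
    obtain ⟨a, ha⟩ := Submodule.mem_span_singleton.mp h5
    rw [Submodule.mem_span_singleton]
    refine ⟨c * a * c, ?_⟩
    have h6 : w = c • g (c⁻¹ • g⁻¹ w) := by
      rw [map_smul, apply_inv_apply, smul_smul, mul_inv_cancel₀ hc, one_smul]
    rw [h6, ← ha, map_smul, hgv, smul_smul, smul_smul]

end action

end Cfsg.Agent.Lib.Helper47_M3M_TRICHG
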