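import Mathlib
import Cfsg.Agent.Lib.Helper73_MGDefs

/-!
S3620 (Marggraf), market `mg_packages` (architect helper73), package MG-COATOM (helper47):
for `n = 2m + 1`, a Jordan set `Γ` of size `m > 1` and a 2-transitive `G`, a minimal `D ⊆ Γᶜ` with
`Γ ∪ D` a Jordan set (`|D| < m`) is a block for the pointwise stabiliser of `Γᶜ ∖ D`, it is a Jordan
set of the setwise stabiliser of `Γᶜ` acting on `Γᶜ`, and `2 |D| ≤ m`.
Self-contained (local copies of MG-UNION / MG-SMUL).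
-/

set_option autoImplicit false

namespace Cfsg.Agent.Lib.Helper47_MG_COATOM

open MulAction Equiv Cfsg.Agent.Lib.Helper73_MG
open scoped Pointwise

universe u v
variable {G : Type u} {Ω : Type v} [Group G] [MulAction G Ω]

/-- local copy of MG-UNION -/
theorem js_union' {S T : Set Ω} (hS : JS G S) (hT : JS G T) (h : (S ∩ T).Nonempty) :
    JS G (S ∪ T) := by
  obtain ⟨c, hcS, hcT⟩ := h
  have key : ∀ x ∈ S ∪ T, ∃ g : G, (∀ z, z ∉ S ∪ T → g • z = z) ∧ g • x = c := by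
    intro x hx
    rcases hx with hx | hx
    · obtain ⟨g, hg, hgx⟩ := hS x hx c hcS
      exact ⟨g, fun z hz => hg z (fun h' => hz (Or.inl h')), hgx⟩
    · obtain ⟨g, hg, hgx⟩ := hT x hx c hcT
      exact ⟨g, fun z hz => hg z (fun h' => hz (Or.inr h')), hgx⟩
  intro x hx y hy
  obtain ⟨gx, hgx, hgxc⟩ := key x hx
  obtain ⟨gy, hgy, hgyc⟩ := key y hy
  refine ⟨gy⁻¹ * gx, ?_, ?_⟩
  · intro z hz
    rw [mul_smul, hgx z hz, inv_smul_eq_iff, hgy z hz]
  · rw [mul_smul, hgxc, inv_smul_eq_iff, hgyc]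

/-- local copy of MG-SMUL -/
theorem js_smul' {S : Set Ω} (hS : JS G S) (g : G) : JS G (g • S) := by
  intro x hx y hy
  rw [Set.mem_smul_set_iff_inv_smul_mem] at hx hy
  obtain ⟨k, hk, hkx⟩ := hS _ hx _ hy
  refine ⟨g * k * g⁻¹, ?_, ?_⟩
  · intro z hz
    have hz' : g⁻¹ • z ∉ S := fun h' => hz (Set.mem_smul_set_iff_inv_smul_mem.mpr h')
    rw [mul_smul, mul_smul, hk _ hz', smul_inv_smul]
  · rw [mul_smul, mul_smul, hkx, smul_inv_smul]

/-- an element fixing the complement of `S` pointwise stabilises `S` -/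
theorem smul_eq_of_fix {S : Set Ω} {h : G} (hfix : ∀ z, z ∉ S → h • z = z) : h • S = S := by
  have hsub : ∀ k : G, (∀ z, z ∉ S → k • z = z) → ∀ x ∈ S, k • x ∈ S := by
    intro k hk x hx
    by_contra hkx
    have := hk _ hkx
    rw [smul_left_cancel_iff] at this
    exact hkx (by rw [this]; exact hx)
  have hinv : ∀ z, z ∉ S → h⁻¹ • z = z := by
    intro z hz
    rw [inv_smul_eq_iff, hfix z hz]
  apply Set.Subset.antisymm
  · rintro _ ⟨x, hx, rfl⟩
    exact hsub h hfix x hx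
  · intro x hx
    rw [Set.mem_smul_set_iff_inv_smul_mem]
    exact hsub h⁻¹ hinv x hx

/-- MG-COATOM -/
theorem exists_coatom [Finite Ω] (Γ : Set Ω) (h1 : 1 < Γ.ncard)
    (hn : Nat.card Ω = 2 * Γ.ncard + 1)
    (hΓ : JS G Γ) (h2 : IsMultiplyPretransitive G Ω 2) :
    ∃ D : Set Ω, D ⊆ Γᶜ ∧ D.Nonempty ∧ 2 * D.ncard ≤ Γ.ncard ∧ JS G (Γ ∪ D) ∧
      ∀ p ∈ D, ∀ q ∈ D, ∃ g : G, g • Γᶜ = Γᶜ ∧ (∀ z ∈ Γᶜ, z ∉ D → g • z = z) ∧ g • p = q := by
  classical
  have hcompl : Γ.ncard + Γᶜ.ncard = Nat.card Ω := Set.ncard_add_ncard_compl Γ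
  -- (i) a first candidate
  obtain ⟨p, q, hp, hq, hpq⟩ := (Set.one_lt_ncard_iff (Set.toFinite Γ)).mp h1
  have hΔne : Γᶜ.Nonempty := by
    rw [← Set.ncard_pos (Set.toFinite _)]
    omega
  obtain ⟨r, hr⟩ := hΔne
  have hpr : p ≠ r := fun h => hr (h ▸ hp)
  obtain ⟨g₀, hg₀p, hg₀q⟩ := (is_two_pretransitive_iff.mp h2) hpq hpr
  -- the family of candidates
  obtain ⟨𝔇, h𝔇⟩ : ∃ 𝔇 : Set (Set Ω), 𝔇 =
      {D | D ⊆ Γᶜ ∧ D.Nonempty ∧ JS G (Γ ∪ D) ∧ D.ncard < Γ.ncard} := ⟨_, rfl⟩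
  have hmem𝔇 : ∀ D, D ∈ 𝔇 ↔ D ⊆ Γᶜ ∧ D.Nonempty ∧ JS G (Γ ∪ D) ∧ D.ncard < Γ.ncard := by
    intro D
    rw [h𝔇]
    rfl
  have hD₀ : g₀ • Γ \ Γ ∈ 𝔇 := by
    rw [hmem𝔇]
    refine ⟨fun x hx => hx.2, ⟨r, ?_, hr⟩, ?_, ?_⟩
    · rw [← hg₀q]
      exact Set.smul_mem_smul_set hq
    · rw [Set.union_sdiff_self]
      refine js_union' hΓ (js_smul' hΓ g₀) ⟨p, hp, ?_⟩
      rw [← hg₀p]
      exact Set.smul_mem_smul_set hp
    · have hss : g₀ • Γ \ Γ ⊂ g₀ • Γ := by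
        refine ⟨Set.sdiff_subset, fun hsub => ?_⟩
        have hpm : p ∈ g₀ • Γ := by
          rw [← hg₀p]
          exact Set.smul_mem_smul_set hp
        exact (hsub hpm).2 hp
      have := Set.ncard_lt_ncard hss (Set.toFinite _)
      rwa [Set.ncard_smul_set] at this
  obtain ⟨D, hD𝔇, hDmin⟩ := Set.exists_min_image 𝔇 Set.ncard (Set.toFinite 𝔇) ⟨_, hD₀⟩
  obtain ⟨hDΔ, hDne, hDJ, hDlt⟩ := (hmem𝔇 D).mp hD𝔇
  have hdisj : Disjoint Γ D := Set.disjoint_left.mpr (fun x hx hxD => hDΔ hxD hx)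
  have hScard : (Γ ∪ D).ncard = Γ.ncard + D.ncard := Set.ncard_union_eq hdisj
  have hSdiff : (Γ ∪ D) \ Γ = D := by
    rw [Set.union_sdiff_left]
    exact hdisj.symm.sdiff_eq_left
  -- (iii) the block property
  have hblock : ∀ h : G, (∀ z, z ∉ Γ ∪ D → h • z = z) → h • D = D ∨ Disjoint (h • D) D := by
    intro h hfix
    have hS : h • (Γ ∪ D) = Γ ∪ D := smul_eq_of_fix hfix
    have hΓS : h • Γ ⊆ Γ ∪ D := by
      rw [← hS]
      exact Set.smul_set_mono Set.subset_union_left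
    have hmeet : (Γ ∩ h • Γ).Nonempty := by
      by_contra hcon
      rw [Set.not_nonempty_iff_eq_empty, ← Set.disjoint_iff_inter_eq_empty] at hcon
      have h3 : (Γ ∪ h • Γ).ncard = Γ.ncard + (h • Γ).ncard := Set.ncard_union_eq hcon
      have h4 : (Γ ∪ h • Γ).ncard ≤ (Γ ∪ D).ncard :=
        Set.ncard_le_ncard (Set.union_subset Set.subset_union_left hΓS) (Set.toFinite _)
      rw [Set.ncard_smul_set] at h3
      omega
    have hJ' : JS G (Γ ∪ (h • Γ \ Γ)) := by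
      rw [Set.union_sdiff_self]
      exact js_union' hΓ (js_smul' hΓ h) hmeet
    have hD'D : h • Γ \ Γ ⊆ D := by
      intro x hx
      rcases hΓS hx.1 with h' | h'
      · exact absurd h' hx.2
      · exact h'
    by_cases hemp : h • Γ \ Γ = ∅
    · left
      have hsub : h • Γ ⊆ Γ := Set.sdiff_eq_empty.mp hemp
      have heq : h • Γ = Γ :=
        Set.eq_of_subset_of_ncard_le hsub (by rw [Set.ncard_smul_set]) (Set.toFinite _)
      rw [← hSdiff, Set.smul_set_sdiff, hS, heq]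
    · right
      have hne' : (h • Γ \ Γ).Nonempty := Set.nonempty_iff_ne_empty.mpr hemp
      have hcard : (h • Γ \ Γ).ncard ≤ D.ncard := Set.ncard_le_ncard hD'D (Set.toFinite _)
      have hin : h • Γ \ Γ ∈ 𝔇 := by
        rw [hmem𝔇]
        exact ⟨hD'D.trans hDΔ, hne', hJ', lt_of_le_of_lt hcard hDlt⟩
      have heq : h • Γ \ Γ = D :=
        Set.eq_of_subset_of_ncard_le hD'D (hDmin _ hin) (Set.toFinite _)
      have hDsub : D ⊆ h • Γ := by
        rw [← heq]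
        exact Set.sdiff_subset
      have h5 : Disjoint (h • D) (h • Γ) := Set.disjoint_smul_set.mpr hdisj.symm
      exact h5.mono_right hDsub
  refine ⟨D, hDΔ, hDne, ?_, hDJ, ?_⟩
  · -- (v) `2 |D| ≤ m`
    obtain ⟨p₀, hp₀⟩ := hDne
    have hA : ∀ γ ∈ Γ, ∀ h : G, (∀ z, z ∉ Γ ∪ D → h • z = z) → h • p₀ = γ → h • D ⊆ Γ := by
      intro γ hγ h hfix hhp
      have hγhD : γ ∈ h • D := by
        rw [← hhp]
        exact Set.smul_mem_smul_set hp₀
      have hγD : γ ∉ D := fun h' => hDΔ h' hγ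
      rcases hblock h hfix with h' | h'
      · exact absurd (h' ▸ hγhD) hγD
      · have hS : h • (Γ ∪ D) = Γ ∪ D := smul_eq_of_fix hfix
        intro x hx
        have hxS : x ∈ Γ ∪ D := by
          rw [← hS]
          exact Set.smul_set_mono Set.subset_union_right hx
        rcases hxS with h'' | h''
        · exact h''
        · exact absurd h'' (Set.disjoint_left.mp h' hx)
    have hp₀S : p₀ ∈ Γ ∪ D := Or.inr hp₀
    obtain ⟨h₁, hfix₁, hh₁⟩ := hDJ p₀ hp₀S p (Or.inl hp)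
    have hsub₁ : h₁ • D ⊆ Γ := hA p hp h₁ hfix₁ hh₁
    have hlt₁ : (h₁ • D).ncard < Γ.ncard := by
      rw [Set.ncard_smul_set]
      exact hDlt
    obtain ⟨γ₂, hγ₂, hγ₂n⟩ := Set.exists_mem_notMem_of_ncard_lt_ncard hlt₁ (Set.toFinite _)
    obtain ⟨h₂, hfix₂, hh₂⟩ := hDJ p₀ hp₀S γ₂ (Or.inl hγ₂)
    have hsub₂ : h₂ • D ⊆ Γ := hA γ₂ hγ₂ h₂ hfix₂ hh₂
    have hdis : Disjoint (h₁ • D) (h₂ • D) := by
      rw [Set.disjoint_left]
      intro x hx₁ hx₂
      have hfixk : ∀ z, z ∉ Γ ∪ D → (h₁⁻¹ * h₂) • z = z := by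
        intro z hz
        rw [mul_smul, hfix₂ z hz, inv_smul_eq_iff, hfix₁ z hz]
      have hnd : ¬ Disjoint ((h₁⁻¹ * h₂) • D) D := by
        rw [Set.not_disjoint_iff]
        refine ⟨h₁⁻¹ • x, ?_, ?_⟩
        · rw [mul_smul]
          exact Set.smul_mem_smul_set hx₂
        · exact Set.mem_smul_set_iff_inv_smul_mem.mp hx₁
      rcases hblock _ hfixk with h' | h'
      · have h6 : h₂ • D = h₁ • D := by
          calc h₂ • D = (h₁ * (h₁⁻¹ * h₂)) • D := by rw [mul_inv_cancel_left]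
            _ = h₁ • ((h₁⁻¹ * h₂) • D) := mul_smul _ _ _
            _ = h₁ • D := by rw [h']
        apply hγ₂n
        rw [← h6, ← hh₂]
        exact Set.smul_mem_smul_set hp₀
      · exact hnd h'
    have h7 : (h₁ • D ∪ h₂ • D).ncard = (h₁ • D).ncard + (h₂ • D).ncard :=
      Set.ncard_union_eq hdis
    have h8 : (h₁ • D ∪ h₂ • D).ncard ≤ Γ.ncard :=
      Set.ncard_le_ncard (Set.union_subset hsub₁ hsub₂) (Set.toFinite _)
    rw [Set.ncard_smul_set, Set.ncard_smul_set] at h7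
    omega
  · -- (iv)
    intro p' hp' q' hq'
    obtain ⟨h, hfix, hhp⟩ := hDJ p' (Or.inr hp') q' (Or.inr hq')
    have hq'hD : q' ∈ h • D := by
      rw [← hhp]
      exact Set.smul_mem_smul_set hp'
    have hDD : h • D = D := by
      rcases hblock h hfix with h' | h'
      · exact h'
      · exact absurd hq' (Set.disjoint_left.mp h' hq'hD)
    have hfixΔ : ∀ z ∈ Γᶜ, z ∉ D → h • z = z := by
      intro z hz hzD
      apply hfix
      rintro (h' | h')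
      · exact hz h'
      · exact hzD h'
    refine ⟨h, ?_, hfixΔ, hhp⟩
    have hS : h • (Γ ∪ D) = Γ ∪ D := smul_eq_of_fix hfix
    have hΓΓ : h • Γ = Γ := by
      have : h • ((Γ ∪ D) \ D) = (Γ ∪ D) \ D := by
        rw [Set.smul_set_sdiff, hS, hDD]
      have hΓeq : (Γ ∪ D) \ D = Γ := by
        rw [Set.union_sdiff_right]
        exact hdisj.sdiff_eq_left
      rwa [hΓeq] at this
    rw [Set.smul_set_compl, hΓΓ]

end Cfsg.Agent.Lib.Helper47_MG_COATOM
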