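import Mathlib
import Cfsg.Agent.Lib.Helper66_MI_SpDefs
import Cfsg.Agent.Lib.Helper94_MI_SpDecomp
import Cfsg.Agent.Lib.Helper94_MI_SpKiso
import Cfsg.Agent.Lib.Helper10_MISp_KTRANS
import Cfsg.Agent.Lib.Helper10_MISp_GV
import Cfsg.Agent.Lib.Helper32_MISp_L1

set_option autoImplicit false

/-!
# S2141 package O5 (helper47): `Sp_4(3)`, Case II

`caseII_23_of` takes the two needed conclusions of package LOCAL (`L0` and `card_Dbar`, at the given
`v, v', H`) as hypotheses: a subgroup `H` of `Sp_4(3)` containing no root group has index `≥ 27`.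
`Z = 0` (`q = 3` is prime), `Bbar` is totally isotropic in the plane `W`, so `Bbar = 0` or
`Bbar ⊆ F w₀`; in the second case `Dbar` stabilises the line `F w₀` and `K` moves `w₀` to the four
lines of `W`, so `4 |Dbar| ≤ |L|`.
-/

namespace Cfsg.Agent.Lib.Helper47_MISp_O5

open Cfsg.Agent.Lib.Helper94_Symp Cfsg.Agent.Lib.Helper94_SympTI
  Cfsg.Agent.Lib.Helper94_SympPerfect Cfsg.Agent.Lib.Helper66_MI_SpDefs
  Cfsg.Agent.Lib.Helper94_MI_SpDecomp Cfsg.Agent.Lib.Helper94_MI_SpKiso
  Cfsg.Agent.Lib.Helper10_MISp_KTRANS Cfsg.Agent.Lib.Helper10_MISp_GV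
  Cfsg.Agent.Lib.Helper32_MISp_L1

/-- `|ι| |D| ≤ |K|` if the `k i ∈ K` lie in pairwise different left cosets of `D ≤ K` -/
theorem card_mul_le_of_reps {G ι : Type*} [Group G] [Finite ι] (K D : Subgroup G) [Finite K]
    (hD : D ≤ K) (k : ι → G) (hk : ∀ i, k i ∈ K)
    (hinj : ∀ i j, (k i)⁻¹ * k j ∈ D → i = j) :
    Nat.card ι * Nat.card D ≤ Nat.card K := by
  rw [← Nat.card_prod]
  apply Nat.card_le_card_of_injective
    (fun p : ι × D => (⟨k p.1 * p.2, K.mul_mem (hk p.1) (hD p.2.2)⟩ : K))
  rintro ⟨i, d⟩ ⟨j, d'⟩ h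
  have h1 : k i * (d : G) = k j * (d' : G) := congrArg Subtype.val h
  have h2 : (k i)⁻¹ * k j = (d : G) * (d' : G)⁻¹ := by
    have h3 : k j = k i * (d : G) * (d' : G)⁻¹ := by rw [h1]; group
    rw [h3]; group
  have hij : i = j := hinj i j (by rw [h2]; exact D.mul_mem d.2 (D.inv_mem d'.2))
  subst hij
  have h4 : (d : G) = d' := mul_left_cancel h1
  exact Prod.ext rfl (Subtype.ext h4)

variable {F V : Type*} [Field F] [AddCommGroup V] [Module F V]
variable (B : LinearMap.BilinForm F V)

theorem caseII_23_of [Finite F] [FiniteDimensional F V] (S : Setting B 2 3) {v v' : V}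
    (hvv : B v v' = 1) {H : Subgroup (V ≃ₗ[F] V)}
    (hNR : NoRoot B S.alt H)
    (hL0 : Nat.card (Wsub B v v') * Nat.card F * ((Nat.card F - 1) * Nat.card (Kv B v v')) ≤
      H.relIndex (isoGroup B) *
        (Nat.card (Bbar B S.alt H v v') * Nat.card (Zv B S.alt H v) * Nat.card (T1 B H v v') *
          Nat.card (KH B H v v')))
    (hDbar : Nat.card (Dbar B H v v') = Nat.card (T1 B H v v') * Nat.card (KH B H v v')) :
    27 ≤ H.relIndex (isoGroup B) := by
  classical
  have hB : B.IsAlt := S.alt
  have hN : B.Nondegenerate := S.nondeg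
  have hq : Nat.card F = 3 := S.card
  have hdim : Module.finrank F V = 4 := S.dim
  have hv0 : v ≠ 0 := by
    rintro rfl
    rw [map_zero, LinearMap.zero_apply] at hvv
    exact zero_ne_one hvv
  have hFt : Fintype F := Fintype.ofFinite F
  have h3 : (3 : F) = 0 := by
    have h := Nat.cast_card_eq_zero F
    rw [← Nat.card_eq_fintype_card, hq] at h
    exact_mod_cast h
  have h2 : (2 : F) ≠ 0 := by
    intro h
    have : (1 : F) = 0 := by linear_combination h3 - h
    exact one_ne_zero this
  have hVfin : Finite V := Module.finite_of_finite F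
  have hGfin : Finite (V ≃ₗ[F] V) :=
    Finite.of_injective (fun e : V ≃ₗ[F] V => (e : V → V)) DFunLike.coe_injective
  -- `Z = 0`
  have hZ : Zv B hB H v = ⊥ := by
    have : Fact (Nat.card F).Prime := ⟨by rw [hq]; norm_num⟩
    rcases AddSubgroup.eq_bot_or_eq_top_of_prime_card (Zv B hB H v) with h | h
    · exact h
    · exfalso
      apply hNR v hv0
      rintro g ⟨t, rfl⟩
      have : t ∈ Zv B hB H v := by rw [h]; trivial
      exact this
  have hZc : Nat.card (Zv B hB H v) = 1 := by rw [hZ]; exact AddSubgroup.card_bot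
  -- `|W| = 9`
  have hfW : Module.finrank F (Wsub B v v') = 2 := by
    have := finrank_Wsub_add_two B hB hvv
    omega
  have hWc : Nat.card (Wsub B v v') = 9 := by
    rw [Module.natCard_eq_pow_finrank (K := F), hq, hfW]; norm_num
  -- the inequality `27 |L| ≤ n |Bbar| |Dbar|`
  have hmain : 27 * Nat.card (Lv B v v') ≤
      H.relIndex (isoGroup B) * (Nat.card (Bbar B hB H v v') * Nat.card (Dbar B H v v')) := by
    rw [card_Lv B hB hvv, hDbar]
    rw [hWc, hZc, hq] at hL0
    calc 27 * ((Nat.card F - 1) * Nat.card (Kv B v v'))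
        = 9 * 3 * ((3 - 1) * Nat.card (Kv B v v')) := by rw [hq]
      _ ≤ _ := hL0
      _ = _ := by ring
  have hLpos : 0 < Nat.card (Lv B v v') := Nat.card_pos
  have hDpos : 0 < Nat.card (Dbar B H v v') := Nat.card_pos
  have hDL : Nat.card (Dbar B H v v') ≤ Nat.card (Lv B v v') :=
    Subgroup.card_le_of_le (Dbar_le_Lv B H v v')
  by_cases hBb : ∀ w ∈ Bbar B hB H v v', w = 0
  · -- `Bbar = 0`
    have hBc : Nat.card (Bbar B hB H v v') = 1 := by
      have : Bbar B hB H v v' = ⊥ := by
        rw [eq_bot_iff]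
        intro w hw
        rw [AddSubgroup.mem_bot]
        exact hBb w hw
      rw [this]; exact AddSubgroup.card_bot
    rw [hBc, one_mul] at hmain
    by_contra hcon
    push Not at hcon
    have h5 : H.relIndex (isoGroup B) * Nat.card (Dbar B H v v') ≤
        26 * Nat.card (Lv B v v') := by
      calc H.relIndex (isoGroup B) * Nat.card (Dbar B H v v')
          ≤ 26 * Nat.card (Dbar B H v v') := Nat.mul_le_mul_right _ (by omega)
        _ ≤ 26 * Nat.card (Lv B v v') := Nat.mul_le_mul_left _ hDL
    omega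
  · push Not at hBb
    obtain ⟨w₀, hw₀B, hw₀0⟩ := hBb
    have hw₀W : w₀ ∈ Wsub B v v' := hw₀B.1
    obtain ⟨x, hxW, hx⟩ := Wsub_nondegOn B hB hN hvv w₀ hw₀W hw₀0
    have hx' : B w₀ x ≠ 0 := by
      rw [alt_swap B hB]
      exact neg_ne_zero.mpr hx
    obtain ⟨w₁, hw₁W, h01⟩ : ∃ w₁ ∈ Wsub B v v', B w₀ w₁ = 1 := by
      refine ⟨(B w₀ x)⁻¹ • x, (Wsub B v v').smul_mem _ hxW, ?_⟩
      rw [map_smul, smul_eq_mul, inv_mul_cancel₀ hx']
    have h10 : B w₁ w₀ = -1 := by rw [alt_swap B hB, h01]
    -- `Bbar` is totally isotropic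
    have hiso : ∀ w ∈ Bbar B hB H v v', B w₀ w = 0 := by
      intro w hw
      obtain ⟨hwW, t, ht⟩ := hw
      obtain ⟨-, t₀, ht₀⟩ := hw₀B
      have hvw : B v w = 0 := by rw [alt_swap B hB, hwW.1, neg_zero]
      have hvw₀ : B v w₀ = 0 := by rw [alt_swap B hB, hw₀W.1, neg_zero]
      have hc := gv_comm B hB hvw hvw₀ t t₀
      have hmem : stv B hB v (2 * B w₀ w) ∈ H := by
        rw [← hc]
        exact H.mul_mem (H.mul_mem (H.mul_mem ht ht₀) (H.inv_mem ht)) (H.inv_mem ht₀)
      have h4 : 2 * B w₀ w ∈ Zv B hB H v := hmem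
      rw [hZ, AddSubgroup.mem_bot] at h4
      exact (mul_eq_zero.1 h4).resolve_left h2
    -- `W ∩ ⟨w₀, w₁⟩^⊥ = 0`
    have hperp : ∀ u ∈ Wsub B v v', B u w₀ = 0 → B u w₁ = 0 → u = 0 := by
      intro u huW hu0 hu1
      have halt' := restrict_isAlt B hB v v'
      have hvv' : (B.restrict (Wsub B v v')) ⟨w₀, hw₀W⟩ ⟨w₁, hw₁W⟩ = 1 := h01
      have hfr := finrank_Wsub_add_two (B.restrict (Wsub B v v')) halt' hvv'
      rw [hfW] at hfr
      have hz : Module.finrank F
          ↥(Wsub (B.restrict (Wsub B v v')) ⟨w₀, hw₀W⟩ ⟨w₁, hw₁W⟩) = 0 := by omega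
      rw [Submodule.finrank_eq_zero] at hz
      have hmem : (⟨u, huW⟩ : ↥(Wsub B v v')) ∈
          Wsub (B.restrict (Wsub B v v')) ⟨w₀, hw₀W⟩ ⟨w₁, hw₁W⟩ := ⟨hu0, hu1⟩
      rw [hz, Submodule.mem_bot] at hmem
      exact congrArg Subtype.val hmem
    -- elements of `W` orthogonal to `w₀` are multiples of `w₀`
    have hline : ∀ w ∈ Wsub B v v', B w₀ w = 0 → w = (B w w₁) • w₀ := by
      intro w hwW hw
      have hu : w - (B w w₁) • w₀ = 0 := by
        apply hperp _ ((Wsub B v v').sub_mem hwW ((Wsub B v v').smul_mem _ hw₀W))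
        · rw [map_sub, LinearMap.sub_apply, map_smul, LinearMap.smul_apply, hB w₀, smul_zero,
            sub_zero, alt_swap B hB, hw, neg_zero]
        · rw [map_sub, LinearMap.sub_apply, map_smul, LinearMap.smul_apply, h01, smul_eq_mul,
            mul_one, sub_self]
      exact sub_eq_zero.1 hu
    -- `|Bbar| ≤ 3`
    have hBc : Nat.card (Bbar B hB H v v') ≤ 3 := by
      rw [← hq]
      apply Nat.card_le_card_of_injective (fun w : Bbar B hB H v v' => B (w : V) w₁)
      intro a b hab
      have hab' : B (a : V) w₁ = B (b : V) w₁ := hab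
      apply Subtype.ext
      rw [hline a a.2.1 (hiso a a.2), hline b b.2.1 (hiso b b.2), hab']
    -- four elements of `K` moving `w₀` to the four lines of `W`
    have hex : ∀ i : Option F, ∃ k ∈ Kv B v v', k w₀ = Option.elim i w₁ (fun a => w₀ + a • w₁) := by
      intro i
      apply Kv_trans B hB hN hvv hw₀W
      · cases i with
        | none => exact hw₁W
        | some a => exact (Wsub B v v').add_mem hw₀W ((Wsub B v v').smul_mem _ hw₁W)
      · exact hw₀0
      · cases i with
        | none =>
          intro h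
          simp only [Option.elim] at h
          rw [h, map_zero] at h01
          exact zero_ne_one h01
        | some a =>
          intro h
          simp only [Option.elim] at h
          have h5 : B (w₀ + a • w₁) w₁ = 1 := by
            rw [map_add, LinearMap.add_apply, map_smul, LinearMap.smul_apply, hB w₁, smul_zero,
              add_zero, h01]
          rw [h, map_zero, LinearMap.zero_apply] at h5
          exact zero_ne_one h5
    choose k hkK hkw using hex
    have h4 : Nat.card (Option F) * Nat.card (Dbar B H v v') ≤ Nat.card (Lv B v v') := by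
      apply card_mul_le_of_reps (Lv B v v') (Dbar B H v v') (Dbar_le_Lv B H v v') k
        (fun i => Kv_le_Lv B v v' (hkK i))
      intro i j hij
      -- `l = (k i)⁻¹ * k j` fixes `v` and lies in `Dbar`, so it maps `w₀` into `F w₀`
      have hlv : ((k i)⁻¹ * k j) v = (1 : F) • v := by
        rw [LinearEquiv.mul_apply, (hkK j).2.1, one_smul]
        calc (k i)⁻¹ v = (k i)⁻¹ (k i v) := by rw [(hkK i).2.1]
          _ = v := inv_apply_apply' (k i) v
      have h5 := L1_Bbar B hB hvv hij hlv hw₀B
      rw [one_smul] at h5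
      have h6 := hline _ h5.1 (hiso _ h5)
      rw [LinearEquiv.mul_apply, hkw j] at h6
      set d : F := B ((k i)⁻¹ (Option.elim j w₁ (fun a => w₀ + a • w₁))) w₁ with hd
      have h7 : Option.elim j w₁ (fun a => w₀ + a • w₁) =
          d • Option.elim i w₁ (fun a => w₀ + a • w₁) := by
        have h8 := congrArg (k i) h6
        rw [apply_inv_apply', map_smul, hkw i] at h8
        exact h8
      cases i with
      | none =>
        cases j with
        | none => rfl
        | some a =>
          exfalso
          simp only [Option.elim] at h7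
          have h9 := congrArg (fun z => B z w₁) h7
          simp only [map_add, LinearMap.add_apply, map_smul, LinearMap.smul_apply, hB w₁, h01,
            smul_zero, add_zero] at h9
          exact one_ne_zero h9
      | some a =>
        cases j with
        | none =>
          exfalso
          simp only [Option.elim] at h7
          have h9 := congrArg (fun z => B z w₁) h7
          simp only [map_add, LinearMap.add_apply, map_smul, LinearMap.smul_apply, hB w₁, h01,
            mul_zero, add_zero, smul_eq_mul, mul_one] at h9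
          have h10' := congrArg (fun z => B w₀ z) h7
          simp only [map_add, map_smul, hB w₀, h01, smul_eq_mul, mul_one, zero_add] at h10'
          rw [← h9, zero_mul] at h10'
          exact one_ne_zero h10'
        | some a' =>
          simp only [Option.elim] at h7
          have h9 := congrArg (fun z => B z w₁) h7
          simp only [map_add, LinearMap.add_apply, map_smul, LinearMap.smul_apply, hB w₁, h01,
            mul_zero, add_zero, smul_eq_mul, mul_one] at h9
          have h10' := congrArg (fun z => B w₀ z) h7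
          simp only [map_add, map_smul, hB w₀, h01, smul_eq_mul, mul_one, zero_add] at h10'
          rw [← h9, one_mul] at h10'
          rw [h10']
    rw [Finite.card_option, hq] at h4
    -- arithmetic
    by_contra hcon
    push Not at hcon
    have h5 : H.relIndex (isoGroup B) * (Nat.card (Bbar B hB H v v') * Nat.card (Dbar B H v v'))
        ≤ 26 * (3 * Nat.card (Dbar B H v v')) := by
      apply Nat.mul_le_mul (by omega)
      exact Nat.mul_le_mul_right _ hBc
    omega

end Cfsg.Agent.Lib.Helper47_MISp_O5
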