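import Mathlib
import Cfsg.Agent.Lib.Helper47_MISp_O5
import Cfsg.Agent.Lib.Helper66_MISp_LOCAL

set_option autoImplicit false

/-!
# S2141 package O5 (helper47): verbatim wrapper

`caseII_23` = `Helper47_MISp_O5.caseII_23_of` fed with `L0` and `card_Dbar` of package LOCAL.
-/

namespace Cfsg.Agent.Lib.Helper47_MISp_O5w

open Cfsg.Agent.Lib.Helper94_Symp Cfsg.Agent.Lib.Helper94_SympTI
  Cfsg.Agent.Lib.Helper94_SympPerfect Cfsg.Agent.Lib.Helper66_MI_SpDefs

variable {F V : Type*} [Field F] [AddCommGroup V] [Module F V]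
variable (B : LinearMap.BilinForm F V) (hB : B.IsAlt)

theorem caseII_23 [Finite F] [FiniteDimensional F V] (S : Setting B 2 3) {v v' : V}
    (hvv : B v v' = 1) {H : Subgroup (V ≃ₗ[F] V)} (hH : H ≤ isoGroup B)
    (hNR : NoRoot B S.alt H) : 27 ≤ H.relIndex (isoGroup B) :=
  Cfsg.Agent.Lib.Helper47_MISp_O5.caseII_23_of B S hvv hNR
    (Cfsg.Agent.Lib.Helper66_MISp_LOCAL.L0 B S.alt hvv hH)
    (Cfsg.Agent.Lib.Helper66_MISp_LOCAL.card_Dbar B S.alt hvv H)

end Cfsg.Agent.Lib.Helper47_MISp_O5w
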