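import Mathlib
import Cfsg.Agent.Lib.Helper72_MinIdxDefs
import Cfsg.Agent.Lib.Helper72_MI_R1BCore

set_option autoImplicit false

/-!
helper47: package MI-AX of helper72's S2140: an element of `SL(V)` fixing the hyperplane `ker φ`
pointwise is in `axisGrp φ`.
-/

namespace Cfsg.Agent.Lib.Helper47_MI_AX

open Module Cfsg.Agent.Lib.Helper72_MinIdxDefs Cfsg.Agent.Lib.Helper72_MI_R1BCore

variable {F : Type*} [Field F] {V : Type*} [AddCommGroup V] [Module F V]

theorem mem_axisGrp_of_fix [Module.Finite F V] (φ : Dual F V) (hφ : φ ≠ 0)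
    (g : SpecialLinearGroup F V) (hg : ∀ x : V, φ x = 0 → g x = x) : g ∈ axisGrp φ := by
  obtain ⟨e, he⟩ : ∃ e, φ e = 1 := LinearMap.surjective hφ 1
  set w : V := g e - e with hw
  have hgx : ∀ x : V, g x = x + φ x • w := by
    intro x
    have h1 : φ (x - φ x • e) = 0 := by
      rw [map_sub, map_smul, he, smul_eq_mul, mul_one, sub_self]
    have h2 : x = (x - φ x • e) + φ x • e := by abel
    have h3 : g x = g (x - φ x • e) + φ x • g e := by
      conv_lhs => rw [h2]
      rw [map_add' g, map_smul' g]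
    rw [h3, hg _ h1, hw, smul_sub]
    abel
  have hlin : ((g : V ≃ₗ[F] V) : V →ₗ[F] V) = LinearMap.transvection φ w := by
    apply LinearMap.ext
    intro x
    rw [LinearMap.transvection.apply]
    exact hgx x
  have hdet := SpecialLinearGroup.det_eq_one g
  rw [hlin, LinearMap.transvection.det] at hdet
  have hφw : φ w = 0 := by
    have := add_eq_left.1 hdet
    exact this
  refine ⟨w, hφw, ?_⟩
  apply SpecialLinearGroup.ext
  intro x
  rw [tv_apply]
  exact hgx x

end Cfsg.Agent.Lib.Helper47_MI_AX
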