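import Mathlib
import Cfsg.Agent.Lib.Helper72_MinIdxDefs
import Cfsg.Agent.Lib.Helper72_MI_R1BCore

set_option autoImplicit false

/-!
helper47: package MI-CARD of helper72's S2140: orders of `axisGrp φ` and `centerGrp v`.
-/

namespace Cfsg.Agent.Lib.Helper47_MI_CARD

open Module Cfsg.Agent.Lib.Helper72_MinIdxDefs Cfsg.Agent.Lib.Helper72_MI_R1BCore

variable {F : Type*} [Field F] {V : Type*} [AddCommGroup V] [Module F V]

/-- the kernel of a non-zero functional on a finite-dimensional space over a finite field -/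
theorem card_ker_of_ne_zero [Fintype F] {M : Type*} [AddCommGroup M] [Module F M]
    [Module.Finite F M] (f : M →ₗ[F] F) (hf : f ≠ 0) :
    Nat.card (LinearMap.ker f) = Fintype.card F ^ (finrank F M - 1) := by
  have h1 := LinearMap.finrank_range_add_finrank_ker f
  have h2 : LinearMap.range f = ⊤ := LinearMap.range_eq_top.2 (LinearMap.surjective hf)
  rw [h2, finrank_top, finrank_self] at h1
  have h3 : finrank F (LinearMap.ker f) = finrank F M - 1 := by omega
  rw [Module.natCard_eq_pow_finrank (K := F), h3, Nat.card_eq_fintype_card]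

theorem card_axisGrp [Fintype F] [Module.Finite F V] (φ : Dual F V) (hφ : φ ≠ 0) :
    Nat.card (axisGrp φ) = Fintype.card F ^ (finrank F V - 1) := by
  rw [← axisHom_range φ,
    ← Nat.card_congr (MonoidHom.ofInjective (axisHom_injective hφ)).toEquiv]
  have h1 : Nat.card (Multiplicative (LinearMap.ker φ)) = Nat.card (LinearMap.ker φ) :=
    Nat.card_congr Multiplicative.toAdd
  rw [h1]
  exact card_ker_of_ne_zero φ hφ

/-- evaluation at a vector, as a functional on the dual space -/
noncomputable def evalAt (v : V) : Dual F V →ₗ[F] F := Module.Dual.eval F V v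

theorem evalAt_apply (v : V) (α : Dual F V) : evalAt v α = α v := rfl

theorem card_centerGrp [Fintype F] [Module.Finite F V] (v : V) (hv : v ≠ 0) :
    Nat.card (centerGrp F v) = Fintype.card F ^ (finrank F V - 1) := by
  have hne : evalAt (F := F) v ≠ 0 := by
    intro h0
    apply hv
    rw [← Module.forall_dual_apply_eq_zero_iff F v]
    intro α
    have := LinearMap.congr_fun h0 α
    simpa [evalAt_apply] using this
  have h1 := card_ker_of_ne_zero (evalAt (F := F) v) hne
  rw [Subspace.dual_finrank_eq] at h1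
  rw [← h1]
  symm
  apply Nat.card_congr
  refine Equiv.ofBijective
    (fun α : LinearMap.ker (evalAt (F := F) v) =>
      (⟨tv α.1 v (LinearMap.mem_ker.1 α.2), tv_mem_centerGrp α.1 v _⟩ : centerGrp F v)) ⟨?_, ?_⟩
  · intro a b hab
    apply Subtype.ext
    apply LinearMap.ext
    intro x
    have h2 : tv a.1 v (LinearMap.mem_ker.1 a.2) = tv b.1 v (LinearMap.mem_ker.1 b.2) :=
      congrArg Subtype.val hab
    have h3 : (tv a.1 v (LinearMap.mem_ker.1 a.2)) x = (tv b.1 v (LinearMap.mem_ker.1 b.2)) x := by
      rw [h2]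
    rw [tv_apply, tv_apply] at h3
    exact smul_left_injective F hv (add_left_cancel h3)
  · rintro ⟨g, α, h, rfl⟩
    exact ⟨⟨α, LinearMap.mem_ker.2 h⟩, rfl⟩

end Cfsg.Agent.Lib.Helper47_MI_CARD
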