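import Mathlib
import Cfsg.Agent.Lib.Helper72_MinIdxDefs
import Cfsg.Agent.Lib.Helper72_MI_R1BCore
import Cfsg.Agent.Lib.Helper47_MI_CARD

set_option autoImplicit false

/-!
helper47: package MI-FACT of helper72's S2140: in configuration R1, `G = A_W · H = H · A'_v`
(exact factorizations).
-/

namespace Cfsg.Agent.Lib.Helper47_MI_FACT

open Module Cfsg.Agent.Lib.Helper72_MinIdxDefs Cfsg.Agent.Lib.Helper72_MI_R1BCore
  Cfsg.Agent.Lib.Helper47_MI_CARD

variable {F : Type*} [Field F] {V : Type*} [AddCommGroup V] [Module F V]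

theorem exists_axis_mul_mem [Fintype F] [Module.Finite F V]
    (H : Subgroup (SpecialLinearGroup F V))
    (hidx : H.index = Fintype.card F ^ (finrank F V - 1))
    (hno : ∀ (φ : Dual F V) (w : V) (h : φ w = 0), tv φ w h ∈ H → tv φ w h = 1)
    (φ : Dual F V) (hφ : φ ≠ 0) (g : SpecialLinearGroup F V) :
    ∃ (w : V) (h : φ w = 0), tv φ w h * g ∈ H := by
  have hcard : Nat.card (axisGrp φ) * Nat.card H = Nat.card (SpecialLinearGroup F V) := by
    rw [card_axisGrp φ hφ, ← hidx, mul_comm]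
    exact Subgroup.card_mul_index H
  have hdisj : Disjoint (axisGrp φ) H := by
    rw [Subgroup.disjoint_def]
    rintro x ⟨w, h, rfl⟩ hxH
    exact hno φ w h hxH
  have hc := Subgroup.isComplement'_of_card_mul_and_disjoint hcard hdisj
  obtain ⟨⟨k, h⟩, hkh⟩ := hc.2 g
  obtain ⟨w, hw, hk⟩ := (k⁻¹).2
  refine ⟨w, hw, ?_⟩
  have h1 : (k : SpecialLinearGroup F V) * (h : SpecialLinearGroup F V) = g := hkh
  have h2 : tv φ w hw = (k : SpecialLinearGroup F V)⁻¹ := by
    rw [← hk]; rfl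
  rw [h2, ← h1, inv_mul_cancel_left]
  exact h.2

theorem exists_mul_center_mem [Fintype F] [Module.Finite F V]
    (H : Subgroup (SpecialLinearGroup F V))
    (hidx : H.index = Fintype.card F ^ (finrank F V - 1))
    (hno : ∀ (φ : Dual F V) (w : V) (h : φ w = 0), tv φ w h ∈ H → tv φ w h = 1)
    (v : V) (hv : v ≠ 0) (g : SpecialLinearGroup F V) :
    ∃ (α : Dual F V) (h : α v = 0), g * tv α v h ∈ H := by
  have hcard : Nat.card H * Nat.card (centerGrp F v) = Nat.card (SpecialLinearGroup F V) := by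
    rw [card_centerGrp v hv, ← hidx]
    exact Subgroup.card_mul_index H
  have hdisj : Disjoint H (centerGrp F v) := by
    rw [Subgroup.disjoint_def]
    rintro x hxH ⟨α, h, rfl⟩
    exact hno α v h hxH
  have hc := Subgroup.isComplement'_of_card_mul_and_disjoint hcard hdisj
  obtain ⟨⟨h, k⟩, hkh⟩ := hc.2 g
  obtain ⟨α, hα, hk⟩ := (k⁻¹).2
  refine ⟨α, hα, ?_⟩
  have h1 : (h : SpecialLinearGroup F V) * (k : SpecialLinearGroup F V) = g := hkh
  have h2 : tv α v hα = (k : SpecialLinearGroup F V)⁻¹ := by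
    rw [← hk]; rfl
  rw [h2, ← h1, mul_inv_cancel_right]
  exact h.2

end Cfsg.Agent.Lib.Helper47_MI_FACT
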