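import Cfsg.Agent.Lib.Helper6_MXDefs

/-!
# S4017 market (helper6): auxiliary lemmas shared by the packages MX-D1 … MX-D4 of helper47
-/

set_option autoImplicit false

namespace Cfsg.Agent.Lib.Helper47_MX_Aux

open Cfsg.Agent.Lib.Helper6_MXDefs

variable {G : Type*} [Group G]

/-- an element centralising `Q` normalises `Q`. -/
theorem centQ_mem_NQ {Q : Subgroup G} {g : G} (hg : CentQ Q g) : g ∈ NQ Q := by
  rw [Subgroup.mem_normalizer_iff]
  intro n
  constructor
  · intro hn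
    have : g * n * g⁻¹ = n := by rw [hg n hn]; group
    rw [this]; exact hn
  · intro hn
    have h1 := hg _ hn
    have : n = g * n * g⁻¹ := by
      calc n = g⁻¹ * ((g * n * g⁻¹) * g) := by group
        _ = g⁻¹ * (g * (g * n * g⁻¹)) := by rw [h1]
        _ = g * n * g⁻¹ := by group
    rw [this]; exact hn

theorem centQ_mul {Q : Subgroup G} {g k : G} (hg : CentQ Q g) (hk : CentQ Q k) :
    CentQ Q (g * k) := by
  intro v hv
  rw [mul_assoc, hk v hv, ← mul_assoc, hg v hv, mul_assoc]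

theorem centQ_inv {Q : Subgroup G} {g : G} (hg : CentQ Q g) : CentQ Q g⁻¹ := by
  intro v hv
  have h1 := hg v hv
  have : g⁻¹ * v = g⁻¹ * (v * g) * g⁻¹ := by group
  rw [this, ← h1]; group

theorem isPEl_conj {p : ℕ} {w : G} (hw : IsPEl p w) (n : G) : IsPEl p (n * w * n⁻¹) := by
  obtain ⟨k, hk⟩ := hw
  refine ⟨k, ?_⟩
  rw [conj_pow, hk]; group

theorem isPEl_pow {p : ℕ} {w : G} (hw : IsPEl p w) (j : ℕ) : IsPEl p (w ^ j) := by
  obtain ⟨k, hk⟩ := hw
  refine ⟨k, ?_⟩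
  rw [← pow_mul, mul_comm, pow_mul, hk, one_pow]

/-- conjugation by `n` preserves `closure S` if it preserves `S`. -/
theorem conj_mem_closure {S : Set G} {n : G} (hS : ∀ s ∈ S, n * s * n⁻¹ ∈ S) :
    ∀ g ∈ Subgroup.closure S, n * g * n⁻¹ ∈ Subgroup.closure S := by
  intro g hg
  induction hg using Subgroup.closure_induction with
  | mem s hs => exact Subgroup.subset_closure (hS s hs)
  | one => simp
  | mul a b _ _ ha hb =>
    have : n * (a * b) * n⁻¹ = (n * a * n⁻¹) * (n * b * n⁻¹) := by group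
    rw [this]; exact Subgroup.mul_mem _ ha hb
  | inv a _ ha =>
    have : n * a⁻¹ * n⁻¹ = (n * a * n⁻¹)⁻¹ := by group
    rw [this]; exact Subgroup.inv_mem _ ha

theorem mem_normalizer_closure {S : Set G} {n : G} (hS : ∀ s ∈ S, n * s * n⁻¹ ∈ S)
    (hS' : ∀ s ∈ S, n⁻¹ * s * n ∈ S) : n ∈ Subgroup.normalizer ((Subgroup.closure S : Subgroup G) : Set G) := by
  rw [Subgroup.mem_normalizer_iff]
  intro g
  constructor
  · exact conj_mem_closure hS g
  · intro hg
    have h1 : ∀ s ∈ S, n⁻¹ * s * n⁻¹⁻¹ ∈ S := by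
      intro s hs
      rw [inv_inv]; exact hS' s hs
    have := conj_mem_closure h1 _ hg
    have e : n⁻¹ * (n * g * n⁻¹) * n⁻¹⁻¹ = g := by group
    rwa [e] at this

/-- the subgroup generated by the `p`-elements of `C(Q)`. -/
def Wp (p : ℕ) (Q : Subgroup G) : Subgroup G :=
  Subgroup.closure {w : G | IsPEl p w ∧ CentQ Q w}

theorem mem_Wp_of {p : ℕ} {Q : Subgroup G} {w : G} (hw : IsPEl p w) (hc : CentQ Q w) : w ∈ Wp p Q :=
  Subgroup.subset_closure ⟨hw, hc⟩

/-- the generating set of `Wp` is stable under `N(Q)`. -/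
theorem gen_conj_NQ {p : ℕ} {Q : Subgroup G} {n : G} (hn : n ∈ NQ Q) :
    ∀ s ∈ {w : G | IsPEl p w ∧ CentQ Q w}, n * s * n⁻¹ ∈ {w : G | IsPEl p w ∧ CentQ Q w} := by
  rintro s ⟨hs1, hs2⟩
  refine ⟨isPEl_conj hs1 n, ?_⟩
  intro v hv
  -- `n⁻¹ v n ∈ Q`
  have hv' : n⁻¹ * v * n ∈ Q := by
    have := (Subgroup.mem_normalizer_iff.mp hn (n⁻¹ * v * n)).mpr (by
      have e : n * (n⁻¹ * v * n) * n⁻¹ = v := by group
      rw [e]; exact hv)
    exact this
  have h1 := hs2 _ hv'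
  have e1 : n * s * n⁻¹ * v = n * (s * (n⁻¹ * v * n)) * n⁻¹ := by group
  have e2 : v * (n * s * n⁻¹) = n * ((n⁻¹ * v * n) * s) * n⁻¹ := by group
  rw [e1, e2, h1]

theorem NQ_le_normalizer_Wp (p : ℕ) (Q : Subgroup G) :
    NQ Q ≤ Subgroup.normalizer ((Wp p Q : Subgroup G) : Set G) := by
  intro n hn
  apply mem_normalizer_closure (gen_conj_NQ hn)
  intro s hs
  have := gen_conj_NQ (p := p) (Subgroup.inv_mem _ hn) s hs
  rwa [inv_inv] at this

theorem Wp_le_Op {p : ℕ} {Q : Subgroup G} {t : G} (ht : t ∈ Q) : Wp p Q ≤ Op p t := by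
  apply Subgroup.closure_mono
  rintro w ⟨hw1, hw2⟩
  exact ⟨hw2 t ht, hw1⟩

/-- every element of `Op p t` commutes with `t`. -/
theorem Op_comm {p : ℕ} {t : G} : ∀ o ∈ Op p t, o * t = t * o := by
  intro o ho
  have hle : Op p t ≤ Subgroup.centralizer ({t} : Set G) := by
    apply (Subgroup.closure_le _).2
    rintro g ⟨hg, -⟩
    rw [SetLike.mem_coe, Subgroup.mem_centralizer_iff]
    intro h hh
    rw [Set.mem_singleton_iff] at hh
    rw [hh]; exact hg.symm
  have := Subgroup.mem_centralizer_iff.mp (hle ho) t rfl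
  exact this.symm

end Cfsg.Agent.Lib.Helper47_MX_Aux
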