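import Cfsg.Agent.Lib.Helper6_MXDefs
import Cfsg.Agent.Lib.Helper47_MX_Aux

/-! # S4017 market (helper6): package MX-D1 (`caseI_cent`) -/

set_option autoImplicit false
open Cfsg.Agent.Lib.Helper6_MXDefs

namespace Cfsg.Agent.Lib.Helper47_MX_D1

open Cfsg.Agent.Lib.Helper47_MX_Aux

variable {G : Type*} [Group G] [Finite G] {p a : ℕ} {Q : Subgroup G} {x : G}

/-- MX-D1. -/
theorem caseI_cent (hF : UFacts G p a) : D1Prop G p a := by
  intro Q x h hI t ht ht1 g hg
  have F := hF Q x h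
  obtain ⟨hOp, hdec⟩ := F.ot t ht ht1
  -- `W`
  have hWle : Wp p Q ≤ Op p t := Wp_le_Op ht
  have hWp : IsPGroup p (Wp p Q) := hOp.to_le hWle
  have hWbot : Wp p Q ≠ ⊥ := by
    obtain ⟨w, hw1, hwp, hwc⟩ := hI
    intro hbot
    have : w ∈ Wp p Q := mem_Wp_of hwp hwc
    rw [hbot, Subgroup.mem_bot] at this
    exact hw1 this
  have hWtop : Wp p Q ≠ ⊤ := F.pgrp_ne _ hWp
  have hNne := F.norm_ne _ hWbot hWtop
  have hNQ := NQ_le_normalizer_Wp p Q
  have hQN : Q ≤ Subgroup.normalizer ((Wp p Q : Subgroup G) : Set G) :=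
    le_trans Subgroup.le_normalizer hNQ
  have hxN := hNQ h.xN
  have hle := F.lemT _ hNne hQN hxN
  -- decompose `g`
  obtain ⟨o, ho, v, hv, rfl⟩ := hdec g hg
  have habel := h.abel (Op p t) hOp
  have hoN : o ∈ Subgroup.normalizer ((Wp p Q : Subgroup G) : Set G) := by
    apply Subgroup.centralizer_le_normalizer
    rw [Subgroup.mem_centralizer_iff]
    intro m hm
    exact habel m (hWle hm) o ho
  have hoNQ : o ∈ NQ Q := hle hoN
  have hot : o * t * o⁻¹ = t := by
    rw [Op_comm o ho]; group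
  have hoc : CentQ Q o := F.stab o hoNQ t ht ht1 hot
  have hvc : CentQ Q v := fun u hu => F.elem.2 v hv u hu
  exact centQ_mul hoc hvc

end Cfsg.Agent.Lib.Helper47_MX_D1
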