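import Cfsg.Agent.Lib.Helper6_MXDefs
import Cfsg.Agent.Lib.Helper47_MX_Aux

/-! # S4017 market (helper6): package MX-D2 (`caseI_TI`) -/

set_option autoImplicit false
open Cfsg.Agent.Lib.Helper6_MXDefs

namespace Cfsg.Agent.Lib.Helper47_MX_D2

open Cfsg.Agent.Lib.Helper47_MX_Aux

variable {G : Type*} [Group G] [Finite G] {p a : ℕ} {Q : Subgroup G} {x : G}

/-- MX-D2. -/
theorem caseI_TI (hF : UFacts G p a) (hD1 : D1Prop G p a) : D2Prop G p a := by
  intro Q x h hI c t ht ht1 hct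
  have F := hF Q x h
  have ht'1 : c * t * c⁻¹ ≠ 1 := by
    intro h0
    apply ht1
    have : t = c⁻¹ * (c * t * c⁻¹) * c := by group
    rw [this, h0]; group
  -- `c Q c⁻¹ ⊆ Q`
  have hsub : ∀ v ∈ Q, c * v * c⁻¹ ∈ Q := by
    intro v hv
    have hcomm : c * v * c⁻¹ * (c * t * c⁻¹) = c * t * c⁻¹ * (c * v * c⁻¹) := by
      have h1 := F.elem.2 v hv t ht
      have e1 : c * v * c⁻¹ * (c * t * c⁻¹) = c * (v * t) * c⁻¹ := by group
      have e2 : c * t * c⁻¹ * (c * v * c⁻¹) = c * (t * v) * c⁻¹ := by group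
      rw [e1, e2, h1]
    have hcent : CentQ Q (c * v * c⁻¹) := hD1 Q x h hI _ hct ht'1 _ hcomm
    apply F.twoN _ (centQ_mem_NQ hcent)
    refine ⟨1, ?_⟩
    rw [pow_one, pow_two]
    have e : c * v * c⁻¹ * (c * v * c⁻¹) = c * (v * v) * c⁻¹ := by group
    rw [e, F.elem.1 v hv]; group
  have hmap : Q.map (MulAut.conj c).toMonoidHom = Q := by
    apply Subgroup.eq_of_le_of_card_ge
    · rintro _ ⟨v, hv, rfl⟩
      exact hsub v hv
    · rw [Subgroup.card_map_of_injective (MulAut.conj c).injective]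
  rw [Subgroup.mem_normalizer_iff]
  intro n
  constructor
  · exact hsub n
  · intro hn
    rw [← hmap] at hn
    obtain ⟨v, hv, hvn⟩ := hn
    have : v = n := by
      have h1 : c * v * c⁻¹ = c * n * c⁻¹ := hvn
      have h2 : v = c⁻¹ * (c * v * c⁻¹) * c := by group
      rw [h2, h1]; group
    rw [← this]; exact hv

end Cfsg.Agent.Lib.Helper47_MX_D2
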