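import Cfsg.Agent.Lib.Helper6_MXDefs
import Cfsg.Agent.Lib.Helper47_MX_Aux

/-! # S4017 market (helper6): package MX-D3 (`caseI_central`) -/

set_option autoImplicit false
open Cfsg.Agent.Lib.Helper6_MXDefs

namespace Cfsg.Agent.Lib.Helper47_MX_D3

open Cfsg.Agent.Lib.Helper47_MX_Aux

variable {G : Type*} [Group G] [Finite G] {p a : ℕ} {Q : Subgroup G} {x : G}

/-- MX-D3. -/
theorem caseI_central (hF : UFacts G p a) : D3Prop G p a := by
  intro Q x h hI w hwp hwc n hn
  have F := hF Q x h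
  have : Fact p.Prime := ⟨h.hp⟩
  obtain ⟨t0, ht0, ht01⟩ := F.q_ne
  obtain ⟨hOp, hdec⟩ := F.ot t0 ht0 ht01
  have hWle : Wp p Q ≤ Op p t0 := Wp_le_Op ht0
  have hWp : IsPGroup p (Wp p Q) := hOp.to_le hWle
  have hwW : w ∈ Wp p Q := mem_Wp_of hwp hwc
  -- `x` commutes with `w`
  have hxw : x * w = w * x := by
    have hxN := NQ_le_normalizer_Wp p Q h.xN
    have hzp : IsPGroup p (Subgroup.zpowers x) := by
      obtain ⟨k, hk⟩ := h.xp
      intro g
      refine ⟨k, ?_⟩
      obtain ⟨g, hg⟩ := g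
      obtain ⟨m, rfl⟩ := Subgroup.mem_zpowers_iff.mp hg
      apply Subtype.ext
      show (x ^ m) ^ p ^ k = 1
      rw [← zpow_natCast, ← zpow_mul, mul_comm, zpow_mul, zpow_natCast, hk, one_zpow]
    have hzN : Subgroup.zpowers x ≤ Subgroup.normalizer ((Wp p Q : Subgroup G) : Set G) := by
      rw [Subgroup.zpowers_le]; exact hxN
    have hsup : IsPGroup p (Subgroup.zpowers x ⊔ Wp p Q : Subgroup G) :=
      IsPGroup.to_sup_of_normal_right' hzp hWp hzN
    exact h.abel _ hsup x (Subgroup.mem_sup_left (Subgroup.mem_zpowers x)) w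
      (Subgroup.mem_sup_right hwW)
  -- decompose `n`
  obtain ⟨j, c, hc, rfl⟩ := F.dec n hn
  -- `c` commutes with `w`
  have hcw : c * w = w * c := by
    obtain ⟨o, ho, v, hv, rfl⟩ := hdec c (hc t0 ht0)
    have habel := h.abel (Op p t0) hOp
    have h1 : o * w = w * o := habel o ho w (hWle hwW)
    have h2 : w * v = v * w := hwc v hv
    rw [mul_assoc, ← h2, ← mul_assoc, h1, mul_assoc]
  have hxjw : x ^ j * w = w * x ^ j := (Commute.pow_left (show Commute x w from hxw) j).eq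
  rw [mul_assoc, hcw, ← mul_assoc, hxjw, mul_assoc]

end Cfsg.Agent.Lib.Helper47_MX_D3
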