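import Cfsg.Agent.Lib.Helper6_MXDefs
import Cfsg.Agent.Lib.Helper47_MX_Aux

/-! # S4017 market (helper6): package MX-D4 (`caseI_Cw`) -/

set_option autoImplicit false
open Cfsg.Agent.Lib.Helper6_MXDefs

namespace Cfsg.Agent.Lib.Helper47_MX_D4

open Cfsg.Agent.Lib.Helper47_MX_Aux

variable {G : Type*} [Group G] [Finite G] {p a : ℕ} {Q : Subgroup G} {x : G}

/-- MX-D4. -/
theorem caseI_Cw (hF : UFacts G p a) (hD3 : D3Prop G p a) : D4Prop G p a := by
  intro Q x h hI w hw1 hwp hwc g hg
  have F := hF Q x h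
  have hne : Subgroup.centralizer ({w} : Set G) ≠ ⊤ := F.cent_ne w hw1
  have hQH : Q ≤ Subgroup.centralizer ({w} : Set G) := by
    intro v hv
    rw [Subgroup.mem_centralizer_iff]
    intro k hk
    rw [Set.mem_singleton_iff] at hk
    rw [hk]; exact hwc v hv
  have hxH : x ∈ Subgroup.centralizer ({w} : Set G) := by
    rw [Subgroup.mem_centralizer_iff]
    intro k hk
    rw [Set.mem_singleton_iff] at hk
    rw [hk]; exact (hD3 Q x h hI w hwp hwc x h.xN).symm
  have hle := F.lemT _ hne hQH hxH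
  apply hle
  rw [Subgroup.mem_centralizer_iff]
  intro k hk
  rw [Set.mem_singleton_iff] at hk
  rw [hk]; exact hg.symm

end Cfsg.Agent.Lib.Helper47_MX_D4
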