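import Cfsg.Agent.Lib.Helper6_MXDefs
import Cfsg.Agent.Lib.Helper47_MX_Aux

/-! # S4017 market (helper6): package MX-E4D3 (`cit_Y`): the number of real `p`-elements in the CIT case -/

set_option autoImplicit false
open Cfsg.Agent.Lib.Helper6_MXDefs

namespace Cfsg.Agent.Lib.Helper47_MX_E4D3

open Cfsg.Agent.Lib.Helper47_MX_Aux
open scoped Pointwise

set_option linter.style.haveILetI false
set_option linter.unusedVariables false

section gen

variable {G : Type*} [Group G]

theorem mem_cent_iff {y z : G} : z ∈ Subgroup.centralizer ({y} : Set G) ↔ y * z = z * y := by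
  rw [Subgroup.mem_centralizer_iff]
  constructor
  · intro h; exact h y rfl
  · intro h k hk
    rw [Set.mem_singleton_iff] at hk
    rw [hk]; exact h

/-- a `p`-element (`p` an odd prime) with square one is trivial -/
theorem isPEl_sq_eq_one {p : ℕ} (hp : p.Prime) (hp2 : p ≠ 2) {m : G} (hm : IsPEl p m)
    (hmm : m * m = 1) : m = 1 := by
  obtain ⟨k, hk⟩ := hm
  have h1 : orderOf m ∣ p ^ k := orderOf_dvd_of_pow_eq_one hk
  have h2 : orderOf m ∣ 2 := orderOf_dvd_of_pow_eq_one (by rw [pow_two]; exact hmm)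
  have hcop : Nat.Coprime (p ^ k) 2 := by
    apply Nat.Coprime.pow_left
    rw [Nat.coprime_primes hp Nat.prime_two]; exact hp2
  have h3 : orderOf m ∣ Nat.gcd (p ^ k) 2 := Nat.dvd_gcd h1 h2
  rw [hcop] at h3
  exact orderOf_eq_one_iff.mp (Nat.dvd_one.mp h3)

/-- conjugate of a centraliser -/
theorem conj_smul_centralizer (g y : G) :
    MulAut.conj g • Subgroup.centralizer ({y} : Set G) = Subgroup.centralizer ({g * y * g⁻¹} : Set G) := by
  ext w
  rw [Subgroup.mem_smul_pointwise_iff_exists, mem_cent_iff]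
  constructor
  · rintro ⟨s, hs, rfl⟩
    rw [mem_cent_iff] at hs
    rw [MulAut.smul_def, MulAut.conj_apply]
    have e1 : g * y * g⁻¹ * (g * s * g⁻¹) = g * (y * s) * g⁻¹ := by group
    have e2 : g * s * g⁻¹ * (g * y * g⁻¹) = g * (s * y) * g⁻¹ := by group
    rw [e1, e2, hs]
  · intro hw
    refine ⟨g⁻¹ * w * g, ?_, ?_⟩
    · rw [mem_cent_iff]
      have e1 : y * (g⁻¹ * w * g) = g⁻¹ * (g * y * g⁻¹ * w) * g := by group
      have e2 : g⁻¹ * w * g * y = g⁻¹ * (w * (g * y * g⁻¹)) * g := by group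
      rw [e1, e2, hw]
    · rw [MulAut.smul_def, MulAut.conj_apply]; group

/-- arithmetic: a `{2,p}`-number `n`, even, not divisible by 4, divisible by the full `p`-part `π` of a multiple `N`. -/
theorem card_eq_two_mul {p n N : ℕ} (hp : p.Prime) (hp2 : p ≠ 2) (hN : N ≠ 0) (hT : TwoP p n)
    (h2 : 2 ∣ n) (h4 : ¬ 4 ∣ n) (hπ : p ^ N.factorization p ∣ n) (hnN : n ∣ N) :
    n = 2 * p ^ N.factorization p := by
  obtain ⟨m, rfl⟩ := h2
  have hm0 : m ≠ 0 := by
    rintro rfl
    rw [mul_zero] at hnN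
    exact hN (Nat.eq_zero_of_zero_dvd hnN)
  have hmodd : ¬ 2 ∣ m := by
    rintro ⟨c, rfl⟩
    exact h4 ⟨c, by ring⟩
  have hmp : ∀ {d : ℕ}, d.Prime → d ∣ m → d = p := by
    intro d hd hdm
    rcases hT d hd (Dvd.dvd.mul_left hdm 2) with h | h
    · exact absurd (h ▸ hdm) hmodd
    · exact h
  have hm := Nat.eq_prime_pow_of_unique_prime_dvd hm0 hmp
  obtain ⟨k, hk⟩ : ∃ k, m = p ^ k := ⟨_, hm⟩
  have hcop : Nat.Coprime (p ^ N.factorization p) 2 := by
    apply Nat.Coprime.pow_left
    rw [Nat.coprime_primes hp Nat.prime_two]; exact hp2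
  have hd1 : p ^ N.factorization p ∣ m := hcop.dvd_of_dvd_mul_left hπ
  have hd2 : m ∣ p ^ N.factorization p := by
    rw [hk]
    apply pow_dvd_pow
    have : p ^ k ∣ N := by
      rw [← hk]; exact Dvd.dvd.trans (Dvd.intro_left 2 rfl) hnN
    exact (hp.pow_dvd_iff_le_factorization hN).mp this
  rw [Nat.dvd_antisymm hd2 hd1]

end gen

variable {G : Type*} [Group G] [Finite G] {p a : ℕ} {Q : Subgroup G} {x : G}

/-- MX-E4D3. -/
theorem cit_Y (hF : UFacts G p a) (hRe : CitRealProp G p a) (hIC : CitInvCountProp G p a) :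
    CitYProp G p a := by
  classical
  intro Q x h hCit hne
  have F := hF Q x h
  have hpP : p.Prime := h.hp
  haveI : Fact p.Prime := ⟨hpP⟩
  haveI : Fintype G := Fintype.ofFinite G
  have hG0 : Nat.card G ≠ 0 := Nat.card_pos.ne'
  -- (1) facts on real elements
  have hR : ∀ y ∈ RealP G p, ∃ t : G, orderOf t = 2 ∧
      (∀ z ∈ Subgroup.centralizer ({y} : Set G), IsPEl p z) ∧
      (∀ z ∈ Subgroup.centralizer ({y} : Set G), t * z * t⁻¹ = z⁻¹) := by
    rintro y ⟨hy1, hyp, t, ht2, hty⟩
    obtain ⟨h1, -, h3⟩ := hRe Q x h hCit y hy1 hyp t ht2 hty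
    exact ⟨t, ht2, fun z hz => h1 z (mem_cent_iff.mp hz).symm,
      fun z hz => h3 z (mem_cent_iff.mp hz).symm⟩
  have hRcard : ∀ y ∈ RealP G p, Nat.card (Subgroup.centralizer ({y} : Set G)) =
      p ^ (Nat.card G).factorization p := by
    rintro y ⟨hy1, hyp, t, ht2, hty⟩
    exact (hRe Q x h hCit y hy1 hyp t ht2 hty).2.1
  -- (2) nontrivial elements of `C(y)` are real with the same centraliser
  have hR2 : ∀ y ∈ RealP G p, ∀ z ∈ Subgroup.centralizer ({y} : Set G), z ≠ 1 →
      z ∈ RealP G p ∧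
        Subgroup.centralizer ({z} : Set G) = Subgroup.centralizer ({y} : Set G) := by
    intro y hy z hz hz1
    obtain ⟨t, ht2, hpel, hinv⟩ := hR y hy
    have hzR : z ∈ RealP G p := ⟨hz1, hpel z hz, t, ht2, hinv z hz⟩
    refine ⟨hzR, ?_⟩
    symm
    apply Subgroup.eq_of_le_of_card_ge
    · intro w hw
      rw [mem_cent_iff]
      have hzw : z * w ∈ Subgroup.centralizer ({y} : Set G) := Subgroup.mul_mem _ hz hw
      have e1 := hinv z hz
      have e2 := hinv w hw
      have e3 := hinv (z * w) hzw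
      have e4 : t * (z * w) * t⁻¹ = t * z * t⁻¹ * (t * w * t⁻¹) := by group
      rw [e4, e1, e2, mul_inv_rev] at e3
      -- e3 : z⁻¹ * w⁻¹ = w⁻¹ * z⁻¹
      have e5 := congrArg (fun g => g⁻¹) e3
      simp only [mul_inv_rev, inv_inv] at e5
      exact e5.symm
    · rw [hRcard y hy, hRcard z hzR]
  -- (3) the base point
  obtain ⟨y0, hy0⟩ := hne
  obtain ⟨t0, ht02, hpel0, hinv0⟩ := hR y0 hy0
  obtain ⟨P0, hP0⟩ : ∃ P0 : Sylow p G, (P0 : Subgroup G) = Subgroup.centralizer ({y0} : Set G) :=
    ⟨Sylow.ofCard _ (hRcard y0 hy0), rfl⟩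
  -- conjugates of real elements are real
  have hconjR : ∀ y ∈ RealP G p, ∀ g : G, g * y * g⁻¹ ∈ RealP G p := by
    rintro y ⟨hy1, hyp, t, ht2, hty⟩ g
    refine ⟨?_, isPEl_conj hyp g, g * t * g⁻¹, ?_, ?_⟩
    · intro h0
      apply hy1
      have : y = g⁻¹ * (g * y * g⁻¹) * g := by group
      rw [this, h0]; group
    · have : g * t * g⁻¹ = MulAut.conj g t := by rw [MulAut.conj_apply]
      rw [this, MulEquiv.orderOf_eq]; exact ht2
    · have e : g * t * g⁻¹ * (g * y * g⁻¹) * (g * t * g⁻¹)⁻¹ = g * (t * y * t⁻¹) * g⁻¹ := by group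
      rw [e, hty]; group
  -- (4) every Sylow `p`-subgroup is the centraliser of a real element
  have hall : ∀ P : Sylow p G, ∃ y ∈ RealP G p,
      (P : Subgroup G) = Subgroup.centralizer ({y} : Set G) := by
    intro P
    obtain ⟨g, hg⟩ := MulAction.exists_smul_eq G P0 P
    refine ⟨g * y0 * g⁻¹, hconjR y0 hy0 g, ?_⟩
    have e1 : ((g • P0 : Sylow p G) : Subgroup G) = MulAut.conj g • (P0 : Subgroup G) := by
      rw [Sylow.smul_def, Sylow.pointwise_smul_def]
    rw [← hg, e1, hP0, conj_smul_centralizer]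
  -- (5) the fibres
  obtain ⟨Φ, hΦ⟩ : ∃ Φ : G → Sylow p G, ∀ y ∈ RealP G p,
      ((Φ y : Sylow p G) : Subgroup G) = Subgroup.centralizer ({y} : Set G) := by
    refine ⟨fun y => if hy : y ∈ RealP G p then Sylow.ofCard _ (hRcard y hy) else P0, ?_⟩
    intro y hy
    simp only [dif_pos hy]
    rfl
  have hfib : ∀ P : Sylow p G,
      ((Finset.univ.filter (fun y : G => y ∈ RealP G p)).filter (fun y => Φ y = P)).card =
        p ^ (Nat.card G).factorization p - 1 := by
    intro P
    obtain ⟨y', hy', hPy'⟩ := hall P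
    have hset : (Finset.univ.filter (fun y : G => y ∈ RealP G p)).filter (fun y => Φ y = P) =
        (Finset.univ.filter (fun y : G => y ∈ (P : Subgroup G))).erase 1 := by
      ext y
      simp only [Finset.mem_filter, Finset.mem_univ, true_and, Finset.mem_erase]
      constructor
      · rintro ⟨hy, hΦy⟩
        refine ⟨hy.1, ?_⟩
        rw [← hΦy, hΦ y hy, mem_cent_iff]
      · rintro ⟨hy1, hyP⟩
        rw [hPy'] at hyP
        obtain ⟨hyR, hcy⟩ := hR2 y' hy' y hyP hy1
        refine ⟨hyR, ?_⟩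
        apply Sylow.ext
        rw [hΦ y hyR, hcy, hPy']
    rw [hset, Finset.card_erase_of_mem (by simp)]
    congr 1
    rw [← P.card_eq_multiplicity, Nat.card_eq_fintype_card, Fintype.card_subtype]
  haveI : Fintype (Sylow p G) := Fintype.ofFinite _
  have hcount : (RealP G p).ncard = Nat.card (Sylow p G) * (p ^ (Nat.card G).factorization p - 1) := by
    have e0 : (RealP G p).ncard = (Finset.univ.filter (fun y : G => y ∈ RealP G p)).card := by
      rw [← Set.ncard_coe_finset]
      congr 1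
      ext y
      simp
    rw [e0, Finset.card_eq_sum_card_fiberwise (f := Φ) (t := Finset.univ)
      (fun y _ => Finset.mem_coe.mpr (Finset.mem_univ _))]
    rw [Finset.sum_congr rfl (fun P _ => hfib P), Finset.sum_const, Finset.card_univ,
      smul_eq_mul, ← Nat.card_eq_fintype_card (α := Sylow p G)]
  -- (7) the normaliser of `P0`
  have hP0bot : (P0 : Subgroup G) ≠ ⊥ := by
    intro hbot
    have : y0 ∈ (P0 : Subgroup G) := by rw [hP0, mem_cent_iff]
    rw [hbot, Subgroup.mem_bot] at this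
    exact hy0.1 this
  have hP0top : (P0 : Subgroup G) ≠ ⊤ := F.pgrp_ne _ P0.isPGroup'
  have hNne := F.norm_ne _ hP0bot hP0top
  have hP0N : (P0 : Subgroup G) ≤ Subgroup.normalizer ((P0 : Subgroup G) : Set G) :=
    Subgroup.le_normalizer
  -- involutions normalising `P0` invert `y0`
  have hinvN : ∀ v : G, orderOf v = 2 → v ∈ Subgroup.normalizer ((P0 : Subgroup G) : Set G) →
      v * y0 * v⁻¹ = y0⁻¹ := by
    intro v hv2 hvN
    have hy0P : y0 ∈ (P0 : Subgroup G) := by rw [hP0, mem_cent_iff]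
    have hvy : v * y0 * v⁻¹ ∈ (P0 : Subgroup G) := (Subgroup.mem_normalizer_iff.mp hvN y0).mp hy0P
    have hvv : v * v = 1 := by
      have := pow_orderOf_eq_one v
      rwa [hv2, pow_two] at this
    have hvinv : v⁻¹ = v := inv_eq_of_mul_eq_one_left hvv
    -- `m = y0 * (v y0 v⁻¹)` commutes with `v`
    have hcomm : y0 * (v * y0 * v⁻¹) = (v * y0 * v⁻¹) * y0 := by
      rw [hP0, mem_cent_iff] at hvy
      exact hvy
    have hm : (y0 * (v * y0 * v⁻¹)) * v = v * (y0 * (v * y0 * v⁻¹)) := by
      have e1 : v * (y0 * (v * y0 * v⁻¹)) = (v * y0 * v⁻¹) * (v * v) * y0 * v⁻¹ := by group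
      rw [e1, hvv, mul_one, ← hcomm, hvinv]
    have hmm := hCit.sq v hv2 _ hm
    have hmP : IsPEl p (y0 * (v * y0 * v⁻¹)) := by
      apply hpel0
      exact Subgroup.mul_mem _ (hP0 ▸ hy0P) (hP0 ▸ hvy)
    have hm1 := isPEl_sq_eq_one hpP h.hp2 hmP hmm
    exact (eq_inv_of_mul_eq_one_right hm1)
  have hcardN : Nat.card (Subgroup.normalizer ((P0 : Subgroup G) : Set G)) =
      2 * p ^ (Nat.card G).factorization p := by
    have ht0N : t0 ∈ Subgroup.normalizer ((P0 : Subgroup G) : Set G) := by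
      have ht0t0 : t0 * t0 = 1 := by
        have := pow_orderOf_eq_one t0
        rwa [ht02, pow_two] at this
      have ht0inv : t0⁻¹ = t0 := inv_eq_of_mul_eq_one_left ht0t0
      have hstep : ∀ n ∈ (P0 : Subgroup G), t0 * n * t0⁻¹ ∈ (P0 : Subgroup G) := by
        intro n hn
        rw [hP0] at hn ⊢
        rw [hinv0 n hn]
        exact Subgroup.inv_mem _ hn
      rw [Subgroup.mem_normalizer_iff]
      intro n
      constructor
      · exact hstep n
      · intro hn
        have := hstep _ hn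
        have e : t0 * (t0 * n * t0⁻¹) * t0⁻¹ = n := by
          rw [ht0inv]
          calc t0 * (t0 * n * t0) * t0 = (t0 * t0) * n * (t0 * t0) := by group
            _ = n := by rw [ht0t0, one_mul, mul_one]
        rwa [e] at this
    have h2dvd : 2 ∣ Nat.card (Subgroup.normalizer ((P0 : Subgroup G) : Set G)) := by
      have := orderOf_dvd_natCard (⟨t0, ht0N⟩ : Subgroup.normalizer ((P0 : Subgroup G) : Set G))
      rwa [Subgroup.orderOf_mk, ht02] at this
    have hT := h.even _ hNne h2dvd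
    have h4 : ¬ 4 ∣ Nat.card (Subgroup.normalizer ((P0 : Subgroup G) : Set G)) := by
      intro h4
      haveI : Fact (Nat.Prime 2) := ⟨Nat.prime_two⟩
      obtain ⟨K, hK⟩ := Sylow.exists_subgroup_card_pow_prime 2 (n := 2)
        (G := Subgroup.normalizer ((P0 : Subgroup G) : Set G)) (by
          have e : (2 : ℕ) ^ 2 = 4 := by norm_num
          rw [e]; exact h4)
      -- elements of `K` have square one
      have hKsq : ∀ k ∈ K, ((k : G) * (k : G) = 1) := by
        intro k hk
        have h1 : orderOf (⟨k, hk⟩ : K) ∣ 2 ^ 2 := hK ▸ orderOf_dvd_natCard _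
        have h2 : (k : G) ^ 2 ^ 2 = 1 := by
          have := orderOf_dvd_iff_pow_eq_one.mp h1
          have h3 : ((⟨k, hk⟩ : K) : Subgroup.normalizer ((P0 : Subgroup G) : Set G)) ^ 2 ^ 2 = 1 :=
            congrArg Subtype.val this
          exact congrArg Subtype.val h3
        obtain ⟨c, hc⟩ := F.syl (k : G) ⟨2, h2⟩
        have h3 := F.elem.1 _ hc
        have e : c * (k : G) * c⁻¹ * (c * (k : G) * c⁻¹) = c * ((k : G) * (k : G)) * c⁻¹ := by group
        rw [e] at h3
        have : (k : G) * (k : G) = c⁻¹ * (c * ((k : G) * (k : G)) * c⁻¹) * c := by group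
        rw [this, h3]; group
      -- two distinct nontrivial elements
      have hKcard : Nat.card K = 4 := by rw [hK]; norm_num
      haveI : Fintype K := Fintype.ofFinite K
      have hK4 : Fintype.card K = 4 := by rw [← Nat.card_eq_fintype_card]; exact hKcard
      obtain ⟨v1, hv1⟩ : ∃ v1 : K, v1 ≠ 1 := by
        by_contra hcon
        push Not at hcon
        have : Fintype.card K ≤ 1 := Fintype.card_le_one_iff.mpr (fun a b => by rw [hcon a, hcon b])
        omega
      obtain ⟨v2, hv21, hv22⟩ : ∃ v2 : K, v2 ≠ 1 ∧ v2 ≠ v1 := by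
        by_contra hcon
        push Not at hcon
        have hsub : (Finset.univ : Finset K) ⊆ {1, v1} := by
          intro k _
          by_cases hk : k = 1
          · simp [hk]
          · simp [hcon k hk]
        have := Finset.card_le_card hsub
        have h2 : ({1, v1} : Finset K).card ≤ 2 := Finset.card_le_two
        rw [Finset.card_univ] at this
        omega
      -- back to `G`
      have hord : ∀ v : K, v ≠ 1 → orderOf ((v : Subgroup.normalizer ((P0 : Subgroup G) : Set G)) : G) = 2 := by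
        intro v hv
        apply orderOf_eq_prime
        · rw [pow_two]; exact hKsq v.1 v.2
        · intro h0
          apply hv
          exact Subtype.ext (Subtype.ext h0)
      have hi1 := hinvN _ (hord v1 hv1) (v1 : Subgroup.normalizer ((P0 : Subgroup G) : Set G)).2
      have hi2 := hinvN _ (hord v2 hv21) (v2 : Subgroup.normalizer ((P0 : Subgroup G) : Set G)).2
      obtain ⟨w1, hw1⟩ : ∃ w1 : G, w1 = ((v1 : Subgroup.normalizer ((P0 : Subgroup G) : Set G)) : G) := ⟨_, rfl⟩
      obtain ⟨w2, hw2⟩ : ∃ w2 : G, w2 = ((v2 : Subgroup.normalizer ((P0 : Subgroup G) : Set G)) : G) := ⟨_, rfl⟩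
      rw [← hw1] at hi1
      rw [← hw2] at hi2
      -- `w1 * w2` centralises `y0`
      have hc : w1 * w2 ∈ Subgroup.centralizer ({y0} : Set G) := by
        rw [mem_cent_iff]
        have e1 : w1 * w2 * y0 = w1 * (w2 * y0 * w2⁻¹) * w2 := by group
        rw [e1, hi2]
        have e2 : w1 * y0⁻¹ * w2 = (w1 * y0 * w1⁻¹)⁻¹ * w1 * w2 := by group
        rw [e2, hi1, inv_inv]
        group
      have hpw := hpel0 _ hc
      have hsq : (w1 * w2) * (w1 * w2) = 1 := by
        have := hKsq (v1 * v2).1 (v1 * v2).2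
        rw [hw1, hw2]
        exact this
      have h1 := isPEl_sq_eq_one hpP h.hp2 hpw hsq
      -- so `w2 = w1⁻¹ = w1`
      have hw1sq : w1 * w1 = 1 := by rw [hw1]; exact hKsq v1.1 v1.2
      have : w2 = w1 := by
        have e : w2 = w1⁻¹ * (w1 * w2) := by group
        rw [e, h1, mul_one]
        exact inv_eq_of_mul_eq_one_left hw1sq
      apply hv22
      apply Subtype.ext
      apply Subtype.ext
      rw [← hw1, ← hw2]
      exact this
    have hπdvd : p ^ (Nat.card G).factorization p ∣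
        Nat.card (Subgroup.normalizer ((P0 : Subgroup G) : Set G)) := by
      rw [← P0.card_eq_multiplicity]
      exact Subgroup.card_dvd_of_le hP0N
    exact card_eq_two_mul hpP h.hp2 hG0 hT h2dvd h4 hπdvd (Subgroup.card_subgroup_dvd_card _)
  -- (8) conclusion
  have hnp : Nat.card (Sylow p G) * (2 * p ^ (Nat.card G).factorization p) = Nat.card G := by
    rw [Sylow.card_eq_index_normalizer P0, ← hcardN]
    exact Subgroup.index_mul_card _
  show (RealP G p).ncard * (2 * ppart G p) = (ppart G p - 1) * Nat.card G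
  unfold ppart
  obtain ⟨π, hπ⟩ : ∃ π : ℕ, π = p ^ (Nat.card G).factorization p := ⟨_, rfl⟩
  rw [← hπ] at hcount hnp ⊢
  rw [hcount]
  calc Nat.card (Sylow p G) * (π - 1) * (2 * π) = (π - 1) * (Nat.card (Sylow p G) * (2 * π)) := by ring
    _ = (π - 1) * Nat.card G := by rw [hnp]

end Cfsg.Agent.Lib.Helper47_MX_E4D3
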