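import Mathlib

/-!
# S2861 (architect helper48): shared definition

`UniqueEA p P` : every nontrivial elementary abelian `p`-subgroup `V` of `N_X(P)` that is normal in
`N_X(P)` is equal to `P`.
-/

set_option autoImplicit false

namespace Cfsg.Agent.Lib.Helper48_NQDefs

/-- `P` is the only nontrivial elementary abelian normal `p`-subgroup of `N_X(P)` -/
def UniqueEA (p : ℕ) {X : Type*} [Group X] (P : Subgroup X) : Prop :=
  ∀ V : Subgroup X, V ≤ Subgroup.normalizer (P : Set X) →
    Subgroup.normalizer (P : Set X) ≤ Subgroup.normalizer (V : Set X) →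
    (∀ v ∈ V, ∀ w ∈ V, v * w = w * v) → (∀ v ∈ V, v ^ p = 1) → V ≠ ⊥ → V = P

/-- transport along an isomorphism -/
theorem UniqueEA.of_equiv {p : ℕ} {X X' : Type*} [Group X] [Group X'] (φ : X ≃* X')
    {P : Subgroup X} (h : UniqueEA p (P.map φ.toMonoidHom)) : UniqueEA p P := by
  intro V hVN hNV hVc hVe hV1
  have hnorm : ∀ K : Subgroup X, Subgroup.normalizer ((K.map φ.toMonoidHom : Subgroup X') : Set X') =
      (Subgroup.normalizer (K : Set X)).map φ.toMonoidHom := fun K =>
    (Subgroup.map_equiv_normalizer_eq K φ).symm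
  have h1 : V.map φ.toMonoidHom = P.map φ.toMonoidHom := by
    apply h
    · rw [hnorm]; exact Subgroup.map_mono hVN
    · rw [hnorm, hnorm]; exact Subgroup.map_mono hNV
    · rintro _ ⟨v, hv, rfl⟩ _ ⟨w, hw, rfl⟩
      simp only [MulEquiv.coe_toMonoidHom]
      rw [← map_mul, ← map_mul, hVc v hv w hw]
    · rintro _ ⟨v, hv, rfl⟩
      simp only [MulEquiv.coe_toMonoidHom]
      rw [← map_pow, hVe v hv, map_one]
    · intro hbot
      apply hV1
      rw [eq_bot_iff] at hbot ⊢
      intro v hv
      have h2 : φ v ∈ V.map φ.toMonoidHom := ⟨v, hv, rfl⟩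
      have h3 := hbot h2
      rw [Subgroup.mem_bot] at h3 ⊢
      exact φ.injective (by rw [h3, map_one])
  exact Subgroup.map_injective φ.injective h1

end Cfsg.Agent.Lib.Helper48_NQDefs
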