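import Mathlib
import Cfsg.Agent.Lib.Helper47_Fpf_SZSEMI
import Cfsg.Agent.Lib.Helper48_NQDefs

/-!
# Helper47_NQ_SZ (S2861 package NQ-SZ, helper47)

In `Cfsg.Sz F m` (`m ≥ 1`, `|F| = q = 2^(2m+1)`) an elementary abelian subgroup `P` of order `q` is
the only nontrivial elementary abelian normal 2-subgroup of its normalizer: `P = g Z g⁻¹` with
`Z = {uQ 0 c}`, `N(P) = g Stab(∞) g⁻¹`; involutions of `Stab(∞)` lie in `Z`, and the torus `hQ s`
is transitive on `Z ∖ 1`.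
-/

set_option autoImplicit false
open Cfsg

namespace Cfsg.Agent.Lib.Helper47_NQ_SZ

open Cfsg.Agent.Helper37Sz Cfsg.Agent.Lib.Helper6_SzCent Cfsg.Agent.Lib.Helper47_Fpf_SZSEMI
  Cfsg.Agent.Lib.Helper46_SzInv Cfsg.Agent.Lib.Helper48_NQDefs

section Aux

variable {F : Type*} [Field F] [Fintype F] {S : F →+* F} {m : ℕ}

/-- an elementary abelian subgroup of order `q` is a conjugate of the centre of `Q` -/
theorem exists_conj_center (hm : 1 ≤ m) (hF : Fintype.card F = 2 ^ (2 * m + 1)) (h2 : (2 : F) = 0)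
    (hS : ∀ z, S (S z) = z ^ 2) (hSdef : ∀ z, S z = z ^ 2 ^ (m + 1)) (P : Subgroup (Cfsg.Sz F m))
    (hPc : ∀ y ∈ P, ∀ z ∈ P, y * z = z * y) (hPe : ∀ y ∈ P, y ^ 2 = 1)
    (hPq : Nat.card P = 2 ^ (2 * m + 1)) :
    ∃ g : Cfsg.Sz F m, (∀ y ∈ P, ∃ c : F, y = g * uQ h2 hS hSdef 0 c * g⁻¹) ∧
      (∀ c : F, g * uQ h2 hS hSdef 0 c * g⁻¹ ∈ P) := by
  classical
  have hPne : P ≠ ⊥ := by
    rw [← Subgroup.one_lt_card_iff_ne_bot, hPq]
    exact Nat.one_lt_two_pow (by omega)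
  obtain ⟨⟨t, ht⟩, ht1'⟩ := (Subgroup.ne_bot_iff_exists_ne_one).1 hPne
  have ht1 : t ≠ 1 := fun h => ht1' (Subtype.ext h)
  have htt : t * t = 1 := by rw [← pow_two]; exact hPe t ht
  obtain ⟨g, b, htb⟩ := involution_conj hm hF h2 hS hSdef htt
  have hb : b ≠ 0 := by
    rintro rfl
    apply ht1
    rw [htb, uQ_zero]; group
  have hPsub : ∀ y ∈ P, ∃ c : F, y = g * uQ h2 hS hSdef 0 c * g⁻¹ := by
    intro y hy
    have hyfix : y • (g • ptInf F m) = g • ptInf F m := by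
      apply fix_conj h2 hS hSdef g hb
      rw [← htb, ← mul_smul, ← hPc y hy t ht, mul_smul]
      congr 1
      rw [htb]
      exact conj_fixes h2 hS hSdef g b
    have hyy : y * y = 1 := by rw [← pow_two]; exact hPe y hy
    have h1 : (g⁻¹ * y * g) * (g⁻¹ * y * g) = 1 := by
      have : (g⁻¹ * y * g) * (g⁻¹ * y * g) = g⁻¹ * (y * y) * g := by group
      rw [this, hyy]; group
    have h3 : (g⁻¹ * y * g) • ptInf F m = ptInf F m := by
      rw [mul_smul, mul_smul, hyfix, inv_smul_smul]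
    obtain ⟨c, hc⟩ := inv_fix_inf hm hF h2 hS hSdef h1 h3
    refine ⟨c, ?_⟩
    rw [← hc]; group
  refine ⟨g, hPsub, ?_⟩
  let f : F → Cfsg.Sz F m := fun c => g * uQ h2 hS hSdef 0 c * g⁻¹
  have hfinj : Function.Injective f := by
    intro c c' hcc
    have h1 : uQ h2 hS hSdef 0 c = uQ (m := m) h2 hS hSdef 0 c' := by
      have := congrArg (fun z => g⁻¹ * z * g) hcc
      simp only [f] at this
      have e : ∀ u : Cfsg.Sz F m, g⁻¹ * (g * u * g⁻¹) * g = u := fun u => by group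
      rw [e, e] at this
      exact this
    exact (uQ_inj h2 hS hSdef h1).2
  have hsub : (P : Set (Cfsg.Sz F m)) ⊆ Set.range f := by
    intro y hy
    obtain ⟨c, hc⟩ := hPsub y hy
    exact ⟨c, hc.symm⟩
  have hcard : (Set.range f).ncard ≤ (P : Set (Cfsg.Sz F m)).ncard := by
    rw [Set.ncard_range_of_injective hfinj, Nat.card_eq_fintype_card, hF]
    have : (P : Set (Cfsg.Sz F m)).ncard = Nat.card P := rfl
    rw [this, hPq]
  have hPeq : (P : Set (Cfsg.Sz F m)) = Set.range f :=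
    Set.eq_of_subset_of_ncard_le hsub hcard (Set.toFinite _)
  intro c
  have : f c ∈ (P : Set (Cfsg.Sz F m)) := by rw [hPeq]; exact ⟨c, rfl⟩
  exact this

end Aux

theorem nq_sz {F : Type*} [Field F] [Fintype F] {m : ℕ} (hm : 1 ≤ m)
    (hF : Fintype.card F = 2 ^ (2 * m + 1)) (P : Subgroup (Cfsg.Sz F m))
    (hPc : ∀ y ∈ P, ∀ z ∈ P, y * z = z * y) (hPe : ∀ y ∈ P, y ^ 2 = 1)
    (hPq : Nat.card P = 2 ^ (2 * m + 1)) : UniqueEA 2 P := by
  classical
  have h2 : (2 : F) = 0 := two_eq_zero_of_card hF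
  have hSdef : ∀ z, (sgHom F m h2) z = z ^ 2 ^ (m + 1) := fun z => sgHom_apply m h2 z
  have hS : ∀ z, (sgHom F m h2) ((sgHom F m h2) z) = z ^ 2 := fun z => sgHom_sgHom hF h2 z
  obtain ⟨g, hPsub, hPmem⟩ := exists_conj_center hm hF h2 hS hSdef P hPc hPe hPq
  -- `N(P) ⊆ g Stab(∞) g⁻¹`
  have hNstab : ∀ n ∈ Subgroup.normalizer (P : Set (Cfsg.Sz F m)),
      (g⁻¹ * n * g) • ptInf F m = ptInf F m := by
    intro n hn
    have h1 : n * (g * uQ h2 hS hSdef 0 1 * g⁻¹) * n⁻¹ ∈ P :=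
      (Subgroup.mem_normalizer_iff.mp hn _).mp (hPmem 1)
    obtain ⟨c, hc⟩ := hPsub _ h1
    have e1 : n * (g * uQ h2 hS hSdef 0 1 * g⁻¹) * n⁻¹
        = (n * g) * uQ h2 hS hSdef 0 1 * (n * g)⁻¹ := by group
    have h3 : g • ptInf F m = (n * g) • ptInf F m := by
      apply fix_conj h2 hS hSdef (n * g) one_ne_zero
      rw [← e1, hc]
      exact conj_fixes h2 hS hSdef g c
    rw [mul_assoc, mul_smul, ← h3, inv_smul_smul]
  -- `g Stab(∞) g⁻¹ ⊆ N(P)`
  have hstabN : ∀ n : Cfsg.Sz F m, n • ptInf F m = ptInf F m →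
      g * n * g⁻¹ ∈ Subgroup.normalizer (P : Set (Cfsg.Sz F m)) := by
    intro n hn
    have hn' : n⁻¹ • ptInf F m = ptInf F m := by rw [inv_smul_eq_iff, hn]
    rw [Subgroup.mem_normalizer_iff]
    intro h
    constructor
    · intro hh
      obtain ⟨d, hd⟩ := hPsub h hh
      obtain ⟨d', hd'⟩ := stab_normalizes hm hF h2 hS hSdef hn d
      have : g * n * g⁻¹ * h * (g * n * g⁻¹)⁻¹ = g * uQ h2 hS hSdef 0 d' * g⁻¹ := by
        rw [← hd', hd]; group
      rw [this]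
      exact hPmem d'
    · intro hh
      obtain ⟨d, hd⟩ := hPsub _ hh
      obtain ⟨d', hd'⟩ := stab_normalizes hm hF h2 hS hSdef hn' d
      have : h = g * uQ h2 hS hSdef 0 d' * g⁻¹ := by
        rw [← hd']
        have e3 : h = (g * n * g⁻¹)⁻¹ * (g * n * g⁻¹ * h * (g * n * g⁻¹)⁻¹) * (g * n * g⁻¹) := by
          group
        rw [e3, hd]; group
      rw [this]
      exact hPmem d'
  intro V hVN hNV hVc hVe hV1
  apply le_antisymm
  · -- `V ≤ P`
    intro v hv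
    have hvfix := hNstab v (hVN hv)
    have hvv : v * v = 1 := by rw [← pow_two]; exact hVe v hv
    have h1 : (g⁻¹ * v * g) * (g⁻¹ * v * g) = 1 := by
      have : (g⁻¹ * v * g) * (g⁻¹ * v * g) = g⁻¹ * (v * v) * g := by group
      rw [this, hvv]; group
    obtain ⟨c, hc⟩ := inv_fix_inf hm hF h2 hS hSdef h1 hvfix
    have : v = g * uQ h2 hS hSdef 0 c * g⁻¹ := by rw [← hc]; group
    rw [this]
    exact hPmem c
  · -- `P ≤ V`
    obtain ⟨⟨v₀, hv₀⟩, hv₀1'⟩ := (Subgroup.ne_bot_iff_exists_ne_one).1 hV1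
    have hv₀1 : v₀ ≠ 1 := fun h => hv₀1' (Subtype.ext h)
    have hv₀fix := hNstab v₀ (hVN hv₀)
    have hvv : v₀ * v₀ = 1 := by rw [← pow_two]; exact hVe v₀ hv₀
    have h1 : (g⁻¹ * v₀ * g) * (g⁻¹ * v₀ * g) = 1 := by
      have : (g⁻¹ * v₀ * g) * (g⁻¹ * v₀ * g) = g⁻¹ * (v₀ * v₀) * g := by group
      rw [this, hvv]; group
    obtain ⟨c, hc⟩ := inv_fix_inf hm hF h2 hS hSdef h1 hv₀fix
    have hv₀c : v₀ = g * uQ h2 hS hSdef 0 c * g⁻¹ := by rw [← hc]; group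
    have hc0 : c ≠ 0 := by
      rintro rfl
      apply hv₀1
      rw [hv₀c, uQ_zero]; group
    intro y hy
    obtain ⟨c', hc'⟩ := hPsub y hy
    by_cases hc'0 : c' = 0
    · rw [hc', hc'0, uQ_zero]
      have : g * (1 : Cfsg.Sz F m) * g⁻¹ = 1 := by group
      rw [this]
      exact V.one_mem
    · obtain ⟨k, hk⟩ := exists_hQ_conj h2 hS hSdef c c' hc0 hc'0
      -- `k` fixes `∞`
      have hkfix : k • ptInf F m = ptInf F m := by
        have h3 : ptInf F m = k • ptInf F m := by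
          apply fix_conj h2 hS hSdef k hc0
          rw [← hk]
          exact uQ_smul_ptInf h2 hS hSdef 0 c'
        exact h3.symm
      have hkN : g * k * g⁻¹ ∈ Subgroup.normalizer (V : Set (Cfsg.Sz F m)) :=
        hNV (hstabN k hkfix)
      have h5 : g * k * g⁻¹ * v₀ * (g * k * g⁻¹)⁻¹ ∈ V :=
        (Subgroup.mem_normalizer_iff.mp hkN v₀).mp hv₀
      have h6 : g * k * g⁻¹ * v₀ * (g * k * g⁻¹)⁻¹ = y := by
        rw [hc', hk, hv₀c]; group
      rw [← h6]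
      exact h5

end Cfsg.Agent.Lib.Helper47_NQ_SZ
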