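import Mathlib
import Cfsg.Agent.Lib.Helper85_OO2_RankOne
import Cfsg.Agent.Lib.Helper85_OO2_INVOL

/-!
# S2344, wave 3, package OO2-B2CORE (abstract): `finrank F₂ ≤ 2` forces the torus to act trivially on `F₂`.
-/

set_option autoImplicit false

namespace Cfsg.Agent.Lib.Helper47_OO2_B2CORE

open Module Cfsg.Agent.Lib.Helper85_OO2_RankOne Cfsg.Agent.Lib.Helper85_OO2_INVOL

set_option linter.unusedSectionVars false
set_option linter.unusedVariables false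

variable {F : Type*} [Field F] [Fintype F] {X : Type*} [AddCommGroup X] [Module ℂ X]
  [FiniteDimensional ℂ X]

/-- the cardinality of a finite field is non-zero in `ℂ`. -/
theorem card_ne_zero : (Fintype.card F : ℂ) ≠ 0 := by
  have : 0 < Fintype.card F := Fintype.card_pos
  exact_mod_cast this.ne'

/-- OO2-B2CORE (statement verbatim from `pending/helper87/S2344_packages3.lean.txt`, PART J). -/
theorem b2_core (a0 : F) (ha0 : a0 ≠ 0)
    (hsq : ∀ a : F, a ≠ 0 → (∃ t : F, t ≠ 0 ∧ a = t ^ 2) ∨ (∃ t : F, t ≠ 0 ∧ a = a0 * t ^ 2))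
    (x1 x2 : F → Module.End ℂ X) (n1 n2 : Module.End ℂ X) (h12 h13 h23 : F → Module.End ℂ X)
    (F2 : Submodule ℂ X)
    (R1 : SL2Rel x1 n1 h12) (R2 : SL2Rel x2 n2 h23)
    (T1 : ∀ a : F, a ≠ 0 → h13 a = h12 a * h23 a)
    (T2 : ∀ a b : F, a ≠ 0 → b ≠ 0 → h12 a * h23 b = h23 b * h12 a)
    (T3b : ∀ a : F, a ≠ 0 → h23 a * n1 = n1 * h13 a)
    (T3d : ∀ a : F, a ≠ 0 → h12 a * n2 = n2 * h13 a)
    (T4b : ∀ a s : F, a ≠ 0 → h23 a * x1 s = x1 (a⁻¹ * s) * h23 a)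
    (T4c : ∀ a s : F, a ≠ 0 → h12 a * x2 s = x2 (a⁻¹ * s) * h12 a)
    (A1a : F2 ≤ fixX x1) (A1b : F2 ≤ fixX x2)
    (A5a : ∀ a : F, a ≠ 0 → ∀ y ∈ F2, h12 a y ∈ F2)
    (A5b : ∀ a : F, a ≠ 0 → ∀ y ∈ F2, h23 a y ∈ F2)
    (A6 : ∀ t : F, t ≠ 0 → ∀ y ∈ F2, h12 (t ^ 2) y = y ∧ h23 (t ^ 2) y = y)
    (AJ1 : ∀ y ∈ F2, Jop x1 n1 y ∈ F2) (AJ2 : ∀ y ∈ F2, Jop x2 n2 y ∈ F2)
    (hle : finrank ℂ ↥F2 ≤ 2) :
    ∀ a : F, a ≠ 0 → ∀ y ∈ F2, h12 a y = y ∧ h23 a y = y := by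
  have hq : (Fintype.card F : ℂ) ≠ 0 := card_ne_zero
  have ha0' : a0⁻¹ ≠ 0 := inv_ne_zero ha0
  -- `h (a0 * t^2) = h a0` on `F2`
  have h12mul : ∀ t : F, t ≠ 0 → ∀ y ∈ F2, h12 (a0 * t ^ 2) y = h12 a0 y := by
    intro t ht y hy
    rw [R1.h_mul a0 (t ^ 2) ha0 (pow_ne_zero 2 ht), Module.End.mul_apply, (A6 t ht y hy).1]
  have h23mul : ∀ t : F, t ≠ 0 → ∀ y ∈ F2, h23 (a0 * t ^ 2) y = h23 a0 y := by
    intro t ht y hy
    rw [R2.h_mul a0 (t ^ 2) ha0 (pow_ne_zero 2 ht), Module.End.mul_apply, (A6 t ht y hy).2]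
  have hinv_eq : a0⁻¹ = a0 * a0⁻¹ ^ 2 := by
    field_simp
  have h12inv : ∀ y ∈ F2, h12 a0⁻¹ y = h12 a0 y := by
    intro y hy
    have := h12mul a0⁻¹ ha0' y hy
    rwa [← hinv_eq] at this
  have h23inv : ∀ y ∈ F2, h23 a0⁻¹ y = h23 a0 y := by
    intro y hy
    have := h23mul a0⁻¹ ha0' y hy
    rwa [← hinv_eq] at this
  -- the restricted operators
  obtain ⟨σ₁, hσ₁⟩ : ∃ σ₁ : Module.End ℂ ↥F2, ∀ y : ↥F2, ((σ₁ y : ↥F2) : X) = h12 a0 y :=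
    ⟨(h12 a0).restrict (A5a a0 ha0), fun y => rfl⟩
  obtain ⟨σ₂, hσ₂⟩ : ∃ σ₂ : Module.End ℂ ↥F2, ∀ y : ↥F2, ((σ₂ y : ↥F2) : X) = h23 a0 y :=
    ⟨(h23 a0).restrict (A5b a0 ha0), fun y => rfl⟩
  obtain ⟨J₁, hJ₁⟩ : ∃ J₁ : Module.End ℂ ↥F2, ∀ y : ↥F2, ((J₁ y : ↥F2) : X) = Jop x1 n1 y :=
    ⟨(Jop x1 n1).restrict AJ1, fun y => rfl⟩
  obtain ⟨J₂, hJ₂⟩ : ∃ J₂ : Module.End ℂ ↥F2, ∀ y : ↥F2, ((J₂ y : ↥F2) : X) = Jop x2 n2 y :=
    ⟨(Jop x2 n2).restrict AJ2, fun y => rfl⟩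
  -- the operator identities
  have e_a1 : h12 a0⁻¹ * Jop x1 n1 = Jop x1 n1 * h12 a0 := J_h R1 ha0
  have e_b1 : h23 a0⁻¹ * Jop x2 n2 = Jop x2 n2 * h23 a0 := J_h R2 ha0
  have e_a2 : h23 a0 * Jop x1 n1 = Jop x1 n1 * (h12 a0 * h23 a0) := by
    rw [← T1 a0 ha0]
    exact tau_J (c := a0⁻¹) ha0' (fun s => T4b a0 s ha0) (T3b a0 ha0)
  have e_b2 : h12 a0 * Jop x2 n2 = Jop x2 n2 * (h12 a0 * h23 a0) := by
    rw [← T1 a0 ha0]
    exact tau_J (c := a0⁻¹) ha0' (fun s => T4c a0 s ha0) (T3d a0 ha0)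
  have D : InvData σ₁ σ₂ J₁ J₂ := by
    refine ⟨?_, ?_, ?_, ?_, ?_, ?_, ?_, ?_, ?_⟩
    · -- s11
      refine LinearMap.ext fun y => Subtype.ext ?_
      rw [Module.End.mul_apply, hσ₁, hσ₁, Module.End.one_apply]
      have h1 := (A6 a0 ha0 y y.2).1
      rw [pow_two, R1.h_mul a0 a0 ha0 ha0, Module.End.mul_apply] at h1
      exact h1
    · -- s22
      refine LinearMap.ext fun y => Subtype.ext ?_
      rw [Module.End.mul_apply, hσ₂, hσ₂, Module.End.one_apply]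
      have h1 := (A6 a0 ha0 y y.2).2
      rw [pow_two, R2.h_mul a0 a0 ha0 ha0, Module.End.mul_apply] at h1
      exact h1
    · -- comm
      refine LinearMap.ext fun y => Subtype.ext ?_
      rw [Module.End.mul_apply, Module.End.mul_apply, hσ₁, hσ₂, hσ₂, hσ₁]
      have := congrArg (fun f => f (y : X)) (T2 a0 a0 ha0 ha0)
      simpa only [Module.End.mul_apply] using this
    · -- inj1
      intro y hy
      have h1 : Jop x1 n1 (y : X) = 0 := by rw [← hJ₁, hy]; rfl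
      exact Subtype.ext (J_inj R1 hq (A1a y.2) h1)
    · -- inj2
      intro y hy
      have h1 : Jop x2 n2 (y : X) = 0 := by rw [← hJ₂, hy]; rfl
      exact Subtype.ext (J_inj R2 hq (A1b y.2) h1)
    · -- a1
      refine LinearMap.ext fun y => Subtype.ext ?_
      rw [Module.End.mul_apply, Module.End.mul_apply, hσ₁, hJ₁, hJ₁, hσ₁]
      rw [← h12inv _ (AJ1 y y.2)]
      have := congrArg (fun f => f (y : X)) e_a1
      simpa only [Module.End.mul_apply] using this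
    · -- a2
      refine LinearMap.ext fun y => Subtype.ext ?_
      rw [Module.End.mul_apply, Module.End.mul_apply, Module.End.mul_apply, hσ₂, hJ₁, hJ₁, hσ₁, hσ₂]
      have := congrArg (fun f => f (y : X)) e_a2
      simpa only [Module.End.mul_apply] using this
    · -- b1
      refine LinearMap.ext fun y => Subtype.ext ?_
      rw [Module.End.mul_apply, Module.End.mul_apply, hσ₂, hJ₂, hJ₂, hσ₂]
      rw [← h23inv _ (AJ2 y y.2)]
      have := congrArg (fun f => f (y : X)) e_b1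
      simpa only [Module.End.mul_apply] using this
    · -- b2
      refine LinearMap.ext fun y => Subtype.ext ?_
      rw [Module.End.mul_apply, Module.End.mul_apply, Module.End.mul_apply, hσ₁, hJ₂, hJ₂, hσ₁, hσ₂]
      have := congrArg (fun f => f (y : X)) e_b2
      simpa only [Module.End.mul_apply] using this
  obtain ⟨t1, t2⟩ := D.trivial_of_finrank_le_two hle
  have k1 : ∀ y ∈ F2, h12 a0 y = y := by
    intro y hy
    have := hσ₁ ⟨y, hy⟩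
    rw [t1] at this
    exact this.symm
  have k2 : ∀ y ∈ F2, h23 a0 y = y := by
    intro y hy
    have := hσ₂ ⟨y, hy⟩
    rw [t2] at this
    exact this.symm
  intro a ha y hy
  rcases hsq a ha with ⟨t, ht, rfl⟩ | ⟨t, ht, rfl⟩
  · exact A6 t ht y hy
  · exact ⟨by rw [h12mul t ht y hy, k1 y hy], by rw [h23mul t ht y hy, k2 y hy]⟩

end Cfsg.Agent.Lib.Helper47_OO2_B2CORE
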