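import Mathlib
import Cfsg.Agent.Lib.Helper85_OO2_RankOne

/-!
# S2344, wave 3, package OO2-HECKE (abstract rank-one lemma)

`y` fixed by the `x s` and by the torus, `J y = q y`  ⟹  `n y = y`.
-/

set_option autoImplicit false

namespace Cfsg.Agent.Lib.Helper47_OO2_HECKE

open Module Cfsg.Agent.Lib.Helper85_OO2_RankOne

set_option linter.unusedSectionVars false

variable {F : Type*} [Field F] [Fintype F] {X : Type*} [AddCommGroup X] [Module ℂ X]

/-- `n (n z) = h (-1) z`. -/
theorem nn_apply {x : F → Module.End ℂ X} {n : Module.End ℂ X} {h : F → Module.End ℂ X}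
    (R : SL2Rel x n h) (z : X) : n (n z) = h (-1) z := by
  have := congrArg (fun f => f z) R.nn
  simpa only [Module.End.mul_apply] using this

/-- `n⁴ = 1`. -/
theorem n_four_apply {x : F → Module.End ℂ X} {n : Module.End ℂ X} {h : F → Module.End ℂ X}
    (R : SL2Rel x n h) (z : X) : n (n (n (n z))) = z := by
  rw [nn_apply R, nn_apply R]
  have := congrArg (fun f => f z) (h_neg_one_sq R)
  simpa only [Module.End.mul_apply, Module.End.one_apply] using this

/-- the sum over the non-zero `s` of `g (-s⁻¹)` equals the sum of `g s`. -/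
theorem sum_erase_neg_inv {A : Type*} [AddCommMonoid A] [DecidableEq F] (g : F → A) :
    ∑ s ∈ Finset.univ.erase (0 : F), g (-s⁻¹) = ∑ s ∈ Finset.univ.erase (0 : F), g s := by
  refine Finset.sum_nbij' (fun s => -s⁻¹) (fun s => -s⁻¹) ?_ ?_ ?_ ?_ ?_
  · intro s hs
    have hs0 : s ≠ 0 := by simpa using hs
    simpa using hs0
  · intro s hs
    have hs0 : s ≠ 0 := by simpa using hs
    simpa using hs0
  · intro s _
    simp
  · intro s _
    simp
  · intro s _
    rfl

variable [FiniteDimensional ℂ X]

/-- OO2-HECKE (statement verbatim from `pending/helper87/S2344_packages3.lean.txt`, PART J). -/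
theorem hecke_triv (x : F → Module.End ℂ X) (n : Module.End ℂ X) (h : F → Module.End ℂ X)
    (R : SL2Rel x n h) (hq : 2 ≤ Fintype.card F) (y : X) (hy : y ∈ fixX x)
    (hh : ∀ t : F, t ≠ 0 → h t y = y) (hJ : Jop x n y = (Fintype.card F : ℂ) • y) : n y = y := by
  classical
  -- the relation applied to `y`
  have hrel : ∀ s : F, s ≠ 0 → n (x s (n y)) = x (-s⁻¹) (n y) := by
    intro s hs
    have h1 := congrArg (fun f => f y) (R.rel s hs)
    simp only [Module.End.mul_apply] at h1
    rw [hy _, hh (-s) (neg_ne_zero.mpr hs)] at h1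
    exact h1
  obtain ⟨y', hy'⟩ : ∃ y' : X, y' = n y - y := ⟨_, rfl⟩
  -- `P y' = 0`
  have hPop : Pop x y' = 0 := by
    rw [hy', map_sub, Pop_of_mem_fixX hy]
    have : Pop x (n y) = Jop x n y := rfl
    rw [this, hJ, sub_self]
  -- the relation for `y'`
  have hrel' : ∀ s : F, s ≠ 0 → n (x s y') = x (-s⁻¹) y' - y' := by
    intro s hs
    rw [hy', map_sub, map_sub, map_sub, hy _, hy _, hrel s hs]
    abel
  -- sum of `x s y'` over `s ≠ 0`
  have hsum0 : ∑ s ∈ Finset.univ.erase (0 : F), x s y' = - y' := by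
    have h1 : ∑ s : F, x s y' = 0 := by rw [← Pop_apply]; exact hPop
    rw [← Finset.add_sum_erase Finset.univ (fun s => x s y') (Finset.mem_univ (0 : F))] at h1
    rw [R.x_zero, Module.End.one_apply] at h1
    exact (eq_neg_of_add_eq_zero_right h1)
  -- sum the relation
  have hcard : (Finset.univ.erase (0 : F)).card = Fintype.card F - 1 := by
    rw [Finset.card_erase_of_mem (Finset.mem_univ _), Finset.card_univ]
  have hkey : n y' = (Fintype.card F : ℂ) • y' := by
    have h1 : ∑ s ∈ Finset.univ.erase (0 : F), n (x s y') =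
        ∑ s ∈ Finset.univ.erase (0 : F), (x (-s⁻¹) y' - y') := by
      apply Finset.sum_congr rfl
      intro s hs
      exact hrel' s (by simpa using hs)
    rw [← map_sum, hsum0, Finset.sum_sub_distrib, sum_erase_neg_inv (fun s => x s y'), hsum0,
      Finset.sum_const, hcard, map_neg] at h1
    have h2 : ((Fintype.card F - 1 : ℕ) : ℂ) = (Fintype.card F : ℂ) - 1 := by
      rw [Nat.cast_sub (by omega)]; simp
    rw [← Nat.cast_smul_eq_nsmul ℂ, h2, sub_smul, one_smul] at h1
    have h3 : n y' = -(-n y') := by rw [neg_neg]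
    rw [h3, h1]
    abel
  -- `n⁴ = 1`
  have h4 := n_four_apply R y'
  simp only [hkey, map_smul, smul_smul] at h4
  have hy0 : y' = 0 := by
    by_contra hne
    have h5 : ((Fintype.card F : ℂ) * (Fintype.card F : ℂ) * (Fintype.card F : ℂ) * (Fintype.card F : ℂ) - 1) • y' = 0 := by
      rw [sub_smul, one_smul, h4, sub_self]
    rcases smul_eq_zero.mp h5 with h6 | h6
    · have h7 : ((Fintype.card F * (Fintype.card F * (Fintype.card F * Fintype.card F)) : ℕ) : ℂ) = ((1 : ℕ) : ℂ) := by
        push_cast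
        linear_combination h6
      have h8 := Nat.cast_injective h7
      have h9 : 2 * (2 * (2 * 2)) ≤ Fintype.card F * (Fintype.card F * (Fintype.card F * Fintype.card F)) :=
        Nat.mul_le_mul hq (Nat.mul_le_mul hq (Nat.mul_le_mul hq hq))
      omega
    · exact hne h6
  rw [hy'] at hy0
  exact sub_eq_zero.mp hy0

end Cfsg.Agent.Lib.Helper47_OO2_HECKE
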