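import Mathlib
import Cfsg.Agent.Lib.Helper85_OO2_RankOne
import Cfsg.Agent.Lib.Helper85_OO2_LemK

set_option autoImplicit false

/-!
Complement to `Helper85_OO2_LemK` (S2344, helper85): in the situation of Lemma K the operators `n` and
`h t` (`t ≠ 0`) act trivially on `N / Z₀` too.
-/

namespace Cfsg.Agent.Lib.Helper85_OO2_RankOne

open Module

set_option linter.unusedSectionVars false

variable {F : Type*} [Field F] [Fintype F] {M : Type*} [AddCommGroup M] [Module ℂ M]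

/-- `h(-1)` commutes with every `x s`. -/
theorem SL2Rel.h_neg_one_x {x : F → Module.End ℂ M} {n : Module.End ℂ M} {h : F → Module.End ℂ M}
    (R : SL2Rel x n h) (s : F) : h (-1) * x s = x s * h (-1) := by
  have := R.hx (-1) s (by simp)
  simpa using this

theorem SL2Rel.x_neg_mul {x : F → Module.End ℂ M} {n : Module.End ℂ M} {h : F → Module.End ℂ M}
    (R : SL2Rel x n h) (s : F) : x (-s) * x s = 1 := by
  rw [← R.x_add, neg_add_cancel, R.x_zero]

theorem SL2Rel.x_mul_neg {x : F → Module.End ℂ M} {n : Module.End ℂ M} {h : F → Module.End ℂ M}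
    (R : SL2Rel x n h) (s : F) : x s * x (-s) = 1 := by
  rw [← R.x_add, add_neg_cancel, R.x_zero]

/-- `n = x(1) (n x(1) n⁻¹) x(1)`, `n⁻¹ = n h(-1)`. -/
theorem SL2Rel.n_eq {x : F → Module.End ℂ M} {n : Module.End ℂ M} {h : F → Module.End ℂ M}
    (R : SL2Rel x n h) : n = x 1 * (n * x 1 * (n * h (-1))) * x 1 := by
  have h1 : n * x 1 * n = x (-1) * n * h (-1) * x (-1) := by
    have := R.rel 1 one_ne_zero
    simpa using this
  have h2 : x 1 * (n * x 1 * (n * h (-1))) * x 1 = x 1 * (n * x 1 * n) * (h (-1) * x 1) := by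
    simp only [mul_assoc]
  rw [h2, h1, R.h_neg_one_x]
  have h3 : x 1 * (x (-1) * n * h (-1) * x (-1)) * (x 1 * h (-1)) =
      (x 1 * x (-1)) * n * h (-1) * (x (-1) * x 1) * h (-1) := by
    simp only [mul_assoc]
  rw [h3, R.x_mul_neg, R.x_neg_mul, one_mul, mul_one, mul_assoc, h_neg_one_sq R, mul_one]

theorem SL2Rel.n_pow_four {x : F → Module.End ℂ M} {n : Module.End ℂ M} {h : F → Module.End ℂ M}
    (R : SL2Rel x n h) : n * n * n * n = 1 := by
  rw [mul_assoc (n * n), R.nn, h_neg_one_sq R]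

/-- `h(-s) = n³ x(1/s) n x(s) n x(1/s)`. -/
theorem SL2Rel.h_eq {x : F → Module.End ℂ M} {n : Module.End ℂ M} {h : F → Module.End ℂ M}
    (R : SL2Rel x n h) {s : F} (hs : s ≠ 0) :
    h (-s) = n * n * n * x s⁻¹ * n * x s * n * x s⁻¹ := by
  have h1 : x s⁻¹ * n * x s * n * x s⁻¹ = n * h (-s) := by
    have h2 : x s⁻¹ * n * x s * n * x s⁻¹ = x s⁻¹ * (n * x s * n) * x s⁻¹ := by
      simp only [mul_assoc]
    rw [h2, R.rel s hs]
    have h3 : x s⁻¹ * (x (-s⁻¹) * n * h (-s) * x (-s⁻¹)) * x s⁻¹ =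
        (x s⁻¹ * x (-s⁻¹)) * n * h (-s) * (x (-s⁻¹) * x s⁻¹) := by
      simp only [mul_assoc]
    rw [h3, R.x_mul_neg, R.x_neg_mul, one_mul, mul_one]
  have h4 : n * n * n * x s⁻¹ * n * x s * n * x s⁻¹ =
      n * n * n * (x s⁻¹ * n * x s * n * x s⁻¹) := by
    simp only [mul_assoc]
  rw [h4, h1, ← mul_assoc, R.n_pow_four, one_mul]

/-- `n` acts trivially on `N / Z₀`. -/
theorem KData.n_mem_Triv {ψ : AddChar F ℂ} {x : F → Module.End ℂ M} {n : Module.End ℂ M}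
    {h : F → Module.End ℂ M} {N : Submodule ℂ M} {y₀ : M} (D : KData ψ x n h N y₀) :
    n ∈ Triv N (Z0 x n y₀) := by
  have h1 := D.R.n_eq
  have h2 : x 1 * (n * x 1 * (n * h (-1))) * x 1 ∈ Triv N (Z0 x n y₀) :=
    Submonoid.mul_mem _ (Submonoid.mul_mem _ (D.x_mem_Triv 1) (D.opp_mem_Triv 1)) (D.x_mem_Triv 1)
  rw [← h1] at h2
  exact h2

/-- `h t`, `t ≠ 0`, acts trivially on `N / Z₀`. -/
theorem KData.h_mem_Triv {ψ : AddChar F ℂ} {x : F → Module.End ℂ M} {n : Module.End ℂ M}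
    {h : F → Module.End ℂ M} {N : Submodule ℂ M} {y₀ : M} (D : KData ψ x n h N y₀) {t : F}
    (ht : t ≠ 0) : h t ∈ Triv N (Z0 x n y₀) := by
  have hs : -t ≠ 0 := neg_ne_zero.mpr ht
  have h1 := D.R.h_eq hs
  rw [neg_neg] at h1
  rw [h1]
  have hn := D.n_mem_Triv
  have hx := D.x_mem_Triv
  exact Submonoid.mul_mem _ (Submonoid.mul_mem _ (Submonoid.mul_mem _ (Submonoid.mul_mem _
    (Submonoid.mul_mem _ (Submonoid.mul_mem _ (Submonoid.mul_mem _ hn hn) hn) (hx _)) hn) (hx _)) hn)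
    (hx _)

end Cfsg.Agent.Lib.Helper85_OO2_RankOne
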