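import Mathlib
import Cfsg.Agent.Lib.Helper85_OO2_RankOne
import Cfsg.Agent.Lib.Helper85_OO2_LemK
import Cfsg.Agent.Lib.Helper85_OO2_LemK2
import Cfsg.Agent.Lib.Helper47_OO2_HECKE

/-!
# S2344, wave 3, package OO2-B4CORE (abstract): torus trivial on `F₂` and no non-zero `n₂`-fixed vector in `F₂`
force `finrank F₂ ≤ 1`.
-/

set_option autoImplicit false

namespace Cfsg.Agent.Lib.Helper47_OO2_B4CORE

open Module Cfsg.Agent.Lib.Helper85_OO2_RankOne Cfsg.Agent.Lib.Helper47_OO2_HECKE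

set_option linter.unusedSectionVars false
set_option linter.unusedVariables false

variable {F : Type*} [Field F] [Fintype F] {X : Type*} [AddCommGroup X] [Module ℂ X]
  [FiniteDimensional ℂ X]

/-- the cardinality of a finite field is non-zero in `ℂ`. -/
theorem card_ne_zero' : (Fintype.card F : ℂ) ≠ 0 := by
  have : 0 < Fintype.card F := Fintype.card_pos
  exact_mod_cast this.ne'

/-- OO2-B4CORE (statement verbatim from `pending/helper87/S2344_packages3.lean.txt`, PART J). -/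
theorem b4_core (ψ : AddChar F ℂ) (hψ : ψ.IsPrimitive)
    (x2 : F → Module.End ℂ X) (n2 : Module.End ℂ X) (h12 h13 h23 : F → Module.End ℂ X)
    (F2 M2 : Submodule ℂ X) (R2 : SL2Rel x2 n2 h23)
    (T1 : ∀ a : F, a ≠ 0 → h13 a = h12 a * h23 a)
    (T3d : ∀ a : F, a ≠ 0 → h12 a * n2 = n2 * h13 a)
    (T4c : ∀ a s : F, a ≠ 0 → h12 a * x2 s = x2 (a⁻¹ * s) * h12 a)
    (hinv12 : ∀ a : F, a ≠ 0 → h12 a⁻¹ * h12 a = 1)
    (A1b : F2 ≤ fixX x2) (A1d : F2 ≤ M2) (A2b : ∀ m ∈ M2, m ∈ fixX x2 → m ∈ F2)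
    (A3a : ∀ s : F, ∀ m ∈ M2, x2 s m ∈ M2) (A3b : ∀ m ∈ M2, n2 m ∈ M2)
    (A3c : ∀ a : F, a ≠ 0 → ∀ m ∈ M2, h23 a m ∈ M2)
    (A4 : ∀ c : F, c ≠ 0 → ∀ m ∈ M2, ∀ m' ∈ M2, (∀ s : F, x2 s m = ψ (c * s) • m) →
      (∀ s : F, x2 s m' = ψ (c * s) • m') → m' ≠ 0 → ∃ a : ℂ, m = a • m')
    (triv : ∀ a : F, a ≠ 0 → ∀ y ∈ F2, h12 a y = y ∧ h23 a y = y)
    (nofix : ∀ y ∈ F2, n2 y = y → y = 0) :
    finrank ℂ ↥F2 ≤ 1 := by
  classical
  have hq : (Fintype.card F : ℂ) ≠ 0 := card_ne_zero'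
  have hq2 : 2 ≤ Fintype.card F := Fintype.one_lt_card
  have hm1 : (-1 : F) ≠ 0 := by simp
  -- `J₂` preserves `F₂`
  have AJ2 : ∀ y ∈ F2, Jop x2 n2 y ∈ F2 := by
    intro y hy
    apply A2b _ ?_ (Jop_mem_fixX R2.x_add n2 y)
    rw [Jop_apply]
    exact M2.sum_mem fun s _ => A3a s _ (A3b _ (A1d hy))
  -- a vector of `F₂` whose `n₂`-image is `X₂`-fixed is zero
  have hA : ∀ y0 ∈ F2, n2 y0 ∈ fixX x2 → y0 = 0 := by
    intro y0 hy0 hn
    apply nofix y0 hy0
    have h1 := congrArg (fun f => f y0) (R2.rel 1 one_ne_zero)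
    simp only [Module.End.mul_apply] at h1
    rw [hn 1, (A1b hy0) _, (triv (-1) hm1 y0 hy0).2, hn _, nn_apply R2,
      (triv (-1) hm1 y0 hy0).2] at h1
    exact h1.symm
  -- `eop` preserves `M₂`
  have hm : ∀ c : F, ∀ z ∈ M2, eop ψ x2 c z ∈ M2 := by
    intro c z hz
    rw [eop_apply]
    exact M2.smul_mem _ (M2.sum_mem fun s _ => M2.smul_mem _ (A3a s z hz))
  -- Lemma K data
  have hK : ∀ y0 ∈ F2, y0 ≠ 0 → KData ψ x2 n2 h23 M2 y0 := by
    intro y0 hy0 hne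
    have hnf : n2 y0 ∉ fixX x2 := fun hn => hne (hA y0 hy0 hn)
    obtain ⟨c0, hc0, hc0'⟩ := exists_eop_ne_zero hψ R2.x_zero R2.x_add hq hnf
    have hall : ∀ c : F, c ≠ 0 → eop ψ x2 c (n2 y0) ≠ 0 := by
      intro c hc
      have ha : c / c0 ≠ 0 := div_ne_zero hc hc0
      have hinj : ∀ z, h12 (c / c0) z = 0 → z = 0 := by
        intro z hz
        have := congrArg (fun f => f z) (hinv12 _ ha)
        simp only [Module.End.mul_apply, Module.End.one_apply] at this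
        rw [hz, map_zero] at this
        exact this.symm
      have hτ' : h13 (c / c0) y0 = (1 : ℂ) • y0 := by
        rw [T1 _ ha, Module.End.mul_apply, (triv _ ha y0 hy0).2, (triv _ ha y0 hy0).1, one_smul]
      have key := eop_n_ne_zero_of_tau ψ (τ := h12 (c / c0)) (τ' := h13 (c / c0))
        (d := (c / c0)⁻¹) (inv_ne_zero ha) (fun s => T4c _ s ha) (T3d _ ha) hinj hτ' hc0'
      have e : c0 / (c / c0)⁻¹ = c := by field_simp
      rwa [e] at key
    exact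
      { R := R2
        hψ := hψ
        hq := hq
        Nx := A3a
        Nn := A3b
        Nh := A3c (-1) hm1
        y₀N := A1d hy0
        y₀fix := A1b hy0
        y₀h := fun t ht => ⟨1, by rw [(triv t ht y0 hy0).2, one_smul]⟩
        line := fun c hc y hy =>
          A4 c hc _ (hm c y hy) _ (hm c _ (A3b _ (A1d hy0)))
            (fun s => x_eop_apply ψ R2.x_add c s y) (fun s => x_eop_apply ψ R2.x_add c s _)
            (hall c hc) }
  by_contra hlt
  push Not at hlt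
  have hpos : 0 < finrank ℂ ↥F2 := by omega
  have hnt : Nontrivial ↥F2 := Module.nontrivial_of_finrank_pos (R := ℂ) hpos
  -- the restriction of `J₂`
  obtain ⟨J₂, hJ₂⟩ : ∃ J₂ : Module.End ℂ ↥F2, ∀ y : ↥F2, ((J₂ y : ↥F2) : X) = Jop x2 n2 y :=
    ⟨(Jop x2 n2).restrict AJ2, fun y => rfl⟩
  obtain ⟨μ, hμ⟩ := Module.End.exists_eigenvalue J₂
  obtain ⟨v, hv⟩ := hμ.exists_hasEigenvector
  have hv0 : v ≠ 0 := hv.2
  have hy0 : (v : X) ∈ F2 := v.2
  have hne : (v : X) ≠ 0 := fun h => hv0 (Subtype.ext h)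
  have hJy0 : Jop x2 n2 (v : X) = μ • (v : X) := by
    rw [← hJ₂, hv.apply_eq_smul]; rfl
  have D := hK _ hy0 hne
  have hTriv := D.n_mem_Triv
  -- `(q⁻¹ J₂ - 1) F₂ ≤ ℂ y₀`
  have hspan : ∀ y ∈ F2, (Fintype.card F : ℂ)⁻¹ • Jop x2 n2 y - y ∈ Submodule.span ℂ {(v : X)} := by
    intro y hy
    have h1 : n2 y - y ∈ Z0 x2 n2 (v : X) := hTriv.2.2 y (A1d hy)
    have h2 : eop ψ x2 0 (n2 y - y) ∈ Z0 x2 n2 (v : X) := by
      rw [eop_apply]
      exact Submodule.smul_mem _ _ (Submodule.sum_mem _ fun s _ =>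
        Submodule.smul_mem _ _ (x_Z0 R2.x_add n2 D.y₀fix s h1))
    have h3 : eop ψ x2 0 (n2 y - y) = (Fintype.card F : ℂ)⁻¹ • Jop x2 n2 y - y := by
      rw [map_sub, eop_zero_of_mem_fixX ψ hq (A1b hy), eop_zero, LinearMap.smul_apply]
      rfl
    have h4 : (Fintype.card F : ℂ)⁻¹ • Jop x2 n2 y - y ∈ fixX x2 :=
      (fixX x2).sub_mem ((fixX x2).smul_mem _ (Jop_mem_fixX R2.x_add n2 y)) (A1b hy)
    rw [h3] at h2
    have h5 := Z0_fix R2.x_add hq n2 D.y₀fix h2 h4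
    rw [hJy0] at h5
    have hle : Submodule.span ℂ {(v : X), μ • (v : X)} ≤ Submodule.span ℂ {(v : X)} := by
      rw [Submodule.span_le]
      intro z hz
      rcases hz with rfl | hz
      · exact Submodule.mem_span_singleton_self _
      · rw [Set.mem_singleton_iff] at hz
        rw [hz]
        exact Submodule.smul_mem _ _ (Submodule.mem_span_singleton_self _)
    exact hle h5
  -- the operator `L = J₂ - q`
  obtain ⟨L, hL⟩ : ∃ L : Module.End ℂ ↥F2, L = J₂ - (Fintype.card F : ℂ) • (1 : Module.End ℂ ↥F2) :=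
    ⟨_, rfl⟩
  have hLapp : ∀ y : ↥F2, ((L y : ↥F2) : X) = Jop x2 n2 y - (Fintype.card F : ℂ) • (y : X) := by
    intro y
    rw [hL, LinearMap.sub_apply, LinearMap.smul_apply, Module.End.one_apply, Submodule.coe_sub,
      Submodule.coe_smul, hJ₂]
  have hrange : LinearMap.range L ≤ Submodule.span ℂ {v} := by
    rintro w ⟨y, rfl⟩
    have h1 := hspan y y.2
    obtain ⟨a, ha⟩ := Submodule.mem_span_singleton.mp h1
    rw [Submodule.mem_span_singleton]
    refine ⟨(Fintype.card F : ℂ) * a, Subtype.ext ?_⟩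
    rw [Submodule.coe_smul, hLapp, mul_smul, ha, smul_sub, smul_smul, mul_inv_cancel₀ hq, one_smul]
  have hr1 : finrank ℂ ↥(LinearMap.range L) ≤ 1 := by
    have := Submodule.finrank_mono hrange
    rwa [finrank_span_singleton hv0] at this
  have hrk := LinearMap.finrank_range_add_finrank_ker L
  have hker : 0 < finrank ℂ ↥(LinearMap.ker L) := by omega
  obtain ⟨w, hw⟩ := Module.finrank_pos_iff_exists_ne_zero.mp hker
  have hw0 : ((w : ↥F2) : X) ≠ 0 := by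
    intro h
    apply hw
    exact Subtype.ext (Subtype.ext h)
  have hLw : L (w : ↥F2) = 0 := w.2
  have hJw : Jop x2 n2 ((w : ↥F2) : X) = (Fintype.card F : ℂ) • ((w : ↥F2) : X) := by
    have := hLapp (w : ↥F2)
    rw [hLw] at this
    exact (sub_eq_zero.mp this.symm)
  have hwF : ((w : ↥F2) : X) ∈ F2 := (w : ↥F2).2
  have hnw := hecke_triv x2 n2 h23 R2 hq2 _ (A1b hwF) (fun t ht => (triv t ht _ hwF).2) hJw
  exact hw0 (nofix _ hwF hnw)

end Cfsg.Agent.Lib.Helper47_OO2_B4CORE
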