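import Mathlib
import Cfsg.Agent.Lib.Helper38_OTDefs
import Cfsg.Agent.Lib.Helper17_UT_BAS1
import Cfsg.Agent.Lib.Helper44_UT_BAS4
import Cfsg.Agent.Lib.Helper42_UT_BAS6

set_option autoImplicit false
set_option linter.unusedSectionVars false
set_option linter.unusedVariables false

/-!
# OTENS4 package OT-QCOMM (architect helper38), hypothesis form

`qcommO_of`: `M ∩ Q_ℓ = Q_x ⊗ 1` (QCOMM of `pending/helper38/OTENS4_proof.md`) with the statements
of the packages QA1-QA4, ALGO, ALGEA, ALGEB, ALGEC, ZF (`radO_apply`), KMEM (`tmE_mem`) as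
hypotheses.  The verbatim `qcommO` is in `Helper47_OT_QCOMM`.
-/

namespace Cfsg.Agent.Lib.Helper47_OT_QCOMMaux

open Matrix Module
open Cfsg.Agent.Lib.Helper98_ExtDefs Cfsg.Agent.Lib.Helper97_TensDefs
open Cfsg.Agent.Lib.Helper94_Herm
open Cfsg.Agent.Lib.Helper67_UT2Defs Cfsg.Agent.Lib.Helper37_UTDefs
open Cfsg.Agent.Lib.Helper37_UTPairDefs
open Cfsg.Agent.Lib.Helper94_OrthSmall Cfsg.Agent.Lib.Helper94_OrthSiegel
open Cfsg.Agent.Lib.Helper67_T2ODefs (IsAltMap aw)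
open Cfsg.Agent.Lib.Helper38_OTDefs
open Cfsg.Agent.Lib.Helper17_UT_BAS1 Cfsg.Agent.Lib.Helper44_UT_BAS4

variable {F : Type*} [Field F] {ι κ : Type*} [Fintype ι] [Fintype κ] [DecidableEq ι]
  [DecidableEq κ]
variable {α : LinearMap.BilinForm F (ι → F)} {β : LinearMap.BilinForm F (κ → F)}
variable {Q : Matrix ι κ F → F} {M : Subgroup (Matrix ι κ F ≃ₗ[F] Matrix ι κ F)}

/-- an alternating form is skew -/
theorem alt_swap {W : Type*} [AddCommGroup W] [Module F W] {ω : LinearMap.BilinForm F W}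
    (hω : ∀ x, ω x x = 0) (x y : W) : ω x y = - ω y x := by
  have h := hω (x + y)
  simp only [map_add, LinearMap.add_apply, hω x, hω y] at h
  linear_combination h

/-- a vector orthogonal to everything (on the left) is zero -/
theorem eq_zero_of_forall {W : Type*} [AddCommGroup W] [Module F W]
    {b : LinearMap.BilinForm F W} (hN : NondegOn b ⊤) {v : W} (h : ∀ w, b v w = 0) : v = 0 := by
  by_contra hv
  obtain ⟨y, -, hy⟩ := hN v Submodule.mem_top hv
  exact hy (h y)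

theorem exists_dual_vec {W : Type*} [AddCommGroup W] [Module F W]
    {b : LinearMap.BilinForm F W} (hN : NondegOn b ⊤) {x : W} (hx0 : x ≠ 0) :
    ∃ xs : W, b x xs = 1 := by
  obtain ⟨y, -, hy⟩ := hN x Submodule.mem_top hx0
  refine ⟨(b x y)⁻¹ • y, ?_⟩
  rw [map_smul, smul_eq_mul, inv_mul_cancel₀ hy]

theorem vecMulVec_inj {x : ι → F} (hx0 : x ≠ 0) {w w' : κ → F}
    (h : vecMulVec x w = vecMulVec x w') : w = w' := by
  obtain ⟨i, hi⟩ : ∃ i, x i ≠ 0 := by
    by_contra hcon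
    push Not at hcon
    exact hx0 (funext hcon)
  ext j
  have := congrFun (congrFun h i) j
  rw [vecMulVec_apply, vecMulVec_apply] at this
  exact mul_left_cancel₀ hi this

/-- the double orthogonal of a vector for an alternating form -/
theorem eq_smul_of_perp (hα : ∀ x, α x x = 0) (hαN : NondegOn α ⊤) {x xs : ι → F}
    (hxxs : α x xs = 1) {a : ι → F}
    (h : ∀ e : ι → F, α e x = 0 → α a e = 0) : a = α a xs • x := by
  have hxsx : α xs x = -1 := by rw [alt_swap hα xs x, hxxs]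
  have key : a - α a xs • x = 0 := by
    apply eq_zero_of_forall hαN
    intro z
    obtain ⟨e, he⟩ : ∃ e : ι → F, e = z + α z x • xs := ⟨_, rfl⟩
    have hz : z = e - α z x • xs := by rw [he]; abel
    have hex : α e x = 0 := by
      rw [he, map_add, map_smul, LinearMap.add_apply, LinearMap.smul_apply, hxsx, smul_eq_mul]
      ring
    have hxe : α x e = 0 := by rw [alt_swap hα x e, hex, neg_zero]
    rw [hz]
    simp only [map_sub, map_smul, LinearMap.sub_apply, LinearMap.smul_apply, smul_eq_mul, h e hex,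
      hxe, hxxs]
    ring
  exact sub_eq_zero.mp key

/-- a matrix is the sum of its columns tensor the standard basis vectors -/
theorem eq_sum_cols (Y : Matrix ι κ F) :
    Y = ∑ j, vecMulVec (colv Y j) (Pi.single j (1 : F) : κ → F) := by
  ext i l
  rw [Matrix.sum_apply]
  simp [vecMulVec_apply, colv, Pi.single_apply]

/-- two linear maps agreeing on the pure tensors `e ⊗ b`, `e ⊥ x`, agree on `ker (ctrA α x)` -/
theorem eq_on_perp {x : ι → F} {g g' : Matrix ι κ F →ₗ[F] Matrix ι κ F}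
    (h : ∀ (e : ι → F) (b : κ → F), α e x = 0 → g (vecMulVec e b) = g' (vecMulVec e b))
    {X : Matrix ι κ F} (hX : ctrA α x X = 0) : g X = g' X := by
  rw [eq_sum_cols X, map_sum, map_sum]
  refine Finset.sum_congr rfl fun j _ => ?_
  apply h
  have := congrFun hX j
  rwa [ctrA_apply] at this

/-- `(x^⊥ ⊗ B)^⊥ = x ⊗ B` -/
theorem mem_fibB_of_perp (hα : ∀ x, α x x = 0) (hαN : NondegOn α ⊤) (hβN : NondegOn β ⊤)
    {x xs : ι → F} (hxxs : α x xs = 1) {Z : Matrix ι κ F}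
    (h : ∀ (e : ι → F) (b : κ → F), α e x = 0 → tf α β Z (vecMulVec e b) = 0) :
    Z ∈ fibB (κ := κ) x := by
  have h1 : ∀ e : ι → F, α e x = 0 → ctrA α e Z = 0 := by
    intro e he
    apply eq_zero_of_forall hβN
    intro b
    rw [← tf_right_pure']
    exact h e b he
  have h2 : ∀ j, colv Z j = α (colv Z j) xs • x := by
    intro j
    apply eq_smul_of_perp hα hαN hxxs
    intro e he
    have := congrFun (h1 e he) j
    rwa [ctrA_apply] at this
  refine ⟨ctrA α xs Z, ?_⟩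
  ext i j
  have := congrFun (h2 j) i
  rw [vecMulVec_apply, ctrA_apply, mul_comm]
  simpa [colv] using this

/-- symplectic transvections are isometries -/
theorem utv_mem_uG_alt {W : Type*} [AddCommGroup W] [Module F W] {ω : LinearMap.BilinForm F W}
    (hω : ∀ x, ω x x = 0) (a : W) (c : F) : utv ω a c ∈ uG ω := by
  intro u v
  rw [utv_apply ω (hω a), utv_apply ω (hω a)]
  simp only [map_add, map_smul, LinearMap.add_apply, LinearMap.smul_apply, smul_eq_mul, hω a]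
  rw [alt_swap hω a v]
  ring

/-- representation of a linear form by a vector -/
theorem exists_repr (hα : ∀ x, α x x = 0) (hαN : NondegOn α ⊤) (Λ : (ι → F) →ₗ[F] F) :
    ∃ c₀ : ι → F, ∀ c, Λ c = α c c₀ := by
  have hinj : Function.Injective (α.flip : (ι → F) →ₗ[F] (ι → F) →ₗ[F] F) := by
    rw [injective_iff_map_eq_zero]
    intro a ha
    apply eq_zero_of_forall hαN
    intro w
    have : α.flip a w = 0 := by rw [ha]; rfl
    have h2 : α.flip a w = α w a := rfl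
    rw [h2] at this
    rw [alt_swap hα a w, this, neg_zero]
  have hsurj : Function.Surjective (α.flip : (ι → F) →ₗ[F] (ι → F) →ₗ[F] F) := by
    apply (LinearMap.injective_iff_surjective_of_finrank_eq_finrank ?_).mp hinj
    exact (Subspace.dual_finrank_eq (K := F) (V := ι → F)).symm
  obtain ⟨c₀, hc₀⟩ := hsurj Λ
  refine ⟨c₀, fun c => ?_⟩
  rw [← hc₀]
  rfl

/-- the combined conclusion of the packages ALGO, ALGEA, ALGEB, ALGEC for the form `β` -/
def AlgAll (β : LinearMap.BilinForm F (κ → F)) : Prop :=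
  ∀ 𝒯 : Submodule F ((κ → F) →ₗ[F] (κ → F)), LinearMap.id ∈ 𝒯 →
    (∀ T ∈ 𝒯, ∀ g ∈ uG β, (g : (κ → F) ≃ₗ[F] (κ → F)).toLinearMap ∘ₗ T ∘ₗ
      (g⁻¹ : (κ → F) ≃ₗ[F] (κ → F)).toLinearMap ∈ 𝒯) →
    (∀ T ∈ 𝒯, ∃ l : F, ∀ u v, β (T u) v + β u (T v) = l * β u v) →
    (∀ T ∈ 𝒯, ∀ T' ∈ 𝒯, ∀ Ta Ta' : (κ → F) →ₗ[F] (κ → F), IsAdjO β T Ta → IsAdjO β T' Ta' →
      ∃ μ : F, T ∘ₗ Ta' + T' ∘ₗ Ta = μ • LinearMap.id) →
    ∀ T ∈ 𝒯, ∃ c : F, T = c • LinearMap.id

theorem M_le_uG (hB : OTBase α β Q M) : M ≤ uG (tf α β) := by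
  intro g hg
  have h1 : g ∈ oG Q := by
    have h2 : ⁅oG Q, oG Q⁆ ≤ oG Q := by
      rw [Subgroup.commutator_le]
      intro g₁ h₁ g₂ h₂
      rw [commutatorElement_def]
      exact (oG Q).mul_mem ((oG Q).mul_mem ((oG Q).mul_mem h₁ h₂) ((oG Q).inv_mem h₁))
        ((oG Q).inv_mem h₂)
    exact h2 (hB.hM hg)
  intro u v
  exact oG_B Q (tf α β) hB.hQp h1 u v

/-- QCOMM with the statements of QA1-QA4, ALG, ZF, KMEM, `exists_EA` as hypotheses -/
theorem qcommO_of (hB : OTBase α β Q M) [Nonempty κ] {x : ι → F} (hx0 : x ≠ 0)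
    {h : Matrix ι κ F ≃ₗ[F] Matrix ι κ F} (hh : h ∈ M) (hQ : InQ α x h)
    (hQA2 : ∀ {c : ι → F}, α c x = 0 → ∀ T : (κ → F) →ₗ[F] (κ → F),
      (∀ b : κ → F, h (vecMulVec c b) = vecMulVec c b + vecMulVec x (T b)) → InT α M x c T)
    (hadd : ∀ {c : ι → F}, α c x = 0 → ∀ {T T' : (κ → F) →ₗ[F] (κ → F)},
      InT α M x c T → InT α M x c T' → InT α M x c (T + T'))
    (hsmul : ∀ {c : ι → F}, α c x = 0 → ∀ {T : (κ → F) →ₗ[F] (κ → F)},
      InT α M x c T → ∀ k : F, InT α M x c (k • T))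
    (hid : ∀ {c : ι → F}, α c x = 0 → InT α M x c LinearMap.id)
    (hconj : ∀ {c : ι → F}, α c x = 0 → ∀ {T : (κ → F) →ₗ[F] (κ → F)}, InT α M x c T →
      ∀ {R : (κ → F) ≃ₗ[F] (κ → F)}, R ∈ uG β →
      InT α M x c (R.toLinearMap ∘ₗ T ∘ₗ (R⁻¹ : (κ → F) ≃ₗ[F] (κ → F)).toLinearMap))
    (hmove : ∀ {c c' : ι → F}, α c x = 0 → α c' x = 0 → α c c' = 1 →
      ∀ {T : (κ → F) →ₗ[F] (κ → F)}, InT α M x c T → InT α M x c' T)
    (hself : ∀ {c : ι → F}, α c x = 0 → c ∉ Submodule.span F {x} →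
      ∀ {T : (κ → F) →ₗ[F] (κ → F)}, InT α M x c T →
      ∃ l : F, ∀ u v : κ → F, β (T u) v + β u (T v) = l * β u v)
    (hpair : ∀ {c c' : ι → F}, α c x = 0 → α c' x = 0 → α c c' = 1 →
      ∀ {T T' Ta Ta' : (κ → F) →ₗ[F] (κ → F)}, InT α M x c T → InT α M x c' T' →
      IsAdjO β T Ta → IsAdjO β T' Ta' → ∃ μ : F, T ∘ₗ Ta' + T' ∘ₗ Ta = μ • LinearMap.id)
    (halg : AlgAll β)
    (hrad : ∀ {g : Matrix ι κ F ≃ₗ[F] Matrix ι κ F}, g ∈ M →
      (∀ X, g X - X ∈ fibB (κ := κ) x) → ∃ s : F, ∀ X, g X = X + s • nII α x X)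
    (hEA : ∀ {c : ι → F}, α c x = 0 → ∃ E : (ι → F) ≃ₗ[F] (ι → F), E ∈ uG α ∧
      ∀ v, E v = v + α v x • c + α v c • x)
    (htmE : ∀ {P : (ι → F) ≃ₗ[F] (ι → F)}, P ∈ uG α →
      tmE P (1 : (κ → F) ≃ₗ[F] (κ → F)) ∈ M) :
    ∃ P : (ι → F) ≃ₗ[F] (ι → F), P ∈ uG α ∧
      h = tmE P (1 : (κ → F) ≃ₗ[F] (κ → F)) := by
  classical
  have hα := hB.hα
  have hαN := hB.hαN
  have hβN := hB.hβN
  obtain ⟨xs, hxxs⟩ := exists_dual_vec hαN hx0
  -- the maps `T_c`
  let Tc : (ι → F) → ((κ → F) →ₗ[F] (κ → F)) := fun c =>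
    (ctrA α xs) ∘ₗ (h.toLinearMap - LinearMap.id) ∘ₗ (vecMulVecBilin F F c)
  have hTc_apply : ∀ c b, Tc c b = ctrA α xs (h (vecMulVec c b) - vecMulVec c b) := by
    intro c b
    rfl
  have hT : ∀ c, α c x = 0 → ∀ b, h (vecMulVec c b) = vecMulVec c b + vecMulVec x (Tc c b) := by
    intro c hcx b
    have h0 : ctrA α x (vecMulVec c b) = 0 := by rw [ctrA_pure, hcx, zero_smul]
    obtain ⟨w, hw⟩ := hQ.2 _ h0
    rw [hTc_apply, hw, ctrA_pure, hxxs, one_smul, ← hw]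
    abel
  have hInT : ∀ c, α c x = 0 → InT α M x c (Tc c) := fun c hcx => hQA2 hcx (Tc c) (hT c hcx)
  -- `T_c` is a scalar
  have hscal : ∀ c, α c x = 0 → ∃ l : F, Tc c = l • LinearMap.id := by
    intro c hcx
    by_cases hc : c ∈ Submodule.span F {x}
    · obtain ⟨k, rfl⟩ := Submodule.mem_span_singleton.mp hc
      refine ⟨0, ?_⟩
      rw [zero_smul]
      apply LinearMap.ext
      intro b
      have h1 : vecMulVec (k • x) b = vecMulVec x (k • b) := by
        ext i j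
        simp [vecMulVec_apply, mul_comm, mul_left_comm]
      rw [hTc_apply, h1, hQ.1, sub_self, map_zero, LinearMap.zero_apply]
    · -- a partner `c'`
      obtain ⟨c', hc'x, hcc'⟩ : ∃ c' : ι → F, α c' x = 0 ∧ α c c' = 1 := by
        by_contra hcon
        push Not at hcon
        apply hc
        have h1 : ∀ e : ι → F, α e x = 0 → α c e = 0 := by
          intro e he
          by_contra hne
          apply hcon ((α c e)⁻¹ • e)
          · rw [map_smul, LinearMap.smul_apply, he, smul_zero]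
          · rw [map_smul, smul_eq_mul, inv_mul_cancel₀ hne]
        rw [eq_smul_of_perp hα hαN hxxs h1]
        exact Submodule.smul_mem _ _ (Submodule.mem_span_singleton_self x)
      let 𝒯 : Submodule F ((κ → F) →ₗ[F] (κ → F)) :=
        { carrier := {T | InT α M x c T}
          add_mem' := fun {T T'} hT hT' => hadd hcx hT hT'
          zero_mem' := by
            have := hsmul hcx (hid hcx) (0 : F)
            rwa [zero_smul] at this
          smul_mem' := fun k {T} hT => hsmul hcx hT k }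
      have hmem : ∀ T, T ∈ 𝒯 ↔ InT α M x c T := fun T => Iff.rfl
      exact halg 𝒯 (hid hcx)
        (fun T hT g hg => hconj hcx hT hg)
        (fun T hT => hself hcx hc hT)
        (fun T hT T' hT' Ta Ta' hTa hTa' =>
          hpair hcx hc'x hcc' hT (hmove hcx hc'x hcc' hT') hTa hTa')
        (Tc c) (hInT c hcx)
  -- the linear form `Λ`
  obtain ⟨j₀⟩ := (inferInstance : Nonempty κ)
  let b₀ : κ → F := Pi.single j₀ 1
  let Λ : (ι → F) →ₗ[F] F :=
    (LinearMap.proj j₀) ∘ₗ (ctrA α xs) ∘ₗ (h.toLinearMap - LinearMap.id) ∘ₗ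
      ((vecMulVecBilin F F).flip b₀)
  have hΛ_apply : ∀ c, Λ c = Tc c b₀ j₀ := fun c => rfl
  have hb₀ : b₀ j₀ = 1 := Pi.single_eq_same j₀ 1
  have hΛ : ∀ c, α c x = 0 → Tc c = Λ c • LinearMap.id := by
    intro c hcx
    obtain ⟨l, hl⟩ := hscal c hcx
    rw [hΛ_apply, hl, LinearMap.smul_apply, LinearMap.id_apply, Pi.smul_apply, hb₀,
      smul_eq_mul, mul_one]
  obtain ⟨c₀, hc₀⟩ := exists_repr hα hαN Λ
  have hxx : α x x = 0 := hα x
  have hΛx : Λ x = 0 := by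
    have h1 := hΛ x hxx
    have h2 : Tc x b₀ = 0 := by
      rw [hTc_apply, hQ.1, sub_self, map_zero]
    have h3 : (Λ x • (LinearMap.id : (κ → F) →ₗ[F] (κ → F))) b₀ = 0 := by rw [← h1, h2]
    rw [LinearMap.smul_apply, LinearMap.id_apply] at h3
    have h4 := congrFun h3 j₀
    rw [Pi.smul_apply, hb₀, smul_eq_mul, mul_one] at h4
    exact h4
  have hc₀x : α c₀ x = 0 := by
    rw [alt_swap hα c₀ x, ← hc₀ x, hΛx, neg_zero]
  obtain ⟨E, hE, hEv⟩ := hEA hc₀x
  -- `k = E ⊗ 1` agrees with `h` on `x^⊥ ⊗ B`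
  have hk : tmE E (1 : (κ → F) ≃ₗ[F] (κ → F)) ∈ M := htmE hE
  have hagree : ∀ X : Matrix ι κ F, ctrA α x X = 0 →
      tmE E (1 : (κ → F) ≃ₗ[F] (κ → F)) X = h X := by
    intro X hX
    have := eq_on_perp (α := α) (x := x)
      (g := (tmE E (1 : (κ → F) ≃ₗ[F] (κ → F))).toLinearMap) (g' := h.toLinearMap) ?_ hX
    · exact this
    · intro e b he
      rw [LinearEquiv.coe_coe, LinearEquiv.coe_coe, tmE_pure, hEv, he, zero_smul, add_zero,
        LinearEquiv.coe_one, id_eq, hT e he b, hΛ e he, LinearMap.smul_apply, LinearMap.id_apply,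
        hc₀ e]
      ext i j
      simp [vecMulVec_apply]
      ring
  -- `h' = k⁻¹ h`
  obtain ⟨h', hh'def⟩ : ∃ h' : Matrix ι κ F ≃ₗ[F] Matrix ι κ F,
      h' = (tmE E (1 : (κ → F) ≃ₗ[F] (κ → F)))⁻¹ * h := ⟨_, rfl⟩
  have hh'M : h' ∈ M := by
    rw [hh'def]
    exact M.mul_mem (M.inv_mem hk) hh
  have hh'fix : ∀ X : Matrix ι κ F, ctrA α x X = 0 → h' X = X := by
    intro X hX
    rw [hh'def, LinearEquiv.mul_apply, ← hagree X hX]
    exact LinearEquiv.symm_apply_apply _ X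
  have hh'u : h' ∈ uG (tf α β) := M_le_uG hB hh'M
  have hh'fib : ∀ X, h' X - X ∈ fibB (κ := κ) x := by
    intro Y
    apply mem_fibB_of_perp hα hαN hβN hxxs
    intro e b he
    have h0 : ctrA α x (vecMulVec e b) = 0 := by rw [ctrA_pure, he, zero_smul]
    have h1 := hh'u Y (vecMulVec e b)
    rw [hh'fix _ h0] at h1
    rw [map_sub, LinearMap.sub_apply, h1, sub_self]
  obtain ⟨s, hs⟩ := hrad hh'M hh'fib
  have hh'eq : h' = tmE (utv α x s) (1 : (κ → F) ≃ₗ[F] (κ → F)) := by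
    apply LinearEquiv.ext
    intro X
    rw [hs X, Cfsg.Agent.Lib.Helper42_UT_BAS6.tmE_utv_left hxx s X]
  refine ⟨E * utv α x s, (uG α).mul_mem hE (utv_mem_uG_alt hα x s), ?_⟩
  have h5 : h = tmE E (1 : (κ → F) ≃ₗ[F] (κ → F)) * h' := by
    rw [hh'def, mul_inv_cancel_left]
  rw [h5, hh'eq, tmE_mul, mul_one]

end Cfsg.Agent.Lib.Helper47_OT_QCOMMaux
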