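import Mathlib
import Cfsg.Agent.Lib.Helper97_OX3Defs
import Cfsg.Agent.Lib.Helper94_OrthVec

set_option autoImplicit false
set_option linter.unusedSectionVars false
set_option linter.unusedVariables false

/-!
# OEXT3 package LA2 (architect helper97), hypothesis form

`key_of_comm_of`: the commutator branch of Lemma A (`pending/helper97/OEXT3_proof.md`, step 5, LA2)
with the statements of the packages NMAP3 (`nmap_props3` for both lines), LINE6 (`finrank_kln` for
both lines) and NKL (`not_klin_of_rank`) taken as hypotheses.  The verbatim `key_of_comm` is in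
`Helper47_OX3_LA2`.
-/

namespace Cfsg.Agent.Lib.Helper47_OX3_LA2aux

open Module Cfsg.Agent.Lib.Helper94_OrthSmall Cfsg.Agent.Lib.Helper94_OrthSiegel
  Cfsg.Agent.Lib.Helper98_ExtDefs Cfsg.Agent.Lib.Helper97_OX2Defs
  Cfsg.Agent.Lib.Helper97_OX3Defs
open Cfsg.Agent.Lib.Helper94_Symp
open scoped commutatorElement

/-- rank–nullity on a subspace: the image of `X` is small when a large `D ≤ X` is killed -/
theorem finrank_map_add_le {F V : Type*} [Field F] [AddCommGroup V] [Module F V]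
    [Module.Finite F V] (N : V →ₗ[F] V) (X D : Submodule F V) (hDX : D ≤ X)
    (hDN : ∀ x ∈ D, N x = 0) : finrank F ↥(X.map N) + finrank F ↥D ≤ finrank F ↥X := by
  have h1 := LinearMap.finrank_range_add_finrank_ker (N.domRestrict X)
  have h2 : LinearMap.range (N.domRestrict X) = X.map N := by
    rw [LinearMap.domRestrict, LinearMap.range_comp, Submodule.range_subtype]
  rw [h2] at h1
  have h3 : finrank F ↥D = finrank F ↥(D.comap X.subtype) :=
    (Submodule.comapSubtypeEquivOfLe hDX).finrank_eq.symm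
  have h4 : D.comap X.subtype ≤ LinearMap.ker (N.domRestrict X) := by
    intro x hx
    rw [LinearMap.mem_ker, LinearMap.domRestrict_apply]
    exact hDN _ hx
  have h5 := Submodule.finrank_mono h4
  omega

variable {F K V : Type*} [Field F] [Field K] [Algebra F K] [AddCommGroup V] [Module F V]
  [Module K V] [IsScalarTower F K V]
variable {τ : K →ₗ[F] F} {QK : V → K} {BK : LinearMap.BilinForm K V}
variable [Finite F] [Finite K] [Module.Finite F V] [Module.Finite K V]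

/-- LA2 with the statements of NMAP3, LINE6, NKL as hypotheses -/
theorem key_of_comm_of (C : Ctx3 τ QK BK) (M : Subgroup (V ≃ₗ[F] V)) (hM : HypO3 τ QK BK M)
    {g : V ≃ₗ[F] V} (hg : g ∈ M) {u' w' u w : V} (h' : TSPair QK BK u' w')
    (h : TSPair QK BK u w)
    (hd : finrank F ↥((kln F (K := K) u' w').map g.toLinearMap ⊓ kln F (K := K) u w) = 4)
    {κ' : K} (hκ' : κ' ≠ 0)
    (hstab : ∀ z ∈ kln F (K := K) u w, g (nmap F BK κ' u' w' (g⁻¹ z)) ∈ kln F (K := K) u w)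
    {κ : K} {x₀ : V} (hx₀ : x₀ ∈ kln F (K := K) u' w')
    (hout : nmap F BK κ u w (g x₀) ∉ (kln F (K := K) u' w').map g.toLinearMap)
    (hnm' : (∀ x, nmap F BK κ' u' w' x ∈ kln F (K := K) u' w') ∧
      (∀ x ∈ kln F (K := K) u' w', nmap F BK κ' u' w' x = 0) ∧
      (κ' ≠ 0 → ∀ x, nmap F BK κ' u' w' x = 0 → x ∈ kln F (K := K) u' w'))
    (hnm : (∀ x, nmap F BK κ u w x ∈ kln F (K := K) u w) ∧
      (∀ x ∈ kln F (K := K) u w, nmap F BK κ u w x = 0))
    (hL6 : finrank F ↥(kln F (K := K) u w) = 6) (hL6' : finrank F ↥(kln F (K := K) u' w') = 6)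
    (hnkl : ∀ y : V ≃ₗ[F] V, InU (trQ τ QK) (kln F (K := K) u w) y → ∀ x₁ : V, y x₁ ≠ x₁ →
      ∀ S : Submodule F V, finrank F ↥S < 6 → (∀ x, y x - x ∈ S) → ¬ Klin K y) :
    Key τ QK BK M := by
  -- notation
  obtain ⟨L, hL⟩ : ∃ L : Submodule F V, L = kln F (K := K) u w := ⟨_, rfl⟩
  obtain ⟨L', hL'⟩ : ∃ L' : Submodule F V, L' = kln F (K := K) u' w' := ⟨_, rfl⟩
  obtain ⟨t', ht'⟩ : ∃ t' : Submodule F V, t' = L'.map g.toLinearMap := ⟨_, rfl⟩
  obtain ⟨N'', hN''⟩ : ∃ N'' : V →ₗ[F] V, N'' = nmap F BK κ u w := ⟨_, rfl⟩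
  obtain ⟨N', hN'⟩ : ∃ N' : V →ₗ[F] V,
      N' = g.toLinearMap ∘ₗ nmap F BK κ' u' w' ∘ₗ (g⁻¹ : V ≃ₗ[F] V).toLinearMap := ⟨_, rfl⟩
  have hN'z : ∀ z, N' z = g (nmap F BK κ' u' w' (g⁻¹ z)) := by
    intro z
    rw [hN']
    rfl
  rw [← hL, ← hL'] at hd
  rw [← ht'] at hd
  rw [← hL] at hstab hnm hL6 hnkl
  rw [← hL'] at hx₀ hout hnm' hL6'
  rw [← ht', ← hN''] at hout
  rw [← hN''] at hnm
  -- the basic properties
  have P1 : ∀ z, N'' z ∈ L := hnm.1
  have P2 : ∀ z ∈ L, N'' z = 0 := hnm.2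
  have P3 : ∀ z, N' z ∈ t' := by
    intro z
    rw [hN'z, ht']
    exact Submodule.mem_map_of_mem (hnm'.1 _)
  have P4 : ∀ z ∈ t', N' z = 0 := by
    intro z hz
    rw [ht'] at hz
    obtain ⟨y, hy, rfl⟩ := hz
    rw [hN'z, LinearEquiv.coe_coe, inv_apply_apply', hnm'.2.1 y hy, map_zero]
  have P5 : ∀ z ∈ L, N' z ∈ L := by
    intro z hz
    rw [hN'z]
    exact hstab z hz
  have P6 : ∀ z, N' z = 0 → z ∈ t' := by
    intro z hz
    rw [hN'z] at hz
    have h1 : nmap F BK κ' u' w' (g⁻¹ z) = 0 := by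
      have := congrArg (fun y => g⁻¹ y) hz
      simpa [inv_apply_apply'] using this
    have h2 := hnm'.2.2 hκ' _ h1
    rw [ht']
    refine ⟨g⁻¹ z, h2, ?_⟩
    rw [LinearEquiv.coe_coe, apply_inv_apply']
  have hN''N'' : ∀ z, N'' (N'' z) = 0 := fun z => P2 _ (P1 z)
  have hN'N' : ∀ z, N' (N' z) = 0 := fun z => P4 _ (P3 z)
  have hN''N'N'' : ∀ z, N'' (N' (N'' z)) = 0 := fun z => P2 _ (P5 _ (P1 z))
  -- the two root elements
  have hu'0 : QK (κ' • u') = 0 := by rw [C.hQs, h'.1, mul_zero]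
  have hu'w' : BK (κ' • u') w' = 0 := by
    rw [map_smul, LinearMap.smul_apply, h'.2.2.1, smul_zero]
  have hu0 : QK (κ • u) = 0 := by rw [C.hQs, h.1, mul_zero]
  have huw : BK (κ • u) w = 0 := by rw [map_smul, LinearMap.smul_apply, h.2.2.1, smul_zero]
  obtain ⟨A, hA⟩ : ∃ A : V ≃ₗ[F] V, A = g * ksieg F QK BK (κ' • u') w' * g⁻¹ := ⟨_, rfl⟩
  obtain ⟨B, hB⟩ : ∃ B : V ≃ₗ[F] V, B = ksieg F QK BK (κ • u) w := ⟨_, rfl⟩
  have hAM : A ∈ M := by
    rw [hA]
    exact M.mul_mem (M.mul_mem hg (hM.sieg_mem _ _ hu'0 hu'w')) (M.inv_mem hg)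
  have hBM : B ∈ M := by
    rw [hB]
    exact hM.sieg_mem _ _ hu0 huw
  have hAz : ∀ z, A z = z + N' z := by
    intro z
    rw [hA, LinearEquiv.mul_apply, LinearEquiv.mul_apply,
      C.ksieg_eq_nmap h'.1 h'.2.1 h'.2.2.1, map_add, apply_inv_apply', hN'z]
  have hBz : ∀ z, B z = z + N'' z := by
    intro z
    rw [hB, C.ksieg_eq_nmap h.1 h.2.1 h.2.2.1, hN'']
  have hAinv : ∀ z, A⁻¹ z = z - N' z := by
    intro z
    have h1 : A (z - N' z) = z := by
      rw [hAz, map_sub, hN'N', sub_zero, sub_add_cancel]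
    have h2 := congrArg (fun y => A⁻¹ y) h1
    simp only [inv_apply_apply'] at h2
    exact h2.symm
  have hBinv : ∀ z, B⁻¹ z = z - N'' z := by
    intro z
    have h1 : B (z - N'' z) = z := by
      rw [hBz, map_sub, hN''N'', sub_zero, sub_add_cancel]
    have h2 := congrArg (fun y => B⁻¹ y) h1
    simp only [inv_apply_apply'] at h2
    exact h2.symm
  -- the commutator
  have hCM : A * B * A⁻¹ * B⁻¹ ∈ M :=
    M.mul_mem (M.mul_mem (M.mul_mem hAM hBM) (M.inv_mem hAM)) (M.inv_mem hBM)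
  have hCz : ∀ z, (A * B * A⁻¹ * B⁻¹) z = z + N' (N'' z) - N'' (N' z) - N' (N'' (N' z)) := by
    intro z
    simp only [LinearEquiv.mul_apply]
    rw [hBinv, hAinv, hBz, hAz]
    simp only [map_sub, map_add, hN''N'', hN'N', hN''N'N'', sub_zero]
    abel
  have hU : InU (trQ τ QK) L (A * B * A⁻¹ * B⁻¹) := by
    refine ⟨hM.le hCM, ?_, ?_⟩
    · intro x
      rw [hCz]
      have e : x + N' (N'' x) - N'' (N' x) - N' (N'' (N' x)) - x =
          N' (N'' x) - N'' (N' x) - N' (N'' (N' x)) := by abel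
      rw [e]
      exact L.sub_mem (L.sub_mem (P5 _ (P1 x)) (P1 _)) (P5 _ (P1 _))
    · intro x hx
      rw [hCz, P2 x hx, map_zero, P2 _ (P5 x hx), map_zero]
      abel
  have hne : (A * B * A⁻¹ * B⁻¹) (g x₀) ≠ g x₀ := by
    intro heq
    have hgx : g x₀ ∈ t' := by
      rw [ht']
      exact Submodule.mem_map_of_mem hx₀
    rw [hCz, P4 _ hgx, map_zero, map_zero, sub_zero, sub_zero] at heq
    have h0 : N' (N'' (g x₀)) = 0 := by
      have := congrArg (fun y => y - g x₀) heq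
      simpa using this
    exact hout (P6 _ h0)
  -- the rank bound
  have hfin' : finrank F ↥t' = 6 := by
    rw [ht', LinearEquiv.finrank_map_eq g L', hL6']
  have hr1 : finrank F ↥(L.map N') ≤ 2 := by
    have := finrank_map_add_le N' L (t' ⊓ L) inf_le_right (fun x hx => P4 x hx.1)
    omega
  have hr2 : finrank F ↥(t'.map N'') ≤ 2 := by
    have := finrank_map_add_le N'' t' (t' ⊓ L) inf_le_left (fun x hx => P2 x hx.2)
    omega
  have hS : finrank F ↥(L.map N' ⊔ t'.map N'') < 6 := by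
    have := Submodule.finrank_add_le_finrank_add_finrank (L.map N') (t'.map N'')
    omega
  have hr : ∀ x, (A * B * A⁻¹ * B⁻¹) x - x ∈ L.map N' ⊔ t'.map N'' := by
    intro x
    rw [hCz]
    have e : x + N' (N'' x) - N'' (N' x) - N' (N'' (N' x)) - x =
        (N' (N'' x) - N' (N'' (N' x))) - N'' (N' x) := by abel
    rw [e]
    refine Submodule.sub_mem _ (Submodule.mem_sup_left ?_) (Submodule.mem_sup_right ?_)
    · exact Submodule.sub_mem _ (Submodule.mem_map_of_mem (P1 x))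
        (Submodule.mem_map_of_mem (P1 _))
    · exact Submodule.mem_map_of_mem (P3 x)
  have hnk := hnkl _ hU _ hne _ hS hr
  rw [hL] at hU
  exact ⟨u, w, h, _, hCM, hU, hnk⟩

end Cfsg.Agent.Lib.Helper47_OX3_LA2aux
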