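import Mathlib
import Cfsg.Agent.Lib.Helper97_OX3Defs
import Cfsg.Agent.Lib.Helper94_OrthVec
import Cfsg.Agent.Lib.Helper3_OX3_NMAP3
import Cfsg.Agent.Lib.Helper34_OX3_LINE6

set_option autoImplicit false
set_option linter.unusedSectionVars false
set_option linter.unusedVariables false

/-!
# OEXT3 package NKL, conditional form (architect helper97, formaliser helper9)

`not_klin_of_rank_of`: NKL with the statement of KLIN (`klin_eq`, for the given pair `u, w`) as a
hypothesis; NMAP3 and LINE6 are imported.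
-/

namespace Cfsg.Agent.Lib.Helper9_OX3_NKLaux

open Module Cfsg.Agent.Lib.Helper94_OrthSmall Cfsg.Agent.Lib.Helper94_OrthSiegel
  Cfsg.Agent.Lib.Helper98_ExtDefs Cfsg.Agent.Lib.Helper97_OX2Defs
  Cfsg.Agent.Lib.Helper97_OX3Defs
open scoped commutatorElement

variable {F K V : Type*} [Field F] [Field K] [Algebra F K] [AddCommGroup V] [Module F V]
  [Module K V] [IsScalarTower F K V]
variable {τ : K →ₗ[F] F} {QK : V → K} {BK : LinearMap.BilinForm K V}
variable [Finite F] [Finite K] [Module.Finite F V] [Module.Finite K V]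

/-- NKL with the conclusion of KLIN for `y` as a hypothesis -/
theorem not_klin_of_rank_of (C : Ctx3 τ QK BK) {u w : V} (h : TSPair QK BK u w) {y : V ≃ₗ[F] V}
    (hklin : Klin K y → ∃ κ : K, ∀ x, y x = x + nmap F BK κ u w x)
    {x₀ : V} (hne : y x₀ ≠ x₀)
    (S : Submodule F V) (hS : finrank F S < 6) (hr : ∀ x, y x - x ∈ S) : ¬ Klin K y := by
  intro hK
  obtain ⟨κ, hκ⟩ := hklin hK
  have hκ0 : κ ≠ 0 := by
    rintro rfl
    apply hne
    rw [hκ x₀, nmap_apply, zero_smul, add_zero]
  obtain ⟨-, -, -, -, hsurj⟩ := Cfsg.Agent.Lib.Helper3_OX3_NMAP3.nmap_props3 C h κ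
  have hle : kln F (K := K) u w ≤ S := by
    intro z hz
    obtain ⟨x, hx⟩ := hsurj hκ0 z hz
    have h1 := hr x
    rw [hκ x, add_sub_cancel_left, hx] at h1
    exact h1
  have h6 : finrank F ↥(kln F (K := K) u w) = 6 :=
    Cfsg.Agent.Lib.Helper34_OX3_LINE6.finrank_kln C h.2.2.2
  have := Submodule.finrank_mono hle
  omega

end Cfsg.Agent.Lib.Helper9_OX3_NKLaux
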