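import Mathlib
import Cfsg.Agent.Lib.Helper97_OX3Defs
import Cfsg.Agent.Lib.Helper94_OrthVec
import Cfsg.Agent.Lib.Helper9_OX3_NKLaux
import Cfsg.Agent.Lib.Helper24_OX3_KLIN

set_option autoImplicit false
set_option linter.unusedSectionVars false
set_option linter.unusedVariables false

/-!
# OEXT3 package NKL (architect helper97, formaliser helper9)

A nontrivial element of `U_L` of rank less than six is not `K`-linear: a `K`-linear element of
`U_L` is `1 + N_κ` (KLIN, helper24), and `N_κ` maps onto `L` of dimension six (NMAP3, LINE6).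
-/

namespace Cfsg.Agent.Lib.Helper9_OX3_NKL

open Module Cfsg.Agent.Lib.Helper94_OrthSmall Cfsg.Agent.Lib.Helper94_OrthSiegel
  Cfsg.Agent.Lib.Helper98_ExtDefs Cfsg.Agent.Lib.Helper97_OX2Defs
  Cfsg.Agent.Lib.Helper97_OX3Defs
open scoped commutatorElement

variable {F K V : Type*} [Field F] [Field K] [Algebra F K] [AddCommGroup V] [Module F V]
  [Module K V] [IsScalarTower F K V]
variable {τ : K →ₗ[F] F} {QK : V → K} {BK : LinearMap.BilinForm K V}
variable [Finite F] [Finite K] [Module.Finite F V] [Module.Finite K V]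

/-- NKL: a nontrivial element of `U_L` of rank less than six is not `K`-linear -/
theorem not_klin_of_rank (C : Ctx3 τ QK BK) {u w : V} (h : TSPair QK BK u w) {y : V ≃ₗ[F] V}
    (hU : InU (trQ τ QK) (kln F (K := K) u w) y) {x₀ : V} (hne : y x₀ ≠ x₀)
    (S : Submodule F V) (hS : finrank F S < 6) (hr : ∀ x, y x - x ∈ S) : ¬ Klin K y :=
  Cfsg.Agent.Lib.Helper9_OX3_NKLaux.not_klin_of_rank_of C h
    (fun hK => Cfsg.Agent.Lib.Helper24_OX3_KLIN.klin_eq C h hU hK) hne S hS hr

end Cfsg.Agent.Lib.Helper9_OX3_NKL
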