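import Mathlib
import Cfsg.Agent.Lib.Helper97_OX3Defs
import Cfsg.Agent.Lib.Helper94_OrthVec
import Cfsg.Agent.Lib.Helper47_OX3_LA2aux
import Cfsg.Agent.Lib.Helper3_OX3_NMAP3
import Cfsg.Agent.Lib.Helper34_OX3_LINE6
import Cfsg.Agent.Lib.Helper9_OX3_NKL

/-!
Market OEXT3 (helper97), package LA2: `key_of_comm` (the commutator branch), verbatim.
Wrapper of `Helper47_OX3_LA2aux.key_of_comm_of` with the landed packages NMAP3 (helper3), LINE6 (helper34),
NKL (helper9).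
-/

set_option autoImplicit false
set_option linter.unusedSectionVars false
set_option linter.unusedVariables false

namespace Cfsg.Agent.Lib.Helper47_OX3_LA2

open Module Cfsg.Agent.Lib.Helper94_OrthSmall Cfsg.Agent.Lib.Helper94_OrthSiegel
  Cfsg.Agent.Lib.Helper98_ExtDefs Cfsg.Agent.Lib.Helper97_OX2Defs
  Cfsg.Agent.Lib.Helper97_OX3Defs
open scoped commutatorElement

variable {F K V : Type*} [Field F] [Field K] [Algebra F K] [AddCommGroup V] [Module F V]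
  [Module K V] [IsScalarTower F K V]
variable {τ : K →ₗ[F] F} {QK : V → K} {BK : LinearMap.BilinForm K V}
variable [Finite F] [Finite K] [Module.Finite F V] [Module.Finite K V]

/-- LA2: the commutator branch -/
theorem key_of_comm (C : Ctx3 τ QK BK) (M : Subgroup (V ≃ₗ[F] V)) (hM : HypO3 τ QK BK M)
    {g : V ≃ₗ[F] V} (hg : g ∈ M) {u' w' u w : V} (h' : TSPair QK BK u' w')
    (h : TSPair QK BK u w)
    (hd : finrank F ↥((kln F (K := K) u' w').map g.toLinearMap ⊓ kln F (K := K) u w) = 4)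
    {κ' : K} (hκ' : κ' ≠ 0)
    (hstab : ∀ z ∈ kln F (K := K) u w, g (nmap F BK κ' u' w' (g⁻¹ z)) ∈ kln F (K := K) u w)
    {κ : K} {x₀ : V} (hx₀ : x₀ ∈ kln F (K := K) u' w')
    (hout : nmap F BK κ u w (g x₀) ∉ (kln F (K := K) u' w').map g.toLinearMap) :
    Key τ QK BK M := by
  have hnm' := Cfsg.Agent.Lib.Helper3_OX3_NMAP3.nmap_props3 C h' κ'
  have hnm := Cfsg.Agent.Lib.Helper3_OX3_NMAP3.nmap_props3 C h κ
  exact Cfsg.Agent.Lib.Helper47_OX3_LA2aux.key_of_comm_of C M hM hg h' h hd hκ' hstab hx₀ hout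
    ⟨hnm'.2.1, hnm'.2.2.1, hnm'.2.2.2.1⟩ ⟨hnm.2.1, hnm.2.2.1⟩
    (Cfsg.Agent.Lib.Helper34_OX3_LINE6.finrank_kln C h.2.2.2)
    (Cfsg.Agent.Lib.Helper34_OX3_LINE6.finrank_kln C h'.2.2.2)
    (fun y hU x₁ hne S hS hr => Cfsg.Agent.Lib.Helper9_OX3_NKL.not_klin_of_rank C h hU hne S hS hr)

end Cfsg.Agent.Lib.Helper47_OX3_LA2
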