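/-
EVEN package EV9 (helper22 architect; helper47): a group of isometries of a non-degenerate quadratic form (any
characteristic, any dimension at least 2) normalising a spanning subgroup that is realisable over a proper
subfield lies in a subfield group whose rational structure carries a multiple of the quadratic form.
Any-characteristic twin of helper24's OP7a.
-/
import Mathlib
import Cfsg.Agent.Lib.Helper98_AschDefs
import Cfsg.Agent.Lib.Helper29_OrthOddDefs
import Cfsg.Agent.Lib.Helper35_Asch_PK11
import Cfsg.Agent.Lib.Helper24_OrthOdd_OP7a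
import Cfsg.Agent.Lib.Helper32_OrthOdd_OP7b

set_option autoImplicit false

namespace Cfsg.Agent.Lib.Helper47_OrthEven_EV9

open Cfsg Cfsg.Geo Matrix Cfsg.Agent.Lib.Helper98_AschDefs Cfsg.Agent.Lib.Helper29_OrthOddDefs
open Cfsg.Agent.Lib.Helper24_OrthOdd_OP7a Cfsg.Agent.Lib.Helper32_OrthOdd_OP7b
open scoped Kronecker MatrixGroups

variable {ι : Type} [Fintype ι] [DecidableEq ι] {F : Type*} [Field F]

/-- a quadratic form whose polar Gram matrix is rational and which is invariant under a spanning group of rational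
matrices takes rational values on rational vectors (any characteristic, dimension at least 2) -/
theorem quad_rational [Fintype F] (F₁ : Subfield F) (R : (ι → F) → F)
    (hRs : ∀ (c : F) (v : ι → F), R (c • v) = c ^ 2 * R v)
    (hRb : IsBilinearForm (QuadraticMap.polar R))
    (hG : ∀ i j, gramMatrix (QuadraticMap.polar R) i j ∈ F₁)
    (N : Subgroup (GL ι F)) (hspan : spanAlg N = ⊤) (B : GL ι F)
    (hB : ∀ x ∈ N, ∀ i j,
      ((B : Matrix ι ι F) * (x : Matrix ι ι F) * ((B⁻¹ : GL ι F) : Matrix ι ι F)) i j ∈ F₁)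
    (hR : ∀ x ∈ N, ∀ v,
      R (((B : Matrix ι ι F) * (x : Matrix ι ι F) * ((B⁻¹ : GL ι F) : Matrix ι ι F)) *ᵥ v) = R v)
    (hn : 2 ≤ Fintype.card ι) (u : ι → F) (hu : ∀ i, u i ∈ F₁) : R u ∈ F₁ := by
  classical
  obtain ⟨φ, hφ⟩ := exists_frob F₁
  have hbij : Function.Bijective φ := Finite.injective_iff_bijective.1 φ.injective
  set σ : F ≃+* F := RingEquiv.ofBijective φ hbij with hσ
  have hσφ : ∀ x, σ x = φ x := fun x => rfl
  have hfix : ∀ x : F, x ∈ F₁ ↔ σ x = x := fun x => by
    rw [hσφ, hφ]; exact mem_iff_pow_card F₁ x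
  have hfix' : ∀ x : F, x ∈ F₁ → σ.symm x = x := by
    intro x hx
    rw [RingEquiv.symm_apply_eq]; exact ((hfix x).1 hx).symm
  set Bm : Matrix ι ι F := (B : Matrix ι ι F) with hBm
  set Bi : Matrix ι ι F := ((B⁻¹ : GL ι F) : Matrix ι ι F) with hBi
  have hBBi : Bm * Bi = 1 := by rw [hBi, hBm, ← Units.val_mul, mul_inv_cancel, Units.val_one]
  set G := gramMatrix (QuadraticMap.polar R) with hGdef
  have hpol : ∀ a b : ι → F, QuadraticMap.polar R a b = ∑ i, ∑ j, a i * G i j * b j := by
    intro a b
    have := form_eq_sum (RingHom.id F) (QuadraticMap.polar R) hRb.add_left hRb.smul_left hRb.add_right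
      (by simpa using hRb.smul_right) a b
    simpa using this
  have hadd : ∀ a b, R (a + b) = R a + R b + QuadraticMap.polar R a b := by
    intro a b; unfold QuadraticMap.polar; ring
  -- the defect of rationality
  obtain ⟨D, hDdef⟩ : ∃ D : (ι → F) → F, ∀ w, D w = σ (R (sv σ.symm w)) - R w := ⟨_, fun _ => rfl⟩
  have hDpol : ∀ a b, σ (QuadraticMap.polar R (sv σ.symm a) (sv σ.symm b)) = QuadraticMap.polar R a b := by
    intro a b
    rw [hpol, hpol, map_sum]
    refine Finset.sum_congr rfl fun i _ => ?_
    rw [map_sum]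
    refine Finset.sum_congr rfl fun j _ => ?_
    rw [map_mul, map_mul, (hfix _).1 (hG i j)]
    simp [sv]
  have hDadd : ∀ a b, D (a + b) = D a + D b := by
    intro a b
    rw [hDdef, hDdef, hDdef, sv_add, hadd, hadd, map_add, map_add, hDpol]; ring
  have hDsmul : ∀ (c : F) a, D (c • a) = c ^ 2 * D a := by
    intro c a
    rw [hDdef, hDdef, sv_smul, hRs, hRs, map_mul, map_pow, RingEquiv.apply_symm_apply]; ring
  have hDinv : ∀ x ∈ N, ∀ a, D ((Bm * (x : Matrix ι ι F) * Bi) *ᵥ a) = D a := by
    intro x hx a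
    have hmap : (Bm * (x : Matrix ι ι F) * Bi).map σ.symm = Bm * (x : Matrix ι ι F) * Bi := by
      ext i j
      exact hfix' _ (hB x hx i j)
    rw [hDdef, hDdef, sv_mulVec, hmap, hR x hx, hR x hx]
  have hD0 : ∀ a, D a = 0 := by
    by_cases h2 : (2 : F) = 0
    · -- characteristic 2: the kernel of `D` is an invariant subspace
      let K : Submodule F (ι → F) :=
        { carrier := {a | D a = 0}
          add_mem' := fun {a b} ha hb => by
            show D (a + b) = 0
            rw [hDadd, show D a = 0 from ha, show D b = 0 from hb, add_zero]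
          zero_mem' := by
            show D 0 = 0
            have := hDsmul 0 0
            simpa using this
          smul_mem' := fun c a ha => by
            show D (c • a) = 0
            rw [hDsmul, show D a = 0 from ha, mul_zero] }
      have hKmem : ∀ a, a ∈ K ↔ D a = 0 := fun a => Iff.rfl
      have hKall : ∀ (Z : Matrix ι ι F) (a : ι → F), a ∈ K → Z *ᵥ a ∈ K := by
        intro Z a ha
        have hZ : Bi * Z * Bm ∈ spanAlg N := by rw [hspan]; exact Algebra.mem_top
        rw [mem_spanAlg_iff] at hZ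
        have key : ∀ Y ∈ Submodule.span F (matrixSet N), (Bm * Y * Bi) *ᵥ a ∈ K := by
          intro Y hY
          induction hY using Submodule.span_induction with
          | mem s hs =>
            obtain ⟨x, hx, rfl⟩ := hs
            rw [hKmem, hDinv x hx]; exact ha
          | zero => simp
          | add y z _ _ hy hz =>
            rw [Matrix.mul_add, Matrix.add_mul, Matrix.add_mulVec]; exact K.add_mem hy hz
          | smul c y _ hy =>
            rw [Matrix.mul_smul, Matrix.smul_mul, Matrix.smul_mulVec]; exact K.smul_mem c hy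
        have h1 := key _ hZ
        have hZ' : Bm * (Bi * Z * Bm) * Bi = Z := by
          calc Bm * (Bi * Z * Bm) * Bi = (Bm * Bi) * Z * (Bm * Bi) := by simp only [Matrix.mul_assoc]
            _ = Z := by rw [hBBi, Matrix.one_mul, Matrix.mul_one]
        rwa [hZ'] at h1
      obtain ⟨i, j, hij⟩ := Fintype.exists_pair_of_one_lt_card (α := ι) (by omega)
      have hex : ∃ u₀ ∈ K, u₀ ≠ 0 := by
        by_cases h0 : D (Pi.single i 1) = 0
        · refine ⟨Pi.single i 1, h0, ?_⟩
          intro h
          have := congrFun h i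
          simp at this
        · have hchar : ringChar F = 2 :=
            CharP.ringChar_of_prime_eq_zero Nat.prime_two (by exact_mod_cast h2)
          obtain ⟨c, hc⟩ := FiniteField.isSquare_of_char_two hchar
            (D (Pi.single j 1) / D (Pi.single i 1))
          refine ⟨Pi.single j 1 + c • Pi.single i 1, ?_, ?_⟩
          · show D _ = 0
            rw [hDadd, hDsmul, pow_two, ← hc, div_mul_cancel₀ _ h0, ← two_mul, h2, zero_mul]
          · intro h
            have := congrFun h j
            simp [hij] at this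
      obtain ⟨u₀, hu₀K, hu₀⟩ := hex
      intro a
      obtain ⟨k, hk⟩ : ∃ k, u₀ k ≠ 0 := by
        by_contra hcon
        push Not at hcon
        exact hu₀ (funext hcon)
      have ha : (Matrix.of fun r l => if l = k then a r * (u₀ k)⁻¹ else 0) *ᵥ u₀ = a := by
        funext r
        simp only [Matrix.mulVec, dotProduct, Matrix.of_apply]
        rw [Finset.sum_eq_single k]
        · rw [if_pos rfl, mul_assoc, inv_mul_cancel₀ hk, mul_one]
        · intro l _ hl
          rw [if_neg hl, zero_mul]
        · intro h; exact absurd (Finset.mem_univ k) h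
      have := hKall (Matrix.of fun r l => if l = k then a r * (u₀ k)⁻¹ else 0) u₀ hu₀K
      rw [ha] at this
      exact this
    · -- characteristic not 2
      intro a
      have h1 := hDadd a a
      have h3 : a + a = (2 : F) • a := (two_smul F a).symm
      rw [h3, hDsmul] at h1
      have h4 : (2 : F) * D a = 0 := by linear_combination h1
      rcases mul_eq_zero.1 h4 with h | h
      · exact absurd h h2
      · exact h
  have hsv : sv σ.symm u = u := by
    funext i
    exact hfix' (u i) (hu i)
  have h5 := hD0 u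
  rw [hDdef, hsv, sub_eq_zero] at h5
  exact (hfix _).2 h5

/-- EV9: an absolutely irreducible normal subgroup realisable over a proper subfield: subfield group carrying a multiple of
the quadratic form -/
theorem EV9 [Fintype F] (Q : (ι → F) → F) (hQ : IsNondegenerateQuadraticForm Q) (hn : 2 ≤ Fintype.card ι)
    (H N : Subgroup (GL ι F))
    (hHI : H ≤ isometryGroup F Q) (hNH : N ≤ H) (hnorm : NormalizesGrp H N) (hspan : spanAlg N = ⊤)
    (F₀ : Subfield F) (hF₀ : F₀ ≠ ⊤) (hreal : RealisableOver F₀ (matrixSet N)) :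
    ∃ (F₁ : Subfield F) (r : ℕ) (P : GL ι F) (ζ : F), r.Prime ∧ Fintype.card F = Nat.card F₁ ^ r ∧ ζ ≠ 0 ∧
      IsQuadFormRationalStructure (fun v : ι → F => ζ * Q v) F₁ P ∧ H ≤ subfieldSubgroup F₁ P := by
  classical
  obtain ⟨F₁, r, hr, hle, hcard⟩ := Cfsg.Agent.Lib.Helper35_Asch_PK11.exists_prime_index_subfield F₀ hF₀
  obtain ⟨B, hB⟩ := hreal
  set Bm : Matrix ι ι F := (B : Matrix ι ι F) with hBm
  set Bi : Matrix ι ι F := ((B⁻¹ : GL ι F) : Matrix ι ι F) with hBi
  have hBiB : Bi * Bm = 1 := by rw [hBi, hBm, ← Units.val_mul, inv_mul_cancel, Units.val_one]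
  -- the polar form and its Gram matrix
  have hb := hQ.polar_bilinear
  set G : Matrix ι ι F := gramMatrix (QuadraticMap.polar Q) with hGdef
  have hGdet : G.det ≠ 0 :=
    gram_det_ne_zero (RingEquiv.refl F) (QuadraticMap.polar Q) hb.add_left hb.smul_left hb.add_right
      (by simpa using hb.smul_right) hQ.nondegenerate
  have hNG : ∀ x ∈ N, (x : Matrix ι ι F)ᵀ * G * (x : Matrix ι ι F) = G := by
    intro x hx
    have h := gram_isometry (RingHom.id F) (QuadraticMap.polar Q) hb.add_left hb.smul_left hb.add_right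
      (by simpa using hb.smul_right) (x : Matrix ι ι F)
      (fun u v => polar_mulVec_of_mem Q (hHI (hNH hx)) u v)
    simpa using h
  obtain ⟨lam, hlam, hrat⟩ := gram_rational F₁ G hGdet N hNG hspan B
    (fun s hs i j => hle (hB s hs i j))
  -- the rescaled, transported form
  obtain ⟨R, hRdef⟩ : ∃ R : (ι → F) → F, ∀ w, R w = lam⁻¹ * Q (Bi *ᵥ w) := ⟨_, fun _ => rfl⟩
  have hRpol : ∀ a b, QuadraticMap.polar R a b = lam⁻¹ * QuadraticMap.polar Q (Bi *ᵥ a) (Bi *ᵥ b) := by
    intro a b
    unfold QuadraticMap.polar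
    rw [hRdef, hRdef, hRdef, Matrix.mulVec_add]; ring
  have hRs : ∀ (c : F) (v : ι → F), R (c • v) = c ^ 2 * R v := by
    intro c v
    rw [hRdef, hRdef, Matrix.mulVec_smul, hQ.smul]; ring
  have hRb : IsBilinearForm (QuadraticMap.polar R) := by
    refine ⟨?_, ?_, ?_, ?_⟩
    · intro x y v
      rw [hRpol, hRpol, hRpol, Matrix.mulVec_add, hb.add_left]; ring
    · intro c x v
      rw [hRpol, hRpol, Matrix.mulVec_smul, hb.smul_left]; ring
    · intro v x y
      rw [hRpol, hRpol, hRpol, Matrix.mulVec_add, hb.add_right]; ring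
    · intro c v x
      rw [hRpol, hRpol, Matrix.mulVec_smul, hb.smul_right]; ring
  have hRG : ∀ i j, gramMatrix (QuadraticMap.polar R) i j ∈ F₁ := by
    intro i j
    have h1 : gramMatrix (QuadraticMap.polar R) i j = lam⁻¹ * (Biᵀ * G * Bi) i j := by
      show QuadraticMap.polar R (Pi.single i 1) (Pi.single j 1) = _
      rw [hRpol, form_eq_dot (RingHom.id F) (QuadraticMap.polar Q) hb.add_left hb.smul_left hb.add_right
        (by simpa using hb.smul_right)]
      congr 1
      have e1 : ∀ k, Bi *ᵥ Pi.single k 1 = fun a => Bi a k := by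
        intro k
        funext a
        simp [Matrix.mulVec, dotProduct, Pi.single_apply]
      have e2 : (fun j_1 => (RingHom.id F) ((Bi *ᵥ Pi.single j 1) j_1)) = fun a => Bi a j := by
        funext a
        rw [e1]
        rfl
      rw [e1, e2, Matrix.mul_assoc]
      simp only [Matrix.mul_apply, Matrix.transpose_apply, dotProduct, Matrix.mulVec]
      rfl
    rw [h1]
    exact hrat i j
  have hRinv : ∀ x ∈ N, ∀ v, R ((Bm * (x : Matrix ι ι F) * Bi) *ᵥ v) = R v := by
    intro x hx v
    rw [hRdef, hRdef, Matrix.mulVec_mulVec, ← Matrix.mul_assoc, ← Matrix.mul_assoc, hBiB, Matrix.one_mul,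
      ← Matrix.mulVec_mulVec]
    rw [(mem_isometryGroup_iff Q x).1 (hHI (hNH hx))]
  refine ⟨F₁, r, B⁻¹, lam⁻¹, hr, hcard, inv_ne_zero hlam, ?_, ?_⟩
  · intro u hu
    have := quad_rational F₁ R hRs hRb hRG N hspan B
      (fun x hx i j => hle (hB _ (coe_mem_matrixSet hx) i j)) hRinv hn u hu
    rw [hRdef] at this
    exact this
  · intro h hh
    have hmem : B * h * B⁻¹ ∈ (Matrix.GeneralLinearGroup.map (F₁.subtype : F₁ →+* F)).range ⊔ scalars ι F :=
      Cfsg.Agent.Lib.Helper35_Asch_PK11.mem_sup_of_entries F₁ _ (fun i j k l =>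
        hle (Cfsg.Agent.Lib.Helper35_Asch_PK11.entries_mem N hspan F₀ B hB h (hnorm h hh) i j k l))
    refine ⟨B * h * B⁻¹, hmem, ?_⟩
    simp only [MulEquiv.coe_toMonoidHom, MulAut.conj_apply, inv_inv]
    group

end Cfsg.Agent.Lib.Helper47_OrthEven_EV9
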