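import Mathlib
import Cfsg.Agent.Lib.Helper32_P3Defs
import Cfsg.Agent.Lib.Helper32_OFRoot

/-!
# P3 market (helper32), package P3-CORE: the platonic lemma

A finite `p'`-group of rotations of a nondegenerate 3-dimensional quadratic space with no invariant
line has all element orders `≤ 5` (FIXV, AXIS, PART given as hypotheses).
-/

set_option autoImplicit false

namespace Cfsg.Agent.Lib.Helper47_P3_CORE

open Module Cfsg.Agent.Lib.Helper94_Symp Cfsg.Agent.Lib.Helper94_OrthSmall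
  Cfsg.Agent.Lib.Helper94_OrthSiegel Cfsg.Agent.Lib.Helper32_P3Defs

set_option linter.unusedSectionVars false
set_option linter.unusedVariables false

variable {F : Type*} [Field F]

variable {U : Type*} [AddCommGroup U] [Module F U]

/-- the stabiliser of a vector `v` in `G`, as a subgroup of `↥G`. -/
def Cst (G : Subgroup (U ≃ₗ[F] U)) (v : U) : Subgroup ↥G where
  carrier := {h | (h : U ≃ₗ[F] U) v = v}
  mul_mem' := by
    intro a b ha hb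
    show ((a * b : ↥G) : U ≃ₗ[F] U) v = v
    rw [Subgroup.coe_mul, LinearEquiv.mul_apply]
    have ha' : (a : U ≃ₗ[F] U) v = v := ha
    have hb' : (b : U ≃ₗ[F] U) v = v := hb
    rw [hb', ha']
  one_mem' := rfl
  inv_mem' := by
    intro a ha
    show ((a⁻¹ : ↥G) : U ≃ₗ[F] U) v = v
    have ha' : (a : U ≃ₗ[F] U) v = v := ha
    rw [Subgroup.coe_inv]
    have h1 : ((a : U ≃ₗ[F] U)⁻¹ * (a : U ≃ₗ[F] U)) v = v := by rw [inv_mul_cancel]; rfl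
    rw [LinearEquiv.mul_apply, ha'] at h1
    exact h1

theorem mem_Cst {G : Subgroup (U ≃ₗ[F] U)} {v : U} {h : ↥G} :
    h ∈ Cst G v ↔ (h : U ≃ₗ[F] U) v = v := Iff.rfl

theorem inv_apply_eq {g : U ≃ₗ[F] U} {x y : U} (h : g x = y) : g⁻¹ y = x := by
  have h1 : (g⁻¹ * g) x = x := by rw [inv_mul_cancel]; rfl
  rw [LinearEquiv.mul_apply, h] at h1
  exact h1

/-- the stabiliser of a non-zero multiple. -/
theorem Cst_smul (G : Subgroup (U ≃ₗ[F] U)) (v : U) {c : F} (hc : c ≠ 0) :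
    Cst G (c • v) = Cst G v := by
  ext h
  rw [mem_Cst, mem_Cst, map_smul]
  constructor
  · intro h1
    exact smul_right_injective U hc h1
  · intro h1
    rw [h1]

/-- conjugation moves the stabiliser of `v` to the stabiliser of `g v`. -/
theorem Cst_map_conj (G : Subgroup (U ≃ₗ[F] U)) (v : U) (g : ↥G) :
    (Cst G v).map (MulAut.conj g).toMonoidHom = Cst G ((g : U ≃ₗ[F] U) v) := by
  ext k
  constructor
  · rintro ⟨x, hx, rfl⟩
    have hx' : (x : U ≃ₗ[F] U) v = v := hx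
    show ((g * x * g⁻¹ : ↥G) : U ≃ₗ[F] U) ((g : U ≃ₗ[F] U) v) = (g : U ≃ₗ[F] U) v
    rw [Subgroup.coe_mul, Subgroup.coe_mul, Subgroup.coe_inv, LinearEquiv.mul_apply,
      LinearEquiv.mul_apply, inv_apply_eq rfl, hx']
  · intro hk
    have hk' : (k : U ≃ₗ[F] U) ((g : U ≃ₗ[F] U) v) = (g : U ≃ₗ[F] U) v := hk
    refine ⟨g⁻¹ * k * g, ?_, ?_⟩
    · show ((g⁻¹ * k * g : ↥G) : U ≃ₗ[F] U) v = v
      rw [Subgroup.coe_mul, Subgroup.coe_mul, Subgroup.coe_inv, LinearEquiv.mul_apply,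
        LinearEquiv.mul_apply, hk', inv_apply_eq rfl]
    · show g * (g⁻¹ * k * g) * g⁻¹ = k
      group

variable [FiniteDimensional F U]
variable {Q : U → F} {B : LinearMap.BilinForm F U}

/-- P3-CORE (statement verbatim from `pending/helper32/P3_packages.lean.txt`). -/
theorem P3CORE (hQs : ∀ (a : F) (v : U), Q (a • v) = a * a * Q v)
    (hQp : ∀ u v : U, Q (u + v) = Q u + Q v + B u v) (h2 : (2 : F) ≠ 0) (hN : B.Nondegenerate)
    (h3 : finrank F U = 3) (p : ℕ) [Fact p.Prime] [CharP F p] (G : Subgroup (U ≃ₗ[F] U))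
    [Finite G] (hGO : G ≤ oG Q) (hdet : ∀ g ∈ G, LinearEquiv.det g = 1)
    (hp : ¬ p ∣ Nat.card G)
    (hirr : ∀ v : U, v ≠ 0 → ∃ g ∈ G, g v ∉ Submodule.span F {v})
    (hFIXV : ∀ g ∈ G, ∃ v : U, v ≠ 0 ∧ g v = v)
    (hAXIS : ∀ g ∈ G, g ^ p ≠ 1 → ∀ v : U, v ≠ 0 → g v = v →
      Q v ≠ 0 ∧ ∀ w : U, g w = w → w ∈ Submodule.span F {v})
    (hPART : ∀ (𝒞 : Set (Subgroup G)), (∀ g : G, g ≠ 1 → ∃ C ∈ 𝒞, g ∈ C) →
      (∀ C ∈ 𝒞, ∀ C' ∈ 𝒞, C ≠ C' → C ⊓ C' = ⊥) →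
      (∀ C ∈ 𝒞, ∀ g : G, C.map (MulAut.conj g).toMonoidHom ∈ 𝒞) →
      (∀ C ∈ 𝒞, C ≠ ⊥) →
      (∀ C ∈ 𝒞, ∀ g h : G, g ∈ Subgroup.normalizer (C : Set G) →
        h ∈ Subgroup.normalizer (C : Set G) → g ∉ C → h ∉ C → g⁻¹ * h ∈ C) →
      ∀ C ∈ 𝒞, 6 ≤ Nat.card C → C.Normal) :
    ∀ g ∈ G, orderOf g ≤ 5 := by
  classical
  -- the axis of a non-trivial element
  have key : ∀ k : ↥G, k ≠ 1 → ∀ v : U, v ≠ 0 → (k : U ≃ₗ[F] U) v = v →
      Q v ≠ 0 ∧ ∀ w : U, (k : U ≃ₗ[F] U) w = w → w ∈ Submodule.span F {v} := by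
    intro k hk v hv hkv
    have hkp : (k : U ≃ₗ[F] U) ^ p ≠ 1 := by
      intro h
      have h0 : k ^ p = 1 := Subtype.ext (by rw [Subgroup.coe_pow, h]; rfl)
      have h1 : orderOf k ∣ p := orderOf_dvd_of_pow_eq_one h0
      rcases (Nat.dvd_prime (Fact.out : p.Prime)).mp h1 with h2 | h2
      · exact hk (orderOf_eq_one_iff.mp h2)
      · exact hp (h2 ▸ orderOf_dvd_natCard k)
    exact hAXIS k k.2 hkp v hv hkv
  -- the family of non-trivial vector stabilisers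
  obtain ⟨𝒞, h𝒞⟩ : ∃ 𝒞 : Set (Subgroup ↥G), 𝒞 = {C | ∃ v : U, v ≠ 0 ∧ (∃ k ∈ Cst G v, k ≠ 1) ∧
      C = Cst G v} := ⟨_, rfl⟩
  have hmem : ∀ C, C ∈ 𝒞 ↔ ∃ v : U, v ≠ 0 ∧ (∃ k ∈ Cst G v, k ≠ 1) ∧ C = Cst G v := by
    intro C; rw [h𝒞]; rfl
  have hcov : ∀ g : G, g ≠ 1 → ∃ C ∈ 𝒞, g ∈ C := by
    intro g hg
    obtain ⟨v, hv, hgv⟩ := hFIXV g g.2
    exact ⟨Cst G v, (hmem _).2 ⟨v, hv, ⟨g, hgv, hg⟩, rfl⟩, hgv⟩
  have hdisj : ∀ C ∈ 𝒞, ∀ C' ∈ 𝒞, C ≠ C' → C ⊓ C' = ⊥ := by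
    intro C hC C' hC' hne
    obtain ⟨v, hv, -, rfl⟩ := (hmem _).1 hC
    obtain ⟨v', hv', -, rfl⟩ := (hmem _).1 hC'
    rw [eq_bot_iff]
    intro h hh
    rw [Subgroup.mem_bot]
    by_contra h1
    obtain ⟨hh1, hh2⟩ := Subgroup.mem_inf.mp hh
    obtain ⟨-, hsp⟩ := key h h1 v hv hh1
    obtain ⟨c, hc⟩ := Submodule.mem_span_singleton.mp (hsp v' hh2)
    have hc0 : c ≠ 0 := by
      rintro rfl
      rw [zero_smul] at hc
      exact hv' hc.symm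
    apply hne
    rw [← hc, Cst_smul G v hc0]
  have hconj : ∀ C ∈ 𝒞, ∀ g : G, C.map (MulAut.conj g).toMonoidHom ∈ 𝒞 := by
    intro C hC g
    obtain ⟨v, hv, ⟨k, hk, hk1⟩, rfl⟩ := (hmem _).1 hC
    rw [Cst_map_conj]
    refine (hmem _).2 ⟨(g : U ≃ₗ[F] U) v, ?_, ⟨g * k * g⁻¹, ?_, ?_⟩, rfl⟩
    · intro h0
      apply hv
      have := inv_apply_eq h0
      rw [map_zero] at this
      exact this.symm
    · rw [← Cst_map_conj]
      exact ⟨k, hk, rfl⟩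
    · intro h0
      apply hk1
      have : k = g⁻¹ * (g * k * g⁻¹) * g := by group
      rw [this, h0]
      group
  have hnt : ∀ C ∈ 𝒞, C ≠ ⊥ := by
    intro C hC
    obtain ⟨v, hv, ⟨k, hk, hk1⟩, rfl⟩ := (hmem _).1 hC
    intro hbot
    rw [hbot, Subgroup.mem_bot] at hk
    exact hk1 hk
  have hidx : ∀ C ∈ 𝒞, ∀ g h : G, g ∈ Subgroup.normalizer (C : Set G) →
      h ∈ Subgroup.normalizer (C : Set G) → g ∉ C → h ∉ C → g⁻¹ * h ∈ C := by
    intro C hC g h hg hh hgC hhC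
    obtain ⟨v, hv, ⟨k, hk, hk1⟩, rfl⟩ := (hmem _).1 hC
    obtain ⟨hQv, hsp⟩ := key k hk1 v hv hk
    -- an element of the normaliser outside `C` maps `v` to `-v`
    have hneg : ∀ g : G, g ∈ Subgroup.normalizer ((Cst G v : Subgroup ↥G) : Set G) → g ∉ Cst G v →
        (g : U ≃ₗ[F] U) v = -v := by
      intro g hg hgC
      have h1 : g⁻¹ * k * g ∈ Cst G v := by
        rw [Subgroup.mem_normalizer_iff.mp hg (g⁻¹ * k * g)]
        have : g * (g⁻¹ * k * g) * g⁻¹ = k := by group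
        rw [this]
        exact hk
      have h2 : ((g⁻¹ * k * g : ↥G) : U ≃ₗ[F] U) v = v := h1
      rw [Subgroup.coe_mul, Subgroup.coe_mul, Subgroup.coe_inv, LinearEquiv.mul_apply,
        LinearEquiv.mul_apply] at h2
      have h3 : (k : U ≃ₗ[F] U) ((g : U ≃ₗ[F] U) v) = (g : U ≃ₗ[F] U) v := by
        have := inv_apply_eq h2
        rw [inv_inv] at this
        exact this.symm
      obtain ⟨c, hc⟩ := Submodule.mem_span_singleton.mp (hsp _ h3)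
      have hQ : Q ((g : U ≃ₗ[F] U) v) = Q v := hGO g.2 v
      rw [← hc, hQs] at hQ
      have hcc : c * c = 1 := by
        have : (c * c - 1) * Q v = 0 := by rw [sub_mul, hQ, one_mul, sub_self]
        rcases mul_eq_zero.mp this with h | h
        · exact sub_eq_zero.mp h
        · exact absurd h hQv
      rcases mul_self_eq_one_iff.mp hcc with rfl | rfl
      · exfalso
        apply hgC
        rw [mem_Cst, ← hc, one_smul]
      · rw [← hc, neg_one_smul]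
    have e1 := hneg g hg hgC
    have e2 := hneg h hh hhC
    show ((g⁻¹ * h : ↥G) : U ≃ₗ[F] U) v = v
    rw [Subgroup.coe_mul, Subgroup.coe_inv, LinearEquiv.mul_apply, e2, ← e1]
    exact inv_apply_eq rfl
  have hnormal := hPART 𝒞 hcov hdisj hconj hnt hidx
  intro g hg
  by_contra hgt
  push Not at hgt
  have hg1 : (⟨g, hg⟩ : ↥G) ≠ 1 := by
    intro h
    have : g = 1 := congrArg Subtype.val h
    rw [this, orderOf_one] at hgt
    omega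
  obtain ⟨v, hv, hgv⟩ := hFIXV g hg
  have hCv : Cst G v ∈ 𝒞 := (hmem _).2 ⟨v, hv, ⟨⟨g, hg⟩, hgv, hg1⟩, rfl⟩
  have hgC : (⟨g, hg⟩ : ↥G) ∈ Cst G v := hgv
  have hord : orderOf g = orderOf (⟨g, hg⟩ : ↥G) := (Subgroup.orderOf_mk g hg).symm
  have hcard : 6 ≤ Nat.card (Cst G v) := by
    have h1 : orderOf (⟨⟨g, hg⟩, hgC⟩ : ↥(Cst G v)) ∣ Nat.card (Cst G v) := orderOf_dvd_natCard _
    rw [Subgroup.orderOf_mk, ← hord] at h1
    exact le_trans hgt (Nat.le_of_dvd Nat.card_pos h1)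
  have hn : (Cst G v).Normal := hnormal _ hCv hcard
  obtain ⟨-, hsp⟩ := key ⟨g, hg⟩ hg1 v hv hgv
  obtain ⟨k, hk, hkv⟩ := hirr v hv
  apply hkv
  apply hsp
  -- `k⁻¹ g k ∈ C`
  have h1 := hn.conj_mem ⟨g, hg⟩ hgC (⟨k, hk⟩ : ↥G)⁻¹
  have h2 : (((⟨k, hk⟩ : ↥G)⁻¹ * ⟨g, hg⟩ * (⟨k, hk⟩ : ↥G)⁻¹⁻¹ : ↥G) : U ≃ₗ[F] U) v = v := h1
  rw [inv_inv, Subgroup.coe_mul, Subgroup.coe_mul, Subgroup.coe_inv, LinearEquiv.mul_apply,
    LinearEquiv.mul_apply] at h2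
  have := inv_apply_eq h2
  rw [inv_inv] at this
  exact this.symm

end Cfsg.Agent.Lib.Helper47_P3_CORE
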