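import Cfsg.Agent.Lib.Helper47_PLocal

set_option autoImplicit false

namespace Cfsg.Agent.Lib.Helper47_PReduced

open Cfsg
open Cfsg.Agent.Lib.Helper47_PLocal
open scoped commutatorElement Pointwise

/-! ### `O_p` of a quotient, without quotients -/

/-- `O_p(L / C) = 1` iff every normal subgroup `D` of `L` whose image in `L / C` is a `p`-group
lies in `C`. -/
theorem pCore_quotient_eq_bot_iff {L : Type*} [Group L] {p : ℕ} (C : Subgroup L) [C.Normal] :
    Cfsg.pCore p (L ⧸ C) = ⊥ ↔
      ∀ D : Subgroup L, D.Normal → (∀ d ∈ D, ∃ k : ℕ, d ^ (p ^ k) ∈ C) → D ≤ C := by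
  constructor
  · intro h D hD hDp
    have h1 : (D.map (QuotientGroup.mk' C)).Normal :=
      hD.map _ (QuotientGroup.mk'_surjective C)
    have h2 : IsPGroup p (D.map (QuotientGroup.mk' C)) := by
      rintro ⟨x, hx⟩
      obtain ⟨d, hd, rfl⟩ := Subgroup.mem_map.mp hx
      obtain ⟨k, hk⟩ := hDp d hd
      refine ⟨k, Subtype.ext ?_⟩
      show (QuotientGroup.mk' C d) ^ (p ^ k) = 1
      rw [← map_pow]
      exact (QuotientGroup.eq_one_iff _).mpr hk
    have h3 : D.map (QuotientGroup.mk' C) ≤ Cfsg.pCore p (L ⧸ C) := le_pCore h1 h2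
    intro d hd
    have h4 : QuotientGroup.mk' C d = 1 := by
      have : QuotientGroup.mk' C d ∈ D.map (QuotientGroup.mk' C) := Subgroup.mem_map_of_mem _ hd
      rw [le_bot_iff.mp (le_trans (le_pCore h1 h2) (le_of_eq h))] at this
      exact Subgroup.mem_bot.mp this
    exact (QuotientGroup.eq_one_iff d).mp h4
  · intro h
    rw [eq_bot_iff]
    have hQ : IsPGroup p (Cfsg.pCore p (L ⧸ C)) := pCore_isPGroup p _
    have h1 : ((Cfsg.pCore p (L ⧸ C)).comap (QuotientGroup.mk' C)).Normal :=
      Subgroup.Normal.comap inferInstance _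
    have h2 := h _ h1 (by
      intro d hd
      obtain ⟨k, hk⟩ := hQ ⟨QuotientGroup.mk' C d, hd⟩
      refine ⟨k, ?_⟩
      have hk' : (QuotientGroup.mk' C d) ^ (p ^ k) = 1 := by
        simpa using congrArg Subtype.val hk
      rw [← map_pow] at hk'
      exact (QuotientGroup.eq_one_iff _).mp hk')
    intro x hx
    obtain ⟨d, rfl⟩ := QuotientGroup.mk'_surjective C x
    have : d ∈ C := h2 hx
    rw [Subgroup.mem_bot]
    exact (QuotientGroup.eq_one_iff d).mpr this

/-- Quotient-free form of `IsPReducedNormal`. -/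
theorem isPReducedNormal_iff {L : Type*} [Group L] {p : ℕ} (V : Subgroup L) :
    Cfsg.IsPReducedNormal p V ↔ V.Normal ∧ Cfsg.IsElementaryAbelian p V ∧
      ∀ D : Subgroup L, D.Normal →
        (∀ d ∈ D, ∃ k : ℕ, d ^ (p ^ k) ∈ Subgroup.centralizer (V : Set L)) →
          D ≤ Subgroup.centralizer (V : Set L) := by
  constructor
  · rintro ⟨hV, hel, hC, h⟩
    exact ⟨hV, hel, (pCore_quotient_eq_bot_iff _).mp h⟩
  · rintro ⟨hV, hel, h⟩
    have hC : (Subgroup.centralizer (V : Set L)).Normal := Subgroup.normal_centralizer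
    exact ⟨hV, hel, hC, (pCore_quotient_eq_bot_iff _).mpr h⟩

theorem IsPReducedNormal.pCore_le_centralizer {L : Type*} [Group L] {p : ℕ} {V : Subgroup L}
    (hV : Cfsg.IsPReducedNormal p V) : Cfsg.pCore p L ≤ Subgroup.centralizer (V : Set L) := by
  obtain ⟨_, _, h⟩ := (isPReducedNormal_iff V).mp hV
  apply h _ inferInstance
  intro d hd
  obtain ⟨k, hk⟩ := pCore_isPGroup p L ⟨d, hd⟩
  refine ⟨k, ?_⟩
  have hk' : d ^ (p ^ k) = 1 := by simpa using congrArg Subtype.val hk
  rw [hk']
  exact Subgroup.one_mem _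

theorem isPGroup_of_isElementaryAbelian {L : Type*} [Group L] {p : ℕ} {V : Subgroup L}
    (hV : Cfsg.IsElementaryAbelian p V) : IsPGroup p V := by
  intro v
  refine ⟨1, Subtype.ext ?_⟩
  have := hV.2 v.1 v.2
  simpa using this

theorem IsPReducedNormal.le_pCore {L : Type*} [Group L] {p : ℕ} {V : Subgroup L}
    (hV : Cfsg.IsPReducedNormal p V) : V ≤ Cfsg.pCore p L :=
  Cfsg.Agent.Lib.Helper47_PLocal.le_pCore hV.1 (isPGroup_of_isElementaryAbelian hV.2.1)

/-- The closure of pairwise commuting elements of order dividing `p` is elementary abelian. -/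
theorem isElementaryAbelian_closure {G : Type*} [Group G] {p : ℕ} (S : Set G)
    (hcomm : ∀ a ∈ S, ∀ b ∈ S, Commute a b) (hp : ∀ a ∈ S, a ^ p = 1) :
    Cfsg.IsElementaryAbelian p (Subgroup.closure S) := by
  have h1 : Subgroup.closure S ≤ Subgroup.centralizer (Subgroup.closure S : Set G) := by
    have hS : S ⊆ Subgroup.centralizer S := by
      intro a ha
      show a ∈ Subgroup.centralizer S
      rw [Subgroup.mem_centralizer_iff]
      intro b hb
      exact (hcomm b hb a ha).eq
    have h2 : Subgroup.closure S ≤ Subgroup.centralizer S := (Subgroup.closure_le _).mpr hS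
    calc Subgroup.closure S ≤ Subgroup.centralizer (Subgroup.centralizer S : Set G) :=
          Subgroup.closure_le_centralizer_centralizer S
      _ ≤ Subgroup.centralizer (Subgroup.closure S : Set G) := Subgroup.centralizer_le h2
  have hc : ∀ x ∈ Subgroup.closure S, ∀ y ∈ Subgroup.closure S, Commute x y := by
    intro x hx y hy
    exact (Subgroup.mem_centralizer_iff.mp (h1 hy)) x hx
  refine ⟨⟨⟨fun a b => Subtype.ext (hc a.1 a.2 b.1 b.2).eq⟩⟩, ?_⟩
  intro x hx
  induction hx using Subgroup.closure_induction with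
  | mem x hx => exact hp x hx
  | one => simp
  | mul x y hx hy ihx ihy => rw [(hc x hx y hy).mul_pow, ihx, ihy, one_mul]
  | inv x _ ihx => rw [inv_pow, ihx, inv_one]

/-- `Y_L`, the join of all `p`-reduced normal subgroups, is itself `p`-reduced normal. -/
theorem isPReducedNormal_largestPReduced (p : ℕ) (L : Type*) [Group L] :
    Cfsg.IsPReducedNormal p (Cfsg.largestPReduced p L) := by
  rw [isPReducedNormal_iff]
  refine ⟨Subgroup.sSup_normal _ (fun _ h => h.1), ?_, ?_⟩
  · unfold Cfsg.largestPReduced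
    rw [sSup_eq_iSup', Subgroup.iSup_eq_closure]
    apply isElementaryAbelian_closure
    · intro a ha b hb
      simp only [Set.mem_iUnion, SetLike.mem_coe] at ha hb
      obtain ⟨⟨V, hV⟩, haV⟩ := ha
      obtain ⟨⟨W, hW⟩, hbW⟩ := hb
      have h1 : a ∈ Subgroup.centralizer (W : Set L) :=
        (IsPReducedNormal.pCore_le_centralizer hW) (IsPReducedNormal.le_pCore hV haV)
      exact (Subgroup.mem_centralizer_iff.mp h1 b hbW).symm
    · intro a ha
      simp only [Set.mem_iUnion, SetLike.mem_coe] at ha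
      obtain ⟨⟨V, hV⟩, haV⟩ := ha
      exact hV.2.1.2 a haV
  · intro D hD hDp
    rw [← Subgroup.le_centralizer_iff]
    unfold Cfsg.largestPReduced
    apply sSup_le
    intro V hV
    rw [Subgroup.le_centralizer_iff]
    obtain ⟨_, _, h⟩ := (isPReducedNormal_iff V).mp hV
    apply h D hD
    intro d hd
    obtain ⟨k, hk⟩ := hDp d hd
    refine ⟨k, Subgroup.centralizer_le ?_ hk⟩
    exact SetLike.coe_subset_coe.mpr (le_sSup hV)

theorem le_largestPReduced {p : ℕ} {L : Type*} [Group L] {V : Subgroup L}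
    (hV : Cfsg.IsPReducedNormal p V) : V ≤ Cfsg.largestPReduced p L :=
  le_sSup hV

end Cfsg.Agent.Lib.Helper47_PReduced
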