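import Cfsg.Agent.Lib.Helper48_OpJoin
import Cfsg.Agent.Lib.Helper48_PMinimal
import Cfsg.Agent.Lib.Helper48_PMinimal2

/-!
# Sylow subgroups of joins of subnormal subgroups (helper48)

`inf_sylow_sup`: for subnormal `A`, `B` and a Sylow `p`-subgroup `S` of a finite group,
`⟨A, B⟩ ∩ S = ⟨A ∩ S, B ∩ S⟩`.
-/

set_option autoImplicit false
open Cfsg
open scoped Pointwise commutatorElement
open Cfsg.Agent.Lib.Helper48_SPE Cfsg.Agent.Lib.Helper48_Op Cfsg.Agent.Lib.Lead_Subnormal
open Cfsg.Agent.Lib.Helper48_OpJoin Cfsg.Agent.Lib.Helper48_PMinimal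

namespace Cfsg.Agent.Lib.Helper48_SylowJoin

universe u

section General

variable {G : Type*} [Group G]

/-- The relative index can only drop under a homomorphism. -/
theorem relIndex_map_dvd {G' : Type*} [Group G'] (f : G →* G') {Q K : Subgroup G} (hQK : Q ≤ K) :
    (Q.map f).relIndex (K.map f) ∣ Q.relIndex K := by
  have hsurj : Function.Surjective (f.subgroupMap K) := f.subgroupMap_surjective K
  have h1 := Subgroup.index_map_dvd (Q.subgroupOf K) hsurj
  have h2 : (Q.subgroupOf K).map (f.subgroupMap K) = (Q.map f).subgroupOf (K.map f) := by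
    ext ⟨y, hy⟩
    rw [Subgroup.mem_subgroupOf]
    constructor
    · rintro ⟨⟨x, hxK⟩, hx, hxy⟩
      have hx' : x ∈ Q := hx
      have : f x = y := congrArg Subtype.val hxy
      exact ⟨x, hx', this⟩
    · rintro ⟨x, hx, hxy⟩
      have hx' : x ∈ Q := hx
      refine ⟨⟨x, hQK hx'⟩, ?_, ?_⟩
      · show (⟨x, hQK hx'⟩ : ↥K) ∈ Q.subgroupOf K
        rw [Subgroup.mem_subgroupOf]
        exact hx'
      · exact Subtype.ext hxy
  rw [h2] at h1
  exact h1

/-- The image of a Sylow subgroup of `K` is a Sylow subgroup of the image of `K`. -/
theorem IsSylowIn.map [Finite G] {G' : Type*} [Group G'] [Finite G'] {p : ℕ} [Fact p.Prime]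
    {Q K : Subgroup G} (h : IsSylowIn p Q K) (f : G →* G') : IsSylowIn p (Q.map f) (K.map f) := by
  apply isSylowIn_of_not_dvd_relIndex (Subgroup.map_mono h.le) (h.isPGroup.map f)
  intro hdvd
  exact Cfsg.Agent.Lib.Helper48_PMinimal2.IsSylowIn.not_dvd_relIndex h
    (hdvd.trans (relIndex_map_dvd f h.le))

/-- Transfer: if a Sylow `p`-subgroup is `T × N` with `N ≠ 1` central in `G`, then `O^p(G) < G`. -/
theorem pResidual_ne_top_of_central [Finite G] {p : ℕ} [Fact p.Prime] (S : Sylow p G)
    {T N : Subgroup G} (hN : N ≤ Subgroup.center G) (hsup : T ⊔ N = (S : Subgroup G))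
    (hinf : T ⊓ N = ⊥) (hN1 : N ≠ ⊥) : pResidual p G ≠ ⊤ := by
  have hp : p.Prime := Fact.out
  intro htop
  obtain ⟨⟨z, hzN⟩, hz1⟩ := (Subgroup.ne_bot_iff_exists_ne_one).mp hN1
  have hz1' : z ≠ 1 := fun h => hz1 (Subtype.ext h)
  have hzS : z ∈ (S : Subgroup G) := hsup ▸ Subgroup.mem_sup_right hzN
  have hzc : z ∈ Subgroup.center G := hN hzN
  -- the transfer into the abelianization of `S`
  have hpgA : IsPGroup p (Abelianization ↥(S : Subgroup G)) := S.isPGroup'.to_quotient _
  have hker : ∀ g : G, MonoidHom.transfer
      (Abelianization.of : ↥(S : Subgroup G) →* Abelianization ↥(S : Subgroup G)) g = 1 := by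
    have hle : pResidual p G ≤ (MonoidHom.transfer
        (Abelianization.of : ↥(S : Subgroup G) →* Abelianization ↥(S : Subgroup G))).ker := by
      unfold pResidual
      rw [Subgroup.closure_le]
      intro x hx
      have hx' : (orderOf x).Coprime p := hx
      rw [SetLike.mem_coe, MonoidHom.mem_ker]
      obtain ⟨k, hk⟩ := hpgA (MonoidHom.transfer
        (Abelianization.of : ↥(S : Subgroup G) →* Abelianization ↥(S : Subgroup G)) x)
      have h1 := orderOf_dvd_of_pow_eq_one hk
      have h2 := orderOf_map_dvd (MonoidHom.transfer
        (Abelianization.of : ↥(S : Subgroup G) →* Abelianization ↥(S : Subgroup G))) x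
      have h3 := Nat.eq_one_of_dvd_coprimes (Nat.Coprime.pow_right k hx') h2 h1
      exact orderOf_eq_one_iff.mp h3
    intro g
    exact MonoidHom.mem_ker.mp (hle (htop ▸ Subgroup.mem_top g))
  have hkey : ∀ (k : ℕ) (g₀ : G), g₀⁻¹ * z ^ k * g₀ ∈ (S : Subgroup G) →
      g₀⁻¹ * z ^ k * g₀ = z ^ k := by
    intro k g₀ _
    have hc : z ^ k ∈ Subgroup.center G := (Subgroup.center G).pow_mem hzc k
    rw [mul_assoc, ← (Subgroup.mem_center_iff.mp hc g₀), inv_mul_cancel_left]
  have h1 := MonoidHom.transfer_eq_pow
    (Abelianization.of : ↥(S : Subgroup G) →* Abelianization ↥(S : Subgroup G)) z hkey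
  rw [hker z] at h1
  -- `z ^ index ∈ [S, S] ≤ T`
  have h2 : (⟨z ^ (S : Subgroup G).index, MonoidHom.transfer_eq_pow_aux z hkey⟩ :
      ↥(S : Subgroup G)) ∈ commutator ↥(S : Subgroup G) :=
    (QuotientGroup.eq_one_iff _).mp h1.symm
  have hNn : N.Normal := by
    refine ⟨fun n hn g => ?_⟩
    have := Subgroup.mem_center_iff.mp (hN hn) g
    rw [this, mul_inv_cancel_right]
    exact hn
  have h3 : commutator ↥(S : Subgroup G) ≤ T.subgroupOf (S : Subgroup G) := by
    rw [commutator_def, Subgroup.commutator_le]
    intro a _ b _
    rw [Subgroup.mem_subgroupOf]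
    have ha : (a : G) ∈ T ⊔ N := by rw [hsup]; exact a.2
    have hb : (b : G) ∈ T ⊔ N := by rw [hsup]; exact b.2
    obtain ⟨t, ht, n, hn, hab⟩ := Subgroup.mem_sup_of_normal_right.mp ha
    obtain ⟨t', ht', n', hn', hab'⟩ := Subgroup.mem_sup_of_normal_right.mp hb
    have e : ((⁅a, b⁆ : ↥(S : Subgroup G)) : G) = ⁅(a : G), (b : G)⁆ := by
      rw [commutatorElement_def, commutatorElement_def]
      simp
    rw [e, ← hab, ← hab',
      Cfsg.Agent.Lib.Helper21_Components.commutatorElement_mul_center_left (hN hn),
      Cfsg.Agent.Lib.Helper21_Components.commutatorElement_mul_center_right (hN hn')]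
    exact (Subgroup.commutator_le_self T) (Subgroup.commutator_mem_commutator ht ht')
  have h4 : z ^ (S : Subgroup G).index ∈ T := by
    have := h3 h2
    rwa [Subgroup.mem_subgroupOf] at this
  have h5 : z ^ (S : Subgroup G).index ∈ T ⊓ N := ⟨h4, N.pow_mem hzN _⟩
  rw [hinf, Subgroup.mem_bot] at h5
  have h6 : orderOf z ∣ (S : Subgroup G).index := orderOf_dvd_of_pow_eq_one h5
  obtain ⟨k, hk⟩ := (IsPGroup.iff_orderOf.mp S.isPGroup') ⟨z, hzS⟩
  rw [Subgroup.orderOf_mk] at hk
  have hk0 : k ≠ 0 := by
    rintro rfl
    rw [pow_zero, orderOf_eq_one_iff] at hk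
    exact hz1' hk
  apply S.not_dvd_index
  refine dvd_trans ?_ h6
  rw [hk]
  exact dvd_pow_self p hk0

/-- A subgroup centralizing two subgroups which generate `G` is central. -/
theorem le_center_of_le_centralizer_sup {N A B : Subgroup G}
    (hA : N ≤ Subgroup.centralizer (A : Set G)) (hB : N ≤ Subgroup.centralizer (B : Set G))
    (htop : A ⊔ B = ⊤) : N ≤ Subgroup.center G := by
  intro z hz
  rw [Subgroup.mem_center_iff]
  intro g
  have hg : g ∈ Subgroup.centralizer ({z} : Set G) := by
    have h1 : A ⊔ B ≤ Subgroup.centralizer ({z} : Set G) := by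
      apply sup_le
      · intro r hr
        rw [Subgroup.mem_centralizer_singleton_iff]
        exact Subgroup.mem_centralizer_iff.mp (hA hz) r hr
      · intro b hb
        rw [Subgroup.mem_centralizer_singleton_iff]
        exact Subgroup.mem_centralizer_iff.mp (hB hz) b hb
    rw [htop] at h1
    exact h1 (Subgroup.mem_top g)
  rw [Subgroup.mem_centralizer_singleton_iff] at hg
  exact hg

end General

/-- Main induction for the Sylow subgroups of a join of subnormal subgroups. -/
theorem sup_inf_sylow_le_aux (p : ℕ) [Fact p.Prime] : ∀ (n : ℕ) (G : Type u) [Group G] [Finite G],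
    Nat.card G = n → ∀ (S : Sylow p G) (A B : Subgroup G), A.IsSubnormal → B.IsSubnormal →
      (A ⊔ B) ⊓ (S : Subgroup G) ≤ (A ⊓ (S : Subgroup G)) ⊔ (B ⊓ (S : Subgroup G)) := by
  have hp : p.Prime := Fact.out
  intro n
  induction n using Nat.strong_induction_on with
  | _ n ih =>
    intro G _ _ hn S
    -- the case of a proper join, by induction in the join
    have hcase1 : ∀ A B : Subgroup G, A.IsSubnormal → B.IsSubnormal → A ⊔ B ≠ ⊤ →
        (A ⊔ B) ⊓ (S : Subgroup G) ≤ (A ⊓ (S : Subgroup G)) ⊔ (B ⊓ (S : Subgroup G)) := by
      intro A B hA hB hne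
      have hJ : (A ⊔ B).IsSubnormal := isSubnormal_sup hA hB
      have hcard : Nat.card ↥(A ⊔ B) < n :=
        hn ▸ Cfsg.Agent.Lib.Helper21_Components.card_lt_of_ne_top hne
      have hSJ : IsSylowIn p ((S : Subgroup G) ⊓ (A ⊔ B)) (A ⊔ B) :=
        isSylowIn_inf_of_isSubnormal S hJ
      have h := ih _ hcard ↥(A ⊔ B) rfl hSJ.toSylow (A.subgroupOf (A ⊔ B)) (B.subgroupOf (A ⊔ B))
        hA.subgroupOf hB.subgroupOf
      have hinj : Function.Injective (A ⊔ B).subtype := (A ⊔ B).subtype_injective
      have htop' : A.subgroupOf (A ⊔ B) ⊔ B.subgroupOf (A ⊔ B) = ⊤ := by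
        apply Subgroup.map_injective hinj
        rw [Subgroup.map_sup, Subgroup.map_subgroupOf_eq_of_le le_sup_left,
          Subgroup.map_subgroupOf_eq_of_le le_sup_right, ← MonoidHom.range_eq_map,
          Subgroup.range_subtype]
      intro x hx
      have hx1 : (⟨x, hx.1⟩ : ↥(A ⊔ B)) ∈ (A.subgroupOf (A ⊔ B) ⊔ B.subgroupOf (A ⊔ B)) ⊓
          ((hSJ.toSylow : Sylow p ↥(A ⊔ B)) : Subgroup ↥(A ⊔ B)) := by
        constructor
        · rw [htop']
          exact Subgroup.mem_top _
        · show (⟨x, hx.1⟩ : ↥(A ⊔ B)) ∈ ((S : Subgroup G) ⊓ (A ⊔ B)).subgroupOf (A ⊔ B)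
          rw [Subgroup.mem_subgroupOf]
          exact ⟨hx.2, hx.1⟩
      have hx2 := h hx1
      have hx3 : x ∈ ((A.subgroupOf (A ⊔ B) ⊓
          ((hSJ.toSylow : Sylow p ↥(A ⊔ B)) : Subgroup ↥(A ⊔ B))) ⊔
          (B.subgroupOf (A ⊔ B) ⊓
          ((hSJ.toSylow : Sylow p ↥(A ⊔ B)) : Subgroup ↥(A ⊔ B)))).map (A ⊔ B).subtype :=
        ⟨_, hx2, rfl⟩
      rw [Subgroup.map_sup] at hx3
      have hle1 : (A.subgroupOf (A ⊔ B) ⊓
          ((hSJ.toSylow : Sylow p ↥(A ⊔ B)) : Subgroup ↥(A ⊔ B))).map (A ⊔ B).subtype ≤
          A ⊓ (S : Subgroup G) := by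
        rintro _ ⟨y, ⟨hy1, hy2⟩, rfl⟩
        have hy2' : y ∈ ((S : Subgroup G) ⊓ (A ⊔ B)).subgroupOf (A ⊔ B) := hy2
        exact ⟨Subgroup.mem_subgroupOf.mp hy1, (Subgroup.mem_subgroupOf.mp hy2').1⟩
      have hle2 : (B.subgroupOf (A ⊔ B) ⊓
          ((hSJ.toSylow : Sylow p ↥(A ⊔ B)) : Subgroup ↥(A ⊔ B))).map (A ⊔ B).subtype ≤
          B ⊓ (S : Subgroup G) := by
        rintro _ ⟨y, ⟨hy1, hy2⟩, rfl⟩
        have hy2' : y ∈ ((S : Subgroup G) ⊓ (A ⊔ B)).subgroupOf (A ⊔ B) := hy2
        exact ⟨Subgroup.mem_subgroupOf.mp hy1, (Subgroup.mem_subgroupOf.mp hy2').1⟩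
      exact (sup_le_sup hle1 hle2) hx3
    -- the case of a full join, by induction on `|A| + |B|`
    have hmain : ∀ (m : ℕ) (A B : Subgroup G), Nat.card ↥A + Nat.card ↥B = m → A.IsSubnormal →
        B.IsSubnormal →
        (A ⊔ B) ⊓ (S : Subgroup G) ≤ (A ⊓ (S : Subgroup G)) ⊔ (B ⊓ (S : Subgroup G)) := by
      intro m
      induction m using Nat.strong_induction_on with
      | _ m ihm =>
        intro A B hm hA hB
        by_cases htop : A ⊔ B = ⊤
        swap
        · exact hcase1 A B hA hB htop
        rw [htop, top_inf_eq]
        have hSA : IsSylowIn p ((S : Subgroup G) ⊓ A) A := isSylowIn_inf_of_isSubnormal S hA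
        have hSB : IsSylowIn p ((S : Subgroup G) ⊓ B) B := isSylowIn_inf_of_isSubnormal S hB
        have hAdec : Op p A ⊔ ((S : Subgroup G) ⊓ A) = A := Op_sup_isSylowIn hSA
        have hBdec : Op p B ⊔ ((S : Subgroup G) ⊓ B) = B := Op_sup_isSylowIn hSB
        have hΩ : pResidual p G = Op p A ⊔ Op p B := pResidual_eq_sup_Op hA hB htop
        have hXsub : (Op p A).IsSubnormal := isSubnormal_Op hA
        have hYsub : (Op p B).IsSubnormal := isSubnormal_Op hB
        obtain ⟨T, hT⟩ : ∃ T : Subgroup G,
            T = (A ⊓ (S : Subgroup G)) ⊔ (B ⊓ (S : Subgroup G)) := ⟨_, rfl⟩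
        rw [← hT]
        have hTS : T ≤ (S : Subgroup G) := by
          rw [hT]
          exact sup_le inf_le_right inf_le_right
        have hAT : A ⊓ (S : Subgroup G) ≤ T := by
          rw [hT]
          exact le_sup_left
        have hBT : B ⊓ (S : Subgroup G) ≤ T := by
          rw [hT]
          exact le_sup_right
        have hmono : (Op p A ⊓ (S : Subgroup G)) ⊔ (Op p B ⊓ (S : Subgroup G)) ≤ T := by
          rw [hT]
          exact sup_le_sup (inf_le_inf_right _ (Op_le p A)) (inf_le_inf_right _ (Op_le p B))
        by_cases hΩtop : Op p A ⊔ Op p B = ⊤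
        · by_cases hAB : Op p A = A ∧ Op p B = B
          · -- the crux: `A = O^p(A)`, `B = O^p(B)`, `G = O^p(G)`
            obtain ⟨hOA, hOB⟩ := hAB
            have hres : pResidual p G = ⊤ := by rw [hΩ, hΩtop]
            by_cases hG : (⊤ : Subgroup G) = ⊥
            · intro x _
              have hx : x ∈ (⊤ : Subgroup G) := Subgroup.mem_top x
              rw [hG, Subgroup.mem_bot] at hx
              rw [hx]
              exact Subgroup.one_mem _
            obtain ⟨N, hNmin, -⟩ := exists_isMinNormal_le (⊤ : Subgroup G) inferInstance hG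
            have hNn : N.Normal := hNmin.1
            -- `S ≤ T N`
            have hα : (S : Subgroup G) ≤ T ⊔ N := by
              have hcard : Nat.card (G ⧸ N) < n := by
                have h1 := Subgroup.card_eq_card_quotient_mul_card_subgroup N
                have h2 : 1 < Nat.card ↥N := (Subgroup.one_lt_card_iff_ne_bot N).mpr hNmin.2.1
                have h3 : 0 < Nat.card (G ⧸ N) := Nat.card_pos
                rw [← hn, h1]
                nlinarith
              have hsurj : Function.Surjective (QuotientGroup.mk' N) := QuotientGroup.mk'_surjective N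
              have h := ih _ hcard (G ⧸ N) rfl (S.mapSurjective hsurj) (A.map (QuotientGroup.mk' N))
                (B.map (QuotientGroup.mk' N)) (hA.map hsurj) (hB.map hsurj)
              rw [← Subgroup.map_sup, htop, Subgroup.map_top_of_surjective _ hsurj, top_inf_eq,
                Sylow.coe_mapSurjective] at h
              have hkey : ∀ C : Subgroup G, IsSylowIn p ((S : Subgroup G) ⊓ C) C →
                  C.map (QuotientGroup.mk' N) ⊓ (S : Subgroup G).map (QuotientGroup.mk' N) ≤
                    (C ⊓ (S : Subgroup G)).map (QuotientGroup.mk' N) := by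
                intro C hC
                have hs : IsSylowIn p (((S : Subgroup G) ⊓ C).map (QuotientGroup.mk' N))
                    (C.map (QuotientGroup.mk' N)) := IsSylowIn.map hC _
                have := hs.2.2 (C.map (QuotientGroup.mk' N) ⊓ (S : Subgroup G).map (QuotientGroup.mk' N))
                  ((S.isPGroup'.map _).to_le inf_le_right)
                  (le_inf (Subgroup.map_mono inf_le_right) (Subgroup.map_mono inf_le_left)) inf_le_left
                rw [this, inf_comm]
              intro s hs
              have h1 := h (Subgroup.mem_map_of_mem _ hs)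
              have h2 : (QuotientGroup.mk' N) s ∈ T.map (QuotientGroup.mk' N) := by
                rw [hT, Subgroup.map_sup]
                exact (sup_le_sup (hkey A hSA) (hkey B hSB)) h1
              obtain ⟨t, ht, hts⟩ := h2
              have h3 : t⁻¹ * s ∈ N := QuotientGroup.eq.mp hts
              have e : s = t * (t⁻¹ * s) := by group
              rw [e]
              exact Subgroup.mul_mem_sup ht h3
            by_cases hpN : p ∣ Nat.card ↥N
            swap
            · -- `N` is a `p'`-group
              have hTsyl : IsSylowIn p T (T ⊔ N) := by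
                apply isSylowIn_of_not_dvd_relIndex le_sup_left (S.isPGroup'.to_le hTS)
                have h1 := Cfsg.Agent.Lib.Helper23_PComp.relIndex_eq_relIndex_sup T N
                rw [sup_comm] at h1
                rw [← h1]
                intro hd
                exact hpN (hd.trans (Subgroup.relIndex_dvd_card _ _))
              have := hTsyl.2.2 (S : Subgroup G) S.isPGroup' hTS hα
              rw [this]
            · have hNA : N ≤ Subgroup.normalizer (A : Set G) := IsMinNormal.le_normalizer hA hNmin
              have hNB : N ≤ Subgroup.normalizer (B : Set G) := IsMinNormal.le_normalizer hB hNmin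
              have hDn : ((N ⊓ A) ⊔ (N ⊓ B)).Normal := by
                rw [← Subgroup.normalizer_eq_top_iff, eq_top_iff, ← htop]
                apply sup_le (le_normalizer_inf_sup_inf B hNA)
                have := le_normalizer_inf_sup_inf A hNB
                rwa [sup_comm] at this
              rcases hNmin.2.2 _ hDn (sup_le inf_le_left inf_le_left) with hD | hD
              · -- `N` is central
                rw [sup_eq_bot_iff] at hD
                have hNZ : N ≤ Subgroup.center G :=
                  le_center_of_le_centralizer_sup (le_centralizer_of_inf_eq_bot hNA hD.1)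
                    (le_centralizer_of_inf_eq_bot hNB hD.2) htop
                -- `N` is a `p`-group
                obtain ⟨z, hz⟩ := exists_prime_orderOf_dvd_card' (G := ↥N) p hpN
                have hzn : (Subgroup.zpowers (z : G)).Normal := by
                  refine ⟨fun x hx g => ?_⟩
                  have hxc : x ∈ Subgroup.center G := by
                    obtain ⟨k, rfl⟩ := Subgroup.mem_zpowers_iff.mp hx
                    exact (Subgroup.center G).zpow_mem (hNZ z.2) k
                  have := Subgroup.mem_center_iff.mp hxc g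
                  rw [this, mul_inv_cancel_right]
                  exact hx
                have hzle : Subgroup.zpowers (z : G) ≤ N := by
                  rw [Subgroup.zpowers_le]
                  exact z.2
                have hzord : orderOf (z : G) = p := by
                  rw [Subgroup.orderOf_coe]
                  exact hz
                have hzN : Subgroup.zpowers (z : G) = N := by
                  rcases hNmin.2.2 _ hzn hzle with h | h
                  · exfalso
                    rw [Subgroup.zpowers_eq_bot] at h
                    rw [h, orderOf_one] at hzord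
                    exact hp.one_lt.ne hzord
                  · exact h
                have hNp : IsPGroup p ↥N := by
                  rw [← hzN]
                  apply IsPGroup.of_card (n := 1)
                  rw [Nat.card_zpowers, hzord, pow_one]
                have hNS : N ≤ (S : Subgroup G) :=
                  (Cfsg.Agent.Lib.Helper1_Cores.le_pCore hNn hNp).trans
                    (Cfsg.Agent.Lib.Helper1_Cores.pCore_le_sylow p S)
                have hsup : T ⊔ N = (S : Subgroup G) := le_antisymm (sup_le hTS hNS) hα
                have hTNn : (T ⊓ N).Normal := by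
                  refine ⟨fun x hx g => ?_⟩
                  have := Subgroup.mem_center_iff.mp (hNZ hx.2) g
                  rw [this, mul_inv_cancel_right]
                  exact hx
                rcases hNmin.2.2 _ hTNn inf_le_right with h | h
                · exact absurd hres (pResidual_ne_top_of_central S hNZ hsup h hNmin.2.1)
                · have hNT : N ≤ T := by
                    rw [← h]
                    exact inf_le_left
                  exact hα.trans (sup_le le_rfl hNT)
              · -- `N = (N ∩ A)(N ∩ B)`
                by_cases hNtop : N = ⊤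
                · -- every proper normal subgroup is trivial
                  have hsimple : ∀ C : Subgroup G, C.IsSubnormal → C = ⊤ ∨ C = ⊥ := by
                    intro C hC
                    by_cases hCtop : C = ⊤
                    · exact Or.inl hCtop
                    right
                    obtain ⟨K, hKn, hCK, hKlt⟩ := hC.exists_normal_and_le_and_lt_top_of_ne hCtop
                    rcases hNmin.2.2 K hKn (hNtop ▸ le_top) with h | h
                    · rw [h] at hCK
                      exact le_bot_iff.mp hCK
                    · exfalso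
                      rw [h, hNtop] at hKlt
                      exact lt_irrefl _ hKlt
                  rcases hsimple A hA with h | h
                  · refine le_trans ?_ hAT
                    rw [h, top_inf_eq]
                  · rcases hsimple B hB with h' | h'
                    · refine le_trans ?_ hBT
                      rw [h', top_inf_eq]
                    · exfalso
                      rw [h, h', sup_bot_eq] at htop
                      exact hG htop.symm
                · have hne : (N ⊓ A) ⊔ (N ⊓ B) ≠ ⊤ := by
                    rw [hD]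
                    exact hNtop
                  have h1 := hcase1 (N ⊓ A) (N ⊓ B) (hNn.isSubnormal.inf hA) (hNn.isSubnormal.inf hB)
                    hne
                  rw [hD] at h1
                  have h2 : N ⊓ (S : Subgroup G) ≤ T := by
                    refine h1.trans (sup_le ?_ ?_)
                    · exact le_trans (inf_le_inf_right _ inf_le_right) hAT
                    · exact le_trans (inf_le_inf_right _ inf_le_right) hBT
                  intro s hs
                  obtain ⟨t, ht, n', hn', hts⟩ := Subgroup.mem_sup_of_normal_right.mp (hα hs)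
                  have hn'S : n' ∈ (S : Subgroup G) := by
                    have e : n' = t⁻¹ * s := by rw [← hts]; group
                    rw [e]
                    exact (S : Subgroup G).mul_mem ((S : Subgroup G).inv_mem (hTS ht)) hs
                  rw [← hts]
                  exact T.mul_mem ht (h2 ⟨hn', hn'S⟩)
          · -- one of `A`, `B` can be shrunk
            have hlt : Nat.card ↥(Op p A) + Nat.card ↥(Op p B) < m := by
              rw [← hm]
              have h1 : Nat.card ↥(Op p A) ≤ Nat.card ↥A := Subgroup.card_le_of_le (Op_le p A)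
              have h2 : Nat.card ↥(Op p B) ≤ Nat.card ↥B := Subgroup.card_le_of_le (Op_le p B)
              by_cases hOA : Op p A = A
              · have hOB : Op p B ≠ B := fun h => hAB ⟨hOA, h⟩
                have := card_lt_of_lt (lt_of_le_of_ne (Op_le p B) hOB)
                omega
              · have := card_lt_of_lt (lt_of_le_of_ne (Op_le p A) hOA)
                omega
            have h := ihm _ hlt (Op p A) (Op p B) rfl hXsub hYsub
            rw [hΩtop, top_inf_eq] at h
            exact h.trans hmono
        · -- `O^p(G) < G`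
          have h1 := hcase1 (Op p A) (Op p B) hXsub hYsub hΩtop
          rw [← hΩ] at h1
          have h2 : pResidual p G ⊓ (S : Subgroup G) ≤ T := h1.trans hmono
          have hΩT : pResidual p G ⊔ T = ⊤ := by
            rw [eq_top_iff, ← htop]
            apply sup_le
            · rw [← hAdec]
              apply sup_le
              · rw [hΩ]
                exact le_sup_of_le_left le_sup_left
              · rw [inf_comm]
                exact le_sup_of_le_right hAT
            · rw [← hBdec]
              apply sup_le
              · rw [hΩ]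
                exact le_sup_of_le_left le_sup_right
              · rw [inf_comm]
                exact le_sup_of_le_right hBT
          have hΩn : (pResidual p G).Normal := inferInstance
          have hsyl : IsSylowIn p ((S : Subgroup G) ⊓ pResidual p G) (pResidual p G) :=
            isSylowIn_inf_of_isSubnormal S hΩn.isSubnormal
          have h3 : ¬ p ∣ T.relIndex (pResidual p G) := by
            intro hd
            apply Cfsg.Agent.Lib.Helper48_PMinimal2.IsSylowIn.not_dvd_relIndex hsyl
            refine hd.trans (Subgroup.relIndex_dvd_of_le_left _ ?_)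
            rw [inf_comm]
            exact h2
          have h4 : T.relIndex (pResidual p G) = T.relIndex ⊤ := by
            rw [Cfsg.Agent.Lib.Helper23_PComp.relIndex_eq_relIndex_sup T (pResidual p G), hΩT]
          rw [h4] at h3
          have hTsyl : IsSylowIn p T ⊤ :=
            isSylowIn_of_not_dvd_relIndex le_top (S.isPGroup'.to_le hTS) h3
          have := hTsyl.2.2 (S : Subgroup G) S.isPGroup' hTS le_top
          rw [this]
    intro A B hA hB
    exact hmain _ A B rfl hA hB

/-- **Sylow subgroups of joins of subnormal subgroups**: for subnormal `A`, `B` and a Sylow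
`p`-subgroup `S` of a finite group, `⟨A, B⟩ ∩ S = ⟨A ∩ S, B ∩ S⟩`. -/
theorem sup_inf_sylow {G : Type u} [Group G] [Finite G] {p : ℕ} [Fact p.Prime] (S : Sylow p G)
    {A B : Subgroup G} (hA : A.IsSubnormal) (hB : B.IsSubnormal) :
    (A ⊔ B) ⊓ (S : Subgroup G) = (A ⊓ (S : Subgroup G)) ⊔ (B ⊓ (S : Subgroup G)) :=
  le_antisymm (sup_inf_sylow_le_aux p _ G rfl S A B hA hB)
    (sup_le (inf_le_inf_right _ le_sup_left) (inf_le_inf_right _ le_sup_right))

end Cfsg.Agent.Lib.Helper48_SylowJoin
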