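import Cfsg.Agent.Lib.Helper47_Kieler
import Cfsg.Agent.Lib.Helper47_FrakM
import Cfsg.Agent.Lib.Helper48_SylowJoin
import Cfsg.Prelude.Def_LocalEven

/-!
# Point stabilizers in groups of local characteristic `p` (helper47, for S2806)

* `local_kieler_normal`, `local_kieler`, `local_kieler_of_le`: Kieler's Lemma in a group of local
  characteristic `p`: for subnormal `E ≤ M` with `T ∩ E ≠ 1`,
  `C_E(Ω₁Z(T ∩ M)) = C_E(Ω₁Z(T ∩ E))`.
* `mem_of_isSubnormal_of_sylow_le`: a subnormal subgroup containing a Sylow `p`-subgroup contains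
  every `p`-element.
* `pointStabilizer_sup`: the point stabilizer of a join of two subnormal subgroups.
-/

set_option autoImplicit false

namespace Cfsg.Agent.Lib.Helper47_PointStab

open Cfsg
open Cfsg.Agent.Lib.Helper48_SPE Cfsg.Agent.Lib.Helper49_CharP
open scoped Pointwise

variable {G : Type*} [Group G] {p : ℕ}

/-- `Ω₁(Z(S))`. -/
abbrev oz (p : ℕ) (S : Subgroup G) : Subgroup G :=
  Cfsg.omegaOne p (S ⊓ Subgroup.centralizer (S : Set G))

theorem oz_le (S : Subgroup G) : oz p S ≤ S :=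
  (Cfsg.Agent.Lib.Helper47_PLocal.omegaOne_le p _).trans inf_le_left

theorem oz_le_centralizer (S : Subgroup G) : oz p S ≤ Subgroup.centralizer (S : Set G) :=
  (Cfsg.Agent.Lib.Helper47_PLocal.omegaOne_le p _).trans inf_le_right

theorem le_centralizer_oz (S : Subgroup G) : S ≤ Subgroup.centralizer (oz p S : Set G) := by
  intro x hx y hy
  exact ((Subgroup.mem_centralizer_iff.mp (oz_le_centralizer S hy)) x hx).symm

theorem oz_ne_bot [Finite G] [Fact p.Prime] {S : Subgroup G} (hS : IsPGroup p S) (h1 : S ≠ ⊥) :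
    oz p S ≠ ⊥ :=
  Cfsg.Agent.Lib.Helper47_FrakM.omegaOne_ne_bot (hS.to_le inf_le_left)
    (Cfsg.Agent.Lib.Helper47_Large.inf_centralizer_ne_bot hS h1)

theorem normalizer_le_normalizer_oz (S : Subgroup G) :
    Subgroup.normalizer (S : Set G) ≤ Subgroup.normalizer ((oz p S : Subgroup G) : Set G) :=
  Cfsg.Agent.Lib.Helper47_TL.normalizer_le_normalizer_omegaOne_center S

/-! ### Kieler's Lemma in local characteristic `p` -/

theorem local_kieler_aux [Finite G] [Fact p.Prime] (hG : Cfsg.IsOfLocalCharacteristic p G)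
    (T : Sylow p G) {E M U : Subgroup G} (hM : M.IsSubnormal) (hEM : E ≤ M)
    (hME : M ≤ Subgroup.normalizer (E : Set G)) (hUp : IsPGroup p U) (hU1 : U ≠ ⊥)
    (hTU : (T : Subgroup G) ⊓ M ≤ Subgroup.normalizer (U : Set G)) :
    (E ⊓ Subgroup.normalizer (U : Set G)) ⊓
        Subgroup.centralizer ((oz p ((T : Subgroup G) ⊓ M) : Subgroup G) : Set G) =
      (E ⊓ Subgroup.normalizer (U : Set G)) ⊓
        Subgroup.centralizer ((oz p ((T : Subgroup G) ⊓ E) : Subgroup G) : Set G) := by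
  obtain ⟨N, hN⟩ : ∃ N : Subgroup G, N = Subgroup.normalizer (U : Set G) := ⟨_, rfl⟩
  rw [← hN]
  have hNc : IsCharP p ↥N := by
    rw [hN]; exact hG.2 U hUp hU1
  have hsub : ((M ⊓ N).subgroupOf N).IsSubnormal := by
    rw [Subgroup.inf_subgroupOf_right]; exact hM.subgroupOf
  have hKc : IsCharP p ↥(M ⊓ N : Subgroup G) :=
    IsCharP.of_mulEquiv (Subgroup.subgroupOfEquivOfLe inf_le_right) (hNc.of_isSubnormal _ hsub)
  have hsyl : IsSylowIn p ((T : Subgroup G) ⊓ M) (M ⊓ N) :=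
    (Cfsg.Agent.Lib.Helper48_PMinimal.isSylowIn_inf_of_isSubnormal T hM).mono
      (le_inf inf_le_right (hN ▸ hTU)) inf_le_left
  have hnorm : M ⊓ N ≤ Subgroup.normalizer ((E ⊓ N : Subgroup G) : Set G) := by
    intro x hx
    have hxE := hME hx.1
    have hxN : x ∈ Subgroup.normalizer (N : Set G) := Subgroup.le_normalizer hx.2
    rw [Subgroup.mem_normalizer_iff] at hxE hxN ⊢
    intro y
    rw [Subgroup.mem_inf, Subgroup.mem_inf, ← hxE y, ← hxN y]
  have key := Cfsg.Agent.Lib.Helper47_Kieler.kieler_normal_ambient (L := E ⊓ N) hKc hsyl.toSylow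
    (inf_le_inf_right _ hEM) hnorm
  rw [hsyl.map_toSylow] at key
  have h1 : ((T : Subgroup G) ⊓ M) ⊓ (E ⊓ N) = (T : Subgroup G) ⊓ E := by
    apply le_antisymm
    · exact le_inf (inf_le_left.trans inf_le_left) (inf_le_right.trans inf_le_left)
    · intro x hx
      have hxTM : x ∈ (T : Subgroup G) ⊓ M := ⟨hx.1, hEM hx.2⟩
      exact ⟨hxTM, hx.2, hN ▸ hTU hxTM⟩
  rw [h1] at key
  exact key

theorem local_kieler_normal [Finite G] [Fact p.Prime] (hG : Cfsg.IsOfLocalCharacteristic p G)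
    (T : Sylow p G) {E M : Subgroup G} (hM : M.IsSubnormal) (hEM : E ≤ M)
    (hME : M ≤ Subgroup.normalizer (E : Set G)) (hTE : (T : Subgroup G) ⊓ E ≠ ⊥) :
    E ⊓ Subgroup.centralizer ((oz p ((T : Subgroup G) ⊓ M) : Subgroup G) : Set G) =
      E ⊓ Subgroup.centralizer ((oz p ((T : Subgroup G) ⊓ E) : Subgroup G) : Set G) := by
  have hTEp : IsPGroup p ↥((T : Subgroup G) ⊓ E : Subgroup G) := T.isPGroup'.to_le inf_le_left
  have hTMp : IsPGroup p ↥((T : Subgroup G) ⊓ M : Subgroup G) := T.isPGroup'.to_le inf_le_left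
  have hTM1 : (T : Subgroup G) ⊓ M ≠ ⊥ := by
    intro h
    apply hTE
    rw [eq_bot_iff, ← h]
    exact inf_le_inf_left _ hEM
  have a1 := local_kieler_aux hG T hM hEM hME (U := oz p ((T : Subgroup G) ⊓ M))
    (hTMp.to_le (oz_le _)) (oz_ne_bot hTMp hTM1)
    (Subgroup.le_normalizer.trans (normalizer_le_normalizer_oz _))
  have hn : (T : Subgroup G) ⊓ M ≤ Subgroup.normalizer (((T : Subgroup G) ⊓ E : Subgroup G) : Set G) := by
    intro x hx
    have hxT : x ∈ Subgroup.normalizer (((T : Subgroup G)) : Set G) := Subgroup.le_normalizer hx.1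
    have hxE := hME hx.2
    rw [Subgroup.mem_normalizer_iff] at hxT hxE ⊢
    intro y
    rw [Subgroup.mem_inf, Subgroup.mem_inf, ← hxT y, ← hxE y]
  have a2 := local_kieler_aux hG T hM hEM hME (U := oz p ((T : Subgroup G) ⊓ E))
    (hTEp.to_le (oz_le _)) (oz_ne_bot hTEp hTE) (hn.trans (normalizer_le_normalizer_oz _))
  apply le_antisymm
  · intro x hx
    have h1 : x ∈ (E ⊓ Subgroup.normalizer ((oz p ((T : Subgroup G) ⊓ M) : Subgroup G) : Set G)) ⊓
        Subgroup.centralizer ((oz p ((T : Subgroup G) ⊓ M) : Subgroup G) : Set G) :=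
      ⟨⟨hx.1, Subgroup.centralizer_le_normalizer _ hx.2⟩, hx.2⟩
    rw [a1] at h1
    exact ⟨hx.1, h1.2⟩
  · intro x hx
    have h1 : x ∈ (E ⊓ Subgroup.normalizer ((oz p ((T : Subgroup G) ⊓ E) : Subgroup G) : Set G)) ⊓
        Subgroup.centralizer ((oz p ((T : Subgroup G) ⊓ E) : Subgroup G) : Set G) :=
      ⟨⟨hx.1, Subgroup.centralizer_le_normalizer _ hx.2⟩, hx.2⟩
    rw [← a2] at h1
    exact ⟨hx.1, h1.2⟩

theorem local_kieler [Finite G] [Fact p.Prime] (hG : Cfsg.IsOfLocalCharacteristic p G)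
    (T : Sylow p G) {M : Subgroup G} (hM : M.IsSubnormal) {E' : Subgroup ↥M}
    (hE' : E'.IsSubnormal) (hTE : (T : Subgroup G) ⊓ E'.map M.subtype ≠ ⊥) :
    E'.map M.subtype ⊓ Subgroup.centralizer ((oz p ((T : Subgroup G) ⊓ M) : Subgroup G) : Set G) =
      E'.map M.subtype ⊓
        Subgroup.centralizer ((oz p ((T : Subgroup G) ⊓ E'.map M.subtype) : Subgroup G) : Set G) := by
  induction hE' with
  | top =>
    rw [← MonoidHom.range_eq_map, Subgroup.range_subtype]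
  | step A B hAB hB hN ih =>
    have hBsub : (B.map M.subtype).IsSubnormal := hB.trans' hM
    have hABm : A.map M.subtype ≤ B.map M.subtype := Subgroup.map_mono hAB
    have hTB : (T : Subgroup G) ⊓ B.map M.subtype ≠ ⊥ := by
      intro h
      apply hTE
      rw [eq_bot_iff, ← h]
      exact inf_le_inf_left _ hABm
    have ihB := ih hTB
    have hnorm : B.map M.subtype ≤ Subgroup.normalizer ((A.map M.subtype : Subgroup G) : Set G) := by
      rw [Subgroup.normal_subgroupOf_iff_le_normalizer hAB] at hN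
      exact (Subgroup.map_mono hN).trans (Subgroup.le_normalizer_map _)
    have kn := local_kieler_normal hG T hBsub hABm hnorm hTE
    apply le_antisymm
    · intro x hx
      have h1 : x ∈ B.map M.subtype ⊓
          Subgroup.centralizer ((oz p ((T : Subgroup G) ⊓ M) : Subgroup G) : Set G) :=
        ⟨hABm hx.1, hx.2⟩
      rw [ihB] at h1
      have h2 : x ∈ A.map M.subtype ⊓
          Subgroup.centralizer ((oz p ((T : Subgroup G) ⊓ B.map M.subtype) : Subgroup G) : Set G) :=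
        ⟨hx.1, h1.2⟩
      rw [kn] at h2
      exact h2
    · intro x hx
      have h2 : x ∈ A.map M.subtype ⊓
          Subgroup.centralizer ((oz p ((T : Subgroup G) ⊓ B.map M.subtype) : Subgroup G) : Set G) := by
        rw [kn]; exact hx
      have h1 : x ∈ B.map M.subtype ⊓
          Subgroup.centralizer ((oz p ((T : Subgroup G) ⊓ M) : Subgroup G) : Set G) := by
        rw [ihB]; exact ⟨hABm hx.1, h2.2⟩
      exact ⟨hx.1, h1.2⟩

/-- **Kieler's Lemma in local characteristic `p`**. -/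
theorem local_kieler_of_le [Finite G] [Fact p.Prime] (hG : Cfsg.IsOfLocalCharacteristic p G)
    (T : Sylow p G) {E M : Subgroup G} (hE : E.IsSubnormal) (hM : M.IsSubnormal) (hEM : E ≤ M)
    (hTE : (T : Subgroup G) ⊓ E ≠ ⊥) :
    E ⊓ Subgroup.centralizer ((oz p ((T : Subgroup G) ⊓ M) : Subgroup G) : Set G) =
      E ⊓ Subgroup.centralizer ((oz p ((T : Subgroup G) ⊓ E) : Subgroup G) : Set G) := by
  have h := local_kieler hG T hM (E' := E.subgroupOf M) hE.subgroupOf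
    (by rwa [Subgroup.map_subgroupOf_eq_of_le hEM])
  rwa [Subgroup.map_subgroupOf_eq_of_le hEM] at h

/-! ### `p`-elements and subnormal subgroups -/

theorem isPGroup_zpowers [Fact p.Prime] {x : G} (hx : ∃ k : ℕ, orderOf x = p ^ k) :
    IsPGroup p ↥(Subgroup.zpowers x) := by
  obtain ⟨k, hk⟩ := hx
  exact IsPGroup.of_card (n := k) (by rw [Nat.card_zpowers, hk])

theorem pElement_of_mem_sylow [Fact p.Prime] (T : Sylow p G) {x : G} (hx : x ∈ (T : Subgroup G)) :
    ∃ k : ℕ, orderOf x = p ^ k := by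
  obtain ⟨k, hk⟩ := (IsPGroup.iff_orderOf.mp T.isPGroup') ⟨x, hx⟩
  exact ⟨k, by rw [← hk, Subgroup.orderOf_mk]⟩

/-- A subnormal subgroup containing a Sylow `p`-subgroup contains every `p`-element. -/
theorem mem_of_isSubnormal_of_sylow_le [Finite G] [Fact p.Prime] {D : Subgroup G}
    (hD : D.IsSubnormal) (P : Sylow p G) (hP : (P : Subgroup G) ≤ D) {x : G}
    (hx : ∃ k : ℕ, orderOf x = p ^ k) : x ∈ D := by
  induction hD with
  | top => exact Subgroup.mem_top x
  | step D K hDK hK hN ih =>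
    have hxK : x ∈ K := ih (hP.trans hDK)
    obtain ⟨h, hhK, hle⟩ := exists_conj_le_sylow P (hP.trans hDK) (isPGroup_zpowers hx)
      (Subgroup.zpowers_le.mpr hxK)
    have h1 : h * x * h⁻¹ ∈ D := by
      apply hP
      apply hle
      rw [mem_conj_smul_iff]
      have e : h⁻¹ * (h * x * h⁻¹) * h = x := by group
      rw [e]
      exact Subgroup.mem_zpowers x
    have hKD : K ≤ Subgroup.normalizer (D : Set G) :=
      (Subgroup.normal_subgroupOf_iff_le_normalizer hDK).mp hN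
    have h2 := (Subgroup.mem_normalizer_iff.mp (hKD (K.inv_mem hhK)) (h * x * h⁻¹)).mp h1
    have e : h⁻¹ * (h * x * h⁻¹) * h⁻¹⁻¹ = x := by group
    rwa [e] at h2

theorem eq_one_of_pElement_of_sylow_inf_eq_bot [Finite G] [Fact p.Prime] (T : Sylow p G)
    {E : Subgroup G} (hE : E.IsSubnormal) (hTE : (T : Subgroup G) ⊓ E = ⊥) {x : G} (hxE : x ∈ E)
    (hx : ∃ k : ℕ, orderOf x = p ^ k) : x = 1 := by
  have hsyl := Cfsg.Agent.Lib.Helper48_PMinimal.isSylowIn_inf_of_isSubnormal T hE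
  obtain ⟨P, hP, hxP⟩ := exists_isSylowIn_ge (isPGroup_zpowers hx) (Subgroup.zpowers_le.mpr hxE)
  obtain ⟨c, -, hconj⟩ := hsyl.exists_conj hP
  rw [hTE, Subgroup.smul_bot] at hconj
  have h1 : x ∈ P := hxP (Subgroup.mem_zpowers x)
  rw [← hconj] at h1
  exact Subgroup.mem_bot.mp h1

theorem mem_centralizer_oz_iff [Finite G] [Fact p.Prime] (hG : Cfsg.IsOfLocalCharacteristic p G)
    (T : Sylow p G) {E M : Subgroup G} (hE : E.IsSubnormal) (hM : M.IsSubnormal) (hEM : E ≤ M)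
    {x : G} (hxE : x ∈ E) (hx : ∃ k : ℕ, orderOf x = p ^ k) :
    x ∈ Subgroup.centralizer ((oz p ((T : Subgroup G) ⊓ M) : Subgroup G) : Set G) ↔
      x ∈ Subgroup.centralizer ((oz p ((T : Subgroup G) ⊓ E) : Subgroup G) : Set G) := by
  by_cases hTE : (T : Subgroup G) ⊓ E = ⊥
  · have h1 := eq_one_of_pElement_of_sylow_inf_eq_bot T hE hTE hxE hx
    rw [h1]
    exact ⟨fun _ => Subgroup.one_mem _, fun _ => Subgroup.one_mem _⟩
  · have h := local_kieler_of_le hG T hE hM hEM hTE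
    constructor
    · intro hc
      have h1 : x ∈ E ⊓ Subgroup.centralizer ((oz p ((T : Subgroup G) ⊓ M) : Subgroup G) : Set G) :=
        ⟨hxE, hc⟩
      rw [h] at h1
      exact h1.2
    · intro hc
      have h1 : x ∈ E ⊓ Subgroup.centralizer ((oz p ((T : Subgroup G) ⊓ E) : Subgroup G) : Set G) :=
        ⟨hxE, hc⟩
      rw [← h] at h1
      exact h1.2

/-! ### The subgroup generated by the `p`-elements -/

/-- The subgroup generated by the `p`-elements of `X`. -/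
def opp (p : ℕ) (X : Subgroup G) : Subgroup G :=
  Subgroup.closure {x : G | x ∈ X ∧ ∃ k : ℕ, orderOf x = p ^ k}

theorem opp_le (X : Subgroup G) : opp p X ≤ X :=
  (Subgroup.closure_le _).mpr (fun _ hx => hx.1)

theorem opp_mono {X Y : Subgroup G} (h : X ≤ Y) : opp p X ≤ opp p Y :=
  Subgroup.closure_mono (fun _ hx => ⟨h hx.1, hx.2⟩)

theorem pointStabilizer_eq_opp (X R : Subgroup G) :
    Cfsg.pointStabilizer p X R =
      opp p (X ⊓ Subgroup.centralizer ((oz p R : Subgroup G) : Set G)) := rfl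

theorem normalizer_le_normalizer_opp (X : Subgroup G) :
    Subgroup.normalizer (X : Set G) ≤ Subgroup.normalizer ((opp p X : Subgroup G) : Set G) := by
  intro g hg
  have key : ∀ g : G, g ∈ Subgroup.normalizer (X : Set G) →
      ∀ x ∈ opp p X, g * x * g⁻¹ ∈ opp p X := by
    intro g hg x hx
    unfold opp at hx ⊢
    induction hx using Subgroup.closure_induction with
    | mem x hx =>
      apply Subgroup.subset_closure
      refine ⟨(Subgroup.mem_normalizer_iff.mp hg x).mp hx.1, ?_⟩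
      obtain ⟨k, hk⟩ := hx.2
      refine ⟨k, ?_⟩
      rw [← hk]
      exact (MulAut.conj g).orderOf_eq x
    | one => simp
    | mul x y _ _ ihx ihy =>
      have : g * (x * y) * g⁻¹ = (g * x * g⁻¹) * (g * y * g⁻¹) := by group
      rw [this]; exact Subgroup.mul_mem _ ihx ihy
    | inv x _ ihx =>
      have : g * x⁻¹ * g⁻¹ = (g * x * g⁻¹)⁻¹ := by group
      rw [this]; exact Subgroup.inv_mem _ ihx
  rw [Subgroup.mem_normalizer_iff]
  intro x
  refine ⟨key g hg x, fun hx => ?_⟩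
  have := key g⁻¹ (Subgroup.inv_mem _ hg) _ hx
  simpa [mul_assoc] using this

theorem isSubnormal_subgroupOf_of_normal {A B C : Subgroup G} (hAB : A ≤ B)
    (hBA : B ≤ Subgroup.normalizer (A : Set G)) (hB : (B.subgroupOf C).IsSubnormal) :
    (A.subgroupOf C).IsSubnormal := by
  have hle : A.subgroupOf C ≤ B.subgroupOf C := fun x hx => hAB hx
  refine Subgroup.IsSubnormal.step _ _ hle hB ?_
  rw [Subgroup.normal_subgroupOf_iff_le_normalizer hle]
  intro x hx
  rw [Subgroup.mem_normalizer_iff]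
  intro y
  exact Subgroup.mem_normalizer_iff.mp (hBA hx) (y : G)

/-! ### The point stabilizer of a join of subnormal subgroups -/

theorem opp_le_sup_opp [Finite G] [Fact p.Prime] (T : Sylow p G) {L₁ L₂ C : Subgroup G}
    (h₁ : L₁.IsSubnormal) (h₂ : L₂.IsSubnormal) (hCL : C ≤ L₁ ⊔ L₂)
    (hTC : (T : Subgroup G) ⊓ (L₁ ⊔ L₂) ≤ C) :
    opp p C ≤ opp p (C ⊓ L₁) ⊔ opp p (C ⊓ L₂) := by
  have hL : (L₁ ⊔ L₂).IsSubnormal := Cfsg.Agent.Lib.Lead_Subnormal.isSubnormal_sup h₁ h₂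
  have hsyl : IsSylowIn p ((T : Subgroup G) ⊓ (L₁ ⊔ L₂)) C :=
    (Cfsg.Agent.Lib.Helper48_PMinimal.isSylowIn_inf_of_isSubnormal T hL).mono hTC hCL
  have hTP₀ : (T : Subgroup G) ⊓ (L₁ ⊔ L₂) ≤ opp p (C ⊓ L₁) ⊔ opp p (C ⊓ L₂) := by
    have h := Cfsg.Agent.Lib.Helper48_SylowJoin.sup_inf_sylow T h₁ h₂
    rw [inf_comm, h]
    apply sup_le_sup
    · intro y hy
      exact Subgroup.subset_closure
        ⟨⟨hTC ⟨hy.2, (le_sup_left : L₁ ≤ L₁ ⊔ L₂) hy.1⟩, hy.1⟩, pElement_of_mem_sylow T hy.2⟩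
    · intro y hy
      exact Subgroup.subset_closure
        ⟨⟨hTC ⟨hy.2, (le_sup_right : L₂ ≤ L₁ ⊔ L₂) hy.1⟩, hy.1⟩, pElement_of_mem_sylow T hy.2⟩
  have hD₁ : ((opp p (C ⊓ L₁)).subgroupOf C).IsSubnormal :=
    isSubnormal_subgroupOf_of_normal (opp_le _)
      (Subgroup.le_normalizer.trans (normalizer_le_normalizer_opp _))
      (by rw [Subgroup.inf_subgroupOf_left]; exact h₁.subgroupOf)
  have hD₂ : ((opp p (C ⊓ L₂)).subgroupOf C).IsSubnormal :=
    isSubnormal_subgroupOf_of_normal (opp_le _)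
      (Subgroup.le_normalizer.trans (normalizer_le_normalizer_opp _))
      (by rw [Subgroup.inf_subgroupOf_left]; exact h₂.subgroupOf)
  have hD : ((opp p (C ⊓ L₁) ⊔ opp p (C ⊓ L₂)).subgroupOf C).IsSubnormal := by
    rw [Subgroup.subgroupOf_sup ((opp_le _).trans inf_le_left) ((opp_le _).trans inf_le_left)]
    exact Cfsg.Agent.Lib.Lead_Subnormal.isSubnormal_sup hD₁ hD₂
  have hPle : ((hsyl.toSylow : Sylow p ↥C) : Subgroup ↥C) ≤
      (opp p (C ⊓ L₁) ⊔ opp p (C ⊓ L₂)).subgroupOf C := by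
    intro y hy
    exact hTP₀ hy
  unfold opp
  rw [Subgroup.closure_le]
  rintro x ⟨hxC, hxp⟩
  have hx' : ∃ k : ℕ, orderOf (⟨x, hxC⟩ : ↥C) = p ^ k := by
    rw [Subgroup.orderOf_mk]; exact hxp
  exact mem_of_isSubnormal_of_sylow_le hD hsyl.toSylow hPle hx'

/-- **Point stabilizer of a join of subnormal subgroups** (S2806). -/
theorem pointStabilizer_sup [Finite G] [Fact p.Prime] (hG : Cfsg.IsOfLocalCharacteristic p G)
    (T : Sylow p G) {L₁ L₂ : Subgroup G} (h₁ : L₁.IsSubnormal) (h₂ : L₂.IsSubnormal) :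
    Cfsg.pointStabilizer p (L₁ ⊔ L₂) ((T : Subgroup G) ⊓ (L₁ ⊔ L₂)) =
      Cfsg.pointStabilizer p L₁ ((T : Subgroup G) ⊓ L₁) ⊔
        Cfsg.pointStabilizer p L₂ ((T : Subgroup G) ⊓ L₂) := by
  have hL : (L₁ ⊔ L₂).IsSubnormal := Cfsg.Agent.Lib.Lead_Subnormal.isSubnormal_sup h₁ h₂
  obtain ⟨C, hC⟩ : ∃ C : Subgroup G, C = (L₁ ⊔ L₂) ⊓
      Subgroup.centralizer ((oz p ((T : Subgroup G) ⊓ (L₁ ⊔ L₂)) : Subgroup G) : Set G) := ⟨_, rfl⟩
  have e₁ : Cfsg.pointStabilizer p L₁ ((T : Subgroup G) ⊓ L₁) = opp p (C ⊓ L₁) := by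
    rw [pointStabilizer_eq_opp]
    unfold opp
    congr 1
    ext x
    constructor
    · rintro ⟨hx, hxp⟩
      refine ⟨⟨?_, hx.1⟩, hxp⟩
      rw [hC]
      exact ⟨(le_sup_left : L₁ ≤ L₁ ⊔ L₂) hx.1,
        (mem_centralizer_oz_iff hG T h₁ hL le_sup_left hx.1 hxp).mpr hx.2⟩
    · rintro ⟨hx, hxp⟩
      have hx1 := hx.1
      rw [hC] at hx1
      exact ⟨⟨hx.2, (mem_centralizer_oz_iff hG T h₁ hL le_sup_left hx.2 hxp).mp hx1.2⟩, hxp⟩
  have e₂ : Cfsg.pointStabilizer p L₂ ((T : Subgroup G) ⊓ L₂) = opp p (C ⊓ L₂) := by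
    rw [pointStabilizer_eq_opp]
    unfold opp
    congr 1
    ext x
    constructor
    · rintro ⟨hx, hxp⟩
      refine ⟨⟨?_, hx.1⟩, hxp⟩
      rw [hC]
      exact ⟨(le_sup_right : L₂ ≤ L₁ ⊔ L₂) hx.1,
        (mem_centralizer_oz_iff hG T h₂ hL le_sup_right hx.1 hxp).mpr hx.2⟩
    · rintro ⟨hx, hxp⟩
      have hx1 := hx.1
      rw [hC] at hx1
      exact ⟨⟨hx.2, (mem_centralizer_oz_iff hG T h₂ hL le_sup_right hx.2 hxp).mp hx1.2⟩, hxp⟩
  have e : Cfsg.pointStabilizer p (L₁ ⊔ L₂) ((T : Subgroup G) ⊓ (L₁ ⊔ L₂)) = opp p C := by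
    rw [pointStabilizer_eq_opp, hC]
  rw [e, e₁, e₂]
  apply le_antisymm
  · apply opp_le_sup_opp T h₁ h₂
    · rw [hC]; exact inf_le_left
    · rw [hC]; exact le_inf inf_le_right (le_centralizer_oz _)
  · exact sup_le (opp_mono inf_le_left) (opp_mono inf_le_left)

end Cfsg.Agent.Lib.Helper47_PointStab
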