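import Cfsg.Agent.Lib.Helper47_Large2

set_option autoImplicit false

namespace Cfsg.Agent.Lib.Helper47_PxQ

open Cfsg
open Cfsg.Agent.Lib.Helper47_PLocal Cfsg.Agent.Lib.Helper47_SubAPI Cfsg.Agent.Lib.Helper47_PReduced
  Cfsg.Agent.Lib.Helper47_PClosed Cfsg.Agent.Lib.Helper47_Subn Cfsg.Agent.Lib.Helper47_Large2
open scoped commutatorElement Pointwise

variable {G : Type*} [Group G] {p : ℕ}

/-- `D = O^p(D) S` for a Sylow `p`-subgroup `S` of the subgroup `D`, in the ambient group. -/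
theorem opOf_sup_sylow_eq [Finite G] [Fact p.Prime] (D : Subgroup G) (S : Sylow p ↥D) :
    opOf p D ⊔ (S : Subgroup ↥D).map D.subtype = D := by
  have h1 := pResidual_sup_sylow_eq_top (p := p) (G := ↥D) S
  have h2 := congrArg (Subgroup.map D.subtype) h1
  rw [Subgroup.map_sup, ← MonoidHom.range_eq_map, Subgroup.range_subtype] at h2
  exact h2

/-- The `p'`-part of an element: some `p`-power of `d` has order prime to `p`. -/
theorem exists_pow_coprime [Finite G] [Fact p.Prime] (d : G) :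
    ∃ j : ℕ, (orderOf (d ^ (p ^ j))).Coprime p := by
  obtain ⟨j, m, hm, hjm⟩ := Nat.exists_eq_pow_mul_and_not_dvd (orderOf_pos d).ne' p
    (Fact.out : p.Prime).ne_one
  refine ⟨j, ?_⟩
  have h1 : orderOf (d ^ (p ^ j)) = m := by
    rw [orderOf_pow' d (pow_ne_zero j (Fact.out : p.Prime).ne_zero), hjm,
      Nat.gcd_eq_right (Dvd.intro _ rfl), Nat.mul_div_cancel_left _ (pow_pos (Fact.out : p.Prime).pos j)]
  rw [h1]
  exact ((Nat.Prime.coprime_iff_not_dvd Fact.out).mpr hm).symm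

/-- A `p'`-element with a `p`-power in a subgroup `C` lies in `C`. -/
theorem mem_of_pow_mem_of_coprime [Finite G] {C : Subgroup G} {x : G} {k : ℕ}
    (hxc : (orderOf x).Coprime p) (hk : x ^ (p ^ k) ∈ C) : x ∈ C := by
  refine mem_of_pow_mem_of_pow_mem_of_coprime (Nat.Coprime.pow_right k hxc) ?_ hk
  rw [pow_orderOf_eq_one]; exact Subgroup.one_mem _

/-- A group `D` acting as a `p`-group on a nontrivial `p`-group `W` centralizes a nontrivial
element of `W`. -/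
theorem exists_mem_centralizer_of_pAction [Finite G] [Fact p.Prime] {W D : Subgroup G}
    (hW : IsPGroup p W) (hW1 : W ≠ ⊥) (hDW : D ≤ Subgroup.normalizer (W : Set G))
    (hDp : ∀ d ∈ D, ∃ k : ℕ, d ^ (p ^ k) ∈ Subgroup.centralizer (W : Set G)) :
    ∃ z ∈ W, z ≠ 1 ∧ z ∈ Subgroup.centralizer (D : Set G) := by
  obtain ⟨S⟩ : Nonempty (Sylow p ↥D) := inferInstance
  have hS'p : IsPGroup p ((S : Subgroup ↥D).map D.subtype) := S.2.map _
  have hS'D : (S : Subgroup ↥D).map D.subtype ≤ D := Subgroup.map_subtype_le _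
  obtain ⟨z, hzW, hz1, hzS⟩ :=
    exists_mem_centralizer_of_le_normalizer hW hS'p (hS'D.trans hDW) hW1
  refine ⟨z, hzW, hz1, ?_⟩
  have h1 : opOf p D ≤ Subgroup.centralizer ({z} : Set G) := by
    rw [opOf_eq_closure, Subgroup.closure_le]
    rintro x ⟨hxD, hxc⟩
    obtain ⟨k, hk⟩ := hDp x hxD
    have h2 : x ∈ Subgroup.centralizer (W : Set G) := mem_of_pow_mem_of_coprime hxc hk
    exact Subgroup.centralizer_le (Set.singleton_subset_iff.mpr hzW) h2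
  have h2 : (S : Subgroup ↥D).map D.subtype ≤ Subgroup.centralizer ({z} : Set G) := by
    intro s hs
    rw [Subgroup.mem_centralizer_iff]
    intro y hy
    rw [Set.mem_singleton_iff] at hy
    rw [hy]
    exact (Subgroup.mem_centralizer_iff.mp hzS s hs).symm
  have h3 : D ≤ Subgroup.centralizer ({z} : Set G) := by
    rw [← opOf_sup_sylow_eq D S]
    exact sup_le h1 h2
  rw [Subgroup.mem_centralizer_iff]
  intro d hd
  exact ((Subgroup.mem_centralizer_iff.mp (h3 hd)) z rfl).symm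

/-- The subgroup `{n⁻¹ x n x⁻¹ | n ∈ N}` of an abelian subgroup `N` normalized by `x`. -/
def commSub (N : Subgroup G) (x : G) (hc : ∀ a ∈ N, ∀ b ∈ N, Commute a b)
    (hx : ∀ n ∈ N, x * n * x⁻¹ ∈ N) : Subgroup G where
  carrier := {z | ∃ n ∈ N, z = n⁻¹ * (x * n * x⁻¹)}
  one_mem' := ⟨1, N.one_mem, by simp⟩
  mul_mem' := by
    rintro _ _ ⟨a, ha, rfl⟩ ⟨b, hb, rfl⟩
    refine ⟨a * b, N.mul_mem ha hb, ?_⟩
    have h1 : Commute (x * a * x⁻¹) b⁻¹ := hc _ (hx a ha) _ (N.inv_mem hb)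
    have h2 : x * (a * b) * x⁻¹ = (x * a * x⁻¹) * (x * b * x⁻¹) := by group
    have h3 : Commute a⁻¹ b⁻¹ := hc _ (N.inv_mem ha) _ (N.inv_mem hb)
    calc a⁻¹ * (x * a * x⁻¹) * (b⁻¹ * (x * b * x⁻¹))
        = a⁻¹ * ((x * a * x⁻¹) * b⁻¹) * (x * b * x⁻¹) := by group
      _ = a⁻¹ * (b⁻¹ * (x * a * x⁻¹)) * (x * b * x⁻¹) := by rw [h1.eq]
      _ = (a⁻¹ * b⁻¹) * ((x * a * x⁻¹) * (x * b * x⁻¹)) := by group
      _ = (b⁻¹ * a⁻¹) * ((x * a * x⁻¹) * (x * b * x⁻¹)) := by rw [h3.eq]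
      _ = (a * b)⁻¹ * (x * (a * b) * x⁻¹) := by rw [h2, mul_inv_rev]
  inv_mem' := by
    rintro _ ⟨a, ha, rfl⟩
    refine ⟨a⁻¹, N.inv_mem ha, ?_⟩
    have h1 : Commute (x * a⁻¹ * x⁻¹) a := hc _ (hx _ (N.inv_mem ha)) _ ha
    calc (a⁻¹ * (x * a * x⁻¹))⁻¹ = (x * a⁻¹ * x⁻¹) * a := by group
      _ = a * (x * a⁻¹ * x⁻¹) := h1.eq
      _ = a⁻¹⁻¹ * (x * a⁻¹ * x⁻¹) := by rw [inv_inv]

theorem mem_commSub {N : Subgroup G} {x : G} {hc : ∀ a ∈ N, ∀ b ∈ N, Commute a b}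
    {hx : ∀ n ∈ N, x * n * x⁻¹ ∈ N} {z : G} :
    z ∈ commSub N x hc hx ↔ ∃ n ∈ N, z = n⁻¹ * (x * n * x⁻¹) := Iff.rfl

theorem commSub_le {N : Subgroup G} {x : G} (hc : ∀ a ∈ N, ∀ b ∈ N, Commute a b)
    (hx : ∀ n ∈ N, x * n * x⁻¹ ∈ N) : commSub N x hc hx ≤ N := by
  rintro _ ⟨n, hn, rfl⟩
  exact N.mul_mem (N.inv_mem hn) (hx n hn)

/-- Thompson's `P × Q` lemma for an abelian `p`-group `N`: let `D` act on `N` as a `p`-group, and
let the `p'`-element `x` act on `N` commuting with the action of `D`. If `x` centralizes `C_N(D)`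
then `x` centralizes `N`. -/
theorem commute_of_pxq [Finite G] [Fact p.Prime] {N D : Subgroup G} {x : G}
    (hNp : IsPGroup p N) (hc : ∀ a ∈ N, ∀ b ∈ N, Commute a b)
    (hDN : D ≤ Subgroup.normalizer (N : Set G))
    (hDp : ∀ d ∈ D, ∃ k : ℕ, d ^ (p ^ k) ∈ Subgroup.centralizer (N : Set G))
    (hxN : x ∈ Subgroup.normalizer (N : Set G)) (hxc : (orderOf x).Coprime p)
    (hxD : ∀ d ∈ D, d⁻¹ * (x⁻¹ * d * x) ∈ Subgroup.centralizer (N : Set G))
    (hfix : ∀ n ∈ N, n ∈ Subgroup.centralizer (D : Set G) → Commute x n) :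
    ∀ n ∈ N, Commute x n := by
  have hx : ∀ n ∈ N, x * n * x⁻¹ ∈ N := fun n hn => (Subgroup.mem_normalizer_iff.mp hxN n).mp hn
  -- conjugation by `d ∈ D` commutes with `n ↦ n⁻¹ x n x⁻¹`
  have hconj : ∀ d ∈ D, ∀ n ∈ N,
      d * (n⁻¹ * (x * n * x⁻¹)) * d⁻¹ = (d * n * d⁻¹)⁻¹ * (x * (d * n * d⁻¹) * x⁻¹) := by
    intro d hd n hn
    have h1 := Subgroup.mem_centralizer_iff.mp (hxD d hd) n hn
    -- `c n = n c` for `c = d⁻¹ x⁻¹ d x`
    have h2 : (x⁻¹ * d * x) * n * (x⁻¹ * d * x)⁻¹ = d * n * d⁻¹ := by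
      have h3 : x⁻¹ * d * x = d * (d⁻¹ * (x⁻¹ * d * x)) := by group
      rw [h3]
      have h4 : d * (d⁻¹ * (x⁻¹ * d * x)) * n * (d * (d⁻¹ * (x⁻¹ * d * x)))⁻¹ =
          d * ((d⁻¹ * (x⁻¹ * d * x)) * n) * (d⁻¹ * (x⁻¹ * d * x))⁻¹ * d⁻¹ := by group
      rw [h4, ← h1]
      group
    have h5 : d * (x * n * x⁻¹) * d⁻¹ = x * ((x⁻¹ * d * x) * n * (x⁻¹ * d * x)⁻¹) * x⁻¹ := by group
    calc d * (n⁻¹ * (x * n * x⁻¹)) * d⁻¹ = (d * n * d⁻¹)⁻¹ * (d * (x * n * x⁻¹) * d⁻¹) := by group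
      _ = (d * n * d⁻¹)⁻¹ * (x * (d * n * d⁻¹) * x⁻¹) := by rw [h5, h2]
  have hDW : D ≤ Subgroup.normalizer ((commSub N x hc hx : Subgroup G) : Set G) := by
    apply le_normalizer_of_forall_map_conj_le
    intro d hd
    rintro _ ⟨_, ⟨n, hn, rfl⟩, rfl⟩
    refine ⟨d * n * d⁻¹, (Subgroup.mem_normalizer_iff.mp (hDN hd) n).mp hn, ?_⟩
    simpa using hconj d hd n hn
  by_cases hW1 : commSub N x hc hx = ⊥
  · intro n hn
    have h1 : n⁻¹ * (x * n * x⁻¹) ∈ commSub N x hc hx := ⟨n, hn, rfl⟩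
    rw [hW1, Subgroup.mem_bot] at h1
    show x * n = n * x
    have h2 : x * n * x⁻¹ = n := by
      have := congrArg (fun t => n * t) h1
      simpa using this
    calc x * n = x * n * x⁻¹ * x := by group
      _ = n * x := by rw [h2]
  · exfalso
    have hWp : IsPGroup p (commSub N x hc hx) := hNp.to_le (commSub_le hc hx)
    obtain ⟨z, hzW, hz1, hzD⟩ := exists_mem_centralizer_of_pAction hWp hW1 hDW (by
      intro d hd
      obtain ⟨k, hk⟩ := hDp d hd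
      exact ⟨k, Subgroup.centralizer_le (SetLike.coe_subset_coe.mpr (commSub_le hc hx)) hk⟩)
    obtain ⟨n, hn, rfl⟩ := hzW
    have hzN : n⁻¹ * (x * n * x⁻¹) ∈ N := N.mul_mem (N.inv_mem hn) (hx n hn)
    have h1 : Commute x (n⁻¹ * (x * n * x⁻¹)) := hfix _ hzN hzD
    have h2 : Commute x n := commute_of_coprime_of_conj_eq_mul x n (n⁻¹ * (x * n * x⁻¹)) hxc
      (by group) h1 (orderOf_eq_pow_of_mem hNp hzN)
    apply hz1
    have h3 : x * n * x⁻¹ = n := by rw [h2.eq]; group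
    rw [h3]; group

end Cfsg.Agent.Lib.Helper47_PxQ
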