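import Mathlib
import Cfsg.Agent.Lib.Helper56_RuDefs
import Cfsg.Agent.Lib.Helper56_RuBasic

/-!
# S3174 / S3175 market (architect helper56), package BOUND, hypothesis form

`bound_of : Hyp T → Str T` (the counting step, Part B of `pending/helper56/S3174_proof.md`) with the
statements of the packages UCSN (`normal_le_ucs`, `p = 2`), UCSC (`card_ucs`), IDXW (`index_Wc_le`)
and CHAIN (`chain`) taken as hypotheses.  The verbatim `bound` is in `Helper47_RU_BOUND`.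
-/

set_option autoImplicit false
set_option linter.unusedVariables false

open scoped commutatorElement
open Cfsg.Agent.Lib.Helper56_RuDefs Cfsg.Agent.Lib.Helper56_RuBasic

namespace Cfsg.Agent.Lib.Helper47_RU_BOUNDaux

variable {T : Type*} [Group T]

/-- three bounded factors with a large product are all extremal -/
theorem three_factors {A R I : ℕ} (hA : A ≤ 8) (hR : R ≤ 256) (hI : I ≤ 8)
    (h : 2 ^ 14 ≤ A * R * I) : A = 8 ∧ R = 256 ∧ I = 8 := by
  have h14 : (2 : ℕ) ^ 14 = 16384 := by norm_num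
  rw [h14] at h
  refine ⟨?_, ?_, ?_⟩
  · by_contra hne
    have hA' : A ≤ 7 := by omega
    have := Nat.mul_le_mul (Nat.mul_le_mul hA' hR) hI
    omega
  · by_contra hne
    have hR' : R ≤ 255 := by omega
    have := Nat.mul_le_mul (Nat.mul_le_mul hA hR') hI
    omega
  · by_contra hne
    have hI' : I ≤ 7 := by omega
    have := Nat.mul_le_mul (Nat.mul_le_mul hA hR) hI'
    omega

/-- BOUND with the statements of UCSN, UCSC, IDXW, CHAIN as hypotheses -/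
theorem bound_of (h : Hyp T)
    (hucsn : ∀ N : Subgroup T, N.Normal → ∀ k : ℕ, Nat.card N ≤ 2 ^ k →
      N ≤ Subgroup.upperCentralSeries T k)
    (hZ : ∀ i ≤ 4, Nat.card ↥(Subgroup.upperCentralSeries T i) = 2 ^ i)
    (hidx : (Wc T).index ≤ 8)
    (hchain : ∀ (A W : Subgroup T) [A.Normal] [W.Normal], A ≤ W → (∀ w ∈ W, w ^ 2 ∈ A) →
      (∀ w ∈ W, ∀ w' ∈ W, ⁅w, w'⁆ ∈ A) → ∀ S : Subgroup T, W ≤ S →
      A.relIndex (fixSub A W S) ≤ (A.relIndex (fixSub A W ⊤)) ^ S.index) :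
    Str T := by
  have hfin := h.fin
  have hp2 : Fact (2 : ℕ).Prime := ⟨Nat.prime_two⟩
  have hWn : (Wc T).Normal := inferInstance
  obtain ⟨Φ, hΦdef⟩ : ∃ Φ : Subgroup T, Φ = (frattini ↥(Wc T)).map (Wc T).subtype := ⟨_, rfl⟩
  have hΦn : Φ.Normal := by rw [hΦdef]; infer_instance
  have hΦW : Φ ≤ Wc T := by rw [hΦdef]; exact Subgroup.map_subtype_le _
  have hpgW : IsPGroup 2 ↥(Wc T) := h.pg.to_subgroup _
  -- the order of `Φ`
  have hcΦ : Nat.card ↥Φ = Nat.card ↥(frattini ↥(Wc T)) := by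
    rw [hΦdef]
    exact Subgroup.card_map_of_injective (Wc T).subtype_injective
  obtain ⟨a, ha⟩ := IsPGroup.iff_card.mp (hpgW.to_subgroup (frattini ↥(Wc T)))
  have hcΦa : Nat.card ↥Φ = 2 ^ a := by rw [hcΦ, ha]
  have ha3 : a ≤ 3 := by
    have h1 := h.phi
    rw [ha] at h1
    by_contra hcon
    have h4 : 4 ≤ a := by omega
    have := Nat.pow_le_pow_right (show 0 < 2 by norm_num) h4
    omega
  have hΦZa : Φ ≤ Subgroup.upperCentralSeries T a := hucsn Φ hΦn a (le_of_eq hcΦa)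
  have hΦZ3 : Φ ≤ Subgroup.upperCentralSeries T 3 :=
    hΦZa.trans (Subgroup.upperCentralSeries_mono T ha3)
  -- squares and commutators of `W` lie in `Φ`
  have hsq : ∀ w ∈ Wc T, w ^ 2 ∈ Φ := by
    intro w hw
    have h1 := Helper1_Frattini.pow_mem_frattini_of_isPGroup hpgW ⟨w, hw⟩
    rw [hΦdef]
    exact Subgroup.mem_map.2 ⟨_, h1, by simp⟩
  have hab : ∀ w ∈ Wc T, ∀ w' ∈ Wc T, ⁅w, w'⁆ ∈ Φ := by
    intro w hw w' hw'
    have h1 := Helper1_Frattini.commutator_le_frattini_of_isPGroup hpgW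
    have h2 : ⁅(⟨w, hw⟩ : ↥(Wc T)), ⟨w', hw'⟩⁆ ∈ _root_.commutator ↥(Wc T) :=
      Subgroup.commutator_mem_commutator (Subgroup.mem_top _) (Subgroup.mem_top _)
    rw [hΦdef]
    exact Subgroup.mem_map.2 ⟨_, h1 h2, by simp [commutatorElement_def]⟩
  -- `X_W = W`
  have hXW : fixSub Φ (Wc T) (Wc T) = Wc T := by
    apply le_antisymm fixSub_le
    intro w hw
    rw [mem_fixSub]
    exact ⟨hw, fun s hs => hab w hw s hs⟩
  -- `X_T ≤ Z_{a+1}`
  have hXT : fixSub Φ (Wc T) ⊤ ≤ Subgroup.upperCentralSeries T (a + 1) := by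
    intro w hw
    rw [mem_fixSub] at hw
    rw [Subgroup.mem_upperCentralSeries_succ_iff]
    intro t
    exact hΦZa (hw.2 t (Subgroup.mem_top t))
  have hΦXT : Φ ≤ fixSub Φ (Wc T) ⊤ := by
    intro x hx
    rw [mem_fixSub]
    refine ⟨hΦW hx, fun s _ => ?_⟩
    rw [commutatorElement_def]
    have h1 : s * x⁻¹ * s⁻¹ ∈ Φ := hΦn.conj_mem _ (Φ.inv_mem hx) s
    have h2 : x * s * x⁻¹ * s⁻¹ = x * (s * x⁻¹ * s⁻¹) := by group
    rw [h2]
    exact Φ.mul_mem hx h1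
  have hcXT : Nat.card ↥(fixSub Φ (Wc T) ⊤) ≤ 2 ^ (a + 1) := by
    rw [← hZ (a + 1) (by omega)]
    exact Subgroup.card_le_of_le hXT
  have hrT : Nat.card ↥Φ * Φ.relIndex (fixSub Φ (Wc T) ⊤) = Nat.card ↥(fixSub Φ (Wc T) ⊤) :=
    card_mul_relIndex hΦXT
  have hrT2 : Φ.relIndex (fixSub Φ (Wc T) ⊤) ≤ 2 := by
    rw [← hrT, hcΦa, pow_succ] at hcXT
    exact Nat.le_of_mul_le_mul_left hcXT (by positivity)
  -- the chain inequality
  have hch := hchain Φ (Wc T) hΦW hsq hab (Wc T) le_rfl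
  rw [hXW] at hch
  have hrW : Φ.relIndex (Wc T) ≤ 256 := by
    calc Φ.relIndex (Wc T) ≤ (Φ.relIndex (fixSub Φ (Wc T) ⊤)) ^ (Wc T).index := hch
      _ ≤ 2 ^ (Wc T).index := Nat.pow_le_pow_left hrT2 _
      _ ≤ 2 ^ 8 := Nat.pow_le_pow_right (by norm_num) hidx
      _ = 256 := by norm_num
  -- counting
  have hcW : Nat.card ↥Φ * Φ.relIndex (Wc T) = Nat.card ↥(Wc T) := card_mul_relIndex hΦW
  have hcT : Nat.card ↥(Wc T) * (Wc T).index = Nat.card T := (Wc T).card_mul_index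
  have hA8 : Nat.card ↥Φ ≤ 8 := by rw [hcΦ]; exact h.phi
  have hbig : 2 ^ 14 ≤ Nat.card ↥Φ * Φ.relIndex (Wc T) * (Wc T).index := by
    rw [hcW, hcT]; exact h.big
  obtain ⟨e1, e2, e3⟩ := three_factors hA8 hrW hidx hbig
  have hcardT : Nat.card T = 2 ^ 14 := by
    rw [← hcT, ← hcW, e1, e2, e3]; norm_num
  -- `a = 3`
  have ha_eq : a = 3 := by
    rw [hcΦa] at e1
    have : (2 : ℕ) ^ a = 2 ^ 3 := by rw [e1]; norm_num
    exact Nat.pow_right_injective (le_refl 2) this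
  -- `Φ = Z_3`
  have hΦeq : Φ = Subgroup.upperCentralSeries T 3 := by
    apply Subgroup.eq_of_le_of_card_ge hΦZ3
    rw [hZ 3 (by norm_num), e1]; norm_num
  -- `r_T = 2`
  have hrTeq : Φ.relIndex (fixSub Φ (Wc T) ⊤) = 2 := by
    by_contra hne
    have h1 : Φ.relIndex (fixSub Φ (Wc T) ⊤) ≤ 1 := by omega
    have h2 : (Φ.relIndex (fixSub Φ (Wc T) ⊤)) ^ (Wc T).index ≤ 1 ^ (Wc T).index :=
      Nat.pow_le_pow_left h1 _
    rw [one_pow] at h2
    have := hch.trans h2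
    omega
  have hcXT16 : Nat.card ↥(fixSub Φ (Wc T) ⊤) = 16 := by
    rw [← hrT, e1, hrTeq]
  have hfixeq : fixSub (Subgroup.upperCentralSeries T 3) (Wc T) ⊤ = fixSub Φ (Wc T) ⊤ := by
    ext w
    rw [mem_fixSub, mem_fixSub, hΦeq]
  refine
    { fin := h.fin, pg := h.pg, cardT := hcardT, cardZ := hZ, idxW := e3, frat := ?_, fixT := ?_,
      hd := ?_ }
  · rw [← hΦdef]; exact hΦeq
  · rw [hfixeq]; exact hcXT16
  · intro U hU hUidx
    have h1 : frattini ↥(Wc T) ≤ U.subgroupOf (Wc T) := h.hd (U.subgroupOf (Wc T)) hUidx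
    have h2 := Subgroup.map_mono (f := (Wc T).subtype) h1
    rw [← hΦdef, Subgroup.subgroupOf_map_subtype] at h2
    rw [← hΦeq]
    exact h2.trans inf_le_left

end Cfsg.Agent.Lib.Helper47_RU_BOUNDaux
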