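import Mathlib
import Cfsg.Agent.Lib.Helper56_RuDefs

/-!
# ru_packages CHAIN (helper71), aux form: `|X_S : A| ≤ |X_T : A|^{|T:S|}` with the statement of
STEPCOR (1) (`step`) as an explicit hypothesis. Market `ru_packages` (S3174 + S3175, architect helper56).
-/

set_option autoImplicit false

open scoped commutatorElement
open Cfsg.Agent.Lib.Helper56_RuDefs

namespace Cfsg.Agent.Lib.Helper71_RU_CHAINaux

variable {T : Type*} [Group T]

/-- an element of `N_T(S) \ S` whose square lies in `S` (finite 2-group, `S` proper) -/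
theorem exists_normalizer_sq [Finite T] (hT : IsPGroup 2 T) (S : Subgroup T) (hS : S ≠ ⊤) :
    ∃ s : T, s ∈ Subgroup.normalizer (S : Set T) ∧ s ∉ S ∧ s ^ 2 ∈ S := by
  haveI : Fact (Nat.Prime 2) := ⟨Nat.prime_two⟩
  haveI : Group.IsNilpotent T := hT.isNilpotent
  have hnc := Group.normalizerCondition_of_isNilpotent (G := T)
  have hlt : S < Subgroup.normalizer (S : Set T) := hnc S (lt_top_iff_ne_top.2 hS)
  obtain ⟨t, htN, htS⟩ := SetLike.exists_of_lt hlt
  obtain ⟨k, hk⟩ := (IsPGroup.iff_orderOf.mp hT) t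
  have hex : ∃ j : ℕ, t ^ (2 ^ j) ∈ S := ⟨k, by rw [← hk, pow_orderOf_eq_one]; exact S.one_mem⟩
  classical
  have hj0 : Nat.find hex ≠ 0 := by
    intro h0
    have := Nat.find_spec hex
    rw [h0, pow_zero, pow_one] at this
    exact htS this
  obtain ⟨i, hi⟩ := Nat.exists_eq_succ_of_ne_zero hj0
  refine ⟨t ^ (2 ^ i), Subgroup.pow_mem _ htN _, ?_, ?_⟩
  · exact Nat.find_min hex (by omega)
  · have := Nat.find_spec hex
    rw [hi, pow_succ, pow_mul] at this
    exact this

/-- CHAIN, aux form: `step` as a hypothesis. -/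
theorem chain_aux [Finite T] (hT : IsPGroup 2 T) (A W : Subgroup T) [A.Normal] [W.Normal]
    (hstep : ∀ S : Subgroup T, W ≤ S → ∀ s : T, s ∈ Subgroup.normalizer (S : Set T) → s ^ 2 ∈ S →
      A.relIndex (fixSub A W S) ≤ (A.relIndex (fixSub A W (S ⊔ Subgroup.zpowers s))) ^ 2)
    (S : Subgroup T) (hWS : W ≤ S) :
    A.relIndex (fixSub A W S) ≤ (A.relIndex (fixSub A W ⊤)) ^ S.index := by
  induction' h : S.index using Nat.strong_induction_on with n ih generalizing S
  by_cases hS : S = ⊤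
  · subst hS
    rw [← h, Subgroup.index_top, pow_one]
  · obtain ⟨s, hsN, hsS, hs2⟩ := exists_normalizer_sq hT S hS
    have hle : S ≤ S ⊔ Subgroup.zpowers s := le_sup_left
    have hsS' : s ∈ S ⊔ Subgroup.zpowers s :=
      (le_sup_right : Subgroup.zpowers s ≤ S ⊔ Subgroup.zpowers s) (Subgroup.mem_zpowers s)
    have hmul : S.relIndex (S ⊔ Subgroup.zpowers s) * (S ⊔ Subgroup.zpowers s).index = S.index :=
      Subgroup.relIndex_mul_index hle
    have hr0 : S.relIndex (S ⊔ Subgroup.zpowers s) ≠ 0 := by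
      unfold Subgroup.relIndex
      exact Subgroup.index_ne_zero_of_finite
    have hr1 : S.relIndex (S ⊔ Subgroup.zpowers s) ≠ 1 := by
      intro h1
      rw [Subgroup.relIndex_eq_one] at h1
      exact hsS (h1 hsS')
    have hi0 : (S ⊔ Subgroup.zpowers s).index ≠ 0 := Subgroup.index_ne_zero_of_finite
    have h2 : 2 * (S ⊔ Subgroup.zpowers s).index ≤ S.index := by
      rw [← hmul]
      exact Nat.mul_le_mul_right _ (by omega)
    have hlt : (S ⊔ Subgroup.zpowers s).index < n := by omega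
    have ih' := ih _ hlt (S ⊔ Subgroup.zpowers s) (hWS.trans hle) rfl
    have hpos : 0 < A.relIndex (fixSub A W ⊤) := by
      unfold Subgroup.relIndex
      exact Nat.pos_of_ne_zero Subgroup.index_ne_zero_of_finite
    calc A.relIndex (fixSub A W S)
        ≤ (A.relIndex (fixSub A W (S ⊔ Subgroup.zpowers s))) ^ 2 := hstep S hWS s hsN hs2
      _ ≤ ((A.relIndex (fixSub A W ⊤)) ^ (S ⊔ Subgroup.zpowers s).index) ^ 2 :=
          Nat.pow_le_pow_left ih' 2
      _ = (A.relIndex (fixSub A W ⊤)) ^ ((S ⊔ Subgroup.zpowers s).index * 2) := (pow_mul _ _ _).symm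
      _ ≤ (A.relIndex (fixSub A W ⊤)) ^ n := Nat.pow_le_pow_right hpos (by omega)

end Cfsg.Agent.Lib.Helper71_RU_CHAINaux
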