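import Mathlib
import Cfsg.Prelude.Def_Transfer
import Cfsg.Agent.Lib.Helper56_RuDefs
import Cfsg.Agent.Lib.Helper56_RuBasic

/-!
# S3174 / S3175 market `ru_packages` (architect helper56), package STEPCOR, auxiliary form:
`step_of`, `step_surj_of` take the conclusion of `step_core` (package STEPCORE) as a hypothesis.
-/

set_option autoImplicit false

open scoped commutatorElement
open Cfsg.Agent.Lib.Helper56_RuDefs Cfsg.Agent.Lib.Helper56_RuBasic

namespace Cfsg.Agent.Lib.Helper91_RU_STEPCORa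

variable {T : Type*} [Group T]

theorem relIndex_ne_zero' [Finite T] (H K : Subgroup T) : H.relIndex K ≠ 0 := by
  unfold Subgroup.relIndex
  exact Subgroup.index_ne_zero_of_finite

theorem le_imSub (A W S : Subgroup T) [A.Normal] (s : T) : A ≤ imSub A W S s := by
  unfold imSub
  exact le_sup_left

/-- STEPCOR (1), from the conclusion of `step_core`. -/
theorem step_of [Finite T] (A W S : Subgroup T) [A.Normal] [W.Normal] (s : T)
    (hcore : A.relIndex (fixSub A W S) =
        A.relIndex (fixSub A W (S ⊔ Subgroup.zpowers s)) * A.relIndex (imSub A W S s) ∧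
      imSub A W S s ≤ fixSub A W (S ⊔ Subgroup.zpowers s) ∧
      ∀ y ∈ imSub A W S s, ∃ w ∈ fixSub A W S, ∃ a ∈ A, ⁅w, s⁆ = y * a) :
    A.relIndex (fixSub A W S) ≤ (A.relIndex (fixSub A W (S ⊔ Subgroup.zpowers s))) ^ 2 := by
  obtain ⟨h1, h2, -⟩ := hcore
  have h3 := Subgroup.relIndex_mul_relIndex A (imSub A W S s) (fixSub A W (S ⊔ Subgroup.zpowers s))
    (le_imSub A W S s) h2
  have hpos : 0 < A.relIndex (fixSub A W (S ⊔ Subgroup.zpowers s)) :=
    Nat.pos_of_ne_zero (relIndex_ne_zero' _ _)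
  have hle : A.relIndex (imSub A W S s) ≤ A.relIndex (fixSub A W (S ⊔ Subgroup.zpowers s)) :=
    Nat.le_of_dvd hpos ⟨_, h3.symm⟩
  rw [h1, pow_two]
  exact Nat.mul_le_mul_left _ hle

/-- STEPCOR (2), from the conclusion of `step_core`. -/
theorem step_surj_of [Finite T] (A W S : Subgroup T) [A.Normal] [W.Normal] (s : T)
    (hcore : A.relIndex (fixSub A W S) =
        A.relIndex (fixSub A W (S ⊔ Subgroup.zpowers s)) * A.relIndex (imSub A W S s) ∧
      imSub A W S s ≤ fixSub A W (S ⊔ Subgroup.zpowers s) ∧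
      ∀ y ∈ imSub A W S s, ∃ w ∈ fixSub A W S, ∃ a ∈ A, ⁅w, s⁆ = y * a)
    (heq : A.relIndex (fixSub A W S) = (A.relIndex (fixSub A W (S ⊔ Subgroup.zpowers s))) ^ 2) :
    ∀ y ∈ fixSub A W (S ⊔ Subgroup.zpowers s), ∃ w ∈ fixSub A W S, ∃ a ∈ A, ⁅w, s⁆ = y * a := by
  obtain ⟨h1, h2, h4⟩ := hcore
  have h3 := Subgroup.relIndex_mul_relIndex A (imSub A W S s) (fixSub A W (S ⊔ Subgroup.zpowers s))
    (le_imSub A W S s) h2
  have hne : A.relIndex (fixSub A W (S ⊔ Subgroup.zpowers s)) ≠ 0 := relIndex_ne_zero' _ _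
  have hpos : 0 < A.relIndex (fixSub A W (S ⊔ Subgroup.zpowers s)) := Nat.pos_of_ne_zero hne
  -- `r_im = r_{S'}`
  have h5 : A.relIndex (imSub A W S s) = A.relIndex (fixSub A W (S ⊔ Subgroup.zpowers s)) := by
    rw [h1, pow_two] at heq
    exact Nat.eq_of_mul_eq_mul_left hpos heq
  -- `|X_{S'} : imSub| = 1`
  have h6 : (imSub A W S s).relIndex (fixSub A W (S ⊔ Subgroup.zpowers s)) = 1 := by
    rw [h5] at h3
    have : A.relIndex (fixSub A W (S ⊔ Subgroup.zpowers s)) *
        (imSub A W S s).relIndex (fixSub A W (S ⊔ Subgroup.zpowers s)) =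
        A.relIndex (fixSub A W (S ⊔ Subgroup.zpowers s)) * 1 := by rw [h3, mul_one]
    exact Nat.eq_of_mul_eq_mul_left hpos this
  have h7 : fixSub A W (S ⊔ Subgroup.zpowers s) ≤ imSub A W S s := Subgroup.relIndex_eq_one.mp h6
  intro y hy
  exact h4 y (h7 hy)

end Cfsg.Agent.Lib.Helper91_RU_STEPCORa
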