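import Mathlib
import Cfsg.Agent.Lib.Helper56_RuDefs
import Cfsg.Agent.Lib.Helper71_RU_CHAINaux
import Cfsg.Agent.Lib.Helper91_RU_STEPCORa
import Cfsg.Agent.Lib.Helper3_RU_STEPCORE

/-!
# ru_packages CHAIN (helper56 market, S3174 / S3175): verbatim form.

`chain_aux` (Helper71_RU_CHAINaux) + `step_of` (Helper91_RU_STEPCORa) + `step_core` (Helper3_RU_STEPCORE).
-/

set_option autoImplicit false

open scoped commutatorElement
open Cfsg.Agent.Lib.Helper56_RuDefs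

namespace Cfsg.Agent.Lib.Helper71_RU_CHAIN

variable {T : Type*} [Group T]

/-- CHAIN. `|X_S : A| ≤ |X_T : A|^{|T:S|}`. -/
theorem chain [Finite T] (hT : IsPGroup 2 T) (A W : Subgroup T) [A.Normal] [W.Normal] (hAW : A ≤ W)
    (hsq : ∀ w ∈ W, w ^ 2 ∈ A) (hab : ∀ w ∈ W, ∀ w' ∈ W, ⁅w, w'⁆ ∈ A) (S : Subgroup T) (hWS : W ≤ S) :
    A.relIndex (fixSub A W S) ≤ (A.relIndex (fixSub A W ⊤)) ^ S.index :=
  Cfsg.Agent.Lib.Helper71_RU_CHAINaux.chain_aux hT A W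
    (fun S hWS s hsN hs2 => Cfsg.Agent.Lib.Helper91_RU_STEPCORa.step_of A W S s
      (Cfsg.Agent.Lib.Helper3_RU_STEPCORE.step_core A W S hAW hWS hsq hab s hsN hs2)) S hWS

end Cfsg.Agent.Lib.Helper71_RU_CHAIN
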