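import Mathlib
import Cfsg.Prelude.Def_Transfer
import Cfsg.Agent.Lib.Helper56_RuDefs
import Cfsg.Agent.Lib.Helper56_RuBasic
import Cfsg.Agent.Lib.Helper47_RU_BOUNDaux
import Cfsg.Agent.Lib.Helper24_RU_UCSN
import Cfsg.Agent.Lib.Helper24_RU_UCSC
import Cfsg.Agent.Lib.Helper3_RU_IDXW
import Cfsg.Agent.Lib.Helper71_RU_CHAIN

/-!
# S3174 / S3175 market (architect helper56), package BOUND: `bound : Hyp T → Str T`

The counting step (Part B of `pending/helper56/S3174_proof.md`):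
`Helper47_RU_BOUNDaux.bound_of` + UCSN, UCSC (helper24), IDXW (helper3), CHAIN (helper71).
-/

set_option autoImplicit false

open scoped commutatorElement
open Cfsg.Agent.Lib.Helper56_RuDefs Cfsg.Agent.Lib.Helper56_RuBasic

namespace Cfsg.Agent.Lib.Helper47_RU_BOUND

variable {T : Type*} [Group T]

/-- BOUND. -/
theorem bound (h : Hyp T) : Str T := by
  have hfin := h.fin
  have hp2 : Fact (2 : ℕ).Prime := ⟨Nat.prime_two⟩
  have hbig : 16 < Nat.card T := lt_of_lt_of_le (by norm_num) h.big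
  have hZ := Cfsg.Agent.Lib.Helper24_RU_UCSC.card_ucs h.pg hbig h.z4
  exact Cfsg.Agent.Lib.Helper47_RU_BOUNDaux.bound_of h
    (fun N hN k hk => by
      have := hN
      exact Cfsg.Agent.Lib.Helper24_RU_UCSN.normal_le_ucs h.pg N k hk)
    hZ (Cfsg.Agent.Lib.Helper3_RU_IDXW.index_Wc_le h.pg hZ)
    (fun A W _ _ hAW hsq hab S hWS =>
      Cfsg.Agent.Lib.Helper71_RU_CHAIN.chain h.pg A W hAW hsq hab S hWS)

end Cfsg.Agent.Lib.Helper47_RU_BOUND
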