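import Mathlib
import Cfsg.Prelude.Def_Classical
import Cfsg.Agent.Lib.Helper55_SUND_PU1
import Cfsg.Agent.Lib.Helper99_Singer

/-!
S2496-DEC (helper42's market): primary decomposition of a unitary element of prime order `r` with
`ord_r(q²) = m`, `ord_r(q) % 4 ≠ 2`, on the standard hermitian space of dimension `2m`:
`V = D₀ ⊕ D₁`, totally isotropic `m`-spaces invariant under the commutant (helper47).
-/

set_option autoImplicit false

namespace Cfsg.Agent.Lib.Helper47_S2496_DEC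

open Polynomial Module Matrix
open Cfsg.Agent.Lib.Helper40_SpBasic Cfsg.Agent.Lib.Helper40_UBasic
open Cfsg.Agent.Lib.Helper40_Semisimple Cfsg.Agent.Lib.Helper40_SpCyclic
  Cfsg.Agent.Lib.Helper40_UCyclic Cfsg.Agent.Lib.Helper40_UMatch
  Cfsg.Agent.Lib.Helper40_UHyperbolic Cfsg.Agent.Lib.Helper40_UCases
  Cfsg.Agent.Lib.Helper40_Palindromic Cfsg.Agent.Lib.Helper40_SpExist
  Cfsg.Agent.Lib.Helper40_UExist Cfsg.Agent.Lib.Helper40_UPrimeOrder
  Cfsg.Agent.Lib.Helper40_SpPrimeOrder Cfsg.Agent.Lib.Helper40_PolyFactors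
  Cfsg.Agent.Lib.Helper40_PrimeOrderClasses
open Cfsg.Agent.Lib.Helper55_SUND_PU1 Cfsg.Agent.Lib.Helper99_Singer

universe u

section poly

variable {K : Type u} [Field K] (σ : K →+* K)

/-- a monic irreducible factor `w` of `X ^ N - 1` divides the adjoint polynomial of its dual -/
theorem dvd_pstar_udual (hinv : ∀ c, σ (σ c) = c) (N : ℕ) (hN : 0 < N) (w : K[X])
    (hwi : Irreducible w) (hwd : w ∣ X ^ N - 1) :
    w ∣ pstar σ N (udual σ w) := by
  have : Fact (Irreducible w) := ⟨hwi⟩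
  have hw0 : w.coeff 0 ≠ 0 := coeff_zero_ne_zero_of_dvd N hN w hwd
  obtain ⟨ρ, hρ⟩ : ∃ ρ, ρ = AdjoinRoot.root w := ⟨_, rfl⟩
  have hρN : ρ ^ N = 1 := by
    have h1 : aeval ρ (X ^ N - 1 : K[X]) = 0 := by
      rw [hρ, AdjoinRoot.aeval_eq, AdjoinRoot.mk_eq_zero]
      exact hwd
    rw [map_sub, map_pow, aeval_X, map_one, sub_eq_zero] at h1
    exact h1
  have hρinv : ρ ^ (N - 1) = ρ⁻¹ := by
    apply eq_inv_of_mul_eq_one_left
    rw [← pow_succ, Nat.sub_add_cancel hN, hρN]
  have hkey : w ∣ pstar σ N (udual σ w) ↔ aeval ρ⁻¹ ((udual σ w).map σ) = 0 := by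
    rw [← hρinv, ← expand_aeval, hρ, AdjoinRoot.aeval_eq, AdjoinRoot.mk_eq_zero]
  rw [hkey]
  have h1 : (udual σ w).map σ = recip w := by
    unfold udual
    rw [map_recip, map_map_self σ hinv]
  rw [h1, hρ]
  exact aeval_inv_root_recip w hw0

end poly

section abstract

variable {K : Type u} [Field K] {σ : K →+* K} {V : Type*} [AddCommGroup V] [Module K V]
variable {B : V →ₗ[K] V →ₛₗ[σ] K} {a : Module.End K V}

theorem comm_aeval (a c : Module.End K V) (hc : c * a = a * c) (p : K[X]) :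
    c * aeval a p = aeval a p * c := by
  induction p using Polynomial.induction_on' with
  | add p q hp hq => rw [map_add, mul_add, add_mul, hp, hq]
  | monomial n k =>
    rw [← C_mul_X_pow_eq_monomial, map_mul, map_pow, aeval_C, aeval_X]
    have h1 : c * a ^ n = a ^ n * c := (Commute.pow_right (show Commute c a from hc) n)
    rw [← mul_assoc, ← Algebra.commutes, mul_assoc, h1, mul_assoc]

theorem ker_aeval_invariant (a c : Module.End K V) (hc : c * a = a * c) (p : K[X]) (v : V)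
    (hv : v ∈ LinearMap.ker (aeval a p)) : c v ∈ LinearMap.ker (aeval a p) := by
  rw [LinearMap.mem_ker] at hv ⊢
  have h1 := comm_aeval a c hc p
  have h2 := LinearMap.congr_fun h1 v
  rw [Module.End.mul_apply, Module.End.mul_apply, hv, map_zero] at h2
  exact h2.symm

/-- existence of a nontrivial primary component outside the fixed space -/
theorem exists_factor [FiniteDimensional K V] (r : ℕ) (hr : r.Prime) (hrK : (r : K) ≠ 0)
    (har : a ^ r = 1) (ha1 : a ≠ 1) :
    ∃ f : K[X], f.Monic ∧ Irreducible f ∧ f ∣ X ^ r - 1 ∧ f ≠ X - 1 ∧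
      LinearMap.ker (aeval a f) ≠ ⊥ := by
  classical
  have : Fact r.Prime := ⟨hr⟩
  have hint : IsIntegral K a := Algebra.IsIntegral.isIntegral a
  have hμ0 : minpoly K a ≠ 0 := minpoly.ne_zero hint
  have hμd : minpoly K a ∣ X ^ r - 1 := by
    apply minpoly.dvd
    rw [map_sub, map_pow, aeval_X, map_one, har, sub_self]
  have hΦ : cyclotomic r K * (X - 1) = X ^ r - 1 := cyclotomic_prime_mul_X_sub_one K r
  have hncop : ¬ IsCoprime (minpoly K a) (cyclotomic r K) := by
    intro hcop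
    have h1 : minpoly K a ∣ X - 1 := by
      apply hcop.dvd_of_dvd_mul_left
      rw [hΦ]
      exact hμd
    obtain ⟨k, hk⟩ := h1
    have h2 : aeval a (X - 1 : K[X]) = 0 := by
      rw [hk, map_mul, minpoly.aeval, zero_mul]
    rw [map_sub, aeval_X, map_one, sub_eq_zero] at h2
    exact ha1 h2
  have hgu : ¬ IsUnit (EuclideanDomain.gcd (minpoly K a) (cyclotomic r K)) := by
    rw [EuclideanDomain.gcd_isUnit_iff]
    exact hncop
  have hg0 : EuclideanDomain.gcd (minpoly K a) (cyclotomic r K) ≠ 0 := by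
    intro h0
    rw [EuclideanDomain.gcd_eq_zero_iff] at h0
    exact hμ0 h0.1
  obtain ⟨f₀, hf₀i, hf₀d⟩ := WfDvdMonoid.exists_irreducible_factor hgu hg0
  have hf₀0 : f₀ ≠ 0 := hf₀i.ne_zero
  have hunit : IsUnit (C f₀.leadingCoeff⁻¹) := by
    rw [Polynomial.isUnit_C, isUnit_iff_ne_zero]
    exact inv_ne_zero (leadingCoeff_ne_zero.2 hf₀0)
  have hassoc : Associated f₀ (f₀ * C f₀.leadingCoeff⁻¹) := associated_mul_unit_right f₀ _ hunit
  have hfμ : f₀ * C f₀.leadingCoeff⁻¹ ∣ minpoly K a :=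
    hassoc.symm.dvd.trans (hf₀d.trans (EuclideanDomain.gcd_dvd_left _ _))
  have hfΦ : f₀ * C f₀.leadingCoeff⁻¹ ∣ cyclotomic r K :=
    hassoc.symm.dvd.trans (hf₀d.trans (EuclideanDomain.gcd_dvd_right _ _))
  have hfi : Irreducible (f₀ * C f₀.leadingCoeff⁻¹) := hassoc.irreducible hf₀i
  refine ⟨f₀ * C f₀.leadingCoeff⁻¹, monic_mul_leadingCoeff_inv hf₀0, hfi, ?_, ?_, ?_⟩
  · rw [← hΦ]
    exact hfΦ.trans (dvd_mul_right _ _)
  · intro heq
    rw [heq] at hfΦ
    have h1 : (X - C (1 : K)) ∣ cyclotomic r K := by rwa [map_one]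
    rw [dvd_iff_isRoot, IsRoot.def, eval_one_cyclotomic_prime] at h1
    exact hrK h1
  · intro hker
    obtain ⟨k, hk⟩ := hfμ
    have hk0 : k ≠ 0 := by
      rintro rfl
      rw [mul_zero] at hk
      exact hμ0 hk
    have hkill : aeval a k = 0 := by
      apply LinearMap.ext
      intro v
      have h1 : aeval a k v ∈ LinearMap.ker (aeval a (f₀ * C f₀.leadingCoeff⁻¹)) := by
        rw [LinearMap.mem_ker, ← Module.End.mul_apply, ← map_mul, ← hk, minpoly.aeval,
          LinearMap.zero_apply]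
      rw [hker, Submodule.mem_bot] at h1
      rw [h1, LinearMap.zero_apply]
    have hdvd : minpoly K a ∣ k := minpoly.dvd K a hkill
    rw [hk] at hdvd
    have h1 := natDegree_le_of_dvd hdvd hk0
    rw [natDegree_mul hfi.ne_zero hk0] at h1
    have h2 := hfi.natDegree_pos
    omega

variable [Fintype K] [FiniteDimensional K V]

omit [Fintype K] [FiniteDimensional K V] in
/-- the kernel of a non-self-dual irreducible factor is totally isotropic -/
theorem iso_ker (hσne : ∃ θ, σ θ ≠ θ) (r : ℕ) (h : UData B a r) (w : K[X]) (hwm : w.Monic)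
    (hwi : Irreducible w) (hwd : w ∣ X ^ r - 1) (hns : udual σ w ≠ w) :
    UIsoOn B (LinearMap.ker (aeval a w)) := by
  have hself : ∀ u ∈ LinearMap.ker (aeval a w), B u u = 0 := by
    intro u hu
    by_contra hne
    rw [LinearMap.mem_ker] at hu
    have h1 := dvd_pstar_of_moment h u w hwi hu 1 (by
      rw [map_one, Module.End.one_apply]; exact hne)
    exact hns ((dvd_pstar_iff_udual_eq σ h.invol r h.pos w hwm hwi hwd).1 h1)
  have hsum : ∀ x ∈ LinearMap.ker (aeval a w), ∀ y ∈ LinearMap.ker (aeval a w),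
      B x y + σ (B x y) = 0 := by
    intro x hx y hy
    have h2 := hself (x + y) (Submodule.add_mem _ hx hy)
    simp only [map_add, LinearMap.add_apply] at h2
    rw [hself x hx, hself y hy, zero_add, add_zero, h.herm x y] at h2
    rw [add_comm]
    exact h2
  intro x hx y hy
  obtain ⟨t, ht⟩ := hσne
  have h1 := hsum x hx y hy
  have h2 := hsum (t • x) (Submodule.smul_mem _ t hx) y hy
  rw [map_smul, LinearMap.smul_apply, smul_eq_mul, map_mul] at h2
  have h3 : σ (B x y) = - B x y := by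
    rw [eq_neg_iff_add_eq_zero, add_comm]
    exact h1
  rw [h3] at h2
  have h4 : (t - σ t) * B x y = 0 := by
    linear_combination h2
  rcases mul_eq_zero.1 h4 with h5 | h5
  · exact absurd (sub_eq_zero.1 h5).symm ht
  · exact h5

omit [Fintype K] [FiniteDimensional K V] in
/-- the range of the dual factor is orthogonal to the kernel -/
theorem range_orth_ker (r : ℕ) (h : UData B a r) (w : K[X]) (hwi : Irreducible w)
    (hwd : w ∣ X ^ r - 1) (x y : V) (hy : y ∈ LinearMap.ker (aeval a w)) :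
    B (aeval a (udual σ w) x) y = 0 := by
  rw [adjS h]
  obtain ⟨k, hk⟩ := dvd_pstar_udual σ h.invol r h.pos w hwi hwd
  rw [LinearMap.mem_ker] at hy
  rw [hk, mul_comm, map_mul, Module.End.mul_apply, hy, map_zero, map_zero]

/-- the dimension of a nonzero totally isotropic primary component -/
theorem finrank_ker {q m : ℕ} (hK : Fintype.card K = q ^ 2) (hV : finrank K V = m + m)
    (hB : UND B) (r : ℕ) (hr : r.Prime) (h : UData B a r)
    (hord : orderOf ((q ^ 2 : ℕ) : ZMod r) = m)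
    (w : K[X]) (hwm : w.Monic) (hwi : Irreducible w) (hw1 : w ≠ X - 1)
    (hiso : UIsoOn B (LinearMap.ker (aeval a w))) (hne : LinearMap.ker (aeval a w) ≠ ⊥) :
    finrank K ↥(LinearMap.ker (aeval a w)) = m := by
  have hinvt : ∀ v ∈ LinearMap.ker (aeval a w), a v ∈ LinearMap.ker (aeval a w) :=
    fun v hv => ker_aeval_invariant a a rfl w v hv
  have hfix : LinearMap.ker (aeval a w) ⊓ fixSpace a = ⊥ := by
    rw [eq_bot_iff]
    rintro v ⟨hv1, hv2⟩
    rw [SetLike.mem_coe, LinearMap.mem_ker] at hv1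
    rw [SetLike.mem_coe, mem_fixSpace] at hv2
    rw [Cfsg.Agent.Lib.Helper99_SpAtoms.aeval_apply_of_fix a hv2] at hv1
    rw [Submodule.mem_bot]
    exact (smul_eq_zero.1 hv1).resolve_left (eval_one_ne_zero w hwm hwi hw1)
  have h1 := pow_finrank_modEq a hr h.pow _ hinvt
  rw [hfix, finrank_bot, pow_zero, hK] at h1
  have h2 : ((q ^ 2 : ℕ) : ZMod r) ^ finrank K ↥(LinearMap.ker (aeval a w)) = 1 := by
    have := (ZMod.natCast_eq_natCast_iff _ _ _).2 h1
    simpa using this
  have h3 : m ∣ finrank K ↥(LinearMap.ker (aeval a w)) := by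
    rw [← hord]
    exact orderOf_dvd_of_pow_eq_one h2
  have h4 : 0 < finrank K ↥(LinearMap.ker (aeval a w)) := by
    rw [Nat.pos_iff_ne_zero, Ne, Submodule.finrank_eq_zero]
    exact hne
  have h5 := Nat.le_of_dvd h4 h3
  have h6 : LinearMap.ker (aeval a w) ≤ orth B (LinearMap.ker (aeval a w)) := by
    intro y hy
    rw [mem_orth]
    intro x hx
    exact hiso x hx y hy
  have h7 := Submodule.finrank_mono h6
  have h8 := finrank_orth h hB (LinearMap.ker (aeval a w))
  omega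

/-- the abstract decomposition -/
theorem dec_abstract {q m : ℕ} (hK : Fintype.card K = q ^ 2) (hσq : ∀ x, σ x = x ^ q)
    (hσne : ∃ θ, σ θ ≠ θ) (hV : finrank K V = m + m) (hB : UND B)
    (r : ℕ) (hr : r.Prime) (hr2 : r ≠ 2) (hrK : (r : K) ≠ 0) (h : UData B a r)
    (hord : orderOf ((q ^ 2 : ℕ) : ZMod r) = m)
    (hmod4 : orderOf ((q : ℕ) : ZMod r) % 4 ≠ 2) (ha1 : a ≠ 1) :
    ∃ D₀ D₁ : Submodule K V, IsCompl D₀ D₁ ∧ finrank K D₀ = m ∧ finrank K D₁ = m ∧
      UIsoOn B D₀ ∧ UIsoOn B D₁ ∧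
      ∀ c : Module.End K V, c * a = a * c → (∀ v ∈ D₀, c v ∈ D₀) ∧ (∀ v ∈ D₁, c v ∈ D₁) := by
  obtain ⟨p, hp⟩ := CharP.exists K
  have hpp : Fact p.Prime := ⟨CharP.char_is_prime K p⟩
  have hinv : ∀ c, σ (σ c) = c := h.invol
  obtain ⟨f, hfm, hfi, hfd, hf1, hfne⟩ := exists_factor (a := a) r hr hrK h.pow ha1
  have hf0 : f.coeff 0 ≠ 0 := coeff_zero_ne_zero_of_dvd r hr.pos f hfd
  have hnsd : ∀ w : K[X], w.Monic → Irreducible w → w ≠ X - 1 → w ∣ X ^ r - 1 →
      udual σ w ≠ w := by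
    intro w hwm hwi hw1 hwd hd
    exact hmod4 (mod4_of_udual_eq σ p hK hσq hσne r _ hr hr2 rfl w hwm hwi hw1 hwd hd)
  -- the dual factor
  have hgm : (udual σ f).Monic := udual_monic σ f hf0
  have hgi : Irreducible (udual σ f) := udual_irreducible σ hinv f hfi hf0
  have hgd : udual σ f ∣ X ^ r - 1 := by
    have := udual_dvd σ hfd
    rwa [udual_X_pow_sub_one σ r hr.pos] at this
  have hgg : udual σ (udual σ f) = f := udual_udual σ hinv f hfm hf0
  have hg1 : udual σ f ≠ X - 1 := by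
    intro heq
    apply hf1
    rw [← hgg, heq, udual_X_sub_one]
  have hfg : udual σ f ≠ f := hnsd f hfm hfi hf1 hfd
  have hgf : udual σ (udual σ f) ≠ udual σ f := by
    rw [hgg]
    exact fun h => hfg h.symm
  have hiso0 := iso_ker hσne r h f hfm hfi hfd hfg
  have hiso1 := iso_ker hσne r h (udual σ f) hgm hgi hgd hgf
  -- the dual kernel is nonzero
  have hgne : LinearMap.ker (aeval a (udual σ f)) ≠ ⊥ := by
    intro hker
    have hinj : Function.Injective (aeval a (udual σ f)) := LinearMap.ker_eq_bot.1 hker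
    have hsurj : Function.Surjective (aeval a (udual σ f)) :=
      LinearMap.injective_iff_surjective.1 hinj
    apply hfne
    rw [eq_bot_iff]
    intro v hv
    rw [Submodule.mem_bot]
    apply hB v
    intro y
    obtain ⟨x, rfl⟩ := hsurj y
    exact h.eq_zero (range_orth_ker r h f hfi hfd x v hv)
  have hdim0 := finrank_ker hK hV hB r hr h hord f hfm hfi hf1 hiso0 hfne
  have hdim1 := finrank_ker hK hV hB r hr h hord (udual σ f) hgm hgi hg1 hiso1 hgne
  have hcop : IsCoprime f (udual σ f) := by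
    rw [hfi.coprime_iff_not_dvd]
    intro hdvd
    apply hfg
    exact (eq_of_monic_of_associated hfm hgm (hfi.associated_of_dvd hgi hdvd)).symm
  have hdisj : Disjoint (LinearMap.ker (aeval a f)) (LinearMap.ker (aeval a (udual σ f))) :=
    disjoint_ker_aeval_of_isCoprime a hcop
  refine ⟨LinearMap.ker (aeval a f), LinearMap.ker (aeval a (udual σ f)), ⟨hdisj, ?_⟩, hdim0,
    hdim1, hiso0, hiso1, ?_⟩
  · rw [codisjoint_iff]
    apply Submodule.eq_top_of_finrank_eq
    have h1 := Submodule.finrank_sup_add_finrank_inf_eq (LinearMap.ker (aeval a f))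
      (LinearMap.ker (aeval a (udual σ f)))
    rw [hdisj.eq_bot, finrank_bot] at h1
    omega
  · intro c hc
    exact ⟨fun v hv => ker_aeval_invariant a c hc f v hv,
      fun v hv => ker_aeval_invariant a c hc (udual σ f) v hv⟩

end abstract

open Cfsg.Agent.Lib.Helper94_Herm Cfsg.Agent.Lib.Helper94_HermBridge
  Cfsg.Agent.Lib.Helper40_UMatrix

/-- **S2496-DEC** -/
theorem DEC {F : Type*} [Field F] [Fintype F] {q : ℕ} (hF : Fintype.card F = q ^ 2) {m : ℕ}
    (hm : 0 < m) (r : ℕ) (hr : r.Prime) (hr2 : r ≠ 2) (hrq : ¬ r ∣ q)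
    (hord : orderOf ((q ^ 2 : ℕ) : ZMod r) = m)
    (hmod4 : orderOf ((q : ℕ) : ZMod r) % 4 ≠ 2)
    (Y : Matrix (Fin (m + m)) (Fin (m + m)) F)
    (hU : ∀ u v, Cfsg.hermForm (m + m) F q (Y *ᵥ u) (Y *ᵥ v) = Cfsg.hermForm (m + m) F q u v)
    (hYr : Y ^ r = 1) (hY1 : Y ≠ 1) :
    ∃ D₀ D₁ : Submodule F (Fin (m + m) → F),
      IsCompl D₀ D₁ ∧ Module.finrank F D₀ = m ∧ Module.finrank F D₁ = m ∧
      (∀ u ∈ D₀, ∀ v ∈ D₀, Cfsg.hermForm (m + m) F q u v = 0) ∧
      (∀ u ∈ D₁, ∀ v ∈ D₁, Cfsg.hermForm (m + m) F q u v = 0) ∧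
      (∀ A : Matrix (Fin (m + m)) (Fin (m + m)) F, A * Y = Y * A →
        (∀ v ∈ D₀, A *ᵥ v ∈ D₀) ∧ (∀ v ∈ D₁, A *ᵥ v ∈ D₁)) := by
  classical
  have _hm := hm
  obtain ⟨σ, hσq, hσ⟩ := exists_frob hF
  have hd := uData_of_mem σ hσq hσ Y hU r hr.pos hYr
  have hrK : (r : F) ≠ 0 := by
    intro h0
    obtain ⟨p, hp⟩ := CharP.exists F
    have hpp : p.Prime := CharP.char_is_prime F p
    rw [CharP.cast_eq_zero_iff F p] at h0
    have hpr : p = r := (Nat.prime_dvd_prime_iff_eq hpp hr).1 h0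
    have hq0 : ((q ^ 2 : ℕ) : F) = 0 := by
      rw [← hF]
      exact Nat.cast_card_eq_zero F
    rw [CharP.cast_eq_zero_iff F p, hpr] at hq0
    exact hrq (hr.dvd_of_dvd_pow hq0)
  have ha1 : Matrix.toLin' Y ≠ 1 := by
    intro h1
    apply hY1
    apply Matrix.toLin'.injective
    rw [h1, Matrix.toLin'_one]
    rfl
  have hV : finrank F (Fin (m + m) → F) = m + m := Module.finrank_fin_fun F
  obtain ⟨D₀, D₁, hc, h0, h1, hi0, hi1, hcomm⟩ :=
    dec_abstract hF hσq hσ.ne_id hV (und_hermB σ hσq) r hr hr2 hrK hd hord hmod4 ha1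
  refine ⟨D₀, D₁, hc, h0, h1, ?_, ?_, ?_⟩
  · intro u hu v hv
    exact hi0 u hu v hv
  · intro u hu v hv
    exact hi1 u hu v hv
  · intro A hA
    have hA' : Matrix.toLin' A * Matrix.toLin' Y = Matrix.toLin' Y * Matrix.toLin' A := by
      rw [Module.End.mul_eq_comp, Module.End.mul_eq_comp, ← Matrix.toLin'_mul,
        ← Matrix.toLin'_mul, hA]
    obtain ⟨h2, h3⟩ := hcomm (Matrix.toLin' A) hA'
    refine ⟨fun v hv => ?_, fun v hv => ?_⟩
    · have := h2 v hv
      rwa [Matrix.toLin'_apply] at this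
    · have := h3 v hv
      rwa [Matrix.toLin'_apply] at this

end Cfsg.Agent.Lib.Helper47_S2496_DEC
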