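import Mathlib
import Cfsg.Agent.Lib.Helper76_S2647Defs

/-!
# S2647 package GENE (architect helper76): the even-permutation conjugates of a sign change of weight
`2`, `4` or `6` generate `Ed`.
-/

set_option autoImplicit false

open Matrix Cfsg.Agent.Lib.Helper76_S2647Defs

namespace Cfsg.Agent.Lib.Helper47_S2647_GENE

variable {F : Type*} [Field F]

/-- the sign vectors whose sign change lies in `T` -/
def W (T : Subgroup ↥(O7 F)) : Subgroup (Fin 7 → ℤˣ) where
  carrier := {ε | monO F ε 1 ∈ T}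
  mul_mem' := by
    intro a b ha hb
    have h1 := T.mul_mem hb ha
    rw [monO_mul] at h1
    have h2 : (fun j => a j * b ((1 : Equiv.Perm (Fin 7)) j)) = a * b := by
      funext j; simp
    rw [h2, mul_one] at h1
    exact h1
  one_mem' := by
    show monO F 1 1 ∈ T
    rw [monO_one]; exact T.one_mem
  inv_mem' := by
    intro a ha
    have h1 : a⁻¹ = a := by funext j; simp [Int.units_inv_eq_self]
    rw [h1]; exact ha

theorem mem_W (T : Subgroup ↥(O7 F)) (ε : Fin 7 → ℤˣ) : ε ∈ W T ↔ monO F ε 1 ∈ T := Iff.rfl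

/-- the sign vector with `-1` exactly at `a` and `b` -/
def flip2 (a b : Fin 7) : Fin 7 → ℤˣ := fun k => if k = a ∨ k = b then -1 else 1

theorem exists_two_other : ∀ i j : Fin 7, ∃ c d : Fin 7, c ≠ d ∧ c ≠ i ∧ c ≠ j ∧ d ≠ i ∧ d ≠ j := by
  decide

/-- the alternating group of degree `7` is `2`-transitive -/
theorem exists_even (i j a b : Fin 7) (hij : i ≠ j) (hab : a ≠ b) :
    ∃ σ : Equiv.Perm (Fin 7), Equiv.Perm.sign σ = 1 ∧ σ i = a ∧ σ j = b := by
  obtain ⟨j', hj'⟩ : ∃ j', j' = Equiv.swap i a j := ⟨_, rfl⟩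
  have hj'a : j' ≠ a := by
    intro h
    have h1 := congrArg (Equiv.swap i a) h
    rw [hj', Equiv.swap_apply_self, Equiv.swap_apply_right] at h1
    exact hij h1.symm
  obtain ⟨τ, hτ⟩ : ∃ τ : Equiv.Perm (Fin 7), τ = Equiv.swap j' b * Equiv.swap i a := ⟨_, rfl⟩
  have hτi : τ i = a := by
    rw [hτ, Equiv.Perm.mul_apply, Equiv.swap_apply_left,
      Equiv.swap_apply_of_ne_of_ne hj'a.symm hab]
  have hτj : τ j = b := by
    rw [hτ, Equiv.Perm.mul_apply, ← hj', Equiv.swap_apply_left]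
  rcases Int.units_eq_one_or (Equiv.Perm.sign τ) with h | h
  · exact ⟨τ, h, hτi, hτj⟩
  · obtain ⟨c, d, hcd, hci, hcj, hdi, hdj⟩ := exists_two_other i j
    refine ⟨τ * Equiv.swap c d, ?_, ?_, ?_⟩
    · rw [map_mul, h, Equiv.Perm.sign_swap hcd]; rfl
    · rw [Equiv.Perm.mul_apply, Equiv.swap_apply_of_ne_of_ne hci.symm hdi.symm, hτi]
    · rw [Equiv.Perm.mul_apply, Equiv.swap_apply_of_ne_of_ne hcj.symm hdj.symm, hτj]

theorem flip2_comp (a b i j : Fin 7) (σ : Equiv.Perm (Fin 7)) (hi : σ i = a) (hj : σ j = b) :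
    (fun k => flip2 a b (σ k)) = flip2 i j := by
  funext k
  unfold flip2
  have h1 : σ k = a ↔ k = i := by rw [← hi]; exact σ.injective.eq_iff
  have h2 : σ k = b ↔ k = j := by rw [← hj]; exact σ.injective.eq_iff
  simp only [h1, h2]

theorem ite_neg_one (u : ℤˣ) : (if u = -1 then (-1 : ℤˣ) else 1) = u := by
  rcases Int.units_eq_one_or u with h | h <;> rw [h] <;> decide

/-- the sign vectors of product `1` are generated by the `flip2 j 6` -/
theorem mem_of_prod_one (W : Subgroup (Fin 7 → ℤˣ)) (hW : ∀ j : Fin 7, j ≠ 6 → flip2 j 6 ∈ W)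
    (ε : Fin 7 → ℤˣ) (hε : ∏ j, ε j = 1) : ε ∈ W := by
  have key : ε = ∏ j : Fin 7, (if j ≠ 6 ∧ ε j = -1 then flip2 j 6 else 1) := by
    funext k
    rw [Finset.prod_apply]
    by_cases hk : k = 6
    · subst hk
      have h1 : ∀ j : Fin 7, (if j ≠ 6 ∧ ε j = -1 then flip2 j 6 else 1) 6
          = if j ≠ 6 then ε j else 1 := by
        intro j
        by_cases hj : j = 6
        · simp [hj]
        · by_cases he : ε j = -1
          · simp [hj, he, flip2]
          · have he1 : ε j = 1 := (Int.units_eq_one_or (ε j)).resolve_right he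
            simp [hj, he1]
      simp only [h1]
      have h6 : ε 6 * ε 6 = 1 := by
        rcases Int.units_eq_one_or (ε 6) with h | h <;> rw [h] <;> rfl
      rw [Fin.prod_univ_seven] at hε ⊢
      have e0 : (0 : Fin 7) ≠ 6 := by decide
      have e1 : (1 : Fin 7) ≠ 6 := by decide
      have e2 : (2 : Fin 7) ≠ 6 := by decide
      have e3 : (3 : Fin 7) ≠ 6 := by decide
      have e4 : (4 : Fin 7) ≠ 6 := by decide
      have e5 : (5 : Fin 7) ≠ 6 := by decide
      rw [if_pos e0, if_pos e1, if_pos e2, if_pos e3, if_pos e4, if_pos e5, if_neg (by simp), mul_one]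
      calc ε 6 = (ε 0 * ε 1 * ε 2 * ε 3 * ε 4 * ε 5 * ε 6) * ε 6 := by rw [hε, one_mul]
        _ = ε 0 * ε 1 * ε 2 * ε 3 * ε 4 * ε 5 * (ε 6 * ε 6) := by rw [mul_assoc]
        _ = ε 0 * ε 1 * ε 2 * ε 3 * ε 4 * ε 5 := by rw [h6, mul_one]
    · rw [Finset.prod_eq_single k]
      · have h1 : flip2 k 6 k = -1 := by simp [flip2]
        by_cases he : ε k = -1
        · rw [if_pos ⟨hk, he⟩, h1, he]
        · have he1 : ε k = 1 := (Int.units_eq_one_or (ε k)).resolve_right he
          rw [if_neg (fun h => he h.2), he1]; rfl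
      · intro j _ hjk
        split_ifs with h
        · have : ¬ (k = j ∨ k = 6) := by
            rintro (h' | h')
            · exact hjk h'.symm
            · exact hk h'
          simp [flip2, this]
        · rfl
      · intro h; exact absurd (Finset.mem_univ k) h
  rw [key]
  apply Subgroup.prod_mem
  intro j _
  split_ifs with h
  · exact hW j h.1
  · exact W.one_mem

theorem gene (T : Subgroup ↥(O7 F)) (ζ : Fin 7 → ℤˣ)
    (hζ : ζ = ![-1, -1, -1, -1, 1, 1, 1] ∨ ζ = ![1, 1, 1, 1, -1, -1, 1] ∨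
      ζ = ![-1, -1, -1, -1, -1, -1, 1])
    (hζT : monO F ζ 1 ∈ T)
    (hconj : ∀ ε : Fin 7 → ℤˣ, monO F ε 1 ∈ T → ∀ σ : Equiv.Perm (Fin 7), Equiv.Perm.sign σ = 1 →
      monO F (fun j => ε (σ j)) 1 ∈ T) :
    Ed F ≤ T := by
  have hconjW : ∀ ε ∈ W T, ∀ σ : Equiv.Perm (Fin 7), Equiv.Perm.sign σ = 1 →
      (fun j => ε (σ j)) ∈ W T := hconj
  have hζW : ζ ∈ W T := hζT
  obtain ⟨a, b, hab, hWab⟩ : ∃ a b : Fin 7, a ≠ b ∧ flip2 a b ∈ W T := by
    rcases hζ with h | h | h
    · refine ⟨3, 4, by decide, ?_⟩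
      have h2 := hconjW ζ hζW (Equiv.swap (3 : Fin 7) 4 * Equiv.swap 5 6) (by
        rw [map_mul, Equiv.Perm.sign_swap (by decide), Equiv.Perm.sign_swap (by decide)]; rfl)
      have h3 := (W T).mul_mem hζW h2
      have h4 : ζ * (fun j => ζ ((Equiv.swap (3 : Fin 7) 4 * Equiv.swap 5 6 : Equiv.Perm (Fin 7)) j)) = flip2 3 4 := by
        subst h; funext j; fin_cases j <;> rfl
      rwa [h4] at h3
    · refine ⟨4, 5, by decide, ?_⟩
      have h4 : ζ = flip2 4 5 := by subst h; funext j; fin_cases j <;> rfl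
      rw [← h4]; exact hζW
    · refine ⟨5, 6, by decide, ?_⟩
      have h2 := hconjW ζ hζW (Equiv.swap (5 : Fin 7) 6 * Equiv.swap 0 1) (by
        rw [map_mul, Equiv.Perm.sign_swap (by decide), Equiv.Perm.sign_swap (by decide)]; rfl)
      have h3 := (W T).mul_mem hζW h2
      have h4 : ζ * (fun j => ζ ((Equiv.swap (5 : Fin 7) 6 * Equiv.swap 0 1 : Equiv.Perm (Fin 7)) j)) = flip2 5 6 := by
        subst h; funext j; fin_cases j <;> rfl
      rwa [h4] at h3
  have hall : ∀ i j : Fin 7, i ≠ j → flip2 i j ∈ W T := by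
    intro i j hij
    obtain ⟨σ, hσ, hi, hj⟩ := exists_even i j a b hij hab
    have h1 := hconjW _ hWab σ hσ
    rwa [flip2_comp a b i j σ hi hj] at h1
  rintro k ⟨ε, hε, rfl⟩
  exact mem_of_prod_one (W T) (fun j hj => hall j 6 hj) ε hε

end Cfsg.Agent.Lib.Helper47_S2647_GENE
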