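import Mathlib
import Cfsg.Agent.Lib.Helper76_S2647Defs

/-!
# S2647 package SCLD (architect helper76): from `Ed` and the permutation matrix of `(0 1)(2 3)` to all of `Sy`.
-/

set_option autoImplicit false

open Matrix Cfsg.Agent.Lib.Helper76_S2647Defs

namespace Cfsg.Agent.Lib.Helper47_S2647_SCLD

variable {F : Type*} [Field F]

theorem monO_one_mul (π π' : Equiv.Perm (Fin 7)) :
    monO F 1 π * monO F 1 π' = monO F 1 (π * π') := by
  rw [monO_mul]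
  congr 1

/-- an even permutation conjugating `(0 1)(2 3)` to `s2 = (0 2)(4 5)` -/
def sig : Equiv.Perm (Fin 7) :=
  Equiv.swap (0 : Fin 7) 1 * Equiv.swap 0 2 * Equiv.swap 2 4 * Equiv.swap 3 5

theorem sig_sign : Equiv.Perm.sign sig = 1 := by
  unfold sig
  simp only [map_mul]
  rw [Equiv.Perm.sign_swap (by decide), Equiv.Perm.sign_swap (by decide),
    Equiv.Perm.sign_swap (by decide), Equiv.Perm.sign_swap (by decide)]
  rfl

theorem sig_conj : sig * (Equiv.swap (0 : Fin 7) 1 * Equiv.swap 2 3) * sig⁻¹ = s2 := by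
  apply Equiv.ext
  intro x
  fin_cases x <;> rfl

theorem s2_mul : s2 * (Equiv.swap (0 : Fin 7) 1 * Equiv.swap 2 3) = r4 := by
  apply Equiv.ext
  intro x
  fin_cases x <;> rfl

theorem scld
    (hmem : ∀ π : Equiv.Perm (Fin 7), π ∈ D8 ↔ π = 1 ∨ π = r4 ∨ π = r4 * r4 ∨ π = r4 * r4 * r4 ∨
      π = s2 ∨ π = r4 * s2 ∨ π = r4 * r4 * s2 ∨ π = r4 * r4 * r4 * s2)
    (hsplit : ∀ (ε : Fin 7 → ℤˣ) (π : Equiv.Perm (Fin 7)), monO F ε π = monO F 1 π * monO F ε 1)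
    (T : Subgroup ↥(O7 F)) (hE : Ed F ≤ T)
    (ht : monO F 1 (Equiv.swap (0 : Fin 7) 1 * Equiv.swap 2 3) ∈ T)
    (hconj : ∀ π : Equiv.Perm (Fin 7), monO F 1 π ∈ T → ∀ σ : Equiv.Perm (Fin 7),
      Equiv.Perm.sign σ = 1 → σ * π * σ⁻¹ ∈ D8 → monO F 1 (σ * π * σ⁻¹) ∈ T) :
    Sy F ≤ T := by
  have hs2D : s2 ∈ D8 := (hmem s2).mpr (by tauto)
  have hs2 : monO F 1 s2 ∈ T := by
    have h1 := hconj _ ht sig sig_sign (by rw [sig_conj]; exact hs2D)
    rwa [sig_conj] at h1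
  have hr4 : monO F 1 r4 ∈ T := by
    rw [← s2_mul, ← monO_one_mul]; exact T.mul_mem hs2 ht
  have hall : ∀ π ∈ D8, monO F 1 π ∈ T := by
    intro π hπ
    rcases (hmem π).mp hπ with h | h | h | h | h | h | h | h <;> subst h
    · rw [monO_one]; exact T.one_mem
    · exact hr4
    · rw [← monO_one_mul]; exact T.mul_mem hr4 hr4
    · rw [← monO_one_mul, ← monO_one_mul]; exact T.mul_mem (T.mul_mem hr4 hr4) hr4
    · exact hs2
    · rw [← monO_one_mul]; exact T.mul_mem hr4 hs2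
    · rw [← monO_one_mul, ← monO_one_mul]; exact T.mul_mem (T.mul_mem hr4 hr4) hs2
    · rw [← monO_one_mul, ← monO_one_mul, ← monO_one_mul]
      exact T.mul_mem (T.mul_mem (T.mul_mem hr4 hr4) hr4) hs2
  rintro k ⟨ε, π, hε, hπ, rfl⟩
  rw [hsplit]
  exact T.mul_mem (hall π hπ) (hE ⟨ε, hε, rfl⟩)

end Cfsg.Agent.Lib.Helper47_S2647_SCLD
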