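import Mathlib
import Cfsg.Agent.Lib.Helper56_S3366Defs

/-!
# S3366 package FAITH (helper47, for helper56): `X/Q` acts faithfully on `Q/Z`.
-/

set_option autoImplicit false
open Cfsg.Agent.Lib.Helper56_S3366Defs
open scoped commutatorElement

namespace Cfsg.Agent.Lib.Helper47_S3366_FAITH

theorem negOne_sq : (-1 : SL2) ^ 2 = 1 := by decide

theorem negOne_ne : (-1 : SL2) ≠ 1 := by decide

theorem negOne_comm (g : SL2) : g * (-1) = (-1) * g := by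
  rw [mul_neg, neg_mul, mul_one, one_mul]

theorem negOne_pow27 : (-1 : SL2) ^ 27 = -1 := by
  have h : (-1 : SL2) ^ 27 = ((-1 : SL2) ^ 2) ^ 13 * (-1) := by
    rw [← pow_mul, ← pow_succ]
  rw [h, negOne_sq, one_pow, one_mul]

variable {X : Type*} [Group X]

/-- The kernel of the action on `Q/Z`. -/
def KK (Q Z : Subgroup X) (hQ : Q.Normal) (hcz : ∀ x : X, ∀ ξ ∈ Z, x * ξ * x⁻¹ = ξ) :
    Subgroup X where
  carrier := {x | ∀ q ∈ Q, ⁅x, q⁆ ∈ Z}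
  one_mem' := by
    intro q _
    rw [commutatorElement_def]
    simp
  mul_mem' := by
    intro x y hx hy q hq
    have e : ⁅x * y, q⁆ = (x * ⁅y, q⁆ * x⁻¹) * ⁅x, q⁆ := by
      simp only [commutatorElement_def]; group
    rw [e, hcz x _ (hy q hq)]
    exact Z.mul_mem (hy q hq) (hx q hq)
  inv_mem' := by
    intro x hx q hq
    have hq' : x⁻¹ * q * x ∈ Q := by
      have := hQ.conj_mem q hq x⁻¹
      rwa [inv_inv] at this
    have e : ⁅x⁻¹, q⁆ = (⁅x, x⁻¹ * q * x⁆)⁻¹ := by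
      simp only [commutatorElement_def]; group
    rw [e]
    exact Z.inv_mem (hx _ hq')

theorem mem_KK {Q Z : Subgroup X} {hQ : Q.Normal} {hcz : ∀ x : X, ∀ ξ ∈ Z, x * ξ * x⁻¹ = ξ}
    {x : X} : x ∈ KK Q Z hQ hcz ↔ ∀ q ∈ Q, ⁅x, q⁆ ∈ Z := Iff.rfl

theorem conj_mem_KK {Q Z : Subgroup X} {hQ : Q.Normal} {hcz : ∀ x : X, ∀ ξ ∈ Z, x * ξ * x⁻¹ = ξ}
    {x : X} (hx : x ∈ KK Q Z hQ hcz) (t : X) : t * x * t⁻¹ ∈ KK Q Z hQ hcz := by
  intro q hq
  have hq' : t⁻¹ * q * t ∈ Q := by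
    have := hQ.conj_mem q hq t⁻¹
    rwa [inv_inv] at this
  have e : ⁅t * x * t⁻¹, q⁆ = t * ⁅x, t⁻¹ * q * t⁆ * t⁻¹ := by
    simp only [commutatorElement_def]; group
  rw [e, hcz t _ (hx _ hq')]
  exact hx _ hq'

theorem faithful {Q Z : Subgroup X} {ψ : X →* SL2} (hS : Setting Q Z ψ)
    (hcz : ∀ x : X, ∀ ξ ∈ Z, x * ξ * x⁻¹ = ξ)
    (hn : ∀ g : SL2, g ≠ 1 →
      g = -1 ∨ g ^ 2 = -1 ∨ g ^ 3 = -1 ∨ ∃ h : SL2, (g * (h * g * h⁻¹)) ^ 3 = -1)
    (x : X) (hx : ∀ q ∈ Q, ⁅x, q⁆ ∈ Z) : x ∈ Q := by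
  by_contra hxQ
  have hQn : Q.Normal := hS.Qnormal
  have hxK : x ∈ KK Q Z hQn hcz := hx
  have hker : ∀ y : X, ψ y = 1 → y ∈ Q := by
    intro y hy
    rw [← hS.ψker]; exact MonoidHom.mem_ker.mpr hy
  have hg : ψ x ≠ 1 := fun h => hxQ (hker x h)
  obtain ⟨w, hwK, hψw⟩ : ∃ w, w ∈ KK Q Z hQn hcz ∧ ψ w = -1 := by
    rcases hn (ψ x) hg with h | h | h | ⟨h', h⟩
    · exact ⟨x, hxK, h⟩
    · exact ⟨x ^ 2, Subgroup.pow_mem _ hxK 2, by rw [map_pow, h]⟩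
    · exact ⟨x ^ 3, Subgroup.pow_mem _ hxK 3, by rw [map_pow, h]⟩
    · obtain ⟨t, rfl⟩ := hS.ψsurj h'
      refine ⟨(x * (t * x * t⁻¹)) ^ 3,
        Subgroup.pow_mem _ (Subgroup.mul_mem _ hxK (conj_mem_KK hxK t)) 3, ?_⟩
      rw [map_pow, map_mul, map_mul, map_mul, map_inv]
      exact h
  obtain ⟨z', hz'⟩ : ∃ z' : X, z' = w ^ 27 := ⟨_, rfl⟩
  have hz'K : z' ∈ KK Q Z hQn hcz := by rw [hz']; exact Subgroup.pow_mem _ hwK 27
  have hψz' : ψ z' = -1 := by rw [hz', map_pow, hψw, negOne_pow27]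
  have hw2 : w ^ 2 ∈ Q := hker _ (by rw [map_pow, hψw, negOne_sq])
  have hz'2 : z' ^ 2 = 1 := by
    have h1 : (w ^ 2) ^ 3 = 1 := hS.Qexp _ hw2
    have h2 : z' ^ 2 = ((w ^ 2) ^ 3) ^ 9 := by
      rw [hz', ← pow_mul, ← pow_mul, ← pow_mul]
    rw [h2, h1, one_pow]
  have hz'inv : z'⁻¹ = z' := by
    rw [inv_eq_iff_mul_eq_one, ← pow_two]; exact hz'2
  -- `z'` centralises `Q`
  have hcQ : ∀ q ∈ Q, z' * q * z'⁻¹ = q := by
    intro q hq
    have hξ : ⁅z', q⁆ ∈ Z := hz'K q hq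
    obtain ⟨ξ, hξdef⟩ : ∃ ξ : X, ξ = ⁅z', q⁆ := ⟨_, rfl⟩
    rw [← hξdef] at hξ
    have e1 : z' * q * z'⁻¹ = ξ * q := by
      rw [hξdef, commutatorElement_def]; group
    have e2 : z' * (z' * q * z'⁻¹) * z'⁻¹ = q := by
      rw [hz'inv]
      have : z' * z' = 1 := by rw [← pow_two]; exact hz'2
      calc z' * (z' * q * z') * z' = (z' * z') * q * (z' * z') := by group
        _ = q := by rw [this, one_mul, mul_one]
    have e3 : z' * (ξ * q) * z'⁻¹ = ξ * (ξ * q) := by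
      calc z' * (ξ * q) * z'⁻¹ = (z' * ξ * z'⁻¹) * (z' * q * z'⁻¹) := by group
        _ = ξ * (ξ * q) := by rw [hcz z' ξ hξ, e1]
    rw [e1, e3] at e2
    have e4 : ξ * ξ = 1 := by
      have : ξ * ξ * q = 1 * q := by rw [one_mul, mul_assoc]; exact e2
      exact mul_right_cancel this
    have e5 : ξ ^ 3 = 1 := hS.Qexp ξ (hS.ZleQ hξ)
    have e6 : ξ = 1 := by
      have : ξ ^ 3 = ξ * (ξ * ξ) := by rw [pow_succ, pow_two, mul_assoc]
      rw [this, e4, mul_one] at e5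
      exact e5
    rw [e1, e6, one_mul]
  -- `z'` is central
  have hcent : ∀ y : X, y * z' = z' * y := by
    intro y
    obtain ⟨r, hr⟩ : ∃ r : X, r = z'⁻¹ * (y * z' * y⁻¹) := ⟨_, rfl⟩
    have hrQ : r ∈ Q := by
      apply hker
      rw [hr, map_mul, map_mul, map_mul, map_inv, map_inv, hψz', negOne_comm (ψ y)]
      group
    have e3 : y * z' * y⁻¹ = z' * r := by rw [hr]; group
    have e4 : (z' * r) ^ 2 = 1 := by
      rw [← e3, conj_pow, hz'2]; group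
    have e5 : z' * r = r * z' := by
      have := hcQ r hrQ
      rwa [mul_inv_eq_iff_eq_mul] at this
    have e6 : r ^ 2 = 1 := by
      have : (z' * r) ^ 2 = z' ^ 2 * r ^ 2 := by
        rw [pow_two, pow_two, pow_two]
        calc z' * r * (z' * r) = z' * (r * z') * r := by group
          _ = z' * (z' * r) * r := by rw [e5]
          _ = z' * z' * (r * r) := by group
      rw [this, hz'2, one_mul] at e4
      exact e4
    have e7 : r ^ 3 = 1 := hS.Qexp r hrQ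
    have e8 : r = 1 := by
      have : r ^ 3 = r ^ 2 * r := pow_succ r 2
      rw [this, e6, one_mul] at e7
      exact e7
    rw [e8, mul_one] at e3
    calc y * z' = (y * z' * y⁻¹) * y := by group
      _ = z' * y := by rw [e3]
  have hz'1 : z' = 1 := hS.noCentInv z' hz'2 hcent
  rw [hz'1, map_one] at hψz'
  exact negOne_ne hψz'.symm

end Cfsg.Agent.Lib.Helper47_S3366_FAITH
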