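import Mathlib
import Cfsg.Agent.S0182
import Cfsg.Agent.S2202
import Cfsg.Agent.Lib.Helper17_Sylow

/-!
# S4016 package CAFIN (architect helper87)

A nonabelian "simple" CA-group all of whose `p'`-subgroups are abelian (`p` odd) does not exist, modulo
the `SL₂(2^n)` case `hDIH`.  Odd order: S0182 (solvable).  Even order: Suzuki's theorem S2202.
-/

set_option autoImplicit false

namespace Cfsg.Agent.Lib.Helper47_S4016_CAFIN

open Subgroup
open scoped commutatorElement

theorem CAFIN {G : Type*} [Group G] [Finite G] {p : ℕ} (hp : p.Prime) (hp2 : p ≠ 2)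
    (hab : ∀ X : Subgroup G, ¬ p ∣ Nat.card ↥X → ∀ a ∈ X, ∀ b ∈ X, a * b = b * a)
    (hsimple : ∀ M : Subgroup G, M.Normal → M = ⊥ ∨ M = ⊤)
    (hnonab : ∃ a b : G, a * b ≠ b * a)
    (hCA : ∀ x : G, x ≠ 1 → ∀ a ∈ Subgroup.centralizer ({x} : Set G),
      ∀ b ∈ Subgroup.centralizer ({x} : Set G), a * b = b * a)
    (hDIH : ∀ (F : Type) [Field F] [Fintype F] [CharP F 2],
      (∀ X : Subgroup (Matrix.SpecialLinearGroup (Fin 2) F), ¬ p ∣ Nat.card ↥X →
        ∀ a ∈ X, ∀ b ∈ X, a * b = b * a) →
      (∀ N : Subgroup (Matrix.SpecialLinearGroup (Fin 2) F), N.Normal → N = ⊥ ∨ N = ⊤) → False) :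
    False := by
  classical
  obtain ⟨a0, b0, hab0⟩ := hnonab
  have hnt : Nontrivial G := ⟨⟨a0, b0, fun h => hab0 (by rw [h])⟩⟩
  have hS : IsSimpleGroup G :=
    { exists_pair_ne := hnt.exists_pair_ne
      eq_bot_or_eq_top_of_normal := hsimple }
  have hcomm_contra : (∀ a b : G, a * b = b * a) → False := fun h => hab0 (h a0 b0)
  rcases Nat.even_or_odd (Nat.card G) with heven | hodd
  · -- even order
    have h2 : ∀ t : G, orderOf t = 2 →
        IsMulCommutative ↥(Subgroup.centralizer ({t} : Set G)) := by
      intro t ht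
      have ht1 : t ≠ 1 := by
        rintro rfl
        rw [orderOf_one] at ht
        norm_num at ht
      exact ⟨⟨fun a b => Subtype.ext (hCA t ht1 a a.2 b b.2)⟩⟩
    have h2F : Fact (Nat.Prime 2) := ⟨Nat.prime_two⟩
    have h2dvd : 2 ∣ Nat.card G := heven.two_dvd
    have hPne : ∀ P : Sylow 2 G, (P : Subgroup G) ≠ ⊥ := fun P => P.ne_bot_of_dvd_card h2dvd
    obtain ⟨P⟩ : Nonempty (Sylow 2 G) := inferInstance
    rcases Cfsg.Agent.S2202.result heven h2 with h1 | h1 | h1
    · -- cyclic Sylow 2-subgroups
      have hcyc : IsCyclic ↥(P : Subgroup G) := h1 P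
      have hmin : (Nat.card G).minFac = 2 := (Nat.minFac_eq_two_iff _).2 h2dvd
      have hNC := IsCyclic.normalizer_le_centralizer hmin (P := P) hcyc
      rcases Cfsg.Agent.Lib.Helper17_Sylow.sylow_eq_bot_or_top_of_normalizer_le_centralizer P hNC
        with h | h
      · exact hPne P h
      · apply hcomm_contra
        intro a b
        have ha : a ∈ (P : Subgroup G) := by rw [h]; trivial
        have hb : b ∈ (P : Subgroup G) := by rw [h]; trivial
        have := (IsCyclic.commGroup (α := (P : Subgroup G))).mul_comm ⟨a, ha⟩ ⟨b, hb⟩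
        exact congrArg Subtype.val this
    · -- a normal Sylow 2-subgroup
      rcases hsimple P (h1 P) with h | h
      · exact hPne P h
      · have hG2 : IsPGroup 2 G := by
          intro g
          obtain ⟨k, hk⟩ := P.isPGroup' ⟨g, by rw [h]; trivial⟩
          exact ⟨k, by simpa using congrArg Subtype.val hk⟩
        have hcn := hG2.center_nontrivial
        rcases hsimple (Subgroup.center G) inferInstance with hc | hc
        · exact (Subgroup.nontrivial_iff_ne_bot _).1 hcn hc
        · apply hcomm_contra
          intro a b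
          have hb : b ∈ Subgroup.center G := by rw [hc]; trivial
          exact Subgroup.mem_center_iff.1 hb a
    · -- `G ≃* SL₂(F) × A`
      obtain ⟨F, iF, iFin, A, iA, iFA, hchar, hoddA, ⟨e⟩⟩ := h1
      let φ : Matrix.SpecialLinearGroup (Fin 2) F →* G :=
        e.symm.toMonoidHom.comp (MonoidHom.inl _ A)
      have hφ : Function.Injective φ := by
        intro m m' h
        have h1 : e.symm (m, 1) = e.symm (m', 1) := h
        have h2 := e.symm.injective h1
        exact (Prod.mk.inj h2).1
      refine hDIH F ?_ ?_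
      · intro X hX a ha b hb
        have hcard : Nat.card ↥(X.map φ) = Nat.card ↥X :=
          Nat.card_congr (X.equivMapOfInjective φ hφ).symm.toEquiv
        have h1 := hab (X.map φ) (by rw [hcard]; exact hX) (φ a) (Subgroup.mem_map_of_mem φ ha)
          (φ b) (Subgroup.mem_map_of_mem φ hb)
        apply hφ
        rw [map_mul, map_mul, h1]
      · intro N hN
        have hMn : ((N.prod (⊤ : Subgroup A)).comap e.toMonoidHom).Normal :=
          Subgroup.Normal.comap (Subgroup.prod_normal N ⊤) _
        rcases hsimple _ hMn with h | h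
        · left
          rw [Subgroup.eq_bot_iff_forall]
          intro n hn
          have h1 : e.symm (n, 1) ∈ (N.prod (⊤ : Subgroup A)).comap e.toMonoidHom := by
            rw [Subgroup.mem_comap]
            show e (e.symm (n, 1)) ∈ N.prod ⊤
            rw [MulEquiv.apply_symm_apply]
            exact ⟨hn, trivial⟩
          rw [h, Subgroup.mem_bot] at h1
          have h2 : (n, (1 : A)) = e 1 := by rw [← h1, MulEquiv.apply_symm_apply]
          rw [map_one] at h2
          exact (Prod.mk.inj h2).1
        · right
          rw [Subgroup.eq_top_iff']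
          intro n
          have h1 : e.symm (n, 1) ∈ (N.prod (⊤ : Subgroup A)).comap e.toMonoidHom := by
            rw [h]; trivial
          rw [Subgroup.mem_comap] at h1
          have h2 : e (e.symm (n, 1)) ∈ N.prod ⊤ := h1
          rw [MulEquiv.apply_symm_apply] at h2
          exact h2.1
  · -- odd order
    have hsol : Group.IsSolvable G := Cfsg.Agent.S0182.result hodd hCA
    rcases hsimple (commutator G) inferInstance with h | h
    · apply hcomm_contra
      intro a b
      have h1 : ⁅a, b⁆ ∈ commutator G :=
        Subgroup.commutator_mem_commutator (Subgroup.mem_top a) (Subgroup.mem_top b)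
      rw [h, Subgroup.mem_bot] at h1
      exact commutatorElement_eq_one_iff_mul_comm.1 h1
    · exact (Group.IsSolvable.commutator_lt_top_of_nontrivial G).ne h

end Cfsg.Agent.Lib.Helper47_S4016_CAFIN
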