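/-
helper47: package S4839-DIH of helper80's S4839 (Gagola): two involutions generate a dihedral group;
either their product has 2-power order and the group is a 2-group, or an involution `b'` with `a * b'` of odd order `> 1`.
-/
import Mathlib

set_option autoImplicit false

namespace Cfsg.Agent.Lib.Helper47_S4839_DIH

/-- conjugating a power of `a * b` by the involution `a` inverts it -/
theorem conj_zpow {Q : Type*} [Group Q] (a b : Q) (ha : a * a = 1) (hb : b * b = 1) (k : ℤ) :
    a * (a * b) ^ k * a⁻¹ = ((a * b) ^ k)⁻¹ := by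
  have hainv : a⁻¹ = a := inv_eq_of_mul_eq_one_right ha
  have hbinv : b⁻¹ = b := inv_eq_of_mul_eq_one_right hb
  have h1 : a * (a * b) * a⁻¹ = (a * b)⁻¹ := by
    rw [mul_inv_rev, hainv, hbinv, ← mul_assoc, ha, one_mul]
  have h2 : a * (a * b) ^ k * a⁻¹ = (a * (a * b) * a⁻¹) ^ k := by
    exact map_zpow (MulAut.conj a) (a * b) k
  rw [h2, h1, inv_zpow]

theorem dihedral {Q : Type*} [Group Q] [Finite Q] (a b : Q) (ha : a * a = 1) (hb : b * b = 1) :
    (∃ c : ℕ, orderOf (a * b) = 2 ^ c) ∧ IsPGroup 2 ↥(Subgroup.zpowers a ⊔ Subgroup.zpowers b) ∨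
    ∃ b' : Q, b' * b' = 1 ∧ b' ≠ 1 ∧ Odd (orderOf (a * b')) ∧ 1 < orderOf (a * b') := by
  have hainv : a⁻¹ = a := inv_eq_of_mul_eq_one_right ha
  have hpos : orderOf (a * b) ≠ 0 := (orderOf_pos (a * b)).ne'
  obtain ⟨c, m, hm, hcm⟩ := Nat.exists_eq_two_pow_mul_odd hpos
  by_cases hm1 : m = 1
  · left
    rw [hm1, mul_one] at hcm
    refine ⟨⟨c, hcm⟩, ?_⟩
    have hY : IsPGroup 2 ↥(Subgroup.zpowers (a * b)) := by
      apply IsPGroup.of_card (n := c)
      rw [Nat.card_zpowers, hcm]
    have hA : IsPGroup 2 ↥(Subgroup.zpowers a) := by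
      have hd : orderOf a ∣ 2 := orderOf_dvd_of_pow_eq_one (by rw [pow_two, ha])
      have h12 : orderOf a = 1 ∨ orderOf a = 2 := (Nat.dvd_prime Nat.prime_two).1 hd
      rcases h12 with h | h
      · apply IsPGroup.of_card (n := 0)
        rw [Nat.card_zpowers, h, pow_zero]
      · apply IsPGroup.of_card (n := 1)
        rw [Nat.card_zpowers, h, pow_one]
    have hnorm : Subgroup.zpowers a ≤ Subgroup.normalizer (Subgroup.zpowers (a * b) : Set Q) := by
      rw [Subgroup.zpowers_le, Subgroup.mem_normalizer_iff]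
      have hfwd : ∀ h : Q, h ∈ Subgroup.zpowers (a * b) → a * h * a⁻¹ ∈ Subgroup.zpowers (a * b) := by
        intro h hh
        obtain ⟨k, rfl⟩ := Subgroup.mem_zpowers_iff.1 hh
        rw [conj_zpow a b ha hb k]
        exact Subgroup.inv_mem _ (Subgroup.zpow_mem_zpowers _ k)
      intro h
      constructor
      · exact hfwd h
      · intro hh
        have h3 := hfwd _ hh
        have h4 : a * (a * h * a⁻¹) * a⁻¹ = h := by
          rw [hainv]
          calc a * (a * h * a) * a = (a * a) * h * (a * a) := by group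
            _ = h := by rw [ha, one_mul, mul_one]
        rwa [h4] at h3
    have hsup := IsPGroup.to_sup_of_normal_left' hY hA hnorm
    refine hsup.to_le ?_
    rw [sup_le_iff]
    constructor
    · exact le_sup_right
    · rw [Subgroup.zpowers_le]
      have hbe : a * (a * b) = b := by rw [← mul_assoc, ha, one_mul]
      have hmem : a * (a * b) ∈ Subgroup.zpowers (a * b) ⊔ Subgroup.zpowers a :=
        Subgroup.mul_mem _ (Subgroup.mem_sup_right (Subgroup.mem_zpowers a))
          (Subgroup.mem_sup_left (Subgroup.mem_zpowers (a * b)))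
      rwa [hbe] at hmem
  · right
    have hw : orderOf ((a * b) ^ (2 ^ c)) = m := by
      rw [orderOf_pow_of_dvd (by positivity) ⟨m, hcm⟩, hcm]
      exact Nat.mul_div_cancel_left m (by positivity)
    set w := (a * b) ^ (2 ^ c) with hwdef
    have hconj : a * w * a = w⁻¹ := by
      have := conj_zpow a b ha hb ((2 ^ c : ℕ) : ℤ)
      rw [zpow_natCast, hainv] at this
      exact this
    have hm_gt : 1 < m := by
      rcases hm with ⟨j, hj⟩
      omega
    refine ⟨a * w, ?_, ?_, ?_, ?_⟩
    · calc a * w * (a * w) = (a * w * a) * w := by group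
        _ = 1 := by rw [hconj, inv_mul_cancel]
    · intro h1
      have hwa : w = a := by
        have : w = a⁻¹ := eq_inv_of_mul_eq_one_right h1
        rw [this, hainv]
      have hd : orderOf w ∣ 2 := orderOf_dvd_of_pow_eq_one (by rw [pow_two, hwa, ha])
      rw [hw] at hd
      have h12 : m = 1 ∨ m = 2 := (Nat.dvd_prime Nat.prime_two).1 hd
      rcases h12 with h | h
      · exact hm1 h
      · rw [h] at hm
        exact absurd hm (by decide)
    · rw [← mul_assoc, ha, one_mul, hw]
      exact hm
    · rw [← mul_assoc, ha, one_mul, hw]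
      exact hm_gt

end Cfsg.Agent.Lib.Helper47_S4839_DIH
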