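/-
helper47: package S4839-SQ of helper80's S4839 (Gagola): for an elementary abelian normal 2-subgroup `N` with the
Camina property, an element `g ∉ N` with `g² ∈ N` satisfies `|N| < |C_N(g)|²`.
-/
import Mathlib

set_option autoImplicit false

namespace Cfsg.Agent.Lib.Helper47_S4839_SQ

theorem card_centralizer_sq {G : Type*} [Group G] [Finite G] (N : Subgroup G) [N.Normal]
    (hexp : ∀ x ∈ N, x * x = 1)
    (hCN : Subgroup.centralizer (N : Set G) ≤ N)
    (hCam : ∀ g : G, g ∉ N → ∀ n ∈ N, IsConj g (g * n))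
    (g : G) (hgN : g ∉ N) (hg2 : g * g ∈ N) :
    Nat.card N < Nat.card ↥(N ⊓ Subgroup.centralizer ({g} : Set G)) ^ 2 := by
  classical
  have hN : N.Normal := inferInstance
  have hinv : ∀ x ∈ N, x⁻¹ = x := fun x hx => inv_eq_of_mul_eq_one_right (hexp x hx)
  have hcommN : ∀ x ∈ N, ∀ y ∈ N, x * y = y * x := by
    intro x hx y hy
    have h1 := hexp (x * y) (N.mul_mem hx hy)
    have h2 : x * y = (x * y)⁻¹ := (inv_eq_of_mul_eq_one_right h1).symm
    rw [mul_inv_rev, hinv x hx, hinv y hy] at h2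
    exact h2
  have hconj : ∀ n ∈ N, g * n * g⁻¹ ∈ N := fun n hn => hN.conj_mem n hn g
  -- squares of the elements of the coset `g N`
  have hsq : ∀ m ∈ N, ∃ c : G, (g * m) * (g * m) = c * (g * g) * c⁻¹ := by
    intro m hm
    obtain ⟨c, hc⟩ := isConj_iff.1 (hCam g hgN m hm)
    refine ⟨c, ?_⟩
    rw [← hc]
    group
  have hsqφ : ∀ m ∈ N, (g * m) * (g * m) = (g * g) * (m * (g * m * g⁻¹)) := by
    intro m hm
    have h1 : (g * m) * (g * m) = (g * m * g⁻¹) * ((g * g) * m) := by group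
    rw [h1, hcommN _ (hconj m hm) _ (N.mul_mem hg2 hm), mul_assoc]
  -- `g² ≠ 1`
  have hgg : g * g ≠ 1 := by
    intro h1
    apply hgN
    apply hCN
    rw [Subgroup.mem_centralizer_iff]
    intro m hm
    have hm' : m ∈ N := hm
    obtain ⟨c, hc⟩ := hsq m hm'
    rw [h1, mul_one, mul_inv_cancel] at hc
    have hginv : g⁻¹ = g := inv_eq_of_mul_eq_one_right h1
    have h2 : g * m = (g * m)⁻¹ := (inv_eq_of_mul_eq_one_right hc).symm
    rw [mul_inv_rev, hinv m hm', hginv] at h2
    exact h2.symm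
  -- the homomorphism `n ↦ n * (g n g⁻¹)`
  let φ : N →* G := MonoidHom.mk' (fun n => (n : G) * (g * n * g⁻¹)) (by
    intro a b
    have h1 : g * ((a * b : N) : G) * g⁻¹ = (g * a * g⁻¹) * (g * b * g⁻¹) := by
      rw [Subgroup.coe_mul]; group
    rw [h1, Subgroup.coe_mul]
    have h2 := hcommN _ b.2 _ (hconj a a.2)
    calc (a : G) * b * (g * a * g⁻¹ * (g * b * g⁻¹))
        = a * (b * (g * a * g⁻¹)) * (g * b * g⁻¹) := by group
      _ = a * ((g * a * g⁻¹) * b) * (g * b * g⁻¹) := by rw [h2]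
      _ = a * (g * a * g⁻¹) * (b * (g * b * g⁻¹)) := by group)
  have hφ : ∀ n : N, φ n = (n : G) * (g * n * g⁻¹) := fun n => rfl
  -- the kernel is `C_N(g)`
  have hker : φ.ker = (N ⊓ Subgroup.centralizer ({g} : Set G)).subgroupOf N := by
    ext n
    rw [MonoidHom.mem_ker, hφ, Subgroup.mem_subgroupOf, Subgroup.mem_inf,
      Subgroup.mem_centralizer_singleton_iff]
    constructor
    · intro h
      refine ⟨n.2, ?_⟩
      have h1 : g * n * g⁻¹ = (n : G)⁻¹ := (inv_eq_of_mul_eq_one_right h).symm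
      rw [hinv n n.2] at h1
      calc (n : G) * g = (g * n * g⁻¹) * g := by rw [h1]
        _ = g * n := by group
    · rintro ⟨-, h⟩
      have h1 : g * n * g⁻¹ = n := by
        rw [← h]; group
      rw [h1]
      exact hexp n n.2
  have hcardker : Nat.card φ.ker = Nat.card ↥(N ⊓ Subgroup.centralizer ({g} : Set G)) := by
    rw [hker]
    exact Nat.card_congr (Subgroup.subgroupOfEquivOfLe inf_le_left).toEquiv
  -- the image lies in `C_N(g)`
  have hrange : φ.range ≤ N ⊓ Subgroup.centralizer ({g} : Set G) := by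
    rintro x ⟨n, rfl⟩
    rw [hφ, Subgroup.mem_inf, Subgroup.mem_centralizer_singleton_iff]
    refine ⟨N.mul_mem n.2 (hconj n n.2), ?_⟩
    have h1 : (g * g) * n * (g * g)⁻¹ = n := by
      rw [hcommN _ hg2 _ n.2]; group
    have h2 : g * ((n : G) * (g * n * g⁻¹)) * g⁻¹ = (g * n * g⁻¹) * ((g * g) * n * (g * g)⁻¹) := by
      group
    rw [h1, hcommN _ (hconj n n.2) _ n.2] at h2
    calc (n : G) * (g * n * g⁻¹) * g = (g * ((n : G) * (g * n * g⁻¹)) * g⁻¹) * g := by rw [h2]
      _ = g * ((n : G) * (g * n * g⁻¹)) := by group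
  -- `g²` is not in the image
  have hnot : g * g ∉ φ.range := by
    rintro ⟨n, hn⟩
    rw [hφ] at hn
    obtain ⟨c, hc⟩ := hsq n n.2
    rw [hsqφ n n.2, hn, hexp _ hg2] at hc
    apply hgg
    calc g * g = c⁻¹ * (c * (g * g) * c⁻¹) * c := by group
      _ = 1 := by rw [← hc]; group
  have hmem : g * g ∈ N ⊓ Subgroup.centralizer ({g} : Set G) := by
    rw [Subgroup.mem_inf, Subgroup.mem_centralizer_singleton_iff]
    exact ⟨hg2, (mul_assoc g g g)⟩
  have hlt : Nat.card φ.range < Nat.card ↥(N ⊓ Subgroup.centralizer ({g} : Set G)) := by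
    by_contra hge
    rw [not_lt] at hge
    have := Subgroup.eq_of_le_of_card_ge hrange hge
    rw [← this] at hmem
    exact hnot hmem
  have hprod : Nat.card φ.ker * Nat.card φ.range = Nat.card N := by
    rw [← Subgroup.index_ker]
    exact Subgroup.card_mul_index φ.ker
  have hpos : 0 < Nat.card ↥(N ⊓ Subgroup.centralizer ({g} : Set G)) := Nat.card_pos
  rw [← hprod, hcardker, pow_two]
  exact Nat.mul_lt_mul_of_pos_left hlt hpos

end Cfsg.Agent.Lib.Helper47_S4839_SQ
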