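import Mathlib
import Cfsg.Agent.Lib.Helper45_SylowTwoP

set_option autoImplicit false

namespace Cfsg.Agent.Lib.Helper52_SM_TOOLS

open Subgroup MulAction

/-- A `p`-subgroup `Q` commuting with `x` acts on `Fix x`. -/
theorem card_fixedBy_modEq_of_commute {G : Type*} [Group G] {X : Type*} [MulAction G X] [Finite X]
    {p : ℕ} [Fact p.Prime] (Q : Subgroup G) (hQ : IsPGroup p Q) (x : G)
    (hx : ∀ g ∈ Q, g * x = x * g) :
    Nat.card (MulAction.fixedBy X x) ≡
      Nat.card {a : X // x • a = a ∧ ∀ g ∈ Q, g • a = a} [MOD p] := by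
  let T : SubMulAction Q X :=
    { carrier := {a | x • a = a}
      smul_mem' := by
        intro g a ha
        have h1 : g • a = (g : G) • a := rfl
        show x • (g • a) = g • a
        have ha' : x • a = a := ha
        rw [h1, smul_smul, ← hx (g : G) g.2, mul_smul, ha'] }
  have h1 := hQ.card_modEq_card_fixedPoints T
  have h2 : Nat.card T = Nat.card (MulAction.fixedBy X x) := rfl
  have h3 : Nat.card (fixedPoints Q T) =
      Nat.card {a : X // x • a = a ∧ ∀ g ∈ Q, g • a = a} := by
    apply Nat.card_congr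
    refine
      { toFun := fun a => ⟨a.1.1, a.1.2, fun g hg => ?_⟩
        invFun := fun a => ⟨⟨a.1, a.2.1⟩, ?_⟩
        left_inv := fun a => rfl
        right_inv := fun a => rfl }
    · have := a.2
      rw [mem_fixedPoints] at this
      exact congrArg Subtype.val (this ⟨g, hg⟩)
    · rw [mem_fixedPoints]
      intro g
      apply Subtype.ext
      exact a.2.2 (g : G) g.2
  rw [h2, h3] at h1
  exact h1

/-- an element of `2`-power order: parity of the number of fixed points -/
theorem card_modEq_card_fixedBy_two {G : Type*} [Group G] {X : Type*} [MulAction G X] [Finite X]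
    (x : G) (hx : x * x = 1) :
    Nat.card X ≡ Nat.card (MulAction.fixedBy X x) [MOD 2] := by
  have h2F : Fact (Nat.Prime 2) := ⟨Nat.prime_two⟩
  have h0 : IsPGroup 2 (zpowers x) := by
    intro g
    refine ⟨1, ?_⟩
    obtain ⟨g, hg⟩ := g
    obtain ⟨k, rfl⟩ := Subgroup.mem_zpowers_iff.mp hg
    apply Subtype.ext
    simp only [pow_one, SubgroupClass.coe_pow, OneMemClass.coe_one]
    rw [← zpow_natCast, ← zpow_mul, mul_comm, zpow_mul, zpow_natCast, pow_two, hx, one_zpow]
  have h1 := h0.card_modEq_card_fixedPoints X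
  have h2 : Nat.card (fixedPoints (zpowers x) X) = Nat.card (MulAction.fixedBy X x) := by
    apply Nat.card_congr
    apply Equiv.subtypeEquivRight
    intro a
    rw [mem_fixedPoints, MulAction.mem_fixedBy]
    constructor
    · intro h
      exact h ⟨x, mem_zpowers x⟩
    · intro h g
      have h3 : zpowers x ≤ stabilizer G a := (zpowers_le).2 (mem_stabilizer_iff.2 h)
      exact mem_stabilizer_iff.1 (h3 g.2)
  rw [h2] at h1
  exact h1

/-- **T1** (parity).  An involution of a non-abelian simple group acts on any finite `G`-set as an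
even permutation: `|X| ≡ |Fix x| (mod 4)`. -/
theorem card_modEq_card_fixedBy_four {G : Type*} [Group G] [Finite G] [IsSimpleGroup G]
    (hG : ¬ IsMulCommutative G) {X : Type*} [MulAction G X] [Finite X] (x : G) (hx : x * x = 1) :
    Nat.card X ≡ Nat.card (MulAction.fixedBy X x) [MOD 4] := by
  classical
  have := Fintype.ofFinite X
  let ψ : G →* ℤˣ := Equiv.Perm.sign.comp (MulAction.toPermHom G X)
  have hψ : ψ x = 1 := by
    rcases (MonoidHom.normal_ker ψ).eq_bot_or_eq_top with h | h
    · exfalso
      apply hG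
      have hinj : Function.Injective ψ := (MonoidHom.ker_eq_bot_iff ψ).1 h
      exact ⟨⟨fun a b => hinj (by rw [map_mul, map_mul, mul_comm])⟩⟩
    · have h1 : x ∈ ψ.ker := by rw [h]; trivial
      exact h1
  obtain ⟨σ, hσ⟩ : ∃ σ : Equiv.Perm X, σ = MulAction.toPermHom G X x := ⟨_, rfl⟩
  have hσ2 : σ ^ 2 = 1 := by rw [hσ, ← map_pow, pow_two, hx, map_one]
  have hsign := Equiv.Perm.sign_of_pow_two_eq_one hσ2
  have hfix : Fintype.card (Function.fixedPoints σ) = Nat.card (MulAction.fixedBy X x) := by
    rw [← Nat.card_eq_fintype_card]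
    apply Nat.card_congr
    apply Equiv.subtypeEquivRight
    intro a
    rw [hσ]
    rfl
  have hs1 : Equiv.Perm.sign σ = 1 := by rw [hσ]; exact hψ
  rw [hs1, hfix, ← Nat.card_eq_fintype_card] at hsign
  have heven : Even ((Nat.card X - Nat.card (MulAction.fixedBy X x)) / 2) := by
    rw [← neg_one_pow_eq_one_iff_even (R := ℤˣ) (by decide)]
    exact hsign.symm
  have hpar := card_modEq_card_fixedBy_two (X := X) x hx
  have hle : Nat.card (MulAction.fixedBy X x) ≤ Nat.card X :=
    Nat.card_le_card_of_injective _ Subtype.val_injective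
  obtain ⟨m, hm⟩ := heven
  rw [Nat.ModEq] at hpar ⊢
  omega

/-- **T3**.  `x ∈ C_G(P)`, `P` a Sylow `p`-subgroup: the number of Sylow `p`-subgroups normalised by
`x` is `≡ 1 (mod p)`. -/
theorem card_sylow_fixedBy_modEq_one {G : Type*} [Group G] [Finite G] {p : ℕ} [Fact p.Prime]
    (P : Sylow p G) (x : G) (hx : x ∈ Subgroup.centralizer ((P : Subgroup G) : Set G)) :
    Nat.card (MulAction.fixedBy (Sylow p G) x) ≡ 1 [MOD p] :=
  Cfsg.Agent.Lib.Helper45_SylowTwoP.card_fixedBy_modEq P hx

/-- **T4**.  An element of a simple group acting trivially in a nontrivial action is `1`. -/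
theorem eq_one_of_forall_smul_eq {G : Type*} [Group G] [IsSimpleGroup G] {X : Type*}
    [MulAction G X] (hX : ∃ (g : G) (a : X), g • a ≠ a) (x : G) (h : ∀ a : X, x • a = a) :
    x = 1 := by
  rcases (MonoidHom.normal_ker (MulAction.toPermHom G X)).eq_bot_or_eq_top with hk | hk
  · have h1 : x ∈ (MulAction.toPermHom G X).ker := by
      rw [MonoidHom.mem_ker]
      apply Equiv.ext
      intro a
      simpa using h a
    rw [hk, mem_bot] at h1
    exact h1
  · exfalso
    obtain ⟨g, a, hga⟩ := hX
    apply hga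
    have h1 : g ∈ (MulAction.toPermHom G X).ker := by rw [hk]; trivial
    rw [MonoidHom.mem_ker] at h1
    have h2 := congrArg (fun σ : Equiv.Perm X => σ a) h1
    simpa using h2

end Cfsg.Agent.Lib.Helper52_SM_TOOLS
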