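import Mathlib
import Cfsg.Agent.Lib.Helper17_Sylow
import Cfsg.Agent.Lib.Helper17_SylowPerm
import Cfsg.Agent.Lib.Helper45_Order1440
import Cfsg.Agent.Lib.Helper52_SM_TOOLS
import Cfsg.Agent.S1018

/-!
# S0496 package N720A (architect helper75): a simple group of order 720, Sylow 5 data.
`n_5 = 36`, `C(P5) = P5`, and `|C_G(u)| = 16` for every involution `u` of `N(P5)`.
-/

set_option autoImplicit false
set_option linter.unusedSectionVars false

namespace Cfsg.Agent.Lib.Helper47_SM_N720A

open Subgroup MulAction
open Cfsg.Agent.Lib.Helper17_Sylow Cfsg.Agent.Lib.Helper45_Order1440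

section general

variable {G : Type*} [Group G] [Finite G] {p : ℕ} [hp : Fact p.Prime]

/-- fixed cosets of `N(P)` correspond to fixed Sylow subgroups -/
theorem card_fixedBy_quotient_normalizer (P : Sylow p G) (x : G) :
    Nat.card (fixedBy (G ⧸ normalizer ((P : Subgroup G) : Set G)) x) =
      Nat.card {R : Sylow p G // x • R = R} := by
  have h1 := card_fixedBy_mul (normalizer ((P : Subgroup G) : Set G)) x
  have h2 : Nat.card {g : G // g • P ∈ {R : Sylow p G | x • R = R}} =
      Nat.card (normalizer ((P : Subgroup G) : Set G)) *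
        Nat.card {R : Sylow p G | x • R = R} :=
    card_preimage_eq_mul (fun g : G => g • P) _ _ (fun R _ => card_fiber_smul P R)
  have h3 : Nat.card {g : G // g • P ∈ {R : Sylow p G | x • R = R}} =
      Nat.card {g : G // g⁻¹ * x * g ∈ normalizer ((P : Subgroup G) : Set G)} := by
    apply Nat.card_congr
    apply Equiv.subtypeEquivRight
    intro g
    simp only [Set.mem_ofPred_eq]
    constructor
    · intro h
      apply Sylow.smul_eq_iff_mem_normalizer.1
      rw [mul_smul, mul_smul, h, inv_smul_smul]
    · intro h
      have h4 := Sylow.smul_eq_iff_mem_normalizer.2 h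
      rw [mul_smul, mul_smul] at h4
      have h5 : g • (g⁻¹ • x • g • P) = g • P := by rw [h4]
      rwa [smul_inv_smul] at h5
  have h4 : Nat.card {R : Sylow p G | x • R = R} = Nat.card {R : Sylow p G // x • R = R} := rfl
  have hpos : 0 < Nat.card (normalizer ((P : Subgroup G) : Set G)) := Nat.card_pos
  apply Nat.eq_of_mul_eq_mul_left hpos
  rw [← h1, ← h3, h2, h4]

/-- number of `P`-orbits on the cosets of `N(P)` when `|P| = p`: `(n_p - 1)/p + 1`, in the form
`#orbits * p = n_p + (p - 1)` -/
theorem card_orbits_mul (P : Sylow p G) (hP : Nat.card (P : Subgroup G) = p) :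
    Nat.card (orbitRel.Quotient (P : Subgroup G) (G ⧸ normalizer ((P : Subgroup G) : Set G))) * p
      = Nat.card (Sylow p G) + (p - 1) := by
  classical
  have : Fintype (P : Subgroup G) := Fintype.ofFinite _
  have : Fintype (G ⧸ normalizer ((P : Subgroup G) : Set G)) := Fintype.ofFinite _
  have : Fintype (Quotient (orbitRel (P : Subgroup G)
      (G ⧸ normalizer ((P : Subgroup G) : Set G)))) := Fintype.ofFinite _
  have : ∀ a : (P : Subgroup G),
      Fintype (fixedBy (G ⧸ normalizer ((P : Subgroup G) : Set G)) a) :=
    fun a => Fintype.ofFinite _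
  have hB := MulAction.sum_card_fixedBy_eq_card_orbits_mul_card_group (P : Subgroup G)
    (G ⧸ normalizer ((P : Subgroup G) : Set G))
  have hcardP : Fintype.card (P : Subgroup G) = p := by
    rw [← Nat.card_eq_fintype_card, hP]
  have hidx : Nat.card (G ⧸ normalizer ((P : Subgroup G) : Set G)) = Nat.card (Sylow p G) := by
    rw [Sylow.card_eq_index_normalizer P]; rfl
  have hfix : ∀ a : (P : Subgroup G),
      Fintype.card (fixedBy (G ⧸ normalizer ((P : Subgroup G) : Set G)) a) =
        1 + (if a = 1 then Nat.card (Sylow p G) - 1 else 0) := by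
    intro a
    rw [← Nat.card_eq_fintype_card]
    by_cases ha : a = 1
    · rw [if_pos ha, ha]
      have hpos : 0 < Nat.card (Sylow p G) := Nat.card_pos
      have h1 : Nat.card (fixedBy (G ⧸ normalizer ((P : Subgroup G) : Set G))
          (1 : (P : Subgroup G))) = Nat.card (G ⧸ normalizer ((P : Subgroup G) : Set G)) := by
        apply Nat.card_congr
        exact
          { toFun := fun q => q.1
            invFun := fun q => ⟨q, by rw [mem_fixedBy, one_smul]⟩
            left_inv := fun q => rfl
            right_inv := fun q => rfl }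
      rw [h1, hidx]
      omega
    · rw [if_neg ha, add_zero]
      have hord : orderOf (a : G) = p := by
        have h1 : orderOf a ∣ p := by
          have := orderOf_dvd_natCard a
          rwa [hP] at this
        rw [Subgroup.orderOf_coe]
        rcases (Nat.dvd_prime hp.out).1 h1 with h | h
        · exact absurd (orderOf_eq_one_iff.1 h) ha
        · exact h
      exact (Cfsg.Agent.S1018.result p P hP).1 (a : G) hord
  rw [Finset.sum_congr rfl (fun a _ => hfix a), Finset.sum_add_distrib, Finset.sum_ite_eq',
    if_pos (Finset.mem_univ _), Finset.sum_const, Finset.card_univ, hcardP, smul_eq_mul,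
    mul_one] at hB
  rw [← Nat.card_eq_fintype_card] at hB
  have hpos : 0 < Nat.card (Sylow p G) := Nat.card_pos
  have hp1 : 1 ≤ p := hp.out.one_lt.le
  have hB' : Nat.card (orbitRel.Quotient (P : Subgroup G)
      (G ⧸ normalizer ((P : Subgroup G) : Set G))) * p = p + (Nat.card (Sylow p G) - 1) :=
    hB.symm
  rw [hB']
  omega

end general

theorem arith_ten (c k a : ℕ) (h1 : 320 = c * k) (h2 : c ∣ 720) (h7 : k % 5 = a % 5)
    (h8 : 1 ≤ a) (h9 : (a + 1) * 5 ≤ 10) (h10 : k ≤ a + 10) : False := by
  have hc80 : c ∣ 80 := by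
    have h := Nat.dvd_gcd h2 (Dvd.intro k h1.symm)
    norm_num at h
    exact h
  have hc_le : c ≤ 80 := Nat.le_of_dvd (by norm_num) hc80
  have hk : k ≤ 11 := by omega
  interval_cases k <;> omega

theorem arith_sixteen (c f : ℕ) (h1 : 20 * f = c * 5) (h2 : c ∣ 720) (h3 : 36 % 4 = f % 4)
    (h4 : 1 ≤ f) (h5 : f ≤ 8) : c = 16 := by
  have hc : c = 4 * f := by omega
  subst hc
  interval_cases f <;> omega

theorem n720_sylow_five {G : Type*} [Group G] [Finite G] [IsSimpleGroup G]
    (hG : Nat.card G = 720) [Fact (Nat.Prime 5)] (P : Sylow 5 G) :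
    Nat.card (Sylow 5 G) = 36 ∧
      Subgroup.centralizer ((P : Subgroup G) : Set G) = (P : Subgroup G) ∧
      ∀ u ∈ Subgroup.normalizer ((P : Subgroup G) : Set G), orderOf u = 2 →
        Nat.card (Subgroup.centralizer ({u} : Set G)) = 16 := by
  have hS : IsSimpleGroup G := inferInstance
  have hG' : Nat.card G = 5 ^ 1 * 144 := by rw [hG]; norm_num
  have hm : ¬ 5 ∣ 144 := by norm_num
  have hnc : ¬ IsMulCommutative G :=
    not_isMulCommutative_of_not_prime (by rw [hG]; norm_num)
  have hcard : Nat.card (P : Subgroup G) = 5 := by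
    have := card_sylow_eq_pow hG' hm P
    rwa [pow_one] at this
  have hmem := card_sylow_mem_candidates hG' hm
  have hlt := one_lt_card_sylow_of_card hG' hm (by norm_num) (by norm_num)
  have hcop := not_coprime_of_simple hG' hm (by norm_num)
  have h2f := two_mul_card_dvd_factorial_card_sylow hnc hlt
  have hc : sylowCandidates 5 144 = [1, 6, 16, 36] := by decide
  rw [hc] at hmem
  simp only [List.mem_cons, List.not_mem_nil, or_false] at hmem
  -- n_5 = 36
  have hn : Nat.card (Sylow 5 G) = 36 := by
    rcases hmem with h1 | h1 | h1 | h1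
    · omega
    · exfalso
      rw [h1, hG] at h2f
      revert h2f
      decide
    · exfalso
      rw [h1] at hcop
      exact hcop (by norm_num)
    · exact h1
  -- |N(P)| = 20
  have hN : Nat.card (normalizer ((P : Subgroup G) : Set G)) = 20 := by
    have := card_normalizer_mul_card_sylow P
    rw [hn, hG] at this
    omega
  have hcyc : IsCyclic (P : Subgroup G) := isCyclic_of_prime_card hcard
  have hPC : (P : Subgroup G) ≤ centralizer ((P : Subgroup G) : Set G) :=
    le_centralizer_of_isCyclic (P : Subgroup G)
  have hCN : centralizer ((P : Subgroup G) : Set G) ≤ normalizer ((P : Subgroup G) : Set G) :=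
    centralizer_le_normalizer _
  have hk := relIndex_centralizer_normalizer_dvd_pred (P : Subgroup G) hcard
  have hCk := card_mul_relIndex_of_le hCN
  rw [hN] at hCk
  have h5C : 5 ∣ Nat.card (centralizer ((P : Subgroup G) : Set G)) := by
    have := Subgroup.card_dvd_of_le hPC
    rwa [hcard] at this
  have hk1 : (centralizer ((P : Subgroup G) : Set G)).relIndex
      (normalizer ((P : Subgroup G) : Set G)) ≠ 1 := by
    intro h1
    have hNC := Subgroup.relIndex_eq_one.mp h1
    rcases sylow_eq_bot_or_top_of_normalizer_le_centralizer P hNC with h | h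
    · rw [h, Subgroup.card_bot] at hcard
      omega
    · rw [h, Subgroup.card_top, hG] at hcard
      omega
  -- |C(P)| = 5
  have hC5 : Nat.card (centralizer ((P : Subgroup G) : Set G)) = 5 := by
    set k := (centralizer ((P : Subgroup G) : Set G)).relIndex
      (normalizer ((P : Subgroup G) : Set G)) with hkdef
    set C := Nat.card (centralizer ((P : Subgroup G) : Set G)) with hCdef
    have hk4 : k ∣ 4 := hk
    have hkle : k ≤ 4 := Nat.le_of_dvd (by norm_num) hk4
    have hk24 : k = 2 ∨ k = 4 := by
      interval_cases k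
      · omega
      · exact absurd rfl hk1
      · left; rfl
      · exfalso; revert hk4; decide
      · right; rfl
    rcases hk24 with h | h
    · exfalso
      have hC10 : C = 10 := by rw [h] at hCk; omega
      have h2F : Fact (Nat.Prime 2) := ⟨Nat.prime_two⟩
      obtain ⟨u', hu'⟩ := exists_prime_orderOf_dvd_card'
        (G := centralizer ((P : Subgroup G) : Set G)) 2 (by rw [← hCdef, hC10]; norm_num)
      have hu : orderOf (u' : G) = 2 := by rw [Subgroup.orderOf_coe]; exact hu'
      have huu : (u' : G) * (u' : G) = 1 := by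
        have := pow_orderOf_eq_one (u' : G)
        rwa [hu, pow_two] at this
      have hu1 : (u' : G) ≠ 1 := by
        intro h
        rw [h, orderOf_one] at hu
        norm_num at hu
      have h1 := card_normalizer_mul_card_fixed P (u' : G)
      rw [hN, card_fixedBy_involution hS hn P hu u'.2] at h1
      have h2 : Nat.card (centralizer ({(u' : G)} : Set G)) ∣ 720 := by
        rw [← hG]
        exact card_subgroup_dvd_card _
      have h7 := card_conj_normalizer_modEq P (u' : G)
      have h8 : 1 ≤ Nat.card {y : G // IsConj (u' : G) y ∧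
          y ∈ centralizer ((P : Subgroup G) : Set G)} := by
        have : Nonempty {y : G // IsConj (u' : G) y ∧
            y ∈ centralizer ((P : Subgroup G) : Set G)} :=
          ⟨⟨u', IsConj.refl _, u'.2⟩⟩
        exact Nat.card_pos
      have h9 : (Nat.card {y : G // IsConj (u' : G) y ∧
          y ∈ centralizer ((P : Subgroup G) : Set G)} + 1) * 5 ≤ 10 := by
        have h1 := card_conj_centralizer_succ_le P huu hu1
        have h2 := card_sq_one_mul_le (by norm_num : (5 : ℕ) ≠ 2) P hcard
        rw [← hCdef, hC10] at h2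
        exact (Nat.mul_le_mul_right 5 h1).trans h2
      have h10 := card_conj_normalizer_le P hcard huu
      rw [← hCdef, hC10] at h10
      exact arith_ten _ _ _ h1 h2 h7 h8 h9 h10
    · rw [h] at hCk; omega
  have hCP : centralizer ((P : Subgroup G) : Set G) = (P : Subgroup G) := by
    symm
    apply Subgroup.eq_of_le_of_card_ge hPC
    rw [hC5, hcard]
  refine ⟨hn, hCP, ?_⟩
  intro u huN hu
  have huu : u * u = 1 := by
    have := pow_orderOf_eq_one u
    rwa [hu, pow_two] at this
  have hu1 : u ≠ 1 := by
    intro h
    rw [h, orderOf_one] at hu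
    norm_num at hu
  -- no conjugate of `u` lies in `C(P) = P`
  have hnoconj : ∀ y : G, IsConj u y → y ∉ centralizer ((P : Subgroup G) : Set G) := by
    intro y hy hyC
    rw [hCP] at hyC
    have hy1 : y = 1 :=
      eq_one_of_mul_self (by norm_num : (5 : ℕ) ≠ 2) P hcard hyC (mul_self_of_isConj huu hy)
    rw [hy1] at hy
    exact hu1 (isConj_one_left.1 hy)
  have huC : u ∉ centralizer ((P : Subgroup G) : Set G) := hnoconj u (IsConj.refl u)
  have ha : Nat.card {y : G // IsConj u y ∧ y ∈ centralizer ((P : Subgroup G) : Set G)} = 0 := by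
    have : IsEmpty {y : G // IsConj u y ∧ y ∈ centralizer ((P : Subgroup G) : Set G)} :=
      ⟨fun y => hnoconj y.1 y.2.1 y.2.2⟩
    exact Nat.card_of_isEmpty
  have hk5 : Nat.card {y : G // IsConj u y ∧ y ∈ normalizer ((P : Subgroup G) : Set G)} = 5 := by
    have h7 := card_conj_normalizer_modEq P u
    have h10 := card_conj_normalizer_le P hcard huu
    rw [ha] at h7
    rw [ha, hC5] at h10
    have h8 : 1 ≤ Nat.card {y : G // IsConj u y ∧
        y ∈ normalizer ((P : Subgroup G) : Set G)} := by
      have : Nonempty {y : G // IsConj u y ∧ y ∈ normalizer ((P : Subgroup G) : Set G)} :=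
        ⟨⟨u, IsConj.refl _, huN⟩⟩
      exact Nat.card_pos
    unfold Nat.ModEq at h7
    omega
  have h1 := card_normalizer_mul_card_fixed P u
  rw [hN, hk5] at h1
  have h2 : Nat.card (centralizer ({u} : Set G)) ∣ 720 := by
    rw [← hG]
    exact card_subgroup_dvd_card _
  have h3 := Cfsg.Agent.Lib.Helper52_SM_TOOLS.card_modEq_card_fixedBy_four hnc
    (X := Sylow 5 G) u huu
  have h3' : Nat.card (fixedBy (Sylow 5 G) u) = Nat.card {R : Sylow 5 G // u • R = R} := rfl
  rw [hn, h3'] at h3
  have h4 : 1 ≤ Nat.card {R : Sylow 5 G // u • R = R} := by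
    have : Nonempty {R : Sylow 5 G // u • R = R} :=
      ⟨⟨P, smul_eq_iff_mem_normalizer'.2 huN⟩⟩
    exact Nat.card_pos
  have h5 : Nat.card {R : Sylow 5 G // u • R = R} ≤ 8 := by
    rw [← card_fixedBy_quotient_normalizer P u]
    have h6 := (Cfsg.Agent.S1018.result 5 P hcard).2 u huN huC
    have h7 := card_orbits_mul P hcard
    rw [hn] at h7
    omega
  exact arith_sixteen _ _ h1 h2 h3 h4 h5

end Cfsg.Agent.Lib.Helper47_SM_N720A
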