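import Mathlib
import Cfsg.Agent.Lib.Helper98_ExtDefs
import Cfsg.Agent.Lib.Helper98_SpExtDefs
import Cfsg.Agent.Lib.Helper94_Symp

set_option autoImplicit false
set_option linter.unusedSimpArgs false

/-!
# S5664 package E2B_3 (architect helper98)
`|F| = 2`, `[K:F] = 2`, `dim_K V ≥ 3`: if `M` contains all products `T_u T_u'` of two `F`-transvections
(`T_u x = x + f(x,u) u`, `f = Tr ∘ B`), then it contains a transvection: the seven `T_u`, `u ≠ 0` in a
totally `f`-isotropic `F`-space of dimension 3, commute and multiply to `1`.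
-/

open Cfsg.Agent.Lib.Helper98_ExtDefs Cfsg.Agent.Lib.Helper98_SpExtDefs Cfsg.Agent.Lib.Helper94_Symp

namespace Cfsg.Agent.Lib.Helper47_SpExt_E2B_3

/-- `T_u (x + w) = x + (w + f(x,u) u)` when `f(w,u) = 0` -/
theorem tv_add {F V : Type*} [Field F] [AddCommGroup V] [Module F V] (f : LinearMap.BilinForm F V)
    (u x w : V) (hwu : f w u = 0) : tvF f u (x + w) = x + (w + f x u • u) := by
  simp only [tvF, map_add, LinearMap.add_apply, hwu, add_zero]
  abel

/-- pure algebra: six transvections of a totally isotropic 3-space multiply to the seventh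
(characteristic 2) -/
theorem seven {F V : Type*} [Field F] [AddCommGroup V] [Module F V] (h2 : (2 : F) = 0)
    (f : LinearMap.BilinForm F V) (e1 e2 e3 : V)
    (h11 : f e1 e1 = 0) (h12 : f e1 e2 = 0) (h13 : f e1 e3 = 0)
    (h21 : f e2 e1 = 0) (h22 : f e2 e2 = 0) (h23 : f e2 e3 = 0)
    (h31 : f e3 e1 = 0) (h32 : f e3 e2 = 0) (h33 : f e3 e3 = 0) (x : V) :
    tvF f e2 (tvF f e3 (tvF f (e1 + e2) (tvF f (e1 + e3) (tvF f (e2 + e3)
      (tvF f (e1 + e2 + e3) x))))) = x + (1 * f x e1) • e1 := by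
  have e6 : tvF f (e1 + e2 + e3) x = x + f x (e1 + e2 + e3) • (e1 + e2 + e3) := rfl
  rw [e6, tv_add f (e2 + e3) x _ (by
      simp only [map_add, map_smul, LinearMap.add_apply, LinearMap.smul_apply, smul_eq_mul,
        h11, h12, h13, h21, h22, h23, h31, h32, h33, mul_zero, add_zero]),
    tv_add f (e1 + e3) x _ (by
      simp only [map_add, map_smul, LinearMap.add_apply, LinearMap.smul_apply, smul_eq_mul,
        h11, h12, h13, h21, h22, h23, h31, h32, h33, mul_zero, add_zero]),
    tv_add f (e1 + e2) x _ (by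
      simp only [map_add, map_smul, LinearMap.add_apply, LinearMap.smul_apply, smul_eq_mul,
        h11, h12, h13, h21, h22, h23, h31, h32, h33, mul_zero, add_zero]),
    tv_add f e3 x _ (by
      simp only [map_add, map_smul, LinearMap.add_apply, LinearMap.smul_apply, smul_eq_mul,
        h11, h12, h13, h21, h22, h23, h31, h32, h33, mul_zero, add_zero]),
    tv_add f e2 x _ (by
      simp only [map_add, map_smul, LinearMap.add_apply, LinearMap.smul_apply, smul_eq_mul,
        h11, h12, h13, h21, h22, h23, h31, h32, h33, mul_zero, add_zero])]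
  simp only [map_add]
  linear_combination (norm := module) h2 • ((f x e1 + f x e2 + f x e3) • e1 +
    (f x e1 + 2 * f x e2 + f x e3) • e2 + (f x e1 + f x e2 + 2 * f x e3) • e3)

variable {F K V : Type*} [Field F] [Field K] [Algebra F K] [AddCommGroup V] [Module F V]
  [Module K V] [IsScalarTower F K V] [Finite F] [Finite K] [Module.Finite K V]

/-- **E2B_3** (M).  The product of the seven transvections of a totally isotropic 3-space is 1. -/
theorem E2B_3 (hq : Nat.card F = 2) (hr : Module.finrank F K = 2) (hd : 3 ≤ Module.finrank K V)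
    (B : LinearMap.BilinForm K V) (hB : B.IsAlt) (hBn : B.Nondegenerate)
    (M : Subgroup (V ≃ₗ[F] V))
    (h : ∀ u u' : V, u ≠ 0 → u' ≠ 0 →
      HasMap M (fun x => tvF (trForm (F := F) B) u (tvF (trForm (F := F) B) u' x))) :
    HasStv B M := by
  classical
  -- characteristic 2
  have h2 : (2 : F) = 0 := by
    have := Fintype.ofFinite F
    have h0 := Nat.cast_card_eq_zero F
    rw [← Nat.card_eq_fintype_card, hq] at h0
    exact_mod_cast h0
  -- `ω ∈ K \ F`
  obtain ⟨ω, hω⟩ : ∃ ω : K, ∀ c : F, algebraMap F K c ≠ ω := by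
    by_contra hcon
    push Not at hcon
    have h1 : Module.finrank F K ≤ 1 := by
      apply finrank_le_one (1 : K)
      intro w
      obtain ⟨c, hc⟩ := hcon w
      exact ⟨c, by rw [← hc, Algebra.algebraMap_eq_smul_one]⟩
    omega
  have hω0 : ω ≠ 0 := by
    intro h0
    exact hω 0 (by rw [map_zero, h0])
  have hω1 : 1 + ω ≠ 0 := by
    intro h0
    apply hω (-1)
    rw [map_neg, map_one]
    exact (eq_neg_of_add_eq_zero_right h0).symm
  -- `e1 ≠ 0`
  obtain ⟨e1, he1⟩ : ∃ e1 : V, e1 ≠ 0 := by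
    apply (Module.finrank_pos_iff_exists_ne_zero (R := K) (M := V)).1
    omega
  -- `e3 ∈ e1^⊥ \ K e1`
  obtain ⟨e3, he31, he3⟩ : ∃ e3 : V, B e3 e1 = 0 ∧ e3 ∉ Submodule.span K {e1} := by
    by_contra hcon
    push Not at hcon
    have hle : LinearMap.ker (B.flip e1) ≤ Submodule.span K {e1} := by
      intro z hz
      exact hcon z hz
    have h1 := LinearMap.finrank_range_add_finrank_ker (B.flip e1)
    have h3 : Module.finrank K (LinearMap.range (B.flip e1)) ≤ 1 := by
      have := Submodule.finrank_le (LinearMap.range (B.flip e1))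
      rwa [Module.finrank_self] at this
    have h4 := Submodule.finrank_mono hle
    rw [finrank_span_singleton he1] at h4
    omega
  have he13 : B e1 e3 = 0 := by rw [alt_swap B hB e1 e3, he31, neg_zero]
  set f := trForm (F := F) B with hf
  set e2 : V := ω • e1 with he2
  have h11 : f e1 e1 = 0 := by rw [hf, trForm_apply, hB e1, map_zero]
  have h12 : f e1 e2 = 0 := by
    rw [hf, trForm_apply, he2, map_smul, hB e1, smul_zero, map_zero]
  have h13 : f e1 e3 = 0 := by rw [hf, trForm_apply, he13, map_zero]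
  have h21 : f e2 e1 = 0 := by
    rw [hf, trForm_apply, he2, map_smul, LinearMap.smul_apply, hB e1, smul_zero, map_zero]
  have h22 : f e2 e2 = 0 := by rw [hf, trForm_apply, hB e2, map_zero]
  have h23 : f e2 e3 = 0 := by
    rw [hf, trForm_apply, he2, map_smul, LinearMap.smul_apply, he13, smul_zero, map_zero]
  have h31 : f e3 e1 = 0 := by rw [hf, trForm_apply, he31, map_zero]
  have h32 : f e3 e2 = 0 := by
    rw [hf, trForm_apply, he2, map_smul, he31, smul_zero, map_zero]
  have h33 : f e3 e3 = 0 := by rw [hf, trForm_apply, hB e3, map_zero]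
  -- the six vectors are nonzero
  have n2 : e2 ≠ 0 := smul_ne_zero hω0 he1
  have n3 : e3 ≠ 0 := by
    intro h0; apply he3; rw [h0]; exact Submodule.zero_mem _
  have n12 : e1 + e2 ≠ 0 := by
    have : e1 + e2 = (1 + ω) • e1 := by rw [add_smul, one_smul]
    rw [this]; exact smul_ne_zero hω1 he1
  have key : ∀ w ∈ Submodule.span K {e1}, w + e3 ≠ 0 := by
    intro w hw h0
    apply he3
    have : e3 = -w := (eq_neg_of_add_eq_zero_right h0)
    rw [this]; exact Submodule.neg_mem _ hw
  have m1 : e1 ∈ Submodule.span K {e1} := Submodule.mem_span_singleton_self e1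
  have m2 : e2 ∈ Submodule.span K {e1} := Submodule.smul_mem _ _ m1
  have n13 : e1 + e3 ≠ 0 := key e1 m1
  have n23 : e2 + e3 ≠ 0 := key e2 m2
  have n123 : e1 + e2 + e3 ≠ 0 := key (e1 + e2) (Submodule.add_mem _ m1 m2)
  obtain ⟨g1, hg1, hg1x⟩ := h e2 e3 n2 n3
  obtain ⟨g2, hg2, hg2x⟩ := h (e1 + e2) (e1 + e3) n12 n13
  obtain ⟨g3, hg3, hg3x⟩ := h (e2 + e3) (e1 + e2 + e3) n23 n123
  refine ⟨e1, 1, he1, one_ne_zero, g1 * g2 * g3, M.mul_mem (M.mul_mem hg1 hg2) hg3, ?_⟩
  intro x
  rw [LinearEquiv.mul_apply, LinearEquiv.mul_apply, hg3x, hg2x, hg1x]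
  exact seven h2 f e1 e2 e3 h11 h12 h13 h21 h22 h23 h31 h32 h33 x

end Cfsg.Agent.Lib.Helper47_SpExt_E2B_3
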