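import Mathlib
import Cfsg.Agent.Lib.Helper98_ExtDefs
import Cfsg.Agent.Lib.Helper98_SpExtDefs
import Cfsg.Agent.Lib.Helper94_Symp

set_option autoImplicit false

/-!
# S5664 package WITT (architect helper98): two Witt-type transitivity statements for `Sp_K(V,B)`.
`TR2`: `a ≠ 0`, `B(b,a) = B(v,a) ≠ 0`  ⇒ some isometry fixes `a` and maps `b ↦ v`.
`TR3`: `a ≠ 0`, `b, v ∈ a^⊥ \ K a`      ⇒ the same.
Both are products of at most two symplectic transvections.
-/

open Cfsg.Agent.Lib.Helper98_ExtDefs Cfsg.Agent.Lib.Helper98_SpExtDefs Cfsg.Agent.Lib.Helper94_Symp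

namespace Cfsg.Agent.Lib.Helper47_SpExt_WITT

/-- one transvection step: `B p p' ≠ 0`, `B a p = B a p'` gives an isometry fixing `a`, `p ↦ p'`. -/
theorem step {K V : Type*} [Field K] [AddCommGroup V] [Module K V]
    (B : LinearMap.BilinForm K V) (hB : B.IsAlt) (a p p' : V) (h : B p p' ≠ 0)
    (ha : B a p = B a p') : ∃ g ∈ isoGroup B, g a = a ∧ g p = p' := by
  refine ⟨stv B hB (p - p') (B p p')⁻¹, stv_mem_isoGroup B hB _ _, ?_, stv_move B hB h⟩
  apply stv_fix B hB
  rw [map_sub, ha, sub_self]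

/-- two steps through an intermediate point -/
theorem step2 {K V : Type*} [Field K] [AddCommGroup V] [Module K V]
    (B : LinearMap.BilinForm K V) (hB : B.IsAlt) (a p q p' : V) (h1 : B p q ≠ 0) (h2 : B q p' ≠ 0)
    (ha1 : B a p = B a q) (ha2 : B a q = B a p') : ∃ g ∈ isoGroup B, g a = a ∧ g p = p' := by
  obtain ⟨g1, hg1, hg1a, hg1p⟩ := step B hB a p q h1 ha1
  obtain ⟨g2, hg2, hg2a, hg2p⟩ := step B hB a q p' h2 ha2
  refine ⟨g2 * g1, (isoGroup B).mul_mem hg2 hg1, ?_, ?_⟩
  · rw [LinearEquiv.mul_apply, hg1a, hg2a]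
  · rw [LinearEquiv.mul_apply, hg1p, hg2p]

theorem TR2 {K V : Type*} [Field K] [AddCommGroup V] [Module K V] [FiniteDimensional K V]
    (B : LinearMap.BilinForm K V) (hB : B.IsAlt) (hBn : B.Nondegenerate) (a b v : V) (ha : a ≠ 0)
    (hb : B b a ≠ 0) (hv : B v a = B b a) : ∃ g ∈ isoGroup B, g a = a ∧ g b = v := by
  have hab : B a b = - B b a := alt_swap B hB a b
  have hav : B a v = - B b a := by rw [alt_swap B hB a v, hv]
  by_cases h : B b v = 0
  · -- go through `b + a`
    refine step2 B hB a b (b + a) v ?_ ?_ ?_ ?_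
    · rw [map_add, hB b, zero_add]; exact hb
    · rw [map_add, LinearMap.add_apply, h, zero_add, hav]; exact neg_ne_zero.mpr hb
    · rw [map_add, hB a, add_zero]
    · rw [map_add, hB a, add_zero, hab, hav]
  · exact step B hB a b v h (by rw [hab, hav])

theorem TR3 {K V : Type*} [Field K] [AddCommGroup V] [Module K V] [FiniteDimensional K V]
    (B : LinearMap.BilinForm K V) (hB : B.IsAlt) (hBn : B.Nondegenerate) (a b v : V) (ha : a ≠ 0)
    (hb : B b a = 0) (hv : B v a = 0) (hb' : b ∉ Submodule.span K {a})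
    (hv' : v ∉ Submodule.span K {a}) : ∃ g ∈ isoGroup B, g a = a ∧ g b = v := by
  have hab : B a b = 0 := by rw [alt_swap B hB a b, hb, neg_zero]
  have hav : B a v = 0 := by rw [alt_swap B hB a v, hv, neg_zero]
  by_cases h : B b v = 0
  · -- some `w` with `B w a = 1`
    obtain ⟨w, hw⟩ : ∃ w, B w a = 1 := by
      by_contra hcon
      apply ha
      apply hBn.2 a
      intro x
      by_contra hx
      apply hcon
      refine ⟨(B x a)⁻¹ • x, ?_⟩
      rw [map_smul, LinearMap.smul_apply, smul_eq_mul, inv_mul_cancel₀ hx]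
    -- the subspace `a^⊥`
    let W : Submodule K V := LinearMap.ker (B.flip a)
    have hW : ∀ x, x ∈ W ↔ B x a = 0 := by
      intro x
      simp only [W, LinearMap.mem_ker]
      exact Iff.rfl
    have key : ∀ c : V, c ∉ Submodule.span K {a} → ∃ x ∈ W, B x c ≠ 0 := by
      intro c hc
      by_contra hcon
      push Not at hcon
      apply hc
      have hall : ∀ x, B x (c - (B w c) • a) = 0 := by
        intro x
        have h1 := hcon (x - (B x a) • w) (by
          rw [hW, map_sub, LinearMap.sub_apply, map_smul, LinearMap.smul_apply, hw, smul_eq_mul,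
            mul_one, sub_self])
        rw [map_sub, LinearMap.sub_apply, map_smul, LinearMap.smul_apply, smul_eq_mul] at h1
        rw [map_sub, map_smul, smul_eq_mul]
        rw [sub_eq_zero] at h1 ⊢
        rw [h1]; ring
      have h0 := hBn.2 _ hall
      rw [sub_eq_zero] at h0
      rw [h0]
      exact Submodule.smul_mem _ _ (Submodule.mem_span_singleton_self a)
    obtain ⟨z, hzW, hzb, hzv⟩ := exists_both_ne_zero B W (key b hb') (key v hv')
    have hza : B z a = 0 := (hW z).1 hzW
    have haz : B a z = 0 := by rw [alt_swap B hB a z, hza, neg_zero]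
    refine step2 B hB a b z v (alt_ne_zero_comm B hB hzb) hzv ?_ ?_
    · rw [hab, haz]
    · rw [haz, hav]
  · exact step B hB a b v h (by rw [hab, hav])

end Cfsg.Agent.Lib.Helper47_SpExt_WITT
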