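import Cfsg.Agent.Lib.Helper47_TW
import Cfsg.Agent.Lib.Helper22_Layer
import Cfsg.Agent.Lib.Helper21_FStar

/-!
Thompson–Wielandt (Knapp's form), part 2: relative subnormality, components of subgroups seen in the
ambient group, and the vanishing of the layers `E(M) = E(N) = 1`.
-/

set_option autoImplicit false

universe u

namespace Cfsg.Agent.Lib.Helper47_TW

open Cfsg
open Cfsg.Agent.Lib.Helper47_PLocal Cfsg.Agent.Lib.Helper47_SubAPI
  Cfsg.Agent.Lib.Helper47_PClosed Cfsg.Agent.Lib.Helper47_Conj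
open Cfsg.Agent.Lib.Helper21_FStar Cfsg.Agent.Lib.Helper22_Layer Cfsg.Agent.Lib.Helper29_Local
  Cfsg.Agent.Lib.Helper21_Components
open scoped commutatorElement

variable {G : Type u} [Group G]

/-! ### Relative subnormality -/

/-- `K` is subnormal in `H` -/
def RelSub (K H : Subgroup G) : Prop := (K.subgroupOf H).IsSubnormal

theorem RelSub.of_normal {K H : Subgroup G} (hKH : K ≤ H)
    (h : H ≤ Subgroup.normalizer (K : Set G)) : RelSub K H :=
  ((Subgroup.normal_subgroupOf_iff_le_normalizer hKH).mpr h).isSubnormal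

theorem RelSub.restrict {K B H : Subgroup G} (hBH : B ≤ H) (h : RelSub K H) : RelSub K B := by
  have h1 := Subgroup.IsSubnormal.comap (Subgroup.inclusion hBH) h
  have h2 : (K.subgroupOf H).comap (Subgroup.inclusion hBH) = K.subgroupOf B := by
    ext x
    simp [Subgroup.mem_subgroupOf]
  unfold RelSub
  rw [← h2]
  exact h1

theorem RelSub.trans {K B H : Subgroup G} (hKB : K ≤ B) (hBH : B ≤ H) (h1 : RelSub K B)
    (h2 : RelSub B H) : RelSub K H := by
  unfold RelSub at *
  have hle : K.subgroupOf H ≤ B.subgroupOf H := by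
    intro x hx
    rw [Subgroup.mem_subgroupOf] at hx ⊢
    exact hKB hx
  refine Subgroup.IsSubnormal.trans hle ?_ h2
  have h3 := Subgroup.IsSubnormal.comap (Subgroup.subgroupOfEquivOfLe hBH).toMonoidHom h1
  have h4 : (K.subgroupOf B).comap (Subgroup.subgroupOfEquivOfLe hBH).toMonoidHom =
      (K.subgroupOf H).subgroupOf (B.subgroupOf H) := by
    ext x
    simp [Subgroup.mem_subgroupOf, Subgroup.subgroupOfEquivOfLe]
  rw [← h4]
  exact h3

/-! ### Components of a subgroup, seen in the ambient group -/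

/-- `K` is a component of `H` -/
def Comp (K H : Subgroup G) : Prop := K ≤ H ∧ RelSub K H ∧ IsQuasisimple ↥K

theorem comp_iff {K H : Subgroup G} (hKH : K ≤ H) : IsComponent (K.subgroupOf H) ↔ Comp K H := by
  unfold IsComponent Comp RelSub
  rw [isQuasisimple_iff_of_mulEquiv (Subgroup.subgroupOfEquivOfLe hKH)]
  tauto

theorem comp_map_subtype {H : Subgroup G} {K : Subgroup ↥H} (hK : IsComponent K) :
    Comp (K.map H.subtype) H := by
  rw [← comp_iff (Subgroup.map_subtype_le K), map_subtype_subgroupOf_map]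
  exact hK

theorem Comp.ne_bot {K H : Subgroup G} (hK : Comp K H) : K ≠ ⊥ := by
  have := IsQuasisimple.nontrivial hK.2.2
  exact (Subgroup.nontrivial_iff_ne_bot K).mp inferInstance

theorem Comp.le_or_commute [Finite G] {K H S : Subgroup G} (hK : Comp K H) (hSH : S ≤ H)
    (hS : RelSub S H) : K ≤ S ∨ ∀ k ∈ K, ∀ s ∈ S, k * s = s * k := by
  have hc : IsComponent (K.subgroupOf H) := (comp_iff hK.1).mpr hK
  rcases IsComponent.le_or_commutator_eq_bot hc hS with h | h
  · left
    intro k hk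
    have : (⟨k, hK.1 hk⟩ : ↥H) ∈ S.subgroupOf H := h (by rw [Subgroup.mem_subgroupOf]; exact hk)
    rwa [Subgroup.mem_subgroupOf] at this
  · right
    intro k hk s hs
    rw [Subgroup.commutator_eq_bot_iff_le_centralizer] at h
    have h1 : (⟨k, hK.1 hk⟩ : ↥H) ∈ Subgroup.centralizer ((S.subgroupOf H : Subgroup ↥H) : Set ↥H) :=
      h (by rw [Subgroup.mem_subgroupOf]; exact hk)
    rw [Subgroup.mem_centralizer_iff] at h1
    have h2 := h1 ⟨s, hSH hs⟩ (by rw [SetLike.mem_coe, Subgroup.mem_subgroupOf]; exact hs)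
    have h3 := congrArg Subtype.val h2
    simpa using h3.symm

/-- the layer of a subgroup, in the ambient group -/
def layerOf (H : Subgroup G) : Subgroup G := (layer ↥H).map H.subtype

theorem layerOf_le (H : Subgroup G) : layerOf H ≤ H := Subgroup.map_subtype_le _

theorem le_normalizer_layerOf (H : Subgroup G) :
    H ≤ Subgroup.normalizer ((layerOf H : Subgroup G) : Set G) :=
  (normal_iff_le_normalizer_map H (layer ↥H)).mp inferInstance

theorem layerOf_le_iff {H X : Subgroup G} : layerOf H ≤ X ↔ ∀ K, Comp K H → K ≤ X := by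
  constructor
  · intro h K hK
    have hc : IsComponent (K.subgroupOf H) := (comp_iff hK.1).mpr hK
    have h1 : K.subgroupOf H ≤ layer ↥H := IsComponent.le_layer hc
    have h2 := Subgroup.map_mono (f := H.subtype) h1
    rw [Subgroup.map_subgroupOf_eq_of_le hK.1] at h2
    exact h2.trans h
  · intro h
    unfold layerOf
    rw [Subgroup.map_le_iff_le_comap, layer_le_iff]
    intro L hL
    rw [← Subgroup.map_le_iff_le_comap]
    exact h _ (comp_map_subtype hL)

theorem Comp.le_layerOf {K H : Subgroup G} (hK : Comp K H) : K ≤ layerOf H :=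
  layerOf_le_iff.mp le_rfl K hK

theorem layer_eq_bot_of_layerOf {H : Subgroup G} (h : layerOf H = ⊥) : layer ↥H = ⊥ := by
  unfold layerOf at h
  exact (Subgroup.map_eq_bot_iff_of_injective _ H.subtype_injective).mp h


/-! ### The layers vanish -/

/-- every component of `N` is a component of `M` -/
theorem comp_transfer [Finite G] {M N : Subgroup G} (h : Setup M N) (hA2 : c2 M N ≠ ⊥)
    (hB2 : c2 N M ≠ ⊥) : ∀ K, Comp K N → Comp K M := by
  have hs := h.symm
  have hA2M : c2 M N ≤ M := c2_le_left M N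
  have hA2B1 : c2 M N ≤ c1 N M := c2_le_c1' M N
  have hB1N : c1 N M ≤ N := c1_le_left N M
  have hB1M : c1 N M ≤ M := c1_le_right N M
  have hMA2 : M ≤ Subgroup.normalizer ((c2 M N : Subgroup G) : Set G) := le_normalizer_relCore _ _
  have hNB2 : N ≤ Subgroup.normalizer ((c2 N M : Subgroup G) : Set G) := le_normalizer_relCore _ _
  have hNB1 : N ≤ Subgroup.normalizer ((c1 N M : Subgroup G) : Set G) := le_normalizer_relCore _ _
  have hMA1 : M ≤ Subgroup.normalizer ((c1 M N : Subgroup G) : Set G) := le_normalizer_relCore _ _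
  have hB2A1 : c2 N M ≤ c1 M N := c2_le_c1' N M
  have hB2N : c2 N M ≤ N := c2_le_left N M
  have hA1I : c1 M N ≤ N ⊓ M := le_inf (c1_le_right M N) (c1_le_left M N)
  -- (a)
  have hRelA2 : RelSub (c2 M N) N :=
    RelSub.trans hA2B1 hB1N (RelSub.of_normal hA2B1 (hB1M.trans hMA2)) (RelSub.of_normal hB1N hNB1)
  have hKM : ∀ K, Comp K N → K ≤ M := by
    intro K hK
    rcases hK.le_or_commute (hA2B1.trans hB1N) hRelA2 with h1 | h1
    · exact h1.trans hA2M
    · intro k hk
      apply h.centralizer_le hA2 hA2M hMA2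
      rw [Subgroup.mem_centralizer_iff]
      intro s hs
      exact (h1 k hk s hs).symm
  -- (b)
  have hEN_B1 : layerOf N ≤ c1 N M :=
    le_relCore (layerOf_le N) (le_inf (layerOf_le N) (layerOf_le_iff.mpr hKM))
      (le_normalizer_layerOf N)
  -- (c)
  have hKA1 : ∀ K, Comp K N → K ≤ c1 M N := by
    intro K hK
    have hKI : K ≤ N ⊓ M := le_inf hK.1 (hKM K hK)
    have hKcompI : Comp K (N ⊓ M) := ⟨hKI, hK.2.1.restrict inf_le_left, hK.2.2⟩
    have claim : ∀ m ∈ M, ∀ k ∈ K, m⁻¹ * k * m ∈ N := by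
      intro m hm k hk
      have hmn : (c1 M N).map (MulAut.conj m).toMonoidHom = c1 M N :=
        mem_normalizer_iff_map_conj_eq'.mp (hMA1 hm)
      have hSA1 : (c2 N M).map (MulAut.conj m).toMonoidHom ≤ c1 M N := by
        rw [← hmn]
        exact Subgroup.map_mono hB2A1
      have hRelS_A1 : RelSub ((c2 N M).map (MulAut.conj m).toMonoidHom) (c1 M N) := by
        apply RelSub.of_normal hSA1
        rw [normalizer_map_conj]
        intro a ha
        refine ⟨m⁻¹ * a * m, hNB2 ((c1_le_right M N) ?_), by simp [mul_assoc]⟩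
        have hm' : m⁻¹ ∈ Subgroup.normalizer ((c1 M N : Subgroup G) : Set G) :=
          hMA1 (M.inv_mem hm)
        have := (Subgroup.mem_normalizer_iff.mp hm' a).mp ha
        simpa using this
      have hRelA1_I : RelSub (c1 M N) (N ⊓ M) := RelSub.of_normal hA1I (inf_le_right.trans hMA1)
      have hRelS_I := RelSub.trans hSA1 hA1I hRelS_A1 hRelA1_I
      rcases hKcompI.le_or_commute (hSA1.trans hA1I) hRelS_I with h1 | h1
      · obtain ⟨b, hb, hbk⟩ := h1 hk
        have : m⁻¹ * k * m = b := by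
          rw [← hbk]; simp [mul_assoc]
        rw [this]
        exact hB2N hb
      · apply hs.centralizer_le hB2 hB2N hNB2
        rw [Subgroup.mem_centralizer_iff]
        intro b hb
        have hmb : m * b * m⁻¹ ∈ (c2 N M).map (MulAut.conj m).toMonoidHom := ⟨b, hb, by simp⟩
        have h2 := h1 k hk _ hmb
        -- k * (m b m⁻¹) = (m b m⁻¹) * k
        calc b * (m⁻¹ * k * m) = m⁻¹ * ((m * b * m⁻¹) * k) * m := by group
          _ = m⁻¹ * (k * (m * b * m⁻¹)) * m := by rw [h2]
          _ = m⁻¹ * k * m * b := by group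
    intro x hx
    unfold c1
    rw [mem_relCore]
    refine ⟨hKM K hK hx, fun m hm => ⟨?_, ?_⟩⟩
    · exact M.mul_mem (M.mul_mem hm (hKM K hK hx)) (M.inv_mem hm)
    · have := claim m⁻¹ (M.inv_mem hm) x hx
      simpa using this
  -- (d)
  have hEN_B2 : layerOf N ≤ c2 N M :=
    le_relCore (layerOf_le N) (le_inf hEN_B1 (layerOf_le_iff.mpr hKA1)) (le_normalizer_layerOf N)
  -- (e)
  intro K hK
  have hKB2 : K ≤ c2 N M := hK.le_layerOf.trans hEN_B2
  have h1 : RelSub K (c2 N M) := hK.2.1.restrict hB2N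
  have h2 : RelSub (c2 N M) (c1 M N) := RelSub.of_normal hB2A1 ((c1_le_right M N).trans hNB2)
  have h3 : RelSub (c1 M N) M := RelSub.of_normal (c1_le_left M N) hMA1
  have h4 : RelSub K (c1 M N) := RelSub.trans hKB2 hB2A1 h1 h2
  have h5 : RelSub K M := RelSub.trans (hKB2.trans hB2A1) (c1_le_left M N) h4 h3
  exact ⟨hKM K hK, h5, hK.2.2⟩

/-- the layer of `M` is trivial -/
theorem layerOf_eq_bot [Finite G] {M N : Subgroup G} (h : Setup M N) (hA2 : c2 M N ≠ ⊥)
    (hB2 : c2 N M ≠ ⊥) : layerOf M = ⊥ := by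
  have h1 : layerOf N ≤ layerOf M :=
    layerOf_le_iff.mpr (fun K hK => (comp_transfer h hA2 hB2 K hK).le_layerOf)
  have h2 : layerOf M ≤ layerOf N :=
    layerOf_le_iff.mpr (fun K hK => (comp_transfer h.symm hB2 hA2 K hK).le_layerOf)
  have heq := le_antisymm h2 h1
  refine h.eq_bot_of_normalized (layerOf_le M) (le_normalizer_layerOf M) ?_
  rw [heq]
  exact le_normalizer_layerOf N


/-! ### Assembly -/

theorem fstar_ne_bot [Finite G] {H : Subgroup G} (hH : H ≠ ⊥) :
    generalizedFittingSubgroup ↥H ≠ ⊥ := by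
  intro h
  apply hH
  have h1 := centralizer_generalizedFitting_le (G := ↥H)
  rw [h] at h1
  rw [eq_bot_iff]
  intro g hg
  have h2 : (⟨g, hg⟩ : ↥H) ∈ Subgroup.centralizer (((⊥ : Subgroup ↥H) : Subgroup ↥H) : Set ↥H) := by
    rw [Subgroup.mem_centralizer_iff]
    intro x hx
    have hx' : x = 1 := Subgroup.mem_bot.mp hx
    rw [hx']
    simp
  have h3 := h1 h2
  rw [Subgroup.mem_bot] at h3
  rw [Subgroup.mem_bot]
  exact congrArg Subtype.val h3

theorem exists_pCore_ne_bot' {X : Type u} [Group X] [Finite X] (h : fittingSubgroup X ≠ ⊥) :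
    ∃ p : ℕ, p.Prime ∧ pCore p X ≠ ⊥ := by
  by_contra hno
  apply h
  rw [Cfsg.Agent.Lib.Helper1_Cores.fittingSubgroup_eq_iSup_pCore, eq_bot_iff]
  refine iSup_le (fun q => ?_)
  by_contra hq
  exact hno ⟨q, q.2, fun h0 => hq (h0 ▸ le_rfl)⟩

theorem fitting_eq_pCore {X : Type u} [Group X] [Finite X] {p : ℕ} (hp : p.Prime)
    (h : ∀ q : ℕ, q.Prime → q ≠ p → pCore q X = ⊥) : fittingSubgroup X = pCore p X := by
  rw [Cfsg.Agent.Lib.Helper1_Cores.fittingSubgroup_eq_iSup_pCore]
  apply le_antisymm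
  · refine iSup_le (fun q => ?_)
    by_cases hq : (q : ℕ) = p
    · rw [hq]
    · rw [h q q.2 hq]; exact bot_le
  · exact le_iSup (fun q : Nat.Primes => pCore (q : ℕ) X) ⟨p, hp⟩

theorem fstar_eq_pCore {X : Type u} [Group X] [Finite X] {p : ℕ} (hp : p.Prime)
    (hL : layer X = ⊥) (h : ∀ q : ℕ, q.Prime → q ≠ p → pCore q X = ⊥) :
    generalizedFittingSubgroup X = pCore p X := by
  unfold generalizedFittingSubgroup
  rw [hL, fitting_eq_pCore hp h, bot_sup_eq]

theorem pCore_eq_bot_of_pCoreOf {p : ℕ} {H : Subgroup G} (h : pCoreOf p H = ⊥) :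
    pCore p ↥H = ⊥ := by
  unfold pCoreOf at h
  exact (Subgroup.map_eq_bot_iff_of_injective _ H.subtype_injective).mp h

/-- **Thompson–Wielandt, Knapp's form**, for the abstract cores `c1`, `c2`. -/
theorem main [Finite G] {M N : Subgroup G} (h : Setup M N) (hA2 : c2 M N ≠ ⊥)
    (hB2 : c2 N M ≠ ⊥) :
    ∃ p : ℕ, p.Prime ∧ IsPGroup p ↥(c2 M N ⊔ c2 N M) ∧
      generalizedFittingSubgroup ↥M = pCore p ↥M ∧
      generalizedFittingSubgroup ↥(c1 M N) = pCore p ↥(c1 M N) ∧
      generalizedFittingSubgroup ↥N = pCore p ↥N ∧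
      generalizedFittingSubgroup ↥(c1 N M) = pCore p ↥(c1 N M) := by
  have hs := h.symm
  have hLM : layerOf M = ⊥ := layerOf_eq_bot h hA2 hB2
  have hLN : layerOf N = ⊥ := layerOf_eq_bot hs hB2 hA2
  have hMne : M ≠ ⊥ := by
    intro h0
    apply hA2
    rw [eq_bot_iff, ← h0]
    exact c2_le_left M N
  have hFM : fittingSubgroup ↥M ≠ ⊥ := by
    intro h0
    apply fstar_ne_bot hMne
    unfold generalizedFittingSubgroup
    rw [h0, layer_eq_bot_of_layerOf hLM, bot_sup_eq]
  obtain ⟨p, hp, hpM⟩ := exists_pCore_ne_bot' hFM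
  have : Fact p.Prime := ⟨hp⟩
  have hQ1 : pCoreOf p M ≠ ⊥ := fun h0 => hpM (pCore_eq_bot_of_pCoreOf h0)
  obtain ⟨g, hg⟩ := h.conj
  have hQ2 : pCoreOf p N ≠ ⊥ := by
    intro h0
    apply hQ1
    have hc := card_pCoreOf_eq_of_conj (p := p) hg
    rw [h0, Subgroup.card_bot] at hc
    exact Subgroup.card_eq_one.mp hc
  have hA2p : IsPGroup p (c2 M N) := by
    apply isPGroup_of_forall_coprime_eq_one
    intro x hx hc
    by_contra hne
    exact hQ1 (lemmaT h ⟨x, hx, hne, hc⟩)
  have hB2p : IsPGroup p (c2 N M) := by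
    apply isPGroup_of_forall_coprime_eq_one
    intro x hx hc
    by_contra hne
    exact hQ2 (lemmaT hs ⟨x, hx, hne, hc⟩)
  -- other primes
  have hother : ∀ {M' N' : Subgroup G}, Setup M' N' → c2 M' N' ≠ ⊥ → IsPGroup p (c2 M' N') →
      ∀ q : ℕ, q.Prime → q ≠ p → pCoreOf q M' = ⊥ := by
    intro M' N' h' hne hpg q hq hqp
    have : Fact q.Prime := ⟨hq⟩
    obtain ⟨ℓ, hℓ1⟩ := (Subgroup.ne_bot_iff_exists_ne_one).mp hne
    have hℓ' : (ℓ : G) ≠ 1 := fun h0 => hℓ1 (Subtype.ext h0)
    obtain ⟨k, hk⟩ := orderOf_eq_pow_of_mem hpg ℓ.2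
    apply lemmaT h' ⟨ℓ, ℓ.2, hℓ', ?_⟩
    rw [hk]
    exact Nat.Coprime.pow_left k ((Nat.coprime_primes hp hq).mpr (Ne.symm hqp))
  have hM_other := hother h hA2 hA2p
  have hN_other := hother hs hB2 hB2p
  -- first cores
  have hcore1 : ∀ {M' N' : Subgroup G}, layerOf M' = ⊥ →
      (∀ q : ℕ, q.Prime → q ≠ p → pCoreOf q M' = ⊥) →
      generalizedFittingSubgroup ↥(c1 M' N') = pCore p ↥(c1 M' N') := by
    intro M' N' hL hoth
    have hMA1 : M' ≤ Subgroup.normalizer ((c1 M' N' : Subgroup G) : Set G) :=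
      le_normalizer_relCore _ _
    apply fstar_eq_pCore hp
    · apply layer_eq_bot_of_layerOf
      rw [eq_bot_iff, layerOf_le_iff]
      intro K hK
      rw [← hL]
      have hK' : Comp K M' :=
        ⟨hK.1.trans (c1_le_left M' N'),
          RelSub.trans hK.1 (c1_le_left M' N') hK.2.1 (RelSub.of_normal (c1_le_left M' N') hMA1),
          hK.2.2⟩
      exact hK'.le_layerOf
    · intro q hq hqp
      apply pCore_eq_bot_of_pCoreOf
      rw [eq_bot_iff, ← hoth q hq hqp]
      exact le_pCoreOf ((pCoreOf_le _).trans (c1_le_left M' N'))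
        (hMA1.trans (normalizer_le_normalizer_pCoreOf' q _)) (isPGroup_pCoreOf _)
  refine ⟨p, hp, ?_, ?_, hcore1 hLM hM_other, ?_, hcore1 hLN hN_other⟩
  · exact IsPGroup.to_sup_of_normal_left' hA2p hB2p
      ((c2_le_right N M).trans (le_normalizer_relCore _ _))
  · exact fstar_eq_pCore hp (layer_eq_bot_of_layerOf hLM)
      (fun q hq hqp => pCore_eq_bot_of_pCoreOf (hM_other q hq hqp))
  · exact fstar_eq_pCore hp (layer_eq_bot_of_layerOf hLN)
      (fun q hq hqp => pCore_eq_bot_of_pCoreOf (hN_other q hq hqp))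

end Cfsg.Agent.Lib.Helper47_TW
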