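import Cfsg.Agent.Lib.Helper47_PxQ

set_option autoImplicit false

namespace Cfsg.Agent.Lib.Helper47_Trace

open Cfsg
open Cfsg.Agent.Lib.Helper47_PLocal Cfsg.Agent.Lib.Helper47_PClosed Cfsg.Agent.Lib.Helper47_Large2
  Cfsg.Agent.Lib.Helper47_PxQ
open scoped commutatorElement Pointwise IsMulCommutative

variable {G : Type*} [Group G] {p : ℕ}

/-- Conjugation by `g ∈ N(V)` as an endomorphism of `V`. -/
def conjHom (V : Subgroup G) (g : G) (hg : g ∈ Subgroup.normalizer (V : Set G)) : V →* V where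
  toFun z := ⟨g * z * g⁻¹, (Subgroup.mem_normalizer_iff.mp hg z).mp z.2⟩
  map_one' := by ext; simp
  map_mul' a b := by ext; simp [mul_assoc]

@[simp] theorem conjHom_coe (V : Subgroup G) (g : G) (hg : g ∈ Subgroup.normalizer (V : Set G))
    (z : V) : ((conjHom V g hg z : V) : G) = g * z * g⁻¹ := rfl

theorem conjHom_conjHom (V : Subgroup G) (g h : G) (hg : g ∈ Subgroup.normalizer (V : Set G))
    (hh : h ∈ Subgroup.normalizer (V : Set G)) (z : V) :
    conjHom V g hg (conjHom V h hh z) = conjHom V (g * h) (Subgroup.mul_mem _ hg hh) z := by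
  ext; simp [mul_assoc]

section
variable [Finite G] (C S V : Subgroup G) [IsMulCommutative V]
  (hCV : C ≤ Subgroup.normalizer (V : Set G))

/-- The trace `z ↦ ∏_{c ∈ C/S} c z c⁻¹` on the abelian group `V` (defined with chosen coset
representatives; independent of them on the `S`-fixed points). -/
noncomputable def tr : V →* V :=
  letI : Fintype (↥C ⧸ S.subgroupOf C) := Fintype.ofFinite _
  ∏ q : ↥C ⧸ S.subgroupOf C, conjHom V ((q.out : ↥C) : G) (hCV q.out.2)

theorem tr_apply (z : V) :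
    letI : Fintype (↥C ⧸ S.subgroupOf C) := Fintype.ofFinite _
    tr C S V hCV z = ∏ q : ↥C ⧸ S.subgroupOf C, conjHom V ((q.out : ↥C) : G) (hCV q.out.2) z := by
  unfold tr
  rw [MonoidHom.finsetProd_apply]

variable {C S V}

theorem conjHom_out_eq (z : V) (hzS : ∀ s ∈ S, s * (z : G) = z * s) (c : ↥C) :
    conjHom V (((QuotientGroup.mk c : ↥C ⧸ S.subgroupOf C).out : ↥C) : G)
        (hCV (QuotientGroup.mk c : ↥C ⧸ S.subgroupOf C).out.2) z =
      conjHom V (c : G) (hCV c.2) z := by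
  obtain ⟨h, hh⟩ := QuotientGroup.mk_out_eq_mul (S.subgroupOf C) c
  ext
  rw [conjHom_coe, conjHom_coe, hh]
  have hs : ((h : ↥C) : G) ∈ S := Subgroup.mem_subgroupOf.mp h.2
  have h1 := hzS _ hs
  simp only [Subgroup.coe_mul, mul_inv_rev]
  calc (c : G) * ((h : ↥C) : G) * (z : G) * (((h : ↥C) : G)⁻¹ * (c : G)⁻¹)
      = (c : G) * (((h : ↥C) : G) * (z : G)) * ((h : ↥C) : G)⁻¹ * (c : G)⁻¹ := by group
    _ = (c : G) * ((z : G) * ((h : ↥C) : G)) * ((h : ↥C) : G)⁻¹ * (c : G)⁻¹ := by rw [h1]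
    _ = (c : G) * (z : G) * (c : G)⁻¹ := by group

/-- Any system of coset representatives computes the trace of an `S`-fixed point. -/
theorem prod_conjHom_eq_tr (z : V) (hzS : ∀ s ∈ S, s * (z : G) = z * s)
    (ρ : ↥C ⧸ S.subgroupOf C → ↥C)
    (hρ : Function.Injective (fun q => (QuotientGroup.mk (ρ q) : ↥C ⧸ S.subgroupOf C))) :
    letI : Fintype (↥C ⧸ S.subgroupOf C) := Fintype.ofFinite _
    ∏ q : ↥C ⧸ S.subgroupOf C, conjHom V ((ρ q : ↥C) : G) (hCV (ρ q).2) z = tr C S V hCV z := by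
  letI : Fintype (↥C ⧸ S.subgroupOf C) := Fintype.ofFinite _
  rw [tr_apply]
  have hbij : Function.Bijective (fun q => (QuotientGroup.mk (ρ q) : ↥C ⧸ S.subgroupOf C)) :=
    Finite.injective_iff_bijective.mp hρ
  refine Fintype.prod_bijective _ hbij _ _ (fun q => ?_)
  exact (conjHom_out_eq hCV z hzS (ρ q)).symm

/-- The trace of an `S`-fixed point is `C`-invariant. -/
theorem conjHom_tr (z : V) (hzS : ∀ s ∈ S, s * (z : G) = z * s) (c : G) (hc : c ∈ C) :
    conjHom V c (hCV hc) (tr C S V hCV z) = tr C S V hCV z := by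
  letI : Fintype (↥C ⧸ S.subgroupOf C) := Fintype.ofFinite _
  conv_lhs => rw [tr_apply, map_prod]
  have h1 : ∀ q : ↥C ⧸ S.subgroupOf C,
      conjHom V c (hCV hc) (conjHom V ((q.out : ↥C) : G) (hCV q.out.2) z) =
        conjHom V (((⟨c, hc⟩ * q.out : ↥C)) : G) (hCV (⟨c, hc⟩ * q.out : ↥C).2) z := by
    intro q
    rw [conjHom_conjHom]
    rfl
  simp_rw [h1]
  apply prod_conjHom_eq_tr hCV z hzS (fun q => ⟨c, hc⟩ * q.out)
  intro q₁ q₂ h
  have h2 : (QuotientGroup.mk (⟨c, hc⟩ * q₁.out) : ↥C ⧸ S.subgroupOf C) =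
      QuotientGroup.mk (⟨c, hc⟩ * q₂.out) := h
  rw [QuotientGroup.eq] at h2
  have h3 : (⟨c, hc⟩ * q₁.out : ↥C)⁻¹ * (⟨c, hc⟩ * q₂.out) = q₁.out⁻¹ * q₂.out := by group
  rw [h3] at h2
  have h4 : (QuotientGroup.mk q₁.out : ↥C ⧸ S.subgroupOf C) = QuotientGroup.mk q₂.out :=
    QuotientGroup.eq.mpr h2
  rwa [QuotientGroup.out_eq', QuotientGroup.out_eq'] at h4

/-- The trace commutes with conjugation by elements normalizing `C`, `S` and `V`. -/
theorem conjHom_tr_of_normalizer (z : V) (hzS : ∀ s ∈ S, s * (z : G) = z * s) (r : G)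
    (hrC : r ∈ Subgroup.normalizer (C : Set G)) (hrS : r ∈ Subgroup.normalizer (S : Set G))
    (hrV : r ∈ Subgroup.normalizer (V : Set G)) :
    conjHom V r hrV (tr C S V hCV z) = tr C S V hCV (conjHom V r hrV z) := by
  letI : Fintype (↥C ⧸ S.subgroupOf C) := Fintype.ofFinite _
  conv_lhs => rw [tr_apply, map_prod]
  have hmem : ∀ a : ↥C, r * (a : G) * r⁻¹ ∈ C := fun a =>
    (Subgroup.mem_normalizer_iff.mp hrC a).mp a.2
  have h1 : ∀ q : ↥C ⧸ S.subgroupOf C,
      conjHom V r hrV (conjHom V ((q.out : ↥C) : G) (hCV q.out.2) z) =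
        conjHom V (((⟨r * (q.out : ↥C) * r⁻¹, hmem q.out⟩ : ↥C)) : G)
          (hCV (hmem q.out)) (conjHom V r hrV z) := by
    intro q
    ext
    simp only [conjHom_coe]
    group
  simp_rw [h1]
  have hzS' : ∀ s ∈ S, s * ((conjHom V r hrV z : V) : G) = (conjHom V r hrV z : V) * s := by
    intro s hs
    have hs' : r⁻¹ * s * r⁻¹⁻¹ ∈ S :=
      (Subgroup.mem_normalizer_iff.mp (Subgroup.inv_mem _ hrS) s).mp hs
    have h2 := hzS _ hs'
    rw [conjHom_coe]
    calc s * (r * (z : G) * r⁻¹) = r * ((r⁻¹ * s * r⁻¹⁻¹) * (z : G)) * r⁻¹ := by group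
      _ = r * ((z : G) * (r⁻¹ * s * r⁻¹⁻¹)) * r⁻¹ := by rw [h2]
      _ = r * (z : G) * r⁻¹ * s := by group
  apply prod_conjHom_eq_tr hCV (conjHom V r hrV z) hzS'
    (fun q => (⟨r * (q.out : ↥C) * r⁻¹, hmem q.out⟩ : ↥C))
  intro q₁ q₂ h
  have h2 : (QuotientGroup.mk (⟨r * (q₁.out : ↥C) * r⁻¹, hmem q₁.out⟩ : ↥C) :
      ↥C ⧸ S.subgroupOf C) = QuotientGroup.mk (⟨r * (q₂.out : ↥C) * r⁻¹, hmem q₂.out⟩ : ↥C) := h
  rw [QuotientGroup.eq, Subgroup.mem_subgroupOf] at h2
  have h3 : (((⟨r * (q₁.out : ↥C) * r⁻¹, hmem q₁.out⟩ : ↥C)⁻¹ *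
      (⟨r * (q₂.out : ↥C) * r⁻¹, hmem q₂.out⟩ : ↥C) : ↥C) : G) =
      r * (((q₁.out : ↥C) : G)⁻¹ * ((q₂.out : ↥C) : G)) * r⁻¹ := by
    simp only [Subgroup.coe_mul, Subgroup.coe_inv]
    group
  rw [h3] at h2
  have h4 : ((q₁.out : ↥C) : G)⁻¹ * ((q₂.out : ↥C) : G) ∈ S :=
    (Subgroup.mem_normalizer_iff.mp hrS _).mpr h2
  have h5 : (QuotientGroup.mk q₁.out : ↥C ⧸ S.subgroupOf C) = QuotientGroup.mk q₂.out := by
    rw [QuotientGroup.eq, Subgroup.mem_subgroupOf]
    simpa using h4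
  rwa [QuotientGroup.out_eq', QuotientGroup.out_eq'] at h5

/-- On `C`-fixed points the trace is the `|C : S|`-th power. -/
theorem tr_of_mem_centralizer (z : V) (hzC : ∀ c ∈ C, c * (z : G) = z * c) :
    tr C S V hCV z = z ^ S.relIndex C := by
  letI : Fintype (↥C ⧸ S.subgroupOf C) := Fintype.ofFinite _
  rw [tr_apply]
  have h1 : ∀ q : ↥C ⧸ S.subgroupOf C, conjHom V ((q.out : ↥C) : G) (hCV q.out.2) z = z := by
    intro q
    ext
    rw [conjHom_coe, hzC _ q.out.2]
    group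
  simp_rw [h1]
  rw [Finset.prod_const, Finset.card_univ, Subgroup.relIndex, Subgroup.index_eq_card,
    Nat.card_eq_fintype_card]

end

/-- Conjugating an `S`-fixed point by an element normalizing `S` gives an `S`-fixed point. -/
theorem conj_comm_of_mem_normalizer {S : Subgroup G} {r z : G}
    (hrS : r ∈ Subgroup.normalizer (S : Set G)) (hzS : ∀ s ∈ S, s * z = z * s) :
    ∀ s ∈ S, s * (r * z * r⁻¹) = r * z * r⁻¹ * s := by
  intro s hs
  have hs' : r⁻¹ * s * r⁻¹⁻¹ ∈ S :=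
    (Subgroup.mem_normalizer_iff.mp (Subgroup.inv_mem _ hrS) s).mp hs
  have h2 := hzS _ hs'
  calc s * (r * z * r⁻¹) = r * ((r⁻¹ * s * r⁻¹⁻¹) * z) * r⁻¹ := by group
    _ = r * (z * (r⁻¹ * s * r⁻¹⁻¹)) * r⁻¹ := by rw [h2]
    _ = r * z * r⁻¹ * s := by group

/-- Transfer argument: let `V` be an abelian `p`-group normalized by `C`, `S ≤ C` of index prime
to `p`, and `R` a `p`-group normalizing `C`, `S` and `V`. If every point of `V` fixed by `S` and `R`
is fixed by `C`, then every point of `V` fixed by `S` is fixed by `C`. -/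
theorem mem_centralizer_of_fixedPoints [Finite G] [Fact p.Prime] {C S V R : Subgroup G}
    (hVc : ∀ a ∈ V, ∀ b ∈ V, a * b = b * a) (hVp : IsPGroup p V)
    (hSC : S ≤ C) (hidx : ¬ p ∣ S.relIndex C)
    (hCV : C ≤ Subgroup.normalizer (V : Set G)) (hR : IsPGroup p R)
    (hRC : R ≤ Subgroup.normalizer (C : Set G)) (hRS : R ≤ Subgroup.normalizer (S : Set G))
    (hRV : R ≤ Subgroup.normalizer (V : Set G))
    (hfix : ∀ z ∈ V, z ∈ Subgroup.centralizer (S : Set G) → z ∈ Subgroup.centralizer (R : Set G) →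
      z ∈ Subgroup.centralizer (C : Set G)) :
    ∀ z ∈ V, z ∈ Subgroup.centralizer (S : Set G) → z ∈ Subgroup.centralizer (C : Set G) := by
  haveI : IsMulCommutative V := ⟨⟨fun a b => Subtype.ext (hVc a a.2 b b.2)⟩⟩
  have hcop : (S.relIndex C).Coprime p :=
    ((Nat.Prime.coprime_iff_not_dvd Fact.out).mpr hidx).symm
  -- the kernel of the trace on the `S`-fixed points
  set K' : Subgroup ↥V := (tr C S V hCV).ker ⊓ (Subgroup.centralizer (S : Set G)).subgroupOf V
    with hK'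
  have hKV : K'.map V.subtype ≤ V := Subgroup.map_subtype_le _
  have hKp : IsPGroup p (K'.map V.subtype) := hVp.to_le hKV
  have hcomm : ∀ z : V, z ∈ (Subgroup.centralizer (S : Set G)).subgroupOf V →
      ∀ s ∈ S, s * (z : G) = z * s := by
    intro z hz s hs
    exact ((Subgroup.mem_centralizer_iff.mp (Subgroup.mem_subgroupOf.mp hz)) s hs)
  have hRK : R ≤ Subgroup.normalizer ((K'.map V.subtype : Subgroup G) : Set G) := by
    apply le_normalizer_of_forall_map_conj_le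
    intro r hr
    rintro _ ⟨_, ⟨z, hz, rfl⟩, rfl⟩
    have hz1 : z ∈ (tr C S V hCV).ker := hz.1
    have hz2 : z ∈ (Subgroup.centralizer (S : Set G)).subgroupOf V := hz.2
    have hmem : conjHom V r (hRV hr) z ∈ K' := by
      constructor
      · show conjHom V r (hRV hr) z ∈ (tr C S V hCV).ker
        rw [MonoidHom.mem_ker,
          ← conjHom_tr_of_normalizer hCV z (hcomm z hz2) r (hRC hr) (hRS hr) (hRV hr)]
        have : tr C S V hCV z = 1 := hz1
        rw [this, map_one]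
      · show conjHom V r (hRV hr) z ∈ (Subgroup.centralizer (S : Set G)).subgroupOf V
        rw [Subgroup.mem_subgroupOf, Subgroup.mem_centralizer_iff]
        intro s hs
        exact conj_comm_of_mem_normalizer (hRS hr) (hcomm z hz2) s hs
    exact ⟨conjHom V r (hRV hr) z, hmem, rfl⟩
  have hK1 : K'.map V.subtype = ⊥ := by
    by_contra hne
    obtain ⟨x, hxK, hx1, hxR⟩ := exists_mem_centralizer_of_le_normalizer hKp hR hRK hne
    obtain ⟨z, hz, rfl⟩ := hxK
    have hzC := hfix _ z.2 (Subgroup.mem_subgroupOf.mp hz.2) hxR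
    have h1 : tr C S V hCV z = z ^ S.relIndex C :=
      tr_of_mem_centralizer hCV z (fun c hc => (Subgroup.mem_centralizer_iff.mp hzC c hc))
    have h2 : tr C S V hCV z = 1 := hz.1
    rw [h1] at h2
    have h3 : ((z : V) : G) ^ S.relIndex C = 1 := by
      have := congrArg Subtype.val h2
      simpa using this
    obtain ⟨k, hk⟩ := exists_pow_eq_one_of_mem hVp z.2
    apply hx1
    have h4 : ((z : V) : G) ∈ (⊥ : Subgroup G) := by
      refine mem_of_pow_mem_of_pow_mem_of_coprime (Nat.Coprime.pow_right k hcop) ?_ ?_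
      · rw [h3]; exact Subgroup.one_mem _
      · rw [hk]; exact Subgroup.one_mem _
    exact Subgroup.mem_bot.mp h4
  intro z hzV hzS
  set z' : V := ⟨z, hzV⟩ with hz'
  have hz'S : ∀ s ∈ S, s * (z' : G) = z' * s := fun s hs =>
    (Subgroup.mem_centralizer_iff.mp hzS s hs)
  set w : V := tr C S V hCV z' with hw
  have hwC : ∀ c ∈ C, c * (w : G) = w * c := by
    intro c hc
    have h1 := conjHom_tr hCV z' hz'S c hc
    have h2 := congrArg Subtype.val h1
    rw [conjHom_coe] at h2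
    calc c * (w : G) = c * w * c⁻¹ * c := by group
      _ = w * c := by rw [h2]
  -- an `m`-th root of `w` among the powers of `w`
  have hcardV : (Nat.card V).Coprime (S.relIndex C) := by
    obtain ⟨n, hn⟩ := IsPGroup.iff_card.mp hVp
    rw [hn]
    exact (Nat.Coprime.pow_right n hcop).symm
  set u : V := (powCoprime hcardV).symm w with hu
  have hum : u ^ S.relIndex C = w := (powCoprime hcardV).apply_symm_apply w
  have huw : u ∈ Subgroup.zpowers w := by
    rw [hu, powCoprime_symm_apply]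
    exact Subgroup.zpow_mem _ (Subgroup.mem_zpowers w) _
  obtain ⟨j, hj⟩ := Subgroup.mem_zpowers_iff.mp huw
  have huC : ∀ c ∈ C, c * (u : G) = u * c := by
    intro c hc
    have h1 : Commute c (w : G) := hwC c hc
    have h2 : (u : G) = (w : G) ^ j := by rw [← hj]; simp
    rw [h2]
    exact (h1.zpow_right j).eq
  have h1 : tr C S V hCV u = u ^ S.relIndex C := tr_of_mem_centralizer hCV u huC
  have h2 : tr C S V hCV (z' * u⁻¹) = 1 := by
    rw [map_mul, map_inv, h1, hum, ← hw, mul_inv_cancel]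
  have h3 : z' * u⁻¹ ∈ K' := by
    refine ⟨h2, ?_⟩
    show z' * u⁻¹ ∈ (Subgroup.centralizer (S : Set G)).subgroupOf V
    rw [Subgroup.mem_subgroupOf, Subgroup.mem_centralizer_iff]
    intro s hs
    have e1 : Commute s (z' : G) := hz'S s hs
    have e2 : Commute s (u : G) := huC s (hSC hs)
    have e3 : ((z' * u⁻¹ : V) : G) = (z' : G) * (u : G)⁻¹ := by simp
    rw [e3]
    exact (e1.mul_right e2.inv_right).eq
  have h4 : ((z' * u⁻¹ : V) : G) ∈ K'.map V.subtype := ⟨_, h3, rfl⟩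
  rw [hK1, Subgroup.mem_bot] at h4
  have h5 : z' = u := by
    have h6 : z' * u⁻¹ = 1 := Subtype.ext h4
    exact mul_inv_eq_one.mp h6
  rw [Subgroup.mem_centralizer_iff]
  intro c hc
  have h7 := huC c hc
  rw [← h5] at h7
  exact h7

end Cfsg.Agent.Lib.Helper47_Trace
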