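import Mathlib
import Cfsg.Prelude.Def_Solvable
import Cfsg.Prelude.Def_CaseTheorems
import Cfsg.Agent.Lib.Helper84_TutteDefs
import Cfsg.Agent.Lib.Helper84_TutteAPI

/-!
# S4385, package S-CORE (paper (0.5)(c)): core-freeness of `P` in the amalgam `(H, cj y H)`.
-/

set_option autoImplicit false

namespace Cfsg.Agent.Lib.Helper47_Tutte_SCORE

open scoped commutatorElement
open Cfsg.Agent.Lib.Helper84_TutteDefs

variable {G : Type*} [Group G]

/-- `z` normalises `U` iff `cj z U = U`. -/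
theorem mem_normalizer_iff_cj {z : G} {U : Subgroup G} : z ∈ Subgroup.normalizer (U : Set G) ↔ cj z U = U := by
  rw [Subgroup.mem_normalizer_iff]
  constructor
  · intro h
    ext w
    rw [mem_cj, h (z⁻¹ * w * z)]
    simp [mul_assoc]
  · intro h v
    have key := @mem_cj G _ z (z * v * z⁻¹) U
    rw [h] at key
    rw [key]
    simp [mul_assoc]

/-- an element centralising `P` fixes (under `cj`) every subgroup of `P`. -/
theorem cj_eq_of_mem_centralizer {P U : Subgroup G} (hUP : U ≤ P) {c : G}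
    (hc : c ∈ Subgroup.centralizer (P : Set G)) : cj c U = U := by
  have hcomm : ∀ v ∈ U, c * v * c⁻¹ = v := by
    intro v hv
    have := Subgroup.mem_centralizer_iff.mp hc v (hUP hv)
    rw [← this]
    simp
  apply le_antisymm
  · rintro w ⟨v, hv, rfl⟩
    have : (MulAut.conj c).toMonoidHom v = c * v * c⁻¹ := by simp [MulAut.conj_apply]
    rw [this, hcomm v hv]
    exact hv
  · intro v hv
    have := conj_mem_cj (u := c) hv
    rwa [hcomm v hv] at this

/-- `P ⊔ C_G(P)` fixes every subgroup of `P` that `P` normalises. -/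
theorem cj_eq_of_mem_sup_centralizer {P U : Subgroup G} (hUP : U ≤ P)
    (hPU : ∀ p ∈ P, cj p U = U) {z : G} (hz : z ∈ P ⊔ Subgroup.centralizer (P : Set G)) :
    cj z U = U := by
  have hle : P ⊔ Subgroup.centralizer (P : Set G) ≤ Subgroup.normalizer (U : Set G) := by
    apply sup_le
    · intro p hp
      exact mem_normalizer_iff_cj.mpr (hPU p hp)
    · intro c hc
      exact mem_normalizer_iff_cj.mpr (cj_eq_of_mem_centralizer hUP hc)
  exact mem_normalizer_iff_cj.mp (hle hz)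

/-- S-CORE (M/L), paper (0.5)(c). -/
theorem core_free (H P : Subgroup G) (y : G) (hPH : P ≤ H) (hyN : cj y P = P)
    (hy2 : y ^ 2 ∈ P ⊔ Subgroup.centralizer (P : Set G))
    (hyQ : ∀ Q : Subgroup G, Q ≤ P → (Q.subgroupOf H).Normal → cj y Q = Q → Q = ⊥)
    (N : Subgroup G) (hNP : N ≤ P) (hNH : ∀ h ∈ H, cj h N = N) (hNy : ∀ h ∈ cj y H, cj h N = N) : N = ⊥ := by
  -- `N^y ≤ P`
  have hN'P : cj y N ≤ P := by
    have := cj_mono y hNP
    rwa [hyN] at this
  -- `P ≤ H^y`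
  have hPHy : P ≤ cj y H := by
    have := cj_mono y hPH
    rwa [hyN] at this
  -- `P` normalises `N` and `N^y`
  have hPN : ∀ p ∈ P, cj p N = N := fun p hp => hNH p (hPH hp)
  -- `H^y` normalises `N^y`
  have hHyN' : ∀ h ∈ cj y H, cj h (cj y N) = cj y N := by
    intro h hh
    -- `h = y h' y⁻¹`, `h' ∈ H`
    obtain ⟨h', hh', rfl⟩ := hh
    have e : (MulAut.conj y).toMonoidHom h' = y * h' * y⁻¹ := by simp [MulAut.conj_apply]
    rw [e, cj_cj]
    have : y * h' * y⁻¹ * y = y * h' := by group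
    rw [this, ← cj_cj, hNH h' hh']
  have hPN' : ∀ p ∈ P, cj p (cj y N) = cj y N := fun p hp => hHyN' p (hPHy hp)
  -- `y^2` normalises `N` and `N^y`
  have hy2N : cj (y ^ 2) N = N := cj_eq_of_mem_sup_centralizer hNP hPN hy2
  have hy2N' : cj (y ^ 2) (cj y N) = cj y N := cj_eq_of_mem_sup_centralizer hN'P hPN' hy2
  have hy2N'inv : cj (y ^ 2)⁻¹ (cj y N) = cj y N := by
    conv_lhs => rw [← hy2N']
    rw [cj_cj, inv_mul_cancel, cj_one]
  -- `H^(y^2)` normalises `N^y`
  have hHy2 : ∀ h ∈ H, cj (y ^ 2 * h * (y ^ 2)⁻¹) (cj y N) = cj y N := by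
    intro h hh
    have h1 : y * h * y⁻¹ ∈ cj y H := conj_mem_cj hh
    have h2 := hNy _ h1
    -- conjugate by `y`
    have h3 : cj y (cj (y * h * y⁻¹) N) = cj y N := by rw [h2]
    rw [cj_cj] at h3
    rw [cj_cj]
    have : y ^ 2 * h * (y ^ 2)⁻¹ * y = y * (y * h * y⁻¹) := by
      rw [pow_two]; group
    rw [this]
    exact h3
  -- `H` normalises `N^y`
  have hHN' : ∀ h ∈ H, cj h (cj y N) = cj y N := by
    intro h hh
    have h1 := hHy2 h hh
    have h2 : cj (y ^ 2 * h * (y ^ 2)⁻¹) (cj y N) = cj (y ^ 2) (cj h (cj y N)) := by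
      conv_rhs => rw [← hy2N'inv]
      rw [cj_cj (y ^ 2) h, cj_cj (y ^ 2 * h)]
    rw [h2] at h1
    -- apply `cj (y^2)⁻¹`
    have h3 : cj (y ^ 2)⁻¹ (cj (y ^ 2) (cj h (cj y N))) = cj (y ^ 2)⁻¹ (cj y N) := by rw [h1]
    rw [cj_cj (y ^ 2)⁻¹ (y ^ 2), inv_mul_cancel, cj_one, hy2N'inv] at h3
    exact h3
  -- `Q = N ⊔ N^y`
  have hQP : N ⊔ cj y N ≤ P := sup_le hNP hN'P
  have hQH : ∀ h ∈ H, cj h (N ⊔ cj y N) = N ⊔ cj y N := by
    intro h hh
    rw [cj_sup, hNH h hh, hHN' h hh]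
  have hQn : ((N ⊔ cj y N).subgroupOf H).Normal := by
    constructor
    intro n hn g
    rw [Subgroup.mem_subgroupOf] at hn ⊢
    have := conj_mem_cj (u := (g : G)) hn
    rw [hQH _ g.2] at this
    simpa using this
  have hQy : cj y (N ⊔ cj y N) = N ⊔ cj y N := by
    rw [cj_sup, cj_cj, ← pow_two, hy2N, sup_comm]
  have hQ := hyQ _ hQP hQn hQy
  exact le_bot_iff.mp (hQ ▸ le_sup_left)

end Cfsg.Agent.Lib.Helper47_Tutte_SCORE
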