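import Mathlib
import Cfsg.Prelude.Def_Solvable
import Cfsg.Prelude.Def_CaseTheorems
import Cfsg.Agent.Lib.Helper84_TutteDefs
import Cfsg.Agent.Lib.Helper84_TutteAPI
import Cfsg.Agent.Lib.Helper1_Cores
import Cfsg.Agent.Lib.Helper46_Tutte_SDIH1
import Cfsg.Agent.Lib.Helper46_Tutte_SDIH2

/-!
# S4385, package S-DIH3 (paper (0.5)(b),(d)): the element `ρ` (a preimage of the rotation `r 1`).
-/

set_option autoImplicit false

namespace Cfsg.Agent.Lib.Helper47_Tutte_SDIH3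

open scoped commutatorElement
open Cfsg.Agent.Lib.Helper84_TutteDefs
open Cfsg.Agent.Lib.Helper46_Tutte_SDIH1 Cfsg.Agent.Lib.Helper46_Tutte_SDIH2

/-! ### Dihedral facts -/

/-- a subgroup of `DihedralGroup n` (`n` odd) containing `r 2` and a reflection is everything. -/
theorem dihedral_top_of_r_two {n : ℕ} (hodd : Odd n) (hn3 : 3 ≤ n) (M : Subgroup (DihedralGroup n))
    (i : ZMod n) (hsr : DihedralGroup.sr i ∈ M) (hr2 : DihedralGroup.r (2 : ZMod n) ∈ M) : M = ⊤ := by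
  have : NeZero n := ⟨by omega⟩
  obtain ⟨c, hc⟩ := hodd
  have hr1 : DihedralGroup.r (1 : ZMod n) ∈ M := by
    have h1 := M.pow_mem hr2 (c + 1)
    rw [DihedralGroup.r_pow] at h1
    have h2 : (2 : ZMod n) * ((c + 1 : ℕ) : ZMod n) = 1 := by
      have hn0 : ((2 * c + 1 : ℕ) : ZMod n) = 0 := by rw [← hc]; exact ZMod.natCast_self n
      push_cast at hn0 ⊢
      linear_combination hn0
    rwa [h2] at h1
  have hr : ∀ j : ZMod n, DihedralGroup.r j ∈ M := by
    intro j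
    have h1 := M.pow_mem hr1 j.val
    rwa [DihedralGroup.r_one_pow, ZMod.natCast_zmod_val] at h1
  rw [eq_top_iff]
  intro x _
  cases x with
  | r j => exact hr j
  | sr j =>
    have h1 := M.mul_mem hsr (hr (j - i))
    rw [DihedralGroup.sr_mul_r] at h1
    have : i + (j - i) = j := by ring
    rwa [this] at h1

/-- in `ZMod n`, `n ≥ 3`: `2 ≠ 0`. -/
theorem zmod_two_ne_zero {n : ℕ} (hn3 : 3 ≤ n) : (2 : ZMod n) ≠ 0 := by
  intro h
  have h1 : ((2 : ℕ) : ZMod n) = 0 := by exact_mod_cast h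
  rw [ZMod.natCast_eq_zero_iff] at h1
  have := Nat.le_of_dvd (by norm_num) h1
  omega

section intrinsic

variable {X : Type*} [Group X] [Finite X]

/-- The intrinsic version of S-DIH3. -/
theorem dih_rho_X (n : ℕ) (hodd : Odd n) (hn3 : 3 ≤ n)
    (e : X ⧸ Cfsg.pCore 2 X ≃* DihedralGroup n) (P' : Subgroup X) (hP : IsPGroup 2 P')
    (hidx : ¬ 2 ∣ P'.index) :
    ∃ ρ : X, P' ⊔ cj ρ⁻¹ P' = ⊤ ∧ P' ⊓ cj ρ P' = Cfsg.pCore 2 X := by
  obtain ⟨hle, hcard, -, -⟩ := dih_basic_X n hodd hn3 e P' hP hidx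
  have hQn : (Cfsg.pCore 2 X).Normal := Cfsg.Agent.Lib.Helper1_Cores.pCore_normal 2
  -- the projection
  obtain ⟨π, hπ, hπs⟩ : ∃ π : X →* DihedralGroup n, (∀ x, π x = 1 ↔ x ∈ Cfsg.pCore 2 X) ∧
      Function.Surjective π := by
    refine ⟨e.toMonoidHom.comp (QuotientGroup.mk' (Cfsg.pCore 2 X)), fun x => ?_, ?_⟩
    · rw [MonoidHom.comp_apply]
      show e (QuotientGroup.mk' _ x) = 1 ↔ _
      rw [MulEquiv.map_eq_one_iff, QuotientGroup.mk'_apply, QuotientGroup.eq_one_iff]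
    · exact e.surjective.comp (QuotientGroup.mk'_surjective _)
  -- index two
  have hrel : (Cfsg.pCore 2 X).relIndex P' = 2 := by
    have c3 := Subgroup.relIndex_mul_relIndex ⊥ _ P' bot_le hle
    rw [Subgroup.relIndex_bot_left, Subgroup.relIndex_bot_left, hcard] at c3
    have hpos : 0 < Nat.card (Cfsg.pCore 2 X) := Nat.card_pos
    have : Nat.card (Cfsg.pCore 2 X) * (Cfsg.pCore 2 X).relIndex P' =
        Nat.card (Cfsg.pCore 2 X) * 2 := by rw [c3]; ring
    exact Nat.eq_of_mul_eq_mul_left hpos this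
  have hmul : ∀ a ∈ P', ∀ b ∈ P', (a * b ∈ Cfsg.pCore 2 X ↔ (a ∈ Cfsg.pCore 2 X ↔ b ∈ Cfsg.pCore 2 X)) := by
    intro a ha b hb
    have := Subgroup.mul_mem_iff_of_index_two (H := (Cfsg.pCore 2 X).subgroupOf P') hrel
      (a := ⟨a, ha⟩) (b := ⟨b, hb⟩)
    simpa [Subgroup.mem_subgroupOf] using this
  -- an element of `P'` outside the core
  obtain ⟨t, htP, htQ⟩ : ∃ t ∈ P', t ∉ Cfsg.pCore 2 X := by
    by_contra hcon
    push Not at hcon
    have heq : P' = Cfsg.pCore 2 X := le_antisymm hcon hle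
    rw [heq] at hcard
    have hpos : 0 < Nat.card (Cfsg.pCore 2 X) := Nat.card_pos
    omega
  have htt : t * t ∈ Cfsg.pCore 2 X := (hmul t htP t htP).2 Iff.rfl
  have hτ1 : π t ≠ 1 := fun h1 => htQ ((hπ t).1 h1)
  have hττ : π t * π t = 1 := by rw [← map_mul]; exact (hπ _).2 htt
  obtain ⟨i, hi⟩ := dihedral_invol hodd (π t) hττ hτ1
  have htinvQ : t⁻¹ ∉ Cfsg.pCore 2 X := fun hc => htQ (by simpa using Subgroup.inv_mem _ hc)
  -- membership in `P'` is detected by `π`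
  have hmemP : ∀ x, x ∈ P' ↔ π x = 1 ∨ π x = DihedralGroup.sr i := by
    intro x
    constructor
    · intro hx
      by_cases hxQ : x ∈ Cfsg.pCore 2 X
      · exact Or.inl ((hπ x).2 hxQ)
      · right
        have h1 : x * t⁻¹ ∈ Cfsg.pCore 2 X :=
          (hmul x hx _ (P'.inv_mem htP)).2 ⟨fun hc => absurd hc hxQ, fun hc => absurd hc htinvQ⟩
        have h2 := (hπ _).2 h1
        rw [map_mul, map_inv, mul_inv_eq_one] at h2
        rw [h2, hi]
    · rintro (h1 | h1)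
      · exact hle ((hπ x).1 h1)
      · have h2 : x * t⁻¹ ∈ Cfsg.pCore 2 X := by
          rw [← hπ, map_mul, map_inv, h1, hi, mul_inv_cancel]
        have hmem := P'.mul_mem (hle h2) htP
        rwa [inv_mul_cancel_right] at hmem
  -- the element `ρ`
  obtain ⟨ρ, hρ⟩ := hπs (DihedralGroup.r (1 : ZMod n))
  refine ⟨ρ, ?_, ?_⟩
  · -- generation
    obtain ⟨K, hK⟩ : ∃ K : Subgroup X, K = P' ⊔ cj ρ⁻¹ P' := ⟨_, rfl⟩
    rw [← hK]
    have hPK : P' ≤ K := hK ▸ le_sup_left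
    have hQK : Cfsg.pCore 2 X ≤ K := hle.trans hPK
    have htK : t ∈ K := hPK htP
    have ht'K : ρ⁻¹ * t * ρ ∈ K := by
      have h1 : ρ⁻¹ * t * ρ ∈ cj ρ⁻¹ P' := by
        rw [mem_cj]
        have : ρ⁻¹⁻¹ * (ρ⁻¹ * t * ρ) * ρ⁻¹ = t := by group
        rw [this]; exact htP
      exact hK ▸ (le_sup_right (a := P')) h1
    have hM : K.map π = ⊤ := by
      apply dihedral_top_of_r_two hodd hn3 (K.map π) i
      · exact ⟨t, htK, hi⟩
      · have h1 : π (t * (ρ⁻¹ * t * ρ)) ∈ K.map π := ⟨_, K.mul_mem htK ht'K, rfl⟩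
        have h2 : π (t * (ρ⁻¹ * t * ρ)) = DihedralGroup.r (2 : ZMod n) := by
          rw [map_mul, map_mul, map_mul, map_inv, hρ, hi, DihedralGroup.inv_r, DihedralGroup.r_mul_sr,
            DihedralGroup.sr_mul_r, DihedralGroup.sr_mul_sr]
          congr 1
          ring
        rwa [h2] at h1
    rw [eq_top_iff]
    intro x _
    have hx : π x ∈ K.map π := hM ▸ Subgroup.mem_top _
    obtain ⟨k, hk, hkx⟩ := hx
    have h1 : x * k⁻¹ ∈ Cfsg.pCore 2 X := by
      rw [← hπ, map_mul, map_inv, hkx, mul_inv_cancel]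
    have h2 := K.mul_mem (hQK h1) hk
    rwa [inv_mul_cancel_right] at h2
  · -- intersection
    apply le_antisymm
    · intro x hx
      obtain ⟨hx1, hx2⟩ := Subgroup.mem_inf.mp hx
      rw [mem_cj] at hx2
      rcases (hmemP x).1 hx1 with h1 | h1
      · exact (hπ x).1 h1
      · exfalso
        have h2 : π (ρ⁻¹ * x * ρ) = DihedralGroup.sr (i + 2) := by
          rw [map_mul, map_mul, map_inv, hρ, h1, DihedralGroup.inv_r, DihedralGroup.r_mul_sr,
            DihedralGroup.sr_mul_r]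
          congr 1
          ring
        rcases (hmemP _).1 hx2 with h3 | h3
        · rw [h2, DihedralGroup.one_def] at h3
          cases h3
        · rw [h2] at h3
          have h4 : i + 2 = i := DihedralGroup.sr.inj h3
          have h5 : (2 : ZMod n) = 0 := by linear_combination h4
          exact zmod_two_ne_zero hn3 h5
    · apply le_inf hle
      intro x hx
      rw [mem_cj]
      apply hle
      have := hQn.conj_mem x hx ρ⁻¹
      rwa [inv_inv] at this

end intrinsic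

variable {G : Type*} [Group G]

/-- `cj` commutes with the inclusion of a subgroup. -/
theorem map_subtype_cj (H : Subgroup G) (u : ↥H) (U : Subgroup ↥H) :
    (cj u U).map H.subtype = cj (u : G) (U.map H.subtype) := by
  show (U.map _).map _ = (U.map _).map _
  rw [Subgroup.map_map, Subgroup.map_map]
  congr 1

/-- S-DIH3 (L), paper (0.5)(b),(d): `ρ` = a preimage of `r 1`. -/
theorem dih_rho [Finite G] (H P : Subgroup G) (n : ℕ) (hodd : Odd n) (hn3 : 3 ≤ n)
    (hdih : Nonempty (↥H ⧸ Cfsg.pCore 2 ↥H ≃* DihedralGroup n)) (hPH : P ≤ H) (hP : IsPGroup 2 P)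
    (hPsyl : ¬ 2 ∣ P.relIndex H) :
    ∃ ρ ∈ H, P ⊔ cj ρ⁻¹ P = H ∧ P ⊓ cj ρ P = (Cfsg.pCore 2 ↥H).map H.subtype := by
  obtain ⟨e⟩ := hdih
  have hP' : IsPGroup 2 (P.subgroupOf H) := hP.comap_subtype
  obtain ⟨ρ, h1, h2⟩ := dih_rho_X n hodd hn3 e (P.subgroupOf H) hP' hPsyl
  have hPmap : (P.subgroupOf H).map H.subtype = P := Subgroup.map_subgroupOf_eq_of_le hPH
  refine ⟨(ρ : G), ρ.2, ?_, ?_⟩
  · have h3 := congrArg (Subgroup.map H.subtype) h1
    rw [Subgroup.map_sup, map_subtype_cj, hPmap] at h3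
    rw [show ((ρ : G))⁻¹ = ((ρ⁻¹ : ↥H) : G) from rfl, h3]
    rw [← MonoidHom.range_eq_map, Subgroup.range_subtype]
  · have h3 := congrArg (Subgroup.map H.subtype) h2
    rw [Subgroup.map_inf _ _ _ H.subtype_injective, map_subtype_cj, hPmap] at h3
    exact h3

end Cfsg.Agent.Lib.Helper47_Tutte_SDIH3
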