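import Mathlib
import Cfsg.Agent.Lib.Helper54_UXmDefs
import Cfsg.Agent.Lib.Helper54_UXm_Basic
import Cfsg.Agent.Lib.Helper12_UX_HSING
import Cfsg.Agent.Lib.Helper73_UX_FLD
import Cfsg.Agent.Lib.Helper10_UX_MULT
import Cfsg.Agent.Lib.Helper10_UX_THERM
import Cfsg.Agent.Lib.Helper10_UX_TRS
import Cfsg.Agent.Lib.Helper94_HermOrth
import Cfsg.Agent.Lib.Helper97_UX_CFGC

set_option autoImplicit false
set_option linter.unusedSectionVars false
set_option linter.unusedVariables false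

/-!
# UEXTm package CFGK (helper47 for helper54): the counting argument (C3)-(C6) for two `F`-subspaces
`D₀`, `E` of `K` (port of `Helper97_UX_CFGC.exists_cfg`, lines 134-338).
-/

open Module
open Cfsg.Agent.Lib.Helper94_Symp Cfsg.Agent.Lib.Helper94_Herm Cfsg.Agent.Lib.Helper13_PSUSimple
  Cfsg.Agent.Lib.Helper94_HermEich Cfsg.Agent.Lib.Helper98_ExtDefs Cfsg.Agent.Lib.Helper97_UExtDefs
  Cfsg.Agent.Lib.Helper29_SpExtDefs Cfsg.Agent.Lib.Helper94_FrmDefs Cfsg.Agent.Lib.Helper94_UDDefs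
  Cfsg.Agent.Lib.Helper54_UXmDefs

namespace Cfsg.Agent.Lib.Helper47_UXm_CFGK

variable {F K V : Type*} [Field F] [Field K] [Algebra F K] [AddCommGroup V] [Module F V]
  [Module K V] [IsScalarTower F K V] [Finite F] [Finite K] [Module.Finite K V]
  {σ : F →+* F} {τ : K →+* K}

/-- **CFGK** (L).  The counting argument (C3)-(C6) of UEXT2 (`Helper97_UX_CFGC.exists_cfg`, lines
134-338), abstracted to two `F`-subspaces `D₀`, `E` of `K`.  Uses HSING, MULT, FLD.  Proof §5. -/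
theorem cfgK (h : TauExt σ τ) (hσ : Invol σ) (hr : (finrank F K).Prime) (D₀ E : Submodule F K)
    (hD0 : D₀ ≠ ⊥) (hD1 : D₀ ≠ ⊤) (hE : E ≠ ⊥)
    (hdim : finrank F E + finrank F D₀ = finrank F K)
    (hperp : ∀ e ∈ E, ∀ c ∈ D₀, trT h e c = 0)
    (hdich : ∀ κ : K, τ κ = -κ → (∀ e ∈ E, κ * e ∈ D₀) ∨ (∀ e ∈ E, κ * e ∈ D₀ → e = 0)) :
    ∃ e₀ : K, e₀ ≠ 0 ∧ e₀ ∈ E ∧ ∀ e ∈ E, ∃ a : F, e = a • e₀ := by
  classical
  have hfin : Module.Finite F K := Module.Finite.of_finite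
  have hT : IsHerm (trT h) := Cfsg.Agent.Lib.Helper10_UX_THERM.trT_isHerm h
  have hNd : NondegOn (trT h) ⊤ := Cfsg.Agent.Lib.Helper10_UX_THERM.trT_nondeg h
  -- `D₀ = E^⊥`
  have hDE : D₀ = Cfsg.Agent.Lib.Helper94_HermOrth.orthS (trT h) E := by
    apply Submodule.eq_of_le_of_finrank_eq
    · intro c hc e he
      exact hperp e he c hc
    · have := Cfsg.Agent.Lib.Helper94_HermOrth.finrank_orthS hT hNd E
      omega
  have perp' : ∀ c : K, c ∈ D₀ ↔ ∀ e ∈ E, trT h c e = 0 := by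
    intro c
    rw [hDE, Cfsg.Agent.Lib.Helper94_HermOrth.mem_orthS' hT]
  -- the kernel of `κ ↦ s_κ`
  obtain ⟨Ψ, hΨ⟩ : ∃ Ψ : ↥(Cfsg.Agent.Lib.Helper97_UX_CFGC.Kminus τ) →+ (↥E →ₗ[F] ↥E →ₛₗ[σ] F),
      Ψ = Cfsg.Agent.Lib.Helper97_UX_CFGC.sformHom h E := ⟨_, rfl⟩
  have hΨa : ∀ (κ : ↥(Cfsg.Agent.Lib.Helper97_UX_CFGC.Kminus τ)) (p p' : ↥E),
      Ψ κ p p' = trT h ((κ : K) * (p : K)) (p' : K) := by
    intro κ p p'
    rw [hΨ]
    rfl
  have hker : ∀ κ : ↥(Cfsg.Agent.Lib.Helper97_UX_CFGC.Kminus τ), κ ∈ Ψ.ker ↔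
      ∀ e ∈ E, (κ : K) * e ∈ D₀ := by
    intro κ
    rw [AddMonoidHom.mem_ker]
    constructor
    · intro h0 e he
      rw [perp']
      intro e' he'
      have := LinearMap.congr_fun (LinearMap.congr_fun h0 ⟨e, he⟩) ⟨e', he'⟩
      rw [hΨa] at this
      exact this
    · intro hall
      ext p p'
      have := (perp' _).1 (hall p.1 p.2) p'.1 p'.2
      rw [hΨa, this]
      rfl
  -- HSING: the image is small
  obtain ⟨R, hR⟩ : ∃ R : AddSubgroup (↥E →ₗ[F] ↥E →ₛₗ[σ] F),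
      R = AddMonoidHom.range (G := ↥(Cfsg.Agent.Lib.Helper97_UX_CFGC.Kminus τ))
        (N := ↥E →ₗ[F] ↥E →ₛₗ[σ] F) Ψ := ⟨_, rfl⟩
  have hRmem : ∀ s, s ∈ R ↔ ∃ κ, Ψ κ = s := by
    intro s
    rw [hR]
    exact AddMonoidHom.mem_range
  have hA : Nat.card ↥R ^ 2 ≤ Nat.card F ^ finrank F ↥E := by
    by_contra hlt
    push Not at hlt
    have hsk : ∀ s ∈ R, ∀ x y, s y x = -σ (s x y) := by
      intro s hs p p'
      obtain ⟨κ, rfl⟩ := (hRmem s).1 hs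
      rw [hΨa, hΨa, hT ((p : K)) ((κ : K) * (p' : K)),
        Cfsg.Agent.Lib.Helper97_UX_CFGC.trT_skew h κ.2, map_neg]
    have hsm : ∀ s ∈ R, ∀ c : F, σ c = c → c • s ∈ R := by
      intro s hs c hc
      obtain ⟨κ, rfl⟩ := (hRmem s).1 hs
      rw [hRmem]
      refine ⟨⟨c • (κ : K), ?_⟩, ?_⟩
      · rw [Cfsg.Agent.Lib.Helper97_UX_CFGC.mem_Kminus, h.map_smul, hc, κ.2, smul_neg]
      · ext p p'
        rw [hΨa]
        simp only [LinearMap.smul_apply, smul_mul_assoc, map_smul]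
        rw [hΨa]
    obtain ⟨s, hs, hs0, p, hp0, hdeg⟩ := Cfsg.Agent.Lib.Helper12_UX_HSING.hsing hσ R hsk hsm hlt
    obtain ⟨κ, rfl⟩ := (hRmem s).1 hs
    have hκ : τ (κ : K) = -(κ : K) := κ.2
    rcases hdich (κ : K) hκ with h1 | h2
    · exact hs0 (AddMonoidHom.mem_ker.mp ((hker κ).2 h1))
    · have hmem : (κ : K) * (p : K) ∈ D₀ := by
        rw [perp']
        intro e' he'
        have := hdeg ⟨e', he'⟩
        rw [hΨa] at this
        exact this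
      have := h2 p.1 p.2 hmem
      apply hp0
      apply Subtype.ext
      rw [this]
      rfl
  -- counting
  have c1 : Nat.card ↥(Cfsg.Agent.Lib.Helper97_UX_CFGC.Kminus τ) ^ 2 = Nat.card K := by
    rw [← Cfsg.Agent.Lib.Helper73_UX_FLD.card_skewK h hσ]
    rfl
  have c2 : Nat.card ↥Ψ.ker * Nat.card ↥R = Nat.card ↥(Cfsg.Agent.Lib.Helper97_UX_CFGC.Kminus τ) := by
    rw [hR, ← AddSubgroup.index_ker]
    exact AddSubgroup.card_mul_index _
  have c5 : Nat.card ↥E = Nat.card F ^ finrank F ↥E := natCard_eq_pow_finrank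
  have c6 : Nat.card ↥D₀ = Nat.card F ^ finrank F ↥D₀ := natCard_eq_pow_finrank
  have c7 : Nat.card K = Nat.card F ^ finrank F K := natCard_eq_pow_finrank
  have c4 : Nat.card K = Nat.card ↥D₀ * Nat.card ↥E := by
    rw [c5, c6, c7, ← hdim, pow_add, mul_comm]
  have key : Nat.card ↥D₀ ≤ Nat.card ↥Ψ.ker ^ 2 := by
    have hPpos : 0 < Nat.card ↥E := Nat.card_pos
    have : Nat.card ↥D₀ * Nat.card ↥E ≤ Nat.card ↥Ψ.ker ^ 2 * Nat.card ↥E := by
      rw [← c4, ← c1, ← c2, mul_pow, c5]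
      exact Nat.mul_le_mul_left _ hA
    exact Nat.le_of_mul_le_mul_right this hPpos
  -- the bijection `X⁰ × X⁰ → D₀`
  obtain ⟨θ, hθ⟩ := hσ.ne_id
  have kmem : ∀ (κ : ↥Ψ.ker) (p : K), p ∈ E → (κ.1 : K) * p ∈ D₀ := by
    intro κ p hp
    exact (hker κ.1).1 κ.2 p hp
  have surj : ∀ p ∈ E, p ≠ 0 → ∀ c ∈ D₀, ∃ κ₁ κ₂ : ↥Ψ.ker,
      c = p * ((κ₁.1 : K) + θ • (κ₂.1 : K)) := by
    intro p hpP hp0
    have gmem : ∀ k : ↥Ψ.ker × ↥Ψ.ker, p * ((k.1.1 : K) + θ • (k.2.1 : K)) ∈ D₀ := by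
      intro k
      have e : p * ((k.1.1 : K) + θ • (k.2.1 : K)) = (k.1.1 : K) * p + θ • ((k.2.1 : K) * p) := by
        rw [mul_add, mul_smul_comm, mul_comm p, mul_comm p]
      rw [e]
      exact D₀.add_mem (kmem k.1 p hpP) (D₀.smul_mem θ (kmem k.2 p hpP))
    let g : ↥Ψ.ker × ↥Ψ.ker → ↥D₀ := fun k => ⟨p * ((k.1.1 : K) + θ • (k.2.1 : K)), gmem k⟩
    have ginj : Function.Injective g := by
      intro k k' hkk
      have h1 : p * ((k.1.1 : K) + θ • (k.2.1 : K)) = p * ((k'.1.1 : K) + θ • (k'.2.1 : K)) :=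
        congrArg Subtype.val hkk
      have h2 := mul_left_cancel₀ hp0 h1
      have ha : τ ((k.1.1 : K) - (k'.1.1 : K)) = -((k.1.1 : K) - (k'.1.1 : K)) := by
        rw [map_sub, k.1.1.2, k'.1.1.2]; ring
      have hb : τ ((k'.2.1 : K) - (k.2.1 : K)) = -((k'.2.1 : K) - (k.2.1 : K)) := by
        rw [map_sub, k.2.1.2, k'.2.1.2]; ring
      have hab : (k.1.1 : K) - (k'.1.1 : K) = θ • ((k'.2.1 : K) - (k.2.1 : K)) := by
        rw [smul_sub]
        linear_combination h2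
      have hab' : (k.1.1 : K) - (k'.1.1 : K) = σ θ • ((k'.2.1 : K) - (k.2.1 : K)) := by
        have := congrArg τ hab
        rw [h.map_smul, ha, hb, smul_neg, neg_inj] at this
        exact this
      have hb0 : (k'.2.1 : K) - (k.2.1 : K) = 0 := by
        have : (θ - σ θ) • ((k'.2.1 : K) - (k.2.1 : K)) = 0 := by
          rw [sub_smul, ← hab, ← hab', sub_self]
        rcases smul_eq_zero.mp this with h0 | h0
        · exact absurd (sub_eq_zero.mp h0).symm hθ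
        · exact h0
      have ha0 : (k.1.1 : K) - (k'.1.1 : K) = 0 := by rw [hab, hb0, smul_zero]
      apply Prod.ext
      · exact Subtype.ext (Subtype.ext (sub_eq_zero.mp ha0))
      · exact Subtype.ext (Subtype.ext (sub_eq_zero.mp hb0).symm)
    have hbij := ginj.bijective_of_nat_card_le (by rw [Nat.card_prod, ← sq]; exact key)
    intro c hc
    obtain ⟨k, hk⟩ := hbij.2 ⟨c, hc⟩
    exact ⟨k.1, k.2, (congrArg Subtype.val hk).symm⟩
  -- `E` is a line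
  have line : ∀ p₁ ∈ E, ∀ p₂ ∈ E, p₂ ≠ 0 → ∃ a : F, p₁ = a • p₂ := by
    intro p₁ hp₁ p₂ hp₂ hp₂0
    have hmul : ∀ c ∈ D₀, p₁ * p₂⁻¹ * c ∈ D₀ := by
      intro c hc
      obtain ⟨κ₁, κ₂, rfl⟩ := surj p₂ hp₂ hp₂0 c hc
      have e : p₁ * p₂⁻¹ * (p₂ * ((κ₁.1 : K) + θ • (κ₂.1 : K)))
          = (κ₁.1 : K) * p₁ + θ • ((κ₂.1 : K) * p₁) := by
        rw [mul_add, mul_smul_comm, mul_add, mul_smul_comm]
        have : ∀ z : K, p₁ * p₂⁻¹ * (p₂ * z) = z * p₁ := by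
          intro z
          field_simp
        rw [this, this]
      rw [e]
      exact D₀.add_mem (kmem κ₁ p₁ hp₁) (D₀.smul_mem θ (kmem κ₂ p₁ hp₁))
    obtain ⟨a, ha⟩ := Cfsg.Agent.Lib.Helper10_UX_MULT.mult_mem_F hr D₀ hD0 hD1 (p₁ * p₂⁻¹) hmul
    refine ⟨a, ?_⟩
    rw [Algebra.smul_def, ← ha]
    field_simp
  -- the output
  obtain ⟨e₀, he₀, he₀0⟩ := (Submodule.ne_bot_iff E).mp hE
  exact ⟨e₀, he₀0, he₀, fun e he => line e he e₀ he₀ he₀0⟩

end Cfsg.Agent.Lib.Helper47_UXm_CFGK
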