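import Cfsg.Agent.S0622
import Cfsg.Agent.Lib.Helper11_ZJ

/-!
# Stellmacher's characteristic subgroup `W(S)` (KS 9.4)

* `quad_step`: the Frattini step — if `N = ⟨U^H⟩` is a normal subgroup on which `H` acts
  `p`-stably, and every element of a Sylow `p`-subgroup `P` acting quadratically on `U`
  centralizes `U`, then every element of `P` acting quadratically on `N` centralizes `N`.
* `no_quadratic`: no element of `S` acts quadratically and nontrivially on `W(S)` (= S0623).
-/

set_option autoImplicit false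

namespace Cfsg.Agent.Lib.Helper47_WS

open Cfsg
open Cfsg.Agent.Lib.Helper11_ZJ

universe u

/-! ### Generalities on quadratic action -/

section general

variable {H : Type*} [Group H]

/-- conjugating a quadratically acting element (on a normal subgroup) -/
theorem quad_conj (N : Subgroup H) [hN : N.Normal] (x n : H)
    (h : ⁅⁅N, Subgroup.zpowers x⁆, Subgroup.zpowers x⁆ = ⊥) :
    ⁅⁅N, Subgroup.zpowers (n * x * n⁻¹)⁆, Subgroup.zpowers (n * x * n⁻¹)⁆ = ⊥ := by
  have h1 : N.map (MulAut.conj n).toMonoidHom = N :=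
    Subgroup.mem_normalizer_iff_map_conj_eq.mp (by rw [Subgroup.normalizer_eq_top]; trivial)
  have h2 : (Subgroup.zpowers x).map (MulAut.conj n).toMonoidHom =
      Subgroup.zpowers (n * x * n⁻¹) := by
    rw [MonoidHom.map_zpowers]; rfl
  have h3 := congrArg (Subgroup.map (MulAut.conj n).toMonoidHom) h
  rw [Subgroup.map_commutator, Subgroup.map_commutator, h1, h2, Subgroup.map_bot] at h3
  exact h3

theorem commutator_zpowers_eq_bot_iff (U : Subgroup H) (x : H) :
    ⁅U, Subgroup.zpowers x⁆ = ⊥ ↔ ∀ u ∈ U, x * u = u * x := by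
  rw [Subgroup.commutator_eq_bot_iff_le_centralizer]
  constructor
  · intro h u hu
    exact (Subgroup.mem_centralizer_iff.mp (h hu) x (Subgroup.mem_zpowers x))
  · intro h u hu
    rw [Subgroup.mem_centralizer_iff]
    intro y hy
    obtain ⟨k, rfl⟩ := Subgroup.mem_zpowers_iff.mp hy
    exact ((Commute.zpow_left (h u hu) k)).eq

/-- **The Frattini step.** -/
theorem quad_step [Finite H] {p : ℕ} [Fact p.Prime] (P : Sylow p H) (N : Subgroup H)
    [hN : N.Normal] (hst : Cfsg.IsPStableOn p N) (U : Subgroup H)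
    (hUN : Subgroup.normalClosure (U : Set H) = N)
    (hU : ∀ x ∈ P, ⁅⁅U, Subgroup.zpowers x⁆, Subgroup.zpowers x⁆ = ⊥ →
      ⁅U, Subgroup.zpowers x⁆ = ⊥) :
    ∀ x ∈ P, ⁅⁅N, Subgroup.zpowers x⁆, Subgroup.zpowers x⁆ = ⊥ →
      ⁅N, Subgroup.zpowers x⁆ = ⊥ := by
  intro x hxP hq
  obtain ⟨L, hLn, hCL, hidx, hL⟩ := stableOn_of_isPStableOn (P : Subgroup H) N hst
  have hxL : x ∈ L := hL x hxP hq
  have hUleN : U ≤ N := by rw [← hUN]; exact Subgroup.le_normalClosure
  have hCn : (Subgroup.centralizer (N : Set H)).Normal := inferInstance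
  rw [commutator_zpowers_eq_bot_iff]
  -- the centralizer of `x` contains all conjugates of `U`
  have hcl : Subgroup.normalClosure (U : Set H) ≤ Subgroup.centralizer ({x} : Set H) := by
    unfold Subgroup.normalClosure
    rw [Subgroup.closure_le]
    intro y hy
    obtain ⟨u, hu, huy⟩ := Group.mem_conjugatesOfSet_iff.mp hy
    obtain ⟨g, rfl⟩ := isConj_iff.mp huy
    have hu' : u ∈ U := hu
    rw [SetLike.mem_coe, Subgroup.mem_centralizer_singleton_iff]
    obtain ⟨c, hc, n, hn, rfl⟩ := exists_mul_normalizer P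
      (Subgroup.centralizer (N : Set H)) L hCL hidx g
    -- `c n u n⁻¹ c⁻¹ = n u n⁻¹`
    have hnu : n * u * n⁻¹ ∈ N := hN.conj_mem u (hUleN hu') n
    have hcn : c * (n * u * n⁻¹) = (n * u * n⁻¹) * c :=
      (Subgroup.mem_centralizer_iff.mp hc (n * u * n⁻¹) hnu).symm
    have e1 : (c * n) * u * (c * n)⁻¹ = n * u * n⁻¹ := by
      have : (c * n) * u * (c * n)⁻¹ = c * (n * u * n⁻¹) * c⁻¹ := by group
      rw [this, hcn]; group
    rw [e1]
    -- `x' = n⁻¹ x n ∈ P ⊓ L` acts quadratically on `U`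
    have hx' : n⁻¹ * x * n ∈ ((P : Subgroup H) ⊓ L : Subgroup H) := by
      have h1 := (Subgroup.mem_normalizer_iff.mp (Subgroup.inv_mem _ hn) x).mp ⟨hxP, hxL⟩
      simpa using h1
    have hq' : ⁅⁅N, Subgroup.zpowers (n⁻¹ * x * n)⁆, Subgroup.zpowers (n⁻¹ * x * n)⁆ = ⊥ := by
      have := quad_conj N x n⁻¹ hq
      simpa using this
    have hq'' : ⁅⁅U, Subgroup.zpowers (n⁻¹ * x * n)⁆, Subgroup.zpowers (n⁻¹ * x * n)⁆ = ⊥ := by
      rw [eq_bot_iff, ← hq']
      exact Subgroup.commutator_mono (Subgroup.commutator_mono hUleN le_rfl) le_rfl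
    have h2 := (commutator_zpowers_eq_bot_iff U _).mp (hU _ hx'.1 hq'') u hu'
    -- conclude
    calc n * u * n⁻¹ * x = n * (u * (n⁻¹ * x * n)) * n⁻¹ := by group
      _ = n * ((n⁻¹ * x * n) * u) * n⁻¹ := by rw [h2]
      _ = x * (n * u * n⁻¹) := by group
  intro v hv
  have hv' : v ∈ Subgroup.normalClosure (U : Set H) := by rw [hUN]; exact hv
  have := Subgroup.mem_centralizer_singleton_iff.mp (hcl hv')
  exact this.symm

end general

/-! ### `W(S)` -/

section WS

open Cfsg.Agent.S0622

variable {S : Type u} [Group S]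

theorem le_stableNormalClosure (p : ℕ) :
    Cfsg.omegaOne p (Subgroup.center S) ≤ Cfsg.stableNormalClosure p S := by
  rw [stableNormalClosure_eq]
  exact le_sInf fun W hW => hW.1

theorem stableNormalClosure_le [Finite S] (p : ℕ) :
    Cfsg.stableNormalClosure p S ≤ Cfsg.omegaCenterThompson p S := by
  rw [stableNormalClosure_eq]
  exact sInf_le (omegaCenterThompson_mem_fam p)

/-- The image of `W(S)` under a stable embedding is normal. -/
theorem stableNormalClosure_map_normal [Finite S] (p : ℕ) {H : Type u} [Group H] (τ : S →* H)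
    (hτ : Cfsg.IsStableEmbedding p τ) : ((Cfsg.stableNormalClosure p S).map τ).Normal := by
  have hinj : Function.Injective τ := hτ.1
  constructor
  rintro _ ⟨w, hw, rfl⟩ h
  have hw' : w ∈ sInf (Fam p S) := hw
  rw [Subgroup.mem_sInf] at hw'
  -- the candidate preimage, from the member `Ω₁Z(J(S))`
  have h0 := ((omegaCenterThompson_mem_fam (S := S) p).2 H τ hτ).conj_mem (τ w)
    (Subgroup.mem_map_of_mem τ (hw' _ (omegaCenterThompson_mem_fam p))) h
  obtain ⟨w₀, _, hw₀⟩ := h0
  refine ⟨w₀, ?_, hw₀⟩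
  show w₀ ∈ sInf (Fam p S)
  rw [Subgroup.mem_sInf]
  intro F hF
  have h1 := (hF.2 H τ hτ).conj_mem (τ w) (Subgroup.mem_map_of_mem τ (hw' F hF)) h
  obtain ⟨w₁, hw₁, hw₁'⟩ := h1
  have : w₁ = w₀ := hinj (hw₁'.trans hw₀.symm)
  rwa [this] at hw₁

theorem stableNormalClosure_mem_fam [Finite S] (p : ℕ) :
    Cfsg.stableNormalClosure p S ∈ Fam p S :=
  ⟨le_stableNormalClosure p, fun _ _ τ hτ => stableNormalClosure_map_normal p τ hτ⟩

theorem omegaOne_center_le_center (p : ℕ) :
    Cfsg.omegaOne p (Subgroup.center S) ≤ Subgroup.center S := by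
  unfold Cfsg.omegaOne
  rw [Subgroup.closure_le]
  intro x hx
  exact hx.1

/-- transporting commutators with cyclic subgroups along an injective homomorphism -/
theorem map_commutator_zpowers {H : Type*} [Group H] (τ : S →* H) (U : Subgroup S) (x : S) :
    (⁅U, Subgroup.zpowers x⁆).map τ = ⁅U.map τ, Subgroup.zpowers (τ x)⁆ := by
  rw [Subgroup.map_commutator, MonoidHom.map_zpowers]

theorem map_commutator_zpowers₂ {H : Type*} [Group H] (τ : S →* H) (U : Subgroup S) (x : S) :
    (⁅⁅U, Subgroup.zpowers x⁆, Subgroup.zpowers x⁆).map τ =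
      ⁅⁅U.map τ, Subgroup.zpowers (τ x)⁆, Subgroup.zpowers (τ x)⁆ := by
  rw [Subgroup.map_commutator, Subgroup.map_commutator, MonoidHom.map_zpowers]

/-- The property "no quadratic action of elements of `S`". -/
def NoQuad (U : Subgroup S) : Prop :=
  ∀ x : S, ⁅⁅U, Subgroup.zpowers x⁆, Subgroup.zpowers x⁆ = ⊥ → ⁅U, Subgroup.zpowers x⁆ = ⊥

/-- The Frattini step for a stable embedding: if `U ≤ W(S)` has no quadratic action, neither does
the preimage of the normal closure of its image. -/
theorem noQuad_closure [Finite S] {p : ℕ} [Fact p.Prime] {H : Type u} [Group H] (τ : S →* H)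
    (hτ : Cfsg.IsStableEmbedding p τ) (U : Subgroup S) (hUW : U ≤ Cfsg.stableNormalClosure p S)
    (hU : NoQuad U) :
    (Subgroup.normalClosure ((U.map τ : Subgroup H) : Set H)).comap τ ≤
        Cfsg.stableNormalClosure p S ∧
      NoQuad ((Subgroup.normalClosure ((U.map τ : Subgroup H) : Set H)).comap τ) := by
  have hτ' := hτ
  obtain ⟨hinj, hfin, ⟨P, hP⟩, _, _, hst⟩ := hτ
  have hWn : ((Cfsg.stableNormalClosure p S).map τ).Normal :=
    stableNormalClosure_map_normal p τ hτ'
  set N := Subgroup.normalClosure ((U.map τ : Subgroup H) : Set H) with hN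
  have hNW : N ≤ (Cfsg.stableNormalClosure p S).map τ :=
    Subgroup.normalClosure_le_normal (Subgroup.map_mono hUW)
  have hNr : N ≤ τ.range := hNW.trans (Subgroup.map_le_range τ _)
  have hmap : (N.comap τ).map τ = N := Subgroup.map_comap_eq_self hNr
  have h1 : N.comap τ ≤ Cfsg.stableNormalClosure p S := by
    have := Subgroup.comap_mono (f := τ) hNW
    rwa [Subgroup.comap_map_eq_self_of_injective hinj] at this
  refine ⟨h1, ?_⟩
  intro x hq
  have hNn : N.Normal := Subgroup.normalClosure_normal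
  have hNB : N ≤ (Cfsg.omegaCenterThompson p S).map τ :=
    hNW.trans (Subgroup.map_mono (stableNormalClosure_le p))
  have hq' : ⁅⁅N, Subgroup.zpowers (τ x)⁆, Subgroup.zpowers (τ x)⁆ = ⊥ := by
    rw [← hmap, ← map_commutator_zpowers₂, hq, Subgroup.map_bot]
  have hxP : τ x ∈ P := by
    show τ x ∈ (P : Subgroup H)
    rw [hP]; exact ⟨x, rfl⟩
  have key := quad_step P N (hst N hNB) (U.map τ) rfl ?_ (τ x) hxP hq'
  · rw [← hmap, ← map_commutator_zpowers] at key
    exact (Subgroup.map_eq_bot_iff_of_injective _ hinj).mp key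
  · intro y hy hyq
    have hy' : y ∈ τ.range := by rw [← hP]; exact hy
    obtain ⟨x', rfl⟩ := hy'
    rw [← map_commutator_zpowers₂] at hyq
    have := hU x' ((Subgroup.map_eq_bot_iff_of_injective _ hinj).mp hyq)
    rw [← map_commutator_zpowers, this, Subgroup.map_bot]

/-- **No element of `S` acts quadratically and nontrivially on `W(S)`** (KS 9.4.4). -/
theorem no_quadratic [Finite S] {p : ℕ} [Fact p.Prime] :
    NoQuad (Cfsg.stableNormalClosure p S) := by
  let 𝓟 : Set (Subgroup S) := {U | Cfsg.omegaOne p (Subgroup.center S) ≤ U ∧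
    U ≤ Cfsg.stableNormalClosure p S ∧ NoQuad U}
  have h0 : Cfsg.omegaOne p (Subgroup.center S) ∈ 𝓟 := by
    refine ⟨le_rfl, le_stableNormalClosure p, ?_⟩
    intro x _
    rw [Subgroup.commutator_eq_bot_iff_le_centralizer]
    exact (omegaOne_center_le_center p).trans (Subgroup.center_le_centralizer _)
  have hmax : sSup 𝓟 ∈ 𝓟 := by
    refine ⟨le_sSup h0, sSup_le fun U hU => hU.2.1, ?_⟩
    intro x hq
    rw [Subgroup.commutator_eq_bot_iff_le_centralizer]
    apply sSup_le
    intro U hU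
    rw [← Subgroup.commutator_eq_bot_iff_le_centralizer]
    apply hU.2.2 x
    rw [eq_bot_iff, ← hq]
    exact Subgroup.commutator_mono (Subgroup.commutator_mono (le_sSup hU) le_rfl) le_rfl
  have hfam : sSup 𝓟 ∈ Fam p S := by
    refine ⟨hmax.1, ?_⟩
    intro H _ τ hτ
    obtain ⟨h1, h2⟩ := noQuad_closure τ hτ (sSup 𝓟) hmax.2.1 hmax.2.2
    have hle : (sSup 𝓟).map τ ≤ Subgroup.normalClosure (((sSup 𝓟).map τ : Subgroup H) : Set H) :=
      Subgroup.le_normalClosure
    have h3 : (Subgroup.normalClosure (((sSup 𝓟).map τ : Subgroup H) : Set H)).comap τ ∈ 𝓟 :=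
      ⟨hmax.1.trans (Subgroup.map_le_iff_le_comap.mp hle), h1, h2⟩
    have h4 : (Subgroup.normalClosure (((sSup 𝓟).map τ : Subgroup H) : Set H)).comap τ ≤ sSup 𝓟 :=
      le_sSup h3
    have hNr : Subgroup.normalClosure (((sSup 𝓟).map τ : Subgroup H) : Set H) ≤ τ.range := by
      have hWn : ((Cfsg.stableNormalClosure p S).map τ).Normal :=
        stableNormalClosure_map_normal p τ hτ
      exact (Subgroup.normalClosure_le_normal (Subgroup.map_mono hmax.2.1)).trans
        (Subgroup.map_le_range τ _)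
    have h5 : Subgroup.normalClosure (((sSup 𝓟).map τ : Subgroup H) : Set H) ≤ (sSup 𝓟).map τ := by
      rw [← Subgroup.map_comap_eq_self hNr]
      exact Subgroup.map_mono h4
    rw [le_antisymm hle h5]
    exact Subgroup.normalClosure_normal
  have heq : Cfsg.stableNormalClosure p S = sSup 𝓟 :=
    le_antisymm (by rw [stableNormalClosure_eq]; exact sInf_le hfam) hmax.2.1
  rw [heq]
  exact hmax.2.2

end WS

end Cfsg.Agent.Lib.Helper47_WS
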