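/-
Helper library (helper93): the "large extraspecial" setting.
`tc x` is the largest normal 2-subgroup of the centralizer of `x`, viewed in `G`.
Everything lives in `Cfsg.Agent.Lib.Helper93_LES`.
-/
import Mathlib
import Cfsg.Prelude.Def_Solvable
import Cfsg.Prelude.Def_Transfer

set_option autoImplicit false

namespace Cfsg.Agent.Lib.Helper93_LES

open Cfsg
open scoped commutatorElement

variable {G : Type*} [Group G]

/-- `O_p(G)` is normal. -/
theorem pCore_normal (p : ℕ) (H : Type*) [Group H] : (pCore p H).Normal := by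
  unfold pCore
  exact Subgroup.sSup_normal _ (fun N hN => hN.1)

/-- `O_p(G)` is a `p`-group (when Sylow subgroups exist, e.g. `G` finite). -/
theorem pCore_isPGroup (p : ℕ) [Fact p.Prime] (H : Type*) [Group H] : IsPGroup p (pCore p H) := by
  unfold pCore
  exact Sylow.sSup_of_normal _ (fun N hN => hN.2) (fun N hN => hN.1)

theorem le_pCore (p : ℕ) {H : Type*} [Group H] (N : Subgroup H) (hN : N.Normal) (hp : IsPGroup p N) :
    N ≤ pCore p H := by
  unfold pCore
  exact le_sSup ⟨hN, hp⟩

/-- The largest normal 2-subgroup of the centralizer of `x`, as a subgroup of `G`. -/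
def tc (x : G) : Subgroup G :=
  (pCore 2 ↥(Subgroup.centralizer ({x} : Set G))).map (Subgroup.centralizer ({x} : Set G)).subtype

theorem tc_le_centralizer (x : G) : tc x ≤ Subgroup.centralizer ({x} : Set G) := by
  unfold tc
  exact Subgroup.map_subtype_le _

theorem tc_isPGroup (x : G) : IsPGroup 2 (tc x) := by
  have : Fact (Nat.Prime 2) := ⟨Nat.prime_two⟩
  unfold tc
  exact (pCore_isPGroup 2 _).map _

theorem commute_of_mem_tc {x y : G} (hy : y ∈ tc x) : y * x = x * y := by
  have := tc_le_centralizer x hy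
  rw [Subgroup.mem_centralizer_iff] at this
  exact (this x (Set.mem_singleton x)).symm

/-- The centralizer normalizes `tc x`. -/
theorem conj_mem_tc {x y c : G} (hy : y ∈ tc x) (hc : c ∈ Subgroup.centralizer ({x} : Set G)) :
    c * y * c⁻¹ ∈ tc x := by
  unfold tc at hy ⊢
  obtain ⟨y', hy', rfl⟩ := hy
  have hn := pCore_normal 2 ↥(Subgroup.centralizer ({x} : Set G))
  have := hn.conj_mem y' hy' ⟨c, hc⟩
  exact ⟨_, this, rfl⟩

/-- A 2-subgroup of `G` contained in and normalized by the centralizer of `x` lies in `tc x`. -/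
theorem le_tc {x : G} (N : Subgroup G) (hN : N ≤ Subgroup.centralizer ({x} : Set G))
    (hnorm : ∀ c ∈ Subgroup.centralizer ({x} : Set G), ∀ n ∈ N, c * n * c⁻¹ ∈ N)
    (hp : IsPGroup 2 N) : N ≤ tc x := by
  intro n hn
  unfold tc
  have h1 : (N.subgroupOf (Subgroup.centralizer ({x} : Set G))) ≤ pCore 2 ↥(Subgroup.centralizer ({x} : Set G)) := by
    apply le_pCore
    · constructor
      intro a ha c
      rw [Subgroup.mem_subgroupOf] at ha ⊢
      simpa using hnorm c.1 c.2 a.1 ha
    · exact hp.comap_subtype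
  exact ⟨⟨n, hN hn⟩, h1 (by rw [Subgroup.mem_subgroupOf]; exact hn), rfl⟩

/-- Conjugation equivariance of `tc`. -/
theorem mem_tc_conj {x y : G} (h : G) (hy : y ∈ tc x) : h * y * h⁻¹ ∈ tc (h * x * h⁻¹) := by
  have key : (tc x).map (MulAut.conj h).toMonoidHom ≤ tc (h * x * h⁻¹) := by
    apply le_tc
    · rintro _ ⟨n, hn, rfl⟩
      rw [Subgroup.mem_centralizer_iff]
      intro w hw
      rw [Set.mem_singleton_iff] at hw
      subst hw
      have := commute_of_mem_tc hn
      simp only [MulEquiv.coe_toMonoidHom, MulAut.conj_apply]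
      calc h * x * h⁻¹ * (h * n * h⁻¹) = h * (x * n) * h⁻¹ := by group
        _ = h * (n * x) * h⁻¹ := by rw [this]
        _ = h * n * h⁻¹ * (h * x * h⁻¹) := by group
    · rintro c hc _ ⟨n, hn, rfl⟩
      have hc' : h⁻¹ * c * h ∈ Subgroup.centralizer ({x} : Set G) := by
        rw [Subgroup.mem_centralizer_iff] at hc ⊢
        intro w hw
        rw [Set.mem_singleton_iff] at hw
        subst hw
        have := hc (h * w * h⁻¹) (Set.mem_singleton _)
        calc w * (h⁻¹ * c * h) = h⁻¹ * ((h * w * h⁻¹) * c) * h := by group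
          _ = h⁻¹ * (c * (h * w * h⁻¹)) * h := by rw [this]
          _ = h⁻¹ * c * h * w := by group
      have := conj_mem_tc hn hc'
      refine ⟨_, this, ?_⟩
      simp only [MulEquiv.coe_toMonoidHom, MulAut.conj_apply]
      group
    · exact (tc_isPGroup x).map _
  apply key
  exact ⟨y, hy, by simp [MulAut.conj_apply]⟩

theorem mem_tc_conj_iff {x y : G} (h : G) : h * y * h⁻¹ ∈ tc (h * x * h⁻¹) ↔ y ∈ tc x := by
  constructor
  · intro hy
    have := mem_tc_conj h⁻¹ hy
    have e1 : h⁻¹ * (h * y * h⁻¹) * h⁻¹⁻¹ = y := by group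
    have e2 : h⁻¹ * (h * x * h⁻¹) * h⁻¹⁻¹ = x := by group
    rwa [e1, e2] at this
  · exact mem_tc_conj h

/-- An element of 2-power order lies in `tc` of itself. -/
theorem self_mem_tc {x : G} (hx : x ^ 2 = 1) : x ∈ tc x := by
  have : Subgroup.zpowers x ≤ tc x := by
    apply le_tc
    · rw [Subgroup.zpowers_le]
      rw [Subgroup.mem_centralizer_iff]
      intro w hw
      rw [Set.mem_singleton_iff] at hw
      subst hw
      rfl
    · intro c hc n hn
      rw [Subgroup.mem_zpowers_iff] at hn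
      obtain ⟨k, rfl⟩ := hn
      rw [Subgroup.mem_centralizer_iff] at hc
      have h1 := hc x (Set.mem_singleton x)
      have : c * x ^ k * c⁻¹ = x ^ k := by
        have : Commute c x := h1.symm
        have := this.zpow_right k
        rw [this.eq]; group
      rw [this]
      exact Subgroup.zpow_mem_zpowers x k
    · rw [IsPGroup]
      rintro ⟨g, hg⟩
      rw [Subgroup.mem_zpowers_iff] at hg
      obtain ⟨k, rfl⟩ := hg
      refine ⟨1, ?_⟩
      ext
      simp only [pow_one, Subgroup.coe_pow, Subgroup.coe_one]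
      rw [← zpow_natCast, ← zpow_mul, mul_comm, zpow_mul, zpow_natCast, hx, one_zpow]
  exact this (Subgroup.mem_zpowers x)


/-- Elementwise summary of "`Q` is an extraspecial 2-group with centre generated by `z`, containing its
centralizer in `G`". -/
structure LES (Q : Subgroup G) (z : G) : Prop where
  ne_one : z ≠ 1
  sq : z * z = 1
  mem : z ∈ Q
  central : ∀ a ∈ Q, a * z = z * a
  comm : ∀ a ∈ Q, ∀ b ∈ Q, a * b * a⁻¹ * b⁻¹ = 1 ∨ a * b * a⁻¹ * b⁻¹ = z
  selfcent : ∀ c : G, (∀ b ∈ Q, c * b = b * c) → c = 1 ∨ c = z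

theorem eq_one_or_of_card_two {H : Type*} [Group H] (K : Subgroup H) (hK : Nat.card K = 2) {z : H} (hz : z ∈ K)
    (hz1 : z ≠ 1) {a : H} (ha : a ∈ K) : a = 1 ∨ a = z := by
  rw [Nat.card_eq_two_iff] at hK
  obtain ⟨u, v, huv, huniv⟩ := hK
  have h1 : (⟨1, K.one_mem⟩ : K) ∈ ({u, v} : Set K) := by rw [huniv]; trivial
  have h2 : (⟨z, hz⟩ : K) ∈ ({u, v} : Set K) := by rw [huniv]; trivial
  have h3 : (⟨a, ha⟩ : K) ∈ ({u, v} : Set K) := by rw [huniv]; trivial
  simp only [Set.mem_insert_iff, Set.mem_singleton_iff] at h1 h2 h3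
  have hz1' : (⟨z, hz⟩ : K) ≠ ⟨1, K.one_mem⟩ := by
    intro h; apply hz1; exact congrArg Subtype.val h
  rcases h1 with h1 | h1 <;> rcases h2 with h2 | h2 <;> rcases h3 with h3 | h3
  · exact absurd (h2.trans h1.symm) hz1'
  · exact absurd (h2.trans h1.symm) hz1'
  · left; exact congrArg Subtype.val (h3.trans h1.symm)
  · right; exact congrArg Subtype.val (h3.trans h2.symm)
  · right; exact congrArg Subtype.val (h3.trans h2.symm)
  · left; exact congrArg Subtype.val (h3.trans h1.symm)
  · exact absurd (h2.trans h1.symm) hz1'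
  · exact absurd (h2.trans h1.symm) hz1'

/-- The hypotheses of the statements give `LES (tc z) z`. -/
theorem les_of_hyp {z : G} (hz : orderOf z = 2) (hE : Cfsg.IsExtraspecial 2 ↥(tc z))
    (hC : Subgroup.centralizer ((tc z : Subgroup G) : Set G) ≤ tc z) : LES (tc z) z := by
  have hz2 : z ^ 2 = 1 := by rw [← hz]; exact pow_orderOf_eq_one z
  have hz1 : z ≠ 1 := by
    intro h; rw [h, orderOf_one] at hz; omega
  have hmem : z ∈ tc z := self_mem_tc hz2
  have hcen : ∀ a ∈ tc z, a * z = z * a := fun a ha => commute_of_mem_tc ha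
  obtain ⟨⟨_, _, hcomm⟩, hcard⟩ := hE
  -- z as an element of the centre of `tc z`
  have hzc : (⟨z, hmem⟩ : tc z) ∈ Subgroup.center (tc z) := by
    rw [Subgroup.mem_center_iff]
    rintro ⟨a, ha⟩
    ext
    exact hcen a ha
  have hzc1 : (⟨z, hmem⟩ : tc z) ≠ 1 := by
    intro h; apply hz1; exact congrArg Subtype.val h
  have hcenter : ∀ a : tc z, a ∈ Subgroup.center (tc z) → a = 1 ∨ a = ⟨z, hmem⟩ :=
    fun a ha => eq_one_or_of_card_two _ hcard hzc hzc1 ha
  refine ⟨hz1, by rw [← pow_two]; exact hz2, hmem, hcen, ?_, ?_⟩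
  · intro a ha b hb
    have h1 : ⁅(⟨a, ha⟩ : tc z), ⟨b, hb⟩⁆ ∈ commutator (tc z) :=
      Subgroup.commutator_mem_commutator (Subgroup.mem_top _) (Subgroup.mem_top _)
    rw [hcomm] at h1
    rcases hcenter _ h1 with h | h
    · left
      have := congrArg Subtype.val h
      simpa [commutatorElement_def] using this
    · right
      have := congrArg Subtype.val h
      simpa [commutatorElement_def] using this
  · intro c hc
    have hc' : c ∈ tc z := by
      apply hC
      rw [Subgroup.mem_centralizer_iff]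
      intro b hb
      exact (hc b hb).symm
    have : (⟨c, hc'⟩ : tc z) ∈ Subgroup.center (tc z) := by
      rw [Subgroup.mem_center_iff]
      rintro ⟨b, hb⟩
      ext
      exact (hc b hb).symm
    rcases hcenter _ this with h | h
    · left; exact congrArg Subtype.val h
    · right; exact congrArg Subtype.val h

/-- Transport of `LES` along conjugation. -/
theorem LES.conj {z : G} (h : LES (tc z) z) (g : G) : LES (tc (g * z * g⁻¹)) (g * z * g⁻¹) := by
  have tr : ∀ a, a ∈ tc (g * z * g⁻¹) ↔ g⁻¹ * a * g ∈ tc z := by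
    intro a
    have := @mem_tc_conj_iff G _ z (g⁻¹ * a * g) g
    rw [← this]
    have e : g * (g⁻¹ * a * g) * g⁻¹ = a := by group
    rw [e]
  refine ⟨?_, ?_, ?_, ?_, ?_, ?_⟩
  · intro hh
    apply h.ne_one
    have : z = g⁻¹ * (g * z * g⁻¹) * g := by group
    rw [this, hh]; group
  · calc g * z * g⁻¹ * (g * z * g⁻¹) = g * (z * z) * g⁻¹ := by group
      _ = 1 := by rw [h.sq]; group
  · rw [tr]
    have : g⁻¹ * (g * z * g⁻¹) * g = z := by group
    rw [this]; exact h.mem
  · intro a ha
    rw [tr] at ha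
    have := h.central _ ha
    calc a * (g * z * g⁻¹) = g * ((g⁻¹ * a * g) * z) * g⁻¹ := by group
      _ = g * (z * (g⁻¹ * a * g)) * g⁻¹ := by rw [this]
      _ = g * z * g⁻¹ * a := by group
  · intro a ha b hb
    rw [tr] at ha hb
    have e : a * b * a⁻¹ * b⁻¹ = g * ((g⁻¹ * a * g) * (g⁻¹ * b * g) * (g⁻¹ * a * g)⁻¹ * (g⁻¹ * b * g)⁻¹) * g⁻¹ := by
      group
    rcases h.comm _ ha _ hb with h1 | h1
    · left; rw [e, h1]; group
    · right; rw [e, h1]
  · intro c hc
    have : ∀ b ∈ tc z, (g⁻¹ * c * g) * b = b * (g⁻¹ * c * g) := by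
      intro b hb
      have hb' : g * b * g⁻¹ ∈ tc (g * z * g⁻¹) := mem_tc_conj g hb
      have := hc _ hb'
      calc g⁻¹ * c * g * b = g⁻¹ * (c * (g * b * g⁻¹)) * g := by group
        _ = g⁻¹ * ((g * b * g⁻¹) * c) * g := by rw [this]
        _ = b * (g⁻¹ * c * g) := by group
    rcases h.selfcent _ this with h1 | h1
    · left
      have : c = g * (g⁻¹ * c * g) * g⁻¹ := by group
      rw [this, h1]; group
    · right
      have : c = g * (g⁻¹ * c * g) * g⁻¹ := by group
      rw [this, h1]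


/-- Key lemma: for orthogonal singular `u`, `v`, we have `Q_u ∩ Q_v ≤ Q_{uv}`. -/
theorem tc_inter_le_tc_mul {u v : G} (hv : LES (tc v) v) (hu_mem : u ∈ tc v) (hu1 : u ≠ 1) (huv : u ≠ v)
    (hvuv : v ∈ tc (u * v)) {y : G} (hyu : y ∈ tc u) (hyv : y ∈ tc v) : y ∈ tc (u * v) := by
  -- some `c ∈ tc v` does not commute with `u`
  have hex : ∃ c ∈ tc v, c * u ≠ u * c := by
    by_contra hcon
    push_neg at hcon
    have : ∀ b ∈ tc v, u * b = b * u := fun b hb => (hcon b hb).symm
    rcases hv.selfcent u this with h | h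
    · exact hu1 h
    · exact huv h
  obtain ⟨c, hc, hcu⟩ := hex
  have hcomm_uv : u * v = v * u := commute_of_mem_tc hu_mem
  have h1 : c * u * c⁻¹ * u⁻¹ = v := by
    rcases hv.comm c hc u hu_mem with h | h
    · exfalso
      apply hcu
      calc c * u = (c * u * c⁻¹ * u⁻¹) * u * c := by group
        _ = u * c := by rw [h]; group
    · exact h
  have h2 : c * u * c⁻¹ = u * v := by
    calc c * u * c⁻¹ = (c * u * c⁻¹ * u⁻¹) * u := by group
      _ = v * u := by rw [h1]
      _ = u * v := hcomm_uv.symm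
  have h3 : c * y * c⁻¹ ∈ tc (u * v) := by
    have := mem_tc_conj c hyu
    rwa [h2] at this
  have h4 : (c * y * c⁻¹ * y⁻¹)⁻¹ ∈ tc (u * v) := by
    rcases hv.comm c hc y hyv with h | h
    · rw [h]; simp
    · rw [h]; exact Subgroup.inv_mem _ hvuv
  have : y = (c * y * c⁻¹ * y⁻¹)⁻¹ * (c * y * c⁻¹) := by group
  rw [this]
  exact Subgroup.mul_mem _ h4 h3

end Cfsg.Agent.Lib.Helper93_LES
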