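import Cfsg.Agent.Lib.Helper47_WS
import Cfsg.Agent.S0521
import Cfsg.Agent.S0607
import Cfsg.Agent.S0608
import Cfsg.Agent.S0609
import Cfsg.Agent.Lib.Helper47_Conj
import Cfsg.Agent.S4089
import Cfsg.Agent.Lib.Helper49_CharP
import Cfsg.Agent.Lib.Helper10_QuadAction

/-!
# The analogue of the ZJ-theorem for `W(S)` (KS 9.4.5)
-/

set_option autoImplicit false

namespace Cfsg.Agent.Lib.Helper47_WS

open Cfsg
open Cfsg.Agent.Lib.Helper11_ZJ

universe u

section ZJ

variable {G : Type u} [Group G]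

theorem normal_of_map_equiv_eq {X : Type*} [Group X] (N : Subgroup X)
    (h : ∀ e : X ≃* X, N.map e.toMonoidHom = N) : N.Normal := by
  constructor
  intro n hn g
  have h1 := h (MulAut.conj g)
  rw [← h1]
  exact ⟨n, hn, rfl⟩

theorem thompsonSubgroup_normal (p : ℕ) (X : Type u) [Group X] :
    (Cfsg.thompsonSubgroup p X).Normal :=
  normal_of_map_equiv_eq _ fun e => Cfsg.Agent.S0622.thompson_map e p

theorem omegaCenterThompson_normal (p : ℕ) (X : Type u) [Group X] :
    (Cfsg.omegaCenterThompson p X).Normal :=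
  normal_of_map_equiv_eq _ fun e => Cfsg.Agent.S0622.omegaCenterThompson_map e p

theorem stableNormalClosure_normal' (p : ℕ) (X : Type u) [Group X] :
    (Cfsg.stableNormalClosure p X).Normal :=
  normal_of_map_equiv_eq _ fun e => Cfsg.Agent.S0622.stableNormalClosure_map e p

/-- `S ≤ N_G(J(S))`. -/
theorem le_normalizer_thompson (p : ℕ) (T : Subgroup G) :
    T ≤ Subgroup.normalizer (Cfsg.thompsonSubgroupOf p T : Set G) := by
  have := thompsonSubgroup_normal p ↥T
  exact Cfsg.Agent.S4089.le_normalizer_map_subtype T (Cfsg.thompsonSubgroup p ↥T)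

theorem le_normalizer_omegaCenterThompson (p : ℕ) (T : Subgroup G) :
    T ≤ Subgroup.normalizer
      (((Cfsg.omegaCenterThompson p ↥T).map T.subtype : Subgroup G) : Set G) := by
  have := omegaCenterThompson_normal p ↥T
  exact Cfsg.Agent.S4089.le_normalizer_map_subtype T (Cfsg.omegaCenterThompson p ↥T)

theorem le_normalizer_stableNormalClosure (p : ℕ) (T : Subgroup G) :
    T ≤ Subgroup.normalizer
      (((Cfsg.stableNormalClosure p ↥T).map T.subtype : Subgroup G) : Set G) := by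
  have := stableNormalClosure_normal' p ↥T
  exact Cfsg.Agent.S4089.le_normalizer_map_subtype T (Cfsg.stableNormalClosure p ↥T)

variable [Finite G] {p : ℕ} [Fact p.Prime]

/-- The inclusion of a Sylow subgroup `S` into `N_G(J(S))` is a stable embedding. -/
theorem isStableEmbedding_inclusion
    (hc : Subgroup.centralizer (Cfsg.pCore p G : Set G) ≤ Cfsg.pCore p G) (S : Sylow p G)
    (hst3 : ∀ (V : Subgroup ↥(Subgroup.normalizer
        (Cfsg.thompsonSubgroupOf p (S : Subgroup G) : Set G))) [V.Normal],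
      V.map (Subgroup.normalizer (Cfsg.thompsonSubgroupOf p (S : Subgroup G) : Set G)).subtype ≤
        (Cfsg.omegaCenterThompson p ↥(S : Subgroup G)).map (S : Subgroup G).subtype →
      Cfsg.IsPStableOn p V) :
    Cfsg.IsStableEmbedding p
      (Subgroup.inclusion (le_normalizer_thompson p (S : Subgroup G))) := by
  set L := Subgroup.normalizer (Cfsg.thompsonSubgroupOf p (S : Subgroup G) : Set G) with hL
  have hSL : (S : Subgroup G) ≤ L := le_normalizer_thompson p (S : Subgroup G)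
  refine ⟨Subgroup.inclusion_injective hSL, inferInstance, ⟨S.subtype hSL, ?_⟩, ?_, ?_, ?_⟩
  · rw [Sylow.coe_subtype]
    ext x
    rw [Subgroup.mem_subgroupOf, MonoidHom.mem_range]
    constructor
    · intro hx
      exact ⟨⟨x.1, hx⟩, Subtype.ext rfl⟩
    · rintro ⟨y, rfl⟩
      exact y.2
  · have hQL : Cfsg.pCore p G ≤ Subgroup.normalizer (L : Set G) :=
      (Cfsg.Agent.Lib.Helper49_CharP.pCore_le_sylow S).trans (hSL.trans Subgroup.le_normalizer)
    exact Cfsg.Agent.Lib.Helper49_CharP.IsCharP.of_normalizedBy hc L hQL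
  · constructor
    rintro _ ⟨j, hj, rfl⟩ l
    have hlJ : (l : G) ∈ Subgroup.normalizer
        (Cfsg.thompsonSubgroupOf p (S : Subgroup G) : Set G) := l.2
    have h1 : (l : G) * ((j : ↥(S : Subgroup G)) : G) * (l : G)⁻¹ ∈
        Cfsg.thompsonSubgroupOf p (S : Subgroup G) :=
      (Subgroup.mem_normalizer_iff.mp hlJ _).mp ⟨j, hj, rfl⟩
    obtain ⟨j', hj', hjj'⟩ := h1
    refine ⟨j', hj', ?_⟩
    apply Subtype.ext
    simpa using hjj'
  · intro V _ hV
    apply hst3 V
    have h1 := Subgroup.map_mono (f := L.subtype) hV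
    rw [Subgroup.map_map, Subgroup.subtype_comp_inclusion] at h1
    exact h1

/-- `Ω₁Z(J(S)) ≤ O_p(G)` when `G` has characteristic `p` and acts `p`-stably on
`O_p(G)/Φ(O_p(G))`. -/
theorem omegaCenterThompson_le_pCore
    (hc : Subgroup.centralizer (Cfsg.pCore p G : Set G) ≤ Cfsg.pCore p G)
    [hΦn : ((frattini ↥(Cfsg.pCore p G)).map (Cfsg.pCore p G).subtype).Normal]
    (hst2 : Cfsg.IsPStableOnSection p (Cfsg.pCore p G)
      ((frattini ↥(Cfsg.pCore p G)).map (Cfsg.pCore p G).subtype)) (S : Sylow p G) :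
    (Cfsg.omegaCenterThompson p ↥(S : Subgroup G)).map (S : Subgroup G).subtype ≤
      Cfsg.pCore p G := by
  set Q := Cfsg.pCore p G with hQ
  set B := (Cfsg.omegaCenterThompson p ↥(S : Subgroup G)).map (S : Subgroup G).subtype with hB
  have hQn : Q.Normal := Cfsg.Agent.Lib.Helper49_CharP.pCoreNormal p G
  have hQp : IsPGroup p Q := Cfsg.Agent.Lib.Helper49_CharP.pCore_isPGroup p G
  have hQS : Q ≤ (S : Subgroup G) := Cfsg.Agent.Lib.Helper49_CharP.pCore_le_sylow S
  -- `B` is abelian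
  have hBea : Cfsg.IsElementaryAbelian p
      (Cfsg.omegaCenterThompson p ↥(S : Subgroup G)) :=
    Cfsg.Agent.Lib.Helper10_QuadAction.isElementaryAbelian_of_le_omegaCenterThompson
      (S : Subgroup G) (S : Subgroup G) _ le_rfl
  have hBc : ∀ x ∈ B, ∀ y ∈ B, x * y = y * x := by
    rintro _ ⟨x, hx, rfl⟩ _ ⟨y, hy, rfl⟩
    have hcomm : IsMulCommutative ↥(Cfsg.omegaCenterThompson p ↥(S : Subgroup G)) := hBea.1
    have := mul_comm' (⟨x, hx⟩ : ↥(Cfsg.omegaCenterThompson p ↥(S : Subgroup G))) ⟨y, hy⟩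
    have h2 : (x * y : ↥(S : Subgroup G)) = y * x := congrArg Subtype.val this
    have h3 := congrArg Subtype.val h2
    simpa using h3
  have hQB : Q ≤ Subgroup.normalizer (B : Set G) :=
    hQS.trans (le_normalizer_omegaCenterThompson p (S : Subgroup G))
  intro a ha
  have hquad : ⁅⁅Q, Subgroup.zpowers a⁆, Subgroup.zpowers a⁆ = ⊥ :=
    quadratic_of_normalizes hBc hQB ha
  obtain ⟨D, hDn, hKD, ⟨k, hk⟩, haD⟩ := hst2 a (by rw [hquad]; exact bot_le)
  -- the kernel is a `p`-group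
  have hKp : IsPGroup p (Cfsg.sectionKernel Q
      ((frattini ↥Q).map Q.subtype)) := by
    apply Cfsg.Agent.S0521.isPGroup_of_commutator_le_phi p Q hQp hc
    rw [Subgroup.commutator_le]
    intro q hq g hg
    unfold Cfsg.sectionKernel at hg
    rw [Subgroup.mem_comap, Subgroup.mem_centralizer_iff] at hg
    have h1 := hg (QuotientGroup.mk' _ q) (Subgroup.mem_map_of_mem _ hq)
    have h2 : (QuotientGroup.mk' ((frattini ↥Q).map Q.subtype)) (q * g * q⁻¹ * g⁻¹) = 1 := by
      simp only [map_mul, map_inv]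
      rw [h1]; group
    rw [commutatorElement_def]
    have h3 := (QuotientGroup.eq_one_iff _).mp h2
    exact h3
  have hDp : IsPGroup p D := by
    obtain ⟨j, hj⟩ := IsPGroup.iff_card.mp hKp
    apply IsPGroup.of_card (n := j + k)
    rw [← Cfsg.Agent.S0608.card_mul_relIndex' hKD, hj, hk, pow_add]
  exact Cfsg.Agent.Lib.Helper49_CharP.le_pCore hDn hDp haD

/-- **The analogue of the ZJ-theorem** (KS 9.4.5): in an action-`p`-stable group of
characteristic `p`, `W(S)` is normal. -/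
theorem stableNormalClosure_map_normal_of_isActionPStable (hst : Cfsg.IsActionPStable p G)
    (hc : Subgroup.centralizer (Cfsg.pCore p G : Set G) ≤ Cfsg.pCore p G) (S : Sylow p G) :
    ((Cfsg.stableNormalClosure p ↥(S : Subgroup G)).map (S : Subgroup G).subtype).Normal := by
  obtain ⟨hst1, hst2, hst3⟩ := hst
  set Q := Cfsg.pCore p G with hQ
  set W := (Cfsg.stableNormalClosure p ↥(S : Subgroup G)).map (S : Subgroup G).subtype with hW
  set L := Subgroup.normalizer (Cfsg.thompsonSubgroupOf p (S : Subgroup G) : Set G) with hL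
  have hQn : Q.Normal := Cfsg.Agent.Lib.Helper49_CharP.pCoreNormal p G
  have hSL : (S : Subgroup G) ≤ L := le_normalizer_thompson p (S : Subgroup G)
  have hQS : Q ≤ (S : Subgroup G) := Cfsg.Agent.Lib.Helper49_CharP.pCore_le_sylow S
  have hWQ : W ≤ Q :=
    (Subgroup.map_mono (stableNormalClosure_le p)).trans (omegaCenterThompson_le_pCore hc hst2 S)
  have hSW : (S : Subgroup G) ≤ Subgroup.normalizer (W : Set G) :=
    le_normalizer_stableNormalClosure p (S : Subgroup G)
  -- (B) `L` normalizes `W`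
  have hLW : ∀ l ∈ L, ∀ w ∈ W, l * w * l⁻¹ ∈ W := by
    intro l hl w hw
    have hemb := isStableEmbedding_inclusion hc S (fun V _ hV => hst3 S V hV)
    have hn := stableNormalClosure_map_normal p _ hemb
    obtain ⟨w', hw', rfl⟩ := hw
    have h1 := hn.conj_mem (Subgroup.inclusion hSL w') (Subgroup.mem_map_of_mem _ hw') ⟨l, hl⟩
    obtain ⟨w'', hw'', h2⟩ := h1
    refine ⟨w'', hw'', ?_⟩
    have h3 := congrArg Subtype.val h2
    simpa using h3
  -- `W` is elementary abelian
  have hWea : Cfsg.IsElementaryAbelian p (Cfsg.stableNormalClosure p ↥(S : Subgroup G)) :=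
    Cfsg.Agent.Lib.Helper10_QuadAction.isElementaryAbelian_of_le_omegaCenterThompson
      (S : Subgroup G) (S : Subgroup G) _ (Subgroup.map_mono (stableNormalClosure_le p))
  have hWc : ∀ x ∈ W, ∀ y ∈ W, x * y = y * x := by
    rintro _ ⟨x, hx, rfl⟩ _ ⟨y, hy, rfl⟩
    have hcomm : IsMulCommutative ↥(Cfsg.stableNormalClosure p ↥(S : Subgroup G)) := hWea.1
    have := mul_comm' (⟨x, hx⟩ : ↥(Cfsg.stableNormalClosure p ↥(S : Subgroup G))) ⟨y, hy⟩
    have h2 : (x * y : ↥(S : Subgroup G)) = y * x := congrArg Subtype.val this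
    have h3 := congrArg Subtype.val h2
    simpa using h3
  have hWp : ∀ x ∈ W, x ^ p = 1 := by
    rintro _ ⟨x, hx, rfl⟩
    have h1 := hWea.2 x hx
    have h2 := congrArg Subtype.val h1
    simpa using h2
  -- no quadratic action on `W`, in `G`
  have hnq : ∀ x ∈ S, ⁅⁅W, Subgroup.zpowers x⁆, Subgroup.zpowers x⁆ = ⊥ →
      ⁅W, Subgroup.zpowers x⁆ = ⊥ := by
    intro x hx hq
    have h1 := no_quadratic (S := ↥(S : Subgroup G)) (p := p) ⟨x, hx⟩ (by
      apply (Subgroup.map_eq_bot_iff_of_injective _ (S : Subgroup G).subtype_injective).mp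
      rw [map_commutator_zpowers₂]
      exact hq)
    have h2 := congrArg (Subgroup.map (S : Subgroup G).subtype) h1
    rw [map_commutator_zpowers, Subgroup.map_bot] at h2
    exact h2
  -- (C) conjugates of `W` commute with `W`
  have hcomm : ∀ g : G, ∀ w ∈ W, ∀ v ∈ W, (g * w * g⁻¹) * v = v * (g * w * g⁻¹) := by
    intro g w hw
    have hyQ : g * w * g⁻¹ ∈ Q := hQn.conj_mem w (hWQ hw) g
    have hyS : g * w * g⁻¹ ∈ (S : Subgroup G) := hQS hyQ
    set y := g * w * g⁻¹ with hy
    set X := W.map (MulAut.conj g).toMonoidHom with hX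
    have hyX : y ∈ X := ⟨w, hw, rfl⟩
    have hXc : ∀ a ∈ X, ∀ b ∈ X, a * b = b * a := by
      rintro _ ⟨a, ha, rfl⟩ _ ⟨b, hb, rfl⟩
      have := hWc a ha b hb
      simp only [MulEquiv.coe_toMonoidHom, MulAut.conj_apply]
      calc g * a * g⁻¹ * (g * b * g⁻¹) = g * (a * b) * g⁻¹ := by group
        _ = g * (b * a) * g⁻¹ := by rw [this]
        _ = g * b * g⁻¹ * (g * a * g⁻¹) := by group
    have hWX : W ≤ Subgroup.normalizer (X : Set G) := by
      intro v hv
      have h1 : g⁻¹ * v * g ∈ Q := by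
        have := hQn.conj_mem v (hWQ hv) g⁻¹
        simpa using this
      have h2 : g⁻¹ * v * g ∈ Subgroup.normalizer (W : Set G) := hSW (hQS h1)
      rw [hX, Cfsg.Agent.Lib.Helper47_Conj.normalizer_map_conj]
      exact ⟨g⁻¹ * v * g, h2, by simp [mul_assoc]⟩
    have hzy : Subgroup.zpowers y ≤ X := by
      rw [Subgroup.zpowers_le]; exact hyX
    have hq : ⁅⁅W, Subgroup.zpowers y⁆, Subgroup.zpowers y⁆ = ⊥ := by
      have h1 : ⁅W, Subgroup.zpowers y⁆ ≤ X := by
        rw [Subgroup.commutator_le]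
        intro v hv z hz
        have hzX := hzy hz
        have h2 : v * z * v⁻¹ ∈ X := (Subgroup.mem_normalizer_iff.mp (hWX hv) z).mp hzX
        rw [commutatorElement_def]
        exact X.mul_mem h2 (X.inv_mem hzX)
      rw [eq_bot_iff]
      calc ⁅⁅W, Subgroup.zpowers y⁆, Subgroup.zpowers y⁆ ≤ ⁅X, Subgroup.zpowers y⁆ :=
            Subgroup.commutator_mono h1 le_rfl
        _ = ⊥ := by
          rw [Subgroup.commutator_eq_bot_iff_le_centralizer]
          intro a ha
          rw [Subgroup.mem_centralizer_iff]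
          intro z hz
          exact hXc z (hzy hz) a ha
    have h3 := hnq y hyS hq
    intro v hv
    exact (commutator_zpowers_eq_bot_iff W y).mp h3 v hv
  -- (D) the normal closure of `W` is elementary abelian
  set V1 := Subgroup.normalClosure (W : Set G) with hV1
  have hV1n : V1.Normal := Subgroup.normalClosure_normal
  have hgen : ∀ x ∈ Group.conjugatesOfSet (W : Set G), ∃ g : G, ∃ w ∈ W, x = g * w * g⁻¹ := by
    intro x hx
    obtain ⟨w, hw, hwx⟩ := Group.mem_conjugatesOfSet_iff.mp hx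
    obtain ⟨g, rfl⟩ := isConj_iff.mp hwx
    exact ⟨g, w, hw, rfl⟩
  have hcc : ∀ x ∈ Group.conjugatesOfSet (W : Set G), ∀ y ∈ Group.conjugatesOfSet (W : Set G),
      x * y = y * x := by
    intro x hx y hy
    obtain ⟨g1, w1, hw1, rfl⟩ := hgen x hx
    obtain ⟨g2, w2, hw2, rfl⟩ := hgen y hy
    have := hcomm (g2⁻¹ * g1) w1 hw1 w2 hw2
    calc g1 * w1 * g1⁻¹ * (g2 * w2 * g2⁻¹)
        = g2 * ((g2⁻¹ * g1) * w1 * (g2⁻¹ * g1)⁻¹ * w2) * g2⁻¹ := by group
      _ = g2 * (w2 * ((g2⁻¹ * g1) * w1 * (g2⁻¹ * g1)⁻¹)) * g2⁻¹ := by rw [this]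
      _ = g2 * w2 * g2⁻¹ * (g1 * w1 * g1⁻¹) := by group
  have hV1c : IsMulCommutative V1 := Subgroup.isMulCommutative_closure hcc
  have hV1ea : Cfsg.IsElementaryAbelian p V1 := by
    refine ⟨hV1c, ?_⟩
    intro a ha
    have ha' : a ∈ Subgroup.closure (Group.conjugatesOfSet (W : Set G)) := ha
    induction ha' using Subgroup.closure_induction with
    | mem x hx =>
      obtain ⟨g, w, hw, rfl⟩ := hgen x hx
      rw [conj_pow, hWp w hw]; simp
    | one => simp
    | mul x y hx hy ihx ihy =>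
      have hxy : x * y = y * x := by
        have := mul_comm' (⟨x, hx⟩ : V1) ⟨y, hy⟩
        exact congrArg Subtype.val this
      have hc' : Commute x y := hxy
      rw [hc'.mul_pow, ihx hx, ihy hy, one_mul]
    | inv x hx ih => rw [inv_pow, ih hx, inv_one]
  -- (E) the Frattini step in `G`
  have hV1st : Cfsg.IsPStableOn p V1 := hst1 V1 hV1ea
  have hV1q := quad_step S V1 hV1st W rfl hnq
  -- (F) `J(S)` centralizes `V1`
  have hV1Q : V1 ≤ Q := Subgroup.normalClosure_le_normal hWQ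
  have hJC : Cfsg.thompsonSubgroupOf p (S : Subgroup G) ≤ Subgroup.centralizer (V1 : Set G) := by
    rw [Cfsg.Agent.S0608.thompsonSubgroupOf_sylow_eq_Jm]
    apply sSup_le
    rintro A ⟨hAS, hA⟩
    obtain ⟨_, h2, h3⟩ := Cfsg.Agent.S0607.result V1 hV1ea A hA
    have hA0S : ⁅V1, A⁆ ⊔ (A ⊓ Subgroup.centralizer ((⁅V1, A⁆ : Subgroup G) : Set G)) ≤
        (S : Subgroup G) :=
      sup_le ((Subgroup.commutator_le_left V1 A).trans (hV1Q.trans hQS)) (inf_le_left.trans hAS)
    have h4 : ⁅V1, ⁅V1, A⁆ ⊔ (A ⊓ Subgroup.centralizer ((⁅V1, A⁆ : Subgroup G) : Set G))⁆ = ⊥ := by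
      rw [Subgroup.commutator_eq_bot_iff_le_centralizer]
      intro v hv
      rw [Subgroup.mem_centralizer_iff]
      intro a ha
      have hza : Subgroup.zpowers a ≤
          ⁅V1, A⁆ ⊔ (A ⊓ Subgroup.centralizer ((⁅V1, A⁆ : Subgroup G) : Set G)) := by
        rw [Subgroup.zpowers_le]; exact ha
      have hq : ⁅⁅V1, Subgroup.zpowers a⁆, Subgroup.zpowers a⁆ = ⊥ := by
        rw [eq_bot_iff, ← h2]
        exact Subgroup.commutator_mono (Subgroup.commutator_mono le_rfl hza) hza
      exact (commutator_zpowers_eq_bot_iff V1 a).mp (hV1q a (hA0S ha) hq) v hv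
    have h5 : ⁅V1, A⁆ = ⊥ := by
      by_contra hne
      exact h3 hne h4
    rw [Subgroup.commutator_eq_bot_iff_le_centralizer] at h5
    exact Subgroup.le_centralizer_iff.mp h5
  -- (G) Frattini
  have hCn : (Subgroup.centralizer (V1 : Set G)).Normal := inferInstance
  constructor
  intro w hw g
  obtain ⟨c, hc', n, hn, rfl⟩ := Cfsg.Agent.S0608.frattini_inf S (Subgroup.centralizer (V1 : Set G)) g
  have hnL : n ∈ L := by
    rw [hL, Cfsg.Agent.S0608.thompsonSubgroupOf_sylow_eq_Jm]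
    have hJle : Cfsg.Agent.S0608.Jm p (S : Subgroup G) ≤
        (S : Subgroup G) ⊓ Subgroup.centralizer (V1 : Set G) := by
      rw [← Cfsg.Agent.S0608.thompsonSubgroupOf_sylow_eq_Jm]
      exact le_inf (Cfsg.Agent.S0609.thompsonSubgroupOf_le _) hJC
    rw [← Cfsg.Agent.S0608.Jm_eq_of_le inf_le_left hJle,
      Cfsg.Agent.Lib.Helper47_Conj.mem_normalizer_iff_map_conj_eq', Cfsg.Agent.S0608.Jm_map]
    congr 1
    exact Cfsg.Agent.Lib.Helper47_Conj.mem_normalizer_iff_map_conj_eq'.mp hn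
  have h1 : n * w * n⁻¹ ∈ W := hLW n hnL w hw
  have h2 : n * w * n⁻¹ ∈ V1 := Subgroup.le_normalClosure h1
  have h3 : c * (n * w * n⁻¹) = (n * w * n⁻¹) * c :=
    (Subgroup.mem_centralizer_iff.mp hc' _ h2).symm
  have h4 : c * n * w * (c * n)⁻¹ = n * w * n⁻¹ := by
    calc c * n * w * (c * n)⁻¹ = c * (n * w * n⁻¹) * c⁻¹ := by group
      _ = n * w * n⁻¹ := by rw [h3]; group
  rw [h4]
  exact h1

end ZJ

end Cfsg.Agent.Lib.Helper47_WS
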