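import Cfsg.Agent.Lib.Helper47_WS2
import Cfsg.Agent.S0625
import Cfsg.Agent.Lib.Helper76_PSolvable
import Cfsg.Agent.Lib.Helper24_CoprimeAction

/-!
# `W(S)` in `p`-separable groups (KS 9.4.6)
-/

set_option autoImplicit false

namespace Cfsg.Agent.Lib.Helper47_WS

open Cfsg

universe u

section transport

variable {G G' : Type u} [Group G] [Group G']

/-- `W` of the image of `T` under a homomorphism injective on `T`. -/
theorem stableNormalClosure_map_of_injOn (p : ℕ) (π : G →* G') (T : Subgroup G)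
    (hinj : ∀ x ∈ T, π x = 1 → x = 1) :
    (Cfsg.stableNormalClosure p ↥(T.map π)).map (T.map π).subtype =
      ((Cfsg.stableNormalClosure p ↥T).map T.subtype).map π := by
  have hi : Function.Injective (π.subgroupMap T) := by
    rw [injective_iff_map_eq_one]
    intro x hx
    have h1 : π (x : G) = 1 := congrArg Subtype.val hx
    exact Subtype.ext (hinj x x.2 h1)
  let e : ↥T ≃* ↥(T.map π) :=
    MulEquiv.ofBijective (π.subgroupMap T) ⟨hi, π.subgroupMap_surjective T⟩
  rw [← Cfsg.Agent.S0622.stableNormalClosure_map e p, Subgroup.map_map, Subgroup.map_map]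
  rfl

end transport

section psep

variable {G : Type u} [Group G] [Finite G] {p : ℕ} [Fact p.Prime]

/-- **KS 9.4.6**: in a `p`-separable group with `p ≥ 5`, `G = O_{p'}(G) N_G(W(S))`. -/
theorem pPrimeCore_sup_normalizer_stableNormalClosure (hp : 5 ≤ p)
    (hsep : Cfsg.IsPSolvable p G) (S : Sylow p G) :
    Cfsg.pPrimeCore p G ⊔ Subgroup.normalizer
      (((Cfsg.stableNormalClosure p ↥(S : Subgroup G)).map (S : Subgroup G).subtype) : Set G) =
        ⊤ := by
  set N := Cfsg.pPrimeCore p G with hN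
  have hNn : N.Normal := Cfsg.Agent.Lib.Helper76_PSolvable.pPrimeCore_normal p
  have hNc : (Nat.card N).Coprime p := Cfsg.Agent.Lib.Helper76_PSolvable.pPrimeCore_card_coprime p
  set π := QuotientGroup.mk' N with hπ
  have hπs : Function.Surjective π := QuotientGroup.mk'_surjective N
  set W := (Cfsg.stableNormalClosure p ↥(S : Subgroup G)).map (S : Subgroup G).subtype with hW
  have hWS : W ≤ (S : Subgroup G) := Subgroup.map_subtype_le _
  have hWp : IsPGroup p W := S.isPGroup'.to_le hWS
  -- the quotient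
  have hsep' : Cfsg.IsPSolvable p (G ⧸ N) :=
    Cfsg.Agent.Lib.Helper76_PSolvable.isPSolvable_quotient p N hsep
  have hst : Cfsg.IsActionPStable p (G ⧸ N) := Cfsg.Agent.S0625.result hp hsep'
  have hcore : Cfsg.pPrimeCore p (G ⧸ N) = ⊥ :=
    Cfsg.Agent.Lib.Helper76_PSolvable.pPrimeCore_quotient_pPrimeCore p
  have hc : Subgroup.centralizer (Cfsg.pCore p (G ⧸ N) : Set (G ⧸ N)) ≤ Cfsg.pCore p (G ⧸ N) :=
    Cfsg.Agent.Lib.Helper76_PSolvable.centralizer_pCore_le p hsep' hcore
  have hn := stableNormalClosure_map_normal_of_isActionPStable hst hc (S.mapSurjective hπs)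
  rw [Sylow.coe_mapSurjective] at hn
  have hinj : ∀ x ∈ (S : Subgroup G), π x = 1 → x = 1 := by
    intro x hx hx1
    have hxN : x ∈ N := by
      rw [← QuotientGroup.ker_mk' N]; exact hx1
    have hdisj : (S : Subgroup G) ⊓ N = ⊥ := by
      obtain ⟨k, hk⟩ := IsPGroup.iff_card.mp S.isPGroup'
      apply (Subgroup.disjoint_of_coprime_natCard _).eq_bot
      rw [hk]
      exact Nat.Coprime.pow_left k hNc.symm
    have : x ∈ (S : Subgroup G) ⊓ N := ⟨hx, hxN⟩
    rw [hdisj, Subgroup.mem_bot] at this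
    exact this
  rw [stableNormalClosure_map_of_injOn p π (S : Subgroup G) hinj] at hn
  -- `W ⊔ N` is normal
  have hWNn : (W ⊔ N).Normal := by
    have h1 : (W.map π).comap π = W ⊔ N := by
      rw [Subgroup.comap_map_eq, QuotientGroup.ker_mk']
    rw [← h1]
    exact Subgroup.Normal.comap hn π
  rw [eq_top_iff]
  intro g _
  -- conjugate `g W g⁻¹` back by an element of `N`
  have hWsolv : Group.IsSolvable W := by
    have := hWp.isNilpotent
    infer_instance
  have hB : W.map (MulAut.conj g).toMonoidHom ≤ N ⊔ W := by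
    rw [sup_comm]
    rintro _ ⟨w, hw, rfl⟩
    exact hWNn.conj_mem w (Subgroup.mem_sup_left hw) g
  have hcard : Nat.card (W.map (MulAut.conj g).toMonoidHom) = Nat.card W :=
    Subgroup.card_map_of_injective (MulAut.conj g).injective
  have hcop : (Nat.card W).Coprime (Nat.card N) := by
    obtain ⟨k, hk⟩ := IsPGroup.iff_card.mp hWp
    rw [hk]
    exact Nat.Coprime.pow_left k hNc.symm
  obtain ⟨k, hk, hkW⟩ := Cfsg.Agent.Lib.Helper24_CoprimeAction.sz_rel_conj W N
    (W.map (MulAut.conj g).toMonoidHom)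
    (by rw [Subgroup.normalizer_eq_top]; exact le_top) hcop (Or.inl hWsolv) hB hcard
  have hkg : k⁻¹ * g ∈ Subgroup.normalizer (W : Set G) := by
    rw [Cfsg.Agent.Lib.Helper47_Conj.mem_normalizer_iff_map_conj_eq',
      ← Cfsg.Agent.Lib.Helper47_Conj.map_conj_map_conj, ← hkW,
      Cfsg.Agent.Lib.Helper47_Conj.map_conj_inv_map_conj]
  have : g = k * (k⁻¹ * g) := by group
  rw [this]
  exact Subgroup.mul_mem_sup hk hkg

end psep

end Cfsg.Agent.Lib.Helper47_WS
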