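import Mathlib

/-!
# Counting lemmas for Wielandt's index bound (helper47)

* `index_normalCore_dvd_factorial` : `|K : core_K(H)|` divides `|K : H|!`.
* `index_ker_dvd_factorial_pred`   : an action with a global fixed point has image of order
  dividing `(|X| - 1)!`.
* `relIndex_inf_normalCore_dvd`    : for `A ≤ H ≤ K`, `|A : A ∩ core_K(H)|` divides `(|K : H| - 1)!`.
* `relIndex_iInf_dvd_prod`         : index of an intersection of normalized subgroups.
* `relIndex_normalCore_dvd_pow`    : `|N : core_K(C)|` divides `|N : C| ^ |K : L|` when `L` normalizes `C`.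
* `index_second_core_dvd`          : the combined bound `d! * ((d-1)!)^d`.
-/

set_option autoImplicit false

namespace Cfsg.Agent.Lib.Helper47_Wielandt

open Subgroup

theorem index_normalCore_dvd_factorial {K : Type*} [Group K] [Finite K] (H : Subgroup K) :
    H.normalCore.index ∣ Nat.factorial H.index := by
  classical
  rw [normalCore_eq_ker, index_ker, index_eq_card, ← Nat.card_perm]
  exact card_subgroup_dvd_card (MulAction.toPermHom K (K ⧸ H)).range

theorem index_ker_dvd_factorial_pred {A X : Type*} [Group A] [Finite A] [MulAction A X] [Finite X]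
    (x₀ : X) (h0 : ∀ a : A, a • x₀ = x₀) :
    (MulAction.toPermHom A X).ker.index ∣ Nat.factorial (Nat.card X - 1) := by
  classical
  let s : SubMulAction A X :=
    { carrier := {x | x ≠ x₀}
      smul_mem' := by
        intro c x hx hcx
        apply hx
        have h1 : c • x = c • x₀ := by rw [hcx, h0]
        exact MulAction.injective c h1 }
  have hker : (MulAction.toPermHom A X).ker = (MulAction.toPermHom A s).ker := by
    ext a
    simp only [MonoidHom.mem_ker]
    constructor
    · intro h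
      ext ⟨x, hx⟩
      have h1 : (MulAction.toPermHom A X a) x = x := by rw [h]; rfl
      simpa using h1
    · intro h
      ext x
      by_cases hx : x = x₀
      · subst hx
        simpa using h0 a
      · have h1 : (MulAction.toPermHom A s a) ⟨x, hx⟩ = ⟨x, hx⟩ := by rw [h]; rfl
        have h2 := congrArg Subtype.val h1
        simpa using h2
  rw [hker, index_ker]
  have hcard : Nat.card (Equiv.Perm s) = Nat.factorial (Nat.card X - 1) := by
    rw [Nat.card_perm]
    congr 1
    have h1 : Nat.card s = Set.ncard ({x₀}ᶜ : Set X) := by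
      rw [← Nat.card_coe_set_eq]
      rfl
    rw [h1, Set.ncard_compl, Set.ncard_singleton]
  rw [← hcard]
  exact card_subgroup_dvd_card (MulAction.toPermHom A s).range

theorem relIndex_normalCore_dvd_factorial_pred {K : Type*} [Group K] [Finite K] (H A : Subgroup K)
    (hA : A ≤ H) : H.normalCore.relIndex A ∣ Nat.factorial (H.index - 1) := by
  classical
  have hker : H.normalCore.subgroupOf A = (MulAction.toPermHom A (K ⧸ H)).ker := by
    ext a
    rw [mem_subgroupOf, normalCore_eq_ker, MonoidHom.mem_ker, MonoidHom.mem_ker]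
    constructor
    · intro h
      ext q
      have h1 : (MulAction.toPermHom K (K ⧸ H) (a : K)) q = q := by rw [h]; rfl
      exact h1
    · intro h
      ext q
      have h1 : (MulAction.toPermHom A (K ⧸ H) a) q = q := by rw [h]; rfl
      exact h1
  have h0 : ∀ a : A, a • ((1 : K) : K ⧸ H) = ((1 : K) : K ⧸ H) := by
    intro a
    have h1 : a • ((1 : K) : K ⧸ H) = (((a : K) * 1 : K) : K ⧸ H) := rfl
    rw [h1, QuotientGroup.eq]
    simpa using hA a.2
  have h2 := index_ker_dvd_factorial_pred (A := A) (X := K ⧸ H) ((1 : K) : K ⧸ H) h0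
  rw [relIndex, hker]
  rwa [index_eq_card]

theorem index_inf_dvd_mul {N : Type*} [Group N] [Finite N] (X Y : Subgroup N) [X.Normal] :
    (X ⊓ Y).index ∣ X.index * Y.index := by
  rw [← relIndex_mul_index (inf_le_right : X ⊓ Y ≤ Y), inf_relIndex_right]
  exact Nat.mul_dvd_mul_right (relIndex_dvd_index_of_normal X Y) _

theorem relIndex_inf_dvd_mul {K : Type*} [Group K] [Finite K] (N X Y : Subgroup K)
    (hX : (X.subgroupOf N).Normal) : (X ⊓ Y).relIndex N ∣ X.relIndex N * Y.relIndex N := by
  have h1 : (X ⊓ Y).subgroupOf N = X.subgroupOf N ⊓ Y.subgroupOf N := comap_inf X Y N.subtype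
  rw [relIndex, relIndex, relIndex, h1]
  exact index_inf_dvd_mul _ _

theorem relIndex_iInf_dvd_prod {K ι : Type*} [Group K] [Finite K] (N : Subgroup K) (C : ι → Subgroup K)
    (hC : ∀ i, ((C i).subgroupOf N).Normal) (s : Finset ι) :
    (⨅ i ∈ s, C i).relIndex N ∣ ∏ i ∈ s, (C i).relIndex N := by
  classical
  induction s using Finset.induction_on with
  | empty => simp
  | insert a s ha ih =>
    rw [Finset.iInf_insert, Finset.prod_insert ha]
    exact (relIndex_inf_dvd_mul N _ _ (hC a)).trans (Nat.mul_dvd_mul_left _ ih)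

theorem map_conj_eq_of_mem_normalizer {K : Type*} [Group K] (C : Subgroup K) {l : K}
    (hl : l ∈ normalizer (C : Set K)) : C.map (MulAut.conj l).toMonoidHom = C := by
  ext x
  constructor
  · rintro ⟨y, hy, rfl⟩
    exact (mem_normalizer_iff.mp hl y).mp hy
  · intro hx
    refine ⟨l⁻¹ * x * l, ?_, ?_⟩
    · have := (mem_normalizer_iff.mp (inv_mem hl) x).mp hx
      simpa using this
    · simp [mul_assoc]

theorem relIndex_normalCore_dvd_pow {K : Type*} [Group K] [Finite K] (N C L : Subgroup K) [N.Normal]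
    (hCN : C ≤ N) (hN : N ≤ normalizer (C : Set K)) (hL : L ≤ normalizer (C : Set K)) :
    C.normalCore.relIndex N ∣ (C.relIndex N) ^ L.index := by
  classical
  have : Fintype (K ⧸ L) := Fintype.ofFinite _
  let f : K ⧸ L → Subgroup K := fun q => C.map (MulAut.conj q.out).toMonoidHom
  have hf : ∀ k : K, f (k : K ⧸ L) = C.map (MulAut.conj k).toMonoidHom := by
    intro k
    obtain ⟨h, hh⟩ := QuotientGroup.mk_out_eq_mul L k
    show C.map (MulAut.conj (k : K ⧸ L).out).toMonoidHom = _
    rw [hh, map_mul]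
    have h1 : (MulAut.conj k * MulAut.conj (h : K)).toMonoidHom
        = (MulAut.conj k).toMonoidHom.comp (MulAut.conj (h : K)).toMonoidHom := rfl
    rw [h1, ← Subgroup.map_map, map_conj_eq_of_mem_normalizer C (hL h.2)]
  have hcore : C.normalCore = ⨅ q ∈ (Finset.univ : Finset (K ⧸ L)), f q := by
    rw [normalCore_eq_iInf_map_conj]
    apply le_antisymm
    · refine le_iInf fun q => le_iInf fun _ => ?_
      exact iInf_le _ q.out
    · refine le_iInf fun k => ?_
      refine (iInf_le _ (k : K ⧸ L)).trans ?_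
      refine (iInf_le _ (Finset.mem_univ _)).trans ?_
      rw [hf k]
      exact le_of_eq rfl
  have hnormal : ∀ q, ((f q).subgroupOf N).Normal := by
    intro q
    have hle : f q ≤ N := by
      rintro x ⟨y, hy, rfl⟩
      exact ‹N.Normal›.conj_mem y (hCN hy) _
    rw [normal_subgroupOf_iff_le_normalizer hle]
    intro n hn
    rw [mem_normalizer_iff]
    intro x
    have hn' : q.out⁻¹ * n * q.out ∈ normalizer (C : Set K) := by
      apply hN
      have := ‹N.Normal›.conj_mem n hn q.out⁻¹
      simpa using this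
    constructor
    · rintro ⟨y, hy, rfl⟩
      refine ⟨(q.out⁻¹ * n * q.out) * y * (q.out⁻¹ * n * q.out)⁻¹, ?_, ?_⟩
      · exact (mem_normalizer_iff.mp hn' y).mp hy
      · simp [mul_assoc]
    · rintro ⟨y, hy, hyx⟩
      have h2 : (q.out⁻¹ * n * q.out)⁻¹ * y * (q.out⁻¹ * n * q.out) ∈ C := by
        have := (mem_normalizer_iff.mp (inv_mem hn') y).mp hy
        simpa using this
      refine ⟨(q.out⁻¹ * n * q.out)⁻¹ * y * (q.out⁻¹ * n * q.out), h2, ?_⟩
      have h3 : n * x * n⁻¹ = q.out * y * q.out⁻¹ := by simpa using hyx.symm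
      have h4 : x = n⁻¹ * (n * x * n⁻¹) * n := by group
      rw [h4, h3]
      simp [mul_assoc]
  have hrel : ∀ q, (f q).relIndex N = C.relIndex N := by
    intro q
    have h1 : N = N.map (MulAut.conj q.out).toMonoidHom := by
      ext x
      constructor
      · intro hx
        refine ⟨q.out⁻¹ * x * q.out, ?_, by simp [mul_assoc]⟩
        have := ‹N.Normal›.conj_mem x hx q.out⁻¹
        simpa using this
      · rintro ⟨y, hy, rfl⟩
        exact ‹N.Normal›.conj_mem y hy _
    conv_lhs => rw [h1]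
    exact relIndex_map_map_of_injective C N (MulAut.conj q.out).injective
  have h5 := relIndex_iInf_dvd_prod N f hnormal Finset.univ
  rw [← hcore] at h5
  have h6 : ∏ q ∈ (Finset.univ : Finset (K ⧸ L)), (f q).relIndex N = (C.relIndex N) ^ L.index := by
    rw [Finset.prod_congr rfl (fun q _ => hrel q), Finset.prod_const, Finset.card_univ,
      index_eq_card, Nat.card_eq_fintype_card]
  rwa [h6] at h5

theorem conj_mem_map_subtype {G : Type*} [Group G] (M : Subgroup G) (X : Subgroup M) [X.Normal]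
    {g y : G} (hg : g ∈ M) (hy : y ∈ X.map M.subtype) : g * y * g⁻¹ ∈ X.map M.subtype := by
  obtain ⟨x, hx, rfl⟩ := hy
  exact ⟨⟨g, hg⟩ * x * ⟨g, hg⟩⁻¹, ‹X.Normal›.conj_mem x hx _, by simp⟩

theorem card_mul_relIndex {G : Type*} [Group G] (D M : Subgroup G) (h : D ≤ M) :
    Nat.card D * D.relIndex M = Nat.card M := by
  rw [← relIndex_bot_left, ← relIndex_bot_left]
  exact relIndex_mul_relIndex ⊥ D M bot_le h

/-- The combined bound. -/
theorem index_second_core_dvd {G : Type*} [Group G] [Finite G] (M₁ M₂ : Subgroup G)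
    (hcard : Nat.card M₁ = Nat.card M₂) :
    (((((M₁ ⊓ M₂).subgroupOf M₁).normalCore.map M₁.subtype ⊓
        ((M₁ ⊓ M₂).subgroupOf M₂).normalCore.map M₂.subtype).subgroupOf M₁).normalCore).index ∣
      Nat.factorial ((M₁ ⊓ M₂).relIndex M₁) *
        (Nat.factorial ((M₁ ⊓ M₂).relIndex M₁ - 1)) ^ ((M₁ ⊓ M₂).relIndex M₁) := by
  classical
  set D := M₁ ⊓ M₂ with hD
  set A₁ := (D.subgroupOf M₁).normalCore.map M₁.subtype with hA₁
  set B₁ := (D.subgroupOf M₂).normalCore.map M₂.subtype with hB₁
  set d := D.relIndex M₁ with hd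
  have hA₁D : A₁ ≤ D := by
    rintro _ ⟨x, hx, rfl⟩
    exact (D.subgroupOf M₁).normalCore_le hx
  have hB₁D : B₁ ≤ D := by
    rintro _ ⟨x, hx, rfl⟩
    exact (D.subgroupOf M₂).normalCore_le hx
  have hDM₁ : D ≤ M₁ := inf_le_left
  have hDM₂ : D ≤ M₂ := inf_le_right
  have hN' : A₁.subgroupOf M₁ = (D.subgroupOf M₁).normalCore :=
    comap_map_eq_self_of_injective (subtype_injective M₁) _
  have hB' : B₁.subgroupOf M₂ = (D.subgroupOf M₂).normalCore :=
    comap_map_eq_self_of_injective (subtype_injective M₂) _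
  have hnorm : ∀ g ∈ D, ∀ x ∈ A₁ ⊓ B₁, g * x * g⁻¹ ∈ A₁ ⊓ B₁ := by
    intro g hg x hx
    exact ⟨conj_mem_map_subtype M₁ _ (hDM₁ hg) hx.1, conj_mem_map_subtype M₂ _ (hDM₂ hg) hx.2⟩
  have hnorm' : ∀ g : M₁, (g : G) ∈ D →
      g ∈ normalizer (((A₁ ⊓ B₁).subgroupOf M₁ : Subgroup M₁) : Set M₁) := by
    intro g hg
    rw [mem_normalizer_iff]
    intro x
    simp only [mem_subgroupOf]
    constructor
    · intro hx
      have := hnorm g hg x hx
      simpa using this
    · intro hx
      have h1 := hnorm (g : G)⁻¹ (inv_mem hg) _ hx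
      have h2 : ((g : G))⁻¹ * (((g * x * g⁻¹ : M₁) : M₁) : G) * ((g : G))⁻¹⁻¹ = (x : G) := by
        simp [mul_assoc]
      rwa [h2] at h1
  -- the three divisibilities
  have hN'normal : (A₁.subgroupOf M₁).Normal := by rw [hN']; infer_instance
  have hCN : (A₁ ⊓ B₁).subgroupOf M₁ ≤ A₁.subgroupOf M₁ := by
    intro x hx
    exact hx.1
  have hNnorm : A₁.subgroupOf M₁ ≤ normalizer (((A₁ ⊓ B₁).subgroupOf M₁ : Subgroup M₁) : Set M₁) := by
    intro g hg
    exact hnorm' g (hA₁D hg)
  have hLnorm : D.subgroupOf M₁ ≤ normalizer (((A₁ ⊓ B₁).subgroupOf M₁ : Subgroup M₁) : Set M₁) := by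
    intro g hg
    exact hnorm' g hg
  have h3 := relIndex_normalCore_dvd_pow (A₁.subgroupOf M₁) ((A₁ ⊓ B₁).subgroupOf M₁)
    (D.subgroupOf M₁) hCN hNnorm hLnorm
  have h1 : (A₁.subgroupOf M₁).index ∣ Nat.factorial d := by
    rw [hN']
    exact index_normalCore_dvd_factorial (D.subgroupOf M₁)
  have hd' : D.relIndex M₂ = d := by
    have e1 := card_mul_relIndex D M₁ hDM₁
    have e2 := card_mul_relIndex D M₂ hDM₂
    have hpos : 0 < Nat.card D := Nat.card_pos
    have : Nat.card D * D.relIndex M₂ = Nat.card D * D.relIndex M₁ := by rw [e1, e2, hcard]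
    exact Nat.eq_of_mul_eq_mul_left hpos this
  have h2 : ((A₁ ⊓ B₁).subgroupOf M₁).relIndex (A₁.subgroupOf M₁) ∣ Nat.factorial (d - 1) := by
    rw [relIndex_subgroupOf (hA₁D.trans hDM₁), inf_relIndex_left]
    have hA2 : A₁.subgroupOf M₂ ≤ D.subgroupOf M₂ := by
      intro x hx
      exact hA₁D hx
    have h4 := relIndex_normalCore_dvd_factorial_pred (D.subgroupOf M₂) (A₁.subgroupOf M₂) hA2
    rw [← hB', relIndex_subgroupOf (hA₁D.trans hDM₂)] at h4
    have h5 : (D.subgroupOf M₂).index = d := hd'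
    rwa [h5] at h4
  have hle : ((A₁ ⊓ B₁).subgroupOf M₁).normalCore ≤ A₁.subgroupOf M₁ :=
    (normalCore_le _).trans hCN
  rw [← relIndex_mul_index hle, mul_comm]
  refine Nat.mul_dvd_mul h1 (h3.trans ?_)
  have h6 : (D.subgroupOf M₁).index = d := rfl
  rw [h6]
  exact pow_dvd_pow_of_dvd h2 d

end Cfsg.Agent.Lib.Helper47_Wielandt
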