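import Cfsg.Prelude.Def_Local
import Cfsg.Agent.Lib.Helper48_SPE
import Cfsg.Agent.Lib.Helper48_PMinimal

/-!
# Tightly embedded subgroups (helper48)

Basic facts on tightly embedded subgroups `Q` (even order, `Q ∩ Q^g` of odd order for
`g ∉ N(Q)`), and the symmetry lemma: if `T` is a nontrivial Sylow `2`-subgroup of
`Q^g ∩ N(Q)` (`g ∉ N(Q)`) and `S` a Sylow `2`-subgroup of `QT` containing `T`, then
`N_S(T) = T × (N_S(T) ∩ Q)` and `N_S(T) ∩ Q ≅ T`.
-/

set_option autoImplicit false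
open Cfsg
open scoped Pointwise commutatorElement
open Cfsg.Agent.Lib.Helper48_SPE Cfsg.Agent.Lib.Helper48_PMinimal

namespace Cfsg.Agent.Lib.Helper48_Tight

variable {G : Type*} [Group G]

/-! ### Generalities -/

/-- A `2`-subgroup of a subgroup of odd order is trivial. -/
theorem eq_bot_of_two_group_of_odd [Finite G] {X K : Subgroup G} (hX : IsPGroup 2 X) (hXK : X ≤ K)
    (hK : Odd (Nat.card K)) : X = ⊥ := by
  rcases hX.card_eq_or_dvd with h | h
  · exact Subgroup.card_eq_one.mp h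
  · exfalso
    have : 2 ∣ Nat.card K := h.trans (Subgroup.card_dvd_of_le hXK)
    exact (Nat.not_even_iff_odd.mpr hK) (even_iff_two_dvd.mpr this)

/-- An element of `2`-power order in a subgroup of odd order is trivial. -/
theorem eq_one_of_mem_two_group_of_odd [Finite G] {x : G} {S K : Subgroup G} (hS : IsPGroup 2 S)
    (hxS : x ∈ S) (hxK : x ∈ K) (hK : Odd (Nat.card K)) : x = 1 := by
  have h1 : Subgroup.zpowers x ≤ S := by rw [Subgroup.zpowers_le]; exact hxS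
  have h2 : Subgroup.zpowers x ≤ K := by rw [Subgroup.zpowers_le]; exact hxK
  have := eq_bot_of_two_group_of_odd (hS.to_le h1) h2 hK
  exact Subgroup.zpowers_eq_bot.mp this

theorem conj_smul_smul (a b : G) (H : Subgroup G) :
    MulAut.conj a • MulAut.conj b • H = MulAut.conj (a * b) • H := by
  rw [← mul_smul, ← map_mul]

theorem conj_inv_smul_smul (a : G) (H : Subgroup G) :
    MulAut.conj a⁻¹ • MulAut.conj a • H = H := by
  rw [conj_smul_smul, inv_mul_cancel, map_one, one_smul]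

theorem conj_smul_eq_self_of_mem_normalizer {a : G} {H : Subgroup G}
    (ha : a ∈ Subgroup.normalizer (H : Set G)) : MulAut.conj a • H = H := by
  rw [Subgroup.mem_normalizer_iff_map_conj_eq] at ha
  exact ha

theorem mem_normalizer_of_conj_smul_eq_self {a : G} {H : Subgroup G}
    (ha : MulAut.conj a • H = H) : a ∈ Subgroup.normalizer (H : Set G) := by
  rw [Subgroup.mem_normalizer_iff_map_conj_eq]
  exact ha

/-- Sylow subgroups of `K` meet normal subgroups of `K` in Sylow subgroups. -/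
theorem IsSylowIn.inf_of_le_normalizer [Finite G] {p : ℕ} [Fact p.Prime] {S K L : Subgroup G}
    (hS : IsSylowIn p S K) (hLK : L ≤ K) (hKL : K ≤ Subgroup.normalizer (L : Set G)) :
    IsSylowIn p (S ⊓ L) L := by
  obtain ⟨P, hP, hle⟩ := exists_isSylowIn_ge (hS.isPGroup.to_le (inf_le_left : S ⊓ L ≤ S))
    (inf_le_right : S ⊓ L ≤ L)
  obtain ⟨S₁, hS₁, hPS₁⟩ := exists_isSylowIn_ge hP.isPGroup (hP.le.trans hLK)
  obtain ⟨c, hcK, hc⟩ := hS.exists_conj hS₁
  have hcL : MulAut.conj c • L = L := conj_smul_eq_self_of_mem_normalizer (hKL hcK)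
  have h1 : P ≤ MulAut.conj c • (S ⊓ L) := by
    rw [Subgroup.smul_inf, hc, hcL]
    exact le_inf hPS₁ hP.le
  have h2 : Nat.card P ≤ Nat.card ↥(S ⊓ L) := by
    rw [← card_conj_smul c (S ⊓ L)]
    exact Subgroup.card_le_of_le h1
  have h3 : S ⊓ L = P := Subgroup.eq_of_le_of_card_ge hle h2
  rw [h3]
  exact hP

/-- `p`-subgroups of `K` are no larger than the Sylow `p`-subgroups of `K`. -/
theorem IsSylowIn.card_le [Finite G] {p : ℕ} [Fact p.Prime] {P K X : Subgroup G}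
    (hP : IsSylowIn p P K) (hX : IsPGroup p X) (hXK : X ≤ K) : Nat.card X ≤ Nat.card P := by
  obtain ⟨P₁, hP₁, hXP₁⟩ := exists_isSylowIn_ge hX hXK
  obtain ⟨c, -, hc⟩ := hP.exists_conj hP₁
  rw [← card_conj_smul c P, hc]
  exact Subgroup.card_le_of_le hXP₁

/-! ### Tightly embedded subgroups -/

theorem te_odd_inf {Q : Subgroup G} (hQ : IsTightlyEmbedded Q) {a : G}
    (ha : a ∉ Subgroup.normalizer (Q : Set G)) : Odd (Nat.card ↥(Q ⊓ MulAut.conj a • Q)) :=
  hQ.2 a ha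

/-- If `Q` and `aQa⁻¹` share a nontrivial `2`-subgroup then `a` normalizes `Q`. -/
theorem te_mem_normalizer [Finite G] {Q : Subgroup G} (hQ : IsTightlyEmbedded Q)
    {a : G} {X : Subgroup G} (hX : IsPGroup 2 X) (hX1 : X ≠ ⊥) (hXQ : X ≤ Q)
    (hXa : X ≤ MulAut.conj a • Q) : a ∈ Subgroup.normalizer (Q : Set G) := by
  by_contra ha
  exact hX1 (eq_bot_of_two_group_of_odd hX (le_inf hXQ hXa) (te_odd_inf hQ ha))

/-- Normalizers of nontrivial `2`-subgroups of `Q` normalize `Q`. -/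
theorem te_normalizer_le [Finite G] {Q : Subgroup G} (hQ : IsTightlyEmbedded Q)
    {X : Subgroup G} (hX : IsPGroup 2 X) (hX1 : X ≠ ⊥) (hXQ : X ≤ Q) :
    Subgroup.normalizer (X : Set G) ≤ Subgroup.normalizer (Q : Set G) := by
  intro a ha
  apply te_mem_normalizer hQ hX hX1 hXQ
  rw [← conj_smul_eq_self_of_mem_normalizer ha]
  exact Subgroup.pointwise_smul_le_pointwise_smul_iff.mpr hXQ

/-- Conjugates of tightly embedded subgroups are tightly embedded. -/
theorem te_conj_smul [Finite G] {Q : Subgroup G} (hQ : IsTightlyEmbedded Q) (g : G) :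
    IsTightlyEmbedded (MulAut.conj g • Q) := by
  refine ⟨by rw [card_conj_smul]; exact hQ.1, ?_⟩
  intro a ha
  rw [normalizer_conj_smul, mem_conj_smul_iff] at ha
  have h := te_odd_inf hQ ha
  have e : (MulAut.conj g • Q) ⊓ (MulAut.conj g • Q).map (MulAut.conj a).toMonoidHom =
      MulAut.conj g • (Q ⊓ MulAut.conj (g⁻¹ * a * g) • Q) := by
    rw [Subgroup.smul_inf, ← conj_smul_eq_map, conj_smul_smul, conj_smul_smul]
    congr 3
    group
  rw [e, card_conj_smul]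
  exact h

/-! ### Counting in internal products -/

theorem card_mul_card_le_of_inf_eq_bot [Finite G] {A B N : Subgroup G} (hA : A ≤ N) (hB : B ≤ N)
    (hAB : A ⊓ B = ⊥) : Nat.card A * Nat.card B ≤ Nat.card N := by
  rw [← Nat.card_prod]
  let f : ↥A × ↥B → ↥N := fun ab => ⟨(ab.1 : G) * (ab.2 : G), N.mul_mem (hA ab.1.2) (hB ab.2.2)⟩
  apply Nat.card_le_card_of_injective f
  rintro ⟨⟨a, ha⟩, ⟨b, hb⟩⟩ ⟨⟨a', ha'⟩, ⟨b', hb'⟩⟩ h
  have h1 : a * b = a' * b' := congrArg Subtype.val h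
  have h2 : a'⁻¹ * a = b' * b⁻¹ := by
    calc a'⁻¹ * a = a'⁻¹ * (a * b) * b⁻¹ := by group
      _ = a'⁻¹ * (a' * b') * b⁻¹ := by rw [h1]
      _ = b' * b⁻¹ := by group
  have h3 : a'⁻¹ * a ∈ A ⊓ B := ⟨A.mul_mem (A.inv_mem ha') ha, h2 ▸ B.mul_mem hb' (B.inv_mem hb)⟩
  rw [hAB, Subgroup.mem_bot] at h3
  have h4 : a = a' := by
    calc a = a' * (a'⁻¹ * a) := by group
      _ = a' := by rw [h3, mul_one]
  subst h4
  have h5 : b = b' := mul_left_cancel h1
  subst h5
  rfl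

theorem card_le_mul_card_of_forall_exists [Finite G] {A B N : Subgroup G}
    (h : ∀ n ∈ N, ∃ a ∈ A, ∃ b ∈ B, n = a * b) : Nat.card N ≤ Nat.card A * Nat.card B := by
  rw [← Nat.card_prod]
  classical
  let f : ↥A × ↥B → G := fun ab => (ab.1 : G) * (ab.2 : G)
  have hsub : ∀ n : ↥N, ∃ ab : ↥A × ↥B, f ab = (n : G) := by
    intro n
    obtain ⟨a, ha, b, hb, hn⟩ := h n n.2
    exact ⟨(⟨a, ha⟩, ⟨b, hb⟩), hn.symm⟩
  choose k hk using hsub
  apply Nat.card_le_card_of_injective k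
  intro n n' hnn'
  apply Subtype.ext
  rw [← hk n, ← hk n', hnn']

/-! ### The symmetry lemma -/

section Main

variable [Finite G] {Q T S : Subgroup G} {g : G}

/-- `T ∩ Q = 1`. -/
theorem inf_eq_bot (hQ : IsTightlyEmbedded Q) (hg : g ∉ Subgroup.normalizer (Q : Set G))
    (hTQ : T ≤ MulAut.conj g • Q) (hT2 : IsPGroup 2 T) : T ⊓ Q = ⊥ :=
  eq_bot_of_two_group_of_odd (hT2.to_le inf_le_left)
    (le_inf inf_le_right (inf_le_left.trans hTQ)) (te_odd_inf hQ hg)

/-- `[T, N_S(T) ∩ Q] = 1`. -/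
theorem commutator_eq_bot (hTN : T ≤ Subgroup.normalizer (Q : Set G)) (hTQ1 : T ⊓ Q = ⊥) :
    ⁅T, S ⊓ Subgroup.normalizer (T : Set G) ⊓ Q⁆ = ⊥ := by
  rw [eq_bot_iff, ← hTQ1, Subgroup.commutator_le]
  intro t ht r hr
  refine ⟨?_, ?_⟩
  · have hrN : r ∈ Subgroup.normalizer (T : Set G) := hr.1.2
    have h1 : r * t⁻¹ * r⁻¹ ∈ T := (Subgroup.mem_normalizer_iff.mp hrN t⁻¹).mp (T.inv_mem ht)
    have e : ⁅t, r⁆ = t * (r * t⁻¹ * r⁻¹) := by rw [commutatorElement_def]; group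
    rw [e]
    exact T.mul_mem ht h1
  · have htN := hTN ht
    have h1 : t * r * t⁻¹ ∈ Q := (Subgroup.mem_normalizer_iff.mp htN r).mp hr.2
    have e : ⁅t, r⁆ = (t * r * t⁻¹) * r⁻¹ := by rw [commutatorElement_def]
    rw [e]
    exact Q.mul_mem h1 (Q.inv_mem hr.2)

theorem exists_mul_of_mem (hTN : T ≤ Subgroup.normalizer (Q : Set G)) (hTS : T ≤ S)
    (hS : S ≤ Q ⊔ T) {s : G} (hs : s ∈ S ⊓ Subgroup.normalizer (T : Set G)) :
    ∃ q ∈ S ⊓ Subgroup.normalizer (T : Set G) ⊓ Q, ∃ t ∈ T, s = q * t := by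
  have h1 : s ∈ Q ⊔ T := hS hs.1
  rw [← SetLike.mem_coe, Subgroup.coe_mul_of_right_le_normalizer_left Q T hTN] at h1
  obtain ⟨q, hq, t, ht, rfl⟩ := h1
  have hqS : q ∈ S := by
    have := S.mul_mem hs.1 (S.inv_mem (hTS ht))
    simpa using this
  have hqN : q ∈ Subgroup.normalizer (T : Set G) := by
    have := (Subgroup.normalizer (T : Set G)).mul_mem hs.2
      ((Subgroup.normalizer (T : Set G)).inv_mem (Subgroup.le_normalizer ht))
    simpa using this
  exact ⟨q, ⟨⟨hqS, hqN⟩, hq⟩, t, ht, rfl⟩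

/-- `N_S(T) = T (N_S(T) ∩ Q)`. -/
theorem sup_eq (hTN : T ≤ Subgroup.normalizer (Q : Set G)) (hTS : T ≤ S) (hS : S ≤ Q ⊔ T) :
    T ⊔ (S ⊓ Subgroup.normalizer (T : Set G) ⊓ Q) = S ⊓ Subgroup.normalizer (T : Set G) := by
  apply le_antisymm
  · exact sup_le (le_inf hTS Subgroup.le_normalizer) inf_le_left
  · intro s hs
    obtain ⟨q, hq, t, ht, rfl⟩ := exists_mul_of_mem hTN hTS hS hs
    exact Subgroup.mul_mem _ (Subgroup.mem_sup_right hq) (Subgroup.mem_sup_left ht)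

/-- If `N_S(T) < S` there is a conjugate of `T` in `N_S(T)` meeting `T` and `Q` trivially. -/
theorem exists_conj_of_ne (hQ : IsTightlyEmbedded Q) (hg : g ∉ Subgroup.normalizer (Q : Set G))
    (hTQ : T ≤ MulAut.conj g • Q) (hTN : T ≤ Subgroup.normalizer (Q : Set G))
    (hT2 : IsPGroup 2 T) (hTS : T ≤ S) (hS : S ≤ Q ⊔ T) (hS2 : IsPGroup 2 S)
    (hne : S ⊓ Subgroup.normalizer (T : Set G) ≠ S) :
    ∃ x : G, MulAut.conj x • T ≤ S ⊓ Subgroup.normalizer (T : Set G) ∧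
      (MulAut.conj x • T) ⊓ T = ⊥ ∧ (MulAut.conj x • T) ⊓ Q = ⊥ := by
  have : Fact (Nat.Prime 2) := ⟨Nat.prime_two⟩
  have hlt : S ⊓ Subgroup.normalizer (T : Set G) < S := lt_of_le_of_ne inf_le_left hne
  obtain ⟨y, hyS, hyN, hyn⟩ := exists_mem_normalizer_not_mem hS2 hlt
  have h1 : y ∈ Q ⊔ T := hS hyS
  rw [← SetLike.mem_coe, Subgroup.coe_mul_of_right_le_normalizer_left Q T hTN] at h1
  obtain ⟨x, hxQ, t, ht, rfl⟩ := h1
  have htM : t ∈ S ⊓ Subgroup.normalizer (T : Set G) := ⟨hTS ht, Subgroup.le_normalizer ht⟩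
  have hxS : x ∈ S := by
    have := S.mul_mem hyS (S.inv_mem (hTS ht))
    simpa using this
  have hxN : x ∈ Subgroup.normalizer ((S ⊓ Subgroup.normalizer (T : Set G) : Subgroup G) : Set G) := by
    have := Subgroup.mul_mem _ hyN (Subgroup.inv_mem _ (Subgroup.le_normalizer htM))
    simpa using this
  have hxT : x ∉ Subgroup.normalizer (T : Set G) := by
    intro h
    exact hyn (Subgroup.mul_mem _ ⟨hxS, h⟩ htM)
  refine ⟨x, ?_, ?_, ?_⟩
  · rw [← conj_smul_eq_self_of_mem_normalizer hxN]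
    exact Subgroup.pointwise_smul_le_pointwise_smul_iff.mpr (le_inf hTS Subgroup.le_normalizer)
  · by_contra hne'
    have hQ' := te_conj_smul hQ g
    have hxQ' : x ∈ Subgroup.normalizer ((MulAut.conj g • Q : Subgroup G) : Set G) :=
      te_mem_normalizer hQ' (hT2.to_le inf_le_right) hne' (inf_le_right.trans hTQ)
        (inf_le_left.trans (Subgroup.pointwise_smul_le_pointwise_smul_iff.mpr hTQ))
    apply hxT
    apply mem_normalizer_of_conj_smul_eq_self
    apply Subgroup.eq_of_le_of_card_ge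
    · rw [conj_smul_le_iff]
      intro t' ht'
      have hcQ' : x * t' * x⁻¹ * t'⁻¹ ∈ MulAut.conj g • Q := by
        have h2 : x * t' * x⁻¹ ∈ MulAut.conj g • Q :=
          (Subgroup.mem_normalizer_iff.mp hxQ' t').mp (hTQ ht')
        exact Subgroup.mul_mem _ h2 (Subgroup.inv_mem _ (hTQ ht'))
      have hcQ : x * t' * x⁻¹ * t'⁻¹ ∈ Q := by
        have h2 : t' * x⁻¹ * t'⁻¹ ∈ Q :=
          (Subgroup.mem_normalizer_iff.mp (hTN ht') x⁻¹).mp (Q.inv_mem hxQ)
        have e : x * t' * x⁻¹ * t'⁻¹ = x * (t' * x⁻¹ * t'⁻¹) := by group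
        rw [e]
        exact Q.mul_mem hxQ h2
      have hcS : x * t' * x⁻¹ * t'⁻¹ ∈ S :=
        S.mul_mem (S.mul_mem (S.mul_mem hxS (hTS ht')) (S.inv_mem hxS)) (S.inv_mem (hTS ht'))
      have h3 := eq_one_of_mem_two_group_of_odd hS2 hcS
        (show x * t' * x⁻¹ * t'⁻¹ ∈ Q ⊓ MulAut.conj g • Q from ⟨hcQ, hcQ'⟩) (te_odd_inf hQ hg)
      have h4 : x * t' * x⁻¹ = t' := by
        calc x * t' * x⁻¹ = (x * t' * x⁻¹ * t'⁻¹) * t' := by group
          _ = t' := by rw [h3, one_mul]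
      rw [h4]
      exact ht'
    · rw [card_conj_smul]
  · have hxg : x * g ∉ Subgroup.normalizer (Q : Set G) := by
      intro h
      apply hg
      have := Subgroup.mul_mem _ (Subgroup.inv_mem _ (Subgroup.le_normalizer hxQ)) h
      simpa using this
    apply eq_bot_of_two_group_of_odd ((isPGroup_conj_smul hT2 x).to_le inf_le_left)
      (le_inf inf_le_right ?_) (te_odd_inf hQ hxg)
    rw [← conj_smul_smul]
    exact inf_le_left.trans (Subgroup.pointwise_smul_le_pointwise_smul_iff.mpr hTQ)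

/-- `|T| ≤ |N_S(T) ∩ Q|`. -/
theorem card_le_card_inf (hQ : IsTightlyEmbedded Q) (hg : g ∉ Subgroup.normalizer (Q : Set G))
    (hTQ : T ≤ MulAut.conj g • Q) (hTN : T ≤ Subgroup.normalizer (Q : Set G))
    (hT2 : IsPGroup 2 T) (hTS : T ≤ S) (hS : IsSylowIn 2 S (Q ⊔ T)) :
    Nat.card T ≤ Nat.card ↥(S ⊓ Subgroup.normalizer (T : Set G) ⊓ Q) := by
  have : Fact (Nat.Prime 2) := ⟨Nat.prime_two⟩
  by_cases hne : S ⊓ Subgroup.normalizer (T : Set G) = S
  · have hR : S ⊓ Subgroup.normalizer (T : Set G) ⊓ Q = S ⊓ Q := by rw [hne]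
    rw [hR]
    have h1 : IsSylowIn 2 (S ⊓ Q) Q :=
      IsSylowIn.inf_of_le_normalizer hS le_sup_left (sup_le Subgroup.le_normalizer hTN)
    have h2 := h1.conj_smul g
    have h3 := IsSylowIn.card_le h2 hT2 hTQ
    rwa [card_conj_smul] at h3
  · obtain ⟨x, hxN, hxT, -⟩ := exists_conj_of_ne hQ hg hTQ hTN hT2 hTS hS.le hS.isPGroup hne
    have h1 : Nat.card ↥(MulAut.conj x • T) * Nat.card T ≤
        Nat.card ↥(S ⊓ Subgroup.normalizer (T : Set G)) :=
      card_mul_card_le_of_inf_eq_bot hxN (le_inf hTS Subgroup.le_normalizer) hxT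
    have h2 : Nat.card ↥(S ⊓ Subgroup.normalizer (T : Set G)) ≤
        Nat.card ↥(S ⊓ Subgroup.normalizer (T : Set G) ⊓ Q) * Nat.card T :=
      card_le_mul_card_of_forall_exists (fun n hn => exists_mul_of_mem hTN hTS hS.le hn)
    rw [card_conj_smul] at h1
    have hpos : 0 < Nat.card T := Nat.card_pos
    exact Nat.le_of_mul_le_mul_right (h1.trans h2) hpos

/-- `|N_S(T) ∩ Q| ≤ |T|` when `T` is a Sylow `2`-subgroup of `Q^g ∩ N(Q)`. -/
theorem card_inf_le_card (hQ : IsTightlyEmbedded Q) (hg : g ∉ Subgroup.normalizer (Q : Set G))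
    (hT1 : T ≠ ⊥)
    (hTsyl : IsSylowIn 2 T (MulAut.conj g • Q ⊓ Subgroup.normalizer (Q : Set G)))
    (hS2 : IsPGroup 2 S) :
    Nat.card ↥(S ⊓ Subgroup.normalizer (T : Set G) ⊓ Q) ≤ Nat.card T := by
  have : Fact (Nat.Prime 2) := ⟨Nat.prime_two⟩
  obtain ⟨R, hRdef⟩ : ∃ R : Subgroup G, R = S ⊓ Subgroup.normalizer (T : Set G) ⊓ Q := ⟨_, rfl⟩
  rw [← hRdef]
  by_cases hR1 : R = ⊥
  · rw [hR1, Subgroup.card_bot]
    exact Nat.card_pos
  have hQ' := te_conj_smul hQ g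
  have hTQ : T ≤ MulAut.conj g • Q := hTsyl.le.trans inf_le_left
  have hT2 := hTsyl.isPGroup
  have hR2 : IsPGroup 2 R := by
    rw [hRdef]
    exact hS2.to_le (inf_le_left.trans inf_le_left)
  have hRQ : R ≤ Q := by
    rw [hRdef]
    exact inf_le_right
  have hRT : R ≤ Subgroup.normalizer (T : Set G) := by
    rw [hRdef]
    exact inf_le_left.trans inf_le_right
  have hRN' : R ≤ Subgroup.normalizer ((MulAut.conj g • Q : Subgroup G) : Set G) :=
    hRT.trans (te_normalizer_le hQ' hT2 hT1 hTQ)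
  obtain ⟨R', hR', hRR'⟩ := exists_isSylowIn_ge hR2
    (le_inf hRQ hRN' : R ≤ Q ⊓ Subgroup.normalizer ((MulAut.conj g • Q : Subgroup G) : Set G))
  have hR'1 : R' ≠ ⊥ := by
    intro h
    rw [h] at hRR'
    exact hR1 (le_bot_iff.mp hRR')
  have hR'Q : R' ≤ Q := hR'.le.trans inf_le_left
  have hR'N : R' ≤ Subgroup.normalizer ((MulAut.conj g • Q : Subgroup G) : Set G) :=
    hR'.le.trans inf_le_right
  obtain ⟨S', hS', hR'S'⟩ := exists_isSylowIn_ge hR'.isPGroup
    (le_sup_right : R' ≤ MulAut.conj g • Q ⊔ R')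
  have hg' : g⁻¹ ∉ Subgroup.normalizer ((MulAut.conj g • Q : Subgroup G) : Set G) := by
    rw [normalizer_conj_smul, mem_conj_smul_iff]
    intro h
    apply hg
    have e : g⁻¹ * g⁻¹ * g = g⁻¹ := by group
    rw [e] at h
    have := Subgroup.inv_mem _ h
    simpa using this
  have hR'Q'' : R' ≤ MulAut.conj g⁻¹ • MulAut.conj g • Q := by
    rw [conj_inv_smul_smul]
    exact hR'Q
  have h1 := card_le_card_inf hQ' hg' hR'Q'' hR'N hR'.isPGroup hR'S' hS'
  have h2 : S' ⊓ Subgroup.normalizer (R' : Set G) ⊓ MulAut.conj g • Q ≤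
      MulAut.conj g • Q ⊓ Subgroup.normalizer (Q : Set G) :=
    le_inf inf_le_right ((inf_le_left.trans inf_le_right).trans
      (te_normalizer_le hQ hR'.isPGroup hR'1 hR'Q))
  have h3 := IsSylowIn.card_le hTsyl (hS'.isPGroup.to_le (inf_le_left.trans inf_le_left)) h2
  exact (Subgroup.card_le_of_le hRR').trans (h1.trans h3)

theorem card_subgroupOf_of_le {A N : Subgroup G} (h : A ≤ N) :
    Nat.card ↥(A.subgroupOf N) = Nat.card A :=
  Nat.card_congr (Subgroup.subgroupOfEquivOfLe h).toEquiv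

theorem disjoint_subgroupOf_of_inf_eq_bot {A B N : Subgroup G} (h : A ⊓ B = ⊥) :
    Disjoint (A.subgroupOf N) (B.subgroupOf N) := by
  rw [Subgroup.disjoint_def]
  intro x hxA hxB
  have hx : (x : G) ∈ A ⊓ B := ⟨Subgroup.mem_subgroupOf.mp hxA, Subgroup.mem_subgroupOf.mp hxB⟩
  rw [h, Subgroup.mem_bot] at hx
  exact Subtype.ext hx

/-- `N_S(T) ∩ Q ≅ T`. -/
theorem nonempty_mulEquiv (hQ : IsTightlyEmbedded Q) (hg : g ∉ Subgroup.normalizer (Q : Set G))
    (hT1 : T ≠ ⊥)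
    (hTsyl : IsSylowIn 2 T (MulAut.conj g • Q ⊓ Subgroup.normalizer (Q : Set G)))
    (hTS : T ≤ S) (hS : IsSylowIn 2 S (Q ⊔ T)) :
    Nonempty (↥(S ⊓ Subgroup.normalizer (T : Set G) ⊓ Q) ≃* T) := by
  have : Fact (Nat.Prime 2) := ⟨Nat.prime_two⟩
  have hTQ : T ≤ MulAut.conj g • Q := hTsyl.le.trans inf_le_left
  have hTN : T ≤ Subgroup.normalizer (Q : Set G) := hTsyl.le.trans inf_le_right
  have hT2 := hTsyl.isPGroup
  have hcard : Nat.card T = Nat.card ↥(S ⊓ Subgroup.normalizer (T : Set G) ⊓ Q) :=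
    le_antisymm (card_le_card_inf hQ hg hTQ hTN hT2 hTS hS)
      (card_inf_le_card hQ hg hT1 hTsyl hS.isPGroup)
  by_cases hne : S ⊓ Subgroup.normalizer (T : Set G) = S
  · have hR : S ⊓ Subgroup.normalizer (T : Set G) ⊓ Q = S ⊓ Q := by rw [hne]
    have h1 : IsSylowIn 2 (S ⊓ Q) Q :=
      IsSylowIn.inf_of_le_normalizer hS le_sup_left (sup_le Subgroup.le_normalizer hTN)
    have h2 := h1.conj_smul g
    obtain ⟨P, hP, hTP⟩ := exists_isSylowIn_ge hT2 hTQ
    obtain ⟨c, -, hc⟩ := h2.exists_conj hP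
    have hTP' : T = P := by
      apply Subgroup.eq_of_le_of_card_ge hTP
      rw [← hc, card_conj_smul, card_conj_smul, hcard, hR]
    have e : MulAut.conj (c * g) • (S ⊓ Subgroup.normalizer (T : Set G) ⊓ Q) = T := by
      rw [hR, ← conj_smul_smul, hc, hTP']
    exact ⟨(Subgroup.equivSMul (MulAut.conj (c * g)) _).trans (MulEquiv.subgroupCongr e)⟩
  · obtain ⟨x, hxN, hxT, hxQ⟩ := exists_conj_of_ne hQ hg hTQ hTN hT2 hTS hS.le hS.isPGroup hne
    have h1 : Nat.card ↥(MulAut.conj x • T) * Nat.card T ≤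
        Nat.card ↥(S ⊓ Subgroup.normalizer (T : Set G)) :=
      card_mul_card_le_of_inf_eq_bot hxN (le_inf hTS Subgroup.le_normalizer) hxT
    have h2 : Nat.card ↥(S ⊓ Subgroup.normalizer (T : Set G)) ≤
        Nat.card ↥(S ⊓ Subgroup.normalizer (T : Set G) ⊓ Q) * Nat.card T :=
      card_le_mul_card_of_forall_exists (fun n hn => exists_mul_of_mem hTN hTS hS.le hn)
    rw [card_conj_smul] at h1
    rw [← hcard] at h2
    have hcardN : Nat.card ↥(S ⊓ Subgroup.normalizer (T : Set G)) = Nat.card T * Nat.card T :=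
      le_antisymm h2 h1
    obtain ⟨N, hN⟩ : ∃ N : Subgroup G, N = S ⊓ Subgroup.normalizer (T : Set G) := ⟨_, rfl⟩
    rw [← hN] at hxN hcardN hcard ⊢
    have hTNle : T ≤ N := by
      rw [hN]
      exact le_inf hTS Subgroup.le_normalizer
    have hNT : N ≤ Subgroup.normalizer (T : Set G) := by
      rw [hN]
      exact inf_le_right
    have hRN : N ⊓ Q ≤ N := inf_le_left
    haveI : (T.subgroupOf N).Normal := Subgroup.normal_subgroupOf_of_le_normalizer hNT
    have hc1 : Subgroup.IsComplement' ((MulAut.conj x • T).subgroupOf N) (T.subgroupOf N) := by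
      apply Subgroup.isComplement'_of_card_mul_and_disjoint
      · rw [card_subgroupOf_of_le hxN, card_subgroupOf_of_le hTNle, card_conj_smul, hcardN]
      · exact disjoint_subgroupOf_of_inf_eq_bot hxT
    have hc2 : Subgroup.IsComplement' ((N ⊓ Q).subgroupOf N) (T.subgroupOf N) := by
      apply Subgroup.isComplement'_of_card_mul_and_disjoint
      · rw [card_subgroupOf_of_le hRN, card_subgroupOf_of_le hTNle, ← hcard, hcardN]
      · apply disjoint_subgroupOf_of_inf_eq_bot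
        have h3 := inf_eq_bot hQ hg hTQ hT2
        rw [eq_bot_iff, ← h3]
        exact le_inf inf_le_right (inf_le_left.trans inf_le_right)
    exact ⟨((Subgroup.subgroupOfEquivOfLe hRN).symm.trans
      (hc2.QuotientMulEquiv.symm.trans hc1.QuotientMulEquiv)).trans
      ((Subgroup.subgroupOfEquivOfLe hxN).trans (Subgroup.equivSMul (MulAut.conj x) T).symm)⟩

end Main

end Cfsg.Agent.Lib.Helper48_Tight
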