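import Mathlib
import Cfsg.Agent.Lib.Helper48_SPE
import Cfsg.Agent.Lib.Helper48_Tight

/-!
# Subgroups of `GL₂(ℤ/2ᵏ)` isomorphic to `A₄` are conjugate (helper48)

For an `A₄ = V ⋊ ⟨c⟩` inside `GL₂(ℤ/2ᵏ)`, `k ≥ 2`: the involutions of `V` have determinant `1`
and equal traces, so Cayley–Hamilton gives `t·a = 2` for each of them, and multiplying by a second
involution gives `2·(a - 1) = 0`.  The element `c` is conjugate to the companion matrix of
`x² + x + 1`, and then `V` is the unique set `{1 + [[y+z, y],[z, y+z]] : 2y = 2z = 0}`.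
-/

set_option autoImplicit false

open Matrix

namespace Cfsg.Agent.Lib.Helper48_A4GL2


variable {k : ℕ}

/-- the element `2^(k-1)` of `ZMod (2^k)` -/
def hh (k : ℕ) : ZMod (2 ^ k) := 2 ^ (k - 1)

theorem two_torsion (hk : 1 ≤ k) (y : ZMod (2 ^ k)) (hy : 2 * y = 0) : y = 0 ∨ y = hh k := by
  have hv : ((y.val : ℕ) : ZMod (2 ^ k)) = y := ZMod.natCast_zmod_val y
  have h1 : ((2 * y.val : ℕ) : ZMod (2 ^ k)) = 0 := by
    rw [Nat.cast_mul, hv]; exact_mod_cast hy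
  rw [ZMod.natCast_eq_zero_iff] at h1
  have hpow : 2 ^ k = 2 * 2 ^ (k - 1) := by
    rw [← pow_succ']; congr 1; omega
  have h1' : 2 * 2 ^ (k - 1) ∣ 2 * y.val := hpow ▸ h1
  have h2 : 2 ^ (k - 1) ∣ y.val := Nat.dvd_of_mul_dvd_mul_left (by norm_num) h1'
  obtain ⟨m, hm⟩ := h2
  have hlt : y.val < 2 * 2 ^ (k - 1) := by
    rw [← hpow]; exact ZMod.val_lt y
  have hm2 : m < 2 := by
    by_contra hcon
    rw [not_lt] at hcon
    have : 2 * 2 ^ (k - 1) ≤ 2 ^ (k - 1) * m := by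
      rw [mul_comm]; exact Nat.mul_le_mul_left _ hcon
    omega
  interval_cases m
  · left
    rw [← hv, hm]; simp
  · right
    rw [← hv, hm]; simp [hh]

theorem hh_mul_hh (hk : 2 ≤ k) : hh k * hh k = 0 := by
  unfold hh
  rw [← pow_add]
  have h : k - 1 + (k - 1) = k + (k - 2) := by omega
  rw [h, pow_add]
  have : (2 : ZMod (2 ^ k)) ^ k = 0 := by
    have := ZMod.natCast_self (2 ^ k)
    push_cast at this
    exact this
  rw [this, zero_mul]

theorem two_mul_hh (hk : 1 ≤ k) : 2 * hh k = 0 := by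
  unfold hh
  rw [← pow_succ']
  have h : k - 1 + 1 = k := by omega
  rw [h]
  have := ZMod.natCast_self (2 ^ k)
  push_cast at this
  exact this

theorem torsion_mul (hk : 2 ≤ k) {x y : ZMod (2 ^ k)} (hx : 2 * x = 0) (hy : 2 * y = 0) :
    x * y = 0 := by
  rcases two_torsion (by omega) x hx with rfl | rfl
  · simp
  · rcases two_torsion (by omega) y hy with rfl | rfl
    · simp
    · exact hh_mul_hh hk

/-- reduction mod 2 -/
noncomputable def red (k : ℕ) (hk : 1 ≤ k) : ZMod (2 ^ k) →+* ZMod 2 :=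
  ZMod.castHom (dvd_pow_self 2 (by omega)) (ZMod 2)

theorem red_eq_zero (hk : 1 ≤ k) (x : ZMod (2 ^ k)) (hx : red k hk x = 0) : ∃ y, x = 2 * y := by
  have hv : ((x.val : ℕ) : ZMod (2 ^ k)) = x := ZMod.natCast_zmod_val x
  have h1 : ((x.val : ℕ) : ZMod 2) = 0 := by
    rw [← hx, ← hv, map_natCast, hv]
  rw [ZMod.natCast_eq_zero_iff] at h1
  obtain ⟨m, hm⟩ := h1
  refine ⟨(m : ZMod (2 ^ k)), ?_⟩
  rw [← hv, hm]; push_cast; ring

theorem isUnit_of_red_eq_one (hk : 1 ≤ k) (x : ZMod (2 ^ k)) (hx : red k hk x = 1) : IsUnit x := by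
  have hv : ((x.val : ℕ) : ZMod (2 ^ k)) = x := ZMod.natCast_zmod_val x
  have h1 : ((x.val : ℕ) : ZMod 2) = 1 := by
    rw [← hx, ← hv, map_natCast, hv]
  rw [← hv, ZMod.isUnit_iff_coprime]
  apply Nat.Coprime.pow_right
  rw [Nat.coprime_two_right, ← ZMod.natCast_eq_one_iff_odd]
  exact h1



theorem red_facts_entries : ∀ a b c d : ZMod 2,
    (!![a, b; c, d] * !![a, b; c, d] * !![a, b; c, d] : Matrix (Fin 2) (Fin 2) (ZMod 2)) = 1 →
    (!![a, b; c, d] : Matrix (Fin 2) (Fin 2) (ZMod 2)) ≠ 1 →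
    c = 1 ∧ (a - 1) * (d - 1) - b * c = 1 := by
  decide

theorem red_facts_mat (c : Matrix (Fin 2) (Fin 2) (ZMod 2)) (h3 : c * c * c = 1) (hne : c ≠ 1) :
    c 1 0 = 1 ∧ (c - 1).det = 1 := by
  have h := red_facts_entries (c 0 0) (c 0 1) (c 1 0) (c 1 1)
  rw [← Matrix.eta_fin_two c] at h
  obtain ⟨h1, h2⟩ := h h3 hne
  refine ⟨h1, ?_⟩
  rw [Matrix.det_fin_two]
  simpa using h2



theorem cayley_hamilton_two {R : Type*} [CommRing R] (X : Matrix (Fin 2) (Fin 2) R) :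
    X * X = X.trace • X - X.det • (1 : Matrix (Fin 2) (Fin 2) R) := by
  ext i j
  fin_cases i <;> fin_cases j <;>
    simp [Matrix.mul_apply, Matrix.trace_fin_two, Matrix.det_fin_two, Fin.sum_univ_two] <;> ring

theorem two_smul_eq_of_triple {R : Type*} [CommRing R] (X Y Z : Matrix (Fin 2) (Fin 2) R)
    (hX : X * X = 1) (hZ : Z * Z = 1) (hdX : X.det = 1) (hdZ : Z.det = 1)
    (ht : X.trace = Z.trace) (hXY : X * Y = Z) :
    (2 : R) • Y = (2 : R) • (1 : Matrix (Fin 2) (Fin 2) R) := by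
  have h1 := cayley_hamilton_two X
  have h2 := cayley_hamilton_two Z
  rw [hX, hdX, one_smul] at h1
  rw [hZ, hdZ, one_smul, ← ht] at h2
  have h3 : X.trace • X = (2 : R) • (1 : Matrix (Fin 2) (Fin 2) R) := by
    rw [two_smul]
    have := congrArg (fun T => T + (1 : Matrix (Fin 2) (Fin 2) R)) h1
    simp only [sub_add_cancel] at this
    exact this.symm
  have h4 : X.trace • Z = (2 : R) • (1 : Matrix (Fin 2) (Fin 2) R) := by
    rw [two_smul]
    have := congrArg (fun T => T + (1 : Matrix (Fin 2) (Fin 2) R)) h2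
    simp only [sub_add_cancel] at this
    exact this.symm
  rw [← h4, ← hXY, ← Matrix.smul_mul, h3, Matrix.smul_mul, Matrix.one_mul]

/-- The configuration of an `A₄` inside `GL₂`, at the level of matrices: `A` an involution,
`C` of order 3 with inverse `Ci`, `B = C A C⁻¹` commuting with `A`, `C B C⁻¹ = A B`, `A ≠ B`. -/
structure Config {R : Type*} [CommRing R] (A C Ci : Matrix (Fin 2) (Fin 2) R) : Prop where
  hA : A * A = 1
  hCCi : C * Ci = 1
  hCiC : Ci * C = 1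
  hC3 : C * C * C = 1
  hAB : A * (C * A * Ci) = (C * A * Ci) * A
  hD : C * (C * A * Ci) * Ci = A * (C * A * Ci)
  hne : A ≠ C * A * Ci

namespace Config

variable {R : Type*} [CommRing R] {A C Ci : Matrix (Fin 2) (Fin 2) R}

theorem hB (h : Config A C Ci) : (C * A * Ci) * (C * A * Ci) = 1 := by
  calc (C * A * Ci) * (C * A * Ci) = C * (A * ((Ci * C) * (A * Ci))) := by
        simp only [Matrix.mul_assoc]
    _ = C * ((A * A) * Ci) := by rw [h.hCiC, Matrix.one_mul, Matrix.mul_assoc]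
    _ = 1 := by rw [h.hA, Matrix.one_mul, h.hCCi]

theorem det_conj (h : Config A C Ci) (X : Matrix (Fin 2) (Fin 2) R) :
    (C * X * Ci).det = X.det := by
  have h1 : C.det * Ci.det = 1 := by rw [← Matrix.det_mul, h.hCCi, Matrix.det_one]
  rw [Matrix.det_mul, Matrix.det_mul]
  linear_combination X.det * h1

theorem trace_conj (h : Config A C Ci) (X : Matrix (Fin 2) (Fin 2) R) :
    (C * X * Ci).trace = X.trace := by
  rw [Matrix.trace_mul_cycle, h.hCiC, Matrix.one_mul]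

theorem det_A (h : Config A C Ci) : A.det = 1 := by
  have h1 : (C * A * Ci).det = A.det := h.det_conj A
  have h2 : (A * (C * A * Ci)).det = (C * A * Ci).det := by rw [← h.hD, h.det_conj]
  rw [Matrix.det_mul, h1] at h2
  have h3 : A.det * A.det = 1 := by rw [← Matrix.det_mul, h.hA, Matrix.det_one]
  rw [← h2]; exact h3

theorem hDD (h : Config A C Ci) : (A * (C * A * Ci)) * (A * (C * A * Ci)) = 1 := by
  calc (A * (C * A * Ci)) * (A * (C * A * Ci))
      = A * (((C * A * Ci) * A) * (C * A * Ci)) := by simp only [Matrix.mul_assoc]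
    _ = A * ((A * (C * A * Ci)) * (C * A * Ci)) := by rw [h.hAB]
    _ = (A * A) * ((C * A * Ci) * (C * A * Ci)) := by simp only [Matrix.mul_assoc]
    _ = 1 := by rw [h.hA, h.hB, Matrix.one_mul]

theorem two_smul_A (h : Config A C Ci) : (2 : R) • A = (2 : R) • (1 : Matrix (Fin 2) (Fin 2) R) := by
  -- triple (D, A, B)
  apply two_smul_eq_of_triple (A * (C * A * Ci)) A (C * A * Ci) h.hDD h.hB
  · rw [Matrix.det_mul, h.det_conj, h.det_A, one_mul]
  · rw [h.det_conj, h.det_A]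
  · rw [← h.hD, h.trace_conj]
  · calc A * (C * A * Ci) * A = A * ((C * A * Ci) * A) := by rw [Matrix.mul_assoc]
      _ = A * (A * (C * A * Ci)) := by rw [h.hAB]
      _ = (A * A) * (C * A * Ci) := by rw [← Matrix.mul_assoc]
      _ = C * A * Ci := by rw [h.hA, Matrix.one_mul]

theorem two_smul_B (h : Config A C Ci) :
    (2 : R) • (C * A * Ci) = (2 : R) • (1 : Matrix (Fin 2) (Fin 2) R) := by
  -- triple (A, B, D)
  apply two_smul_eq_of_triple A (C * A * Ci) (A * (C * A * Ci)) h.hA h.hDD h.det_A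
  · rw [Matrix.det_mul, h.det_conj, h.det_A, one_mul]
  · rw [← h.hD, h.trace_conj, h.trace_conj]
  · rfl

/-- conjugating a configuration -/
theorem conj (h : Config A C Ci) {P Pi : Matrix (Fin 2) (Fin 2) R} (h1 : P * Pi = 1)
    (h2 : Pi * P = 1) : Config (Pi * A * P) (Pi * C * P) (Pi * Ci * P) := by
  have key : ∀ X Y : Matrix (Fin 2) (Fin 2) R, (Pi * X * P) * (Pi * Y * P) = Pi * (X * Y) * P := by
    intro X Y
    calc (Pi * X * P) * (Pi * Y * P) = Pi * (X * ((P * Pi) * (Y * P))) := by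
          simp only [Matrix.mul_assoc]
      _ = Pi * (X * Y) * P := by rw [h1, Matrix.one_mul]; simp only [Matrix.mul_assoc]
  have one : Pi * (1 : Matrix (Fin 2) (Fin 2) R) * P = 1 := by rw [Matrix.mul_one, h2]
  have inj : ∀ X Y : Matrix (Fin 2) (Fin 2) R, Pi * X * P = Pi * Y * P → X = Y := by
    intro X Y hXY
    have this : P * (Pi * X * P) * Pi = P * (Pi * Y * P) * Pi := by rw [hXY]
    have e : ∀ X : Matrix (Fin 2) (Fin 2) R, P * (Pi * X * P) * Pi = X := by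
      intro X
      calc P * (Pi * X * P) * Pi = (P * Pi) * X * (P * Pi) := by simp only [Matrix.mul_assoc]
        _ = X := by rw [h1, Matrix.one_mul, Matrix.mul_one]
    rwa [e, e] at this
  refine ⟨?_, ?_, ?_, ?_, ?_, ?_, ?_⟩
  · rw [key, h.hA, one]
  · rw [key, h.hCCi, one]
  · rw [key, h.hCiC, one]
  · rw [key, key, h.hC3, one]
  · rw [key, key, key, key, h.hAB]
  · rw [key, key, key, key, key, h.hD]
  · intro hcon
    rw [key, key] at hcon
    exact h.hne (inj _ _ hcon)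

end Config


section ZM

variable {k : ℕ} {A C Ci : Matrix (Fin 2) (Fin 2) (ZMod (2 ^ k))}

theorem Config.two_mul_sub_one (h : Config A C Ci) (i j : Fin 2) : 2 * (A - 1) i j = 0 := by
  have := congrFun (congrFun h.two_smul_A i) j
  simp only [Matrix.smul_apply, smul_eq_mul] at this
  rw [Matrix.sub_apply, mul_sub, this, sub_self]

theorem Config.two_smul_sub_one (h : Config A C Ci) :
    (2 : ZMod (2 ^ k)) • (A - 1) = 0 := by
  rw [smul_sub, h.two_smul_A, sub_self]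

theorem Config.two_smul_sub_one' (h : Config A C Ci) :
    (2 : ZMod (2 ^ k)) • (C * A * Ci - 1) = 0 := by
  rw [smul_sub, h.two_smul_B, sub_self]

theorem Config.red_ne_one (hk : 2 ≤ k) (h : Config A C Ci) :
    (red k (by omega)).mapMatrix C ≠ 1 := by
  intro hcon
  have hev : ∀ i j, ∃ y, (C - 1) i j = 2 * y := by
    intro i j
    apply red_eq_zero (by omega)
    have := congrFun (congrFun hcon i) j
    rw [RingHom.mapMatrix_apply, Matrix.map_apply] at this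
    rw [Matrix.sub_apply, map_sub, this]
    by_cases hij : i = j
    · subst hij; simp
    · simp [Matrix.one_apply_ne hij]
  choose X hX using hev
  have hC : C = 1 + (2 : ZMod (2 ^ k)) • (Matrix.of X) := by
    ext i j
    have := hX i j
    simp only [Matrix.sub_apply] at this
    simp only [Matrix.add_apply, Matrix.smul_apply, Matrix.of_apply, smul_eq_mul]
    linear_combination this
  have hCA : C * A = (C * A * Ci) * C := by
    rw [Matrix.mul_assoc, h.hCiC, Matrix.mul_one]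
  have h1 : C * (A - 1) = (C * A * Ci - 1) * C := by
    rw [Matrix.mul_sub, Matrix.sub_mul, ← hCA, Matrix.mul_one, Matrix.one_mul]
  have h2 : C * (A - 1) = A - 1 := by
    rw [hC, Matrix.add_mul, Matrix.one_mul, Matrix.smul_mul, ← Matrix.mul_smul,
      h.two_smul_sub_one, Matrix.mul_zero, add_zero]
  have gen : ∀ N : Matrix (Fin 2) (Fin 2) (ZMod (2 ^ k)), (2 : ZMod (2 ^ k)) • N = 0 →
      N * C = N := by
    intro N hN
    rw [hC, Matrix.mul_add, Matrix.mul_one, Matrix.mul_smul, ← Matrix.smul_mul, hN,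
      Matrix.zero_mul, add_zero]
  have h3 : (C * A * Ci - 1) * C = C * A * Ci - 1 := gen _ h.two_smul_sub_one'
  rw [h2, h3] at h1
  exact h.hne (sub_left_injective h1)

theorem Config.red_facts (hk : 2 ≤ k) (h : Config A C Ci) :
    IsUnit (C 1 0) ∧ IsUnit (C - 1).det := by
  have hk1 : 1 ≤ k := by omega
  have h3 : (red k hk1).mapMatrix C * (red k hk1).mapMatrix C * (red k hk1).mapMatrix C = 1 := by
    rw [← map_mul, ← map_mul, h.hC3, map_one]
  obtain ⟨h1, h2⟩ := red_facts_mat _ h3 (h.red_ne_one hk)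
  constructor
  · apply isUnit_of_red_eq_one hk1
    rw [RingHom.mapMatrix_apply, Matrix.map_apply] at h1
    exact h1
  · apply isUnit_of_red_eq_one hk1
    rw [RingHom.map_det, map_sub, map_one]
    exact h2

theorem Config.C_sq (hk : 2 ≤ k) (h : Config A C Ci) : C * C + C + 1 = 0 := by
  obtain ⟨-, h2⟩ := h.red_facts hk
  have hu : IsUnit (C - 1) := (Matrix.isUnit_iff_isUnit_det _).mpr h2
  obtain ⟨U, hU⟩ := hu
  have h3 : (C - 1) * (C * C + C + 1) = 0 := by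
    have : (C - 1) * (C * C + C + 1) = C * C * C - 1 := by noncomm_ring
    rw [this, h.hC3, sub_self]
  have h4 : (↑U⁻¹ : Matrix (Fin 2) (Fin 2) (ZMod (2 ^ k))) * (C - 1) = 1 := by
    rw [← hU]; exact Units.inv_mul U
  calc C * C + C + 1 = (↑U⁻¹ * (C - 1)) * (C * C + C + 1) := by rw [h4, Matrix.one_mul]
    _ = 0 := by rw [Matrix.mul_assoc, h3, Matrix.mul_zero]

/-- the companion matrix of `x² + x + 1` -/
def C0 (k : ℕ) : Matrix (Fin 2) (Fin 2) (ZMod (2 ^ k)) := !![0, -1; 1, -1]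

/-- its inverse -/
def Ci0 (k : ℕ) : Matrix (Fin 2) (Fin 2) (ZMod (2 ^ k)) := !![-1, 1; -1, 0]

theorem Config.exists_conj (hk : 2 ≤ k) (h : Config A C Ci) :
    ∃ P Pi : Matrix (Fin 2) (Fin 2) (ZMod (2 ^ k)), P * Pi = 1 ∧ Pi * P = 1 ∧
      Pi * C * P = C0 k := by
  obtain ⟨hu, -⟩ := h.red_facts hk
  obtain ⟨u, hu⟩ := hu.exists_right_inv
  have hsq := h.C_sq hk
  have e00 := congrFun (congrFun hsq 0) 0
  have e10 := congrFun (congrFun hsq 1) 0
  simp [Matrix.mul_apply, Fin.sum_univ_two] at e00 e10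
  have hP1 : (!![1, C 0 0; 0, C 1 0] : Matrix (Fin 2) (Fin 2) (ZMod (2 ^ k))) *
      !![1, -(C 0 0 * u); 0, u] = 1 := by
    ext i j
    fin_cases i <;> fin_cases j <;> simp [Matrix.mul_apply, Fin.sum_univ_two]
    all_goals first | exact hu | ring
  have hP2 : (!![1, -(C 0 0 * u); 0, u] : Matrix (Fin 2) (Fin 2) (ZMod (2 ^ k))) *
      !![1, C 0 0; 0, C 1 0] = 1 := by
    ext i j
    fin_cases i <;> fin_cases j <;> simp [Matrix.mul_apply, Fin.sum_univ_two]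
    all_goals first | linear_combination (-(C 0 0)) * hu | linear_combination hu
  have hCP : C * !![1, C 0 0; 0, C 1 0] = !![1, C 0 0; 0, C 1 0] * C0 k := by
    ext i j
    fin_cases i <;> fin_cases j <;> simp [Matrix.mul_apply, Fin.sum_univ_two, C0]
    all_goals first | linear_combination e00 | linear_combination e10
  refine ⟨_, _, hP1, hP2, ?_⟩
  rw [Matrix.mul_assoc, hCP, ← Matrix.mul_assoc, hP2, Matrix.one_mul]

theorem C0_mul_Ci0 : C0 k * Ci0 k = 1 := by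
  ext i j
  fin_cases i <;> fin_cases j <;> simp [Matrix.mul_apply, Fin.sum_univ_two, C0, Ci0]

theorem Ci0_mul_C0 : Ci0 k * C0 k = 1 := by
  ext i j
  fin_cases i <;> fin_cases j <;> simp [Matrix.mul_apply, Fin.sum_univ_two, C0, Ci0]

theorem eq_Ci0_of_mul_eq_one {X : Matrix (Fin 2) (Fin 2) (ZMod (2 ^ k))} (h : C0 k * X = 1) :
    X = Ci0 k := by
  calc X = (Ci0 k * C0 k) * X := by rw [Ci0_mul_C0, Matrix.one_mul]
    _ = Ci0 k := by rw [Matrix.mul_assoc, h, Matrix.mul_one]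

/-- the matrix `[[y+z, y], [z, y+z]]` -/
def MM (y z : ZMod (2 ^ k)) : Matrix (Fin 2) (Fin 2) (ZMod (2 ^ k)) := !![y + z, y; z, y + z]

theorem mul_eq_zero_of_torsion (hk : 2 ≤ k) {N N' : Matrix (Fin 2) (Fin 2) (ZMod (2 ^ k))}
    (hN : ∀ i j, 2 * N i j = 0) (hN' : ∀ i j, 2 * N' i j = 0) : N * N' = 0 := by
  ext i j
  rw [Matrix.mul_apply, Fin.sum_univ_two, torsion_mul hk (hN i 0) (hN' 0 j),
    torsion_mul hk (hN i 1) (hN' 1 j), add_zero, Matrix.zero_apply]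

theorem kappa_formula {R : Type*} [CommRing R] (x y z w : R) :
    (!![0, -1; 1, -1] : Matrix (Fin 2) (Fin 2) R) * !![x, y; z, w] * !![-1, 1; -1, 0] =
      !![z + w, -z; -x - y + z + w, x - z] := by
  rw [Matrix.mul_fin_two, Matrix.mul_fin_two]
  ext i j
  fin_cases i <;> fin_cases j <;> simp <;> ring

theorem Config.canonical (hk : 2 ≤ k) (h : Config A (C0 k) (Ci0 k)) :
    A = 1 + MM (A 0 1) (A 1 0) ∧ 2 * A 0 1 = 0 ∧ 2 * A 1 0 = 0 ∧ (A 0 1 ≠ 0 ∨ A 1 0 ≠ 0) := by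
  have hN : ∀ i j, 2 * (A - 1) i j = 0 := h.two_mul_sub_one
  have hNB : ∀ i j, 2 * (C0 k * A * Ci0 k - 1) i j = 0 := by
    intro i j
    have := congrFun (congrFun h.two_smul_sub_one' i) j
    simpa only [Matrix.smul_apply, smul_eq_mul, Matrix.zero_apply] using this
  have hBN : C0 k * A * Ci0 k - 1 = C0 k * (A - 1) * Ci0 k := by
    rw [Matrix.mul_sub, Matrix.sub_mul, Matrix.mul_one, C0_mul_Ci0]
  have hprod : (A - 1) * (C0 k * A * Ci0 k - 1) = 0 := mul_eq_zero_of_torsion hk hN hNB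
  have hE : C0 k * (C0 k * (A - 1) * Ci0 k) * Ci0 k = (A - 1) + C0 k * (A - 1) * Ci0 k := by
    have h1 : C0 k * (C0 k * (A - 1) * Ci0 k) * Ci0 k = C0 k * (C0 k * A * Ci0 k) * Ci0 k - 1 := by
      rw [← hBN, Matrix.mul_sub, Matrix.sub_mul, Matrix.mul_one, C0_mul_Ci0]
    have h2 : A * (C0 k * A * Ci0 k) =
        1 + (A - 1) + (C0 k * A * Ci0 k - 1) + (A - 1) * (C0 k * A * Ci0 k - 1) := by
      noncomm_ring
    rw [h1, h.hD, h2, hprod, ← hBN]
    abel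
  have y2 : 2 * A 0 1 = 0 := by simpa using hN 0 1
  have z2 : 2 * A 1 0 = 0 := by simpa using hN 1 0
  have x2 : 2 * (A 0 0 - 1) = 0 := by simpa using hN 0 0
  have w2 : 2 * (A 1 1 - 1) = 0 := by simpa using hN 1 1
  have hNeta : A - 1 = !![A 0 0 - 1, A 0 1; A 1 0, A 1 1 - 1] := by
    ext i j
    fin_cases i <;> fin_cases j <;> simp
  rw [hNeta] at hE
  have hC0 : C0 k = !![0, -1; 1, -1] := rfl
  have hCi0 : Ci0 k = !![-1, 1; -1, 0] := rfl
  rw [hC0, hCi0, kappa_formula, kappa_formula] at hE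
  have e01 := congrFun (congrFun hE 0) 1
  have e11 := congrFun (congrFun hE 1) 1
  simp at e01 e11
  have hw : A 1 1 = 1 + (A 0 1 + A 1 0) := by linear_combination (-1 : ZMod (2 ^ k)) * e11
  have hx : A 0 0 = 1 + (A 0 1 + A 1 0) := by linear_combination (1 : ZMod (2 ^ k)) * e01 + hw
  have hA : A = 1 + MM (A 0 1) (A 1 0) := by
    ext i j
    fin_cases i <;> fin_cases j <;> simp [MM]
    · exact hx
    · exact hw
  refine ⟨hA, y2, z2, ?_⟩
  by_contra hcon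
  rw [not_or, not_not, not_not] at hcon
  apply h.hne
  have hA1 : A = 1 := by
    rw [hA, hcon.1, hcon.2]
    ext i j
    fin_cases i <;> fin_cases j <;> simp [MM]
  rw [hA1, Matrix.mul_one, C0_mul_Ci0]

end ZM




def pa : Equiv.Perm (Fin 4) := Equiv.swap 0 1 * Equiv.swap 2 3
def pc : Equiv.Perm (Fin 4) := Equiv.swap 0 1 * Equiv.swap 1 2

theorem pa_mem : pa ∈ alternatingGroup (Fin 4) := by
  rw [Equiv.Perm.mem_alternatingGroup]; decide
theorem pc_mem : pc ∈ alternatingGroup (Fin 4) := by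
  rw [Equiv.Perm.mem_alternatingGroup]; decide

theorem perm_facts : pa * pa = 1 ∧ pc * pc * pc = 1 ∧
    pa * (pc * pa * pc⁻¹) = (pc * pa * pc⁻¹) * pa ∧
    pc * (pc * pa * pc⁻¹) * pc⁻¹ = pa * (pc * pa * pc⁻¹) ∧ pa ≠ pc * pa * pc⁻¹ := by
  decide

theorem perm_gen : ∀ x : Equiv.Perm (Fin 4), Equiv.Perm.sign x = 1 →
    ∃ i j : Fin 3, ∃ e : Fin 2, x = pc ^ (i : ℕ) * pa ^ (e : ℕ) * pc ^ (j : ℕ) := by
  decide


theorem a4_gens : ∃ a c : alternatingGroup (Fin 4), a * a = 1 ∧ c * c * c = 1 ∧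
    a * (c * a * c⁻¹) = (c * a * c⁻¹) * a ∧ c * (c * a * c⁻¹) * c⁻¹ = a * (c * a * c⁻¹) ∧
    a ≠ c * a * c⁻¹ ∧ Subgroup.closure {a, c} = ⊤ := by
  refine ⟨⟨pa, pa_mem⟩, ⟨pc, pc_mem⟩, ?_, ?_, ?_, ?_, ?_, ?_⟩
  · exact Subtype.ext perm_facts.1
  · exact Subtype.ext perm_facts.2.1
  · exact Subtype.ext perm_facts.2.2.1
  · exact Subtype.ext perm_facts.2.2.2.1
  · intro h
    exact perm_facts.2.2.2.2 (congrArg Subtype.val h)
  · rw [eq_top_iff]
    rintro ⟨x, hx⟩ -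
    obtain ⟨i, j, e, rfl⟩ := perm_gen x (Equiv.Perm.mem_alternatingGroup.mp hx)
    have : (⟨pc ^ (i : ℕ) * pa ^ (e : ℕ) * pc ^ (j : ℕ), hx⟩ : alternatingGroup (Fin 4)) =
        (⟨pc, pc_mem⟩ : alternatingGroup (Fin 4)) ^ (i : ℕ) * ⟨pa, pa_mem⟩ ^ (e : ℕ) *
          ⟨pc, pc_mem⟩ ^ (j : ℕ) := Subtype.ext (by simp)
    rw [this]
    exact mul_mem (mul_mem (pow_mem (Subgroup.subset_closure (by simp)) _)
      (pow_mem (Subgroup.subset_closure (by simp)) _))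
      (pow_mem (Subgroup.subset_closure (by simp)) _)

section GLpart

open scoped Pointwise

variable {k : ℕ}

theorem normal_form (hk : 2 ≤ k) (H : Subgroup (GL (Fin 2) (ZMod (2 ^ k))))
    (e : ↥H ≃* ↥(alternatingGroup (Fin 4))) :
    ∃ (g X Cg : GL (Fin 2) (ZMod (2 ^ k))) (y z : ZMod (2 ^ k)),
      MulAut.conj g • H = Subgroup.closure {X, Cg} ∧
      (Cg : Matrix (Fin 2) (Fin 2) (ZMod (2 ^ k))) = C0 k ∧
      (X : Matrix (Fin 2) (Fin 2) (ZMod (2 ^ k))) = 1 + MM y z ∧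
      2 * y = 0 ∧ 2 * z = 0 ∧ (y ≠ 0 ∨ z ≠ 0) := by
  obtain ⟨a, c, ha, hc, hab, hd, hne, hgen⟩ := a4_gens
  set ψ : ↥(alternatingGroup (Fin 4)) →* GL (Fin 2) (ZMod (2 ^ k)) :=
    H.subtype.comp e.symm.toMonoidHom with hψ
  have hψinj : Function.Injective ψ := by
    intro s t hst
    have : (e.symm s : GL (Fin 2) (ZMod (2 ^ k))) = e.symm t := hst
    exact e.symm.injective (Subtype.ext this)
  have hrange : H = Subgroup.closure {ψ a, ψ c} := by
    have h1 : ψ.range = H := by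
      ext x
      constructor
      · rintro ⟨t, rfl⟩
        exact (e.symm t).2
      · intro hx
        exact ⟨e ⟨x, hx⟩, by simp [hψ]⟩
    rw [← h1, MonoidHom.range_eq_map, ← hgen, MonoidHom.map_closure, Set.image_pair]
  set Φ : ↥(alternatingGroup (Fin 4)) →* Matrix (Fin 2) (Fin 2) (ZMod (2 ^ k)) :=
    (Units.coeHom _).comp ψ with hΦ
  have hΦinj : Function.Injective Φ := by
    intro s t hst
    exact hψinj (Units.ext hst)
  have hcfg : Config (Φ a) (Φ c) (Φ c⁻¹) := by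
    refine ⟨?_, ?_, ?_, ?_, ?_, ?_, ?_⟩
    · rw [← map_mul, ha, map_one]
    · rw [← map_mul, mul_inv_cancel, map_one]
    · rw [← map_mul, inv_mul_cancel, map_one]
    · rw [← map_mul, ← map_mul, hc, map_one]
    · simp only [← map_mul]; rw [hab]
    · simp only [← map_mul]; rw [hd]
    · intro h
      simp only [← map_mul] at h
      exact hne (hΦinj h)
  obtain ⟨P, Pi, hP1, hP2, hPC⟩ := hcfg.exists_conj hk
  have hcfg' := hcfg.conj hP1 hP2
  rw [hPC] at hcfg'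
  have hCi : Pi * Φ c⁻¹ * P = Ci0 k := eq_Ci0_of_mul_eq_one hcfg'.hCCi
  rw [hCi] at hcfg'
  obtain ⟨hA, y2, z2, hnz⟩ := hcfg'.canonical hk
  let g : GL (Fin 2) (ZMod (2 ^ k)) := ⟨Pi, P, hP2, hP1⟩
  refine ⟨g, g * ψ a * g⁻¹, g * ψ c * g⁻¹, (Pi * Φ a * P) 0 1, (Pi * Φ a * P) 1 0,
    ?_, ?_, ?_, y2, z2, hnz⟩
  · rw [Cfsg.Agent.Lib.Helper48_SPE.conj_smul_eq_map]
    conv_lhs => rw [hrange]
    rw [MonoidHom.map_closure, Set.image_pair]
    rfl
  · exact hPC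
  · exact hA

theorem conj_MM {y z : ZMod (2 ^ k)} (y2 : 2 * y = 0) (z2 : 2 * z = 0) :
    C0 k * (1 + MM y z) * Ci0 k = 1 + MM z (y + z) := by
  rw [Matrix.mul_add, Matrix.add_mul, Matrix.mul_one, C0_mul_Ci0]
  congr 1
  show (!![0, -1; 1, -1] : Matrix (Fin 2) (Fin 2) (ZMod (2 ^ k))) * !![y + z, y; z, y + z] *
    !![-1, 1; -1, 0] = !![z + (y + z), z; y + z, z + (y + z)]
  rw [kappa_formula]
  ext i j
  fin_cases i <;> fin_cases j <;> simp
  all_goals first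
    | linear_combination (-1 : ZMod (2 ^ k)) * z2
    | linear_combination (-1 : ZMod (2 ^ k)) * y2

theorem val_inv_eq_Ci0 {Cg : GL (Fin 2) (ZMod (2 ^ k))}
    (hC : (Cg : Matrix (Fin 2) (Fin 2) (ZMod (2 ^ k))) = C0 k) :
    ((Cg⁻¹ : GL (Fin 2) (ZMod (2 ^ k))) : Matrix (Fin 2) (Fin 2) (ZMod (2 ^ k))) = Ci0 k := by
  apply eq_Ci0_of_mul_eq_one
  rw [← hC, ← Units.val_mul, mul_inv_cancel, Units.val_one]

theorem val_conj {X Cg : GL (Fin 2) (ZMod (2 ^ k))} {y z : ZMod (2 ^ k)}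
    (hC : (Cg : Matrix (Fin 2) (Fin 2) (ZMod (2 ^ k))) = C0 k)
    (hX : (X : Matrix (Fin 2) (Fin 2) (ZMod (2 ^ k))) = 1 + MM y z)
    (y2 : 2 * y = 0) (z2 : 2 * z = 0) :
    ((Cg * X * Cg⁻¹ : GL (Fin 2) (ZMod (2 ^ k))) : Matrix (Fin 2) (Fin 2) (ZMod (2 ^ k))) =
      1 + MM z (y + z) := by
  rw [Units.val_mul, Units.val_mul, hC, hX, val_inv_eq_Ci0 hC, conj_MM y2 z2]

theorem mem_closure_of_forms (hk : 2 ≤ k) {X₁ X₂ Cg : GL (Fin 2) (ZMod (2 ^ k))}
    {y₁ z₁ y₂ z₂ : ZMod (2 ^ k)}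
    (hC : (Cg : Matrix (Fin 2) (Fin 2) (ZMod (2 ^ k))) = C0 k)
    (hX₁ : (X₁ : Matrix (Fin 2) (Fin 2) (ZMod (2 ^ k))) = 1 + MM y₁ z₁)
    (hX₂ : (X₂ : Matrix (Fin 2) (Fin 2) (ZMod (2 ^ k))) = 1 + MM y₂ z₂)
    (hy₁ : 2 * y₁ = 0) (hz₁ : 2 * z₁ = 0) (hy₂ : 2 * y₂ = 0) (hz₂ : 2 * z₂ = 0)
    (hnz₁ : y₁ ≠ 0 ∨ z₁ ≠ 0) (hnz₂ : y₂ ≠ 0 ∨ z₂ ≠ 0) :
    X₂ ∈ Subgroup.closure {X₁, Cg} := by
  have hk1 : 1 ≤ k := by omega
  have hX1m : X₁ ∈ Subgroup.closure {X₁, Cg} := Subgroup.subset_closure (by simp)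
  have hCm : Cg ∈ Subgroup.closure {X₁, Cg} := Subgroup.subset_closure (by simp)
  have hX1' : Cg * X₁ * Cg⁻¹ ∈ Subgroup.closure {X₁, Cg} :=
    mul_mem (mul_mem hCm hX1m) (inv_mem hCm)
  have hX1'' : Cg * (Cg * X₁ * Cg⁻¹) * Cg⁻¹ ∈ Subgroup.closure {X₁, Cg} :=
    mul_mem (mul_mem hCm hX1') (inv_mem hCm)
  have v1 := val_conj hC hX₁ hy₁ hz₁
  have hyz : 2 * (y₁ + z₁) = 0 := by linear_combination hy₁ + hz₁
  have v2 := val_conj hC v1 hz₁ hyz
  have hh2 : hh k + hh k = 0 := by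
    have := two_mul_hh (k := k) hk1
    linear_combination this
  have claim : (y₂ = y₁ ∧ z₂ = z₁) ∨ (y₂ = z₁ ∧ z₂ = y₁ + z₁) ∨
      (y₂ = y₁ + z₁ ∧ z₂ = z₁ + (y₁ + z₁)) := by
    rcases two_torsion hk1 y₁ hy₁ with rfl | rfl <;>
    rcases two_torsion hk1 z₁ hz₁ with rfl | rfl <;>
    rcases two_torsion hk1 y₂ hy₂ with rfl | rfl <;>
    rcases two_torsion hk1 z₂ hz₂ with rfl | rfl <;>
    simp [hh2] at hnz₁ hnz₂ ⊢
  rcases claim with ⟨h1, h2⟩ | ⟨h1, h2⟩ | ⟨h1, h2⟩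
  · have : X₂ = X₁ := Units.ext (by rw [hX₂, hX₁, h1, h2])
    rw [this]; exact hX1m
  · have : X₂ = Cg * X₁ * Cg⁻¹ := Units.ext (by rw [hX₂, v1, h1, h2])
    rw [this]; exact hX1'
  · have : X₂ = Cg * (Cg * X₁ * Cg⁻¹) * Cg⁻¹ := Units.ext (by rw [hX₂, v2, h1, h2])
    rw [this]; exact hX1''

theorem conj_of_iso (hk : 2 ≤ k) (H₁ H₂ : Subgroup (GL (Fin 2) (ZMod (2 ^ k))))
    (e₁ : ↥H₁ ≃* ↥(alternatingGroup (Fin 4))) (e₂ : ↥H₂ ≃* ↥(alternatingGroup (Fin 4))) :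
    ∃ g : GL (Fin 2) (ZMod (2 ^ k)), H₂ = H₁.map (MulAut.conj g).toMonoidHom := by
  obtain ⟨g₁, X₁, C₁, y₁, z₁, hH₁, hC₁, hX₁, hy₁, hz₁, hnz₁⟩ := normal_form hk H₁ e₁
  obtain ⟨g₂, X₂, C₂, y₂, z₂, hH₂, hC₂, hX₂, hy₂, hz₂, hnz₂⟩ := normal_form hk H₂ e₂
  have hCC : C₂ = C₁ := Units.ext (by rw [hC₁, hC₂])
  subst hCC
  have hcl : Subgroup.closure {X₁, C₂} = Subgroup.closure {X₂, C₂} := by
    apply le_antisymm
    · rw [Subgroup.closure_le]
      rintro x (rfl | rfl)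
      · exact mem_closure_of_forms hk hC₂ hX₂ hX₁ hy₂ hz₂ hy₁ hz₁ hnz₂ hnz₁
      · exact Subgroup.subset_closure (by simp)
    · rw [Subgroup.closure_le]
      rintro x (rfl | rfl)
      · exact mem_closure_of_forms hk hC₂ hX₁ hX₂ hy₁ hz₁ hy₂ hz₂ hnz₁ hnz₂
      · exact Subgroup.subset_closure (by simp)
  refine ⟨g₂⁻¹ * g₁, ?_⟩
  rw [← Cfsg.Agent.Lib.Helper48_SPE.conj_smul_eq_map,
    ← Cfsg.Agent.Lib.Helper48_Tight.conj_smul_smul, hH₁, hcl, ← hH₂,
    Cfsg.Agent.Lib.Helper48_Tight.conj_inv_smul_smul]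

end GLpart

end Cfsg.Agent.Lib.Helper48_A4GL2
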