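import Cfsg.Agent.Lib.Helper48_MSS2
import Cfsg.Agent.Lib.Helper47_Large
import Cfsg.Agent.Lib.Helper47_FrakM
import Cfsg.Agent.S2845

/-!
# The asymmetric case: `O_p(M)` is weakly closed (helper48)

`AsymData` bundles what is used of the standing hypotheses (`M` has the basic property, `Y = Y_M`
asymmetric, `R = O_p(M)`, `Md = M C(Y)`).  Main results:

* `conj_le_of_asym`: the amalgam-type connectivity argument, for a family of subgroups;
* `AsymData.normalizer_le`: `N(T) ≤ N(R) ≤ Md` for every `p`-subgroup `T ≥ R`;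
* `AsymData.isWeaklyClosedSubgroup`: `R` is a weakly closed subgroup of `G`.
-/

set_option autoImplicit false
open scoped commutatorElement

namespace Cfsg.Agent.Lib.Helper48_Asym

open Cfsg
open Cfsg.Agent.Lib.Helper48_MSS Cfsg.Agent.Lib.Helper48_MSS2 Cfsg.Agent.Lib.Helper47_PClosed
  Cfsg.Agent.Lib.Helper47_PLocal Cfsg.Agent.Lib.Helper47_Conj Cfsg.Agent.Lib.Helper47_WeaklyClosed
  Cfsg.Agent.Lib.Helper47_WC2 Cfsg.Agent.Lib.Helper47_SubAPI Cfsg.Agent.Lib.Helper47_TW
  Cfsg.Agent.Lib.Helper48_Coprime Cfsg.Agent.Lib.Helper47_Large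

variable {G : Type*} [Group G]

/-! ### Words -/

theorem exists_list_of_mem_iSup {ι : Sort*} (M : ι → Subgroup G) {x : G} (hx : x ∈ ⨆ i, M i) :
    ∃ l : List G, (∀ a ∈ l, ∃ i, a ∈ M i) ∧ l.prod = x := by
  refine Subgroup.iSup_induction M
    (C := fun x => ∃ l : List G, (∀ a ∈ l, ∃ i, a ∈ M i) ∧ l.prod = x) hx ?_ ?_ ?_
  · intro i y hy
    refine ⟨[y], ?_, by simp⟩
    intro a ha
    rw [List.mem_singleton] at ha
    exact ⟨i, ha ▸ hy⟩
  · exact ⟨[], by simp, by simp⟩
  · rintro y z ⟨l₁, h₁, rfl⟩ ⟨l₂, h₂, rfl⟩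
    refine ⟨l₁ ++ l₂, ?_, by simp⟩
    intro a ha
    rcases List.mem_append.mp ha with h | h
    · exact h₁ a h
    · exact h₂ a h

/-! ### The connectivity argument -/

/-- Amalgam-type argument: subgroups `M i` with normal subgroups `Y i ≤ R i`, every `R i` inside
every `M j`; `p`-closedness in the form `h3` and asymmetry in the form `h4`.  Then all conjugates of
the `Y j` under words in the `M t` lie in all `R i`. -/
theorem conj_le_of_asym {ι : Type*} (M Y R : ι → Subgroup G)
    (hYR : ∀ i, Y i ≤ R i) (hRM : ∀ i j, R i ≤ M j)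
    (hMY : ∀ i, M i ≤ Subgroup.normalizer ((Y i : Subgroup G) : Set G))
    (hMR : ∀ i, M i ≤ Subgroup.normalizer ((R i : Subgroup G) : Set G))
    (h3 : ∀ i j (x : G), (Y j).map (MulAut.conj x).toMonoidHom ≤ M i →
      (Y j).map (MulAut.conj x).toMonoidHom ≤ Subgroup.centralizer ((Y i : Subgroup G) : Set G) →
      (Y j).map (MulAut.conj x).toMonoidHom ≤ R i)
    (h4 : ∀ i j (x : G),
      (Y j).map (MulAut.conj x).toMonoidHom ≤ Subgroup.normalizer ((Y i : Subgroup G) : Set G) →
      Y i ≤ Subgroup.normalizer (((Y j).map (MulAut.conj x).toMonoidHom : Subgroup G) : Set G) →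
      (Y j).map (MulAut.conj x).toMonoidHom ≤ Subgroup.centralizer ((Y i : Subgroup G) : Set G)) :
    ∀ (n : ℕ) (l : List G), l.length = n → (∀ a ∈ l, ∃ t, a ∈ M t) →
      ∀ i j, (Y j).map (MulAut.conj l.prod).toMonoidHom ≤ R i ∧
        (Y j).map (MulAut.conj (l.prod)⁻¹).toMonoidHom ≤ R i := by
  have step : ∀ (i j : ι) (y : G) (s t : ι),
      (Y j).map (MulAut.conj y).toMonoidHom ≤ R t →
      (Y i).map (MulAut.conj y⁻¹).toMonoidHom ≤ R s →
      (Y j).map (MulAut.conj y).toMonoidHom ≤ R i := by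
    intro i j y s t h1 h2
    have hX : (Y j).map (MulAut.conj y).toMonoidHom ≤ M i := h1.trans (hRM t i)
    apply h3 i j y hX
    apply h4 i j y (hX.trans (hMY i))
    rw [normalizer_map_conj]
    have h5 : (Y i).map (MulAut.conj y⁻¹).toMonoidHom ≤
        Subgroup.normalizer ((Y j : Subgroup G) : Set G) :=
      (h2.trans (hRM s j)).trans (hMY j)
    have h6 := Subgroup.map_mono (f := (MulAut.conj y).toMonoidHom) h5
    rwa [map_conj_map_conj_inv] at h6
  intro n
  induction n with
  | zero =>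
    intro l hl _ i j
    have hl0 : l = [] := List.length_eq_zero_iff.mp hl
    subst hl0
    simp only [List.prod_nil, inv_one]
    have := step i j 1 i j (by rw [map_conj_one]; exact hYR j)
      (by rw [inv_one, map_conj_one]; exact hYR i)
    exact ⟨this, this⟩
  | succ n ih =>
    intro l hl hmem i j
    have hne : l ≠ [] := by
      intro h; rw [h] at hl; simp at hl
    obtain ⟨a, l', rfl⟩ := List.exists_cons_of_ne_nil hne
    have hdec : (a :: l').dropLast ++ [(a :: l').getLast hne] = a :: l' :=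
      List.dropLast_append_getLast hne
    have hlen' : l'.length = n := by simpa using hl
    have hlen'' : ((a :: l').dropLast).length = n := by
      rw [List.length_dropLast, hl]; rfl
    obtain ⟨t, hat⟩ := hmem a (List.mem_cons_self ..)
    obtain ⟨s, hcs⟩ := hmem ((a :: l').getLast hne) (List.getLast_mem hne)
    have hmem' : ∀ b ∈ l', ∃ t, b ∈ M t := fun b hb => hmem b (List.mem_cons_of_mem _ hb)
    have hmem'' : ∀ b ∈ (a :: l').dropLast, ∃ t, b ∈ M t :=
      fun b hb => hmem b (List.dropLast_subset _ hb)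
    have hp1 : (a :: l').prod = a * l'.prod := List.prod_cons
    have hp2 : (a :: l').prod = ((a :: l').dropLast).prod * (a :: l').getLast hne := by
      conv_lhs => rw [← hdec]
      rw [List.prod_append, List.prod_singleton]
    have ih' := ih l' hlen' hmem'
    have ih'' := ih _ hlen'' hmem''
    have hA : ∀ k, (Y k).map (MulAut.conj (a :: l').prod).toMonoidHom ≤ R t := by
      intro k
      rw [hp1, ← map_conj_map_conj]
      calc ((Y k).map (MulAut.conj l'.prod).toMonoidHom).map (MulAut.conj a).toMonoidHom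
          ≤ (R t).map (MulAut.conj a).toMonoidHom := Subgroup.map_mono (ih' t k).1
        _ = R t := mem_normalizer_iff_map_conj_eq'.mp (hMR t hat)
    have hB : ∀ k, (Y k).map (MulAut.conj ((a :: l').prod)⁻¹).toMonoidHom ≤ R s := by
      intro k
      rw [hp2, mul_inv_rev, ← map_conj_map_conj]
      calc ((Y k).map (MulAut.conj (((a :: l').dropLast).prod)⁻¹).toMonoidHom).map
            (MulAut.conj ((a :: l').getLast hne)⁻¹).toMonoidHom
          ≤ (R s).map (MulAut.conj ((a :: l').getLast hne)⁻¹).toMonoidHom :=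
            Subgroup.map_mono (ih'' s k).2
        _ = R s := mem_normalizer_iff_map_conj_eq'.mp (hMR s ((M s).inv_mem hcs))
    refine ⟨step i j _ s t (hA j) (hB i), ?_⟩
    exact step i j ((a :: l').prod)⁻¹ t s (hB j) (by rw [inv_inv]; exact hA i)

/-! ### Sylow's theorem inside a subgroup -/

theorem exists_mem_map_conj_le_sylow [Finite G] {p : ℕ} [Fact p.Prime] {K : Subgroup G}
    (T : Sylow p G) (hTK : (T : Subgroup G) ≤ K) {X : Subgroup G} (hX : IsPGroup p X)
    (hXK : X ≤ K) : ∃ k ∈ K, X.map (MulAut.conj k).toMonoidHom ≤ (T : Subgroup G) := by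
  have hX' : IsPGroup p (X.subgroupOf K) := hX.comap_subtype
  obtain ⟨P, hP⟩ := hX'.exists_le_sylow
  obtain ⟨k, hk⟩ := MulAction.exists_smul_eq K P (T.subtype hTK)
  refine ⟨k, k.2, ?_⟩
  have h1 : (X.subgroupOf K).map (MulAut.conj k).toMonoidHom ≤
      ((k • P : Sylow p K) : Subgroup K) := by
    rw [sylow_smul_eq_map_conj]
    exact Subgroup.map_mono hP
  rw [hk, Sylow.coe_subtype] at h1
  have h2 := Subgroup.map_mono (f := K.subtype) h1
  rwa [map_conj_map_subtype, Subgroup.map_subgroupOf_eq_of_le hXK,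
    Subgroup.map_subgroupOf_eq_of_le hTK] at h2

/-- A conjugate contained in a finite subgroup is the whole subgroup. -/
theorem map_conj_eq_of_le [Finite G] {K : Subgroup G} {g : G}
    (h : K.map (MulAut.conj g).toMonoidHom ≤ K) : K.map (MulAut.conj g).toMonoidHom = K := by
  apply Subgroup.eq_of_le_of_card_ge h
  rw [Subgroup.card_map_of_injective (MulAut.conj g).injective]

/-! ### The data -/

/-- What is used of: `M` has the basic property, `Y = Y_M` is asymmetric, `R = O_p(M)`,
`Md = M C(Y)`. -/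
structure AsymData (p : ℕ) (S : Sylow p G) (M Y R Md : Subgroup G) : Prop where
  hSM : (S : Subgroup G) ≤ M
  hYR : Y ≤ R
  hRS : R ≤ (S : Subgroup G)
  hMY : M ≤ Subgroup.normalizer (Y : Set G)
  hMR : M ≤ Subgroup.normalizer (R : Set G)
  hY1 : Y ≠ ⊥
  hMd : Md = M ⊔ Subgroup.centralizer (Y : Set G)
  hRC : R ≤ Subgroup.centralizer (Y : Set G)
  hSC : (S : Subgroup G) ⊓ Subgroup.centralizer (Y : Set G) ≤ R
  hover : ∀ L : Subgroup G, M ≤ L → Cfsg.pCoreOf p L ≠ ⊥ → L ≤ Md
  hMdcore : Cfsg.pCoreOf p Md ≠ ⊥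
  hasym : ¬ Cfsg.IsSymmetricIn Y

namespace AsymData

set_option linter.unusedSectionVars false

variable [Finite G] {p : ℕ} [Fact p.Prime] {S : Sylow p G} {M Y R Md : Subgroup G}

theorem hRp (h : AsymData p S M Y R Md) : IsPGroup p R := S.isPGroup'.to_le h.hRS

theorem hRM (h : AsymData p S M Y R Md) : R ≤ M := h.hRS.trans h.hSM

theorem hMMd (h : AsymData p S M Y R Md) : M ≤ Md := by rw [h.hMd]; exact le_sup_left

theorem hCMd (h : AsymData p S M Y R Md) : Subgroup.centralizer (Y : Set G) ≤ Md := by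
  rw [h.hMd]; exact le_sup_right

theorem hMdY (h : AsymData p S M Y R Md) : Md ≤ Subgroup.normalizer (Y : Set G) := by
  rw [h.hMd]; exact sup_le h.hMY (Subgroup.centralizer_le_normalizer _)

theorem hMdC (h : AsymData p S M Y R Md) :
    Md ≤ Subgroup.normalizer ((Subgroup.centralizer (Y : Set G) : Subgroup G) : Set G) :=
  h.hMdY.trans (normalizer_le_normalizer_centralizer _)

theorem hR1 (h : AsymData p S M Y R Md) : R ≠ ⊥ := by
  intro h0
  have := h.hYR
  rw [h0] at this
  exact h.hY1 (le_bot_iff.mp this)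

/-- Asymmetry for two conjugates. -/
theorem commute_of_normalize (h : AsymData p S M Y R Md) (g : G)
    (h1 : Y.map (MulAut.conj g).toMonoidHom ≤ Subgroup.normalizer (Y : Set G))
    (h2 : Y ≤ Subgroup.normalizer ((Y.map (MulAut.conj g).toMonoidHom : Subgroup G) : Set G)) :
    Y.map (MulAut.conj g).toMonoidHom ≤ Subgroup.centralizer (Y : Set G) := by
  have h3 := commutator_le_inf_of_le_normalizer h2 h1
  have h4 : ⁅Y, Y.map (MulAut.conj g).toMonoidHom⁆ = ⊥ := by
    by_contra hne
    exact h.hasym ⟨g, hne, h3⟩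
  rw [Subgroup.commutator_comm, Subgroup.commutator_eq_bot_iff_le_centralizer] at h4
  exact h4

/-- `p`-subgroups of `C_M(Y)` lie in `R`. -/
theorem le_of_le_centralizer (h : AsymData p S M Y R Md) {X : Subgroup G} (hX : IsPGroup p X)
    (hXM : X ≤ M) (hXC : X ≤ Subgroup.centralizer (Y : Set G)) : X ≤ R := by
  obtain ⟨m, hm, hXm⟩ := exists_mem_map_conj_le_sylow S h.hSM hX hXM
  have hmC : (Subgroup.centralizer (Y : Set G)).map (MulAut.conj m).toMonoidHom =
      Subgroup.centralizer (Y : Set G) :=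
    mem_normalizer_iff_map_conj_eq'.mp (h.hMdC (h.hMMd hm))
  have h1 : X.map (MulAut.conj m).toMonoidHom ≤ R := by
    refine le_trans (le_inf hXm ?_) h.hSC
    calc X.map (MulAut.conj m).toMonoidHom
        ≤ (Subgroup.centralizer (Y : Set G)).map (MulAut.conj m).toMonoidHom :=
          Subgroup.map_mono hXC
      _ = Subgroup.centralizer (Y : Set G) := hmC
  have h2 := Subgroup.map_mono (f := (MulAut.conj m⁻¹).toMonoidHom) h1
  rw [map_conj_inv_map_conj] at h2
  refine h2.trans (le_of_eq ?_)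
  exact mem_normalizer_iff_map_conj_eq'.mp (h.hMR (M.inv_mem hm))

/-- `R` is a Sylow `p`-subgroup of `C(Y)`. -/
theorem eq_of_le_centralizer (h : AsymData p S M Y R Md) {X : Subgroup G} (hX : IsPGroup p X)
    (hRX : R ≤ X) (hXC : X ≤ Subgroup.centralizer (Y : Set G)) : X = R := by
  have hSMd : (S : Subgroup G) ≤ Md := h.hSM.trans h.hMMd
  obtain ⟨m, hm, hXm⟩ := exists_mem_map_conj_le_sylow S hSMd hX (hXC.trans h.hCMd)
  have hmC : (Subgroup.centralizer (Y : Set G)).map (MulAut.conj m).toMonoidHom =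
      Subgroup.centralizer (Y : Set G) :=
    mem_normalizer_iff_map_conj_eq'.mp (h.hMdC hm)
  have h1 : X.map (MulAut.conj m).toMonoidHom ≤ R := by
    refine le_trans (le_inf hXm ?_) h.hSC
    calc X.map (MulAut.conj m).toMonoidHom
        ≤ (Subgroup.centralizer (Y : Set G)).map (MulAut.conj m).toMonoidHom :=
          Subgroup.map_mono hXC
      _ = Subgroup.centralizer (Y : Set G) := hmC
  symm
  apply Subgroup.eq_of_le_of_card_ge hRX
  have h2 := Subgroup.card_le_of_le h1
  rwa [Subgroup.card_map_of_injective (MulAut.conj m).injective] at h2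

theorem normalizer_R_le (h : AsymData p S M Y R Md) : Subgroup.normalizer (R : Set G) ≤ Md := by
  apply h.hover _ h.hMR
  have h1 : R ≤ Cfsg.pCoreOf p (Subgroup.normalizer (R : Set G)) :=
    le_pCoreOf Subgroup.le_normalizer le_rfl h.hRp
  intro h0
  rw [h0] at h1
  exact h.hR1 (le_bot_iff.mp h1)

theorem normalizer_Y_eq (h : AsymData p S M Y R Md) : Subgroup.normalizer (Y : Set G) = Md := by
  apply le_antisymm _ h.hMdY
  apply h.hover _ h.hMY
  have h1 : Y ≤ Cfsg.pCoreOf p (Subgroup.normalizer (Y : Set G)) :=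
    le_pCoreOf Subgroup.le_normalizer le_rfl (h.hRp.to_le h.hYR)
  intro h0
  rw [h0] at h1
  exact h.hY1 (le_bot_iff.mp h1)

theorem normalizer_Md_le (h : AsymData p S M Y R Md) : Subgroup.normalizer (Md : Set G) ≤ Md := by
  apply h.hover _ (h.hMMd.trans Subgroup.le_normalizer)
  have h1 : Cfsg.pCoreOf p Md ≤ Cfsg.pCoreOf p (Subgroup.normalizer (Md : Set G)) :=
    le_pCoreOf ((pCoreOf_le Md).trans Subgroup.le_normalizer)
      (normalizer_le_normalizer_pCoreOf' p Md) (isPGroup_pCoreOf Md)
  intro h0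
  rw [h0] at h1
  exact h.hMdcore (le_bot_iff.mp h1)

/-- If `M^n ≤ Md` then `n ∈ Md`. -/
theorem mem_of_map_conj_le (h : AsymData p S M Y R Md) {n : G}
    (hn : M.map (MulAut.conj n).toMonoidHom ≤ Md) : n ∈ Md := by
  have h1 : M ≤ Md.map (MulAut.conj n⁻¹).toMonoidHom := (map_conj_le_iff n M Md).mp hn
  have h2 : Cfsg.pCoreOf p (Md.map (MulAut.conj n⁻¹).toMonoidHom) ≠ ⊥ := by
    intro h0
    have h3 := map_conj_pCoreOf_le (p := p) Md n⁻¹
    rw [h0] at h3
    have h4 : (Cfsg.pCoreOf p Md).map (MulAut.conj n⁻¹).toMonoidHom = ⊥ := le_bot_iff.mp h3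
    apply h.hMdcore
    have := (map_conj_eq_iff n⁻¹ (Cfsg.pCoreOf p Md) ⊥).mp h4
    rw [this, Subgroup.map_bot]
  have h3 := h.hover _ h1 h2
  have h4 : n⁻¹ ∈ Subgroup.normalizer (Md : Set G) :=
    mem_normalizer_iff_map_conj_eq'.mpr (map_conj_eq_of_le h3)
  have h5 := h.normalizer_Md_le h4
  have := Md.inv_mem h5
  rwa [inv_inv] at this

/-- **The key step**: `N(T) ≤ Md` for `R ≤ T ≤ M`. -/
theorem normalizer_le_of_le (h : AsymData p S M Y R Md) {T : Subgroup G} (hRT : R ≤ T)
    (hTM : T ≤ M) : Subgroup.normalizer (T : Set G) ≤ Md := by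
  intro n hn
  apply h.mem_of_map_conj_le
  -- the family of conjugates of `M` under `N(T)`
  set B : Subgroup G := Subgroup.normalizer (T : Set G) with hB
  have hTb : ∀ b : ↥B, T.map (MulAut.conj (b : G)).toMonoidHom = T :=
    fun b => mem_normalizer_iff_map_conj_eq'.mp b.2
  have key := conj_le_of_asym (ι := ↥B)
    (fun b => M.map (MulAut.conj (b : G)).toMonoidHom)
    (fun b => Y.map (MulAut.conj (b : G)).toMonoidHom)
    (fun b => R.map (MulAut.conj (b : G)).toMonoidHom)
    (fun b => Subgroup.map_mono h.hYR)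
    (fun b b' => by
      calc R.map (MulAut.conj (b : G)).toMonoidHom ≤ T.map (MulAut.conj (b : G)).toMonoidHom :=
            Subgroup.map_mono hRT
        _ = T := hTb b
        _ = T.map (MulAut.conj (b' : G)).toMonoidHom := (hTb b').symm
        _ ≤ M.map (MulAut.conj (b' : G)).toMonoidHom := Subgroup.map_mono hTM)
    (fun b => by rw [normalizer_map_conj]; exact Subgroup.map_mono h.hMY)
    (fun b => by rw [normalizer_map_conj]; exact Subgroup.map_mono h.hMR)
    (fun b b' x hX hXC => by
      -- conjugate back by `b⁻¹`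
      have e : ((Y.map (MulAut.conj (b' : G)).toMonoidHom).map (MulAut.conj x).toMonoidHom).map
          (MulAut.conj (b : G)⁻¹).toMonoidHom =
          Y.map (MulAut.conj ((b : G)⁻¹ * (x * (b' : G)))).toMonoidHom := by
        rw [map_conj_map_conj, map_conj_map_conj, mul_assoc]
      have h1 : Y.map (MulAut.conj ((b : G)⁻¹ * (x * (b' : G)))).toMonoidHom ≤ M := by
        rw [← e]
        have := Subgroup.map_mono (f := (MulAut.conj (b : G)⁻¹).toMonoidHom) hX
        rwa [map_conj_inv_map_conj] at this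
      have h2 : Y.map (MulAut.conj ((b : G)⁻¹ * (x * (b' : G)))).toMonoidHom ≤
          Subgroup.centralizer (Y : Set G) := by
        rw [← e]
        have := Subgroup.map_mono (f := (MulAut.conj (b : G)⁻¹).toMonoidHom) hXC
        rwa [centralizer_map_conj, map_conj_inv_map_conj] at this
      have h3 := h.le_of_le_centralizer ((h.hRp.to_le h.hYR).map _) h1 h2
      rw [← e] at h3
      have := Subgroup.map_mono (f := (MulAut.conj (b : G)).toMonoidHom) h3
      rwa [map_conj_map_conj_inv] at this)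
    (fun b b' x hX1 hX2 => by
      have e : ((Y.map (MulAut.conj (b' : G)).toMonoidHom).map (MulAut.conj x).toMonoidHom).map
          (MulAut.conj (b : G)⁻¹).toMonoidHom =
          Y.map (MulAut.conj ((b : G)⁻¹ * (x * (b' : G)))).toMonoidHom := by
        rw [map_conj_map_conj, map_conj_map_conj, mul_assoc]
      have h1 : Y.map (MulAut.conj ((b : G)⁻¹ * (x * (b' : G)))).toMonoidHom ≤
          Subgroup.normalizer (Y : Set G) := by
        rw [← e]
        have := Subgroup.map_mono (f := (MulAut.conj (b : G)⁻¹).toMonoidHom) hX1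
        rwa [normalizer_map_conj, map_conj_inv_map_conj] at this
      have h2 : Y ≤ Subgroup.normalizer
          ((Y.map (MulAut.conj ((b : G)⁻¹ * (x * (b' : G)))).toMonoidHom : Subgroup G) : Set G) := by
        rw [← e, normalizer_map_conj]
        have := Subgroup.map_mono (f := (MulAut.conj (b : G)⁻¹).toMonoidHom) hX2
        rwa [map_conj_inv_map_conj] at this
      have h3 := h.commute_of_normalize _ h1 h2
      rw [← e] at h3
      have := Subgroup.map_mono (f := (MulAut.conj (b : G)).toMonoidHom) h3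
      rwa [map_conj_map_conj_inv, ← centralizer_map_conj] at this)
  -- the subgroup generated by the family
  set L : Subgroup G := ⨆ b : ↥B, M.map (MulAut.conj (b : G)).toMonoidHom with hL
  have hML : M ≤ L := by
    have h1 : M.map (MulAut.conj ((1 : ↥B) : G)).toMonoidHom = M := by
      rw [OneMemClass.coe_one]; exact map_conj_one M
    calc M = M.map (MulAut.conj ((1 : ↥B) : G)).toMonoidHom := h1.symm
      _ ≤ L := le_iSup (fun b : ↥B => M.map (MulAut.conj (b : G)).toMonoidHom) 1
  have hMnL : M.map (MulAut.conj n).toMonoidHom ≤ L :=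
    le_iSup (fun b : ↥B => M.map (MulAut.conj (b : G)).toMonoidHom) ⟨n, hn⟩
  refine hMnL.trans ?_
  -- the normal closure of `Y` in `L`
  set F : ↥L → Subgroup G := fun x => Y.map (MulAut.conj (x : G)).toMonoidHom with hF
  set N : Subgroup G := ⨆ x : ↥L, F x with hN
  have hYM : Y ≤ M := h.hYR.trans h.hRM
  have hFR : ∀ x : ↥L, F x ≤ R := by
    intro x
    obtain ⟨l, hl, hlx⟩ := exists_list_of_mem_iSup _ x.2
    have h1 := (key l.length l rfl (fun a ha => hl a ha) 1 1).1
    simp only [OneMemClass.coe_one, map_conj_one] at h1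
    rw [hlx] at h1
    exact h1
  have hNR : N ≤ R := iSup_le hFR
  have hYN : Y ≤ N := by
    have h1 : F 1 = Y := by
      simp only [hF, OneMemClass.coe_one]
      exact map_conj_one Y
    calc Y = F 1 := h1.symm
      _ ≤ N := le_iSup F 1
  have hNL : N ≤ L := hNR.trans (h.hRM.trans hML)
  have hLN : L ≤ Subgroup.normalizer (N : Set G) := by
    apply le_normalizer_of_forall_map_conj_le
    intro g hg
    rw [hN, Subgroup.map_iSup]
    refine iSup_le (fun x => ?_)
    have h1 : (F x).map (MulAut.conj g).toMonoidHom = F (⟨g, hg⟩ * x) := by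
      simp only [hF, Subgroup.coe_mul]
      exact map_conj_map_conj g (x : G) Y
    rw [h1]
    exact le_iSup F _
  apply h.hover L hML
  have h1 : N ≤ Cfsg.pCoreOf p L := le_pCoreOf hNL hLN (h.hRp.to_le hNR)
  intro h0
  rw [h0] at h1
  exact h.hY1 (le_bot_iff.mp (hYN.trans h1))

/-- `N(T) ≤ Md` for every `p`-subgroup `T` with `R ≤ T ≤ Md`. -/
theorem normalizer_le_of_le_Md (h : AsymData p S M Y R Md) {T : Subgroup G} (hT : IsPGroup p T)
    (hRT : R ≤ T) (hTMd : T ≤ Md) : Subgroup.normalizer (T : Set G) ≤ Md := by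
  have hSMd : (S : Subgroup G) ≤ Md := h.hSM.trans h.hMMd
  obtain ⟨m, hm, hTm⟩ := exists_mem_map_conj_le_sylow S hSMd hT hTMd
  have hmC : (Subgroup.centralizer (Y : Set G)).map (MulAut.conj m).toMonoidHom =
      Subgroup.centralizer (Y : Set G) :=
    mem_normalizer_iff_map_conj_eq'.mp (h.hMdC hm)
  have h1 : R.map (MulAut.conj m).toMonoidHom ≤ R := by
    refine le_trans (le_inf ((Subgroup.map_mono hRT).trans hTm) ?_) h.hSC
    calc R.map (MulAut.conj m).toMonoidHom
        ≤ (Subgroup.centralizer (Y : Set G)).map (MulAut.conj m).toMonoidHom :=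
          Subgroup.map_mono h.hRC
      _ = Subgroup.centralizer (Y : Set G) := hmC
  have h2 : R ≤ T.map (MulAut.conj m).toMonoidHom := by
    rw [← map_conj_eq_of_le h1]
    exact Subgroup.map_mono hRT
  have h3 := h.normalizer_le_of_le h2 (hTm.trans h.hSM)
  rw [normalizer_map_conj] at h3
  have h4 := Subgroup.map_mono (f := (MulAut.conj m⁻¹).toMonoidHom) h3
  rw [map_conj_inv_map_conj] at h4
  refine h4.trans (le_of_eq ?_)
  exact map_conj_eq_self_of_mem (Md.inv_mem hm)

/-- Elements of `Md` normalizing a `p`-subgroup `X` with `R ≤ X` normalize `R`. -/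
theorem mem_normalizer_R (h : AsymData p S M Y R Md) {X : Subgroup G} (hX : IsPGroup p X)
    (hRX : R ≤ X) {t : G} (htMd : t ∈ Md) (htX : t ∈ Subgroup.normalizer (X : Set G)) :
    t ∈ Subgroup.normalizer (R : Set G) := by
  rw [mem_normalizer_iff_map_conj_eq']
  apply map_conj_eq_of_le
  have htC : (Subgroup.centralizer (Y : Set G)).map (MulAut.conj t).toMonoidHom =
      Subgroup.centralizer (Y : Set G) :=
    mem_normalizer_iff_map_conj_eq'.mp (h.hMdC htMd)
  have h1 : R.map (MulAut.conj t).toMonoidHom ≤ X ⊓ Subgroup.centralizer (Y : Set G) := by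
    apply le_inf
    · calc R.map (MulAut.conj t).toMonoidHom ≤ X.map (MulAut.conj t).toMonoidHom :=
            Subgroup.map_mono hRX
        _ = X := mem_normalizer_iff_map_conj_eq'.mp htX
    · calc R.map (MulAut.conj t).toMonoidHom
          ≤ (Subgroup.centralizer (Y : Set G)).map (MulAut.conj t).toMonoidHom :=
            Subgroup.map_mono h.hRC
        _ = Subgroup.centralizer (Y : Set G) := htC
  have h2 : X ⊓ Subgroup.centralizer (Y : Set G) = R :=
    h.eq_of_le_centralizer (hX.to_le inf_le_left) (le_inf hRX h.hRC) inf_le_right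
  rw [h2] at h1
  exact h1

/-- **(a)**: `N(T) ≤ N(R)` for every `p`-subgroup `T ≥ R`. -/
theorem normalizer_le (h : AsymData p S M Y R Md) {T : Subgroup G} (hT : IsPGroup p T)
    (hRT : R ≤ T) : Subgroup.normalizer (T : Set G) ≤ Subgroup.normalizer (R : Set G) := by
  -- first `T ≤ N(R)`
  have hTN : T ≤ Subgroup.normalizer (R : Set G) := by
    by_contra hne
    set T₀ : Subgroup G := T ⊓ Subgroup.normalizer (R : Set G) with hT₀
    have hlt : T₀ < T := by
      refine lt_of_le_of_ne inf_le_left ?_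
      intro heq
      apply hne
      rw [← heq]; exact inf_le_right
    have hRT₀ : R ≤ T₀ := le_inf hRT Subgroup.le_normalizer
    have hT₀p : IsPGroup p T₀ := hT.to_le inf_le_left
    have hT₀Md : T₀ ≤ Md := inf_le_right.trans h.normalizer_R_le
    obtain ⟨t, htT, htT₀, htN⟩ := exists_mem_normalizer_not_mem hT hlt
    have htMd : t ∈ Md := h.normalizer_le_of_le_Md hT₀p hRT₀ hT₀Md htN
    exact htT₀ ⟨htT, h.mem_normalizer_R hT₀p hRT₀ htMd htN⟩
  intro n hn
  have hTMd : T ≤ Md := hTN.trans h.normalizer_R_le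
  exact h.mem_normalizer_R hT hRT (h.normalizer_le_of_le_Md hT hRT hTMd hn) hn

/-- **(b)**: `R` is a weakly closed subgroup of `G`. -/
theorem isWeaklyClosedSubgroup (h : AsymData p S M Y R Md) : Cfsg.IsWeaklyClosedSubgroup p R :=
  norm_imp_wc h.hRp (fun _ hT hRT => h.normalizer_le hT hRT)

end AsymData

end Cfsg.Agent.Lib.Helper48_Asym
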