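import Cfsg.Agent.Lib.Helper49_CharP4
import Cfsg.Agent.Lib.Helper48_SPE

/-!
# Characteristic `p` criteria via centralizers of central elements (helper48)

Built on helper49's `IsCharP` library.

* `isCharP_centralizer_conj`: `C_G(z)` of characteristic `p` iff `C_G(g z g⁻¹)` is.
* `isCharP_normalizer_of_central`: if `z ∈ Z(X)`, `X` a `p`-subgroup and `C_G(z)` has characteristic
  `p`, then `N_G(X)` has characteristic `p`.
* `isCharP_centralizer_of_normalizer_zpowers`: `N_G(⟨z⟩)` of characteristic `p` implies `C_G(z)` is.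
-/

set_option autoImplicit false
open Cfsg
open scoped Pointwise
open Cfsg.Agent.Lib.Helper49_CharP
open Cfsg.Agent.Lib.Helper48_SPE

namespace Cfsg.Agent.Lib.Helper48_CharP

variable {G : Type*} [Group G]

/-- Equal subgroups have the same `IsCharP`. -/
theorem isCharP_congr {p : ℕ} {A B : Subgroup G} (h : A = B) (hA : IsCharP p ↥A) : IsCharP p ↥B := by
  subst h
  exact hA

theorem isCharP_conj_smul {p : ℕ} (g : G) {A : Subgroup G} (hA : IsCharP p ↥A) :
    IsCharP p ↥(MulAut.conj g • A) :=
  hA.of_mulEquiv (Subgroup.equivSMul (MulAut.conj g) A)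

/-- `C_G(z)` has characteristic `p` iff its conjugate `C_G(g z g⁻¹)` has. -/
theorem isCharP_centralizer_conj {p : ℕ} (g z : G)
    (h : IsCharP p ↥(Subgroup.centralizer ({z} : Set G))) :
    IsCharP p ↥(Subgroup.centralizer ({g * z * g⁻¹} : Set G)) := by
  have h1 : IsCharP p ↥(MulAut.conj g • Subgroup.centralizer ({z} : Set G)) := isCharP_conj_smul g h
  have e := conj_smul_centralizer_singleton g z
  rw [e] at h1
  exact h1

/-- If `z` is a central element of the `p`-subgroup `X` and `C_G(z)` has characteristic `p`, then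
`N_G(X)` has characteristic `p`. -/
theorem isCharP_normalizer_of_central [Finite G] {p : ℕ} [Fact p.Prime] (X : Subgroup G)
    (hX : IsPGroup p X) (z : G) (hzX : z ∈ X) (hzc : ∀ x ∈ X, x * z = z * x)
    (hC : IsCharP p ↥(Subgroup.centralizer ({z} : Set G))) :
    IsCharP p ↥(Subgroup.normalizer (X : Set G)) := by
  have hXC : X ≤ Subgroup.centralizer ({z} : Set G) := by
    intro x hx
    rw [Subgroup.mem_centralizer_singleton_iff]
    exact hzc x hx
  have hXCp : IsPGroup p ↥(X.subgroupOf (Subgroup.centralizer ({z} : Set G))) :=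
    hX.of_equiv (Subgroup.subgroupOfEquivOfLe hXC).symm
  have h1 := IsCharP.normalizer hC (X.subgroupOf (Subgroup.centralizer ({z} : Set G))) hXCp
  rw [← Subgroup.subgroupOf_normalizer_eq hXC] at h1
  -- both are `N ⊓ C`
  have h2 : IsCharP p ↥(Subgroup.normalizer (X : Set G) ⊓ Subgroup.centralizer ({z} : Set G) : Subgroup G) := by
    have e1 : ((Subgroup.normalizer (X : Set G)).subgroupOf (Subgroup.centralizer ({z} : Set G))) =
        (Subgroup.normalizer (X : Set G) ⊓ Subgroup.centralizer ({z} : Set G)).subgroupOf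
          (Subgroup.centralizer ({z} : Set G)) := (Subgroup.inf_subgroupOf_right _ _).symm
    rw [e1] at h1
    exact h1.of_mulEquiv (Subgroup.subgroupOfEquivOfLe inf_le_right)
  have h3 : IsCharP p ↥((Subgroup.centralizer ({z} : Set G)).subgroupOf (Subgroup.normalizer (X : Set G))) := by
    have e1 : ((Subgroup.centralizer ({z} : Set G)).subgroupOf (Subgroup.normalizer (X : Set G))) =
        (Subgroup.normalizer (X : Set G) ⊓ Subgroup.centralizer ({z} : Set G)).subgroupOf
          (Subgroup.normalizer (X : Set G)) := (Subgroup.inf_subgroupOf_left _ _).symm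
    rw [e1]
    exact h2.of_mulEquiv (Subgroup.subgroupOfEquivOfLe inf_le_left).symm
  refine IsCharP.of_centralizer_le _ h3 ?_
  intro n hn
  rw [Subgroup.mem_subgroupOf, Subgroup.mem_centralizer_singleton_iff]
  have hXn : (X.subgroupOf (Subgroup.normalizer (X : Set G))).Normal := Subgroup.normal_in_normalizer
  have hXp : IsPGroup p ↥(X.subgroupOf (Subgroup.normalizer (X : Set G))) :=
    hX.of_equiv (Subgroup.subgroupOfEquivOfLe Subgroup.le_normalizer).symm
  have hle : X.subgroupOf (Subgroup.normalizer (X : Set G)) ≤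
      pCore p ↥(Subgroup.normalizer (X : Set G)) := le_pCore hXn hXp
  have hz' : (⟨z, Subgroup.le_normalizer hzX⟩ : ↥(Subgroup.normalizer (X : Set G))) ∈
      pCore p ↥(Subgroup.normalizer (X : Set G)) := by
    apply hle
    rw [Subgroup.mem_subgroupOf]
    exact hzX
  have := Subgroup.mem_centralizer_iff.mp hn _ hz'
  have h4 := congrArg Subtype.val this
  simp only [Subgroup.coe_mul] at h4
  exact h4.symm

/-- If `N_G(⟨z⟩)` has characteristic `p`, so has `C_G(z)`. -/
theorem isCharP_centralizer_of_normalizer_zpowers [Finite G] {p : ℕ} [Fact p.Prime] (z : G)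
    (h : IsCharP p ↥(Subgroup.normalizer ((Subgroup.zpowers z : Subgroup G) : Set G))) :
    IsCharP p ↥(Subgroup.centralizer ({z} : Set G)) := by
  have hle : Subgroup.centralizer ({z} : Set G) ≤
      Subgroup.normalizer ((Subgroup.zpowers z : Subgroup G) : Set G) :=
    centralizer_singleton_le_normalizer_zpowers z
  have hn : ((Subgroup.centralizer ({z} : Set G)).subgroupOf
      (Subgroup.normalizer ((Subgroup.zpowers z : Subgroup G) : Set G))).Normal := by
    have e : Subgroup.centralizer ({z} : Set G) =
        Subgroup.centralizer ((Subgroup.zpowers z : Subgroup G) : Set G) := by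
      rw [Subgroup.zpowers_eq_closure, Subgroup.centralizer_closure]
    rw [e]
    infer_instance
  have h1 := h.of_normal ((Subgroup.centralizer ({z} : Set G)).subgroupOf
      (Subgroup.normalizer ((Subgroup.zpowers z : Subgroup G) : Set G)))
  exact h1.of_mulEquiv (Subgroup.subgroupOfEquivOfLe hle)

end Cfsg.Agent.Lib.Helper48_CharP
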