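import Mathlib

/-!
Package D8-LOC72 (architect helper1, S3716): the normalizer of a self-centralizing elementary abelian Sylow 3-subgroup of
order 9 whose Sylow 2-subgroups are dihedral of order 8 has order 72.
-/

set_option autoImplicit false

namespace Cfsg.Agent.Lib.Helper93_D8_LOC72

section grp
variable {G : Type*} [Group G] [Finite G]

/-- An element of prime order `p ≥ 5` normalizing a subgroup `M` of order `9` centralizes it. -/
theorem centralizes_of_prime_order (M : Subgroup G) (hM9 : Nat.card M = 9) {g : G}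
    (hg : g ∈ Subgroup.normalizer (M : Set G)) {p : ℕ} (hp : p.Prime) (hp2 : p ≠ 2) (hp3 : p ≠ 3)
    (hgp : g ^ p = 1) : ∀ m ∈ M, g * m * g⁻¹ = m := by
  classical
  have : Fact p.Prime := ⟨hp⟩
  have hnorm : ∀ m : G, m ∈ M → g * m * g⁻¹ ∈ M := fun m hm =>
    (Subgroup.mem_normalizer_iff.mp hg m).mp hm
  let f : Function.End M := fun m => ⟨g * m * g⁻¹, hnorm m m.2⟩
  have hfk : ∀ (k : ℕ) (m : M), ((f ^ k) m : G) = g ^ k * m * (g ^ k)⁻¹ := by
    intro k
    induction k with
    | zero =>
      intro m
      rw [pow_zero, pow_zero]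
      show (m : G) = 1 * m * 1⁻¹
      group
    | succ k ih =>
      intro m
      rw [pow_succ']
      show g * ((f ^ k) m : G) * g⁻¹ = _
      rw [ih, pow_succ']
      group
  have hf : f ^ p ^ 1 = 1 := by
    rw [pow_one]
    funext m
    apply Subtype.ext
    rw [hfk, hgp]
    show (1 : G) * m * 1⁻¹ = m
    group
  have := Fintype.ofFinite M
  have hmod := Equiv.Perm.card_fixedPoints_modEq (f := f) (p := p) (n := 1) hf
  -- the fixed points form a subgroup
  let C : Subgroup G := M ⊓ Subgroup.centralizer {g}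
  have hCle : C ≤ M := inf_le_left
  have hfix : Fintype.card (Function.fixedPoints f) = Nat.card C := by
    rw [← Nat.card_eq_fintype_card]
    apply Nat.card_congr
    refine ⟨fun m => ⟨m.1.1, m.1.2, ?_⟩, fun c => ⟨⟨c.1, c.2.1⟩, ?_⟩, fun m => rfl, fun c => rfl⟩
    · show (m.1.1 : G) ∈ Subgroup.centralizer {g}
      rw [Subgroup.mem_centralizer_singleton_iff]
      have h1 : g * m.1.1 * g⁻¹ = m.1.1 := congrArg Subtype.val m.2
      calc (m.1.1 : G) * g = g * m.1.1 * g⁻¹ * g := by rw [h1]
        _ = g * m.1.1 := by group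
    · have h1 := Subgroup.mem_centralizer_singleton_iff.mp c.2.2
      show f ⟨c.1, c.2.1⟩ = ⟨c.1, c.2.1⟩
      apply Subtype.ext
      show g * c.1 * g⁻¹ = c.1
      rw [← h1]
      group
  rw [hfix, ← Nat.card_eq_fintype_card, hM9] at hmod
  have hdvd : Nat.card C ∣ 9 := by
    rw [← hM9]
    exact Subgroup.card_dvd_of_le hCle
  have hdiv : Nat.card C ∈ Nat.divisors 9 := Nat.mem_divisors.mpr ⟨hdvd, by norm_num⟩
  have h9 : Nat.divisors 9 = {1, 3, 9} := by decide
  rw [h9] at hdiv
  simp only [Finset.mem_insert, Finset.mem_singleton] at hdiv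
  have hp5 : 5 ≤ p := by
    have := hp.two_le
    by_contra hcon
    have : p = 2 ∨ p = 3 ∨ p = 4 := by omega
    rcases this with h | h | h
    · exact hp2 h
    · exact hp3 h
    · rw [h] at hp; exact absurd hp (by norm_num)
  rcases hdiv with h | h | h
  · exfalso
    rw [h] at hmod
    have h8 : p ∣ 8 := (Nat.modEq_iff_dvd' (by norm_num)).mp hmod.symm
    have : p ∣ 2 ^ 3 := by norm_num; exact h8
    have := (Nat.prime_dvd_prime_iff_eq hp Nat.prime_two).mp (hp.dvd_of_dvd_pow this)
    exact hp2 this
  · exfalso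
    rw [h] at hmod
    have h6 : p ∣ 6 := (Nat.modEq_iff_dvd' (by norm_num)).mp hmod.symm
    have h6' : p ∣ 2 * 3 := by norm_num; exact h6
    rcases (Nat.Prime.dvd_mul hp).mp h6' with h' | h'
    · exact hp2 ((Nat.prime_dvd_prime_iff_eq hp Nat.prime_two).mp h')
    · exact hp3 ((Nat.prime_dvd_prime_iff_eq hp Nat.prime_three).mp h')
  · have hCM : C = M := Subgroup.eq_of_le_of_card_ge hCle (by rw [h, hM9])
    intro m hm
    have hmC : m ∈ C := by rw [hCM]; exact hm
    have h1 := Subgroup.mem_centralizer_singleton_iff.mp hmC.2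
    rw [← h1]
    group

theorem card_normalizer (M : Sylow 3 G) (hM9 : Nat.card ↥(M : Subgroup G) = 9)
    (hMel : ∀ m ∈ (M : Subgroup G), m ^ 3 = 1)
    (hCM : Subgroup.centralizer ((M : Subgroup G) : Set G) = (M : Subgroup G))
    (hS : ∀ S : Sylow 2 ↥(Subgroup.normalizer ((M : Subgroup G) : Set G)),
      Nonempty (↥(S : Subgroup ↥(Subgroup.normalizer ((M : Subgroup G) : Set G))) ≃* DihedralGroup 4)) :
    Nat.card (Subgroup.normalizer ((M : Subgroup G) : Set G)) = 72 := by
  set N := Subgroup.normalizer ((M : Subgroup G) : Set G) with hN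
  have hMN : (M : Subgroup G) ≤ N := Subgroup.le_normalizer
  have hn0 : Nat.card N ≠ 0 := Nat.card_pos.ne'
  have : Fact (Nat.Prime 2) := ⟨Nat.prime_two⟩
  have : Fact (Nat.Prime 3) := ⟨Nat.prime_three⟩
  -- the 3-part
  have h3 : (Nat.card N).factorization 3 = 2 := by
    have h := (M.subtype hMN).card_eq_multiplicity
    have hc : Nat.card (M.subtype hMN) = 9 := by
      rw [← hM9]
      exact Nat.card_congr (Subgroup.subgroupOfEquivOfLe hMN).toEquiv
    rw [hc] at h
    have : (3 : ℕ) ^ 2 = 3 ^ (Nat.card N).factorization 3 := by rw [← h]; norm_num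
    exact (Nat.pow_right_injective (by norm_num : 2 ≤ 3) this).symm
  -- the 2-part
  have h2 : (Nat.card N).factorization 2 = 3 := by
    obtain ⟨S⟩ : Nonempty (Sylow 2 N) := inferInstance
    obtain ⟨e⟩ := hS S
    have h := S.card_eq_multiplicity
    have hc : Nat.card S = 8 := by
      rw [Nat.card_congr e.toEquiv, DihedralGroup.nat_card]
    rw [hc] at h
    have : (2 : ℕ) ^ 3 = 2 ^ (Nat.card N).factorization 2 := by rw [← h]; norm_num
    exact (Nat.pow_right_injective (le_refl 2) this).symm
  -- no other primes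
  have hprimes : ∀ p : ℕ, p.Prime → p ∣ Nat.card N → p = 2 ∨ p = 3 := by
    intro p hp hpd
    by_contra hcon
    push Not at hcon
    have : Fact p.Prime := ⟨hp⟩
    obtain ⟨x, hx⟩ := exists_prime_orderOf_dvd_card' p hpd
    have hgp : (x : G) ^ p = 1 := by
      have := pow_orderOf_eq_one x
      rw [hx] at this
      have h' := congrArg Subtype.val this
      simpa using h'
    have hcent := centralizes_of_prime_order (M : Subgroup G) hM9 x.2 hp hcon.1 hcon.2 hgp
    have hxC : (x : G) ∈ Subgroup.centralizer ((M : Subgroup G) : Set G) := by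
      rw [Subgroup.mem_centralizer_iff]
      intro m hm
      have := hcent m hm
      calc m * (x : G) = (x : G) * m * (x : G)⁻¹ * x := by rw [this]
        _ = (x : G) * m := by group
    rw [hCM] at hxC
    have h3x : (x : G) ^ 3 = 1 := hMel _ hxC
    have hord : orderOf (x : G) = p := by rw [Subgroup.orderOf_coe, hx]
    have hd : p ∣ 3 := by rw [← hord]; exact orderOf_dvd_of_pow_eq_one h3x
    exact hcon.2 ((Nat.prime_dvd_prime_iff_eq hp Nat.prime_three).mp hd)
  -- assemble
  have hsupp : (Nat.card N).factorization.support ⊆ {2, 3} := by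
    intro p hp
    rw [Nat.support_factorization, Nat.mem_primeFactors] at hp
    rcases hprimes p hp.1 hp.2.1 with h | h <;> simp [h]
  have hprod := Nat.prod_factorization_pow_eq_self hn0
  rw [Finsupp.prod_of_support_subset _ hsupp _ (by intro i _; exact pow_zero i)] at hprod
  rw [Finset.prod_pair (by norm_num), h2, h3] at hprod
  rw [← hprod]
  norm_num

end grp

end Cfsg.Agent.Lib.Helper93_D8_LOC72
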