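import Mathlib
import Cfsg.Prelude.Def_Characters
import Cfsg.Agent.Lib.Helper80_CharBasic
import Cfsg.Agent.Lib.Helper62_D72Defs
import Cfsg.Agent.Lib.Helper93_D8_LOC72

/-!
# S3716 market `d72_packages` (architect helper62), package LOCCARD (helper48): `|N_G(M)| = 72`.
One-line wrapper over helper93's `Helper93_D8_LOC72.card_normalizer` (the same statement of helper1's market `d8_packages`).
-/

set_option autoImplicit false
open scoped ComplexConjugate

namespace Cfsg.Agent.Lib.Helper48_D72_LOCCARD

open Cfsg Cfsg.Agent.Lib.Helper80_CharBasic Cfsg.Agent.Lib.Helper62_D72Defs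

section grp
variable {G : Type*} [Group G] [Finite G]

theorem card_normalizer (M : Sylow 3 G) (hM9 : Nat.card ↥(M : Subgroup G) = 9)
    (hMel : ∀ m ∈ (M : Subgroup G), m ^ 3 = 1)
    (hCM : Subgroup.centralizer ((M : Subgroup G) : Set G) = (M : Subgroup G))
    (N : Subgroup G) (hN : N = Subgroup.normalizer ((M : Subgroup G) : Set G))
    (hS : ∀ S : Sylow 2 ↥N, Nonempty (↥(S : Subgroup ↥N) ≃* DihedralGroup 4)) :
    Nat.card N = 72 := by
  subst hN
  exact Cfsg.Agent.Lib.Helper93_D8_LOC72.card_normalizer M hM9 hMel hCM hS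

end grp

end Cfsg.Agent.Lib.Helper48_D72_LOCCARD
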