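import Mathlib

/-!
# S2863 (architect helper48): shared definitions

Abstract setting: a group `X` acting on an additive commutative group `M` through
`ρ : X →* AddMonoid.End M`, and a subgroup `P` of `X`.

* `Fix ρ P x` : the fixed points of the conjugate `x P x⁻¹`.
* `FpfHyp p ρ P` : `M` is a finite `p`-group, `P` is elementary abelian, not normal, acts
  quadratically, and for every `x ∉ N(P)`: `X = ⟨P, x P x⁻¹⟩` and
  `M = C_M(P) ⊕ C_M(x P x⁻¹)`.
* `Concl p ρ` : every element whose order is not a power of `p` acts without nonzero fixed points.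
-/

set_option autoImplicit false

namespace Cfsg.Agent.Lib.Helper48_FpfDefs

variable {X : Type*} [Group X] {M : Type*} [AddCommGroup M]

/-- the fixed points on `M` of the conjugate `x P x⁻¹` -/
def Fix (ρ : X →* AddMonoid.End M) (P : Subgroup X) (x : X) : AddSubgroup M where
  carrier := {m | ∀ y ∈ P, ρ (x * y * x⁻¹) m = m}
  zero_mem' := fun y _ => map_zero _
  add_mem' := fun {a b} ha hb y hy => by rw [map_add, ha y hy, hb y hy]
  neg_mem' := fun {a} ha y hy => by rw [map_neg, ha y hy]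

theorem mem_Fix {ρ : X →* AddMonoid.End M} {P : Subgroup X} {x : X} {m : M} :
    m ∈ Fix ρ P x ↔ ∀ y ∈ P, ρ (x * y * x⁻¹) m = m := Iff.rfl

theorem mem_Fix_one {ρ : X →* AddMonoid.End M} {P : Subgroup X} {m : M} :
    m ∈ Fix ρ P 1 ↔ ∀ y ∈ P, ρ y m = m := by
  simp [mem_Fix]

/-- the hypotheses -/
structure FpfHyp (p : ℕ) (ρ : X →* AddMonoid.End M) (P : Subgroup X) : Prop where
  card_M : ∃ k : ℕ, Nat.card M = p ^ k
  comm : ∀ y ∈ P, ∀ z ∈ P, y * z = z * y
  exp : ∀ y ∈ P, y ^ p = 1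
  ne : ∃ x : X, x ∉ Subgroup.normalizer (P : Set X)
  gen : ∀ x : X, x ∉ Subgroup.normalizer (P : Set X) →
    P ⊔ P.map (MulAut.conj x).toMonoidHom = ⊤
  quad : ∀ y ∈ P, ∀ z ∈ P, ∀ m : M, ρ y (ρ z m - m) = ρ z m - m
  cap : ∀ x : X, x ∉ Subgroup.normalizer (P : Set X) → ∀ m : M,
    m ∈ Fix ρ P 1 → m ∈ Fix ρ P x → m = 0
  sup : ∀ x : X, x ∉ Subgroup.normalizer (P : Set X) → ∀ m : M,
    ∃ m₁ ∈ Fix ρ P 1, ∃ m₂ ∈ Fix ρ P x, m = m₁ + m₂

/-- the conclusion -/
def Concl (p : ℕ) (ρ : X →* AddMonoid.End M) : Prop :=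
  ∀ g : X, (¬ ∃ k : ℕ, orderOf g = p ^ k) → ∀ m : M, ρ g m = m → m = 0

end Cfsg.Agent.Lib.Helper48_FpfDefs
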