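import Mathlib
import Cfsg.Agent.Lib.Helper50_NatDefs
import Cfsg.Agent.Lib.Helper50_SL2Dickson

/-!
# S3009 package SYL (architect helper50): normalise an isomorphism `G ≃* SL(2, F)` so that a given
Sylow `p`-subgroup goes to the upper unitriangular group.
-/

set_option autoImplicit false

open Matrix Cfsg.Agent.Lib.Helper50_SL2Mat Cfsg.Agent.Lib.Helper50_NatDefs
open scoped MatrixGroups

namespace Cfsg.Agent.Lib.Helper50_Nat_SYL

theorem exists_equiv_sylow {F : Type*} [Field F] [Finite F] {p : ℕ} [Fact p.Prime] [CharP F p]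
    {G : Type*} [Group G] [Finite G] (e : G ≃* SL(2, F)) (S : Sylow p G) :
    ∃ e' : G ≃* SL(2, F), ∀ x : G, x ∈ S ↔ ∃ s : F, e' x = tU s := by
  let _ : Fintype F := Fintype.ofFinite F
  have hP : IsPGroup p ((S : Subgroup G).map e.toMonoidHom) := S.isPGroup'.map _
  obtain ⟨g, hg⟩ := Cfsg.Agent.Lib.Helper50_SL2Dickson.exists_conj_of_isPGroup p _ hP
  let e' : G ≃* SL(2, F) := e.trans (MulAut.conj g⁻¹)
  have he' : ∀ x, e' x = g⁻¹ * e x * g := by
    intro x
    simp [e']
  -- the preimage of the unitriangular group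
  let Q : Subgroup G :=
    { carrier := {x | ∃ s : F, e' x = tU s}
      mul_mem' := by
        rintro a b ⟨s, hs⟩ ⟨t, ht⟩
        exact ⟨s + t, by rw [map_mul, hs, ht, tU_add]⟩
      one_mem' := ⟨0, by rw [map_one, tU_zero]⟩
      inv_mem' := by
        rintro a ⟨s, hs⟩
        exact ⟨-s, by rw [map_inv, hs, tU_inv]⟩ }
  have hQ : IsPGroup p Q := by
    rintro ⟨x, s, hs⟩
    refine ⟨1, ?_⟩
    apply Subtype.ext
    apply e'.injective
    simp only [pow_one, Subgroup.coe_pow, Subgroup.coe_one, map_pow, map_one]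
    rw [hs, tU_pow, CharP.cast_eq_zero, zero_mul, tU_zero]
  have hSQ : (S : Subgroup G) ≤ Q := by
    intro x hx
    obtain ⟨b, hb⟩ := hg (e x) ⟨x, hx, rfl⟩
    exact ⟨b, by rw [he', hb]⟩
  have hQS : Q = S := S.is_maximal' hQ hSQ
  refine ⟨e', fun x => ?_⟩
  constructor
  · intro hx
    exact hSQ hx
  · intro hx
    have : x ∈ Q := hx
    rw [hQS] at this
    exact this

end Cfsg.Agent.Lib.Helper50_Nat_SYL
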