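import Mathlib
import Cfsg.Agent.Lib.Helper50_NatDefs

/-!
# S3009 package NAT-B: the relations coming from `nT t = tU t * tL (-t⁻¹) * tU t` and
`hT t = nT t * nT (-1)`
-/

set_option autoImplicit false

open Matrix Cfsg.Agent.Lib.Helper50_SL2Mat Cfsg.Agent.Lib.Helper50_NatDefs
open scoped MatrixGroups

namespace Cfsg.Agent.Lib.Helper54_Nat_NATB

variable {F : Type*} [Field F] {M : Type*} [AddCommGroup M] {ρ : SL(2, F) →* AddMonoid.End M}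

/-- the expansion of `ρ (nT t)` on `V0`, and the vanishing of the `V0`-part -/
theorem nT_V0_aux (hq : Quad ρ) (hcap : ∀ m, m ∈ V0 ρ → m ∈ V0' ρ → m = 0)
    {t : F} (ht : t ≠ 0) {v : M} (hv : v ∈ V0 ρ) :
    ρ (nT t ht) v = v + C ρ (-t⁻¹) v + A ρ t (C ρ (-t⁻¹) v) ∧
      v + A ρ t (C ρ (-t⁻¹) v) = 0 := by
  have hav : A ρ t v = 0 := A_of_mem_V0 ρ hv t
  have h1 : ρ (nT t ht) v = v + C ρ (-t⁻¹) v + A ρ t (C ρ (-t⁻¹) v) := by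
    rw [nT_eq, Helper50_NatDefs.mul_apply', Helper50_NatDefs.mul_apply', tU_apply ρ t v, hav, add_zero, tL_apply, tU_apply,
      map_add, hav, zero_add]
  refine ⟨h1, ?_⟩
  apply hcap
  · exact (V0 ρ).add_mem hv (A_mem_V0 hq _ _)
  · have h2 : ρ (nT t ht) v ∈ V0' ρ := nT_V0 ρ t ht hv
    have h3 : C ρ (-t⁻¹) v ∈ V0' ρ := C_mem_V0' hq _ _
    have : v + A ρ t (C ρ (-t⁻¹) v) = ρ (nT t ht) v - C ρ (-t⁻¹) v := by
      rw [h1]; abel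
    rw [this]
    exact (V0' ρ).sub_mem h2 h3

theorem nT_apply_V0 (hq : Quad ρ) (hcap : ∀ m, m ∈ V0 ρ → m ∈ V0' ρ → m = 0)
    {t : F} (ht : t ≠ 0) {v : M} (hv : v ∈ V0 ρ) : ρ (nT t ht) v = C ρ (-t⁻¹) v := by
  obtain ⟨h1, h2⟩ := nT_V0_aux hq hcap ht hv
  rw [h1]
  calc v + C ρ (-t⁻¹) v + A ρ t (C ρ (-t⁻¹) v)
      = (v + A ρ t (C ρ (-t⁻¹) v)) + C ρ (-t⁻¹) v := by abel
    _ = C ρ (-t⁻¹) v := by rw [h2, zero_add]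

theorem A_C_inv (hq : Quad ρ) (hcap : ∀ m, m ∈ V0 ρ → m ∈ V0' ρ → m = 0)
    {t : F} (ht : t ≠ 0) {v : M} (hv : v ∈ V0 ρ) : A ρ t (C ρ t⁻¹ v) = v := by
  obtain ⟨_, h2⟩ := nT_V0_aux hq hcap ht hv
  rw [C_neg hq, map_neg] at h2
  have : v = A ρ t (C ρ t⁻¹ v) := by
    have := eq_neg_of_add_eq_zero_left h2
    rw [neg_neg] at this
    exact this
  exact this.symm

/-- the expansion of `ρ (nT t)` on `V0'`, and the vanishing of the `V0'`-part -/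
theorem nT_V0'_aux (hq : Quad ρ) (hcap : ∀ m, m ∈ V0 ρ → m ∈ V0' ρ → m = 0)
    {t : F} (ht : t ≠ 0) {v : M} (hv : v ∈ V0' ρ) :
    ρ (nT t ht) v = v + (A ρ t v + A ρ t v) + C ρ (-t⁻¹) (A ρ t v)
        + A ρ t (C ρ (-t⁻¹) (A ρ t v)) ∧
      v + C ρ (-t⁻¹) (A ρ t v) = 0 := by
  have hcv : C ρ (-t⁻¹) v = 0 := C_of_mem_V0' ρ hv _
  have haa : A ρ t (A ρ t v) = 0 := hq t t v
  have h1 : ρ (nT t ht) v = v + (A ρ t v + A ρ t v) + C ρ (-t⁻¹) (A ρ t v)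
      + A ρ t (C ρ (-t⁻¹) (A ρ t v)) := by
    rw [nT_eq, Helper50_NatDefs.mul_apply', Helper50_NatDefs.mul_apply']
    simp only [tU_apply, tL_apply, map_add, hcv, haa, map_zero, add_zero, zero_add]
    abel
  refine ⟨h1, ?_⟩
  apply hcap
  · have h2 : ρ (nT t ht) v ∈ V0 ρ := nT_V0' ρ t ht hv
    have h3 : A ρ t v + A ρ t v + A ρ t (C ρ (-t⁻¹) (A ρ t v)) ∈ V0 ρ :=
      (V0 ρ).add_mem ((V0 ρ).add_mem (A_mem_V0 hq _ _) (A_mem_V0 hq _ _)) (A_mem_V0 hq _ _)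
    have : v + C ρ (-t⁻¹) (A ρ t v)
        = ρ (nT t ht) v - (A ρ t v + A ρ t v + A ρ t (C ρ (-t⁻¹) (A ρ t v))) := by
      rw [h1]; abel
    rw [this]
    exact (V0 ρ).sub_mem h2 h3
  · exact (V0' ρ).add_mem hv (C_mem_V0' hq _ _)

theorem nT_apply_V0' (hq : Quad ρ) (hcap : ∀ m, m ∈ V0 ρ → m ∈ V0' ρ → m = 0)
    {t : F} (ht : t ≠ 0) {v : M} (hv : v ∈ V0' ρ) : ρ (nT t ht) v = A ρ t v := by
  obtain ⟨h1, h2⟩ := nT_V0'_aux hq hcap ht hv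
  have h3 : C ρ (-t⁻¹) (A ρ t v) = -v := (eq_neg_of_add_eq_zero_right h2)
  rw [h1, h3, map_neg]
  abel

theorem C_A_inv (hq : Quad ρ) (hcap : ∀ m, m ∈ V0 ρ → m ∈ V0' ρ → m = 0)
    {t : F} (ht : t ≠ 0) {v : M} (hv : v ∈ V0' ρ) : C ρ t⁻¹ (A ρ t v) = v := by
  obtain ⟨_, h2⟩ := nT_V0'_aux hq hcap ht hv
  rw [C_neg hq] at h2
  have := eq_neg_of_add_eq_zero_left h2
  rw [neg_neg] at this
  exact this.symm

theorem hT_apply_V0 (hq : Quad ρ) (hcap : ∀ m, m ∈ V0 ρ → m ∈ V0' ρ → m = 0)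
    {t : F} (ht : t ≠ 0) {v : M} (hv : v ∈ V0 ρ) : ρ (hT t ht) v = A ρ t (C ρ 1 v) := by
  have hm1 : (-1 : F) ≠ 0 := by simp
  rw [hT_eq, Helper50_NatDefs.mul_apply', nT_apply_V0 hq hcap hm1 hv]
  have e : (-(-1 : F)⁻¹) = 1 := by
    rw [inv_neg, inv_one, neg_neg]
  rw [e]
  exact nT_apply_V0' hq hcap ht (C_mem_V0' hq _ _)

theorem mu_mul (hq : Quad ρ) (hcap : ∀ m, m ∈ V0 ρ → m ∈ V0' ρ → m = 0)
    {s t : F} (hs : s ≠ 0) (ht : t ≠ 0) {v : M} (hv : v ∈ V0 ρ) :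
    A ρ (s * t) (C ρ 1 v) = A ρ s (C ρ 1 (A ρ t (C ρ 1 v))) := by
  rw [← hT_apply_V0 hq hcap (mul_ne_zero hs ht) hv, hT_mul s t hs ht, Helper50_NatDefs.mul_apply',
    hT_apply_V0 hq hcap ht hv, hT_apply_V0 hq hcap hs (A_mem_V0 hq _ _)]

theorem C_eq (hq : Quad ρ) (hcap : ∀ m, m ∈ V0 ρ → m ∈ V0' ρ → m = 0)
    (s : F) {v : M} (hv : v ∈ V0 ρ) : C ρ s v = C ρ 1 (A ρ s (C ρ 1 v)) := by
  by_cases hs : s = 0
  · subst hs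
    rw [C_zero, A_zero, map_zero]
  · have hsi : s⁻¹ ≠ 0 := inv_ne_zero hs
    have hy : C ρ 1 (A ρ s (C ρ 1 v)) ∈ V0' ρ := C_mem_V0' hq _ _
    have h1 : A ρ s⁻¹ (C ρ s v) = v := by
      have := A_C_inv hq hcap hsi hv
      rwa [inv_inv] at this
    have h2 : A ρ s⁻¹ (C ρ 1 (A ρ s (C ρ 1 v))) = v := by
      rw [← mu_mul hq hcap hsi hs hv, inv_mul_cancel₀ hs]
      have := A_C_inv hq hcap (one_ne_zero (α := F)) hv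
      rwa [inv_one] at this
    have h4 := C_A_inv hq hcap hsi hy
    rw [inv_inv, h2] at h4
    exact h4

end Cfsg.Agent.Lib.Helper54_Nat_NATB
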