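import Mathlib
import Cfsg.Agent.Lib.Helper48_FpfDefs
import Cfsg.Agent.Lib.Helper50_Nat_SYL
import Cfsg.Agent.Lib.Helper54_Nat_NATB
import Cfsg.Agent.Lib.Helper5_PSLCard

/-!
# S2863 package FPF-SL (architect helper48): the `SL₂` case

`X ≃* SL(2, F)` acts on a finite `p`-group `M`, `P` (of order `|F|`) satisfies `FpfHyp p ρ P`.
Then every element of `X` whose order is not a power of `p` acts without nonzero fixed points.
-/

set_option autoImplicit false

open Matrix Cfsg.Agent.Lib.Helper50_SL2Mat Cfsg.Agent.Lib.Helper50_NatDefs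
  Cfsg.Agent.Lib.Helper54_Nat_NATB Cfsg.Agent.Lib.Helper48_FpfDefs
open scoped MatrixGroups

namespace Cfsg.Agent.Lib.Helper5_Fpf_SL

section NatPart

variable {F : Type*} [Field F] {M : Type*} [AddCommGroup M] {ρ : SL(2, F) →* AddMonoid.End M}

/-- the scalar action on `V0` -/
def mu (ρ : SL(2, F) →* AddMonoid.End M) (s : F) (v : M) : M := A ρ s (C ρ 1 v)

theorem mu_mem (hq : Quad ρ) (s : F) (v : M) : mu ρ s v ∈ V0 ρ := A_mem_V0 hq _ _

theorem mu_add_left (hq : Quad ρ) (s t : F) (v : M) : mu ρ (s + t) v = mu ρ s v + mu ρ t v :=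
  A_add hq s t _

theorem mu_add_right (s : F) (v w : M) : mu ρ s (v + w) = mu ρ s v + mu ρ s w := by
  simp only [mu, map_add]

theorem mu_zero_left (v : M) : mu ρ 0 v = 0 := A_zero ρ _

theorem mu_zero_right (s : F) : mu ρ s 0 = 0 := by
  simp only [mu, map_zero]

theorem mu_one (hq : Quad ρ) (hcap : ∀ m, m ∈ V0 ρ → m ∈ V0' ρ → m = 0) {v : M}
    (hv : v ∈ V0 ρ) : mu ρ 1 v = v := by
  have := A_C_inv hq hcap (one_ne_zero (α := F)) hv
  rwa [inv_one] at this

theorem mu_mul' (hq : Quad ρ) (hcap : ∀ m, m ∈ V0 ρ → m ∈ V0' ρ → m = 0) (s t : F) {v : M}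
    (hv : v ∈ V0 ρ) : mu ρ (s * t) v = mu ρ s (mu ρ t v) := by
  by_cases hs : s = 0
  · subst hs; rw [zero_mul, mu_zero_left, mu_zero_left]
  by_cases ht : t = 0
  · subst ht; rw [mul_zero, mu_zero_left, mu_zero_right]
  exact mu_mul hq hcap hs ht hv

/-- the `F`-module structure on `V0` -/
@[reducible] def modV0 (hq : Quad ρ) (hcap : ∀ m, m ∈ V0 ρ → m ∈ V0' ρ → m = 0) :
    Module F (V0 ρ) where
  smul s v := ⟨mu ρ s v, mu_mem hq s v⟩
  one_smul v := Subtype.ext (mu_one hq hcap v.2)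
  mul_smul s t v := Subtype.ext (mu_mul' hq hcap s t v.2)
  smul_zero s := Subtype.ext (mu_zero_right (ρ := ρ) s)
  smul_add s v w := Subtype.ext (mu_add_right (ρ := ρ) s (v : M) (w : M))
  add_smul s t v := Subtype.ext (mu_add_left hq s t (v : M))
  zero_smul v := Subtype.ext (mu_zero_left (ρ := ρ) (v : M))

theorem coe_smul (hq : Quad ρ) (hcap : ∀ m, m ∈ V0 ρ → m ∈ V0' ρ → m = 0) (s : F) (v : V0 ρ) :
    letI := modV0 hq hcap
    ((s • v : V0 ρ) : M) = mu ρ s v := rfl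

/-- the action of `tU s` in coordinates -/
theorem tU_coord (hq : Quad ρ) (hcap : ∀ m, m ∈ V0 ρ → m ∈ V0' ρ → m = 0) (s : F)
    (w w' : V0 ρ) :
    letI := modV0 hq hcap
    ρ (tU s) ((w : M) + C ρ 1 (w' : M)) = ((w + s • w' : V0 ρ) : M) + C ρ 1 (w' : M) := by
  letI := modV0 hq hcap
  rw [tU_apply, map_add, A_of_mem_V0 ρ w.2 s, zero_add, AddSubgroup.coe_add, coe_smul hq hcap]
  simp only [mu]
  abel

/-- the action of `tL s` in coordinates -/
theorem tL_coord (hq : Quad ρ) (hcap : ∀ m, m ∈ V0 ρ → m ∈ V0' ρ → m = 0) (s : F)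
    (w w' : V0 ρ) :
    letI := modV0 hq hcap
    ρ (tL s) ((w : M) + C ρ 1 (w' : M)) = (w : M) + C ρ 1 ((s • w + w' : V0 ρ) : M) := by
  letI := modV0 hq hcap
  rw [tL_apply, map_add, C_quad hq, add_zero, C_eq hq hcap s w.2, AddSubgroup.coe_add,
    coe_smul hq hcap, map_add]
  simp only [mu]
  abel

/-- the action of `SL(2, F)` in coordinates -/
theorem coord (hq : Quad ρ) (hcap : ∀ m, m ∈ V0 ρ → m ∈ V0' ρ → m = 0) (g : SL(2, F)) :
    letI := modV0 hq hcap
    ∀ v v' : V0 ρ, ρ g ((v : M) + C ρ 1 (v' : M)) =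
      ((g 0 0 • v + g 0 1 • v' : V0 ρ) : M) + C ρ 1 ((g 1 0 • v + g 1 1 • v' : V0 ρ) : M) := by
  letI := modV0 hq hcap
  refine sl2_induction (P := fun g => ∀ v v' : V0 ρ, ρ g ((v : M) + C ρ 1 (v' : M)) =
      ((g 0 0 • v + g 0 1 • v' : V0 ρ) : M) + C ρ 1 ((g 1 0 • v + g 1 1 • v' : V0 ρ) : M))
    ?_ ?_ ?_ g
  · intro v v'
    rw [one_apply', one00, one01, one10, one11]
    simp
  · intro s g ih v v'
    rw [Helper50_NatDefs.mul_apply', ih, tU_coord hq hcap]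
    have e1 : (g 0 0 • v + g 0 1 • v') + s • (g 1 0 • v + g 1 1 • v') =
        (tU s * g) 0 0 • v + (tU s * g) 0 1 • v' := by
      rw [mul00, mul01, tU00, tU01]
      module
    have e2 : (g 1 0 • v + g 1 1 • v') = (tU s * g) 1 0 • v + (tU s * g) 1 1 • v' := by
      rw [mul10, mul11, tU10, tU11]
      module
    rw [e1, ← e2]
  · intro s g ih v v'
    rw [Helper50_NatDefs.mul_apply', ih, tL_coord hq hcap]
    have e1 : (g 0 0 • v + g 0 1 • v') = (tL s * g) 0 0 • v + (tL s * g) 0 1 • v' := by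
      rw [mul00, mul01, tL00, tL01]
      module
    have e2 : s • (g 0 0 • v + g 0 1 • v') + (g 1 0 • v + g 1 1 • v') =
        (tL s * g) 1 0 • v + (tL s * g) 1 1 • v' := by
      rw [mul10, mul11, tL10, tL11]
      module
    rw [e2, ← e1]

/-- an element of trace `≠ 2` has no nonzero fixed vector -/
theorem eq_zero_of_fixed (hq : Quad ρ) (hcap : ∀ m, m ∈ V0 ρ → m ∈ V0' ρ → m = 0)
    (hsup : ∀ m : M, ∃ m₁ ∈ V0 ρ, ∃ m₂ ∈ V0' ρ, m = m₁ + m₂) (g : SL(2, F))
    (htr : g 0 0 + g 1 1 ≠ 2) (m : M) (hm : ρ g m = m) : m = 0 := by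
  letI := modV0 hq hcap
  obtain ⟨m₁, hm₁, m₂, hm₂, rfl⟩ := hsup m
  -- coordinates
  have hm₂' : C ρ 1 (A ρ 1 m₂) = m₂ := by
    have := C_A_inv hq hcap (one_ne_zero (α := F)) hm₂
    rwa [inv_one] at this
  set v : V0 ρ := ⟨m₁, hm₁⟩ with hv
  set v' : V0 ρ := ⟨A ρ 1 m₂, A_mem_V0 hq _ _⟩ with hv'
  have hcoord : m₁ + m₂ = (v : M) + C ρ 1 (v' : M) := by
    rw [hv, hv']; simp only; rw [hm₂']
  rw [hcoord] at hm ⊢
  rw [coord hq hcap g v v'] at hm
  -- uniqueness of the decomposition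
  have hdiff : ((g 0 0 • v + g 0 1 • v' : V0 ρ) : M) - (v : M) =
      C ρ 1 (v' : M) - C ρ 1 ((g 1 0 • v + g 1 1 • v' : V0 ρ) : M) := by
    have := hm
    rw [← sub_eq_zero] at this ⊢
    rw [← this]; abel
  have h0 : ((g 0 0 • v + g 0 1 • v' : V0 ρ) : M) - (v : M) = 0 := by
    apply hcap
    · exact (V0 ρ).sub_mem (g 0 0 • v + g 0 1 • v' : V0 ρ).2 v.2
    · rw [hdiff]; exact (V0' ρ).sub_mem (C_mem_V0' hq _ _) (C_mem_V0' hq _ _)
  have E1 : g 0 0 • v + g 0 1 • v' = v := Subtype.ext (sub_eq_zero.1 h0)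
  have E2 : g 1 0 • v + g 1 1 • v' = v' := by
    have h1 : C ρ 1 (v' : M) = C ρ 1 ((g 1 0 • v + g 1 1 • v' : V0 ρ) : M) := by
      rw [h0] at hdiff
      exact (sub_eq_zero.1 hdiff.symm)
    have h2 := congrArg (A ρ 1) h1
    have a1 : A ρ 1 (C ρ 1 (v' : M)) = v' := by
      have := A_C_inv hq hcap (one_ne_zero (α := F)) v'.2
      rwa [inv_one] at this
    have a2 : A ρ 1 (C ρ 1 ((g 1 0 • v + g 1 1 • v' : V0 ρ) : M)) =
        ((g 1 0 • v + g 1 1 • v' : V0 ρ) : M) := by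
      have := A_C_inv hq hcap (one_ne_zero (α := F)) (g 1 0 • v + g 1 1 • v' : V0 ρ).2
      rwa [inv_one] at this
    rw [a1, a2] at h2
    exact Subtype.ext h2.symm
  -- the determinant trick
  have hdet := det1 g
  have hk : (2 - g 0 0 - g 1 1) = (g 1 1 - 1) * (g 0 0 - 1) - g 0 1 * g 1 0 := by
    linear_combination (-1 : F) * hdet
  have hk0 : (2 - g 0 0 - g 1 1) ≠ 0 := by
    intro h0
    apply htr
    linear_combination (-1 : F) * h0
  have e1 : (g 0 0 - 1) • v = -(g 0 1 • v') := by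
    calc (g 0 0 - 1) • v = (g 0 0 • v + g 0 1 • v') - v - g 0 1 • v' := by module
      _ = v - v - g 0 1 • v' := by rw [E1]
      _ = -(g 0 1 • v') := by abel
  have e2 : (g 1 1 - 1) • v' = -(g 1 0 • v) := by
    calc (g 1 1 - 1) • v' = (g 1 0 • v + g 1 1 • v') - v' - g 1 0 • v := by module
      _ = v' - v' - g 1 0 • v := by rw [E2]
      _ = -(g 1 0 • v) := by abel
  have kv : (2 - g 0 0 - g 1 1) • v = 0 := by
    rw [hk]
    calc ((g 1 1 - 1) * (g 0 0 - 1) - g 0 1 * g 1 0) • v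
        = (g 1 1 - 1) • ((g 0 0 - 1) • v) + g 0 1 • (-(g 1 0 • v)) := by module
      _ = (g 1 1 - 1) • (-(g 0 1 • v')) + g 0 1 • ((g 1 1 - 1) • v') := by rw [e1, e2]
      _ = 0 := by module
  have kv' : (2 - g 0 0 - g 1 1) • v' = 0 := by
    rw [hk]
    calc ((g 1 1 - 1) * (g 0 0 - 1) - g 0 1 * g 1 0) • v'
        = (g 0 0 - 1) • ((g 1 1 - 1) • v') + g 1 0 • (-(g 0 1 • v')) := by module
      _ = (g 0 0 - 1) • (-(g 1 0 • v)) + g 1 0 • ((g 0 0 - 1) • v) := by rw [e2, e1]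
      _ = 0 := by module
  have hv0 : v = 0 := (smul_eq_zero.1 kv).resolve_left hk0
  have hv0' : v' = 0 := (smul_eq_zero.1 kv').resolve_left hk0
  rw [hv0, hv0']
  simp

end NatPart

section Unipotent

variable {F : Type*} [Field F]

/-- powers of an element of trace `2` -/
theorem pow_entries (g : SL(2, F)) (htr : g 0 0 + g 1 1 = 2) (n : ℕ) :
    (g ^ n) 0 0 = 1 + n * (g 0 0 - 1) ∧ (g ^ n) 0 1 = n * g 0 1 ∧ (g ^ n) 1 0 = n * g 1 0 ∧
      (g ^ n) 1 1 = 1 + n * (g 1 1 - 1) := by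
  have hdet := det1 g
  induction n with
  | zero =>
    rw [pow_zero, one00, one01, one10, one11]
    simp
  | succ n ih =>
    obtain ⟨h00, h01, h10, h11⟩ := ih
    rw [pow_succ, mul00, mul01, mul10, mul11, h00, h01, h10, h11]
    push_cast
    refine ⟨?_, ?_, ?_, ?_⟩
    · linear_combination (n : F) * (g 0 0) * htr - (n : F) * hdet
    · linear_combination (n : F) * (g 0 1) * htr
    · linear_combination (n : F) * (g 1 0) * htr
    · linear_combination (n : F) * (g 1 1) * htr - (n : F) * hdet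

theorem pow_char_eq_one (p : ℕ) [CharP F p] (g : SL(2, F)) (htr : g 0 0 + g 1 1 = 2) :
    g ^ p = 1 := by
  obtain ⟨h00, h01, h10, h11⟩ := pow_entries g htr p
  have hp0 : (p : F) = 0 := CharP.cast_eq_zero F p
  rw [hp0] at h00 h01 h10 h11
  apply ext4
  · rw [h00, one00]; ring
  · rw [h01, one01]; ring
  · rw [h10, one10]; ring
  · rw [h11, one11]; ring

end Unipotent

/-- FPF-SL (L): the `SL₂` case -/
theorem fpf_sl {X : Type*} [Group X] [Finite X] {M : Type*} [AddCommGroup M] [Finite M]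
    {p : ℕ} [Fact p.Prime] (ρ : X →* AddMonoid.End M) (P : Subgroup X) (h : FpfHyp p ρ P)
    (F : Type) [Field F] [Fintype F] (hP : Nat.card P = Fintype.card F)
    (e : X ≃* Matrix.SpecialLinearGroup (Fin 2) F) : Concl p ρ := by
  classical
  have hp : p.Prime := Fact.out
  -- `P` is a `p`-group of order `p ^ n = |F|`
  have hPp : IsPGroup p P := by
    intro y
    refine ⟨1, ?_⟩
    rw [pow_one]
    apply Subtype.ext
    rw [Subgroup.coe_pow, Subgroup.coe_one]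
    exact h.exp y y.2
  obtain ⟨n, hn⟩ := IsPGroup.iff_card.1 hPp
  have hq : Fintype.card F = p ^ n := by rw [← hP, hn]
  have hn0 : n ≠ 0 := by
    rintro rfl
    have := Fintype.one_lt_card (α := F)
    rw [hq, pow_zero] at this
    exact lt_irrefl _ this
  -- the characteristic
  haveI : CharP F p := by
    obtain ⟨k, hr, hk⟩ := FiniteField.card F (ringChar F)
    have h1 : p ∣ ringChar F ^ (k : ℕ) := by rw [← hk, hq]; exact dvd_pow_self p hn0
    have hpr : p = ringChar F := (Nat.prime_dvd_prime_iff_eq hp hr).1 (hp.dvd_of_dvd_pow h1)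
    rw [hpr]; exact ringChar.charP F
  -- `P` is a Sylow subgroup
  have hpn2 : 2 ≤ p ^ n := by
    calc 2 ≤ p := hp.two_le
      _ = p ^ 1 := (pow_one p).symm
      _ ≤ p ^ n := Nat.pow_le_pow_right hp.pos (Nat.one_le_iff_ne_zero.2 hn0)
  have hcardX : Nat.card X = p ^ n * ((p ^ n) ^ 2 - 1) := by
    rw [Nat.card_congr e.toEquiv, Cfsg.Agent.Lib.Helper5_PSLCard.card_SL_two, hq]
  have hsq : 4 ≤ (p ^ n) ^ 2 := by nlinarith
  have hndvd : ¬ p ∣ (p ^ n) ^ 2 - 1 := by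
    intro hd
    have h2 : p ∣ (p ^ n) ^ 2 := dvd_pow (dvd_pow_self p hn0) (by norm_num)
    have h3 : p ∣ (p ^ n) ^ 2 - ((p ^ n) ^ 2 - 1) := Nat.dvd_sub h2 hd
    have h4 : (p ^ n) ^ 2 - ((p ^ n) ^ 2 - 1) = 1 := by omega
    rw [h4] at h3
    exact hp.one_lt.ne' (Nat.dvd_one.1 h3)
  have hfact : (Nat.card X).factorization p = n := by
    rw [hcardX, Nat.factorization_mul (by positivity) (by omega), Finsupp.add_apply,
      Nat.Prime.factorization_pow hp, Finsupp.single_eq_same,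
      Nat.factorization_eq_zero_of_not_dvd hndvd, add_zero]
  let S : Sylow p X := Sylow.ofCard P (by rw [hn, hfact])
  have hSP : (S : Subgroup X) = P := Sylow.coe_ofCard P _
  obtain ⟨e', he'⟩ := Cfsg.Agent.Lib.Helper50_Nat_SYL.exists_equiv_sylow e S
  have hPU : ∀ x : X, x ∈ P ↔ ∃ s : F, e' x = tU s := by
    intro x
    rw [← he' x, ← hSP]; rfl
  -- the transported action
  let ρ' : SL(2, F) →* AddMonoid.End M := ρ.comp e'.symm.toMonoidHom
  have hρ' : ∀ g : SL(2, F), ρ' g = ρ (e'.symm g) := fun g => rfl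
  have hρ : ∀ x : X, ρ x = ρ' (e' x) := by
    intro x; rw [hρ']; simp
  have hUmem : ∀ s : F, e'.symm (tU s) ∈ P := fun s => (hPU _).2 ⟨s, by simp⟩
  -- the Weyl element
  set x0 : X := e'.symm nW with hx0
  have hconj : ∀ y ∈ P, ∃ s : F, e' y = tU s ∧ e' (x0 * y * x0⁻¹) = tL (-s) := by
    intro y hy
    obtain ⟨s, hs⟩ := (hPU y).1 hy
    refine ⟨s, hs, ?_⟩
    rw [map_mul, map_mul, map_inv, hs, hx0, MulEquiv.apply_symm_apply, nW_conj_tU]
  have hx0N : x0 ∉ Subgroup.normalizer (P : Set X) := by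
    intro hN
    have h1 := (Subgroup.mem_normalizer_iff.1 hN (e'.symm (tU 1))).1 (hUmem 1)
    obtain ⟨s, hs, hs'⟩ := hconj _ (hUmem 1)
    obtain ⟨t, ht⟩ := (hPU _).1 h1
    rw [hs'] at ht
    have h2 := congrArg (fun g : SL(2, F) => g 1 0) ht
    simp only [tL10, tU10] at h2
    have hs1 : s = 1 := by
      have := hs
      rw [MulEquiv.apply_symm_apply] at this
      exact (tU_injective this).symm
    rw [hs1] at h2
    exact one_ne_zero (neg_eq_zero.1 h2)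
  -- the hypotheses of the natural-module machinery
  have hquad : Quad ρ' := by
    intro s t m
    have := h.quad _ (hUmem s) _ (hUmem t) m
    rw [A_apply, A_apply, hρ', hρ', this, sub_self]
  have hV0 : ∀ m : M, m ∈ V0 ρ' ↔ m ∈ Fix ρ P 1 := by
    intro m
    rw [mem_Fix_one, mem_V0]
    constructor
    · intro hm y hy
      obtain ⟨s, hs⟩ := (hPU y).1 hy
      rw [hρ, hs]; exact hm s
    · intro hm s
      rw [hρ']; exact hm _ (hUmem s)
  have hV0' : ∀ m : M, m ∈ V0' ρ' ↔ m ∈ Fix ρ P x0 := by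
    intro m
    rw [mem_Fix, mem_V0']
    constructor
    · intro hm y hy
      obtain ⟨s, -, hs'⟩ := hconj y hy
      rw [hρ, hs']; exact hm _
    · intro hm s
      have h1 := hm _ (hUmem (-s))
      obtain ⟨t, ht, ht'⟩ := hconj _ (hUmem (-s))
      rw [MulEquiv.apply_symm_apply] at ht
      have hts : t = -s := (tU_injective ht).symm
      rw [hρ, ht', hts, neg_neg] at h1
      exact h1
  have hcap : ∀ m, m ∈ V0 ρ' → m ∈ V0' ρ' → m = 0 := fun m h1 h2 =>
    h.cap x0 hx0N m ((hV0 m).1 h1) ((hV0' m).1 h2)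
  have hsup : ∀ m : M, ∃ m₁ ∈ V0 ρ', ∃ m₂ ∈ V0' ρ', m = m₁ + m₂ := by
    intro m
    obtain ⟨m₁, h1, m₂, h2, hm⟩ := h.sup x0 hx0N m
    exact ⟨m₁, (hV0 m₁).2 h1, m₂, (hV0' m₂).2 h2, hm⟩
  -- the conclusion
  intro g hg m hm
  by_contra hm0
  have htr : (e' g) 0 0 + (e' g) 1 1 = 2 := by
    by_contra htr
    exact hm0 (eq_zero_of_fixed hquad hcap hsup (e' g) htr m (by rw [← hρ]; exact hm))
  have hpow : (e' g) ^ p = 1 := pow_char_eq_one p (e' g) htr
  have hgp : g ^ p = 1 := by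
    apply e'.injective
    rw [map_pow, hpow, map_one]
  have hdvd : orderOf g ∣ p := orderOf_dvd_of_pow_eq_one hgp
  rcases (Nat.dvd_prime hp).1 hdvd with h1 | h1
  · exact hg ⟨0, by rw [h1, pow_zero]⟩
  · exact hg ⟨1, by rw [h1, pow_one]⟩

end Cfsg.Agent.Lib.Helper5_Fpf_SL
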