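import Mathlib
import Cfsg.Agent.Lib.Helper48_FpfDefs

/-!
S2863 FPF-REAL (helper48's market): the generic "strongly real" argument for `p = 2`.  helper63.
-/

set_option autoImplicit false

namespace Cfsg.Agent.Lib.Helper63_Fpf_REAL

open Cfsg.Agent.Lib.Helper48_FpfDefs

variable {X : Type*} [Group X] {M : Type*} [AddCommGroup M]

theorem rho_mul (ρ : X →* AddMonoid.End M) (a b : X) (v : M) : ρ (a * b) v = ρ a (ρ b v) := by
  rw [map_mul]; rfl

theorem rho_one (ρ : X →* AddMonoid.End M) (v : M) : ρ 1 v = v := by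
  rw [map_one]; rfl

theorem rho_inv_apply (ρ : X →* AddMonoid.End M) (a : X) (v : M) : ρ a⁻¹ (ρ a v) = v := by
  rw [← rho_mul, inv_mul_cancel, rho_one]

theorem rho_apply_inv (ρ : X →* AddMonoid.End M) (a : X) (v : M) : ρ a (ρ a⁻¹ v) = v := by
  rw [← rho_mul, mul_inv_cancel, rho_one]

theorem rho_inv_fixed (ρ : X →* AddMonoid.End M) (a : X) (v : M) (h : ρ a v = v) :
    ρ a⁻¹ v = v := by
  conv_lhs => rw [← h]
  exact rho_inv_apply ρ a v

theorem rho_pow_fixed (ρ : X →* AddMonoid.End M) (a : X) (v : M) (h : ρ a v = v) (k : ℕ) :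
    ρ (a ^ k) v = v := by
  induction k with
  | zero => rw [pow_zero, rho_one]
  | succ k ih => rw [pow_succ, rho_mul, h, ih]

/-- shifting the base point of `Fix` -/
theorem fix_shift (ρ : X →* AddMonoid.End M) (P : Subgroup X) (a b : X) (v : M)
    (hv : v ∈ Fix ρ P (a * b)) : ρ a⁻¹ v ∈ Fix ρ P b := by
  intro z hz
  have h1 := hv z hz
  have e : b * z * b⁻¹ * a⁻¹ = a⁻¹ * (a * b * z * (a * b)⁻¹) := by group
  rw [← rho_mul, e, rho_mul, h1]

theorem fix_unshift (ρ : X →* AddMonoid.End M) (P : Subgroup X) (a : X) (v : M)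
    (hv : ρ a⁻¹ v ∈ Fix ρ P 1) : v ∈ Fix ρ P a := by
  intro z hz
  have h1 := hv z hz
  have e : a * z * a⁻¹ = a * (1 * z * 1⁻¹) * a⁻¹ := by group
  rw [e, rho_mul, rho_mul, h1, rho_apply_inv]

theorem mem_conj_iff (P : Subgroup X) (x y : X) :
    y ∈ P.map (MulAut.conj x).toMonoidHom ↔ x⁻¹ * y * x ∈ P := by
  constructor
  · rintro ⟨a, ha, rfl⟩
    simpa [MulAut.conj_apply, mul_assoc] using ha
  · intro hy
    exact ⟨x⁻¹ * y * x, hy, by simp [MulAut.conj_apply, mul_assoc]⟩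

/-- `x⁻¹ y x ∈ N(P)` implies `y ∈ N(x P x⁻¹)` -/
theorem mem_normalizer_conj (P : Subgroup X) (x y : X)
    (h : x⁻¹ * y * x ∈ Subgroup.normalizer (P : Set X)) :
    y ∈ Subgroup.normalizer ((P.map (MulAut.conj x).toMonoidHom : Subgroup X) : Set X) := by
  rw [Subgroup.mem_normalizer_iff] at h ⊢
  intro g
  rw [mem_conj_iff, mem_conj_iff]
  have h1 := h (x⁻¹ * g * x)
  have e : x⁻¹ * y * x * (x⁻¹ * g * x) * (x⁻¹ * y * x)⁻¹ = x⁻¹ * (y * g * y⁻¹) * x := by group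
  rw [e] at h1
  exact h1

theorem fpf_of_real {X : Type*} [Group X] [Finite X] {M : Type*} [AddCommGroup M] [Finite M]
    (ρ : X →* AddMonoid.End M) (P : Subgroup X) (h : FpfHyp 2 ρ P)
    (hreal : ∀ g : X, (orderOf g).Prime → orderOf g ≠ 2 →
      ∃ t : X, t ≠ 1 ∧ t * t = 1 ∧ t * g * t⁻¹ = g⁻¹)
    (hinv : ∀ t : X, t ≠ 1 → t * t = 1 → ∃ x : X, ∃ y ∈ P, t = x * y * x⁻¹)
    (hsemi : ∀ x : X, x ∉ Subgroup.normalizer (P : Set X) → ∀ t ∈ P, t ≠ 1 →
      t ∉ Subgroup.normalizer ((P.map (MulAut.conj x).toMonoidHom : Subgroup X) : Set X)) :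
    Concl 2 ρ := by
  intro g hg m hm
  by_contra hm0
  -- KEY₁: a nontrivial element of `P` fixes only `C_M(P)`
  have key1 : ∀ y ∈ P, y ≠ 1 → ∀ v : M, ρ y v = v → v ∈ Fix ρ P 1 := by
    intro y hy hy1 v hv
    obtain ⟨x₀, hx₀⟩ := h.ne
    obtain ⟨v₁, hv₁, v₂, hv₂, hvv⟩ := h.sup x₀ hx₀ v
    have hyv₁ : ρ y v₁ = v₁ := mem_Fix_one.1 hv₁ y hy
    have hyv₂ : ρ y v₂ = v₂ := by
      have h1 : ρ y v = ρ y v₁ + ρ y v₂ := by rw [hvv, map_add]
      rw [hv, hyv₁, hvv] at h1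
      exact (add_left_cancel h1).symm
    -- v₂ ∈ Fix (y x₀)
    have hv₂' : v₂ ∈ Fix ρ P (y * x₀) := by
      intro z hz
      have e : y * x₀ * z * (y * x₀)⁻¹ = y * (x₀ * z * x₀⁻¹) * y⁻¹ := by group
      rw [e, rho_mul, rho_mul, rho_inv_fixed ρ y v₂ hyv₂, hv₂ z hz, hyv₂]
    -- transport by x₀⁻¹
    have hu1 : ρ x₀⁻¹ v₂ ∈ Fix ρ P 1 := by
      have : v₂ ∈ Fix ρ P (x₀ * 1) := by rw [mul_one]; exact hv₂
      exact fix_shift ρ P x₀ 1 v₂ this
    have hu2 : ρ x₀⁻¹ v₂ ∈ Fix ρ P (x₀⁻¹ * y * x₀) := by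
      have : v₂ ∈ Fix ρ P (x₀ * (x₀⁻¹ * y * x₀)) := by
        have e : x₀ * (x₀⁻¹ * y * x₀) = y * x₀ := by group
        rw [e]; exact hv₂'
      exact fix_shift ρ P x₀ _ v₂ this
    have hnn : x₀⁻¹ * y * x₀ ∉ Subgroup.normalizer (P : Set X) := by
      intro hcon
      exact hsemi x₀ hx₀ y hy hy1 (mem_normalizer_conj P x₀ y hcon)
    have hu0 := h.cap _ hnn _ hu1 hu2
    have hv₂0 : v₂ = 0 := by
      have := congrArg (ρ x₀) hu0
      rwa [rho_apply_inv, map_zero] at this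
    rw [hvv, hv₂0, add_zero]
    exact hv₁
  -- KEY: general base point
  have key : ∀ x : X, ∀ y ∈ P, y ≠ 1 → ∀ v : M, ρ (x * y * x⁻¹) v = v → v ∈ Fix ρ P x := by
    intro x y hy hy1 v hv
    apply fix_unshift
    apply key1 y hy hy1
    have e : y = x⁻¹ * (x * y * x⁻¹) * x := by group
    conv_lhs => rw [e]
    rw [rho_mul, rho_mul, rho_apply_inv, hv]
  -- an odd prime divisor of the order of g
  have hn0 : orderOf g ≠ 0 := (orderOf_pos g).ne'
  obtain ⟨r, hr, hrn, hr2⟩ : ∃ r : ℕ, r.Prime ∧ r ∣ orderOf g ∧ r ≠ 2 := by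
    by_contra hcon
    push Not at hcon
    apply hg
    exact ⟨_, Nat.eq_prime_pow_of_unique_prime_dvd hn0 (fun {d} hd hdn => hcon d hd hdn)⟩
  have hg'ord : orderOf (g ^ (orderOf g / r)) = r := orderOf_pow_orderOf_div hn0 hrn
  have hg'm : ρ (g ^ (orderOf g / r)) m = m := rho_pow_fixed ρ g m hm _
  generalize g ^ (orderOf g / r) = g' at hg'ord hg'm
  obtain ⟨t, ht1, htt, htg⟩ := hreal g' (hg'ord ▸ hr) (hg'ord ▸ hr2)
  have htinv : t⁻¹ = t := inv_eq_of_mul_eq_one_right htt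
  -- g' t = t g'⁻¹
  have hgt : g' * t = t * g'⁻¹ := by
    have h1 : t * g'⁻¹ * t⁻¹ = g' := by
      have := congrArg (fun z => z⁻¹) htg
      simp only [mul_inv_rev, inv_inv] at this
      rw [mul_assoc]; exact this
    calc g' * t = t * g'⁻¹ * t⁻¹ * t := by rw [h1]
      _ = t * g'⁻¹ := by group
  -- t preserves the fixed space of g'
  have hinvar : ∀ v : M, ρ g' v = v → ρ g' (ρ t v) = ρ t v := by
    intro v hv
    rw [← rho_mul, hgt, rho_mul, rho_inv_fixed ρ g' v hv]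
  have htt' : ∀ v : M, ρ t (ρ t v) = v := by
    intro v
    rw [← rho_mul, htt, rho_one]
  -- a nonzero vector fixed by g' and t
  obtain ⟨w, hw0, hwg, hwt⟩ : ∃ w : M, w ≠ 0 ∧ ρ g' w = w ∧ ρ t w = w := by
    by_cases hA : ∃ v : M, ρ g' v = v ∧ v + ρ t v ≠ 0
    · obtain ⟨v, hv, hne⟩ := hA
      refine ⟨v + ρ t v, hne, ?_, ?_⟩
      · rw [map_add, hv, hinvar v hv]
      · rw [map_add, htt', add_comm]
    · push Not at hA
      -- an element of order two in the fixed space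
      obtain ⟨k, hk⟩ := h.card_M
      have hdvd : addOrderOf m ∣ 2 ^ k := hk ▸ addOrderOf_dvd_natCard m
      obtain ⟨j, hjk, hj⟩ := (Nat.dvd_prime_pow Nat.prime_two).1 hdvd
      have hj1 : 1 ≤ j := by
        rcases Nat.eq_zero_or_pos j with h0 | h0
        · exfalso
          rw [h0, pow_zero, AddMonoid.addOrderOf_eq_one_iff] at hj
          exact hm0 hj
        · exact h0
      have hw2 : (2 : ℕ) • (2 ^ (j - 1) • m) = 0 := by
        rw [← mul_smul, ← pow_succ', Nat.sub_add_cancel hj1, ← hj]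
        exact addOrderOf_nsmul_eq_zero m
      have hw0 : 2 ^ (j - 1) • m ≠ 0 := by
        intro hcon
        have := addOrderOf_dvd_of_nsmul_eq_zero hcon
        rw [hj] at this
        have hlt : 2 ^ (j - 1) < 2 ^ j := Nat.pow_lt_pow_right (by norm_num) (by omega)
        exact absurd (Nat.le_of_dvd (by positivity) this) (by omega)
      have hwg : ρ g' (2 ^ (j - 1) • m) = 2 ^ (j - 1) • m := by
        rw [map_nsmul, hg'm]
      refine ⟨2 ^ (j - 1) • m, hw0, hwg, ?_⟩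
      have h1 := hA _ hwg
      have h2 : 2 ^ (j - 1) • m + 2 ^ (j - 1) • m = 0 := by rw [← two_nsmul]; exact hw2
      have h3 : ρ t (2 ^ (j - 1) • m) = -(2 ^ (j - 1) • m) := eq_neg_of_add_eq_zero_right h1
      rw [h3]
      exact neg_eq_of_add_eq_zero_left h2
  -- the second involution
  have ht'2 : (t * g') * (t * g') = 1 := by
    calc (t * g') * (t * g') = t * (g' * t) * g' := by group
      _ = t * (t * g'⁻¹) * g' := by rw [hgt]
      _ = (t * t) := by group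
      _ = 1 := htt
  have hg'1 : g' ≠ 1 := by
    rintro rfl
    rw [orderOf_one] at hg'ord
    exact hr.ne_one hg'ord.symm
  have hg'sq : g' * g' ≠ 1 := by
    intro hcon
    have : orderOf g' ∣ 2 := orderOf_dvd_of_pow_eq_one (by rw [pow_two]; exact hcon)
    rw [hg'ord] at this
    rcases (Nat.dvd_prime Nat.prime_two).1 this with h1 | h1
    · exact hr.ne_one h1
    · exact hr2 h1
  have ht'1 : t * g' ≠ 1 := by
    intro hcon
    -- g' = t⁻¹ = t so g' * g' = 1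
    have : g' = t := by
      have := eq_inv_of_mul_eq_one_right hcon
      rw [this, htinv]
    exact hg'sq (by rw [this]; exact htt)
  have hwt' : ρ (t * g') w = w := by rw [rho_mul, hwg, hwt]
  obtain ⟨x₁, y₁, hy₁, htx⟩ := hinv t ht1 htt
  obtain ⟨x₂, y₂, hy₂, htx'⟩ := hinv (t * g') ht'1 ht'2
  have hy₁1 : y₁ ≠ 1 := by
    rintro rfl
    apply ht1
    rw [htx]; group
  have hy₂1 : y₂ ≠ 1 := by
    rintro rfl
    apply ht'1
    rw [htx']; group
  have hw1 : w ∈ Fix ρ P x₁ := key x₁ y₁ hy₁ hy₁1 w (by rw [← htx]; exact hwt)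
  have hw2 : w ∈ Fix ρ P x₂ := key x₂ y₂ hy₂ hy₂1 w (by rw [← htx']; exact hwt')
  -- the two conjugates of P are different
  have hnn : x₁⁻¹ * x₂ ∉ Subgroup.normalizer (P : Set X) := by
    intro hcon
    have hy₃ : x₁⁻¹ * x₂ * y₂ * (x₁⁻¹ * x₂)⁻¹ ∈ P :=
      (Subgroup.mem_normalizer_iff.1 hcon y₂).1 hy₂
    set y₃ := x₁⁻¹ * x₂ * y₂ * (x₁⁻¹ * x₂)⁻¹ with hy₃def
    have ht'x : t * g' = x₁ * y₃ * x₁⁻¹ := by
      rw [htx', hy₃def]; group
    have hgg : g' = x₁ * (y₁ * y₃) * x₁⁻¹ := by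
      have : g' = t * (t * g') := by rw [← mul_assoc, htt, one_mul]
      rw [this, ht'x]
      conv_lhs => rw [htx]
      group
    have hsq : (y₁ * y₃) * (y₁ * y₃) = 1 := by
      have hc := h.comm y₁ hy₁ y₃ hy₃
      have e1 : y₁ ^ 2 = 1 := h.exp y₁ hy₁
      have e3 : y₃ ^ 2 = 1 := h.exp y₃ hy₃
      calc (y₁ * y₃) * (y₁ * y₃) = y₁ * (y₃ * y₁) * y₃ := by group
        _ = y₁ * (y₁ * y₃) * y₃ := by rw [hc]
        _ = y₁ ^ 2 * y₃ ^ 2 := by rw [pow_two, pow_two]; simp only [mul_assoc]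
        _ = 1 := by rw [e1, e3, one_mul]
    apply hg'sq
    rw [hgg]
    calc x₁ * (y₁ * y₃) * x₁⁻¹ * (x₁ * (y₁ * y₃) * x₁⁻¹)
        = x₁ * ((y₁ * y₃) * (y₁ * y₃)) * x₁⁻¹ := by group
      _ = 1 := by rw [hsq]; group
  have hu1 : ρ x₁⁻¹ w ∈ Fix ρ P 1 := by
    have : w ∈ Fix ρ P (x₁ * 1) := by rw [mul_one]; exact hw1
    exact fix_shift ρ P x₁ 1 w this
  have hu2 : ρ x₁⁻¹ w ∈ Fix ρ P (x₁⁻¹ * x₂) := by
    have : w ∈ Fix ρ P (x₁ * (x₁⁻¹ * x₂)) := by
      have e : x₁ * (x₁⁻¹ * x₂) = x₂ := by group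
      rw [e]; exact hw2
    exact fix_shift ρ P x₁ _ w this
  have hu0 := h.cap _ hnn _ hu1 hu2
  apply hw0
  have := congrArg (ρ x₁) hu0
  rwa [rho_apply_inv, map_zero] at this

end Cfsg.Agent.Lib.Helper63_Fpf_REAL
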