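import Mathlib
import Cfsg.Agent.Lib.Helper48_FpfDefs

/-!
# S2863 package FPF-DIH (architect helper48): the dihedral case

`X ≃* DihedralGroup r`, `r` an odd prime: every element of odd prime order is a rotation, inverted
by a reflection; all involutions are reflections, all conjugate; two different reflections do not
commute, so `P = {1, t}` and `t ∉ N(P^x)` for `x ∉ N(P)`.
-/

set_option autoImplicit false

open Cfsg.Agent.Lib.Helper48_FpfDefs

namespace Cfsg.Agent.Lib.Helper64_Fpf_FPF_DIH

open DihedralGroup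

theorem two_ne_zero_zmod {r : ℕ} (hr : r.Prime) (hr2 : r ≠ 2) : (2 : ZMod r) ≠ 0 := by
  intro h
  have h2 : ((2 : ℕ) : ZMod r) = 0 := by exact_mod_cast h
  rw [ZMod.natCast_eq_zero_iff] at h2
  have h3 := Nat.le_of_dvd (by norm_num) h2
  have h4 := hr.two_le
  omega

theorem dbl_eq_zero {r : ℕ} (hr : r.Prime) (hr2 : r ≠ 2) (i : ZMod r) (h : i + i = 0) :
    i = 0 := by
  have : Fact r.Prime := ⟨hr⟩
  have h2 := two_ne_zero_zmod hr hr2
  have h3 : (2 : ZMod r) * i = 0 := by rw [two_mul]; exact h
  rcases mul_eq_zero.mp h3 with h4 | h4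
  · exact absurd h4 h2
  · exact h4

theorem fpf_dihedral {X : Type*} [Group X] [Finite X] {M : Type*} [AddCommGroup M] [Finite M]
    (ρ : X →* AddMonoid.End M) (P : Subgroup X) (h : FpfHyp 2 ρ P)
    (hreal_lemma : ∀ (ρ' : X →* AddMonoid.End M) (P' : Subgroup X), FpfHyp 2 ρ' P' →
      (∀ g : X, (orderOf g).Prime → orderOf g ≠ 2 →
        ∃ t : X, t ≠ 1 ∧ t * t = 1 ∧ t * g * t⁻¹ = g⁻¹) →
      (∀ t : X, t ≠ 1 → t * t = 1 → ∃ x : X, ∃ y ∈ P', t = x * y * x⁻¹) →
      (∀ x : X, x ∉ Subgroup.normalizer (P' : Set X) → ∀ t ∈ P', t ≠ 1 →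
        t ∉ Subgroup.normalizer ((P'.map (MulAut.conj x).toMonoidHom : Subgroup X) : Set X)) →
      Concl 2 ρ')
    (r : ℕ) (hr : r.Prime) (hr2 : r ≠ 2) (e : X ≃* DihedralGroup r) : Concl 2 ρ := by
  have : Fact r.Prime := ⟨hr⟩
  have h20 := two_ne_zero_zmod hr hr2
  -- involutions are reflections
  have hinvol : ∀ t : X, t ≠ 1 → t * t = 1 → ∃ i, e t = sr i := by
    intro t ht1 htt
    have h1 : e t * e t = 1 := by rw [← map_mul, htt, map_one]
    rcases hd : e t with i | i
    · exfalso
      rw [hd, r_mul_r, one_def] at h1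
      have h2 : i + i = 0 := by injection h1
      have hi := dbl_eq_zero hr hr2 i h2
      apply ht1
      apply e.injective
      rw [hd, hi, r_zero, map_one]
    · exact ⟨i, rfl⟩
  -- two commuting involutions are equal
  have hcomm : ∀ s t : X, s ≠ 1 → s * s = 1 → t ≠ 1 → t * t = 1 → s * t = t * s → s = t := by
    intro s t hs1 hss ht1 htt hst
    obtain ⟨a, ha⟩ := hinvol s hs1 hss
    obtain ⟨b, hb⟩ := hinvol t ht1 htt
    have h1 : e s * e t = e t * e s := by rw [← map_mul, hst, map_mul]
    rw [ha, hb, sr_mul_sr, sr_mul_sr] at h1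
    have h3 : b - a = a - b := by injection h1
    have h4 : (b - a) + (b - a) = 0 := by linear_combination h3
    have h5 := dbl_eq_zero hr hr2 _ h4
    have h6 : a = b := (sub_eq_zero.mp h5).symm
    apply e.injective
    rw [ha, hb, h6]
  -- squares
  have hsq : ∀ y ∈ P, y * y = 1 := fun y hy => by rw [← pow_two]; exact h.exp y hy
  -- `P` is nontrivial
  obtain ⟨y0, hy0, hy01⟩ : ∃ y ∈ P, y ≠ 1 := by
    by_contra hcon
    push Not at hcon
    obtain ⟨x, hx⟩ := h.ne
    apply hx
    rw [Subgroup.mem_set_normalizer_iff]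
    intro z
    constructor
    · intro hz
      have hz1 : z = 1 := hcon z hz
      rw [hz1, mul_one, mul_inv_cancel]
      exact P.one_mem
    · intro hz
      have hz1 : x * z * x⁻¹ = 1 := hcon _ hz
      have hz2 : z = 1 := by
        have := congrArg (fun w => x⁻¹ * w * x) hz1
        simpa [mul_assoc] using this
      rw [hz2]
      exact P.one_mem
  -- `P = {1, y0}`
  have hP2 : ∀ y ∈ P, y = 1 ∨ y = y0 := by
    intro y hy
    by_cases hy1 : y = 1
    · exact Or.inl hy1
    · exact Or.inr (hcomm y y0 hy1 (hsq y hy) hy01 (hsq y0 hy0) (h.comm y hy y0 hy0))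
  have hy0sq := hsq y0 hy0
  obtain ⟨a0, ha0⟩ := hinvol y0 hy01 hy0sq
  apply hreal_lemma ρ P h
  · -- hreal
    intro g hg hg2
    rcases hd : e g with i | i
    · refine ⟨e.symm (sr 0), ?_, ?_, ?_⟩
      · intro h1
        have h2 : sr (0 : ZMod r) = 1 := by
          have := congrArg e h1
          rwa [MulEquiv.apply_symm_apply, map_one] at this
        rw [one_def] at h2
        cases h2
      · rw [← map_mul, sr_mul_self, map_one]
      · apply e.injective
        rw [map_mul, map_mul, map_inv, map_inv, MulEquiv.apply_symm_apply, hd, sr_mul_r, inv_sr,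
          sr_mul_sr, inv_r]
        congr 1
        ring
    · exfalso
      apply hg2
      rw [← MulEquiv.orderOf_eq e g, hd, orderOf_sr]
  · -- hinv
    intro t ht1 htt
    obtain ⟨b, hb⟩ := hinvol t ht1 htt
    refine ⟨e.symm (DihedralGroup.r ((a0 - b) * 2⁻¹)), y0, hy0, ?_⟩
    apply e.injective
    rw [map_mul, map_mul, map_inv, MulEquiv.apply_symm_apply, ha0, hb, r_mul_sr, inv_r, sr_mul_r]
    congr 1
    field_simp
    ring
  · -- hsemi
    intro x hx t ht ht1 htN
    have hty0 : t = y0 := by
      rcases hP2 t ht with h1 | h1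
      · exact absurd h1 ht1
      · exact h1
    subst hty0
    rw [Subgroup.mem_set_normalizer_iff] at htN
    have hmem : x * t * x⁻¹ ∈ ((P.map (MulAut.conj x).toMonoidHom : Subgroup X) : Set X) := by
      refine ⟨t, ht, ?_⟩
      simp [MulAut.conj_apply]
    have h2 := (htN (x * t * x⁻¹)).mp hmem
    obtain ⟨y, hy, hyeq⟩ := h2
    have hyeq' : x * y * x⁻¹ = t * (x * t * x⁻¹) * t⁻¹ := by
      simpa [MulAut.conj_apply] using hyeq
    have hxt1 : x * t * x⁻¹ ≠ 1 := by
      intro h3
      apply ht1
      have := congrArg (fun w => x⁻¹ * w * x) h3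
      simpa [mul_assoc] using this
    have hxtsq : (x * t * x⁻¹) * (x * t * x⁻¹) = 1 := by
      have : (x * t * x⁻¹) * (x * t * x⁻¹) = x * (t * t) * x⁻¹ := by group
      rw [this, hy0sq, mul_one, mul_inv_cancel]
    rcases hP2 y (by exact hy) with h3 | h3
    · -- y = 1
      rw [h3, mul_one, mul_inv_cancel] at hyeq'
      apply hxt1
      have := congrArg (fun w => t⁻¹ * w * t) hyeq'
      simpa [mul_assoc] using this.symm
    · -- y = t: `t` commutes with `x t x⁻¹`
      rw [h3] at hyeq'
      have hc : t * (x * t * x⁻¹) = (x * t * x⁻¹) * t := by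
        have := congrArg (fun w => w * t) hyeq'
        simpa [mul_assoc] using this.symm
      have h4 : t = x * t * x⁻¹ := hcomm t _ ht1 hy0sq hxt1 hxtsq hc
      apply hx
      rw [Subgroup.mem_set_normalizer_iff]
      intro z
      constructor
      · intro hz
        rcases hP2 z hz with h5 | h5
        · rw [h5, mul_one, mul_inv_cancel]
          exact P.one_mem
        · rw [h5, ← h4]
          exact ht
      · intro hz
        rcases hP2 _ hz with h5 | h5
        · have hz2 : z = 1 := by
            have := congrArg (fun w => x⁻¹ * w * x) h5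
            simpa [mul_assoc] using this
          rw [hz2]
          exact P.one_mem
        · have hz2 : z = t := by
            have h6 : x * z * x⁻¹ = x * t * x⁻¹ := h5.trans h4
            have := congrArg (fun w => x⁻¹ * w * x) h6
            simpa [mul_assoc] using this
          rw [hz2]
          exact ht

end Cfsg.Agent.Lib.Helper64_Fpf_FPF_DIH
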