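import Mathlib
import Cfsg.Prelude.Def_Sz
import Cfsg.Prelude.Def_LieExceptional
import Cfsg.Agent.Lib.Helper48_FpfDefs

/-!
# S2863 package MOD (architect helper48): the module of a section.

`A ⊴ 𝔏` a `p`-group, `C ≤ A` central in `𝔏`, `[A, A] ≤ C`: then `A / C` (written additively) is a
finite abelian `p`-group on which `𝔏 / A` acts by conjugation.
-/

set_option autoImplicit false

open Cfsg.Agent.Lib.Helper48_FpfDefs

namespace Cfsg.Agent.Lib.Helper70_Fpf_MOD

universe u

section aux

variable {𝔏 : Type u} [Group 𝔏] (A C : Subgroup 𝔏)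

/-- `C ∩ A` as a subgroup of `A` is normal when `C` is central. -/
theorem subgroupOf_normal_of_central (hC : C ≤ Subgroup.center 𝔏) : (C.subgroupOf A).Normal := by
  constructor
  intro n hn g
  rw [Subgroup.mem_subgroupOf] at hn ⊢
  have hcen := Subgroup.mem_center_iff.mp (hC hn)
  have : ((g * n * g⁻¹ : A) : 𝔏) = (n : 𝔏) := by
    push_cast
    rw [hcen (g : 𝔏), mul_inv_cancel_right]
  rw [this]
  exact hn

/-- Conjugation by `g` preserves `C ∩ A`. -/
theorem conj_le_comap [A.Normal] (hC : C ≤ Subgroup.center 𝔏) (g : 𝔏) :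
    C.subgroupOf A ≤ (C.subgroupOf A).comap (MulAut.conjNormal (H := A) g).toMonoidHom := by
  intro n hn
  rw [Subgroup.mem_comap, Subgroup.mem_subgroupOf]
  rw [Subgroup.mem_subgroupOf] at hn
  have hcen := Subgroup.mem_center_iff.mp (hC hn)
  have : (((MulAut.conjNormal (H := A) g).toMonoidHom n : A) : 𝔏) = (n : 𝔏) := by
    change ((MulAut.conjNormal (H := A) g n : A) : 𝔏) = _
    rw [MulAut.conjNormal_apply, hcen g, mul_inv_cancel_right]
  rw [this]
  exact hn

end aux

theorem module_of_section {𝔏 : Type u} [Group 𝔏] [Finite 𝔏] {p : ℕ} [Fact p.Prime]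
    (A C : Subgroup 𝔏) [A.Normal] (hC : C ≤ Subgroup.center 𝔏) (hCA : C ≤ A)
    (hcomm : ∀ a ∈ A, ∀ b ∈ A, a * b * a⁻¹ * b⁻¹ ∈ C) (hAp : IsPGroup p A) :
    ∃ (Mod : Type u) (_ : AddCommGroup Mod) (_ : Finite Mod)
      (ρ : 𝔏 ⧸ A →* AddMonoid.End Mod) (π : A → Mod),
      (∃ k : ℕ, Nat.card Mod = p ^ k) ∧ Function.Surjective π ∧
      (∀ a b : A, π (a * b) = π a + π b) ∧ (∀ a : A, π a = 0 ↔ (a : 𝔏) ∈ C) ∧
      ∀ (g : 𝔏) (a : A), ρ (g : 𝔏 ⧸ A) (π a) =
        π ⟨g * a * g⁻¹, (inferInstance : A.Normal).conj_mem a a.2 g⟩ := by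
  classical
  have hN : (C.subgroupOf A).Normal := subgroupOf_normal_of_central A C hC
  -- the quotient is commutative
  have hmulcomm : ∀ x y : A ⧸ C.subgroupOf A, x * y = y * x := by
    intro x y
    induction x using QuotientGroup.induction_on with
    | H a =>
      induction y using QuotientGroup.induction_on with
      | H b =>
        rw [← QuotientGroup.mk_mul, ← QuotientGroup.mk_mul, QuotientGroup.eq]
        rw [Subgroup.mem_subgroupOf]
        have h1 := hcomm (b : 𝔏)⁻¹ (A.inv_mem b.2) (a : 𝔏)⁻¹ (A.inv_mem a.2)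
        have : (((a * b)⁻¹ * (b * a) : A) : 𝔏) = (b : 𝔏)⁻¹ * (a : 𝔏)⁻¹ * (b : 𝔏)⁻¹⁻¹ * (a : 𝔏)⁻¹⁻¹ := by
          push_cast
          group
        rw [this]
        exact h1
  let instCG : CommGroup (A ⧸ C.subgroupOf A) :=
    { (inferInstance : Group (A ⧸ C.subgroupOf A)) with mul_comm := hmulcomm }
  -- the action of `𝔏` on the quotient
  let φ0 : 𝔏 → ((A ⧸ C.subgroupOf A) →* (A ⧸ C.subgroupOf A)) := fun g =>
    QuotientGroup.map (C.subgroupOf A) (C.subgroupOf A)
      (MulAut.conjNormal (H := A) g).toMonoidHom (conj_le_comap A C hC g)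
  have hφ0_mk : ∀ (g : 𝔏) (a : A), φ0 g (QuotientGroup.mk a) =
      QuotientGroup.mk (MulAut.conjNormal (H := A) g a) := by
    intro g a
    rfl
  let φ : 𝔏 →* AddMonoid.End (Additive (A ⧸ C.subgroupOf A)) :=
    { toFun := fun g => MonoidHom.toAdditive (φ0 g)
      map_one' := by
        apply AddMonoidHom.ext
        intro x
        induction x using Additive.rec with
        | ofMul x =>
          induction x using QuotientGroup.induction_on with
          | H a =>
            change Additive.ofMul (φ0 1 (QuotientGroup.mk a)) = Additive.ofMul (QuotientGroup.mk a)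
            rw [hφ0_mk, map_one]
            rfl
      map_mul' := by
        intro g h
        apply AddMonoidHom.ext
        intro x
        induction x using Additive.rec with
        | ofMul x =>
          induction x using QuotientGroup.induction_on with
          | H a =>
            change Additive.ofMul (φ0 (g * h) (QuotientGroup.mk a)) =
              Additive.ofMul (φ0 g (φ0 h (QuotientGroup.mk a)))
            rw [hφ0_mk, hφ0_mk, hφ0_mk, map_mul]
            rfl }
  have hφ_apply : ∀ (g : 𝔏) (a : A), φ g (Additive.ofMul (QuotientGroup.mk a)) =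
      Additive.ofMul (QuotientGroup.mk (MulAut.conjNormal (H := A) g a)) := by
    intro g a
    rfl
  have hker : A ≤ φ.ker := by
    intro g hg
    rw [MonoidHom.mem_ker]
    apply AddMonoidHom.ext
    intro x
    induction x using Additive.rec with
    | ofMul x =>
      induction x using QuotientGroup.induction_on with
      | H a =>
        change Additive.ofMul (QuotientGroup.mk (MulAut.conjNormal (H := A) g a)) =
          Additive.ofMul (QuotientGroup.mk a)
        congr 1
        rw [QuotientGroup.eq, Subgroup.mem_subgroupOf]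
        have h1 := hcomm g hg (a : 𝔏)⁻¹ (A.inv_mem a.2)
        have h2 : (((MulAut.conjNormal (H := A) g a)⁻¹ * a : A) : 𝔏) =
            g * (a : 𝔏)⁻¹ * g⁻¹ * (a : 𝔏)⁻¹⁻¹ := by
          push_cast
          rw [MulAut.conjNormal_apply]
          group
        rw [h2]
        exact h1
  refine ⟨Additive (A ⧸ C.subgroupOf A), inferInstance, inferInstance,
    QuotientGroup.lift A φ hker, fun a => Additive.ofMul (QuotientGroup.mk a), ?_, ?_, ?_, ?_, ?_⟩
  · -- cardinality
    have hq : IsPGroup p (A ⧸ C.subgroupOf A) := hAp.to_quotient (C.subgroupOf A)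
    obtain ⟨k, hk⟩ := IsPGroup.iff_card.mp hq
    refine ⟨k, ?_⟩
    rw [← hk]
    exact Nat.card_congr Additive.toMul
  · intro x
    induction x using Additive.rec with
    | ofMul x =>
      induction x using QuotientGroup.induction_on with
      | H a => exact ⟨a, rfl⟩
  · intro a b
    rfl
  · intro a
    change Additive.ofMul (QuotientGroup.mk a : A ⧸ C.subgroupOf A) = Additive.ofMul 1 ↔ _
    rw [Additive.ofMul.injective.eq_iff, QuotientGroup.eq_one_iff, Subgroup.mem_subgroupOf]
  · intro g a
    rw [QuotientGroup.lift_mk, hφ_apply]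
    congr 2

end Cfsg.Agent.Lib.Helper70_Fpf_MOD
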