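import Mathlib

/-!
# Solubilizers in Suzuki groups (helper5), part A: general finite group lemmas
-/

set_option autoImplicit false

namespace Cfsg.Agent.Lib.Helper5_SzSolA

open Subgroup

variable {G : Type*} [Group G]

/-- a subgroup of `N(T)` meeting `T` trivially has order dividing `|N(T) : T|` -/
theorem card_mul_dvd [Finite G] {H T : Subgroup G} (hHN : H ≤ normalizer (T : Set G))
    (hT : H ⊓ T = ⊥) : Nat.card H * Nat.card T ∣ Nat.card (normalizer (T : Set G)) := by
  set N := normalizer (T : Set G) with hN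
  let f : H →* N ⧸ T.subgroupOf N := (QuotientGroup.mk' (T.subgroupOf N)).comp (inclusion hHN)
  have hf : Function.Injective f := by
    rw [injective_iff_map_eq_one]
    rintro ⟨h, hh⟩ h1
    have h2 : (inclusion hHN ⟨h, hh⟩ : N) ∈ T.subgroupOf N := by
      have := (QuotientGroup.eq_one_iff (N := T.subgroupOf N) (inclusion hHN ⟨h, hh⟩)).1 h1
      exact this
    rw [mem_subgroupOf] at h2
    have h3 : h ∈ H ⊓ T := ⟨hh, h2⟩
    rw [hT, mem_bot] at h3
    exact Subtype.ext h3
  have h1 := Subgroup.card_dvd_of_injective f hf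
  have h2 := Subgroup.card_eq_card_quotient_mul_card_subgroup (T.subgroupOf N)
  have h3 : Nat.card (T.subgroupOf N) = Nat.card T :=
    Nat.card_congr (subgroupOfEquivOfLe (le_normalizer)).toEquiv
  rw [h3] at h2
  rw [h2]
  exact Nat.mul_dvd_mul_right h1 _

/-- an element of `N(T)` of order coprime to `|N(T) : T|` lies in `T` -/
theorem mem_of_coprime [Finite G] {T : Subgroup G} {t : G}
    (ht : t ∈ normalizer (T : Set G)) {c : ℕ}
    (hc : Nat.card (normalizer (T : Set G)) = c * Nat.card T) (hcop : (orderOf t).Coprime c) :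
    t ∈ T := by
  set N := normalizer (T : Set G) with hN
  have h2 := Subgroup.card_eq_card_quotient_mul_card_subgroup (T.subgroupOf N)
  have h3 : Nat.card (T.subgroupOf N) = Nat.card T :=
    Nat.card_congr (subgroupOfEquivOfLe (le_normalizer)).toEquiv
  rw [h3, hc] at h2
  have hTpos : 0 < Nat.card T := Nat.card_pos
  have hq : Nat.card (N ⧸ T.subgroupOf N) = c := (Nat.eq_of_mul_eq_mul_right hTpos h2).symm
  set π := QuotientGroup.mk' (T.subgroupOf N) with hπ
  have e1 : (π ⟨t, ht⟩) ^ orderOf t = 1 := by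
    rw [← map_pow]
    have : (⟨t, ht⟩ : N) ^ orderOf t = 1 := by
      apply Subtype.ext
      simp [pow_orderOf_eq_one]
    rw [this, map_one]
  have e2 : (π ⟨t, ht⟩) ^ c = 1 := by
    rw [← hq]
    exact pow_card_eq_one'
  have d1 := orderOf_dvd_of_pow_eq_one e1
  have d2 := orderOf_dvd_of_pow_eq_one e2
  have d3 : orderOf (π ⟨t, ht⟩) ∣ 1 := by
    rw [← Nat.Coprime.gcd_eq_one hcop]
    exact Nat.dvd_gcd d1 d2
  have h1 : π ⟨t, ht⟩ = 1 := orderOf_eq_one_iff.1 (Nat.dvd_one.1 d3)
  have := (QuotientGroup.eq_one_iff (N := T.subgroupOf N) (⟨t, ht⟩ : N)).1 h1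
  rwa [mem_subgroupOf] at this

/-- an involution normalising an abelian group and centralising no non-identity element inverts it -/
theorem inverts_of_cent_trivial {T : Subgroup G} (hcomm : ∀ a ∈ T, ∀ b ∈ T, a * b = b * a)
    {x : G} (hx : x ∈ normalizer (T : Set G)) (hxx : x * x = 1)
    (hfix : ∀ t ∈ T, x * t = t * x → t = 1) : ∀ t ∈ T, x * t * x⁻¹ = t⁻¹ := by
  intro t ht
  have hxt : x * t * x⁻¹ ∈ T := (mem_normalizer_iff.1 hx t).1 ht
  have hxinv : x⁻¹ = x := inv_eq_of_mul_eq_one_left hxx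
  set s := t * (x * t * x⁻¹) with hs
  have hsT : s ∈ T := T.mul_mem ht hxt
  have hsx : x * s = s * x := by
    have e1 : x * s = (x * t * x⁻¹) * (x * (x * t * x⁻¹) * x⁻¹) * x := by
      rw [hs]; group
    have e2 : x * (x * t * x⁻¹) * x⁻¹ = t := by
      have : x * (x * t * x⁻¹) * x⁻¹ = (x * x) * t * (x⁻¹ * x⁻¹) := by group
      rw [this, hxx, hxinv, hxx]; group
    rw [e1, e2, hcomm _ hxt _ ht]
  have := hfix s hsT hsx
  rw [hs] at this
  exact (eq_inv_of_mul_eq_one_right this)

/-- a pairwise disjoint family of sets of the same size -/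
theorem card_iUnion_const {α ι : Type*} [Finite α] [Finite ι] (S : ι → Set α)
    (hdis : ∀ i j, i ≠ j → Disjoint (S i) (S j)) (c : ℕ) (hc : ∀ i, (S i).ncard = c) :
    (⋃ i, S i).ncard = Nat.card ι * c := by
  classical
  haveI := Fintype.ofFinite ι
  rw [← Nat.card_coe_set_eq, Nat.card_congr (Set.unionEqSigmaOfDisjoint hdis), Nat.card_sigma]
  simp only [Nat.card_coe_set_eq, hc, Finset.sum_const, Finset.card_univ, smul_eq_mul,
    Nat.card_eq_fintype_card]

/-! ### conjugation of subgroups -/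

/-- the conjugate `g T g⁻¹` -/
def cj (g : G) (T : Subgroup G) : Subgroup G := T.map (MulAut.conj g).toMonoidHom

theorem mem_cj {g y : G} {T : Subgroup G} : y ∈ cj g T ↔ g⁻¹ * y * g ∈ T := by
  unfold cj
  rw [Subgroup.mem_map]
  constructor
  · rintro ⟨t, ht, rfl⟩
    have : g⁻¹ * ((MulAut.conj g).toMonoidHom t) * g = t := by
      simp [MulAut.conj_apply]
      group
    rw [this]; exact ht
  · intro h
    refine ⟨g⁻¹ * y * g, h, ?_⟩
    simp [MulAut.conj_apply]
    group

theorem conj_mem_cj {g t : G} {T : Subgroup G} (ht : t ∈ T) : g * t * g⁻¹ ∈ cj g T := by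
  rw [mem_cj]
  have : g⁻¹ * (g * t * g⁻¹) * g = t := by group
  rw [this]; exact ht

theorem cj_one (T : Subgroup G) : cj 1 T = T := by
  ext y
  rw [mem_cj]
  simp

theorem cj_mul (g h : G) (T : Subgroup G) : cj (g * h) T = cj g (cj h T) := by
  ext y
  rw [mem_cj, mem_cj, mem_cj]
  have : (g * h)⁻¹ * y * (g * h) = h⁻¹ * (g⁻¹ * y * g) * h := by group
  rw [this]

theorem cj_inv_cj (g : G) (T : Subgroup G) : cj g⁻¹ (cj g T) = T := by
  rw [← cj_mul, inv_mul_cancel, cj_one]

theorem cj_eq_self_iff {g : G} {T : Subgroup G} : cj g T = T ↔ g ∈ normalizer (T : Set G) := by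
  constructor
  · intro h
    rw [mem_normalizer_iff'']
    intro y
    rw [← mem_cj, h]
  · intro h
    ext y
    rw [mem_cj]
    exact ((mem_normalizer_iff''.1 h) y).symm

theorem cj_mono {g : G} {T T' : Subgroup G} (h : T ≤ T') : cj g T ≤ cj g T' :=
  Subgroup.map_mono h

/-- the conjugation isomorphism `T ≃* g T g⁻¹` -/
noncomputable def cjEquiv (g : G) (T : Subgroup G) : T ≃* cj g T :=
  (MulAut.conj g).subgroupMap T

theorem card_cj (g : G) (T : Subgroup G) : Nat.card (cj g T) = Nat.card T :=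
  (Nat.card_congr (cjEquiv g T).toEquiv).symm

theorem isCyclic_cj (g : G) (T : Subgroup G) [h : IsCyclic T] : IsCyclic (cj g T) :=
  isCyclic_of_surjective (cjEquiv g T) (cjEquiv g T).surjective

theorem normalizer_cj (g : G) (T : Subgroup G) :
    normalizer ((cj g T : Subgroup G) : Set G) = cj g (normalizer (T : Set G)) := by
  ext y
  rw [mem_cj, ← cj_eq_self_iff, ← cj_eq_self_iff]
  constructor
  · intro h
    have : cj (g⁻¹ * y * g) T = cj g⁻¹ (cj y (cj g T)) := by
      rw [← cj_mul, ← cj_mul]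
    rw [this, h, cj_inv_cj]
  · intro h
    have : cj y (cj g T) = cj g (cj (g⁻¹ * y * g) T) := by
      rw [← cj_mul, ← cj_mul]
      congr 1 <;> group
    rw [this, h]

theorem centralizer_conj (g x : G) :
    centralizer ({g * x * g⁻¹} : Set G) = cj g (centralizer ({x} : Set G)) := by
  ext y
  rw [mem_cj, mem_centralizer_singleton_iff, mem_centralizer_singleton_iff]
  constructor
  · intro h
    have e1 : g⁻¹ * y * g * x = g⁻¹ * (y * (g * x * g⁻¹)) * g := by group
    have e2 : x * (g⁻¹ * y * g) = g⁻¹ * ((g * x * g⁻¹) * y) * g := by group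
    rw [e1, e2, h]
  · intro h
    have e1 : y * (g * x * g⁻¹) = g * ((g⁻¹ * y * g) * x) * g⁻¹ := by group
    have e2 : g * x * g⁻¹ * y = g * (x * (g⁻¹ * y * g)) * g⁻¹ := by group
    rw [e1, e2, h]

/-- the conjugation action on subgroups -/
@[instance_reducible]
def conjAct : MulAction G (Subgroup G) where
  smul := cj
  one_smul := cj_one
  mul_smul := cj_mul

/-- orbit-stabiliser for the conjugation action of a subgroup `C` on subgroups -/
theorem card_orbit_mul [Finite G] (C T : Subgroup G) :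
    Nat.card {T' : Subgroup G // ∃ c ∈ C, T' = cj c T} *
      Nat.card (normalizer (T : Set G) ⊓ C : Subgroup G) = Nat.card C := by
  let _ : MulAction G (Subgroup G) := conjAct
  have hsmul : ∀ (c : C) (U : Subgroup G), c • U = cj (c : G) U := fun c U => rfl
  have e := MulAction.orbitProdStabilizerEquivGroup C T
  rw [← Nat.card_congr e, Nat.card_prod]
  congr 1
  · apply Nat.card_congr
    apply Equiv.subtypeEquivRight
    intro T'
    rw [MulAction.mem_orbit_iff]
    constructor
    · rintro ⟨c, hc, rfl⟩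
      exact ⟨⟨c, hc⟩, hsmul _ _⟩
    · rintro ⟨c, hc⟩
      exact ⟨c.1, c.2, by rw [← hc, hsmul]⟩
  · have : MulAction.stabilizer C T = (normalizer (T : Set G)).subgroupOf C := by
      ext c
      rw [MulAction.mem_stabilizer_iff, hsmul, cj_eq_self_iff, mem_subgroupOf]
    rw [this, ← inf_subgroupOf_right]
    exact (Nat.card_congr (subgroupOfEquivOfLe inf_le_right).toEquiv).symm

end Cfsg.Agent.Lib.Helper5_SzSolA
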