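import Mathlib
import Cfsg.Agent.Lib.Helper5_SzSolA

/-!
# Solubilizers in Suzuki groups (helper5), part B: arithmetic and the abstract setting
-/

set_option autoImplicit false

namespace Cfsg.Agent.Lib.Helper5_SzSolB

open Subgroup Cfsg.Agent.Lib.Helper5_SzSolA

/-! ### arithmetic -/

/-- the arithmetic data: `q = 2^n ≥ 8`, `r² = 2q` -/
structure Ar (q r : ℕ) : Prop where
  q_ge : 8 ≤ q
  r_sq : r * r = 2 * q
  two_pow : ∃ n, q = 2 ^ n

namespace Ar

variable {q r : ℕ}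

theorem r_pow (h : Ar q r) : ∃ j, r = 2 ^ j := by
  obtain ⟨n, hn⟩ := h.two_pow
  have : r ∣ 2 ^ (n + 1) := by
    refine ⟨r, ?_⟩
    rw [h.r_sq, hn, pow_succ]; ring
  obtain ⟨j, -, hj⟩ := (Nat.dvd_prime_pow Nat.prime_two).1 this
  exact ⟨j, hj⟩

theorem r_ge (h : Ar q r) : 4 ≤ r := by
  by_contra hlt
  have h1 := h.r_sq
  have h2 := h.q_ge
  have : r ≤ 3 := by omega
  interval_cases r <;> omega

theorem two_r_le (h : Ar q r) : 2 * r ≤ q := by
  have h1 := h.r_sq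
  have h2 := h.q_ge
  have h3 := h.r_ge
  by_contra hlt
  have : q < 2 * r := by omega
  have : q * r < 2 * r * r := by
    have := Nat.mul_lt_mul_of_pos_right this (by omega : 0 < r)
    linarith
  have h4 : 2 * r * r = 4 * q := by rw [mul_assoc, h1]; ring
  rw [h4] at this
  have : r < 4 := by
    by_contra h5
    have : 4 * q ≤ r * q := Nat.mul_le_mul_right q (by omega)
    linarith
  omega

theorem q_even (h : Ar q r) : 2 ∣ q := by
  obtain ⟨n, hn⟩ := h.two_pow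
  have hq := h.q_ge
  rcases Nat.eq_zero_or_pos n with rfl | hpos
  · rw [pow_zero] at hn; omega
  · rw [hn]; exact dvd_pow_self 2 (by omega)

theorem r_even (h : Ar q r) : 2 ∣ r := by
  have h1 := h.r_sq
  have : 2 ∣ r * r := ⟨q, h1⟩
  rcases (Nat.Prime.dvd_mul Nat.prime_two).1 this with h2 | h2 <;> exact h2

theorem odd0 (h : Ar q r) : ¬ 2 ∣ q - 1 := by
  have := h.q_even
  have := h.q_ge
  omega

theorem odd1 (h : Ar q r) : ¬ 2 ∣ q + r + 1 := by
  have := h.q_even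
  have := h.r_even
  omega

theorem odd2 (h : Ar q r) : ¬ 2 ∣ q - r + 1 := by
  have := h.q_even
  have := h.r_even
  have := h.two_r_le
  omega

theorem prod_eq (h : Ar q r) : (q + r + 1) * (q - r + 1) = q * q + 1 := by
  have h1 := h.r_sq
  have h2 := h.two_r_le
  obtain ⟨k, hk⟩ : ∃ k, q = r + k := ⟨q - r, by omega⟩
  subst hk
  have e : r + k - r + 1 = k + 1 := by omega
  rw [e]
  nlinarith

theorem eq_one_of_odd_dvd_two {d : ℕ} (h2 : d ∣ 2) (hodd : ¬ 2 ∣ d) : d = 1 := by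
  rcases (Nat.dvd_prime Nat.prime_two).1 h2 with h | h
  · exact h
  · exact absurd (by rw [h]) hodd

/-- a common divisor of `q - 1` and `q² + 1` is `1` -/
theorem coprime_aux (h : Ar q r) {d : ℕ} (h1 : d ∣ q - 1) (h2 : d ∣ q * q + 1) : d = 1 := by
  have hq := h.q_ge
  have e : q * q + 1 = (q - 1) * (q + 1) + 2 := by
    obtain ⟨k, hk⟩ : ∃ k, q = k + 1 := ⟨q - 1, by omega⟩
    subst hk
    simp only [Nat.add_sub_cancel]
    ring
  rw [e] at h2
  have h3 : d ∣ 2 := (Nat.dvd_add_right (Dvd.dvd.mul_right h1 _)).1 h2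
  apply eq_one_of_odd_dvd_two h3
  intro h4
  exact h.odd0 (dvd_trans h4 h1)

theorem coprime01 (h : Ar q r) : Nat.Coprime (q - 1) (q + r + 1) := by
  apply Nat.Coprime.symm
  apply Nat.coprime_of_dvd'
  intro k _ h1 h2
  have : k = 1 := h.coprime_aux h2 (by rw [← h.prod_eq]; exact Dvd.dvd.mul_right h1 _)
  rw [this]

theorem coprime02 (h : Ar q r) : Nat.Coprime (q - 1) (q - r + 1) := by
  apply Nat.Coprime.symm
  apply Nat.coprime_of_dvd'
  intro k _ h1 h2
  have : k = 1 := h.coprime_aux h2 (by rw [← h.prod_eq]; exact Dvd.dvd.mul_left h1 _)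
  rw [this]

theorem coprime12 (h : Ar q r) : Nat.Coprime (q + r + 1) (q - r + 1) := by
  apply Nat.coprime_of_dvd'
  intro k _ h1 h2
  have h3 := h.two_r_le
  have e : q + r + 1 = (q - r + 1) + 2 * r := by omega
  rw [e] at h1
  have h4 : k ∣ 2 * r := (Nat.dvd_add_right h2).1 h1
  obtain ⟨j, hj⟩ := h.r_pow
  have h5 : k ∣ 2 ^ (j + 1) := by rw [pow_succ, mul_comm, ← hj]; exact h4
  obtain ⟨i, -, hi⟩ := (Nat.dvd_prime_pow Nat.prime_two).1 h5
  rcases Nat.eq_zero_or_pos i with rfl | hpos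
  · rw [hi, pow_zero]
  · exfalso
    apply h.odd2
    refine dvd_trans ?_ h2
    rw [hi]; exact dvd_pow_self 2 (by omega)

theorem coprime_q {k : ℕ} (h : Ar q r) (hk : ¬ 2 ∣ k) : Nat.Coprime k q := by
  obtain ⟨n, hn⟩ := h.two_pow
  rw [hn]
  apply Nat.Coprime.pow_right
  rw [Nat.coprime_comm, Nat.Prime.coprime_iff_not_dvd Nat.prime_two]
  exact hk

end Ar

/-! ### the abstract setting -/

variable {G : Type*} [Group G]

/-- cyclic of one of the three odd orders -/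
def IsCyc (q r : ℕ) (U : Subgroup G) : Prop :=
  IsCyclic U ∧ (Nat.card U = q - 1 ∨ Nat.card U = q + r + 1 ∨ Nat.card U = q - r + 1)

/-- a member of the partition -/
def IsComp (q r : ℕ) (U : Subgroup G) : Prop :=
  (∃ P : Sylow 2 G, U = (P : Subgroup G)) ∨ IsCyc q r U

/-- the abstract hypotheses, all of which hold in `Sz(q)` with `2m+1` prime -/
structure Ax (G : Type*) [Group G] (q r : ℕ) : Prop where
  ar : Ar q r
  part : ∀ g : G, g ≠ 1 → ∃! U : Subgroup G, IsComp q r U ∧ g ∈ U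
  maxi : ∀ M : Subgroup G, M ≠ ⊤ → ∃ U : Subgroup G, IsComp q r U ∧ M ≤ normalizer (U : Set G)
  not_solv : ¬ Group.IsSolvable G
  solv : ∀ U : Subgroup G, IsComp q r U → Group.IsSolvable (normalizer (U : Set G))
  card_syl : ∀ P : Sylow 2 G, Nat.card P = q ^ 2
  card_norm_syl : ∀ P : Sylow 2 G,
    Nat.card (normalizer ((P : Subgroup G) : Set G)) = (q - 1) * q ^ 2
  card_norm_cyc0 : ∀ U : Subgroup G, IsCyclic U → Nat.card U = q - 1 →
    Nat.card (normalizer (U : Set G)) = 2 * Nat.card U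
  card_norm_cyc1 : ∀ U : Subgroup G, IsCyclic U →
    (Nat.card U = q + r + 1 ∨ Nat.card U = q - r + 1) →
    Nat.card (normalizer (U : Set G)) = 4 * Nat.card U
  cent_cyc : ∀ U : Subgroup G, IsCyc q r U → ∀ u ∈ U, u ≠ 1 → ∀ c : G, c * u = u * c → c ∈ U
  exists_cyc : ∀ k : ℕ, (k = q - 1 ∨ k = q + r + 1 ∨ k = q - r + 1) →
    ∃ U : Subgroup G, IsCyclic U ∧ Nat.card U = k
  conj_cyc : ∀ U U' : Subgroup G, IsCyc q r U → IsCyc q r U' → Nat.card U = Nat.card U' →
    ∃ g : G, U' = cj g U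
  invol_conj : ∀ x y : G, orderOf x = 2 → orderOf y = 2 → ∃ g : G, y = g * x * g⁻¹
  cent_invol : ∀ x : G, orderOf x = 2 → Nat.card (centralizer ({x} : Set G)) = q ^ 2
  cent_four : ∀ x : G, orderOf x = 4 → Nat.card (centralizer ({x} : Set G)) = 2 * q
  four_conj : ∀ x y : G, orderOf x = 4 → orderOf y = 4 →
    ∃ g : G, y = g * x * g⁻¹ ∨ y = g * x⁻¹ * g⁻¹
  four_not_real : ∀ x g : G, orderOf x = 4 → g * x * g⁻¹ ≠ x⁻¹
  split : ∀ U : Subgroup G, IsCyclic U → Nat.card U = q - 1 → ∃ P1 P2 : Sylow 2 G,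
    normalizer ((P1 : Subgroup G) : Set G) ⊓ normalizer ((P2 : Subgroup G) : Set G) = U ∧
    (∀ u ∈ U, u ≠ 1 → ∀ P : Sylow 2 G, u ∈ normalizer ((P : Subgroup G) : Set G) →
      P = P1 ∨ P = P2) ∧
    normalizer (U : Set G) ⊓ normalizer ((P1 : Subgroup G) : Set G) = U ∧
    normalizer (U : Set G) ⊓ normalizer ((P2 : Subgroup G) : Set G) = U

end Cfsg.Agent.Lib.Helper5_SzSolB
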