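import Mathlib
import Cfsg.Agent.Lib.Helper5_SzSolB

/-!
# Solubilizers in Suzuki groups (helper5), part C: first consequences of the abstract hypotheses
-/

set_option autoImplicit false

namespace Cfsg.Agent.Lib.Helper5_SzSolC

open Subgroup Cfsg.Agent.Lib.Helper5_SzSolA Cfsg.Agent.Lib.Helper5_SzSolB

variable {G : Type*} [Group G]

/-- the solubilizer -/
def Sol (x : G) : Set G := {y | Group.IsSolvable ↥(Subgroup.closure ({x, y} : Set G))}

theorem closure_pair_le {x y : G} {H : Subgroup G} (hx : x ∈ H) (hy : y ∈ H) :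
    Subgroup.closure ({x, y} : Set G) ≤ H := by
  rw [Subgroup.closure_le]
  intro z hz
  rcases hz with rfl | rfl
  · exact hx
  · exact hy

theorem isSolvable_of_le {H K : Subgroup G} (h : H ≤ K) (hK : Group.IsSolvable K) :
    Group.IsSolvable H :=
  Group.isSolvable_of_isSolvable_injective (Subgroup.inclusion_injective h)

variable {q r : ℕ}

theorem isCyc_cj {U : Subgroup G} (hU : IsCyc q r U) (g : G) : IsCyc q r (cj g U) := by
  obtain ⟨h1, h2⟩ := hU
  refine ⟨isCyclic_cj g U, ?_⟩
  rw [card_cj]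
  exact h2

section ax

variable (h : Ax G q r)
include h

theorem mem_sol_iff [Finite G] (x y : G) : y ∈ Sol x ↔
    ∃ U : Subgroup G, IsComp q r U ∧ x ∈ normalizer (U : Set G) ∧ y ∈ normalizer (U : Set G) := by
  constructor
  · intro hs
    have hne : Subgroup.closure ({x, y} : Set G) ≠ ⊤ := by
      intro htop
      apply h.not_solv
      have hs' : Group.IsSolvable ↥(Subgroup.closure ({x, y} : Set G)) := hs
      rw [htop] at hs'
      exact Group.isSolvable_of_surjective (f := (Subgroup.topEquiv : (⊤ : Subgroup G) ≃* G).toMonoidHom)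
        (Subgroup.topEquiv : (⊤ : Subgroup G) ≃* G).surjective
    obtain ⟨U, hU, hle⟩ := h.maxi _ hne
    refine ⟨U, hU, hle (Subgroup.subset_closure (by simp)), hle (Subgroup.subset_closure (by simp))⟩
  · rintro ⟨U, hU, hx, hy⟩
    exact isSolvable_of_le (closure_pair_le hx hy) (h.solv U hU)

/-- two members of the partition sharing a non-identity element are equal -/
theorem comp_unique {U U' : Subgroup G} (hU : IsComp q r U) (hU' : IsComp q r U') {g : G}
    (hg : g ≠ 1) (hgU : g ∈ U) (hgU' : g ∈ U') : U = U' := by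
  obtain ⟨V, -, hV⟩ := h.part g hg
  rw [hV U ⟨hU, hgU⟩, hV U' ⟨hU', hgU'⟩]

theorem sylow_unique {P P' : Sylow 2 G} {g : G} (hg : g ≠ 1) (hgP : g ∈ P) (hgP' : g ∈ P') :
    P = P' := by
  have := comp_unique h (Or.inl ⟨P, rfl⟩) (Or.inl ⟨P', rfl⟩) hg hgP hgP'
  exact Sylow.ext this

/-- a `2`-subgroup containing a non-identity element of a Sylow `2`-subgroup lies in it -/
theorem two_group_le [Finite G] {H : Subgroup G} (hH : IsPGroup 2 H) {P : Sylow 2 G} {g : G}
    (hg : g ≠ 1) (hgH : g ∈ H) (hgP : g ∈ P) : H ≤ P := by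
  obtain ⟨P', hP'⟩ := hH.exists_le_sylow
  have := sylow_unique h hg hgP (hP' hgH)
  rw [this]
  exact hP'

theorem odd_card_cyc {U : Subgroup G} (hU : IsCyc q r U) : ¬ 2 ∣ Nat.card U := by
  obtain ⟨-, h1 | h1 | h1⟩ := hU <;> rw [h1]
  · exact h.ar.odd0
  · exact h.ar.odd1
  · exact h.ar.odd2

/-- the order of the normaliser of a cyclic member: `c * |U|` with `c ∈ {2, 4}` -/
theorem card_norm_cyc {U : Subgroup G} (hU : IsCyc q r U) :
    ∃ c : ℕ, (c = 2 ∨ c = 4) ∧ Nat.card (normalizer (U : Set G)) = c * Nat.card U := by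
  obtain ⟨hc, h1 | h1 | h1⟩ := hU
  · exact ⟨2, Or.inl rfl, h.card_norm_cyc0 U hc h1⟩
  · exact ⟨4, Or.inr rfl, h.card_norm_cyc1 U hc (Or.inl h1)⟩
  · exact ⟨4, Or.inr rfl, h.card_norm_cyc1 U hc (Or.inr h1)⟩

/-- an element of odd order normalising a cyclic member lies in it -/
theorem odd_mem_cyc [Finite G] {U : Subgroup G} (hU : IsCyc q r U) {t : G}
    (ht : t ∈ normalizer (U : Set G)) (hodd : ¬ 2 ∣ orderOf t) : t ∈ U := by
  obtain ⟨c, hc, hcard⟩ := card_norm_cyc h hU
  apply mem_of_coprime ht hcard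
  have h2 : Nat.Coprime (orderOf t) 2 := by
    rw [Nat.coprime_comm, Nat.Prime.coprime_iff_not_dvd Nat.prime_two]
    exact hodd
  rcases hc with rfl | rfl
  · exact h2
  · have : (4 : ℕ) = 2 ^ 2 := by norm_num
    rw [this]
    exact Nat.Coprime.pow_right 2 h2

/-- an element of `2`-power order normalising a Sylow `2`-subgroup lies in it -/
theorem two_elt_mem_sylow [Finite G] {P : Sylow 2 G} {x : G}
    (hx : x ∈ normalizer ((P : Subgroup G) : Set G)) {k : ℕ} (hk : orderOf x = 2 ^ k) :
    x ∈ P := by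
  have hcard : Nat.card (normalizer ((P : Subgroup G) : Set G)) = (q - 1) * Nat.card (P : Subgroup G) := by
    rw [h.card_norm_syl, h.card_syl]
  apply mem_of_coprime hx hcard
  rw [hk]
  apply Nat.Coprime.pow_left
  rw [Nat.Prime.coprime_iff_not_dvd Nat.prime_two]
  exact h.ar.odd0

/-- distinct cyclic members meet trivially -/
theorem cyc_inf_eq_bot {U U' : Subgroup G} (hU : IsCyc q r U) (hU' : IsCyc q r U') (hne : U ≠ U') :
    U ⊓ U' = ⊥ := by
  rw [eq_bot_iff]
  intro g hg
  rw [mem_bot]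
  by_contra hg1
  exact hne (comp_unique h (Or.inr hU) (Or.inr hU') hg1 hg.1 hg.2)

/-- elements of a cyclic member have odd order -/
theorem odd_order_of_mem_cyc [Finite G] {U : Subgroup G} (hU : IsCyc q r U) {t : G} (ht : t ∈ U) :
    ¬ 2 ∣ orderOf t := by
  intro h2
  apply odd_card_cyc h hU
  have h3 := orderOf_dvd_natCard (⟨t, ht⟩ : U)
  rw [← Subgroup.orderOf_coe] at h3
  exact dvd_trans h2 h3

/-- a cyclic member normalised by a non-identity element of another cyclic member is that member -/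
theorem cyc_eq_of_mem_normalizer [Finite G] {U U' : Subgroup G} (hU : IsCyc q r U)
    (hU' : IsCyc q r U') {t : G} (ht1 : t ≠ 1) (htU : t ∈ U)
    (htN : t ∈ normalizer (U' : Set G)) : U = U' := by
  have := odd_mem_cyc h hU' htN (odd_order_of_mem_cyc h hU htU)
  exact comp_unique h (Or.inr hU) (Or.inr hU') ht1 htU this

end ax

end Cfsg.Agent.Lib.Helper5_SzSolC
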