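import Mathlib
import Cfsg.Agent.Lib.Helper5_SzSolC

/-!
# Solubilizers in Suzuki groups (helper5), part D: elements of odd order
-/

set_option autoImplicit false

namespace Cfsg.Agent.Lib.Helper5_SzSolD

open Subgroup Cfsg.Agent.Lib.Helper5_SzSolA Cfsg.Agent.Lib.Helper5_SzSolB
  Cfsg.Agent.Lib.Helper5_SzSolC

variable {G : Type*} [Group G] {q r : ℕ}

/-- one of the three odd orders -/
def IsK (q r k : ℕ) : Prop := k = q - 1 ∨ k = q + r + 1 ∨ k = q - r + 1

theorem IsK.odd (ha : Ar q r) {k : ℕ} (hk : IsK q r k) : ¬ 2 ∣ k := by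
  rcases hk with rfl | rfl | rfl
  · exact ha.odd0
  · exact ha.odd1
  · exact ha.odd2

theorem IsK.coprime (ha : Ar q r) {k k' : ℕ} (hk : IsK q r k) (hk' : IsK q r k') (hne : k ≠ k') :
    Nat.Coprime k k' := by
  rcases hk with rfl | rfl | rfl <;> rcases hk' with rfl | rfl | rfl
  · exact absurd rfl hne
  · exact ha.coprime01
  · exact ha.coprime02
  · exact ha.coprime01.symm
  · exact absurd rfl hne
  · exact ha.coprime12
  · exact ha.coprime02.symm
  · exact ha.coprime12.symm
  · exact absurd rfl hne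

theorem orderOf_dvd_card_of_mem [Finite G] {U : Subgroup G} {g : G} (hg : g ∈ U) :
    orderOf g ∣ Nat.card U := by
  have h := orderOf_dvd_natCard (⟨g, hg⟩ : U)
  rwa [← Subgroup.orderOf_coe] at h

theorem eq_one_of_orderOf_dvd_coprime {g : G} {a b : ℕ} (hab : Nat.Coprime a b)
    (ha : orderOf g ∣ a) (hb : orderOf g ∣ b) : g = 1 := by
  have : orderOf g ∣ 1 := by
    rw [← Nat.Coprime.gcd_eq_one hab]
    exact Nat.dvd_gcd ha hb
  exact orderOf_eq_one_iff.1 (Nat.dvd_one.1 this)

section ax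

variable (h : Ax G q r)
include h

/-- elements of a Sylow `2`-subgroup have `2`-power order -/
theorem orderOf_of_mem_sylow [Finite G] {P : Sylow 2 G} {g : G} (hg : g ∈ P) :
    ∃ j, orderOf g = 2 ^ j := by
  obtain ⟨k, hk⟩ := P.isPGroup' ⟨g, hg⟩
  have hk' : g ^ 2 ^ k = 1 := by
    have := congrArg Subtype.val hk
    simpa using this
  have hd : orderOf g ∣ 2 ^ k := orderOf_dvd_of_pow_eq_one hk'
  obtain ⟨j, -, hj⟩ := (Nat.dvd_prime_pow Nat.prime_two).1 hd
  exact ⟨j, hj⟩

/-- the member of the partition containing an element of odd order -/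
theorem comp_of_order [Finite G] {x : G} (hx1 : x ≠ 1) {k : ℕ} (hk : IsK q r k)
    (hxk : orderOf x ∣ k) :
    ∃ V : Subgroup G, IsCyc q r V ∧ Nat.card V = k ∧ x ∈ V := by
  obtain ⟨V, ⟨hV, hxV⟩, -⟩ := h.part x hx1
  rcases hV with ⟨P, rfl⟩ | hV
  · exfalso
    obtain ⟨j, hj⟩ := orderOf_of_mem_sylow h hxV
    rcases Nat.eq_zero_or_pos j with rfl | hpos
    · rw [pow_zero] at hj
      exact hx1 (orderOf_eq_one_iff.1 hj)
    · apply hk.odd h.ar
      refine dvd_trans ?_ hxk
      rw [hj]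
      exact dvd_pow_self 2 (by omega)
  · refine ⟨V, hV, ?_, hxV⟩
    by_contra hne
    have hK : IsK q r (Nat.card V) := hV.2
    exact hx1 (eq_one_of_orderOf_dvd_coprime (hK.coprime h.ar hk hne)
      (orderOf_dvd_card_of_mem hxV) hxk)

/-- an element of odd order `≠ 1` dividing `k` does not normalise a Sylow `2`-subgroup, `k = q ± r + 1` -/
theorem not_mem_normalizer_sylow [Finite G] {x : G} (hx1 : x ≠ 1) {k : ℕ}
    (hk : k = q + r + 1 ∨ k = q - r + 1) (hxk : orderOf x ∣ k) (P : Sylow 2 G) :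
    x ∉ normalizer ((P : Subgroup G) : Set G) := by
  intro hx
  have h1 := orderOf_dvd_card_of_mem hx
  rw [h.card_norm_syl] at h1
  apply hx1
  apply eq_one_of_orderOf_dvd_coprime _ hxk h1
  have hK : IsK q r k := by
    rcases hk with rfl | rfl
    · exact Or.inr (Or.inl rfl)
    · exact Or.inr (Or.inr rfl)
  apply Nat.Coprime.mul_right
  · apply (hK.coprime h.ar (Or.inl rfl) _)
    have := h.ar.two_r_le
    have := h.ar.r_ge
    rcases hk with rfl | rfl <;> omega
  · apply Nat.Coprime.pow_right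
    exact h.ar.coprime_q (hK.odd h.ar)

/-- the solubilizer of an element of order dividing `q ± r + 1` -/
theorem card_sol_pm [Finite G] {x : G} (hx1 : x ≠ 1) {k : ℕ}
    (hk : k = q + r + 1 ∨ k = q - r + 1) (hxk : orderOf x ∣ k) :
    Nat.card (Sol x) = 4 * k := by
  have hK : IsK q r k := by
    rcases hk with rfl | rfl
    · exact Or.inr (Or.inl rfl)
    · exact Or.inr (Or.inr rfl)
  obtain ⟨V, hV, hVk, hxV⟩ := comp_of_order h hx1 hK hxk
  have hset : Sol x = ((normalizer (V : Set G) : Subgroup G) : Set G) := by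
    ext y
    rw [mem_sol_iff h]
    constructor
    · rintro ⟨U, hU, hxU, hyU⟩
      rcases hU with ⟨P, rfl⟩ | hU
      · exact absurd hxU (not_mem_normalizer_sylow h hx1 hk hxk P)
      · have := cyc_eq_of_mem_normalizer h hV hU hx1 hxV hxU
        rw [this]
        exact hyU
    · intro hy
      exact ⟨V, Or.inr hV, le_normalizer hxV, hy⟩
  rw [hset]
  have := h.card_norm_cyc1 V hV.1 (by rw [hVk]; exact hk)
  rw [hVk] at this
  exact this

/-- the solubilizer of an element of order dividing `q - 1` -/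
theorem card_sol_zero [Finite G] {x : G} (hx1 : x ≠ 1) (hxk : orderOf x ∣ q - 1) :
    Nat.card (Sol x) = 2 * q ^ 2 * (q - 1) := by
  have hK : IsK q r (q - 1) := Or.inl rfl
  obtain ⟨V, hV, hVk, hxV⟩ := comp_of_order h hx1 hK hxk
  obtain ⟨P1, P2, h12, hP, hV1, hV2⟩ := h.split V hV.1 hVk
  set A : Set G := ((normalizer ((P1 : Subgroup G) : Set G) : Subgroup G) : Set G) with hA
  set B : Set G := ((normalizer ((P2 : Subgroup G) : Set G) : Subgroup G) : Set G) with hB
  set C : Set G := ((normalizer (V : Set G) : Subgroup G) : Set G) with hC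
  have hAB : A ∩ B = (V : Set G) := by
    rw [hA, hB, ← Subgroup.coe_inf, h12]
  have hCA : C ∩ A = (V : Set G) := by
    rw [hA, hC, ← Subgroup.coe_inf, hV1]
  have hCB : C ∩ B = (V : Set G) := by
    rw [hB, hC, ← Subgroup.coe_inf, hV2]
  have hset : Sol x = (A ∪ B) ∪ C := by
    ext y
    rw [mem_sol_iff h]
    constructor
    · rintro ⟨U, hU, hxU, hyU⟩
      rcases hU with ⟨P, rfl⟩ | hU
      · rcases hP x hxV hx1 P hxU with rfl | rfl
        · exact Or.inl (Or.inl hyU)
        · exact Or.inl (Or.inr hyU)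
      · have := cyc_eq_of_mem_normalizer h hV hU hx1 hxV hxU
        rw [← this] at hyU
        exact Or.inr hyU
    · have hx12 : x ∈ normalizer ((P1 : Subgroup G) : Set G) ⊓
          normalizer ((P2 : Subgroup G) : Set G) := by rw [h12]; exact hxV
      rintro ((hy | hy) | hy)
      · exact ⟨P1, Or.inl ⟨P1, rfl⟩, hx12.1, hy⟩
      · exact ⟨P2, Or.inl ⟨P2, rfl⟩, hx12.2, hy⟩
      · exact ⟨V, Or.inr hV, le_normalizer hxV, hy⟩
  have cA : A.ncard = (q - 1) * q ^ 2 := by
    rw [hA, ← Nat.card_coe_set_eq]; exact h.card_norm_syl P1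
  have cB : B.ncard = (q - 1) * q ^ 2 := by
    rw [hB, ← Nat.card_coe_set_eq]; exact h.card_norm_syl P2
  have cC : C.ncard = 2 * (q - 1) := by
    rw [hC, ← Nat.card_coe_set_eq]
    have := h.card_norm_cyc0 V hV.1 hVk
    rw [hVk] at this
    exact this
  have cV : (V : Set G).ncard = q - 1 := by
    rw [← Nat.card_coe_set_eq]; exact hVk
  have e1 := Set.ncard_union_add_ncard_inter A B
  have e2 := Set.ncard_union_add_ncard_inter (A ∪ B) C
  have hint : (A ∪ B) ∩ C = (V : Set G) := by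
    rw [Set.union_inter_distrib_right, Set.inter_comm A C, Set.inter_comm B C, hCA, hCB,
      Set.union_self]
  rw [hint, cC, cV] at e2
  rw [hAB, cA, cB, cV] at e1
  rw [Nat.card_coe_set_eq, hset]
  have hq := h.ar.q_ge
  have e3 : 2 * q ^ 2 * (q - 1) = (q - 1) * q ^ 2 + (q - 1) * q ^ 2 := by ring
  rw [e3]
  omega

end ax

end Cfsg.Agent.Lib.Helper5_SzSolD
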