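import Mathlib
import Cfsg.Agent.Lib.Helper5_SzSolA

/-!
# Solubilizers in Suzuki groups (helper5), part L: abstract solvability criteria
-/

set_option autoImplicit false

namespace Cfsg.Agent.Lib.Helper5_SzSolL

open Subgroup Cfsg.Agent.Lib.Helper5_SzSolA

variable {G : Type*} [Group G]

/-- a subgroup all of whose commutators lie in a solvable subgroup is solvable -/
theorem isSolvable_of_comm_mem (H K : Subgroup G) (hK : Group.IsSolvable K)
    (h : ∀ a ∈ H, ∀ b ∈ H, a * b * a⁻¹ * b⁻¹ ∈ K) : Group.IsSolvable H := by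
  have hD : commutator H ≤ K.subgroupOf H := by
    rw [commutator_def, Subgroup.commutator_le]
    rintro ⟨a, ha⟩ - ⟨b, hb⟩ -
    rw [Subgroup.mem_subgroupOf, commutatorElement_def]
    exact h a ha b hb
  have : Group.IsSolvable (commutator H) := by
    let f : commutator H →* K :=
      { toFun := fun x => ⟨((x : H) : G), Subgroup.mem_subgroupOf.1 (hD x.2)⟩
        map_one' := rfl
        map_mul' := fun _ _ => rfl }
    have hf : Function.Injective f := by
      intro x y hxy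
      apply Subtype.ext
      apply Subtype.ext
      exact congrArg (fun z : K => (z : G)) hxy
    exact Group.isSolvable_of_isSolvable_injective hf
  have : Group.IsSolvable (H ⧸ commutator H) :=
    (inferInstance : Group.IsSolvable (Abelianization H))
  exact (Group.isSolvable_iff_subgroup_quotient (commutator H)).2 ⟨inferInstance, inferInstance⟩

/-- a normal solvable subgroup with an abelian complement (by counting) -/
theorem isSolvable_of_complement [Finite G] (N P T : Subgroup G) (hPN : P ≤ N) (hTN : T ≤ N)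
    (hnorm : ∀ n ∈ N, ∀ p ∈ P, n * p * n⁻¹ ∈ P) (hP : Group.IsSolvable P)
    (hT : ∀ a ∈ T, ∀ b ∈ T, a * b = b * a) (hPT : ∀ x ∈ P, x ∈ T → x = 1)
    (hcard : Nat.card P * Nat.card T = Nat.card N) : Group.IsSolvable N := by
  -- every element of `N` is a product
  let f : P × T → N := fun x => ⟨(x.1 : G) * (x.2 : G), N.mul_mem (hPN x.1.2) (hTN x.2.2)⟩
  have hinj : Function.Injective f := by
    rintro ⟨⟨p, hp⟩, ⟨t, ht⟩⟩ ⟨⟨p', hp'⟩, ⟨t', ht'⟩⟩ hxy
    have h1 : p * t = p' * t' := congrArg (fun z : N => (z : G)) hxy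
    have h2 : p'⁻¹ * p = t' * t⁻¹ := by
      calc p'⁻¹ * p = p'⁻¹ * (p * t) * t⁻¹ := by group
        _ = p'⁻¹ * (p' * t') * t⁻¹ := by rw [h1]
        _ = t' * t⁻¹ := by group
    have h3 : p'⁻¹ * p = 1 :=
      hPT _ (P.mul_mem (P.inv_mem hp') hp) (by rw [h2]; exact T.mul_mem ht' (T.inv_mem ht))
    have h4 : p = p' := by
      calc p = p' * (p'⁻¹ * p) := by group
        _ = p' := by rw [h3, mul_one]
    have h5 : t = t' := by
      rw [h4] at h1
      exact mul_left_cancel h1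
    subst h4
    subst h5
    rfl
  have hbij : Function.Bijective f := by
    apply hinj.bijective_of_nat_card_le
    rw [Nat.card_prod, hcard]
  have hsurj := hbij.2
  apply isSolvable_of_comm_mem N P hP
  intro a ha b hb
  obtain ⟨⟨⟨p1, hp1⟩, ⟨t1, ht1⟩⟩, h1⟩ := hsurj ⟨a, ha⟩
  obtain ⟨⟨⟨p2, hp2⟩, ⟨t2, ht2⟩⟩, h2⟩ := hsurj ⟨b, hb⟩
  have ea : a = p1 * t1 := (congrArg (fun z : N => (z : G)) h1).symm
  have eb : b = p2 * t2 := (congrArg (fun z : N => (z : G)) h2).symm
  have hc : t2 * t1⁻¹ = t1⁻¹ * t2 := by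
    have := hT t1 ht1 t2 ht2
    calc t2 * t1⁻¹ = t1⁻¹ * (t1 * t2) * t1⁻¹ := by group
      _ = t1⁻¹ * (t2 * t1) * t1⁻¹ := by rw [this]
      _ = t1⁻¹ * t2 := by group
  have e : a * b * a⁻¹ * b⁻¹ = p1 * (t1 * p2 * t1⁻¹) * (t2 * p1⁻¹ * t2⁻¹) * p2⁻¹ := by
    rw [ea, eb]
    calc p1 * t1 * (p2 * t2) * (p1 * t1)⁻¹ * (p2 * t2)⁻¹
        = p1 * t1 * p2 * (t2 * t1⁻¹) * p1⁻¹ * t2⁻¹ * p2⁻¹ := by group
      _ = p1 * t1 * p2 * (t1⁻¹ * t2) * p1⁻¹ * t2⁻¹ * p2⁻¹ := by rw [hc]
      _ = p1 * (t1 * p2 * t1⁻¹) * (t2 * p1⁻¹ * t2⁻¹) * p2⁻¹ := by group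
  rw [e]
  exact P.mul_mem (P.mul_mem (P.mul_mem hp1 (hnorm t1 (hTN ht1) p2 hp2))
    (hnorm t2 (hTN ht2) p1⁻¹ (P.inv_mem hp1))) (P.inv_mem hp2)

/-- the normaliser of an abelian subgroup of `2`-power index in it is solvable -/
theorem isSolvable_normalizer_of_two_pow [Finite G] (U : Subgroup G)
    (hU : ∀ a ∈ U, ∀ b ∈ U, a * b = b * a) {k : ℕ}
    (hc : Nat.card (normalizer (U : Set G)) = 2 ^ k * Nat.card U) :
    Group.IsSolvable (normalizer (U : Set G)) := by
  set N := normalizer (U : Set G) with hN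
  have hle : U ≤ N := le_normalizer
  have : Group.IsSolvable (U.subgroupOf N) := by
    apply Group.isSolvable_of_comm
    rintro ⟨a, ha⟩ ⟨b, hb⟩
    apply Subtype.ext
    apply Subtype.ext
    exact hU a.1 ha b.1 hb
  have hcU : Nat.card (U.subgroupOf N) = Nat.card U :=
    Nat.card_congr (Subgroup.subgroupOfEquivOfLe hle).toEquiv
  have hq : Nat.card (N ⧸ U.subgroupOf N) = 2 ^ k := by
    have h1 := Subgroup.index_mul_card (U.subgroupOf N)
    rw [hcU, hc, Subgroup.index_eq_card] at h1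
    have hpos : 0 < Nat.card U := Nat.card_pos
    exact Nat.eq_of_mul_eq_mul_right hpos h1
  haveI : Fact (Nat.Prime 2) := ⟨Nat.prime_two⟩
  have : Group.IsSolvable (N ⧸ U.subgroupOf N) := by
    have : Group.IsNilpotent (N ⧸ U.subgroupOf N) := (IsPGroup.of_card hq).isNilpotent
    infer_instance
  exact (Group.isSolvable_iff_subgroup_quotient (U.subgroupOf N)).2 ⟨inferInstance, inferInstance⟩

end Cfsg.Agent.Lib.Helper5_SzSolL
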