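import Mathlib
import Cfsg.Agent.Lib.Helper5_SzSolL
import Cfsg.Agent.Lib.Helper37_SzSubE
import Cfsg.Agent.Lib.Helper6_SzPartition
import Cfsg.Agent.S0329

/-!
# Solubilizers in Suzuki groups (helper5), part M: Sylow `2`-subgroups and points of the ovoid
-/

set_option autoImplicit false

namespace Cfsg.Agent.Lib.Helper5_SzSolM

open Subgroup Cfsg.Agent.Lib.Helper5_SzSolA
open Cfsg.Agent.Helper37Sz Cfsg.Agent.Lib.Helper6_SzCent Cfsg.Agent.Lib.Helper6_SzFixity
open Cfsg.Agent.Lib.Helper6_SzPartition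

variable {F : Type*} [Field F] [Fintype F] {m : ℕ}

/-- the stabiliser of `∞` for the two actions -/
theorem stab_ptInf_eq :
    MulAction.stabilizer (Cfsg.Sz F m) (ptInf F m)
      = MulAction.stabilizer (Cfsg.Sz F m) (Cfsg.suzukiPointInfinity F) := by
  ext g
  rw [MulAction.mem_stabilizer_iff, MulAction.mem_stabilizer_iff, smul_ptInf_eq_ptInf_iff]
  show _ ↔ (g : Matrix.SpecialLinearGroup (Fin 4) F) • Cfsg.suzukiPointInfinity F = _
  rw [smul_inf_eq_iff]

theorem card_stab_ptInf (hm : 1 ≤ m) (hF : Fintype.card F = 2 ^ (2 * m + 1)) :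
    Nat.card (MulAction.stabilizer (Cfsg.Sz F m) (ptInf F m))
      = (2 ^ (2 * m + 1)) ^ 2 * (2 ^ (2 * m + 1) - 1) := by
  rw [stab_ptInf_eq]
  exact Cfsg.Agent.S0329.result hm hF

section coords

variable {S : F →+* F}

/-- the normaliser of the standard Sylow `2`-subgroup is the stabiliser of `∞` -/
theorem normalizer_Qsub (hm : 1 ≤ m) (hF : Fintype.card F = 2 ^ (2 * m + 1)) (h2 : (2 : F) = 0)
    (hS : ∀ z, S (S z) = z ^ 2) (hSdef : ∀ z, S z = z ^ 2 ^ (m + 1)) :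
    normalizer ((Qsub h2 hS m : Subgroup (Cfsg.Sz F m)) : Set (Cfsg.Sz F m))
      = MulAction.stabilizer (Cfsg.Sz F m) (ptInf F m) := by
  have hP := Cfsg.Agent.Helper37SzSub.sylAt_Qsub hm hF h2 hS hSdef
  ext x
  rw [MulAction.mem_stabilizer_iff]
  constructor
  · intro hx
    have hu : uQ h2 hS hSdef 0 1 ∈ Qsub h2 hS m := uQ_mem_Qsub h2 hS hSdef 0 1
    have hu1 : uQ (m := m) h2 hS hSdef 0 1 ≠ 1 :=
      (Cfsg.Agent.Helper37SzSub.isInv_uQ_zero (h2 := h2) (hS := hS) (hSdef := hSdef) one_ne_zero).1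
    have h1 : x * uQ h2 hS hSdef 0 1 * x⁻¹ ∈ Qsub h2 hS m :=
      (Subgroup.mem_normalizer_iff.1 hx _).1 hu
    have h2' : x * uQ h2 hS hSdef 0 1 * x⁻¹ ≠ 1 := by
      intro h
      apply hu1
      have e : uQ (m := m) h2 hS hSdef 0 1 = x⁻¹ * (x * uQ h2 hS hSdef 0 1 * x⁻¹) * x := by group
      rw [e, h]; group
    apply hP.fix_only _ h1 h2'
    exact Cfsg.Agent.Helper37SzSub.fix_conj (hP.fix _ hu)
  · intro hx
    rw [Subgroup.mem_normalizer_iff]
    intro h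
    constructor
    · intro hh
      exact conj_mem_Qsub hm hF h2 hS hSdef hx hh
    · intro hh
      have hx' : x⁻¹ • ptInf F m = ptInf F m := by
        rw [inv_smul_eq_iff, hx]
      have := conj_mem_Qsub hm hF h2 hS hSdef hx' hh
      have e : x⁻¹ * (x * h * x⁻¹) * x⁻¹⁻¹ = h := by group
      rwa [e] at this

/-- every Sylow `2`-subgroup is a conjugate of the standard one -/
theorem sylow_eq_cj (hm : 1 ≤ m) (hF : Fintype.card F = 2 ^ (2 * m + 1)) (h2 : (2 : F) = 0)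
    (hS : ∀ z, S (S z) = z ^ 2) (hSdef : ∀ z, S z = z ^ 2 ^ (m + 1))
    (P : Sylow 2 (Cfsg.Sz F m)) :
    ∃ k : Cfsg.Sz F m, (P : Subgroup (Cfsg.Sz F m)) = cj k (Qsub h2 hS m) := by
  obtain ⟨k, hk⟩ := sylow_mem_iff hm hF h2 hS hSdef P
  refine ⟨k, ?_⟩
  ext x
  rw [mem_cj]
  constructor
  · intro hx
    obtain ⟨a, b, rfl⟩ := (hk x).1 hx
    have e : k⁻¹ * (k * uQ h2 hS hSdef a b * k⁻¹) * k = uQ h2 hS hSdef a b := by group
    rw [e]
    exact uQ_mem_Qsub h2 hS hSdef a b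
  · intro hx
    obtain ⟨a, b, hab⟩ := exists_of_mem_Qsub h2 hS hSdef hx
    apply (hk x).2
    refine ⟨a, b, ?_⟩
    rw [← hab]; group

end coords

/-- conjugating a point stabiliser -/
theorem cj_stabilizer (k : Cfsg.Sz F m) (a : Cfsg.suzukiOvoid F m) :
    cj k (MulAction.stabilizer (Cfsg.Sz F m) a) = MulAction.stabilizer (Cfsg.Sz F m) (k • a) :=
  (MulAction.stabilizer_smul_eq_stabilizer_map_conj k a).symm

/-- the normaliser of a Sylow `2`-subgroup is a point stabiliser; the point is the only fixed point of each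
non-identity element of the Sylow subgroup -/
theorem exists_pt_of_sylow (hm : 1 ≤ m) (hF : Fintype.card F = 2 ^ (2 * m + 1))
    (P : Sylow 2 (Cfsg.Sz F m)) :
    ∃ a : Cfsg.suzukiOvoid F m,
      normalizer ((P : Subgroup (Cfsg.Sz F m)) : Set (Cfsg.Sz F m))
        = MulAction.stabilizer (Cfsg.Sz F m) a ∧
      (∀ x ∈ P, x • a = a) ∧
      ∀ x ∈ P, x ≠ 1 → ∀ b : Cfsg.suzukiOvoid F m, x • b = b → b = a := by
  have h2 : (2 : F) = 0 := two_eq_zero_of_card hF
  have hSdef : ∀ z, (sgHom F m h2) z = z ^ 2 ^ (m + 1) := fun z => sgHom_apply m h2 z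
  have hS : ∀ z, (sgHom F m h2) ((sgHom F m h2) z) = z ^ 2 := fun z => sgHom_sgHom hF h2 z
  have hP := Cfsg.Agent.Helper37SzSub.sylAt_Qsub hm hF h2 hS hSdef
  obtain ⟨k, hk⟩ := sylow_eq_cj hm hF h2 hS hSdef P
  refine ⟨k • ptInf F m, ?_, ?_, ?_⟩
  · rw [hk, normalizer_cj, normalizer_Qsub hm hF h2 hS hSdef, cj_stabilizer]
  · intro x hx
    have hx' : x ∈ (P : Subgroup (Cfsg.Sz F m)) := hx
    rw [hk, mem_cj] at hx'
    have := hP.fix _ hx'
    rw [mul_smul, mul_smul, inv_smul_eq_iff] at this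
    exact this
  · intro x hx hx1 b hb
    have hx' : x ∈ (P : Subgroup (Cfsg.Sz F m)) := hx
    rw [hk, mem_cj] at hx'
    have h1 : k⁻¹ * x * k ≠ 1 := by
      intro h
      apply hx1
      have e : x = k * (k⁻¹ * x * k) * k⁻¹ := by group
      rw [e, h]; group
    have h3 : (k⁻¹ * x * k) • (k⁻¹ • b) = k⁻¹ • b := by
      rw [mul_smul, mul_smul, smul_inv_smul, hb]
    have := hP.fix_only _ hx' h1 _ h3
    rw [← this, smul_inv_smul]

/-- every point stabiliser is the normaliser of a Sylow `2`-subgroup -/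
theorem exists_sylow_at (hm : 1 ≤ m) (hF : Fintype.card F = 2 ^ (2 * m + 1))
    (a : Cfsg.suzukiOvoid F m) :
    ∃ P : Sylow 2 (Cfsg.Sz F m),
      normalizer ((P : Subgroup (Cfsg.Sz F m)) : Set (Cfsg.Sz F m))
        = MulAction.stabilizer (Cfsg.Sz F m) a := by
  have h2 : (2 : F) = 0 := two_eq_zero_of_card hF
  have hSdef : ∀ z, (sgHom F m h2) z = z ^ 2 ^ (m + 1) := fun z => sgHom_apply m h2 z
  have hS : ∀ z, (sgHom F m h2) ((sgHom F m h2) z) = z ^ 2 := fun z => sgHom_sgHom hF h2 z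
  obtain ⟨Q0, hQ0⟩ := Cfsg.Agent.Helper37SzSub.exists_sylow_Qsub hm hF h2 hS hSdef
  obtain ⟨k, hk⟩ := ovoid_transitive h2 hS hSdef (ptInf F m) a
  refine ⟨k • Q0, ?_⟩
  have e1 : ((k • Q0 : Sylow 2 (Cfsg.Sz F m)) : Subgroup (Cfsg.Sz F m))
      = cj k (Q0 : Subgroup (Cfsg.Sz F m)) := by
    rw [Sylow.coe_subgroup_smul]
    rfl
  rw [e1, hQ0, normalizer_cj, normalizer_Qsub hm hF h2 hS hSdef, cj_stabilizer, hk]

/-- a Sylow `2`-subgroup is determined by its normaliser -/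
theorem sylow_eq_of_normalizer_eq {G : Type*} [Group G] {P P' : Sylow 2 G}
    (h : normalizer ((P : Subgroup G) : Set G) = normalizer ((P' : Subgroup G) : Set G)) :
    P = P' := by
  have h1 : (P : Subgroup G) ≤ normalizer ((P' : Subgroup G) : Set G) := by
    rw [← h]; exact le_normalizer
  have h2 : (P : Subgroup G) ⊓ normalizer ((P' : Subgroup G) : Set G)
      = (P : Subgroup G) ⊓ (P' : Subgroup G) := P.isPGroup'.inf_normalizer_sylow P'
  have h3 : (P : Subgroup G) ≤ (P' : Subgroup G) := by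
    rw [inf_eq_left.2 h1] at h2
    rw [h2]
    exact inf_le_right
  exact Sylow.ext (P.is_maximal' P'.isPGroup' h3).symm

/-- the order of the normaliser of a Sylow `2`-subgroup -/
theorem card_normalizer_sylow (hm : 1 ≤ m) (hF : Fintype.card F = 2 ^ (2 * m + 1))
    (P : Sylow 2 (Cfsg.Sz F m)) :
    Nat.card (normalizer ((P : Subgroup (Cfsg.Sz F m)) : Set (Cfsg.Sz F m)))
      = (2 ^ (2 * m + 1) - 1) * (2 ^ (2 * m + 1)) ^ 2 := by
  have h2 : (2 : F) = 0 := two_eq_zero_of_card hF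
  have hSdef : ∀ z, (sgHom F m h2) z = z ^ 2 ^ (m + 1) := fun z => sgHom_apply m h2 z
  have hS : ∀ z, (sgHom F m h2) ((sgHom F m h2) z) = z ^ 2 := fun z => sgHom_sgHom hF h2 z
  obtain ⟨k, hk⟩ := sylow_eq_cj hm hF h2 hS hSdef P
  rw [hk, normalizer_cj, card_cj, normalizer_Qsub hm hF h2 hS hSdef, card_stab_ptInf hm hF, mul_comm]

end Cfsg.Agent.Lib.Helper5_SzSolM
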