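import Mathlib
import Cfsg.Agent.Lib.Helper5_SzSolB
import Cfsg.Agent.Lib.Helper5_SzSolM
import Cfsg.Agent.Lib.Helper6_SzToriClass
import Cfsg.Agent.S2238
import Cfsg.Agent.S2251

/-!
# Solubilizers in Suzuki groups (helper5), part N: the partition, the maximal subgroups and the tori of `Sz(q)`
-/

set_option autoImplicit false

namespace Cfsg.Agent.Lib.Helper5_SzSolN

open Subgroup Cfsg.Agent.Lib.Helper5_SzSolA Cfsg.Agent.Lib.Helper5_SzSolB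
open Cfsg.Agent.Lib.Helper5_SzSolM
open Cfsg.Agent.Helper37Sz Cfsg.Agent.Lib.Helper6_SzCent Cfsg.Agent.Lib.Helper6_SzFixity
open Cfsg.Agent.Lib.Helper6_SzPartition Cfsg.Agent.Lib.Helper6_SzTori
open Cfsg.Agent.Lib.Helper6_SzToriClass Cfsg.Agent.Lib.Helper6_SzToriCount

variable {F : Type*} [Field F] [Fintype F] {m : ℕ}

theorem ar_sz (hm : 1 ≤ m) : Ar (2 ^ (2 * m + 1)) (2 ^ (m + 1)) where
  q_ge := two_le_q hm
  r_sq := by
    rw [← pow_add, ← pow_succ']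
    congr 1
    omega
  two_pow := ⟨2 * m + 1, rfl⟩

theorem r_ge (hm : 1 ≤ m) : 4 ≤ 2 ^ (m + 1) := (ar_sz hm).r_ge

theorem two_r_le (hm : 1 ≤ m) : 2 * 2 ^ (m + 1) ≤ 2 ^ (2 * m + 1) := (ar_sz hm).two_r_le

/-- the partition -/
theorem part_sz (hm : 1 ≤ m) (hF : Fintype.card F = 2 ^ (2 * m + 1)) (g : Cfsg.Sz F m)
    (hg : g ≠ 1) :
    ∃! U : Subgroup (Cfsg.Sz F m), IsComp (2 ^ (2 * m + 1)) (2 ^ (m + 1)) U ∧ g ∈ U :=
  Cfsg.Agent.S2238.result hm hF g hg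

/-- the maximal subgroups, when `2m+1` is prime -/
theorem maxi_sz (hm : 1 ≤ m) (hp : (2 * m + 1).Prime) (hF : Fintype.card F = 2 ^ (2 * m + 1))
    (M : Subgroup (Cfsg.Sz F m)) (hM : M ≠ ⊤) :
    ∃ U : Subgroup (Cfsg.Sz F m), IsComp (2 ^ (2 * m + 1)) (2 ^ (m + 1)) U ∧
      M ≤ normalizer (U : Set (Cfsg.Sz F m)) := by
  rcases Cfsg.Agent.S2251.result hm hF M hM with ⟨P, hP⟩ | ⟨U, hUc, hUn, hU⟩ |
    ⟨K, _, _, k, hk1, hkm, -, hdvd, -⟩
  · exact ⟨P, Or.inl ⟨P, rfl⟩, hP⟩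
  · exact ⟨U, Or.inr ⟨hUc, hUn⟩, hU⟩
  · exfalso
    rcases (Nat.dvd_prime hp).1 hdvd with h | h <;> omega

/-- a cyclic subgroup of one of the three orders is the centraliser of each of its non-identity elements -/
theorem cyc_eq_centralizer (hm : 1 ≤ m) (hF : Fintype.card F = 2 ^ (2 * m + 1))
    {U : Subgroup (Cfsg.Sz F m)} (hU : IsCyc (2 ^ (2 * m + 1)) (2 ^ (m + 1)) U)
    {t : Cfsg.Sz F m} (ht : t ∈ U) (ht1 : t ≠ 1) :
    U = centralizer ({t} : Set (Cfsg.Sz F m)) := by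
  have hodd : ¬ 2 ∣ orderOf t := by
    intro h
    have h1 : orderOf t ∣ Nat.card U := by
      have := orderOf_dvd_natCard (⟨t, ht⟩ : U)
      rwa [← Subgroup.orderOf_coe] at this
    have h2 : 2 ∣ Nat.card U := h.trans h1
    obtain ⟨-, h3 | h3 | h3⟩ := hU <;> rw [h3] at h2
    · exact (ar_sz hm).odd0 h2
    · exact (ar_sz hm).odd1 h2
    · exact (ar_sz hm).odd2 h2
  obtain ⟨hc, hn, -⟩ := Cfsg.Agent.Helper37SzSub.odd_selfCent hm hF ht1 hodd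
  obtain ⟨V, -, hV⟩ := part_sz hm hF t ht1
  rw [hV U ⟨Or.inr hU, ht⟩,
    hV (centralizer ({t} : Set (Cfsg.Sz F m))) ⟨Or.inr ⟨hc, hn⟩, mem_centralizer_singleton_iff.2 rfl⟩]

theorem cent_cyc_sz (hm : 1 ≤ m) (hF : Fintype.card F = 2 ^ (2 * m + 1))
    (U : Subgroup (Cfsg.Sz F m)) (hU : IsCyc (2 ^ (2 * m + 1)) (2 ^ (m + 1)) U)
    (u : Cfsg.Sz F m) (hu : u ∈ U) (hu1 : u ≠ 1) (c : Cfsg.Sz F m) (hc : c * u = u * c) : c ∈ U := by
  rw [cyc_eq_centralizer hm hF hU hu hu1, mem_centralizer_singleton_iff]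
  exact hc

/-- a non-identity element of a cyclic member -/
theorem exists_ne_one (hm : 1 ≤ m) {G : Type*} [Group G] {U : Subgroup G}
    (hU : IsCyc (2 ^ (2 * m + 1)) (2 ^ (m + 1)) U) : ∃ u ∈ U, u ≠ 1 := by
  have h1 : 1 < Nat.card U := by
    have h8 := two_le_q hm
    have h4 := two_r_le hm
    obtain ⟨-, h3 | h3 | h3⟩ := hU <;> rw [h3] <;> omega
  have : Finite U := Nat.finite_of_card_ne_zero (by omega)
  have : Nontrivial U := Finite.one_lt_card_iff_nontrivial.1 h1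
  obtain ⟨u, hu⟩ := exists_ne (1 : U)
  exact ⟨u, u.2, fun h => hu (Subtype.ext h)⟩

/-- the cyclic subgroups of order `q - 1` are the two-point stabilisers -/
theorem exists_twoPt_of_cyc0 (hm : 1 ≤ m) (hF : Fintype.card F = 2 ^ (2 * m + 1))
    {U : Subgroup (Cfsg.Sz F m)} (hUc : IsCyclic U) (hUn : Nat.card U = 2 ^ (2 * m + 1) - 1) :
    ∃ a b : Cfsg.suzukiOvoid F m, a ≠ b ∧ U = twoPt a b := by
  have hU : IsCyc (2 ^ (2 * m + 1)) (2 ^ (m + 1)) U := ⟨hUc, Or.inl hUn⟩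
  obtain ⟨u, hu, hu1⟩ := exists_ne_one hm hU
  have hodd : ¬ 2 ∣ orderOf u := by
    intro h
    have h1 : orderOf u ∣ Nat.card U := by
      have := orderOf_dvd_natCard (⟨u, hu⟩ : U)
      rwa [← Subgroup.orderOf_coe] at this
    rw [hUn] at h1
    exact (ar_sz hm).odd0 (h.trans h1)
  obtain ⟨V, -, hV⟩ := part_sz hm hF u hu1
  by_cases hf : Fpf u
  · exfalso
    have hc := isCyclic_centralizer_of_no_fixed hm hF hf
    have hcard := card_torus_cases hm hF hf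
    have e : U = torus u := by
      rw [hV U ⟨Or.inr hU, hu⟩, hV (torus u) ⟨Or.inr ⟨hc, Or.inr hcard⟩, self_mem_torus u⟩]
    rw [← e, hUn] at hcard
    have h8 := two_le_q hm
    have h4 := two_r_le hm
    have h3 := r_ge hm
    omega
  · unfold Fpf at hf
    push Not at hf
    obtain ⟨a, ha⟩ := hf
    obtain ⟨b, hab, huT⟩ := Cfsg.Agent.Helper37SzSub.exists_twoPt_of_odd hm hF hu1 hodd ha
    refine ⟨a, b, hab, ?_⟩
    rw [hV U ⟨Or.inr hU, hu⟩,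
      hV (twoPt a b) ⟨Or.inr ⟨isCyclic_twoPt hm hF hab, Or.inl (card_twoPt hm hF hab)⟩, huT⟩]

theorem isCyc_twoPt (hm : 1 ≤ m) (hF : Fintype.card F = 2 ^ (2 * m + 1))
    {a b : Cfsg.suzukiOvoid F m} (hab : a ≠ b) :
    IsCyc (2 ^ (2 * m + 1)) (2 ^ (m + 1)) (twoPt a b) :=
  ⟨isCyclic_twoPt hm hF hab, Or.inl (card_twoPt hm hF hab)⟩

theorem isCyc_torus (hm : 1 ≤ m) (hF : Fintype.card F = 2 ^ (2 * m + 1)) {u : Cfsg.Sz F m}
    (hf : Fpf u) : IsCyc (2 ^ (2 * m + 1)) (2 ^ (m + 1)) (torus u) :=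
  ⟨isCyclic_centralizer_of_no_fixed hm hF hf, Or.inr (card_torus_cases hm hF hf)⟩

/-- the cyclic subgroups of order `q ± r + 1` are the tori of fixed-point-free elements -/
theorem exists_torus_of_cyc1 (hm : 1 ≤ m) (hF : Fintype.card F = 2 ^ (2 * m + 1))
    {U : Subgroup (Cfsg.Sz F m)} (hUc : IsCyclic U)
    (hUn : Nat.card U = 2 ^ (2 * m + 1) + 2 ^ (m + 1) + 1 ∨
      Nat.card U = 2 ^ (2 * m + 1) - 2 ^ (m + 1) + 1) :
    ∃ u : Cfsg.Sz F m, Fpf u ∧ U = torus u := by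
  have hU : IsCyc (2 ^ (2 * m + 1)) (2 ^ (m + 1)) U := ⟨hUc, Or.inr hUn⟩
  obtain ⟨u, hu, hu1⟩ := exists_ne_one hm hU
  have hodd : ¬ 2 ∣ orderOf u := by
    intro h
    have h1 : orderOf u ∣ Nat.card U := by
      have := orderOf_dvd_natCard (⟨u, hu⟩ : U)
      rwa [← Subgroup.orderOf_coe] at this
    rcases hUn with h3 | h3 <;> rw [h3] at h1
    · exact (ar_sz hm).odd1 (h.trans h1)
    · exact (ar_sz hm).odd2 (h.trans h1)
  obtain ⟨V, -, hV⟩ := part_sz hm hF u hu1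
  by_cases hf : Fpf u
  · refine ⟨u, hf, ?_⟩
    rw [hV U ⟨Or.inr hU, hu⟩, hV (torus u) ⟨Or.inr (isCyc_torus hm hF hf), self_mem_torus u⟩]
  · exfalso
    unfold Fpf at hf
    push Not at hf
    obtain ⟨a, ha⟩ := hf
    obtain ⟨b, hab, huT⟩ := Cfsg.Agent.Helper37SzSub.exists_twoPt_of_odd hm hF hu1 hodd ha
    have e : U = twoPt a b := by
      rw [hV U ⟨Or.inr hU, hu⟩, hV (twoPt a b) ⟨Or.inr (isCyc_twoPt hm hF hab), huT⟩]
    rw [e, card_twoPt hm hF hab] at hUn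
    have h8 := two_le_q hm
    have h4 := two_r_le hm
    have h3 := r_ge hm
    omega

end Cfsg.Agent.Lib.Helper5_SzSolN
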