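import Mathlib
import Cfsg.Agent.Lib.Helper5_SzSolN

/-!
# Solubilizers in Suzuki groups (helper5), part O: conjugacy and normalisers of the tori of `Sz(q)`
-/

set_option autoImplicit false

namespace Cfsg.Agent.Lib.Helper5_SzSolO

open Subgroup Cfsg.Agent.Lib.Helper5_SzSolA Cfsg.Agent.Lib.Helper5_SzSolB
open Cfsg.Agent.Lib.Helper5_SzSolM Cfsg.Agent.Lib.Helper5_SzSolN
open Cfsg.Agent.Helper37Sz Cfsg.Agent.Lib.Helper6_SzCent Cfsg.Agent.Lib.Helper6_SzFixity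
open Cfsg.Agent.Lib.Helper6_SzPartition Cfsg.Agent.Lib.Helper6_SzTori
open Cfsg.Agent.Lib.Helper6_SzToriClass Cfsg.Agent.Lib.Helper6_SzToriCount

variable {F : Type*} [Field F] [Fintype F] {m : ℕ}

/-! ### the exceptional tori -/

/-- the torus of an element of `Y(g)` is a conjugate of the torus of `g` -/
theorem torus_eq_cj_of_inY (hm : 1 ≤ m) (hF : Fintype.card F = 2 ^ (2 * m + 1))
    {g x : Cfsg.Sz F m} (hg : Fpf g) (hx : InY g x) :
    ∃ k : Cfsg.Sz F m, torus x = cj k (torus g) := by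
  obtain ⟨hx1, k, hk⟩ := hx
  have ht1 : k⁻¹ * x * k ≠ 1 := by
    intro h
    apply hx1
    have e : x = k * (k⁻¹ * x * k) * k⁻¹ := by group
    rw [e, h]; group
  have hte := torus_eq hm hF hg hk ht1
  refine ⟨k, ?_⟩
  have e : x = k * (k⁻¹ * x * k) * k⁻¹ := by group
  rw [← hte]
  conv_lhs => rw [e]
  exact centralizer_conj k (k⁻¹ * x * k)

/-- the two representatives -/
theorem exists_reps (hm : 1 ≤ m) (hF : Fintype.card F = 2 ^ (2 * m + 1)) :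
    ∃ g₁ g₂ : Cfsg.Sz F m, Fpf g₁ ∧ Fpf g₂ ∧
      Nat.card (torus g₁) = 2 ^ (2 * m + 1) + 2 ^ (m + 1) + 1 ∧
      Nat.card (torus g₂) = 2 ^ (2 * m + 1) - 2 ^ (m + 1) + 1 ∧
      Nat.card (normalizer (torus g₁ : Set (Cfsg.Sz F m))) = 4 * Nat.card (torus g₁) ∧
      Nat.card (normalizer (torus g₂ : Set (Cfsg.Sz F m))) = 4 * Nat.card (torus g₂) ∧
      ∀ x : Cfsg.Sz F m, Fpf x →
        (Nat.card (torus x) = Nat.card (torus g₁) ∧ ∃ k, torus x = cj k (torus g₁)) ∨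
        (Nat.card (torus x) = Nat.card (torus g₂) ∧ ∃ k, torus x = cj k (torus g₂)) := by
  obtain ⟨g₁, g₂, hg₁, hg₂, e1, e2, n1, n2, hall⟩ := tori_classification hm hF
  refine ⟨g₁, g₂, hg₁, hg₂, e1, e2, n1, n2, ?_⟩
  intro x hx
  rcases hall x hx with h | h
  · left
    exact ⟨(h.fpf hm hF hg₁).2, torus_eq_cj_of_inY hm hF hg₁ h⟩
  · right
    exact ⟨(h.fpf hm hF hg₂).2, torus_eq_cj_of_inY hm hF hg₂ h⟩

theorem card_ne (hm : 1 ≤ m) :
    2 ^ (2 * m + 1) + 2 ^ (m + 1) + 1 ≠ 2 ^ (2 * m + 1) - 2 ^ (m + 1) + 1 := by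
  have h4 := two_r_le hm
  have h3 := r_ge hm
  omega

/-- the normaliser of an exceptional torus -/
theorem card_norm_cyc1_sz (hm : 1 ≤ m) (hF : Fintype.card F = 2 ^ (2 * m + 1))
    (U : Subgroup (Cfsg.Sz F m)) (hUc : IsCyclic U)
    (hUn : Nat.card U = 2 ^ (2 * m + 1) + 2 ^ (m + 1) + 1 ∨
      Nat.card U = 2 ^ (2 * m + 1) - 2 ^ (m + 1) + 1) :
    Nat.card (normalizer (U : Set (Cfsg.Sz F m))) = 4 * Nat.card U := by
  obtain ⟨u, hf, rfl⟩ := exists_torus_of_cyc1 hm hF hUc hUn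
  obtain ⟨g₁, g₂, hg₁, hg₂, e1, e2, n1, n2, hall⟩ := exists_reps hm hF
  rcases hall u hf with ⟨hc, k, hk⟩ | ⟨hc, k, hk⟩
  · rw [hc, hk, normalizer_cj, card_cj, n1]
  · rw [hc, hk, normalizer_cj, card_cj, n2]

/-- exceptional tori of the same order are conjugate -/
theorem conj_cyc1_sz (hm : 1 ≤ m) (hF : Fintype.card F = 2 ^ (2 * m + 1))
    {u u' : Cfsg.Sz F m} (hf : Fpf u) (hf' : Fpf u')
    (hcard : Nat.card (torus u) = Nat.card (torus u')) :
    ∃ g : Cfsg.Sz F m, torus u' = cj g (torus u) := by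
  obtain ⟨g₁, g₂, hg₁, hg₂, e1, e2, n1, n2, hall⟩ := exists_reps hm hF
  have key : ∀ g₀ k k', torus u = cj k (torus g₀) → torus u' = cj k' (torus g₀) →
      ∃ g : Cfsg.Sz F m, torus u' = cj g (torus u) := by
    intro g₀ k k' hk hk'
    refine ⟨k' * k⁻¹, ?_⟩
    rw [hk', hk, cj_mul, cj_inv_cj]
  rcases hall u hf with ⟨hc, k, hk⟩ | ⟨hc, k, hk⟩ <;>
    rcases hall u' hf' with ⟨hc', k', hk'⟩ | ⟨hc', k', hk'⟩
  · exact key g₁ k k' hk hk'
  · exfalso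
    rw [hc, hc', e1, e2] at hcard
    exact card_ne hm hcard
  · exfalso
    rw [hc, hc', e1, e2] at hcard
    exact card_ne hm hcard.symm
  · exact key g₂ k k' hk hk'

/-! ### the split tori -/

/-- conjugating a two-point stabiliser -/
theorem cj_twoPt (g : Cfsg.Sz F m) (a b : Cfsg.suzukiOvoid F m) :
    cj g (twoPt a b) = twoPt (g • a) (g • b) := by
  ext y
  rw [mem_cj, mem_twoPt, mem_twoPt, mul_smul, mul_smul, mul_smul, mul_smul, inv_smul_eq_iff,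
    inv_smul_eq_iff]

theorem twoPt_comm (a b : Cfsg.suzukiOvoid F m) :
    (twoPt a b : Subgroup (Cfsg.Sz F m)) = twoPt b a := inf_comm _ _

/-- `2`-transitivity -/
theorem exists_smul_smul (hF : Fintype.card F = 2 ^ (2 * m + 1))
    {a b a' b' : Cfsg.suzukiOvoid F m} (hab : a ≠ b) (hab' : a' ≠ b') :
    ∃ g : Cfsg.Sz F m, g • a = a' ∧ g • b = b' := by
  have h2 : (2 : F) = 0 := two_eq_zero_of_card hF
  have hSdef : ∀ z, (sgHom F m h2) z = z ^ 2 ^ (m + 1) := fun z => sgHom_apply m h2 z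
  have hS : ∀ z, (sgHom F m h2) ((sgHom F m h2) z) = z ^ 2 := fun z => sgHom_sgHom hF h2 z
  obtain ⟨k, hka, hkb⟩ := exists_smul_pair h2 hS hSdef hab
  obtain ⟨k', hka', hkb'⟩ := exists_smul_pair h2 hS hSdef hab'
  refine ⟨k'⁻¹ * k, ?_, ?_⟩
  · rw [mul_smul, hka, ← hka', inv_smul_smul]
  · rw [mul_smul, hkb, ← hkb', inv_smul_smul]

/-- split tori are conjugate -/
theorem conj_cyc0_sz (hF : Fintype.card F = 2 ^ (2 * m + 1))
    {a b a' b' : Cfsg.suzukiOvoid F m} (hab : a ≠ b) (hab' : a' ≠ b') :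
    ∃ g : Cfsg.Sz F m, (twoPt a' b' : Subgroup (Cfsg.Sz F m)) = cj g (twoPt a b) := by
  obtain ⟨g, hga, hgb⟩ := exists_smul_smul hF hab hab'
  exact ⟨g, by rw [cj_twoPt, hga, hgb]⟩

/-- the fixed points of a non-identity element of a two-point stabiliser -/
theorem fixed_of_mem_twoPt (hm : 1 ≤ m) (hF : Fintype.card F = 2 ^ (2 * m + 1))
    {a b : Cfsg.suzukiOvoid F m} (hab : a ≠ b) {u : Cfsg.Sz F m} (hu : u ∈ twoPt a b)
    (hu1 : u ≠ 1) {c : Cfsg.suzukiOvoid F m} (hc : u • c = c) : c = a ∨ c = b := by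
  have h2 : (2 : F) = 0 := two_eq_zero_of_card hF
  have hSdef : ∀ z, (sgHom F m h2) z = z ^ 2 ^ (m + 1) := fun z => sgHom_apply m h2 z
  have hS : ∀ z, (sgHom F m h2) ((sgHom F m h2) z) = z ^ 2 := fun z => sgHom_sgHom hF h2 z
  rw [mem_twoPt] at hu
  by_contra hcon
  push Not at hcon
  exact hu1 (three_pt_trivial hm hF h2 hS hSdef u hab (fun h => hcon.2 h.symm)
    (fun h => hcon.1 h.symm) hu.1 hu.2 hc)

/-- the normaliser of a two-point stabiliser is the stabiliser of the pair -/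
theorem mem_normalizer_twoPt (hm : 1 ≤ m) (hF : Fintype.card F = 2 ^ (2 * m + 1))
    {a b : Cfsg.suzukiOvoid F m} (hab : a ≠ b) {g : Cfsg.Sz F m} :
    g ∈ normalizer ((twoPt a b : Subgroup (Cfsg.Sz F m)) : Set (Cfsg.Sz F m)) ↔
      (g • a = a ∧ g • b = b) ∨ (g • a = b ∧ g • b = a) := by
  rw [← cj_eq_self_iff, cj_twoPt]
  constructor
  · intro h
    obtain ⟨u, hu, hu1⟩ := exists_ne_one hm (isCyc_twoPt hm hF hab)
    have hu' : u ∈ twoPt (g • a) (g • b) := by rw [h]; exact hu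
    rw [mem_twoPt] at hu'
    have h1 := fixed_of_mem_twoPt hm hF hab hu hu1 hu'.1
    have h2 := fixed_of_mem_twoPt hm hF hab hu hu1 hu'.2
    have hne : g • a ≠ g • b := fun h => hab (smul_left_cancel g h)
    rcases h1 with h1 | h1 <;> rcases h2 with h2 | h2
    · exact absurd (h1.trans h2.symm) hne
    · exact Or.inl ⟨h1, h2⟩
    · exact Or.inr ⟨h1, h2⟩
    · exact absurd (h1.trans h2.symm) hne
  · rintro (⟨h1, h2⟩ | ⟨h1, h2⟩)
    · rw [h1, h2]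
    · rw [h1, h2, twoPt_comm]

/-- the order of the normaliser of a split torus -/
theorem card_normalizer_twoPt (hm : 1 ≤ m) (hF : Fintype.card F = 2 ^ (2 * m + 1))
    {a b : Cfsg.suzukiOvoid F m} (hab : a ≠ b) :
    Nat.card (normalizer ((twoPt a b : Subgroup (Cfsg.Sz F m)) : Set (Cfsg.Sz F m)))
      = 2 * Nat.card (twoPt a b : Subgroup (Cfsg.Sz F m)) := by
  set T : Subgroup (Cfsg.Sz F m) := twoPt a b with hT
  set N := normalizer (T : Set (Cfsg.Sz F m)) with hN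
  have hle : T ≤ N := le_normalizer
  obtain ⟨s, hsa, hsb⟩ := exists_smul_smul hF hab (Ne.symm hab)
  have hsN : s ∈ N := (mem_normalizer_twoPt hm hF hab).2 (Or.inr ⟨hsa, hsb⟩)
  have hidx : (T.subgroupOf N).index = 2 := by
    rw [Subgroup.index_eq_two_iff]
    refine ⟨⟨s, hsN⟩, ?_⟩
    rintro ⟨g, hg⟩
    rw [Subgroup.mem_subgroupOf, Subgroup.mem_subgroupOf]
    show Xor (g * s ∈ T) (g ∈ T)
    rw [hT, mem_twoPt, mem_twoPt, mul_smul, mul_smul, hsa, hsb]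
    rcases (mem_normalizer_twoPt hm hF hab).1 hg with ⟨h1, h2⟩ | ⟨h1, h2⟩
    · right
      refine ⟨⟨h1, h2⟩, ?_⟩
      rintro ⟨h3, -⟩
      exact hab (h3.symm.trans h2)
    · left
      refine ⟨⟨h2, h1⟩, ?_⟩
      rintro ⟨h3, -⟩
      exact hab (h3.symm.trans h1)
  have hcT : Nat.card (T.subgroupOf N) = Nat.card T :=
    Nat.card_congr (Subgroup.subgroupOfEquivOfLe hle).toEquiv
  have := Subgroup.index_mul_card (T.subgroupOf N)
  rw [hidx, hcT] at this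
  exact this.symm

theorem card_norm_cyc0_sz (hm : 1 ≤ m) (hF : Fintype.card F = 2 ^ (2 * m + 1))
    (U : Subgroup (Cfsg.Sz F m)) (hUc : IsCyclic U) (hUn : Nat.card U = 2 ^ (2 * m + 1) - 1) :
    Nat.card (normalizer (U : Set (Cfsg.Sz F m))) = 2 * Nat.card U := by
  obtain ⟨a, b, hab, rfl⟩ := exists_twoPt_of_cyc0 hm hF hUc hUn
  exact card_normalizer_twoPt hm hF hab

/-- cyclic members of the same order are conjugate -/
theorem conj_cyc_sz (hm : 1 ≤ m) (hF : Fintype.card F = 2 ^ (2 * m + 1))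
    (U U' : Subgroup (Cfsg.Sz F m)) (hU : IsCyc (2 ^ (2 * m + 1)) (2 ^ (m + 1)) U)
    (hU' : IsCyc (2 ^ (2 * m + 1)) (2 ^ (m + 1)) U') (hcard : Nat.card U = Nat.card U') :
    ∃ g : Cfsg.Sz F m, U' = cj g U := by
  have h8 := two_le_q hm
  have h4 := two_r_le hm
  have h3 := r_ge hm
  obtain ⟨hUc, hUn⟩ := hU
  obtain ⟨hUc', hUn'⟩ := hU'
  rcases hUn with h | h
  · have h' : Nat.card U' = 2 ^ (2 * m + 1) - 1 := by
      rw [← hcard, h]
    obtain ⟨a, b, hab, rfl⟩ := exists_twoPt_of_cyc0 hm hF hUc h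
    obtain ⟨a', b', hab', rfl⟩ := exists_twoPt_of_cyc0 hm hF hUc' h'
    exact conj_cyc0_sz hF hab hab'
  · have h' : Nat.card U' = 2 ^ (2 * m + 1) + 2 ^ (m + 1) + 1 ∨
        Nat.card U' = 2 ^ (2 * m + 1) - 2 ^ (m + 1) + 1 := by
      rcases hUn' with h' | h'
      · exfalso
        rw [hcard, h'] at h
        omega
      · exact h'
    obtain ⟨u, hf, rfl⟩ := exists_torus_of_cyc1 hm hF hUc h
    obtain ⟨u', hf', rfl⟩ := exists_torus_of_cyc1 hm hF hUc' h'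
    exact conj_cyc1_sz hm hF hf hf' hcard

/-- existence of the three kinds of tori -/
theorem exists_cyc_sz (hm : 1 ≤ m) (hF : Fintype.card F = 2 ^ (2 * m + 1)) (k : ℕ)
    (hk : k = 2 ^ (2 * m + 1) - 1 ∨ k = 2 ^ (2 * m + 1) + 2 ^ (m + 1) + 1 ∨
      k = 2 ^ (2 * m + 1) - 2 ^ (m + 1) + 1) :
    ∃ U : Subgroup (Cfsg.Sz F m), IsCyclic U ∧ Nat.card U = k := by
  have h2 : (2 : F) = 0 := two_eq_zero_of_card hF
  have hSdef : ∀ z, (sgHom F m h2) z = z ^ 2 ^ (m + 1) := fun z => sgHom_apply m h2 z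
  obtain ⟨g₁, g₂, hg₁, hg₂, e1, e2, -⟩ := tori_classification hm hF
  rcases hk with rfl | rfl | rfl
  · have hne : ptInf F m ≠ ptAff hSdef 0 0 := (ptAff_ne_ptInf hSdef 0 0).symm
    exact ⟨twoPt (ptInf F m) (ptAff hSdef 0 0), isCyclic_twoPt hm hF hne, card_twoPt hm hF hne⟩
  · exact ⟨torus g₁, isCyclic_centralizer_of_no_fixed hm hF hg₁, e1⟩
  · exact ⟨torus g₂, isCyclic_centralizer_of_no_fixed hm hF hg₂, e2⟩

end Cfsg.Agent.Lib.Helper5_SzSolO
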