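import Mathlib
import Cfsg.Agent.Lib.Helper5_SzSolO
import Cfsg.Agent.Lib.Helper5_SzSolD
import Cfsg.Agent.Lib.Helper37_SzOrd4
import Cfsg.Agent.Lib.Helper46_SzInv
import Cfsg.Agent.S0324
import Cfsg.Agent.S0325
import Cfsg.Agent.S0330
import Cfsg.Agent.S2241

/-!
# Solubilizers in Suzuki groups (helper5), part P: `Sz(q)` with `2m+1` prime satisfies the abstract hypotheses
-/

set_option autoImplicit false

namespace Cfsg.Agent.Lib.Helper5_SzSolP

open Subgroup Cfsg.Agent.Lib.Helper5_SzSolA Cfsg.Agent.Lib.Helper5_SzSolB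
open Cfsg.Agent.Lib.Helper5_SzSolL
open Cfsg.Agent.Lib.Helper5_SzSolM Cfsg.Agent.Lib.Helper5_SzSolN Cfsg.Agent.Lib.Helper5_SzSolO
open Cfsg.Agent.Helper37Sz Cfsg.Agent.Lib.Helper6_SzCent Cfsg.Agent.Lib.Helper6_SzFixity
open Cfsg.Agent.Lib.Helper6_SzPartition Cfsg.Agent.Lib.Helper6_SzTori
open Cfsg.Agent.Lib.Helper6_SzToriClass Cfsg.Agent.Lib.Helper6_SzToriCount

variable {F : Type*} [Field F] [Fintype F] {m : ℕ}

/-- the splitting of a torus of order `q - 1` -/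
theorem split_sz (hm : 1 ≤ m) (hF : Fintype.card F = 2 ^ (2 * m + 1))
    (U : Subgroup (Cfsg.Sz F m)) (hUc : IsCyclic U) (hUn : Nat.card U = 2 ^ (2 * m + 1) - 1) :
    ∃ P1 P2 : Sylow 2 (Cfsg.Sz F m),
      normalizer ((P1 : Subgroup (Cfsg.Sz F m)) : Set (Cfsg.Sz F m)) ⊓
        normalizer ((P2 : Subgroup (Cfsg.Sz F m)) : Set (Cfsg.Sz F m)) = U ∧
      (∀ u ∈ U, u ≠ 1 → ∀ P : Sylow 2 (Cfsg.Sz F m),
        u ∈ normalizer ((P : Subgroup (Cfsg.Sz F m)) : Set (Cfsg.Sz F m)) → P = P1 ∨ P = P2) ∧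
      normalizer (U : Set (Cfsg.Sz F m)) ⊓
        normalizer ((P1 : Subgroup (Cfsg.Sz F m)) : Set (Cfsg.Sz F m)) = U ∧
      normalizer (U : Set (Cfsg.Sz F m)) ⊓
        normalizer ((P2 : Subgroup (Cfsg.Sz F m)) : Set (Cfsg.Sz F m)) = U := by
  obtain ⟨a, b, hab, rfl⟩ := exists_twoPt_of_cyc0 hm hF hUc hUn
  obtain ⟨P1, hP1⟩ := exists_sylow_at hm hF a
  obtain ⟨P2, hP2⟩ := exists_sylow_at hm hF b
  refine ⟨P1, P2, ?_, ?_, ?_, ?_⟩
  · rw [hP1, hP2]
  · intro u hu hu1 P hP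
    obtain ⟨c, hc, -, -⟩ := exists_pt_of_sylow hm hF P
    rw [hc, MulAction.mem_stabilizer_iff] at hP
    rcases fixed_of_mem_twoPt hm hF hab hu hu1 hP with rfl | rfl
    · left
      exact sylow_eq_of_normalizer_eq (hc.trans hP1.symm)
    · right
      exact sylow_eq_of_normalizer_eq (hc.trans hP2.symm)
  · ext g
    rw [Subgroup.mem_inf, hP1, mem_normalizer_twoPt hm hF hab, MulAction.mem_stabilizer_iff,
      mem_twoPt]
    constructor
    · rintro ⟨⟨h1, h2⟩ | ⟨h1, h2⟩, h3⟩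
      · exact ⟨h1, h2⟩
      · exact absurd (h3.symm.trans h1) hab
    · rintro ⟨h1, h2⟩
      exact ⟨Or.inl ⟨h1, h2⟩, h1⟩
  · ext g
    rw [Subgroup.mem_inf, hP2, mem_normalizer_twoPt hm hF hab, MulAction.mem_stabilizer_iff,
      mem_twoPt]
    constructor
    · rintro ⟨⟨h1, h2⟩ | ⟨h1, h2⟩, h3⟩
      · exact ⟨h1, h2⟩
      · exact absurd (h2.symm.trans h3) hab
    · rintro ⟨h1, h2⟩
      exact ⟨Or.inl ⟨h1, h2⟩, h2⟩

/-- the order of the group, factored -/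
theorem card_sz (hm : 1 ≤ m) (hF : Fintype.card F = 2 ^ (2 * m + 1)) :
    Nat.card (Cfsg.Sz F m) =
      ((2 ^ (2 * m + 1)) ^ 2 * ((2 ^ (2 * m + 1)) ^ 2 + 1)) * (2 ^ (2 * m + 1) - 1) :=
  Cfsg.Agent.S0324.result hm hF

theorem not_solv_sz (hm : 1 ≤ m) (hF : Fintype.card F = 2 ^ (2 * m + 1)) :
    ¬ Group.IsSolvable (Cfsg.Sz F m) := by
  intro hs
  haveI : IsSimpleGroup (Cfsg.Sz F m) := Cfsg.Agent.S0325.result hm hF
  have hcomm : ∀ a b : Cfsg.Sz F m, a * b = b * a := IsSimpleGroup.comm_iff_isSolvable.2 hs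
  obtain ⟨U, hUc, hUn⟩ := exists_cyc_sz hm hF (2 ^ (2 * m + 1) - 1) (Or.inl rfl)
  have hU : IsCyc (2 ^ (2 * m + 1)) (2 ^ (m + 1)) U := ⟨hUc, Or.inl hUn⟩
  obtain ⟨u, hu, hu1⟩ := exists_ne_one hm hU
  have htop : U = ⊤ := by
    rw [eq_top_iff]
    intro c _
    exact cent_cyc_sz hm hF U hU u hu hu1 c (hcomm c u)
  have h1 : Nat.card U = Nat.card (Cfsg.Sz F m) := by rw [htop, Subgroup.card_top]
  rw [hUn, card_sz hm hF] at h1
  have h8 := two_le_q hm
  have hpos : 0 < 2 ^ (2 * m + 1) - 1 := by omega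
  have h2 : 1 * (2 ^ (2 * m + 1) - 1)
      = ((2 ^ (2 * m + 1)) ^ 2 * ((2 ^ (2 * m + 1)) ^ 2 + 1)) * (2 ^ (2 * m + 1) - 1) := by
    rw [one_mul]; exact h1
  have h3 := Nat.eq_of_mul_eq_mul_right hpos h2
  have h4 : 1 < (2 ^ (2 * m + 1)) ^ 2 * ((2 ^ (2 * m + 1)) ^ 2 + 1) := by
    have : 1 < (2 ^ (2 * m + 1)) ^ 2 := by nlinarith
    nlinarith
  omega

theorem card_syl_sz (hm : 1 ≤ m) (hF : Fintype.card F = 2 ^ (2 * m + 1))
    (P : Sylow 2 (Cfsg.Sz F m)) : Nat.card P = (2 ^ (2 * m + 1)) ^ 2 :=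
  (Cfsg.Agent.S0330.result hm hF P).1

theorem sq_eq_one_of_orderOf_two {G : Type*} [Group G] {a : G} (ha : orderOf a = 2) :
    a * a = 1 := by
  have := pow_orderOf_eq_one a
  rwa [ha, pow_two] at this

theorem ne_one_of_orderOf {G : Type*} [Group G] {a : G} {n : ℕ} (hn : 1 < n)
    (ha : orderOf a = n) : a ≠ 1 := by
  rintro rfl
  rw [orderOf_one] at ha
  omega

theorem invol_conj_sz (hm : 1 ≤ m) (hF : Fintype.card F = 2 ^ (2 * m + 1))
    (x y : Cfsg.Sz F m) (hx : orderOf x = 2) (hy : orderOf y = 2) :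
    ∃ g : Cfsg.Sz F m, y = g * x * g⁻¹ :=
  Cfsg.Agent.Lib.Helper46_SzInv.involutions_conj hm hF y x (sq_eq_one_of_orderOf_two hy)
    (ne_one_of_orderOf (by norm_num) hy) (sq_eq_one_of_orderOf_two hx)
    (ne_one_of_orderOf (by norm_num) hx)

theorem cent_invol_sz (hm : 1 ≤ m) (hF : Fintype.card F = 2 ^ (2 * m + 1))
    (x : Cfsg.Sz F m) (hx : orderOf x = 2) :
    Nat.card (centralizer ({x} : Set (Cfsg.Sz F m))) = (2 ^ (2 * m + 1)) ^ 2 := by
  have h2 : (2 : F) = 0 := two_eq_zero_of_card hF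
  have hSdef : ∀ z, (sgHom F m h2) z = z ^ 2 ^ (m + 1) := fun z => sgHom_apply m h2 z
  have hS : ∀ z, (sgHom F m h2) ((sgHom F m h2) z) = z ^ 2 := fun z => sgHom_sgHom hF h2 z
  have hP := Cfsg.Agent.Helper37SzSub.sylAt_Qsub hm hF h2 hS hSdef
  have hx1 : x ≠ 1 := ne_one_of_orderOf (by norm_num) hx
  obtain ⟨g, b, hgb⟩ := involution_conj hm hF h2 hS hSdef (sq_eq_one_of_orderOf_two hx)
  have hb : b ≠ 0 := by
    rintro rfl
    apply hx1
    rw [hgb, uQ_zero h2 hS hSdef]; group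
  have hi : Cfsg.Agent.Helper37SzSub.IsInv (uQ (m := m) h2 hS hSdef 0 b) :=
    Cfsg.Agent.Helper37SzSub.isInv_uQ_zero hb
  have hs : uQ h2 hS hSdef 0 b ∈ Qsub h2 hS m := uQ_mem_Qsub h2 hS hSdef 0 b
  have hcent : centralizer ({uQ (m := m) h2 hS hSdef 0 b} : Set (Cfsg.Sz F m)) = Qsub h2 hS m := by
    ext c
    rw [mem_centralizer_singleton_iff]
    constructor
    · intro hc
      exact hP.cent _ hs hi c hc
    · intro hc
      exact hP.central _ hs hi c hc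
  rw [hgb, centralizer_conj, card_cj, hcent, card_Qsub h2 hS hSdef, hF]

theorem four_not_real_sz (hm : 1 ≤ m) (hF : Fintype.card F = 2 ^ (2 * m + 1))
    (x g : Cfsg.Sz F m) (hx : orderOf x = 4) : g * x * g⁻¹ ≠ x⁻¹ := by
  intro h
  have h1 : IsPGroup 2 (zpowers x) := by
    apply IsPGroup.of_card (n := 2)
    rw [Nat.card_zpowers, hx]
    norm_num
  obtain ⟨P, hP⟩ := h1.exists_le_sylow
  have hxP : x ∈ (P : Subgroup (Cfsg.Sz F m)) := hP (mem_zpowers x)
  have hx1 : x ≠ 1 := ne_one_of_orderOf (by norm_num) hx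
  have := (Cfsg.Agent.S2241.result hm hF P x hxP hx1).1 (isConj_iff.2 ⟨g, h⟩)
  omega

/-- solvability of the normalisers of the members of the partition -/
theorem solv_sz (hm : 1 ≤ m) (hF : Fintype.card F = 2 ^ (2 * m + 1))
    (U : Subgroup (Cfsg.Sz F m)) (hU : IsComp (2 ^ (2 * m + 1)) (2 ^ (m + 1)) U) :
    Group.IsSolvable (normalizer (U : Set (Cfsg.Sz F m))) := by
  have h8 := two_le_q hm
  rcases hU with ⟨P, rfl⟩ | hU
  · -- Sylow case
    have h2 : (2 : F) = 0 := two_eq_zero_of_card hF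
    have hSdef : ∀ z, (sgHom F m h2) z = z ^ 2 ^ (m + 1) := fun z => sgHom_apply m h2 z
    obtain ⟨a, ha, -, -⟩ := exists_pt_of_sylow hm hF P
    obtain ⟨b, hab⟩ : ∃ b : Cfsg.suzukiOvoid F m, a ≠ b := by
      by_cases h : a = ptInf F m
      · exact ⟨ptAff hSdef 0 0, by rw [h]; exact (ptAff_ne_ptInf hSdef 0 0).symm⟩
      · exact ⟨ptInf F m, h⟩
    have hT := isCyc_twoPt hm hF hab
    haveI : Fact (Nat.Prime 2) := ⟨Nat.prime_two⟩
    have hPsolv : Group.IsSolvable (P : Subgroup (Cfsg.Sz F m)) := by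
      have : Group.IsNilpotent (P : Subgroup (Cfsg.Sz F m)) := P.isPGroup'.isNilpotent
      infer_instance
    apply isSolvable_of_complement _ (P : Subgroup (Cfsg.Sz F m)) (twoPt a b) le_normalizer
    · rw [ha]; exact inf_le_left
    · intro n hn p hp
      exact (Subgroup.mem_normalizer_iff.1 hn p).1 hp
    · exact hPsolv
    · intro x hx y hy
      have := isCyclic_twoPt hm hF hab
      have := IsCyclic.commGroup.mul_comm (⟨x, hx⟩ : twoPt a b) ⟨y, hy⟩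
      exact congrArg Subtype.val this
    · intro x hxP hxT
      have h1 : orderOf x ∣ (2 ^ (2 * m + 1)) ^ 2 := by
        rw [← card_syl_sz hm hF P]
        have := orderOf_dvd_natCard (⟨x, hxP⟩ : (P : Subgroup (Cfsg.Sz F m)))
        rwa [← Subgroup.orderOf_coe] at this
      have h2' : orderOf x ∣ 2 ^ (2 * m + 1) - 1 := by
        rw [← card_twoPt hm hF hab]
        have := orderOf_dvd_natCard (⟨x, hxT⟩ : twoPt a b)
        rwa [← Subgroup.orderOf_coe] at this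
      have hcop : Nat.Coprime ((2 ^ (2 * m + 1)) ^ 2) (2 ^ (2 * m + 1) - 1) := by
        apply Nat.Coprime.pow_left
        apply Nat.Coprime.pow_left
        rw [Nat.Prime.coprime_iff_not_dvd Nat.prime_two]
        exact (ar_sz hm).odd0
      have h3 : orderOf x = 1 := Nat.eq_one_of_dvd_coprimes hcop h1 h2'
      exact orderOf_eq_one_iff.1 h3
    · have e1 : Nat.card (P : Subgroup (Cfsg.Sz F m)) = (2 ^ (2 * m + 1)) ^ 2 :=
        card_syl_sz hm hF P
      rw [e1, card_twoPt hm hF hab, card_normalizer_sylow hm hF P, mul_comm]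
  · -- cyclic case
    have hcomm : ∀ a ∈ U, ∀ b ∈ U, a * b = b * a := by
      intro x hx y hy
      have := hU.1
      have := IsCyclic.commGroup.mul_comm (⟨x, hx⟩ : U) ⟨y, hy⟩
      exact congrArg Subtype.val this
    obtain ⟨hUc, h | h⟩ := hU
    · apply isSolvable_normalizer_of_two_pow U hcomm (k := 1)
      rw [card_norm_cyc0_sz hm hF U hUc h, pow_one]
    · apply isSolvable_normalizer_of_two_pow U hcomm (k := 2)
      rw [card_norm_cyc1_sz hm hF U hUc h]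
      norm_num

/-- **the Suzuki group `Sz(q)` with `2m+1` prime satisfies the abstract hypotheses** -/
theorem ax_sz (hm : 1 ≤ m) (hp : (2 * m + 1).Prime) (hF : Fintype.card F = 2 ^ (2 * m + 1)) :
    Ax (Cfsg.Sz F m) (2 ^ (2 * m + 1)) (2 ^ (m + 1)) where
  ar := ar_sz hm
  part := part_sz hm hF
  maxi := maxi_sz hm hp hF
  not_solv := not_solv_sz hm hF
  solv := solv_sz hm hF
  card_syl := card_syl_sz hm hF
  card_norm_syl := card_normalizer_sylow hm hF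
  card_norm_cyc0 := card_norm_cyc0_sz hm hF
  card_norm_cyc1 := card_norm_cyc1_sz hm hF
  cent_cyc := cent_cyc_sz hm hF
  exists_cyc := exists_cyc_sz hm hF
  conj_cyc := conj_cyc_sz hm hF
  invol_conj := invol_conj_sz hm hF
  cent_invol := cent_invol_sz hm hF
  cent_four := Cfsg.Agent.Helper37SzSub.card_centralizer_of_orderOf_four hm hF
  four_conj := Cfsg.Agent.Helper37SzSub.conj_or_conj_inv_of_orderOf_four hm hF
  four_not_real := four_not_real_sz hm hF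
  split := split_sz hm hF

end Cfsg.Agent.Lib.Helper5_SzSolP
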