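import Mathlib
import Cfsg.Prelude.Def_Sz
import Cfsg.Prelude.Def_LieExceptional
import Cfsg.Agent.Lib.Helper48_FpfDefs
import Cfsg.Agent.Lib.Helper37_SzBridge
import Cfsg.Agent.Lib.Helper5_SzSolP

/-!
# S2863 FPF-SZ (helper48 market): the Suzuki case `m ≥ 1`, by transport along `e` and
`Helper37Sz.lieSzEquiv` of `hreal`, `hsemi` and `invol_conj_sz` to `X`, then `hreal_lemma`.
-/

set_option autoImplicit false

open Cfsg.Agent.Lib.Helper48_FpfDefs

namespace Cfsg.Agent.Lib.Helper84_Fpf_SZ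

theorem mem_normalizer_map_equiv_iff {X Y : Type*} [Group X] [Group Y] (φ : X ≃* Y)
    (P : Subgroup X) (x : X) :
    φ x ∈ Subgroup.normalizer ((P.map φ.toMonoidHom : Subgroup Y) : Set Y) ↔
      x ∈ Subgroup.normalizer (P : Set X) := by
  rw [← Subgroup.map_equiv_normalizer_eq, Subgroup.mem_map_equiv]
  simp

theorem map_conj_map_equiv {X Y : Type*} [Group X] [Group Y] (φ : X ≃* Y)
    (P : Subgroup X) (x : X) :
    (P.map (MulAut.conj x).toMonoidHom).map φ.toMonoidHom =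
      (P.map φ.toMonoidHom).map (MulAut.conj (φ x)).toMonoidHom := by
  rw [Subgroup.map_map, Subgroup.map_map]
  congr 1
  ext y
  simp [MulAut.conj_apply]

theorem fpf_sz {X : Type*} [Group X] [Finite X] {M : Type*} [AddCommGroup M] [Finite M]
    (ρ : X →* AddMonoid.End M) (P : Subgroup X) (h : FpfHyp 2 ρ P)
    (hreal_lemma : ∀ (ρ' : X →* AddMonoid.End M) (P' : Subgroup X), FpfHyp 2 ρ' P' →
      (∀ g : X, (orderOf g).Prime → orderOf g ≠ 2 →
        ∃ t : X, t ≠ 1 ∧ t * t = 1 ∧ t * g * t⁻¹ = g⁻¹) →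
      (∀ t : X, t ≠ 1 → t * t = 1 → ∃ x : X, ∃ y ∈ P', t = x * y * x⁻¹) →
      (∀ x : X, x ∉ Subgroup.normalizer (P' : Set X) → ∀ t ∈ P', t ≠ 1 →
        t ∉ Subgroup.normalizer ((P'.map (MulAut.conj x).toMonoidHom : Subgroup X) : Set X)) →
      Concl 2 ρ')
    (F : Type) [Field F] [Fintype F] (m : ℕ) (hm : 1 ≤ m)
    (hF : Fintype.card F = 2 ^ (2 * m + 1)) (hP : Nat.card P = Fintype.card F)
    (e : X ≃* ↥(Cfsg.Lie.Sz F (2 ^ (m + 1))))
    (hreal : ∀ g : Cfsg.Sz F m, (orderOf g).Prime → orderOf g ≠ 2 →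
      ∃ t : Cfsg.Sz F m, t ≠ 1 ∧ t * t = 1 ∧ t * g * t⁻¹ = g⁻¹)
    (hsemi : ∀ Q : Subgroup (Cfsg.Sz F m), (∀ y ∈ Q, ∀ z ∈ Q, y * z = z * y) →
      (∀ y ∈ Q, y ^ 2 = 1) → Nat.card Q = 2 ^ (2 * m + 1) → ∀ x : Cfsg.Sz F m,
      x ∉ Subgroup.normalizer (Q : Set (Cfsg.Sz F m)) → ∀ t ∈ Q, t ≠ 1 →
      t ∉ Subgroup.normalizer
        ((Q.map (MulAut.conj x).toMonoidHom : Subgroup (Cfsg.Sz F m)) : Set (Cfsg.Sz F m))) :
    Concl 2 ρ := by
  classical
  obtain ⟨φ, -⟩ : ∃ φ : X ≃* Cfsg.Sz F m, φ = φ :=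
    ⟨e.trans (Cfsg.Agent.Helper37Sz.lieSzEquiv hm hF).symm, rfl⟩
  have hord : ∀ g : X, orderOf (φ g) = orderOf g := fun g => MulEquiv.orderOf_eq φ g
  apply hreal_lemma ρ P h
  · -- strongly real
    intro g hg hg2
    obtain ⟨t, ht1, htt, htg⟩ := hreal (φ g) (by rwa [hord]) (by rwa [hord])
    refine ⟨φ.symm t, ?_, ?_, ?_⟩
    · intro hc
      apply ht1
      have := congrArg φ hc
      simpa using this
    · apply φ.injective
      simp [htt]
    · apply φ.injective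
      simp [htg]
  · -- involutions are conjugate into `P`
    intro t ht1 htt
    obtain ⟨y0, hy01⟩ : ∃ y : P, y ≠ 1 := by
      have h1 : 1 < Nat.card P := by
        rw [hP, hF]
        exact Nat.one_lt_two_pow (by omega)
      have : Nontrivial P := (Finite.one_lt_card_iff_nontrivial).mp h1
      exact exists_ne 1
    have hy0G : (y0 : X) ≠ 1 := fun hc => hy01 (Subtype.ext hc)
    have hoy : orderOf (y0 : X) = 2 := orderOf_eq_prime (h.exp y0 y0.2) hy0G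
    have hot : orderOf t = 2 := orderOf_eq_prime (by rw [pow_two]; exact htt) ht1
    obtain ⟨g, hg⟩ := Cfsg.Agent.Lib.Helper5_SzSolP.invol_conj_sz hm hF (φ (y0 : X)) (φ t)
      (by rw [hord]; exact hoy) (by rw [hord]; exact hot)
    refine ⟨φ.symm g, y0, y0.2, ?_⟩
    apply φ.injective
    simp [hg]
  · -- semiregularity
    intro x hx t htP ht1 hcon
    obtain ⟨Q, hQ⟩ : ∃ Q : Subgroup (Cfsg.Sz F m), Q = P.map φ.toMonoidHom := ⟨_, rfl⟩
    have hQc : ∀ y ∈ Q, ∀ z ∈ Q, y * z = z * y := by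
      rw [hQ]
      rintro _ ⟨y, hy, rfl⟩ _ ⟨z, hz, rfl⟩
      show φ y * φ z = φ z * φ y
      rw [← map_mul, ← map_mul, h.comm y hy z hz]
    have hQe : ∀ y ∈ Q, y ^ 2 = 1 := by
      rw [hQ]
      rintro _ ⟨y, hy, rfl⟩
      show φ y ^ 2 = 1
      rw [← map_pow, h.exp y hy, map_one]
    have hQn : Nat.card Q = 2 ^ (2 * m + 1) := by
      rw [hQ, Subgroup.card_map_of_injective φ.injective, hP, hF]
    have hx' : φ x ∉ Subgroup.normalizer (Q : Set (Cfsg.Sz F m)) := by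
      rw [hQ, mem_normalizer_map_equiv_iff]
      exact hx
    have htQ : φ t ∈ Q := by
      rw [hQ]
      exact ⟨t, htP, rfl⟩
    have ht1' : φ t ≠ 1 := by
      intro hc
      apply ht1
      have := congrArg φ.symm hc
      simpa using this
    apply hsemi Q hQc hQe hQn (φ x) hx' (φ t) htQ ht1'
    rw [hQ, ← map_conj_map_equiv, mem_normalizer_map_equiv_iff]
    exact hcon

end Cfsg.Agent.Lib.Helper84_Fpf_SZ
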