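import Mathlib
import Cfsg.Prelude.Def_Sz

/-!
# Helper91_Fpf_SZZERO (package SZ-ZERO of S2863, architect helper48)

`Lie.Sz F 2` over a field with two elements (the Frobenius group of order 20) is not generated by
two conjugates of a subgroup of order two: a group generated by two involutions `t`, `s` is
dihedral, so the square of an element of order four is central; but `Lie.Sz F 2` contains an
element `g₀` of order four whose square is not central.
-/

set_option autoImplicit false

namespace Cfsg.Agent.Lib.Helper91_Fpf_SZZERO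

/-! ### Groups generated by two involutions -/

section dihedral

variable {X : Type*} [Group X]

theorem conj_zpowers (t s : X) (ht : t * t = 1) (hs : s * s = 1) (n : X)
    (hn : n ∈ Subgroup.zpowers (t * s)) : t * n * t⁻¹ = n⁻¹ := by
  obtain ⟨k, rfl⟩ := Subgroup.mem_zpowers_iff.1 hn
  have hti : t⁻¹ = t := inv_eq_of_mul_eq_one_right ht
  have hsi : s⁻¹ = s := inv_eq_of_mul_eq_one_right hs
  have h1 : t * (t * s) * t⁻¹ = (t * s)⁻¹ := by
    rw [mul_inv_rev, hti, hsi, ← mul_assoc, ht, one_mul]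
  rw [← conj_zpow, h1, inv_zpow]

theorem mem_or (t s : X) (ht : t * t = 1) (hs : s * s = 1) (g : X)
    (hg : g ∈ Subgroup.closure ({t, s} : Set X)) :
    g ∈ Subgroup.zpowers (t * s) ∨ t * g ∈ Subgroup.zpowers (t * s) := by
  have hti : t⁻¹ = t := inv_eq_of_mul_eq_one_right ht
  have hconj : ∀ n ∈ Subgroup.zpowers (t * s), t * n * t ∈ Subgroup.zpowers (t * s) := by
    intro n hn
    have := conj_zpowers t s ht hs n hn
    rw [hti] at this
    rw [this]
    exact inv_mem hn
  induction hg using Subgroup.closure_induction with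
  | mem x hx =>
    rcases hx with rfl | rfl
    · right; rw [ht]; exact one_mem _
    · right; exact Subgroup.mem_zpowers _
  | one => left; exact one_mem _
  | mul a b _ _ iha ihb =>
    rcases iha with ha | ha <;> rcases ihb with hb | hb
    · left; exact mul_mem ha hb
    · right
      have h1 := mul_mem (hconj a ha) hb
      have h2 : t * a * t * (t * b) = t * (a * b) := by
        rw [mul_assoc (t * a), ← mul_assoc t t b, ht, one_mul, mul_assoc]
      rwa [h2] at h1
    · right
      have h1 := mul_mem ha hb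
      rwa [mul_assoc] at h1
    · left
      have h1 := mul_mem (hconj _ ha) hb
      have h2 : t * (t * a) * t * (t * b) = a * b := by
        rw [← mul_assoc t t a, ht, one_mul, mul_assoc a, ← mul_assoc t t b, ht, one_mul]
      rwa [h2] at h1
  | inv a _ iha =>
    rcases iha with ha | ha
    · left; exact inv_mem ha
    · right
      have h1 := hconj _ (inv_mem ha)
      have h2 : t * (t * a)⁻¹ * t = t * a⁻¹ := by
        rw [mul_inv_rev, hti, mul_assoc, mul_assoc, ht, mul_one]
      rwa [h2] at h1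

/-- If `t`, `s` are involutions generating `X`, the square of an element of order dividing four is
central. -/
theorem sq_central (t s : X) (ht : t * t = 1) (hs : s * s = 1)
    (htop : Subgroup.closure ({t, s} : Set X) = ⊤) (g₀ : X) (h4 : g₀ ^ 4 = 1) (y : X) :
    y * (g₀ * g₀) = (g₀ * g₀) * y := by
  have hti : t⁻¹ = t := inv_eq_of_mul_eq_one_right ht
  by_cases h1 : g₀ * g₀ = 1
  · rw [h1, mul_one, one_mul]
  have hN : g₀ ∈ Subgroup.zpowers (t * s) := by
    rcases mem_or t s ht hs g₀ (by rw [htop]; trivial) with h | h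
    · exact h
    · exfalso
      apply h1
      have h2 := conj_zpowers t s ht hs _ h
      rw [hti] at h2
      -- t * (t * g₀) * t = (t * g₀)⁻¹, so g₀ * t = g₀⁻¹ * t, hence g₀ * g₀ = 1
      have h3 : g₀ * t = g₀⁻¹ * t := by
        rw [← mul_assoc t t g₀, ht, one_mul, mul_inv_rev, hti] at h2
        exact h2
      have h4' : g₀ = g₀⁻¹ := mul_right_cancel h3
      calc g₀ * g₀ = g₀ * g₀⁻¹ := by rw [← h4']
        _ = 1 := mul_inv_cancel _
  have hz : g₀ * g₀ ∈ Subgroup.zpowers (t * s) := mul_mem hN hN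
  have hzz : (g₀ * g₀)⁻¹ = g₀ * g₀ := by
    apply inv_eq_of_mul_eq_one_right
    rw [← h4, pow_succ, pow_succ, pow_succ, pow_one, mul_assoc, mul_assoc, mul_assoc]
  have hct : t * (g₀ * g₀) = (g₀ * g₀) * t := by
    have h2 := conj_zpowers t s ht hs _ hz
    rw [hzz] at h2
    exact mul_inv_eq_iff_eq_mul.1 h2
  have hcr : (t * s) * (g₀ * g₀) = (g₀ * g₀) * (t * s) := by
    obtain ⟨k, hk⟩ := Subgroup.mem_zpowers_iff.1 hz
    rw [← hk]
    exact ((Commute.refl (t * s)).zpow_right k).eq
  have hcs : s * (g₀ * g₀) = (g₀ * g₀) * s := by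
    have hs' : s = t * (t * s) := by rw [← mul_assoc, ht, one_mul]
    rw [hs', mul_assoc, hcr, ← mul_assoc, hct, mul_assoc]
  have hle : Subgroup.closure ({t, s} : Set X) ≤ Subgroup.centralizer ({g₀ * g₀} : Set X) := by
    rw [Subgroup.closure_le]
    intro x hx
    rw [SetLike.mem_coe, Subgroup.mem_centralizer_iff]
    intro h hh
    rw [Set.mem_singleton_iff] at hh
    subst hh
    rcases hx with rfl | rfl
    · exact hct.symm
    · exact hcs.symm
  have hy : y ∈ Subgroup.centralizer ({g₀ * g₀} : Set X) := hle (by rw [htop]; trivial)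
  rw [Subgroup.mem_centralizer_iff] at hy
  exact (hy _ rfl).symm

end dihedral

/-! ### Two elements of `Lie.Sz F 2` -/

section sz

open Cfsg.Lie Matrix

/-- An element of order four (over `ZMod 2`). -/
def g0m : Matrix (Fin 4) (Fin 4) (ZMod 2) := !![1, 0, 0, 0; 1, 1, 0, 0; 1, 1, 1, 0; 1, 0, 1, 1]
/-- Its inverse. -/
def g0i : Matrix (Fin 4) (Fin 4) (ZMod 2) := !![1, 0, 0, 0; 1, 1, 0, 0; 0, 1, 1, 0; 1, 1, 1, 1]
/-- An involution not commuting with the square of `g0m`. -/
def h0m : Matrix (Fin 4) (Fin 4) (ZMod 2) := !![0, 0, 0, 1; 0, 0, 1, 0; 0, 1, 0, 0; 1, 0, 0, 0]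

def g0 : GL (Fin 4) (ZMod 2) := ⟨g0m, g0i, by decide, by decide⟩
def h0 : GL (Fin 4) (ZMod 2) := ⟨h0m, h0m, by decide, by decide⟩

theorem g0_pow : g0 ^ 4 = 1 := by
  apply Units.ext
  rw [Units.val_pow_eq_pow_val]
  show g0m ^ 4 = 1
  decide

theorem not_comm : h0 * (g0 * g0) ≠ (g0 * g0) * h0 := by
  intro h
  have h1 := congrArg Units.val h
  simp only [Units.val_mul] at h1
  revert h1
  show ¬ (h0m * (g0m * g0m) = g0m * g0m * h0m)
  decide

theorem g0_mem : g0 ∈ Sp4 (ZMod 2) ∧
    star4 (g0 : Matrix (Fin 4) (Fin 4) (ZMod 2)) =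
      (g0 : Matrix (Fin 4) (Fin 4) (ZMod 2)).map (fun x => x ^ 2) := by
  constructor
  · show ∀ u v : Fin 4 → ZMod 2, altForm4 (g0m *ᵥ u) (g0m *ᵥ v) = altForm4 u v
    decide
  · show star4 g0m = g0m.map (fun x => x ^ 2)
    decide

theorem h0_mem : h0 ∈ Sp4 (ZMod 2) ∧
    star4 (h0 : Matrix (Fin 4) (Fin 4) (ZMod 2)) =
      (h0 : Matrix (Fin 4) (Fin 4) (ZMod 2)).map (fun x => x ^ 2) := by
  constructor
  · show ∀ u v : Fin 4 → ZMod 2, altForm4 (h0m *ᵥ u) (h0m *ᵥ v) = altForm4 u v
    decide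
  · show star4 h0m = h0m.map (fun x => x ^ 2)
    decide


variable {F : Type} [Field F]

theorem map_mem (f : ZMod 2 →+* F) (hf : Function.Surjective f) (g : GL (Fin 4) (ZMod 2))
    (hg : g ∈ Sp4 (ZMod 2) ∧
      star4 (g : Matrix (Fin 4) (Fin 4) (ZMod 2)) =
        (g : Matrix (Fin 4) (Fin 4) (ZMod 2)).map (fun x => x ^ 2)) :
    Matrix.GeneralLinearGroup.map f g ∈ Lie.Sz F 2 := by
  apply Subgroup.subset_closure
  have hval : ((Matrix.GeneralLinearGroup.map f g : GL (Fin 4) F) : Matrix (Fin 4) (Fin 4) F)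
      = (g : Matrix (Fin 4) (Fin 4) (ZMod 2)).map f := rfl
  constructor
  · show ∀ u v : Fin 4 → F, altForm4
        ((Units.coeHom (Matrix (Fin 4) (Fin 4) F) (Matrix.GeneralLinearGroup.map f g)) *ᵥ u)
        ((Units.coeHom (Matrix (Fin 4) (Fin 4) F) (Matrix.GeneralLinearGroup.map f g)) *ᵥ v)
        = altForm4 u v
    intro u v
    obtain ⟨u', rfl⟩ := hf.comp_left u
    obtain ⟨v', rfl⟩ := hf.comp_left v
    have h1 : ∀ u v : Fin 4 → ZMod 2,
        altForm4 ((g : Matrix (Fin 4) (Fin 4) (ZMod 2)) *ᵥ u)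
          ((g : Matrix (Fin 4) (Fin 4) (ZMod 2)) *ᵥ v) = altForm4 u v := hg.1
    have h2 := congrArg f (h1 u' v')
    rw [Units.coeHom_apply, hval]
    simp only [altForm4, map_add, map_mul, RingHom.map_mulVec] at h2
    exact h2
  · rw [hval]
    have h2 := congrArg (fun A : Matrix (Fin 4) (Fin 4) (ZMod 2) => A.map f) hg.2
    ext p r
    have h3 := congrFun (congrFun h2 p) r
    simp only [star4, Matrix.map_apply, Matrix.of_apply, map_sub, map_mul, map_pow] at h3 ⊢
    exact h3

end sz

/-- Package SZ-ZERO: `Sz(2)` cannot occur. -/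
theorem sz_zero_false {X : Type*} [Group X] [Finite X] (P : Subgroup X)
    (F : Type) [Field F] [Fintype F] (hF : Fintype.card F = 2) (hP : Nat.card P = 2)
    (e : X ≃* ↥(Cfsg.Lie.Sz F 2))
    (hne : ∃ x : X, x ∉ Subgroup.normalizer (P : Set X))
    (hgen : ∀ x : X, x ∉ Subgroup.normalizer (P : Set X) →
      P ⊔ P.map (MulAut.conj x).toMonoidHom = ⊤) : False := by
  classical
  haveI : Fact (Nat.Prime 2) := ⟨Nat.prime_two⟩
  haveI : CharP F 2 := charP_of_card_eq_prime hF
  let f : ZMod 2 →+* F := ZMod.castHom (dvd_refl 2) F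
  have hfinj : Function.Injective f := f.injective
  have hfsurj : Function.Surjective f := by
    have hb : Function.Bijective f :=
      (Fintype.bijective_iff_injective_and_card f).2 ⟨hfinj, by rw [ZMod.card, hF]⟩
    exact hb.2
  -- the subgroup `P = {1, t}`
  obtain ⟨t', ht'1, ht'u⟩ := (Nat.card_eq_two_iff' (1 : P)).1 hP
  have hPall : ∀ y ∈ P, y = 1 ∨ y = (t' : X) := by
    intro y hy
    by_cases h1 : y = 1
    · exact Or.inl h1
    · right
      have := ht'u ⟨y, hy⟩ (fun h => h1 (congrArg Subtype.val h))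
      exact congrArg Subtype.val this
  have ht1 : (t' : X) ≠ 1 := fun h => ht'1 (Subtype.ext h)
  have ht2 : (t' : X) * t' = 1 := by
    rcases hPall _ (P.mul_mem t'.2 t'.2) with h | h
    · exact h
    · exact absurd (mul_left_cancel (h.trans (mul_one _).symm)) ht1
  obtain ⟨x, hx⟩ := hne
  have htop := hgen x hx
  have hs2 : (x * t' * x⁻¹) * (x * t' * x⁻¹) = 1 := by
    calc (x * t' * x⁻¹) * (x * t' * x⁻¹) = x * ((t' : X) * t') * x⁻¹ := by group
      _ = 1 := by rw [ht2, mul_one, mul_inv_cancel]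
  have hcl : Subgroup.closure ({(t' : X), x * t' * x⁻¹} : Set X) = ⊤ := by
    rw [← top_le_iff, ← htop, sup_le_iff]
    constructor
    · intro y hy
      rcases hPall y hy with rfl | rfl
      · exact one_mem _
      · exact Subgroup.subset_closure (Set.mem_insert _ _)
    · intro y hy
      obtain ⟨y', hy', rfl⟩ := Subgroup.mem_map.1 hy
      rcases hPall y' hy' with rfl | rfl
      · rw [map_one]; exact one_mem _
      · exact Subgroup.subset_closure (Set.mem_insert_of_mem _ rfl)
  -- the two elements of `Sz(2)`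
  let G0 : ↥(Cfsg.Lie.Sz F 2) := ⟨Matrix.GeneralLinearGroup.map f g0, map_mem f hfsurj g0 g0_mem⟩
  let H0 : ↥(Cfsg.Lie.Sz F 2) := ⟨Matrix.GeneralLinearGroup.map f h0, map_mem f hfsurj h0 h0_mem⟩
  have hG4 : G0 ^ 4 = 1 := by
    apply Subtype.ext
    show (Matrix.GeneralLinearGroup.map f g0) ^ 4 = 1
    rw [← map_pow, g0_pow, map_one]
  have key := sq_central (t' : X) (x * t' * x⁻¹) ht2 hs2 hcl (e.symm G0)
    (by rw [← map_pow, hG4, map_one]) (e.symm H0)
  have key2 := congrArg e key
  simp only [map_mul, MulEquiv.apply_symm_apply] at key2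
  have key3 := congrArg Subtype.val key2
  have key4 : Matrix.GeneralLinearGroup.map f (h0 * (g0 * g0))
      = Matrix.GeneralLinearGroup.map f ((g0 * g0) * h0) := by
    simp only [map_mul]
    exact key3
  have hinj : Function.Injective (Matrix.GeneralLinearGroup.map (n := Fin 4) f) := by
    intro a b hab
    apply Units.ext
    ext i j
    have h1 := congrArg (fun g : GL (Fin 4) F => (g : Matrix (Fin 4) (Fin 4) F) i j) hab
    simp only [Matrix.GeneralLinearGroup.map_apply] at h1
    exact hfinj h1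
  exact not_comm (hinj key4)

end Cfsg.Agent.Lib.Helper91_Fpf_SZZERO
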