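import Cfsg.Agent.Lib.Helper48_FpfRedB
import Cfsg.Agent.Lib.Helper47_SubAPI
import Cfsg.Agent.Lib.Helper63_Fpf_REAL
import Cfsg.Agent.Lib.Helper64_Fpf_FPF_DIH
import Cfsg.Agent.Lib.Helper70_Fpf_MOD
import Cfsg.Agent.Lib.Helper84_Fpf_SZ
import Cfsg.Agent.Lib.Helper91_Fpf_SZZERO
import Cfsg.Agent.Lib.Helper47_Fpf_SZREAL
import Cfsg.Agent.Lib.Helper47_Fpf_SZSEMI
import Cfsg.Agent.Lib.Helper5_Fpf_SL

/-!
# S2863 (helper48): assembly
-/

set_option autoImplicit false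

namespace Cfsg.Agent.Lib.Helper48_FpfMain

open Cfsg.Agent.Lib.Helper47_PLocal Cfsg.Agent.Lib.Helper47_SubAPI
open Cfsg.Agent.Lib.Helper48_FpfRedA Cfsg.Agent.Lib.Helper48_FpfRedB Cfsg.Agent.Lib.Helper48_FpfDefs

variable {G : Type*} [Group G]

/-- the `𝔏`-axioms in ambient form -/
theorem lData_of_frakL [Finite G] {p : ℕ} [Fact p.Prime] {M L : Subgroup G}
    (hL : Cfsg.IsInFrakL p M L) :
    LData p L (Cfsg.largestPReducedOf p M) (Cfsg.pCoreOf p L) := by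
  obtain ⟨h1, h2, h3, h4, h5, h6, -⟩ := hL
  have hY := (pRedIn_largestPReducedOf p M).2.2.1
  refine { hYL := h1, hYc := ?_, hYe := hY.2, hAL := pCoreOf_le L,
           hLA := le_normalizer_pCoreOf L, hAp := isPGroup_pCoreOf L, hAY := h3,
           hcl := ?_, hgenY := ?_, hprop := ?_, hmax := ?_, hchar := ?_ }
  · intro y hy z hz
    have h := hY.1.is_comm.comm (⟨y, hy⟩ : ↥(Cfsg.largestPReducedOf p M)) ⟨z, hz⟩
    exact congrArg Subtype.val h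
  · intro E hUE hLE
    refine h2.le.trans ?_
    have hn : (E.subgroupOf L).Normal := Subgroup.normal_subgroupOf_of_le_normalizer hLE
    have h8 : Subgroup.normalClosure
        ((((Cfsg.largestPReducedOf p M ⊓ Cfsg.pCoreOf p L).subgroupOf L : Subgroup ↥L)) : Set ↥L) ≤
        E.subgroupOf L :=
      Subgroup.normalClosure_le_normal (Subgroup.comap_mono hUE)
    refine (Subgroup.map_mono h8).trans ?_
    rw [Subgroup.subgroupOf_map_subtype]
    exact inf_le_left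
  · intro E hYE hLE
    have hn : (E.subgroupOf L).Normal := Subgroup.normal_subgroupOf_of_le_normalizer hLE
    have h8 : Subgroup.normalClosure
        ((((Cfsg.largestPReducedOf p M).subgroupOf L : Subgroup ↥L)) : Set ↥L) ≤
        E.subgroupOf L :=
      Subgroup.normalClosure_le_normal (Subgroup.comap_mono hYE)
    rw [h4.1] at h8
    exact Subgroup.subgroupOf_eq_top.mp (top_le_iff.mp h8)
  · exact fun h => h6.1.ne (inf_eq_left.mpr h)
  · exact fun X hYX hXL => (h6.2 X hYX hXL).trans inf_le_right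
  · intro c hc hcomm
    have h9 : (⟨c, hc⟩ : ↥L) ∈ Subgroup.centralizer (Cfsg.pCore p ↥L : Set ↥L) := by
      rw [Subgroup.mem_centralizer_iff]
      intro a ha
      apply Subtype.ext
      exact (hcomm a ⟨a, ha, rfl⟩).symm
    exact ⟨⟨c, hc⟩, h5 h9, rfl⟩

/-- `|YA/A| = |Y : Y ∩ A|` -/
theorem card_image {p : ℕ} (L Y : Subgroup G) (hYL : Y ≤ L) :
    Nat.card ((Y.subgroupOf L).map (QuotientGroup.mk' (Cfsg.pCore p ↥L))) =
      (Y ⊓ Cfsg.pCoreOf p L).relIndex Y := by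
  rw [← Subgroup.relIndex_ker, QuotientGroup.ker_mk', Subgroup.inf_relIndex_left]
  have h1 : Cfsg.pCore p ↥L = (Cfsg.pCoreOf p L).subgroupOf L :=
    (map_subtype_subgroupOf_map L _).symm
  rw [h1, Subgroup.relIndex_subgroupOf hYL]

/-- an element of `L` whose order is not a power of `p` stays so modulo `O_p(L)` -/
theorem not_pow_of_not_pow [Finite G] {p : ℕ} [hp : Fact p.Prime] (L : Subgroup G) {h : G} (hh : h ∈ L)
    (hnp : ¬ ∃ k : ℕ, orderOf h = p ^ k) :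
    ¬ ∃ k : ℕ, orderOf (QuotientGroup.mk' (Cfsg.pCore p ↥L) ⟨h, hh⟩) = p ^ k := by
  rintro ⟨k, hk⟩
  apply hnp
  have h1 : (QuotientGroup.mk' (Cfsg.pCore p ↥L) ⟨h, hh⟩) ^ (p ^ k) = 1 := by
    rw [← hk]; exact pow_orderOf_eq_one _
  rw [← map_pow] at h1
  have h2 : (⟨h, hh⟩ : ↥L) ^ (p ^ k) ∈ Cfsg.pCore p ↥L := by
    have := (QuotientGroup.eq_one_iff _).mp h1
    exact this
  obtain ⟨j, hj⟩ := pCore_isPGroup p ↥L ⟨_, h2⟩
  have h3 : h ^ (p ^ (k + j)) = 1 := by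
    have h4 := congrArg (fun z : ↥(Cfsg.pCore p ↥L) => ((z : ↥L) : G)) hj
    simp only [Subgroup.coe_pow, Subgroup.coe_one] at h4
    rw [pow_add, pow_mul]
    exact h4
  obtain ⟨i, -, hi⟩ := (Nat.dvd_prime_pow hp.out).mp (orderOf_dvd_of_pow_eq_one h3)
  exact ⟨i, hi⟩

/-- **S2863**, in terms of `LData`. -/
theorem main_aux [Finite G] {p : ℕ} [Fact p.Prime] {L Y : Subgroup G}
    (d : LData p L Y (Cfsg.pCoreOf p L))
    (h7 : (∃ (F : Type) (_ : Field F) (_ : Fintype F),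
        Fintype.card F = (Y ⊓ Cfsg.pCoreOf p L).relIndex Y ∧
          Nonempty (↥L ⧸ Cfsg.pCore p ↥L ≃* Matrix.SpecialLinearGroup (Fin 2) F)) ∨
      (p = 2 ∧ ∃ (F : Type) (_ : Field F) (_ : Fintype F) (m : ℕ),
        Fintype.card F = 2 ^ (2 * m + 1) ∧
          Fintype.card F = (Y ⊓ Cfsg.pCoreOf p L).relIndex Y ∧
            Nonempty (↥L ⧸ Cfsg.pCore p ↥L ≃* ↥(Cfsg.Lie.Sz F (2 ^ (m + 1))))) ∨
      (p = 2 ∧ ∃ r : ℕ, r.Prime ∧ r ≠ 2 ∧
        Nonempty (↥L ⧸ Cfsg.pCore p ↥L ≃* DihedralGroup r)))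
    (h : G) (hh : h ∈ L) (hnp : ¬ ∃ k : ℕ, orderOf h = p ^ k) :
    ∀ a ∈ Cfsg.pCoreOf p L, h * a * h⁻¹ * a⁻¹ ∈ CC L Y → a ∈ CC L Y := by
  have hC : (CC L Y).subgroupOf L ≤ Subgroup.center ↥L := by
    intro c hc
    rw [Subgroup.mem_center_iff]
    intro g
    apply Subtype.ext
    exact LData.CC_comm g.2 (Subgroup.mem_subgroupOf.mp hc)
  have hCA : (CC L Y).subgroupOf L ≤ Cfsg.pCore p ↥L := by
    intro c hc
    obtain ⟨a', ha', h1⟩ := d.CC_le_A (Subgroup.mem_subgroupOf.mp hc)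
    have h2 : a' = c := Subtype.ext h1
    rwa [h2] at ha'
  have hcomm : ∀ a ∈ Cfsg.pCore p ↥L, ∀ b ∈ Cfsg.pCore p ↥L,
      a * b * a⁻¹ * b⁻¹ ∈ (CC L Y).subgroupOf L := by
    intro a ha b hb
    rw [Subgroup.mem_subgroupOf]
    exact d.comm_mem_CC _ ⟨a, ha, rfl⟩ _ ⟨b, hb, rfl⟩
  have hAp : IsPGroup p (Cfsg.pCore p ↥L) := pCore_isPGroup p _
  obtain ⟨Mod, iM, iF, ρ, π, hcard, hsurj, hadd, hker, hact⟩ :=
    Cfsg.Agent.Lib.Helper70_Fpf_MOD.module_of_section (Cfsg.pCore p ↥L)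
      ((CC L Y).subgroupOf L) hC hCA hcomm hAp
  have md : ModData L Y (Cfsg.pCoreOf p L) p (Cfsg.pCore p ↥L) ρ π :=
    { hA' := rfl, hcard := hcard, hsurj := hsurj, hadd := hadd,
      hker := fun a => (hker a).trans Subgroup.mem_subgroupOf, hact := hact }
  have hF := fpfHyp d md
  have hPcard := card_image (p := p) L Y d.hYL
  have hnp' := not_pow_of_not_pow L hh hnp
  have hconcl : Concl p ρ := by
    rcases h7 with ⟨F, iF1, iF2, hFc, ⟨e⟩⟩ | ⟨rfl, F, iF1, iF2, m, hF2, hFc, ⟨e⟩⟩ |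
      ⟨rfl, r, hr, hr2, ⟨e⟩⟩
    · exact Cfsg.Agent.Lib.Helper5_Fpf_SL.fpf_sl ρ _ hF F (hPcard.trans hFc.symm) e
    · rcases Nat.eq_zero_or_pos m with rfl | hm
      · exfalso
        have hF2' : Fintype.card F = 2 := by simpa using hF2
        exact Cfsg.Agent.Lib.Helper91_Fpf_SZZERO.sz_zero_false _ F hF2'
          (by rw [hPcard, ← hFc]; exact hF2') e hF.ne hF.gen
      · exact Cfsg.Agent.Lib.Helper84_Fpf_SZ.fpf_sz ρ _ hF
          (fun ρ' P' => Cfsg.Agent.Lib.Helper63_Fpf_REAL.fpf_of_real ρ' P') F m hm hF2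
          (hPcard.trans hFc.symm) e
          (fun g => Cfsg.Agent.Lib.Helper47_Fpf_SZREAL.sz_real hm hF2 g)
          (fun Q hc he hq x hx t ht ht1 => Cfsg.Agent.Lib.Helper47_Fpf_SZSEMI.sz_semi hm hF2 Q hc he hq x hx t ht ht1)
    · exact Cfsg.Agent.Lib.Helper64_Fpf_FPF_DIH.fpf_dihedral ρ _ hF
        (fun ρ' P' => Cfsg.Agent.Lib.Helper63_Fpf_REAL.fpf_of_real ρ' P') r hr hr2 e
  intro a ha hfix
  obtain ⟨a', ha'⟩ := md.lift ha
  have h1 : ρ (QuotientGroup.mk' (Cfsg.pCore p ↥L) ⟨h, hh⟩) (π a') = π a' := by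
    rw [md.fix_iff, ha']
    exact hfix
  have h2 := hconcl _ hnp' _ h1
  rw [md.hker, ha'] at h2
  exact h2

end Cfsg.Agent.Lib.Helper48_FpfMain
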