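import Cfsg.Agent.Lib.Helper48_Asym

/-!
# S2863, reduction part A (helper48): group theory inside the ambient group

`L` with a subgroup `Y` (elementary abelian) and a normal `p`-subgroup `A` as in `𝔏_G(Y_M)`.
-/

set_option autoImplicit false

namespace Cfsg.Agent.Lib.Helper48_FpfRedA

open Cfsg.Agent.Lib.Helper47_Conj Cfsg.Agent.Lib.Helper47_WC2 Cfsg.Agent.Lib.Helper48_Asym

variable {G : Type*} [Group G]

/-- `S ≤ N(E)` from element-wise conjugation -/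
theorem le_normalizer_of_conj_mem {S E : Subgroup G}
    (h : ∀ s ∈ S, ∀ e ∈ E, s * e * s⁻¹ ∈ E) : S ≤ Subgroup.normalizer (E : Set G) := by
  intro s hs
  rw [Subgroup.mem_normalizer_iff]
  intro e
  constructor
  · exact h s hs e
  · intro he
    have h1 := h s⁻¹ (S.inv_mem hs) _ he
    have h2 : s⁻¹ * (s * e * s⁻¹) * s⁻¹⁻¹ = e := by group
    rwa [h2] at h1

theorem comm_swap {C : Subgroup G} {a b : G} (h : a * b * a⁻¹ * b⁻¹ ∈ C) :
    b * a * b⁻¹ * a⁻¹ ∈ C := by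
  have h1 : b * a * b⁻¹ * a⁻¹ = (a * b * a⁻¹ * b⁻¹)⁻¹ := by group
  rw [h1]; exact C.inv_mem h

/-- `{a ∈ L | [a,t] ∈ C}` as a subgroup, for `C` central in `L` -/
def commSub (L C : Subgroup G) (hC : ∀ l ∈ L, ∀ c ∈ C, l * c = c * l) (t : G) : Subgroup G where
  carrier := {a | a ∈ L ∧ a * t * a⁻¹ * t⁻¹ ∈ C}
  one_mem' := ⟨L.one_mem, by simp⟩
  mul_mem' := by
    rintro a b ⟨ha, hac⟩ ⟨hb, hbc⟩
    refine ⟨L.mul_mem ha hb, ?_⟩
    have h1 : a * b * t * (a * b)⁻¹ * t⁻¹ =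
        a * (b * t * b⁻¹ * t⁻¹) * a⁻¹ * (a * t * a⁻¹ * t⁻¹) := by group
    rw [h1, hC a ha _ hbc]
    have h2 : b * t * b⁻¹ * t⁻¹ * a * a⁻¹ * (a * t * a⁻¹ * t⁻¹) =
        (b * t * b⁻¹ * t⁻¹) * (a * t * a⁻¹ * t⁻¹) := by group
    rw [h2]; exact C.mul_mem hbc hac
  inv_mem' := by
    rintro a ⟨ha, hac⟩
    refine ⟨L.inv_mem ha, ?_⟩
    have h1 : a⁻¹ * t * a⁻¹⁻¹ * t⁻¹ = a⁻¹ * (a * t * a⁻¹ * t⁻¹)⁻¹ * a := by group
    rw [h1]
    have h2 := hC a⁻¹ (L.inv_mem ha) _ (C.inv_mem hac)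
    rw [h2]
    have h3 : (a * t * a⁻¹ * t⁻¹)⁻¹ * a⁻¹ * a = (a * t * a⁻¹ * t⁻¹)⁻¹ := by group
    rw [h3]; exact C.inv_mem hac

/-- the ambient form of the `𝔏`-axioms that are used -/
structure LData (p : ℕ) (L Y A : Subgroup G) : Prop where
  hYL : Y ≤ L
  hYc : ∀ y ∈ Y, ∀ z ∈ Y, y * z = z * y
  hYe : ∀ y ∈ Y, y ^ p = 1
  hAL : A ≤ L
  hLA : L ≤ Subgroup.normalizer (A : Set G)
  hAp : IsPGroup p A
  hAY : A ≤ Subgroup.normalizer (Y : Set G)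
  hcl : ∀ E : Subgroup G, Y ⊓ A ≤ E → L ≤ Subgroup.normalizer (E : Set G) → A ≤ E
  hgenY : ∀ E : Subgroup G, Y ≤ E → L ≤ Subgroup.normalizer (E : Set G) → L ≤ E
  hprop : ¬ L ≤ Subgroup.normalizer (Y : Set G)
  hmax : ∀ X : Subgroup G, Y ≤ X → X < L → X ≤ Subgroup.normalizer (Y : Set G)
  hchar : ∀ c ∈ L, (∀ a ∈ A, c * a = a * c) → c ∈ A

/-- `C = C_Y(L)` -/
def CC (L Y : Subgroup G) : Subgroup G := Y ⊓ Subgroup.centralizer (L : Set G)

theorem mem_CC {L Y : Subgroup G} {c : G} :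
    c ∈ CC L Y ↔ c ∈ Y ∧ ∀ l ∈ L, l * c = c * l := by
  unfold CC
  rw [Subgroup.mem_inf, Subgroup.mem_centralizer_iff]
  rfl

namespace LData

variable {p : ℕ} {L Y A : Subgroup G}

theorem conj_mem_A (d : LData p L Y A) {l a : G} (hl : l ∈ L) (ha : a ∈ A) :
    l * a * l⁻¹ ∈ A := by
  have := (Subgroup.mem_normalizer_iff.mp (d.hLA hl) a).mp ha
  exact this

theorem conj_mem_Y (d : LData p L Y A) {a y : G} (ha : a ∈ A) (hy : y ∈ Y) :
    a * y * a⁻¹ ∈ Y :=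
  (Subgroup.mem_normalizer_iff.mp (d.hAY ha) y).mp hy

theorem CC_le_A (d : LData p L Y A) : CC L Y ≤ A := by
  intro c hc
  rw [mem_CC] at hc
  apply d.hchar c (d.hYL hc.1)
  intro a ha
  exact (hc.2 a (d.hAL ha)).symm

theorem CC_comm {l c : G} (hl : l ∈ L) (hc : c ∈ CC L Y) : l * c = c * l :=
  (mem_CC.mp hc).2 l hl

/-- the commutator `[y, a]` for `y ∈ Y`, `a ∈ A` lies in `Y ∩ A` -/
theorem comm_mem (d : LData p L Y A) {y a : G} (hy : y ∈ Y) (ha : a ∈ A) :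
    y * a * y⁻¹ * a⁻¹ ∈ Y ⊓ A := by
  constructor
  · have h1 : a * y⁻¹ * a⁻¹ ∈ Y := d.conj_mem_Y ha (Y.inv_mem hy)
    have h2 : y * a * y⁻¹ * a⁻¹ = y * (a * y⁻¹ * a⁻¹) := by group
    rw [h2]
    exact Y.mul_mem hy h1
  · exact A.mul_mem (d.conj_mem_A (d.hYL hy) ha) (A.inv_mem ha)

/-- quadratic action, exactly -/
theorem quad (d : LData p L Y A) {y z a : G} (hy : y ∈ Y) (hz : z ∈ Y) (ha : a ∈ A) :
    y * (z * a * z⁻¹ * a⁻¹) * y⁻¹ = z * a * z⁻¹ * a⁻¹ := by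
  have h := (d.comm_mem hz ha).1
  rw [d.hYc y hy _ h]
  group

theorem exists_not_mem (d : LData p L Y A) :
    ∃ x ∈ L, x ∉ Subgroup.normalizer (Y : Set G) := by
  by_contra h
  apply d.hprop
  intro x hx
  by_contra hxn
  exact h ⟨x, hx, hxn⟩

/-- conjugation by an element of `L` preserves `L` -/
theorem map_conj_L {x : G} (hx : x ∈ L) : L.map (MulAut.conj x).toMonoidHom = L :=
  map_conj_eq_self_of_mem hx

/-- **R2**: two non-normalizing conjugates of `Y` generate `L`. -/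
theorem sup_conj_eq [Finite G] (d : LData p L Y A) {x : G} (hx : x ∈ L)
    (hxn : x ∉ Subgroup.normalizer (Y : Set G)) :
    Y ⊔ Y.map (MulAut.conj x).toMonoidHom = L := by
  set N : Subgroup G := L ⊓ Subgroup.normalizer (Y : Set G) with hN
  have hYx : Y.map (MulAut.conj x).toMonoidHom ≤ L := by
    rw [← map_conj_L hx]
    exact Subgroup.map_mono d.hYL
  have hXL : Y ⊔ Y.map (MulAut.conj x).toMonoidHom ≤ L := sup_le d.hYL hYx
  by_contra hne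
  have hlt : Y ⊔ Y.map (MulAut.conj x).toMonoidHom < L := lt_of_le_of_ne hXL hne
  have h1 := d.hmax _ le_sup_left hlt
  -- `Y^x ≤ N`
  have hYxN : Y.map (MulAut.conj x).toMonoidHom ≤ N := le_inf hYx (le_sup_right.trans h1)
  have hNL : N < L := by
    refine lt_of_le_of_ne inf_le_left ?_
    intro h
    apply d.hprop
    rw [← h]
    exact inf_le_right
  -- `N^{x⁻¹}` contains `Y` and is proper
  have h2 : Y ≤ N.map (MulAut.conj x⁻¹).toMonoidHom := (map_conj_le_iff x Y N).mp hYxN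
  have h3 : N.map (MulAut.conj x⁻¹).toMonoidHom < L := by
    have hle : N.map (MulAut.conj x⁻¹).toMonoidHom ≤ L := by
      rw [← map_conj_L (L.inv_mem hx)]
      exact Subgroup.map_mono hNL.le
    refine lt_of_le_of_ne hle ?_
    intro h
    have h4 : Nat.card (N.map (MulAut.conj x⁻¹).toMonoidHom) = Nat.card N :=
      Subgroup.card_map_of_injective (MulAut.conj x⁻¹).injective
    rw [h] at h4
    exact absurd (Subgroup.eq_of_le_of_card_ge hNL.le (le_of_eq h4)) hNL.ne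
  have h5 : N.map (MulAut.conj x⁻¹).toMonoidHom ≤ N :=
    le_inf h3.le (d.hmax _ h2 h3)
  have h6 : x⁻¹ ∈ Subgroup.normalizer (N : Set G) :=
    mem_normalizer_iff_map_conj_eq'.mpr (map_conj_eq_of_le h5)
  have h7 : x ∈ Subgroup.normalizer (N : Set G) := by
    have := (Subgroup.normalizer (N : Set G)).inv_mem h6
    rwa [inv_inv] at this
  -- `K = N_L(N)`
  set K : Subgroup G := L ⊓ Subgroup.normalizer (N : Set G) with hK
  have hYK : Y ≤ K := le_inf d.hYL ((le_inf d.hYL Subgroup.le_normalizer).trans Subgroup.le_normalizer)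
  have hxK : x ∈ K := ⟨hx, h7⟩
  by_cases hKL : K = L
  · have h8 : L ≤ Subgroup.normalizer (N : Set G) := by
      rw [← hKL]; exact inf_le_right
    have h9 := d.hgenY N (le_inf d.hYL Subgroup.le_normalizer) h8
    exact absurd (le_antisymm hNL.le h9) hNL.ne
  · have h8 := d.hmax K hYK (lt_of_le_of_ne inf_le_left hKL)
    exact hxn (h8 hxK)

/-- `A ≤ N(Y^x)` for `x ∈ L` -/
theorem A_le_normalizer_conj (d : LData p L Y A) {x : G} (hx : x ∈ L) :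
    A ≤ Subgroup.normalizer ((Y.map (MulAut.conj x).toMonoidHom : Subgroup G) : Set G) := by
  rw [normalizer_map_conj]
  have h1 : A.map (MulAut.conj x).toMonoidHom = A :=
    mem_normalizer_iff_map_conj_eq'.mp (d.hLA hx)
  rw [← h1]
  exact Subgroup.map_mono d.hAY

/-- elements of `Y ∩ Y^x` are central in `L` -/
theorem mem_CC_of_mem_inf [Finite G] (d : LData p L Y A) {x : G} (hx : x ∈ L)
    (hxn : x ∉ Subgroup.normalizer (Y : Set G)) {c : G} (hc : c ∈ Y)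
    (hc' : c ∈ Y.map (MulAut.conj x).toMonoidHom) : c ∈ CC L Y := by
  rw [mem_CC]
  refine ⟨hc, ?_⟩
  have h1 : L ≤ Subgroup.centralizer ({c} : Set G) := by
    rw [← d.sup_conj_eq hx hxn]
    apply sup_le
    · intro y hy
      rw [Subgroup.mem_centralizer_singleton_iff]
      exact d.hYc y hy c hc
    · rintro _ ⟨y, hy, rfl⟩
      obtain ⟨c₀, hc₀, rfl⟩ := hc'
      rw [Subgroup.mem_centralizer_singleton_iff]
      simp only [MulEquiv.coe_toMonoidHom, MulAut.conj_apply]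
      have := d.hYc y hy c₀ hc₀
      calc x * y * x⁻¹ * (x * c₀ * x⁻¹) = x * (y * c₀) * x⁻¹ := by group
        _ = x * (c₀ * y) * x⁻¹ := by rw [this]
        _ = x * c₀ * x⁻¹ * (x * y * x⁻¹) := by group
  intro l hl
  have := Subgroup.mem_centralizer_singleton_iff.mp (h1 hl)
  exact this

/-- `(x y x⁻¹)`-commutators with `A` land in `(Y ∩ A)^x` -/
theorem conjY_comm_mem (d : LData p L Y A) {x y a : G} (hx : x ∈ L) (hy : y ∈ Y) (ha : a ∈ A) :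
    (x * y * x⁻¹) * a * (x * y * x⁻¹)⁻¹ * a⁻¹ ∈ (Y ⊓ A).map (MulAut.conj x).toMonoidHom := by
  have ha' : x⁻¹ * a * x ∈ A := by
    have := d.conj_mem_A (L.inv_mem hx) ha
    rwa [inv_inv] at this
  refine ⟨y * (x⁻¹ * a * x) * y⁻¹ * (x⁻¹ * a * x)⁻¹, d.comm_mem hy ha', ?_⟩
  simp only [MulEquiv.coe_toMonoidHom, MulAut.conj_apply]
  group

theorem map_inf_le_A (d : LData p L Y A) {x : G} (hx : x ∈ L) :
    (Y ⊓ A).map (MulAut.conj x).toMonoidHom ≤ A := by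
  rintro _ ⟨u, hu, rfl⟩
  exact d.conj_mem_A hx hu.2

/-- **R3**: `A = (Y ∩ A)(Y ∩ A)^x`. -/
theorem A_le_sup [Finite G] (d : LData p L Y A) {x : G} (hx : x ∈ L)
    (hxn : x ∉ Subgroup.normalizer (Y : Set G)) :
    A ≤ (Y ⊓ A) ⊔ (Y ⊓ A).map (MulAut.conj x).toMonoidHom := by
  have hWA := d.map_inf_le_A hx
  apply d.hcl _ le_sup_left
  refine le_trans (le_of_eq (d.sup_conj_eq hx hxn).symm) (sup_le ?_ ?_)
  · apply le_normalizer_of_conj_mem
    intro y hy e he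
    have hle : (Y ⊓ A) ⊔ (Y ⊓ A).map (MulAut.conj x).toMonoidHom ≤
        ((Y ⊓ A) ⊔ (Y ⊓ A).map (MulAut.conj x).toMonoidHom).comap (MulAut.conj y).toMonoidHom := by
      apply sup_le
      · intro u hu
        rw [Subgroup.mem_comap]
        simp only [MulEquiv.coe_toMonoidHom, MulAut.conj_apply]
        have h1 : y * u * y⁻¹ = u := by rw [d.hYc y hy u hu.1]; group
        rw [h1]; exact Subgroup.mem_sup_left hu
      · intro w hw
        rw [Subgroup.mem_comap]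
        simp only [MulEquiv.coe_toMonoidHom, MulAut.conj_apply]
        have h1 := d.comm_mem hy (hWA hw)
        have h2 : y * w * y⁻¹ = (y * w * y⁻¹ * w⁻¹) * w := by group
        rw [h2]
        exact Subgroup.mul_mem _ (Subgroup.mem_sup_left h1) (Subgroup.mem_sup_right hw)
    have := hle he
    rw [Subgroup.mem_comap] at this
    simpa only [MulEquiv.coe_toMonoidHom, MulAut.conj_apply] using this
  · apply le_normalizer_of_conj_mem
    rintro _ ⟨y, hy, rfl⟩ e he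
    simp only [MulEquiv.coe_toMonoidHom, MulAut.conj_apply]
    have hle : (Y ⊓ A) ⊔ (Y ⊓ A).map (MulAut.conj x).toMonoidHom ≤
        ((Y ⊓ A) ⊔ (Y ⊓ A).map (MulAut.conj x).toMonoidHom).comap
          (MulAut.conj (x * y * x⁻¹)).toMonoidHom := by
      apply sup_le
      · intro u hu
        rw [Subgroup.mem_comap]
        simp only [MulEquiv.coe_toMonoidHom, MulAut.conj_apply]
        have h1 := d.conjY_comm_mem hx hy hu.2
        have h2 : (x * y * x⁻¹) * u * (x * y * x⁻¹)⁻¹ =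
            ((x * y * x⁻¹) * u * (x * y * x⁻¹)⁻¹ * u⁻¹) * u := by group
        rw [h2]
        exact Subgroup.mul_mem _ (Subgroup.mem_sup_right h1) (Subgroup.mem_sup_left hu)
      · rintro _ ⟨u, hu, rfl⟩
        rw [Subgroup.mem_comap]
        simp only [MulEquiv.coe_toMonoidHom, MulAut.conj_apply]
        have h1 : (x * y * x⁻¹) * (x * u * x⁻¹) * (x * y * x⁻¹)⁻¹ = x * u * x⁻¹ := by
          have h3 := d.hYc y hy u hu.1
          calc (x * y * x⁻¹) * (x * u * x⁻¹) * (x * y * x⁻¹)⁻¹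
              = x * (y * u) * y⁻¹ * x⁻¹ := by group
            _ = x * (u * y) * y⁻¹ * x⁻¹ := by rw [h3]
            _ = x * u * x⁻¹ := by group
        rw [h1]
        exact Subgroup.mem_sup_right ⟨u, hu, rfl⟩
    have := hle he
    rw [Subgroup.mem_comap] at this
    simpa only [MulEquiv.coe_toMonoidHom, MulAut.conj_apply] using this

/-- every element of `A` is a product `u * (x w₀ x⁻¹)` with `u, w₀ ∈ Y ∩ A` -/
theorem exists_decomp [Finite G] (d : LData p L Y A) {x : G} (hx : x ∈ L)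
    (hxn : x ∉ Subgroup.normalizer (Y : Set G)) {a : G} (ha : a ∈ A) :
    ∃ u ∈ Y ⊓ A, ∃ w₀ ∈ Y ⊓ A, a = u * (x * w₀ * x⁻¹) := by
  have hWA := d.map_inf_le_A hx
  have hnorm : (Y ⊓ A).map (MulAut.conj x).toMonoidHom ≤
      Subgroup.normalizer ((Y ⊓ A : Subgroup G) : Set G) := by
    apply le_normalizer_of_conj_mem
    intro w hw e he
    exact ⟨d.conj_mem_Y (hWA hw) he.1,
      A.mul_mem (A.mul_mem (hWA hw) he.2) (A.inv_mem (hWA hw))⟩
  obtain ⟨u, hu, w, hw, rfl⟩ :=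
    exists_mul_of_mem_sup_of_le_normalizer hnorm (d.A_le_sup hx hxn ha)
  obtain ⟨w₀, hw₀, rfl⟩ := hw
  exact ⟨u, hu, w₀, hw₀, rfl⟩

/-- **R4**: `A / C` is abelian. -/
theorem comm_mem_CC [Finite G] (d : LData p L Y A) :
    ∀ a ∈ A, ∀ b ∈ A, a * b * a⁻¹ * b⁻¹ ∈ CC L Y := by
  obtain ⟨x, hx, hxn⟩ := d.exists_not_mem
  have hC : ∀ l ∈ L, ∀ c ∈ CC L Y, l * c = c * l := fun l hl c hc => CC_comm hl hc
  have hWA := d.map_inf_le_A hx
  have hUW : ∀ u ∈ Y ⊓ A, ∀ w ∈ (Y ⊓ A).map (MulAut.conj x).toMonoidHom,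
      u * w * u⁻¹ * w⁻¹ ∈ CC L Y := by
    intro u hu w hw
    apply d.mem_CC_of_mem_inf hx hxn
    · exact (d.comm_mem hu.1 (hWA hw)).1
    · obtain ⟨w₀, hw₀, rfl⟩ := hw
      have h1 := d.conjY_comm_mem hx hw₀.1 hu.2
      have h2 := Subgroup.map_mono (f := (MulAut.conj x).toMonoidHom)
        (inf_le_left : Y ⊓ A ≤ Y) h1
      simp only [MulEquiv.coe_toMonoidHom, MulAut.conj_apply]
      exact comm_swap h2
  have hUU : ∀ u ∈ Y ⊓ A, ∀ u' ∈ Y ⊓ A, u * u' * u⁻¹ * u'⁻¹ ∈ CC L Y := by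
    intro u hu u' hu'
    have : u * u' * u⁻¹ * u'⁻¹ = 1 := by rw [d.hYc u hu.1 u' hu'.1]; group
    rw [this]; exact Subgroup.one_mem _
  have hWW : ∀ w ∈ (Y ⊓ A).map (MulAut.conj x).toMonoidHom,
      ∀ w' ∈ (Y ⊓ A).map (MulAut.conj x).toMonoidHom, w * w' * w⁻¹ * w'⁻¹ ∈ CC L Y := by
    rintro _ ⟨u, hu, rfl⟩ _ ⟨u', hu', rfl⟩
    simp only [MulEquiv.coe_toMonoidHom, MulAut.conj_apply]
    have h3 := d.hYc u hu.1 u' hu'.1
    have : (x * u * x⁻¹) * (x * u' * x⁻¹) * (x * u * x⁻¹)⁻¹ * (x * u' * x⁻¹)⁻¹ = 1 := by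
      calc (x * u * x⁻¹) * (x * u' * x⁻¹) * (x * u * x⁻¹)⁻¹ * (x * u' * x⁻¹)⁻¹
          = x * (u * u') * u⁻¹ * u'⁻¹ * x⁻¹ := by group
        _ = x * (u' * u) * u⁻¹ * u'⁻¹ * x⁻¹ := by rw [h3]
        _ = 1 := by group
    rw [this]; exact Subgroup.one_mem _
  have hAle := d.A_le_sup hx hxn
  have step1U : ∀ t ∈ Y ⊓ A, ∀ a ∈ A, a * t * a⁻¹ * t⁻¹ ∈ CC L Y := by
    intro t ht a ha
    have hle : (Y ⊓ A) ⊔ (Y ⊓ A).map (MulAut.conj x).toMonoidHom ≤ commSub L (CC L Y) hC t := by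
      apply sup_le
      · intro u hu; exact ⟨d.hAL hu.2, hUU u hu t ht⟩
      · intro w hw; exact ⟨d.hAL (hWA hw), comm_swap (hUW t ht w hw)⟩
    exact (hle (hAle ha)).2
  have step1W : ∀ t ∈ (Y ⊓ A).map (MulAut.conj x).toMonoidHom, ∀ a ∈ A,
      a * t * a⁻¹ * t⁻¹ ∈ CC L Y := by
    intro t ht a ha
    have hle : (Y ⊓ A) ⊔ (Y ⊓ A).map (MulAut.conj x).toMonoidHom ≤ commSub L (CC L Y) hC t := by
      apply sup_le
      · intro u hu; exact ⟨d.hAL hu.2, hUW u hu t ht⟩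
      · intro w hw; exact ⟨d.hAL (hWA hw), hWW w hw t ht⟩
    exact (hle (hAle ha)).2
  intro a ha b hb
  have hle : (Y ⊓ A) ⊔ (Y ⊓ A).map (MulAut.conj x).toMonoidHom ≤ commSub L (CC L Y) hC a := by
    apply sup_le
    · intro u hu; exact ⟨d.hAL hu.2, comm_swap (step1U u hu a ha)⟩
    · intro w hw; exact ⟨d.hAL (hWA hw), comm_swap (step1W w hw a ha)⟩
  exact comm_swap (hle (hAle hb)).2

/-- an element whose commutators with `L` lie in a central subgroup, and which commutes with a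
conjugate of `Y`, is centralized by `L` -/
theorem central_of_comm (d : LData p L Y A) {C : Subgroup G}
    (hC : ∀ l ∈ L, ∀ c ∈ C, l * c = c * l) {w : G}
    (h1 : ∀ l ∈ L, l * w * l⁻¹ * w⁻¹ ∈ C) {x : G} (hx : x ∈ L)
    (h2 : ∀ y ∈ Y, (x * y * x⁻¹) * w = w * (x * y * x⁻¹)) : ∀ l ∈ L, l * w = w * l := by
  have hKn : L ≤ Subgroup.normalizer
      ((L ⊓ Subgroup.centralizer ({w} : Set G) : Subgroup G) : Set G) := by
    apply le_normalizer_of_conj_mem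
    intro l hl k hk
    refine ⟨L.mul_mem (L.mul_mem hl hk.1) (L.inv_mem hl), ?_⟩
    show l * k * l⁻¹ ∈ Subgroup.centralizer ({w} : Set G)
    rw [Subgroup.mem_centralizer_singleton_iff]
    have hc := h1 l⁻¹ (L.inv_mem hl)
    have e1 : l⁻¹ * w * l = (l⁻¹ * w * l⁻¹⁻¹ * w⁻¹) * w := by group
    have hkc : k * (l⁻¹ * w * l⁻¹⁻¹ * w⁻¹) = (l⁻¹ * w * l⁻¹⁻¹ * w⁻¹) * k := hC k hk.1 _ hc
    have hkw : k * w = w * k := Subgroup.mem_centralizer_singleton_iff.mp hk.2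
    generalize l⁻¹ * w * l⁻¹⁻¹ * w⁻¹ = c at e1 hkc
    calc l * k * l⁻¹ * w = l * k * (l⁻¹ * w * l) * l⁻¹ := by group
      _ = l * k * (c * w) * l⁻¹ := by rw [e1]
      _ = l * (k * c) * w * l⁻¹ := by group
      _ = l * (c * k) * w * l⁻¹ := by rw [hkc]
      _ = l * c * (k * w) * l⁻¹ := by group
      _ = l * c * (w * k) * l⁻¹ := by rw [hkw]
      _ = l * (c * w) * k * l⁻¹ := by group
      _ = l * (l⁻¹ * w * l) * k * l⁻¹ := by rw [e1]
      _ = w * (l * k * l⁻¹) := by group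
  have hYK : Y ≤ L ⊓ Subgroup.centralizer ({w} : Set G) := by
    intro y hy
    have h3 : x * y * x⁻¹ ∈ L ⊓ Subgroup.centralizer ({w} : Set G) :=
      ⟨L.mul_mem (L.mul_mem hx (d.hYL hy)) (L.inv_mem hx),
        Subgroup.mem_centralizer_singleton_iff.mpr (h2 y hy)⟩
    have h4 := (Subgroup.mem_normalizer_iff.mp (hKn (L.inv_mem hx)) (x * y * x⁻¹)).mp h3
    have h5 : x⁻¹ * (x * y * x⁻¹) * x⁻¹⁻¹ = y := by group
    rwa [h5] at h4
  have h6 := d.hgenY _ hYK hKn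
  intro l hl
  exact Subgroup.mem_centralizer_singleton_iff.mp (h6 hl).2

/-- **R5**: `C_{A/C}(Y) ∩ C_{A/C}(Y^x) = 0`. -/
theorem cap [Finite G] (d : LData p L Y A) {x : G} (hx : x ∈ L)
    (hxn : x ∉ Subgroup.normalizer (Y : Set G)) {a : G} (ha : a ∈ A)
    (h1 : ∀ y ∈ Y, y * a * y⁻¹ * a⁻¹ ∈ CC L Y)
    (h2 : ∀ y ∈ Y, (x * y * x⁻¹) * a * (x * y * x⁻¹)⁻¹ * a⁻¹ ∈ CC L Y) : a ∈ CC L Y := by
  obtain ⟨u, hu, w₀, hw₀, rfl⟩ := d.exists_decomp hx hxn ha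
  have hC : ∀ l ∈ L, ∀ c ∈ CC L Y, l * c = c * l := fun l hl c hc => CC_comm hl hc
  have hwA : x * w₀ * x⁻¹ ∈ A := d.conj_mem_A hx hw₀.2
  have hsup := d.sup_conj_eq hx hxn
  -- `[y, w] ∈ C`
  have hw1 : ∀ y ∈ Y, y * (x * w₀ * x⁻¹) * y⁻¹ * (x * w₀ * x⁻¹)⁻¹ ∈ CC L Y := by
    intro y hy
    have h3 := h1 y hy
    have h4 : y * u = u * y := d.hYc y hy u hu.1
    have h5 : y * (x * w₀ * x⁻¹) * y⁻¹ * (x * w₀ * x⁻¹)⁻¹ ∈ Y := (d.comm_mem hy hwA).1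
    have h6 := d.hYc u hu.1 _ h5
    have h7 : y * (u * (x * w₀ * x⁻¹)) * y⁻¹ * (u * (x * w₀ * x⁻¹))⁻¹ =
        y * (x * w₀ * x⁻¹) * y⁻¹ * (x * w₀ * x⁻¹)⁻¹ := by
      generalize x * w₀ * x⁻¹ = w at h6 ⊢
      calc y * (u * w) * y⁻¹ * (u * w)⁻¹ = (y * u) * w * y⁻¹ * w⁻¹ * u⁻¹ := by group
        _ = (u * y) * w * y⁻¹ * w⁻¹ * u⁻¹ := by rw [h4]
        _ = u * (y * w * y⁻¹ * w⁻¹) * u⁻¹ := by group
        _ = (y * w * y⁻¹ * w⁻¹) * u * u⁻¹ := by rw [h6]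
        _ = y * w * y⁻¹ * w⁻¹ := by group
    rwa [h7] at h3
  have hw2 : ∀ y ∈ Y, (x * y * x⁻¹) * (x * w₀ * x⁻¹) = (x * w₀ * x⁻¹) * (x * y * x⁻¹) := by
    intro y hy
    have h3 := d.hYc y hy w₀ hw₀.1
    calc x * y * x⁻¹ * (x * w₀ * x⁻¹) = x * (y * w₀) * x⁻¹ := by group
      _ = x * (w₀ * y) * x⁻¹ := by rw [h3]
      _ = (x * w₀ * x⁻¹) * (x * y * x⁻¹) := by group
  have hw3 : ∀ l ∈ L, l * (x * w₀ * x⁻¹) * l⁻¹ * (x * w₀ * x⁻¹)⁻¹ ∈ CC L Y := by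
    intro l hl
    have hle : L ≤ commSub L (CC L Y) hC (x * w₀ * x⁻¹) := by
      refine le_trans (le_of_eq hsup.symm) (sup_le ?_ ?_)
      · intro y hy; exact ⟨d.hYL hy, hw1 y hy⟩
      · rintro _ ⟨y, hy, rfl⟩
        simp only [MulEquiv.coe_toMonoidHom, MulAut.conj_apply]
        refine ⟨L.mul_mem (L.mul_mem hx (d.hYL hy)) (L.inv_mem hx), ?_⟩
        rw [hw2 y hy]
        have : (x * w₀ * x⁻¹) * (x * y * x⁻¹) * (x * y * x⁻¹)⁻¹ * (x * w₀ * x⁻¹)⁻¹ = 1 := by group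
        rw [this]; exact Subgroup.one_mem _
    exact (hle hl).2
  have hw4 := d.central_of_comm hC hw3 hx hw2
  -- `w = w₀`
  have hw5 : x * w₀ * x⁻¹ = w₀ := by
    have h3 := hw4 x⁻¹ (L.inv_mem hx)
    have h4 : w₀ = x⁻¹ * (x * w₀ * x⁻¹) * x := by group
    rw [h3] at h4
    conv_rhs => rw [h4]
    group
  have hwC : x * w₀ * x⁻¹ ∈ CC L Y := by
    rw [mem_CC]
    refine ⟨?_, hw4⟩
    rw [hw5]; exact hw₀.1
  -- now `u`
  have hu1 : ∀ y ∈ Y, (x * y * x⁻¹) * u * (x * y * x⁻¹)⁻¹ * u⁻¹ ∈ CC L Y := by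
    intro y hy
    have h3 := h2 y hy
    have h4 := hw4 (x * y * x⁻¹) (L.mul_mem (L.mul_mem hx (d.hYL hy)) (L.inv_mem hx))
    have h7 : (x * y * x⁻¹) * (u * (x * w₀ * x⁻¹)) * (x * y * x⁻¹)⁻¹ * (u * (x * w₀ * x⁻¹))⁻¹ =
        (x * y * x⁻¹) * u * (x * y * x⁻¹)⁻¹ * u⁻¹ := by
      generalize x * w₀ * x⁻¹ = w at h4 ⊢
      generalize x * y * x⁻¹ = y' at h4 ⊢
      calc y' * (u * w) * y'⁻¹ * (u * w)⁻¹ = y' * u * y'⁻¹ * (y' * w) * y'⁻¹ * w⁻¹ * u⁻¹ := by group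
        _ = y' * u * y'⁻¹ * (w * y') * y'⁻¹ * w⁻¹ * u⁻¹ := by rw [h4]
        _ = y' * u * y'⁻¹ * u⁻¹ := by group
    rwa [h7] at h3
  have hu3 : ∀ l ∈ L, l * u * l⁻¹ * u⁻¹ ∈ CC L Y := by
    intro l hl
    have hle : L ≤ commSub L (CC L Y) hC u := by
      refine le_trans (le_of_eq hsup.symm) (sup_le ?_ ?_)
      · intro y hy
        refine ⟨d.hYL hy, ?_⟩
        have : y * u * y⁻¹ * u⁻¹ = 1 := by rw [d.hYc y hy u hu.1]; group
        rw [this]; exact Subgroup.one_mem _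
      · rintro _ ⟨y, hy, rfl⟩
        simp only [MulEquiv.coe_toMonoidHom, MulAut.conj_apply]
        exact ⟨L.mul_mem (L.mul_mem hx (d.hYL hy)) (L.inv_mem hx), hu1 y hy⟩
    exact (hle hl).2
  have hu4 := d.central_of_comm hC hu3 L.one_mem (fun y hy => by
    simp only [one_mul, inv_one, mul_one]; exact d.hYc y hy u hu.1)
  have huC : u ∈ CC L Y := mem_CC.mpr ⟨hu.1, hu4⟩
  exact Subgroup.mul_mem _ huC hwC

/-- the normalizer of `Y A` in `L` is `N_L(Y)` -/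
theorem mem_normalizer_of_conj_mem_mul [Finite G] (d : LData p L Y A) {x : G} (hx : x ∈ L)
    (h : ∀ y ∈ Y, ∃ y' ∈ Y, ∃ a ∈ A, x * y * x⁻¹ = y' * a) :
    x ∈ Subgroup.normalizer (Y : Set G) := by
  by_contra hxn
  apply d.hprop
  refine le_trans (le_of_eq (d.sup_conj_eq hx hxn).symm) (sup_le Subgroup.le_normalizer ?_)
  rintro _ ⟨y, hy, rfl⟩
  simp only [MulEquiv.coe_toMonoidHom, MulAut.conj_apply]
  obtain ⟨y', hy', a, ha, h1⟩ := h y hy
  rw [h1]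
  exact Subgroup.mul_mem _ (Subgroup.le_normalizer hy') (d.hAY ha)

end LData

end Cfsg.Agent.Lib.Helper48_FpfRedA
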