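import Cfsg.Agent.Lib.Helper48_FpfRedA
import Cfsg.Agent.Lib.Helper48_FpfDefs

/-!
# S2863, reduction part B (helper48): the module `A/C` satisfies `FpfHyp`
-/

set_option autoImplicit false

namespace Cfsg.Agent.Lib.Helper48_FpfRedB

open Cfsg.Agent.Lib.Helper47_Conj Cfsg.Agent.Lib.Helper48_Asym
open Cfsg.Agent.Lib.Helper48_FpfRedA Cfsg.Agent.Lib.Helper48_FpfDefs

variable {G : Type*} [Group G] {p : ℕ} {L Y A : Subgroup G}

/-- the output of package MOD, for `𝔏 = ↥L` -/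
structure ModData (L Y A : Subgroup G) (p : ℕ) (A' : Subgroup ↥L) [hn : A'.Normal]
    {Mod : Type*} [AddCommGroup Mod] (ρ : ↥L ⧸ A' →* AddMonoid.End Mod) (π : A' → Mod) : Prop where
  hA' : A'.map L.subtype = A
  hcard : ∃ k : ℕ, Nat.card Mod = p ^ k
  hsurj : Function.Surjective π
  hadd : ∀ a b : A', π (a * b) = π a + π b
  hker : ∀ a : A', π a = 0 ↔ ((a : ↥L) : G) ∈ CC L Y
  hact : ∀ (g : ↥L) (a : A'), ρ (g : ↥L ⧸ A') (π a) = π ⟨g * a * g⁻¹, hn.conj_mem a a.2 g⟩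

namespace ModData

variable {A' : Subgroup ↥L} [hn : A'.Normal] {Mod : Type*} [AddCommGroup Mod]
  {ρ : ↥L ⧸ A' →* AddMonoid.End Mod} {π : A' → Mod}

theorem pi_one (md : ModData L Y A p A' ρ π) : π 1 = 0 := by
  have h := md.hadd 1 1
  rw [mul_one] at h
  exact left_eq_add.mp h

theorem pi_inv (md : ModData L Y A p A' ρ π) (a : A') : π a⁻¹ = - π a := by
  have h := md.hadd a a⁻¹
  rw [mul_inv_cancel, md.pi_one] at h
  exact (neg_eq_of_add_eq_zero_right h.symm).symm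

theorem pi_div (md : ModData L Y A p A' ρ π) (a b : A') : π (a * b⁻¹) = π a - π b := by
  rw [md.hadd, md.pi_inv, sub_eq_add_neg]

theorem lift (md : ModData L Y A p A' ρ π) {g : G} (hg : g ∈ A) :
    ∃ a' : A', ((a' : ↥L) : G) = g := by
  rw [← md.hA'] at hg
  obtain ⟨l, hl, rfl⟩ := hg
  exact ⟨⟨l, hl⟩, rfl⟩

theorem coe_mem_A (md : ModData L Y A p A' ρ π) (a : A') : ((a : ↥L) : G) ∈ A := by
  rw [← md.hA']
  exact ⟨a, a.2, rfl⟩

theorem act_sub (md : ModData L Y A p A' ρ π) (g : ↥L) (a : A') :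
    ∃ b : A', ρ (QuotientGroup.mk' A' g) (π a) - π a = π b ∧
      ((b : ↥L) : G) = (g : G) * ((a : ↥L) : G) * (g : G)⁻¹ * ((a : ↥L) : G)⁻¹ := by
  refine ⟨⟨g * a * g⁻¹, hn.conj_mem a a.2 g⟩ * a⁻¹, ?_, rfl⟩
  rw [md.pi_div]
  congr 1
  exact md.hact g a

theorem fix_iff (md : ModData L Y A p A' ρ π) (g : ↥L) (a : A') :
    ρ (QuotientGroup.mk' A' g) (π a) = π a ↔
      (g : G) * ((a : ↥L) : G) * (g : G)⁻¹ * ((a : ↥L) : G)⁻¹ ∈ CC L Y := by
  obtain ⟨b, hb1, hb2⟩ := md.act_sub g a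
  rw [← hb2, ← md.hker, ← hb1, sub_eq_zero]

end ModData

section norm

variable {A' : Subgroup ↥L} [hn : A'.Normal]

/-- `N_L(Y)` maps into the normalizer of the image of `Y` -/
theorem mk_mem_normalizer [Finite G] {x : ↥L}
    (hx : (x : G) ∈ Subgroup.normalizer (Y : Set G)) :
    QuotientGroup.mk' A' x ∈
      Subgroup.normalizer (((Y.subgroupOf L).map (QuotientGroup.mk' A') : Subgroup (↥L ⧸ A')) :
        Set (↥L ⧸ A')) := by
  apply mem_normalizer_iff_map_conj_eq'.mpr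
  apply map_conj_eq_of_le
  rintro _ ⟨_, ⟨y, hy, rfl⟩, rfl⟩
  simp only [MulEquiv.coe_toMonoidHom, MulAut.conj_apply]
  rw [← map_inv, ← map_mul, ← map_mul]
  refine ⟨x * y * x⁻¹, ?_, rfl⟩
  show x * y * x⁻¹ ∈ Y.subgroupOf L
  rw [Subgroup.mem_subgroupOf]
  exact (Subgroup.mem_normalizer_iff.mp hx _).mp (Subgroup.mem_subgroupOf.mp hy)

/-- conversely -/
theorem mem_normalizer_of_mk [Finite G] (d : LData p L Y A) (hA' : A'.map L.subtype = A) {x : ↥L}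
    (hx : QuotientGroup.mk' A' x ∈
      Subgroup.normalizer (((Y.subgroupOf L).map (QuotientGroup.mk' A') : Subgroup (↥L ⧸ A')) :
        Set (↥L ⧸ A'))) :
    (x : G) ∈ Subgroup.normalizer (Y : Set G) := by
  apply d.mem_normalizer_of_conj_mem_mul x.2
  intro y hy
  have h1 : QuotientGroup.mk' A' ⟨y, d.hYL hy⟩ ∈ (Y.subgroupOf L).map (QuotientGroup.mk' A') :=
    ⟨⟨y, d.hYL hy⟩, Subgroup.mem_subgroupOf.mpr hy, rfl⟩
  have h2 := (Subgroup.mem_normalizer_iff.mp hx _).mp h1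
  rw [← map_inv, ← map_mul, ← map_mul] at h2
  obtain ⟨y', hy', h3⟩ := h2
  have h4 : y'⁻¹ * (x * ⟨y, d.hYL hy⟩ * x⁻¹) ∈ A' := by
    have := QuotientGroup.eq.mp h3
    exact this
  refine ⟨(y' : G), Subgroup.mem_subgroupOf.mp hy',
    ((y'⁻¹ * (x * ⟨y, d.hYL hy⟩ * x⁻¹) : ↥L) : G), ?_, ?_⟩
  · have h5 : ((y'⁻¹ * (x * ⟨y, d.hYL hy⟩ * x⁻¹) : ↥L) : G) ∈ A'.map L.subtype := ⟨_, h4, rfl⟩
    rw [hA'] at h5
    exact h5
  · simp only [Subgroup.coe_mul, Subgroup.coe_inv]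
    group

end norm

/-- **RED**: the module `A/C` over `L/A` with the image of `Y` satisfies `FpfHyp`. -/
theorem fpfHyp [Finite G] (d : LData p L Y A) {A' : Subgroup ↥L} [hn : A'.Normal]
    {Mod : Type*} [AddCommGroup Mod] {ρ : ↥L ⧸ A' →* AddMonoid.End Mod} {π : A' → Mod}
    (md : ModData L Y A p A' ρ π) :
    FpfHyp p ρ ((Y.subgroupOf L).map (QuotientGroup.mk' A')) where
  card_M := md.hcard
  comm := by
    rintro _ ⟨y, hy, rfl⟩ _ ⟨z, hz, rfl⟩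
    rw [← map_mul, ← map_mul]
    congr 1
    apply Subtype.ext
    exact d.hYc _ (Subgroup.mem_subgroupOf.mp hy) _ (Subgroup.mem_subgroupOf.mp hz)
  exp := by
    rintro _ ⟨y, hy, rfl⟩
    rw [← map_pow]
    have h1 : y ^ p = 1 := Subtype.ext (by
      simpa using d.hYe _ (Subgroup.mem_subgroupOf.mp hy))
    rw [h1, map_one]
  ne := by
    obtain ⟨x, hx, hxn⟩ := d.exists_not_mem
    exact ⟨QuotientGroup.mk' A' ⟨x, hx⟩, fun h => hxn (mem_normalizer_of_mk d md.hA' h)⟩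
  gen := by
    intro xb hxb
    obtain ⟨x, rfl⟩ := QuotientGroup.mk'_surjective A' xb
    have hxn : (x : G) ∉ Subgroup.normalizer (Y : Set G) := fun h => hxb (mk_mem_normalizer h)
    have hsup := d.sup_conj_eq x.2 hxn
    rw [eq_top_iff]
    intro lb _
    obtain ⟨l, rfl⟩ := QuotientGroup.mk'_surjective A' lb
    have hle : L ≤ (((Y.subgroupOf L).map (QuotientGroup.mk' A') ⊔
        ((Y.subgroupOf L).map (QuotientGroup.mk' A')).map
          (MulAut.conj (QuotientGroup.mk' A' x)).toMonoidHom).comap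
            (QuotientGroup.mk' A')).map L.subtype := by
      refine le_trans (le_of_eq hsup.symm) (sup_le ?_ ?_)
      · intro y hy
        refine ⟨⟨y, d.hYL hy⟩, ?_, rfl⟩
        exact Subgroup.mem_sup_left ⟨⟨y, d.hYL hy⟩, Subgroup.mem_subgroupOf.mpr hy, rfl⟩
      · rintro _ ⟨y, hy, rfl⟩
        refine ⟨x * ⟨y, d.hYL hy⟩ * x⁻¹, ?_, rfl⟩
        apply Subgroup.mem_sup_right
        refine ⟨QuotientGroup.mk' A' ⟨y, d.hYL hy⟩,
          ⟨⟨y, d.hYL hy⟩, Subgroup.mem_subgroupOf.mpr hy, rfl⟩, ?_⟩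
        simp only [MulEquiv.coe_toMonoidHom, MulAut.conj_apply, map_mul, map_inv]
    obtain ⟨s, hs, hsl⟩ := hle l.2
    have : s = l := Subtype.ext hsl
    rw [this] at hs
    exact hs
  quad := by
    rintro _ ⟨y, hy, rfl⟩ _ ⟨z, hz, rfl⟩ m
    obtain ⟨a, rfl⟩ := md.hsurj m
    obtain ⟨b, hb1, hb2⟩ := md.act_sub z a
    rw [hb1, md.fix_iff, hb2]
    have h1 := d.quad (Subgroup.mem_subgroupOf.mp hy) (Subgroup.mem_subgroupOf.mp hz)
      (md.coe_mem_A a)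
    rw [h1, mul_inv_cancel]
    exact Subgroup.one_mem _
  cap := by
    intro xb hxb m hm1 hmx
    obtain ⟨x, rfl⟩ := QuotientGroup.mk'_surjective A' xb
    obtain ⟨a, rfl⟩ := md.hsurj m
    have hxn : (x : G) ∉ Subgroup.normalizer (Y : Set G) := fun h => hxb (mk_mem_normalizer h)
    rw [md.hker]
    apply d.cap x.2 hxn (md.coe_mem_A a)
    · intro y hy
      have h1 := mem_Fix_one.mp hm1 (QuotientGroup.mk' A' ⟨y, d.hYL hy⟩)
        ⟨⟨y, d.hYL hy⟩, Subgroup.mem_subgroupOf.mpr hy, rfl⟩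
      exact (md.fix_iff _ a).mp h1
    · intro y hy
      have h1 := mem_Fix.mp hmx (QuotientGroup.mk' A' ⟨y, d.hYL hy⟩)
        ⟨⟨y, d.hYL hy⟩, Subgroup.mem_subgroupOf.mpr hy, rfl⟩
      rw [← map_inv, ← map_mul, ← map_mul] at h1
      exact (md.fix_iff _ a).mp h1
  sup := by
    intro xb hxb m
    obtain ⟨x, rfl⟩ := QuotientGroup.mk'_surjective A' xb
    obtain ⟨a, rfl⟩ := md.hsurj m
    have hxn : (x : G) ∉ Subgroup.normalizer (Y : Set G) := fun h => hxb (mk_mem_normalizer h)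
    obtain ⟨u, hu, w₀, hw₀, hdec⟩ := d.exists_decomp x.2 hxn (md.coe_mem_A a)
    obtain ⟨u', hu'⟩ := md.lift hu.2
    obtain ⟨w', hw'⟩ := md.lift (d.conj_mem_A x.2 hw₀.2)
    have hauw : a = u' * w' := by
      apply Subtype.ext
      apply Subtype.ext
      simp only [Subgroup.coe_mul]
      rw [hu', hw', hdec]
    refine ⟨π u', ?_, π w', ?_, by rw [hauw, md.hadd]⟩
    · rw [mem_Fix_one]
      rintro _ ⟨y, hy, rfl⟩
      rw [md.fix_iff, hu']
      have h1 : (y : G) * u * (y : G)⁻¹ * u⁻¹ = 1 := by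
        rw [d.hYc _ (Subgroup.mem_subgroupOf.mp hy) u hu.1]; group
      rw [h1]; exact Subgroup.one_mem _
    · rw [mem_Fix]
      rintro _ ⟨y, hy, rfl⟩
      rw [← map_inv, ← map_mul, ← map_mul, md.fix_iff, hw']
      have h3 := d.hYc _ (Subgroup.mem_subgroupOf.mp hy) w₀ hw₀.1
      have h1 : ((x * y * x⁻¹ : ↥L) : G) * ((x : G) * w₀ * (x : G)⁻¹) *
          ((x * y * x⁻¹ : ↥L) : G)⁻¹ * ((x : G) * w₀ * (x : G)⁻¹)⁻¹ = 1 := by
        simp only [Subgroup.coe_mul, Subgroup.coe_inv]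
        calc (x : G) * y * (x : G)⁻¹ * ((x : G) * w₀ * (x : G)⁻¹) * ((x : G) * y * (x : G)⁻¹)⁻¹ *
              ((x : G) * w₀ * (x : G)⁻¹)⁻¹
            = (x : G) * ((y : G) * w₀) * (y : G)⁻¹ * w₀⁻¹ * (x : G)⁻¹ := by group
          _ = (x : G) * (w₀ * (y : G)) * (y : G)⁻¹ * w₀⁻¹ * (x : G)⁻¹ := by rw [h3]
          _ = 1 := by group
      rw [h1]; exact Subgroup.one_mem _

end Cfsg.Agent.Lib.Helper48_FpfRedB
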