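import Cfsg.Agent.Lib.Helper48_Asym

/-!
# Members of `ℌ_G(O_p(M))` in the asymmetric case (helper48)

For `d : AsymData p S M Y R Md` and a subgroup `H ≥ R` with `Y ≰ O_p(H)` and `Y ≤ O_p(P)` for all
`R ≤ P < H`: `H = ⟨R^H⟩ = O^p(H) R`, `O^p(H) = [O^p(H), Y]`, `⟨Y^H⟩ = O^p(H) Y`.
-/

set_option autoImplicit false
open scoped commutatorElement

namespace Cfsg.Agent.Lib.Helper48_FrakH

open Cfsg
open Cfsg.Agent.Lib.Helper48_Asym Cfsg.Agent.Lib.Helper48_MSS Cfsg.Agent.Lib.Helper48_MSS2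
  Cfsg.Agent.Lib.Helper47_PClosed Cfsg.Agent.Lib.Helper47_PLocal Cfsg.Agent.Lib.Helper47_Conj
  Cfsg.Agent.Lib.Helper47_WeaklyClosed Cfsg.Agent.Lib.Helper47_WC2 Cfsg.Agent.Lib.Helper47_SubAPI
  Cfsg.Agent.Lib.Helper47_TW Cfsg.Agent.Lib.Helper48_Coprime Cfsg.Agent.Lib.Helper47_Large

variable {G : Type*} [Group G]

/-- The normal closure in `H` of `A ≤ H`, seen in `G`, is the join of the `H`-conjugates. -/
theorem map_normalClosure_subgroupOf {A H : Subgroup G} (hAH : A ≤ H) :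
    (Subgroup.normalClosure ((A.subgroupOf H : Subgroup ↥H) : Set ↥H)).map H.subtype =
      ⨆ h : ↥H, A.map (MulAut.conj (h : G)).toMonoidHom := by
  rw [normalClosure_eq_iSup_map_conj, Subgroup.map_iSup]
  have hrw : ∀ n : ↥H, ((A.subgroupOf H).map (MulAut.conj n).toMonoidHom).map H.subtype =
      A.map (MulAut.conj (n : G)).toMonoidHom := by
    intro n
    rw [map_conj_map_subtype, Subgroup.map_subgroupOf_eq_of_le hAH]
  simp only [hrw]

/-- The join of the `H`-conjugates of `A ≤ H` is normalized by `H` and lies in `H`. -/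
theorem iSup_map_conj_le {A H : Subgroup G} (hAH : A ≤ H) :
    (⨆ h : ↥H, A.map (MulAut.conj (h : G)).toMonoidHom) ≤ H := by
  refine iSup_le (fun h => ?_)
  calc A.map (MulAut.conj (h : G)).toMonoidHom ≤ H.map (MulAut.conj (h : G)).toMonoidHom :=
        Subgroup.map_mono hAH
    _ = H := map_conj_eq_self_of_mem h.2

theorem le_normalizer_iSup_map_conj (A H : Subgroup G) :
    H ≤ Subgroup.normalizer
      ((⨆ h : ↥H, A.map (MulAut.conj (h : G)).toMonoidHom : Subgroup G) : Set G) := by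
  apply le_normalizer_of_forall_map_conj_le
  intro g hg
  rw [Subgroup.map_iSup]
  refine iSup_le (fun x => ?_)
  rw [map_conj_map_conj]
  exact le_iSup (fun h : ↥H => A.map (MulAut.conj (h : G)).toMonoidHom) (⟨g, hg⟩ * x)

theorem le_iSup_map_conj (A H : Subgroup G) :
    A ≤ ⨆ h : ↥H, A.map (MulAut.conj (h : G)).toMonoidHom := by
  have h1 : A.map (MulAut.conj ((1 : ↥H) : G)).toMonoidHom = A := by
    rw [OneMemClass.coe_one]; exact map_conj_one A
  calc A = A.map (MulAut.conj ((1 : ↥H) : G)).toMonoidHom := h1.symm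
    _ ≤ _ := le_iSup (fun h : ↥H => A.map (MulAut.conj (h : G)).toMonoidHom) 1

section

set_option linter.unusedSectionVars false
set_option linter.unusedVariables false

variable [Finite G] {p : ℕ} [Fact p.Prime] {S : Sylow p G} {M Y R Md : Subgroup G}

/-- `O_p` of a subgroup normalized by `H` lies in `O_p(H)`. -/
theorem pCoreOf_le_pCoreOf_of_le_normalizer {W H : Subgroup G} (hWH : W ≤ H)
    (hHW : H ≤ Subgroup.normalizer (W : Set G)) : Cfsg.pCoreOf p W ≤ Cfsg.pCoreOf p H :=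
  le_pCoreOf ((pCoreOf_le W).trans hWH) (hHW.trans (normalizer_le_normalizer_pCoreOf' p W))
    (isPGroup_pCoreOf W)

/-- **(6)** `H` is the normal closure of `R` in `H`. -/
theorem iSup_map_conj_R_eq (d : AsymData p S M Y R Md) {H : Subgroup G} (hRH : R ≤ H)
    (hYH : ¬ Y ≤ Cfsg.pCoreOf p H)
    (hmin : ∀ P : Subgroup G, R ≤ P → P < H → Y ≤ Cfsg.pCoreOf p P) :
    (⨆ h : ↥H, R.map (MulAut.conj (h : G)).toMonoidHom) = H := by
  by_contra hne
  have hle := iSup_map_conj_le hRH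
  have hlt : (⨆ h : ↥H, R.map (MulAut.conj (h : G)).toMonoidHom) < H := lt_of_le_of_ne hle hne
  have h1 := hmin _ (le_iSup_map_conj R H) hlt
  exact hYH (h1.trans (pCoreOf_le_pCoreOf_of_le_normalizer hle (le_normalizer_iSup_map_conj R H)))

/-- **(4)** `H = O^p(H) R`. -/
theorem opUp_sup_R_eq (d : AsymData p S M Y R Md) {H : Subgroup G} (hRH : R ≤ H)
    (hYH : ¬ Y ≤ Cfsg.pCoreOf p H)
    (hmin : ∀ P : Subgroup G, R ≤ P → P < H → Y ≤ Cfsg.pCoreOf p P) :
    opUp p H ⊔ R = H := by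
  apply le_antisymm (sup_le (opUp_le p H) hRH)
  have hRK : R ≤ Subgroup.normalizer ((opUp p H : Subgroup G) : Set G) :=
    hRH.trans (Subgroup.le_normalizer.trans (normalizer_le_normalizer_opUp p H))
  conv_lhs => rw [← iSup_map_conj_R_eq d hRH hYH hmin]
  refine iSup_le (fun h => ?_)
  have hh : R.map (MulAut.conj (h : G)).toMonoidHom ≤ H :=
    calc R.map (MulAut.conj (h : G)).toMonoidHom ≤ H.map (MulAut.conj (h : G)).toMonoidHom :=
          Subgroup.map_mono hRH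
      _ = H := map_conj_eq_self_of_mem h.2
  obtain ⟨k, hk, hhk⟩ := wc_exists_conj_opUp d.hRp d.isWeaklyClosedSubgroup hRH (h : G) hh
  rw [hhk]
  exact map_conj_le_sup_of_mem hRK hk

/-- **(3)** `O^p(H) = [O^p(H), Y]`. -/
theorem commutator_opUp_Y_eq (d : AsymData p S M Y R Md) {H : Subgroup G} (hRH : R ≤ H)
    (hYH : ¬ Y ≤ Cfsg.pCoreOf p H)
    (hmin : ∀ P : Subgroup G, R ≤ P → P < H → Y ≤ Cfsg.pCoreOf p P) :
    ⁅opUp p H, Y⁆ = opUp p H := by
  set K : Subgroup G := opUp p H with hK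
  have hKH : K ≤ H := opUp_le p H
  have hHK : H ≤ Subgroup.normalizer (K : Set G) :=
    Subgroup.le_normalizer.trans (normalizer_le_normalizer_opUp p H)
  have hYH' : Y ≤ H := d.hYR.trans hRH
  have hK₀K : ⁅K, Y⁆ ≤ K := Subgroup.le_normalizer_iff_commutator_le_left.mp (hYH'.trans hHK)
  apply le_antisymm hK₀K
  have hRK₀ : R ≤ Subgroup.normalizer ((⁅K, Y⁆ : Subgroup G) : Set G) :=
    le_normalizer_commutator (hRH.trans hHK) (d.hRM.trans d.hMY)
  have hKK₀ : K ≤ Subgroup.normalizer ((⁅K, Y⁆ : Subgroup G) : Set G) :=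
    le_normalizer_commutator_left K Y
  have hsup := opUp_sup_R_eq d hRH hYH hmin
  have hHK₀ : H ≤ Subgroup.normalizer ((⁅K, Y⁆ : Subgroup G) : Set G) := by
    rw [← hsup]; exact sup_le hKK₀ hRK₀
  by_cases hP : ⁅K, Y⁆ ⊔ R = H
  · exact opUp_le_of_le_sup d.hRp hRK₀ hP.ge
  · exfalso
    have hPle : ⁅K, Y⁆ ⊔ R ≤ H := sup_le (hK₀K.trans hKH) hRH
    have hlt : ⁅K, Y⁆ ⊔ R < H := lt_of_le_of_ne hPle hP
    have hY1 := hmin _ le_sup_right hlt
    -- `W = Y [K, Y]` is normal in `H`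
    set W : Subgroup G := ⁅K, Y⁆ ⊔ Y with hW
    have hWP : W ≤ ⁅K, Y⁆ ⊔ R := sup_le le_sup_left (d.hYR.trans le_sup_right)
    have hYK₀ : Y ≤ Subgroup.normalizer ((⁅K, Y⁆ : Subgroup G) : Set G) :=
      le_normalizer_commutator_right K Y
    have hKW : K ≤ Subgroup.normalizer (W : Set G) := by
      apply le_normalizer_of_forall_map_conj_le
      intro k hk
      rw [hW, Subgroup.map_sup]
      apply sup_le
      · rw [mem_normalizer_iff_map_conj_eq'.mp (hKK₀ hk)]; exact le_sup_left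
      · rintro _ ⟨y, hy, rfl⟩
        have h1 : (MulAut.conj k).toMonoidHom y = ⁅k, y⁆ * y := by
          simp [commutatorElement_def]
        rw [h1]
        exact Subgroup.mul_mem _
          (Subgroup.mem_sup_left (Subgroup.commutator_mem_commutator hk hy))
          (Subgroup.mem_sup_right hy)
    have hRW : R ≤ Subgroup.normalizer (W : Set G) :=
      le_normalizer_sup hRK₀ (d.hRM.trans d.hMY)
    have hHW : H ≤ Subgroup.normalizer (W : Set G) := by
      rw [← hsup]; exact sup_le hKW hRW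
    have hWH : W ≤ H := hWP.trans hPle
    -- `Y ≤ O_p(P) ∩ W ≤ O_p(W) ≤ O_p(H)`
    have hX : Cfsg.pCoreOf p (⁅K, Y⁆ ⊔ R) ⊓ W ≤ Cfsg.pCoreOf p W := by
      apply le_pCoreOf inf_le_right
      · intro w hw
        exact mem_normalizer_inf (le_normalizer_pCoreOf _ (hWP hw)) (Subgroup.le_normalizer hw)
      · exact (isPGroup_pCoreOf _).to_le inf_le_left
    apply hYH
    exact ((le_inf hY1 le_sup_right).trans hX).trans
      (pCoreOf_le_pCoreOf_of_le_normalizer hWH hHW)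

/-- **(5)** `⟨Y^H⟩ = O^p(H) Y`. -/
theorem opUp_sup_Y_eq (d : AsymData p S M Y R Md) {H : Subgroup G} (hRH : R ≤ H)
    (hYH : ¬ Y ≤ Cfsg.pCoreOf p H)
    (hmin : ∀ P : Subgroup G, R ≤ P → P < H → Y ≤ Cfsg.pCoreOf p P) :
    opUp p H ⊔ Y = ⨆ h : ↥H, Y.map (MulAut.conj (h : G)).toMonoidHom := by
  set K : Subgroup G := opUp p H with hK
  have hHK : H ≤ Subgroup.normalizer (K : Set G) :=
    Subgroup.le_normalizer.trans (normalizer_le_normalizer_opUp p H)
  have hYH' : Y ≤ H := d.hYR.trans hRH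
  have hYK : Y ≤ Subgroup.normalizer (K : Set G) := hYH'.trans hHK
  have hRK : R ≤ Subgroup.normalizer (K : Set G) := hRH.trans hHK
  have hsup := opUp_sup_R_eq d hRH hYH hmin
  apply le_antisymm
  · apply sup_le _ (le_iSup_map_conj Y H)
    have hcomm : ⁅K, Y⁆ = K := commutator_opUp_Y_eq d hRH hYH hmin
    refine le_trans (le_of_eq hcomm.symm) ?_
    rw [Subgroup.commutator_le]
    intro k hk y hy
    have hkH : k ∈ H := opUp_le p H hk
    have h1 : ⁅k, y⁆ = (MulAut.conj k).toMonoidHom y * y⁻¹ := by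
      simp [commutatorElement_def]
    rw [h1]
    refine Subgroup.mul_mem _ ?_ (Subgroup.inv_mem _ (le_iSup_map_conj Y H hy))
    exact le_iSup (fun h : ↥H => Y.map (MulAut.conj (h : G)).toMonoidHom) ⟨k, hkH⟩
      (Subgroup.mem_map_of_mem _ hy)
  · refine iSup_le (fun h => ?_)
    have hh : (h : G) ∈ K ⊔ R := by rw [hsup]; exact h.2
    obtain ⟨k, hk, r, hr, hkr⟩ := exists_mul_of_mem_sup_of_le_normalizer hRK hh
    rw [hkr, ← map_conj_map_conj,
      mem_normalizer_iff_map_conj_eq'.mp (d.hMY (d.hRM hr))]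
    exact map_conj_le_sup_of_mem hYK hk

/-- **(2)** `O_p(H)` normalizes `R` and `Y`. -/
theorem pCoreOf_le_normalizer (d : AsymData p S M Y R Md) {H : Subgroup G} (hRH : R ≤ H) :
    Cfsg.pCoreOf p H ≤ Subgroup.normalizer (R : Set G) ⊓ Subgroup.normalizer (Y : Set G) := by
  have hRV : R ≤ Subgroup.normalizer ((Cfsg.pCoreOf p H : Subgroup G) : Set G) :=
    hRH.trans (le_normalizer_pCoreOf H)
  have hp : IsPGroup p ↥(Cfsg.pCoreOf p H ⊔ R) :=
    IsPGroup.to_sup_of_normal_left' (isPGroup_pCoreOf H) d.hRp hRV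
  have h1 : Cfsg.pCoreOf p H ≤ Subgroup.normalizer (R : Set G) :=
    (le_sup_left.trans Subgroup.le_normalizer).trans (d.normalizer_le hp le_sup_right)
  exact le_inf h1 (h1.trans (d.normalizer_R_le.trans d.hMdY))

end

end Cfsg.Agent.Lib.Helper48_FrakH
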