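import Mathlib
import Cfsg.Agent.S0215
import Cfsg.Agent.Lib.Helper1_Cores
import Cfsg.Agent.Lib.Helper47_PClosed

/-!
# Involution classes with `p`-power products (helper48)

If `d` is an involution such that the product of any two conjugates of `d` has order a power of
the odd prime `p`, then `d` is isolated, so by Glauberman's `Z*`-theorem `[d, G]` lies in a normal
subgroup of odd order; the products of two conjugates generate a normal `p`-subgroup.
-/

set_option autoImplicit false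

namespace Cfsg.Agent.Lib.Helper48_InvClass

open scoped Pointwise

/-- If `C` has `p`-power index in `K` and `S` is a Sylow `p`-subgroup then `K = S C`. -/
theorem exists_mul_of_index_eq_pow {K : Type*} [Group K] [Finite K] {p : ℕ} [Fact p.Prime]
    (C : Subgroup K) (S : Sylow p K) {a : ℕ} (hidx : C.index = p ^ a) (k : K) :
    ∃ s ∈ (S : Subgroup K), ∃ c ∈ C, k = s * c := by
  classical
  have hp : p.Prime := Fact.out
  have hK0 : Nat.card K ≠ 0 := Nat.card_pos.ne'
  let x₀ : K ⧸ C := ((1 : K) : K ⧸ C)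
  -- orbit-stabilizer for the action of `S` on `K ⧸ C`
  have hos := MulAction.orbitEquivQuotientStabilizer (↥(S : Subgroup K)) x₀
  have h1 : Nat.card (MulAction.orbit (↥(S : Subgroup K)) x₀) *
      Nat.card (MulAction.stabilizer (↥(S : Subgroup K)) x₀) = Nat.card (↥(S : Subgroup K)) := by
    rw [Nat.card_congr hos]
    exact (Subgroup.card_eq_card_quotient_mul_card_subgroup
      (MulAction.stabilizer (↥(S : Subgroup K)) x₀)).symm
  -- the stabilizer embeds in `C`
  have hstab : ∀ s : ↥(S : Subgroup K), s ∈ MulAction.stabilizer (↥(S : Subgroup K)) x₀ ↔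
      (s : K) ∈ C := by
    intro s
    rw [MulAction.mem_stabilizer_iff]
    show (((s : K) * 1 : K) : K ⧸ C) = ((1 : K) : K ⧸ C) ↔ _
    rw [QuotientGroup.eq, mul_one, mul_one]
    exact inv_mem_iff
  have h2 : Nat.card (MulAction.stabilizer (↥(S : Subgroup K)) x₀) ∣ Nat.card C := by
    let f : MulAction.stabilizer (↥(S : Subgroup K)) x₀ →* C :=
      { toFun := fun s => ⟨(s : ↥(S : Subgroup K)), (hstab s.1).mp s.2⟩
        map_one' := rfl
        map_mul' := fun _ _ => rfl }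
    apply Subgroup.card_dvd_of_injective f
    intro s t hst
    have : ((s : ↥(S : Subgroup K)) : K) = ((t : ↥(S : Subgroup K)) : K) :=
      congrArg (fun u : C => (u : K)) hst
    exact Subtype.ext (Subtype.ext this)
  have hS : Nat.card (↥(S : Subgroup K)) = p ^ (Nat.card K).factorization p :=
    S.card_eq_multiplicity
  set n := (Nat.card K).factorization p with hn
  have h3 : Nat.card (MulAction.stabilizer (↥(S : Subgroup K)) x₀) ∣ p ^ n := by
    rw [← hS]; exact Dvd.intro_left _ h1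
  obtain ⟨m, hmn, hm⟩ := (Nat.dvd_prime_pow hp).mp h3
  have h4 : Nat.card (MulAction.orbit (↥(S : Subgroup K)) x₀) = p ^ (n - m) := by
    rw [hm, hS] at h1
    have hpm : 0 < p ^ m := pow_pos hp.pos m
    apply Nat.eq_of_mul_eq_mul_right hpm
    rw [h1, ← pow_add, Nat.sub_add_cancel hmn]
  -- `m + a ≤ n`
  have h5 : m + a ≤ n := by
    rw [hn, ← hp.pow_dvd_iff_le_factorization hK0, pow_add, ← hidx, ← C.card_mul_index]
    exact Nat.mul_dvd_mul_right (hm ▸ h2) _
  have h6 : Nat.card (K ⧸ C) ≤ Nat.card (MulAction.orbit (↥(S : Subgroup K)) x₀) := by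
    rw [← Subgroup.index_eq_card, hidx, h4]
    exact Nat.pow_le_pow_right hp.pos (by omega)
  have h7 : MulAction.orbit (↥(S : Subgroup K)) x₀ = Set.univ := by
    apply Set.eq_of_subset_of_ncard_le (Set.subset_univ _)
    rw [Set.ncard_univ, ← Nat.card_coe_set_eq]
    exact h6
  have h8 : ((k : K) : K ⧸ C) ∈ MulAction.orbit (↥(S : Subgroup K)) x₀ := by
    rw [h7]; exact Set.mem_univ _
  obtain ⟨s, hs⟩ := h8
  have hs' : (((s : K) * 1 : K) : K ⧸ C) = ((k : K) : K ⧸ C) := hs
  rw [QuotientGroup.eq, mul_one] at hs'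
  refine ⟨s, s.2, (s : K)⁻¹ * k, hs', ?_⟩
  group


/-- An involutory automorphism of a group of odd order fixes a Sylow `q`-subgroup. -/
theorem exists_invariant_sylow {K : Type*} [Group K] [Finite K] (hodd : Odd (Nat.card K))
    (φ : MulAut K) (hφ : ∀ x, φ (φ x) = x) (q : ℕ) [Fact q.Prime] :
    ∃ Q : Sylow q K, ∀ y ∈ Q, φ y ∈ Q := by
  have h2 : IsPGroup 2 (Subgroup.zpowers φ) := by
    rintro ⟨g, hg⟩
    obtain ⟨n, rfl⟩ := Subgroup.mem_zpowers_iff.mp hg
    refine ⟨1, Subtype.ext ?_⟩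
    have hφ2 : φ ^ 2 = 1 := by
      ext x
      rw [pow_two, MulAut.mul_apply, hφ, MulAut.one_apply]
    show (φ ^ n) ^ 2 ^ 1 = 1
    rw [pow_one, ← zpow_natCast, ← zpow_mul, mul_comm, zpow_mul, zpow_natCast, hφ2, one_zpow]
  have hmod := h2.card_modEq_card_fixedPoints (Sylow q K)
  have hcard : Odd (Nat.card (Sylow q K)) := by
    obtain ⟨Q⟩ : Nonempty (Sylow q K) := inferInstance
    have h1 : Nat.card (Sylow q K) ∣ Nat.card K :=
      (Sylow.card_dvd_index Q).trans (Subgroup.index_dvd_card _)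
    exact Odd.of_dvd_nat hodd h1
  have hne : (MulAction.fixedPoints (Subgroup.zpowers φ) (Sylow q K)).Nonempty := by
    by_contra hcon
    rw [Set.not_nonempty_iff_eq_empty] at hcon
    rw [hcon] at hmod
    have h0 : Nat.card (↑(∅ : Set (Sylow q K))) = 0 := by simp
    rw [h0] at hmod
    have h1 : Nat.card (Sylow q K) % 2 = 1 := Nat.odd_iff.mp hcard
    have h3 : Nat.card (Sylow q K) % 2 = 0 % 2 := hmod
    omega
  obtain ⟨Q, hQ⟩ := hne
  refine ⟨Q, ?_⟩
  intro y hy
  have h1 : (⟨φ, Subgroup.mem_zpowers φ⟩ : Subgroup.zpowers φ) • Q = Q := hQ _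
  have h2 : φ • Q = Q := h1
  have h3 : φ • y ∈ φ • (Q : Subgroup K) := Subgroup.smul_mem_pointwise_smul y φ _ hy
  rw [← Sylow.pointwise_smul_def, h2] at h3
  exact h3

/-- In a group of odd order with an involutory automorphism `φ` all of whose inverted elements
are `p`-elements, the inverted elements lie in a common `p`-subgroup. -/
theorem exists_isPGroup_of_inverted {K : Type*} [Group K] [Finite K] (hodd : Odd (Nat.card K))
    (φ : MulAut K) (hφ : ∀ x, φ (φ x) = x) {p : ℕ} [Fact p.Prime]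
    (hI : ∀ i : K, φ i = i⁻¹ → ∃ k : ℕ, orderOf i = p ^ k) :
    ∃ S : Subgroup K, IsPGroup p S ∧ ∀ i : K, φ i = i⁻¹ → i ∈ S := by
  have hp : p.Prime := Fact.out
  -- the fixed subgroup
  let C : Subgroup K := φ.toMonoidHom.eqLocus (MonoidHom.id K)
  have hC : ∀ x, x ∈ C ↔ φ x = x := fun x => Iff.rfl
  -- Sylow `q`-subgroups, `q ≠ p`, inside `C`
  have hq : ∀ q : ℕ, q.Prime → q ≠ p → ¬ q ∣ C.index := by
    intro q hqp hne
    have : Fact q.Prime := ⟨hqp⟩
    obtain ⟨Q, hQ⟩ := exists_invariant_sylow hodd φ hφ q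
    have hQC : (Q : Subgroup K) ≤ C := by
      intro y hy
      rw [hC]
      have hz : φ (y⁻¹ * φ y) = (y⁻¹ * φ y)⁻¹ := by
        rw [map_mul, map_inv, hφ, mul_inv_rev, inv_inv]
      obtain ⟨k, hk⟩ := hI _ hz
      have hzQ : y⁻¹ * φ y ∈ (Q : Subgroup K) := mul_mem (inv_mem hy) (hQ y hy)
      obtain ⟨m, hm⟩ := (IsPGroup.iff_orderOf.mp Q.isPGroup') ⟨_, hzQ⟩
      rw [← Subgroup.orderOf_coe] at hm
      have hm' : orderOf (y⁻¹ * φ y) = q ^ m := hm
      have hk0 : k = 0 := by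
        by_contra hk0
        have h1 : p ∣ q ^ m := by
          rw [← hm', hk]
          exact dvd_pow_self p hk0
        have h2 : p ∣ q := hp.dvd_of_dvd_pow h1
        exact hne ((Nat.prime_dvd_prime_iff_eq hp hqp).mp h2).symm
      rw [hk0, pow_zero, orderOf_eq_one_iff] at hk
      calc φ y = y * (y⁻¹ * φ y) := by group
        _ = y := by rw [hk, mul_one]
    intro hdvd
    exact Q.not_dvd_index (hdvd.trans (Subgroup.index_dvd_of_le hQC))
  have hidx : C.index = p ^ C.index.primeFactorsList.length := by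
    apply Nat.eq_prime_pow_of_unique_prime_dvd (Subgroup.index_ne_zero_of_finite)
    intro q hqp hqd
    by_contra hne
    exact hq q hqp hne hqd
  obtain ⟨S, hS⟩ := exists_invariant_sylow hodd φ hφ p
  refine ⟨S, S.isPGroup', ?_⟩
  intro i hi
  -- a square root of `i`
  have hodd_i : Odd (orderOf i) := Odd.of_dvd_nat hodd (orderOf_dvd_natCard i)
  obtain ⟨t, ht⟩ := hodd_i
  set j := i ^ (t + 1) with hj
  have hjj : j * j = i := by
    rw [hj, ← pow_add]
    have : t + 1 + (t + 1) = orderOf i + 1 := by omega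
    rw [this, pow_succ, pow_orderOf_eq_one, one_mul]
  have hφj : φ j = j⁻¹ := by
    rw [hj, map_pow, hi, inv_pow]
  obtain ⟨s, hs, c, hc, hjsc⟩ := exists_mul_of_index_eq_pow C S hidx j
  have hcφ : φ c = c := (hC c).mp hc
  have h1 : φ j * j⁻¹ = φ s * s⁻¹ := by
    rw [hjsc, map_mul, hcφ]; group
  have h2 : φ j * j⁻¹ = i⁻¹ := by
    rw [hφj, ← mul_inv_rev, hjj]
  have h3 : i⁻¹ ∈ (S : Subgroup K) := by
    rw [← h2, h1]
    exact mul_mem (hS s hs) (inv_mem hs)
  exact inv_mem_iff.mp h3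

theorem mem_conj_iff {G : Type*} [Group G] {a b : G} :
    b ∈ conjugatesOf a ↔ ∃ c : G, c * a * c⁻¹ = b := isConj_iff

/-- An element of odd order inverted by the involution `d` is a product of `d` and a conjugate. -/
theorem exists_conj_of_inverted {G : Type*} [Group G] {d i : G} (hd : d * d = 1)
    (hodd : Odd (orderOf i)) (hi : d * i * d⁻¹ = i⁻¹) :
    ∃ a ∈ conjugatesOf d, i = d * a := by
  obtain ⟨t, ht⟩ := hodd
  have hdi : d⁻¹ = d := inv_eq_of_mul_eq_one_right hd
  set j := i ^ (t + 1) with hj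
  have hjj : j * j = i := by
    rw [hj, ← pow_add]
    have : t + 1 + (t + 1) = orderOf i + 1 := by omega
    rw [this, pow_succ, pow_orderOf_eq_one, one_mul]
  have hdj : d * j * d⁻¹ = j⁻¹ := by
    have h := map_pow (MulAut.conj d) i (t + 1)
    simp only [MulAut.conj_apply] at h
    rw [hj, h, hi, inv_pow]
  refine ⟨j⁻¹ * d * j, ?_, ?_⟩
  · rw [mem_conj_iff]
    exact ⟨j⁻¹, by rw [inv_inv]⟩
  · have h1 : d * j⁻¹ * d⁻¹ = j := by
      calc d * j⁻¹ * d⁻¹ = (d * j * d⁻¹)⁻¹ := by group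
        _ = j := by rw [hdj, inv_inv]
    calc i = j * j := hjj.symm
      _ = (d * j⁻¹ * d⁻¹) * j := by rw [h1]
      _ = d * (j⁻¹ * d * j) := by rw [hdi]; group

/-- **Involution classes with `p`-power products.** -/
theorem mul_mem_pCore {G : Type*} [Group G] [Finite G] {p : ℕ} (hp : p.Prime) (hp2 : p ≠ 2)
    (d : G) (hd : orderOf d = 2)
    (hprod : ∀ a ∈ conjugatesOf d, ∀ b ∈ conjugatesOf d, ∃ k : ℕ, orderOf (a * b) = p ^ k) :
    ∀ a ∈ conjugatesOf d, ∀ b ∈ conjugatesOf d, a * b ∈ Cfsg.pCore p G := by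
  have : Fact p.Prime := ⟨hp⟩
  have hdd : d * d = 1 := by
    rw [← pow_two, ← hd, pow_orderOf_eq_one]
  have hdi : d⁻¹ = d := inv_eq_of_mul_eq_one_right hdd
  have hdD : d ∈ conjugatesOf d := mem_conjugatesOf_self
  -- conjugates are involutions
  have hinv : ∀ a ∈ conjugatesOf d, a * a = 1 := by
    intro a ha
    rw [mem_conj_iff] at ha
    obtain ⟨c, rfl⟩ := ha
    calc c * d * c⁻¹ * (c * d * c⁻¹) = c * (d * d) * c⁻¹ := by group
      _ = 1 := by rw [hdd]; group
  -- a Sylow 2-subgroup containing `d`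
  obtain ⟨P, hdP⟩ : ∃ P : Sylow 2 G, d ∈ P :=
    Cfsg.Agent.Lib.Helper47_PClosed.exists_sylow_mem_of_pow_eq_one (p := 2) (k := 1)
      (by rw [pow_one, pow_two]; exact hdd)
  -- `d` is isolated
  have hiso : ∀ g : G, g * d * g⁻¹ ∈ P → g * d * g⁻¹ = d := by
    intro g hg
    have ha : g * d * g⁻¹ ∈ conjugatesOf d := by
      rw [mem_conj_iff]; exact ⟨g, rfl⟩
    obtain ⟨k, hk⟩ := hprod _ ha d hdD
    have hmem : g * d * g⁻¹ * d ∈ (P : Subgroup G) := mul_mem hg hdP
    obtain ⟨m, hm⟩ := (IsPGroup.iff_orderOf.mp P.isPGroup') ⟨_, hmem⟩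
    rw [← Subgroup.orderOf_coe] at hm
    have hm' : orderOf (g * d * g⁻¹ * d) = 2 ^ m := hm
    have hk0 : k = 0 := by
      by_contra hk0
      have h1 : p ∣ 2 ^ m := by
        rw [← hm', hk]
        exact dvd_pow_self p hk0
      have h2 : p ∣ 2 := hp.dvd_of_dvd_pow h1
      exact hp2 ((Nat.prime_dvd_prime_iff_eq hp Nat.prime_two).mp h2)
    rw [hk0, pow_zero, orderOf_eq_one_iff] at hk
    calc g * d * g⁻¹ = (g * d * g⁻¹ * d) * d⁻¹ := by group
      _ = d := by rw [hk, one_mul, hdi]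
  -- Glauberman's `Z*`-theorem
  obtain ⟨N, hNn, hNodd, hN⟩ := Cfsg.Agent.S0215.result P d hd hdP hiso
  -- the subgroup generated by the products
  let J : Set G := {x | ∃ a ∈ conjugatesOf d, ∃ b ∈ conjugatesOf d, x = a * b}
  have hJconj : ∀ s ∈ J, ∀ g : G, g * s * g⁻¹ ∈ J := by
    rintro _ ⟨a, ha, b, hb, rfl⟩ g
    refine ⟨g * a * g⁻¹, ?_, g * b * g⁻¹, ?_, by group⟩
    · exact (show IsConj d a from ha).trans (isConj_iff.mpr ⟨g, rfl⟩)
    · exact (show IsConj d b from hb).trans (isConj_iff.mpr ⟨g, rfl⟩)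
  have hKn : (Subgroup.closure J).Normal :=
    Cfsg.Agent.Lib.Helper47_PClosed.normal_closure_of_conj_mem hJconj
  have hda : ∀ a ∈ conjugatesOf d, d * a ∈ N := by
    intro a ha
    rw [mem_conj_iff] at ha
    obtain ⟨g, rfl⟩ := ha
    have := hN g
    rw [hdi] at this
    have e : d * (g * d * g⁻¹) = d * g * d * g⁻¹ := by group
    rw [e]; exact this
  have hKN : Subgroup.closure J ≤ N := by
    rw [Subgroup.closure_le]
    rintro _ ⟨a, ha, b, hb, rfl⟩
    have e : a * b = (d * a)⁻¹ * (d * b) := by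
      have ha2 : a⁻¹ = a := inv_eq_of_mul_eq_one_right (hinv a ha)
      calc a * b = a⁻¹ * b := by rw [ha2]
        _ = (d * a)⁻¹ * (d * b) := by group
    rw [e]
    exact mul_mem (inv_mem (hda a ha)) (hda b hb)
  have hKodd : Odd (Nat.card (Subgroup.closure J)) :=
    Odd.of_dvd_nat hNodd (Subgroup.card_dvd_of_le hKN)
  -- the automorphism induced by `d`
  let φ : MulAut (Subgroup.closure J) := MulAut.conjNormal d
  have hφ : ∀ x, φ (φ x) = x := by
    intro x
    apply Subtype.ext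
    rw [MulAut.conjNormal_apply, MulAut.conjNormal_apply, hdi]
    calc d * (d * (x : G) * d) * d = (d * d) * (x : G) * (d * d) := by group
      _ = x := by rw [hdd, one_mul, mul_one]
  have hI : ∀ i : Subgroup.closure J, φ i = i⁻¹ → ∃ k : ℕ, orderOf i = p ^ k := by
    intro i hi
    have hi' : d * (i : G) * d⁻¹ = (i : G)⁻¹ := by
      have := congrArg Subtype.val hi
      rwa [MulAut.conjNormal_apply] at this
    have hoddi : Odd (orderOf (i : G)) := by
      rw [Subgroup.orderOf_coe]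
      exact Odd.of_dvd_nat hKodd (orderOf_dvd_natCard i)
    obtain ⟨a, ha, hia⟩ := exists_conj_of_inverted hdd hoddi hi'
    obtain ⟨k, hk⟩ := hprod d hdD a ha
    exact ⟨k, by rw [← Subgroup.orderOf_coe, hia, hk]⟩
  obtain ⟨S, hSp, hS⟩ := exists_isPGroup_of_inverted hKodd φ hφ hI
  -- all generators lie in `S`
  have hgen : ∀ a ∈ conjugatesOf d, ∀ h : d * a ∈ Subgroup.closure J,
      (⟨d * a, h⟩ : Subgroup.closure J) ∈ S := by
    intro a ha h
    apply hS
    apply Subtype.ext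
    rw [MulAut.conjNormal_apply]
    have ha2 : a⁻¹ = a := inv_eq_of_mul_eq_one_right (hinv a ha)
    show d * (d * a) * d⁻¹ = (d * a)⁻¹
    rw [mul_inv_rev, hdi, ha2]
    calc d * (d * a) * d = (d * d) * a * d := by group
      _ = a * d := by rw [hdd, one_mul]
  have hmemJ : ∀ a ∈ conjugatesOf d, d * a ∈ Subgroup.closure J := fun a ha =>
    Subgroup.subset_closure ⟨d, hdD, a, ha, rfl⟩
  have hKS : Subgroup.closure J ≤ S.map (Subgroup.closure J).subtype := by
    rw [Subgroup.closure_le]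
    rintro _ ⟨a, ha, b, hb, rfl⟩
    have e : a * b = (d * a)⁻¹ * (d * b) := by
      have ha2 : a⁻¹ = a := inv_eq_of_mul_eq_one_right (hinv a ha)
      calc a * b = a⁻¹ * b := by rw [ha2]
        _ = (d * a)⁻¹ * (d * b) := by group
    rw [e]
    refine mul_mem (inv_mem ?_) ?_
    · exact ⟨⟨d * a, hmemJ a ha⟩, hgen a ha _, rfl⟩
    · exact ⟨⟨d * b, hmemJ b hb⟩, hgen b hb _, rfl⟩
  have hKp : IsPGroup p (Subgroup.closure J) := (hSp.map _).to_le hKS
  have hKcore : Subgroup.closure J ≤ Cfsg.pCore p G :=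
    Cfsg.Agent.Lib.Helper1_Cores.le_pCore hKn hKp
  intro a ha b hb
  exact hKcore (Subgroup.subset_closure ⟨a, ha, b, hb, rfl⟩)

end Cfsg.Agent.Lib.Helper48_InvClass
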