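import Mathlib
import Cfsg.Prelude.Def_LocalStructure
import Cfsg.Agent.Lib.Helper48_LLDefs

/-!
# S2834 (architect helper48): package TERMA (helper58)

Terminal case, part A: a point fixed by `B` and by `N_H(B)`.
-/

set_option autoImplicit false
set_option linter.unusedVariables false
set_option linter.unusedSectionVars false

open Cfsg.Agent.Lib.Helper48_LLDefs

namespace Cfsg.Agent.Lib.Helper58_LL_TERMA

universe u

variable {p : ℕ} [Fact p.Prime] {H : Type u} [Group H] [Finite H]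

theorem mem_normalizer_iff_cj {y : H} {B : Subgroup H} :
    y ∈ Subgroup.normalizer (B : Set H) ↔ cj y B = B := by
  constructor
  · intro hy
    ext z
    rw [mem_cj]
    have h1 := (Subgroup.mem_normalizer_iff.mp hy) (y⁻¹ * z * y)
    have e : y * (y⁻¹ * z * y) * y⁻¹ = z := by group
    rw [e] at h1
    exact h1
  · intro h
    rw [Subgroup.mem_normalizer_iff]
    intro k
    have h1 : y * k * y⁻¹ ∈ cj y B ↔ k ∈ B := by
      rw [mem_cj]
      have e : y⁻¹ * (y * k * y⁻¹) * y = k := by group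
      rw [e]
    rw [h] at h1
    exact h1.symm

theorem cj_top (g : H) : cj g (⊤ : Subgroup H) = ⊤ := by
  ext y
  rw [mem_cj]
  simp

theorem sylow_conj (T P : Sylow p H) : ∃ h : H, (P : Subgroup H) = cj h (T : Subgroup H) := by
  obtain ⟨h, hh⟩ := MulAction.exists_smul_eq H T P
  refine ⟨h, ?_⟩
  rw [← hh, Sylow.coe_subgroup_smul]
  ext y
  rw [mem_cj, Subgroup.mem_pointwise_smul_iff_inv_smul_mem]
  simp [MulAut.smul_def, mul_assoc]

theorem terma (M B : Subgroup H) (hT : TMin p M) (hBp : IsPGroup p B)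
    (hB : ∃ g : H, ¬ B ≤ cj g M)
    (hterm : ∀ U : Subgroup H, Fam p B U → ∃ g : H, Good M U ⊤ g) :
    ∃ g : H, B ≤ cj g M ∧ Subgroup.normalizer (B : Set H) ≤ cj g M := by
  obtain ⟨hMtop, T, hTM, hTmax, hTnc⟩ := hT
  obtain ⟨P, hBP⟩ := hBp.exists_le_sylow
  obtain ⟨h, hP⟩ := sylow_conj T P
  have hBT' : B ≤ cj h (T : Subgroup H) := hP ▸ hBP
  have hT'M : cj h (T : Subgroup H) ≤ cj h M := cj_mono h hTM
  have hT'max : ∀ X : Subgroup H, cj h (T : Subgroup H) ≤ X → X ≠ ⊤ → X ≤ cj h M := by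
    intro X hX hXtop
    have h1 : (T : Subgroup H) ≤ cj h⁻¹ X := cj_le_iff.mp hX
    have h2 : cj h⁻¹ X ≠ ⊤ := by
      intro h3
      apply hXtop
      have h4 : cj h (cj h⁻¹ X) = X := by rw [cj_cj, mul_inv_cancel, cj_one]
      rw [← h4, h3, cj_top]
    have h3 := cj_le_iff.mp (hTmax _ h1 h2)
    rwa [inv_inv] at h3
  have hT'p : IsPGroup p (cj h (T : Subgroup H)) := isPGroup_cj T.isPGroup'
  have hNtop : Subgroup.normalizer (B : Set H) ≠ ⊤ := by
    intro hN
    obtain ⟨g₀, hg₀⟩ := hB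
    apply hg₀
    have hnorm : ∀ y : H, cj y B = B := by
      intro y
      have hy : y ∈ Subgroup.normalizer (B : Set H) := by
        rw [hN]
        exact Subgroup.mem_top y
      exact mem_normalizer_iff_cj.mp hy
    calc B = cj (g₀ * h⁻¹) B := (hnorm _).symm
      _ ≤ cj (g₀ * h⁻¹) (cj h M) := cj_mono _ (hBT'.trans hT'M)
      _ = cj g₀ M := by rw [cj_cj, inv_mul_cancel_right]
  by_cases hcase : cj h (T : Subgroup H) ≤ Subgroup.normalizer (B : Set H)
  · exact ⟨h, hBT'.trans hT'M, hT'max _ hcase hNtop⟩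
  · -- the normalizer condition in the `p`-group `T' = cj h T`
    obtain ⟨T', hT'def⟩ : ∃ T' : Subgroup H, T' = cj h (T : Subgroup H) := ⟨_, rfl⟩
    rw [← hT'def] at hBT' hT'M hT'max hT'p hcase
    obtain ⟨N, hNdef⟩ : ∃ N : Subgroup H, N = Subgroup.normalizer (B : Set H) ⊓ T' := ⟨_, rfl⟩
    have hBN : B ≤ N := by
      rw [hNdef]
      exact le_inf Subgroup.le_normalizer hBT'
    have hNT' : N ≤ T' := by
      rw [hNdef]
      exact inf_le_right
    have hNnorm : N ≤ Subgroup.normalizer (B : Set H) := by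
      rw [hNdef]
      exact inf_le_left
    have : Group.IsNilpotent ↥T' := hT'p.isNilpotent
    have hnc : NormalizerCondition ↥T' := Group.normalizerCondition_of_isNilpotent
    have hlt : N.subgroupOf T' < ⊤ := by
      rw [lt_top_iff_ne_top]
      intro htop
      apply hcase
      intro z hz
      have h1 : (⟨z, hz⟩ : ↥T') ∈ N.subgroupOf T' := by
        rw [htop]
        exact Subgroup.mem_top _
      rw [Subgroup.mem_subgroupOf] at h1
      exact hNnorm h1
    have h2 := hnc _ hlt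
    obtain ⟨u, hu, hunot⟩ := SetLike.exists_of_lt h2
    rw [Subgroup.mem_subgroupOf] at hunot
    have huT' : (u : H) ∈ T' := u.2
    have hunorm : (u : H) ∉ Subgroup.normalizer (B : Set H) := by
      intro h3
      apply hunot
      rw [hNdef]
      exact ⟨h3, huT'⟩
    have hcjN : cj (u : H) N ≤ N := by
      intro z hz
      rw [mem_cj] at hz
      -- `u⁻¹ z u ∈ N`, so `z = u (u⁻¹ z u) u⁻¹ ∈ N`
      have hz' : (⟨(u : H)⁻¹ * z * u, hNT' hz⟩ : ↥T') ∈ N.subgroupOf T' := by
        rw [Subgroup.mem_subgroupOf]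
        exact hz
      have h3 := (Subgroup.mem_normalizer_iff.mp hu _).mp hz'
      rw [Subgroup.mem_subgroupOf] at h3
      have e : ((u * (⟨(u : H)⁻¹ * z * u, hNT' hz⟩ : ↥T') * u⁻¹ : ↥T') : H) = z := by
        simp only [Subgroup.coe_mul, Subgroup.coe_inv]
        group
      rw [e] at h3
      exact h3
    have hne : cj (u : H) B ≠ B := fun h3 => hunorm (mem_normalizer_iff_cj.mpr h3)
    have hcjB : cj (u : H) B ≤ N := (cj_mono _ hBN).trans hcjN
    obtain ⟨U₁, hU₁def⟩ : ∃ U₁ : Subgroup H, U₁ = B ⊔ cj (u : H) B := ⟨_, rfl⟩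
    have hU₁T' : U₁ ≤ T' := by
      rw [hU₁def]
      exact sup_le hBT' (hcjB.trans hNT')
    have hU₁p : IsPGroup p U₁ := hT'p.to_le hU₁T'
    have hBU₁ : B ≤ U₁ := by
      rw [hU₁def]
      exact le_sup_left
    have hcjU₁ : cj (u : H) B ≤ U₁ := by
      rw [hU₁def]
      exact le_sup_right
    have hU₁ne : U₁ ≠ B := by
      intro h3
      rw [h3] at hcjU₁
      apply hne
      apply Subgroup.eq_of_le_of_card_ge hcjU₁
      rw [card_cj]
    have hfam : Fam p B U₁ := by
      refine ⟨hU₁p, hBU₁, hU₁ne, ?_⟩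
      rw [hU₁def]
      apply sup_le
      · have h1 : cj (1 : H) B ≤ B ⊔ cj (u : H) B := by
          rw [cj_one]
          exact le_sup_left
        have h3 := le_iSup (fun g : {g : H // cj g B ≤ B ⊔ cj (u : H) B} => cj g.1 B) ⟨1, h1⟩
        simp only [cj_one] at h3
        exact h3
      · exact le_iSup (fun g : {g : H // cj g B ≤ B ⊔ cj (u : H) B} => cj g.1 B)
          ⟨(u : H), le_sup_right⟩
    obtain ⟨g, hg1, hg2, hg3, hg4, hg5⟩ := hterm U₁ hfam
    refine ⟨g, hBU₁.trans hg2, ?_⟩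
    apply hg4
    · rw [hU₁def]
      exact sup_le Subgroup.le_normalizer (hcjB.trans hNnorm)
    · exact lt_top_iff_ne_top.mpr hNtop

end Cfsg.Agent.Lib.Helper58_LL_TERMA
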