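import Mathlib
import Cfsg.Prelude.Def_LocalStructure
import Cfsg.Agent.Lib.Helper48_LLDefs

/-!
# S2834 (architect helper48): package TR (helper58)

A good triple inside `↥L` (relative to `(L ⊓ cj g M).subgroupOf L`) is a good triple in `H`.
-/

set_option autoImplicit false
set_option linter.unusedVariables false
set_option linter.unusedSectionVars false

open Cfsg.Agent.Lib.Helper48_LLDefs

namespace Cfsg.Agent.Lib.Helper58_LL_TR

universe u

variable {p : ℕ} [Fact p.Prime] {H : Type u} [Group H] [Finite H]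

/-- the key translation -/
theorem le_cj_iff (M L : Subgroup H) (g : H) (x : ↥L) (X' : Subgroup ↥L) :
    X' ≤ cj x ((L ⊓ cj g M).subgroupOf L) ↔ X'.map L.subtype ≤ cj ((x : H) * g) M := by
  constructor
  · intro h z hz
    obtain ⟨z', hz', rfl⟩ := hz
    have h1 := h hz'
    rw [mem_cj, Subgroup.mem_subgroupOf] at h1
    have h2 : ((x⁻¹ * z' * x : ↥L) : H) ∈ cj g M := h1.2
    rw [mem_cj] at h2 ⊢
    have e : ((x : H) * g)⁻¹ * L.subtype z' * ((x : H) * g) =
        g⁻¹ * ((x⁻¹ * z' * x : ↥L) : H) * g := by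
      simp only [Subgroup.coe_mul, Subgroup.coe_inv, Subgroup.coe_subtype, mul_inv_rev]
      group
    rw [e]
    exact h2
  · intro h z' hz'
    have h1 : L.subtype z' ∈ cj ((x : H) * g) M := h ⟨z', hz', rfl⟩
    rw [mem_cj] at h1
    rw [mem_cj, Subgroup.mem_subgroupOf]
    refine ⟨(x⁻¹ * z' * x : ↥L).2, ?_⟩
    show ((x⁻¹ * z' * x : ↥L) : H) ∈ cj g M
    rw [mem_cj]
    have e : ((x : H) * g)⁻¹ * L.subtype z' * ((x : H) * g) =
        g⁻¹ * ((x⁻¹ * z' * x : ↥L) : H) * g := by
      simp only [Subgroup.coe_mul, Subgroup.coe_inv, Subgroup.coe_subtype, mul_inv_rev]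
      group
    rw [← e]
    exact h1

theorem map_cj (L : Subgroup H) (y : ↥L) (X' : Subgroup ↥L) :
    (cj y X').map L.subtype = cj (y : H) (X'.map L.subtype) := by
  ext z
  constructor
  · rintro ⟨z', hz', rfl⟩
    have hz'' : z' ∈ cj y X' := hz'
    rw [mem_cj] at hz'' ⊢
    refine ⟨y⁻¹ * z' * y, hz'', ?_⟩
    simp
  · intro hz
    rw [mem_cj] at hz
    obtain ⟨w, hw, hwz⟩ := hz
    refine ⟨y * w * y⁻¹, ?_, ?_⟩
    · show y * w * y⁻¹ ∈ cj y X'
      rw [mem_cj]
      have : y⁻¹ * (y * w * y⁻¹) * y = w := by group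
      rw [this]
      exact hw
    · have h1 : L.subtype (y * w * y⁻¹) = (y : H) * L.subtype w * (y : H)⁻¹ := by simp
      rw [h1, hwz]
      group

theorem tr (M L : Subgroup H) (g : H) (B' L' : Subgroup ↥L) (x : ↥L)
    (hgood : Good ((L ⊓ cj g M).subgroupOf L) B' L' x) :
    Good M (B'.map L.subtype) (L'.map L.subtype) ((x : H) * g) := by
  obtain ⟨h1, h2, h3, h4, y, hy, h5⟩ := hgood
  refine ⟨Subgroup.map_mono h1, (le_cj_iff M L g x B').mp h2,
    fun h => h3 ((le_cj_iff M L g x L').mpr h), ?_, ?_⟩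
  · intro X hBX hXL
    have hXleL : X ≤ L := by
      intro z hz
      obtain ⟨z', -, rfl⟩ := hXL.le hz
      exact z'.2
    have hXmap : (X.subgroupOf L).map L.subtype = X := by
      rw [Subgroup.map_subgroupOf_eq_of_le hXleL]
    have hB' : B' ≤ X.subgroupOf L := by
      intro b hb
      rw [Subgroup.mem_subgroupOf]
      exact hBX ⟨b, hb, rfl⟩
    have hle : X.subgroupOf L ≤ L' := by
      intro z hz
      rw [Subgroup.mem_subgroupOf] at hz
      obtain ⟨z', hz', hzz⟩ := hXL.le hz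
      have : z' = z := Subtype.ext hzz
      rw [← this]
      exact hz'
    have hlt : X.subgroupOf L < L' := by
      refine lt_of_le_of_ne hle ?_
      intro heq
      rw [← heq, hXmap] at hXL
      exact lt_irrefl _ hXL
    have := (le_cj_iff M L g x (X.subgroupOf L)).mp (h4 _ hB' hlt)
    rw [hXmap] at this
    exact this
  · refine ⟨(y : H), ⟨y, hy, rfl⟩, ?_⟩
    intro h
    apply h5
    rw [le_cj_iff, map_cj]
    exact h

end Cfsg.Agent.Lib.Helper58_LL_TR
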