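import Mathlib
import Cfsg.Prelude.Def_LocalStructure
import Cfsg.Agent.Lib.Helper48_LLDefs

/-!
# S2834 (L-Lemma) market (helper48), package CJ (helper8): goodness is invariant under conjugation.
-/

set_option autoImplicit false
set_option linter.unusedSectionVars false

open Cfsg.Agent.Lib.Helper48_LLDefs

namespace Cfsg.Agent.Lib.Helper8_LL_CJ

universe u

variable {p : ℕ} [Fact p.Prime] {H : Type u} [Group H] [Finite H]

/-- `cj h` reflects the order -/
theorem cj_le_cj_iff {H : Type*} [Group H] (h : H) {X Y : Subgroup H} : cj h X ≤ cj h Y ↔ X ≤ Y := by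
  rw [cj_le_iff, cj_cj, inv_mul_cancel, cj_one]

/-! ### CJ (size S).  Goodness is invariant under conjugation. -/
theorem cjg (M B L : Subgroup H) (g h : H) (hgood : Good M (cj h B) L g) :
    Good M B (cj h⁻¹ L) (h⁻¹ * g) := by
  obtain ⟨h1, h2, h3, h4, x₀, hx₀, h5⟩ := hgood
  have e : cj (h⁻¹ * g) M = cj h⁻¹ (cj g M) := (cj_cj h⁻¹ g M).symm
  refine ⟨cj_le_iff.mp h1, ?_, ?_, ?_, ?_⟩
  · rw [e]
    exact cj_le_iff.mp h2
  · rw [e, cj_le_cj_iff]
    exact h3
  · intro X hBX hXL
    rw [e]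
    apply cj_le_iff.mp
    apply h4 (cj h X) (cj_mono h hBX)
    refine lt_of_le_of_ne (cj_le_iff.mpr hXL.le) ?_
    intro heq
    apply hXL.ne
    rw [← heq, cj_cj, inv_mul_cancel, cj_one]
  · refine ⟨h⁻¹ * x₀ * h, ?_, ?_⟩
    · rw [mem_cj]
      simpa [mul_assoc] using hx₀
    · intro hle
      apply h5
      rw [e] at hle
      have := cj_mono h hle
      rw [cj_cj, cj_cj, mul_inv_cancel, cj_one] at this
      rw [cj_cj]
      have e2 : h * (h⁻¹ * x₀ * h) = x₀ * h := by group
      rw [e2] at this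
      exact this

end Cfsg.Agent.Lib.Helper8_LL_CJ
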