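import Mathlib
import Cfsg.Prelude.Def_LocalStructure
import Cfsg.Agent.Lib.Helper48_LLDefs
import Cfsg.Agent.Lib.Helper1_Cores

/-!
# S2834 (L-Lemma), package G1 (architect helper48)

`Good M B L g`, `B` a `p`-group ⟹ `L` is not a `p`-group and `O_p(L) ≤ cj g M`.
-/

set_option autoImplicit false
set_option linter.unusedSectionVars false

open Cfsg.Agent.Lib.Helper48_LLDefs

namespace Cfsg.Agent.Lib.Helper99_LL_G1

universe u

variable {p : ℕ} [Fact p.Prime] {H : Type u} [Group H] [Finite H]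

/-- `L` normalizes `O_p(L)` (as a subgroup of `H`). -/
theorem le_normalizer_pCoreOf (L : Subgroup H) :
    L ≤ Subgroup.normalizer ((Cfsg.pCoreOf p L : Subgroup H) : Set H) := by
  intro x hx
  have hn : (Cfsg.pCore p ↥L).Normal := Cfsg.Agent.Lib.Helper1_Cores.pCore_normal p
  rw [Subgroup.mem_normalizer_iff]
  intro y
  constructor
  · rintro ⟨z, hz, rfl⟩
    exact ⟨⟨x, hx⟩ * z * ⟨x, hx⟩⁻¹, hn.conj_mem z hz ⟨x, hx⟩, rfl⟩
  · rintro ⟨z, hz, hzy⟩
    refine ⟨⟨x, hx⟩⁻¹ * z * ⟨x, hx⟩, ?_, ?_⟩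
    · have := hn.conj_mem z hz ⟨x, hx⟩⁻¹
      simpa using this
    · have h1 : (z : H) = x * y * x⁻¹ := hzy
      simp only [Subgroup.subtype_apply, Subgroup.coe_mul, Subgroup.coe_inv, h1]
      group

theorem isPGroup_pCoreOf (L : Subgroup H) : IsPGroup p ↥(Cfsg.pCoreOf p L) :=
  (Cfsg.Agent.Lib.Helper1_Cores.pCore_isPGroup p).map _

theorem pCoreOf_le (L : Subgroup H) : Cfsg.pCoreOf p L ≤ L := Subgroup.map_subtype_le _

/-- In a good triple, `L` is not a `p`-group. -/
theorem not_isPGroup (M B L : Subgroup H) (g : H) (hgood : Good M B L g) : ¬ IsPGroup p ↥L := by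
  obtain ⟨hBL, hBg, hL, hX, x, hxL, hxB⟩ := hgood
  intro hLp
  have hnil : Group.IsNilpotent ↥L := hLp.isNilpotent
  have hnc : NormalizerCondition ↥L := Group.normalizerCondition_of_isNilpotent
  have hKtop : (cj g M).subgroupOf L < ⊤ := by
    rw [lt_top_iff_ne_top, Ne, Subgroup.subgroupOf_eq_top]
    exact hL
  have hlt := hnc _ hKtop
  -- the normalizer of `K` in `L`, as a subgroup of `H`
  have hBN : B ≤ (Subgroup.normalizer (((cj g M).subgroupOf L : Subgroup ↥L) : Set ↥L)).map L.subtype := by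
    intro b hb
    exact ⟨⟨b, hBL hb⟩, hlt.le (Subgroup.mem_subgroupOf.mpr (hBg hb)), rfl⟩
  have hNL : (Subgroup.normalizer (((cj g M).subgroupOf L : Subgroup ↥L) : Set ↥L)).map L.subtype ≤ L :=
    Subgroup.map_subtype_le _
  have hNtop : Subgroup.normalizer (((cj g M).subgroupOf L : Subgroup ↥L) : Set ↥L) = ⊤ := by
    by_contra hne
    have hlt2 : (Subgroup.normalizer (((cj g M).subgroupOf L : Subgroup ↥L) : Set ↥L)).map L.subtype < L := by
      refine lt_of_le_of_ne hNL ?_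
      intro heq
      apply hne
      rw [eq_top_iff]
      intro y _
      have hy : (y : H) ∈ (Subgroup.normalizer (((cj g M).subgroupOf L : Subgroup ↥L) : Set ↥L)).map
          L.subtype := by
        rw [heq]; exact y.2
      obtain ⟨z, hz, hzy⟩ := hy
      have : z = y := Subtype.ext hzy
      rwa [← this]
    have hle := hX _ hBN hlt2
    have : Subgroup.normalizer (((cj g M).subgroupOf L : Subgroup ↥L) : Set ↥L) ≤ (cj g M).subgroupOf L := by
      intro y hy
      rw [Subgroup.mem_subgroupOf]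
      exact hle ⟨y, hy, rfl⟩
    exact absurd (lt_of_lt_of_le hlt this) (lt_irrefl _)
  apply hxB
  rintro _ ⟨b, hb, rfl⟩
  have hxN : (⟨x, hxL⟩ : ↥L) ∈ Subgroup.normalizer (((cj g M).subgroupOf L : Subgroup ↥L) : Set ↥L) := by
    rw [hNtop]; trivial
  have hbK : (⟨b, hBL hb⟩ : ↥L) ∈ (cj g M).subgroupOf L := Subgroup.mem_subgroupOf.mpr (hBg hb)
  have := (Subgroup.mem_normalizer_iff.mp hxN _).mp hbK
  rw [Subgroup.mem_subgroupOf] at this
  simpa [MulAut.conj_apply] using this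

theorem g1 (M B L : Subgroup H) (g : H) (hBp : IsPGroup p B) (hgood : Good M B L g) :
    ¬ IsPGroup p ↥L ∧ Cfsg.pCoreOf p L ≤ cj g M := by
  have hnp := not_isPGroup (p := p) M B L g hgood
  refine ⟨hnp, ?_⟩
  obtain ⟨hBL, hBg, hL, hX, -⟩ := hgood
  have hsup : IsPGroup p ↥(B ⊔ Cfsg.pCoreOf p L) :=
    hBp.to_sup_of_normal_right' (isPGroup_pCoreOf L) (hBL.trans (le_normalizer_pCoreOf L))
  have hle : B ⊔ Cfsg.pCoreOf p L ≤ L := sup_le hBL (pCoreOf_le L)
  have hlt : B ⊔ Cfsg.pCoreOf p L < L := by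
    refine lt_of_le_of_ne hle ?_
    intro heq
    apply hnp
    rw [← heq]; exact hsup
  exact le_sup_right.trans (hX _ le_sup_left hlt)

end Cfsg.Agent.Lib.Helper99_LL_G1
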