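import Mathlib
import Cfsg.Prelude.Def_LocalStructure
import Cfsg.Agent.Lib.Helper48_LLDefs

/-!
# S2834 (L-Lemma), package G2 (architect helper48)

`Good M B L g`, `B` a `p`-group, `L` not a `p`-group ⟹ `L ⊓ cj g M` controls fusion of `B` in `L`:
if `x ∈ L` and `cj x B ≤ cj g M` then `x ∈ cj g M`.
-/

set_option autoImplicit false
set_option linter.unusedSectionVars false

open Cfsg.Agent.Lib.Helper48_LLDefs

namespace Cfsg.Agent.Lib.Helper99_LL_G2

universe u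

/-- membership in a conjugate Sylow subgroup -/
theorem mem_smul_sylow {G : Type*} [Group G] {p : ℕ} {g x : G} {P : Sylow p G} :
    x ∈ g • P ↔ g⁻¹ * x * g ∈ P := by
  have h : x ∈ ((g • P : Sylow p G) : Subgroup G) ↔ g⁻¹ * x * g ∈ (P : Subgroup G) := by
    rw [Sylow.coe_subgroup_smul, Subgroup.mem_pointwise_smul_iff_inv_smul_mem]
    simp [MulAut.smul_def]
  exact h

/-- Two Sylow `p`-subgroups of `G` contained in a subgroup `K` are conjugate under `K`. -/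
theorem sylow_conj_in {G : Type*} [Group G] [Finite G] {p : ℕ} [Fact p.Prime] (P P₂ : Sylow p G)
    (K : Subgroup G) (h1 : (P : Subgroup G) ≤ K) (h2 : (P₂ : Subgroup G) ≤ K) :
    ∃ w ∈ K, w • P = P₂ := by
  obtain ⟨w, hw⟩ := MulAction.exists_smul_eq ↥K (P.subtype h1) (P₂.subtype h2)
  refine ⟨w, w.2, ?_⟩
  rw [Sylow.smul_subtype h1 w] at hw
  exact Sylow.subtype_injective hw

variable {p : ℕ} [Fact p.Prime] {H : Type u} [Group H] [Finite H]

theorem g2 (M B L : Subgroup H) (g : H) (hBp : IsPGroup p B) (hgood : Good M B L g)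
    (hnp : ¬ IsPGroup p ↥L) :
    ∀ x ∈ L, cj x B ≤ cj g M → x ∈ cj g M := by
  obtain ⟨hBL, hBg, hL, hX, x0, hx0L, hx0B⟩ := hgood
  -- (a') every `p`-subgroup of `↥L` containing `B` lies in `K = (cj g M).subgroupOf L`
  have ha : ∀ S' : Subgroup ↥L, IsPGroup p S' → B.subgroupOf L ≤ S' → S' ≤ (cj g M).subgroupOf L := by
    intro S' hS' hBS'
    have h1 : B ≤ S'.map L.subtype := by
      intro b hb
      exact ⟨⟨b, hBL hb⟩, hBS' (Subgroup.mem_subgroupOf.mpr hb), rfl⟩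
    have h2 : S'.map L.subtype ≤ L := Subgroup.map_subtype_le _
    have h3 : IsPGroup p ↥(S'.map L.subtype) := hS'.map _
    have h4 : S'.map L.subtype < L := by
      refine lt_of_le_of_ne h2 ?_
      intro heq
      apply hnp
      rw [← heq]; exact h3
    have h5 := hX _ h1 h4
    intro s hs
    rw [Subgroup.mem_subgroupOf]
    exact h5 ⟨s, hs, rfl⟩
  have hB'p : IsPGroup p ↥(B.subgroupOf L) := hBp.comap_subtype
  obtain ⟨P, hBP⟩ := hB'p.exists_le_sylow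
  have hPK : (P : Subgroup ↥L) ≤ (cj g M).subgroupOf L := ha _ P.2 hBP
  -- (c) `N_L(P) ≤ K`
  have hNK : Subgroup.normalizer ((P : Subgroup ↥L) : Set ↥L) ≤ (cj g M).subgroupOf L := by
    have h1 : B ≤ (Subgroup.normalizer ((P : Subgroup ↥L) : Set ↥L)).map L.subtype := by
      intro b hb
      exact ⟨⟨b, hBL hb⟩, Subgroup.le_normalizer (hBP (Subgroup.mem_subgroupOf.mpr hb)), rfl⟩
    have h2 : (Subgroup.normalizer ((P : Subgroup ↥L) : Set ↥L)).map L.subtype ≤ L :=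
      Subgroup.map_subtype_le _
    have h4 : (Subgroup.normalizer ((P : Subgroup ↥L) : Set ↥L)).map L.subtype < L := by
      refine lt_of_le_of_ne h2 ?_
      intro heq
      apply hx0B
      rintro _ ⟨b, hb, rfl⟩
      have hxN : (⟨x0, hx0L⟩ : ↥L) ∈ Subgroup.normalizer ((P : Subgroup ↥L) : Set ↥L) := by
        have hy : (x0 : H) ∈ (Subgroup.normalizer ((P : Subgroup ↥L) : Set ↥L)).map L.subtype := by
          rw [heq]; exact hx0L
        obtain ⟨z, hz, hzy⟩ := hy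
        have : z = ⟨x0, hx0L⟩ := Subtype.ext hzy
        rwa [← this]
      have hbP : (⟨b, hBL hb⟩ : ↥L) ∈ (P : Subgroup ↥L) := hBP (Subgroup.mem_subgroupOf.mpr hb)
      have := hPK ((Subgroup.mem_normalizer_iff.mp hxN _).mp hbP)
      rw [Subgroup.mem_subgroupOf] at this
      simpa [MulAut.conj_apply] using this
    have h5 := hX _ h1 h4
    intro s hs
    rw [Subgroup.mem_subgroupOf]
    exact h5 ⟨s, hs, rfl⟩
  -- main
  intro x hx hxB
  have hQK : (B.subgroupOf L).map (MulAut.conj (⟨x, hx⟩ : ↥L)).toMonoidHom ≤ (cj g M).subgroupOf L := by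
    rintro _ ⟨b, hb, rfl⟩
    rw [Subgroup.mem_subgroupOf]
    apply hxB
    exact ⟨b, Subgroup.mem_subgroupOf.mp hb, by simp [MulAut.conj_apply]⟩
  have hQp : IsPGroup p ↥(((B.subgroupOf L).map (MulAut.conj (⟨x, hx⟩ : ↥L)).toMonoidHom).subgroupOf
      ((cj g M).subgroupOf L)) := (hB'p.map _).comap_subtype
  obtain ⟨R, hR⟩ := hQp.exists_le_sylow
  obtain ⟨y, hy⟩ := MulAction.exists_smul_eq ↥((cj g M).subgroupOf L) (P.subtype hPK) R
  rw [Sylow.smul_subtype hPK y] at hy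
  have hBP2 : B.subgroupOf L ≤ (((⟨x, hx⟩ : ↥L)⁻¹ * (y : ↥L)) • P : Sylow p ↥L) := by
    intro b hb
    have h1 : (⟨(⟨x, hx⟩ : ↥L) * b * (⟨x, hx⟩ : ↥L)⁻¹, hQK ⟨b, hb, by simp [MulAut.conj_apply]⟩⟩ :
        ↥((cj g M).subgroupOf L)) ∈ R := by
      apply hR
      rw [Subgroup.mem_subgroupOf]
      exact ⟨b, hb, by simp [MulAut.conj_apply]⟩
    rw [← hy] at h1
    have h2 : (⟨x, hx⟩ : ↥L) * b * (⟨x, hx⟩ : ↥L)⁻¹ ∈ ((y : ↥L) • P : Sylow p ↥L) := h1
    rw [mem_smul_sylow] at h2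
    show b ∈ (((⟨x, hx⟩ : ↥L)⁻¹ * (y : ↥L)) • P : Sylow p ↥L)
    rw [mem_smul_sylow]
    convert h2 using 1
    group
  have hP2K : ((((⟨x, hx⟩ : ↥L)⁻¹ * (y : ↥L)) • P : Sylow p ↥L) : Subgroup ↥L) ≤ (cj g M).subgroupOf L :=
    ha _ (Sylow.isPGroup' _) hBP2
  obtain ⟨w, hwK, hw⟩ := sylow_conj_in P _ _ hPK hP2K
  have hnorm : ((⟨x, hx⟩ : ↥L)⁻¹ * (y : ↥L))⁻¹ * w ∈ Subgroup.normalizer ((P : Subgroup ↥L) : Set ↥L) := by
    apply Sylow.smul_eq_iff_mem_normalizer.mp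
    rw [mul_smul, hw, inv_smul_smul]
  have h6 := hNK hnorm
  have h7 : (⟨x, hx⟩ : ↥L) ∈ (cj g M).subgroupOf L := by
    have h8 : (⟨x, hx⟩ : ↥L) = (y : ↥L) * (((⟨x, hx⟩ : ↥L)⁻¹ * (y : ↥L))⁻¹ * w) * w⁻¹ := by group
    rw [h8]
    exact Subgroup.mul_mem _ (Subgroup.mul_mem _ y.2 h6) (Subgroup.inv_mem _ hwK)
  exact Subgroup.mem_subgroupOf.mp h7

end Cfsg.Agent.Lib.Helper99_LL_G2
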