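import Mathlib
import Cfsg.Prelude.Def_LocalStructure
import Cfsg.Agent.Lib.Helper48_LLDefs
import Cfsg.Agent.Lib.Helper99_LL_G1
import Cfsg.Agent.Lib.Helper99_LL_G2
import Cfsg.Agent.Lib.Helper25_LL_TM
import Cfsg.Agent.Lib.Helper58_LL_TR
import Cfsg.Agent.Lib.Helper8_LL_CJ
import Cfsg.Agent.Lib.Helper58_LL_TERMA
import Cfsg.Agent.Lib.Helper25_LL_TERMB

/-!
# The L-Lemma (S2834): induction and assembly
-/

set_option autoImplicit false

open Cfsg.Agent.Lib.Helper48_LLDefs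

namespace Cfsg.Agent.Lib.Helper48_LLMain

universe u

variable {p : ℕ} [Fact p.Prime]

/-- CASE 1: a member of `Fam p B` with a good triple `(L, g)`, the theorem being known in `↥L`. -/
theorem step {H : Type u} [Group H] [Finite H] (M B U L : Subgroup H) (g : H)
    (hU : Fam p B U) (hgood : Good M U L g)
    (ih : ∀ (M' B' : Subgroup ↥L), TMin p M' → IsPGroup p B' → (∃ x : ↥L, ¬ B' ≤ cj x M') →
      ∃ (L' : Subgroup ↥L) (x : ↥L), Good M' B' L' x) :
    ∃ (L' : Subgroup H) (g' : H), Good M B L' g' := by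
  obtain ⟨hUp, hBU, hUne, hUgen⟩ := hU
  obtain ⟨hnp, -⟩ := Cfsg.Agent.Lib.Helper99_LL_G1.g1 M U L g hUp hgood
  have hTM := Cfsg.Agent.Lib.Helper25_LL_TM.tm M U L g hUp hgood hnp
  obtain ⟨hUL, hUg, hLg, hmin, x, hxL, hx⟩ := hgood
  -- some conjugate `cj h B ≤ U` is not inside `cj (x⁻¹ * g) M`
  have hex : ∃ h : H, cj h B ≤ U ∧ ¬ cj h B ≤ cj (x⁻¹ * g) M := by
    by_contra hcon
    push Not at hcon
    apply hx
    have h1 : U ≤ cj (x⁻¹ * g) M := hUgen.trans (iSup_le fun h => hcon h.1 h.2)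
    rw [cj_le_iff, cj_cj]
    exact h1
  obtain ⟨h, hhU, hh⟩ := hex
  have hhL : cj h B ≤ L := hhU.trans hUL
  -- the subgroup `B' = (cj h B).subgroupOf L` of `↥L`
  have hxinv : x⁻¹ ∈ L := L.inv_mem hxL
  have hB' : ∃ y : ↥L, ¬ (cj h B).subgroupOf L ≤ cj y ((L ⊓ cj g M).subgroupOf L) := by
    refine ⟨⟨x⁻¹, hxinv⟩, fun hle => hh ?_⟩
    intro b hb
    have hbL : b ∈ L := hhL hb
    have h2 : (⟨b, hbL⟩ : ↥L) ∈ cj (⟨x⁻¹, hxinv⟩ : ↥L) ((L ⊓ cj g M).subgroupOf L) :=
      hle (by simpa [Subgroup.mem_subgroupOf] using hb)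
    rw [mem_cj, Subgroup.mem_subgroupOf] at h2
    have h3 : x⁻¹⁻¹ * b * x⁻¹ ∈ cj g M := by simpa using h2.2
    rw [← cj_cj, mem_cj]
    exact h3
  have hB'p : IsPGroup p ↥((cj h B).subgroupOf L) := by
    have hBp : IsPGroup p ↥(cj h B) := hUp.to_le hhU
    exact hBp.comap_subtype
  obtain ⟨L'', x'', hgood''⟩ := ih _ _ hTM hB'p hB'
  have h4 := Cfsg.Agent.Lib.Helper58_LL_TR.tr M L g _ L'' x'' hgood''
  rw [Subgroup.map_subgroupOf_eq_of_le hhL] at h4
  exact ⟨_, _, Cfsg.Agent.Lib.Helper8_LL_CJ.cjg M B _ _ h h4⟩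

/-- The main induction. -/
theorem main_aux : ∀ n : ℕ, ∀ (H : Type u) [Group H] [Finite H], Nat.card H = n →
    ∀ M : Subgroup H, TMin p M → ∀ B : Subgroup H, IsPGroup p B → (∃ g : H, ¬ B ≤ cj g M) →
      ∃ (L : Subgroup H) (g : H), Good M B L g := by
  intro n
  induction n using Nat.strong_induction_on with
  | _ n IH =>
    intro H _ _ hn M hT
    -- downward induction on `Nat.card B`
    have key : ∀ k : ℕ, ∀ B : Subgroup H, n - Nat.card B = k → IsPGroup p B →
        (∃ g : H, ¬ B ≤ cj g M) → ∃ (L : Subgroup H) (g : H), Good M B L g := by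
      intro k
      induction k using Nat.strong_induction_on with
      | _ k IHk =>
        intro B hk hBp hB
        by_cases hc1 : ∃ (U L : Subgroup H) (g : H), Fam p B U ∧ Good M U L g ∧ L ≠ ⊤
        · obtain ⟨U, L, g, hU, hgood, hLtop⟩ := hc1
          have hlt : Nat.card ↥L < n := by
            rw [← hn]
            by_contra hge
            push Not at hge
            exact hLtop (L.eq_top_of_le_card hge)
          exact step M B U L g hU hgood
            (fun M' B' hT' hB'p hB' => IH _ hlt ↥L rfl M' hT' B' hB'p hB')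
        · push Not at hc1
          have hterm : ∀ U : Subgroup H, Fam p B U → ∃ g : H, Good M U ⊤ g := by
            intro U hU
            obtain ⟨hUp, hBU, hUne, hUgen⟩ := hU
            have hcard : Nat.card B < Nat.card U := by
              have hlt : B < U := lt_of_le_of_ne hBU (Ne.symm hUne)
              exact Set.ncard_lt_ncard (s := (B : Set H)) (t := (U : Set H)) hlt (Set.toFinite _)
            have hUn : Nat.card U ≤ n := hn ▸ Subgroup.card_le_card_group U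
            have hUB : ∃ g : H, ¬ U ≤ cj g M := by
              obtain ⟨g, hg⟩ := hB
              exact ⟨g, fun h => hg (hBU.trans h)⟩
            obtain ⟨L, g, hgood⟩ := IHk (n - Nat.card U) (by omega) U rfl hUp hUB
            have hL : L = ⊤ := hc1 U L g ⟨hUp, hBU, hUne, hUgen⟩ hgood
            exact ⟨g, hL ▸ hgood⟩
          obtain ⟨g, hBg, hN⟩ := Cfsg.Agent.Lib.Helper58_LL_TERMA.terma M B hT hBp hB hterm
          obtain ⟨L, hL⟩ := Cfsg.Agent.Lib.Helper25_LL_TERMB.termb M B hT hBp hB hterm g hBg hN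
          exact ⟨L, g, hL⟩
    intro B hBp hB
    exact key _ B rfl hBp hB

theorem main {H : Type u} [Group H] [Finite H] (M : Subgroup H) (hT : TMin p M) (B : Subgroup H)
    (hBp : IsPGroup p B) (hB : ∃ g : H, ¬ B ≤ cj g M) :
    ∃ (L : Subgroup H) (g : H), Good M B L g :=
  main_aux _ H rfl M hT B hBp hB

/-- The conclusion of S2834 from a good triple. -/
theorem concl {H : Type u} [Group H] [Finite H] (M B L : Subgroup H) (g : H) (hBp : IsPGroup p B)
    (hgood : Good M B L g) :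
    B ⊔ Cfsg.pCoreOf p L ≤ L ⊓ cj g M ∧ L ⊓ cj g M < L ∧
      (∀ X : Subgroup H, B ⊔ Cfsg.pCoreOf p L ≤ X → X < L → X ≤ L ⊓ cj g M) ∧
      ∀ x ∈ L, x ∉ L ⊓ cj g M → (B ⊔ cj x B) ⊔ Cfsg.pCoreOf p L = L := by
  obtain ⟨hnp, hO⟩ := Cfsg.Agent.Lib.Helper99_LL_G1.g1 M B L g hBp hgood
  have hctl := Cfsg.Agent.Lib.Helper99_LL_G2.g2 M B L g hBp hgood hnp
  obtain ⟨hBL, hBg, hLg, hmin, -⟩ := hgood
  have hOL : Cfsg.pCoreOf p L ≤ L := by
    unfold Cfsg.pCoreOf
    exact Subgroup.map_subtype_le _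
  refine ⟨le_inf (sup_le hBL hOL) (sup_le hBg hO), ?_, ?_, ?_⟩
  · exact lt_of_le_of_ne inf_le_left (fun h => hLg (h ▸ inf_le_right))
  · intro X hX hXL
    exact le_inf hXL.le (hmin X (le_sup_left.trans hX) hXL)
  · intro x hxL hx
    by_contra hne
    have hcxL : cj x B ≤ L := by
      intro y hy
      rw [mem_cj] at hy
      have := L.mul_mem (L.mul_mem hxL (hBL hy)) (L.inv_mem hxL)
      simpa [mul_assoc] using this
    have hYL : (B ⊔ cj x B) ⊔ Cfsg.pCoreOf p L ≤ L := sup_le (sup_le hBL hcxL) hOL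
    have hY := hmin _ (le_sup_left.trans le_sup_left) (lt_of_le_of_ne hYL hne)
    have hx' : x ∈ cj g M := hctl x hxL ((le_sup_right.trans le_sup_left).trans hY)
    exact hx ⟨hxL, hx'⟩

end Cfsg.Agent.Lib.Helper48_LLMain
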