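import Cfsg.Prelude.Def_LocalStructure
import Cfsg.Agent.Lib.Helper47_PClosed
import Cfsg.Agent.Lib.Helper47_TW
import Cfsg.Agent.Lib.Helper48_Coprime
import Cfsg.Agent.Lib.Helper24_CoprimeAction
import Cfsg.Agent.Lib.Helper1_Frattini

/-!
# General lemmas for the local structure rows (helper48)

* `relCommKer K B L`: the elements `g ∈ L` with `[K, g] ⊆ B`, a subgroup when `L` normalizes `B`.
* `commutator_iSup_le`: `[K, ⨆ F i] ≤ B` from `[K, F i] ≤ B`.
* `commute_of_coprime_of_commutator_le_derived`: a `p'`-element acting trivially on `A/A'`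
  for a `p`-group `A` centralizes `A`.
* `isPGroup_of_coprime_commutator_mem`: a finite group generated by `p`-elements whose `p'`-elements
  are central modulo a normal `p`-subgroup is a `p`-group.
-/

set_option autoImplicit false
open scoped commutatorElement

namespace Cfsg.Agent.Lib.Helper48_MSS

open Cfsg.Agent.Lib.Helper47_PClosed Cfsg.Agent.Lib.Helper47_PLocal

variable {G : Type*} [Group G]

/-- The elements `g` of `L` with `[K, g] ⊆ B`, for `B` normalized by `L`. -/
def relCommKer (K B L : Subgroup G) (hL : L ≤ Subgroup.normalizer (B : Set G)) : Subgroup G where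
  carrier := {g | g ∈ L ∧ ∀ k ∈ K, ⁅k, g⁆ ∈ B}
  one_mem' := by
    refine ⟨L.one_mem, ?_⟩
    intro k _
    simp [commutatorElement_def]
  mul_mem' := by
    rintro a b ⟨haL, ha⟩ ⟨hbL, hb⟩
    refine ⟨L.mul_mem haL hbL, ?_⟩
    intro k hk
    have h1 : ⁅k, a * b⁆ = ⁅k, a⁆ * (a * ⁅k, b⁆ * a⁻¹) := by
      simp only [commutatorElement_def]; group
    rw [h1]
    exact B.mul_mem (ha k hk) ((Subgroup.mem_normalizer_iff.mp (hL haL) _).mp (hb k hk))
  inv_mem' := by
    rintro a ⟨haL, ha⟩
    refine ⟨L.inv_mem haL, ?_⟩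
    intro k hk
    have h1 : ⁅k, a⁻¹⁆ = a⁻¹ * (⁅k, a⁆)⁻¹ * a⁻¹⁻¹ := by
      simp only [commutatorElement_def]; group
    rw [h1]
    exact (Subgroup.mem_normalizer_iff.mp (hL (L.inv_mem haL)) _).mp (B.inv_mem (ha k hk))

theorem le_relCommKer {K B L F : Subgroup G} (hL : L ≤ Subgroup.normalizer (B : Set G))
    (hFL : F ≤ L) (hKF : ⁅K, F⁆ ≤ B) : F ≤ relCommKer K B L hL := by
  intro g hg
  exact ⟨hFL hg, fun k hk => hKF (Subgroup.commutator_mem_commutator hk hg)⟩

theorem commutator_le_of_le_relCommKer {K B L F : Subgroup G}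
    (hL : L ≤ Subgroup.normalizer (B : Set G)) (hF : F ≤ relCommKer K B L hL) : ⁅K, F⁆ ≤ B := by
  rw [Subgroup.commutator_le]
  intro k hk g hg
  exact (hF hg).2 k hk

/-- `[K, ⨆ F i] ≤ B` as soon as every `[K, F i] ≤ B`, the `F i` lying in a subgroup normalizing `B`. -/
theorem commutator_iSup_le {ι : Sort*} {K B L : Subgroup G} (F : ι → Subgroup G)
    (hL : L ≤ Subgroup.normalizer (B : Set G)) (hFL : ∀ i, F i ≤ L) (hKF : ∀ i, ⁅K, F i⁆ ≤ B) :
    ⁅K, ⨆ i, F i⁆ ≤ B :=
  commutator_le_of_le_relCommKer hL (iSup_le fun i => le_relCommKer hL (hFL i) (hKF i))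

/-- A `p'`-element normalizing the finite `p`-group `A` and acting trivially on `A/A'`
centralizes `A`. -/
theorem commute_of_coprime_of_commutator_le_derived [Finite G] {p : ℕ} [Fact p.Prime]
    (A : Subgroup G) (hA : IsPGroup p A) (x : G) (hx : (orderOf x).Coprime p)
    (hxA : x ∈ Subgroup.normalizer (A : Set G))
    (hcomm : ⁅A, Subgroup.zpowers x⁆ ≤ ⁅A, A⁆) : ∀ a ∈ A, Commute x a := by
  classical
  set Z : Subgroup G := Subgroup.zpowers x with hZ
  have hZA : Z ≤ Subgroup.normalizer (A : Set G) := by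
    rw [hZ, Subgroup.zpowers_le]; exact hxA
  have hcop : (Nat.card ↥Z).Coprime (Nat.card ↥A) := by
    obtain ⟨k, hk⟩ := IsPGroup.iff_card.mp hA
    rw [hk, Nat.card_zpowers]
    exact Nat.Coprime.pow_right k hx
  have hZsolv : Group.IsSolvable ↥Z := by
    have : IsMulCommutative ↥Z := inferInstance
    have : CommGroup ↥Z := { (inferInstance : Group ↥Z) with mul_comm := fun a b => mul_comm' a b }
    infer_instance
  set C : Subgroup G := A ⊓ Subgroup.centralizer (Z : Set G) with hC
  have hsub : C.subgroupOf A ⊔ frattini ↥A = ⊤ := by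
    rw [eq_top_iff]
    rintro ⟨a, ha⟩ -
    obtain ⟨d, hd, c, hc, hdc⟩ :=
      Cfsg.Agent.Lib.Helper24_CoprimeAction.coprime_decomp Z A hZA hcop (Or.inl hZsolv) ha
    have hd' : d ∈ ⁅A, A⁆ := hcomm hd
    rw [← Subgroup.map_subtype_commutator] at hd'
    obtain ⟨d', hd'c, hd'd⟩ := hd'
    have hfr : d' ∈ frattini ↥A :=
      Cfsg.Agent.Lib.Helper1_Frattini.commutator_le_frattini_of_isPGroup hA hd'c
    have heq : (⟨a, ha⟩ : ↥A) = d' * ⟨c, hc.1⟩ := by
      apply Subtype.ext
      show a = (d' : G) * c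
      have : (d' : G) = d := hd'd
      rw [this, hdc]
    rw [heq, sup_comm]
    exact Subgroup.mul_mem_sup hfr (Subgroup.mem_subgroupOf.mpr hc)
  have h1 : C.subgroupOf A = ⊤ := frattini_nongenerating hsub
  rw [Subgroup.subgroupOf_eq_top] at h1
  intro a ha
  have h2 : a ∈ Subgroup.centralizer (Z : Set G) := (h1 ha).2
  rw [Subgroup.mem_centralizer_iff] at h2
  exact h2 x (Subgroup.mem_zpowers x)

/-- A finite group generated by `p`-elements, in which every `p'`-element is central modulo a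
normal `p`-subgroup `N`, is a `p`-group. -/
theorem isPGroup_of_coprime_commutator_mem {U : Type*} [Group U] [Finite U] {p : ℕ} [Fact p.Prime]
    (N : Subgroup U) [hNn : N.Normal] (hN : IsPGroup p N)
    (hc : ∀ x : U, (orderOf x).Coprime p → ∀ u : U, ⁅x, u⁆ ∈ N)
    (hgen : Subgroup.closure {g : U | ∃ k : ℕ, g ^ (p ^ k) = 1} = ⊤) : IsPGroup p U := by
  classical
  obtain ⟨T⟩ : Nonempty (Sylow p U) := inferInstance
  have hRp : IsPGroup p ↥(N ⊔ (T : Subgroup U)) := IsPGroup.to_sup_of_normal_left hN T.isPGroup'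
  have hRT : N ⊔ (T : Subgroup U) = T := T.is_maximal' hRp le_sup_right
  have hNT : N ≤ (T : Subgroup U) := by rw [← hRT]; exact le_sup_left
  -- `p'`-elements normalize `T`
  have hconj : ∀ x : U, (orderOf x).Coprime p → ∀ t ∈ (T : Subgroup U), x * t * x⁻¹ ∈ (T : Subgroup U) := by
    intro x hx t ht
    have h1 : x * t * x⁻¹ = ⁅x, t⁆ * t := by
      simp only [commutatorElement_def]; group
    rw [h1]
    exact (T : Subgroup U).mul_mem (hNT (hc x hx t)) ht
  have hnorm : Cfsg.pResidual p U ≤ Subgroup.normalizer ((T : Subgroup U) : Set U) := by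
    have h0 : Cfsg.pResidual p U = Subgroup.closure {g : U | Nat.Coprime (orderOf g) p} := rfl
    rw [h0, Subgroup.closure_le]
    intro x hx
    have hx' : (orderOf x).Coprime p := hx
    show x ∈ Subgroup.normalizer ((T : Subgroup U) : Set U)
    rw [Subgroup.mem_normalizer_iff]
    intro t
    constructor
    · exact hconj x hx' t
    · intro h
      have hxi : (orderOf x⁻¹).Coprime p := by rw [orderOf_inv]; exact hx'
      have := hconj x⁻¹ hxi _ h
      have e : x⁻¹ * (x * t * x⁻¹) * x⁻¹⁻¹ = t := by group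
      rwa [e] at this
  have htop : Subgroup.normalizer ((T : Subgroup U) : Set U) = ⊤ := by
    rw [eq_top_iff, ← pResidual_sup_sylow_eq_top T]
    exact sup_le hnorm Subgroup.le_normalizer
  have hTn : (T : Subgroup U).Normal := Subgroup.normalizer_eq_top_iff.mp htop
  have hall : (⊤ : Subgroup U) ≤ (T : Subgroup U) := by
    rw [← hgen, Subgroup.closure_le]
    rintro g ⟨k, hk⟩
    have hz : IsPGroup p (Subgroup.zpowers g) := zpowers_isPGroup_of_pow_eq_one hk
    have hsup : IsPGroup p ↥((T : Subgroup U) ⊔ Subgroup.zpowers g) :=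
      IsPGroup.to_sup_of_normal_left T.isPGroup' hz
    have := T.is_maximal' hsup le_sup_left
    have hle : Subgroup.zpowers g ≤ (T : Subgroup U) := by rw [← this]; exact le_sup_right
    exact hle (Subgroup.mem_zpowers g)
  intro g
  obtain ⟨k, hk⟩ := T.isPGroup' ⟨g, hall (Subgroup.mem_top g)⟩
  exact ⟨k, by simpa using congrArg Subtype.val hk⟩

end Cfsg.Agent.Lib.Helper48_MSS
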