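import Cfsg.Agent.Lib.Helper48_MSS
import Cfsg.Agent.Lib.Helper47_WC2
import Cfsg.Agent.Lib.Helper47_SubAPI

/-!
# Weak closures and `O^p` for a weakly closed `p`-subgroup (helper48)

* basic facts on `Cfsg.weakClosure`;
* `wc_exists_conj_opUp`: a conjugate of a weakly closed `Q` inside `L ≥ Q` is conjugate to `Q`
  under `O^p(L)`;
* `WCSide.*`: the one-sided analysis for the factorization `H° = H₁H₂`, `[H₁, H₂] ≤ N(Q)`.
-/

set_option autoImplicit false
open scoped commutatorElement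

namespace Cfsg.Agent.Lib.Helper48_MSS2

open Cfsg
open Cfsg.Agent.Lib.Helper48_MSS Cfsg.Agent.Lib.Helper47_PClosed Cfsg.Agent.Lib.Helper47_PLocal
  Cfsg.Agent.Lib.Helper47_Conj Cfsg.Agent.Lib.Helper47_WeaklyClosed Cfsg.Agent.Lib.Helper47_WC2
  Cfsg.Agent.Lib.Helper47_SubAPI Cfsg.Agent.Lib.Helper47_TW Cfsg.Agent.Lib.Helper48_Coprime

variable {G : Type*} [Group G]

/-! ### Normalizers -/

theorem le_normalizer_sup {X A B : Subgroup G} (hA : X ≤ Subgroup.normalizer (A : Set G))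
    (hB : X ≤ Subgroup.normalizer (B : Set G)) :
    X ≤ Subgroup.normalizer ((A ⊔ B : Subgroup G) : Set G) := by
  intro x hx
  rw [mem_normalizer_iff_map_conj_eq', Subgroup.map_sup,
    mem_normalizer_iff_map_conj_eq'.mp (hA hx), mem_normalizer_iff_map_conj_eq'.mp (hB hx)]

/-- `k Q k⁻¹ ≤ K Q` when `Q` normalizes `K ∋ k`. -/
theorem map_conj_le_sup_of_mem {K Q : Subgroup G} (hQK : Q ≤ Subgroup.normalizer (K : Set G))
    {k : G} (hk : k ∈ K) : Q.map (MulAut.conj k).toMonoidHom ≤ K ⊔ Q := by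
  rintro _ ⟨q, hq, rfl⟩
  have h1 : (MulAut.conj k).toMonoidHom q = ⁅k, q⁆ * q := by
    simp [commutatorElement_def]
  rw [h1]
  have h2 : ⁅K, Q⁆ ≤ K := Subgroup.le_normalizer_iff_commutator_le_left.mp hQK
  exact Subgroup.mul_mem _ (Subgroup.mem_sup_left (h2 (Subgroup.commutator_mem_commutator hk hq)))
    (Subgroup.mem_sup_right hq)

/-- `p'`-elements of `L R` lie in `L`, for a `p`-group `R` normalizing `L`. -/
theorem mem_of_mem_sup_of_coprime' {p : ℕ} [Fact p.Prime] {L R : Subgroup G} (hR : IsPGroup p R)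
    (hRL : R ≤ Subgroup.normalizer (L : Set G)) {x : G} (hx : x ∈ L ⊔ R)
    (hcop : (orderOf x).Coprime p) : x ∈ L := by
  obtain ⟨a, ha, c, hc, rfl⟩ := exists_mul_of_mem_sup_of_le_normalizer hRL hx
  exact mul_mem_of_coprime hR hRL ha hc hcop

theorem opUp_le_of_le_sup {p : ℕ} [Fact p.Prime] {V L R : Subgroup G} (hR : IsPGroup p R)
    (hRL : R ≤ Subgroup.normalizer (L : Set G)) (hV : V ≤ L ⊔ R) : opUp p V ≤ L := by
  unfold opUp
  rw [Subgroup.closure_le]
  rintro x ⟨hxV, hx⟩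
  exact mem_of_mem_sup_of_coprime' hR hRL (hV hxV) hx

theorem opUp_mono {p : ℕ} {A B : Subgroup G} (h : A ≤ B) : opUp p A ≤ opUp p B := by
  unfold opUp
  apply Subgroup.closure_mono
  rintro x ⟨hxA, hx⟩
  exact ⟨h hxA, hx⟩

theorem map_subtype_pResidual_eq_opUp {p : ℕ} (N : Subgroup G) :
    (Cfsg.pResidual p N).map N.subtype = opUp p N := by
  rw [map_subtype_pResidual]
  rfl

/-! ### Weak closure -/

theorem le_weakClosure {Q L : Subgroup G} {g : G}
    (h : Q.map (MulAut.conj g).toMonoidHom ≤ L) :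
    Q.map (MulAut.conj g).toMonoidHom ≤ Cfsg.weakClosure Q L :=
  le_iSup (fun g : {g : G // Q.map (MulAut.conj g).toMonoidHom ≤ L} =>
    Q.map (MulAut.conj (g : G)).toMonoidHom) ⟨g, h⟩

theorem weakClosure_le (Q L : Subgroup G) : Cfsg.weakClosure Q L ≤ L :=
  iSup_le (fun g => g.2)

theorem self_le_weakClosure {Q L : Subgroup G} (h : Q ≤ L) : Q ≤ Cfsg.weakClosure Q L := by
  have h1 : Q.map (MulAut.conj (1 : G)).toMonoidHom ≤ L := by rw [map_conj_one]; exact h
  have := le_weakClosure h1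
  rwa [map_conj_one] at this

theorem le_normalizer_weakClosure (Q L : Subgroup G) :
    L ≤ Subgroup.normalizer ((Cfsg.weakClosure Q L : Subgroup G) : Set G) := by
  apply le_normalizer_of_forall_map_conj_le
  intro l hl
  unfold Cfsg.weakClosure
  rw [Subgroup.map_iSup]
  refine iSup_le (fun g => ?_)
  rw [map_conj_map_conj]
  have h1 : Q.map (MulAut.conj (l * (g : G))).toMonoidHom ≤ L := by
    rw [← map_conj_map_conj]
    calc (Q.map (MulAut.conj (g : G)).toMonoidHom).map (MulAut.conj l).toMonoidHom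
        ≤ L.map (MulAut.conj l).toMonoidHom := Subgroup.map_mono g.2
      _ = L := map_conj_eq_self_of_mem hl
  exact le_weakClosure h1

/-- A conjugate of the weakly closed `p`-subgroup `Q` inside `L ≥ Q` is an `O^p(L)`-conjugate. -/
theorem wc_exists_conj_opUp [Finite G] {p : ℕ} [Fact p.Prime] {Q : Subgroup G}
    (hQp : IsPGroup p Q) (hwc : Cfsg.IsWeaklyClosedSubgroup p Q) {L : Subgroup G} (hQL : Q ≤ L)
    (g : G) (hg : Q.map (MulAut.conj g).toMonoidHom ≤ L) :
    ∃ k ∈ opUp p L, Q.map (MulAut.conj g).toMonoidHom = Q.map (MulAut.conj k).toMonoidHom := by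
  obtain ⟨l, hl, hgl⟩ := wc_conj_in_subgroup hQp hwc hQL g hg
  have hQ'p : IsPGroup p (Q.subgroupOf L) := hQp.comap_subtype
  obtain ⟨T, hT⟩ := hQ'p.exists_le_sylow
  set TG : Subgroup G := (T : Subgroup L).map L.subtype with hTG
  have hTp : IsPGroup p TG := T.isPGroup'.map _
  have hQT : Q ≤ TG := by
    have := Subgroup.map_mono (f := L.subtype) hT
    rwa [Subgroup.map_subgroupOf_eq_of_le hQL] at this
  have hTL : TG ≤ L := Subgroup.map_subtype_le _
  have hTN : TG ≤ Subgroup.normalizer (Q : Set G) :=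
    Subgroup.le_normalizer.trans (wc_normalizer_le hQp hwc hTp hQT)
  have hsup : opUp p L ⊔ TG = L := by
    rw [← map_subtype_pResidual_eq_opUp]
    exact map_pResidual_sup_map_sylow L T
  have hl' : l ∈ opUp p L ⊔ TG := by rw [hsup]; exact hl
  have hTK : TG ≤ Subgroup.normalizer ((opUp p L : Subgroup G) : Set G) :=
    hTL.trans (Subgroup.le_normalizer.trans (normalizer_le_normalizer_opUp p L))
  obtain ⟨k, hk, t, ht, rfl⟩ := exists_mul_of_mem_sup_of_le_normalizer hTK hl'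
  refine ⟨k, hk, ?_⟩
  rw [hgl, ← map_conj_map_conj k t Q, mem_normalizer_iff_map_conj_eq'.mp (hTN ht)]

end Cfsg.Agent.Lib.Helper48_MSS2
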