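import Mathlib
import Cfsg.Agent.Lib.Helper48_NQDefs
import Cfsg.Agent.Lib.Helper64_Fpf_FPF_DIH

/-!
# S2861 package NQ-DIH (helper48): the dihedral case

In `D_{2r}`, `r` an odd prime, a non-normal subgroup `P` of exponent 2 is `{1, t}` with `t` a
reflection, and it is self-normalizing.
-/

set_option autoImplicit false

open Cfsg.Agent.Lib.Helper48_NQDefs

namespace Cfsg.Agent.Lib.Helper48_NQ_DIH

open DihedralGroup Cfsg.Agent.Lib.Helper64_Fpf_FPF_DIH

theorem nq_dih {X : Type*} [Group X] [Finite X] (P : Subgroup X)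
    (hPe : ∀ y ∈ P, y ^ 2 = 1) (hne : ∃ x : X, x ∉ Subgroup.normalizer (P : Set X))
    (r : ℕ) (hr : r.Prime) (hr2 : r ≠ 2) (e : X ≃* DihedralGroup r) : UniqueEA 2 P := by
  have : Fact r.Prime := ⟨hr⟩
  -- involutions are reflections
  have hinvol : ∀ t : X, t ≠ 1 → t * t = 1 → ∃ i, e t = sr i := by
    intro t ht1 htt
    have h1 : e t * e t = 1 := by rw [← map_mul, htt, map_one]
    rcases hd : e t with i | i
    · exfalso
      rw [hd, r_mul_r, one_def] at h1
      have h2 : i + i = 0 := by injection h1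
      have hi := dbl_eq_zero hr hr2 i h2
      apply ht1
      apply e.injective
      rw [hd, hi, r_zero, map_one]
    · exact ⟨i, rfl⟩
  -- two commuting involutions are equal
  have hcomm : ∀ s t : X, s ≠ 1 → s * s = 1 → t ≠ 1 → t * t = 1 → s * t = t * s → s = t := by
    intro s t hs1 hss ht1 htt hst
    obtain ⟨a, ha⟩ := hinvol s hs1 hss
    obtain ⟨b, hb⟩ := hinvol t ht1 htt
    have h1 : e s * e t = e t * e s := by rw [← map_mul, hst, map_mul]
    rw [ha, hb, sr_mul_sr, sr_mul_sr] at h1
    have h3 : b - a = a - b := by injection h1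
    have h4 : (b - a) + (b - a) = 0 := by linear_combination h3
    have h5 := dbl_eq_zero hr hr2 _ h4
    have h6 : a = b := (sub_eq_zero.mp h5).symm
    apply e.injective
    rw [ha, hb, h6]
  have hsq : ∀ y ∈ P, y * y = 1 := fun y hy => by rw [← pow_two]; exact hPe y hy
  -- `P` is nontrivial
  obtain ⟨y0, hy0, hy01⟩ : ∃ y ∈ P, y ≠ 1 := by
    by_contra hcon
    push Not at hcon
    obtain ⟨x, hx⟩ := hne
    apply hx
    rw [Subgroup.mem_normalizer_iff]
    intro z
    constructor
    · intro hz
      have hz1 : z = 1 := hcon z hz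
      rw [hz1, mul_one, mul_inv_cancel]
      exact P.one_mem
    · intro hz
      have hz1 : x * z * x⁻¹ = 1 := hcon _ hz
      have hz2 : z = 1 := by
        have h3 : z = x⁻¹ * (x * z * x⁻¹) * x := by group
        rw [h3, hz1]; group
      rw [hz2]
      exact P.one_mem
  -- two nontrivial elements of `P` are equal
  have hP2 : ∀ y ∈ P, y = 1 ∨ y = y0 := by
    intro y hy
    by_cases hy1 : y = 1
    · exact Or.inl hy1
    · right
      -- `y * y0 ∈ P` has square one, so `y` and `y0` commute
      apply hcomm y y0 hy1 (hsq y hy) hy01 (hsq y0 hy0)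
      have h1 := hsq (y * y0) (P.mul_mem hy hy0)
      have h2 := hsq y hy
      have h3 := hsq y0 hy0
      calc y * y0 = y * y0 * ((y * y0) * (y * y0))⁻¹ * ((y * y0) * (y * y0)) := by group
        _ = y * y0 * ((y * y0) * (y * y0))⁻¹ := by rw [h1, mul_one]
        _ = (y0 * y0)⁻¹ * y0 * (y * y)⁻¹ * y := by group
        _ = y0 * y := by rw [h2, h3]; group
  intro V hVN _ _ hVe hV1
  have hVsq : ∀ v ∈ V, v * v = 1 := fun v hv => by rw [← pow_two]; exact hVe v hv
  -- nontrivial elements of `V` are equal to `y0`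
  have hV2 : ∀ v ∈ V, v = 1 ∨ v = y0 := by
    intro v hv
    by_cases hv1 : v = 1
    · exact Or.inl hv1
    · right
      apply hcomm v y0 hv1 (hVsq v hv) hy01 (hsq y0 hy0)
      have h1 := (Subgroup.mem_normalizer_iff.mp (hVN hv) y0).mp hy0
      rcases hP2 _ h1 with h2 | h2
      · exfalso
        apply hy01
        have h3 : y0 = v⁻¹ * (v * y0 * v⁻¹) * v := by group
        rw [h3, h2]; group
      · calc v * y0 = (v * y0 * v⁻¹) * v := by group
          _ = y0 * v := by rw [h2]
  apply le_antisymm
  · intro v hv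
    rcases hV2 v hv with h | h
    · rw [h]; exact P.one_mem
    · rw [h]; exact hy0
  · have hy0V : y0 ∈ V := by
      by_contra hcon
      apply hV1
      rw [eq_bot_iff]
      intro v hv
      rcases hV2 v hv with h | h
      · rw [h]; exact Subgroup.one_mem _
      · exfalso; rw [h] at hv; exact hcon hv
    intro y hy
    rcases hP2 y hy with h | h
    · rw [h]; exact V.one_mem
    · rw [h]; exact hy0V

end Cfsg.Agent.Lib.Helper48_NQ_DIH
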