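import Mathlib
import Cfsg.Agent.Lib.Helper48_NQDefs
import Cfsg.Agent.Lib.Helper50_Nat_SYL
import Cfsg.Agent.Lib.Helper5_PSLCard

/-!
# S2861 package NQ-SL (architect helper48): the `SL₂` case

`X ≃* SL(2, F)`, `P` of exponent `p` and order `|F|`: `P` is the only nontrivial elementary abelian
normal `p`-subgroup of `N_X(P)`.
-/

set_option autoImplicit false

open Matrix Cfsg.Agent.Lib.Helper50_SL2Mat Cfsg.Agent.Lib.Helper50_NatDefs
  Cfsg.Agent.Lib.Helper48_NQDefs
open scoped MatrixGroups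

namespace Cfsg.Agent.Lib.Helper5_NQ_SL

/-- normal form: `P` is a Sylow subgroup and goes to the upper unitriangular group -/
theorem normal_form {X : Type*} [Group X] [Finite X] {p : ℕ} [Fact p.Prime] (P : Subgroup X)
    (hPe : ∀ y ∈ P, y ^ p = 1) (F : Type) [Field F] [Fintype F]
    (hP : Nat.card P = Fintype.card F) (e : X ≃* Matrix.SpecialLinearGroup (Fin 2) F) :
    CharP F p ∧ ∃ (S : Sylow p X) (e' : X ≃* SL(2, F)), (S : Subgroup X) = P ∧
      ∀ x : X, x ∈ P ↔ ∃ s : F, e' x = tU s := by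
  classical
  have hp : p.Prime := Fact.out
  have hPp : IsPGroup p P := by
    intro y
    refine ⟨1, ?_⟩
    rw [pow_one]
    apply Subtype.ext
    rw [Subgroup.coe_pow, Subgroup.coe_one]
    exact hPe y y.2
  obtain ⟨n, hn⟩ := IsPGroup.iff_card.1 hPp
  have hq : Fintype.card F = p ^ n := by rw [← hP, hn]
  have hn0 : n ≠ 0 := by
    rintro rfl
    have := Fintype.one_lt_card (α := F)
    rw [hq, pow_zero] at this
    exact lt_irrefl _ this
  have hchar : CharP F p := by
    obtain ⟨k, hr, hk⟩ := FiniteField.card F (ringChar F)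
    have h1 : p ∣ ringChar F ^ (k : ℕ) := by rw [← hk, hq]; exact dvd_pow_self p hn0
    have hpr : p = ringChar F := (Nat.prime_dvd_prime_iff_eq hp hr).1 (hp.dvd_of_dvd_pow h1)
    rw [hpr]; exact ringChar.charP F
  haveI := hchar
  refine ⟨hchar, ?_⟩
  have hpn2 : 2 ≤ p ^ n := by
    calc 2 ≤ p := hp.two_le
      _ = p ^ 1 := (pow_one p).symm
      _ ≤ p ^ n := Nat.pow_le_pow_right hp.pos (Nat.one_le_iff_ne_zero.2 hn0)
  have hcardX : Nat.card X = p ^ n * ((p ^ n) ^ 2 - 1) := by
    rw [Nat.card_congr e.toEquiv, Cfsg.Agent.Lib.Helper5_PSLCard.card_SL_two, hq]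
  have hsq : 4 ≤ (p ^ n) ^ 2 := by nlinarith
  have hndvd : ¬ p ∣ (p ^ n) ^ 2 - 1 := by
    intro hd
    have h2 : p ∣ (p ^ n) ^ 2 := dvd_pow (dvd_pow_self p hn0) (by norm_num)
    have h3 : p ∣ (p ^ n) ^ 2 - ((p ^ n) ^ 2 - 1) := Nat.dvd_sub h2 hd
    have h4 : (p ^ n) ^ 2 - ((p ^ n) ^ 2 - 1) = 1 := by omega
    rw [h4] at h3
    exact hp.one_lt.ne' (Nat.dvd_one.1 h3)
  have hfact : (Nat.card X).factorization p = n := by
    rw [hcardX, Nat.factorization_mul (by positivity) (by omega), Finsupp.add_apply,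
      Nat.Prime.factorization_pow hp, Finsupp.single_eq_same,
      Nat.factorization_eq_zero_of_not_dvd hndvd, add_zero]
  let S : Sylow p X := Sylow.ofCard P (by rw [hn, hfact])
  have hSP : (S : Subgroup X) = P := Sylow.coe_ofCard P _
  obtain ⟨e', he'⟩ := Cfsg.Agent.Lib.Helper50_Nat_SYL.exists_equiv_sylow e S
  refine ⟨S, e', hSP, ?_⟩
  intro x
  rw [← he' x, ← hSP]; rfl

/-- in a finite group, `d P d⁻¹ ⊆ P` puts `d` in the normalizer -/
theorem mem_normalizer_of_conj_mem {X : Type*} [Group X] [Finite X] (P : Subgroup X) (d : X)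
    (h : ∀ y ∈ P, d * y * d⁻¹ ∈ P) : d ∈ Subgroup.normalizer (P : Set X) := by
  rw [Subgroup.mem_normalizer_iff]
  intro y
  refine ⟨h y, fun hy => ?_⟩
  let f : P → P := fun y => ⟨d * y * d⁻¹, h y y.2⟩
  have hf : Function.Injective f := by
    intro a b hab
    have h1 : d * (a : X) * d⁻¹ = d * (b : X) * d⁻¹ := congrArg Subtype.val hab
    apply Subtype.ext
    exact mul_left_cancel (mul_right_cancel h1)
  obtain ⟨y', hy'⟩ := (Finite.injective_iff_surjective.1 hf) ⟨d * y * d⁻¹, hy⟩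
  have h1 : d * (y' : X) * d⁻¹ = d * y * d⁻¹ := congrArg Subtype.val hy'
  have h2 : (y' : X) = y := mul_left_cancel (mul_right_cancel h1)
  rw [← h2]; exact y'.2

/-- every element of a finite field is a sum of two squares -/
theorem exists_sq_add_sq {F : Type*} [Field F] [Fintype F] (x : F) :
    ∃ a b : F, a * a + b * b = x := by
  by_cases h2 : ringChar F = 2
  · obtain ⟨a, ha⟩ := FiniteField.isSquare_of_char_two h2 x
    exact ⟨a, 0, by rw [mul_zero, add_zero, ha]⟩
  · have hodd := FiniteField.odd_card_of_char_ne_two h2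
    obtain ⟨a, b, hab⟩ := FiniteField.exists_root_sum_quadratic
      (f := (Polynomial.X ^ 2 : Polynomial F)) (g := Polynomial.X ^ 2 - Polynomial.C x)
      (Polynomial.degree_X_pow 2) (Polynomial.degree_X_pow_sub_C (by norm_num) x) hodd
    simp only [Polynomial.eval_pow, Polynomial.eval_X, Polynomial.eval_sub, Polynomial.eval_C]
      at hab
    exact ⟨a, b, by linear_combination hab⟩

theorem nq_sl {X : Type*} [Group X] [Finite X] {p : ℕ} [Fact p.Prime] (P : Subgroup X)
    (hPe : ∀ y ∈ P, y ^ p = 1) (F : Type) [Field F] [Fintype F]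
    (hP : Nat.card P = Fintype.card F) (e : X ≃* Matrix.SpecialLinearGroup (Fin 2) F) :
    UniqueEA p P := by
  classical
  obtain ⟨hchar, S, e', hSP, hPU⟩ := normal_form P hPe F hP e
  intro V hVN hNV hVc hVe hV1
  have hPp : IsPGroup p P := by rw [← hSP]; exact S.isPGroup'
  have hVp : IsPGroup p V := by
    intro y
    refine ⟨1, ?_⟩
    rw [pow_one]
    apply Subtype.ext
    rw [Subgroup.coe_pow, Subgroup.coe_one]
    exact hVe y y.2
  -- `V ≤ P`
  have hVP : V ≤ P := by
    have h1 : IsPGroup p (V ⊔ P : Subgroup X) := IsPGroup.to_sup_of_normal_right' hVp hPp hVN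
    have h2 : V ⊔ P = (S : Subgroup X) := S.is_maximal' h1 (by rw [hSP]; exact le_sup_right)
    rw [hSP] at h2
    exact le_trans le_sup_left (le_of_eq h2)
  -- a nontrivial element of `V`
  obtain ⟨v, hv, hv1⟩ : ∃ v ∈ V, v ≠ 1 := by
    by_contra hcon
    apply hV1
    rw [eq_bot_iff]
    intro v hv
    rw [Subgroup.mem_bot]
    by_contra hv1
    exact hcon ⟨v, hv, hv1⟩
  obtain ⟨s₀, hs₀⟩ := (hPU v).1 (hVP hv)
  have hs₀0 : s₀ ≠ 0 := by
    rintro rfl
    apply hv1
    apply e'.injective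
    rw [hs₀, tU_zero, map_one]
  -- the additive subgroup `W`
  let W : AddSubgroup F :=
    { carrier := {s | e'.symm (tU s) ∈ V}
      zero_mem' := by
        show e'.symm (tU 0) ∈ V
        rw [tU_zero, map_one]; exact V.one_mem
      add_mem' := by
        intro a b ha hb
        show e'.symm (tU (a + b)) ∈ V
        rw [tU_add, map_mul]; exact V.mul_mem ha hb
      neg_mem' := by
        intro a ha
        show e'.symm (tU (-a)) ∈ V
        rw [← tU_inv, map_inv]; exact V.inv_mem ha }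
  have hWmem : ∀ s : F, s ∈ W ↔ e'.symm (tU s) ∈ V := fun s => Iff.rfl
  have hs₀W : s₀ ∈ W := by
    rw [hWmem, ← hs₀, MulEquiv.symm_apply_apply]; exact hv
  -- stability under squares
  have hsq : ∀ t s : F, s ∈ W → t * t * s ∈ W := by
    intro t s hs
    by_cases ht : t = 0
    · subst ht; rw [zero_mul, zero_mul]; exact W.zero_mem
    set d : X := e'.symm (hT t ht) with hd
    have hdN : d ∈ Subgroup.normalizer (P : Set X) := by
      apply mem_normalizer_of_conj_mem
      intro y hy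
      obtain ⟨s', hs'⟩ := (hPU y).1 hy
      rw [hPU]
      refine ⟨t * t * s', ?_⟩
      rw [map_mul, map_mul, map_inv, hs', hd, MulEquiv.apply_symm_apply, hT_conj_tU]
    have hdV := hNV hdN
    have h1 := (Subgroup.mem_normalizer_iff.1 hdV (e'.symm (tU s))).1 hs
    rw [hWmem]
    have h2 : d * e'.symm (tU s) * d⁻¹ = e'.symm (tU (t * t * s)) := by
      rw [hd, ← map_inv, ← map_mul, ← map_mul, hT_conj_tU]
    rwa [h2] at h1
  -- stability under all multiplications
  have hmul : ∀ x s : F, s ∈ W → x * s ∈ W := by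
    intro x s hs
    obtain ⟨a, b, hab⟩ := exists_sq_add_sq x
    rw [← hab, add_mul]
    exact W.add_mem (hsq a s hs) (hsq b s hs)
  have hWtop : ∀ s : F, s ∈ W := by
    intro s
    have := hmul (s * s₀⁻¹) s₀ hs₀W
    rwa [mul_assoc, inv_mul_cancel₀ hs₀0, mul_one] at this
  -- `P ≤ V`
  have hPV : P ≤ V := by
    intro y hy
    obtain ⟨s, hs⟩ := (hPU y).1 hy
    have := (hWmem s).1 (hWtop s)
    rwa [← hs, MulEquiv.symm_apply_apply] at this
  exact le_antisymm hVP hPV

end Cfsg.Agent.Lib.Helper5_NQ_SL
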