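import Cfsg.Agent.Lib.Helper48_FpfMain
import Cfsg.Agent.Lib.Helper48_NQDefs
import Cfsg.Agent.Lib.Helper48_NQ_DIH
import Cfsg.Agent.Lib.Helper47_NQ_SZ
import Cfsg.Agent.Lib.Helper5_NQ_SL

/-!
# S2861 (helper48): `Y A / A` is the unique nontrivial elementary abelian normal `p`-subgroup of
`N_L(Y) / A`
-/

set_option autoImplicit false

namespace Cfsg.Agent.Lib.Helper48_NQMain

open Cfsg.Agent.Lib.Helper47_PLocal Cfsg.Agent.Lib.Helper47_SubAPI
open Cfsg.Agent.Lib.Helper48_FpfRedA Cfsg.Agent.Lib.Helper48_FpfRedB Cfsg.Agent.Lib.Helper48_FpfDefs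
open Cfsg.Agent.Lib.Helper48_FpfMain Cfsg.Agent.Lib.Helper48_NQDefs

variable {G : Type*} [Group G] {p : ℕ} {L Y A : Subgroup G}

section Pfacts

variable {A' : Subgroup ↥L} [hn : A'.Normal]

theorem P_comm (d : LData p L Y A) :
    ∀ y ∈ (Y.subgroupOf L).map (QuotientGroup.mk' A'),
      ∀ z ∈ (Y.subgroupOf L).map (QuotientGroup.mk' A'), y * z = z * y := by
  rintro _ ⟨y, hy, rfl⟩ _ ⟨z, hz, rfl⟩
  rw [← map_mul, ← map_mul]
  congr 1
  apply Subtype.ext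
  exact d.hYc _ (Subgroup.mem_subgroupOf.mp hy) _ (Subgroup.mem_subgroupOf.mp hz)

theorem P_exp (d : LData p L Y A) :
    ∀ y ∈ (Y.subgroupOf L).map (QuotientGroup.mk' A'), y ^ p = 1 := by
  rintro _ ⟨y, hy, rfl⟩
  rw [← map_pow]
  have h1 : y ^ p = 1 := Subtype.ext (by
    simpa using d.hYe _ (Subgroup.mem_subgroupOf.mp hy))
  rw [h1, map_one]

theorem P_ne [Finite G] (d : LData p L Y A) (hA' : A'.map L.subtype = A) :
    ∃ x : ↥L ⧸ A', x ∉ Subgroup.normalizer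
      (((Y.subgroupOf L).map (QuotientGroup.mk' A') : Subgroup (↥L ⧸ A')) : Set (↥L ⧸ A')) := by
  obtain ⟨x, hx, hxn⟩ := d.exists_not_mem
  exact ⟨QuotientGroup.mk' A' ⟨x, hx⟩, fun h => hxn (mem_normalizer_of_mk d hA' h)⟩

theorem P_gen [Finite G] (d : LData p L Y A) :
    ∀ x : ↥L ⧸ A', x ∉ Subgroup.normalizer
      (((Y.subgroupOf L).map (QuotientGroup.mk' A') : Subgroup (↥L ⧸ A')) : Set (↥L ⧸ A')) →
      (Y.subgroupOf L).map (QuotientGroup.mk' A') ⊔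
        ((Y.subgroupOf L).map (QuotientGroup.mk' A')).map (MulAut.conj x).toMonoidHom = ⊤ := by
  intro xb hxb
  obtain ⟨x, rfl⟩ := QuotientGroup.mk'_surjective A' xb
  have hxn : (x : G) ∉ Subgroup.normalizer (Y : Set G) := fun h => hxb (mk_mem_normalizer h)
  have hsup := d.sup_conj_eq x.2 hxn
  rw [eq_top_iff]
  intro lb _
  obtain ⟨l, rfl⟩ := QuotientGroup.mk'_surjective A' lb
  have hle : L ≤ (((Y.subgroupOf L).map (QuotientGroup.mk' A') ⊔
      ((Y.subgroupOf L).map (QuotientGroup.mk' A')).map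
        (MulAut.conj (QuotientGroup.mk' A' x)).toMonoidHom).comap
          (QuotientGroup.mk' A')).map L.subtype := by
    refine le_trans (le_of_eq hsup.symm) (sup_le ?_ ?_)
    · intro y hy
      refine ⟨⟨y, d.hYL hy⟩, ?_, rfl⟩
      exact Subgroup.mem_sup_left ⟨⟨y, d.hYL hy⟩, Subgroup.mem_subgroupOf.mpr hy, rfl⟩
    · rintro _ ⟨y, hy, rfl⟩
      refine ⟨x * ⟨y, d.hYL hy⟩ * x⁻¹, ?_, rfl⟩
      apply Subgroup.mem_sup_right
      refine ⟨QuotientGroup.mk' A' ⟨y, d.hYL hy⟩,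
        ⟨⟨y, d.hYL hy⟩, Subgroup.mem_subgroupOf.mpr hy, rfl⟩, ?_⟩
      simp only [MulEquiv.coe_toMonoidHom, MulAut.conj_apply, map_mul, map_inv]
  obtain ⟨s, hs, hsl⟩ := hle l.2
  have : s = l := Subtype.ext hsl
  rw [this] at hs
  exact hs

end Pfacts

/-- `UniqueEA` for the image of `Y` in `L / O_p(L)`, from the three cases -/
theorem uniqueEA_of_cases [Finite G] [Fact p.Prime] {L Y : Subgroup G}
    (d : LData p L Y (Cfsg.pCoreOf p L))
    (h7 : (∃ (F : Type) (_ : Field F) (_ : Fintype F),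
        Fintype.card F = (Y ⊓ Cfsg.pCoreOf p L).relIndex Y ∧
          Nonempty (↥L ⧸ Cfsg.pCore p ↥L ≃* Matrix.SpecialLinearGroup (Fin 2) F)) ∨
      (p = 2 ∧ ∃ (F : Type) (_ : Field F) (_ : Fintype F) (m : ℕ),
        Fintype.card F = 2 ^ (2 * m + 1) ∧
          Fintype.card F = (Y ⊓ Cfsg.pCoreOf p L).relIndex Y ∧
            Nonempty (↥L ⧸ Cfsg.pCore p ↥L ≃* ↥(Cfsg.Lie.Sz F (2 ^ (m + 1))))) ∨
      (p = 2 ∧ ∃ r : ℕ, r.Prime ∧ r ≠ 2 ∧
        Nonempty (↥L ⧸ Cfsg.pCore p ↥L ≃* DihedralGroup r))) :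
    UniqueEA p ((Y.subgroupOf L).map (QuotientGroup.mk' (Cfsg.pCore p ↥L))) := by
  have hPcard := card_image (p := p) L Y d.hYL
  have hc := P_comm (A' := Cfsg.pCore p ↥L) d
  have he := P_exp (A' := Cfsg.pCore p ↥L) d
  have hne := P_ne (A' := Cfsg.pCore p ↥L) d rfl
  have hgen := P_gen (A' := Cfsg.pCore p ↥L) d
  rcases h7 with ⟨F, iF1, iF2, hFc, ⟨e⟩⟩ | ⟨rfl, F, iF1, iF2, m, hF2, hFc, ⟨e⟩⟩ |
    ⟨rfl, r, hr, hr2, ⟨e⟩⟩
  · exact Cfsg.Agent.Lib.Helper5_NQ_SL.nq_sl _ he F (hPcard.trans hFc.symm) e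
  · rcases Nat.eq_zero_or_pos m with rfl | hm
    · exfalso
      have hF2' : Fintype.card F = 2 := by simpa using hF2
      exact Cfsg.Agent.Lib.Helper91_Fpf_SZZERO.sz_zero_false _ F hF2'
        (by rw [hPcard, ← hFc]; exact hF2') e hne hgen
    · apply UniqueEA.of_equiv (e.trans (Cfsg.Agent.Helper37Sz.lieSzEquiv hm hF2).symm)
      apply Cfsg.Agent.Lib.Helper47_NQ_SZ.nq_sz hm hF2
      · rintro _ ⟨y, hy, rfl⟩ _ ⟨z, hz, rfl⟩
        simp only [MulEquiv.coe_toMonoidHom]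
        rw [← map_mul, ← map_mul, hc y hy z hz]
      · rintro _ ⟨y, hy, rfl⟩
        simp only [MulEquiv.coe_toMonoidHom]
        rw [← map_pow, he y hy, map_one]
      · rw [Subgroup.card_map_of_injective (MulEquiv.injective _), hPcard, ← hFc, hF2]
  · exact Cfsg.Agent.Lib.Helper48_NQ_DIH.nq_dih _ he hne r hr hr2 e

/-- **S2861**, in terms of `LData`. -/
theorem main_nq [Finite G] [Fact p.Prime] {L Y : Subgroup G}
    (d : LData p L Y (Cfsg.pCoreOf p L))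
    (hU : UniqueEA p ((Y.subgroupOf L).map (QuotientGroup.mk' (Cfsg.pCore p ↥L))))
    (NL : Subgroup G) (hNL : NL = L ⊓ Subgroup.normalizer (Y : Set G))
    [hn : ((Cfsg.pCoreOf p L).subgroupOf NL).Normal] :
    let Ybar : Subgroup (↥NL ⧸ (Cfsg.pCoreOf p L).subgroupOf NL) :=
      (Y.subgroupOf NL).map (QuotientGroup.mk' ((Cfsg.pCoreOf p L).subgroupOf NL))
    Ybar ≠ ⊥ ∧ Ybar.Normal ∧ Cfsg.IsElementaryAbelian p Ybar ∧
      ∀ V : Subgroup (↥NL ⧸ (Cfsg.pCoreOf p L).subgroupOf NL), V.Normal →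
        Cfsg.IsElementaryAbelian p V → V ≠ ⊥ → V = Ybar := by
  intro Ybar
  have hle : NL ≤ L := by rw [hNL]; exact inf_le_left
  have hNLY : NL ≤ Subgroup.normalizer (Y : Set G) := by rw [hNL]; exact inf_le_right
  have hYNL : Y ≤ NL := by rw [hNL]; exact le_inf d.hYL Subgroup.le_normalizer
  -- the map `N_L(Y) → L / O_p(L)`
  let φ : ↥NL →* ↥L ⧸ Cfsg.pCore p ↥L :=
    (QuotientGroup.mk' (Cfsg.pCore p ↥L)).comp (Subgroup.inclusion hle)
  have hφ : ∀ n : ↥NL, φ n = QuotientGroup.mk' (Cfsg.pCore p ↥L) ⟨n, hle n.2⟩ := fun n => rfl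
  have hφker : ∀ n : ↥NL, φ n = 1 ↔ n ∈ (Cfsg.pCoreOf p L).subgroupOf NL := by
    intro n
    rw [hφ, QuotientGroup.mk'_apply, QuotientGroup.eq_one_iff, Subgroup.mem_subgroupOf]
    constructor
    · intro h
      exact ⟨⟨n, hle n.2⟩, h, rfl⟩
    · rintro ⟨a, ha, h1⟩
      have h2 : a = ⟨n, hle n.2⟩ := Subtype.ext h1
      rwa [h2] at ha
  let ψ : ↥NL ⧸ (Cfsg.pCoreOf p L).subgroupOf NL →* ↥L ⧸ Cfsg.pCore p ↥L :=
    QuotientGroup.lift _ φ (fun n hn => (hφker n).mpr hn)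
  have hψ : ∀ n : ↥NL, ψ (QuotientGroup.mk' _ n) = φ n := fun n => rfl
  have hψinj : Function.Injective ψ := by
    rw [injective_iff_map_eq_one]
    intro q hq
    obtain ⟨n, rfl⟩ := QuotientGroup.mk'_surjective _ q
    rw [hψ] at hq
    exact (QuotientGroup.eq_one_iff n).mpr ((hφker n).mp hq)
  -- the image of `ψ` is the normalizer of `P`
  have hψN : ∀ q, ψ q ∈ Subgroup.normalizer
      (((Y.subgroupOf L).map (QuotientGroup.mk' (Cfsg.pCore p ↥L)) :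
        Subgroup (↥L ⧸ Cfsg.pCore p ↥L)) : Set (↥L ⧸ Cfsg.pCore p ↥L)) := by
    intro q
    obtain ⟨n, rfl⟩ := QuotientGroup.mk'_surjective _ q
    rw [hψ, hφ]
    exact mk_mem_normalizer (hNLY n.2)
  have hNψ : ∀ xb ∈ Subgroup.normalizer
      (((Y.subgroupOf L).map (QuotientGroup.mk' (Cfsg.pCore p ↥L)) :
        Subgroup (↥L ⧸ Cfsg.pCore p ↥L)) : Set (↥L ⧸ Cfsg.pCore p ↥L)), ∃ q, ψ q = xb := by
    intro xb hxb
    obtain ⟨x, rfl⟩ := QuotientGroup.mk'_surjective _ xb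
    have hx := mem_normalizer_of_mk d rfl hxb
    have hxNL : (x : G) ∈ NL := by rw [hNL]; exact ⟨x.2, hx⟩
    exact ⟨QuotientGroup.mk' _ ⟨x, hxNL⟩, rfl⟩
  -- the image of `Ybar`
  have hYbar : Ybar.map ψ = (Y.subgroupOf L).map (QuotientGroup.mk' (Cfsg.pCore p ↥L)) := by
    ext xb
    constructor
    · rintro ⟨_, ⟨y, hy, rfl⟩, rfl⟩
      rw [hψ, hφ]
      exact ⟨⟨y, hle y.2⟩, Subgroup.mem_subgroupOf.mpr (Subgroup.mem_subgroupOf.mp hy), rfl⟩
    · rintro ⟨y, hy, rfl⟩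
      have hyY : (y : G) ∈ Y := Subgroup.mem_subgroupOf.mp hy
      exact ⟨QuotientGroup.mk' _ ⟨y, hYNL hyY⟩,
        ⟨⟨y, hYNL hyY⟩, Subgroup.mem_subgroupOf.mpr hyY, rfl⟩, rfl⟩
  have hPne := P_ne (A' := Cfsg.pCore p ↥L) d rfl
  refine ⟨?_, ?_, ?_, ?_⟩
  · intro hbot
    rw [hbot, Subgroup.map_bot] at hYbar
    obtain ⟨x, hx⟩ := hPne
    apply hx
    rw [← hYbar]
    rw [Subgroup.mem_normalizer_iff]
    intro g
    simp only [Subgroup.mem_bot]
    constructor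
    · rintro rfl; group
    · intro h
      have : g = x⁻¹ * (x * g * x⁻¹) * x := by group
      rw [this, h]; group
  · have h1 : (Y.subgroupOf NL).Normal := Subgroup.normal_subgroupOf_of_le_normalizer hNLY
    exact Subgroup.Normal.map h1 _ (QuotientGroup.mk'_surjective _)
  · refine ⟨⟨⟨?_⟩⟩, ?_⟩
    · rintro ⟨_, ⟨y, hy, rfl⟩⟩ ⟨_, ⟨z, hz, rfl⟩⟩
      apply Subtype.ext
      show QuotientGroup.mk' _ y * QuotientGroup.mk' _ z = QuotientGroup.mk' _ z * QuotientGroup.mk' _ y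
      rw [← map_mul, ← map_mul]
      congr 1
      apply Subtype.ext
      exact d.hYc _ (Subgroup.mem_subgroupOf.mp hy) _ (Subgroup.mem_subgroupOf.mp hz)
    · rintro _ ⟨y, hy, rfl⟩
      rw [← map_pow]
      have h1 : y ^ p = 1 := Subtype.ext (by
        simpa using d.hYe _ (Subgroup.mem_subgroupOf.mp hy))
      rw [h1, map_one]
  · intro V hVn hVe hV1
    have h1 : V.map ψ = (Y.subgroupOf L).map (QuotientGroup.mk' (Cfsg.pCore p ↥L)) := by
      apply hU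
      · rintro _ ⟨v, -, rfl⟩
        exact hψN v
      · apply le_normalizer_of_conj_mem
        rintro s hs _ ⟨v, hv, rfl⟩
        obtain ⟨q, rfl⟩ := hNψ s hs
        refine ⟨q * v * q⁻¹, hVn.conj_mem v hv q, ?_⟩
        rw [map_mul, map_mul, map_inv]
      · rintro _ ⟨v, hv, rfl⟩ _ ⟨w, hw, rfl⟩
        have h2 := hVe.1.is_comm.comm (⟨v, hv⟩ : ↥V) ⟨w, hw⟩
        have h3 : v * w = w * v := congrArg Subtype.val h2
        rw [← map_mul, ← map_mul, h3]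
      · rintro _ ⟨v, hv, rfl⟩
        rw [← map_pow, hVe.2 v hv, map_one]
      · intro hbot
        apply hV1
        rw [eq_bot_iff]
        intro v hv
        have h2 : ψ v ∈ V.map ψ := ⟨v, hv, rfl⟩
        rw [hbot, Subgroup.mem_bot] at h2
        rw [Subgroup.mem_bot]
        exact hψinj (by rw [h2, map_one])
    rw [← hYbar] at h1
    exact Subgroup.map_injective hψinj h1

end Cfsg.Agent.Lib.Helper48_NQMain
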