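import Mathlib
import Cfsg.Agent.Lib.Helper95_OPDefs
import Cfsg.Agent.Lib.Helper95_OPBasic
import Cfsg.Agent.Lib.Helper48_OODefs
import Cfsg.Agent.Lib.Helper87_OO2Defs
import Cfsg.Agent.Lib.Helper87_OO2Defs2
import Cfsg.Agent.Lib.Helper87_OO2Defs3
import Cfsg.Agent.Lib.Helper85_OO2_RankOne
import Cfsg.Agent.Lib.Helper85_OO2_REL1
import Cfsg.Agent.Lib.Helper85_OO2_ELT
import Cfsg.Agent.Lib.Helper12_OO2_HEIS
import Cfsg.Agent.Lib.Helper29_OO2_M0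
import Cfsg.Agent.Lib.Helper73_OO2_STAB

/-!
helper73 — core of package OO2-J12F2 of helper87's wave 3 for S2344 (the base `n = 3`; also the core
of the `J` items of helper16's OO2-B3-F2STAB): the operators `J_1 = ∑ x1(s) n1` and `J_2 = ∑ x2(s) n2`
preserve `F_2`, with the facts of the packages still in progress (`fixL W_1 = ⊤`, `W_1 = span {w1, w1', x}`,
`E(w1, s x)` trivial on `F_2`) as hypotheses.
-/

set_option autoImplicit false
set_option linter.unusedSectionVars false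
set_option linter.unusedVariables false

namespace Cfsg.Agent.Lib.Helper73_OO2_J12F2aux

open Module Cfsg.Agent.Lib.Helper94_OrthSmall Cfsg.Agent.Lib.Helper44_QuadClass
  Cfsg.Agent.Lib.Helper14_OmegaSimple Cfsg.Agent.Lib.Helper38_MIODefs
  Cfsg.Agent.Lib.Helper95_OPDefs Cfsg.Agent.Lib.Helper95_OPBasic Cfsg.Agent.Lib.Helper48_OODefs
  Cfsg.Agent.Lib.Helper87_OO2Defs Cfsg.Agent.Lib.Helper85_OO2_RankOne
  Cfsg.Agent.Lib.Helper73_OO2_STAB

section partI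

variable {F V : Type*} [Field F] [Fintype F] [AddCommGroup V] [Module F V] [FiniteDimensional F V]
  {X : Type*} [AddCommGroup X] [Module ℂ X] [FiniteDimensional ℂ X]

/-- the two forms of the operator `J` -/
theorem Jop_eq' (Q : QuadraticForm F V) (ρ : Representation ℂ ↥(T Q) X) (a a' b b' : V) :
    Cfsg.Agent.Lib.Helper87_OO2Defs.Jop Q ρ a a' b b' =
      Cfsg.Agent.Lib.Helper85_OO2_RankOne.Jop (fun s => repE Q ρ (xr Q a b' s))
        (repE Q ρ (nw Q a a' b b' 1)) := by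
  unfold Cfsg.Agent.Lib.Helper87_OO2Defs.Jop Cfsg.Agent.Lib.Helper85_OO2_RankOne.Jop
    Cfsg.Agent.Lib.Helper85_OO2_RankOne.Pop
  rw [Finset.sum_mul]

/-- `J y` is fixed by the `x s` -/
theorem Jop_fix (Q : QuadraticForm F V) (ρ : Representation ℂ ↥(T Q) X) {a a' b b' : V}
    (h : HQuad Q a a' b b') (y : X) (s : F) :
    repE Q ρ (xr Q a b' s) (Cfsg.Agent.Lib.Helper87_OO2Defs.Jop Q ρ a a' b b' y) =
      Cfsg.Agent.Lib.Helper87_OO2Defs.Jop Q ρ a a' b b' y := by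
  rw [Jop_eq']
  exact Jop_mem_fixX (x := fun s => repE Q ρ (xr Q a b' s))
    (Cfsg.Agent.Lib.Helper85_OO2_REL1.sl2Rel_repE ρ h).x_add _ y s

theorem hdim_of_oddT (Q : QuadraticForm F V) (hP : IsOddT Q 3) : 5 ≤ finrank F V := by
  rw [hP.dim]
  norm_num

theorem J1_mem_F2_of (Q : QuadraticForm F V) (hQ : (QuadraticMap.polarBilin Q).Nondegenerate)
    (hdim : 5 ≤ finrank F V) {v v' w0 w0' : V} (h : HQuad Q v v' w0 w0')
    (ρ : Representation ℂ ↥(T Q) X) (htop : fixL Q ρ (W1 Q v v' w0 w0') = ⊤)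
    (y : X) (hy : y ∈ F2sp Q ρ v v' w0 w0') :
    Jop Q ρ v v' w0 w0' y ∈ F2sp Q ρ v v' w0 w0' := by
  have hyY2 : y ∈ Y2sp Q ρ v v' w0 w0' := by
    refine ⟨hy, ?_⟩
    rw [htop]
    exact Submodule.mem_top
  have hyM0 := Cfsg.Agent.Lib.Helper29_OO2_M0.Y2_le_M0 Q h ρ hyY2
  have hn := Cfsg.Agent.Lib.Helper29_OO2_M0.M0_n1 Q hQ hdim h ρ y hyM0
  have hJ : Cfsg.Agent.Lib.Helper87_OO2Defs.Jop Q ρ v v' w0 w0' y ∈ M0sp Q ρ v v' w0 w0' := by
    rw [Cfsg.Agent.Lib.Helper87_OO2Defs.Jop_apply]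
    exact Submodule.sum_mem _ (fun s _ =>
      Cfsg.Agent.Lib.Helper29_OO2_M0.M0_x1 Q hQ hdim h ρ s _ hn)
  have h2 := Cfsg.Agent.Lib.Helper29_OO2_M0.M0_fix Q hQ hdim h ρ _ hJ
    (fun s => Jop_fix Q ρ h y s)
  exact h2.1

/-- an element `E(w0, z)` fixing `n2 y` fixes `J_2 y` -/
theorem J2_fix_of_n2_fix (Q : QuadraticForm F V) (hQ : (QuadraticMap.polarBilin Q).Nondegenerate)
    (hdim : 5 ≤ finrank F V) {w0 w0' w1 w1' : V} (h12 : HQuad Q w0 w0' w1 w1')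
    (ρ : Representation ℂ ↥(T Q) X) (y : X) {z : V} (hz : QuadraticMap.polar (⇑Q) w0 z = 0)
    (hfix : repE Q ρ (E Q w0 z) (repE Q ρ (nw Q w0 w0' w1 w1' 1) y) =
      repE Q ρ (nw Q w0 w0' w1 w1' 1) y) :
    repE Q ρ (E Q w0 z) (Jop Q ρ w0 w0' w1 w1' y) = Jop Q ρ w0 w0' w1 w1' y := by
  have hw0 : Q w0 = 0 := h12.pa.qa
  have hEz : E Q w0 z ∈ T Q := E_mem_T Q hQ hdim hw0 hz
  rw [Cfsg.Agent.Lib.Helper87_OO2Defs.Jop_apply, map_sum]
  refine Finset.sum_congr rfl (fun s _ => ?_)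
  have hs : QuadraticMap.polar (⇑Q) w0 (s • w1') = 0 := by
    rw [QuadraticMap.polar_smul_right, h12.ab', smul_zero]
  have hxT : xr Q w0 w1' s ∈ T Q := xr_mem_T h12.pa.qa h12.pb.qa' h12.ab' s
  have hcomm : E Q w0 z * xr Q w0 w1' s = xr Q w0 w1' s * E Q w0 z := by
    unfold xr
    rw [E_mul Q hw0 hz hs, E_mul Q hw0 hs hz, add_comm]
  rw [← Module.End.mul_apply, ← repE_mul Q ρ hEz hxT, hcomm, repE_mul Q ρ hxT hEz,
    Module.End.mul_apply, hfix]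

theorem J2_mem_F2_of (Q : QuadraticForm F V) (hQ : (QuadraticMap.polarBilin Q).Nondegenerate)
    (hdim : 5 ≤ finrank F V) {v v' w0 w0' w1 w1' x : V} (fr : Frame3 Q v v' w0 w0' w1 w1' x)
    (hspan : W1 Q v v' w0 w0' = Submodule.span F {w1, w1', x})
    (ρ : Representation ℂ ↥(T Q) X) (y : X) (hy : y ∈ F2sp Q ρ v v' w0 w0')
    (hy1 : ∀ s : F, repE Q ρ (E Q w1 (s • x)) y = y) :
    Jop Q ρ w0 w0' w1 w1' y ∈ F2sp Q ρ v v' w0 w0' := by
  have h01 := fr.h01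
  have h02 := fr.h02
  have h12 := fr.h12
  have hw0 : Q w0 = 0 := h12.pa.qa
  have hw1 : Q w1 = 0 := h12.pb.qa
  have hxT : ∀ s, xr Q w0 w1' s ∈ T Q := fun s => xr_mem_T h12.pa.qa h12.pb.qa' h12.ab' s
  have hnT : nw Q w0 w0' w1 w1' 1 ∈ T Q := nw_mem_T h12 1
  -- `x` is orthogonal to the frame
  have hxW := (Cfsg.Agent.Lib.Helper29_OO2_M0.mem_W1 Q v v' w0 w0' x).mp fr.xW1
  have hxw0 : QuadraticMap.polar (⇑Q) x w0 = 0 := by rw [QuadraticMap.polar_comm]; exact hxW.2.1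
  have hxw0' : QuadraticMap.polar (⇑Q) x w0' = 0 := by rw [QuadraticMap.polar_comm]; exact hxW.2.2
  have hw1W : w1 ∈ W1 Q v v' w0 w0' :=
    (Cfsg.Agent.Lib.Helper29_OO2_M0.mem_W1 Q v v' w0 w0' w1).mpr
      ⟨⟨h02.ab, h02.a'b⟩, h12.ab, h12.a'b⟩
  refine ⟨?_, ?_⟩
  · -- the `X^R` part
    have hX0 : ∀ g : V ≃ₗ[F] V, g ∈ T Q → g v = v → g v' = v' → ∀ m ∈ X0sp Q ρ v v',
        repE Q ρ g m ∈ X0sp Q ρ v v' := by
      intro g hg hgv hgv' m hm
      exact X0sp_stable hQ hdim ρ hg h01.pa.qa ⟨1, one_ne_zero, by rw [hgv, one_smul]⟩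
        ⟨1, one_ne_zero, by rw [hgv', one_smul]⟩ hm
    have hn : repE Q ρ (nw Q w0 w0' w1 w1' 1) y ∈ X0sp Q ρ v v' :=
      hX0 _ hnT
        (Cfsg.Agent.Lib.Helper85_OO2_ELT.nw_perp h12 1 h01.ab h01.ab' h02.ab h02.ab')
        (Cfsg.Agent.Lib.Helper85_OO2_ELT.nw_perp h12 1 h01.a'b h01.a'b' h02.a'b h02.a'b') y hy.1
    have hJ : Cfsg.Agent.Lib.Helper87_OO2Defs.Jop Q ρ w0 w0' w1 w1' y ∈ X0sp Q ρ v v' := by
      rw [Cfsg.Agent.Lib.Helper87_OO2Defs.Jop_apply]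
      refine Submodule.sum_mem _ (fun s _ => ?_)
      exact hX0 _ (hxT s)
        (Cfsg.Agent.Lib.Helper85_OO2_ELT.xr_perp h12.pa.qa h12.pb.qa' h12.ab' s h01.ab h02.ab')
        (Cfsg.Agent.Lib.Helper85_OO2_ELT.xr_perp h12.pa.qa h12.pb.qa' h12.ab' s h01.a'b
          h02.a'b') _ hn
    exact hJ
  · -- the `R_1` part
    intro w hw
    rw [hspan, Submodule.mem_span_triple] at hw
    obtain ⟨c, d, e, rfl⟩ := hw
    have p1 : QuadraticMap.polar (⇑Q) w0 (c • w1) = 0 := by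
      rw [QuadraticMap.polar_smul_right, h12.ab, smul_zero]
    have p2 : QuadraticMap.polar (⇑Q) w0 (d • w1') = 0 := by
      rw [QuadraticMap.polar_smul_right, h12.ab', smul_zero]
    have p3 : QuadraticMap.polar (⇑Q) w0 (e • x) = 0 := by
      rw [QuadraticMap.polar_smul_right, hxW.2.1, smul_zero]
    have p12 : QuadraticMap.polar (⇑Q) w0 (c • w1 + d • w1') = 0 := by
      rw [QuadraticMap.polar_add_right, p1, p2, add_zero]
    rw [← E_mul Q hw0 p12 p3, ← E_mul Q hw0 p1 p2]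
    apply Cfsg.Agent.Lib.Helper29_OO2_M0.fix_mul3 Q ρ (E_mem_T Q hQ hdim hw0 p1)
      (E_mem_T Q hQ hdim hw0 p2) (E_mem_T Q hQ hdim hw0 p3)
    · -- `E(w0, c w1)`
      apply J2_fix_of_n2_fix Q hQ hdim h12 ρ y p1
      apply Cfsg.Agent.Lib.Helper29_OO2_M0.fix_of_conj Q ρ hnT hw0 p1 (E_mem_T Q hQ hdim hw0 p1)
      rw [Cfsg.Agent.Lib.Helper85_OO2_ELT.nwinv_a h12, map_smul,
        Cfsg.Agent.Lib.Helper85_OO2_ELT.nwinv_b h12]
      -- `E(-w1, c w0) = E(w0, c w1)`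
      have q1 : QuadraticMap.polar (⇑Q) w1 (c • w0) = 0 := by
        rw [QuadraticMap.polar_smul_right, QuadraticMap.polar_comm, h12.ab, smul_zero]
      have e1 : E Q (-w1) (c • w0) = E Q w1 ((-c) • w0) := by
        rw [← neg_one_smul F w1, E_smul_left Q hw1 q1, smul_smul, neg_one_mul]
      have q2 : QuadraticMap.polar (⇑Q) w1 ((-c) • w0) = 0 := by
        rw [QuadraticMap.polar_smul_right, QuadraticMap.polar_comm, h12.ab, smul_zero]
      have q3 : Q ((-c) • w0) = 0 := by rw [hQs, hw0, mul_zero]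
      have q4 : QuadraticMap.polar (⇑Q) w0 (-w1) = 0 := by
        rw [QuadraticMap.polar_neg_right, h12.ab, neg_zero]
      have e2 : E Q w1 ((-c) • w0) = E Q w0 (c • w1) := by
        rw [Cfsg.Agent.Lib.Helper12_OO2_HEIS.E_swap hw1 q3 q2, E_smul_left Q hw0 q4, smul_neg,
          neg_smul, neg_neg]
      rw [e1, e2]
      exact hy.2 _ ((W1 Q v v' w0 w0').smul_mem c hw1W)
    · -- `E(w0, d w1') = x2(d)`
      exact Jop_fix Q ρ h12 y d
    · -- `E(w0, e x)`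
      apply J2_fix_of_n2_fix Q hQ hdim h12 ρ y p3
      apply Cfsg.Agent.Lib.Helper29_OO2_M0.fix_of_conj Q ρ hnT hw0 p3 (E_mem_T Q hQ hdim hw0 p3)
      rw [Cfsg.Agent.Lib.Helper85_OO2_ELT.nwinv_a h12, map_smul,
        Cfsg.Agent.Lib.Helper85_OO2_ELT.nwinv_perp h12 hxw0 hxw0' fr.xw1 fr.xw1']
      have q1 : QuadraticMap.polar (⇑Q) w1 (e • x) = 0 := by
        rw [QuadraticMap.polar_smul_right, QuadraticMap.polar_comm, fr.xw1, smul_zero]
      have e1 : E Q (-w1) (e • x) = E Q w1 ((-e) • x) := by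
        rw [← neg_one_smul F w1, E_smul_left Q hw1 q1, smul_smul, neg_one_mul]
      rw [e1]
      exact hy1 (-e)

end partI

end Cfsg.Agent.Lib.Helper73_OO2_J12F2aux
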