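import Mathlib
import Cfsg.Agent.Lib.Helper95_OPDefs
import Cfsg.Agent.Lib.Helper95_OPBasic
import Cfsg.Agent.Lib.Helper48_OODefs
import Cfsg.Agent.Lib.Helper87_OO2Defs
import Cfsg.Agent.Lib.Helper87_OO2Defs2
import Cfsg.Agent.Lib.Helper85_OO2_RankOne
import Cfsg.Agent.Lib.Helper73_OO2_STAB
import Cfsg.Agent.Lib.Helper44_OO2_FIXLALL

/-!
OO2-INCL (helper87's wave 3 of the OO2 market for S2344): small inclusions and conversions between the spaces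
`wsp 0`, `X0sp`, `Ysp`, `Y2sp`, `F2sp`, the fixed spaces of the rank-one lemma and the two versions of `Jop`.
-/

set_option autoImplicit false
set_option linter.unusedSectionVars false
set_option linter.unusedVariables false

namespace Cfsg.Agent.Lib.Helper95_OO2_INCL

open Module Cfsg.Agent.Lib.Helper94_OrthSmall Cfsg.Agent.Lib.Helper44_QuadClass
  Cfsg.Agent.Lib.Helper14_OmegaSimple Cfsg.Agent.Lib.Helper38_MIODefs
  Cfsg.Agent.Lib.Helper95_OPDefs Cfsg.Agent.Lib.Helper95_OPBasic Cfsg.Agent.Lib.Helper48_OODefs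
  Cfsg.Agent.Lib.Helper87_OO2Defs Cfsg.Agent.Lib.Helper85_OO2_RankOne

variable {F V : Type*} [Field F] [Fintype F] [AddCommGroup V] [Module F V] [FiniteDimensional F V]
  {X : Type*} [AddCommGroup X] [Module ℂ X] [FiniteDimensional ℂ X]

theorem wsp_zero_eq_X0sp (Q : QuadraticForm F V) {v v' : V} (ρ : Representation ℂ ↥(T Q) X)
    (ψ : AddChar F ℂ) : wsp Q ρ ψ v v' 0 = X0sp Q ρ v v' := by
  ext x
  rw [mem_wsp]
  unfold X0sp
  rw [mem_fixE]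
  have h0 : ∀ w : V, ψ (QuadraticMap.polar (⇑Q) (((0 : ↥(perp Q v v')) : ↥(perp Q v v')) : V) w) = 1 := by
    intro w
    rw [ZeroMemClass.coe_zero]
    have : QuadraticMap.polar (⇑Q) (0 : V) w = 0 := by simp [QuadraticMap.polar]
    rw [this, AddChar.map_zero_eq_one]
  constructor
  · intro hx w hw
    have := hx ⟨w, hw⟩
    rw [h0, one_smul] at this
    exact this
  · intro hx w
    rw [h0, one_smul]
    exact hx (w : V) w.2

/-- `fixL` is antitone. -/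
theorem fixL_anti (Q : QuadraticForm F V) (ρ : Representation ℂ ↥(T Q) X) {S S' : Submodule F V}
    (hS : S ≤ S') : fixL Q ρ S' ≤ fixL Q ρ S := by
  intro x hx a ha b hb h1 h2 h3
  exact hx a (hS ha) b (hS hb) h1 h2 h3

theorem Ysp_le_Y2sp (Q : QuadraticForm F V) (hQ : (QuadraticMap.polarBilin Q).Nondegenerate)
    (hdim : 7 ≤ finrank F V) {v v' w0 w0' : V} (h : HQuad Q v v' w0 w0')
    (ρ : Representation ℂ ↥(T Q) X) : Ysp Q ρ v v' ≤ Y2sp Q ρ v v' w0 w0' := by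
  intro x hx
  have hx1 : x ∈ fixE Q ρ v (perp Q v v') := hx.1
  have hx2 : x ∈ fixL Q ρ (perp Q v v') := hx.2
  have hW1 : W1 Q v v' w0 w0' ≤ perp Q v v' := inf_le_left
  have hnd := nondegenerate_perp hQ h.pa.qa h.pa.qa' h.pa.aa'
  have hfr := finrank_perp h.pa.qa h.pa.qa' h.pa.aa'
  have hd5 : 5 ≤ finrank F ↥(perp Q v v') := by omega
  refine ⟨⟨hx1, ?_⟩, fixL_anti Q ρ hW1 hx2⟩
  intro w hw
  exact Cfsg.Agent.Lib.Helper44_OO2_FIXLALL.fixL_all Q (perp Q v v') hnd hd5 ρ x hx2 w0 w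
    (h.mem_perp).1 (hW1 hw) h.pb.qa ((mem_perp Q w0 w0').1 hw.2).1

theorem F2sp_le_fixX1 (Q : QuadraticForm F V) {v v' w0 w0' : V} (h : HQuad Q v v' w0 w0')
    (ρ : Representation ℂ ↥(T Q) X) :
    F2sp Q ρ v v' w0 w0' ≤
      Cfsg.Agent.Lib.Helper85_OO2_RankOne.fixX (fun s => repE Q ρ (xr Q v w0' s)) := by
  intro x hx s
  have hx1 : x ∈ fixE Q ρ v (perp Q v v') := hx.1
  exact hx1 (s • w0') ((perp Q v v').smul_mem s (h.mem_perp).2)

theorem F2sp_le_fixX2 (Q : QuadraticForm F V) {v v' w0 w0' w1 w1' : V} (h : HQuad Q v v' w0 w0')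
    (h1 : HQuad Q v v' w1 w1') (h2 : HQuad Q w0 w0' w1 w1') (ρ : Representation ℂ ↥(T Q) X) :
    F2sp Q ρ v v' w0 w0' ≤
      Cfsg.Agent.Lib.Helper85_OO2_RankOne.fixX (fun s => repE Q ρ (xr Q w0 w1' s)) := by
  intro x hx s
  have hx2 : x ∈ fixE Q ρ w0 (W1 Q v v' w0 w0') := hx.2
  have hw1' : w1' ∈ W1 Q v v' w0 w0' := ⟨(h1.mem_perp).2, (h2.mem_perp).2⟩
  exact hx2 (s • w1') ((W1 Q v v' w0 w0').smul_mem s hw1')

theorem Jop_eq (Q : QuadraticForm F V) (ρ : Representation ℂ ↥(T Q) X) (a a' b b' : V) :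
    Jop Q ρ a a' b b' =
      Cfsg.Agent.Lib.Helper85_OO2_RankOne.Jop (fun s => repE Q ρ (xr Q a b' s))
        (repE Q ρ (nw Q a a' b b' 1)) := by
  unfold Cfsg.Agent.Lib.Helper87_OO2Defs.Jop Cfsg.Agent.Lib.Helper85_OO2_RankOne.Jop
    Cfsg.Agent.Lib.Helper85_OO2_RankOne.Pop
  rw [Finset.sum_mul]

theorem F2sp_h12 (Q : QuadraticForm F V) (hQ : (QuadraticMap.polarBilin Q).Nondegenerate)
    (hdim : 5 ≤ finrank F V) {v v' w0 w0' : V} (h : HQuad Q v v' w0 w0')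
    (ρ : Representation ℂ ↥(T Q) X) (a : F) (ha : a ≠ 0) (x : X)
    (hx : x ∈ F2sp Q ρ v v' w0 w0') :
    repE Q ρ (hh Q v v' w0 w0' a) x ∈ F2sp Q ρ v v' w0 w0' := by
  obtain ⟨e1, e2, e3, e4⟩ := Cfsg.Agent.Lib.Helper73_OO2_STAB.eig_h12 h ha
  exact Cfsg.Agent.Lib.Helper73_OO2_STAB.F2sp_stable hQ hdim ρ (hh_mem_T h a) h.pa.qa h.pb.qa
    e1 e2 e3 e4 hx

theorem F2sp_h23 (Q : QuadraticForm F V) (hQ : (QuadraticMap.polarBilin Q).Nondegenerate)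
    (hdim : 5 ≤ finrank F V) {v v' w0 w0' w1 w1' : V} (h : HQuad Q v v' w0 w0')
    (h1 : HQuad Q v v' w1 w1') (h2 : HQuad Q w0 w0' w1 w1')
    (ρ : Representation ℂ ↥(T Q) X) (a : F) (ha : a ≠ 0) (x : X)
    (hx : x ∈ F2sp Q ρ v v' w0 w0') :
    repE Q ρ (hh Q w0 w0' w1 w1' a) x ∈ F2sp Q ρ v v' w0 w0' := by
  obtain ⟨e1, e2, e3, e4⟩ := Cfsg.Agent.Lib.Helper73_OO2_STAB.eig_h23 h h1 h2 ha
  exact Cfsg.Agent.Lib.Helper73_OO2_STAB.F2sp_stable hQ hdim ρ (hh_mem_T h2 a) h.pa.qa h.pb.qa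
    e1 e2 e3 e4 hx

end Cfsg.Agent.Lib.Helper95_OO2_INCL
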