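import Mathlib
import Cfsg.Agent.Lib.Helper95_OPDefs
import Cfsg.Agent.Lib.Helper95_OPBasic
import Cfsg.Agent.Lib.Helper48_OODefs
import Cfsg.Agent.Lib.Helper87_OO2Defs
import Cfsg.Agent.Lib.Helper87_OO2Defs2
import Cfsg.Agent.Lib.Helper87_OO2Defs3
import Cfsg.Agent.Lib.Helper85_OO2_ELT
import Cfsg.Agent.Lib.Helper12_OO2_HEIS
import Cfsg.Agent.Lib.Helper29_OO2_M0
import Cfsg.Agent.Lib.Helper43_OO2_WSP2
import Cfsg.Agent.Lib.Helper95_OO2_X0DEC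
import Cfsg.Agent.Lib.Helper61_OO2_BASEL

set_option autoImplicit false
set_option linter.unusedVariables false
set_option linter.unusedSectionVars false
set_option linter.unusedDecidableInType false

/-!
S2344 wave 3, package OO2-M2 (cutter helper87; formalised by helper96): the base `n = 3`.  The space
`M_2 = (X^R)^{Z'}`, `Z' = {E(w0, s w1)}`, is fixed by `E(w0, s x)`, stable under `x_2(s) = E(w0, s w1')`, `n_2`,
`h_12(a)`, `h_23(a)`; it contains `F_2`; its `x_2`-fixed vectors are `F_2`; its `x_2`-eigenvectors of weight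
`c ≠ 0` lie on a line.
-/

namespace Cfsg.Agent.Lib.Helper96_OO2_M2

open Module Cfsg.Agent.Lib.Helper94_OrthSmall Cfsg.Agent.Lib.Helper44_QuadClass
  Cfsg.Agent.Lib.Helper14_OmegaSimple Cfsg.Agent.Lib.Helper38_MIODefs
  Cfsg.Agent.Lib.Helper95_OPDefs Cfsg.Agent.Lib.Helper95_OPBasic Cfsg.Agent.Lib.Helper48_OODefs
  Cfsg.Agent.Lib.Helper87_OO2Defs Cfsg.Agent.Lib.Helper85_OO2_ELT Cfsg.Agent.Lib.Helper12_OO2_HEIS
  Cfsg.Agent.Lib.Helper29_OO2_M0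

section aux

variable {F V : Type*} [Field F] [AddCommGroup V] [Module F V]
  {X : Type*} [AddCommGroup X] [Module ℂ X]

theorem mem_M2 (Q : QuadraticForm F V) (ρ : Representation ℂ ↥(T Q) X) (v v' w0 w1 : V) (m : X) :
    m ∈ M2sp Q ρ v v' w0 w1 ↔ (∀ w ∈ perp Q v v', repE Q ρ (E Q v w) m = m) ∧
      (∀ c : F, repE Q ρ (E Q w0 (c • w1)) m = m) := by
  unfold M2sp X0sp
  rw [Submodule.mem_inf, mem_fixE, mem_fixE]
  constructor
  · rintro ⟨h1, h2⟩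
    exact ⟨h1, fun c => h2 _ (Submodule.mem_span_singleton.mpr ⟨c, rfl⟩)⟩
  · rintro ⟨h1, h2⟩
    refine ⟨h1, fun w hw => ?_⟩
    obtain ⟨c, rfl⟩ := Submodule.mem_span_singleton.mp hw
    exact h2 c

/-- an isometry scaling `v, v'` preserves `perp Q v v'` -/
theorem perp_map (Q : QuadraticForm F V) {v v' : V} {k : V ≃ₗ[F] V} (hk : k ∈ oG (⇑Q))
    {l m : F} (hl : l ≠ 0) (hm : m ≠ 0) (h1 : k v = l • v) (h2 : k v' = m • v') (u : V)
    (hu : u ∈ perp Q v v') : k u ∈ perp Q v v' := by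
  have hu' := (mem_perp Q v v').mp hu
  rw [mem_perp]
  refine ⟨?_, ?_⟩
  · have := oG_polar Q hk v u
    rw [h1, QuadraticMap.polar_smul_left, hu'.1, smul_eq_mul] at this
    rcases mul_eq_zero.mp this with h5 | h5
    · exact absurd h5 hl
    · exact h5
  · have := oG_polar Q hk v' u
    rw [h2, QuadraticMap.polar_smul_left, hu'.2, smul_eq_mul] at this
    rcases mul_eq_zero.mp this with h5 | h5
    · exact absurd h5 hm
    · exact h5

/-- an isometry fixing `v, v'` preserves `perp Q v v'` -/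
theorem perp_map_fix (Q : QuadraticForm F V) {v v' : V} {k : V ≃ₗ[F] V} (hk : k ∈ oG (⇑Q))
    (h1 : k v = v) (h2 : k v' = v') (u : V) (hu : u ∈ perp Q v v') : k u ∈ perp Q v v' :=
  perp_map Q hk one_ne_zero one_ne_zero (by rw [h1, one_smul]) (by rw [h2, one_smul]) u hu

end aux

section main

variable {F V : Type*} [Field F] [Fintype F] [AddCommGroup V] [Module F V] [FiniteDimensional F V]
  {X : Type*} [AddCommGroup X] [Module ℂ X] [FiniteDimensional ℂ X]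

/-- stability criterion for `M_2` -/
theorem M2_stable (Q : QuadraticForm F V) (hQ : (QuadraticMap.polarBilin Q).Nondegenerate)
    (hdim : 5 ≤ finrank F V) {v v' w0 w0' w1 w1' : V} (h01 : HQuad Q v v' w0 w0')
    (h12 : HQuad Q w0 w0' w1 w1') (ρ : Representation ℂ ↥(T Q) X) (g : V ≃ₗ[F] V) (hg : g ∈ T Q)
    (m : X) (h1 : ∀ w ∈ perp Q v v', repE Q ρ (E Q (g⁻¹ v) (g⁻¹ w)) m = m)
    (h2 : ∀ c : F, repE Q ρ (E Q (g⁻¹ w0) (g⁻¹ (c • w1))) m = m) :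
    repE Q ρ g m ∈ M2sp Q ρ v v' w0 w1 := by
  rw [mem_M2]
  refine ⟨fun w hw => ?_, fun c => ?_⟩
  · have hvw : QuadraticMap.polar (⇑Q) v w = 0 := ((mem_perp Q v v').mp hw).1
    exact fix_of_conj Q ρ hg h01.pa.qa hvw (E_mem_T Q hQ hdim h01.pa.qa hvw) m (h1 w hw)
  · have hw : QuadraticMap.polar (⇑Q) w0 (c • w1) = 0 := by
      rw [QuadraticMap.polar_smul_right, h12.ab, smul_zero]
    exact fix_of_conj Q ρ hg h12.pa.qa hw (E_mem_T Q hQ hdim h12.pa.qa hw) m (h2 c)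

theorem dim_of_P (Q : QuadraticForm F V) (hP : IsOddT Q 3) : 5 ≤ finrank F V := by
  rw [hP.dim]
  norm_num

theorem M2_x2 (Q : QuadraticForm F V) (hP : IsOddT Q 3) {v v' w0 w0' w1 w1' x : V}
    (fr : Frame3 Q v v' w0 w0' w1 w1' x) (ρ : Representation ℂ ↥(T Q) X) (s : F) (m : X)
    (hm : m ∈ M2sp Q ρ v v' w0 w1) : repE Q ρ (xr Q w0 w1' s) m ∈ M2sp Q ρ v v' w0 w1 := by
  have hm' := (mem_M2 Q ρ v v' w0 w1 m).mp hm
  have hgT : xr Q w0 w1' s ∈ T Q := xr_mem_T fr.h12.pa.qa fr.h12.pb.qa' fr.h12.ab' s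
  have hgiO : (xr Q w0 w1' s)⁻¹ ∈ oG (⇑Q) := T_le_oG Q (Subgroup.inv_mem _ hgT)
  have hinv := xr_inv Q fr.h12.pa.qa fr.h12.ab' s
  have hgv : (xr Q w0 w1' s)⁻¹ v = v := by
    rw [hinv]
    exact xr_perp fr.h12.pa.qa fr.h12.pb.qa' fr.h12.ab' (-s) fr.h01.ab fr.h02.ab'
  have hgv' : (xr Q w0 w1' s)⁻¹ v' = v' := by
    rw [hinv]
    exact xr_perp fr.h12.pa.qa fr.h12.pb.qa' fr.h12.ab' (-s) fr.h01.a'b fr.h02.a'b'
  apply M2_stable Q hP.nondeg (dim_of_P Q hP) fr.h01 fr.h12 ρ _ hgT m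
  · intro w hw
    rw [hgv]
    exact hm'.1 _ (perp_map_fix Q hgiO hgv hgv' w hw)
  · intro c
    rw [hinv, xr_a fr.h12, map_smul, xr_b fr.h12]
    have h5 : c • (w1 - -s • w0) = c • w1 + (c * s) • w0 := by module
    have h6 : QuadraticMap.polar (⇑Q) w0 (c • w1) = 0 := by
      rw [QuadraticMap.polar_smul_right, fr.h12.ab, smul_zero]
    rw [h5, E_add_smul Q fr.h12.pa.qa h6]
    exact hm'.2 c

theorem M2_n2 (Q : QuadraticForm F V) (hP : IsOddT Q 3) {v v' w0 w0' w1 w1' x : V}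
    (fr : Frame3 Q v v' w0 w0' w1 w1' x) (ρ : Representation ℂ ↥(T Q) X) (m : X)
    (hm : m ∈ M2sp Q ρ v v' w0 w1) :
    repE Q ρ (nw Q w0 w0' w1 w1' 1) m ∈ M2sp Q ρ v v' w0 w1 := by
  have hm' := (mem_M2 Q ρ v v' w0 w1 m).mp hm
  have hgT : nw Q w0 w0' w1 w1' 1 ∈ T Q := nw_mem_T fr.h12 1
  have hgiO : (nw Q w0 w0' w1 w1' 1)⁻¹ ∈ oG (⇑Q) := T_le_oG Q (Subgroup.inv_mem _ hgT)
  have hgv : (nw Q w0 w0' w1 w1' 1)⁻¹ v = v :=
    nwinv_perp fr.h12 fr.h01.ab fr.h01.ab' fr.h02.ab fr.h02.ab'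
  have hgv' : (nw Q w0 w0' w1 w1' 1)⁻¹ v' = v' :=
    nwinv_perp fr.h12 fr.h01.a'b fr.h01.a'b' fr.h02.a'b fr.h02.a'b'
  apply M2_stable Q hP.nondeg (dim_of_P Q hP) fr.h01 fr.h12 ρ _ hgT m
  · intro w hw
    rw [hgv]
    exact hm'.1 _ (perp_map_fix Q hgiO hgv hgv' w hw)
  · intro c
    rw [nwinv_a fr.h12, map_smul, nwinv_b fr.h12]
    -- `E(-w1, c w0) = E(w0, c w1)`
    have h1 : QuadraticMap.polar (⇑Q) w1 (c • w0) = 0 := by
      rw [QuadraticMap.polar_smul_right, pol_ba fr.h12, smul_zero]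
    have h2 : QuadraticMap.polar (⇑Q) w0 (c • w1) = 0 := by
      rw [QuadraticMap.polar_smul_right, fr.h12.ab, smul_zero]
    have h3 : Q (c • w1) = 0 := by
      rw [QuadraticMap.map_smul, fr.h12.pb.qa, smul_zero]
    have h4 : QuadraticMap.polar (⇑Q) w1 (-w0) = 0 := by
      rw [QuadraticMap.polar_neg_right, pol_ba fr.h12, neg_zero]
    have e1 : E Q (-w1) (c • w0) = E Q w1 (-(c • w0)) := by
      rw [← neg_one_smul F w1, E_smul_left Q fr.h12.pb.qa h1, neg_one_smul]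
    have e2 : E Q w0 (c • w1) = E Q w1 (-(c • w0)) := by
      rw [E_swap fr.h12.pa.qa h3 h2, E_smul_left Q fr.h12.pb.qa h4, smul_neg]
    rw [e1, ← e2]
    exact hm'.2 c

theorem M2_h12 (Q : QuadraticForm F V) (hP : IsOddT Q 3) {v v' w0 w0' w1 w1' x : V}
    (fr : Frame3 Q v v' w0 w0' w1 w1' x) (ρ : Representation ℂ ↥(T Q) X) (a : F) (ha : a ≠ 0)
    (m : X) (hm : m ∈ M2sp Q ρ v v' w0 w1) :
    repE Q ρ (hh Q v v' w0 w0' a) m ∈ M2sp Q ρ v v' w0 w1 := by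
  have hm' := (mem_M2 Q ρ v v' w0 w1 m).mp hm
  have hgT : hh Q v v' w0 w0' a ∈ T Q := hh_mem_T fr.h01 a
  have hgiO : (hh Q v v' w0 w0' a)⁻¹ ∈ oG (⇑Q) := T_le_oG Q (Subgroup.inv_mem _ hgT)
  have hgv : (hh Q v v' w0 w0' a)⁻¹ v = a⁻¹ • v := by
    apply inv_apply_of_apply
    rw [map_smul, hh_a fr.h01 ha, smul_smul, inv_mul_cancel₀ ha, one_smul]
  have hgv' : (hh Q v v' w0 w0' a)⁻¹ v' = a • v' := by
    apply inv_apply_of_apply
    rw [map_smul, hh_a' fr.h01 ha, smul_smul, mul_inv_cancel₀ ha, one_smul]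
  have hgw0 : (hh Q v v' w0 w0' a)⁻¹ w0 = a • w0 := by
    apply inv_apply_of_apply
    rw [map_smul, hh_b fr.h01 ha, smul_smul, mul_inv_cancel₀ ha, one_smul]
  have hgw1 : (hh Q v v' w0 w0' a)⁻¹ w1 = w1 := by
    apply inv_apply_of_apply
    exact hh_perp fr.h01 a (pol_ba fr.h02) (pol_ba' fr.h02) (pol_ba fr.h12) (pol_ba' fr.h12)
  apply M2_stable Q hP.nondeg (dim_of_P Q hP) fr.h01 fr.h12 ρ _ hgT m
  · intro w hw
    have hw2 := perp_map Q hgiO (inv_ne_zero ha) ha hgv hgv' w hw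
    rw [hgv, E_smul_left Q fr.h01.pa.qa ((mem_perp Q v v').mp hw2).1]
    exact hm'.1 _ (Submodule.smul_mem _ _ hw2)
  · intro c
    have h6 : QuadraticMap.polar (⇑Q) w0 (c • w1) = 0 := by
      rw [QuadraticMap.polar_smul_right, fr.h12.ab, smul_zero]
    rw [hgw0, map_smul, hgw1, E_smul_left Q fr.h12.pa.qa h6, smul_smul]
    exact hm'.2 _

theorem M2_h23 (Q : QuadraticForm F V) (hP : IsOddT Q 3) {v v' w0 w0' w1 w1' x : V}
    (fr : Frame3 Q v v' w0 w0' w1 w1' x) (ρ : Representation ℂ ↥(T Q) X) (a : F) (ha : a ≠ 0)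
    (m : X) (hm : m ∈ M2sp Q ρ v v' w0 w1) :
    repE Q ρ (hh Q w0 w0' w1 w1' a) m ∈ M2sp Q ρ v v' w0 w1 := by
  have hm' := (mem_M2 Q ρ v v' w0 w1 m).mp hm
  have hgT : hh Q w0 w0' w1 w1' a ∈ T Q := hh_mem_T fr.h12 a
  have hgiO : (hh Q w0 w0' w1 w1' a)⁻¹ ∈ oG (⇑Q) := T_le_oG Q (Subgroup.inv_mem _ hgT)
  have hgv : (hh Q w0 w0' w1 w1' a)⁻¹ v = v := by
    apply inv_apply_of_apply
    exact hh_perp fr.h12 a fr.h01.ab fr.h01.ab' fr.h02.ab fr.h02.ab'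
  have hgv' : (hh Q w0 w0' w1 w1' a)⁻¹ v' = v' := by
    apply inv_apply_of_apply
    exact hh_perp fr.h12 a fr.h01.a'b fr.h01.a'b' fr.h02.a'b fr.h02.a'b'
  have hgw0 : (hh Q w0 w0' w1 w1' a)⁻¹ w0 = a⁻¹ • w0 := by
    apply inv_apply_of_apply
    rw [map_smul, hh_a fr.h12 ha, smul_smul, inv_mul_cancel₀ ha, one_smul]
  have hgw1 : (hh Q w0 w0' w1 w1' a)⁻¹ w1 = a • w1 := by
    apply inv_apply_of_apply
    rw [map_smul, hh_b fr.h12 ha, smul_smul, mul_inv_cancel₀ ha, one_smul]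
  apply M2_stable Q hP.nondeg (dim_of_P Q hP) fr.h01 fr.h12 ρ _ hgT m
  · intro w hw
    rw [hgv]
    exact hm'.1 _ (perp_map_fix Q hgiO hgv hgv' w hw)
  · intro c
    have h6 : QuadraticMap.polar (⇑Q) w0 (c • a • w1) = 0 := by
      rw [QuadraticMap.polar_smul_right, QuadraticMap.polar_smul_right, fr.h12.ab, smul_zero,
        smul_zero]
    rw [hgw0, map_smul, hgw1, E_smul_left Q fr.h12.pa.qa h6, smul_smul, smul_smul]
    exact hm'.2 _

theorem w1_mem_W1 (Q : QuadraticForm F V) {v v' w0 w0' w1 w1' x : V}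
    (fr : Frame3 Q v v' w0 w0' w1 w1' x) : w1 ∈ W1 Q v v' w0 w0' :=
  (mem_W1 Q v v' w0 w0' w1).mpr ⟨⟨fr.h02.ab, fr.h02.a'b⟩, fr.h12.ab, fr.h12.a'b⟩

theorem w1'_mem_W1 (Q : QuadraticForm F V) {v v' w0 w0' w1 w1' x : V}
    (fr : Frame3 Q v v' w0 w0' w1 w1' x) : w1' ∈ W1 Q v v' w0 w0' :=
  (mem_W1 Q v v' w0 w0' w1').mpr ⟨⟨fr.h02.ab', fr.h02.a'b'⟩, fr.h12.ab', fr.h12.a'b'⟩

theorem F2_le_M2 (Q : QuadraticForm F V) {v v' w0 w0' w1 w1' x : V}
    (fr : Frame3 Q v v' w0 w0' w1 w1' x) (ρ : Representation ℂ ↥(T Q) X) :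
    F2sp Q ρ v v' w0 w0' ≤ M2sp Q ρ v v' w0 w1 := by
  intro m hm
  unfold F2sp at hm
  rw [Submodule.mem_inf] at hm
  rw [mem_M2]
  refine ⟨hm.1, fun c => ?_⟩
  exact hm.2 _ (Submodule.smul_mem _ c (w1_mem_W1 Q fr))

end main


section fix

open Cfsg.Agent.Lib.Helper43_OO2_WSP2 Cfsg.Agent.Lib.Helper95_OO2_X0DEC

variable {F V : Type*} [Field F] [Fintype F] [AddCommGroup V] [Module F V] [FiniteDimensional F V]
  {X : Type*} [AddCommGroup X] [Module ℂ X] [FiniteDimensional ℂ X]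

/-- `M_2` is stable under `R_1 = {E(w0, w) : w ∈ W_1}` -/
theorem M2_R1 (Q : QuadraticForm F V) (hP : IsOddT Q 3) {v v' w0 w0' w1 w1' x : V}
    (fr : Frame3 Q v v' w0 w0' w1 w1' x) (ρ : Representation ℂ ↥(T Q) X) (w : V)
    (hw : w ∈ W1 Q v v' w0 w0') (m : X) (hm : m ∈ M2sp Q ρ v v' w0 w1) :
    repE Q ρ (E Q w0 w) m ∈ M2sp Q ρ v v' w0 w1 := by
  have hm' := (mem_M2 Q ρ v v' w0 w1 m).mp hm
  have hw' := (mem_W1 Q v v' w0 w0' w).mp hw
  have hgT : E Q w0 w ∈ T Q := E_mem_T Q hP.nondeg (dim_of_P Q hP) fr.h01.pb.qa hw'.2.1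
  have hgiO : (E Q w0 w)⁻¹ ∈ oG (⇑Q) := T_le_oG Q (Subgroup.inv_mem _ hgT)
  have hinv : (E Q w0 w)⁻¹ = E Q w0 (-w) := E_inv Q fr.h01.pb.qa hw'.2.1
  have hnw : QuadraticMap.polar (⇑Q) w0 (-w) = 0 := by
    rw [QuadraticMap.polar_neg_right, hw'.2.1, neg_zero]
  have hgv : (E Q w0 w)⁻¹ v = v := by
    rw [hinv, E_apply Q fr.h01.pb.qa hnw, fr.h01.ab, QuadraticMap.polar_neg_right, hw'.1.1]
    simp
  have hgv' : (E Q w0 w)⁻¹ v' = v' := by
    rw [hinv, E_apply Q fr.h01.pb.qa hnw, fr.h01.a'b, QuadraticMap.polar_neg_right, hw'.1.2]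
    simp
  have hgw0 : (E Q w0 w)⁻¹ w0 = w0 := by
    rw [hinv, E_apply Q fr.h01.pb.qa hnw, polar_self_of_sing fr.h01.pb.qa,
      QuadraticMap.polar_neg_right, hw'.2.1]
    simp
  apply M2_stable Q hP.nondeg (dim_of_P Q hP) fr.h01 fr.h12 ρ _ hgT m
  · intro u hu
    rw [hgv]
    exact hm'.1 _ (perp_map_fix Q hgiO hgv hgv' u hu)
  · intro c
    have h6 : QuadraticMap.polar (⇑Q) w0 (c • w1) = 0 := by
      rw [QuadraticMap.polar_smul_right, fr.h12.ab, smul_zero]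
    have h7 : (E Q w0 w)⁻¹ (c • w1) = c • w1 + (c * QuadraticMap.polar (⇑Q) w1 w) • w0 := by
      rw [hinv, E_apply Q fr.h01.pb.qa hnw, QuadraticMap.polar_smul_left, pol_ba fr.h12,
        QuadraticMap.polar_smul_left, QuadraticMap.polar_neg_right]
      simp only [smul_eq_mul, mul_zero, zero_smul, add_zero, sub_zero, mul_neg, neg_smul,
        sub_neg_eq_add]
    rw [hgw0, h7, E_add_smul Q fr.h12.pa.qa h6]
    exact hm'.2 c

/-- the label of a non-zero weight component of `M_2` is orthogonal to `x` -/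
theorem label_orth (Q : QuadraticForm F V) (hP : IsOddT Q 3) {v v' w0 w0' w1 w1' x : V}
    (fr : Frame3 Q v v' w0 w0' w1 w1' x) (z : V) (hz : z ∈ W1 Q v v' w0 w0') (hQz : Q z = 0)
    (hzw1 : QuadraticMap.polar (⇑Q) z w1 = 0) : QuadraticMap.polar (⇑Q) z x = 0 := by
  rw [Cfsg.Agent.Lib.Helper61_OO2_BASEL.W1_eq_span Q hP fr, Submodule.mem_span_triple] at hz
  obtain ⟨a, b, c, rfl⟩ := hz
  have hw1x : QuadraticMap.polar (⇑Q) w1 x = 0 := by
    rw [QuadraticMap.polar_comm]; exact fr.xw1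
  have hw1'x : QuadraticMap.polar (⇑Q) w1' x = 0 := by
    rw [QuadraticMap.polar_comm]; exact fr.xw1'
  have hb : b = 0 := by
    rw [QuadraticMap.polar_add_left, QuadraticMap.polar_add_left, QuadraticMap.polar_smul_left,
      QuadraticMap.polar_smul_left, QuadraticMap.polar_smul_left,
      polar_self_of_sing fr.h02.pb.qa, pol_b'b fr.h02, fr.xw1] at hzw1
    simpa using hzw1
  subst hb
  have hc : c = 0 := by
    rw [zero_smul, add_zero, QuadraticMap.map_add (⇑Q) (a • w1) (c • x), QuadraticMap.map_smul,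
      QuadraticMap.map_smul, fr.h02.pb.qa, QuadraticMap.polar_smul_left,
      QuadraticMap.polar_smul_right, hw1x] at hQz
    simp only [smul_eq_mul, mul_zero, zero_add, add_zero] at hQz
    rcases mul_eq_zero.mp hQz with h | h
    · exact mul_self_eq_zero.mp h
    · exact absurd h fr.qx
  subst hc
  rw [zero_smul, zero_smul, add_zero, add_zero, QuadraticMap.polar_smul_left, hw1x, smul_zero]

theorem M2_fix_x (Q : QuadraticForm F V) (hq : 4 ≤ Fintype.card F) (hP : IsOddT Q 3)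
    {v v' w0 w0' w1 w1' x : V} (fr : Frame3 Q v v' w0 w0' w1 w1' x)
    [DecidableEq ↥(perp Q v v')] (ρ : Representation ℂ ↥(T Q) X) (ψ : AddChar F ℂ) (hψ : ψ ≠ 1)
    (hint : DirectSum.IsInternal (fun u : ↥(perp Q v v') => wsp Q ρ ψ v v' u))
    (f : ℕ) (hW : WData Q ρ ψ v v' 1 f) (m : X) (hm : m ∈ M2sp Q ρ v v' w0 w1) (s : F) :
    repE Q ρ (E Q w0 (s • x)) m = m := by
  have hle := le_iSup_wsp2 Q hP.nondeg (dim_of_P Q hP) fr.h01 ρ ψ hψ (M2sp Q ρ v v' w0 w1)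
    inf_le_left (fun w hw m hm => M2_R1 Q hP fr ρ w hw m hm)
  have key : (⨆ z : ↥(W1 Q v v' w0 w0'), M2sp Q ρ v v' w0 w1 ⊓ wsp2 Q ρ ψ v v' w0 w0' (z : V)) ≤
      fixE Q ρ w0 (Submodule.span F {x}) := by
    refine iSup_le (fun z => ?_)
    intro y hy
    rw [Submodule.mem_inf] at hy
    obtain ⟨hyM, hyw⟩ := hy
    by_cases hy0 : y = 0
    · rw [hy0]
      exact Submodule.zero_mem _
    have hQz : Q (z : V) = 0 := by
      by_contra hne
      have h0 := wsp2_eq_bot Q 3 le_rfl hq hP fr.h01 ρ ψ hψ hint f hW (z : V) z.2 hne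
      rw [h0] at hyw
      exact hy0 ((Submodule.mem_bot ℂ).mp hyw)
    have hyE : y ∈ eigE Q ρ ψ w0 (W1 Q v v' w0 w0') (z : V) := by
      unfold wsp2 at hyw
      exact (Submodule.mem_inf.mp hyw).2
    rw [mem_eigE] at hyE
    have hyM' := (mem_M2 Q ρ v v' w0 w1 y).mp hyM
    have hzw1 : QuadraticMap.polar (⇑Q) (z : V) w1 = 0 := by
      by_contra hne
      apply hψ
      ext t
      have h1 := hyE ((t / QuadraticMap.polar (⇑Q) (z : V) w1) • w1)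
        (Submodule.smul_mem _ _ (w1_mem_W1 Q fr))
      rw [hyM'.2, QuadraticMap.polar_smul_right, smul_eq_mul, div_mul_cancel₀ _ hne] at h1
      have h2 : (ψ t - 1) • y = 0 := by
        rw [sub_smul, one_smul, ← h1, sub_self]
      rcases smul_eq_zero.mp h2 with h3 | h3
      · rw [AddChar.one_apply]
        exact sub_eq_zero.mp h3
      · exact absurd h3 hy0
    have hzx := label_orth Q hP fr (z : V) z.2 hQz hzw1
    rw [mem_fixE]
    intro w hw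
    obtain ⟨c, rfl⟩ := Submodule.mem_span_singleton.mp hw
    rw [hyE (c • x) (Submodule.smul_mem _ c fr.xW1), QuadraticMap.polar_smul_right, hzx,
      smul_zero, AddChar.map_zero_eq_one, one_smul]
  exact key (hle hm) (s • x) (Submodule.mem_span_singleton.mpr ⟨s, rfl⟩)

/-- the action of `E(w0, w)`, `w ∈ W_1`, on a vector of `M_2` which is an `x_2`-eigenvector -/
theorem M2_eig (Q : QuadraticForm F V) (hq : 4 ≤ Fintype.card F) (hP : IsOddT Q 3)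
    {v v' w0 w0' w1 w1' x : V} (fr : Frame3 Q v v' w0 w0' w1 w1' x)
    [DecidableEq ↥(perp Q v v')] (ρ : Representation ℂ ↥(T Q) X) (ψ : AddChar F ℂ) (hψ : ψ ≠ 1)
    (hint : DirectSum.IsInternal (fun u : ↥(perp Q v v') => wsp Q ρ ψ v v' u))
    (f : ℕ) (hW : WData Q ρ ψ v v' 1 f) (c : F) (m : X) (hm : m ∈ M2sp Q ρ v v' w0 w1)
    (he : ∀ s : F, repE Q ρ (xr Q w0 w1' s) m = ψ (c * s) • m) (w : V)
    (hw : w ∈ W1 Q v v' w0 w0') :
    repE Q ρ (E Q w0 w) m = ψ (QuadraticMap.polar (⇑Q) (c • w1) w) • m := by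
  have hm' := (mem_M2 Q ρ v v' w0 w1 m).mp hm
  have hQ := hP.nondeg
  have hdim := dim_of_P Q hP
  rw [Cfsg.Agent.Lib.Helper61_OO2_BASEL.W1_eq_span Q hP fr, Submodule.mem_span_triple] at hw
  obtain ⟨a, b, d, rfl⟩ := hw
  have h1 : QuadraticMap.polar (⇑Q) w0 (a • w1) = 0 := by
    rw [QuadraticMap.polar_smul_right, fr.h12.ab, smul_zero]
  have h2 : QuadraticMap.polar (⇑Q) w0 (b • w1') = 0 := by
    rw [QuadraticMap.polar_smul_right, fr.h12.ab', smul_zero]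
  have hw0x : QuadraticMap.polar (⇑Q) w0 x = 0 := ((mem_W1 Q v v' w0 w0' x).mp fr.xW1).2.1
  have h3 : QuadraticMap.polar (⇑Q) w0 (d • x) = 0 := by
    rw [QuadraticMap.polar_smul_right, hw0x, smul_zero]
  have h12 : QuadraticMap.polar (⇑Q) w0 (a • w1 + b • w1') = 0 := by
    rw [QuadraticMap.polar_add_right, h1, h2, add_zero]
  have hw0 := fr.h12.pa.qa
  have hx : repE Q ρ (E Q w0 (d • x)) m = m := M2_fix_x Q hq hP fr ρ ψ hψ hint f hW m hm d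
  have hb : repE Q ρ (E Q w0 (b • w1')) m = ψ (c * b) • m := he b
  have ha : repE Q ρ (E Q w0 (a • w1)) m = m := hm'.2 a
  rw [← E_mul Q hw0 h12 h3, ← E_mul Q hw0 h1 h2,
    repE_mul_apply Q ρ (Subgroup.mul_mem _ (E_mem_T Q hQ hdim hw0 h1) (E_mem_T Q hQ hdim hw0 h2))
      (E_mem_T Q hQ hdim hw0 h3), hx,
    repE_mul_apply Q ρ (E_mem_T Q hQ hdim hw0 h1) (E_mem_T Q hQ hdim hw0 h2), hb, map_smul, ha]
  congr 2
  rw [QuadraticMap.polar_smul_left, QuadraticMap.polar_add_right, QuadraticMap.polar_add_right,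
    QuadraticMap.polar_smul_right, QuadraticMap.polar_smul_right, QuadraticMap.polar_smul_right,
    polar_self_of_sing fr.h02.pb.qa, fr.h02.pb.aa']
  have hw1x : QuadraticMap.polar (⇑Q) w1 x = 0 := by
    rw [QuadraticMap.polar_comm]; exact fr.xw1
  rw [hw1x]
  simp

theorem M2_fix (Q : QuadraticForm F V) (hq : 4 ≤ Fintype.card F) (hP : IsOddT Q 3)
    {v v' w0 w0' w1 w1' x : V} (fr : Frame3 Q v v' w0 w0' w1 w1' x)
    [DecidableEq ↥(perp Q v v')] (ρ : Representation ℂ ↥(T Q) X) (ψ : AddChar F ℂ) (hψ : ψ ≠ 1)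
    (hint : DirectSum.IsInternal (fun u : ↥(perp Q v v') => wsp Q ρ ψ v v' u))
    (f : ℕ) (hW : WData Q ρ ψ v v' 1 f) (m : X) (hm : m ∈ M2sp Q ρ v v' w0 w1)
    (hfix : ∀ s : F, repE Q ρ (xr Q w0 w1' s) m = m) : m ∈ F2sp Q ρ v v' w0 w0' := by
  have hm' := (mem_M2 Q ρ v v' w0 w1 m).mp hm
  unfold F2sp
  rw [Submodule.mem_inf]
  refine ⟨hm'.1, ?_⟩
  rw [mem_fixE]
  intro w hw
  have he : ∀ s : F, repE Q ρ (xr Q w0 w1' s) m = ψ ((0 : F) * s) • m := by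
    intro s
    rw [hfix s, zero_mul, AddChar.map_zero_eq_one, one_smul]
  rw [M2_eig Q hq hP fr ρ ψ hψ hint f hW 0 m hm he w hw, zero_smul,
    QuadraticMap.polar_zero_left, AddChar.map_zero_eq_one, one_smul]

theorem M2_line (Q : QuadraticForm F V) (hq : 4 ≤ Fintype.card F) (hP : IsOddT Q 3)
    {v v' w0 w0' w1 w1' x : V} (fr : Frame3 Q v v' w0 w0' w1 w1' x)
    [DecidableEq ↥(perp Q v v')] (ρ : Representation ℂ ↥(T Q) X) (ψ : AddChar F ℂ) (hψ : ψ ≠ 1)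
    (hint : DirectSum.IsInternal (fun u : ↥(perp Q v v') => wsp Q ρ ψ v v' u))
    (f : ℕ) (hW : WData Q ρ ψ v v' 1 f) (c : F) (hc : c ≠ 0) (m m' : X)
    (hm : m ∈ M2sp Q ρ v v' w0 w1) (hm' : m' ∈ M2sp Q ρ v v' w0 w1)
    (he : ∀ s : F, repE Q ρ (xr Q w0 w1' s) m = ψ (c * s) • m)
    (he' : ∀ s : F, repE Q ρ (xr Q w0 w1' s) m' = ψ (c * s) • m') (hm'0 : m' ≠ 0) :
    ∃ a : ℂ, m = a • m' := by
  have key : ∀ y : X, y ∈ M2sp Q ρ v v' w0 w1 →
      (∀ s : F, repE Q ρ (xr Q w0 w1' s) y = ψ (c * s) • y) →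
      y ∈ wsp2 Q ρ ψ v v' w0 w0' (c • w1) := by
    intro y hy hey
    unfold wsp2
    rw [Submodule.mem_inf, mem_eigE]
    refine ⟨?_, fun w hw => M2_eig Q hq hP fr ρ ψ hψ hint f hW c y hy hey w hw⟩
    unfold M2sp at hy
    exact (Submodule.mem_inf.mp hy).1
  have hz : c • w1 ∈ W1 Q v v' w0 w0' := Submodule.smul_mem _ c (w1_mem_W1 Q fr)
  have hz0 : c • w1 ≠ 0 := by
    intro h0
    have h12 := congrArg (fun t => QuadraticMap.polar (⇑Q) t w1') h0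
    simp only [QuadraticMap.polar_smul_left, fr.h02.pb.aa', smul_eq_mul, mul_one,
      QuadraticMap.polar_zero_left] at h12
    exact hc h12
  have hQz : Q (c • w1) = 0 := by
    rw [QuadraticMap.map_smul, fr.h02.pb.qa, smul_zero]
  have hfr := finrank_wsp2 Q 3 le_rfl hq hP fr.h01 ρ ψ hψ hint f hW (c • w1) hz hz0 hQz
  have hm'1 : (⟨m', key m' hm' he'⟩ : ↥(wsp2 Q ρ ψ v v' w0 w0' (c • w1))) ≠ 0 := by
    intro h0
    exact hm'0 (congrArg Subtype.val h0)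
  obtain ⟨a, ha⟩ := (finrank_eq_one_iff_of_nonzero' _ hm'1).mp hfr ⟨m, key m hm he⟩
  exact ⟨a, (congrArg Subtype.val ha).symm⟩

end fix

end Cfsg.Agent.Lib.Helper96_OO2_M2
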