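import Mathlib
import Cfsg.Agent.Lib.Helper95_OPDefs
import Cfsg.Agent.Lib.Helper95_OPBasic
import Cfsg.Agent.Lib.Helper48_OODefs
import Cfsg.Agent.Lib.Helper87_OO2Defs

/-!
# S2344 wave 3 (cutter helper87), package OO2-ZETA3 (proof helper9)

The torus element of `Ω_3 = ⟨E(w1, s x), E(w1', s x)⟩` is `n(t) n(1)⁻¹` with
`n(s) = E(w1, s x) E(w1', (s Q(x))⁻¹ x) E(w1, s x)`; hence it fixes every vector fixed by the root elements.
-/

set_option autoImplicit false
set_option linter.unusedSectionVars false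
set_option linter.unusedVariables false

namespace Cfsg.Agent.Lib.Helper9_OO2_ZETA3

open Module Cfsg.Agent.Lib.Helper94_OrthSmall Cfsg.Agent.Lib.Helper44_QuadClass
  Cfsg.Agent.Lib.Helper14_OmegaSimple Cfsg.Agent.Lib.Helper38_MIODefs
  Cfsg.Agent.Lib.Helper95_OPDefs Cfsg.Agent.Lib.Helper95_OPBasic Cfsg.Agent.Lib.Helper48_OODefs
  Cfsg.Agent.Lib.Helper87_OO2Defs

section calc3

variable {F V : Type*} [Field F] [AddCommGroup V] [Module F V] (Q : QuadraticForm F V)

/-- the root element `E(u, s x)` for a singular `u` orthogonal to `x` -/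
theorem Eux_apply {u x : V} (hu : Q u = 0) (hxu : QuadraticMap.polar (⇑Q) x u = 0) (s : F) (v : V) :
    E Q u (s • x) v = v + (s * QuadraticMap.polar (⇑Q) v u) • x -
      (s * QuadraticMap.polar (⇑Q) v x + s ^ 2 * Q x * QuadraticMap.polar (⇑Q) v u) • u := by
  have huz : QuadraticMap.polar (⇑Q) u (s • x) = 0 := by
    rw [QuadraticMap.polar_smul_right, QuadraticMap.polar_comm, hxu, smul_zero]
  rw [E_apply Q hu huz, QuadraticMap.polar_smul_right, QuadraticMap.map_smul, smul_eq_mul,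
    smul_eq_mul]
  module

/-- the Weyl element `n(s)` -/
noncomputable def n3 (w1 w1' x : V) (s : F) : V ≃ₗ[F] V :=
  E Q w1 (s • x) * E Q w1' ((s * Q x)⁻¹ • x) * E Q w1 (s • x)

theorem n3_apply {w1 w1' x : V} (hp : HPair Q w1 w1')
    (hx1 : QuadraticMap.polar (⇑Q) x w1 = 0) (hx1' : QuadraticMap.polar (⇑Q) x w1' = 0)
    (hqx : Q x ≠ 0) {s : F} (hs : s ≠ 0) (v : V) :
    n3 Q w1 w1' x s v = v - ((Q x)⁻¹ * QuadraticMap.polar (⇑Q) v x) • x -
      (s ^ 2 * Q x * QuadraticMap.polar (⇑Q) v w1 + QuadraticMap.polar (⇑Q) v w1') • w1 -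
      (QuadraticMap.polar (⇑Q) v w1 + (s ^ 2 * Q x)⁻¹ * QuadraticMap.polar (⇑Q) v w1') • w1' := by
  have h11 : QuadraticMap.polar (⇑Q) w1 w1 = 0 := by
    rw [QuadraticMap.polar_self, hp.qa, smul_zero]
  have h1'1' : QuadraticMap.polar (⇑Q) w1' w1' = 0 := by
    rw [QuadraticMap.polar_self, hp.qa', smul_zero]
  have h11' : QuadraticMap.polar (⇑Q) w1 w1' = 1 := hp.aa'
  have h1'1 : QuadraticMap.polar (⇑Q) w1' w1 = 1 := by rw [QuadraticMap.polar_comm]; exact hp.aa'
  have hw1x : QuadraticMap.polar (⇑Q) w1 x = 0 := by rw [QuadraticMap.polar_comm]; exact hx1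
  have hw1'x : QuadraticMap.polar (⇑Q) w1' x = 0 := by rw [QuadraticMap.polar_comm]; exact hx1'
  have hxx : QuadraticMap.polar (⇑Q) x x = 2 * Q x := by
    rw [QuadraticMap.polar_self, two_smul, two_mul]
  unfold n3
  rw [LinearEquiv.mul_apply, LinearEquiv.mul_apply, Eux_apply Q hp.qa hx1 s v,
    Eux_apply Q hp.qa' hx1' _ _, Eux_apply Q hp.qa hx1 s _]
  simp only [QuadraticMap.polar_add_left, QuadraticMap.polar_sub_left, QuadraticMap.polar_smul_left,
    smul_eq_mul, h11, h11', h1'1, hw1x, hw1'x, hxx, hx1, hx1', mul_zero, mul_one, add_zero,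
    sub_zero]
  generalize QuadraticMap.polar (⇑Q) v w1 = α
  generalize QuadraticMap.polar (⇑Q) v w1' = α'
  generalize QuadraticMap.polar (⇑Q) v x = β
  generalize hκ : Q x = κ at hqx ⊢
  match_scalars <;> (field_simp; try ring)

end calc3

section partI

variable {F V : Type*} [Field F] [Fintype F] [AddCommGroup V] [Module F V] [FiniteDimensional F V]
  {X : Type*} [AddCommGroup X] [Module ℂ X] [FiniteDimensional ℂ X]

/-! ## OO2-ZETA3 (M): the torus element of `Ω_3` is a product of the root elements -/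
theorem zeta3_fix (Q : QuadraticForm F V) (hQ : (QuadraticMap.polarBilin Q).Nondegenerate)
    (hdim : 5 ≤ finrank F V) {w1 w1' x : V} (hp : HPair Q w1 w1')
    (hx1 : QuadraticMap.polar (⇑Q) x w1 = 0) (hx1' : QuadraticMap.polar (⇑Q) x w1' = 0)
    (hqx : Q x ≠ 0) (ρ : Representation ℂ ↥(T Q) X) (y : X)
    (hy : ∀ s : F, repE Q ρ (E Q w1 (s • x)) y = y)
    (hy' : ∀ s : F, repE Q ρ (E Q w1' (s • x)) y = y) (t : F) (ht : t ≠ 0)
    (z : V ≃ₗ[F] V) (hzT : z ∈ T Q) (hz1 : z w1 = t ^ 2 • w1) (hz1' : z w1' = (t ^ 2)⁻¹ • w1')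
    (hzp : ∀ w ∈ perp Q w1 w1', z w = w) : repE Q ρ z y = y := by
  have h11 : QuadraticMap.polar (⇑Q) w1 w1 = 0 := by
    rw [QuadraticMap.polar_self, hp.qa, smul_zero]
  have h1'1' : QuadraticMap.polar (⇑Q) w1' w1' = 0 := by
    rw [QuadraticMap.polar_self, hp.qa', smul_zero]
  have h11' : QuadraticMap.polar (⇑Q) w1 w1' = 1 := hp.aa'
  have h1'1 : QuadraticMap.polar (⇑Q) w1' w1 = 1 := by rw [QuadraticMap.polar_comm]; exact hp.aa'
  have hw1x : QuadraticMap.polar (⇑Q) w1 x = 0 := by rw [QuadraticMap.polar_comm]; exact hx1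
  have hw1'x : QuadraticMap.polar (⇑Q) w1' x = 0 := by rw [QuadraticMap.polar_comm]; exact hx1'
  have hxx : QuadraticMap.polar (⇑Q) x x = 2 * Q x := by
    rw [QuadraticMap.polar_self, two_smul, two_mul]
  -- membership in `T Q`
  have hE1 : ∀ s : F, E Q w1 (s • x) ∈ T Q := fun s =>
    E_mem_T Q hQ hdim hp.qa (by rw [QuadraticMap.polar_smul_right, hw1x, smul_zero])
  have hE1' : ∀ s : F, E Q w1' (s • x) ∈ T Q := fun s =>
    E_mem_T Q hQ hdim hp.qa' (by rw [QuadraticMap.polar_smul_right, hw1'x, smul_zero])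
  have hnT : ∀ s : F, n3 Q w1 w1' x s ∈ T Q := fun s =>
    Subgroup.mul_mem _ (Subgroup.mul_mem _ (hE1 s) (hE1' _)) (hE1 s)
  -- `n(s)` fixes `y`
  have hny : ∀ s : F, repE Q ρ (n3 Q w1 w1' x s) y = y := by
    intro s
    unfold n3
    rw [repE_mul Q ρ (Subgroup.mul_mem _ (hE1 s) (hE1' _)) (hE1 s), repE_mul Q ρ (hE1 s) (hE1' _),
      Module.End.mul_apply, Module.End.mul_apply, hy s, hy' _, hy s]
  have hninv : repE Q ρ (n3 Q w1 w1' x 1)⁻¹ y = y := by
    have h1 : repE Q ρ ((n3 Q w1 w1' x 1)⁻¹ * n3 Q w1 w1' x 1) y = y := by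
      rw [inv_mul_cancel, repE_one, Module.End.one_apply]
    rw [repE_mul Q ρ (Subgroup.inv_mem _ (hnT 1)) (hnT 1), Module.End.mul_apply, hny 1] at h1
    exact h1
  -- `z = n(t) n(1)⁻¹`
  have hone : (1 : F) ≠ 0 := one_ne_zero
  have hz : z = n3 Q w1 w1' x t * (n3 Q w1 w1' x 1)⁻¹ := by
    -- values of `n(s)`
    have hn1 : ∀ s : F, s ≠ 0 → n3 Q w1 w1' x s w1 = (-(s ^ 2 * Q x)⁻¹) • w1' := by
      intro s hs
      rw [n3_apply Q hp hx1 hx1' hqx hs, hw1x, h11, h11']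
      module
    have hn1' : ∀ s : F, s ≠ 0 → n3 Q w1 w1' x s w1' = (-(s ^ 2 * Q x)) • w1 := by
      intro s hs
      rw [n3_apply Q hp hx1 hx1' hqx hs, hw1'x, h1'1, h1'1']
      module
    have hnp : ∀ s : F, s ≠ 0 → ∀ w ∈ perp Q w1 w1',
        n3 Q w1 w1' x s w = w - ((Q x)⁻¹ * QuadraticMap.polar (⇑Q) w x) • x := by
      intro s hs w hw
      obtain ⟨hw1, hw1'⟩ := (mem_perp Q w1 w1').1 hw
      rw [QuadraticMap.polar_comm] at hw1 hw1'
      rw [n3_apply Q hp hx1 hx1' hqx hs, hw1, hw1']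
      module
    have hxp : x ∈ perp Q w1 w1' := (mem_perp Q w1 w1').2 ⟨hw1x, hw1'x⟩
    -- the reflection is an involution on the perp
    have hrp : ∀ w ∈ perp Q w1 w1', w - ((Q x)⁻¹ * QuadraticMap.polar (⇑Q) w x) • x ∈ perp Q w1 w1' :=
      fun w hw => Submodule.sub_mem _ hw (Submodule.smul_mem _ _ hxp)
    have hrr : ∀ w : V, (w - ((Q x)⁻¹ * QuadraticMap.polar (⇑Q) w x) • x) -
        ((Q x)⁻¹ * QuadraticMap.polar (⇑Q) (w - ((Q x)⁻¹ * QuadraticMap.polar (⇑Q) w x) • x) x) • x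
        = w := by
      intro w
      rw [QuadraticMap.polar_sub_left, QuadraticMap.polar_smul_left, hxx, smul_eq_mul]
      match_scalars <;> (field_simp; try ring)
    -- the inverse of `n(1)`
    have hinv : ∀ u u' : V, n3 Q w1 w1' x 1 u' = u → (n3 Q w1 w1' x 1)⁻¹ u = u' := by
      intro u u' h
      rw [← h]
      show ((n3 Q w1 w1' x 1)⁻¹ * n3 Q w1 w1' x 1) u' = u'
      rw [inv_mul_cancel]
      rfl
    apply LinearEquiv.ext
    intro v
    -- decompose `v`
    set a := QuadraticMap.polar (⇑Q) v w1' with ha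
    set b := QuadraticMap.polar (⇑Q) v w1 with hb
    have hpv : v - a • w1 - b • w1' ∈ perp Q w1 w1' := by
      rw [mem_perp]
      constructor
      · rw [QuadraticMap.polar_comm, QuadraticMap.polar_sub_left, QuadraticMap.polar_sub_left,
          QuadraticMap.polar_smul_left, QuadraticMap.polar_smul_left, h11, h1'1, smul_eq_mul,
          smul_eq_mul, mul_zero, mul_one, sub_zero, sub_self]
      · rw [QuadraticMap.polar_comm, QuadraticMap.polar_sub_left, QuadraticMap.polar_sub_left,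
          QuadraticMap.polar_smul_left, QuadraticMap.polar_smul_left, h11', h1'1', smul_eq_mul,
          smul_eq_mul, mul_zero, mul_one, sub_zero, sub_self]
    have hv : v = a • w1 + b • w1' + (v - a • w1 - b • w1') := by abel
    set p := v - a • w1 - b • w1' with hpdef
    rw [hv, map_add, map_add, map_smul, map_smul, hz1, hz1', hzp p hpv, map_add, map_add, map_smul,
      map_smul, LinearEquiv.mul_apply, LinearEquiv.mul_apply, LinearEquiv.mul_apply]
    -- `n(1)⁻¹ w1`, `n(1)⁻¹ w1'`, `n(1)⁻¹ p`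
    have e1 : (n3 Q w1 w1' x 1)⁻¹ w1 = (-(Q x)⁻¹) • w1' := by
      apply hinv
      rw [map_smul, hn1' 1 hone, smul_smul]
      have : -(Q x)⁻¹ * -(1 ^ 2 * Q x) = 1 := by field_simp
      rw [this, one_smul]
    have e1' : (n3 Q w1 w1' x 1)⁻¹ w1' = (-(Q x)) • w1 := by
      apply hinv
      rw [map_smul, hn1 1 hone, smul_smul]
      have : -(Q x) * -(1 ^ 2 * Q x)⁻¹ = 1 := by field_simp
      rw [this, one_smul]
    have ep : (n3 Q w1 w1' x 1)⁻¹ p = p - ((Q x)⁻¹ * QuadraticMap.polar (⇑Q) p x) • x := by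
      apply hinv
      rw [hnp 1 hone _ (hrp p hpv)]
      exact hrr p
    rw [e1, e1', ep, map_smul, map_smul, hn1' t ht, hn1 t ht, hnp t ht _ (hrp p hpv), hrr p]
    match_scalars <;> field_simp
  rw [hz, repE_mul Q ρ (hnT t) (Subgroup.inv_mem _ (hnT 1)), Module.End.mul_apply, hninv, hny t]

end partI

end Cfsg.Agent.Lib.Helper9_OO2_ZETA3
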