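import Mathlib
import Cfsg.Agent.Lib.Helper95_OPDefs
import Cfsg.Agent.Lib.Helper95_OPBasic
import Cfsg.Agent.Lib.Helper48_OODefs
import Cfsg.Agent.Lib.Helper87_OO2Defs
import Cfsg.Agent.Lib.Helper87_OO2Defs2
import Cfsg.Agent.Lib.Helper87_OO2Defs3
import Cfsg.Agent.Lib.Helper85_OO2_RankOne
import Cfsg.Agent.Lib.Helper85_OO2_REL1
import Cfsg.Agent.Lib.Helper85_OO2_ELT
import Cfsg.Agent.Lib.Helper42_OO2_EXT4
import Cfsg.Agent.Lib.Helper73_OO2_STAB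
import Cfsg.Agent.Lib.Helper95_OO2_INCL
import Cfsg.Agent.Lib.Helper9_OO2_ZETA3
import Cfsg.Agent.Lib.Helper58_MIO_ZEL
import Cfsg.Agent.Lib.Helper63_OP_HCOMM
import Cfsg.Agent.Lib.Helper43_OO2_B1
import Cfsg.Agent.Lib.Helper96_OO2_M2
import Cfsg.Agent.Lib.Helper73_OO2_J12F2aux
import Cfsg.Agent.Lib.Helper61_OO2_BASEL

/-!
# OO2-B1 / OO2-J12F2 / OO2-B2Z verbatim (S2344, wave 3; parallel seat helper48): wrappers from the landed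
`_of` versions (helper43, helper96, helper73, helper61) and the torus statements of OO2-B2Z.
-/

set_option autoImplicit false

namespace Cfsg.Agent.Lib.Helper48_OO2_BaseWrap

open Module Cfsg.Agent.Lib.Helper94_OrthSmall Cfsg.Agent.Lib.Helper44_QuadClass
  Cfsg.Agent.Lib.Helper14_OmegaSimple Cfsg.Agent.Lib.Helper38_MIODefs
  Cfsg.Agent.Lib.Helper95_OPDefs Cfsg.Agent.Lib.Helper95_OPBasic Cfsg.Agent.Lib.Helper48_OODefs
  Cfsg.Agent.Lib.Helper87_OO2Defs Cfsg.Agent.Lib.Helper85_OO2_RankOne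

set_option linter.unusedSectionVars false
set_option linter.unusedVariables false

variable {F V : Type*} [Field F] [Fintype F] [AddCommGroup V] [Module F V] [FiniteDimensional F V]
  {X : Type*} [AddCommGroup X] [Module ℂ X] [FiniteDimensional ℂ X]


/-! ## OO2-B1 (M/L): `Ω_3 = ⟨E(w1, s x), E(w1', s x)⟩` acts trivially on `F_2` -/
theorem B1 (Q : QuadraticForm F V) (hq : 4 ≤ Fintype.card F) (hP : IsOddT Q 3)
    {v v' w0 w0' w1 w1' x : V} (fr : Frame3 Q v v' w0 w0' w1 w1' x)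
    [DecidableEq ↥(perp Q v v')] (ρ : Representation ℂ ↥(T Q) X) (ψ : AddChar F ℂ) (hψ : ψ ≠ 1)
    (hint : DirectSum.IsInternal (fun u : ↥(perp Q v v') => wsp Q ρ ψ v v' u))
    (f : ℕ) (hW : WData Q ρ ψ v v' 1 f) (y : X) (hy : y ∈ F2sp Q ρ v v' w0 w0') (s : F) :
    repE Q ρ (E Q w1 (s • x)) y = y ∧ repE Q ρ (E Q w1' (s • x)) y = y := by
  have hQ := hP.nondeg
  have hdim : 5 ≤ finrank F V := by rw [hP.dim]; omega
  have fr' := Cfsg.Agent.Lib.Helper43_OO2_B1.Frame3_swap Q fr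
  exact Cfsg.Agent.Lib.Helper43_OO2_B1.B1_of Q hQ hdim fr ρ
    (Cfsg.Agent.Lib.Helper96_OO2_M2.F2_le_M2 Q fr ρ)
    (fun m hm => Cfsg.Agent.Lib.Helper96_OO2_M2.M2_n2 Q hP fr ρ m hm)
    (fun m hm s => Cfsg.Agent.Lib.Helper96_OO2_M2.M2_fix_x Q hq hP fr ρ ψ hψ hint f hW m hm s)
    (Cfsg.Agent.Lib.Helper96_OO2_M2.F2_le_M2 Q fr' ρ)
    (fun m hm => Cfsg.Agent.Lib.Helper96_OO2_M2.M2_n2 Q hP fr' ρ m hm)
    (fun m hm s => Cfsg.Agent.Lib.Helper96_OO2_M2.M2_fix_x Q hq hP fr' ρ ψ hψ hint f hW m hm s)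
    y hy s

/-! ## OO2-J12F2 (M/L): `J_1`, `J_2` preserve `F_2` in the base -/
theorem J1_mem_F2_base (Q : QuadraticForm F V) (hP : IsOddT Q 3)
    {v v' w0 w0' w1 w1' x : V} (fr : Frame3 Q v v' w0 w0' w1 w1' x)
    (ρ : Representation ℂ ↥(T Q) X) (y : X) (hy : y ∈ F2sp Q ρ v v' w0 w0') :
    Cfsg.Agent.Lib.Helper87_OO2Defs.Jop Q ρ v v' w0 w0' y ∈ F2sp Q ρ v v' w0 w0' := by
  have hQ := hP.nondeg
  have hdim : 5 ≤ finrank F V := by rw [hP.dim]; omega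
  exact Cfsg.Agent.Lib.Helper73_OO2_J12F2aux.J1_mem_F2_of Q hQ hdim fr.h01 ρ
    (Cfsg.Agent.Lib.Helper61_OO2_BASEL.fixL_W1_eq_top Q hP fr ρ) y hy

theorem J2_mem_F2_base (Q : QuadraticForm F V) (hq : 4 ≤ Fintype.card F) (hP : IsOddT Q 3)
    {v v' w0 w0' w1 w1' x : V} (fr : Frame3 Q v v' w0 w0' w1 w1' x)
    [DecidableEq ↥(perp Q v v')] (ρ : Representation ℂ ↥(T Q) X) (ψ : AddChar F ℂ) (hψ : ψ ≠ 1)
    (hint : DirectSum.IsInternal (fun u : ↥(perp Q v v') => wsp Q ρ ψ v v' u))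
    (f : ℕ) (hW : WData Q ρ ψ v v' 1 f) (y : X) (hy : y ∈ F2sp Q ρ v v' w0 w0') :
    Cfsg.Agent.Lib.Helper87_OO2Defs.Jop Q ρ w0 w0' w1 w1' y ∈ F2sp Q ρ v v' w0 w0' := by
  have hQ := hP.nondeg
  have hdim : 5 ≤ finrank F V := by rw [hP.dim]; omega
  exact Cfsg.Agent.Lib.Helper73_OO2_J12F2aux.J2_mem_F2_of Q hQ hdim fr
    (Cfsg.Agent.Lib.Helper61_OO2_BASEL.W1_eq_span Q hP fr) ρ y hy
    (fun s => (B1 Q hq hP fr ρ ψ hψ hint f hW y hy s).1)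

/-- group identity: `τ n = n z` for the torus elements of the two pairs of a quadruple -/
theorem tau_nw (Q : QuadraticForm F V) {a a' b b' : V} (h : HQuad Q a a' b b') (t : F) (ht : t ≠ 0)
    (τ : V ≃ₗ[F] V) (hτ1 : τ b = t ^ 2 • b) (hτ1' : τ b' = (t ^ 2)⁻¹ • b')
    (hτp : ∀ w ∈ perp Q b b', τ w = w)
    (z : V ≃ₗ[F] V) (hz1 : z a = t ^ 2 • a) (hz1' : z a' = (t ^ 2)⁻¹ • a')
    (hzp : ∀ w ∈ perp Q a a', z w = w) :
    τ * nw Q a a' b b' 1 = nw Q a a' b b' 1 * z := by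
  have hs := h.symm
  have ha : a ∈ perp Q b b' := hs.mem_perp.1
  have ha' : a' ∈ perp Q b b' := hs.mem_perp.2
  have hb : b ∈ perp Q a a' := h.mem_perp.1
  have hb' : b' ∈ perp Q a a' := h.mem_perp.2
  apply Cfsg.Agent.Lib.Helper42_OO2_EXT4.ext4 h
  · rw [LinearEquiv.mul_apply, LinearEquiv.mul_apply, hz1, map_smul,
      Cfsg.Agent.Lib.Helper85_OO2_ELT.nw_a h one_ne_zero, inv_one, one_smul, hτ1]
  · rw [LinearEquiv.mul_apply, LinearEquiv.mul_apply, hz1', map_smul,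
      Cfsg.Agent.Lib.Helper85_OO2_ELT.nw_a' h one_ne_zero, one_smul, hτ1']
  · rw [LinearEquiv.mul_apply, LinearEquiv.mul_apply, hzp b hb,
      Cfsg.Agent.Lib.Helper85_OO2_ELT.nw_b h one_ne_zero, one_smul, map_neg, hτp a ha]
  · rw [LinearEquiv.mul_apply, LinearEquiv.mul_apply, hzp b' hb',
      Cfsg.Agent.Lib.Helper85_OO2_ELT.nw_b' h one_ne_zero, inv_one, one_smul, map_neg, hτp a' ha']
  · intro w h1 h2 h3 h4
    have hwa : w ∈ perp Q a a' := (mem_perp Q a a').2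
      ⟨by rw [QuadraticMap.polar_comm]; exact h1, by rw [QuadraticMap.polar_comm]; exact h2⟩
    have hwb : w ∈ perp Q b b' := (mem_perp Q b b').2
      ⟨by rw [QuadraticMap.polar_comm]; exact h3, by rw [QuadraticMap.polar_comm]; exact h4⟩
    rw [LinearEquiv.mul_apply, LinearEquiv.mul_apply, hzp w hwa,
      Cfsg.Agent.Lib.Helper85_OO2_ELT.nw_perp h 1 h1 h2 h3 h4, hτp w hwb]

/-- **Transfer**: if `τ = ζ_b(t)` acts trivially on a `J_{ab}`-stable space `S` of `x_{ab}`-fixed vectors,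
then so does `z = ζ_a(t)`. -/
theorem zeta_transfer (Q : QuadraticForm F V) (hQ : (QuadraticMap.polarBilin Q).Nondegenerate)
    (hdim : 5 ≤ finrank F V)
    {a a' b b' : V} (h : HQuad Q a a' b b') (ρ : Representation ℂ ↥(T Q) X)
    (S : Submodule ℂ X)
    (hSx : ∀ y ∈ S, ∀ s : F, repE Q ρ (xr Q a b' s) y = y)
    (hSJ : ∀ y ∈ S, Cfsg.Agent.Lib.Helper87_OO2Defs.Jop Q ρ a a' b b' y ∈ S)
    (t : F) (ht : t ≠ 0)
    (τ : V ≃ₗ[F] V) (hτT : τ ∈ T Q) (hτ1 : τ b = t ^ 2 • b) (hτ1' : τ b' = (t ^ 2)⁻¹ • b')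
    (hτp : ∀ w ∈ perp Q b b', τ w = w) (hτS : ∀ y ∈ S, repE Q ρ τ y = y)
    (z : V ≃ₗ[F] V) (hzT : z ∈ T Q) (hz1 : z a = t ^ 2 • a) (hz1' : z a' = (t ^ 2)⁻¹ • a')
    (hzp : ∀ w ∈ perp Q a a', z w = w) (y : X) (hy : y ∈ S) : repE Q ρ z y = y := by
  have ht2 : t ^ 2 ≠ 0 := pow_ne_zero 2 ht
  have hs := h.symm
  have ha : a ∈ perp Q b b' := hs.mem_perp.1
  have hb' : b' ∈ perp Q a a' := h.mem_perp.2
  have hnT : nw Q a a' b b' 1 ∈ T Q := nw_mem_T h 1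
  have hxT : ∀ s, xr Q a b' s ∈ T Q := fun s => xr_mem_T h.pa.qa h.pb.qa' h.ab' s
  have R := Cfsg.Agent.Lib.Helper85_OO2_REL1.sl2Rel_repE ρ h
  -- `τ n = n z` in the representation
  have hgrp := tau_nw Q h t ht τ hτ1 hτ1' hτp z hz1 hz1' hzp
  have hτn : repE Q ρ τ * repE Q ρ (nw Q a a' b b' 1) = repE Q ρ (nw Q a a' b b' 1) * repE Q ρ z := by
    rw [← repE_mul Q ρ hτT hnT, ← repE_mul Q ρ hnT hzT, hgrp]
  -- `τ x(s) = x(t⁻² s) τ`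
  have hτx : ∀ s : F, repE Q ρ τ * repE Q ρ (xr Q a b' s) =
      repE Q ρ (xr Q a b' ((t ^ 2)⁻¹ * s)) * repE Q ρ τ := by
    intro s
    have h1 : τ * xr Q a b' s = xr Q a b' ((t ^ 2)⁻¹ * s) * τ := by
      have hτO : τ ∈ oG (⇑Q) := T_le_oG Q hτT
      have huz : QuadraticMap.polar (⇑Q) a (s • b') = 0 := by
        rw [QuadraticMap.polar_smul_right, h.ab', smul_zero]
      have h2 := conj_E Q hτO h.pa.qa huz
      have h3 : E Q (τ a) (τ (s • b')) = xr Q a b' ((t ^ 2)⁻¹ * s) := by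
        unfold xr
        rw [hτp a ha, map_smul, hτ1', smul_smul, mul_comm]
      unfold xr at h3 ⊢
      rw [← h3, ← h2]
      group
    rw [← repE_mul Q ρ hτT (hxT s), ← repE_mul Q ρ (hxT _) hτT, h1]
  have hJ := tau_J (x := fun s => repE Q ρ (xr Q a b' s)) (n := repE Q ρ (nw Q a a' b b' 1))
    (τ := repE Q ρ τ) (τ' := repE Q ρ z) (c := (t ^ 2)⁻¹) (inv_ne_zero ht2) hτx hτn
  rw [← Cfsg.Agent.Lib.Helper95_OO2_INCL.Jop_eq] at hJ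
  -- `z y` is `x`-fixed
  have hzfix : ∀ s : F, repE Q ρ (xr Q a b' s) (repE Q ρ z y) = repE Q ρ z y := by
    intro s
    have huz : QuadraticMap.polar (⇑Q) a (((t ^ 2)⁻¹ * s) • b') = 0 := by
      rw [QuadraticMap.polar_smul_right, h.ab', smul_zero]
    have h1 := Cfsg.Agent.Lib.Helper73_OO2_STAB.repE_conj ρ hzT h.pa.qa huz (hxT _) y
    have huz' : QuadraticMap.polar (⇑Q) a (z (((t ^ 2)⁻¹ * s) • b')) = 0 := by
      rw [hzp _ (Submodule.smul_mem _ _ hb'), QuadraticMap.polar_smul_right, h.ab', smul_zero]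
    have h2 : E Q (z a) (z (((t ^ 2)⁻¹ * s) • b')) = xr Q a b' s := by
      unfold xr
      rw [hz1, E_smul_left Q h.pa.qa huz', hzp _ (Submodule.smul_mem _ _ hb'), smul_smul,
        ← mul_assoc, mul_inv_cancel₀ ht2, one_mul]
    have h3 : repE Q ρ (E Q a (((t ^ 2)⁻¹ * s) • b')) y = y := hSx y hy _
    rw [h2, h3] at h1
    exact h1
  -- `J (z y - y) = 0`
  have hJy : Cfsg.Agent.Lib.Helper87_OO2Defs.Jop Q ρ a a' b b' (repE Q ρ z y - y) = 0 := by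
    have h1 := congrArg (fun f => f y) hJ
    simp only [Module.End.mul_apply] at h1
    rw [hτS _ (hSJ y hy)] at h1
    rw [map_sub, ← h1, sub_self]
  have hmem : repE Q ρ z y - y ∈ fixX (fun s => repE Q ρ (xr Q a b' s)) := by
    intro s
    show repE Q ρ (xr Q a b' s) (repE Q ρ z y - y) = repE Q ρ z y - y
    rw [map_sub, hzfix s, hSx y hy s]
  have hq : (Fintype.card F : ℂ) ≠ 0 := by
    exact_mod_cast Fintype.card_ne_zero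
  rw [Cfsg.Agent.Lib.Helper95_OO2_INCL.Jop_eq] at hJy
  have := J_inj R hq hmem hJy
  exact sub_eq_zero.mp this


/-- `hh Q a a' b b' (t²) = ζ_a(t) ζ_b(t)⁻¹` -/
theorem hh_sq_eq (Q : QuadraticForm F V) {a a' b b' : V} (h : HQuad Q a a' b b') (t : F) (ht : t ≠ 0)
    (za : V ≃ₗ[F] V) (hza1 : za a = t ^ 2 • a) (hza1' : za a' = (t ^ 2)⁻¹ • a')
    (hzap : ∀ w ∈ perp Q a a', za w = w)
    (zb : V ≃ₗ[F] V) (hzb1 : zb b = t ^ 2 • b) (hzb1' : zb b' = (t ^ 2)⁻¹ • b')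
    (hzbp : ∀ w ∈ perp Q b b', zb w = w) :
    hh Q a a' b b' (t ^ 2) = za * zb⁻¹ := by
  have ht2 : t ^ 2 ≠ 0 := pow_ne_zero 2 ht
  have hs := h.symm
  have ha : a ∈ perp Q b b' := hs.mem_perp.1
  have ha' : a' ∈ perp Q b b' := hs.mem_perp.2
  have hb : b ∈ perp Q a a' := h.mem_perp.1
  have hb' : b' ∈ perp Q a a' := h.mem_perp.2
  have hinv : ∀ w ∈ perp Q b b', zb⁻¹ w = w := by
    intro w hw
    have h1 : zb⁻¹ (zb w) = w := Cfsg.Agent.Lib.Helper73_OO2_STAB.inv_apply_self zb w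
    rw [hzbp w hw] at h1
    exact h1
  apply Cfsg.Agent.Lib.Helper42_OO2_EXT4.ext4 h
  · rw [Cfsg.Agent.Lib.Helper85_OO2_ELT.hh_a h ht2, LinearEquiv.mul_apply, hinv a ha, hza1]
  · rw [Cfsg.Agent.Lib.Helper85_OO2_ELT.hh_a' h ht2, LinearEquiv.mul_apply, hinv a' ha', hza1']
  · rw [Cfsg.Agent.Lib.Helper85_OO2_ELT.hh_b h ht2, LinearEquiv.mul_apply,
      Cfsg.Agent.Lib.Helper73_OO2_STAB.inv_smul_of_smul ht2 hzb1, map_smul, hzap b hb]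
  · rw [Cfsg.Agent.Lib.Helper85_OO2_ELT.hh_b' h ht2, LinearEquiv.mul_apply,
      Cfsg.Agent.Lib.Helper73_OO2_STAB.inv_smul_of_smul (inv_ne_zero ht2) hzb1', map_smul,
      hzap b' hb', inv_inv]
  · intro w h1 h2 h3 h4
    have hwa : w ∈ perp Q a a' := (mem_perp Q a a').2
      ⟨by rw [QuadraticMap.polar_comm]; exact h1, by rw [QuadraticMap.polar_comm]; exact h2⟩
    have hwb : w ∈ perp Q b b' := (mem_perp Q b b').2
      ⟨by rw [QuadraticMap.polar_comm]; exact h3, by rw [QuadraticMap.polar_comm]; exact h4⟩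
    rw [Cfsg.Agent.Lib.Helper85_OO2_ELT.hh_perp h (t ^ 2) h1 h2 h3 h4, LinearEquiv.mul_apply,
      hinv w hwb, hzap w hwa]

/-- `ζ_{w1}(t)` acts trivially on `F_2` (OO2-B1 + OO2-ZETA3) -/
theorem zeta_w1_fix (Q : QuadraticForm F V) (hq : 4 ≤ Fintype.card F) (hP : IsOddT Q 3)
    {v v' w0 w0' w1 w1' x : V} (fr : Frame3 Q v v' w0 w0' w1 w1' x)
    [DecidableEq ↥(perp Q v v')] (ρ : Representation ℂ ↥(T Q) X) (ψ : AddChar F ℂ) (hψ : ψ ≠ 1)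
    (hint : DirectSum.IsInternal (fun u : ↥(perp Q v v') => wsp Q ρ ψ v v' u))
    (f : ℕ) (hW : WData Q ρ ψ v v' 1 f) (y : X) (hy : y ∈ F2sp Q ρ v v' w0 w0')
    (t : F) (ht : t ≠ 0) (z : V ≃ₗ[F] V) (hzT : z ∈ T Q) (hz1 : z w1 = t ^ 2 • w1)
    (hz1' : z w1' = (t ^ 2)⁻¹ • w1') (hzp : ∀ w ∈ perp Q w1 w1', z w = w) :
    repE Q ρ z y = y := by
  have hQ := hP.nondeg
  have hdim : 5 ≤ finrank F V := by rw [hP.dim]; omega
  exact Cfsg.Agent.Lib.Helper9_OO2_ZETA3.zeta3_fix Q hQ hdim fr.h12.pb fr.xw1 fr.xw1' fr.qx ρ y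
    (fun s => (B1 Q hq hP fr ρ ψ hψ hint f hW y hy s).1)
    (fun s => (B1 Q hq hP fr ρ ψ hψ hint f hW y hy s).2)
    t ht z hzT hz1 hz1' hzp

/-! ## OO2-B2Z (L): the torus elements `ζ_{w0}(t)`, `ζ_v(t)`, `h12(t²)`, `h23(t²)` act trivially on `F_2` -/
theorem zeta_w0_fix (Q : QuadraticForm F V) (hq : 4 ≤ Fintype.card F) (hP : IsOddT Q 3)
    {v v' w0 w0' w1 w1' x : V} (fr : Frame3 Q v v' w0 w0' w1 w1' x)
    [DecidableEq ↥(perp Q v v')] (ρ : Representation ℂ ↥(T Q) X) (ψ : AddChar F ℂ) (hψ : ψ ≠ 1)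
    (hint : DirectSum.IsInternal (fun u : ↥(perp Q v v') => wsp Q ρ ψ v v' u))
    (f : ℕ) (hW : WData Q ρ ψ v v' 1 f) (y : X) (hy : y ∈ F2sp Q ρ v v' w0 w0')
    (t : F) (ht : t ≠ 0) (z : V ≃ₗ[F] V) (hzT : z ∈ T Q) (hz1 : z w0 = t ^ 2 • w0)
    (hz1' : z w0' = (t ^ 2)⁻¹ • w0') (hzp : ∀ w ∈ perp Q w0 w0', z w = w) :
    repE Q ρ z y = y := by
  have hQ := hP.nondeg
  have hdim : 5 ≤ finrank F V := by rw [hP.dim]; omega
  have hcomm := Cfsg.Agent.Lib.Helper63_OP_HCOMM.comm_oG_le_T Q hQ hdim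
  obtain ⟨τ, hτT, hτ1, hτ1', hτp⟩ := Cfsg.Agent.Lib.Helper58_MIO_ZEL.exists_zel Q hQ hdim hcomm
    fr.h12.pb.qa fr.h12.pb.qa' fr.h12.pb.aa' t ht
  have hw1' : w1' ∈ W1 Q v v' w0 w0' := Submodule.mem_inf.mpr ⟨fr.h02.mem_perp.2, fr.h12.mem_perp.2⟩
  refine zeta_transfer Q hQ hdim fr.h12 ρ (F2sp Q ρ v v' w0 w0') ?_ ?_ t ht τ hτT hτ1 hτ1' hτp ?_
    z hzT hz1 hz1' hzp y hy
  · intro y' hy' s
    exact (Submodule.mem_inf.mp hy').2 (s • w1') (Submodule.smul_mem _ _ hw1')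
  · intro y' hy'
    exact J2_mem_F2_base Q hq hP fr ρ ψ hψ hint f hW y' hy'
  · intro y' hy'
    exact zeta_w1_fix Q hq hP fr ρ ψ hψ hint f hW y' hy' t ht τ hτT hτ1 hτ1' hτp

theorem zeta_v_fix (Q : QuadraticForm F V) (hq : 4 ≤ Fintype.card F) (hP : IsOddT Q 3)
    {v v' w0 w0' w1 w1' x : V} (fr : Frame3 Q v v' w0 w0' w1 w1' x)
    [DecidableEq ↥(perp Q v v')] (ρ : Representation ℂ ↥(T Q) X) (ψ : AddChar F ℂ) (hψ : ψ ≠ 1)
    (hint : DirectSum.IsInternal (fun u : ↥(perp Q v v') => wsp Q ρ ψ v v' u))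
    (f : ℕ) (hW : WData Q ρ ψ v v' 1 f) (y : X) (hy : y ∈ F2sp Q ρ v v' w0 w0')
    (t : F) (ht : t ≠ 0) (z : V ≃ₗ[F] V) (hzT : z ∈ T Q) (hz1 : z v = t ^ 2 • v)
    (hz1' : z v' = (t ^ 2)⁻¹ • v') (hzp : ∀ w ∈ perp Q v v', z w = w) :
    repE Q ρ z y = y := by
  have hQ := hP.nondeg
  have hdim : 5 ≤ finrank F V := by rw [hP.dim]; omega
  have hcomm := Cfsg.Agent.Lib.Helper63_OP_HCOMM.comm_oG_le_T Q hQ hdim
  obtain ⟨τ, hτT, hτ1, hτ1', hτp⟩ := Cfsg.Agent.Lib.Helper58_MIO_ZEL.exists_zel Q hQ hdim hcomm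
    fr.h01.pb.qa fr.h01.pb.qa' fr.h01.pb.aa' t ht
  refine zeta_transfer Q hQ hdim fr.h01 ρ (F2sp Q ρ v v' w0 w0') ?_ ?_ t ht τ hτT hτ1 hτ1' hτp ?_
    z hzT hz1 hz1' hzp y hy
  · intro y' hy' s
    exact (Submodule.mem_inf.mp hy').1 (s • w0') (Submodule.smul_mem _ _ fr.h01.mem_perp.2)
  · intro y' hy'
    exact J1_mem_F2_base Q hP fr ρ y' hy'
  · intro y' hy'
    exact zeta_w0_fix Q hq hP fr ρ ψ hψ hint f hW y' hy' t ht τ hτT hτ1 hτ1' hτp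

theorem h_sq_fix (Q : QuadraticForm F V) (hq : 4 ≤ Fintype.card F) (hP : IsOddT Q 3)
    {v v' w0 w0' w1 w1' x : V} (fr : Frame3 Q v v' w0 w0' w1 w1' x)
    [DecidableEq ↥(perp Q v v')] (ρ : Representation ℂ ↥(T Q) X) (ψ : AddChar F ℂ) (hψ : ψ ≠ 1)
    (hint : DirectSum.IsInternal (fun u : ↥(perp Q v v') => wsp Q ρ ψ v v' u))
    (f : ℕ) (hW : WData Q ρ ψ v v' 1 f) (y : X) (hy : y ∈ F2sp Q ρ v v' w0 w0')
    (t : F) (ht : t ≠ 0) :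
    repE Q ρ (hh Q v v' w0 w0' (t ^ 2)) y = y ∧ repE Q ρ (hh Q w0 w0' w1 w1' (t ^ 2)) y = y := by
  have hQ := hP.nondeg
  have hdim : 5 ≤ finrank F V := by rw [hP.dim]; omega
  have hcomm := Cfsg.Agent.Lib.Helper63_OP_HCOMM.comm_oG_le_T Q hQ hdim
  obtain ⟨zv, hvT, hv1, hv1', hvp⟩ := Cfsg.Agent.Lib.Helper58_MIO_ZEL.exists_zel Q hQ hdim hcomm
    fr.h01.pa.qa fr.h01.pa.qa' fr.h01.pa.aa' t ht
  obtain ⟨z0, h0T, h01, h01', h0p⟩ := Cfsg.Agent.Lib.Helper58_MIO_ZEL.exists_zel Q hQ hdim hcomm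
    fr.h01.pb.qa fr.h01.pb.qa' fr.h01.pb.aa' t ht
  obtain ⟨z1, h1T, h11, h11', h1p⟩ := Cfsg.Agent.Lib.Helper58_MIO_ZEL.exists_zel Q hQ hdim hcomm
    fr.h12.pb.qa fr.h12.pb.qa' fr.h12.pb.aa' t ht
  have fv := zeta_v_fix Q hq hP fr ρ ψ hψ hint f hW y hy t ht zv hvT hv1 hv1' hvp
  have f0 := zeta_w0_fix Q hq hP fr ρ ψ hψ hint f hW y hy t ht z0 h0T h01 h01' h0p
  have f1 := zeta_w1_fix Q hq hP fr ρ ψ hψ hint f hW y hy t ht z1 h1T h11 h11' h1p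
  constructor
  · rw [hh_sq_eq Q fr.h01 t ht zv hv1 hv1' hvp z0 h01 h01' h0p]
    exact Cfsg.Agent.Lib.Helper73_OO2_STAB.repE_mul_fix ρ hvT (Subgroup.inv_mem _ h0T) fv
      (Cfsg.Agent.Lib.Helper73_OO2_STAB.repE_inv_fix ρ h0T f0)
  · rw [hh_sq_eq Q fr.h12 t ht z0 h01 h01' h0p z1 h11 h11' h1p]
    exact Cfsg.Agent.Lib.Helper73_OO2_STAB.repE_mul_fix ρ h0T (Subgroup.inv_mem _ h1T) f0
      (Cfsg.Agent.Lib.Helper73_OO2_STAB.repE_inv_fix ρ h1T f1)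

end Cfsg.Agent.Lib.Helper48_OO2_BaseWrap
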