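import Mathlib
import Cfsg.Agent.Lib.Helper95_OPDefs
import Cfsg.Agent.Lib.Helper95_OPBasic
import Cfsg.Agent.Lib.Helper48_OODefs
import Cfsg.Agent.Lib.Helper77_OP_TRACER

/-!
helper73 — package OO-TRACER of the S2344 market (cutter helper48): the trace of a long root
element `E Q v w` of the radical (`w ≠ 0` singular in `W = perp Q v v'` of odd type) on a
representation with weight data `(e, f)` is `f - e`.  Copy of helper77's `Helper77_OP_TRACER`
(whose `trace_scalar_sum` and `cone_sum` are reused).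
-/

set_option autoImplicit false

namespace Cfsg.Agent.Lib.Helper73_OO_TRACER

open Module Cfsg.Agent.Lib.Helper94_OrthSmall Cfsg.Agent.Lib.Helper44_QuadClass
  Cfsg.Agent.Lib.Helper14_OmegaSimple Cfsg.Agent.Lib.Helper38_MIODefs
  Cfsg.Agent.Lib.Helper95_OPDefs Cfsg.Agent.Lib.Helper95_OPBasic Cfsg.Agent.Lib.Helper48_OODefs

open Cfsg.Agent.Lib.Helper77_OP_TRACER (trace_scalar_sum cone_sum)

section partD

variable {F V : Type*} [Field F] [Fintype F] [AddCommGroup V] [Module F V] [FiniteDimensional F V]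
  {X : Type*} [AddCommGroup X] [Module ℂ X] [FiniteDimensional ℂ X]

/-! ## OO-TRACER (L) -/
theorem trace_rad (Q : QuadraticForm F V) (hQ : (QuadraticMap.polarBilin Q).Nondegenerate)
    (hdim : 5 ≤ finrank F V) {v v' : V} (hv : Q v = 0) (hv' : Q v' = 0)
    (hvv' : QuadraticMap.polar (⇑Q) v v' = 1) [DecidableEq ↥(perp Q v v')]
    (ρ : Representation ℂ ↥(T Q) X) (ψ : AddChar F ℂ) (hψ : ψ ≠ 1)
    (hint : DirectSum.IsInternal (fun u : ↥(perp Q v v') => wsp Q ρ ψ v v' u))
    (e f : ℕ) (hW : WData Q ρ ψ v v' e f) (m : ℕ) (hm : 1 ≤ m) (hPW : IsOddT (Qp Q v v') m)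
    (w : ↥(perp Q v v')) (hw0 : w ≠ 0) (hw : Qp Q v v' w = 0)
    (hA : Nat.card {u : ↥(perp Q v v') // u ≠ 0 ∧ Qp Q v v' u = 0 ∧
        QuadraticMap.polar (⇑(Qp Q v v')) u w = 0} = Fintype.card F ^ (2 * m - 1) - 1) :
    LinearMap.trace ℂ X (repE Q ρ (E Q v (w : V))) + (e : ℂ) = (f : ℂ) := by
  classical
  have : Finite ↥(perp Q v v') := Module.finite_of_finite F
  haveI : Fintype ↥(perp Q v v') := Fintype.ofFinite _
  set q := Fintype.card F with hq
  have hq2 : 2 ≤ q := Fintype.one_lt_card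
  -- step 1: the trace as a weighted character sum
  have h1 := trace_scalar_sum (fun u : ↥(perp Q v v') => wsp Q ρ ψ v v' u) hint
    (repE Q ρ (E Q v (w : V))) (fun u => ψ (QuadraticMap.polar (⇑Q) (u : V) (w : V)))
    (fun u x hx => hx w)
  rw [h1]
  -- step 2: split the sum
  let P : ↥(perp Q v v') → Prop := fun u => u ≠ 0 ∧ Qp Q v v' u = 0
  let ℓ : ↥(perp Q v v') → F := fun u => QuadraticMap.polar (⇑Q) (u : V) (w : V)
  have hpt : ∀ u : ↥(perp Q v v'),
      (finrank ℂ (wsp Q ρ ψ v v' u) : ℂ) * ψ (QuadraticMap.polar (⇑Q) (u : V) (w : V)) =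
        (if u = 0 then (f : ℂ) else 0) + (if P u then (e : ℂ) * ψ (ℓ u) else 0) := by
    intro u
    by_cases hu0 : u = 0
    · subst hu0
      have hP0 : ¬ P 0 := fun h => h.1 rfl
      rw [if_pos rfl, if_neg hP0, hW.hf]
      simp
    · rw [if_neg hu0]
      by_cases hus : Qp Q v v' u = 0
      · have hPu : P u := ⟨hu0, hus⟩
        rw [if_pos hPu, hW.he u hu0 hus, zero_add]
      · have hPu : ¬ P u := fun h => hus h.2
        rw [if_neg hPu, hW.hns u hus, finrank_bot]
        simp
  rw [Finset.sum_congr rfl (fun u _ => hpt u), Finset.sum_add_distrib, Finset.sum_ite_eq'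
    , if_pos (Finset.mem_univ _), ← Finset.sum_filter, ← Finset.mul_sum]
  -- step 3: the cone sum
  have hcone := cone_sum (F := F) (W := ↥(perp Q v v')) ψ hψ P
    (by
      intro t u ht
      show (t • u ≠ 0 ∧ Qp Q v v' (t • u) = 0) ↔ (u ≠ 0 ∧ Qp Q v v' u = 0)
      rw [QuadraticMap.map_smul, smul_eq_mul]
      constructor
      · rintro ⟨h1, h2⟩
        refine ⟨fun h => h1 (by rw [h, smul_zero]), ?_⟩
        rcases mul_eq_zero.mp h2 with h | h
        · exact absurd (mul_self_eq_zero.mp h) ht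
        · exact h
      · rintro ⟨h1, h2⟩
        exact ⟨smul_ne_zero ht h1, by rw [h2, mul_zero]⟩)
    ℓ
    (by
      intro t u
      show QuadraticMap.polar (⇑Q) ((t • u : ↥(perp Q v v')) : V) (w : V) = _
      rw [Submodule.coe_smul, QuadraticMap.polar_smul_left, smul_eq_mul])
  -- the two cardinalities
  have hcardP : (Finset.univ.filter P).card + 1 = q ^ (2 * m) := by
    rw [← hPW.zeros, Nat.card_eq_fintype_card, Fintype.card_subtype]
    have : (Finset.univ.filter (fun x : ↥(perp Q v v') => Qp Q v v' x = 0)) =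
        insert 0 (Finset.univ.filter P) := by
      ext u
      simp only [Finset.mem_filter, Finset.mem_univ, true_and, Finset.mem_insert, P]
      constructor
      · intro h
        by_cases hu : u = 0
        · exact Or.inl hu
        · exact Or.inr ⟨hu, h⟩
      · rintro (h | h)
        · rw [h, map_zero]
        · exact h.2
    rw [this, Finset.card_insert_of_notMem]
    intro h
    exact (Finset.mem_filter.mp h).2.1 rfl
  have hcard0 : (Finset.univ.filter (fun u => P u ∧ ℓ u = 0)).card = q ^ (2 * m - 1) - 1 := by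
    rw [← hA, Nat.card_eq_fintype_card, Fintype.card_subtype]
    congr 1
    ext u
    simp only [Finset.mem_filter, Finset.mem_univ, true_and, P, ℓ, and_assoc]
    rfl
  rw [hcard0] at hcone
  -- arithmetic
  set A := q ^ (2 * m - 1) with hAdef
  have hA1 : 1 ≤ A := Nat.one_le_pow _ _ (by omega)
  have e1 : q ^ (2 * m) = q * A := by
    rw [hAdef, ← pow_succ']
    congr 1
    omega
  rw [e1] at hcardP
  have hqA : 1 ≤ q * A := Nat.mul_pos (by omega) hA1
  have hcP : ((Finset.univ.filter P).card : ℂ) = (q : ℂ) * A - 1 := by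
    have : (Finset.univ.filter P).card = q * A - 1 := by omega
    rw [this, Nat.cast_sub hqA]
    push_cast
    ring
  rw [hcP, Nat.cast_sub hA1] at hcone
  have hq1 : ((q : ℂ) - 1) ≠ 0 := by
    have : (q : ℂ) ≠ 1 := by
      intro h
      have : q = 1 := by exact_mod_cast h
      omega
    exact sub_ne_zero.mpr this
  have hT : ∑ u ∈ Finset.univ.filter P, ψ (ℓ u) = -1 := by
    apply mul_left_cancel₀ hq1
    rw [hcone]
    push_cast
    ring
  rw [hT]
  ring

end partD

end Cfsg.Agent.Lib.Helper73_OO_TRACER
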