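import Mathlib
import Cfsg.Agent.Lib.Helper95_OPDefs
import Cfsg.Agent.Lib.Helper95_OPBasic
import Cfsg.Agent.Lib.Helper48_OODefs
import Cfsg.Agent.Lib.Helper78_OP_CNTA
import Cfsg.Agent.Lib.Helper78_OP_CNTB
import Cfsg.Agent.Lib.Helper78_OO_CNTA

/-!
# S2344 market (package cutter helper48), package OO-CNTB

The number of non-zero singular vectors orthogonal to a totally singular line `⟨a, b⟩` of an
odd-type quadratic space of rank `m ≥ 2`: `q^(2m-2) - 1`.  (Copy of `Helper78_OP_CNTB` with `IsPlus` replaced by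
`IsOddT`; the general tools `card_fiber`, `card_ne_zero_and`, `exists_partner_orth` are reused.)
-/

set_option autoImplicit false

namespace Cfsg.Agent.Lib.Helper78_OO_CNTB

open Module Cfsg.Agent.Lib.Helper94_OrthSmall Cfsg.Agent.Lib.Helper44_QuadClass
  Cfsg.Agent.Lib.Helper14_OmegaSimple Cfsg.Agent.Lib.Helper38_MIODefs
  Cfsg.Agent.Lib.Helper95_OPDefs Cfsg.Agent.Lib.Helper95_OPBasic Cfsg.Agent.Lib.Helper48_OODefs
  Cfsg.Agent.Lib.Helper78_OP_CNTA Cfsg.Agent.Lib.Helper78_OP_CNTB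

section partC

variable {F W : Type*} [Field F] [Fintype F] [AddCommGroup W] [Module F W] [FiniteDimensional F W]

/-- The arithmetic of the count. -/
theorem arith_cntb_odd (q m : ℕ) (hm : 2 ≤ m) : q * q ^ (2 * (m - 1) - 1) = q ^ (2 * m - 2) := by
  obtain ⟨j, rfl⟩ : ∃ j, m = j + 2 := ⟨m - 2, by omega⟩
  have e1 : 2 * (j + 2 - 1) - 1 = 2 * j + 1 := by omega
  have e2 : 2 * (j + 2) - 2 = 2 * j + 1 + 1 := by omega
  rw [e1, e2, pow_succ' q (2 * j + 1)]

/-- OO-CNTB with the zero vector included. -/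
theorem card_sing_perp_two_zero (Qw : QuadraticForm F W) (m : ℕ) (hm : 2 ≤ m) (hP : IsOddT Qw m)
    (a b : W) (ha0 : a ≠ 0) (hba : b ∉ Submodule.span F {a}) (ha : Qw a = 0) (hb : Qw b = 0)
    (hab : QuadraticMap.polar (⇑Qw) a b = 0) :
    Nat.card {u : W // QuadraticMap.polar (⇑Qw) u a = 0 ∧
        (Qw u = 0 ∧ QuadraticMap.polar (⇑Qw) u b = 0)} = Fintype.card F ^ (2 * m - 2) := by
  obtain ⟨a', ha', haa', ha'b⟩ := exists_partner_orth Qw hP.nondeg a b ha0 hba ha hb hab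
  have hP₁ := isOddT_perp Qw m (by omega) hP ha ha' haa'
  have hbmem : b ∈ perp Qw a a' := by
    rw [mem_perp]
    exact ⟨hab, ha'b⟩
  have hb0 : b ≠ 0 := by
    intro h
    apply hba
    rw [h]
    exact Submodule.zero_mem _
  set b₁ : ↥(perp Qw a a') := ⟨b, hbmem⟩ with hb₁
  have hb₁0 : b₁ ≠ 0 := by
    intro h
    exact hb0 (congrArg Subtype.val h)
  have hb₁ : Qp Qw a a' b₁ = 0 := hb
  have hcnt := Cfsg.Agent.Lib.Helper78_OO_CNTA.card_sing_perp_one_zero (Qp Qw a a') (m - 1) (by omega) hP₁ b₁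
    hb₁0 hb₁
  have hfib := card_fiber Qw ha haa' (fun u => Qw u = 0 ∧ QuadraticMap.polar (⇑Qw) u b = 0) (by
    intro α u hu
    have h2 := (mem_perp Qw a a').mp hu
    rw [map_smul_add, ha, h2.1, QuadraticMap.polar_add_left, QuadraticMap.polar_smul_left, hab]
    simp)
  have e : {u₂ : ↥(perp Qw a a') // Qw (u₂ : W) = 0 ∧ QuadraticMap.polar (⇑Qw) (u₂ : W) b = 0} ≃
      {u : ↥(perp Qw a a') // Qp Qw a a' u = 0 ∧
        QuadraticMap.polar (⇑(Qp Qw a a')) u b₁ = 0} :=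
    Equiv.subtypeEquivRight (fun u => by
      rw [polar_comp_subtype]
      exact Iff.rfl)
  rw [hfib, Nat.card_congr e, hcnt, Nat.card_eq_fintype_card (α := F)]
  exact arith_cntb_odd _ m hm

/-! ## OO-CNTB (L) -/
theorem card_sing_perp_two (Qw : QuadraticForm F W) (m : ℕ) (hm : 2 ≤ m) (hP : IsOddT Qw m)
    (a b : W) (ha0 : a ≠ 0) (hba : b ∉ Submodule.span F {a}) (ha : Qw a = 0) (hb : Qw b = 0)
    (hab : QuadraticMap.polar (⇑Qw) a b = 0) :
    Nat.card {u : W // u ≠ 0 ∧ Qw u = 0 ∧ QuadraticMap.polar (⇑Qw) u a = 0 ∧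
        QuadraticMap.polar (⇑Qw) u b = 0} =
      Fintype.card F ^ (2 * m - 2) - 1 := by
  have hfin : Finite W := Module.finite_of_finite F
  rw [card_ne_zero_and (fun u : W => Qw u = 0 ∧ QuadraticMap.polar (⇑Qw) u a = 0 ∧
    QuadraticMap.polar (⇑Qw) u b = 0) ⟨map_zero _, by simp, by simp⟩]
  have e : {u : W // Qw u = 0 ∧ QuadraticMap.polar (⇑Qw) u a = 0 ∧
        QuadraticMap.polar (⇑Qw) u b = 0} ≃
      {u : W // QuadraticMap.polar (⇑Qw) u a = 0 ∧
        (Qw u = 0 ∧ QuadraticMap.polar (⇑Qw) u b = 0)} :=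
    Equiv.subtypeEquivRight (fun u => and_left_comm)
  rw [Nat.card_congr e, card_sing_perp_two_zero Qw m hm hP a b ha0 hba ha hb hab]

end partC

end Cfsg.Agent.Lib.Helper78_OO_CNTB
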