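import Mathlib
import Cfsg.Agent.Lib.Helper95_OPDefs
import Cfsg.Agent.Lib.Helper95_OPBasic
import Cfsg.Agent.Lib.Helper95_OPMain
import Cfsg.Agent.Lib.Helper48_OODefs
import Cfsg.Agent.Lib.Helper46_OO_ARITH
import Cfsg.Agent.Lib.Helper73_OO_NUM
import Cfsg.Agent.Lib.Helper73_OO_TRACER
import Cfsg.Agent.Lib.Helper78_OO_CNTA
import Cfsg.Agent.Lib.Helper78_OO_CNTB

set_option autoImplicit false

/-!
S2344 (team helper85 / helper12 / helper68 / helper48): the THIN ANALYSIS for the odd type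
(T1-T5 of helper95's S2345 proof transcribed): for an irreducible representation of `T Q`, `Q` of odd type of
rank `n ≥ 3`, `q ≥ 4`, of degree `2 ≤ D < B_n`: only singular weights occur, each with multiplicity one,
`D = f + q^(2m) - 1` (`m = n - 1`), the long root elements have trace `f - 1`, and the long root elements of
the Levi factor have trace `f - q^(2m-2)` on `X_0`.
-/

namespace Cfsg.Agent.Lib.Helper48_OOThin

open Module Cfsg.Agent.Lib.Helper94_OrthSmall Cfsg.Agent.Lib.Helper44_QuadClass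
  Cfsg.Agent.Lib.Helper14_OmegaSimple Cfsg.Agent.Lib.Helper38_MIODefs
  Cfsg.Agent.Lib.Helper95_OPDefs Cfsg.Agent.Lib.Helper95_OPBasic Cfsg.Agent.Lib.Helper48_OODefs
  Cfsg.Agent.Lib.Helper95_OPMain

variable {F V : Type*} [Field F] [Fintype F] [AddCommGroup V] [Module F V] [FiniteDimensional F V]

set_option linter.unusedSectionVars false
set_option linter.unusedVariables false

/-- **Thin weights.** Degree below `B_n` forces the weight datum `e = 1`. -/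
theorem wdata_one (Q : QuadraticForm F V) (n : ℕ) (hn : 3 ≤ n) (hq : 4 ≤ Fintype.card F)
    (hP : IsOddT Q n) {v v' : V} (hv : Q v = 0) (hv' : Q v' = 0)
    (hvv' : QuadraticMap.polar (⇑Q) v v' = 1) [DecidableEq ↥(perp Q v v')]
    {X : Type*} [AddCommGroup X] [Module ℂ X] [FiniteDimensional ℂ X]
    (ρ : Representation ℂ ↥(T Q) X) (hirr : ρ.IsIrreducible) (h2 : 2 ≤ finrank ℂ X)
    (hlt : finrank ℂ X < bodd (Fintype.card F) n) (ψ : AddChar F ℂ) (hψ : ψ ≠ 1) :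
    DirectSum.IsInternal (fun u : ↥(perp Q v v') => wsp Q ρ ψ v v' u) ∧
    ∃ f : ℕ, WData Q ρ ψ v v' 1 f ∧
      finrank ℂ X = f + (Fintype.card F ^ (2 * (n - 1)) - 1) := by
  obtain ⟨q, hqdef⟩ : ∃ q, q = Fintype.card F := ⟨_, rfl⟩
  rw [← hqdef] at hq hlt ⊢
  have hQ := hP.nondeg
  have hdimV : finrank F V = 2 * n + 1 := hP.dim
  have hdim5 : 5 ≤ finrank F V := by omega
  have hdim7 : 7 ≤ finrank F V := by omega
  have hcomm := Cfsg.Agent.Lib.Helper63_OP_HCOMM.comm_oG_le_T Q hQ hdim5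
  have hint := Cfsg.Agent.Lib.Helper69_OP_WSDEC.wsp_isInternal Q hQ hdim5 hv hv' hvv' ρ ψ hψ
  refine ⟨hint, ?_⟩
  have hs : Nat.card {u : ↥(perp Q v v') // u ≠ 0 ∧ Qp Q v v' u = 0} = q ^ (2 * (n - 1)) - 1 := by
    rw [card_sing_perp Q n (by omega) hP hv hv' hvv', ← hqdef]
  have harith := Cfsg.Agent.Lib.Helper46_OO_ARITH.bodd_le_two_level q n (by omega) hn
  rw [hqdef] at harith
  rcases Cfsg.Agent.Lib.Helper73_OO_NUM.wdata_or_large Q n hn hP (by omega) hv hv' hvv' ρ ψ hint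
    (fun u u' hu hu' h => Cfsg.Agent.Lib.Helper71_OP_WSLEVEL.finrank_wsp_level Q hQ hdim7 hv hv' hvv' ρ ψ u u' hu hu' h)
    (fun t ht => Cfsg.Agent.Lib.Helper61_OP_WSTORUS.finrank_wsp_torus Q hQ hdim7 hcomm hv hv' hvv' ρ ψ t ht) harith with hbig | ⟨e, f, hW⟩
  · rw [← hqdef] at hbig; omega
  have he1 := Cfsg.Agent.Lib.Helper69_OP_NONTRIV.one_le_e Q hQ hdim7 hv hv' hvv' ρ hirr h2 ψ hint e f hW
  have hD := hW.hD
  rw [hs] at hD
  have he : e = 1 := by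
    by_contra hne
    have he2 : 2 ≤ e := by omega
    have h1 := Cfsg.Agent.Lib.Helper46_OO_ARITH.bodd_le_two_sing q n (by omega) (by omega)
    have h3 : 2 * (q ^ (2 * (n - 1)) - 1) ≤ e * (q ^ (2 * (n - 1)) - 1) := Nat.mul_le_mul_right _ he2
    omega
  subst he
  rw [one_mul] at hD
  exact ⟨f, hW, hD⟩

/-- The Levi factor preserves the fixed space `X_0` of the radical. -/
theorem wsp_zero_inv (Q : QuadraticForm F V) (hQ : (QuadraticMap.polarBilin Q).Nondegenerate)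
    (hdim : 5 ≤ finrank F V) {v v' : V} (hv : Q v = 0)
    {X : Type*} [AddCommGroup X] [Module ℂ X]
    (ρ : Representation ℂ ↥(T Q) X) (ψ : AddChar F ℂ) (L : LeviHom Q v v')
    (g : ↥(T (Qp Q v v'))) (x : X) (hx : x ∈ wsp Q ρ ψ v v' 0) :
    ρ (L.ι g) x ∈ wsp Q ρ ψ v v' 0 := by
  have := wsp_map Q hQ hdim hv ρ ψ ((L.ι g : ↥(T Q)) : V ≃ₗ[F] V) (L.ι g).2 1 one_ne_zero
    (by rw [L.apply_v, one_smul]) (g : ↥(perp Q v v') ≃ₗ[F] ↥(perp Q v v'))
    (fun w => (L.apply_coe g w).symm) 0 x hx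
  rw [repE_coe] at this
  simpa using this

/-- **Long root elements** have trace `f - 1`. -/
theorem trace_long (Q : QuadraticForm F V) (n : ℕ) (hn : 3 ≤ n)
    (hP : IsOddT Q n) {v v' : V} (hv : Q v = 0) (hv' : Q v' = 0)
    (hvv' : QuadraticMap.polar (⇑Q) v v' = 1) [DecidableEq ↥(perp Q v v')]
    {X : Type*} [AddCommGroup X] [Module ℂ X] [FiniteDimensional ℂ X]
    (ρ : Representation ℂ ↥(T Q) X) (ψ : AddChar F ℂ) (hψ : ψ ≠ 1)
    (hint : DirectSum.IsInternal (fun u : ↥(perp Q v v') => wsp Q ρ ψ v v' u))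
    (f : ℕ) (hW : WData Q ρ ψ v v' 1 f)
    (y z : V) (hy0 : y ≠ 0) (hy : Q y = 0) (hz : Q z = 0)
    (hyz : QuadraticMap.polar (⇑Q) y z = 0) (hzy : z ∉ Submodule.span F {y}) :
    LinearMap.trace ℂ X (repE Q ρ (E Q y z)) + 1 = (f : ℂ) := by
  have hQ := hP.nondeg
  have hdimV : finrank F V = 2 * n + 1 := hP.dim
  have hdim5 : 5 ≤ finrank F V := by omega
  have hPW : IsOddT (Qp Q v v') (n - 1) := isOddT_perp Q n (by omega) hP hv hv' hvv'
  obtain ⟨g, hg, w, hw0, hw, hE⟩ :=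
    Cfsg.Agent.Lib.Helper61_OP_CONJ.root_conj Q hQ hdim5 hv hv' hvv' y z hy0 hy hz hyz hzy
  rw [hE, trace_repE_conj Q ρ hg (rad_mem Q hQ hdim5 hv w)]
  have hA := Cfsg.Agent.Lib.Helper78_OO_CNTA.card_sing_perp_one (Qp Q v v') (n - 1) (by omega) hPW w hw0 hw
  have := Cfsg.Agent.Lib.Helper73_OO_TRACER.trace_rad Q hQ hdim5 hv hv' hvv' ρ ψ hψ hint 1 f hW (n - 1) (by omega)
    hPW w hw0 hw hA
  simpa using this

/-- **The Levi factor on `X_0`**: a long root element `E(a,b)` of the Levi factor has trace `f - q^(2m-2)`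
on the fixed space `X_0` of the radical (`m = n - 1`); in particular it acts non-trivially. -/
theorem trace_levi_zero (Q : QuadraticForm F V) (n : ℕ) (hn : 3 ≤ n) (hq : 4 ≤ Fintype.card F)
    (hP : IsOddT Q n) {v v' : V} (hv : Q v = 0) (hv' : Q v' = 0)
    (hvv' : QuadraticMap.polar (⇑Q) v v' = 1) [DecidableEq ↥(perp Q v v')]
    {X : Type*} [AddCommGroup X] [Module ℂ X] [FiniteDimensional ℂ X]
    (ρ : Representation ℂ ↥(T Q) X) (ψ : AddChar F ℂ) (hψ : ψ ≠ 1)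
    (hint : DirectSum.IsInternal (fun u : ↥(perp Q v v') => wsp Q ρ ψ v v' u))
    (f : ℕ) (hW : WData Q ρ ψ v v' 1 f) (L : LeviHom Q v v')
    (hinv : ∀ (g : ↥(T (Qp Q v v'))) (x : X), x ∈ wsp Q ρ ψ v v' 0 →
      ρ (L.ι g) x ∈ wsp Q ρ ψ v v' 0)
    (a b : ↥(perp Q v v')) (ha0 : a ≠ 0) (hba : b ∉ Submodule.span F {a})
    (ha : Qp Q v v' a = 0) (hb : Qp Q v v' b = 0)
    (hab : QuadraticMap.polar (⇑(Qp Q v v')) a b = 0)
    (hxW : E (Qp Q v v') a b ∈ T (Qp Q v v')) :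
    LinearMap.trace ℂ ↥(wsp Q ρ ψ v v' 0) (sigmaRep Q ρ ψ v v' L hinv ⟨E (Qp Q v v') a b, hxW⟩)
      + ((Fintype.card F ^ (2 * (n - 1) - 2) : ℕ) : ℂ) = (f : ℂ) := by
  have hQ := hP.nondeg
  have hdimV : finrank F V = 2 * n + 1 := hP.dim
  have hdim5 : 5 ≤ finrank F V := by omega
  have hdim7 : 7 ≤ finrank F V := by omega
  have hcomm := Cfsg.Agent.Lib.Helper63_OP_HCOMM.comm_oG_le_T Q hQ hdim5
  have hPW : IsOddT (Qp Q v v') (n - 1) := isOddT_perp Q n (by omega) hP hv hv' hvv'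
  have haV : Q (a : V) = 0 := ha
  have hbV : Q (b : V) = 0 := hb
  have habV : QuadraticMap.polar (⇑Q) (a : V) (b : V) = 0 := by
    rw [← polar_comp_subtype]; exact hab
  have hxV : E Q (a : V) (b : V) ∈ T Q := root_mem_T Q haV hbV habV
  have hLE := Cfsg.Agent.Lib.Helper73_OP_EXT.leviHom_E Q hQ hv hv' hvv' L a b ha hab hxW
  have hρ : ρ (L.ι ⟨E (Qp Q v v') a b, hxW⟩) = repE Q ρ (E Q (a : V) (b : V)) := by
    rw [← repE_coe, hLE]
  have hgv : E Q (a : V) (b : V) v = v := by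
    have := L.apply_v ⟨E (Qp Q v v') a b, hxW⟩
    rwa [hLE] at this
  have hφ : ∀ w : ↥(perp Q v v'),
      ((E (Qp Q v v') a b w : ↥(perp Q v v')) : V) = E Q (a : V) (b : V) (w : V) :=
    fun w => Cfsg.Agent.Lib.Helper52_MIO_RESTR.restr Q v v' a b w haV habV
  have hfix : ∀ u : ↥(perp Q v v'), u ≠ 0 → E (Qp Q v v') a b u = u →
      ∀ x ∈ wsp Q ρ ψ v v' u, repE Q ρ (E Q (a : V) (b : V)) x = x := by
    intro u hu0 hfixu x hx
    by_cases hQu : Qp Q v v' u = 0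
    · have h1 : finrank ℂ (wsp Q ρ ψ v v' u) = 1 := hW.he u hu0 hQu
      obtain ⟨hua, hub⟩ := (E_fix_iff (Qp Q v v') ha0 hba ha hb hab u).mp hfixu
      have huaV : QuadraticMap.polar (⇑Q) (u : V) (a : V) = 0 := by
        rw [← polar_comp_subtype]; exact hua
      have hubV : QuadraticMap.polar (⇑Q) (u : V) (b : V) = 0 := by
        rw [← polar_comp_subtype]; exact hub
      obtain ⟨g₁, g₂, hg₁, hg₂, h1v, h1v', h1u, h2v, h2v', h2u, hE⟩ :=
        Cfsg.Agent.Lib.Helper89_OP_FIXGEO.exists_comm_fix Q hQ hdim7 hcomm hq hv hv' hvv'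
          (a : V) (b : V) (u : V) a.2 b.2 u.2 haV hbV habV hQu huaV hubV
      rw [hE]
      exact Cfsg.Agent.Lib.Helper70_OP_COMMFIX.comm_fix Q hQ hdim5 hv hv' hvv' ρ ψ u h1 g₁ g₂ hg₁ hg₂
        h1v h1v' h1u h2v h2v' h2u x hx
    · have hbot := hW.hns u hQu
      rw [hbot, Submodule.mem_bot] at hx
      rw [hx, map_zero]
  have h0 : ∀ x ∈ wsp Q ρ ψ v v' 0, repE Q ρ (E Q (a : V) (b : V)) x ∈ wsp Q ρ ψ v v' 0 := by
    intro x hx
    rw [← hρ]
    exact hinv _ x hx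
  have htl := Cfsg.Agent.Lib.Helper73_OP_TRACEL.trace_levi Q hQ hdim5 hv hv' hvv' ρ ψ hint 1 f hW
    (E Q (a : V) (b : V)) hxV hgv (E (Qp Q v v') a b) hφ hfix h0
  have hcardfix : Nat.card {u : ↥(perp Q v v') // u ≠ 0 ∧ Qp Q v v' u = 0 ∧
      E (Qp Q v v') a b u = u} = Fintype.card F ^ (2 * (n - 1) - 2) - 1 := by
    rw [← Cfsg.Agent.Lib.Helper78_OO_CNTB.card_sing_perp_two (Qp Q v v') (n - 1) (by omega) hPW a b ha0 hba ha hb hab]
    apply Nat.card_congr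
    apply Equiv.subtypeEquivRight
    intro u
    rw [E_fix_iff (Qp Q v v') ha0 hba ha hb hab u]
  rw [hcardfix, one_mul] at htl
  have haV0 : (a : V) ≠ 0 := fun h => ha0 (Subtype.ext h)
  have hbaV : (b : V) ∉ Submodule.span F {(a : V)} := by
    intro h
    apply hba
    obtain ⟨k, hk⟩ := Submodule.mem_span_singleton.mp h
    rw [Submodule.mem_span_singleton]
    exact ⟨k, Subtype.ext hk⟩
  have hcx := trace_long Q n hn hP hv hv' hvv' ρ ψ hψ hint f hW (a : V) (b : V) haV0 haV hbV habV hbaV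
  have hσx : sigmaRep Q ρ ψ v v' L hinv ⟨E (Qp Q v v') a b, hxW⟩ =
      (repE Q ρ (E Q (a : V) (b : V))).restrict h0 := by
    apply LinearMap.ext
    intro x
    apply Subtype.ext
    rw [sigmaRep_apply, hρ]
    rfl
  rw [hσx]
  have hpos : 1 ≤ Fintype.card F ^ (2 * (n - 1) - 2) := Nat.one_le_pow _ _ Fintype.card_pos
  have hcast : ((Fintype.card F ^ (2 * (n - 1) - 2) - 1 : ℕ) : ℂ) =
      ((Fintype.card F ^ (2 * (n - 1) - 2) : ℕ) : ℂ) - 1 := by
    rw [Nat.cast_sub hpos, Nat.cast_one]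
  rw [hcast] at htl
  rw [← hcx, htl]
  ring

/-- The long root elements of the Levi factor act non-trivially on `X_0`. -/
theorem sigma_ne_one (Q : QuadraticForm F V) (n : ℕ) (hn : 3 ≤ n) (hq : 4 ≤ Fintype.card F)
    (hP : IsOddT Q n) {v v' : V} (hv : Q v = 0) (hv' : Q v' = 0)
    (hvv' : QuadraticMap.polar (⇑Q) v v' = 1) [DecidableEq ↥(perp Q v v')]
    {X : Type*} [AddCommGroup X] [Module ℂ X] [FiniteDimensional ℂ X]
    (ρ : Representation ℂ ↥(T Q) X) (ψ : AddChar F ℂ) (hψ : ψ ≠ 1)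
    (hint : DirectSum.IsInternal (fun u : ↥(perp Q v v') => wsp Q ρ ψ v v' u))
    (f : ℕ) (hW : WData Q ρ ψ v v' 1 f) (L : LeviHom Q v v')
    (hinv : ∀ (g : ↥(T (Qp Q v v'))) (x : X), x ∈ wsp Q ρ ψ v v' 0 →
      ρ (L.ι g) x ∈ wsp Q ρ ψ v v' 0)
    (a b : ↥(perp Q v v')) (ha0 : a ≠ 0) (hba : b ∉ Submodule.span F {a})
    (ha : Qp Q v v' a = 0) (hb : Qp Q v v' b = 0)
    (hab : QuadraticMap.polar (⇑(Qp Q v v')) a b = 0)
    (hxW : E (Qp Q v v') a b ∈ T (Qp Q v v')) :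
    sigmaRep Q ρ ψ v v' L hinv ⟨E (Qp Q v v') a b, hxW⟩ ≠ 1 := by
  intro h1
  have htr := trace_levi_zero Q n hn hq hP hv hv' hvv' ρ ψ hψ hint f hW L hinv a b ha0 hba ha hb hab hxW
  rw [h1, LinearMap.trace_one, hW.hf] at htr
  have hpos : 1 ≤ Fintype.card F ^ (2 * (n - 1) - 2) := Nat.one_le_pow _ _ Fintype.card_pos
  have h3 : f + Fintype.card F ^ (2 * (n - 1) - 2) = f := by exact_mod_cast htr
  omega

end Cfsg.Agent.Lib.Helper48_OOThin
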