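import Mathlib
import Cfsg.Agent.Lib.Helper95_OPDefs
import Cfsg.Agent.Lib.Helper95_OPBasic
import Cfsg.Agent.Lib.Helper48_OODefs
import Cfsg.Agent.Lib.Helper87_OO2Defs
import Cfsg.Agent.Lib.Helper87_OO2Defs2
import Cfsg.Agent.Lib.Helper85_OO2_RankOne
import Cfsg.Agent.Lib.Helper85_OO2_LemK
import Cfsg.Agent.Lib.Helper69_OP_NONTRIV
import Cfsg.Agent.Lib.Helper52_MIO_RESTR
import Cfsg.Agent.Lib.Helper17_MIO_TR

/-!
# S2344 market (cutter helper87), package OO2-IRR

A representation of `T Q` with weight data `WData 1 f` w.r.t. the radical `R = {E Q v w}` and without non-zero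
fixed vectors is irreducible.

Tools (all generic, reusable): the isotypic projections `eopW u = ∑_w ψ(-B(u,w)) ρ(E(v,w))` of the radical
(`eopW_mem_wsp`, `sum_eopW`, `eopW_mem`), the dichotomy for normal subgroups of `T Q` containing a long root
element (`normal_eq_top`), `eq_bot_of_rad_trivial` / `eq_top_of_rad_trivial_quot` (an invariant subspace on which
(resp. modulo which) the radical acts trivially is `⊥` (resp. `⊤`) if there are no fixed vectors), and the
transitivity statement `wsp_le_const`.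
-/

set_option autoImplicit false
set_option linter.unusedSectionVars false

namespace Cfsg.Agent.Lib.Helper77_OO2_IRR

open Module Cfsg.Agent.Lib.Helper94_OrthSmall Cfsg.Agent.Lib.Helper44_QuadClass
  Cfsg.Agent.Lib.Helper14_OmegaSimple Cfsg.Agent.Lib.Helper38_MIODefs
  Cfsg.Agent.Lib.Helper95_OPDefs Cfsg.Agent.Lib.Helper95_OPBasic Cfsg.Agent.Lib.Helper48_OODefs
  Cfsg.Agent.Lib.Helper87_OO2Defs Cfsg.Agent.Lib.Helper20_MIO_NORM

variable {F V : Type*} [Field F] [Fintype F] [AddCommGroup V] [Module F V] [FiniteDimensional F V]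
  {X : Type*} [AddCommGroup X] [Module ℂ X]

/-! ## Orthogonality on `W = perp Q v v'` -/

/-- For `w ≠ 0` in `W`, `∑_u ψ(-B(u,w)) = 0`. -/
theorem sum_char_eq_zero (Q : QuadraticForm F V) (hQ : (QuadraticMap.polarBilin Q).Nondegenerate)
    {v v' : V} (hv : Q v = 0) (hv' : Q v' = 0) (hvv' : QuadraticMap.polar (⇑Q) v v' = 1)
    [Fintype ↥(perp Q v v')] (ψ : AddChar F ℂ) (hψ : ψ ≠ 1) (w : ↥(perp Q v v')) (hw : w ≠ 0) :
    ∑ u : ↥(perp Q v v'), ψ (-(QuadraticMap.polar (⇑Q) (u : V) (w : V))) = 0 := by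
  have hnd := nondegenerate_perp hQ hv hv' hvv'
  obtain ⟨y, hy⟩ : ∃ y : ↥(perp Q v v'), QuadraticMap.polar (⇑Q) (w : V) (y : V) ≠ 0 := by
    by_contra hcon
    push Not at hcon
    apply hw
    apply hnd.1 w
    intro y
    show QuadraticMap.polar (⇑(Qp Q v v')) w y = 0
    rw [polar_comp_subtype]
    exact hcon y
  obtain ⟨c, hc⟩ := (AddChar.ne_one_iff).mp hψ
  set b := QuadraticMap.polar (⇑Q) (w : V) (y : V) with hb
  set u₂ : ↥(perp Q v v') := (-(c / b)) • y with hu₂
  have hu₂w : -(QuadraticMap.polar (⇑Q) (u₂ : V) (w : V)) = c := by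
    rw [hu₂, Submodule.coe_smul, QuadraticMap.polar_smul_left, QuadraticMap.polar_comm, ← hb,
      smul_eq_mul]
    field_simp
  set S : ℂ := ∑ u : ↥(perp Q v v'), ψ (-(QuadraticMap.polar (⇑Q) (u : V) (w : V))) with hS
  have h1 : S = ψ c * S := by
    rw [hS, Finset.mul_sum, ← Equiv.sum_comp (Equiv.addRight u₂)]
    refine Finset.sum_congr rfl (fun u _ => ?_)
    rw [Equiv.coe_addRight, Submodule.coe_add, QuadraticMap.polar_add_left, neg_add, hu₂w,
      AddChar.map_add_eq_mul, mul_comm]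
  have h2 : (1 - ψ c) * S = 0 := by
    rw [sub_mul, one_mul, ← h1, sub_self]
  rcases mul_eq_zero.mp h2 with h | h
  · exfalso
    apply hc
    exact (sub_eq_zero.mp h).symm
  · exact h

/-! ## The isotypic projections of the radical -/

/-- The (unnormalised) projection onto the weight space of label `u`. -/
noncomputable def eopW (Q : QuadraticForm F V) (ρ : Representation ℂ ↥(T Q) X) (ψ : AddChar F ℂ)
    (v v' : V) [Fintype ↥(perp Q v v')] (u : ↥(perp Q v v')) : Module.End ℂ X :=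
  ∑ w : ↥(perp Q v v'),
    ψ (-(QuadraticMap.polar (⇑Q) (u : V) (w : V))) • repE Q ρ (E Q v (w : V))

theorem eopW_apply (Q : QuadraticForm F V) (ρ : Representation ℂ ↥(T Q) X) (ψ : AddChar F ℂ)
    (v v' : V) [Fintype ↥(perp Q v v')] (u : ↥(perp Q v v')) (x : X) :
    eopW Q ρ ψ v v' u x = ∑ w : ↥(perp Q v v'),
      ψ (-(QuadraticMap.polar (⇑Q) (u : V) (w : V))) • repE Q ρ (E Q v (w : V)) x := by
  unfold eopW
  rw [LinearMap.sum_apply]
  rfl

/-- The projection preserves every subspace stable under the radical. -/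
theorem eopW_mem (Q : QuadraticForm F V) (ρ : Representation ℂ ↥(T Q) X) (ψ : AddChar F ℂ)
    (v v' : V) [Fintype ↥(perp Q v v')] (A : Submodule ℂ X)
    (hA : ∀ (w : ↥(perp Q v v')) (a : X), a ∈ A → repE Q ρ (E Q v (w : V)) a ∈ A)
    (u : ↥(perp Q v v')) (a : X) (ha : a ∈ A) : eopW Q ρ ψ v v' u a ∈ A := by
  rw [eopW_apply]
  exact A.sum_mem (fun w _ => A.smul_mem _ (hA w a ha))

/-- The projection lands in the weight space. -/
theorem eopW_mem_wsp (Q : QuadraticForm F V) (hQ : (QuadraticMap.polarBilin Q).Nondegenerate)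
    (hdim : 5 ≤ finrank F V) {v v' : V} (hv : Q v = 0)
    (ρ : Representation ℂ ↥(T Q) X) (ψ : AddChar F ℂ)
    [Fintype ↥(perp Q v v')] (u : ↥(perp Q v v')) (x : X) :
    eopW Q ρ ψ v v' u x ∈ wsp Q ρ ψ v v' u := by
  intro w'
  rw [eopW_apply, map_sum, Finset.smul_sum, ← Equiv.sum_comp (Equiv.addLeft w')
    (fun w => ψ (QuadraticMap.polar (⇑Q) (u : V) (w' : V)) •
      ψ (-(QuadraticMap.polar (⇑Q) (u : V) (w : V))) • repE Q ρ (E Q v (w : V)) x)]
  refine Finset.sum_congr rfl (fun w _ => ?_)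
  rw [map_smul, ← Module.End.mul_apply, ← repE_mul Q ρ (rad_mem Q hQ hdim hv w')
    (rad_mem Q hQ hdim hv w), E_mul Q hv (polar_v_perp Q w') (polar_v_perp Q w), smul_smul,
    Equiv.coe_addLeft, Submodule.coe_add, QuadraticMap.polar_add_right, ← AddChar.map_add_eq_mul]
  congr 2
  ring

/-- The projections sum to `|W|`. -/
theorem sum_eopW (Q : QuadraticForm F V) (hQ : (QuadraticMap.polarBilin Q).Nondegenerate)
    {v v' : V} (hv : Q v = 0) (hv' : Q v' = 0) (hvv' : QuadraticMap.polar (⇑Q) v v' = 1)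
    (ρ : Representation ℂ ↥(T Q) X) (ψ : AddChar F ℂ) (hψ : ψ ≠ 1)
    [Fintype ↥(perp Q v v')] (x : X) :
    ∑ u : ↥(perp Q v v'), eopW Q ρ ψ v v' u x = (Fintype.card ↥(perp Q v v') : ℂ) • x := by
  classical
  simp only [eopW_apply]
  rw [Finset.sum_comm]
  have h1 : ∀ w : ↥(perp Q v v'),
      ∑ u : ↥(perp Q v v'), ψ (-(QuadraticMap.polar (⇑Q) (u : V) (w : V))) •
        repE Q ρ (E Q v (w : V)) x =
      if w = 0 then (Fintype.card ↥(perp Q v v') : ℂ) • x else 0 := by
    intro w
    rw [← Finset.sum_smul]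
    split_ifs with hw
    · subst hw
      have h0 : ∀ u : ↥(perp Q v v'),
          ψ (-(QuadraticMap.polar (⇑Q) (u : V) ((0 : ↥(perp Q v v')) : V))) = 1 := by
        intro u
        simp [QuadraticMap.polar]
      rw [Finset.sum_congr rfl (fun u _ => h0 u), Finset.sum_const, Finset.card_univ,
        nsmul_eq_mul, mul_one, Submodule.coe_zero, E_zero_right Q hv, repE_one]
      rfl
    · rw [sum_char_eq_zero Q hQ hv hv' hvv' ψ hψ w hw, zero_smul]
  rw [Finset.sum_congr rfl (fun w _ => h1 w), Finset.sum_ite_eq' Finset.univ 0,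
    if_pos (Finset.mem_univ _)]

/-- A radical-stable subspace meeting all weight spaces of non-zero label trivially lies in the weight space
of label `0`. -/
theorem le_wsp_zero (Q : QuadraticForm F V) (hQ : (QuadraticMap.polarBilin Q).Nondegenerate)
    (hdim : 5 ≤ finrank F V) {v v' : V} (hv : Q v = 0) (hv' : Q v' = 0)
    (hvv' : QuadraticMap.polar (⇑Q) v v' = 1)
    (ρ : Representation ℂ ↥(T Q) X) (ψ : AddChar F ℂ) (hψ : ψ ≠ 1) (A : Submodule ℂ X)
    (hA : ∀ (w : ↥(perp Q v v')) (a : X), a ∈ A → repE Q ρ (E Q v (w : V)) a ∈ A)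
    (hmeet : ∀ u : ↥(perp Q v v'), u ≠ 0 → A ⊓ wsp Q ρ ψ v v' u = ⊥) :
    A ≤ wsp Q ρ ψ v v' 0 := by
  classical
  have : Finite ↥(perp Q v v') := Module.finite_of_finite F
  have := Fintype.ofFinite ↥(perp Q v v')
  intro a ha
  have hsum := sum_eopW Q hQ hv hv' hvv' ρ ψ hψ a
  have hz : ∀ u : ↥(perp Q v v'), u ≠ 0 → eopW Q ρ ψ v v' u a = 0 := by
    intro u hu
    have h1 : eopW Q ρ ψ v v' u a ∈ A ⊓ wsp Q ρ ψ v v' u :=
      ⟨eopW_mem Q ρ ψ v v' A hA u a ha, eopW_mem_wsp Q hQ hdim hv ρ ψ u a⟩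
    rw [hmeet u hu] at h1
    exact (Submodule.mem_bot ℂ).mp h1
  rw [Finset.sum_eq_single 0 (fun u _ hu => hz u hu)
    (fun h => absurd (Finset.mem_univ _) h)] at hsum
  have hcard : (Fintype.card ↥(perp Q v v') : ℂ) ≠ 0 := by
    have : Fintype.card ↥(perp Q v v') ≠ 0 := Fintype.card_ne_zero
    exact_mod_cast this
  have : a = (Fintype.card ↥(perp Q v v') : ℂ)⁻¹ • eopW Q ρ ψ v v' 0 a := by
    rw [hsum, smul_smul, inv_mul_cancel₀ hcard, one_smul]
  rw [this]
  exact Submodule.smul_mem _ _ (eopW_mem_wsp Q hQ hdim hv ρ ψ 0 a)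

/-! ## Normal subgroups of `T Q` containing a long root element -/

/-- A normal subgroup of `T Q` containing a radical element `E Q v w`, `w ≠ 0` singular, is everything. -/
theorem normal_eq_top (Q : QuadraticForm F V) (hQ : (QuadraticMap.polarBilin Q).Nondegenerate)
    (hdim : 5 ≤ finrank F V) {v v' : V} (hv : Q v = 0) (hv' : Q v' = 0)
    (hvv' : QuadraticMap.polar (⇑Q) v v' = 1) (N : Subgroup ↥(T Q)) [N.Normal]
    (w : ↥(perp Q v v')) (hw0 : w ≠ 0) (hw : Qp Q v v' w = 0)
    (hmem : (⟨E Q v (w : V), rad_mem Q hQ hdim hv w⟩ : ↥(T Q)) ∈ N) : N = ⊤ := by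
  have : IsSimpleGroup (↥(T Q) ⧸ Subgroup.center ↥(T Q)) := isSimpleGroup_T Q hQ hdim
  have hperf : commutator ↥(T Q) = ⊤ := commutator_T_eq_top Q hQ hdim
  apply Cfsg.Agent.Lib.Helper69_OP_NONTRIV.normal_eq_top_of_not_le_center hperf
  intro hle
  exact Cfsg.Agent.Lib.Helper69_OP_NONTRIV.rad_not_mem_center Q hQ hdim hv hv' hvv' w hw0 hw
    (hle hmem)

/-- An invariant subspace on which the radical acts trivially consists of fixed vectors. -/
theorem fixed_of_rad_trivial (Q : QuadraticForm F V) (hQ : (QuadraticMap.polarBilin Q).Nondegenerate)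
    (hdim : 5 ≤ finrank F V) {v v' : V} (hv : Q v = 0) (hv' : Q v' = 0)
    (hvv' : QuadraticMap.polar (⇑Q) v v' = 1)
    (ρ : Representation ℂ ↥(T Q) X) (A : Submodule ℂ X)
    (hinv : ∀ (g : ↥(T Q)) (a : X), a ∈ A → ρ g a ∈ A)
    (w : ↥(perp Q v v')) (hw0 : w ≠ 0) (hw : Qp Q v v' w = 0)
    (htriv : ∀ a ∈ A, repE Q ρ (E Q v (w : V)) a = a) :
    ∀ (g : ↥(T Q)), ∀ a ∈ A, ρ g a = a := by
  let N : Subgroup ↥(T Q) :=
    { carrier := {g | ∀ a ∈ A, ρ g a = a}
      mul_mem' := by
        intro g h hg hh a ha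
        rw [map_mul, Module.End.mul_apply, hh a ha, hg a ha]
      one_mem' := by
        intro a _
        rw [map_one, Module.End.one_apply]
      inv_mem' := by
        intro g hg a ha
        have h1 : ρ g⁻¹ (ρ g a) = a := by
          rw [← Module.End.mul_apply, ← map_mul, inv_mul_cancel, map_one, Module.End.one_apply]
        rw [hg a ha] at h1
        exact h1 }
  have hN : N.Normal := by
    constructor
    intro n hn g a ha
    show ρ (g * n * g⁻¹) a = a
    rw [map_mul, map_mul, Module.End.mul_apply, Module.End.mul_apply,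
      hn _ (hinv g⁻¹ a ha), ← Module.End.mul_apply, ← map_mul, mul_inv_cancel, map_one,
      Module.End.one_apply]
  have hmem : (⟨E Q v (w : V), rad_mem Q hQ hdim hv w⟩ : ↥(T Q)) ∈ N := by
    intro a ha
    have := htriv a ha
    rw [repE_of_mem Q ρ (rad_mem Q hQ hdim hv w)] at this
    exact this
  have htop := normal_eq_top Q hQ hdim hv hv' hvv' N w hw0 hw hmem
  intro g a ha
  have hg : g ∈ N := by rw [htop]; exact Subgroup.mem_top g
  exact hg a ha

/-- An invariant subspace modulo which the radical acts trivially: the whole group acts trivially modulo it. -/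
theorem quot_fixed_of_rad_trivial (Q : QuadraticForm F V)
    (hQ : (QuadraticMap.polarBilin Q).Nondegenerate)
    (hdim : 5 ≤ finrank F V) {v v' : V} (hv : Q v = 0) (hv' : Q v' = 0)
    (hvv' : QuadraticMap.polar (⇑Q) v v' = 1)
    (ρ : Representation ℂ ↥(T Q) X) (A : Submodule ℂ X)
    (hinv : ∀ (g : ↥(T Q)) (a : X), a ∈ A → ρ g a ∈ A)
    (w : ↥(perp Q v v')) (hw0 : w ≠ 0) (hw : Qp Q v v' w = 0)
    (htriv : ∀ x : X, repE Q ρ (E Q v (w : V)) x - x ∈ A) :
    ∀ (g : ↥(T Q)) (x : X), ρ g x - x ∈ A := by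
  let N : Subgroup ↥(T Q) :=
    { carrier := {g | ∀ x : X, ρ g x - x ∈ A}
      mul_mem' := by
        intro g h hg hh x
        rw [map_mul, Module.End.mul_apply]
        have h1 := hg (ρ h x)
        have h2 := hh x
        have : ρ g (ρ h x) - x = (ρ g (ρ h x) - ρ h x) + (ρ h x - x) := by abel
        rw [this]
        exact A.add_mem h1 h2
      one_mem' := by
        intro x
        rw [map_one, Module.End.one_apply, sub_self]
        exact A.zero_mem
      inv_mem' := by
        intro g hg x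
        have h1 := hg (ρ g⁻¹ x)
        have h2 : ρ g (ρ g⁻¹ x) = x := by
          rw [← Module.End.mul_apply, ← map_mul, mul_inv_cancel, map_one, Module.End.one_apply]
        rw [h2] at h1
        have : ρ g⁻¹ x - x = -(x - ρ g⁻¹ x) := by abel
        rw [this]
        exact A.neg_mem h1 }
  have hN : N.Normal := by
    constructor
    intro n hn g x
    show ρ (g * n * g⁻¹) x - x ∈ A
    have h1 := hinv g _ (hn (ρ g⁻¹ x))
    rw [map_sub] at h1
    have h2 : ρ g (ρ g⁻¹ x) = x := by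
      rw [← Module.End.mul_apply, ← map_mul, mul_inv_cancel, map_one, Module.End.one_apply]
    rw [h2] at h1
    rw [map_mul, map_mul, Module.End.mul_apply, Module.End.mul_apply]
    exact h1
  have hmem : (⟨E Q v (w : V), rad_mem Q hQ hdim hv w⟩ : ↥(T Q)) ∈ N := by
    intro x
    have := htriv x
    rw [repE_of_mem Q ρ (rad_mem Q hQ hdim hv w)] at this
    exact this
  have htop := normal_eq_top Q hQ hdim hv hv' hvv' N w hw0 hw hmem
  intro g x
  have hg : g ∈ N := by rw [htop]; exact Subgroup.mem_top g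
  exact hg x

/-- If the whole group acts trivially modulo `A` and there are no non-zero fixed vectors, then `A = ⊤`. -/
theorem eq_top_of_quot_fixed {G : Type*} [Group G] [Fintype G] (ρ : Representation ℂ G X)
    (A : Submodule ℂ X) (hquot : ∀ (g : G) (x : X), ρ g x - x ∈ A)
    (hfix : ∀ x : X, (∀ g : G, ρ g x = x) → x = 0) : A = ⊤ := by
  rw [eq_top_iff]
  intro x _
  set s : X := ∑ g : G, ρ g x with hs
  have hsfix : ∀ h : G, ρ h s = s := by
    intro h
    rw [hs, map_sum, ← Equiv.sum_comp (Equiv.mulLeft h) (fun g => ρ g x)]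
    refine Finset.sum_congr rfl (fun g _ => ?_)
    rw [Equiv.coe_mulLeft, map_mul, Module.End.mul_apply]
  have hs0 : s = 0 := hfix s hsfix
  have h1 : ∑ g : G, (ρ g x - x) ∈ A := A.sum_mem (fun g _ => hquot g x)
  rw [Finset.sum_sub_distrib, ← hs, hs0, zero_sub, Finset.sum_const, Finset.card_univ] at h1
  have hcard : (Fintype.card G : ℂ) ≠ 0 := by
    have : Fintype.card G ≠ 0 := Fintype.card_ne_zero
    exact_mod_cast this
  have h2 : (Fintype.card G : ℂ) • x ∈ A := by
    have := A.neg_mem h1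
    rw [neg_neg] at this
    rw [← Nat.cast_smul_eq_nsmul ℂ] at this
    exact this
  have := A.smul_mem (Fintype.card G : ℂ)⁻¹ h2
  rw [smul_smul, inv_mul_cancel₀ hcard, one_smul] at this
  exact this

/-! ## Transitivity: the weight spaces inside an invariant subspace -/

/-- A Siegel element of `W` carries the property `wsp x ≤ A` from `x` to its image. -/
theorem wsp_le_siegel (Q : QuadraticForm F V) (hQ : (QuadraticMap.polarBilin Q).Nondegenerate)
    (hdim : 5 ≤ finrank F V) {v v' : V} (hv : Q v = 0)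
    (ρ : Representation ℂ ↥(T Q) X) (ψ : AddChar F ℂ) (A : Submodule ℂ X)
    (hinv : ∀ (g : ↥(T Q)) (a : X), a ∈ A → ρ g a ∈ A)
    (a z : ↥(perp Q v v')) (ha : Qp Q v v' a = 0)
    (haz : QuadraticMap.polar (⇑(Qp Q v v')) a z = 0) (x : ↥(perp Q v v'))
    (hx : wsp Q ρ ψ v v' x ≤ A) : wsp Q ρ ψ v v' (E (Qp Q v v') a z x) ≤ A := by
  have ha' : Q (a : V) = 0 := ha
  have haz' : QuadraticMap.polar (⇑Q) (a : V) (z : V) = 0 := by
    rw [← polar_comp_subtype]
    exact haz
  have hg : E Q (a : V) (z : V) ∈ T Q := E_mem_T Q hQ hdim ha' haz'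
  have hgi : (E Q (a : V) (z : V))⁻¹ ∈ T Q := Subgroup.inv_mem _ hg
  have hgv : E Q (a : V) (z : V) v = (1 : F) • v := by
    rw [E_apply Q ha' haz', polar_v_perp Q a, polar_v_perp Q z]
    simp
  have hφ : ∀ w : ↥(perp Q v v'), ((E (Qp Q v v') a z w : ↥(perp Q v v')) : V) =
      E Q (a : V) (z : V) (w : V) :=
    fun w => Cfsg.Agent.Lib.Helper52_MIO_RESTR.restr Q v v' a z w ha' haz'
  obtain ⟨hgv', hφ'⟩ := inv_data Q (E Q (a : V) (z : V)) 1 one_ne_zero hgv (E (Qp Q v v') a z) hφ
  intro y hy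
  have h1 := wsp_map Q hQ hdim hv ρ ψ (E Q (a : V) (z : V))⁻¹ hgi 1⁻¹ (inv_ne_zero one_ne_zero)
    hgv' (E (Qp Q v v') a z).symm hφ' (E (Qp Q v v') a z x) y hy
  rw [LinearEquiv.symm_apply_apply, inv_one, inv_one, one_smul] at h1
  have h2 := hinv ⟨E Q (a : V) (z : V), hg⟩ _ (hx h1)
  rw [← repE_of_mem Q ρ hg, ← Module.End.mul_apply, ← repE_mul Q ρ hg hgi, mul_inv_cancel,
    repE_one, Module.End.one_apply] at h2
  exact h2

/-- Whether the weight space of `x` lies in an invariant subspace depends only on `Qp x` (`x ≠ 0`). -/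
theorem wsp_le_const (Q : QuadraticForm F V) (hQ : (QuadraticMap.polarBilin Q).Nondegenerate)
    (hdim : 7 ≤ finrank F V) {v v' : V} (hv : Q v = 0) (hv' : Q v' = 0)
    (hvv' : QuadraticMap.polar (⇑Q) v v' = 1)
    (ρ : Representation ℂ ↥(T Q) X) (ψ : AddChar F ℂ) (A : Submodule ℂ X)
    (hinv : ∀ (g : ↥(T Q)) (a : X), a ∈ A → ρ g a ∈ A)
    (x y : ↥(perp Q v v')) (hx : x ≠ 0) (hy : y ≠ 0) (hxy : Qp Q v v' x = Qp Q v v' y)
    (h : wsp Q ρ ψ v v' x ≤ A) : wsp Q ρ ψ v v' y ≤ A := by
  have hdim5 : 5 ≤ finrank F V := by omega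
  have hdimW : 5 ≤ finrank F ↥(perp Q v v') := by
    have := finrank_perp hv hv' hvv'
    omega
  have key := Cfsg.Agent.Lib.Helper17_MIO_TR.tr_const (Qp Q v v')
    (nondegenerate_perp hQ hv hv' hvv') hdimW (fun x => wsp Q ρ ψ v v' x ≤ A)
    (fun a z ha haz x => by
      apply propext
      constructor
      · intro h1
        have haz2 : QuadraticMap.polar (⇑(Qp Q v v')) a (-z) = 0 := by
          rw [QuadraticMap.polar_neg_right, haz, neg_zero]
        have h2 := wsp_le_siegel Q hQ hdim5 hv ρ ψ A hinv a (-z) ha haz2 _ h1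
        rw [← E_inv (Qp Q v v') ha haz] at h2
        have h3 : (E (Qp Q v v') a z)⁻¹ (E (Qp Q v v') a z x) = x :=
          (E (Qp Q v v') a z).symm_apply_apply x
        rw [h3] at h2
        exact h2
      · intro h1
        exact wsp_le_siegel Q hQ hdim5 hv ρ ψ A hinv a z ha haz x h1) hx hy hxy
  exact key.mp h

/-! ## OO2-IRR -/

variable [FiniteDimensional ℂ X]

/-- A submodule of a line which is not `⊥` contains the line. -/
theorem line_le_of_inf_ne_bot (L A : Submodule ℂ X) (hL : finrank ℂ L = 1) (h : A ⊓ L ≠ ⊥) :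
    L ≤ A := by
  obtain ⟨a, ha, ha0⟩ := (Submodule.ne_bot_iff _).mp h
  have hspan : Submodule.span ℂ {a} = L := by
    apply Submodule.eq_of_le_of_finrank_eq
    · rw [Submodule.span_singleton_le_iff_mem]
      exact ha.2
    · rw [finrank_span_singleton ha0, hL]
  rw [← hspan, Submodule.span_singleton_le_iff_mem]
  exact ha.1

theorem irr_of_wdata (Q : QuadraticForm F V) (n : ℕ) (hn : 3 ≤ n) (hq : 4 ≤ Fintype.card F)
    (hP : IsOddT Q n) {v v' : V} (hv : Q v = 0) (hv' : Q v' = 0)
    (hvv' : QuadraticMap.polar (⇑Q) v v' = 1) [DecidableEq ↥(perp Q v v')]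
    (ρ : Representation ℂ ↥(T Q) X) (ψ : AddChar F ℂ) (hψ : ψ ≠ 1)
    (hint : DirectSum.IsInternal (fun u : ↥(perp Q v v') => wsp Q ρ ψ v v' u))
    (f : ℕ) (hW : WData Q ρ ψ v v' 1 f)
    (hfix : ∀ x : X, (∀ g : ↥(T Q), ρ g x = x) → x = 0) : ρ.IsIrreducible := by
  classical
  have hQ := hP.nondeg
  have hdimV : 7 ≤ finrank F V := by rw [hP.dim]; omega
  have hdim5 : 5 ≤ finrank F V := by omega
  have hdW : 3 ≤ finrank F ↥(perp Q v v') := by
    have := finrank_perp hv hv' hvv'
    omega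
  have hfinV : Finite V := Module.finite_of_finite F
  have hfinG : Finite (V ≃ₗ[F] V) :=
    Finite.of_injective (fun g => (g : V → V)) DFunLike.coe_injective
  have hfinT : Finite ↥(T Q) := inferInstance
  have := Fintype.ofFinite ↥(T Q)
  have hfinW : Finite ↥(perp Q v v') := Module.finite_of_finite F
  -- a non-zero singular vector of `W`
  obtain ⟨w₀, hw₀0, hw₀⟩ := exists_singular (Qp Q v v') hdW
  refine { exists_pair_ne := ⟨⊥, ⊤, ?_⟩, eq_bot_or_eq_top := ?_ }
  · -- `X ≠ 0`
    intro hbt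
    have h1 : (⊥ : Submodule ℂ X) = ⊤ := congrArg Subrepresentation.toSubmodule hbt
    have h2 : finrank ℂ X = 0 := by
      rw [← finrank_top ℂ X, ← h1, finrank_bot]
    have h3 := hW.hD
    rw [h2, one_mul] at h3
    have hpos : 0 < Nat.card {u : ↥(perp Q v v') // u ≠ 0 ∧ Qp Q v v' u = 0} := by
      have : Nonempty {u : ↥(perp Q v v') // u ≠ 0 ∧ Qp Q v v' u = 0} := ⟨⟨w₀, hw₀0, hw₀⟩⟩
      exact Nat.card_pos
    omega
  · intro τ
    set A : Submodule ℂ X := τ.toSubmodule with hAdef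
    have hinv : ∀ (g : ↥(T Q)) (a : X), a ∈ A → ρ g a ∈ A :=
      fun g a ha => τ.apply_mem_toSubmodule g ha
    have hrad : ∀ (w : ↥(perp Q v v')) (a : X), a ∈ A → repE Q ρ (E Q v (w : V)) a ∈ A := by
      intro w a ha
      rw [repE_of_mem Q ρ (rad_mem Q hQ hdim5 hv w)]
      exact hinv _ a ha
    by_cases hcase : wsp Q ρ ψ v v' w₀ ≤ A
    · -- all singular weight spaces lie in `A`
      right
      apply Subrepresentation.toSubmodule_injective
      show A = ⊤
      have hall : ∀ u : ↥(perp Q v v'), u ≠ 0 → Qp Q v v' u = 0 → wsp Q ρ ψ v v' u ≤ A :=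
        fun u hu0 hu => wsp_le_const Q hQ hdimV hv hv' hvv' ρ ψ A hinv w₀ u hw₀0 hu0
          (by rw [hw₀, hu]) hcase
      have htriv : ∀ (w : ↥(perp Q v v')) (x : X), repE Q ρ (E Q v (w : V)) x - x ∈ A := by
        intro w x
        have hx : x ∈ ⨆ u : ↥(perp Q v v'), wsp Q ρ ψ v v' u := by
          rw [hint.submodule_iSup_eq_top]
          trivial
        refine Submodule.iSup_induction (fun u : ↥(perp Q v v') => wsp Q ρ ψ v v' u)
          (motive := fun x => repE Q ρ (E Q v (w : V)) x - x ∈ A) hx ?_ ?_ ?_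
        · intro u y hy
          rw [hy w]
          by_cases hu0 : u = 0
          · subst hu0
            have h0 : QuadraticMap.polar (⇑Q) (((0 : ↥(perp Q v v')) : V)) (w : V) = 0 := by
              simp [QuadraticMap.polar]
            rw [h0, AddChar.map_zero_eq_one, one_smul, sub_self]
            exact A.zero_mem
          · by_cases hus : Qp Q v v' u = 0
            · have hyA : y ∈ A := hall u hu0 hus hy
              exact A.sub_mem (A.smul_mem _ hyA) hyA
            · have hy0 : y = 0 := by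
                have := hW.hns u hus
                rw [this] at hy
                exact (Submodule.mem_bot ℂ).mp hy
              rw [hy0, smul_zero, sub_self]
              exact A.zero_mem
        · rw [map_zero, sub_self]
          exact A.zero_mem
        · intro y z hy hz
          have : repE Q ρ (E Q v (w : V)) (y + z) - (y + z) =
              (repE Q ρ (E Q v (w : V)) y - y) + (repE Q ρ (E Q v (w : V)) z - z) := by
            rw [map_add]; abel
          rw [this]
          exact A.add_mem hy hz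
      have hquot := quot_fixed_of_rad_trivial Q hQ hdim5 hv hv' hvv' ρ A hinv w₀ hw₀0 hw₀
        (htriv w₀)
      exact eq_top_of_quot_fixed ρ A hquot hfix
    · -- no singular weight space meets `A`
      left
      apply Subrepresentation.toSubmodule_injective
      show A = ⊥
      have hmeet : ∀ u : ↥(perp Q v v'), u ≠ 0 → A ⊓ wsp Q ρ ψ v v' u = ⊥ := by
        intro u hu0
        by_cases hus : Qp Q v v' u = 0
        · by_contra hne
          have hle := line_le_of_inf_ne_bot (wsp Q ρ ψ v v' u) A (hW.he u hu0 hus) hne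
          exact hcase (wsp_le_const Q hQ hdimV hv hv' hvv' ρ ψ A hinv u w₀ hu0 hw₀0
            (by rw [hw₀, hus]) hle)
        · rw [hW.hns u hus, inf_bot_eq]
      have hle0 := le_wsp_zero Q hQ hdim5 hv hv' hvv' ρ ψ hψ A hrad hmeet
      have htriv : ∀ a ∈ A, repE Q ρ (E Q v (w₀ : V)) a = a := by
        intro a ha
        have h1 := hle0 ha w₀
        have h0 : QuadraticMap.polar (⇑Q) (((0 : ↥(perp Q v v')) : V)) (w₀ : V) = 0 := by
          simp [QuadraticMap.polar]
        rw [h0, AddChar.map_zero_eq_one, one_smul] at h1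
        exact h1
      have hfixed := fixed_of_rad_trivial Q hQ hdim5 hv hv' hvv' ρ A hinv w₀ hw₀0 hw₀ htriv
      rw [eq_bot_iff]
      intro a ha
      rw [Submodule.mem_bot]
      exact hfix a (fun g => hfixed g a ha)

end Cfsg.Agent.Lib.Helper77_OO2_IRR
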