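/-
helper79 — package OO2-WDOF of helper87's OO2 market (S2344), wave 2, part C:
weight data from lines at the singular labels and no non-singular labels.
-/
import Mathlib
import Cfsg.Agent.Lib.Helper95_OPDefs
import Cfsg.Agent.Lib.Helper95_OPBasic
import Cfsg.Agent.Lib.Helper48_OODefs
import Cfsg.Agent.Lib.Helper87_OO2Defs
import Cfsg.Agent.Lib.Helper87_OO2Defs2

set_option autoImplicit false
set_option linter.unusedVariables false

namespace Cfsg.Agent.Lib.Helper79_OO2_WDOF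

open Module Cfsg.Agent.Lib.Helper94_OrthSmall Cfsg.Agent.Lib.Helper44_QuadClass
  Cfsg.Agent.Lib.Helper14_OmegaSimple Cfsg.Agent.Lib.Helper38_MIODefs
  Cfsg.Agent.Lib.Helper95_OPDefs Cfsg.Agent.Lib.Helper95_OPBasic Cfsg.Agent.Lib.Helper48_OODefs
  Cfsg.Agent.Lib.Helper87_OO2Defs

variable {F V : Type*} [Field F] [Fintype F] [AddCommGroup V] [Module F V] [FiniteDimensional F V]
  {X : Type*} [AddCommGroup X] [Module ℂ X] [FiniteDimensional ℂ X]

/-- OO2-WDOF -/
theorem wdata_of (Q : QuadraticForm F V) {v v' : V} [DecidableEq ↥(perp Q v v')]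
    (ρ : Representation ℂ ↥(T Q) X) (ψ : AddChar F ℂ)
    (hint : DirectSum.IsInternal (fun u : ↥(perp Q v v') => wsp Q ρ ψ v v' u))
    (he : ∀ u : ↥(perp Q v v'), u ≠ 0 → Qp Q v v' u = 0 → finrank ℂ (wsp Q ρ ψ v v' u) = 1)
    (hns : ∀ u : ↥(perp Q v v'), Qp Q v v' u ≠ 0 → wsp Q ρ ψ v v' u = ⊥) :
    WData Q ρ ψ v v' 1 (finrank ℂ (wsp Q ρ ψ v v' 0)) := by
  classical
  have hfinW : Finite ↥(perp Q v v') := Module.finite_of_finite F
  let _ : Fintype ↥(perp Q v v') := Fintype.ofFinite _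
  have hsum : finrank ℂ X = ∑ u : ↥(perp Q v v'), finrank ℂ (wsp Q ρ ψ v v' u) := by
    rw [← Module.finrank_directSum]
    exact (LinearEquiv.ofBijective (DirectSum.coeLinearMap _) hint).finrank_eq.symm
  refine ⟨he, hns, rfl, ?_⟩
  rw [hsum, ← Finset.add_sum_erase Finset.univ _ (Finset.mem_univ (0 : ↥(perp Q v v'))), one_mul]
  congr 1
  have h1 : ∀ u ∈ Finset.univ.erase (0 : ↥(perp Q v v')),
      finrank ℂ (wsp Q ρ ψ v v' u) = if Qp Q v v' u = 0 then 1 else 0 := by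
    intro u hu
    have hu0 : u ≠ 0 := Finset.ne_of_mem_erase hu
    split_ifs with hq
    · exact he u hu0 hq
    · rw [hns u hq, finrank_bot]
  rw [Finset.sum_congr rfl h1, Finset.sum_boole, Nat.card_eq_fintype_card, Fintype.card_subtype]
  simp only [Nat.cast_id]
  congr 1
  ext u
  rw [Finset.mem_filter, Finset.mem_filter, Finset.mem_erase]
  constructor
  · rintro ⟨⟨h0, _⟩, hq⟩
    exact ⟨Finset.mem_univ _, h0, hq⟩
  · rintro ⟨_, h0, hq⟩
    exact ⟨⟨h0, Finset.mem_univ _⟩, hq⟩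

end Cfsg.Agent.Lib.Helper79_OO2_WDOF
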