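import Mathlib
import Cfsg.Agent.Lib.Helper48_OOThin
import Cfsg.Agent.Lib.Helper48_OO2_IHGeo
import Cfsg.Agent.Lib.Helper41_OO2_N1MAP
import Cfsg.Agent.Lib.Helper43_OO2_XTRIV
import Cfsg.Agent.Lib.Helper79_OO2_WDOF
import Cfsg.Agent.Lib.Helper52_OO2_AZ
import Cfsg.Agent.Lib.Helper77_OO2_IRR

set_option autoImplicit false

/-!
S2344 (helper48, package OO2-IHAPP): application of the induction hypothesis `Claim F (n-1)` to the
augmentation `N = [L', X^R]` of the Levi factor on `X^R`.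
-/

namespace Cfsg.Agent.Lib.Helper48_OO2_IHAPP

open Module Cfsg.Agent.Lib.Helper94_OrthSmall Cfsg.Agent.Lib.Helper44_QuadClass
  Cfsg.Agent.Lib.Helper14_OmegaSimple Cfsg.Agent.Lib.Helper38_MIODefs
  Cfsg.Agent.Lib.Helper95_OPDefs Cfsg.Agent.Lib.Helper95_OPBasic Cfsg.Agent.Lib.Helper48_OODefs
  Cfsg.Agent.Lib.Helper87_OO2Defs Cfsg.Agent.Lib.Helper48_OO2_Glue Cfsg.Agent.Lib.Helper48_OO2_IHAbs
  Cfsg.Agent.Lib.Helper48_OO2_IHGeo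

set_option linter.unusedSectionVars false
set_option linter.unusedVariables false

section

variable {F V : Type*} [Field F] [Fintype F] [AddCommGroup V] [Module F V] [FiniteDimensional F V]
  {X : Type*} [AddCommGroup X] [Module ℂ X] [FiniteDimensional ℂ X]

theorem fixE_anti (Q : QuadraticForm F V) (ρ : Representation ℂ ↥(T Q) X) (u : V)
    {S S' : Submodule F V} (hS : S ≤ S') : fixE Q ρ u S' ≤ fixE Q ρ u S :=
  fun x hx w hw => hx w (hS hw)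

theorem fixL_anti (Q : QuadraticForm F V) (ρ : Representation ℂ ↥(T Q) X)
    {S S' : Submodule F V} (hS : S ≤ S') : fixL Q ρ S' ≤ fixL Q ρ S :=
  fun x hx a ha b hb h1 h2 h3 => hx a (hS ha) b (hS hb) h1 h2 h3

theorem W1_sup_le (Q : QuadraticForm F V) {v v' w0 w0' : V} (h : HQuad Q v v' w0 w0') :
    W1 Q v v' w0 w0' ⊔ Submodule.span F {w0} ≤ perp Q v v' := by
  apply sup_le
  · exact inf_le_left
  · rw [Submodule.span_le, Set.singleton_subset_iff]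
    exact h.mem_perp.1

/-- the level-2 weights of `σ`: singular ones -/
theorem level2_sing (Q : QuadraticForm F V) (n : ℕ) (hn : 3 ≤ n) (hq : 4 ≤ Fintype.card F)
    (hP : IsOddT Q n) {v v' w0 w0' : V} (h : HQuad Q v v' w0 w0') [DecidableEq ↥(perp Q v v')]
    (ρ : Representation ℂ ↥(T Q) X) (ψ : AddChar F ℂ) (hψ : ψ ≠ 1)
    (hint : DirectSum.IsInternal (fun u : ↥(perp Q v v') => wsp Q ρ ψ v v' u))
    (f : ℕ) (hW : WData Q ρ ψ v v' 1 f) (z : V) (hz : z ∈ W1 Q v v' w0 w0') (hz0 : z ≠ 0)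
    (hQz : Q z = 0) : finrank ℂ ↥(wsp2 Q ρ ψ v v' w0 w0' z) = 1 := by
  have hQ := hP.nondeg
  have hdimV : finrank F V = 2 * n + 1 := hP.dim
  have hdim5 : 5 ≤ finrank F V := by omega
  have hA := Cfsg.Agent.Lib.Helper52_OO2_AZ.finrank_Asp Q n hn hq hP h ρ ψ hψ hint f hW z hz hz0 hQz
  have hB := Cfsg.Agent.Lib.Helper41_OO2_N1MAP.finrank_Bsp_eq Q hQ hdim5 h ρ ψ z hz
  have hBle := Cfsg.Agent.Lib.Helper43_OO2_XTRIV.Bsp_le_X0 Q hQ hdim5 hq h ρ ψ z hz (by omega)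
  have heq : wsp2 Q ρ ψ v v' w0 w0' z = Bsp Q ρ ψ v v' w0 w0' z := by
    apply le_antisymm
    · exact inf_le_inf (fixE_anti Q ρ v (W1_sup_le Q h)) le_rfl
    · exact le_inf hBle inf_le_right
  rw [heq, hB, hA]

/-- the level-2 weights of `σ`: non-singular ones -/
theorem level2_nonsing (Q : QuadraticForm F V) (n : ℕ) (hn : 3 ≤ n) (hq : 4 ≤ Fintype.card F)
    (hP : IsOddT Q n) {v v' w0 w0' : V} (h : HQuad Q v v' w0 w0') [DecidableEq ↥(perp Q v v')]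
    (ρ : Representation ℂ ↥(T Q) X) (ψ : AddChar F ℂ) (hψ : ψ ≠ 1)
    (hint : DirectSum.IsInternal (fun u : ↥(perp Q v v') => wsp Q ρ ψ v v' u))
    (f : ℕ) (hW : WData Q ρ ψ v v' 1 f) (z : V) (hz : z ∈ W1 Q v v' w0 w0')
    (hQz : Q z ≠ 0) : wsp2 Q ρ ψ v v' w0 w0' z = ⊥ := by
  have hQ := hP.nondeg
  have hdimV : finrank F V = 2 * n + 1 := hP.dim
  have hdim5 : 5 ≤ finrank F V := by omega
  have hA := Cfsg.Agent.Lib.Helper52_OO2_AZ.Asp_eq_bot Q n hn hq hP h ρ ψ hψ hint f hW z hz hQz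
  have hB := Cfsg.Agent.Lib.Helper41_OO2_N1MAP.finrank_Bsp_eq Q hQ hdim5 h ρ ψ z hz
  rw [hA, finrank_bot] at hB
  have hB' : Bsp Q ρ ψ v v' w0 w0' z = ⊥ := Submodule.finrank_eq_zero.mp hB
  rw [eq_bot_iff, ← hB']
  exact inf_le_inf (fixE_anti Q ρ v (W1_sup_le Q h)) le_rfl

end

section main

universe u

variable {F : Type*} [Field F] [Fintype F] {V : Type u} [AddCommGroup V] [Module F V]
  [FiniteDimensional F V] {X : Type} [AddCommGroup X] [Module ℂ X] [FiniteDimensional ℂ X]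

/-- weight vectors of `σ` of non-zero level-2 weight lie in the augmentation -/
theorem wsp_le_aug {W M : Type*} [AddCommGroup W] [Module F W] [FiniteDimensional F W]
    [AddCommGroup M] [Module ℂ M]
    (Q' : QuadraticForm F W) (hQ' : (QuadraticMap.polarBilin Q').Nondegenerate)
    (hdim' : 5 ≤ finrank F W) {a a' : W} (ha : Q' a = 0)
    (hQ'' : (QuadraticMap.polarBilin (Qp Q' a a')).Nondegenerate)
    (τ : Representation ℂ ↥(T Q') M) (ψ : AddChar F ℂ) (hψ : ψ ≠ 1)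
    (z : ↥(perp Q' a a')) (hz : z ≠ 0) : wsp Q' τ ψ a a' z ≤ aug τ := by
  intro x hx
  obtain ⟨w, hw⟩ : ∃ w : ↥(perp Q' a a'), QuadraticMap.polar (⇑(Qp Q' a a')) z w ≠ 0 := by
    by_contra hcon
    push Not at hcon
    exact hz (hQ''.1 z hcon)
  obtain ⟨t, ht⟩ := (AddChar.ne_one_iff).mp hψ
  set c : F := t / QuadraticMap.polar (⇑(Qp Q' a a')) z w with hc
  have hmem : E Q' a ((c • w : ↥(perp Q' a a')) : W) ∈ T Q' := rad_mem Q' hQ' hdim' ha (c • w)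
  have h1 := (mem_wsp Q' τ ψ a a' z x).1 hx (c • w)
  rw [repE_of_mem _ _ hmem] at h1
  refine mem_aug_of_eigen τ ⟨_, hmem⟩ _ ?_ x h1
  have : QuadraticMap.polar (⇑Q') (z : W) ((c • w : ↥(perp Q' a a')) : W) = t := by
    rw [← polar_comp_subtype, QuadraticMap.polar_smul_right, hc, smul_eq_mul, div_mul_cancel₀ _ hw]
  rw [this]
  exact ht

/-- **OO2-IHAPP.** -/
theorem ih_apply (Q : QuadraticForm F V) (n : ℕ) (hn : 4 ≤ n) (hq : 4 ≤ Fintype.card F)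
    (hP : IsOddT Q n) (IH : Claim.{u, _} F (n - 1)) {v v' w0 w0' w1 w1' : V}
    (h : HQuad Q v v' w0 w0') (h1 : HQuad Q v v' w1 w1') (h2 : HQuad Q w0 w0' w1 w1')
    [DecidableEq ↥(perp Q v v')]
    (ρ : Representation ℂ ↥(T Q) X) (ψ : AddChar F ℂ) (hψ : ψ ≠ 1)
    (hint : DirectSum.IsInternal (fun u : ↥(perp Q v v') => wsp Q ρ ψ v v' u))
    (f : ℕ) (hW : WData Q ρ ψ v v' 1 f) :
    finrank ℂ ↥(X0sp Q ρ v v') = finrank ℂ ↥(Ysp Q ρ v v') + bodd (Fintype.card F) (n - 1) ∧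
    finrank ℂ ↥(Ypsp Q ρ v v' w0 w0') = 1 ∧
    (∀ a : F, a ≠ 0 → ∀ y ∈ Ypsp Q ρ v v' w0 w0',
      repE Q ρ (hh Q w0 w0' w1 w1' a) y = thetaC a • y) ∧
    Y2sp Q ρ v v' w0 w0' ≤ Ysp Q ρ v v' ⊔ Ypsp Q ρ v v' w0 w0' ∧
    Ysp Q ρ v v' ⊓ Ypsp Q ρ v v' w0 w0' = ⊥ := by
  classical
  have hQ := hP.nondeg
  have hdimV : finrank F V = 2 * n + 1 := hP.dim
  have hdim5 : 5 ≤ finrank F V := by omega
  have hv := h.pa.qa
  have hv' := h.pa.qa'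
  have hvv' := h.pa.aa'
  have hPW : IsOddT (Qp Q v v') (n - 1) := isOddT_perp Q n (by omega) hP hv hv' hvv'
  have hQW := hPW.nondeg
  have hdimW : finrank F ↥(perp Q v v') = 2 * (n - 1) + 1 := hPW.dim
  have hdimW5 : 5 ≤ finrank F ↥(perp Q v v') := by omega
  obtain ⟨L⟩ := Cfsg.Agent.Lib.Helper73_OP_EXT.exists_leviHom Q hQ hv hv' hvv'
  have hinv : ∀ (g : ↥(T (Qp Q v v'))) (x : X), x ∈ wsp Q ρ ψ v v' 0 →
      ρ (L.ι g) x ∈ wsp Q ρ ψ v v' 0 :=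
    fun g x hx => Cfsg.Agent.Lib.Helper48_OOThin.wsp_zero_inv Q hQ hdim5 hv ρ ψ L g x hx
  have hfinW : Finite ↥(perp Q v v') := Module.finite_of_finite F
  have hfinG : Finite (↥(perp Q v v') ≃ₗ[F] ↥(perp Q v v')) :=
    Finite.of_injective (fun g => (g : ↥(perp Q v v') → ↥(perp Q v v')))
      (fun g h hgh => LinearEquiv.ext (congrFun hgh))
  have hfinT : Finite ↥(T (Qp Q v v')) := inferInstance
  obtain ⟨σ, hσ⟩ : ∃ σ, σ = sigmaRep Q ρ ψ v v' L hinv := ⟨_, rfl⟩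
  have hpW := hpair_W Q h
  have hqW := hquad_W Q h h1 h2
  have hPW2 : IsOddT (Qp (Qp Q v v') (⟨w0, h.mem_perp.1⟩ : ↥(perp Q v v')) ⟨w0', h.mem_perp.2⟩)
      (n - 1 - 1) := isOddT_perp (Qp Q v v') (n - 1) (by omega) hPW hpW.qa hpW.qa' hpW.aa'
  -- level-2 weights of σ
  have he2 : ∀ z : ↥(perp (Qp Q v v') (⟨w0, h.mem_perp.1⟩ : ↥(perp Q v v')) ⟨w0', h.mem_perp.2⟩),
      z ≠ 0 → Qp (Qp Q v v') _ _ z = 0 →
      finrank ℂ ↥(wsp (Qp Q v v') σ ψ ⟨w0, h.mem_perp.1⟩ ⟨w0', h.mem_perp.2⟩ z) = 1 := by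
    intro z hz0 hQz
    rw [hσ, finrank_wsp_sigma Q hQ h hQW hdimW5 ρ ψ L hinv z]
    apply level2_sing Q n (by omega) hq hP h ρ ψ hψ hint f hW _ (coe_mem_W1 Q h z) _ hQz
    intro h0
    apply hz0
    apply Subtype.ext
    apply Subtype.ext
    exact h0
  have hns2 : ∀ z : ↥(perp (Qp Q v v') (⟨w0, h.mem_perp.1⟩ : ↥(perp Q v v')) ⟨w0', h.mem_perp.2⟩),
      Qp (Qp Q v v') _ _ z ≠ 0 →
      wsp (Qp Q v v') σ ψ ⟨w0, h.mem_perp.1⟩ ⟨w0', h.mem_perp.2⟩ z = ⊥ := by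
    intro z hQz
    apply Submodule.finrank_eq_zero.mp
    rw [hσ, finrank_wsp_sigma Q hQ h hQW hdimW5 ρ ψ L hinv z,
      level2_nonsing Q n (by omega) hq hP h ρ ψ hψ hint f hW _ (coe_mem_W1 Q h z) hQz, finrank_bot]
  -- the augmentation and its sub-representation
  have hN' : ∀ g, aug σ ≤ (aug σ).comap (σ g) := fun g m hm => aug_stable σ g m hm
  obtain ⟨σN, hσN⟩ : ∃ σN, σN = σ.subrepresentation (aug σ) hN' := ⟨_, rfl⟩
  have hcomap : ∀ z : ↥(perp (Qp Q v v') (⟨w0, h.mem_perp.1⟩ : ↥(perp Q v v')) ⟨w0', h.mem_perp.2⟩),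
      wsp (Qp Q v v') σN ψ ⟨w0, h.mem_perp.1⟩ ⟨w0', h.mem_perp.2⟩ z =
        (wsp (Qp Q v v') σ ψ ⟨w0, h.mem_perp.1⟩ ⟨w0', h.mem_perp.2⟩ z).comap (aug σ).subtype := by
    intro z
    ext x
    rw [hσN, mem_wsp_subrep]
    rfl
  have he3 : ∀ z : ↥(perp (Qp Q v v') (⟨w0, h.mem_perp.1⟩ : ↥(perp Q v v')) ⟨w0', h.mem_perp.2⟩),
      z ≠ 0 → Qp (Qp Q v v') _ _ z = 0 →
      finrank ℂ ↥(wsp (Qp Q v v') σN ψ ⟨w0, h.mem_perp.1⟩ ⟨w0', h.mem_perp.2⟩ z) = 1 := by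
    intro z hz0 hQz
    rw [hcomap z, ← he2 z hz0 hQz]
    exact (Submodule.comapSubtypeEquivOfLe
      (wsp_le_aug (Qp Q v v') hQW hdimW5 hpW.qa hPW2.nondeg σ ψ hψ z hz0)).finrank_eq
  have hns3 : ∀ z : ↥(perp (Qp Q v v') (⟨w0, h.mem_perp.1⟩ : ↥(perp Q v v')) ⟨w0', h.mem_perp.2⟩),
      Qp (Qp Q v v') _ _ z ≠ 0 →
      wsp (Qp Q v v') σN ψ ⟨w0, h.mem_perp.1⟩ ⟨w0', h.mem_perp.2⟩ z = ⊥ := by
    intro z hQz
    rw [hcomap z, hns2 z hQz]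
    ext x
    simp
  have hintN := Cfsg.Agent.Lib.Helper69_OP_WSDEC.wsp_isInternal (Qp Q v v') hQW hdimW5
    hpW.qa hpW.qa' hpW.aa' σN ψ hψ
  have hWN := Cfsg.Agent.Lib.Helper79_OO2_WDOF.wdata_of (Qp Q v v') σN ψ hintN he3 hns3
  have hinf := invariants_inf_aug σ
  have hfixN : ∀ x : ↥(aug σ), (∀ g : ↥(T (Qp Q v v')), σN g x = x) → x = 0 := by
    intro x hx
    have hx1 : (x : ↥(wsp Q ρ ψ v v' 0)) ∈ Representation.invariants σ := by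
      intro g
      have := hx g
      rw [hσN] at this
      exact congrArg Subtype.val this
    have : (x : ↥(wsp Q ρ ψ v v' 0)) ∈ Representation.invariants σ ⊓ aug σ := ⟨hx1, x.2⟩
    rw [hinf, Submodule.mem_bot] at this
    exact Subtype.ext this
  have hirrN : σN.IsIrreducible :=
    Cfsg.Agent.Lib.Helper77_OO2_IRR.irr_of_wdata (Qp Q v v') (n - 1) (by omega) hq hPW hpW.qa hpW.qa'
      hpW.aa' σN ψ hψ hintN _ hWN hfixN
  obtain ⟨hd, hY1, hθ⟩ := IH ↥(perp Q v v') (Qp Q v v') hPW ↥(aug σ) σN hirrN ψ hψ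
    ⟨w0, h.mem_perp.1⟩ ⟨w0', h.mem_perp.2⟩ hpW hintN _ hWN
  -- dictionary
  have hmapInv : (Representation.invariants σ).map (wsp Q ρ ψ v v' 0).subtype = Ysp Q ρ v v' := by
    rw [hσ]; exact map_invariants_sigma Q hQ hv hv' hvv' ρ ψ L hinv
  have hmapAug : (aug σ).map (wsp Q ρ ψ v v' 0).subtype =
      augL Q ρ (perp Q v v') (X0sp Q ρ v v') := by
    rw [hσ]; exact map_aug_sigma Q hQ hv hv' hvv' ρ ψ L hinv
  have hX0 := X0sp_eq Q ρ ψ v v'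
  -- `Ysp ≤ Y2sp`
  have hYleY2 : Ysp Q ρ v v' ≤ Y2sp Q ρ v v' w0 w0' := by
    intro x hx
    have hx' := hx
    rw [← hmapInv] at hx'
    obtain ⟨m, hm, rfl⟩ := hx'
    refine ⟨⟨hx.1, ?_⟩, fixL_anti Q ρ (inf_le_left : W1 Q v v' w0 w0' ≤ perp Q v v') hx.2⟩
    intro w hw
    obtain ⟨hw1, hw2⟩ := (mem_W1_iff Q h w).1 hw
    have hw0w : QuadraticMap.polar (⇑(Qp Q v v')) (⟨w0, h.mem_perp.1⟩ : ↥(perp Q v v'))
        ⟨w, hw1⟩ = 0 := ((mem_perp _ _ _).1 hw2).1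
    have hmem : E (Qp Q v v') (⟨w0, h.mem_perp.1⟩ : ↥(perp Q v v')) ⟨w, hw1⟩ ∈ T (Qp Q v v') :=
      rad_mem (Qp Q v v') hQW hdimW5 hpW.qa ⟨⟨w, hw1⟩, hw2⟩
    have h4 := repE_sigma_E Q hQ hv hv' hvv' ρ ψ L hinv ⟨w0, h.mem_perp.1⟩ ⟨w, hw1⟩ hpW.qa
      hw0w hmem m
    rw [repE_of_mem _ _ hmem, ← hσ, hm ⟨_, hmem⟩] at h4
    exact h4.symm
  -- `Ypsp` as the image of `Ysp` of the sub-representation
  have hYp : ∀ x : X, x ∈ Ypsp Q ρ v v' w0 w0' ↔ ∃ y : ↥(aug σ),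
      y ∈ Ysp (Qp Q v v') σN (⟨w0, h.mem_perp.1⟩ : ↥(perp Q v v')) ⟨w0', h.mem_perp.2⟩ ∧
        ((y : ↥(wsp Q ρ ψ v v' 0)) : X) = x := by
    intro x
    constructor
    · rintro ⟨hx1, hx2⟩
      rw [← hmapAug] at hx2
      obtain ⟨m, hm, rfl⟩ := hx2
      refine ⟨⟨m, hm⟩, ?_, rfl⟩
      subst hσN
      subst hσ
      rw [mem_Ysp_subrep Q hQ h hQW hdimW5 ρ ψ L hinv]
      exact ⟨hx1.1.2, hx1.2⟩
    · rintro ⟨y, hy, rfl⟩
      subst hσN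
      subst hσ
      rw [mem_Ysp_subrep Q hQ h hQW hdimW5 ρ ψ L hinv] at hy
      refine ⟨⟨⟨?_, hy.1⟩, hy.2⟩, ?_⟩
      · show ((y : ↥(wsp Q ρ ψ v v' 0)) : X) ∈ X0sp Q ρ v v'
        rw [hX0]; exact (y : ↥(wsp Q ρ ψ v v' 0)).2
      · rw [← hmapAug]
        exact ⟨(y : ↥(wsp Q ρ ψ v v' 0)), y.2, rfl⟩
  refine ⟨?_, ?_, ?_, ?_, ?_⟩
  · -- dimension of `X^R`
    have hc := Submodule.finrank_add_eq_of_isCompl (isCompl_invariants_aug σ)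
    rw [hX0, ← hc, hd, ← hmapInv]
    congr 1
    exact (LinearEquiv.finrank_eq (Submodule.equivMapOfInjective _
      (Submodule.injective_subtype _) _))
  · -- `Y'` is a line
    rw [← hY1]
    have hmapY : Ypsp Q ρ v v' w0 w0' =
        ((Ysp (Qp Q v v') σN (⟨w0, h.mem_perp.1⟩ : ↥(perp Q v v')) ⟨w0', h.mem_perp.2⟩).map
          (aug σ).subtype).map (wsp Q ρ ψ v v' 0).subtype := by
      ext x
      rw [hYp x]
      constructor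
      · rintro ⟨y, hy, rfl⟩
        exact ⟨(y : ↥(wsp Q ρ ψ v v' 0)), ⟨y, hy, rfl⟩, rfl⟩
      · rintro ⟨y0, ⟨y, hy, rfl⟩, rfl⟩
        exact ⟨y, hy, rfl⟩
    rw [hmapY]
    rw [← (LinearEquiv.finrank_eq (Submodule.equivMapOfInjective _
      (Submodule.injective_subtype (wsp Q ρ ψ v v' 0)) _)),
      ← (LinearEquiv.finrank_eq (Submodule.equivMapOfInjective _
      (Submodule.injective_subtype (aug σ)) _))]
  · -- the torus on `Y'`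
    intro a ha x hx
    obtain ⟨y, hy, rfl⟩ := (hYp x).1 hx
    have h3 := hθ ⟨w1, h1.mem_perp.1⟩ ⟨w1', h1.mem_perp.2⟩ hqW a ha y hy
    have h4 : (((repE (Qp Q v v') σN (hh (Qp Q v v') (⟨w0, h.mem_perp.1⟩ : ↥(perp Q v v'))
        ⟨w0', h.mem_perp.2⟩ ⟨w1, h1.mem_perp.1⟩ ⟨w1', h1.mem_perp.2⟩ a) y : ↥(aug σ)) :
        ↥(wsp Q ρ ψ v v' 0)) : X) =
        repE Q ρ (hh Q w0 w0' w1 w1' a) ((y : ↥(wsp Q ρ ψ v v' 0)) : X) := by
      subst hσN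
      subst hσ
      rw [repE_subrep, repE_sigma_hh Q hv hv' hvv' ρ ψ L hinv hqW a]
    rw [← h4, h3]
    rfl
  · -- `Y_2 ≤ Y + Y'`
    intro x hx
    have hx0 : x ∈ wsp Q ρ ψ v v' 0 := by rw [← hX0]; exact hx.1.1
    obtain ⟨m₀, hm₀, m₁, hm₁, hdec⟩ := exists_decomp σ ⟨x, hx0⟩
    have hxdec : x = (m₀ : X) + (m₁ : X) := by
      have := congrArg Subtype.val hdec
      exact this
    have hm₀Y : (m₀ : X) ∈ Ysp Q ρ v v' := by
      rw [← hmapInv]; exact ⟨m₀, hm₀, rfl⟩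
    have hm₁Y2 : (m₁ : X) ∈ Y2sp Q ρ v v' w0 w0' := by
      have : (m₁ : X) = x - (m₀ : X) := by rw [hxdec]; abel
      rw [this]
      exact Submodule.sub_mem _ hx (hYleY2 hm₀Y)
    have hm₁Yp : (m₁ : X) ∈ Ypsp Q ρ v v' w0 w0' := by
      refine ⟨hm₁Y2, ?_⟩
      rw [← hmapAug]; exact ⟨m₁, hm₁, rfl⟩
    rw [hxdec]
    exact Submodule.add_mem_sup hm₀Y hm₁Yp
  · -- `Y ∩ Y' = 0`
    rw [eq_bot_iff]
    rintro x ⟨hx1, hx2⟩
    rw [← hmapInv] at hx1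
    obtain ⟨m₀, hm₀, rfl⟩ := hx1
    have hx3 := hx2.2
    rw [← hmapAug] at hx3
    obtain ⟨m₁, hm₁, hm01⟩ := hx3
    have : m₁ = m₀ := Subtype.ext hm01
    rw [this] at hm₁
    have hmem : m₀ ∈ Representation.invariants σ ⊓ aug σ := ⟨hm₀, hm₁⟩
    rw [hinf, Submodule.mem_bot] at hmem
    rw [hmem]
    simp

end main

end Cfsg.Agent.Lib.Helper48_OO2_IHAPP
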