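import Mathlib
import Cfsg.Agent.Lib.Helper95_OPDefs
import Cfsg.Agent.Lib.Helper95_OPBasic
import Cfsg.Agent.Lib.Helper48_OODefs
import Cfsg.Agent.Lib.Helper87_OO2Defs
import Cfsg.Agent.Lib.Helper87_OO2Defs2
import Cfsg.Agent.Lib.Helper87_OO2Defs3
import Cfsg.Agent.Lib.Helper29_OO2_NSG2

/-!
# OO2-NSGAPP (S2344, wave 3 of the OO2 market)

A vector of `Y = X^{R L'}` fixed by the torus elements `h_{v w0}(a)` vanishes: this is
`Helper29_OO2_NSG2.ns_group_Y_zero` with `hns` from the weight data and `2 ≤ dim X` from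
`D = f + (q^4 - 1)`.
-/

set_option autoImplicit false

namespace Cfsg.Agent.Lib.Helper48_OO2_NSGAPP

open Module Cfsg.Agent.Lib.Helper94_OrthSmall Cfsg.Agent.Lib.Helper44_QuadClass
  Cfsg.Agent.Lib.Helper14_OmegaSimple Cfsg.Agent.Lib.Helper38_MIODefs
  Cfsg.Agent.Lib.Helper95_OPDefs Cfsg.Agent.Lib.Helper95_OPBasic Cfsg.Agent.Lib.Helper48_OODefs
  Cfsg.Agent.Lib.Helper87_OO2Defs

variable {F V : Type*} [Field F] [Fintype F] [AddCommGroup V] [Module F V] [FiniteDimensional F V]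
  {X : Type*} [AddCommGroup X] [Module ℂ X] [FiniteDimensional ℂ X]

/-- the degree of a representation with weight data `(1, f)` in rank 3 is at least two -/
theorem two_le_finrank (Q : QuadraticForm F V) (hP : IsOddT Q 3) {v v' : V}
    (hv : Q v = 0) (hv' : Q v' = 0) (hvv' : QuadraticMap.polar (⇑Q) v v' = 1)
    (ρ : Representation ℂ ↥(T Q) X) (ψ : AddChar F ℂ) (f : ℕ) (hW : WData Q ρ ψ v v' 1 f) :
    2 ≤ finrank ℂ X := by
  have hD := hW.hD
  rw [card_sing_perp Q 3 (by norm_num) hP hv hv' hvv'] at hD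
  have hq : 2 ≤ Fintype.card F := by
    have := Fintype.one_lt_card (α := F)
    omega
  have h16 : 2 ^ (2 * (3 - 1)) ≤ Fintype.card F ^ (2 * (3 - 1)) := Nat.pow_le_pow_left hq _
  norm_num at h16 hD
  omega

/-! ## OO2-NSGAPP (M/L): a torus-fixed vector of `Y` vanishes (2.4 = Helper29_OO2_NSG) -/
theorem Y_torus_fixed_eq_zero (Q : QuadraticForm F V) (hq : 4 ≤ Fintype.card F) (hP : IsOddT Q 3)
    {v v' w0 w0' w1 w1' x : V} (fr : Frame3 Q v v' w0 w0' w1 w1' x)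
    [DecidableEq ↥(perp Q v v')] (ρ : Representation ℂ ↥(T Q) X) (hirr : ρ.IsIrreducible)
    (ψ : AddChar F ℂ) (hψ : ψ ≠ 1)
    (hint : DirectSum.IsInternal (fun u : ↥(perp Q v v') => wsp Q ρ ψ v v' u))
    (f : ℕ) (hW : WData Q ρ ψ v v' 1 f) (y : X) (hy : y ∈ Ysp Q ρ v v')
    (hfix : ∀ a : F, a ≠ 0 → repE Q ρ (hh Q v v' w0 w0' a) y = y) : y = 0 := by
  have h := fr.h01
  have h2 := two_le_finrank Q hP h.pa.qa h.pa.qa' h.pa.aa' ρ ψ f hW
  exact Cfsg.Agent.Lib.Helper29_OO2_NSG2.ns_group_Y_zero Q 3 le_rfl hP h ρ hirr h2 ψ hψ hW.hns y hy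
    hfix

end Cfsg.Agent.Lib.Helper48_OO2_NSGAPP
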