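/-
helper79 — package OO-TSPAIR of the S2344 market (helper48 / helper85 / helper12):
an odd-type space of rank `m ≥ 2` contains a totally singular 2-frame
(near copy of Helper31_OP_TSPAIR with IsPlus replaced by IsOddT).
-/
import Mathlib
import Cfsg.Agent.Lib.Helper95_OPDefs
import Cfsg.Agent.Lib.Helper95_OPBasic
import Cfsg.Agent.Lib.Helper48_OODefs
import Cfsg.Agent.Lib.Helper44_StdForms

set_option autoImplicit false

namespace Cfsg.Agent.Lib.Helper79_OO_TSPAIR

open Module Cfsg.Agent.Lib.Helper94_OrthSmall Cfsg.Agent.Lib.Helper44_QuadClass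
  Cfsg.Agent.Lib.Helper14_OmegaSimple Cfsg.Agent.Lib.Helper38_MIODefs
  Cfsg.Agent.Lib.Helper95_OPDefs Cfsg.Agent.Lib.Helper95_OPBasic Cfsg.Agent.Lib.Helper48_OODefs

variable {F W : Type*} [Field F] [Fintype F] [AddCommGroup W] [Module F W] [FiniteDimensional F W]

/-- an odd-type space of rank `≥ 1` has a nonzero singular vector (from the count of zeros) -/
theorem exists_nonzero_singular (Qw : QuadraticForm F W) (m : ℕ) (hm : 1 ≤ m) (hP : IsOddT Qw m) :
    ∃ a : W, a ≠ 0 ∧ Qw a = 0 := by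
  by_contra hcon
  push Not at hcon
  have hsub : Subsingleton {x : W // Qw x = 0} := by
    refine ⟨fun x y => Subtype.ext ?_⟩
    have hx : (x : W) = 0 := by
      by_contra h
      exact hcon x h x.2
    have hy : (y : W) = 0 := by
      by_contra h
      exact hcon y h y.2
    rw [hx, hy]
  have h1 : Nat.card {x : W // Qw x = 0} = 1 :=
    Nat.card_of_subsingleton (⟨0, map_zero Qw⟩ : {x : W // Qw x = 0})
  have hq : 2 ≤ Fintype.card F := Fintype.one_lt_card
  have h2 := hP.zeros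
  rw [h1] at h2
  have h4 : 2 ≤ Fintype.card F ^ (2 * m) := by
    calc 2 ≤ Fintype.card F := hq
      _ = Fintype.card F ^ 1 := (pow_one _).symm
      _ ≤ Fintype.card F ^ (2 * m) := Nat.pow_le_pow_right (by omega) (by omega)
  omega

/-- **OO-TSPAIR** -/
theorem exists_ts_pair (Qw : QuadraticForm F W) (m : ℕ) (hm : 2 ≤ m) (hP : IsOddT Qw m) :
    ∃ a b : W, a ≠ 0 ∧ b ∉ Submodule.span F {a} ∧ Qw a = 0 ∧ Qw b = 0 ∧
      QuadraticMap.polar (⇑Qw) a b = 0 := by
  obtain ⟨a, ha0, ha⟩ := exists_nonzero_singular Qw m (by omega) hP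
  obtain ⟨a', ha', haa'⟩ := exists_hyperbolic_partner Qw hP.nondeg ha0 ha
  have hP1 := isOddT_perp Qw m (by omega) hP ha ha' haa'
  obtain ⟨b, hb0, hb⟩ := exists_nonzero_singular (Qp Qw a a') (m - 1) (by omega) hP1
  have hbmem := (mem_perp Qw a a').mp b.2
  refine ⟨a, (b : W), ha0, ?_, ha, hb, hbmem.1⟩
  intro hspan
  obtain ⟨c, hc⟩ := Submodule.mem_span_singleton.mp hspan
  have h1 : QuadraticMap.polar (⇑Qw) a' (c • a) = 0 := by rw [hc]; exact hbmem.2
  rw [QuadraticMap.polar_smul_right, QuadraticMap.polar_comm, haa', smul_eq_mul, mul_one] at h1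
  apply hb0
  apply Subtype.ext
  rw [← hc, h1, zero_smul]
  rfl

end Cfsg.Agent.Lib.Helper79_OO_TSPAIR
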