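import Mathlib
import Cfsg.Agent.Lib.Helper4_S2332_IRRSUB

/-!
# OO-IRRTOP (helper86, architect helper48, S2344)

A non-trivial complex representation of a finite perfect group whose degree does not exceed the minimal
degree `d` of the irreducibles of degree `≥ 2` is irreducible of degree exactly `d`.
-/

set_option autoImplicit false

namespace Cfsg.Agent.Lib.Helper86_OO_IRRTOP

open Module Cfsg.Agent.Lib.Helper3_RepDecomp Cfsg.Agent.Lib.Helper4_RepComm

theorem irreducible_of_le_minDeg {G : Type*} [Group G] [Finite G] (hperf : commutator G = ⊤)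
    {X : Type} [AddCommGroup X] [Module ℂ X] [FiniteDimensional ℂ X]
    (σ : Representation ℂ G X) (g : G) (hg : σ g ≠ 1) (d : ℕ)
    (hd : ∀ (Y : Type) [AddCommGroup Y] [Module ℂ Y] [FiniteDimensional ℂ Y]
      (τ : Representation ℂ G Y), τ.IsIrreducible → 2 ≤ finrank ℂ Y → d ≤ finrank ℂ Y)
    (hX : finrank ℂ X ≤ d) : σ.IsIrreducible ∧ finrank ℂ X = d := by
  have hne : commSub σ ≠ ⊤ := by
    intro htop
    have hcomm := (commSub_eq_top_iff σ).mp htop
    apply hg
    have hle : commutator G ≤ MonoidHom.ker σ := by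
      rw [commutator_def, Subgroup.commutator_le]
      intro a _ b _
      rw [MonoidHom.mem_ker, commutatorElement_def]
      have h1 : σ (a * b * a⁻¹ * b⁻¹) = σ (a * b) * σ (a⁻¹ * b⁻¹) := by
        rw [← map_mul]
        congr 1
        group
      rw [h1, hcomm a b, ← map_mul]
      have : b * a * (a⁻¹ * b⁻¹) = 1 := by group
      rw [this, map_one]
    have : g ∈ MonoidHom.ker σ := hle (by rw [hperf]; trivial)
    exact MonoidHom.mem_ker.mp this
  obtain ⟨U, hU, W, hW, hirr, hne1⟩ := exists_irreducible_sub_finrank_ne_one σ hne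
  have hWnt : Nontrivial W := Cfsg.Agent.Lib.Helper4_S2332_IRRSUB.finrank_pos_of_irr _ hirr
  have hpos : 0 < finrank ℂ W := Module.finrank_pos
  have h2 : 2 ≤ finrank ℂ W := by omega
  have hdW : d ≤ finrank ℂ W := hd W (subRep (subRep σ U hU) W hW) hirr h2
  have hWU : finrank ℂ W ≤ finrank ℂ U := Submodule.finrank_le W
  have hUX : finrank ℂ U ≤ finrank ℂ X := Submodule.finrank_le U
  have hWtop : W = ⊤ := Submodule.eq_top_of_finrank_eq (by omega)
  have hUtop : U = ⊤ := Submodule.eq_top_of_finrank_eq (by omega)
  refine ⟨?_, by omega⟩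
  refine { exists_pair_ne := ⟨⊥, ⊤, ?_⟩, eq_bot_or_eq_top := ?_ }
  · intro hbt
    have h1 := congrArg Subrepresentation.toSubmodule hbt
    have h2' : (⊥ : Submodule ℂ X) = ⊤ := h1
    have hsub : Subsingleton X := by
      constructor
      intro x y
      have hx : x ∈ (⊤ : Submodule ℂ X) := trivial
      have hy : y ∈ (⊤ : Submodule ℂ X) := trivial
      rw [← h2', Submodule.mem_bot] at hx hy
      rw [hx, hy]
    have : finrank ℂ X = 0 := Module.finrank_zero_of_subsingleton
    omega
  · intro S
    -- pull `S` back to `W`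
    let S₁ : Submodule ℂ U := S.toSubmodule.comap U.subtype
    have hS₁ : IsInv (subRep σ U hU) S₁ := by
      intro k u hu
      show ((subRep σ U hU k u : U) : X) ∈ S.toSubmodule
      rw [subRep_apply]
      exact S.apply_mem_toSubmodule k hu
    let S₂ : Submodule ℂ W := S₁.comap W.subtype
    have hS₂ : IsInv (subRep (subRep σ U hU) W hW) S₂ := by
      intro k w hw
      show ((subRep (subRep σ U hU) W hW k w : W) : U) ∈ S₁
      rw [subRep_apply]
      exact hS₁ k _ hw
    have hmemU : ∀ x : X, x ∈ U := fun x => by rw [hUtop]; trivial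
    have hmemW : ∀ u : U, u ∈ W := fun u => by rw [hWtop]; trivial
    have hiff : ∀ x : X, x ∈ S.toSubmodule ↔
        (⟨⟨x, hmemU x⟩, hmemW _⟩ : W) ∈ S₂ := fun x => Iff.rfl
    rcases eq_bot_or_eq_top (toSubrep (subRep (subRep σ U hU) W hW) S₂ hS₂) with h | h
    · left
      have h' : S₂ = ⊥ := congrArg Subrepresentation.toSubmodule h
      apply Subrepresentation.toSubmodule_injective
      show S.toSubmodule = ⊥
      rw [eq_bot_iff]
      intro x hx
      have := (hiff x).mp hx
      rw [h', Submodule.mem_bot] at this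
      have := congrArg (fun w : W => ((w : U) : X)) this
      simpa using this
    · right
      have h' : S₂ = ⊤ := congrArg Subrepresentation.toSubmodule h
      apply Subrepresentation.toSubmodule_injective
      show S.toSubmodule = ⊤
      rw [eq_top_iff]
      intro x _
      rw [hiff x, h']
      trivial

end Cfsg.Agent.Lib.Helper86_OO_IRRTOP
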