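import Mathlib
import Cfsg.Agent.Lib.Helper48_OOThin
import Cfsg.Agent.Lib.Helper86_OO_IRRTOP
import Cfsg.Agent.Lib.Helper79_OO_TSPAIR

set_option autoImplicit false

/-!
S2344 (helper48): the thin analysis at the NON-STRICT bound (`finrank ≤ bodd q m`, `q ≥ 5`), and the
phantom configuration (`phantom_data`) produced by the plain induction hypothesis.  Interface for helper64's
kill section (`pending/helper64/S2344_kill_packages.lean.txt`, PART F).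
-/

namespace Cfsg.Agent.Lib.Helper48_OOThinLe

open Module Cfsg.Agent.Lib.Helper94_OrthSmall Cfsg.Agent.Lib.Helper44_QuadClass
  Cfsg.Agent.Lib.Helper14_OmegaSimple Cfsg.Agent.Lib.Helper38_MIODefs
  Cfsg.Agent.Lib.Helper95_OPDefs Cfsg.Agent.Lib.Helper95_OPBasic Cfsg.Agent.Lib.Helper48_OODefs
  Cfsg.Agent.Lib.Helper95_OPMain Cfsg.Agent.Lib.Helper48_OOThin

set_option linter.unusedSectionVars false
set_option linter.unusedVariables false

/-- strict form of `bodd_le_two_level` (`q ≥ 5`, `m ≥ 3`) -/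
theorem bodd_lt_two_level (q m : ℕ) (hq : 5 ≤ q) (hm : 3 ≤ m) :
    bodd q m < 2 * (q ^ (2 * (m - 1)) - q ^ (m - 1)) := by
  have hmul := Cfsg.Agent.Lib.Helper46_OO_ARITH.bodd_mul q m (by omega)
  obtain ⟨k, rfl⟩ : ∃ k, m = k + 1 := ⟨m - 1, by omega⟩
  simp only [Nat.add_sub_cancel] at *
  have hk : 2 ≤ k := by omega
  set B := q ^ k with hB
  have hA : q ^ (2 * k) = B * B := by rw [hB, ← pow_add]; congr 1; omega
  have hq2m : q ^ (2 * (k + 1)) = q ^ 2 * (B * B) := by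
    rw [← hA, ← pow_add]; congr 1; omega
  have hB25 : 25 ≤ B := by
    calc 25 = 5 ^ 2 := by norm_num
      _ ≤ q ^ 2 := Nat.pow_le_pow_left hq 2
      _ ≤ q ^ k := Nat.pow_le_pow_right (by omega) hk
  rw [hA]
  rw [hq2m] at hmul
  have hq2 : 25 ≤ q ^ 2 := by nlinarith
  have hBB : B ≤ B * B := by nlinarith
  -- work in ℤ
  have h1 : 1 ≤ q ^ 2 := by omega
  have h2 : 1 ≤ q ^ 2 * (B * B) := by nlinarith
  zify [h1, h2, hBB] at hmul ⊢
  set Z : ℤ := (q : ℤ) ^ 2 with hZ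
  have hZ25 : (25 : ℤ) ≤ Z := by rw [hZ]; exact_mod_cast hq2
  have hBz : (25 : ℤ) ≤ (B : ℤ) := by exact_mod_cast hB25
  by_contra hcon
  push Not at hcon
  have h3 : (Z - 1) * (2 * ((B : ℤ) * B - B)) ≤ (Z - 1) * (bodd q (k + 1) : ℤ) :=
    mul_le_mul_of_nonneg_left hcon (by linarith)
  rw [hmul] at h3
  nlinarith [mul_nonneg (by linarith : (0 : ℤ) ≤ Z - 25) (by linarith : (0 : ℤ) ≤ (B : ℤ) - 25),
    mul_nonneg (by linarith : (0 : ℤ) ≤ (B : ℤ)) (by linarith : (0 : ℤ) ≤ (B : ℤ) - 25),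
    mul_nonneg (mul_nonneg (by linarith : (0 : ℤ) ≤ Z) (by linarith : (0 : ℤ) ≤ (B : ℤ)))
      (by linarith : (0 : ℤ) ≤ (B : ℤ) - 25)]

/-- strict form of `bodd_le_two_sing` (`q ≥ 5`, `m ≥ 2`) -/
theorem bodd_lt_two_sing (q m : ℕ) (hq : 5 ≤ q) (hm : 2 ≤ m) :
    bodd q m < 2 * (q ^ (2 * (m - 1)) - 1) := by
  have hmul := Cfsg.Agent.Lib.Helper46_OO_ARITH.bodd_mul q m (by omega)
  obtain ⟨k, rfl⟩ : ∃ k, m = k + 1 := ⟨m - 1, by omega⟩
  simp only [Nat.add_sub_cancel] at *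
  have hk : 1 ≤ k := by omega
  set A := q ^ (2 * k) with hA
  have hq2m : q ^ (2 * (k + 1)) = q ^ 2 * A := by
    rw [hA, ← pow_add]; congr 1; omega
  have hA25 : 25 ≤ A := by
    calc 25 = 5 ^ 2 := by norm_num
      _ ≤ q ^ 2 := Nat.pow_le_pow_left hq 2
      _ ≤ q ^ (2 * k) := Nat.pow_le_pow_right (by omega) (by omega)
  rw [hq2m] at hmul
  have hq2 : 25 ≤ q ^ 2 := by nlinarith
  have h1 : 1 ≤ q ^ 2 := by omega
  have h2 : 1 ≤ q ^ 2 * A := by nlinarith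
  have h3 : 1 ≤ A := by omega
  zify [h1, h2, h3] at hmul ⊢
  set Z : ℤ := (q : ℤ) ^ 2 with hZ
  have hZ25 : (25 : ℤ) ≤ Z := by rw [hZ]; exact_mod_cast hq2
  have hAz : (25 : ℤ) ≤ (A : ℤ) := by exact_mod_cast hA25
  by_contra hcon
  push Not at hcon
  have h4 : (Z - 1) * (2 * ((A : ℤ) - 1)) ≤ (Z - 1) * (bodd q (k + 1) : ℤ) :=
    mul_le_mul_of_nonneg_left hcon (by linarith)
  rw [hmul] at h4
  nlinarith [mul_nonneg (by linarith : (0 : ℤ) ≤ Z - 25) (by linarith : (0 : ℤ) ≤ (A : ℤ) - 25)]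

variable {F V : Type*} [Field F] [Fintype F] [AddCommGroup V] [Module F V] [FiniteDimensional F V]

/-- **Thin weights at the non-strict bound** (`q ≥ 5`): degree at most `B_m` forces the weight datum `e = 1`.
The hypothesis `hF` is not used (kept for the interface of the kill section). -/
theorem thin_le {U : Type*} [AddCommGroup U] [Module ℂ U] [FiniteDimensional ℂ U]
    (Q : QuadraticForm F V) (m : ℕ) (hm : 3 ≤ m) (hP : IsOddT Q m)
    (hF : ringChar F ≠ 2) (hq : 5 ≤ Fintype.card F) {a a' : V} (ha : Q a = 0) (ha' : Q a' = 0)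
    (haa' : QuadraticMap.polar (⇑Q) a a' = 1)
    (τ : Representation ℂ ↥(T Q) U) (hirr : τ.IsIrreducible) (h2 : 2 ≤ finrank ℂ U)
    (hle : finrank ℂ U ≤ bodd (Fintype.card F) m) (ψ : AddChar F ℂ) (hψ : ψ ≠ 1)
    [DecidableEq ↥(perp Q a a')] :
    DirectSum.IsInternal (fun y : ↥(perp Q a a') => wsp Q τ ψ a a' y) ∧
      ∃ f' : ℕ, WData Q τ ψ a a' 1 f' := by
  obtain ⟨q, hqdef⟩ : ∃ q, q = Fintype.card F := ⟨_, rfl⟩
  rw [← hqdef] at hq hle
  have hQ := hP.nondeg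
  have hdimV : finrank F V = 2 * m + 1 := hP.dim
  have hdim5 : 5 ≤ finrank F V := by omega
  have hdim7 : 7 ≤ finrank F V := by omega
  have hcomm := Cfsg.Agent.Lib.Helper63_OP_HCOMM.comm_oG_le_T Q hQ hdim5
  have hint := Cfsg.Agent.Lib.Helper69_OP_WSDEC.wsp_isInternal Q hQ hdim5 ha ha' haa' τ ψ hψ
  refine ⟨hint, ?_⟩
  have hs : Nat.card {u : ↥(perp Q a a') // u ≠ 0 ∧ Qp Q a a' u = 0} = q ^ (2 * (m - 1)) - 1 := by
    rw [card_sing_perp Q m (by omega) hP ha ha' haa', ← hqdef]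
  have harith : bodd q m + 1 ≤ 2 * (q ^ (2 * (m - 1)) - q ^ (m - 1)) :=
    bodd_lt_two_level q m hq hm
  rw [hqdef] at harith
  rcases Cfsg.Agent.Lib.Helper73_OO_NUM.wdata_or_large_gen Q (bodd (Fintype.card F) m + 1) m hm hP
    (by omega) ha ha' haa' τ ψ hint
    (fun u u' hu hu' h => Cfsg.Agent.Lib.Helper71_OP_WSLEVEL.finrank_wsp_level Q hQ hdim7 ha ha' haa' τ ψ u u' hu hu' h)
    (fun t ht => Cfsg.Agent.Lib.Helper61_OP_WSTORUS.finrank_wsp_torus Q hQ hdim7 hcomm ha ha' haa' τ ψ t ht) harith with hbig | ⟨e, f, hW⟩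
  · rw [← hqdef] at hbig; omega
  have he1 := Cfsg.Agent.Lib.Helper69_OP_NONTRIV.one_le_e Q hQ hdim7 ha ha' haa' τ hirr h2 ψ hint e f hW
  have hD := hW.hD
  rw [hs] at hD
  have he : e = 1 := by
    by_contra hne
    have he2 : 2 ≤ e := by omega
    have h1 := bodd_lt_two_sing q m hq (by omega)
    have h3 : 2 * (q ^ (2 * (m - 1)) - 1) ≤ e * (q ^ (2 * (m - 1)) - 1) := Nat.mul_le_mul_right _ he2
    omega
  subst he
  exact ⟨f, hW⟩

/-- **The phantom configuration.**  With the induction hypothesis for the complement `W` of the hyperbolic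
pair, a degree `D < B_n` forces `f = B_(n-1)`, `D + 1 = B_n`, and `X_0` is an irreducible module for the Levi
factor `T (Q|W)`. -/
theorem phantom_data (Q : QuadraticForm F V) (n : ℕ) (hn : 4 ≤ n) (hq : 4 ≤ Fintype.card F)
    (hP : IsOddT Q n) {v v' : V} (hv : Q v = 0) (hv' : Q v' = 0)
    (hvv' : QuadraticMap.polar (⇑Q) v v' = 1) [DecidableEq ↥(perp Q v v')]
    (hIH : MinDegT (Qp Q v v') (bodd (Fintype.card F) (n - 1)))
    {X : Type} [AddCommGroup X] [Module ℂ X] [FiniteDimensional ℂ X]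
    (ρ : Representation ℂ ↥(T Q) X) (hirr : ρ.IsIrreducible) (h2 : 2 ≤ finrank ℂ X)
    (hlt : finrank ℂ X < bodd (Fintype.card F) n) (ψ : AddChar F ℂ) (hψ : ψ ≠ 1)
    (L : LeviHom Q v v')
    (hinv : ∀ (g : ↥(T (Qp Q v v'))) (x : X), x ∈ wsp Q ρ ψ v v' 0 →
      ρ (L.ι g) x ∈ wsp Q ρ ψ v v' 0) :
    DirectSum.IsInternal (fun u : ↥(perp Q v v') => wsp Q ρ ψ v v' u) ∧
    WData Q ρ ψ v v' 1 (bodd (Fintype.card F) (n - 1)) ∧
    finrank ℂ X + 1 = bodd (Fintype.card F) n ∧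
    (sigmaRep Q ρ ψ v v' L hinv).IsIrreducible := by
  obtain ⟨hint, f, hW, hD⟩ := wdata_one Q n (by omega) hq hP hv hv' hvv' ρ hirr h2 hlt ψ hψ
  have hPW : IsOddT (Qp Q v v') (n - 1) := isOddT_perp Q n (by omega) hP hv hv' hvv'
  obtain ⟨a, b, ha0, hba, ha, hb, hab⟩ :=
    Cfsg.Agent.Lib.Helper79_OO_TSPAIR.exists_ts_pair (Qp Q v v') (n - 1) (by omega) hPW
  have hxW : E (Qp Q v v') a b ∈ T (Qp Q v v') := root_mem_T (Qp Q v v') ha hb hab
  have hne := sigma_ne_one Q n (by omega) hq hP hv hv' hvv' ρ ψ hψ hint f hW L hinv a b ha0 hba ha hb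
    hab hxW
  have hfinW : Finite ↥(perp Q v v') := Module.finite_of_finite F
  have hfinG : Finite (↥(perp Q v v') ≃ₗ[F] ↥(perp Q v v')) :=
    Finite.of_injective (fun g => (g : ↥(perp Q v v') → ↥(perp Q v v')))
      (fun g h hgh => LinearEquiv.ext (congrFun hgh))
  have hdimW : finrank F ↥(perp Q v v') = 2 * (n - 1) + 1 := hPW.dim
  have hperf := commutator_T_eq_top (Qp Q v v') hPW.nondeg (by omega)
  have hsucc := Cfsg.Agent.Lib.Helper46_OO_ARITH.bodd_succ (Fintype.card F) n (by omega) (by omega)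
  have hpos : 1 ≤ Fintype.card F ^ (2 * (n - 1)) := Nat.one_le_pow _ _ Fintype.card_pos
  have hfle : finrank ℂ ↥(wsp Q ρ ψ v v' 0) ≤ bodd (Fintype.card F) (n - 1) := by
    rw [hW.hf]; omega
  obtain ⟨hσ, hfeq⟩ := Cfsg.Agent.Lib.Helper86_OO_IRRTOP.irreducible_of_le_minDeg hperf
    (sigmaRep Q ρ ψ v v' L hinv) ⟨E (Qp Q v v') a b, hxW⟩ hne (bodd (Fintype.card F) (n - 1))
    (fun Y _ _ _ τ hτ h2τ => hIH Y τ hτ h2τ) hfle
  rw [hW.hf] at hfeq
  subst hfeq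
  exact ⟨hint, hW, by omega, hσ⟩

end Cfsg.Agent.Lib.Helper48_OOThinLe
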