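/-
Package OO-K-UK of the kill section of S2344 (helper64): Step 4, `dim (KFix ⊓ wsp 0) ≤ 2`.
Abstract form `kfs_le_two`: for an irreducible module of `T Q` with thin data (only singular weights, each a line)
for both orientations of a hyperbolic pair `a, a'`, the vectors fixed by `K = Ω(⟨a,a'⟩^⊥)` form a space of
dimension at most two (Lemma A `kline` + the opposite-radical trick `Helper8_OM_OPP.wsp_zero_inf_opp`).
-/
import Mathlib
import Cfsg.Agent.Lib.Helper64_OOKDefs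
import Cfsg.Agent.Lib.Helper8_OM_OPP
import Cfsg.Agent.Lib.Helper95_OM_GEN
import Cfsg.Agent.Lib.Helper17_MIO_TR
import Cfsg.Agent.Lib.Helper52_MIO_RESTR
import Cfsg.Agent.Lib.Helper73_OP_EXT
import Cfsg.Agent.Lib.Helper9_OO_K_COMP

set_option autoImplicit false

namespace Cfsg.Agent.Lib.Helper64_OO_K_UK

open Module Cfsg.Agent.Lib.Helper94_OrthSmall Cfsg.Agent.Lib.Helper44_QuadClass
  Cfsg.Agent.Lib.Helper14_OmegaSimple Cfsg.Agent.Lib.Helper38_MIODefs
  Cfsg.Agent.Lib.Helper95_OPDefs Cfsg.Agent.Lib.Helper95_OPBasic Cfsg.Agent.Lib.Helper48_OODefs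
  Cfsg.Agent.Lib.Helper64_OOKDefs Cfsg.Agent.Lib.Helper9_OO_K_COMP Cfsg.Agent.Lib.Helper20_MIO_NORM

variable {F V : Type*} [Field F] [Fintype F] [AddCommGroup V] [Module F V] [FiniteDimensional F V]
  {X : Type*} [AddCommGroup X] [Module ℂ X] [FiniteDimensional ℂ X]


omit [Fintype F] [FiniteDimensional F V] [FiniteDimensional ℂ X] in
theorem comp_add_loc (Q : QuadraticForm F V) {v v' : V} [DecidableEq ↥(perp Q v v')]
    (ρ : Representation ℂ ↥(T Q) X) (ψ : AddChar F ℂ)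
    (hint : DirectSum.IsInternal (fun u : ↥(perp Q v v') => wsp Q ρ ψ v v' u))
    (x x₂ : X) (w : ↥(perp Q v v')) :
    comp Q ρ ψ hint (x + x₂) w = comp Q ρ ψ hint x w + comp Q ρ ψ hint x₂ w := by
  unfold comp
  rw [map_add, DirectSum.add_apply]
  rfl

omit [Fintype F] [FiniteDimensional F V] [FiniteDimensional ℂ X] in
theorem comp_smul_loc (Q : QuadraticForm F V) {v v' : V} [DecidableEq ↥(perp Q v v')]
    (ρ : Representation ℂ ↥(T Q) X) (ψ : AddChar F ℂ)
    (hint : DirectSum.IsInternal (fun u : ↥(perp Q v v') => wsp Q ρ ψ v v' u))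
    (c : ℂ) (x : X) (w : ↥(perp Q v v')) :
    comp Q ρ ψ hint (c • x) w = c • comp Q ρ ψ hint x w := by
  unfold comp
  rw [map_smul, DirectSum.smul_apply]
  rfl

/-- the vectors fixed by the Siegel elements of the complement of the hyperbolic pair `a, a'` -/
def KFs (Q : QuadraticForm F V) (τ : Representation ℂ ↥(T Q) X) (a a' : V) : Submodule ℂ X where
  carrier := {x | ∀ p r : V, QuadraticMap.polar (⇑Q) p a = 0 → QuadraticMap.polar (⇑Q) p a' = 0 →
    QuadraticMap.polar (⇑Q) r a = 0 → QuadraticMap.polar (⇑Q) r a' = 0 → Q p = 0 →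
    QuadraticMap.polar (⇑Q) p r = 0 → repE Q τ (E Q p r) x = x}
  add_mem' := by
    intro x y hx hy p r h1 h2 h3 h4 h5 h6
    rw [map_add, hx p r h1 h2 h3 h4 h5 h6, hy p r h1 h2 h3 h4 h5 h6]
  zero_mem' := by
    intro p r _ _ _ _ _ _
    rw [map_zero]
  smul_mem' := by
    intro c x hx p r h1 h2 h3 h4 h5 h6
    rw [map_smul, hx p r h1 h2 h3 h4 h5 h6]

theorem KFs_swap (Q : QuadraticForm F V) (τ : Representation ℂ ↥(T Q) X) (a a' : V) :
    KFs Q τ a' a = KFs Q τ a a' := by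
  ext x
  constructor
  · intro h p r h1 h2 h3 h4 h5 h6
    exact h p r h2 h1 h4 h3 h5 h6
  · intro h p r h1 h2 h3 h4 h5 h6
    exact h p r h2 h1 h4 h3 h5 h6

/-- the components of a `K`-fixed vector are permuted -/
theorem comp_fix (Q : QuadraticForm F V) (hQ : (QuadraticMap.polarBilin Q).Nondegenerate)
    (hdim : 5 ≤ finrank F V) {a a' : V} (ha : Q a = 0)
    (τ : Representation ℂ ↥(T Q) X) (ψ : AddChar F ℂ) [DecidableEq ↥(perp Q a a')]
    (hint : DirectSum.IsInternal (fun y : ↥(perp Q a a') => wsp Q τ ψ a a' y))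
    (x : X) (hx : x ∈ KFs Q τ a a') (p r : ↥(perp Q a a')) (hp : Qp Q a a' p = 0)
    (hpr : QuadraticMap.polar (⇑(Qp Q a a')) p r = 0) (y : ↥(perp Q a a')) :
    comp Q τ ψ hint x (E (Qp Q a a') p r y) =
      repE Q τ (E Q (p : V) (r : V)) (comp Q τ ψ hint x y) := by
  have hpV : Q (p : V) = 0 := hp
  have hprV : QuadraticMap.polar (⇑Q) (p : V) (r : V) = 0 := by
    rw [← polar_comp_subtype]; exact hpr
  have hg : E Q (p : V) (r : V) ∈ T Q := E_mem_T Q hQ hdim hpV hprV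
  have hap : QuadraticMap.polar (⇑Q) a (p : V) = 0 := polar_v_perp Q p
  have har : QuadraticMap.polar (⇑Q) a (r : V) = 0 := polar_v_perp Q r
  have ha'p : QuadraticMap.polar (⇑Q) a' (p : V) = 0 := ((mem_perp Q a a').1 p.2).2
  have ha'r : QuadraticMap.polar (⇑Q) a' (r : V) = 0 := ((mem_perp Q a a').1 r.2).2
  have hga : E Q (p : V) (r : V) a = (1 : F) • a := by
    rw [E_apply Q hpV hprV, hap, har, one_smul]
    simp
  have hφ : ∀ w : ↥(perp Q a a'),
      ((E (Qp Q a a') p r w : ↥(perp Q a a')) : V) = E Q (p : V) (r : V) (w : V) :=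
    fun w => Cfsg.Agent.Lib.Helper52_MIO_RESTR.restr Q a a' p r w hpV hprV
  have hfix : repE Q τ (E Q (p : V) (r : V)) x = x := by
    apply hx (p : V) (r : V)
    · rw [QuadraticMap.polar_comm]; exact hap
    · rw [QuadraticMap.polar_comm]; exact ha'p
    · rw [QuadraticMap.polar_comm]; exact har
    · rw [QuadraticMap.polar_comm]; exact ha'r
    · exact hpV
    · exact hprV
  have := comp_map Q hQ hdim ha τ ψ hint (E Q (p : V) (r : V)) hg 1 one_ne_zero hga
    (E (Qp Q a a') p r) hφ x y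
  rw [hfix, inv_one, one_smul] at this
  exact this

/-- `repE` of an element of `T Q` is injective -/
theorem repE_injective (Q : QuadraticForm F V) (τ : Representation ℂ ↥(T Q) X) {g : V ≃ₗ[F] V}
    (hg : g ∈ T Q) : Function.Injective (repE Q τ g) := by
  have hgi : g⁻¹ ∈ T Q := Subgroup.inv_mem _ hg
  have h2 : repE Q τ g⁻¹ * repE Q τ g = 1 := by
    rw [← repE_mul Q τ hgi hg, inv_mul_cancel, repE_one]
  intro x y hxy
  have := congrArg (repE Q τ g⁻¹) hxy
  rwa [← Module.End.mul_apply, ← Module.End.mul_apply, h2] at this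

/-- **Lemma A**: the `K`-fixed vectors with vanishing `0`-component form at most a line. -/
theorem kline (Q : QuadraticForm F V) (hQ : (QuadraticMap.polarBilin Q).Nondegenerate)
    (hdim : 7 ≤ finrank F V) {a a' : V} (ha : Q a = 0) (ha' : Q a' = 0)
    (haa' : QuadraticMap.polar (⇑Q) a a' = 1)
    (τ : Representation ℂ ↥(T Q) X) (ψ : AddChar F ℂ) [DecidableEq ↥(perp Q a a')]
    (hint : DirectSum.IsInternal (fun y : ↥(perp Q a a') => wsp Q τ ψ a a' y))
    (f : ℕ) (hW : WData Q τ ψ a a' 1 f) (N : Submodule ℂ X) (hNK : N ≤ KFs Q τ a a')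
    (hN0 : ∀ x ∈ N, comp Q τ ψ hint x 0 = 0) : finrank ℂ ↥N ≤ 1 := by
  classical
  have hfinW : Finite ↥(perp Q a a') := Module.finite_of_finite F
  have := Fintype.ofFinite ↥(perp Q a a')
  have hQ2 := nondegenerate_perp hQ ha ha' haa'
  have hdim2 : 5 ≤ finrank F ↥(perp Q a a') := by
    have := finrank_perp ha ha' haa'
    omega
  have hdim5 : 5 ≤ finrank F V := by omega
  -- invariance of the vanishing of the components
  have hconst : ∀ x ∈ N, ∀ y y' : ↥(perp Q a a'), y ≠ 0 → y' ≠ 0 → Qp Q a a' y = Qp Q a a' y' →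
      (comp Q τ ψ hint x y = 0 ↔ comp Q τ ψ hint x y' = 0) := by
    intro x hx y y' hy hy' hyy'
    have := Cfsg.Agent.Lib.Helper17_MIO_TR.tr_const (Qp Q a a') hQ2 hdim2
      (fun y => comp Q τ ψ hint x y = 0) (by
        intro u z hu huz w
        have h1 := comp_fix Q hQ hdim5 ha τ ψ hint x (hNK hx) u z hu huz w
        have hg : E Q (u : V) (z : V) ∈ T Q := E_mem_T Q hQ hdim5 hu (by
          rw [← polar_comp_subtype]; exact huz)
        apply propext
        rw [h1]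
        constructor
        · intro h
          apply repE_injective Q τ hg
          rw [h, map_zero]
        · intro h
          rw [h, map_zero]) hy hy' hyy'
    exact Iff.of_eq this
  -- all components vanish as soon as one singular component does
  have hall : ∀ x ∈ N, ∀ y₀ : ↥(perp Q a a'), y₀ ≠ 0 → Qp Q a a' y₀ = 0 →
      comp Q τ ψ hint x y₀ = 0 → x = 0 := by
    intro x hx y₀ hy₀ hQy₀ h0
    rw [← sum_comp Q τ ψ hint x]
    apply Finset.sum_eq_zero
    intro y _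
    by_cases hy : y = 0
    · rw [hy]; exact hN0 x hx
    by_cases hQy : Qp Q a a' y = 0
    · exact (hconst x hx y₀ y hy₀ hy (by rw [hQy₀, hQy])).mp h0
    · have hm := comp_mem Q τ ψ hint x y
      rw [hW.hns y hQy, Submodule.mem_bot] at hm
      exact hm
  by_cases hex : ∃ y₀ : ↥(perp Q a a'), y₀ ≠ 0 ∧ Qp Q a a' y₀ = 0
  · obtain ⟨y₀, hy₀, hQy₀⟩ := hex
    let Ψ : ↥N →ₗ[ℂ] ↥(wsp Q τ ψ a a' y₀) :=
      { toFun := fun x => ⟨comp Q τ ψ hint (x : X) y₀, comp_mem Q τ ψ hint (x : X) y₀⟩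
        map_add' := by
          intro x y
          apply Subtype.ext
          exact comp_add_loc Q τ ψ hint (x : X) (y : X) y₀
        map_smul' := by
          intro c x
          apply Subtype.ext
          exact comp_smul_loc Q τ ψ hint c (x : X) y₀ }
    have hinj : Function.Injective Ψ := by
      rw [← LinearMap.ker_eq_bot, LinearMap.ker_eq_bot']
      intro x hx
      apply Subtype.ext
      exact hall (x : X) x.2 y₀ hy₀ hQy₀ (congrArg Subtype.val hx)
    have := LinearMap.finrank_le_finrank_of_injective hinj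
    rw [hW.he y₀ hy₀ hQy₀] at this
    exact this
  · push Not at hex
    have hbot : N = ⊥ := by
      rw [eq_bot_iff]
      intro x hx
      rw [Submodule.mem_bot, ← sum_comp Q τ ψ hint x]
      apply Finset.sum_eq_zero
      intro y _
      by_cases hy : y = 0
      · rw [hy]; exact hN0 x hx
      · have hQy := hex y hy
        have hm := comp_mem Q τ ψ hint x y
        rw [hW.hns y hQy, Submodule.mem_bot] at hm
        exact hm
    rw [hbot, finrank_bot]
    omega





/-- the `0`-component of a `K`-fixed vector is `K`-fixed -/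
theorem comp_zero_mem_KFs (Q : QuadraticForm F V) (hQ : (QuadraticMap.polarBilin Q).Nondegenerate)
    (hdim : 5 ≤ finrank F V) {a a' : V} (ha : Q a = 0)
    (τ : Representation ℂ ↥(T Q) X) (ψ : AddChar F ℂ) [DecidableEq ↥(perp Q a a')]
    (hint : DirectSum.IsInternal (fun y : ↥(perp Q a a') => wsp Q τ ψ a a' y))
    (x : X) (hx : x ∈ KFs Q τ a a') : comp Q τ ψ hint x 0 ∈ KFs Q τ a a' := by
  intro p r h1 h2 h3 h4 h5 h6
  have hpm : p ∈ perp Q a a' := by
    rw [mem_perp]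
    exact ⟨by rw [QuadraticMap.polar_comm]; exact h1, by rw [QuadraticMap.polar_comm]; exact h2⟩
  have hrm : r ∈ perp Q a a' := by
    rw [mem_perp]
    exact ⟨by rw [QuadraticMap.polar_comm]; exact h3, by rw [QuadraticMap.polar_comm]; exact h4⟩
  have := comp_fix Q hQ hdim ha τ ψ hint x hx ⟨p, hpm⟩ ⟨r, hrm⟩ h5
    (by rw [polar_comp_subtype]; exact h6) 0
  rw [map_zero] at this
  exact this.symm





/-- the component map as a linear map -/
noncomputable def compL (Q : QuadraticForm F V) {a a' : V} [DecidableEq ↥(perp Q a a')]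
    (τ : Representation ℂ ↥(T Q) X) (ψ : AddChar F ℂ)
    (hint : DirectSum.IsInternal (fun y : ↥(perp Q a a') => wsp Q τ ψ a a' y))
    (w : ↥(perp Q a a')) : X →ₗ[ℂ] X where
  toFun := fun x => comp Q τ ψ hint x w
  map_add' := fun x y => comp_add_loc Q τ ψ hint x y w
  map_smul' := fun c x => comp_smul_loc Q τ ψ hint c x w

/-- a vector of a weight space is its own component -/
theorem comp_self (Q : QuadraticForm F V) {a a' : V} [DecidableEq ↥(perp Q a a')]
    (τ : Representation ℂ ↥(T Q) X) (ψ : AddChar F ℂ)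
    (hint : DirectSum.IsInternal (fun y : ↥(perp Q a a') => wsp Q τ ψ a a' y))
    (w₀ : ↥(perp Q a a')) (y : X) (hy : y ∈ wsp Q τ ψ a a' w₀) :
    comp Q τ ψ hint y w₀ = y := by
  classical
  have hfinW : Finite ↥(perp Q a a') := Module.finite_of_finite F
  have := Fintype.ofFinite ↥(perp Q a a')
  have h := comp_unique Q τ ψ hint y (fun w => if w = w₀ then y else 0) (by
    intro w
    by_cases hw : w = w₀
    · rw [if_pos hw, hw]; exact hy
    · rw [if_neg hw]; exact Submodule.zero_mem _) (by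
    rw [Finset.sum_ite_eq' Finset.univ w₀ (fun _ => y), if_pos (Finset.mem_univ _)]) w₀
  rw [h, if_pos rfl]

/-- **Step 4 in abstract form**: the `K`-fixed vectors of an irreducible module with thin data for both
orientations of a hyperbolic pair form a space of dimension at most two. -/
theorem kfs_le_two (Q : QuadraticForm F V) (hQ : (QuadraticMap.polarBilin Q).Nondegenerate)
    (hdim : 7 ≤ finrank F V) {a a' : V} (ha : Q a = 0) (ha' : Q a' = 0)
    (haa' : QuadraticMap.polar (⇑Q) a a' = 1)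
    (τ : Representation ℂ ↥(T Q) X) (hirr : τ.IsIrreducible) (h2 : 2 ≤ finrank ℂ X)
    (ψ : AddChar F ℂ) [DecidableEq ↥(perp Q a a')] [DecidableEq ↥(perp Q a' a)]
    (hint₁ : DirectSum.IsInternal (fun y : ↥(perp Q a a') => wsp Q τ ψ a a' y))
    (f₁ : ℕ) (hW₁ : WData Q τ ψ a a' 1 f₁)
    (hint₂ : DirectSum.IsInternal (fun y : ↥(perp Q a' a) => wsp Q τ ψ a' a y))
    (f₂ : ℕ) (hW₂ : WData Q τ ψ a' a 1 f₂) :
    finrank ℂ ↥(KFs Q τ a a') ≤ 2 := by
  have hdim5 : 5 ≤ finrank F V := by omega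
  have ha'a : QuadraticMap.polar (⇑Q) a' a = 1 := by rw [QuadraticMap.polar_comm]; exact haa'
  have hgen := Cfsg.Agent.Lib.Helper95_OM_GEN.T_le_closure_rad_opp Q hQ hdim5 ha ha' haa'
  -- Step 1
  let g : ↥(KFs Q τ a a') →ₗ[ℂ] X := (compL Q τ ψ hint₁ 0).domRestrict (KFs Q τ a a')
  have hrk := LinearMap.finrank_range_add_finrank_ker g
  -- the kernel
  have hker : finrank ℂ ↥(LinearMap.ker g) ≤ 1 := by
    have hN := kline Q hQ hdim ha ha' haa' τ ψ hint₁ f₁ hW₁
      ((LinearMap.ker g).map (KFs Q τ a a').subtype) (by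
        rintro _ ⟨x, _, rfl⟩
        exact x.2) (by
        rintro _ ⟨x, hx, rfl⟩
        exact hx)
    have he := (Submodule.equivMapOfInjective (KFs Q τ a a').subtype
      (KFs Q τ a a').injective_subtype (LinearMap.ker g)).finrank_eq
    omega
  -- the range
  have hrange : finrank ℂ ↥(LinearMap.range g) ≤ 1 := by
    -- the map `x ↦ x - comp₂ x 0` on the range
    let Φ : ↥(LinearMap.range g) →ₗ[ℂ] X :=
      (LinearMap.id - compL Q τ ψ hint₂ 0).domRestrict (LinearMap.range g)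
    have hrangeK : ∀ y ∈ LinearMap.range g, y ∈ KFs Q τ a a' ∧ y ∈ wsp Q τ ψ a a' 0 := by
      rintro _ ⟨x, rfl⟩
      exact ⟨comp_zero_mem_KFs Q hQ hdim5 ha τ ψ hint₁ x x.2, comp_mem Q τ ψ hint₁ x 0⟩
    have hΦinj : Function.Injective Φ := by
      rw [← LinearMap.ker_eq_bot, LinearMap.ker_eq_bot']
      intro y hy
      apply Subtype.ext
      have hy' : (y : X) - comp Q τ ψ hint₂ (y : X) 0 = 0 := hy
      have hy2 : (y : X) ∈ wsp Q τ ψ a' a 0 := by
        rw [sub_eq_zero.mp hy']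
        exact comp_mem Q τ ψ hint₂ (y : X) 0
      exact Cfsg.Agent.Lib.Helper8_OM_OPP.wsp_zero_inf_opp Q hQ hdim5 ha ha' haa' hgen τ hirr h2 ψ
        (y : X) (hrangeK y y.2).2 hy2
    have hN := kline Q hQ hdim ha' ha ha'a τ ψ hint₂ f₂ hW₂ (LinearMap.range Φ) (by
        rintro _ ⟨y, rfl⟩
        rw [KFs_swap]
        have h1 := (hrangeK y y.2).1
        have h3 : comp Q τ ψ hint₂ (y : X) 0 ∈ KFs Q τ a' a :=
          comp_zero_mem_KFs Q hQ hdim5 ha' τ ψ hint₂ (y : X) (by rw [KFs_swap]; exact h1)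
        rw [KFs_swap] at h3
        exact Submodule.sub_mem _ h1 h3) (by
        rintro _ ⟨y, rfl⟩
        show comp Q τ ψ hint₂ ((y : X) - comp Q τ ψ hint₂ (y : X) 0) 0 = 0
        have h4 : (y : X) - comp Q τ ψ hint₂ (y : X) 0 =
            (y : X) + (-1 : ℂ) • comp Q τ ψ hint₂ (y : X) 0 := by
          rw [neg_one_smul, sub_eq_add_neg]
        rw [h4, comp_add_loc, comp_smul_loc,
          comp_self Q τ ψ hint₂ 0 _ (comp_mem Q τ ψ hint₂ (y : X) 0), neg_one_smul, add_neg_cancel])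
    have := LinearMap.finrank_range_of_inj hΦinj
    omega
  omega





/-! ## OO-K-UK (L) -/
theorem uk_le_two (Q : QuadraticForm F V) (hQ : (QuadraticMap.polarBilin Q).Nondegenerate)
    (hdim : 9 ≤ finrank F V) {v v' : V} (hv : Q v = 0) (hv' : Q v' = 0)
    (hvv' : QuadraticMap.polar (⇑Q) v v' = 1) (a a' : ↥(perp Q v v'))
    (ha : Qp Q v v' a = 0) (ha' : Qp Q v v' a' = 0)
    (haa' : QuadraticMap.polar (⇑(Qp Q v v')) a a' = 1)
    (ρ : Representation ℂ ↥(T Q) X) (ψ : AddChar F ℂ) (hψ : ψ ≠ 1)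
    (L : LeviHom Q v v')
    (hinv : ∀ (g : ↥(T (Qp Q v v'))) (x : X), x ∈ wsp Q ρ ψ v v' 0 →
      ρ (L.ι g) x ∈ wsp Q ρ ψ v v' 0)
    (hσ : (sigmaRep Q ρ ψ v v' L hinv).IsIrreducible)
    (h2 : 2 ≤ finrank ℂ ↥(wsp Q ρ ψ v v' 0))
    [DecidableEq ↥(perp (Qp Q v v') a a')] [DecidableEq ↥(perp (Qp Q v v') a' a)]
    (hint₁ : DirectSum.IsInternal (fun y : ↥(perp (Qp Q v v') a a') =>
      wsp (Qp Q v v') (sigmaRep Q ρ ψ v v' L hinv) ψ a a' y))
    (f₁ : ℕ) (hW₁ : WData (Qp Q v v') (sigmaRep Q ρ ψ v v' L hinv) ψ a a' 1 f₁)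
    (hint₂ : DirectSum.IsInternal (fun y : ↥(perp (Qp Q v v') a' a) =>
      wsp (Qp Q v v') (sigmaRep Q ρ ψ v v' L hinv) ψ a' a y))
    (f₂ : ℕ) (hW₂ : WData (Qp Q v v') (sigmaRep Q ρ ψ v v' L hinv) ψ a' a 1 f₂) :
    finrank ℂ ↥(KFix Q ρ v v' a a' ⊓ wsp Q ρ ψ v v' 0) ≤ 2 := by
  have hQW := nondegenerate_perp hQ hv hv' hvv'
  have hdimW : 7 ≤ finrank F ↥(perp Q v v') := by
    have := finrank_perp hv hv' hvv'
    omega
  have hdimW5 : 5 ≤ finrank F ↥(perp Q v v') := by omega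
  have hmain := kfs_le_two (Qp Q v v') hQW hdimW ha ha' haa' (sigmaRep Q ρ ψ v v' L hinv) hσ h2 ψ
    hint₁ f₁ hW₁ hint₂ f₂ hW₂
  -- the bridge
  have hbridge : ∀ x : ↥(wsp Q ρ ψ v v' 0), (x : X) ∈ KFix Q ρ v v' a a' →
      x ∈ KFs (Qp Q v v') (sigmaRep Q ρ ψ v v' L hinv) a a' := by
    intro x hx p r h1 h2' h3 h4 h5 h6
    have hmem : E (Qp Q v v') p r ∈ T (Qp Q v v') := E_mem_T (Qp Q v v') hQW hdimW5 h5 h6
    rw [repE_of_mem (Qp Q v v') _ hmem]
    apply Subtype.ext
    rw [sigmaRep_apply, ← repE_coe Q ρ,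
      Cfsg.Agent.Lib.Helper73_OP_EXT.leviHom_E Q hQ hv hv' hvv' L p r h5 h6 hmem]
    exact hx p r h1 h2' h3 h4 h5 h6
  let Φ : ↥(KFix Q ρ v v' a a' ⊓ wsp Q ρ ψ v v' 0) →ₗ[ℂ]
      ↥(KFs (Qp Q v v') (sigmaRep Q ρ ψ v v' L hinv) a a') :=
    { toFun := fun x => ⟨⟨(x : X), x.2.2⟩, hbridge ⟨(x : X), x.2.2⟩ x.2.1⟩
      map_add' := fun x y => rfl
      map_smul' := fun c x => rfl }
  have hΦ : Function.Injective Φ := by
    intro x y hxy
    apply Subtype.ext
    exact congrArg (fun z : ↥(KFs (Qp Q v v') (sigmaRep Q ρ ψ v v' L hinv) a a') =>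
      ((z : ↥(wsp Q ρ ψ v v' 0)) : X)) hxy
  have := LinearMap.finrank_le_finrank_of_injective hΦ
  omega



end Cfsg.Agent.Lib.Helper64_OO_K_UK
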