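import Mathlib
import Cfsg.Agent.Lib.Helper64_OOKDefs
import Cfsg.Agent.Lib.Helper9_OO_K_COMP
import Cfsg.Agent.Lib.Helper86_OO_K_WSUPP
import Cfsg.Agent.Lib.Helper52_MIO_RESTR
import Cfsg.Agent.Lib.Helper17_MIO_TR

set_option autoImplicit false

/-!
# OO-K-H1 (market `oo_packages` of helper64, kill section of S2344)

Hypothesis (H1) of Lemma X: the joint weight spaces `wt2(α, β)`, `α, β ≠ 0`, of the two root groups
`x(u) = E(v, u a')`, `z(u) = E(v, u a)` inside `KFix` have dimension at most one.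
-/

namespace Cfsg.Agent.Lib.Helper82_OO_K_H1

open Module Cfsg.Agent.Lib.Helper94_OrthSmall Cfsg.Agent.Lib.Helper44_QuadClass
  Cfsg.Agent.Lib.Helper14_OmegaSimple Cfsg.Agent.Lib.Helper38_MIODefs
  Cfsg.Agent.Lib.Helper95_OPDefs Cfsg.Agent.Lib.Helper95_OPBasic Cfsg.Agent.Lib.Helper48_OODefs
  Cfsg.Agent.Lib.Helper64_OOKDefs

section geometry

variable {F V : Type*} [Field F] [AddCommGroup V] [Module F V]

/-- a singular vector `w` with `B(w, a') = α`, `B(w, a) = β` is `α a + β a' + y₀` with `y₀ ⊥ a, a'` and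
`Q y₀ = -αβ` -/
theorem decomp (Q : QuadraticForm F V) {a a' : V} (ha : Q a = 0) (ha' : Q a' = 0)
    (haa' : QuadraticMap.polar (⇑Q) a a' = 1) (α β : F) (w : V) (hw : Q w = 0)
    (hwa' : QuadraticMap.polar (⇑Q) w a' = α) (hwa : QuadraticMap.polar (⇑Q) w a = β) :
    ∃ y₀ : ↥(perp Q a a'), w = α • a + β • a' + (y₀ : V) ∧ Qp Q a a' y₀ = -(α * β) := by
  have ha'a : QuadraticMap.polar (⇑Q) a' a = 1 := by rw [QuadraticMap.polar_comm]; exact haa'
  have h1 : QuadraticMap.polar (⇑Q) a (w - α • a - β • a') = 0 := by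
    rw [QuadraticMap.polar_sub_right, QuadraticMap.polar_sub_right, QuadraticMap.polar_smul_right,
      QuadraticMap.polar_smul_right, polar_self', ha, haa', QuadraticMap.polar_comm, hwa]
    simp
  have h2 : QuadraticMap.polar (⇑Q) a' (w - α • a - β • a') = 0 := by
    rw [QuadraticMap.polar_sub_right, QuadraticMap.polar_sub_right, QuadraticMap.polar_smul_right,
      QuadraticMap.polar_smul_right, polar_self', ha', ha'a, QuadraticMap.polar_comm, hwa']
    simp
  have hmem : w - α • a - β • a' ∈ perp Q a a' := (mem_perp Q a a').mpr ⟨h1, h2⟩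
  refine ⟨⟨w - α • a - β • a', hmem⟩, ?_, ?_⟩
  · simp only
    abel
  · have e : w = (α • a + β • a') + (w - α • a - β • a') := by abel
    have h3 : Q ((α • a + β • a') + (w - α • a - β • a')) = 0 := by rw [← e]; exact hw
    have hA : Q (α • a + β • a') = α * β := by
      rw [QuadraticMap.map_add (⇑Q), QuadraticMap.map_smul, QuadraticMap.map_smul, ha, ha',
        QuadraticMap.polar_smul_left, QuadraticMap.polar_smul_right, haa']
      simp
    have hB : QuadraticMap.polar (⇑Q) (α • a + β • a') (w - α • a - β • a') = 0 := by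
      rw [QuadraticMap.polar_add_left, QuadraticMap.polar_smul_left, QuadraticMap.polar_smul_left, h1,
        h2]
      simp
    rw [QuadraticMap.map_add (⇑Q), hA, hB] at h3
    have h4 : Qp Q a a' ⟨w - α • a - β • a', hmem⟩ = Q (w - α • a - β • a') := rfl
    rw [h4]
    linear_combination h3

end geometry

section partC2

variable {F V : Type*} [Field F] [Fintype F] [AddCommGroup V] [Module F V] [FiniteDimensional F V]
  {X : Type*} [AddCommGroup X] [Module ℂ X] [FiniteDimensional ℂ X]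

omit [FiniteDimensional ℂ X] in
/-- a Siegel element of `W₂ = ⟨a, a'⟩^⊥ ⊆ W` moves `α a + β a' + y₀` to `α a + β a' + E_{W₂}(p, r) y₀` -/
theorem E_label (Q : QuadraticForm F V) {a a' : V} (α β : F) (p r y₀ : ↥(perp Q a a'))
    (hp : Qp Q a a' p = 0) (hpr : QuadraticMap.polar (⇑(Qp Q a a')) p r = 0) :
    E Q (p : V) (r : V) (α • a + β • a' + (y₀ : V)) =
      α • a + β • a' + ((E (Qp Q a a') p r y₀ : ↥(perp Q a a')) : V) := by
  have hp' : Q (p : V) = 0 := hp
  have hpr' : QuadraticMap.polar (⇑Q) (p : V) (r : V) = 0 := by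
    rw [← polar_comp_subtype]
    exact hpr
  have hap := ((mem_perp Q a a').mp p.2)
  have har := ((mem_perp Q a a').mp r.2)
  have e1 : E Q (p : V) (r : V) a = a := by
    rw [E_apply Q hp' hpr', hap.1, har.1]
    simp
  have e2 : E Q (p : V) (r : V) a' = a' := by
    rw [E_apply Q hp' hpr', hap.2, har.2]
    simp
  rw [map_add, map_add, map_smul, map_smul, e1, e2,
    Cfsg.Agent.Lib.Helper52_MIO_RESTR.restr Q a a' p r y₀ hp' hpr']

omit [Fintype F] [FiniteDimensional F V] [FiniteDimensional ℂ X] in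
/-- the operators of the elements of `T Q` are injective -/
theorem repE_eq_zero_iff (Q : QuadraticForm F V) (ρ : Representation ℂ ↥(T Q) X) {g : V ≃ₗ[F] V}
    (hg : g ∈ T Q) (x : X) : repE Q ρ g x = 0 ↔ x = 0 := by
  rw [repE_of_mem Q ρ hg]
  constructor
  · intro h
    have h2 := ρ.inv_self_apply ⟨g, hg⟩ x
    rw [h, map_zero] at h2
    exact h2.symm
  · rintro rfl
    exact map_zero _

/-! ## OO-K-H1 (L) -/
theorem h1 (Q : QuadraticForm F V) (hQ : (QuadraticMap.polarBilin Q).Nondegenerate)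
    (hdim : 9 ≤ finrank F V) {v v' : V} (hv : Q v = 0) (hv' : Q v' = 0)
    (hvv' : QuadraticMap.polar (⇑Q) v v' = 1) (a a' : ↥(perp Q v v'))
    (ha : Qp Q v v' a = 0) (ha' : Qp Q v v' a' = 0)
    (haa' : QuadraticMap.polar (⇑(Qp Q v v')) a a' = 1)
    (ρ : Representation ℂ ↥(T Q) X) (ψ : AddChar F ℂ) (hψ : ψ ≠ 1)
    [DecidableEq ↥(perp Q v v')]
    (hint : DirectSum.IsInternal (fun u : ↥(perp Q v v') => wsp Q ρ ψ v v' u))
    (f : ℕ) (hW : WData Q ρ ψ v v' 1 f) (α β : F) (hα : α ≠ 0) (hβ : β ≠ 0) :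
    finrank ℂ ↥(wt2 ψ (opX Q ρ v (a' : V)) (opX Q ρ v (a : V)) (KFix Q ρ v v' a a') α β) ≤ 1 := by
  classical
  have hfinV : Finite V := Module.finite_of_finite F
  let _ : Fintype ↥(perp Q v v') := Fintype.ofFinite _
  have hQW : (QuadraticMap.polarBilin (Qp Q v v')).Nondegenerate :=
    nondegenerate_perp hQ hv hv' hvv'
  have hQ2 : (QuadraticMap.polarBilin (Qp (Qp Q v v') a a')).Nondegenerate :=
    nondegenerate_perp hQW ha ha' haa'
  have hd1 : finrank F ↥(perp Q v v') + 2 = finrank F V := finrank_perp hv hv' hvv'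
  have hd2 : finrank F ↥(perp (Qp Q v v') a a') + 2 = finrank F ↥(perp Q v v') :=
    finrank_perp ha ha' haa'
  have hdim2 : 5 ≤ finrank F ↥(perp (Qp Q v v') a a') := by omega
  have hdim5 : 5 ≤ finrank F V := by omega
  obtain ⟨Y, hY⟩ : ∃ Y, Y =
      wt2 ψ (opX Q ρ v (a' : V)) (opX Q ρ v (a : V)) (KFix Q ρ v v' a a') α β := ⟨_, rfl⟩
  rw [← hY]
  -- the support of the components
  have hsupp : ∀ x ∈ Y, ∀ w : ↥(perp Q v v'), comp Q ρ ψ hint x w ≠ 0 →
      Qp Q v v' w = 0 ∧ QuadraticMap.polar (⇑(Qp Q v v')) w a' = α ∧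
        QuadraticMap.polar (⇑(Qp Q v v')) w a = β := by
    intro x hx w hne
    rw [hY, mem_wt2] at hx
    refine ⟨?_, ?_, ?_⟩
    · by_contra hq
      have h := Cfsg.Agent.Lib.Helper9_OO_K_COMP.comp_mem Q ρ ψ hint x w
      rw [hW.hns w hq, Submodule.mem_bot] at h
      exact hne h
    · by_contra hq
      exact hne (Cfsg.Agent.Lib.Helper86_OO_K_WSUPP.comp_eq_zero_of_eigen Q hQ hdim5 hv ρ ψ hψ hint a' α
        x (fun u => (hx.2 u).1) w hq)
    · by_contra hq
      exact hne (Cfsg.Agent.Lib.Helper86_OO_K_WSUPP.comp_eq_zero_of_eigen Q hQ hdim5 hv ρ ψ hψ hint a β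
        x (fun u => (hx.2 u).2) w hq)
  -- equivariance under the generators of `K`
  have hequi : ∀ x ∈ Y, ∀ p r : ↥(perp (Qp Q v v') a a'), Qp (Qp Q v v') a a' p = 0 →
      QuadraticMap.polar (⇑(Qp (Qp Q v v') a a')) p r = 0 → ∀ w : ↥(perp Q v v'),
      (comp Q ρ ψ hint x (E (Qp Q v v') (p : ↥(perp Q v v')) (r : ↥(perp Q v v')) w) = 0 ↔
        comp Q ρ ψ hint x w = 0) := by
    intro x hx p r hp hpr w
    rw [hY, mem_wt2] at hx
    have hpW : Qp Q v v' (p : ↥(perp Q v v')) = 0 := hp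
    have hprW : QuadraticMap.polar (⇑(Qp Q v v')) (p : ↥(perp Q v v')) (r : ↥(perp Q v v')) = 0 := by
      rw [← polar_comp_subtype]
      exact hpr
    have hpV : Q ((p : ↥(perp Q v v')) : V) = 0 := hpW
    have hprV : QuadraticMap.polar (⇑Q) ((p : ↥(perp Q v v')) : V) ((r : ↥(perp Q v v')) : V) = 0 := by
      rw [← polar_comp_subtype]
      exact hprW
    have hg : E Q ((p : ↥(perp Q v v')) : V) ((r : ↥(perp Q v v')) : V) ∈ T Q :=
      E_mem_T Q hQ hdim5 hpV hprV
    have hvp := ((mem_perp Q v v').mp (p : ↥(perp Q v v')).2).1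
    have hvr := ((mem_perp Q v v').mp (r : ↥(perp Q v v')).2).1
    have hgv : E Q ((p : ↥(perp Q v v')) : V) ((r : ↥(perp Q v v')) : V) v = (1 : F) • v := by
      rw [E_apply Q hpV hprV, hvp, hvr]
      simp
    have hfix : repE Q ρ (E Q ((p : ↥(perp Q v v')) : V) ((r : ↥(perp Q v v')) : V)) x = x := by
      have hap := (mem_perp (Qp Q v v') a a').mp p.2
      have har := (mem_perp (Qp Q v v') a a').mp r.2
      exact (mem_KFix Q ρ v v' a a' x).mp hx.1 p r (by rw [QuadraticMap.polar_comm]; exact hap.1)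
        (by rw [QuadraticMap.polar_comm]; exact hap.2) (by rw [QuadraticMap.polar_comm]; exact har.1)
        (by rw [QuadraticMap.polar_comm]; exact har.2) hpW hprW
    have hmap := Cfsg.Agent.Lib.Helper9_OO_K_COMP.comp_map Q hQ hdim5 hv ρ ψ hint _ hg 1 one_ne_zero hgv
      (E (Qp Q v v') (p : ↥(perp Q v v')) (r : ↥(perp Q v v')))
      (fun w => Cfsg.Agent.Lib.Helper52_MIO_RESTR.restr Q v v' _ _ w hpV hprV) x w
    rw [hfix, inv_one, one_smul] at hmap
    rw [hmap]
    exact repE_eq_zero_iff Q ρ hg _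
  -- the labels of the support are conjugate under `K`
  have hconst : ∀ x ∈ Y, ∀ w w' : ↥(perp Q v v'),
      (Qp Q v v' w = 0 ∧ QuadraticMap.polar (⇑(Qp Q v v')) w a' = α ∧
        QuadraticMap.polar (⇑(Qp Q v v')) w a = β) →
      (Qp Q v v' w' = 0 ∧ QuadraticMap.polar (⇑(Qp Q v v')) w' a' = α ∧
        QuadraticMap.polar (⇑(Qp Q v v')) w' a = β) →
      comp Q ρ ψ hint x w = 0 → comp Q ρ ψ hint x w' = 0 := by
    intro x hx w w' hw hw' h0
    obtain ⟨y, hwy, hQy⟩ := decomp (Qp Q v v') ha ha' haa' α β w hw.1 hw.2.1 hw.2.2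
    obtain ⟨y', hwy', hQy'⟩ := decomp (Qp Q v v') ha ha' haa' α β w' hw'.1 hw'.2.1 hw'.2.2
    have hαβ : -(α * β) ≠ 0 := neg_ne_zero.mpr (mul_ne_zero hα hβ)
    have hy0 : y ≠ 0 := by
      rintro rfl
      rw [map_zero] at hQy
      exact hαβ hQy.symm
    have hy'0 : y' ≠ 0 := by
      rintro rfl
      rw [map_zero] at hQy'
      exact hαβ hQy'.symm
    have htr := Cfsg.Agent.Lib.Helper17_MIO_TR.tr_const (Qp (Qp Q v v') a a') hQ2 hdim2
      (fun y₀ : ↥(perp (Qp Q v v') a a') =>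
        comp Q ρ ψ hint x (α • a + β • a' + (y₀ : ↥(perp Q v v'))) = 0)
      (fun p r hp hpr y₀ => by
        apply propext
        rw [← E_label (Qp Q v v') α β p r y₀ hp hpr]
        exact hequi x hx p r hp hpr _) hy0 hy'0 (hQy.trans hQy'.symm)
    rw [hwy'] 
    rw [hwy] at h0
    exact htr.mp h0
  have hzero : ∀ x ∈ Y, (∀ w, comp Q ρ ψ hint x w = 0) → x = 0 := by
    intro x _ h
    rw [← Cfsg.Agent.Lib.Helper9_OO_K_COMP.sum_comp Q ρ ψ hint x]
    exact Finset.sum_eq_zero (fun w _ => h w)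
  by_cases hex : ∃ x₁ ∈ Y, ∃ w₀, comp Q ρ ψ hint x₁ w₀ ≠ 0
  · obtain ⟨x₁, hx₁, w₀, hw₀⟩ := hex
    have hS₀ := hsupp x₁ hx₁ w₀ hw₀
    have hw₀ne : w₀ ≠ 0 := by
      rintro rfl
      apply hα
      rw [← hS₀.2.1]
      simp [QuadraticMap.polar]
    have hline : finrank ℂ ↥(wsp Q ρ ψ v v' w₀) = 1 := hW.he w₀ hw₀ne hS₀.1
    let L : ↥Y →ₗ[ℂ] ↥(wsp Q ρ ψ v v' w₀) :=
      LinearMap.codRestrict (wsp Q ρ ψ v v' w₀)
        ((Cfsg.Agent.Lib.Helper86_OO_K_WSUPP.cmp (fun u : ↥(perp Q v v') => wsp Q ρ ψ v v' u) hint w₀) ∘ₗ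
          Y.subtype)
        (fun x => Cfsg.Agent.Lib.Helper9_OO_K_COMP.comp_mem Q ρ ψ hint (x : X) w₀)
    have hL : Function.Injective L := by
      rw [← LinearMap.ker_eq_bot, LinearMap.ker_eq_bot']
      intro x hx0
      have hx0' : comp Q ρ ψ hint (x : X) w₀ = 0 := congrArg Subtype.val hx0
      apply Subtype.ext
      apply hzero x x.2
      intro w
      by_contra hne
      exact hne (hconst x x.2 w₀ w hS₀ (hsupp x x.2 w hne) hx0')
    calc finrank ℂ ↥Y ≤ finrank ℂ ↥(wsp Q ρ ψ v v' w₀) :=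
          LinearMap.finrank_le_finrank_of_injective hL
      _ = 1 := hline
  · push Not at hex
    have hbot : Y = ⊥ := by
      rw [eq_bot_iff]
      intro x hx
      rw [Submodule.mem_bot]
      exact hzero x hx (fun w => hex x hx w)
    rw [hbot, finrank_bot]
    exact Nat.zero_le 1

end partC2

end Cfsg.Agent.Lib.Helper82_OO_K_H1
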