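import Mathlib
import Cfsg.Agent.Lib.Helper64_OOKDefs
import Cfsg.Agent.Lib.Helper22_OO_K_TRIV
import Cfsg.Agent.Lib.Helper29_OO_K_SIGN
import Cfsg.Agent.Lib.Helper41_OO_K_JE

set_option autoImplicit false

/-!
# OO-K-H2 (market `oo_packages` of helper64, kill section of S2344): the hypothesis `HasGen` of Lemma X for `Y = KFix`

`hasGen_aux`: the statement of OO-K-H2 with the conclusions of the packages OO-K-TRIV, OO-K-SIGN and OO-K-JE
(for the label `β • a'`) taken as hypotheses.  `hasGen`: the verbatim statement, from the landed packages.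
-/

namespace Cfsg.Agent.Lib.Helper82_OO_K_H2

open Module Cfsg.Agent.Lib.Helper94_OrthSmall Cfsg.Agent.Lib.Helper44_QuadClass
  Cfsg.Agent.Lib.Helper14_OmegaSimple Cfsg.Agent.Lib.Helper38_MIODefs
  Cfsg.Agent.Lib.Helper95_OPDefs Cfsg.Agent.Lib.Helper95_OPBasic Cfsg.Agent.Lib.Helper48_OODefs
  Cfsg.Agent.Lib.Helper64_OOKDefs

section partD2

variable {F V : Type*} [Field F] [Fintype F] [DecidableEq F] [AddCommGroup V] [Module F V]
  [FiniteDimensional F V] {X : Type*} [AddCommGroup X] [Module ℂ X] [FiniteDimensional ℂ X]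

omit [Fintype F] [DecidableEq F] [FiniteDimensional F V] [FiniteDimensional ℂ X] in
/-- a vector of the weight space of label `β • a'` is fixed by `x(u) = E(v, u a')` and has weight `β` for
`z(u) = E(v, u a)` -/
theorem wsp_smul_weights (Q : QuadraticForm F V) {v v' : V} (a a' : ↥(perp Q v v'))
    (ha' : Qp Q v v' a' = 0) (haa' : QuadraticMap.polar (⇑(Qp Q v v')) a a' = 1)
    (ρ : Representation ℂ ↥(T Q) X) (ψ : AddChar F ℂ) (β : F) (e : X)
    (he : e ∈ wsp Q ρ ψ v v' (β • a')) (u : F) :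
    opX Q ρ v (a' : V) u e = ψ (0 * u) • e ∧ opX Q ρ v (a : V) u e = ψ (β * u) • e := by
  have hqa' : Q (a' : V) = 0 := ha'
  have haa : QuadraticMap.polar (⇑Q) (a : V) (a' : V) = 1 := by
    rw [← polar_comp_subtype]
    exact haa'
  rw [mem_wsp] at he
  constructor
  · have h := he (u • a')
    rw [Submodule.coe_smul, Submodule.coe_smul, QuadraticMap.polar_smul_left,
      QuadraticMap.polar_smul_right, QuadraticMap.polar_self, hqa'] at h
    unfold opX
    rw [h]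
    congr 2
    simp
  · have h := he (u • a)
    rw [Submodule.coe_smul, Submodule.coe_smul, QuadraticMap.polar_smul_left,
      QuadraticMap.polar_smul_right, QuadraticMap.polar_comm, haa] at h
    unfold opX
    rw [h]
    congr 2
    simp

omit [Fintype F] [DecidableEq F] [FiniteDimensional F V] [FiniteDimensional ℂ X] in
/-- the label `β • a'` is a non-zero singular vector -/
theorem smul_ne_zero_singular (Q : QuadraticForm F V) {v v' : V} (a a' : ↥(perp Q v v'))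
    (ha' : Qp Q v v' a' = 0) (haa' : QuadraticMap.polar (⇑(Qp Q v v')) a a' = 1) (β : F) (hβ : β ≠ 0) :
    β • a' ≠ 0 ∧ Qp Q v v' (β • a') = 0 := by
  constructor
  · intro h
    have h2 : QuadraticMap.polar (⇑(Qp Q v v')) a (β • a') = β := by
      rw [QuadraticMap.polar_smul_right, haa', smul_eq_mul, mul_one]
    rw [h] at h2
    apply hβ
    rw [← h2]
    simp [QuadraticMap.polar]
  · rw [QuadraticMap.map_smul, ha', smul_zero]

omit [FiniteDimensional F V] in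
/-- OO-K-H2 with the conclusions of OO-K-TRIV, OO-K-SIGN, OO-K-JE for the label `β • a'` as hypotheses. -/
theorem hasGen_aux (Q : QuadraticForm F V)
    {v v' : V} (a a' : ↥(perp Q v v'))
    (ha' : Qp Q v v' a' = 0)
    (haa' : QuadraticMap.polar (⇑(Qp Q v v')) a a' = 1)
    (ρ : Representation ℂ ↥(T Q) X) (ψ : AddChar F ℂ)
    (f : ℕ) (hW : WData Q ρ ψ v v' 1 f) (β : F) (hβ : β ≠ 0)
    (hTRIV : wsp Q ρ ψ v v' (β • a') ≤ KFix Q ρ v v' a a')
    (hSIGN : ∀ e : X, e ∈ wsp Q ρ ψ v v' (β • a') → ∀ t : F, t ≠ 0 →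
      opD Q ρ v v' (a : V) (a' : V) t e = chi2 t • e)
    (hJE : ∀ e : X, e ∈ wsp Q ρ ψ v v' (β • a') → e ≠ 0 →
      ¬ ∃ c' : ℂ, avg0 (opX Q ρ v (a' : V)) (opS Q ρ v v' (a : V) (a' : V) e) = c' • e) :
    HasGen ψ (opX Q ρ v (a' : V)) (opX Q ρ v (a : V)) (opS Q ρ v v' (a : V) (a' : V))
      (opD Q ρ v v' (a : V) (a' : V)) (KFix Q ρ v v' a a') β := by
  obtain ⟨hne, hsing⟩ := smul_ne_zero_singular Q a a' ha' haa' β hβ
  have hfr : finrank ℂ ↥(wsp Q ρ ψ v v' (β • a')) = 1 := hW.he _ hne hsing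
  have hpos : 0 < finrank ℂ ↥(wsp Q ρ ψ v v' (β • a')) := by
    rw [hfr]
    exact Nat.one_pos
  obtain ⟨⟨e, he⟩, he0⟩ := Module.finrank_pos_iff_exists_ne_zero.mp hpos
  have he0' : e ≠ 0 := by
    intro h
    apply he0
    ext
    exact h
  refine ⟨e, ?_, hSIGN e he, hJE e he he0'⟩
  rw [mem_wt2]
  exact ⟨hTRIV he, fun u => wsp_smul_weights Q a a' ha' haa' ρ ψ β e he u⟩

/-! ## OO-K-H2 (M) -/
theorem hasGen (Q : QuadraticForm F V) (hQ : (QuadraticMap.polarBilin Q).Nondegenerate)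
    (hdim : 9 ≤ finrank F V) (hF : ringChar F ≠ 2) (hq : 4 ≤ Fintype.card F)
    {v v' : V} (hv : Q v = 0) (hv' : Q v' = 0)
    (hvv' : QuadraticMap.polar (⇑Q) v v' = 1) (a a' : ↥(perp Q v v'))
    (ha : Qp Q v v' a = 0) (ha' : Qp Q v v' a' = 0)
    (haa' : QuadraticMap.polar (⇑(Qp Q v v')) a a' = 1)
    (ρ : Representation ℂ ↥(T Q) X) (ψ : AddChar F ℂ) (hψ : ψ ≠ 1)
    [DecidableEq ↥(perp Q v v')]
    (hint : DirectSum.IsInternal (fun u : ↥(perp Q v v') => wsp Q ρ ψ v v' u))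
    (f : ℕ) (hW : WData Q ρ ψ v v' 1 f) (m : ℕ) (hm : 1 ≤ m)
    (hP₂ : IsOddT (Qp (Qp Q v v') a a') m) (β : F) (hβ : β ≠ 0) :
    HasGen ψ (opX Q ρ v (a' : V)) (opX Q ρ v (a : V)) (opS Q ρ v v' (a : V) (a' : V))
      (opD Q ρ v v' (a : V) (a' : V)) (KFix Q ρ v v' a a') β :=
  hasGen_aux Q a a' ha' haa' ρ ψ f hW β hβ
    (Cfsg.Agent.Lib.Helper22_OO_K_TRIV.wsp_le_KFix Q hQ hdim hq hv hv' hvv' a a' ha ha' haa' ρ ψ f hW β hβ)
    (fun e he t ht => Cfsg.Agent.Lib.Helper29_OO_K_SIGN.torus_sign Q hQ hdim hF hv hv' hvv' a a' ha ha' haa'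
      ρ ψ hψ hint f hW m hP₂ β hβ e he t ht)
    (fun e he he0 => Cfsg.Agent.Lib.Helper41_OO_K_JE.je_not_eigen Q hQ hdim hv hv' hvv' a a' ha ha' haa'
      ρ ψ hψ hint f hW m hm hP₂ β hβ e he he0)

end partD2

end Cfsg.Agent.Lib.Helper82_OO_K_H2
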