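import Mathlib
import Cfsg.Agent.Lib.Helper64_OOKDefs

set_option autoImplicit false

/-!
OO-K-KINV (helper89, for helper64's kill section of S2344): the space `KFix` of `K`-fixed vectors is invariant under
the operators `opX`, `opS`, `opD` of the long-root `SL_2` of the quadruple `v, v', a, a'`.
A generator `g = E(p, r)` of `K` fixes `v, v', a, a'`, hence commutes with `x(u)`, `y(u)` (`conj_E`), `n(t)`, `d(t)`.
-/

namespace Cfsg.Agent.Lib.Helper89_OO_K_KINV

open Module Cfsg.Agent.Lib.Helper94_OrthSmall Cfsg.Agent.Lib.Helper44_QuadClass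
  Cfsg.Agent.Lib.Helper14_OmegaSimple Cfsg.Agent.Lib.Helper38_MIODefs
  Cfsg.Agent.Lib.Helper95_OPDefs Cfsg.Agent.Lib.Helper95_OPBasic Cfsg.Agent.Lib.Helper48_OODefs
  Cfsg.Agent.Lib.Helper64_OOKDefs

section aux

variable {F V : Type*} [Field F] [AddCommGroup V] [Module F V]

/-- `E(p, r)` fixes every vector orthogonal to `p` and `r`. -/
theorem E_fix (Q : QuadraticForm F V) {p r x : V} (hp : Q p = 0)
    (hpr : QuadraticMap.polar (⇑Q) p r = 0) (hxp : QuadraticMap.polar (⇑Q) x p = 0)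
    (hxr : QuadraticMap.polar (⇑Q) x r = 0) : E Q p r x = x := by
  rw [E_apply Q hp hpr, hxp, hxr]
  simp

/-- An isometry fixing `u` and `z` commutes with `E(u, z)`. -/
theorem comm_E_of_fix (Q : QuadraticForm F V) {g : V ≃ₗ[F] V} (hg : g ∈ oG (⇑Q)) {u z : V}
    (hu : Q u = 0) (huz : QuadraticMap.polar (⇑Q) u z = 0) (hgu : g u = u) (hgz : g z = z) :
    g * E Q u z = E Q u z * g := by
  have h := conj_E Q hg hu huz
  rw [hgu, hgz] at h
  calc g * E Q u z = g * E Q u z * g⁻¹ * g := by group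
    _ = E Q u z * g := by rw [h]

variable {X : Type*} [AddCommGroup X] [Module ℂ X]

/-- If `g, h ∈ T Q` commute and `g` fixes `y`, then `g` fixes `h y`. -/
theorem repE_fix_of_comm (Q : QuadraticForm F V) (ρ : Representation ℂ ↥(T Q) X)
    {g h : V ≃ₗ[F] V} (hg : g ∈ T Q) (hh : h ∈ T Q) (hc : g * h = h * g) {y : X}
    (hy : repE Q ρ g y = y) : repE Q ρ g (repE Q ρ h y) = repE Q ρ h y := by
  have h1 : repE Q ρ g (repE Q ρ h y) = (repE Q ρ g * repE Q ρ h) y := rfl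
  rw [h1, ← repE_mul Q ρ hg hh, hc, repE_mul Q ρ hh hg]
  change repE Q ρ h (repE Q ρ g y) = _
  rw [hy]

end aux

section main

variable {F V : Type*} [Field F] [Fintype F] [AddCommGroup V] [Module F V] [FiniteDimensional F V]
  {X : Type*} [AddCommGroup X] [Module ℂ X]

theorem kfix_inv (Q : QuadraticForm F V) (hQ : (QuadraticMap.polarBilin Q).Nondegenerate)
    (hdim : 5 ≤ finrank F V) {v v' : V} (hv : Q v = 0) (hv' : Q v' = 0)
    (hvv' : QuadraticMap.polar (⇑Q) v v' = 1) (a a' : ↥(perp Q v v'))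
    (ha : Qp Q v v' a = 0) (ha' : Qp Q v v' a' = 0)
    (haa' : QuadraticMap.polar (⇑(Qp Q v v')) a a' = 1)
    (ρ : Representation ℂ ↥(T Q) X) :
    YInv (KFix Q ρ v v' a a') (opX Q ρ v (a' : V)) (opS Q ρ v v' (a : V) (a' : V))
      (opD Q ρ v v' (a : V) (a' : V)) := by
  have hq := hypQuad_of_perp Q hv hv' hvv' a a' ha ha' haa'
  -- membership in `T Q` of the elements of the long-root `SL_2`
  have hva' : ∀ u : F, QuadraticMap.polar (⇑Q) v (u • (a' : V)) = 0 := fun u => by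
    rw [QuadraticMap.polar_smul_right, hq.va', smul_zero]
  have hav' : ∀ u : F, QuadraticMap.polar (⇑Q) (a : V) (u • v') = 0 := fun u => by
    rw [QuadraticMap.polar_smul_right, QuadraticMap.polar_comm, hq.v'a, smul_zero]
  have hxT : ∀ u : F, E Q v (u • (a' : V)) ∈ T Q := fun u => E_mem_T Q hQ hdim hv (hva' u)
  have hyT : ∀ u : F, E Q (a : V) (u • v') ∈ T Q := fun u => E_mem_T Q hQ hdim hq.qa (hav' u)
  have hnT : ∀ t : F, nn Q v v' (a : V) (a' : V) t ∈ T Q := fun t =>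
    Subgroup.mul_mem _ (Subgroup.mul_mem _ (hxT _) (hyT _)) (hxT _)
  have hdT : ∀ t : F, dd Q v v' (a : V) (a' : V) t ∈ T Q := fun t =>
    Subgroup.mul_mem _ (hnT t) (Subgroup.inv_mem _ (hnT 1))
  -- a generator of `K` commutes with them
  have key : ∀ p r : ↥(perp Q v v'),
      QuadraticMap.polar (⇑(Qp Q v v')) p a = 0 → QuadraticMap.polar (⇑(Qp Q v v')) p a' = 0 →
      QuadraticMap.polar (⇑(Qp Q v v')) r a = 0 → QuadraticMap.polar (⇑(Qp Q v v')) r a' = 0 →
      Qp Q v v' p = 0 → QuadraticMap.polar (⇑(Qp Q v v')) p r = 0 →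
      E Q (p : V) (r : V) ∈ T Q ∧
      (∀ u : F, E Q (p : V) (r : V) * E Q v (u • (a' : V)) =
        E Q v (u • (a' : V)) * E Q (p : V) (r : V)) ∧
      (∀ t : F, E Q (p : V) (r : V) * nn Q v v' (a : V) (a' : V) t =
        nn Q v v' (a : V) (a' : V) t * E Q (p : V) (r : V)) ∧
      (∀ t : F, E Q (p : V) (r : V) * dd Q v v' (a : V) (a' : V) t =
        dd Q v v' (a : V) (a' : V) t * E Q (p : V) (r : V)) := by
    intro p r h1 h2 h3 h4 h5 h6
    rw [polar_comp_subtype] at h1 h2 h3 h4 h6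
    have hp : Q (p : V) = 0 := h5
    have hpv := (mem_perp Q v v').1 p.2
    have hrv := (mem_perp Q v v').1 r.2
    have hgo : E Q (p : V) (r : V) ∈ oG (⇑Q) := E_mem_oG Q hp h6
    have hgT : E Q (p : V) (r : V) ∈ T Q := E_mem_T Q hQ hdim hp h6
    have fv : E Q (p : V) (r : V) v = v := E_fix Q hp h6 hpv.1 hrv.1
    have fv' : E Q (p : V) (r : V) v' = v' := E_fix Q hp h6 hpv.2 hrv.2
    have fa : E Q (p : V) (r : V) (a : V) = a :=
      E_fix Q hp h6 (by rw [QuadraticMap.polar_comm]; exact h1)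
        (by rw [QuadraticMap.polar_comm]; exact h3)
    have fa' : E Q (p : V) (r : V) (a' : V) = a' :=
      E_fix Q hp h6 (by rw [QuadraticMap.polar_comm]; exact h2)
        (by rw [QuadraticMap.polar_comm]; exact h4)
    have cx : ∀ u : F, E Q (p : V) (r : V) * E Q v (u • (a' : V)) =
        E Q v (u • (a' : V)) * E Q (p : V) (r : V) := fun u =>
      comm_E_of_fix Q hgo hv (hva' u) fv (by rw [map_smul, fa'])
    have cy : ∀ u : F, E Q (p : V) (r : V) * E Q (a : V) (u • v') =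
        E Q (a : V) (u • v') * E Q (p : V) (r : V) := fun u =>
      comm_E_of_fix Q hgo hq.qa (hav' u) fa (by rw [map_smul, fv'])
    have cn : ∀ t : F, E Q (p : V) (r : V) * nn Q v v' (a : V) (a' : V) t =
        nn Q v v' (a : V) (a' : V) t * E Q (p : V) (r : V) := fun t => by
      unfold nn
      have c1 : Commute (E Q (p : V) (r : V)) (E Q v ((-t) • (a' : V))) := cx (-t)
      have c2 : Commute (E Q (p : V) (r : V)) (E Q (a : V) (t⁻¹ • v')) := cy t⁻¹
      exact ((c1.mul_right c2).mul_right c1).eq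
    refine ⟨hgT, cx, cn, fun t => ?_⟩
    unfold dd
    have c1 : Commute (E Q (p : V) (r : V)) (nn Q v v' (a : V) (a' : V) t) := cn t
    have c2 : Commute (E Q (p : V) (r : V)) (nn Q v v' (a : V) (a' : V) 1) := cn 1
    exact (c1.mul_right c2.inv_right).eq
  refine ⟨fun u y hy => ?_, fun y hy => ?_, fun t y hy => ?_⟩
  · rw [mem_KFix] at hy ⊢
    intro p r h1 h2 h3 h4 h5 h6
    obtain ⟨hgT, cx, -, -⟩ := key p r h1 h2 h3 h4 h5 h6
    exact repE_fix_of_comm Q ρ hgT (hxT u) (cx u) (hy p r h1 h2 h3 h4 h5 h6)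
  · rw [mem_KFix] at hy ⊢
    intro p r h1 h2 h3 h4 h5 h6
    obtain ⟨hgT, -, cn, -⟩ := key p r h1 h2 h3 h4 h5 h6
    exact repE_fix_of_comm Q ρ hgT (hnT 1) (cn 1) (hy p r h1 h2 h3 h4 h5 h6)
  · rw [mem_KFix] at hy ⊢
    intro p r h1 h2 h3 h4 h5 h6
    obtain ⟨hgT, -, -, cd⟩ := key p r h1 h2 h3 h4 h5 h6
    exact repE_fix_of_comm Q ρ hgT (hdT t) (cd t) (hy p r h1 h2 h3 h4 h5 h6)

end main

end Cfsg.Agent.Lib.Helper89_OO_K_KINV
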