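import Mathlib
import Cfsg.Agent.Lib.Helper64_OOKDefs
import Cfsg.Agent.Lib.Helper41_OO_K_GSUM

/-!
# S2344 kill section (architect helper64), package OO-K-JSQ: `J_mem_Esp`, `J_sq`

`J = P₀ S` preserves the space `Esp` of `X`-fixed `χ₂`-eigenvectors of the torus, and `J² = χ₂(-1)/q` there.
Also the operator lemmas shared with OO-K-JFORM (`key`, `T_formula`-style computations).
-/

set_option autoImplicit false
set_option linter.unusedVariables false
set_option linter.unusedSectionVars false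

namespace Cfsg.Agent.Lib.Helper71_OO_K_JSQ

open Module Cfsg.Agent.Lib.Helper64_OOKDefs Cfsg.Agent.Lib.Helper41_OO_K_GSUM

variable {F : Type*} [Field F] [Fintype F] [DecidableEq F]
  {X : Type*} [AddCommGroup X] [Module ℂ X]

theorem card_ne_zero : (Fintype.card F : ℂ) ≠ 0 := by
  exact_mod_cast (Fintype.card_pos (α := F)).ne'

/-! ### the quadratic character -/

theorem chi2_mul (a b : F) : chi2 (a * b) = chi2 a * chi2 b := by
  rw [← chiC_apply, ← chiC_apply, ← chiC_apply, map_mul]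

theorem chi2_zero : chi2 (0 : F) = 0 := by
  unfold chi2
  rw [quadraticChar_zero]
  simp

theorem chi2_one : chi2 (1 : F) = 1 := by
  rw [← chiC_apply, map_one]

theorem chi2_sq {t : F} (ht : t ≠ 0) : chi2 t * chi2 t = 1 := by
  unfold chi2
  have h := quadraticChar_sq_one ht
  rw [pow_two] at h
  exact_mod_cast h

theorem chi2_inv {t : F} (ht : t ≠ 0) : chi2 t⁻¹ = chi2 t := by
  have h1 : chi2 t⁻¹ * chi2 t = 1 := by
    rw [← chi2_mul, inv_mul_cancel₀ ht, chi2_one]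
  have h2 := chi2_sq ht
  calc chi2 t⁻¹ = chi2 t⁻¹ * (chi2 t * chi2 t) := by rw [h2, mul_one]
    _ = (chi2 t⁻¹ * chi2 t) * chi2 t := by ring
    _ = chi2 t := by rw [h1, one_mul]

theorem chi2_neg_inv {u : F} (hu : u ≠ 0) : chi2 (-u⁻¹) = chi2 (-u) := by
  rw [← inv_neg, chi2_inv (neg_ne_zero.mpr hu)]

theorem chi2_sum_neg (hF : ringChar F ≠ 2) : ∑ u : F, chi2 (-u) = 0 := by
  rw [← chi2_sum hF]
  exact Fintype.sum_equiv (Equiv.neg F) _ _ (fun u => rfl)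

/-! ### operator identities -/

section ops

variable {Xo : F → Module.End ℂ X} {S : Module.End ℂ X} {D : F → Module.End ℂ X}

theorem x_avg0 (hA : SL2Rel Xo S D) (u : F) : Xo u * avg0 Xo = avg0 Xo := by
  unfold avg0
  rw [mul_smul_comm, Finset.mul_sum]
  congr 1
  rw [← Fintype.sum_equiv (Equiv.addLeft u) (fun w => Xo u * Xo w) (fun w => Xo w)
    (fun w => by rw [← hA.x_add]; rfl)]

theorem avg0_x (hA : SL2Rel Xo S D) (u : F) : avg0 Xo * Xo u = avg0 Xo := by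
  unfold avg0
  rw [smul_mul_assoc, Finset.sum_mul]
  congr 1
  rw [← Fintype.sum_equiv (Equiv.addRight u) (fun w => Xo w * Xo u) (fun w => Xo w)
    (fun w => by rw [← hA.x_add]; rfl)]

theorem d_avg0 (hA : SL2Rel Xo S D) {t : F} (ht : t ≠ 0) : D t * avg0 Xo = avg0 Xo * D t := by
  unfold avg0
  rw [mul_smul_comm, smul_mul_assoc, Finset.mul_sum, Finset.sum_mul]
  congr 1
  have ht2 : t ^ 2 ≠ 0 := pow_ne_zero 2 ht
  rw [← Fintype.sum_equiv (Equiv.mulLeft₀ (t ^ 2) ht2) (fun w => D t * Xo w)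
    (fun w => Xo w * D t) (fun w => by rw [hA.d_x t w ht]; rfl)]

theorem d_mul_inv (hA : SL2Rel Xo S D) {t : F} (ht : t ≠ 0) : D t * D t⁻¹ = 1 := by
  rw [← hA.d_mul t t⁻¹ ht (inv_ne_zero ht), mul_inv_cancel₀ ht, hA.d_one]

theorem d_s' (hA : SL2Rel Xo S D) {t : F} (ht : t ≠ 0) : D t * S = S * D t⁻¹ := by
  have h := hA.d_s t ht
  calc D t * S = D t * S * (D t * D t⁻¹) := by rw [d_mul_inv hA ht, mul_one]
    _ = (D t * S * D t) * D t⁻¹ := by simp only [mul_assoc]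
    _ = S * D t⁻¹ := by rw [h]

theorem d_neg_one_sq (hA : SL2Rel Xo S D) : D (-1) * D (-1) = 1 := by
  have h1 : (-1 : F) ≠ 0 := neg_ne_zero.mpr one_ne_zero
  rw [← hA.d_mul (-1) (-1) h1 h1]
  have : (-1 : F) * -1 = 1 := by ring
  rw [this, hA.d_one]

theorem avg0_fixed {y : X} (hy : ∀ u : F, Xo u y = y) : avg0 Xo y = y := by
  unfold avg0
  rw [LinearMap.smul_apply, LinearMap.sum_apply, Finset.sum_congr rfl (fun u _ => hy u),
    Finset.sum_const, Finset.card_univ, ← Nat.cast_smul_eq_nsmul ℂ, smul_smul,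
    inv_mul_cancel₀ card_ne_zero, one_smul]

theorem d_S_y (hA : SL2Rel Xo S D) {y : X} (hy : y ∈ Esp Xo D) {t : F} (ht : t ≠ 0) :
    D t (S y) = chi2 t • S y := by
  have h1 : D t (S y) = (D t * S) y := rfl
  rw [h1, d_s' hA ht, Module.End.mul_apply, hy.2 t⁻¹ (inv_ne_zero ht), map_smul, chi2_inv ht]

/-- the Bruhat relation applied to a vector of `Esp` -/
theorem key (hA : SL2Rel Xo S D) {y : X} (hy : y ∈ Esp Xo D) {u : F} (hu : u ≠ 0) :
    S (Xo u (S y)) = D (-1) (Xo (-u⁻¹) (D (-u⁻¹) (S y))) := by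
  have h1 : Xo u (S y) = (Xo u * S) y := rfl
  rw [h1, hA.bruhat u hu]
  simp only [Module.End.mul_apply]
  rw [hy.1 (-u⁻¹)]
  have h2 : S (S (Xo (-u⁻¹) (D (-u⁻¹) (S y)))) = (S * S) (Xo (-u⁻¹) (D (-u⁻¹) (S y))) := rfl
  rw [h2, hA.s_sq]

/-- `P₀ (X(c) D(c) S y) = χ₂(-u) J y` -/
theorem avg0_tail (hA : SL2Rel Xo S D) {y : X} (hy : y ∈ Esp Xo D) {u : F} (hu : u ≠ 0) :
    avg0 Xo (Xo (-u⁻¹) (D (-u⁻¹) (S y))) = chi2 (-u) • avg0 Xo (S y) := by
  have hc : -u⁻¹ ≠ 0 := neg_ne_zero.mpr (inv_ne_zero hu)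
  have h1 : avg0 Xo (Xo (-u⁻¹) (D (-u⁻¹) (S y))) = (avg0 Xo * Xo (-u⁻¹)) (D (-u⁻¹) (S y)) := rfl
  rw [h1, avg0_x hA, d_S_y hA hy hc, map_smul, chi2_neg_inv hu]

end ops

/-! ## OO-K-JSQ (M) -/

theorem J_mem_Esp (hF : ringChar F ≠ 2) (Xo : F → Module.End ℂ X) (S : Module.End ℂ X)
    (D : F → Module.End ℂ X) (hA : SL2Rel Xo S D) (y : X) (hy : y ∈ Esp Xo D) :
    avg0 Xo (S y) ∈ Esp Xo D := by
  refine ⟨fun u => ?_, fun t ht => ?_⟩
  · have h1 : Xo u (avg0 Xo (S y)) = (Xo u * avg0 Xo) (S y) := rfl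
    rw [h1, x_avg0 hA]
  · have h1 : D t (avg0 Xo (S y)) = (D t * avg0 Xo) (S y) := rfl
    rw [h1, d_avg0 hA ht, Module.End.mul_apply, d_S_y hA hy ht, map_smul]

/-- the summand of `J²` -/
theorem T_formula (hF : ringChar F ≠ 2) (Xo : F → Module.End ℂ X) (S : Module.End ℂ X)
    (D : F → Module.End ℂ X) (hA : SL2Rel Xo S D) (y : X) (hy : y ∈ Esp Xo D) (u : F) :
    avg0 Xo (S (Xo u (S y))) =
      (chi2 (-u) * chi2 (-1 : F)) • avg0 Xo (S y) + (if u = 0 then chi2 (-1 : F) • y else 0) := by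
  have h1 : (-1 : F) ≠ 0 := neg_ne_zero.mpr one_ne_zero
  by_cases hu : u = 0
  · subst hu
    rw [if_pos rfl, neg_zero, chi2_zero, zero_mul, zero_smul, zero_add, hA.x_zero]
    have h2 : S ((1 : Module.End ℂ X) (S y)) = (S * S) y := rfl
    rw [h2, hA.s_sq, hy.2 (-1) h1, map_smul, avg0_fixed hy.1]
  · rw [if_neg hu, add_zero, key hA hy hu]
    have h2 : avg0 Xo (D (-1) (Xo (-u⁻¹) (D (-u⁻¹) (S y)))) =
        (avg0 Xo * D (-1)) (Xo (-u⁻¹) (D (-u⁻¹) (S y))) := rfl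
    rw [h2, ← d_avg0 hA h1, Module.End.mul_apply, avg0_tail hA hy hu, map_smul,
      (J_mem_Esp hF Xo S D hA y hy).2 (-1) h1, smul_smul]

theorem J_sq (hF : ringChar F ≠ 2) (Xo : F → Module.End ℂ X) (S : Module.End ℂ X)
    (D : F → Module.End ℂ X) (hA : SL2Rel Xo S D) (y : X) (hy : y ∈ Esp Xo D) :
    avg0 Xo (S (avg0 Xo (S y))) = (chi2 (-1 : F) * ((Fintype.card F : ℂ))⁻¹) • y := by
  have h1 : avg0 Xo (S y) = ((Fintype.card F : ℂ))⁻¹ • ∑ u : F, Xo u (S y) := by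
    unfold avg0
    rw [LinearMap.smul_apply, LinearMap.sum_apply]
  have h2 : avg0 Xo (S (avg0 Xo (S y))) =
      ((Fintype.card F : ℂ))⁻¹ • ∑ u : F, avg0 Xo (S (Xo u (S y))) := by
    conv_lhs => rw [h1]
    rw [map_smul, map_smul, map_sum, map_sum]
  rw [h2, Finset.sum_congr rfl (fun u _ => T_formula hF Xo S D hA y hy u),
    Finset.sum_add_distrib, ← Finset.sum_smul, ← Finset.sum_mul, chi2_sum_neg hF, zero_mul,
    zero_smul, zero_add, Finset.sum_ite_eq' Finset.univ (0 : F), if_pos (Finset.mem_univ _),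
    smul_smul, mul_comm]

end Cfsg.Agent.Lib.Helper71_OO_K_JSQ
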