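import Mathlib
import Cfsg.Agent.Lib.Helper64_OOKDefs
import Cfsg.Agent.Lib.Helper41_OO_K_GSUM
import Cfsg.Agent.Lib.Helper71_OO_K_JSQ

/-!
# S2344 kill section (architect helper64), package OO-K-JFORM: `J_form`

`P₀ S⁻¹ P_α S y = q⁻¹ (y + χ₂(α) G J y)` on `Esp` (`S⁻¹` written `D(-1) S`).
-/

set_option autoImplicit false
set_option linter.unusedVariables false
set_option linter.unusedSectionVars false

namespace Cfsg.Agent.Lib.Helper71_OO_K_JFORM

open Module Cfsg.Agent.Lib.Helper64_OOKDefs Cfsg.Agent.Lib.Helper41_OO_K_GSUM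
  Cfsg.Agent.Lib.Helper71_OO_K_JSQ

variable {F : Type*} [Field F] [Fintype F] [DecidableEq F]
  {X : Type*} [AddCommGroup X] [Module ℂ X]

/-- the summand of `P₀ S⁻¹ P_α S y` -/
theorem R_formula (Xo : F → Module.End ℂ X) (S : Module.End ℂ X)
    (D : F → Module.End ℂ X) (hA : SL2Rel Xo S D) (y : X) (hy : y ∈ Esp Xo D) (u : F) :
    avg0 Xo (D (-1) (S (Xo u (S y)))) =
      chi2 (-u) • avg0 Xo (S y) + (if u = 0 then y else 0) := by
  have h1 : (-1 : F) ≠ 0 := neg_ne_zero.mpr one_ne_zero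
  have hdd : ∀ z : X, D (-1) (D (-1) z) = z := by
    intro z
    have : D (-1) (D (-1) z) = (D (-1) * D (-1)) z := rfl
    rw [this, d_neg_one_sq hA]
    rfl
  by_cases hu : u = 0
  · subst hu
    rw [if_pos rfl, neg_zero, chi2_zero, zero_smul, zero_add, hA.x_zero]
    have h2 : S ((1 : Module.End ℂ X) (S y)) = (S * S) y := rfl
    rw [h2, hA.s_sq, hdd, avg0_fixed hy.1]
  · rw [if_neg hu, add_zero, key hA hy hu, hdd, avg0_tail hA hy hu]

/-! ## OO-K-JFORM (M) -/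
theorem J_form (hF : ringChar F ≠ 2) (ψ : AddChar F ℂ) (Xo : F → Module.End ℂ X)
    (S : Module.End ℂ X) (D : F → Module.End ℂ X) (hA : SL2Rel Xo S D) (y : X) (hy : y ∈ Esp Xo D)
    (α : F) (hα : α ≠ 0) :
    avg0 Xo (D (-1) (S (avgP ψ Xo α (S y)))) =
      ((Fintype.card F : ℂ))⁻¹ • (y + (chi2 α * gsum ψ) • avg0 Xo (S y)) := by
  have h1 : avgP ψ Xo α (S y) =
      ((Fintype.card F : ℂ))⁻¹ • ∑ u : F, ψ (-(α * u)) • Xo u (S y) := by
    unfold avgP
    rw [LinearMap.smul_apply, LinearMap.sum_apply]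
    rfl
  have h2 : avg0 Xo (D (-1) (S (avgP ψ Xo α (S y)))) =
      ((Fintype.card F : ℂ))⁻¹ • ∑ u : F, ψ (-(α * u)) • avg0 Xo (D (-1) (S (Xo u (S y)))) := by
    rw [h1]
    simp only [map_smul, map_sum]
  have h3 : ∑ u : F, ψ (-(α * u)) * chi2 (-u) = chi2 α * gsum ψ := by
    rw [← gsum_twist hF ψ α hα]
    apply Fintype.sum_equiv (Equiv.neg F)
    intro u
    show ψ (-(α * u)) * chi2 (-u) = chi2 (-u) * ψ (α * -u)
    rw [mul_neg, mul_comm]
  have h4 : ∑ u : F, ψ (-(α * u)) • (chi2 (-u) • avg0 Xo (S y) + (if u = 0 then y else 0)) =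
      y + (chi2 α * gsum ψ) • avg0 Xo (S y) := by
    simp only [smul_add, Finset.sum_add_distrib, smul_smul]
    rw [← Finset.sum_smul, h3, add_comm]
    congr 1
    simp only [smul_ite, smul_zero]
    rw [Finset.sum_ite_eq' Finset.univ (0 : F), if_pos (Finset.mem_univ _), mul_zero, neg_zero,
      AddChar.map_zero_eq_one, one_smul]
  rw [h2, Finset.sum_congr rfl (fun u _ => by rw [R_formula Xo S D hA y hy u]), h4]

end Cfsg.Agent.Lib.Helper71_OO_K_JFORM
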