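import Mathlib
import Cfsg.Agent.Lib.Helper64_OOKDefs

set_option autoImplicit false
set_option linter.unusedVariables false
set_option linter.unusedSectionVars false
set_option linter.unusedDecidableInType false

/-!
# S2344 kill section, package OO-K-FOUR (helper96, for helper64): Fourier projections of an additive
operator family
-/

namespace Cfsg.Agent.Lib.Helper96_OO_K_FOUR

open Module Cfsg.Agent.Lib.Helper64_OOKDefs

variable {F : Type*} [Field F] [Fintype F] [DecidableEq F]
  {X : Type*} [AddCommGroup X] [Module ℂ X]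

omit [DecidableEq F] in
theorem avgP_apply (ψ : AddChar F ℂ) (Xo : F → Module.End ℂ X) (α : F) (z : X) :
    avgP ψ Xo α z = ((Fintype.card F : ℂ))⁻¹ • ∑ u : F, ψ (-(α * u)) • Xo u z := by
  unfold avgP
  rw [LinearMap.smul_apply, LinearMap.sum_apply]
  rfl

omit [DecidableEq F] in
theorem card_ne_zero' : (Fintype.card F : ℂ) ≠ 0 := by
  exact_mod_cast Fintype.card_ne_zero

/-- the character sum -/
theorem sum_shift (ψ : AddChar F ℂ) (hψ : ψ ≠ 1) (c : F) :
    ∑ u : F, ψ (c * u) = if c = 0 then (Fintype.card F : ℂ) else 0 := by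
  have h := AddChar.sum_mulShift (ψ := ψ) c (AddChar.IsPrimitive.of_ne_one hψ)
  simp_rw [mul_comm _ c] at h
  rw [h]
  split_ifs <;> simp

theorem avgP_eigen (ψ : AddChar F ℂ) (Xo : F → Module.End ℂ X) (h0 : Xo 0 = 1)
    (hadd : ∀ u u' : F, Xo (u + u') = Xo u * Xo u') (α u : F) (z : X) :
    Xo u (avgP ψ Xo α z) = ψ (α * u) • avgP ψ Xo α z := by
  rw [avgP_apply, map_smul, map_sum, smul_comm]
  congr 1
  have e : ∀ w : F, Xo u (ψ (-(α * w)) • Xo w z) =
      ψ (α * u) • (ψ (-(α * (u + w))) • Xo (u + w) z) := by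
    intro w
    rw [map_smul, hadd u w, Module.End.mul_apply, smul_smul, ← AddChar.map_add_eq_mul]
    congr 2
    ring
  rw [Finset.sum_congr rfl (fun w _ => e w), ← Finset.smul_sum]
  congr 1
  exact Fintype.sum_bijective (fun w => u + w) (AddGroup.addLeft_bijective u) _ _ (fun w => rfl)

theorem avgP_of_eigen (ψ : AddChar F ℂ) (hψ : ψ ≠ 1) (Xo : F → Module.End ℂ X) (α α' : F) (y : X)
    (hy : ∀ u : F, Xo u y = ψ (α * u) • y) :
    avgP ψ Xo α' y = if α' = α then y else 0 := by
  rw [avgP_apply]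
  have e : ∀ u : F, ψ (-(α' * u)) • Xo u y = ψ ((α - α') * u) • y := by
    intro u
    rw [hy u, smul_smul, ← AddChar.map_add_eq_mul]
    congr 2
    ring
  rw [Finset.sum_congr rfl (fun u _ => e u), ← Finset.sum_smul, sum_shift ψ hψ]
  by_cases h : α' = α
  · subst h
    rw [if_pos rfl, if_pos (sub_self _), smul_smul, inv_mul_cancel₀ card_ne_zero', one_smul]
  · rw [if_neg h, if_neg (fun h' => h (sub_eq_zero.mp h').symm), zero_smul, smul_zero]

theorem sum_avgP (ψ : AddChar F ℂ) (hψ : ψ ≠ 1) (Xo : F → Module.End ℂ X) (h0 : Xo 0 = 1) (z : X) :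
    ∑ α : F, avgP ψ Xo α z = z := by
  simp_rw [avgP_apply]
  rw [← Finset.smul_sum, Finset.sum_comm]
  have e : ∀ u : F, ∑ α : F, ψ (-(α * u)) • Xo u z =
      (if u = 0 then (Fintype.card F : ℂ) else 0) • Xo u z := by
    intro u
    rw [← Finset.sum_smul]
    congr 1
    have h := sum_shift ψ hψ (-u)
    simp only [neg_eq_zero] at h
    rw [← h]
    refine Finset.sum_congr rfl (fun α _ => ?_)
    congr 1
    ring
  rw [Finset.sum_congr rfl (fun u _ => e u)]
  simp only [ite_smul, zero_smul, Finset.sum_ite_eq', Finset.mem_univ, if_true]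
  rw [h0, smul_smul, inv_mul_cancel₀ card_ne_zero', one_smul]
  rfl

theorem avg0_eq (ψ : AddChar F ℂ) (Xo : F → Module.End ℂ X) : avg0 Xo = avgP ψ Xo 0 := by
  unfold avg0 avgP
  congr 1
  refine Finset.sum_congr rfl (fun u _ => ?_)
  rw [zero_mul, neg_zero, AddChar.map_zero_eq_one, one_smul]

end Cfsg.Agent.Lib.Helper96_OO_K_FOUR
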