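import Mathlib
import Cfsg.Agent.Lib.Helper64_OOKDefs
import Cfsg.Agent.Lib.Helper96_OO_K_FOUR
import Cfsg.Agent.Lib.Helper41_OO_K_GSUM
import Cfsg.Agent.Lib.Helper71_OO_K_JSQ
import Cfsg.Agent.Lib.Helper71_OO_K_JFORM

set_option autoImplicit false
set_option linter.unusedVariables false
set_option linter.unusedSectionVars false
set_option linter.unusedDecidableInType false

/-!
# S2344 kill section, package OO-K-LEMX (helper96, for helper64): Lemma X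

Two commuting copies of `SL_2(F)` acting on a complex space, an invariant subspace `Y` whose joint weight
spaces `wt2(α,β)` (`α, β ≠ 0`) are at most lines and which contains, for each non-zero weight of one copy,
a generator in the sense of `HasGen` for the other copy: then `dim wt2(0,0) ≥ 4`.
-/

namespace Cfsg.Agent.Lib.Helper96_OO_K_LEMX

open Module Cfsg.Agent.Lib.Helper64_OOKDefs Cfsg.Agent.Lib.Helper96_OO_K_FOUR
  Cfsg.Agent.Lib.Helper41_OO_K_GSUM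

variable {F : Type*} [Field F] [Fintype F] [DecidableEq F]
  {X : Type*} [AddCommGroup X] [Module ℂ X]


/-! ## the quadratic character -/

theorem chi2_zero : chi2 (0 : F) = 0 := by
  unfold chi2
  rw [quadraticChar_zero, Int.cast_zero]

theorem chi2_one : chi2 (1 : F) = 1 := by
  unfold chi2
  rw [map_one, Int.cast_one]

theorem chi2_mul (a b : F) : chi2 (a * b) = chi2 a * chi2 b := by
  unfold chi2
  rw [map_mul, Int.cast_mul]

theorem chi2_sq {a : F} (ha : a ≠ 0) : chi2 a * chi2 a = 1 := by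
  have h1 : quadraticChar F a * quadraticChar F a = 1 := by
    rw [← pow_two]
    exact quadraticChar_sq_one ha
  unfold chi2
  rw [← Int.cast_mul, h1, Int.cast_one]

theorem chi2_eq_or {a : F} (ha : a ≠ 0) : chi2 a = 1 ∨ chi2 a = -1 :=
  mul_self_eq_one_iff.mp (chi2_sq ha)

theorem neg_one_ne_zero' : (-1 : F) ≠ 0 := neg_ne_zero.mpr one_ne_zero

/-! ## the constant `κ = G / q` -/

noncomputable def kap (ψ : AddChar F ℂ) : ℂ := gsum ψ * ((Fintype.card F : ℂ))⁻¹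

theorem gsum_mul_kap (hF : ringChar F ≠ 2) (ψ : AddChar F ℂ) (hψ : ψ ≠ 1) :
    gsum ψ * kap ψ = chi2 (-1 : F) := by
  unfold kap
  rw [← mul_assoc, gsum_sq hF ψ hψ, mul_assoc, mul_inv_cancel₀ card_ne_zero', mul_one]

theorem kap_sq (hF : ringChar F ≠ 2) (ψ : AddChar F ℂ) (hψ : ψ ≠ 1) :
    kap ψ * kap ψ = chi2 (-1 : F) * ((Fintype.card F : ℂ))⁻¹ := by
  have h := gsum_mul_kap hF ψ hψ
  rw [← h]
  unfold kap
  ring

theorem kap_ne_zero (hF : ringChar F ≠ 2) (ψ : AddChar F ℂ) (hψ : ψ ≠ 1) : kap ψ ≠ 0 := by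
  intro h
  have h1 := gsum_mul_kap hF ψ hψ
  rw [h, mul_zero] at h1
  have h2 := chi2_sq (neg_one_ne_zero' (F := F))
  rw [← h1, mul_zero] at h2
  exact zero_ne_one h2

/-! ## the two operator algebras -/

/-- the algebra generated by one copy of `SL_2` -/
def Ualg (Xo : F → Module.End ℂ X) (S : Module.End ℂ X) (D : F → Module.End ℂ X) :
    Subalgebra ℂ (Module.End ℂ X) :=
  Algebra.adjoin ℂ (Set.range Xo ∪ {S} ∪ Set.range D)

theorem Xo_mem (Xo : F → Module.End ℂ X) (S : Module.End ℂ X) (D : F → Module.End ℂ X) (u : F) :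
    Xo u ∈ Ualg Xo S D :=
  Algebra.subset_adjoin (Or.inl (Or.inl ⟨u, rfl⟩))

theorem S_mem (Xo : F → Module.End ℂ X) (S : Module.End ℂ X) (D : F → Module.End ℂ X) :
    S ∈ Ualg Xo S D :=
  Algebra.subset_adjoin (Or.inl (Or.inr rfl))

theorem D_mem (Xo : F → Module.End ℂ X) (S : Module.End ℂ X) (D : F → Module.End ℂ X) (t : F) :
    D t ∈ Ualg Xo S D :=
  Algebra.subset_adjoin (Or.inr ⟨t, rfl⟩)

theorem avgP_mem (ψ : AddChar F ℂ) (Xo : F → Module.End ℂ X) (S : Module.End ℂ X)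
    (D : F → Module.End ℂ X) (α : F) : avgP ψ Xo α ∈ Ualg Xo S D := by
  unfold avgP
  exact Subalgebra.smul_mem _
    (Subalgebra.sum_mem _ (fun u _ => Subalgebra.smul_mem _ (Xo_mem Xo S D u) _)) _

theorem avg0_mem (Xo : F → Module.End ℂ X) (S : Module.End ℂ X) (D : F → Module.End ℂ X) :
    avg0 Xo ∈ Ualg Xo S D := by
  unfold avg0
  exact Subalgebra.smul_mem _ (Subalgebra.sum_mem _ (fun u _ => Xo_mem Xo S D u)) _

/-- the torus projector onto the `χ₂`-eigenvectors -/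
noncomputable def Top (D : F → Module.End ℂ X) : Module.End ℂ X :=
  ((Fintype.card F : ℂ) - 1)⁻¹ • ∑ t : F, chi2 t • D t

theorem Top_mem (Xo : F → Module.End ℂ X) (S : Module.End ℂ X) (D : F → Module.End ℂ X) :
    Top D ∈ Ualg Xo S D := by
  unfold Top
  exact Subalgebra.smul_mem _
    (Subalgebra.sum_mem _ (fun t _ => Subalgebra.smul_mem _ (D_mem Xo S D t) _)) _

theorem OpsCommute.swap {Xo Z : F → Module.End ℂ X} {S S' : Module.End ℂ X}
    {D D' : F → Module.End ℂ X} (hC : OpsCommute Xo S D Z S' D') : OpsCommute Z S' D' Xo S D where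
  xz u u' := (hC.xz u' u).symm
  xs u := (hC.sz u).symm
  xd u t := (hC.dz t u).symm
  sz u := (hC.xs u).symm
  ss := hC.ss.symm
  sd t := (hC.ds t).symm
  dz t u := (hC.xd u t).symm
  ds t := (hC.sd t).symm
  dd t t' := (hC.dd t' t).symm

theorem comm_of_mem {Xo Z : F → Module.End ℂ X} {S S' : Module.End ℂ X}
    {D D' : F → Module.End ℂ X} (hC : OpsCommute Xo S D Z S' D') {a b : Module.End ℂ X}
    (ha : a ∈ Ualg Xo S D) (hb : b ∈ Ualg Z S' D') : Commute a b := by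
  refine Algebra.commute_of_mem_adjoin_of_forall_mem_commute hb (fun b' hb' => ?_)
  refine (Algebra.commute_of_mem_adjoin_of_forall_mem_commute ha (fun a' ha' => ?_)).symm
  rcases ha' with (⟨u, rfl⟩ | ha') | ⟨t, rfl⟩ <;> rcases hb' with (⟨u', rfl⟩ | hb') | ⟨t', rfl⟩
  · exact (hC.xz u u').symm
  · rw [Set.mem_singleton_iff.mp hb']; exact (hC.xs u).symm
  · exact (hC.xd u t').symm
  · rw [Set.mem_singleton_iff.mp ha']; exact (hC.sz u').symm
  · rw [Set.mem_singleton_iff.mp ha', Set.mem_singleton_iff.mp hb']; exact hC.ss.symm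
  · rw [Set.mem_singleton_iff.mp ha']; exact (hC.sd t').symm
  · exact (hC.dz t u').symm
  · rw [Set.mem_singleton_iff.mp hb']; exact (hC.ds t).symm
  · exact (hC.dd t t').symm

theorem mem_Y_of_mem {Y : Submodule ℂ X} {Xo : F → Module.End ℂ X} {S : Module.End ℂ X}
    {D : F → Module.End ℂ X} (hY : YInv Y Xo S D) {a : Module.End ℂ X} (ha : a ∈ Ualg Xo S D) :
    ∀ y ∈ Y, a y ∈ Y := by
  induction ha using Algebra.adjoin_induction with
  | mem x hx =>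
    rcases hx with (⟨u, rfl⟩ | hx) | ⟨t, rfl⟩
    · exact hY.1 u
    · rw [Set.mem_singleton_iff.mp hx]; exact hY.2.1
    · exact hY.2.2 t
  | algebraMap r =>
    intro y hy
    rw [Module.algebraMap_end_apply]
    exact Y.smul_mem r hy
  | add x y _ _ hx hy =>
    intro z hz
    rw [LinearMap.add_apply]
    exact Y.add_mem (hx z hz) (hy z hz)
  | mul x y _ _ hx hy =>
    intro z hz
    rw [Module.End.mul_apply]
    exact hx _ (hy z hz)

theorem comm_apply {A B : Module.End ℂ X} (h : Commute A B) (x : X) : A (B x) = B (A x) := by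
  rw [← Module.End.mul_apply, h.eq, Module.End.mul_apply]

theorem eig_transfer {A B : Module.End ℂ X} (h : Commute A B) {x : X} {b : ℂ} (hx : B x = b • x) :
    B (A x) = b • A x := by
  rw [← comm_apply h, hx, map_smul]

/-! ## the torus projector -/

theorem card_sub_one_ne_zero : (Fintype.card F : ℂ) - 1 ≠ 0 := by
  intro h
  have h1 : (Fintype.card F : ℂ) = 1 := sub_eq_zero.mp h
  have h2 : Fintype.card F = 1 := by exact_mod_cast h1
  have h3 : 1 < Fintype.card F := Fintype.one_lt_card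
  omega

theorem Top_apply (D : F → Module.End ℂ X) (y : X) :
    Top D y = ((Fintype.card F : ℂ) - 1)⁻¹ • ∑ t : F, chi2 t • D t y := by
  unfold Top
  rw [LinearMap.smul_apply, LinearMap.sum_apply]
  rfl

theorem D_Top {Xo : F → Module.End ℂ X} {S : Module.End ℂ X} {D : F → Module.End ℂ X}
    (hA : SL2Rel Xo S D) (t' : F) (ht' : t' ≠ 0) (y : X) :
    D t' (Top D y) = chi2 t' • Top D y := by
  rw [Top_apply, map_smul, map_sum, smul_comm]
  congr 1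
  rw [Finset.smul_sum]
  refine Fintype.sum_bijective (fun t => t' * t) (mulLeft_bijective₀ t' ht') _ _ (fun t => ?_)
  by_cases ht : t = 0
  · subst ht
    rw [chi2_zero, zero_smul, map_zero, mul_zero, chi2_zero, zero_smul, smul_zero]
  · rw [map_smul, ← Module.End.mul_apply, ← hA.d_mul t' t ht' ht, smul_smul, chi2_mul, ← mul_assoc,
      chi2_sq ht', one_mul]

theorem Top_of_eigen (D : F → Module.End ℂ X) (y : X)
    (hy : ∀ t : F, t ≠ 0 → D t y = chi2 t • y) : Top D y = y := by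
  rw [Top_apply]
  have e : ∀ t : F, chi2 t • D t y = (if t = 0 then (0 : ℂ) else 1) • y := by
    intro t
    by_cases ht : t = 0
    · subst ht
      rw [chi2_zero, zero_smul, if_pos rfl, zero_smul]
    · rw [hy t ht, smul_smul, chi2_sq ht, if_neg ht]
  rw [Finset.sum_congr rfl (fun t _ => e t), ← Finset.sum_smul, smul_smul]
  have hs : ∑ t : F, (if t = 0 then (0 : ℂ) else 1) = (Fintype.card F : ℂ) - 1 := by
    have h1 : ∑ t : F, ((if t = 0 then (0 : ℂ) else 1) + (if t = 0 then (1 : ℂ) else 0)) =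
        (Fintype.card F : ℂ) := by
      have : ∀ t : F, ((if t = 0 then (0 : ℂ) else 1) + (if t = 0 then (1 : ℂ) else 0)) = 1 := by
        intro t
        by_cases ht : t = 0
        · rw [if_pos ht, if_pos ht, zero_add]
        · rw [if_neg ht, if_neg ht, add_zero]
      rw [Finset.sum_congr rfl (fun t _ => this t), Finset.sum_const, Finset.card_univ,
        nsmul_eq_mul, mul_one]
    rw [Finset.sum_add_distrib, Finset.sum_ite_eq' Finset.univ (0 : F) (fun _ => (1 : ℂ)),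
      if_pos (Finset.mem_univ _)] at h1
    rw [← h1, add_sub_cancel_right]
  rw [hs, inv_mul_cancel₀ card_sub_one_ne_zero, one_smul]

theorem X_Top {Xo : F → Module.End ℂ X} {S : Module.End ℂ X} {D : F → Module.End ℂ X}
    (hA : SL2Rel Xo S D) (y : X) (hy : ∀ u : F, Xo u y = y) (u : F) :
    Xo u (Top D y) = Top D y := by
  rw [Top_apply, map_smul, map_sum]
  congr 1
  refine Finset.sum_congr rfl (fun t _ => ?_)
  by_cases ht : t = 0
  · subst ht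
    rw [chi2_zero, zero_smul, map_zero]
  · rw [map_smul]
    congr 1
    have h := hA.d_x t ((t ^ 2)⁻¹ * u) ht
    have e : t ^ 2 * ((t ^ 2)⁻¹ * u) = u := by
      field_simp
    rw [e] at h
    rw [← Module.End.mul_apply, ← h, Module.End.mul_apply, hy]

/-! ## Stage A: the `J`-eigenvector made from a generator -/

theorem stageA (hF : ringChar F ≠ 2) (ψ : AddChar F ℂ) (hψ : ψ ≠ 1)
    {Xo Z : F → Module.End ℂ X} {S : Module.End ℂ X} {D : F → Module.End ℂ X}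
    (hA : SL2Rel Xo S D) (hZ : ∀ u : F, Commute (avg0 Xo * S) (Z u))
    {Y : Submodule ℂ X} (hJY : ∀ y ∈ Y, avg0 Xo (S y) ∈ Y) (β : F)
    (hG : HasGen ψ Xo Z S D Y β) (δ : ℂ) (hδ : δ * δ = 1) :
    ∃ y0 : X, y0 ≠ 0 ∧ y0 ∈ Y ∧ y0 ∈ Esp Xo D ∧ avg0 Xo (S y0) = (δ * kap ψ) • y0 ∧
      ∀ u : F, Z u y0 = ψ (β * u) • y0 := by
  obtain ⟨e, he, hDe, hJe⟩ := hG
  rw [mem_wt2] at he
  obtain ⟨heY, hew⟩ := he
  have heE : e ∈ Esp Xo D := by
    refine ⟨fun u => ?_, hDe⟩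
    rw [(hew u).1, zero_mul, AddChar.map_zero_eq_one, one_smul]
  refine ⟨avg0 Xo (S e) + (δ * kap ψ) • e, ?_, ?_, ?_, ?_, ?_⟩
  · intro h
    refine hJe ⟨-(δ * kap ψ), ?_⟩
    rw [neg_smul]
    exact eq_neg_of_add_eq_zero_left h
  · exact Y.add_mem (hJY e heY) (Y.smul_mem _ heY)
  · exact (Esp Xo D).add_mem (Cfsg.Agent.Lib.Helper71_OO_K_JSQ.J_mem_Esp hF Xo S D hA e heE) ((Esp Xo D).smul_mem _ heE)
  · rw [map_add, map_add, map_smul, map_smul, Cfsg.Agent.Lib.Helper71_OO_K_JSQ.J_sq hF Xo S D hA e heE, smul_add, smul_smul,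
      ← kap_sq hF ψ hψ, add_comm]
    congr 2
    calc kap ψ * kap ψ = (δ * δ) * (kap ψ * kap ψ) := by rw [hδ, one_mul]
      _ = δ * kap ψ * (δ * kap ψ) := by ring
  · intro u
    have h := comm_apply (hZ u) e
    rw [Module.End.mul_apply, Module.End.mul_apply] at h
    rw [map_add, map_smul, ← h, (hew u).2, map_smul, map_smul, smul_add, smul_comm]

/-! ## Stage B: the Fourier component of `S y0` -/

theorem J_form_eig (hF : ringChar F ≠ 2) (ψ : AddChar F ℂ) (hψ : ψ ≠ 1)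
    {Xo : F → Module.End ℂ X} {S : Module.End ℂ X} {D : F → Module.End ℂ X}
    (hA : SL2Rel Xo S D) (y : X) (hy : y ∈ Esp Xo D) (δ : ℂ)
    (hJ : avg0 Xo (S y) = (δ * kap ψ) • y) (α : F) (hα : α ≠ 0) (hδα : chi2 (-α) = δ) :
    avg0 Xo (D (-1) (S (avgP ψ Xo α (S y)))) = (2 * ((Fintype.card F : ℂ))⁻¹) • y := by
  have hc : chi2 α * gsum ψ * (δ * kap ψ) = 1 := by
    have h1 : chi2 (-α) = chi2 (-1 : F) * chi2 α := by
      rw [← chi2_mul, neg_one_mul]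
    have h2 : chi2 (-α) * chi2 (-α) = 1 := chi2_sq (neg_ne_zero.mpr hα)
    calc chi2 α * gsum ψ * (δ * kap ψ) = (gsum ψ * kap ψ) * chi2 α * δ := by ring
      _ = chi2 (-α) * δ := by rw [gsum_mul_kap hF ψ hψ, ← h1]
      _ = 1 := by rw [← hδα, h2]
  rw [Cfsg.Agent.Lib.Helper71_OO_K_JFORM.J_form hF ψ Xo S D hA y hy α hα, hJ, smul_smul, hc, one_smul, ← two_smul ℂ y, smul_smul,
    mul_comm]

theorem stageB (hF : ringChar F ≠ 2) (ψ : AddChar F ℂ) (hψ : ψ ≠ 1)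
    {Xo Z : F → Module.End ℂ X} {S S' : Module.End ℂ X} {D D' : F → Module.End ℂ X}
    (hA : SL2Rel Xo S D) (hC : OpsCommute Xo S D Z S' D')
    {Y : Submodule ℂ X} (hY : YInv Y Xo S D) (α β : F) (hα : α ≠ 0) (δ : ℂ)
    (hδα : chi2 (-α) = δ) (y0 : X) (hy0 : y0 ≠ 0) (hy0Y : y0 ∈ Y) (hy0E : y0 ∈ Esp Xo D)
    (hJ : avg0 Xo (S y0) = (δ * kap ψ) • y0) (hZ : ∀ u : F, Z u y0 = ψ (β * u) • y0) :
    avgP ψ Xo α (S y0) ≠ 0 ∧ avgP ψ Xo α (S y0) ∈ Y ∧
      (∀ u : F, Xo u (avgP ψ Xo α (S y0)) = ψ (α * u) • avgP ψ Xo α (S y0)) ∧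
      (∀ u : F, Z u (avgP ψ Xo α (S y0)) = ψ (β * u) • avgP ψ Xo α (S y0)) ∧
      avg0 Xo (D (-1) (S (avgP ψ Xo α (S y0)))) = (2 * ((Fintype.card F : ℂ))⁻¹) • y0 := by
  have hR := J_form_eig hF ψ hψ hA y0 hy0E δ hJ α hα hδα
  have hQm : avgP ψ Xo α * S ∈ Ualg Xo S D :=
    Subalgebra.mul_mem _ (avgP_mem ψ Xo S D α) (S_mem Xo S D)
  refine ⟨?_, ?_, ?_, ?_, hR⟩
  · intro h
    rw [h, map_zero, map_zero, map_zero] at hR
    have h2 : (2 * ((Fintype.card F : ℂ))⁻¹) ≠ 0 :=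
      mul_ne_zero two_ne_zero (inv_ne_zero card_ne_zero')
    exact hy0 ((smul_eq_zero.mp hR.symm).resolve_left h2)
  · exact mem_Y_of_mem hY hQm y0 hy0Y
  · intro u
    exact avgP_eigen ψ Xo hA.x_zero hA.x_add α u (S y0)
  · intro u
    have h := eig_transfer (comm_of_mem hC hQm (Xo_mem Z S' D' u)) (hZ u)
    exact h

/-! ## Stage C: back to the weight `(0,0)` -/

theorem stageC (hF : ringChar F ≠ 2) (ψ : AddChar F ℂ) (hψ : ψ ≠ 1)
    {Xo Z : F → Module.End ℂ X} {S S' : Module.End ℂ X} {D D' : F → Module.End ℂ X}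
    (hA : SL2Rel Xo S D) (hA' : SL2Rel Z S' D') (hC : OpsCommute Xo S D Z S' D')
    {Y : Submodule ℂ X} (hY : YInv Y Xo S D) (β : F) (δ δ' : ℂ) (hδ : δ * δ = 1)
    (y0 y1 : X) (c : ℂ) (hc : c ≠ 0) (hy0 : y0 ≠ 0) (hy0E : y0 ∈ Esp Xo D)
    (hJ0 : avg0 Xo (S y0) = (δ * kap ψ) • y0)
    (hy1Y : y1 ∈ Y) (hy1E : y1 ∈ Esp Z D') (hJ1 : avg0 Z (S' y1) = (δ' * kap ψ) • y1)
    (hrel : avg0 Xo (D (-1) (S (avgP ψ Z β (S' y1)))) = c • y0) :
    ∃ y : X, y ≠ 0 ∧ y ∈ wt2 ψ Xo Z Y 0 0 ∧ avg0 Xo (S y) = (δ * kap ψ) • y ∧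
      avg0 Z (S' y) = (δ' * kap ψ) • y := by
  -- the operators
  have hRm : avg0 Xo * (D (-1) * S) ∈ Ualg Xo S D :=
    Subalgebra.mul_mem _ (avg0_mem Xo S D) (Subalgebra.mul_mem _ (D_mem Xo S D _) (S_mem Xo S D))
  have hTm : Top D ∈ Ualg Xo S D := Top_mem Xo S D
  have hJm : avg0 Xo * S ∈ Ualg Xo S D := Subalgebra.mul_mem _ (avg0_mem Xo S D) (S_mem Xo S D)
  have hJdm : avg0 Xo * S + (δ * kap ψ) • (1 : Module.End ℂ X) ∈ Ualg Xo S D :=
    Subalgebra.add_mem _ hJm (Subalgebra.smul_mem _ (Subalgebra.one_mem _) _)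
  have hAm : (avg0 Xo * S + (δ * kap ψ) • (1 : Module.End ℂ X)) *
      (Top D * (avg0 Xo * (D (-1) * S))) ∈ Ualg Xo S D :=
    Subalgebra.mul_mem _ hJdm (Subalgebra.mul_mem _ hTm hRm)
  have hJ'm : avg0 Z * S' ∈ Ualg Z S' D' :=
    Subalgebra.mul_mem _ (avg0_mem Z S' D') (S_mem Z S' D')
  have hQ'm : avgP ψ Z β * S' ∈ Ualg Z S' D' :=
    Subalgebra.mul_mem _ (avgP_mem ψ Z S' D' β) (S_mem Z S' D')
  -- the vectors
  obtain ⟨y2, hy2⟩ : ∃ y2 : X, y2 = avg0 Xo (D (-1) (S y1)) := ⟨_, rfl⟩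
  obtain ⟨y3, hy3⟩ : ∃ y3 : X, y3 = Top D y2 := ⟨_, rfl⟩
  obtain ⟨y, hy⟩ : ∃ y : X, y = avg0 Xo (S y3) + (δ * kap ψ) • y3 := ⟨_, rfl⟩
  have hyA : y = ((avg0 Xo * S + (δ * kap ψ) • (1 : Module.End ℂ X)) *
      (Top D * (avg0 Xo * (D (-1) * S)))) y1 := by
    rw [hy, hy3, hy2]
    rfl
  have hy2X : ∀ u : F, Xo u y2 = y2 := by
    intro u
    rw [hy2, avg0_eq ψ Xo, avgP_eigen ψ Xo hA.x_zero hA.x_add 0 u, zero_mul,
      AddChar.map_zero_eq_one, one_smul]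
  have hy3E : y3 ∈ Esp Xo D := by
    refine ⟨fun u => ?_, fun t ht => ?_⟩
    · rw [hy3]
      exact X_Top hA y2 hy2X u
    · rw [hy3]
      exact D_Top hA t ht y2
  have hJy3E : avg0 Xo (S y3) ∈ Esp Xo D := Cfsg.Agent.Lib.Helper71_OO_K_JSQ.J_mem_Esp hF Xo S D hA y3 hy3E
  have hyE : y ∈ Esp Xo D := by
    rw [hy]
    exact (Esp Xo D).add_mem hJy3E ((Esp Xo D).smul_mem _ hy3E)
  have hyY : y ∈ Y := by
    rw [hyA]
    exact mem_Y_of_mem hY hAm y1 hy1Y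
  -- transfer of the primed eigen-equations
  have htr : ∀ (B : Module.End ℂ X) (b : ℂ), B ∈ Ualg Z S' D' → B y1 = b • y1 → B y = b • y := by
    intro B b hB hb
    rw [hyA]
    exact eig_transfer (comm_of_mem hC hAm hB) hb
  have hyZ : ∀ u : F, Z u y = y := by
    intro u
    have h := htr (Z u) 1 (Xo_mem Z S' D' u) (by rw [one_smul]; exact hy1E.1 u)
    rw [one_smul] at h
    exact h
  have hyJ' : avg0 Z (S' y) = (δ' * kap ψ) • y := htr (avg0 Z * S') _ hJ'm hJ1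
  have hyJ : avg0 Xo (S y) = (δ * kap ψ) • y := by
    rw [hy, map_add, map_add, map_smul, map_smul, Cfsg.Agent.Lib.Helper71_OO_K_JSQ.J_sq hF Xo S D hA y3 hy3E, smul_add, smul_smul,
      ← kap_sq hF ψ hψ, add_comm]
    congr 2
    calc kap ψ * kap ψ = (δ * δ) * (kap ψ * kap ψ) := by rw [hδ, one_mul]
      _ = δ * kap ψ * (δ * kap ψ) := by ring
  -- non-vanishing
  have hQy : avgP ψ Z β (S' y) = (c * (2 * (δ * kap ψ))) • y0 := by
    have h1 : (avgP ψ Z β * S') y = ((avg0 Xo * S + (δ * kap ψ) • (1 : Module.End ℂ X)) *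
        (Top D * (avg0 Xo * (D (-1) * S)))) ((avgP ψ Z β * S') y1) := by
      rw [hyA]
      exact (comm_apply (comm_of_mem hC hAm hQ'm) y1).symm
    have h2 : (avg0 Xo * (D (-1) * S)) ((avgP ψ Z β * S') y1) = c • y0 := hrel
    have h3 : Top D (c • y0) = c • y0 := by
      rw [map_smul, Top_of_eigen D y0 hy0E.2]
    rw [Module.End.mul_apply] at h1
    rw [h1, Module.End.mul_apply, Module.End.mul_apply, h2, h3, map_smul, LinearMap.add_apply,
      LinearMap.smul_apply, Module.End.one_apply, Module.End.mul_apply, hJ0, ← two_smul ℂ,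
      smul_smul, smul_smul, mul_assoc]
  refine ⟨y, ?_, ?_, hyJ, hyJ'⟩
  · intro h
    rw [h, map_zero, map_zero] at hQy
    have hne : c * (2 * (δ * kap ψ)) ≠ 0 := by
      refine mul_ne_zero hc (mul_ne_zero two_ne_zero (mul_ne_zero ?_ (kap_ne_zero hF ψ hψ)))
      intro h0
      rw [h0, mul_zero] at hδ
      exact zero_ne_one hδ
    exact hy0 ((smul_eq_zero.mp hQy.symm).resolve_left hne)
  · rw [mem_wt2]
    refine ⟨hyY, fun u => ⟨?_, ?_⟩⟩
    · rw [zero_mul, AddChar.map_zero_eq_one, one_smul]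
      exact hyE.1 u
    · rw [zero_mul, AddChar.map_zero_eq_one, one_smul]
      exact hyZ u

/-! ## the four joint eigenvectors -/

theorem exists_alpha (hF : ringChar F ≠ 2) (δ : ℂ) (hδ : δ = 1 ∨ δ = -1) :
    ∃ α : F, α ≠ 0 ∧ chi2 (-α) = δ := by
  rcases hδ with rfl | rfl
  · refine ⟨-1, neg_one_ne_zero', ?_⟩
    rw [neg_neg, chi2_one]
  · obtain ⟨a, ha⟩ := FiniteField.exists_nonsquare (F := F) hF
    have ha0 : a ≠ 0 := by
      rintro rfl
      exact ha ⟨0, by rw [mul_zero]⟩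
    refine ⟨-a, neg_ne_zero.mpr ha0, ?_⟩
    rw [neg_neg]
    unfold chi2
    rw [quadraticChar_neg_one_iff_not_isSquare.mpr ha, Int.cast_neg, Int.cast_one]

theorem exists_joint [FiniteDimensional ℂ X] (hF : ringChar F ≠ 2) (ψ : AddChar F ℂ) (hψ : ψ ≠ 1)
    (Xo Z : F → Module.End ℂ X) (S S' : Module.End ℂ X) (D D' : F → Module.End ℂ X)
    (hA : SL2Rel Xo S D) (hA' : SL2Rel Z S' D') (hC : OpsCommute Xo S D Z S' D')
    (Y : Submodule ℂ X) (hY : YInv Y Xo S D) (hY' : YInv Y Z S' D')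
    (H1 : ∀ α β : F, α ≠ 0 → β ≠ 0 → finrank ℂ ↥(wt2 ψ Xo Z Y α β) ≤ 1)
    (H2 : ∀ β : F, β ≠ 0 → HasGen ψ Xo Z S D Y β)
    (H2' : ∀ α : F, α ≠ 0 → HasGen ψ Z Xo S' D' Y α)
    (δ δ' : ℂ) (hδ : δ = 1 ∨ δ = -1) (hδ' : δ' = 1 ∨ δ' = -1) :
    ∃ y : X, y ≠ 0 ∧ y ∈ wt2 ψ Xo Z Y 0 0 ∧ avg0 Xo (S y) = (δ * kap ψ) • y ∧
      avg0 Z (S' y) = (δ' * kap ψ) • y := by
  obtain ⟨α, hα, hαδ⟩ := exists_alpha (F := F) hF δ hδ
  obtain ⟨β, hβ, hβδ⟩ := exists_alpha (F := F) hF δ' hδ'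
  have hδ2 : δ * δ = 1 := by
    rcases hδ with rfl | rfl <;> norm_num
  have hδ'2 : δ' * δ' = 1 := by
    rcases hδ' with rfl | rfl <;> norm_num
  have hC' : OpsCommute Z S' D' Xo S D := OpsCommute.swap hC
  have hJm : avg0 Xo * S ∈ Ualg Xo S D := Subalgebra.mul_mem _ (avg0_mem Xo S D) (S_mem Xo S D)
  have hJ'm : avg0 Z * S' ∈ Ualg Z S' D' :=
    Subalgebra.mul_mem _ (avg0_mem Z S' D') (S_mem Z S' D')
  obtain ⟨y0, hy0, hy0Y, hy0E, hJy0, hZy0⟩ := stageA hF ψ hψ hA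
    (fun u => comm_of_mem hC hJm (Xo_mem Z S' D' u)) (mem_Y_of_mem hY hJm) β (H2 β hβ) δ hδ2
  obtain ⟨y1, hy1, hy1Y, hy1E, hJy1, hXy1⟩ := stageA hF ψ hψ hA'
    (fun u => comm_of_mem hC' hJ'm (Xo_mem Xo S D u)) (mem_Y_of_mem hY' hJ'm) α (H2' α hα) δ' hδ'2
  obtain ⟨hg0, hg0Y, hg0X, hg0Z, hR0⟩ :=
    stageB hF ψ hψ hA hC hY α β hα δ hαδ y0 hy0 hy0Y hy0E hJy0 hZy0
  obtain ⟨hg1, hg1Y, hg1Z, hg1X, hR1⟩ :=
    stageB hF ψ hψ hA' hC' hY' β α hβ δ' hβδ y1 hy1 hy1Y hy1E hJy1 hXy1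
  -- `H1`: the two vectors are proportional
  have hg0w : avgP ψ Xo α (S y0) ∈ wt2 ψ Xo Z Y α β :=
    (mem_wt2 ψ Xo Z Y α β _).mpr ⟨hg0Y, fun u => ⟨hg0X u, hg0Z u⟩⟩
  have hg1w : avgP ψ Z β (S' y1) ∈ wt2 ψ Xo Z Y α β :=
    (mem_wt2 ψ Xo Z Y α β _).mpr ⟨hg1Y, fun u => ⟨hg1X u, hg1Z u⟩⟩
  obtain ⟨lam, hlam⟩ : ∃ lam : ℂ, avgP ψ Z β (S' y1) = lam • avgP ψ Xo α (S y0) := by
    obtain ⟨v, hv⟩ := finrank_le_one_iff.mp (H1 α β hα hβ)
    obtain ⟨a, ha⟩ := hv ⟨_, hg0w⟩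
    obtain ⟨b, hb⟩ := hv ⟨_, hg1w⟩
    have ha' : a • (v : X) = avgP ψ Xo α (S y0) := congrArg Subtype.val ha
    have hb' : b • (v : X) = avgP ψ Z β (S' y1) := congrArg Subtype.val hb
    have ha0 : a ≠ 0 := by
      rintro rfl
      rw [zero_smul] at ha'
      exact hg0 ha'.symm
    refine ⟨b * a⁻¹, ?_⟩
    rw [← ha', ← hb', smul_smul, mul_assoc, inv_mul_cancel₀ ha0, mul_one]
  have hlam0 : lam ≠ 0 := by
    rintro rfl
    rw [zero_smul] at hlam
    exact hg1 hlam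
  refine stageC hF ψ hψ hA hA' hC hY β δ δ' hδ2 y0 y1 (lam * (2 * ((Fintype.card F : ℂ))⁻¹))
    (mul_ne_zero hlam0 (mul_ne_zero two_ne_zero (inv_ne_zero card_ne_zero'))) hy0 hy0E hJy0
    hy1Y hy1E hJy1 ?_
  rw [hlam, map_smul, map_smul, map_smul, hR0, smul_smul]

/-! ## Lemma X -/

/-- the sign of a boolean -/
noncomputable def sgn (b : Bool) : ℂ := if b then 1 else -1

theorem sgn_or (b : Bool) : sgn b = 1 ∨ sgn b = -1 := by
  cases b
  · right; rfl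
  · left; rfl

theorem lemmaX [FiniteDimensional ℂ X] (hF : ringChar F ≠ 2) (ψ : AddChar F ℂ) (hψ : ψ ≠ 1)
    (Xo Z : F → Module.End ℂ X) (S S' : Module.End ℂ X) (D D' : F → Module.End ℂ X)
    (hA : SL2Rel Xo S D) (hA' : SL2Rel Z S' D') (hC : OpsCommute Xo S D Z S' D')
    (Y : Submodule ℂ X) (hY : YInv Y Xo S D) (hY' : YInv Y Z S' D')
    (H1 : ∀ α β : F, α ≠ 0 → β ≠ 0 → finrank ℂ ↥(wt2 ψ Xo Z Y α β) ≤ 1)
    (H2 : ∀ β : F, β ≠ 0 → HasGen ψ Xo Z S D Y β)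
    (H2' : ∀ α : F, α ≠ 0 → HasGen ψ Z Xo S' D' Y α) :
    4 ≤ finrank ℂ ↥(wt2 ψ Xo Z Y 0 0) := by
  choose y hy0 hyw hyJ hyJ' using fun i : Bool × Bool =>
    exists_joint hF ψ hψ Xo Z S S' D D' hA hA' hC Y hY hY' H1 H2 H2' (sgn i.1) (sgn i.2)
      (sgn_or i.1) (sgn_or i.2)
  have hk := kap_ne_zero hF ψ hψ
  have hμ : Function.Injective (fun i : Bool × Bool => (sgn i.1 + 2 * sgn i.2) * kap ψ) := by
    rintro ⟨a, b⟩ ⟨c, d⟩ h
    have h' : sgn a + 2 * sgn b = sgn c + 2 * sgn d := mul_right_cancel₀ hk h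
    cases a <;> cases b <;> cases c <;> cases d <;>
      first
        | rfl
        | (exfalso; norm_num [sgn] at h')
  have hli : LinearIndependent ℂ y := by
    refine Module.End.eigenvectors_linearIndependent'
      (avg0 Xo * S + (2 : ℂ) • (avg0 Z * S'))
      (fun i : Bool × Bool => (sgn i.1 + 2 * sgn i.2) * kap ψ) hμ y (fun i => ⟨?_, hy0 i⟩)
    rw [Module.End.mem_eigenspace_iff, LinearMap.add_apply, LinearMap.smul_apply,
      Module.End.mul_apply, Module.End.mul_apply, hyJ i, hyJ' i, smul_smul, ← add_smul]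
    congr 1
    ring
  have hli' : LinearIndependent ℂ
      (fun i : Bool × Bool => (⟨y i, hyw i⟩ : ↥(wt2 ψ Xo Z Y 0 0))) :=
    LinearIndependent.of_comp (wt2 ψ Xo Z Y 0 0).subtype hli
  have h4 := hli'.fintype_card_le_finrank
  rw [Fintype.card_prod, Fintype.card_bool] at h4
  exact h4

end Cfsg.Agent.Lib.Helper96_OO_K_LEMX
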