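/-
Package OO-K-KILL of S2344 (helper64): the phantom `D = B_n - 1` does not exist for `n ≥ 4`.
An irreducible module of `T Q` (`Q` of odd type of rank `n ≥ 4`, `q` odd, `q ≥ 5`) with thin data (only singular
weights, each a line) whose `0`-weight space `X_0` is an IRREDUCIBLE module of the Levi factor of degree
`2 ≤ f ≤ bodd q (n - 1)` cannot exist: Lemma X gives `dim (X^K)^{XZ} ≥ 4`, Step 4 gives `≤ 3`.
Proof text: pending/helper64/S2344_kill.md.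
-/
import Mathlib
import Cfsg.Agent.Lib.Helper64_OOKDefs
import Cfsg.Agent.Lib.Helper48_OOThinLe
import Cfsg.Agent.Lib.Helper95_OO_K_COMM
import Cfsg.Agent.Lib.Helper89_OO_K_KINV
import Cfsg.Agent.Lib.Helper64_OO_K_UK
import Cfsg.Agent.Lib.Helper63_OO_K_SL2REL
import Cfsg.Agent.Lib.Helper12_OO_K_Y00
import Cfsg.Agent.Lib.Helper96_OO_K_LEMX
import Cfsg.Agent.Lib.Helper82_OO_K_H1
import Cfsg.Agent.Lib.Helper82_OO_K_H2
import Cfsg.Agent.Lib.Helper22_OO_K_TRIV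
import Cfsg.Agent.Lib.Helper29_OO_K_SIGN
import Cfsg.Agent.Lib.Helper41_OO_K_JE

set_option autoImplicit false

namespace Cfsg.Agent.Lib.Helper64_OO_K_KILL

open Module Cfsg.Agent.Lib.Helper94_OrthSmall Cfsg.Agent.Lib.Helper44_QuadClass
  Cfsg.Agent.Lib.Helper14_OmegaSimple Cfsg.Agent.Lib.Helper38_MIODefs
  Cfsg.Agent.Lib.Helper95_OPDefs Cfsg.Agent.Lib.Helper95_OPBasic Cfsg.Agent.Lib.Helper48_OODefs
  Cfsg.Agent.Lib.Helper64_OOKDefs

variable {F V : Type*} [Field F] [Fintype F] [AddCommGroup V] [Module F V]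
  [FiniteDimensional F V]

/-- OO-K-H2 (verbatim statement): `hasGen_aux` of helper82 + OO-K-TRIV + OO-K-SIGN + OO-K-JE -/
theorem hasGen_loc [DecidableEq F] {X : Type*} [AddCommGroup X] [Module ℂ X] [FiniteDimensional ℂ X]
    (Q : QuadraticForm F V) (hQ : (QuadraticMap.polarBilin Q).Nondegenerate)
    (hdim : 9 ≤ finrank F V) (hF : ringChar F ≠ 2) (hq : 4 ≤ Fintype.card F)
    {v v' : V} (hv : Q v = 0) (hv' : Q v' = 0)
    (hvv' : QuadraticMap.polar (⇑Q) v v' = 1) (a a' : ↥(perp Q v v'))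
    (ha : Qp Q v v' a = 0) (ha' : Qp Q v v' a' = 0)
    (haa' : QuadraticMap.polar (⇑(Qp Q v v')) a a' = 1)
    (ρ : Representation ℂ ↥(T Q) X) (ψ : AddChar F ℂ) (hψ : ψ ≠ 1)
    [DecidableEq ↥(perp Q v v')]
    (hint : DirectSum.IsInternal (fun u : ↥(perp Q v v') => wsp Q ρ ψ v v' u))
    (f : ℕ) (hW : WData Q ρ ψ v v' 1 f) (m : ℕ) (hm : 1 ≤ m)
    (hP₂ : IsOddT (Qp (Qp Q v v') a a') m) (β : F) (hβ : β ≠ 0) :
    HasGen ψ (opX Q ρ v (a' : V)) (opX Q ρ v (a : V)) (opS Q ρ v v' (a : V) (a' : V))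
      (opD Q ρ v v' (a : V) (a' : V)) (KFix Q ρ v v' a a') β :=
  Cfsg.Agent.Lib.Helper82_OO_K_H2.hasGen_aux Q a a' ha' haa' ρ ψ f hW β hβ
    (Cfsg.Agent.Lib.Helper22_OO_K_TRIV.wsp_le_KFix Q hQ hdim hq hv hv' hvv' a a' ha ha' haa' ρ ψ f
      hW β hβ)
    (fun e he t ht => Cfsg.Agent.Lib.Helper29_OO_K_SIGN.torus_sign Q hQ hdim hF hv hv' hvv' a a' ha
      ha' haa' ρ ψ hψ hint f hW m hP₂ β hβ e he t ht)
    (fun e he he0 => Cfsg.Agent.Lib.Helper41_OO_K_JE.je_not_eigen Q hQ hdim hv hv' hvv' a a' ha ha'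
      haa' ρ ψ hψ hint f hW m hm hP₂ β hβ e he he0)

/-! ## OO-K-KILL (L) -/
theorem kill {X : Type*} [AddCommGroup X] [Module ℂ X] [FiniteDimensional ℂ X]
    (Q : QuadraticForm F V) (n : ℕ) (hn : 4 ≤ n) (hP : IsOddT Q n)
    (hF : ringChar F ≠ 2) (hq : 5 ≤ Fintype.card F) {v v' : V} (hv : Q v = 0) (hv' : Q v' = 0)
    (hvv' : QuadraticMap.polar (⇑Q) v v' = 1)
    (ρ : Representation ℂ ↥(T Q) X) (ψ : AddChar F ℂ) (hψ : ψ ≠ 1)
    [DecidableEq ↥(perp Q v v')]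
    (hint : DirectSum.IsInternal (fun u : ↥(perp Q v v') => wsp Q ρ ψ v v' u))
    (f : ℕ) (hW : WData Q ρ ψ v v' 1 f)
    (L : LeviHom Q v v')
    (hinv : ∀ (g : ↥(T (Qp Q v v'))) (x : X), x ∈ wsp Q ρ ψ v v' 0 →
      ρ (L.ι g) x ∈ wsp Q ρ ψ v v' 0)
    (hσ : (sigmaRep Q ρ ψ v v' L hinv).IsIrreducible)
    (h2f : 2 ≤ f) (hfle : f ≤ bodd (Fintype.card F) (n - 1)) : False := by
  classical
  have hQ := hP.nondeg
  have hdimV : finrank F V = 2 * n + 1 := hP.dim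
  have hdim9 : 9 ≤ finrank F V := by omega
  have hdim5 : 5 ≤ finrank F V := by omega
  have hPW : IsOddT (Qp Q v v') (n - 1) := isOddT_perp Q n (by omega) hP hv hv' hvv'
  have hdimW : finrank F ↥(perp Q v v') = 2 * (n - 1) + 1 := hPW.dim
  -- a hyperbolic pair of `W`
  obtain ⟨a, ha0, ha⟩ := exists_singular (Qp Q v v') (by omega)
  obtain ⟨a', ha', haa'⟩ := exists_hyperbolic_partner (Qp Q v v') hPW.nondeg ha0 ha
  have ha'a : QuadraticMap.polar (⇑(Qp Q v v')) a' a = 1 := by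
    rw [QuadraticMap.polar_comm]; exact haa'
  have hP₂ : IsOddT (Qp (Qp Q v v') a a') (n - 1 - 1) :=
    isOddT_perp (Qp Q v v') (n - 1) (by omega) hPW ha ha' haa'
  have hP₂' : IsOddT (Qp (Qp Q v v') a' a) (n - 1 - 1) :=
    isOddT_perp (Qp Q v v') (n - 1) (by omega) hPW ha' ha ha'a
  have hquad := hypQuad_of_perp Q hv hv' hvv' a a' ha ha' haa'
  -- the operators of the two commuting long-root `SL_2`
  have hA := Cfsg.Agent.Lib.Helper63_OO_K_SL2REL.sl2rel Q hQ hdim5 hquad ρ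
  have hA' := Cfsg.Agent.Lib.Helper63_OO_K_SL2REL.sl2rel Q hQ hdim5 hquad.swap ρ
  have hC := Cfsg.Agent.Lib.Helper95_OO_K_COMM.opsCommute Q hQ hdim5 hquad ρ
  have hY := Cfsg.Agent.Lib.Helper89_OO_K_KINV.kfix_inv Q hQ hdim5 hv hv' hvv' a a' ha ha' haa' ρ
  have hY' := Cfsg.Agent.Lib.Helper89_OO_K_KINV.kfix_inv Q hQ hdim5 hv hv' hvv' a' a ha' ha ha'a ρ
  rw [KFix_swap] at hY'
  have H1 := Cfsg.Agent.Lib.Helper82_OO_K_H1.h1 Q hQ hdim9 hv hv' hvv' a a' ha ha' haa' ρ ψ hψ hint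
    f hW
  have H2 := hasGen_loc Q hQ hdim9 hF (by omega) hv hv' hvv' a a' ha ha'
    haa' ρ ψ hψ hint f hW (n - 1 - 1) (by omega) hP₂
  have H2' := hasGen_loc Q hQ hdim9 hF (by omega) hv hv' hvv' a' a ha' ha
    ha'a ρ ψ hψ hint f hW (n - 1 - 1) (by omega) hP₂'
  simp only [KFix_swap Q ρ v v' a a'] at H2'
  -- Lemma X: four independent vectors in the joint fixed space
  have h4 := Cfsg.Agent.Lib.Helper96_OO_K_LEMX.lemmaX hF ψ hψ (opX Q ρ v (a' : V))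
    (opX Q ρ v (a : V)) (opS Q ρ v v' (a : V) (a' : V)) (opS Q ρ v v' (a' : V) (a : V))
    (opD Q ρ v v' (a : V) (a' : V)) (opD Q ρ v v' (a' : V) (a : V)) hA hA' hC
    (KFix Q ρ v v' a a') hY hY' H1 H2 H2'
  have h5 := Cfsg.Agent.Lib.Helper12_OO_K_Y00.y00 Q hQ hdim9 hv hv' hvv' a a' ha ha' haa' ρ ψ hψ hint
    f hW
  -- Step 4: at most two
  have hfU : finrank ℂ ↥(wsp Q ρ ψ v v' 0) = f := hW.hf
  obtain ⟨hint₁, f₁, hW₁⟩ := Cfsg.Agent.Lib.Helper48_OOThinLe.thin_le (Qp Q v v') (n - 1) (by omega)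
    hPW hF hq ha ha' haa' (sigmaRep Q ρ ψ v v' L hinv) hσ (by omega) (by omega) ψ hψ
  obtain ⟨hint₂, f₂, hW₂⟩ := Cfsg.Agent.Lib.Helper48_OOThinLe.thin_le (Qp Q v v') (n - 1) (by omega)
    hPW hF hq ha' ha ha'a (sigmaRep Q ρ ψ v v' L hinv) hσ (by omega) (by omega) ψ hψ
  have h6 := Cfsg.Agent.Lib.Helper64_OO_K_UK.uk_le_two Q hQ hdim9 hv hv' hvv' a a' ha ha' haa' ρ ψ hψ
    L hinv hσ (by omega) hint₁ f₁ hW₁ hint₂ f₂ hW₂
  omega

end Cfsg.Agent.Lib.Helper64_OO_K_KILL
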