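import Mathlib
import Cfsg.Agent.Lib.Helper40_OOdd
import Cfsg.Agent.Lib.Helper99_SpTICount
import Cfsg.Agent.Lib.Helper5_QuadCount

set_option autoImplicit false
set_option linter.unusedSectionVars false

/-!
S5972-OC (helper84's package): the number of totally singular `m`-spaces of the standard quadratic
form of dimension `2 d + 1` over a finite field of odd order (helper60).

Reusable: `card_zeros_quadFormOdd`, `card_zeros_of_nondegenerate` (a nondegenerate quadratic space
of dimension `2 e + 1` has `q ^ (2 e)` singular vectors), `card_singular_orthogonal`,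
`card_tsFrame`, `card_ts_mul`, `card_ts_mul'` (general nondegenerate odd-dimensional `Q`).
-/

namespace Cfsg.Agent.Lib.Helper60_OTS_OC

open Module Matrix
open Cfsg.Agent.Lib.Helper99_SubspaceCount Cfsg.Agent.Lib.Helper99_SpTICount
  Cfsg.Agent.Lib.Helper44_StdForms Cfsg.Agent.Lib.Helper5_QuadCount

universe v

section zeros

variable {F : Type v} [Field F] [Fintype F]

/-- the number of zeros of the standard odd form -/
theorem card_zeros_quadFormOdd (e : ℕ) :
    Nat.card {v : Unit ⊕ (Fin e ⊕ Fin e) → F // Cfsg.quadFormOdd e F v = 0} =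
      Fintype.card F ^ (2 * e) := by
  classical
  have eqv : {v : Unit ⊕ (Fin e ⊕ Fin e) → F // Cfsg.quadFormOdd e F v = 0} ≃
      Σ a : F, {p : (Fin e → F) × (Fin e → F) // p.1 ⬝ᵥ p.2 = - (a * a)} :=
    { toFun := fun v => ⟨v.1 (Sum.inl ()),
        ⟨(fun i => v.1 (Sum.inr (Sum.inl i)), fun i => v.1 (Sum.inr (Sum.inr i))), by
          have := v.2
          unfold Cfsg.quadFormOdd at this
          simp only [dotProduct]
          linear_combination this⟩⟩
      invFun := fun s => ⟨Sum.elim (fun _ => s.1) (Sum.elim s.2.1.1 s.2.1.2), by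
          have := s.2.2
          unfold Cfsg.quadFormOdd
          simp only [dotProduct] at this
          simp only [Sum.elim_inl, Sum.elim_inr]
          linear_combination this⟩
      left_inv := fun v => by
        apply Subtype.ext
        funext k
        rcases k with ⟨⟩ | k | k <;> rfl
      right_inv := fun s => by
        rcases s with ⟨a, ⟨⟨x, y⟩, h⟩⟩
        rfl }
  rw [Nat.card_congr eqv, card_sigma_pairs (fun a : F => a * a) e 0 (by intro a; simp)]
  rcases e with _ | e
  · simp
  · set A := Fintype.card F ^ (e + 1) with hA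
    have hA1 : 1 ≤ A := Nat.one_le_pow _ _ Fintype.card_pos
    obtain ⟨B, hB⟩ : ∃ B, A = B + 1 := ⟨A - 1, by omega⟩
    have h1 : Fintype.card F * ((A - 1) * Fintype.card F ^ (e + 1 - 1)) = (A - 1) * A := by
      rw [Nat.add_sub_cancel, hA, pow_succ]; ring
    rw [h1, show 2 * (e + 1) = (e + 1) + (e + 1) by ring, pow_add, ← hA, hB, Nat.add_sub_cancel]
    ring

/-- a nondegenerate quadratic space of dimension `2 e + 1` over a finite field has `q ^ (2 e)`
singular vectors -/
theorem card_zeros_of_nondegenerate {V : Type v} [AddCommGroup V] [Module F V]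
    [FiniteDimensional F V] (e : ℕ) (hV : finrank F V = 2 * e + 1) (Q : QuadraticForm F V)
    (hQ : (QuadraticMap.polarBilin Q).Nondegenerate) :
    Nat.card {v : V // Q v = 0} = Fintype.card F ^ (2 * e) := by
  obtain ⟨φ, μ, hμ, hφ⟩ := Cfsg.Agent.Lib.Helper40_OOdd.exists_simil_qfOdd e hV Q hQ
  rw [← card_zeros_quadFormOdd (F := F) e]
  refine Nat.card_congr (Equiv.subtypeEquiv φ.toEquiv ?_)
  intro v
  rw [hφ v, ← coe_qfOdd]
  simp [hμ]

end zeros

section perp

variable {K : Type v} [Field K] [Fintype K] {V : Type v} [AddCommGroup V] [Module K V]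
  [FiniteDimensional K V]

theorem polarBilin_symm (Q : QuadraticForm K V) (x y : V) :
    QuadraticMap.polarBilin Q x y = QuadraticMap.polarBilin Q y x := by
  rw [QuadraticMap.polarBilin_apply_apply, QuadraticMap.polarBilin_apply_apply,
    QuadraticMap.polar_comm]

theorem polarBilin_isRefl (Q : QuadraticForm K V) :
    LinearMap.BilinForm.IsRefl (QuadraticMap.polarBilin Q) :=
  fun x y h => by rw [polarBilin_symm, h]

theorem polarBilin_self_eq_zero_iff (h2 : (2 : K) ≠ 0) (Q : QuadraticForm K V) (x : V) :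
    QuadraticMap.polarBilin Q x x = 0 ↔ Q x = 0 := by
  rw [QuadraticMap.polarBilin_apply_apply, QuadraticMap.polar_self, two_smul, ← two_mul]
  constructor
  · intro h
    exact (mul_eq_zero.1 h).resolve_left h2
  · intro h
    rw [h, mul_zero]

/-- the number of singular vectors orthogonal to a totally singular subspace of dimension `j`
of a nondegenerate quadratic space of dimension `2 d + 1` -/
theorem card_singular_orthogonal (Q : QuadraticForm K V)
    (hQ : (QuadraticMap.polarBilin Q).Nondegenerate) (d : ℕ) (hV : finrank K V = 2 * d + 1)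
    (U : Submodule K V) (hU : ∀ u ∈ U, Q u = 0) (j : ℕ) (hj : finrank K U = j) (hjd : j ≤ d) :
    Nat.card {x : V // x ∈ LinearMap.BilinForm.orthogonal (QuadraticMap.polarBilin Q) U ∧ Q x = 0} =
      Fintype.card K ^ (2 * d - j) := by
  classical
  set B : LinearMap.BilinForm K V := QuadraticMap.polarBilin Q with hB
  have hsymm : ∀ x y, B x y = B y x := polarBilin_symm Q
  have hrefl : B.IsRefl := polarBilin_isRefl Q
  set W := B.orthogonal U with hW
  have hUU : ∀ u ∈ U, ∀ u' ∈ U, B u u' = 0 := by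
    intro u hu u' hu'
    rw [hB, QuadraticMap.polarBilin_apply_apply, QuadraticMap.polar, hU _ (U.add_mem hu hu'),
      hU u hu, hU u' hu']
    simp
  have hUW : U ≤ W := by
    intro u hu
    rw [hW, LinearMap.BilinForm.mem_orthogonal_iff]
    intro n hn
    exact hUU n hn u hu
  obtain ⟨C₀, hC₀⟩ := Submodule.exists_isCompl U
  set C := C₀ ⊓ W with hC
  have hdisj : U ⊓ C = ⊥ := by
    rw [hC, ← inf_assoc, hC₀.inf_eq_bot, bot_inf_eq]
  have hsup : U ⊔ C = W := by
    rw [hC, ← sup_inf_assoc_of_le _ hUW, hC₀.sup_eq_top, top_inf_eq]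
  have hWd : finrank K W = 2 * d + 1 - j := by
    rw [hW, LinearMap.BilinForm.finrank_orthogonal hQ U, hV, hj]
  have hCd : finrank K C = 2 * (d - j) + 1 := by
    have := Submodule.finrank_sup_add_finrank_inf_eq U C
    rw [hsup, hdisj, finrank_bot, hWd, hj] at this
    omega
  have hCW : ∀ c ∈ C, ∀ u ∈ U, B u c = 0 := by
    intro c hc u hu
    have h1 : c ∈ W := hc.2
    rw [hW, LinearMap.BilinForm.mem_orthogonal_iff] at h1
    exact h1 u hu
  have hCnd : (QuadraticMap.polarBilin (Q.comp C.subtype)).Nondegenerate := by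
    apply LinearMap.BilinForm.Nondegenerate.ofSeparatingLeft
    intro c hc
    have h1 : (c : V) ∈ B.orthogonal W := by
      rw [LinearMap.BilinForm.mem_orthogonal_iff]
      intro w hw
      rw [← hsup] at hw
      obtain ⟨u, hu, c', hc', rfl⟩ := Submodule.mem_sup.1 hw
      rw [map_add, LinearMap.add_apply, hCW c c.2 u hu, zero_add, hsymm]
      have h3 := hc ⟨c', hc'⟩
      rw [QuadraticMap.polarBilin_apply_apply,
        Cfsg.Agent.Lib.Helper44_QuadClass.polar_comp_subtype] at h3
      exact h3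
    rw [hW, LinearMap.BilinForm.orthogonal_orthogonal hQ hrefl] at h1
    have h4 : (c : V) ∈ U ⊓ C := ⟨h1, c.2⟩
    rw [hdisj] at h4
    exact Subtype.ext ((Submodule.mem_bot K).1 h4)
  have hcardC : Nat.card {c : C // (Q.comp C.subtype) c = 0} = Fintype.card K ^ (2 * (d - j)) :=
    card_zeros_of_nondegenerate (d - j) hCd _ hCnd
  have hQadd : ∀ u ∈ U, ∀ c ∈ C, Q (u + c) = Q c := by
    intro u hu c hc
    have h5 := hCW c hc u hu
    rw [hB, QuadraticMap.polarBilin_apply_apply] at h5
    rw [QuadraticMap.map_add (⇑Q) u c, h5, hU u hu]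
    simp
  let f : U × {c : C // (Q.comp C.subtype) c = 0} → {x : V // x ∈ W ∧ Q x = 0} := fun p =>
    ⟨(p.1 : V) + ((p.2.1 : C) : V), by
      rw [← hsup]
      exact Submodule.add_mem_sup p.1.2 p.2.1.2, by
      rw [hQadd _ p.1.2 _ p.2.1.2]
      exact p.2.2⟩
  have hf : Function.Bijective f := by
    constructor
    · rintro ⟨u, c, hc⟩ ⟨u', c', hc'⟩ h
      have h6 : (u : V) + (c : V) = (u' : V) + (c' : V) := congrArg Subtype.val h
      have h7 : (u : V) - (u' : V) ∈ U ⊓ C := by
        refine ⟨U.sub_mem u.2 u'.2, ?_⟩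
        have : (u : V) - (u' : V) = (c' : V) - (c : V) := by
          rw [sub_eq_sub_iff_add_eq_add, h6, add_comm]
        rw [this]
        exact C.sub_mem c'.2 c.2
      rw [hdisj, Submodule.mem_bot, sub_eq_zero] at h7
      have h8 : (c : V) = (c' : V) := by
        rw [h7] at h6
        exact add_left_cancel h6
      have e1 : u = u' := Subtype.ext h7
      have e2 : c = c' := Subtype.ext h8
      subst e1
      subst e2
      rfl
    · rintro ⟨x, hxW, hxQ⟩
      rw [← hsup] at hxW
      obtain ⟨u, hu, c, hc, rfl⟩ := Submodule.mem_sup.1 hxW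
      refine ⟨⟨⟨u, hu⟩, ⟨⟨c, hc⟩, ?_⟩⟩, rfl⟩
      rw [hQadd u hu c hc] at hxQ
      exact hxQ
  rw [← Nat.card_congr (Equiv.ofBijective f hf), Nat.card_prod, hcardC,
    Module.natCard_eq_pow_finrank (K := K) (V := U), hj, Nat.card_eq_fintype_card, ← pow_add]
  congr 1
  omega

end perp

section frames

variable {K : Type v} [Field K] [Fintype K] {V : Type v} [AddCommGroup V] [Module K V]
  [FiniteDimensional K V] [Finite V]

/-- extending a totally isotropic frame of a symmetric form by one (isotropic) vector. -/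
def equivTS (B : LinearMap.BilinForm K V) (hsymm : ∀ x y, B x y = B y x) (m : ℕ) :
    TIFrame B (m + 1) ≃ Σ s : TIFrame B m,
      {x : V // x ∈ B.orthogonal (Submodule.span K (Set.range s.1)) ∧
        x ∉ Submodule.span K (Set.range s.1) ∧ B x x = 0} where
  toFun s := ⟨⟨Fin.tail s.1, (linearIndependent_finSucc.mp s.2.1).1,
      fun a b => s.2.2 a.succ b.succ⟩,
    ⟨s.1 0, (mem_orthogonal_span_iff B _ _).2 (fun a => s.2.2 a.succ 0),
      (linearIndependent_finSucc.mp s.2.1).2, s.2.2 0 0⟩⟩
  invFun s := ⟨Fin.cons s.2.1 s.1.1, linearIndependent_finCons.mpr ⟨s.1.2.1, s.2.2.2.1⟩, by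
    have hx := (mem_orthogonal_span_iff B _ _).1 s.2.2.1
    intro a b
    refine Fin.cases ?_ (fun a' => ?_) a <;> refine Fin.cases ?_ (fun b' => ?_) b
    · simp only [Fin.cons_zero]; exact s.2.2.2.2
    · simp only [Fin.cons_zero, Fin.cons_succ]; rw [hsymm, hx b']
    · simp only [Fin.cons_zero, Fin.cons_succ]; exact hx a'
    · simp only [Fin.cons_succ]; exact s.1.2.2 a' b'⟩
  left_inv s := by
    apply Subtype.ext
    simp only [Fin.cons_self_tail]
  right_inv := fun ⟨s, x⟩ => by
    simp only [Fin.cons_zero, Subtype.coe_eta, Sigma.mk.inj_iff, Fin.tail_cons]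
    exact ⟨trivial, heq_of_eq (Subtype.ext rfl)⟩

/-- the number of singular vectors orthogonal to a totally singular frame and outside its span. -/
theorem card_fibre_ts (h2 : (2 : K) ≠ 0) (Q : QuadraticForm K V)
    (hQ : (QuadraticMap.polarBilin Q).Nondegenerate) (d : ℕ) (hV : finrank K V = 2 * d + 1)
    {m : ℕ} (hm : m ≤ d) (s : TIFrame (QuadraticMap.polarBilin Q) m) :
    Nat.card {x : V // x ∈ LinearMap.BilinForm.orthogonal (QuadraticMap.polarBilin Q)
          (Submodule.span K (Set.range s.1)) ∧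
        x ∉ Submodule.span K (Set.range s.1) ∧ QuadraticMap.polarBilin Q x x = 0} =
      Fintype.card K ^ (2 * d - m) - Fintype.card K ^ m := by
  classical
  set U := Submodule.span K (Set.range s.1) with hU
  set O := LinearMap.BilinForm.orthogonal (QuadraticMap.polarBilin Q) U with hO
  have hUO : U ≤ O := span_le_orthogonal (QuadraticMap.polarBilin Q) s.1 s.2.2
  have hUd : finrank K U = m := by rw [hU, finrank_span_eq_card s.2.1, Fintype.card_fin]
  have hUts : ∀ u ∈ U, Q u = 0 := by
    intro u hu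
    have h1 := hUO hu
    rw [hO, LinearMap.BilinForm.mem_orthogonal_iff] at h1
    exact (polarBilin_self_eq_zero_iff h2 Q u).1 (h1 u hu)
  have h1 : Nat.card {x : V // x ∈ O ∧ x ∉ U ∧ QuadraticMap.polarBilin Q x x = 0} =
      ({x : V | x ∈ O ∧ Q x = 0} \ (U : Set V)).ncard := by
    rw [← Nat.card_coe_set_eq]
    apply Nat.card_congr
    apply Equiv.subtypeEquivRight
    intro x
    simp only [Set.mem_sdiff, Set.mem_ofPred_eq, SetLike.mem_coe]
    rw [polarBilin_self_eq_zero_iff h2 Q x]
    tauto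
  have hsub : (U : Set V) ⊆ {x : V | x ∈ O ∧ Q x = 0} := fun x hx => ⟨hUO hx, hUts x hx⟩
  rw [h1, Set.ncard_sdiff hsub (Set.toFinite _)]
  have h3 : ({x : V | x ∈ O ∧ Q x = 0}).ncard = Fintype.card K ^ (2 * d - m) := by
    rw [← Nat.card_coe_set_eq]
    exact card_singular_orthogonal Q hQ d hV U hUts m hUd hm
  have h4 : (U : Set V).ncard = Fintype.card K ^ m := by
    rw [← Nat.card_coe_set_eq]
    show Nat.card ↥U = _
    rw [Module.natCard_eq_pow_finrank (K := K) (V := U), hUd, Nat.card_eq_fintype_card]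
  rw [h3, h4]

/-- the number of totally singular frames. -/
theorem card_tsFrame (h2 : (2 : K) ≠ 0) (Q : QuadraticForm K V)
    (hQ : (QuadraticMap.polarBilin Q).Nondegenerate) (d : ℕ) (hV : finrank K V = 2 * d + 1)
    (m : ℕ) (hm : m ≤ d) :
    Nat.card (TIFrame (QuadraticMap.polarBilin Q) m) =
      ∏ i ∈ Finset.range m, (Fintype.card K ^ (2 * d - i) - Fintype.card K ^ i) := by
  classical
  induction m with
  | zero =>
    rw [Finset.prod_range_zero]
    have : Unique (TIFrame (QuadraticMap.polarBilin Q) 0) :=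
      { default := ⟨fun a => a.elim0, linearIndependent_empty_type, fun a => a.elim0⟩
        uniq := fun s => Subtype.ext (funext fun a => a.elim0) }
    exact Nat.card_unique
  | succ m ih =>
    have : Fintype (TIFrame (QuadraticMap.polarBilin Q) m) := Fintype.ofFinite _
    rw [Nat.card_congr (equivTS (QuadraticMap.polarBilin Q) (polarBilin_symm Q) m), Nat.card_sigma,
      Finset.sum_congr rfl (fun s _ => card_fibre_ts h2 Q hQ d hV (by omega) s), Finset.sum_const,
      smul_eq_mul, Finset.card_univ, ← Nat.card_eq_fintype_card, ih (by omega),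
      Finset.prod_range_succ]

/-- the number of totally singular `m`-subspaces, times the number of bases of an `m`-space. -/
theorem card_ts_mul (h2 : (2 : K) ≠ 0) (Q : QuadraticForm K V)
    (hQ : (QuadraticMap.polarBilin Q).Nondegenerate) (d : ℕ) (hV : finrank K V = 2 * d + 1)
    (m : ℕ) (hm : m ≤ d) :
    Nat.card {W : Submodule K V // finrank K W = m ∧ ∀ w ∈ W, Q w = 0} *
        ∏ i : Fin m, (Fintype.card K ^ m - Fintype.card K ^ i.val) =
      ∏ i ∈ Finset.range m, (Fintype.card K ^ (2 * d - i) - Fintype.card K ^ i) := by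
  classical
  set B : LinearMap.BilinForm K V := QuadraticMap.polarBilin Q with hB
  have : Fintype {W : Submodule K V // finrank K W = m ∧ ∀ w ∈ W, Q w = 0} :=
    Fintype.ofFinite _
  let π : TIFrame B m → {W : Submodule K V // finrank K W = m ∧ ∀ w ∈ W, Q w = 0} :=
    fun s => ⟨Submodule.span K (Set.range s.1),
      by rw [finrank_span_eq_card s.2.1, Fintype.card_fin], by
        intro u hu
        have := span_le_orthogonal B s.1 s.2.2 hu
        rw [LinearMap.BilinForm.mem_orthogonal_iff] at this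
        exact (polarBilin_self_eq_zero_iff h2 Q u).1 (this u hu)⟩
  have h2' : Nat.card (TIFrame B m) = ∑ W, Nat.card {s // π s = W} := by
    rw [← Nat.card_sigma]; exact Nat.card_congr (Equiv.sigmaFiberEquiv π).symm
  have h3 : ∀ W, Nat.card {s // π s = W} =
      ∏ i : Fin m, (Fintype.card K ^ m - Fintype.card K ^ i.val) := fun W => by
    have e : {s // π s = W} ≃
        {s : {s : Fin m → V // LinearIndependent K s} //
          Submodule.span K (Set.range s.1) = W.1} :=
      { toFun := fun s => ⟨⟨s.1.1, s.1.2.1⟩, congrArg Subtype.val s.2⟩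
        invFun := fun s => ⟨⟨s.1.1, s.1.2, by
            intro a b
            have hsub : ∀ c, s.1.1 c ∈ W.1 := by
              intro c
              have h1 : s.1.1 c ∈ Submodule.span K (Set.range s.1.1) :=
                Submodule.subset_span ⟨c, rfl⟩
              exact (le_of_eq s.2) h1
            rw [hB, QuadraticMap.polarBilin_apply_apply, QuadraticMap.polar,
              W.2.2 _ (W.1.add_mem (hsub a) (hsub b)), W.2.2 _ (hsub a), W.2.2 _ (hsub b)]
            simp⟩, Subtype.ext s.2⟩
        left_inv := fun s => rfl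
        right_inv := fun s => rfl }
    rw [Nat.card_congr (e.trans (fibreEquiv m W.1 W.2.1))]
    have := card_linearIndependent (K := K) (V := W.1) (k := m) (by rw [W.2.1])
    rw [this, W.2.1]
  rw [← card_tsFrame h2 Q hQ d hV m hm, h2', Finset.sum_congr rfl (fun W _ => h3 W),
    Finset.sum_const, smul_eq_mul, Finset.card_univ, Nat.card_eq_fintype_card]

/-- the number of totally singular `m`-subspaces, with the powers of `q` removed. -/
theorem card_ts_mul' (h2 : (2 : K) ≠ 0) (Q : QuadraticForm K V)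
    (hQ : (QuadraticMap.polarBilin Q).Nondegenerate) (d : ℕ) (hV : finrank K V = 2 * d + 1)
    (m : ℕ) (hm : m ≤ d) :
    Nat.card {W : Submodule K V // finrank K W = m ∧ ∀ w ∈ W, Q w = 0} *
        P (Fintype.card K) m m =
      ∏ i ∈ Finset.range m, (Fintype.card K ^ (2 * (d - i)) - 1) := by
  have h := card_ts_mul h2 Q hQ d hV m hm
  set q := Fintype.card K with hq
  have hq0 : 0 < q := Fintype.card_pos
  rw [prod_eq q m m le_rfl] at h
  have h3 : ∏ i ∈ Finset.range m, (q ^ (2 * d - i) - q ^ i) =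
      (∏ i ∈ Finset.range m, q ^ i) * ∏ i ∈ Finset.range m, (q ^ (2 * (d - i)) - 1) := by
    rw [← Finset.prod_mul_distrib]
    apply Finset.prod_congr rfl
    intro i hi
    rw [Finset.mem_range] at hi
    have h1 : q ^ (2 * d - i) = q ^ i * q ^ (2 * (d - i)) := by
      rw [← pow_add]; congr 1; omega
    rw [h1, ← Nat.mul_sub_one]
  rw [h3] at h
  have hpos : 0 < ∏ i ∈ Finset.range m, q ^ i := Finset.prod_pos fun i _ => pow_pos hq0 i
  apply Nat.eq_of_mul_eq_mul_left hpos
  rw [← h]
  ring

/-- the number of totally singular `m`-subspaces is `1` modulo the characteristic. -/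
theorem card_ts_modEq_one (h2 : (2 : K) ≠ 0) (Q : QuadraticForm K V)
    (hQ : (QuadraticMap.polarBilin Q).Nondegenerate) (d : ℕ) (hV : finrank K V = 2 * d + 1)
    (p : ℕ) [Fact p.Prime] [CharP K p] (m : ℕ) (hm : m ≤ d) :
    Nat.card {W : Submodule K V // finrank K W = m ∧ ∀ w ∈ W, Q w = 0} ≡ 1 [MOD p] := by
  have hpq : p ∣ Fintype.card K := by
    obtain ⟨k, -, hk⟩ := FiniteField.card K p
    rw [hk]; exact dvd_pow_self p k.ne_zero
  have h := congrArg (fun x : ℕ => (x : ZMod p)) (card_ts_mul' h2 Q hQ d hV m hm)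
  simp only [Nat.cast_mul, Nat.cast_prod] at h
  have hterm : ∀ i ∈ Finset.range m,
      ((Fintype.card K ^ (2 * (d - i)) - 1 : ℕ) : ZMod p) = -1 := by
    intro i hi
    rw [Finset.mem_range] at hi
    have h0 : ((Fintype.card K : ℕ) : ZMod p) = 0 := (ZMod.natCast_eq_zero_iff _ _).2 hpq
    rw [Nat.cast_sub (Nat.one_le_pow _ _ Fintype.card_pos), Nat.cast_pow, h0,
      zero_pow (by omega)]
    simp
  rw [P_cast_of_dvd hpq Fintype.card_pos m m le_rfl, Finset.prod_congr rfl hterm,
    Finset.prod_const, Finset.card_range] at h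
  have hu : IsUnit ((-1 : ZMod p) ^ m) := (isUnit_one.neg).pow m
  have h2' : (Nat.card {W : Submodule K V // finrank K W = m ∧ ∀ w ∈ W, Q w = 0} :
      ZMod p) = 1 := hu.mul_right_cancel (by rw [h, one_mul])
  rw [← ZMod.natCast_eq_natCast_iff, h2', Nat.cast_one]

/-- a prime dividing the number of totally singular `m`-subspaces divides some
`q ^ (2 (d - i)) - 1` with `i < m`. -/
theorem exists_dvd_of_dvd_card_ts (h2 : (2 : K) ≠ 0) (Q : QuadraticForm K V)
    (hQ : (QuadraticMap.polarBilin Q).Nondegenerate) (d : ℕ) (hV : finrank K V = 2 * d + 1)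
    (m : ℕ) (hm : m ≤ d) {r : ℕ} (hr : r.Prime)
    (h : r ∣ Nat.card {W : Submodule K V // finrank K W = m ∧ ∀ w ∈ W, Q w = 0}) :
    ∃ i < m, r ∣ Fintype.card K ^ (2 * (d - i)) - 1 := by
  have h1 : r ∣ ∏ i ∈ Finset.range m, (Fintype.card K ^ (2 * (d - i)) - 1) := by
    rw [← card_ts_mul' h2 Q hQ d hV m hm]
    exact h.mul_right _
  rw [hr.prime.dvd_finsetProd_iff] at h1
  obtain ⟨i, hi, hdi⟩ := h1
  exact ⟨i, Finset.mem_range.1 hi, hdi⟩

end frames

section final

theorem finrank_oddSpace {F : Type v} [Field F] (d : ℕ) :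
    finrank F (Unit ⊕ (Fin d ⊕ Fin d) → F) = 2 * d + 1 := by
  rw [Module.finrank_fintype_fun_eq_card]
  simp only [Fintype.card_sum, Fintype.card_unit, Fintype.card_fin]
  ring

/-- OC1: the number of totally singular `m`-spaces is prime to `p`. -/
theorem OC1 {F : Type v} [Field F] [Fintype F] {p : ℕ} [Fact p.Prime] [CharP F p]
    (h2 : (2 : F) ≠ 0) (d m : ℕ) (hm : 1 ≤ m) (hmd : m ≤ d) :
    ¬ p ∣ Nat.card {W : Submodule F (Unit ⊕ (Fin d ⊕ Fin d) → F) //
      Module.finrank F ↥W = m ∧ (∀ w ∈ W, Cfsg.quadFormOdd d F w = 0)} := by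
  have h := card_ts_modEq_one h2 (qfOdd d F)
    (Cfsg.Agent.Lib.Helper14_POmegaSimple.nondegenerate_qfOdd h2 d) d (finrank_oddSpace d) p m hmd
  simp only [coe_qfOdd] at h
  intro hdvd
  have h1 : p ∣ 1 := (Nat.ModEq.dvd_iff h (dvd_refl p)).1 hdvd
  exact (Fact.out : p.Prime).one_lt.ne' (Nat.dvd_one.1 h1)

/-- OC2: a prime divisor `r` of the number of totally singular `m`-spaces divides some
`q ^ (2 (d - j)) - 1`, `j < m`. -/
theorem OC2 {F : Type v} [Field F] [Fintype F] (h2 : (2 : F) ≠ 0) (d m : ℕ) (hm : 1 ≤ m)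
    (hmd : m ≤ d) (r : ℕ) (hr : r.Prime)
    (hrΩ : r ∣ Nat.card {W : Submodule F (Unit ⊕ (Fin d ⊕ Fin d) → F) //
      Module.finrank F ↥W = m ∧ (∀ w ∈ W, Cfsg.quadFormOdd d F w = 0)}) :
    ∃ j : ℕ, j < m ∧ r ∣ Fintype.card F ^ (2 * (d - j)) - 1 := by
  have h := exists_dvd_of_dvd_card_ts h2 (qfOdd d F)
    (Cfsg.Agent.Lib.Helper14_POmegaSimple.nondegenerate_qfOdd h2 d) d (finrank_oddSpace d) m hmd hr
  simp only [coe_qfOdd] at h
  exact h hrΩ

end final

end Cfsg.Agent.Lib.Helper60_OTS_OC
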