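import Mathlib
import Cfsg.Agent.Lib.Helper14_POmegaSimple
import Cfsg.Agent.Lib.Helper14_MI2_BRLOW
import Cfsg.Agent.Lib.Helper14_MI2_BREX
import Cfsg.Agent.Lib.Helper5_QuadCount
import Cfsg.Agent.Lib.Helper60_OTS_OC
import Cfsg.Agent.Lib.Helper73_MIOBridge

set_option autoImplicit false

namespace Cfsg.Agent.Lib.Helper73_MIOOdd

open Module Matrix Cfsg.Agent.Lib.Helper94_OrthSmall
  Cfsg.Agent.Lib.Helper14_OmegaSimple Cfsg.Agent.Lib.Helper14_POmegaSimple
  Cfsg.Agent.Lib.Helper14_MI2_BRLOW Cfsg.Agent.Lib.Helper44_StdForms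
  Cfsg.Agent.Lib.Helper73_MIOBridge
open scoped commutatorElement

variable {F : Type*} [Field F] [Fintype F]

theorem two_ne_zero_of_odd (hodd : Odd (Fintype.card F)) : (2 : F) ≠ 0 := by
  intro h2
  have hc : CharP F 2 := CharTwo.of_one_ne_zero_of_two_eq_zero one_ne_zero h2
  have := FiniteField.even_card_of_char_two (ringChar.eq F 2)
  exact (Nat.not_even_iff_odd.2 hodd) (Nat.even_iff.2 this)

theorem card_oddSpace (m : ℕ) : Fintype.card (Unit ⊕ (Fin m ⊕ Fin m)) = 2 * m + 1 := by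
  simp [Fintype.card_sum]; ring

omit [Fintype F] in
theorem finrank_oddSpace (m : ℕ) : finrank F (Unit ⊕ (Fin m ⊕ Fin m) → F) = 2 * m + 1 := by
  rw [Module.finrank_fintype_fun_eq_card, card_oddSpace]

/-- the hypotheses of `Helper38_MIOMain.main_odd` for the standard odd form -/
theorem odd_hyps (hodd : Odd (Fintype.card F)) (m : ℕ) (hm : 3 ≤ m) :
    (QuadraticMap.polarBilin (qfOdd m F)).Nondegenerate ∧
    finrank F (Unit ⊕ (Fin m ⊕ Fin m) → F) = 2 * m + 1 ∧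
    (2 : F) ≠ 0 ∧
    ⁅oG (⇑(qfOdd m F)), oG (⇑(qfOdd m F))⁆ ≤ T (qfOdd m F) ∧
    Nat.card {x : Unit ⊕ (Fin m ⊕ Fin m) → F // qfOdd m F x = 0} = Fintype.card F ^ (2 * m) ∧
    (∀ c : F, c ≠ 0 → Fintype.card F ^ (2 * m) - Fintype.card F ^ m ≤
      Nat.card {x : Unit ⊕ (Fin m ⊕ Fin m) → F // qfOdd m F x = c}) := by
  have h2 := two_ne_zero_of_odd hodd
  have hQ := nondegenerate_qfOdd (F := F) h2 m
  refine ⟨hQ, finrank_oddSpace m, h2, ?_, ?_, ?_⟩
  · exact le_of_eq (commutator_oG_eq_T (qfOdd m F) hQ (by rw [card_oddSpace]; omega))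
  · rw [coe_qfOdd]
    exact Cfsg.Agent.Lib.Helper60_OTS_OC.card_zeros_quadFormOdd m
  · intro c _
    rw [coe_qfOdd]
    exact card_level_quadFormOdd_ge m c

/-- the number of singular points of the standard odd form -/
theorem card_points_odd (hodd : Odd (Fintype.card F)) (m : ℕ) (hm : 1 ≤ m) :
    Nat.card {W : Submodule F (Unit ⊕ (Fin m ⊕ Fin m) → F) //
      finrank F W = 1 ∧ ∀ w ∈ W, qfOdd m F w = 0} =
      (Fintype.card F ^ (2 * m) - 1) / (Fintype.card F - 1) := by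
  have h2 := two_ne_zero_of_odd hodd
  have hQ := nondegenerate_qfOdd (F := F) h2 m
  have h := Cfsg.Agent.Lib.Helper60_OTS_OC.card_ts_mul h2 (qfOdd m F) hQ m (finrank_oddSpace m) 1 hm
  rw [Fin.prod_univ_one, Finset.prod_range_one] at h
  simp only [Fin.val_zero, pow_zero, pow_one, Nat.sub_zero] at h
  have hq : 1 < Fintype.card F := Fintype.one_lt_card
  exact (Nat.div_eq_of_eq_mul_left (by omega) h.symm).symm

/-- **S2143 from the abstract theorem** -/
theorem S2143_of_main {q : ℕ} (hF : Fintype.card F = q) (hodd : Odd q) (h5 : 5 ≤ q) (m : ℕ)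
    (hm : 3 ≤ m)
    (hmain : ∀ H : Subgroup ((Unit ⊕ (Fin m ⊕ Fin m) → F) ≃ₗ[F] (Unit ⊕ (Fin m ⊕ Fin m) → F)),
      H ≤ T (qfOdd m F) → H ≠ T (qfOdd m F) →
        (q ^ (2 * m) - 1) / (q - 1) ≤ H.relIndex (T (qfOdd m F))) :
    (∀ H : Subgroup (Cfsg.POmega F (Cfsg.quadFormOdd m F)), H ≠ ⊤ →
      (q ^ (2 * m) - 1) / (q - 1) ≤ H.index) ∧
    (∃ H : Subgroup (Cfsg.POmega F (Cfsg.quadFormOdd m F)),
      H.index = (q ^ (2 * m) - 1) / (q - 1)) := by
  subst hF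
  have h2 := two_ne_zero_of_odd hodd
  have hQ := nondegenerate_qfOdd (F := F) h2 m
  have hn : 5 ≤ Fintype.card (Unit ⊕ (Fin m ⊕ Fin m)) := by rw [card_oddSpace]; omega
  have hlow := lower_gen (qfOdd m F) hQ hn _ hmain
  have hN2 : 2 ≤ (Fintype.card F ^ (2 * m) - 1) / (Fintype.card F - 1) := by
    rw [Nat.le_div_iff_mul_le (by omega)]
    have h1 : Fintype.card F ^ 2 ≤ Fintype.card F ^ (2 * m) :=
      Nat.pow_le_pow_right (by omega) (by omega)
    have h3 : 5 * Fintype.card F ≤ Fintype.card F ^ 2 := by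
      rw [pow_two]; exact Nat.mul_le_mul_right _ h5
    omega
  have hex := exists_index_points (qfOdd m F) hQ hn _ hN2 (card_points_odd hodd m (by omega)) hlow
  rw [coe_qfOdd] at hlow hex
  exact ⟨hlow, hex⟩

end Cfsg.Agent.Lib.Helper73_MIOOdd
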