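import Mathlib
import Cfsg.Agent.Lib.Helper95_OPDefs
import Cfsg.Agent.Lib.Helper95_OPBasic
import Cfsg.Agent.Lib.Helper48_OODefs
import Cfsg.Agent.Lib.Helper44_StdForms
import Cfsg.Agent.Lib.Helper73_MIOOdd

/-!
helper73 — package OO-BRODD of the S2344 market (cutter helper48): the standard odd form
`qfOdd m F` over a finite field of odd order is of odd type of rank `m` (for every `m`).
-/

set_option autoImplicit false

namespace Cfsg.Agent.Lib.Helper73_OO_BRODD

open Module Cfsg.Agent.Lib.Helper94_OrthSmall Cfsg.Agent.Lib.Helper44_QuadClass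
  Cfsg.Agent.Lib.Helper14_OmegaSimple Cfsg.Agent.Lib.Helper38_MIODefs
  Cfsg.Agent.Lib.Helper95_OPDefs Cfsg.Agent.Lib.Helper95_OPBasic Cfsg.Agent.Lib.Helper48_OODefs

section partE

universe u

variable {F : Type u} [Field F] [Fintype F]

open Cfsg.Agent.Lib.Helper44_StdForms

/-! ## OO-BRODD (M) -/
theorem isOddT_qfOdd (hodd : Odd (Fintype.card F)) (m : ℕ) : IsOddT (qfOdd m F) m := by
  have h2 := Cfsg.Agent.Lib.Helper73_MIOOdd.two_ne_zero_of_odd hodd
  refine ⟨Cfsg.Agent.Lib.Helper14_POmegaSimple.nondegenerate_qfOdd (F := F) h2 m,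
    Cfsg.Agent.Lib.Helper73_MIOOdd.finrank_oddSpace m, ?_, ?_⟩
  · rw [coe_qfOdd]
    exact Cfsg.Agent.Lib.Helper60_OTS_OC.card_zeros_quadFormOdd m
  · intro c _
    rw [coe_qfOdd]
    exact Cfsg.Agent.Lib.Helper73_MIOBridge.card_level_quadFormOdd_ge m c

end partE

end Cfsg.Agent.Lib.Helper73_OO_BRODD
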