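import Mathlib
import Cfsg.Prelude.Def_Classical
import Cfsg.Agent.Lib.Helper48_OOThin
import Cfsg.Agent.Lib.Helper48_OOThinLe
import Cfsg.Agent.Lib.Helper87_OO2Defs
import Cfsg.Agent.Lib.Helper64_OO_K_KILL
import Cfsg.Agent.Lib.Helper73_OO_BRODD
import Cfsg.Agent.Lib.Helper14_OrthFinal
import Cfsg.Agent.Lib.Helper16_Orbit
import Cfsg.Agent.Lib.Helper46_OO_ARITH

set_option autoImplicit false

/-!
S2344 (helper48, final assembly): the minimal degree of `Ω_{2n+1}(q)`, `q` odd, `q > 3`, `n ≥ 3`.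

* route (A): `claim_all` (`Claim F n` for all `n ≥ 3` from the base and the step) and `main_A`;
* route (B): `step_B` (`phantom_data` + helper64's `kill`) and `main_B` (induction on the rank from the
  base `P(3)`);
* `bridge`: from `MinDegT (qfOdd n F) (bodd q n)` to the frozen statement.
-/

namespace Cfsg.Agent.Lib.Helper48_OOFinal

open Module Cfsg.Agent.Lib.Helper94_OrthSmall Cfsg.Agent.Lib.Helper44_QuadClass
  Cfsg.Agent.Lib.Helper14_OmegaSimple Cfsg.Agent.Lib.Helper38_MIODefs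
  Cfsg.Agent.Lib.Helper95_OPDefs Cfsg.Agent.Lib.Helper95_OPBasic Cfsg.Agent.Lib.Helper48_OODefs
  Cfsg.Agent.Lib.Helper87_OO2Defs Cfsg.Agent.Lib.Helper44_StdForms

universe u

section routes

variable {F : Type u} [Field F] [Fintype F]

set_option linter.unusedVariables false

/-- `CLAIM(n)` for all `n ≥ 3` (route (A)). -/
theorem claim_all (hbase : Claim.{u, u} F 3)
    (hstep : ∀ n : ℕ, 4 ≤ n → Claim.{u, u} F (n - 1) → Claim.{u, u} F n) :
    ∀ n : ℕ, 3 ≤ n → Claim.{u, u} F n := by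
  intro n
  induction n with
  | zero => intro h; omega
  | succ k ih =>
    intro hk
    by_cases hk3 : k + 1 = 3
    · rw [hk3]; exact hbase
    · have := hstep (k + 1) (by omega)
      rw [Nat.add_sub_cancel] at this
      exact this (ih (by omega))

/-- **Main theorem** (abstract form, route (A)). -/
theorem main_A (hq : 4 ≤ Fintype.card F) (hclaim : ∀ n : ℕ, 3 ≤ n → Claim.{u, u} F n) :
    ∀ (n : ℕ), 3 ≤ n → ∀ (V : Type u) [AddCommGroup V] [Module F V] [FiniteDimensional F V]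
      (Q : QuadraticForm F V), IsOddT Q n → MinDegT Q (bodd (Fintype.card F) n) := by
  classical
  intro n hn V _ _ _ Q hP X _ _ _ ρ hirr h2
  by_contra hlt
  push Not at hlt
  have hQ := hP.nondeg
  have hdim := hP.dim
  obtain ⟨v, hv0, hv⟩ := exists_singular Q (by omega)
  obtain ⟨v', hv', hvv'⟩ := exists_hyperbolic_partner Q hQ hv0 hv
  obtain ⟨ψ, hψ'⟩ := (AddChar.exists_apply_ne_zero (α := F) (a := (1 : F))).mpr one_ne_zero
  have hψ : ψ ≠ 1 := fun h => hψ' (by rw [h]; rfl)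
  obtain ⟨hint, f, hW, hD⟩ :=
    Cfsg.Agent.Lib.Helper48_OOThin.wdata_one Q n hn hq hP hv hv' hvv' ρ hirr h2 hlt ψ hψ
  have := (hclaim n hn V Q hP X ρ hirr ψ hψ v v' ⟨hv, hv', hvv'⟩ hint f hW).1
  omega

/-- **Inductive step** `n - 1 → n` (`n ≥ 4`) from the plain induction hypothesis (route (B)). -/
theorem step_B {V : Type u} [AddCommGroup V] [Module F V] [FiniteDimensional F V]
    (Q : QuadraticForm F V) (n : ℕ) (hn : 4 ≤ n) (hq : 5 ≤ Fintype.card F)
    (hF : ringChar F ≠ 2) (hP : IsOddT Q n) {v v' : V} (hv : Q v = 0) (hv' : Q v' = 0)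
    (hvv' : QuadraticMap.polar (⇑Q) v v' = 1)
    (hIH : MinDegT (Qp Q v v') (bodd (Fintype.card F) (n - 1))) :
    MinDegT Q (bodd (Fintype.card F) n) := by
  classical
  intro X _ _ _ ρ hirr h2
  by_contra hlt
  push Not at hlt
  have hQ := hP.nondeg
  have hdimV : finrank F V = 2 * n + 1 := hP.dim
  have hdim5 : 5 ≤ finrank F V := by omega
  obtain ⟨ψ, hψ'⟩ := (AddChar.exists_apply_ne_zero (α := F) (a := (1 : F))).mpr one_ne_zero
  have hψ : ψ ≠ 1 := fun h => hψ' (by rw [h]; rfl)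
  obtain ⟨L⟩ := Cfsg.Agent.Lib.Helper73_OP_EXT.exists_leviHom Q hQ hv hv' hvv'
  have hinv : ∀ (g : ↥(T (Qp Q v v'))) (x : X), x ∈ wsp Q ρ ψ v v' 0 →
      ρ (L.ι g) x ∈ wsp Q ρ ψ v v' 0 :=
    fun g x hx => Cfsg.Agent.Lib.Helper48_OOThin.wsp_zero_inv Q hQ hdim5 hv ρ ψ L g x hx
  obtain ⟨hint, hW, hD, hσ⟩ := Cfsg.Agent.Lib.Helper48_OOThinLe.phantom_data Q n hn (by omega) hP hv
    hv' hvv' hIH ρ hirr h2 hlt ψ hψ L hinv
  have hpos : 2 ≤ bodd (Fintype.card F) (n - 1) := by
    have h1 := Cfsg.Agent.Lib.Helper46_OO_ARITH.bodd_succ (Fintype.card F) (n - 1) (by omega) (by omega)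
    have h3 : 25 ≤ Fintype.card F ^ (2 * (n - 1 - 1)) := by
      calc 25 = 5 ^ 2 := by norm_num
        _ ≤ Fintype.card F ^ 2 := Nat.pow_le_pow_left hq 2
        _ ≤ Fintype.card F ^ (2 * (n - 1 - 1)) := Nat.pow_le_pow_right (by omega) (by omega)
    omega
  exact Cfsg.Agent.Lib.Helper64_OO_K_KILL.kill Q n hn hP hF hq hv hv' hvv' ρ ψ hψ hint _ hW L hinv hσ
    hpos le_rfl

/-- **Main theorem** (abstract form, route (B)): induction on the rank from the base `n = 3`. -/
theorem main_B (hq : 5 ≤ Fintype.card F) (hF : ringChar F ≠ 2)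
    (hbase : ∀ (V : Type u) [AddCommGroup V] [Module F V] [FiniteDimensional F V]
      (Q : QuadraticForm F V), IsOddT Q 3 → MinDegT Q (bodd (Fintype.card F) 3)) :
    ∀ (n : ℕ), 3 ≤ n → ∀ (V : Type u) [AddCommGroup V] [Module F V] [FiniteDimensional F V]
      (Q : QuadraticForm F V), IsOddT Q n → MinDegT Q (bodd (Fintype.card F) n) := by
  intro n
  induction n with
  | zero => intro h; omega
  | succ k ih =>
    intro hk V _ _ _ Q hP
    by_cases hk3 : k + 1 = 3
    · rw [hk3] at hP ⊢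
      exact hbase V Q hP
    · have hk4 : 4 ≤ k + 1 := by omega
      have hQ := hP.nondeg
      have hdim := hP.dim
      obtain ⟨v, hv0, hv⟩ := exists_singular Q (by omega)
      obtain ⟨v', hv', hvv'⟩ := exists_hyperbolic_partner Q hQ hv0 hv
      have hPW := isOddT_perp Q (k + 1) (by omega) hP hv hv' hvv'
      have hIH := ih (by omega) ↥(perp Q v v') (Qp Q v v') hPW
      exact step_B Q (k + 1) hk4 hq hF hP hv hv' hvv' hIH

end routes

section bridge

theorem bodd_eq_div (q n : ℕ) (hq : 2 ≤ q) : bodd q n = (q ^ (2 * n) - 1) / (q ^ 2 - 1) := by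
  have h := Cfsg.Agent.Lib.Helper46_OO_ARITH.bodd_mul q n hq
  have hpos : 0 < q ^ 2 - 1 := by
    have : 4 ≤ q ^ 2 := by nlinarith
    omega
  rw [← h, Nat.mul_div_cancel_left _ hpos]

theorem two_ne_zero_of_odd {F : Type*} [Field F] [Fintype F] (hodd : Odd (Fintype.card F)) :
    (2 : F) ≠ 0 := by
  intro h
  have hchar : ringChar F ∣ 2 := (ringChar.spec F 2).mp (by exact_mod_cast h)
  have hdvd : ringChar F ∣ Fintype.card F := by
    obtain ⟨p, hp⟩ := CharP.exists F
    obtain ⟨k, hpk, hk⟩ := FiniteField.card F p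
    have : ringChar F = p := ringChar.eq F p
    rw [this, hk]
    exact dvd_pow_self p (PNat.ne_zero k)
  have hprime : (ringChar F).Prime := CharP.char_is_prime F (ringChar F)
  have h2' : ringChar F = 2 := (Nat.prime_dvd_prime_iff_eq hprime Nat.prime_two).mp hchar
  rw [h2'] at hdvd
  exact (Nat.not_even_iff_odd.mpr hodd) (even_iff_two_dvd.mpr hdvd)

theorem ringChar_ne_two_of_odd {F : Type*} [Field F] [Fintype F] (hodd : Odd (Fintype.card F)) :
    ringChar F ≠ 2 := by
  intro h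
  have h2 := two_ne_zero_of_odd hodd
  apply h2
  have := ringChar.spec F 2
  have h3 : ((2 : ℕ) : F) = 0 := this.mpr (by rw [h])
  exact_mod_cast h3

/-- bridge: from the abstract main theorem to the frozen statement -/
theorem bridge {F : Type*} [Field F] [Fintype F] (n : ℕ) (hn : 3 ≤ n) (hodd : Odd (Fintype.card F))
    (h3 : 3 < Fintype.card F)
    (hmain : MinDegT (qfOdd n F) (bodd (Fintype.card F) n)) :
    (∀ (k : ℕ) (ρ : Representation ℂ (Cfsg.Omega F (Cfsg.quadFormOdd n F)) (Fin k → ℂ)), ρ.IsIrreducible → 2 ≤ k → (Fintype.card F ^ (2 * n) - 1) / (Fintype.card F ^ 2 - 1) ≤ k) := by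
  classical
  have h2 : (2 : F) ≠ 0 := two_ne_zero_of_odd hodd
  have hQ := Cfsg.Agent.Lib.Helper14_POmegaSimple.nondegenerate_qfOdd (F := F) h2 n
  have hcard : 5 ≤ Fintype.card (Unit ⊕ (Fin n ⊕ Fin n)) := by
    simp only [Fintype.card_sum, Fintype.card_fin, Fintype.card_unit]; omega
  have key : ∀ (k : ℕ) (ρ : Representation ℂ (Cfsg.Omega F (⇑(qfOdd n F))) (Fin k → ℂ)),
      ρ.IsIrreducible → 2 ≤ k → bodd (Fintype.card F) n ≤ k := by
    intro k ρ hirr hk
    let e := Cfsg.Agent.Lib.Helper14_OrthFinal.eOT (qfOdd n F) hQ hcard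
    have hsurj : Function.Surjective e.symm.toMonoidHom := e.symm.surjective
    haveI := hirr
    have hirr' := Cfsg.Agent.Lib.Helper16_Orbit.irreducible_comp ρ e.symm.toMonoidHom hsurj
    have := hmain (Fin k → ℂ) (ρ.comp e.symm.toMonoidHom) hirr'
      (by rw [Module.finrank_fin_fun]; exact hk)
    rwa [Module.finrank_fin_fun] at this
  rw [coe_qfOdd, bodd_eq_div _ _ (by omega)] at key
  exact key

end bridge

end Cfsg.Agent.Lib.Helper48_OOFinal
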