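import Mathlib

/-!
# S2314 market `pc_packages` (architect helper81), package PK-CELL (helper48):
fixed points of `u ∈ U` on the cell `U n B / B`.
-/

set_option autoImplicit false
set_option linter.unusedSectionVars false
set_option linter.unusedVariables false

namespace Cfsg.Agent.Lib.Helper81_PCount

/-! ## PK-CELL -/

open Classical in
theorem card_fixedBy_cell {G : Type*} [Group G] [Finite G] (B U K : Subgroup G) (hUB : U ≤ B) (hKU : K ≤ U)
    (n : G)
    (hBU : ∀ b ∈ B, ∃ u ∈ U, ((b * n : G) : G ⧸ B) = ((u * n : G) : G ⧸ B))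
    (hK : ∀ x ∈ U, (x ∈ K ↔ n⁻¹ * x * n ∈ B))
    (hKn : ∀ x ∈ U, ∀ k ∈ K, x * k * x⁻¹ ∈ K) (u : G) (hu : u ∈ U) :
    Nat.card K * Nat.card {y : MulAction.fixedBy (G ⧸ B) u //
        ∃ x ∈ B, (y : G ⧸ B) = ((x * n : G) : G ⧸ B)} =
      if u ∈ K then Nat.card U else 0 := by
  -- when is `x n B` fixed by `u`
  have hfix : ∀ x ∈ U, (u • (((x * n : G)) : G ⧸ B) = ((x * n : G) : G ⧸ B) ↔ u ∈ K) := by
    intro x hx
    have e1 : u • (((x * n : G)) : G ⧸ B) = ((u * (x * n) : G) : G ⧸ B) := rfl
    rw [e1, QuotientGroup.eq]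
    have e2 : (u * (x * n))⁻¹ * (x * n) = n⁻¹ * (x⁻¹ * u⁻¹ * x) * n := by group
    rw [e2]
    have hxu : x⁻¹ * u⁻¹ * x ∈ U := U.mul_mem (U.mul_mem (U.inv_mem hx) (U.inv_mem hu)) hx
    rw [← hK _ hxu]
    constructor
    · intro h
      have h1 := hKn x hx _ h
      have e3 : x * (x⁻¹ * u⁻¹ * x) * x⁻¹ = u⁻¹ := by group
      rw [e3] at h1
      simpa using K.inv_mem h1
    · intro h
      have h1 := hKn x⁻¹ (U.inv_mem hx) _ (K.inv_mem h)
      simpa using h1
  split_ifs with huK
  · -- every point of the cell is fixed; the cell is `U / K`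
    let θ : U ⧸ K.subgroupOf U → G ⧸ B := Quotient.map' (fun x : U => (x : G) * n) (by
      intro x x' h
      rw [QuotientGroup.leftRel_apply] at h ⊢
      rw [Subgroup.mem_subgroupOf] at h
      have hU' : ((x⁻¹ * x' : U) : G) ∈ U := (x⁻¹ * x').2
      have := (hK _ hU').1 h
      have e : ((x : G) * n)⁻¹ * ((x' : G) * n) = n⁻¹ * ((x⁻¹ * x' : U) : G) * n := by
        push_cast
        group
      rw [e]
      exact this)
    have hθmk : ∀ x : U, θ (QuotientGroup.mk x) = (((x : G) * n : G) : G ⧸ B) := fun x => rfl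
    have hθinj : Function.Injective θ := by
      intro z z' e
      induction z using QuotientGroup.induction_on with
      | H x =>
        induction z' using QuotientGroup.induction_on with
        | H x' =>
          rw [hθmk, hθmk, QuotientGroup.eq] at e
          rw [QuotientGroup.eq, Subgroup.mem_subgroupOf]
          have hU' : ((x⁻¹ * x' : U) : G) ∈ U := (x⁻¹ * x').2
          apply (hK _ hU').2
          have e' : ((x : G) * n)⁻¹ * ((x' : G) * n) = n⁻¹ * ((x⁻¹ * x' : U) : G) * n := by
            push_cast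
            group
          rw [← e']
          exact e
    let Θ : U ⧸ K.subgroupOf U →
        {y : MulAction.fixedBy (G ⧸ B) u // ∃ x ∈ B, (y : G ⧸ B) = ((x * n : G) : G ⧸ B)} :=
      fun z => ⟨⟨θ z, by
        induction z using QuotientGroup.induction_on with
        | H x =>
          rw [MulAction.mem_fixedBy, hθmk]
          exact (hfix x x.2).2 huK⟩, by
        induction z using QuotientGroup.induction_on with
        | H x => exact ⟨x, hUB x.2, hθmk x⟩⟩
    have hΘ : Function.Bijective Θ := by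
      constructor
      · intro z z' e
        have : θ z = θ z' :=
          congrArg (fun y => ((y.1 : MulAction.fixedBy (G ⧸ B) u) : G ⧸ B)) e
        exact hθinj this
      · rintro ⟨⟨y, hy⟩, x, hx, hyx⟩
        simp only at hyx
        obtain ⟨u', hu', hxu'⟩ := hBU x hx
        refine ⟨QuotientGroup.mk ⟨u', hu'⟩, ?_⟩
        apply Subtype.ext
        apply Subtype.ext
        show θ (QuotientGroup.mk ⟨u', hu'⟩) = y
        rw [hθmk, hyx, hxu']
    rw [← Nat.card_congr (Equiv.ofBijective Θ hΘ)]
    have h1 : Nat.card (K.subgroupOf U) = Nat.card K :=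
      Nat.card_congr (Subgroup.subgroupOfEquivOfLe hKU).toEquiv
    rw [← h1, ← Subgroup.index_eq_card, Subgroup.card_mul_index]
  · -- no point of the cell is fixed
    have hempty : IsEmpty {y : MulAction.fixedBy (G ⧸ B) u //
        ∃ x ∈ B, (y : G ⧸ B) = ((x * n : G) : G ⧸ B)} := by
      constructor
      rintro ⟨⟨y, hy⟩, x, hx, hyx⟩
      simp only at hyx
      obtain ⟨u', hu', hxu'⟩ := hBU x hx
      apply huK
      apply (hfix u' hu').1
      rw [← hxu', ← hyx]
      exact hy
    rw [@Nat.card_of_isEmpty _ hempty, mul_zero]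

end Cfsg.Agent.Lib.Helper81_PCount
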