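import Mathlib
import Cfsg.Agent.Lib.Helper94_Q2Defs
import Cfsg.Agent.Lib.Helper48_Q2_BRIDGE
import Cfsg.Agent.Lib.Helper16_Q2_BRISO

/-!
# Q2-BRIDGE, verbatim (helper94's Q2 market, rows S5694 / S5692, `k = 2`)

`BRIDGE` is the package statement verbatim: `Helper48_Q2_BRIDGE.BRIDGE_of` fed with helper16's
`Helper16_Q2_BRISO.BRISO`.
-/

set_option autoImplicit false
set_option linter.unusedSectionVars false
set_option linter.unusedVariables false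

namespace Cfsg.Agent.Lib.Helper48_Q2_BRIDGEw

open Module Cfsg.Agent.Lib.Helper94_Symp Cfsg.Agent.Lib.Helper94_OrthSmall
  Cfsg.Agent.Lib.Helper94_OrthSiegel Cfsg.Agent.Lib.Helper94_OrthNondeg
  Cfsg.Agent.Lib.Helper29_ODDefs Cfsg.Agent.Lib.Helper94_Q2Defs

/-- **Q2-BRIDGE** (verbatim package statement). -/
theorem BRIDGE {F V : Type*} [Field F] [AddCommGroup V] [Module F V] [Finite F]
    [FiniteDimensional F V] {Q : V → F} {B : LinearMap.BilinForm F V}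
    (hmodel : ∀ (a b : F) [Fact (∀ r : F, r ^ 2 ≠ a + b * r)] (t : ℕ), 5 ≤ t → Nat.card F ≠ 3 →
      (∀ u z, mQ a b t u = 0 → mB a b t u z = 0 →
        sieg (mQ a b t) (mB a b t) u z ∈ mOm a b t) →
      (∀ M : Subgroup (MV a b t ≃ₗ[F] MV a b t),
        (∀ u z, mQ a b t u = 0 → mB a b t u z = 0 → sieg (mQ a b t) (mB a b t) u z ∈ M) →
          mOm a b t ≤ M) →
      ∀ S : Subgroup (MV a b t ≃ₗ[F] MV a b t), IsDStab (mD a b t) S →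
        (S ⊓ mOm a b t < mOm a b t) ∧
          ∀ M : Subgroup (MV a b t ≃ₗ[F] MV a b t), S ⊓ mOm a b t ≤ M → M ≤ mOm a b t →
            M = S ⊓ mOm a b t ∨ M = mOm a b t)
    (hQs : ∀ (c : F) (v : V), Q (c • v) = c * c * Q v)
    (hQp : ∀ u v : V, Q (u + v) = Q u + Q v + B u v)
    (hG2 : ∀ u z, Q u = 0 → B u z = 0 → sieg Q B u z ∈ ⁅oG Q, oG Q⁆)
    (hG3 : ∀ M : Subgroup (V ≃ₗ[F] V),
      (∀ u z, Q u = 0 → B u z = 0 → sieg Q B u z ∈ M) → ⁅oG Q, oG Q⁆ ≤ M)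
    {t : ℕ} (D : Fin t → Submodule F V) (hD : ODec Q B 2 D)
    (hani : ∀ i, ∀ x ∈ D i, Q x = 0 → x = 0) (ht : 5 ≤ t) (hq : Nat.card F ≠ 3)
    (S : Subgroup (V ≃ₗ[F] V)) (hS : IsDStab D S) :
    (S ⊓ ⁅oG Q, oG Q⁆ < ⁅oG Q, oG Q⁆) ∧
      ∀ M : Subgroup (V ≃ₗ[F] V), S ⊓ ⁅oG Q, oG Q⁆ ≤ M → M ≤ ⁅oG Q, oG Q⁆ →
        M = S ⊓ ⁅oG Q, oG Q⁆ ∨ M = ⁅oG Q, oG Q⁆ :=
  Cfsg.Agent.Lib.Helper48_Q2_BRIDGE.BRIDGE_of hmodel hQs hQp hG2 hG3 D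
    (Cfsg.Agent.Lib.Helper16_Q2_BRISO.BRISO hQs hQp (by omega) D hD hani) ht hq S hS

end Cfsg.Agent.Lib.Helper48_Q2_BRIDGEw
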