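import Mathlib

/-!
# S2860 (helper48 market), package COMMSUP: `[C, R] ≤ T` for all members `R` gives `[C, sSup] ≤ T`
-/

set_option autoImplicit false

namespace Cfsg.Agent.Lib.Helper54_QS_COMMSUP

/-- `[C, K] ≤ T` says that `K` centralizes `C` modulo the normal subgroup `T` -/
theorem commutator_le_iff_le_comap {G : Type*} [Group G] (C T K : Subgroup G) [T.Normal] :
    ⁅C, K⁆ ≤ T ↔
      K ≤ (Subgroup.centralizer
        ((C.map (QuotientGroup.mk' T) : Subgroup (G ⧸ T)) : Set (G ⧸ T))).comap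
          (QuotientGroup.mk' T) := by
  rw [← Subgroup.map_le_iff_le_comap, ← Subgroup.commutator_eq_bot_iff_le_centralizer,
    Subgroup.commutator_comm, ← Subgroup.map_commutator, Subgroup.map_eq_bot_iff,
    QuotientGroup.ker_mk']

theorem commutator_sSup_le {G : Type*} [Group G] (C T : Subgroup G) [T.Normal]
    (𝒬 : Set (Subgroup G)) (h : ∀ R ∈ 𝒬, ⁅C, R⁆ ≤ T) : ⁅C, sSup 𝒬⁆ ≤ T := by
  rw [commutator_le_iff_le_comap]
  apply sSup_le
  intro R hR
  rw [← commutator_le_iff_le_comap]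
  exact h R hR

end Cfsg.Agent.Lib.Helper54_QS_COMMSUP
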