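import Mathlib

/-!
# S2860 (helper48 market), package DERSUP: `D ≤ N(B)` gives `[B ⊔ D, B ⊔ D] ≤ B ⊔ [D, D]`
-/

set_option autoImplicit false

namespace Cfsg.Agent.Lib.Helper54_QS_DERSUP

open scoped Pointwise commutatorElement

theorem commutator_sup_le {G : Type*} [Group G] (B D : Subgroup G)
    (h : D ≤ Subgroup.normalizer (B : Set G)) : ⁅B ⊔ D, B ⊔ D⁆ ≤ B ⊔ ⁅D, D⁆ := by
  rw [Subgroup.commutator_le]
  intro x hx y hy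
  have hdec : ∀ x ∈ B ⊔ D, ∃ b ∈ B, ∃ d ∈ D, x = b * d := by
    intro x hx
    have hset : (↑(B ⊔ D) : Set G) = (B : Set G) * (D : Set G) :=
      Subgroup.coe_mul_of_right_le_normalizer_left B D h
    rw [← SetLike.mem_coe, hset] at hx
    obtain ⟨b, hb, d, hd, rfl⟩ := Set.mem_mul.1 hx
    exact ⟨b, hb, d, hd, rfl⟩
  obtain ⟨b₁, hb₁, d₁, hd₁, rfl⟩ := hdec x hx
  obtain ⟨b₂, hb₂, d₂, hd₂, rfl⟩ := hdec y hy
  have hconj : ∀ d ∈ D, ∀ b ∈ B, d * b * d⁻¹ ∈ B := fun d hd b hb =>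
    ((Subgroup.mem_normalizer_iff.1 (h hd)) b).1 hb
  have key : ⁅b₁ * d₁, b₂ * d₂⁆ =
      (b₁ * (d₁ * b₂ * d₁⁻¹)) * ⁅d₁, d₂⁆ * ((d₂ * b₁⁻¹ * d₂⁻¹) * b₂⁻¹) := by
    simp only [commutatorElement_def]
    group
  rw [key]
  exact mul_mem (mul_mem (Subgroup.mem_sup_left (mul_mem hb₁ (hconj d₁ hd₁ b₂ hb₂)))
    (Subgroup.mem_sup_right (Subgroup.commutator_mem_commutator hd₁ hd₂)))
    (Subgroup.mem_sup_left (mul_mem (hconj d₂ hd₂ b₁⁻¹ (inv_mem hb₁)) (inv_mem hb₂)))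

end Cfsg.Agent.Lib.Helper54_QS_DERSUP
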