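import Mathlib
import Cfsg.Prelude.Def_CaseTheorems
import Cfsg.Prelude.Def_LocalStructure
import Cfsg.Agent.Lib.Helper29_Local

/-!
# S2860 package QS-CONGR (architect helper48): back from `↥E` to `G`

`Er' : Subgroup ↥E`, `Er := Er'.map E.subtype`; `↥Er' ≃* ↥Er` is `Er'.equivMapOfInjective`.
Quasisimplicity of the two quotients is transported along this isomorphism.  helper64.
-/

set_option autoImplicit false

namespace Cfsg.Agent.Lib.Helper64_QS_CONGR

open Cfsg.Agent.Lib.Helper29_Local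

/-- an isomorphism maps `O_p` into `O_p` -/
theorem map_pCore_le' {G G' : Type*} [Group G] [Group G'] (p : ℕ) (e : G ≃* G') :
    (Cfsg.pCore p G).map (e : G →* G') ≤ Cfsg.pCore p G' := by
  unfold Cfsg.pCore
  rw [Subgroup.map_le_iff_le_comap]
  apply sSup_le
  intro N hN
  rw [← Subgroup.map_le_iff_le_comap]
  apply le_sSup
  exact ⟨hN.1.map (e : G →* G') e.surjective, hN.2.map _⟩

theorem map_pCore_eq {G G' : Type*} [Group G] [Group G'] (p : ℕ) (e : G ≃* G') :
    (Cfsg.pCore p G).map (e : G →* G') = Cfsg.pCore p G' := by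
  apply le_antisymm (map_pCore_le' p e)
  intro x hx
  have h1 : e.symm x ∈ Cfsg.pCore p G := map_pCore_le' p e.symm ⟨x, hx, rfl⟩
  exact ⟨e.symm x, h1, by simp⟩

theorem qs_congr_centralizer {G : Type*} [Group G] (E CU : Subgroup G) (Er' : Subgroup ↥E)
    [((CU.subgroupOf E).subgroupOf Er').Normal] [(CU.subgroupOf (Er'.map E.subtype)).Normal]
    (h : Cfsg.IsQuasisimple (↥Er' ⧸ (CU.subgroupOf E).subgroupOf Er')) :
    Cfsg.IsQuasisimple (↥(Er'.map E.subtype) ⧸ CU.subgroupOf (Er'.map E.subtype)) := by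
  let e : ↥Er' ≃* ↥(Er'.map E.subtype) :=
    Er'.equivMapOfInjective E.subtype E.subtype_injective
  have hmap : ((CU.subgroupOf E).subgroupOf Er').map (e : ↥Er' →* ↥(Er'.map E.subtype)) =
      CU.subgroupOf (Er'.map E.subtype) := by
    ext y
    constructor
    · rintro ⟨x, hx, rfl⟩
      rw [Subgroup.mem_subgroupOf]
      have hx' : ((x : ↥E) : G) ∈ CU := hx
      exact hx'
    · intro hy
      obtain ⟨x, rfl⟩ := e.surjective y
      refine ⟨x, ?_, rfl⟩
      rw [Subgroup.mem_subgroupOf] at hy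
      show ((x : ↥E) : G) ∈ CU
      exact hy
  exact isQuasisimple_of_mulEquiv (QuotientGroup.congr _ _ e hmap) h

theorem qs_congr_pCore {G : Type*} [Group G] {p : ℕ} (E : Subgroup G) (Er' : Subgroup ↥E)
    (h : Cfsg.IsQuasisimple (↥Er' ⧸ Cfsg.pCore p ↥Er')) :
    Cfsg.IsQuasisimple (↥(Er'.map E.subtype) ⧸ Cfsg.pCore p ↥(Er'.map E.subtype)) := by
  let e : ↥Er' ≃* ↥(Er'.map E.subtype) :=
    Er'.equivMapOfInjective E.subtype E.subtype_injective
  exact isQuasisimple_of_mulEquiv (QuotientGroup.congr _ _ e (map_pCore_eq p e)) h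

end Cfsg.Agent.Lib.Helper64_QS_CONGR
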