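/-
  S2860 market (architect helper48), package QS-ACT: `K ⊴ X` quasisimple, `X / K` a `p`-group,
  `O_p(X) = 1`, `Y ≠ 1` a `p`-subgroup: `[K, Y] = K`.
-/
import Mathlib
import Cfsg.Prelude.Def_CaseTheorems
import Cfsg.Prelude.Def_LocalStructure
import Cfsg.Agent.Lib.Helper48_Op
import Cfsg.Agent.Lib.Helper2_PResidual
import Cfsg.Agent.Lib.Helper21_Components

set_option autoImplicit false

open Cfsg Cfsg.Agent.Lib.Helper48_Op

namespace Cfsg.Agent.Lib.Helper78_QS_ACT

open scoped commutatorElement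

/-- `J` normalizes `⁅K, J⁆`. -/
theorem le_normalizer_commutator_right {G : Type*} [Group G] (K J : Subgroup G) :
    J ≤ Subgroup.normalizer ((⁅K, J⁆ : Subgroup G) : Set G) := by
  have key : ∀ j ∈ J, (⁅K, J⁆).map (MulAut.conj j).toMonoidHom ≤ ⁅K, J⁆ := by
    intro j hj
    rw [Subgroup.map_le_iff_le_comap, Subgroup.commutator_def, Subgroup.closure_le]
    rintro g ⟨k, hk, j', hj', rfl⟩
    rw [SetLike.mem_coe, Subgroup.mem_comap]
    have e : (MulAut.conj j).toMonoidHom ⁅k, j'⁆ = ⁅k, j⁆⁻¹ * ⁅k, j * j'⁆ := by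
      simp only [MulEquiv.coe_toMonoidHom, MulAut.conj_apply, commutatorElement_def]
      group
    rw [e, ← Subgroup.commutator_def]
    exact Subgroup.mul_mem _ (Subgroup.inv_mem _ (Subgroup.commutator_mem_commutator hk hj))
      (Subgroup.commutator_mem_commutator hk (J.mul_mem hj hj'))
  intro j hj
  rw [Subgroup.mem_normalizer_iff_map_conj_eq]
  apply le_antisymm (key j hj)
  have h3 := Subgroup.map_mono (f := (MulAut.conj j).toMonoidHom) (key j⁻¹ (J.inv_mem hj))
  rw [Subgroup.map_map] at h3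
  have h4 : (MulAut.conj j).toMonoidHom.comp (MulAut.conj j⁻¹).toMonoidHom = MonoidHom.id G := by
    ext x
    simp only [MonoidHom.coe_comp, MulEquiv.coe_toMonoidHom, Function.comp_apply,
      MulAut.conj_apply, MonoidHom.id_apply]
    group
  rw [h4, Subgroup.map_id] at h3
  exact h3

/-- A finite group `D` with a central subgroup `Z` such that `D / Z` is a `p`-group (in the form:
some `p`-power of every element lies in `Z`) has a normal Sylow `p`-subgroup. -/
theorem sylow_normal_of_central {D : Type*} [Group D] [Finite D] {p : ℕ} [Fact p.Prime]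
    (Z : Subgroup D) (hZ : Z ≤ Subgroup.center D) (hpow : ∀ d : D, ∃ k : ℕ, d ^ (p ^ k) ∈ Z)
    (P : Sylow p D) : (P : Subgroup D).Normal := by
  have hZn : Z.Normal := by
    constructor
    intro n hn g
    have : g * n * g⁻¹ = n := by
      have h1 := Subgroup.mem_center_iff.mp (hZ hn) g
      calc g * n * g⁻¹ = n * g * g⁻¹ := by rw [h1]
        _ = n := by group
    rw [this]
    exact hn
  have hpg : IsPGroup p (D ⧸ Z) := by
    intro y
    obtain ⟨d, rfl⟩ := QuotientGroup.mk_surjective y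
    obtain ⟨k, hk⟩ := hpow d
    refine ⟨k, ?_⟩
    rw [← QuotientGroup.mk_pow]
    exact (QuotientGroup.eq_one_iff _).mpr hk
  have hres : pResidual p D ≤ Z :=
    Cfsg.Agent.Lib.Helper2_PResidual.pResidual_le_of_isPGroup_quotient Z hpg
  have htop : (P : Subgroup D) ⊔ Z = ⊤ := by
    rw [eq_top_iff, ← Cfsg.Agent.Lib.Helper2_PResidual.sylow_sup_pResidual P]
    exact sup_le_sup_left hres _
  rw [← Subgroup.normalizer_eq_top_iff, eq_top_iff, ← htop]
  apply sup_le Subgroup.le_normalizer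
  intro z hz
  rw [Subgroup.mem_normalizer_iff]
  intro h
  have : z * h * z⁻¹ = h := by
    have h1 := Subgroup.mem_center_iff.mp (hZ hz) h
    calc z * h * z⁻¹ = h * z * z⁻¹ := by rw [h1]
      _ = h := by group
  rw [this]

theorem qs_act {X : Type*} [Group X] [Finite X] {p : ℕ} [Fact p.Prime] (K : Subgroup X) [K.Normal]
    (hK : Cfsg.IsQuasisimple ↥K) (hXK : ∀ x : X, ∃ k : ℕ, x ^ (p ^ k) ∈ K)
    (hred : Cfsg.pCore p X = ⊥) (Y : Subgroup X) (hY : IsPGroup p ↥Y) (hY1 : Y ≠ ⊥) :
    ⁅K, Y⁆ = K := by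
  classical
  have hp : p.Prime := Fact.out
  have hMK : ⁅K, Y⁆ ≤ K := Subgroup.commutator_le_left K Y
  have hKn : K ≤ Subgroup.normalizer ((⁅K, Y⁆ : Subgroup X) : Set X) := by
    rw [Subgroup.commutator_comm]
    exact le_normalizer_commutator_right Y K
  have hMn : ((⁅K, Y⁆ : Subgroup X).subgroupOf K).Normal :=
    (Subgroup.normal_subgroupOf_iff_le_normalizer hMK).mpr hKn
  rcases Cfsg.Agent.Lib.Helper21_Components.IsQuasisimple.normal_eq_top_or_le_center hK
    ((⁅K, Y⁆ : Subgroup X).subgroupOf K) with h | h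
  · exact le_antisymm hMK (Subgroup.subgroupOf_eq_top.mp h)
  · exfalso
    -- `[K, Y]` is central in `K`
    have h1 : ⁅⁅K, Y⁆, K⁆ = ⊥ := by
      rw [Subgroup.commutator_eq_bot_iff_le_centralizer]
      intro m hm
      rw [Subgroup.mem_centralizer_iff]
      intro k hk
      have hmem : (⟨m, hMK hm⟩ : ↥K) ∈ (⁅K, Y⁆ : Subgroup X).subgroupOf K := by
        rw [Subgroup.mem_subgroupOf]
        exact hm
      have hc := Subgroup.mem_center_iff.mp (h hmem) ⟨k, hk⟩
      exact congrArg Subtype.val hc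
    have h2 : ⁅⁅Y, K⁆, K⁆ = ⊥ := by
      rw [Subgroup.commutator_comm Y K]
      exact h1
    have h3 : ⁅⁅K, K⁆, Y⁆ = ⊥ := Subgroup.commutator_commutator_eq_bot_of_rotate h1 h2
    have hperf : ⁅K, K⁆ = K := Subgroup.isPerfect_iff.mp hK.1
    rw [hperf] at h3
    -- `Y` centralizes `K`
    have hYD : Y ≤ Subgroup.centralizer (K : Set X) := by
      rw [Subgroup.commutator_comm, Subgroup.commutator_eq_bot_iff_le_centralizer] at h3
      exact h3
    -- the centralizer `D₁` of `K`
    set D₁ : Subgroup X := Subgroup.centralizer (K : Set X) with hD₁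
    have hD₁n : D₁.Normal := Subgroup.normal_centralizer
    -- the central subgroup `(K ⊓ D₁)` of `D₁`
    have hZc : (K ⊓ D₁).subgroupOf D₁ ≤ Subgroup.center ↥D₁ := by
      intro z hz
      rw [Subgroup.mem_subgroupOf] at hz
      rw [Subgroup.mem_center_iff]
      intro d
      apply Subtype.ext
      have hd : (d : X) ∈ Subgroup.centralizer (K : Set X) := d.2
      rw [Subgroup.mem_centralizer_iff] at hd
      exact (hd (z : X) hz.1).symm
    have hpow : ∀ d : ↥D₁, ∃ k : ℕ, d ^ (p ^ k) ∈ (K ⊓ D₁).subgroupOf D₁ := by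
      intro d
      obtain ⟨k, hk⟩ := hXK (d : X)
      refine ⟨k, ?_⟩
      rw [Subgroup.mem_subgroupOf]
      refine ⟨by simpa using hk, ?_⟩
      exact (d ^ (p ^ k)).2
    obtain ⟨P⟩ : Nonempty (Sylow p ↥D₁) := inferInstance
    have hPn : (P : Subgroup ↥D₁).Normal := sylow_normal_of_central _ hZc hpow P
    have hPc : (P : Subgroup ↥D₁).Characteristic := Sylow.characteristic_of_normal P hPn
    have hPX : ((P : Subgroup ↥D₁).map D₁.subtype).Normal :=
      ConjAct.normal_of_characteristic_of_normal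
    -- `P ≤ O_p(X) = 1`
    have hPp : IsPGroup p ↥((P : Subgroup ↥D₁).map D₁.subtype) :=
      P.isPGroup'.map D₁.subtype
    have hPle : (P : Subgroup ↥D₁).map D₁.subtype ≤ Cfsg.pCore p X := le_sSup ⟨hPX, hPp⟩
    rw [hred, le_bot_iff, Subgroup.map_eq_bot_iff_of_injective _ D₁.subtype_injective] at hPle
    -- `p ∤ |D₁|`
    have hnd : ¬ p ∣ Nat.card ↥D₁ := by
      have := P.not_dvd_index
      rw [hPle, Subgroup.index_bot] at this
      exact this
    -- `Y = ⊥`
    apply hY1
    rw [← Subgroup.card_eq_one]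
    obtain ⟨n, hn⟩ := IsPGroup.iff_card.mp hY
    rcases Nat.eq_zero_or_pos n with h0 | hpos
    · rw [hn, h0, pow_zero]
    · exfalso
      apply hnd
      have h4 : Nat.card ↥Y ∣ Nat.card ↥D₁ := Subgroup.card_dvd_of_le hYD
      rw [hn] at h4
      exact dvd_trans (dvd_pow_self p hpos.ne') h4

end Cfsg.Agent.Lib.Helper78_QS_ACT
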