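/-
  S2860 market (architect helper48), package GEN-P: a group generated by `p`-subgroups whose
  `O^p` is central modulo a normal subgroup `N` has `O^p ≤ N`.
-/
import Mathlib
import Cfsg.Prelude.Def_CaseTheorems
import Cfsg.Prelude.Def_LocalStructure
import Cfsg.Agent.Lib.Helper48_Op
import Cfsg.Agent.Lib.Helper2_PResidual

set_option autoImplicit false

open Cfsg Cfsg.Agent.Lib.Helper48_Op

namespace Cfsg.Agent.Lib.Helper78_QS_GENP

open scoped commutatorElement

/-- The abstract core: `X` finite, every subgroup containing all `p`-subgroups is `⊤`, `N ⊴ X`,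
`O^p(X)` central modulo `N`: then `O^p(X) ≤ N`. -/
theorem pResidual_le_of_central_mod {X : Type*} [Group X] [Finite X] {p : ℕ} [Fact p.Prime]
    (N : Subgroup X) [hN : N.Normal] (hc : ⁅pResidual p X, (⊤ : Subgroup X)⁆ ≤ N)
    (hgen : ∀ H : Subgroup X, (∀ Q : Subgroup X, IsPGroup p ↥Q → Q ≤ H) → H = ⊤) :
    pResidual p X ≤ N := by
  obtain ⟨P⟩ : Nonempty (Sylow p X) := inferInstance
  -- `H = N ⊔ P` is normal
  have hHnorm : (N ⊔ (P : Subgroup X)).Normal := by
    rw [← Subgroup.normalizer_eq_top_iff, eq_top_iff,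
      ← Cfsg.Agent.Lib.Helper2_PResidual.sylow_sup_pResidual P]
    apply sup_le
    · exact le_trans le_sup_right Subgroup.le_normalizer
    · intro r hr
      rw [Subgroup.mem_normalizer_iff]
      have key : ∀ s : X, s ∈ pResidual p X → ∀ h : X, h ∈ N ⊔ (P : Subgroup X) →
          s * h * s⁻¹ ∈ N ⊔ (P : Subgroup X) := by
        intro s hs h hh
        have h1 : ⁅s, h⁆ ∈ N := hc (Subgroup.commutator_mem_commutator hs (Subgroup.mem_top h))
        have h2 : s * h * s⁻¹ = ⁅s, h⁆ * h := by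
          rw [commutatorElement_def]; group
        rw [h2]
        exact Subgroup.mul_mem _ (Subgroup.mem_sup_left h1) hh
      intro h
      constructor
      · exact key r hr h
      · intro hh
        have := key r⁻¹ (Subgroup.inv_mem _ hr) _ hh
        have h3 : r⁻¹ * (r * h * r⁻¹) * r⁻¹⁻¹ = h := by group
        rwa [h3] at this
  -- `H = ⊤`
  have hHtop : N ⊔ (P : Subgroup X) = ⊤ := by
    apply hgen
    intro Q hQ
    obtain ⟨P', hP'⟩ := hQ.exists_le_sylow
    obtain ⟨g, hg⟩ := MulAction.exists_smul_eq X P P'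
    refine le_trans hP' ?_
    rw [← hg]
    intro x hx
    rw [Sylow.smul_def, Sylow.pointwise_smul_def,
      Subgroup.mem_pointwise_smul_iff_inv_smul_mem] at hx
    simp only [MulAut.smul_def, MulAut.conj_inv_apply] at hx
    have h1 : g⁻¹ * x * g ∈ N ⊔ (P : Subgroup X) := Subgroup.mem_sup_right hx
    have h2 := hHnorm.conj_mem _ h1 g
    have h3 : g * (g⁻¹ * x * g) * g⁻¹ = x := by group
    rwa [h3] at h2
  -- `X ⧸ N` is a `p`-group
  have hpg : IsPGroup p (X ⧸ N) := by
    intro y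
    obtain ⟨x, rfl⟩ := QuotientGroup.mk_surjective y
    have hx : x ∈ N ⊔ (P : Subgroup X) := by rw [hHtop]; exact Subgroup.mem_top x
    rw [Subgroup.mem_sup_of_normal_left] at hx
    obtain ⟨n, hn, y, hy, rfl⟩ := hx
    obtain ⟨k, hk⟩ := P.isPGroup' ⟨y, hy⟩
    refine ⟨k, ?_⟩
    have h1 : (QuotientGroup.mk (n * y) : X ⧸ N) = QuotientGroup.mk y := by
      rw [QuotientGroup.mk_mul, (QuotientGroup.eq_one_iff n).mpr hn, one_mul]
    rw [h1, ← QuotientGroup.mk_pow]
    have h2 : y ^ p ^ k = 1 := by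
      have := congrArg Subtype.val hk
      simpa using this
    rw [h2]
    rfl
  exact Cfsg.Agent.Lib.Helper2_PResidual.pResidual_le_of_isPGroup_quotient N hpg

theorem op_le_of_commutator_le {G : Type*} [Group G] [Finite G] {p : ℕ} [Fact p.Prime]
    (𝒬 : Set (Subgroup G)) (h𝒬 : ∀ R ∈ 𝒬, IsPGroup p ↥R) (N : Subgroup G) (hN : N ≤ sSup 𝒬)
    (hnorm : sSup 𝒬 ≤ Subgroup.normalizer (N : Set G))
    (hc : ⁅Op p (sSup 𝒬), sSup 𝒬⁆ ≤ N) : Op p (sSup 𝒬) ≤ N := by
  have hle : ∀ R ∈ 𝒬, R ≤ sSup 𝒬 := fun R hR => le_sSup hR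
  have hsup : ∀ K : Subgroup G, (∀ R ∈ 𝒬, R ≤ K) → sSup 𝒬 ≤ K := fun K hK => sSup_le hK
  generalize sSup 𝒬 = E0 at hN hnorm hc hle hsup ⊢
  have hN' : (N.subgroupOf E0).Normal :=
    (Subgroup.normal_subgroupOf_iff_le_normalizer hN).mpr hnorm
  have hOp : Op p E0 = (pResidual p ↥E0).map E0.subtype := Op_eq_map_pResidual p E0
  -- the commutator condition inside `↥E0`
  have hc' : ⁅pResidual p ↥E0, (⊤ : Subgroup ↥E0)⁆ ≤ N.subgroupOf E0 := by
    rw [Subgroup.commutator_le]
    intro a ha b _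
    rw [Subgroup.mem_subgroupOf]
    apply hc
    have h1 : ((⁅a, b⁆ : ↥E0) : G) = ⁅(a : G), (b : G)⁆ := by
      simp [commutatorElement_def]
    rw [h1]
    apply Subgroup.commutator_mem_commutator
    · rw [hOp]
      exact Subgroup.mem_map_of_mem _ ha
    · exact b.2
  -- generation by `p`-subgroups
  have hgen : ∀ H : Subgroup ↥E0, (∀ Q : Subgroup ↥E0, IsPGroup p ↥Q → Q ≤ H) → H = ⊤ := by
    intro H hH
    rw [eq_top_iff]
    have h1 : E0 ≤ H.map E0.subtype := by
      apply hsup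
      intro R hR
      have hRE : R ≤ E0 := hle R hR
      have hRp : IsPGroup p ↥(R.subgroupOf E0) :=
        IsPGroup.of_equiv (h𝒬 R hR) (Subgroup.subgroupOfEquivOfLe hRE).symm
      have h2 := hH _ hRp
      have h3 := Subgroup.map_mono (f := E0.subtype) h2
      rwa [Subgroup.map_subgroupOf_eq_of_le hRE] at h3
    intro x _
    obtain ⟨y, hy, hxy⟩ := h1 x.2
    have : y = x := Subtype.ext hxy
    rwa [← this]
  have hmain := pResidual_le_of_central_mod (N.subgroupOf E0) hc' hgen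
  rw [hOp]
  refine le_trans (Subgroup.map_mono hmain) ?_
  rw [Subgroup.map_subgroupOf_eq_of_le hN]

end Cfsg.Agent.Lib.Helper78_QS_GENP
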