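import Mathlib
import Cfsg.Prelude.Def_CaseTheorems
import Cfsg.Prelude.Def_LocalStructure
import Cfsg.Agent.Lib.Helper32_PGroup

/-!
# S2860 package LARGE (architect helper48): the `Q!`-property

`large_normalizes`: `C_G(U) ≤ N(Q^g)` whenever `Q^g ≤ N(U)` (`Q` a large `p`-subgroup, `U ≠ 1` a `p`-group);
`large_not_le`: `Q ≰ C_G(U)` when `E ≤ N(U)` does not normalise `Q`.
-/

set_option autoImplicit false

namespace Cfsg.Agent.Lib.Helper82_QS_LARGE

open Subgroup

/-- a conjugate of a large subgroup is large -/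
theorem isLarge_conj {G : Type*} [Group G] (Q : Subgroup G) (hQ : Cfsg.IsLarge Q) (g : G) :
    Cfsg.IsLarge (Q.map (MulAut.conj g).toMonoidHom) := by
  obtain ⟨hC, hN⟩ := hQ
  have hmemR : ∀ x : G, x ∈ Q.map (MulAut.conj g).toMonoidHom ↔ g⁻¹ * x * g ∈ Q := by
    intro x
    constructor
    · rintro ⟨y, hy, rfl⟩
      have : g⁻¹ * (MulAut.conj g).toMonoidHom y * g = y := by
        show g⁻¹ * (g * y * g⁻¹) * g = y
        group
      rw [this]; exact hy
    · intro hx
      refine ⟨g⁻¹ * x * g, hx, ?_⟩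
      show g * (g⁻¹ * x * g) * g⁻¹ = x
      group
  have hcent : ∀ x : G, x ∈ centralizer ((Q.map (MulAut.conj g).toMonoidHom : Subgroup G) : Set G) →
      g⁻¹ * x * g ∈ centralizer (Q : Set G) := by
    intro x hx
    rw [mem_centralizer_iff] at hx ⊢
    intro q hq
    have h1 : g * q * g⁻¹ ∈ Q.map (MulAut.conj g).toMonoidHom := ⟨q, hq, rfl⟩
    have h2 := hx _ h1
    calc q * (g⁻¹ * x * g) = g⁻¹ * (g * q * g⁻¹ * x) * g := by group
      _ = g⁻¹ * (x * (g * q * g⁻¹)) * g := by rw [h2]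
      _ = g⁻¹ * x * g * q := by group
  refine ⟨?_, ?_⟩
  · intro x hx
    rw [hmemR]
    exact hC (hcent x hx)
  · intro W hW hW1 n hn
    -- `W' = W^(g⁻¹)`
    obtain ⟨W', hW'⟩ : ∃ W' : Subgroup G, W' = W.comap (MulAut.conj g).toMonoidHom := ⟨_, rfl⟩
    have hmemW' : ∀ x : G, x ∈ W' ↔ g * x * g⁻¹ ∈ W := by
      intro x; rw [hW']; rfl
    have hW'C : W' ≤ centralizer (Q : Set G) := by
      intro x hx
      have h1 := hcent _ (hW ((hmemW' x).1 hx))
      have : g⁻¹ * (g * x * g⁻¹) * g = x := by group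
      rwa [this] at h1
    have hW'1 : W' ≠ ⊥ := by
      intro hb
      apply hW1
      rw [eq_bot_iff]
      intro w hw
      have h1 : g⁻¹ * w * g ∈ W' := by
        rw [hmemW']
        have : g * (g⁻¹ * w * g) * g⁻¹ = w := by group
        rwa [this]
      rw [hb, mem_bot] at h1
      rw [mem_bot]
      calc w = g * (g⁻¹ * w * g) * g⁻¹ := by group
        _ = 1 := by rw [h1]; group
    have hNN := hN W' hW'C hW'1
    have hn' : g⁻¹ * n * g ∈ normalizer (W' : Set G) := by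
      rw [mem_normalizer_iff] at hn ⊢
      intro x
      rw [hmemW', hmemW']
      have h1 := hn (g * x * g⁻¹)
      have h2 : g * (g⁻¹ * n * g * x * (g⁻¹ * n * g)⁻¹) * g⁻¹ = n * (g * x * g⁻¹) * n⁻¹ := by group
      rw [h2]
      exact h1
    have h3 := hNN hn'
    rw [mem_normalizer_iff] at h3 ⊢
    intro x
    rw [hmemR, hmemR]
    have h4 := h3 (g⁻¹ * x * g)
    have h5 : g⁻¹ * n * g * (g⁻¹ * x * g) * (g⁻¹ * n * g)⁻¹ = g⁻¹ * (n * x * n⁻¹) * g := by group
    rw [h5] at h4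
    exact h4

theorem large_normalizes {G : Type*} [Group G] [Finite G] {p : ℕ} [Fact p.Prime] (Q : Subgroup G)
    (hQp : IsPGroup p ↥Q) (hQ : Cfsg.IsLarge Q) (U : Subgroup G) (hUp : IsPGroup p ↥U)
    (hU1 : U ≠ ⊥) (g : G)
    (hg : Q.map (MulAut.conj g).toMonoidHom ≤ Subgroup.normalizer (U : Set G)) :
    Subgroup.centralizer (U : Set G) ≤
      Subgroup.normalizer ((Q.map (MulAut.conj g).toMonoidHom : Subgroup G) : Set G) := by
  obtain ⟨R, hR⟩ : ∃ R : Subgroup G, R = Q.map (MulAut.conj g).toMonoidHom := ⟨_, rfl⟩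
  rw [← hR] at hg ⊢
  have hRL : Cfsg.IsLarge R := by rw [hR]; exact isLarge_conj Q hQ g
  have hRp : IsPGroup p ↥R := by rw [hR]; exact hQp.map _
  have hPp : IsPGroup p ↥(U ⊔ R) := hUp.to_sup_of_normal_left' hRp hg
  have hUP : U ≤ U ⊔ R := le_sup_left
  have hPN : U ⊔ R ≤ normalizer (U : Set G) := sup_le le_normalizer hg
  have hnorm : (U.subgroupOf (U ⊔ R)).Normal := (normal_subgroupOf_iff_le_normalizer hUP).2 hPN
  have hne : U.subgroupOf (U ⊔ R) ≠ ⊥ := by
    intro hb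
    rw [subgroupOf_eq_bot] at hb
    exact hU1 (disjoint_self.mp (hb.mono_right hUP))
  obtain ⟨z, hzN, hzc, hz1⟩ :=
    Cfsg.Agent.Lib.Helper32_PGroup.exists_mem_center_of_normal hPp (U.subgroupOf (U ⊔ R)) hne
  have hzU : (z : G) ∈ U := hzN
  have hzR : (z : G) ∈ centralizer (R : Set G) := by
    rw [mem_centralizer_iff]
    intro r hr
    have hrP : r ∈ U ⊔ R := (le_sup_right : R ≤ U ⊔ R) hr
    have := Subgroup.mem_center_iff.mp hzc ⟨r, hrP⟩
    exact congrArg Subtype.val this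
  have hz1' : (z : G) ≠ 1 := fun h => hz1 (Subtype.ext h)
  have hW1 : U ⊓ centralizer (R : Set G) ≠ ⊥ := by
    intro hb
    have : (z : G) ∈ U ⊓ centralizer (R : Set G) := Subgroup.mem_inf.mpr ⟨hzU, hzR⟩
    rw [hb, mem_bot] at this
    exact hz1' this
  have hNW := hRL.2 (U ⊓ centralizer (R : Set G)) inf_le_right hW1
  intro c hc
  apply hNW
  apply centralizer_le_normalizer
  exact centralizer_le (by intro x hx; exact (Subgroup.mem_inf.mp hx).1) hc

theorem large_not_le {G : Type*} [Group G] (Q : Subgroup G) (hQ : Cfsg.IsLarge Q)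
    (U : Subgroup G) (hU1 : U ≠ ⊥) (E : Subgroup G)
    (hEU : E ≤ Subgroup.normalizer (U : Set G))
    (hQn : ¬ E ≤ Subgroup.normalizer (Q : Set G)) :
    ¬ Q ≤ Subgroup.centralizer (U : Set G) := by
  intro h
  apply hQn
  have hUC : U ≤ centralizer (Q : Set G) := le_centralizer_iff.mp h
  exact hEU.trans (hQ.2 U hUC hU1)

end Cfsg.Agent.Lib.Helper82_QS_LARGE
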