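import Mathlib
import Cfsg.Prelude.Def_CaseTheorems
import Cfsg.Prelude.Def_LocalStructure
import Cfsg.Agent.Lib.Helper48_Op
import Cfsg.Agent.Lib.Helper29_Local

/-!
# S2860 package QS-ISO (architect helper48): `IsQuasisimple` along `≃*` and the second
isomorphism theorem.
-/

set_option autoImplicit false

open Cfsg.Agent.Lib.Helper48_Op

namespace Cfsg.Agent.Lib.Helper86_QS_ISO

theorem isQuasisimple_of_mulEquiv {A B : Type*} [Group A] [Group B] (φ : A ≃* B)
    (h : Cfsg.IsQuasisimple A) : Cfsg.IsQuasisimple B :=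
  Cfsg.Agent.Lib.Helper29_Local.isQuasisimple_of_mulEquiv φ h

/-- `X / (C ∩ X) ≃ image of X in 𝔈 / C` -/
noncomputable def quotEquivMap {𝔈 : Type*} [Group 𝔈] (C : Subgroup 𝔈) [C.Normal] (X : Subgroup 𝔈)
    [(C.subgroupOf X).Normal] :
    ↥X ⧸ C.subgroupOf X ≃* ↥(X.map (QuotientGroup.mk' C)) :=
  have hker : ((QuotientGroup.mk' C).subgroupMap X).ker = C.subgroupOf X := by
    rw [Subgroup.ker_subgroupMap, QuotientGroup.ker_mk']
  (QuotientGroup.quotientMulEquivOfEq hker.symm).trans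
    (QuotientGroup.quotientKerEquivOfSurjective ((QuotientGroup.mk' C).subgroupMap X)
      ((QuotientGroup.mk' C).subgroupMap_surjective X))

theorem map_sup_eq {𝔈 : Type*} [Group 𝔈] (C : Subgroup 𝔈) [C.Normal] (X : Subgroup 𝔈) :
    (X ⊔ C).map (QuotientGroup.mk' C) = X.map (QuotientGroup.mk' C) := by
  rw [Subgroup.map_sup, QuotientGroup.map_mk'_self, sup_bot_eq]

theorem qs_quotient_of_map {𝔈 : Type*} [Group 𝔈] (C : Subgroup 𝔈) [C.Normal] (X : Subgroup 𝔈)
    [(C.subgroupOf X).Normal]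
    (h : Cfsg.IsQuasisimple ↥((X ⊔ C).map (QuotientGroup.mk' C))) :
    Cfsg.IsQuasisimple (↥X ⧸ C.subgroupOf X) := by
  have e1 : ↥((X ⊔ C).map (QuotientGroup.mk' C)) ≃* ↥(X.map (QuotientGroup.mk' C)) :=
    MulEquiv.subgroupCongr (map_sup_eq C X)
  exact isQuasisimple_of_mulEquiv (e1.trans (quotEquivMap C X).symm) h

end Cfsg.Agent.Lib.Helper86_QS_ISO
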