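import Cfsg.Agent.Lib.Helper48_Op
import Cfsg.Agent.Lib.Helper48_PMinimal2
import Cfsg.Agent.Lib.Helper34_Sylow
import Cfsg.Agent.Lib.Helper48_MSS2
import Cfsg.Agent.Lib.Helper47_TW
import Cfsg.Agent.Lib.Helper54_QS_COMMSUP
import Cfsg.Agent.Lib.Helper54_QS_DERSUP
import Cfsg.Agent.Lib.Helper64_QS_CONGR
import Cfsg.Agent.Lib.Helper78_QS_ACT
import Cfsg.Agent.Lib.Helper78_QS_GENP
import Cfsg.Agent.Lib.Helper82_QS_LARGE
import Cfsg.Agent.Lib.Helper86_QS_CENTRAL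
import Cfsg.Agent.Lib.Helper86_QS_ISO

/-!
# S2860 (helper48): the core, in an abstract finite group `𝔈` with a normal subgroup `C`
-/

set_option autoImplicit false
set_option linter.unusedSectionVars false
set_option linter.style.haveILetI false

open scoped commutatorElement

namespace Cfsg.Agent.Lib.Helper48_QSCore

open Cfsg.Agent.Lib.Helper48_Op

variable {𝔈 : Type*} [Group 𝔈]

/-- abstract weak-closure data: `𝒬` is the set of conjugates of `Q` inside `E` -/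
structure WCData (p : ℕ) (C : Subgroup 𝔈) [C.Normal] (𝒬 : Set (Subgroup 𝔈)) : Prop where
  hp : ∀ R ∈ 𝒬, IsPGroup p ↥R
  hconj : ∀ R ∈ 𝒬, ∀ e : 𝔈, R.map (MulAut.conj e).toMonoidHom ∈ 𝒬
  hnorm : ∀ R ∈ 𝒬, C ≤ Subgroup.normalizer (R : Set 𝔈)
  hne : ∃ R ∈ 𝒬, ¬ R ≤ C
  hred : Cfsg.pCore p (𝔈 ⧸ C) = ⊥
  hqs : Cfsg.IsQuasisimple ↥((Cfsg.pResidual p 𝔈 ⊔ C).map (QuotientGroup.mk' C))

namespace WCData

variable [Finite 𝔈] {p : ℕ} [Fact p.Prime] {C : Subgroup 𝔈} [hC : C.Normal] {𝒬 : Set (Subgroup 𝔈)}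

theorem sSup_normal (w : WCData p C 𝒬) : (sSup 𝒬).Normal := by
  refine ⟨fun n hn e => ?_⟩
  have h1 : sSup 𝒬 ≤ (sSup 𝒬).comap (MulAut.conj e).toMonoidHom := by
    apply sSup_le
    intro R hR
    rw [← Subgroup.map_le_iff_le_comap]
    exact le_sSup (w.hconj R hR e)
  have h2 := h1 hn
  rw [Subgroup.mem_comap] at h2
  simpa only [MulEquiv.coe_toMonoidHom, MulAut.conj_apply] using h2

theorem Er_normal (w : WCData p C 𝒬) : (Op p (sSup 𝒬)).Normal := by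
  haveI := w.sSup_normal
  exact Op_normal p _

theorem Kb_normal (_w : WCData p C 𝒬) :
    ((Cfsg.pResidual p 𝔈 ⊔ C).map (QuotientGroup.mk' C)).Normal := by
  haveI : (Cfsg.pResidual p 𝔈).Normal := Cfsg.Agent.Lib.Helper34_Sylow.pResidual_normal p 𝔈
  haveI : (Cfsg.pResidual p 𝔈 ⊔ C).Normal := Subgroup.sup_normal _ _
  exact Subgroup.Normal.map inferInstance _ (QuotientGroup.mk'_surjective C)

theorem exists_pow_mem_Kb (_w : WCData p C 𝒬) (xb : 𝔈 ⧸ C) :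
    ∃ k : ℕ, xb ^ (p ^ k) ∈ (Cfsg.pResidual p 𝔈 ⊔ C).map (QuotientGroup.mk' C) := by
  obtain ⟨x, rfl⟩ := QuotientGroup.mk'_surjective C xb
  obtain ⟨k, hk⟩ := exists_pow_mem_Op (p := p) (H := (⊤ : Subgroup 𝔈)) (x := x) (Subgroup.mem_top x)
  rw [Op_top] at hk
  refine ⟨k, ?_⟩
  rw [← map_pow]
  exact Subgroup.mem_map_of_mem _ (Subgroup.mem_sup_left hk)

/-- (B) every `p`-subgroup outside `C` acts nontrivially on `K̄` -/
theorem act (w : WCData p C 𝒬) (Y : Subgroup 𝔈) (hY : IsPGroup p ↥Y) (hYC : ¬ Y ≤ C) :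
    ⁅(Cfsg.pResidual p 𝔈 ⊔ C).map (QuotientGroup.mk' C), Y.map (QuotientGroup.mk' C)⁆ =
      (Cfsg.pResidual p 𝔈 ⊔ C).map (QuotientGroup.mk' C) := by
  haveI := w.Kb_normal
  apply Cfsg.Agent.Lib.Helper78_QS_ACT.qs_act _ w.hqs w.exists_pow_mem_Kb w.hred _ (hY.map _)
  intro h
  rw [Subgroup.map_eq_bot_iff, QuotientGroup.ker_mk'] at h
  exact hYC h

/-- (C) `π(E_∘) = K̄` -/
theorem map_Er (w : WCData p C 𝒬) :
    (Op p (sSup 𝒬)).map (QuotientGroup.mk' C) =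
      (Cfsg.pResidual p 𝔈 ⊔ C).map (QuotientGroup.mk' C) := by
  haveI := w.sSup_normal
  haveI := w.Kb_normal
  haveI : ((sSup 𝒬).map (QuotientGroup.mk' C)).Normal :=
    Subgroup.Normal.map inferInstance _ (QuotientGroup.mk'_surjective C)
  rw [Op_map]
  apply le_antisymm
  · rw [Op_le_iff]
    intro xb _ hc
    obtain ⟨k, hk⟩ := w.exists_pow_mem_Kb xb
    have hcop : (p ^ k).Coprime (orderOf xb) := (Nat.Coprime.pow_right k hc).symm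
    obtain ⟨m, hm⟩ := exists_pow_eq_self_of_coprime hcop
    rw [← hm]
    exact Subgroup.pow_mem _ hk m
  · obtain ⟨R₀, hR₀, hR₀C⟩ := w.hne
    have h1 := w.act R₀ (w.hp R₀ hR₀) hR₀C
    have h2 : (Cfsg.pResidual p 𝔈 ⊔ C).map (QuotientGroup.mk' C) ≤
        (sSup 𝒬).map (QuotientGroup.mk' C) := by
      rw [← h1]
      refine le_trans (Subgroup.commutator_mono le_top (Subgroup.map_mono (le_sSup hR₀))) ?_
      exact Subgroup.commutator_le_right _ _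
    haveI : Group.IsPerfect ↥((Cfsg.pResidual p 𝔈 ⊔ C).map (QuotientGroup.mk' C)) := w.hqs.1
    have h3 : (Cfsg.pResidual p 𝔈 ⊔ C).map (QuotientGroup.mk' C) ≤
        Op p ((Cfsg.pResidual p 𝔈 ⊔ C).map (QuotientGroup.mk' C)) := by
      have e2 : Cfsg.pResidual p ↥((Cfsg.pResidual p 𝔈 ⊔ C).map (QuotientGroup.mk' C)) = ⊤ :=
        Cfsg.Agent.Lib.Helper48_PMinimal2.pResidual_eq_top_of_isPerfect _ p
      rw [Op_eq_map_pResidual, e2, ← MonoidHom.range_eq_map, Subgroup.range_subtype]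
    exact h3.trans (Op_mono h2)

/-- (1) -/
theorem c1 (w : WCData p C 𝒬) : Cfsg.pResidual p 𝔈 ⊔ C = Op p (sSup 𝒬) ⊔ C := by
  have h := congrArg (Subgroup.comap (QuotientGroup.mk' C)) w.map_Er
  rw [Subgroup.comap_map_eq, Subgroup.comap_map_eq, QuotientGroup.ker_mk'] at h
  rw [sup_assoc, sup_idem] at h
  exact h.symm

/-! ### (D) the action of `C` -/

theorem T0_normal (_w : WCData p C 𝒬) : (Cfsg.pCoreOf p C).Normal := by
  rw [← Subgroup.normalizer_eq_top_iff, eq_top_iff]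
  refine le_trans ?_ (Cfsg.Agent.Lib.Helper47_TW.normalizer_le_normalizer_pCoreOf' p C)
  rw [Subgroup.normalizer_eq_top_iff.mpr hC]

theorem comm_C_E0 (w : WCData p C 𝒬) : ⁅C, sSup 𝒬⁆ ≤ Cfsg.pCoreOf p C := by
  haveI := w.T0_normal
  apply Cfsg.Agent.Lib.Helper54_QS_COMMSUP.commutator_sSup_le
  intro R hR
  have hRC : R ≤ Subgroup.normalizer (C : Set 𝔈) := by
    rw [Subgroup.normalizer_eq_top_iff.mpr hC]; exact le_top
  have h1 : ⁅C, R⁆ ≤ C ⊓ R :=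
    Cfsg.Agent.Lib.Helper47_WeaklyClosed.commutator_le_inf_of_le_normalizer (w.hnorm R hR) hRC
  refine h1.trans ?_
  apply Cfsg.Agent.Lib.Helper47_SubAPI.le_pCoreOf inf_le_left
  · refine le_trans ?_ (Cfsg.Agent.Lib.Helper47_SubAPI.normalizer_inf_le_normalizer_inf C R)
    exact le_inf Subgroup.le_normalizer (w.hnorm R hR)
  · exact (w.hp R hR).to_le inf_le_right

/-- `T₁ = O_p(C) ∩ E_∘` is a normal `p`-subgroup -/
theorem T1_normal (w : WCData p C 𝒬) : (Cfsg.pCoreOf p C ⊓ Op p (sSup 𝒬)).Normal := by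
  haveI := w.T0_normal
  haveI := w.Er_normal
  exact Subgroup.normal_inf_normal _ _

theorem T1_isPGroup (_w : WCData p C 𝒬) : IsPGroup p ↥(Cfsg.pCoreOf p C ⊓ Op p (sSup 𝒬)) :=
  (Cfsg.Agent.Lib.Helper47_SubAPI.isPGroup_pCoreOf C).to_le inf_le_left

theorem comm_D_E0 (w : WCData p C 𝒬) :
    ⁅C ⊓ Op p (sSup 𝒬), sSup 𝒬⁆ ≤ Cfsg.pCoreOf p C ⊓ Op p (sSup 𝒬) := by
  haveI := w.Er_normal
  apply le_inf
  · exact (Subgroup.commutator_mono inf_le_left le_rfl).trans w.comm_C_E0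
  · exact (Subgroup.commutator_mono inf_le_right le_rfl).trans (Subgroup.commutator_le_left _ _)

/-- Dedekind: `X ≤ Er`, `Er ≤ X ⊔ C` gives `Er ≤ X ⊔ (C ∩ Er)` -/
theorem le_sup_inf_of_le_sup (_w : WCData p C 𝒬) {X : Subgroup 𝔈} (hX : X ≤ Op p (sSup 𝒬))
    (h : Op p (sSup 𝒬) ≤ X ⊔ C) : Op p (sSup 𝒬) ≤ X ⊔ (C ⊓ Op p (sSup 𝒬)) := by
  intro x hx
  have hXC : X ≤ Subgroup.normalizer (C : Set 𝔈) := by
    rw [Subgroup.normalizer_eq_top_iff.mpr hC]; exact le_top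
  have h1 : x ∈ C ⊔ X := by rw [sup_comm]; exact h hx
  obtain ⟨c, hc, b, hb, rfl⟩ :=
    Cfsg.Agent.Lib.Helper47_WC2.exists_mul_of_mem_sup_of_le_normalizer hXC h1
  have hc' : c ∈ Op p (sSup 𝒬) := by
    have h2 : c = (c * b) * b⁻¹ := by group
    rw [h2]
    exact Subgroup.mul_mem _ hx (Subgroup.inv_mem _ (hX hb))
  have h3 : c * b = b * (b⁻¹ * c * b) := by group
  rw [h3]
  refine Subgroup.mul_mem _ (Subgroup.mem_sup_left hb) (Subgroup.mem_sup_right ⟨?_, ?_⟩)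
  · have := hC.conj_mem c hc b⁻¹
    rwa [inv_inv] at this
  · exact Subgroup.mul_mem _ (Subgroup.mul_mem _ (Subgroup.inv_mem _ (hX hb)) hc') (hX hb)

/-- `p'`-elements: `Er ≤ L ⊔ T₁` with `Er ≤ N(L)` gives `Er ≤ L` -/
theorem Er_le_of_le_sup_T1 (w : WCData p C 𝒬) {L : Subgroup 𝔈}
    (hL : Op p (sSup 𝒬) ≤ Subgroup.normalizer (L : Set 𝔈))
    (h : Op p (sSup 𝒬) ≤ L ⊔ (Cfsg.pCoreOf p C ⊓ Op p (sSup 𝒬))) : Op p (sSup 𝒬) ≤ L := by
  rw [← Op_Op, Op_le_iff]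
  intro x hx hcop
  exact Cfsg.Agent.Lib.Helper48_MSS2.mem_of_mem_sup_of_coprime' w.T1_isPGroup
    (inf_le_right.trans hL) (h hx) hcop

/-! ### (E) `E_∘` is perfect -/

theorem c2 (w : WCData p C 𝒬) : ⁅Op p (sSup 𝒬), Op p (sSup 𝒬)⁆ = Op p (sSup 𝒬) := by
  haveI := w.sSup_normal
  haveI := w.Er_normal
  haveI := w.T1_normal
  haveI hn' : (⁅Op p (sSup 𝒬), Op p (sSup 𝒬)⁆).Normal := Subgroup.commutator_normal _ _
  apply le_antisymm (Subgroup.commutator_le_left _ _)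
  -- `Er ≤ Er' ⊔ C`
  have h1 : Op p (sSup 𝒬) ≤ ⁅Op p (sSup 𝒬), Op p (sSup 𝒬)⁆ ⊔ C := by
    haveI : Group.IsPerfect ↥((Cfsg.pResidual p 𝔈 ⊔ C).map (QuotientGroup.mk' C)) := w.hqs.1
    have h2 : (⁅Op p (sSup 𝒬), Op p (sSup 𝒬)⁆).map (QuotientGroup.mk' C) =
        (Op p (sSup 𝒬)).map (QuotientGroup.mk' C) := by
      rw [Subgroup.map_commutator, w.map_Er, Subgroup.commutator_eq_self]
    have h3 := congrArg (Subgroup.comap (QuotientGroup.mk' C)) h2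
    rw [Subgroup.comap_map_eq, Subgroup.comap_map_eq, QuotientGroup.ker_mk'] at h3
    rw [h3]
    exact le_sup_left
  have h4 := w.le_sup_inf_of_le_sup (Subgroup.commutator_le_left _ _) h1
  -- `[Er, E0] ≤ N₂`
  have hN₂n : (⁅Op p (sSup 𝒬), Op p (sSup 𝒬)⁆ ⊔
      (Cfsg.pCoreOf p C ⊓ Op p (sSup 𝒬))).Normal := Subgroup.sup_normal _ _
  have h5 : ⁅sSup 𝒬, ⁅Op p (sSup 𝒬), Op p (sSup 𝒬)⁆ ⊔ (C ⊓ Op p (sSup 𝒬))⁆ ≤
      ⁅Op p (sSup 𝒬), Op p (sSup 𝒬)⁆ ⊔ (Cfsg.pCoreOf p C ⊓ Op p (sSup 𝒬)) := by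
    rw [← sSup_pair]
    apply Cfsg.Agent.Lib.Helper54_QS_COMMSUP.commutator_sSup_le
    intro R hR
    rcases hR with rfl | rfl
    · exact (Subgroup.commutator_le_right _ _).trans le_sup_left
    · rw [Subgroup.commutator_comm]
      exact w.comm_D_E0.trans le_sup_right
  have h6 : ⁅Op p (sSup 𝒬), sSup 𝒬⁆ ≤
      ⁅Op p (sSup 𝒬), Op p (sSup 𝒬)⁆ ⊔ (Cfsg.pCoreOf p C ⊓ Op p (sSup 𝒬)) := by
    rw [Subgroup.commutator_comm]
    exact (Subgroup.commutator_mono le_rfl h4).trans h5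
  have h7 : Op p (sSup 𝒬) ≤
      ⁅Op p (sSup 𝒬), Op p (sSup 𝒬)⁆ ⊔ (Cfsg.pCoreOf p C ⊓ Op p (sSup 𝒬)) := by
    apply Cfsg.Agent.Lib.Helper78_QS_GENP.op_le_of_commutator_le 𝒬 w.hp _ _ _ h6
    · exact sup_le ((Subgroup.commutator_le_left _ _).trans (Op_le p _))
        (inf_le_right.trans (Op_le p _))
    · rw [Subgroup.normalizer_eq_top_iff.mpr hN₂n]; exact le_top
  apply w.Er_le_of_le_sup_T1 _ h7
  rw [Subgroup.normalizer_eq_top_iff.mpr hn']; exact le_top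

/-- (3) -/
theorem c3 (_w : WCData p C 𝒬) : Op p (Op p (sSup 𝒬)) = Op p (sSup 𝒬) := Op_Op p _

/-! ### (F) the two quasisimple quotients -/

theorem c4 (w : WCData p C 𝒬) [(C.subgroupOf (Op p (sSup 𝒬))).Normal] :
    Cfsg.IsQuasisimple (↥(Op p (sSup 𝒬)) ⧸ C.subgroupOf (Op p (sSup 𝒬))) := by
  apply Cfsg.Agent.Lib.Helper86_QS_ISO.qs_quotient_of_map C (Op p (sSup 𝒬))
  rw [← w.c1]
  exact w.hqs

theorem pCoreOf_Er_le (w : WCData p C 𝒬) : Cfsg.pCoreOf p (Op p (sSup 𝒬)) ≤ C := by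
  haveI := w.Er_normal
  have hn : (Cfsg.pCoreOf p (Op p (sSup 𝒬))).Normal := by
    rw [← Subgroup.normalizer_eq_top_iff, eq_top_iff]
    refine le_trans ?_ (Cfsg.Agent.Lib.Helper47_TW.normalizer_le_normalizer_pCoreOf' p _)
    rw [Subgroup.normalizer_eq_top_iff.mpr w.Er_normal]
  have h1 : ((Cfsg.pCoreOf p (Op p (sSup 𝒬))).map (QuotientGroup.mk' C)).Normal :=
    Subgroup.Normal.map hn _ (QuotientGroup.mk'_surjective C)
  have h2 : IsPGroup p ↥((Cfsg.pCoreOf p (Op p (sSup 𝒬))).map (QuotientGroup.mk' C)) :=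
    (Cfsg.Agent.Lib.Helper47_SubAPI.isPGroup_pCoreOf _).map _
  have h3 := Cfsg.Agent.Lib.Helper47_PLocal.le_pCore h1 h2
  rw [w.hred, le_bot_iff, Subgroup.map_eq_bot_iff, QuotientGroup.ker_mk'] at h3
  exact h3

theorem T1_le_pCoreOf (w : WCData p C 𝒬) :
    Cfsg.pCoreOf p C ⊓ Op p (sSup 𝒬) ≤ Cfsg.pCoreOf p (Op p (sSup 𝒬)) := by
  apply Cfsg.Agent.Lib.Helper47_SubAPI.le_pCoreOf inf_le_right _ w.T1_isPGroup
  rw [Subgroup.normalizer_eq_top_iff.mpr w.T1_normal]; exact le_top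

theorem c5 (w : WCData p C 𝒬) [hD : (C.subgroupOf (Op p (sSup 𝒬))).Normal] :
    Cfsg.IsQuasisimple (↥(Op p (sSup 𝒬)) ⧸ Cfsg.pCore p ↥(Op p (sSup 𝒬))) := by
  haveI := w.sSup_normal
  apply Cfsg.Agent.Lib.Helper86_QS_CENTRAL.qs_of_central_ext (Cfsg.pCore p ↥(Op p (sSup 𝒬))) (C.subgroupOf (Op p (sSup 𝒬)))
  · intro x hx
    rw [Subgroup.mem_subgroupOf]
    exact w.pCoreOf_Er_le ⟨x, hx, rfl⟩
  · rw [Subgroup.commutator_le]
    intro x hx y _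
    have h1 : ⁅(x : 𝔈), (y : 𝔈)⁆ ∈ ⁅C ⊓ Op p (sSup 𝒬), sSup 𝒬⁆ :=
      Subgroup.commutator_mem_commutator ⟨Subgroup.mem_subgroupOf.mp hx, x.2⟩ (Op_le p _ y.2)
    obtain ⟨z, hz, hzx⟩ := w.T1_le_pCoreOf (w.comm_D_E0 h1)
    have h2 : z = ⁅x, y⁆ := Subtype.ext hzx
    rw [← h2]
    exact hz
  · haveI : Group.IsPerfect ↥(Op p (sSup 𝒬)) := Subgroup.isPerfect_iff.mpr w.c2
    have := Group.IsPerfect.commutator_eq_top (G := ↥(Op p (sSup 𝒬)))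
    rwa [commutator_def] at this
  · exact w.c4

/-! ### (G) `E_∘ = [E_∘, Y]` -/

theorem le_normalizer_commutator (H K : Subgroup 𝔈) :
    H ≤ Subgroup.normalizer ((⁅H, K⁆ : Subgroup 𝔈) : Set 𝔈) := by
  have key : ∀ s ∈ H, ⁅H, K⁆ ≤ (⁅H, K⁆).comap (MulAut.conj s).toMonoidHom := by
    intro s hs
    rw [Subgroup.commutator_le]
    intro h hh k hk
    rw [Subgroup.mem_comap]
    simp only [MulEquiv.coe_toMonoidHom, MulAut.conj_apply]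
    have h1 : s * ⁅h, k⁆ * s⁻¹ = ⁅s * h, k⁆ * ⁅s, k⁆⁻¹ := by
      simp only [commutatorElement_def]; group
    rw [h1]
    exact Subgroup.mul_mem _ (Subgroup.commutator_mem_commutator (H.mul_mem hs hh) hk)
      (Subgroup.inv_mem _ (Subgroup.commutator_mem_commutator hs hk))
  intro s hs
  rw [Subgroup.mem_normalizer_iff]
  intro e
  constructor
  · intro he
    have := key s hs he
    rw [Subgroup.mem_comap] at this
    simpa only [MulEquiv.coe_toMonoidHom, MulAut.conj_apply] using this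
  · intro he
    have := key s⁻¹ (H.inv_mem hs) he
    rw [Subgroup.mem_comap] at this
    simp only [MulEquiv.coe_toMonoidHom, MulAut.conj_apply] at this
    have h2 : s⁻¹ * (s * e * s⁻¹) * s⁻¹⁻¹ = e := by group
    rwa [h2] at this

theorem c6 (w : WCData p C 𝒬) (Y : Subgroup 𝔈) (hY : IsPGroup p ↥Y) (hYC : ¬ Y ≤ C) :
    ⁅Op p (sSup 𝒬), Y⁆ = Op p (sSup 𝒬) := by
  haveI := w.Er_normal
  have hB : ⁅Op p (sSup 𝒬), Y⁆ ≤ Op p (sSup 𝒬) := Subgroup.commutator_le_left _ _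
  apply le_antisymm hB
  have hnB := le_normalizer_commutator (Op p (sSup 𝒬)) Y
  -- `Er ≤ B ⊔ C`
  have h1 : Op p (sSup 𝒬) ≤ ⁅Op p (sSup 𝒬), Y⁆ ⊔ C := by
    have h2 : (⁅Op p (sSup 𝒬), Y⁆).map (QuotientGroup.mk' C) =
        (Op p (sSup 𝒬)).map (QuotientGroup.mk' C) := by
      rw [Subgroup.map_commutator, w.map_Er, w.act Y hY hYC]
    have h3 := congrArg (Subgroup.comap (QuotientGroup.mk' C)) h2
    rw [Subgroup.comap_map_eq, Subgroup.comap_map_eq, QuotientGroup.ker_mk'] at h3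
    rw [h3]
    exact le_sup_left
  have h4 := w.le_sup_inf_of_le_sup hB h1
  -- `Er = Er' ≤ B ⊔ [D, D] ≤ B ⊔ T₁`
  have h5 : Op p (sSup 𝒬) ≤
      ⁅Op p (sSup 𝒬), Y⁆ ⊔ (Cfsg.pCoreOf p C ⊓ Op p (sSup 𝒬)) := by
    calc Op p (sSup 𝒬) = ⁅Op p (sSup 𝒬), Op p (sSup 𝒬)⁆ := w.c2.symm
      _ ≤ ⁅⁅Op p (sSup 𝒬), Y⁆ ⊔ (C ⊓ Op p (sSup 𝒬)),
            ⁅Op p (sSup 𝒬), Y⁆ ⊔ (C ⊓ Op p (sSup 𝒬))⁆ := Subgroup.commutator_mono h4 h4
      _ ≤ ⁅Op p (sSup 𝒬), Y⁆ ⊔ ⁅C ⊓ Op p (sSup 𝒬), C ⊓ Op p (sSup 𝒬)⁆ :=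
          Cfsg.Agent.Lib.Helper54_QS_DERSUP.commutator_sup_le _ _ (inf_le_right.trans hnB)
      _ ≤ ⁅Op p (sSup 𝒬), Y⁆ ⊔ (Cfsg.pCoreOf p C ⊓ Op p (sSup 𝒬)) := by
          apply sup_le_sup_left
          exact (Subgroup.commutator_mono le_rfl (inf_le_right.trans (Op_le p _))).trans
            w.comm_D_E0
  exact w.Er_le_of_le_sup_T1 hnB h5

end WCData

end Cfsg.Agent.Lib.Helper48_QSCore
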