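import Cfsg.Agent.Lib.Helper48_QSCore

/-!
# S2860 (helper48): from the ambient group to `↥E` and back
-/

set_option autoImplicit false
set_option linter.unusedSectionVars false
set_option linter.style.haveILetI false

open scoped commutatorElement

namespace Cfsg.Agent.Lib.Helper48_QSMain

open Cfsg.Agent.Lib.Helper48_Op Cfsg.Agent.Lib.Helper48_QSCore
open Cfsg.Agent.Lib.Helper47_Conj Cfsg.Agent.Lib.Helper47_SubAPI

variable {G : Type*} [Group G]

/-- the conjugates of `Q` inside `E`, as subgroups of `↥E` -/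
def conjSet (Q E : Subgroup G) : Set (Subgroup ↥E) :=
  {R | ∃ g : G, Q.map (MulAut.conj g).toMonoidHom ≤ E ∧
    R = (Q.map (MulAut.conj g).toMonoidHom).subgroupOf E}

theorem map_sSup_conjSet (Q E : Subgroup G) :
    (sSup (conjSet Q E)).map E.subtype = Cfsg.weakClosure Q E := by
  apply le_antisymm
  · rw [Subgroup.map_le_iff_le_comap]
    apply sSup_le
    rintro R ⟨g, hg, rfl⟩
    intro x hx
    rw [Subgroup.mem_comap]
    exact Cfsg.Agent.Lib.Helper48_MSS2.le_weakClosure hg (Subgroup.mem_subgroupOf.mp hx)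
  · unfold Cfsg.weakClosure
    apply iSup_le
    rintro ⟨g, hg⟩
    have h1 : (Q.map (MulAut.conj g).toMonoidHom).subgroupOf E ∈ conjSet Q E := ⟨g, hg, rfl⟩
    have h2 := Subgroup.map_mono (f := E.subtype) (le_sSup h1)
    rwa [Subgroup.map_subgroupOf_eq_of_le hg] at h2

theorem wcData [Finite G] {p : ℕ} [Fact p.Prime] (Q : Subgroup G) (hQp : IsPGroup p ↥Q)
    (hQ : Cfsg.IsLarge Q) (U : Subgroup G) (hUp : IsPGroup p ↥U) (hU1 : U ≠ ⊥) (E : Subgroup G)
    (hQE : Q ≤ E) (hEU : E ≤ Subgroup.normalizer ((U : Subgroup G) : Set G))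
    (hQn : ¬ E ≤ Subgroup.normalizer ((Q : Subgroup G) : Set G))
    [hn : ((Subgroup.centralizer ((U : Subgroup G) : Set G)).subgroupOf E).Normal]
    (hred : Cfsg.pCore p (↥E ⧸ (Subgroup.centralizer ((U : Subgroup G) : Set G)).subgroupOf E) = ⊥)
    (hqs : Cfsg.IsQuasisimple ↥(((Cfsg.pResidual p ↥E) ⊔
      (Subgroup.centralizer ((U : Subgroup G) : Set G)).subgroupOf E).map
        (QuotientGroup.mk' ((Subgroup.centralizer ((U : Subgroup G) : Set G)).subgroupOf E)))) :
    WCData p ((Subgroup.centralizer ((U : Subgroup G) : Set G)).subgroupOf E) (conjSet Q E) where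
  hp := by
    rintro R ⟨g, -, rfl⟩
    exact (hQp.map _).comap_subtype
  hconj := by
    rintro R ⟨g, hg, rfl⟩ e
    have h1 : Q.map (MulAut.conj ((e : G) * g)).toMonoidHom ≤ E := by
      rw [← map_conj_map_conj]
      calc (Q.map (MulAut.conj g).toMonoidHom).map (MulAut.conj (e : G)).toMonoidHom
          ≤ E.map (MulAut.conj (e : G)).toMonoidHom := Subgroup.map_mono hg
        _ = E := map_conj_eq_self_of_mem e.2
    refine ⟨(e : G) * g, h1, ?_⟩
    rw [← map_subtype_subgroupOf_map E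
      (((Q.map (MulAut.conj g).toMonoidHom).subgroupOf E).map (MulAut.conj e).toMonoidHom),
      Cfsg.Agent.Lib.Helper47_WeaklyClosed.map_conj_map_subtype,
      Subgroup.map_subgroupOf_eq_of_le hg, map_conj_map_conj]
  hnorm := by
    rintro R ⟨g, hg, rfl⟩ c hc
    have h1 := Cfsg.Agent.Lib.Helper82_QS_LARGE.large_normalizes Q hQp hQ U hUp hU1 g (hg.trans hEU)
      (Subgroup.mem_subgroupOf.mp hc)
    rw [Subgroup.mem_normalizer_iff] at h1 ⊢
    intro x
    rw [Subgroup.mem_subgroupOf, Subgroup.mem_subgroupOf]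
    exact h1 (x : G)
  hne := by
    refine ⟨Q.subgroupOf E, ⟨1, by rw [map_conj_one]; exact hQE, by rw [map_conj_one]⟩, ?_⟩
    intro h
    apply Cfsg.Agent.Lib.Helper82_QS_LARGE.large_not_le Q hQ U hU1 E hEU hQn
    intro q hq
    exact Subgroup.mem_subgroupOf.mp (h (show (⟨q, hQE hq⟩ : ↥E) ∈ Q.subgroupOf E from
      Subgroup.mem_subgroupOf.mpr hq))
  hred := hred
  hqs := hqs

/-- **S2860**, with `Er` given as the image of `Op p (sSup (conjSet Q E))`. -/
theorem main [Finite G] {p : ℕ} [Fact p.Prime] (Q : Subgroup G) (hQp : IsPGroup p ↥Q)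
    (hQ : Cfsg.IsLarge Q) (U : Subgroup G) (hU : Cfsg.IsElementaryAbelian p U) (hU1 : U ≠ ⊥)
    (E : Subgroup G) (hQE : Q ≤ E)
    (hEU : E ≤ Subgroup.normalizer ((U : Subgroup G) : Set G))
    (hQn : ¬ E ≤ Subgroup.normalizer ((Q : Subgroup G) : Set G))
    [hn : ((Subgroup.centralizer ((U : Subgroup G) : Set G)).subgroupOf E).Normal]
    (hred : Cfsg.pCore p (↥E ⧸ (Subgroup.centralizer ((U : Subgroup G) : Set G)).subgroupOf E) = ⊥)
    (hqs : Cfsg.IsQuasisimple ↥(((Cfsg.pResidual p ↥E) ⊔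
      (Subgroup.centralizer ((U : Subgroup G) : Set G)).subgroupOf E).map
        (QuotientGroup.mk' ((Subgroup.centralizer ((U : Subgroup G) : Set G)).subgroupOf E))))
    (Er : Subgroup G)
    (hEr : Er = (Cfsg.pResidual p ↥(Cfsg.weakClosure Q E)).map (Cfsg.weakClosure Q E).subtype)
    [hn2 : ((Subgroup.centralizer ((U : Subgroup G) : Set G)).subgroupOf Er).Normal] :
    ((Cfsg.pResidual p ↥E).map E.subtype) ⊔ (E ⊓ Subgroup.centralizer ((U : Subgroup G) : Set G)) =
        Er ⊔ (E ⊓ Subgroup.centralizer ((U : Subgroup G) : Set G)) ∧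
      ⁅Er, Er⁆ = Er ∧ ((Cfsg.pResidual p ↥Er).map Er.subtype) = Er ∧
      Cfsg.IsQuasisimple (↥Er ⧸ (Subgroup.centralizer ((U : Subgroup G) : Set G)).subgroupOf Er) ∧
      Cfsg.IsQuasisimple (↥Er ⧸ Cfsg.pCore p ↥Er) ∧
      ∀ Y : Subgroup G, Y ≤ E → IsPGroup p ↥Y →
        ¬ Y ≤ Subgroup.centralizer ((U : Subgroup G) : Set G) → ⁅Er, Y⁆ = Er := by
  have hUp : IsPGroup p ↥U := by
    intro u
    refine ⟨1, ?_⟩
    rw [pow_one]
    apply Subtype.ext
    rw [Subgroup.coe_pow, Subgroup.coe_one]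
    exact hU.2 u u.2
  have w := wcData Q hQp hQ U hUp hU1 E hQE hEU hQn hred hqs
  have hEr' : Er = (Op p (sSup (conjSet Q E))).map E.subtype := by
    rw [hEr, ← Op_eq_map_pResidual, Op_map_of_injective p E.subtype E.subtype_injective,
      map_sSup_conjSet]
  subst hEr'
  haveI hD : (((Subgroup.centralizer ((U : Subgroup G) : Set G)).subgroupOf E).subgroupOf
      (Op p (sSup (conjSet Q E)))).Normal := Subgroup.Normal.subgroupOf hn _
  refine ⟨?_, ?_, ?_, ?_, ?_, ?_⟩
  · have h1 := congrArg (Subgroup.map E.subtype) w.c1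
    rw [Subgroup.map_sup, Subgroup.map_sup, Subgroup.subgroupOf_map_subtype] at h1
    rw [inf_comm E]
    exact h1
  · rw [← Subgroup.map_commutator, w.c2]
  · rw [← Op_eq_map_pResidual, ← Op_map_of_injective p E.subtype E.subtype_injective, w.c3]
  · exact Cfsg.Agent.Lib.Helper64_QS_CONGR.qs_congr_centralizer E _ _ w.c4
  · exact Cfsg.Agent.Lib.Helper64_QS_CONGR.qs_congr_pCore E _ w.c5
  · intro Y hYE hYp hYU
    have h1 := w.c6 (Y.subgroupOf E) hYp.comap_subtype (by
      intro h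
      apply hYU
      intro y hy
      exact Subgroup.mem_subgroupOf.mp (h (show (⟨y, hYE hy⟩ : ↥E) ∈ Y.subgroupOf E from
        Subgroup.mem_subgroupOf.mpr hy)))
    have h2 := congrArg (Subgroup.map E.subtype) h1
    rw [Subgroup.map_commutator, Subgroup.map_subgroupOf_eq_of_le hYE] at h2
    exact h2

end Cfsg.Agent.Lib.Helper48_QSMain
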