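import Mathlib
import Cfsg.Agent.Lib.Helper56_S3366Defs
import Cfsg.Agent.Lib.Helper5_SpOrder
import Cfsg.Agent.Lib.Helper13_SympTrans
import Cfsg.Agent.S0246

set_option autoImplicit false

/-!
# S3366 package CLASS (architect helper56): `|PSp(4,3)| = 25920`, `c0` has order 3 and its
centraliser has order at most 648 (it has at least 40 conjugates: the images of the
transvections `T_w`, `w ≠ 0`, two of which coincide only for `w' = ± w`).
-/

open Cfsg.Agent.Lib.Helper56_S3366Defs
open scoped commutatorElement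

namespace Cfsg.Agent.Lib.Helper48_S3366_CLASS

open Matrix Cfsg.Agent.Lib.Helper13_Symp Cfsg.Agent.Lib.Helper13_SympTrans

theorem card_P43 : Nat.card P43 = 25920 := by
  have hF : Fintype.card (ZMod 3) = 3 := ZMod.card 3
  have h1 := Cfsg.Agent.Lib.Helper5_SpOrder.card_sp (F := ZMod 3) (q := 3) hF 2
  have h2 := Cfsg.Agent.S0246.result (F := ZMod 3) (q := 3) hF 2 (by norm_num)
  have h3 := Subgroup.card_eq_card_quotient_mul_card_subgroup
    (Subgroup.center (Matrix.symplecticGroup (Fin 2) (ZMod 3)))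
  have e : 3 ^ (2 ^ 2) * ∏ i ∈ Finset.range 2, (3 ^ (2 * (i + 1)) - 1) = 51840 := by decide
  rw [e] at h1
  have e2 : Nat.gcd 2 (3 - 1) = 2 := by decide
  rw [e2] at h2
  rw [h1, h2] at h3
  show Nat.card (Matrix.symplecticGroup (Fin 2) (ZMod 3) ⧸
    Subgroup.center (Matrix.symplecticGroup (Fin 2) (ZMod 3))) = 25920
  omega

theorem T0M_pow_three : T0M ^ 3 = 1 := by decide

theorem T0M_ne_one : T0M ≠ 1 := by decide

theorem T0M_ne_neg_one : T0M ≠ -1 := by decide

theorem T0_pow_three : T0 ^ 3 = 1 := by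
  apply Subtype.ext
  show ((T0 ^ 3 : Sp4) : Matrix I4 I4 (ZMod 3)) = 1
  rw [SubmonoidClass.coe_pow]
  exact T0M_pow_three

theorem c0_ne_one : c0 ≠ 1 := by
  intro h
  have h1 : T0 ∈ Subgroup.center Sp4 := (QuotientGroup.eq_one_iff T0).1 h
  rcases Cfsg.Agent.S0246.center_eq_one_or_neg_one 2 (by norm_num) _ h1 with h2 | h2
  · exact T0M_ne_one h2
  · exact T0M_ne_neg_one h2

theorem orderOf_c0 : orderOf c0 = 3 := by
  have : Fact (Nat.Prime 3) := ⟨Nat.prime_three⟩
  apply orderOf_eq_prime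
  · show (QuotientGroup.mk T0 : P43) ^ 3 = 1
    rw [← QuotientGroup.mk_pow, T0_pow_three]
    rfl
  · exact c0_ne_one

/-! ### the conjugates of `c0` -/

/-- the centre of the transvection `T0` -/
def p0 : I4 → ZMod 3 := Pi.single (Sum.inl 0) 1

theorem p0_ne_zero : p0 ≠ 0 := by decide

theorem T0_eq : T0 = transv 2 p0 (-1) := by
  apply Subtype.ext
  show T0M = Cfsg.sympTransvection 2 p0 (-1)
  decide

/-- the conjugates `T_w` of `T0` in `PSp(4,3)` -/
noncomputable def cw (w : I4 → ZMod 3) : P43 := QuotientGroup.mk (transv 2 w (-1))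

theorem conj_transv48 (A : Sp4) (w : I4 → ZMod 3) (c : ZMod 3) :
    A * transv 2 w c * A⁻¹ = transv 2 (A.1 *ᵥ w) c := by
  apply Subtype.ext
  apply Matrix.toLin'.injective
  apply LinearMap.ext
  intro x
  rw [Matrix.toLin'_apply, Matrix.toLin'_apply]
  show (A.1 * (transv 2 w c).1 * (A⁻¹).1) *ᵥ x = _
  have hinv : A.1 *ᵥ ((A⁻¹).1 *ᵥ x) = x := by
    rw [Matrix.mulVec_mulVec]
    have : A.1 * (A⁻¹).1 = 1 := by
      have := congrArg Subtype.val (mul_inv_cancel A)
      exact this
    rw [this, Matrix.one_mulVec]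
  rw [← Matrix.mulVec_mulVec, ← Matrix.mulVec_mulVec, transv_mulVec, transv_mulVec,
    Matrix.mulVec_add, Matrix.mulVec_smul, hinv]
  congr 2
  congr 1
  conv_rhs => rw [← hinv]
  rw [sympForm_mulVec_mulVec_of_mem 2 A.2]

theorem cw_isConj (w : I4 → ZMod 3) (hw : w ≠ 0) : IsConj (cw w) c0 := by
  obtain ⟨A, -, hA⟩ := exists_transv_map 2 p0 w p0_ne_zero hw
  rw [isConj_comm, isConj_iff]
  refine ⟨QuotientGroup.mk A, ?_⟩
  show (QuotientGroup.mk A : P43) * QuotientGroup.mk T0 * (QuotientGroup.mk A)⁻¹ = cw w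
  rw [T0_eq, ← QuotientGroup.mk_inv, ← QuotientGroup.mk_mul, ← QuotientGroup.mk_mul,
    conj_transv48, hA]
  rfl

theorem trace_transv (w : I4 → ZMod 3) (c : ZMod 3) :
    Matrix.trace (Cfsg.sympTransvection 2 w c) = 1 := by
  unfold Cfsg.sympTransvection
  rw [Matrix.trace_add, Matrix.trace_smul, Matrix.trace_vecMulVec, Matrix.trace_one]
  have h0 : w ⬝ᵥ Matrix.J (Fin 2) (ZMod 3) *ᵥ w = 0 := sympForm_self 2 w
  rw [h0, smul_zero, add_zero]
  decide

theorem zmod3_cases (l : ZMod 3) : l = 0 ∨ l = 1 ∨ l = -1 := by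
  revert l; decide

theorem cw_eq (w w' : I4 → ZMod 3) (hw : w ≠ 0) (h : cw w = cw w') : w' = w ∨ w' = -w := by
  have h1 : (transv 2 w (-1))⁻¹ * transv 2 w' (-1) ∈ Subgroup.center Sp4 := QuotientGroup.eq.1 h
  have h2 := Cfsg.Agent.S0246.center_eq_one_or_neg_one 2 (by norm_num) _ h1
  have key : ∀ Z : Sp4, ((transv 2 w (-1))⁻¹ * transv 2 w' (-1) = Z) →
      Cfsg.sympTransvection 2 w' (-1) = Cfsg.sympTransvection 2 w (-1) * Z.1 := by
    intro Z hZ
    have : transv 2 w' (-1) = transv 2 w (-1) * Z := by rw [← hZ, mul_inv_cancel_left]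
    exact congrArg Subtype.val this
  have h3 := key _ rfl
  rcases h2 with h2 | h2
  · rw [h2, mul_one] at h3
    -- `T_w' = T_w`
    obtain ⟨x, hx⟩ := exists_sympForm_ne_zero 2 hw
    have hx' : Cfsg.sympForm 2 (ZMod 3) x w ≠ 0 := by
      rw [sympForm_swap]; exact neg_ne_zero.mpr hx
    have h4 : (Cfsg.sympForm 2 (ZMod 3) x w') • w' = (Cfsg.sympForm 2 (ZMod 3) x w) • w := by
      have e := congrArg (fun T => T *ᵥ x) h3
      simp only [sympTransvection_mulVec] at e
      have e' := add_left_cancel e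
      rw [neg_one_mul, neg_one_mul, neg_smul, neg_smul, neg_inj] at e'
      exact e'
    have h5 : w = ((Cfsg.sympForm 2 (ZMod 3) x w)⁻¹ * Cfsg.sympForm 2 (ZMod 3) x w') • w' := by
      rw [mul_smul, h4, smul_smul, inv_mul_cancel₀ hx', one_smul]
    rcases zmod3_cases ((Cfsg.sympForm 2 (ZMod 3) x w)⁻¹ * Cfsg.sympForm 2 (ZMod 3) x w') with
      h6 | h6 | h6
    · rw [h6, zero_smul] at h5
      exact absurd h5 hw
    · rw [h6, one_smul] at h5
      exact Or.inl h5.symm
    · rw [h6, neg_smul, one_smul] at h5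
      right
      rw [h5, neg_neg]
  · exfalso
    rw [h2, mul_neg, mul_one] at h3
    have e := congrArg Matrix.trace h3
    rw [Matrix.trace_neg, trace_transv, trace_transv] at e
    revert e
    decide

theorem card_centralizer_c0_le :
    Nat.card (Subgroup.centralizer ({c0} : Set P43)) ≤ 648 := by
  classical
  have hidx : (Subgroup.centralizer ({c0} : Set P43)).index
      = (MulAction.orbit (ConjAct P43) c0).ncard := by
    have h1 := Subgroup.centralizer_eq_comap_stabilizer (c0 : P43)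
    have h2 := Subgroup.index_comap_of_surjective (MulAction.stabilizer (ConjAct P43) c0)
      (f := (ConjAct.toConjAct (G := P43)).toMonoidHom) (ConjAct.toConjAct (G := P43)).surjective
    have h3 := MulAction.index_stabilizer (ConjAct P43) (c0 : P43)
    exact (congrArg Subgroup.index h1).trans (h2.trans h3)
  -- the 80 nonzero vectors
  set S : Finset (I4 → ZMod 3) := Finset.univ.filter (fun w => w ≠ 0) with hS
  have hScard : S.card = 80 := by
    rw [hS]
    decide
  have hfib : ∀ a ∈ S.image cw, (S.filter (fun w => cw w = a)).card ≤ 2 := by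
    intro a ha
    obtain ⟨w0, hw0, rfl⟩ := Finset.mem_image.1 ha
    have hw0' : w0 ≠ 0 := (Finset.mem_filter.1 hw0).2
    have hsub : S.filter (fun w => cw w = cw w0) ⊆ {w0, -w0} := by
      intro w hw
      have h1 := (Finset.mem_filter.1 hw).2
      rcases cw_eq w0 w hw0' h1.symm with h | h
      · rw [h]; exact Finset.mem_insert_self _ _
      · rw [h]; exact Finset.mem_insert_of_mem (Finset.mem_singleton_self _)
    exact (Finset.card_le_card hsub).trans Finset.card_le_two
  have h80 := Finset.card_le_mul_card_image S 2 hfib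
  rw [hScard] at h80
  have hsubset : ((S.image cw : Finset P43) : Set P43) ⊆ MulAction.orbit (ConjAct P43) c0 := by
    intro a ha
    obtain ⟨w, hw, rfl⟩ := Finset.mem_image.1 (Finset.mem_coe.1 ha)
    rw [ConjAct.mem_orbit_conjAct]
    exact cw_isConj w (Finset.mem_filter.1 hw).2
  have hfin : Finite P43 := inferInstance
  have hle := Set.ncard_le_ncard hsubset (Set.toFinite _)
  rw [Set.ncard_coe_finset] at hle
  have hmul := Subgroup.card_mul_index (Subgroup.centralizer ({c0} : Set P43))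
  rw [card_P43, hidx] at hmul
  have h40 : 40 ≤ (MulAction.orbit (ConjAct P43) c0).ncard := by omega
  by_contra hcon
  push Not at hcon
  have : 649 * 40 ≤ Nat.card (Subgroup.centralizer ({c0} : Set P43))
      * (MulAction.orbit (ConjAct P43) c0).ncard := Nat.mul_le_mul hcon h40
  omega

end Cfsg.Agent.Lib.Helper48_S3366_CLASS
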