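import Mathlib
import Cfsg.Prelude.Def_Characters
import Cfsg.Prelude.Def_Solvable

/-!
# Three character degrees (Isaacs 12.15, S4460): shared definitions (helper48)

`CD3 G f g`: every irreducible character of `G` has degree `1`, `f` or `g` (degrees stated as
complex equalities `χ 1 = (d : ℂ)`), and `FrobData K N p`: `G/K` is a "Frobenius quotient" in
the sense of Isaacs 12.3/12.4: `N/K = (G/K)'` is an abelian `p`-group, the unique minimal normal
subgroup of `G/K`, `G/N` is cyclic of order prime to `p` and acts without fixed points on `N/K`.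
-/

set_option autoImplicit false

namespace Cfsg.Agent.Lib.Helper48_ThreeDegDefs

open Cfsg

universe u

/-- all irreducible character degrees lie in `{1, f, g}` -/
def CD3 (G : Type u) [Group G] (f g : ℕ) : Prop :=
  ∀ χ : IrrCharacter G, (χ : G → ℂ) 1 = 1 ∨ (χ : G → ℂ) 1 = (f : ℂ) ∨ (χ : G → ℂ) 1 = (g : ℂ)

theorem CD3.symm {G : Type u} [Group G] {f g : ℕ} (h : CD3 G f g) : CD3 G g f := by
  intro χ
  rcases h χ with h | h | h
  · exact Or.inl h
  · exact Or.inr (Or.inr h)
  · exact Or.inr (Or.inl h)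

/-- the data common to both alternatives of Isaacs 12.3 for a maximal nonabelian quotient
`G/K`: `N/K = (G/K)'` is a nontrivial abelian `p`-group and the unique minimal normal subgroup
of the nonabelian group `G/K`. -/
structure QuotData {G : Type u} [Group G] (K N : Subgroup G) (p : ℕ) : Prop where
  hKN : K ≤ N
  hne : K ≠ N
  habq : ∀ a b : G, a * b * a⁻¹ * b⁻¹ ∈ N
  hab : ∀ x ∈ N, ∀ y ∈ N, x * y * x⁻¹ * y⁻¹ ∈ K
  umn : ∀ Y : Subgroup G, Y.Normal → K ≤ Y → Y = K ∨ N ≤ Y
  hp : p.Prime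
  hpow : ∃ a : ℕ, K.relIndex N = p ^ a
  hnonab : ∃ a b : G, a * b * a⁻¹ * b⁻¹ ∉ K

/-- the Frobenius alternative of Isaacs 12.3, in the form used by `Helper51_Isaacs124`. -/
structure FrobData {G : Type u} [Group G] (K N : Subgroup G) [N.Normal] (p : ℕ) : Prop
    extends QuotData K N p where
  hcop : (K.relIndex N).Coprime N.index
  hfpf : ∀ g : G, g ∉ N → ∀ x ∈ N, x⁻¹ * (g⁻¹ * x * g) ∈ K → x ∈ K
  hcyc : IsCyclic (G ⧸ N)

end Cfsg.Agent.Lib.Helper48_ThreeDegDefs
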