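import Mathlib
import Cfsg.Prelude.Def_Characters
import Cfsg.Prelude.Def_Solvable
import Cfsg.Agent.Lib.Helper48_ThreeDegDefs
import Cfsg.Agent.Lib.Helper51_Isaacs124
import Cfsg.Agent.Lib.Helper3_Taketa
import Cfsg.Agent.Lib.Helper80_CharBasic

/-!
# S4460 (Isaacs 12.15), case F: package PK-F0 (helper48)
-/

set_option autoImplicit false
set_option linter.unusedSectionVars false

namespace Cfsg.Agent.Lib.Helper48_S4460_F0

open Cfsg Cfsg.Agent.Lib.Helper48_ThreeDegDefs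
open Cfsg.Agent.Lib.Helper74_LinAct Cfsg.Agent.Lib.Helper74_TwoDegC

universe u

variable {G : Type u} [Group G] [Finite G]

/-- PK-F0. `[G:N]` is the degree of an irreducible character with `K` in its kernel. -/
theorem caseF_exists_char (K N : Subgroup G) [K.Normal] [N.Normal] (p : ℕ)
    (hF : FrobData K N p) :
    ∃ χ : IrrCharacter G, (χ : G → ℂ) 1 = (N.index : ℂ) ∧
      ∀ x ∈ K, (χ : G → ℂ) x = (χ : G → ℂ) 1 := by
  classical
  have : Fintype G := Fintype.ofFinite G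
  set ψ : IrrCharacter N := Cfsg.Agent.Lib.Helper80_CharBasic.oneIrr N with hψ
  rcases Cfsg.Agent.Lib.Helper51_Isaacs124.isaacs_12_4 K N hF.hab hF.hcop hF.hfpf ψ with
    ⟨f, hf, hirr⟩ | ⟨hvan, -⟩
  · refine ⟨⟨_, hirr⟩, ?_, ?_⟩
    · show indFun N (twist f ψ : N → ℂ) 1 = _
      rw [Cfsg.Agent.Lib.Helper51_Isaacs124.indFun_degree, twist_one_apply]
      show (N.index : ℂ) * (1 : ℂ) = _
      rw [mul_one]
    · intro x hx
      show indFun N (twist f ψ : N → ℂ) x = indFun N (twist f ψ : N → ℂ) 1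
      apply Cfsg.Agent.Lib.Helper3_Taketa.indFun_eq_of_normal_le_ker N _ K hF.hKN _ hx
      intro n hn
      show ((f ⟨n, hF.hKN hn⟩ : ℂˣ) : ℂ) * (1 : ℂ) = ((f 1 : ℂˣ) : ℂ) * (1 : ℂ)
      rw [(mem_Lam K N).mp hf ⟨n, hF.hKN hn⟩ hn, map_one]
  · exfalso
    -- the trivial character does not vanish off `K`
    have hex : ∃ x ∈ N, x ∉ K := by
      by_contra hcon
      push Not at hcon
      exact hF.hne (le_antisymm hF.hKN hcon)
    obtain ⟨x, hxN, hxK⟩ := hex
    have := hvan ⟨x, hxN⟩ hxK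
    exact one_ne_zero this

end Cfsg.Agent.Lib.Helper48_S4460_F0
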