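import Mathlib
import Cfsg.Agent.Lib.Helper2_Coprime
import Cfsg.Agent.Lib.Helper24_CoprimeAction
import Cfsg.Agent.Lib.Helper1_Frattini

/-!
S4460 (Isaacs 12.15), helper48: the purely group-theoretic "module argument" that closes the last
sub-case of the solvable half (findings 117).

`F ⊴ G` an `r`-group with `C_G(F) ≤ F`, `N ⊴ G` with `F ≤ N` and `|N : F|` prime to `r`, `R ≥ F` an
`r`-subgroup.  If `[F, N] ≤ [F, R] F'` (dual form of: every `R`-invariant linear character of `F`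
is `N`-invariant) then `[N, R] ≤ F`.
-/

set_option autoImplicit false

namespace Cfsg.Agent.Lib.Helper48_ThreeDegM

open Subgroup
open scoped commutatorElement

variable {G : Type*} [Group G]

/-- In a finite `r`-group `R`, a subgroup `D ≤ R` with `D ≤ [D, R]` is trivial. -/
theorem eq_bot_of_le_commutator [Finite G] {r : ℕ} [Fact r.Prime] {D R : Subgroup G}
    (hR : IsPGroup r R) (hDR : D ≤ R) (h : D ≤ ⁅D, R⁆) : D = ⊥ := by
  haveI : Group.IsNilpotent ↥R := hR.isNilpotent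
  have hall : ∀ k, D ≤ R.lowerCentralSeries k := by
    intro k
    induction k with
    | zero => simpa using hDR
    | succ k ih =>
      rw [Subgroup.lowerCentralSeries_succ]
      exact h.trans (Subgroup.commutator_mono ih le_rfl)
  obtain ⟨n, hn⟩ := (Subgroup.isNilpotent_iff_lowerCentralSeries R).mp inferInstance
  rw [eq_bot_iff, ← hn]
  exact hall n

/-- Elements of `H ⊔ K` are products when `H` and `K` commute elementwise. -/
theorem exists_mul_of_mem_sup_of_commute {H K : Subgroup G}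
    (hc : ∀ h ∈ H, ∀ k ∈ K, h * k = k * h) {x : G} (hx : x ∈ H ⊔ K) :
    ∃ h ∈ H, ∃ k ∈ K, x = h * k := by
  rw [Subgroup.sup_eq_closure] at hx
  induction hx using Subgroup.closure_induction with
  | mem x hx =>
    rcases hx with hx | hx
    · exact ⟨x, hx, 1, K.one_mem, by simp⟩
    · exact ⟨1, H.one_mem, x, hx, by simp⟩
  | one => exact ⟨1, H.one_mem, 1, K.one_mem, by simp⟩
  | mul x y _ _ hx hy =>
    obtain ⟨h₁, hh₁, k₁, hk₁, rfl⟩ := hx
    obtain ⟨h₂, hh₂, k₂, hk₂, rfl⟩ := hy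
    refine ⟨h₁ * h₂, H.mul_mem hh₁ hh₂, k₁ * k₂, K.mul_mem hk₁ hk₂, ?_⟩
    have := hc h₂ hh₂ k₁ hk₁
    calc h₁ * k₁ * (h₂ * k₂) = h₁ * (k₁ * h₂) * k₂ := by group
      _ = h₁ * (h₂ * k₁) * k₂ := by rw [this]
      _ = h₁ * h₂ * (k₁ * k₂) := by group
  | inv x _ hx =>
    obtain ⟨h, hh, k, hk, rfl⟩ := hx
    refine ⟨h⁻¹, H.inv_mem hh, k⁻¹, K.inv_mem hk, ?_⟩
    have := hc h hh k hk
    calc (h * k)⁻¹ = (k * h)⁻¹ := by rw [this]
      _ = h⁻¹ * k⁻¹ := by group

/-- An element normalizing `H` and `K` normalizes `H ⊔ K`. -/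
theorem mem_normalizer_sup {H K : Subgroup G} {g : G}
    (hH : g ∈ normalizer (H : Set G)) (hK : g ∈ normalizer (K : Set G)) :
    g ∈ normalizer ((H ⊔ K : Subgroup G) : Set G) := by
  rw [Subgroup.mem_normalizer_iff_map_conj_eq] at hH hK ⊢
  rw [Subgroup.map_sup, hH, hK]

/-- An element normalizing `H` and `K` normalizes `H ⊓ K`. -/
theorem mem_normalizer_inf {H K : Subgroup G} {g : G}
    (hH : g ∈ normalizer (H : Set G)) (hK : g ∈ normalizer (K : Set G)) :
    g ∈ normalizer ((H ⊓ K : Subgroup G) : Set G) := by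
  rw [Subgroup.mem_normalizer_iff] at hH hK ⊢
  intro x
  rw [Subgroup.mem_inf, Subgroup.mem_inf, hH x, hK x]

/-- An element normalizing `M` normalizes `C_G(M)`. -/
theorem mem_normalizer_centralizer {M : Subgroup G} {g : G}
    (hM : g ∈ normalizer (M : Set G)) :
    g ∈ normalizer ((centralizer (M : Set G) : Subgroup G) : Set G) := by
  rw [Subgroup.mem_normalizer_iff]
  intro z
  constructor
  · intro hz
    rw [Subgroup.mem_centralizer_iff] at hz ⊢
    intro m hm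
    have hm' : g⁻¹ * m * g ∈ M := (Subgroup.mem_normalizer_iff''.mp hM m).mp hm
    have := hz _ hm'
    calc m * (g * z * g⁻¹) = g * ((g⁻¹ * m * g) * z) * g⁻¹ := by group
      _ = g * (z * (g⁻¹ * m * g)) * g⁻¹ := by rw [this]
      _ = g * z * g⁻¹ * m := by group
  · intro hz
    rw [Subgroup.mem_centralizer_iff] at hz ⊢
    intro m hm
    have hm' : g * m * g⁻¹ ∈ M := (Subgroup.mem_normalizer_iff.mp hM m).mp hm
    have := hz _ hm'
    calc m * z = g⁻¹ * ((g * m * g⁻¹) * (g * z * g⁻¹)) * g := by group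
      _ = g⁻¹ * ((g * z * g⁻¹) * (g * m * g⁻¹)) * g := by rw [this]
      _ = z * m := by group

/-- `|F ⊔ A : F|` divides `|A|`. -/
theorem relIndex_sup_dvd_card [Finite G] (F A : Subgroup G) [F.Normal] :
    F.relIndex (F ⊔ A) ∣ Nat.card A := by
  rw [Subgroup.relIndex_sup_left]
  exact Subgroup.relIndex_dvd_card F A

/-- **The module argument, abelian case.** -/
theorem abelian_case [Finite G] {r : ℕ} [Fact r.Prime] (F N R A : Subgroup G)
    [hFn : F.Normal] [hNn : N.Normal] [hFc : IsMulCommutative F]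
    (hF : IsPGroup r F) (hR : IsPGroup r R) (hFR : F ≤ R)
    (hA : F ⊔ A = N) (hAcop : (Nat.card A).Coprime r)
    (hdual : ⁅F, N⁆ ≤ ⁅F, R⁆) :
    ⁅F, ⁅N, R⁆⁆ = ⊥ := by
  classical
  have hcomm : ∀ a ∈ F, ∀ b ∈ F, a * b = b * a := fun a ha b hb => by
    have := mul_comm' (⟨a, ha⟩ : F) ⟨b, hb⟩
    exact congrArg Subtype.val this
  set M : Subgroup G := ⁅N, R⁆ ⊔ F with hM
  have hFN : F ≤ N := hA ▸ le_sup_left
  have hNRN : ⁅N, R⁆ ≤ N := Subgroup.commutator_le_left N R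
  have hMN : M ≤ N := sup_le hNRN hFN
  have hFM : F ≤ M := le_sup_right
  have hnormF : ∀ g : G, g ∈ normalizer (F : Set G) := fun g => by
    rw [Subgroup.normalizer_eq_top_iff.mpr hFn]; exact Subgroup.mem_top g
  have hnormN : ∀ g : G, g ∈ normalizer (N : Set G) := fun g => by
    rw [Subgroup.normalizer_eq_top_iff.mpr hNn]; exact Subgroup.mem_top g
  have hMnorm : M ≤ normalizer (F : Set G) := fun g _ => hnormF g
  -- coprimality
  have hcopN : (F.relIndex N).Coprime r := by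
    rw [← hA]
    exact Nat.Coprime.coprime_dvd_left (relIndex_sup_dvd_card F A) hAcop
  have hcopM : Nat.Coprime (Nat.card F) (F.relIndex M) := by
    obtain ⟨k, hk⟩ := IsPGroup.iff_card.mp hF
    rw [hk]
    apply Nat.Coprime.pow_left
    have hdvd : F.relIndex M ∣ F.relIndex N :=
      ⟨M.relIndex N, (Subgroup.relIndex_mul_relIndex F M N hFM hMN).symm⟩
    exact (Nat.Coprime.coprime_dvd_left hdvd hcopN).symm
  obtain ⟨hinf, hsup⟩ :=
    Cfsg.Agent.Lib.Helper2_Coprime.relative_decomposition F M hFM hMnorm hcopM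
  set D : Subgroup G := ⁅F, M⁆ with hD
  set C : Subgroup G := F ⊓ centralizer (M : Set G) with hC
  have hDF : D ≤ F := Cfsg.Agent.Lib.Helper24_CoprimeAction.commutator_le_of_le_normalizer F M hMnorm
  have hCF : C ≤ F := inf_le_left
  -- `R` normalizes everything
  have hRM : ∀ x ∈ R, x ∈ normalizer (M : Set G) := fun x hx =>
    mem_normalizer_sup
      (Cfsg.Agent.Lib.Helper24_CoprimeAction.mem_normalizer_commutator N R (hnormN x)
        (Subgroup.le_normalizer hx)) (hnormF x)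
  have hRD : R ≤ normalizer (D : Set G) := fun x hx =>
    Cfsg.Agent.Lib.Helper24_CoprimeAction.mem_normalizer_commutator F M (hnormF x) (hRM x hx)
  have hRC : R ≤ normalizer (C : Set G) := fun x hx =>
    mem_normalizer_inf (hnormF x) (mem_normalizer_centralizer (hRM x hx))
  have hDRD : ⁅D, R⁆ ≤ D :=
    Cfsg.Agent.Lib.Helper24_CoprimeAction.commutator_le_of_le_normalizer D R hRD
  have hCRC : ⁅C, R⁆ ≤ C :=
    Cfsg.Agent.Lib.Helper24_CoprimeAction.commutator_le_of_le_normalizer C R hRC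
  -- `[F, R] ≤ [D, R] [C, R]`
  have hFR' : ⁅F, R⁆ ≤ ⁅D, R⁆ ⊔ ⁅C, R⁆ := by
    rw [Subgroup.commutator_le]
    intro f hf x hx
    obtain ⟨d, hd, c, hc, rfl⟩ :=
      Cfsg.Agent.Lib.Helper2_Coprime.relative_exists_mul F M hFM hMnorm hcopM f hf
    have h1 : ⁅c, x⁆ ∈ ⁅C, R⁆ := Subgroup.commutator_mem_commutator hc hx
    have h2 : ⁅d, x⁆ ∈ ⁅D, R⁆ := Subgroup.commutator_mem_commutator hd hx
    have h3 : d * ⁅c, x⁆ = ⁅c, x⁆ * d := hcomm d (hDF hd) _ (hCF (hCRC h1))
    have h4 : ⁅d * c, x⁆ = ⁅d, x⁆ * ⁅c, x⁆ := by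
      have e1 : ⁅d * c, x⁆ = d * ⁅c, x⁆ * d⁻¹ * ⁅d, x⁆ := by
        simp only [commutatorElement_def]; group
      rw [e1, h3]
      have h5 : ⁅c, x⁆ * ⁅d, x⁆ = ⁅d, x⁆ * ⁅c, x⁆ :=
        hcomm _ (hCF (hCRC h1)) _ (hDF (hDRD h2))
      calc ⁅c, x⁆ * d * d⁻¹ * ⁅d, x⁆ = ⁅c, x⁆ * ⁅d, x⁆ := by group
        _ = ⁅d, x⁆ * ⁅c, x⁆ := h5
    rw [h4]
    exact Subgroup.mul_mem _ (Subgroup.mem_sup_left h2) (Subgroup.mem_sup_right h1)
  -- `D ≤ [D, R]`
  have hDle : D ≤ ⁅D, R⁆ := by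
    intro d hd
    have h1 : d ∈ ⁅D, R⁆ ⊔ ⁅C, R⁆ := hFR' (hdual (Subgroup.commutator_mono le_rfl hMN hd))
    obtain ⟨d', hd', c', hc', rfl⟩ := exists_mul_of_mem_sup_of_commute
      (fun h hh k hk => hcomm h (hDF (hDRD hh)) k (hCF (hCRC hk))) h1
    have h2 : c' ∈ D := by
      have : c' = d'⁻¹ * (d' * c') := by group
      rw [this]
      exact D.mul_mem (D.inv_mem (hDRD hd')) hd
    have h3 : c' ∈ D ⊓ C := Subgroup.mem_inf.mpr ⟨h2, hCRC hc'⟩
    rw [hinf, Subgroup.mem_bot] at h3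
    rw [h3, mul_one]
    exact hd'
  have hDbot : D = ⊥ := eq_bot_of_le_commutator hR (hDF.trans hFR) hDle
  rw [eq_bot_iff, ← hDbot]
  exact Subgroup.commutator_mono le_rfl le_sup_left

/-- A `r'`-subgroup `B` normalizing the `r`-group `F` with `[F, B] ≤ F'` centralizes `F`. -/
theorem le_centralizer_of_commutator_le_commutator [Finite G] {r : ℕ} [Fact r.Prime]
    (F B : Subgroup G) (hF : IsPGroup r F) (hBF : B ≤ normalizer (F : Set G))
    (hcop : (Nat.card B).Coprime r) (hFB : ⁅F, B⁆ ≤ ⁅F, F⁆) :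
    B ≤ centralizer (F : Set G) := by
  classical
  have hcop' : (Nat.card B).Coprime (Nat.card F) := by
    obtain ⟨k, hk⟩ := IsPGroup.iff_card.mp hF
    rw [hk]; exact Nat.Coprime.pow_right k hcop
  have hFsolv : Group.IsSolvable ↥F := by
    haveI : Group.IsNilpotent ↥F := hF.isNilpotent
    infer_instance
  set C : Subgroup G := F ⊓ centralizer (B : Set G) with hC
  -- `C.subgroupOf F ⊔ frattini F = ⊤`
  have hgen : C.subgroupOf F ⊔ frattini ↥F = ⊤ := by
    rw [eq_top_iff]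
    intro x _
    obtain ⟨d, hd, c, hc, hx⟩ :=
      Cfsg.Agent.Lib.Helper24_CoprimeAction.coprime_decomp B F hBF hcop' (Or.inr hFsolv) x.2
    have hdF' : d ∈ ⁅F, F⁆ := hFB hd
    have hdF : d ∈ F :=
      Cfsg.Agent.Lib.Helper24_CoprimeAction.commutator_le_of_le_normalizer F F
        Subgroup.le_normalizer hdF'
    have hcF : c ∈ F := hc.1
    have hx' : x = ⟨d, hdF⟩ * ⟨c, hcF⟩ := Subtype.ext hx
    rw [hx', sup_comm]
    apply Subgroup.mul_mem_sup
    · apply Cfsg.Agent.Lib.Helper1_Frattini.commutator_le_frattini_of_isPGroup hF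
      rw [← F.map_subtype_commutator] at hdF'
      obtain ⟨y, hy, hyd⟩ := hdF'
      have : y = ⟨d, hdF⟩ := Subtype.ext hyd
      rwa [this] at hy
    · exact Subgroup.mem_subgroupOf.mpr hc
  have htop : C.subgroupOf F = ⊤ := frattini_nongenerating hgen
  have hFC : F ≤ C := by
    intro x hx
    have : (⟨x, hx⟩ : F) ∈ C.subgroupOf F := by rw [htop]; exact Subgroup.mem_top _
    exact Subgroup.mem_subgroupOf.mp this
  rw [Subgroup.le_centralizer_iff]
  exact hFC.trans inf_le_right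

/-- **The module argument.**  `F ⊴ G` an `r`-group with `C_G(F) ≤ F`, `N ⊴ G`, `F ≤ N`,
`|N : F|` prime to `r`, `R ≥ F` an `r`-subgroup, `[F, N] ≤ [F, R] F'`.  Then `[N, R] ≤ F`. -/
theorem module_argument [Finite G] {r : ℕ} [hr : Fact r.Prime] (F N R : Subgroup G)
    [hFn : F.Normal] [hNn : N.Normal]
    (hF : IsPGroup r F) (hR : IsPGroup r R) (hFN : F ≤ N) (hFR : F ≤ R)
    (hcent : centralizer (F : Set G) ≤ F)
    (hcop : (F.relIndex N).Coprime r)
    (hdual : ⁅F, N⁆ ≤ ⁅F, R⁆ ⊔ ⁅F, F⁆) :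
    ⁅N, R⁆ ≤ F := by
  classical
  have hnormF : ∀ g : G, g ∈ normalizer (F : Set G) := fun g => by
    rw [Subgroup.normalizer_eq_top_iff.mpr hFn]; exact Subgroup.mem_top g
  obtain ⟨k, hk⟩ := IsPGroup.iff_card.mp hF
  -- a complement `A` of `F` in `N`
  have hcopN : Nat.Coprime (Nat.card F) (F.relIndex N) := by
    rw [hk]; exact Nat.Coprime.pow_left k hcop.symm
  obtain ⟨A, hAN, hFA, hFAsup, hAcard⟩ :=
    Cfsg.Agent.Lib.Helper2_Coprime.exists_complement_of_le_normalizer F N hFN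
      (fun g _ => hnormF g) hcopN
  have hAcop : (Nat.card A).Coprime r := by rw [hAcard]; exact hcop
  -- the quotient by `F'`
  set F' : Subgroup G := ⁅F, F⁆ with hF'
  haveI : F'.Normal := Subgroup.commutator_normal F F
  set π : G →* G ⧸ F' := QuotientGroup.mk' F' with hπ
  have hπs : Function.Surjective π := QuotientGroup.mk'_surjective F'
  haveI : (F.map π).Normal := hFn.map π hπs
  haveI : (N.map π).Normal := hNn.map π hπs
  haveI : IsMulCommutative (F.map π) := by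
    refine ⟨⟨?_⟩⟩
    rintro ⟨_, x, hx, rfl⟩ ⟨_, y, hy, rfl⟩
    apply Subtype.ext
    show π x * π y = π y * π x
    rw [← map_mul, ← map_mul, hπ, QuotientGroup.mk'_apply, QuotientGroup.mk'_apply,
      QuotientGroup.eq]
    have : (x * y)⁻¹ * (y * x) = ⁅y⁻¹, x⁻¹⁆ := by
      rw [commutatorElement_def]; group
    rw [this]
    exact Subgroup.commutator_mem_commutator (F.inv_mem hy) (F.inv_mem hx)
  have hab := abelian_case (r := r) (F.map π) (N.map π) (R.map π) (A.map π)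
    (hF.map π) (hR.map π) (Subgroup.map_mono hFR)
    (by rw [← Subgroup.map_sup, hFAsup])
    (Nat.Coprime.coprime_dvd_left (Subgroup.card_map_dvd A π) hAcop)
    (by
      rw [← Subgroup.map_commutator, ← Subgroup.map_commutator]
      refine (Subgroup.map_mono hdual).trans ?_
      have h0 : F'.map π = ⊥ := QuotientGroup.map_mk'_self F'
      rw [Subgroup.map_sup, h0, sup_bot_eq])
  -- `M := [N, R] F` acts trivially on `F / F'`
  set M : Subgroup G := ⁅N, R⁆ ⊔ F with hM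
  have hNRN : ⁅N, R⁆ ≤ N := Subgroup.commutator_le_left N R
  have hMN : M ≤ N := sup_le hNRN hFN
  have hFM : F ≤ M := le_sup_right
  have hFMF' : ⁅F, M⁆ ≤ F' := by
    -- everything in `M` centralizes `F` modulo `F'`
    have hT : M ≤ (centralizer ((F.map π : Subgroup (G ⧸ F')) : Set (G ⧸ F'))).comap π := by
      apply sup_le
      · rw [← Subgroup.map_le_iff_le_comap, Subgroup.map_commutator, Subgroup.le_centralizer_iff]
        exact Subgroup.commutator_eq_bot_iff_le_centralizer.mp hab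
      · rw [← Subgroup.map_le_iff_le_comap]
        intro x hx
        rw [Subgroup.mem_centralizer_iff]
        intro y hy
        have := mul_comm' (⟨y, hy⟩ : F.map π) ⟨x, hx⟩
        exact congrArg Subtype.val this
    rw [Subgroup.commutator_le]
    intro f hf m hm
    have h1 : π m ∈ centralizer ((F.map π : Subgroup (G ⧸ F')) : Set (G ⧸ F')) := hT hm
    have h2 : π f * π m = π m * π f :=
      Subgroup.mem_centralizer_iff.mp h1 (π f) (Subgroup.mem_map_of_mem π hf)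
    have h3 : π ⁅f, m⁆ = 1 := by
      rw [commutatorElement_def, map_mul, map_mul, map_mul, map_inv, map_inv, h2]
      group
    rw [hπ, QuotientGroup.mk'_apply, QuotientGroup.eq_one_iff] at h3
    exact h3
  -- a complement `B` of `F` in `M`
  have hcopM : Nat.Coprime (Nat.card F) (F.relIndex M) := by
    have hdvd : F.relIndex M ∣ F.relIndex N :=
      ⟨M.relIndex N, (Subgroup.relIndex_mul_relIndex F M N hFM hMN).symm⟩
    exact Nat.Coprime.coprime_dvd_right hdvd hcopN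
  obtain ⟨B, hBM, hFB, hFBsup, hBcard⟩ :=
    Cfsg.Agent.Lib.Helper2_Coprime.exists_complement_of_le_normalizer F M hFM
      (fun g _ => hnormF g) hcopM
  have hBcop : (Nat.card B).Coprime r := by
    rw [hBcard]
    have hdvd : F.relIndex M ∣ F.relIndex N :=
      ⟨M.relIndex N, (Subgroup.relIndex_mul_relIndex F M N hFM hMN).symm⟩
    exact Nat.Coprime.coprime_dvd_left hdvd hcop
  have hBcent : B ≤ centralizer (F : Set G) :=
    le_centralizer_of_commutator_le_commutator F B hF (fun g _ => hnormF g) hBcop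
      ((Subgroup.commutator_mono le_rfl hBM).trans hFMF')
  have hBbot : B = ⊥ := by
    rw [eq_bot_iff, ← hFB]
    exact le_inf (hBcent.trans hcent) le_rfl
  have hMF : M = F := by rw [← hFBsup, hBbot, sup_bot_eq]
  exact le_sup_left.trans hMF.le

/-- **Dualization.** If every `R`-invariant linear character of `F ⊴ G` is `N`-invariant, then
`[F, N] ≤ [F, R] F'`. -/
theorem commutator_le_of_lin_invariant [Finite G] (F N R : Subgroup G) [hFn : F.Normal]
    (hinv : ∀ φ : ↥F →* ℂˣ,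
      (∀ x ∈ R, ∀ f : ↥F, φ ⟨x * f * x⁻¹, hFn.conj_mem f f.2 x⟩ = φ f) →
      ∀ n ∈ N, ∀ f : ↥F, φ ⟨n * f * n⁻¹, hFn.conj_mem f f.2 n⟩ = φ f) :
    ⁅F, N⁆ ≤ ⁅F, R⁆ ⊔ ⁅F, F⁆ := by
  classical
  set L : Subgroup G := ⁅F, R⁆ ⊔ ⁅F, F⁆ with hL
  rw [Subgroup.commutator_le]
  intro f hf n hn
  by_contra hg
  have hgF : ⁅f, n⁆ ∈ F := by
    have h1 : n * f⁻¹ * n⁻¹ ∈ F := hFn.conj_mem _ (F.inv_mem hf) n
    have h2 : ⁅f, n⁆ = f * (n * f⁻¹ * n⁻¹) := by rw [commutatorElement_def]; group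
    rw [h2]; exact F.mul_mem hf h1
  let Lb : Subgroup (Abelianization ↥F) := (L.subgroupOf F).map Abelianization.of
  let q : ↥F →* (Abelianization ↥F) ⧸ Lb := (QuotientGroup.mk' Lb).comp Abelianization.of
  have hq1 : ∀ y : ↥F, (y : G) ∈ L → q y = 1 := by
    intro y hy
    show (QuotientGroup.mk' Lb) (Abelianization.of y) = 1
    rw [QuotientGroup.mk'_apply, QuotientGroup.eq_one_iff]
    exact Subgroup.mem_map_of_mem _ (Subgroup.mem_subgroupOf.mpr hy)
  have hq2 : ∀ y : ↥F, q y = 1 → (y : G) ∈ L := by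
    intro y hy
    have hy' : Abelianization.of y ∈ Lb := by
      have : (QuotientGroup.mk' Lb) (Abelianization.of y) = 1 := hy
      rwa [QuotientGroup.mk'_apply, QuotientGroup.eq_one_iff] at this
    obtain ⟨l, hl, hly⟩ := hy'
    have h1 : Abelianization.of (l⁻¹ * y) = 1 := by
      rw [map_mul, map_inv, hly]; group
    have h2 : l⁻¹ * y ∈ commutator ↥F := by
      rw [← Abelianization.ker_of, MonoidHom.mem_ker]; exact h1
    have h3 : ((l⁻¹ * y : ↥F) : G) ∈ ⁅F, F⁆ := by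
      rw [← F.map_subtype_commutator]
      exact ⟨_, h2, rfl⟩
    have h4 : (y : G) = (l : G) * ((l⁻¹ * y : ↥F) : G) := by
      simp
    rw [h4]
    exact L.mul_mem (Subgroup.mem_subgroupOf.mp hl) (Subgroup.mem_sup_right h3)
  have hne : q ⟨⁅f, n⁆, hgF⟩ ≠ 1 := fun h => hg (hq2 _ h)
  haveI : NeZero ((Monoid.exponent ((Abelianization ↥F) ⧸ Lb) : ℕ) : ℂ) :=
    ⟨Nat.cast_ne_zero.mpr Monoid.exponent_ne_zero_of_finite⟩
  obtain ⟨ψ, hψ⟩ :=
    CommGroup.exists_apply_ne_one_of_hasEnoughRootsOfUnity ((Abelianization ↥F) ⧸ Lb) ℂ hne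
  set φ : ↥F →* ℂˣ := ψ.comp q with hφ
  have hφL : ∀ y : ↥F, (y : G) ∈ L → φ y = 1 := by
    intro y hy
    rw [hφ, MonoidHom.comp_apply, hq1 y hy, map_one]
  have hRinv : ∀ x ∈ R, ∀ f' : ↥F, φ ⟨x * f' * x⁻¹, hFn.conj_mem f' f'.2 x⟩ = φ f' := by
    intro x hx f'
    have hmem : (f' : G)⁻¹ * (x * f' * x⁻¹) ∈ F :=
      F.mul_mem (F.inv_mem f'.2) (hFn.conj_mem f' f'.2 x)
    have h1 : (⟨x * f' * x⁻¹, hFn.conj_mem f' f'.2 x⟩ : ↥F)
        = f' * ⟨(f' : G)⁻¹ * (x * f' * x⁻¹), hmem⟩ := by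
      apply Subtype.ext
      simp
    have h2 : (f' : G)⁻¹ * (x * f' * x⁻¹) ∈ L := by
      have : (f' : G)⁻¹ * (x * f' * x⁻¹) = ⁅(f' : G)⁻¹, x⁆ := by
        rw [commutatorElement_def]; group
      rw [this]
      exact Subgroup.mem_sup_left (Subgroup.commutator_mem_commutator (F.inv_mem f'.2) hx)
    rw [h1, map_mul, hφL ⟨_, hmem⟩ h2, mul_one]
  have hNinv := hinv φ hRinv n hn
  apply hψ
  have h5 : (⟨⁅f, n⁆, hgF⟩ : ↥F)
      = ⟨f, hf⟩ * ⟨n * (⟨f, hf⟩⁻¹ : ↥F) * n⁻¹, hFn.conj_mem _ (⟨f, hf⟩⁻¹ : ↥F).2 n⟩ := by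
    apply Subtype.ext
    simp only [Subgroup.coe_mul, Subgroup.coe_inv, commutatorElement_def]
    group
  have h6 : φ ⟨⁅f, n⁆, hgF⟩ = 1 := by
    rw [h5, map_mul, hNinv, map_inv, mul_inv_cancel]
  exact h6

/-- **Final form.**  `F ⊴ G` an `r`-group with `C_G(F) ≤ F`, `N ⊴ G`, `F ≤ N`, `|N : F|` prime to
`r`, `R ≥ F` an `r`-subgroup.  If every `R`-invariant linear character of `F` is `N`-invariant,
then `[N, R] ≤ F`. -/
theorem commutator_le_of_lin_invariant_main [Finite G] {r : ℕ} [hr : Fact r.Prime]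
    (F N R : Subgroup G) [hFn : F.Normal] [hNn : N.Normal]
    (hF : IsPGroup r F) (hR : IsPGroup r R) (hFN : F ≤ N) (hFR : F ≤ R)
    (hcent : centralizer (F : Set G) ≤ F)
    (hcop : (F.relIndex N).Coprime r)
    (hinv : ∀ φ : ↥F →* ℂˣ,
      (∀ x ∈ R, ∀ f : ↥F, φ ⟨x * f * x⁻¹, hFn.conj_mem f f.2 x⟩ = φ f) →
      ∀ n ∈ N, ∀ f : ↥F, φ ⟨n * f * n⁻¹, hFn.conj_mem f f.2 n⟩ = φ f) :
    ⁅N, R⁆ ≤ F :=
  module_argument F N R hF hR hFN hFR hcent hcop (commutator_le_of_lin_invariant F N R hinv)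

end Cfsg.Agent.Lib.Helper48_ThreeDegM
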