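import Mathlib
import Cfsg.Prelude.Def_Characters
import Cfsg.Prelude.Def_Solvable
import Cfsg.Agent.Lib.Helper48_ThreeDegDefs
import Cfsg.Agent.Lib.Helper48_ThreeDegM
import Cfsg.Agent.Lib.Helper55_Fitting
import Cfsg.Agent.Lib.Helper1_Cores

/-!
# S4460 (Isaacs 12.15), case F, `r ≠ p`: packages PK-F2b1 and PK-F2b4 (helper48)
-/

set_option autoImplicit false
set_option linter.unusedSectionVars false

namespace Cfsg.Agent.Lib.Helper48_S4460_F2b

open Cfsg Cfsg.Agent.Lib.Helper48_ThreeDegDefs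

universe u

variable {G : Type u} [Group G] [Finite G]

/-- PK-F2b1. `r ≠ p`, `F = F(G)` an `r`-group: `F ≤ K`. -/
theorem caseF_fitting_le (K N : Subgroup G) [K.Normal] [N.Normal] (p : ℕ)
    (hF : FrobData K N p) (r : ℕ) (hr : r.Prime) (hrp : r ≠ p)
    (hFr : IsPGroup r (fittingSubgroup G)) : fittingSubgroup G ≤ K := by
  classical
  have hFn : (fittingSubgroup G).Normal := Cfsg.Agent.Lib.Helper1_Cores.fittingSubgroup_normal
  set F := fittingSubgroup G with hFdef
  have hsupn : (K ⊔ F).Normal := inferInstance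
  rcases hF.umn (K ⊔ F) hsupn le_sup_left with h | h
  · rw [← h]
    exact le_sup_right
  · exfalso
    obtain ⟨a, ha⟩ := hF.hpow
    have ha0 : a ≠ 0 := by
      rintro rfl
      rw [pow_zero, Subgroup.relIndex_eq_one] at ha
      exact hF.hne (le_antisymm hF.hKN ha)
    -- `[N:K]` divides `[K ⊔ F : K]`, which divides `|F|`
    have h1 : K.relIndex N ∣ K.relIndex (K ⊔ F) :=
      Dvd.intro _ (Subgroup.relIndex_mul_relIndex K N (K ⊔ F) hF.hKN h)
    have h2 : K.relIndex (K ⊔ F) ∣ Nat.card F :=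
      Cfsg.Agent.Lib.Helper48_ThreeDegM.relIndex_sup_dvd_card K F
    have : Fact r.Prime := ⟨hr⟩
    obtain ⟨m, hm⟩ := IsPGroup.iff_card.mp hFr
    have h3 : p ∣ r ^ m := by
      rw [← hm]
      refine dvd_trans ?_ (dvd_trans h1 h2)
      rw [ha]
      exact dvd_pow_self p ha0
    have h4 : p ∣ r := hF.hp.dvd_of_dvd_pow h3
    exact hrp ((Nat.prime_dvd_prime_iff_eq hF.hp hr).mp h4).symm

/-- PK-F2b4. `[F,N] ≰ F'`: otherwise a complement of `F` in `N` centralizes `F`. -/
theorem caseF_not_le [Group.IsSolvable G] (N : Subgroup G) [N.Normal] (r : ℕ) (hr : r.Prime)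
    (hFr : IsPGroup r (fittingSubgroup G)) (hFN : fittingSubgroup G ≤ N)
    (hne : fittingSubgroup G ≠ N)
    (hcop : ((fittingSubgroup G).relIndex N).Coprime r) :
    ¬ ⁅fittingSubgroup G, N⁆ ≤ ⁅fittingSubgroup G, fittingSubgroup G⁆ := by
  classical
  intro hle
  have hFn : (fittingSubgroup G).Normal := Cfsg.Agent.Lib.Helper1_Cores.fittingSubgroup_normal
  set F := fittingSubgroup G with hFdef
  have : Fact r.Prime := ⟨hr⟩
  have hF'n : (F.subgroupOf N).Normal := inferInstance
  have hF'p : IsPGroup r (F.subgroupOf N) :=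
    hFr.comap_of_injective (N.subtype) (Subgroup.subtype_injective N)
  obtain ⟨m, hm⟩ := IsPGroup.iff_card.mp hF'p
  have hcop' : (Nat.card (F.subgroupOf N)).Coprime (F.subgroupOf N).index := by
    rw [hm]
    exact (Nat.Coprime.pow_right m hcop).symm
  obtain ⟨H, hH⟩ := Subgroup.exists_right_complement'_of_coprime hcop'
  set B : Subgroup G := H.map N.subtype with hB
  have hBN : B ≤ N := by
    rintro _ ⟨x, -, rfl⟩
    exact x.2
  have hcardB : Nat.card B = (F.subgroupOf N).index := by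
    rw [hB, Subgroup.card_map_of_injective (Subgroup.subtype_injective N)]
    exact hH.symm.index_eq_card.symm
  have hBcop : (Nat.card B).Coprime r := by
    rw [hcardB]
    exact hcop
  have hBnorm : B ≤ Subgroup.normalizer (F : Set G) := by
    rw [Subgroup.normalizer_eq_top]
    exact le_top
  have hFB : ⁅F, B⁆ ≤ ⁅F, F⁆ := le_trans (Subgroup.commutator_mono le_rfl hBN) hle
  have hBC : B ≤ Subgroup.centralizer (F : Set G) :=
    Cfsg.Agent.Lib.Helper48_ThreeDegM.le_centralizer_of_commutator_le_commutator F B hFr hBnorm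
      hBcop hFB
  have hBF : B ≤ F :=
    le_trans hBC Cfsg.Agent.Lib.Helper55_Fitting.centralizer_fittingSubgroup_le
  have hHle : H ≤ F.subgroupOf N := by
    intro x hx
    rw [Subgroup.mem_subgroupOf]
    exact hBF ⟨x, hx, rfl⟩
  have hHbot : H = ⊥ := by
    have hdisj := hH.disjoint
    rw [disjoint_iff] at hdisj
    rw [eq_bot_iff, ← hdisj]
    exact le_inf hHle le_rfl
  have htop : F.subgroupOf N = ⊤ := by
    have := hH.sup_eq_top
    rwa [hHbot, sup_bot_eq] at this
  rw [Subgroup.subgroupOf_eq_top] at htop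
  exact hne (le_antisymm hFN htop)

end Cfsg.Agent.Lib.Helper48_S4460_F2b
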