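import Mathlib
import Cfsg.Agent.Lib.Helper1_Isaacs123
import Cfsg.Agent.Lib.Helper1_FPF

/-!
# S4460 (Isaacs 12.15): Isaacs 12.3 transported to `G` (hedge copy of package PQ, helper48)
-/

set_option autoImplicit false
set_option linter.unusedSectionVars false

namespace Cfsg.Agent.Lib.Helper48_S4460_PQ

open scoped commutatorElement

universe u

/-- PQ = Isaacs 12.3 transported to `G` (pure group theory) -/
theorem PQ {G : Type u} [Group G] [Finite G] (K : Subgroup G) [K.Normal]
    (hsolv : Group.IsSolvable (G ⧸ K)) (hne : commutator (G ⧸ K) ≠ ⊥)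
    (hmin : ∀ N : Subgroup (G ⧸ K), N.Normal → N ≠ ⊥ → commutator (G ⧸ K) ≤ N) :
    ∃ N : Subgroup G, ∃ _ : N.Normal, K ≤ N ∧ K ≠ N ∧ ¬ commutator G ≤ K ∧
      (∀ a b : G, a * b * a⁻¹ * b⁻¹ ∈ N) ∧
      (∀ x ∈ N, ∀ y ∈ N, x * y * x⁻¹ * y⁻¹ ∈ K) ∧
      (∀ Y : Subgroup G, Y.Normal → K ≤ Y → Y = K ∨ N ≤ Y) ∧
      ∃ p a : ℕ, p.Prime ∧ K.relIndex N = p ^ a ∧
        ((∃ b : ℕ, K.index = p ^ b) ∨
          ((K.relIndex N).Coprime N.index ∧
            (∀ g : G, g ∉ N → ∀ x ∈ N, x⁻¹ * (g⁻¹ * x * g) ∈ K → x ∈ K) ∧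
            IsCyclic (G ⧸ N))) := by
  classical
  set π : G →* G ⧸ K := QuotientGroup.mk' K with hπ
  have hsurj : Function.Surjective π := QuotientGroup.mk'_surjective K
  have hker : π.ker = K := QuotientGroup.ker_mk' K
  set D : Subgroup (G ⧸ K) := commutator (G ⧸ K) with hD
  have hDn : D.Normal := inferInstance
  set N : Subgroup G := D.comap π with hN
  have hNn : N.Normal := hDn.comap π
  have hmapN : N.map π = D := Subgroup.map_comap_eq_self_of_surjective hsurj D
  have hKN : K ≤ N := by
    intro x hx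
    rw [hN, Subgroup.mem_comap]
    have : π x = 1 := by rw [← MonoidHom.mem_ker, hker]; exact hx
    rw [this]
    exact D.one_mem
  have hmemK : ∀ x : G, x ∈ K ↔ π x = 1 := by
    intro x
    rw [← MonoidHom.mem_ker, hker]
  have hKneN : K ≠ N := by
    intro h
    apply hne
    rw [eq_bot_iff]
    intro d hd
    obtain ⟨x, rfl⟩ := hsurj d
    have hx : x ∈ N := hd
    rw [← h, hmemK] at hx
    rw [Subgroup.mem_bot]
    exact hx
  obtain ⟨p, hp, hDp, -, hDab, halt⟩ :=
    Cfsg.Agent.Lib.Helper1_Isaacs123.structure_of_unique_minimal hne hmin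
  have : Fact p.Prime := ⟨hp⟩
  have hrelcard : K.relIndex N = Nat.card D := by
    have h1 : ((⊥ : Subgroup (G ⧸ K)).comap π).relIndex N = Nat.card D := by
      rw [Subgroup.relIndex_comap, hmapN, Subgroup.relIndex_bot_left]
    have h2 : (⊥ : Subgroup (G ⧸ K)).comap π = K := by rw [MonoidHom.comap_bot, hker]
    rw [h2] at h1
    exact h1
  refine ⟨N, hNn, hKN, hKneN, ?_, ?_, ?_, ?_, ?_⟩
  · -- `G/K` is not abelian
    intro hle
    apply hne
    rw [eq_bot_iff, hD, _root_.commutator_def, Subgroup.commutator_le]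
    intro a _ b _
    obtain ⟨x, rfl⟩ := hsurj a
    obtain ⟨y, rfl⟩ := hsurj b
    rw [Subgroup.mem_bot, ← map_commutatorElement, ← hmemK]
    exact hle (Cfsg.Agent.Lib.Helper1_Isaacs123.comm_mem x y)
  · intro a b
    rw [hN, Subgroup.mem_comap]
    have h1 : π (a * b * a⁻¹ * b⁻¹) = ⁅π a, π b⁆ := by
      rw [commutatorElement_def, map_mul, map_mul, map_mul, map_inv, map_inv]
    rw [h1]
    exact Cfsg.Agent.Lib.Helper1_Isaacs123.comm_mem _ _
  · intro x hx y hy
    rw [hmemK, map_mul, map_mul, map_mul, map_inv, map_inv]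
    have hc := hDab (π x) hx (π y) hy
    rw [hc, mul_inv_cancel_right, mul_inv_cancel]
  · intro Y hYn hKY
    by_cases hYK : Y = K
    · exact Or.inl hYK
    · right
      have hYmapn : (Y.map π).Normal := hYn.map π hsurj
      have hYmap0 : Y.map π ≠ ⊥ := by
        intro h0
        apply hYK
        apply le_antisymm _ hKY
        intro y hy
        rw [hmemK]
        have : π y ∈ Y.map π := Subgroup.mem_map_of_mem π hy
        rw [h0, Subgroup.mem_bot] at this
        exact this
      have hDle := hmin (Y.map π) hYmapn hYmap0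
      intro x hx
      have hx' : π x ∈ Y.map π := hDle hx
      obtain ⟨y, hy, hxy⟩ := hx'
      have hk : y⁻¹ * x ∈ K := by
        rw [hmemK, map_mul, map_inv, hxy, inv_mul_cancel]
      have : x = y * (y⁻¹ * x) := by group
      rw [this]
      exact Y.mul_mem hy (hKY hk)
  · obtain ⟨a, ha⟩ := IsPGroup.iff_card.mp hDp
    refine ⟨p, a, hp, by rw [hrelcard, ha], ?_⟩
    rcases halt with ⟨hQp, -, -, -⟩ | ⟨hfrob, hcop, H, hH, hHab⟩
    · left
      obtain ⟨b, hb⟩ := IsPGroup.iff_card.mp hQp
      exact ⟨b, by rw [Subgroup.index_eq_card, hb]⟩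
    · right
      refine ⟨?_, ?_, ?_⟩
      · rw [hrelcard, hN, Subgroup.index_comap_of_surjective D hsurj]
        exact hcop
      · intro g hg x hx hxg
        rw [hmemK]
        by_contra hx1
        apply hg
        show π g ∈ D
        apply hfrob (π x) hx hx1 (π g)
        rw [hmemK, map_mul, map_mul, map_mul, map_inv, map_inv] at hxg
        have h2 : (π g)⁻¹ * π x * π g = π x := by
          have := congrArg (fun t => π x * t) hxg
          simpa [mul_assoc] using this
        calc π g * π x = π g * ((π g)⁻¹ * π x * π g) := by rw [h2]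
          _ = π x * π g := by group
      · -- `H` is cyclic
        have hHcomm : IsMulCommutative H :=
          ⟨⟨fun a b => Subtype.ext (hHab a a.2 b b.2)⟩⟩
        have hHcyc : IsCyclic H := by
          apply Cfsg.Agent.Lib.Helper1_FPF.isCyclic_of_fpf_of_comm H D hne
          · rw [Subgroup.normalizer_eq_top]
            exact le_top
          · intro a haH ha1
            rw [eq_bot_iff]
            intro k hk
            rw [Subgroup.mem_bot]
            by_contra hk1
            have hkD : k ∈ D := hk.1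
            have hkc : k ∈ Subgroup.centralizer ({a} : Set (G ⧸ K)) := hk.2
            rw [Subgroup.mem_centralizer_iff] at hkc
            have hcomm : a * k = k * a := hkc a (Set.mem_singleton a)
            have haD : a ∈ D := hfrob k hkD hk1 a hcomm
            have hdisj := hH.disjoint
            rw [disjoint_iff] at hdisj
            have : a ∈ D ⊓ H := ⟨haD, haH⟩
            rw [hdisj, Subgroup.mem_bot] at this
            exact ha1 this
        -- the map `H → G ⧸ N`
        have hKN' : K ≤ N.comap (MonoidHom.id G) := hKN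
        set φ : G ⧸ K →* G ⧸ N := QuotientGroup.map K N (MonoidHom.id G) hKN' with hφ
        have hφπ : ∀ x : G, φ (π x) = QuotientGroup.mk' N x := fun x => rfl
        have hφD : ∀ d ∈ D, φ d = 1 := by
          intro d hd
          obtain ⟨x, rfl⟩ := hsurj d
          rw [hφπ, QuotientGroup.mk'_apply, QuotientGroup.eq_one_iff]
          exact hd
        have hsurjH : Function.Surjective (φ.comp H.subtype) := by
          intro q
          obtain ⟨x, rfl⟩ := QuotientGroup.mk'_surjective N q
          obtain ⟨⟨⟨d, hd⟩, ⟨h, hh⟩⟩, hdh, -⟩ := hH.existsUnique (π x)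
          simp only at hdh
          refine ⟨⟨h, hh⟩, ?_⟩
          show φ h = _
          rw [← hφπ, ← hdh, map_mul, hφD d hd, one_mul]
        exact isCyclic_of_surjective _ hsurjH

end Cfsg.Agent.Lib.Helper48_S4460_PQ
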