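import Mathlib
import Cfsg.Prelude.Def_Characters
import Cfsg.Agent.Lib.Helper74_DegPChar
import Cfsg.Agent.Lib.Helper74_TwoDegS
import Cfsg.Agent.Lib.Helper77_QuotRank
import Cfsg.Agent.Lib.Helper59_CliffordDeg
import Cfsg.Agent.Lib.Helper75_CoprimeDeg
import Cfsg.Agent.Lib.Helper75_CharProd
import Cfsg.Agent.Lib.Helper75_CharArith
import Cfsg.Agent.Lib.Helper80_CharBasic
import Cfsg.Agent.Lib.Helper80_CharComplete
import Cfsg.Agent.Lib.Helper80_RelM
import Cfsg.Agent.S4835

/-!
# S4460 package PB (helper79): Lemma B inside `G`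

`K ≤ N` normal in `G`, `G/K` a nonabelian `p`-group in which `N/K` lies in every nontrivial normal
subgroup and contains all commutators.  Then there is `χ₀ ∈ Irr(G)` with `K ≤ ker χ₀`, of degree
`p ^ c`, `c > 0`, such that `χ₀ ψ` is irreducible for every `ψ ∈ Irr(G)` of degree prime to `p`.
-/

set_option autoImplicit false

namespace Cfsg.Agent.Lib.Helper79_Isaacs1215_PB

open Cfsg
open scoped ComplexConjugate commutatorElement

universe u

/-- a nonlinear irreducible character of a finite noncommutative group -/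
theorem exists_nonlinear_of_not_comm {Q : Type u} [Group Q] [Finite Q]
    (h : ∃ a b : Q, a * b ≠ b * a) : ∃ χ : IrrCharacter Q, (χ : Q → ℂ) 1 ≠ 1 := by
  by_contra hcon
  push Not at hcon
  obtain ⟨a, b, hab⟩ := h
  exact hab (Cfsg.Agent.Lib.Helper59_CliffordDeg.commute_of_all_linear hcon a b)

/-- the core statement in a finite `p`-group `Q` with a "socle-like" normal subgroup `M`:
`M` lies in every nontrivial normal subgroup and contains all commutators; `Q` is not
commutative.  Then some irreducible character of `Q` is faithful, of degree `p ^ c`, `c > 0`,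
vanishes off the centre, and `|Z(Q)| * (p ^ c) ^ 2 = |Q|`. -/
theorem exists_fully_ramified {Q : Type u} [Group Q] [Finite Q] (p b : ℕ) (hp : p.Prime)
    (hcard : Nat.card Q = p ^ b) (M : Subgroup Q)
    (hmin : ∀ Y : Subgroup Q, Y.Normal → Y ≠ ⊥ → M ≤ Y)
    (hcomm : ∀ a b : Q, a * b * a⁻¹ * b⁻¹ ∈ M)
    (hnab : ∃ a b : Q, a * b ≠ b * a) :
    ∃ χ : IrrCharacter Q, (∃ c : ℕ, 0 < c ∧ (χ : Q → ℂ) 1 = ((p ^ c : ℕ) : ℂ) ∧
      Nat.card (Subgroup.center Q) * (p ^ c) ^ 2 = Nat.card Q) ∧
      (∀ g : Q, g ∉ Subgroup.center Q → (χ : Q → ℂ) g = 0) := by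
  have hFin : Fintype Q := Fintype.ofFinite Q
  have hFact : Fact p.Prime := ⟨hp⟩
  obtain ⟨χ, hχ1⟩ := exists_nonlinear_of_not_comm hnab
  obtain ⟨d, hdpos, hd⟩ := Cfsg.Agent.Lib.Helper80_CharBasic.irr_apply_one χ
  have hddvd : d ∣ p ^ b := by
    rw [← hcard]
    exact Cfsg.Agent.Lib.Helper74_TwoDegS.degree_dvd_card χ d hd
  obtain ⟨c, -, hdc⟩ := (Nat.dvd_prime_pow hp).mp hddvd
  have hcpos : 0 < c := by
    rcases Nat.eq_zero_or_pos c with h | h
    · exfalso
      apply hχ1
      rw [hd, hdc, h]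
      simp
    · exact h
  -- faithful
  have hfaith : ∀ g : Q, (χ : Q → ℂ) g = (χ : Q → ℂ) 1 → g = 1 := by
    intro g hg
    by_contra hg1
    have hne : Cfsg.Agent.S4835.irrKer χ ≠ ⊥ := by
      intro hbot
      have : g ∈ Cfsg.Agent.S4835.irrKer χ := (Cfsg.Agent.S4835.mem_irrKer χ g).mpr hg
      rw [hbot, Subgroup.mem_bot] at this
      exact hg1 this
    have hM := hmin _ (Cfsg.Agent.S4835.irrKer_normal χ) hne
    apply hχ1
    apply Cfsg.Agent.Lib.Helper80_RelM.linear_of_commutator χ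
    intro a b
    have h1 : ⁅a, b⁆ ∈ Cfsg.Agent.S4835.irrKer χ := by
      rw [commutatorElement_def]
      exact hM (hcomm a b)
    exact (Cfsg.Agent.S4835.mem_irrKer χ _).mp h1
  -- the centre is nontrivial, so contains `M`
  have hQnontriv : Nontrivial Q := by
    obtain ⟨a, b, hab⟩ := hnab
    refine ⟨a * b, b * a, hab⟩
  have hpQ : IsPGroup p Q := IsPGroup.of_card hcard
  have hZne : Subgroup.center Q ≠ ⊥ := by
    have := hpQ.center_nontrivial
    intro hbot
    rw [hbot] at this
    exact not_nontrivial _ this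
  have hMZ : M ≤ Subgroup.center Q := hmin _ inferInstance hZne
  -- vanishing off the centre
  have hvan : ∀ g : Q, g ∉ Subgroup.center Q → (χ : Q → ℂ) g = 0 := by
    intro z hz
    have hex : ∃ g : Q, g * z ≠ z * g := by
      by_contra hcon
      push Not at hcon
      exact hz (Subgroup.mem_center_iff.mpr hcon)
    obtain ⟨g, hg⟩ := hex
    set cc : Q := g⁻¹ * z * g * z⁻¹ with hcc
    have hccM : cc ∈ M := by
      have := hcomm g⁻¹ z
      rwa [inv_inv] at this
    have hcc1 : cc ≠ 1 := by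
      intro h1
      apply hg
      have h2 : g⁻¹ * z * g = z := by
        have : g⁻¹ * z * g = cc * z := by rw [hcc]; group
        rw [this, h1, one_mul]
      calc g * z = g * (g⁻¹ * z * g) := by rw [h2]
        _ = z * g := by group
    refine Cfsg.Agent.Lib.Helper74_DegPChar.vanish_of_conj χ (g := g) (c := cc) (hMZ hccM)
      (by rw [hcc]; group) ?_
    intro h
    exact hcc1 (hfaith cc h)
  refine ⟨χ, ⟨c, hcpos, ?_, ?_⟩, hvan⟩
  · rw [hd, hdc]
  · exact Cfsg.Agent.Lib.Helper74_DegPChar.card_mul_sq_eq χ (Subgroup.center Q) le_rfl (p ^ c)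
      (by rw [hd, hdc]) hvan

/-- PB = LEMMA B (inside `G`) -/
theorem PB {G : Type u} [Group G] [Finite G] (K N : Subgroup G) [K.Normal] [N.Normal]
    (hKN : K ≤ N) (hne : K ≠ N) (hnab : ¬ commutator G ≤ K)
    (hcomm : ∀ a b : G, a * b * a⁻¹ * b⁻¹ ∈ N)
    (humn : ∀ Y : Subgroup G, Y.Normal → K ≤ Y → Y = K ∨ N ≤ Y)
    (p b : ℕ) (hp : p.Prime) (hidx : K.index = p ^ b) :
    ∃ χ₀ : IrrCharacter G, (∀ k ∈ K, (χ₀ : G → ℂ) k = (χ₀ : G → ℂ) 1) ∧
      (∃ c : ℕ, 0 < c ∧ (χ₀ : G → ℂ) 1 = (p : ℂ) ^ c) ∧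
      ∀ (ψ : IrrCharacter G) (d : ℕ), (ψ : G → ℂ) 1 = d → ¬ p ∣ d →
        IsIrrCharacter G (fun x => (χ₀ : G → ℂ) x * (ψ : G → ℂ) x) := by
  classical
  have hFin : Fintype G := Fintype.ofFinite G
  have hFact : Fact p.Prime := ⟨hp⟩
  -- the quotient
  have hcardQ : Nat.card (G ⧸ K) = p ^ b := by rw [← hidx]; rfl
  have hsurj : Function.Surjective (QuotientGroup.mk' K) := QuotientGroup.mk'_surjective K
  obtain ⟨χb, ⟨c, hcpos, hχb1, hcardZ⟩, hvan⟩ :=
    exists_fully_ramified (Q := G ⧸ K) p b hp hcardQ (N.map (QuotientGroup.mk' K))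
      (by
        intro Y hYn hYne
        have hYc : (Y.comap (QuotientGroup.mk' K)).Normal := inferInstance
        have hKY : K ≤ Y.comap (QuotientGroup.mk' K) := by
          intro k hk
          rw [Subgroup.mem_comap]
          have : (QuotientGroup.mk' K) k = 1 := (QuotientGroup.eq_one_iff k).mpr hk
          rw [this]
          exact Y.one_mem
        rcases humn _ hYc hKY with h | h
        · exfalso
          apply hYne
          rw [eq_bot_iff]
          intro y hy
          obtain ⟨x, rfl⟩ := hsurj y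
          have hx : x ∈ Y.comap (QuotientGroup.mk' K) := hy
          rw [h] at hx
          rw [Subgroup.mem_bot]
          exact (QuotientGroup.eq_one_iff x).mpr hx
        · rw [Subgroup.map_le_iff_le_comap]
          exact h)
      (by
        intro a b
        obtain ⟨x, rfl⟩ := hsurj a
        obtain ⟨y, rfl⟩ := hsurj b
        refine ⟨x * y * x⁻¹ * y⁻¹, hcomm x y, ?_⟩
        simp)
      (by
        by_contra hcon
        push Not at hcon
        apply hnab
        rw [_root_.commutator_def, Subgroup.commutator_le]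
        intro x _ y _
        have h1 := hcon ((QuotientGroup.mk' K) x) ((QuotientGroup.mk' K) y)
        have h2 : (QuotientGroup.mk' K) ⁅x, y⁆ = 1 := by
          rw [map_commutatorElement, commutatorElement_eq_one_iff_mul_comm]
          exact h1
        exact (QuotientGroup.eq_one_iff _).mp h2)
  -- the inflation
  set χ₀ : IrrCharacter G :=
    ⟨(χb : G ⧸ K → ℂ) ∘ QuotientGroup.mk,
      Cfsg.Agent.Lib.Helper77_QuotRank.isIrrCharacter_comp_mk (Q := K) χb⟩ with hχ₀
  have hχ₀app : ∀ x : G, (χ₀ : G → ℂ) x = (χb : G ⧸ K → ℂ) (x : G ⧸ K) := fun x => rfl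
  refine ⟨χ₀, ?_, ⟨c, hcpos, ?_⟩, ?_⟩
  · intro k hk
    rw [hχ₀app, hχ₀app]
    have h1 : ((k : G) : G ⧸ K) = ((1 : G) : G ⧸ K) :=
      (QuotientGroup.eq_one_iff k).mpr hk
    rw [h1]
  · rw [hχ₀app]
    have : ((1 : G) : G ⧸ K) = 1 := rfl
    rw [this, hχb1]
    push_cast
    rfl
  · intro ψ d hd hpd
    -- the preimage of the centre
    set Z : Subgroup (G ⧸ K) := Subgroup.center (G ⧸ K) with hZ
    set Zt : Subgroup G := Z.comap (QuotientGroup.mk' K) with hZt
    have hZtn : Zt.Normal := inferInstance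
    have hZtidx : Zt.index = Z.index := Subgroup.index_comap_of_surjective Z hsurj
    have hZcard : Nat.card Z * Z.index = p ^ b := by
      rw [Subgroup.card_mul_index, hcardQ]
    have hZidx : Z.index = (p ^ c) ^ 2 := by
      have h1 : Nat.card Z * Z.index = Nat.card Z * (p ^ c) ^ 2 := by
        rw [hZcard, hcardZ, hcardQ]
      exact Nat.eq_of_mul_eq_mul_left Nat.card_pos h1
    have hcop : d.Coprime Zt.index := by
      rw [hZtidx, hZidx]
      apply Nat.Coprime.pow_right
      apply Nat.Coprime.pow_right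
      exact ((Nat.Prime.coprime_iff_not_dvd hp).mpr hpd).symm
    have hsolv : Group.IsSolvable (G ⧸ Zt) := by
      have hpq : IsPGroup p (G ⧸ Zt) := by
        apply IsPGroup.of_card (n := 2 * c)
        have : Nat.card (G ⧸ Zt) = Zt.index := rfl
        rw [this, hZtidx, hZidx, ← pow_mul, mul_comm]
      have := hpq.isNilpotent
      infer_instance
    have hres : IsIrrCharacter Zt (fun n : Zt => (ψ : G → ℂ) n) :=
      Cfsg.Agent.Lib.Helper75_CoprimeDeg.irr_restrict_of_coprime Zt.index Zt rfl hsolv ψ d hd hcop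
    have hFinZt : Fintype Zt := Fintype.ofFinite Zt
    have hnorm := Cfsg.Agent.Lib.Helper80_CharComplete.irr_norm_conj
      (⟨_, hres⟩ : IrrCharacter Zt)
    -- the norm of the product
    have hchar : IsCharacter G ((χ₀ : G → ℂ) * (ψ : G → ℂ)) :=
      Cfsg.Agent.Lib.Helper75_CharProd.isCharacter_mul
        (Cfsg.Agent.Lib.Helper78_CentralChar.isIrrCharacter_isCharacter χ₀.2)
        (Cfsg.Agent.Lib.Helper78_CentralChar.isIrrCharacter_isCharacter ψ.2)
    have hirr : IsIrrCharacter G ((χ₀ : G → ℂ) * (ψ : G → ℂ)) := by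
      apply Cfsg.Agent.Lib.Helper75_CharArith.isIrrCharacter_of_classInner_self hchar
      unfold classInner
      -- pointwise values
      have hpt : ∀ g : G, ((χ₀ : G → ℂ) * (ψ : G → ℂ)) g * conj (((χ₀ : G → ℂ) * (ψ : G → ℂ)) g) =
          if g ∈ Zt then (((p ^ c) ^ 2 : ℕ) : ℂ) * ((ψ : G → ℂ) g * conj ((ψ : G → ℂ) g))
          else 0 := by
        intro g
        by_cases hg : g ∈ Zt
        · rw [if_pos hg]
          have hgZ : (g : G ⧸ K) ∈ Subgroup.center (G ⧸ K) := hg
          have h1 := Cfsg.Agent.Lib.Helper74_DegPChar.central_norm χb hgZ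
          have h2 : (χ₀ : G → ℂ) g * conj ((χ₀ : G → ℂ) g) = (((p ^ c) ^ 2 : ℕ) : ℂ) := by
            rw [hχ₀app, Complex.mul_conj, Complex.normSq_eq_norm_sq, h1, hχb1]
            push_cast
            rw [Complex.norm_pow, Complex.norm_natCast]
            push_cast
            ring
          rw [Pi.mul_apply, map_mul]
          calc (χ₀ : G → ℂ) g * (ψ : G → ℂ) g * (conj ((χ₀ : G → ℂ) g) * conj ((ψ : G → ℂ) g))
              = ((χ₀ : G → ℂ) g * conj ((χ₀ : G → ℂ) g)) *
                ((ψ : G → ℂ) g * conj ((ψ : G → ℂ) g)) := by ring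
            _ = _ := by rw [h2]
        · rw [if_neg hg]
          have hgZ : (g : G ⧸ K) ∉ Subgroup.center (G ⧸ K) := hg
          have h1 : (χ₀ : G → ℂ) g = 0 := by rw [hχ₀app]; exact hvan _ hgZ
          rw [Pi.mul_apply, h1]
          simp
      rw [Finset.sum_congr rfl (fun g _ => hpt g)]
      rw [← Finset.sum_filter]
      have hsum : ∑ g ∈ Finset.univ.filter (fun g : G => g ∈ Zt),
          (((p ^ c) ^ 2 : ℕ) : ℂ) * ((ψ : G → ℂ) g * conj ((ψ : G → ℂ) g)) =
          (((p ^ c) ^ 2 : ℕ) : ℂ) * (Nat.card Zt : ℂ) := by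
        rw [← Finset.mul_sum, ← hnorm]
        congr 1
        rw [← Finset.sum_subtype (Finset.univ.filter (fun g : G => g ∈ Zt))
          (fun x => by simp) (fun g => (ψ : G → ℂ) g * conj ((ψ : G → ℂ) g))]
      rw [hsum]
      have hG : (Nat.card G : ℂ) = (Nat.card Zt : ℂ) * (((p ^ c) ^ 2 : ℕ) : ℂ) := by
        rw [← Subgroup.card_mul_index Zt, hZtidx, hZidx]
        push_cast
        ring
      rw [hG]
      have h1 : (Nat.card Zt : ℂ) ≠ 0 := by
        have : 0 < Nat.card Zt := Nat.card_pos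
        exact_mod_cast this.ne'
      have h2 : (((p ^ c) ^ 2 : ℕ) : ℂ) ≠ 0 := by
        have : 0 < (p ^ c) ^ 2 := pow_pos (pow_pos hp.pos c) 2
        exact_mod_cast this.ne'
      field_simp
    exact hirr

end Cfsg.Agent.Lib.Helper79_Isaacs1215_PB
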