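import Mathlib
import Cfsg.Prelude.Def_Characters
import Cfsg.Prelude.Def_Solvable
import Cfsg.Agent.Lib.Helper48_ThreeDegDefs
import Cfsg.Agent.Lib.Helper48_S4460_PQ
import Cfsg.Agent.Lib.Helper79_Isaacs1215_PB
import Cfsg.Agent.Lib.Helper1_Isaacs123

/-!
# S4460 (Isaacs 12.15): PK-Q and PK-B as wrappers around PQ and helper79's PB (helper48)
-/

set_option autoImplicit false
set_option linter.unusedSectionVars false

namespace Cfsg.Agent.Lib.Helper48_S4460_Glue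

open Cfsg Cfsg.Agent.Lib.Helper48_ThreeDegDefs

universe u

variable {G : Type u} [Group G] [Finite G]

/-- PK-Q. Isaacs 12.3 in `G` (from `Helper48_S4460_PQ.PQ`). -/
theorem quot_structure [Group.IsSolvable G] (h : commutator G ≠ ⊥) :
    ∃ (K N : Subgroup G) (_ : K.Normal) (_ : N.Normal) (p : ℕ),
      QuotData K N p ∧ ((∃ b : ℕ, K.index = p ^ b) ∨ FrobData K N p) := by
  obtain ⟨K, hKn, hKne, hKmin⟩ :=
    Cfsg.Agent.Lib.Helper1_Isaacs123.exists_max_nonabelian_quotient h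
  have hsolvq : Group.IsSolvable (G ⧸ K) := inferInstance
  obtain ⟨N, hNn, hKN, hne, hnab, habq, hab, umn, p, a, hp, hrel, hcase⟩ :=
    Cfsg.Agent.Lib.Helper48_S4460_PQ.PQ K hsolvq hKne hKmin
  have hnonab : ∃ a b : G, a * b * a⁻¹ * b⁻¹ ∉ K := by
    by_contra hcon
    push Not at hcon
    apply hnab
    rw [_root_.commutator_def, Subgroup.commutator_le]
    intro x _ y _
    rw [commutatorElement_def]
    exact hcon x y
  have hQ : QuotData K N p := ⟨hKN, hne, habq, hab, umn, hp, ⟨a, hrel⟩, hnonab⟩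
  refine ⟨K, N, hKn, hNn, p, hQ, ?_⟩
  rcases hcase with hP | ⟨hcop, hfpf, hcyc⟩
  · exact Or.inl hP
  · exact Or.inr ⟨hQ, hcop, hfpf, hcyc⟩

/-- PK-B. Lemma B (from `Helper79_Isaacs1215_PB.PB`). -/
theorem lemmaB (K N : Subgroup G) [K.Normal] [N.Normal] (p : ℕ) (hQ : QuotData K N p)
    (hidx : ∃ b : ℕ, K.index = p ^ b) :
    ∃ χ₀ : IrrCharacter G, (∀ x ∈ K, (χ₀ : G → ℂ) x = (χ₀ : G → ℂ) 1) ∧
      (∃ c : ℕ, 0 < c ∧ (χ₀ : G → ℂ) 1 = ((p ^ c : ℕ) : ℂ)) ∧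
      ∀ (ψ : IrrCharacter G) (d : ℕ), (ψ : G → ℂ) 1 = (d : ℂ) → ¬ p ∣ d →
        IsIrrCharacter G (fun x => (χ₀ : G → ℂ) x * (ψ : G → ℂ) x) := by
  obtain ⟨b, hb⟩ := hidx
  have hnab : ¬ commutator G ≤ K := by
    intro hle
    obtain ⟨x, y, hxy⟩ := hQ.hnonab
    apply hxy
    apply hle
    have := Cfsg.Agent.Lib.Helper1_Isaacs123.comm_mem x y
    rwa [commutatorElement_def] at this
  obtain ⟨χ₀, hK, ⟨c, hc, h1⟩, hirr⟩ :=
    Cfsg.Agent.Lib.Helper79_Isaacs1215_PB.PB K N hQ.hKN hQ.hne hnab hQ.habq hQ.umn p b hQ.hp hb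
  refine ⟨χ₀, hK, ⟨c, hc, ?_⟩, hirr⟩
  rw [h1]
  push_cast
  rfl

end Cfsg.Agent.Lib.Helper48_S4460_Glue
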