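import Mathlib
import Cfsg.Prelude.Def_Characters
import Cfsg.Prelude.Def_Solvable
import Cfsg.Agent.Lib.Helper48_ThreeDegDefs
import Cfsg.Agent.Lib.Helper10_Isaacs1215_PA3
import Cfsg.Agent.Lib.Helper80_CharBasic

/-!
# S4460 (Isaacs 12.15), case P: package PK-P2 (helper48)
-/

set_option autoImplicit false
set_option linter.unusedSectionVars false

namespace Cfsg.Agent.Lib.Helper48_S4460_P

open Cfsg Cfsg.Agent.Lib.Helper48_ThreeDegDefs

universe u

variable {G : Type u} [Group G] [Finite G]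

/-- PK-P2. Degrees of a normal `p`-complement `M` when `f` is a power of `p`: `cd(M) ⊆ {1,h}`,
`h` the `p'`-part of `g`. -/
theorem pcompl_degrees (f g p c : ℕ) (hp : p.Prime) (hfp : f = p ^ c) (hcd : CD3 G f g)
    (M : Subgroup G) [M.Normal] (hM : (Nat.card M).Coprime p) (hMi : ∃ k : ℕ, M.index = p ^ k)
    (θ : IrrCharacter M) :
    (θ : M → ℂ) 1 = 1 ∨ (θ : M → ℂ) 1 = ((ordCompl[p] g : ℕ) : ℂ) := by
  obtain ⟨k, hk⟩ := hMi
  obtain ⟨d, hdpos, hd⟩ := Cfsg.Agent.Lib.Helper80_CharBasic.irr_apply_one θ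
  obtain ⟨hpd, χ, j, hχ⟩ := Cfsg.Agent.Lib.Helper10_Isaacs1215_PA3.PA3 p hp M hM k hk θ d hd
  rcases hcd χ with h | h | h
  · left
    rw [h] at hχ
    have h2 : 1 = d * p ^ j := by exact_mod_cast hχ
    have h3 : d = 1 := Nat.eq_one_of_mul_eq_one_right h2.symm
    rw [hd, h3]
    simp
  · left
    rw [h, hfp] at hχ
    have h2 : p ^ c = d * p ^ j := by exact_mod_cast hχ
    have h3 : d ∣ p ^ c := Dvd.intro _ h2.symm
    obtain ⟨i, -, hi⟩ := (Nat.dvd_prime_pow hp).mp h3
    have hi0 : i = 0 := by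
      by_contra hne
      exact hpd (hi ▸ dvd_pow_self p hne)
    rw [hd, hi, hi0]
    simp
  · right
    rw [h] at hχ
    have h2 : g = d * p ^ j := by exact_mod_cast hχ
    have h3 : g.factorization p = j := by
      rw [h2, Nat.factorization_mul (by omega) (pow_ne_zero _ hp.ne_zero)]
      simp [Nat.factorization_eq_zero_of_not_dvd hpd, hp.factorization_self]
    rw [hd, h3, h2, Nat.mul_div_cancel _ (pow_pos hp.pos _)]

end Cfsg.Agent.Lib.Helper48_S4460_P
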