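import Cfsg.Agent.S3869
import Cfsg.Agent.Lib.Helper1_MinNormal
import Cfsg.Agent.Lib.Helper24_CoprimeAction
import Cfsg.Agent.Lib.Helper32_Sylow
import Mathlib

set_option autoImplicit false
set_option linter.unusedSectionVars false

/-!
# A common frame for "minimal non-X" groups `G = N ⋊ P` (helper64)

`P` a Sylow `p`-subgroup, `N` a minimal normal subgroup with `P ⊓ N = ⊥`, `P ⊔ N = ⊤`, `P` not
normal.  Under three hypotheses (H1), (H2), (H3) the group has order `p * q ^ ord_p(q)` with `N`
elementary abelian.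
-/

namespace Cfsg.Agent.Lib.Helper64_MinNon

open Subgroup
open Cfsg.Agent.Lib.Helper24_CoprimeAction (sylowImage exists_invariant_sylow exists_mul_of_mem_sup)

variable {G : Type*} [Group G] [Finite G] {p : ℕ} [hp : Fact p.Prime] (P : Sylow p G)
  (N : Subgroup G) [hNn : N.Normal]
  (hPN : (P : Subgroup G) ⊓ N = ⊥) (hsup : (P : Subgroup G) ⊔ N = ⊤)

include hPN

theorem not_dvd_card : ¬ p ∣ Nat.card N := by
  have := Cfsg.Agent.Lib.Helper32_Sylow.not_dvd_relIndex_inf_normal P N
  rwa [hPN, relIndex_bot_left] at this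

theorem coprime_card : (Nat.card (P : Subgroup G)).Coprime (Nat.card N) := by
  obtain ⟨k, hk⟩ := IsPGroup.iff_card.mp P.2
  rw [hk]
  exact Nat.Coprime.pow_left k ((Nat.Prime.coprime_iff_not_dvd hp.out).mpr (not_dvd_card P N hPN))

include hsup

/-- (CL1) `N` is a `q`-group. -/
theorem exists_prime_isPGroup (hPn : ¬ (P : Subgroup G).Normal)
    (H1 : ∀ K : Subgroup G, (P : Subgroup G) ≤ K → K ≠ ⊤ →
      K ≤ normalizer ((P : Subgroup G) : Set G)) :
    ∃ q : ℕ, q.Prime ∧ q ≠ p ∧ IsPGroup q N := by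
  by_contra hcon
  push Not at hcon
  have hPNn : (P : Subgroup G) ≤ normalizer (N : Set G) := by
    rw [normalizer_eq_top]; exact le_top
  have hPsolv : Group.IsSolvable (P : Subgroup G) := by
    have : Group.IsNilpotent (P : Subgroup G) := P.2.isNilpotent
    infer_instance
  have hcardN : Nat.card N ≠ 0 := Nat.card_pos.ne'
  have hcardC : Nat.card (N ⊓ normalizer ((P : Subgroup G) : Set G) : Subgroup G) ≠ 0 :=
    Nat.card_pos.ne'
  have hdvd : Nat.card N ∣ Nat.card (N ⊓ normalizer ((P : Subgroup G) : Set G) : Subgroup G) := by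
    rw [← Nat.factorization_prime_le_iff_dvd hcardN hcardC]
    intro q hq
    by_cases hqN : q ∣ Nat.card N
    · have hqF : Fact q.Prime := ⟨hq⟩
      have hqp : q ≠ p := by
        intro h
        rw [h] at hqN
        exact not_dvd_card P N hPN hqN
      obtain ⟨Q, hQ⟩ := exists_invariant_sylow (P : Subgroup G) N hPNn (coprime_card P N hPN)
        (Or.inl hPsolv) q
      have hQN : sylowImage Q ≤ N := map_subtype_le _
      have hQcard : Nat.card (sylowImage Q) = q ^ (Nat.card N).factorization q := by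
        rw [card_map_of_injective N.subtype_injective]
        exact Q.card_eq_multiplicity
      rw [← Nat.Prime.pow_dvd_iff_le_factorization hq hcardC, ← hQcard]
      apply card_dvd_of_le
      refine le_inf hQN ?_
      by_cases hK : sylowImage Q ⊔ (P : Subgroup G) = ⊤
      · exfalso
        apply hcon q hq hqp
        have hNQ : N ≤ sylowImage Q := by
          intro n hn
          have hn' : n ∈ sylowImage Q ⊔ (P : Subgroup G) := by rw [hK]; trivial
          obtain ⟨u, hu, y, hy, huy⟩ := exists_mul_of_mem_sup (P : Subgroup G) (sylowImage Q) hQ hn'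
          have hyN : y ∈ N := by
            have : y = u⁻¹ * n := by rw [huy]; group
            rw [this]
            exact N.mul_mem (N.inv_mem (hQN hu)) hn
          have hy1 : y ∈ (P : Subgroup G) ⊓ N := ⟨hy, hyN⟩
          rw [hPN, mem_bot] at hy1
          rw [huy, hy1, mul_one]
          exact hu
        have hEq : sylowImage Q = N := le_antisymm hQN hNQ
        rw [← hEq]
        exact Q.2.map _
      · exact le_sup_left.trans (H1 _ le_sup_right hK)
    · have : (Nat.card N).factorization q = 0 := Nat.factorization_eq_zero_of_not_dvd hqN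
      rw [this]
      exact Nat.zero_le _
  have hEq : N ⊓ normalizer ((P : Subgroup G) : Set G) = N :=
    eq_of_le_of_card_ge inf_le_left (Nat.le_of_dvd Nat.card_pos hdvd)
  apply hPn
  rw [← normalizer_eq_top_iff, eq_top_iff, ← hsup]
  exact sup_le le_normalizer (by rw [← hEq]; exact inf_le_right)

/-- (CL2) all proper subgroups of `P` are trivial. -/
theorem eq_bot_of_lt
    (H2 : ∀ P₀ : Subgroup G, P₀ < (P : Subgroup G) → N ≤ normalizer (P₀ : Set G))
    (H3 : ∀ Z : Subgroup G, Z.Normal → Z ≤ (P : Subgroup G) → Z = ⊥)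
    (P₀ : Subgroup G) (hP₀ : P₀ < (P : Subgroup G)) : P₀ = ⊥ := by
  -- Z = C_P(N) is normal in G
  have hZn : ((P : Subgroup G) ⊓ centralizer (N : Set G)).Normal := by
    rw [← normalizer_eq_top_iff, eq_top_iff, ← hsup]
    apply sup_le
    · intro y hy
      apply Cfsg.Agent.S3869.mem_normalizer_of_conj_mem
      intro z hz
      refine ⟨(P : Subgroup G).mul_mem ((P : Subgroup G).mul_mem hy hz.1) ((P : Subgroup G).inv_mem hy), ?_⟩
      have hcn : (centralizer (N : Set G)).Normal := inferInstance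
      exact hcn.conj_mem z hz.2 y
    · intro n hn
      apply Cfsg.Agent.S3869.mem_normalizer_of_conj_mem
      intro z hz
      have h1 : n * z * n⁻¹ = z := by
        have := mem_centralizer_iff.mp hz.2 n hn
        rw [this]; group
      rw [h1]; exact hz
  have hZ := H3 _ hZn inf_le_left
  rw [eq_bot_iff, ← hZ]
  refine le_inf hP₀.le ?_
  intro y hy
  rw [mem_centralizer_iff]
  intro n hn
  have h1 : n * y * n⁻¹ * y⁻¹ ∈ (P : Subgroup G) ⊓ N := by
    constructor
    · apply hP₀.le
      exact P₀.mul_mem ((mem_normalizer_iff.mp (H2 P₀ hP₀ hn) y).mp hy) (P₀.inv_mem hy)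
    · have : n * y * n⁻¹ * y⁻¹ = n * (y * n⁻¹ * y⁻¹) := by group
      rw [this]
      exact N.mul_mem hn (hNn.conj_mem _ (N.inv_mem hn) y)
  rw [hPN, mem_bot] at h1
  calc n * y = (n * y * n⁻¹ * y⁻¹) * (y * n) := by group
    _ = y * n := by rw [h1, one_mul]

/-- (CL3) the structure theorem. -/
theorem structure_thm (hPn : ¬ (P : Subgroup G).Normal)
    (hmin : ∀ B : Subgroup G, B.Normal → B ≤ N → B = ⊥ ∨ B = N)
    (H1 : ∀ K : Subgroup G, (P : Subgroup G) ≤ K → K ≠ ⊤ →
      K ≤ normalizer ((P : Subgroup G) : Set G))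
    (H2 : ∀ P₀ : Subgroup G, P₀ < (P : Subgroup G) → N ≤ normalizer (P₀ : Set G))
    (H3 : ∀ Z : Subgroup G, Z.Normal → Z ≤ (P : Subgroup G) → Z = ⊥) :
    ∃ q : ℕ, q.Prime ∧ q ≠ p ∧ Nat.card G = p * q ^ orderOf (q : ZMod p) ∧
      ∃ A : Subgroup G, A.Normal ∧ Nat.card ↥A = q ^ orderOf (q : ZMod p) ∧
        Cfsg.IsElementaryAbelian q A ∧
        ∀ B : Subgroup G, B.Normal → B ≤ A → B = ⊥ ∨ B = A := by
  obtain ⟨q, hq, hqp, hNq⟩ := exists_prime_isPGroup P N hPN hsup hPn H1
  have hqF : Fact q.Prime := ⟨hq⟩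
  have hN1 : N ≠ ⊥ := by
    intro h
    apply hPn
    rw [h, sup_bot_eq] at hsup
    rw [hsup]
    infer_instance
  -- |P| = p
  have hP1 : (P : Subgroup G) ≠ ⊥ := by
    intro h
    apply hPn
    rw [h]
    infer_instance
  have hPcard : Nat.card (P : Subgroup G) = p := by
    have hnt : Nontrivial (P : Subgroup G) := (nontrivial_iff_ne_bot _).mpr hP1
    obtain ⟨k, hk⟩ := IsPGroup.iff_card.mp P.2
    have hk0 : k ≠ 0 := by
      intro h
      rw [h, pow_zero] at hk
      have := (Finite.one_lt_card_iff_nontrivial (α := (P : Subgroup G))).mpr hnt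
      omega
    have hpd : p ∣ Nat.card (P : Subgroup G) := by rw [hk]; exact dvd_pow_self p hk0
    obtain ⟨y, hy⟩ := exists_prime_orderOf_dvd_card' (G := (P : Subgroup G)) p hpd
    have hyo : orderOf (y : G) = p := by rw [Subgroup.orderOf_coe]; exact hy
    have hle : zpowers (y : G) ≤ (P : Subgroup G) := zpowers_le.mpr y.2
    have hEq : zpowers (y : G) = (P : Subgroup G) := by
      by_contra hne
      have := eq_bot_of_lt P N hPN hsup H2 H3 _ (lt_of_le_of_ne hle hne)
      rw [zpowers_eq_bot] at this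
      rw [this, orderOf_one] at hyo
      exact hp.out.one_lt.ne hyo
    rw [← hEq, Nat.card_zpowers, hyo]
  -- N is elementary abelian
  have hNsolv : Group.IsSolvable N := by
    have : Group.IsNilpotent N := hNq.isNilpotent
    infer_instance
  obtain ⟨hNc, r, hr, hNr⟩ := Cfsg.Agent.Lib.Helper1_MinNormal.elementary_abelian_of_minimal N hNsolv hN1 hmin
  have hrq : r = q := by
    obtain ⟨n, hn1⟩ := (Subgroup.ne_bot_iff_exists_ne_one).mp hN1
    have h1 : (n : G) ^ r = 1 := hNr n n.2
    have h2 : orderOf (n : G) = r := by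
      rcases (Nat.dvd_prime hr).mp (orderOf_dvd_of_pow_eq_one h1) with h | h
      · exfalso
        apply hn1
        exact Subtype.ext (orderOf_eq_one_iff.mp h)
      · exact h
    obtain ⟨k, hk⟩ := hNq n
    have hk' : (n : G) ^ (q ^ k) = 1 := by simpa using congrArg Subtype.val hk
    have h3 : r ∣ q ^ k := by rw [← h2]; exact orderOf_dvd_of_pow_eq_one hk'
    exact (Nat.prime_dvd_prime_iff_eq hr hq).mp (hr.dvd_of_dvd_pow h3)
  rw [hrq] at hNr
  have hEA : Cfsg.IsElementaryAbelian q N := ⟨hNc, hNr⟩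
  -- index
  have hcompl : N.IsComplement' (P : Subgroup G) := by
    apply isComplement'_of_disjoint_and_mul_eq_univ
    · rw [disjoint_iff, inf_comm]; exact hPN
    · rw [← normal_mul, sup_comm, hsup, coe_top]
  have hidx : N.index = p := by
    have h1 := hcompl.symm.index_eq_card
    rw [h1, hPcard]
  have hna : ¬ IsMulCommutative G := by
    intro h
    apply hPn
    refine ⟨fun n hn g => ?_⟩
    have e : g * n * g⁻¹ = n := by
      rw [h.is_comm.comm g n, mul_assoc, mul_inv_cancel, mul_one]
    rw [e]; exact hn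
  have hres := Cfsg.Agent.S3869.result hq hqp hna N hEA hidx hmin
  refine ⟨q, hq, hqp, ?_, N, hNn, hres.1, hEA, hmin⟩
  rw [← N.card_mul_index, hidx, hres.1, mul_comm]

end Cfsg.Agent.Lib.Helper64_MinNon
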