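import Mathlib
import Cfsg.Prelude.Def_Characters
import Cfsg.Prelude.Def_LocalStructure
import Cfsg.Agent.Lib.Helper1_MinNormal
import Cfsg.Agent.S3868

/-!
# Two character degrees: the minimal non-nilpotent configuration, group theory (helper74)

`G` finite, solvable, not nilpotent, every quotient by a nontrivial normal subgroup nilpotent.
Then `G` has a unique minimal normal subgroup `M`, it is abelian, not central, and complemented.
-/

set_option autoImplicit false

namespace Cfsg.Agent.Lib.Helper74_TwoDegB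

universe u

variable {G : Type u} [Group G]

/-- every quotient by a nontrivial normal subgroup is nilpotent -/
def QNilp (G : Type u) [Group G] : Prop :=
  ∀ (L : Subgroup G) [L.Normal], L ≠ ⊥ → Group.IsNilpotent (G ⧸ L)

theorem isNilpotent_of_inf_eq_bot (L M : Subgroup G) [L.Normal] [M.Normal]
    (hL : Group.IsNilpotent (G ⧸ L)) (hM : Group.IsNilpotent (G ⧸ M)) (h : L ⊓ M = ⊥) :
    Group.IsNilpotent G := by
  set f : G →* (G ⧸ L) × (G ⧸ M) := (QuotientGroup.mk' L).prod (QuotientGroup.mk' M) with hf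
  have hinj : Function.Injective f := by
    rw [← MonoidHom.ker_eq_bot_iff, eq_bot_iff]
    intro x hx
    rw [MonoidHom.mem_ker, hf, MonoidHom.prod_apply, Prod.mk_eq_one] at hx
    rw [← h]
    refine ⟨?_, ?_⟩
    · exact (QuotientGroup.eq_one_iff x).mp hx.1
    · exact (QuotientGroup.eq_one_iff x).mp hx.2
  have h1 : Group.IsNilpotent f.range := inferInstance
  exact (Group.isNilpotent_congr (MonoidHom.ofInjective hinj)).mpr h1

theorem exists_min_normal [Finite G] (hnn : ¬ Group.IsNilpotent G) (hq : QNilp G) :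
    ∃ M : Subgroup G, M.Normal ∧ M ≠ ⊥ ∧ ∀ L : Subgroup G, L.Normal → L ≠ ⊥ → M ≤ L := by
  have hnt : (⊤ : Subgroup G) ≠ ⊥ := by
    intro h
    apply hnn
    have h1 : ∀ a : G, a = 1 := by
      intro a
      have ha : a ∈ (⊤ : Subgroup G) := Subgroup.mem_top a
      rw [h] at ha
      exact Subgroup.mem_bot.mp ha
    have : Subsingleton G := ⟨fun a b => by rw [h1 a, h1 b]⟩
    infer_instance
  obtain ⟨M, -, hMmin⟩ :=
    Finite.exists_le_minimal (p := fun K : Subgroup G => K.Normal ∧ K ≠ ⊥) (a := ⊤)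
      ⟨inferInstance, hnt⟩
  obtain ⟨hM1, hM2⟩ := hMmin.prop
  refine ⟨M, hM1, hM2, ?_⟩
  intro L hL hL0
  by_cases h : L ⊓ M = ⊥
  · exfalso
    exact hnn (isNilpotent_of_inf_eq_bot L M (hq L hL0) (hq M hM2) h)
  · have h1 : M ≤ L ⊓ M := hMmin.le_of_le ⟨inferInstance, h⟩ inf_le_right
    exact h1.trans inf_le_left

/-- the unique minimal normal subgroup of a solvable group is abelian -/
theorem min_normal_comm [Finite G] (hsolv : Group.IsSolvable G) (M : Subgroup G)
    (hM0 : M ≠ ⊥) (hmin : ∀ L : Subgroup G, L.Normal → L ≠ ⊥ → M ≤ L) :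
    ∀ x ∈ M, ∀ y ∈ M, x * y = y * x := by
  have htop : (⊤ : Subgroup G) ≠ ⊥ := by
    intro h
    apply hM0
    rw [eq_bot_iff, ← h]
    exact le_top
  have hs : Group.IsSolvable (⊤ : Subgroup G) := inferInstance
  obtain ⟨M₁, hM₁n, -, hM₁0, hM₁c, -⟩ :=
    Cfsg.Agent.Lib.Helper1_MinNormal.exists_elementary_abelian_normal_le (⊤ : Subgroup G) hs htop
  have hle := hmin M₁ hM₁n hM₁0
  intro x hx y hy
  have := hM₁c.is_comm.comm (⟨x, hle hx⟩ : M₁) ⟨y, hle hy⟩
  exact congrArg Subtype.val this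

/-- the minimal normal subgroup is not central -/
theorem min_normal_not_central (hnn : ¬ Group.IsNilpotent G) (hq : QNilp G) (M : Subgroup G)
    [M.Normal] (hM0 : M ≠ ⊥) : ¬ M ≤ Subgroup.center G := by
  intro h
  apply hnn
  have := hq M hM0
  exact Subgroup.isNilpotent_of_ker_le_center (QuotientGroup.mk' M)
    (by rw [QuotientGroup.ker_mk']; exact h)

/-- the minimal normal subgroup has a complement -/
theorem exists_complement [Finite G] (hnn : ¬ Group.IsNilpotent G) (hq : QNilp G)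
    (M : Subgroup G) [hMn : M.Normal] (hM0 : M ≠ ⊥)
    (hmin : ∀ L : Subgroup G, L.Normal → L ≠ ⊥ → M ≤ L)
    (hMc : ∀ x ∈ M, ∀ y ∈ M, x * y = y * x) :
    ∃ C : Subgroup G, C ⊓ M = ⊥ ∧ C ⊔ M = ⊤ := by
  -- a Sylow subgroup that is not normal
  have h1 : ¬ ∀ (p : ℕ) (_hp : Fact p.Prime) (P : Sylow p G), (↑P : Subgroup G).Normal := by
    intro h
    exact hnn ((Group.isNilpotent_of_finite_tfae (G := G)).out 3 0 rfl rfl |>.mp h)
  push Not at h1
  obtain ⟨p, hp, P, hP⟩ := h1
  have hQn : Group.IsNilpotent (G ⧸ M) := hq M hM0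
  have hcl : Cfsg.IsPClosed p (G ⧸ M) := by
    intro Q
    have := (Group.isNilpotent_of_finite_tfae (G := G ⧸ M)).out 0 3 rfl rfl |>.mp hQn
    exact this p hp Q
  have hPM : ((P : Subgroup G) ⊔ M).Normal := Cfsg.Agent.S3868.sup_normal_of_quotient P M hcl
  set N : Subgroup G := (P : Subgroup G) ⊔ M with hN
  have hPN : (P : Subgroup G) ≤ N := le_sup_left
  have hfr := Sylow.normalizer_sup_eq_top (P.subtype hPN)
  have hmap : ((P.subtype hPN : Sylow p N) : Subgroup N).map N.subtype = (P : Subgroup G) := by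
    rw [Sylow.coe_subtype, Subgroup.subgroupOf_map_subtype]
    exact inf_eq_left.mpr hPN
  rw [hmap] at hfr
  set C : Subgroup G := Subgroup.normalizer ((P : Subgroup G) : Set G) with hC
  have hCM : C ⊔ M = ⊤ := by
    rw [eq_top_iff, ← hfr, hN]
    apply sup_le le_sup_left
    apply sup_le _ le_sup_right
    exact (Subgroup.le_normalizer).trans le_sup_left
  have hCne : C ≠ ⊤ := by
    intro h
    apply hP
    exact Subgroup.normalizer_eq_top_iff.mp h
  refine ⟨C, ?_, hCM⟩
  by_contra hne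
  have hnorm : (C ⊓ M).Normal := by
    constructor
    intro x hx g
    have hg : g ∈ C ⊔ M := by rw [hCM]; exact Subgroup.mem_top g
    obtain ⟨c, hc, y, hy, rfl⟩ := Subgroup.mem_sup_of_normal_right.mp hg
    have h2 : y * x * y⁻¹ = x := by
      rw [hMc y hy x hx.2, mul_inv_cancel_right]
    have h3 : c * y * x * (c * y)⁻¹ = c * (y * x * y⁻¹) * c⁻¹ := by group
    rw [h3, h2]
    refine ⟨?_, hMn.conj_mem x hx.2 c⟩
    exact C.mul_mem (C.mul_mem hc hx.1) (C.inv_mem hc)
  have hle : M ≤ C ⊓ M := hmin _ hnorm hne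
  apply hCne
  rw [eq_top_iff, ← hCM]
  exact sup_le le_rfl (hle.trans inf_le_left)

/-- a retraction onto the complement -/
theorem exists_retraction (M C : Subgroup G) [hMn : M.Normal] (h1 : C ⊓ M = ⊥)
    (h2 : C ⊔ M = ⊤) :
    ∃ r : G →* G, (∀ g, r g ∈ C) ∧ (∀ g, (r g)⁻¹ * g ∈ M) ∧ (∀ x ∈ M, r x = 1) := by
  set f : C →* G ⧸ M := (QuotientGroup.mk' M).comp C.subtype with hf
  have hinj : Function.Injective f := by
    rw [← MonoidHom.ker_eq_bot_iff, eq_bot_iff]
    intro x hx
    rw [MonoidHom.mem_ker, hf, MonoidHom.comp_apply, QuotientGroup.mk'_apply,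
      QuotientGroup.eq_one_iff] at hx
    have h3 : (x : G) ∈ C ⊓ M := ⟨x.2, hx⟩
    rw [h1] at h3
    rw [Subgroup.mem_bot]
    exact Subtype.ext (Subgroup.mem_bot.mp h3)
  have hsurj : Function.Surjective f := by
    intro q
    induction q using QuotientGroup.induction_on with | _ g => ?_
    have hg : g ∈ C ⊔ M := by rw [h2]; exact Subgroup.mem_top g
    obtain ⟨c, hc, y, hy, rfl⟩ := Subgroup.mem_sup_of_normal_right.mp hg
    refine ⟨⟨c, hc⟩, ?_⟩
    show (QuotientGroup.mk c : G ⧸ M) = QuotientGroup.mk (c * y)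
    rw [QuotientGroup.eq, inv_mul_cancel_left]
    exact hy
  set e : C ≃* G ⧸ M := MulEquiv.ofBijective f ⟨hinj, hsurj⟩ with he
  refine ⟨C.subtype.comp (e.symm.toMonoidHom.comp (QuotientGroup.mk' M)), ?_, ?_, ?_⟩
  · intro g
    exact (e.symm (QuotientGroup.mk g)).2
  · intro g
    have h3 : e (e.symm (QuotientGroup.mk g)) = QuotientGroup.mk g := e.apply_symm_apply _
    rw [← QuotientGroup.eq]
    exact h3
  · intro x hx
    have h3 : (QuotientGroup.mk x : G ⧸ M) = 1 := (QuotientGroup.eq_one_iff x).mpr hx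
    show ((e.symm (QuotientGroup.mk x) : C) : G) = 1
    rw [h3, map_one]
    rfl

/-- the minimal normal subgroup is its own centralizer -/
theorem mem_of_centralizes (M C : Subgroup G) [hMn : M.Normal] (h1 : C ⊓ M = ⊥)
    (h2 : C ⊔ M = ⊤) (hM0 : M ≠ ⊥)
    (hmin : ∀ L : Subgroup G, L.Normal → L ≠ ⊥ → M ≤ L)
    (hMc : ∀ x ∈ M, ∀ y ∈ M, x * y = y * x) (g : G) (hg : ∀ x ∈ M, g * x = x * g) :
    g ∈ M := by
  set D : Subgroup G := C ⊓ Subgroup.centralizer (M : Set G) with hD
  have hDn : D.Normal := by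
    constructor
    intro d hd h
    have hh : h ∈ C ⊔ M := by rw [h2]; exact Subgroup.mem_top h
    obtain ⟨c, hc, y, hy, rfl⟩ := Subgroup.mem_sup_of_normal_right.mp hh
    have h3 : y * d * y⁻¹ = d := by
      have := Subgroup.mem_centralizer_iff.mp hd.2 y hy
      rw [this, mul_inv_cancel_right]
    have h4 : c * y * d * (c * y)⁻¹ = c * (y * d * y⁻¹) * c⁻¹ := by group
    rw [h4, h3]
    refine ⟨C.mul_mem (C.mul_mem hc hd.1) (C.inv_mem hc), ?_⟩
    have hcn : (Subgroup.centralizer (M : Set G)).Normal := inferInstance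
    exact hcn.conj_mem d hd.2 c
  have hD0 : D = ⊥ := by
    by_contra hne
    have hle := hmin D hDn hne
    apply hM0
    rw [eq_bot_iff, ← h1]
    exact le_inf (hle.trans inf_le_left) le_rfl
  have hgt : g ∈ C ⊔ M := by rw [h2]; exact Subgroup.mem_top g
  obtain ⟨c, hc, y, hy, rfl⟩ := Subgroup.mem_sup_of_normal_right.mp hgt
  have hcD : c ∈ D := by
    refine ⟨hc, ?_⟩
    show c ∈ Subgroup.centralizer (M : Set G)
    rw [Subgroup.mem_centralizer_iff]
    intro x hx
    have h3 := hg x hx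
    have h4 : c * x = c * y * x * y⁻¹ := by
      rw [mul_assoc c y x, hMc y hy x hx, mul_assoc, mul_assoc, mul_inv_cancel, mul_one]
    rw [h4, h3, mul_assoc, mul_assoc, mul_inv_cancel, mul_one]
  rw [hD0, Subgroup.mem_bot] at hcD
  rw [hcD, one_mul]
  exact hy

end Cfsg.Agent.Lib.Helper74_TwoDegB
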