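import Mathlib
import Cfsg.Prelude.Def_Characters
import Cfsg.Agent.Lib.Helper74_TwoDegB
import Cfsg.Agent.Lib.Helper74_TwoDegA
import Cfsg.Agent.Lib.Helper74_TwoDegC
import Cfsg.Agent.Lib.Helper81_Twist
import Cfsg.Agent.Lib.Helper80_RelDegree
import Cfsg.Agent.Lib.Helper80_CharInd
import Cfsg.Agent.Lib.Helper75_AbelianInertia2

/-!
# Two character degrees: the minimal non-nilpotent configuration, characters (helper74)

`M` an abelian normal subgroup with a complement.  Every linear character of `M` extends to its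
inertia group, so the index of the inertia group is a character degree of `G`.  When the degrees
are `1` and `m`, every subgroup of index `m` contains `G'` (Taketa's trick).
-/

set_option autoImplicit false
set_option linter.unusedSectionVars false

namespace Cfsg.Agent.Lib.Helper74_TwoDegB2

open Cfsg
open Cfsg.Agent.Lib.Helper3_CharBridge Cfsg.Agent.Lib.Helper3_CharOrtho
  Cfsg.Agent.Lib.Helper3_CharComplete Cfsg.Agent.Lib.Helper3_CharColumn
open Cfsg.Agent.Lib.Helper75_Induced Cfsg.Agent.Lib.Helper75_CharArith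
  Cfsg.Agent.Lib.Helper75_IndChar Cfsg.Agent.Lib.Helper3_Taketa
  Cfsg.Agent.Lib.Helper75_Clifford
open Cfsg.Agent.Lib.Helper74_LinAct Cfsg.Agent.Lib.Helper80_RelDegree

universe u

variable {G : Type u} [Group G]

section Ext

variable (M : Subgroup G) [hMn : M.Normal]

theorem inertia_iff (lam : M →* ℂˣ) (g : G) :
    g ∈ inertia M hMn ((lin lam : IrrCharacter M) : M → ℂ) ↔
      ∀ x : M, lam ⟨g * x * g⁻¹, hMn.conj_mem x x.2 g⟩ = lam x := by
  rw [mem_inertia]
  constructor
  · intro h x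
    have h1 := congrFun h x
    rw [conjFun_apply] at h1
    exact Units.ext h1
  · intro h
    funext x
    rw [conjFun_apply]
    exact congrArg Units.val (h x)

theorem exists_ext (r : G →* G) (hr1 : ∀ g, (r g)⁻¹ * g ∈ M) (hr2 : ∀ x ∈ M, r x = 1)
    (lam : M →* ℂˣ) (I : Subgroup G) (hMI : M ≤ I)
    (hI : ∀ g ∈ I, ∀ x : M, lam ⟨g * x * g⁻¹, hMn.conj_mem x x.2 g⟩ = lam x) :
    ∃ f : I →* ℂˣ, ∀ x : M, f (Subgroup.inclusion hMI x) = lam x := by
  have hrI : ∀ t ∈ I, r t ∈ I := by
    intro t ht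
    have h1 : (r t)⁻¹ * t ∈ I := hMI (hr1 t)
    have h2 : r t = t * ((r t)⁻¹ * t)⁻¹ := by group
    rw [h2]
    exact I.mul_mem ht (I.inv_mem h1)
  refine ⟨MonoidHom.mk' (fun t : I => lam ⟨(r (t : G))⁻¹ * (t : G), hr1 t⟩) ?_, ?_⟩
  · intro a b
    have h1 : (⟨(r ((a * b : I) : G))⁻¹ * ((a * b : I) : G), hr1 _⟩ : M) =
        ⟨(r (b : G))⁻¹ * ((r (a : G))⁻¹ * (a : G)) * (r (b : G))⁻¹⁻¹,
          hMn.conj_mem _ (hr1 a) (r (b : G))⁻¹⟩ * ⟨(r (b : G))⁻¹ * (b : G), hr1 b⟩ := by
      apply Subtype.ext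
      simp only [Subgroup.coe_mul, map_mul, mul_inv_rev, inv_inv]
      group
    rw [h1, map_mul]
    congr 1
    exact hI (r (b : G))⁻¹ (I.inv_mem (hrI b b.2)) ⟨(r (a : G))⁻¹ * (a : G), hr1 a⟩
  · intro x
    show lam ⟨(r (x : G))⁻¹ * (x : G), _⟩ = lam x
    congr 1
    apply Subtype.ext
    simp [hr2 x x.2]

theorem exists_irr_index [Fintype G] (r : G →* G) (hr1 : ∀ g, (r g)⁻¹ * g ∈ M)
    (hr2 : ∀ x ∈ M, r x = 1) (lam : M →* ℂˣ) :
    ∃ χ : IrrCharacter G, (χ : G → ℂ) 1 =
      ((inertia M hMn ((lin lam : IrrCharacter M) : M → ℂ)).index : ℂ) := by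
  set φ : M → ℂ := ((lin lam : IrrCharacter M) : M → ℂ) with hφ
  set I := inertia M hMn φ with hIdef
  have hIiff : ∀ g, g ∈ I ↔ conjFun M hMn φ g = φ := fun g => Iff.rfl
  have hMI : M ≤ I :=
    Cfsg.Agent.Lib.Helper75_AbelianInertia2.le_inertia M I hMn
      (isClassFunction_of_isIrrCharacter (lin lam).2) hIiff
  obtain ⟨f, hf⟩ := exists_ext M r hr1 hr2 lam I hMI (fun g hg => (inertia_iff M lam g).mp hg)
  have hext : ∀ n : M, ((lin f : IrrCharacter I) : I → ℂ) (Subgroup.inclusion hMI n) = φ n := by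
    intro n
    show ((f _ : ℂˣ) : ℂ) = ((lam n : ℂˣ) : ℂ)
    rw [hf]
  refine ⟨⟨_, Cfsg.Agent.Lib.Helper81_Twist.isIrrCharacter_indFun_ext M I hMn hMI (lin lam).2
    hIiff (lin f) hext⟩, ?_⟩
  show indFun I _ 1 = _
  rw [Cfsg.Agent.Lib.Helper81_Twist.indFun_ext_one M I hMI (lin f) hext]
  simp [hφ]

end Ext

section Taketa

variable [Fintype G]

/-- Taketa's trick: a subgroup whose index is the larger of two degrees contains `G'` -/
theorem commutator_le_of_index (m : ℕ)
    (hcd : ∀ χ : IrrCharacter G, (χ : G → ℂ) 1 = 1 ∨ (χ : G → ℂ) 1 = m)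
    (H : Subgroup G) (hH : H.index = m) : commutator G ≤ H := by
  classical
  by_cases hm1 : m = 1
  · rw [hm1, Subgroup.index_eq_one] at hH
    rw [hH]
    exact le_top
  set d := m with hdm
  have : Fintype H := Fintype.ofFinite H
  set Φ : G → ℂ := Cfsg.indFun H (fun _ => (1 : ℂ)) with hΦdef
  have hΦ1 : Φ 1 = (d : ℂ) := by
    rw [hΦdef, Cfsg.Agent.Lib.Helper80_CharInd.indFun_one, mul_one, hH]
  have hone : Cfsg.IsIrrCharacter G (fun _ => (1 : ℂ)) :=
    Cfsg.Agent.Lib.Helper80_CharBasic.isIrrCharacter_one G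
  have honeH : Cfsg.IsCharacter H (fun _ => (1 : ℂ)) :=
    isCharacter_of_isIrrCharacter (Cfsg.Agent.Lib.Helper80_CharBasic.isIrrCharacter_one H)
  have hΦchar : Cfsg.IsCharacter G Φ := isCharacter_indFun H honeH
  obtain ⟨mu, hmu, hΦsum⟩ := exists_multiplicities hΦchar
  have hm1' : mu ⟨_, hone⟩ = 1 := by
    have h1 := hmu ⟨_, hone⟩
    rw [hΦdef, frobenius_reciprocity H _ _ (isClassFunction_of_isIrrCharacter hone)] at h1
    have h2 : Cfsg.classInner (fun _ : H => (1 : ℂ)) (fun _ : H => (1 : ℂ)) = 1 :=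
      classInner_self_of_isIrrCharacter (Cfsg.Agent.Lib.Helper80_CharBasic.isIrrCharacter_one H)
    rw [h2] at h1
    exact_mod_cast h1.symm
  choose deg hdegpos hdeg using fun ψ : Cfsg.IrrCharacter G => irr_one_eq_natCast ψ.2
  have hsumdeg : d = ∑ ψ : Cfsg.IrrCharacter G, mu ψ * deg ψ := by
    have h1 : Φ 1 = ∑ ψ : Cfsg.IrrCharacter G, (mu ψ : ℂ) * (ψ : G → ℂ) 1 := by
      conv_lhs => rw [hΦsum]
      simp [Finset.sum_apply]
    rw [hΦ1] at h1
    simp_rw [hdeg] at h1
    exact_mod_cast h1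
  have hdeglt : ∀ ψ : Cfsg.IrrCharacter G, ψ ≠ ⟨_, hone⟩ → mu ψ ≠ 0 → deg ψ < d := by
    intro ψ hψ hmψ
    have h1 : mu ⟨_, hone⟩ * deg ⟨_, hone⟩ + mu ψ * deg ψ ≤
        ∑ ψ : Cfsg.IrrCharacter G, mu ψ * deg ψ := by
      have := Finset.sum_le_sum_of_subset (f := fun ψ => mu ψ * deg ψ)
        (Finset.subset_univ ({⟨_, hone⟩, ψ} : Finset (Cfsg.IrrCharacter G)))
      rw [Finset.sum_pair hψ.symm] at this
      exact this
    rw [hm1', one_mul, ← hsumdeg] at h1
    have h2 := hdegpos ⟨_, hone⟩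
    have h3 : deg ψ ≤ mu ψ * deg ψ := Nat.le_mul_of_pos_left _ (Nat.pos_of_ne_zero hmψ)
    omega
  intro x hx
  apply mem_of_indFun_one_eq
  show Φ x = Φ 1
  rw [hΦsum]
  simp only [Finset.sum_apply, Pi.smul_apply, smul_eq_mul]
  apply Finset.sum_congr rfl
  intro ψ _
  by_cases hmψ : mu ψ = 0
  · rw [hmψ, Nat.cast_zero, zero_mul, zero_mul]
  congr 1
  by_cases hψ : ψ = ⟨_, hone⟩
  · rw [hψ]
  · have h1 := hdeglt ψ hψ hmψ
    have h2 : (ψ : G → ℂ) 1 = 1 := by
      rcases hcd ψ with h | h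
      · exact h
      · exfalso
        rw [hdeg ψ] at h
        have : deg ψ = d := by exact_mod_cast h
        omega
    rw [Cfsg.Agent.Lib.Helper74_TwoDegA.irr_eq_one_of_mem_commutator ψ h2 hx, h2]

end Taketa

section Base

open Cfsg.Agent.Lib.Helper74_TwoDegB Cfsg.Agent.Lib.Helper74_GoingUp
  Cfsg.Agent.Lib.Helper74_TwoDegC

variable [Fintype G]

theorem base_case (hsolv : Group.IsSolvable G) (hnn : ¬ Group.IsNilpotent G) (hq : QNilp G)
    (m : ℕ) (hcd : ∀ χ : IrrCharacter G, (χ : G → ℂ) 1 = 1 ∨ (χ : G → ℂ) 1 = m) :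
    ∃ M : Subgroup G, M.Normal ∧ M ≠ ⊥ ∧ (∀ x ∈ M, ∀ y ∈ M, x * y = y * x) ∧
      (Nat.card M).Coprime M.index ∧
      (∀ g : G, g ∉ M → ∀ x ∈ M, g⁻¹ * x * g = x → x = 1) ∧
      M.index = m ∧ ∀ a b : G, a * b * a⁻¹ * b⁻¹ ∈ M := by
  classical
  obtain ⟨M, hMn, hM0, hmin⟩ := exists_min_normal hnn hq
  have hMc := min_normal_comm hsolv M hM0 hmin
  have hncent := min_normal_not_central hnn hq M hM0
  obtain ⟨C, hC1, hC2⟩ := exists_complement hnn hq M hM0 hmin hMc
  obtain ⟨r, -, hr1, hr2⟩ := exists_retraction M C hC1 hC2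
  have hcent := mem_of_centralizes M C hC1 hC2 hM0 hmin hMc
  have hMcomm : ∀ a b : M, a * b = b * a := fun a b => Subtype.ext (hMc a a.2 b b.2)
  -- for `lam ≠ 1` the inertia group has index `m`, and `m ≠ 1`
  have hkey : ∀ lam : M →* ℂˣ, lam ≠ 1 →
      (inertia M hMn ((lin lam : IrrCharacter M) : M → ℂ)).index = m ∧ m ≠ 1 := by
    intro lam hlam
    set I := inertia M hMn ((lin lam : IrrCharacter M) : M → ℂ) with hI
    have hItop : I ≠ ⊤ := by
      intro htop
      have hinv : ∀ (g : G) (x : M), lam ⟨g * x * g⁻¹, hMn.conj_mem x x.2 g⟩ = lam x := by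
        intro g
        exact (inertia_iff M lam g).mp (by rw [← hI, htop]; exact Subgroup.mem_top g)
      set K : Subgroup G := lam.ker.map M.subtype with hK
      have hKn : K.Normal := by
        constructor
        rintro _ ⟨x, hx, rfl⟩ g
        refine ⟨⟨g * x * g⁻¹, hMn.conj_mem x x.2 g⟩, ?_, rfl⟩
        have hx' : lam x = 1 := MonoidHom.mem_ker.mp hx
        show _ ∈ lam.ker
        rw [MonoidHom.mem_ker, hinv g x, hx']
      have hK0 : K = ⊥ := by
        by_contra hne
        have hle := hmin K hKn hne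
        apply hlam
        ext x
        obtain ⟨y, hy, hyx⟩ := hle x.2
        have hyx' : y = x := Subtype.ext hyx
        have hy' : lam y = 1 := MonoidHom.mem_ker.mp hy
        rw [← hyx', hy']
        rfl
      have hinj : Function.Injective lam := by
        rw [← MonoidHom.ker_eq_bot_iff]
        exact (Subgroup.map_eq_bot_iff_of_injective _ M.subtype_injective).mp hK0
      apply hncent
      intro x hx
      rw [Subgroup.mem_center_iff]
      intro g
      have h1 := hinj (hinv g ⟨x, hx⟩)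
      have h2 : g * x * g⁻¹ = x := congrArg Subtype.val h1
      calc g * x = g * x * g⁻¹ * g := by group
        _ = x * g := by rw [h2]
    obtain ⟨χ, hχ⟩ := exists_irr_index M r hr1 hr2 lam
    rw [← hI] at hχ
    have hidx1 : I.index ≠ 1 := fun h => hItop (Subgroup.index_eq_one.mp h)
    rcases hcd χ with h | h
    · exfalso
      apply hidx1
      rw [hχ] at h
      exact_mod_cast h
    · have h3 : I.index = m := by
        rw [hχ] at h
        exact_mod_cast h
      exact ⟨h3, h3 ▸ hidx1⟩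
  -- `G' ≤ M`
  have hder : commutator G ≤ M := by
    intro g hg
    apply hcent g
    intro x hx
    by_contra hne
    set y : M := ⟨g * x * g⁻¹, hMn.conj_mem x hx g⟩ * (⟨x, hx⟩ : M)⁻¹ with hy
    have hy1 : y ≠ 1 := by
      intro h
      apply hne
      have h1 : (⟨g * x * g⁻¹, hMn.conj_mem x hx g⟩ : M) = ⟨x, hx⟩ := mul_inv_eq_one.mp h
      have h2 : g * x * g⁻¹ = x := congrArg Subtype.val h1
      calc g * x = g * x * g⁻¹ * g := by group
        _ = x * g := by rw [h2]
    obtain ⟨lam, hlam⟩ := exists_dual_ne_one hMcomm hy1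
    have hlam1 : lam ≠ 1 := by
      rintro rfl
      exact hlam rfl
    obtain ⟨hidx, -⟩ := hkey lam hlam1
    have hgI := commutator_le_of_index m hcd _ hidx hg
    have h3 := (inertia_iff M lam g).mp hgI ⟨x, hx⟩
    apply hlam
    rw [hy, map_mul, map_inv, h3, mul_inv_cancel]
  have habq : ∀ a b : G, a * b * a⁻¹ * b⁻¹ ∈ M := by
    intro a b
    apply hder
    rw [commutator_def, ← commutatorElement_def]
    exact Subgroup.commutator_mem_commutator (Subgroup.mem_top a) (Subgroup.mem_top b)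
  -- elements outside `M` have no fixed points
  have hfpf : ∀ g : G, g ∉ M → ∀ x ∈ M, g⁻¹ * x * g = x → x = 1 := by
    intro g hg x hx hfix
    set F : Subgroup G := M ⊓ Subgroup.centralizer {g} with hF
    have hFn : F.Normal := by
      constructor
      intro z hz h
      refine ⟨hMn.conj_mem z hz.1 h, ?_⟩
      show h * z * h⁻¹ ∈ Subgroup.centralizer {g}
      rw [Subgroup.mem_centralizer_singleton_iff]
      have hzg : z * g = g * z := Subgroup.mem_centralizer_singleton_iff.mp hz.2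
      set c : G := g⁻¹ * h⁻¹ * g⁻¹⁻¹ * h⁻¹⁻¹ with hc
      have hcM : c ∈ M := habq g⁻¹ h⁻¹
      have hcz : c * z = z * c := hMc c hcM z hz.1
      have e1 : g * (h * z * h⁻¹) = h * (g * (c * z)) * h⁻¹ := by
        rw [hc]
        group
      have e2 : (h * z * h⁻¹) * g = h * (z * g * c) * h⁻¹ := by
        rw [hc]
        group
      rw [e1, e2, hcz, ← mul_assoc g z c, hzg]
    have hF0 : F = ⊥ := by
      by_contra hne
      have hle := hmin F hFn hne
      apply hg
      apply hcent g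
      intro y hy
      have := (hle hy).2
      exact (Subgroup.mem_centralizer_singleton_iff.mp this).symm
    have hxF : x ∈ F := by
      refine ⟨hx, ?_⟩
      show x ∈ Subgroup.centralizer {g}
      rw [Subgroup.mem_centralizer_singleton_iff]
      calc x * g = g * (g⁻¹ * x * g) := by group
        _ = g * x := by rw [hfix]
    rw [hF0, Subgroup.mem_bot] at hxF
    exact hxF
  -- inertia groups of nontrivial characters equal `M`
  have hIM : ∀ lam : M →* ℂˣ, lam ≠ 1 →
      inertia M hMn ((lin lam : IrrCharacter M) : M → ℂ) ≤ M := by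
    intro lam hlam g hg
    by_contra hgM
    apply hlam
    have hbn : (⊥ : Subgroup G).Normal := inferInstance
    refine eq_one_of_cjHom_eq (⊥ : Subgroup G) M ?_ g ?_ ?_ ?_
    · intro x hx y hy
      rw [Subgroup.mem_bot, hMc x hx y hy, mul_inv_cancel_right, mul_inv_cancel]
    · intro x hx h
      rw [Subgroup.mem_bot] at h ⊢
      apply hfpf g hgM x hx
      have h1 : x * (x⁻¹ * (g⁻¹ * x * g)) = x * 1 := by rw [h]
      rw [mul_inv_cancel_left, mul_one] at h1
      exact h1
    · intro x hx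
      rw [Subgroup.mem_bot] at hx
      have : x = 1 := Subtype.ext hx
      rw [this, map_one]
    · ext n
      rw [cjHom_apply, conjNormal_inv_eq]
      have hginv : g⁻¹ ∈ inertia M hMn ((lin lam : IrrCharacter M) : M → ℂ) :=
        Subgroup.inv_mem _ hg
      exact congrArg Units.val ((inertia_iff M lam g⁻¹).mp hginv n)
  have hidx : M.index = m := by
    obtain ⟨a, ha⟩ := Subgroup.ne_bot_iff_exists_ne_one.mp hM0
    obtain ⟨lam, hlam⟩ := exists_dual_ne_one hMcomm ha
    have hlam1 : lam ≠ 1 := by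
      rintro rfl
      exact hlam rfl
    obtain ⟨h1, -⟩ := hkey lam hlam1
    have hMI : M ≤ inertia M hMn ((lin lam : IrrCharacter M) : M → ℂ) :=
      Cfsg.Agent.Lib.Helper75_AbelianInertia2.le_inertia M _ hMn
        (isClassFunction_of_isIrrCharacter (lin lam).2) (fun g => Iff.rfl)
    rw [← h1, le_antisymm (hIM lam hlam1) hMI]
  -- coprimality
  have hcop : (Nat.card M).Coprime M.index := by
    apply Nat.coprime_of_dvd
    intro p hp hpM hpI
    have : Fact p.Prime := ⟨hp⟩
    obtain ⟨P⟩ : Nonempty (Sylow p G) := inferInstance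
    let act : MulAction P M :=
      MulAction.compHom M ((MulAut.conjNormal (H := M)).comp (P : Subgroup G).subtype)
    have hsmul : ∀ (g : P) (x : M), ((g • x : M) : G) = (g : G) * x * (g : G)⁻¹ := by
      intro g x
      show ((MulAut.conjNormal (g : G) x : M) : G) = _
      rw [MulAut.conjNormal_apply]
    have hfix1 : (1 : M) ∈ MulAction.fixedPoints P M := by
      intro g
      apply Subtype.ext
      rw [hsmul]
      simp
    obtain ⟨b, hb, hb1⟩ := P.2.exists_fixed_point_of_prime_dvd_card_of_fixed_point M hpM hfix1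
    have hPM : (P : Subgroup G) ≤ M := by
      intro g hg
      by_contra hgM
      apply hb1
      have h1 := hb ⟨g⁻¹, (P : Subgroup G).inv_mem hg⟩
      have h2 : g⁻¹ * (b : G) * g = b := by
        have := congrArg Subtype.val h1
        rw [hsmul] at this
        simpa using this
      exact (Subtype.ext (hfpf g hgM b b.2 h2)).symm
    have h1 : M.index ∣ (P : Subgroup G).index := Subgroup.index_dvd_of_le hPM
    exact P.not_dvd_index (hpI.trans h1)
  exact ⟨M, hMn, hM0, hMc, hcop, hfpf, hidx, habq⟩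

end Base

end Cfsg.Agent.Lib.Helper74_TwoDegB2
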