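import Mathlib
import Cfsg.Prelude.Def_Characters
import Cfsg.Agent.Lib.Helper74_TwoDegB2
import Cfsg.Agent.Lib.Helper74_TwoDegS
import Cfsg.Agent.Lib.Helper57_FrobNorm

/-!
# Two character degrees: the derived subgroup is abelian (helper74)

Assembly: a solvable non-nilpotent group with two degrees `1, m` has a quotient `G/K` that is a
Frobenius group with abelian kernel `N/K` and `[G:N] = m`, `G' ≤ N` (induction on the order),
and then `N` is abelian by `Helper74_TwoDegC.all_linear`.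
-/

set_option autoImplicit false

namespace Cfsg.Agent.Lib.Helper74_TwoDegD

open Cfsg
open Cfsg.Agent.Lib.Helper74_TwoDegB Cfsg.Agent.Lib.Helper74_TwoDegB2

universe u

/-- the Frobenius-quotient data -/
def Good (G : Type u) [Group G] (m : ℕ) : Prop :=
  ∃ K N : Subgroup G, K.Normal ∧ N.Normal ∧ K ≤ N ∧ K ≠ N ∧
    (∀ x ∈ N, ∀ y ∈ N, x * y * x⁻¹ * y⁻¹ ∈ K) ∧ (K.relIndex N).Coprime N.index ∧
    (∀ g : G, g ∉ N → ∀ x ∈ N, x⁻¹ * (g⁻¹ * x * g) ∈ K → x ∈ K) ∧ N.index = m ∧
    ∀ a b : G, a * b * a⁻¹ * b⁻¹ ∈ N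

variable {G : Type u} [Group G]

theorem good_of_base {m : ℕ}
    (h : ∃ M : Subgroup G, M.Normal ∧ M ≠ ⊥ ∧ (∀ x ∈ M, ∀ y ∈ M, x * y = y * x) ∧
      (Nat.card M).Coprime M.index ∧
      (∀ g : G, g ∉ M → ∀ x ∈ M, g⁻¹ * x * g = x → x = 1) ∧
      M.index = m ∧ ∀ a b : G, a * b * a⁻¹ * b⁻¹ ∈ M) : Good G m := by
  obtain ⟨M, hMn, hM0, hMc, hcop, hfpf, hidx, habq⟩ := h
  refine ⟨⊥, M, inferInstance, hMn, bot_le, fun h => hM0 h.symm, ?_, ?_, ?_, hidx, habq⟩
  · intro x hx y hy
    rw [Subgroup.mem_bot, hMc x hx y hy, mul_inv_cancel_right, mul_inv_cancel]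
  · rw [Subgroup.relIndex_bot_left]
    exact hcop
  · intro g hg x hx h
    rw [Subgroup.mem_bot] at h ⊢
    apply hfpf g hg x hx
    have h1 : x * (x⁻¹ * (g⁻¹ * x * g)) = x * 1 := by rw [h]
    rw [mul_inv_cancel_left, mul_one] at h1
    exact h1

theorem good_of_quotient {m : ℕ} (L : Subgroup G) [L.Normal] (h : Good (G ⧸ L) m) :
    Good G m := by
  obtain ⟨K, N, hKn, hNn, hKN, hne, hab, hcop, hfpf, hidx, habq⟩ := h
  have hsurj : Function.Surjective (QuotientGroup.mk' L) := QuotientGroup.mk'_surjective L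
  refine ⟨K.comap (QuotientGroup.mk' L), N.comap (QuotientGroup.mk' L), hKn.comap _,
    hNn.comap _, Subgroup.comap_mono hKN, ?_, ?_, ?_, ?_, ?_, ?_⟩
  · intro h
    exact hne (Subgroup.comap_injective hsurj h)
  · intro x hx y hy
    rw [Subgroup.mem_comap] at hx hy ⊢
    rw [map_mul, map_mul, map_mul, map_inv, map_inv]
    exact hab _ hx _ hy
  · rw [Subgroup.relIndex_comap, Subgroup.map_comap_eq_self_of_surjective hsurj,
      Subgroup.index_comap_of_surjective _ hsurj]
    exact hcop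
  · intro g hg x hx h
    rw [Subgroup.mem_comap] at hg hx h ⊢
    apply hfpf _ hg _ hx
    rw [map_mul, map_mul, map_mul, map_inv, map_inv] at h
    exact h
  · rw [Subgroup.index_comap_of_surjective _ hsurj]
    exact hidx
  · intro a b
    rw [Subgroup.mem_comap, map_mul, map_mul, map_mul, map_inv, map_inv]
    exact habq _ _

theorem good_of_twoDeg : ∀ (n : ℕ) (G : Type u) [Group G] [Finite G], Nat.card G = n →
    Group.IsSolvable G → ¬ Group.IsNilpotent G → ∀ m : ℕ,
    (∀ χ : IrrCharacter G, (χ : G → ℂ) 1 = 1 ∨ (χ : G → ℂ) 1 = m) → Good G m := by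
  intro n
  induction n using Nat.strong_induction_on with
  | _ n ih =>
    intro G _ _ hn hsolv hnn m hcd
    by_cases hq : QNilp G
    · have : Fintype G := Fintype.ofFinite G
      exact good_of_base (base_case hsolv hnn hq m hcd)
    · unfold QNilp at hq
      push Not at hq
      obtain ⟨L, hLn, hL0, hLnn⟩ := hq
      apply good_of_quotient L
      refine ih (Nat.card (G ⧸ L)) ?_ (G ⧸ L) rfl inferInstance hLnn m ?_
      · rw [← hn, Subgroup.card_eq_card_quotient_mul_card_subgroup L]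
        have h1 : 1 < Nat.card L := L.one_lt_card_iff_ne_bot.mpr hL0
        have h2 : 0 < Nat.card (G ⧸ L) := Nat.card_pos
        nlinarith
      · intro χ
        exact hcd ⟨_, Cfsg.Agent.Lib.Helper57_FrobNorm.isIrrCharacter_comp_surjective
          (QuotientGroup.mk' L) (QuotientGroup.mk'_surjective L) χ.2⟩

/-- two character degrees: the derived subgroup is abelian -/
theorem commutator_comm_of_twoDeg [Finite G] (m : ℕ)
    (hcd : ∀ χ : IrrCharacter G, (χ : G → ℂ) 1 = 1 ∨ (χ : G → ℂ) 1 = m) :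
    ∀ a ∈ commutator G, ∀ b ∈ commutator G, a * b = b * a := by
  classical
  have : Fintype G := Fintype.ofFinite G
  by_cases hnil : Group.IsNilpotent G
  · exact Cfsg.Agent.Lib.Helper74_TwoDegA.commutator_comm_of_nilpotent m hcd
  have hsolv : Group.IsSolvable G := Cfsg.Agent.Lib.Helper74_TwoDegS.isSolvable_of_twoDeg m hcd
  obtain ⟨K, N, hKn, hNn, hKN, hne, hab, hcop, hfpf, hidx, habq⟩ :=
    good_of_twoDeg (Nat.card G) G rfl hsolv hnil m hcd
  have hcd' : ∀ χ : IrrCharacter G, (χ : G → ℂ) 1 = 1 ∨ (χ : G → ℂ) 1 = (N.index : ℂ) := by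
    rw [hidx]
    exact hcd
  have hlin := Cfsg.Agent.Lib.Helper74_TwoDegC.all_linear K N hKN hne hab hcop hfpf hcd'
  have hNab : ∀ a b : N, a * b = b * a :=
    Cfsg.Agent.Lib.Helper59_CliffordDeg.commute_of_all_linear hlin
  have hle : commutator G ≤ N := by
    rw [commutator_def, Subgroup.commutator_le]
    intro a _ b _
    rw [commutatorElement_def]
    exact habq a b
  intro a ha b hb
  exact congrArg Subtype.val (hNab ⟨a, hle ha⟩ ⟨b, hle hb⟩)

end Cfsg.Agent.Lib.Helper74_TwoDegD
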