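import Cfsg.Agent.Lib.Helper80_RelM
import Cfsg.Agent.Lib.Helper80_RelDegree
import Cfsg.Agent.Lib.Helper48_ThreeDegDefs

/-!
# S4460 (Isaacs 12.15) package PK-P3: degrees of `G/M'` for a normal `p`-complement `M` (helper76)
-/

set_option autoImplicit false
set_option linter.unusedVariables false
set_option linter.unusedSectionVars false

namespace Cfsg.Agent.Lib.Helper76_S4460_P3

open Cfsg Cfsg.Agent.Lib.Helper48_ThreeDegDefs Cfsg.Agent.Lib.Helper75_Induced
  Cfsg.Agent.Lib.Helper75_CharArith Cfsg.Agent.Lib.Helper75_IndChar Cfsg.Agent.Lib.Helper75_Clifford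
  Cfsg.Agent.Lib.Helper80_CharBasic Cfsg.Agent.Lib.Helper80_CharComplete Cfsg.Agent.Lib.Helper3_CharBridge

universe u

variable {G : Type u} [Group G] [Finite G]

/-- an irreducible constituent of the restriction of an irreducible character exists -/
theorem exists_constituent_res [Fintype G] (M : Subgroup G) [Fintype M] (χ : IrrCharacter G) :
    ∃ θ : IrrCharacter M, Cfsg.classInner (res M (χ : G → ℂ)) (θ : M → ℂ) ≠ 0 := by
  classical
  have hχM : Cfsg.IsCharacter M (res M (χ : G → ℂ)) :=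
    isCharacter_res M (isCharacter_of_isIrrCharacter χ.2)
  obtain ⟨b, hb, hexp⟩ := exists_multiplicities hχM
  by_contra hcon
  push Not at hcon
  have h0 : res M (χ : G → ℂ) = 0 := by
    rw [hexp]
    apply Finset.sum_eq_zero
    intro φ _
    have h2 := hb φ
    rw [hcon φ] at h2
    have h3 : b φ = 0 := by exact_mod_cast h2.symm
    rw [h3]; simp
  have h1 := congrFun h0 1
  exact irr_one_ne_zero χ.2 h1

/-- PK-P3. If `g` is not a power of `p` (its `p'`-part is `≠ 1`), the characters of `G/M'` have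
degree `1` or `f`. -/
theorem pcompl_quot_degrees (f g p c : ℕ) (hp : p.Prime) (hfp : f = p ^ c) (hcd : CD3 G f g)
    (M : Subgroup G) [M.Normal] (hMi : ∃ k : ℕ, M.index = p ^ k)
    (hh : ordCompl[p] g ≠ 1) (χ : IrrCharacter G)
    (hker : ∀ x ∈ ⁅M, M⁆, (χ : G → ℂ) x = (χ : G → ℂ) 1) :
    (χ : G → ℂ) 1 = 1 ∨ (χ : G → ℂ) 1 = (f : ℂ) := by
  classical
  have : Fintype G := Fintype.ofFinite G
  have : Fintype M := Fintype.ofFinite M
  rcases hcd χ with h1 | h1 | h1
  · exact Or.inl h1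
  · exact Or.inr h1
  · exfalso
    obtain ⟨θ, hθ⟩ := exists_constituent_res M χ
    have hlin : (θ : M → ℂ) 1 = 1 :=
      Cfsg.Agent.Lib.Helper80_RelM.constituent_linear χ M (fun x hx => hker x hx) θ hθ
    obtain ⟨e, he, hdvd⟩ := Cfsg.Agent.Lib.Helper80_RelDegree.rel_degree_dvd M (χ : G → ℂ) χ.2
      (θ : M → ℂ) θ.2 hθ g 1 h1 (by rw [hlin]; simp)
    obtain ⟨k, hk⟩ := hMi
    rw [hk] at hdvd
    obtain ⟨j, -, hj⟩ := (Nat.dvd_prime_pow hp).mp hdvd
    rw [mul_one] at he
    apply hh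
    rw [he, hj]
    have hp0 : 0 < p ^ j := pow_pos hp.pos _
    rw [Nat.factorization_pow, hp.factorization]
    simp only [Finsupp.smul_single, smul_eq_mul, mul_one, Finsupp.single_eq_same]
    exact Nat.div_self hp0

end Cfsg.Agent.Lib.Helper76_S4460_P3
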