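import Mathlib
import Cfsg.Prelude.Def_Characters
import Cfsg.Prelude.Def_Solvable
import Cfsg.Agent.Lib.Helper48_ThreeDegDefs
import Cfsg.Agent.Lib.Helper48_S4460_P
import Cfsg.Agent.Lib.Helper74_TwoDegD
import Cfsg.Agent.Lib.Helper57_FrobNorm
import Cfsg.Agent.Lib.Helper59_CliffordDeg
import Cfsg.Agent.Lib.Helper75_CoprimeDeg
import Cfsg.Agent.Lib.Helper48_ThreeDegM
import Cfsg.Agent.Lib.Helper1_Cores
import Cfsg.Agent.Lib.Helper76_S4460_P3
import Cfsg.Agent.S4456

/-!
# S4460 (Isaacs 12.15), case P assembled: package PK-P4 (helper48)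
-/

set_option autoImplicit false
set_option linter.unusedSectionVars false

namespace Cfsg.Agent.Lib.Helper48_S4460_P4

open Cfsg Cfsg.Agent.Lib.Helper48_ThreeDegDefs Cfsg.Agent.Lib.Helper48_S4460_P

universe u

variable {G : Type u} [Group G] [Finite G]

/-- two character degrees: `G'' = 1` -/
theorem twoDeg_derived2' {H : Type u} [Group H] [Finite H] (m : ℕ)
    (hcd : ∀ χ : IrrCharacter H, (χ : H → ℂ) 1 = 1 ∨ (χ : H → ℂ) 1 = (m : ℂ)) :
    derivedSeries H 2 = ⊥ := by
  have h := Cfsg.Agent.Lib.Helper74_TwoDegD.commutator_comm_of_twoDeg m hcd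
  rw [show (2 : ℕ) = 1 + 1 from rfl, derivedSeries_succ, derivedSeries_one, eq_bot_iff,
    Subgroup.commutator_le]
  intro a ha b hb
  rw [Subgroup.mem_bot, commutatorElement_eq_one_iff_commute]
  exact h a ha b hb

/-- PK-P4. Case P assembled. -/
theorem caseP [Group.IsSolvable G] (f g : ℕ) (hcd : CD3 G f g)
    (hg : ∃ χ : IrrCharacter G, (χ : G → ℂ) 1 = (g : ℂ)) (hf2 : 2 ≤ f) (hg2 : 2 ≤ g)
    (p c : ℕ) (hp : p.Prime) (hfp : f = p ^ c) (χ₀ : IrrCharacter G)
    (hχ₀ : (χ₀ : G → ℂ) 1 = (f : ℂ))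
    (hB : ∀ (ψ : IrrCharacter G) (d : ℕ), (ψ : G → ℂ) 1 = (d : ℂ) → ¬ p ∣ d →
      IsIrrCharacter G (fun x => (χ₀ : G → ℂ) x * (ψ : G → ℂ) x))
    (hnil : ¬ Group.IsNilpotent G)
    (hFnonab : ¬ ∀ a ∈ fittingSubgroup G, ∀ b ∈ fittingSubgroup G, a * b = b * a)
    (r : ℕ) (hr : r.Prime) (hFr : IsPGroup r (fittingSubgroup G))
    (hrX : ∀ X : Subgroup G, X.Normal → X ≠ ⊥ → r ∣ Nat.card X) :
    derivedSeries G 3 = ⊥ := by
  classical
  -- `p ∣ f`
  have hc0 : c ≠ 0 := by
    rintro rfl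
    rw [pow_zero] at hfp
    omega
  have hpf : p ∣ f := hfp ▸ dvd_pow_self p hc0
  -- `p ∣ g`
  have hpg : p ∣ g := by
    by_contra hpg
    obtain ⟨χg, hχg⟩ := hg
    have h3 := hcd ⟨_, hB χg g hχg hpg⟩
    simp only [hχ₀, hχg] at h3
    rcases h3 with h | h | h
    · have : f * g = 1 := by exact_mod_cast h
      nlinarith
    · have : f * g = f := by exact_mod_cast h
      nlinarith
    · have : f * g = g := by exact_mod_cast h
      nlinarith
  -- Thompson: a normal `p`-complement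
  obtain ⟨M, hMn, hMcop, k, hMidx⟩ := Cfsg.Agent.S4456.result (G := G) p hp (by
    intro χ hχ1
    rcases hcd χ with h | h | h
    · exfalso
      apply hχ1
      exact Cfsg.Agent.Lib.Helper75_CoprimeDeg.charDegree_eq_of_one_eq (d := 1)
        (by rw [h]; simp)
    · rw [Cfsg.Agent.Lib.Helper75_CoprimeDeg.charDegree_eq_of_one_eq h]
      exact hpf
    · rw [Cfsg.Agent.Lib.Helper75_CoprimeDeg.charDegree_eq_of_one_eq h]
      exact hpg)
  have hcdM := pcompl_degrees f g p c hp hfp hcd M hMcop ⟨k, hMidx⟩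
  by_cases hh : ordCompl[p] g = 1
  · -- `M` is abelian
    exfalso
    have hMab : ∀ a b : M, a * b = b * a := by
      apply Cfsg.Agent.Lib.Helper59_CliffordDeg.commute_of_all_linear
      intro θ
      rcases hcdM θ with h | h
      · exact h
      · rw [h, hh]
        simp
    by_cases hM0 : M = ⊥
    · -- `G` is a `p`-group
      apply hnil
      have hcard : Nat.card G = p ^ k := by
        rw [← hMidx, hM0, Subgroup.index_bot]
      have : Fact p.Prime := ⟨hp⟩
      exact (IsPGroup.of_card hcard).isNilpotent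
    · have hrM : r ∣ Nat.card M := hrX M hMn hM0
      have hrp : r ≠ p := by
        rintro rfl
        exact hr.one_lt.ne' (Nat.eq_one_of_dvd_coprimes hMcop hrM (dvd_refl r))
      -- `F(G) ≤ M`
      have : Fact r.Prime := ⟨hr⟩
      have hFM : fittingSubgroup G ≤ M := by
        have h1 : M.relIndex (M ⊔ fittingSubgroup G) ∣ Nat.card (fittingSubgroup G) :=
          Cfsg.Agent.Lib.Helper48_ThreeDegM.relIndex_sup_dvd_card M (fittingSubgroup G)
        have h2 : M.relIndex (M ⊔ fittingSubgroup G) ∣ M.index :=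
          Subgroup.relIndex_dvd_index_of_le le_sup_left
        obtain ⟨m, hm⟩ := IsPGroup.iff_card.mp hFr
        rw [hm] at h1
        rw [hMidx] at h2
        have hcop : (r ^ m).Coprime (p ^ k) :=
          Nat.Coprime.pow _ _ ((Nat.coprime_primes hr hp).mpr hrp)
        have h3 : M.relIndex (M ⊔ fittingSubgroup G) = 1 :=
          Nat.eq_one_of_dvd_coprimes hcop h1 h2
        rw [Subgroup.relIndex_eq_one] at h3
        exact le_trans le_sup_right h3
      apply hFnonab
      intro a ha b hb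
      exact congrArg Subtype.val (hMab ⟨a, hFM ha⟩ ⟨b, hFM hb⟩)
  · -- `h ≠ 1`
    have hM'n : (⁅M, M⁆ : Subgroup G).Normal := inferInstance
    have hq : derivedSeries (G ⧸ ⁅M, M⁆) 2 = ⊥ := by
      apply twoDeg_derived2' f
      intro χ
      have hirr := Cfsg.Agent.Lib.Helper57_FrobNorm.isIrrCharacter_comp_surjective
        (QuotientGroup.mk' ⁅M, M⁆) (QuotientGroup.mk'_surjective ⁅M, M⁆) χ.2
      have := Cfsg.Agent.Lib.Helper76_S4460_P3.pcompl_quot_degrees f g p c hp hfp hcd M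
        ⟨k, hMidx⟩ hh ⟨_, hirr⟩ (by
          intro x hx
          show (χ : G ⧸ ⁅M, M⁆ → ℂ) (QuotientGroup.mk' ⁅M, M⁆ x) =
            (χ : G ⧸ ⁅M, M⁆ → ℂ) (QuotientGroup.mk' ⁅M, M⁆ 1)
          have h1 : QuotientGroup.mk' ⁅M, M⁆ x = 1 := by
            rw [QuotientGroup.mk'_apply, QuotientGroup.eq_one_iff]
            exact hx
          rw [h1, map_one])
      simpa using this
    have hG2 : derivedSeries G 2 ≤ ⁅M, M⁆ := by
      have hmap := map_derivedSeries_eq (QuotientGroup.mk'_surjective ⁅M, M⁆) 2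
      rw [hq] at hmap
      have hle : derivedSeries G 2 ≤ (QuotientGroup.mk' ⁅M, M⁆).ker :=
        (Subgroup.map_eq_bot_iff _).mp hmap
      rwa [QuotientGroup.ker_mk'] at hle
    have hM2 := Cfsg.Agent.Lib.Helper74_TwoDegD.commutator_comm_of_twoDeg _ hcdM
    rw [show (3 : ℕ) = 2 + 1 from rfl, derivedSeries_succ, eq_bot_iff]
    refine le_trans (Subgroup.commutator_mono hG2 hG2) ?_
    rw [Subgroup.commutator_le]
    intro a ha b hb
    rw [Subgroup.mem_bot, commutatorElement_eq_one_iff_commute]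
    rw [← Subgroup.map_subtype_commutator] at ha hb
    obtain ⟨a', ha', rfl⟩ := ha
    obtain ⟨b', hb', rfl⟩ := hb
    exact congrArg M.subtype (hM2 a' ha' b' hb')

end Cfsg.Agent.Lib.Helper48_S4460_P4
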