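import Mathlib
import Cfsg.Prelude.Def_Characters
import Cfsg.Agent.Lib.Helper80_CharInd
import Cfsg.Agent.Lib.Helper80_CharBasic
import Cfsg.Agent.Lib.Helper74_LinAct
import Cfsg.Agent.Lib.Helper75_CharProd
import Cfsg.Agent.Lib.Helper80_RelM

/-!
# Isaacs 12.15, part (A), package PA1a (helper80)

`G` finite with `cd(G) ⊆ {1, m, n}`, `1 < m < n` coprime, every nonlinear irreducible character
faithful.  For `χ, χ'` of degree `m` and `ψ` of degree `n` : `[χ χ', ψ] = 0`.
-/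

set_option autoImplicit false

namespace Cfsg.Agent.Lib.Helper80_Isaacs1215_PA1a

open Cfsg
open scoped ComplexConjugate commutatorElement
open Cfsg.Agent.Lib.Helper74_LinAct

universe u

/-! ## arithmetic -/

theorem arith_core {ι : Type*} [Fintype ι] (d c : ι → ℕ) (m n N : ℕ) (hm : 1 < m) (hmn : m < n)
    (hd : ∀ i, d i = 1 ∨ d i = m ∨ d i = n) (h1 : ∀ i, d i = 1 → c i = 0)
    (hN : N = ∑ i, c i * d i) :
    N = m * (∑ i, if d i = m then c i else 0) + n * (∑ i, if d i = n then c i else 0) := by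
  rw [hN, Finset.mul_sum, Finset.mul_sum, ← Finset.sum_add_distrib]
  apply Finset.sum_congr rfl
  intro i _
  rcases hd i with h | h | h
  · rw [h1 i h]; simp
  · have h2 : ¬ (m = n) := by omega
    rw [h, if_pos rfl, if_neg h2]; ring
  · have h2 : ¬ (n = m) := by omega
    rw [h, if_pos rfl, if_neg h2]; ring

theorem arith_step1 (m n A B : ℕ) (hm : 1 < m) (hmn : m < n) (hcop : m.Coprime n)
    (h : m * m = m * A + n * B) : B = 0 := by
  have hdvd : m ∣ n * B := by
    have h1 : m ∣ m * A + n * B := h ▸ dvd_mul_right m m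
    exact (Nat.dvd_add_right (dvd_mul_right m A)).mp h1
  have hB : m ∣ B := hcop.dvd_of_dvd_mul_left hdvd
  by_contra hne
  have hle : m ≤ B := Nat.le_of_dvd (Nat.pos_of_ne_zero hne) hB
  have h2 : n * m ≤ n * B := Nat.mul_le_mul_left n hle
  have h3 : m * m < n * m := Nat.mul_lt_mul_of_pos_right hmn (by omega)
  have h4 : 0 ≤ m * A := Nat.zero_le _
  linarith

theorem arith_step2 (m n C D : ℕ) (hm : 1 < m) (hmn : m < n) (hcop : m.Coprime n) (hC : 1 ≤ C)
    (h : m * n = m * C + n * D) : D = 0 ∧ C = n := by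
  have hdvd : n ∣ m * C := by
    have h1 : n ∣ m * C + n * D := h ▸ dvd_mul_left n m
    exact (Nat.dvd_add_left (dvd_mul_right n D)).mp h1
  have hCn : n ∣ C := hcop.symm.dvd_of_dvd_mul_left hdvd
  have hle : n ≤ C := Nat.le_of_dvd hC hCn
  have h2 : m * n ≤ m * C := Nat.mul_le_mul_left m hle
  have hD : n * D = 0 := by omega
  have hn : n ≠ 0 := by omega
  have hD0 : D = 0 := by
    rcases Nat.mul_eq_zero.mp hD with h3 | h3
    · exact absurd h3 hn
    · exact h3
  refine ⟨hD0, ?_⟩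
  rw [hD0] at h
  have h3 : m * n = m * C := by omega
  have hm0 : 0 < m := by omega
  exact (Nat.eq_of_mul_eq_mul_left hm0 h3).symm

/-! ## conjugate characters -/

section

variable {G : Type u} [Group G] [Fintype G]

/-- the complex conjugate irreducible character -/
noncomputable def cj (χ : IrrCharacter G) : IrrCharacter G :=
  ⟨fun g => conj ((χ : G → ℂ) g), Cfsg.Agent.Lib.Helper75_CharProd.isIrrCharacter_conj χ.2⟩

theorem cj_apply (χ : IrrCharacter G) (g : G) :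
    (cj χ : G → ℂ) g = conj ((χ : G → ℂ) g) := rfl

theorem cj_cj (χ : IrrCharacter G) : cj (cj χ) = χ := by
  apply Subtype.ext
  funext g
  simp [cj_apply]

theorem cj_one (χ : IrrCharacter G) (d : ℕ) (h : (χ : G → ℂ) 1 = d) :
    (cj χ : G → ℂ) 1 = d := by
  rw [cj_apply, h]; simp

theorem inner_mul_lin (χ χ' : IrrCharacter G) (f : G →* ℂˣ) :
    classInner (fun g => (χ : G → ℂ) g * (χ' : G → ℂ) g) (lin f : G → ℂ) =
      classInner (χ' : G → ℂ) (twist f (cj χ) : G → ℂ) := by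
  unfold classInner
  congr 1
  apply Finset.sum_congr rfl
  intro g _
  simp only [lin_apply, twist_apply, cj_apply, map_mul, Complex.conj_conj]
  ring

theorem inner_swap (χ ψ ξ : IrrCharacter G) :
    classInner (fun g => (χ : G → ℂ) g * (ψ : G → ℂ) g) (ξ : G → ℂ) =
      conj (classInner (fun g => (cj χ : G → ℂ) g * (ξ : G → ℂ) g) (ψ : G → ℂ)) := by
  unfold classInner
  rw [map_mul, map_inv₀, Complex.conj_natCast, map_sum]
  congr 1
  apply Finset.sum_congr rfl
  intro g _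
  simp only [cj_apply, map_mul, Complex.conj_conj]
  ring

theorem inner_twist (χ ψ : IrrCharacter G) (f : G →* ℂˣ) :
    classInner (fun g => (χ : G → ℂ) g * (twist f (cj χ) : G → ℂ) g) (ψ : G → ℂ) =
      classInner (fun g => (χ : G → ℂ) g * conj ((χ : G → ℂ) g)) (twist f⁻¹ ψ : G → ℂ) := by
  unfold classInner
  congr 1
  apply Finset.sum_congr rfl
  intro g _
  have h : conj (((f⁻¹) g : ℂˣ) : ℂ) = ((f g : ℂˣ) : ℂ) := by
    rw [conj_hom, MonoidHom.inv_apply, MonoidHom.inv_apply, inv_inv]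
  simp only [twist_apply, cj_apply, map_mul, h]
  ring

omit [Fintype G] in
theorem hom_eq_one_of_mem_commutator (f : G →* ℂˣ) {g : G} (hg : g ∈ commutator G) :
    f g = 1 := by
  have h := Abelianization.commutator_subset_ker f hg
  exact h

/-- common set-up : decomposition of a character whose linear constituents vanish -/
theorem decomp [Fintype (IrrCharacter G)] (m n : ℕ) (hm : 1 < m) (hmn : m < n)
    (hcd : ∀ χ : IrrCharacter G, (χ : G → ℂ) 1 = 1 ∨ (χ : G → ℂ) 1 = m ∨ (χ : G → ℂ) 1 = n)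
    (φ : G → ℂ) (hφ : IsCharacter G φ) (N : ℕ) (hN : φ 1 = N)
    (hlin : ∀ f : G →* ℂˣ, classInner φ (lin f : G → ℂ) = 0) :
    ∃ (c d : IrrCharacter G → ℕ), (∀ ξ : IrrCharacter G, classInner φ (ξ : G → ℂ) = c ξ) ∧
      (∀ ξ : IrrCharacter G, (ξ : G → ℂ) 1 = d ξ) ∧
      φ = ∑ ξ : IrrCharacter G, (c ξ : ℂ) • (ξ : G → ℂ) ∧
      (∀ ξ, d ξ = 1 ∨ d ξ = m ∨ d ξ = n) ∧ (∀ ξ, d ξ = 1 → c ξ = 0) ∧
      N = m * (∑ ξ, if d ξ = m then c ξ else 0) + n * (∑ ξ, if d ξ = n then c ξ else 0) := by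
  classical
  obtain ⟨c, hc, hexp⟩ := Cfsg.Agent.Lib.Helper80_CharInd.char_decomp φ hφ
  choose d hdpos hd using fun ξ : IrrCharacter G =>
    Cfsg.Agent.Lib.Helper80_CharBasic.irr_apply_one ξ
  have hd' : ∀ ξ, d ξ = 1 ∨ d ξ = m ∨ d ξ = n := by
    intro ξ
    rcases hcd ξ with h | h | h
    · left; rw [hd ξ] at h; exact_mod_cast h
    · right; left; rw [hd ξ] at h; exact_mod_cast h
    · right; right; rw [hd ξ] at h; exact_mod_cast h
  have h1 : ∀ ξ, d ξ = 1 → c ξ = 0 := by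
    intro ξ hξ
    have hξ1 : (ξ : G → ℂ) 1 = 1 := by rw [hd ξ, hξ]; simp
    obtain ⟨f, rfl⟩ := exists_lin_of_one hξ1
    have := hc (lin f)
    rw [hlin f] at this
    exact_mod_cast this.symm
  have hsum : N = ∑ ξ, c ξ * d ξ := by
    have h2 := congrFun hexp 1
    simp only [Finset.sum_apply, Pi.smul_apply, smul_eq_mul, hd, hN] at h2
    exact_mod_cast h2
  exact ⟨c, d, hc, hd, hexp, hd', h1, arith_core d c m n N hm hmn hd' h1 hsum⟩

/-- Step 1 -/
theorem step1 [Fintype (IrrCharacter G)] (m n : ℕ) (hm : 1 < m) (hmn : m < n)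
    (hcop : m.Coprime n)
    (hcd : ∀ χ : IrrCharacter G, (χ : G → ℂ) 1 = 1 ∨ (χ : G → ℂ) 1 = m ∨ (χ : G → ℂ) 1 = n)
    (χ χ' ψ : IrrCharacter G) (hχ : (χ : G → ℂ) 1 = m) (hχ' : (χ' : G → ℂ) 1 = m)
    (hψ : (ψ : G → ℂ) 1 = n) (hno : ∀ f : G →* ℂˣ, χ' ≠ twist f (cj χ)) :
    classInner (fun g => (χ : G → ℂ) g * (χ' : G → ℂ) g) (ψ : G → ℂ) = 0 := by
  classical
  have hφ : IsCharacter G (fun g => (χ : G → ℂ) g * (χ' : G → ℂ) g) :=
    Cfsg.Agent.Lib.Helper75_CharProd.isCharacter_mul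
      (Cfsg.Agent.Lib.Helper3_CharBridge.isCharacter_of_isIrrCharacter χ.2)
      (Cfsg.Agent.Lib.Helper3_CharBridge.isCharacter_of_isIrrCharacter χ'.2)
  have hN : (fun g => (χ : G → ℂ) g * (χ' : G → ℂ) g) 1 = ((m * m : ℕ) : ℂ) := by
    show (χ : G → ℂ) 1 * (χ' : G → ℂ) 1 = _
    rw [hχ, hχ']; push_cast; ring
  have hlin : ∀ f : G →* ℂˣ,
      classInner (fun g => (χ : G → ℂ) g * (χ' : G → ℂ) g) (lin f : G → ℂ) = 0 := by
    intro f
    rw [inner_mul_lin, Cfsg.Agent.Lib.Helper3_CharOrtho.classInner_irr χ'.2 (twist f (cj χ)).2,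
      if_neg]
    intro h
    exact hno f (Subtype.ext h)
  obtain ⟨c, d, hc, hd, _, hd', _, hsum⟩ := decomp m n hm hmn hcd _ hφ (m * m) hN hlin
  have hB := arith_step1 m n _ _ hm hmn hcop hsum
  rw [Finset.sum_eq_zero_iff] at hB
  have h2 := hB ψ (Finset.mem_univ ψ)
  have hdψ : d ψ = n := by
    have := hd ψ
    rw [hψ] at this
    exact_mod_cast this.symm
  rw [if_pos hdψ] at h2
  rw [hc ψ, h2]
  simp

/-- Steps 2 and 3 -/
theorem step3 [Fintype (IrrCharacter G)] (m n : ℕ) (hm : 1 < m) (hmn : m < n)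
    (hcop : m.Coprime n)
    (hcd : ∀ χ : IrrCharacter G, (χ : G → ℂ) 1 = 1 ∨ (χ : G → ℂ) 1 = m ∨ (χ : G → ℂ) 1 = n)
    (hfaith : ∀ χ : IrrCharacter G, (χ : G → ℂ) 1 ≠ 1 →
      ∀ g : G, (χ : G → ℂ) g = (χ : G → ℂ) 1 → g = 1)
    (χ ψ : IrrCharacter G) (hχ : (χ : G → ℂ) 1 = m) (hψ : (ψ : G → ℂ) 1 = n) :
    classInner (fun g => (χ : G → ℂ) g * conj ((χ : G → ℂ) g)) (ψ : G → ℂ) = 0 := by
  classical
  by_contra hne
  have hφ : IsCharacter G (fun g => (χ : G → ℂ) g * (ψ : G → ℂ) g) :=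
    Cfsg.Agent.Lib.Helper75_CharProd.isCharacter_mul
      (Cfsg.Agent.Lib.Helper3_CharBridge.isCharacter_of_isIrrCharacter χ.2)
      (Cfsg.Agent.Lib.Helper3_CharBridge.isCharacter_of_isIrrCharacter ψ.2)
  have hN : (fun g => (χ : G → ℂ) g * (ψ : G → ℂ) g) 1 = ((m * n : ℕ) : ℂ) := by
    show (χ : G → ℂ) 1 * (ψ : G → ℂ) 1 = _
    rw [hχ, hψ]; push_cast; ring
  have hmn' : (m : ℂ) ≠ n := by
    intro h
    have : m = n := by exact_mod_cast h
    omega
  have hlin : ∀ f : G →* ℂˣ,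
      classInner (fun g => (χ : G → ℂ) g * (ψ : G → ℂ) g) (lin f : G → ℂ) = 0 := by
    intro f
    rw [inner_mul_lin, Cfsg.Agent.Lib.Helper3_CharOrtho.classInner_irr ψ.2 (twist f (cj χ)).2,
      if_neg]
    intro h
    have h2 := congrFun h 1
    rw [twist_one_apply, cj_one χ m hχ, hψ] at h2
    exact hmn' h2.symm
  obtain ⟨c, d, hc, hd, hexp, hd', h1, hsum⟩ := decomp m n hm hmn hcd _ hφ (m * n) hN hlin
  have hdχ : d χ = m := by
    have := hd χ
    rw [hχ] at this
    exact_mod_cast this.symm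
  -- `χ` is a constituent
  have hcχ : c χ ≠ 0 := by
    intro h0
    apply hne
    have h2 := hc χ
    rw [inner_swap, h0] at h2
    have h3 : classInner (fun g => (cj χ : G → ℂ) g * (χ : G → ℂ) g) (ψ : G → ℂ) = 0 := by
      have := congrArg conj h2
      simpa using this
    rw [← h3]
    unfold classInner
    congr 1
    apply Finset.sum_congr rfl
    intro g _
    simp only [cj_apply]
    ring
  -- constituents of degree `m` are twists of `χ`
  have hmdeg : ∀ ξ, d ξ = m → c ξ ≠ 0 → ∃ f : G →* ℂˣ, ξ = twist f χ := by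
    intro ξ hξ hcξ
    by_contra hcon
    push Not at hcon
    apply hcξ
    have hξ1 : (ξ : G → ℂ) 1 = m := by rw [hd ξ, hξ]
    have h2 := step1 m n hm hmn hcop hcd (cj χ) ξ ψ (cj_one χ m hχ) hξ1 hψ
      (by rw [cj_cj]; exact hcon)
    have h3 := hc ξ
    rw [inner_swap, h2, map_zero] at h3
    exact_mod_cast h3.symm
  -- arithmetic
  have hC : 1 ≤ ∑ ξ, (if d ξ = m then c ξ else 0) := by
    have h2 : (if d χ = m then c χ else 0) ≤ ∑ ξ, (if d ξ = m then c ξ else 0) :=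
      Finset.single_le_sum (f := fun ξ => if d ξ = m then c ξ else 0)
        (fun i _ => Nat.zero_le _) (Finset.mem_univ χ)
    rw [if_pos hdχ] at h2
    have : 1 ≤ c χ := Nat.one_le_iff_ne_zero.mpr hcχ
    omega
  obtain ⟨hD, hCn⟩ := arith_step2 m n _ _ hm hmn hcop hC hsum
  rw [Finset.sum_eq_zero_iff] at hD
  have hall : ∀ ξ, c ξ ≠ 0 → d ξ = m ∧ ∃ f : G →* ℂˣ, ξ = twist f χ := by
    intro ξ hcξ
    have hdm : d ξ = m := by
      rcases hd' ξ with h | h | h
      · exact absurd (h1 ξ h) hcξ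
      · exact h
      · have := hD ξ (Finset.mem_univ ξ)
        rw [if_pos h] at this
        exact absurd this hcξ
    exact ⟨hdm, hmdeg ξ hdm hcξ⟩
  have hsumc : ∑ ξ, c ξ = n := by
    rw [← hCn]
    apply Finset.sum_congr rfl
    intro ξ _
    by_cases h : c ξ = 0
    · rw [h]; simp
    · rw [if_pos (hall ξ h).1]
  -- values on the commutator subgroup
  have hval : ∀ g ∈ commutator G, (χ : G → ℂ) g * (ψ : G → ℂ) g = n * (χ : G → ℂ) g := by
    intro g hg
    have h2 := congrFun hexp g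
    simp only [Finset.sum_apply, Pi.smul_apply, smul_eq_mul] at h2
    rw [h2]
    have h3 : ∀ ξ ∈ (Finset.univ : Finset (IrrCharacter G)),
        (c ξ : ℂ) * (ξ : G → ℂ) g = (c ξ : ℂ) * (χ : G → ℂ) g := by
      intro ξ _
      by_cases h : c ξ = 0
      · rw [h]; simp
      · obtain ⟨f, rfl⟩ := (hall ξ h).2
        rw [twist_apply, hom_eq_one_of_mem_commutator f hg]
        simp
    rw [Finset.sum_congr rfl h3, ← Finset.sum_mul, ← Nat.cast_sum, hsumc]
  have hn1 : (ψ : G → ℂ) 1 ≠ 1 := by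
    rw [hψ]
    intro h
    have : n = 1 := by exact_mod_cast h
    omega
  have hvan : ∀ g ∈ commutator G, g ≠ 1 → (χ : G → ℂ) g = 0 := by
    intro g hg hg1
    by_contra h0
    apply hg1
    apply hfaith ψ hn1 g
    have h2 := hval g hg
    rw [hψ]
    have h3 : (χ : G → ℂ) g * ((ψ : G → ℂ) g - n) = 0 := by
      rw [mul_sub, h2]; ring
    rcases mul_eq_zero.mp h3 with h4 | h4
    · exact absurd h4 h0
    · exact sub_eq_zero.mp h4
  -- Clifford with the trivial character of the commutator subgroup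
  have hNn : (commutator G).Normal := inferInstance
  have : Fintype (commutator G) := Fintype.ofFinite _
  have hsumN : ∑ x : commutator G, (χ : G → ℂ) (x : G) = m := by
    rw [Finset.sum_eq_single (1 : commutator G)]
    · rw [OneMemClass.coe_one, hχ]
    · intro x _ hx
      apply hvan x x.2
      intro h
      apply hx
      exact Subtype.ext h
    · intro h
      exact absurd (Finset.mem_univ _) h
  have hinner : classInner (Cfsg.Agent.Lib.Helper75_Clifford.res (commutator G) (χ : G → ℂ))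
      (fun _ => (1 : ℂ)) ≠ 0 := by
    unfold classInner
    have h2 : ∑ x : commutator G,
        Cfsg.Agent.Lib.Helper75_Clifford.res (commutator G) (χ : G → ℂ) x * conj (1 : ℂ) = m := by
      rw [← hsumN]
      apply Finset.sum_congr rfl
      intro x _
      rw [Cfsg.Agent.Lib.Helper75_Clifford.res_apply, map_one, mul_one]
    rw [h2]
    apply mul_ne_zero
    · apply inv_ne_zero
      exact_mod_cast Nat.card_pos.ne'
    · have : m ≠ 0 := by omega
      exact_mod_cast this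
  have hcl := Cfsg.Agent.Lib.Helper75_CharProd.res_eq_smul_of_invariant (commutator G) hNn χ.2
    (Cfsg.Agent.Lib.Helper80_CharBasic.isIrrCharacter_one (commutator G))
    (fun g => rfl) hinner
  have hconst : ∀ x : commutator G, (χ : G → ℂ) (x : G) = (χ : G → ℂ) 1 := by
    intro x
    have h2 := congrFun hcl x
    have h3 := congrFun hcl 1
    rw [Cfsg.Agent.Lib.Helper75_Clifford.res_apply] at h2 h3
    rw [OneMemClass.coe_one] at h3
    rw [h2, h3]
    simp
  have hlin1 := Cfsg.Agent.Lib.Helper80_RelM.linear_of_commutator χ (fun a b =>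
    hconst ⟨⁅a, b⁆, Subgroup.commutator_mem_commutator (Subgroup.mem_top a) (Subgroup.mem_top b)⟩)
  rw [hχ] at hlin1
  have : m = 1 := by exact_mod_cast hlin1
  omega

end

/-- **PA1a** -/
theorem PA1a {G : Type u} [Group G] [Fintype G] (m n : ℕ) (hm : 1 < m) (hmn : m < n)
    (hcop : m.Coprime n)
    (hcd : ∀ χ : IrrCharacter G, (χ : G → ℂ) 1 = 1 ∨ (χ : G → ℂ) 1 = m ∨ (χ : G → ℂ) 1 = n)
    (hfaith : ∀ χ : IrrCharacter G, (χ : G → ℂ) 1 ≠ 1 →
      ∀ g : G, (χ : G → ℂ) g = (χ : G → ℂ) 1 → g = 1)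
    (χ χ' ψ : IrrCharacter G) (hχ : (χ : G → ℂ) 1 = m) (hχ' : (χ' : G → ℂ) 1 = m)
    (hψ : (ψ : G → ℂ) 1 = n) :
    classInner (fun g => (χ : G → ℂ) g * (χ' : G → ℂ) g) (ψ : G → ℂ) = 0 := by
  classical
  have : Fintype (IrrCharacter G) := Fintype.ofFinite _
  by_cases h : ∃ f : G →* ℂˣ, χ' = twist f (cj χ)
  · obtain ⟨f, rfl⟩ := h
    rw [inner_twist]
    apply step3 m n hm hmn hcop hcd hfaith χ (twist f⁻¹ ψ) hχ
    rw [twist_one_apply, hψ]
  · push Not at h
    exact step1 m n hm hmn hcop hcd χ χ' ψ hχ hχ' hψ h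

end Cfsg.Agent.Lib.Helper80_Isaacs1215_PA1a
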