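import Mathlib
import Cfsg.Agent.Lib.Helper97_SpTensBasic

set_option autoImplicit false
set_option linter.unusedSectionVars false
set_option linter.unusedVariables false

/-!
# SP3 package LEVI1 (`levi_tensor`) of helper97's project `Sp_{2m}(q) ⊗ O_3(q)` maximal in `Sp_{6m}(q)`
-/

namespace Cfsg.Agent.Lib.Helper48_SP3_LEVI1

open Matrix Module
open Cfsg.Agent.Lib.Helper98_ExtDefs Cfsg.Agent.Lib.Helper97_TensDefs
  Cfsg.Agent.Lib.Helper97_SpTensDefs Cfsg.Agent.Lib.Helper97_SpTensBasic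
  Cfsg.Agent.Lib.Helper13_Symp Cfsg.Agent.Lib.Helper13_SympTrans Cfsg.Agent.Lib.Helper97_TensBasic

variable {F : Type*} [Field F] [Fintype F] {m : ℕ}

local notation "V" => Matrix (Fin m ⊕ Fin m) (Fin 3) F

theorem ctr_add_left48 (x u : Fin m ⊕ Fin m → F) (Z : V) :
    ctr m (x + u) Z = ctr m x Z + ctr m u Z := by
  funext k
  simp only [ctr, Pi.add_apply, sympForm_add_right]

theorem vecMulVec_zero48 (x : Fin m ⊕ Fin m → F) : vecMulVec x (0 : Fin 3 → F) = 0 := by
  ext i k; simp [vecMulVec_apply]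

/-- `q_u = (1 + n_u) ⊗ 1 ∈ M` for `u ⊥ x`, `n_u v = sympForm v x • u + sympForm v u • x` -/
theorem hasMap_qu {M : Subgroup (V ≃ₗ[F] V)} (hK : KronSp m M) (x u : Fin m ⊕ Fin m → F)
    (hu : Cfsg.sympForm m F u x = 0) :
    HasMap M (fun X => X + (vecMulVec u (ctr m x X) + vecMulVec x (ctr m u X))) := by
  have h1 := hasMap_root hK (x + u) 1
  have h2 := hasMap_root hK x (-1)
  have h3 := hasMap_root hK u (-1)
  have hxu : Cfsg.sympForm m F x u = 0 := by rw [sympForm_swap, hu, neg_zero]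
  refine hasMap_congr (fun X => ?_) (hasMap_comp h1 (hasMap_comp h2 h3))
  show (X + (-1 : F) • nA m u X + (-1 : F) • nA m x (X + (-1 : F) • nA m u X))
      + (1 : F) • nA m (x + u) (X + (-1 : F) • nA m u X + (-1 : F) • nA m x (X + (-1 : F) • nA m u X))
      = X + (vecMulVec u (ctr m x X) + vecMulVec x (ctr m u X))
  have e1 : ctr m x (X + (-1 : F) • nA m u X) = ctr m x X := by
    rw [ctr_add, ctr_smul, nA_apply, ctr_vecMulVec, hu, zero_smul, smul_zero, add_zero]
  have e2 : ctr m u (X + (-1 : F) • nA m u X) = ctr m u X := by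
    rw [ctr_add, ctr_smul, nA_apply, ctr_vecMulVec, sympForm_self, zero_smul, smul_zero, add_zero]
  have e3 : ctr m x (X + (-1 : F) • nA m u X + (-1 : F) • nA m x (X + (-1 : F) • nA m u X))
      = ctr m x X := by
    rw [ctr_add, e1, ctr_smul, nA_apply, ctr_vecMulVec, sympForm_self, zero_smul, smul_zero, add_zero]
  have e4 : ctr m u (X + (-1 : F) • nA m u X + (-1 : F) • nA m x (X + (-1 : F) • nA m u X))
      = ctr m u X := by
    rw [ctr_add, e2, ctr_smul, nA_apply, ctr_vecMulVec, hxu, zero_smul, smul_zero, add_zero]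
  rw [nA_apply m (x + u), ctr_add_left48, e3, e4, nA_apply m x, e1, nA_apply m u, one_smul,
    add_vecMulVec, vecMulVec_add, vecMulVec_add, neg_one_smul, neg_one_smul]
  abel

theorem exists_sympForm_eq_one48 {x : Fin m ⊕ Fin m → F} (hx : x ≠ 0) :
    ∃ x' : Fin m ⊕ Fin m → F, Cfsg.sympForm m F x' x = 1 := by
  obtain ⟨w, hw⟩ := exists_sympForm_ne_zero m hx
  have hw' : Cfsg.sympForm m F w x ≠ 0 := by
    rw [sympForm_swap]; exact neg_ne_zero.mpr hw
  refine ⟨(Cfsg.sympForm m F w x)⁻¹ • w, ?_⟩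
  rw [sympForm_smul_left, inv_mul_cancel₀ hw']

theorem levi_tensor (h2 : (2 : F) ≠ 0) (M : Subgroup (V ≃ₗ[F] V)) (hSp : MSp m M) (hK : KronSp m M)
    (x : Fin m ⊕ Fin m → F) (hx : x ≠ 0)
    (hqrad : ∀ g' ∈ M, (∀ y : Fin 3 → F, g' (vecMulVec x y) = vecMulVec x y) →
      (∀ X : V, ctr m x X = 0 → g' X - X ∈ bfib x) → IsKron g')
    (g : V ≃ₗ[F] V) (hg : g ∈ M) (hg1 : ∀ y : Fin 3 → F, g (vecMulVec x y) = vecMulVec x y) :
    ∀ u : Fin m ⊕ Fin m → F, Cfsg.sympForm m F u x = 0 →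
      ∃ γ : Fin m ⊕ Fin m → F, Cfsg.sympForm m F γ x = 0 ∧
        ∀ b : Fin 3 → F, g (vecMulVec u b) - vecMulVec γ b ∈ bfib x := by
  intro u hu
  obtain ⟨q, hqM, hq0⟩ := hasMap_qu hK x u hu
  have hq : ∀ X : V, q X = X + (vecMulVec u (ctr m x X) + vecMulVec x (ctr m u X)) := hq0
  have hxu : Cfsg.sympForm m F x u = 0 := by rw [sympForm_swap, hu, neg_zero]
  have hkM : g * q * g⁻¹ ∈ M := M.mul_mem (M.mul_mem hg hqM) (M.inv_mem hg)
  have hkX : ∀ X, (g * q * g⁻¹) X = g (q (g.symm X)) := fun X => rfl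
  have hgs : ∀ y, g.symm (vecMulVec x y) = vecMulVec x y := by
    intro y
    rw [LinearEquiv.symm_apply_eq, hg1]
  -- `ctr x (g⁻¹ X) = ctr x X`
  have hctr : ∀ X, ctr m x (g.symm X) = ctr m x X := by
    intro X
    have hb : ∀ b', be (ctr m x (g.symm X)) b' = be (ctr m x X) b' := by
      intro b'
      rw [← tf_vecMulVec_right, ← tf_vecMulVec_right, ← hSp g hg (g.symm X) (vecMulVec x b'), hg1,
        LinearEquiv.apply_symm_apply]
    have h0 := eq_zero_of_be (ctr m x (g.symm X) - ctr m x X)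
      (fun y' => by rw [be_sub_left, hb, sub_self])
    exact sub_eq_zero.mp h0
  -- `ctr x (g X) = ctr x X`
  have hctr' : ∀ X, ctr m x (g X) = ctr m x X := by
    intro X
    have := hctr (g X)
    rw [LinearEquiv.symm_apply_apply] at this
    exact this.symm
  have hk1 : ∀ y, (g * q * g⁻¹) (vecMulVec x y) = vecMulVec x y := by
    intro y
    rw [hkX, hgs, hq, ctr_self, ctr_vecMulVec, hxu, zero_smul, vecMulVec_zero48, vecMulVec_zero48,
      add_zero, add_zero, hg1]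
  have hk2 : ∀ X, ctr m x X = 0 → (g * q * g⁻¹) X - X ∈ bfib x := by
    intro X hX
    rw [hkX, hq, hctr, hX, vecMulVec_zero48, zero_add, map_add, LinearEquiv.apply_symm_apply, hg1,
      add_sub_cancel_left]
    exact vecMulVec_mem_bfib _ _
  obtain ⟨P, Q, hPQ⟩ := hqrad _ hkM hk1 hk2
  -- `Q` is scalar
  obtain ⟨i, hi⟩ : ∃ i, x i ≠ 0 := by
    by_contra hcon
    push Not at hcon
    exact hx (funext hcon)
  have hpq : ∀ (y : Fin 3 → F) (k : Fin 3), (P *ᵥ x) i * (Q *ᵥ y) k = x i * y k := by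
    intro y k
    have h := hk1 y
    rw [hPQ, kron_vecMulVec] at h
    have := congrFun (congrFun h i) k
    simpa [vecMulVec_apply] using this
  have hp : (P *ᵥ x) i ≠ 0 := by
    intro h0
    have := hpq e0 0
    rw [h0, zero_mul] at this
    have h1 : (e0 : Fin 3 → F) 0 = 1 := by simp [e0]
    rw [h1, mul_one] at this
    exact hi this.symm
  have hQ : ∀ y : Fin 3 → F, Q *ᵥ y = (x i / (P *ᵥ x) i) • y := by
    intro y
    funext k
    rw [Pi.smul_apply, smul_eq_mul, div_mul_eq_mul_div, eq_div_iff hp, mul_comm]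
    exact hpq y k
  obtain ⟨x', hx'⟩ := exists_sympForm_eq_one48 hx
  have hmain : ∀ b : Fin 3 → F,
      g (vecMulVec u b) - vecMulVec ((x i / (P *ᵥ x) i) • (P *ᵥ x') - x') b ∈ bfib x := by
    intro b
    have hkb : (g * q * g⁻¹) (vecMulVec x' b) = vecMulVec x' b + (g (vecMulVec u b)
        + vecMulVec x (ctr m u (g.symm (vecMulVec x' b)))) := by
      rw [hkX, hq, hctr, ctr_vecMulVec, hx', one_smul, map_add, map_add,
        LinearEquiv.apply_symm_apply, hg1]
    have hkb' : (g * q * g⁻¹) (vecMulVec x' b)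
        = vecMulVec ((x i / (P *ᵥ x) i) • (P *ᵥ x')) b := by
      rw [hPQ, kron_vecMulVec, hQ, vecMulVec_smul, smul_vecMulVec]
    refine ⟨- ctr m u (g.symm (vecMulVec x' b)), ?_⟩
    rw [sub_vecMulVec, ← hkb', hkb, vecMulVec_neg]
    abel
  refine ⟨(x i / (P *ᵥ x) i) • (P *ᵥ x') - x', ?_, hmain⟩
  have h0 := ctr_eq_zero_of_mem_bfib (hmain e0)
  rw [ctr_sub, hctr', ctr_vecMulVec, ctr_vecMulVec, hu, zero_smul, zero_sub, neg_eq_zero] at h0
  have h1 := congrFun h0 0
  simpa [e0] using h1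

end Cfsg.Agent.Lib.Helper48_SP3_LEVI1
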