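import Mathlib
import Cfsg.Agent.Lib.Helper18_TF4InvFacts

/-!
# S2184 (architect helper18): the end of the proof, from the reduction of the involutions (helper48)

`hred`: every involution of `G` is conjugate in `G` to `u4 σ 0 1` or to `u1 σ 1`.  Then `G` has exactly two classes of
involutions (`main_of_red`: the two elements are involutions by `Phi_rmul4`, `Phi_rmul1` and the injectivity of `Phi`, and
they are not conjugate by `Facts.nonconj`), and so has every normal subgroup `T` of index two that contains all involutions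
but not `u8 σ 1 0` (`tits_main_of_red`: `u8 σ 1 0` centralizes `u4 σ 0 1` and `u7 σ 1`, the conjugate of `u1 σ 1` under `n_B`,
so conjugacy under `G` to one of them is conjugacy under `T`).
-/

set_option autoImplicit false

namespace Cfsg.Agent.Lib.Helper48_TF4I_FIN

open Cfsg Cfsg.Lie Cfsg.Agent.Lib.Helper18_ChevGL Cfsg.Agent.Lib.Helper18_ChevUni
  Cfsg.Agent.Lib.Helper36_F4Setup Cfsg.Agent.Lib.Helper18_TF4Swap Cfsg.Agent.Lib.Helper18_TF4Inv

/-- Two classes of involutions: two non-conjugate involutions such that every involution is conjugate to one of them. -/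
theorem ncard_invol_classes {H : Type*} [Group H] (a b : H) (ha : orderOf a = 2) (hb : orderOf b = 2)
    (hab : ¬ IsConj a b) (hall : ∀ g : H, orderOf g = 2 → IsConj g a ∨ IsConj g b) :
    (ConjClasses.mk '' {g : H | orderOf g = 2}).ncard = 2 := by
  have h : ConjClasses.mk '' {g : H | orderOf g = 2} = {ConjClasses.mk a, ConjClasses.mk b} := by
    ext c
    constructor
    · rintro ⟨g, hg, rfl⟩
      rcases hall g hg with h | h
      · left; exact ConjClasses.mk_eq_mk_iff_isConj.mpr h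
      · right; exact ConjClasses.mk_eq_mk_iff_isConj.mpr h
    · rintro (rfl | rfl)
      · exact ⟨a, ha, rfl⟩
      · exact ⟨b, hb, rfl⟩
  rw [h, Set.ncard_pair]
  intro h'
  exact hab (ConjClasses.mk_eq_mk_iff_isConj.mp h')

section

variable {K : Type*} [Field K] [CharP K 2] (σ : K →+* K) (G : Subgroup (GL chevF4.Idx K))

omit [CharP K 2] in
theorem isConj_iff_Cj {G : Subgroup (GL chevF4.Idx K)} (x y : ↥G) : IsConj x y ↔ Cj G (x : GL chevF4.Idx K) y := by
  rw [isConj_iff]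
  constructor
  · rintro ⟨c, hc⟩
    refine ⟨c, c.2, ?_⟩
    rw [← hc]
    simp
  · rintro ⟨c, hc, h⟩
    refine ⟨⟨c, hc⟩, ?_⟩
    apply Subtype.ext
    rw [← h]
    simp

omit [CharP K 2] in
theorem orderOf_two_of {G : Subgroup (GL chevF4.Idx K)} {g : GL chevF4.Idx K} (hg : g ∈ G) (h2 : g * g = 1) (h1 : g ≠ 1) :
    orderOf (⟨g, hg⟩ : ↥G) = 2 := by
  have : Fact (Nat.Prime 2) := ⟨Nat.prime_two⟩
  apply orderOf_eq_prime
  · apply Subtype.ext
    rw [pow_two]
    exact h2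
  · intro h
    apply h1
    exact congrArg Subtype.val h

variable {σ} {G}

theorem u4_sq (F : Facts σ G) : u4 σ 0 1 * u4 σ 0 1 = 1 := by
  have h := Phi_rmul4 σ F.sig (e4 0 1) 0 1
  rw [Phi_e4] at h
  rw [h, ← Phi_zero σ]
  congr 1
  ext <;> simp [rmul4, e4, CharTwo.add_self_eq_zero]

theorem u1_sq (F : Facts σ G) : u1 σ 1 * u1 σ 1 = 1 := by
  have h := Phi_rmul1 σ F.sig (e1 1) 1
  rw [Phi_e1] at h
  rw [h, ← Phi_zero σ]
  congr 1
  ext <;> simp [rmul1, e1, CharTwo.add_self_eq_zero]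

theorem u7_sq (F : Facts σ G) : u7 σ 1 * u7 σ 1 = 1 := by
  have h := Phi_rmul7 σ F.sig (e7 1) 1
  rw [Phi_e7] at h
  rw [h, ← Phi_zero σ]
  congr 1
  ext <;> simp [rmul7, e7, CharTwo.add_self_eq_zero]

omit [CharP K 2] in
theorem u4_ne (F : Facts σ G) : u4 σ 0 1 ≠ 1 := by
  rw [← Phi_e4, ← Phi_zero σ]
  intro h
  have := congrArg T12.f (F.inj h)
  simp [e4] at this

omit [CharP K 2] in
theorem u1_ne (F : Facts σ G) : u1 σ 1 ≠ 1 := by
  rw [← Phi_e1, ← Phi_zero σ]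
  intro h
  have := congrArg T12.a (F.inj h)
  simp [e1] at this

omit [CharP K 2] in
theorem u7_ne (F : Facts σ G) : u7 σ 1 ≠ 1 := by
  rw [← Phi_e7, ← Phi_zero σ]
  intro h
  have := congrArg T12.j (F.inj h)
  simp [e7] at this

theorem u8_comm_u4 (F : Facts σ G) : u8 σ 1 0 * u4 σ 0 1 = u4 σ 0 1 * u8 σ 1 0 := by
  have h1 := Phi_rmul4 σ F.sig (e8 1 0) 0 1
  have h2 := Phi_rmul8 σ F.sig (e4 0 1) 1 0
  rw [Phi_e8] at h1
  rw [Phi_e4] at h2
  rw [h1, h2]
  congr 1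
  ext <;> simp [rmul4, rmul8, e4, e8]

theorem u8_comm_u7 (F : Facts σ G) : u8 σ 1 0 * u7 σ 1 = u7 σ 1 * u8 σ 1 0 := by
  have h1 := Phi_rmul7 σ F.sig (e8 1 0) 1
  have h2 := Phi_rmul8 σ F.sig (e7 1) 1 0
  rw [Phi_e8] at h1
  rw [Phi_e7] at h2
  rw [h1, h2]
  congr 1
  ext <;> simp [rmul7, rmul8, e7, e8]

omit [CharP K 2] in
theorem Cj_u1_u7 (F : Facts σ G) : Cj G (u1 σ 1) (u7 σ 1) := by
  obtain ⟨n, hn, hB⟩ := F.weylB
  exact ⟨n, hn, hB.1 1⟩

/-- `²F₄(q)` has exactly two classes of involutions, given the reduction of the involutions. -/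
theorem main_of_red (F : Facts σ G)
    (hred : ∀ g ∈ G, orderOf g = 2 → Cj G g (u4 σ 0 1) ∨ Cj G g (u1 σ 1)) :
    (ConjClasses.mk '' {g : ↥G | orderOf g = 2}).ncard = 2 := by
  apply ncard_invol_classes (⟨u4 σ 0 1, F.mem4 0 1⟩ : ↥G) ⟨u1 σ 1, F.mem1 1⟩
    (orderOf_two_of _ (u4_sq F) (u4_ne F)) (orderOf_two_of _ (u1_sq F) (u1_ne F))
  · rw [isConj_iff_Cj]
    exact F.nonconj
  · intro g hg
    rw [isConj_iff_Cj, isConj_iff_Cj]
    apply hred g g.2
    rw [← hg]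
    exact Subgroup.orderOf_coe g

/-- The same in a normal subgroup `T` of index two that contains all involutions but not `u8 σ 1 0`. -/
theorem tits_main_of_red (F : Facts σ G)
    (hred : ∀ g ∈ G, orderOf g = 2 → Cj G g (u4 σ 0 1) ∨ Cj G g (u1 σ 1))
    (T : Subgroup ↥G) [T.Normal] (hidx : T.index = 2)
    (hinv : ∀ g : ↥G, orderOf g = 2 → g ∈ T) (hout : (⟨u8 σ 1 0, F.mem8 1 0⟩ : ↥G) ∉ T) :
    (ConjClasses.mk '' {g : ↥T | orderOf g = 2}).ncard = 2 := by
  set c : ↥G := ⟨u8 σ 1 0, F.mem8 1 0⟩ with hc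
  set z : ↥G := ⟨u4 σ 0 1, F.mem4 0 1⟩ with hz
  set y : ↥G := ⟨u7 σ 1, F.mem7 1⟩ with hy
  have hzo : orderOf z = 2 := orderOf_two_of _ (u4_sq F) (u4_ne F)
  have hyo : orderOf y = 2 := orderOf_two_of _ (u7_sq F) (u7_ne F)
  have hcz : c * z * c⁻¹ = z := by
    rw [mul_inv_eq_iff_eq_mul]
    apply Subtype.ext
    exact u8_comm_u4 F
  have hcy : c * y * c⁻¹ = y := by
    rw [mul_inv_eq_iff_eq_mul]
    apply Subtype.ext
    exact u8_comm_u7 F
  -- conjugacy in `G` to `z` or `y` gives conjugacy under `T`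
  have key : ∀ (x w : ↥G), c * w * c⁻¹ = w → (∃ d : ↥G, d * x * d⁻¹ = w) → ∃ d : ↥G, d ∈ T ∧ d * x * d⁻¹ = w := by
    rintro x w hw ⟨d, hd⟩
    by_cases hdT : d ∈ T
    · exact ⟨d, hdT, hd⟩
    · refine ⟨c * d, ?_, ?_⟩
      · rw [Subgroup.mul_mem_iff_of_index_two hidx]
        exact ⟨fun h => absurd h hout, fun h => absurd h hdT⟩
      · rw [mul_inv_rev, ← hw, ← hd]
        group
  have hzy : ¬ IsConj z y := by
    rw [isConj_iff_Cj]
    intro h
    exact F.nonconj (h.trans (Cj_u1_u7 F).symm)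
  apply ncard_invol_classes (⟨z, hinv z hzo⟩ : ↥T) ⟨y, hinv y hyo⟩
  · rw [← hzo]; exact (Subgroup.orderOf_mk z _).symm ▸ rfl
  · rw [← hyo]; exact (Subgroup.orderOf_mk y _).symm ▸ rfl
  · intro h
    apply hzy
    rw [isConj_iff] at h ⊢
    obtain ⟨d, hd⟩ := h
    exact ⟨d, congrArg Subtype.val hd⟩
  · intro t ht
    have ht' : orderOf (t : ↥G) = 2 := by rw [← ht]; exact Subgroup.orderOf_coe t
    have ht'' : orderOf ((t : ↥G) : GL chevF4.Idx K) = 2 := by rw [← ht']; exact Subgroup.orderOf_coe (t : ↥G)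
    have hconj : (∃ d : ↥G, d * (t : ↥G) * d⁻¹ = z) ∨ (∃ d : ↥G, d * (t : ↥G) * d⁻¹ = y) := by
      rcases hred _ (t : ↥G).2 ht'' with h | h
      · left
        exact isConj_iff.mp ((isConj_iff_Cj (t : ↥G) z).mpr h)
      · right
        exact isConj_iff.mp ((isConj_iff_Cj (t : ↥G) y).mpr (h.trans (Cj_u1_u7 F)))
    rcases hconj with h | h
    · left
      obtain ⟨d, hdT, hd⟩ := key _ _ hcz h
      rw [isConj_iff]
      exact ⟨⟨d, hdT⟩, Subtype.ext hd⟩
    · right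
      obtain ⟨d, hdT, hd⟩ := key _ _ hcy h
      rw [isConj_iff]
      exact ⟨⟨d, hdT⟩, Subtype.ext hd⟩

end

end Cfsg.Agent.Lib.Helper48_TF4I_FIN
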