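import Mathlib
import Cfsg.Agent.Lib.Helper18_TF4InvFacts
import Cfsg.Agent.Lib.Helper36_F4Two
import Cfsg.Agent.Lib.Helper36_F4Out

/-!
# S2184 market (architect helper18), package SYL (helper78)

Every involution of `²F₄(q)` is conjugate in `²F₄(q)` into `U = posUnipotent`
(`Helper36_F4Two.exists_conj_mem`).
-/

set_option autoImplicit false
set_option linter.unusedSectionVars false

namespace Cfsg.Agent.Lib.Helper78_TF4I_SYL

open Cfsg Cfsg.Lie Cfsg.Agent.Lib.Helper18_ChevGL Cfsg.Agent.Lib.Helper18_ChevUni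
  Cfsg.Agent.Lib.Helper36_F4Setup Cfsg.Agent.Lib.Helper18_TF4Swap Cfsg.Agent.Lib.Helper18_TF4Inv

section

variable {K : Type*} [Field K] [Fintype K] [CharP K 2] {m : ℕ} (hK : Fintype.card K = 2 ^ (2 * m + 1))

include hK in
theorem sylow (g : GL chevF4.Idx K) (hg : g ∈ twistedF4 K (2 ^ m)) (h2 : orderOf g = 2) :
    ∃ c ∈ twistedF4 K (2 ^ m), c * g * c⁻¹ ∈ chevF4.posUnipotent K := by
  have hx : ∃ j : ℕ, orderOf (⟨g, hg⟩ : ↥(twistedF4 K (2 ^ m))) = 2 ^ j := by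
    refine ⟨1, ?_⟩
    rw [← Subgroup.orderOf_coe, pow_one]
    exact h2
  obtain ⟨a, ha⟩ := Cfsg.Agent.Lib.Helper36_F4Two.exists_conj_mem hK ⟨g, hg⟩ hx
  refine ⟨(a : GL chevF4.Idx K)⁻¹, inv_mem a.2, ?_⟩
  rw [inv_inv]
  exact ha

end

end Cfsg.Agent.Lib.Helper78_TF4I_SYL
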