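import Mathlib
import Cfsg.Agent.Lib.Helper18_TF4InvFacts

/-!
# S2184 market (architect helper18), package FACTS, auxiliary form: `Facts σ G` from the statements of the
packages SIG, PHI, WA, WB, TOR, SYL, NC (as hypotheses, for an arbitrary `σ` and `G`)
-/

set_option autoImplicit false

namespace Cfsg.Agent.Lib.Helper91_TF4I_FACTSaux

open Cfsg Cfsg.Lie Cfsg.Agent.Lib.Helper18_ChevGL Cfsg.Agent.Lib.Helper18_ChevUni
  Cfsg.Agent.Lib.Helper36_F4Setup Cfsg.Agent.Lib.Helper18_TF4Swap Cfsg.Agent.Lib.Helper18_TF4Inv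

theorem u4_zero_one {K : Type*} [Field K] (σ : K →+* K) : u4 σ 0 1 = X 44 (1 : K) * X 47 1 := by
  unfold u4
  rw [map_zero, map_one, X_zero, X_zero, one_mul, one_mul]
  congr 2
  ring

theorem u1_one {K : Type*} [Field K] (σ : K →+* K) : u1 σ 1 = X 33 (1 : K) * X 24 1 := by
  unfold u1
  rw [map_one]

theorem facts_aux {K : Type*} [Field K] [CharP K 2] (σ : K →+* K) (G : Subgroup (GL chevF4.Idx K))
    (hsig : ∀ x, σ (σ x) = x ^ 2) (hsqrt : ∀ x : K, ∃ y, y ^ 2 = x)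
    (hmem : ∀ s : T12 K, Phi σ s ∈ G ∧ Phi σ s ∈ chevF4.posUnipotent K)
    (hinj : Function.Injective (Phi σ : T12 K → GL chevF4.Idx K))
    (hsurj : ∀ g : GL chevF4.Idx K, g ∈ G → g ∈ chevF4.posUnipotent K → ∃ s : T12 K, Phi σ s = g)
    (hA : ∃ n ∈ G, WeylA σ n) (hB : ∃ n ∈ G, WeylB σ n)
    (ht4 : ∀ f : K, f ≠ 0 → Cj G (u4 σ 0 f) (u4 σ 0 1))
    (ht1 : ∀ a : K, a ≠ 0 → Cj G (u1 σ a) (u1 σ 1))
    (hsyl : ∀ g : GL chevF4.Idx K, g ∈ G → orderOf g = 2 →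
      ∃ c ∈ G, c * g * c⁻¹ ∈ chevF4.posUnipotent K)
    (hle : G ≤ chevF4.group K)
    (hnc : ∀ c : GL chevF4.Idx K, c ∈ chevF4.group K →
      c * (X 44 (1 : K) * X 47 1) * c⁻¹ ≠ X 33 1 * X 24 1) :
    Facts σ G where
  sig := hsig
  sqrt := hsqrt
  mem1 p := by rw [← Phi_e1]; exact (hmem _).1
  mem2 p r := by rw [← Phi_e2]; exact (hmem _).1
  mem3 p := by rw [← Phi_e3]; exact (hmem _).1
  mem4 p r := by rw [← Phi_e4]; exact (hmem _).1
  mem5 p := by rw [← Phi_e5]; exact (hmem _).1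
  mem6 p r := by rw [← Phi_e6]; exact (hmem _).1
  mem7 p := by rw [← Phi_e7]; exact (hmem _).1
  mem8 p r := by rw [← Phi_e8]; exact (hmem _).1
  weylA := hA
  weylB := hB
  torus4 := ht4
  torus1 := ht1
  surj := hsurj
  inj := hinj
  sylow := hsyl
  nonconj := by
    rintro ⟨c, hc, hcc⟩
    rw [u4_zero_one, u1_one] at hcc
    exact hnc c (hle hc) hcc

end Cfsg.Agent.Lib.Helper91_TF4I_FACTSaux
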