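import Mathlib
import Cfsg.Agent.Lib.Helper18_TF4InvFacts
import Cfsg.Agent.Lib.Helper36_F4Two
import Cfsg.Agent.Lib.Helper36_F4Out

/-!
# S2184 market (architect helper18), package WA (formalised by helper91, transposed from the WB file of helper44)

The element `n_A = sgF K 0 = nJ dc K [0, 3]` of the twisted group `²F₄(q)` acts on the root groups of the octagon
by `U2 ↔ U8`, `U3 ↔ U7`, `U4 ↔ U6`, `U5` fixed (characteristic two: no signs).  `weylA_sgF` holds for every ring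
endomorphism `σ`; `exists_weylA` is the verbatim package statement (with the local copy of `sg`), `exists_weylA_gen`
the version for an arbitrary `σ`.
-/

set_option autoImplicit false
set_option maxRecDepth 100000

namespace Cfsg.Agent.Lib.Helper91_TF4I_WA

open Cfsg Cfsg.Lie Cfsg.Agent.Lib.Helper18_ChevGL Cfsg.Agent.Lib.Helper18_ChevUni
  Cfsg.Agent.Lib.Helper36_F4Setup Cfsg.Agent.Lib.Helper18_TF4Swap Cfsg.Agent.Lib.Helper18_TF4Inv

/-- the Tits endomorphism `x ↦ x ^ 2 ^ (m + 1)` -/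
noncomputable def sg (K : Type*) [Field K] [CharP K 2] (m : ℕ) : K →+* K := iterateFrobenius K 2 (m + 1)

/-- the action of `w_A = s₀ s₃` on the roots -/
def wA (s : ℕ) : ℕ := Cfsg.Agent.Lib.Helper36_TwistW.reflJ chevF4 [0, 3] s

theorem wA_table : wA 34 = 27 ∧ wA 26 = 25 ∧ wA 36 = 28 ∧ wA 42 = 30 ∧
    wA 27 = 34 ∧ wA 25 = 26 ∧ wA 28 = 36 ∧ wA 30 = 42 ∧
    wA 38 = 37 ∧ wA 43 = 32 ∧ wA 37 = 38 ∧ wA 32 = 43 ∧
    wA 29 = 35 ∧ wA 41 = 31 ∧ wA 44 = 40 ∧ wA 47 = 46 ∧
    wA 35 = 29 ∧ wA 31 = 41 ∧ wA 40 = 44 ∧ wA 46 = 47 ∧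
    wA 39 = 39 ∧ wA 45 = 45 := by
  decide +kernel

theorem nroots_eq : chevF4.nroots = 48 := by decide +kernel

theorem rank_eq : chevF4.rank = 4 := by decide +kernel

section

variable {K : Type*} [Field K]

/-- the element `n_A` -/
def nA (K : Type*) [Field K] : GL chevF4.Idx K := Cfsg.Agent.Lib.Helper36_F4BN.sgF K 0

theorem nA_eq : nA K = nGL dc 0 * nGL dc 3 := by
  show Cfsg.Agent.Lib.Helper36_TwistW.nJ dc K [0, 3] = _
  unfold Cfsg.Agent.Lib.Helper36_TwistW.nJ
  simp only [List.map_cons, List.map_nil, List.prod_cons, List.prod_nil, mul_one]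

theorem conj_mul (n a b : GL chevF4.Idx K) : n * (a * b) * n⁻¹ = (n * a * n⁻¹) * (n * b * n⁻¹) := by group

theorem lt48 {s : ℕ} (h : s < 48) : s < chevF4.nroots := by rw [nroots_eq]; exact h

variable [CharP K 2]

/-- conjugation by `n_i` in characteristic two: no sign -/
theorem nGL_conj2 (i : ℕ) (hi : i < chevF4.rank) (s : ℕ) (hs : s < chevF4.nroots) (t : K) :
    nGL dc i * X s t * (nGL dc i)⁻¹ = X (chevF4.reflectRoot i s) t := by
  have h := nGL_conj (F := K) dc i hi s hs t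
  have hη : ((Cfsg.Agent.Lib.Helper18_ChevWeyl.etaZ Ns i s : ℤ) : K) = 1 := by
    rcases dc.etaZ_pm i hi s hs with h1 | h1
    · rw [h1, Int.cast_one]
    · rw [h1, Int.cast_neg, Int.cast_one, CharTwo.neg_eq]
  rw [hη, one_mul] at h
  exact h

theorem nA_conj (s : ℕ) (hs : s < chevF4.nroots) (t : K) : nA K * X s t * (nA K)⁻¹ = X (wA s) t := by
  have h0 : (0 : ℕ) < chevF4.rank := by rw [rank_eq]; norm_num
  have h3 : (3 : ℕ) < chevF4.rank := by rw [rank_eq]; norm_num
  have hs1 := dc.reflect_lt 3 h3 s hs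
  have e1 := nGL_conj2 (K := K) 3 h3 s hs t
  have e2 := nGL_conj2 (K := K) 0 h0 _ hs1 t
  show _ = X (chevF4.reflectRoot 0 (chevF4.reflectRoot 3 s)) t
  rw [← e2, ← e1, nA_eq]
  group

theorem conj2 (a b a' b' : ℕ) (ha : a < 48) (hb : b < 48) (ha' : wA a = a') (hb' : wA b = b')
    (p q : K) : nA K * (X a p * X b q) * (nA K)⁻¹ = X a' p * X b' q := by
  rw [conj_mul, nA_conj a (lt48 ha), nA_conj b (lt48 hb), ha', hb']

theorem conj4 (a b c d a' b' c' d' : ℕ) (ha : a < 48) (hb : b < 48) (hc : c < 48) (hd : d < 48)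
    (ha' : wA a = a') (hb' : wA b = b') (hc' : wA c = c') (hd' : wA d = d') (p q r s : K) :
    nA K * (X a p * (X b q * (X c r * X d s))) * (nA K)⁻¹ = X a' p * (X b' q * (X c' r * X d' s)) := by
  rw [conj_mul, conj_mul, conj_mul, nA_conj a (lt48 ha), nA_conj b (lt48 hb), nA_conj c (lt48 hc),
    nA_conj d (lt48 hd), ha', hb', hc', hd']

/-- `n_A` acts as required, for every ring endomorphism `σ` -/
theorem weylA_sgF (σ : K →+* K) : WeylA σ (Cfsg.Agent.Lib.Helper36_F4BN.sgF K 0) := by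
  obtain ⟨t34, t26, t36, t42, t27, t25, t28, t30, t38, t43, t37, t32, t29, t41, t44, t47, t35, t31, t40, t46,
    t39, t45⟩ := wA_table
  show WeylA σ (nA K)
  refine ⟨?_, ?_, ?_, ?_, ?_, ?_, ?_⟩
  · intro p r
    exact conj4 34 26 36 42 27 25 28 30 (by norm_num) (by norm_num) (by norm_num) (by norm_num) t34 t26 t36 t42 _ _ _ _
  · intro p r
    exact conj4 27 25 28 30 34 26 36 42 (by norm_num) (by norm_num) (by norm_num) (by norm_num) t27 t25 t28 t30 _ _ _ _
  · intro p
    exact conj2 38 43 37 32 (by norm_num) (by norm_num) t38 t43 p (σ p)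
  · intro p
    exact conj2 37 32 38 43 (by norm_num) (by norm_num) t37 t32 p (σ p)
  · intro p r
    exact conj4 29 41 44 47 35 31 40 46 (by norm_num) (by norm_num) (by norm_num) (by norm_num) t29 t41 t44 t47 _ _ _ _
  · intro p r
    exact conj4 35 31 40 46 29 41 44 47 (by norm_num) (by norm_num) (by norm_num) (by norm_num) t35 t31 t40 t46 _ _ _ _
  · intro p
    exact conj2 39 45 39 45 (by norm_num) (by norm_num) t39 t45 p (σ p)

end

section

variable {K : Type*} [Field K] [Fintype K] [CharP K 2] {m : ℕ} (hK : Fintype.card K = 2 ^ (2 * m + 1))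

include hK in
/-- package WA for an arbitrary ring endomorphism `σ` -/
theorem exists_weylA_gen (σ : K →+* K) : ∃ n ∈ twistedF4 K (2 ^ m), WeylA σ n :=
  ⟨_, Cfsg.Agent.Lib.Helper36_F4BN.sgF_mem hK 0 (by norm_num), weylA_sgF σ⟩

include hK in
/-- package WA (verbatim) -/
theorem exists_weylA : ∃ n ∈ twistedF4 K (2 ^ m), WeylA (sg K m) n := by
  exact exists_weylA_gen hK (sg K m)

end

end Cfsg.Agent.Lib.Helper91_TF4I_WA
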