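import Mathlib
import Cfsg.Prelude.Def_ChevD4
import Cfsg.Prelude.Def_ChevWords

/-!
# S2183 package PARTC, integer computations (helper95): in the adjoint representation of `D₄(K)` (28 x 28 matrices)
`x₂₃(1) - 1` has rank at most `10` and `x₁₈(1) x₁₃(1) x₁₂(1) - 1` has rank at least `11`, in every characteristic;
so the two matrices are not conjugate in `GL`.

Everything is computed with integer matrices (`xMatZ`, the matrix of `x_r(1)` over the integers) and transported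
to `K` along `Int.castRingHom K`.
-/

set_option autoImplicit false

namespace Cfsg.Agent.Lib.Helper95_TD4Inv_RANKZ

open Cfsg Cfsg.Lie Matrix

/-- The matrix of `x_r(1)` over the integers (the formula of `ChevalleyDatum.xMat` at `t = 1`). -/
def xMatZ (D : ChevalleyDatum) (r : Fin D.nroots) : Matrix D.Idx D.Idx ℤ :=
  Matrix.of fun row col =>
    match col with
    | Sum.inl i =>
      (match row with
       | Sum.inl i' => if i' = i then 1 else 0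
       | Sum.inr u => if u = r then - ((D.cartanSR.getD i.val #[]).getD r.val 0) else 0)
    | Sum.inr s =>
      if s = r then (match row with | Sum.inr u => if u = r then 1 else 0 | Sum.inl _ => 0)
      else if s.val = D.negIdx.getD r.val 0 then
        (match row with
         | Sum.inl i => (D.coroot.getD r.val #[]).getD i.val 0
         | Sum.inr u => if u = s then 1 else if u = r then -1 else 0)
      else
        (match row with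
         | Sum.inl _ => 0
         | Sum.inr u => (if u = s then 1 else 0) +
             ((D.chainCoeff r.val s.val u.val).map fun km => km.2).sum)

theorem xMat_one (D : ChevalleyDatum) (F : Type*) [Field F] (r : Fin D.nroots) :
    D.xMat F r 1 = (xMatZ D r).map (Int.castRingHom F) := by
  ext row col
  rcases col with i | s <;> rcases row with i' | u
  · simp only [ChevalleyDatum.xMat, xMatZ, Matrix.of_apply, Matrix.map_apply]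
    split_ifs <;> simp
  · simp only [ChevalleyDatum.xMat, xMatZ, Matrix.of_apply, Matrix.map_apply]
    split_ifs <;> simp
  · simp only [ChevalleyDatum.xMat, xMatZ, Matrix.of_apply, Matrix.map_apply]
    split_ifs <;> simp
  · simp only [ChevalleyDatum.xMat, xMatZ, Matrix.of_apply, Matrix.map_apply]
    split_ifs <;> simp [Function.comp_def]

/-! ### The tables -/

/-- position of a coordinate in the tables -/
def idxN : chevD4.Idx → ℕ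
  | Sum.inl i => i.val
  | Sum.inr s => 4 + s.val

/-- the coordinate at a position of the tables -/
def ix (n : ℕ) : chevD4.Idx :=
  if h : n < 4 then Sum.inl ⟨n, h⟩ else if h' : n - 4 < 24 then Sum.inr ⟨n - 4, h'⟩ else Sum.inl ⟨0, by decide⟩

/-- a `28 x n` integer matrix from its list of rows -/
def tab (n : ℕ) (L : List (List ℤ)) : Matrix chevD4.Idx (Fin n) ℤ :=
  Matrix.of fun i k => (L.getD (idxN i) []).getD k.val 0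

/-- a square integer matrix from its list of rows -/
def sq (n : ℕ) (L : List (List ℤ)) : Matrix (Fin n) (Fin n) ℤ :=
  Matrix.of fun i k => (L.getD i.val []).getD k.val 0

def r12 : Fin chevD4.nroots := ⟨12, by decide⟩
def r13 : Fin chevD4.nroots := ⟨13, by decide⟩
def r18 : Fin chevD4.nroots := ⟨18, by decide⟩
def r23 : Fin chevD4.nroots := ⟨23, by decide⟩

/-- the eleven columns -/
def cols : Fin 11 → chevD4.Idx := fun k => ix (([9, 14, 15, 8, 6, 7, 5, 21, 19, 20, 18] : List ℕ).getD k.val 0)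

/-- the eleven rows -/
def rows : Fin 11 → chevD4.Idx := fun k => ix (([0, 2, 3, 13, 11, 12, 10, 26, 24, 25, 23] : List ℕ).getD k.val 0)

/-- the ten non-zero columns of `x₂₃(1) - 1` -/
def cols10 : Fin 10 → chevD4.Idx := fun k => ix (([1, 4, 5, 6, 7, 8, 10, 11, 12, 13] : List ℕ).getD k.val 0)

def Qm : Matrix chevD4.Idx (Fin 11) ℤ := Matrix.of fun i k => if i = cols k then 1 else 0

def Pm : Matrix (Fin 11) chevD4.Idx ℤ := Matrix.of fun k i => if i = rows k then 1 else 0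

def Rm : Matrix (Fin 10) chevD4.Idx ℤ := Matrix.of fun k i => if i = cols10 k then 1 else 0

def Lm : Matrix chevD4.Idx (Fin 10) ℤ := Matrix.of fun i k => (xMatZ chevD4 r23 - 1) i (cols10 k)

def L1 : List (List ℤ) :=
   [[0, 0, 0, 0, 0, 0, 0, 0, 0, 0, 0],
    [0, 0, 0, 0, 0, 0, 0, 0, 0, 0, 0],
    [0, 0, 0, 0, 0, 0, 0, 0, 0, 0, 0],
    [0, 0, 1, 0, 0, 0, 0, 0, 0, 0, 0],
    [0, 0, 0, 0, 0, 0, 0, 0, 0, 0, 0],
    [0, 0, 0, 0, 0, 0, 1, 0, 0, 0, 0],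
    [0, 0, 0, 0, 1, 0, -1, 0, 0, 0, 0],
    [0, 0, 0, 0, 0, 1, 0, 0, 0, 0, 0],
    [0, 0, 0, 1, 0, -1, 0, 0, 0, 0, 0],
    [1, 0, 0, 0, 0, 0, 0, 0, 0, 0, 0],
    [0, 0, 0, 0, 0, 0, 0, 0, 0, 0, 0],
    [0, 0, 0, 0, 0, 0, 0, 0, 0, 0, 0],
    [0, 0, 0, 0, 0, 0, 0, 0, 0, 0, 0],
    [0, 0, 0, 0, 0, 0, 0, 0, 0, 0, 0],
    [0, 1, 0, 0, 0, 0, 0, 0, 0, 0, 0],
    [0, 0, 1, 0, 0, 0, 0, 0, 0, 0, 0],
    [0, 0, -1, 0, 0, 0, 0, 0, 0, 0, 0],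
    [0, 0, 0, 0, 0, 0, 0, 0, 0, 0, 0],
    [0, 0, 0, 0, 0, 0, 0, 0, 0, 0, 1],
    [0, 0, 0, 0, 0, 0, 0, 0, 1, 0, 1],
    [0, 0, 0, 0, 0, 0, 0, 0, 0, 1, 0],
    [0, 0, 0, 0, 0, 0, 0, 1, 0, 1, 0],
    [0, 0, 0, 0, 0, 0, 0, 0, 0, 0, 0],
    [0, 0, 0, 0, 0, 0, 0, 0, 0, 0, 0],
    [0, 0, 0, 0, 0, 0, 0, 0, 0, 0, 0],
    [0, 0, 0, 0, 0, 0, 0, 0, 0, 0, 0],
    [0, 0, 0, 0, 0, 0, 0, 0, 0, 0, 0],
    [0, 0, 0, 0, 0, 0, 0, 0, 0, 0, 0]]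

def L2 : List (List ℤ) :=
   [[0, 0, 0, 0, 0, 0, 0, 0, 0, 0, 0],
    [0, 0, 0, 0, 0, 0, 0, 0, 0, 0, 0],
    [0, 1, 0, 0, 0, 0, 0, 0, 0, 0, 0],
    [0, 0, 1, 0, 0, 0, 0, 0, 0, 0, 0],
    [0, 0, 0, 0, 0, 0, 0, 0, 0, 0, 0],
    [0, 0, 0, 0, 0, 0, 1, 0, 0, 0, 0],
    [0, 0, 0, 0, 1, 0, -1, 0, 0, 0, 0],
    [0, 0, 0, 0, 0, 1, -1, 0, 0, 0, 0],
    [0, 0, 0, 1, -1, -1, 1, 0, 0, 0, 0],
    [1, 0, 0, 0, 0, 0, 0, 0, 0, 0, 0],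
    [0, 0, 0, 0, 0, 0, 0, 0, 0, 0, 0],
    [0, 0, 0, 0, 0, 0, 0, 0, 0, 0, 0],
    [0, 0, 0, 0, 0, 0, 0, 0, 0, 0, 0],
    [0, 0, 0, 0, 0, 0, 0, 0, 0, 0, 0],
    [0, 1, 0, 0, 0, 0, 0, 0, 0, 0, 0],
    [0, 0, 1, 0, 0, 0, 0, 0, 0, 0, 0],
    [0, 0, -1, 0, 0, 0, 0, 0, 0, 0, 0],
    [0, -1, 0, 0, 0, 0, 0, 0, 0, 0, 0],
    [0, 0, 0, 0, 0, 0, 0, 0, 0, 0, 1],
    [0, 0, 0, 0, 0, 0, 0, 0, 1, 0, 1],
    [0, 0, 0, 0, 0, 0, 0, 0, 0, 1, 1],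
    [0, 0, 0, 0, 0, 0, 0, 1, 1, 1, 1],
    [0, 0, 0, 0, 0, 0, 0, 0, 0, 0, 0],
    [0, 0, 0, 0, 0, 0, 0, 0, 0, 0, 0],
    [0, 0, 0, 0, 0, 0, 0, 0, 0, 0, 0],
    [0, 0, 0, 0, 0, 0, 0, 0, 0, 0, 0],
    [0, 0, 0, 0, 0, 0, 0, 0, 0, 0, 0],
    [0, 0, 0, 0, 0, 0, 0, 0, 0, 0, 0]]

def L3 : List (List ℤ) :=
   [[1, 0, 0, 0, 0, 0, 0, 0, 0, 0, 0],
    [0, 0, 0, 0, 0, 0, 0, 0, 0, 0, 0],
    [0, 1, 0, 0, 0, 0, 0, 0, 0, 0, 0],
    [0, 0, 1, 0, 0, 0, 0, 0, 0, 0, 0],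
    [0, 0, 0, 0, 0, 0, 0, 0, 0, 0, 0],
    [0, 0, 0, 0, 0, 0, 1, 0, 0, 0, 0],
    [0, 0, 0, 0, 1, 0, -1, 0, 0, 0, 0],
    [0, 0, 0, 0, 0, 1, -1, 0, 0, 0, 0],
    [0, 0, 0, 1, -1, -1, 1, 0, 0, 0, 0],
    [1, 0, 0, 0, 0, 0, 0, 0, 0, 0, 0],
    [0, 0, 0, 0, 0, 0, 1, 0, 0, 0, 0],
    [0, 0, 0, 0, 1, 0, -1, 0, 0, 0, 0],
    [0, 0, 0, 0, 0, 1, -1, 0, 0, 0, 0],
    [0, 0, 0, 1, -1, -1, 1, 0, 0, 0, 0],
    [0, 1, 0, 0, 0, 0, 0, 0, 0, 0, 0],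
    [0, 0, 1, 0, 0, 0, 0, 0, 0, 0, 0],
    [0, 0, -1, 0, 0, 0, 0, 0, 0, 0, 0],
    [0, -1, 0, 0, 0, 0, 0, 0, 0, 0, 0],
    [0, 0, 0, 0, 0, 0, 0, 0, 0, 0, 1],
    [0, 0, 0, 0, 0, 0, 0, 0, 1, 0, 1],
    [0, 0, 0, 0, 0, 0, 0, 0, 0, 1, 1],
    [0, 0, 0, 0, 0, 0, 0, 1, 1, 1, 1],
    [-1, 0, 0, 0, 0, 0, 0, 0, 0, 0, 0],
    [0, 0, 0, 0, 0, 0, 0, 0, 0, 0, -1],
    [0, 0, 0, 0, 0, 0, 0, 0, -1, 0, -1],
    [0, 0, 0, 0, 0, 0, 0, 0, 0, -1, -1],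
    [0, 0, 0, 0, 0, 0, 0, -1, -1, -1, -1],
    [0, 0, 0, 0, 0, 0, 0, 0, 0, 0, 0]]

def Sl : List (List ℤ) :=
   [[1, 0, 0, 0, 0, 0, 0, 0, 0, 0, 0],
    [0, 1, 0, 0, 0, 0, 0, 0, 0, 0, 0],
    [0, 0, 1, 0, 0, 0, 0, 0, 0, 0, 0],
    [0, 0, 0, 1, 1, 1, 1, 0, 0, 0, 0],
    [0, 0, 0, 0, 1, 0, 1, 0, 0, 0, 0],
    [0, 0, 0, 0, 0, 1, 1, 0, 0, 0, 0],
    [0, 0, 0, 0, 0, 0, 1, 0, 0, 0, 0],
    [0, 0, 0, 0, 0, 0, 0, -1, 1, 1, -1],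
    [0, 0, 0, 0, 0, 0, 0, 0, -1, 0, 1],
    [0, 0, 0, 0, 0, 0, 0, 0, 0, -1, 1],
    [0, 0, 0, 0, 0, 0, 0, 0, 0, 0, -1]]

theorem step1 : xMatZ chevD4 r12 * Qm = tab 11 L1 := by decide +kernel

theorem step2 : xMatZ chevD4 r13 * tab 11 L1 = tab 11 L2 := by decide +kernel

theorem step3 : xMatZ chevD4 r18 * tab 11 L2 = tab 11 L3 := by decide +kernel

theorem step4 : Pm * (tab 11 L3 - Qm) * sq 11 Sl = 1 := by decide +kernel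

theorem stepZ : xMatZ chevD4 r23 - 1 = Lm * Rm := by decide +kernel

theorem stepA :
    Pm * ((xMatZ chevD4 r18 * (xMatZ chevD4 r13 * xMatZ chevD4 r12) - 1) * Qm) * sq 11 Sl = 1 := by
  have e : (xMatZ chevD4 r18 * (xMatZ chevD4 r13 * xMatZ chevD4 r12) - 1) * Qm = tab 11 L3 - Qm := by
    rw [Matrix.sub_mul, Matrix.one_mul, Matrix.mul_assoc (xMatZ chevD4 r18), Matrix.mul_assoc (xMatZ chevD4 r13),
      step1, step2, step3]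
  rw [e]
  exact step4

end Cfsg.Agent.Lib.Helper95_TD4Inv_RANKZ
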