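import Mathlib
import Cfsg.Agent.Lib.Helper95_TD4Inv_RANKZ

/-!
# S2183 package PARTC, core (helper95): in the adjoint representation of `D₄(K)` (28 x 28 matrices)
`x₂₃(1) - 1` has rank at most `10` and `x₁₈(1) x₁₃(1) x₁₂(1) - 1` has rank at least `11`, in every characteristic;
so the two matrices are not conjugate in `GL`.  The integer identities of `Helper95_TD4Inv_RANKZ` are transported
to `K` along `Int.castRingHom K`.
-/

set_option autoImplicit false

namespace Cfsg.Agent.Lib.Helper95_TD4Inv_RANK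

open Cfsg Cfsg.Lie Matrix Cfsg.Agent.Lib.Helper95_TD4Inv_RANKZ

/-! ### Transport to a field -/

section field

variable (K : Type*) [Field K]

/-- the entrywise cast of an integer matrix -/
def cst {m n : Type*} (M : Matrix m n ℤ) : Matrix m n K := M.map (Int.castRingHom K)

theorem cst_mul {l m n : Type*} [Fintype m] (M : Matrix l m ℤ) (N : Matrix m n ℤ) :
    cst K (M * N) = cst K M * cst K N := Matrix.map_mul

theorem cst_sub {m n : Type*} (M N : Matrix m n ℤ) : cst K (M - N) = cst K M - cst K N :=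
  Matrix.map_sub _ (map_sub _) _ _

theorem cst_one {n : Type*} [DecidableEq n] : cst K (1 : Matrix n n ℤ) = 1 :=
  Matrix.map_one _ (map_zero _) (map_one _)

theorem x_eq (r : ℕ) (h : r < chevD4.nroots) : chevD4.x K r 1 = cst K (xMatZ chevD4 ⟨r, h⟩) := by
  unfold ChevalleyDatum.x
  rw [dif_pos h, xMat_one]
  rfl

theorem rank_Z_le : (chevD4.x K 23 1 - 1).rank ≤ 10 := by
  have h : chevD4.x K 23 1 - 1 = cst K Lm * cst K Rm := by
    rw [← cst_mul, ← stepZ, cst_sub, cst_one, x_eq K 23 (by decide)]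
    rfl
  rw [h]
  refine (Matrix.rank_mul_le_left _ _).trans ((Matrix.rank_le_card_width _).trans ?_)
  simp

theorem rank_A_ge : 11 ≤ (chevD4.x K 18 1 * (chevD4.x K 13 1 * chevD4.x K 12 1) - 1).rank := by
  have h : cst K Pm * ((chevD4.x K 18 1 * (chevD4.x K 13 1 * chevD4.x K 12 1) - 1) * cst K Qm) *
      cst K (sq 11 Sl) = 1 := by
    rw [x_eq K 18 (by decide), x_eq K 13 (by decide), x_eq K 12 (by decide), ← cst_mul, ← cst_mul,
      ← cst_one K (n := chevD4.Idx), ← cst_sub, ← cst_mul, ← cst_mul, ← cst_mul]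
    have h0 := congrArg (cst K) stepA
    rw [cst_one] at h0
    exact h0
  calc 11 = (1 : Matrix (Fin 11) (Fin 11) K).rank := by simp
    _ = (cst K Pm * ((chevD4.x K 18 1 * (chevD4.x K 13 1 * chevD4.x K 12 1) - 1) * cst K Qm) *
          cst K (sq 11 Sl)).rank := by rw [h]
    _ ≤ (cst K Pm * ((chevD4.x K 18 1 * (chevD4.x K 13 1 * chevD4.x K 12 1) - 1) * cst K Qm)).rank :=
        Matrix.rank_mul_le_left _ _
    _ ≤ ((chevD4.x K 18 1 * (chevD4.x K 13 1 * chevD4.x K 12 1) - 1) * cst K Qm).rank :=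
        Matrix.rank_mul_le_right _ _
    _ ≤ (chevD4.x K 18 1 * (chevD4.x K 13 1 * chevD4.x K 12 1) - 1).rank := Matrix.rank_mul_le_left _ _

theorem conj_sub_one {R : Type*} [Ring R] (u : Rˣ) (a : R) :
    ((u⁻¹ : Rˣ) : R) * ((u : R) * a * ((u⁻¹ : Rˣ) : R) - 1) * (u : R) = a - 1 := by
  simp [mul_sub, sub_mul, mul_assoc]

/-- `x₁₈(1) x₁₃(1) x₁₂(1)` and `x₂₃(1)` are not conjugate in `GL₂₈(K)`. -/
theorem not_conj_core (g : GL chevD4.Idx K) :
    (g : Matrix chevD4.Idx chevD4.Idx K) * (chevD4.x K 18 1 * (chevD4.x K 13 1 * chevD4.x K 12 1)) *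
      ((g⁻¹ : GL chevD4.Idx K) : Matrix chevD4.Idx chevD4.Idx K) ≠ chevD4.x K 23 1 := by
  intro h
  have hA : chevD4.x K 18 1 * (chevD4.x K 13 1 * chevD4.x K 12 1) - 1 =
      ((g⁻¹ : GL chevD4.Idx K) : Matrix chevD4.Idx chevD4.Idx K) * (chevD4.x K 23 1 - 1) *
        (g : Matrix chevD4.Idx chevD4.Idx K) := by
    rw [← h]
    exact (conj_sub_one g _).symm
  have h1 := rank_A_ge K
  rw [hA] at h1
  have h2 := (Matrix.rank_mul_le_left (((g⁻¹ : GL chevD4.Idx K) : Matrix chevD4.Idx chevD4.Idx K) *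
    (chevD4.x K 23 1 - 1)) (g : Matrix chevD4.Idx chevD4.Idx K)).trans
    (Matrix.rank_mul_le_right _ _)
  have h3 := rank_Z_le K
  omega

end field

end Cfsg.Agent.Lib.Helper95_TD4Inv_RANK
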