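import Mathlib
import Cfsg.Agent.Lib.Helper95_TD4Inv_RANK
import Cfsg.Agent.Lib.Helper95_TF4Inv_RANKZ

/-!
# S2184 package NC, core (helper95): over a field `K` of characteristic two, in the adjoint representation of `F₄(K)`
(52 x 52 matrices) `x₄₄(1) x₄₇(1) - 1` has rank at most `22` and `x₃₃(1) x₂₄(1) - 1` has rank at least `23`;
so the two matrices are not conjugate in `GL`.  The integer identities of `Helper95_TF4Inv_RANKZ` are transported
to `K` along `Int.castRingHom K`; even matrices vanish in `K`.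
-/

set_option autoImplicit false

namespace Cfsg.Agent.Lib.Helper95_TF4Inv_RANK

open Cfsg Cfsg.Lie Matrix Cfsg.Agent.Lib.Helper95_TF4Inv_RANKZ

open Cfsg.Agent.Lib.Helper95_TD4Inv_RANKZ (xMatZ xMat_one sq)

open Cfsg.Agent.Lib.Helper95_TD4Inv_RANK (cst cst_mul cst_sub cst_one conj_sub_one)

section field

variable (K : Type*) [Field K]

theorem cst_add {m n : Type*} (M N : Matrix m n ℤ) : cst K (M + N) = cst K M + cst K N :=
  Matrix.map_add _ (map_add _) _ _

theorem cst_even [CharP K 2] {m n : Type*} (M : Matrix m n ℤ) : cst K (M + M) = 0 := by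
  rw [cst_add]
  ext i j
  simp [CharTwo.add_self_eq_zero]

theorem factor_aux {n a b : Type*} [Fintype n] [Fintype a] [Fintype b] [DecidableEq n] (W : Matrix n n K)
    (Q : Matrix n a K) (Qt : Matrix a n K) (R' : Matrix n b K) (R : Matrix b n K) (h1 : Q * Qt + R' * R = 1)
    (h0 : W * Q = 0) : W = (W * R') * R := by
  calc W = W * 1 := (Matrix.mul_one W).symm
    _ = W * (Q * Qt + R' * R) := by rw [h1]
    _ = (W * Q) * Qt + (W * R') * R := by rw [Matrix.mul_add, Matrix.mul_assoc, Matrix.mul_assoc]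
    _ = (W * R') * R := by rw [h0, Matrix.zero_mul, zero_add]

theorem xF_eq (r : ℕ) (h : r < chevF4.nroots) : chevF4.x K r 1 = cst K (xMatZ chevF4 ⟨r, h⟩) := by
  unfold ChevalleyDatum.x
  rw [dif_pos h, xMat_one]
  rfl

theorem rank_Z_le [CharP K 2] : (chevF4.x K 44 1 * chevF4.x K 47 1 - 1).rank ≤ 22 := by
  have h0 : (chevF4.x K 44 1 * chevF4.x K 47 1 - 1) * cst K Qc = 0 := by
    rw [xF_eq K 44 (by decide), xF_eq K 47 (by decide), ← cst_mul, ← cst_one K (n := chevF4.Idx), ← cst_sub,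
      ← cst_mul]
    have h1 := congrArg (cst K) stepZ
    rw [cst_even] at h1
    exact h1
  have h1 : cst K Qc * cst K Qct + cst K Rt * cst K Rm = (1 : Matrix chevF4.Idx chevF4.Idx K) := by
    rw [← cst_mul, ← cst_mul, ← cst_add, stepF4, cst_one]
  have h2 := factor_aux K (chevF4.x K 44 1 * chevF4.x K 47 1 - 1) _ _ _ _ h1 h0
  rw [h2]
  refine (Matrix.rank_mul_le_right _ _).trans ((Matrix.rank_le_card_height _).trans ?_)
  simp

theorem rank_A_ge [CharP K 2] : 23 ≤ (chevF4.x K 33 1 * chevF4.x K 24 1 - 1).rank := by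
  have h : cst K Pm * ((chevF4.x K 33 1 * chevF4.x K 24 1 - 1) * cst K Qm) * cst K (sq 23 Sl) = 1 := by
    rw [xF_eq K 33 (by decide), xF_eq K 24 (by decide), ← cst_mul, ← cst_one K (n := chevF4.Idx), ← cst_sub,
      ← cst_mul, ← cst_mul, ← cst_mul]
    have h0 := congrArg (cst K) stepA
    rw [cst_add, cst_even, add_zero, cst_one] at h0
    exact h0
  calc 23 = (1 : Matrix (Fin 23) (Fin 23) K).rank := by simp
    _ = (cst K Pm * ((chevF4.x K 33 1 * chevF4.x K 24 1 - 1) * cst K Qm) * cst K (sq 23 Sl)).rank := by rw [h]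
    _ ≤ (cst K Pm * ((chevF4.x K 33 1 * chevF4.x K 24 1 - 1) * cst K Qm)).rank := Matrix.rank_mul_le_left _ _
    _ ≤ ((chevF4.x K 33 1 * chevF4.x K 24 1 - 1) * cst K Qm).rank := Matrix.rank_mul_le_right _ _
    _ ≤ (chevF4.x K 33 1 * chevF4.x K 24 1 - 1).rank := Matrix.rank_mul_le_left _ _

/-- in characteristic two `x₄₄(1) x₄₇(1)` and `x₃₃(1) x₂₄(1)` are not conjugate in `GL₅₂(K)`. -/
theorem not_conj_core [CharP K 2] (g : GL chevF4.Idx K) :
    (g : Matrix chevF4.Idx chevF4.Idx K) * (chevF4.x K 44 1 * chevF4.x K 47 1) *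
      ((g⁻¹ : GL chevF4.Idx K) : Matrix chevF4.Idx chevF4.Idx K) ≠ chevF4.x K 33 1 * chevF4.x K 24 1 := by
  intro h
  have hA : chevF4.x K 44 1 * chevF4.x K 47 1 - 1 =
      ((g⁻¹ : GL chevF4.Idx K) : Matrix chevF4.Idx chevF4.Idx K) * (chevF4.x K 33 1 * chevF4.x K 24 1 - 1) *
        (g : Matrix chevF4.Idx chevF4.Idx K) := by
    rw [← h]
    exact (conj_sub_one g _).symm
  have e1 : (g : Matrix chevF4.Idx chevF4.Idx K) * ((g⁻¹ : GL chevF4.Idx K) : Matrix chevF4.Idx chevF4.Idx K) = 1 := by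
    rw [← Units.val_mul, mul_inv_cancel, Units.val_one]
  have hB : chevF4.x K 33 1 * chevF4.x K 24 1 - 1 =
      (g : Matrix chevF4.Idx chevF4.Idx K) * (chevF4.x K 44 1 * chevF4.x K 47 1 - 1) *
        ((g⁻¹ : GL chevF4.Idx K) : Matrix chevF4.Idx chevF4.Idx K) := by
    rw [hA]
    simp only [Matrix.mul_assoc]
    rw [e1, Matrix.mul_one, ← Matrix.mul_assoc, e1, Matrix.one_mul]
  have h1 := rank_A_ge K
  rw [hB] at h1
  have h2 := (Matrix.rank_mul_le_left ((g : Matrix chevF4.Idx chevF4.Idx K) *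
    (chevF4.x K 44 1 * chevF4.x K 47 1 - 1)) ((g⁻¹ : GL chevF4.Idx K) : Matrix chevF4.Idx chevF4.Idx K)).trans
    (Matrix.rank_mul_le_right _ _)
  have h3 := rank_Z_le K
  omega

end field

end Cfsg.Agent.Lib.Helper95_TF4Inv_RANK
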