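import Mathlib
import Cfsg.Agent.Lib.Helper18_TF4Swap
import Cfsg.Agent.Lib.Helper95_TF4Inv_RANK

/-!
# S2184 market (architect helper18), package NC (helper95)

In characteristic two `X 44 1 * X 47 1` (highest short root and highest root of `F₄`) is not conjugate to
`X 33 1 * X 24 1` (the simple roots `p₁`, `p₄`): already not in `GL₅₂(K)`, since in the adjoint representation
`rank (X 44 1 * X 47 1 - 1) ≤ 22 < 23 ≤ rank (X 33 1 * X 24 1 - 1)` (`Helper95_TF4Inv_RANK.not_conj_core`).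
-/

set_option autoImplicit false

namespace Cfsg.Agent.Lib.Helper95_TF4Inv_NC

open Cfsg Cfsg.Lie Cfsg.Agent.Lib.Helper18_ChevGL Cfsg.Agent.Lib.Helper18_ChevUni
  Cfsg.Agent.Lib.Helper36_F4Setup Cfsg.Agent.Lib.Helper18_TF4Swap

theorem not_conj {K : Type*} [Field K] [CharP K 2] (c : GL chevF4.Idx K) (hc : c ∈ chevF4.group K) :
    c * (X 44 (1 : K) * X 47 1) * c⁻¹ ≠ X 33 1 * X 24 1 := by
  intro h
  have h' := congrArg (fun u : GL chevF4.Idx K => (u : Matrix chevF4.Idx chevF4.Idx K)) h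
  simp only [Units.val_mul, xGL_coe] at h'
  exact Cfsg.Agent.Lib.Helper95_TF4Inv_RANK.not_conj_core K c h'

end Cfsg.Agent.Lib.Helper95_TF4Inv_NC
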