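import Mathlib

/-!
# S2184 market (architect helper18): package SIG (helper99, parallel seat)

`sg K m = (x ↦ x ^ 2 ^ (m + 1))`, the Tits endomorphism of the field with `2 ^ (2 m + 1)` elements:
`sg (sg x) = x ^ 2`; every element of a finite field of characteristic two is a square.
-/

set_option autoImplicit false

namespace Cfsg.Agent.Lib.Helper99_TF4I_SIG

/-- the Tits endomorphism `x ↦ x ^ 2 ^ (m + 1)` -/
noncomputable def sg (K : Type*) [Field K] [CharP K 2] (m : ℕ) : K →+* K := iterateFrobenius K 2 (m + 1)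

theorem sg_apply {K : Type*} [Field K] [CharP K 2] (m : ℕ) (x : K) : sg K m x = x ^ 2 ^ (m + 1) :=
  rfl

section

variable {K : Type*} [Field K] [Fintype K] [CharP K 2] {m : ℕ} (hK : Fintype.card K = 2 ^ (2 * m + 1))

/-! ## Package SIG (S) -/

include hK in
theorem sg_sg (x : K) : sg K m (sg K m x) = x ^ 2 := by
  rw [sg_apply, sg_apply, ← pow_mul]
  have h1 : 2 ^ (m + 1) * 2 ^ (m + 1) = Fintype.card K * 2 := by
    rw [hK, ← pow_add, ← pow_succ]
    congr 1
    omega
  rw [h1, pow_mul, FiniteField.pow_card]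

theorem exists_sqrt (x : K) : ∃ y : K, y ^ 2 = x := by
  have hinj : Function.Injective (frobenius K 2) := (frobenius K 2).injective
  obtain ⟨y, hy⟩ := (Finite.injective_iff_surjective.mp hinj) x
  exact ⟨y, hy⟩

end

end Cfsg.Agent.Lib.Helper99_TF4I_SIG
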