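import Mathlib
import Cfsg.Agent.Lib.Helper18_TF4InvFacts
import Cfsg.Agent.Lib.Helper36_F4Two
import Cfsg.Agent.Lib.Helper36_F4Out
import Cfsg.Agent.Lib.Helper91_TF4I_FACTSaux
import Cfsg.Agent.Lib.Helper99_TF4I_SIG
import Cfsg.Agent.Lib.Helper30_TF4I_PHI
import Cfsg.Agent.Lib.Helper44_TF4I_WB
import Cfsg.Agent.Lib.Helper78_TF4I_SYL
import Cfsg.Agent.Lib.Helper95_TF4Inv_NC
import Cfsg.Agent.Lib.Helper91_TF4I_WA
import Cfsg.Agent.Lib.Helper34_S2184_TOR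

/-!
# S2184 market (architect helper18), package FACTS: `Facts (sg K m) (twistedF4 K (2 ^ m))`
-/

set_option autoImplicit false

namespace Cfsg.Agent.Lib.Helper91_TF4I_FACTS

open Cfsg Cfsg.Lie Cfsg.Agent.Lib.Helper18_ChevGL Cfsg.Agent.Lib.Helper18_ChevUni
  Cfsg.Agent.Lib.Helper36_F4Setup Cfsg.Agent.Lib.Helper18_TF4Swap Cfsg.Agent.Lib.Helper18_TF4Inv

/-- the Tits endomorphism `x ↦ x ^ 2 ^ (m + 1)` -/
noncomputable def sg (K : Type*) [Field K] [CharP K 2] (m : ℕ) : K →+* K := iterateFrobenius K 2 (m + 1)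

/-! ## Package FACTS (S): assemble `Facts (sg K m) (twistedF4 K (2 ^ m))` from the packages above -/

theorem facts {K : Type*} [Field K] [Fintype K] [CharP K 2] {m : ℕ} (hK : Fintype.card K = 2 ^ (2 * m + 1)) :
    Facts (sg K m) (twistedF4 K (2 ^ m)) :=
  Cfsg.Agent.Lib.Helper91_TF4I_FACTSaux.facts_aux (sg K m) (twistedF4 K (2 ^ m))
    (fun x => Cfsg.Agent.Lib.Helper99_TF4I_SIG.sg_sg hK x)
    (fun x => Cfsg.Agent.Lib.Helper99_TF4I_SIG.exists_sqrt x)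
    (fun s => Cfsg.Agent.Lib.Helper30_TF4I_PHI.phi_mem hK s)
    (Cfsg.Agent.Lib.Helper30_TF4I_PHI.phi_inj hK)
    (fun g hg hgU => Cfsg.Agent.Lib.Helper30_TF4I_PHI.phi_surj hK g hg hgU)
    (Cfsg.Agent.Lib.Helper91_TF4I_WA.exists_weylA hK)
    (Cfsg.Agent.Lib.Helper44_TF4I_WB.exists_weylB hK)
    (fun f hf => Cfsg.Agent.Lib.Helper34_S2184_TOR.torus4 hK f hf)
    (fun a ha => Cfsg.Agent.Lib.Helper34_S2184_TOR.torus1 hK a ha)
    (fun g hg h2 => Cfsg.Agent.Lib.Helper78_TF4I_SYL.sylow hK g hg h2)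
    (Cfsg.Agent.Lib.Helper18_TwistF4B.twisted_le_group dc)
    (fun c hc => Cfsg.Agent.Lib.Helper95_TF4Inv_NC.not_conj c hc)

end Cfsg.Agent.Lib.Helper91_TF4I_FACTS
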