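import Mathlib
import Cfsg.Agent.Lib.Helper18_TF4InvFacts
import Cfsg.Agent.Lib.Helper36_F4BN
import Cfsg.Agent.Lib.Helper41_TiMain
import Cfsg.Agent.Lib.Helper91_TF4I_FACTS

/-!
# S2184 market (architect helper18), package TITS (helper48)

`u8 σ 1 0 = x_27(1) x_25(1) x_30(1)` (an element of order four of `²F₄(2) = twistedF4 (ZMod 2) 1`) does not lie in the derived
subgroup `T` (the Tits group).  `T` has index two and contains every involution (helper41, `Helper41_TiMain`).  If `u8 σ 1 0`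
were in `T`, every generator of `²F₄(2)` would be: the pair words square to one (the negative one is the conjugate of the
positive one under `n_A`), the class words of `(p₂, p₃)` are the powers of `u8 σ 1 0` (`u8_mul`), and those of `(-p₂, -p₃)` are
their conjugates under `n_B` (`nJ_conj2`: conjugation by `n_J` in characteristic two, no signs; `T` is normal).  Then `T = ⊤`,
but the index is two.  `u8_not_mem_commutator_aux` is the statement for an arbitrary ring endomorphism `σ` of `ZMod 2` and an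
arbitrary proof of membership.
-/

set_option autoImplicit false

namespace Cfsg.Agent.Lib.Helper48_TF4I_TITS

open Cfsg Cfsg.Lie Cfsg.Agent.Lib.Helper18_ChevGL Cfsg.Agent.Lib.Helper18_ChevUni
  Cfsg.Agent.Lib.Helper18_ChevWeyl
  Cfsg.Agent.Lib.Helper36_F4Setup Cfsg.Agent.Lib.Helper18_TF4Swap Cfsg.Agent.Lib.Helper18_TF4Inv
  Cfsg.Agent.Lib.Helper36_TwistW Cfsg.Agent.Lib.Helper36_F4BN

section conj

variable {K : Type*} [Field K] [CharP K 2]

theorem eta_cast2 {e : ℤ} (h : e = 1 ∨ e = -1) : ((e : ℤ) : K) = 1 := by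
  rcases h with h | h
  · rw [h]; push_cast; rfl
  · rw [h]; push_cast; exact CharTwo.neg_eq 1

/-- Conjugation of a root element by `n_J` in characteristic two: no sign. -/
theorem nJ_conj2 (J : List ℕ) (hJ : ∀ i ∈ J, i < chevF4.rank) (s : ℕ) (hs : s < chevF4.nroots) (t : K) :
    nJ dc K J * X s t * (nJ dc K J)⁻¹ = X (reflJ chevF4 J s) t := by
  induction J with
  | nil => simp [nJ, reflJ]
  | cons i J ih =>
    have ih' := ih (fun j hj => hJ j (List.mem_cons_of_mem _ hj))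
    have hlt := reflJ_lt (certs K) J (fun j hj => hJ j (List.mem_cons_of_mem _ hj)) s hs
    have h1 := nGL_conj (F := K) dc i (hJ i (by simp)) _ hlt t
    rw [eta_cast2 (dc.etaZ_pm i (hJ i (by simp)) _ hlt), one_mul] at h1
    rw [nJ_cons, reflJ_cons]
    show _ = xGL dc _ t
    rw [← h1]
    show _ = nGL dc i * X (reflJ chevF4 J s) t * (nGL dc i)⁻¹
    rw [← ih']
    group

theorem JB_lt : ∀ i ∈ [1, 2, 1, 2], i < chevF4.rank := by decide
theorem JA_lt : ∀ i ∈ [0, 3], i < chevF4.rank := by decide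

theorem rB27 : reflJ chevF4 [1, 2, 1, 2] 27 = 20 := by decide +kernel
theorem rB25 : reflJ chevF4 [1, 2, 1, 2] 25 = 22 := by decide +kernel
theorem rB28 : reflJ chevF4 [1, 2, 1, 2] 28 = 19 := by decide +kernel
theorem rB30 : reflJ chevF4 [1, 2, 1, 2] 30 = 17 := by decide +kernel
theorem rA33 : reflJ chevF4 [0, 3] 33 = 14 := by decide +kernel
theorem rA24 : reflJ chevF4 [0, 3] 24 = 23 := by decide +kernel

/-- the element `n_B` -/
abbrev nB (K : Type*) [Field K] : GL chevF4.Idx K := nJ dc K [1, 2, 1, 2]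
/-- the element `n_A` -/
abbrev nA (K : Type*) [Field K] : GL chevF4.Idx K := nJ dc K [0, 3]

omit [CharP K 2] in
theorem conj_mul4 (n a b c d : GL chevF4.Idx K) :
    n * (a * (b * (c * (d * 1)))) * n⁻¹ = (n * a * n⁻¹) * ((n * b * n⁻¹) * ((n * c * n⁻¹) * ((n * d * n⁻¹) * 1))) := by
  group

omit [CharP K 2] in
theorem conj_mul2 (n a b : GL chevF4.Idx K) :
    n * (a * (b * 1)) * n⁻¹ = (n * a * n⁻¹) * ((n * b * n⁻¹) * 1) := by
  group

theorem nB_class (a b c d : K) :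
    nB K * (X 27 a * (X 25 b * (X 28 c * (X 30 d * 1)))) * (nB K)⁻¹ = X 20 a * (X 22 b * (X 19 c * (X 17 d * 1))) := by
  rw [conj_mul4, nJ_conj2 _ JB_lt 27 (by decide), nJ_conj2 _ JB_lt 25 (by decide), nJ_conj2 _ JB_lt 28 (by decide),
    nJ_conj2 _ JB_lt 30 (by decide), rB27, rB25, rB28, rB30]

theorem nA_pair (a b : K) :
    nA K * (X 33 a * (X 24 b * 1)) * (nA K)⁻¹ = X 14 a * (X 23 b * 1) := by
  rw [conj_mul2, nJ_conj2 _ JA_lt 33 (by decide), nJ_conj2 _ JA_lt 24 (by decide), rA33, rA24]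

theorem pair_sq (a b : K) : (X 33 a * (X 24 b * 1)) * (X 33 a * (X 24 b * 1)) = 1 := by
  rw [mul_one, mul_assoc, sw_24_33', X_add', X_add, CharTwo.add_self_eq_zero, CharTwo.add_self_eq_zero, X_zero, X_zero, mul_one]

theorem u8_mul (σ : K →+* K) (hσ : ∀ x, σ (σ x) = x ^ 2) (k l p r : K) :
    u8 σ k l * u8 σ p r = u8 σ (k + p) (σ k * p + l + r) := by
  have h := Phi_rmul8 σ hσ (e8 k l) p r
  rw [Phi_e8] at h
  rw [h, ← Phi_e8]
  congr 1
  ext <;> simp [rmul8, e8]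

end conj

/-! ## The group `²F₄(2)` -/

section main

/-- `²F₄(2)` as a matrix group -/
abbrev G2 : Subgroup (GL chevF4.Idx (ZMod 2)) := twistedF4 (ZMod 2) 1

/-- the image of the derived subgroup of `²F₄(2)` in the general linear group -/
noncomputable abbrev S2 : Subgroup (GL chevF4.Idx (ZMod 2)) := (commutator ↥G2).map G2.subtype

theorem index_comm_G2 : (commutator ↥G2).index = 2 := Cfsg.Agent.Lib.Helper41_TiMain.index_comm_Gm

theorem invol_mem_G2 (g : ↥G2) (hg : orderOf g = 2) : g ∈ commutator ↥G2 :=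
  Cfsg.Agent.Lib.Helper41_TiMain.invol_mem g hg

theorem mem_S2_of_sq {g : GL chevF4.Idx (ZMod 2)} (hg : g ∈ G2) (h2 : g * g = 1) : g ∈ S2 := by
  refine ⟨⟨g, hg⟩, ?_, rfl⟩
  have h2' : (⟨g, hg⟩ : ↥G2) ^ 2 = 1 := by
    apply Subtype.ext
    rw [pow_two]
    exact h2
  have hd : orderOf (⟨g, hg⟩ : ↥G2) ∣ 2 := orderOf_dvd_of_pow_eq_one h2'
  rcases (Nat.dvd_prime Nat.prime_two).mp hd with h1 | h1
  · rw [orderOf_eq_one_iff] at h1
    rw [SetLike.mem_coe, h1]
    exact Subgroup.one_mem _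
  · exact invol_mem_G2 _ h1

theorem conj_mem_S2 {n g : GL chevF4.Idx (ZMod 2)} (hn : n ∈ G2) (hg : g ∈ S2) : n * g * n⁻¹ ∈ S2 := by
  obtain ⟨y, hy, rfl⟩ := hg
  refine ⟨⟨n, hn⟩ * y * ⟨n, hn⟩⁻¹, ?_, ?_⟩
  · exact (inferInstance : (commutator ↥G2).Normal).conj_mem y hy ⟨n, hn⟩
  · rw [Subgroup.subtype_apply, Subgroup.coe_mul, Subgroup.coe_mul, Subgroup.coe_inv, Subgroup.subtype_apply]

theorem card2 : Fintype.card (ZMod 2) = 2 ^ (2 * 0 + 1) := by rw [ZMod.card]; norm_num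

theorem nB_mem : nB (ZMod 2) ∈ G2 := sgF_mem (K := ZMod 2) (m := 0) card2 1 (by norm_num)

theorem nA_mem : nA (ZMod 2) ∈ G2 := sgF_mem (K := ZMod 2) (m := 0) card2 0 (by norm_num)

theorem zmod2_cases (x : ZMod 2) : x = 0 ∨ x = 1 := by revert x; decide

variable (σ : ZMod 2 →+* ZMod 2)

theorem sig_id (x : ZMod 2) : σ x = x := by
  rcases zmod2_cases x with rfl | rfl
  · exact map_zero σ
  · exact map_one σ

theorem sig_sq (x : ZMod 2) : σ (σ x) = x ^ 2 := by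
  rw [sig_id, sig_id]
  revert x; decide

/-- the class word of `(p₂, p₃)` -/
def clsP (t u : ZMod 2) : GL chevF4.Idx (ZMod 2) :=
  X 27 (t ^ 1) * (X 25 t * (X 28 (t ^ (1 + 1) + u) * (X 30 (u ^ (2 * 1)) * 1)))

/-- the class word of `(-p₂, -p₃)` -/
def clsN (t u : ZMod 2) : GL chevF4.Idx (ZMod 2) :=
  X 20 (t ^ 1) * (X 22 t * (X 19 (t ^ (1 + 1) + u) * (X 17 (u ^ (2 * 1)) * 1)))

theorem clsP_eq (t u : ZMod 2) : clsP t u = u8 σ t (t ^ 2 + u) := by
  unfold clsP u8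
  rw [mul_one]
  refine X_congr 27 (pow_one t) (X_congr 25 (sig_id σ t).symm (X_congr 28 rfl (X_congr1 30 ?_)))
  rw [sig_id, sig_id]
  revert t u; decide

theorem u8_all (h8 : u8 σ 1 0 ∈ S2) (p r : ZMod 2) : u8 σ p r ∈ S2 := by
  have h01 : u8 σ 0 1 ∈ S2 := by
    have h := u8_mul σ (sig_sq σ) 1 0 1 0
    have e1 : (1 : ZMod 2) + 1 = 0 := by decide
    have e2 : σ 1 * 1 + 0 + 0 = (1 : ZMod 2) := by rw [sig_id]; decide
    rw [e1, e2] at h
    rw [← h]
    exact Subgroup.mul_mem _ h8 h8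
  have h11 : u8 σ 1 1 ∈ S2 := by
    have h := u8_mul σ (sig_sq σ) 0 1 1 0
    have e1 : (0 : ZMod 2) + 1 = 1 := by decide
    have e2 : σ 0 * 1 + 1 + 0 = (1 : ZMod 2) := by rw [sig_id]; decide
    rw [e1, e2] at h
    rw [← h]
    exact Subgroup.mul_mem _ h01 h8
  rcases zmod2_cases p with rfl | rfl <;> rcases zmod2_cases r with rfl | rfl
  · rw [u8_zero]; exact Subgroup.one_mem _
  · exact h01
  · exact h8
  · exact h11

theorem G2_le_S2 (h8 : u8 σ 1 0 ∈ S2) : G2 ≤ S2 := by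
  show Subgroup.closure _ ≤ _
  rw [Subgroup.closure_le]
  rintro g ⟨w, hw, hgw⟩
  have hgG : g ∈ G2 := Subgroup.subset_closure ⟨w, hw, hgw⟩
  have hg : g = wordGL dc w := eq_wordGL dc hgw
  have hP : ∀ t u, clsP t u ∈ S2 := fun t u => by rw [clsP_eq σ]; exact u8_all σ h8 _ _
  have hpair : ∀ t : ZMod 2, X 33 (t ^ 1) * (X 24 t * 1) ∈ G2 := by
    intro t
    apply Subgroup.subset_closure
    refine ⟨f4PairWord 1 f4p1 f4p4 t, Or.inl ⟨t, Or.inl rfl⟩, ?_⟩
    rw [← wordGL_coe dc]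
    rfl
  rcases hw with ⟨t, rfl | rfl⟩ | ⟨t, u, rfl | rfl⟩
  · have e : g = X 33 (t ^ 1) * (X 24 t * 1) := hg
    rw [SetLike.mem_coe, e]
    exact mem_S2_of_sq (hpair t) (pair_sq _ _)
  · have e : g = X 14 (t ^ 1) * (X 23 t * 1) := hg
    rw [SetLike.mem_coe, e, ← nA_pair]
    exact conj_mem_S2 nA_mem (mem_S2_of_sq (hpair t) (pair_sq _ _))
  · have e : g = clsP t u := hg
    rw [SetLike.mem_coe, e]
    exact hP t u
  · have e : g = clsN t u := hg
    rw [SetLike.mem_coe, e]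
    unfold clsN
    rw [← nB_class]
    exact conj_mem_S2 nB_mem (hP t u)

/-- The element `u8 σ 1 0` of order four of `²F₄(2)` does not lie in the derived subgroup (the Tits group). -/
theorem u8_not_mem_commutator_aux (h8 : u8 σ 1 0 ∈ twistedF4 (ZMod 2) (2 ^ 0)) :
    (⟨u8 σ 1 0, h8⟩ : ↥(twistedF4 (ZMod 2) (2 ^ 0))) ∉ commutator ↥(twistedF4 (ZMod 2) (2 ^ 0)) := by
  intro hmem
  have hS : u8 σ 1 0 ∈ S2 := ⟨⟨u8 σ 1 0, h8⟩, hmem, rfl⟩
  have hle := G2_le_S2 σ hS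
  have htop : commutator ↥G2 = ⊤ := by
    rw [eq_top_iff]
    intro y _
    obtain ⟨z, hz, hzy⟩ := hle y.2
    have : z = y := Subtype.ext hzy
    rwa [← this]
  have h2 := index_comm_G2
  rw [htop, Subgroup.index_top] at h2
  exact absurd h2 (by norm_num)

end main

/-! ## Package TITS, the verbatim statement (with `sg` and `facts` of `Helper91_TF4I_FACTS`) -/

section verbatim

open Cfsg.Agent.Lib.Helper91_TF4I_FACTS

theorem u8_not_mem_commutator :
    (⟨u8 (sg (ZMod 2) 0) 1 0, ((facts (K := ZMod 2) (m := 0) (by decide)).mem8 1 0)⟩ : ↥(twistedF4 (ZMod 2) (2 ^ 0))) ∉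
      commutator ↥(twistedF4 (ZMod 2) (2 ^ 0)) :=
  u8_not_mem_commutator_aux (sg (ZMod 2) 0) _

end verbatim

end Cfsg.Agent.Lib.Helper48_TF4I_TITS
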