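import Mathlib
import Cfsg.Agent.Lib.Helper75_TZDefs

set_option autoImplicit false

namespace Cfsg.Agent.Lib.Helper75_TZ

open Matrix Module
open Cfsg.Agent.Lib.Helper5_SpPerfect Cfsg.Agent.Lib.Helper81_SpWeights
  Cfsg.Agent.Lib.Helper81_JointEigen Cfsg.Agent.Lib.Helper81_Heis Cfsg.Agent.Lib.Helper81_WeilLin
  Cfsg.Agent.Lib.Helper81_Schrodinger

section Fpart

variable {F : Type*} [Field F] [Fintype F] [DecidableEq F] {m : ℕ} {K : Type*} [Field K]
  [IsAlgClosed K] [CharZero K] {M : Type*} [AddCommGroup M] [Module K M] [FiniteDimensional K M]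

/-- PACKAGE F3: arithmetic -/
theorem gap_arith (q n : ℕ) (hq : 3 ≤ q) (hn : 2 ≤ n) :
    (q ^ n + 1) * (q + 1) < (q ^ n - 1) * (q ^ n - q) := by
  obtain ⟨k, rfl⟩ : ∃ k, n = 2 + k := ⟨n - 2, by omega⟩
  have hx : q * q ≤ q ^ (2 + k) := by
    rw [pow_add, pow_two]
    exact Nat.le_mul_of_pos_right _ (pow_pos (by omega) k)
  generalize q ^ (2 + k) = x at hx ⊢
  obtain ⟨d, rfl⟩ : ∃ d, x = q * q + d := ⟨x - q * q, by omega⟩
  obtain ⟨e, rfl⟩ : ∃ e, q = 3 + e := ⟨q - 3, by omega⟩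
  have e1 : (3 + e) * (3 + e) + d - 1 = 8 + 6 * e + e * e + d := by
    have : (3 + e) * (3 + e) = 9 + 6 * e + e * e := by ring
    omega
  have e2 : (3 + e) * (3 + e) + d - (3 + e) = 6 + 5 * e + e * e + d := by
    have : (3 + e) * (3 + e) = 9 + 6 * e + e * e := by ring
    omega
  rw [e1, e2]
  nlinarith [Nat.zero_le (e * e), Nat.zero_le (d * d), Nat.zero_le (e * d), Nat.zero_le (e*e*e), Nat.zero_le (e*e*d)]

end Fpart

end Cfsg.Agent.Lib.Helper75_TZ
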