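import Mathlib
import Cfsg.Agent.Lib.Helper75_TZDefs
import Cfsg.Agent.Lib.Helper10_TZ_REP1
import Cfsg.Agent.Lib.Helper10_TZ_SISO

/-!
helper91: S2524 package W6 (architect helper75, sub-architect helper81): the Weil modules are
pairwise non-isomorphic; aux form `W6aux.weilP_iso_imp_of` with the statements of W4c
(`finrank_funP`) and W5 (`weilP_wsp`, `weilP_wsp_ne_bot`) as hypotheses.
-/

set_option autoImplicit false
set_option linter.unusedSectionVars false
set_option linter.unusedVariables false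

namespace Cfsg.Agent.Lib.Helper75_TZ

open Matrix Module
open Cfsg.Agent.Lib.Helper5_SpPerfect Cfsg.Agent.Lib.Helper81_SpWeights
  Cfsg.Agent.Lib.Helper81_JointEigen Cfsg.Agent.Lib.Helper81_Heis Cfsg.Agent.Lib.Helper81_WeilLin
  Cfsg.Agent.Lib.Helper81_Schrodinger

section Fpart

variable {F : Type*} [Field F] [Fintype F] [DecidableEq F] {m : ℕ} {K : Type*} [Field K]
  [IsAlgClosed K] [CharZero K] {M : Type*} [AddCommGroup M] [Module K M] [FiniteDimensional K M]

namespace W6aux

/-- W6 with the needed statements of W4c and W5 as hypotheses -/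
theorem weilP_iso_imp_of {k : ℕ} (ψ₀ : AddChar F K) (hψ₀ : ψ₀ ≠ 1) (h2 : (2 : F) ≠ 0)
    (hk : 1 ≤ k) {a a' : F} (ha : a ≠ 0) (ha' : a' ≠ 0) (p p' : Bool)
    (hW4c : ∀ q : Bool, 2 * finrank K (funP k F K q) + (if q then 1 else 0) =
      Fintype.card F ^ k + (if q then 0 else 1))
    (hW5a : ∀ s : Fin k → F, s ≠ 0 → wsp (weilP ψ₀ hψ₀ h2 a ha k p) ψ₀ (rk1S a s) ≠ ⊥)
    (hW5b : ∀ (T : symSub k F) (f : funP k F K p'), f ∈ wsp (weilP ψ₀ hψ₀ h2 a' ha' k p') ψ₀ T →
      ∀ s : Fin k → F, f.1 s ≠ 0 → T = rk1S a' s)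
    (h : IsoRep (weilP ψ₀ hψ₀ h2 a ha k p) (weilP ψ₀ hψ₀ h2 a' ha' k p')) :
    p = p' ∧ IsSquare (a / a') := by
  constructor
  · -- equal dimensions
    have hfr := isoRep_finrank h
    have h1 := hW4c p
    have h1' := hW4c p'
    rw [hfr] at h1
    cases p <;> cases p'
    · rfl
    · exfalso
      simp only [Bool.false_eq_true, if_false, if_true] at h1 h1'
      omega
    · exfalso
      simp only [Bool.false_eq_true, if_false, if_true] at h1 h1'
      omega
    · rfl
  · -- compare the weights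
    set i : Fin k := ⟨0, hk⟩ with hi
    set x : Fin k → F := Pi.single i 1 with hx
    have hx0 : x ≠ 0 := by
      intro e
      have := congrFun e i
      rw [hx, Pi.single_eq_same, Pi.zero_apply] at this
      exact one_ne_zero this
    have hne := hW5a x hx0
    have hne' := (isoRep_wsp_ne_bot ψ₀ h (rk1S a x)).mp hne
    obtain ⟨f, hfmem, hf0⟩ := Submodule.exists_mem_ne_zero_of_ne_bot hne'
    have hf1 : f.1 ≠ 0 := fun e => hf0 (Subtype.ext e)
    obtain ⟨s, hs⟩ : ∃ s, f.1 s ≠ 0 := by
      by_contra hcon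
      push Not at hcon
      exact hf1 (funext hcon)
    have hT := hW5b (rk1S a x) f hfmem s hs
    have hii := congrArg (fun T : symSub k F => T.1 i i) hT
    have e1 : (rk1S a x).1 i i = a := by
      show (a • vecMulVec x x) i i = a
      rw [Matrix.smul_apply, Matrix.vecMulVec_apply, hx, Pi.single_eq_same, smul_eq_mul, mul_one,
        mul_one]
    have e2 : (rk1S a' s).1 i i = a' * (s i * s i) := by
      show (a' • vecMulVec s s) i i = a' * (s i * s i)
      rw [Matrix.smul_apply, Matrix.vecMulVec_apply, smul_eq_mul]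
    simp only [e1, e2] at hii
    refine ⟨s i, ?_⟩
    rw [hii]
    field_simp

end W6aux

end Fpart

end Cfsg.Agent.Lib.Helper75_TZ
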