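import Mathlib
import Cfsg.Agent.Lib.Helper75_TZDefs
import Cfsg.Agent.Lib.Helper10_TZ_REP1
import Cfsg.Agent.Lib.Helper10_TZ_SISO
import Cfsg.Agent.Lib.Helper91_TZ_W6aux
import Cfsg.Agent.Lib.Helper95_TZ_W4c
import Cfsg.Agent.Lib.Helper27_TZ_W5

/-!
helper91: S2524 package W6 (architect helper75, sub-architect helper81): the Weil modules are
pairwise non-isomorphic.
-/

set_option autoImplicit false
set_option linter.unusedSectionVars false
set_option linter.unusedVariables false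

namespace Cfsg.Agent.Lib.Helper75_TZ

open Matrix Module
open Cfsg.Agent.Lib.Helper5_SpPerfect Cfsg.Agent.Lib.Helper81_SpWeights
  Cfsg.Agent.Lib.Helper81_JointEigen Cfsg.Agent.Lib.Helper81_Heis Cfsg.Agent.Lib.Helper81_WeilLin
  Cfsg.Agent.Lib.Helper81_Schrodinger

section Fpart

variable {F : Type*} [Field F] [Fintype F] [DecidableEq F] {m : ℕ} {K : Type*} [Field K]
  [IsAlgClosed K] [CharZero K] {M : Type*} [AddCommGroup M] [Module K M] [FiniteDimensional K M]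

/-- PACKAGE W6: the Weil modules are pairwise non-isomorphic -/
theorem weilP_iso_imp {k : ℕ} (ψ₀ : AddChar F K) (hψ₀ : ψ₀ ≠ 1) (h2 : (2 : F) ≠ 0)
    (hodd : Odd (Fintype.card F)) (hk : 1 ≤ k) {a a' : F} (ha : a ≠ 0) (ha' : a' ≠ 0) (p p' : Bool)
    (h : IsoRep (weilP ψ₀ hψ₀ h2 a ha k p) (weilP ψ₀ hψ₀ h2 a' ha' k p')) :
    p = p' ∧ IsSquare (a / a') :=
  W6aux.weilP_iso_imp_of ψ₀ hψ₀ h2 hk ha ha' p p'
    (fun q => finrank_funP (K := K) (k := k) hodd q)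
    (fun s hs => weilP_wsp_ne_bot ψ₀ hψ₀ h2 ha p s hs)
    (fun T f hf => (weilP_wsp ψ₀ hψ₀ h2 ha' p' T f).mp hf) h

end Fpart

end Cfsg.Agent.Lib.Helper75_TZ
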