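import Mathlib
import Cfsg.Prelude.Def_Characters
import Cfsg.Agent.Lib.Helper75_TZDefs
import Cfsg.Agent.Lib.Helper3_CharBridge
import Cfsg.Agent.Lib.Helper3_CharOrtho
import Cfsg.Agent.Lib.Helper95_TZ_W4a
import Cfsg.Agent.Lib.Helper2_TZ_W4b
import Cfsg.Agent.Lib.Helper95_TZ_W4c
import Cfsg.Agent.Lib.Helper91_TZ_W6
import Cfsg.Agent.Lib.Helper10_TZ_REP1
import Cfsg.Agent.Lib.Helper57_TZ_F3

/-!
# TZ market (helper75, row S2524), package F4 (helper48): the frozen statement of S2524 from the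
classification `irr_cases` (package F4a), here as a HYPOTHESIS (`IrrCases`); the verbatim
wrapper is `Helper48_TZ_F4.lean`.
-/

set_option autoImplicit false

namespace Cfsg.Agent.Lib.Helper75_TZ

open Matrix Module
open Cfsg.Agent.Lib.Helper5_SpPerfect Cfsg.Agent.Lib.Helper81_SpWeights
  Cfsg.Agent.Lib.Helper81_JointEigen Cfsg.Agent.Lib.Helper81_Heis Cfsg.Agent.Lib.Helper81_WeilLin
  Cfsg.Agent.Lib.Helper81_Schrodinger

namespace F4aux

set_option linter.unusedSectionVars false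
set_option linter.unusedVariables false

/-- an irreducible representation with trivial action is one-dimensional -/
theorem finrank_of_trivial {K Γ M : Type*} [Field K] [Group Γ] [AddCommGroup M] [Module K M]
    (R : Γ →* Module.End K M) (hirr : IrrRep R) (htriv : ∀ g, R g = 1) : finrank K M = 1 := by
  obtain ⟨hnt, hsub⟩ := hirr
  obtain ⟨v, hv⟩ := exists_ne (0 : M)
  have h1 := hsub (Submodule.span K {v}) (fun g w hw => by rw [htriv g]; exact hw)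
  rcases h1 with h1 | h1
  · exact absurd ((Submodule.span_singleton_eq_bot).1 h1) hv
  · rw [← finrank_top K M, ← h1, finrank_span_singleton hv]

theorem two_ne_zero_of_odd' {F : Type*} [Field F] [Fintype F] (hodd : Odd (Fintype.card F)) :
    (2 : F) ≠ 0 := by
  intro h
  have hchar : ringChar F ∣ 2 := (ringChar.spec F 2).mp (by exact_mod_cast h)
  have hdvd : ringChar F ∣ Fintype.card F := by
    obtain ⟨p, hp⟩ := CharP.exists F
    obtain ⟨k, hpk, hk⟩ := FiniteField.card F p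
    have : ringChar F = p := ringChar.eq F p
    rw [this, hk]
    exact dvd_pow_self p (PNat.ne_zero k)
  have hprime : (ringChar F).Prime := CharP.char_is_prime F (ringChar F)
  have h2' : ringChar F = 2 := (Nat.prime_dvd_prime_iff_eq hprime Nat.prime_two).mp hchar
  rw [h2'] at hdvd
  exact (Nat.not_even_iff_odd.mpr hodd) (even_iff_two_dvd.mpr hdvd)

theorem ringChar_ne_two' {F : Type*} [Field F] [Fintype F] (hodd : Odd (Fintype.card F)) :
    ringChar F ≠ 2 := by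
  intro h
  apply two_ne_zero_of_odd' hodd
  have h3 : ((2 : ℕ) : F) = 0 := (ringChar.spec F 2).mpr (by rw [h])
  exact_mod_cast h3

section main

variable {F : Type*} [Field F] [Fintype F] [DecidableEq F] {n : ℕ}

/-- the conclusion of package F4a (`irr_cases`) for the modules `Fin k → ℂ` -/
def IrrCases (n : ℕ) (ψ₀ : AddChar F ℂ) (hψ₀ : ψ₀ ≠ 1) (h2 : (2 : F) ≠ 0) (ε : F) (hε0 : ε ≠ 0) :
    Prop :=
  ∀ (k : ℕ) (R : SpG n F →* Module.End ℂ (Fin k → ℂ)), IrrRep R →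
    (∀ g, R g = 1) ∨ (∃ p : Bool, IsoRep (weilP ψ₀ hψ₀ h2 1 one_ne_zero n p) R) ∨
      (∃ p : Bool, IsoRep (weilP ψ₀ hψ₀ h2 ε hε0 n p) R) ∨
      (Fintype.card F ^ n - 1) * (Fintype.card F ^ n - Fintype.card F) ≤
        2 * (Fintype.card F + 1) * finrank ℂ (Fin k → ℂ)

/-- the Weil module as a Mathlib representation -/
noncomputable abbrev wrep (ψ₀ : AddChar F ℂ) (hψ₀ : ψ₀ ≠ 1) (h2 : (2 : F) ≠ 0) (a : F) (ha : a ≠ 0)
    (k : ℕ) (p : Bool) : Representation ℂ (SpG k F) (funP k F ℂ p) :=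
  weilP ψ₀ hψ₀ h2 a ha k p

theorem wrep_irr (ψ₀ : AddChar F ℂ) (hψ₀ : ψ₀ ≠ 1) (h2 : (2 : F) ≠ 0) {a : F} (ha : a ≠ 0)
    {k : ℕ} (hk : 1 ≤ k) (p : Bool) : (wrep ψ₀ hψ₀ h2 a ha k p).IsIrreducible := by
  have h : IrrRep (weilP ψ₀ hψ₀ h2 a ha k p) := by
    cases p
    · exact weilP_irr_even ψ₀ hψ₀ h2 ha hk
    · exact weilP_irr_odd ψ₀ hψ₀ h2 ha hk
  exact (irrRep_iff _).1 h

/-- the degrees -/
theorem finrank_even (hodd : Odd (Fintype.card F)) (k : ℕ) :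
    2 * finrank ℂ (funP k F ℂ false) = Fintype.card F ^ k + 1 := by
  have := finrank_funP (K := ℂ) (k := k) hodd false
  simpa using this

theorem finrank_odd (hodd : Odd (Fintype.card F)) (k : ℕ) :
    2 * finrank ℂ (funP k F ℂ true) + 1 = Fintype.card F ^ k := by
  have := finrank_funP (K := ℂ) (k := k) hodd true
  simpa using this

/-- the classification, in terms of characters -/
theorem char_cases (hodd : Odd (Fintype.card F)) (hn : 2 ≤ n) (ψ₀ : AddChar F ℂ)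
    (hψ₀ : ψ₀ ≠ 1) (h2 : (2 : F) ≠ 0) (ε : F) (hε : ¬ IsSquare ε) (hε0 : ε ≠ 0)
    (hF4a : IrrCases n ψ₀ hψ₀ h2 ε hε0)
    (χ : Cfsg.IrrCharacter (SpG n F)) :
    ∃ k : ℕ, (χ : SpG n F → ℂ) 1 = (k : ℂ) ∧
      (k = 1 ∨
        (∃ p : Bool, k = finrank ℂ (funP n F ℂ p) ∧
          (χ : SpG n F → ℂ) = (wrep ψ₀ hψ₀ h2 1 one_ne_zero n p).character) ∨
        (∃ p : Bool, k = finrank ℂ (funP n F ℂ p) ∧
          (χ : SpG n F → ℂ) = (wrep ψ₀ hψ₀ h2 ε hε0 n p).character) ∨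
        (Fintype.card F ^ n - 1) * (Fintype.card F ^ n - Fintype.card F) ≤
          2 * (Fintype.card F + 1) * k) := by
  obtain ⟨χf, k, ρ, hirr, hχ⟩ := χ
  refine ⟨k, ?_, ?_⟩
  · show χf 1 = (k : ℂ)
    rw [← hχ, Representation.char_one, Module.finrank_fin_fun]
  have hI : IrrRep (ρ : SpG n F →* Module.End ℂ (Fin k → ℂ)) := (irrRep_iff _).2 hirr
  have hfr : finrank ℂ (Fin k → ℂ) = k := Module.finrank_fin_fun ℂ
  rcases hF4a k (ρ : SpG n F →* Module.End ℂ (Fin k → ℂ)) hI with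
    h | ⟨p, h⟩ | ⟨p, h⟩ | h
  · left
    rw [← hfr]
    exact finrank_of_trivial _ hI h
  · right; left
    refine ⟨p, ?_, ?_⟩
    · rw [isoRep_finrank h, hfr]
    · obtain ⟨φ⟩ := (isoRep_iff _ _).1 h
      show χf = _
      rw [← hχ]
      exact (Representation.char_iso φ).symm
  · right; right; left
    refine ⟨p, ?_, ?_⟩
    · rw [isoRep_finrank h, hfr]
    · obtain ⟨φ⟩ := (isoRep_iff _ _).1 h
      show χf = _
      rw [← hχ]
      exact (Representation.char_iso φ).symm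
  · right; right; right
    rw [hfr] at h
    exact h

end main


section count

variable {F : Type*} [Field F] [Fintype F] [DecidableEq F] {n : ℕ}

theorem wchar_irr (ψ₀ : AddChar F ℂ) (hψ₀ : ψ₀ ≠ 1) (h2 : (2 : F) ≠ 0) {a : F} (ha : a ≠ 0)
    {k : ℕ} (hk : 1 ≤ k) (p : Bool) :
    Cfsg.IsIrrCharacter (SpG k F) (wrep ψ₀ hψ₀ h2 a ha k p).character := by
  haveI := wrep_irr ψ₀ hψ₀ h2 ha hk p
  exact Cfsg.Agent.Lib.Helper3_CharBridge.isIrrCharacter_of_rep _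

theorem wchar_ne (hodd : Odd (Fintype.card F)) (ψ₀ : AddChar F ℂ) (hψ₀ : ψ₀ ≠ 1) (h2 : (2 : F) ≠ 0)
    (ε : F) (hε : ¬ IsSquare ε) (hε0 : ε ≠ 0) {k : ℕ} (hk : 1 ≤ k) (p : Bool) :
    (wrep ψ₀ hψ₀ h2 1 one_ne_zero k p).character ≠ (wrep ψ₀ hψ₀ h2 ε hε0 k p).character := by
  intro h
  haveI : Fintype (SpG k F) := Fintype.ofFinite _
  haveI := wrep_irr ψ₀ hψ₀ h2 (one_ne_zero (α := F)) hk p
  haveI := wrep_irr ψ₀ hψ₀ h2 hε0 hk p
  obtain ⟨φ⟩ := Cfsg.Agent.Lib.Helper3_CharOrtho.nonempty_equiv_of_char_eq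
    (wrep ψ₀ hψ₀ h2 1 one_ne_zero k p) (wrep ψ₀ hψ₀ h2 ε hε0 k p) h
  have hiso : IsoRep (weilP ψ₀ hψ₀ h2 ε hε0 k p) (weilP ψ₀ hψ₀ h2 1 one_ne_zero k p) :=
    (isoRep_iff _ _).2 ⟨φ⟩
  have := (weilP_iso_imp ψ₀ hψ₀ h2 hodd hk hε0 one_ne_zero p p hiso).2
  rw [div_one] at this
  exact hε this

/-- the counting statement -/
theorem card_eq_two (hodd : Odd (Fintype.card F)) (hn : 2 ≤ n) (ψ₀ : AddChar F ℂ)
    (hψ₀ : ψ₀ ≠ 1) (h2 : (2 : F) ≠ 0) (ε : F) (hε : ¬ IsSquare ε) (hε0 : ε ≠ 0)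
    (hF4a : IrrCases n ψ₀ hψ₀ h2 ε hε0) (p : Bool)
    (hd1 : finrank ℂ (funP n F ℂ p) ≠ 1)
    (hdp : finrank ℂ (funP n F ℂ (!p)) ≠ finrank ℂ (funP n F ℂ p))
    (hgap : ¬ ((Fintype.card F ^ n - 1) * (Fintype.card F ^ n - Fintype.card F) ≤
      2 * (Fintype.card F + 1) * finrank ℂ (funP n F ℂ p))) :
    Nat.card {χ : Cfsg.IrrCharacter (SpG n F) //
      (χ : SpG n F → ℂ) 1 = (finrank ℂ (funP n F ℂ p) : ℂ)} = 2 := by
  have hk : 1 ≤ n := by omega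
  rw [Nat.card_eq_two_iff]
  refine ⟨⟨⟨_, wchar_irr ψ₀ hψ₀ h2 (one_ne_zero (α := F)) hk p⟩, Representation.char_one _⟩,
    ⟨⟨_, wchar_irr ψ₀ hψ₀ h2 hε0 hk p⟩, Representation.char_one _⟩, ?_, ?_⟩
  · intro h
    have h1 := congrArg (fun z => ((z.1 : Cfsg.IrrCharacter (SpG n F)) : SpG n F → ℂ)) h
    exact wchar_ne hodd ψ₀ hψ₀ h2 ε hε hε0 hk p h1
  · rw [Set.eq_univ_iff_forall]
    rintro ⟨χ, hχ1⟩
    obtain ⟨k, hk1, hcases⟩ := char_cases hodd hn ψ₀ hψ₀ h2 ε hε hε0 hF4a χ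
    rw [hk1] at hχ1
    have hkd : k = finrank ℂ (funP n F ℂ p) := by exact_mod_cast hχ1
    have hpp : ∀ p' : Bool, k = finrank ℂ (funP n F ℂ p') → p' = p := by
      intro p' hp'
      by_contra hne
      have : p' = !p := by
        cases p <;> cases p' <;> simp_all
      rw [this] at hp'
      exact hdp (hp'.symm.trans hkd)
    rcases hcases with h | ⟨p', hp', h⟩ | ⟨p', hp', h⟩ | h
    · exact absurd (hkd ▸ h) hd1
    · have := hpp p' hp'
      subst this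
      left
      exact Subtype.ext (Subtype.ext h)
    · have := hpp p' hp'
      subst this
      right
      exact Subtype.ext (Subtype.ext h)
    · rw [hkd] at h
      exact absurd h hgap

end count


section final

theorem arith_pack (q n fe fo : ℕ) (hq3 : 3 ≤ q) (hn : 2 ≤ n) (hfe : 2 * fe = q ^ n + 1)
    (hfo : 2 * fo + 1 = q ^ n) (harith : (q ^ n + 1) * (q + 1) < (q ^ n - 1) * (q ^ n - q)) :
    fe ≠ 1 ∧ fo ≠ 1 ∧ fo ≠ fe ∧ ¬((q ^ n - 1) * (q ^ n - q) ≤ 2 * (q + 1) * fe) ∧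
      ¬((q ^ n - 1) * (q ^ n - q) ≤ 2 * (q + 1) * fo) ∧ q ^ n - 1 = 2 * fo := by
  obtain ⟨N, hN⟩ : ∃ N, N = q ^ n := ⟨_, rfl⟩
  have hN9 : 9 ≤ N := by
    rw [hN]
    calc 9 = 3 ^ 2 := by norm_num
      _ ≤ q ^ 2 := Nat.pow_le_pow_left hq3 2
      _ ≤ q ^ n := Nat.pow_le_pow_right (by omega) hn
  rw [← hN] at hfe hfo harith ⊢
  have hlt : (q + 1) * (2 * fe) < (N - 1) * (N - q) := by
    rw [hfe, mul_comm]
    exact harith
  refine ⟨by omega, by omega, by omega, ?_, ?_, by omega⟩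
  · have : 2 * (q + 1) * fe = (q + 1) * (2 * fe) := by ring
    rw [this]
    exact not_le.2 hlt
  · have h1 : 2 * (q + 1) * fo ≤ (q + 1) * (2 * fe) := by
      have : fo ≤ fe := by omega
      calc 2 * (q + 1) * fo ≤ 2 * (q + 1) * fe := Nat.mul_le_mul_left _ this
        _ = (q + 1) * (2 * fe) := by ring
    exact not_le.2 (lt_of_le_of_lt h1 hlt)

/-- **S2524**, in the form of the frozen statement, from the conclusion of package F4a. -/
theorem frozen_form_of {F : Type*} [Field F] [Fintype F] (hodd : Odd (Fintype.card F)) (n : ℕ) (hn : 2 ≤ n)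
    (hF4a : ∀ (_ : DecidableEq F) (ψ₀ : AddChar F ℂ) (hψ₀ : ψ₀ ≠ 1) (h2 : (2 : F) ≠ 0) (ε : F)
      (_ : ¬ IsSquare ε) (hε0 : ε ≠ 0), IrrCases n ψ₀ hψ₀ h2 ε hε0) :
    Nat.card {χ : Cfsg.IrrCharacter ↥(Matrix.symplecticGroup (Fin n) F) // (χ : ↥(Matrix.symplecticGroup (Fin n) F) → ℂ) 1 = (((Fintype.card F) ^ n + 1 : ℕ) : ℂ) / 2} = 2 ∧
    Nat.card {χ : Cfsg.IrrCharacter ↥(Matrix.symplecticGroup (Fin n) F) // (χ : ↥(Matrix.symplecticGroup (Fin n) F) → ℂ) 1 = (((Fintype.card F) ^ n - 1 : ℕ) : ℂ) / 2} = 2 ∧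
    ∀ χ : Cfsg.IrrCharacter ↥(Matrix.symplecticGroup (Fin n) F),
      (χ : ↥(Matrix.symplecticGroup (Fin n) F) → ℂ) 1 ≠ 1 →
      (χ : ↥(Matrix.symplecticGroup (Fin n) F) → ℂ) 1 ≠ (((Fintype.card F) ^ n + 1 : ℕ) : ℂ) / 2 →
      (χ : ↥(Matrix.symplecticGroup (Fin n) F) → ℂ) 1 ≠ (((Fintype.card F) ^ n - 1 : ℕ) : ℂ) / 2 →
      (((Fintype.card F) ^ n - 1 : ℕ) : ℝ) * (((Fintype.card F) ^ n - Fintype.card F : ℕ) : ℝ) / (2 * ((Fintype.card F : ℕ) + 1 : ℝ)) ≤ ‖(χ : ↥(Matrix.symplecticGroup (Fin n) F) → ℂ) 1‖ := by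
  classical
  have h2 : (2 : F) ≠ 0 := two_ne_zero_of_odd' hodd
  obtain ⟨ε, hε⟩ := FiniteField.exists_nonsquare (ringChar_ne_two' hodd)
  have hε0 : ε ≠ 0 := by
    rintro rfl
    exact hε (IsSquare.zero)
  obtain ⟨ψ₀, hψ'⟩ := (AddChar.exists_apply_ne_zero (α := F) (a := (1 : F))).mpr one_ne_zero
  have hψ₀ : ψ₀ ≠ 1 := fun h => hψ' (by rw [h]; rfl)
  have hq3 : 3 ≤ Fintype.card F := by
    have h1 : 1 < Fintype.card F := Fintype.one_lt_card
    rcases hodd with ⟨m, hm⟩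
    omega
  have hfe := finrank_even (F := F) hodd n
  have hfo := finrank_odd (F := F) hodd n
  have harith := gap_arith (Fintype.card F) n hq3 hn
  obtain ⟨a1, a2, a3, a4, a5, a6⟩ := arith_pack (Fintype.card F) n _ _ hq3 hn hfe hfo harith
  have hcast1 : ((Fintype.card F ^ n + 1 : ℕ) : ℂ) / 2 = (finrank ℂ (funP n F ℂ false) : ℂ) := by
    rw [← hfe]
    push_cast
    ring
  have hcast2 : ((Fintype.card F ^ n - 1 : ℕ) : ℂ) / 2 = (finrank ℂ (funP n F ℂ true) : ℂ) := by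
    rw [a6]
    push_cast
    ring
  refine ⟨?_, ?_, ?_⟩
  · rw [hcast1]
    exact card_eq_two hodd hn ψ₀ hψ₀ h2 ε hε hε0 (hF4a _ ψ₀ hψ₀ h2 ε hε hε0) false a1 a3 a4
  · rw [hcast2]
    exact card_eq_two hodd hn ψ₀ hψ₀ h2 ε hε hε0 (hF4a _ ψ₀ hψ₀ h2 ε hε hε0) true a2 (Ne.symm a3) a5
  · intro χ h1 hp hm
    obtain ⟨k, hk1, hcases⟩ := char_cases hodd hn ψ₀ hψ₀ h2 ε hε hε0 (hF4a _ ψ₀ hψ₀ h2 ε hε hε0) χ
    rw [hk1] at h1 hp hm ⊢
    rw [hcast1] at hp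
    rw [hcast2] at hm
    have hk1' : k ≠ 1 := fun h => h1 (by rw [h]; norm_num)
    have hfin : ∀ p : Bool, k ≠ finrank ℂ (funP n F ℂ p) := by
      intro p
      cases p
      · exact fun h => hp (by rw [h])
      · exact fun h => hm (by rw [h])
    rcases hcases with h | ⟨p, hp', _⟩ | ⟨p, hp', _⟩ | h
    · exact absurd h hk1'
    · exact absurd hp' (hfin p)
    · exact absurd hp' (hfin p)
    · rw [Complex.norm_natCast, div_le_iff₀ (by positivity)]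
      have h' : (Fintype.card F ^ n - 1) * (Fintype.card F ^ n - Fintype.card F) ≤
          k * (2 * (Fintype.card F + 1)) := by
        calc (Fintype.card F ^ n - 1) * (Fintype.card F ^ n - Fintype.card F)
            ≤ 2 * (Fintype.card F + 1) * k := h
          _ = k * (2 * (Fintype.card F + 1)) := by ring
      exact_mod_cast h'

end final

end F4aux

end Cfsg.Agent.Lib.Helper75_TZ
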