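import Mathlib
import Cfsg.Prelude.Def_Characters
import Cfsg.Prelude.Def_Blocks
import Cfsg.Agent.Lib.Helper48_ThreeDegDefs
import Cfsg.Agent.Lib.Helper39_McKayTools
import Cfsg.Agent.Lib.Helper80_CharBasic

/-!
# S4460: from `|cd(G)| = 3` (frozen form) to `CD3 G f g` (helper48)
-/

set_option autoImplicit false

namespace Cfsg.Agent.Lib.Helper48_ThreeDegBridge

open Cfsg Cfsg.Agent.Lib.Helper48_ThreeDegDefs

universe u

variable {G : Type u} [Group G]

/-- the frozen hypothesis of S4460 gives `CD3 G f g` for suitable `f g`. -/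
theorem exists_cd3_of_card
    (hcd : Nat.card {n : ℕ // ∃ χ : Cfsg.IrrCharacter G, Cfsg.charDegree (χ : G → ℂ) = n} = 3) :
    ∃ f g : ℕ, CD3 G f g := by
  classical
  set S : Set ℕ := {n | ∃ χ : Cfsg.IrrCharacter G, Cfsg.charDegree (χ : G → ℂ) = n} with hS
  have hcard : S.ncard = 3 := by
    rw [← _root_.Nat.card_coe_set_eq]
    exact hcd
  obtain ⟨x, y, z, -, -, -, hxyz⟩ := Set.ncard_eq_three.mp hcard
  have hmem : ∀ χ : IrrCharacter G, charDegree (χ : G → ℂ) = x ∨ charDegree (χ : G → ℂ) = y ∨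
      charDegree (χ : G → ℂ) = z := by
    intro χ
    have : charDegree (χ : G → ℂ) ∈ S := ⟨χ, rfl⟩
    rw [hxyz] at this
    simpa using this
  have hval : ∀ χ : IrrCharacter G, (χ : G → ℂ) 1 = (x : ℂ) ∨ (χ : G → ℂ) 1 = (y : ℂ) ∨
      (χ : G → ℂ) 1 = (z : ℂ) := by
    intro χ
    have h1 := (Cfsg.Agent.Lib.Helper39_McKayTools.charDegree_spec χ).1
    rcases hmem χ with h | h | h
    · exact Or.inl (by rw [h1, h])
    · exact Or.inr (Or.inl (by rw [h1, h]))
    · exact Or.inr (Or.inr (by rw [h1, h]))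
  -- the trivial character has degree one
  have hone : Cfsg.IsIrrCharacter G (fun _ => (1 : ℂ)) :=
    Cfsg.Agent.Lib.Helper80_CharBasic.isIrrCharacter_one G
  have h1 := hval ⟨_, hone⟩
  simp only [] at h1
  rcases h1 with h1 | h1 | h1
  · refine ⟨y, z, fun χ => ?_⟩
    rcases hval χ with h | h | h
    · exact Or.inl (by rw [h, ← h1])
    · exact Or.inr (Or.inl h)
    · exact Or.inr (Or.inr h)
  · refine ⟨x, z, fun χ => ?_⟩
    rcases hval χ with h | h | h
    · exact Or.inr (Or.inl h)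
    · exact Or.inl (by rw [h, ← h1])
    · exact Or.inr (Or.inr h)
  · refine ⟨x, y, fun χ => ?_⟩
    rcases hval χ with h | h | h
    · exact Or.inr (Or.inl h)
    · exact Or.inr (Or.inr h)
    · exact Or.inl (by rw [h, ← h1])

end Cfsg.Agent.Lib.Helper48_ThreeDegBridge
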