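import Mathlib
import Cfsg.Prelude.Def_Characters
import Cfsg.Agent.Lib.Helper48_ThreeDegDefs
import Cfsg.Agent.Lib.Helper51_Isaacs124
import Cfsg.Agent.Lib.Helper59_CliffordDeg
import Cfsg.Agent.Lib.Helper75_CharArith
import Cfsg.Agent.Lib.Helper75_LinChar
import Cfsg.Agent.Lib.Helper75_Clifford
import Cfsg.Agent.Lib.Helper80_CharBasic
import Cfsg.Agent.Lib.Helper3_CharBridge
import Cfsg.Agent.S4835

set_option autoImplicit false

namespace Cfsg.Agent.Lib.Helper50_S4460_F2c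

open Cfsg Cfsg.Agent.Lib.Helper48_ThreeDegDefs
open Cfsg.Agent.Lib.Helper3_CharBridge Cfsg.Agent.Lib.Helper3_CharOrtho
  Cfsg.Agent.Lib.Helper3_CharComplete
open scoped commutatorElement

universe u

variable {G : Type u} [Group G] [Finite G]

/-- PK-F2c. -/
theorem caseF_degf_kernel (K N : Subgroup G) [K.Normal] [N.Normal] (p : ℕ)
    (hF : FrobData K N p) (f g : ℕ) (hcd : CD3 G f g) (hf2 : 2 ≤ f) (hidx : N.index = f)
    (hpg : p ∣ g) (χ : IrrCharacter G) (hχ : (χ : G → ℂ) 1 = (f : ℂ)) :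
    ∀ x ∈ ⁅N, N⁆, (χ : G → ℂ) x = (χ : G → ℂ) 1 := by
  classical
  have hFin : Fintype G := Fintype.ofFinite G
  have hFinN : Fintype N := Fintype.ofFinite N
  obtain ⟨a, ha⟩ := hF.hpow
  have ha0 : a ≠ 0 := by
    rintro rfl
    rw [pow_zero, Subgroup.relIndex_eq_one] at ha
    exact hF.hne (le_antisymm hF.hKN ha)
  have hpf : ¬ p ∣ f := by
    intro h
    have hcop := hF.hcop
    rw [ha, hidx] at hcop
    have h1 : p ∣ p ^ a := dvd_pow_self p ha0
    exact hF.hp.one_lt.ne' (Nat.eq_one_of_dvd_coprimes hcop h1 h)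
  have hlin : ∀ θ : IrrCharacter N,
      classInner (Cfsg.Agent.Lib.Helper75_Clifford.res N (χ : G → ℂ)) (θ : N → ℂ) ≠ 0 →
      (θ : N → ℂ) 1 = 1 := by
    intro θ hθ
    obtain ⟨d, hdpos, hd⟩ := Cfsg.Agent.Lib.Helper80_CharBasic.irr_apply_one θ
    have hdf : d ∣ f :=
      Cfsg.Agent.Lib.Helper59_CliffordDeg.degree_dvd_of_clifford N inferInstance χ.2 θ.2 hθ f d hχ hd
    have hpd : ¬ p ∣ d := fun h => hpf (h.trans hdf)
    rcases Cfsg.Agent.Lib.Helper51_Isaacs124.isaacs_12_4_degree K N hF.hKN hF.hne hF.hab hF.hcop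
      hF.hfpf θ d hd with ⟨χ', hχ'⟩ | ⟨hvan, _⟩
    · rw [hidx] at hχ'
      rcases hcd χ' with h | h | h
      · exfalso
        rw [hχ'] at h
        have h2 : f * d = 1 := by exact_mod_cast h
        have := Nat.eq_one_of_mul_eq_one_right h2
        omega
      · rw [hχ'] at h
        have h2 : f * d = f := by exact_mod_cast h
        have h3 : d = 1 := by
          have : f * d = f * 1 := by rw [h2, mul_one]
          exact Nat.eq_of_mul_eq_mul_left (by omega) this
        rw [hd, h3]; simp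
      · exfalso
        rw [hχ'] at h
        have h2 : f * d = g := by exact_mod_cast h
        rw [← h2] at hpg
        rcases (Nat.Prime.dvd_mul hF.hp).mp hpg with h | h
        · exact hpf h
        · exact hpd h
    · exfalso
      exact hpd (Cfsg.Agent.Lib.Helper51_Isaacs124.prime_dvd_of_vanish K N hF.hKN hF.hne θ hvan d hd
        hF.hp ha)
  have hχN : IsCharacter N (Cfsg.Agent.Lib.Helper75_Clifford.res N (χ : G → ℂ)) :=
    Cfsg.Agent.Lib.Helper75_CharArith.isCharacter_restrict N (isCharacter_of_isIrrCharacter χ.2)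
  obtain ⟨m, hm, hdec⟩ := Cfsg.Agent.Lib.Helper75_CharArith.exists_multiplicities hχN
  have hle : ⁅N, N⁆ ≤ Cfsg.Agent.S4835.irrKer χ := by
    rw [Subgroup.commutator_le]
    intro x hx y hy
    rw [Cfsg.Agent.S4835.mem_irrKer]
    have h1 : (χ : G → ℂ) ⁅x, y⁆ =
        Cfsg.Agent.Lib.Helper75_Clifford.res N (χ : G → ℂ) ⁅(⟨x, hx⟩ : N), ⟨y, hy⟩⁆ := by
      simp [Cfsg.Agent.Lib.Helper75_Clifford.res, commutatorElement_def]
    have h2 : (χ : G → ℂ) 1 = Cfsg.Agent.Lib.Helper75_Clifford.res N (χ : G → ℂ) 1 := by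
      simp [Cfsg.Agent.Lib.Helper75_Clifford.res]
    rw [h1, h2, hdec]
    simp only [Finset.sum_apply, Pi.smul_apply, smul_eq_mul]
    apply Finset.sum_congr rfl
    intro θ _
    by_cases hmθ : m θ = 0
    · rw [hmθ]; simp
    · congr 1
      have hθ1 : (θ : N → ℂ) 1 = 1 := hlin θ (by rw [hm θ]; exact_mod_cast hmθ)
      have hL : Cfsg.Agent.Lib.Helper75_LinChar.IsLin N (θ : N → ℂ) :=
        ⟨isCharacter_of_isIrrCharacter θ.2, hθ1⟩
      have hx0 := hL.ne_zero ⟨x, hx⟩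
      have hy0 := hL.ne_zero ⟨y, hy⟩
      rw [commutatorElement_def, hL.map_mul, hL.map_mul, hL.map_mul, hL.map_inv, hL.map_inv, hθ1]
      field_simp
  intro x hx
  exact hle hx

end Cfsg.Agent.Lib.Helper50_S4460_F2c
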