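import Mathlib
import Cfsg.Prelude.Def_Characters
import Cfsg.Prelude.Def_Solvable
import Cfsg.Agent.Lib.Helper48_ThreeDegDefs
import Cfsg.Agent.Lib.Helper51_Isaacs124
import Cfsg.Agent.Lib.Helper59_CliffordDeg
import Cfsg.Agent.Lib.Helper80_CharBasic

/-!
# S4460 (Isaacs 12.15), package PK-F1 (helper51)

Case F with `p ∤ g` and `[G:N] = f`: the irreducible characters of `N` have degree `1` or `g / f`.
-/

set_option autoImplicit false

namespace Cfsg.Agent.Lib.Helper51_S4460_PKF1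

open Cfsg Cfsg.Agent.Lib.Helper48_ThreeDegDefs

universe u

variable {G : Type u} [Group G] [Finite G]

/-- PK-F1. `p ∤ g` (and `[G:N] = f`): every `ψ ∈ Irr(N)` has `p'`-degree (it divides `f` or `g`),
so by 12.4 `f ψ(1) ∈ {1,f,g}`: `cd(N) ⊆ {1, g/f}`. -/
theorem caseF_pndvd (K N : Subgroup G) [K.Normal] [N.Normal] (p : ℕ) (hF : FrobData K N p)
    (f g : ℕ) (hcd : CD3 G f g) (hf2 : 2 ≤ f) (hidx : N.index = f) (hpg : ¬ p ∣ g)
    (ψ : IrrCharacter N) :
    (ψ : N → ℂ) 1 = 1 ∨ (ψ : N → ℂ) 1 = ((g / f : ℕ) : ℂ) := by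
  classical
  have : Fintype G := Fintype.ofFinite G
  have : Fintype N := Fintype.ofFinite N
  obtain ⟨d, hdpos, hd⟩ := Cfsg.Agent.Lib.Helper80_CharBasic.irr_apply_one ψ
  obtain ⟨a, ha⟩ := hF.hpow
  have ha0 : a ≠ 0 := by
    intro h
    rw [h, pow_zero] at ha
    exact hF.hne (le_antisymm hF.hKN (Subgroup.relIndex_eq_one.1 ha))
  have hp1 : ¬ p ∣ 1 := fun h => hF.hp.one_lt.ne' (Nat.dvd_one.1 h)
  have hpf : ¬ p ∣ f := by
    intro h
    have hc : Nat.gcd (p ^ a) f = 1 := by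
      have := hF.hcop
      rwa [ha, hidx] at this
    have h3 : p ∣ Nat.gcd (p ^ a) f := Nat.dvd_gcd (dvd_pow_self p ha0) h
    rw [hc] at h3
    exact hp1 h3
  -- an irreducible character of `G` over `ψ`
  obtain ⟨χ, hχ, hne⟩ := Cfsg.Agent.Lib.Helper59_CliffordDeg.exists_irr_over N ψ.2
  have hD : ∃ D : ℕ, χ 1 = (D : ℂ) ∧ (D = 1 ∨ D = f ∨ D = g) := by
    rcases hcd ⟨χ, hχ⟩ with h | h | h
    · exact ⟨1, by rw [Nat.cast_one]; exact h, Or.inl rfl⟩
    · exact ⟨f, h, Or.inr (Or.inl rfl)⟩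
    · exact ⟨g, h, Or.inr (Or.inr rfl)⟩
  obtain ⟨D, hD1, hDc⟩ := hD
  have hdD : d ∣ D :=
    Cfsg.Agent.Lib.Helper59_CliffordDeg.degree_dvd_of_clifford N inferInstance hχ ψ.2 hne D d hD1 hd
  have hpd : ¬ p ∣ d := by
    intro h
    have h3 : p ∣ D := h.trans hdD
    rcases hDc with rfl | rfl | rfl
    · exact hp1 h3
    · exact hpf h3
    · exact hpg h3
  rcases Cfsg.Agent.Lib.Helper51_Isaacs124.isaacs_12_4_degree K N hF.hKN hF.hne hF.hab hF.hcop
    hF.hfpf ψ d hd with ⟨χ', hχ'⟩ | ⟨-, hnc⟩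
  · rw [hidx] at hχ'
    rcases hcd χ' with h | h | h
    · exfalso
      rw [hχ'] at h
      have h3 : f * d = 1 := by exact_mod_cast h
      nlinarith
    · left
      rw [hχ'] at h
      have h3 : f * d = f := by exact_mod_cast h
      have h4 : d = 1 := by nlinarith
      rw [hd, h4, Nat.cast_one]
    · right
      rw [hχ'] at h
      have h3 : f * d = g := by exact_mod_cast h
      rw [hd, ← h3, Nat.mul_div_cancel_left _ (by omega : 0 < f)]
  · exfalso
    apply hnc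
    rw [ha]
    exact Nat.Coprime.pow_right a ((Nat.Prime.coprime_iff_not_dvd hF.hp).2 hpd).symm

end Cfsg.Agent.Lib.Helper51_S4460_PKF1
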