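import Mathlib
import Cfsg.Prelude.Def_Characters
import Cfsg.Prelude.Def_Blocks
import Cfsg.Prelude.Def_Solvable
import Cfsg.Agent.S4461
import Cfsg.Agent.Lib.Helper74_TwoDegD
import Cfsg.Agent.Lib.Helper77_QuotRank
import Cfsg.Agent.Lib.Helper75_CoprimeDeg
import Cfsg.Agent.Lib.Helper1_Cores

/-!
# Consequences of the Broline–Garrison theorem for groups with few character degrees (helper64)

For a solvable group `G`: an irreducible character of maximal degree `> 1` has its kernel properly inside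
`F(G)`; hence `G / F(G)` has no irreducible character of that degree.  If the degrees of `G` lie in
`{1, f, g}` then the degrees of `G / F(G)` lie in `{1, min f g}` (when the two differ) and `G'' ≤ F(G)`.
-/

set_option autoImplicit false
set_option linter.unusedSectionVars false

namespace Cfsg.Agent.Lib.Helper64_CD3BG

open Cfsg

universe u

variable {G : Type u} [Group G] [Finite G]

theorem natCast_inj_C {a b : ℕ} (h : (a : ℂ) = (b : ℂ)) : a = b := by exact_mod_cast h

/-- the inflation of an irreducible character of `G ⧸ N` -/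
noncomputable def infl (N : Subgroup G) [N.Normal] (ψ : IrrCharacter (G ⧸ N)) : IrrCharacter G :=
  ⟨fun x => (ψ : G ⧸ N → ℂ) (x : G ⧸ N), Cfsg.Agent.Lib.Helper77_QuotRank.isIrrCharacter_comp_mk N ψ⟩

theorem infl_apply (N : Subgroup G) [N.Normal] (ψ : IrrCharacter (G ⧸ N)) (x : G) :
    (infl N ψ : G → ℂ) x = (ψ : G ⧸ N → ℂ) (x : G ⧸ N) := rfl

/-- Broline–Garrison: in a solvable group an irreducible character with `F(G)` in its kernel does not have
degree `M > 1` when `M` bounds all the degrees of `G` -/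
theorem degree_ne_of_fitting_le_ker (hsolv : Group.IsSolvable G) (M : ℕ) (hM1 : 1 < M)
    (hmax : ∀ χ : IrrCharacter G, ∀ d : ℕ, (χ : G → ℂ) 1 = (d : ℂ) → d ≤ M)
    (χ : IrrCharacter G)
    (hker : ∀ x ∈ fittingSubgroup G, (χ : G → ℂ) x = (χ : G → ℂ) 1) :
    (χ : G → ℂ) 1 ≠ (M : ℂ) := by
  intro hχ1
  have hFin : Fintype G := Fintype.ofFinite G
  set F := fittingSubgroup G with hF
  set K := Cfsg.Agent.S4835.irrKer χ with hK
  have hFK : F ≤ K := by
    intro x hx
    rw [hK, Cfsg.Agent.S4835.mem_irrKer]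
    exact hker x hx
  have hcontra : ∀ φ : IrrCharacter G, ¬ charDegree (χ : G → ℂ) < charDegree (φ : G → ℂ) := by
    intro φ hlt
    obtain ⟨d, -, hd⟩ := Cfsg.Agent.Lib.Helper80_CharBasic.irr_apply_one φ
    rw [Cfsg.Agent.Lib.Helper75_CoprimeDeg.charDegree_eq_of_one_eq hχ1,
      Cfsg.Agent.Lib.Helper75_CoprimeDeg.charDegree_eq_of_one_eq hd] at hlt
    have := hmax φ d hd
    omega
  have hcase : ¬ K ≤ fittingSubgroup G ∨
      (K = fittingSubgroup G ∧ Group.IsSolvable (G ⧸ K) ∧ K ≠ ⊤) := by
    by_cases hKF : K ≤ fittingSubgroup G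
    · right
      refine ⟨le_antisymm hKF hFK, inferInstance, ?_⟩
      intro htop
      -- then `χ` is constant, so of degree one
      have hconst : ∀ x : G, (χ : G → ℂ) x = (M : ℂ) := by
        intro x
        have hx : x ∈ K := by rw [htop]; exact Subgroup.mem_top x
        rw [hK, Cfsg.Agent.S4835.mem_irrKer] at hx
        rw [hx, hχ1]
      have hinner := Cfsg.Agent.Lib.Helper3_CharOrtho.classInner_self_of_isIrrCharacter χ.2
      have h2 : Cfsg.classInner (χ : G → ℂ) (χ : G → ℂ) = (M : ℂ) * (M : ℂ) := by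
        unfold Cfsg.classInner
        simp_rw [hconst]
        simp only [map_natCast, Finset.sum_const, Finset.card_univ, nsmul_eq_mul]
        rw [Nat.card_eq_fintype_card]
        have hne : (Fintype.card G : ℂ) ≠ 0 := by exact_mod_cast Fintype.card_ne_zero
        field_simp
      rw [h2] at hinner
      have h3 : M * M = 1 := by exact_mod_cast hinner
      have : M = 1 := Nat.eq_one_of_mul_eq_one_right h3
      omega
    · left; exact hKF
  obtain ⟨φ, hlt, -⟩ := Cfsg.Agent.S4461.result χ K (fun x => Cfsg.Agent.S4835.mem_irrKer χ x) hcase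
  exact hcontra φ hlt

/-- degrees of `G` in `{1, f, g}`, `G` solvable: a character with `F(G)` in its kernel has degree `1` or
`min f g` -/
theorem twoDeg_of_fitting_le_ker (hsolv : Group.IsSolvable G) (f g : ℕ)
    (hcd : ∀ χ : IrrCharacter G,
      (χ : G → ℂ) 1 = 1 ∨ (χ : G → ℂ) 1 = (f : ℂ) ∨ (χ : G → ℂ) 1 = (g : ℂ))
    (χ : IrrCharacter G)
    (hker : ∀ x ∈ fittingSubgroup G, (χ : G → ℂ) x = (χ : G → ℂ) 1) :
    (χ : G → ℂ) 1 = 1 ∨ (χ : G → ℂ) 1 = ((min f g : ℕ) : ℂ) := by
  have h3 := hcd χ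
  by_cases hM1 : 1 < max f g
  · have hmax : ∀ χ : IrrCharacter G, ∀ d : ℕ, (χ : G → ℂ) 1 = (d : ℂ) → d ≤ max f g := by
      intro χ d hd
      rcases hcd χ with h | h | h
      · rw [hd] at h
        have : d = 1 := by exact_mod_cast h
        omega
      · rw [hd] at h
        have : d = f := natCast_inj_C h
        rw [this]; exact le_max_left _ _
      · rw [hd] at h
        have : d = g := natCast_inj_C h
        rw [this]; exact le_max_right _ _
    have hne := degree_ne_of_fitting_le_ker hsolv (max f g) hM1 hmax χ hker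
    rcases h3 with h | h | h
    · exact Or.inl h
    · right
      rcases le_total f g with hfg | hfg
      · rw [min_eq_left hfg]; exact h
      · exfalso; apply hne; rw [max_eq_left hfg]; exact h
    · right
      rcases le_total f g with hfg | hfg
      · exfalso; apply hne; rw [max_eq_right hfg]; exact h
      · rw [min_eq_right hfg]; exact h
  · -- all degrees are `1`
    left
    obtain ⟨d, hdpos, hd⟩ := Cfsg.Agent.Lib.Helper80_CharBasic.irr_apply_one χ
    have hf : f ≤ 1 := by
      have := le_max_left f g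
      omega
    have hg : g ≤ 1 := by
      have := le_max_right f g
      omega
    rcases h3 with h | h | h
    · exact h
    · rw [hd] at h
      have : d = f := natCast_inj_C h
      have hd1 : d = 1 := by omega
      rw [hd, hd1]; simp
    · rw [hd] at h
      have : d = g := natCast_inj_C h
      have hd1 : d = 1 := by omega
      rw [hd, hd1]; simp

/-- degrees of `G` in `{1, f, g}`, `G` solvable: the degrees of `G ⧸ F(G)` lie in `{1, min f g}` -/
theorem twoDeg_quot_fitting (hsolv : Group.IsSolvable G) (f g : ℕ)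
    (hcd : ∀ χ : IrrCharacter G,
      (χ : G → ℂ) 1 = 1 ∨ (χ : G → ℂ) 1 = (f : ℂ) ∨ (χ : G → ℂ) 1 = (g : ℂ))
    (ψ : IrrCharacter (G ⧸ fittingSubgroup G)) :
    (ψ : G ⧸ fittingSubgroup G → ℂ) 1 = 1 ∨ (ψ : G ⧸ fittingSubgroup G → ℂ) 1 = ((min f g : ℕ) : ℂ) := by
  have hinf : (infl (fittingSubgroup G) ψ : G → ℂ) 1 = (ψ : G ⧸ fittingSubgroup G → ℂ) 1 := by
    rw [infl_apply]; rfl
  rw [← hinf]
  apply twoDeg_of_fitting_le_ker hsolv f g hcd
  intro x hx
  rw [infl_apply, infl_apply]
  have : ((x : G) : G ⧸ fittingSubgroup G) = ((1 : G) : G ⧸ fittingSubgroup G) := by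
    rw [QuotientGroup.eq]
    simpa using hx
  rw [this]

/-- degrees of `G` in `{1, f, g}`, `G` solvable: `G'' ≤ F(G)` -/
theorem derived_two_le_fitting (hsolv : Group.IsSolvable G) (f g : ℕ)
    (hcd : ∀ χ : IrrCharacter G,
      (χ : G → ℂ) 1 = 1 ∨ (χ : G → ℂ) 1 = (f : ℂ) ∨ (χ : G → ℂ) 1 = (g : ℂ)) :
    derivedSeries G 2 ≤ fittingSubgroup G := by
  have hcomm := Cfsg.Agent.Lib.Helper74_TwoDegD.commutator_comm_of_twoDeg
    (G := G ⧸ fittingSubgroup G) (min f g) (twoDeg_quot_fitting hsolv f g hcd)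
  have hbot : derivedSeries (G ⧸ fittingSubgroup G) 2 = ⊥ := by
    rw [eq_bot_iff]
    have h1 : derivedSeries (G ⧸ fittingSubgroup G) 2 =
        ⁅derivedSeries (G ⧸ fittingSubgroup G) 1, derivedSeries (G ⧸ fittingSubgroup G) 1⁆ :=
      derivedSeries_succ _ 1
    rw [h1, derivedSeries_one, Subgroup.commutator_le]
    intro a ha b hb
    rw [Subgroup.mem_bot, commutatorElement_eq_one_iff_mul_comm]
    exact hcomm a ha b hb
  have hmap := map_derivedSeries_le_derivedSeries (QuotientGroup.mk' (fittingSubgroup G)) 2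
  rw [hbot, le_bot_iff] at hmap
  intro x hx
  have hx1 : (QuotientGroup.mk' (fittingSubgroup G)) x ∈
      (derivedSeries G 2).map (QuotientGroup.mk' (fittingSubgroup G)) := Subgroup.mem_map_of_mem _ hx
  rw [hmap, Subgroup.mem_bot] at hx1
  rwa [QuotientGroup.mk'_apply, QuotientGroup.eq_one_iff] at hx1

end Cfsg.Agent.Lib.Helper64_CD3BG
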