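import Mathlib
import Cfsg.Prelude.Def_Characters
import Cfsg.Agent.Lib.Helper3_Taketa
import Cfsg.Agent.Lib.Helper3_NilpMono
import Cfsg.Agent.Lib.Helper74_TwoDegA

/-!
# Taketa's theorem, refined form (helper64)

For a monomial group `G` (every irreducible character induced from a linear character of a subgroup) and a
finite set `S` of natural numbers containing all irreducible character degrees, the `k`-th derived subgroup,
`k` the number of members of `S` that are `≤ χ(1)`, lies in the kernel of `χ`.  Hence the derived length of `G`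
is at most `S.card`; in particular a nilpotent group with character degrees among `1, f, g` has derived
length at most `3`.
-/

set_option autoImplicit false
set_option linter.unusedSectionVars false

namespace Cfsg.Agent.Lib.Helper64_TaketaDeg

open scoped ComplexConjugate commutatorElement
open Cfsg
open Cfsg.Agent.Lib.Helper3_CharBridge Cfsg.Agent.Lib.Helper3_CharOrtho
  Cfsg.Agent.Lib.Helper3_CharComplete Cfsg.Agent.Lib.Helper3_CharColumn
open Cfsg.Agent.Lib.Helper75_Induced Cfsg.Agent.Lib.Helper75_CharArith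
  Cfsg.Agent.Lib.Helper75_IndChar Cfsg.Agent.Lib.Helper3_Taketa
open Cfsg.Agent.Lib.Helper74_LinAct Cfsg.Agent.Lib.Helper74_TwoDegA

universe u

variable {G : Type u} [Group G] [Fintype G]

/-- Taketa's argument, counting the degrees below `χ(1)` -/
theorem irr_eq_of_mem_derivedSeries
    (hM : ∀ χ : G → ℂ, Cfsg.IsIrrCharacter G χ → ∃ (H : Subgroup G) (lam : H →* ℂˣ),
      χ = Cfsg.indFun H (fun h => (lam h : ℂ)))
    (S : Finset ℕ) (hS : ∀ χ : IrrCharacter G, ∃ d ∈ S, (χ : G → ℂ) 1 = (d : ℂ)) :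
    ∀ D : ℕ, ∀ χ : IrrCharacter G, (χ : G → ℂ) 1 = (D : ℂ) →
      ∀ n ∈ derivedSeries G ((S.filter (· ≤ D)).card), (χ : G → ℂ) n = (χ : G → ℂ) 1 := by
  classical
  have hone : Cfsg.IsIrrCharacter G (fun _ => (1 : ℂ)) :=
    Cfsg.Agent.Lib.Helper80_CharBasic.isIrrCharacter_one G
  -- `1 ∈ S`
  have h1S : 1 ∈ S := by
    obtain ⟨d, hd, hd1⟩ := hS ⟨_, hone⟩
    have : d = 1 := by
      have h : ((1 : ℕ) : ℂ) = (d : ℂ) := by simpa using hd1
      exact_mod_cast h.symm
    rwa [this] at hd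
  intro D
  induction D using Nat.strong_induction_on with
  | _ D ih =>
  intro χ hD n hn
  -- `D ∈ S`
  have hDS : D ∈ S := by
    obtain ⟨d, hd, hd1⟩ := hS χ
    have : d = D := by
      rw [hD] at hd1
      exact_mod_cast hd1.symm
    rwa [this] at hd
  have hDpos : 0 < D := by
    obtain ⟨d, hdpos, hd⟩ := irr_one_eq_natCast χ.2
    have : d = D := by
      rw [hD] at hd
      exact_mod_cast hd.symm
    omega
  set k := (S.filter (· ≤ D)).card with hk
  by_cases hD1 : D = 1
  · -- linear character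
    have h1 : (χ : G → ℂ) 1 = 1 := by rw [hD, hD1]; simp
    have hk1 : 1 ≤ k := by
      rw [hk]
      apply Finset.card_pos.2
      exact ⟨1, Finset.mem_filter.2 ⟨h1S, by omega⟩⟩
    have hnc : n ∈ commutator G := by
      have h2 : derivedSeries G k ≤ derivedSeries G 1 := derivedSeries_antitone G hk1
      have h3 : derivedSeries G 1 = commutator G := derivedSeries_one G
      rw [← h3]
      exact h2 hn
    rw [irr_eq_one_of_mem_commutator χ h1 hnc, h1]
  -- `D > 1`
  have hk2 : 2 ≤ k := by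
    rw [hk]
    have hsub : ({1, D} : Finset ℕ) ⊆ S.filter (· ≤ D) := by
      intro x hx
      rw [Finset.mem_insert, Finset.mem_singleton] at hx
      rcases hx with rfl | rfl
      · exact Finset.mem_filter.2 ⟨h1S, by omega⟩
      · exact Finset.mem_filter.2 ⟨hDS, le_refl _⟩
    have := Finset.card_le_card hsub
    rw [Finset.card_pair (fun h => hD1 h.symm)] at this
    exact this
  -- counting for smaller degrees
  have hcnt : ∀ D' : ℕ, D' < D → (S.filter (· ≤ D')).card ≤ k - 1 := by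
    intro D' hD'
    have hss : S.filter (· ≤ D') ⊂ S.filter (· ≤ D) := by
      rw [Finset.ssubset_iff_of_subset]
      · exact ⟨D, Finset.mem_filter.2 ⟨hDS, le_refl _⟩, fun h => by
          have := (Finset.mem_filter.1 h).2
          omega⟩
      · intro x hx
        have := Finset.mem_filter.1 hx
        exact Finset.mem_filter.2 ⟨this.1, by omega⟩
    have := Finset.card_lt_card hss
    omega
  obtain ⟨χ, hχ⟩ := χ
  change χ 1 = (D : ℂ) at hD
  show χ n = χ 1
  obtain ⟨H, lam, hχH⟩ := hM χ hχ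
  have : Fintype H := Fintype.ofFinite H
  set Φ : G → ℂ := Cfsg.indFun H (fun _ => (1 : ℂ)) with hΦdef
  have hΦ1 : Φ 1 = (D : ℂ) := by
    rw [hΦdef, Cfsg.Agent.Lib.Helper80_CharInd.indFun_one, mul_one, ← hD, hχH,
      Cfsg.Agent.Lib.Helper80_CharInd.indFun_one]
    simp
  have honeH : Cfsg.IsCharacter H (fun _ => (1 : ℂ)) :=
    isCharacter_of_isIrrCharacter (Cfsg.Agent.Lib.Helper80_CharBasic.isIrrCharacter_one H)
  have hΦchar : Cfsg.IsCharacter G Φ := isCharacter_indFun H honeH
  obtain ⟨mu, hmu, hΦsum⟩ := exists_multiplicities hΦchar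
  have hm1' : mu ⟨_, hone⟩ = 1 := by
    have h1 := hmu ⟨_, hone⟩
    rw [hΦdef, frobenius_reciprocity H _ _ (isClassFunction_of_isIrrCharacter hone)] at h1
    have h2 : Cfsg.classInner (fun _ : H => (1 : ℂ)) (fun _ : H => (1 : ℂ)) = 1 :=
      classInner_self_of_isIrrCharacter (Cfsg.Agent.Lib.Helper80_CharBasic.isIrrCharacter_one H)
    rw [h2] at h1
    exact_mod_cast h1.symm
  choose deg hdegpos hdeg using fun ψ : Cfsg.IrrCharacter G => irr_one_eq_natCast ψ.2
  have hsumdeg : D = ∑ ψ : Cfsg.IrrCharacter G, mu ψ * deg ψ := by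
    have h1 : Φ 1 = ∑ ψ : Cfsg.IrrCharacter G, (mu ψ : ℂ) * (ψ : G → ℂ) 1 := by
      conv_lhs => rw [hΦsum]
      simp [Finset.sum_apply]
    rw [hΦ1] at h1
    simp_rw [hdeg] at h1
    exact_mod_cast h1
  have hdeglt : ∀ ψ : Cfsg.IrrCharacter G, ψ ≠ ⟨_, hone⟩ → mu ψ ≠ 0 → deg ψ < D := by
    intro ψ hψ hmψ
    have h1 : mu ⟨_, hone⟩ * deg ⟨_, hone⟩ + mu ψ * deg ψ ≤
        ∑ ψ : Cfsg.IrrCharacter G, mu ψ * deg ψ := by
      have := Finset.sum_le_sum_of_subset (f := fun ψ => mu ψ * deg ψ)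
        (Finset.subset_univ ({⟨_, hone⟩, ψ} : Finset (Cfsg.IrrCharacter G)))
      rw [Finset.sum_pair hψ.symm] at this
      exact this
    rw [hm1', one_mul, ← hsumdeg] at h1
    have h2 := hdegpos ⟨_, hone⟩
    have h3 : deg ψ ≤ mu ψ * deg ψ := Nat.le_mul_of_pos_left _ (Nat.pos_of_ne_zero hmψ)
    omega
  -- `G^(k-1) ≤ H`
  have hle : derivedSeries G (k - 1) ≤ H := by
    intro x hx
    apply mem_of_indFun_one_eq
    show Φ x = Φ 1
    rw [hΦsum]
    simp only [Finset.sum_apply, Pi.smul_apply, smul_eq_mul]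
    apply Finset.sum_congr rfl
    intro ψ _
    by_cases hmψ : mu ψ = 0
    · rw [hmψ, Nat.cast_zero, zero_mul, zero_mul]
    congr 1
    by_cases hψ : ψ = ⟨_, hone⟩
    · rw [hψ]
    · have h1 := hdeglt ψ hψ hmψ
      apply ih (deg ψ) h1 ψ (hdeg ψ) x
      exact derivedSeries_antitone G (hcnt (deg ψ) h1) hx
  have hkk : derivedSeries G k = ⁅derivedSeries G (k - 1), derivedSeries G (k - 1)⁆ := by
    have : k = (k - 1) + 1 := by omega
    conv_lhs => rw [this]
    exact derivedSeries_succ G (k - 1)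
  have hle2 : derivedSeries G k ≤ (lam.ker).map H.subtype := by
    rw [hkk, Subgroup.commutator_le]
    intro a ha b hb
    set a' : H := ⟨a, hle ha⟩ with ha'
    set b' : H := ⟨b, hle hb⟩ with hb'
    refine ⟨a' * b' * a'⁻¹ * b'⁻¹, ?_, ?_⟩
    · show a' * b' * a'⁻¹ * b'⁻¹ ∈ lam.ker
      rw [MonoidHom.mem_ker, map_mul, map_mul, map_mul, map_inv, map_inv,
        mul_comm (lam a') (lam b'), mul_inv_cancel_right, mul_inv_cancel]
    · rw [commutatorElement_def]
      rfl
  have hle3 : derivedSeries G k ≤ H := hle2.trans (Subgroup.map_subtype_le _)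
  have hnorm : (derivedSeries G k).Normal := derivedSeries_normal G k
  rw [hχH]
  apply indFun_eq_of_normal_le_ker H _ (derivedSeries G k) hle3 _ hn
  intro x hx
  obtain ⟨y, hy, hyx⟩ := hle2 hx
  have hy' : y = ⟨x, hle3 hx⟩ := Subtype.ext hyx
  rw [← hy', MonoidHom.mem_ker.mp hy, map_one]

/-- Taketa: the derived length of a monomial group is at most the number of its character degrees -/
theorem derivedSeries_eq_bot_of_monomial
    (hM : ∀ χ : G → ℂ, Cfsg.IsIrrCharacter G χ → ∃ (H : Subgroup G) (lam : H →* ℂˣ),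
      χ = Cfsg.indFun H (fun h => (lam h : ℂ)))
    (S : Finset ℕ) (hS : ∀ χ : IrrCharacter G, ∃ d ∈ S, (χ : G → ℂ) 1 = (d : ℂ)) :
    derivedSeries G S.card = ⊥ := by
  classical
  rw [eq_bot_iff]
  intro n hn
  rw [Subgroup.mem_bot]
  have h1 : IsConj n 1 := by
    rw [isConj_iff_forall_irr]
    intro ψ
    obtain ⟨d, -, hd⟩ := hS ψ
    apply irr_eq_of_mem_derivedSeries hM S hS d ψ hd n
    exact derivedSeries_antitone G (Finset.card_le_card (Finset.filter_subset _ _)) hn
  exact isConj_one_left.mp h1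

/-- a monomial group with character degrees among `1, f, g` has derived length at most `3` -/
theorem derivedSeries_three_of_monomial
    (hM : ∀ χ : G → ℂ, Cfsg.IsIrrCharacter G χ → ∃ (H : Subgroup G) (lam : H →* ℂˣ),
      χ = Cfsg.indFun H (fun h => (lam h : ℂ)))
    (f g : ℕ) (hcd : ∀ χ : IrrCharacter G,
      (χ : G → ℂ) 1 = 1 ∨ (χ : G → ℂ) 1 = (f : ℂ) ∨ (χ : G → ℂ) 1 = (g : ℂ)) :
    derivedSeries G 3 = ⊥ := by
  classical
  have hS : ∀ χ : IrrCharacter G, ∃ d ∈ ({1, f, g} : Finset ℕ), (χ : G → ℂ) 1 = (d : ℂ) := by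
    intro χ
    rcases hcd χ with h | h | h
    · exact ⟨1, by simp, by simpa using h⟩
    · exact ⟨f, by simp, h⟩
    · exact ⟨g, by simp, h⟩
  have h1 := derivedSeries_eq_bot_of_monomial hM _ hS
  have h2 : ({1, f, g} : Finset ℕ).card ≤ 3 := Finset.card_le_three
  rw [eq_bot_iff, ← h1]
  exact derivedSeries_antitone G h2

/-- a nilpotent group with character degrees among `1, f, g` has derived length at most `3` -/
theorem derivedSeries_three_of_nilpotent [Group.IsNilpotent G]
    (f g : ℕ) (hcd : ∀ χ : IrrCharacter G,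
      (χ : G → ℂ) 1 = 1 ∨ (χ : G → ℂ) 1 = (f : ℂ) ∨ (χ : G → ℂ) 1 = (g : ℂ)) :
    derivedSeries G 3 = ⊥ :=
  derivedSeries_three_of_monomial
    (fun χ hχ => Cfsg.Agent.Lib.Helper3_NilpMono.monomial_of_nilpotent χ hχ) f g hcd

end Cfsg.Agent.Lib.Helper64_TaketaDeg
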