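import Mathlib
import Cfsg.Prelude.Def_Characters
import Cfsg.Prelude.Def_Solvable
import Cfsg.Agent.Lib.Helper48_ThreeDegDefs
import Cfsg.Agent.Lib.Helper64_CD3BG
import Cfsg.Agent.Lib.Helper64_TaketaDeg

/-!
# S4460 packages PK-BG and PK-T in helper48's exact shapes (helper64)
-/

set_option autoImplicit false
set_option linter.unusedSectionVars false

namespace Cfsg.Agent.Lib.Helper64_S4460_BG

open Cfsg Cfsg.Agent.Lib.Helper48_ThreeDegDefs

universe u

variable {G : Type u} [Group G] [Finite G]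

/-- PK-T. A nilpotent group with degrees in `{1,f,g}` has `G''' = 1`. -/
theorem taketa_three [Group.IsNilpotent G] (f g : ℕ) (hcd : CD3 G f g) :
    derivedSeries G 3 = ⊥ := by
  have := Fintype.ofFinite G
  exact Cfsg.Agent.Lib.Helper64_TaketaDeg.derivedSeries_three_of_nilpotent f g hcd

/-- PK-BG (1). A character with `F(G)` in its kernel does not have the largest degree
(`Cfsg.Agent.S4461.result`), so its degree is `1` or `min f g`. -/
theorem bg_degrees [Group.IsSolvable G] (hF : fittingSubgroup G ≠ ⊤) (f g : ℕ) (hcd : CD3 G f g)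
    (χ : IrrCharacter G)
    (hker : ∀ x ∈ fittingSubgroup G, (χ : G → ℂ) x = (χ : G → ℂ) 1) :
    (χ : G → ℂ) 1 = 1 ∨ (χ : G → ℂ) 1 = ((min f g : ℕ) : ℂ) :=
  Cfsg.Agent.Lib.Helper64_CD3BG.twoDeg_of_fitting_le_ker inferInstance f g hcd χ hker

/-- PK-BG (2). Hence `cd(G/F(G)) ⊆ {1, min f g}` and `G'' ≤ F(G)`. -/
theorem derived2_le_fitting [Group.IsSolvable G] (f g : ℕ) (hcd : CD3 G f g) :
    derivedSeries G 2 ≤ fittingSubgroup G :=
  Cfsg.Agent.Lib.Helper64_CD3BG.derived_two_le_fitting inferInstance f g hcd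

end Cfsg.Agent.Lib.Helper64_S4460_BG
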