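import Mathlib
import Cfsg.Prelude.Def_Characters
import Cfsg.Prelude.Def_Solvable
import Cfsg.Agent.Lib.Helper48_ThreeDegDefs
import Cfsg.Agent.Lib.Helper51_Isaacs124
import Cfsg.Agent.Lib.Helper74_TwoDegS
import Cfsg.Agent.Lib.Helper59_CliffordDeg
import Cfsg.Agent.Lib.Helper80_RelDegree
import Cfsg.Agent.Lib.Helper75_CoprimeDeg
import Cfsg.Agent.Lib.Helper3_CharColumn
import Cfsg.Agent.S4456

/-!
# S4460 package PK-F2a (helper64 for helper48)

Frobenius quotient `G/K` with kernel `N/K` a `p`-group, `p ∣ g`, and `p` divides the order of every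
nontrivial normal subgroup of `G`: then `N` is a `p`-group and `cd(N) ⊆ {1, g_p}`.
-/

set_option autoImplicit false
set_option linter.unusedSectionVars false

namespace Cfsg.Agent.Lib.Helper64_S4460_F2a

open Cfsg Cfsg.Agent.Lib.Helper48_ThreeDegDefs

universe u

variable {G : Type u} [Group G] [Finite G]

theorem natCast_inj_C {a b : ℕ} (h : (a : ℂ) = (b : ℂ)) : a = b := by exact_mod_cast h

/-- a normal subgroup of `p`-power index contains every element of order prime to `p` -/
theorem mem_of_coprime_order {N : Type u} [Group N] [Finite N] (Q : Subgroup N) [Q.Normal]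
    (p j : ℕ) (hidx : Q.index = p ^ j) (n : N) (hn : (orderOf n).Coprime p) : n ∈ Q := by
  have h1 : orderOf ((n : N ⧸ Q)) ∣ orderOf n := orderOf_map_dvd (QuotientGroup.mk' Q) n
  have h2 : orderOf ((n : N ⧸ Q)) ∣ p ^ j := by
    rw [← hidx, Subgroup.index_eq_card]
    exact orderOf_dvd_natCard _
  have h3 : orderOf ((n : N ⧸ Q)) ∣ Nat.gcd (orderOf n) (p ^ j) := Nat.dvd_gcd h1 h2
  have h4 : Nat.gcd (orderOf n) (p ^ j) = 1 := Nat.Coprime.pow_right j hn
  rw [h4, Nat.dvd_one, orderOf_eq_one_iff] at h3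
  exact (QuotientGroup.eq_one_iff n).1 h3

/-- a normal `p`-complement of a normal subgroup `N` of `G` is normal in `G` -/
theorem map_normal_of_pComplement (N : Subgroup G) [hN : N.Normal] (Q : Subgroup N) [Q.Normal]
    (p j : ℕ) (hcop : (Nat.card Q).Coprime p) (hidx : Q.index = p ^ j) :
    (Q.map N.subtype).Normal := by
  constructor
  intro x hx g
  obtain ⟨n, hnQ, rfl⟩ := hx
  have hmem : g * (n : G) * g⁻¹ ∈ N := hN.conj_mem _ n.2 g
  refine ⟨⟨g * (n : G) * g⁻¹, hmem⟩, ?_, rfl⟩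
  apply mem_of_coprime_order Q p j hidx
  have h1 : orderOf (⟨g * (n : G) * g⁻¹, hmem⟩ : N) = orderOf n := by
    rw [← Subgroup.orderOf_coe, ← Subgroup.orderOf_coe]
    show orderOf (g * (n : G) * g⁻¹) = orderOf (n : G)
    have := MulEquiv.orderOf_eq (MulAut.conj g) (n : G)
    rwa [MulAut.conj_apply] at this
  rw [h1]
  have h2 : orderOf n ∣ Nat.card Q := by
    have : orderOf (⟨n, hnQ⟩ : Q) = orderOf n := by
      rw [← Subgroup.orderOf_coe]
    rw [← this]
    exact orderOf_dvd_natCard _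
  exact Nat.Coprime.coprime_dvd_left h2 hcop

/-- PK-F2a -/
theorem caseF_r_eq_p (K N : Subgroup G) [K.Normal] [N.Normal] (p : ℕ) (hF : FrobData K N p)
    (f g : ℕ) (hcd : CD3 G f g) (hf2 : 2 ≤ f) (hidx : N.index = f) (hpg : p ∣ g)
    (hpX : ∀ X : Subgroup G, X.Normal → X ≠ ⊥ → p ∣ Nat.card X) (ψ : IrrCharacter N) :
    (ψ : N → ℂ) 1 = 1 ∨ (ψ : N → ℂ) 1 = ((ordProj[p] g : ℕ) : ℂ) := by
  classical
  have hFG : Fintype G := Fintype.ofFinite G
  have hp := hF.hp
  obtain ⟨a, ha⟩ := hF.hpow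
  have ha1 : a ≠ 0 := by
    rintro rfl
    rw [pow_zero, Subgroup.relIndex_eq_one] at ha
    exact hF.hne (le_antisymm hF.hKN ha)
  have hpf : p.Coprime f := by
    have h := hF.hcop
    rw [ha, hidx] at h
    exact (Nat.coprime_pow_left_iff (Nat.pos_of_ne_zero ha1) p f).1 h
  -- Step 1: nonlinear characters of `N` have degree divisible by `p`
  have step1 : ∀ θ : IrrCharacter N, ∀ d : ℕ, (θ : N → ℂ) 1 = d → d ≠ 1 → p ∣ d := by
    intro θ d hd hd1
    rcases Cfsg.Agent.Lib.Helper51_Isaacs124.isaacs_12_4_degree K N hF.hKN hF.hne hF.hab hF.hcop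
      hF.hfpf θ d hd with ⟨χ, hχ⟩ | ⟨hvan, _⟩
    · rw [hidx] at hχ
      rcases hcd χ with h | h | h
      · exfalso
        rw [hχ] at h
        have h1 : f * d = 1 := by exact_mod_cast h
        have : f = 1 := Nat.eq_one_of_mul_eq_one_right h1
        omega
      · exfalso
        rw [hχ] at h
        have h1 : f * d = f := natCast_inj_C h
        have : d = 1 := by
          have hfpos : 0 < f := by omega
          exact Nat.eq_of_mul_eq_mul_left hfpos (by rw [h1, mul_one])
        exact hd1 this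
      · rw [hχ] at h
        have h1 : f * d = g := natCast_inj_C h
        rw [← h1] at hpg
        exact (Nat.Coprime.dvd_mul_left hpf).1 hpg
    · exact Cfsg.Agent.Lib.Helper51_Isaacs124.prime_dvd_of_vanish K N hF.hKN hF.hne θ hvan d hd hp ha
  -- Step 2: Thompson on `N`
  obtain ⟨Q, hQn, hQcop, j, hQidx⟩ := Cfsg.Agent.S4456.result (G := N) p hp (by
    intro θ hθ1
    obtain ⟨d, hdpos, hd⟩ := Cfsg.Agent.Lib.Helper80_CharBasic.irr_apply_one θ
    rw [Cfsg.Agent.Lib.Helper75_CoprimeDeg.charDegree_eq_of_one_eq hd] at hθ1 ⊢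
    exact step1 θ d hd hθ1)
  have hQbot : Q = ⊥ := by
    by_contra hne
    have hnorm : (Q.map N.subtype).Normal := map_normal_of_pComplement N Q p j hQcop hQidx
    have hne' : Q.map N.subtype ≠ ⊥ := by
      intro h
      apply hne
      rw [eq_bot_iff]
      intro n hn
      have : (n : G) ∈ Q.map N.subtype := ⟨n, hn, rfl⟩
      rw [h, Subgroup.mem_bot] at this
      rw [Subgroup.mem_bot]
      exact Subtype.ext this
    have h1 := hpX _ hnorm hne'
    have h2 : Nat.card (Q.map N.subtype) = Nat.card Q :=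
      Nat.card_congr (Q.equivMapOfInjective N.subtype N.subtype_injective).symm.toEquiv
    rw [h2] at h1
    have h3 : p ∣ Nat.gcd (Nat.card Q) p := Nat.dvd_gcd h1 dvd_rfl
    rw [hQcop] at h3
    exact hp.one_lt.ne' (Nat.dvd_one.mp h3)
  have hNcard : Nat.card N = p ^ j := by
    rw [← hQidx, hQbot, Subgroup.index_bot]
  -- Step 3
  obtain ⟨d, hdpos, hd⟩ := Cfsg.Agent.Lib.Helper80_CharBasic.irr_apply_one ψ
  have hdN : d ∣ p ^ j := by
    rw [← hNcard]
    exact Cfsg.Agent.Lib.Helper74_TwoDegS.degree_dvd_card ψ d hd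
  obtain ⟨i, _, hi⟩ := (Nat.dvd_prime_pow hp).1 hdN
  obtain ⟨χ, hχ, hcon⟩ := Cfsg.Agent.Lib.Helper59_CliffordDeg.exists_irr_over N ψ.2
  obtain ⟨c, _, hc⟩ := Cfsg.Agent.Lib.Helper3_CharColumn.irr_one_eq_natCast hχ
  obtain ⟨e, hce, hediv⟩ := Cfsg.Agent.Lib.Helper80_RelDegree.rel_degree_dvd N χ hχ
    (ψ : N → ℂ) ψ.2 hcon c d hc hd
  rw [hidx] at hediv
  have hpe : p.Coprime e := Nat.Coprime.coprime_dvd_right hediv hpf
  rcases hcd ⟨χ, hχ⟩ with h | h | h
  · left
    change χ 1 = 1 at h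
    rw [hc] at h
    have h1 : c = 1 := by exact_mod_cast h
    rw [hce] at h1
    have : d = 1 := Nat.eq_one_of_mul_eq_one_left h1
    rw [hd, this]; simp
  · left
    change χ 1 = (f : ℂ) at h
    rw [hc] at h
    have h1 : c = f := natCast_inj_C h
    -- `d ∣ f`, `d = p^i`, `p` coprime to `f`
    have hdf : d ∣ f := by rw [← h1, hce]; exact Dvd.intro_left e rfl
    have hd1 : d = 1 := by
      rw [hi] at hdf ⊢
      have : (p ^ i).Coprime f := Nat.Coprime.pow_left i hpf
      exact Nat.eq_one_of_dvd_coprimes this dvd_rfl hdf |>.symm ▸ rfl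
    rw [hd, hd1]; simp
  · right
    change χ 1 = (g : ℂ) at h
    rw [hc] at h
    have h1 : c = g := natCast_inj_C h
    have hg : g = e * p ^ i := by rw [← h1, hce, hi]
    have hgpos : g ≠ 0 := by
      rw [hg]
      exact Nat.mul_ne_zero (by
        rintro rfl
        rw [hce, zero_mul] at h1
        omega) (pow_ne_zero _ hp.ne_zero)
    have hfac : g.factorization p = i := by
      rw [hg, Nat.factorization_mul (by
        rintro rfl
        simp at hg
        exact hgpos hg) (pow_ne_zero _ hp.ne_zero)]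
      have hpe' : ¬ p ∣ e := by
        intro hdiv
        have := Nat.eq_one_of_dvd_coprimes hpe dvd_rfl hdiv
        exact hp.one_lt.ne' this
      simp [Nat.factorization_eq_zero_of_not_dvd hpe', hp.factorization_self]
    rw [hd, hfac, hi]

end Cfsg.Agent.Lib.Helper64_S4460_F2a
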