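import Mathlib
import Cfsg.Prelude.Def_Characters
import Cfsg.Prelude.Def_Solvable
import Cfsg.Agent.Lib.Helper48_ThreeDegDefs
import Cfsg.Agent.Lib.Helper21_Fitting

/-!
# S4460 package PK-F2b3 (helper71 for helper48): `N / F(G)` is an `r'`-group
-/

set_option autoImplicit false

namespace Cfsg.Agent.Lib.Helper71_S4460_F2b3

open Cfsg Cfsg.Agent.Lib.Helper48_ThreeDegDefs

universe u

variable {G : Type u} [Group G] [Finite G]

/-- PK-F2b3. `N/F` is an `r'`-group: a Sylow `r`-subgroup `S` of `N` contains `F ≥ N'`, so is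
normal in `N`, characteristic, normal in `G`, nilpotent: `S ≤ F(G)`. -/
theorem caseF_coprime (N : Subgroup G) [N.Normal] (r : ℕ) (hr : r.Prime)
    (hFr : IsPGroup r (fittingSubgroup G)) (hFN : fittingSubgroup G ≤ N)
    (hab : ∀ x ∈ N, ∀ y ∈ N, x * y * x⁻¹ * y⁻¹ ∈ fittingSubgroup G) :
    ((fittingSubgroup G).relIndex N).Coprime r := by
  classical
  have : Fact r.Prime := ⟨hr⟩
  set F := fittingSubgroup G with hF
  -- `F ∩ N` as a subgroup of `N` is an `r`-group
  have hFNr : IsPGroup r (F.subgroupOf N) :=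
    hFr.comap_of_injective N.subtype N.subtype_injective
  obtain ⟨P, hP⟩ := hFNr.exists_le_sylow
  -- `P` is normal in `N`
  have hPn : (P : Subgroup N).Normal := by
    constructor
    intro s hs n
    have h1 : n * s * n⁻¹ * s⁻¹ ∈ F.subgroupOf N := by
      rw [Subgroup.mem_subgroupOf]
      exact hab n n.2 s s.2
    have h2 : n * s * n⁻¹ = (n * s * n⁻¹ * s⁻¹) * s := by group
    rw [h2]
    exact (P : Subgroup N).mul_mem (hP h1) hs
  -- its image in `G`
  set S : Subgroup G := (P : Subgroup N).map N.subtype with hS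
  have hSN : S ≤ N := by
    rintro _ ⟨x, -, rfl⟩
    exact x.2
  have hnorm : N ≤ Subgroup.normalizer (S : Set G) := by
    intro n hn
    rw [Subgroup.mem_normalizer_iff]
    intro x
    constructor
    · rintro ⟨y, hy, rfl⟩
      exact ⟨⟨n, hn⟩ * y * ⟨n, hn⟩⁻¹, hPn.conj_mem y hy ⟨n, hn⟩, rfl⟩
    · rintro ⟨y, hy, hxy⟩
      refine ⟨⟨n, hn⟩⁻¹ * y * ⟨n, hn⟩, ?_, ?_⟩
      · have := hPn.conj_mem y hy ⟨n, hn⟩⁻¹
        rwa [inv_inv] at this
      · have h3 : N.subtype (⟨n, hn⟩⁻¹ * y * ⟨n, hn⟩) = n⁻¹ * (N.subtype y) * n := rfl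
        rw [h3, hxy]
        group
  have hSnil : Group.IsNilpotent S := by
    have hSp : IsPGroup r S := P.2.map N.subtype
    exact hSp.isNilpotent
  have hSF : S ≤ F :=
    Cfsg.Agent.Lib.Helper21_Fitting.le_fittingSubgroup_of_normal_in_normal N S hSN hnorm hSnil
  have hPF : (P : Subgroup N) ≤ F.subgroupOf N := by
    intro x hx
    rw [Subgroup.mem_subgroupOf]
    exact hSF ⟨x, hx, rfl⟩
  have heq : F.subgroupOf N = (P : Subgroup N) := le_antisymm hP hPF
  show ((F.subgroupOf N).index).Coprime r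
  rw [heq]
  exact ((Nat.Prime.coprime_iff_not_dvd hr).2 P.not_dvd_index).symm

end Cfsg.Agent.Lib.Helper71_S4460_F2b3
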