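import Mathlib
import Cfsg.Prelude.Def_Characters
import Cfsg.Prelude.Def_Solvable
import Cfsg.Agent.Lib.Helper48_ThreeDegDefs
import Cfsg.Agent.Lib.Helper1_Cores
import Cfsg.Agent.Lib.Helper77_QuotRank
import Cfsg.Agent.Lib.Helper59_CliffordDeg
import Cfsg.Agent.S4457

/-!
# S4460 (Isaacs 12.15), package PK-F2b2 (helper80): `N / F(G)` is abelian in case F
-/

set_option autoImplicit false

namespace Cfsg.Agent.Lib.Helper80_S4460_F2b2

open Cfsg Cfsg.Agent.Lib.Helper48_ThreeDegDefs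
open scoped commutatorElement

universe u

variable {G : Type u} [Group G]

/-- the image of `A ⊔ K` in `G ⧸ K` is the image of `A` -/
theorem map_sup_self (A K : Subgroup G) [K.Normal] :
    Subgroup.map (QuotientGroup.mk' K) (A ⊔ K) = Subgroup.map (QuotientGroup.mk' K) A := by
  rw [Subgroup.map_sup, QuotientGroup.map_mk'_self, sup_bot_eq]

theorem exists_mem_of_mem_sup (A K : Subgroup G) [K.Normal] {u : G} (hu : u ∈ A ⊔ K) :
    ∃ a ∈ A, (a : G ⧸ K) = (u : G ⧸ K) := by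
  have h1 : (QuotientGroup.mk' K) u ∈ Subgroup.map (QuotientGroup.mk' K) (A ⊔ K) :=
    Subgroup.mem_map_of_mem _ hu
  rw [map_sup_self] at h1
  obtain ⟨a, ha, h2⟩ := h1
  exact ⟨a, ha, h2⟩

theorem mk_comm_of_comm_mem (K : Subgroup G) [K.Normal] {a b : G}
    (h : a * b * a⁻¹ * b⁻¹ ∈ K) : (a : G ⧸ K) * (b : G ⧸ K) = (b : G ⧸ K) * (a : G ⧸ K) := by
  have h1 : ((a * b * a⁻¹ * b⁻¹ : G) : G ⧸ K) = 1 := (QuotientGroup.eq_one_iff _).mpr h
  rw [QuotientGroup.mk_mul, QuotientGroup.mk_mul, QuotientGroup.mk_mul, QuotientGroup.mk_inv,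
    QuotientGroup.mk_inv] at h1
  have h2 : ⁅(a : G ⧸ K), (b : G ⧸ K)⁆ = 1 := by
    rw [commutatorElement_def]; exact h1
  exact commutatorElement_eq_one_iff_mul_comm.mp h2

/-- the elements of `A ⊔ K` commute modulo `K` when those of `A` do -/
theorem comm_of_sup (A K : Subgroup G) [K.Normal]
    (hA : ∀ a ∈ A, ∀ b ∈ A, a * b * a⁻¹ * b⁻¹ ∈ K) {u v : G} (hu : u ∈ A ⊔ K) (hv : v ∈ A ⊔ K) :
    (u : G ⧸ K) * (v : G ⧸ K) = (v : G ⧸ K) * (u : G ⧸ K) := by
  obtain ⟨a, ha, hau⟩ := exists_mem_of_mem_sup A K hu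
  obtain ⟨b, hb, hbv⟩ := exists_mem_of_mem_sup A K hv
  rw [← hau, ← hbv]
  exact mk_comm_of_comm_mem K (hA a ha b hb)

theorem fpf_mem (K : Subgroup G) [K.Normal] {x y : G}
    (h : (x : G ⧸ K) * (y : G ⧸ K) = (y : G ⧸ K) * (x : G ⧸ K)) :
    x⁻¹ * (y⁻¹ * x * y) ∈ K := by
  rw [← QuotientGroup.eq_one_iff]
  rw [QuotientGroup.mk_mul, QuotientGroup.mk_mul, QuotientGroup.mk_mul, QuotientGroup.mk_inv,
    QuotientGroup.mk_inv]
  have h1 : ((y : G ⧸ K))⁻¹ * (x : G ⧸ K) * (y : G ⧸ K) = (x : G ⧸ K) := by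
    rw [mul_assoc, h, ← mul_assoc, inv_mul_cancel, one_mul]
  rw [h1, inv_mul_cancel]

/-- the abelian alternative: `A = N` -/
theorem le_of_abelian_index [Finite G] (K N : Subgroup G) [K.Normal] [N.Normal] (p : ℕ)
    (hF : FrobData K N p) (f : ℕ) (hf2 : 2 ≤ f) (hidx : N.index = f) (F : Subgroup G)
    (hFK : F ≤ K) (A : Subgroup G) (hAn : A.Normal)
    (hA : ∀ a ∈ A, ∀ b ∈ A, a * b * a⁻¹ * b⁻¹ ∈ F) (hAi : A.index = f) : N ≤ A := by
  have hAK : ∀ a ∈ A, ∀ b ∈ A, a * b * a⁻¹ * b⁻¹ ∈ K := fun a ha b hb => hFK (hA a ha b hb)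
  have hAN : A ≤ N := by
    have hYn : (A ⊔ K).Normal := inferInstance
    rcases hF.umn (A ⊔ K) hYn le_sup_right with h | h
    · exact (le_sup_left.trans h.le).trans hF.hKN
    · by_contra hcon
      obtain ⟨y, hyA, hyN⟩ := SetLike.not_le_iff_exists.mp hcon
      apply hF.hne
      apply le_antisymm hF.hKN
      intro x hx
      apply hF.hfpf y hyN x hx
      exact fpf_mem K (comm_of_sup A K hAK (h hx) (le_sup_left (b := K) hyA))
  have h1 := Subgroup.relIndex_mul_index hAN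
  rw [hidx, hAi] at h1
  have h2 : A.relIndex N = 1 := by
    have hf0 : 0 < f := by omega
    have : A.relIndex N * f = 1 * f := by rw [h1, one_mul]
    exact Nat.eq_of_mul_eq_mul_right hf0 this
  exact Subgroup.relIndex_eq_one.mp h2

/-- the nilpotent alternative is impossible -/
theorem false_of_product [Finite G] (K N : Subgroup G) [K.Normal] [N.Normal] (p : ℕ)
    (hF : FrobData K N p) (f : ℕ) (hf2 : 2 ≤ f) (hidx : N.index = f) (F : Subgroup G)
    (hFK : F ≤ K) (q : ℕ) (hq : q.Prime) (P A : Subgroup G) (hPn : P.Normal) (hAn : A.Normal)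
    (hP : ∀ x ∈ P, ∃ k : ℕ, x ^ (q ^ k) ∈ F)
    (hA : ∀ a ∈ A, ∀ b ∈ A, a * b * a⁻¹ * b⁻¹ ∈ F)
    (hPA : P ⊓ A ≤ F) (hsup : P ⊔ A = ⊤) : False := by
  have hAK : ∀ a ∈ A, ∀ b ∈ A, a * b * a⁻¹ * b⁻¹ ∈ K := fun a ha b hb => hFK (hA a ha b hb)
  have hNtop : ∃ g : G, g ∉ N := by
    by_contra hcon
    push Not at hcon
    have : N = ⊤ := by
      rw [eq_top_iff]; intro x _; exact hcon x
    rw [this, Subgroup.index_top] at hidx
    omega
  obtain ⟨g, hg⟩ := hNtop
  have hxK : ∃ x ∈ N, x ∉ K := by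
    by_contra hcon
    push Not at hcon
    exact hF.hne (le_antisymm hF.hKN hcon)
  obtain ⟨x, hxN, hxK⟩ := hxK
  have hYn : (A ⊔ K).Normal := inferInstance
  rcases hF.umn (A ⊔ K) hYn le_sup_right with h | h
  · -- `A ≤ K`, so `G ⧸ K` is a `q`-group
    have hAleK : A ≤ K := le_sup_left.trans h.le
    have hPK : P ⊔ K = ⊤ := by
      rw [eq_top_iff, ← hsup]
      exact sup_le_sup_left hAleK P
    have hpg : IsPGroup q (G ⧸ K) := by
      intro z
      obtain ⟨u, rfl⟩ := QuotientGroup.mk_surjective z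
      have hu : u ∈ P ⊔ K := by rw [hPK]; exact Subgroup.mem_top u
      obtain ⟨a, ha, hau⟩ := exists_mem_of_mem_sup P K hu
      obtain ⟨k, hk⟩ := hP a ha
      refine ⟨k, ?_⟩
      rw [← hau, ← QuotientGroup.mk_pow]
      exact (QuotientGroup.eq_one_iff _).mpr (hFK hk)
    have : Fact q.Prime := ⟨hq⟩
    obtain ⟨j, hj⟩ := IsPGroup.iff_card.mp hpg
    have hcard : Nat.card (G ⧸ K) = K.index := rfl
    have h1 := Subgroup.relIndex_mul_index hF.hKN
    rw [hidx] at h1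
    obtain ⟨a, ha⟩ := hF.hpow
    have ha0 : a ≠ 0 := by
      intro h0
      rw [h0, pow_zero] at ha
      exact hxK (Subgroup.relIndex_eq_one.mp ha hxN)
    rw [hcard, ← h1, ha] at hj
    have hpq : p = q := by
      have h2 : p ∣ q ^ j := by
        rw [← hj]
        exact Dvd.dvd.mul_right (dvd_pow_self p ha0) f
      exact (Nat.prime_dvd_prime_iff_eq hF.hp hq).mp (hF.hp.dvd_of_dvd_pow h2)
    obtain ⟨s, hs, hsf⟩ := Nat.exists_prime_and_dvd (by omega : f ≠ 1)
    have hsq : s = q := by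
      have h2 : s ∣ q ^ j := by
        rw [← hj]
        exact Dvd.dvd.mul_left hsf _
      exact (Nat.prime_dvd_prime_iff_eq hs hq).mp (hs.dvd_of_dvd_pow h2)
    have hcop := hF.hcop
    rw [ha, hidx] at hcop
    have hpf : p ∣ f := by rw [hpq, ← hsq]; exact hsf
    exact Nat.not_coprime_of_dvd_of_dvd hF.hp.one_lt (dvd_pow_self p ha0) hpf hcop
  · -- `N ≤ A K`: `N ⧸ K` is central
    have hcen : Subgroup.map (QuotientGroup.mk' K) A ⊔ Subgroup.map (QuotientGroup.mk' K) P ≤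
        Subgroup.centralizer (Subgroup.map (QuotientGroup.mk' K) A : Set (G ⧸ K)) := by
      apply sup_le
      · rintro _ ⟨a, ha, rfl⟩
        rw [Subgroup.mem_centralizer_iff]
        rintro _ ⟨b, hb, rfl⟩
        exact mk_comm_of_comm_mem K (hAK b hb a ha)
      · rintro _ ⟨y, hy, rfl⟩
        rw [Subgroup.mem_centralizer_iff]
        rintro _ ⟨b, hb, rfl⟩
        apply mk_comm_of_comm_mem K
        apply hFK
        apply hPA
        constructor
        · exact P.mul_mem (hPn.conj_mem _ hy b) (P.inv_mem hy)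
        · have h1 : y * b⁻¹ * y⁻¹ ∈ A := hAn.conj_mem _ (A.inv_mem hb) y
          have : b * y * b⁻¹ * y⁻¹ = b * (y * b⁻¹ * y⁻¹) := by group
          rw [this]
          exact A.mul_mem hb h1
    have htop : Subgroup.map (QuotientGroup.mk' K) A ⊔ Subgroup.map (QuotientGroup.mk' K) P =
        ⊤ := by
      rw [← Subgroup.map_sup, sup_comm, hsup, ← MonoidHom.range_eq_map,
        MonoidHom.range_eq_top]
      exact QuotientGroup.mk'_surjective K
    rw [htop] at hcen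
    obtain ⟨a, ha, hax⟩ := exists_mem_of_mem_sup A K (h hxN)
    have hgc : (QuotientGroup.mk' K) g ∈
        Subgroup.centralizer (Subgroup.map (QuotientGroup.mk' K) A : Set (G ⧸ K)) :=
      hcen (Subgroup.mem_top _)
    rw [Subgroup.mem_centralizer_iff] at hgc
    have h2 := hgc (x : G ⧸ K) (by rw [← hax]; exact Subgroup.mem_map_of_mem _ ha)
    exact hxK (hF.hfpf g hg x hxN (fpf_mem K h2))

/-- **PK-F2b2** -/
theorem caseF_quot_abelian [Finite G] [Group.IsSolvable G] (K N : Subgroup G) [K.Normal]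
    [N.Normal] (p : ℕ)
    (hF : FrobData K N p) (f : ℕ) (hf2 : 2 ≤ f) (hidx : N.index = f)
    (hFK : fittingSubgroup G ≤ K)
    (hcdF : ∀ χ : IrrCharacter G, (∀ x ∈ fittingSubgroup G, (χ : G → ℂ) x = (χ : G → ℂ) 1) →
      (χ : G → ℂ) 1 = 1 ∨ (χ : G → ℂ) 1 = (f : ℂ)) :
    ∀ x ∈ N, ∀ y ∈ N, x * y * x⁻¹ * y⁻¹ ∈ fittingSubgroup G := by
  have hFn : (fittingSubgroup G).Normal := Cfsg.Agent.Lib.Helper1_Cores.fittingSubgroup_normal
  -- degrees of `G ⧸ F`
  have hcd : ∀ χ : IrrCharacter (G ⧸ fittingSubgroup G),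
      (χ : G ⧸ fittingSubgroup G → ℂ) 1 = 1 ∨ (χ : G ⧸ fittingSubgroup G → ℂ) 1 = (f : ℂ) := by
    intro χ
    have hirr := Cfsg.Agent.Lib.Helper77_QuotRank.isIrrCharacter_comp_mk (fittingSubgroup G) χ
    have h1 := hcdF ⟨_, hirr⟩ (fun x hx => by
      show (χ : G ⧸ fittingSubgroup G → ℂ) (x : G ⧸ fittingSubgroup G) =
        (χ : G ⧸ fittingSubgroup G → ℂ) ((1 : G) : G ⧸ fittingSubgroup G)
      rw [(QuotientGroup.eq_one_iff x).mpr hx]
      rfl)
    exact h1
  have hex : ∃ χ : IrrCharacter (G ⧸ fittingSubgroup G),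
      (χ : G ⧸ fittingSubgroup G → ℂ) 1 = (f : ℂ) := by
    by_contra hcon
    have hall : ∀ χ : IrrCharacter (G ⧸ fittingSubgroup G),
        (χ : G ⧸ fittingSubgroup G → ℂ) 1 = 1 :=
      fun χ => (hcd χ).resolve_right (fun h => hcon ⟨χ, h⟩)
    obtain ⟨a, b, hab⟩ := hF.hnonab
    apply hab
    apply hFK
    have h1 := Cfsg.Agent.Lib.Helper59_CliffordDeg.commute_of_all_linear hall
      (a : G ⧸ fittingSubgroup G) (b : G ⧸ fittingSubgroup G)
    rw [← QuotientGroup.eq_one_iff]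
    rw [QuotientGroup.mk_mul, QuotientGroup.mk_mul, QuotientGroup.mk_mul, QuotientGroup.mk_inv,
      QuotientGroup.mk_inv, h1]
    group
  -- translate to `charDegree`
  have hcd' : ∀ χ : IrrCharacter (G ⧸ fittingSubgroup G),
      Cfsg.charDegree (χ : G ⧸ fittingSubgroup G → ℂ) = 1 ∨
        Cfsg.charDegree (χ : G ⧸ fittingSubgroup G → ℂ) = f := by
    intro χ
    have h1 := Cfsg.Agent.S4457.charDegree_eq χ
    rcases hcd χ with h | h
    · left
      rw [h1] at h
      exact_mod_cast h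
    · right
      rw [h1] at h
      exact_mod_cast h
  have hex' : ∃ χ : IrrCharacter (G ⧸ fittingSubgroup G),
      Cfsg.charDegree (χ : G ⧸ fittingSubgroup G → ℂ) = f := by
    obtain ⟨χ, h⟩ := hex
    refine ⟨χ, ?_⟩
    rw [Cfsg.Agent.S4457.charDegree_eq χ] at h
    exact_mod_cast h
  have hmem : ∀ {a b : G}, (a : G ⧸ fittingSubgroup G) * b = b * a →
      a * b * a⁻¹ * b⁻¹ ∈ fittingSubgroup G := by
    intro a b h1
    rw [← QuotientGroup.eq_one_iff]
    rw [QuotientGroup.mk_mul, QuotientGroup.mk_mul, QuotientGroup.mk_mul, QuotientGroup.mk_inv,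
      QuotientGroup.mk_inv, h1]
    group
  rcases Cfsg.Agent.S4457.result f hcd' hex' (by omega) with ⟨A, hAn, hAab, hAi⟩ |
      ⟨q, e, hq, _, P, A, hPn, hAn, hPq, hAab, hinf, hsup⟩
  · -- abelian normal subgroup of index `f`
    have hsurj := QuotientGroup.mk'_surjective (fittingSubgroup G)
    have hA' : ∀ a ∈ A.comap (QuotientGroup.mk' (fittingSubgroup G)),
        ∀ b ∈ A.comap (QuotientGroup.mk' (fittingSubgroup G)),
        a * b * a⁻¹ * b⁻¹ ∈ fittingSubgroup G := by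
      intro a ha b hb
      exact hmem (hAab _ ha _ hb)
    have hAi' : (A.comap (QuotientGroup.mk' (fittingSubgroup G))).index = f := by
      rw [Subgroup.index_comap_of_surjective A hsurj, hAi]
    have hle := le_of_abelian_index K N p hF f hf2 hidx (fittingSubgroup G) hFK _
      (hAn.comap _) hA' hAi'
    intro x hx y hy
    exact hA' x (hle hx) y (hle hy)
  · exfalso
    have hsurj := QuotientGroup.mk'_surjective (fittingSubgroup G)
    refine false_of_product K N p hF f hf2 hidx (fittingSubgroup G) hFK q hq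
      (P.comap (QuotientGroup.mk' (fittingSubgroup G)))
      (A.comap (QuotientGroup.mk' (fittingSubgroup G))) (hPn.comap _) (hAn.comap _) ?_ ?_ ?_ ?_
    · intro x hx
      obtain ⟨k, hk⟩ := hPq ⟨_, hx⟩
      refine ⟨k, ?_⟩
      have h1 := congrArg Subtype.val hk
      rw [Subgroup.coe_pow, Subgroup.coe_one] at h1
      rw [← QuotientGroup.eq_one_iff, QuotientGroup.mk_pow]
      exact h1
    · intro a ha b hb
      exact hmem (hAab _ ha _ hb)
    · intro x hx
      have h1 : (QuotientGroup.mk' (fittingSubgroup G)) x ∈ P ⊓ A := ⟨hx.1, hx.2⟩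
      rw [hinf, Subgroup.mem_bot] at h1
      exact (QuotientGroup.eq_one_iff x).mp h1
    · rw [Subgroup.comap_sup_eq _ _ _ hsurj, hsup, Subgroup.comap_top]

end Cfsg.Agent.Lib.Helper80_S4460_F2b2
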