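import Mathlib
import Cfsg.Agent.Lib.Helper74_LinAct

/-!
# Lemma Z for Isaacs 12.15, part A: a coprime-action fixed point lemma (helper87)

`F ≤ N` normal in the finite group `G`, `[N:F]` prime to `r`; `G` acts on the finite abelian
`r`-group `X` with `F` acting trivially, and `N` acts nontrivially.  Then every `r`-subgroup
`S` of `G` fixes some `lam ∈ X` that is not fixed by `N`.

Proof: the averaging endomorphism `nu mu = ∏_{q ∈ N/F} q • mu` is constant on `N`-orbits and is
the `[N:F]`-th power map on `N`-fixed points, so the `G`-invariant subgroup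
`Y = {lam | ∀ g, nu (g • lam) = 1}` contains all `(n • mu) / mu` and meets the `N`-fixed points
trivially.  As `Y ≠ 1` is an `r`-group, `S` fixes some `lam ≠ 1` in `Y`.
-/

set_option autoImplicit false
set_option linter.unusedSectionVars false
set_option linter.unusedVariables false
set_option linter.style.haveILetI false

namespace Cfsg.Agent.Lib.Helper87_Isaacs1215ZA

universe u v

variable {G : Type u} [Group G] (F N : Subgroup G) [hFn : F.Normal] [hNn : N.Normal]
variable {X : Type v} [CommGroup X] (act : G →* MulAut X) (hact : ∀ x ∈ F, act x = 1)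

/-- the action of `N` on `X` -/
def actN : N →* MulAut X := act.comp N.subtype

theorem actN_apply (n : N) : actN N act n = act (n : G) := rfl

include hact in
theorem subgroupOf_le_ker : F.subgroupOf N ≤ (actN N act).ker := by
  intro n hn
  rw [MonoidHom.mem_ker, actN_apply]
  exact hact _ (Subgroup.mem_subgroupOf.mp hn)

/-- the action of `N/F` on `X` -/
def actQ : (N ⧸ F.subgroupOf N) →* MulAut X :=
  QuotientGroup.lift (F.subgroupOf N) (actN N act) (subgroupOf_le_ker F N act hact)

theorem actQ_mk (n : N) :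
    actQ F N act hact (n : N ⧸ F.subgroupOf N) = act (n : G) := rfl

section avg

variable [Finite G]

/-- the averaging endomorphism over `N/F` -/
noncomputable def nu : X →* X :=
  letI : Fintype (N ⧸ F.subgroupOf N) := Fintype.ofFinite _
  ∏ q : N ⧸ F.subgroupOf N, ((actQ F N act hact q : MulAut X) : X ≃* X).toMonoidHom

theorem nu_apply [Fintype (N ⧸ F.subgroupOf N)] (mu : X) :
    nu F N act hact mu = ∏ q : N ⧸ F.subgroupOf N, actQ F N act hact q mu := by
  unfold nu
  rw [MonoidHom.finsetProd_apply]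
  apply Finset.prod_congr
  · ext q
    simp
  · intro q _
    rfl

/-- `nu` is constant on `N`-orbits -/
theorem nu_act (n : G) (hn : n ∈ N) (mu : X) :
    nu F N act hact (act n mu) = nu F N act hact mu := by
  classical
  letI : Fintype (N ⧸ F.subgroupOf N) := Fintype.ofFinite _
  rw [nu_apply, nu_apply]
  have h1 : ∀ q : N ⧸ F.subgroupOf N, actQ F N act hact q (act n mu) =
      actQ F N act hact (q * ((⟨n, hn⟩ : N) : N ⧸ F.subgroupOf N)) mu := by
    intro q
    rw [map_mul, MulAut.mul_apply, actQ_mk]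
  rw [Finset.prod_congr rfl (fun q _ => h1 q)]
  exact Fintype.prod_equiv (Equiv.mulRight ((⟨n, hn⟩ : N) : N ⧸ F.subgroupOf N)) _ _
    (fun q => rfl)

/-- on `N`-fixed points `nu` is the `[N:F]`-th power map -/
theorem nu_fixed (mu : X) (hmu : ∀ n ∈ N, act n mu = mu) :
    nu F N act hact mu = mu ^ (F.relIndex N) := by
  classical
  letI : Fintype (N ⧸ F.subgroupOf N) := Fintype.ofFinite _
  rw [nu_apply]
  have h1 : ∀ q : N ⧸ F.subgroupOf N, actQ F N act hact q mu = mu := by
    intro q
    obtain ⟨n, rfl⟩ := QuotientGroup.mk_surjective q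
    rw [actQ_mk]
    exact hmu n n.2
  rw [Finset.prod_congr rfl (fun q _ => h1 q), Finset.prod_const, Finset.card_univ,
    ← Nat.card_eq_fintype_card]
  rfl

/-- the `G`-invariant subgroup `Y` of `X` on which all conjugates of `nu` vanish -/
noncomputable def Y : Subgroup X where
  carrier := {lam | ∀ g : G, nu F N act hact (act g lam) = 1}
  one_mem' := by
    intro g
    rw [map_one, map_one]
  mul_mem' := by
    intro a b ha hb g
    rw [map_mul, map_mul, ha g, hb g, one_mul]
  inv_mem' := by
    intro a ha g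
    rw [map_inv, map_inv, ha g, inv_one]

theorem mem_Y (lam : X) :
    lam ∈ Y F N act hact ↔ ∀ g : G, nu F N act hact (act g lam) = 1 := Iff.rfl

theorem act_mem_Y (g : G) {lam : X} (h : lam ∈ Y F N act hact) :
    act g lam ∈ Y F N act hact := by
  intro g'
  have := h (g' * g)
  rwa [map_mul, MulAut.mul_apply] at this

/-- `Y` contains all `(n • mu) / mu`, `n ∈ N` -/
theorem comm_mem_Y (n : G) (hn : n ∈ N) (mu : X) : act n mu * mu⁻¹ ∈ Y F N act hact := by
  intro g
  rw [map_mul, map_mul, map_inv, map_inv]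
  have h1 : act g (act n mu) = act (g * n * g⁻¹) (act g mu) := by
    rw [← MulAut.mul_apply, ← map_mul, ← MulAut.mul_apply, ← map_mul]
    congr 2
    group
  rw [h1, nu_act F N act hact (g * n * g⁻¹) (hNn.conj_mem n hn g), mul_inv_cancel]

/-- `Y` meets the `N`-fixed points trivially -/
theorem eq_one_of_mem_Y_of_fixed {r : ℕ} [Fact r.Prime] (hX : IsPGroup r X)
    (hcop : (F.relIndex N).Coprime r) {lam : X} (h : lam ∈ Y F N act hact)
    (hfix : ∀ n ∈ N, act n lam = lam) : lam = 1 := by
  have h1 : lam ^ (F.relIndex N) = 1 := by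
    rw [← nu_fixed F N act hact lam hfix]
    have := h 1
    rwa [map_one, MulAut.one_apply] at this
  obtain ⟨k, hk⟩ := hX lam
  have h3 : (F.relIndex N).Coprime (r ^ k) := Nat.Coprime.pow_right k hcop
  have h4 := pow_gcd_eq_one.mpr ⟨h1, hk⟩
  rw [Nat.Coprime] at h3
  rwa [h3, pow_one] at h4

include hact in
/-- **the fixed point lemma** -/
theorem exists_fixed_not_fixed [Finite X] {r : ℕ} [Fact r.Prime] (hX : IsPGroup r X)
    (hcop : (F.relIndex N).Coprime r) (S : Subgroup G) (hS : IsPGroup r S)
    (hex : ∃ mu : X, ∃ n ∈ N, act n mu ≠ mu) :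
    ∃ lam : X, (∀ s ∈ S, act s lam = lam) ∧ ∃ n ∈ N, act n lam ≠ lam := by
  classical
  obtain ⟨mu, n, hn, hne⟩ := hex
  letI : Fintype X := Fintype.ofFinite X
  letI : MulAction S X := MulAction.compHom X (act.comp S.subtype)
  have hsmul : ∀ (s : S) (x : X), s • x = act (s : G) x := fun _ _ => rfl
  set T : Finset X := Finset.univ.filter (fun x => x ∈ Y F N act hact) with hT
  have hTmem : ∀ x, x ∈ T ↔ x ∈ Y F N act hact := by
    intro x
    rw [hT, Finset.mem_filter]
    exact ⟨fun h => h.2, fun h => ⟨Finset.mem_univ _, h⟩⟩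
  have hstab : ∀ a : S, ∀ x ∈ T, a • x ∈ T := by
    intro a x hx
    rw [hTmem] at hx ⊢
    rw [hsmul]
    exact act_mem_Y F N act hact _ hx
  have hmod := Cfsg.Agent.Lib.Helper74_LinAct.card_stable_modEq hS T hstab
  -- `Y` is a nontrivial `r`-group
  have hy0 : act n mu * mu⁻¹ ∈ Y F N act hact := comm_mem_Y F N act hact n hn mu
  have hy1 : act n mu * mu⁻¹ ≠ 1 := by
    intro h
    apply hne
    rw [mul_inv_eq_one] at h
    exact h
  have hcardY : Nat.card (Y F N act hact) = T.card := by
    rw [← Nat.card_eq_finsetCard]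
    exact Nat.card_congr (Equiv.subtypeEquivRight (fun x => (hTmem x).symm))
  have hYp : IsPGroup r (Y F N act hact) := hX.to_subgroup _
  have hdvd : r ∣ T.card := by
    rw [← hcardY]
    rcases hYp.card_eq_or_dvd with h1 | h1
    · exfalso
      apply hy1
      have hbot := Subgroup.eq_bot_of_card_eq _ h1
      rw [hbot, Subgroup.mem_bot] at hy0
      exact hy0
    · exact h1
  have hdvd2 : r ∣ (T.filter (fun x => ∀ a : S, a • x = x)).card :=
    (Nat.ModEq.dvd_iff hmod (dvd_refl r)).mp hdvd
  have h1mem : (1 : X) ∈ T.filter (fun x => ∀ a : S, a • x = x) := by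
    rw [Finset.mem_filter, hTmem]
    refine ⟨(Y F N act hact).one_mem, fun a => ?_⟩
    rw [hsmul, map_one]
  have hpos : 0 < (T.filter (fun x => ∀ a : S, a • x = x)).card :=
    Finset.card_pos.mpr ⟨1, h1mem⟩
  have hr2 : 2 ≤ r := (Fact.out : r.Prime).two_le
  have hge := Nat.le_of_dvd hpos hdvd2
  have hlt : 1 < (T.filter (fun x => ∀ a : S, a • x = x)).card := by omega
  obtain ⟨a, ha, b, hb, hab⟩ := Finset.one_lt_card.mp hlt
  have hex2 : ∃ lam ∈ T.filter (fun x => ∀ a : S, a • x = x), lam ≠ 1 := by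
    by_cases ha1 : a = 1
    · refine ⟨b, hb, ?_⟩
      intro hb1
      apply hab
      rw [ha1, hb1]
    · exact ⟨a, ha, ha1⟩
  obtain ⟨lam, hlam, hlam1⟩ := hex2
  rw [Finset.mem_filter, hTmem] at hlam
  refine ⟨lam, ?_, ?_⟩
  · intro s hs
    have := hlam.2 ⟨s, hs⟩
    rwa [hsmul] at this
  · by_contra hall
    apply hlam1
    apply eq_one_of_mem_Y_of_fixed F N act hact hX hcop hlam.1
    intro n hn
    by_contra hne2
    exact hall ⟨n, hn, hne2⟩

end avg

end Cfsg.Agent.Lib.Helper87_Isaacs1215ZA
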