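import Mathlib
import Cfsg.Prelude.Def_Characters
import Cfsg.Agent.Lib.Helper74_TwoDegC
import Cfsg.Agent.Lib.Helper74_GoingUp
import Cfsg.Agent.Lib.Helper87_Isaacs1215ZA

/-!
# Lemma Z for Isaacs 12.15, part B: an invariant linear character of `F` (helper87)

`F ≤ N` normal in `G`, `F` an `r`-group, `[N:F]` prime to `r`, `[F,N] ⊄ F'`.  Then for every
`r`-subgroup `S` of `G` there is an `S`-invariant linear character `lam` of `F` with
`lam x₀ ≠ 1` for some `x₀ ∈ F ∩ N'`.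
-/

set_option autoImplicit false
set_option linter.unusedSectionVars false
set_option linter.unusedVariables false
set_option linter.style.haveILetI false

namespace Cfsg.Agent.Lib.Helper87_Isaacs1215ZB

open Cfsg
open Cfsg.Agent.Lib.Helper74_TwoDegC Cfsg.Agent.Lib.Helper87_Isaacs1215ZA
open scoped commutatorElement

universe u

variable {G : Type u} [Group G] (F N : Subgroup G) [hFn : F.Normal] [hNn : N.Normal]

/-- the conjugation action on `Hom(F, ℂˣ)` as a homomorphism into the automorphism group -/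
def actHom : G →* MulAut (F →* ℂˣ) :=
  letI := cjHomAction F
  MulDistribMulAction.toMulAut G (F →* ℂˣ)

theorem actHom_apply (g : G) (mu : F →* ℂˣ) : actHom F g mu = cjHom F g mu := rfl

theorem actHom_of_mem : ∀ g ∈ F, actHom F g = 1 := by
  intro g hg
  ext mu : 1
  rw [actHom_apply, cjHom_of_mem F hg, MulAut.one_apply]

theorem isPGroup_hom [Finite G] {r : ℕ} [Fact r.Prime] (hF : IsPGroup r F) :
    IsPGroup r (F →* ℂˣ) := by
  intro mu
  obtain ⟨k, hk⟩ := IsPGroup.iff_card.mp hF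
  refine ⟨k, ?_⟩
  ext x
  rw [MonoidHom.pow_apply, ← map_pow, ← hk, pow_card_eq_one', map_one, MonoidHom.one_apply]

/-- a linear character of `F` moved by some element of `N` -/
theorem exists_moved [Finite G] (hne : ¬ ⁅F, N⁆ ≤ ⁅F, F⁆) :
    ∃ mu : F →* ℂˣ, ∃ n ∈ N, actHom F n mu ≠ mu := by
  rw [Subgroup.commutator_le] at hne
  simp only [not_forall] at hne
  obtain ⟨x, hx, n, hn, hc⟩ := hne
  have hcF : ⁅x, n⁆ ∈ F := by
    rw [commutatorElement_def]
    have h1 : n * x⁻¹ * n⁻¹ ∈ F := hFn.conj_mem _ (F.inv_mem hx) n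
    have h2 := F.mul_mem hx h1
    have e : x * n * x⁻¹ * n⁻¹ = x * (n * x⁻¹ * n⁻¹) := by group
    rw [e]
    exact h2
  have hc' : (⟨⁅x, n⁆, hcF⟩ : F) ∉ commutator F := by
    intro h
    apply hc
    rw [← Subgroup.map_subtype_commutator]
    exact ⟨_, h, rfl⟩
  have ha : (Abelianization.of (⟨⁅x, n⁆, hcF⟩ : F)) ≠ 1 := by
    intro h
    apply hc'
    rw [← Abelianization.ker_of, MonoidHom.mem_ker]
    exact h
  obtain ⟨c, hcne⟩ := Cfsg.Agent.Lib.Helper74_GoingUp.exists_dual_ne_one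
    (Q := Abelianization F) (fun a b => mul_comm a b) ha
  refine ⟨c.comp Abelianization.of, n⁻¹, N.inv_mem hn, ?_⟩
  intro hfix
  apply hcne
  have h1 := DFunLike.congr_fun hfix (⟨x, hx⟩ : F)
  rw [actHom_apply, cjHom_apply, inv_inv] at h1
  have e : (⟨⁅x, n⁆, hcF⟩ : F) =
      (⟨x, hx⟩ : F) * ((MulAut.conjNormal n : MulAut F) (⟨x, hx⟩ : F))⁻¹ := by
    apply Subtype.ext
    rw [Subgroup.coe_mul, Subgroup.coe_inv, MulAut.conjNormal_apply]
    show ⁅x, n⁆ = x * (n * x * n⁻¹)⁻¹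
    rw [commutatorElement_def]
    group
  have h2 : (c.comp Abelianization.of) (⟨⁅x, n⁆, hcF⟩ : F) = 1 := by
    rw [e, map_mul, map_inv, h1, mul_inv_cancel]
  exact h2

/-- **Part B**: an `S`-invariant linear character of `F` which is nontrivial on `F ∩ N'` -/
theorem exists_invariant_lin [Finite G] {r : ℕ} [Fact r.Prime] (hF : IsPGroup r F) (hFN : F ≤ N)
    (hcop : (F.relIndex N).Coprime r) (hne : ¬ ⁅F, N⁆ ≤ ⁅F, F⁆)
    (S : Subgroup G) (hS : IsPGroup r S) :
    ∃ lam : F →* ℂˣ, (∀ s ∈ S, cjHom F s lam = lam) ∧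
      ∃ x₀ : F, (x₀ : G) ∈ ⁅N, N⁆ ∧ lam x₀ ≠ 1 := by
  have hfin : Finite (F →* ℂˣ) := finite_hom F
  obtain ⟨lam, hlamS, n, hn, hnlam⟩ := exists_fixed_not_fixed F N (actHom F) (actHom_of_mem F)
    (isPGroup_hom F hF) hcop S hS (exists_moved F N hne)
  refine ⟨lam, hlamS, ?_⟩
  have hex : ∃ x : F, actHom F n lam x ≠ lam x := by
    by_contra hall
    apply hnlam
    ext x
    by_contra hx
    apply hall
    exact ⟨x, fun h => hx (by rw [h])⟩
  obtain ⟨x, hx⟩ := hex
  rw [actHom_apply, cjHom_apply] at hx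
  refine ⟨(MulAut.conjNormal n⁻¹ : MulAut F) x * x⁻¹, ?_, ?_⟩
  · rw [Subgroup.coe_mul, Subgroup.coe_inv, MulAut.conjNormal_apply]
    have h1 : ⁅n⁻¹, (x : G)⁆ ∈ ⁅N, N⁆ :=
      Subgroup.commutator_mem_commutator (N.inv_mem hn) (hFN x.2)
    rw [commutatorElement_def] at h1
    exact h1
  · intro h
    apply hx
    rw [map_mul, MonoidHom.map_inv lam x, mul_inv_eq_one] at h
    exact h

end Cfsg.Agent.Lib.Helper87_Isaacs1215ZB
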