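import Mathlib
import Cfsg.Prelude.Def_Characters
import Cfsg.Agent.Lib.Helper74_TwoDegC
import Cfsg.Agent.Lib.Helper74_LinAct
import Cfsg.Agent.Lib.Helper74_H1V
import Cfsg.Agent.Lib.Helper75_ExtendCyclic
import Cfsg.Agent.Lib.Helper75_Induced
import Cfsg.Agent.Lib.Helper75_IndChar
import Cfsg.Agent.Lib.Helper75_LinChar
import Cfsg.Agent.Lib.Helper80_CharInd
import Cfsg.Agent.Lib.Helper80_BrolineGarrison
import Cfsg.Agent.Lib.Helper39_CharTools
import Cfsg.Agent.Lib.Helper3_CharBridge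
import Cfsg.Agent.S4835
import Cfsg.Agent.Lib.Helper87_Isaacs1215ZB

/-!
# Lemma Z for Isaacs 12.15, part C: the common degree is prime to `r` (helper87)

`F ≤ N` normal in `G`, `F` an `r`-group, `[N:F]` prime to `r`, `G/N` cyclic, `[F,N] ⊄ F'`, and
all irreducible characters of `G` that are nontrivial on `N'` have degree `g`.  Then `r ∤ g`.

Proof: let `S ≥ F` be a Sylow `r`-subgroup; `S ∩ N = F`, so `S/F` is cyclic and the `S`-invariant
linear character `lam` of `F` of part B extends to a linear character of `S`.  Every irreducible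
constituent of the induced character lies over `lam`, hence is nontrivial on `N'` and has degree
`g`; so `g` divides `[G:S]`.
-/

set_option autoImplicit false
set_option linter.unusedSectionVars false
set_option linter.unusedVariables false
set_option linter.style.haveILetI false

namespace Cfsg.Agent.Lib.Helper87_Isaacs1215ZC

open Cfsg
open Cfsg.Agent.Lib.Helper74_TwoDegC Cfsg.Agent.Lib.Helper74_LinAct
open scoped ComplexConjugate commutatorElement

universe u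

variable {G : Type u} [Group G] [Finite G] (F N : Subgroup G) [hFn : F.Normal] [hNn : N.Normal]

/-- an `r`-subgroup containing `F` meets `N` in `F` -/
theorem inf_le_of_coprime {r : ℕ} [Fact r.Prime] (hFN : F ≤ N)
    (hcop : (F.relIndex N).Coprime r) (S : Subgroup G) (hS : IsPGroup r S) (hFS : F ≤ S) :
    S ⊓ N ≤ F := by
  have hP : IsPGroup r ↥(S ⊓ N) := hS.to_le inf_le_left
  have hFP : F ≤ S ⊓ N := le_inf hFS hFN
  obtain ⟨j, hj⟩ := hP.index (F.subgroupOf (S ⊓ N))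
  have h1 : F.relIndex (S ⊓ N) * (S ⊓ N).relIndex N = F.relIndex N :=
    Subgroup.relIndex_mul_relIndex F (S ⊓ N) N hFP inf_le_right
  have h2 : (F.relIndex (S ⊓ N)).Coprime r :=
    Nat.Coprime.coprime_dvd_left (Dvd.intro _ h1) hcop
  have h3 : F.relIndex (S ⊓ N) = r ^ j := hj
  rw [h3] at h2
  have h4 : j = 0 := by
    by_contra hj0
    have : r ∣ r ^ j := dvd_pow_self r hj0
    have h5 := Nat.Coprime.eq_one_of_dvd h2.symm this
    exact (Fact.out : r.Prime).one_lt.ne' h5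
  rw [h4, pow_zero] at h3
  exact Subgroup.relIndex_eq_one.mp h3

/-- `S/F` is cyclic -/
theorem isCyclic_quot {r : ℕ} [Fact r.Prime] (hFN : F ≤ N)
    (hcop : (F.relIndex N).Coprime r) (hcyc : IsCyclic (G ⧸ N))
    (S : Subgroup G) (hS : IsPGroup r S) (hFS : F ≤ S) :
    IsCyclic (↥S ⧸ F.subgroupOf S) := by
  apply Cfsg.Agent.Lib.Helper74_H1V.isCyclic_quot_of_eq_ker hcyc
    ((QuotientGroup.mk' N).comp S.subtype)
  ext s
  rw [Subgroup.mem_subgroupOf, MonoidHom.mem_ker, MonoidHom.comp_apply, Subgroup.coe_subtype,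
    QuotientGroup.mk'_apply, QuotientGroup.eq_one_iff]
  constructor
  · intro h
    exact hFN h
  · intro h
    exact inf_le_of_coprime F N hFN hcop S hS hFS ⟨s.2, h⟩

/-- the invariant linear character of `F` extends to a linear character of `S` -/
theorem exists_lin_extension {r : ℕ} [Fact r.Prime] (hFN : F ≤ N)
    (hcop : (F.relIndex N).Coprime r) (hcyc : IsCyclic (G ⧸ N))
    (S : Subgroup G) (hS : IsPGroup r S) (hFS : F ≤ S)
    (lam : F →* ℂˣ) (hlam : ∀ s ∈ S, cjHom F s lam = lam) :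
    ∃ ψ : S → ℂ, Cfsg.Agent.Lib.Helper75_LinChar.IsLin S ψ ∧
      ∀ x : F, ψ ⟨(x : G), hFS x.2⟩ = ((lam x : ℂˣ) : ℂ) := by
  classical
  set K : Subgroup ↥S := F.subgroupOf S with hK
  have hKn : K.Normal := Subgroup.normal_subgroupOf
  have hcycS : IsCyclic (↥S ⧸ K) := isCyclic_quot F N hFN hcop hcyc S hS hFS
  let e : K ≃* F := Subgroup.subgroupOfEquivOfLe hFS
  have he : ∀ k : K, ((e k : F) : G) = ((k : S) : G) := fun _ => rfl
  let ϑ : IrrCharacter K := lin (lam.comp e.toMonoidHom)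
  have hϑ : ∀ k : K, (ϑ : K → ℂ) k = ((lam (e k) : ℂˣ) : ℂ) := fun _ => rfl
  have hinv : ∀ (g : S) (n : K),
      (ϑ : K → ℂ) ⟨g * n * g⁻¹, hKn.conj_mem (n : S) n.2 g⟩ = (ϑ : K → ℂ) n := by
    intro g n
    rw [hϑ, hϑ]
    have h1 := DFunLike.congr_fun (hlam (g⁻¹ : S) (S.inv_mem g.2)) (e n)
    rw [cjHom_apply] at h1
    have h2 : e ⟨g * n * g⁻¹, hKn.conj_mem (n : S) n.2 g⟩ =
        (MulAut.conjNormal ((g⁻¹ : S) : G)⁻¹ : MulAut F) (e n) := by
      apply Subtype.ext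
      rw [MulAut.conjNormal_apply, he, he]
      simp
    rw [h2, h1]
  obtain ⟨ψ, hψirr, hψ⟩ := Cfsg.Agent.Lib.Helper75_ExtendCyclic.exists_irr_extension_of_cyclic
    K hKn hcycS (ϑ : K → ℂ) ϑ.2 hinv
  refine ⟨ψ, ⟨Cfsg.Agent.Lib.Helper3_CharBridge.isCharacter_of_isIrrCharacter hψirr, ?_⟩, ?_⟩
  · have h1 := hψ 1
    rw [hϑ, map_one, map_one, Units.val_one] at h1
    exact h1
  · intro x
    have h1 := hψ (e.symm x)
    rw [hϑ, e.apply_symm_apply] at h1
    rw [← h1]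
    rfl

/-- an irreducible character of `G` lying over a linear character `ψ` of `S` with `ψ x₀ ≠ 1`
is nontrivial at `x₀` -/
theorem ne_of_constituent [Fintype G] (S : Subgroup G) [Fintype S] (ψ : S → ℂ)
    (hψ : Cfsg.Agent.Lib.Helper75_LinChar.IsLin S ψ) (x₀ : S) (hx₀ : ψ x₀ ≠ 1)
    (φ : IrrCharacter G)
    (hφ : classInner ψ (fun h : S => (φ : G → ℂ) h) ≠ 0) :
    (φ : G → ℂ) (x₀ : G) ≠ (φ : G → ℂ) 1 := by
  intro heq
  apply hφ
  have hmul : ∀ y : G, (φ : G → ℂ) ((x₀ : G) * y) = (φ : G → ℂ) y := fun y =>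
    Cfsg.Agent.Lib.Helper80_BrolineGarrison.irr_ker_mul (Cfsg.Agent.S4835.irrKer φ) φ
      (fun u hu => hu) (x₀ : G) y heq
  unfold classInner
  have hT : ∑ y : S, ψ y * conj ((φ : G → ℂ) y) =
      ψ x₀ * ∑ y : S, ψ y * conj ((φ : G → ℂ) y) := by
    calc ∑ y : S, ψ y * conj ((φ : G → ℂ) y)
        = ∑ y : S, ψ (x₀ * y) * conj ((φ : G → ℂ) ((x₀ * y : S) : G)) :=
          (Fintype.sum_equiv (Equiv.mulLeft x₀) _ _ (fun y => rfl)).symm
      _ = ∑ y : S, ψ x₀ * (ψ y * conj ((φ : G → ℂ) y)) := by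
          apply Finset.sum_congr rfl
          intro y _
          rw [hψ.map_mul, Subgroup.coe_mul, hmul, mul_assoc]
      _ = ψ x₀ * ∑ y : S, ψ y * conj ((φ : G → ℂ) y) := by rw [Finset.mul_sum]
  have hT0 : ∑ y : S, ψ y * conj ((φ : G → ℂ) y) = 0 := by
    have h1 : (1 - ψ x₀) * ∑ y : S, ψ y * conj ((φ : G → ℂ) y) = 0 := by
      rw [sub_mul, one_mul, ← hT, sub_self]
    rcases mul_eq_zero.mp h1 with h2 | h2
    · exfalso
      apply hx₀
      rw [sub_eq_zero] at h2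
      exact h2.symm
    · exact h2
  rw [hT0, mul_zero]

/-- **Part C**: the common degree `g` is prime to `r` -/
theorem not_dvd_degree {r : ℕ} [Fact r.Prime] (hF : IsPGroup r F) (hFN : F ≤ N)
    (hcop : (F.relIndex N).Coprime r) (hcyc : IsCyclic (G ⧸ N))
    (hne : ¬ ⁅F, N⁆ ≤ ⁅F, F⁆) (g : ℕ)
    (hg : ∀ χ : Cfsg.IrrCharacter G,
      (∃ x ∈ ⁅N, N⁆, (χ : G → ℂ) x ≠ (χ : G → ℂ) 1) → (χ : G → ℂ) 1 = (g : ℂ)) :
    ¬ r ∣ g := by
  classical
  letI : Fintype G := Fintype.ofFinite G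
  obtain ⟨S, hFS⟩ := IsPGroup.exists_le_sylow hF
  obtain ⟨lam, hlamS, x₀, hx₀N, hx₀⟩ :=
    Cfsg.Agent.Lib.Helper87_Isaacs1215ZB.exists_invariant_lin F N hF hFN hcop hne
      (S : Subgroup G) S.isPGroup'
  obtain ⟨ψ, hψlin, hψF⟩ := exists_lin_extension F N hFN hcop hcyc (S : Subgroup G)
    S.isPGroup' hFS lam hlamS
  letI : Fintype (S : Subgroup G) := Fintype.ofFinite _
  have hind : IsCharacter G (indFun (S : Subgroup G) ψ) :=
    Cfsg.Agent.Lib.Helper75_IndChar.isCharacter_indFun (S : Subgroup G) hψlin.1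
  obtain ⟨m, hm, hsum⟩ := Cfsg.Agent.Lib.Helper39_CharTools.char_eq_sum_nat hind
  have key : ∀ φ : IrrCharacter G, m φ ≠ 0 → (φ : G → ℂ) 1 = (g : ℂ) := by
    intro φ hmφ
    apply hg φ
    refine ⟨(x₀ : G), hx₀N, ?_⟩
    have h1 : classInner (indFun (S : Subgroup G) ψ) (φ : G → ℂ) ≠ 0 := by
      rw [hm]
      exact_mod_cast hmφ
    rw [Cfsg.Agent.Lib.Helper75_Induced.frobenius_reciprocity (S : Subgroup G) ψ (φ : G → ℂ)
      (Cfsg.Agent.Lib.Helper3_CharBridge.isClassFunction_of_isIrrCharacter φ.2)] at h1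
    have h2 : ψ ⟨(x₀ : G), hFS x₀.2⟩ ≠ 1 := by
      rw [hψF]
      intro h
      apply hx₀
      exact Units.ext h
    exact ne_of_constituent (S : Subgroup G) ψ hψlin ⟨(x₀ : G), hFS x₀.2⟩ h2 φ h1
  have h1 := hsum 1
  rw [Cfsg.Agent.Lib.Helper80_CharInd.indFun_one, hψlin.2, mul_one] at h1
  have h2 : ∑ φ : IrrCharacter G, (m φ : ℂ) * (φ : G → ℂ) 1 =
      ∑ φ : IrrCharacter G, (m φ : ℂ) * (g : ℂ) := by
    apply Finset.sum_congr rfl
    intro φ _
    by_cases hmφ : m φ = 0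
    · rw [hmφ, Nat.cast_zero, zero_mul, zero_mul]
    · rw [key φ hmφ]
  rw [h2, ← Finset.sum_mul] at h1
  have h3 : (S : Subgroup G).index = (∑ φ : IrrCharacter G, m φ) * g := by
    exact_mod_cast h1
  intro hrg
  apply S.not_dvd_index
  rw [h3]
  exact Dvd.dvd.mul_left hrg _

end Cfsg.Agent.Lib.Helper87_Isaacs1215ZC
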