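import Mathlib
import Cfsg.Prelude.Def_Characters
import Cfsg.Agent.Lib.Helper59_CliffordDeg
import Cfsg.Agent.Lib.Helper75_Clifford
import Cfsg.Agent.Lib.Helper3_CharBridge
import Cfsg.Agent.Lib.Helper3_CharOrtho
import Cfsg.Agent.Lib.Helper3_CharColumn
import Cfsg.Agent.Lib.Helper3_CharDegree
import Cfsg.Agent.Lib.Helper75_LinChar
import Cfsg.Agent.Lib.Helper87_Isaacs1215ZC

/-!
# Lemma Z: the last sub-case of Isaacs 12.15 (helper87, for S4460; finding 121)

`F ≤ N` normal in `G`, `F` an `r`-group, `N/F` abelian of order prime to `r`, `G/N` cyclic,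
`[F,N] ⊄ F'`, and all irreducible characters of `G` that are nontrivial on `N'` have the same
degree `g`.  Then `N'` is abelian.

Proof: by part C, `r ∤ g`.  Let `θ ∈ Irr(N')` and `χ ∈ Irr(G)` over `θ`; `θ(1)` divides `χ(1)`.
If `χ` is trivial on `N'` then `θ = 1`.  Otherwise `χ(1) = g` is prime to `r`, while `θ(1)`
divides the order of the `r`-group `N' ≤ F`; so `θ(1) = 1`.  Hence all irreducible characters of
`N'` are linear.
-/

set_option autoImplicit false
set_option linter.unusedSectionVars false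
set_option linter.unusedVariables false
set_option linter.style.haveILetI false

namespace Cfsg.Agent.Lib.Helper87_Isaacs1215Z

open Cfsg
open scoped ComplexConjugate commutatorElement

universe u

/-- the degree of an irreducible character divides the group order -/
theorem degree_dvd_card {H : Type u} [Group H] [Finite H] {θ : H → ℂ}
    (hθ : IsIrrCharacter H θ) (d : ℕ) (hd : θ 1 = (d : ℂ)) : d ∣ Nat.card H := by
  obtain ⟨n, ρ, hρ, rfl⟩ := hθ
  haveI := hρ
  cases nonempty_fintype H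
  have h1 := Cfsg.Agent.Lib.Helper3_CharDegree.finrank_dvd_card ρ
  rw [Representation.char_one] at hd
  have h2 : Module.finrank ℂ (Fin n → ℂ) = d := by exact_mod_cast hd
  rw [h2] at h1
  exact h1

/-- **Lemma Z** (last sub-case of Isaacs 12.15, finding 121): `F ≤ N` normal in `G`, `F` an
`r`-group, `N/F` abelian of order prime to `r`, `G/N` cyclic, `[F,N] ⊄ F'`, and all irreducible
characters of `G` that are nontrivial on `N'` have the same degree `g`.  Then `N'` is abelian. -/
theorem lemmaZ {G : Type u} [Group G] [Finite G] (F N : Subgroup G) [F.Normal] [N.Normal]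
    {r : ℕ} [Fact r.Prime] (hF : IsPGroup r F) (hFN : F ≤ N)
    (hab : ∀ x ∈ N, ∀ y ∈ N, x * y * x⁻¹ * y⁻¹ ∈ F)
    (hcop : (F.relIndex N).Coprime r) (hcyc : IsCyclic (G ⧸ N))
    (hne : ¬ ⁅F, N⁆ ≤ ⁅F, F⁆) (g : ℕ)
    (hg : ∀ χ : Cfsg.IrrCharacter G,
      (∃ x ∈ ⁅N, N⁆, (χ : G → ℂ) x ≠ (χ : G → ℂ) 1) → (χ : G → ℂ) 1 = (g : ℂ)) :
    ∀ a ∈ ⁅N, N⁆, ∀ b ∈ ⁅N, N⁆, a * b = b * a := by
  classical
  have hrg : ¬ r ∣ g :=
    Cfsg.Agent.Lib.Helper87_Isaacs1215ZC.not_dvd_degree F N hF hFN hcop hcyc hne g hg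
  letI : Fintype G := Fintype.ofFinite G
  set D : Subgroup G := ⁅N, N⁆ with hD
  have hDn : D.Normal := Subgroup.commutator_normal N N
  letI : Fintype D := Fintype.ofFinite D
  have hDF : D ≤ F := by
    rw [hD, Subgroup.commutator_le]
    intro x hx y hy
    rw [commutatorElement_def]
    exact hab x hx y hy
  have hDp : IsPGroup r D := hF.to_le hDF
  obtain ⟨j, hj⟩ := IsPGroup.iff_card.mp hDp
  have hlin : ∀ θ : Cfsg.IrrCharacter D, (θ : D → ℂ) 1 = 1 := by
    intro θ
    obtain ⟨χ, hχ, hne1⟩ := Cfsg.Agent.Lib.Helper59_CliffordDeg.exists_irr_over D θ.2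
    obtain ⟨d, hd0, hd⟩ := Cfsg.Agent.Lib.Helper3_CharColumn.irr_one_eq_natCast θ.2
    obtain ⟨Dχ, hDχ0, hDχ⟩ := Cfsg.Agent.Lib.Helper3_CharColumn.irr_one_eq_natCast hχ
    have hdvd : d ∣ Dχ := Cfsg.Agent.Lib.Helper59_CliffordDeg.degree_dvd_of_clifford D hDn hχ
      θ.2 hne1 Dχ d hDχ hd
    by_cases hx : ∃ x ∈ D, χ x ≠ χ 1
    · have h1 := hg ⟨χ, hχ⟩ hx
      have h2 : Dχ = g := by
        have : (Dχ : ℂ) = (g : ℂ) := by rw [← hDχ]; exact h1
        exact_mod_cast this
      have h3 : d ∣ r ^ j := by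
        rw [← hj]
        exact degree_dvd_card θ.2 d hd
      obtain ⟨i, _, hi⟩ := (Nat.dvd_prime_pow (Fact.out : r.Prime)).mp h3
      have hi0 : i = 0 := by
        by_contra hi0
        apply hrg
        rw [← h2]
        apply Dvd.dvd.trans _ hdvd
        rw [hi]
        exact dvd_pow_self r hi0
      rw [hd, hi, hi0, pow_zero, Nat.cast_one]
    · -- `χ` is trivial on `D`, so `θ` is the trivial character
      have hall : ∀ x : D, χ x = χ 1 := by
        intro x
        by_contra h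
        exact hx ⟨x, x.2, h⟩
      have hres : Cfsg.Agent.Lib.Helper75_Clifford.res D χ = (χ 1) • (fun _ : D => (1 : ℂ)) := by
        funext x
        rw [Cfsg.Agent.Lib.Helper75_Clifford.res_apply, hall x, Pi.smul_apply, smul_eq_mul,
          mul_one]
      rw [hres, Cfsg.Agent.Lib.Helper3_CharOrtho.classInner_smul_left] at hne1
      have hone : IsIrrCharacter D (fun _ : D => (1 : ℂ)) :=
        (Cfsg.Agent.Lib.Helper75_LinChar.isLin_one (G := D)).irr
      have heq : (fun _ : D => (1 : ℂ)) = (θ : D → ℂ) := by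
        by_contra hneq
        apply hne1
        rw [Cfsg.Agent.Lib.Helper3_CharOrtho.classInner_of_isIrrCharacter_of_ne hone θ.2 hneq,
          mul_zero]
      rw [← heq]
  have hcomm := Cfsg.Agent.Lib.Helper59_CliffordDeg.commute_of_all_linear (N := D) hlin
  intro a ha b hb
  have := hcomm ⟨a, ha⟩ ⟨b, hb⟩
  exact congrArg Subtype.val this

end Cfsg.Agent.Lib.Helper87_Isaacs1215Z
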