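import Mathlib
import Cfsg.Prelude.Def_Characters
import Cfsg.Prelude.Def_Solvable
import Cfsg.Agent.Lib.Helper48_ThreeDegDefs
import Cfsg.Agent.Lib.Helper74_TwoDegD
import Cfsg.Agent.Lib.Helper57_FrobNorm
import Cfsg.Agent.Lib.Helper75_LinChar
import Cfsg.Agent.Lib.Helper75_Clifford
import Cfsg.Agent.Lib.Helper1_Cores
import Cfsg.Agent.Lib.Helper48_S4460_Glue
import Cfsg.Agent.Lib.Helper64_S4460_BG
import Cfsg.Agent.Lib.Helper64_S4460_F2a
import Cfsg.Agent.Lib.Helper71_S4460_F2b3
import Cfsg.Agent.Lib.Helper76_S4460_MIN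
import Cfsg.Agent.Lib.Helper50_S4460_F2c
import Cfsg.Agent.Lib.Helper51_S4460_PKF1
import Cfsg.Agent.Lib.Helper48_S4460_F0
import Cfsg.Agent.Lib.Helper48_S4460_F2b
import Cfsg.Agent.Lib.Helper48_S4460_P4
import Cfsg.Agent.Lib.Helper87_Isaacs1215Z
import Cfsg.Agent.Lib.Helper80_S4460_F2b2

/-!
# Three character degrees: derived length at most 3 (Isaacs 12.15), solvable half (helper48)

Assembly of Theorem DL from the packages (`pending/helper48/S4460_packages.lean.txt`), proved by
helper50, helper51, helper64, helper71, helper76, helper80, helper87 and helper48.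
-/

set_option autoImplicit false

namespace Cfsg.Agent.Lib.Helper48_ThreeDegDL

open Cfsg Cfsg.Agent.Lib.Helper48_ThreeDegDefs

universe u

variable {G : Type u} [Group G]

/-! ## PK-0: glue (helper48) -/

/-- two character degrees: `G'' = 1` -/
theorem twoDeg_derived2 [Finite G] (m : ℕ)
    (hcd : ∀ χ : IrrCharacter G, (χ : G → ℂ) 1 = 1 ∨ (χ : G → ℂ) 1 = (m : ℂ)) :
    derivedSeries G 2 = ⊥ := by
  have h := Cfsg.Agent.Lib.Helper74_TwoDegD.commutator_comm_of_twoDeg m hcd
  rw [show (2 : ℕ) = 1 + 1 from rfl, derivedSeries_succ, derivedSeries_one, eq_bot_iff,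
    Subgroup.commutator_le]
  intro a ha b hb
  rw [Subgroup.mem_bot, commutatorElement_eq_one_iff_commute]
  exact h a ha b hb

/-- inflation: the degrees of a quotient are degrees of `G` -/
theorem cd3_quotient {f g : ℕ} (hcd : CD3 G f g) (X : Subgroup G) [X.Normal] :
    CD3 (G ⧸ X) f g := by
  intro χ
  exact hcd ⟨_, Cfsg.Agent.Lib.Helper57_FrobNorm.isIrrCharacter_comp_surjective
    (QuotientGroup.mk' X) (QuotientGroup.mk'_surjective X) χ.2⟩

/-- if `G' ≤ N` and `N'` is abelian then `G''' = 1` -/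
theorem derived3_eq_bot_of_normal (N : Subgroup G)
    (habq : ∀ a b : G, a * b * a⁻¹ * b⁻¹ ∈ N)
    (hN : ∀ a ∈ ⁅N, N⁆, ∀ b ∈ ⁅N, N⁆, a * b = b * a) : derivedSeries G 3 = ⊥ := by
  have h1 : derivedSeries G 1 ≤ N := by
    rw [derivedSeries_one, commutator_def, Subgroup.commutator_le]
    intro a _ b _
    rw [commutatorElement_def]
    exact habq a b
  have h2 : derivedSeries G 2 ≤ ⁅N, N⁆ := by
    rw [show (2 : ℕ) = 1 + 1 from rfl, derivedSeries_succ]
    exact Subgroup.commutator_mono h1 h1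
  rw [show (3 : ℕ) = 2 + 1 from rfl, derivedSeries_succ, eq_bot_iff]
  refine le_trans (Subgroup.commutator_mono h2 h2) ?_
  rw [Subgroup.commutator_le]
  intro a ha b hb
  rw [Subgroup.mem_bot, commutatorElement_eq_one_iff_commute]
  exact hN a ha b hb


/-- if `G' ≤ N` and `N` has at most two character degrees then `G''' = 1` -/
theorem derived3_eq_bot_of_normal_twoDeg [Finite G] (N : Subgroup G)
    (habq : ∀ a b : G, a * b * a⁻¹ * b⁻¹ ∈ N) (m : ℕ)
    (hcdN : ∀ ψ : IrrCharacter N, (ψ : N → ℂ) 1 = 1 ∨ (ψ : N → ℂ) 1 = (m : ℂ)) :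
    derivedSeries G 3 = ⊥ := by
  apply derived3_eq_bot_of_normal N habq
  have h := Cfsg.Agent.Lib.Helper74_TwoDegD.commutator_comm_of_twoDeg m hcdN
  intro a ha b hb
  rw [← Subgroup.map_subtype_commutator] at ha hb
  obtain ⟨a', ha', rfl⟩ := ha
  obtain ⟨b', hb', rfl⟩ := hb
  have := h a' ha' b' hb'
  exact congrArg N.subtype this

theorem derived3_of_derived2 (h : derivedSeries G 2 = ⊥) : derivedSeries G 3 = ⊥ :=
  eq_bot_iff.mpr (h ▸ derivedSeries_antitone G (by norm_num : 2 ≤ 3))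

/-- a linear irreducible character is trivial on commutators -/
theorem linear_commutator (χ : IrrCharacter G) (h1 : (χ : G → ℂ) 1 = 1) :
    ∀ x ∈ commutator G, (χ : G → ℂ) x = (χ : G → ℂ) 1 := by
  have hlin : Cfsg.Agent.Lib.Helper75_LinChar.IsLin G (χ : G → ℂ) :=
    ⟨Cfsg.Agent.Lib.Helper3_CharBridge.isCharacter_of_isIrrCharacter χ.2, h1⟩
  let φ : G →* ℂ := { toFun := χ, map_one' := h1, map_mul' := hlin.map_mul }
  have hker : commutator G ≤ (φ.ker) := by
    rw [commutator_def, Subgroup.commutator_le]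
    intro a _ b _
    rw [MonoidHom.mem_ker, commutatorElement_def, map_mul, map_mul, map_mul]
    have ha : φ a * φ a⁻¹ = 1 := by rw [← map_mul, mul_inv_cancel, map_one]
    have hb : φ b * φ b⁻¹ = 1 := by rw [← map_mul, mul_inv_cancel, map_one]
    calc φ a * φ b * φ a⁻¹ * φ b⁻¹ = (φ a * φ a⁻¹) * (φ b * φ b⁻¹) := by ring
      _ = 1 := by rw [ha, hb, mul_one]
  intro x hx
  have := hker hx
  rw [MonoidHom.mem_ker] at this
  rw [h1]
  exact this



theorem fitting_ne_top [Finite G] (hnil : ¬ Group.IsNilpotent G) : fittingSubgroup G ≠ ⊤ := by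
  intro h
  apply hnil
  have h1 : Group.IsNilpotent (fittingSubgroup G) :=
    Cfsg.Agent.Lib.Helper1_Cores.fittingSubgroup_isNilpotent
  rw [h] at h1
  exact Group.nilpotent_of_mulEquiv (Subgroup.topEquiv (G := G))

/-- case F, normalised so that `[G:N] = f`. -/
theorem caseF_main [Finite G] [Group.IsSolvable G] (K N : Subgroup G) [K.Normal] [N.Normal]
    (p : ℕ) (hF : FrobData K N p) (f g : ℕ) (hcd : CD3 G f g) (hf2 : 2 ≤ f)
    (hidx : N.index = f) (hnil : ¬ Group.IsNilpotent G)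
    (r : ℕ) (hr : r.Prime) (hFr : IsPGroup r (fittingSubgroup G))
    (hrX : ∀ X : Subgroup G, X.Normal → X ≠ ⊥ → r ∣ Nat.card X) :
    derivedSeries G 3 = ⊥ := by
  classical
  by_cases hpg : p ∣ g
  · by_cases hrp : r = p
    · subst hrp
      exact derived3_eq_bot_of_normal_twoDeg N hF.habq _
        (fun ψ => Cfsg.Agent.Lib.Helper64_S4460_F2a.caseF_r_eq_p K N r hF f g hcd hf2 hidx hpg hrX ψ)
    · have hFK := Cfsg.Agent.Lib.Helper48_S4460_F2b.caseF_fitting_le K N p hF r hr hrp hFr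
      obtain ⟨χ, hχ1, hχK⟩ := Cfsg.Agent.Lib.Helper48_S4460_F0.caseF_exists_char K N p hF
      have hFtop : fittingSubgroup G ≠ ⊤ := fitting_ne_top hnil
      have hmin : min f g = f := by
        rcases Cfsg.Agent.Lib.Helper64_S4460_BG.bg_degrees hFtop f g hcd χ (fun x hx => hχK x (hFK hx)) with h | h
        · rw [hχ1, hidx] at h
          have : f = 1 := by exact_mod_cast h
          omega
        · rw [hχ1, hidx] at h
          exact_mod_cast h.symm
      have hcdF : ∀ χ : IrrCharacter G,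
          (∀ x ∈ fittingSubgroup G, (χ : G → ℂ) x = (χ : G → ℂ) 1) →
          (χ : G → ℂ) 1 = 1 ∨ (χ : G → ℂ) 1 = (f : ℂ) := by
        intro χ hker
        have := Cfsg.Agent.Lib.Helper64_S4460_BG.bg_degrees hFtop f g hcd χ hker
        rwa [hmin] at this
      have hab' := Cfsg.Agent.Lib.Helper80_S4460_F2b2.caseF_quot_abelian K N p hF f hf2 hidx hFK hcdF
      have hFN : fittingSubgroup G ≤ N := hFK.trans hF.hKN
      have hcop := Cfsg.Agent.Lib.Helper71_S4460_F2b3.caseF_coprime N r hr hFr hFN hab'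
      have hneFN : fittingSubgroup G ≠ N := by
        intro h
        apply hF.hne
        exact le_antisymm hF.hKN (h ▸ hFK)
      have hne := Cfsg.Agent.Lib.Helper48_S4460_F2b.caseF_not_le N r hr hFr hFN hneFN hcop
      have : Fact r.Prime := ⟨hr⟩
      have hNG : ⁅N, N⁆ ≤ commutator G := by
        rw [commutator_def]
        exact Subgroup.commutator_mono le_top le_top
      have hZ := Cfsg.Agent.Lib.Helper87_Isaacs1215Z.lemmaZ (fittingSubgroup G) N hFr hFN hab' hcop hF.hcyc hne g (by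
        rintro χ ⟨x, hx, hxne⟩
        rcases hcd χ with h | h | h
        · exact absurd (linear_commutator χ h x (hNG hx)) hxne
        · exact absurd (Cfsg.Agent.Lib.Helper50_S4460_F2c.caseF_degf_kernel K N p hF f g hcd hf2 hidx hpg χ h x hx) hxne
        · exact h)
      exact derived3_eq_bot_of_normal N hF.habq hZ
  · exact derived3_eq_bot_of_normal_twoDeg N hF.habq _
      (fun ψ => Cfsg.Agent.Lib.Helper51_S4460_PKF1.caseF_pndvd K N p hF f g hcd hf2 hidx hpg ψ)


theorem degree_ne_zero (χ : IrrCharacter G) (d : ℕ) (h : (χ : G → ℂ) 1 = (d : ℂ)) : d ≠ 0 := by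
  rintro rfl
  exact Cfsg.Agent.Lib.Helper75_Clifford.irr_one_ne_zero χ.2 (by simpa using h)

/-- **Theorem DL**: a finite solvable group with degrees in `{1,f,g}` has `G''' = 1`. -/
theorem dl_main : ∀ (n : ℕ) (G : Type u) [Group G] [Finite G], Nat.card G = n →
    Group.IsSolvable G → ∀ f g : ℕ, CD3 G f g → derivedSeries G 3 = ⊥ := by
  intro n
  induction n using Nat.strong_induction_on with
  | _ n ih =>
  intro G _ _ hn hsolv f g hcd
  classical
  by_contra hW
  -- nondegeneracy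
  have hf : ∃ χ : IrrCharacter G, (χ : G → ℂ) 1 = (f : ℂ) ∧ (χ : G → ℂ) 1 ≠ 1 ∧
      (χ : G → ℂ) 1 ≠ (g : ℂ) := by
    by_contra h
    push Not at h
    apply hW
    apply derived3_of_derived2
    apply twoDeg_derived2 g
    intro χ
    rcases hcd χ with h1 | h1 | h1
    · exact Or.inl h1
    · by_cases h2 : (χ : G → ℂ) 1 = 1
      · exact Or.inl h2
      · exact Or.inr (h χ h1 h2)
    · exact Or.inr h1
  have hg : ∃ χ : IrrCharacter G, (χ : G → ℂ) 1 = (g : ℂ) ∧ (χ : G → ℂ) 1 ≠ 1 ∧
      (χ : G → ℂ) 1 ≠ (f : ℂ) := by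
    by_contra h
    push Not at h
    apply hW
    apply derived3_of_derived2
    apply twoDeg_derived2 f
    intro χ
    rcases hcd χ with h1 | h1 | h1
    · exact Or.inl h1
    · exact Or.inr h1
    · by_cases h2 : (χ : G → ℂ) 1 = 1
      · exact Or.inl h2
      · exact Or.inr (h χ h1 h2)
  obtain ⟨χf, hχf, hχf1, hχfg⟩ := hf
  obtain ⟨χg, hχg, hχg1, -⟩ := hg
  have hf2 : 2 ≤ f := by
    have h0 := degree_ne_zero χf f hχf
    have h1 : f ≠ 1 := by
      rintro rfl
      exact hχf1 (by simpa using hχf)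
    omega
  have hg2 : 2 ≤ g := by
    have h0 := degree_ne_zero χg g hχg
    have h1 : g ≠ 1 := by
      rintro rfl
      exact hχg1 (by simpa using hχg)
    omega
  -- the induction: `G'''` lies in every nontrivial normal subgroup
  have hmin : ∀ X : Subgroup G, X.Normal → X ≠ ⊥ → derivedSeries G 3 ≤ X := by
    intro X hX hX0
    have hlt : Nat.card (G ⧸ X) < n := by
      rw [← hn, Subgroup.card_eq_card_quotient_mul_card_subgroup X]
      have h1 : 1 < Nat.card X := X.one_lt_card_iff_ne_bot.mpr hX0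
      have h2 : 0 < Nat.card (G ⧸ X) := Nat.card_pos
      nlinarith
    have hq := ih (Nat.card (G ⧸ X)) hlt (G ⧸ X) rfl inferInstance f g (cd3_quotient hcd X)
    have hmap := map_derivedSeries_eq (QuotientGroup.mk'_surjective X) 3
    rw [hq] at hmap
    have hle : derivedSeries G 3 ≤ (QuotientGroup.mk' X).ker :=
      (Subgroup.map_eq_bot_iff _).mp hmap
    rwa [QuotientGroup.ker_mk'] at hle
  -- not nilpotent
  have hnil : ¬ Group.IsNilpotent G := fun h => hW (Cfsg.Agent.Lib.Helper64_S4460_BG.taketa_three f g hcd)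
  -- Broline–Garrison
  have hBG := Cfsg.Agent.Lib.Helper64_S4460_BG.derived2_le_fitting f g hcd
  have hFnonab : ¬ ∀ a ∈ fittingSubgroup G, ∀ b ∈ fittingSubgroup G, a * b = b * a := by
    intro h
    apply hW
    rw [show (3 : ℕ) = 2 + 1 from rfl, derivedSeries_succ, eq_bot_iff]
    refine le_trans (Subgroup.commutator_mono hBG hBG) ?_
    rw [Subgroup.commutator_le]
    intro a ha b hb
    rw [Subgroup.mem_bot, commutatorElement_eq_one_iff_commute]
    exact h a ha b hb
  -- the prime `r`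
  obtain ⟨r, hr, hFr, hrX⟩ := Cfsg.Agent.Lib.Helper76_S4460_MIN.unique_minimal_prime (derivedSeries G 3) hW hmin
  -- Isaacs 12.3
  have hcomm : commutator G ≠ ⊥ := by
    intro h
    apply hW
    rw [eq_bot_iff, ← h, ← derivedSeries_one]
    exact derivedSeries_antitone G (by norm_num)
  obtain ⟨K, N, hKn, hNn, p, hQ, hPF⟩ := Cfsg.Agent.Lib.Helper48_S4460_Glue.quot_structure hcomm
  rcases hPF with hP | hFrob
  · -- case P
    obtain ⟨χ₀, -, ⟨c, hc, hχ₀⟩, hB⟩ := Cfsg.Agent.Lib.Helper48_S4460_Glue.lemmaB K N p hQ hP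
    have hp := hQ.hp
    have hpc1 : p ^ c ≠ 1 := by
      have := Nat.one_lt_pow hc.ne' hp.one_lt
      omega
    rcases hcd χ₀ with h | h | h
    · rw [hχ₀] at h
      exact hpc1 (by exact_mod_cast h)
    · have hfp : f = p ^ c := by
        rw [hχ₀] at h
        exact_mod_cast h.symm
      exact hW (Cfsg.Agent.Lib.Helper48_S4460_P4.caseP f g hcd ⟨χg, hχg⟩ hf2 hg2 p c hp hfp χ₀ h hB hnil hFnonab r hr hFr hrX)
    · have hgp : g = p ^ c := by
        rw [hχ₀] at h
        exact_mod_cast h.symm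
      exact hW (Cfsg.Agent.Lib.Helper48_S4460_P4.caseP g f (CD3.symm hcd) ⟨χf, hχf⟩ hg2 hf2 p c hp hgp χ₀ h hB hnil hFnonab r hr hFr
        hrX)
  · -- case F
    obtain ⟨χ, hχ1, -⟩ := Cfsg.Agent.Lib.Helper48_S4460_F0.caseF_exists_char K N p hFrob
    have hNtop : N.index ≠ 1 := by
      intro h
      rw [Subgroup.index_eq_one] at h
      obtain ⟨a, b, hab⟩ := hQ.hnonab
      exact hab (hQ.hab a (h ▸ Subgroup.mem_top a) b (h ▸ Subgroup.mem_top b))
    rcases hcd χ with h | h | h
    · rw [hχ1] at h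
      exact hNtop (by exact_mod_cast h)
    · have hidx : N.index = f := by
        rw [hχ1] at h
        exact_mod_cast h
      exact hW (caseF_main K N p hFrob f g hcd hf2 hidx hnil r hr hFr hrX)
    · have hidx : N.index = g := by
        rw [hχ1] at h
        exact_mod_cast h
      exact hW (caseF_main K N p hFrob g f (CD3.symm hcd) hg2 hidx hnil r hr hFr hrX)

end Cfsg.Agent.Lib.Helper48_ThreeDegDL
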