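import Cfsg.Prelude.Def_LocalStructure
import Cfsg.Agent.Lib.Helper48_SPE
import Cfsg.Agent.Lib.Helper48_PMinimal
import Cfsg.Agent.Lib.Helper48_Tight
import Cfsg.Agent.Lib.Helper2_PResidual
import Cfsg.Agent.Lib.Helper1_Cores
import Cfsg.Agent.Lib.Lead_Subnormal

/-!
# `p`-minimality from a transitive family of `p`-minimal subgroups (helper48)

`maxOver T X`: the join of all proper subgroups of `X` containing `T`.
Relative minimality of `E·Q` for a `p`-minimal `E` and a normal `p`-subgroup `Q`.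
-/

set_option autoImplicit false
open Cfsg
open scoped Pointwise
open Cfsg.Agent.Lib.Helper48_SPE Cfsg.Agent.Lib.Helper48_PMinimal Cfsg.Agent.Lib.Helper48_Tight
open Cfsg.Agent.Lib.Lead_Subnormal

namespace Cfsg.Agent.Lib.Helper48_Trans

variable {H : Type*} [Group H]

/-- The join of all proper subgroups of `X` containing `T`. -/
def maxOver (T X : Subgroup H) : Subgroup H := sSup {L | T ≤ L ∧ L ≤ X ∧ L ≠ X}

theorem maxOver_le (T X : Subgroup H) : maxOver T X ≤ X :=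
  sSup_le fun _ hL => hL.2.1

theorem le_maxOver {T X L : Subgroup H} (hTL : T ≤ L) (hLX : L ≤ X) (hne : L ≠ X) :
    L ≤ maxOver T X :=
  le_sSup ⟨hTL, hLX, hne⟩

theorem maxOver_le_of_forall {T X M : Subgroup H}
    (h : ∀ L, T ≤ L → L ≤ X → L ≠ X → L ≤ M) : maxOver T X ≤ M :=
  sSup_le fun L hL => h L hL.1 hL.2.1 hL.2.2

theorem conj_smul_maxOver_le (g : H) (T X : Subgroup H) :
    MulAut.conj g • maxOver T X ≤ maxOver (MulAut.conj g • T) (MulAut.conj g • X) := by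
  rw [Subgroup.pointwise_smul_subset_iff]
  apply maxOver_le_of_forall
  intro L hTL hLX hne
  rw [← Subgroup.pointwise_smul_subset_iff]
  apply le_maxOver
  · exact Subgroup.pointwise_smul_le_pointwise_smul_iff.mpr hTL
  · exact Subgroup.pointwise_smul_le_pointwise_smul_iff.mpr hLX
  · intro h
    exact hne (smul_left_cancel _ h)

theorem conj_smul_maxOver (g : H) (T X : Subgroup H) :
    MulAut.conj g • maxOver T X = maxOver (MulAut.conj g • T) (MulAut.conj g • X) := by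
  apply le_antisymm (conj_smul_maxOver_le g T X)
  have h := conj_smul_maxOver_le g⁻¹ (MulAut.conj g • T) (MulAut.conj g • X)
  rw [conj_inv_smul_smul, conj_inv_smul_smul] at h
  have h2 := Subgroup.pointwise_smul_le_pointwise_smul_iff (a := MulAut.conj g) |>.mpr h
  have e : MulAut.conj g • MulAut.conj g⁻¹ • maxOver (MulAut.conj g • T) (MulAut.conj g • X) =
      maxOver (MulAut.conj g • T) (MulAut.conj g • X) := by
    have := conj_inv_smul_smul g⁻¹ (maxOver (MulAut.conj g • T) (MulAut.conj g • X))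
    rwa [inv_inv] at this
  rw [e] at h2
  exact h2

/-- Elements normalizing `T` and `X` normalize `maxOver T X`. -/
theorem mem_normalizer_maxOver {g : H} {T X : Subgroup H} (hT : MulAut.conj g • T = T)
    (hX : MulAut.conj g • X = X) : g ∈ Subgroup.normalizer ((maxOver T X : Subgroup H) : Set H) := by
  apply mem_normalizer_of_conj_smul_eq_self
  rw [conj_smul_maxOver, hT, hX]

/-! ### Relative minimality of `E·Q` -/

/-- Dedekind: if `Qn ≤ L ≤ E ⊔ Qn` with `Qn` normal then `L = (L ⊓ E) ⊔ Qn`. -/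
theorem eq_inf_sup_of_le {E Qn L : Subgroup H} [Qn.Normal] (hQL : Qn ≤ L) (hL : L ≤ E ⊔ Qn) :
    L = (L ⊓ E) ⊔ Qn := by
  apply le_antisymm
  · intro l hl
    obtain ⟨e, he, q, hq, rfl⟩ := Subgroup.mem_sup_of_normal_right.mp (hL hl)
    have heL : e ∈ L := by
      have := L.mul_mem hl (L.inv_mem (hQL hq))
      simpa using this
    exact Subgroup.mul_mem _ (Subgroup.mem_sup_left ⟨heL, he⟩) (Subgroup.mem_sup_right hq)
  · exact sup_le inf_le_left hQL

section RelMin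

variable [Finite H] {p : ℕ} [Fact p.Prime]

/-- A normal `p`-subgroup of `X` lies in every Sylow `p`-subgroup of `X`. -/
theorem le_of_isSylowIn_of_normal {Ts X Qn : Subgroup H} [Qn.Normal] (hQp : IsPGroup p Qn)
    (hQX : Qn ≤ X) (hTs : IsSylowIn p Ts X) : Qn ≤ Ts := by
  have h1 : IsPGroup p (Ts ⊔ Qn : Subgroup H) := hTs.isPGroup.to_sup_of_normal_right hQp
  have h2 := hTs.2.2 (Ts ⊔ Qn) h1 le_sup_left (sup_le hTs.le hQX)
  rw [← h2]
  exact le_sup_right

/-- If `Ts` is a Sylow `p`-subgroup of `E·Q` then `Ts ∩ E` is a Sylow `p`-subgroup of `E`. -/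
theorem isSylowIn_inf_of_sup {E Qn Ts : Subgroup H} [Qn.Normal] (hQp : IsPGroup p Qn)
    (hTs : IsSylowIn p Ts (E ⊔ Qn)) : IsSylowIn p (Ts ⊓ E) E := by
  have hQT : Qn ≤ Ts := le_of_isSylowIn_of_normal hQp le_sup_right hTs
  obtain ⟨T₁, hT₁, hle⟩ := exists_isSylowIn_ge (hTs.isPGroup.to_le inf_le_left)
    (inf_le_right : Ts ⊓ E ≤ E)
  have h1 : IsPGroup p (T₁ ⊔ Qn : Subgroup H) := hT₁.isPGroup.to_sup_of_normal_right hQp
  have h2 : Ts ≤ T₁ ⊔ Qn := (eq_inf_sup_of_le hQT hTs.le).le.trans (sup_le_sup_right hle Qn)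
  have h3 := hTs.2.2 (T₁ ⊔ Qn) h1 h2 (sup_le_sup_right hT₁.le Qn)
  have h4 : T₁ ≤ Ts ⊓ E := le_inf (by rw [← h3]; exact le_sup_left) hT₁.le
  have h5 : Ts ⊓ E = T₁ := le_antisymm hle h4
  rw [h5]
  exact hT₁

/-- **Relative minimality of `E·Q`**: if `E` is `p`-minimal (`IsMinimalOver` for all its Sylow
`p`-subgroups), `Q` a normal `p`-subgroup and `Ts` a Sylow `p`-subgroup of `EQ`, then the join
of all proper subgroups of `EQ` containing `Ts` is proper, and the only subgroup between `Ts` and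
`EQ` normalized by `EQ` is `EQ`. -/
theorem relMin_sup {E Qn Ts : Subgroup H} [Qn.Normal] (hQp : IsPGroup p Qn)
    (hmin : ∀ T : Sylow p ↥E, IsMinimalOver (T : Subgroup ↥E))
    (hTs : IsSylowIn p Ts (E ⊔ Qn)) :
    maxOver Ts (E ⊔ Qn) ≠ E ⊔ Qn ∧ Ts ≤ maxOver Ts (E ⊔ Qn) ∧
    ∀ L, Ts ≤ L → L ≤ E ⊔ Qn → E ⊔ Qn ≤ Subgroup.normalizer (L : Set H) → L = E ⊔ Qn := by
  have hQT : Qn ≤ Ts := le_of_isSylowIn_of_normal hQp le_sup_right hTs
  have hT0 : IsSylowIn p (Ts ⊓ E) E := isSylowIn_inf_of_sup hQp hTs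
  obtain ⟨hnc, M', ⟨hM'co, hM'T⟩, hM'uniq⟩ := hmin hT0.toSylow
  obtain ⟨M₀, hM₀def⟩ : ∃ M₀ : Subgroup H, M₀ = M'.map E.subtype := ⟨_, rfl⟩
  have hM₀E : M₀ ≤ E := by
    rw [hM₀def]
    exact Subgroup.map_subtype_le _
  have hmemM₀ : ∀ x : ↥E, x ∈ M' → (x : H) ∈ M₀ := by
    intro x hx
    rw [hM₀def]
    exact ⟨x, hx, rfl⟩
  have hT₀M₀ : Ts ⊓ E ≤ M₀ := by
    intro x hx
    have h1 : (⟨x, hx.2⟩ : ↥E) ∈ (Ts ⊓ E).subgroupOf E := by
      rw [Subgroup.mem_subgroupOf]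
      exact hx
    exact hmemM₀ ⟨x, hx.2⟩ (hM'T h1)
  have hM₀ne : M₀ ≠ E := by
    intro h
    apply hM'co.1
    rw [eq_top_iff]
    intro x _
    have h1 : (x : H) ∈ M₀ := h ▸ x.2
    rw [hM₀def] at h1
    obtain ⟨y, hy, hyx⟩ := h1
    have h2 : y = x := Subtype.ext hyx
    rwa [h2] at hy
  have hkey : ∀ L, Ts ≤ L → L ≤ E ⊔ Qn → L ≠ E ⊔ Qn → L ≤ M₀ ⊔ Qn := by
    intro L hTL hLX hne
    have hQL := hQT.trans hTL
    refine (eq_inf_sup_of_le hQL hLX).le.trans (sup_le_sup_right ?_ Qn)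
    have hLE : (L ⊓ E).subgroupOf E ≠ ⊤ := by
      intro h
      rw [Subgroup.subgroupOf_eq_top] at h
      apply hne
      exact le_antisymm hLX (sup_le (h.trans inf_le_left) hQL)
    obtain ⟨C, hC, hLC⟩ := (eq_top_or_exists_le_coatom ((L ⊓ E).subgroupOf E)).resolve_left hLE
    have hTC : ((hT0.toSylow : Sylow p ↥E) : Subgroup ↥E) ≤ C := by
      refine le_trans ?_ hLC
      intro x hx
      have hx' : x ∈ (Ts ⊓ E).subgroupOf E := hx
      rw [Subgroup.mem_subgroupOf] at hx' ⊢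
      exact ⟨hTL hx'.1, hx'.2⟩
    have hCM : C = M' := hM'uniq C ⟨hC, hTC⟩
    intro x hx
    have h1 : (⟨x, hx.2⟩ : ↥E) ∈ (L ⊓ E).subgroupOf E := by
      rw [Subgroup.mem_subgroupOf]
      exact hx
    exact hmemM₀ ⟨x, hx.2⟩ (hCM ▸ hLC h1)
  refine ⟨?_, ?_, ?_⟩
  · intro h
    have h1 : E ⊔ Qn ≤ M₀ ⊔ Qn := by
      rw [← h]
      exact maxOver_le_of_forall hkey
    apply hM₀ne
    apply le_antisymm hM₀E
    intro e he
    obtain ⟨m, hm, q, hq, hmq⟩ := Subgroup.mem_sup_of_normal_right.mp (h1 (Subgroup.mem_sup_left he))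
    have hqE : q ∈ E := by
      have e1 : q = m⁻¹ * e := by rw [← hmq]; group
      rw [e1]
      exact E.mul_mem (E.inv_mem (hM₀E hm)) he
    have hqM : q ∈ M₀ := hT₀M₀ ⟨hQT hq, hqE⟩
    rw [← hmq]
    exact M₀.mul_mem hm hqM
  · apply le_maxOver le_rfl hTs.le
    intro h
    apply hM₀ne
    apply le_antisymm hM₀E
    refine le_trans ?_ hT₀M₀
    rw [h]
    exact le_inf le_sup_left le_rfl
  · intro L hTL hLX hLn
    have hEn : E ≤ Subgroup.normalizer ((L ⊓ E : Subgroup H) : Set H) := by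
      intro x hx
      have hxL := hLn (Subgroup.mem_sup_left hx)
      rw [Subgroup.mem_normalizer_iff] at hxL ⊢
      intro y
      constructor
      · intro hy
        exact ⟨(hxL y).mp hy.1, E.mul_mem (E.mul_mem hx hy.2) (E.inv_mem hx)⟩
      · intro hy
        refine ⟨(hxL y).mpr hy.1, ?_⟩
        have := E.mul_mem (E.mul_mem (E.inv_mem hx) hy.2) hx
        have e1 : x⁻¹ * (x * y * x⁻¹) * x = y := by group
        rwa [e1] at this
    haveI hnorm : ((L ⊓ E).subgroupOf E).Normal := Subgroup.normal_subgroupOf_of_le_normalizer hEn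
    have hTN : ((hT0.toSylow : Sylow p ↥E) : Subgroup ↥E) ≤ (L ⊓ E).subgroupOf E := by
      intro x hx
      have hx' : x ∈ (Ts ⊓ E).subgroupOf E := hx
      rw [Subgroup.mem_subgroupOf] at hx' ⊢
      exact ⟨hTL hx'.1, hx'.2⟩
    have h1 : Subgroup.normalClosure (((hT0.toSylow : Sylow p ↥E) : Subgroup ↥E) : Set ↥E) ≤
        (L ⊓ E).subgroupOf E := Subgroup.normalClosure_le_normal hTN
    rw [hnc, top_le_iff, Subgroup.subgroupOf_eq_top] at h1
    exact le_antisymm hLX (sup_le (h1.trans inf_le_left) (hQT.trans hTL))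

end RelMin

/-! ### The transitive family -/

section Family

variable [Finite H] {p : ℕ} [Fact p.Prime] {𝒦 : Set (Subgroup H)}

theorem sSup_normal_of_conj (hinv : ∀ h : H, ∀ E ∈ 𝒦, MulAut.conj h • E ∈ 𝒦) :
    (sSup 𝒦).Normal := by
  rw [← Subgroup.normalizer_eq_top_iff, eq_top_iff]
  intro x _
  exact mem_normalizer_sSup x (fun Y hY => hinv x Y hY) (fun Y hY => hinv x⁻¹ Y hY)

theorem sylow_sup_sSup_eq_top (hres : pResidual p H ≤ sSup 𝒦) (S : Sylow p H) :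
    (S : Subgroup H) ⊔ sSup 𝒦 = ⊤ := by
  rw [eq_top_iff, ← Cfsg.Agent.Lib.Helper2_PResidual.sylow_sup_pResidual S]
  exact sup_le_sup_left hres _

theorem conj_smul_sup_pCore (g : H) (E : Subgroup H) :
    MulAut.conj g • (E ⊔ pCore p H) = MulAut.conj g • E ⊔ pCore p H := by
  rw [Subgroup.smul_sup, Subgroup.Normal.conj_smul_eq_self g (pCore p H)]

/-- A Sylow `p`-subgroup is transitive on the subgroups `E·O_p(H)`. -/
theorem exists_conj_sup (hinv : ∀ h : H, ∀ E ∈ 𝒦, MulAut.conj h • E ∈ 𝒦)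
    (htr : ∀ E ∈ 𝒦, ∀ K ∈ 𝒦, ∃ h : H, K = MulAut.conj h • E)
    (hres : pResidual p H ≤ sSup 𝒦)
    (hnorm : ∀ E ∈ 𝒦, sSup 𝒦 ⊔ pCore p H ≤
      Subgroup.normalizer ((E ⊔ pCore p H : Subgroup H) : Set H))
    (S : Sylow p H) {E K : Subgroup H} (hE : E ∈ 𝒦) (hK : K ∈ 𝒦) :
    ∃ s ∈ (S : Subgroup H), K ⊔ pCore p H = MulAut.conj s • (E ⊔ pCore p H) := by
  haveI := sSup_normal_of_conj hinv
  obtain ⟨h, rfl⟩ := htr E hE K hK
  have hh : h ∈ (S : Subgroup H) ⊔ sSup 𝒦 := by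
    rw [sylow_sup_sSup_eq_top hres S]
    exact Subgroup.mem_top h
  obtain ⟨s, hs, r, hr, rfl⟩ := Subgroup.mem_sup_of_normal_right.mp hh
  refine ⟨s, hs, ?_⟩
  have hrN : MulAut.conj r • (E ⊔ pCore p H) = E ⊔ pCore p H :=
    conj_smul_eq_self_of_mem_normalizer (hnorm E hE (Subgroup.mem_sup_left hr))
  rw [← conj_smul_sup_pCore, ← conj_smul_smul, hrN]

theorem isSubnormal_sup_pCore (hinv : ∀ h : H, ∀ E ∈ 𝒦, MulAut.conj h • E ∈ 𝒦)
    (hnorm : ∀ E ∈ 𝒦, sSup 𝒦 ⊔ pCore p H ≤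
      Subgroup.normalizer ((E ⊔ pCore p H : Subgroup H) : Set H))
    {E : Subgroup H} (hE : E ∈ 𝒦) : (E ⊔ pCore p H).IsSubnormal := by
  haveI := sSup_normal_of_conj hinv
  have hRn : (sSup 𝒦 ⊔ pCore p H).Normal := inferInstance
  have hle : E ⊔ pCore p H ≤ sSup 𝒦 ⊔ pCore p H := sup_le_sup_right (le_sSup hE) _
  exact Subgroup.IsSubnormal.step _ _ hle hRn.isSubnormal
    (Subgroup.normal_subgroupOf_of_le_normalizer (hnorm E hE))

/-- **`p`-minimality from a transitive family of `p`-minimal subgroups.** -/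
theorem isMinimalOver_of_family (hne : 𝒦.Nonempty)
    (hinv : ∀ h : H, ∀ E ∈ 𝒦, MulAut.conj h • E ∈ 𝒦)
    (htr : ∀ E ∈ 𝒦, ∀ K ∈ 𝒦, ∃ h : H, K = MulAut.conj h • E)
    (hres : pResidual p H ≤ sSup 𝒦)
    (hnorm : ∀ E ∈ 𝒦, sSup 𝒦 ⊔ pCore p H ≤
      Subgroup.normalizer ((E ⊔ pCore p H : Subgroup H) : Set H))
    (hmin : ∀ E ∈ 𝒦, ∀ T : Sylow p ↥E, IsMinimalOver (T : Subgroup ↥E))
    (S : Sylow p H) : IsMinimalOver (S : Subgroup H) := by
  haveI hRn := sSup_normal_of_conj hinv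
  have hQp : IsPGroup p (pCore p H) := Cfsg.Agent.Lib.Helper1_Cores.pCore_isPGroup p
  have hQS : pCore p H ≤ (S : Subgroup H) := Cfsg.Agent.Lib.Helper1_Cores.pCore_le_sylow p S
  have hSR : (S : Subgroup H) ⊔ sSup 𝒦 = ⊤ := sylow_sup_sSup_eq_top hres S
  obtain ⟨Rs, hRs⟩ : ∃ Rs : Subgroup H, Rs = sSup 𝒦 ⊔ pCore p H := ⟨_, rfl⟩
  have hRsn : Rs.Normal := by
    rw [hRs]
    infer_instance
  have hSRs : (S : Subgroup H) ⊔ Rs = ⊤ := by
    rw [eq_top_iff, ← hSR, hRs]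
    exact sup_le_sup_left le_sup_left _
  -- Sylow subgroups of the `E*`
  have hsyl : ∀ E ∈ 𝒦, IsSylowIn p ((S : Subgroup H) ⊓ (E ⊔ pCore p H)) (E ⊔ pCore p H) :=
    fun E hE => isSylowIn_inf_of_isSubnormal S (isSubnormal_sup_pCore hinv hnorm hE)
  have hrel := fun E (hE : E ∈ 𝒦) => relMin_sup hQp (hmin E hE) (hsyl E hE)
  -- the subgroups `M_E`
  obtain ⟨ME, hME⟩ : ∃ ME : Subgroup H → Subgroup H,
      ME = fun E => maxOver ((S : Subgroup H) ⊓ (E ⊔ pCore p H)) (E ⊔ pCore p H) := ⟨_, rfl⟩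
  have hMEle : ∀ E, ME E ≤ E ⊔ pCore p H := by
    intro E
    rw [hME]
    exact maxOver_le _ _
  have hMEne : ∀ E ∈ 𝒦, ME E ≠ E ⊔ pCore p H := by
    intro E hE
    rw [hME]
    exact (hrel E hE).1
  have hMEconj : ∀ s ∈ (S : Subgroup H), ∀ E,
      MulAut.conj s • ME E = ME (MulAut.conj s • E) := by
    intro s hs E
    rw [hME]
    show MulAut.conj s • maxOver _ _ = maxOver _ _
    rw [conj_smul_maxOver, Subgroup.smul_inf, conj_smul_sup_pCore,
      conj_smul_eq_self_of_mem_normalizer (Subgroup.le_normalizer hs)]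
  -- the intersection of the normalizers
  obtain ⟨𝒩, h𝒩⟩ : ∃ 𝒩 : Subgroup H,
      𝒩 = sInf {X | ∃ E ∈ 𝒦, X = Subgroup.normalizer ((ME E : Subgroup H) : Set H)} := ⟨_, rfl⟩
  have h𝒩le : ∀ E ∈ 𝒦, 𝒩 ≤ Subgroup.normalizer ((ME E : Subgroup H) : Set H) := by
    intro E hE
    rw [h𝒩]
    exact sInf_le ⟨E, hE, rfl⟩
  have hle𝒩 : ∀ X : Subgroup H,
      (∀ E ∈ 𝒦, X ≤ Subgroup.normalizer ((ME E : Subgroup H) : Set H)) → X ≤ 𝒩 := by
    intro X hX
    rw [h𝒩]
    apply le_sInf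
    rintro Y ⟨E, hE, rfl⟩
    exact hX E hE
  -- `S ∩ R*` lies in `𝒩`
  have hSR𝒩 : (S : Subgroup H) ⊓ Rs ≤ 𝒩 := by
    apply hle𝒩
    intro E hE s hs
    have h1 : MulAut.conj s • E ⊔ pCore p H = E ⊔ pCore p H := by
      rw [← conj_smul_sup_pCore]
      exact conj_smul_eq_self_of_mem_normalizer (hnorm E hE (hRs ▸ hs.2))
    apply mem_normalizer_of_conj_smul_eq_self
    rw [hMEconj s hs.1 E, hME]
    show maxOver _ _ = maxOver _ _
    rw [h1]
  -- `S` normalizes `𝒩 ∩ R*`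
  have hS𝒩 : (S : Subgroup H) ≤ Subgroup.normalizer ((𝒩 ⊓ Rs : Subgroup H) : Set H) := by
    have key : ∀ s ∈ (S : Subgroup H), MulAut.conj s • 𝒩 ≤ 𝒩 := by
      intro s hs
      apply hle𝒩
      intro E hE
      have hE' : MulAut.conj s⁻¹ • E ∈ 𝒦 := hinv s⁻¹ E hE
      have h1 := h𝒩le _ hE'
      have h2 := Subgroup.pointwise_smul_le_pointwise_smul_iff (a := MulAut.conj s) |>.mpr h1
      rw [← normalizer_conj_smul, hMEconj s hs, conj_smul_smul, mul_inv_cancel, map_one,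
        one_smul] at h2
      exact h2
    intro s hs
    apply mem_normalizer_of_conj_smul_eq_self
    rw [Subgroup.smul_inf, Subgroup.Normal.conj_smul_eq_self s Rs]
    congr 1
    apply le_antisymm (key s hs)
    have h3 := Subgroup.pointwise_smul_le_pointwise_smul_iff (a := MulAut.conj s) |>.mpr
      (key s⁻¹ ((S : Subgroup H).inv_mem hs))
    rw [conj_smul_smul, mul_inv_cancel, map_one, one_smul] at h3
    exact h3
  obtain ⟨M₀, hM₀⟩ : ∃ M₀ : Subgroup H, M₀ = (𝒩 ⊓ Rs) ⊔ (S : Subgroup H) := ⟨_, rfl⟩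
  -- every proper overgroup of `S` lies in `M₀`
  have hc1 : ∀ L : Subgroup H, (S : Subgroup H) ≤ L → L ≠ ⊤ → L ≤ M₀ := by
    intro L hSL hLtop
    have hEL : ∀ E ∈ 𝒦, ¬ E ⊔ pCore p H ≤ L := by
      intro E₀ hE₀ hle
      apply hLtop
      rw [eq_top_iff, ← hSR]
      apply sup_le hSL
      apply sSup_le
      intro K hK
      obtain ⟨s, hs, hKs⟩ := exists_conj_sup hinv htr hres hnorm S hE₀ hK
      refine le_sup_left.trans (hKs.le.trans ?_)
      have h1 := Subgroup.pointwise_smul_le_pointwise_smul_iff (a := MulAut.conj s) |>.mpr hle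
      rwa [conj_smul_eq_self_of_mem_normalizer (Subgroup.le_normalizer (hSL hs))] at h1
    have hLR : L ⊓ Rs ≤ 𝒩 := by
      apply hle𝒩
      intro E hE x hx
      obtain ⟨LE, hLE⟩ : ∃ LE : Subgroup H, LE = L ⊓ (E ⊔ pCore p H) := ⟨_, rfl⟩
      have hxE : MulAut.conj x • (E ⊔ pCore p H) = E ⊔ pCore p H :=
        conj_smul_eq_self_of_mem_normalizer (hnorm E hE (hRs ▸ hx.2))
      have hxL : MulAut.conj x • L = L :=
        conj_smul_eq_self_of_mem_normalizer (Subgroup.le_normalizer hx.1)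
      have hxLE : MulAut.conj x • LE = LE := by
        rw [hLE, Subgroup.smul_inf, hxE, hxL]
      have hLEne : LE ≠ E ⊔ pCore p H := by
        intro h
        apply hEL E hE
        rw [← h, hLE]
        exact inf_le_left
      have hTLE : (S : Subgroup H) ⊓ (E ⊔ pCore p H) ≤ LE := by
        rw [hLE]
        exact inf_le_inf_right _ hSL
      have hLEM : LE ≤ ME E := by
        rw [hME]
        exact le_maxOver hTLE (hLE ▸ inf_le_right) hLEne
      have hs1 : IsSylowIn p ((S : Subgroup H) ⊓ (E ⊔ pCore p H)) LE :=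
        (hsyl E hE).mono hTLE (hLE ▸ inf_le_right)
      have hs2 : IsSylowIn p (MulAut.conj x • ((S : Subgroup H) ⊓ (E ⊔ pCore p H))) LE := by
        have := hs1.conj_smul x
        rwa [hxLE] at this
      obtain ⟨l, hl, hlx⟩ := hs2.exists_conj hs1
      rw [conj_smul_smul] at hlx
      have hlE : MulAut.conj (l * x) • (E ⊔ pCore p H) = E ⊔ pCore p H := by
        rw [← conj_smul_smul, hxE]
        exact conj_smul_eq_self_of_mem_normalizer
          (Subgroup.le_normalizer ((hLE ▸ inf_le_right : LE ≤ E ⊔ pCore p H) hl))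
      have h1 : l * x ∈ Subgroup.normalizer ((ME E : Subgroup H) : Set H) := by
        rw [hME]
        exact mem_normalizer_maxOver hlx hlE
      have h2 : l ∈ Subgroup.normalizer ((ME E : Subgroup H) : Set H) :=
        Subgroup.le_normalizer (hLEM hl)
      have := Subgroup.mul_mem _ (Subgroup.inv_mem _ h2) h1
      simpa using this
    intro l hl
    have hl' : l ∈ (S : Subgroup H) ⊔ Rs := by
      rw [hSRs]
      exact Subgroup.mem_top l
    obtain ⟨s, hs, r, hr, rfl⟩ := Subgroup.mem_sup_of_normal_right.mp hl'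
    have hrL : r ∈ L := by
      have := L.mul_mem (L.inv_mem (hSL hs)) hl
      simpa using this
    rw [hM₀]
    have h1 : s * r = (s * r * s⁻¹) * s := by group
    rw [h1]
    apply Subgroup.mul_mem _ (Subgroup.mem_sup_left ?_) (Subgroup.mem_sup_right hs)
    have h2 : r ∈ 𝒩 ⊓ Rs := ⟨hLR ⟨hrL, hr⟩, hr⟩
    exact (Subgroup.mem_normalizer_iff.mp (hS𝒩 hs) r).mp h2
  -- `M₀` is proper
  have hc2 : M₀ ≠ ⊤ := by
    intro htop
    obtain ⟨E, hE⟩ := hne
    have hE𝒩 : E ⊔ pCore p H ≤ 𝒩 := by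
      intro e he
      have heR : e ∈ Rs := by
        rw [hRs]
        exact sup_le_sup_right (le_sSup hE) _ he
      have he' : e ∈ (𝒩 ⊓ Rs) ⊔ (S : Subgroup H) := by
        rw [← hM₀, htop]
        exact Subgroup.mem_top e
      rw [← SetLike.mem_coe, Subgroup.coe_mul_of_right_le_normalizer_left _ _ hS𝒩] at he'
      obtain ⟨n, hn, s, hs, rfl⟩ := he'
      have hsR : s ∈ Rs := by
        have := Rs.mul_mem (Rs.inv_mem hn.2) heR
        simpa using this
      exact 𝒩.mul_mem hn.1 (hSR𝒩 ⟨hs, hsR⟩)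
    have h1 := (hrel E hE).2.2 (ME E) (by rw [hME]; exact (hrel E hE).2.1) (hMEle E)
      (hE𝒩.trans (h𝒩le E hE))
    exact hMEne E hE h1
  have hS1 : (S : Subgroup H) ≠ ⊤ := by
    intro h
    apply hc2
    rw [eq_top_iff, ← h, hM₀]
    exact le_sup_right
  refine ⟨?_, ?_⟩
  · rw [eq_top_iff, ← hSR]
    apply sup_le Subgroup.le_normalClosure
    apply sSup_le
    intro E hE
    obtain ⟨NC, hNC⟩ : ∃ NC, NC = Subgroup.normalClosure ((S : Subgroup H) : Set H) := ⟨_, rfl⟩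
    rw [← hNC]
    haveI hNCn : NC.Normal := hNC ▸ Subgroup.normalClosure_normal
    obtain ⟨T⟩ : Nonempty (Sylow p ↥E) := inferInstance
    have hT := (hmin E hE T).1
    have hTNC : (T : Subgroup ↥E) ≤ NC.subgroupOf E := by
      intro x hx
      rw [Subgroup.mem_subgroupOf]
      have hP : IsPGroup p ((T : Subgroup ↥E).map E.subtype) := T.isPGroup'.map _
      obtain ⟨P, hP'⟩ := hP.exists_le_sylow
      obtain ⟨g, rfl⟩ := MulAction.exists_smul_eq H S P
      have hx' : (x : H) ∈ ((g • S : Sylow p H) : Subgroup H) := hP' ⟨x, hx, rfl⟩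
      rw [Sylow.coe_subgroup_smul, mem_conj_smul_iff] at hx'
      have h1 : g⁻¹ * x * g ∈ NC := hNC ▸ Subgroup.le_normalClosure hx'
      have h2 := hNCn.conj_mem _ h1 g
      have e : g * (g⁻¹ * x * g) * g⁻¹ = x := by group
      rwa [e] at h2
    have h3 : Subgroup.normalClosure ((T : Subgroup ↥E) : Set ↥E) ≤ NC.subgroupOf E :=
      Subgroup.normalClosure_le_normal hTNC
    rw [hT, top_le_iff, Subgroup.subgroupOf_eq_top] at h3
    exact h3
  · obtain ⟨M, hM, hSM⟩ := (eq_top_or_exists_le_coatom (S : Subgroup H)).resolve_left hS1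
    have huniq : ∀ M' : Subgroup H, IsCoatom M' ∧ (S : Subgroup H) ≤ M' → M' = M₀ := by
      rintro M' ⟨hM', hSM'⟩
      have h1 := hc1 M' hSM' hM'.1
      by_contra hne'
      exact hc2 (hM'.2 M₀ (lt_of_le_of_ne h1 hne'))
    refine ⟨M, ⟨hM, hSM⟩, ?_⟩
    intro M' hM'
    rw [huniq M' hM', huniq M ⟨hM, hSM⟩]

end Family

end Cfsg.Agent.Lib.Helper48_Trans
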