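/-
Helper48_TwoGen: finite groups with a 2-generated nonabelian Sylow p-subgroup P,
O_{p'}(G) = 1 and core_G(Φ(P)) = 1.  Tools: Tate's theorem (S0081), transfer, averaging.
-/
import Mathlib
import Cfsg.Agent.S0081
import Cfsg.Agent.Lib.Helper1_Cores
import Cfsg.Agent.Lib.Helper1_Frattini
import Cfsg.Agent.Lib.Helper2_PResidual
import Cfsg.Agent.Lib.Helper21_Components
import Cfsg.Agent.Lib.Helper21_FStar
import Cfsg.Agent.Lib.Helper22_Layer
import Cfsg.Agent.Lib.Helper22_Cores
import Cfsg.Agent.Lib.Helper29_Local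
import Cfsg.Agent.Lib.Helper32_Sylow
import Cfsg.Agent.Lib.Helper48_PMinimal2
import Cfsg.Agent.Lib.Helper66_StemTools

set_option autoImplicit false

namespace Cfsg.Agent.Lib.Helper48_TwoGen

open Cfsg
open scoped commutatorElement

/-! ### Part 1: a normal subgroup of a 2-generated p-group not inside the Frattini subgroup -/

section PGroup

variable {P0 : Type*} [Group P0] [Finite P0]

/-- a subgroup of prime index is maximal -/
theorem eq_top_of_lt_of_index_prime {p : ℕ} (hp : p.Prime) {D L : Subgroup P0} (hidx : D.index = p)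
    (hlt : D < L) : L = ⊤ := by
  have h1 := Subgroup.relIndex_mul_index (le_of_lt hlt)
  rw [hidx] at h1
  have h2 : L.index ∣ p := Dvd.intro_left _ h1
  rcases (Nat.dvd_prime hp).mp h2 with h | h
  · exact Subgroup.index_eq_one.mp h
  · exfalso
    rw [h] at h1
    have h3 : D.relIndex L = 1 := by
      have hp0 : 0 < p := hp.pos
      have : D.relIndex L * p = 1 * p := by rw [h1, one_mul]
      exact Nat.eq_of_mul_eq_mul_right hp0 this
    have h4 : L ≤ D := Subgroup.relIndex_eq_one.mp h3
    exact absurd (le_antisymm h4 (le_of_lt hlt)) (ne_of_gt hlt)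

/-- If `Φ(P0)` has index `p²` and the normal subgroup `D` is not inside `Φ(P0)`, then `P0 = ⟨x⟩ D`
for some `x`; in particular `P0/D` is cyclic and `P0' ≤ D`. -/
theorem exists_zpowers_sup_eq_top {p : ℕ} [hp : Fact p.Prime]
    (hgen : (frattini P0).index = p ^ 2) (D : Subgroup P0) (hD : ¬ D ≤ frattini P0) :
    ∃ x : P0, Subgroup.zpowers x ⊔ D = ⊤ := by
  have hF_le : frattini P0 ≤ D ⊔ frattini P0 := le_sup_right
  have hne : frattini P0 ≠ D ⊔ frattini P0 := by
    intro h
    apply hD
    rw [h]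
    exact le_sup_left
  have hdvd : (D ⊔ frattini P0).index ∣ p ^ 2 := by
    rw [← hgen]
    exact Subgroup.index_dvd_of_le hF_le
  obtain ⟨k, hk2, hk⟩ := (Nat.dvd_prime_pow hp.out).mp hdvd
  have hkne : k ≠ 2 := by
    intro hk'
    rw [hk'] at hk
    have h1 := Subgroup.relIndex_mul_index hF_le
    rw [hk, hgen] at h1
    have h3 : (frattini P0).relIndex (D ⊔ frattini P0) = 1 := by
      have hp0 : 0 < p ^ 2 := pow_pos hp.out.pos 2
      have : (frattini P0).relIndex (D ⊔ frattini P0) * p ^ 2 = 1 * p ^ 2 := by rw [h1, one_mul]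
      exact Nat.eq_of_mul_eq_mul_right hp0 this
    have h4 : D ⊔ frattini P0 ≤ frattini P0 := Subgroup.relIndex_eq_one.mp h3
    exact hne (le_antisymm hF_le h4)
  have hk01 : k = 0 ∨ k = 1 := by omega
  rcases hk01 with h0 | h1
  · -- D ⊔ Φ = ⊤
    refine ⟨1, ?_⟩
    rw [h0, pow_zero] at hk
    have htop : D ⊔ frattini P0 = ⊤ := Subgroup.index_eq_one.mp hk
    have hDtop : D = ⊤ := frattini_nongenerating htop
    rw [hDtop]
    exact sup_top_eq _
  · rw [h1, pow_one] at hk
    have hnetop : D ⊔ frattini P0 ≠ ⊤ := by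
      intro h
      rw [h, Subgroup.index_top] at hk
      exact hp.out.one_lt.ne hk
    obtain ⟨x, -, hx⟩ := SetLike.exists_of_lt (lt_top_iff_ne_top.mpr hnetop)
    refine ⟨x, ?_⟩
    have hlt : D ⊔ frattini P0 < Subgroup.zpowers x ⊔ (D ⊔ frattini P0) := by
      refine lt_of_le_of_ne le_sup_right ?_
      intro h
      apply hx
      rw [h]
      exact le_sup_left (a := Subgroup.zpowers x) (Subgroup.mem_zpowers x)
    have htop := eq_top_of_lt_of_index_prime hp.out hk hlt
    rw [← sup_assoc] at htop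
    exact frattini_nongenerating htop

theorem commutator_le_of_zpowers_sup_eq_top (D : Subgroup P0) [D.Normal] {x : P0}
    (hx : Subgroup.zpowers x ⊔ D = ⊤) : commutator P0 ≤ D := by
  have hcyc : IsCyclic (P0 ⧸ D) := by
    refine ⟨⟨QuotientGroup.mk x, ?_⟩⟩
    intro y
    obtain ⟨g, rfl⟩ := QuotientGroup.mk_surjective y
    have hg : g ∈ Subgroup.zpowers x ⊔ D := by rw [hx]; exact Subgroup.mem_top g
    obtain ⟨a, ha, d, hd, rfl⟩ := Subgroup.mem_sup_of_normal_right.mp hg
    obtain ⟨k, rfl⟩ := Subgroup.mem_zpowers_iff.mp ha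
    refine ⟨k, ?_⟩
    show (QuotientGroup.mk x : P0 ⧸ D) ^ k = QuotientGroup.mk (x ^ k * d)
    rw [QuotientGroup.mk_mul, (QuotientGroup.eq_one_iff d).mpr hd, mul_one, QuotientGroup.mk_zpow]
  letI : CommGroup (P0 ⧸ D) := IsCyclic.commGroup
  have h := Abelianization.commutator_subset_ker (QuotientGroup.mk' D)
  rwa [QuotientGroup.ker_mk'] at h

end PGroup

/-! ### Part 2: averaging over the cosets of a subgroup -/

section Average

/-- If `y` is fixed by the subgroup `Pl` of `L`, the product of the distinct `L`-translates of `y`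
is `L`-fixed, and congruent to `y ^ [L : Pl]` modulo any subgroup containing all `g y / y`. -/
theorem exists_average {L : Type*} [Group L] [Finite L] (Pl : Subgroup L) {A : Type*} [CommGroup A]
    (ρ : L →* MulAut A) (y : A) (hy : ∀ h ∈ Pl, ρ h y = y) :
    ∃ y' : A, (∀ g, ρ g y' = y') ∧
      ∀ B : Subgroup A, (∀ g, ρ g y / y ∈ B) → y' / y ^ Pl.index ∈ B := by
  classical
  haveI : Fintype (L ⧸ Pl) := Fintype.ofFinite _
  let f : L ⧸ Pl → A := fun q => Quotient.liftOn' q (fun g => ρ g y) (by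
    intro a b hab
    have h1 : a⁻¹ * b ∈ Pl := QuotientGroup.leftRel_apply.mp hab
    have h2 := hy _ h1
    rw [map_mul, MulAut.mul_apply, map_inv] at h2
    show ρ a y = ρ b y
    have h3 : ρ a ((ρ a)⁻¹ (ρ b y)) = ρ a y := by rw [h2]
    rw [MulAut.apply_inv_self] at h3
    exact h3.symm)
  have hf : ∀ g : L, f (QuotientGroup.mk g) = ρ g y := fun g => rfl
  have hfsmul : ∀ (g : L) (q : L ⧸ Pl), f (g • q) = ρ g (f q) := by
    intro g q
    obtain ⟨a, rfl⟩ := QuotientGroup.mk_surjective q
    show f (QuotientGroup.mk (g * a)) = ρ g (f (QuotientGroup.mk a))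
    rw [hf, hf, map_mul, MulAut.mul_apply]
  refine ⟨∏ q : L ⧸ Pl, f q, ?_, ?_⟩
  · intro g
    rw [map_prod]
    have h1 : ∀ q : L ⧸ Pl, ρ g (f q) = f (g • q) := fun q => (hfsmul g q).symm
    simp only [h1]
    exact Fintype.prod_equiv (MulAction.toPerm g) _ _ (fun q => rfl)
  · intro B hB
    have h1 : (∏ q : L ⧸ Pl, f q) / y ^ Pl.index = ∏ q : L ⧸ Pl, (f q / y) := by
      rw [Finset.prod_div_distrib, Finset.prod_const, Finset.card_univ, Subgroup.index,
        Nat.card_eq_fintype_card]
    rw [h1]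
    apply Subgroup.prod_mem
    intro q _
    obtain ⟨a, rfl⟩ := QuotientGroup.mk_surjective q
    rw [hf]
    exact hB a

/-- instance-free version -/
theorem exists_average' {L : Type*} [Group L] [Finite L] (Pl : Subgroup L) {A : Type*} [Group A]
    (hcomm : ∀ a b : A, a * b = b * a)
    (ρ : L →* MulAut A) (y : A) (hy : ∀ h ∈ Pl, ρ h y = y) :
    ∃ y' : A, (∀ g, ρ g y' = y') ∧
      ∀ B : Subgroup A, (∀ g, ρ g y * y⁻¹ ∈ B) → y' * (y ^ Pl.index)⁻¹ ∈ B := by
  letI : CommGroup A := { (inferInstance : Group A) with mul_comm := hcomm }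
  obtain ⟨y', h1, h2⟩ := exists_average Pl ρ y hy
  refine ⟨y', h1, ?_⟩
  intro B hB
  have := h2 B (fun g => by rw [div_eq_mul_inv]; exact hB g)
  rwa [div_eq_mul_inv] at this

end Average

/-! ### Part 3: consequences of Tate's theorem -/

section Tate

variable {G : Type*} [Group G] [Finite G] {p : ℕ} [Fact p.Prime]

/-- T1: a normal subgroup meeting `P` inside `Φ(P)` is a `p`-group when `O_{p'}(G) = 1`. -/
theorem isPGroup_of_inf_le_frattini (P : Sylow p G) (hcore : Cfsg.pPrimeCore p G = ⊥)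
    (K : Subgroup G) [K.Normal]
    (h : K ⊓ (P : Subgroup G) ≤ (frattini ↥(P : Subgroup G)).map (P : Subgroup G).subtype) :
    IsPGroup p ↥K := by
  have h1 := Cfsg.Agent.S0081.result P K h
  rw [Cfsg.Agent.S0072.hasNPC_iff] at h1
  obtain ⟨K0, hK0n, hK0c, n, hK0i⟩ := h1
  have hKsub : K.IsSubnormal := Subgroup.Normal.isSubnormal inferInstance
  have hsub : (K0.map K.subtype).IsSubnormal := Subgroup.IsSubnormal.trans' hK0n.isSubnormal hKsub
  have hle : K0.map K.subtype ≤ pPrimeCore p G := by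
    apply Cfsg.Agent.Lib.Helper22_Cores.le_pPrimeCore_of_isSubnormal p hsub
    rw [Subgroup.card_map_of_injective K.subtype_injective]
    exact hK0c
  rw [hcore] at hle
  have hK0 : K0 = ⊥ := by
    rw [eq_bot_iff]
    intro x hx
    have h2 : K.subtype x ∈ K0.map K.subtype := Subgroup.mem_map_of_mem _ hx
    have h3 := hle h2
    rw [Subgroup.mem_bot] at h3 ⊢
    exact Subtype.ext h3
  apply IsPGroup.of_card (n := n)
  rw [← hK0i, hK0, Subgroup.index_bot]

/-- Lemma A: no nontrivial normal subgroup meets `P` inside `Φ(P)`. -/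
theorem not_inf_le_frattini (P : Sylow p G) (hcore : Cfsg.pPrimeCore p G = ⊥)
    (hfrat : ((frattini ↥(P : Subgroup G)).map (P : Subgroup G).subtype).normalCore = ⊥)
    (K : Subgroup G) [hK : K.Normal] (hne : K ≠ ⊥) :
    ¬ K ⊓ (P : Subgroup G) ≤ (frattini ↥(P : Subgroup G)).map (P : Subgroup G).subtype := by
  intro h
  have h1 : IsPGroup p ↥K := isPGroup_of_inf_le_frattini P hcore K h
  have h2 : K ≤ (P : Subgroup G) :=
    le_trans (Cfsg.Agent.Lib.Helper1_Cores.le_pCore hK h1)
      (Cfsg.Agent.Lib.Helper1_Cores.pCore_le_sylow p P)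
  have h3 : K ≤ (frattini ↥(P : Subgroup G)).map (P : Subgroup G).subtype :=
    le_trans (le_inf le_rfl h2) h
  have h4 : K ≤ ((frattini ↥(P : Subgroup G)).map (P : Subgroup G).subtype).normalCore :=
    Subgroup.normal_le_normalCore.mpr h3
  rw [hfrat] at h4
  exact hne (le_bot_iff.mp h4)

/-- Tate's theorem inside a subgroup `X ≥ P`. -/
theorem hasNPC_of_inf_le_frattini_of_le (P : Sylow p G) {X M : Subgroup G}
    (hPX : (P : Subgroup G) ≤ X) (hMX : M ≤ X) (hnorm : X ≤ Subgroup.normalizer (M : Set G))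
    (h : M ⊓ (P : Subgroup G) ≤ (frattini ↥(P : Subgroup G)).map (P : Subgroup G).subtype) :
    Cfsg.Agent.Lib.Helper35_FrobeniusNPC.HasNPC p ↥M := by
  haveI hMXn : (M.subgroupOf X).Normal :=
    (Subgroup.normal_subgroupOf_iff_le_normalizer hMX).mpr hnorm
  have hmem : ∀ y : ↥X, y ∈ (P.subtype hPX : Subgroup ↥X) ↔ (y : G) ∈ (P : Subgroup G) := by
    intro y
    rw [Sylow.coe_subtype, Subgroup.mem_subgroupOf]
  let e : ↥(P : Subgroup G) →* ↥(P.subtype hPX : Subgroup ↥X) :=
    { toFun := fun x => ⟨⟨(x : G), hPX x.2⟩, (hmem _).2 x.2⟩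
      map_one' := rfl
      map_mul' := fun _ _ => rfl }
  have he : Function.Surjective e := by
    intro y
    exact ⟨⟨((y : ↥X) : G), (hmem _).1 y.2⟩, rfl⟩
  have h' : M.subgroupOf X ⊓ (P.subtype hPX : Subgroup ↥X) ≤
      (frattini ↥(P.subtype hPX : Subgroup ↥X)).map (P.subtype hPX : Subgroup ↥X).subtype := by
    intro z hz
    have hz1 : (z : G) ∈ M := Subgroup.mem_subgroupOf.mp hz.1
    have hz2 : (z : G) ∈ (P : Subgroup G) := (hmem z).1 hz.2
    obtain ⟨y, hy, hyz⟩ := h ⟨hz1, hz2⟩
    have hy' := frattini_le_comap_frattini_of_surjective he hy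
    refine ⟨e y, hy', ?_⟩
    exact Subtype.ext hyz
  have h1 := Cfsg.Agent.S0081.result (P.subtype hPX) (M.subgroupOf X) h'
  rw [Cfsg.Agent.S0072.hasNPC_iff] at h1
  obtain ⟨K, hKn, hKc, n, hKi⟩ := h1
  let e2 : ↥(M.subgroupOf X) ≃* ↥M := Subgroup.subgroupOfEquivOfLe hMX
  refine ⟨K.map e2.toMonoidHom, hKn.map _ e2.surjective, ?_, n, ?_⟩
  · rw [Subgroup.card_map_of_injective e2.injective]
    exact hKc
  · rw [Subgroup.index_map_of_bijective e2.bijective]
    exact hKi

/-- T2: a perfect `P`-invariant subgroup meeting `P` inside `Φ(P)` is a `p'`-group. -/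
theorem card_coprime_of_isPerfect_of_inf_le_frattini (P : Sylow p G) {M : Subgroup G}
    (hnorm : (P : Subgroup G) ≤ Subgroup.normalizer (M : Set G)) [hperf : Group.IsPerfect ↥M]
    (h : M ⊓ (P : Subgroup G) ≤ (frattini ↥(P : Subgroup G)).map (P : Subgroup G).subtype) :
    (Nat.card ↥M).Coprime p := by
  have hX : (P : Subgroup G) ⊔ M ≤ Subgroup.normalizer (M : Set G) :=
    sup_le hnorm Subgroup.le_normalizer
  obtain ⟨K, hKn, hKc, n, hKi⟩ := hasNPC_of_inf_le_frattini_of_le P le_sup_left le_sup_right hX h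
  have hK : K = ⊤ := by
    by_contra hne
    haveI := hKn
    haveI : Nontrivial (↥M ⧸ K) := QuotientGroup.nontrivial_iff.mpr hne
    have hpg : IsPGroup p (↥M ⧸ K) := by
      apply IsPGroup.of_card (n := n)
      rw [← hKi, Subgroup.index_eq_card]
    exact Group.IsPerfect.not_isNilpotent (↥M ⧸ K) hpg.isNilpotent
  rw [hK, Subgroup.card_top] at hKc
  exact hKc

/-- Lemma B: a `P`-invariant subgroup of `P` not inside `Φ(P)` contains `P'`, with cyclic
quotient. -/
theorem commutator_le_of_not_le_frattini (P : Sylow p G)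
    (hgen : (frattini ↥(P : Subgroup G)).index = p ^ 2) {D : Subgroup G}
    (hDP : D ≤ (P : Subgroup G)) (hnorm : (P : Subgroup G) ≤ Subgroup.normalizer (D : Set G))
    (hD : ¬ D ≤ (frattini ↥(P : Subgroup G)).map (P : Subgroup G).subtype) :
    ⁅(P : Subgroup G), (P : Subgroup G)⁆ ≤ D ∧
      ∃ x ∈ (P : Subgroup G), Subgroup.zpowers x ⊔ D = (P : Subgroup G) := by
  haveI hDn : (D.subgroupOf (P : Subgroup G)).Normal :=
    (Subgroup.normal_subgroupOf_iff_le_normalizer hDP).mpr hnorm
  have hD' : ¬ D.subgroupOf (P : Subgroup G) ≤ frattini ↥(P : Subgroup G) := by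
    intro hle
    apply hD
    rw [← Subgroup.map_subgroupOf_eq_of_le hDP]
    exact Subgroup.map_mono hle
  obtain ⟨x, hx⟩ := exists_zpowers_sup_eq_top (p := p) hgen _ hD'
  have hcomm := commutator_le_of_zpowers_sup_eq_top _ hx
  constructor
  · rw [← Subgroup.map_subtype_commutator, ← Subgroup.map_subgroupOf_eq_of_le hDP]
    exact Subgroup.map_mono hcomm
  · refine ⟨(x : G), x.2, ?_⟩
    have h1 : (Subgroup.zpowers x ⊔ D.subgroupOf (P : Subgroup G)).map (P : Subgroup G).subtype =
        (P : Subgroup G) := by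
      rw [hx, ← MonoidHom.range_eq_map, Subgroup.range_subtype]
    rw [Subgroup.map_sup, MonoidHom.map_zpowers, Subgroup.map_subgroupOf_eq_of_le hDP] at h1
    exact h1

end Tate

/-! ### Part 4: structure of `G` -/

section Structure

variable {G : Type*} [Group G] [Finite G] {p : ℕ} [Fact p.Prime]

theorem le_normalizer_inf_self {H K : Subgroup G} (hK : H ≤ Subgroup.normalizer (K : Set G)) :
    H ≤ Subgroup.normalizer ((K ⊓ H : Subgroup G) : Set G) := by
  intro x hx
  rw [Subgroup.mem_normalizer_iff]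
  intro h
  have h1 := Subgroup.mem_normalizer_iff.mp (hK hx) h
  rw [Subgroup.mem_inf, Subgroup.mem_inf, h1]
  have h2 : h ∈ H ↔ x * h * x⁻¹ ∈ H := by
    constructor
    · intro hh
      exact H.mul_mem (H.mul_mem hx hh) (H.inv_mem hx)
    · intro hh
      have := H.mul_mem (H.mul_mem (H.inv_mem hx) hh) hx
      simpa [mul_assoc] using this
  rw [h2]

theorem le_normalizer_of_normal (H K : Subgroup G) [hK : K.Normal] :
    H ≤ Subgroup.normalizer (K : Set G) := by
  rw [Subgroup.normalizer_eq_top]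
  exact le_top

/-- C1: every nontrivial normal subgroup contains `P'`, and `P` is cyclic modulo it. -/
theorem commutator_le_inf_of_normal (P : Sylow p G)
    (hgen : (frattini ↥(P : Subgroup G)).index = p ^ 2) (hcore : Cfsg.pPrimeCore p G = ⊥)
    (hfrat : ((frattini ↥(P : Subgroup G)).map (P : Subgroup G).subtype).normalCore = ⊥)
    (K : Subgroup G) [hK : K.Normal] (hne : K ≠ ⊥) :
    ⁅(P : Subgroup G), (P : Subgroup G)⁆ ≤ K ⊓ (P : Subgroup G) ∧
      ∃ x ∈ (P : Subgroup G), Subgroup.zpowers x ⊔ (K ⊓ (P : Subgroup G)) = (P : Subgroup G) :=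
  commutator_le_of_not_le_frattini P hgen inf_le_right
    (le_normalizer_inf_self (le_normalizer_of_normal _ K)) (not_inf_le_frattini P hcore hfrat K hne)

/-- C2: `P' ≠ 1`. -/
theorem commutator_ne_bot_of_not_comm {H : Subgroup G} (hna : ¬ IsMulCommutative ↥H) :
    ⁅H, H⁆ ≠ ⊥ := by
  intro h
  apply hna
  rw [Subgroup.commutator_eq_bot_iff_le_centralizer] at h
  exact Subgroup.le_centralizer_iff_isMulCommutative.mp h

/-- `F(G) = O_p(G)` when `O_{p'}(G) = 1`. -/
theorem fittingSubgroup_eq_pCore (hcore : Cfsg.pPrimeCore p G = ⊥) :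
    fittingSubgroup G = pCore p G := by
  rw [Cfsg.Agent.Lib.Helper1_Cores.fittingSubgroup_eq_iSup_pCore]
  apply le_antisymm
  · apply iSup_le
    intro q
    haveI : Fact (q : ℕ).Prime := ⟨q.2⟩
    by_cases hq : (q : ℕ) = p
    · rw [hq]
    · have h1 : pCore (q : ℕ) G ≤ pPrimeCore p G :=
        Cfsg.Agent.Lib.Helper1_Cores.le_pPrimeCore (Cfsg.Agent.Lib.Helper1_Cores.pCore_normal _)
          (Cfsg.Agent.Lib.Helper1_Cores.pCore_card_coprime hq)
      rw [hcore] at h1
      exact le_trans h1 bot_le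
  · exact le_iSup (fun q : Nat.Primes => pCore (q : ℕ) G) ⟨p, Fact.out⟩

theorem commutator_sylow_le_frattini (P : Sylow p G) :
    ⁅(P : Subgroup G), (P : Subgroup G)⁆ ≤
      (frattini ↥(P : Subgroup G)).map (P : Subgroup G).subtype := by
  rw [← Subgroup.map_subtype_commutator]
  exact Subgroup.map_mono
    (Cfsg.Agent.Lib.Helper1_Frattini.commutator_le_frattini_of_isPGroup P.isPGroup')

/-- `O_p(G)` is abelian when `Φ(P)` is core-free. -/
theorem pCore_commutator_eq_bot (P : Sylow p G)
    (hfrat : ((frattini ↥(P : Subgroup G)).map (P : Subgroup G).subtype).normalCore = ⊥) :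
    ⁅pCore p G, pCore p G⁆ = ⊥ := by
  have hRP : pCore p G ≤ (P : Subgroup G) := Cfsg.Agent.Lib.Helper1_Cores.pCore_le_sylow p P
  have h1 : ⁅pCore p G, pCore p G⁆ ≤ (frattini ↥(P : Subgroup G)).map (P : Subgroup G).subtype :=
    le_trans (Subgroup.commutator_mono hRP hRP) (commutator_sylow_le_frattini P)
  have h2 := Subgroup.normal_le_normalCore.mpr h1
  rw [hfrat] at h2
  exact le_bot_iff.mp h2

/-- Transfer: a `p`-element of `P` that is central in a perfect normal subgroup `E ∋ z`
lies in `P'`. -/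
theorem mem_commutator_of_central_of_perfect (P : Sylow p G) (E : Subgroup G) [hE : E.Normal]
    (hperf : ⁅E, E⁆ = E) {z : G} (hzE : z ∈ E) (hzc : z ∈ Subgroup.centralizer (E : Set G))
    (hzP : z ∈ (P : Subgroup G)) : z ∈ ⁅(P : Subgroup G), (P : Subgroup G)⁆ := by
  have hzc' : (⟨z, hzE⟩ : ↥E) ∈ Subgroup.center ↥E := by
    rw [Subgroup.mem_center_iff]
    intro g
    apply Subtype.ext
    exact Subgroup.mem_centralizer_iff.mp hzc g g.2
  haveI : Group.IsPerfect ↥E := Subgroup.isPerfect_iff.mpr hperf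
  have hz' : (⟨z, hzE⟩ : ↥E) ∈ commutator ↥E := by
    rw [Group.isPerfect_def.mp inferInstance]
    exact Subgroup.mem_top _
  obtain ⟨h, hmem⟩ := Cfsg.Agent.Lib.Helper66_StemTools.pow_index_mem_commutator
    ((P : Subgroup G).subgroupOf E) (⟨z, hzE⟩ : ↥E) hzc' hz'
  set idx := ((P : Subgroup G).subgroupOf E).index with hidx
  -- map down to `G`
  have hpow : z ^ idx ∈ ⁅(P : Subgroup G), (P : Subgroup G)⁆ := by
    let f : ↥((P : Subgroup G).subgroupOf E) →* G :=
      E.subtype.comp ((P : Subgroup G).subgroupOf E).subtype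
    have h1 : (commutator ↥((P : Subgroup G).subgroupOf E)).map f ≤
        ⁅(P : Subgroup G), (P : Subgroup G)⁆ := by
      rw [commutator_def, Subgroup.map_commutator]
      have h2 : (⊤ : Subgroup ↥((P : Subgroup G).subgroupOf E)).map f ≤ (P : Subgroup G) := by
        rintro _ ⟨y, -, rfl⟩
        exact Subgroup.mem_subgroupOf.mp y.2
      exact Subgroup.commutator_mono h2 h2
    have h3 := h1 (Subgroup.mem_map_of_mem f hmem)
    exact h3
  -- `idx` is prime to `p`
  have hndvd : ¬ p ∣ idx := by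
    have := Cfsg.Agent.Lib.Helper32_Sylow.not_dvd_relIndex_inf_normal P E
    rwa [Subgroup.inf_relIndex_right] at this
  have hcop : idx.Coprime (orderOf z) := by
    have h1 : p.Coprime idx := (Nat.Prime.coprime_iff_not_dvd Fact.out).mpr hndvd
    have h2 := P.isPGroup'.orderOf_coprime h1 (⟨z, hzP⟩ : ↥(P : Subgroup G))
    rw [Subgroup.orderOf_mk] at h2
    exact h2.symm
  obtain ⟨m, hm⟩ := exists_pow_eq_self_of_coprime hcop
  rw [← hm]
  exact Subgroup.pow_mem _ hpow m

/-- `Z(E(G)) = 1`. -/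
theorem layer_inf_centralizer_eq_bot (P : Sylow p G) (hcore : Cfsg.pPrimeCore p G = ⊥)
    (hfrat : ((frattini ↥(P : Subgroup G)).map (P : Subgroup G).subtype).normalCore = ⊥) :
    layer G ⊓ Subgroup.centralizer (layer G : Set G) = ⊥ := by
  haveI hEn : (layer G).Normal := Cfsg.Agent.Lib.Helper29_Local.layer_normal G
  haveI hCn : (Subgroup.centralizer (layer G : Set G)).Normal := Subgroup.normal_centralizer
  haveI hZn : (layer G ⊓ Subgroup.centralizer (layer G : Set G)).Normal := inferInstance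
  -- `Z(E)` is abelian hence in `F(G) = O_p(G) ≤ P`
  have hZcomm : IsMulCommutative ↥(layer G ⊓ Subgroup.centralizer (layer G : Set G)) := by
    rw [← Subgroup.le_centralizer_iff_isMulCommutative]
    exact le_trans inf_le_right (Subgroup.centralizer_le (fun x hx => (inf_le_left : _ ≤ layer G) hx))
  have hZP : layer G ⊓ Subgroup.centralizer (layer G : Set G) ≤ (P : Subgroup G) := by
    have h1 : layer G ⊓ Subgroup.centralizer (layer G : Set G) ≤ fittingSubgroup G :=
      Cfsg.Agent.Lib.Helper29_Local.le_fittingSubgroup _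
        Cfsg.Agent.Lib.Helper29_Local.isNilpotent_of_isMulCommutative
    rw [fittingSubgroup_eq_pCore hcore] at h1
    exact le_trans h1 (Cfsg.Agent.Lib.Helper1_Cores.pCore_le_sylow p P)
  have h2 : layer G ⊓ Subgroup.centralizer (layer G : Set G) ≤
      (frattini ↥(P : Subgroup G)).map (P : Subgroup G).subtype := by
    intro z hz
    apply commutator_sylow_le_frattini P
    exact mem_commutator_of_central_of_perfect P (layer G)
      Cfsg.Agent.Lib.Helper22_Layer.layer_perfect hz.1 hz.2 (hZP hz)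
  have h3 := Subgroup.normal_le_normalCore.mpr h2
  rw [hfrat] at h3
  exact le_bot_iff.mp h3

/-- an abelian subgroup generated by a cyclic group and a central subgroup -/
theorem le_centralizer_of_zpowers_sup {H D : Subgroup G} {x : G}
    (hx : Subgroup.zpowers x ⊔ D = H) (hD : D ≤ Subgroup.centralizer (H : Set G)) :
    H ≤ Subgroup.centralizer (H : Set G) := by
  have hxH : Subgroup.zpowers x ≤ H := by rw [← hx]; exact le_sup_left
  have h1 : H ≤ Subgroup.centralizer (Subgroup.zpowers x : Set G) := by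
    have h2 : Subgroup.zpowers x ⊔ D ≤ Subgroup.centralizer (Subgroup.zpowers x : Set G) := by
      apply sup_le
      · exact Subgroup.le_centralizer_iff_isMulCommutative.mpr inferInstance
      · exact le_trans hD (Subgroup.centralizer_le hxH)
    rwa [hx] at h2
  have h3 : Subgroup.zpowers x ⊔ D ≤ Subgroup.centralizer (H : Set G) :=
    sup_le (Subgroup.le_centralizer_iff.mp h1) hD
  rwa [hx] at h3

/-- Lemma D: `O_p(G)` is contained in every nontrivial normal subgroup that it contains. -/
theorem pCore_le_of_normal_of_le (P : Sylow p G) (hna : ¬ IsMulCommutative ↥(P : Subgroup G))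
    (hgen : (frattini ↥(P : Subgroup G)).index = p ^ 2) (hcore : Cfsg.pPrimeCore p G = ⊥)
    (hfrat : ((frattini ↥(P : Subgroup G)).map (P : Subgroup G).subtype).normalCore = ⊥)
    (K : Subgroup G) [hK : K.Normal] (hne : K ≠ ⊥) (hKR : K ≤ pCore p G) : pCore p G ≤ K := by
  have hRP : pCore p G ≤ (P : Subgroup G) := Cfsg.Agent.Lib.Helper1_Cores.pCore_le_sylow p P
  have hRab : pCore p G ≤ Subgroup.centralizer (pCore p G : Set G) :=
    Subgroup.commutator_eq_bot_iff_le_centralizer.mp (pCore_commutator_eq_bot P hfrat)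
  obtain ⟨hcomm, x, hxP, hx⟩ := commutator_le_inf_of_normal P hgen hcore hfrat K hne
  have hKP : K ⊓ (P : Subgroup G) = K := inf_eq_left.mpr (le_trans hKR hRP)
  rw [hKP] at hx hcomm
  by_contra hnot
  obtain ⟨r, hrR, hrK⟩ := SetLike.not_le_iff_exists.mp hnot
  have hrP : r ∈ Subgroup.zpowers x ⊔ K := by rw [hx]; exact hRP hrR
  obtain ⟨y, hyx, d, hdK, hyd⟩ := Subgroup.mem_sup_of_normal_right.mp hrP
  have hyR : y ∈ pCore p G := by
    have : y = r * d⁻¹ := by rw [← hyd]; group
    rw [this]
    exact Subgroup.mul_mem _ hrR (Subgroup.inv_mem _ (hKR hdK))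
  have hyK : y ∉ K := by
    intro h
    apply hrK
    rw [← hyd]
    exact K.mul_mem h hdK
  have hyP : y ∈ (P : Subgroup G) := hRP hyR
  -- `y` is central in `P`
  have hycent : ∀ h ∈ (P : Subgroup G), h * y = y * h := by
    have h1 : Subgroup.zpowers x ⊔ K ≤ Subgroup.centralizer ({y} : Set G) := by
      apply sup_le
      · rw [Subgroup.zpowers_le, Subgroup.mem_centralizer_iff]
        intro h hh
        rw [Set.mem_singleton_iff] at hh
        rw [hh]
        obtain ⟨k, rfl⟩ := Subgroup.mem_zpowers_iff.mp hyx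
        exact ((Commute.refl x).zpow_left k).eq
      · intro d' hd'
        rw [Subgroup.mem_centralizer_iff]
        intro h hh
        rw [Set.mem_singleton_iff] at hh
        rw [hh]
        exact Subgroup.mem_centralizer_iff.mp (hRab (hKR hd')) y hyR
    rw [hx] at h1
    intro h hh
    exact (Subgroup.mem_centralizer_iff.mp (h1 hh) y (Set.mem_singleton y)).symm
  -- the centralizer `L0` of `R / K`
  haveI hRn : (pCore p G).Normal := Cfsg.Agent.Lib.Helper1_Cores.pCore_normal p
  haveI hRKn : ((pCore p G).map (QuotientGroup.mk' K)).Normal :=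
    Subgroup.Normal.map hRn _ (QuotientGroup.mk'_surjective K)
  haveI hCn : (Subgroup.centralizer (((pCore p G).map (QuotientGroup.mk' K) : Subgroup (G ⧸ K)) :
      Set (G ⧸ K))).Normal := Subgroup.normal_centralizer
  set L0 : Subgroup G := (Subgroup.centralizer (((pCore p G).map (QuotientGroup.mk' K) :
      Subgroup (G ⧸ K)) : Set (G ⧸ K))).comap (QuotientGroup.mk' K) with hL0
  haveI hL0n : L0.Normal := Subgroup.Normal.comap hCn _
  have hL0mem : ∀ g ∈ L0, ∀ r' ∈ pCore p G, g * r' * g⁻¹ * r'⁻¹ ∈ K := by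
    intro g hg r' hr'
    rw [hL0, Subgroup.mem_comap, Subgroup.mem_centralizer_iff] at hg
    have hc := hg _ (Subgroup.mem_map_of_mem (QuotientGroup.mk' K) hr')
    have h1 : (QuotientGroup.mk' K) (g * r' * g⁻¹ * r'⁻¹) = 1 := by
      rw [map_mul, map_mul, map_mul, map_inv, map_inv, ← hc]
      group
    exact (QuotientGroup.eq_one_iff _).mp h1
  have hPL0 : (P : Subgroup G) ≤ L0 := by
    intro g hg
    rw [hL0, Subgroup.mem_comap, Subgroup.mem_centralizer_iff]
    rintro _ ⟨r', hr', rfl⟩
    rw [← map_mul, ← map_mul]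
    apply QuotientGroup.eq.mpr
    have h1 : (r' * g)⁻¹ * (g * r') = ⁅g⁻¹, r'⁻¹⁆ := by
      rw [commutatorElement_def]
      group
    rw [h1]
    apply hcomm
    exact Subgroup.commutator_mem_commutator (Subgroup.inv_mem _ hg)
      (Subgroup.inv_mem _ (hRP hr'))
  -- averaging
  let ρ : ↥L0 →* MulAut ↥(pCore p G) := (MulAut.conjNormal (H := pCore p G)).comp L0.subtype
  have hρ : ∀ (g : ↥L0) (a : ↥(pCore p G)), ((ρ g a : ↥(pCore p G)) : G) = g * a * (g : G)⁻¹ :=
    fun g a => MulAut.conjNormal_apply (g : G) a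
  have hcommR : ∀ a b : ↥(pCore p G), a * b = b * a := by
    intro a b
    apply Subtype.ext
    exact (Subgroup.mem_centralizer_iff.mp (hRab b.2) a a.2)
  have hyfix : ∀ h ∈ (P : Subgroup G).subgroupOf L0, ρ h ⟨y, hyR⟩ = ⟨y, hyR⟩ := by
    intro h hh
    apply Subtype.ext
    rw [hρ]
    show (h : G) * y * (h : G)⁻¹ = y
    rw [hycent _ (Subgroup.mem_subgroupOf.mp hh), mul_inv_cancel_right]
  obtain ⟨y', hy'fix, hy'B⟩ :=
    exists_average' ((P : Subgroup G).subgroupOf L0) hcommR ρ ⟨y, hyR⟩ hyfix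
  have h1 := hy'B (K.subgroupOf (pCore p G)) (by
    intro g
    rw [Subgroup.mem_subgroupOf]
    show ((ρ g ⟨y, hyR⟩ : ↥(pCore p G)) : G) * y⁻¹ ∈ K
    rw [hρ]
    exact hL0mem _ g.2 y hyR)
  rw [Subgroup.mem_subgroupOf] at h1
  set k := ((P : Subgroup G).subgroupOf L0).index with hk
  have h1' : (y' : G) * (y ^ k)⁻¹ ∈ K := h1
  -- `k` is prime to `p`
  have hndvd : ¬ p ∣ k := by
    intro hdvd
    have h2 := Subgroup.relIndex_mul_index hPL0
    apply P.not_dvd_index
    rw [← h2]
    exact Dvd.dvd.mul_right hdvd _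
  have hcop : k.Coprime (orderOf y) := by
    have h2 : p.Coprime k := (Nat.Prime.coprime_iff_not_dvd Fact.out).mpr hndvd
    have h3 := P.isPGroup'.orderOf_coprime h2 (⟨y, hyP⟩ : ↥(P : Subgroup G))
    rw [Subgroup.orderOf_mk] at h3
    exact h3.symm
  have hykK : y ^ k ∉ K := by
    intro h
    obtain ⟨m, hm⟩ := exists_pow_eq_self_of_coprime hcop
    apply hyK
    rw [← hm]
    exact Subgroup.pow_mem _ h m
  have hy'K : (y' : G) ∉ K := by
    intro h
    apply hykK
    have h2 : (y ^ k)⁻¹ ∈ K := by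
      have := K.mul_mem (K.inv_mem h) h1'
      rwa [inv_mul_cancel_left] at this
    exact (Subgroup.inv_mem_iff K).mp h2
  -- the normal subgroup `C_R(L0)`
  haveI hCLn : (Subgroup.centralizer (L0 : Set G)).Normal := Subgroup.normal_centralizer
  have hy'K1 : (y' : G) ∈ pCore p G ⊓ Subgroup.centralizer (L0 : Set G) := by
    refine Subgroup.mem_inf.mpr ⟨y'.2, ?_⟩
    rw [Subgroup.mem_centralizer_iff]
    intro g hg
    have h2 := congrArg (fun a : ↥(pCore p G) => (a : G)) (hy'fix ⟨g, hg⟩)
    simp only [hρ] at h2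
    exact mul_inv_eq_iff_eq_mul.mp h2
  have hK1ne : pCore p G ⊓ Subgroup.centralizer (L0 : Set G) ≠ ⊥ := by
    intro h
    rw [h, Subgroup.mem_bot] at hy'K1
    apply hy'K
    rw [hy'K1]
    exact K.one_mem
  obtain ⟨-, x1, hx1P, hx1⟩ := commutator_le_inf_of_normal P hgen hcore hfrat
    (pCore p G ⊓ Subgroup.centralizer (L0 : Set G)) hK1ne
  apply hna
  rw [← Subgroup.le_centralizer_iff_isMulCommutative]
  apply le_centralizer_of_zpowers_sup hx1
  exact le_trans inf_le_left (le_trans inf_le_right (Subgroup.centralizer_le hPL0))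

/-- `F*(G) ≠ 1` for a group with a nonabelian subgroup. -/
theorem generalizedFitting_ne_bot_of_not_comm {H : Subgroup G} (hna : ¬ IsMulCommutative ↥H) :
    generalizedFittingSubgroup G ≠ ⊥ := by
  intro h
  apply hna
  have hall : ∀ g : G, g = 1 := by
    intro g
    have h1 : g ∈ Subgroup.centralizer (generalizedFittingSubgroup G : Set G) := by
      rw [Subgroup.mem_centralizer_iff]
      intro x hx
      rw [h, SetLike.mem_coe, Subgroup.mem_bot] at hx
      rw [hx, one_mul, mul_one]
    have h2 := Cfsg.Agent.Lib.Helper21_FStar.centralizer_generalizedFitting_le h1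
    rw [h] at h2
    exact Subgroup.mem_bot.mp h2
  refine ⟨⟨fun a b => ?_⟩⟩
  apply Subtype.ext
  rw [Subgroup.coe_mul, Subgroup.coe_mul, hall a, hall b]

/-- Part (1): `F*(G)` lies in every nontrivial normal subgroup. -/
theorem generalizedFitting_le_of_normal (P : Sylow p G)
    (hna : ¬ IsMulCommutative ↥(P : Subgroup G))
    (hgen : (frattini ↥(P : Subgroup G)).index = p ^ 2) (hcore : Cfsg.pPrimeCore p G = ⊥)
    (hfrat : ((frattini ↥(P : Subgroup G)).map (P : Subgroup G).subtype).normalCore = ⊥)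
    (K : Subgroup G) (hK : K.Normal) (hne : K ≠ ⊥) : generalizedFittingSubgroup G ≤ K := by
  set N : Subgroup G :=
    Subgroup.normalClosure ((⁅(P : Subgroup G), (P : Subgroup G)⁆ : Subgroup G) : Set G) with hN
  haveI hNn : N.Normal := Subgroup.normalClosure_normal
  have hNne : N ≠ ⊥ := by
    intro h
    apply commutator_ne_bot_of_not_comm hna
    rw [eq_bot_iff, ← h]
    exact Subgroup.le_normalClosure
  have hNmin : ∀ K' : Subgroup G, K'.Normal → K' ≠ ⊥ → N ≤ K' := by
    intro K' hK' hK'ne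
    haveI := hK'
    apply Subgroup.normalClosure_le_normal
    exact le_trans (commutator_le_inf_of_normal P hgen hcore hfrat K' hK'ne).1 inf_le_left
  refine le_trans ?_ (hNmin K hK hne)
  haveI hEn : (layer G).Normal := Cfsg.Agent.Lib.Helper29_Local.layer_normal G
  haveI hFn : (fittingSubgroup G).Normal := Cfsg.Agent.Lib.Helper29_Local.fittingSubgroup_normal G
  by_cases hE : layer G = ⊥
  · have hFeq : generalizedFittingSubgroup G = pCore p G := by
      unfold generalizedFittingSubgroup
      rw [hE, bot_sup_eq, fittingSubgroup_eq_pCore hcore]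
    have hRne : pCore p G ≠ ⊥ := by
      rw [← hFeq]
      exact generalizedFitting_ne_bot_of_not_comm hna
    rw [hFeq]
    exact pCore_le_of_normal_of_le P hna hgen hcore hfrat N hNne
      (hNmin (pCore p G) (Cfsg.Agent.Lib.Helper1_Cores.pCore_normal p) hRne)
  · have hR : fittingSubgroup G = ⊥ := by
      by_contra hR
      apply hNne
      rw [eq_bot_iff, ← layer_inf_centralizer_eq_bot P hcore hfrat]
      refine le_inf (hNmin (layer G) hEn hE) ?_
      have h1 := Cfsg.Agent.Lib.Helper22_Layer.layer_commutator_fitting (X := G)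
      rw [Subgroup.commutator_eq_bot_iff_le_centralizer, Subgroup.le_centralizer_iff] at h1
      exact le_trans (hNmin (fittingSubgroup G) hFn hR) h1
    unfold generalizedFittingSubgroup
    rw [hR, sup_bot_eq, Cfsg.Agent.Lib.Helper22_Layer.layer_le_iff]
    intro L hL
    rcases Cfsg.Agent.Lib.Helper21_Components.IsComponent.le_or_commutator_eq_bot hL
      hNn.isSubnormal with h | h
    · exact h
    · exfalso
      rw [Subgroup.commutator_eq_bot_iff_le_centralizer] at h
      have hCn : (Subgroup.centralizer (N : Set G)).Normal := Subgroup.normal_centralizer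
      have hCne : Subgroup.centralizer (N : Set G) ≠ ⊥ := by
        intro hC
        rw [hC] at h
        have hnt := Cfsg.Agent.Lib.Helper29_Local.IsQuasisimple.nontrivial hL.2
        rw [Subgroup.nontrivial_iff_ne_bot] at hnt
        exact hnt (le_bot_iff.mp h)
      have h2 : N ≤ Subgroup.centralizer (N : Set G) := hNmin _ hCn hCne
      haveI h3 : IsMulCommutative ↥N := Subgroup.le_centralizer_iff_isMulCommutative.mp h2
      have h4 : N ≤ fittingSubgroup G :=
        Cfsg.Agent.Lib.Helper29_Local.le_fittingSubgroup N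
          Cfsg.Agent.Lib.Helper29_Local.isNilpotent_of_isMulCommutative
      rw [hR] at h4
      exact hNne (le_bot_iff.mp h4)

/-- Part (2): `P` is cyclic modulo every nontrivial normal subgroup. -/
theorem isCyclic_map_mk_of_normal (P : Sylow p G)
    (hgen : (frattini ↥(P : Subgroup G)).index = p ^ 2) (hcore : Cfsg.pPrimeCore p G = ⊥)
    (hfrat : ((frattini ↥(P : Subgroup G)).map (P : Subgroup G).subtype).normalCore = ⊥)
    (K : Subgroup G) [hK : K.Normal] (hne : K ≠ ⊥) :
    IsCyclic ↥((P : Subgroup G).map (QuotientGroup.mk' K)) := by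
  obtain ⟨-, x, hxP, hx⟩ := commutator_le_inf_of_normal P hgen hcore hfrat K hne
  have h : (P : Subgroup G).map (QuotientGroup.mk' K) =
      Subgroup.zpowers (QuotientGroup.mk' K x) := by
    have h1 : (K ⊓ (P : Subgroup G)).map (QuotientGroup.mk' K) = ⊥ := by
      rw [eq_bot_iff]
      rintro _ ⟨d, hd, rfl⟩
      rw [Subgroup.mem_bot]
      exact (QuotientGroup.eq_one_iff d).mpr hd.1
    have h2 : (Subgroup.zpowers x ⊔ (K ⊓ (P : Subgroup G))).map (QuotientGroup.mk' K) =
        Subgroup.zpowers (QuotientGroup.mk' K x) := by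
      rw [Subgroup.map_sup, MonoidHom.map_zpowers, h1, sup_bot_eq]
    rwa [hx] at h2
  rw [h]
  exact Subgroup.isCyclic_zpowers _

/-! ### Part 5: transitivity on components -/

theorem map_conj_map_conj (K : Subgroup G) (a b : G) :
    (K.map (MulAut.conj a).toMonoidHom).map (MulAut.conj b).toMonoidHom =
      K.map (MulAut.conj (b * a)).toMonoidHom := by
  rw [Subgroup.map_map]
  congr 1
  ext g
  simp [mul_assoc]

theorem map_conj_one (K : Subgroup G) : K.map (MulAut.conj (1 : G)).toMonoidHom = K := by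
  rw [map_one]
  exact Subgroup.map_id K

/-- the join of the `H`-conjugates of `K` -/
def orb (H K : Subgroup G) : Subgroup G :=
  ⨆ x : ↥H, K.map (MulAut.conj (x : G)).toMonoidHom

theorem le_orb (H K : Subgroup G) : K ≤ orb H K := by
  have h := le_iSup (fun x : ↥H => K.map (MulAut.conj (x : G)).toMonoidHom) 1
  simp only [Subgroup.coe_one, map_conj_one] at h
  exact h

theorem map_conj_orb_le (H K : Subgroup G) {y : G} (hy : y ∈ H) :
    (orb H K).map (MulAut.conj y).toMonoidHom ≤ orb H K := by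
  unfold orb
  rw [Subgroup.map_iSup]
  apply iSup_le
  intro x
  rw [map_conj_map_conj]
  exact le_iSup (fun x : ↥H => K.map (MulAut.conj (x : G)).toMonoidHom) (⟨y, hy⟩ * x)

theorem le_normalizer_orb (H K : Subgroup G) : H ≤ Subgroup.normalizer (orb H K : Set G) := by
  intro y hy
  rw [Subgroup.mem_normalizer_iff]
  intro h
  constructor
  · intro hh
    apply map_conj_orb_le H K hy
    exact ⟨h, hh, by simp⟩
  · intro hh
    have h1 := map_conj_orb_le H K (H.inv_mem hy) ⟨_, hh, rfl⟩
    simpa [mul_assoc] using h1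

theorem orb_perfect (H : Subgroup G) {K : Subgroup G} (hK : IsComponent K) :
    ⁅orb H K, orb H K⁆ = orb H K := by
  apply le_antisymm (Subgroup.commutator_le_self _)
  conv_lhs => unfold orb
  apply iSup_le
  intro x
  have hKx : IsComponent (K.map (MulAut.conj (x : G)).toMonoidHom) :=
    Cfsg.Agent.Lib.Helper29_Local.isComponent_map_mulEquiv (MulAut.conj (x : G)) hK
  have hle : K.map (MulAut.conj (x : G)).toMonoidHom ≤ orb H K :=
    le_iSup (fun x : ↥H => K.map (MulAut.conj (x : G)).toMonoidHom) x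
  calc K.map (MulAut.conj (x : G)).toMonoidHom
      = ⁅K.map (MulAut.conj (x : G)).toMonoidHom, K.map (MulAut.conj (x : G)).toMonoidHom⁆ :=
        (Cfsg.Agent.Lib.Helper21_Components.IsComponent.commutator_self hKx).symm
    _ ≤ ⁅orb H K, orb H K⁆ := Subgroup.commutator_mono hle hle

theorem orb_le_layer (H : Subgroup G) {K : Subgroup G} (hK : IsComponent K) :
    orb H K ≤ layer G := by
  unfold orb
  apply iSup_le
  intro x
  exact Cfsg.Agent.Lib.Helper29_Local.IsComponent.le_layer
    (Cfsg.Agent.Lib.Helper29_Local.isComponent_map_mulEquiv (MulAut.conj (x : G)) hK)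

theorem orb_le_centralizer (H : Subgroup G) {K M : Subgroup G} (hK : IsComponent K)
    (hM : IsComponent M) (hne : ∀ x : ↥H, M ≠ K.map (MulAut.conj (x : G)).toMonoidHom) :
    orb H K ≤ Subgroup.centralizer (M : Set G) := by
  unfold orb
  apply iSup_le
  intro x
  have hKx : IsComponent (K.map (MulAut.conj (x : G)).toMonoidHom) :=
    Cfsg.Agent.Lib.Helper29_Local.isComponent_map_mulEquiv (MulAut.conj (x : G)) hK
  exact Subgroup.commutator_eq_bot_iff_le_centralizer.mp
    (Cfsg.Agent.Lib.Helper21_Components.IsComponent.commutator_eq_bot_of_ne hKx hM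
      (fun h => hne x h.symm))

/-- the `P`-orbit of a component does not meet `P` inside `Φ(P)` -/
theorem not_orb_inf_le_frattini (P : Sylow p G) (hcore : Cfsg.pPrimeCore p G = ⊥)
    {K : Subgroup G} (hK : IsComponent K) :
    ¬ orb (P : Subgroup G) K ⊓ (P : Subgroup G) ≤
      (frattini ↥(P : Subgroup G)).map (P : Subgroup G).subtype := by
  intro h
  haveI : Group.IsPerfect ↥(orb (P : Subgroup G) K) :=
    Subgroup.isPerfect_iff.mpr (orb_perfect _ hK)
  have h1 := card_coprime_of_isPerfect_of_inf_le_frattini P (le_normalizer_orb _ K) h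
  have h2 : (Nat.card ↥K).Coprime p :=
    Nat.Coprime.coprime_dvd_left (Subgroup.card_dvd_of_le (le_orb _ K)) h1
  have h3 := Cfsg.Agent.Lib.Helper22_Cores.le_pPrimeCore_of_isSubnormal p hK.1 h2
  rw [hcore] at h3
  have hnt := Cfsg.Agent.Lib.Helper29_Local.IsQuasisimple.nontrivial hK.2
  rw [Subgroup.nontrivial_iff_ne_bot] at hnt
  exact hnt (le_bot_iff.mp h3)

/-- Part (3): `P` is transitive on the components. -/
theorem exists_conj_component (P : Sylow p G) (hna : ¬ IsMulCommutative ↥(P : Subgroup G))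
    (hgen : (frattini ↥(P : Subgroup G)).index = p ^ 2) (hcore : Cfsg.pPrimeCore p G = ⊥)
    (hfrat : ((frattini ↥(P : Subgroup G)).map (P : Subgroup G).subtype).normalCore = ⊥)
    {K L : Subgroup G} (hK : IsComponent K) (hL : IsComponent L) :
    ∃ x ∈ (P : Subgroup G), L = K.map (MulAut.conj x).toMonoidHom := by
  by_contra hcon
  have hne : ∀ x : ↥(P : Subgroup G), L ≠ K.map (MulAut.conj (x : G)).toMonoidHom :=
    fun x h => hcon ⟨x, x.2, h⟩
  have hne' : ∀ x : ↥(P : Subgroup G), K ≠ L.map (MulAut.conj (x : G)).toMonoidHom := by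
    intro x h
    apply hne x⁻¹
    rw [h, map_conj_map_conj, Subgroup.coe_inv, inv_mul_cancel, map_conj_one]
  -- the two orbits meet trivially
  have hinf : orb (P : Subgroup G) K ⊓ orb (P : Subgroup G) L = ⊥ := by
    rw [eq_bot_iff, ← layer_inf_centralizer_eq_bot P hcore hfrat]
    refine le_inf (le_trans inf_le_left (orb_le_layer _ hK)) ?_
    rw [Subgroup.le_centralizer_iff, Cfsg.Agent.Lib.Helper22_Layer.layer_le_iff]
    intro M hM
    rw [Subgroup.le_centralizer_iff]
    by_cases hMK : ∃ x : ↥(P : Subgroup G), M = K.map (MulAut.conj (x : G)).toMonoidHom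
    · obtain ⟨x, hx⟩ := hMK
      refine le_trans inf_le_right (orb_le_centralizer _ hL hM ?_)
      intro x' hx'
      apply hne' (x⁻¹ * x')
      have h1 : K = M.map (MulAut.conj ((x : G)⁻¹)).toMonoidHom := by
        rw [hx, map_conj_map_conj, inv_mul_cancel, map_conj_one]
      rw [h1, hx', map_conj_map_conj, Subgroup.coe_mul, Subgroup.coe_inv]
    · refine le_trans inf_le_left (orb_le_centralizer _ hK hM ?_)
      intro x hx
      exact hMK ⟨x, hx⟩
  have hBK := (commutator_le_of_not_le_frattini P hgen inf_le_right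
    (le_normalizer_inf_self (le_normalizer_orb _ K)) (not_orb_inf_le_frattini P hcore hK)).1
  have hBL := (commutator_le_of_not_le_frattini P hgen inf_le_right
    (le_normalizer_inf_self (le_normalizer_orb _ L)) (not_orb_inf_le_frattini P hcore hL)).1
  apply commutator_ne_bot_of_not_comm hna
  rw [eq_bot_iff, ← hinf]
  exact le_inf (le_trans hBK inf_le_left) (le_trans hBL inf_le_left)

end Structure

end Cfsg.Agent.Lib.Helper48_TwoGen
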