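import Mathlib.GroupTheory.Transfer
import Mathlib.GroupTheory.PGroup
import Mathlib.GroupTheory.Sylow
import Mathlib.GroupTheory.Index
import Mathlib.GroupTheory.IndexNormal
import Mathlib.GroupTheory.SpecificGroups.Cyclic

/-!
# Transfer of a central involution of a Sylow 2-subgroup (helper48)

* `transfer_eq_prod_out`: the transfer written with the `Quotient.out` transversal.
* `card_subMulAction_modEq`: fixed point congruence for an invariant subset.
* `transfer_ne_one_of_central_involution`: if `z ∈ Z(S)` is an involution fixed by `N_G(S)` and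
  `ϕ : S →* A`, `|A| = 2`, `ϕ z ≠ 1`, then the transfer of `ϕ` does not kill `z`.
* `exists_index_two_of_central_involution`: the resulting subgroup of index two.
-/

set_option autoImplicit false

namespace Cfsg.Agent.Lib.Helper48_ZTransfer

open MulAction Subgroup

variable {G : Type*} [Group G]

section ext

variable {H : Subgroup G} {A : Type*} [CommGroup A] (ϕ : H →* A)

open Classical in
/-- Extension of `ϕ : H →* A` by `1` outside `H`. -/
noncomputable def extHom (g : G) : A := if h : g ∈ H then ϕ ⟨g, h⟩ else 1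

theorem extHom_mem {g : G} (h : g ∈ H) : extHom ϕ g = ϕ ⟨g, h⟩ := by
  unfold extHom
  rw [dif_pos h]

theorem extHom_not_mem {g : G} (h : g ∉ H) : extHom ϕ g = 1 := by
  unfold extHom
  rw [dif_neg h]

theorem extHom_one : extHom ϕ (1 : G) = 1 := by
  rw [extHom_mem ϕ H.one_mem]
  exact map_one ϕ

theorem extHom_conj (y : G) {h : G} (hh : h ∈ H) : extHom ϕ (h⁻¹ * y * h) = extHom ϕ y := by
  by_cases hy : y ∈ H
  · have h1 : h⁻¹ * y * h ∈ H := H.mul_mem (H.mul_mem (H.inv_mem hh) hy) hh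
    rw [extHom_mem ϕ h1, extHom_mem ϕ hy]
    have : (⟨h⁻¹ * y * h, h1⟩ : H) = (⟨h, hh⟩ : H)⁻¹ * ⟨y, hy⟩ * ⟨h, hh⟩ := rfl
    rw [this, map_mul, map_mul, map_inv, mul_comm (ϕ ⟨h, hh⟩)⁻¹, mul_assoc, inv_mul_cancel, mul_one]
  · have h1 : h⁻¹ * y * h ∉ H := by
      intro h2
      apply hy
      have : y = h * (h⁻¹ * y * h) * h⁻¹ := by group
      rw [this]
      exact H.mul_mem (H.mul_mem hh h2) (H.inv_mem hh)
    rw [extHom_not_mem ϕ h1, extHom_not_mem ϕ hy]

/-- The transfer computed with the transversal `Quotient.out`. -/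
theorem transfer_eq_prod_out [H.FiniteIndex] [Fintype (G ⧸ H)] (g : G) :
    MonoidHom.transfer ϕ g = ∏ q : G ⧸ H, extHom ϕ (q.out⁻¹ * (g * (g⁻¹ • q).out)) := by
  have hinst : ‹Fintype (G ⧸ H)› = H.fintypeQuotientOfFiniteIndex := Subsingleton.elim _ _
  subst hinst
  have hf : ∀ q : G ⧸ H, ((Quotient.out q : G) : G ⧸ H) = q := fun q => QuotientGroup.out_eq' q
  rw [MonoidHom.transfer_def ϕ ⟨Set.range Quotient.out, isComplement_range_left hf⟩ g]
  unfold Subgroup.leftTransversals.diff
  dsimp only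
  refine Finset.prod_congr rfl (fun q _ => ?_)
  rw [← extHom_mem ϕ]
  congr 1
  rw [smul_apply_eq_smul_apply_inv_smul]
  rw [IsComplement.leftQuotientEquiv_apply hf, IsComplement.leftQuotientEquiv_apply hf]
  rfl

theorem extHom_mul {x y : G} (hx : x ∈ H) (hy : y ∈ H) :
    extHom ϕ (x * y) = extHom ϕ x * extHom ϕ y := by
  rw [extHom_mem ϕ hx, extHom_mem ϕ hy, extHom_mem ϕ (H.mul_mem hx hy), ← map_mul]
  rfl

end ext

/-- Fixed point congruence for an invariant subset. -/
theorem card_subMulAction_modEq {P X : Type*} [Group P] [MulAction P X] [Finite X] {p : ℕ}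
    [Fact p.Prime] (hP : IsPGroup p P) (Y : SubMulAction P X) :
    Nat.card Y ≡ Nat.card {x : X // x ∈ fixedPoints P X ∧ x ∈ Y} [MOD p] := by
  have h := hP.card_modEq_card_fixedPoints Y
  have e : fixedPoints P Y ≃ {x : X // x ∈ fixedPoints P X ∧ x ∈ Y} :=
    { toFun := fun y => ⟨y.1.1, ⟨fun g => by
        have := y.2 g
        exact congrArg Subtype.val this, y.1.2⟩⟩
      invFun := fun x => ⟨⟨x.1, x.2.2⟩, fun g => Subtype.ext (x.2.1 g)⟩
      left_inv := fun y => rfl
      right_inv := fun x => rfl }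
  rw [Nat.card_congr e] at h
  exact h

section main

variable [Finite G] {A : Type*} [CommGroup A]

/-- **Transfer of a central involution.** -/
theorem transfer_ne_one_of_central_involution (H : Subgroup G) (hH : IsPGroup 2 H)
    (hodd : ¬ 2 ∣ H.index) (hA : Nat.card A = 2) (ϕ : H →* A) (z : G) (hzH : z ∈ H)
    (hzc : z ∈ Subgroup.centralizer (H : Set G)) (hz2 : z ^ 2 = 1)
    (hN : ∀ g ∈ Subgroup.normalizer (H : Set G), g⁻¹ * z * g = z) (hϕz : ϕ ⟨z, hzH⟩ ≠ 1) :
    MonoidHom.transfer ϕ z ≠ 1 := by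
  classical
  have : Fintype (G ⧸ H) := Fintype.ofFinite _
  have hzz : z * z = 1 := by rw [← pow_two]; exact hz2
  have hzinv : z⁻¹ = z := by rw [inv_eq_iff_mul_eq_one]; exact hzz
  have hzsmul : ∀ q : G ⧸ H, z • (z • q) = q := by
    intro q
    rw [← mul_smul, hzz, one_smul]
  rw [transfer_eq_prod_out ϕ z, hzinv]
  -- membership of the transversal differences
  have hmem : ∀ q : G ⧸ H, q.out⁻¹ * (z * (z • q).out) ∈ H := by
    intro q
    rw [← QuotientGroup.eq]
    have h1 : ((z * (z • q).out : G) : G ⧸ H) = z • (((z • q).out : G) : G ⧸ H) := rfl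
    rw [h1, QuotientGroup.out_eq', QuotientGroup.out_eq', hzsmul]
  have hfix_iff : ∀ q : G ⧸ H, q.out⁻¹ * z * q.out ∈ H → z • q = q := by
    intro q h
    rw [mul_assoc, ← QuotientGroup.eq] at h
    have h1 : ((z * q.out : G) : G ⧸ H) = z • ((q.out : G) : G ⧸ H) := rfl
    rw [h1, QuotientGroup.out_eq'] at h
    exact h.symm
  -- split off the non-fixed points
  have hnonfix : ∏ q ∈ Finset.univ.filter (fun q : G ⧸ H => ¬ z • q = q),
      extHom ϕ (q.out⁻¹ * (z * (z • q).out)) = 1 := by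
    refine Finset.prod_involution (fun q _ => z • q) ?_ ?_ ?_ ?_
    · intro q _
      rw [hzsmul, ← extHom_mul ϕ (hmem q)]
      · have : q.out⁻¹ * (z * (z • q).out) * ((z • q).out⁻¹ * (z * q.out)) = 1 := by
          calc q.out⁻¹ * (z * (z • q).out) * ((z • q).out⁻¹ * (z * q.out))
              = q.out⁻¹ * (z * z) * q.out := by group
            _ = 1 := by rw [hzz]; group
        rw [this, extHom_one]
      · have := hmem (z • q)
        rwa [hzsmul] at this
    · intro q hq _
      exact (Finset.mem_filter.mp hq).2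
    · intro q hq
      rw [Finset.mem_filter] at hq ⊢
      refine ⟨Finset.mem_univ _, ?_⟩
      rw [hzsmul]
      intro h
      exact hq.2 h.symm
    · intro q _
      exact hzsmul q
  have hsplit : ∏ q : G ⧸ H, extHom ϕ (q.out⁻¹ * (z * (z • q).out)) =
      ∏ q : G ⧸ H, extHom ϕ (q.out⁻¹ * z * q.out) := by
    rw [← Finset.prod_filter_mul_prod_filter_not Finset.univ (fun q : G ⧸ H => z • q = q),
      ← Finset.prod_filter_mul_prod_filter_not Finset.univ (fun q : G ⧸ H => z • q = q)
        (f := fun q : G ⧸ H => extHom ϕ (q.out⁻¹ * z * q.out)), hnonfix]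
    congr 1
    · refine Finset.prod_congr rfl (fun q hq => ?_)
      rw [(Finset.mem_filter.mp hq).2, mul_assoc]
    · symm
      refine Finset.prod_eq_one (fun q hq => ?_)
      apply extHom_not_mem
      intro h
      exact (Finset.mem_filter.mp hq).2 (hfix_iff q h)
  rw [hsplit]
  -- the invariant function
  have hF : ∀ g : G, extHom ϕ ((g : G ⧸ H).out⁻¹ * z * (g : G ⧸ H).out) = extHom ϕ (g⁻¹ * z * g) := by
    intro g
    obtain ⟨h, hh⟩ := QuotientGroup.mk_out_eq_mul H g
    rw [hh]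
    have : (g * (h : G))⁻¹ * z * (g * h) = (h : G)⁻¹ * (g⁻¹ * z * g) * h := by group
    rw [this, extHom_conj ϕ _ h.2]
  have hinv : ∀ (s : H) (q : G ⧸ H), extHom ϕ ((s • q).out⁻¹ * z * (s • q).out) =
      extHom ϕ (q.out⁻¹ * z * q.out) := by
    intro s q
    induction q using QuotientGroup.induction_on with
    | H g =>
      have h1 : s • (g : G ⧸ H) = (((s : G) * g : G) : G ⧸ H) := rfl
      rw [h1, hF, hF]
      have hsz : (s : G) * z = z * s := (Subgroup.mem_centralizer_iff.mp hzc s s.2)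
      have : ((s : G) * g)⁻¹ * z * (s * g) = g⁻¹ * z * g := by
        calc ((s : G) * g)⁻¹ * z * (s * g) = g⁻¹ * ((s : G)⁻¹ * (z * s)) * g := by group
          _ = g⁻¹ * z * g := by rw [← hsz]; group
      rw [this]
  have hfixval : ∀ q : G ⧸ H, q ∈ fixedPoints H (G ⧸ H) →
      extHom ϕ (q.out⁻¹ * z * q.out) = ϕ ⟨z, hzH⟩ := by
    intro q hq
    induction q using QuotientGroup.induction_on with
    | H g =>
      have hg : g ∈ Subgroup.normalizer (H : Set G) :=
        Sylow.mem_fixedPoints_mul_left_cosets_iff_mem_normalizer.mp hq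
      rw [hF, hN g hg, extHom_mem ϕ hzH]
  -- values
  have hval : ∀ b : A, b ≠ 1 → b = ϕ ⟨z, hzH⟩ := by
    intro b hb
    obtain ⟨y, -, hy⟩ := (Nat.card_eq_two_iff' (1 : A)).mp hA
    rw [hy b hb, hy _ hϕz]
  have ha2 : (ϕ ⟨z, hzH⟩) ^ 2 = 1 := by
    have := pow_card_eq_one' (G := A) (x := ϕ ⟨z, hzH⟩)
    rwa [hA] at this
  have hprod : ∏ q : G ⧸ H, extHom ϕ (q.out⁻¹ * z * q.out) =
      (ϕ ⟨z, hzH⟩) ^ (Finset.univ.filter
        (fun q : G ⧸ H => extHom ϕ (q.out⁻¹ * z * q.out) ≠ 1)).card := by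
    have : ∀ q : G ⧸ H, extHom ϕ (q.out⁻¹ * z * q.out) =
        if extHom ϕ (q.out⁻¹ * z * q.out) ≠ 1 then ϕ ⟨z, hzH⟩ else 1 := by
      intro q
      by_cases h : extHom ϕ (q.out⁻¹ * z * q.out) ≠ 1
      · rw [if_pos h]; exact hval _ h
      · rw [if_neg h]; push Not at h; exact h
    rw [Finset.prod_congr rfl (fun q _ => this q), Finset.prod_ite, Finset.prod_const,
      Finset.prod_const_one, mul_one]
  rw [hprod]
  -- parity
  let Y : SubMulAction H (G ⧸ H) :=
    { carrier := {q | extHom ϕ (q.out⁻¹ * z * q.out) ≠ 1}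
      smul_mem' := fun s q hq => by
        show extHom ϕ ((s • q).out⁻¹ * z * (s • q).out) ≠ 1
        rw [hinv]
        exact hq }
  have hcardY : (Finset.univ.filter
      (fun q : G ⧸ H => extHom ϕ (q.out⁻¹ * z * q.out) ≠ 1)).card = Nat.card Y := by
    rw [Nat.card_eq_fintype_card, Fintype.card_subtype]
    refine congrArg Finset.card (Finset.filter_congr (fun q _ => ?_))
    rfl
  have h1 := card_subMulAction_modEq hH Y
  have h2 : Nat.card {x : G ⧸ H // x ∈ fixedPoints H (G ⧸ H) ∧ x ∈ Y} =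
      Nat.card (fixedPoints H (G ⧸ H)) := by
    refine Nat.card_congr (Equiv.subtypeEquivRight (fun q => ⟨fun h => h.1, fun h => ⟨h, ?_⟩⟩))
    show extHom ϕ (q.out⁻¹ * z * q.out) ≠ 1
    rw [hfixval q h]
    exact hϕz
  have h3 := hH.card_modEq_card_fixedPoints (G ⧸ H)
  rw [h2] at h1
  have h4 : Nat.card Y ≡ H.index [MOD 2] := by
    rw [Subgroup.index_eq_card]
    exact h1.trans h3.symm
  have hoddY : Nat.card Y % 2 = 1 := by
    have : H.index % 2 = 1 := by omega
    rw [← this]
    exact h4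
  rw [hcardY]
  obtain ⟨k, hk⟩ : ∃ k, Nat.card Y = 2 * k + 1 := ⟨Nat.card Y / 2, by omega⟩
  rw [hk, pow_succ, pow_mul, ha2, one_pow, one_mul]
  exact hϕz

/-- If a central involution `z` of a `2`-subgroup `H` of odd index, fixed by `N_G(H)`, lies
outside a subgroup `M` of index two of `H`, then `G` has a subgroup of index two avoiding `z`. -/
theorem exists_index_two_of_central_involution (H : Subgroup G) (hH : IsPGroup 2 H)
    (hodd : ¬ 2 ∣ H.index) (M : Subgroup H) (hM : M.index = 2) (z : G) (hzH : z ∈ H)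
    (hzM : (⟨z, hzH⟩ : H) ∉ M) (hzc : z ∈ Subgroup.centralizer (H : Set G)) (hz2 : z ^ 2 = 1)
    (hN : ∀ g ∈ Subgroup.normalizer (H : Set G), g⁻¹ * z * g = z) :
    ∃ K : Subgroup G, K.index = 2 ∧ z ∉ K := by
  have hMn : M.Normal := Subgroup.normal_of_index_eq_two hM
  have hA : Nat.card (↥H ⧸ M) = 2 := by rw [← Subgroup.index_eq_card]; exact hM
  have hcyc : IsCyclic (↥H ⧸ M) := isCyclic_of_prime_card hA
  let _ : CommGroup (↥H ⧸ M) := IsCyclic.commGroup
  have hϕz : (QuotientGroup.mk' M) ⟨z, hzH⟩ ≠ 1 := by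
    intro h
    exact hzM ((QuotientGroup.eq_one_iff _).mp h)
  have hV := transfer_ne_one_of_central_involution H hH hodd hA (QuotientGroup.mk' M) z hzH hzc hz2
    hN hϕz
  refine ⟨(MonoidHom.transfer (QuotientGroup.mk' M)).ker, ?_, ?_⟩
  · rw [Subgroup.index_ker]
    have hprime : Fact (Nat.card (↥H ⧸ M)).Prime := ⟨by rw [hA]; exact Nat.prime_two⟩
    rcases (MonoidHom.transfer (QuotientGroup.mk' M)).range.eq_bot_or_eq_top_of_prime_card with h | h
    · exfalso
      apply hV
      have : (MonoidHom.transfer (QuotientGroup.mk' M)) z ∈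
          (MonoidHom.transfer (QuotientGroup.mk' M)).range := ⟨z, rfl⟩
      rw [h] at this
      exact Subgroup.mem_bot.mp this
    · rw [h, Subgroup.card_top, hA]
  · rw [MonoidHom.mem_ker]
    exact hV

omit [Finite G] in
/-- An element of odd order lies in every subgroup of index two. -/
theorem mem_of_index_two_of_odd_order {K : Subgroup G} (hK : K.index = 2) {g : G}
    (hg : (orderOf g).Coprime 2) : g ∈ K := by
  have h2 : g ^ 2 ∈ K := Subgroup.sq_mem_of_index_two hK g
  have hodd : orderOf g % 2 = 1 := by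
    rcases Nat.even_or_odd (orderOf g) with h | h
    · exfalso
      have : 2 ∣ Nat.gcd (orderOf g) 2 := Nat.dvd_gcd h.two_dvd (dvd_refl 2)
      rw [hg] at this
      omega
    · exact Nat.odd_iff.mp h
  obtain ⟨k, hk⟩ : ∃ k, orderOf g = 2 * k + 1 := ⟨orderOf g / 2, by omega⟩
  have h3 : g = (g ^ 2) ^ (k + 1) := by
    rw [← pow_mul]
    have : 2 * (k + 1) = orderOf g + 1 := by omega
    rw [this, pow_succ, pow_orderOf_eq_one, one_mul]
  rw [h3]
  exact K.pow_mem h2 _

end main

end Cfsg.Agent.Lib.Helper48_ZTransfer
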