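import Mathlib
import Cfsg.Prelude.Def_GeometricClasses
import Cfsg.Agent.Lib.Helper94_Herm
import Cfsg.Agent.Lib.Helper94_HermBridge

set_option autoImplicit false

/-!
S5663-SU2Q (helper89, for helper97): the special unitary group of a nondegenerate hermitian form in
dimension 2 over the field with `q ^ 2` elements is realisable over the field with `q` elements
(hyperbolic coordinates).
-/

namespace Cfsg.Agent.Lib.Helper89_AschSU_SU2Q

open Cfsg Cfsg.Geo Matrix Cfsg.Agent.Lib.Helper94_Herm Cfsg.Agent.Lib.Helper94_HermBridge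

variable {F : Type*} [Field F]

section form

variable {q : ℕ} {f₁ : (Fin 2 → F) → (Fin 2 → F) → F} (hf₁ : IsUnitaryFormPow q f₁)
  (σ : F →+* F) (hσq : ∀ x, σ x = x ^ q)

/-- the form as a sesquilinear map -/
noncomputable def formB : (Fin 2 → F) →ₗ[F] (Fin 2 → F) →ₛₗ[σ] F :=
  LinearMap.mk₂'ₛₗ (RingHom.id F) σ f₁
    (fun x y v => hf₁.add_left x y v)
    (fun c x v => hf₁.smul_left c x v)
    (fun v x y => by
      rw [hf₁.herm v (x + y), hf₁.add_left, ← hσq, map_add, hσq, hσq, ← hf₁.herm, ← hf₁.herm])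
    (fun c v x => by
      rw [hf₁.herm v (c • x), hf₁.smul_left, ← hσq, map_mul, hσq (f₁ x v), ← hf₁.herm]
      rfl)

theorem formB_apply (u v : Fin 2 → F) : formB hf₁ σ hσq u v = f₁ u v := rfl

theorem formB_isHerm : IsHerm (formB hf₁ σ hσq) := by
  intro x y
  rw [formB_apply, formB_apply, hσq]
  exact hf₁.herm y x

theorem formB_nondeg : NondegOn (formB hf₁ σ hσq) ⊤ := by
  intro x _ hx0
  obtain ⟨-, y, hy⟩ := hf₁.nondegenerate x hx0
  exact ⟨y, trivial, hy⟩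

end form

/-- hyperbolic coordinates -/
theorem exists_hyp [Fintype F] (q : ℕ) (hF : Fintype.card F = q ^ 2)
    (f₁ : (Fin 2 → F) → (Fin 2 → F) → F) (hf₁ : IsUnitaryFormPow q f₁) :
    ∃ (M : Matrix (Fin 2) (Fin 2) F) (ζ : F), ζ ≠ 0 ∧ ∀ x y : Fin 2 → F,
      f₁ (M *ᵥ x) (M *ᵥ y) = ζ * (x 0 * (y 1) ^ q - x 1 * (y 0) ^ q) := by
  obtain ⟨σ, hσq, hσ⟩ := exists_frob hF
  have hB := formB_isHerm hf₁ σ hσq
  have hnd := formB_nondeg hf₁ σ hσq
  have hx : (Pi.single 0 1 : Fin 2 → F) ≠ 0 := by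
    intro h
    have := congrFun h 0
    simp at this
  have hy : (Pi.single 1 1 : Fin 2 → F) ∉ Submodule.span F {(Pi.single 0 1 : Fin 2 → F)} := by
    intro h
    obtain ⟨t, ht⟩ := Submodule.mem_span_singleton.1 h
    have := congrFun ht 1
    simp at this
  obtain ⟨a, b, hu0, hu⟩ := exists_iso hσ hB hx hy
  obtain ⟨w, -, hw, huw⟩ := exists_partner hσ hB hnd (Submodule.mem_top) hu0 hu
  obtain ⟨ζ, hζ0, hζ⟩ := exists_skew hσ
  set u : Fin 2 → F := a • Pi.single 0 1 + b • Pi.single 1 1 with hudef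
  set u' : Fin 2 → F := σ ζ • w with hu'def
  have h1 : formB hf₁ σ hσq u u' = ζ := by
    rw [hu'def, map_smulₛₗ, huw, hσ.invol, smul_eq_mul, mul_one]
  have h2 : formB hf₁ σ hσq u' u' = 0 := by
    rw [hu'def, self_smul, hw, mul_zero]
  have h3 : formB hf₁ σ hσq u' u = -ζ := by
    rw [hB u u', h1, hζ]
  refine ⟨Matrix.of (fun i j => if j = 0 then u i else u' i), ζ, hζ0, ?_⟩
  have hM : ∀ x : Fin 2 → F,
      (Matrix.of (fun i j => if j = 0 then u i else u' i) : Matrix (Fin 2) (Fin 2) F) *ᵥ x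
        = x 0 • u + x 1 • u' := by
    intro x
    funext i
    simp [Matrix.mulVec, dotProduct, Fin.sum_univ_two, mul_comm]
  intro x y
  rw [hM, hM, ← formB_apply hf₁ σ hσq]
  simp only [map_add, map_smulₛₗ, LinearMap.add_apply, LinearMap.smul_apply, smul_eq_mul, hu, h1, h2,
    h3, RingHom.id_apply, hσq]
  ring


/-- SU2Q: the special unitary group of a hermitian form in dimension 2 is realisable over the field
with `q` elements -/
theorem SU2Q [Fintype F] (q : ℕ) (hF : Fintype.card F = q ^ 2)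
    (f₁ : (Fin 2 → F) → (Fin 2 → F) → F) (hf₁ : IsUnitaryFormPow q f₁) :
    ∃ B : GL (Fin 2) F, ∀ g : GL (Fin 2) F,
      (∀ u v, f₁ ((g : Matrix (Fin 2) (Fin 2) F) *ᵥ u) ((g : Matrix (Fin 2) (Fin 2) F) *ᵥ v) = f₁ u v) →
      (g : Matrix (Fin 2) (Fin 2) F).det = 1 →
      ∀ i j, (((B * g * B⁻¹ : GL (Fin 2) F) : Matrix (Fin 2) (Fin 2) F) i j) ^ q =
        ((B * g * B⁻¹ : GL (Fin 2) F) : Matrix (Fin 2) (Fin 2) F) i j := by
  obtain ⟨M, ζ, hζ, hM⟩ := exists_hyp q hF f₁ hf₁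
  have hq0 : q ≠ 0 := by
    rintro rfl
    have h1 : 1 < Fintype.card F := Fintype.one_lt_card
    rw [hF] at h1
    simp at h1
  have hf0 : ∀ w, f₁ 0 w = 0 := fun w => by
    have := hf₁.smul_left 0 0 w
    rwa [zero_smul, zero_mul] at this
  have hdet : M.det ≠ 0 := by
    intro h0
    obtain ⟨x, hx0, hx⟩ := Matrix.exists_mulVec_eq_zero_iff.2 h0
    apply hx0
    have e1 := hM x ![0, 1]
    have e0 := hM x ![1, 0]
    rw [hx, hf0] at e1 e0
    simp only [Matrix.cons_val_zero, Matrix.cons_val_one, one_pow, zero_pow hq0, mul_one, mul_zero,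
      sub_zero, zero_sub] at e1 e0
    have hx0' : x 0 = 0 := by
      rcases mul_eq_zero.1 e1.symm with h | h
      · exact absurd h hζ
      · exact h
    have hx1' : x 1 = 0 := by
      rcases mul_eq_zero.1 e0.symm with h | h
      · exact absurd h hζ
      · exact neg_eq_zero.1 h
    funext i
    fin_cases i
    · exact hx0'
    · exact hx1'
  refine ⟨(Matrix.GeneralLinearGroup.mkOfDetNeZero M hdet)⁻¹, ?_⟩
  intro g hg hgdet
  set N : GL (Fin 2) F := Matrix.GeneralLinearGroup.mkOfDetNeZero M hdet with hN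
  have hNM : (N : Matrix (Fin 2) (Fin 2) F) = M := rfl
  set h : GL (Fin 2) F := N⁻¹ * g * N⁻¹⁻¹ with hh
  have hNh : N * h = g * N := by rw [hh]; group
  have hNh' : M * (h : Matrix (Fin 2) (Fin 2) F) = (g : Matrix (Fin 2) (Fin 2) F) * M := by
    have := congrArg (fun z : GL (Fin 2) F => (z : Matrix (Fin 2) (Fin 2) F)) hNh
    simpa [hNM] using this
  have hdeth : (h : Matrix (Fin 2) (Fin 2) F).det = 1 := by
    have h1 : (M * (h : Matrix (Fin 2) (Fin 2) F)).det = ((g : Matrix (Fin 2) (Fin 2) F) * M).det := by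
      rw [hNh']
    rw [Matrix.det_mul, Matrix.det_mul, hgdet, one_mul] at h1
    exact mul_left_cancel₀ hdet (by rw [h1, mul_one])
  have hmv : ∀ x : Fin 2 → F, M *ᵥ ((h : Matrix (Fin 2) (Fin 2) F) *ᵥ x) =
      (g : Matrix (Fin 2) (Fin 2) F) *ᵥ (M *ᵥ x) := by
    intro x
    rw [Matrix.mulVec_mulVec, Matrix.mulVec_mulVec, hNh']
  have hiso : ∀ x y : Fin 2 → F,
      ((h : Matrix (Fin 2) (Fin 2) F) *ᵥ x) 0 * (((h : Matrix (Fin 2) (Fin 2) F) *ᵥ y) 1) ^ q -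
        ((h : Matrix (Fin 2) (Fin 2) F) *ᵥ x) 1 * (((h : Matrix (Fin 2) (Fin 2) F) *ᵥ y) 0) ^ q =
      x 0 * (y 1) ^ q - x 1 * (y 0) ^ q := by
    intro x y
    apply mul_left_cancel₀ hζ
    rw [← hM, ← hM, hmv, hmv, hg]
  have hcol0 : ∀ i, ((h : Matrix (Fin 2) (Fin 2) F) *ᵥ ![1, 0]) i = (h : Matrix (Fin 2) (Fin 2) F) i 0 := by
    intro i
    simp [Matrix.mulVec, dotProduct, Fin.sum_univ_two]
  have hcol1 : ∀ i, ((h : Matrix (Fin 2) (Fin 2) F) *ᵥ ![0, 1]) i = (h : Matrix (Fin 2) (Fin 2) F) i 1 := by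
    intro i
    simp [Matrix.mulVec, dotProduct, Fin.sum_univ_two]
  have e00 := hiso ![1, 0] ![1, 0]
  have e10 := hiso ![0, 1] ![1, 0]
  have e01 := hiso ![1, 0] ![0, 1]
  have e11 := hiso ![0, 1] ![0, 1]
  rw [hcol0, hcol0] at e00
  rw [hcol1, hcol1, hcol0, hcol0] at e10
  rw [hcol0, hcol0, hcol1, hcol1] at e01
  rw [hcol1, hcol1] at e11
  simp only [Matrix.cons_val_zero, Matrix.cons_val_one, one_pow, zero_pow hq0, mul_one, mul_zero,
    sub_zero, zero_sub, sub_self] at e00 e10 e01 e11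
  rw [Matrix.det_fin_two] at hdeth
  intro i j
  fin_cases i <;> fin_cases j
  · show ((h : Matrix (Fin 2) (Fin 2) F) 0 0) ^ q = (h : Matrix (Fin 2) (Fin 2) F) 0 0
    linear_combination (-((h : Matrix (Fin 2) (Fin 2) F) 0 0) ^ q) * hdeth +
      ((h : Matrix (Fin 2) (Fin 2) F) 0 1) * e00 + (-((h : Matrix (Fin 2) (Fin 2) F) 0 0)) * e10
  · show ((h : Matrix (Fin 2) (Fin 2) F) 0 1) ^ q = (h : Matrix (Fin 2) (Fin 2) F) 0 1
    linear_combination (-((h : Matrix (Fin 2) (Fin 2) F) 0 1) ^ q) * hdeth +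
      ((h : Matrix (Fin 2) (Fin 2) F) 0 1) * e01 + (-((h : Matrix (Fin 2) (Fin 2) F) 0 0)) * e11
  · show ((h : Matrix (Fin 2) (Fin 2) F) 1 0) ^ q = (h : Matrix (Fin 2) (Fin 2) F) 1 0
    linear_combination (-((h : Matrix (Fin 2) (Fin 2) F) 1 0) ^ q) * hdeth +
      ((h : Matrix (Fin 2) (Fin 2) F) 1 1) * e00 + (-((h : Matrix (Fin 2) (Fin 2) F) 1 0)) * e10
  · show ((h : Matrix (Fin 2) (Fin 2) F) 1 1) ^ q = (h : Matrix (Fin 2) (Fin 2) F) 1 1
    linear_combination (-((h : Matrix (Fin 2) (Fin 2) F) 1 1) ^ q) * hdeth +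
      ((h : Matrix (Fin 2) (Fin 2) F) 1 1) * e01 + (-((h : Matrix (Fin 2) (Fin 2) F) 1 0)) * e11

end Cfsg.Agent.Lib.Helper89_AschSU_SU2Q
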