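import Mathlib
import Cfsg.Agent.Lib.Helper98_AschDefs
import Cfsg.Agent.Lib.Helper23_FormDefs
import Cfsg.Agent.Lib.Helper97_SUDefs
import Cfsg.Agent.Lib.Helper52_Asch_PK2
import Cfsg.Agent.Lib.Helper52_Form_F4
import Cfsg.Agent.Lib.Helper34_OrthOdd_OP4b
import Cfsg.Agent.Lib.Helper94_TensorVec
import Cfsg.Agent.Lib.Helper94_TensorFrameU
import Cfsg.Agent.Lib.Helper46_GU2
import Cfsg.Agent.Lib.Helper40_UProj6
import Cfsg.Agent.Lib.Helper32_OrthOdd_OP7b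
import Cfsg.Agent.Lib.Helper87_AschSU_UPH
import Cfsg.Agent.Lib.Helper10_AschSU_UP4F
import Cfsg.Agent.Lib.Helper89_AschSU_SU2Q
import Cfsg.Agent.Lib.Helper23_AschSU_UP7a

/-!
# S5663 package UP4e (helper97's unitary Aschbacher market): the tensor algebra `M_2 ⊗ 1` in
dimension 4 puts `H` into class 5.
-/

set_option autoImplicit false
set_option linter.unusedSectionVars false

namespace Cfsg.Agent.Lib.Helper49_AschSU_UP4e

open Cfsg Cfsg.Geo Matrix Cfsg.Agent.Lib.Helper98_AschDefs Cfsg.Agent.Lib.Helper23_FormDefs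
open Cfsg.Agent.Lib.Helper97_SUDefs
open scoped Kronecker

variable {F : Type*} [Field F]

section sesq

variable {κ : Type} [Fintype κ]

lemma isSesq_formOfGram (σ : F ≃+* F) (G : Matrix κ κ F) : IsSesq σ (formOfGram σ G) where
  add_left x y v := by
    simp only [formOfGram, Pi.add_apply, add_mul, Finset.sum_add_distrib]
  smul_left c x v := by
    simp only [formOfGram, Pi.smul_apply, smul_eq_mul, Finset.mul_sum]
    exact Finset.sum_congr rfl fun a _ => Finset.sum_congr rfl fun b _ => by ring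
  add_right v x y := by
    simp only [formOfGram, Pi.add_apply, map_add, mul_add, Finset.sum_add_distrib]
  smul_right c v x := by
    simp only [formOfGram, Pi.smul_apply, smul_eq_mul, map_mul, Finset.mul_sum]
    exact Finset.sum_congr rfl fun a _ => Finset.sum_congr rfl fun b _ => by ring

lemma isSesq_comp {σ : F ≃+* F} {g : (κ → F) → (κ → F) → F} (hg : IsSesq σ g)
    (M : Matrix κ κ F) : IsSesq σ (fun x y => g (M *ᵥ x) (M *ᵥ y)) where
  add_left x y v := by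
    simp only [Matrix.mulVec_add]
    exact hg.add_left _ _ _
  smul_left c x v := by
    simp only [Matrix.mulVec_smul]
    exact hg.smul_left _ _ _
  add_right v x y := by
    simp only [Matrix.mulVec_add]
    exact hg.add_right _ _ _
  smul_right c v x := by
    simp only [Matrix.mulVec_smul]
    exact hg.smul_right _ _ _

lemma isSesq_smul {σ : F ≃+* F} {g : (κ → F) → (κ → F) → F} (hg : IsSesq σ g)
    (l : F) : IsSesq σ (fun x y => l * g x y) where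
  add_left x y v := by
    simp only [hg.add_left, mul_add]
  smul_left c x v := by
    simp only [hg.smul_left]
    ring
  add_right v x y := by
    simp only [hg.add_right, mul_add]
  smul_right c v x := by
    simp only [hg.smul_right]
    ring

lemma sesq_ext [DecidableEq κ] {σ : F ≃+* F} {g g' : (κ → F) → (κ → F) → F}
    (hg : IsSesq σ g) (hg' : IsSesq σ g')
    (h : ∀ a b, g (Pi.single a 1) (Pi.single b 1) = g' (Pi.single a 1) (Pi.single b 1))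
    (x y : κ → F) : g x y = g' x y := by
  rw [Cfsg.Agent.Lib.Helper52_Form_F4.sesq_eq_formOfGram hg,
    Cfsg.Agent.Lib.Helper52_Form_F4.sesq_eq_formOfGram hg']
  have : (Matrix.of fun a b => g (Pi.single a 1) (Pi.single b 1)) =
      (Matrix.of fun a b => g' (Pi.single a 1) (Pi.single b 1)) := by
    ext a b
    exact h a b
  rw [this]

end sesq

section pow

variable [Fintype F] {q : ℕ} {κ : Type} [Fintype κ] [DecidableEq κ]

lemma isSesq_of_pow (hF : Fintype.card F = q ^ 2) {f : (κ → F) → (κ → F) → F}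
    (hf : IsUnitaryFormPow q f) : IsSesq (sigmaQ hF) f where
  add_left := hf.add_left
  smul_left := hf.smul_left
  add_right v x y := by
    rw [hf.herm v (x + y), hf.add_left, Cfsg.Agent.Lib.Helper13_Herm.add_pow_q hF, ← hf.herm,
      ← hf.herm]
  smul_right c v x := by
    rw [hf.herm v (c • x), hf.smul_left, mul_pow, ← hf.herm]
    rfl

end pow

section ten

open Cfsg.Agent.Lib.Helper94_TensorVec

variable {κ₁ κ₂ : Type} [Fintype κ₁] [Fintype κ₂] [DecidableEq κ₁] [DecidableEq κ₂]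

lemma single_eq_ten (i : κ₁) (j : κ₂) :
    (Pi.single (i, j) (1 : F) : κ₁ × κ₂ → F) = ten (Pi.single i 1) (Pi.single j 1) := by
  ext ⟨i', j'⟩
  simp only [ten_apply, Pi.single_apply, Prod.mk.injEq]
  by_cases h1 : i' = i <;> by_cases h2 : j' = j <;> simp [h1, h2]

variable [Fintype F] {q : ℕ}

/-- similitudes of the factors give a similitude of the tensor form -/
lemma Phi_simil (hF : Fintype.card F = q ^ 2)
    (f₁ : (κ₁ → F) → (κ₁ → F) → F) (f₂ : (κ₂ → F) → (κ₂ → F) → F)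
    (hf₁ : IsUnitaryFormPow q f₁) (hf₂ : IsUnitaryFormPow q f₂)
    (a : Matrix κ₁ κ₁ F) (b : Matrix κ₂ κ₂ F) (l m : F)
    (ha : ∀ u v, f₁ (a *ᵥ u) (a *ᵥ v) = l * f₁ u v)
    (hb : ∀ u v, f₂ (b *ᵥ u) (b *ᵥ v) = m * f₂ u v) (x y : κ₁ × κ₂ → F) :
    formOfGram (fun t : F => t ^ q) (gramMatrix f₁ ⊗ₖ gramMatrix f₂) ((a ⊗ₖ b) *ᵥ x)
        ((a ⊗ₖ b) *ᵥ y) =
      (l * m) * formOfGram (fun t : F => t ^ q) (gramMatrix f₁ ⊗ₖ gramMatrix f₂) x y := by
  have hS : IsSesq (sigmaQ hF) (formOfGram (sigmaQ hF) (gramMatrix f₁ ⊗ₖ gramMatrix f₂)) :=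
    isSesq_formOfGram _ _
  have key := sesq_ext (isSesq_comp hS (a ⊗ₖ b)) (isSesq_smul hS (l * m)) ?_ x y
  · exact key
  · rintro ⟨i, j⟩ ⟨i', j'⟩
    simp only [single_eq_ten, kron_mulVec_ten]
    have e1 := Cfsg.Agent.Lib.Helper94_TensorFrameU.formOfGram_ten_pow
      ((sigmaQ hF : F ≃+* F) : F →+* F) (fun _ => rfl) f₁ f₂ hf₁ hf₂
    change formOfGram (fun t : F => t ^ q) _ _ _ = (l * m) * formOfGram (fun t : F => t ^ q) _ _ _
    rw [e1, e1, ha, hb]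
    ring

end ten

section geom

open Cfsg.Agent.Lib.Helper34_OrthOdd_OP4b Cfsg.Agent.Lib.Helper94_TensorVec

variable {n d s : ℕ} (e : Fin n ≃ Fin d × Fin s) (P : GL (Fin n) F)

/-- the coordinate map `x ↦ P (x ∘ e)` -/
def Lmap (x : Fin d × Fin s → F) : Fin n → F := (P : Matrix (Fin n) (Fin n) F) *ᵥ (x ∘ e)

lemma Lmap_surj (u : Fin n → F) : ∃ x, u = Lmap e P x := by
  refine ⟨(((P⁻¹ : GL (Fin n) F) : Matrix (Fin n) (Fin n) F) *ᵥ u) ∘ e.symm, ?_⟩
  unfold Lmap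
  have h1 : ((((P⁻¹ : GL (Fin n) F) : Matrix (Fin n) (Fin n) F) *ᵥ u) ∘ e.symm) ∘ e =
      ((P⁻¹ : GL (Fin n) F) : Matrix (Fin n) (Fin n) F) *ᵥ u := by
    ext i
    simp
  rw [h1, Matrix.mulVec_mulVec, ← Units.val_mul, mul_inv_cancel, Units.val_one, Matrix.one_mulVec]

/-- the embedding of pairs as conjugated Kronecker products -/
def Theta (a : GL (Fin d) F) (b : GL (Fin s) F) : GL (Fin n) F :=
  P * glReindex e.symm (kronGL a b) * P⁻¹

lemma kronGL_one : kronGL (1 : GL (Fin d) F) (1 : GL (Fin s) F) = 1 := by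
  apply Units.ext
  rw [kronGL_val]
  simp

lemma Theta_mul (a a' : GL (Fin d) F) (b b' : GL (Fin s) F) :
    Theta e P (a * a') (b * b') = Theta e P a b * Theta e P a' b' := by
  unfold Theta
  rw [kronGL_mul, map_mul]
  group

/-- `Theta` as a homomorphism -/
def ThetaHom : GL (Fin d) F × GL (Fin s) F →* GL (Fin n) F where
  toFun p := Theta e P p.1 p.2
  map_one' := by
    change Theta e P 1 1 = 1
    unfold Theta
    rw [kronGL_one, map_one]
    group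
  map_mul' p p' := Theta_mul e P p.1 p'.1 p.2 p'.2

lemma ThetaHom_apply (a : GL (Fin d) F) (b : GL (Fin s) F) : ThetaHom e P (a, b) = Theta e P a b :=
  rfl

lemma Theta_act (a : GL (Fin d) F) (b : GL (Fin s) F) (x : Fin d × Fin s → F) :
    ((Theta e P a b : GL (Fin n) F) : Matrix (Fin n) (Fin n) F) *ᵥ Lmap e P x =
      Lmap e P (((a : Matrix (Fin d) (Fin d) F) ⊗ₖ (b : Matrix (Fin s) (Fin s) F)) *ᵥ x) := by
  unfold Theta Lmap
  rw [Units.val_mul, Units.val_mul, Matrix.mulVec_mulVec, Matrix.mul_assoc, Matrix.mul_assoc,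
    ← Units.val_mul, inv_mul_cancel, Units.val_one, Matrix.mul_one, ← Matrix.mulVec_mulVec,
    glReindex_symm_val, reindex_mulVec, kronGL_val]

variable [Fintype F] {q : ℕ}

/-- membership of `Theta a b` in `GU` in terms of the tensor form -/
lemma Theta_mem_GU_iff
    (f₁ : (Fin d → F) → (Fin d → F) → F) (f₂ : (Fin s → F) → (Fin s → F) → F)
    (hten : IsTensorFormStructure (fun t : F => t ^ q) (hermForm n F q) f₁ f₂ e P)
    (a : GL (Fin d) F) (b : GL (Fin s) F) :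
    Theta e P a b ∈ GU n F q ↔ ∀ x y : Fin d × Fin s → F,
      formOfGram (fun t : F => t ^ q) (gramMatrix f₁ ⊗ₖ gramMatrix f₂)
        (((a : Matrix (Fin d) (Fin d) F) ⊗ₖ (b : Matrix (Fin s) (Fin s) F)) *ᵥ x)
        (((a : Matrix (Fin d) (Fin d) F) ⊗ₖ (b : Matrix (Fin s) (Fin s) F)) *ᵥ y) =
      formOfGram (fun t : F => t ^ q) (gramMatrix f₁ ⊗ₖ gramMatrix f₂) x y := by
  obtain ⟨c, hc, hform⟩ := hten
  have hform' : ∀ x y, hermForm n F q (Lmap e P x) (Lmap e P y) =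
      c * formOfGram (fun t : F => t ^ q) (gramMatrix f₁ ⊗ₖ gramMatrix f₂) x y := hform
  rw [Cfsg.Agent.Lib.Helper13_GU.mem_GU_iff]
  constructor
  · intro h x y
    have h1 := h (Lmap e P x) (Lmap e P y)
    rw [Theta_act, Theta_act, hform', hform'] at h1
    exact mul_left_cancel₀ hc h1
  · intro h u v
    obtain ⟨x, rfl⟩ := Lmap_surj e P u
    obtain ⟨y, rfl⟩ := Lmap_surj e P v
    rw [Theta_act, Theta_act, hform', hform', h]

end geom

section simil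

open Cfsg.Agent.Lib.Helper94_TensorVec

variable {κ₁ κ₂ : Type} [Fintype κ₁] [Fintype κ₂] [DecidableEq κ₁] [DecidableEq κ₂]
variable [Fintype F] {q : ℕ}

/-- an isometry `a ⊗ b` of the tensor form has similitudes as factors -/
lemma simil_of_Phi (hF : Fintype.card F = q ^ 2)
    (f₁ : (κ₁ → F) → (κ₁ → F) → F) (f₂ : (κ₂ → F) → (κ₂ → F) → F)
    (hf₁ : IsUnitaryFormPow q f₁) (hf₂ : IsUnitaryFormPow q f₂) (i₁ : κ₁) (i₂ : κ₂)
    (a : Matrix κ₁ κ₁ F) (b : Matrix κ₂ κ₂ F)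
    (h : ∀ x y : κ₁ × κ₂ → F,
      formOfGram (fun t : F => t ^ q) (gramMatrix f₁ ⊗ₖ gramMatrix f₂) ((a ⊗ₖ b) *ᵥ x)
        ((a ⊗ₖ b) *ᵥ y) =
      formOfGram (fun t : F => t ^ q) (gramMatrix f₁ ⊗ₖ gramMatrix f₂) x y) :
    (∃ l : F, ∀ u v, f₁ (a *ᵥ u) (a *ᵥ v) = l * f₁ u v) ∧
      (∃ m : F, ∀ u v, f₂ (b *ᵥ u) (b *ᵥ v) = m * f₂ u v) := by
  have e1 := Cfsg.Agent.Lib.Helper94_TensorFrameU.formOfGram_ten_pow
    ((sigmaQ hF : F ≃+* F) : F →+* F) (fun _ => rfl) f₁ f₂ hf₁ hf₂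
  have star : ∀ u₁ v₁ u₂ v₂, f₁ (a *ᵥ u₁) (a *ᵥ v₁) * f₂ (b *ᵥ u₂) (b *ᵥ v₂) =
      f₁ u₁ v₁ * f₂ u₂ v₂ := by
    intro u₁ v₁ u₂ v₂
    have h1 := h (ten u₁ u₂) (ten v₁ v₂)
    rw [kron_mulVec_ten, kron_mulVec_ten, e1, e1] at h1
    exact h1
  have hne₁ : (Pi.single i₁ (1 : F) : κ₁ → F) ≠ 0 := by
    intro h0
    have := congrFun h0 i₁
    simp at this
  have hne₂ : (Pi.single i₂ (1 : F) : κ₂ → F) ≠ 0 := by
    intro h0
    have := congrFun h0 i₂
    simp at this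
  obtain ⟨p₁, hp₁⟩ := (hf₁.nondegenerate _ hne₁).1
  obtain ⟨p₂, hp₂⟩ := (hf₂.nondegenerate _ hne₂).1
  set r₁ : κ₁ → F := Pi.single i₁ 1
  set r₂ : κ₂ → F := Pi.single i₂ 1
  have hprod : f₁ p₁ r₁ * f₂ p₂ r₂ ≠ 0 := mul_ne_zero hp₁ hp₂
  have hm₀ : f₂ (b *ᵥ p₂) (b *ᵥ r₂) ≠ 0 := by
    intro h0
    have := star p₁ r₁ p₂ r₂
    rw [h0, mul_zero] at this
    exact hprod this.symm
  have hl₀ : f₁ (a *ᵥ p₁) (a *ᵥ r₁) ≠ 0 := by
    intro h0
    have := star p₁ r₁ p₂ r₂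
    rw [h0, zero_mul] at this
    exact hprod this.symm
  constructor
  · refine ⟨f₂ p₂ r₂ / f₂ (b *ᵥ p₂) (b *ᵥ r₂), fun u v => ?_⟩
    have := star u v p₂ r₂
    field_simp
    linear_combination this
  · refine ⟨f₁ p₁ r₁ / f₁ (a *ᵥ p₁) (a *ᵥ r₁), fun u v => ?_⟩
    have := star p₁ r₁ u v
    field_simp
    linear_combination this

end simil

section SUf

variable {κ : Type} [Fintype κ] [DecidableEq κ]

/-- the determinant-one isometries of a form -/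
def SUf (f : (κ → F) → (κ → F) → F) : Subgroup (GL κ F) where
  carrier := {a | (∀ u v, f ((a : Matrix κ κ F) *ᵥ u) ((a : Matrix κ κ F) *ᵥ v) = f u v) ∧
    (a : Matrix κ κ F).det = 1}
  mul_mem' := by
    rintro a b ⟨ha, ha'⟩ ⟨hb, hb'⟩
    refine ⟨fun u v => ?_, ?_⟩
    · rw [Units.val_mul, ← Matrix.mulVec_mulVec, ← Matrix.mulVec_mulVec, ha, hb]
    · rw [Units.val_mul, Matrix.det_mul, ha', hb', mul_one]
  one_mem' := ⟨fun u v => by simp, by simp⟩
  inv_mem' := by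
    rintro a ⟨ha, ha'⟩
    have hmul : (a : Matrix κ κ F) * ((a⁻¹ : GL κ F) : Matrix κ κ F) = 1 := by
      rw [← Units.val_mul, mul_inv_cancel, Units.val_one]
    refine ⟨fun u v => ?_, ?_⟩
    · rw [← ha (((a⁻¹ : GL κ F) : Matrix κ κ F) *ᵥ u), Matrix.mulVec_mulVec, Matrix.mulVec_mulVec,
        hmul, Matrix.one_mulVec, Matrix.one_mulVec]
    · have h1 := congrArg Matrix.det hmul
      rw [Matrix.det_mul, ha', one_mul, Matrix.det_one] at h1
      exact h1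

lemma mem_SUf {f : (κ → F) → (κ → F) → F} {a : GL κ F} :
    a ∈ SUf f ↔ (∀ u v, f ((a : Matrix κ κ F) *ᵥ u) ((a : Matrix κ κ F) *ᵥ v) = f u v) ∧
      (a : Matrix κ κ F).det = 1 := Iff.rfl

/-- conjugating a determinant-one isometry by a similitude -/
lemma conj_mem_SUf {f : (κ → F) → (κ → F) → F} {a₀ a : GL κ F} (l : F)
    (h₀ : ∀ u v, f ((a₀ : Matrix κ κ F) *ᵥ u) ((a₀ : Matrix κ κ F) *ᵥ v) = l * f u v)
    (ha : a ∈ SUf f) : a₀ * a * a₀⁻¹ ∈ SUf f := by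
  obtain ⟨ha1, ha2⟩ := ha
  have hmul : (a₀ : Matrix κ κ F) * ((a₀⁻¹ : GL κ F) : Matrix κ κ F) = 1 := by
    rw [← Units.val_mul, mul_inv_cancel, Units.val_one]
  refine ⟨fun u v => ?_, ?_⟩
  · rw [Units.val_mul, Units.val_mul, ← Matrix.mulVec_mulVec, ← Matrix.mulVec_mulVec,
      ← Matrix.mulVec_mulVec, ← Matrix.mulVec_mulVec, h₀, ha1, ← h₀, Matrix.mulVec_mulVec,
      Matrix.mulVec_mulVec, hmul, Matrix.one_mulVec, Matrix.one_mulVec]
  · rw [Units.val_mul, Units.val_mul, Matrix.det_mul, Matrix.det_mul, ha2, mul_one,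
      ← Matrix.det_mul, hmul, Matrix.det_one]

end SUf

section explicit

variable [Fintype F] {q : ℕ}

/-- an element of order `q + 1`: `ω ^ (q + 1) = 1` and `ω ^ q ≠ ω` -/
lemma exists_omega (hF : Fintype.card F = q ^ 2) : ∃ ω : F, ω ^ (q + 1) = 1 ∧ ω ^ q ≠ ω := by
  have hq2 := Cfsg.Agent.Lib.Helper13_Herm.two_le_q hF
  have hcard : Nat.card F = q ^ 2 := by rw [Nat.card_eq_fintype_card, hF]
  have hdvd : (q + 1) ∣ Nat.card F - 1 := by
    rw [hcard]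
    refine ⟨q - 1, ?_⟩
    obtain ⟨k, rfl⟩ : ∃ k, q = k + 1 := ⟨q - 1, by omega⟩
    rw [Nat.add_sub_cancel]
    apply Nat.sub_eq_of_eq_add
    ring
  have hE : 2 ≤ Nat.card F := by
    rw [hcard]
    nlinarith
  obtain ⟨z, hz⟩ := Cfsg.Agent.Lib.Helper40_UProj6.exists_unit_orderOf (E := F) (q + 1) hdvd hE
  refine ⟨(z : F), ?_, ?_⟩
  · have h1 : z ^ (q + 1) = 1 := by rw [← hz, pow_orderOf_eq_one]
    have h2 := congrArg (fun u : Fˣ => (u : F)) h1
    simpa using h2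
  · intro h
    have h1 : z ^ (q + 1) = 1 := by rw [← hz, pow_orderOf_eq_one]
    have h3 : (z : F) ^ 2 = 1 := by
      have h2 := congrArg (fun u : Fˣ => (u : F)) h1
      simp only [Units.val_pow_eq_pow_val, Units.val_one] at h2
      rw [pow_succ, h] at h2
      rw [pow_two]
      exact h2
    have h4 : z ^ 2 = 1 := by
      apply Units.ext
      simpa using h3
    have h5 := orderOf_dvd_of_pow_eq_one h4
    rw [hz] at h5
    have := Nat.le_of_dvd (by norm_num) h5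
    omega

/-- the special unitary matrix `[[α, β], [-β^q, α^q]]` -/
def suMat (α β : F) (h : α ^ (q + 1) + β ^ (q + 1) = 1) : GL (Fin 2) F :=
  Matrix.GeneralLinearGroup.mkOfDetNeZero !![α, β; -β ^ q, α ^ q] (by
    rw [Matrix.det_fin_two_of]
    have : α * α ^ q - β * -β ^ q = α ^ (q + 1) + β ^ (q + 1) := by ring
    rw [this, h]
    exact one_ne_zero)

lemma suMat_val (α β : F) (h : α ^ (q + 1) + β ^ (q + 1) = 1) :
    ((suMat α β h : GL (Fin 2) F) : Matrix (Fin 2) (Fin 2) F) = !![α, β; -β ^ q, α ^ q] := rfl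

lemma suMat_det (α β : F) (h : α ^ (q + 1) + β ^ (q + 1) = 1) :
    ((suMat α β h : GL (Fin 2) F) : Matrix (Fin 2) (Fin 2) F).det = 1 := by
  rw [suMat_val, Matrix.det_fin_two_of]
  have : α * α ^ q - β * -β ^ q = α ^ (q + 1) + β ^ (q + 1) := by ring
  rw [this, h]

lemma suMat_isom (hF : Fintype.card F = q ^ 2) (α β : F) (h : α ^ (q + 1) + β ^ (q + 1) = 1)
    (u v : Fin 2 → F) :
    hermForm 2 F q (((suMat α β h : GL (Fin 2) F) : Matrix (Fin 2) (Fin 2) F) *ᵥ u)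
      (((suMat α β h : GL (Fin 2) F) : Matrix (Fin 2) (Fin 2) F) *ᵥ v) = hermForm 2 F q u v := by
  have hmem : suMat α β h ∈ Cfsg.Agent.Lib.Helper46_GU2.GU F q := by
    rw [Cfsg.Agent.Lib.Helper46_GU2.mem_GU_iff hF, suMat_val]
    simp only [Matrix.of_apply, Matrix.cons_val', Matrix.cons_val_zero, Matrix.cons_val_one,
      Matrix.cons_val_fin_one]
    have hn := Cfsg.Agent.Lib.Helper13_Herm.neg_pow_q hF (β ^ q)
    have hpp := Cfsg.Agent.Lib.Helper13_Herm.pow_q_pow_q hF β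
    have hpa := Cfsg.Agent.Lib.Helper13_Herm.pow_q_pow_q hF α
    refine ⟨?_, ?_, ?_, ?_⟩
    · rw [hn, hpp]
      linear_combination h
    · rw [hpa]
      ring
    · rw [hn, hpp]
      ring
    · rw [hpa]
      linear_combination h
  exact (Cfsg.Agent.Lib.Helper46_GU2.mem_GU_def _).mp hmem u v

/-- the special unitary matrices span the `2 × 2` matrices -/
lemma span_suMat (hF : Fintype.card F = q ^ 2) (X : Matrix (Fin 2) (Fin 2) F) :
    X ∈ Submodule.span F {M : Matrix (Fin 2) (Fin 2) F | ∃ (α β : F)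
      (h : α ^ (q + 1) + β ^ (q + 1) = 1), M = ((suMat α β h : GL (Fin 2) F) :
        Matrix (Fin 2) (Fin 2) F)} := by
  obtain ⟨ω, hω1, hω2⟩ := exists_omega hF
  have hq0 : q + 1 ≠ 0 := by omega
  have hδ : ω - ω ^ q ≠ 0 := fun h0 => hω2 (sub_eq_zero.mp h0).symm
  have h10 : (1 : F) ^ (q + 1) + (0 : F) ^ (q + 1) = 1 := by rw [one_pow, zero_pow hq0, add_zero]
  have hw0 : ω ^ (q + 1) + (0 : F) ^ (q + 1) = 1 := by rw [hω1, zero_pow hq0, add_zero]
  have h01 : (0 : F) ^ (q + 1) + (1 : F) ^ (q + 1) = 1 := by rw [one_pow, zero_pow hq0, zero_add]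
  have h0w : (0 : F) ^ (q + 1) + ω ^ (q + 1) = 1 := by rw [hω1, zero_pow hq0, zero_add]
  set S := {M : Matrix (Fin 2) (Fin 2) F | ∃ (α β : F)
      (h : α ^ (q + 1) + β ^ (q + 1) = 1), M = ((suMat α β h : GL (Fin 2) F) :
        Matrix (Fin 2) (Fin 2) F)} with hS
  have m1 : ((suMat 1 0 h10 : GL (Fin 2) F) : Matrix (Fin 2) (Fin 2) F) ∈ Submodule.span F S :=
    Submodule.subset_span ⟨1, 0, h10, rfl⟩
  have m2 : ((suMat ω 0 hw0 : GL (Fin 2) F) : Matrix (Fin 2) (Fin 2) F) ∈ Submodule.span F S :=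
    Submodule.subset_span ⟨ω, 0, hw0, rfl⟩
  have m3 : ((suMat 0 1 h01 : GL (Fin 2) F) : Matrix (Fin 2) (Fin 2) F) ∈ Submodule.span F S :=
    Submodule.subset_span ⟨0, 1, h01, rfl⟩
  have m4 : ((suMat 0 ω h0w : GL (Fin 2) F) : Matrix (Fin 2) (Fin 2) F) ∈ Submodule.span F S :=
    Submodule.subset_span ⟨0, ω, h0w, rfl⟩
  have hX : X = ((-(X 0 0) * ω ^ q + X 1 1 * ω) / (ω - ω ^ q)) •
        ((suMat 1 0 h10 : GL (Fin 2) F) : Matrix (Fin 2) (Fin 2) F) +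
      ((X 0 0 - X 1 1) / (ω - ω ^ q)) •
        ((suMat ω 0 hw0 : GL (Fin 2) F) : Matrix (Fin 2) (Fin 2) F) +
      ((-(X 0 1) * ω ^ q - X 1 0 * ω) / (ω - ω ^ q)) •
        ((suMat 0 1 h01 : GL (Fin 2) F) : Matrix (Fin 2) (Fin 2) F) +
      ((X 0 1 + X 1 0) / (ω - ω ^ q)) •
        ((suMat 0 ω h0w : GL (Fin 2) F) : Matrix (Fin 2) (Fin 2) F) := by
    have hq0' : q ≠ 0 := by
      have := Cfsg.Agent.Lib.Helper13_Herm.two_le_q hF
      omega
    simp only [suMat_val]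
    ext i j
    fin_cases i <;> fin_cases j <;>
      simp [Matrix.add_apply, hq0'] <;> field_simp <;> ring
  rw [hX]
  exact Submodule.add_mem _ (Submodule.add_mem _ (Submodule.add_mem _
    (Submodule.smul_mem _ _ m1) (Submodule.smul_mem _ _ m2)) (Submodule.smul_mem _ _ m3))
    (Submodule.smul_mem _ _ m4)

end explicit

section Nprime

open Cfsg.Agent.Lib.Helper34_OrthOdd_OP4b

variable {n d s : ℕ} (e : Fin n ≃ Fin d × Fin s) (P : GL (Fin n) F)

lemma Theta_inv (a : GL (Fin d) F) (b : GL (Fin s) F) :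
    (Theta e P a b)⁻¹ = Theta e P a⁻¹ b⁻¹ := by
  have h := map_inv (ThetaHom e P) (a, b)
  exact h.symm

/-- the group `P (SU(f₁) ⊗ SU(f₂)) P⁻¹` -/
def Nsub (f₁ : (Fin d → F) → (Fin d → F) → F) (f₂ : (Fin s → F) → (Fin s → F) → F) :
    Subgroup (GL (Fin n) F) :=
  ((SUf f₁).prod (SUf f₂)).map (ThetaHom e P)

lemma mem_Nsub {f₁ : (Fin d → F) → (Fin d → F) → F} {f₂ : (Fin s → F) → (Fin s → F) → F}
    {g : GL (Fin n) F} :
    g ∈ Nsub e P f₁ f₂ ↔ ∃ a ∈ SUf f₁, ∃ b ∈ SUf f₂, g = Theta e P a b := by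
  unfold Nsub
  rw [Subgroup.mem_map]
  constructor
  · rintro ⟨⟨a, b⟩, hab, rfl⟩
    exact ⟨a, (Subgroup.mem_prod.mp hab).1, b, (Subgroup.mem_prod.mp hab).2, rfl⟩
  · rintro ⟨a, ha, b, hb, rfl⟩
    exact ⟨(a, b), Subgroup.mem_prod.mpr ⟨ha, hb⟩, rfl⟩

section fin

variable [Fintype F] {q : ℕ}

lemma Nsub_le_GU (hF : Fintype.card F = q ^ 2)
    (f₁ : (Fin d → F) → (Fin d → F) → F) (f₂ : (Fin s → F) → (Fin s → F) → F)
    (hf₁ : IsUnitaryFormPow q f₁) (hf₂ : IsUnitaryFormPow q f₂)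
    (hten : IsTensorFormStructure (fun t : F => t ^ q) (hermForm n F q) f₁ f₂ e P) :
    Nsub e P f₁ f₂ ≤ GU n F q := by
  intro g hg
  obtain ⟨a, ha, b, hb, rfl⟩ := (mem_Nsub e P).mp hg
  rw [Theta_mem_GU_iff e P f₁ f₂ hten]
  intro x y
  rw [Phi_simil hF f₁ f₂ hf₁ hf₂ _ _ 1 1 (fun u v => by rw [one_mul]; exact ha.1 u v)
    (fun u v => by rw [one_mul]; exact hb.1 u v), mul_one, one_mul]

lemma Nsub_normalized (hF : Fintype.card F = q ^ 2) (hd : 0 < d) (hs : 0 < s)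
    (f₁ : (Fin d → F) → (Fin d → F) → F) (f₂ : (Fin s → F) → (Fin s → F) → F)
    (hf₁ : IsUnitaryFormPow q f₁) (hf₂ : IsUnitaryFormPow q f₂)
    (hten : IsTensorFormStructure (fun t : F => t ^ q) (hermForm n F q) f₁ f₂ e P)
    (H : Subgroup (GL (Fin n) F)) (hH : H ≤ GU n F q)
    (A : Subalgebra F (Matrix (Fin n) (Fin n) F)) (hA : NormalizesAlg H A)
    (hT : IsTensorAlg A d s e P) : NormalizesGrp H (Nsub e P f₁ f₂) := by
  intro h hh x hx
  obtain ⟨a, ha, b, hb, rfl⟩ := (mem_Nsub e P).mp hx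
  obtain ⟨g, hhg, a₀, c₀, hac⟩ :=
    Cfsg.Agent.Lib.Helper52_Asch_PK2.exists_kron H A hA d s e P hT hd hs h hh
  have hg : g = kronGL a₀ c₀ := Units.ext (by rw [hac, kronGL_val])
  have hh' : h = Theta e P a₀ c₀ := by
    rw [hhg, hg]
    rfl
  have hmem : Theta e P a₀ c₀ ∈ GU n F q := hh' ▸ hH hh
  have hPhi := (Theta_mem_GU_iff e P f₁ f₂ hten a₀ c₀).mp hmem
  obtain ⟨⟨l, hl⟩, ⟨m, hm⟩⟩ := simil_of_Phi hF f₁ f₂ hf₁ hf₂ ⟨0, hd⟩ ⟨0, hs⟩ _ _ hPhi
  rw [mem_Nsub]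
  refine ⟨a₀ * a * a₀⁻¹, conj_mem_SUf l hl ha, c₀ * b * c₀⁻¹, conj_mem_SUf m hm hb, ?_⟩
  rw [hh', Theta_mul, Theta_mul, Theta_inv]

lemma Nsub_realisable (hF : Fintype.card F = q ^ 2)
    (f₁ : (Fin d → F) → (Fin d → F) → F) (f₂ : (Fin s → F) → (Fin s → F) → F)
    (B₁ : GL (Fin d) F) (B₂ : GL (Fin s) F)
    (hB₁ : ∀ g ∈ SUf f₁, ∀ i j, ((B₁ * g * B₁⁻¹ : GL (Fin d) F) : Matrix (Fin d) (Fin d) F) i j ^ q =
      ((B₁ * g * B₁⁻¹ : GL (Fin d) F) : Matrix (Fin d) (Fin d) F) i j)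
    (hB₂ : ∀ g ∈ SUf f₂, ∀ i j, ((B₂ * g * B₂⁻¹ : GL (Fin s) F) : Matrix (Fin s) (Fin s) F) i j ^ q =
      ((B₂ * g * B₂⁻¹ : GL (Fin s) F) : Matrix (Fin s) (Fin s) F) i j) :
    RealisableOver (Cfsg.Agent.Lib.Helper32_OrthOdd_OP7b.fixF (sigmaQ hF))
      (matrixSet (Nsub e P f₁ f₂)) := by
  refine ⟨glReindex e.symm (kronGL B₁ B₂) * P⁻¹, ?_⟩
  rintro _ ⟨g, hg, rfl⟩ i j
  obtain ⟨a, ha, b, hb, rfl⟩ := (mem_Nsub e P).mp hg
  have key : glReindex e.symm (kronGL B₁ B₂) * P⁻¹ * Theta e P a b *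
      (glReindex e.symm (kronGL B₁ B₂) * P⁻¹)⁻¹ =
      glReindex e.symm (kronGL (B₁ * a * B₁⁻¹) (B₂ * b * B₂⁻¹)) := by
    unfold Theta
    rw [kronGL_mul, kronGL_mul, ← kronGL_inv, map_mul, map_mul, map_inv]
    group
  rw [← Units.val_mul, ← Units.val_mul, key, Cfsg.Agent.Lib.Helper52_Asch_PK2.glReindex_val,
    kronGL_val, Matrix.kroneckerMap_apply, Cfsg.Agent.Lib.Helper32_OrthOdd_OP7b.mem_fixF,
    sigmaQ_apply, mul_pow, hB₁ a ha, hB₂ b hb]

end fin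

/-- the linear map `M ↦ P (reindex M) P⁻¹` -/
def Xi : Matrix (Fin d × Fin s) (Fin d × Fin s) F →ₗ[F] Matrix (Fin n) (Fin n) F where
  toFun M := (P : Matrix (Fin n) (Fin n) F) * Matrix.reindex e.symm e.symm M *
    ((P⁻¹ : GL (Fin n) F) : Matrix (Fin n) (Fin n) F)
  map_add' M M' := by
    simp only [Matrix.reindex_apply, Matrix.submatrix_add, Pi.add_apply, Matrix.mul_add,
      Matrix.add_mul]
  map_smul' c M := by
    simp only [Matrix.reindex_apply, Matrix.submatrix_smul, Pi.smul_apply, Matrix.mul_smul,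
      Matrix.smul_mul, RingHom.id_apply]

lemma Xi_apply (M : Matrix (Fin d × Fin s) (Fin d × Fin s) F) :
    Xi e P M = (P : Matrix (Fin n) (Fin n) F) * Matrix.reindex e.symm e.symm M *
      ((P⁻¹ : GL (Fin n) F) : Matrix (Fin n) (Fin n) F) := rfl

lemma Theta_val (a : GL (Fin d) F) (b : GL (Fin s) F) :
    ((Theta e P a b : GL (Fin n) F) : Matrix (Fin n) (Fin n) F) =
      Xi e P ((a : Matrix (Fin d) (Fin d) F) ⊗ₖ (b : Matrix (Fin s) (Fin s) F)) := by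
  unfold Theta
  rw [Units.val_mul, Units.val_mul, glReindex_symm_val, kronGL_val, Xi_apply]

lemma Xi_surj (M : Matrix (Fin n) (Fin n) F) : ∃ M', M = Xi e P M' := by
  refine ⟨Matrix.reindex e e (((P⁻¹ : GL (Fin n) F) : Matrix (Fin n) (Fin n) F) * M *
    (P : Matrix (Fin n) (Fin n) F)), ?_⟩
  rw [Xi_apply]
  have h1 : Matrix.reindex e.symm e.symm (Matrix.reindex e e
      (((P⁻¹ : GL (Fin n) F) : Matrix (Fin n) (Fin n) F) * M * (P : Matrix (Fin n) (Fin n) F))) =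
      ((P⁻¹ : GL (Fin n) F) : Matrix (Fin n) (Fin n) F) * M * (P : Matrix (Fin n) (Fin n) F) := by
    ext i j
    simp [Matrix.reindex_apply]
  have hPP : (P : Matrix (Fin n) (Fin n) F) * ((P⁻¹ : GL (Fin n) F) : Matrix (Fin n) (Fin n) F) = 1 := by
    rw [← Units.val_mul, mul_inv_cancel, Units.val_one]
  rw [h1]
  calc M = 1 * M * 1 := by rw [one_mul, mul_one]
    _ = _ := by
      rw [← hPP]
      simp only [Matrix.mul_assoc]

lemma kron_decomp (M' : Matrix (Fin d × Fin s) (Fin d × Fin s) F) :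
    M' = ∑ j : Fin s, ∑ j' : Fin s,
      (Matrix.of fun i i' => M' (i, j) (i', j')) ⊗ₖ (Matrix.single j j' (1 : F)) := by
  ext ⟨i, j⟩ ⟨i', j'⟩
  simp only [Matrix.sum_apply, Matrix.kroneckerMap_apply, Matrix.of_apply, Matrix.single_apply,
    mul_ite, mul_one, mul_zero]
  rw [Finset.sum_eq_single j]
  · rw [Finset.sum_eq_single j']
    · simp
    · intro b _ hb
      simp [hb]
    · intro h
      exact absurd (Finset.mem_univ _) h
  · intro b _ hb
    apply Finset.sum_eq_zero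
    intro c _
    simp [hb]
  · intro h
    exact absurd (Finset.mem_univ _) h

lemma Nsub_span (f₁ : (Fin d → F) → (Fin d → F) → F) (f₂ : (Fin s → F) → (Fin s → F) → F)
    (hsp₁ : ∀ X : Matrix (Fin d) (Fin d) F, X ∈ Submodule.span F
      {M : Matrix (Fin d) (Fin d) F | ∃ a ∈ SUf f₁, M = (a : Matrix (Fin d) (Fin d) F)})
    (hsp₂ : ∀ X : Matrix (Fin s) (Fin s) F, X ∈ Submodule.span F
      {M : Matrix (Fin s) (Fin s) F | ∃ a ∈ SUf f₂, M = (a : Matrix (Fin s) (Fin s) F)}) :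
    spanAlg (Nsub e P f₁ f₂) = ⊤ := by
  set T := Submodule.span F (matrixSet (Nsub e P f₁ f₂)) with hTdef
  have stepA : ∀ X : Matrix (Fin d) (Fin d) F, X ∈ Submodule.span F
      {M : Matrix (Fin d) (Fin d) F | ∃ a ∈ SUf f₁, M = (a : Matrix (Fin d) (Fin d) F)} →
      ∀ b ∈ SUf f₂, Xi e P (X ⊗ₖ (b : Matrix (Fin s) (Fin s) F)) ∈ T := by
    intro X hX b hb
    induction hX using Submodule.span_induction with
    | mem x hx =>
      obtain ⟨a, ha, rfl⟩ := hx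
      apply Submodule.subset_span
      exact ⟨Theta e P a b, (mem_Nsub e P).mpr ⟨a, ha, b, hb, rfl⟩, Theta_val e P a b⟩
    | zero =>
      rw [Matrix.zero_kronecker, map_zero]
      exact Submodule.zero_mem _
    | add x y _ _ hx hy =>
      rw [Matrix.add_kronecker, map_add]
      exact Submodule.add_mem _ hx hy
    | smul c x _ hx =>
      rw [Matrix.smul_kronecker, map_smul]
      exact Submodule.smul_mem _ c hx
  have stepB : ∀ (X : Matrix (Fin d) (Fin d) F) (Y : Matrix (Fin s) (Fin s) F),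
      Y ∈ Submodule.span F
        {M : Matrix (Fin s) (Fin s) F | ∃ a ∈ SUf f₂, M = (a : Matrix (Fin s) (Fin s) F)} →
      Xi e P (X ⊗ₖ Y) ∈ T := by
    intro X Y hY
    induction hY using Submodule.span_induction with
    | mem y hy =>
      obtain ⟨b, hb, rfl⟩ := hy
      exact stepA X (hsp₁ X) b hb
    | zero =>
      rw [Matrix.kronecker_zero, map_zero]
      exact Submodule.zero_mem _
    | add x y _ _ hx hy =>
      rw [Matrix.kronecker_add, map_add]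
      exact Submodule.add_mem _ hx hy
    | smul c x _ hx =>
      rw [Matrix.kronecker_smul, map_smul]
      exact Submodule.smul_mem _ c hx
  rw [eq_top_iff]
  intro M _
  rw [mem_spanAlg_iff]
  obtain ⟨M', rfl⟩ := Xi_surj e P M
  rw [kron_decomp M', map_sum]
  refine Submodule.sum_mem _ fun j _ => ?_
  rw [map_sum]
  refine Submodule.sum_mem _ fun j' _ => ?_
  exact stepB _ _ (hsp₂ _)

end Nprime

section final

variable [Fintype F] {q : ℕ}

/-- conjugating a special unitary matrix of the standard form into `SU(f₁)` -/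
lemma conj_UPH_mem {f₁ : (Fin 2 → F) → (Fin 2 → F) → F} (B : GL (Fin 2) F)
    (hB : ∀ x y : Fin 2 → F, f₁ ((B : Matrix (Fin 2) (Fin 2) F) *ᵥ x)
      ((B : Matrix (Fin 2) (Fin 2) F) *ᵥ y) = hermForm 2 F q x y)
    (a₀ : GL (Fin 2) F)
    (h₀ : ∀ u v, hermForm 2 F q ((a₀ : Matrix (Fin 2) (Fin 2) F) *ᵥ u)
      ((a₀ : Matrix (Fin 2) (Fin 2) F) *ᵥ v) = hermForm 2 F q u v)
    (hdet : (a₀ : Matrix (Fin 2) (Fin 2) F).det = 1) : B * a₀ * B⁻¹ ∈ SUf f₁ := by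
  have hmul : (B : Matrix (Fin 2) (Fin 2) F) * ((B⁻¹ : GL (Fin 2) F) : Matrix (Fin 2) (Fin 2) F) = 1 := by
    rw [← Units.val_mul, mul_inv_cancel, Units.val_one]
  refine ⟨fun u v => ?_, ?_⟩
  · rw [Units.val_mul, Units.val_mul, ← Matrix.mulVec_mulVec, ← Matrix.mulVec_mulVec,
      ← Matrix.mulVec_mulVec, ← Matrix.mulVec_mulVec, hB, h₀, ← hB, Matrix.mulVec_mulVec,
      Matrix.mulVec_mulVec, hmul, Matrix.one_mulVec, Matrix.one_mulVec]
  · rw [Units.val_mul, Units.val_mul, Matrix.det_mul, Matrix.det_mul, hdet, mul_one,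
      ← Matrix.det_mul, hmul, Matrix.det_one]

/-- `SU(f₁)` spans the `2 × 2` matrices -/
lemma span_SUf (hF : Fintype.card F = q ^ 2) (f₁ : (Fin 2 → F) → (Fin 2 → F) → F)
    (hf₁ : IsUnitaryFormPow q f₁) (X : Matrix (Fin 2) (Fin 2) F) :
    X ∈ Submodule.span F
      {M : Matrix (Fin 2) (Fin 2) F | ∃ a ∈ SUf f₁, M = (a : Matrix (Fin 2) (Fin 2) F)} := by
  obtain ⟨B, hB⟩ := Cfsg.Agent.Lib.Helper87_AschSU_UPH.UPH q hF 2 f₁ hf₁
  have hmul : (B : Matrix (Fin 2) (Fin 2) F) * ((B⁻¹ : GL (Fin 2) F) : Matrix (Fin 2) (Fin 2) F) = 1 := by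
    rw [← Units.val_mul, mul_inv_cancel, Units.val_one]
  have key : ∀ Y : Matrix (Fin 2) (Fin 2) F, Y ∈ Submodule.span F
      {M : Matrix (Fin 2) (Fin 2) F | ∃ (α β : F)
        (h : α ^ (q + 1) + β ^ (q + 1) = 1), M = ((suMat α β h : GL (Fin 2) F) :
          Matrix (Fin 2) (Fin 2) F)} →
      (B : Matrix (Fin 2) (Fin 2) F) * Y * ((B⁻¹ : GL (Fin 2) F) : Matrix (Fin 2) (Fin 2) F) ∈
        Submodule.span F
          {M : Matrix (Fin 2) (Fin 2) F | ∃ a ∈ SUf f₁, M = (a : Matrix (Fin 2) (Fin 2) F)} := by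
    intro Y hY
    induction hY using Submodule.span_induction with
    | mem y hy =>
      obtain ⟨α, β, h, rfl⟩ := hy
      apply Submodule.subset_span
      refine ⟨B * suMat α β h * B⁻¹,
        conj_UPH_mem B hB _ (suMat_isom hF α β h) (suMat_det α β h), ?_⟩
      rw [Units.val_mul, Units.val_mul]
    | zero =>
      rw [Matrix.mul_zero, Matrix.zero_mul]
      exact Submodule.zero_mem _
    | add x y _ _ hx hy =>
      rw [Matrix.mul_add, Matrix.add_mul]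
      exact Submodule.add_mem _ hx hy
    | smul c x _ hx =>
      rw [Matrix.mul_smul, Matrix.smul_mul]
      exact Submodule.smul_mem _ c hx
  have h1 := key _ (span_suMat hF
    (((B⁻¹ : GL (Fin 2) F) : Matrix (Fin 2) (Fin 2) F) * X * (B : Matrix (Fin 2) (Fin 2) F)))
  have h2 : (B : Matrix (Fin 2) (Fin 2) F) *
      (((B⁻¹ : GL (Fin 2) F) : Matrix (Fin 2) (Fin 2) F) * X * (B : Matrix (Fin 2) (Fin 2) F)) *
      ((B⁻¹ : GL (Fin 2) F) : Matrix (Fin 2) (Fin 2) F) = X := by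
    calc _ = ((B : Matrix (Fin 2) (Fin 2) F) * ((B⁻¹ : GL (Fin 2) F) : Matrix (Fin 2) (Fin 2) F)) * X *
        ((B : Matrix (Fin 2) (Fin 2) F) * ((B⁻¹ : GL (Fin 2) F) : Matrix (Fin 2) (Fin 2) F)) := by
          simp only [Matrix.mul_assoc]
      _ = X := by rw [hmul, one_mul, mul_one]
  rwa [h2] at h1

/-- UP4e: the tensor algebra `M_2 ⊗ 1` in dimension 4: class 5 -/
theorem UP4e (n q : ℕ) (hF : Fintype.card F = q ^ 2) (hn : 3 ≤ n)
    (H : Subgroup (GL (Fin n) F)) (hH : H ≤ GU n F q)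
    (A : Subalgebra F (Matrix (Fin n) (Fin n) F)) (hA : NormalizesAlg H A)
    (hadj : IsAdjointClosedFor (hermForm n F q) A)
    (e : Fin n ≃ Fin 2 × Fin 2) (P : GL (Fin n) F) (hT : IsTensorAlg A 2 2 e P) :
    InSUClass n q H := by
  obtain ⟨G₁, G₂, hG₁, hG₂, hG⟩ := Cfsg.Agent.Lib.Helper52_Form_F4.F4 (sigmaQ hF) (hermForm n F q)
    (isSesq_hermForm n hF) (hermForm_nondegenerate n hF) A hadj 2 2 e P hT
  obtain ⟨f₁, f₂, hf₁, hf₂, hten⟩ := Cfsg.Agent.Lib.Helper10_AschSU_UP4F.UP4F n q hF 2 2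
    (by norm_num) (by norm_num) e P G₁ G₂ hG₁ hG₂ hG
  obtain ⟨B₁, hB₁⟩ := Cfsg.Agent.Lib.Helper89_AschSU_SU2Q.SU2Q q hF f₁ hf₁
  obtain ⟨B₂, hB₂⟩ := Cfsg.Agent.Lib.Helper89_AschSU_SU2Q.SU2Q q hF f₂ hf₂
  refine Cfsg.Agent.Lib.Helper23_AschSU_UP7a.UP7a n q hF hn H (Nsub e P f₁ f₂) hH
    (Nsub_le_GU e P hF f₁ f₂ hf₁ hf₂ hten)
    (Nsub_normalized e P hF (by norm_num) (by norm_num) f₁ f₂ hf₁ hf₂ hten H hH A hA hT)
    (Nsub_span e P f₁ f₂ (span_SUf hF f₁ hf₁) (span_SUf hF f₂ hf₂))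
    (Cfsg.Agent.Lib.Helper32_OrthOdd_OP7b.fixF (sigmaQ hF))
    (Cfsg.Agent.Lib.Helper32_OrthOdd_OP7b.fixF_ne_top _ (sigmaQ_ne_refl hF))
    (Nsub_realisable e P hF f₁ f₂ B₁ B₂ (fun g hg => hB₁ g hg.1 hg.2) (fun g hg => hB₂ g hg.1 hg.2))

end final

end Cfsg.Agent.Lib.Helper49_AschSU_UP4e
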