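import Cfsg.Agent.Lib.Helper24_CoprimeAction

/-!
# Generic lemmas for Bender–Glauberman Lemma 13.8 (asymmetry) (helper49)

* `exists_mul_of_mem_centralizer`: if `M = I A` with `A` normal in `M` and `P ≤ I` acts coprimely on `A`,
  then `C_M(P) = C_A(P) C_I(P)` (elementwise form).
-/

set_option autoImplicit false

namespace Cfsg.Agent.Lib.Helper49_BG138a

open Subgroup

universe u

variable {G : Type u} [Group G] [Finite G]

/-- **`C_M(P) = C_A(P) C_I(P)`** when `M = I A`, `A ⊴ M`, `P ≤ I` and `P` acts coprimely on `A`. -/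
theorem exists_mul_of_mem_centralizer {P A I M : Subgroup G} (_hAM : A ≤ M)
    (hAn : M ≤ normalizer (A : Set G)) (hIM : I ≤ M) (hPI : P ≤ I)
    (hfac : ∀ m ∈ M, ∃ i ∈ I, ∃ a ∈ A, m = i * a) (hcop : (Nat.card P).Coprime (Nat.card A))
    (hsolv : Group.IsSolvable P ∨ Group.IsSolvable A) :
    ∀ c ∈ centralizer (P : Set G) ⊓ M, ∃ x ∈ A ⊓ centralizer (P : Set G),
      ∃ w ∈ centralizer (P : Set G) ⊓ I, c = x * w := by
  rintro c ⟨hcP, hcM⟩
  obtain ⟨i, hi, a, ha, rfl⟩ := hfac c hcM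
  have hiM : i ∈ M := hIM hi
  -- the subgroup `J = A ∩ I`
  set J : Subgroup G := A ⊓ I with hJ
  have hIJ : I ≤ normalizer (J : Set G) := by
    intro y hy
    rw [mem_normalizer_iff]
    intro z
    have hyA := hAn (hIM hy)
    rw [mem_normalizer_iff] at hyA
    constructor
    · rintro ⟨h1, h2⟩
      exact ⟨(hyA z).mp h1, I.mul_mem (I.mul_mem hy h2) (I.inv_mem hy)⟩
    · rintro ⟨h1, h2⟩
      refine ⟨(hyA z).mpr h1, ?_⟩
      have := I.mul_mem (I.mul_mem (I.inv_mem hy) h2) hy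
      have e : y⁻¹ * (y * z * y⁻¹) * y = z := by group
      rwa [e] at this
  have hPJ : P ≤ normalizer (J : Set G) := hPI.trans hIJ
  have hcopJ : (Nat.card P).Coprime (Nat.card J) :=
    hcop.coprime_dvd_right (Subgroup.card_dvd_of_le inf_le_left)
  have hsolvJ : Group.IsSolvable P ∨ Group.IsSolvable J :=
    hsolv.imp id (Cfsg.Agent.Lib.Helper24_CoprimeAction.isSolvable_of_le inf_le_left)
  have hfix : ∀ u ∈ P, i⁻¹ * (u * i * u⁻¹) ∈ J := by
    intro u hu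
    have huI : u ∈ I := hPI hu
    have huM : u ∈ M := hIM huI
    refine ⟨?_, I.mul_mem (I.inv_mem hi) (I.mul_mem (I.mul_mem huI hi) (I.inv_mem huI))⟩
    -- `u (i a) u⁻¹ = i a`
    have hc : u * (i * a) = (i * a) * u := (mem_centralizer_iff.mp hcP) u hu
    have hua : u * a * u⁻¹ ∈ A := (mem_normalizer_iff.mp (hAn huM) a).mp ha
    -- `i⁻¹ (u i u⁻¹) = a (u a u⁻¹)⁻¹`
    have e1 : i⁻¹ * (u * i * u⁻¹) = a * (u * a * u⁻¹)⁻¹ := by
      have h2 : u * i * u⁻¹ * (u * a * u⁻¹) = i * a := by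
        have : u * i * u⁻¹ * (u * a * u⁻¹) = u * (i * a) * u⁻¹ := by group
        rw [this, hc]; group
      have h3 : u * i * u⁻¹ = i * a * (u * a * u⁻¹)⁻¹ := by
        rw [← h2]; group
      rw [h3]; group
    rw [e1]
    exact A.mul_mem ha (A.inv_mem hua)
  obtain ⟨d, hd, hdP⟩ := Cfsg.Agent.Lib.Helper24_CoprimeAction.exists_fixed_in_coset P J hPJ hcopJ
    hsolvJ i hfix
  have hwP : i * d ∈ centralizer (P : Set G) := by
    rw [mem_centralizer_iff]
    intro u hu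
    exact hdP u hu
  refine ⟨i * a * (i * d)⁻¹, ⟨?_, ?_⟩, i * d, ⟨hwP, I.mul_mem hi hd.2⟩, by group⟩
  · -- `i a (i d)⁻¹ = i (a d⁻¹) i⁻¹`
    have h6 : a * d⁻¹ ∈ A := A.mul_mem ha (A.inv_mem hd.1)
    have h7 := (mem_normalizer_iff.mp (hAn hiM) _).mp h6
    have e3 : i * (a * d⁻¹) * i⁻¹ = i * a * (i * d)⁻¹ := by group
    rwa [e3] at h7
  · exact (centralizer (P : Set G)).mul_mem hcP ((centralizer (P : Set G)).inv_mem hwP)

end Cfsg.Agent.Lib.Helper49_BG138a
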