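import Cfsg.Agent.Lib.Helper62_BG137
import Cfsg.Agent.Lib.Helper31_BG13b
import Cfsg.Agent.Lib.Helper39_BG134c
import Cfsg.Agent.Lib.Helper30_SigmaPart
import Cfsg.Agent.Lib.Helper48_SPE
import Cfsg.Agent.S1417

/-!
# Bender–Glauberman Theorem 13.9 (the `σ`-partition) from Lemma 13.8 (asymmetry) (helper49)

`sigma_part_of_asym`: in a minimal simple group of odd order, two maximal subgroups `M`, `N` with
`σ(M) ∩ σ(N) ≠ ∅` are conjugate, given

* `h28 : H1428 G` (the frozen statement S1428 = B–G 13.4), and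
* `hAsym : Asym G` (B–G Lemma 13.8, the asymmetry lemma, as a hypothesis).

Route: a common Sylow `s`-subgroup `S` of `G` with `N_G(S) ≤ M ∩ N` is abelian (S1422); a complement
`E` of `M_σ` normalizing `S` has `C_S(E) = 1` (S1426 + S1423) and `E'` centralizes `S` (normal
`s`-complement of `M'`); `τ₂(M) = ∅`, so `E = E₁ E'` for a Hall `τ₁(M)`-subgroup `E₁`, and a subgroup
`P ≤ E₁` of prime order `p` has `C_S(P) = 1` (S1427 + S1428).  Then `p ∈ τ₁(N)` by B–G 13.1(a), and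
the asymmetry lemma applies with `Q = Q* = S`.
-/

set_option autoImplicit false

namespace Cfsg.Agent.Lib.Helper49_BG139

open Subgroup Cfsg Cfsg.Agent.Lib.Helper22_Radical Cfsg.Agent.Lib.Helper22_BGTrans
  Cfsg.Agent.Lib.Helper84_RelSylow Cfsg.Agent.Lib.Helper49_Sigma
  Cfsg.Agent.Lib.Helper49_SigmaDisjoint
  Cfsg.Agent.Lib.Helper24_CoprimeHall
  Cfsg.Agent.Lib.Helper76_BG13a Cfsg.Agent.Lib.Helper76_BG13b Cfsg.Agent.Lib.Helper76_BG13c
  Cfsg.Agent.Lib.Helper23_BG13Hyp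

universe u

variable {G : Type u} [Group G] [Finite G]

/-- B–G Lemma 13.8 (asymmetry), as a hypothesis. -/
def Asym (G : Type u) [Group G] [Finite G] : Prop :=
  ∀ (M Ms : Subgroup G), IsCoatom M → IsCoatom Ms →
    (∀ g : G, Ms ≠ M.map (MulAut.conj g).toMonoidHom) →
  ∀ (p q qs : ℕ), p.Prime → q.Prime → qs.Prime → p ∈ tau1 M → p ∈ tau1 Ms →
  ∀ (P Q Qs : Subgroup G), Nat.card P = p → P ≤ M ⊓ Ms →
    Cfsg.Agent.Lib.Helper48_SPE.IsSylowIn q Q (M ⊓ Ms) →
    Cfsg.Agent.Lib.Helper48_SPE.IsSylowIn qs Qs (M ⊓ Ms) →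
    P ≤ normalizer (Q : Set G) → P ≤ normalizer (Qs : Set G) →
    Q ⊓ centralizer (P : Set G) = ⊥ → Qs ⊓ centralizer (P : Set G) = ⊥ →
    normalizer (Q : Set G) ≤ Ms → normalizer (Qs : Set G) ≤ M → False

/-- the `σ`-partition, as a Prop (second conjunct of the frozen statement S1378) -/
def SigmaPart (G : Type u) [Group G] [Finite G] : Prop :=
  ∀ M N : Subgroup G, IsCoatom M → IsCoatom N → (sigma M ∩ sigma N).Nonempty →
    ∃ g : G, N = M.map (MulAut.conj g).toMonoidHom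

omit [Finite G] in
/-- a relative Sylow subgroup (index form) is one in the maximality form -/
theorem isSylowIn_spe {p : ℕ} [Fact p.Prime] {T H : Subgroup G} (h : IsSylowIn p T H) :
    Cfsg.Agent.Lib.Helper48_SPE.IsSylowIn p T H :=
  ⟨h.1, h.2.1, fun _ hR hTR hRH => h.eq_of_le hTR hRH hR⟩

omit [Finite G] in
theorem le_centralizer_symm {A B : Subgroup G} (h : A ≤ centralizer (B : Set G)) :
    B ≤ centralizer (A : Set G) := by
  intro b hb
  rw [mem_centralizer_iff]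
  intro a ha
  exact ((mem_centralizer_iff.mp (h ha)) b hb).symm

/-- the primes dividing `|M|` outside `σ(M)` lie in `τ₁(M)`, `τ₂(M)` or `τ₃(M)` -/
theorem mem_tau_of_not_mem_sigma (hG : IsMinSimpleOddOrder G) {M : Subgroup G} (hM : IsCoatom M)
    {r : ℕ} (hr : r.Prime) (hrM : r ∣ Nat.card M) (hrσ : r ∉ sigma M) :
    r ∈ tau1 M ∨ r ∈ tau2 M ∨ r ∈ tau3 M := by
  have hU := uniqHyp hG
  by_cases h2 : PRankLE r 2 ↥M
  · by_cases h1 : PRankLE r 1 ↥M
    · by_cases h3 : r ∣ Nat.card ↥⁅M, M⁆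
      · exact Or.inr (Or.inr ⟨hr, hrσ, h3, h1⟩)
      · exact Or.inl ⟨hr, hrσ, hrM, h3, h1⟩
    · exact Or.inr (Or.inl ⟨hr, hrσ, h2, h1⟩)
  · exact absurd (Cfsg.Agent.Lib.Helper49_Alpha.mem_sigma_of_mem_alpha hG hU hM ⟨hr, h2⟩) hrσ

/-- the core: `M`, `N` non-conjugate with a common Sylow `s`-subgroup `S` of `G` whose normalizer lies in
both -/
theorem core (hG : IsMinSimpleOddOrder G) (h28 : H1428 G) (hAsym : Asym G) {M N : Subgroup G}
    (hM : IsCoatom M) (hN : IsCoatom N) {s : ℕ} [Fact s.Prime] (hsM : s ∈ sigma M)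
    (hsN : s ∈ sigma N) {S : Subgroup G} (hSM : SylM s M S) (hSN : SylM s N S)
    (hnc : ∀ g : G, N ≠ cj g M) : False := by
  have hss : s.Prime := Fact.out
  have hU := uniqHyp hG
  have hnc' : ∀ g : G, M ≠ cj g N := by
    intro g h
    apply hnc g⁻¹
    rw [h, cj_inv_cj]
  have hMN : N ≠ M := by
    intro h
    apply hnc 1
    rw [cj_one', h]
  have hHM := sigma_hall hG hM
  have hHN := sigma_hall hG hN
  have hnilM : ¬ Group.IsNilpotent ↥(sigmaCore M) :=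
    fun h => sigma_inter_sigma hG hM hN hnc h hHM hsM hsN
  -- `τ₂(M) = ∅`
  have hτ2 : ∀ p : ℕ, p ∉ tau2 M := by
    intro p hp
    have : Fact p.Prime := ⟨hp.1⟩
    obtain ⟨A, hAM, hAe, hA2⟩ := Cfsg.Agent.Lib.Helper49_Alpha3.exists_elemAb_sq hp.2.2.1 hp.2.2.2
    exact hnilM (Cfsg.Agent.S1417.result hG M hM p hp A ⟨hAM, hAe, hA2⟩).1
  have hsα : s ∉ alpha M := fun h => alpha_inter_sigma hG hM hN hnc h hsN
  have hsβ : s ∉ beta M := fun h => hsα h.1
  have hSp : IsPGroup s S := hSM.1.isPGroup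
  have hSK : S ≤ sigmaCore M := le_sigmaCore_of_isPGroup' hG hM hsM hSp hSM.2.1
  have hSsyl : IsSylowIn s S (sigmaCore M) := hSM.1.mono hSK le_top
  have hS1 : S ≠ ⊥ := by
    intro h
    have h1 := hSM.1.not_dvd
    rw [h, Subgroup.relIndex_bot_left] at h1
    apply h1
    rw [Subgroup.card_top]
    exact hsM.2.1.trans (Subgroup.card_subgroup_dvd_card M)
  obtain ⟨E, hE, hES⟩ := Cfsg.Agent.Lib.Helper30_SigmaPartB.exists_compl_le_normalizer hHM hSsyl
  have hsolvE : Group.IsSolvable ↥E := isSolvable_of_le hG hM hE.1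
  -- `C_S(E) = 1`
  have hCSE : S ⊓ centralizer (E : Set G) = ⊥ := by
    by_contra hne
    obtain ⟨X, hXle, hXc⟩ := Cfsg.Agent.Lib.Helper62_BG117.exists_le_card_eq_prime
      (hSp.to_le inf_le_left) hne
    have hXder : X ≤ ⁅sigmaCore M, sigmaCore M⁆ := by
      refine le_trans ?_ (Cfsg.Agent.S1426.result hG M hM E hE).1
      exact hXle.trans (inf_le_inf_right _ hSK)
    have h23 := (Cfsg.Agent.S1423.result hG M hM s hsM X ((hXle.trans inf_le_left).trans hSM.2.1) hXc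
      hSsyl.toSylow (Or.inr hXder)).2.1
    rw [hSsyl.coe_toSylow, Subgroup.map_subgroupOf_eq_of_le hSK] at h23
    obtain ⟨L, -, hL⟩ := h23
    have e1 := hL M ⟨hM, hSM.2.1⟩
    have e2 := hL N ⟨hN, hSN.2.1⟩
    exact hMN (e2.trans e1.symm)
  -- `E'` centralizes `S`
  have hE'S : ⁅E, E⁆ ≤ centralizer (S : Set G) :=
    Cfsg.Agent.Lib.Helper62_BG137.commutator_le_centralizer hG hM hsM hsβ hE hSp hSM.2.1 hES
  -- a Hall `τ₁(M)`-subgroup of `E`
  obtain ⟨E₁, hE₁⟩ := exists_piHall (tau1 M) E hsolvE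
  have hEle : E ≤ E₁ ⊔ ⁅E, E⁆ := by
    apply Cfsg.Agent.Lib.Helper62_BG117.le_of_forall_sylow_le
    intro q hq
    have : Fact q.Prime := ⟨hq⟩
    by_cases hqE : q ∣ Nat.card E
    · have hqσ : q ∉ sigma M := fun h =>
        Cfsg.Agent.Lib.Helper62_BG137.not_dvd_card_compl hG hM hE hq h hqE
      have hqM : q ∣ Nat.card M := hqE.trans (Subgroup.card_dvd_of_le hE.1)
      rcases mem_tau_of_not_mem_sigma hG hM hq hqM hqσ with h | h | h
      · obtain ⟨T, -, hT⟩ := exists_isSylowIn_ge (p := q) (H := E₁) (K := ⊥) bot_le IsPGroup.of_bot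
        refine ⟨T, hT.le.trans le_sup_left, hT.le.trans hE₁.1, ?_⟩
        rw [← Subgroup.relIndex_mul_relIndex T E₁ E hT.le hE₁.1]
        intro hd
        rcases (Nat.Prime.dvd_mul hq).mp hd with h1 | h1
        · exact hT.2.2 h1
        · rw [relIndex_eq_div hE₁.1] at h1
          exact hE₁.2.2 q hq h h1
      · exact absurd h (hτ2 q)
      · obtain ⟨T, -, hT⟩ := exists_isSylowIn_ge (p := q) (H := E) (K := ⊥) bot_le IsPGroup.of_bot
        exact ⟨T, (Cfsg.Agent.Lib.Helper31_BG13b.le_commutator_of_tau3 hG hM hE h hT.le hT.2.1).trans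
          le_sup_right, hT.le, hT.2.2⟩
    · refine ⟨⊥, bot_le, bot_le, ?_⟩
      rw [Subgroup.relIndex_bot_left]
      exact hqE
  have hE₁1 : E₁ ≠ ⊥ := by
    intro h
    rw [h, bot_sup_eq] at hEle
    have h1 : S ≤ centralizer (E : Set G) := le_centralizer_symm (hEle.trans hE'S)
    apply hS1
    rw [← le_bot_iff, ← hCSE]
    exact le_inf le_rfl h1
  -- a subgroup `P ≤ E₁` of prime order `p ∈ τ₁(M)`
  have hcardE₁ : Nat.card E₁ ≠ 1 := fun h => hE₁1 (Subgroup.card_eq_one.mp h)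
  obtain ⟨p, hp, hpE₁⟩ := Nat.exists_prime_and_dvd hcardE₁
  have : Fact p.Prime := ⟨hp⟩
  have hpτ : p ∈ tau1 M := hE₁.2.1 p hp hpE₁
  obtain ⟨x, hx⟩ := exists_prime_orderOf_dvd_card' p hpE₁
  set P : Subgroup G := zpowers (x : G) with hPdef
  have hPE₁ : P ≤ E₁ := by rw [hPdef, zpowers_le]; exact x.2
  have hPc : Nat.card P = p := by rw [hPdef, Nat.card_zpowers, Subgroup.orderOf_coe, hx]
  have hPE : P ≤ E := hPE₁.trans hE₁.1
  have hPp : IsPGroup p P := IsPGroup.of_card (n := 1) (by rw [hPc, pow_one])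
  -- `C_S(P) = 1`
  have hCSP : S ⊓ centralizer (P : Set G) = ⊥ := by
    set X : Subgroup G := S ⊓ centralizer (P : Set G) with hX
    have h1 : E₁ ≤ centralizer (X : Set G) :=
      Cfsg.Agent.Lib.Helper62_BG137.hall_tau1_le_centralizer hG h28 hM hE hpτ hPc hE₁ hPE₁
        (inf_le_left.trans hSK) inf_le_right
    have h2 : ⁅E, E⁆ ≤ centralizer (X : Set G) :=
      hE'S.trans (Subgroup.centralizer_le (by exact_mod_cast (inf_le_left : X ≤ S)))
    have h3 : E ≤ centralizer (X : Set G) := hEle.trans (sup_le h1 h2)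
    rw [← le_bot_iff, ← hCSE]
    exact le_inf inf_le_left (le_centralizer_symm h3)
  -- `P ≤ N`, `p ∈ τ₁(N)`
  have hPNS : P ≤ normalizer (S : Set G) := hPE.trans hES
  have hPM : P ≤ M := hPE.trans hE.1
  have hPN : P ≤ N := hPNS.trans hSN.2.2
  have hpN : p ∈ tau1 N := by
    by_contra hnot
    have h1 := Cfsg.Agent.Lib.Helper31_BG131.le_centralizer_of_not_tau1 hG hM hN hnc' hpτ.2.1 hnot
      hPM hPN hPp
    have h2 : P ≤ centralizer (S : Set G) :=
      h1.trans (Subgroup.centralizer_le (by exact_mod_cast (le_inf hSK hSN.2.1 : S ≤ sigmaCore M ⊓ N)))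
    apply hS1
    rw [← le_bot_iff, ← hCSP]
    exact le_inf le_rfl (le_centralizer_symm h2)
  -- asymmetry with `Q = Q* = S`
  have hSI : Cfsg.Agent.Lib.Helper48_SPE.IsSylowIn s S (M ⊓ N) :=
    isSylowIn_spe (hSM.1.mono (le_inf hSM.2.1 hSN.2.1) le_top)
  exact hAsym M N hM hN hnc p s s hp hss hss hpτ hpN P S S hPc (le_inf hPM hPN) hSI hSI hPNS hPNS
    hCSP hCSP hSN.2.2 hSM.2.2

/-- **B–G Theorem 13.9 (the `σ`-partition) from the asymmetry lemma 13.8 and S1428.** -/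
theorem sigma_part_of_asym (hG : IsMinSimpleOddOrder G) (h28 : H1428 G) (hAsym : Asym G) :
    SigmaPart G := by
  rintro M N hM hN ⟨p, hpM, hpN⟩
  by_contra hnc
  push Not at hnc
  have hpp : p.Prime := hpM.1
  have : Fact p.Prime := ⟨hpp⟩
  obtain ⟨P, hP⟩ := exists_sylM hpM
  obtain ⟨Q, hQ⟩ := exists_sylM hpN
  obtain ⟨g, hg⟩ := exists_cj_eq_of_isSylowIn_top hP.1 hQ.1
  have hN' : IsCoatom (cj g⁻¹ N) := Cfsg.Agent.Lib.Helper22_Uniq.isCoatom_cj hN g⁻¹
  have hPN' : SylM p (cj g⁻¹ N) P := by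
    refine ⟨hP.1, ?_, ?_⟩
    · have := cj_mono (k := g⁻¹) hQ.2.1
      rwa [hg, cj_inv_cj] at this
    · have := cj_mono (k := g⁻¹) hQ.2.2
      rwa [← normalizer_cj, hg, cj_inv_cj] at this
  have hP1 : P ≠ ⊥ := by
    intro h
    have h1 := hP.1.not_dvd
    rw [h, Subgroup.relIndex_bot_left] at h1
    apply h1
    rw [Subgroup.card_top]
    exact hpM.2.1.trans (Subgroup.card_subgroup_dvd_card M)
  have hpN' : p ∈ sigma (cj g⁻¹ N) :=
    Cfsg.Agent.Lib.Helper49_Alpha3.mem_sigma_of_normalizer_le (hP.1.mono hPN'.2.1 le_top) hP1 hPN'.2.2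
  refine core hG h28 hAsym hM hN' hpM hpN' hP hPN' ?_
  intro h heq
  apply hnc (g * h)
  show N = cj (g * h) M
  rw [cj_mul, ← heq, cj_cj_inv]

end Cfsg.Agent.Lib.Helper49_BG139
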