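import Cfsg.Agent.Lib.Helper49_BG95Defs
import Cfsg.Agent.S1393
import Cfsg.Agent.S1395
import Cfsg.Agent.S1396
import Cfsg.Agent.S1401
import Cfsg.Agent.S1451
import Cfsg.Agent.Lib.Helper22_Hyperplane
import Cfsg.Agent.Lib.Helper22_Uniq6
import Cfsg.Agent.Lib.Helper22_BGTransUp
import Cfsg.Agent.Lib.Helper22_BGTransRank
import Cfsg.Agent.Lib.Helper24_Coprime
import Cfsg.Agent.Lib.Helper24_CoprimeAction
import Cfsg.Agent.Lib.Helper32_Nilpotent
import Cfsg.Agent.Lib.Helper2_PRank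

/-!
# Bender-Glauberman 9.5: the main argument (helper49)

The main argument (Case N / Case D) of the uniqueness theorem for `A ∈ SCN_3(P)`, taking the auxiliary lemmas
(alpha-prime, alpha-alpha, criterion (C)) as hypotheses in the shapes of `Helper49_BG95Defs`.
-/

set_option autoImplicit false

namespace Cfsg.Agent.Lib.Helper49_BG95

open Subgroup Cfsg Cfsg.Agent.Lib.Helper49_BG95Defs

variable {G : Type*} [Group G]

/-! ### maximal subgroups whose Fitting subgroup has rank at most two -/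

section beta

variable [Finite G]

/-- the derived group of a maximal subgroup whose Fitting subgroup has rank at most two is nilpotent -/
theorem isNilpotent_commutator_of_beta (hG : IsMinSimpleOddOrder G) {H : Subgroup G} (hH : IsCoatom H)
    (hβ : RankLE 2 ↥(fittingOf H)) : Group.IsNilpotent ↥⁅H, H⁆ := by
  have hs : Group.IsSolvable ↥H := hG.2.2.2 H hH.1
  have hodd : Odd (Nat.card ↥H) := Cfsg.Agent.Lib.Helper22_Uniq.odd_card_subgroup hG H
  have hr : RankLE 2 ↥(fittingSubgroup ↥H) := by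
    intro q hq
    exact Cfsg.Agent.Lib.Helper2_PRank.pRankLE_of_injective' q 2
      ((fittingSubgroup ↥H).equivMapOfInjective H.subtype H.subtype_injective).toMonoidHom
      (MulEquiv.injective _) (hβ q hq)
  have h1 : Group.IsNilpotent ↥(commutator ↥H) := (Cfsg.Agent.S1451.result hodd (Or.inr hr)).1
  have h2 : ⁅H, H⁆ = (commutator ↥H).map H.subtype := (Subgroup.map_subtype_commutator H).symm
  rw [h2]
  exact (Group.isNilpotent_congr
    ((commutator ↥H).equivMapOfInjective H.subtype H.subtype_injective)).mp h1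

/-- subgroups of coprime prime power orders of the derived group commute -/
theorem beta_commute (hG : IsMinSimpleOddOrder G) {H : Subgroup G} (hH : IsCoatom H)
    (hβ : RankLE 2 ↥(fittingOf H)) {s q : ℕ} (hs : s.Prime) (hq : q.Prime) (hsq : s ≠ q)
    {X Y : Subgroup G} (hX : X ≤ ⁅H, H⁆) (hY : Y ≤ ⁅H, H⁆) (hXs : IsPGroup s X) (hYq : IsPGroup q Y) :
    Y ≤ centralizer (X : Set G) := by
  have := isNilpotent_commutator_of_beta hG hH hβ
  intro y hy
  rw [mem_centralizer_iff]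
  intro x hx
  obtain ⟨a, ha⟩ := hXs ⟨x, hx⟩
  obtain ⟨b, hb⟩ := hYq ⟨y, hy⟩
  have ha' : x ^ s ^ a = 1 := by
    have := congrArg Subtype.val ha
    simpa using this
  have hb' : y ^ q ^ b = 1 := by
    have := congrArg Subtype.val hb
    simpa using this
  have hcop : (s ^ a).Coprime (q ^ b) := Nat.Coprime.pow _ _ ((Nat.coprime_primes hs hq).mpr hsq)
  have := Cfsg.Agent.Lib.Helper32_Nilpotent.commute_of_coprime_pow_eq_one ↥⁅H, H⁆
    ⟨x, hX hx⟩ ⟨y, hY hy⟩ (s ^ a) (q ^ b) (Subtype.ext (by simpa using ha'))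
    (Subtype.ext (by simpa using hb')) hcop
  exact congrArg Subtype.val this.eq

/-- an element of order dividing `p` of the derived group centralizes the normal `p'`-subgroups -/
theorem beta_central (hG : IsMinSimpleOddOrder G) {H : Subgroup G} (hH : IsCoatom H)
    (hβ : RankLE 2 ↥(fittingOf H)) {p : ℕ} (hp : p.Prime) {z : G} (hz : z ∈ ⁅H, H⁆) (hzp : z ^ p = 1)
    {Y : Subgroup G} (hYH : Y ≤ H) (hHY : H ≤ normalizer (Y : Set G)) (hpY : ¬ p ∣ Nat.card Y) :
    Y ≤ centralizer ({z} : Set G) := by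
  have := isNilpotent_commutator_of_beta hG hH hβ
  have hDH : ⁅H, H⁆ ≤ H := Cfsg.Agent.Lib.Helper22_BGTransUp.commutator_self_le H
  have hzH : z ∈ H := hDH hz
  intro y hy
  rw [mem_centralizer_singleton_iff]
  have hwY : z * y * z⁻¹ * y⁻¹ ∈ Y := by
    have h1 : z * y * z⁻¹ ∈ Y := (mem_normalizer_iff.mp (hHY hzH) y).mp hy
    exact Y.mul_mem h1 (Y.inv_mem hy)
  have hwD : z * y * z⁻¹ * y⁻¹ ∈ ⁅H, H⁆ := by
    have := Subgroup.commutator_mem_commutator hzH (hYH hy)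
    rwa [commutatorElement_def] at this
  have hwk : (z * y * z⁻¹ * y⁻¹) ^ Nat.card Y = 1 := by
    have h1 : (⟨_, hwY⟩ : Y) ^ Nat.card Y = 1 := pow_card_eq_one'
    have h2 := congrArg Subtype.val h1
    rwa [Subgroup.coe_pow, Subgroup.coe_one] at h2
  have hcopY : p.Coprime (Nat.card Y) := (Nat.Prime.coprime_iff_not_dvd hp).mpr hpY
  have hcomm := Cfsg.Agent.Lib.Helper32_Nilpotent.commute_of_coprime_pow_eq_one ↥⁅H, H⁆
    ⟨z, hz⟩ ⟨_, hwD⟩ p (Nat.card Y) (Subtype.ext (by simpa using hzp))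
    (Subtype.ext (by simpa using hwk)) hcopY
  have hcomm' : z * (z * y * z⁻¹ * y⁻¹) = (z * y * z⁻¹ * y⁻¹) * z := congrArg Subtype.val hcomm.eq
  have hord : (orderOf z).Coprime (Nat.card Y) :=
    Nat.Coprime.coprime_dvd_left (orderOf_dvd_of_pow_eq_one hzp) hcopY
  exact (Cfsg.Agent.Lib.Helper24_Coprime.commute_of_coprime_commutator z y hcomm' (Nat.card Y) hwk hord).symm

end beta

/-! ### plumbing -/

section plumbing

variable [Finite G]

open Cfsg.Agent.Lib.Helper22_BGTrans in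
/-- if `M` contains `K_A` and one maximal `A`-invariant `q`-subgroup, and `K_A` is transitive on these, then `M`
contains every `A`-invariant `q`-subgroup -/
theorem le_of_max_le {A M : Subgroup G} {q : ℕ} (hq : q.Prime)
    (htr : ∀ Q₁ ∈ maxInvSubgroups ⊤ A {q}, ∀ Q₂ ∈ maxInvSubgroups ⊤ A {q},
      ∃ k ∈ piCoreOf (primesNotDvd (Nat.card A)) (centralizer (A : Set G)),
        Q₂ = Q₁.map (MulAut.conj k).toMonoidHom)
    (hK : piCoreOf (primesNotDvd (Nat.card A)) (centralizer (A : Set G)) ≤ M)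
    {Q₀ : Subgroup G} (hQ₀ : Q₀ ∈ maxInvSubgroups ⊤ A {q}) (hQ₀M : Q₀ ≤ M)
    {Q : Subgroup G} (hQ : IsPGroup q Q) (hAQ : A ≤ normalizer (Q : Set G)) : Q ≤ M := by
  obtain ⟨Q₁, hQ₁, hle⟩ := exists_max_ge hq hQ hAQ
  obtain ⟨k, hk, rfl⟩ := htr Q₀ hQ₀ Q₁ hQ₁
  intro x hx
  obtain ⟨y, hy, rfl⟩ := hle hx
  show k * y * k⁻¹ ∈ M
  exact M.mul_mem (M.mul_mem (hK hk) (hQ₀M hy)) (M.inv_mem (hK hk))

omit [Finite G] in
/-- two subgroups of index at most `p` in a group of order at least `p ^ 3` meet nontrivially -/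
theorem exists_mem_inf_ne_one {p : ℕ} (hp : p.Prime) {Astar B B1 : Subgroup G} (h3 : p ^ 3 ≤ Nat.card Astar)
    (hB : B ≤ Astar) (hBi : B.relIndex Astar ≤ p) (hB1i : B1.relIndex Astar ≤ p) :
    ∃ x ∈ B ⊓ B1, x ≠ 1 := by
  by_contra hcon
  push Not at hcon
  have hbot : B ⊓ B1 = ⊥ := by
    rw [eq_bot_iff]
    intro x hx
    rw [mem_bot]
    exact hcon x hx
  have h1 : (B ⊓ B1).relIndex Astar ≤ B.relIndex Astar * B1.relIndex Astar := Subgroup.relIndex_inf_le
  have h2 := Cfsg.Agent.Lib.Helper22_Hyperplane.card_mul_relIndex (inf_le_left.trans hB : B ⊓ B1 ≤ Astar)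
  rw [hbot, Subgroup.card_bot, one_mul] at h2
  rw [hbot] at h1
  have h4 : p ^ 3 ≤ p * p := by
    calc p ^ 3 ≤ Nat.card Astar := h3
      _ = (⊥ : Subgroup G).relIndex Astar := h2.symm
      _ ≤ B.relIndex Astar * B1.relIndex Astar := h1
      _ ≤ p * p := Nat.mul_le_mul hBi hB1i
  have h5 : p * p < p ^ 3 := by
    have := hp.two_le
    calc p * p = p * p * 1 := by ring
      _ < p * p * p := by
        apply Nat.mul_lt_mul_of_pos_left (by omega) (by positivity)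
      _ = p ^ 3 := by ring
  omega

end plumbing

/-! ### the main argument -/

section main

variable [Finite G]

open Cfsg.Agent.Lib.Helper22_BGTrans Cfsg.Agent.Lib.Helper22_Uniq

/-- **Case N**: an alpha-type `H₁` with the configuration `(N)` contains every `A`-invariant `q`-subgroup. -/
theorem caseN (hG : IsMinSimpleOddOrder G) (p : ℕ) [hp : Fact p.Prime] (P : Sylow p G) (A : Subgroup G)
    (hAc : ∀ a ∈ A, ∀ b ∈ A, a * b = b * a)
    (Astar : Subgroup G) (hAs : Astar ≤ A) (hexp : ∀ a ∈ Astar, a ^ p = 1) (h3 : p ^ 3 ≤ Nat.card Astar)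
    (z : G) (hzA : z ∈ Astar)
    (hzN : z ∈ ⁅normalizer ((P : Subgroup G) : Set G), normalizer ((P : Subgroup G) : Set G)⁆)
    (hgood : AlphaGood (P : Subgroup G) A Astar) (haa : AlphaAlpha G)
    (hnop : ∀ H : Subgroup G, IsCoatom H → PRankLE p 2 ↥(fittingOf H))
    {H₁ : Subgroup G} {s₁ : ℕ} (hα₁ : IsAlphaType A H₁ s₁)
    {S E B1 : Subgroup G} (hSs : IsPGroup s₁ S) (hSH : S ≤ H₁) (hHS : H₁ ≤ normalizer (S : Set G))
    (hES : E ≤ S) (hE1 : E ≠ ⊥) (hEz : E ≤ ⁅E, zpowers z⁆) (_hB1 : B1 ≤ Astar) (hB1i : B1.relIndex Astar ≤ p)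
    (hB1E : B1 ≤ centralizer (E : Set G)) (hCE : centralizer (E : Set G) ≤ H₁)
    {q : ℕ} (hq : q.Prime) (hqp : q ≠ p) {Q : Subgroup G} (hQ : IsPGroup q Q)
    (hAQ : A ≤ normalizer (Q : Set G)) : Q ≤ H₁ := by
  have hpp : p.Prime := hp.out
  obtain ⟨hH₁, hAH₁, hs₁, hF₁⟩ := hα₁
  have hs₁p : s₁ ≠ p := by
    rintro rfl
    exact hF₁ (hnop H₁ hH₁)
  obtain ⟨⟨b, hbA, hCb⟩, hinv₁, hNP₁⟩ := hgood H₁ s₁ ⟨hH₁, hAH₁, hs₁, hF₁⟩
  by_cases hqs : q = s₁
  · subst hqs
    exact hinv₁ Q hQ hAQ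
  -- `q ≠ s₁`
  have hAsc : ∀ a ∈ Astar, ∀ b ∈ Astar, a * b = b * a := fun a ha b hb => hAc a (hAs ha) b (hAs hb)
  have hpQ : ¬ p ∣ Nat.card Q := by
    have : Fact q.Prime := ⟨hq⟩
    obtain ⟨n, hn⟩ := IsPGroup.iff_card.mp hQ
    rw [hn]
    intro hdvd
    exact hqp ((Nat.prime_dvd_prime_iff_eq hpp hq).mp (hpp.dvd_of_dvd_pow hdvd)).symm
  have hAsQ : Astar ≤ normalizer (Q : Set G) := hAs.trans hAQ
  have hgen := Cfsg.Agent.Lib.Helper22_Hyperplane.le_iSup_centralizer_hyperplanes p Astar Q hAsc hexp hpQ hAsQ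
  refine hgen.trans (iSup_le ?_)
  rintro ⟨B, hBA, hBi⟩
  show Q ⊓ centralizer (B : Set G) ≤ H₁
  set QB : Subgroup G := Q ⊓ centralizer (B : Set G) with hQB
  obtain ⟨x, hx, hx1⟩ := exists_mem_inf_ne_one hpp h3 hBA hBi hB1i
  have hxB : x ∈ B := (mem_inf.mp hx).1
  have hxB1 : x ∈ B1 := (mem_inf.mp hx).2
  have hxA : x ∈ A := hAs (hBA hxB)
  have hCx : centralizer ({x} : Set G) ≠ ⊤ :=
    Cfsg.Agent.Lib.Helper22_BGTransRank.centralizer_singleton_ne_top hG hx1
  obtain ⟨H₃, hH₃, hCH₃⟩ := exists_isCoatom_ge hCx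
  -- `A`, `E`, `Q_B` lie in `C_G(x)`
  have hAx : A ≤ centralizer ({x} : Set G) := by
    intro a ha
    rw [mem_centralizer_singleton_iff]
    exact hAc a ha x hxA
  have hEx : E ≤ centralizer ({x} : Set G) := by
    intro e he
    rw [mem_centralizer_singleton_iff]
    exact ((mem_centralizer_iff.mp (hB1E hxB1)) e he)
  have hQx : QB ≤ centralizer ({x} : Set G) := by
    intro y hy
    rw [mem_centralizer_singleton_iff]
    exact ((mem_centralizer_iff.mp (mem_inf.mp hy).2) x hxB).symm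
  have hAH₃ : A ≤ H₃ := hAx.trans hCH₃
  have hEH₃ : E ≤ H₃ := hEx.trans hCH₃
  have hQH₃ : QB ≤ H₃ := hQx.trans hCH₃
  have hzH₃ : z ∈ H₃ := hAH₃ (hAs hzA)
  have hEs : IsPGroup s₁ E := hSs.to_le hES
  by_cases hβ : RankLE 2 ↥(fittingOf H₃)
  · -- `H₃` of beta type
    have hED : E ≤ ⁅H₃, H₃⁆ :=
      hEz.trans (Subgroup.commutator_mono hEH₃ ((zpowers_le).mpr hzH₃))
    have hAsQB : Astar ≤ normalizer (QB : Set G) := by
      intro a ha
      exact Cfsg.Agent.Lib.Helper22_Hyperplane.mem_normalizer_inf_centralizer (hAsQ ha)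
        (fun d hd => hAsc a ha d (hBA hd))
    have hYQB : ⁅QB, Astar⁆ ≤ QB := Subgroup.commutator_le.mpr (by
      intro y hy a ha
      rw [commutatorElement_def]
      have h1 : a * y⁻¹ * a⁻¹ ∈ QB := (mem_normalizer_iff.mp (hAsQB ha) y⁻¹).mp (QB.inv_mem hy)
      have h2 : y * a * y⁻¹ * a⁻¹ = y * (a * y⁻¹ * a⁻¹) := by group
      rw [h2]
      exact QB.mul_mem hy h1)
    have hYD : ⁅QB, Astar⁆ ≤ ⁅H₃, H₃⁆ := Subgroup.commutator_mono hQH₃ (hAs.trans hAH₃)
    have hYq : IsPGroup q ↥⁅QB, Astar⁆ := hQ.to_le (hYQB.trans inf_le_left)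
    have hYE : ⁅QB, Astar⁆ ≤ centralizer (E : Set G) :=
      beta_commute hG hH₃ hβ hs₁ hq (Ne.symm hqs) hED hYD hEs hYq
    have hAsp : IsPGroup p Astar := by
      intro a
      refine ⟨1, ?_⟩
      apply Subtype.ext
      rw [pow_one, Subgroup.coe_pow, Subgroup.coe_one]
      exact hexp a.1 a.2
    have hcop : (Nat.card Astar).Coprime (Nat.card QB) := by
      obtain ⟨n, hn⟩ := IsPGroup.iff_card.mp hAsp
      rw [hn]
      apply Nat.Coprime.pow_left
      rw [Nat.Prime.coprime_iff_not_dvd hpp]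
      intro hdvd
      exact hpQ (hdvd.trans (Subgroup.card_dvd_of_le inf_le_left))
    have hsolv : Group.IsSolvable Astar ∨ Group.IsSolvable QB := by
      left
      have := hAsp.isNilpotent
      infer_instance
    intro k hk
    obtain ⟨d, hd, c, hc, rfl⟩ :=
      Cfsg.Agent.Lib.Helper24_CoprimeAction.coprime_decomp Astar QB hAsQB hcop hsolv hk
    apply H₁.mul_mem (hCE (hYE hd))
    apply hCb
    exact centralizer_le (Set.singleton_subset_iff.mpr hbA) (mem_inf.mp hc).2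
  · -- `H₃` of alpha type
    unfold RankLE at hβ
    push Not at hβ
    obtain ⟨s₃, hs₃, hF₃⟩ := hβ
    have hα₃ : IsAlphaType A H₃ s₃ := ⟨hH₃, hAH₃, hs₃, hF₃⟩
    obtain ⟨-, -, hNP₃⟩ := hgood H₃ s₃ hα₃
    by_cases h13 : H₁ = H₃
    · rw [h13]; exact hQH₃
    exfalso
    have hU : ∀ E' : Subgroup G, E' ≤ S → IsElementaryAbelian s₁ E' → s₁ ^ 3 ≤ Nat.card E' →
        InUniqueMaximal E' := by
      intro E' _ hE'e hE'3
      have : Fact s₁.Prime := ⟨hs₁⟩
      have hE'c : ∀ a ∈ E', ∀ b ∈ E', a * b = b * a := by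
        intro a ha b hb
        have h1 : (⟨a, ha⟩ : E') * ⟨b, hb⟩ = ⟨b, hb⟩ * ⟨a, ha⟩ := isMulCommutative_iff.mp hE'e.1 _ _
        exact congrArg Subtype.val h1
      apply Cfsg.Agent.S1401.result hG H₁ hH₁ s₁ hF₁ E' (isPGroup_of_isElementaryAbelian hE'e) hE'e.1
      apply not_pRankLE_of_elemAb le_rfl hE'c hE'e.2
      calc s₁ ^ 2 < s₁ ^ 3 := Nat.pow_lt_pow_right hs₁.one_lt (by norm_num)
        _ ≤ Nat.card E' := hE'3
    have hzD : z ∈ ⁅H₁ ⊓ H₃, H₁ ⊓ H₃⁆ :=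
      Subgroup.commutator_mono (le_inf hNP₁ hNP₃) (le_inf hNP₁ hNP₃) hzN
    have hcop : p.Coprime s₁ := (Nat.coprime_primes hpp hs₁).mpr (Ne.symm hs₁p)
    have hzc := haa s₁ H₁ H₃ S hs₁ hH₁ hH₃ h13 hSs hSH hHS hU z p hzD (hexp z hzA) hcop
    have hEc : E ≤ centralizer ((zpowers z : Subgroup G) : Set G) := by
      intro e he
      rw [mem_centralizer_iff]
      intro w hw
      have hw' : w ∈ zpowers z := hw
      have hzpc : zpowers z ≤ centralizer ((S ⊓ H₃ : Subgroup G) : Set G) := (zpowers_le).mpr hzc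
      exact ((mem_centralizer_iff.mp (hzpc hw')) e (mem_inf.mpr ⟨hES he, hEH₃ he⟩)).symm
    have hbot : ⁅E, zpowers z⁆ = ⊥ := by
      rw [Subgroup.commutator_eq_bot_iff_le_centralizer]
      exact hEc
    rw [hbot] at hEz
    exact hE1 (eq_bot_iff.mpr hEz)

/-- **The main argument of Bender-Glauberman 9.5**, modulo the lemmas alpha-prime, alpha-alpha and the
criterion (C). -/
theorem main (hG : IsMinSimpleOddOrder G) (p : ℕ) [hp : Fact p.Prime] (P : Sylow p G) (A : Subgroup G)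
    (hA : IsSCN (P : Subgroup G) A) (hA3 : ¬ PRankLE p 2 ↥A)
    (Astar : Subgroup G) (hAs : Astar ≤ A) (hexp : ∀ a ∈ Astar, a ^ p = 1) (h3 : p ^ 3 ≤ Nat.card Astar)
    (z : G) (hzA : z ∈ Astar) (hz1 : z ≠ 1)
    (hzN : z ∈ ⁅normalizer ((P : Subgroup G) : Set G), normalizer ((P : Subgroup G) : Set G)⁆)
    (hgood : AlphaGood (P : Subgroup G) A Astar) (hdich : AlphaDich p A Astar z) (haa : AlphaAlpha G)
    (hC : CritC p A) : InUniqueMaximal A := by
  have hpp : p.Prime := hp.out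
  have hAcI : IsMulCommutative ↥A := isMulCommutative_of_isSCN hA
  have hAc : ∀ a ∈ A, ∀ b ∈ A, a * b = b * a := by
    intro a ha b hb
    have h1 : (⟨a, ha⟩ : A) * ⟨b, hb⟩ = ⟨b, hb⟩ * ⟨a, ha⟩ := isMulCommutative_iff.mp hAcI _ _
    exact congrArg Subtype.val h1
  have hAP : A ≤ (P : Subgroup G) := hA.1
  have hAp : IsPGroup p A := P.isPGroup'.to_le hAP
  by_cases hnop : ∀ H : Subgroup G, IsCoatom H → PRankLE p 2 ↥(fittingOf H)
  swap
  · push Not at hnop
    obtain ⟨H, hH, hF⟩ := hnop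
    exact Cfsg.Agent.S1401.result hG H hH p hF A hAp hAcI hA3
  have hA1 : A ≠ ⊥ := ne_bot_of_not_pRankLE hpp hA3
  have hpG : p ∣ Nat.card G := dvd_card_of_ne_bot hAp hA1
  have hTH : TransitivityHypothesis A :=
    Cfsg.Agent.S1396.result hG p hpG A hAp hAcI
      (Or.inr ⟨P, hA, fun h => hA3 (pRankLE_mono hpp (by norm_num) h)⟩)
  have hZ : ¬ RankLE 2 ↥(A ⊓ centralizer (A : Set G)) := by
    have h1 : A ⊓ centralizer (A : Set G) = A := by
      apply inf_eq_left.mpr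
      intro a ha
      rw [mem_centralizer_iff]
      intro b hb
      exact hAc b hb a ha
    rw [h1]
    intro h
    exact hA3 (h p hpp)
  have hpA : p ∣ Nat.card A := by
    obtain ⟨k, hk⟩ := IsPGroup.iff_card.mp hAp
    have hk0 : k ≠ 0 := by
      rintro rfl
      rw [pow_zero] at hk
      exact hA1 ((Subgroup.card_eq_one).mp hk)
    rw [hk]; exact dvd_pow_self p hk0
  have hqA : ∀ q : ℕ, q.Prime → q ≠ p → ¬ q ∣ Nat.card A := by
    intro q hq hqp hdvd
    obtain ⟨k, hk⟩ := IsPGroup.iff_card.mp hAp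
    rw [hk] at hdvd
    exact hqp ((Nat.prime_dvd_prime_iff_eq hq hpp).mp (hq.dvd_of_dvd_pow hdvd))
  have htr := fun (q : ℕ) (hq : q.Prime) (hqp : q ≠ p) =>
    Cfsg.Agent.S1393.result hG A hTH hZ q hq (hqA q hq hqp)
  have hPtop : (P : Subgroup G) ≠ ⊤ := ne_top_of_isPGroup hG hpp P.isPGroup'
  have hPπ : ∀ r : ℕ, r.Prime → r ∣ Nat.card (P : Subgroup G) → r ∣ Nat.card A := by
    intro r hr hdvd
    obtain ⟨k, hk⟩ := IsPGroup.iff_card.mp P.isPGroup'
    rw [hk] at hdvd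
    rw [(Nat.prime_dvd_prime_iff_eq hr hpp).mp (hr.dvd_of_dvd_pow hdvd)]
    exact hpA
  have hsn : (A.subgroupOf (P : Subgroup G)).IsSubnormal := by
    have : (A.subgroupOf (P : Subgroup G)).Normal := (normal_subgroupOf_iff_le_normalizer hAP).mpr hA.2.1
    exact this.isSubnormal
  have h95 := fun (q : ℕ) (hq : q.Prime) (hqp : q ≠ p) =>
    Cfsg.Agent.S1395.result hG A hTH q hq (hqA q hq hqp) (P : Subgroup G) hPtop hPπ hAP hsn (htr q hq hqp)
  by_cases hD : ∀ (H : Subgroup G) (s : ℕ), IsAlphaType A H s → OnlyMax (centralizer ({z} : Set G)) H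
  · -- Case D
    have hCz : centralizer ({z} : Set G) ≠ ⊤ :=
      Cfsg.Agent.Lib.Helper22_BGTransRank.centralizer_singleton_ne_top hG hz1
    obtain ⟨M, hM, hCM⟩ := exists_isCoatom_ge hCz
    have hzA' : z ∈ A := hAs hzA
    have hAz : A ≤ centralizer ({z} : Set G) := by
      intro a ha
      rw [mem_centralizer_singleton_iff]
      exact hAc a ha z hzA'
    have hAM : A ≤ M := hAz.trans hCM
    have hKM : piCoreOf (primesNotDvd (Nat.card A)) (centralizer (A : Set G)) ≤ M :=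
      (piCoreOf_le _ _).trans
        ((Cfsg.Agent.Lib.Helper22_BGTransRank.centralizer_le_centralizer_singleton hzA').trans hCM)
    apply hC M hM hAM
    intro q Q hq hqp hQ hAQ
    obtain ⟨-, -, hsub, hd⟩ := h95 q hq hqp
    obtain ⟨Q₀, hQ₀, -⟩ := exists_max_ge (A := (P : Subgroup G)) hq (IsPGroup.of_bot)
      (by
        intro x _
        rw [Subgroup.mem_normalizer_iff]
        intro y
        rw [Subgroup.mem_bot, Subgroup.mem_bot]
        exact conj_eq_one_iff.symm)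
    have hQ₀A := hsub hQ₀
    apply le_of_max_le hq (htr q hq hqp) hKM hQ₀A ?_ hQ hAQ
    by_cases hQ₀1 : Q₀ = ⊥
    · rw [hQ₀1]; exact bot_le
    obtain ⟨hQ₀q, hPQ₀⟩ := (mem_invSubgroups_top hq).mp hQ₀.1
    have hQ₀top : Q₀ ≠ ⊤ := ne_top_of_isPGroup hG hq hQ₀q
    have hNtop := normalizer_ne_top hG hQ₀1 hQ₀top
    obtain ⟨Hq, hHq, hNHq⟩ := exists_isCoatom_ge hNtop
    have hAHq : A ≤ Hq := hAP.trans (hPQ₀.trans hNHq)
    have hQ₀Hq : Q₀ ≤ Hq := le_normalizer.trans hNHq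
    by_cases hβ : RankLE 2 ↥(fittingOf Hq)
    · have hzP : z ∈ (P : Subgroup G) := hAP hzA'
      have hzD : z ∈ ⁅Hq, Hq⁆ :=
        Subgroup.commutator_mono hNHq hNHq ((hd Q₀ hQ₀).1 (mem_inf.mpr ⟨hzP, hzN⟩))
      have hQ₀Y : Q₀ ≤ piCoreOf (primesNotDvd (Nat.card A)) Hq := by
        apply le_piCoreOf_of_mem hTH hHq.1 hAHq
        refine ⟨hQ₀Hq, ?_, hAP.trans hPQ₀⟩
        intro r hr hdvd
        have := primes_of_isPGroup hq hQ₀q r hr hdvd
        rw [Set.mem_singleton_iff] at this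
        subst this
        exact ⟨hr, hqA r hr hqp⟩
      have hpY : ¬ p ∣ Nat.card (piCoreOf (primesNotDvd (Nat.card A)) Hq) := by
        intro hdvd
        exact (piCoreOf_primes _ _ p hpp hdvd).2 hpA
      have := beta_central hG hHq hβ hpp hzD (hexp z hzA) (piCoreOf_le _ _)
        (le_normalizer_piCoreOf _ _) hpY
      exact (hQ₀Y.trans this).trans hCM
    · unfold RankLE at hβ
      push Not at hβ
      obtain ⟨s, hs, hF⟩ := hβ
      have := hD Hq s ⟨hHq, hAHq, hs, hF⟩ M hM hCM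
      rw [this]; exact hQ₀Hq
  · -- Case N
    push Not at hD
    obtain ⟨H₁, s₁, hα₁, hnot⟩ := hD
    rcases hdich H₁ s₁ hα₁ with h | ⟨S, E, B1, hSs, hSH, hHS, hES, hE1, hEz, hB1, hB1i, hB1E, hCE⟩
    · exact absurd h hnot
    · apply hC H₁ hα₁.1 hα₁.2.1
      intro q Q hq hqp hQ hAQ
      exact caseN hG p P A hAc Astar hAs hexp h3 z hzA hzN hgood haa hnop hα₁ hSs hSH hHS hES hE1 hEz
        hB1 hB1i hB1E hCE hq hqp hQ hAQ

end main

end Cfsg.Agent.Lib.Helper49_BG95
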