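import Cfsg.Prelude.Def_OddOrderLocal

/-!
Interfaces for the main argument of Bender-Glauberman 9.5 (helper49).

Notation: `P` a Sylow `p`-subgroup, `A` in `SCN_3(P)`, `Astar` an elementary abelian subgroup of `A` of order at
least `p ^ 3` containing the element `z` of order `p` in `Z(P) ∩ N_G(P)'`.
-/

set_option autoImplicit false

namespace Cfsg.Agent.Lib.Helper49_BG95Defs

open Subgroup

variable {G : Type*} [Group G]

/-- `H` is the only maximal subgroup of `G` containing `X`. -/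
def OnlyMax (X H : Subgroup G) : Prop := ∀ M : Subgroup G, IsCoatom M → X ≤ M → M = H

/-- `H` is a maximal subgroup containing `A` whose Fitting subgroup has `s`-rank at least three. -/
def IsAlphaType (A H : Subgroup G) (s : ℕ) : Prop :=
  IsCoatom H ∧ A ≤ H ∧ s.Prime ∧ ¬ Cfsg.PRankLE s 2 ↥(Cfsg.fittingOf H)

/-- Lemma alpha-prime, part (i): consequences of a good point of `Astar` for an alpha-type `H`. -/
def AlphaGood (P A Astar : Subgroup G) : Prop :=
  ∀ (H : Subgroup G) (s : ℕ), IsAlphaType A H s →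
    (∃ b ∈ Astar, centralizer ({b} : Set G) ≤ H) ∧
    (∀ Q : Subgroup G, IsPGroup s Q → A ≤ normalizer (Q : Set G) → Q ≤ H) ∧
    normalizer (P : Set G) ≤ H

/-- Lemma alpha-prime, part (ii): the dichotomy (D_H) / (N_H) for the element `z`. -/
def AlphaDich (p : ℕ) (A Astar : Subgroup G) (z : G) : Prop :=
  ∀ (H : Subgroup G) (s : ℕ), IsAlphaType A H s →
    OnlyMax (centralizer ({z} : Set G)) H ∨
    ∃ S E B1 : Subgroup G, IsPGroup s S ∧ S ≤ H ∧ H ≤ normalizer (S : Set G) ∧ E ≤ S ∧ E ≠ ⊥ ∧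
      E ≤ ⁅E, zpowers z⁆ ∧ B1 ≤ Astar ∧ B1.relIndex Astar ≤ p ∧ B1 ≤ centralizer (E : Set G) ∧
      centralizer (E : Set G) ≤ H

/-- Lemma alpha-alpha in helper23's general shape. -/
def AlphaAlpha (G : Type*) [Group G] : Prop :=
  ∀ (s : ℕ) (H1 H3 S : Subgroup G), s.Prime → IsCoatom H1 → IsCoatom H3 → H1 ≠ H3 → IsPGroup s S → S ≤ H1 →
    H1 ≤ normalizer (S : Set G) →
    (∀ E : Subgroup G, E ≤ S → Cfsg.IsElementaryAbelian s E → s ^ 3 ≤ Nat.card E → Cfsg.InUniqueMaximal E) →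
    ∀ (z : G) (n : ℕ), z ∈ ⁅H1 ⊓ H3, H1 ⊓ H3⁆ → z ^ n = 1 → n.Coprime s →
      z ∈ centralizer ((S ⊓ H3 : Subgroup G) : Set G)

/-- Criterion (C) for `A`: a maximal subgroup containing every `A`-invariant subgroup of prime power order prime
to `p` is the only maximal subgroup containing `A`. -/
def CritC (p : ℕ) (A : Subgroup G) : Prop :=
  ∀ M : Subgroup G, IsCoatom M → A ≤ M →
    (∀ (q : ℕ) (Q : Subgroup G), q.Prime → q ≠ p → IsPGroup q Q → A ≤ normalizer (Q : Set G) → Q ≤ M) →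
    Cfsg.InUniqueMaximal A

end Cfsg.Agent.Lib.Helper49_BG95Defs
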