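import Cfsg.Agent.Lib.Helper49_CharP2
import Mathlib.GroupTheory.Commutator.Basic

/-!
helper49: groups of characteristic `p`, part 3: overgroups of a self-centralizing normal subgroup
of a Sylow `p`-subgroup have characteristic `p`.
-/

set_option autoImplicit false

namespace Cfsg.Agent.Lib.Helper49_CharP

open Cfsg
open scoped commutatorElement

/-- For subgroups `V ≤ P`: the elements `g` normalizing `V` with `a⁻¹ g a g⁻¹ ∈ V` for all
`a ∈ P` (the kernel of the action on `P / V`). -/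
def quotKer {G : Type*} [Group G] (P V : Subgroup G) : Subgroup G where
  carrier := {g | g ∈ Subgroup.normalizer (V : Set G) ∧ ∀ a ∈ P, a⁻¹ * g * a * g⁻¹ ∈ V}
  one_mem' := ⟨one_mem _, fun a _ => by simp⟩
  mul_mem' := by
    rintro g h ⟨hg1, hg2⟩ ⟨hh1, hh2⟩
    refine ⟨mul_mem hg1 hh1, fun a ha => ?_⟩
    have e : a⁻¹ * (g * h) * a * (g * h)⁻¹ = (a⁻¹ * g * a * g⁻¹) * (g * (a⁻¹ * h * a * h⁻¹) * g⁻¹) := by
      group
    rw [e]
    exact mul_mem (hg2 a ha) ((Subgroup.mem_normalizer_iff.mp hg1 _).mp (hh2 a ha))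
  inv_mem' := by
    rintro g ⟨hg1, hg2⟩
    refine ⟨inv_mem hg1, fun a ha => ?_⟩
    have e : a⁻¹ * g⁻¹ * a * g⁻¹⁻¹ = g⁻¹ * (a⁻¹ * g * a * g⁻¹)⁻¹ * g⁻¹⁻¹ := by group
    rw [e]
    exact (Subgroup.mem_normalizer_iff.mp (inv_mem hg1) _).mp (inv_mem (hg2 a ha))

theorem mem_quotKer {G : Type*} [Group G] {P V : Subgroup G} {g : G} :
    g ∈ quotKer P V ↔ g ∈ Subgroup.normalizer (V : Set G) ∧ ∀ a ∈ P, a⁻¹ * g * a * g⁻¹ ∈ V :=
  Iff.rfl

/-- `quotKer P V` is normalized by the elements normalizing both `P` and `V`. -/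
theorem conj_mem_quotKer {G : Type*} [Group G] {P V : Subgroup G} {g y : G}
    (hg : g ∈ quotKer P V) (hyV : y ∈ Subgroup.normalizer (V : Set G))
    (hyP : y ∈ Subgroup.normalizer (P : Set G)) : y * g * y⁻¹ ∈ quotKer P V := by
  obtain ⟨hg1, hg2⟩ := hg
  refine ⟨mul_mem (mul_mem hyV hg1) (inv_mem hyV), fun a ha => ?_⟩
  have ha' : y⁻¹ * a * y ∈ P := (Subgroup.mem_normalizer_iff''.mp hyP a).mp ha
  have e : a⁻¹ * (y * g * y⁻¹) * a * (y * g * y⁻¹)⁻¹ =
      y * ((y⁻¹ * a * y)⁻¹ * g * (y⁻¹ * a * y) * g⁻¹) * y⁻¹ := by group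
  rw [e]
  exact (Subgroup.mem_normalizer_iff.mp hyV _).mp (hg2 _ ha')

/-- In a group of characteristic `p` with `V ≤ O_p(G)`, the elements of `quotKer O_p(G) V`
centralizing `V` form a `p`-group. -/
theorem isPGroup_quotKer_inf_centralizer {G : Type*} [Group G] [Finite G] {p : ℕ} [Fact p.Prime]
    (hG : IsCharP p G) (V : Subgroup G) (hV : V ≤ pCore p G) :
    IsPGroup p ↥(quotKer (pCore p G) V ⊓ Subgroup.centralizer (V : Set G)) := by
  apply isPGroup_of_forall_coprime_eq_one
  rintro x ⟨hx1, hx2⟩ hxo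
  apply hG.eq_one_of_coprime hxo
  intro a ha
  have hc : a⁻¹ * x * a * x⁻¹ ∈ V := hx1.2 a ha
  have hxc : Commute x (a⁻¹ * x * a * x⁻¹) := ((Subgroup.mem_centralizer_iff.mp hx2) _ hc).symm
  exact commute_of_coprime_of_conj_eq_mul (p := p) x a (a⁻¹ * x * a * x⁻¹) hxo (by group) hxc
    (orderOf_eq_pow_of_mem (pCore_isPGroup p G) (hV hc))

/-- Let `G` be a finite group of characteristic `p`, `T` a Sylow `p`-subgroup and `Q` a normal
subgroup of `T` with `C_T(Q) ≤ Q`. Then every subgroup `L` of `G` containing `Q` has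
characteristic `p`. -/
theorem IsCharP.of_overgroup {G : Type*} [Group G] [Finite G] {p : ℕ} [Fact p.Prime]
    (hG : IsCharP p G) (T : Sylow p G) (Q : Subgroup G) (hQT : Q ≤ (T : Subgroup G))
    (hQn : (T : Subgroup G) ≤ Subgroup.normalizer (Q : Set G))
    (hC : (T : Subgroup G) ⊓ Subgroup.centralizer (Q : Set G) ≤ Q) (L : Subgroup G) (hQL : Q ≤ L) :
    IsCharP p L := by
  classical
  have hCQ : Subgroup.centralizer (Q : Set G) ≤ Q :=
    centralizer_le_of_selfCentralizing hG T Q hQT hQn hC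
  have hQp : IsPGroup p Q := T.isPGroup'.to_le hQT
  have hPn : (pCore p G).Normal := pCoreNormal p G
  have hPT : pCore p G ≤ (T : Subgroup G) := pCore_le_sylow T
  have hRn : (pCore p ↥L).Normal := pCoreNormal p ↥L
  set P : Subgroup G := pCore p G with hP
  set V : Subgroup G := P ⊓ Q with hV
  -- the centralizer of `O_p(L)` in `L`, inside `L` and inside `G`
  set C : Subgroup ↥L := Subgroup.centralizer (pCore p ↥L : Set ↥L) with hCdef
  have hCn : C.Normal := Subgroup.normal_centralizer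
  set CG : Subgroup G := C.map L.subtype with hCG
  have hCGL : CG ≤ L := by
    rintro _ ⟨c, _, rfl⟩
    exact c.2
  -- `P ∩ L ≤ O_p(L)`
  have hPL : (P ⊓ L).subgroupOf L ≤ pCore p ↥L := by
    apply le_pCore
    · have : (P ⊓ L).subgroupOf L = P.subgroupOf L := by
        ext x; simp [Subgroup.mem_subgroupOf]
      rw [this]
      infer_instance
    · have h1 : IsPGroup p ↥(P ⊓ L) := (pCore_isPGroup p G).to_le inf_le_left
      exact h1.comap_subtype
  -- elements of `CG` centralize `V`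
  have hCGV : CG ≤ Subgroup.centralizer (V : Set G) := by
    rintro _ ⟨c, hc, rfl⟩
    rw [Subgroup.mem_centralizer_iff]
    intro v hv
    have hvL : v ∈ L := hQL hv.2
    have hvR : (⟨v, hvL⟩ : L) ∈ pCore p ↥L :=
      hPL (by simp only [Subgroup.mem_subgroupOf]; exact ⟨hv.1, hvL⟩)
    have := (Subgroup.mem_centralizer_iff.mp hc) _ hvR
    have h2 := congrArg Subtype.val this
    simpa using h2
  -- `Q ≤ quotKer P V`
  have hQK : Q ≤ quotKer P V := by
    intro q hq
    have hqT : q ∈ (T : Subgroup G) := hQT hq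
    refine ⟨?_, fun a ha => ?_⟩
    · -- `q` normalizes `P ⊓ Q`
      have h1 : q ∈ Subgroup.normalizer (P : Set G) := by
        rw [Subgroup.normalizer_eq_top_iff.mpr hPn]; trivial
      have h2 : q ∈ Subgroup.normalizer (Q : Set G) := Subgroup.le_normalizer hq
      rw [Subgroup.mem_normalizer_iff] at h1 h2 ⊢
      intro v
      rw [hV, Subgroup.mem_inf, Subgroup.mem_inf, h1 v, h2 v]
    · rw [hV, Subgroup.mem_inf]
      refine ⟨?_, ?_⟩
      · have h1 : q * a * q⁻¹ ∈ P := hPn.conj_mem a ha q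
        have e : a⁻¹ * q * a * q⁻¹ = a⁻¹ * (q * a * q⁻¹) := by group
        rw [e]
        exact mul_mem (inv_mem ha) h1
      · have h1 : a⁻¹ * q * a ∈ Q :=
          (Subgroup.mem_normalizer_iff''.mp (hQn (hPT ha)) q).mp hq
        exact mul_mem h1 (inv_mem hq)
  -- elements of `CG` normalize `V` and `P`
  have hCGnV : CG ≤ Subgroup.normalizer (V : Set G) := by
    intro y hy
    have hyc := hCGV hy
    rw [Subgroup.mem_normalizer_iff]
    intro v
    have key : ∀ z ∈ Subgroup.centralizer (V : Set G), ∀ v ∈ V, z * v * z⁻¹ ∈ V := by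
      intro z hz v hv
      have := (Subgroup.mem_centralizer_iff.mp hz) v hv
      have e : z * v * z⁻¹ = v := by
        calc z * v * z⁻¹ = v * z * z⁻¹ := by rw [← this]
          _ = v := by group
      rw [e]; exact hv
    constructor
    · exact key y hyc v
    · intro h
      have := key y⁻¹ (inv_mem hyc) _ h
      have e : y⁻¹ * (y * v * y⁻¹) * y⁻¹⁻¹ = v := by group
      rwa [e] at this
  have hnP : ∀ y : G, y ∈ Subgroup.normalizer (P : Set G) := by
    intro y
    rw [Subgroup.normalizer_eq_top_iff.mpr hPn]; trivial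
  -- `Q` normalizes `CG`
  have hQnCG : Q ≤ Subgroup.normalizer (CG : Set G) := by
    intro q hq
    have key : ∀ q ∈ Q, ∀ y ∈ CG, q * y * q⁻¹ ∈ CG := by
      rintro q hq _ ⟨c, hc, rfl⟩
      refine ⟨⟨q, hQL hq⟩ * c * ⟨q, hQL hq⟩⁻¹, hCn.conj_mem c hc _, ?_⟩
      simp
    rw [Subgroup.mem_normalizer_iff]
    intro y
    constructor
    · exact key q hq y
    · intro h
      have := key q⁻¹ (inv_mem hq) _ h
      have e : q⁻¹ * (q * y * q⁻¹) * q⁻¹⁻¹ = y := by group
      rwa [e] at this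
  -- the commutator `D = [CG, Q]`
  set D : Subgroup G := ⁅CG, Q⁆ with hD
  have hDCG : D ≤ CG := Subgroup.le_normalizer_iff_commutator_le_left.mp hQnCG
  have hDK : D ≤ quotKer P V ⊓ Subgroup.centralizer (V : Set G) := by
    refine le_inf ?_ (le_trans hDCG hCGV)
    rw [hD, Subgroup.commutator_le]
    intro y hy q hq
    have h1 : y * q * y⁻¹ ∈ quotKer P V :=
      conj_mem_quotKer (hQK hq) (hCGnV hy) (hnP y)
    have e : ⁅y, q⁆ = (y * q * y⁻¹) * q⁻¹ := by
      rw [commutatorElement_def]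
    rw [e]
    exact mul_mem h1 (inv_mem (hQK hq))
  have hDp : IsPGroup p D :=
    (isPGroup_quotKer_inf_centralizer hG V inf_le_left).to_le hDK
  have hCGnD : CG ≤ Subgroup.normalizer (D : Set G) := Subgroup.normalizer_commutator_ge_left CG Q
  -- `D ≤ O_p(L)`
  have hDR : D.subgroupOf L ≤ pCore p ↥L := by
    apply le_pCore_of_normalizedBy_normal C (D.subgroupOf L)
    · intro d hd
      rw [Subgroup.mem_subgroupOf] at hd
      obtain ⟨c, hc, hcd⟩ := hDCG hd
      have : c = d := Subtype.ext hcd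
      rwa [← this]
    · intro c hc
      have hcG : (c : G) ∈ Subgroup.normalizer (D : Set G) := hCGnD ⟨c, hc, rfl⟩
      rw [Subgroup.mem_normalizer_iff] at hcG ⊢
      intro d
      simp only [Subgroup.mem_subgroupOf]
      have := hcG (d : G)
      simpa using this
    · exact hDp.comap_subtype
  -- the centralizer `C` is a `p`-group
  have hCp : IsPGroup p C := by
    apply isPGroup_of_forall_coprime_eq_one
    intro x hx hxo
    have hxo' : (orderOf (x : G)).Coprime p := by rwa [Subgroup.orderOf_coe]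
    have hxCG : (x : G) ∈ CG := ⟨x, hx, rfl⟩
    have hx1 : (x : G) = 1 := by
      have hxQ : (x : G) ∈ Subgroup.centralizer (Q : Set G) := by
        rw [Subgroup.mem_centralizer_iff]
        intro q hq
        -- w = q⁻¹ x q x⁻¹ = ⁅q⁻¹, x⁆
        have hwD : q⁻¹ * (x : G) * q * (x : G)⁻¹ ∈ D := by
          have h1 : ⁅q⁻¹, (x : G)⁆ ∈ ⁅Q, CG⁆ :=
            Subgroup.commutator_mem_commutator (inv_mem hq) hxCG
          rw [Subgroup.commutator_comm] at h1
          have e : ⁅q⁻¹, (x : G)⁆ = q⁻¹ * (x : G) * q * (x : G)⁻¹ := by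
            rw [commutatorElement_def]; group
          rwa [e] at h1
        have hwL : q⁻¹ * (x : G) * q * (x : G)⁻¹ ∈ L := hCGL (hDCG hwD)
        have hwR : (⟨q⁻¹ * (x : G) * q * (x : G)⁻¹, hwL⟩ : L) ∈ pCore p ↥L :=
          hDR (by simp only [Subgroup.mem_subgroupOf]; exact hwD)
        have hcomm : Commute (x : G) (q⁻¹ * (x : G) * q * (x : G)⁻¹) := by
          have := (Subgroup.mem_centralizer_iff.mp hx) _ hwR
          have h2 := congrArg Subtype.val this
          simp only [Subgroup.coe_mul] at h2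
          exact h2.symm
        have := commute_of_coprime_of_conj_eq_mul (p := p) (x : G) q
          (q⁻¹ * (x : G) * q * (x : G)⁻¹) hxo' (by group) hcomm
          (orderOf_eq_pow_of_mem hDp hwD)
        exact this.eq.symm
      exact eq_one_of_coprime_of_mem hQp (hCQ hxQ) hxo'
    exact Subtype.ext (by simpa using hx1)
  exact le_pCore hCn hCp

end Cfsg.Agent.Lib.Helper49_CharP
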