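import Cfsg.Agent.Lib.Helper49_CharP2
import Cfsg.Agent.Lib.Helper21_FStar
import Cfsg.Agent.Lib.Helper1_Cores

/-!
helper49: groups of characteristic `p`, part 4: equivalence of `F*(G) = O_p(G)` with
`C_G(O_p(G)) ≤ O_p(G)`, and `p`-local subgroups of groups of characteristic `p`.
-/

set_option autoImplicit false

namespace Cfsg.Agent.Lib.Helper49_CharP

open Cfsg

universe u

/-- `F*(G) = O_p(G)` implies `C_G(O_p(G)) ≤ O_p(G)`. -/
theorem IsCharP.of_generalizedFitting_eq {p : ℕ} {G : Type u} [Group G] [Finite G]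
    (h : generalizedFittingSubgroup G = pCore p G) : IsCharP p G := by
  have := Cfsg.Agent.Lib.Helper21_FStar.centralizer_generalizedFitting_le (G := G)
  rw [h] at this
  exact this

/-- A group of characteristic `p` has no components. -/
theorem IsCharP.not_isComponent {p : ℕ} [Fact p.Prime] {G : Type u} [Group G] [Finite G]
    (hG : IsCharP p G) (K : Subgroup G) : ¬ IsComponent K := by
  intro hK
  have hn : (pCore p G).Normal := pCoreNormal p G
  have hsolv : Group.IsSolvable ↥(pCore p G) := by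
    have : Group.IsNilpotent ↥(pCore p G) := (pCore_isPGroup p G).isNilpotent
    infer_instance
  have h1 : ⁅K, pCore p G⁆ = ⊥ :=
    Cfsg.Agent.Lib.Helper21_Components.IsComponent.commutator_eq_bot_of_isSolvable hK hsolv
      (by rw [Subgroup.normalizer_eq_top_iff.mpr hn]; exact le_top)
  rw [Subgroup.commutator_eq_bot_iff_le_centralizer] at h1
  exact Cfsg.Agent.Lib.Helper21_Components.IsComponent.not_le_of_isSolvable hK hsolv
    (le_trans h1 hG)

/-- `C_G(O_p(G)) ≤ O_p(G)` implies `F*(G) = O_p(G)`. -/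
theorem IsCharP.generalizedFitting_eq {p : ℕ} [hp : Fact p.Prime] {G : Type u} [Group G] [Finite G]
    (hG : IsCharP p G) : generalizedFittingSubgroup G = pCore p G := by
  have hn : (pCore p G).Normal := pCoreNormal p G
  have hlayer : layer G = ⊥ := by
    unfold layer
    rw [sSup_eq_bot]
    intro K hK
    exact absurd hK (hG.not_isComponent K)
  unfold generalizedFittingSubgroup
  rw [hlayer, bot_sup_eq]
  apply le_antisymm
  · rw [Cfsg.Agent.Lib.Helper1_Cores.fittingSubgroup_eq_iSup_pCore]
    refine iSup_le (fun q => ?_)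
    by_cases hqp : (q : ℕ) = p
    · rw [hqp]
    · have hq : Fact (q : ℕ).Prime := ⟨q.2⟩
      have hqn : (pCore (q : ℕ) G).Normal := pCoreNormal _ G
      have hdisj : Disjoint (pCore (q : ℕ) G) (pCore p G) :=
        IsPGroup.disjoint_of_ne (q : ℕ) p hqp _ _ (pCore_isPGroup _ G) (pCore_isPGroup p G)
      have hcent : pCore (q : ℕ) G ≤ Subgroup.centralizer (pCore p G : Set G) := by
        intro x hx
        rw [Subgroup.mem_centralizer_iff]
        intro y hy
        exact ((Subgroup.commute_of_normal_of_disjoint _ _ hqn hn hdisj x y hx hy).eq).symm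
      have h2 : pCore (q : ℕ) G ≤ pCore (q : ℕ) G ⊓ pCore p G := le_inf le_rfl (le_trans hcent hG)
      rw [hdisj.eq_bot] at h2
      exact le_trans h2 bot_le
  · exact Cfsg.Agent.Lib.Helper1_Cores.pCore_le_fittingSubgroup p

/-- If `C_L(O_p(L))` lies in a subgroup `M` of characteristic `p`, then `L` has characteristic
`p`. -/
theorem IsCharP.of_centralizer_le {p : ℕ} [Fact p.Prime] {L : Type*} [Group L] [Finite L]
    (M : Subgroup L) (hM : IsCharP p ↥M)
    (hY : Subgroup.centralizer (pCore p L : Set L) ≤ M) : IsCharP p L := by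
  have hn : (pCore p L).Normal := pCoreNormal p L
  set Y : Subgroup L := Subgroup.centralizer (pCore p L : Set L) with hYdef
  have hYn : Y.Normal := Subgroup.normal_centralizer
  have h1 : IsCharP p ↥(Y.subgroupOf M) := hM.of_normal (Y.subgroupOf M)
  have h2 : IsCharP p ↥Y := h1.of_mulEquiv (Subgroup.subgroupOfEquivOfLe hY)
  have h3 : (pCore p ↥Y).map Y.subtype ≤ pCore p L := pCore_map_subtype_le_of_normal Y
  intro y hy
  have h4 : (⟨y, hy⟩ : ↥Y) ∈ Subgroup.centralizer (pCore p ↥Y : Set ↥Y) := by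
    rw [Subgroup.mem_centralizer_iff]
    intro q hq
    have hq' : (q : L) ∈ pCore p L := h3 ⟨q, hq, rfl⟩
    have := (Subgroup.mem_centralizer_iff.mp hy) (q : L) hq'
    exact Subtype.ext this
  exact h3 ⟨⟨y, hy⟩, h2 h4, rfl⟩

/-- Conjugation by an element normalizing `Q` and `R` preserves `Q ⊔ R`. -/
theorem conj_mem_sup_of_mem_normalizer {G : Type*} [Group G] {Q R : Subgroup G} {n : G}
    (hQ : n ∈ Subgroup.normalizer (Q : Set G)) (hR : n ∈ Subgroup.normalizer (R : Set G))
    {a : G} (ha : a ∈ Q ⊔ R) : n * a * n⁻¹ ∈ Q ⊔ R := by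
  have hle : Q ⊔ R ≤ (Q ⊔ R).comap (MulAut.conj n).toMonoidHom := by
    apply sup_le
    · intro q hq
      rw [Subgroup.mem_comap, MulEquiv.coe_toMonoidHom, MulAut.conj_apply]
      exact (le_sup_left : Q ≤ Q ⊔ R) ((Subgroup.mem_normalizer_iff.mp hQ q).mp hq)
    · intro r hr
      rw [Subgroup.mem_comap, MulEquiv.coe_toMonoidHom, MulAut.conj_apply]
      exact (le_sup_right : R ≤ Q ⊔ R) ((Subgroup.mem_normalizer_iff.mp hR r).mp hr)
  have := hle ha
  simpa [MulAut.conj_apply] using this

/-- The normalizer of a `p`-subgroup in a group of characteristic `p` has characteristic `p`. -/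
theorem IsCharP.normalizer {p : ℕ} [Fact p.Prime] {G : Type*} [Group G] [Finite G]
    (hG : IsCharP p G) (Q : Subgroup G) (hQ : IsPGroup p Q) :
    IsCharP p ↥(Subgroup.normalizer (Q : Set G)) := by
  classical
  set L : Subgroup G := Subgroup.normalizer (Q : Set G) with hL
  have hRn : (pCore p G).Normal := pCoreNormal p G
  have hRnorm : ∀ n : G, n ∈ Subgroup.normalizer ((pCore p G : Subgroup G) : Set G) := by
    intro n
    rw [Subgroup.normalizer_eq_top_iff.mpr hRn]; trivial
  have hQL : Q ≤ L := Subgroup.le_normalizer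
  set P : Subgroup G := Q ⊔ pCore p G with hP
  have hPp : IsPGroup p P := IsPGroup.to_sup_of_normal_right hQ (pCore_isPGroup p G)
  set P₁ : Subgroup G := P ⊓ L with hP₁
  have hP₁p : IsPGroup p P₁ := hPp.to_le inf_le_left
  -- `P₁` is normal in `L`
  have hP₁n : (P₁.subgroupOf L).Normal := by
    refine ⟨fun a ha n => ?_⟩
    rw [Subgroup.mem_subgroupOf] at ha ⊢
    refine ⟨?_, ?_⟩
    · have := conj_mem_sup_of_mem_normalizer (Q := Q) (R := pCore p G) n.2 (hRnorm n) ha.1
      simpa using this
    · exact (n * a * n⁻¹).2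
  have hP₁le : P₁.subgroupOf L ≤ pCore p ↥L := le_pCore hP₁n hP₁p.comap_subtype
  -- the centralizer of `O_p(L)` is a `p`-group
  set Y : Subgroup ↥L := Subgroup.centralizer (pCore p ↥L : Set ↥L) with hY
  have hLn : (pCore p ↥L).Normal := pCoreNormal p ↥L
  have hYn : Y.Normal := Subgroup.normal_centralizer
  have hYp : IsPGroup p Y := by
    apply isPGroup_of_forall_coprime_eq_one
    intro x hx hxo
    have hxo' : (orderOf (x : G)).Coprime p := by
      rwa [Subgroup.orderOf_coe]
    have hxP₁ : ∀ q ∈ P₁, Commute (x : G) q := by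
      intro q hq
      have hqL : q ∈ L := hq.2
      have h1 : (⟨q, hqL⟩ : ↥L) ∈ pCore p ↥L := hP₁le (by rw [Subgroup.mem_subgroupOf]; exact hq)
      have := (Subgroup.mem_centralizer_iff.mp hx) ⟨q, hqL⟩ h1
      have h2 := congrArg Subtype.val this
      exact h2.symm
    have hxP : ∀ r ∈ P, (x : G) * r * (x : G)⁻¹ ∈ P := by
      intro r hr
      exact conj_mem_sup_of_mem_normalizer (Q := Q) (R := pCore p G) x.2 (hRnorm _) hr
    have hC : P ⊓ Subgroup.centralizer (P₁ : Set G) ≤ P₁ := by
      rintro a ⟨haP, haC⟩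
      refine ⟨haP, ?_⟩
      have hQP₁ : Q ≤ P₁ := le_inf le_sup_left hQL
      have : a ∈ Subgroup.centralizer (Q : Set G) :=
        Subgroup.centralizer_le (by exact_mod_cast hQP₁) haC
      exact Subgroup.centralizer_le_normalizer _ this
    have hcomm := commute_of_selfCentralizing P P₁ hPp inf_le_left hC (x : G) hxo' hxP₁ hxP
    have : (x : G) = 1 :=
      hG.eq_one_of_coprime hxo' (fun q hq => hcomm q ((le_sup_right : pCore p G ≤ P) hq))
    exact Subtype.ext this
  exact le_pCore hYn hYp

end Cfsg.Agent.Lib.Helper49_CharP
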