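import Mathlib
import Cfsg.Agent.Lib.Helper94_FrmDefs2

/-!
# S5655 market "FR", package FR-RES1 (architect helper94; formalised by helper49)

Restriction of an isometry stabilising the span of `x` to `x^⊥`.
-/

set_option autoImplicit false

namespace Cfsg.Agent.Lib.Helper49_FR_RES1

open Module Cfsg.Agent.Lib.Helper94_Symp Cfsg.Agent.Lib.Helper94_Herm
  Cfsg.Agent.Lib.Helper13_PSUSimple Cfsg.Agent.Lib.Helper27_UQDefs
  Cfsg.Agent.Lib.Helper94_FrmDefs Cfsg.Agent.Lib.Helper94_UDDefs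
  Cfsg.Agent.Lib.Helper94_FrmDefs2 Cfsg.Agent.Lib.Helper27_UQ_KISO
  Cfsg.Agent.Lib.Helper94_HermTrans

variable {F V : Type*} [Field F] [AddCommGroup V] [Module F V] [Finite F] [FiniteDimensional F V]
variable {σ : F →+* F} {B : V →ₗ[F] V →ₛₗ[σ] F}
variable {ι : Type*} [Fintype ι] [DecidableEq ι] {e : ι → V} {M : Subgroup (V ≃ₗ[F] V)}

omit [Finite F] [FiniteDimensional F V] in
/-- an isometry mapping `x` to a nonzero multiple of `x` maps `x^⊥` into itself -/
theorem map_orth {x : V} {g : V ≃ₗ[F] V} (hg : g ∈ uG B) {c : F} (hc : c ≠ 0)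
    (hgx : g x = c • x) {w : V} (hw : B w x = 0) : B (g w) x = 0 := by
  have h1 : B (g w) (g x) = 0 := by rw [hg w x, hw]
  rw [hgx, map_smulₛₗ, smul_eq_mul] at h1
  rcases mul_eq_zero.1 h1 with h | h
  · exact absurd h ((map_ne_zero σ).2 hc)
  · exact h

/-- FR-RES1. -/
theorem RES1 (hB : IsHerm B) {x : V} {g : V ≃ₗ[F] V} (hg : g ∈ uG B) {c : F} (hc : c ≠ 0)
    (hgx : g x = c • x) :
    ∃ l : ↥(orthV B x) ≃ₗ[F] ↥(orthV B x), ∀ w : ↥(orthV B x), ((l w : ↥(orthV B x)) : V) = g w := by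
  have hginv : g⁻¹ x = c⁻¹ • x := by
    have : g (c⁻¹ • x) = x := by rw [map_smul, hgx, smul_smul, inv_mul_cancel₀ hc, one_smul]
    calc g⁻¹ x = g⁻¹ (g (c⁻¹ • x)) := by rw [this]
      _ = c⁻¹ • x := inv_apply_apply' g _
  have hmap : (orthV B x).map (g : V →ₗ[F] V) = orthV B x := by
    apply le_antisymm
    · rintro _ ⟨w, hw, rfl⟩
      rw [SetLike.mem_coe, mem_orthV] at hw
      rw [mem_orthV]
      exact map_orth hg hc hgx hw
    · intro w hw
      rw [mem_orthV] at hw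
      refine ⟨g⁻¹ w, ?_, ?_⟩
      · rw [SetLike.mem_coe, mem_orthV]
        exact map_orth ((uG B).inv_mem hg) (inv_ne_zero hc) hginv hw
      · exact apply_inv_apply' g w
  refine ⟨g.ofSubmodules (orthV B x) (orthV B x) hmap, fun w => ?_⟩
  rfl

end Cfsg.Agent.Lib.Helper49_FR_RES1
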