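import Mathlib
import Cfsg.Agent.Lib.Helper94_FrmDefs2

/-!
# S5655 market "FR", package FR-RES4 (architect helper94; formalised by helper49)

Rigidity: two elements of `SUg B` stabilising `⟨x⟩` (`x` anisotropic) and agreeing on `x^⊥` are equal.
-/

set_option autoImplicit false

namespace Cfsg.Agent.Lib.Helper49_FR_RES4

open Module Cfsg.Agent.Lib.Helper94_Symp Cfsg.Agent.Lib.Helper94_Herm
  Cfsg.Agent.Lib.Helper13_PSUSimple Cfsg.Agent.Lib.Helper27_UQDefs
  Cfsg.Agent.Lib.Helper94_FrmDefs Cfsg.Agent.Lib.Helper94_UDDefs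
  Cfsg.Agent.Lib.Helper94_FrmDefs2 Cfsg.Agent.Lib.Helper27_UQ_KISO
  Cfsg.Agent.Lib.Helper94_HermTrans

variable {F V : Type*} [Field F] [AddCommGroup V] [Module F V] [Finite F] [FiniteDimensional F V]
variable {σ : F →+* F} {B : V →ₗ[F] V →ₛₗ[σ] F}
variable {ι : Type*} [Fintype ι] [DecidableEq ι] {e : ι → V} {M : Subgroup (V ≃ₗ[F] V)}

/-- FR-RES4. -/
theorem RES4 (hσ : Invol σ) (hB : IsHerm B) {x : V} (hx : B x x ≠ 0) {g g' : V ≃ₗ[F] V}
    (hg : g ∈ SUg B) (hg' : g' ∈ SUg B) (hgx : ∃ c : F, g x = c • x) (hg'x : ∃ c : F, g' x = c • x)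
    (hag : ∀ w, B w x = 0 → g w = g' w) : g = g' := by
  obtain ⟨c, hc⟩ := hgx
  obtain ⟨c', hc'⟩ := hg'x
  have hx0 : x ≠ 0 := by
    rintro rfl
    apply hx
    simp
  have hc0 : c ≠ 0 := by
    rintro rfl
    rw [zero_smul] at hc
    exact hx0 (by simpa using hc)
  have hc'0 : c' ≠ 0 := by
    rintro rfl
    rw [zero_smul] at hc'
    exact hx0 (by simpa using hc')
  have hginv : g⁻¹ x = c⁻¹ • x := by
    have : g (c⁻¹ • x) = x := by rw [map_smul, hc, smul_smul, inv_mul_cancel₀ hc0, one_smul]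
    calc g⁻¹ x = g⁻¹ (g (c⁻¹ • x)) := by rw [this]
      _ = c⁻¹ • x := inv_apply_apply' g _
  set h : V ≃ₗ[F] V := g⁻¹ * g' with hh
  set d : F := c' * c⁻¹ with hd
  have hd0 : d ≠ 0 := mul_ne_zero hc'0 (inv_ne_zero hc0)
  have hhx : h x = d • x := by
    rw [hh, LinearEquiv.mul_apply, hc', map_smul, hginv, smul_smul]
  have hhw : ∀ w, B w x = 0 → h w = w := by
    intro w hw
    rw [hh, LinearEquiv.mul_apply, ← hag w hw, inv_apply_apply']
  -- `h` is the quasi-reflection with multiplier `d`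
  have hq : h = qr B x d := by
    ext v
    set a : F := B v x * (B x x)⁻¹ with ha
    have hv : v = (v - a • x) + a • x := by abel
    have hperp : B (v - a • x) x = 0 := by
      rw [map_sub, LinearMap.sub_apply, map_smul, LinearMap.smul_apply, smul_eq_mul, ha]
      field_simp
      ring
    rw [hv, map_add, map_add, hhw _ hperp, qr_fix B x d hperp, map_smul, map_smul, hhx,
      qr_self B hx hd0]
  -- determinants
  have hdet : LinearEquiv.det h = 1 := by
    rw [hh, map_mul, map_inv, (mem_SUg.1 hg).2, (mem_SUg.1 hg').2, inv_one, one_mul]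
  rw [hq, det_qr hx hd0] at hdet
  have hd1 : d = 1 := by
    have := congrArg Units.val hdet
    simpa using this
  rw [hd1, qr_one] at hq
  have : g * h = g' := by rw [hh]; group
  rw [hq, mul_one] at this
  exact this

end Cfsg.Agent.Lib.Helper49_FR_RES4
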