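import Mathlib
import Cfsg.Agent.Lib.Helper49_FStarComm5

/-!
helper49: whole-group versions for subnormal `L ≤ F*(H)` (`O_p(H) = 1`): `L = ⁅L,Y⁆ C_L(Y)`,
and `C_L(Q) ≤ L'` when `L = ⁅L,Q⁆`.
-/

set_option autoImplicit false

namespace Cfsg.Agent.Lib.Helper49_FStarComm

open Cfsg
open scoped commutatorElement
open Cfsg.Agent.Lib.Helper21_Components Cfsg.Agent.Lib.Helper29_Local

universe u

variable {H : Type u} [Group H]

/-- Whole-group version of the main theorem. -/
theorem commutator_eq_of_isSubnormal [Finite H] {p : ℕ} [Fact p.Prime] (hO : pCore p H = ⊥)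
    (Y : Subgroup H) (hY : IsPGroup p ↥Y) (L : Subgroup H) (hLsn : L.IsSubnormal)
    (hLF : L ≤ generalizedFittingSubgroup H) (hYL : Y ≤ Subgroup.normalizer (L : Set H)) :
    ⁅L, Y⁆ ⊔ (L ⊓ Subgroup.centralizer (Y : Set H)) = L ∧ ⁅L, Y⁆ = ⁅⁅L, Y⁆, Y⁆ := by
  refine commutator_sup_centralizer_eq (⊤ : Subgroup H) (pCore_top_eq_bot hO) Y hY ?_ L ?_ ?_ hYL
  · rw [Subgroup.normalizer_eq_top]; exact le_top
  · rw [generalizedFitting_top_map]; exact hLF
  · exact hLsn.subgroupOf

/-- `L ∩ F(H)` has order prime to `p` when `O_p(H) = 1`. -/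
theorem not_dvd_card_inf_fitting [Finite H] {p : ℕ} [Fact p.Prime] (hO : pCore p H = ⊥)
    (L : Subgroup H) : ¬ p ∣ Nat.card ↥(L ⊓ fittingSubgroup H) := by
  intro hdvd
  obtain ⟨x, hx⟩ := exists_prime_orderOf_dvd_card' (G := ↥(L ⊓ fittingSubgroup H)) p hdvd
  have h1 := not_dvd_orderOf_of_mem_fittingSubgroup hO (Subgroup.mem_inf.mp x.2).2
  rw [Subgroup.orderOf_coe, hx] at h1
  exact h1 dvd_rfl

/-- Key lemma: if `L = ⁅L,Q⁆` is subnormal in `H`, inside `F*(H)`, `O_p(H) = 1` and `Q` a `p`-group,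
then `C_L(Q) ≤ L'`. -/
theorem inf_centralizer_le_commutator [Finite H] {p : ℕ} [Fact p.Prime] (hO : pCore p H = ⊥)
    (Q : Subgroup H) (hQ : IsPGroup p ↥Q) (L : Subgroup H) (hLsn : L.IsSubnormal)
    (hLF : L ≤ generalizedFittingSubgroup H) (hQL : Q ≤ Subgroup.normalizer (L : Set H))
    (hL : L ≤ ⁅L, Q⁆) : L ⊓ Subgroup.centralizer (Q : Set H) ≤ ⁅L, L⁆ := by
  set m : ℕ := Nat.card ↥(L ⊓ fittingSubgroup H) with hm
  have hmp : ¬ p ∣ m := not_dvd_card_inf_fitting hO L
  set S : Set H := ((L ⊓ fittingSubgroup H : Subgroup H) : Set H) ∪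
    ⋃ K ∈ {K : Subgroup H | IsComponent K ∧ K ≤ L}, (K : Set H) with hS
  have hgen : L ≤ Subgroup.closure S := by
    refine (le_inf_fitting_sup_components L hLsn hLF).trans (sup_le ?_ (sSup_le ?_))
    · intro x hx
      exact Subgroup.subset_closure (Or.inl hx)
    · intro K hK x hx
      refine Subgroup.subset_closure (Or.inr ?_)
      exact Set.mem_biUnion hK hx
  have hSL : S ⊆ L := by
    rintro s (hs | hs)
    · exact (Subgroup.mem_inf.mp hs).1
    · obtain ⟨K, hK, hsK⟩ := Set.mem_iUnion₂.mp hs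
      exact hK.2 hsK
  have hpow : ∀ s ∈ S, s ^ m ∈ ⁅L, L⁆ := by
    rintro s (hs | hs)
    · have : (⟨s, hs⟩ : ↥(L ⊓ fittingSubgroup H)) ^ m = 1 := pow_card_eq_one'
      have := congrArg Subtype.val this
      simp only [Subgroup.coe_pow, Subgroup.coe_one] at this
      rw [this]; exact Subgroup.one_mem _
    · obtain ⟨K, hK, hsK⟩ := Set.mem_iUnion₂.mp hs
      have h1 : s ∈ ⁅K, K⁆ := by rw [IsComponent.commutator_self hK.1]; exact hsK
      exact Subgroup.pow_mem _ (Subgroup.commutator_mono hK.2 hK.2 h1) _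
  have hall := pow_mem_commutator_of_generated L m S hgen hSL hpow
  intro z hz
  obtain ⟨hzL, hzQ⟩ := Subgroup.mem_inf.mp hz
  have h1 := pow_card_mem_commutator_of_centralizes L Q hQL hL hzL hzQ
  have h2 := hall z hzL
  obtain ⟨k, hk⟩ := IsPGroup.iff_card.mp hQ
  have hcop : Nat.Coprime (Nat.card ↥Q) m := by
    rw [hk]
    exact Nat.Coprime.pow_left _ ((Nat.Prime.coprime_iff_not_dvd (Fact.out : p.Prime)).mpr hmp)
  exact mem_of_pow_mem_of_coprime' _ hcop h1 h2

/-- `Z(F*(H)) ≤ F(H)`. -/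
theorem generalizedFitting_inf_centralizer_le_fitting :
    generalizedFittingSubgroup H ⊓ Subgroup.centralizer (generalizedFittingSubgroup H : Set H) ≤
      fittingSubgroup H := by
  set Z : Subgroup H := generalizedFittingSubgroup H ⊓
    Subgroup.centralizer (generalizedFittingSubgroup H : Set H) with hZ
  have hn := generalizedFittingSubgroup_normal H
  have hZn : Z.Normal := by rw [hZ]; infer_instance
  have hZc : IsMulCommutative ↥Z := by
    refine ⟨⟨fun a b => ?_⟩⟩
    apply Subtype.ext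
    have ha := (Subgroup.mem_inf.mp a.2).1
    have hb := (Subgroup.mem_inf.mp b.2).2
    have := Subgroup.mem_centralizer_iff.mp hb a ha
    simp only [Subgroup.coe_mul]
    exact this
  exact le_fittingSubgroup Z isNilpotent_of_isMulCommutative

/-- A `p`-subgroup centralizing `F*(H)` is trivial when `O_p(H) = 1`. -/
theorem eq_bot_of_commutator_generalizedFitting_eq_bot [Finite H] {p : ℕ} [Fact p.Prime]
    (hO : pCore p H = ⊥) (Y : Subgroup H) (hY : IsPGroup p ↥Y)
    (h : ⁅generalizedFittingSubgroup H, Y⁆ = ⊥) : Y = ⊥ := by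
  have h2 : Y ≤ Subgroup.centralizer (generalizedFittingSubgroup H : Set H) := by
    rw [Subgroup.commutator_comm] at h
    exact Subgroup.commutator_eq_bot_iff_le_centralizer.mp h
  have h3 : Y ≤ generalizedFittingSubgroup H :=
    h2.trans Cfsg.Agent.Lib.Helper21_FStar.centralizer_generalizedFitting_le
  rw [eq_bot_iff]
  intro y hy
  rw [Subgroup.mem_bot]
  have hyF : y ∈ fittingSubgroup H :=
    generalizedFitting_inf_centralizer_le_fitting (Subgroup.mem_inf.mpr ⟨h3 hy, h2 hy⟩)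
  have hnd := not_dvd_orderOf_of_mem_fittingSubgroup hO hyF
  obtain ⟨k, hk⟩ := hY ⟨y, hy⟩
  have hk' : y ^ p ^ k = 1 := by
    have := congrArg Subtype.val hk
    simpa using this
  have hdvd : orderOf y ∣ p ^ k := orderOf_dvd_of_pow_eq_one hk'
  obtain ⟨j, _, hj⟩ := (Nat.dvd_prime_pow (Fact.out : p.Prime)).mp hdvd
  rcases Nat.eq_zero_or_pos j with h0 | h0
  · rw [h0, pow_zero] at hj
    exact orderOf_eq_one_iff.mp hj
  · exact absurd (hj ▸ dvd_pow_self p h0.ne') hnd

end Cfsg.Agent.Lib.Helper49_FStarComm
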