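import Mathlib
import Cfsg.Agent.Lib.Helper52_FrobFormula
import Cfsg.Agent.Lib.Helper24_CoprimeAction

/-!
# A Frobenius group acting on an `l`-group with cyclic fixed points of the complement (helper49)

`Γ = Q P`, `P` of prime order normalizing `Q` with `C_Q(P) = 1`, acting coprimely on an `l`-group `L`
(`l` odd) such that `C_L(P)` is cyclic and `Q` does not centralize `L`.  Then `C_L(Q P) = 1`.

The proof takes a minimal `Γ`-invariant subgroup `D` of `L` not centralized by `Q`; then `D = [D, Q]`,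
`D` has class at most two and exponent `l`, and the fixed point formula of Wielandt for the Frobenius
group `Q P` gives `|C_D(P)| > |C_D(Q P)|`, whereas `C_D(P)` is a subgroup of order `l` of the cyclic
group `C_L(P)`, hence the one generated by a fixed point of `Q P`.
-/

set_option autoImplicit false
set_option linter.style.haveILetI false

namespace Cfsg.Agent.Lib.Helper49_FrobCyc

open Subgroup
open scoped commutatorElement

variable {X : Type*} [Group X]

/-! ### the power map in class two -/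

/-- `y ^ n * x = w ^ n * x * y ^ n` where `w = [y, x]` commutes with `x` and `y` -/
theorem pow_mul_comm_class_two {x y : X} (_hwx : Commute ⁅y, x⁆ x) (hwy : Commute ⁅y, x⁆ y) (n : ℕ) :
    y ^ n * x = ⁅y, x⁆ ^ n * x * y ^ n := by
  induction n with
  | zero => simp
  | succ n ih =>
    have h1 : y * x = ⁅y, x⁆ * x * y := by rw [commutatorElement_def]; group
    have hwn : Commute (⁅y, x⁆ ^ n) y := hwy.pow_left n
    calc y ^ (n + 1) * x = y * (y ^ n * x) := by rw [pow_succ']; group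
      _ = y * (⁅y, x⁆ ^ n * x * y ^ n) := by rw [ih]
      _ = (y * ⁅y, x⁆ ^ n) * x * y ^ n := by group
      _ = (⁅y, x⁆ ^ n * y) * x * y ^ n := by rw [hwn.eq]
      _ = ⁅y, x⁆ ^ n * (y * x) * y ^ n := by group
      _ = ⁅y, x⁆ ^ n * (⁅y, x⁆ * x * y) * y ^ n := by rw [← h1]
      _ = ⁅y, x⁆ ^ (n + 1) * x * y ^ (n + 1) := by rw [pow_succ, pow_succ']; group

/-- `(x y) ^ n = x ^ n y ^ n w ^ (n choose 2)` where `w = [y, x]` commutes with `x` and `y` -/
theorem mul_pow_class_two {x y : X} (hwx : Commute ⁅y, x⁆ x) (hwy : Commute ⁅y, x⁆ y) (n : ℕ) :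
    (x * y) ^ n = x ^ n * y ^ n * ⁅y, x⁆ ^ (n.choose 2) := by
  induction n with
  | zero => simp
  | succ n ih =>
    have h2 : (n + 1).choose 2 = n + n.choose 2 := by
      rw [Nat.choose_succ_succ, Nat.choose_one_right]
    have hc1 : Commute (⁅y, x⁆ ^ (n.choose 2)) x := hwx.pow_left _
    have hc2 : Commute (⁅y, x⁆ ^ n) x := hwx.pow_left _
    have hc3 : Commute (⁅y, x⁆ ^ n) (y ^ n) := (hwy.pow_left n).pow_right n
    have hc4 : Commute (⁅y, x⁆ ^ n) (y ^ (n + 1)) := (hwy.pow_left n).pow_right _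
    have hc5 : Commute (⁅y, x⁆ ^ (n.choose 2)) y := hwy.pow_left _
    calc (x * y) ^ (n + 1) = (x * y) ^ n * (x * y) := pow_succ _ _
      _ = x ^ n * y ^ n * ⁅y, x⁆ ^ (n.choose 2) * (x * y) := by rw [ih]
      _ = x ^ n * y ^ n * (⁅y, x⁆ ^ (n.choose 2) * x) * y := by group
      _ = x ^ n * y ^ n * (x * ⁅y, x⁆ ^ (n.choose 2)) * y := by rw [hc1.eq]
      _ = x ^ n * (y ^ n * x) * (⁅y, x⁆ ^ (n.choose 2) * y) := by group
      _ = x ^ n * (⁅y, x⁆ ^ n * x * y ^ n) * (y * ⁅y, x⁆ ^ (n.choose 2)) := by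
          rw [pow_mul_comm_class_two hwx hwy n, hc5.eq]
      _ = x ^ n * (x * ⁅y, x⁆ ^ n * y ^ n) * (y * ⁅y, x⁆ ^ (n.choose 2)) := by rw [hc2.eq]
      _ = x ^ n * x * (⁅y, x⁆ ^ n * (y ^ n * y)) * ⁅y, x⁆ ^ (n.choose 2) := by group
      _ = x ^ n * x * (⁅y, x⁆ ^ n * y ^ (n + 1)) * ⁅y, x⁆ ^ (n.choose 2) := by rw [← pow_succ y n]
      _ = x ^ n * x * (y ^ (n + 1) * ⁅y, x⁆ ^ n) * ⁅y, x⁆ ^ (n.choose 2) := by rw [hc4.eq]
      _ = x ^ (n + 1) * y ^ (n + 1) * (⁅y, x⁆ ^ n * ⁅y, x⁆ ^ (n.choose 2)) := by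
          rw [pow_succ x n]; group
      _ = x ^ (n + 1) * y ^ (n + 1) * ⁅y, x⁆ ^ ((n + 1).choose 2) := by rw [← pow_add, h2]

/-- in class two, `[y, x] ^ n = 1` as soon as `y ^ n` commutes with `x` -/
theorem commutator_pow_eq_one_class_two {x y : X} (hwx : Commute ⁅y, x⁆ x) (hwy : Commute ⁅y, x⁆ y)
    {n : ℕ} (hyn : Commute (y ^ n) x) : ⁅y, x⁆ ^ n = 1 := by
  have h := pow_mul_comm_class_two hwx hwy n
  rw [hyn.eq] at h
  have h2 : ⁅y, x⁆ ^ n * (x * y ^ n) = 1 * (x * y ^ n) := by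
    rw [one_mul, ← mul_assoc]; exact h.symm
  exact mul_right_cancel h2

/-- the `l`-th power map is multiplicative on two elements whose commutator is central of exponent
`l`, for `l` an odd prime -/
theorem mul_pow_prime_class_two {l : ℕ} (hl : l.Prime) (hl2 : l ≠ 2) {x y : X}
    (hwx : Commute ⁅y, x⁆ x) (hwy : Commute ⁅y, x⁆ y) (hyl : Commute (y ^ l) x) :
    (x * y) ^ l = x ^ l * y ^ l := by
  rw [mul_pow_class_two hwx hwy l]
  have hw := commutator_pow_eq_one_class_two hwx hwy hyl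
  have h2 : 2 < l := lt_of_le_of_ne hl.two_le (Ne.symm hl2)
  obtain ⟨k, hk⟩ := hl.dvd_choose_self (k := 2) (by norm_num) h2
  rw [hk, pow_mul, hw, one_pow, mul_one]


/-! ### small lemmas -/

/-- a cyclic group of exponent dividing `l` has order dividing `l` -/
theorem card_dvd_of_isCyclic_of_pow_eq_one {H : Subgroup X} (hc : IsCyclic ↥H) {l : ℕ}
    (hexp : ∀ x ∈ H, x ^ l = 1) : Nat.card ↥H ∣ l := by
  obtain ⟨g, hg⟩ := hc.exists_generator
  rw [← orderOf_eq_card_of_forall_mem_zpowers hg]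
  apply orderOf_dvd_of_pow_eq_one
  apply Subtype.ext
  rw [Subgroup.coe_pow]
  exact hexp g.1 g.2

/-- a subgroup of prime order is generated by each of its nonidentity elements -/
theorem zpowers_eq_of_card_prime {p : ℕ} (hp : p.Prime) {P : Subgroup X} (hP : Nat.card ↥P = p) {e : X}
    (he : e ∈ P) (he1 : e ≠ 1) : zpowers e = P := by
  have hfin : Finite ↥P := Nat.finite_of_card_ne_zero (by rw [hP]; exact hp.ne_zero)
  have hle : zpowers e ≤ P := zpowers_le.mpr he
  apply Subgroup.eq_of_le_of_card_ge hle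
  have hd : Nat.card ↥(zpowers e) ∣ p := hP ▸ Subgroup.card_dvd_of_le hle
  rcases (Nat.dvd_prime hp).mp hd with h | h
  · exfalso
    rw [Nat.card_zpowers, orderOf_eq_one_iff] at h
    exact he1 h
  · rw [hP, h]

/-- a nontrivial `l`-group has a proper subgroup containing all commutators and all `l`-th powers -/
theorem exists_proper_of_isPGroup [Finite X] {l : ℕ} [hl : Fact l.Prime] {D : Subgroup X}
    (hD : IsPGroup l ↥D) (hD1 : D ≠ ⊥) :
    ∃ D₃ : Subgroup X, D₃ ≤ D ∧ D₃ ≠ D ∧ (∀ a ∈ D, ∀ b ∈ D, ⁅a, b⁆ ∈ D₃) ∧ ∀ x ∈ D, x ^ l ∈ D₃ := by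
  have hlp : l.Prime := hl.out
  obtain ⟨n, hn⟩ := IsPGroup.iff_card.mp hD
  have hn0 : n ≠ 0 := by
    rintro rfl
    rw [pow_zero] at hn
    exact hD1 (Subgroup.card_eq_one.mp hn)
  obtain ⟨k, rfl⟩ := Nat.exists_eq_succ_of_ne_zero hn0
  obtain ⟨K, hK⟩ := Sylow.exists_subgroup_card_pow_prime l (G := ↥D) (n := k)
    (by rw [hn]; exact pow_dvd_pow l (Nat.le_succ k))
  have hidx : K.index = l := by
    have h1 := K.index_mul_card
    rw [hK, hn, pow_succ] at h1
    have hpos : 0 < l ^ k := pow_pos hlp.pos k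
    have : K.index * l ^ k = l * l ^ k := by rw [h1, mul_comm]
    exact Nat.eq_of_mul_eq_mul_right hpos this
  have hKn : K.Normal := by
    apply Subgroup.normal_of_index_eq_minFac_card
    rw [hidx, hn, hlp.pow_minFac (Nat.succ_ne_zero k)]
  have hcardq : Nat.card (↥D ⧸ K) = l := by rw [← Subgroup.index_eq_card, hidx]
  have : IsCyclic (↥D ⧸ K) := isCyclic_of_prime_card hcardq
  refine ⟨K.map D.subtype, Subgroup.map_subtype_le K, ?_, ?_, ?_⟩
  · intro h
    have h1 : Nat.card ↥(K.map D.subtype) = l ^ k := by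
      rw [Subgroup.card_map_of_injective D.subtype_injective, hK]
    rw [h, hn, pow_succ] at h1
    have hpos : 0 < l ^ k := pow_pos hlp.pos k
    have : l ^ k * l = l ^ k * 1 := by rw [h1, mul_one]
    have := Nat.eq_of_mul_eq_mul_left hpos this
    exact hlp.one_lt.ne' this
  · intro a ha b hb
    have h : ⁅(⟨a, ha⟩ : ↥D), ⟨b, hb⟩⁆ ∈ K := by
      rw [← QuotientGroup.eq_one_iff, ← QuotientGroup.mk'_apply, map_commutatorElement,
        commutatorElement_eq_one_iff_commute]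
      letI := IsCyclic.commGroup (α := ↥D ⧸ K)
      exact Commute.all _ _
    exact ⟨_, h, rfl⟩
  · intro x hx
    have h : (⟨x, hx⟩ : ↥D) ^ l ∈ K := by
      rw [← QuotientGroup.eq_one_iff, QuotientGroup.mk_pow]
      have := pow_card_eq_one' (G := ↥D ⧸ K) (x := ((⟨x, hx⟩ : ↥D) : ↥D ⧸ K))
      rwa [hcardq] at this
    exact ⟨_, h, rfl⟩


/-! ### the main lemma -/

/-- **Frobenius action with cyclic fixed points.**  `P` of prime order `p` normalizes `Q` with
`C_Q(P) = 1`; `Q` and `P` normalize the `l`-group `L` (`l` odd, prime to `|Q P|`); `C_L(P)` is cyclic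
and `Q` does not centralize `L`.  Then `C_L(Q) ∩ C_L(P) = 1`. -/
theorem inf_centralizer_eq_bot [Finite X] {p l : ℕ} [hp : Fact p.Prime] [hl : Fact l.Prime]
    (hl2 : l ≠ 2) {Q P L : Subgroup X} (hP : Nat.card ↥P = p)
    (hPQ : P ≤ normalizer (Q : Set X)) (hfix : Q ⊓ centralizer (P : Set X) = ⊥)
    (hL : IsPGroup l ↥L) (hQL : Q ≤ normalizer (L : Set X)) (hPL : P ≤ normalizer (L : Set X))
    (hcop : (Nat.card ↥(Q ⊔ P)).Coprime (Nat.card ↥L))
    (hcyc : IsCyclic ↥(L ⊓ centralizer (P : Set X)))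
    (hLQ : ¬ L ≤ centralizer (Q : Set X)) :
    L ⊓ centralizer (Q : Set X) ⊓ centralizer (P : Set X) = ⊥ := by
  have hpp : p.Prime := hp.out
  have hlp : l.Prime := hl.out
  by_contra hY
  -- a fixed point of order `l`
  obtain ⟨c, hcY, hcl⟩ : ∃ c ∈ L ⊓ centralizer (Q : Set X) ⊓ centralizer (P : Set X),
      orderOf c = l := by
    have hYp : IsPGroup l ↥(L ⊓ centralizer (Q : Set X) ⊓ centralizer (P : Set X)) :=
      hL.to_le (inf_le_left.trans inf_le_left)
    obtain ⟨n, hn⟩ := IsPGroup.iff_card.mp hYp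
    have hn0 : n ≠ 0 := by
      rintro rfl
      rw [pow_zero] at hn
      exact hY (Subgroup.card_eq_one.mp hn)
    have hdvd : l ∣ Nat.card ↥(L ⊓ centralizer (Q : Set X) ⊓ centralizer (P : Set X)) := by
      rw [hn]; exact dvd_pow_self l hn0
    obtain ⟨c, hc⟩ := exists_prime_orderOf_dvd_card' l hdvd
    refine ⟨c.1, c.2, ?_⟩
    rw [← hc, Subgroup.orderOf_coe]
  have hcL : c ∈ L := hcY.1.1
  have hcQ : c ∈ centralizer (Q : Set X) := hcY.1.2
  have hcP : c ∈ centralizer (P : Set X) := hcY.2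
  have hc1 : c ≠ 1 := by
    rintro rfl
    rw [orderOf_one] at hcl
    exact hlp.one_lt.ne hcl
  -- the Frobenius hypotheses
  have hP1 : P ≠ ⊥ := by
    rintro rfl
    rw [Subgroup.card_bot] at hP
    exact hpp.one_lt.ne hP
  have hUn : ∀ e ∈ P, ∀ u ∈ Q, e * u * e⁻¹ ∈ Q := fun e he u hu =>
    (mem_normalizer_iff.mp (hPQ he) u).mp hu
  have hfpf : ∀ e ∈ P, e ≠ 1 → ∀ u ∈ Q, e * u = u * e → u = 1 := by
    intro e he he1 u hu heu
    have hz := zpowers_eq_of_card_prime hpp hP he he1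
    have : u ∈ Q ⊓ centralizer (P : Set X) := by
      refine ⟨hu, ?_⟩
      show u ∈ centralizer (P : Set X)
      rw [mem_centralizer_iff]
      intro y hy
      rw [SetLike.mem_coe, ← hz] at hy
      obtain ⟨k, rfl⟩ := mem_zpowers_iff.mp hy
      exact ((Commute.zpow_left (show Commute e u from heu) k).eq)
    rw [hfix, mem_bot] at this
    exact this
  -- a minimal invariant subgroup not centralized by `Q`
  let S : Set (Subgroup X) := {D | D ≤ L ∧ Q ≤ normalizer (D : Set X) ∧ P ≤ normalizer (D : Set X) ∧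
    ¬ D ≤ centralizer (Q : Set X)}
  have hSne : S.Nonempty := ⟨L, le_rfl, hQL, hPL, hLQ⟩
  obtain ⟨D, hDS, hDmin⟩ := (wellFounded_lt (α := Subgroup X)).has_min S hSne
  obtain ⟨hDL, hQD, hPD, hDQ⟩ := hDS
  have hDp : IsPGroup l ↥D := hL.to_le hDL
  have hD1 : D ≠ ⊥ := by
    rintro rfl
    exact hDQ bot_le
  have hmin : ∀ D₀ : Subgroup X, D₀ ≤ D → D₀ ≠ D → Q ≤ normalizer (D₀ : Set X) →
      P ≤ normalizer (D₀ : Set X) → D₀ ≤ centralizer (Q : Set X) := by
    intro D₀ h1 h2 h3 h4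
    by_contra h5
    exact hDmin D₀ ⟨h1.trans hDL, h3, h4, h5⟩ (lt_of_le_of_ne h1 h2)
  have hcopQD : (Nat.card ↥Q).Coprime (Nat.card ↥D) :=
    Nat.Coprime.coprime_dvd_left (Subgroup.card_dvd_of_le le_sup_left)
      (Nat.Coprime.coprime_dvd_right (Subgroup.card_dvd_of_le hDL) hcop)
  have hcopD : (Nat.card ↥(Q ⊔ P)).Coprime (Nat.card ↥D) :=
    Nat.Coprime.coprime_dvd_right (Subgroup.card_dvd_of_le hDL) hcop
  haveI : Group.IsNilpotent ↥D := hDp.isNilpotent
  have hDsolv : Group.IsSolvable ↥D := inferInstance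
  -- `[D, Q] = D`
  have hDQD : ⁅D, Q⁆ = D := by
    have h1 : ⁅D, Q⁆ ≤ D :=
      Cfsg.Agent.Lib.Helper24_CoprimeAction.commutator_le_of_le_normalizer D Q hQD
    by_contra hne
    have h2 : ⁅D, Q⁆ ≤ centralizer (Q : Set X) := by
      apply hmin _ h1 hne
      · intro g hg
        exact Cfsg.Agent.Lib.Helper24_CoprimeAction.mem_normalizer_commutator D Q (hQD hg)
          (le_normalizer hg)
      · intro g hg
        exact Cfsg.Agent.Lib.Helper24_CoprimeAction.mem_normalizer_commutator D Q (hPD hg)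
          (hPQ hg)
    apply hDQ
    intro k hk
    obtain ⟨d, hd, c', hc', rfl⟩ := Cfsg.Agent.Lib.Helper24_CoprimeAction.coprime_decomp Q D hQD
      hcopQD (Or.inr hDsolv) hk
    exact Subgroup.mul_mem _ (h2 hd) hc'.2
  -- the characteristic subgroup generated by commutators and `l`-th powers
  let T : Set X := {z | (∃ a ∈ D, ∃ b ∈ D, z = ⁅a, b⁆) ∨ ∃ x ∈ D, z = x ^ l}
  have hTD : T ⊆ D := by
    rintro z (⟨a, ha, b, hb, rfl⟩ | ⟨x, hx, rfl⟩)
    · exact Subgroup.commutator_mem_commutator ha hb |> fun h =>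
        (Subgroup.commutator_le_self D) h
    · exact D.pow_mem hx l
  have hTconj : ∀ g ∈ normalizer (D : Set X), ∀ z ∈ T, g * z * g⁻¹ ∈ T := by
    intro g hg z hz
    have hgD : ∀ a ∈ D, g * a * g⁻¹ ∈ D := fun a ha => (mem_normalizer_iff.mp hg a).mp ha
    rcases hz with ⟨a, ha, b, hb, rfl⟩ | ⟨x, hx, rfl⟩
    · left
      refine ⟨g * a * g⁻¹, hgD a ha, g * b * g⁻¹, hgD b hb, ?_⟩
      simp only [commutatorElement_def]; group
    · right
      refine ⟨g * x * g⁻¹, hgD x hx, ?_⟩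
      rw [conj_pow]
  have hD₁D : closure T ≤ D := (closure_le D).mpr hTD
  have hD₁norm : normalizer (D : Set X) ≤ normalizer ((closure T : Subgroup X) : Set X) := by
    apply Cfsg.Agent.Lib.Helper52_FrobFormula.le_normalizer_of_forall
    intro g hg z hz
    have hmap : (closure T).map (MulAut.conj g).toMonoidHom ≤ closure T := by
      rw [MonoidHom.map_closure, closure_le]
      rintro _ ⟨z, hz, rfl⟩
      apply Subgroup.subset_closure
      have := hTconj g hg z hz
      simpa using this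
    have := hmap ⟨z, hz, rfl⟩
    simpa using this
  obtain ⟨D₃, hD₃D, hD₃ne, hD₃c, hD₃p⟩ := exists_proper_of_isPGroup hDp hD1
  have hD₁ne : closure T ≠ D := by
    intro h
    apply hD₃ne
    apply le_antisymm hD₃D
    rw [← h, closure_le]
    rintro z (⟨a, ha, b, hb, rfl⟩ | ⟨x, hx, rfl⟩)
    · exact hD₃c a ha b hb
    · exact hD₃p x hx
  have hD₁Q : closure T ≤ centralizer (Q : Set X) :=
    hmin _ hD₁D hD₁ne (hQD.trans hD₁norm) (hPD.trans hD₁norm)
  -- `closure T` is central in `D`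
  have hD₁Z : ∀ t ∈ closure T, ∀ d ∈ D, Commute t d := by
    have h1 : ⁅⁅D, closure T⁆, Q⁆ = ⊥ := by
      rw [commutator_eq_bot_iff_le_centralizer]
      refine le_trans ?_ hD₁Q
      refine (commutator_mono le_rfl hD₁D).trans ?_
      rw [commutator_le]
      intro a ha b hb
      exact Subgroup.subset_closure (Or.inl ⟨a, ha, b, hb, rfl⟩)
    have h2 : ⁅⁅closure T, Q⁆, D⁆ = ⊥ := by
      rw [commutator_eq_bot_iff_le_centralizer.mpr hD₁Q, commutator_bot_left]
    have h3 := commutator_commutator_eq_bot_of_rotate h1 h2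
    rw [commutator_comm Q D, hDQD, commutator_eq_bot_iff_le_centralizer] at h3
    intro t ht d hd
    exact (mem_centralizer_iff.mp (h3 hd) t ht)
  -- the `l`-th power map is multiplicative on `D`
  have hmulpow : ∀ x ∈ D, ∀ y ∈ D, (x * y) ^ l = x ^ l * y ^ l := by
    intro x hx y hy
    have hw : ⁅y, x⁆ ∈ closure T := Subgroup.subset_closure (Or.inl ⟨y, hy, x, hx, rfl⟩)
    have hyl : y ^ l ∈ closure T := Subgroup.subset_closure (Or.inr ⟨y, hy, rfl⟩)
    exact mul_pow_prime_class_two hlp hl2 (hD₁Z _ hw x hx) (hD₁Z _ hw y hy) (hD₁Z _ hyl x hx)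
  -- `D` has exponent `l`
  have hexp : ∀ x ∈ D, x ^ l = 1 := by
    let Ω : Subgroup X :=
      { carrier := {z | z ∈ D ∧ z ^ l = 1}
        one_mem' := ⟨D.one_mem, one_pow l⟩
        mul_mem' := by
          rintro a b ⟨ha, ha'⟩ ⟨hb, hb'⟩
          exact ⟨D.mul_mem ha hb, by rw [hmulpow a ha b hb, ha', hb', one_mul]⟩
        inv_mem' := by
          rintro a ⟨ha, ha'⟩
          exact ⟨D.inv_mem ha, by rw [inv_pow, ha', inv_one]⟩ }
    have hΩ : ⁅D, Q⁆ ≤ Ω := by
      rw [commutator_le]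
      intro x hx g hg
      have hx' : g * x⁻¹ * g⁻¹ ∈ D := (mem_normalizer_iff.mp (hQD hg) _).mp (D.inv_mem hx)
      have he : ⁅x, g⁆ = x * (g * x⁻¹ * g⁻¹) := by rw [commutatorElement_def]; group
      refine ⟨by rw [he]; exact D.mul_mem hx hx', ?_⟩
      rw [he, hmulpow x hx _ hx', conj_pow, inv_pow]
      have hxl : x ^ l ∈ centralizer (Q : Set X) :=
        hD₁Q (subset_closure (Or.inr ⟨x, hx, rfl⟩))
      have hcomm : g * (x ^ l)⁻¹ = (x ^ l)⁻¹ * g := by
        have := mem_centralizer_iff.mp (Subgroup.inv_mem _ hxl) g hg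
        exact this
      rw [hcomm]; group
    intro x hx
    have : x ∈ Ω := hΩ (by rw [hDQD]; exact hx)
    exact this.2
  -- Wielandt's formula
  have hform := Cfsg.Agent.Lib.Helper52_FrobFormula.frobenius_formula Q P D hP1 hUn hfpf
    (sup_le hQD hPD) hDsolv hcopD
  have hlt : Nat.card ↥(D ⊓ centralizer (Q : Set X)) < Nat.card ↥D := by
    by_contra h
    push Not at h
    have := Subgroup.eq_of_le_of_card_ge (inf_le_left : D ⊓ centralizer (Q : Set X) ≤ D) h
    exact hDQ (this ▸ inf_le_right)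
  have hab : Nat.card ↥(D ⊓ centralizer ((Q ⊔ P : Subgroup X) : Set X)) <
      Nat.card ↥(D ⊓ centralizer (P : Set X)) := by
    have hbpos : 0 < Nat.card ↥(D ⊓ centralizer (P : Set X)) ^ Nat.card ↥P :=
      pow_pos Nat.card_pos _
    have h1 : Nat.card ↥(D ⊓ centralizer ((Q ⊔ P : Subgroup X) : Set X)) ^ Nat.card ↥P *
        Nat.card ↥D < Nat.card ↥(D ⊓ centralizer (P : Set X)) ^ Nat.card ↥P * Nat.card ↥D := by
      rw [hform]
      exact Nat.mul_lt_mul_of_pos_left hlt hbpos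
    have h2 := Nat.lt_of_mul_lt_mul_right h1
    exact lt_of_pow_lt_pow_left₀ _ (Nat.zero_le _) h2
  -- `C_D(P)` is cyclic of exponent `l`
  have hcycD : IsCyclic ↥(D ⊓ centralizer (P : Set X)) := by
    haveI := hcyc
    exact isCyclic_of_injective
      (Subgroup.inclusion (inf_le_inf_right _ hDL : D ⊓ centralizer (P : Set X) ≤ L ⊓ centralizer (P : Set X)))
      (Subgroup.inclusion_injective _)
  -- the subgroup of elements of order dividing `l` of the cyclic group `C_L(P)`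
  have hcomm : ∀ a ∈ L ⊓ centralizer (P : Set X), ∀ b ∈ L ⊓ centralizer (P : Set X), a * b = b * a := by
    intro a ha b hb
    letI := IsCyclic.commGroup (α := ↥(L ⊓ centralizer (P : Set X)))
    have := mul_comm (⟨a, ha⟩ : ↥(L ⊓ centralizer (P : Set X))) ⟨b, hb⟩
    exact congrArg Subtype.val this
  let Ω' : Subgroup X :=
    { carrier := {z | z ∈ L ⊓ centralizer (P : Set X) ∧ z ^ l = 1}
      one_mem' := ⟨Subgroup.one_mem _, one_pow l⟩
      mul_mem' := by
        rintro a b ⟨ha, ha'⟩ ⟨hb, hb'⟩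
        refine ⟨Subgroup.mul_mem _ ha hb, ?_⟩
        rw [(show Commute a b from hcomm a ha b hb).mul_pow, ha', hb', one_mul]
      inv_mem' := by
        rintro a ⟨ha, ha'⟩
        exact ⟨Subgroup.inv_mem _ ha, by rw [inv_pow, ha', inv_one]⟩ }
  have hΩ'le : Ω' ≤ L ⊓ centralizer (P : Set X) := fun z hz => hz.1
  have hΩ'cyc : IsCyclic ↥Ω' := by
    haveI := hcyc
    exact isCyclic_of_injective (Subgroup.inclusion hΩ'le) (Subgroup.inclusion_injective _)
  have hΩ'card : Nat.card ↥Ω' ∣ l :=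
    card_dvd_of_isCyclic_of_pow_eq_one hΩ'cyc (fun x hx => hx.2)
  have hcΩ : zpowers c ≤ Ω' := by
    rw [zpowers_le]
    exact ⟨⟨hcL, hcP⟩, by rw [← hcl]; exact pow_orderOf_eq_one c⟩
  have hzc : Nat.card ↥(zpowers c) = l := by rw [Nat.card_zpowers, hcl]
  have hΩ'eq : zpowers c = Ω' := by
    apply Subgroup.eq_of_le_of_card_ge hcΩ
    rw [hzc]
    exact Nat.le_of_dvd hlp.pos hΩ'card
  have hDPle : D ⊓ centralizer (P : Set X) ≤ D ⊓ centralizer ((Q ⊔ P : Subgroup X) : Set X) := by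
    intro z hz
    have hzΩ : z ∈ Ω' := ⟨⟨hDL hz.1, hz.2⟩, hexp z hz.1⟩
    rw [← hΩ'eq] at hzΩ
    obtain ⟨k, rfl⟩ := mem_zpowers_iff.mp hzΩ
    refine ⟨hz.1, ?_⟩
    have hcQP : c ∈ centralizer ((Q ⊔ P : Subgroup X) : Set X) := by
      have : Q ⊔ P ≤ centralizer ({c} : Set X) := by
        apply sup_le
        · intro g hg
          rw [mem_centralizer_iff]
          intro y hy
          rw [Set.mem_singleton_iff] at hy
          rw [hy]
          exact (mem_centralizer_iff.mp hcQ g hg).symm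
        · intro g hg
          rw [mem_centralizer_iff]
          intro y hy
          rw [Set.mem_singleton_iff] at hy
          rw [hy]
          exact (mem_centralizer_iff.mp hcP g hg).symm
      rw [mem_centralizer_iff]
      intro g hg
      have := mem_centralizer_iff.mp (this hg) c (Set.mem_singleton c)
      exact this.symm
    exact Subgroup.zpow_mem _ hcQP k
  have := Subgroup.card_le_of_le hDPle
  omega

end Cfsg.Agent.Lib.Helper49_FrobCyc
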